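import Cfsg.Agent.Lib.Helper28.S1692.Tree

set_option autoImplicit false
set_option maxRecDepth 100000
set_option linter.all false

namespace Cfsg.Agent.Helper28.S1692

open Cfsg.Agent.Helper28
open Cfsg.Spor.ON (Gen)

noncomputable section

abbrev lc_a_Cert_tree : Cert rels S Gen.a := Cert.tree
abbrev lc_a_rc_0_1 : Cert rels S Gen.a := rc_0_1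
abbrev lc_a_rc_1_0 : Cert rels S Gen.a := rc_1_0
abbrev lc_a_rc_1_2 : Cert rels S Gen.a := rc_1_2
abbrev lc_a_rc_1_4 : Cert rels S Gen.a := rc_1_4
abbrev lc_a_rc_21_0 : Cert rels S Gen.a := rc_21_0
abbrev lc_a_rc_22_0 : Cert rels S Gen.a := rc_22_0
abbrev lc_a_rc_2_0 : Cert rels S Gen.a := rc_2_0
abbrev lc_a_rc_2_2 : Cert rels S Gen.a := rc_2_2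
abbrev lc_a_rc_3_0 : Cert rels S Gen.a := rc_3_0
abbrev lc_a_rc_3_2 : Cert rels S Gen.a := rc_3_2
abbrev lc_a_rc_4_0 : Cert rels S Gen.a := rc_4_0
abbrev lc_a_rc_4_2 : Cert rels S Gen.a := rc_4_2
abbrev lc_a_rc_5_0 : Cert rels S Gen.a := rc_5_0
abbrev lc_a_rc_5_2 : Cert rels S Gen.a := rc_5_2
abbrev lc_a_sc_0_0 : Cert rels S Gen.a := sc_0_0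
def ce_a_0 : D2 → D3 → (Cert rels S Gen.a) := @D2.rec (fun _ => D3 → (Cert rels S Gen.a)) (@D3.rec (fun _ => (Cert rels S Gen.a)) lc_a_sc_0_0 lc_a_rc_21_0 lc_a_Cert_tree lc_a_rc_21_0 lc_a_rc_21_0 lc_a_rc_4_2 lc_a_rc_2_2 lc_a_rc_2_2 lc_a_rc_0_1 lc_a_rc_2_2 lc_a_rc_3_2 lc_a_rc_4_2 lc_a_Cert_tree lc_a_Cert_tree lc_a_rc_21_0 lc_a_rc_4_2 lc_a_Cert_tree lc_a_rc_4_2 lc_a_rc_21_0 lc_a_rc_3_2 lc_a_rc_3_2 lc_a_rc_5_2 lc_a_rc_3_2 lc_a_rc_3_2 lc_a_rc_2_2 lc_a_rc_3_2 lc_a_rc_4_2 lc_a_rc_0_1 lc_a_rc_21_0 lc_a_rc_0_1 lc_a_rc_3_2 lc_a_rc_4_2 lc_a_rc_2_2 lc_a_rc_2_2 lc_a_rc_2_2 lc_a_rc_4_2 lc_a_rc_3_2 lc_a_rc_21_0 lc_a_rc_3_2 lc_a_rc_5_2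 lc_a_rc_2_2 lc_a_rc_2_2 lc_a_rc_0_1 lc_a_rc_3_2 lc_a_rc_4_2 lc_a_rc_21_0 lc_a_rc_4_2 lc_a_rc_1_4 lc_a_rc_21_0 lc_a_rc_3_2 lc_a_rc_5_2 lc_a_rc_4_2 lc_a_rc_5_2 lc_a_rc_3_2 lc_a_rc_5_2 lc_a_rc_2_2 lc_a_rc_4_2 lc_a_rc_3_2 lc_a_rc_5_0 lc_a_rc_2_2 lc_a_rc_5_2 lc_a_Cert_tree) (@D3.rec (fun _ => (Cert rels S Gen.a)) lc_a_Cert_tree lc_a_rc_4_2 lc_a_Cert_tree lc_a_rc_4_2 lc_a_rc_1_2 lc_a_rc_3_2 lc_a_rc_4_2 lc_a_rc_2_2 lc_a_rc_4_2 lc_a_rc_3_2 lc_a_rc_21_0 lc_a_rc_3_2 lc_a_rc_5_2 lc_a_rc_3_2 lc_a_rc_1_4 lc_a_rc_3_2 lc_a_rc_3_2 lc_a_rc_4_2 lc_a_rc_21_0 lc_a_rc_2_2 lc_a_rc_2_2 lc_a_rc_4_2 lc_a_rc_21_0 lc_a_rc_3_2 lc_a_rc_3_2 lc_a_rc_5_2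 lc_a_rc_3_2 lc_a_rc_2_2 lc_a_rc_3_2 lc_a_rc_2_2 lc_a_rc_21_0 lc_a_rc_3_2 lc_a_rc_2_2 lc_a_rc_3_2 lc_a_rc_4_2 lc_a_rc_5_0 lc_a_rc_3_2 lc_a_rc_5_2 lc_a_rc_21_0 lc_a_rc_21_0 lc_a_rc_2_2 lc_a_rc_2_2 lc_a_rc_3_2 lc_a_rc_2_2 lc_a_rc_2_2 lc_a_rc_5_2 lc_a_rc_3_2 lc_a_rc_4_2 lc_a_rc_2_2 lc_a_rc_21_0 lc_a_rc_4_2 lc_a_rc_21_0 lc_a_rc_3_2 lc_a_rc_3_2 lc_a_rc_5_2 lc_a_rc_4_2 lc_a_rc_5_0 lc_a_rc_3_2 lc_a_rc_5_2 lc_a_rc_3_2 lc_a_rc_1_2 lc_a_rc_1_4) (@D3.rec (fun _ => (Cert rels S Gen.a)) lc_a_rc_3_2 lc_a_rc_5_0 lc_a_rc_2_2 lc_a_rc_5_2 lc_a_rc_2_2 lc_a_rc_5_2 lc_a_rc_21_0 lc_a_rc_5_2 lc_a_rc_4_2 lc_a_rc_5_2 lc_a_rc_2_2 lc_a_rc_5_2 lc_a_rc_4_2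 lc_a_rc_2_2 lc_a_rc_5_0 lc_a_Cert_tree lc_a_rc_22_0 lc_a_rc_22_0 lc_a_rc_4_2 lc_a_rc_1_4 lc_a_rc_3_2 lc_a_rc_4_2 lc_a_rc_22_0 lc_a_rc_0_1 lc_a_rc_0_1 lc_a_rc_3_2 lc_a_rc_3_2 lc_a_rc_3_0 lc_a_rc_4_2 lc_a_rc_5_2 lc_a_rc_0_1 lc_a_rc_3_2 lc_a_rc_4_2 lc_a_rc_5_2 lc_a_rc_3_2 lc_a_rc_4_2 lc_a_rc_2_2 lc_a_rc_4_2 lc_a_rc_3_2 lc_a_rc_21_0 lc_a_rc_3_2 lc_a_rc_5_2 lc_a_Cert_tree lc_a_rc_3_2 lc_a_rc_4_2 lc_a_rc_5_0 lc_a_rc_3_2 lc_a_rc_5_2 lc_a_rc_21_0 lc_a_rc_21_0 lc_a_rc_2_2 lc_a_rc_2_2 lc_a_rc_3_2 lc_a_rc_2_2 lc_a_rc_2_2 lc_a_rc_5_2 lc_a_rc_2_2 lc_a_rc_4_2 lc_a_rc_3_2 lc_a_rc_3_2 lc_a_rc_2_2 lc_a_rc_4_2) (@D3.rec (fun _ => (Cert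 rels S Gen.a)) lc_a_rc_4_2 lc_a_rc_4_2 lc_a_rc_2_2 lc_a_rc_4_2 lc_a_rc_3_2 lc_a_rc_21_0 lc_a_rc_21_0 lc_a_rc_4_2 lc_a_rc_1_2 lc_a_rc_21_0 lc_a_rc_4_2 lc_a_rc_4_2 lc_a_rc_4_2 lc_a_Cert_tree lc_a_rc_3_2 lc_a_rc_4_2 lc_a_rc_4_2 lc_a_rc_4_2 lc_a_rc_3_2 lc_a_rc_5_2 lc_a_rc_21_0 lc_a_rc_3_2 lc_a_rc_21_0 lc_a_rc_2_2 lc_a_rc_3_2 lc_a_rc_5_0 lc_a_rc_2_2 lc_a_rc_5_2 lc_a_rc_0_1 lc_a_Cert_tree lc_a_rc_3_2 lc_a_rc_3_2 lc_a_rc_3_2 lc_a_rc_4_2 lc_a_rc_1_2 lc_a_rc_4_2 lc_a_rc_4_2 lc_a_rc_2_2 lc_a_rc_4_2 lc_a_rc_5_0 lc_a_rc_3_2 lc_a_rc_5_2 lc_a_rc_5_0 lc_a_rc_2_2 lc_a_rc_21_0 lc_a_rc_2_0 lc_a_Cert_tree lc_a_rc_2_2 lc_a_rc_3_0 lc_a_rc_5_0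 lc_a_rc_4_2 lc_a_rc_21_0 lc_a_rc_21_0 lc_a_rc_21_0 lc_a_rc_4_2 lc_a_rc_2_2 lc_a_rc_3_2 lc_a_rc_4_2 lc_a_rc_2_2 lc_a_rc_5_0 lc_a_Cert_tree lc_a_rc_22_0) (@D3.rec (fun _ => (Cert rels S Gen.a)) lc_a_rc_5_2 lc_a_rc_4_2 lc_a_rc_4_2 lc_a_rc_3_2 lc_a_rc_5_2 lc_a_rc_4_2 lc_a_rc_4_2 lc_a_rc_5_0 lc_a_rc_3_2 lc_a_rc_5_2 lc_a_rc_21_0 lc_a_rc_2_2 lc_a_rc_3_2 lc_a_rc_5_0 lc_a_rc_2_2 lc_a_rc_5_2 lc_a_rc_5_0 lc_a_rc_2_2 lc_a_rc_5_2 lc_a_rc_2_2 lc_a_rc_1_4 lc_a_rc_3_2 lc_a_rc_4_2 lc_a_rc_2_2 lc_a_rc_3_2 lc_a_rc_4_2 lc_a_Cert_tree lc_a_rc_3_2 lc_a_rc_5_2 lc_a_rc_4_2 lc_a_Cert_tree lc_a_rc_3_2 lc_a_rc_5_2 lc_a_rc_4_2 lc_a_rc_2_0 lc_a_Cert_tree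 lc_a_rc_21_0 lc_a_rc_22_0 lc_a_rc_3_2 lc_a_rc_2_2 lc_a_rc_3_2 lc_a_Cert_tree lc_a_rc_21_0 lc_a_rc_5_2 lc_a_rc_2_2 lc_a_Cert_tree lc_a_rc_3_2 lc_a_Cert_tree lc_a_rc_5_0 lc_a_rc_4_2 lc_a_rc_4_2 lc_a_Cert_tree lc_a_rc_3_2 lc_a_Cert_tree lc_a_rc_2_2 lc_a_rc_4_2 lc_a_Cert_tree lc_a_rc_0_1 lc_a_rc_0_1 lc_a_rc_3_2 lc_a_rc_21_0 lc_a_rc_21_0) (@D3.rec (fun _ => (Cert rels S Gen.a)) lc_a_rc_3_2 lc_a_rc_2_2 lc_a_rc_4_2 lc_a_rc_22_0 lc_a_rc_4_2 lc_a_rc_3_2 lc_a_rc_4_2 lc_a_rc_2_2 lc_a_rc_4_2 lc_a_rc_3_2 lc_a_rc_22_0 lc_a_rc_4_2 lc_a_rc_2_2 lc_a_rc_4_2 lc_a_rc_3_2 lc_a_rc_2_2 lc_a_rc_2_2 lc_a_rc_2_2 lc_a_rc_4_2 lc_a_rc_0_1 lc_a_rc_22_0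 lc_a_rc_4_2 lc_a_rc_2_2 lc_a_rc_4_2 lc_a_Cert_tree lc_a_rc_5_2 lc_a_rc_21_0 lc_a_rc_4_2 lc_a_rc_2_2 lc_a_rc_3_2 lc_a_rc_1_0 lc_a_rc_2_2 lc_a_rc_4_2 lc_a_Cert_tree lc_a_rc_5_2 lc_a_rc_1_4 lc_a_rc_4_2 lc_a_rc_2_2 lc_a_rc_4_2 lc_a_rc_4_2 lc_a_rc_2_2 lc_a_rc_4_2 lc_a_rc_2_2 lc_a_rc_0_1 lc_a_rc_3_2 lc_a_rc_1_2 lc_a_Cert_tree lc_a_rc_4_2 lc_a_rc_4_2 lc_a_rc_4_2 lc_a_rc_3_2 lc_a_rc_5_2 lc_a_rc_1_4 lc_a_rc_2_2 lc_a_rc_21_0 lc_a_rc_3_2 lc_a_rc_5_0 lc_a_rc_2_2 lc_a_rc_5_2 lc_a_rc_3_2 lc_a_rc_0_1 lc_a_rc_4_2) (@D3.rec (fun _ => (Cert rels S Gen.a)) lc_a_rc_4_2 lc_a_rc_5_0 lc_a_rc_3_2 lc_a_rc_5_2 lc_a_rc_5_0 lc_a_rc_2_2 lc_a_rc_2_2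 lc_a_rc_21_0 lc_a_rc_4_2 lc_a_rc_5_0 lc_a_rc_21_0 lc_a_rc_21_0 lc_a_rc_4_2 lc_a_rc_2_2 lc_a_rc_3_2 lc_a_rc_4_2 lc_a_rc_2_2 lc_a_rc_5_0 lc_a_Cert_tree lc_a_rc_22_0 lc_a_rc_5_2 lc_a_rc_4_2 lc_a_Cert_tree lc_a_rc_4_2 lc_a_rc_21_0 lc_a_rc_4_2 lc_a_rc_5_2 lc_a_rc_2_0 lc_a_rc_4_2 lc_a_rc_21_0 lc_a_rc_4_2 lc_a_rc_22_0 lc_a_rc_4_2 lc_a_rc_2_2 lc_a_rc_4_2 lc_a_rc_5_2 lc_a_rc_4_2 lc_a_rc_5_2 lc_a_rc_5_2 lc_a_Cert_tree lc_a_rc_4_2 lc_a_rc_2_2 lc_a_rc_21_0 lc_a_rc_3_2 lc_a_rc_5_2 lc_a_rc_4_2 lc_a_rc_5_0 lc_a_rc_2_2 lc_a_rc_3_2 lc_a_Cert_tree lc_a_rc_4_2 lc_a_rc_3_2 lc_a_rc_5_0 lc_a_rc_3_2 lc_a_rc_5_2 lc_a_rc_4_2 lc_a_rc_21_0 lc_a_rc_4_2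 lc_a_rc_3_2 lc_a_rc_21_0 lc_a_rc_3_2 lc_a_rc_5_2) (@D3.rec (fun _ => (Cert rels S Gen.a)) lc_a_Cert_tree lc_a_rc_5_2 lc_a_Cert_tree lc_a_rc_5_2 lc_a_rc_3_0 lc_a_rc_21_0 lc_a_rc_0_1 lc_a_rc_3_2 lc_a_rc_4_2 lc_a_rc_4_2 lc_a_rc_4_2 lc_a_rc_21_0 lc_a_rc_3_2 lc_a_rc_5_2 lc_a_rc_21_0 lc_a_rc_3_2 lc_a_rc_22_0 lc_a_rc_4_2 lc_a_rc_4_2 lc_a_rc_3_2 lc_a_rc_2_2 lc_a_rc_3_2 lc_a_rc_3_2 lc_a_rc_2_2 lc_a_rc_5_2 lc_a_rc_3_0 lc_a_rc_21_0 lc_a_rc_4_2 lc_a_rc_5_0 lc_a_rc_1_4 lc_a_rc_21_0 lc_a_rc_3_2 lc_a_rc_4_2 lc_a_rc_2_2 lc_a_rc_3_2 lc_a_rc_5_0 lc_a_rc_4_2 lc_a_rc_4_2 lc_a_rc_5_0 lc_a_Cert_tree lc_a_rc_22_0 lc_a_rc_22_0 lc_a_rc_4_2 lc_a_rc_4_2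 lc_a_rc_22_0 lc_a_rc_3_2 lc_a_rc_0_1 lc_a_rc_4_2 lc_a_rc_5_0 lc_a_rc_3_2 lc_a_rc_2_2 lc_a_rc_4_2 lc_a_rc_21_0 lc_a_rc_4_2 lc_a_rc_0_1 lc_a_Cert_tree lc_a_rc_22_0 lc_a_rc_2_2 lc_a_rc_2_2 lc_a_rc_3_2 lc_a_rc_5_2 lc_a_rc_2_2) (@D3.rec (fun _ => (Cert rels S Gen.a)) lc_a_rc_21_0 lc_a_Cert_tree lc_a_rc_5_0 lc_a_rc_3_2 lc_a_rc_21_0 lc_a_Cert_tree lc_a_rc_22_0 lc_a_rc_2_2 lc_a_rc_4_2 lc_a_rc_1_4 lc_a_rc_3_2 lc_a_rc_5_0 lc_a_rc_0_1 lc_a_rc_3_2 lc_a_rc_3_2 lc_a_rc_21_0 lc_a_rc_4_2 lc_a_rc_2_2 lc_a_rc_4_2 lc_a_rc_2_0 lc_a_rc_2_2 lc_a_Cert_tree lc_a_rc_21_0 lc_a_rc_4_2 lc_a_rc_0_1 lc_a_rc_21_0 lc_a_rc_5_2 lc_a_rc_21_0 lc_a_rc_3_2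 lc_a_rc_4_2 lc_a_Cert_tree lc_a_rc_21_0 lc_a_rc_4_2 lc_a_rc_5_2 lc_a_rc_2_0 lc_a_Cert_tree lc_a_rc_5_0 lc_a_Cert_tree lc_a_rc_2_2 lc_a_rc_4_2 lc_a_rc_21_0 lc_a_rc_2_2 lc_a_Cert_tree lc_a_rc_3_2 lc_a_Cert_tree lc_a_rc_5_0 lc_a_rc_2_2 lc_a_rc_4_2 lc_a_Cert_tree lc_a_rc_0_1 lc_a_rc_0_1 lc_a_rc_3_2 lc_a_rc_21_0 lc_a_rc_0_1 lc_a_rc_21_0 lc_a_rc_22_0 lc_a_rc_4_2 lc_a_rc_22_0 lc_a_rc_4_2 lc_a_rc_3_2 lc_a_rc_5_2 lc_a_rc_2_2) (@D3.rec (fun _ => (Cert rels S Gen.a)) lc_a_rc_5_2 lc_a_rc_0_1 lc_a_rc_3_0 lc_a_rc_21_0 lc_a_rc_4_2 lc_a_rc_3_2 lc_a_rc_4_2 lc_a_rc_4_2 lc_a_Cert_tree lc_a_rc_3_2 lc_a_rc_21_0 lc_a_rc_4_2 lc_a_Cert_tree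 lc_a_rc_3_2 lc_a_rc_4_2 lc_a_rc_4_2 lc_a_Cert_tree lc_a_rc_5_2 lc_a_rc_4_2 lc_a_rc_3_2 lc_a_rc_2_2 lc_a_Cert_tree lc_a_rc_1_4 lc_a_rc_5_2 lc_a_rc_21_0 lc_a_Cert_tree lc_a_rc_0_1 lc_a_rc_0_1 lc_a_rc_3_2 lc_a_rc_21_0 lc_a_rc_4_2 lc_a_rc_4_2 lc_a_Cert_tree lc_a_rc_0_1 lc_a_rc_0_1 lc_a_rc_3_2 lc_a_rc_21_0 lc_a_rc_22_0 lc_a_rc_3_2 lc_a_rc_22_0 lc_a_rc_5_2 lc_a_Cert_tree lc_a_rc_4_2 lc_a_rc_4_2 lc_a_rc_5_0 lc_a_rc_0_1 lc_a_rc_3_2 lc_a_rc_4_2 lc_a_rc_4_2 lc_a_rc_4_2 lc_a_rc_2_2 lc_a_rc_5_2 lc_a_rc_2_2 lc_a_rc_21_0 lc_a_rc_2_2 lc_a_rc_1_4 lc_a_rc_5_0 lc_a_rc_4_2 lc_a_rc_0_1 lc_a_rc_3_2 lc_a_rc_4_2 lc_a_rc_4_2) (@D3.rec (fun _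 => (Cert rels S Gen.a)) lc_a_rc_5_2 lc_a_rc_1_4 lc_a_rc_4_2 lc_a_rc_21_0 lc_a_rc_0_1 lc_a_rc_3_2 lc_a_rc_4_2 lc_a_rc_21_0 lc_a_rc_4_2 lc_a_rc_0_1 lc_a_rc_3_2 lc_a_rc_4_2 lc_a_rc_4_2 lc_a_rc_21_0 lc_a_rc_3_2 lc_a_rc_21_0 lc_a_rc_4_2 lc_a_rc_0_1 lc_a_rc_3_2 lc_a_rc_4_2 lc_a_rc_21_0 lc_a_rc_4_2 lc_a_rc_0_1 lc_a_rc_2_2 lc_a_rc_3_2 lc_a_rc_4_2 lc_a_rc_4_2 lc_a_rc_0_1 lc_a_rc_0_1 lc_a_Cert_tree lc_a_rc_2_2 lc_a_rc_3_2 lc_a_rc_5_2 lc_a_Cert_tree lc_a_rc_2_2 lc_a_rc_21_0 lc_a_rc_4_2 lc_a_rc_3_2 lc_a_rc_3_2 lc_a_rc_3_2 lc_a_rc_2_2 lc_a_rc_4_2 lc_a_rc_3_0 lc_a_rc_4_2 lc_a_Cert_tree lc_a_rc_4_2 lc_a_Cert_tree lc_a_rc_3_2 lc_a_Cert_tree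 lc_a_rc_4_2 lc_a_rc_4_2 lc_a_rc_4_2 lc_a_rc_5_2 lc_a_rc_4_2 lc_a_rc_5_0 lc_a_rc_3_2 lc_a_rc_2_2 lc_a_rc_4_2 lc_a_rc_4_2 lc_a_rc_3_2 lc_a_Cert_tree lc_a_rc_4_2) (@D3.rec (fun _ => (Cert rels S Gen.a)) lc_a_rc_21_0 lc_a_rc_2_2 lc_a_rc_3_2 lc_a_rc_5_2 lc_a_rc_2_2 lc_a_rc_4_2 lc_a_rc_4_2 lc_a_rc_3_2 lc_a_rc_0_1 lc_a_rc_4_2 lc_a_rc_5_2 lc_a_rc_3_2 lc_a_rc_22_0 lc_a_rc_2_2 lc_a_rc_4_2 lc_a_rc_4_2 lc_a_rc_3_0 lc_a_rc_4_2 lc_a_rc_0_1 lc_a_rc_2_0 lc_a_rc_22_0 lc_a_rc_3_2 lc_a_rc_4_2 lc_a_rc_5_0 lc_a_rc_4_2 lc_a_rc_5_2 lc_a_rc_4_2 lc_a_Cert_tree lc_a_rc_4_2 lc_a_rc_4_2 lc_a_rc_21_0 lc_a_rc_3_2 lc_a_rc_5_2 lc_a_Cert_tree lc_a_rc_4_2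 lc_a_rc_4_2 lc_a_rc_21_0 lc_a_rc_3_2 lc_a_rc_5_2 lc_a_rc_21_0 lc_a_rc_0_1 lc_a_rc_0_1 lc_a_rc_4_2 lc_a_rc_21_0 lc_a_rc_4_2 lc_a_rc_5_2 lc_a_rc_1_4 lc_a_rc_5_0 lc_a_rc_5_0 lc_a_rc_21_0 lc_a_rc_21_0 lc_a_rc_4_2 lc_a_rc_3_2 lc_a_rc_1_4 lc_a_rc_2_2 lc_a_rc_4_2 lc_a_rc_4_2 lc_a_Cert_tree lc_a_rc_3_2 lc_a_rc_4_2 lc_a_rc_4_2 lc_a_rc_21_0) (@D3.rec (fun _ => (Cert rels S Gen.a)) lc_a_rc_21_0 lc_a_rc_0_1 lc_a_rc_0_1 lc_a_rc_4_2 lc_a_rc_0_1 lc_a_rc_4_2 lc_a_rc_5_2 lc_a_rc_1_4 lc_a_rc_2_2 lc_a_rc_3_2 lc_a_rc_21_0 lc_a_rc_4_2 lc_a_rc_4_2 lc_a_rc_3_2 lc_a_rc_21_0 lc_a_rc_4_2 lc_a_rc_21_0 lc_a_rc_4_2 lc_a_rc_0_1 lc_a_rc_21_0 lc_a_rc_4_2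 lc_a_Cert_tree lc_a_rc_3_2 lc_a_rc_4_2 lc_a_rc_21_0 lc_a_rc_2_2 lc_a_rc_3_2 lc_a_rc_5_2 lc_a_rc_21_0 lc_a_rc_3_2 lc_a_rc_4_2 lc_a_rc_0_1 lc_a_rc_2_2 lc_a_rc_3_2 lc_a_rc_0_1 lc_a_rc_21_0 lc_a_rc_0_1 lc_a_rc_4_2 lc_a_rc_21_0 lc_a_rc_0_1 lc_a_rc_3_2 lc_a_rc_5_2 lc_a_rc_4_2 lc_a_rc_4_2 lc_a_rc_3_2 lc_a_rc_2_2 lc_a_rc_4_2 lc_a_rc_3_2 lc_a_rc_2_2 lc_a_rc_21_0 lc_a_rc_3_2 lc_a_rc_2_2 lc_a_rc_5_2 lc_a_rc_1_2 lc_a_rc_3_2 lc_a_rc_4_2 lc_a_rc_21_0 lc_a_rc_4_2 lc_a_rc_3_2 lc_a_rc_2_2 lc_a_rc_5_0 lc_a_rc_4_2) (@D3.rec (fun _ => (Cert rels S Gen.a)) lc_a_rc_4_2 lc_a_rc_5_0 lc_a_Cert_tree lc_a_rc_3_2 lc_a_rc_22_0 lc_a_rc_4_2 lc_a_rc_3_2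 lc_a_rc_4_2 lc_a_rc_21_0 lc_a_rc_21_0 lc_a_rc_1_2 lc_a_rc_2_2 lc_a_rc_2_2 lc_a_rc_3_2 lc_a_rc_5_2 lc_a_rc_21_0 lc_a_rc_2_2 lc_a_Cert_tree lc_a_rc_3_2 lc_a_rc_3_0 lc_a_rc_3_0 lc_a_rc_21_0 lc_a_rc_4_2 lc_a_rc_2_0 lc_a_rc_2_2 lc_a_Cert_tree lc_a_rc_21_0 lc_a_rc_4_2 lc_a_rc_2_2 lc_a_rc_5_2 lc_a_rc_5_0 lc_a_rc_3_2 lc_a_rc_4_2 lc_a_Cert_tree lc_a_rc_21_0 lc_a_rc_4_2 lc_a_rc_5_2 lc_a_Cert_tree lc_a_rc_5_0 lc_a_Cert_tree lc_a_rc_2_2 lc_a_rc_4_2 lc_a_Cert_tree lc_a_rc_3_2 lc_a_rc_2_2 lc_a_rc_4_2 lc_a_Cert_tree lc_a_rc_0_1 lc_a_rc_0_1 lc_a_rc_3_2 lc_a_rc_21_0 lc_a_rc_21_0 lc_a_rc_2_2 lc_a_rc_22_0 lc_a_rc_4_2 lc_a_rc_22_0 lc_a_rc_4_2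 lc_a_rc_2_2 lc_a_rc_0_1 lc_a_rc_4_2 lc_a_rc_3_2 lc_a_rc_5_2) (@D3.rec (fun _ => (Cert rels S Gen.a)) lc_a_rc_5_0 lc_a_rc_21_0 lc_a_rc_5_2 lc_a_rc_3_2 lc_a_rc_0_1 lc_a_rc_4_2 lc_a_rc_3_2 lc_a_rc_4_2 lc_a_rc_5_0 lc_a_rc_4_2 lc_a_rc_5_2 lc_a_rc_4_2 lc_a_rc_3_2 lc_a_rc_5_2 lc_a_rc_3_2 lc_a_rc_2_2 lc_a_rc_3_2 lc_a_rc_21_0 lc_a_rc_1_2 lc_a_rc_3_2 lc_a_rc_3_2 lc_a_rc_22_0 lc_a_rc_2_2 lc_a_rc_3_2 lc_a_rc_21_0 lc_a_rc_22_0 lc_a_rc_2_2 lc_a_rc_3_2 lc_a_rc_3_2 lc_a_rc_0_1 lc_a_rc_4_2 lc_a_rc_3_2 lc_a_rc_5_2 lc_a_rc_1_4 lc_a_rc_3_2 lc_a_rc_2_2 lc_a_rc_21_0 lc_a_rc_21_0 lc_a_rc_4_2 lc_a_rc_4_2 lc_a_rc_5_0 lc_a_rc_2_2 lc_a_rc_5_2 lc_a_rc_4_2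 lc_a_rc_21_0 lc_a_rc_21_0 lc_a_Cert_tree lc_a_rc_22_0 lc_a_rc_22_0 lc_a_rc_4_2 lc_a_rc_3_2 lc_a_rc_3_2 lc_a_rc_0_1 lc_a_rc_4_2 lc_a_rc_2_2 lc_a_rc_21_0 lc_a_rc_3_2 lc_a_rc_5_2 lc_a_rc_3_2 lc_a_rc_2_2 lc_a_rc_4_2 lc_a_rc_2_2) (@D3.rec (fun _ => (Cert rels S Gen.a)) lc_a_rc_5_0 lc_a_rc_4_2 lc_a_rc_3_0 lc_a_rc_3_2 lc_a_rc_2_2 lc_a_rc_5_2 lc_a_rc_3_2 lc_a_rc_3_2 lc_a_rc_3_2 lc_a_rc_5_2 lc_a_rc_4_2 lc_a_rc_2_2 lc_a_rc_2_2 lc_a_rc_3_2 lc_a_rc_5_2 lc_a_rc_2_2 lc_a_rc_4_2 lc_a_rc_5_0 lc_a_rc_5_0 lc_a_rc_5_0 lc_a_rc_21_0 lc_a_rc_3_0 lc_a_rc_21_0 lc_a_rc_2_2 lc_a_rc_5_2 lc_a_rc_21_0 lc_a_rc_3_2 lc_a_rc_0_1 lc_a_rc_4_2 lc_a_rc_5_2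 lc_a_rc_3_2 lc_a_rc_2_0 lc_a_rc_0_1 lc_a_rc_2_2 lc_a_rc_4_2 lc_a_rc_5_2 lc_a_rc_3_2 lc_a_rc_3_0 lc_a_rc_3_2 lc_a_rc_4_2 lc_a_rc_3_0 lc_a_rc_4_2 lc_a_rc_3_2 lc_a_rc_4_2 lc_a_rc_1_0 lc_a_rc_21_0 lc_a_rc_2_2 lc_a_rc_4_2 lc_a_rc_4_2 lc_a_rc_4_2 lc_a_rc_3_2 lc_a_rc_5_2 lc_a_rc_4_2 lc_a_rc_21_0 lc_a_rc_4_2 lc_a_rc_22_0 lc_a_Cert_tree lc_a_rc_3_2 lc_a_rc_5_2 lc_a_Cert_tree lc_a_rc_21_0 lc_a_rc_21_0) (@D3.rec (fun _ => (Cert rels S Gen.a)) lc_a_rc_3_2 lc_a_rc_2_2 lc_a_rc_2_2 lc_a_rc_5_2 lc_a_Cert_tree lc_a_rc_3_2 lc_a_rc_22_0 lc_a_rc_21_0 lc_a_rc_0_1 lc_a_rc_2_2 lc_a_rc_3_2 lc_a_rc_4_2 lc_a_rc_21_0 lc_a_rc_0_1 lc_a_rc_5_0 lc_a_rc_3_2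 lc_a_rc_2_2 lc_a_rc_4_2 lc_a_rc_3_2 lc_a_rc_1_2 lc_a_rc_2_2 lc_a_rc_0_1 lc_a_rc_2_0 lc_a_rc_21_0 lc_a_rc_2_2 lc_a_rc_4_2 lc_a_rc_3_2 lc_a_rc_2_2 lc_a_rc_2_2 lc_a_rc_4_2 lc_a_rc_4_2 lc_a_rc_5_0 lc_a_Cert_tree lc_a_rc_22_0 lc_a_rc_5_2 lc_a_rc_4_2 lc_a_rc_3_2 lc_a_rc_2_2 lc_a_rc_4_2 lc_a_rc_2_0 lc_a_rc_2_2 lc_a_Cert_tree lc_a_rc_21_0 lc_a_rc_4_2 lc_a_rc_21_0 lc_a_rc_0_1 lc_a_rc_5_2 lc_a_rc_5_2 lc_a_rc_3_2 lc_a_rc_5_0 lc_a_rc_2_2 lc_a_rc_4_2 lc_a_rc_2_0 lc_a_rc_2_2 lc_a_rc_21_0 lc_a_rc_4_2 lc_a_rc_5_2 lc_a_Cert_tree lc_a_rc_3_2 lc_a_rc_2_2 lc_a_rc_4_2 lc_a_Cert_tree) (@D3.rec (fun _ => (Cert rels S Gen.a)) lc_a_rc_2_2 lc_a_rc_4_2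 lc_a_rc_4_2 lc_a_rc_21_0 lc_a_rc_4_2 lc_a_Cert_tree lc_a_rc_3_2 lc_a_rc_22_0 lc_a_Cert_tree lc_a_rc_5_0 lc_a_rc_4_2 lc_a_Cert_tree lc_a_rc_0_1 lc_a_rc_0_1 lc_a_rc_3_2 lc_a_rc_21_0 lc_a_rc_2_2 lc_a_rc_21_0 lc_a_rc_4_2 lc_a_rc_4_2 lc_a_rc_4_2 lc_a_rc_5_0 lc_a_rc_4_2 lc_a_rc_4_2 lc_a_rc_4_2 lc_a_rc_21_0 lc_a_rc_5_0 lc_a_rc_4_2 lc_a_rc_5_0 lc_a_rc_2_2 lc_a_rc_1_4 lc_a_rc_2_2 lc_a_rc_0_1 lc_a_rc_4_2 lc_a_rc_4_2 lc_a_rc_21_0 lc_a_rc_4_0 lc_a_rc_5_2 lc_a_rc_1_2 lc_a_rc_3_2 lc_a_rc_2_2 lc_a_rc_21_0 lc_a_rc_1_2 lc_a_rc_3_2 lc_a_rc_4_2 lc_a_rc_21_0 lc_a_rc_3_2 lc_a_rc_2_2 lc_a_rc_5_2 lc_a_Cert_tree lc_a_rc_3_2 lc_a_rc_2_2 lc_a_rc_4_2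 lc_a_rc_5_0 lc_a_rc_0_1 lc_a_rc_21_0 lc_a_rc_4_2 lc_a_Cert_tree lc_a_rc_4_2 lc_a_Cert_tree lc_a_rc_4_2 lc_a_Cert_tree) (@D3.rec (fun _ => (Cert rels S Gen.a)) lc_a_rc_0_1 lc_a_rc_0_1 lc_a_rc_3_2 lc_a_rc_21_0 lc_a_rc_22_0 lc_a_rc_3_2 lc_a_rc_2_2 lc_a_rc_4_2 lc_a_rc_3_2 lc_a_rc_3_0 lc_a_rc_4_2 lc_a_rc_2_2 lc_a_rc_3_2 lc_a_rc_0_1 lc_a_rc_3_2 lc_a_rc_2_2 lc_a_rc_4_2 lc_a_rc_3_0 lc_a_rc_2_2 lc_a_rc_4_2 lc_a_Cert_tree lc_a_rc_4_2 lc_a_rc_21_0 lc_a_rc_0_1 lc_a_rc_5_2 lc_a_Cert_tree lc_a_rc_3_2 lc_a_rc_4_2 lc_a_Cert_tree lc_a_rc_3_2 lc_a_rc_21_0 lc_a_Cert_tree lc_a_rc_3_2 lc_a_rc_21_0 lc_a_rc_0_1 lc_a_rc_0_1 lc_a_rc_3_2 lc_a_rc_4_2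 lc_a_rc_0_1 lc_a_rc_4_2 lc_a_rc_4_2 lc_a_rc_2_2 lc_a_rc_22_0 lc_a_rc_4_2 lc_a_rc_4_2 lc_a_rc_21_0 lc_a_rc_0_1 lc_a_rc_21_0 lc_a_rc_4_2 lc_a_Cert_tree lc_a_rc_4_2 lc_a_rc_4_2 lc_a_rc_4_2 lc_a_rc_5_2 lc_a_rc_1_2 lc_a_rc_4_2 lc_a_rc_0_1 lc_a_rc_3_2 lc_a_rc_4_2 lc_a_rc_4_2 lc_a_rc_4_0 lc_a_rc_4_0) (@D3.rec (fun _ => (Cert rels S Gen.a)) lc_a_rc_3_2 lc_a_rc_5_2 lc_a_Cert_tree lc_a_rc_21_0 lc_a_rc_3_2 lc_a_rc_0_1 lc_a_rc_3_2 lc_a_rc_3_2 lc_a_rc_3_2 lc_a_rc_4_2 lc_a_rc_1_4 lc_a_rc_4_2 lc_a_rc_0_1 lc_a_rc_4_0 lc_a_rc_3_0 lc_a_rc_21_0 lc_a_rc_2_2 lc_a_rc_21_0 lc_a_rc_0_1 lc_a_rc_4_2 lc_a_rc_21_0 lc_a_rc_0_1 lc_a_rc_3_2 lc_a_rc_4_2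 lc_a_rc_21_0 lc_a_rc_3_2 lc_a_rc_0_1 lc_a_rc_3_2 lc_a_rc_4_2 lc_a_rc_4_2 lc_a_rc_2_2 lc_a_rc_3_2 lc_a_rc_0_1 lc_a_rc_0_1 lc_a_Cert_tree lc_a_rc_1_4 lc_a_rc_3_2 lc_a_rc_5_2 lc_a_Cert_tree lc_a_rc_2_2 lc_a_rc_3_2 lc_a_rc_4_2 lc_a_rc_3_2 lc_a_rc_3_2 lc_a_rc_21_0 lc_a_rc_2_2 lc_a_rc_4_2 lc_a_rc_3_0 lc_a_rc_4_2 lc_a_Cert_tree lc_a_rc_4_2 lc_a_Cert_tree lc_a_rc_4_2 lc_a_Cert_tree lc_a_rc_4_2 lc_a_rc_3_2 lc_a_rc_4_2 lc_a_rc_5_2 lc_a_rc_4_2 lc_a_rc_4_2 lc_a_rc_5_0 lc_a_rc_3_2) (@D3.rec (fun _ => (Cert rels S Gen.a)) lc_a_Cert_tree lc_a_rc_3_2 lc_a_rc_4_2 lc_a_rc_4_2 lc_a_rc_4_2 lc_a_Cert_tree lc_a_rc_4_2 lc_a_rc_4_2 lc_a_rc_3_2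 lc_a_rc_5_2 lc_a_Cert_tree lc_a_rc_5_2 lc_a_rc_21_0 lc_a_rc_0_1 lc_a_rc_2_0 lc_a_rc_0_1 lc_a_rc_0_1 lc_a_rc_3_2 lc_a_rc_21_0 lc_a_rc_0_1 lc_a_rc_4_2 lc_a_rc_21_0 lc_a_rc_0_1 lc_a_rc_2_2 lc_a_rc_0_1 lc_a_rc_0_1 lc_a_rc_3_2 lc_a_rc_4_2 lc_a_rc_4_2 lc_a_rc_3_2 lc_a_rc_5_2 lc_a_rc_21_0 lc_a_rc_0_1 lc_a_rc_0_1 lc_a_rc_4_2 lc_a_rc_3_2 lc_a_rc_1_4 lc_a_rc_21_0 lc_a_rc_4_2 lc_a_rc_0_1 lc_a_rc_4_2 lc_a_rc_3_2 lc_a_rc_0_1 lc_a_rc_0_1 lc_a_rc_2_0 lc_a_rc_1_4 lc_a_rc_3_2 lc_a_rc_5_2 lc_a_Cert_tree lc_a_rc_2_2 lc_a_rc_3_2 lc_a_rc_4_2 lc_a_rc_3_2 lc_a_rc_21_0 lc_a_rc_3_2 lc_a_rc_2_2 lc_a_rc_4_2 lc_a_rc_4_2 lc_a_rc_4_2 lc_a_rc_4_2 lc_a_rc_5_2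 lc_a_rc_3_2) (@D3.rec (fun _ => (Cert rels S Gen.a)) lc_a_rc_0_1 lc_a_rc_0_1 lc_a_Cert_tree lc_a_rc_2_2 lc_a_rc_4_2 lc_a_rc_5_2 lc_a_Cert_tree lc_a_rc_2_2 lc_a_rc_0_1 lc_a_rc_3_2 lc_a_rc_3_0 lc_a_rc_3_0 lc_a_rc_2_2 lc_a_rc_4_2 lc_a_rc_3_0 lc_a_rc_4_2 lc_a_Cert_tree lc_a_rc_2_2 lc_a_rc_21_0 lc_a_rc_3_2 lc_a_rc_5_2 lc_a_rc_4_2 lc_a_rc_5_2 lc_a_rc_21_0 lc_a_rc_2_2 lc_a_rc_0_1 lc_a_rc_2_2 lc_a_rc_4_2 lc_a_rc_3_2 lc_a_Cert_tree lc_a_rc_4_2 lc_a_rc_3_2 lc_a_rc_0_1 lc_a_Cert_tree lc_a_rc_5_0 lc_a_rc_5_0 lc_a_rc_3_2 lc_a_rc_4_2 lc_a_rc_3_2 lc_a_rc_3_2 lc_a_rc_2_2 lc_a_rc_4_2 lc_a_rc_4_2 lc_a_rc_21_0 lc_a_rc_3_2 lc_a_rc_5_2 lc_a_rc_5_0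 lc_a_rc_1_4 lc_a_rc_4_2 lc_a_rc_5_2 lc_a_Cert_tree lc_a_Cert_tree lc_a_rc_3_2 lc_a_rc_22_0 lc_a_rc_22_0 lc_a_rc_21_0 lc_a_rc_2_2 lc_a_Cert_tree lc_a_rc_3_2 lc_a_Cert_tree lc_a_rc_5_0 lc_a_rc_5_0) (@D3.rec (fun _ => (Cert rels S Gen.a)) lc_a_Cert_tree lc_a_rc_4_2 lc_a_rc_3_2 lc_a_rc_1_4 lc_a_rc_3_2 lc_a_rc_4_2 lc_a_rc_3_2 lc_a_rc_3_2 lc_a_rc_2_2 lc_a_rc_4_2 lc_a_rc_5_0 lc_a_rc_3_2 lc_a_rc_21_0 lc_a_rc_5_0 lc_a_rc_4_2 lc_a_rc_4_2 lc_a_rc_5_2 lc_a_rc_2_2 lc_a_rc_3_2 lc_a_rc_4_2 lc_a_rc_4_2 lc_a_rc_5_0 lc_a_rc_5_0 lc_a_rc_21_0 lc_a_rc_3_2 lc_a_rc_2_2 lc_a_rc_4_2 lc_a_rc_1_4 lc_a_rc_5_2 lc_a_rc_21_0 lc_a_rc_21_0 lc_a_rc_4_2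 lc_a_rc_4_2 lc_a_rc_3_2 lc_a_rc_4_2 lc_a_rc_2_2 lc_a_rc_4_2 lc_a_rc_1_2 lc_a_rc_1_2 lc_a_rc_4_0 lc_a_rc_2_2 lc_a_rc_21_0 lc_a_rc_4_2 lc_a_rc_3_2 lc_a_rc_21_0 lc_a_rc_4_2 lc_a_rc_4_2 lc_a_rc_3_2 lc_a_rc_3_2 lc_a_rc_21_0 lc_a_rc_3_2 lc_a_rc_2_2 lc_a_rc_4_2 lc_a_rc_3_2 lc_a_rc_5_0 lc_a_rc_5_2 lc_a_rc_21_0 lc_a_rc_21_0 lc_a_rc_4_2 lc_a_rc_4_2 lc_a_rc_3_2 lc_a_rc_1_4) (@D3.rec (fun _ => (Cert rels S Gen.a)) lc_a_rc_2_2 lc_a_rc_3_2 lc_a_rc_4_2 lc_a_rc_4_2 lc_a_rc_4_2 lc_a_rc_3_2 lc_a_rc_4_2 lc_a_rc_21_0 lc_a_rc_3_2 lc_a_rc_2_2 lc_a_rc_4_2 lc_a_rc_2_2 lc_a_rc_2_2 lc_a_rc_3_2 lc_a_rc_4_2 lc_a_rc_21_0 lc_a_rc_2_2 lc_a_rc_21_0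 lc_a_rc_0_1 lc_a_rc_0_1 lc_a_rc_3_2 lc_a_rc_21_0 lc_a_rc_4_2 lc_a_rc_4_2 lc_a_rc_1_2 lc_a_rc_3_2 lc_a_rc_2_2 lc_a_rc_2_2 lc_a_rc_4_2 lc_a_rc_4_2 lc_a_rc_0_1 lc_a_rc_3_2 lc_a_rc_4_2 lc_a_rc_21_0 lc_a_rc_3_2 lc_a_rc_4_2 lc_a_rc_2_2 lc_a_rc_4_2 lc_a_rc_3_0 lc_a_rc_0_1 lc_a_rc_3_0 lc_a_rc_2_2 lc_a_rc_4_2 lc_a_Cert_tree lc_a_rc_2_2 lc_a_rc_4_2 lc_a_Cert_tree lc_a_rc_2_2 lc_a_rc_4_2 lc_a_rc_2_2 lc_a_rc_2_2 lc_a_Cert_tree lc_a_rc_3_2 lc_a_rc_4_2 lc_a_rc_2_2 lc_a_rc_1_2 lc_a_rc_1_2 lc_a_rc_5_2 lc_a_rc_4_2 lc_a_rc_4_0 lc_a_rc_0_1 lc_a_rc_3_2) (@D3.rec (fun _ => (Cert rels S Gen.a)) lc_a_rc_0_1 lc_a_rc_2_2 lc_a_rc_4_2 lc_a_rc_5_0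 lc_a_rc_4_2 lc_a_rc_5_2 lc_a_rc_0_1 lc_a_rc_2_2 lc_a_rc_4_2 lc_a_rc_2_2 lc_a_rc_4_2 lc_a_rc_5_2 lc_a_rc_21_0 lc_a_rc_3_2 lc_a_rc_0_1 lc_a_rc_4_2 lc_a_rc_5_0 lc_a_Cert_tree lc_a_rc_3_2 lc_a_rc_5_2 lc_a_Cert_tree lc_a_rc_2_2 lc_a_rc_3_2 lc_a_rc_3_2 lc_a_Cert_tree lc_a_rc_2_2 lc_a_Cert_tree lc_a_rc_5_2 lc_a_rc_3_2 lc_a_rc_5_0 lc_a_rc_3_2 lc_a_rc_2_2 lc_a_rc_3_2 lc_a_rc_4_2 lc_a_rc_2_2 lc_a_rc_3_2 lc_a_rc_5_2 lc_a_rc_0_1 lc_a_rc_4_2 lc_a_rc_2_2 lc_a_rc_2_2 lc_a_rc_21_0 lc_a_rc_0_1 lc_a_rc_4_2 lc_a_rc_3_2 lc_a_rc_5_2 lc_a_rc_21_0 lc_a_rc_21_0 lc_a_rc_1_4 lc_a_rc_3_2 lc_a_rc_2_2 lc_a_rc_4_2 lc_a_rc_5_0 lc_a_rc_2_2 lc_a_rc_5_2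 lc_a_Cert_tree lc_a_rc_3_2 lc_a_rc_1_4 lc_a_rc_1_2 lc_a_rc_3_2 lc_a_rc_5_2 lc_a_rc_4_2) (@D3.rec (fun _ => (Cert rels S Gen.a)) lc_a_rc_2_2 lc_a_rc_4_2 lc_a_rc_1_2 lc_a_rc_3_2 lc_a_rc_5_2 lc_a_rc_5_2 lc_a_rc_1_2 lc_a_rc_2_2 lc_a_rc_22_0 lc_a_rc_1_2 lc_a_rc_3_2 lc_a_rc_4_2 lc_a_rc_5_0 lc_a_rc_4_2 lc_a_rc_5_2 lc_a_rc_4_2 lc_a_rc_3_2 lc_a_rc_3_2 lc_a_rc_5_2 lc_a_rc_4_2 lc_a_rc_4_2 lc_a_rc_3_2 lc_a_rc_3_2 lc_a_rc_5_2 lc_a_rc_4_2 lc_a_rc_22_0 lc_a_rc_4_2 lc_a_rc_4_2 lc_a_rc_4_2 lc_a_rc_5_0 lc_a_rc_4_2 lc_a_rc_3_2 lc_a_rc_5_2 lc_a_rc_5_0 lc_a_rc_5_0 lc_a_rc_2_2 lc_a_rc_4_2 lc_a_rc_3_2 lc_a_rc_21_0 lc_a_rc_4_2 lc_a_rc_3_2 lc_a_rc_3_2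 lc_a_rc_5_2 lc_a_rc_2_2 lc_a_rc_2_2 lc_a_rc_0_1 lc_a_rc_4_2 lc_a_rc_4_2 lc_a_rc_5_2 lc_a_rc_4_2 lc_a_rc_3_2 lc_a_rc_5_0 lc_a_rc_4_2 lc_a_rc_5_0 lc_a_rc_21_0 lc_a_rc_3_2 lc_a_rc_2_2 lc_a_rc_5_2 lc_a_rc_3_2 lc_a_rc_21_0 lc_a_rc_0_1 lc_a_rc_4_2) (@D3.rec (fun _ => (Cert rels S Gen.a)) lc_a_rc_1_4 lc_a_rc_1_2 lc_a_rc_4_0 lc_a_rc_5_2 lc_a_rc_4_2 lc_a_rc_5_0 lc_a_rc_21_0 lc_a_rc_5_0 lc_a_rc_0_1 lc_a_rc_21_0 lc_a_rc_2_2 lc_a_rc_5_2 lc_a_rc_21_0 lc_a_rc_4_2 lc_a_rc_1_2 lc_a_rc_2_2 lc_a_rc_4_2 lc_a_rc_4_2 lc_a_rc_4_2 lc_a_rc_4_2 lc_a_rc_3_2 lc_a_rc_5_2 lc_a_Cert_tree lc_a_rc_21_0 lc_a_rc_22_0 lc_a_Cert_tree lc_a_rc_3_2 lc_a_rc_2_2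 lc_a_rc_2_2 lc_a_rc_3_2 lc_a_rc_3_2 lc_a_rc_1_4 lc_a_rc_0_1 lc_a_rc_5_0 lc_a_rc_4_2 lc_a_Cert_tree lc_a_rc_21_0 lc_a_rc_21_0 lc_a_rc_2_0 lc_a_rc_21_0 lc_a_rc_4_2 lc_a_rc_3_2 lc_a_rc_3_2 lc_a_rc_1_4 lc_a_Cert_tree lc_a_rc_3_2 lc_a_rc_2_2 lc_a_rc_2_2 lc_a_rc_3_2 lc_a_rc_3_2 lc_a_rc_21_0 lc_a_Cert_tree lc_a_rc_4_2 lc_a_rc_3_2 lc_a_rc_3_2 lc_a_rc_5_2 lc_a_rc_2_2 lc_a_rc_2_2 lc_a_rc_0_1 lc_a_rc_3_2 lc_a_rc_4_2 lc_a_rc_4_2) (@D3.rec (fun _ => (Cert rels S Gen.a)) lc_a_rc_1_0 lc_a_rc_3_2 lc_a_rc_5_2 lc_a_rc_3_2 lc_a_rc_5_2 lc_a_rc_22_0 lc_a_rc_1_2 lc_a_rc_4_2 lc_a_rc_4_2 lc_a_rc_2_2 lc_a_rc_2_2 lc_a_rc_3_2 lc_a_rc_5_2 lc_a_Cert_tree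 lc_a_rc_3_2 lc_a_rc_5_2 lc_a_Cert_tree lc_a_rc_3_2 lc_a_rc_21_0 lc_a_rc_3_2 lc_a_rc_3_2 lc_a_rc_2_2 lc_a_rc_3_2 lc_a_Cert_tree lc_a_rc_5_0 lc_a_rc_5_2 lc_a_rc_2_2 lc_a_rc_2_2 lc_a_rc_4_2 lc_a_rc_3_2 lc_a_rc_3_2 lc_a_rc_21_0 lc_a_rc_4_2 lc_a_rc_3_2 lc_a_rc_5_2 lc_a_Cert_tree lc_a_rc_3_2 lc_a_rc_21_0 lc_a_rc_2_2 lc_a_rc_3_2 lc_a_rc_21_0 lc_a_rc_1_2 lc_a_rc_2_2 lc_a_rc_3_2 lc_a_rc_21_0 lc_a_rc_5_2 lc_a_rc_1_2 lc_a_rc_2_2 lc_a_rc_5_0 lc_a_rc_3_2 lc_a_rc_5_2 lc_a_rc_3_2 lc_a_rc_2_2 lc_a_rc_1_2 lc_a_rc_2_2 lc_a_rc_2_2 lc_a_rc_1_2 lc_a_rc_0_1 lc_a_rc_21_0 lc_a_rc_4_2 lc_a_rc_4_2 lc_a_rc_1_2) (@D3.rec (fun _ => (Cert rels S Gen.a))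 lc_a_rc_1_4 lc_a_rc_3_2 lc_a_rc_5_2 lc_a_rc_21_0 lc_a_rc_21_0 lc_a_rc_22_0 lc_a_rc_0_1 lc_a_rc_3_2 lc_a_rc_4_2 lc_a_rc_4_2 lc_a_rc_5_0 lc_a_rc_2_2 lc_a_rc_5_2 lc_a_rc_21_0 lc_a_rc_4_2 lc_a_rc_3_2 lc_a_rc_4_2 lc_a_rc_4_2 lc_a_rc_2_2 lc_a_rc_3_2 lc_a_rc_4_2 lc_a_rc_4_2 lc_a_rc_2_2 lc_a_Cert_tree lc_a_rc_3_2 lc_a_rc_2_2 lc_a_rc_4_2 lc_a_rc_0_1 lc_a_rc_4_2 lc_a_rc_4_2 lc_a_rc_4_2 lc_a_rc_0_1 lc_a_rc_21_0 lc_a_rc_3_2 lc_a_rc_5_2 lc_a_rc_4_2 lc_a_rc_21_0 lc_a_rc_22_0 lc_a_rc_1_4 lc_a_rc_3_2 lc_a_rc_4_2 lc_a_rc_3_2 lc_a_rc_2_2 lc_a_rc_2_2 lc_a_rc_5_2 lc_a_rc_3_2 lc_a_rc_1_2 lc_a_rc_3_2 lc_a_rc_0_1 lc_a_rc_3_2 lc_a_rc_21_0 lc_a_rc_2_2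 lc_a_rc_3_2 lc_a_rc_4_2 lc_a_rc_22_0 lc_a_rc_4_2 lc_a_rc_3_2 lc_a_rc_1_2 lc_a_rc_2_2 lc_a_rc_21_0 lc_a_rc_21_0 lc_a_rc_21_0) (@D3.rec (fun _ => (Cert rels S Gen.a)) lc_a_rc_21_0 lc_a_rc_4_2 lc_a_rc_2_2 lc_a_rc_4_2 lc_a_rc_4_2 lc_a_rc_5_0 lc_a_Cert_tree lc_a_rc_22_0 lc_a_rc_5_2 lc_a_rc_4_2 lc_a_rc_2_2 lc_a_rc_4_2 lc_a_Cert_tree lc_a_rc_0_1 lc_a_rc_4_2 lc_a_rc_1_4 lc_a_rc_21_0 lc_a_rc_5_2 lc_a_Cert_tree lc_a_rc_21_0 lc_a_rc_2_2 lc_a_rc_21_0 lc_a_rc_4_2 lc_a_rc_5_2 lc_a_rc_2_2 lc_a_Cert_tree lc_a_rc_3_2 lc_a_Cert_tree lc_a_rc_2_2 lc_a_rc_4_2 lc_a_rc_21_0 lc_a_rc_0_1 lc_a_rc_4_2 lc_a_Cert_tree lc_a_rc_3_2 lc_a_rc_22_0 lc_a_Cert_tree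 lc_a_rc_5_0 lc_a_rc_4_2 lc_a_Cert_tree lc_a_rc_0_1 lc_a_rc_0_1 lc_a_rc_3_2 lc_a_rc_21_0 lc_a_rc_2_2 lc_a_rc_21_0 lc_a_rc_4_2 lc_a_rc_4_2 lc_a_rc_4_2 lc_a_rc_5_0 lc_a_rc_2_2 lc_a_rc_2_2 lc_a_rc_3_2 lc_a_rc_3_2 lc_a_rc_4_2 lc_a_rc_2_2 lc_a_rc_5_2 lc_a_Cert_tree lc_a_rc_3_2 lc_a_rc_0_1 lc_a_rc_21_0 lc_a_rc_0_1) (@D3.rec (fun _ => (Cert rels S Gen.a)) lc_a_rc_3_2 lc_a_rc_22_0 lc_a_rc_3_2 lc_a_rc_4_2 lc_a_Cert_tree lc_a_rc_4_2 lc_a_rc_2_2 lc_a_rc_21_0 lc_a_rc_5_2 lc_a_Cert_tree lc_a_rc_1_4 lc_a_rc_1_2 lc_a_rc_0_1 lc_a_rc_3_2 lc_a_rc_4_2 lc_a_rc_4_2 lc_a_rc_4_2 lc_a_rc_2_2 lc_a_rc_3_2 lc_a_rc_5_2 lc_a_rc_0_1 lc_a_rc_0_1 lc_a_rc_21_0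 lc_a_rc_5_0 lc_a_rc_4_2 lc_a_Cert_tree lc_a_rc_4_2 lc_a_rc_21_0 lc_a_rc_4_2 lc_a_rc_5_2 lc_a_rc_21_0 lc_a_rc_0_1 lc_a_rc_0_1 lc_a_rc_3_2 lc_a_rc_4_2 lc_a_rc_4_2 lc_a_rc_3_2 lc_a_rc_5_2 lc_a_rc_4_2 lc_a_rc_1_2 lc_a_rc_0_1 lc_a_rc_3_2 lc_a_rc_4_2 lc_a_rc_2_2 lc_a_rc_21_0 lc_a_rc_0_1 lc_a_rc_3_2 lc_a_rc_4_2 lc_a_rc_4_2 lc_a_rc_3_2 lc_a_rc_21_0 lc_a_rc_3_2 lc_a_rc_0_1 lc_a_rc_3_2 lc_a_rc_4_2 lc_a_rc_2_2 lc_a_rc_3_2 lc_a_rc_0_1 lc_a_rc_0_1 lc_a_rc_1_2 lc_a_rc_2_2 lc_a_rc_21_0) (@D3.rec (fun _ => (Cert rels S Gen.a)) lc_a_rc_5_2 lc_a_rc_2_0 lc_a_rc_2_2 lc_a_rc_3_2 lc_a_rc_4_2 lc_a_rc_3_2 lc_a_rc_3_2 lc_a_rc_21_0 lc_a_rc_2_2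 lc_a_rc_4_2 lc_a_rc_3_0 lc_a_rc_4_2 lc_a_Cert_tree lc_a_rc_4_2 lc_a_Cert_tree lc_a_rc_4_2 lc_a_Cert_tree lc_a_rc_4_2 lc_a_rc_3_2 lc_a_rc_4_2 lc_a_rc_5_2 lc_a_rc_4_2 lc_a_rc_4_0 lc_a_rc_3_2 lc_a_rc_1_2 lc_a_rc_4_2 lc_a_rc_4_2 lc_a_rc_4_2 lc_a_rc_21_0 lc_a_rc_3_2 lc_a_rc_5_2 lc_a_rc_3_2 lc_a_rc_3_2 lc_a_rc_22_0 lc_a_rc_5_2 lc_a_rc_5_0 lc_a_rc_5_0 lc_a_rc_4_2 lc_a_rc_21_0 lc_a_rc_4_2 lc_a_rc_2_2 lc_a_rc_2_2 lc_a_rc_21_0 lc_a_rc_3_2 lc_a_rc_2_2 lc_a_rc_3_2 lc_a_rc_5_2 lc_a_rc_21_0 lc_a_rc_2_2 lc_a_rc_3_2 lc_a_rc_1_4 lc_a_rc_3_2 lc_a_rc_5_2 lc_a_rc_21_0 lc_a_rc_3_2 lc_a_rc_22_0 lc_a_rc_5_2 lc_a_rc_2_2 lc_a_rc_4_2 lc_a_rc_2_2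 lc_a_rc_2_2 lc_a_rc_0_1) (@D3.rec (fun _ => (Cert rels S Gen.a)) lc_a_rc_3_2 lc_a_rc_5_0 lc_a_rc_3_2 lc_a_rc_5_2 lc_a_rc_4_2 lc_a_rc_0_1 lc_a_rc_4_2 lc_a_rc_1_2 lc_a_rc_22_0 lc_a_rc_4_2 lc_a_rc_21_0 lc_a_rc_21_0 lc_a_rc_1_4 lc_a_rc_22_0 lc_a_rc_2_2 lc_a_rc_1_2 lc_a_rc_4_2 lc_a_rc_1_4 lc_a_rc_4_2 lc_a_rc_4_2 lc_a_rc_4_2 lc_a_rc_4_2 lc_a_rc_3_2 lc_a_rc_5_2 lc_a_rc_21_0 lc_a_rc_3_2 lc_a_rc_2_2 lc_a_rc_5_2 lc_a_rc_1_4 lc_a_rc_1_2 lc_a_rc_1_4 lc_a_rc_2_2 lc_a_rc_4_2 lc_a_rc_21_0 lc_a_rc_21_0 lc_a_rc_21_0 lc_a_rc_4_2 lc_a_rc_21_0 lc_a_rc_4_2 lc_a_rc_5_2 lc_a_rc_5_0 lc_a_rc_21_0 lc_a_Cert_tree lc_a_rc_22_0 lc_a_rc_5_2 lc_a_rc_0_1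 lc_a_rc_5_0 lc_a_rc_4_2 lc_a_rc_4_2 lc_a_rc_21_0 lc_a_rc_4_2 lc_a_Cert_tree lc_a_rc_0_1 lc_a_rc_0_1 lc_a_rc_3_2 lc_a_rc_21_0 lc_a_rc_4_2 lc_a_rc_22_0 lc_a_rc_4_2 lc_a_rc_3_2 lc_a_rc_3_2 lc_a_rc_3_2) (@D3.rec (fun _ => (Cert rels S Gen.a)) lc_a_rc_3_2 lc_a_rc_3_2 lc_a_rc_3_2 lc_a_rc_4_2 lc_a_rc_4_2 lc_a_rc_2_2 lc_a_rc_3_2 lc_a_rc_5_2 lc_a_rc_21_0 lc_a_rc_3_2 lc_a_Cert_tree lc_a_rc_21_0 lc_a_rc_21_0 lc_a_rc_3_0 lc_a_rc_3_2 lc_a_rc_2_2 lc_a_rc_5_2 lc_a_rc_2_2 lc_a_rc_4_2 lc_a_rc_21_0 lc_a_rc_3_2 lc_a_rc_3_2 lc_a_rc_3_2 lc_a_rc_4_2 lc_a_rc_21_0 lc_a_rc_2_2 lc_a_rc_21_0 lc_a_rc_5_0 lc_a_rc_4_2 lc_a_rc_4_2 lc_a_rc_2_2 lc_a_rc_3_2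 lc_a_rc_21_0 lc_a_rc_4_2 lc_a_rc_2_2 lc_a_rc_2_2 lc_a_Cert_tree lc_a_rc_22_0 lc_a_rc_22_0 lc_a_rc_4_2 lc_a_rc_2_2 lc_a_rc_21_0 lc_a_rc_21_0 lc_a_rc_3_0 lc_a_rc_3_2 lc_a_rc_2_2 lc_a_rc_5_2 lc_a_rc_4_2 lc_a_rc_2_2 lc_a_rc_4_2 lc_a_rc_5_2 lc_a_Cert_tree lc_a_rc_3_2 lc_a_rc_21_0 lc_a_rc_3_2 lc_a_rc_4_2 lc_a_rc_3_2 lc_a_rc_3_2 lc_a_rc_2_2 lc_a_rc_5_2 lc_a_rc_21_0 lc_a_rc_3_2) (@D3.rec (fun _ => (Cert rels S Gen.a)) lc_a_rc_3_2 lc_a_rc_3_2 lc_a_rc_4_2 lc_a_rc_5_0 lc_a_rc_5_0 lc_a_rc_21_0 lc_a_rc_21_0 lc_a_rc_21_0 lc_a_rc_21_0 lc_a_rc_5_0 lc_a_rc_21_0 lc_a_rc_2_2 lc_a_rc_4_2 lc_a_rc_3_2 lc_a_rc_2_2 lc_a_rc_4_2 lc_a_rc_2_2 lc_a_rc_2_2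 lc_a_rc_4_2 lc_a_rc_22_0 lc_a_rc_22_0 lc_a_rc_21_0 lc_a_rc_4_2 lc_a_rc_1_2 lc_a_rc_2_2 lc_a_rc_4_2 lc_a_rc_4_2 lc_a_rc_4_2 lc_a_rc_4_2 lc_a_rc_3_2 lc_a_rc_5_2 lc_a_rc_3_2 lc_a_rc_3_2 lc_a_rc_5_2 lc_a_rc_0_1 lc_a_rc_1_4 lc_a_rc_4_2 lc_a_rc_2_2 lc_a_rc_4_2 lc_a_rc_2_2 lc_a_rc_2_2 lc_a_rc_4_2 lc_a_rc_4_2 lc_a_rc_2_2 lc_a_rc_3_2 lc_a_rc_5_2 lc_a_rc_3_0 lc_a_rc_3_2 lc_a_rc_5_2 lc_a_rc_1_4 lc_a_rc_4_2 lc_a_rc_4_2 lc_a_rc_0_1 lc_a_rc_4_0 lc_a_rc_5_2 lc_a_rc_4_2 lc_a_rc_1_4 lc_a_rc_4_2 lc_a_rc_5_2 lc_a_rc_4_2 lc_a_rc_4_2 lc_a_rc_4_2) (@D3.rec (fun _ => (Cert rels S Gen.a)) lc_a_rc_3_2 lc_a_rc_5_2 lc_a_rc_4_2 lc_a_rc_4_2 lc_a_rc_3_2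 lc_a_rc_4_2 lc_a_rc_4_2 lc_a_rc_21_0 lc_a_rc_3_2 lc_a_rc_5_2 lc_a_rc_4_2 lc_a_rc_4_2 lc_a_rc_3_2 lc_a_rc_2_2 lc_a_Cert_tree lc_a_rc_5_0 lc_a_rc_3_2 lc_a_rc_21_0 lc_a_rc_4_2 lc_a_rc_4_2 lc_a_rc_2_2 lc_a_rc_5_2 lc_a_rc_21_0 lc_a_rc_3_2 lc_a_rc_5_0 lc_a_rc_21_0 lc_a_rc_3_2 lc_a_rc_5_0 lc_a_rc_21_0 lc_a_rc_1_4 lc_a_rc_0_1 lc_a_rc_22_0 lc_a_rc_5_0 lc_a_rc_0_1 lc_a_rc_3_2 lc_a_rc_4_2 lc_a_rc_3_2 lc_a_rc_3_0 lc_a_rc_2_2 lc_a_rc_4_2 lc_a_rc_4_2 lc_a_rc_1_4 lc_a_rc_2_0 lc_a_rc_0_1 lc_a_rc_2_2 lc_a_rc_3_2 lc_a_rc_4_2 lc_a_rc_21_0 lc_a_rc_4_2 lc_a_rc_3_2 lc_a_rc_21_0 lc_a_Cert_tree lc_a_rc_2_2 lc_a_rc_2_2 lc_a_rc_4_2 lc_a_Cert_tree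 lc_a_rc_3_2 lc_a_rc_4_2 lc_a_rc_2_2 lc_a_rc_2_2 lc_a_Cert_tree lc_a_rc_22_0) (@D3.rec (fun _ => (Cert rels S Gen.a)) lc_a_rc_22_0 lc_a_rc_4_2 lc_a_rc_5_0 lc_a_rc_0_1 lc_a_rc_3_2 lc_a_rc_4_2 lc_a_rc_3_2 lc_a_rc_21_0 lc_a_rc_21_0 lc_a_rc_3_2 lc_a_rc_4_2 lc_a_rc_21_0 lc_a_rc_2_2 lc_a_rc_3_2 lc_a_rc_2_2 lc_a_rc_2_2 lc_a_rc_2_2 lc_a_rc_21_0 lc_a_Cert_tree lc_a_rc_2_2 lc_a_rc_2_2 lc_a_rc_21_0 lc_a_rc_0_1 lc_a_rc_4_2 lc_a_rc_2_2 lc_a_rc_5_2 lc_a_rc_1_2 lc_a_rc_3_2 lc_a_rc_2_2 lc_a_rc_1_2 lc_a_rc_2_2 lc_a_rc_0_1 lc_a_rc_3_2 lc_a_rc_5_2 lc_a_rc_2_2 lc_a_rc_3_2 lc_a_rc_3_2 lc_a_rc_21_0 lc_a_Cert_tree lc_a_rc_3_2 lc_a_rc_2_2 lc_a_Cert_tree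 lc_a_rc_2_2 lc_a_rc_2_2 lc_a_rc_1_4 lc_a_rc_21_0 lc_a_rc_3_2 lc_a_rc_3_2 lc_a_rc_5_2 lc_a_rc_2_2 lc_a_rc_2_2 lc_a_rc_4_2 lc_a_rc_2_0 lc_a_rc_3_2 lc_a_rc_4_2 lc_a_rc_1_2 lc_a_rc_3_2 lc_a_rc_4_2 lc_a_rc_5_2 lc_a_Cert_tree lc_a_rc_3_2 lc_a_rc_2_2) (@D3.rec (fun _ => (Cert rels S Gen.a)) lc_a_Cert_tree lc_a_rc_5_0 lc_a_rc_21_0 lc_a_Cert_tree lc_a_rc_0_1 lc_a_rc_0_1 lc_a_rc_3_2 lc_a_rc_21_0 lc_a_rc_21_0 lc_a_rc_2_2 lc_a_rc_22_0 lc_a_rc_3_2 lc_a_rc_22_0 lc_a_rc_5_2 lc_a_rc_21_0 lc_a_rc_4_2 lc_a_Cert_tree lc_a_rc_4_2 lc_a_rc_3_2 lc_a_rc_5_2 lc_a_Cert_tree lc_a_rc_3_2 lc_a_rc_4_2 lc_a_Cert_tree lc_a_rc_3_2 lc_a_rc_3_2 lc_a_rc_3_2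 lc_a_rc_0_1 lc_a_rc_3_2 lc_a_rc_4_2 lc_a_rc_4_2 lc_a_rc_0_1 lc_a_rc_21_0 lc_a_rc_3_2 lc_a_rc_2_2 lc_a_rc_0_1 lc_a_rc_21_0 lc_a_rc_1_2 lc_a_rc_2_2 lc_a_rc_3_2 lc_a_rc_4_2 lc_a_rc_5_0 lc_a_rc_4_2 lc_a_rc_2_2 lc_a_rc_5_2 lc_a_rc_4_2 lc_a_rc_5_2 lc_a_rc_2_0 lc_a_rc_2_0 lc_a_rc_22_0 lc_a_rc_4_2 lc_a_rc_2_2 lc_a_rc_4_2 lc_a_rc_4_2 lc_a_rc_3_2 lc_a_rc_3_0 lc_a_rc_0_1 lc_a_rc_3_2 lc_a_rc_3_2 lc_a_rc_21_0 lc_a_rc_3_2 lc_a_rc_5_0) (@D3.rec (fun _ => (Cert rels S Gen.a)) lc_a_rc_3_2 lc_a_rc_4_2 lc_a_rc_5_0 lc_a_rc_3_2 lc_a_rc_4_2 lc_a_rc_21_0 lc_a_rc_3_2 lc_a_rc_0_1 lc_a_rc_3_2 lc_a_rc_4_2 lc_a_rc_4_2 lc_a_rc_2_2 lc_a_rc_2_2 lc_a_rc_3_2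 lc_a_rc_4_2 lc_a_rc_2_2 lc_a_rc_3_2 lc_a_rc_21_0 lc_a_rc_21_0 lc_a_rc_3_2 lc_a_rc_0_1 lc_a_rc_2_2 lc_a_rc_3_2 lc_a_rc_4_2 lc_a_rc_3_2 lc_a_rc_22_0 lc_a_rc_22_0 lc_a_rc_21_0 lc_a_rc_3_2 lc_a_rc_0_1 lc_a_rc_2_2 lc_a_rc_3_2 lc_a_rc_4_2 lc_a_rc_4_2 lc_a_rc_3_2 lc_a_rc_4_2 lc_a_rc_0_1 lc_a_rc_0_1 lc_a_rc_3_2 lc_a_rc_3_2 lc_a_rc_3_2 lc_a_rc_4_2 lc_a_rc_5_2 lc_a_Cert_tree lc_a_rc_2_2 lc_a_rc_3_2 lc_a_rc_4_2 lc_a_rc_3_2 lc_a_rc_3_2 lc_a_rc_0_1 lc_a_rc_2_2 lc_a_rc_4_2 lc_a_rc_4_2 lc_a_Cert_tree lc_a_rc_4_2 lc_a_Cert_tree lc_a_rc_4_2 lc_a_rc_5_0 lc_a_Cert_tree lc_a_rc_5_2 lc_a_rc_2_2 lc_a_rc_2_2) (@D3.rec (fun _ => (Cert rels S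 Gen.a)) lc_a_rc_3_2 lc_a_rc_4_2 lc_a_rc_3_2 lc_a_rc_5_0 lc_a_Cert_tree lc_a_rc_0_1 lc_a_rc_4_2 lc_a_rc_4_2 lc_a_rc_4_2 lc_a_rc_3_2 lc_a_rc_4_2 lc_a_rc_3_2 lc_a_rc_5_2 lc_a_rc_21_0 lc_a_rc_3_2 lc_a_rc_5_0 lc_a_rc_21_0 lc_a_rc_3_2 lc_a_rc_5_0 lc_a_rc_1_4 lc_a_rc_21_0 lc_a_rc_22_0 lc_a_rc_5_2 lc_a_rc_0_1 lc_a_rc_3_2 lc_a_rc_1_4 lc_a_rc_2_2 lc_a_rc_4_2 lc_a_rc_3_2 lc_a_rc_4_2 lc_a_rc_0_1 lc_a_rc_1_4 lc_a_rc_4_2 lc_a_rc_2_2 lc_a_rc_21_0 lc_a_rc_1_2 lc_a_rc_2_2 lc_a_rc_4_2 lc_a_rc_2_2 lc_a_rc_2_2 lc_a_Cert_tree lc_a_rc_3_2 lc_a_rc_5_2 lc_a_rc_5_2 lc_a_Cert_tree lc_a_rc_0_1 lc_a_rc_0_1 lc_a_rc_21_0 lc_a_rc_21_0 lc_a_rc_4_2 lc_a_rc_4_2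 lc_a_rc_3_2 lc_a_rc_3_2 lc_a_rc_21_0 lc_a_rc_1_4 lc_a_rc_21_0 lc_a_rc_4_2 lc_a_rc_4_2 lc_a_rc_4_2 lc_a_rc_2_2 lc_a_rc_0_1 lc_a_rc_4_2) (@D3.rec (fun _ => (Cert rels S Gen.a)) lc_a_rc_1_4 lc_a_rc_21_0 lc_a_rc_3_2 lc_a_rc_3_2 lc_a_rc_0_1 lc_a_rc_4_2 lc_a_rc_3_2 lc_a_rc_0_1 lc_a_rc_0_1 lc_a_Cert_tree lc_a_rc_2_2 lc_a_rc_4_2 lc_a_rc_5_2 lc_a_Cert_tree lc_a_rc_2_2 lc_a_rc_0_1 lc_a_rc_3_2 lc_a_rc_3_0 lc_a_rc_3_0 lc_a_rc_2_2 lc_a_rc_4_2 lc_a_rc_3_0 lc_a_rc_4_2 lc_a_Cert_tree lc_a_rc_4_2 lc_a_rc_3_2 lc_a_rc_3_2 lc_a_rc_5_2 lc_a_rc_22_0 lc_a_rc_3_2 lc_a_rc_2_2 lc_a_rc_4_2 lc_a_Cert_tree lc_a_rc_4_2 lc_a_rc_21_0 lc_a_rc_3_2 lc_a_rc_21_0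 lc_a_rc_0_1 lc_a_rc_4_2 lc_a_rc_2_2 lc_a_rc_4_2 lc_a_rc_2_2 lc_a_rc_4_2 lc_a_rc_22_0 lc_a_rc_2_2 lc_a_Cert_tree lc_a_rc_3_2 lc_a_rc_4_2 lc_a_rc_21_0 lc_a_rc_0_1 lc_a_rc_5_2 lc_a_rc_4_2 lc_a_Cert_tree lc_a_rc_4_2 lc_a_rc_21_0 lc_a_rc_3_2 lc_a_rc_4_0 lc_a_rc_21_0 lc_a_rc_3_2 lc_a_rc_0_1 lc_a_rc_4_2 lc_a_rc_3_2) (@D3.rec (fun _ => (Cert rels S Gen.a)) lc_a_rc_5_2 lc_a_Cert_tree lc_a_rc_21_0 lc_a_rc_21_0 lc_a_rc_21_0 lc_a_rc_2_2 lc_a_rc_3_2 lc_a_rc_4_2 lc_a_rc_2_2 lc_a_rc_21_0 lc_a_rc_0_1 lc_a_rc_3_2 lc_a_rc_4_2 lc_a_rc_4_2 lc_a_rc_3_2 lc_a_rc_21_0 lc_a_rc_2_2 lc_a_rc_0_1 lc_a_rc_3_2 lc_a_rc_4_2 lc_a_rc_4_2 lc_a_rc_3_2 lc_a_rc_21_0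 lc_a_rc_2_0 lc_a_rc_0_1 lc_a_rc_3_2 lc_a_rc_4_2 lc_a_Cert_tree lc_a_rc_2_2 lc_a_rc_2_2 lc_a_rc_4_2 lc_a_Cert_tree lc_a_rc_2_2 lc_a_rc_3_2 lc_a_rc_3_2 lc_a_rc_4_2 lc_a_rc_21_0 lc_a_rc_2_2 lc_a_rc_2_2 lc_a_rc_4_2 lc_a_rc_4_2 lc_a_rc_21_0 lc_a_rc_3_2 lc_a_rc_5_2 lc_a_Cert_tree lc_a_rc_4_2 lc_a_rc_4_2 lc_a_rc_5_0 lc_a_rc_3_2 lc_a_rc_5_2 lc_a_Cert_tree lc_a_rc_3_2 lc_a_Cert_tree lc_a_rc_3_2 lc_a_rc_3_2 lc_a_rc_2_2 lc_a_rc_5_2 lc_a_rc_0_1 lc_a_Cert_tree lc_a_rc_3_2 lc_a_Cert_tree lc_a_rc_21_0) (@D3.rec (fun _ => (Cert rels S Gen.a)) lc_a_rc_2_2 lc_a_Cert_tree lc_a_rc_21_0 lc_a_rc_4_2 lc_a_rc_5_0 lc_a_rc_4_2 lc_a_rc_2_2 lc_a_rc_21_0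 lc_a_rc_0_1 lc_a_rc_3_0 lc_a_rc_3_2 lc_a_rc_5_2 lc_a_rc_2_2 lc_a_rc_3_2 lc_a_rc_4_2 lc_a_rc_2_2 lc_a_rc_3_2 lc_a_rc_21_0 lc_a_rc_2_2 lc_a_rc_1_2 lc_a_rc_1_4 lc_a_rc_4_2 lc_a_rc_1_2 lc_a_rc_3_2 lc_a_rc_1_2 lc_a_rc_3_2 lc_a_rc_4_2 lc_a_rc_1_4 lc_a_rc_3_2 lc_a_rc_22_0 lc_a_rc_4_2 lc_a_rc_1_4 lc_a_rc_1_2 lc_a_rc_3_2 lc_a_rc_5_2 lc_a_Cert_tree lc_a_rc_5_0 lc_a_rc_3_2 lc_a_rc_5_2 lc_a_Cert_tree lc_a_rc_3_2 lc_a_Cert_tree lc_a_rc_3_2 lc_a_rc_2_2 lc_a_rc_5_2 lc_a_rc_2_2 lc_a_rc_21_0 lc_a_rc_0_1 lc_a_rc_3_2 lc_a_rc_3_2 lc_a_rc_5_0 lc_a_Cert_tree lc_a_rc_21_0 lc_a_rc_3_2 lc_a_rc_2_2 lc_a_rc_3_2 lc_a_rc_2_2 lc_a_rc_4_2 lc_a_Cert_tree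 lc_a_rc_4_2 lc_a_Cert_tree lc_a_rc_4_2) (@D3.rec (fun _ => (Cert rels S Gen.a)) lc_a_rc_3_2 lc_a_rc_5_0 lc_a_rc_4_0 lc_a_rc_1_4 lc_a_rc_4_2 lc_a_rc_4_2 lc_a_rc_3_2 lc_a_rc_1_2 lc_a_rc_0_1 lc_a_rc_21_0 lc_a_Cert_tree lc_a_Cert_tree lc_a_rc_0_1 lc_a_rc_21_0 lc_a_rc_21_0 lc_a_rc_3_2 lc_a_rc_4_2 lc_a_rc_3_2 lc_a_rc_2_2 lc_a_rc_21_0 lc_a_rc_3_2 lc_a_rc_3_2 lc_a_rc_3_2 lc_a_rc_3_2 lc_a_rc_2_2 lc_a_rc_4_2 lc_a_rc_21_0 lc_a_rc_3_2 lc_a_rc_5_2 lc_a_rc_3_2 lc_a_rc_22_0 lc_a_rc_3_2 lc_a_rc_2_2 lc_a_rc_4_2 lc_a_rc_3_2 lc_a_rc_4_2 lc_a_rc_21_0 lc_a_rc_2_2 lc_a_rc_2_2 lc_a_rc_21_0 lc_a_rc_2_2 lc_a_rc_21_0 lc_a_rc_4_2 lc_a_rc_5_2 lc_a_rc_2_2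 lc_a_rc_3_2 lc_a_rc_4_2 lc_a_rc_21_0 lc_a_rc_1_4 lc_a_rc_0_1 lc_a_rc_3_2 lc_a_rc_5_2 lc_a_rc_4_2 lc_a_rc_0_1 lc_a_rc_3_2 lc_a_rc_2_2 lc_a_rc_2_2 lc_a_rc_4_2 lc_a_rc_4_2 lc_a_rc_0_1 lc_a_rc_2_2 lc_a_rc_3_2) (@D3.rec (fun _ => (Cert rels S Gen.a)) lc_a_rc_2_0 lc_a_rc_3_2 lc_a_rc_4_2 lc_a_rc_2_2 lc_a_rc_4_2 lc_a_rc_21_0 lc_a_rc_22_0 lc_a_rc_21_0 lc_a_rc_2_2 lc_a_rc_2_2 lc_a_rc_4_2 lc_a_Cert_tree lc_a_rc_2_2 lc_a_rc_4_2 lc_a_Cert_tree lc_a_rc_21_0 lc_a_rc_4_2 lc_a_rc_21_0 lc_a_rc_2_2 lc_a_Cert_tree lc_a_rc_3_2 lc_a_rc_4_2 lc_a_rc_2_2 lc_a_rc_5_0 lc_a_rc_4_2 lc_a_rc_5_2 lc_a_rc_4_2 lc_a_rc_4_0 lc_a_rc_5_0 lc_a_rc_3_2 lc_a_rc_0_1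 lc_a_rc_2_2 lc_a_rc_4_2 lc_a_rc_5_0 lc_a_rc_0_1 lc_a_rc_3_2 lc_a_rc_5_2 lc_a_rc_0_1 lc_a_rc_2_2 lc_a_rc_4_2 lc_a_rc_5_0 lc_a_rc_4_2 lc_a_rc_3_2 lc_a_rc_5_2 lc_a_rc_21_0 lc_a_rc_2_2 lc_a_rc_0_1 lc_a_rc_4_2 lc_a_rc_4_2 lc_a_rc_4_2 lc_a_rc_3_2 lc_a_rc_5_2 lc_a_Cert_tree lc_a_rc_2_2 lc_a_rc_4_2 lc_a_rc_3_2 lc_a_Cert_tree lc_a_rc_4_2 lc_a_rc_3_2 lc_a_rc_3_2 lc_a_rc_5_2 lc_a_rc_5_0) (@D3.rec (fun _ => (Cert rels S Gen.a)) lc_a_Cert_tree lc_a_rc_3_2 lc_a_rc_0_1 lc_a_rc_3_2 lc_a_rc_4_2 lc_a_rc_21_0 lc_a_rc_5_0 lc_a_rc_2_2 lc_a_rc_2_0 lc_a_rc_2_0 lc_a_rc_0_1 lc_a_rc_3_2 lc_a_rc_4_2 lc_a_rc_22_0 lc_a_rc_3_2 lc_a_rc_0_1 lc_a_rc_4_2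 lc_a_rc_1_4 lc_a_rc_2_0 lc_a_rc_21_0 lc_a_rc_0_1 lc_a_rc_0_1 lc_a_rc_3_2 lc_a_rc_1_4 lc_a_rc_3_2 lc_a_rc_4_2 lc_a_rc_3_2 lc_a_rc_21_0 lc_a_rc_3_2 lc_a_rc_2_2 lc_a_rc_4_2 lc_a_rc_3_0 lc_a_rc_4_2 lc_a_Cert_tree lc_a_rc_4_2 lc_a_rc_4_2 lc_a_rc_4_2 lc_a_rc_5_2 lc_a_rc_4_2 lc_a_rc_2_0 lc_a_rc_21_0 lc_a_rc_4_2 lc_a_rc_1_2 lc_a_rc_1_4 lc_a_rc_4_2 lc_a_rc_3_2 lc_a_rc_3_0 lc_a_rc_3_0 lc_a_rc_2_2 lc_a_rc_4_2 lc_a_Cert_tree lc_a_rc_3_2 lc_a_rc_5_2 lc_a_rc_21_0 lc_a_rc_21_0 lc_a_rc_1_4 lc_a_rc_4_2 lc_a_rc_4_2 lc_a_rc_2_2 lc_a_rc_3_2 lc_a_rc_5_2 lc_a_rc_2_2) (@D3.rec (fun _ => (Cert rels S Gen.a)) lc_a_rc_21_0 lc_a_rc_4_2 lc_a_rc_4_2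 lc_a_rc_0_1 lc_a_rc_4_2 lc_a_rc_3_2 lc_a_rc_4_2 lc_a_rc_21_0 lc_a_rc_4_0 lc_a_rc_3_2 lc_a_rc_4_2 lc_a_rc_0_1 lc_a_rc_3_2 lc_a_rc_2_2 lc_a_rc_22_0 lc_a_rc_4_2 lc_a_rc_4_2 lc_a_rc_4_0 lc_a_rc_0_1 lc_a_rc_0_1 lc_a_rc_3_2 lc_a_rc_4_2 lc_a_rc_4_0 lc_a_rc_21_0 lc_a_rc_2_2 lc_a_rc_4_2 lc_a_rc_0_1 lc_a_rc_2_2 lc_a_rc_4_2 lc_a_rc_3_2 lc_a_rc_2_2 lc_a_rc_4_2 lc_a_Cert_tree lc_a_rc_0_1 lc_a_rc_4_2 lc_a_rc_2_0 lc_a_rc_2_2 lc_a_rc_3_2 lc_a_rc_4_2 lc_a_rc_0_1 lc_a_rc_21_0 lc_a_rc_5_2 lc_a_rc_4_2 lc_a_rc_5_0 lc_a_rc_3_2 lc_a_Cert_tree lc_a_rc_3_2 lc_a_rc_3_2 lc_a_Cert_tree lc_a_Cert_tree lc_a_rc_2_2 lc_a_rc_3_2 lc_a_rc_4_2 lc_a_rc_5_2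 lc_a_rc_2_2 lc_a_rc_4_2 lc_a_rc_21_0 lc_a_rc_0_1 lc_a_rc_2_2 lc_a_rc_4_2 lc_a_rc_5_2 lc_a_rc_21_0) (@D3.rec (fun _ => (Cert rels S Gen.a)) lc_a_rc_2_0 lc_a_rc_1_2 lc_a_rc_3_2 lc_a_rc_4_2 lc_a_rc_2_2 lc_a_rc_2_2 lc_a_rc_3_2 lc_a_rc_1_2 lc_a_rc_0_1 lc_a_rc_4_2 lc_a_rc_21_0 lc_a_rc_3_2 lc_a_rc_2_2 lc_a_rc_3_2 lc_a_rc_2_2 lc_a_rc_4_2 lc_a_Cert_tree lc_a_rc_2_2 lc_a_rc_4_2 lc_a_Cert_tree lc_a_rc_2_2 lc_a_rc_4_2 lc_a_rc_2_0 lc_a_rc_2_2 lc_a_Cert_tree lc_a_rc_3_2 lc_a_rc_4_2 lc_a_rc_2_2 lc_a_rc_1_2 lc_a_rc_3_2 lc_a_rc_5_2 lc_a_rc_4_2 lc_a_rc_21_0 lc_a_rc_3_2 lc_a_rc_0_1 lc_a_rc_4_2 lc_a_rc_2_2 lc_a_rc_5_0 lc_a_rc_5_2 lc_a_Cert_tree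 lc_a_rc_4_2 lc_a_rc_2_2 lc_a_rc_5_2 lc_a_Cert_tree lc_a_rc_21_0 lc_a_rc_21_0 lc_a_rc_4_2 lc_a_rc_5_2 lc_a_rc_21_0 lc_a_rc_2_2 lc_a_rc_1_2 lc_a_rc_4_2 lc_a_rc_2_2 lc_a_rc_4_2 lc_a_rc_5_0 lc_a_rc_3_2 lc_a_rc_1_2 lc_a_rc_0_1 lc_a_rc_5_0 lc_a_rc_4_2 lc_a_rc_21_0 lc_a_rc_3_2) (@D3.rec (fun _ => (Cert rels S Gen.a)) lc_a_rc_2_2 lc_a_rc_2_2 lc_a_rc_4_2 lc_a_rc_0_1 lc_a_rc_3_2 lc_a_rc_0_1 lc_a_rc_2_2 lc_a_rc_21_0 lc_a_rc_5_0 lc_a_rc_5_0 lc_a_rc_4_2 lc_a_rc_2_2 lc_a_rc_4_2 lc_a_rc_4_2 lc_a_rc_0_1 lc_a_rc_3_2 lc_a_rc_5_2 lc_a_rc_3_2 lc_a_rc_2_2 lc_a_rc_3_2 lc_a_rc_21_0 lc_a_rc_21_0 lc_a_rc_3_2 lc_a_rc_2_2 lc_a_rc_21_0 lc_a_rc_3_2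 lc_a_rc_4_2 lc_a_rc_0_1 lc_a_rc_21_0 lc_a_rc_3_2 lc_a_rc_5_2 lc_a_Cert_tree lc_a_rc_4_2 lc_a_Cert_tree lc_a_rc_5_0 lc_a_rc_3_2 lc_a_rc_5_0 lc_a_rc_2_2 lc_a_rc_21_0 lc_a_rc_5_0 lc_a_rc_5_0 lc_a_Cert_tree lc_a_rc_1_4 lc_a_rc_4_2 lc_a_rc_0_1 lc_a_rc_0_1 lc_a_rc_2_2 lc_a_rc_21_0 lc_a_rc_0_1 lc_a_rc_3_2 lc_a_Cert_tree lc_a_rc_2_2 lc_a_rc_4_2 lc_a_rc_4_2 lc_a_rc_21_0 lc_a_rc_1_4 lc_a_rc_0_1 lc_a_rc_3_2 lc_a_rc_1_2 lc_a_rc_0_1 lc_a_rc_3_2 lc_a_rc_5_0) (@D3.rec (fun _ => (Cert rels S Gen.a)) lc_a_rc_5_0 lc_a_rc_5_0 lc_a_rc_4_2 lc_a_rc_0_1 lc_a_rc_0_1 lc_a_rc_21_0 lc_a_rc_4_2 lc_a_rc_3_2 lc_a_rc_2_2 lc_a_rc_2_2 lc_a_rc_4_2 lc_a_rc_3_2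 lc_a_rc_2_2 lc_a_rc_4_2 lc_a_rc_3_2 lc_a_rc_21_0 lc_a_rc_21_0 lc_a_rc_3_2 lc_a_rc_3_2 lc_a_rc_2_2 lc_a_rc_3_2 lc_a_rc_21_0 lc_a_rc_2_2 lc_a_rc_2_0 lc_a_rc_4_2 lc_a_rc_1_2 lc_a_rc_1_2 lc_a_rc_3_2 lc_a_rc_5_2 lc_a_rc_5_0 lc_a_rc_5_0 lc_a_rc_3_2 lc_a_rc_2_2 lc_a_rc_3_2 lc_a_Cert_tree lc_a_rc_4_2 lc_a_rc_3_2 lc_a_Cert_tree lc_a_rc_4_2 lc_a_rc_5_2 lc_a_rc_0_1 lc_a_rc_4_2 lc_a_rc_5_0 lc_a_rc_4_2 lc_a_rc_3_2 lc_a_rc_5_0 lc_a_rc_5_0 lc_a_rc_21_0 lc_a_rc_3_2 lc_a_rc_2_2 lc_a_rc_4_2 lc_a_rc_5_0 lc_a_rc_2_2 lc_a_rc_3_2 lc_a_rc_4_2 lc_a_rc_5_0 lc_a_rc_3_2 lc_a_rc_5_2 lc_a_Cert_tree lc_a_rc_4_2 lc_a_rc_0_1 lc_a_rc_3_2) (@D3.rec (fun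 _ => (Cert rels S Gen.a)) lc_a_rc_3_2 lc_a_rc_2_2 lc_a_rc_4_2 lc_a_rc_2_2 lc_a_rc_5_0 lc_a_rc_3_2 lc_a_rc_4_2 lc_a_rc_3_0 lc_a_rc_3_0 lc_a_rc_0_1 lc_a_rc_2_2 lc_a_rc_0_1 lc_a_rc_2_2 lc_a_rc_4_2 lc_a_rc_4_2 lc_a_rc_21_0 lc_a_rc_3_2 lc_a_rc_21_0 lc_a_rc_21_0 lc_a_rc_3_2 lc_a_rc_21_0 lc_a_rc_4_2 lc_a_rc_3_2 lc_a_rc_3_2 lc_a_rc_2_2 lc_a_rc_4_2 lc_a_rc_2_2 lc_a_rc_4_2 lc_a_rc_21_0 lc_a_rc_4_2 lc_a_rc_3_2 lc_a_rc_2_2 lc_a_rc_4_2 lc_a_rc_2_0 lc_a_rc_2_2 lc_a_rc_3_2 lc_a_rc_4_2 lc_a_rc_0_1 lc_a_rc_21_0 lc_a_rc_5_2 lc_a_rc_21_0 lc_a_Cert_tree lc_a_rc_4_2 lc_a_rc_0_1 lc_a_rc_4_2 lc_a_rc_2_0 lc_a_rc_2_0 lc_a_rc_21_0 lc_a_rc_21_0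 lc_a_rc_3_2 lc_a_rc_0_1 lc_a_rc_3_2 lc_a_rc_0_1 lc_a_rc_3_2 lc_a_rc_2_2 lc_a_rc_2_2 lc_a_rc_3_2 lc_a_rc_21_0 lc_a_rc_3_2 lc_a_rc_3_2 lc_a_rc_4_2 lc_a_rc_2_2) (@D3.rec (fun _ => (Cert rels S Gen.a)) lc_a_rc_4_2 lc_a_rc_1_2 lc_a_rc_3_2 lc_a_rc_4_2 lc_a_rc_3_2 lc_a_rc_2_2 lc_a_rc_3_2 lc_a_rc_21_0 lc_a_rc_2_2 lc_a_rc_4_2 lc_a_rc_21_0 lc_a_rc_2_2 lc_a_rc_21_0 lc_a_rc_21_0 lc_a_rc_4_2 lc_a_rc_3_2 lc_a_rc_2_2 lc_a_rc_4_2 lc_a_rc_2_2 lc_a_rc_21_0 lc_a_rc_3_2 lc_a_rc_4_2 lc_a_rc_3_0 lc_a_rc_3_0 lc_a_rc_1_2 lc_a_rc_1_4 lc_a_rc_1_4 lc_a_rc_4_2 lc_a_rc_2_2 lc_a_rc_4_2 lc_a_rc_3_2 lc_a_rc_3_2 lc_a_rc_21_0 lc_a_rc_3_2 lc_a_rc_1_4 lc_a_rc_3_2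 lc_a_rc_21_0 lc_a_rc_2_2 lc_a_rc_4_2 lc_a_rc_4_2 lc_a_rc_3_2 lc_a_rc_2_2 lc_a_rc_3_2 lc_a_rc_3_2 lc_a_rc_1_2 lc_a_rc_21_0 lc_a_rc_3_2 lc_a_rc_2_2 lc_a_rc_4_2 lc_a_rc_3_2 lc_a_rc_4_2 lc_a_rc_21_0 lc_a_rc_2_2 lc_a_Cert_tree lc_a_rc_3_2 lc_a_rc_4_2 lc_a_rc_0_1 lc_a_rc_5_2 lc_a_rc_3_2 lc_a_rc_4_2 lc_a_rc_22_0 lc_a_rc_4_2) (@D3.rec (fun _ => (Cert rels S Gen.a)) lc_a_rc_5_0 lc_a_rc_4_2 lc_a_rc_2_2 lc_a_rc_3_0 lc_a_rc_21_0 lc_a_rc_2_2 lc_a_rc_21_0 lc_a_Cert_tree lc_a_rc_2_2 lc_a_rc_4_2 lc_a_rc_2_2 lc_a_rc_3_2 lc_a_rc_2_2 lc_a_rc_4_2 lc_a_rc_3_0 lc_a_rc_2_2 lc_a_rc_4_2 lc_a_rc_2_2 lc_a_rc_21_0 lc_a_Cert_tree lc_a_rc_3_2 lc_a_rc_4_2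 lc_a_rc_1_4 lc_a_rc_1_4 lc_a_rc_5_2 lc_a_rc_0_1 lc_a_rc_2_2 lc_a_rc_4_2 lc_a_rc_2_2 lc_a_rc_2_2 lc_a_Cert_tree lc_a_rc_3_2 lc_a_rc_4_2 lc_a_rc_0_1 lc_a_rc_21_0 lc_a_rc_21_0 lc_a_rc_0_1 lc_a_rc_0_1 lc_a_rc_4_2 lc_a_Cert_tree lc_a_rc_3_2 lc_a_rc_4_2 lc_a_rc_2_2 lc_a_rc_4_2 lc_a_rc_21_0 lc_a_Cert_tree lc_a_rc_3_2 lc_a_rc_21_0 lc_a_rc_4_2 lc_a_Cert_tree lc_a_rc_3_2 lc_a_rc_2_2 lc_a_rc_4_2 lc_a_rc_2_2 lc_a_rc_0_1 lc_a_rc_3_2 lc_a_rc_4_2 lc_a_rc_3_2 lc_a_rc_3_2 lc_a_rc_0_1 lc_a_rc_4_2 lc_a_rc_22_0) (@D3.rec (fun _ => (Cert rels S Gen.a)) lc_a_rc_21_0 lc_a_rc_2_2 lc_a_rc_3_2 lc_a_rc_5_2 lc_a_rc_4_2 lc_a_Cert_tree lc_a_rc_2_2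 lc_a_rc_3_2 lc_a_rc_4_2 lc_a_Cert_tree lc_a_rc_2_2 lc_a_rc_1_4 lc_a_rc_4_2 lc_a_rc_4_2 lc_a_rc_1_2 lc_a_rc_5_2 lc_a_rc_4_2 lc_a_rc_21_0 lc_a_rc_2_2 lc_a_rc_21_0 lc_a_rc_5_2 lc_a_rc_0_1 lc_a_rc_2_2 lc_a_rc_2_2 lc_a_rc_4_2 lc_a_rc_2_2 lc_a_rc_21_0 lc_a_rc_3_2 lc_a_rc_4_2 lc_a_rc_1_4 lc_a_rc_21_0 lc_a_rc_5_2 lc_a_rc_21_0 lc_a_rc_3_2 lc_a_rc_3_2 lc_a_rc_2_2 lc_a_rc_2_2 lc_a_rc_4_2 lc_a_rc_2_2 lc_a_rc_2_2 lc_a_rc_3_2 lc_a_rc_4_2 lc_a_rc_5_0 lc_a_rc_4_2 lc_a_rc_3_2 lc_a_rc_5_2 lc_a_rc_2_2 lc_a_rc_4_2 lc_a_rc_5_0 lc_a_rc_3_2 lc_a_rc_5_2 lc_a_rc_21_0 lc_a_rc_4_2 lc_a_rc_1_4 lc_a_rc_2_2 lc_a_rc_4_2 lc_a_rc_4_2 lc_a_rc_0_1 lc_a_rc_3_0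 lc_a_rc_3_2 lc_a_rc_5_2 lc_a_rc_21_0) (@D3.rec (fun _ => (Cert rels S Gen.a)) lc_a_rc_4_2 lc_a_rc_21_0 lc_a_rc_3_2 lc_a_rc_5_2 lc_a_rc_3_0 lc_a_rc_0_1 lc_a_rc_2_2 lc_a_rc_3_2 lc_a_rc_4_2 lc_a_rc_21_0 lc_a_rc_21_0 lc_a_rc_0_1 lc_a_rc_2_2 lc_a_rc_4_2 lc_a_rc_21_0 lc_a_rc_3_2 lc_a_rc_21_0 lc_a_rc_0_1 lc_a_rc_4_2 lc_a_Cert_tree lc_a_rc_4_2 lc_a_rc_4_2 lc_a_rc_2_2 lc_a_rc_3_2 lc_a_rc_5_2 lc_a_rc_0_1 lc_a_rc_3_2 lc_a_rc_2_2 lc_a_rc_4_2 lc_a_rc_2_2 lc_a_rc_5_2 lc_a_rc_2_2 lc_a_rc_4_2 lc_a_rc_4_2 lc_a_rc_4_2 lc_a_Cert_tree lc_a_rc_3_2 lc_a_rc_1_2 lc_a_rc_4_2 lc_a_rc_4_2 lc_a_rc_4_2 lc_a_rc_4_2 lc_a_rc_21_0 lc_a_rc_3_2 lc_a_rc_5_2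 lc_a_rc_3_2 lc_a_rc_3_2 lc_a_rc_2_2 lc_a_rc_5_2 lc_a_rc_21_0 lc_a_rc_21_0 lc_a_rc_0_1 lc_a_rc_1_4 lc_a_rc_4_2 lc_a_rc_2_2 lc_a_rc_5_0 lc_a_rc_21_0 lc_a_rc_5_0 lc_a_Cert_tree lc_a_rc_3_2 lc_a_rc_5_2 lc_a_rc_5_0) (@D3.rec (fun _ => (Cert rels S Gen.a)) lc_a_rc_0_1 lc_a_rc_0_1 lc_a_rc_3_2 lc_a_rc_4_2 lc_a_rc_3_2 lc_a_rc_1_4 lc_a_rc_5_2 lc_a_rc_3_2 lc_a_rc_1_2 lc_a_rc_4_2 lc_a_rc_2_2 lc_a_rc_5_2 lc_a_Cert_tree lc_a_rc_3_2 lc_a_rc_4_0 lc_a_rc_5_2 lc_a_rc_3_2 lc_a_rc_1_2 lc_a_rc_5_0 lc_a_rc_22_0 lc_a_rc_5_2 lc_a_rc_5_2 lc_a_rc_4_2 lc_a_rc_4_2 lc_a_Cert_tree lc_a_rc_3_2 lc_a_rc_22_0 lc_a_rc_4_2 lc_a_rc_4_2 lc_a_rc_4_2 lc_a_rc_3_2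 lc_a_rc_5_2 lc_a_rc_5_0 lc_a_rc_2_2 lc_a_rc_3_2 lc_a_rc_5_2 lc_a_rc_4_2 lc_a_rc_1_4 lc_a_rc_3_2 lc_a_rc_2_2 lc_a_rc_4_2 lc_a_rc_21_0 lc_a_rc_3_0 lc_a_rc_1_4 lc_a_rc_22_0 lc_a_rc_5_2 lc_a_rc_4_2 lc_a_rc_2_2 lc_a_rc_4_0 lc_a_rc_5_2 lc_a_rc_4_2 lc_a_rc_3_2 lc_a_rc_22_0 lc_a_rc_2_2 lc_a_rc_4_2 lc_a_rc_3_2 lc_a_rc_1_2 lc_a_rc_1_2 lc_a_rc_22_0 lc_a_rc_5_2 lc_a_rc_22_0 lc_a_rc_22_0) (@D3.rec (fun _ => (Cert rels S Gen.a)) lc_a_rc_4_2 lc_a_rc_3_2 lc_a_rc_5_2 lc_a_rc_4_2 lc_a_rc_22_0 lc_a_rc_22_0 lc_a_rc_3_2 lc_a_rc_21_0 lc_a_rc_3_2 lc_a_rc_5_2 lc_a_rc_21_0 lc_a_rc_5_0 lc_a_rc_21_0 lc_a_Cert_tree lc_a_rc_3_2 lc_a_rc_5_2 lc_a_rc_2_2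 lc_a_rc_3_2 lc_a_rc_2_2 lc_a_rc_5_2 lc_a_rc_5_0 lc_a_rc_1_2 lc_a_rc_1_2 lc_a_rc_5_0 lc_a_rc_4_2 lc_a_rc_4_2 lc_a_rc_3_2 lc_a_rc_22_0 lc_a_rc_4_2 lc_a_rc_3_2 lc_a_rc_5_2 lc_a_rc_2_2 lc_a_rc_3_2 lc_a_rc_3_2 lc_a_rc_2_2 lc_a_rc_21_0 lc_a_rc_5_0 lc_a_rc_4_2 lc_a_rc_3_2 lc_a_rc_0_1 lc_a_rc_21_0 lc_a_rc_2_2 lc_a_rc_5_2 lc_a_rc_1_4 lc_a_rc_1_4 lc_a_rc_4_2 lc_a_rc_2_2 lc_a_rc_4_2 lc_a_rc_4_2 lc_a_rc_21_0 lc_a_rc_3_2 lc_a_rc_5_2 lc_a_rc_21_0 lc_a_rc_3_2 lc_a_rc_2_2 lc_a_rc_5_2 lc_a_rc_21_0 lc_a_rc_22_0 lc_a_rc_4_2 lc_a_rc_3_2 lc_a_rc_4_2 lc_a_rc_21_0) (@D3.rec (fun _ => (Cert rels S Gen.a)) lc_a_rc_4_2 lc_a_rc_5_0 lc_a_rc_21_0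 lc_a_rc_21_0 lc_a_rc_2_2 lc_a_rc_4_2 lc_a_Cert_tree lc_a_rc_22_0 lc_a_rc_5_2 lc_a_rc_2_2 lc_a_rc_1_2 lc_a_rc_4_2 lc_a_rc_4_2 lc_a_rc_4_2 lc_a_rc_21_0 lc_a_rc_3_2 lc_a_rc_3_2 lc_a_rc_5_2 lc_a_rc_2_2 lc_a_rc_1_4 lc_a_rc_0_1 lc_a_rc_1_2 lc_a_rc_4_2 lc_a_rc_0_1 lc_a_rc_2_2 lc_a_rc_5_2 lc_a_rc_4_2 lc_a_rc_4_2 lc_a_rc_2_2 lc_a_rc_3_2 lc_a_rc_4_2 lc_a_rc_5_0 lc_a_rc_4_2 lc_a_Cert_tree lc_a_rc_22_0 lc_a_rc_5_2 lc_a_rc_4_2 lc_a_rc_3_0 lc_a_rc_4_2 lc_a_rc_0_1 lc_a_rc_3_2 lc_a_rc_5_2 lc_a_rc_4_2 lc_a_rc_4_2 lc_a_rc_1_4 lc_a_rc_3_2 lc_a_rc_5_2 lc_a_rc_4_2 lc_a_rc_4_2 lc_a_rc_3_2 lc_a_rc_5_2 lc_a_rc_4_2 lc_a_rc_21_0 lc_a_rc_3_2 lc_a_rc_1_4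 lc_a_Cert_tree lc_a_rc_4_2 lc_a_rc_3_2 lc_a_rc_22_0 lc_a_rc_4_2 lc_a_rc_21_0 lc_a_rc_2_2) (@D3.rec (fun _ => (Cert rels S Gen.a)) lc_a_rc_5_2 lc_a_rc_2_0 lc_a_rc_0_1 lc_a_rc_5_0 lc_a_rc_3_2 lc_a_rc_4_2 lc_a_rc_3_2 lc_a_rc_21_0 lc_a_rc_4_2 lc_a_rc_2_2 lc_a_rc_1_2 lc_a_rc_21_0 lc_a_rc_0_1 lc_a_rc_3_2 lc_a_rc_4_2 lc_a_rc_2_2 lc_a_rc_3_2 lc_a_rc_3_2 lc_a_rc_21_0 lc_a_Cert_tree lc_a_rc_3_2 lc_a_rc_4_2 lc_a_Cert_tree lc_a_rc_2_2 lc_a_rc_4_2 lc_a_rc_3_2 lc_a_rc_2_2 lc_a_Cert_tree lc_a_rc_2_0 lc_a_rc_2_2 lc_a_rc_4_2 lc_a_rc_2_2 lc_a_rc_5_0 lc_a_rc_4_2 lc_a_rc_3_2 lc_a_rc_4_2 lc_a_rc_3_2 lc_a_rc_22_0 lc_a_rc_5_0 lc_a_rc_0_1 lc_a_rc_3_2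 lc_a_rc_4_2 lc_a_rc_3_2 lc_a_rc_1_4 lc_a_rc_5_0 lc_a_rc_4_2 lc_a_rc_4_2 lc_a_rc_1_4 lc_a_rc_21_0 lc_a_rc_0_1 lc_a_Cert_tree lc_a_rc_4_2 lc_a_rc_21_0 lc_a_rc_0_1 lc_a_rc_3_2 lc_a_rc_4_2 lc_a_rc_2_2 lc_a_rc_3_2 lc_a_rc_21_0 lc_a_rc_21_0 lc_a_Cert_tree lc_a_rc_0_1) (@D3.rec (fun _ => (Cert rels S Gen.a)) lc_a_rc_4_2 lc_a_rc_3_2 lc_a_rc_4_2 lc_a_rc_3_2 lc_a_rc_2_2 lc_a_rc_5_2 lc_a_rc_3_0 lc_a_rc_4_2 lc_a_rc_2_2 lc_a_rc_4_2 lc_a_rc_4_2 lc_a_rc_4_2 lc_a_rc_4_2 lc_a_rc_21_0 lc_a_rc_3_2 lc_a_rc_5_2 lc_a_rc_21_0 lc_a_rc_4_2 lc_a_rc_5_2 lc_a_rc_5_0 lc_a_rc_1_2 lc_a_rc_2_2 lc_a_rc_3_2 lc_a_rc_2_2 lc_a_rc_2_2 lc_a_rc_2_2 lc_a_rc_3_2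 lc_a_rc_2_2 lc_a_rc_1_4 lc_a_rc_21_0 lc_a_rc_5_2 lc_a_rc_1_2 lc_a_rc_1_4 lc_a_rc_0_1 lc_a_rc_0_1 lc_a_rc_22_0 lc_a_rc_2_0 lc_a_rc_2_2 lc_a_rc_3_2 lc_a_rc_5_2 lc_a_rc_3_2 lc_a_rc_2_2 lc_a_rc_2_2 lc_a_rc_21_0 lc_a_rc_3_2 lc_a_rc_4_2 lc_a_rc_21_0 lc_a_rc_3_2 lc_a_rc_2_2 lc_a_rc_5_2 lc_a_rc_0_1 lc_a_rc_0_1 lc_a_rc_3_2 lc_a_rc_4_2 lc_a_rc_3_2 lc_a_rc_3_0 lc_a_rc_2_2 lc_a_rc_4_2 lc_a_rc_2_2 lc_a_rc_1_4 lc_a_rc_2_0 lc_a_rc_0_1)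
def ce_a_1 : D2 → D3 → (Cert rels S Gen.a) := @D2.rec (fun _ => D3 → (Cert rels S Gen.a)) (@D3.rec (fun _ => (Cert rels S Gen.a)) lc_a_rc_3_2 lc_a_rc_4_2 lc_a_rc_2_2 lc_a_rc_3_2 lc_a_rc_2_2 lc_a_rc_2_2 lc_a_Cert_tree lc_a_rc_3_2 lc_a_rc_4_2 lc_a_Cert_tree lc_a_rc_3_2 lc_a_rc_4_2 lc_a_rc_3_2 lc_a_rc_2_2 lc_a_Cert_tree lc_a_rc_4_2 lc_a_rc_1_4 lc_a_rc_0_1 lc_a_rc_3_2 lc_a_rc_4_2 lc_a_rc_21_0 lc_a_rc_2_2 lc_a_rc_4_2 lc_a_rc_4_2 lc_a_rc_0_1 lc_a_rc_1_2 lc_a_rc_0_1 lc_a_Cert_tree lc_a_rc_4_2 lc_a_rc_4_2 lc_a_rc_3_2 lc_a_rc_5_2 lc_a_rc_2_2 lc_a_rc_0_1 lc_a_rc_3_2 lc_a_rc_2_2 lc_a_rc_2_2 lc_a_rc_0_1 lc_a_rc_3_2 lc_a_rc_4_2 lc_a_rc_2_2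 lc_a_rc_3_2 lc_a_rc_3_2 lc_a_rc_2_2 lc_a_Cert_tree lc_a_rc_2_2 lc_a_rc_2_2 lc_a_rc_3_2 lc_a_rc_5_2 lc_a_rc_2_2 lc_a_rc_4_2 lc_a_rc_4_2 lc_a_rc_2_2 lc_a_rc_5_2 lc_a_rc_1_2 lc_a_rc_21_0 lc_a_rc_3_2 lc_a_rc_21_0 lc_a_rc_5_0 lc_a_rc_5_0 lc_a_rc_21_0 lc_a_rc_2_2) (@D3.rec (fun _ => (Cert rels S Gen.a)) lc_a_rc_5_2 lc_a_rc_3_2 lc_a_rc_21_0 lc_a_rc_0_1 lc_a_rc_1_2 lc_a_rc_3_2 lc_a_rc_3_2 lc_a_rc_21_0 lc_a_rc_4_2 lc_a_rc_4_2 lc_a_rc_4_2 lc_a_rc_4_2 lc_a_rc_3_2 lc_a_rc_22_0 lc_a_rc_4_2 lc_a_rc_3_2 lc_a_rc_5_2 lc_a_rc_3_2 lc_a_rc_22_0 lc_a_rc_2_2 lc_a_rc_3_2 lc_a_rc_4_2 lc_a_rc_3_2 lc_a_rc_3_2 lc_a_rc_2_2 lc_a_rc_5_2 lc_a_rc_4_2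 lc_a_rc_21_0 lc_a_rc_22_0 lc_a_rc_3_0 lc_a_rc_21_0 lc_a_rc_21_0 lc_a_rc_4_2 lc_a_rc_0_1 lc_a_rc_1_4 lc_a_rc_3_2 lc_a_rc_4_2 lc_a_rc_2_2 lc_a_rc_4_2 lc_a_rc_22_0 lc_a_rc_5_0 lc_a_rc_4_2 lc_a_rc_4_2 lc_a_rc_2_2 lc_a_Cert_tree lc_a_rc_22_0 lc_a_rc_5_2 lc_a_rc_1_2 lc_a_rc_2_2 lc_a_rc_2_2 lc_a_Cert_tree lc_a_rc_21_0 lc_a_rc_4_2 lc_a_rc_5_0 lc_a_rc_21_0 lc_a_Cert_tree lc_a_rc_2_2 lc_a_rc_4_2 lc_a_rc_5_0 lc_a_rc_4_2 lc_a_Cert_tree lc_a_rc_3_2) (@D3.rec (fun _ => (Cert rels S Gen.a)) lc_a_Cert_tree lc_a_rc_2_2 lc_a_rc_4_2 lc_a_rc_5_0 lc_a_rc_3_2 lc_a_rc_4_0 lc_a_rc_3_2 lc_a_rc_2_2 lc_a_Cert_tree lc_a_rc_2_2 lc_a_rc_2_2 lc_a_Cert_tree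 lc_a_rc_0_1 lc_a_rc_0_1 lc_a_rc_3_2 lc_a_rc_21_0 lc_a_rc_1_4 lc_a_rc_2_2 lc_a_rc_4_2 lc_a_rc_22_0 lc_a_rc_4_2 lc_a_rc_5_0 lc_a_rc_3_2 lc_a_rc_4_2 lc_a_rc_2_2 lc_a_rc_3_2 lc_a_rc_5_2 lc_a_rc_2_2 lc_a_rc_3_2 lc_a_rc_5_2 lc_a_rc_1_0 lc_a_rc_3_2 lc_a_rc_5_2 lc_a_rc_2_0 lc_a_rc_3_2 lc_a_rc_4_2 lc_a_rc_21_0 lc_a_rc_21_0 lc_a_rc_3_2 lc_a_rc_21_0 lc_a_rc_2_2 lc_a_rc_5_2 lc_a_rc_3_2 lc_a_rc_3_2 lc_a_rc_21_0 lc_a_rc_21_0 lc_a_rc_1_4 lc_a_rc_4_2 lc_a_rc_1_4 lc_a_rc_21_0 lc_a_rc_3_2 lc_a_rc_4_2 lc_a_rc_2_2 lc_a_rc_4_2 lc_a_rc_5_0 lc_a_rc_2_2 lc_a_rc_4_2 lc_a_Cert_tree lc_a_rc_3_2 lc_a_rc_4_2 lc_a_rc_21_0 lc_a_rc_2_2) (@D3.rec (fun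 _ => (Cert rels S Gen.a)) lc_a_Cert_tree lc_a_rc_3_2 lc_a_rc_22_0 lc_a_rc_4_2 lc_a_rc_2_2 lc_a_rc_3_2 lc_a_rc_4_2 lc_a_rc_1_4 lc_a_rc_1_4 lc_a_rc_2_2 lc_a_rc_3_2 lc_a_rc_21_0 lc_a_rc_2_2 lc_a_rc_21_0 lc_a_rc_2_2 lc_a_rc_2_0 lc_a_rc_2_2 lc_a_rc_2_2 lc_a_rc_4_2 lc_a_rc_21_0 lc_a_rc_21_0 lc_a_rc_3_2 lc_a_rc_0_1 lc_a_rc_2_2 lc_a_rc_3_2 lc_a_Cert_tree lc_a_rc_3_2 lc_a_rc_3_2 lc_a_rc_2_2 lc_a_rc_2_0 lc_a_rc_2_2 lc_a_rc_1_4 lc_a_rc_21_0 lc_a_rc_5_2 lc_a_Cert_tree lc_a_rc_21_0 lc_a_rc_4_2 lc_a_rc_21_0 lc_a_rc_5_2 lc_a_Cert_tree lc_a_rc_3_2 lc_a_rc_2_2 lc_a_Cert_tree lc_a_rc_5_0 lc_a_rc_4_2 lc_a_rc_1_4 lc_a_rc_0_1 lc_a_rc_0_1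 lc_a_rc_3_2 lc_a_rc_21_0 lc_a_rc_2_2 lc_a_rc_21_0 lc_a_rc_22_0 lc_a_rc_4_2 lc_a_rc_22_0 lc_a_rc_5_2 lc_a_rc_3_2 lc_a_Cert_tree lc_a_rc_5_0 lc_a_rc_0_1 lc_a_rc_3_2 lc_a_rc_2_0) (@D3.rec (fun _ => (Cert rels S Gen.a)) lc_a_rc_4_2 lc_a_rc_3_2 lc_a_rc_0_1 lc_a_rc_1_4 lc_a_rc_21_0 lc_a_rc_21_0 lc_a_rc_21_0 lc_a_rc_3_2 lc_a_rc_3_2 lc_a_rc_0_1 lc_a_rc_3_2 lc_a_rc_4_2 lc_a_rc_3_2 lc_a_rc_5_0 lc_a_rc_4_2 lc_a_rc_21_0 lc_a_rc_1_4 lc_a_rc_0_1 lc_a_rc_3_2 lc_a_rc_3_2 lc_a_rc_21_0 lc_a_rc_3_2 lc_a_rc_0_1 lc_a_rc_3_2 lc_a_rc_4_2 lc_a_rc_4_2 lc_a_rc_2_2 lc_a_rc_21_0 lc_a_rc_3_2 lc_a_rc_4_2 lc_a_rc_4_2 lc_a_rc_2_2 lc_a_rc_3_2 lc_a_rc_2_2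 lc_a_rc_0_1 lc_a_rc_3_2 lc_a_rc_4_2 lc_a_rc_3_2 lc_a_rc_22_0 lc_a_rc_22_0 lc_a_rc_21_0 lc_a_rc_0_1 lc_a_rc_0_1 lc_a_rc_2_2 lc_a_rc_3_2 lc_a_rc_4_2 lc_a_rc_4_2 lc_a_rc_3_2 lc_a_rc_4_2 lc_a_rc_0_1 lc_a_rc_0_1 lc_a_Cert_tree lc_a_rc_2_2 lc_a_rc_3_2 lc_a_rc_4_2 lc_a_rc_5_2 lc_a_Cert_tree lc_a_rc_2_2 lc_a_rc_3_2 lc_a_rc_4_2 lc_a_rc_3_2 lc_a_rc_21_0) (@D3.rec (fun _ => (Cert rels S Gen.a)) lc_a_rc_2_2 lc_a_rc_2_2 lc_a_rc_4_2 lc_a_rc_4_2 lc_a_Cert_tree lc_a_rc_4_2 lc_a_Cert_tree lc_a_rc_4_2 lc_a_rc_5_0 lc_a_rc_0_1 lc_a_rc_5_2 lc_a_rc_21_0 lc_a_rc_2_2 lc_a_rc_3_2 lc_a_rc_4_2 lc_a_rc_4_2 lc_a_rc_3_2 lc_a_rc_0_1 lc_a_rc_5_0 lc_a_rc_2_0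 lc_a_Cert_tree lc_a_rc_3_2 lc_a_rc_2_2 lc_a_Cert_tree lc_a_rc_3_2 lc_a_rc_5_2 lc_a_rc_2_2 lc_a_rc_0_1 lc_a_rc_21_0 lc_a_rc_4_2 lc_a_rc_2_2 lc_a_rc_4_2 lc_a_rc_2_0 lc_a_rc_22_0 lc_a_rc_4_2 lc_a_rc_3_2 lc_a_rc_3_0 lc_a_rc_0_1 lc_a_rc_2_2 lc_a_rc_4_2 lc_a_Cert_tree lc_a_rc_4_2 lc_a_rc_3_2 lc_a_rc_5_0 lc_a_rc_5_2 lc_a_rc_3_0 lc_a_rc_3_2 lc_a_rc_2_2 lc_a_rc_21_0 lc_a_rc_0_1 lc_a_rc_4_2 lc_a_rc_3_2 lc_a_rc_5_2 lc_a_rc_0_1 lc_a_rc_4_2 lc_a_rc_5_0 lc_a_rc_21_0 lc_a_rc_4_2 lc_a_rc_21_0 lc_a_rc_2_0 lc_a_rc_0_1 lc_a_rc_1_4) (@D3.rec (fun _ => (Cert rels S Gen.a)) lc_a_rc_1_2 lc_a_rc_3_2 lc_a_rc_4_2 lc_a_rc_3_2 lc_a_rc_3_2 lc_a_rc_2_2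 lc_a_rc_4_2 lc_a_rc_4_2 lc_a_rc_5_0 lc_a_rc_3_2 lc_a_rc_5_2 lc_a_rc_4_2 lc_a_rc_5_0 lc_a_rc_3_2 lc_a_rc_5_2 lc_a_rc_3_2 lc_a_Cert_tree lc_a_rc_5_0 lc_a_rc_2_2 lc_a_rc_3_2 lc_a_Cert_tree lc_a_rc_3_2 lc_a_rc_4_2 lc_a_Cert_tree lc_a_rc_1_4 lc_a_rc_4_2 lc_a_rc_4_2 lc_a_rc_3_2 lc_a_rc_4_0 lc_a_rc_2_2 lc_a_rc_21_0 lc_a_rc_0_1 lc_a_rc_4_2 lc_a_rc_3_2 lc_a_rc_5_2 lc_a_rc_21_0 lc_a_rc_3_2 lc_a_rc_5_0 lc_a_rc_21_0 lc_a_rc_1_2 lc_a_rc_2_2 lc_a_rc_4_2 lc_a_rc_3_2 lc_a_rc_4_2 lc_a_rc_21_0 lc_a_rc_2_2 lc_a_rc_2_2 lc_a_rc_4_2 lc_a_rc_5_0 lc_a_rc_3_2 lc_a_rc_21_0 lc_a_rc_0_1 lc_a_rc_5_0 lc_a_rc_3_2 lc_a_rc_5_2 lc_a_rc_2_2 lc_a_rc_5_2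 lc_a_rc_4_2 lc_a_rc_1_4 lc_a_rc_3_2 lc_a_rc_2_2 lc_a_rc_5_0) (@D3.rec (fun _ => (Cert rels S Gen.a)) lc_a_rc_3_2 lc_a_rc_5_0 lc_a_rc_3_2 lc_a_rc_3_2 lc_a_rc_1_4 lc_a_rc_21_0 lc_a_rc_3_2 lc_a_rc_4_2 lc_a_rc_2_2 lc_a_rc_1_2 lc_a_rc_21_0 lc_a_rc_3_2 lc_a_rc_22_0 lc_a_rc_4_2 lc_a_rc_3_2 lc_a_rc_2_2 lc_a_rc_3_2 lc_a_rc_2_2 lc_a_rc_2_2 lc_a_rc_2_2 lc_a_rc_4_2 lc_a_rc_3_2 lc_a_rc_3_2 lc_a_rc_5_2 lc_a_rc_5_0 lc_a_rc_4_2 lc_a_rc_5_2 lc_a_rc_3_2 lc_a_rc_4_2 lc_a_rc_5_2 lc_a_rc_2_2 lc_a_rc_3_2 lc_a_rc_5_2 lc_a_rc_3_2 lc_a_rc_2_2 lc_a_rc_22_0 lc_a_rc_4_2 lc_a_rc_4_2 lc_a_rc_3_2 lc_a_rc_4_2 lc_a_rc_2_2 lc_a_rc_0_1 lc_a_rc_21_0 lc_a_rc_0_1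 lc_a_rc_2_2 lc_a_rc_4_2 lc_a_rc_3_2 lc_a_rc_0_1 lc_a_rc_4_2 lc_a_Cert_tree lc_a_rc_21_0 lc_a_rc_4_2 lc_a_rc_2_2 lc_a_rc_21_0 lc_a_Cert_tree lc_a_rc_3_2 lc_a_rc_4_2 lc_a_rc_2_2 lc_a_rc_3_0 lc_a_rc_0_1 lc_a_rc_5_2 lc_a_rc_4_2) (@D3.rec (fun _ => (Cert rels S Gen.a)) lc_a_rc_4_2 lc_a_rc_5_0 lc_a_rc_3_2 lc_a_rc_0_1 lc_a_rc_2_2 lc_a_rc_4_2 lc_a_rc_5_0 lc_a_Cert_tree lc_a_rc_3_2 lc_a_rc_5_2 lc_a_rc_0_1 lc_a_rc_2_2 lc_a_rc_4_2 lc_a_rc_5_0 lc_a_rc_4_2 lc_a_rc_3_2 lc_a_rc_5_2 lc_a_rc_3_0 lc_a_rc_3_0 lc_a_rc_0_1 lc_a_rc_4_2 lc_a_rc_5_0 lc_a_rc_4_2 lc_a_rc_3_2 lc_a_rc_5_2 lc_a_rc_3_0 lc_a_rc_2_2 lc_a_rc_4_2 lc_a_Cert_tree lc_a_rc_4_2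 lc_a_rc_21_0 lc_a_rc_5_2 lc_a_rc_5_0 lc_a_rc_0_1 lc_a_rc_3_2 lc_a_rc_5_0 lc_a_rc_3_0 lc_a_rc_2_2 lc_a_rc_2_2 lc_a_rc_4_2 lc_a_rc_21_0 lc_a_rc_4_0 lc_a_rc_5_2 lc_a_rc_4_2 lc_a_rc_4_2 lc_a_rc_3_2 lc_a_rc_5_2 lc_a_rc_4_2 lc_a_rc_4_2 lc_a_rc_3_2 lc_a_rc_0_1 lc_a_Cert_tree lc_a_rc_21_0 lc_a_rc_21_0 lc_a_rc_21_0 lc_a_rc_3_2 lc_a_rc_2_2 lc_a_rc_2_2 lc_a_rc_5_2 lc_a_Cert_tree lc_a_rc_4_2 lc_a_Cert_tree) (@D3.rec (fun _ => (Cert rels S Gen.a)) lc_a_rc_4_2 lc_a_Cert_tree lc_a_rc_22_0 lc_a_rc_22_0 lc_a_rc_4_2 lc_a_rc_5_0 lc_a_rc_4_2 lc_a_rc_5_0 lc_a_rc_4_0 lc_a_rc_4_2 lc_a_Cert_tree lc_a_rc_5_2 lc_a_rc_2_2 lc_a_Cert_tree lc_a_rc_5_2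 lc_a_rc_4_2 lc_a_rc_2_2 lc_a_rc_1_2 lc_a_rc_3_2 lc_a_rc_2_2 lc_a_rc_2_2 lc_a_rc_5_2 lc_a_Cert_tree lc_a_rc_4_2 lc_a_Cert_tree lc_a_rc_4_2 lc_a_Cert_tree lc_a_rc_4_2 lc_a_Cert_tree lc_a_rc_5_0 lc_a_rc_4_2 lc_a_rc_5_0 lc_a_rc_21_0 lc_a_rc_3_2 lc_a_rc_3_2 lc_a_rc_5_2 lc_a_rc_4_2 lc_a_rc_2_2 lc_a_rc_4_2 lc_a_rc_5_0 lc_a_rc_4_2 lc_a_rc_4_2 lc_a_rc_2_2 lc_a_rc_3_2 lc_a_rc_5_2 lc_a_rc_4_2 lc_a_rc_2_2 lc_a_rc_3_2 lc_a_rc_5_2 lc_a_rc_4_2 lc_a_rc_4_2 lc_a_rc_3_2 lc_a_rc_5_2 lc_a_rc_4_2 lc_a_rc_4_2 lc_a_rc_3_2 lc_a_rc_5_2 lc_a_rc_4_2 lc_a_rc_21_0 lc_a_rc_5_0 lc_a_rc_21_0 lc_a_rc_21_0) (@D3.rec (fun _ => (Cert rels S Gen.a)) lc_a_rc_3_2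 lc_a_rc_2_2 lc_a_rc_5_2 lc_a_rc_2_2 lc_a_rc_4_2 lc_a_Cert_tree lc_a_rc_4_2 lc_a_Cert_tree lc_a_rc_22_0 lc_a_rc_21_0 lc_a_rc_4_2 lc_a_rc_3_2 lc_a_rc_3_2 lc_a_rc_2_2 lc_a_rc_1_4 lc_a_rc_21_0 lc_a_rc_4_2 lc_a_rc_1_4 lc_a_Cert_tree lc_a_rc_4_2 lc_a_rc_0_1 lc_a_rc_21_0 lc_a_rc_21_0 lc_a_rc_3_0 lc_a_rc_21_0 lc_a_Cert_tree lc_a_rc_1_2 lc_a_rc_21_0 lc_a_rc_4_2 lc_a_rc_21_0 lc_a_rc_5_0 lc_a_rc_5_2 lc_a_rc_21_0 lc_a_Cert_tree lc_a_rc_0_1 lc_a_rc_0_1 lc_a_rc_3_2 lc_a_rc_21_0 lc_a_rc_22_0 lc_a_rc_3_2 lc_a_rc_22_0 lc_a_rc_2_2 lc_a_rc_21_0 lc_a_rc_4_2 lc_a_rc_5_0 lc_a_rc_5_2 lc_a_rc_0_1 lc_a_rc_0_1 lc_a_rc_1_2 lc_a_rc_21_0 lc_a_rc_3_2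 lc_a_rc_4_2 lc_a_rc_5_2 lc_a_Cert_tree lc_a_rc_2_2 lc_a_rc_3_2 lc_a_rc_4_2 lc_a_rc_3_2 lc_a_rc_21_0 lc_a_rc_2_2 lc_a_rc_2_2 lc_a_rc_4_2) (@D3.rec (fun _ => (Cert rels S Gen.a)) lc_a_rc_3_0 lc_a_rc_4_2 lc_a_rc_5_0 lc_a_rc_2_2 lc_a_rc_5_2 lc_a_rc_4_2 lc_a_rc_4_2 lc_a_rc_3_2 lc_a_rc_21_0 lc_a_rc_3_2 lc_a_rc_4_2 lc_a_rc_3_0 lc_a_rc_4_2 lc_a_rc_4_2 lc_a_rc_4_2 lc_a_rc_4_2 lc_a_rc_4_2 lc_a_rc_2_2 lc_a_rc_3_2 lc_a_rc_5_2 lc_a_rc_21_0 lc_a_rc_21_0 lc_a_rc_2_2 lc_a_rc_5_0 lc_a_rc_4_2 lc_a_rc_3_2 lc_a_rc_3_2 lc_a_rc_2_2 lc_a_rc_1_4 lc_a_rc_21_0 lc_a_rc_2_2 lc_a_rc_5_2 lc_a_rc_21_0 lc_a_rc_3_2 lc_a_rc_3_2 lc_a_rc_2_2 lc_a_rc_4_2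 lc_a_rc_21_0 lc_a_rc_0_1 lc_a_rc_3_2 lc_a_rc_4_2 lc_a_rc_3_2 lc_a_rc_4_2 lc_a_rc_21_0 lc_a_rc_3_0 lc_a_rc_2_2 lc_a_rc_4_2 lc_a_Cert_tree lc_a_rc_2_2 lc_a_rc_4_2 lc_a_rc_21_0 lc_a_rc_2_2 lc_a_Cert_tree lc_a_rc_3_2 lc_a_rc_5_2 lc_a_rc_4_2 lc_a_rc_21_0 lc_a_rc_3_2 lc_a_rc_21_0 lc_a_rc_4_0 lc_a_rc_4_2 lc_a_rc_21_0) (@D3.rec (fun _ => (Cert rels S Gen.a)) lc_a_rc_2_2 lc_a_rc_3_2 lc_a_rc_2_2 lc_a_rc_4_2 lc_a_rc_21_0 lc_a_rc_2_2 lc_a_rc_2_2 lc_a_rc_5_0 lc_a_rc_4_2 lc_a_Cert_tree lc_a_rc_3_2 lc_a_rc_21_0 lc_a_rc_5_0 lc_a_rc_3_2 lc_a_rc_4_2 lc_a_rc_3_2 lc_a_Cert_tree lc_a_rc_5_0 lc_a_rc_4_2 lc_a_rc_4_2 lc_a_rc_3_2 lc_a_rc_21_0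 lc_a_rc_3_2 lc_a_rc_4_2 lc_a_Cert_tree lc_a_rc_3_2 lc_a_rc_4_2 lc_a_rc_21_0 lc_a_rc_3_2 lc_a_rc_2_2 lc_a_Cert_tree lc_a_rc_3_2 lc_a_rc_4_2 lc_a_Cert_tree lc_a_rc_0_1 lc_a_rc_0_1 lc_a_rc_3_2 lc_a_rc_1_4 lc_a_rc_3_2 lc_a_rc_21_0 lc_a_rc_2_2 lc_a_rc_4_2 lc_a_rc_22_0 lc_a_rc_3_2 lc_a_rc_5_0 lc_a_rc_3_2 lc_a_rc_4_2 lc_a_rc_2_2 lc_a_rc_21_0 lc_a_rc_3_2 lc_a_rc_5_0 lc_a_rc_21_0 lc_a_rc_3_2 lc_a_rc_2_2 lc_a_rc_21_0 lc_a_rc_1_4 lc_a_rc_2_2 lc_a_rc_5_2 lc_a_rc_0_1 lc_a_rc_0_1 lc_a_rc_21_0 lc_a_rc_3_2) (@D3.rec (fun _ => (Cert rels S Gen.a)) lc_a_rc_3_2 lc_a_rc_3_2 lc_a_rc_2_2 lc_a_rc_4_2 lc_a_rc_21_0 lc_a_rc_5_0 lc_a_rc_3_2 lc_a_rc_4_2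 lc_a_rc_3_2 lc_a_Cert_tree lc_a_rc_21_0 lc_a_rc_3_2 lc_a_rc_3_2 lc_a_rc_2_2 lc_a_rc_4_2 lc_a_rc_2_2 lc_a_rc_2_2 lc_a_Cert_tree lc_a_rc_22_0 lc_a_rc_5_2 lc_a_rc_4_2 lc_a_rc_21_0 lc_a_rc_2_2 lc_a_rc_3_2 lc_a_rc_2_2 lc_a_rc_4_2 lc_a_rc_2_2 lc_a_rc_2_2 lc_a_rc_5_0 lc_a_rc_4_2 lc_a_Cert_tree lc_a_rc_3_2 lc_a_rc_21_0 lc_a_rc_2_2 lc_a_rc_21_0 lc_a_rc_0_1 lc_a_rc_21_0 lc_a_rc_5_0 lc_a_rc_4_2 lc_a_rc_21_0 lc_a_rc_21_0 lc_a_rc_3_2 lc_a_rc_4_2 lc_a_rc_3_2 lc_a_rc_4_0 lc_a_rc_5_0 lc_a_rc_21_0 lc_a_rc_21_0 lc_a_rc_3_2 lc_a_rc_2_2 lc_a_rc_2_2 lc_a_rc_3_2 lc_a_Cert_tree lc_a_rc_3_2 lc_a_rc_4_2 lc_a_Cert_tree lc_a_rc_3_2 lc_a_rc_2_2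 lc_a_Cert_tree lc_a_rc_3_2 lc_a_rc_2_2 lc_a_rc_4_0) (@D3.rec (fun _ => (Cert rels S Gen.a)) lc_a_rc_3_2 lc_a_rc_3_2 lc_a_rc_5_0 lc_a_rc_22_0 lc_a_rc_4_2 lc_a_rc_22_0 lc_a_rc_4_2 lc_a_rc_4_2 lc_a_rc_1_2 lc_a_rc_4_2 lc_a_rc_4_2 lc_a_rc_4_2 lc_a_rc_3_2 lc_a_rc_3_2 lc_a_rc_5_2 lc_a_rc_4_2 lc_a_rc_4_2 lc_a_rc_5_0 lc_a_rc_3_2 lc_a_rc_3_2 lc_a_rc_2_2 lc_a_rc_4_2 lc_a_rc_21_0 lc_a_rc_3_0 lc_a_rc_3_2 lc_a_rc_2_2 lc_a_rc_5_2 lc_a_rc_3_0 lc_a_rc_4_2 lc_a_rc_1_2 lc_a_rc_4_2 lc_a_Cert_tree lc_a_rc_3_2 lc_a_rc_2_2 lc_a_rc_4_2 lc_a_rc_4_2 lc_a_rc_3_2 lc_a_rc_4_2 lc_a_rc_4_2 lc_a_rc_21_0 lc_a_rc_3_2 lc_a_rc_5_2 lc_a_rc_4_2 lc_a_rc_4_2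 lc_a_rc_4_2 lc_a_rc_3_2 lc_a_rc_3_2 lc_a_rc_5_2 lc_a_rc_3_2 lc_a_rc_21_0 lc_a_rc_2_2 lc_a_rc_3_2 lc_a_rc_0_1 lc_a_rc_21_0 lc_a_rc_3_2 lc_a_rc_2_2 lc_a_rc_5_2 lc_a_rc_1_4 lc_a_rc_4_2 lc_a_rc_21_0 lc_a_rc_4_2 lc_a_Cert_tree) (@D3.rec (fun _ => (Cert rels S Gen.a)) lc_a_rc_3_2 lc_a_rc_2_2 lc_a_rc_4_2 lc_a_rc_4_2 lc_a_rc_2_2 lc_a_rc_4_0 lc_a_rc_5_2 lc_a_rc_1_2 lc_a_rc_4_2 lc_a_rc_5_2 lc_a_rc_3_2 lc_a_rc_1_4 lc_a_rc_1_2 lc_a_rc_2_2 lc_a_rc_5_2 lc_a_rc_4_0 lc_a_rc_5_2 lc_a_rc_3_2 lc_a_rc_5_2 lc_a_rc_1_4 lc_a_rc_2_2 lc_a_rc_5_2 lc_a_rc_0_1 lc_a_rc_3_2 lc_a_rc_5_2 lc_a_rc_4_2 lc_a_rc_3_2 lc_a_rc_2_2 lc_a_rc_5_0 lc_a_rc_3_2 lc_a_rc_5_0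 lc_a_rc_4_2 lc_a_rc_1_4 lc_a_rc_2_2 lc_a_rc_5_2 lc_a_rc_3_2 lc_a_rc_3_2 lc_a_rc_1_2 lc_a_rc_4_2 lc_a_rc_3_2 lc_a_rc_5_2 lc_a_rc_4_2 lc_a_rc_3_2 lc_a_rc_0_1 lc_a_rc_21_0 lc_a_rc_21_0 lc_a_rc_3_2 lc_a_rc_3_2 lc_a_rc_2_2 lc_a_rc_5_2 lc_a_rc_0_1 lc_a_rc_3_2 lc_a_rc_5_2 lc_a_rc_21_0 lc_a_rc_4_2 lc_a_rc_3_2 lc_a_rc_5_2 lc_a_rc_0_1 lc_a_rc_21_0 lc_a_rc_2_2 lc_a_rc_1_4 lc_a_rc_3_2) (@D3.rec (fun _ => (Cert rels S Gen.a)) lc_a_rc_3_2 lc_a_rc_21_0 lc_a_rc_2_0 lc_a_rc_0_1 lc_a_rc_3_2 lc_a_rc_4_2 lc_a_rc_5_0 lc_a_rc_21_0 lc_a_rc_21_0 lc_a_rc_3_2 lc_a_rc_3_2 lc_a_rc_21_0 lc_a_Cert_tree lc_a_rc_4_2 lc_a_rc_2_2 lc_a_rc_1_2 lc_a_Cert_tree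 lc_a_rc_2_2 lc_a_rc_2_2 lc_a_rc_5_2 lc_a_rc_21_0 lc_a_rc_2_2 lc_a_Cert_tree lc_a_rc_3_2 lc_a_rc_5_2 lc_a_rc_4_2 lc_a_rc_21_0 lc_a_rc_1_2 lc_a_rc_3_2 lc_a_rc_2_2 lc_a_rc_3_2 lc_a_rc_22_0 lc_a_rc_5_2 lc_a_rc_21_0 lc_a_rc_3_2 lc_a_rc_0_1 lc_a_rc_2_2 lc_a_rc_4_2 lc_a_rc_3_2 lc_a_rc_2_2 lc_a_rc_4_2 lc_a_rc_2_2 lc_a_rc_21_0 lc_a_Cert_tree lc_a_rc_3_2 lc_a_rc_22_0 lc_a_rc_5_2 lc_a_rc_21_0 lc_a_rc_3_2 lc_a_rc_3_2 lc_a_rc_4_2 lc_a_rc_3_2 lc_a_rc_3_0 lc_a_rc_2_2 lc_a_rc_4_2 lc_a_rc_3_2 lc_a_rc_21_0 lc_a_rc_5_2 lc_a_rc_0_1 lc_a_rc_2_2 lc_a_rc_4_2 lc_a_rc_2_2) (@D3.rec (fun _ => (Cert rels S Gen.a)) lc_a_rc_4_2 lc_a_rc_2_2 lc_a_rc_2_2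 lc_a_Cert_tree lc_a_rc_3_2 lc_a_rc_4_2 lc_a_rc_21_0 lc_a_rc_21_0 lc_a_rc_5_2 lc_a_rc_3_2 lc_a_rc_2_2 lc_a_rc_2_2 lc_a_rc_3_2 lc_a_rc_4_2 lc_a_rc_21_0 lc_a_rc_3_2 lc_a_rc_4_2 lc_a_rc_3_2 lc_a_rc_3_2 lc_a_rc_2_2 lc_a_rc_4_2 lc_a_rc_3_2 lc_a_rc_0_1 lc_a_rc_21_0 lc_a_rc_5_2 lc_a_Cert_tree lc_a_rc_21_0 lc_a_rc_4_2 lc_a_rc_3_2 lc_a_rc_3_2 lc_a_rc_4_2 lc_a_rc_5_2 lc_a_rc_2_2 lc_a_rc_0_1 lc_a_rc_2_2 lc_a_rc_3_2 lc_a_rc_4_2 lc_a_rc_0_1 lc_a_Cert_tree lc_a_rc_5_0 lc_a_rc_4_2 lc_a_rc_3_2 lc_a_rc_0_1 lc_a_rc_4_2 lc_a_rc_5_2 lc_a_rc_0_1 lc_a_rc_2_2 lc_a_rc_4_2 lc_a_Cert_tree lc_a_rc_2_2 lc_a_rc_4_2 lc_a_rc_5_0 lc_a_rc_1_2 lc_a_rc_4_2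 lc_a_Cert_tree lc_a_rc_3_2 lc_a_rc_4_2 lc_a_Cert_tree lc_a_rc_21_0 lc_a_rc_4_2 lc_a_Cert_tree lc_a_rc_0_1) (@D3.rec (fun _ => (Cert rels S Gen.a)) lc_a_rc_0_1 lc_a_rc_3_2 lc_a_rc_21_0 lc_a_rc_3_2 lc_a_rc_3_2 lc_a_rc_4_2 lc_a_rc_4_2 lc_a_rc_5_0 lc_a_rc_3_2 lc_a_rc_5_0 lc_a_rc_5_0 lc_a_rc_3_2 lc_a_rc_3_2 lc_a_rc_4_2 lc_a_rc_1_4 lc_a_rc_3_0 lc_a_rc_2_2 lc_a_rc_4_2 lc_a_rc_21_0 lc_a_rc_2_2 lc_a_rc_21_0 lc_a_rc_5_2 lc_a_rc_1_2 lc_a_rc_2_2 lc_a_rc_4_2 lc_a_Cert_tree lc_a_rc_21_0 lc_a_rc_4_2 lc_a_Cert_tree lc_a_rc_2_2 lc_a_rc_3_2 lc_a_rc_1_4 lc_a_rc_4_2 lc_a_rc_5_2 lc_a_Cert_tree lc_a_rc_3_2 lc_a_rc_21_0 lc_a_Cert_tree lc_a_rc_21_0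 lc_a_Cert_tree lc_a_rc_3_2 lc_a_Cert_tree lc_a_rc_3_2 lc_a_Cert_tree lc_a_rc_21_0 lc_a_rc_4_2 lc_a_rc_4_0 lc_a_rc_0_1 lc_a_rc_3_2 lc_a_rc_4_2 lc_a_rc_4_2 lc_a_rc_4_2 lc_a_rc_21_0 lc_a_rc_3_2 lc_a_rc_21_0 lc_a_rc_4_2 lc_a_rc_21_0 lc_a_rc_2_2 lc_a_rc_4_2 lc_a_rc_1_4 lc_a_rc_21_0 lc_a_rc_3_0) (@D3.rec (fun _ => (Cert rels S Gen.a)) lc_a_rc_5_0 lc_a_rc_3_0 lc_a_rc_2_2 lc_a_rc_21_0 lc_a_rc_3_2 lc_a_rc_4_2 lc_a_rc_3_2 lc_a_rc_2_2 lc_a_rc_3_2 lc_a_rc_2_2 lc_a_rc_2_2 lc_a_rc_3_2 lc_a_rc_1_2 lc_a_Cert_tree lc_a_rc_2_2 lc_a_rc_3_2 lc_a_rc_3_2 lc_a_rc_4_2 lc_a_rc_5_2 lc_a_rc_2_2 lc_a_rc_2_0 lc_a_rc_0_1 lc_a_rc_3_2 lc_a_rc_4_2 lc_a_rc_3_2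 lc_a_rc_21_0 lc_a_rc_2_2 lc_a_rc_0_1 lc_a_rc_3_2 lc_a_rc_3_2 lc_a_rc_21_0 lc_a_rc_4_2 lc_a_rc_2_2 lc_a_rc_0_1 lc_a_rc_3_2 lc_a_rc_5_2 lc_a_Cert_tree lc_a_rc_3_2 lc_a_rc_21_0 lc_a_rc_2_2 lc_a_rc_1_4 lc_a_rc_22_0 lc_a_rc_2_0 lc_a_rc_4_2 lc_a_rc_0_1 lc_a_rc_3_2 lc_a_rc_2_2 lc_a_rc_2_2 lc_a_rc_21_0 lc_a_rc_0_1 lc_a_rc_0_1 lc_a_rc_2_2 lc_a_rc_3_2 lc_a_rc_21_0 lc_a_rc_21_0 lc_a_rc_3_2 lc_a_rc_3_2 lc_a_rc_3_2 lc_a_rc_2_2 lc_a_rc_1_2 lc_a_rc_1_4 lc_a_rc_0_1) (@D3.rec (fun _ => (Cert rels S Gen.a)) lc_a_rc_2_2 lc_a_rc_3_2 lc_a_rc_4_2 lc_a_rc_4_2 lc_a_rc_21_0 lc_a_rc_4_2 lc_a_rc_0_1 lc_a_rc_0_1 lc_a_rc_2_0 lc_a_rc_5_2 lc_a_rc_3_2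 lc_a_rc_5_2 lc_a_Cert_tree lc_a_rc_2_2 lc_a_rc_3_2 lc_a_rc_4_2 lc_a_rc_3_2 lc_a_rc_21_0 lc_a_rc_2_2 lc_a_rc_2_2 lc_a_rc_4_2 lc_a_rc_3_0 lc_a_rc_4_2 lc_a_Cert_tree lc_a_rc_4_2 lc_a_Cert_tree lc_a_rc_3_2 lc_a_Cert_tree lc_a_rc_4_2 lc_a_rc_21_0 lc_a_rc_3_2 lc_a_rc_5_2 lc_a_rc_4_2 lc_a_rc_5_2 lc_a_Cert_tree lc_a_rc_3_2 lc_a_rc_4_2 lc_a_rc_3_0 lc_a_rc_3_2 lc_a_rc_5_2 lc_a_rc_21_0 lc_a_rc_2_2 lc_a_rc_0_1 lc_a_rc_4_2 lc_a_rc_21_0 lc_a_rc_2_2 lc_a_rc_4_0 lc_a_rc_4_0 lc_a_rc_2_2 lc_a_rc_21_0 lc_a_rc_0_1 lc_a_rc_3_2 lc_a_rc_4_2 lc_a_rc_4_2 lc_a_rc_3_2 lc_a_rc_21_0 lc_a_rc_3_2 lc_a_rc_0_1 lc_a_rc_2_2 lc_a_rc_3_2 lc_a_rc_4_2 lc_a_Cert_tree)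 (@D3.rec (fun _ => (Cert rels S Gen.a)) lc_a_rc_3_2 lc_a_rc_2_2 lc_a_Cert_tree lc_a_rc_21_0 lc_a_rc_2_2 lc_a_rc_4_2 lc_a_rc_3_2 lc_a_rc_4_2 lc_a_rc_2_0 lc_a_rc_0_1 lc_a_rc_2_2 lc_a_rc_4_2 lc_a_rc_21_0 lc_a_rc_3_2 lc_a_rc_2_2 lc_a_rc_5_0 lc_a_rc_3_2 lc_a_rc_5_2 lc_a_Cert_tree lc_a_rc_3_2 lc_a_Cert_tree lc_a_rc_21_0 lc_a_rc_4_2 lc_a_rc_21_0 lc_a_rc_3_2 lc_a_rc_2_2 lc_a_rc_22_0 lc_a_rc_2_2 lc_a_rc_3_2 lc_a_rc_5_2 lc_a_rc_21_0 lc_a_rc_2_2 lc_a_Cert_tree lc_a_rc_0_1 lc_a_rc_4_2 lc_a_rc_2_2 lc_a_rc_3_0 lc_a_rc_3_0 lc_a_Cert_tree lc_a_rc_5_0 lc_a_Cert_tree lc_a_rc_21_0 lc_a_rc_3_2 lc_a_rc_0_1 lc_a_rc_22_0 lc_a_rc_4_2 lc_a_rc_4_2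 lc_a_rc_5_0 lc_a_rc_5_2 lc_a_rc_21_0 lc_a_rc_21_0 lc_a_rc_4_2 lc_a_rc_3_2 lc_a_Cert_tree lc_a_rc_2_2 lc_a_rc_4_2 lc_a_rc_1_2 lc_a_rc_21_0 lc_a_rc_3_2 lc_a_rc_21_0 lc_a_rc_2_2 lc_a_rc_2_2) (@D3.rec (fun _ => (Cert rels S Gen.a)) lc_a_rc_4_2 lc_a_rc_5_0 lc_a_rc_4_2 lc_a_Cert_tree lc_a_rc_4_2 lc_a_rc_0_1 lc_a_rc_2_0 lc_a_rc_5_2 lc_a_rc_3_2 lc_a_rc_21_0 lc_a_rc_5_0 lc_a_rc_21_0 lc_a_rc_4_2 lc_a_rc_2_2 lc_a_rc_2_2 lc_a_rc_3_2 lc_a_rc_0_1 lc_a_rc_5_2 lc_a_rc_2_2 lc_a_rc_4_2 lc_a_rc_3_2 lc_a_rc_2_2 lc_a_rc_5_0 lc_a_rc_3_2 lc_a_rc_4_2 lc_a_Cert_tree lc_a_rc_21_0 lc_a_rc_4_2 lc_a_rc_3_2 lc_a_rc_3_2 lc_a_rc_3_2 lc_a_rc_3_2 lc_a_Cert_tree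 lc_a_rc_3_2 lc_a_rc_2_2 lc_a_rc_5_2 lc_a_rc_21_0 lc_a_rc_2_2 lc_a_rc_22_0 lc_a_rc_21_0 lc_a_rc_4_2 lc_a_rc_1_2 lc_a_rc_2_2 lc_a_rc_0_1 lc_a_rc_2_2 lc_a_rc_3_2 lc_a_rc_4_2 lc_a_rc_21_0 lc_a_rc_3_2 lc_a_rc_3_2 lc_a_rc_4_2 lc_a_rc_2_2 lc_a_rc_2_2 lc_a_rc_2_2 lc_a_rc_4_2 lc_a_rc_21_0 lc_a_rc_3_2 lc_a_rc_5_2 lc_a_rc_21_0 lc_a_rc_4_2 lc_a_rc_4_2 lc_a_rc_3_0) (@D3.rec (fun _ => (Cert rels S Gen.a)) lc_a_rc_22_0 lc_a_rc_3_2 lc_a_rc_21_0 lc_a_rc_21_0 lc_a_rc_2_2 lc_a_rc_2_2 lc_a_rc_4_2 lc_a_rc_2_2 lc_a_rc_3_2 lc_a_rc_4_2 lc_a_rc_2_2 lc_a_rc_2_2 lc_a_rc_3_2 lc_a_rc_4_2 lc_a_rc_3_2 lc_a_rc_21_0 lc_a_rc_2_2 lc_a_rc_4_2 lc_a_rc_0_1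 lc_a_rc_3_2 lc_a_rc_21_0 lc_a_rc_2_2 lc_a_rc_2_2 lc_a_rc_3_2 lc_a_rc_5_2 lc_a_rc_3_2 lc_a_rc_3_2 lc_a_rc_4_2 lc_a_rc_3_2 lc_a_rc_3_2 lc_a_rc_4_2 lc_a_rc_3_2 lc_a_rc_1_2 lc_a_rc_4_2 lc_a_rc_3_2 lc_a_rc_21_0 lc_a_rc_3_2 lc_a_rc_1_4 lc_a_rc_4_2 lc_a_rc_2_2 lc_a_rc_0_1 lc_a_rc_2_2 lc_a_rc_4_2 lc_a_rc_3_2 lc_a_rc_0_1 lc_a_rc_3_2 lc_a_rc_3_2 lc_a_rc_4_2 lc_a_rc_0_1 lc_a_rc_0_1 lc_a_rc_3_2 lc_a_rc_4_2 lc_a_rc_3_2 lc_a_rc_0_1 lc_a_rc_2_2 lc_a_rc_4_2 lc_a_rc_4_2 lc_a_rc_3_2 lc_a_rc_21_0 lc_a_rc_2_2 lc_a_rc_4_2 lc_a_Cert_tree) (@D3.rec (fun _ => (Cert rels S Gen.a)) lc_a_rc_2_2 lc_a_rc_4_2 lc_a_Cert_tree lc_a_rc_2_2 lc_a_rc_4_2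 lc_a_rc_0_1 lc_a_rc_21_0 lc_a_rc_3_2 lc_a_rc_4_2 lc_a_rc_2_2 lc_a_rc_21_0 lc_a_rc_5_2 lc_a_rc_4_2 lc_a_rc_4_0 lc_a_rc_3_2 lc_a_rc_0_1 lc_a_rc_2_2 lc_a_rc_4_2 lc_a_rc_5_0 lc_a_rc_4_2 lc_a_rc_3_2 lc_a_rc_5_2 lc_a_rc_0_1 lc_a_rc_2_2 lc_a_rc_4_2 lc_a_rc_5_0 lc_a_rc_2_2 lc_a_rc_3_2 lc_a_rc_5_2 lc_a_Cert_tree lc_a_rc_0_1 lc_a_rc_5_0 lc_a_rc_4_2 lc_a_Cert_tree lc_a_rc_0_1 lc_a_rc_3_2 lc_a_rc_2_0 lc_a_rc_21_0 lc_a_rc_3_2 lc_a_rc_3_2 lc_a_rc_5_0 lc_a_rc_3_2 lc_a_rc_2_2 lc_a_rc_1_4 lc_a_rc_3_2 lc_a_rc_3_2 lc_a_rc_2_2 lc_a_rc_5_0 lc_a_rc_2_2 lc_a_rc_21_0 lc_a_rc_0_1 lc_a_rc_4_2 lc_a_rc_4_2 lc_a_rc_3_2 lc_a_rc_2_2 lc_a_rc_3_2 lc_a_rc_3_2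 lc_a_rc_5_2 lc_a_rc_4_2 lc_a_rc_3_2 lc_a_rc_4_2 lc_a_rc_1_4) (@D3.rec (fun _ => (Cert rels S Gen.a)) lc_a_rc_5_0 lc_a_rc_5_0 lc_a_rc_21_0 lc_a_rc_5_0 lc_a_rc_3_0 lc_a_rc_3_2 lc_a_rc_2_2 lc_a_rc_5_2 lc_a_rc_22_0 lc_a_rc_3_2 lc_a_rc_2_2 lc_a_rc_3_2 lc_a_rc_21_0 lc_a_rc_22_0 lc_a_rc_5_2 lc_a_rc_21_0 lc_a_rc_3_2 lc_a_rc_0_1 lc_a_rc_2_2 lc_a_rc_4_2 lc_a_rc_0_1 lc_a_rc_21_0 lc_a_rc_4_2 lc_a_rc_21_0 lc_a_rc_2_2 lc_a_Cert_tree lc_a_rc_2_2 lc_a_rc_3_2 lc_a_rc_5_0 lc_a_rc_3_2 lc_a_rc_4_2 lc_a_rc_2_2 lc_a_rc_4_2 lc_a_rc_21_0 lc_a_rc_22_0 lc_a_rc_3_2 lc_a_rc_4_2 lc_a_rc_2_2 lc_a_rc_4_2 lc_a_rc_2_2 lc_a_rc_1_4 lc_a_rc_21_0 lc_a_rc_4_2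 lc_a_rc_3_2 lc_a_rc_0_1 lc_a_Cert_tree lc_a_rc_21_0 lc_a_rc_21_0 lc_a_rc_2_2 lc_a_rc_4_2 lc_a_Cert_tree lc_a_rc_0_1 lc_a_rc_0_1 lc_a_rc_3_2 lc_a_rc_21_0 lc_a_rc_3_2 lc_a_rc_3_2 lc_a_rc_2_2 lc_a_rc_4_2 lc_a_rc_22_0 lc_a_rc_5_2 lc_a_rc_0_1) (@D3.rec (fun _ => (Cert rels S Gen.a)) lc_a_rc_0_1 lc_a_rc_0_1 lc_a_Cert_tree lc_a_rc_4_2 lc_a_rc_5_2 lc_a_rc_21_0 lc_a_rc_22_0 lc_a_rc_1_0 lc_a_rc_22_0 lc_a_rc_4_2 lc_a_rc_4_2 lc_a_rc_4_2 lc_a_rc_5_0 lc_a_rc_5_2 lc_a_rc_2_2 lc_a_rc_2_2 lc_a_rc_3_2 lc_a_rc_2_2 lc_a_rc_2_2 lc_a_rc_4_2 lc_a_rc_0_1 lc_a_rc_5_2 lc_a_rc_21_0 lc_a_rc_0_1 lc_a_rc_0_1 lc_a_rc_21_0 lc_a_rc_4_2 lc_a_rc_4_2 lc_a_rc_5_0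 lc_a_rc_3_2 lc_a_rc_5_2 lc_a_rc_2_2 lc_a_rc_5_2 lc_a_rc_5_2 lc_a_rc_0_1 lc_a_rc_4_2 lc_a_rc_4_0 lc_a_rc_3_2 lc_a_rc_2_2 lc_a_rc_3_2 lc_a_rc_4_2 lc_a_rc_21_0 lc_a_rc_4_2 lc_a_rc_1_4 lc_a_rc_0_1 lc_a_rc_4_2 lc_a_rc_21_0 lc_a_rc_4_2 lc_a_rc_4_2 lc_a_rc_3_2 lc_a_rc_5_2 lc_a_rc_0_1 lc_a_rc_2_2 lc_a_rc_4_2 lc_a_rc_2_2 lc_a_rc_3_2 lc_a_rc_2_2 lc_a_rc_4_2 lc_a_rc_4_0 lc_a_rc_2_2 lc_a_Cert_tree lc_a_rc_2_2) (@D3.rec (fun _ => (Cert rels S Gen.a)) lc_a_rc_4_2 lc_a_rc_2_0 lc_a_rc_2_0 lc_a_Cert_tree lc_a_rc_3_2 lc_a_rc_4_2 lc_a_rc_2_2 lc_a_rc_21_0 lc_a_rc_2_2 lc_a_rc_5_2 lc_a_rc_4_2 lc_a_rc_5_0 lc_a_rc_3_2 lc_a_rc_0_1 lc_a_rc_4_2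 lc_a_rc_5_0 lc_a_rc_4_2 lc_a_rc_3_2 lc_a_rc_5_2 lc_a_Cert_tree lc_a_rc_2_2 lc_a_rc_4_2 lc_a_rc_3_2 lc_a_Cert_tree lc_a_rc_5_0 lc_a_rc_5_0 lc_a_rc_3_2 lc_a_rc_5_2 lc_a_rc_5_0 lc_a_rc_4_2 lc_a_rc_3_2 lc_a_rc_22_0 lc_a_Cert_tree lc_a_rc_4_2 lc_a_rc_5_0 lc_a_rc_1_4 lc_a_rc_1_4 lc_a_rc_5_0 lc_a_rc_0_1 lc_a_rc_4_2 lc_a_rc_4_0 lc_a_rc_4_0 lc_a_rc_21_0 lc_a_rc_3_2 lc_a_rc_4_2 lc_a_rc_4_2 lc_a_Cert_tree lc_a_rc_2_0 lc_a_rc_4_2 lc_a_rc_21_0 lc_a_rc_4_0 lc_a_Cert_tree lc_a_rc_3_2 lc_a_rc_4_2 lc_a_rc_2_2 lc_a_rc_21_0 lc_a_rc_5_2 lc_a_rc_2_2 lc_a_rc_0_1 lc_a_rc_4_2 lc_a_rc_1_2 lc_a_rc_3_2) (@D3.rec (fun _ => (Cert rels S Gen.a)) lc_a_rc_5_2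 lc_a_Cert_tree lc_a_rc_3_2 lc_a_Cert_tree lc_a_rc_3_2 lc_a_rc_4_2 lc_a_rc_21_0 lc_a_rc_0_1 lc_a_rc_0_1 lc_a_rc_3_2 lc_a_rc_4_2 lc_a_rc_4_2 lc_a_rc_2_2 lc_a_rc_5_0 lc_a_rc_3_2 lc_a_rc_5_2 lc_a_rc_21_0 lc_a_rc_21_0 lc_a_rc_2_2 lc_a_rc_3_2 lc_a_rc_4_2 lc_a_rc_3_2 lc_a_rc_21_0 lc_a_rc_5_2 lc_a_rc_21_0 lc_a_rc_3_2 lc_a_rc_0_1 lc_a_rc_4_2 lc_a_rc_3_2 lc_a_rc_5_2 lc_a_rc_0_1 lc_a_rc_3_2 lc_a_rc_3_2 lc_a_rc_21_0 lc_a_rc_4_2 lc_a_rc_21_0 lc_a_rc_22_0 lc_a_rc_2_2 lc_a_rc_4_2 lc_a_rc_4_2 lc_a_rc_2_2 lc_a_rc_2_2 lc_a_rc_3_2 lc_a_rc_5_2 lc_a_rc_21_0 lc_a_rc_3_2 lc_a_rc_2_2 lc_a_rc_5_2 lc_a_rc_0_1 lc_a_rc_3_2 lc_a_rc_4_2 lc_a_Cert_tree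 lc_a_rc_3_2 lc_a_rc_21_0 lc_a_rc_21_0 lc_a_Cert_tree lc_a_rc_0_1 lc_a_rc_4_2 lc_a_rc_4_2 lc_a_rc_0_1 lc_a_rc_5_2 lc_a_rc_21_0) (@D3.rec (fun _ => (Cert rels S Gen.a)) lc_a_rc_4_2 lc_a_rc_3_2 lc_a_rc_4_2 lc_a_rc_2_2 lc_a_rc_4_2 lc_a_rc_5_0 lc_a_rc_3_2 lc_a_rc_5_0 lc_a_rc_4_2 lc_a_rc_2_2 lc_a_rc_4_0 lc_a_rc_3_0 lc_a_rc_0_1 lc_a_rc_21_0 lc_a_rc_4_2 lc_a_rc_1_4 lc_a_rc_3_2 lc_a_rc_4_2 lc_a_rc_3_2 lc_a_rc_4_2 lc_a_rc_1_2 lc_a_rc_2_2 lc_a_rc_4_2 lc_a_rc_5_0 lc_a_rc_4_2 lc_a_rc_3_2 lc_a_rc_4_2 lc_a_rc_5_0 lc_a_rc_3_2 lc_a_rc_5_2 lc_a_rc_3_2 lc_a_rc_4_2 lc_a_rc_1_4 lc_a_rc_4_2 lc_a_rc_3_2 lc_a_rc_2_2 lc_a_rc_4_2 lc_a_rc_5_0 lc_a_rc_2_2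 lc_a_rc_5_2 lc_a_rc_0_1 lc_a_rc_5_2 lc_a_rc_2_2 lc_a_rc_21_0 lc_a_rc_4_2 lc_a_rc_21_0 lc_a_rc_4_2 lc_a_rc_0_1 lc_a_rc_3_2 lc_a_rc_0_1 lc_a_rc_1_4 lc_a_rc_3_2 lc_a_rc_4_2 lc_a_rc_2_2 lc_a_rc_4_2 lc_a_rc_4_2 lc_a_rc_0_1 lc_a_rc_3_2 lc_a_rc_5_2 lc_a_rc_2_2 lc_a_rc_21_0 lc_a_rc_4_2) (@D3.rec (fun _ => (Cert rels S Gen.a)) lc_a_Cert_tree lc_a_rc_3_2 lc_a_rc_4_2 lc_a_rc_2_2 lc_a_rc_2_2 lc_a_rc_3_2 lc_a_rc_4_2 lc_a_rc_21_0 lc_a_rc_0_1 lc_a_rc_3_2 lc_a_rc_5_2 lc_a_Cert_tree lc_a_rc_1_2 lc_a_rc_3_2 lc_a_Cert_tree lc_a_rc_2_2 lc_a_rc_1_2 lc_a_rc_0_1 lc_a_rc_2_2 lc_a_rc_2_0 lc_a_rc_0_1 lc_a_rc_2_2 lc_a_rc_4_2 lc_a_rc_3_2 lc_a_rc_5_2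 lc_a_Cert_tree lc_a_rc_4_2 lc_a_rc_3_2 lc_a_rc_5_0 lc_a_Cert_tree lc_a_rc_5_0 lc_a_rc_5_0 lc_a_rc_1_4 lc_a_rc_4_2 lc_a_rc_5_0 lc_a_rc_2_2 lc_a_rc_5_2 lc_a_rc_0_1 lc_a_rc_0_1 lc_a_rc_3_2 lc_a_rc_2_2 lc_a_rc_4_2 lc_a_rc_2_2 lc_a_rc_0_1 lc_a_rc_3_2 lc_a_rc_5_0 lc_a_rc_4_2 lc_a_Cert_tree lc_a_rc_2_2 lc_a_rc_3_0 lc_a_Cert_tree lc_a_rc_2_2 lc_a_rc_21_0 lc_a_rc_4_2 lc_a_Cert_tree lc_a_rc_5_2 lc_a_rc_0_1 lc_a_rc_3_2 lc_a_rc_2_2 lc_a_rc_4_2 lc_a_rc_3_0 lc_a_rc_0_1) (@D3.rec (fun _ => (Cert rels S Gen.a)) lc_a_rc_3_2 lc_a_rc_21_0 lc_a_rc_4_2 lc_a_rc_3_2 lc_a_rc_3_2 lc_a_rc_3_2 lc_a_rc_0_1 lc_a_rc_3_2 lc_a_rc_3_2 lc_a_rc_4_2 lc_a_rc_5_2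 lc_a_rc_3_2 lc_a_rc_5_2 lc_a_rc_5_0 lc_a_rc_5_0 lc_a_rc_0_1 lc_a_rc_3_2 lc_a_rc_1_4 lc_a_rc_21_0 lc_a_rc_21_0 lc_a_rc_4_2 lc_a_rc_3_2 lc_a_rc_21_0 lc_a_rc_2_2 lc_a_rc_5_2 lc_a_Cert_tree lc_a_rc_0_1 lc_a_rc_21_0 lc_a_rc_4_2 lc_a_rc_3_2 lc_a_rc_1_4 lc_a_rc_5_2 lc_a_rc_3_2 lc_a_rc_5_0 lc_a_rc_2_2 lc_a_rc_1_4 lc_a_rc_4_2 lc_a_rc_0_1 lc_a_rc_3_2 lc_a_rc_1_2 lc_a_rc_4_2 lc_a_rc_3_2 lc_a_rc_3_2 lc_a_rc_5_2 lc_a_rc_2_2 lc_a_rc_3_2 lc_a_rc_3_2 lc_a_rc_2_2 lc_a_rc_0_1 lc_a_rc_21_0 lc_a_rc_21_0 lc_a_rc_4_2 lc_a_rc_2_2 lc_a_rc_1_2 lc_a_rc_1_4 lc_a_rc_2_2 lc_a_rc_1_4 lc_a_rc_3_2 lc_a_rc_21_0 lc_a_rc_2_2 lc_a_rc_21_0 lc_a_rc_4_0) (@D3.rec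 (fun _ => (Cert rels S Gen.a)) lc_a_rc_2_2 lc_a_rc_3_2 lc_a_Cert_tree lc_a_rc_5_0 lc_a_rc_5_0 lc_a_rc_4_2 lc_a_rc_3_2 lc_a_rc_3_2 lc_a_rc_2_2 lc_a_rc_5_2 lc_a_rc_5_0 lc_a_rc_0_1 lc_a_rc_3_2 lc_a_rc_2_2 lc_a_rc_4_2 lc_a_rc_5_0 lc_a_rc_0_1 lc_a_rc_3_2 lc_a_rc_2_2 lc_a_Cert_tree lc_a_rc_0_1 lc_a_rc_0_1 lc_a_rc_1_4 lc_a_rc_4_2 lc_a_rc_3_2 lc_a_rc_4_2 lc_a_rc_1_4 lc_a_rc_0_1 lc_a_rc_21_0 lc_a_rc_5_2 lc_a_rc_0_1 lc_a_rc_21_0 lc_a_rc_2_2 lc_a_rc_4_2 lc_a_rc_21_0 lc_a_rc_21_0 lc_a_rc_4_2 lc_a_Cert_tree lc_a_rc_3_2 lc_a_rc_4_2 lc_a_rc_2_2 lc_a_rc_2_2 lc_a_rc_22_0 lc_a_rc_4_2 lc_a_rc_0_1 lc_a_rc_0_1 lc_a_rc_2_2 lc_a_rc_4_2 lc_a_rc_5_0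 lc_a_rc_2_2 lc_a_rc_5_2 lc_a_rc_0_1 lc_a_rc_2_2 lc_a_rc_4_2 lc_a_rc_4_2 lc_a_rc_5_0 lc_a_rc_5_2 lc_a_Cert_tree lc_a_rc_2_2 lc_a_Cert_tree lc_a_rc_4_2 lc_a_Cert_tree) (@D3.rec (fun _ => (Cert rels S Gen.a)) lc_a_rc_5_0 lc_a_rc_5_0 lc_a_rc_4_2 lc_a_rc_0_1 lc_a_rc_1_4 lc_a_rc_3_2 lc_a_rc_3_2 lc_a_rc_21_0 lc_a_rc_4_2 lc_a_rc_3_2 lc_a_rc_0_1 lc_a_rc_4_2 lc_a_rc_2_2 lc_a_rc_2_2 lc_a_rc_4_2 lc_a_rc_0_1 lc_a_rc_0_1 lc_a_rc_1_4 lc_a_rc_2_0 lc_a_rc_3_2 lc_a_rc_0_1 lc_a_rc_2_2 lc_a_rc_3_2 lc_a_rc_1_0 lc_a_rc_3_2 lc_a_rc_21_0 lc_a_rc_21_0 lc_a_rc_3_2 lc_a_rc_2_2 lc_a_rc_4_2 lc_a_rc_1_2 lc_a_rc_2_2 lc_a_rc_4_2 lc_a_rc_3_2 lc_a_rc_2_2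 lc_a_rc_4_2 lc_a_rc_21_0 lc_a_rc_2_2 lc_a_rc_3_2 lc_a_rc_4_2 lc_a_rc_4_2 lc_a_rc_5_0 lc_a_rc_5_2 lc_a_rc_21_0 lc_a_rc_4_2 lc_a_rc_3_2 lc_a_rc_3_2 lc_a_rc_4_2 lc_a_rc_3_2 lc_a_rc_2_2 lc_a_rc_22_0 lc_a_rc_4_2 lc_a_rc_1_2 lc_a_rc_5_0 lc_a_rc_0_1 lc_a_rc_4_2 lc_a_rc_4_0 lc_a_rc_3_2 lc_a_rc_2_2 lc_a_rc_22_0 lc_a_rc_4_2 lc_a_rc_5_2) (@D3.rec (fun _ => (Cert rels S Gen.a)) lc_a_rc_3_2 lc_a_rc_4_2 lc_a_rc_0_1 lc_a_rc_21_0 lc_a_rc_3_2 lc_a_rc_21_0 lc_a_rc_4_2 lc_a_rc_1_4 lc_a_rc_0_1 lc_a_rc_4_2 lc_a_rc_2_2 lc_a_rc_5_0 lc_a_rc_21_0 lc_a_rc_2_2 lc_a_rc_4_2 lc_a_rc_3_2 lc_a_rc_1_4 lc_a_rc_3_2 lc_a_rc_21_0 lc_a_rc_5_0 lc_a_rc_0_1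 lc_a_rc_3_2 lc_a_rc_0_1 lc_a_rc_1_2 lc_a_rc_0_1 lc_a_rc_2_2 lc_a_rc_4_2 lc_a_rc_3_2 lc_a_rc_4_2 lc_a_rc_2_2 lc_a_rc_21_0 lc_a_Cert_tree lc_a_rc_3_2 lc_a_rc_4_2 lc_a_rc_0_1 lc_a_rc_3_2 lc_a_rc_3_2 lc_a_rc_0_1 lc_a_rc_2_2 lc_a_rc_3_0 lc_a_rc_21_0 lc_a_Cert_tree lc_a_rc_3_2 lc_a_rc_2_2 lc_a_rc_3_2 lc_a_rc_2_2 lc_a_rc_4_2 lc_a_rc_1_4 lc_a_rc_0_1 lc_a_rc_4_2 lc_a_rc_2_2 lc_a_rc_2_0 lc_a_Cert_tree lc_a_rc_3_2 lc_a_rc_4_2 lc_a_rc_3_2 lc_a_rc_4_2 lc_a_rc_5_2 lc_a_rc_0_1 lc_a_rc_2_2 lc_a_rc_4_2 lc_a_rc_2_2) (@D3.rec (fun _ => (Cert rels S Gen.a)) lc_a_rc_21_0 lc_a_Cert_tree lc_a_rc_3_2 lc_a_rc_4_2 lc_a_rc_21_0 lc_a_rc_0_1 lc_a_rc_4_2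 lc_a_rc_5_2 lc_a_rc_0_1 lc_a_rc_2_2 lc_a_rc_4_2 lc_a_Cert_tree lc_a_rc_21_0 lc_a_rc_4_2 lc_a_rc_4_0 lc_a_rc_3_2 lc_a_rc_3_2 lc_a_rc_5_2 lc_a_Cert_tree lc_a_rc_3_2 lc_a_rc_4_2 lc_a_rc_21_0 lc_a_rc_3_2 lc_a_rc_4_2 lc_a_rc_0_1 lc_a_rc_21_0 lc_a_rc_0_1 lc_a_rc_3_2 lc_a_rc_4_2 lc_a_rc_3_2 lc_a_rc_3_2 lc_a_rc_3_0 lc_a_rc_4_2 lc_a_rc_22_0 lc_a_rc_2_2 lc_a_rc_21_0 lc_a_rc_3_2 lc_a_rc_5_2 lc_a_rc_4_2 lc_a_rc_1_2 lc_a_rc_2_2 lc_a_rc_4_2 lc_a_Cert_tree lc_a_rc_4_2 lc_a_rc_3_2 lc_a_rc_2_2 lc_a_rc_4_2 lc_a_rc_5_0 lc_a_Cert_tree lc_a_rc_4_2 lc_a_rc_4_0 lc_a_rc_2_2 lc_a_rc_3_2 lc_a_rc_0_1 lc_a_rc_21_0 lc_a_rc_5_0 lc_a_rc_0_1 lc_a_rc_2_2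 lc_a_rc_2_2 lc_a_rc_4_2 lc_a_rc_2_2 lc_a_rc_2_2) (@D3.rec (fun _ => (Cert rels S Gen.a)) lc_a_rc_3_2 lc_a_rc_4_2 lc_a_rc_4_2 lc_a_rc_5_0 lc_a_rc_3_2 lc_a_rc_5_2 lc_a_rc_5_0 lc_a_rc_5_0 lc_a_rc_21_0 lc_a_rc_3_2 lc_a_rc_4_2 lc_a_rc_3_2 lc_a_rc_5_0 lc_a_rc_2_2 lc_a_rc_5_2 lc_a_rc_2_2 lc_a_rc_4_2 lc_a_rc_3_2 lc_a_rc_3_2 lc_a_rc_3_2 lc_a_rc_4_2 lc_a_rc_4_0 lc_a_rc_3_2 lc_a_rc_21_0 lc_a_rc_5_0 lc_a_rc_0_1 lc_a_rc_3_2 lc_a_rc_3_2 lc_a_rc_4_2 lc_a_rc_4_2 lc_a_rc_2_2 lc_a_rc_5_2 lc_a_rc_2_2 lc_a_rc_21_0 lc_a_rc_4_2 lc_a_rc_3_2 lc_a_rc_4_2 lc_a_rc_4_2 lc_a_rc_4_2 lc_a_rc_5_0 lc_a_rc_5_0 lc_a_rc_5_2 lc_a_Cert_tree lc_a_rc_5_0 lc_a_rc_2_2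 lc_a_Cert_tree lc_a_rc_3_2 lc_a_rc_2_2 lc_a_rc_2_2 lc_a_rc_3_2 lc_a_rc_2_2 lc_a_rc_5_2 lc_a_rc_5_0 lc_a_rc_0_1 lc_a_rc_2_2 lc_a_rc_3_2 lc_a_rc_1_2 lc_a_rc_21_0 lc_a_Cert_tree lc_a_rc_3_2 lc_a_rc_2_2 lc_a_rc_21_0) (@D3.rec (fun _ => (Cert rels S Gen.a)) lc_a_rc_3_2 lc_a_rc_2_2 lc_a_rc_21_0 lc_a_rc_0_1 lc_a_Cert_tree lc_a_rc_0_1 lc_a_rc_2_2 lc_a_rc_3_2 lc_a_rc_4_2 lc_a_Cert_tree lc_a_rc_3_2 lc_a_rc_2_2 lc_a_rc_2_2 lc_a_rc_4_0 lc_a_rc_0_1 lc_a_rc_5_2 lc_a_rc_21_0 lc_a_rc_5_0 lc_a_rc_4_2 lc_a_rc_3_2 lc_a_rc_5_0 lc_a_rc_4_2 lc_a_rc_2_2 lc_a_rc_3_2 lc_a_rc_2_2 lc_a_rc_3_2 lc_a_rc_3_2 lc_a_rc_4_2 lc_a_rc_3_2 lc_a_rc_2_2 lc_a_rc_4_2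 lc_a_rc_0_1 lc_a_Cert_tree lc_a_rc_3_2 lc_a_rc_3_2 lc_a_rc_0_1 lc_a_rc_5_2 lc_a_rc_4_2 lc_a_rc_4_2 lc_a_rc_4_2 lc_a_rc_5_2 lc_a_rc_21_0 lc_a_rc_4_2 lc_a_rc_2_2 lc_a_rc_3_2 lc_a_rc_2_2 lc_a_rc_21_0 lc_a_rc_21_0 lc_a_rc_3_2 lc_a_rc_4_2 lc_a_rc_2_2 lc_a_rc_4_2 lc_a_rc_5_0 lc_a_rc_4_2 lc_a_rc_5_0 lc_a_rc_4_2 lc_a_rc_0_1 lc_a_rc_3_2 lc_a_rc_3_2 lc_a_rc_2_2 lc_a_rc_4_2 lc_a_rc_3_0) (@D3.rec (fun _ => (Cert rels S Gen.a)) lc_a_rc_2_2 lc_a_rc_4_2 lc_a_Cert_tree lc_a_rc_2_2 lc_a_rc_4_2 lc_a_rc_21_0 lc_a_rc_2_2 lc_a_Cert_tree lc_a_rc_22_0 lc_a_rc_4_2 lc_a_rc_2_2 lc_a_rc_0_1 lc_a_rc_21_0 lc_a_rc_5_2 lc_a_rc_4_2 lc_a_rc_4_2 lc_a_rc_5_0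 lc_a_rc_21_0 lc_a_rc_2_2 lc_a_rc_0_1 lc_a_rc_4_2 lc_a_rc_3_2 lc_a_Cert_tree lc_a_rc_5_2 lc_a_rc_3_2 lc_a_rc_3_0 lc_a_rc_3_2 lc_a_rc_3_2 lc_a_rc_5_2 lc_a_rc_21_0 lc_a_rc_4_2 lc_a_rc_4_2 lc_a_rc_3_2 lc_a_rc_1_2 lc_a_rc_4_2 lc_a_rc_3_2 lc_a_rc_1_2 lc_a_rc_1_4 lc_a_rc_4_2 lc_a_rc_3_2 lc_a_rc_2_2 lc_a_rc_4_2 lc_a_rc_2_2 lc_a_rc_4_2 lc_a_rc_1_4 lc_a_rc_2_2 lc_a_rc_4_2 lc_a_rc_0_1 lc_a_rc_3_2 lc_a_rc_4_2 lc_a_rc_0_1 lc_a_rc_21_0 lc_a_rc_5_2 lc_a_rc_21_0 lc_a_rc_3_2 lc_a_rc_4_2 lc_a_rc_21_0 lc_a_rc_4_2 lc_a_rc_3_2 lc_a_rc_21_0 lc_a_rc_21_0 lc_a_rc_21_0) (@D3.rec (fun _ => (Cert rels S Gen.a)) lc_a_rc_3_2 lc_a_rc_5_2 lc_a_rc_4_2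 lc_a_rc_4_2 lc_a_rc_2_2 lc_a_rc_5_0 lc_a_rc_3_2 lc_a_rc_2_2 lc_a_rc_3_0 lc_a_rc_1_2 lc_a_rc_1_0 lc_a_rc_21_0 lc_a_rc_0_1 lc_a_rc_1_4 lc_a_rc_3_2 lc_a_rc_3_2 lc_a_rc_3_2 lc_a_rc_2_2 lc_a_rc_3_2 lc_a_rc_5_0 lc_a_rc_1_4 lc_a_rc_4_2 lc_a_rc_3_2 lc_a_rc_2_2 lc_a_rc_3_2 lc_a_rc_2_2 lc_a_rc_2_2 lc_a_rc_21_0 lc_a_Cert_tree lc_a_rc_3_2 lc_a_rc_4_2 lc_a_rc_21_0 lc_a_rc_0_1 lc_a_rc_3_2 lc_a_rc_3_2 lc_a_rc_4_2 lc_a_rc_5_2 lc_a_rc_0_1 lc_a_rc_4_2 lc_a_rc_21_0 lc_a_rc_22_0 lc_a_rc_1_2 lc_a_rc_1_4 lc_a_Cert_tree lc_a_rc_2_2 lc_a_rc_4_2 lc_a_rc_4_2 lc_a_rc_1_4 lc_a_rc_3_2 lc_a_rc_4_2 lc_a_rc_21_0 lc_a_rc_0_1 lc_a_rc_5_2 lc_a_rc_4_2 lc_a_rc_2_2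 lc_a_rc_21_0 lc_a_Cert_tree lc_a_rc_21_0 lc_a_rc_4_2 lc_a_rc_0_1 lc_a_rc_5_2 lc_a_rc_0_1) (@D3.rec (fun _ => (Cert rels S Gen.a)) lc_a_rc_0_1 lc_a_rc_4_2 lc_a_Cert_tree lc_a_rc_3_2 lc_a_rc_4_2 lc_a_rc_4_2 lc_a_rc_3_2 lc_a_rc_21_0 lc_a_Cert_tree lc_a_rc_3_2 lc_a_rc_4_2 lc_a_Cert_tree lc_a_rc_3_2 lc_a_rc_4_2 lc_a_rc_3_2 lc_a_rc_5_0 lc_a_rc_0_1 lc_a_rc_4_2 lc_a_rc_2_0 lc_a_rc_2_2 lc_a_rc_3_2 lc_a_rc_5_2 lc_a_rc_3_2 lc_a_rc_2_2 lc_a_rc_1_4 lc_a_rc_3_2 lc_a_Cert_tree lc_a_rc_21_0 lc_a_rc_22_0 lc_a_rc_4_2 lc_a_rc_4_2 lc_a_rc_5_2 lc_a_rc_5_0 lc_a_rc_5_0 lc_a_rc_2_2 lc_a_rc_3_0 lc_a_rc_0_1 lc_a_rc_2_2 lc_a_rc_3_2 lc_a_rc_4_2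 lc_a_rc_21_0 lc_a_rc_0_1 lc_a_rc_2_2 lc_a_rc_4_2 lc_a_Cert_tree lc_a_rc_2_2 lc_a_rc_4_2 lc_a_rc_3_2 lc_a_rc_4_2 lc_a_rc_4_2 lc_a_rc_3_2 lc_a_rc_21_0 lc_a_rc_4_2 lc_a_rc_1_4 lc_a_rc_4_2 lc_a_rc_4_2 lc_a_rc_21_0 lc_a_rc_3_2 lc_a_rc_5_2 lc_a_rc_3_2 lc_a_rc_21_0 lc_a_rc_3_2) (@D3.rec (fun _ => (Cert rels S Gen.a)) lc_a_rc_4_2 lc_a_rc_1_2 lc_a_rc_4_2 lc_a_rc_3_2 lc_a_rc_4_2 lc_a_rc_2_0 lc_a_rc_3_2 lc_a_rc_22_0 lc_a_rc_2_2 lc_a_rc_21_0 lc_a_rc_4_2 lc_a_rc_3_2 lc_a_rc_4_2 lc_a_rc_3_2 lc_a_rc_2_2 lc_a_Cert_tree lc_a_rc_3_2 lc_a_rc_4_2 lc_a_rc_1_4 lc_a_rc_1_4 lc_a_rc_5_2 lc_a_rc_0_1 lc_a_rc_21_0 lc_a_rc_4_2 lc_a_rc_21_0 lc_a_rc_2_2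 lc_a_rc_5_0 lc_a_rc_2_2 lc_a_rc_4_2 lc_a_rc_0_1 lc_a_rc_22_0 lc_a_rc_4_2 lc_a_Cert_tree lc_a_rc_3_2 lc_a_rc_4_2 lc_a_Cert_tree lc_a_rc_5_2 lc_a_Cert_tree lc_a_rc_3_2 lc_a_rc_4_2 lc_a_Cert_tree lc_a_rc_3_2 lc_a_rc_4_2 lc_a_rc_2_0 lc_a_rc_0_1 lc_a_rc_3_2 lc_a_rc_4_2 lc_a_rc_3_0 lc_a_rc_4_2 lc_a_rc_3_2 lc_a_rc_21_0 lc_a_rc_0_1 lc_a_rc_3_2 lc_a_rc_5_2 lc_a_rc_4_2 lc_a_Cert_tree lc_a_rc_2_2 lc_a_rc_3_2 lc_a_rc_4_2 lc_a_Cert_tree lc_a_rc_2_2 lc_a_rc_1_2) (@D3.rec (fun _ => (Cert rels S Gen.a)) lc_a_rc_5_0 lc_a_rc_4_2 lc_a_rc_4_2 lc_a_rc_21_0 lc_a_rc_2_2 lc_a_rc_5_2 lc_a_rc_3_2 lc_a_rc_2_2 lc_a_rc_4_2 lc_a_rc_1_4 lc_a_rc_21_0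 lc_a_rc_5_2 lc_a_rc_21_0 lc_a_rc_3_2 lc_a_rc_21_0 lc_a_rc_21_0 lc_a_rc_0_1 lc_a_rc_2_2 lc_a_rc_3_2 lc_a_rc_4_2 lc_a_rc_0_1 lc_a_rc_3_2 lc_a_rc_3_2 lc_a_rc_21_0 lc_a_rc_0_1 lc_a_rc_0_1 lc_a_rc_2_2 lc_a_rc_3_2 lc_a_rc_4_2 lc_a_rc_21_0 lc_a_rc_3_2 lc_a_rc_21_0 lc_a_rc_4_2 lc_a_rc_4_2 lc_a_rc_3_2 lc_a_rc_3_2 lc_a_rc_5_0 lc_a_rc_0_1 lc_a_rc_5_0 lc_a_rc_2_2 lc_a_rc_3_2 lc_a_rc_4_2 lc_a_rc_4_2 lc_a_rc_4_2 lc_a_rc_1_4 lc_a_rc_3_2 lc_a_rc_21_0 lc_a_rc_3_2 lc_a_rc_1_4 lc_a_rc_3_2 lc_a_rc_2_0 lc_a_rc_21_0 lc_a_rc_3_2 lc_a_rc_4_2 lc_a_rc_4_2 lc_a_rc_3_2 lc_a_rc_5_2 lc_a_rc_3_0 lc_a_rc_2_2 lc_a_rc_4_2 lc_a_rc_4_2 lc_a_Cert_tree) (@D3.rec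 (fun _ => (Cert rels S Gen.a)) lc_a_rc_2_2 lc_a_rc_4_2 lc_a_rc_0_1 lc_a_rc_4_2 lc_a_rc_0_1 lc_a_rc_3_2 lc_a_rc_4_2 lc_a_rc_21_0 lc_a_rc_2_2 lc_a_rc_3_2 lc_a_rc_5_2 lc_a_rc_4_2 lc_a_rc_1_4 lc_a_rc_2_2 lc_a_rc_2_2 lc_a_rc_3_2 lc_a_rc_2_0 lc_a_Cert_tree lc_a_rc_3_2 lc_a_rc_2_2 lc_a_rc_0_1 lc_a_rc_4_2 lc_a_rc_5_2 lc_a_rc_5_0 lc_a_rc_3_2 lc_a_Cert_tree lc_a_rc_3_2 lc_a_rc_2_2 lc_a_Cert_tree lc_a_rc_3_2 lc_a_rc_2_2 lc_a_Cert_tree lc_a_rc_2_2 lc_a_rc_2_2 lc_a_rc_3_2 lc_a_rc_2_2 lc_a_rc_2_2 lc_a_rc_4_2 lc_a_rc_21_0 lc_a_rc_2_2 lc_a_rc_3_2 lc_a_rc_5_2 lc_a_Cert_tree lc_a_rc_2_2 lc_a_rc_3_2 lc_a_rc_4_2 lc_a_rc_0_1 lc_a_rc_21_0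 lc_a_rc_4_0 lc_a_rc_0_1 lc_a_rc_4_0 lc_a_rc_2_2 lc_a_rc_0_1 lc_a_rc_0_1 lc_a_rc_4_2 lc_a_rc_5_2 lc_a_rc_4_2 lc_a_rc_4_0 lc_a_rc_3_0 lc_a_rc_0_1 lc_a_rc_5_0 lc_a_rc_3_2) (@D3.rec (fun _ => (Cert rels S Gen.a)) lc_a_rc_3_2 lc_a_rc_2_2 lc_a_rc_5_0 lc_a_rc_5_0 lc_a_rc_4_2 lc_a_rc_2_2 lc_a_rc_5_0 lc_a_Cert_tree lc_a_rc_3_2 lc_a_rc_2_2 lc_a_rc_4_2 lc_a_rc_2_2 lc_a_rc_5_0 lc_a_rc_4_2 lc_a_rc_0_1 lc_a_rc_0_1 lc_a_rc_2_2 lc_a_rc_3_2 lc_a_rc_4_2 lc_a_rc_2_2 lc_a_rc_2_2 lc_a_rc_2_2 lc_a_rc_3_2 lc_a_rc_2_2 lc_a_rc_3_2 lc_a_rc_2_2 lc_a_rc_4_0 lc_a_rc_4_0 lc_a_rc_0_1 lc_a_rc_22_0 lc_a_rc_3_2 lc_a_rc_21_0 lc_a_rc_4_2 lc_a_rc_3_0 lc_a_rc_2_2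 lc_a_rc_3_2 lc_a_rc_2_2 lc_a_rc_3_2 lc_a_rc_4_2 lc_a_rc_3_2 lc_a_rc_4_2 lc_a_rc_4_2 lc_a_rc_2_0 lc_a_Cert_tree lc_a_rc_2_2 lc_a_rc_4_2 lc_a_rc_2_2 lc_a_rc_4_2 lc_a_rc_3_2 lc_a_rc_4_2 lc_a_rc_4_2 lc_a_rc_5_2 lc_a_rc_3_2 lc_a_rc_3_2 lc_a_rc_3_2 lc_a_Cert_tree lc_a_rc_3_2 lc_a_rc_4_2 lc_a_rc_0_1 lc_a_rc_5_2 lc_a_rc_2_2 lc_a_rc_1_4) (@D3.rec (fun _ => (Cert rels S Gen.a)) lc_a_rc_4_2 lc_a_rc_1_2 lc_a_rc_1_4 lc_a_rc_3_2 lc_a_rc_5_2 lc_a_rc_2_2 lc_a_rc_3_2 lc_a_rc_22_0 lc_a_rc_2_0 lc_a_Cert_tree lc_a_rc_3_2 lc_a_rc_2_2 lc_a_rc_3_2 lc_a_Cert_tree lc_a_rc_3_2 lc_a_rc_2_2 lc_a_rc_0_1 lc_a_rc_5_2 lc_a_Cert_tree lc_a_rc_3_2 lc_a_rc_2_2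 lc_a_Cert_tree lc_a_rc_3_2 lc_a_rc_2_2 lc_a_rc_2_2 lc_a_rc_3_2 lc_a_rc_4_2 lc_a_rc_5_0 lc_a_rc_4_2 lc_a_rc_3_2 lc_a_rc_5_2 lc_a_rc_0_1 lc_a_rc_2_2 lc_a_Cert_tree lc_a_rc_2_2 lc_a_rc_0_1 lc_a_rc_4_2 lc_a_rc_4_0 lc_a_rc_3_2 lc_a_rc_2_2 lc_a_rc_5_2 lc_a_rc_5_0 lc_a_Cert_tree lc_a_rc_2_2 lc_a_rc_2_2 lc_a_rc_4_0 lc_a_rc_2_2 lc_a_rc_3_2 lc_a_rc_3_2 lc_a_rc_4_2 lc_a_rc_0_1 lc_a_rc_0_1 lc_a_rc_2_2 lc_a_rc_4_2 lc_a_rc_3_2 lc_a_Cert_tree lc_a_Cert_tree lc_a_rc_4_2 lc_a_rc_2_2 lc_a_rc_5_0 lc_a_rc_3_2 lc_a_rc_21_0) (@D3.rec (fun _ => (Cert rels S Gen.a)) lc_a_rc_3_2 lc_a_rc_5_0 lc_a_rc_2_2 lc_a_rc_3_2 lc_a_rc_3_2 lc_a_rc_1_4 lc_a_rc_3_2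 lc_a_rc_4_2 lc_a_rc_5_0 lc_a_rc_3_2 lc_a_rc_5_2 lc_a_rc_3_0 lc_a_rc_4_2 lc_a_rc_0_1 lc_a_rc_2_2 lc_a_rc_2_2 lc_a_rc_4_2 lc_a_rc_21_0 lc_a_rc_0_1 lc_a_rc_3_2 lc_a_rc_5_2 lc_a_Cert_tree lc_a_rc_21_0 lc_a_rc_3_2 lc_a_rc_4_2 lc_a_rc_3_2 lc_a_rc_2_2 lc_a_rc_4_2 lc_a_rc_4_2 lc_a_rc_1_0 lc_a_rc_0_1 lc_a_rc_2_2 lc_a_rc_4_2 lc_a_rc_2_2 lc_a_rc_3_2 lc_a_rc_3_2 lc_a_rc_1_4 lc_a_rc_4_2 lc_a_Cert_tree lc_a_rc_2_2 lc_a_rc_21_0 lc_a_rc_4_2 lc_a_rc_4_2 lc_a_rc_0_1 lc_a_rc_21_0 lc_a_rc_3_2 lc_a_rc_21_0 lc_a_rc_2_2 lc_a_rc_4_2 lc_a_rc_4_2 lc_a_rc_2_2 lc_a_rc_4_2 lc_a_rc_21_0 lc_a_rc_4_2 lc_a_rc_2_2 lc_a_rc_3_2 lc_a_rc_5_2 lc_a_rc_3_2 lc_a_rc_0_1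 lc_a_rc_21_0 lc_a_rc_0_1 lc_a_rc_21_0) (@D3.rec (fun _ => (Cert rels S Gen.a)) lc_a_rc_2_2 lc_a_Cert_tree lc_a_rc_3_2 lc_a_rc_2_2 lc_a_rc_0_1 lc_a_rc_4_2 lc_a_rc_5_2 lc_a_rc_21_0 lc_a_rc_3_2 lc_a_rc_2_2 lc_a_rc_4_2 lc_a_rc_4_2 lc_a_Cert_tree lc_a_rc_3_2 lc_a_rc_2_2 lc_a_rc_1_4 lc_a_rc_3_2 lc_a_rc_4_2 lc_a_rc_21_0 lc_a_rc_1_4 lc_a_rc_5_2 lc_a_rc_2_0 lc_a_rc_22_0 lc_a_rc_21_0 lc_a_rc_4_2 lc_a_rc_2_2 lc_a_rc_4_2 lc_a_Cert_tree lc_a_rc_3_2 lc_a_rc_4_2 lc_a_rc_0_1 lc_a_rc_5_2 lc_a_Cert_tree lc_a_rc_3_2 lc_a_rc_4_2 lc_a_Cert_tree lc_a_rc_3_2 lc_a_rc_4_2 lc_a_rc_3_2 lc_a_rc_21_0 lc_a_rc_2_2 lc_a_rc_4_2 lc_a_rc_2_0 lc_a_rc_2_2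 lc_a_rc_3_2 lc_a_rc_5_2 lc_a_rc_0_1 lc_a_rc_2_2 lc_a_rc_5_2 lc_a_rc_3_2 lc_a_rc_0_1 lc_a_rc_21_0 lc_a_rc_1_2 lc_a_rc_4_2 lc_a_rc_2_2 lc_a_rc_3_2 lc_a_rc_4_2 lc_a_rc_2_2 lc_a_rc_4_2 lc_a_rc_3_2 lc_a_rc_4_0 lc_a_rc_3_0) (@D3.rec (fun _ => (Cert rels S Gen.a)) lc_a_rc_3_2 lc_a_rc_1_0 lc_a_rc_21_0 lc_a_rc_3_2 lc_a_rc_2_2 lc_a_rc_2_0 lc_a_Cert_tree lc_a_rc_21_0 lc_a_rc_4_2 lc_a_rc_4_2 lc_a_rc_1_2 lc_a_rc_3_2 lc_a_rc_0_1 lc_a_rc_3_2 lc_a_rc_2_2 lc_a_rc_0_1 lc_a_rc_21_0 lc_a_rc_3_2 lc_a_Cert_tree lc_a_rc_3_2 lc_a_rc_2_2 lc_a_rc_0_1 lc_a_rc_4_2 lc_a_rc_5_2 lc_a_rc_21_0 lc_a_rc_21_0 lc_a_rc_2_2 lc_a_rc_2_2 lc_a_rc_1_4 lc_a_rc_3_2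 lc_a_rc_4_2 lc_a_rc_3_2 lc_a_rc_2_2 lc_a_rc_3_2 lc_a_rc_3_2 lc_a_rc_21_0 lc_a_rc_2_2 lc_a_rc_3_2 lc_a_rc_3_2 lc_a_rc_2_2 lc_a_rc_3_2 lc_a_rc_21_0 lc_a_rc_2_2 lc_a_rc_4_2 lc_a_rc_21_0 lc_a_rc_2_2 lc_a_Cert_tree lc_a_rc_3_2 lc_a_rc_2_2 lc_a_rc_3_0 lc_a_rc_22_0 lc_a_rc_2_0 lc_a_Cert_tree lc_a_rc_21_0 lc_a_rc_4_2 lc_a_rc_4_0 lc_a_rc_3_2 lc_a_rc_5_2 lc_a_rc_4_2 lc_a_Cert_tree lc_a_rc_3_2 lc_a_rc_4_2) (@D3.rec (fun _ => (Cert rels S Gen.a)) lc_a_Cert_tree lc_a_rc_3_2 lc_a_rc_4_2 lc_a_Cert_tree lc_a_rc_3_2 lc_a_rc_4_2 lc_a_rc_3_2 lc_a_rc_3_2 lc_a_rc_2_2 lc_a_rc_4_2 lc_a_rc_2_2 lc_a_rc_4_2 lc_a_rc_3_2 lc_a_rc_21_0 lc_a_rc_2_2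 lc_a_rc_4_2 lc_a_rc_0_1 lc_a_rc_4_2 lc_a_rc_21_0 lc_a_rc_4_2 lc_a_rc_1_4 lc_a_rc_4_2 lc_a_rc_1_4 lc_a_rc_4_2 lc_a_rc_5_2 lc_a_rc_2_2 lc_a_rc_4_2 lc_a_rc_3_2 lc_a_rc_4_2 lc_a_rc_3_2 lc_a_rc_2_2 lc_a_rc_4_2 lc_a_rc_4_2 lc_a_Cert_tree lc_a_rc_3_2 lc_a_rc_4_2 lc_a_rc_5_0 lc_a_Cert_tree lc_a_rc_5_2 lc_a_rc_2_2 lc_a_rc_1_4 lc_a_rc_3_2 lc_a_rc_2_2 lc_a_rc_3_2 lc_a_rc_0_1 lc_a_rc_2_2 lc_a_rc_4_2 lc_a_rc_3_2 lc_a_rc_4_2 lc_a_rc_2_2 lc_a_rc_4_2 lc_a_rc_2_2 lc_a_rc_3_2 lc_a_Cert_tree lc_a_rc_4_2 lc_a_rc_0_1 lc_a_rc_2_2 lc_a_Cert_tree lc_a_rc_21_0 lc_a_rc_4_2 lc_a_Cert_tree lc_a_rc_3_2) (@D3.rec (fun _ => (Cert rels S Gen.a)) lc_a_rc_4_2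 lc_a_rc_22_0 lc_a_rc_0_1 lc_a_rc_4_2 lc_a_rc_3_2 lc_a_rc_2_2 lc_a_rc_4_2 lc_a_rc_5_0 lc_a_rc_2_2 lc_a_rc_3_2 lc_a_rc_5_2 lc_a_rc_2_2 lc_a_rc_3_2 lc_a_rc_4_2 lc_a_rc_4_2 lc_a_Cert_tree lc_a_rc_3_2 lc_a_rc_4_2 lc_a_rc_0_1 lc_a_rc_3_0 lc_a_rc_2_2 lc_a_Cert_tree lc_a_rc_4_2 lc_a_rc_4_2 lc_a_rc_0_1 lc_a_rc_21_0 lc_a_rc_0_1 lc_a_rc_1_2 lc_a_rc_4_2 lc_a_rc_4_2 lc_a_rc_2_0 lc_a_rc_4_2 lc_a_rc_3_2 lc_a_rc_0_1 lc_a_rc_21_0 lc_a_rc_4_2 lc_a_rc_2_2 lc_a_Cert_tree lc_a_rc_3_2 lc_a_rc_4_2 lc_a_rc_0_1 lc_a_rc_4_2 lc_a_rc_21_0 lc_a_rc_3_2 lc_a_rc_4_2 lc_a_Cert_tree lc_a_rc_0_1 lc_a_rc_4_2 lc_a_Cert_tree lc_a_rc_2_2 lc_a_rc_4_2 lc_a_rc_2_2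 lc_a_rc_2_2 lc_a_rc_0_1 lc_a_rc_3_2 lc_a_rc_4_2 lc_a_rc_4_2 lc_a_rc_2_2 lc_a_rc_2_2 lc_a_rc_3_2 lc_a_rc_5_2 lc_a_rc_0_1) (@D3.rec (fun _ => (Cert rels S Gen.a)) lc_a_rc_2_2 lc_a_rc_1_4 lc_a_rc_0_1 lc_a_rc_2_2 lc_a_rc_4_2 lc_a_rc_4_2 lc_a_rc_2_2 lc_a_rc_3_2 lc_a_rc_4_2 lc_a_rc_4_2 lc_a_rc_5_0 lc_a_rc_5_2 lc_a_Cert_tree lc_a_rc_2_2 lc_a_Cert_tree lc_a_rc_2_2 lc_a_rc_5_2 lc_a_rc_0_1 lc_a_rc_21_0 lc_a_rc_4_2 lc_a_rc_21_0 lc_a_rc_3_2 lc_a_rc_4_2 lc_a_rc_5_0 lc_a_rc_2_2 lc_a_rc_3_2 lc_a_rc_22_0 lc_a_rc_2_2 lc_a_rc_3_2 lc_a_rc_21_0 lc_a_rc_2_2 lc_a_rc_3_2 lc_a_rc_4_2 lc_a_rc_4_2 lc_a_Cert_tree lc_a_rc_22_0 lc_a_rc_4_2 lc_a_rc_5_0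 lc_a_rc_4_2 lc_a_rc_3_2 lc_a_rc_5_2 lc_a_rc_0_1 lc_a_rc_21_0 lc_a_rc_0_1 lc_a_rc_3_2 lc_a_rc_4_2 lc_a_rc_4_2 lc_a_rc_21_0 lc_a_rc_2_2 lc_a_rc_3_2 lc_a_rc_22_0 lc_a_rc_1_4 lc_a_rc_4_2 lc_a_rc_5_2 lc_a_rc_3_2 lc_a_rc_4_2 lc_a_rc_1_4 lc_a_rc_21_0 lc_a_rc_1_4 lc_a_rc_0_1 lc_a_rc_21_0 lc_a_rc_3_2) (@D3.rec (fun _ => (Cert rels S Gen.a)) lc_a_rc_4_2 lc_a_rc_4_2 lc_a_rc_0_1 lc_a_rc_4_2 lc_a_rc_3_2 lc_a_rc_5_2 lc_a_rc_3_2 lc_a_rc_3_2 lc_a_rc_0_1 lc_a_rc_2_2 lc_a_rc_1_2 lc_a_rc_4_2 lc_a_rc_4_2 lc_a_rc_4_2 lc_a_rc_3_2 lc_a_rc_21_0 lc_a_Cert_tree lc_a_rc_3_2 lc_a_rc_4_2 lc_a_rc_3_2 lc_a_rc_4_2 lc_a_rc_3_2 lc_a_rc_3_0 lc_a_rc_4_2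 lc_a_rc_2_2 lc_a_rc_5_0 lc_a_rc_3_2 lc_a_rc_5_2 lc_a_Cert_tree lc_a_rc_4_2 lc_a_Cert_tree lc_a_rc_4_2 lc_a_Cert_tree lc_a_rc_4_2 lc_a_rc_4_2 lc_a_rc_5_0 lc_a_rc_3_2 lc_a_rc_5_2 lc_a_rc_4_2 lc_a_Cert_tree lc_a_rc_21_0 lc_a_rc_21_0 lc_a_rc_22_0 lc_a_Cert_tree lc_a_rc_1_4 lc_a_rc_3_2 lc_a_rc_4_2 lc_a_rc_21_0 lc_a_rc_0_1 lc_a_rc_2_2 lc_a_rc_5_2 lc_a_rc_5_2 lc_a_rc_2_2 lc_a_rc_21_0 lc_a_rc_3_2 lc_a_rc_0_1 lc_a_rc_0_1 lc_a_rc_2_2 lc_a_rc_3_2 lc_a_rc_4_2 lc_a_rc_21_0 lc_a_Cert_tree) (@D3.rec (fun _ => (Cert rels S Gen.a)) lc_a_rc_3_2 lc_a_rc_2_2 lc_a_rc_0_1 lc_a_rc_4_2 lc_a_rc_2_2 lc_a_rc_4_2 lc_a_rc_3_2 lc_a_rc_0_1 lc_a_rc_0_1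 lc_a_rc_3_2 lc_a_rc_4_2 lc_a_Cert_tree lc_a_rc_3_2 lc_a_rc_4_2 lc_a_rc_4_2 lc_a_rc_4_2 lc_a_rc_3_2 lc_a_rc_0_1 lc_a_rc_2_2 lc_a_rc_3_0 lc_a_rc_2_2 lc_a_rc_22_0 lc_a_rc_0_1 lc_a_rc_4_2 lc_a_rc_4_2 lc_a_rc_3_2 lc_a_rc_5_0 lc_a_rc_1_2 lc_a_rc_2_2 lc_a_rc_5_0 lc_a_rc_2_0 lc_a_rc_5_0 lc_a_Cert_tree lc_a_rc_3_2 lc_a_rc_1_4 lc_a_rc_3_2 lc_a_rc_4_2 lc_a_rc_4_2 lc_a_rc_0_1 lc_a_rc_5_2 lc_a_Cert_tree lc_a_rc_2_2 lc_a_Cert_tree lc_a_rc_4_2 lc_a_rc_3_0 lc_a_rc_4_2 lc_a_rc_2_0 lc_a_rc_2_2 lc_a_rc_3_2 lc_a_rc_5_2 lc_a_rc_4_2 lc_a_rc_4_2 lc_a_rc_21_0 lc_a_rc_1_4 lc_a_rc_5_0 lc_a_rc_21_0 lc_a_rc_3_2 lc_a_rc_4_2 lc_a_rc_2_2 lc_a_rc_3_2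 lc_a_rc_1_4 lc_a_rc_3_2) (@D3.rec (fun _ => (Cert rels S Gen.a)) lc_a_rc_4_2 lc_a_rc_5_0 lc_a_rc_4_2 lc_a_rc_3_2 lc_a_rc_5_2 lc_a_Cert_tree lc_a_rc_2_2 lc_a_Cert_tree lc_a_rc_2_2 lc_a_rc_3_0 lc_a_rc_4_2 lc_a_rc_21_0 lc_a_rc_2_2 lc_a_rc_3_2 lc_a_rc_5_2 lc_a_rc_5_0 lc_a_rc_5_0 lc_a_rc_4_2 lc_a_rc_4_2 lc_a_rc_21_0 lc_a_rc_4_0 lc_a_Cert_tree lc_a_rc_2_2 lc_a_rc_5_2 lc_a_rc_1_2 lc_a_rc_3_2 lc_a_rc_2_2 lc_a_rc_2_2 lc_a_rc_4_2 lc_a_rc_4_2 lc_a_rc_5_0 lc_a_rc_2_2 lc_a_rc_4_2 lc_a_Cert_tree lc_a_rc_3_2 lc_a_rc_5_2 lc_a_rc_0_1 lc_a_rc_2_2 lc_a_rc_0_1 lc_a_rc_5_0 lc_a_rc_2_2 lc_a_rc_0_1 lc_a_rc_2_2 lc_a_rc_4_0 lc_a_rc_2_2 lc_a_rc_2_2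 lc_a_Cert_tree lc_a_rc_2_2 lc_a_rc_2_2 lc_a_rc_3_2 lc_a_rc_4_2 lc_a_rc_5_0 lc_a_rc_2_2 lc_a_rc_3_2 lc_a_rc_4_2 lc_a_rc_0_1 lc_a_rc_2_2 lc_a_rc_3_2 lc_a_rc_21_0 lc_a_rc_22_0 lc_a_rc_2_2 lc_a_rc_4_2) (@D3.rec (fun _ => (Cert rels S Gen.a)) lc_a_rc_4_0 lc_a_rc_2_2 lc_a_rc_3_2 lc_a_rc_4_2 lc_a_Cert_tree lc_a_rc_3_2 lc_a_rc_2_2 lc_a_rc_4_2 lc_a_rc_4_0 lc_a_rc_0_1 lc_a_rc_3_2 lc_a_rc_5_2 lc_a_rc_2_2 lc_a_rc_3_2 lc_a_rc_0_1 lc_a_rc_3_2 lc_a_rc_4_2 lc_a_rc_3_2 lc_a_rc_21_0 lc_a_rc_2_2 lc_a_rc_5_2 lc_a_Cert_tree lc_a_rc_3_2 lc_a_rc_3_2 lc_a_rc_2_2 lc_a_rc_4_2 lc_a_rc_22_0 lc_a_rc_4_2 lc_a_rc_0_1 lc_a_rc_4_2 lc_a_rc_5_0 lc_a_Cert_tree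 lc_a_rc_22_0 lc_a_rc_5_2 lc_a_rc_4_0 lc_a_rc_2_2 lc_a_rc_4_2 lc_a_Cert_tree lc_a_rc_3_2 lc_a_rc_1_4 lc_a_rc_3_2 lc_a_rc_2_2 lc_a_rc_21_0 lc_a_rc_3_2 lc_a_rc_0_1 lc_a_rc_3_2 lc_a_rc_4_2 lc_a_rc_4_2 lc_a_rc_3_2 lc_a_rc_3_2 lc_a_rc_4_2 lc_a_rc_4_2 lc_a_rc_3_2 lc_a_rc_5_2 lc_a_rc_4_2 lc_a_rc_4_2 lc_a_rc_3_2 lc_a_rc_5_0 lc_a_rc_4_2 lc_a_rc_21_0 lc_a_rc_21_0 lc_a_rc_3_2) (@D3.rec (fun _ => (Cert rels S Gen.a)) lc_a_rc_21_0 lc_a_rc_2_2 lc_a_rc_5_2 lc_a_rc_3_2 lc_a_rc_4_2 lc_a_rc_4_2 lc_a_Cert_tree lc_a_rc_3_2 lc_a_rc_4_2 lc_a_rc_21_0 lc_a_rc_21_0 lc_a_rc_2_2 lc_a_Cert_tree lc_a_rc_4_2 lc_a_Cert_tree lc_a_rc_0_1 lc_a_rc_0_1 lc_a_rc_3_2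 lc_a_rc_21_0 lc_a_rc_22_0 lc_a_rc_4_2 lc_a_rc_22_0 lc_a_rc_0_1 lc_a_rc_5_0 lc_a_rc_5_0 lc_a_rc_21_0 lc_a_Cert_tree lc_a_rc_2_2 lc_a_rc_3_2 lc_a_rc_4_2 lc_a_rc_3_2 lc_a_rc_21_0 lc_a_rc_2_2 lc_a_rc_2_2 lc_a_rc_4_2 lc_a_rc_5_0 lc_a_rc_2_2 lc_a_rc_5_2 lc_a_rc_4_2 lc_a_rc_3_2 lc_a_rc_5_2 lc_a_rc_2_2 lc_a_rc_4_2 lc_a_rc_1_4 lc_a_rc_3_2 lc_a_rc_1_4 lc_a_Cert_tree lc_a_rc_22_0 lc_a_rc_22_0 lc_a_rc_21_0 lc_a_rc_0_1 lc_a_rc_0_1 lc_a_rc_21_0 lc_a_rc_3_2 lc_a_rc_3_2 lc_a_rc_2_2 lc_a_rc_2_2 lc_a_rc_5_2 lc_a_rc_2_2 lc_a_rc_4_2 lc_a_Cert_tree lc_a_rc_22_0) (@D3.rec (fun _ => (Cert rels S Gen.a)) lc_a_rc_22_0 lc_a_rc_5_2 lc_a_Cert_tree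 lc_a_rc_4_2 lc_a_rc_21_0 lc_a_rc_4_2 lc_a_rc_3_2 lc_a_rc_4_0 lc_a_Cert_tree lc_a_rc_21_0 lc_a_rc_0_1 lc_a_rc_3_2 lc_a_rc_21_0 lc_a_rc_22_0 lc_a_rc_3_2 lc_a_rc_4_2 lc_a_rc_21_0 lc_a_rc_3_2 lc_a_rc_3_2 lc_a_rc_3_2 lc_a_rc_5_2 lc_a_rc_2_2 lc_a_rc_3_2 lc_a_rc_2_2 lc_a_rc_5_2 lc_a_rc_5_0 lc_a_rc_4_2 lc_a_rc_4_2 lc_a_rc_21_0 lc_a_rc_3_2 lc_a_rc_2_2 lc_a_rc_3_2 lc_a_rc_4_2 lc_a_rc_21_0 lc_a_rc_3_2 lc_a_rc_3_2 lc_a_rc_2_2 lc_a_rc_4_2 lc_a_rc_4_2 lc_a_rc_2_2 lc_a_rc_2_2 lc_a_rc_4_2 lc_a_rc_3_2 lc_a_rc_21_0 lc_a_rc_4_2 lc_a_rc_22_0 lc_a_rc_22_0 lc_a_rc_21_0 lc_a_rc_3_2 lc_a_rc_3_2 lc_a_rc_21_0 lc_a_rc_1_4 lc_a_rc_21_0 lc_a_rc_2_2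 lc_a_rc_5_2 lc_a_rc_3_2 lc_a_rc_22_0 lc_a_rc_3_2 lc_a_rc_4_2 lc_a_rc_2_2 lc_a_rc_3_2 lc_a_rc_3_2) (@D3.rec (fun _ => (Cert rels S Gen.a)) lc_a_rc_2_2 lc_a_rc_4_2 lc_a_rc_4_2 lc_a_rc_2_2 lc_a_rc_2_2 lc_a_rc_4_2 lc_a_rc_2_2 lc_a_rc_2_2 lc_a_Cert_tree lc_a_rc_22_0 lc_a_rc_22_0 lc_a_rc_5_2 lc_a_rc_3_0 lc_a_rc_21_0 lc_a_rc_22_0 lc_a_rc_5_2 lc_a_rc_3_2 lc_a_rc_4_2 lc_a_rc_5_2 lc_a_rc_3_2 lc_a_rc_3_2 lc_a_rc_22_0 lc_a_rc_22_0 lc_a_rc_4_2 lc_a_rc_3_2 lc_a_rc_2_2 lc_a_rc_5_2 lc_a_rc_22_0 lc_a_rc_3_2 lc_a_rc_4_2 lc_a_rc_3_2 lc_a_rc_21_0 lc_a_rc_5_0 lc_a_rc_22_0 lc_a_rc_3_2 lc_a_rc_21_0 lc_a_rc_2_2 lc_a_rc_5_2 lc_a_rc_21_0 lc_a_rc_4_2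 lc_a_rc_3_2 lc_a_rc_3_2 lc_a_rc_5_0 lc_a_rc_4_2 lc_a_rc_4_2 lc_a_rc_3_2 lc_a_rc_4_2 lc_a_rc_21_0 lc_a_rc_0_1 lc_a_rc_3_2 lc_a_rc_4_2 lc_a_rc_2_2 lc_a_rc_3_2 lc_a_rc_2_2 lc_a_rc_3_2 lc_a_rc_1_4 lc_a_rc_21_0 lc_a_rc_3_2 lc_a_rc_4_2 lc_a_Cert_tree lc_a_rc_2_2 lc_a_rc_4_2) (@D3.rec (fun _ => (Cert rels S Gen.a)) lc_a_rc_3_2 lc_a_rc_2_2 lc_a_Cert_tree lc_a_rc_2_0 lc_a_rc_2_2 lc_a_rc_4_2 lc_a_rc_3_2 lc_a_rc_3_2 lc_a_rc_5_0 lc_a_rc_4_2 lc_a_rc_4_2 lc_a_rc_1_4 lc_a_rc_1_2 lc_a_rc_1_4 lc_a_rc_21_0 lc_a_rc_4_2 lc_a_rc_1_0 lc_a_rc_2_2 lc_a_rc_3_2 lc_a_rc_21_0 lc_a_rc_2_2 lc_a_rc_3_2 lc_a_rc_2_2 lc_a_rc_3_2 lc_a_rc_1_4 lc_a_rc_4_2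 lc_a_rc_3_2 lc_a_rc_21_0 lc_a_rc_3_2 lc_a_rc_2_2 lc_a_rc_5_0 lc_a_rc_4_2 lc_a_rc_4_2 lc_a_Cert_tree lc_a_rc_3_2 lc_a_rc_5_2 lc_a_rc_1_4 lc_a_rc_1_2 lc_a_rc_3_2 lc_a_rc_3_2 lc_a_rc_4_2 lc_a_rc_1_4 lc_a_rc_3_2 lc_a_rc_5_2 lc_a_rc_4_2 lc_a_rc_4_2 lc_a_rc_3_2 lc_a_rc_2_2 lc_a_rc_4_2 lc_a_rc_3_2 lc_a_rc_1_2 lc_a_rc_3_2 lc_a_rc_5_0 lc_a_rc_2_2 lc_a_rc_5_2 lc_a_rc_3_0 lc_a_rc_4_2 lc_a_rc_4_2 lc_a_rc_3_0 lc_a_rc_3_2 lc_a_rc_22_0 lc_a_rc_5_2)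
def ce_a_2 : D2 → D3 → (Cert rels S Gen.a) := @D2.rec (fun _ => D3 → (Cert rels S Gen.a)) (@D3.rec (fun _ => (Cert rels S Gen.a)) lc_a_rc_4_2 lc_a_rc_2_2 lc_a_rc_3_2 lc_a_rc_4_0 lc_a_rc_3_2 lc_a_rc_2_2 lc_a_Cert_tree lc_a_rc_3_2 lc_a_rc_21_0 lc_a_rc_2_2 lc_a_rc_1_2 lc_a_rc_2_2 lc_a_rc_4_2 lc_a_Cert_tree lc_a_rc_0_1 lc_a_rc_0_1 lc_a_rc_3_2 lc_a_rc_21_0 lc_a_rc_22_0 lc_a_rc_4_2 lc_a_rc_22_0 lc_a_rc_2_2 lc_a_rc_4_2 lc_a_rc_3_2 lc_a_rc_3_2 lc_a_rc_4_2 lc_a_rc_3_2 lc_a_rc_3_2 lc_a_rc_5_2 lc_a_rc_4_2 lc_a_rc_4_2 lc_a_rc_3_2 lc_a_rc_21_0 lc_a_rc_3_2 lc_a_rc_2_2 lc_a_rc_4_2 lc_a_rc_0_1 lc_a_rc_3_0 lc_a_rc_3_2 lc_a_rc_2_2 lc_a_rc_5_2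 lc_a_rc_3_2 lc_a_rc_3_2 lc_a_rc_2_2 lc_a_rc_4_2 lc_a_rc_3_2 lc_a_rc_4_2 lc_a_rc_2_2 lc_a_rc_4_2 lc_a_rc_1_4 lc_a_rc_4_2 lc_a_Cert_tree lc_a_rc_3_2 lc_a_rc_22_0 lc_a_rc_5_0 lc_a_rc_4_0 lc_a_rc_2_2 lc_a_rc_5_2 lc_a_Cert_tree lc_a_rc_0_1 lc_a_rc_0_1 lc_a_rc_3_2) (@D3.rec (fun _ => (Cert rels S Gen.a)) lc_a_rc_21_0 lc_a_rc_2_2 lc_a_rc_22_0 lc_a_rc_4_2 lc_a_rc_22_0 lc_a_rc_4_2 lc_a_rc_4_2 lc_a_rc_2_2 lc_a_rc_3_2 lc_a_rc_5_2 lc_a_rc_3_2 lc_a_rc_2_2 lc_a_rc_21_0 lc_a_rc_2_2 lc_a_rc_5_2 lc_a_rc_1_4 lc_a_rc_1_2 lc_a_rc_5_2 lc_a_rc_4_2 lc_a_rc_3_2 lc_a_rc_5_2 lc_a_rc_3_2 lc_a_rc_5_2 lc_a_rc_21_0 lc_a_rc_2_2 lc_a_rc_5_2 lc_a_rc_4_2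 lc_a_rc_4_2 lc_a_rc_3_2 lc_a_rc_2_2 lc_a_rc_3_2 lc_a_rc_2_2 lc_a_rc_4_2 lc_a_rc_0_1 lc_a_rc_2_2 lc_a_rc_5_2 lc_a_rc_3_2 lc_a_rc_2_2 lc_a_rc_5_0 lc_a_rc_3_2 lc_a_rc_22_0 lc_a_rc_21_0 lc_a_rc_3_2 lc_a_rc_2_2 lc_a_rc_3_2 lc_a_rc_3_2 lc_a_rc_3_2 lc_a_rc_21_0 lc_a_rc_2_0 lc_a_rc_0_1 lc_a_rc_21_0 lc_a_rc_3_2 lc_a_rc_4_2 lc_a_rc_4_2 lc_a_rc_3_2 lc_a_rc_5_2 lc_a_rc_2_2 lc_a_rc_3_2 lc_a_rc_3_2 lc_a_rc_21_0 lc_a_rc_4_2 lc_a_rc_4_2) (@D3.rec (fun _ => (Cert rels S Gen.a)) lc_a_rc_3_2 lc_a_rc_1_4 lc_a_Cert_tree lc_a_rc_21_0 lc_a_rc_21_0 lc_a_rc_21_0 lc_a_rc_2_2 lc_a_rc_21_0 lc_a_Cert_tree lc_a_rc_3_2 lc_a_rc_5_2 lc_a_rc_4_2 lc_a_rc_3_2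 lc_a_rc_3_2 lc_a_rc_4_2 lc_a_rc_0_1 lc_a_rc_3_2 lc_a_rc_5_2 lc_a_rc_0_1 lc_a_rc_21_0 lc_a_rc_2_2 lc_a_rc_4_2 lc_a_rc_4_2 lc_a_rc_21_0 lc_a_rc_5_2 lc_a_rc_2_2 lc_a_rc_4_2 lc_a_rc_2_2 lc_a_Cert_tree lc_a_rc_4_2 lc_a_rc_5_0 lc_a_rc_4_2 lc_a_rc_4_2 lc_a_rc_1_4 lc_a_rc_3_2 lc_a_rc_3_2 lc_a_rc_4_2 lc_a_rc_3_2 lc_a_rc_2_2 lc_a_rc_4_2 lc_a_rc_1_2 lc_a_rc_2_2 lc_a_Cert_tree lc_a_rc_2_2 lc_a_rc_3_0 lc_a_rc_4_2 lc_a_rc_5_2 lc_a_rc_2_2 lc_a_rc_0_1 lc_a_rc_2_2 lc_a_rc_4_2 lc_a_Cert_tree lc_a_rc_4_2 lc_a_rc_5_0 lc_a_rc_4_2 lc_a_rc_3_2 lc_a_rc_4_2 lc_a_rc_0_1 lc_a_rc_2_2 lc_a_rc_4_2 lc_a_Cert_tree lc_a_rc_4_2) (@D3.rec (fun _ => (Cert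 rels S Gen.a)) lc_a_rc_4_2 lc_a_rc_5_0 lc_a_rc_5_2 lc_a_Cert_tree lc_a_rc_4_2 lc_a_Cert_tree lc_a_rc_0_1 lc_a_rc_0_1 lc_a_rc_3_2 lc_a_rc_21_0 lc_a_rc_4_2 lc_a_rc_4_2 lc_a_rc_4_2 lc_a_rc_0_1 lc_a_rc_21_0 lc_a_rc_4_2 lc_a_rc_4_2 lc_a_rc_2_2 lc_a_rc_5_0 lc_a_rc_21_0 lc_a_rc_3_2 lc_a_rc_3_2 lc_a_rc_4_2 lc_a_rc_3_2 lc_a_rc_3_2 lc_a_rc_2_2 lc_a_rc_4_2 lc_a_rc_2_2 lc_a_rc_2_2 lc_a_rc_5_2 lc_a_rc_3_2 lc_a_rc_2_2 lc_a_rc_4_2 lc_a_rc_3_0 lc_a_rc_2_2 lc_a_rc_4_2 lc_a_rc_22_0 lc_a_rc_4_2 lc_a_rc_1_4 lc_a_rc_1_4 lc_a_rc_4_2 lc_a_rc_0_1 lc_a_rc_4_2 lc_a_rc_0_1 lc_a_rc_5_0 lc_a_rc_3_2 lc_a_rc_3_2 lc_a_rc_4_2 lc_a_rc_3_2 lc_a_rc_3_2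 lc_a_rc_2_2 lc_a_rc_4_2 lc_a_rc_21_0 lc_a_rc_0_1 lc_a_rc_5_2 lc_a_Cert_tree lc_a_rc_2_2 lc_a_rc_4_2 lc_a_rc_5_2 lc_a_rc_2_2 lc_a_rc_4_2 lc_a_rc_0_1) (@D3.rec (fun _ => (Cert rels S Gen.a)) lc_a_rc_4_2 lc_a_rc_3_2 lc_a_rc_2_2 lc_a_rc_4_2 lc_a_rc_4_2 lc_a_Cert_tree lc_a_rc_3_2 lc_a_rc_5_2 lc_a_rc_4_2 lc_a_rc_2_2 lc_a_rc_3_2 lc_a_rc_5_2 lc_a_rc_4_2 lc_a_rc_2_2 lc_a_rc_3_2 lc_a_rc_5_2 lc_a_rc_4_2 lc_a_rc_3_2 lc_a_rc_5_2 lc_a_rc_4_2 lc_a_rc_3_2 lc_a_rc_4_2 lc_a_rc_3_2 lc_a_rc_22_0 lc_a_rc_2_0 lc_a_rc_4_2 lc_a_rc_21_0 lc_a_rc_5_2 lc_a_rc_3_2 lc_a_rc_21_0 lc_a_rc_2_2 lc_a_rc_5_2 lc_a_rc_21_0 lc_a_rc_3_2 lc_a_rc_2_2 lc_a_rc_22_0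 lc_a_rc_5_0 lc_a_rc_4_2 lc_a_rc_1_2 lc_a_rc_5_2 lc_a_rc_3_0 lc_a_rc_3_2 lc_a_rc_4_2 lc_a_rc_2_2 lc_a_rc_4_2 lc_a_Cert_tree lc_a_rc_3_2 lc_a_rc_5_2 lc_a_rc_4_2 lc_a_rc_21_0 lc_a_rc_3_2 lc_a_rc_4_2 lc_a_rc_21_0 lc_a_rc_22_0 lc_a_rc_5_2 lc_a_rc_4_2 lc_a_rc_1_4 lc_a_rc_5_2 lc_a_rc_3_2 lc_a_rc_3_2 lc_a_rc_21_0 lc_a_rc_2_2) (@D3.rec (fun _ => (Cert rels S Gen.a)) lc_a_rc_5_2 lc_a_rc_2_0 lc_a_rc_3_2 lc_a_rc_2_0 lc_a_rc_3_2 lc_a_rc_5_0 lc_a_rc_0_1 lc_a_rc_21_0 lc_a_rc_2_2 lc_a_rc_5_2 lc_a_rc_3_0 lc_a_rc_21_0 lc_a_rc_2_2 lc_a_rc_4_2 lc_a_rc_1_2 lc_a_rc_3_2 lc_a_rc_21_0 lc_a_rc_21_0 lc_a_rc_3_2 lc_a_rc_4_2 lc_a_rc_21_0 lc_a_rc_5_0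 lc_a_rc_3_2 lc_a_rc_4_2 lc_a_rc_0_1 lc_a_rc_22_0 lc_a_rc_2_2 lc_a_rc_4_2 lc_a_rc_1_4 lc_a_rc_2_2 lc_a_rc_4_2 lc_a_rc_4_2 lc_a_rc_21_0 lc_a_Cert_tree lc_a_rc_3_2 lc_a_rc_5_2 lc_a_rc_4_2 lc_a_rc_2_2 lc_a_rc_3_2 lc_a_rc_3_2 lc_a_rc_4_2 lc_a_rc_3_2 lc_a_rc_3_0 lc_a_rc_2_2 lc_a_rc_4_2 lc_a_rc_3_2 lc_a_rc_3_2 lc_a_rc_2_2 lc_a_rc_21_0 lc_a_rc_2_2 lc_a_rc_3_2 lc_a_rc_2_2 lc_a_rc_4_2 lc_a_Cert_tree lc_a_rc_4_2 lc_a_rc_5_0 lc_a_rc_4_2 lc_a_rc_5_2 lc_a_rc_22_0 lc_a_rc_3_2 lc_a_rc_4_2 lc_a_rc_0_1) (@D3.rec (fun _ => (Cert rels S Gen.a)) lc_a_rc_21_0 lc_a_rc_2_2 lc_a_rc_4_2 lc_a_rc_0_1 lc_a_rc_21_0 lc_a_rc_5_2 lc_a_Cert_tree lc_a_rc_2_2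 lc_a_rc_3_0 lc_a_rc_5_2 lc_a_rc_0_1 lc_a_rc_2_2 lc_a_rc_4_2 lc_a_Cert_tree lc_a_rc_4_2 lc_a_rc_5_0 lc_a_rc_4_2 lc_a_rc_4_0 lc_a_rc_0_1 lc_a_rc_2_2 lc_a_rc_4_2 lc_a_Cert_tree lc_a_rc_4_2 lc_a_rc_4_2 lc_a_rc_5_0 lc_a_rc_5_2 lc_a_Cert_tree lc_a_rc_4_2 lc_a_Cert_tree lc_a_rc_2_2 lc_a_rc_2_2 lc_a_rc_2_2 lc_a_rc_0_1 lc_a_rc_4_2 lc_a_rc_5_2 lc_a_rc_5_0 lc_a_rc_3_2 lc_a_rc_3_2 lc_a_rc_4_2 lc_a_rc_3_2 lc_a_rc_21_0 lc_a_rc_2_2 lc_a_rc_4_2 lc_a_rc_21_0 lc_a_rc_1_4 lc_a_rc_5_2 lc_a_Cert_tree lc_a_rc_4_2 lc_a_rc_4_0 lc_a_rc_4_2 lc_a_rc_1_2 lc_a_rc_1_2 lc_a_rc_4_0 lc_a_Cert_tree lc_a_rc_21_0 lc_a_rc_0_1 lc_a_rc_2_2 lc_a_rc_0_1 lc_a_rc_4_2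 lc_a_rc_3_2 lc_a_rc_21_0 lc_a_rc_2_2) (@D3.rec (fun _ => (Cert rels S Gen.a)) lc_a_rc_3_2 lc_a_rc_2_2 lc_a_rc_3_2 lc_a_rc_1_2 lc_a_rc_2_2 lc_a_rc_0_1 lc_a_rc_5_2 lc_a_rc_3_2 lc_a_rc_4_2 lc_a_rc_3_2 lc_a_rc_5_0 lc_a_rc_2_2 lc_a_rc_4_2 lc_a_rc_1_4 lc_a_rc_1_2 lc_a_rc_5_0 lc_a_rc_5_2 lc_a_rc_21_0 lc_a_rc_2_2 lc_a_rc_5_0 lc_a_rc_4_2 lc_a_rc_5_2 lc_a_rc_5_0 lc_a_rc_4_2 lc_a_rc_0_1 lc_a_Cert_tree lc_a_rc_21_0 lc_a_rc_21_0 lc_a_rc_22_0 lc_a_rc_3_2 lc_a_rc_3_2 lc_a_rc_4_2 lc_a_rc_4_2 lc_a_rc_2_2 lc_a_Cert_tree lc_a_rc_3_2 lc_a_rc_5_2 lc_a_rc_1_2 lc_a_rc_21_0 lc_a_rc_21_0 lc_a_rc_4_2 lc_a_rc_2_2 lc_a_rc_5_2 lc_a_rc_2_2 lc_a_rc_21_0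 lc_a_rc_5_0 lc_a_rc_2_2 lc_a_rc_2_2 lc_a_Cert_tree lc_a_rc_22_0 lc_a_rc_5_2 lc_a_rc_4_2 lc_a_rc_3_0 lc_a_rc_3_2 lc_a_rc_2_2 lc_a_rc_3_2 lc_a_rc_21_0 lc_a_rc_1_2 lc_a_rc_4_2 lc_a_rc_3_0 lc_a_rc_2_2 lc_a_rc_5_2) (@D3.rec (fun _ => (Cert rels S Gen.a)) lc_a_rc_3_2 lc_a_rc_5_2 lc_a_rc_3_2 lc_a_rc_3_2 lc_a_rc_4_2 lc_a_rc_3_2 lc_a_rc_22_0 lc_a_rc_4_2 lc_a_rc_2_2 lc_a_rc_3_2 lc_a_rc_3_2 lc_a_rc_2_2 lc_a_rc_5_0 lc_a_rc_2_2 lc_a_rc_5_2 lc_a_rc_3_0 lc_a_rc_2_2 lc_a_rc_3_2 lc_a_rc_4_2 lc_a_rc_2_2 lc_a_rc_3_2 lc_a_rc_4_2 lc_a_rc_2_2 lc_a_rc_4_2 lc_a_rc_2_2 lc_a_rc_4_2 lc_a_rc_21_0 lc_a_rc_3_2 lc_a_rc_4_2 lc_a_rc_2_2 lc_a_rc_3_2 lc_a_Cert_tree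 lc_a_rc_3_2 lc_a_rc_22_0 lc_a_rc_4_2 lc_a_rc_3_2 lc_a_rc_3_2 lc_a_rc_21_0 lc_a_rc_3_2 lc_a_rc_2_2 lc_a_rc_2_2 lc_a_rc_2_2 lc_a_Cert_tree lc_a_rc_2_2 lc_a_rc_21_0 lc_a_rc_5_0 lc_a_rc_1_2 lc_a_rc_4_2 lc_a_rc_2_2 lc_a_rc_4_2 lc_a_Cert_tree lc_a_rc_21_0 lc_a_Cert_tree lc_a_rc_3_2 lc_a_rc_22_0 lc_a_rc_3_2 lc_a_rc_4_2 lc_a_rc_21_0 lc_a_rc_4_0 lc_a_rc_5_0 lc_a_rc_4_2 lc_a_rc_5_0) (@D3.rec (fun _ => (Cert rels S Gen.a)) lc_a_rc_4_0 lc_a_rc_3_2 lc_a_rc_2_2 lc_a_rc_4_0 lc_a_rc_5_0 lc_a_rc_4_2 lc_a_Cert_tree lc_a_rc_0_1 lc_a_rc_0_1 lc_a_rc_3_2 lc_a_rc_21_0 lc_a_rc_3_2 lc_a_rc_3_2 lc_a_rc_22_0 lc_a_rc_4_2 lc_a_rc_22_0 lc_a_rc_2_2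 lc_a_Cert_tree lc_a_rc_22_0 lc_a_rc_4_2 lc_a_rc_2_0 lc_a_rc_3_2 lc_a_rc_3_2 lc_a_rc_3_2 lc_a_rc_0_1 lc_a_rc_3_2 lc_a_rc_1_4 lc_a_rc_4_2 lc_a_rc_0_1 lc_a_rc_21_0 lc_a_rc_3_2 lc_a_rc_2_2 lc_a_rc_5_0 lc_a_rc_4_2 lc_a_rc_21_0 lc_a_rc_3_2 lc_a_rc_0_1 lc_a_rc_3_2 lc_a_rc_4_2 lc_a_rc_4_2 lc_a_rc_22_0 lc_a_rc_3_2 lc_a_rc_5_2 lc_a_rc_5_0 lc_a_rc_2_0 lc_a_rc_2_2 lc_a_rc_0_1 lc_a_rc_3_2 lc_a_rc_3_2 lc_a_rc_21_0 lc_a_rc_0_1 lc_a_rc_0_1 lc_a_rc_3_2 lc_a_rc_4_2 lc_a_rc_4_2 lc_a_rc_21_0 lc_a_rc_2_2 lc_a_rc_3_2 lc_a_rc_4_2 lc_a_rc_5_0 lc_a_rc_2_2 lc_a_rc_3_2) (@D3.rec (fun _ => (Cert rels S Gen.a)) lc_a_rc_22_0 lc_a_rc_5_2 lc_a_rc_21_0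 lc_a_rc_3_2 lc_a_rc_0_1 lc_a_rc_3_2 lc_a_rc_4_2 lc_a_rc_2_2 lc_a_rc_3_2 lc_a_rc_5_2 lc_a_rc_0_1 lc_a_rc_0_1 lc_a_rc_1_2 lc_a_rc_1_4 lc_a_rc_3_2 lc_a_rc_4_2 lc_a_rc_5_2 lc_a_rc_2_0 lc_a_rc_2_2 lc_a_rc_3_2 lc_a_rc_4_2 lc_a_rc_3_2 lc_a_rc_3_2 lc_a_rc_3_2 lc_a_rc_2_2 lc_a_rc_4_2 lc_a_rc_3_0 lc_a_rc_4_2 lc_a_Cert_tree lc_a_rc_4_2 lc_a_Cert_tree lc_a_rc_4_2 lc_a_rc_4_2 lc_a_rc_21_0 lc_a_rc_5_2 lc_a_rc_4_2 lc_a_rc_2_2 lc_a_rc_2_2 lc_a_rc_4_2 lc_a_rc_5_0 lc_a_rc_5_0 lc_a_rc_2_2 lc_a_rc_4_2 lc_a_rc_4_2 lc_a_rc_4_2 lc_a_rc_3_2 lc_a_rc_22_0 lc_a_rc_22_0 lc_a_rc_3_2 lc_a_rc_5_0 lc_a_rc_3_2 lc_a_rc_2_2 lc_a_rc_22_0 lc_a_rc_3_2 lc_a_rc_4_2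 lc_a_rc_3_0 lc_a_rc_22_0 lc_a_rc_0_1 lc_a_rc_0_1 lc_a_rc_3_2 lc_a_rc_3_2 lc_a_rc_2_2) (@D3.rec (fun _ => (Cert rels S Gen.a)) lc_a_rc_5_2 lc_a_rc_22_0 lc_a_rc_5_2 lc_a_rc_3_0 lc_a_rc_21_0 lc_a_rc_2_2 lc_a_rc_4_2 lc_a_rc_21_0 lc_a_rc_21_0 lc_a_rc_4_0 lc_a_rc_2_2 lc_a_rc_3_2 lc_a_rc_21_0 lc_a_rc_5_2 lc_a_rc_2_2 lc_a_rc_4_2 lc_a_rc_21_0 lc_a_rc_4_2 lc_a_rc_2_2 lc_a_rc_3_2 lc_a_Cert_tree lc_a_rc_3_2 lc_a_rc_5_2 lc_a_rc_4_2 lc_a_rc_3_2 lc_a_rc_3_0 lc_a_rc_2_2 lc_a_rc_3_2 lc_a_rc_4_0 lc_a_rc_2_0 lc_a_rc_5_2 lc_a_rc_21_0 lc_a_rc_4_2 lc_a_Cert_tree lc_a_rc_21_0 lc_a_rc_21_0 lc_a_rc_21_0 lc_a_rc_5_2 lc_a_rc_5_0 lc_a_rc_3_2 lc_a_rc_3_2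 lc_a_rc_2_2 lc_a_rc_4_2 lc_a_Cert_tree lc_a_rc_3_2 lc_a_rc_4_2 lc_a_rc_3_2 lc_a_rc_5_2 lc_a_rc_2_2 lc_a_rc_4_2 lc_a_Cert_tree lc_a_rc_5_0 lc_a_rc_4_2 lc_a_rc_3_2 lc_a_rc_21_0 lc_a_rc_4_2 lc_a_rc_5_2 lc_a_rc_0_1 lc_a_rc_2_2 lc_a_rc_4_2 lc_a_Cert_tree lc_a_rc_2_2) (@D3.rec (fun _ => (Cert rels S Gen.a)) lc_a_rc_4_2 lc_a_rc_21_0 lc_a_rc_1_4 lc_a_rc_4_2 lc_a_Cert_tree lc_a_rc_21_0 lc_a_rc_4_2 lc_a_Cert_tree lc_a_rc_3_2 lc_a_rc_4_2 lc_a_Cert_tree lc_a_rc_0_1 lc_a_rc_0_1 lc_a_rc_3_2 lc_a_rc_21_0 lc_a_rc_3_2 lc_a_rc_3_2 lc_a_rc_4_2 lc_a_rc_4_2 lc_a_rc_5_0 lc_a_rc_3_2 lc_a_Cert_tree lc_a_rc_4_2 lc_a_Cert_tree lc_a_rc_2_2 lc_a_rc_3_2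 lc_a_rc_1_4 lc_a_rc_5_2 lc_a_Cert_tree lc_a_rc_4_0 lc_a_Cert_tree lc_a_rc_22_0 lc_a_rc_4_2 lc_a_rc_2_2 lc_a_rc_3_2 lc_a_rc_4_2 lc_a_rc_21_0 lc_a_rc_3_2 lc_a_rc_3_2 lc_a_rc_21_0 lc_a_rc_2_2 lc_a_rc_3_2 lc_a_rc_2_2 lc_a_rc_2_2 lc_a_Cert_tree lc_a_rc_2_2 lc_a_rc_3_0 lc_a_rc_3_2 lc_a_rc_5_2 lc_a_rc_0_1 lc_a_rc_4_0 lc_a_rc_0_1 lc_a_rc_3_2 lc_a_rc_4_2 lc_a_rc_2_0 lc_a_rc_2_0 lc_a_rc_21_0 lc_a_rc_4_2 lc_a_rc_2_2 lc_a_rc_21_0 lc_a_rc_21_0 lc_a_rc_0_1) (@D3.rec (fun _ => (Cert rels S Gen.a)) lc_a_rc_0_1 lc_a_rc_3_2 lc_a_rc_4_2 lc_a_rc_4_2 lc_a_rc_3_2 lc_a_rc_2_2 lc_a_rc_21_0 lc_a_rc_21_0 lc_a_rc_1_2 lc_a_rc_0_1 lc_a_rc_3_2 lc_a_rc_5_0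 lc_a_rc_3_2 lc_a_rc_3_2 lc_a_rc_2_0 lc_a_rc_21_0 lc_a_rc_0_1 lc_a_rc_0_1 lc_a_rc_2_2 lc_a_rc_3_2 lc_a_rc_4_2 lc_a_rc_4_2 lc_a_rc_3_2 lc_a_rc_4_0 lc_a_rc_0_1 lc_a_rc_2_2 lc_a_rc_5_2 lc_a_rc_5_2 lc_a_rc_21_0 lc_a_rc_2_2 lc_a_rc_3_2 lc_a_rc_4_2 lc_a_rc_3_2 lc_a_rc_3_2 lc_a_rc_3_2 lc_a_rc_2_2 lc_a_rc_4_2 lc_a_rc_3_0 lc_a_rc_5_2 lc_a_Cert_tree lc_a_rc_4_2 lc_a_Cert_tree lc_a_rc_3_2 lc_a_Cert_tree lc_a_rc_4_2 lc_a_rc_0_1 lc_a_rc_21_0 lc_a_rc_5_2 lc_a_rc_4_2 lc_a_rc_5_2 lc_a_rc_4_2 lc_a_rc_3_2 lc_a_rc_21_0 lc_a_rc_3_2 lc_a_rc_2_2 lc_a_rc_4_2 lc_a_rc_3_2 lc_a_rc_3_2 lc_a_rc_5_2 lc_a_rc_0_1 lc_a_rc_3_2 lc_a_rc_2_2) (@D3.rec (fun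 _ => (Cert rels S Gen.a)) lc_a_rc_21_0 lc_a_rc_3_2 lc_a_rc_2_2 lc_a_Cert_tree lc_a_rc_21_0 lc_a_rc_4_2 lc_a_rc_21_0 lc_a_rc_3_2 lc_a_rc_0_1 lc_a_rc_4_2 lc_a_Cert_tree lc_a_rc_3_2 lc_a_rc_5_2 lc_a_rc_2_0 lc_a_rc_2_2 lc_a_rc_4_2 lc_a_rc_4_2 lc_a_rc_5_2 lc_a_rc_0_1 lc_a_rc_21_0 lc_a_rc_21_0 lc_a_rc_3_2 lc_a_rc_2_2 lc_a_rc_2_2 lc_a_rc_3_2 lc_a_rc_4_2 lc_a_rc_5_2 lc_a_rc_3_2 lc_a_rc_21_0 lc_a_rc_4_2 lc_a_rc_3_2 lc_a_rc_4_2 lc_a_rc_2_2 lc_a_rc_4_2 lc_a_rc_4_0 lc_a_rc_3_2 lc_a_rc_1_4 lc_a_rc_3_2 lc_a_rc_4_2 lc_a_Cert_tree lc_a_rc_3_2 lc_a_rc_2_2 lc_a_rc_21_0 lc_a_rc_3_2 lc_a_rc_3_2 lc_a_rc_4_0 lc_a_rc_21_0 lc_a_rc_5_2 lc_a_rc_3_2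 lc_a_rc_3_2 lc_a_rc_2_2 lc_a_rc_3_2 lc_a_rc_2_2 lc_a_rc_3_2 lc_a_rc_4_2 lc_a_rc_2_2 lc_a_rc_4_2 lc_a_rc_21_0 lc_a_rc_0_1 lc_a_rc_3_2 lc_a_rc_5_2 lc_a_rc_0_1) (@D3.rec (fun _ => (Cert rels S Gen.a)) lc_a_rc_4_2 lc_a_rc_4_2 lc_a_rc_21_0 lc_a_rc_3_0 lc_a_rc_22_0 lc_a_rc_21_0 lc_a_rc_21_0 lc_a_rc_1_2 lc_a_rc_2_2 lc_a_rc_3_2 lc_a_rc_4_2 lc_a_rc_2_2 lc_a_rc_3_2 lc_a_rc_4_2 lc_a_rc_21_0 lc_a_rc_3_2 lc_a_rc_3_2 lc_a_rc_4_2 lc_a_rc_2_2 lc_a_rc_4_2 lc_a_rc_4_0 lc_a_rc_5_0 lc_a_rc_3_2 lc_a_rc_5_2 lc_a_rc_2_2 lc_a_rc_21_0 lc_a_rc_3_2 lc_a_rc_5_2 lc_a_rc_3_2 lc_a_rc_21_0 lc_a_rc_4_2 lc_a_rc_2_2 lc_a_rc_3_2 lc_a_rc_1_4 lc_a_rc_0_1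 lc_a_rc_3_2 lc_a_rc_3_2 lc_a_rc_4_2 lc_a_rc_21_0 lc_a_rc_2_2 lc_a_rc_2_2 lc_a_Cert_tree lc_a_rc_3_2 lc_a_rc_4_2 lc_a_rc_2_2 lc_a_rc_1_0 lc_a_rc_2_2 lc_a_rc_4_2 lc_a_rc_3_2 lc_a_rc_0_1 lc_a_rc_3_2 lc_a_rc_5_2 lc_a_rc_4_2 lc_a_rc_0_1 lc_a_rc_0_1 lc_a_rc_21_0 lc_a_rc_3_2 lc_a_rc_4_2 lc_a_rc_2_2 lc_a_rc_4_2 lc_a_rc_0_1 lc_a_rc_3_2) (@D3.rec (fun _ => (Cert rels S Gen.a)) lc_a_rc_21_0 lc_a_rc_2_2 lc_a_rc_4_2 lc_a_Cert_tree lc_a_rc_3_2 lc_a_rc_4_2 lc_a_rc_3_2 lc_a_rc_4_2 lc_a_rc_0_1 lc_a_rc_21_0 lc_a_rc_3_2 lc_a_rc_4_2 lc_a_rc_21_0 lc_a_rc_1_2 lc_a_rc_5_2 lc_a_rc_0_1 lc_a_rc_3_2 lc_a_rc_0_1 lc_a_rc_2_2 lc_a_rc_4_2 lc_a_rc_5_0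 lc_a_rc_4_2 lc_a_rc_3_2 lc_a_rc_5_2 lc_a_rc_0_1 lc_a_rc_2_2 lc_a_rc_4_2 lc_a_rc_5_0 lc_a_rc_2_2 lc_a_rc_3_2 lc_a_rc_5_2 lc_a_Cert_tree lc_a_rc_5_0 lc_a_rc_4_2 lc_a_Cert_tree lc_a_rc_3_2 lc_a_rc_21_0 lc_a_rc_0_1 lc_a_rc_3_2 lc_a_rc_21_0 lc_a_rc_3_2 lc_a_rc_2_2 lc_a_rc_4_2 lc_a_rc_3_2 lc_a_rc_2_2 lc_a_rc_3_2 lc_a_rc_5_0 lc_a_rc_1_4 lc_a_rc_21_0 lc_a_rc_0_1 lc_a_rc_3_2 lc_a_rc_4_2 lc_a_rc_1_4 lc_a_rc_5_2 lc_a_rc_0_1 lc_a_rc_0_1 lc_a_rc_21_0 lc_a_rc_21_0 lc_a_rc_22_0 lc_a_rc_4_2 lc_a_rc_5_2 lc_a_rc_2_2) (@D3.rec (fun _ => (Cert rels S Gen.a)) lc_a_rc_3_2 lc_a_rc_4_2 lc_a_rc_2_2 lc_a_rc_4_2 lc_a_rc_4_2 lc_a_rc_5_0 lc_a_rc_5_2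 lc_a_rc_1_0 lc_a_rc_0_1 lc_a_rc_4_2 lc_a_rc_3_2 lc_a_rc_4_2 lc_a_rc_21_0 lc_a_rc_4_2 lc_a_rc_3_2 lc_a_rc_2_2 lc_a_rc_4_2 lc_a_rc_2_2 lc_a_rc_2_2 lc_a_rc_4_2 lc_a_rc_2_0 lc_a_rc_2_0 lc_a_Cert_tree lc_a_rc_3_2 lc_a_rc_4_2 lc_a_rc_5_0 lc_a_Cert_tree lc_a_rc_5_2 lc_a_rc_0_1 lc_a_rc_4_2 lc_a_rc_5_0 lc_a_rc_4_2 lc_a_rc_22_0 lc_a_rc_5_2 lc_a_rc_0_1 lc_a_rc_2_2 lc_a_rc_4_2 lc_a_rc_3_2 lc_a_rc_21_0 lc_a_rc_21_0 lc_a_rc_21_0 lc_a_rc_3_2 lc_a_rc_1_4 lc_a_rc_0_1 lc_a_rc_1_4 lc_a_rc_21_0 lc_a_rc_4_2 lc_a_rc_4_2 lc_a_rc_0_1 lc_a_rc_3_2 lc_a_rc_4_0 lc_a_rc_3_2 lc_a_rc_3_2 lc_a_rc_2_2 lc_a_rc_5_2 lc_a_rc_5_0 lc_a_rc_5_0 lc_a_rc_4_2 lc_a_rc_3_2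 lc_a_rc_4_2 lc_a_rc_2_2 lc_a_rc_4_2) (@D3.rec (fun _ => (Cert rels S Gen.a)) lc_a_rc_5_0 lc_a_rc_3_2 lc_a_rc_5_2 lc_a_rc_2_2 lc_a_rc_2_2 lc_a_rc_4_2 lc_a_rc_2_2 lc_a_rc_21_0 lc_a_rc_3_2 lc_a_rc_3_0 lc_a_rc_0_1 lc_a_rc_4_0 lc_a_rc_0_1 lc_a_rc_21_0 lc_a_rc_4_2 lc_a_rc_4_0 lc_a_rc_21_0 lc_a_rc_0_1 lc_a_rc_2_2 lc_a_rc_21_0 lc_a_rc_0_1 lc_a_rc_3_2 lc_a_Cert_tree lc_a_rc_5_0 lc_a_rc_4_2 lc_a_rc_5_0 lc_a_rc_2_2 lc_a_rc_5_2 lc_a_rc_2_2 lc_a_rc_21_0 lc_a_rc_0_1 lc_a_rc_3_2 lc_a_rc_2_2 lc_a_rc_4_2 lc_a_Cert_tree lc_a_rc_2_2 lc_a_rc_4_2 lc_a_rc_3_0 lc_a_rc_0_1 lc_a_rc_3_2 lc_a_rc_2_2 lc_a_rc_4_2 lc_a_rc_1_2 lc_a_rc_2_0 lc_a_rc_0_1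 lc_a_rc_0_1 lc_a_rc_3_2 lc_a_rc_5_0 lc_a_rc_4_2 lc_a_rc_3_2 lc_a_rc_5_2 lc_a_rc_3_2 lc_a_rc_4_2 lc_a_rc_0_1 lc_a_rc_4_2 lc_a_rc_1_4 lc_a_rc_21_0 lc_a_rc_4_2 lc_a_rc_4_2 lc_a_rc_1_0 lc_a_rc_2_0 lc_a_rc_22_0) (@D3.rec (fun _ => (Cert rels S Gen.a)) lc_a_rc_21_0 lc_a_rc_3_2 lc_a_rc_2_2 lc_a_rc_5_2 lc_a_rc_4_2 lc_a_rc_4_2 lc_a_rc_3_2 lc_a_rc_2_2 lc_a_rc_4_2 lc_a_rc_3_2 lc_a_rc_2_2 lc_a_rc_21_0 lc_a_rc_4_2 lc_a_rc_1_4 lc_a_rc_0_1 lc_a_rc_4_2 lc_a_rc_2_2 lc_a_rc_2_2 lc_a_rc_2_0 lc_a_rc_4_2 lc_a_Cert_tree lc_a_rc_3_2 lc_a_rc_1_4 lc_a_rc_21_0 lc_a_rc_21_0 lc_a_rc_1_4 lc_a_rc_3_2 lc_a_rc_1_2 lc_a_rc_3_2 lc_a_rc_21_0 lc_a_rc_5_0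 lc_a_rc_4_2 lc_a_rc_0_1 lc_a_rc_3_2 lc_a_rc_2_2 lc_a_rc_5_2 lc_a_Cert_tree lc_a_rc_3_2 lc_a_rc_1_4 lc_a_rc_1_4 lc_a_rc_0_1 lc_a_rc_21_0 lc_a_rc_0_1 lc_a_rc_4_2 lc_a_rc_21_0 lc_a_rc_4_2 lc_a_rc_2_2 lc_a_rc_21_0 lc_a_rc_2_2 lc_a_rc_2_2 lc_a_rc_2_2 lc_a_rc_3_2 lc_a_rc_21_0 lc_a_rc_2_2 lc_a_rc_4_2 lc_a_rc_21_0 lc_a_rc_4_2 lc_a_rc_3_2 lc_a_rc_21_0 lc_a_rc_3_0 lc_a_rc_4_2 lc_a_rc_2_2) (@D3.rec (fun _ => (Cert rels S Gen.a)) lc_a_rc_4_2 lc_a_rc_3_2 lc_a_rc_4_2 lc_a_rc_3_2 lc_a_rc_3_0 lc_a_rc_4_2 lc_a_rc_3_2 lc_a_rc_0_1 lc_a_rc_4_2 lc_a_rc_1_0 lc_a_rc_1_0 lc_a_rc_22_0 lc_a_rc_4_2 lc_a_rc_3_2 lc_a_rc_5_0 lc_a_rc_22_0 lc_a_rc_3_2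 lc_a_rc_2_2 lc_a_rc_4_2 lc_a_rc_3_2 lc_a_rc_3_2 lc_a_rc_2_2 lc_a_rc_5_0 lc_a_rc_1_2 lc_a_rc_4_2 lc_a_rc_1_2 lc_a_rc_2_2 lc_a_rc_1_2 lc_a_rc_3_2 lc_a_rc_4_2 lc_a_rc_2_2 lc_a_rc_2_0 lc_a_Cert_tree lc_a_rc_3_2 lc_a_rc_4_2 lc_a_rc_21_0 lc_a_rc_21_0 lc_a_Cert_tree lc_a_rc_3_2 lc_a_rc_21_0 lc_a_rc_21_0 lc_a_rc_4_2 lc_a_rc_2_2 lc_a_rc_4_2 lc_a_rc_21_0 lc_a_rc_0_1 lc_a_Cert_tree lc_a_rc_3_2 lc_a_rc_4_2 lc_a_Cert_tree lc_a_rc_5_2 lc_a_rc_2_2 lc_a_rc_4_2 lc_a_rc_2_2 lc_a_rc_2_0 lc_a_Cert_tree lc_a_rc_3_2 lc_a_rc_4_2 lc_a_rc_5_2 lc_a_Cert_tree lc_a_rc_3_2 lc_a_rc_5_2) (@D3.rec (fun _ => (Cert rels S Gen.a)) lc_a_rc_0_1 lc_a_rc_0_1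 lc_a_Cert_tree lc_a_rc_21_0 lc_a_rc_4_2 lc_a_Cert_tree lc_a_rc_3_2 lc_a_rc_21_0 lc_a_Cert_tree lc_a_rc_0_1 lc_a_rc_4_2 lc_a_Cert_tree lc_a_rc_21_0 lc_a_rc_4_2 lc_a_rc_0_1 lc_a_rc_21_0 lc_a_rc_0_1 lc_a_rc_3_2 lc_a_rc_4_2 lc_a_rc_3_0 lc_a_rc_21_0 lc_a_rc_0_1 lc_a_rc_4_2 lc_a_rc_22_0 lc_a_rc_2_2 lc_a_rc_5_0 lc_a_rc_3_2 lc_a_rc_5_2 lc_a_rc_4_2 lc_a_rc_2_2 lc_a_rc_21_0 lc_a_rc_3_2 lc_a_rc_2_2 lc_a_rc_4_2 lc_a_rc_5_2 lc_a_rc_0_1 lc_a_rc_4_2 lc_a_rc_4_2 lc_a_rc_3_2 lc_a_rc_0_1 lc_a_rc_5_0 lc_a_rc_5_2 lc_a_rc_5_0 lc_a_rc_2_2 lc_a_rc_2_2 lc_a_rc_4_2 lc_a_rc_0_1 lc_a_rc_3_2 lc_a_rc_3_2 lc_a_rc_4_2 lc_a_rc_0_1 lc_a_rc_1_4 lc_a_rc_3_2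 lc_a_rc_4_2 lc_a_rc_2_2 lc_a_rc_5_0 lc_a_rc_3_2 lc_a_rc_4_2 lc_a_rc_3_2 lc_a_rc_5_0 lc_a_rc_2_2 lc_a_rc_5_2) (@D3.rec (fun _ => (Cert rels S Gen.a)) lc_a_rc_2_2 lc_a_rc_4_2 lc_a_rc_2_0 lc_a_rc_4_2 lc_a_rc_21_0 lc_a_rc_3_2 lc_a_rc_3_2 lc_a_rc_1_2 lc_a_rc_5_0 lc_a_rc_3_2 lc_a_rc_3_2 lc_a_rc_4_2 lc_a_rc_4_2 lc_a_rc_2_2 lc_a_rc_5_2 lc_a_rc_3_2 lc_a_rc_2_2 lc_a_rc_4_2 lc_a_Cert_tree lc_a_rc_2_2 lc_a_rc_4_2 lc_a_rc_4_2 lc_a_rc_4_2 lc_a_rc_5_0 lc_a_rc_3_2 lc_a_rc_5_2 lc_a_Cert_tree lc_a_rc_5_0 lc_a_rc_2_2 lc_a_Cert_tree lc_a_rc_3_2 lc_a_rc_21_0 lc_a_rc_2_2 lc_a_rc_3_2 lc_a_rc_2_2 lc_a_rc_5_2 lc_a_rc_0_1 lc_a_rc_2_2 lc_a_rc_4_2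 lc_a_Cert_tree lc_a_rc_3_2 lc_a_rc_2_2 lc_a_rc_3_0 lc_a_rc_0_1 lc_a_rc_2_2 lc_a_rc_4_2 lc_a_Cert_tree lc_a_rc_3_2 lc_a_rc_2_2 lc_a_rc_5_2 lc_a_rc_5_0 lc_a_rc_4_2 lc_a_rc_4_0 lc_a_rc_3_2 lc_a_rc_5_0 lc_a_rc_4_2 lc_a_rc_2_2 lc_a_rc_3_2 lc_a_rc_4_2 lc_a_rc_5_0 lc_a_rc_3_2 lc_a_rc_4_2) (@D3.rec (fun _ => (Cert rels S Gen.a)) lc_a_Cert_tree lc_a_rc_2_2 lc_a_rc_4_2 lc_a_rc_2_2 lc_a_rc_4_0 lc_a_rc_1_2 lc_a_rc_21_0 lc_a_rc_4_2 lc_a_rc_3_0 lc_a_rc_22_0 lc_a_rc_0_1 lc_a_rc_4_2 lc_a_rc_3_2 lc_a_rc_5_0 lc_a_rc_3_2 lc_a_rc_1_4 lc_a_rc_3_2 lc_a_rc_21_0 lc_a_rc_2_2 lc_a_rc_5_2 lc_a_rc_3_2 lc_a_rc_0_1 lc_a_rc_3_2 lc_a_rc_2_2 lc_a_rc_3_2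 lc_a_rc_2_2 lc_a_rc_3_2 lc_a_rc_3_2 lc_a_rc_2_2 lc_a_rc_0_1 lc_a_rc_3_2 lc_a_rc_5_0 lc_a_rc_3_2 lc_a_rc_5_0 lc_a_rc_21_0 lc_a_rc_3_2 lc_a_rc_21_0 lc_a_rc_4_2 lc_a_rc_2_2 lc_a_rc_1_4 lc_a_Cert_tree lc_a_rc_3_2 lc_a_rc_4_2 lc_a_rc_4_2 lc_a_rc_5_0 lc_a_Cert_tree lc_a_rc_3_2 lc_a_rc_5_2 lc_a_rc_4_2 lc_a_rc_0_1 lc_a_rc_2_2 lc_a_rc_4_2 lc_a_rc_5_0 lc_a_rc_4_2 lc_a_rc_5_2 lc_a_rc_0_1 lc_a_rc_2_2 lc_a_rc_4_2 lc_a_rc_4_2 lc_a_rc_5_0 lc_a_rc_22_0 lc_a_Cert_tree) (@D3.rec (fun _ => (Cert rels S Gen.a)) lc_a_rc_0_1 lc_a_rc_0_1 lc_a_rc_3_2 lc_a_rc_21_0 lc_a_rc_4_2 lc_a_rc_22_0 lc_a_rc_3_2 lc_a_rc_5_0 lc_a_rc_4_2 lc_a_rc_4_2 lc_a_rc_4_2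 lc_a_rc_3_2 lc_a_rc_0_1 lc_a_rc_0_1 lc_a_rc_5_0 lc_a_Cert_tree lc_a_rc_0_1 lc_a_rc_21_0 lc_a_rc_4_2 lc_a_Cert_tree lc_a_rc_4_2 lc_a_rc_2_2 lc_a_rc_3_2 lc_a_Cert_tree lc_a_rc_3_2 lc_a_rc_5_2 lc_a_rc_5_2 lc_a_rc_0_1 lc_a_rc_5_0 lc_a_rc_4_2 lc_a_rc_5_0 lc_a_rc_4_2 lc_a_rc_5_2 lc_a_rc_0_1 lc_a_rc_2_2 lc_a_rc_4_2 lc_a_rc_4_2 lc_a_rc_5_0 lc_a_rc_2_2 lc_a_rc_5_0 lc_a_rc_0_1 lc_a_rc_3_2 lc_a_rc_0_1 lc_a_rc_0_1 lc_a_rc_4_2 lc_a_rc_2_2 lc_a_rc_4_2 lc_a_Cert_tree lc_a_Cert_tree lc_a_Cert_tree lc_a_Cert_tree lc_a_rc_4_2 lc_a_rc_1_4 lc_a_rc_3_2 lc_a_rc_5_2 lc_a_rc_1_4 lc_a_rc_3_2 lc_a_rc_5_2 lc_a_rc_3_2 lc_a_rc_3_2 lc_a_rc_2_2 lc_a_rc_5_2)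 (@D3.rec (fun _ => (Cert rels S Gen.a)) lc_a_rc_1_4 lc_a_rc_3_2 lc_a_rc_5_2 lc_a_rc_3_2 lc_a_rc_22_0 lc_a_rc_3_0 lc_a_rc_2_2 lc_a_rc_5_2 lc_a_rc_3_2 lc_a_rc_5_0 lc_a_rc_5_0 lc_a_rc_3_2 lc_a_rc_21_0 lc_a_rc_2_2 lc_a_rc_5_2 lc_a_rc_3_2 lc_a_rc_2_2 lc_a_rc_0_1 lc_a_rc_3_2 lc_a_rc_5_2 lc_a_rc_1_4 lc_a_rc_2_2 lc_a_rc_3_2 lc_a_rc_3_2 lc_a_rc_22_0 lc_a_rc_5_0 lc_a_rc_3_2 lc_a_rc_0_1 lc_a_rc_3_2 lc_a_rc_1_2 lc_a_rc_5_0 lc_a_rc_4_2 lc_a_rc_3_2 lc_a_rc_21_0 lc_a_rc_4_2 lc_a_rc_3_2 lc_a_rc_2_2 lc_a_rc_4_2 lc_a_rc_2_0 lc_a_rc_2_2 lc_a_Cert_tree lc_a_rc_3_2 lc_a_rc_5_2 lc_a_rc_4_2 lc_a_rc_4_2 lc_a_rc_5_0 lc_a_rc_4_2 lc_a_rc_3_2 lc_a_rc_5_2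 lc_a_rc_0_1 lc_a_rc_2_2 lc_a_rc_4_2 lc_a_rc_4_2 lc_a_rc_5_0 lc_a_rc_5_2 lc_a_Cert_tree lc_a_rc_0_1 lc_a_rc_0_1 lc_a_rc_3_2 lc_a_rc_21_0 lc_a_rc_4_2 lc_a_rc_4_2) (@D3.rec (fun _ => (Cert rels S Gen.a)) lc_a_rc_5_0 lc_a_rc_3_2 lc_a_rc_2_2 lc_a_rc_21_0 lc_a_Cert_tree lc_a_rc_4_2 lc_a_rc_0_1 lc_a_rc_21_0 lc_a_rc_4_2 lc_a_rc_4_0 lc_a_rc_0_1 lc_a_rc_4_2 lc_a_rc_3_2 lc_a_rc_3_2 lc_a_rc_21_0 lc_a_rc_4_2 lc_a_rc_2_2 lc_a_Cert_tree lc_a_rc_2_2 lc_a_rc_0_1 lc_a_rc_0_1 lc_a_rc_4_2 lc_a_rc_3_2 lc_a_rc_22_0 lc_a_rc_5_0 lc_a_rc_4_2 lc_a_rc_0_1 lc_a_rc_0_1 lc_a_rc_0_1 lc_a_rc_5_0 lc_a_rc_21_0 lc_a_rc_3_2 lc_a_rc_5_2 lc_a_Cert_tree lc_a_rc_2_2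 lc_a_rc_3_2 lc_a_rc_4_2 lc_a_rc_3_2 lc_a_rc_5_0 lc_a_rc_3_2 lc_a_rc_2_2 lc_a_rc_4_2 lc_a_rc_3_0 lc_a_rc_4_2 lc_a_Cert_tree lc_a_rc_4_2 lc_a_rc_5_0 lc_a_rc_3_2 lc_a_rc_5_2 lc_a_rc_4_2 lc_a_rc_5_2 lc_a_rc_2_2 lc_a_rc_2_2 lc_a_rc_21_0 lc_a_rc_3_2 lc_a_rc_4_2 lc_a_rc_5_0 lc_a_rc_5_0 lc_a_rc_3_2 lc_a_rc_4_2 lc_a_rc_5_2 lc_a_rc_3_2) (@D3.rec (fun _ => (Cert rels S Gen.a)) lc_a_rc_4_2 lc_a_rc_3_2 lc_a_rc_3_2 lc_a_rc_4_2 lc_a_rc_21_0 lc_a_rc_2_0 lc_a_rc_22_0 lc_a_rc_4_2 lc_a_rc_2_2 lc_a_rc_5_0 lc_a_rc_2_2 lc_a_rc_4_2 lc_a_rc_3_2 lc_a_rc_0_1 lc_a_rc_3_2 lc_a_rc_5_2 lc_a_rc_4_2 lc_a_rc_21_0 lc_a_rc_0_1 lc_a_rc_1_2 lc_a_rc_3_2 lc_a_rc_0_1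 lc_a_rc_3_2 lc_a_rc_0_1 lc_a_rc_2_2 lc_a_rc_4_2 lc_a_rc_4_2 lc_a_rc_3_2 lc_a_rc_21_0 lc_a_rc_21_0 lc_a_rc_3_2 lc_a_rc_2_2 lc_a_rc_4_2 lc_a_rc_21_0 lc_a_rc_21_0 lc_a_rc_4_2 lc_a_Cert_tree lc_a_rc_3_2 lc_a_rc_4_2 lc_a_rc_2_0 lc_a_rc_21_0 lc_a_rc_22_0 lc_a_rc_4_2 lc_a_rc_2_2 lc_a_rc_5_0 lc_a_rc_2_2 lc_a_rc_5_2 lc_a_rc_4_2 lc_a_rc_2_2 lc_a_rc_3_2 lc_a_Cert_tree lc_a_rc_5_0 lc_a_rc_4_2 lc_a_Cert_tree lc_a_rc_3_2 lc_a_rc_3_2 lc_a_rc_3_2 lc_a_rc_2_2 lc_a_rc_2_2 lc_a_rc_0_1 lc_a_rc_2_2 lc_a_rc_2_2) (@D3.rec (fun _ => (Cert rels S Gen.a)) lc_a_rc_4_2 lc_a_rc_4_2 lc_a_rc_4_2 lc_a_rc_4_2 lc_a_rc_4_2 lc_a_rc_1_2 lc_a_rc_4_2 lc_a_rc_3_2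 lc_a_rc_3_2 lc_a_rc_21_0 lc_a_rc_2_2 lc_a_rc_5_2 lc_a_rc_21_0 lc_a_rc_3_2 lc_a_rc_21_0 lc_a_rc_3_2 lc_a_rc_21_0 lc_a_rc_3_2 lc_a_rc_5_0 lc_a_rc_3_2 lc_a_rc_0_1 lc_a_rc_21_0 lc_a_rc_21_0 lc_a_rc_4_2 lc_a_rc_3_2 lc_a_rc_2_2 lc_a_rc_4_2 lc_a_rc_3_2 lc_a_rc_0_1 lc_a_rc_2_2 lc_a_rc_4_2 lc_a_rc_5_0 lc_a_rc_2_2 lc_a_rc_4_2 lc_a_rc_2_2 lc_a_rc_5_0 lc_a_Cert_tree lc_a_rc_3_2 lc_a_rc_5_2 lc_a_rc_4_2 lc_a_rc_4_2 lc_a_rc_3_2 lc_a_rc_21_0 lc_a_rc_4_2 lc_a_rc_3_2 lc_a_rc_2_2 lc_a_rc_3_2 lc_a_rc_2_2 lc_a_rc_3_2 lc_a_rc_3_2 lc_a_rc_2_2 lc_a_Cert_tree lc_a_rc_5_0 lc_a_rc_4_2 lc_a_rc_3_2 lc_a_rc_1_2 lc_a_rc_5_2 lc_a_rc_3_2 lc_a_rc_3_2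 lc_a_rc_4_2 lc_a_rc_3_2 lc_a_rc_21_0) (@D3.rec (fun _ => (Cert rels S Gen.a)) lc_a_rc_2_2 lc_a_rc_4_2 lc_a_rc_2_2 lc_a_rc_5_0 lc_a_rc_0_1 lc_a_Cert_tree lc_a_rc_2_2 lc_a_rc_4_2 lc_a_rc_3_2 lc_a_rc_3_2 lc_a_rc_4_2 lc_a_rc_21_0 lc_a_rc_2_2 lc_a_rc_3_2 lc_a_Cert_tree lc_a_rc_3_2 lc_a_rc_2_2 lc_a_rc_3_2 lc_a_rc_4_2 lc_a_rc_5_2 lc_a_rc_0_1 lc_a_rc_2_2 lc_a_rc_4_2 lc_a_Cert_tree lc_a_rc_3_2 lc_a_rc_4_2 lc_a_rc_3_2 lc_a_rc_21_0 lc_a_rc_5_2 lc_a_Cert_tree lc_a_rc_3_2 lc_a_rc_4_2 lc_a_Cert_tree lc_a_rc_3_2 lc_a_rc_4_2 lc_a_Cert_tree lc_a_rc_0_1 lc_a_rc_0_1 lc_a_rc_3_2 lc_a_rc_21_0 lc_a_rc_5_0 lc_a_rc_2_2 lc_a_rc_4_2 lc_a_rc_4_2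 lc_a_rc_3_2 lc_a_rc_21_0 lc_a_rc_21_0 lc_a_rc_3_2 lc_a_rc_2_2 lc_a_rc_4_2 lc_a_rc_21_0 lc_a_rc_3_0 lc_a_rc_4_0 lc_a_rc_4_2 lc_a_rc_2_2 lc_a_Cert_tree lc_a_rc_3_2 lc_a_rc_3_2 lc_a_rc_3_2 lc_a_rc_21_0 lc_a_rc_4_2 lc_a_rc_21_0) (@D3.rec (fun _ => (Cert rels S Gen.a)) lc_a_rc_3_2 lc_a_rc_4_2 lc_a_Cert_tree lc_a_rc_2_2 lc_a_Cert_tree lc_a_rc_4_2 lc_a_rc_3_2 lc_a_rc_5_0 lc_a_rc_5_2 lc_a_rc_3_2 lc_a_rc_1_4 lc_a_rc_2_2 lc_a_rc_5_0 lc_a_rc_5_0 lc_a_rc_5_2 lc_a_rc_3_2 lc_a_rc_0_1 lc_a_rc_0_1 lc_a_rc_21_0 lc_a_rc_3_2 lc_a_rc_4_2 lc_a_rc_21_0 lc_a_rc_21_0 lc_a_rc_4_2 lc_a_rc_0_1 lc_a_Cert_tree lc_a_rc_4_2 lc_a_rc_3_0 lc_a_rc_3_2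 lc_a_rc_4_2 lc_a_rc_21_0 lc_a_rc_0_1 lc_a_rc_2_2 lc_a_rc_0_1 lc_a_rc_3_2 lc_a_rc_4_2 lc_a_rc_21_0 lc_a_rc_3_2 lc_a_rc_21_0 lc_a_rc_3_2 lc_a_rc_2_2 lc_a_rc_3_2 lc_a_rc_5_2 lc_a_rc_3_2 lc_a_rc_5_0 lc_a_rc_4_2 lc_a_rc_3_2 lc_a_rc_0_1 lc_a_rc_3_2 lc_a_rc_21_0 lc_a_rc_4_2 lc_a_rc_3_2 lc_a_rc_3_2 lc_a_rc_5_2 lc_a_rc_2_2 lc_a_rc_3_2 lc_a_rc_4_2 lc_a_rc_0_1 lc_a_rc_0_1 lc_a_rc_2_2 lc_a_rc_3_2 lc_a_rc_4_2) (@D3.rec (fun _ => (Cert rels S Gen.a)) lc_a_rc_4_2 lc_a_rc_3_2 lc_a_rc_0_1 lc_a_Cert_tree lc_a_rc_1_4 lc_a_rc_3_2 lc_a_rc_3_2 lc_a_rc_5_2 lc_a_rc_21_0 lc_a_rc_2_2 lc_a_rc_3_2 lc_a_rc_3_2 lc_a_rc_5_0 lc_a_rc_3_0 lc_a_rc_2_2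 lc_a_rc_4_2 lc_a_rc_21_0 lc_a_rc_0_1 lc_a_rc_3_2 lc_a_Cert_tree lc_a_rc_4_2 lc_a_Cert_tree lc_a_rc_4_2 lc_a_rc_5_0 lc_a_Cert_tree lc_a_rc_5_2 lc_a_rc_4_2 lc_a_rc_3_2 lc_a_rc_3_2 lc_a_rc_3_2 lc_a_rc_3_2 lc_a_rc_2_2 lc_a_rc_3_2 lc_a_rc_3_2 lc_a_rc_4_2 lc_a_rc_2_2 lc_a_rc_4_2 lc_a_rc_3_2 lc_a_rc_0_1 lc_a_rc_2_2 lc_a_rc_4_2 lc_a_rc_0_1 lc_a_rc_2_2 lc_a_rc_4_2 lc_a_rc_2_2 lc_a_rc_2_2 lc_a_Cert_tree lc_a_rc_3_2 lc_a_rc_5_2 lc_a_rc_5_2 lc_a_rc_2_2 lc_a_rc_3_2 lc_a_rc_3_2 lc_a_rc_21_0 lc_a_rc_1_4 lc_a_rc_3_2 lc_a_rc_2_2 lc_a_rc_4_2 lc_a_rc_3_2 lc_a_rc_2_2 lc_a_rc_3_2 lc_a_rc_2_2) (@D3.rec (fun _ => (Cert rels S Gen.a)) lc_a_Cert_tree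 lc_a_rc_2_2 lc_a_rc_4_2 lc_a_rc_1_2 lc_a_rc_1_4 lc_a_rc_5_2 lc_a_rc_21_0 lc_a_rc_4_2 lc_a_rc_21_0 lc_a_rc_4_2 lc_a_rc_1_2 lc_a_Cert_tree lc_a_rc_2_2 lc_a_rc_4_2 lc_a_rc_3_0 lc_a_rc_4_2 lc_a_rc_4_2 lc_a_rc_2_2 lc_a_rc_0_1 lc_a_rc_2_2 lc_a_rc_4_2 lc_a_Cert_tree lc_a_rc_3_2 lc_a_rc_22_0 lc_a_rc_4_2 lc_a_rc_21_0 lc_a_rc_5_2 lc_a_rc_2_2 lc_a_rc_4_2 lc_a_Cert_tree lc_a_rc_2_2 lc_a_rc_4_2 lc_a_rc_3_2 lc_a_rc_5_0 lc_a_rc_3_2 lc_a_Cert_tree lc_a_rc_3_2 lc_a_rc_4_2 lc_a_Cert_tree lc_a_rc_3_2 lc_a_rc_4_2 lc_a_Cert_tree lc_a_rc_0_1 lc_a_rc_0_1 lc_a_rc_3_2 lc_a_rc_21_0 lc_a_rc_5_0 lc_a_rc_2_2 lc_a_rc_4_2 lc_a_rc_4_2 lc_a_rc_3_2 lc_a_rc_0_1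 lc_a_rc_4_2 lc_a_rc_21_0 lc_a_rc_4_2 lc_a_rc_5_0 lc_a_rc_4_2 lc_a_Cert_tree lc_a_Cert_tree lc_a_rc_4_2 lc_a_rc_3_2 lc_a_rc_5_0) (@D3.rec (fun _ => (Cert rels S Gen.a)) lc_a_rc_5_2 lc_a_rc_1_4 lc_a_Cert_tree lc_a_rc_5_0 lc_a_rc_0_1 lc_a_rc_2_0 lc_a_rc_0_1 lc_a_rc_21_0 lc_a_rc_3_2 lc_a_rc_21_0 lc_a_rc_21_0 lc_a_rc_3_2 lc_a_rc_3_2 lc_a_rc_3_2 lc_a_rc_4_2 lc_a_rc_3_2 lc_a_rc_2_2 lc_a_rc_4_2 lc_a_rc_5_0 lc_a_rc_2_0 lc_a_rc_4_2 lc_a_rc_1_4 lc_a_rc_5_0 lc_a_rc_4_2 lc_a_rc_3_2 lc_a_rc_21_0 lc_a_rc_21_0 lc_a_rc_4_2 lc_a_rc_21_0 lc_a_Cert_tree lc_a_rc_4_2 lc_a_rc_3_0 lc_a_rc_3_2 lc_a_rc_4_2 lc_a_rc_21_0 lc_a_rc_0_1 lc_a_rc_3_2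 lc_a_rc_4_2 lc_a_rc_21_0 lc_a_rc_3_2 lc_a_rc_5_2 lc_a_rc_4_2 lc_a_rc_2_0 lc_a_Cert_tree lc_a_rc_3_2 lc_a_rc_2_2 lc_a_rc_0_1 lc_a_rc_3_2 lc_a_rc_21_0 lc_a_rc_4_2 lc_a_rc_3_2 lc_a_rc_21_0 lc_a_rc_0_1 lc_a_rc_0_1 lc_a_rc_2_2 lc_a_rc_3_2 lc_a_rc_4_2 lc_a_rc_4_2 lc_a_rc_3_2 lc_a_rc_0_1 lc_a_rc_3_2 lc_a_rc_4_2) (@D3.rec (fun _ => (Cert rels S Gen.a)) lc_a_rc_4_2 lc_a_rc_3_2 lc_a_Cert_tree lc_a_rc_3_2 lc_a_rc_3_0 lc_a_rc_3_2 lc_a_Cert_tree lc_a_rc_3_2 lc_a_Cert_tree lc_a_rc_4_2 lc_a_Cert_tree lc_a_rc_4_2 lc_a_rc_5_0 lc_a_rc_0_1 lc_a_rc_5_2 lc_a_rc_4_2 lc_a_rc_3_2 lc_a_rc_4_2 lc_a_rc_4_2 lc_a_rc_3_2 lc_a_rc_4_2 lc_a_rc_21_0 lc_a_rc_21_0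 lc_a_rc_4_2 lc_a_rc_1_2 lc_a_rc_2_2 lc_a_rc_5_2 lc_a_rc_5_0 lc_a_rc_5_0 lc_a_rc_3_2 lc_a_rc_3_2 lc_a_rc_2_2 lc_a_rc_5_2 lc_a_rc_2_2 lc_a_rc_3_2 lc_a_rc_4_2 lc_a_rc_5_0 lc_a_rc_2_2 lc_a_rc_3_2 lc_a_rc_21_0 lc_a_rc_4_2 lc_a_rc_0_1 lc_a_rc_21_0 lc_a_rc_3_2 lc_a_rc_2_2 lc_a_rc_4_2 lc_a_rc_3_2 lc_a_rc_2_2 lc_a_rc_4_2 lc_a_rc_21_0 lc_a_rc_2_2 lc_a_Cert_tree lc_a_rc_3_2 lc_a_rc_5_2 lc_a_rc_4_2 lc_a_rc_2_2 lc_a_rc_4_2 lc_a_rc_3_2 lc_a_rc_4_2 lc_a_rc_5_2 lc_a_rc_2_2 lc_a_rc_4_2) (@D3.rec (fun _ => (Cert rels S Gen.a)) lc_a_rc_3_2 lc_a_rc_21_0 lc_a_rc_5_2 lc_a_Cert_tree lc_a_rc_0_1 lc_a_rc_0_1 lc_a_rc_3_2 lc_a_rc_21_0 lc_a_rc_4_2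 lc_a_rc_4_2 lc_a_rc_4_2 lc_a_rc_1_4 lc_a_rc_0_1 lc_a_rc_3_2 lc_a_rc_5_2 lc_a_rc_3_2 lc_a_rc_21_0 lc_a_rc_3_2 lc_a_rc_2_2 lc_a_rc_5_2 lc_a_rc_3_2 lc_a_rc_3_2 lc_a_rc_3_2 lc_a_rc_1_4 lc_a_rc_2_2 lc_a_rc_4_2 lc_a_rc_21_0 lc_a_rc_3_0 lc_a_rc_3_2 lc_a_rc_2_2 lc_a_rc_5_2 lc_a_rc_5_2 lc_a_rc_2_2 lc_a_rc_3_2 lc_a_rc_3_2 lc_a_rc_4_2 lc_a_rc_2_2 lc_a_rc_4_2 lc_a_rc_0_1 lc_a_rc_2_2 lc_a_rc_4_2 lc_a_rc_3_2 lc_a_rc_3_2 lc_a_rc_4_2 lc_a_rc_21_0 lc_a_rc_2_2 lc_a_Cert_tree lc_a_rc_22_0 lc_a_rc_5_2 lc_a_rc_4_2 lc_a_rc_2_2 lc_a_rc_4_2 lc_a_rc_4_2 lc_a_rc_21_0 lc_a_rc_5_2 lc_a_rc_2_2 lc_a_rc_4_2 lc_a_rc_3_2 lc_a_rc_5_0 lc_a_rc_5_2 lc_a_Cert_tree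 lc_a_rc_0_1) (@D3.rec (fun _ => (Cert rels S Gen.a)) lc_a_rc_0_1 lc_a_rc_3_2 lc_a_rc_21_0 lc_a_rc_4_2 lc_a_rc_4_2 lc_a_rc_4_2 lc_a_rc_3_2 lc_a_rc_1_0 lc_a_rc_22_0 lc_a_rc_4_2 lc_a_rc_3_2 lc_a_rc_3_2 lc_a_rc_2_2 lc_a_rc_5_2 lc_a_rc_3_2 lc_a_rc_1_2 lc_a_rc_3_2 lc_a_rc_2_2 lc_a_rc_5_2 lc_a_rc_2_2 lc_a_rc_4_2 lc_a_rc_2_2 lc_a_rc_2_0 lc_a_rc_4_2 lc_a_rc_2_2 lc_a_rc_21_0 lc_a_Cert_tree lc_a_rc_3_2 lc_a_rc_5_2 lc_a_rc_5_0 lc_a_rc_0_1 lc_a_rc_3_2 lc_a_rc_2_2 lc_a_rc_5_2 lc_a_rc_2_2 lc_a_rc_4_2 lc_a_rc_0_1 lc_a_rc_21_0 lc_a_rc_3_2 lc_a_rc_2_2 lc_a_rc_4_2 lc_a_rc_2_2 lc_a_rc_2_2 lc_a_Cert_tree lc_a_rc_3_2 lc_a_rc_5_2 lc_a_rc_5_2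 lc_a_rc_3_2 lc_a_rc_3_2 lc_a_rc_2_2 lc_a_rc_5_2 lc_a_rc_4_2 lc_a_rc_1_4 lc_a_rc_3_2 lc_a_rc_2_2 lc_a_rc_3_2 lc_a_rc_5_0 lc_a_rc_2_2 lc_a_rc_2_2 lc_a_rc_3_2 lc_a_rc_4_2 lc_a_rc_4_2) (@D3.rec (fun _ => (Cert rels S Gen.a)) lc_a_rc_3_2 lc_a_rc_1_4 lc_a_rc_4_2 lc_a_rc_4_2 lc_a_rc_1_4 lc_a_rc_2_2 lc_a_rc_21_0 lc_a_Cert_tree lc_a_rc_3_2 lc_a_rc_5_2 lc_a_rc_4_2 lc_a_rc_2_2 lc_a_rc_2_2 lc_a_rc_4_2 lc_a_rc_3_2 lc_a_rc_3_0 lc_a_rc_3_2 lc_a_rc_2_2 lc_a_rc_5_2 lc_a_rc_3_2 lc_a_rc_1_4 lc_a_rc_3_2 lc_a_rc_21_0 lc_a_rc_2_2 lc_a_rc_4_2 lc_a_rc_21_0 lc_a_rc_4_2 lc_a_rc_3_2 lc_a_rc_2_2 lc_a_rc_4_2 lc_a_rc_2_2 lc_a_rc_4_2 lc_a_rc_2_2 lc_a_rc_2_2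 lc_a_Cert_tree lc_a_rc_3_2 lc_a_rc_5_2 lc_a_rc_4_2 lc_a_rc_3_2 lc_a_rc_3_2 lc_a_rc_3_2 lc_a_rc_2_2 lc_a_rc_3_2 lc_a_rc_1_2 lc_a_rc_3_2 lc_a_rc_1_4 lc_a_rc_3_2 lc_a_rc_4_2 lc_a_rc_22_0 lc_a_rc_3_2 lc_a_rc_3_2 lc_a_rc_2_2 lc_a_rc_3_2 lc_a_rc_0_1 lc_a_rc_3_2 lc_a_rc_1_4 lc_a_rc_2_2 lc_a_rc_4_2 lc_a_rc_2_2 lc_a_rc_4_2 lc_a_rc_2_2 lc_a_rc_2_2) (@D3.rec (fun _ => (Cert rels S Gen.a)) lc_a_Cert_tree lc_a_rc_3_2 lc_a_rc_2_2 lc_a_rc_5_0 lc_a_rc_3_2 lc_a_rc_4_2 lc_a_rc_5_2 lc_a_rc_2_2 lc_a_rc_2_2 lc_a_rc_5_2 lc_a_rc_3_2 lc_a_rc_4_2 lc_a_rc_1_4 lc_a_rc_3_2 lc_a_rc_2_2 lc_a_rc_4_2 lc_a_rc_3_2 lc_a_rc_21_0 lc_a_rc_21_0 lc_a_rc_5_0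 lc_a_rc_4_2 lc_a_rc_0_1 lc_a_rc_21_0 lc_a_rc_21_0 lc_a_Cert_tree lc_a_rc_2_2 lc_a_rc_5_2 lc_a_rc_0_1 lc_a_rc_3_0 lc_a_rc_4_2 lc_a_rc_4_2 lc_a_rc_2_2 lc_a_rc_0_1 lc_a_rc_2_2 lc_a_rc_3_2 lc_a_rc_4_2 lc_a_rc_2_2 lc_a_rc_0_1 lc_a_Cert_tree lc_a_rc_3_2 lc_a_rc_2_2 lc_a_rc_0_1 lc_a_rc_3_0 lc_a_rc_3_2 lc_a_rc_3_2 lc_a_rc_0_1 lc_a_rc_3_2 lc_a_rc_1_2 lc_a_rc_0_1 lc_a_rc_2_2 lc_a_rc_4_2 lc_a_Cert_tree lc_a_rc_2_2 lc_a_rc_2_2 lc_a_rc_3_2 lc_a_rc_5_0 lc_a_rc_3_2 lc_a_rc_5_2 lc_a_rc_3_2 lc_a_Cert_tree lc_a_rc_21_0 lc_a_rc_2_2) (@D3.rec (fun _ => (Cert rels S Gen.a)) lc_a_rc_4_2 lc_a_Cert_tree lc_a_rc_3_2 lc_a_rc_21_0 lc_a_rc_4_2 lc_a_Cert_tree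 lc_a_rc_0_1 lc_a_rc_0_1 lc_a_rc_3_2 lc_a_rc_21_0 lc_a_rc_3_2 lc_a_rc_2_2 lc_a_rc_0_1 lc_a_rc_4_2 lc_a_rc_22_0 lc_a_rc_4_2 lc_a_rc_3_2 lc_a_rc_5_0 lc_a_rc_21_0 lc_a_rc_2_2 lc_a_rc_2_2 lc_a_rc_4_2 lc_a_rc_2_2 lc_a_rc_2_2 lc_a_Cert_tree lc_a_rc_2_2 lc_a_rc_4_2 lc_a_rc_4_2 lc_a_rc_21_0 lc_a_rc_3_2 lc_a_rc_1_4 lc_a_rc_22_0 lc_a_rc_3_2 lc_a_Cert_tree lc_a_rc_2_2 lc_a_rc_2_2 lc_a_rc_21_0 lc_a_rc_4_2 lc_a_rc_2_2 lc_a_rc_4_2 lc_a_Cert_tree lc_a_rc_22_0 lc_a_rc_4_2 lc_a_rc_4_2 lc_a_rc_0_1 lc_a_rc_5_2 lc_a_rc_2_2 lc_a_rc_4_2 lc_a_Cert_tree lc_a_rc_3_2 lc_a_rc_0_1 lc_a_rc_1_2 lc_a_rc_5_2 lc_a_Cert_tree lc_a_rc_3_2 lc_a_rc_4_2 lc_a_Cert_tree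 lc_a_rc_21_0 lc_a_Cert_tree lc_a_rc_0_1 lc_a_rc_0_1 lc_a_rc_3_2) (@D3.rec (fun _ => (Cert rels S Gen.a)) lc_a_rc_21_0 lc_a_rc_3_2 lc_a_rc_4_2 lc_a_rc_5_2 lc_a_rc_3_2 lc_a_rc_2_2 lc_a_rc_4_2 lc_a_rc_2_2 lc_a_rc_4_2 lc_a_rc_3_2 lc_a_rc_5_2 lc_a_rc_2_2 lc_a_rc_4_2 lc_a_rc_3_0 lc_a_rc_2_2 lc_a_rc_4_2 lc_a_rc_2_0 lc_a_rc_21_0 lc_a_Cert_tree lc_a_rc_3_2 lc_a_rc_4_2 lc_a_rc_1_4 lc_a_rc_21_0 lc_a_rc_5_2 lc_a_rc_2_2 lc_a_rc_0_1 lc_a_rc_3_2 lc_a_rc_2_2 lc_a_rc_4_2 lc_a_rc_21_0 lc_a_rc_2_2 lc_a_rc_4_2 lc_a_Cert_tree lc_a_rc_3_2 lc_a_rc_4_2 lc_a_rc_3_2 lc_a_rc_21_0 lc_a_rc_5_2 lc_a_Cert_tree lc_a_rc_2_2 lc_a_rc_4_2 lc_a_Cert_tree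 lc_a_rc_3_2 lc_a_rc_4_2 lc_a_Cert_tree lc_a_rc_2_2 lc_a_rc_4_2 lc_a_rc_1_4 lc_a_rc_21_0 lc_a_rc_0_1 lc_a_rc_3_2 lc_a_rc_4_2 lc_a_rc_0_1 lc_a_rc_4_2 lc_a_rc_2_2 lc_a_rc_0_1 lc_a_rc_4_2 lc_a_rc_3_2 lc_a_rc_4_2 lc_a_rc_2_2 lc_a_rc_4_2 lc_a_rc_3_0) (@D3.rec (fun _ => (Cert rels S Gen.a)) lc_a_rc_5_2 lc_a_rc_21_0 lc_a_rc_5_0 lc_a_rc_3_2 lc_a_rc_21_0 lc_a_rc_2_2 lc_a_rc_4_2 lc_a_rc_4_2 lc_a_rc_21_0 lc_a_rc_0_1 lc_a_rc_5_2 lc_a_rc_2_2 lc_a_rc_0_1 lc_a_rc_3_2 lc_a_rc_2_2 lc_a_rc_3_2 lc_a_rc_21_0 lc_a_rc_2_2 lc_a_Cert_tree lc_a_rc_3_2 lc_a_rc_4_2 lc_a_rc_1_2 lc_a_rc_21_0 lc_a_rc_4_2 lc_a_rc_5_2 lc_a_rc_2_2 lc_a_rc_2_2 lc_a_rc_0_1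 lc_a_rc_21_0 lc_a_rc_0_1 lc_a_rc_3_2 lc_a_rc_4_2 lc_a_rc_4_2 lc_a_rc_0_1 lc_a_rc_2_0 lc_a_rc_3_2 lc_a_rc_4_0 lc_a_rc_2_2 lc_a_rc_4_2 lc_a_rc_0_1 lc_a_rc_2_2 lc_a_rc_0_1 lc_a_rc_3_2 lc_a_rc_2_2 lc_a_rc_5_2 lc_a_Cert_tree lc_a_rc_2_2 lc_a_rc_3_2 lc_a_rc_4_2 lc_a_rc_0_1 lc_a_Cert_tree lc_a_rc_3_2 lc_a_rc_4_2 lc_a_rc_0_1 lc_a_rc_0_1 lc_a_rc_21_0 lc_a_rc_0_1 lc_a_rc_5_2 lc_a_Cert_tree lc_a_rc_4_2 lc_a_rc_1_4 lc_a_rc_21_0) (@D3.rec (fun _ => (Cert rels S Gen.a)) lc_a_rc_0_1 lc_a_rc_3_2 lc_a_rc_4_2 lc_a_rc_21_0 lc_a_rc_3_2 lc_a_rc_4_2 lc_a_rc_5_0 lc_a_rc_4_2 lc_a_rc_3_2 lc_a_rc_5_2 lc_a_rc_0_1 lc_a_rc_21_0 lc_a_rc_1_2 lc_a_rc_2_2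 lc_a_rc_3_2 lc_a_rc_4_2 lc_a_rc_4_2 lc_a_rc_2_2 lc_a_rc_4_2 lc_a_rc_5_2 lc_a_rc_2_2 lc_a_Cert_tree lc_a_rc_3_2 lc_a_rc_4_2 lc_a_rc_0_1 lc_a_rc_21_0 lc_a_rc_5_2 lc_a_rc_0_1 lc_a_rc_21_0 lc_a_rc_0_1 lc_a_rc_3_2 lc_a_rc_4_2 lc_a_rc_3_0 lc_a_rc_3_0 lc_a_rc_2_2 lc_a_rc_4_2 lc_a_rc_2_2 lc_a_rc_4_2 lc_a_rc_0_1 lc_a_rc_2_2 lc_a_rc_2_2 lc_a_rc_21_0 lc_a_rc_0_1 lc_a_rc_2_2 lc_a_rc_3_2 lc_a_rc_4_2 lc_a_rc_21_0 lc_a_rc_3_2 lc_a_rc_4_2 lc_a_rc_3_2 lc_a_rc_5_2 lc_a_rc_3_2 lc_a_rc_21_0 lc_a_rc_0_1 lc_a_rc_2_2 lc_a_rc_3_2 lc_a_rc_4_2 lc_a_rc_4_2 lc_a_rc_2_2 lc_a_rc_0_1 lc_a_rc_0_1 lc_a_Cert_tree) (@D3.rec (fun _ => (Cert rels S Gen.a))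 lc_a_rc_2_2 lc_a_rc_3_2 lc_a_rc_4_2 lc_a_rc_5_2 lc_a_Cert_tree lc_a_rc_2_2 lc_a_rc_3_2 lc_a_rc_4_2 lc_a_rc_3_2 lc_a_rc_21_0 lc_a_rc_2_2 lc_a_rc_2_2 lc_a_rc_4_2 lc_a_rc_4_2 lc_a_Cert_tree lc_a_Cert_tree lc_a_rc_4_2 lc_a_rc_4_2 lc_a_rc_5_0 lc_a_rc_5_2 lc_a_rc_5_0 lc_a_rc_2_2 lc_a_rc_3_2 lc_a_rc_5_0 lc_a_rc_5_0 lc_a_rc_5_0 lc_a_rc_21_0 lc_a_rc_3_2 lc_a_rc_2_2 lc_a_rc_4_2 lc_a_rc_3_2 lc_a_rc_5_2 lc_a_rc_3_2 lc_a_rc_2_2 lc_a_rc_4_2 lc_a_rc_2_2 lc_a_rc_4_2 lc_a_rc_21_0 lc_a_rc_5_2 lc_a_rc_3_2 lc_a_rc_2_2 lc_a_rc_4_2 lc_a_rc_3_2 lc_a_rc_2_2 lc_a_rc_3_2 lc_a_rc_2_2 lc_a_rc_2_2 lc_a_Cert_tree lc_a_rc_3_2 lc_a_rc_4_2 lc_a_rc_0_1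 lc_a_rc_21_0 lc_a_rc_4_2 lc_a_rc_5_2 lc_a_rc_5_0 lc_a_rc_3_2 lc_a_rc_3_2 lc_a_rc_3_2 lc_a_rc_3_2 lc_a_rc_3_2 lc_a_rc_2_2 lc_a_rc_21_0) (@D3.rec (fun _ => (Cert rels S Gen.a)) lc_a_rc_2_2 lc_a_rc_4_2 lc_a_Cert_tree lc_a_rc_4_2 lc_a_rc_3_2 lc_a_rc_21_0 lc_a_rc_5_2 lc_a_rc_0_1 lc_a_rc_2_2 lc_a_rc_4_2 lc_a_Cert_tree lc_a_rc_4_2 lc_a_rc_0_1 lc_a_rc_21_0 lc_a_rc_21_0 lc_a_rc_2_2 lc_a_rc_0_1 lc_a_rc_3_0 lc_a_rc_5_0 lc_a_rc_4_2 lc_a_Cert_tree lc_a_rc_4_2 lc_a_rc_4_2 lc_a_rc_2_0 lc_a_rc_22_0 lc_a_rc_2_2 lc_a_rc_0_1 lc_a_rc_3_2 lc_a_Cert_tree lc_a_rc_3_2 lc_a_rc_0_1 lc_a_rc_21_0 lc_a_rc_0_1 lc_a_rc_3_2 lc_a_rc_4_2 lc_a_rc_21_0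 lc_a_rc_3_2 lc_a_rc_0_1 lc_a_rc_5_0 lc_a_rc_4_2 lc_a_rc_2_2 lc_a_rc_5_0 lc_a_rc_0_1 lc_a_rc_3_2 lc_a_rc_4_2 lc_a_rc_21_0 lc_a_rc_5_0 lc_a_rc_0_1 lc_a_rc_4_0 lc_a_rc_3_2 lc_a_rc_4_2 lc_a_Cert_tree lc_a_rc_1_2 lc_a_rc_21_0 lc_a_rc_5_0 lc_a_Cert_tree lc_a_rc_4_0 lc_a_rc_3_2 lc_a_rc_3_2 lc_a_rc_4_2 lc_a_rc_21_0 lc_a_rc_0_1) (@D3.rec (fun _ => (Cert rels S Gen.a)) lc_a_rc_2_2 lc_a_rc_4_2 lc_a_rc_4_0 lc_a_rc_5_0 lc_a_rc_5_2 lc_a_rc_1_4 lc_a_rc_5_0 lc_a_rc_4_2 lc_a_rc_5_2 lc_a_Cert_tree lc_a_Cert_tree lc_a_rc_21_0 lc_a_rc_2_2 lc_a_rc_3_2 lc_a_rc_4_2 lc_a_rc_4_2 lc_a_Cert_tree lc_a_rc_2_2 lc_a_rc_3_2 lc_a_rc_5_2 lc_a_rc_4_2 lc_a_rc_3_2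 lc_a_rc_4_2 lc_a_rc_21_0 lc_a_rc_21_0 lc_a_rc_3_2 lc_a_rc_3_2 lc_a_rc_2_2 lc_a_rc_3_2 lc_a_rc_2_2 lc_a_rc_2_2 lc_a_Cert_tree lc_a_rc_2_2 lc_a_rc_1_4 lc_a_rc_4_2 lc_a_rc_4_2 lc_a_rc_5_2 lc_a_rc_3_2 lc_a_rc_1_2 lc_a_rc_2_2 lc_a_rc_0_1 lc_a_rc_21_0 lc_a_rc_0_1 lc_a_rc_4_2 lc_a_rc_3_2 lc_a_rc_5_2 lc_a_Cert_tree lc_a_rc_21_0 lc_a_rc_4_2 lc_a_rc_0_1 lc_a_rc_0_1 lc_a_rc_3_2 lc_a_rc_21_0 lc_a_rc_4_2 lc_a_rc_5_2 lc_a_Cert_tree lc_a_Cert_tree lc_a_rc_3_2 lc_a_rc_3_2 lc_a_rc_3_0 lc_a_rc_3_2 lc_a_rc_2_2) (@D3.rec (fun _ => (Cert rels S Gen.a)) lc_a_rc_4_2 lc_a_rc_5_2 lc_a_rc_0_1 lc_a_rc_1_4 lc_a_rc_2_0 lc_a_Cert_tree lc_a_rc_21_0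 lc_a_rc_1_4 lc_a_rc_0_1 lc_a_rc_3_2 lc_a_rc_3_2 lc_a_rc_5_0 lc_a_rc_2_2 lc_a_rc_4_2 lc_a_rc_5_0 lc_a_rc_4_2 lc_a_Cert_tree lc_a_rc_4_2 lc_a_rc_5_0 lc_a_rc_4_2 lc_a_rc_4_2 lc_a_rc_5_2 lc_a_rc_21_0 lc_a_rc_4_2 lc_a_rc_3_2 lc_a_rc_0_1 lc_a_rc_3_2 lc_a_rc_0_1 lc_a_rc_0_1 lc_a_rc_2_2 lc_a_rc_21_0 lc_a_rc_21_0 lc_a_rc_3_2 lc_a_rc_0_1 lc_a_rc_4_2 lc_a_rc_3_2 lc_a_rc_5_0 lc_a_rc_4_2 lc_a_rc_3_2 lc_a_rc_5_2 lc_a_Cert_tree lc_a_Cert_tree lc_a_rc_2_2 lc_a_rc_22_0 lc_a_rc_21_0 lc_a_rc_4_2 lc_a_rc_1_4 lc_a_rc_2_2 lc_a_rc_3_2 lc_a_rc_2_2 lc_a_rc_3_2 lc_a_rc_1_4 lc_a_rc_4_0 lc_a_rc_3_2 lc_a_rc_21_0 lc_a_rc_3_2 lc_a_rc_21_0 lc_a_rc_2_2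 lc_a_rc_4_2 lc_a_rc_1_0 lc_a_rc_3_2 lc_a_rc_0_1) (@D3.rec (fun _ => (Cert rels S Gen.a)) lc_a_rc_3_2 lc_a_rc_4_2 lc_a_Cert_tree lc_a_rc_4_2 lc_a_rc_5_0 lc_a_rc_4_2 lc_a_rc_4_2 lc_a_rc_3_2 lc_a_rc_0_1 lc_a_rc_22_0 lc_a_rc_21_0 lc_a_rc_4_2 lc_a_rc_1_2 lc_a_rc_0_1 lc_a_rc_0_1 lc_a_rc_1_4 lc_a_rc_2_2 lc_a_rc_3_2 lc_a_rc_4_2 lc_a_rc_2_2 lc_a_rc_21_0 lc_a_rc_3_2 lc_a_rc_3_0 lc_a_rc_21_0 lc_a_rc_0_1 lc_a_rc_2_2 lc_a_rc_4_2 lc_a_rc_1_0 lc_a_rc_3_2 lc_a_rc_5_0 lc_a_rc_4_2 lc_a_rc_4_2 lc_a_rc_4_2 lc_a_rc_2_2 lc_a_rc_0_1 lc_a_rc_3_2 lc_a_rc_4_2 lc_a_rc_1_2 lc_a_rc_3_2 lc_a_rc_0_1 lc_a_rc_21_0 lc_a_rc_0_1 lc_a_rc_1_4 lc_a_rc_22_0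 lc_a_rc_2_2 lc_a_rc_5_2 lc_a_rc_2_2 lc_a_rc_4_2 lc_a_rc_3_2 lc_a_rc_4_2 lc_a_rc_21_0 lc_a_rc_0_1 lc_a_rc_3_2 lc_a_rc_4_2 lc_a_rc_3_2 lc_a_rc_5_0 lc_a_rc_2_2 lc_a_rc_4_2 lc_a_rc_0_1 lc_a_rc_3_2 lc_a_rc_5_2 lc_a_rc_2_2) (@D3.rec (fun _ => (Cert rels S Gen.a)) lc_a_rc_21_0 lc_a_rc_2_2 lc_a_rc_4_2 lc_a_Cert_tree lc_a_rc_21_0 lc_a_rc_4_2 lc_a_Cert_tree lc_a_rc_0_1 lc_a_rc_4_2 lc_a_rc_5_0 lc_a_rc_2_2 lc_a_Cert_tree lc_a_rc_3_2 lc_a_rc_4_2 lc_a_rc_2_2 lc_a_rc_2_2 lc_a_rc_21_0 lc_a_rc_5_2 lc_a_rc_4_2 lc_a_rc_2_2 lc_a_rc_3_2 lc_a_rc_0_1 lc_a_rc_2_2 lc_a_rc_4_2 lc_a_rc_5_0 lc_a_rc_3_2 lc_a_rc_2_0 lc_a_rc_5_2 lc_a_rc_0_1 lc_a_rc_2_2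 lc_a_rc_4_2 lc_a_rc_0_1 lc_a_rc_4_2 lc_a_rc_1_4 lc_a_rc_21_0 lc_a_rc_2_2 lc_a_rc_0_1 lc_a_rc_4_2 lc_a_rc_5_0 lc_a_rc_2_2 lc_a_rc_3_2 lc_a_rc_5_2 lc_a_Cert_tree lc_a_rc_21_0 lc_a_rc_21_0 lc_a_rc_4_2 lc_a_Cert_tree lc_a_rc_0_1 lc_a_rc_0_1 lc_a_rc_3_2 lc_a_rc_5_2 lc_a_rc_5_0 lc_a_rc_4_2 lc_a_rc_3_2 lc_a_rc_2_2 lc_a_rc_1_4 lc_a_rc_21_0 lc_a_rc_0_1 lc_a_rc_3_2 lc_a_rc_4_2 lc_a_rc_4_2 lc_a_rc_2_2) (@D3.rec (fun _ => (Cert rels S Gen.a)) lc_a_rc_2_2 lc_a_rc_22_0 lc_a_rc_5_2 lc_a_rc_2_2 lc_a_rc_2_2 lc_a_rc_21_0 lc_a_rc_3_2 lc_a_rc_4_2 lc_a_rc_0_1 lc_a_rc_21_0 lc_a_rc_5_2 lc_a_rc_22_0 lc_a_rc_1_2 lc_a_rc_2_2 lc_a_rc_0_1 lc_a_rc_2_2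 lc_a_rc_5_2 lc_a_rc_21_0 lc_a_rc_3_2 lc_a_rc_22_0 lc_a_rc_22_0 lc_a_rc_4_2 lc_a_rc_3_2 lc_a_rc_4_2 lc_a_rc_2_2 lc_a_rc_4_2 lc_a_rc_5_0 lc_a_rc_4_2 lc_a_rc_3_2 lc_a_rc_3_2 lc_a_rc_4_0 lc_a_rc_2_2 lc_a_rc_21_0 lc_a_rc_4_2 lc_a_rc_1_2 lc_a_rc_2_2 lc_a_rc_0_1 lc_a_rc_2_2 lc_a_rc_3_2 lc_a_rc_3_2 lc_a_rc_21_0 lc_a_rc_3_2 lc_a_rc_3_2 lc_a_rc_5_0 lc_a_rc_2_2 lc_a_rc_4_2 lc_a_rc_5_0 lc_a_rc_4_2 lc_a_rc_5_2 lc_a_rc_1_4 lc_a_rc_0_1 lc_a_rc_3_2 lc_a_rc_0_1 lc_a_rc_1_0 lc_a_rc_1_2 lc_a_rc_2_2 lc_a_rc_4_2 lc_a_rc_3_2 lc_a_rc_0_1 lc_a_rc_21_0 lc_a_rc_3_2 lc_a_rc_4_2) (@D3.rec (fun _ => (Cert rels S Gen.a)) lc_a_rc_21_0 lc_a_rc_4_2 lc_a_rc_0_1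 lc_a_rc_4_2 lc_a_rc_0_1 lc_a_rc_2_2 lc_a_rc_4_2 lc_a_rc_21_0 lc_a_rc_3_2 lc_a_Cert_tree lc_a_rc_4_2 lc_a_rc_1_2 lc_a_rc_2_2 lc_a_rc_4_2 lc_a_rc_0_1 lc_a_rc_21_0 lc_a_rc_3_2 lc_a_rc_4_2 lc_a_rc_21_0 lc_a_rc_1_4 lc_a_rc_3_2 lc_a_rc_5_2 lc_a_Cert_tree lc_a_rc_3_2 lc_a_rc_2_2 lc_a_rc_2_2 lc_a_rc_3_0 lc_a_rc_21_0 lc_a_rc_3_2 lc_a_Cert_tree lc_a_rc_21_0 lc_a_rc_4_2 lc_a_rc_3_2 lc_a_rc_4_0 lc_a_rc_5_2 lc_a_rc_5_0 lc_a_rc_0_1 lc_a_rc_3_2 lc_a_rc_21_0 lc_a_rc_5_0 lc_a_rc_0_1 lc_a_rc_21_0 lc_a_rc_3_2 lc_a_rc_4_2 lc_a_rc_4_2 lc_a_rc_0_1 lc_a_Cert_tree lc_a_rc_2_2 lc_a_rc_4_2 lc_a_Cert_tree lc_a_rc_4_0 lc_a_rc_2_0 lc_a_rc_21_0 lc_a_rc_2_2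 lc_a_rc_21_0 lc_a_rc_4_2 lc_a_rc_2_2 lc_a_rc_3_2 lc_a_rc_3_2 lc_a_rc_3_2 lc_a_rc_3_0 lc_a_rc_2_0) (@D3.rec (fun _ => (Cert rels S Gen.a)) lc_a_rc_0_1 lc_a_rc_3_2 lc_a_rc_4_2 lc_a_rc_3_2 lc_a_rc_4_2 lc_a_rc_3_2 lc_a_rc_0_1 lc_a_rc_0_1 lc_a_rc_3_2 lc_a_rc_2_2 lc_a_rc_4_2 lc_a_rc_0_1 lc_a_rc_3_2 lc_a_rc_2_2 lc_a_rc_4_2 lc_a_rc_21_0 lc_a_rc_2_2 lc_a_rc_4_2 lc_a_rc_1_4 lc_a_rc_0_1 lc_a_rc_1_4 lc_a_rc_4_2 lc_a_rc_3_2 lc_a_rc_21_0 lc_a_rc_22_0 lc_a_Cert_tree lc_a_rc_3_2 lc_a_rc_5_0 lc_a_rc_21_0 lc_a_rc_5_0 lc_a_rc_21_0 lc_a_rc_3_2 lc_a_rc_21_0 lc_a_rc_3_2 lc_a_rc_2_2 lc_a_rc_4_2 lc_a_rc_0_1 lc_a_rc_3_2 lc_a_rc_2_2 lc_a_rc_3_2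 lc_a_rc_0_1 lc_a_rc_4_2 lc_a_rc_1_4 lc_a_rc_3_2 lc_a_rc_4_2 lc_a_rc_3_2 lc_a_rc_21_0 lc_a_rc_22_0 lc_a_rc_2_2 lc_a_rc_4_2 lc_a_Cert_tree lc_a_rc_3_2 lc_a_rc_4_2 lc_a_rc_2_2 lc_a_rc_1_4 lc_a_rc_4_2 lc_a_rc_0_1 lc_a_rc_3_2 lc_a_rc_22_0 lc_a_rc_4_2 lc_a_rc_5_0 lc_a_rc_5_2) (@D3.rec (fun _ => (Cert rels S Gen.a)) lc_a_rc_5_2 lc_a_rc_4_2 lc_a_rc_5_0 lc_a_rc_4_2 lc_a_rc_5_2 lc_a_rc_0_1 lc_a_rc_2_2 lc_a_rc_4_2 lc_a_rc_3_2 lc_a_rc_5_2 lc_a_rc_4_2 lc_a_rc_3_2 lc_a_rc_5_2 lc_a_Cert_tree lc_a_rc_3_2 lc_a_rc_4_2 lc_a_Cert_tree lc_a_rc_21_0 lc_a_rc_2_2 lc_a_rc_4_2 lc_a_rc_1_4 lc_a_rc_2_2 lc_a_rc_4_2 lc_a_rc_1_4 lc_a_rc_2_2 lc_a_rc_4_2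 lc_a_rc_0_1 lc_a_rc_2_0 lc_a_rc_0_1 lc_a_rc_4_2 lc_a_rc_5_0 lc_a_rc_0_1 lc_a_rc_4_2 lc_a_rc_5_2 lc_a_rc_3_0 lc_a_rc_3_0 lc_a_rc_2_2 lc_a_Cert_tree lc_a_rc_4_2 lc_a_rc_2_2 lc_a_rc_4_2 lc_a_rc_3_2 lc_a_rc_4_0 lc_a_rc_3_2 lc_a_rc_4_0 lc_a_rc_0_1 lc_a_rc_4_0 lc_a_rc_3_2 lc_a_rc_5_2 lc_a_rc_4_2 lc_a_Cert_tree lc_a_rc_4_2 lc_a_rc_0_1 lc_a_rc_3_0 lc_a_rc_4_0 lc_a_rc_0_1 lc_a_rc_3_2 lc_a_rc_3_2 lc_a_rc_21_0 lc_a_rc_5_2 lc_a_rc_3_2 lc_a_rc_3_2) (@D3.rec (fun _ => (Cert rels S Gen.a)) lc_a_rc_2_2 lc_a_rc_4_2 lc_a_rc_2_2 lc_a_rc_4_2 lc_a_rc_21_0 lc_a_rc_2_2 lc_a_rc_4_2 lc_a_rc_22_0 lc_a_rc_4_2 lc_a_rc_0_1 lc_a_rc_3_2 lc_a_rc_5_2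 lc_a_rc_1_2 lc_a_rc_2_2 lc_a_rc_2_2 lc_a_rc_4_2 lc_a_rc_1_2 lc_a_rc_3_2 lc_a_rc_4_2 lc_a_rc_2_2 lc_a_rc_4_2 lc_a_rc_5_0 lc_a_rc_3_2 lc_a_rc_5_2 lc_a_rc_21_0 lc_a_rc_21_0 lc_a_rc_1_4 lc_a_rc_21_0 lc_a_rc_0_1 lc_a_rc_3_2 lc_a_rc_3_2 lc_a_rc_2_2 lc_a_rc_4_2 lc_a_rc_4_2 lc_a_rc_21_0 lc_a_rc_3_2 lc_a_rc_5_2 lc_a_rc_21_0 lc_a_rc_4_2 lc_a_rc_1_4 lc_a_rc_3_2 lc_a_rc_4_2 lc_a_rc_2_0 lc_a_rc_2_2 lc_a_rc_3_2 lc_a_rc_1_2 lc_a_rc_4_2 lc_a_rc_3_2 lc_a_rc_2_2 lc_a_rc_21_0 lc_a_rc_5_0 lc_a_rc_5_0 lc_a_rc_5_0 lc_a_rc_3_2 lc_a_rc_2_2 lc_a_rc_5_2 lc_a_rc_4_2 lc_a_rc_3_2 lc_a_rc_0_1 lc_a_rc_2_0 lc_a_rc_3_2 lc_a_rc_5_2) (@D3.rec (fun _ =>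 (Cert rels S Gen.a)) lc_a_rc_21_0 lc_a_rc_0_1 lc_a_rc_2_2 lc_a_Cert_tree lc_a_rc_4_2 lc_a_rc_0_1 lc_a_rc_2_2 lc_a_rc_21_0 lc_a_rc_4_2 lc_a_rc_22_0 lc_a_rc_2_2 lc_a_rc_4_2 lc_a_rc_3_2 lc_a_rc_4_2 lc_a_rc_3_2 lc_a_rc_3_2 lc_a_rc_4_2 lc_a_rc_2_2 lc_a_rc_4_2 lc_a_rc_3_2 lc_a_rc_22_0 lc_a_rc_3_2 lc_a_rc_21_0 lc_a_rc_2_2 lc_a_rc_2_2 lc_a_rc_4_2 lc_a_rc_2_2 lc_a_rc_2_2 lc_a_rc_2_2 lc_a_rc_4_2 lc_a_rc_1_0 lc_a_rc_4_0 lc_a_rc_3_2 lc_a_rc_2_2 lc_a_rc_2_2 lc_a_rc_4_2 lc_a_rc_21_0 lc_a_rc_21_0 lc_a_rc_4_2 lc_a_rc_3_0 lc_a_rc_3_2 lc_a_rc_3_2 lc_a_rc_4_2 lc_a_rc_5_0 lc_a_rc_1_2 lc_a_rc_3_2 lc_a_rc_5_2 lc_a_rc_2_2 lc_a_rc_3_2 lc_a_rc_5_0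 lc_a_rc_3_2 lc_a_rc_2_2 lc_a_rc_3_2 lc_a_Cert_tree lc_a_rc_4_2 lc_a_rc_1_2 lc_a_rc_3_2 lc_a_rc_2_2 lc_a_rc_3_2 lc_a_rc_4_0 lc_a_rc_5_2 lc_a_Cert_tree) (@D3.rec (fun _ => (Cert rels S Gen.a)) lc_a_rc_3_0 lc_a_rc_3_2 lc_a_rc_21_0 lc_a_rc_4_2 lc_a_rc_2_2 lc_a_rc_4_2 lc_a_rc_3_2 lc_a_rc_0_1 lc_a_rc_0_1 lc_a_rc_2_2 lc_a_rc_4_2 lc_a_rc_0_1 lc_a_rc_3_2 lc_a_rc_5_2 lc_a_rc_0_1 lc_a_rc_21_0 lc_a_rc_22_0 lc_a_rc_0_1 lc_a_rc_4_2 lc_a_rc_21_0 lc_a_rc_2_2 lc_a_rc_4_2 lc_a_rc_3_2 lc_a_rc_0_1 lc_a_rc_3_2 lc_a_rc_5_2 lc_a_rc_2_2 lc_a_rc_4_2 lc_a_rc_21_0 lc_a_rc_2_0 lc_a_Cert_tree lc_a_rc_3_2 lc_a_rc_3_0 lc_a_rc_2_2 lc_a_rc_1_2 lc_a_rc_0_1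 lc_a_rc_5_2 lc_a_rc_4_2 lc_a_rc_3_2 lc_a_rc_0_1 lc_a_rc_4_0 lc_a_rc_5_2 lc_a_rc_3_2 lc_a_rc_2_2 lc_a_rc_3_2 lc_a_rc_4_2 lc_a_rc_2_2 lc_a_rc_4_2 lc_a_rc_5_2 lc_a_rc_3_2 lc_a_rc_1_2 lc_a_rc_5_0 lc_a_rc_4_2 lc_a_rc_3_2 lc_a_Cert_tree lc_a_rc_3_2 lc_a_rc_4_2 lc_a_rc_4_2 lc_a_rc_3_2 lc_a_rc_21_0 lc_a_rc_3_2 lc_a_rc_3_2) (@D3.rec (fun _ => (Cert rels S Gen.a)) lc_a_rc_2_2 lc_a_rc_3_2 lc_a_rc_0_1 lc_a_rc_3_2 lc_a_rc_4_2 lc_a_rc_21_0 lc_a_rc_0_1 lc_a_rc_5_2 lc_a_rc_0_1 lc_a_rc_2_2 lc_a_rc_4_2 lc_a_rc_21_0 lc_a_rc_3_2 lc_a_Cert_tree lc_a_rc_3_2 lc_a_rc_4_2 lc_a_rc_0_1 lc_a_rc_21_0 lc_a_rc_4_2 lc_a_rc_5_2 lc_a_rc_0_1 lc_a_rc_2_2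 lc_a_rc_4_2 lc_a_Cert_tree lc_a_rc_2_2 lc_a_rc_4_2 lc_a_rc_4_2 lc_a_rc_0_1 lc_a_rc_3_2 lc_a_rc_5_2 lc_a_Cert_tree lc_a_rc_2_2 lc_a_rc_3_2 lc_a_rc_4_2 lc_a_Cert_tree lc_a_rc_21_0 lc_a_rc_21_0 lc_a_rc_4_2 lc_a_rc_2_2 lc_a_rc_3_2 lc_a_rc_0_1 lc_a_rc_4_2 lc_a_rc_2_2 lc_a_rc_2_2 lc_a_rc_3_2 lc_a_rc_5_2 lc_a_Cert_tree lc_a_rc_0_1 lc_a_rc_0_1 lc_a_rc_4_2 lc_a_Cert_tree lc_a_rc_2_2 lc_a_rc_21_0 lc_a_rc_4_2 lc_a_rc_3_2 lc_a_rc_3_2 lc_a_rc_3_2 lc_a_rc_3_0 lc_a_rc_2_2 lc_a_rc_2_2 lc_a_rc_4_2 lc_a_rc_3_2) (@D3.rec (fun _ => (Cert rels S Gen.a)) lc_a_rc_21_0 lc_a_rc_3_2 lc_a_rc_0_1 lc_a_rc_21_0 lc_a_rc_3_2 lc_a_rc_5_2 lc_a_rc_1_2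 lc_a_rc_5_0 lc_a_rc_3_2 lc_a_rc_21_0 lc_a_rc_3_2 lc_a_rc_5_2 lc_a_rc_2_2 lc_a_rc_4_2 lc_a_rc_3_0 lc_a_rc_21_0 lc_a_rc_3_2 lc_a_rc_4_2 lc_a_rc_21_0 lc_a_rc_0_1 lc_a_rc_5_2 lc_a_rc_5_0 lc_a_rc_4_2 lc_a_rc_21_0 lc_a_rc_3_2 lc_a_rc_4_2 lc_a_rc_3_2 lc_a_rc_21_0 lc_a_rc_2_2 lc_a_rc_5_2 lc_a_rc_3_0 lc_a_rc_0_1 lc_a_rc_3_2 lc_a_rc_4_2 lc_a_rc_3_2 lc_a_rc_3_2 lc_a_rc_3_2 lc_a_rc_2_2 lc_a_rc_4_2 lc_a_rc_2_2 lc_a_rc_3_2 lc_a_rc_3_2 lc_a_rc_0_1 lc_a_rc_2_2 lc_a_rc_3_2 lc_a_rc_1_4 lc_a_rc_4_0 lc_a_rc_2_2 lc_a_rc_4_2 lc_a_rc_3_2 lc_a_rc_5_2 lc_a_rc_3_2 lc_a_rc_21_0 lc_a_rc_3_2 lc_a_rc_3_2 lc_a_rc_4_2 lc_a_rc_2_2 lc_a_rc_4_2 lc_a_rc_21_0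 lc_a_rc_2_2 lc_a_rc_4_2 lc_a_rc_21_0) (@D3.rec (fun _ => (Cert rels S Gen.a)) lc_a_rc_2_2 lc_a_rc_3_2 lc_a_rc_2_2 lc_a_rc_3_2 lc_a_Cert_tree lc_a_rc_2_0 lc_a_rc_3_2 lc_a_rc_2_2 lc_a_rc_3_2 lc_a_rc_21_0 lc_a_rc_4_2 lc_a_rc_2_2 lc_a_rc_1_4 lc_a_rc_3_2 lc_a_rc_2_2 lc_a_rc_21_0 lc_a_rc_3_2 lc_a_rc_4_2 lc_a_rc_4_0 lc_a_rc_21_0 lc_a_rc_3_2 lc_a_rc_2_2 lc_a_rc_2_2 lc_a_rc_4_2 lc_a_rc_21_0 lc_a_rc_3_2 lc_a_rc_2_2 lc_a_rc_5_2 lc_a_rc_4_2 lc_a_rc_4_2 lc_a_rc_21_0 lc_a_rc_4_2 lc_a_rc_5_2 lc_a_rc_5_0 lc_a_rc_5_0 lc_a_rc_5_0 lc_a_rc_5_0 lc_a_rc_2_2 lc_a_rc_21_0 lc_a_rc_3_2 lc_a_rc_2_2 lc_a_rc_4_2 lc_a_rc_3_2 lc_a_rc_2_2 lc_a_rc_4_2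 lc_a_rc_2_2 lc_a_rc_2_2 lc_a_Cert_tree lc_a_rc_3_2 lc_a_rc_5_2 lc_a_rc_4_2 lc_a_rc_22_0 lc_a_rc_4_2 lc_a_rc_2_2 lc_a_Cert_tree lc_a_rc_2_2 lc_a_rc_5_0 lc_a_rc_21_0 lc_a_rc_3_2 lc_a_rc_22_0 lc_a_rc_2_2 lc_a_rc_21_0) (@D3.rec (fun _ => (Cert rels S Gen.a)) lc_a_rc_22_0 lc_a_rc_3_2 lc_a_Cert_tree lc_a_rc_2_2 lc_a_rc_2_2 lc_a_rc_4_2 lc_a_rc_4_2 lc_a_rc_2_2 lc_a_rc_4_2 lc_a_Cert_tree lc_a_rc_3_2 lc_a_rc_4_2 lc_a_rc_4_2 lc_a_rc_21_0 lc_a_rc_5_2 lc_a_rc_2_2 lc_a_rc_4_2 lc_a_Cert_tree lc_a_rc_22_0 lc_a_rc_21_0 lc_a_rc_1_4 lc_a_rc_5_2 lc_a_Cert_tree lc_a_rc_21_0 lc_a_rc_4_2 lc_a_rc_3_0 lc_a_rc_3_2 lc_a_Cert_tree lc_a_rc_21_0 lc_a_rc_0_1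 lc_a_rc_3_2 lc_a_rc_21_0 lc_a_rc_3_2 lc_a_rc_22_0 lc_a_rc_4_2 lc_a_rc_4_2 lc_a_rc_2_2 lc_a_rc_4_2 lc_a_Cert_tree lc_a_rc_4_2 lc_a_rc_4_2 lc_a_rc_3_2 lc_a_rc_5_2 lc_a_rc_2_2 lc_a_rc_3_0 lc_a_rc_3_2 lc_a_rc_3_2 lc_a_rc_4_2 lc_a_Cert_tree lc_a_rc_4_2 lc_a_rc_0_1 lc_a_rc_21_0 lc_a_rc_4_2 lc_a_rc_21_0 lc_a_rc_3_2 lc_a_rc_4_2 lc_a_rc_3_2 lc_a_rc_0_1 lc_a_rc_0_1 lc_a_rc_2_2 lc_a_rc_3_2 lc_a_rc_4_2)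
def ce_a_3 : D2 → D3 → (Cert rels S Gen.a) := @D2.rec (fun _ => D3 → (Cert rels S Gen.a)) (@D3.rec (fun _ => (Cert rels S Gen.a)) lc_a_rc_2_2 lc_a_rc_3_2 lc_a_rc_4_2 lc_a_rc_4_2 lc_a_rc_3_2 lc_a_rc_0_1 lc_a_rc_0_1 lc_a_rc_3_2 lc_a_rc_21_0 lc_a_rc_5_2 lc_a_rc_1_4 lc_a_rc_3_2 lc_a_rc_4_2 lc_a_rc_3_2 lc_a_rc_0_1 lc_a_rc_2_2 lc_a_rc_3_2 lc_a_rc_21_0 lc_a_rc_1_2 lc_a_rc_3_2 lc_a_rc_4_2 lc_a_rc_5_2 lc_a_rc_3_2 lc_a_Cert_tree lc_a_rc_4_2 lc_a_rc_5_0 lc_a_rc_3_2 lc_a_rc_5_2 lc_a_rc_4_2 lc_a_rc_4_2 lc_a_rc_4_2 lc_a_rc_5_2 lc_a_rc_1_2 lc_a_rc_0_1 lc_a_rc_3_2 lc_a_rc_3_2 lc_a_rc_0_1 lc_a_rc_4_0 lc_a_rc_3_2 lc_a_rc_4_2 lc_a_rc_21_0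 lc_a_rc_2_2 lc_a_rc_5_2 lc_a_rc_0_1 lc_a_rc_2_2 lc_a_rc_21_0 lc_a_rc_21_0 lc_a_rc_3_2 lc_a_rc_2_2 lc_a_rc_21_0 lc_a_rc_5_0 lc_a_rc_21_0 lc_a_rc_21_0 lc_a_rc_3_2 lc_a_rc_4_2 lc_a_rc_21_0 lc_a_rc_2_2 lc_a_rc_2_2 lc_a_rc_3_2 lc_a_rc_2_2 lc_a_rc_3_2 lc_a_rc_4_2) (@D3.rec (fun _ => (Cert rels S Gen.a)) lc_a_rc_4_2 lc_a_rc_4_2 lc_a_rc_3_2 lc_a_rc_5_0 lc_a_rc_3_2 lc_a_rc_5_2 lc_a_rc_4_2 lc_a_rc_3_2 lc_a_rc_21_0 lc_a_rc_5_0 lc_a_rc_2_2 lc_a_Cert_tree lc_a_rc_2_2 lc_a_rc_4_2 lc_a_rc_3_2 lc_a_rc_3_2 lc_a_rc_2_2 lc_a_rc_3_2 lc_a_rc_3_2 lc_a_rc_3_2 lc_a_rc_2_2 lc_a_Cert_tree lc_a_rc_2_2 lc_a_rc_4_2 lc_a_rc_3_2 lc_a_rc_4_2 lc_a_rc_3_2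 lc_a_rc_4_2 lc_a_rc_21_0 lc_a_rc_1_4 lc_a_rc_3_2 lc_a_rc_5_2 lc_a_rc_4_2 lc_a_rc_3_2 lc_a_rc_3_2 lc_a_rc_3_2 lc_a_rc_2_2 lc_a_rc_21_0 lc_a_rc_4_2 lc_a_rc_4_2 lc_a_rc_4_2 lc_a_rc_2_2 lc_a_Cert_tree lc_a_rc_3_2 lc_a_rc_4_2 lc_a_rc_0_1 lc_a_rc_21_0 lc_a_rc_5_2 lc_a_rc_22_0 lc_a_rc_21_0 lc_a_rc_3_2 lc_a_rc_0_1 lc_a_rc_0_1 lc_a_rc_4_2 lc_a_Cert_tree lc_a_rc_3_2 lc_a_rc_4_2 lc_a_rc_21_0 lc_a_rc_5_2 lc_a_Cert_tree lc_a_rc_3_2 lc_a_rc_4_2) (@D3.rec (fun _ => (Cert rels S Gen.a)) lc_a_rc_5_2 lc_a_rc_3_2 lc_a_rc_4_2 lc_a_rc_2_2 lc_a_rc_5_0 lc_a_rc_0_1 lc_a_rc_3_2 lc_a_rc_4_2 lc_a_rc_4_2 lc_a_rc_22_0 lc_a_rc_2_2 lc_a_rc_0_1 lc_a_rc_0_1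 lc_a_rc_5_2 lc_a_rc_4_2 lc_a_rc_21_0 lc_a_rc_21_0 lc_a_rc_4_2 lc_a_Cert_tree lc_a_rc_0_1 lc_a_rc_21_0 lc_a_rc_4_2 lc_a_rc_4_2 lc_a_rc_0_1 lc_a_rc_5_0 lc_a_rc_4_2 lc_a_rc_5_0 lc_a_rc_0_1 lc_a_rc_2_2 lc_a_rc_4_2 lc_a_rc_21_0 lc_a_rc_3_2 lc_a_rc_4_2 lc_a_rc_5_2 lc_a_rc_21_0 lc_a_rc_5_0 lc_a_rc_0_1 lc_a_rc_3_2 lc_a_rc_21_0 lc_a_rc_2_2 lc_a_rc_3_2 lc_a_rc_22_0 lc_a_rc_22_0 lc_a_rc_0_1 lc_a_rc_0_1 lc_a_rc_3_0 lc_a_rc_3_2 lc_a_rc_4_2 lc_a_rc_21_0 lc_a_rc_3_2 lc_a_rc_2_2 lc_a_rc_21_0 lc_a_rc_2_2 lc_a_rc_3_2 lc_a_rc_3_2 lc_a_rc_5_2 lc_a_rc_3_2 lc_a_rc_0_1 lc_a_rc_2_2 lc_a_rc_1_2 lc_a_rc_0_1 lc_a_rc_3_2) (@D3.rec (fun _ => (Cert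 rels S Gen.a)) lc_a_rc_2_2 lc_a_rc_3_2 lc_a_rc_4_2 lc_a_rc_4_2 lc_a_rc_4_2 lc_a_rc_0_1 lc_a_rc_3_2 lc_a_rc_5_0 lc_a_rc_2_2 lc_a_rc_3_2 lc_a_rc_0_1 lc_a_rc_5_0 lc_a_rc_3_2 lc_a_rc_22_0 lc_a_Cert_tree lc_a_rc_21_0 lc_a_rc_0_1 lc_a_rc_21_0 lc_a_rc_21_0 lc_a_rc_2_2 lc_a_rc_3_2 lc_a_rc_2_2 lc_a_rc_5_0 lc_a_rc_2_2 lc_a_rc_4_2 lc_a_rc_5_0 lc_a_rc_21_0 lc_a_rc_4_2 lc_a_rc_5_0 lc_a_rc_4_0 lc_a_rc_3_2 lc_a_rc_5_2 lc_a_rc_2_2 lc_a_rc_3_2 lc_a_rc_4_2 lc_a_rc_0_1 lc_a_rc_0_1 lc_a_rc_21_0 lc_a_rc_4_2 lc_a_rc_3_2 lc_a_rc_4_0 lc_a_rc_21_0 lc_a_rc_21_0 lc_a_rc_3_2 lc_a_rc_0_1 lc_a_rc_3_2 lc_a_rc_4_2 lc_a_rc_5_2 lc_a_rc_21_0 lc_a_rc_0_1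 lc_a_rc_4_2 lc_a_rc_3_2 lc_a_rc_5_2 lc_a_rc_2_2 lc_a_rc_2_2 lc_a_rc_4_2 lc_a_rc_2_2 lc_a_rc_21_0 lc_a_rc_1_4 lc_a_rc_0_1 lc_a_rc_3_2 lc_a_rc_4_2) (@D3.rec (fun _ => (Cert rels S Gen.a)) lc_a_rc_3_2 lc_a_rc_0_1 lc_a_rc_3_2 lc_a_rc_4_2 lc_a_rc_4_2 lc_a_rc_3_2 lc_a_rc_5_2 lc_a_rc_2_2 lc_a_rc_5_0 lc_a_rc_4_2 lc_a_rc_3_2 lc_a_rc_4_2 lc_a_rc_3_2 lc_a_rc_4_2 lc_a_rc_2_2 lc_a_rc_4_2 lc_a_rc_0_1 lc_a_rc_21_0 lc_a_rc_2_0 lc_a_rc_0_1 lc_a_rc_5_0 lc_a_rc_4_2 lc_a_rc_4_2 lc_a_rc_5_2 lc_a_rc_3_2 lc_a_rc_4_2 lc_a_rc_1_2 lc_a_rc_21_0 lc_a_rc_4_2 lc_a_rc_3_2 lc_a_rc_3_2 lc_a_rc_2_2 lc_a_rc_22_0 lc_a_rc_2_0 lc_a_rc_21_0 lc_a_rc_1_4 lc_a_rc_3_2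 lc_a_rc_4_2 lc_a_rc_4_2 lc_a_rc_2_2 lc_a_rc_0_1 lc_a_rc_2_2 lc_a_rc_21_0 lc_a_rc_3_2 lc_a_rc_2_2 lc_a_rc_4_2 lc_a_rc_4_2 lc_a_rc_21_0 lc_a_rc_4_2 lc_a_rc_3_2 lc_a_rc_5_2 lc_a_rc_2_2 lc_a_rc_21_0 lc_a_rc_4_2 lc_a_rc_21_0 lc_a_rc_0_1 lc_a_rc_1_4 lc_a_rc_0_1 lc_a_rc_4_2 lc_a_rc_21_0 lc_a_rc_4_2 lc_a_rc_0_1) (@D3.rec (fun _ => (Cert rels S Gen.a)) lc_a_rc_3_2 lc_a_rc_5_2 lc_a_rc_1_4 lc_a_rc_21_0 lc_a_rc_4_2 lc_a_rc_21_0 lc_a_rc_4_2 lc_a_rc_3_2 lc_a_rc_4_2 lc_a_rc_2_2 lc_a_rc_3_2 lc_a_rc_21_0 lc_a_rc_21_0 lc_a_rc_2_2 lc_a_rc_3_2 lc_a_rc_5_2 lc_a_rc_1_4 lc_a_rc_3_0 lc_a_rc_3_2 lc_a_rc_4_2 lc_a_rc_3_0 lc_a_rc_3_2 lc_a_rc_4_2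 lc_a_rc_2_2 lc_a_rc_2_2 lc_a_rc_2_2 lc_a_rc_5_2 lc_a_rc_0_1 lc_a_rc_4_2 lc_a_rc_21_0 lc_a_rc_4_2 lc_a_rc_2_2 lc_a_Cert_tree lc_a_rc_22_0 lc_a_rc_22_0 lc_a_rc_4_2 lc_a_rc_2_2 lc_a_rc_4_2 lc_a_rc_21_0 lc_a_rc_0_1 lc_a_rc_3_2 lc_a_rc_4_2 lc_a_rc_22_0 lc_a_rc_0_1 lc_a_rc_3_2 lc_a_rc_4_2 lc_a_rc_0_1 lc_a_rc_4_2 lc_a_rc_3_2 lc_a_rc_0_1 lc_a_rc_22_0 lc_a_rc_4_2 lc_a_rc_3_2 lc_a_rc_2_2 lc_a_rc_4_2 lc_a_rc_3_2 lc_a_rc_3_2 lc_a_rc_4_2 lc_a_rc_1_4 lc_a_Cert_tree lc_a_rc_0_1 lc_a_rc_5_2) (@D3.rec (fun _ => (Cert rels S Gen.a)) lc_a_rc_21_0 lc_a_rc_5_2 lc_a_rc_5_0 lc_a_rc_2_2 lc_a_rc_21_0 lc_a_rc_5_0 lc_a_rc_21_0 lc_a_rc_3_2 lc_a_rc_21_0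 lc_a_rc_5_0 lc_a_rc_3_2 lc_a_rc_0_1 lc_a_rc_22_0 lc_a_Cert_tree lc_a_rc_22_0 lc_a_rc_4_2 lc_a_rc_22_0 lc_a_rc_4_2 lc_a_rc_3_2 lc_a_rc_4_2 lc_a_rc_2_2 lc_a_rc_4_2 lc_a_rc_3_2 lc_a_rc_2_2 lc_a_rc_4_2 lc_a_rc_3_2 lc_a_rc_2_2 lc_a_rc_0_1 lc_a_rc_3_2 lc_a_rc_4_2 lc_a_rc_21_0 lc_a_rc_0_1 lc_a_rc_3_2 lc_a_rc_5_2 lc_a_rc_5_2 lc_a_rc_5_2 lc_a_rc_3_2 lc_a_rc_5_0 lc_a_rc_2_2 lc_a_rc_21_0 lc_a_rc_3_2 lc_a_rc_3_2 lc_a_Cert_tree lc_a_rc_0_1 lc_a_rc_21_0 lc_a_rc_21_0 lc_a_rc_22_0 lc_a_rc_0_1 lc_a_Cert_tree lc_a_rc_3_2 lc_a_rc_4_2 lc_a_rc_3_2 lc_a_rc_2_2 lc_a_rc_4_2 lc_a_rc_3_2 lc_a_rc_1_0 lc_a_rc_2_0 lc_a_rc_2_0 lc_a_rc_5_2 lc_a_rc_21_0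 lc_a_rc_0_1 lc_a_rc_4_2) (@D3.rec (fun _ => (Cert rels S Gen.a)) lc_a_rc_4_2 lc_a_rc_0_1 lc_a_rc_3_2 lc_a_rc_4_2 lc_a_rc_5_0 lc_a_rc_3_2 lc_a_rc_2_0 lc_a_rc_4_2 lc_a_rc_0_1 lc_a_rc_3_2 lc_a_rc_1_4 lc_a_rc_4_2 lc_a_rc_1_4 lc_a_rc_0_1 lc_a_rc_4_2 lc_a_rc_0_1 lc_a_rc_5_2 lc_a_rc_1_4 lc_a_rc_3_2 lc_a_rc_4_2 lc_a_rc_0_1 lc_a_rc_21_0 lc_a_rc_3_2 lc_a_rc_5_2 lc_a_rc_4_2 lc_a_rc_3_2 lc_a_rc_2_2 lc_a_rc_4_2 lc_a_rc_21_0 lc_a_rc_4_2 lc_a_rc_4_2 lc_a_rc_0_1 lc_a_rc_2_2 lc_a_rc_4_2 lc_a_rc_1_4 lc_a_rc_0_1 lc_a_rc_4_2 lc_a_rc_0_1 lc_a_rc_0_1 lc_a_Cert_tree lc_a_rc_3_2 lc_a_rc_4_2 lc_a_rc_5_0 lc_a_rc_3_2 lc_a_rc_2_2 lc_a_rc_3_2 lc_a_rc_3_2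 lc_a_rc_4_2 lc_a_rc_0_1 lc_a_rc_21_0 lc_a_rc_3_2 lc_a_rc_5_2 lc_a_Cert_tree lc_a_rc_2_2 lc_a_rc_3_2 lc_a_rc_1_4 lc_a_Cert_tree lc_a_rc_2_2 lc_a_rc_3_2 lc_a_rc_2_0 lc_a_rc_5_0 lc_a_rc_0_1) (@D3.rec (fun _ => (Cert rels S Gen.a)) lc_a_rc_3_2 lc_a_rc_3_2 lc_a_rc_21_0 lc_a_rc_1_0 lc_a_rc_0_1 lc_a_rc_3_2 lc_a_rc_21_0 lc_a_rc_5_0 lc_a_rc_4_2 lc_a_rc_1_2 lc_a_rc_4_2 lc_a_Cert_tree lc_a_rc_2_2 lc_a_rc_4_2 lc_a_rc_21_0 lc_a_rc_3_2 lc_a_rc_2_2 lc_a_rc_0_1 lc_a_rc_3_2 lc_a_rc_5_2 lc_a_rc_21_0 lc_a_rc_3_2 lc_a_rc_2_2 lc_a_rc_5_2 lc_a_rc_21_0 lc_a_rc_0_1 lc_a_rc_2_2 lc_a_rc_3_2 lc_a_rc_4_2 lc_a_Cert_tree lc_a_rc_3_2 lc_a_rc_5_0 lc_a_rc_4_2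 lc_a_rc_5_0 lc_a_rc_2_2 lc_a_rc_3_2 lc_a_rc_21_0 lc_a_rc_0_1 lc_a_rc_0_1 lc_a_rc_2_2 lc_a_rc_3_2 lc_a_rc_4_2 lc_a_Cert_tree lc_a_rc_0_1 lc_a_rc_0_1 lc_a_rc_5_0 lc_a_rc_2_2 lc_a_rc_21_0 lc_a_Cert_tree lc_a_rc_4_2 lc_a_rc_3_2 lc_a_Cert_tree lc_a_rc_5_0 lc_a_rc_2_2 lc_a_rc_5_0 lc_a_Cert_tree lc_a_rc_0_1 lc_a_rc_22_0 lc_a_rc_2_2 lc_a_rc_3_2 lc_a_rc_3_0 lc_a_rc_2_2) (@D3.rec (fun _ => (Cert rels S Gen.a)) lc_a_rc_4_2 lc_a_Cert_tree lc_a_rc_2_2 lc_a_rc_3_0 lc_a_rc_2_2 lc_a_rc_3_2 lc_a_rc_1_0 lc_a_rc_2_2 lc_a_rc_4_2 lc_a_Cert_tree lc_a_rc_4_2 lc_a_rc_4_2 lc_a_rc_21_0 lc_a_rc_4_0 lc_a_rc_0_1 lc_a_rc_2_2 lc_a_rc_4_2 lc_a_Cert_tree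 lc_a_rc_2_2 lc_a_rc_3_2 lc_a_rc_3_2 lc_a_rc_5_2 lc_a_Cert_tree lc_a_rc_0_1 lc_a_rc_0_1 lc_a_rc_3_2 lc_a_rc_21_0 lc_a_rc_22_0 lc_a_rc_4_2 lc_a_rc_2_2 lc_a_rc_2_2 lc_a_rc_0_1 lc_a_rc_0_1 lc_a_rc_3_2 lc_a_rc_2_2 lc_a_rc_3_0 lc_a_Cert_tree lc_a_rc_4_2 lc_a_rc_4_2 lc_a_rc_5_0 lc_a_rc_3_0 lc_a_rc_3_2 lc_a_rc_2_2 lc_a_rc_4_2 lc_a_Cert_tree lc_a_rc_4_2 lc_a_rc_3_2 lc_a_rc_5_0 lc_a_rc_5_2 lc_a_rc_4_2 lc_a_rc_22_0 lc_a_rc_3_0 lc_a_rc_2_2 lc_a_rc_4_2 lc_a_rc_2_2 lc_a_rc_2_2 lc_a_rc_4_2 lc_a_rc_3_2 lc_a_rc_2_2 lc_a_rc_4_2 lc_a_rc_0_1 lc_a_rc_0_1) (@D3.rec (fun _ => (Cert rels S Gen.a)) lc_a_rc_4_2 lc_a_rc_21_0 lc_a_rc_3_2 lc_a_rc_2_0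 lc_a_rc_21_0 lc_a_rc_0_1 lc_a_rc_2_2 lc_a_rc_5_2 lc_a_rc_21_0 lc_a_rc_5_0 lc_a_rc_2_2 lc_a_rc_2_2 lc_a_rc_3_2 lc_a_rc_2_2 lc_a_rc_4_2 lc_a_rc_21_0 lc_a_rc_4_2 lc_a_rc_21_0 lc_a_rc_4_2 lc_a_rc_3_2 lc_a_rc_4_2 lc_a_rc_0_1 lc_a_Cert_tree lc_a_rc_4_2 lc_a_rc_0_1 lc_a_rc_4_2 lc_a_Cert_tree lc_a_rc_3_2 lc_a_rc_2_2 lc_a_rc_1_0 lc_a_rc_4_2 lc_a_rc_3_2 lc_a_rc_4_2 lc_a_rc_4_2 lc_a_rc_22_0 lc_a_rc_3_2 lc_a_rc_4_2 lc_a_rc_3_2 lc_a_rc_0_1 lc_a_rc_2_2 lc_a_rc_2_2 lc_a_rc_22_0 lc_a_rc_2_0 lc_a_Cert_tree lc_a_rc_0_1 lc_a_Cert_tree lc_a_Cert_tree lc_a_rc_4_2 lc_a_rc_2_0 lc_a_rc_3_0 lc_a_rc_3_0 lc_a_rc_4_2 lc_a_rc_3_0 lc_a_rc_2_2 lc_a_rc_3_2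 lc_a_rc_21_0 lc_a_rc_2_2 lc_a_rc_3_2 lc_a_rc_3_0 lc_a_rc_2_2 lc_a_rc_3_2 lc_a_rc_21_0) (@D3.rec (fun _ => (Cert rels S Gen.a)) lc_a_rc_2_2 lc_a_Cert_tree lc_a_rc_2_2 lc_a_rc_0_1 lc_a_Cert_tree lc_a_rc_2_2 lc_a_rc_1_4 lc_a_rc_0_1 lc_a_rc_2_2 lc_a_rc_3_2 lc_a_Cert_tree lc_a_rc_3_2 lc_a_rc_5_0 lc_a_rc_4_2 lc_a_rc_2_2 lc_a_rc_0_1 lc_a_rc_0_1 lc_a_rc_2_2 lc_a_rc_3_2 lc_a_rc_4_2 lc_a_Cert_tree lc_a_rc_5_0 lc_a_rc_4_2 lc_a_rc_5_0 lc_a_rc_2_2 lc_a_Cert_tree lc_a_rc_5_0 lc_a_rc_0_1 lc_a_rc_5_0 lc_a_Cert_tree lc_a_rc_2_2 lc_a_rc_4_2 lc_a_rc_21_0 lc_a_rc_4_2 lc_a_Cert_tree lc_a_rc_3_2 lc_a_rc_5_2 lc_a_rc_22_0 lc_a_rc_2_2 lc_a_rc_3_2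 lc_a_rc_21_0 lc_a_rc_3_2 lc_a_rc_2_2 lc_a_rc_4_2 lc_a_Cert_tree lc_a_rc_2_2 lc_a_rc_21_0 lc_a_rc_2_2 lc_a_rc_22_0 lc_a_rc_3_2 lc_a_rc_3_2 lc_a_rc_5_0 lc_a_rc_2_2 lc_a_Cert_tree lc_a_rc_21_0 lc_a_rc_0_1 lc_a_rc_0_1 lc_a_rc_22_0 lc_a_rc_2_2 lc_a_rc_5_0 lc_a_rc_21_0 lc_a_rc_3_2) (@D3.rec (fun _ => (Cert rels S Gen.a)) lc_a_rc_1_4 lc_a_rc_4_2 lc_a_rc_3_2 lc_a_rc_0_1 lc_a_rc_4_2 lc_a_Cert_tree lc_a_rc_4_2 lc_a_rc_2_0 lc_a_rc_3_0 lc_a_rc_21_0 lc_a_rc_4_2 lc_a_rc_0_1 lc_a_rc_21_0 lc_a_rc_5_2 lc_a_rc_0_1 lc_a_rc_0_1 lc_a_rc_4_2 lc_a_Cert_tree lc_a_rc_0_1 lc_a_rc_4_2 lc_a_rc_21_0 lc_a_rc_0_1 lc_a_rc_3_2 lc_a_rc_5_2 lc_a_Cert_tree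 lc_a_rc_3_2 lc_a_rc_4_2 lc_a_rc_21_0 lc_a_rc_3_2 lc_a_rc_4_2 lc_a_rc_0_1 lc_a_Cert_tree lc_a_rc_2_2 lc_a_rc_1_4 lc_a_rc_4_2 lc_a_rc_2_2 lc_a_rc_4_2 lc_a_rc_3_2 lc_a_rc_4_2 lc_a_rc_5_0 lc_a_rc_0_1 lc_a_rc_5_2 lc_a_rc_4_0 lc_a_rc_4_2 lc_a_rc_3_2 lc_a_rc_2_2 lc_a_rc_2_2 lc_a_rc_4_2 lc_a_rc_2_0 lc_a_rc_4_2 lc_a_rc_0_1 lc_a_rc_5_0 lc_a_rc_5_2 lc_a_rc_3_2 lc_a_rc_21_0 lc_a_rc_5_0 lc_a_rc_0_1 lc_a_rc_0_1 lc_a_rc_2_2 lc_a_rc_3_2 lc_a_rc_4_2 lc_a_Cert_tree) (@D3.rec (fun _ => (Cert rels S Gen.a)) lc_a_rc_4_2 lc_a_rc_0_1 lc_a_rc_21_0 lc_a_rc_2_2 lc_a_rc_4_2 lc_a_rc_2_2 lc_a_rc_21_0 lc_a_rc_0_1 lc_a_rc_0_1 lc_a_rc_2_2 lc_a_rc_3_2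 lc_a_rc_4_2 lc_a_Cert_tree lc_a_rc_2_0 lc_a_rc_4_2 lc_a_rc_0_1 lc_a_rc_3_2 lc_a_rc_4_0 lc_a_rc_3_2 lc_a_rc_4_2 lc_a_rc_4_2 lc_a_Cert_tree lc_a_rc_5_0 lc_a_rc_3_0 lc_a_rc_21_0 lc_a_rc_4_2 lc_a_Cert_tree lc_a_rc_3_2 lc_a_rc_4_2 lc_a_rc_0_1 lc_a_rc_2_0 lc_a_rc_3_2 lc_a_rc_3_2 lc_a_rc_0_1 lc_a_rc_2_2 lc_a_Cert_tree lc_a_rc_3_2 lc_a_rc_2_2 lc_a_rc_0_1 lc_a_rc_4_2 lc_a_rc_5_2 lc_a_rc_3_2 lc_a_rc_2_2 lc_a_rc_21_0 lc_a_rc_4_2 lc_a_rc_22_0 lc_a_rc_2_2 lc_a_rc_2_2 lc_a_rc_1_4 lc_a_rc_4_2 lc_a_rc_4_2 lc_a_rc_5_0 lc_a_rc_4_2 lc_a_rc_2_2 lc_a_rc_2_2 lc_a_Cert_tree lc_a_rc_3_2 lc_a_rc_4_2 lc_a_rc_0_1 lc_a_rc_0_1 lc_a_Cert_tree lc_a_rc_2_2)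 (@D3.rec (fun _ => (Cert rels S Gen.a)) lc_a_rc_2_2 lc_a_rc_3_2 lc_a_rc_4_2 lc_a_rc_5_2 lc_a_Cert_tree lc_a_rc_21_0 lc_a_rc_4_2 lc_a_Cert_tree lc_a_rc_3_2 lc_a_rc_4_2 lc_a_rc_3_2 lc_a_rc_3_2 lc_a_rc_4_2 lc_a_rc_2_0 lc_a_Cert_tree lc_a_rc_3_2 lc_a_rc_5_2 lc_a_Cert_tree lc_a_rc_2_2 lc_a_rc_3_2 lc_a_rc_3_2 lc_a_rc_5_2 lc_a_rc_5_0 lc_a_rc_0_1 lc_a_rc_2_2 lc_a_rc_21_0 lc_a_rc_3_2 lc_a_rc_4_2 lc_a_rc_0_1 lc_a_rc_21_0 lc_a_rc_2_2 lc_a_rc_4_2 lc_a_rc_4_2 lc_a_rc_4_2 lc_a_rc_4_2 lc_a_rc_4_2 lc_a_rc_2_0 lc_a_rc_2_0 lc_a_rc_4_2 lc_a_rc_2_2 lc_a_rc_2_2 lc_a_rc_3_2 lc_a_rc_1_4 lc_a_rc_2_2 lc_a_rc_4_2 lc_a_rc_3_2 lc_a_rc_3_2 lc_a_rc_3_0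 lc_a_rc_2_2 lc_a_rc_1_4 lc_a_rc_3_2 lc_a_rc_2_2 lc_a_rc_2_2 lc_a_rc_4_2 lc_a_rc_0_1 lc_a_rc_3_2 lc_a_rc_5_2 lc_a_rc_5_2 lc_a_rc_2_2 lc_a_rc_1_4 lc_a_rc_5_2 lc_a_rc_4_2) (@D3.rec (fun _ => (Cert rels S Gen.a)) lc_a_rc_1_4 lc_a_rc_4_2 lc_a_rc_4_2 lc_a_rc_5_2 lc_a_rc_4_2 lc_a_rc_0_1 lc_a_rc_3_2 lc_a_rc_1_4 lc_a_rc_4_2 lc_a_rc_5_0 lc_a_rc_0_1 lc_a_rc_4_2 lc_a_rc_5_2 lc_a_rc_2_2 lc_a_rc_2_2 lc_a_rc_5_0 lc_a_Cert_tree lc_a_rc_21_0 lc_a_rc_5_0 lc_a_rc_3_2 lc_a_rc_3_2 lc_a_rc_4_2 lc_a_rc_4_2 lc_a_Cert_tree lc_a_rc_4_2 lc_a_rc_5_0 lc_a_rc_5_2 lc_a_Cert_tree lc_a_rc_21_0 lc_a_rc_4_2 lc_a_Cert_tree lc_a_rc_2_2 lc_a_rc_2_2 lc_a_rc_22_0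 lc_a_rc_0_1 lc_a_rc_4_2 lc_a_rc_3_2 lc_a_rc_2_2 lc_a_rc_4_2 lc_a_rc_3_2 lc_a_rc_21_0 lc_a_rc_3_2 lc_a_rc_2_2 lc_a_Cert_tree lc_a_rc_4_2 lc_a_rc_4_2 lc_a_Cert_tree lc_a_rc_3_2 lc_a_Cert_tree lc_a_rc_4_2 lc_a_rc_21_0 lc_a_rc_0_1 lc_a_rc_0_1 lc_a_rc_1_2 lc_a_rc_4_2 lc_a_rc_4_2 lc_a_rc_2_0 lc_a_rc_5_0 lc_a_rc_4_2 lc_a_Cert_tree lc_a_rc_21_0 lc_a_rc_4_2) (@D3.rec (fun _ => (Cert rels S Gen.a)) lc_a_Cert_tree lc_a_rc_4_0 lc_a_rc_5_2 lc_a_rc_2_2 lc_a_rc_1_4 lc_a_rc_3_2 lc_a_rc_4_2 lc_a_rc_3_2 lc_a_rc_4_0 lc_a_rc_4_2 lc_a_rc_1_2 lc_a_rc_2_2 lc_a_rc_4_2 lc_a_rc_0_1 lc_a_rc_21_0 lc_a_rc_0_1 lc_a_rc_3_2 lc_a_rc_4_2 lc_a_rc_4_2 lc_a_rc_21_0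 lc_a_rc_0_1 lc_a_rc_3_2 lc_a_rc_5_2 lc_a_rc_21_0 lc_a_rc_5_0 lc_a_rc_4_2 lc_a_rc_4_2 lc_a_rc_2_2 lc_a_rc_2_2 lc_a_rc_4_2 lc_a_rc_0_1 lc_a_Cert_tree lc_a_rc_3_2 lc_a_rc_4_2 lc_a_rc_21_0 lc_a_rc_0_1 lc_a_rc_3_2 lc_a_rc_5_2 lc_a_Cert_tree lc_a_rc_4_2 lc_a_Cert_tree lc_a_rc_2_2 lc_a_rc_0_1 lc_a_rc_0_1 lc_a_rc_21_0 lc_a_rc_4_2 lc_a_rc_3_2 lc_a_rc_21_0 lc_a_rc_4_2 lc_a_rc_0_1 lc_a_rc_21_0 lc_a_rc_3_2 lc_a_rc_5_2 lc_a_rc_21_0 lc_a_rc_3_2 lc_a_rc_4_2 lc_a_rc_2_2 lc_a_rc_3_2 lc_a_rc_2_2 lc_a_rc_0_1 lc_a_rc_2_2 lc_a_rc_4_0) (@D3.rec (fun _ => (Cert rels S Gen.a)) lc_a_rc_2_2 lc_a_rc_4_2 lc_a_Cert_tree lc_a_rc_3_2 lc_a_rc_4_2 lc_a_rc_2_2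 lc_a_rc_2_0 lc_a_rc_2_2 lc_a_rc_2_2 lc_a_rc_2_2 lc_a_rc_0_1 lc_a_rc_3_2 lc_a_rc_4_2 lc_a_rc_4_2 lc_a_rc_2_0 lc_a_rc_0_1 lc_a_rc_3_2 lc_a_rc_5_2 lc_a_rc_21_0 lc_a_rc_3_2 lc_a_rc_2_2 lc_a_rc_4_2 lc_a_Cert_tree lc_a_rc_0_1 lc_a_rc_3_2 lc_a_rc_2_2 lc_a_rc_3_2 lc_a_rc_3_2 lc_a_rc_3_2 lc_a_rc_0_1 lc_a_rc_3_2 lc_a_rc_1_2 lc_a_rc_4_2 lc_a_rc_4_2 lc_a_rc_3_2 lc_a_rc_5_2 lc_a_rc_0_1 lc_a_rc_4_2 lc_a_rc_4_2 lc_a_rc_22_0 lc_a_rc_2_2 lc_a_Cert_tree lc_a_rc_2_2 lc_a_rc_1_4 lc_a_rc_4_2 lc_a_rc_2_2 lc_a_rc_1_2 lc_a_rc_4_2 lc_a_rc_3_2 lc_a_rc_4_2 lc_a_rc_5_0 lc_a_rc_3_2 lc_a_rc_3_0 lc_a_rc_4_2 lc_a_rc_2_2 lc_a_rc_21_0 lc_a_rc_3_2 lc_a_rc_5_2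 lc_a_rc_1_2 lc_a_rc_4_2 lc_a_rc_4_2 lc_a_rc_3_2) (@D3.rec (fun _ => (Cert rels S Gen.a)) lc_a_rc_4_2 lc_a_rc_4_0 lc_a_rc_1_2 lc_a_rc_3_2 lc_a_rc_5_2 lc_a_rc_4_2 lc_a_Cert_tree lc_a_rc_0_1 lc_a_rc_3_2 lc_a_rc_2_2 lc_a_Cert_tree lc_a_rc_3_2 lc_a_rc_3_2 lc_a_rc_4_2 lc_a_rc_5_0 lc_a_rc_0_1 lc_a_rc_2_2 lc_a_rc_5_2 lc_a_rc_5_2 lc_a_rc_2_0 lc_a_rc_2_0 lc_a_rc_3_2 lc_a_rc_2_2 lc_a_rc_21_0 lc_a_Cert_tree lc_a_rc_3_2 lc_a_rc_4_0 lc_a_rc_0_1 lc_a_rc_2_2 lc_a_rc_3_2 lc_a_rc_5_0 lc_a_rc_0_1 lc_a_rc_2_2 lc_a_rc_3_2 lc_a_rc_4_2 lc_a_Cert_tree lc_a_rc_3_2 lc_a_rc_5_2 lc_a_rc_4_2 lc_a_rc_0_1 lc_a_rc_3_2 lc_a_rc_5_2 lc_a_rc_21_0 lc_a_rc_1_4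 lc_a_rc_2_2 lc_a_rc_3_2 lc_a_rc_5_0 lc_a_rc_3_2 lc_a_rc_4_2 lc_a_rc_3_2 lc_a_rc_2_2 lc_a_rc_2_2 lc_a_rc_2_2 lc_a_rc_2_0 lc_a_rc_0_1 lc_a_Cert_tree lc_a_rc_3_2 lc_a_rc_1_2 lc_a_rc_4_2 lc_a_rc_4_2 lc_a_rc_5_0 lc_a_rc_3_2) (@D3.rec (fun _ => (Cert rels S Gen.a)) lc_a_rc_5_2 lc_a_Cert_tree lc_a_rc_2_2 lc_a_Cert_tree lc_a_rc_2_2 lc_a_rc_2_2 lc_a_rc_21_0 lc_a_rc_4_2 lc_a_rc_0_1 lc_a_rc_5_0 lc_a_rc_3_2 lc_a_rc_5_2 lc_a_rc_2_2 lc_a_rc_4_2 lc_a_rc_3_2 lc_a_rc_5_0 lc_a_rc_0_1 lc_a_rc_5_2 lc_a_rc_3_2 lc_a_rc_21_0 lc_a_rc_0_1 lc_a_rc_2_2 lc_a_rc_4_0 lc_a_rc_2_2 lc_a_rc_5_0 lc_a_rc_4_2 lc_a_rc_5_0 lc_a_rc_5_0 lc_a_rc_4_2 lc_a_rc_2_2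 lc_a_rc_4_2 lc_a_rc_3_2 lc_a_rc_3_2 lc_a_rc_21_0 lc_a_rc_4_2 lc_a_rc_4_2 lc_a_rc_4_2 lc_a_rc_5_0 lc_a_Cert_tree lc_a_rc_3_2 lc_a_rc_5_2 lc_a_rc_4_2 lc_a_rc_1_4 lc_a_rc_3_2 lc_a_rc_4_2 lc_a_rc_3_2 lc_a_rc_1_4 lc_a_rc_4_2 lc_a_rc_4_2 lc_a_rc_0_1 lc_a_rc_4_2 lc_a_rc_4_0 lc_a_rc_0_1 lc_a_rc_3_2 lc_a_rc_2_2 lc_a_rc_2_2 lc_a_rc_4_2 lc_a_rc_0_1 lc_a_rc_4_0 lc_a_rc_2_2 lc_a_rc_3_2 lc_a_rc_21_0) (@D3.rec (fun _ => (Cert rels S Gen.a)) lc_a_rc_0_1 lc_a_rc_5_0 lc_a_rc_2_2 lc_a_rc_3_2 lc_a_rc_2_2 lc_a_rc_0_1 lc_a_rc_21_0 lc_a_Cert_tree lc_a_rc_3_2 lc_a_rc_2_2 lc_a_rc_2_2 lc_a_Cert_tree lc_a_rc_3_2 lc_a_rc_5_2 lc_a_rc_4_2 lc_a_rc_1_0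 lc_a_rc_3_2 lc_a_rc_4_2 lc_a_rc_2_2 lc_a_rc_1_0 lc_a_rc_21_0 lc_a_rc_4_2 lc_a_rc_0_1 lc_a_rc_5_2 lc_a_rc_3_2 lc_a_rc_2_2 lc_a_rc_4_2 lc_a_rc_5_0 lc_a_rc_3_2 lc_a_rc_5_2 lc_a_rc_4_2 lc_a_rc_5_0 lc_a_rc_5_2 lc_a_Cert_tree lc_a_rc_2_2 lc_a_rc_1_4 lc_a_rc_3_2 lc_a_rc_5_0 lc_a_rc_0_1 lc_a_rc_0_1 lc_a_rc_0_1 lc_a_rc_2_2 lc_a_rc_21_0 lc_a_rc_0_1 lc_a_rc_2_2 lc_a_rc_3_2 lc_a_rc_4_2 lc_a_rc_3_2 lc_a_rc_3_2 lc_a_rc_5_0 lc_a_rc_4_2 lc_a_rc_3_2 lc_a_rc_22_0 lc_a_rc_5_2 lc_a_rc_0_1 lc_a_rc_2_2 lc_a_rc_3_2 lc_a_rc_4_2 lc_a_rc_2_2 lc_a_rc_4_2 lc_a_rc_4_2 lc_a_rc_21_0) (@D3.rec (fun _ => (Cert rels S Gen.a)) lc_a_rc_21_0 lc_a_rc_3_2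 lc_a_rc_5_0 lc_a_rc_4_2 lc_a_Cert_tree lc_a_rc_2_2 lc_a_rc_4_2 lc_a_rc_0_1 lc_a_rc_21_0 lc_a_Cert_tree lc_a_rc_3_2 lc_a_rc_22_0 lc_a_rc_4_2 lc_a_rc_5_2 lc_a_rc_2_2 lc_a_rc_3_2 lc_a_rc_3_0 lc_a_rc_4_2 lc_a_rc_5_2 lc_a_Cert_tree lc_a_rc_3_2 lc_a_rc_0_1 lc_a_rc_0_1 lc_a_Cert_tree lc_a_rc_5_2 lc_a_rc_0_1 lc_a_rc_4_2 lc_a_rc_2_2 lc_a_rc_5_0 lc_a_rc_2_2 lc_a_rc_4_2 lc_a_rc_22_0 lc_a_rc_3_2 lc_a_rc_4_0 lc_a_rc_2_2 lc_a_rc_2_2 lc_a_Cert_tree lc_a_rc_3_2 lc_a_rc_5_2 lc_a_rc_2_2 lc_a_rc_2_2 lc_a_rc_4_2 lc_a_rc_21_0 lc_a_Cert_tree lc_a_rc_3_2 lc_a_rc_4_2 lc_a_rc_2_2 lc_a_rc_1_0 lc_a_rc_5_2 lc_a_rc_0_1 lc_a_rc_1_4 lc_a_rc_4_2 lc_a_rc_2_2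 lc_a_rc_4_2 lc_a_rc_3_2 lc_a_rc_5_2 lc_a_Cert_tree lc_a_rc_3_2 lc_a_rc_5_2 lc_a_rc_2_2 lc_a_rc_3_2 lc_a_rc_5_0) (@D3.rec (fun _ => (Cert rels S Gen.a)) lc_a_rc_21_0 lc_a_rc_5_0 lc_a_rc_4_2 lc_a_rc_2_2 lc_a_rc_21_0 lc_a_rc_5_0 lc_a_rc_21_0 lc_a_rc_0_1 lc_a_rc_4_2 lc_a_rc_0_1 lc_a_rc_2_2 lc_a_Cert_tree lc_a_rc_3_2 lc_a_rc_5_0 lc_a_rc_3_2 lc_a_rc_2_2 lc_a_Cert_tree lc_a_rc_3_2 lc_a_rc_2_2 lc_a_rc_4_2 lc_a_Cert_tree lc_a_rc_4_2 lc_a_rc_5_0 lc_a_rc_2_2 lc_a_rc_4_2 lc_a_Cert_tree lc_a_rc_4_2 lc_a_rc_21_0 lc_a_rc_0_1 lc_a_rc_4_0 lc_a_Cert_tree lc_a_rc_4_2 lc_a_rc_21_0 lc_a_rc_1_4 lc_a_rc_0_1 lc_a_rc_4_2 lc_a_rc_22_0 lc_a_rc_4_2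 lc_a_rc_2_2 lc_a_rc_4_2 lc_a_rc_2_0 lc_a_rc_4_2 lc_a_rc_0_1 lc_a_rc_3_0 lc_a_rc_5_2 lc_a_rc_21_0 lc_a_rc_3_2 lc_a_rc_1_4 lc_a_rc_2_2 lc_a_Cert_tree lc_a_rc_21_0 lc_a_rc_21_0 lc_a_rc_2_2 lc_a_rc_4_2 lc_a_rc_21_0 lc_a_rc_4_2 lc_a_rc_0_1 lc_a_rc_21_0 lc_a_rc_2_2 lc_a_rc_1_2 lc_a_rc_3_2 lc_a_rc_2_2) (@D3.rec (fun _ => (Cert rels S Gen.a)) lc_a_rc_1_4 lc_a_rc_2_2 lc_a_rc_4_2 lc_a_rc_22_0 lc_a_rc_4_2 lc_a_rc_2_2 lc_a_Cert_tree lc_a_rc_4_2 lc_a_rc_21_0 lc_a_rc_0_1 lc_a_rc_5_2 lc_a_rc_4_2 lc_a_rc_2_2 lc_a_rc_2_2 lc_a_rc_1_0 lc_a_rc_4_2 lc_a_rc_1_0 lc_a_rc_3_2 lc_a_rc_21_0 lc_a_rc_0_1 lc_a_rc_22_0 lc_a_rc_4_2 lc_a_rc_2_2 lc_a_rc_2_2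 lc_a_rc_4_2 lc_a_rc_0_1 lc_a_rc_3_2 lc_a_rc_21_0 lc_a_Cert_tree lc_a_rc_3_2 lc_a_rc_4_2 lc_a_rc_21_0 lc_a_rc_3_2 lc_a_rc_2_2 lc_a_rc_0_1 lc_a_rc_21_0 lc_a_rc_0_1 lc_a_rc_3_2 lc_a_rc_4_2 lc_a_rc_3_2 lc_a_rc_2_2 lc_a_rc_4_2 lc_a_rc_22_0 lc_a_rc_21_0 lc_a_rc_2_0 lc_a_rc_5_2 lc_a_rc_0_1 lc_a_rc_21_0 lc_a_rc_2_2 lc_a_rc_0_1 lc_a_rc_3_2 lc_a_Cert_tree lc_a_rc_2_2 lc_a_rc_3_2 lc_a_rc_5_0 lc_a_rc_4_2 lc_a_rc_0_1 lc_a_rc_4_0 lc_a_rc_3_2 lc_a_rc_21_0 lc_a_rc_21_0 lc_a_rc_4_2) (@D3.rec (fun _ => (Cert rels S Gen.a)) lc_a_rc_1_2 lc_a_rc_3_2 lc_a_rc_4_2 lc_a_rc_4_2 lc_a_rc_21_0 lc_a_rc_2_2 lc_a_rc_3_2 lc_a_rc_5_2 lc_a_rc_0_1 lc_a_rc_2_2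 lc_a_rc_5_0 lc_a_rc_0_1 lc_a_rc_2_2 lc_a_rc_0_1 lc_a_rc_0_1 lc_a_rc_21_0 lc_a_rc_5_0 lc_a_rc_3_2 lc_a_rc_0_1 lc_a_rc_4_2 lc_a_rc_4_2 lc_a_rc_3_2 lc_a_rc_2_2 lc_a_rc_3_2 lc_a_rc_0_1 lc_a_rc_3_2 lc_a_rc_2_2 lc_a_rc_1_4 lc_a_rc_3_2 lc_a_rc_4_2 lc_a_rc_21_0 lc_a_rc_1_4 lc_a_rc_5_2 lc_a_rc_21_0 lc_a_Cert_tree lc_a_rc_2_2 lc_a_rc_4_2 lc_a_rc_4_2 lc_a_rc_5_0 lc_a_rc_3_2 lc_a_rc_4_2 lc_a_rc_1_2 lc_a_rc_2_2 lc_a_rc_2_2 lc_a_rc_4_2 lc_a_rc_2_0 lc_a_rc_2_2 lc_a_rc_3_2 lc_a_rc_5_2 lc_a_rc_0_1 lc_a_rc_2_2 lc_a_rc_0_1 lc_a_rc_4_2 lc_a_rc_0_1 lc_a_rc_21_0 lc_a_rc_1_2 lc_a_rc_4_2 lc_a_rc_21_0 lc_a_rc_3_2 lc_a_rc_4_2 lc_a_rc_21_0 lc_a_rc_21_0)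 (@D3.rec (fun _ => (Cert rels S Gen.a)) lc_a_rc_4_2 lc_a_rc_21_0 lc_a_rc_21_0 lc_a_rc_21_0 lc_a_rc_2_2 lc_a_rc_4_2 lc_a_rc_4_0 lc_a_rc_0_1 lc_a_rc_3_2 lc_a_rc_2_2 lc_a_rc_0_1 lc_a_rc_2_2 lc_a_rc_2_2 lc_a_rc_3_2 lc_a_rc_4_2 lc_a_rc_4_2 lc_a_rc_3_2 lc_a_rc_2_2 lc_a_rc_2_2 lc_a_rc_2_2 lc_a_rc_2_0 lc_a_rc_2_0 lc_a_rc_3_2 lc_a_rc_2_2 lc_a_rc_4_2 lc_a_rc_4_2 lc_a_rc_5_0 lc_a_rc_3_2 lc_a_rc_5_2 lc_a_rc_2_2 lc_a_rc_3_2 lc_a_rc_2_2 lc_a_rc_4_2 lc_a_rc_21_0 lc_a_rc_1_2 lc_a_rc_3_2 lc_a_rc_4_2 lc_a_rc_21_0 lc_a_rc_4_2 lc_a_rc_3_2 lc_a_rc_2_0 lc_a_rc_0_1 lc_a_rc_21_0 lc_a_rc_4_2 lc_a_rc_3_2 lc_a_rc_21_0 lc_a_rc_4_2 lc_a_rc_5_0 lc_a_rc_2_2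 lc_a_rc_3_2 lc_a_rc_2_2 lc_a_rc_21_0 lc_a_rc_4_2 lc_a_rc_3_2 lc_a_rc_4_2 lc_a_rc_4_2 lc_a_rc_4_2 lc_a_Cert_tree lc_a_rc_0_1 lc_a_rc_4_2 lc_a_rc_0_1 lc_a_rc_22_0) (@D3.rec (fun _ => (Cert rels S Gen.a)) lc_a_Cert_tree lc_a_rc_4_2 lc_a_rc_1_0 lc_a_rc_0_1 lc_a_rc_3_2 lc_a_rc_4_2 lc_a_rc_4_2 lc_a_rc_21_0 lc_a_rc_2_2 lc_a_rc_3_2 lc_a_rc_4_2 lc_a_rc_2_2 lc_a_rc_3_2 lc_a_rc_4_2 lc_a_rc_21_0 lc_a_rc_3_2 lc_a_rc_5_2 lc_a_rc_4_2 lc_a_rc_21_0 lc_a_rc_21_0 lc_a_rc_2_2 lc_a_rc_5_0 lc_a_Cert_tree lc_a_rc_5_2 lc_a_rc_5_0 lc_a_rc_2_2 lc_a_rc_4_2 lc_a_rc_3_2 lc_a_rc_3_0 lc_a_rc_0_1 lc_a_rc_4_2 lc_a_rc_21_0 lc_a_rc_4_2 lc_a_rc_2_2 lc_a_rc_5_0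 lc_a_rc_3_2 lc_a_rc_1_4 lc_a_rc_2_2 lc_a_rc_3_2 lc_a_rc_4_2 lc_a_Cert_tree lc_a_rc_2_2 lc_a_rc_4_2 lc_a_rc_21_0 lc_a_rc_0_1 lc_a_rc_3_2 lc_a_rc_5_2 lc_a_rc_5_2 lc_a_rc_0_1 lc_a_rc_1_2 lc_a_rc_4_2 lc_a_rc_4_2 lc_a_rc_5_0 lc_a_rc_4_2 lc_a_rc_3_2 lc_a_rc_2_2 lc_a_rc_4_2 lc_a_rc_3_2 lc_a_rc_0_1 lc_a_rc_4_2 lc_a_rc_21_0 lc_a_rc_3_2) (@D3.rec (fun _ => (Cert rels S Gen.a)) lc_a_rc_3_2 lc_a_rc_0_1 lc_a_rc_0_1 lc_a_rc_1_2 lc_a_rc_4_2 lc_a_rc_0_1 lc_a_rc_4_2 lc_a_rc_3_2 lc_a_rc_0_1 lc_a_rc_21_0 lc_a_rc_0_1 lc_a_rc_0_1 lc_a_rc_4_2 lc_a_rc_4_2 lc_a_rc_3_2 lc_a_rc_21_0 lc_a_rc_1_2 lc_a_rc_4_2 lc_a_rc_4_2 lc_a_Cert_tree lc_a_rc_4_2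 lc_a_rc_3_2 lc_a_Cert_tree lc_a_rc_3_2 lc_a_rc_4_2 lc_a_Cert_tree lc_a_rc_3_2 lc_a_rc_5_0 lc_a_rc_3_2 lc_a_rc_3_2 lc_a_rc_2_2 lc_a_rc_5_2 lc_a_rc_3_0 lc_a_rc_2_2 lc_a_rc_0_1 lc_a_rc_2_2 lc_a_Cert_tree lc_a_rc_3_2 lc_a_rc_4_2 lc_a_rc_3_2 lc_a_rc_2_2 lc_a_rc_1_2 lc_a_rc_3_0 lc_a_rc_0_1 lc_a_rc_2_2 lc_a_rc_3_2 lc_a_rc_4_2 lc_a_Cert_tree lc_a_rc_21_0 lc_a_rc_2_2 lc_a_rc_21_0 lc_a_rc_3_2 lc_a_rc_5_2 lc_a_rc_5_2 lc_a_rc_5_2 lc_a_rc_2_0 lc_a_rc_2_2 lc_a_Cert_tree lc_a_rc_3_2 lc_a_rc_0_1 lc_a_rc_2_2 lc_a_rc_3_2) (@D3.rec (fun _ => (Cert rels S Gen.a)) lc_a_rc_4_2 lc_a_rc_21_0 lc_a_rc_3_2 lc_a_rc_4_2 lc_a_rc_22_0 lc_a_rc_2_2 lc_a_rc_4_2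 lc_a_rc_5_2 lc_a_rc_2_2 lc_a_rc_4_2 lc_a_rc_4_2 lc_a_rc_3_2 lc_a_rc_4_2 lc_a_rc_3_0 lc_a_rc_0_1 lc_a_rc_1_4 lc_a_rc_4_2 lc_a_rc_4_2 lc_a_rc_0_1 lc_a_rc_5_2 lc_a_rc_2_2 lc_a_rc_3_2 lc_a_rc_3_2 lc_a_rc_2_2 lc_a_rc_4_2 lc_a_rc_3_2 lc_a_rc_5_2 lc_a_rc_4_2 lc_a_rc_3_2 lc_a_rc_21_0 lc_a_rc_0_1 lc_a_rc_0_1 lc_a_rc_4_2 lc_a_rc_21_0 lc_a_rc_0_1 lc_a_rc_4_2 lc_a_rc_21_0 lc_a_rc_3_2 lc_a_rc_21_0 lc_a_rc_4_0 lc_a_rc_0_1 lc_a_rc_4_2 lc_a_rc_5_2 lc_a_rc_4_2 lc_a_rc_4_0 lc_a_rc_3_2 lc_a_rc_22_0 lc_a_rc_21_0 lc_a_rc_2_2 lc_a_Cert_tree lc_a_rc_3_2 lc_a_rc_2_2 lc_a_rc_3_2 lc_a_rc_21_0 lc_a_rc_2_2 lc_a_rc_2_2 lc_a_rc_4_2 lc_a_rc_21_0 lc_a_rc_2_2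 lc_a_rc_2_0 lc_a_Cert_tree lc_a_rc_2_2) (@D3.rec (fun _ => (Cert rels S Gen.a)) lc_a_rc_21_0 lc_a_rc_1_4 lc_a_rc_0_1 lc_a_rc_1_2 lc_a_rc_4_2 lc_a_rc_4_2 lc_a_rc_2_2 lc_a_rc_21_0 lc_a_rc_3_2 lc_a_rc_5_2 lc_a_rc_0_1 lc_a_rc_2_2 lc_a_rc_1_4 lc_a_rc_4_2 lc_a_rc_3_2 lc_a_rc_2_2 lc_a_rc_1_4 lc_a_rc_4_2 lc_a_rc_2_2 lc_a_Cert_tree lc_a_Cert_tree lc_a_rc_4_2 lc_a_rc_2_2 lc_a_rc_4_2 lc_a_rc_4_2 lc_a_rc_21_0 lc_a_rc_3_2 lc_a_rc_4_2 lc_a_rc_4_2 lc_a_rc_3_2 lc_a_rc_4_2 lc_a_Cert_tree lc_a_rc_22_0 lc_a_rc_4_2 lc_a_rc_21_0 lc_a_rc_2_2 lc_a_rc_5_2 lc_a_rc_2_0 lc_a_rc_21_0 lc_a_rc_0_1 lc_a_rc_1_2 lc_a_rc_4_2 lc_a_rc_4_2 lc_a_rc_5_0 lc_a_rc_2_2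 lc_a_rc_3_2 lc_a_rc_5_2 lc_a_rc_2_2 lc_a_rc_4_2 lc_a_rc_21_0 lc_a_rc_3_2 lc_a_rc_0_1 lc_a_rc_21_0 lc_a_rc_3_2 lc_a_rc_4_2 lc_a_rc_4_2 lc_a_rc_3_2 lc_a_rc_21_0 lc_a_rc_3_2 lc_a_rc_0_1 lc_a_rc_1_2 lc_a_rc_4_2) (@D3.rec (fun _ => (Cert rels S Gen.a)) lc_a_rc_4_2 lc_a_rc_3_2 lc_a_rc_4_0 lc_a_Cert_tree lc_a_rc_4_2 lc_a_rc_4_2 lc_a_rc_3_0 lc_a_rc_4_2 lc_a_rc_4_2 lc_a_rc_5_0 lc_a_rc_3_2 lc_a_rc_5_2 lc_a_Cert_tree lc_a_rc_4_2 lc_a_rc_5_0 lc_a_rc_4_2 lc_a_rc_3_2 lc_a_rc_5_2 lc_a_rc_4_2 lc_a_Cert_tree lc_a_rc_21_0 lc_a_rc_21_0 lc_a_rc_4_2 lc_a_Cert_tree lc_a_rc_2_2 lc_a_rc_3_2 lc_a_rc_4_2 lc_a_rc_3_0 lc_a_rc_3_2 lc_a_rc_2_2 lc_a_rc_5_2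 lc_a_rc_5_2 lc_a_rc_21_0 lc_a_rc_2_2 lc_a_rc_3_2 lc_a_rc_1_2 lc_a_rc_0_1 lc_a_rc_2_2 lc_a_rc_3_2 lc_a_rc_4_2 lc_a_rc_0_1 lc_a_rc_4_2 lc_a_rc_3_2 lc_a_rc_4_2 lc_a_rc_3_2 lc_a_rc_2_2 lc_a_rc_4_2 lc_a_rc_22_0 lc_a_rc_22_0 lc_a_rc_21_0 lc_a_rc_2_0 lc_a_rc_0_1 lc_a_rc_2_2 lc_a_rc_3_2 lc_a_rc_4_2 lc_a_Cert_tree lc_a_rc_3_2 lc_a_rc_2_2 lc_a_rc_2_2 lc_a_rc_4_2 lc_a_rc_4_2 lc_a_rc_4_2) (@D3.rec (fun _ => (Cert rels S Gen.a)) lc_a_rc_3_2 lc_a_rc_5_0 lc_a_rc_21_0 lc_a_rc_4_2 lc_a_rc_3_2 lc_a_rc_2_2 lc_a_rc_3_0 lc_a_rc_5_0 lc_a_rc_0_1 lc_a_rc_3_2 lc_a_rc_4_2 lc_a_rc_0_1 lc_a_rc_5_2 lc_a_rc_4_2 lc_a_rc_4_2 lc_a_rc_1_4 lc_a_rc_1_4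 lc_a_rc_5_0 lc_a_rc_21_0 lc_a_rc_4_2 lc_a_rc_21_0 lc_a_rc_21_0 lc_a_rc_2_2 lc_a_rc_2_2 lc_a_rc_3_2 lc_a_rc_4_2 lc_a_rc_0_1 lc_a_rc_2_2 lc_a_rc_3_2 lc_a_rc_4_2 lc_a_rc_0_1 lc_a_rc_2_2 lc_a_rc_4_2 lc_a_rc_1_4 lc_a_rc_3_2 lc_a_rc_3_2 lc_a_rc_3_2 lc_a_rc_2_2 lc_a_rc_2_2 lc_a_rc_3_2 lc_a_rc_4_2 lc_a_rc_2_0 lc_a_rc_2_2 lc_a_rc_3_2 lc_a_rc_4_2 lc_a_rc_2_2 lc_a_rc_21_0 lc_a_rc_2_2 lc_a_rc_1_4 lc_a_rc_3_2 lc_a_rc_3_2 lc_a_rc_3_2 lc_a_rc_2_2 lc_a_rc_2_2 lc_a_rc_3_2 lc_a_rc_2_2 lc_a_rc_5_0 lc_a_rc_5_2 lc_a_rc_2_2 lc_a_rc_3_2 lc_a_rc_4_2 lc_a_rc_21_0) (@D3.rec (fun _ => (Cert rels S Gen.a)) lc_a_rc_3_2 lc_a_rc_21_0 lc_a_rc_3_2 lc_a_rc_4_2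 lc_a_rc_5_0 lc_a_rc_4_2 lc_a_rc_5_2 lc_a_rc_3_2 lc_a_rc_21_0 lc_a_rc_21_0 lc_a_rc_4_0 lc_a_rc_4_2 lc_a_rc_5_2 lc_a_rc_1_4 lc_a_rc_21_0 lc_a_rc_3_2 lc_a_rc_4_2 lc_a_rc_0_1 lc_a_rc_21_0 lc_a_rc_4_2 lc_a_rc_3_0 lc_a_rc_4_2 lc_a_rc_5_0 lc_a_rc_3_2 lc_a_rc_5_2 lc_a_rc_2_2 lc_a_rc_5_0 lc_a_rc_3_2 lc_a_rc_2_2 lc_a_rc_2_2 lc_a_rc_2_2 lc_a_rc_2_2 lc_a_Cert_tree lc_a_rc_3_2 lc_a_rc_5_2 lc_a_rc_1_0 lc_a_rc_0_1 lc_a_rc_1_4 lc_a_rc_4_2 lc_a_rc_4_2 lc_a_rc_21_0 lc_a_rc_3_2 lc_a_rc_4_2 lc_a_rc_2_2 lc_a_rc_5_0 lc_a_rc_1_4 lc_a_rc_1_2 lc_a_rc_4_2 lc_a_rc_4_2 lc_a_rc_4_2 lc_a_rc_21_0 lc_a_rc_3_2 lc_a_rc_5_2 lc_a_rc_21_0 lc_a_rc_1_4 lc_a_rc_0_1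 lc_a_rc_2_2 lc_a_rc_2_2 lc_a_rc_5_0 lc_a_Cert_tree lc_a_rc_3_2 lc_a_rc_1_4) (@D3.rec (fun _ => (Cert rels S Gen.a)) lc_a_rc_5_0 lc_a_rc_4_2 lc_a_rc_5_2 lc_a_rc_4_2 lc_a_rc_0_1 lc_a_rc_0_1 lc_a_rc_4_2 lc_a_rc_3_0 lc_a_rc_4_2 lc_a_rc_2_2 lc_a_rc_21_0 lc_a_rc_3_2 lc_a_rc_5_2 lc_a_rc_2_2 lc_a_rc_4_2 lc_a_rc_0_1 lc_a_rc_4_2 lc_a_Cert_tree lc_a_rc_4_2 lc_a_rc_2_2 lc_a_rc_0_1 lc_a_rc_3_2 lc_a_rc_4_2 lc_a_rc_4_2 lc_a_rc_21_0 lc_a_rc_3_2 lc_a_rc_21_0 lc_a_rc_2_2 lc_a_rc_0_1 lc_a_rc_21_0 lc_a_rc_1_4 lc_a_rc_4_2 lc_a_rc_4_2 lc_a_rc_3_2 lc_a_rc_5_2 lc_a_rc_3_0 lc_a_rc_0_1 lc_a_rc_2_0 lc_a_rc_4_2 lc_a_rc_4_2 lc_a_rc_3_2 lc_a_rc_1_4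 lc_a_rc_4_2 lc_a_rc_1_4 lc_a_rc_4_2 lc_a_rc_2_2 lc_a_rc_4_0 lc_a_rc_3_2 lc_a_rc_5_2 lc_a_Cert_tree lc_a_rc_21_0 lc_a_rc_3_2 lc_a_rc_22_0 lc_a_Cert_tree lc_a_rc_0_1 lc_a_rc_3_2 lc_a_rc_4_2 lc_a_rc_5_0 lc_a_rc_3_2 lc_a_rc_2_2 lc_a_rc_5_2 lc_a_rc_1_0) (@D3.rec (fun _ => (Cert rels S Gen.a)) lc_a_rc_0_1 lc_a_rc_2_2 lc_a_rc_3_2 lc_a_rc_4_2 lc_a_rc_0_1 lc_a_Cert_tree lc_a_rc_3_2 lc_a_rc_4_2 lc_a_rc_0_1 lc_a_rc_2_2 lc_a_rc_2_2 lc_a_rc_3_2 lc_a_rc_4_2 lc_a_Cert_tree lc_a_rc_3_2 lc_a_rc_2_2 lc_a_rc_2_2 lc_a_rc_21_0 lc_a_Cert_tree lc_a_rc_2_2 lc_a_rc_1_4 lc_a_rc_2_2 lc_a_rc_3_2 lc_a_rc_3_2 lc_a_rc_21_0 lc_a_rc_0_1 lc_a_rc_0_1 lc_a_rc_2_2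 lc_a_Cert_tree lc_a_rc_3_2 lc_a_rc_2_2 lc_a_rc_4_2 lc_a_Cert_tree lc_a_rc_2_2 lc_a_rc_4_2 lc_a_rc_4_0 lc_a_rc_4_0 lc_a_Cert_tree lc_a_rc_3_2 lc_a_rc_2_2 lc_a_Cert_tree lc_a_rc_2_2 lc_a_rc_4_2 lc_a_rc_5_2 lc_a_rc_0_1 lc_a_rc_0_1 lc_a_rc_3_2 lc_a_rc_4_0 lc_a_rc_3_2 lc_a_rc_0_1 lc_a_rc_4_2 lc_a_rc_22_0 lc_a_rc_4_2 lc_a_rc_3_2 lc_a_rc_0_1 lc_a_rc_3_0 lc_a_rc_2_2 lc_a_Cert_tree lc_a_rc_2_2 lc_a_rc_2_2 lc_a_rc_3_2 lc_a_rc_4_2) (@D3.rec (fun _ => (Cert rels S Gen.a)) lc_a_rc_2_0 lc_a_rc_3_2 lc_a_rc_4_2 lc_a_Cert_tree lc_a_rc_2_2 lc_a_Cert_tree lc_a_rc_2_0 lc_a_rc_3_2 lc_a_rc_2_2 lc_a_rc_3_0 lc_a_rc_3_2 lc_a_rc_2_2 lc_a_rc_2_2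 lc_a_rc_4_0 lc_a_rc_3_2 lc_a_Cert_tree lc_a_rc_4_0 lc_a_rc_2_2 lc_a_rc_4_0 lc_a_rc_2_2 lc_a_rc_3_0 lc_a_Cert_tree lc_a_rc_4_2 lc_a_rc_4_2 lc_a_rc_5_0 lc_a_rc_21_0 lc_a_rc_2_0 lc_a_rc_2_2 lc_a_rc_2_2 lc_a_rc_2_0 lc_a_rc_3_2 lc_a_rc_4_2 lc_a_rc_5_0 lc_a_Cert_tree lc_a_rc_0_1 lc_a_rc_4_2 lc_a_rc_3_2 lc_a_rc_21_0 lc_a_rc_2_2 lc_a_rc_21_0 lc_a_rc_4_2 lc_a_rc_0_1 lc_a_rc_21_0 lc_a_rc_0_1 lc_a_rc_4_2 lc_a_rc_22_0 lc_a_rc_3_0 lc_a_rc_4_2 lc_a_rc_2_2 lc_a_rc_2_0 lc_a_rc_3_2 lc_a_rc_4_2 lc_a_rc_0_1 lc_a_rc_3_2 lc_a_rc_4_2 lc_a_rc_4_2 lc_a_rc_3_2 lc_a_rc_21_0 lc_a_rc_0_1 lc_a_rc_5_2 lc_a_rc_0_1 lc_a_rc_4_2) (@D3.rec (fun _ => (Cert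 rels S Gen.a)) lc_a_rc_5_0 lc_a_rc_4_2 lc_a_rc_5_2 lc_a_rc_1_0 lc_a_rc_0_1 lc_a_rc_1_4 lc_a_rc_4_2 lc_a_rc_4_2 lc_a_rc_4_2 lc_a_rc_5_0 lc_a_rc_3_2 lc_a_rc_5_2 lc_a_rc_2_2 lc_a_rc_2_2 lc_a_rc_2_2 lc_a_Cert_tree lc_a_rc_3_2 lc_a_rc_1_4 lc_a_rc_4_2 lc_a_rc_5_0 lc_a_rc_4_2 lc_a_rc_3_2 lc_a_rc_5_2 lc_a_rc_0_1 lc_a_rc_2_2 lc_a_rc_2_2 lc_a_rc_3_2 lc_a_rc_2_2 lc_a_rc_5_2 lc_a_rc_5_0 lc_a_rc_3_2 lc_a_Cert_tree lc_a_rc_4_2 lc_a_rc_1_4 lc_a_rc_4_2 lc_a_rc_3_0 lc_a_rc_2_2 lc_a_rc_0_1 lc_a_rc_4_2 lc_a_rc_2_2 lc_a_rc_2_0 lc_a_rc_3_2 lc_a_Cert_tree lc_a_rc_5_2 lc_a_rc_2_0 lc_a_rc_0_1 lc_a_rc_1_2 lc_a_rc_4_2 lc_a_rc_4_2 lc_a_rc_21_0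 lc_a_rc_0_1 lc_a_rc_3_2 lc_a_rc_5_2 lc_a_rc_2_2 lc_a_rc_2_2 lc_a_rc_2_2 lc_a_rc_0_1 lc_a_rc_3_2 lc_a_rc_4_2 lc_a_rc_4_2 lc_a_rc_3_2 lc_a_rc_0_1) (@D3.rec (fun _ => (Cert rels S Gen.a)) lc_a_rc_4_2 lc_a_rc_3_2 lc_a_rc_5_2 lc_a_rc_4_2 lc_a_rc_2_2 lc_a_rc_2_2 lc_a_rc_4_2 lc_a_rc_5_2 lc_a_Cert_tree lc_a_rc_3_2 lc_a_Cert_tree lc_a_rc_3_2 lc_a_rc_2_2 lc_a_rc_5_0 lc_a_rc_3_2 lc_a_rc_2_2 lc_a_rc_5_2 lc_a_rc_2_2 lc_a_rc_21_0 lc_a_Cert_tree lc_a_rc_3_2 lc_a_rc_22_0 lc_a_rc_0_1 lc_a_rc_1_4 lc_a_rc_4_2 lc_a_Cert_tree lc_a_rc_3_2 lc_a_rc_4_2 lc_a_rc_2_2 lc_a_rc_3_2 lc_a_rc_5_0 lc_a_rc_21_0 lc_a_rc_21_0 lc_a_Cert_tree lc_a_rc_2_2 lc_a_rc_4_2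 lc_a_rc_0_1 lc_a_rc_2_2 lc_a_rc_2_2 lc_a_rc_5_0 lc_a_rc_22_0 lc_a_rc_5_2 lc_a_rc_4_2 lc_a_rc_0_1 lc_a_rc_2_2 lc_a_Cert_tree lc_a_rc_3_2 lc_a_Cert_tree lc_a_rc_3_2 lc_a_rc_2_0 lc_a_Cert_tree lc_a_rc_21_0 lc_a_rc_0_1 lc_a_rc_0_1 lc_a_rc_0_1 lc_a_rc_4_2 lc_a_rc_22_0 lc_a_rc_1_0 lc_a_rc_2_2 lc_a_rc_2_2 lc_a_rc_0_1 lc_a_rc_3_2) (@D3.rec (fun _ => (Cert rels S Gen.a)) lc_a_rc_3_2 lc_a_rc_2_2 lc_a_rc_5_2 lc_a_rc_2_2 lc_a_rc_1_4 lc_a_rc_3_2 lc_a_rc_21_0 lc_a_rc_4_2 lc_a_rc_5_2 lc_a_Cert_tree lc_a_rc_2_2 lc_a_rc_3_2 lc_a_rc_2_2 lc_a_rc_1_4 lc_a_rc_4_2 lc_a_rc_4_2 lc_a_rc_2_2 lc_a_rc_21_0 lc_a_rc_3_2 lc_a_rc_5_2 lc_a_rc_5_0 lc_a_rc_3_2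 lc_a_rc_2_2 lc_a_rc_4_2 lc_a_rc_2_2 lc_a_rc_2_2 lc_a_rc_4_2 lc_a_rc_3_2 lc_a_rc_4_2 lc_a_rc_4_2 lc_a_rc_3_2 lc_a_rc_5_2 lc_a_rc_3_2 lc_a_rc_4_2 lc_a_rc_1_0 lc_a_rc_4_0 lc_a_rc_3_2 lc_a_rc_5_2 lc_a_Cert_tree lc_a_rc_22_0 lc_a_rc_4_2 lc_a_Cert_tree lc_a_rc_3_2 lc_a_rc_4_2 lc_a_rc_21_0 lc_a_rc_3_2 lc_a_rc_2_2 lc_a_rc_5_2 lc_a_rc_0_1 lc_a_rc_0_1 lc_a_rc_2_2 lc_a_rc_21_0 lc_a_rc_4_2 lc_a_rc_5_2 lc_a_Cert_tree lc_a_rc_5_0 lc_a_rc_4_2 lc_a_rc_22_0 lc_a_rc_4_2 lc_a_rc_4_2 lc_a_Cert_tree lc_a_rc_3_2) (@D3.rec (fun _ => (Cert rels S Gen.a)) lc_a_rc_4_2 lc_a_rc_4_2 lc_a_rc_3_2 lc_a_rc_21_0 lc_a_rc_2_2 lc_a_rc_2_2 lc_a_rc_4_2 lc_a_rc_2_2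 lc_a_rc_3_2 lc_a_rc_4_2 lc_a_rc_4_0 lc_a_rc_4_2 lc_a_rc_21_0 lc_a_rc_5_2 lc_a_rc_0_1 lc_a_rc_21_0 lc_a_rc_5_2 lc_a_rc_2_2 lc_a_rc_4_2 lc_a_rc_3_2 lc_a_rc_21_0 lc_a_rc_2_2 lc_a_rc_0_1 lc_a_rc_4_2 lc_a_rc_3_2 lc_a_rc_5_2 lc_a_rc_2_2 lc_a_rc_3_0 lc_a_rc_4_2 lc_a_rc_3_2 lc_a_rc_4_2 lc_a_rc_4_2 lc_a_rc_4_2 lc_a_rc_4_2 lc_a_rc_22_0 lc_a_Cert_tree lc_a_rc_2_0 lc_a_rc_2_2 lc_a_Cert_tree lc_a_rc_2_0 lc_a_rc_21_0 lc_a_rc_0_1 lc_a_rc_3_0 lc_a_rc_3_0 lc_a_rc_4_2 lc_a_Cert_tree lc_a_rc_2_0 lc_a_rc_21_0 lc_a_rc_0_1 lc_a_Cert_tree lc_a_rc_2_0 lc_a_rc_3_2 lc_a_rc_3_2 lc_a_rc_3_2 lc_a_rc_2_2 lc_a_rc_21_0 lc_a_rc_2_2 lc_a_rc_4_2 lc_a_rc_3_2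 lc_a_rc_3_2 lc_a_rc_3_2 lc_a_rc_4_2) (@D3.rec (fun _ => (Cert rels S Gen.a)) lc_a_rc_3_2 lc_a_rc_5_0 lc_a_rc_21_0 lc_a_rc_3_2 lc_a_rc_4_2 lc_a_rc_21_0 lc_a_rc_0_1 lc_a_rc_0_1 lc_a_rc_3_2 lc_a_rc_4_2 lc_a_rc_21_0 lc_a_rc_4_2 lc_a_rc_2_2 lc_a_rc_5_0 lc_a_rc_3_2 lc_a_rc_5_2 lc_a_rc_2_2 lc_a_rc_4_2 lc_a_rc_0_1 lc_a_rc_4_2 lc_a_rc_21_0 lc_a_rc_2_0 lc_a_Cert_tree lc_a_rc_3_2 lc_a_Cert_tree lc_a_rc_3_2 lc_a_rc_2_2 lc_a_rc_3_0 lc_a_rc_5_2 lc_a_rc_0_1 lc_a_rc_0_1 lc_a_rc_3_2 lc_a_rc_4_2 lc_a_rc_4_2 lc_a_rc_2_2 lc_a_rc_3_2 lc_a_rc_1_2 lc_a_rc_3_2 lc_a_rc_4_2 lc_a_rc_4_2 lc_a_rc_2_2 lc_a_rc_3_2 lc_a_rc_5_2 lc_a_rc_21_0 lc_a_rc_0_1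 lc_a_rc_21_0 lc_a_rc_4_2 lc_a_rc_2_2 lc_a_rc_2_2 lc_a_rc_22_0 lc_a_rc_4_2 lc_a_rc_3_2 lc_a_rc_3_2 lc_a_rc_4_2 lc_a_rc_5_0 lc_a_rc_2_2 lc_a_rc_3_2 lc_a_rc_21_0 lc_a_rc_4_2 lc_a_rc_4_2 lc_a_rc_5_0 lc_a_rc_5_2) (@D3.rec (fun _ => (Cert rels S Gen.a)) lc_a_rc_1_0 lc_a_rc_0_1 lc_a_rc_3_2 lc_a_rc_4_2 lc_a_rc_4_2 lc_a_rc_4_2 lc_a_rc_5_0 lc_a_rc_3_2 lc_a_rc_5_2 lc_a_rc_2_2 lc_a_rc_3_2 lc_a_rc_3_2 lc_a_rc_0_1 lc_a_rc_3_2 lc_a_rc_4_2 lc_a_rc_4_2 lc_a_rc_3_2 lc_a_rc_1_4 lc_a_rc_21_0 lc_a_rc_0_1 lc_a_rc_3_2 lc_a_rc_4_2 lc_a_rc_4_2 lc_a_rc_3_2 lc_a_rc_5_2 lc_a_Cert_tree lc_a_rc_4_2 lc_a_Cert_tree lc_a_rc_4_2 lc_a_Cert_tree lc_a_rc_4_2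 lc_a_rc_3_2 lc_a_rc_21_0 lc_a_rc_3_2 lc_a_rc_5_2 lc_a_Cert_tree lc_a_rc_3_2 lc_a_rc_2_2 lc_a_Cert_tree lc_a_rc_3_2 lc_a_rc_4_2 lc_a_rc_5_0 lc_a_rc_3_2 lc_a_rc_2_2 lc_a_rc_5_2 lc_a_rc_3_2 lc_a_rc_4_2 lc_a_rc_0_1 lc_a_Cert_tree lc_a_rc_0_1 lc_a_rc_2_2 lc_a_rc_22_0 lc_a_rc_0_1 lc_a_rc_2_2 lc_a_rc_3_2 lc_a_rc_4_2 lc_a_Cert_tree lc_a_rc_21_0 lc_a_rc_4_2 lc_a_rc_2_2 lc_a_rc_3_2 lc_a_rc_4_2) (@D3.rec (fun _ => (Cert rels S Gen.a)) lc_a_rc_2_2 lc_a_rc_3_2 lc_a_rc_4_2 lc_a_rc_4_2 lc_a_rc_4_2 lc_a_Cert_tree lc_a_rc_2_2 lc_a_rc_4_2 lc_a_rc_5_2 lc_a_Cert_tree lc_a_rc_4_2 lc_a_rc_21_0 lc_a_rc_4_2 lc_a_rc_21_0 lc_a_rc_0_1 lc_a_rc_0_1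 lc_a_rc_3_2 lc_a_rc_4_2 lc_a_rc_0_1 lc_a_rc_3_0 lc_a_rc_3_2 lc_a_rc_4_2 lc_a_rc_2_2 lc_a_rc_2_0 lc_a_rc_3_2 lc_a_rc_4_2 lc_a_Cert_tree lc_a_rc_4_2 lc_a_rc_3_0 lc_a_rc_2_2 lc_a_Cert_tree lc_a_rc_3_2 lc_a_rc_3_2 lc_a_rc_1_2 lc_a_rc_5_0 lc_a_rc_2_2 lc_a_rc_2_0 lc_a_rc_0_1 lc_a_rc_3_2 lc_a_rc_4_2 lc_a_rc_4_2 lc_a_rc_2_2 lc_a_rc_5_0 lc_a_rc_3_2 lc_a_rc_5_2 lc_a_rc_2_2 lc_a_rc_4_2 lc_a_rc_3_2 lc_a_rc_21_0 lc_a_rc_0_1 lc_a_rc_0_1 lc_a_Cert_tree lc_a_rc_3_2 lc_a_Cert_tree lc_a_rc_1_4 lc_a_rc_3_2 lc_a_rc_4_2 lc_a_rc_4_2 lc_a_rc_3_2 lc_a_rc_4_2 lc_a_Cert_tree lc_a_rc_2_2) (@D3.rec (fun _ => (Cert rels S Gen.a)) lc_a_rc_2_2 lc_a_rc_0_1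 lc_a_rc_3_2 lc_a_Cert_tree lc_a_rc_3_2 lc_a_rc_2_2 lc_a_rc_4_2 lc_a_rc_5_2 lc_a_rc_21_0 lc_a_rc_2_2 lc_a_rc_5_0 lc_a_rc_3_2 lc_a_rc_4_2 lc_a_rc_3_2 lc_a_rc_4_2 lc_a_rc_5_2 lc_a_Cert_tree lc_a_rc_21_0 lc_a_rc_4_2 lc_a_rc_2_2 lc_a_rc_21_0 lc_a_Cert_tree lc_a_rc_4_2 lc_a_Cert_tree lc_a_rc_4_2 lc_a_rc_0_1 lc_a_rc_21_0 lc_a_rc_4_2 lc_a_rc_3_2 lc_a_rc_3_2 lc_a_Cert_tree lc_a_rc_4_2 lc_a_rc_4_2 lc_a_rc_2_2 lc_a_rc_2_2 lc_a_rc_0_1 lc_a_rc_3_2 lc_a_rc_4_2 lc_a_rc_4_2 lc_a_rc_4_2 lc_a_rc_5_0 lc_a_rc_3_2 lc_a_rc_5_2 lc_a_rc_2_2 lc_a_rc_3_2 lc_a_rc_2_2 lc_a_rc_0_1 lc_a_rc_0_1 lc_a_rc_3_2 lc_a_rc_4_2 lc_a_rc_4_2 lc_a_rc_5_0 lc_a_rc_2_2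 lc_a_rc_3_2 lc_a_rc_3_2 lc_a_rc_3_2 lc_a_rc_0_1 lc_a_rc_3_2 lc_a_rc_4_2 lc_a_rc_4_2 lc_a_rc_3_2 lc_a_rc_5_2) (@D3.rec (fun _ => (Cert rels S Gen.a)) lc_a_rc_1_4 lc_a_rc_21_0 lc_a_rc_0_1 lc_a_rc_4_2 lc_a_rc_4_2 lc_a_rc_3_2 lc_a_Cert_tree lc_a_rc_4_2 lc_a_Cert_tree lc_a_rc_4_2 lc_a_rc_2_2 lc_a_rc_4_2 lc_a_rc_0_1 lc_a_rc_21_0 lc_a_rc_3_2 lc_a_rc_5_2 lc_a_Cert_tree lc_a_rc_3_2 lc_a_rc_0_1 lc_a_Cert_tree lc_a_rc_3_2 lc_a_rc_5_0 lc_a_rc_3_0 lc_a_rc_3_0 lc_a_rc_0_1 lc_a_rc_4_2 lc_a_rc_0_1 lc_a_Cert_tree lc_a_rc_3_2 lc_a_rc_2_2 lc_a_rc_4_2 lc_a_Cert_tree lc_a_rc_3_2 lc_a_rc_21_0 lc_a_rc_2_2 lc_a_rc_2_2 lc_a_rc_4_2 lc_a_rc_2_2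 lc_a_rc_3_2 lc_a_rc_4_0 lc_a_rc_2_2 lc_a_rc_4_2 lc_a_Cert_tree lc_a_rc_3_2 lc_a_rc_21_0 lc_a_rc_21_0 lc_a_rc_5_0 lc_a_rc_5_2 lc_a_rc_4_2 lc_a_Cert_tree lc_a_rc_2_2 lc_a_rc_4_2 lc_a_rc_5_0 lc_a_rc_5_2 lc_a_rc_0_1 lc_a_rc_3_2 lc_a_rc_0_1 lc_a_rc_4_2 lc_a_rc_2_2 lc_a_rc_4_2 lc_a_rc_3_2 lc_a_rc_5_0) (@D3.rec (fun _ => (Cert rels S Gen.a)) lc_a_rc_3_2 lc_a_rc_21_0 lc_a_rc_3_2 lc_a_rc_4_2 lc_a_Cert_tree lc_a_rc_3_2 lc_a_rc_4_2 lc_a_rc_4_2 lc_a_rc_2_2 lc_a_Cert_tree lc_a_rc_2_2 lc_a_rc_2_2 lc_a_rc_4_2 lc_a_Cert_tree lc_a_rc_3_2 lc_a_rc_5_0 lc_a_rc_2_2 lc_a_rc_1_4 lc_a_Cert_tree lc_a_rc_4_2 lc_a_rc_0_1 lc_a_rc_21_0 lc_a_rc_3_0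 lc_a_Cert_tree lc_a_rc_4_2 lc_a_rc_1_2 lc_a_rc_1_2 lc_a_rc_4_2 lc_a_rc_5_2 lc_a_rc_21_0 lc_a_rc_0_1 lc_a_rc_0_1 lc_a_rc_4_2 lc_a_rc_3_2 lc_a_rc_5_2 lc_a_rc_21_0 lc_a_rc_3_2 lc_a_rc_5_2 lc_a_rc_3_2 lc_a_rc_21_0 lc_a_rc_0_1 lc_a_rc_3_2 lc_a_rc_4_2 lc_a_rc_4_2 lc_a_rc_3_2 lc_a_rc_5_0 lc_a_rc_0_1 lc_a_rc_0_1 lc_a_rc_4_2 lc_a_rc_4_2 lc_a_rc_3_2 lc_a_rc_5_2 lc_a_Cert_tree lc_a_rc_4_2 lc_a_rc_4_2 lc_a_rc_5_0 lc_a_rc_0_1 lc_a_rc_3_2 lc_a_rc_5_2 lc_a_Cert_tree lc_a_rc_4_2 lc_a_Cert_tree) (@D3.rec (fun _ => (Cert rels S Gen.a)) lc_a_rc_4_2 lc_a_rc_4_2 lc_a_rc_4_2 lc_a_rc_3_2 lc_a_rc_5_2 lc_a_Cert_tree lc_a_rc_2_2 lc_a_rc_4_2 lc_a_Cert_tree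 lc_a_rc_3_2 lc_a_rc_4_2 lc_a_rc_5_0 lc_a_rc_3_2 lc_a_rc_22_0 lc_a_rc_5_2 lc_a_rc_1_4 lc_a_rc_3_2 lc_a_rc_4_2 lc_a_rc_2_2 lc_a_rc_2_2 lc_a_rc_21_0 lc_a_rc_0_1 lc_a_rc_22_0 lc_a_rc_4_2 lc_a_rc_4_2 lc_a_rc_3_2 lc_a_rc_4_2 lc_a_rc_1_4 lc_a_rc_3_2 lc_a_rc_0_1 lc_a_rc_4_2 lc_a_rc_3_2 lc_a_rc_1_4 lc_a_rc_3_2 lc_a_rc_4_2 lc_a_rc_21_0 lc_a_rc_4_2 lc_a_rc_4_2 lc_a_rc_3_2 lc_a_rc_21_0 lc_a_rc_2_2 lc_a_rc_4_2 lc_a_rc_0_1 lc_a_rc_1_2 lc_a_rc_3_2 lc_a_rc_2_2 lc_a_rc_1_2 lc_a_rc_3_2 lc_a_rc_5_2 lc_a_Cert_tree lc_a_rc_21_0 lc_a_rc_3_2 lc_a_Cert_tree lc_a_rc_3_2 lc_a_rc_2_2 lc_a_rc_21_0 lc_a_rc_0_1 lc_a_Cert_tree lc_a_rc_4_2 lc_a_rc_5_0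 lc_a_rc_2_2 lc_a_rc_0_1) (@D3.rec (fun _ => (Cert rels S Gen.a)) lc_a_rc_0_1 lc_a_rc_1_2 lc_a_rc_4_2 lc_a_rc_4_2 lc_a_rc_21_0 lc_a_rc_3_2 lc_a_rc_2_2 lc_a_rc_3_2 lc_a_rc_21_0 lc_a_rc_4_2 lc_a_rc_4_2 lc_a_rc_4_2 lc_a_rc_2_2 lc_a_rc_2_0 lc_a_rc_3_2 lc_a_rc_3_2 lc_a_rc_3_0 lc_a_rc_0_1 lc_a_rc_4_2 lc_a_rc_4_2 lc_a_rc_3_2 lc_a_rc_5_2 lc_a_rc_1_2 lc_a_rc_0_1 lc_a_rc_0_1 lc_a_rc_5_0 lc_a_rc_4_2 lc_a_rc_4_2 lc_a_rc_3_2 lc_a_Cert_tree lc_a_rc_3_2 lc_a_rc_3_2 lc_a_rc_4_2 lc_a_rc_1_4 lc_a_rc_1_4 lc_a_rc_3_2 lc_a_rc_4_2 lc_a_rc_3_2 lc_a_rc_4_2 lc_a_rc_2_2 lc_a_rc_21_0 lc_a_rc_2_2 lc_a_rc_4_2 lc_a_rc_1_2 lc_a_rc_1_4 lc_a_rc_3_2 lc_a_rc_5_2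 lc_a_rc_4_2 lc_a_rc_5_0 lc_a_rc_3_2 lc_a_rc_5_2 lc_a_Cert_tree lc_a_rc_3_2 lc_a_rc_2_2 lc_a_Cert_tree lc_a_rc_21_0 lc_a_rc_21_0 lc_a_rc_4_2 lc_a_rc_3_2 lc_a_rc_21_0 lc_a_rc_2_2 lc_a_rc_5_2) (@D3.rec (fun _ => (Cert rels S Gen.a)) lc_a_rc_3_2 lc_a_rc_0_1 lc_a_Cert_tree lc_a_rc_3_2 lc_a_rc_2_2 lc_a_rc_5_2 lc_a_Cert_tree lc_a_rc_3_2 lc_a_rc_4_2 lc_a_rc_4_2 lc_a_rc_5_2 lc_a_rc_21_0 lc_a_rc_2_2 lc_a_rc_4_2 lc_a_rc_4_2 lc_a_rc_3_2 lc_a_rc_3_2 lc_a_rc_21_0 lc_a_rc_3_2 lc_a_rc_4_2 lc_a_rc_3_2 lc_a_rc_21_0 lc_a_rc_0_1 lc_a_rc_4_2 lc_a_rc_3_2 lc_a_rc_3_2 lc_a_rc_5_2 lc_a_rc_0_1 lc_a_rc_4_2 lc_a_rc_3_2 lc_a_Cert_tree lc_a_rc_4_2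 lc_a_rc_4_2 lc_a_rc_4_2 lc_a_rc_21_0 lc_a_rc_2_2 lc_a_rc_3_2 lc_a_rc_3_0 lc_a_Cert_tree lc_a_rc_4_2 lc_a_rc_3_2 lc_a_rc_4_2 lc_a_rc_21_0 lc_a_rc_1_4 lc_a_rc_3_2 lc_a_rc_5_2 lc_a_Cert_tree lc_a_rc_3_2 lc_a_rc_4_2 lc_a_Cert_tree lc_a_rc_3_2 lc_a_rc_4_2 lc_a_rc_0_1 lc_a_rc_21_0 lc_a_rc_2_2 lc_a_rc_22_0 lc_a_rc_1_4 lc_a_rc_3_2 lc_a_rc_22_0 lc_a_rc_2_2 lc_a_rc_3_2 lc_a_rc_4_2) (@D3.rec (fun _ => (Cert rels S Gen.a)) lc_a_rc_2_2 lc_a_rc_4_2 lc_a_rc_3_2 lc_a_rc_5_2 lc_a_rc_2_2 lc_a_rc_2_2 lc_a_rc_0_1 lc_a_rc_3_2 lc_a_rc_4_2 lc_a_rc_4_2 lc_a_rc_3_2 lc_a_rc_21_0 lc_a_rc_3_2 lc_a_rc_0_1 lc_a_rc_3_2 lc_a_rc_21_0 lc_a_rc_5_2 lc_a_rc_5_2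 lc_a_rc_4_2 lc_a_rc_4_2 lc_a_rc_3_2 lc_a_rc_4_2 lc_a_rc_3_2 lc_a_rc_21_0 lc_a_rc_2_2 lc_a_rc_4_2 lc_a_rc_0_1 lc_a_rc_21_0 lc_a_rc_3_2 lc_a_rc_5_2 lc_a_rc_5_0 lc_a_rc_4_2 lc_a_rc_3_2 lc_a_rc_5_2 lc_a_Cert_tree lc_a_rc_21_0 lc_a_rc_3_2 lc_a_Cert_tree lc_a_rc_3_2 lc_a_rc_4_2 lc_a_rc_21_0 lc_a_rc_3_2 lc_a_rc_2_2 lc_a_rc_21_0 lc_a_rc_0_1 lc_a_rc_3_2 lc_a_rc_4_2 lc_a_rc_2_2 lc_a_rc_2_2 lc_a_rc_3_0 lc_a_rc_4_0 lc_a_rc_4_2 lc_a_Cert_tree lc_a_rc_22_0 lc_a_rc_0_1 lc_a_rc_22_0 lc_a_rc_21_0 lc_a_rc_4_2 lc_a_rc_2_2 lc_a_rc_2_2 lc_a_rc_3_2 lc_a_rc_4_2) (@D3.rec (fun _ => (Cert rels S Gen.a)) lc_a_rc_3_2 lc_a_rc_4_2 lc_a_rc_3_2 lc_a_rc_4_2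 lc_a_rc_5_0 lc_a_rc_2_2 lc_a_rc_4_2 lc_a_rc_2_2 lc_a_rc_21_0 lc_a_rc_3_2 lc_a_rc_5_2 lc_a_rc_5_0 lc_a_rc_5_2 lc_a_rc_1_4 lc_a_rc_4_2 lc_a_rc_5_0 lc_a_rc_4_2 lc_a_rc_3_2 lc_a_rc_5_2 lc_a_rc_0_1 lc_a_rc_2_2 lc_a_rc_22_0 lc_a_rc_21_0 lc_a_rc_4_2 lc_a_rc_21_0 lc_a_rc_2_0 lc_a_rc_4_2 lc_a_rc_2_2 lc_a_rc_4_2 lc_a_rc_3_0 lc_a_rc_21_0 lc_a_rc_4_2 lc_a_rc_21_0 lc_a_rc_2_0 lc_a_rc_4_2 lc_a_rc_1_2 lc_a_rc_1_4 lc_a_rc_3_2 lc_a_rc_5_2 lc_a_rc_4_2 lc_a_rc_21_0 lc_a_rc_3_2 lc_a_rc_5_2 lc_a_rc_21_0 lc_a_rc_3_0 lc_a_rc_2_2 lc_a_rc_22_0 lc_a_rc_1_4 lc_a_rc_0_1 lc_a_rc_1_2 lc_a_rc_4_2 lc_a_rc_4_2 lc_a_rc_3_2 lc_a_rc_4_2 lc_a_rc_2_2 lc_a_rc_5_0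 lc_a_rc_3_2 lc_a_rc_5_2 lc_a_rc_1_2 lc_a_rc_4_2 lc_a_rc_3_2 lc_a_Cert_tree) (@D3.rec (fun _ => (Cert rels S Gen.a)) lc_a_rc_4_2 lc_a_rc_4_2 lc_a_rc_4_2 lc_a_rc_3_2 lc_a_rc_5_2 lc_a_Cert_tree lc_a_rc_3_2 lc_a_rc_4_2 lc_a_Cert_tree lc_a_rc_0_1 lc_a_rc_5_0 lc_a_rc_3_2 lc_a_rc_2_2 lc_a_rc_5_2 lc_a_rc_0_1 lc_a_rc_2_2 lc_a_rc_4_2 lc_a_rc_5_0 lc_a_rc_0_1 lc_a_rc_3_2 lc_a_rc_5_2 lc_a_rc_0_1 lc_a_rc_4_2 lc_a_rc_4_2 lc_a_rc_5_0 lc_a_rc_3_2 lc_a_rc_5_2 lc_a_rc_0_1 lc_a_rc_21_0 lc_a_rc_0_1 lc_a_rc_4_2 lc_a_rc_21_0 lc_a_rc_1_4 lc_a_rc_4_2 lc_a_rc_5_2 lc_a_Cert_tree lc_a_rc_4_2 lc_a_rc_3_2 lc_a_rc_3_2 lc_a_Cert_tree lc_a_rc_5_0 lc_a_rc_21_0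 lc_a_rc_4_2 lc_a_rc_0_1 lc_a_rc_21_0 lc_a_rc_2_2 lc_a_rc_5_2 lc_a_rc_5_2 lc_a_rc_4_2 lc_a_rc_21_0 lc_a_rc_3_2 lc_a_rc_2_2 lc_a_rc_0_1 lc_a_rc_21_0 lc_a_rc_3_2 lc_a_rc_4_2 lc_a_rc_3_0 lc_a_rc_0_1 lc_a_rc_21_0 lc_a_rc_21_0 lc_a_rc_21_0 lc_a_rc_3_2) (@D3.rec (fun _ => (Cert rels S Gen.a)) lc_a_rc_21_0 lc_a_rc_4_2 lc_a_rc_3_2 lc_a_rc_22_0 lc_a_rc_0_1 lc_a_rc_0_1 lc_a_rc_2_2 lc_a_rc_4_2 lc_a_rc_2_2 lc_a_rc_3_2 lc_a_rc_21_0 lc_a_Cert_tree lc_a_rc_3_2 lc_a_rc_21_0 lc_a_rc_4_2 lc_a_Cert_tree lc_a_rc_21_0 lc_a_rc_2_2 lc_a_rc_4_2 lc_a_rc_2_2 lc_a_rc_2_2 lc_a_Cert_tree lc_a_rc_2_2 lc_a_rc_2_2 lc_a_rc_4_2 lc_a_rc_3_2 lc_a_rc_4_2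 lc_a_rc_3_2 lc_a_rc_3_2 lc_a_rc_5_2 lc_a_rc_3_2 lc_a_rc_5_0 lc_a_rc_3_2 lc_a_rc_2_2 lc_a_rc_3_2 lc_a_rc_4_2 lc_a_Cert_tree lc_a_rc_3_2 lc_a_rc_4_2 lc_a_rc_3_2 lc_a_rc_5_0 lc_a_rc_0_1 lc_a_rc_0_1 lc_a_rc_5_0 lc_a_rc_3_2 lc_a_Cert_tree lc_a_rc_5_2 lc_a_rc_1_4 lc_a_rc_0_1 lc_a_rc_3_2 lc_a_rc_4_2 lc_a_rc_3_2 lc_a_rc_3_2 lc_a_rc_2_2 lc_a_rc_4_2 lc_a_rc_5_0 lc_a_rc_3_2 lc_a_rc_21_0 lc_a_rc_4_2 lc_a_rc_5_0 lc_a_rc_4_2 lc_a_Cert_tree) (@D3.rec (fun _ => (Cert rels S Gen.a)) lc_a_rc_3_2 lc_a_rc_5_0 lc_a_rc_3_2 lc_a_rc_4_2 lc_a_Cert_tree lc_a_rc_3_2 lc_a_rc_4_2 lc_a_rc_1_2 lc_a_rc_3_2 lc_a_rc_2_2 lc_a_rc_21_0 lc_a_rc_0_1 lc_a_rc_3_2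 lc_a_rc_2_0 lc_a_rc_0_1 lc_a_rc_3_2 lc_a_rc_4_2 lc_a_rc_2_2 lc_a_rc_4_2 lc_a_rc_5_0 lc_a_rc_3_2 lc_a_rc_4_0 lc_a_Cert_tree lc_a_rc_3_2 lc_a_rc_3_0 lc_a_rc_4_2 lc_a_rc_21_0 lc_a_rc_3_2 lc_a_rc_0_1 lc_a_rc_21_0 lc_a_rc_22_0 lc_a_rc_21_0 lc_a_rc_2_2 lc_a_rc_3_2 lc_a_rc_0_1 lc_a_rc_3_2 lc_a_rc_4_2 lc_a_rc_3_0 lc_a_rc_22_0 lc_a_rc_4_2 lc_a_rc_3_0 lc_a_Cert_tree lc_a_rc_3_2 lc_a_rc_4_2 lc_a_Cert_tree lc_a_rc_5_0 lc_a_Cert_tree lc_a_rc_3_2 lc_a_rc_4_2 lc_a_rc_2_0 lc_a_rc_0_1 lc_a_rc_3_2 lc_a_rc_3_0 lc_a_rc_4_2 lc_a_rc_1_2 lc_a_rc_4_2 lc_a_rc_4_2 lc_a_rc_21_0 lc_a_rc_3_2 lc_a_rc_5_2 lc_a_rc_21_0 lc_a_rc_2_2) (@D3.rec (fun _ =>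 (Cert rels S Gen.a)) lc_a_rc_3_2 lc_a_rc_4_2 lc_a_rc_21_0 lc_a_rc_2_2 lc_a_rc_0_1 lc_a_rc_4_2 lc_a_rc_3_2 lc_a_rc_5_2 lc_a_rc_21_0 lc_a_rc_0_1 lc_a_rc_0_1 lc_a_rc_4_2 lc_a_rc_3_2 lc_a_rc_1_4 lc_a_rc_4_2 lc_a_rc_4_2 lc_a_rc_5_0 lc_a_rc_3_2 lc_a_rc_5_2 lc_a_Cert_tree lc_a_rc_3_2 lc_a_rc_4_2 lc_a_Cert_tree lc_a_rc_3_2 lc_a_rc_4_2 lc_a_rc_21_0 lc_a_rc_0_1 lc_a_rc_2_2 lc_a_rc_5_2 lc_a_rc_3_2 lc_a_rc_2_0 lc_a_Cert_tree lc_a_rc_3_2 lc_a_rc_2_2 lc_a_rc_0_1 lc_a_rc_4_0 lc_a_rc_5_0 lc_a_rc_3_2 lc_a_rc_4_2 lc_a_Cert_tree lc_a_rc_3_2 lc_a_rc_4_2 lc_a_rc_2_2 lc_a_rc_4_2 lc_a_rc_21_0 lc_a_rc_3_2 lc_a_rc_2_2 lc_a_rc_1_2 lc_a_rc_1_2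 lc_a_rc_4_2 lc_a_rc_4_2 lc_a_rc_21_0 lc_a_rc_3_2 lc_a_rc_5_2 lc_a_rc_5_0 lc_a_rc_4_2 lc_a_rc_2_2 lc_a_rc_5_2 lc_a_rc_2_0 lc_a_rc_3_0 lc_a_rc_0_1 lc_a_rc_4_2) (@D3.rec (fun _ => (Cert rels S Gen.a)) lc_a_rc_3_2 lc_a_rc_21_0 lc_a_rc_0_1 lc_a_rc_0_1 lc_a_rc_4_2 lc_a_rc_3_2 lc_a_rc_5_2 lc_a_Cert_tree lc_a_rc_4_2 lc_a_rc_3_2 lc_a_rc_21_0 lc_a_rc_3_2 lc_a_rc_5_2 lc_a_Cert_tree lc_a_rc_3_2 lc_a_Cert_tree lc_a_rc_3_2 lc_a_rc_4_2 lc_a_rc_5_0 lc_a_Cert_tree lc_a_rc_2_2 lc_a_rc_5_2 lc_a_rc_0_1 lc_a_Cert_tree lc_a_rc_5_0 lc_a_rc_21_0 lc_a_rc_3_2 lc_a_rc_21_0 lc_a_rc_5_0 lc_a_rc_21_0 lc_a_rc_4_2 lc_a_rc_2_2 lc_a_rc_4_2 lc_a_rc_2_2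 lc_a_rc_2_2 lc_a_rc_0_1 lc_a_rc_5_2 lc_a_rc_3_2 lc_a_rc_2_2 lc_a_rc_3_2 lc_a_rc_2_2 lc_a_rc_3_2 lc_a_rc_4_2 lc_a_rc_5_0 lc_a_rc_4_2 lc_a_rc_3_2 lc_a_rc_3_2 lc_a_rc_4_2 lc_a_rc_21_0 lc_a_rc_4_2 lc_a_rc_2_2 lc_a_rc_3_2 lc_a_rc_2_2 lc_a_rc_2_2 lc_a_rc_4_2 lc_a_rc_22_0 lc_a_Cert_tree lc_a_rc_3_2 lc_a_rc_2_2 lc_a_rc_21_0 lc_a_rc_22_0 lc_a_rc_3_2) (@D3.rec (fun _ => (Cert rels S Gen.a)) lc_a_rc_2_2 lc_a_rc_0_1 lc_a_rc_0_1 lc_a_rc_1_0 lc_a_rc_3_2 lc_a_rc_3_2 lc_a_rc_2_2 lc_a_Cert_tree lc_a_rc_3_2 lc_a_rc_1_2 lc_a_rc_3_2 lc_a_rc_4_2 lc_a_rc_2_2 lc_a_Cert_tree lc_a_rc_0_1 lc_a_rc_0_1 lc_a_rc_3_2 lc_a_rc_2_2 lc_a_rc_3_2 lc_a_rc_5_2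 lc_a_rc_5_2 lc_a_rc_4_2 lc_a_rc_2_2 lc_a_rc_21_0 lc_a_rc_2_2 lc_a_rc_5_0 lc_a_rc_21_0 lc_a_rc_2_2 lc_a_rc_21_0 lc_a_Cert_tree lc_a_rc_5_0 lc_a_rc_1_2 lc_a_rc_3_2 lc_a_rc_4_2 lc_a_Cert_tree lc_a_rc_5_0 lc_a_rc_3_2 lc_a_rc_3_2 lc_a_rc_2_2 lc_a_rc_1_4 lc_a_rc_4_2 lc_a_rc_22_0 lc_a_rc_4_2 lc_a_rc_0_1 lc_a_rc_2_2 lc_a_rc_2_2 lc_a_rc_4_2 lc_a_rc_2_2 lc_a_rc_3_2 lc_a_rc_4_2 lc_a_rc_1_4 lc_a_rc_1_4 lc_a_rc_4_2 lc_a_rc_1_4 lc_a_rc_2_2 lc_a_rc_5_2 lc_a_rc_3_2 lc_a_rc_2_2 lc_a_rc_3_0 lc_a_rc_2_2 lc_a_rc_3_2 lc_a_rc_2_2) (@D3.rec (fun _ => (Cert rels S Gen.a)) lc_a_rc_2_2 lc_a_rc_4_2 lc_a_rc_1_2 lc_a_rc_4_2 lc_a_rc_4_2 lc_a_rc_2_2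 lc_a_rc_3_2 lc_a_Cert_tree lc_a_rc_22_0 lc_a_rc_22_0 lc_a_rc_4_2 lc_a_rc_0_1 lc_a_rc_3_2 lc_a_rc_4_2 lc_a_rc_2_2 lc_a_rc_3_2 lc_a_rc_21_0 lc_a_Cert_tree lc_a_rc_21_0 lc_a_rc_4_2 lc_a_rc_5_2 lc_a_rc_3_2 lc_a_rc_2_2 lc_a_rc_1_4 lc_a_rc_3_2 lc_a_rc_2_2 lc_a_rc_21_0 lc_a_rc_4_2 lc_a_rc_4_2 lc_a_rc_0_1 lc_a_rc_3_2 lc_a_rc_21_0 lc_a_rc_3_2 lc_a_rc_3_2 lc_a_rc_22_0 lc_a_rc_4_2 lc_a_rc_22_0 lc_a_rc_22_0 lc_a_rc_3_0 lc_a_rc_3_2 lc_a_rc_4_2 lc_a_rc_21_0 lc_a_rc_1_4 lc_a_rc_0_1 lc_a_rc_3_2 lc_a_rc_3_2 lc_a_rc_21_0 lc_a_rc_2_2 lc_a_rc_3_2 lc_a_rc_3_2 lc_a_rc_3_2 lc_a_rc_5_2 lc_a_rc_21_0 lc_a_rc_4_2 lc_a_Cert_tree lc_a_rc_2_2 lc_a_rc_4_2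 lc_a_rc_3_2 lc_a_rc_21_0 lc_a_rc_2_2 lc_a_rc_2_2 lc_a_rc_4_2) (@D3.rec (fun _ => (Cert rels S Gen.a)) lc_a_rc_4_2 lc_a_rc_0_1 lc_a_rc_5_2 lc_a_rc_4_0 lc_a_rc_2_2 lc_a_rc_2_2 lc_a_rc_3_2 lc_a_rc_3_2 lc_a_rc_3_2 lc_a_rc_1_4 lc_a_rc_2_2 lc_a_rc_5_2 lc_a_rc_3_2 lc_a_rc_5_0 lc_a_rc_3_2 lc_a_rc_5_0 lc_a_rc_5_2 lc_a_rc_2_2 lc_a_rc_3_2 lc_a_rc_5_0 lc_a_rc_3_2 lc_a_rc_5_0 lc_a_rc_21_0 lc_a_rc_3_2 lc_a_rc_3_2 lc_a_rc_2_2 lc_a_rc_4_2 lc_a_rc_3_2 lc_a_rc_3_2 lc_a_rc_4_2 lc_a_rc_2_2 lc_a_rc_2_0 lc_a_Cert_tree lc_a_rc_3_2 lc_a_rc_5_2 lc_a_rc_4_2 lc_a_rc_2_2 lc_a_rc_4_2 lc_a_rc_5_0 lc_a_rc_4_2 lc_a_rc_1_4 lc_a_rc_4_2 lc_a_rc_5_0 lc_a_rc_1_4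 lc_a_rc_5_0 lc_a_rc_2_2 lc_a_rc_0_1 lc_a_rc_3_2 lc_a_rc_4_2 lc_a_rc_5_0 lc_a_rc_3_2 lc_a_rc_4_2 lc_a_rc_5_2 lc_a_rc_4_0 lc_a_rc_4_2 lc_a_rc_0_1 lc_a_rc_0_1 lc_a_rc_0_1 lc_a_rc_0_1 lc_a_rc_2_2 lc_a_rc_21_0 lc_a_rc_4_2) (@D3.rec (fun _ => (Cert rels S Gen.a)) lc_a_rc_5_2 lc_a_Cert_tree lc_a_rc_2_2 lc_a_rc_4_2 lc_a_rc_3_0 lc_a_rc_3_2 lc_a_rc_3_2 lc_a_rc_1_4 lc_a_rc_2_2 lc_a_rc_4_2 lc_a_rc_3_0 lc_a_rc_21_0 lc_a_rc_4_2 lc_a_rc_3_2 lc_a_rc_3_2 lc_a_rc_5_2 lc_a_rc_4_2 lc_a_rc_3_2 lc_a_rc_4_2 lc_a_rc_2_2 lc_a_rc_0_1 lc_a_rc_2_0 lc_a_rc_3_2 lc_a_rc_2_2 lc_a_rc_21_0 lc_a_rc_4_2 lc_a_rc_3_2 lc_a_rc_0_1 lc_a_rc_5_0 lc_a_rc_3_2 lc_a_rc_4_2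 lc_a_rc_5_0 lc_a_rc_3_2 lc_a_rc_4_2 lc_a_rc_2_2 lc_a_rc_4_2 lc_a_rc_4_2 lc_a_rc_3_2 lc_a_rc_21_0 lc_a_rc_2_2 lc_a_rc_4_2 lc_a_rc_21_0 lc_a_rc_21_0 lc_a_rc_4_2 lc_a_Cert_tree lc_a_rc_0_1 lc_a_rc_4_2 lc_a_rc_2_0 lc_a_rc_5_2 lc_a_rc_4_2 lc_a_rc_2_2 lc_a_rc_21_0 lc_a_rc_5_2 lc_a_Cert_tree lc_a_rc_5_0 lc_a_rc_4_2 lc_a_Cert_tree lc_a_rc_3_2 lc_a_rc_4_2 lc_a_Cert_tree lc_a_rc_2_2 lc_a_rc_2_0)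
def ce_a_4 : D2 → D3 → (Cert rels S Gen.a) := @D2.rec (fun _ => D3 → (Cert rels S Gen.a)) (@D3.rec (fun _ => (Cert rels S Gen.a)) lc_a_rc_0_1 lc_a_rc_3_2 lc_a_rc_21_0 lc_a_rc_2_2 lc_a_rc_4_2 lc_a_rc_22_0 lc_a_rc_3_2 lc_a_rc_1_4 lc_a_rc_3_2 lc_a_rc_22_0 lc_a_rc_4_2 lc_a_rc_0_1 lc_a_rc_4_2 lc_a_rc_5_2 lc_a_Cert_tree lc_a_rc_4_2 lc_a_rc_21_0 lc_a_rc_4_2 lc_a_Cert_tree lc_a_rc_3_2 lc_a_rc_5_2 lc_a_rc_5_0 lc_a_Cert_tree lc_a_rc_3_2 lc_a_rc_4_0 lc_a_Cert_tree lc_a_rc_4_2 lc_a_rc_0_1 lc_a_rc_3_2 lc_a_rc_21_0 lc_a_rc_3_2 lc_a_rc_4_2 lc_a_rc_2_2 lc_a_rc_5_2 lc_a_rc_21_0 lc_a_rc_3_2 lc_a_rc_0_1 lc_a_rc_1_2 lc_a_rc_3_2 lc_a_rc_0_1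 lc_a_rc_0_1 lc_a_rc_1_4 lc_a_rc_3_2 lc_a_rc_4_2 lc_a_rc_2_0 lc_a_rc_5_0 lc_a_rc_0_1 lc_a_rc_4_2 lc_a_rc_3_2 lc_a_rc_3_2 lc_a_rc_5_2 lc_a_rc_4_2 lc_a_rc_3_0 lc_a_rc_1_4 lc_a_rc_4_2 lc_a_rc_21_0 lc_a_rc_4_2 lc_a_rc_5_2 lc_a_rc_3_2 lc_a_rc_22_0 lc_a_rc_2_2 lc_a_rc_4_2) (@D3.rec (fun _ => (Cert rels S Gen.a)) lc_a_rc_3_0 lc_a_rc_3_0 lc_a_rc_2_2 lc_a_rc_5_2 lc_a_rc_5_0 lc_a_rc_3_2 lc_a_rc_4_2 lc_a_rc_2_2 lc_a_rc_4_2 lc_a_Cert_tree lc_a_rc_4_2 lc_a_rc_3_2 lc_a_rc_2_2 lc_a_rc_3_2 lc_a_rc_21_0 lc_a_rc_4_2 lc_a_rc_2_2 lc_a_rc_3_2 lc_a_rc_2_2 lc_a_rc_2_2 lc_a_rc_4_2 lc_a_rc_21_0 lc_a_rc_3_2 lc_a_Cert_tree lc_a_rc_3_2 lc_a_rc_5_2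 lc_a_rc_3_2 lc_a_rc_4_2 lc_a_rc_2_2 lc_a_rc_2_2 lc_a_Cert_tree lc_a_rc_2_2 lc_a_rc_4_2 lc_a_rc_3_2 lc_a_rc_21_0 lc_a_rc_3_2 lc_a_rc_3_2 lc_a_rc_4_2 lc_a_rc_2_2 lc_a_rc_3_2 lc_a_rc_3_2 lc_a_rc_2_2 lc_a_rc_3_2 lc_a_rc_2_2 lc_a_rc_4_2 lc_a_rc_3_2 lc_a_rc_0_1 lc_a_rc_2_2 lc_a_rc_4_2 lc_a_rc_0_1 lc_a_rc_21_0 lc_a_rc_4_2 lc_a_rc_21_0 lc_a_rc_2_2 lc_a_Cert_tree lc_a_rc_3_2 lc_a_rc_5_2 lc_a_rc_5_0 lc_a_rc_3_2 lc_a_rc_3_2 lc_a_rc_2_2 lc_a_rc_3_2) (@D3.rec (fun _ => (Cert rels S Gen.a)) lc_a_rc_21_0 lc_a_rc_4_2 lc_a_rc_4_2 lc_a_rc_3_2 lc_a_rc_2_2 lc_a_rc_4_2 lc_a_rc_21_0 lc_a_rc_3_2 lc_a_rc_3_2 lc_a_rc_2_2 lc_a_rc_3_2 lc_a_rc_4_2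 lc_a_Cert_tree lc_a_rc_21_0 lc_a_rc_2_2 lc_a_rc_4_2 lc_a_Cert_tree lc_a_rc_0_1 lc_a_rc_0_1 lc_a_rc_3_2 lc_a_rc_1_4 lc_a_rc_21_0 lc_a_rc_3_2 lc_a_rc_2_2 lc_a_rc_4_2 lc_a_rc_22_0 lc_a_rc_5_2 lc_a_rc_4_2 lc_a_rc_4_2 lc_a_Cert_tree lc_a_rc_22_0 lc_a_rc_22_0 lc_a_rc_4_2 lc_a_rc_4_2 lc_a_rc_5_0 lc_a_rc_2_2 lc_a_rc_5_2 lc_a_rc_4_2 lc_a_rc_4_2 lc_a_Cert_tree lc_a_rc_3_2 lc_a_rc_22_0 lc_a_rc_4_2 lc_a_rc_3_2 lc_a_rc_3_2 lc_a_rc_2_2 lc_a_rc_3_2 lc_a_rc_5_2 lc_a_rc_2_2 lc_a_rc_21_0 lc_a_rc_4_2 lc_a_rc_21_0 lc_a_rc_3_2 lc_a_Cert_tree lc_a_rc_22_0 lc_a_rc_22_0 lc_a_rc_4_2 lc_a_rc_21_0 lc_a_rc_4_2 lc_a_rc_4_2 lc_a_rc_5_2 lc_a_rc_0_1)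 (@D3.rec (fun _ => (Cert rels S Gen.a)) lc_a_rc_21_0 lc_a_rc_5_0 lc_a_rc_5_0 lc_a_rc_5_0 lc_a_rc_21_0 lc_a_rc_0_1 lc_a_rc_5_0 lc_a_rc_21_0 lc_a_rc_2_2 lc_a_rc_0_1 lc_a_rc_4_2 lc_a_rc_21_0 lc_a_rc_21_0 lc_a_rc_2_2 lc_a_rc_2_2 lc_a_Cert_tree lc_a_rc_3_2 lc_a_rc_5_2 lc_a_rc_4_2 lc_a_rc_0_1 lc_a_rc_2_2 lc_a_rc_4_2 lc_a_rc_4_0 lc_a_rc_4_0 lc_a_rc_2_2 lc_a_rc_4_2 lc_a_rc_21_0 lc_a_rc_3_2 lc_a_Cert_tree lc_a_rc_4_2 lc_a_rc_21_0 lc_a_rc_2_2 lc_a_rc_3_2 lc_a_rc_4_2 lc_a_rc_2_2 lc_a_rc_3_2 lc_a_rc_3_2 lc_a_rc_4_2 lc_a_rc_3_2 lc_a_rc_21_0 lc_a_rc_2_2 lc_a_rc_4_2 lc_a_rc_3_2 lc_a_rc_5_0 lc_a_rc_1_2 lc_a_rc_2_2 lc_a_Cert_tree lc_a_rc_2_2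 lc_a_rc_3_2 lc_a_rc_21_0 lc_a_rc_4_2 lc_a_rc_5_2 lc_a_rc_2_2 lc_a_rc_21_0 lc_a_rc_4_2 lc_a_Cert_tree lc_a_rc_4_2 lc_a_rc_3_2 lc_a_rc_0_1 lc_a_rc_3_2 lc_a_rc_5_2 lc_a_rc_0_1) (@D3.rec (fun _ => (Cert rels S Gen.a)) lc_a_rc_2_2 lc_a_rc_4_2 lc_a_Cert_tree lc_a_rc_4_2 lc_a_rc_0_1 lc_a_rc_21_0 lc_a_rc_5_2 lc_a_Cert_tree lc_a_rc_4_2 lc_a_Cert_tree lc_a_rc_4_2 lc_a_Cert_tree lc_a_rc_0_1 lc_a_rc_0_1 lc_a_rc_3_2 lc_a_rc_21_0 lc_a_rc_4_2 lc_a_rc_4_2 lc_a_rc_3_2 lc_a_rc_3_2 lc_a_rc_21_0 lc_a_rc_3_2 lc_a_rc_1_2 lc_a_rc_4_2 lc_a_rc_3_2 lc_a_Cert_tree lc_a_rc_4_2 lc_a_rc_1_4 lc_a_rc_21_0 lc_a_rc_4_2 lc_a_rc_4_2 lc_a_rc_0_1 lc_a_rc_3_2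 lc_a_rc_2_2 lc_a_rc_0_1 lc_a_rc_2_2 lc_a_rc_2_2 lc_a_rc_3_2 lc_a_rc_21_0 lc_a_Cert_tree lc_a_rc_2_2 lc_a_rc_1_2 lc_a_rc_1_4 lc_a_rc_4_2 lc_a_rc_5_2 lc_a_rc_22_0 lc_a_rc_2_2 lc_a_rc_4_2 lc_a_rc_4_2 lc_a_rc_3_2 lc_a_rc_4_0 lc_a_rc_5_2 lc_a_Cert_tree lc_a_rc_5_2 lc_a_rc_0_1 lc_a_rc_3_2 lc_a_rc_21_0 lc_a_rc_2_2 lc_a_rc_4_2 lc_a_rc_22_0 lc_a_rc_3_2 lc_a_rc_1_4) (@D3.rec (fun _ => (Cert rels S Gen.a)) lc_a_rc_2_2 lc_a_rc_2_2 lc_a_rc_3_2 lc_a_rc_3_2 lc_a_rc_3_2 lc_a_rc_2_2 lc_a_rc_5_2 lc_a_rc_3_2 lc_a_rc_2_2 lc_a_rc_4_2 lc_a_rc_3_0 lc_a_rc_21_0 lc_a_rc_2_2 lc_a_rc_3_2 lc_a_rc_3_2 lc_a_rc_21_0 lc_a_rc_4_2 lc_a_rc_3_2 lc_a_rc_2_2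 lc_a_rc_4_2 lc_a_rc_21_0 lc_a_rc_5_0 lc_a_rc_4_2 lc_a_rc_2_2 lc_a_rc_2_2 lc_a_rc_3_2 lc_a_rc_5_2 lc_a_rc_4_2 lc_a_rc_3_2 lc_a_rc_5_0 lc_a_rc_4_2 lc_a_rc_5_2 lc_a_rc_4_2 lc_a_rc_3_2 lc_a_rc_2_2 lc_a_rc_4_0 lc_a_rc_3_2 lc_a_rc_3_2 lc_a_rc_2_2 lc_a_rc_2_2 lc_a_rc_0_1 lc_a_rc_5_2 lc_a_rc_3_2 lc_a_rc_0_1 lc_a_rc_3_2 lc_a_rc_4_2 lc_a_rc_4_2 lc_a_rc_0_1 lc_a_rc_0_1 lc_a_rc_1_2 lc_a_rc_4_2 lc_a_rc_3_2 lc_a_rc_2_2 lc_a_rc_5_2 lc_a_Cert_tree lc_a_rc_2_2 lc_a_rc_3_2 lc_a_rc_4_2 lc_a_rc_3_2 lc_a_rc_3_0 lc_a_rc_21_0 lc_a_rc_2_2) (@D3.rec (fun _ => (Cert rels S Gen.a)) lc_a_rc_4_2 lc_a_rc_3_0 lc_a_rc_2_2 lc_a_rc_4_2 lc_a_rc_5_0 lc_a_rc_3_2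 lc_a_rc_5_2 lc_a_rc_2_2 lc_a_rc_3_2 lc_a_rc_3_2 lc_a_rc_2_2 lc_a_rc_2_2 lc_a_rc_3_2 lc_a_rc_4_2 lc_a_rc_3_2 lc_a_rc_2_2 lc_a_rc_5_2 lc_a_rc_3_2 lc_a_rc_2_2 lc_a_rc_0_1 lc_a_rc_21_0 lc_a_rc_21_0 lc_a_rc_3_2 lc_a_rc_1_2 lc_a_rc_5_0 lc_a_rc_3_2 lc_a_rc_4_2 lc_a_rc_1_4 lc_a_rc_3_2 lc_a_rc_2_2 lc_a_rc_4_2 lc_a_rc_5_0 lc_a_rc_3_0 lc_a_rc_2_2 lc_a_rc_4_2 lc_a_rc_3_2 lc_a_rc_2_2 lc_a_rc_4_2 lc_a_rc_2_2 lc_a_rc_2_2 lc_a_Cert_tree lc_a_rc_3_2 lc_a_rc_5_2 lc_a_rc_4_2 lc_a_rc_2_2 lc_a_rc_4_2 lc_a_rc_0_1 lc_a_rc_3_2 lc_a_rc_5_2 lc_a_rc_3_2 lc_a_rc_2_2 lc_a_rc_4_2 lc_a_Cert_tree lc_a_rc_4_2 lc_a_rc_2_2 lc_a_rc_3_0 lc_a_rc_5_0 lc_a_rc_4_2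 lc_a_rc_5_2 lc_a_Cert_tree lc_a_rc_0_1 lc_a_rc_0_1) (@D3.rec (fun _ => (Cert rels S Gen.a)) lc_a_rc_3_2 lc_a_rc_21_0 lc_a_rc_3_0 lc_a_rc_2_2 lc_a_rc_2_2 lc_a_rc_3_2 lc_a_rc_0_1 lc_a_rc_0_1 lc_a_rc_21_0 lc_a_rc_1_4 lc_a_rc_5_2 lc_a_rc_21_0 lc_a_rc_5_0 lc_a_rc_4_0 lc_a_rc_4_2 lc_a_rc_3_2 lc_a_rc_3_2 lc_a_rc_3_0 lc_a_rc_0_1 lc_a_rc_2_0 lc_a_rc_3_0 lc_a_rc_3_2 lc_a_rc_4_2 lc_a_rc_3_0 lc_a_rc_4_2 lc_a_rc_3_0 lc_a_rc_3_2 lc_a_rc_5_2 lc_a_rc_4_2 lc_a_rc_4_0 lc_a_rc_3_2 lc_a_rc_2_2 lc_a_rc_3_2 lc_a_rc_21_0 lc_a_rc_3_2 lc_a_rc_2_2 lc_a_rc_5_2 lc_a_rc_2_2 lc_a_rc_3_0 lc_a_rc_21_0 lc_a_rc_4_2 lc_a_rc_2_2 lc_a_rc_2_2 lc_a_Cert_tree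 lc_a_rc_3_2 lc_a_rc_5_2 lc_a_rc_4_2 lc_a_rc_3_2 lc_a_rc_4_2 lc_a_rc_3_2 lc_a_rc_3_2 lc_a_rc_2_2 lc_a_rc_5_2 lc_a_rc_3_2 lc_a_rc_5_2 lc_a_rc_21_0 lc_a_rc_2_2 lc_a_rc_5_2 lc_a_rc_2_2 lc_a_rc_3_2 lc_a_rc_0_1 lc_a_rc_0_1) (@D3.rec (fun _ => (Cert rels S Gen.a)) lc_a_rc_21_0 lc_a_rc_4_2 lc_a_rc_2_2 lc_a_rc_2_2 lc_a_Cert_tree lc_a_rc_22_0 lc_a_rc_5_2 lc_a_rc_5_0 lc_a_rc_3_2 lc_a_rc_0_1 lc_a_rc_3_2 lc_a_rc_1_4 lc_a_rc_0_1 lc_a_rc_2_2 lc_a_rc_3_2 lc_a_rc_2_2 lc_a_rc_3_2 lc_a_rc_4_2 lc_a_rc_21_0 lc_a_rc_1_2 lc_a_rc_2_2 lc_a_rc_4_2 lc_a_rc_21_0 lc_a_rc_0_1 lc_a_Cert_tree lc_a_rc_3_2 lc_a_rc_5_2 lc_a_rc_4_2 lc_a_rc_3_2 lc_a_rc_2_2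 lc_a_rc_3_2 lc_a_rc_21_0 lc_a_rc_21_0 lc_a_rc_3_2 lc_a_rc_21_0 lc_a_rc_3_2 lc_a_rc_0_1 lc_a_rc_21_0 lc_a_rc_2_2 lc_a_rc_3_2 lc_a_rc_2_2 lc_a_rc_3_2 lc_a_rc_2_2 lc_a_rc_2_2 lc_a_Cert_tree lc_a_rc_3_2 lc_a_rc_2_2 lc_a_rc_5_0 lc_a_rc_4_2 lc_a_rc_4_2 lc_a_rc_5_2 lc_a_rc_2_2 lc_a_rc_3_2 lc_a_rc_3_2 lc_a_rc_4_2 lc_a_rc_3_2 lc_a_rc_2_2 lc_a_rc_1_0 lc_a_rc_1_4 lc_a_rc_2_2 lc_a_rc_4_2 lc_a_rc_21_0) (@D3.rec (fun _ => (Cert rels S Gen.a)) lc_a_rc_3_2 lc_a_rc_1_4 lc_a_rc_2_2 lc_a_rc_3_2 lc_a_rc_1_2 lc_a_rc_3_2 lc_a_rc_2_2 lc_a_Cert_tree lc_a_rc_3_2 lc_a_rc_2_2 lc_a_rc_4_2 lc_a_rc_3_2 lc_a_rc_4_2 lc_a_rc_5_2 lc_a_rc_21_0 lc_a_rc_4_2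 lc_a_rc_3_2 lc_a_rc_0_1 lc_a_rc_22_0 lc_a_rc_0_1 lc_a_Cert_tree lc_a_rc_3_2 lc_a_rc_2_2 lc_a_rc_1_0 lc_a_rc_2_2 lc_a_rc_0_1 lc_a_rc_4_2 lc_a_rc_1_4 lc_a_rc_5_2 lc_a_rc_0_1 lc_a_rc_5_0 lc_a_rc_4_2 lc_a_Cert_tree lc_a_rc_21_0 lc_a_rc_4_2 lc_a_rc_21_0 lc_a_rc_4_2 lc_a_rc_5_0 lc_a_rc_3_2 lc_a_rc_5_2 lc_a_Cert_tree lc_a_rc_0_1 lc_a_rc_3_2 lc_a_rc_4_2 lc_a_Cert_tree lc_a_rc_3_2 lc_a_rc_4_2 lc_a_Cert_tree lc_a_rc_3_2 lc_a_rc_0_1 lc_a_rc_3_2 lc_a_rc_21_0 lc_a_rc_3_2 lc_a_rc_3_2 lc_a_rc_0_1 lc_a_rc_4_2 lc_a_rc_22_0 lc_a_rc_4_2 lc_a_rc_4_2 lc_a_rc_21_0 lc_a_rc_3_2 lc_a_rc_4_2) (@D3.rec (fun _ => (Cert rels S Gen.a)) lc_a_rc_2_2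 lc_a_rc_4_2 lc_a_rc_4_2 lc_a_rc_5_2 lc_a_rc_3_2 lc_a_rc_3_0 lc_a_rc_2_2 lc_a_rc_4_2 lc_a_rc_5_0 lc_a_rc_21_0 lc_a_rc_2_2 lc_a_rc_2_2 lc_a_rc_4_2 lc_a_rc_2_2 lc_a_rc_4_2 lc_a_rc_21_0 lc_a_rc_2_2 lc_a_Cert_tree lc_a_rc_3_2 lc_a_rc_4_2 lc_a_rc_5_0 lc_a_rc_4_2 lc_a_rc_5_2 lc_a_Cert_tree lc_a_rc_4_2 lc_a_Cert_tree lc_a_rc_4_2 lc_a_rc_3_2 lc_a_rc_5_0 lc_a_rc_0_1 lc_a_rc_0_1 lc_a_rc_2_2 lc_a_rc_2_2 lc_a_rc_2_2 lc_a_rc_5_0 lc_a_rc_21_0 lc_a_rc_3_2 lc_a_rc_2_2 lc_a_rc_4_2 lc_a_rc_2_2 lc_a_rc_4_2 lc_a_rc_3_0 lc_a_rc_2_2 lc_a_rc_3_2 lc_a_rc_2_2 lc_a_rc_2_2 lc_a_Cert_tree lc_a_rc_3_2 lc_a_rc_4_2 lc_a_rc_0_1 lc_a_rc_4_2 lc_a_rc_5_2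 lc_a_rc_2_2 lc_a_rc_5_0 lc_a_Cert_tree lc_a_rc_0_1 lc_a_rc_0_1 lc_a_rc_2_2 lc_a_rc_21_0 lc_a_rc_0_1 lc_a_rc_4_2 lc_a_rc_5_2) (@D3.rec (fun _ => (Cert rels S Gen.a)) lc_a_Cert_tree lc_a_rc_2_2 lc_a_rc_4_2 lc_a_rc_5_2 lc_a_rc_2_2 lc_a_Cert_tree lc_a_rc_3_2 lc_a_rc_4_2 lc_a_rc_3_2 lc_a_rc_3_2 lc_a_rc_3_2 lc_a_rc_5_2 lc_a_rc_21_0 lc_a_rc_0_1 lc_a_rc_0_1 lc_a_rc_1_2 lc_a_rc_5_0 lc_a_rc_2_2 lc_a_rc_3_2 lc_a_rc_5_2 lc_a_rc_5_0 lc_a_rc_5_0 lc_a_rc_0_1 lc_a_rc_2_2 lc_a_rc_2_2 lc_a_rc_4_2 lc_a_rc_0_1 lc_a_rc_2_0 lc_a_Cert_tree lc_a_rc_3_2 lc_a_rc_4_2 lc_a_rc_4_2 lc_a_rc_5_0 lc_a_rc_5_2 lc_a_rc_21_0 lc_a_rc_0_1 lc_a_rc_0_1 lc_a_rc_1_4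 lc_a_rc_3_2 lc_a_rc_5_2 lc_a_rc_21_0 lc_a_rc_21_0 lc_a_rc_0_1 lc_a_rc_5_0 lc_a_rc_0_1 lc_a_rc_2_2 lc_a_rc_0_1 lc_a_rc_0_1 lc_a_Cert_tree lc_a_rc_2_2 lc_a_rc_3_2 lc_a_rc_4_2 lc_a_rc_5_2 lc_a_rc_3_0 lc_a_rc_2_2 lc_a_rc_3_2 lc_a_rc_0_1 lc_a_rc_3_2 lc_a_rc_21_0 lc_a_rc_2_2 lc_a_rc_2_2 lc_a_rc_4_2) (@D3.rec (fun _ => (Cert rels S Gen.a)) lc_a_rc_4_2 lc_a_rc_2_2 lc_a_rc_2_2 lc_a_rc_21_0 lc_a_rc_4_2 lc_a_rc_4_2 lc_a_rc_3_2 lc_a_rc_1_4 lc_a_Cert_tree lc_a_rc_3_2 lc_a_rc_5_2 lc_a_rc_3_2 lc_a_rc_5_0 lc_a_rc_4_2 lc_a_rc_2_2 lc_a_rc_4_2 lc_a_rc_1_4 lc_a_rc_5_2 lc_a_rc_21_0 lc_a_rc_5_0 lc_a_rc_4_2 lc_a_rc_21_0 lc_a_rc_2_2 lc_a_rc_3_2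 lc_a_rc_2_2 lc_a_rc_2_2 lc_a_rc_4_0 lc_a_rc_3_2 lc_a_rc_4_2 lc_a_rc_5_0 lc_a_rc_4_2 lc_a_rc_5_2 lc_a_rc_1_4 lc_a_rc_2_2 lc_a_rc_2_2 lc_a_rc_2_2 lc_a_rc_4_2 lc_a_Cert_tree lc_a_rc_4_2 lc_a_rc_21_0 lc_a_rc_0_1 lc_a_rc_5_2 lc_a_rc_2_2 lc_a_rc_4_2 lc_a_rc_4_2 lc_a_rc_4_2 lc_a_rc_2_0 lc_a_rc_3_2 lc_a_rc_4_2 lc_a_rc_2_2 lc_a_rc_2_2 lc_a_rc_2_2 lc_a_rc_1_4 lc_a_rc_21_0 lc_a_rc_4_2 lc_a_rc_3_2 lc_a_rc_21_0 lc_a_rc_4_2 lc_a_rc_2_2 lc_a_rc_4_2 lc_a_rc_1_4 lc_a_rc_5_2) (@D3.rec (fun _ => (Cert rels S Gen.a)) lc_a_rc_3_2 lc_a_rc_2_2 lc_a_rc_3_2 lc_a_rc_3_2 lc_a_rc_21_0 lc_a_rc_4_2 lc_a_rc_2_2 lc_a_rc_21_0 lc_a_Cert_tree lc_a_rc_3_2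 lc_a_rc_4_2 lc_a_rc_0_1 lc_a_rc_5_2 lc_a_rc_2_2 lc_a_rc_21_0 lc_a_rc_21_0 lc_a_rc_4_0 lc_a_Cert_tree lc_a_rc_0_1 lc_a_rc_3_0 lc_a_rc_5_0 lc_a_rc_21_0 lc_a_rc_0_1 lc_a_rc_2_2 lc_a_rc_3_2 lc_a_rc_5_2 lc_a_Cert_tree lc_a_rc_1_2 lc_a_rc_5_2 lc_a_rc_0_1 lc_a_rc_0_1 lc_a_rc_3_2 lc_a_rc_21_0 lc_a_rc_22_0 lc_a_rc_4_2 lc_a_rc_22_0 lc_a_rc_4_0 lc_a_rc_3_2 lc_a_rc_3_2 lc_a_rc_21_0 lc_a_rc_2_2 lc_a_rc_5_2 lc_a_rc_3_2 lc_a_rc_5_2 lc_a_rc_3_2 lc_a_rc_4_2 lc_a_rc_21_0 lc_a_rc_2_2 lc_a_rc_5_2 lc_a_rc_3_2 lc_a_rc_2_2 lc_a_rc_21_0 lc_a_rc_2_2 lc_a_rc_5_2 lc_a_rc_3_0 lc_a_rc_1_4 lc_a_rc_2_2 lc_a_rc_5_2 lc_a_rc_3_2 lc_a_rc_5_0 lc_a_rc_3_0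 lc_a_rc_2_2) (@D3.rec (fun _ => (Cert rels S Gen.a)) lc_a_rc_3_2 lc_a_rc_21_0 lc_a_rc_3_2 lc_a_rc_2_0 lc_a_rc_5_0 lc_a_rc_0_1 lc_a_rc_21_0 lc_a_rc_4_2 lc_a_rc_21_0 lc_a_rc_2_2 lc_a_rc_4_2 lc_a_rc_3_2 lc_a_rc_21_0 lc_a_rc_4_2 lc_a_rc_5_2 lc_a_Cert_tree lc_a_rc_3_2 lc_a_rc_21_0 lc_a_rc_4_2 lc_a_rc_21_0 lc_a_rc_4_2 lc_a_rc_2_2 lc_a_rc_3_2 lc_a_Cert_tree lc_a_rc_3_2 lc_a_rc_22_0 lc_a_rc_5_2 lc_a_Cert_tree lc_a_rc_4_2 lc_a_rc_21_0 lc_a_rc_3_2 lc_a_rc_4_2 lc_a_rc_4_2 lc_a_rc_2_2 lc_a_rc_22_0 lc_a_rc_4_2 lc_a_Cert_tree lc_a_rc_4_2 lc_a_rc_5_0 lc_a_rc_4_2 lc_a_rc_3_2 lc_a_rc_5_2 lc_a_rc_4_2 lc_a_rc_4_2 lc_a_rc_5_0 lc_a_rc_5_2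 lc_a_Cert_tree lc_a_rc_0_1 lc_a_rc_0_1 lc_a_rc_3_2 lc_a_rc_21_0 lc_a_rc_4_2 lc_a_rc_4_2 lc_a_rc_3_2 lc_a_rc_3_2 lc_a_rc_2_2 lc_a_rc_3_0 lc_a_rc_21_0 lc_a_rc_4_2 lc_a_rc_21_0 lc_a_rc_2_2 lc_a_Cert_tree) (@D3.rec (fun _ => (Cert rels S Gen.a)) lc_a_rc_2_2 lc_a_rc_5_2 lc_a_rc_4_2 lc_a_rc_1_0 lc_a_rc_3_0 lc_a_rc_2_2 lc_a_rc_5_2 lc_a_rc_2_2 lc_a_rc_3_2 lc_a_rc_0_1 lc_a_rc_1_4 lc_a_rc_22_0 lc_a_rc_4_2 lc_a_rc_2_2 lc_a_rc_21_0 lc_a_Cert_tree lc_a_rc_3_2 lc_a_rc_22_0 lc_a_rc_4_2 lc_a_rc_3_2 lc_a_rc_2_0 lc_a_rc_3_0 lc_a_rc_2_2 lc_a_rc_4_2 lc_a_rc_2_2 lc_a_rc_4_2 lc_a_rc_1_4 lc_a_rc_2_2 lc_a_rc_4_2 lc_a_rc_22_0 lc_a_rc_4_2 lc_a_rc_4_2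 lc_a_rc_2_2 lc_a_Cert_tree lc_a_rc_3_2 lc_a_rc_5_2 lc_a_rc_4_2 lc_a_rc_2_2 lc_a_rc_4_2 lc_a_rc_21_0 lc_a_rc_3_0 lc_a_rc_2_2 lc_a_rc_2_2 lc_a_Cert_tree lc_a_rc_21_0 lc_a_rc_4_2 lc_a_rc_5_0 lc_a_rc_4_2 lc_a_rc_4_2 lc_a_rc_5_2 lc_a_rc_21_0 lc_a_rc_3_2 lc_a_rc_4_2 lc_a_rc_3_2 lc_a_rc_2_2 lc_a_rc_4_2 lc_a_rc_21_0 lc_a_rc_2_2 lc_a_rc_4_2 lc_a_Cert_tree lc_a_rc_2_2 lc_a_rc_4_2) (@D3.rec (fun _ => (Cert rels S Gen.a)) lc_a_rc_3_0 lc_a_rc_3_2 lc_a_rc_5_2 lc_a_rc_21_0 lc_a_rc_2_0 lc_a_Cert_tree lc_a_rc_3_2 lc_a_rc_4_2 lc_a_rc_5_0 lc_a_rc_4_2 lc_a_rc_0_1 lc_a_rc_5_2 lc_a_rc_2_2 lc_a_rc_4_2 lc_a_Cert_tree lc_a_rc_2_0 lc_a_rc_4_2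 lc_a_rc_4_2 lc_a_rc_21_0 lc_a_rc_3_2 lc_a_rc_5_2 lc_a_Cert_tree lc_a_rc_1_2 lc_a_rc_3_2 lc_a_rc_21_0 lc_a_Cert_tree lc_a_rc_1_4 lc_a_rc_5_0 lc_a_rc_2_2 lc_a_rc_1_4 lc_a_rc_1_4 lc_a_rc_0_1 lc_a_rc_3_2 lc_a_rc_3_2 lc_a_rc_2_2 lc_a_rc_0_1 lc_a_rc_4_2 lc_a_rc_22_0 lc_a_rc_4_2 lc_a_rc_4_2 lc_a_rc_4_2 lc_a_rc_3_2 lc_a_rc_2_2 lc_a_rc_4_2 lc_a_rc_2_2 lc_a_rc_4_2 lc_a_rc_2_2 lc_a_rc_4_2 lc_a_rc_3_0 lc_a_rc_2_2 lc_a_rc_3_2 lc_a_rc_2_2 lc_a_rc_21_0 lc_a_Cert_tree lc_a_rc_3_2 lc_a_rc_4_2 lc_a_rc_5_0 lc_a_rc_4_2 lc_a_rc_5_2 lc_a_rc_0_1 lc_a_rc_3_2 lc_a_rc_2_2) (@D3.rec (fun _ => (Cert rels S Gen.a)) lc_a_rc_4_2 lc_a_Cert_tree lc_a_rc_21_0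 lc_a_rc_3_2 lc_a_rc_5_2 lc_a_rc_21_0 lc_a_rc_4_2 lc_a_rc_0_1 lc_a_rc_5_0 lc_a_rc_0_1 lc_a_rc_5_0 lc_a_rc_21_0 lc_a_rc_22_0 lc_a_rc_4_2 lc_a_rc_2_2 lc_a_rc_4_2 lc_a_rc_5_2 lc_a_rc_3_0 lc_a_rc_2_2 lc_a_rc_4_2 lc_a_rc_2_2 lc_a_rc_4_2 lc_a_rc_2_2 lc_a_rc_2_2 lc_a_Cert_tree lc_a_rc_3_2 lc_a_rc_4_2 lc_a_rc_0_1 lc_a_rc_5_2 lc_a_rc_1_4 lc_a_rc_5_0 lc_a_rc_3_2 lc_a_rc_0_1 lc_a_rc_1_4 lc_a_rc_2_0 lc_a_rc_5_2 lc_a_rc_2_2 lc_a_rc_2_2 lc_a_rc_4_2 lc_a_rc_5_2 lc_a_rc_2_0 lc_a_Cert_tree lc_a_rc_3_2 lc_a_rc_4_2 lc_a_rc_21_0 lc_a_rc_4_2 lc_a_rc_5_2 lc_a_rc_21_0 lc_a_rc_2_2 lc_a_rc_0_1 lc_a_rc_0_1 lc_a_rc_5_0 lc_a_rc_2_2 lc_a_rc_3_2 lc_a_rc_5_2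 lc_a_rc_21_0 lc_a_rc_5_0 lc_a_rc_2_2 lc_a_rc_3_2 lc_a_rc_21_0 lc_a_rc_2_2 lc_a_rc_4_2) (@D3.rec (fun _ => (Cert rels S Gen.a)) lc_a_rc_2_2 lc_a_rc_0_1 lc_a_Cert_tree lc_a_rc_3_2 lc_a_rc_4_2 lc_a_rc_21_0 lc_a_rc_0_1 lc_a_rc_5_2 lc_a_rc_21_0 lc_a_rc_3_2 lc_a_rc_0_1 lc_a_rc_3_0 lc_a_rc_5_2 lc_a_rc_3_2 lc_a_rc_5_0 lc_a_rc_2_2 lc_a_rc_3_2 lc_a_rc_0_1 lc_a_rc_3_2 lc_a_rc_5_0 lc_a_Cert_tree lc_a_rc_0_1 lc_a_rc_2_2 lc_a_Cert_tree lc_a_rc_21_0 lc_a_rc_21_0 lc_a_rc_4_2 lc_a_rc_3_0 lc_a_rc_0_1 lc_a_rc_3_2 lc_a_rc_3_0 lc_a_rc_4_2 lc_a_rc_4_2 lc_a_rc_3_2 lc_a_rc_21_0 lc_a_rc_3_2 lc_a_rc_3_2 lc_a_rc_2_2 lc_a_rc_4_2 lc_a_rc_2_2 lc_a_rc_4_2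 lc_a_rc_5_2 lc_a_rc_3_2 lc_a_rc_2_2 lc_a_rc_4_2 lc_a_rc_2_2 lc_a_rc_3_2 lc_a_rc_2_2 lc_a_rc_2_2 lc_a_rc_21_0 lc_a_rc_2_0 lc_a_rc_4_2 lc_a_rc_5_0 lc_a_rc_4_2 lc_a_rc_5_2 lc_a_rc_5_0 lc_a_rc_21_0 lc_a_rc_0_1 lc_a_rc_2_2 lc_a_rc_0_1 lc_a_rc_2_2 lc_a_rc_4_2) (@D3.rec (fun _ => (Cert rels S Gen.a)) lc_a_rc_0_1 lc_a_rc_0_1 lc_a_Cert_tree lc_a_rc_4_2 lc_a_rc_2_0 lc_a_rc_0_1 lc_a_rc_2_0 lc_a_rc_0_1 lc_a_rc_4_2 lc_a_rc_4_2 lc_a_rc_3_2 lc_a_Cert_tree lc_a_rc_2_2 lc_a_rc_21_0 lc_a_rc_3_2 lc_a_rc_4_2 lc_a_rc_5_2 lc_a_rc_3_2 lc_a_rc_2_2 lc_a_rc_5_2 lc_a_rc_3_2 lc_a_rc_3_2 lc_a_rc_2_2 lc_a_rc_4_2 lc_a_rc_2_2 lc_a_rc_4_2 lc_a_rc_5_2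 lc_a_rc_21_0 lc_a_rc_2_2 lc_a_rc_3_2 lc_a_rc_21_0 lc_a_rc_5_0 lc_a_rc_4_2 lc_a_rc_2_0 lc_a_rc_2_2 lc_a_rc_5_2 lc_a_rc_3_2 lc_a_rc_4_2 lc_a_rc_0_1 lc_a_rc_4_2 lc_a_rc_0_1 lc_a_rc_2_2 lc_a_rc_3_2 lc_a_rc_21_0 lc_a_rc_2_2 lc_a_Cert_tree lc_a_rc_21_0 lc_a_rc_0_1 lc_a_rc_5_2 lc_a_rc_4_0 lc_a_rc_2_2 lc_a_rc_4_2 lc_a_rc_21_0 lc_a_rc_0_1 lc_a_rc_2_2 lc_a_rc_4_2 lc_a_rc_2_2 lc_a_rc_4_2 lc_a_rc_2_2 lc_a_rc_2_2 lc_a_Cert_tree lc_a_rc_22_0) (@D3.rec (fun _ => (Cert rels S Gen.a)) lc_a_rc_22_0 lc_a_rc_4_2 lc_a_rc_2_2 lc_a_rc_4_2 lc_a_rc_21_0 lc_a_rc_3_2 lc_a_rc_3_2 lc_a_rc_21_0 lc_a_rc_2_2 lc_a_rc_4_2 lc_a_rc_4_2 lc_a_rc_0_1 lc_a_rc_0_1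 lc_a_rc_3_2 lc_a_rc_21_0 lc_a_rc_3_2 lc_a_rc_22_0 lc_a_rc_4_2 lc_a_rc_22_0 lc_a_rc_3_0 lc_a_rc_21_0 lc_a_rc_0_1 lc_a_rc_3_2 lc_a_rc_21_0 lc_a_rc_4_2 lc_a_rc_2_2 lc_a_Cert_tree lc_a_rc_3_2 lc_a_rc_22_0 lc_a_rc_4_2 lc_a_rc_3_2 lc_a_rc_4_2 lc_a_rc_5_0 lc_a_rc_2_2 lc_a_rc_4_2 lc_a_rc_1_4 lc_a_rc_2_2 lc_a_rc_0_1 lc_a_rc_0_1 lc_a_rc_3_2 lc_a_rc_2_2 lc_a_rc_3_2 lc_a_rc_21_0 lc_a_rc_2_2 lc_a_rc_4_2 lc_a_rc_22_0 lc_a_rc_4_2 lc_a_rc_3_2 lc_a_rc_3_2 lc_a_Cert_tree lc_a_rc_3_2 lc_a_rc_5_2 lc_a_rc_4_2 lc_a_rc_2_2 lc_a_rc_5_2 lc_a_rc_4_2 lc_a_rc_4_2 lc_a_rc_4_2 lc_a_Cert_tree lc_a_rc_3_2 lc_a_rc_2_2 lc_a_rc_4_2) (@D3.rec (fun _ =>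 (Cert rels S Gen.a)) lc_a_rc_2_2 lc_a_rc_5_2 lc_a_rc_2_2 lc_a_rc_0_1 lc_a_rc_3_2 lc_a_rc_1_2 lc_a_rc_2_2 lc_a_rc_3_2 lc_a_rc_4_2 lc_a_rc_21_0 lc_a_rc_21_0 lc_a_rc_4_2 lc_a_rc_21_0 lc_a_rc_2_0 lc_a_Cert_tree lc_a_rc_0_1 lc_a_rc_5_2 lc_a_rc_4_2 lc_a_rc_2_2 lc_a_rc_3_2 lc_a_rc_0_1 lc_a_rc_3_2 lc_a_rc_21_0 lc_a_rc_2_2 lc_a_rc_4_2 lc_a_Cert_tree lc_a_rc_3_2 lc_a_rc_2_2 lc_a_rc_4_2 lc_a_rc_2_2 lc_a_rc_4_2 lc_a_rc_21_0 lc_a_Cert_tree lc_a_rc_3_2 lc_a_rc_2_2 lc_a_rc_5_0 lc_a_rc_4_2 lc_a_rc_5_2 lc_a_rc_3_2 lc_a_rc_2_2 lc_a_rc_4_2 lc_a_Cert_tree lc_a_rc_2_2 lc_a_rc_4_2 lc_a_rc_21_0 lc_a_rc_3_2 lc_a_rc_5_2 lc_a_Cert_tree lc_a_rc_2_2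 lc_a_rc_4_2 lc_a_rc_21_0 lc_a_rc_4_2 lc_a_rc_3_2 lc_a_rc_5_2 lc_a_rc_21_0 lc_a_rc_4_2 lc_a_Cert_tree lc_a_rc_2_2 lc_a_rc_4_2 lc_a_rc_21_0 lc_a_rc_0_1 lc_a_rc_4_2) (@D3.rec (fun _ => (Cert rels S Gen.a)) lc_a_Cert_tree lc_a_rc_5_0 lc_a_rc_4_2 lc_a_Cert_tree lc_a_rc_2_2 lc_a_rc_4_2 lc_a_Cert_tree lc_a_rc_0_1 lc_a_rc_0_1 lc_a_rc_3_2 lc_a_rc_21_0 lc_a_rc_21_0 lc_a_rc_3_2 lc_a_rc_4_2 lc_a_rc_4_2 lc_a_rc_4_2 lc_a_rc_4_2 lc_a_rc_3_0 lc_a_rc_2_2 lc_a_rc_3_2 lc_a_rc_21_0 lc_a_rc_5_2 lc_a_Cert_tree lc_a_rc_2_2 lc_a_rc_21_0 lc_a_rc_5_2 lc_a_rc_4_0 lc_a_rc_3_2 lc_a_rc_2_2 lc_a_rc_4_2 lc_a_rc_4_0 lc_a_rc_0_1 lc_a_rc_3_2 lc_a_rc_4_2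 lc_a_rc_4_2 lc_a_rc_4_2 lc_a_rc_21_0 lc_a_rc_21_0 lc_a_rc_5_0 lc_a_rc_3_2 lc_a_rc_0_1 lc_a_rc_4_2 lc_a_Cert_tree lc_a_rc_4_2 lc_a_rc_4_0 lc_a_rc_5_2 lc_a_rc_0_1 lc_a_rc_1_2 lc_a_rc_0_1 lc_a_rc_3_2 lc_a_rc_3_2 lc_a_rc_2_0 lc_a_rc_21_0 lc_a_rc_0_1 lc_a_rc_3_2 lc_a_rc_5_0 lc_a_rc_3_2 lc_a_rc_3_2 lc_a_rc_3_2 lc_a_rc_4_2 lc_a_rc_3_2 lc_a_rc_22_0) (@D3.rec (fun _ => (Cert rels S Gen.a)) lc_a_rc_2_2 lc_a_rc_2_2 lc_a_rc_4_0 lc_a_rc_1_2 lc_a_rc_3_2 lc_a_rc_4_2 lc_a_rc_2_2 lc_a_rc_21_0 lc_a_rc_2_2 lc_a_rc_3_2 lc_a_rc_3_2 lc_a_rc_22_0 lc_a_rc_4_2 lc_a_rc_3_2 lc_a_rc_3_2 lc_a_rc_4_2 lc_a_rc_0_1 lc_a_rc_0_1 lc_a_rc_1_2 lc_a_rc_5_2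 lc_a_rc_0_1 lc_a_rc_0_1 lc_a_rc_5_2 lc_a_rc_4_2 lc_a_rc_2_2 lc_a_rc_3_2 lc_a_rc_4_2 lc_a_rc_3_2 lc_a_rc_3_2 lc_a_rc_1_4 lc_a_rc_2_2 lc_a_rc_4_2 lc_a_rc_3_0 lc_a_rc_1_2 lc_a_Cert_tree lc_a_rc_4_2 lc_a_Cert_tree lc_a_rc_4_2 lc_a_Cert_tree lc_a_rc_4_2 lc_a_rc_3_2 lc_a_rc_5_0 lc_a_rc_5_2 lc_a_rc_4_2 lc_a_rc_3_2 lc_a_rc_1_2 lc_a_rc_1_4 lc_a_rc_0_1 lc_a_rc_3_2 lc_a_rc_1_4 lc_a_rc_4_2 lc_a_rc_3_2 lc_a_rc_21_0 lc_a_rc_4_2 lc_a_rc_21_0 lc_a_rc_4_2 lc_a_rc_1_2 lc_a_rc_4_2 lc_a_rc_3_2 lc_a_rc_2_2 lc_a_rc_2_2 lc_a_rc_2_2) (@D3.rec (fun _ => (Cert rels S Gen.a)) lc_a_rc_1_4 lc_a_rc_3_0 lc_a_rc_3_0 lc_a_rc_1_4 lc_a_rc_4_2 lc_a_rc_5_0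 lc_a_rc_4_2 lc_a_rc_2_2 lc_a_rc_1_4 lc_a_rc_4_2 lc_a_rc_2_2 lc_a_rc_2_2 lc_a_rc_21_0 lc_a_rc_4_2 lc_a_rc_1_2 lc_a_rc_2_2 lc_a_rc_4_2 lc_a_rc_3_2 lc_a_rc_4_2 lc_a_rc_5_2 lc_a_rc_2_2 lc_a_rc_2_2 lc_a_rc_4_2 lc_a_rc_3_2 lc_a_rc_4_2 lc_a_rc_0_1 lc_a_rc_3_2 lc_a_rc_2_2 lc_a_rc_22_0 lc_a_rc_3_0 lc_a_rc_2_2 lc_a_rc_5_2 lc_a_rc_5_0 lc_a_rc_1_2 lc_a_rc_4_2 lc_a_rc_3_2 lc_a_rc_2_2 lc_a_rc_4_2 lc_a_rc_2_2 lc_a_rc_5_0 lc_a_rc_5_2 lc_a_rc_2_2 lc_a_rc_2_2 lc_a_rc_4_2 lc_a_rc_3_2 lc_a_rc_4_2 lc_a_rc_21_0 lc_a_rc_0_1 lc_a_rc_2_2 lc_a_rc_4_2 lc_a_rc_4_0 lc_a_rc_2_2 lc_a_rc_3_2 lc_a_rc_5_2 lc_a_rc_4_2 lc_a_rc_5_0 lc_a_rc_3_2 lc_a_rc_4_2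 lc_a_rc_21_0 lc_a_rc_1_4 lc_a_rc_3_2 lc_a_rc_21_0) (@D3.rec (fun _ => (Cert rels S Gen.a)) lc_a_rc_3_2 lc_a_rc_22_0 lc_a_rc_3_2 lc_a_rc_4_0 lc_a_rc_2_2 lc_a_rc_21_0 lc_a_rc_3_2 lc_a_rc_4_2 lc_a_rc_5_0 lc_a_rc_4_2 lc_a_rc_5_2 lc_a_rc_2_2 lc_a_rc_5_2 lc_a_rc_3_2 lc_a_rc_3_2 lc_a_rc_21_0 lc_a_rc_1_2 lc_a_rc_2_2 lc_a_rc_2_2 lc_a_rc_4_2 lc_a_rc_3_2 lc_a_rc_4_2 lc_a_rc_21_0 lc_a_rc_2_2 lc_a_rc_2_2 lc_a_rc_4_2 lc_a_rc_21_0 lc_a_rc_2_2 lc_a_rc_0_1 lc_a_rc_4_2 lc_a_rc_4_2 lc_a_rc_5_0 lc_a_rc_3_2 lc_a_rc_5_2 lc_a_rc_5_0 lc_a_rc_3_2 lc_a_rc_22_0 lc_a_rc_21_0 lc_a_rc_3_2 lc_a_rc_4_2 lc_a_rc_21_0 lc_a_rc_3_2 lc_a_rc_4_2 lc_a_rc_1_2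 lc_a_rc_3_2 lc_a_rc_4_2 lc_a_rc_1_0 lc_a_rc_0_1 lc_a_rc_3_2 lc_a_rc_4_2 lc_a_rc_2_2 lc_a_rc_0_1 lc_a_rc_2_2 lc_a_rc_4_2 lc_a_rc_3_2 lc_a_rc_0_1 lc_a_rc_3_2 lc_a_rc_0_1 lc_a_rc_4_2 lc_a_rc_3_2 lc_a_rc_4_2 lc_a_rc_3_2) (@D3.rec (fun _ => (Cert rels S Gen.a)) lc_a_rc_1_2 lc_a_rc_3_2 lc_a_rc_4_2 lc_a_rc_2_0 lc_a_rc_3_2 lc_a_rc_21_0 lc_a_rc_3_2 lc_a_rc_3_2 lc_a_rc_2_2 lc_a_rc_4_2 lc_a_Cert_tree lc_a_rc_2_2 lc_a_rc_4_2 lc_a_Cert_tree lc_a_rc_22_0 lc_a_rc_4_2 lc_a_rc_0_1 lc_a_rc_21_0 lc_a_Cert_tree lc_a_rc_3_2 lc_a_rc_4_2 lc_a_rc_2_2 lc_a_rc_0_1 lc_a_rc_4_0 lc_a_rc_5_2 lc_a_rc_4_2 lc_a_rc_1_2 lc_a_rc_3_2 lc_a_rc_0_1 lc_a_rc_2_2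 lc_a_rc_4_2 lc_a_rc_5_0 lc_a_rc_4_2 lc_a_rc_3_2 lc_a_rc_4_2 lc_a_rc_21_0 lc_a_rc_2_2 lc_a_rc_0_1 lc_a_rc_4_2 lc_a_rc_2_2 lc_a_rc_4_2 lc_a_rc_3_2 lc_a_rc_5_2 lc_a_Cert_tree lc_a_rc_4_2 lc_a_rc_3_2 lc_a_rc_5_2 lc_a_Cert_tree lc_a_rc_21_0 lc_a_rc_21_0 lc_a_rc_4_2 lc_a_rc_5_2 lc_a_rc_5_0 lc_a_rc_4_2 lc_a_rc_3_2 lc_a_rc_3_2 lc_a_rc_4_0 lc_a_rc_21_0 lc_a_rc_2_0 lc_a_rc_0_1 lc_a_rc_3_2 lc_a_rc_22_0) (@D3.rec (fun _ => (Cert rels S Gen.a)) lc_a_rc_21_0 lc_a_rc_2_2 lc_a_rc_21_0 lc_a_rc_5_0 lc_a_rc_0_1 lc_a_rc_3_2 lc_a_rc_4_2 lc_a_rc_21_0 lc_a_rc_4_2 lc_a_rc_3_2 lc_a_rc_2_2 lc_a_rc_5_2 lc_a_rc_2_2 lc_a_rc_4_2 lc_a_rc_2_2 lc_a_rc_4_2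 lc_a_rc_2_2 lc_a_rc_5_0 lc_a_Cert_tree lc_a_rc_2_0 lc_a_rc_22_0 lc_a_rc_4_2 lc_a_rc_2_2 lc_a_rc_4_2 lc_a_rc_2_2 lc_a_rc_4_2 lc_a_rc_2_2 lc_a_rc_5_0 lc_a_Cert_tree lc_a_rc_22_0 lc_a_rc_3_2 lc_a_rc_4_2 lc_a_rc_2_2 lc_a_rc_4_2 lc_a_rc_2_2 lc_a_rc_4_2 lc_a_rc_2_2 lc_a_rc_3_2 lc_a_Cert_tree lc_a_rc_3_2 lc_a_rc_5_2 lc_a_rc_4_2 lc_a_rc_3_2 lc_a_rc_4_2 lc_a_rc_3_2 lc_a_rc_4_2 lc_a_rc_2_2 lc_a_rc_4_2 lc_a_rc_2_2 lc_a_rc_3_2 lc_a_rc_5_0 lc_a_rc_2_2 lc_a_Cert_tree lc_a_rc_3_2 lc_a_rc_4_2 lc_a_Cert_tree lc_a_rc_5_0 lc_a_rc_3_2 lc_a_rc_5_2 lc_a_rc_2_2 lc_a_Cert_tree lc_a_rc_22_0) (@D3.rec (fun _ => (Cert rels S Gen.a)) lc_a_rc_4_2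 lc_a_rc_3_0 lc_a_rc_3_0 lc_a_rc_5_2 lc_a_rc_2_2 lc_a_rc_4_2 lc_a_rc_2_0 lc_a_rc_2_0 lc_a_Cert_tree lc_a_rc_2_2 lc_a_rc_4_2 lc_a_Cert_tree lc_a_rc_5_0 lc_a_rc_3_2 lc_a_rc_1_4 lc_a_Cert_tree lc_a_rc_21_0 lc_a_rc_4_2 lc_a_rc_5_0 lc_a_Cert_tree lc_a_rc_4_2 lc_a_rc_5_2 lc_a_Cert_tree lc_a_rc_3_2 lc_a_rc_5_0 lc_a_rc_4_2 lc_a_Cert_tree lc_a_rc_2_2 lc_a_rc_2_2 lc_a_rc_4_2 lc_a_Cert_tree lc_a_rc_0_1 lc_a_rc_0_1 lc_a_rc_3_2 lc_a_rc_21_0 lc_a_rc_2_2 lc_a_rc_2_2 lc_a_rc_3_2 lc_a_rc_4_2 lc_a_rc_22_0 lc_a_rc_4_2 lc_a_rc_21_0 lc_a_rc_3_2 lc_a_rc_2_2 lc_a_rc_4_2 lc_a_rc_2_2 lc_a_rc_4_2 lc_a_rc_21_0 lc_a_rc_2_2 lc_a_Cert_tree lc_a_rc_3_2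 lc_a_rc_2_2 lc_a_rc_0_1 lc_a_rc_21_0 lc_a_rc_5_2 lc_a_Cert_tree lc_a_rc_4_2 lc_a_rc_0_1 lc_a_rc_21_0 lc_a_rc_0_1 lc_a_rc_3_2 lc_a_rc_5_0) (@D3.rec (fun _ => (Cert rels S Gen.a)) lc_a_rc_4_2 lc_a_rc_3_2 lc_a_rc_2_2 lc_a_rc_4_2 lc_a_rc_21_0 lc_a_rc_2_2 lc_a_rc_4_2 lc_a_rc_2_2 lc_a_rc_2_2 lc_a_Cert_tree lc_a_rc_0_1 lc_a_rc_4_2 lc_a_rc_4_2 lc_a_rc_4_0 lc_a_rc_5_2 lc_a_rc_1_4 lc_a_rc_21_0 lc_a_rc_0_1 lc_a_rc_3_2 lc_a_rc_4_2 lc_a_rc_4_2 lc_a_rc_3_2 lc_a_rc_5_0 lc_a_rc_21_0 lc_a_rc_2_2 lc_a_rc_2_0 lc_a_Cert_tree lc_a_rc_3_2 lc_a_rc_4_2 lc_a_rc_3_2 lc_a_rc_21_0 lc_a_rc_0_1 lc_a_rc_4_0 lc_a_rc_3_2 lc_a_rc_21_0 lc_a_rc_0_1 lc_a_rc_3_2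 lc_a_rc_4_2 lc_a_rc_4_2 lc_a_rc_5_0 lc_a_rc_4_2 lc_a_rc_3_2 lc_a_rc_5_2 lc_a_rc_3_2 lc_a_rc_1_4 lc_a_rc_21_0 lc_a_rc_21_0 lc_a_rc_21_0 lc_a_rc_4_2 lc_a_rc_4_2 lc_a_Cert_tree lc_a_rc_3_2 lc_a_rc_4_2 lc_a_rc_3_2 lc_a_rc_21_0 lc_a_rc_5_2 lc_a_rc_0_1 lc_a_rc_1_4 lc_a_rc_0_1 lc_a_rc_3_2 lc_a_rc_4_2 lc_a_rc_4_2) (@D3.rec (fun _ => (Cert rels S Gen.a)) lc_a_rc_21_0 lc_a_rc_4_2 lc_a_rc_3_2 lc_a_rc_2_2 lc_a_rc_3_2 lc_a_rc_21_0 lc_a_rc_0_1 lc_a_rc_3_2 lc_a_rc_4_2 lc_a_rc_4_2 lc_a_rc_3_2 lc_a_rc_2_2 lc_a_rc_2_2 lc_a_rc_21_0 lc_a_rc_0_1 lc_a_rc_2_2 lc_a_rc_3_2 lc_a_rc_4_2 lc_a_rc_4_2 lc_a_rc_0_1 lc_a_rc_0_1 lc_a_rc_2_2 lc_a_rc_2_2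 lc_a_rc_3_2 lc_a_rc_4_2 lc_a_rc_5_2 lc_a_Cert_tree lc_a_rc_2_2 lc_a_rc_3_2 lc_a_rc_4_2 lc_a_rc_3_2 lc_a_rc_2_2 lc_a_rc_2_2 lc_a_rc_2_2 lc_a_rc_4_2 lc_a_rc_4_2 lc_a_Cert_tree lc_a_rc_3_2 lc_a_rc_4_2 lc_a_rc_4_2 lc_a_rc_5_0 lc_a_rc_5_2 lc_a_rc_5_0 lc_a_rc_2_2 lc_a_rc_3_2 lc_a_rc_21_0 lc_a_rc_5_0 lc_a_rc_5_0 lc_a_rc_21_0 lc_a_rc_3_2 lc_a_rc_2_2 lc_a_rc_4_2 lc_a_rc_0_1 lc_a_rc_2_2 lc_a_rc_4_2 lc_a_rc_3_2 lc_a_rc_21_0 lc_a_rc_0_1 lc_a_rc_3_0 lc_a_rc_4_2 lc_a_Cert_tree lc_a_rc_4_2) (@D3.rec (fun _ => (Cert rels S Gen.a)) lc_a_rc_3_0 lc_a_rc_0_1 lc_a_rc_0_1 lc_a_rc_5_0 lc_a_rc_2_2 lc_a_rc_0_1 lc_a_rc_3_2 lc_a_rc_3_2 lc_a_rc_22_0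 lc_a_rc_4_2 lc_a_rc_5_0 lc_a_rc_4_2 lc_a_rc_5_2 lc_a_Cert_tree lc_a_rc_4_2 lc_a_Cert_tree lc_a_rc_2_2 lc_a_rc_4_2 lc_a_rc_2_2 lc_a_rc_4_2 lc_a_rc_5_0 lc_a_rc_21_0 lc_a_rc_4_2 lc_a_rc_2_2 lc_a_rc_2_2 lc_a_Cert_tree lc_a_rc_2_0 lc_a_rc_2_2 lc_a_rc_3_2 lc_a_rc_3_0 lc_a_rc_5_2 lc_a_rc_21_0 lc_a_rc_2_2 lc_a_rc_0_1 lc_a_rc_4_2 lc_a_rc_3_2 lc_a_rc_5_2 lc_a_Cert_tree lc_a_rc_21_0 lc_a_rc_0_1 lc_a_Cert_tree lc_a_Cert_tree lc_a_rc_1_4 lc_a_rc_3_2 lc_a_rc_21_0 lc_a_rc_3_2 lc_a_Cert_tree lc_a_rc_21_0 lc_a_rc_2_2 lc_a_rc_22_0 lc_a_rc_4_2 lc_a_rc_5_0 lc_a_rc_4_2 lc_a_rc_5_2 lc_a_rc_3_2 lc_a_rc_21_0 lc_a_rc_21_0 lc_a_rc_1_2 lc_a_rc_5_0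 lc_a_rc_3_2 lc_a_rc_4_2 lc_a_rc_2_2) (@D3.rec (fun _ => (Cert rels S Gen.a)) lc_a_rc_4_2 lc_a_rc_1_4 lc_a_rc_0_1 lc_a_rc_5_0 lc_a_rc_4_2 lc_a_rc_3_2 lc_a_rc_5_2 lc_a_rc_0_1 lc_a_rc_22_0 lc_a_rc_21_0 lc_a_rc_4_0 lc_a_rc_3_2 lc_a_rc_3_2 lc_a_rc_0_1 lc_a_rc_2_2 lc_a_rc_4_2 lc_a_rc_3_2 lc_a_rc_5_0 lc_a_rc_4_2 lc_a_rc_4_2 lc_a_rc_5_2 lc_a_rc_2_2 lc_a_rc_22_0 lc_a_rc_21_0 lc_a_rc_21_0 lc_a_rc_2_2 lc_a_rc_3_2 lc_a_rc_4_2 lc_a_rc_2_2 lc_a_rc_3_2 lc_a_rc_4_2 lc_a_rc_4_2 lc_a_rc_21_0 lc_a_rc_3_2 lc_a_rc_3_0 lc_a_rc_3_2 lc_a_rc_3_2 lc_a_rc_2_2 lc_a_rc_4_2 lc_a_rc_3_2 lc_a_rc_2_2 lc_a_rc_3_2 lc_a_rc_22_0 lc_a_rc_5_0 lc_a_rc_4_2 lc_a_rc_4_2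 lc_a_rc_4_2 lc_a_rc_2_2 lc_a_rc_3_2 lc_a_rc_1_2 lc_a_rc_0_1 lc_a_rc_3_2 lc_a_rc_1_4 lc_a_rc_21_0 lc_a_rc_2_0 lc_a_rc_5_0 lc_a_rc_5_2 lc_a_rc_2_2 lc_a_rc_2_2 lc_a_rc_4_2 lc_a_rc_3_2 lc_a_rc_4_2) (@D3.rec (fun _ => (Cert rels S Gen.a)) lc_a_rc_3_2 lc_a_rc_1_0 lc_a_rc_2_2 lc_a_rc_4_2 lc_a_rc_3_2 lc_a_rc_2_2 lc_a_rc_3_2 lc_a_rc_3_2 lc_a_rc_2_2 lc_a_rc_4_2 lc_a_rc_1_4 lc_a_rc_2_2 lc_a_rc_4_2 lc_a_rc_2_2 lc_a_rc_4_2 lc_a_rc_2_2 lc_a_rc_21_0 lc_a_Cert_tree lc_a_rc_3_2 lc_a_rc_4_2 lc_a_rc_2_2 lc_a_rc_4_2 lc_a_rc_21_0 lc_a_rc_5_2 lc_a_rc_4_2 lc_a_rc_3_2 lc_a_rc_0_1 lc_a_rc_2_2 lc_a_rc_4_2 lc_a_rc_5_0 lc_a_rc_3_2 lc_a_rc_5_2 lc_a_rc_0_1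 lc_a_rc_2_2 lc_a_rc_4_2 lc_a_Cert_tree lc_a_rc_21_0 lc_a_rc_0_1 lc_a_rc_0_1 lc_a_rc_4_2 lc_a_rc_5_0 lc_a_rc_2_2 lc_a_rc_3_2 lc_a_rc_5_2 lc_a_Cert_tree lc_a_rc_2_2 lc_a_rc_2_2 lc_a_rc_4_2 lc_a_Cert_tree lc_a_rc_21_0 lc_a_rc_21_0 lc_a_rc_3_2 lc_a_rc_5_2 lc_a_rc_5_0 lc_a_rc_4_2 lc_a_rc_3_2 lc_a_rc_2_2 lc_a_rc_4_2 lc_a_rc_21_0 lc_a_rc_3_2 lc_a_rc_4_2 lc_a_rc_21_0) (@D3.rec (fun _ => (Cert rels S Gen.a)) lc_a_rc_4_2 lc_a_rc_5_0 lc_a_rc_0_1 lc_a_rc_4_2 lc_a_rc_5_2 lc_a_rc_2_2 lc_a_rc_3_0 lc_a_rc_5_2 lc_a_Cert_tree lc_a_rc_4_2 lc_a_Cert_tree lc_a_rc_2_2 lc_a_rc_2_2 lc_a_rc_1_4 lc_a_rc_2_2 lc_a_rc_0_1 lc_a_rc_0_1 lc_a_rc_4_2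 lc_a_rc_4_2 lc_a_rc_1_4 lc_a_rc_4_2 lc_a_rc_2_2 lc_a_rc_4_2 lc_a_rc_3_2 lc_a_rc_0_1 lc_a_rc_2_2 lc_a_rc_4_2 lc_a_rc_5_0 lc_a_rc_4_2 lc_a_rc_2_2 lc_a_rc_4_2 lc_a_rc_3_0 lc_a_rc_4_2 lc_a_rc_3_2 lc_a_rc_4_2 lc_a_rc_5_2 lc_a_rc_3_0 lc_a_rc_0_1 lc_a_rc_4_2 lc_a_rc_5_2 lc_a_rc_1_4 lc_a_rc_4_2 lc_a_rc_3_2 lc_a_rc_4_2 lc_a_rc_4_0 lc_a_rc_21_0 lc_a_rc_5_2 lc_a_rc_2_2 lc_a_rc_3_2 lc_a_rc_2_2 lc_a_rc_4_2 lc_a_rc_3_2 lc_a_rc_3_0 lc_a_rc_4_2 lc_a_rc_5_0 lc_a_rc_4_2 lc_a_rc_3_2 lc_a_rc_5_2 lc_a_rc_5_2 lc_a_rc_21_0 lc_a_rc_21_0 lc_a_rc_3_2) (@D3.rec (fun _ => (Cert rels S Gen.a)) lc_a_rc_2_2 lc_a_rc_3_2 lc_a_rc_3_2 lc_a_rc_3_2 lc_a_rc_4_0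 lc_a_rc_0_1 lc_a_rc_3_2 lc_a_rc_5_2 lc_a_rc_4_2 lc_a_Cert_tree lc_a_rc_3_0 lc_a_rc_0_1 lc_a_rc_3_2 lc_a_rc_3_2 lc_a_rc_4_2 lc_a_rc_2_2 lc_a_rc_3_2 lc_a_rc_4_2 lc_a_rc_2_2 lc_a_rc_3_2 lc_a_rc_4_2 lc_a_rc_2_2 lc_a_rc_4_2 lc_a_rc_1_4 lc_a_rc_3_2 lc_a_rc_5_2 lc_a_rc_3_0 lc_a_rc_3_2 lc_a_rc_1_0 lc_a_rc_4_2 lc_a_rc_5_0 lc_a_rc_3_2 lc_a_rc_5_2 lc_a_rc_21_0 lc_a_rc_3_2 lc_a_rc_2_2 lc_a_rc_3_2 lc_a_rc_21_0 lc_a_rc_3_0 lc_a_rc_2_2 lc_a_rc_5_2 lc_a_rc_5_0 lc_a_rc_2_2 lc_a_rc_2_2 lc_a_Cert_tree lc_a_rc_21_0 lc_a_Cert_tree lc_a_rc_4_2 lc_a_rc_2_2 lc_a_rc_21_0 lc_a_rc_4_2 lc_a_rc_0_1 lc_a_rc_0_1 lc_a_rc_0_1 lc_a_rc_2_0 lc_a_rc_4_2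 lc_a_rc_2_2 lc_a_rc_4_2 lc_a_rc_4_0 lc_a_rc_3_2 lc_a_rc_3_2 lc_a_rc_4_2) (@D3.rec (fun _ => (Cert rels S Gen.a)) lc_a_rc_2_2 lc_a_rc_4_2 lc_a_rc_5_0 lc_a_rc_3_2 lc_a_rc_5_2 lc_a_rc_21_0 lc_a_rc_21_0 lc_a_rc_2_2 lc_a_rc_2_2 lc_a_rc_4_2 lc_a_rc_4_0 lc_a_rc_21_0 lc_a_rc_3_2 lc_a_rc_5_2 lc_a_rc_2_2 lc_a_rc_5_0 lc_a_rc_3_2 lc_a_rc_4_2 lc_a_rc_3_0 lc_a_rc_0_1 lc_a_rc_3_2 lc_a_rc_2_2 lc_a_rc_4_0 lc_a_rc_5_0 lc_a_rc_3_2 lc_a_rc_5_0 lc_a_rc_3_2 lc_a_rc_2_2 lc_a_rc_5_2 lc_a_Cert_tree lc_a_rc_2_2 lc_a_rc_4_2 lc_a_rc_2_2 lc_a_rc_3_2 lc_a_rc_5_2 lc_a_Cert_tree lc_a_rc_3_0 lc_a_rc_3_2 lc_a_rc_3_2 lc_a_rc_2_2 lc_a_rc_4_2 lc_a_rc_1_4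 lc_a_rc_3_2 lc_a_rc_3_2 lc_a_rc_2_2 lc_a_rc_4_2 lc_a_rc_1_2 lc_a_rc_3_2 lc_a_rc_4_2 lc_a_rc_1_2 lc_a_rc_3_2 lc_a_rc_1_2 lc_a_rc_0_1 lc_a_rc_3_2 lc_a_rc_0_1 lc_a_rc_3_2 lc_a_rc_4_2 lc_a_rc_1_2 lc_a_rc_5_2 lc_a_rc_1_0 lc_a_rc_5_2 lc_a_rc_4_2) (@D3.rec (fun _ => (Cert rels S Gen.a)) lc_a_rc_3_2 lc_a_rc_4_2 lc_a_rc_5_0 lc_a_rc_3_2 lc_a_rc_5_2 lc_a_rc_4_2 lc_a_rc_2_2 lc_a_rc_4_2 lc_a_rc_21_0 lc_a_rc_1_0 lc_a_rc_3_2 lc_a_rc_3_2 lc_a_rc_4_2 lc_a_rc_2_2 lc_a_rc_4_2 lc_a_rc_0_1 lc_a_rc_5_2 lc_a_rc_4_2 lc_a_rc_3_2 lc_a_rc_0_1 lc_a_rc_4_0 lc_a_rc_5_2 lc_a_rc_3_2 lc_a_rc_3_0 lc_a_rc_4_2 lc_a_rc_3_2 lc_a_rc_2_2 lc_a_rc_4_2 lc_a_rc_4_0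 lc_a_rc_3_2 lc_a_rc_1_2 lc_a_rc_22_0 lc_a_rc_4_2 lc_a_rc_0_1 lc_a_rc_3_2 lc_a_rc_21_0 lc_a_rc_3_2 lc_a_rc_3_2 lc_a_rc_2_2 lc_a_rc_3_2 lc_a_rc_0_1 lc_a_rc_3_2 lc_a_rc_4_2 lc_a_rc_0_1 lc_a_rc_1_4 lc_a_rc_5_2 lc_a_rc_0_1 lc_a_rc_4_2 lc_a_rc_0_1 lc_a_rc_2_2 lc_a_rc_4_2 lc_a_rc_0_1 lc_a_rc_1_0 lc_a_rc_3_2 lc_a_rc_5_2 lc_a_rc_1_4 lc_a_rc_0_1 lc_a_rc_4_2 lc_a_rc_21_0 lc_a_rc_0_1 lc_a_rc_5_2 lc_a_Cert_tree) (@D3.rec (fun _ => (Cert rels S Gen.a)) lc_a_rc_2_2 lc_a_rc_1_4 lc_a_rc_4_2 lc_a_rc_3_2 lc_a_rc_21_0 lc_a_rc_21_0 lc_a_rc_4_2 lc_a_rc_3_2 lc_a_rc_3_2 lc_a_rc_3_2 lc_a_rc_4_2 lc_a_rc_5_0 lc_a_rc_2_2 lc_a_rc_3_2 lc_a_rc_5_2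 lc_a_Cert_tree lc_a_rc_21_0 lc_a_rc_21_0 lc_a_rc_4_2 lc_a_Cert_tree lc_a_rc_2_2 lc_a_rc_3_2 lc_a_rc_4_2 lc_a_rc_2_2 lc_a_rc_3_2 lc_a_rc_3_0 lc_a_rc_3_0 lc_a_rc_2_2 lc_a_rc_2_2 lc_a_rc_4_2 lc_a_rc_0_1 lc_a_rc_21_0 lc_a_rc_5_0 lc_a_rc_4_2 lc_a_rc_5_0 lc_a_rc_4_2 lc_a_rc_3_2 lc_a_rc_5_2 lc_a_rc_21_0 lc_a_rc_5_0 lc_a_rc_3_2 lc_a_rc_3_0 lc_a_rc_5_2 lc_a_rc_2_2 lc_a_rc_4_2 lc_a_rc_3_2 lc_a_rc_21_0 lc_a_rc_3_2 lc_a_rc_4_2 lc_a_rc_0_1 lc_a_rc_21_0 lc_a_rc_4_2 lc_a_rc_5_2 lc_a_rc_5_0 lc_a_rc_21_0 lc_a_rc_3_2 lc_a_rc_4_2 lc_a_rc_3_0 lc_a_rc_0_1 lc_a_rc_2_2 lc_a_rc_5_2 lc_a_rc_3_0) (@D3.rec (fun _ => (Cert rels S Gen.a)) lc_a_rc_0_1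 lc_a_rc_2_2 lc_a_rc_3_2 lc_a_rc_4_2 lc_a_rc_3_2 lc_a_rc_3_2 lc_a_rc_2_0 lc_a_rc_0_1 lc_a_rc_21_0 lc_a_rc_0_1 lc_a_rc_3_2 lc_a_rc_2_2 lc_a_rc_4_2 lc_a_rc_3_2 lc_a_rc_3_2 lc_a_rc_4_2 lc_a_rc_4_0 lc_a_rc_3_2 lc_a_rc_2_2 lc_a_rc_4_2 lc_a_rc_21_0 lc_a_rc_5_0 lc_a_rc_4_2 lc_a_rc_21_0 lc_a_rc_2_2 lc_a_rc_3_2 lc_a_rc_2_2 lc_a_rc_3_2 lc_a_Cert_tree lc_a_rc_21_0 lc_a_rc_2_2 lc_a_rc_3_2 lc_a_rc_22_0 lc_a_rc_3_0 lc_a_rc_2_2 lc_a_rc_4_2 lc_a_rc_5_2 lc_a_rc_4_2 lc_a_rc_4_2 lc_a_rc_21_0 lc_a_rc_5_2 lc_a_rc_0_1 lc_a_rc_5_0 lc_a_rc_5_2 lc_a_rc_5_2 lc_a_rc_21_0 lc_a_rc_2_2 lc_a_rc_3_2 lc_a_rc_21_0 lc_a_rc_2_2 lc_a_rc_4_2 lc_a_Cert_tree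 lc_a_rc_4_2 lc_a_rc_5_0 lc_a_rc_5_2 lc_a_rc_4_2 lc_a_rc_2_2 lc_a_rc_3_2 lc_a_rc_2_2 lc_a_rc_2_2 lc_a_rc_3_2 lc_a_rc_4_2) (@D3.rec (fun _ => (Cert rels S Gen.a)) lc_a_rc_5_0 lc_a_rc_4_2 lc_a_rc_5_2 lc_a_rc_1_2 lc_a_rc_3_2 lc_a_rc_2_2 lc_a_rc_21_0 lc_a_rc_5_0 lc_a_rc_21_0 lc_a_rc_4_2 lc_a_rc_4_2 lc_a_rc_4_2 lc_a_rc_3_2 lc_a_rc_2_2 lc_a_rc_4_2 lc_a_rc_3_2 lc_a_rc_2_2 lc_a_Cert_tree lc_a_rc_3_2 lc_a_rc_4_2 lc_a_rc_5_0 lc_a_rc_0_1 lc_a_rc_5_2 lc_a_rc_1_2 lc_a_Cert_tree lc_a_rc_3_2 lc_a_Cert_tree lc_a_rc_3_2 lc_a_rc_4_2 lc_a_rc_1_2 lc_a_Cert_tree lc_a_rc_3_2 lc_a_Cert_tree lc_a_rc_21_0 lc_a_rc_4_2 lc_a_rc_2_2 lc_a_rc_0_1 lc_a_rc_3_2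 lc_a_rc_4_2 lc_a_rc_2_2 lc_a_rc_4_2 lc_a_rc_2_2 lc_a_rc_21_0 lc_a_rc_3_2 lc_a_rc_5_2 lc_a_rc_0_1 lc_a_rc_0_1 lc_a_rc_1_0 lc_a_rc_4_2 lc_a_rc_2_2 lc_a_rc_4_2 lc_a_rc_4_2 lc_a_rc_5_0 lc_a_rc_3_2 lc_a_rc_5_2 lc_a_rc_21_0 lc_a_rc_5_0 lc_a_rc_21_0 lc_a_rc_3_2 lc_a_rc_3_2 lc_a_rc_2_2 lc_a_rc_22_0) (@D3.rec (fun _ => (Cert rels S Gen.a)) lc_a_rc_5_2 lc_a_rc_3_0 lc_a_rc_2_2 lc_a_rc_3_2 lc_a_rc_21_0 lc_a_rc_3_2 lc_a_rc_2_2 lc_a_rc_2_2 lc_a_rc_3_2 lc_a_rc_3_2 lc_a_rc_5_2 lc_a_rc_21_0 lc_a_rc_5_2 lc_a_rc_0_1 lc_a_rc_5_0 lc_a_rc_2_2 lc_a_rc_4_2 lc_a_rc_5_2 lc_a_rc_2_2 lc_a_rc_2_2 lc_a_rc_3_2 lc_a_rc_21_0 lc_a_rc_4_2 lc_a_rc_3_2 lc_a_rc_3_2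 lc_a_rc_2_2 lc_a_rc_3_2 lc_a_rc_4_2 lc_a_rc_21_0 lc_a_rc_1_0 lc_a_rc_2_2 lc_a_rc_3_2 lc_a_rc_21_0 lc_a_rc_4_2 lc_a_rc_3_2 lc_a_Cert_tree lc_a_rc_3_2 lc_a_rc_5_2 lc_a_rc_4_2 lc_a_rc_4_2 lc_a_rc_1_4 lc_a_rc_3_2 lc_a_rc_1_2 lc_a_rc_2_2 lc_a_rc_2_0 lc_a_rc_5_0 lc_a_Cert_tree lc_a_rc_1_4 lc_a_rc_2_2 lc_a_rc_3_0 lc_a_rc_2_2 lc_a_rc_2_2 lc_a_rc_4_0 lc_a_rc_3_2 lc_a_rc_2_2 lc_a_rc_2_2 lc_a_rc_2_2 lc_a_rc_1_4 lc_a_rc_2_0 lc_a_rc_5_0 lc_a_Cert_tree lc_a_rc_2_2) (@D3.rec (fun _ => (Cert rels S Gen.a)) lc_a_rc_2_2 lc_a_rc_3_2 lc_a_rc_4_2 lc_a_rc_5_0 lc_a_rc_2_2 lc_a_rc_0_1 lc_a_rc_0_1 lc_a_rc_5_2 lc_a_rc_3_2 lc_a_rc_5_0 lc_a_rc_4_2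 lc_a_rc_2_2 lc_a_rc_5_0 lc_a_Cert_tree lc_a_rc_22_0 lc_a_rc_5_2 lc_a_Cert_tree lc_a_rc_3_2 lc_a_rc_2_2 lc_a_rc_4_2 lc_a_Cert_tree lc_a_rc_4_2 lc_a_rc_4_2 lc_a_rc_3_2 lc_a_rc_3_0 lc_a_rc_0_1 lc_a_rc_0_1 lc_a_rc_3_2 lc_a_rc_2_2 lc_a_rc_4_2 lc_a_Cert_tree lc_a_rc_4_2 lc_a_rc_3_2 lc_a_rc_3_2 lc_a_rc_5_2 lc_a_rc_4_2 lc_a_rc_3_2 lc_a_rc_2_2 lc_a_rc_4_2 lc_a_rc_5_0 lc_a_rc_4_2 lc_a_rc_3_2 lc_a_rc_4_0 lc_a_rc_0_1 lc_a_rc_21_0 lc_a_rc_3_2 lc_a_rc_21_0 lc_a_rc_0_1 lc_a_rc_2_2 lc_a_rc_4_2 lc_a_rc_3_2 lc_a_rc_5_0 lc_a_rc_21_0 lc_a_rc_4_2 lc_a_rc_2_2 lc_a_rc_3_2 lc_a_rc_5_2 lc_a_rc_3_2 lc_a_rc_4_2 lc_a_rc_4_2 lc_a_rc_21_0 lc_a_rc_4_2)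 (@D3.rec (fun _ => (Cert rels S Gen.a)) lc_a_rc_5_2 lc_a_rc_3_2 lc_a_rc_0_1 lc_a_rc_4_2 lc_a_rc_0_1 lc_a_rc_4_2 lc_a_rc_4_2 lc_a_rc_4_2 lc_a_rc_1_4 lc_a_rc_4_2 lc_a_rc_5_2 lc_a_rc_3_2 lc_a_rc_4_2 lc_a_rc_4_2 lc_a_rc_4_2 lc_a_rc_0_1 lc_a_rc_3_2 lc_a_rc_5_2 lc_a_rc_0_1 lc_a_rc_2_2 lc_a_rc_3_2 lc_a_rc_3_2 lc_a_rc_0_1 lc_a_rc_4_2 lc_a_rc_3_2 lc_a_Cert_tree lc_a_rc_3_2 lc_a_rc_3_2 lc_a_rc_4_2 lc_a_rc_2_2 lc_a_rc_5_2 lc_a_rc_3_2 lc_a_rc_5_0 lc_a_Cert_tree lc_a_rc_21_0 lc_a_rc_21_0 lc_a_rc_4_2 lc_a_Cert_tree lc_a_rc_3_2 lc_a_rc_5_2 lc_a_rc_2_0 lc_a_rc_2_0 lc_a_rc_0_1 lc_a_rc_4_2 lc_a_rc_2_2 lc_a_rc_0_1 lc_a_rc_4_2 lc_a_rc_3_2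 lc_a_rc_3_2 lc_a_rc_2_2 lc_a_rc_2_2 lc_a_rc_3_2 lc_a_rc_21_0 lc_a_rc_5_2 lc_a_rc_21_0 lc_a_rc_4_2 lc_a_rc_4_2 lc_a_rc_5_0 lc_a_rc_4_2 lc_a_rc_3_2 lc_a_rc_4_2 lc_a_rc_0_1) (@D3.rec (fun _ => (Cert rels S Gen.a)) lc_a_rc_3_2 lc_a_rc_2_2 lc_a_rc_2_2 lc_a_rc_1_4 lc_a_rc_4_2 lc_a_rc_1_4 lc_a_rc_4_2 lc_a_rc_4_2 lc_a_rc_21_0 lc_a_rc_4_2 lc_a_rc_1_4 lc_a_rc_4_2 lc_a_rc_2_2 lc_a_rc_3_2 lc_a_rc_5_2 lc_a_rc_4_2 lc_a_rc_4_2 lc_a_rc_0_1 lc_a_rc_5_2 lc_a_rc_3_2 lc_a_rc_2_2 lc_a_rc_0_1 lc_a_rc_2_2 lc_a_rc_21_0 lc_a_rc_22_0 lc_a_rc_4_2 lc_a_rc_5_2 lc_a_rc_4_2 lc_a_rc_1_4 lc_a_rc_4_2 lc_a_rc_4_2 lc_a_rc_2_2 lc_a_rc_3_2 lc_a_rc_5_0 lc_a_rc_2_2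 lc_a_rc_4_2 lc_a_rc_3_2 lc_a_rc_4_2 lc_a_Cert_tree lc_a_rc_4_2 lc_a_rc_2_2 lc_a_rc_3_2 lc_a_rc_4_2 lc_a_rc_0_1 lc_a_rc_3_2 lc_a_rc_4_2 lc_a_rc_3_2 lc_a_rc_2_2 lc_a_rc_0_1 lc_a_rc_0_1 lc_a_rc_4_2 lc_a_rc_3_2 lc_a_rc_3_2 lc_a_rc_4_2 lc_a_rc_3_2 lc_a_rc_2_0 lc_a_rc_5_0 lc_a_rc_3_2 lc_a_rc_0_1 lc_a_rc_3_2 lc_a_rc_4_2 lc_a_rc_1_2) (@D3.rec (fun _ => (Cert rels S Gen.a)) lc_a_Cert_tree lc_a_rc_21_0 lc_a_rc_4_2 lc_a_rc_0_1 lc_a_rc_3_2 lc_a_rc_5_2 lc_a_Cert_tree lc_a_rc_0_1 lc_a_rc_4_2 lc_a_rc_3_2 lc_a_Cert_tree lc_a_rc_21_0 lc_a_rc_4_2 lc_a_Cert_tree lc_a_rc_3_2 lc_a_rc_4_2 lc_a_rc_21_0 lc_a_rc_0_1 lc_a_rc_0_1 lc_a_rc_3_2 lc_a_rc_4_2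 lc_a_rc_4_2 lc_a_rc_2_2 lc_a_rc_5_0 lc_a_rc_3_2 lc_a_rc_5_2 lc_a_rc_2_2 lc_a_rc_4_2 lc_a_rc_2_2 lc_a_rc_4_2 lc_a_rc_21_0 lc_a_Cert_tree lc_a_rc_0_1 lc_a_rc_5_2 lc_a_Cert_tree lc_a_rc_0_1 lc_a_rc_1_4 lc_a_rc_4_2 lc_a_rc_2_0 lc_a_rc_0_1 lc_a_rc_0_1 lc_a_rc_21_0 lc_a_rc_4_2 lc_a_rc_3_2 lc_a_rc_3_2 lc_a_rc_4_2 lc_a_rc_2_2 lc_a_rc_2_0 lc_a_rc_2_0 lc_a_rc_5_2 lc_a_rc_21_0 lc_a_rc_5_2 lc_a_rc_4_2 lc_a_rc_2_2 lc_a_rc_3_2 lc_a_rc_1_4 lc_a_rc_4_2 lc_a_rc_2_2 lc_a_rc_21_0 lc_a_Cert_tree lc_a_rc_3_2 lc_a_rc_21_0) (@D3.rec (fun _ => (Cert rels S Gen.a)) lc_a_rc_2_2 lc_a_rc_0_1 lc_a_rc_3_2 lc_a_rc_4_2 lc_a_rc_4_2 lc_a_rc_4_0 lc_a_rc_0_1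 lc_a_rc_3_2 lc_a_rc_2_2 lc_a_rc_2_2 lc_a_rc_3_2 lc_a_rc_0_1 lc_a_rc_0_1 lc_a_rc_2_2 lc_a_rc_3_2 lc_a_rc_21_0 lc_a_rc_2_2 lc_a_rc_0_1 lc_a_rc_2_2 lc_a_rc_3_2 lc_a_rc_4_2 lc_a_rc_4_2 lc_a_rc_21_0 lc_a_rc_5_2 lc_a_rc_1_4 lc_a_rc_5_0 lc_a_rc_0_1 lc_a_rc_2_2 lc_a_rc_22_0 lc_a_rc_0_1 lc_a_rc_4_2 lc_a_rc_3_2 lc_a_rc_2_2 lc_a_Cert_tree lc_a_rc_2_2 lc_a_rc_3_2 lc_a_rc_4_2 lc_a_Cert_tree lc_a_rc_21_0 lc_a_rc_4_2 lc_a_rc_3_2 lc_a_rc_4_2 lc_a_rc_3_2 lc_a_rc_2_2 lc_a_rc_3_0 lc_a_rc_4_2 lc_a_rc_2_2 lc_a_rc_5_0 lc_a_rc_3_2 lc_a_rc_5_2 lc_a_Cert_tree lc_a_rc_4_2 lc_a_rc_22_0 lc_a_rc_4_2 lc_a_rc_1_4 lc_a_rc_4_2 lc_a_rc_5_0 lc_a_rc_3_2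 lc_a_rc_3_2 lc_a_rc_5_2 lc_a_rc_4_2 lc_a_rc_2_0) (@D3.rec (fun _ => (Cert rels S Gen.a)) lc_a_Cert_tree lc_a_rc_3_2 lc_a_rc_2_0 lc_a_Cert_tree lc_a_rc_5_2 lc_a_rc_5_2 lc_a_rc_4_2 lc_a_rc_5_0 lc_a_rc_4_2 lc_a_rc_2_2 lc_a_rc_5_2 lc_a_rc_2_2 lc_a_rc_0_1 lc_a_rc_4_0 lc_a_rc_3_2 lc_a_rc_5_2 lc_a_rc_21_0 lc_a_Cert_tree lc_a_rc_3_2 lc_a_rc_2_2 lc_a_Cert_tree lc_a_rc_3_2 lc_a_rc_4_2 lc_a_rc_5_2 lc_a_rc_1_4 lc_a_rc_2_2 lc_a_rc_3_2 lc_a_rc_4_2 lc_a_rc_0_1 lc_a_rc_3_2 lc_a_rc_4_2 lc_a_rc_3_2 lc_a_rc_2_2 lc_a_rc_3_2 lc_a_rc_5_0 lc_a_rc_4_2 lc_a_rc_21_0 lc_a_rc_5_2 lc_a_rc_4_2 lc_a_rc_2_0 lc_a_rc_0_1 lc_a_Cert_tree lc_a_rc_3_2 lc_a_rc_1_4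 lc_a_rc_4_2 lc_a_Cert_tree lc_a_rc_3_2 lc_a_rc_1_4 lc_a_rc_4_2 lc_a_rc_4_2 lc_a_rc_0_1 lc_a_rc_21_0 lc_a_rc_3_2 lc_a_rc_4_2 lc_a_rc_2_2 lc_a_rc_3_2 lc_a_rc_5_2 lc_a_rc_4_2 lc_a_rc_3_2 lc_a_rc_0_1 lc_a_rc_3_0 lc_a_rc_2_2) (@D3.rec (fun _ => (Cert rels S Gen.a)) lc_a_rc_5_2 lc_a_rc_0_1 lc_a_rc_3_2 lc_a_rc_3_2 lc_a_rc_5_0 lc_a_rc_2_2 lc_a_rc_4_2 lc_a_rc_3_2 lc_a_rc_2_2 lc_a_Cert_tree lc_a_rc_22_0 lc_a_rc_5_2 lc_a_rc_1_4 lc_a_rc_4_2 lc_a_rc_3_2 lc_a_rc_3_2 lc_a_rc_4_2 lc_a_rc_4_0 lc_a_rc_0_1 lc_a_rc_3_2 lc_a_rc_2_2 lc_a_rc_21_0 lc_a_rc_0_1 lc_a_rc_2_2 lc_a_rc_4_2 lc_a_rc_21_0 lc_a_rc_0_1 lc_a_rc_2_2 lc_a_rc_3_2 lc_a_rc_3_2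 lc_a_rc_21_0 lc_a_rc_5_0 lc_a_rc_2_2 lc_a_rc_4_2 lc_a_rc_2_2 lc_a_rc_21_0 lc_a_rc_3_2 lc_a_rc_3_0 lc_a_Cert_tree lc_a_rc_3_2 lc_a_rc_5_2 lc_a_rc_4_2 lc_a_rc_3_0 lc_a_rc_1_4 lc_a_rc_2_2 lc_a_Cert_tree lc_a_rc_3_2 lc_a_rc_4_2 lc_a_rc_4_2 lc_a_rc_5_2 lc_a_rc_0_1 lc_a_rc_2_2 lc_a_rc_4_2 lc_a_rc_5_0 lc_a_rc_3_2 lc_a_rc_4_2 lc_a_rc_0_1 lc_a_rc_4_0 lc_a_rc_5_2 lc_a_rc_4_2 lc_a_rc_5_0 lc_a_rc_3_2) (@D3.rec (fun _ => (Cert rels S Gen.a)) lc_a_rc_5_2 lc_a_Cert_tree lc_a_rc_2_2 lc_a_rc_3_2 lc_a_rc_3_2 lc_a_Cert_tree lc_a_rc_5_2 lc_a_rc_0_1 lc_a_rc_0_1 lc_a_rc_5_0 lc_a_rc_3_2 lc_a_rc_2_2 lc_a_rc_5_2 lc_a_rc_5_0 lc_a_rc_0_1 lc_a_rc_2_2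 lc_a_rc_3_2 lc_a_rc_3_2 lc_a_rc_3_0 lc_a_rc_5_0 lc_a_rc_4_2 lc_a_rc_0_1 lc_a_rc_0_1 lc_a_rc_2_2 lc_a_rc_21_0 lc_a_rc_4_2 lc_a_rc_2_2 lc_a_rc_4_2 lc_a_rc_5_2 lc_a_Cert_tree lc_a_rc_3_2 lc_a_rc_3_2 lc_a_rc_4_2 lc_a_rc_3_2 lc_a_rc_2_2 lc_a_rc_4_2 lc_a_rc_21_0 lc_a_rc_2_2 lc_a_Cert_tree lc_a_rc_22_0 lc_a_rc_22_0 lc_a_rc_4_2 lc_a_rc_2_2 lc_a_rc_0_1 lc_a_Cert_tree lc_a_rc_21_0 lc_a_Cert_tree lc_a_rc_3_2 lc_a_rc_5_0 lc_a_rc_0_1 lc_a_rc_1_4 lc_a_rc_2_2 lc_a_rc_5_0 lc_a_rc_2_2 lc_a_rc_4_2 lc_a_Cert_tree lc_a_rc_3_2 lc_a_rc_5_2 lc_a_rc_2_2 lc_a_rc_4_2 lc_a_rc_4_2 lc_a_rc_0_1) (@D3.rec (fun _ => (Cert rels S Gen.a)) lc_a_rc_4_2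 lc_a_rc_2_2 lc_a_rc_4_2 lc_a_rc_5_2 lc_a_rc_21_0 lc_a_rc_5_0 lc_a_rc_4_2 lc_a_rc_4_0 lc_a_rc_4_0 lc_a_rc_2_2 lc_a_rc_21_0 lc_a_rc_5_0 lc_a_rc_21_0 lc_a_rc_0_1 lc_a_rc_4_2 lc_a_rc_21_0 lc_a_rc_2_2 lc_a_Cert_tree lc_a_rc_3_2 lc_a_Cert_tree lc_a_rc_4_2 lc_a_rc_5_0 lc_a_rc_2_2 lc_a_Cert_tree lc_a_rc_4_2 lc_a_rc_3_2 lc_a_rc_21_0 lc_a_rc_21_0 lc_a_rc_0_1 lc_a_rc_0_1 lc_a_rc_3_2 lc_a_rc_3_2 lc_a_rc_5_0 lc_a_rc_3_2 lc_a_rc_3_2 lc_a_rc_3_2 lc_a_rc_0_1 lc_a_rc_3_2 lc_a_rc_21_0 lc_a_rc_4_2 lc_a_rc_4_2 lc_a_rc_2_2 lc_a_rc_2_2 lc_a_Cert_tree lc_a_rc_2_2 lc_a_rc_22_0 lc_a_rc_4_2 lc_a_rc_3_2 lc_a_rc_5_0 lc_a_rc_2_2 lc_a_rc_3_2 lc_a_rc_2_2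 lc_a_rc_4_2 lc_a_rc_4_2 lc_a_rc_2_2 lc_a_rc_4_2 lc_a_rc_3_2 lc_a_rc_3_2 lc_a_Cert_tree lc_a_rc_3_2 lc_a_rc_5_2 lc_a_rc_4_2) (@D3.rec (fun _ => (Cert rels S Gen.a)) lc_a_rc_3_0 lc_a_rc_2_2 lc_a_rc_3_2 lc_a_rc_21_0 lc_a_rc_3_0 lc_a_rc_2_2 lc_a_rc_3_2 lc_a_rc_21_0 lc_a_rc_2_2 lc_a_rc_4_2 lc_a_rc_2_2 lc_a_rc_2_2 lc_a_Cert_tree lc_a_rc_3_2 lc_a_rc_2_2 lc_a_rc_4_2 lc_a_rc_4_2 lc_a_rc_5_2 lc_a_rc_2_2 lc_a_rc_3_2 lc_a_rc_3_2 lc_a_rc_2_2 lc_a_rc_4_2 lc_a_rc_2_2 lc_a_rc_21_0 lc_a_rc_4_2 lc_a_Cert_tree lc_a_rc_21_0 lc_a_rc_4_2 lc_a_rc_4_2 lc_a_rc_21_0 lc_a_rc_5_2 lc_a_rc_0_1 lc_a_Cert_tree lc_a_rc_5_0 lc_a_rc_4_2 lc_a_rc_0_1 lc_a_rc_4_2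 lc_a_rc_2_2 lc_a_rc_0_1 lc_a_rc_5_0 lc_a_rc_4_2 lc_a_Cert_tree lc_a_rc_2_2 lc_a_rc_4_2 lc_a_rc_4_2 lc_a_rc_5_0 lc_a_rc_21_0 lc_a_rc_4_2 lc_a_Cert_tree lc_a_rc_3_2 lc_a_rc_21_0 lc_a_Cert_tree lc_a_rc_5_0 lc_a_rc_4_2 lc_a_rc_1_2 lc_a_rc_0_1 lc_a_rc_0_1 lc_a_rc_3_2 lc_a_rc_21_0 lc_a_rc_3_2 lc_a_rc_2_2) (@D3.rec (fun _ => (Cert rels S Gen.a)) lc_a_rc_0_1 lc_a_rc_4_2 lc_a_rc_22_0 lc_a_rc_4_2 lc_a_rc_3_2 lc_a_rc_5_0 lc_a_rc_2_2 lc_a_rc_4_2 lc_a_rc_0_1 lc_a_rc_2_0 lc_a_rc_3_2 lc_a_rc_4_2 lc_a_rc_0_1 lc_a_rc_4_2 lc_a_rc_5_2 lc_a_rc_5_0 lc_a_rc_5_0 lc_a_rc_3_2 lc_a_rc_0_1 lc_a_rc_2_2 lc_a_rc_4_2 lc_a_rc_0_1 lc_a_rc_3_2 lc_a_rc_4_2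 lc_a_rc_4_2 lc_a_rc_21_0 lc_a_rc_5_2 lc_a_rc_21_0 lc_a_rc_21_0 lc_a_rc_0_1 lc_a_rc_0_1 lc_a_rc_1_4 lc_a_rc_2_2 lc_a_rc_0_1 lc_a_rc_4_2 lc_a_rc_5_2 lc_a_rc_2_2 lc_a_rc_3_2 lc_a_rc_5_0 lc_a_rc_2_2 lc_a_rc_2_2 lc_a_rc_4_2 lc_a_rc_4_2 lc_a_rc_3_2 lc_a_rc_4_2 lc_a_rc_3_2 lc_a_Cert_tree lc_a_rc_4_2 lc_a_rc_0_1 lc_a_rc_21_0 lc_a_rc_4_2 lc_a_rc_0_1 lc_a_rc_0_1 lc_a_rc_0_1 lc_a_rc_4_2 lc_a_rc_5_0 lc_a_rc_4_2 lc_a_rc_0_1 lc_a_rc_5_2 lc_a_rc_0_1 lc_a_rc_21_0 lc_a_rc_4_2) (@D3.rec (fun _ => (Cert rels S Gen.a)) lc_a_rc_4_2 lc_a_rc_21_0 lc_a_rc_5_2 lc_a_Cert_tree lc_a_rc_5_0 lc_a_rc_4_2 lc_a_Cert_tree lc_a_rc_2_2 lc_a_rc_4_2 lc_a_rc_0_1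 lc_a_rc_5_0 lc_a_rc_0_1 lc_a_rc_3_2 lc_a_rc_3_2 lc_a_rc_3_2 lc_a_rc_3_2 lc_a_rc_5_2 lc_a_rc_5_0 lc_a_rc_3_2 lc_a_rc_4_2 lc_a_rc_3_2 lc_a_rc_4_2 lc_a_rc_21_0 lc_a_rc_0_1 lc_a_rc_5_2 lc_a_rc_21_0 lc_a_rc_5_0 lc_a_rc_3_2 lc_a_rc_21_0 lc_a_rc_2_2 lc_a_rc_4_2 lc_a_rc_21_0 lc_a_rc_2_0 lc_a_rc_21_0 lc_a_rc_0_1 lc_a_rc_3_2 lc_a_rc_5_0 lc_a_rc_2_2 lc_a_rc_1_4 lc_a_rc_1_4 lc_a_rc_4_2 lc_a_rc_3_0 lc_a_rc_5_0 lc_a_rc_1_0 lc_a_rc_3_2 lc_a_rc_4_2 lc_a_rc_3_2 lc_a_rc_2_2 lc_a_rc_0_1 lc_a_rc_0_1 lc_a_rc_0_1 lc_a_rc_2_0 lc_a_rc_0_1 lc_a_rc_21_0 lc_a_rc_0_1 lc_a_rc_0_1 lc_a_rc_4_2 lc_a_rc_3_2 lc_a_rc_3_2 lc_a_rc_5_0 lc_a_rc_2_2 lc_a_rc_5_2)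 (@D3.rec (fun _ => (Cert rels S Gen.a)) lc_a_rc_3_2 lc_a_rc_2_2 lc_a_rc_21_0 lc_a_rc_2_2 lc_a_rc_5_2 lc_a_rc_2_2 lc_a_rc_4_2 lc_a_rc_2_2 lc_a_rc_4_2 lc_a_rc_21_0 lc_a_rc_3_2 lc_a_Cert_tree lc_a_rc_3_2 lc_a_rc_5_2 lc_a_rc_4_2 lc_a_rc_3_2 lc_a_rc_4_2 lc_a_rc_21_0 lc_a_rc_2_2 lc_a_rc_5_2 lc_a_rc_2_2 lc_a_rc_4_2 lc_a_rc_2_2 lc_a_rc_4_2 lc_a_rc_3_2 lc_a_rc_3_2 lc_a_Cert_tree lc_a_rc_3_2 lc_a_rc_5_2 lc_a_rc_4_2 lc_a_rc_2_2 lc_a_rc_3_2 lc_a_rc_5_0 lc_a_rc_4_2 lc_a_rc_2_2 lc_a_rc_4_2 lc_a_rc_21_0 lc_a_rc_4_2 lc_a_rc_4_2 lc_a_Cert_tree lc_a_rc_3_2 lc_a_rc_5_2 lc_a_rc_4_2 lc_a_rc_3_2 lc_a_rc_2_2 lc_a_rc_3_2 lc_a_rc_3_2 lc_a_rc_21_0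 lc_a_rc_3_2 lc_a_rc_3_2 lc_a_rc_2_2 lc_a_rc_3_2 lc_a_rc_3_2 lc_a_rc_22_0 lc_a_rc_2_2 lc_a_rc_4_2 lc_a_rc_2_2 lc_a_rc_2_2 lc_a_Cert_tree lc_a_rc_3_2 lc_a_rc_2_2 lc_a_rc_1_4) (@D3.rec (fun _ => (Cert rels S Gen.a)) lc_a_rc_4_2 lc_a_rc_5_2 lc_a_rc_2_2 lc_a_rc_21_0 lc_a_rc_21_0 lc_a_rc_3_0 lc_a_rc_2_2 lc_a_rc_4_2 lc_a_rc_0_1 lc_a_rc_21_0 lc_a_rc_3_2 lc_a_Cert_tree lc_a_rc_2_2 lc_a_rc_4_2 lc_a_rc_3_0 lc_a_rc_21_0 lc_a_rc_4_2 lc_a_rc_2_0 lc_a_Cert_tree lc_a_rc_21_0 lc_a_rc_21_0 lc_a_rc_0_1 lc_a_rc_4_2 lc_a_rc_5_0 lc_a_rc_3_0 lc_a_rc_2_2 lc_a_rc_4_2 lc_a_Cert_tree lc_a_rc_3_2 lc_a_rc_4_2 lc_a_rc_4_2 lc_a_rc_5_0 lc_a_rc_3_2 lc_a_rc_5_2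 lc_a_Cert_tree lc_a_rc_3_2 lc_a_rc_4_2 lc_a_Cert_tree lc_a_rc_3_2 lc_a_rc_2_2 lc_a_rc_0_1 lc_a_rc_4_2 lc_a_rc_0_1 lc_a_rc_3_2 lc_a_rc_21_0 lc_a_rc_3_2 lc_a_rc_2_2 lc_a_rc_0_1 lc_a_rc_4_2 lc_a_rc_22_0 lc_a_rc_4_2 lc_a_rc_21_0 lc_a_rc_1_4 lc_a_rc_5_0 lc_a_rc_4_2 lc_a_rc_3_2 lc_a_rc_5_2 lc_a_rc_5_0 lc_a_rc_5_0 lc_a_rc_3_2 lc_a_rc_0_1 lc_a_rc_2_2) (@D3.rec (fun _ => (Cert rels S Gen.a)) lc_a_rc_2_2 lc_a_rc_4_2 lc_a_rc_2_0 lc_a_rc_3_2 lc_a_rc_4_2 lc_a_rc_3_2 lc_a_rc_21_0 lc_a_rc_5_2 lc_a_rc_21_0 lc_a_rc_21_0 lc_a_rc_0_1 lc_a_rc_0_1 lc_a_rc_1_2 lc_a_rc_2_2 lc_a_rc_3_2 lc_a_rc_4_2 lc_a_rc_5_2 lc_a_Cert_tree lc_a_rc_4_2 lc_a_rc_3_2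 lc_a_rc_0_1 lc_a_rc_3_2 lc_a_rc_3_0 lc_a_rc_4_2 lc_a_rc_0_1 lc_a_rc_2_2 lc_a_rc_5_2 lc_a_rc_3_2 lc_a_rc_21_0 lc_a_rc_5_0 lc_a_rc_21_0 lc_a_rc_3_2 lc_a_rc_4_2 lc_a_rc_1_4 lc_a_rc_0_1 lc_a_rc_0_1 lc_a_rc_4_2 lc_a_rc_3_2 lc_a_rc_2_2 lc_a_rc_21_0 lc_a_rc_5_0 lc_a_rc_4_0 lc_a_rc_4_2 lc_a_rc_0_1 lc_a_rc_3_2 lc_a_rc_2_2 lc_a_Cert_tree lc_a_rc_21_0 lc_a_rc_4_2 lc_a_rc_4_2 lc_a_rc_5_2 lc_a_rc_4_2 lc_a_rc_4_2 lc_a_rc_0_1 lc_a_rc_3_2 lc_a_rc_3_2 lc_a_rc_3_2 lc_a_rc_1_4 lc_a_rc_1_4 lc_a_rc_5_0 lc_a_rc_4_2 lc_a_rc_21_0) (@D3.rec (fun _ => (Cert rels S Gen.a)) lc_a_rc_21_0 lc_a_rc_3_2 lc_a_rc_4_2 lc_a_rc_3_2 lc_a_rc_1_2 lc_a_rc_3_2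 lc_a_rc_0_1 lc_a_rc_2_2 lc_a_rc_21_0 lc_a_rc_2_2 lc_a_rc_5_2 lc_a_rc_2_2 lc_a_rc_0_1 lc_a_rc_3_2 lc_a_rc_4_2 lc_a_rc_4_0 lc_a_rc_0_1 lc_a_rc_4_2 lc_a_rc_3_2 lc_a_rc_3_0 lc_a_rc_3_2 lc_a_rc_3_2 lc_a_rc_2_2 lc_a_rc_4_2 lc_a_rc_3_0 lc_a_rc_2_0 lc_a_rc_5_0 lc_a_rc_3_2 lc_a_rc_2_2 lc_a_rc_4_2 lc_a_rc_21_0 lc_a_rc_2_2 lc_a_rc_4_2 lc_a_rc_3_2 lc_a_rc_3_2 lc_a_Cert_tree lc_a_rc_3_2 lc_a_rc_4_2 lc_a_rc_22_0 lc_a_rc_5_0 lc_a_rc_3_2 lc_a_rc_5_2 lc_a_rc_4_2 lc_a_rc_4_0 lc_a_rc_2_2 lc_a_rc_3_2 lc_a_rc_3_2 lc_a_rc_4_0 lc_a_rc_0_1 lc_a_rc_4_2 lc_a_rc_5_0 lc_a_rc_2_2 lc_a_rc_4_0 lc_a_rc_2_0 lc_a_rc_4_2 lc_a_Cert_tree lc_a_rc_2_0 lc_a_rc_5_2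 lc_a_rc_4_2 lc_a_rc_5_0 lc_a_rc_3_2 lc_a_rc_3_2) (@D3.rec (fun _ => (Cert rels S Gen.a)) lc_a_rc_4_2 lc_a_rc_5_0 lc_a_rc_3_2 lc_a_rc_4_2 lc_a_rc_1_4 lc_a_rc_3_2 lc_a_rc_21_0 lc_a_rc_0_1 lc_a_rc_3_2 lc_a_rc_2_2 lc_a_rc_3_2 lc_a_rc_2_2 lc_a_rc_5_0 lc_a_rc_2_2 lc_a_rc_4_2 lc_a_rc_3_2 lc_a_rc_3_2 lc_a_rc_0_1 lc_a_rc_2_2 lc_a_rc_4_2 lc_a_rc_3_2 lc_a_rc_1_2 lc_a_rc_2_2 lc_a_rc_4_2 lc_a_rc_2_0 lc_a_rc_21_0 lc_a_rc_3_2 lc_a_rc_5_2 lc_a_rc_21_0 lc_a_rc_3_2 lc_a_rc_1_2 lc_a_rc_1_0 lc_a_rc_3_2 lc_a_rc_2_2 lc_a_rc_2_2 lc_a_rc_22_0 lc_a_rc_4_2 lc_a_rc_22_0 lc_a_rc_3_2 lc_a_Cert_tree lc_a_rc_3_2 lc_a_rc_5_2 lc_a_rc_2_2 lc_a_rc_4_2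 lc_a_rc_3_2 lc_a_rc_2_2 lc_a_rc_4_2 lc_a_rc_3_2 lc_a_rc_3_0 lc_a_rc_2_2 lc_a_rc_21_0 lc_a_rc_3_2 lc_a_rc_2_2 lc_a_rc_3_2 lc_a_rc_3_2 lc_a_rc_2_2 lc_a_rc_1_2 lc_a_rc_2_2 lc_a_rc_4_2 lc_a_rc_3_2 lc_a_rc_4_2 lc_a_rc_3_2) (@D3.rec (fun _ => (Cert rels S Gen.a)) lc_a_Cert_tree lc_a_rc_3_2 lc_a_rc_4_2 lc_a_rc_2_2 lc_a_rc_3_2 lc_a_rc_21_0 lc_a_rc_3_2 lc_a_rc_3_0 lc_a_rc_2_2 lc_a_rc_3_2 lc_a_rc_3_2 lc_a_rc_3_2 lc_a_rc_4_2 lc_a_rc_21_0 lc_a_rc_4_2 lc_a_rc_0_1 lc_a_rc_22_0 lc_a_rc_4_2 lc_a_rc_5_0 lc_a_rc_2_2 lc_a_rc_5_2 lc_a_rc_4_2 lc_a_rc_21_0 lc_a_rc_2_2 lc_a_Cert_tree lc_a_rc_21_0 lc_a_rc_4_2 lc_a_rc_0_1 lc_a_rc_3_2 lc_a_rc_5_2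 lc_a_rc_0_1 lc_a_rc_21_0 lc_a_rc_0_1 lc_a_Cert_tree lc_a_rc_2_2 lc_a_rc_4_2 lc_a_rc_0_1 lc_a_rc_4_0 lc_a_rc_5_2 lc_a_Cert_tree lc_a_rc_3_2 lc_a_rc_4_2 lc_a_Cert_tree lc_a_rc_21_0 lc_a_rc_4_2 lc_a_rc_3_2 lc_a_rc_2_2 lc_a_rc_4_2 lc_a_rc_22_0 lc_a_rc_2_0 lc_a_rc_2_2 lc_a_rc_3_2 lc_a_rc_5_2 lc_a_rc_4_2 lc_a_rc_5_0 lc_a_rc_0_1 lc_a_rc_3_2 lc_a_rc_3_0 lc_a_Cert_tree lc_a_rc_0_1 lc_a_rc_3_2 lc_a_rc_0_1)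
def ce_a_5 : D2 → D3 → (Cert rels S Gen.a) := @D2.rec (fun _ => D3 → (Cert rels S Gen.a)) (@D3.rec (fun _ => (Cert rels S Gen.a)) lc_a_rc_5_0 lc_a_rc_0_1 lc_a_rc_4_2 lc_a_rc_5_0 lc_a_rc_5_2 lc_a_rc_3_2 lc_a_rc_3_2 lc_a_rc_2_2 lc_a_rc_2_0 lc_a_rc_0_1 lc_a_rc_4_2 lc_a_rc_3_2 lc_a_rc_4_2 lc_a_rc_3_2 lc_a_rc_3_2 lc_a_rc_2_2 lc_a_rc_21_0 lc_a_rc_0_1 lc_a_rc_0_1 lc_a_rc_3_2 lc_a_rc_2_2 lc_a_rc_4_2 lc_a_rc_21_0 lc_a_rc_2_2 lc_a_rc_4_2 lc_a_rc_5_2 lc_a_rc_4_2 lc_a_Cert_tree lc_a_rc_2_2 lc_a_rc_3_2 lc_a_rc_2_2 lc_a_Cert_tree lc_a_rc_3_2 lc_a_rc_4_2 lc_a_rc_4_2 lc_a_rc_3_2 lc_a_rc_21_0 lc_a_rc_4_2 lc_a_rc_2_0 lc_a_Cert_tree lc_a_rc_3_2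 lc_a_rc_5_2 lc_a_rc_4_2 lc_a_Cert_tree lc_a_rc_3_2 lc_a_rc_3_0 lc_a_rc_3_2 lc_a_rc_2_2 lc_a_rc_4_2 lc_a_rc_21_0 lc_a_rc_4_2 lc_a_rc_2_2 lc_a_rc_21_0 lc_a_Cert_tree lc_a_rc_3_2 lc_a_rc_5_2 lc_a_rc_4_2 lc_a_rc_5_0 lc_a_rc_3_2 lc_a_rc_21_0 lc_a_rc_3_2 lc_a_rc_1_2) (@D3.rec (fun _ => (Cert rels S Gen.a)) lc_a_rc_4_2 lc_a_rc_5_0 lc_a_rc_4_2 lc_a_rc_2_2 lc_a_rc_3_2 lc_a_rc_2_2 lc_a_rc_4_2 lc_a_rc_5_0 lc_a_rc_4_2 lc_a_Cert_tree lc_a_rc_2_2 lc_a_rc_4_2 lc_a_rc_21_0 lc_a_rc_3_2 lc_a_rc_21_0 lc_a_rc_3_2 lc_a_rc_2_2 lc_a_rc_2_2 lc_a_rc_3_2 lc_a_rc_0_1 lc_a_rc_5_0 lc_a_rc_4_2 lc_a_rc_5_0 lc_a_rc_4_2 lc_a_Cert_tree lc_a_rc_5_0 lc_a_rc_4_2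 lc_a_rc_0_1 lc_a_rc_4_2 lc_a_rc_21_0 lc_a_rc_3_2 lc_a_rc_2_2 lc_a_rc_4_2 lc_a_rc_0_1 lc_a_Cert_tree lc_a_rc_3_2 lc_a_rc_4_2 lc_a_rc_4_2 lc_a_rc_21_0 lc_a_rc_5_2 lc_a_rc_4_2 lc_a_Cert_tree lc_a_rc_21_0 lc_a_rc_4_2 lc_a_rc_3_2 lc_a_rc_3_2 lc_a_rc_5_2 lc_a_Cert_tree lc_a_rc_3_2 lc_a_rc_4_2 lc_a_Cert_tree lc_a_rc_3_2 lc_a_rc_4_2 lc_a_Cert_tree lc_a_rc_0_1 lc_a_rc_0_1 lc_a_rc_3_2 lc_a_rc_21_0 lc_a_rc_5_0 lc_a_rc_3_2 lc_a_rc_0_1 lc_a_rc_4_2) (@D3.rec (fun _ => (Cert rels S Gen.a)) lc_a_rc_22_0 lc_a_rc_4_2 lc_a_rc_5_0 lc_a_rc_3_2 lc_a_rc_4_2 lc_a_rc_3_2 lc_a_rc_3_2 lc_a_rc_2_2 lc_a_rc_5_2 lc_a_rc_5_0 lc_a_rc_4_2 lc_a_Cert_tree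 lc_a_rc_21_0 lc_a_rc_4_2 lc_a_rc_3_2 lc_a_rc_5_0 lc_a_rc_5_2 lc_a_rc_2_2 lc_a_rc_3_2 lc_a_Cert_tree lc_a_rc_3_2 lc_a_rc_2_2 lc_a_rc_3_2 lc_a_rc_21_0 lc_a_rc_5_2 lc_a_Cert_tree lc_a_rc_3_2 lc_a_rc_2_2 lc_a_Cert_tree lc_a_rc_2_2 lc_a_rc_4_2 lc_a_Cert_tree lc_a_rc_5_0 lc_a_rc_21_0 lc_a_rc_2_2 lc_a_rc_0_1 lc_a_rc_2_0 lc_a_rc_4_2 lc_a_rc_4_2 lc_a_rc_2_2 lc_a_rc_5_0 lc_a_rc_5_2 lc_a_rc_3_2 lc_a_rc_2_2 lc_a_rc_2_2 lc_a_rc_4_2 lc_a_rc_2_2 lc_a_rc_4_2 lc_a_rc_2_2 lc_a_rc_4_2 lc_a_rc_3_2 lc_a_rc_2_2 lc_a_rc_4_2 lc_a_rc_2_2 lc_a_rc_4_2 lc_a_rc_22_0 lc_a_rc_2_2 lc_a_Cert_tree lc_a_rc_3_2 lc_a_rc_4_2 lc_a_rc_0_1 lc_a_rc_4_2) (@D3.rec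 (fun _ => (Cert rels S Gen.a)) lc_a_rc_5_2 lc_a_rc_0_1 lc_a_rc_1_4 lc_a_rc_2_2 lc_a_rc_2_2 lc_a_rc_21_0 lc_a_rc_0_1 lc_a_rc_3_2 lc_a_rc_4_2 lc_a_rc_2_2 lc_a_rc_0_1 lc_a_rc_2_0 lc_a_rc_5_2 lc_a_rc_21_0 lc_a_rc_5_0 lc_a_rc_4_2 lc_a_rc_4_2 lc_a_rc_2_2 lc_a_Cert_tree lc_a_rc_2_2 lc_a_rc_4_2 lc_a_rc_3_2 lc_a_rc_3_2 lc_a_rc_5_2 lc_a_rc_2_2 lc_a_rc_2_2 lc_a_rc_0_1 lc_a_rc_3_2 lc_a_rc_4_2 lc_a_rc_5_0 lc_a_rc_2_2 lc_a_rc_4_2 lc_a_rc_2_2 lc_a_rc_2_2 lc_a_rc_2_2 lc_a_rc_5_2 lc_a_rc_4_2 lc_a_rc_4_2 lc_a_rc_4_2 lc_a_rc_21_0 lc_a_rc_21_0 lc_a_rc_5_0 lc_a_rc_2_2 lc_a_rc_4_2 lc_a_rc_22_0 lc_a_Cert_tree lc_a_rc_3_2 lc_a_rc_4_2 lc_a_rc_21_0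 lc_a_rc_4_2 lc_a_rc_5_2 lc_a_rc_5_0 lc_a_Cert_tree lc_a_rc_0_1 lc_a_rc_3_2 lc_a_rc_4_2 lc_a_rc_4_2 lc_a_rc_2_2 lc_a_rc_2_2 lc_a_rc_2_2 lc_a_rc_2_2 lc_a_rc_3_2) (@D3.rec (fun _ => (Cert rels S Gen.a)) lc_a_rc_5_0 lc_a_rc_5_0 lc_a_rc_21_0 lc_a_rc_0_1 lc_a_rc_2_2 lc_a_rc_2_0 lc_a_rc_4_2 lc_a_rc_3_2 lc_a_rc_3_2 lc_a_rc_4_2 lc_a_rc_3_2 lc_a_rc_5_2 lc_a_rc_21_0 lc_a_rc_0_1 lc_a_rc_0_1 lc_a_rc_2_2 lc_a_rc_1_2 lc_a_rc_4_2 lc_a_rc_4_2 lc_a_rc_3_2 lc_a_rc_5_2 lc_a_rc_0_1 lc_a_rc_0_1 lc_a_Cert_tree lc_a_rc_2_2 lc_a_rc_3_2 lc_a_rc_4_2 lc_a_rc_5_2 lc_a_Cert_tree lc_a_rc_2_2 lc_a_rc_3_2 lc_a_rc_4_2 lc_a_rc_3_2 lc_a_rc_0_1 lc_a_rc_3_0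 lc_a_rc_2_2 lc_a_rc_4_2 lc_a_rc_4_2 lc_a_rc_4_2 lc_a_rc_2_2 lc_a_rc_2_2 lc_a_rc_5_0 lc_a_rc_0_1 lc_a_rc_5_2 lc_a_rc_4_2 lc_a_rc_3_2 lc_a_rc_3_2 lc_a_rc_2_2 lc_a_rc_4_2 lc_a_rc_4_2 lc_a_rc_4_2 lc_a_rc_22_0 lc_a_rc_4_2 lc_a_rc_2_2 lc_a_rc_4_2 lc_a_rc_3_2 lc_a_rc_2_2 lc_a_rc_3_2 lc_a_rc_3_2 lc_a_rc_2_2 lc_a_Cert_tree lc_a_rc_5_0) (@D3.rec (fun _ => (Cert rels S Gen.a)) lc_a_rc_4_2 lc_a_rc_4_2 lc_a_rc_21_0 lc_a_rc_5_2 lc_a_rc_3_2 lc_a_rc_5_2 lc_a_rc_3_2 lc_a_rc_5_0 lc_a_rc_3_2 lc_a_Cert_tree lc_a_rc_3_2 lc_a_rc_0_1 lc_a_rc_21_0 lc_a_rc_0_1 lc_a_rc_21_0 lc_a_rc_2_2 lc_a_rc_3_2 lc_a_rc_3_2 lc_a_rc_2_2 lc_a_rc_4_2 lc_a_rc_21_0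 lc_a_rc_3_2 lc_a_rc_3_2 lc_a_rc_2_2 lc_a_Cert_tree lc_a_rc_2_2 lc_a_rc_4_2 lc_a_rc_3_2 lc_a_rc_5_0 lc_a_rc_5_2 lc_a_rc_2_2 lc_a_rc_4_2 lc_a_Cert_tree lc_a_rc_4_2 lc_a_rc_3_2 lc_a_rc_3_2 lc_a_rc_5_2 lc_a_rc_0_1 lc_a_rc_2_2 lc_a_Cert_tree lc_a_rc_0_1 lc_a_rc_21_0 lc_a_rc_0_1 lc_a_rc_4_2 lc_a_rc_3_2 lc_a_rc_5_2 lc_a_rc_3_2 lc_a_rc_2_2 lc_a_rc_21_0 lc_a_rc_5_0 lc_a_rc_4_2 lc_a_rc_4_2 lc_a_rc_3_2 lc_a_rc_4_2 lc_a_rc_4_2 lc_a_rc_21_0 lc_a_rc_3_2 lc_a_rc_2_2 lc_a_rc_3_2 lc_a_rc_4_2 lc_a_rc_2_2 lc_a_rc_4_2) (@D3.rec (fun _ => (Cert rels S Gen.a)) lc_a_rc_5_0 lc_a_rc_3_2 lc_a_rc_5_2 lc_a_rc_4_2 lc_a_rc_2_2 lc_a_rc_5_0 lc_a_rc_5_0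 lc_a_rc_4_2 lc_a_rc_21_0 lc_a_rc_2_2 lc_a_Cert_tree lc_a_rc_21_0 lc_a_rc_4_2 lc_a_rc_21_0 lc_a_rc_4_2 lc_a_rc_5_2 lc_a_rc_2_2 lc_a_rc_21_0 lc_a_rc_0_1 lc_a_rc_0_1 lc_a_rc_4_2 lc_a_rc_5_2 lc_a_Cert_tree lc_a_rc_21_0 lc_a_rc_5_0 lc_a_rc_4_2 lc_a_rc_2_2 lc_a_rc_1_2 lc_a_rc_2_2 lc_a_rc_2_2 lc_a_rc_1_4 lc_a_rc_4_2 lc_a_rc_3_2 lc_a_rc_0_1 lc_a_rc_0_1 lc_a_rc_4_2 lc_a_rc_5_0 lc_a_rc_2_2 lc_a_rc_4_2 lc_a_rc_21_0 lc_a_rc_1_4 lc_a_rc_4_2 lc_a_rc_3_2 lc_a_rc_22_0 lc_a_rc_3_0 lc_a_rc_3_2 lc_a_rc_3_2 lc_a_rc_4_2 lc_a_rc_3_0 lc_a_rc_22_0 lc_a_rc_4_2 lc_a_rc_5_0 lc_a_rc_3_2 lc_a_Cert_tree lc_a_rc_4_2 lc_a_rc_4_2 lc_a_rc_5_2 lc_a_rc_1_2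 lc_a_rc_3_2 lc_a_rc_3_2 lc_a_rc_0_1 lc_a_rc_4_0) (@D3.rec (fun _ => (Cert rels S Gen.a)) lc_a_rc_3_2 lc_a_rc_5_2 lc_a_rc_2_2 lc_a_rc_3_2 lc_a_rc_5_0 lc_a_rc_2_2 lc_a_rc_4_2 lc_a_rc_4_2 lc_a_rc_3_2 lc_a_rc_4_2 lc_a_rc_4_2 lc_a_rc_5_2 lc_a_rc_1_4 lc_a_rc_2_2 lc_a_rc_3_2 lc_a_rc_2_2 lc_a_rc_3_2 lc_a_rc_4_2 lc_a_rc_2_0 lc_a_rc_3_2 lc_a_rc_21_0 lc_a_rc_3_2 lc_a_rc_2_2 lc_a_rc_0_1 lc_a_rc_1_0 lc_a_rc_1_4 lc_a_rc_4_2 lc_a_rc_3_2 lc_a_rc_3_2 lc_a_rc_5_2 lc_a_rc_3_2 lc_a_rc_0_1 lc_a_rc_4_2 lc_a_rc_3_2 lc_a_rc_4_2 lc_a_rc_2_2 lc_a_rc_5_0 lc_a_rc_3_2 lc_a_rc_21_0 lc_a_rc_2_2 lc_a_rc_2_2 lc_a_rc_4_2 lc_a_rc_3_2 lc_a_rc_2_2 lc_a_rc_5_0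 lc_a_rc_3_2 lc_a_rc_3_2 lc_a_rc_2_2 lc_a_rc_4_2 lc_a_rc_5_0 lc_a_rc_2_2 lc_a_rc_4_2 lc_a_Cert_tree lc_a_rc_5_2 lc_a_rc_4_2 lc_a_rc_3_2 lc_a_rc_2_2 lc_a_rc_4_2 lc_a_rc_2_2 lc_a_rc_0_1 lc_a_Cert_tree lc_a_rc_3_2) (@D3.rec (fun _ => (Cert rels S Gen.a)) lc_a_rc_4_2 lc_a_rc_2_2 lc_a_rc_5_0 lc_a_rc_0_1 lc_a_rc_5_2 lc_a_rc_4_2 lc_a_rc_2_2 lc_a_rc_4_2 lc_a_rc_3_2 lc_a_rc_5_0 lc_a_rc_5_2 lc_a_rc_0_1 lc_a_rc_2_2 lc_a_rc_4_2 lc_a_rc_21_0 lc_a_rc_0_1 lc_a_rc_4_2 lc_a_rc_0_1 lc_a_rc_21_0 lc_a_rc_0_1 lc_a_rc_4_2 lc_a_rc_21_0 lc_a_rc_4_2 lc_a_rc_2_0 lc_a_rc_4_2 lc_a_rc_5_2 lc_a_rc_5_0 lc_a_Cert_tree lc_a_rc_1_2 lc_a_rc_21_0 lc_a_rc_21_0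 lc_a_rc_3_2 lc_a_rc_2_2 lc_a_rc_3_2 lc_a_rc_2_2 lc_a_rc_21_0 lc_a_rc_2_2 lc_a_Cert_tree lc_a_rc_2_2 lc_a_rc_2_2 lc_a_rc_3_0 lc_a_rc_0_1 lc_a_rc_5_2 lc_a_rc_21_0 lc_a_rc_3_2 lc_a_rc_22_0 lc_a_rc_4_2 lc_a_rc_3_2 lc_a_Cert_tree lc_a_rc_2_2 lc_a_rc_4_2 lc_a_rc_3_2 lc_a_rc_4_2 lc_a_rc_4_2 lc_a_rc_5_2 lc_a_rc_3_2 lc_a_rc_2_2 lc_a_rc_4_2 lc_a_Cert_tree lc_a_rc_21_0 lc_a_rc_4_2 lc_a_rc_4_2) (@D3.rec (fun _ => (Cert rels S Gen.a)) lc_a_rc_4_2 lc_a_rc_5_2 lc_a_rc_4_2 lc_a_Cert_tree lc_a_rc_3_2 lc_a_rc_4_2 lc_a_rc_3_2 lc_a_rc_5_0 lc_a_rc_5_2 lc_a_Cert_tree lc_a_rc_3_2 lc_a_rc_4_2 lc_a_Cert_tree lc_a_rc_21_0 lc_a_rc_4_2 lc_a_Cert_tree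 lc_a_rc_0_1 lc_a_rc_0_1 lc_a_rc_3_2 lc_a_rc_21_0 lc_a_rc_2_2 lc_a_rc_21_0 lc_a_rc_3_2 lc_a_rc_5_2 lc_a_rc_3_2 lc_a_rc_5_0 lc_a_rc_3_2 lc_a_rc_2_2 lc_a_rc_4_2 lc_a_rc_2_2 lc_a_rc_4_2 lc_a_rc_3_2 lc_a_rc_21_0 lc_a_rc_3_2 lc_a_rc_4_2 lc_a_rc_3_2 lc_a_rc_2_2 lc_a_rc_4_2 lc_a_rc_22_0 lc_a_rc_2_2 lc_a_Cert_tree lc_a_rc_3_2 lc_a_rc_4_2 lc_a_rc_3_2 lc_a_rc_5_0 lc_a_rc_5_2 lc_a_rc_2_2 lc_a_rc_3_2 lc_a_Cert_tree lc_a_rc_2_2 lc_a_rc_21_0 lc_a_rc_0_1 lc_a_rc_5_2 lc_a_Cert_tree lc_a_rc_0_1 lc_a_rc_21_0 lc_a_rc_0_1 lc_a_rc_3_2 lc_a_rc_4_2 lc_a_rc_4_2 lc_a_rc_5_2 lc_a_rc_0_1) (@D3.rec (fun _ => (Cert rels S Gen.a)) lc_a_rc_2_2 lc_a_rc_2_2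 lc_a_rc_1_4 lc_a_rc_3_2 lc_a_rc_21_0 lc_a_rc_4_2 lc_a_rc_21_0 lc_a_rc_4_2 lc_a_rc_5_0 lc_a_Cert_tree lc_a_rc_21_0 lc_a_rc_4_2 lc_a_rc_0_1 lc_a_rc_3_2 lc_a_rc_5_2 lc_a_rc_2_2 lc_a_rc_2_2 lc_a_rc_0_1 lc_a_rc_0_1 lc_a_rc_3_2 lc_a_rc_4_2 lc_a_rc_2_2 lc_a_rc_5_2 lc_a_rc_2_2 lc_a_rc_5_0 lc_a_rc_4_2 lc_a_rc_2_2 lc_a_rc_1_4 lc_a_rc_2_2 lc_a_rc_4_2 lc_a_rc_2_0 lc_a_Cert_tree lc_a_rc_3_2 lc_a_rc_4_2 lc_a_rc_4_2 lc_a_rc_4_2 lc_a_rc_5_2 lc_a_rc_0_1 lc_a_rc_5_0 lc_a_rc_0_1 lc_a_rc_3_2 lc_a_rc_4_2 lc_a_rc_4_2 lc_a_rc_4_2 lc_a_rc_2_2 lc_a_rc_3_2 lc_a_rc_5_2 lc_a_rc_4_2 lc_a_rc_2_2 lc_a_rc_4_2 lc_a_rc_4_2 lc_a_rc_5_0 lc_a_rc_2_2 lc_a_Cert_tree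 lc_a_rc_3_2 lc_a_rc_4_2 lc_a_rc_3_2 lc_a_rc_3_2 lc_a_rc_5_2 lc_a_rc_2_2 lc_a_rc_2_2 lc_a_rc_0_1) (@D3.rec (fun _ => (Cert rels S Gen.a)) lc_a_rc_3_2 lc_a_rc_4_2 lc_a_rc_4_2 lc_a_rc_2_2 lc_a_rc_5_0 lc_a_rc_5_2 lc_a_rc_2_2 lc_a_rc_3_2 lc_a_rc_3_2 lc_a_rc_2_2 lc_a_rc_21_0 lc_a_rc_2_2 lc_a_rc_0_1 lc_a_rc_2_2 lc_a_rc_1_2 lc_a_rc_4_2 lc_a_rc_4_2 lc_a_rc_3_2 lc_a_rc_5_2 lc_a_rc_0_1 lc_a_rc_21_0 lc_a_rc_0_1 lc_a_rc_2_2 lc_a_rc_2_0 lc_a_rc_4_2 lc_a_rc_4_2 lc_a_rc_3_2 lc_a_rc_5_2 lc_a_rc_0_1 lc_a_rc_0_1 lc_a_Cert_tree lc_a_rc_2_2 lc_a_rc_3_2 lc_a_rc_4_2 lc_a_rc_5_2 lc_a_Cert_tree lc_a_rc_2_2 lc_a_rc_3_2 lc_a_rc_4_2 lc_a_rc_3_2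 lc_a_rc_2_2 lc_a_rc_21_0 lc_a_rc_2_2 lc_a_rc_4_2 lc_a_rc_4_2 lc_a_Cert_tree lc_a_rc_4_2 lc_a_rc_2_0 lc_a_rc_2_2 lc_a_rc_5_0 lc_a_Cert_tree lc_a_rc_5_2 lc_a_rc_4_2 lc_a_rc_3_2 lc_a_rc_3_2 lc_a_rc_2_2 lc_a_rc_4_2 lc_a_rc_3_2 lc_a_rc_5_0 lc_a_rc_2_2 lc_a_rc_4_2 lc_a_rc_2_2) (@D3.rec (fun _ => (Cert rels S Gen.a)) lc_a_rc_1_2 lc_a_rc_21_0 lc_a_rc_2_2 lc_a_Cert_tree lc_a_rc_21_0 lc_a_rc_22_0 lc_a_rc_3_2 lc_a_rc_5_0 lc_a_rc_5_2 lc_a_rc_2_2 lc_a_rc_4_2 lc_a_rc_3_2 lc_a_rc_3_2 lc_a_rc_5_2 lc_a_rc_0_1 lc_a_rc_0_1 lc_a_rc_21_0 lc_a_rc_0_1 lc_a_rc_0_1 lc_a_rc_4_2 lc_a_rc_3_2 lc_a_rc_5_2 lc_a_rc_3_2 lc_a_rc_5_0 lc_a_rc_4_2 lc_a_rc_21_0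 lc_a_rc_0_1 lc_a_rc_5_0 lc_a_rc_4_2 lc_a_rc_21_0 lc_a_rc_4_2 lc_a_rc_5_0 lc_a_rc_3_2 lc_a_rc_5_2 lc_a_rc_4_2 lc_a_rc_5_0 lc_a_rc_21_0 lc_a_rc_4_2 lc_a_rc_21_0 lc_a_rc_2_2 lc_a_rc_21_0 lc_a_rc_2_2 lc_a_rc_4_2 lc_a_rc_2_2 lc_a_Cert_tree lc_a_rc_2_2 lc_a_rc_4_2 lc_a_rc_5_0 lc_a_rc_3_2 lc_a_rc_3_2 lc_a_rc_4_2 lc_a_rc_21_0 lc_a_rc_3_2 lc_a_Cert_tree lc_a_rc_3_2 lc_a_rc_5_0 lc_a_rc_2_2 lc_a_rc_21_0 lc_a_rc_0_1 lc_a_rc_2_0 lc_a_rc_3_2 lc_a_rc_3_0) (@D3.rec (fun _ => (Cert rels S Gen.a)) lc_a_rc_5_0 lc_a_rc_4_2 lc_a_rc_3_2 lc_a_rc_3_2 lc_a_rc_2_2 lc_a_rc_21_0 lc_a_rc_3_2 lc_a_rc_2_2 lc_a_rc_3_2 lc_a_Cert_tree lc_a_rc_0_1 lc_a_rc_3_0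 lc_a_rc_3_0 lc_a_rc_3_2 lc_a_rc_5_2 lc_a_rc_21_0 lc_a_rc_0_1 lc_a_rc_21_0 lc_a_rc_0_1 lc_a_rc_4_2 lc_a_rc_4_2 lc_a_rc_5_2 lc_a_Cert_tree lc_a_rc_5_0 lc_a_rc_4_2 lc_a_rc_2_2 lc_a_rc_3_0 lc_a_rc_2_2 lc_a_rc_2_2 lc_a_rc_3_0 lc_a_rc_5_0 lc_a_rc_2_2 lc_a_rc_4_2 lc_a_rc_3_2 lc_a_rc_4_2 lc_a_rc_4_2 lc_a_rc_5_2 lc_a_rc_0_1 lc_a_rc_2_0 lc_a_rc_0_1 lc_a_rc_3_2 lc_a_rc_21_0 lc_a_rc_3_2 lc_a_rc_4_2 lc_a_rc_3_2 lc_a_rc_3_2 lc_a_rc_22_0 lc_a_rc_4_2 lc_a_rc_3_2 lc_a_rc_21_0 lc_a_rc_3_2 lc_a_rc_5_2 lc_a_rc_2_2 lc_a_rc_2_2 lc_a_rc_3_2 lc_a_rc_1_4 lc_a_rc_2_2 lc_a_rc_3_2 lc_a_rc_2_2 lc_a_rc_3_2 lc_a_rc_4_2 lc_a_rc_3_2) (@D3.rec (fun _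 => (Cert rels S Gen.a)) lc_a_rc_3_0 lc_a_rc_21_0 lc_a_rc_3_2 lc_a_rc_2_2 lc_a_rc_4_2 lc_a_rc_3_2 lc_a_rc_2_2 lc_a_rc_4_2 lc_a_rc_22_0 lc_a_rc_5_2 lc_a_rc_0_1 lc_a_rc_0_1 lc_a_rc_3_2 lc_a_rc_4_2 lc_a_rc_5_0 lc_a_rc_3_2 lc_a_rc_3_0 lc_a_rc_0_1 lc_a_rc_4_2 lc_a_rc_3_2 lc_a_rc_4_2 lc_a_rc_5_2 lc_a_rc_1_0 lc_a_rc_0_1 lc_a_rc_21_0 lc_a_rc_1_4 lc_a_rc_4_2 lc_a_Cert_tree lc_a_rc_4_2 lc_a_rc_3_0 lc_a_rc_5_2 lc_a_rc_0_1 lc_a_rc_2_2 lc_a_rc_4_2 lc_a_rc_3_2 lc_a_rc_5_0 lc_a_rc_5_2 lc_a_rc_0_1 lc_a_rc_2_2 lc_a_rc_4_2 lc_a_rc_0_1 lc_a_rc_3_0 lc_a_rc_4_0 lc_a_rc_5_0 lc_a_Cert_tree lc_a_rc_0_1 lc_a_rc_4_2 lc_a_rc_2_2 lc_a_rc_4_2 lc_a_Cert_tree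 lc_a_rc_4_2 lc_a_rc_5_2 lc_a_rc_5_0 lc_a_rc_0_1 lc_a_rc_0_1 lc_a_Cert_tree lc_a_rc_3_2 lc_a_rc_4_2 lc_a_rc_3_2 lc_a_rc_21_0 lc_a_Cert_tree lc_a_rc_3_2) (@D3.rec (fun _ => (Cert rels S Gen.a)) lc_a_rc_3_2 lc_a_rc_5_0 lc_a_rc_4_2 lc_a_rc_5_0 lc_a_rc_2_2 lc_a_rc_4_2 lc_a_rc_21_0 lc_a_Cert_tree lc_a_rc_3_2 lc_a_rc_5_2 lc_a_rc_4_2 lc_a_rc_4_2 lc_a_rc_5_0 lc_a_rc_3_2 lc_a_rc_0_1 lc_a_rc_0_1 lc_a_rc_3_2 lc_a_rc_4_2 lc_a_rc_3_2 lc_a_rc_3_2 lc_a_rc_1_0 lc_a_rc_2_2 lc_a_rc_4_2 lc_a_rc_21_0 lc_a_rc_2_2 lc_a_Cert_tree lc_a_rc_5_0 lc_a_rc_2_2 lc_a_rc_3_2 lc_a_rc_21_0 lc_a_rc_21_0 lc_a_rc_4_2 lc_a_rc_0_1 lc_a_rc_3_2 lc_a_rc_2_2 lc_a_rc_4_2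 lc_a_rc_21_0 lc_a_Cert_tree lc_a_rc_3_2 lc_a_rc_2_2 lc_a_rc_3_0 lc_a_rc_3_2 lc_a_rc_21_0 lc_a_rc_21_0 lc_a_rc_4_2 lc_a_rc_2_2 lc_a_Cert_tree lc_a_rc_3_2 lc_a_rc_4_2 lc_a_rc_4_2 lc_a_rc_21_0 lc_a_rc_5_2 lc_a_rc_2_2 lc_a_rc_4_2 lc_a_Cert_tree lc_a_rc_22_0 lc_a_rc_4_2 lc_a_rc_3_2 lc_a_rc_3_2 lc_a_rc_5_2 lc_a_Cert_tree lc_a_rc_3_2) (@D3.rec (fun _ => (Cert rels S Gen.a)) lc_a_rc_4_2 lc_a_Cert_tree lc_a_rc_3_2 lc_a_rc_4_2 lc_a_rc_2_0 lc_a_rc_0_1 lc_a_rc_0_1 lc_a_rc_3_2 lc_a_rc_21_0 lc_a_rc_3_2 lc_a_rc_21_0 lc_a_rc_0_1 lc_a_rc_4_2 lc_a_rc_22_0 lc_a_rc_4_2 lc_a_rc_4_2 lc_a_rc_21_0 lc_a_rc_5_0 lc_a_rc_3_2 lc_a_rc_4_2 lc_a_rc_4_2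 lc_a_rc_4_2 lc_a_rc_5_2 lc_a_rc_4_2 lc_a_rc_4_2 lc_a_rc_5_0 lc_a_rc_2_0 lc_a_rc_3_2 lc_a_rc_4_2 lc_a_rc_21_0 lc_a_rc_3_2 lc_a_rc_1_4 lc_a_rc_3_2 lc_a_rc_5_0 lc_a_rc_0_1 lc_a_rc_0_1 lc_a_rc_0_1 lc_a_rc_2_2 lc_a_rc_1_4 lc_a_rc_4_2 lc_a_rc_5_2 lc_a_Cert_tree lc_a_rc_2_2 lc_a_rc_3_2 lc_a_rc_4_2 lc_a_rc_3_2 lc_a_rc_2_2 lc_a_rc_1_2 lc_a_rc_2_2 lc_a_rc_4_2 lc_a_rc_4_2 lc_a_rc_21_0 lc_a_rc_2_2 lc_a_rc_4_2 lc_a_rc_3_2 lc_a_rc_2_2 lc_a_rc_2_2 lc_a_rc_3_2 lc_a_Cert_tree lc_a_rc_2_0 lc_a_rc_3_2 lc_a_rc_2_2) (@D3.rec (fun _ => (Cert rels S Gen.a)) lc_a_rc_5_2 lc_a_rc_2_2 lc_a_rc_22_0 lc_a_rc_4_2 lc_a_rc_3_2 lc_a_rc_4_2 lc_a_rc_2_2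 lc_a_Cert_tree lc_a_rc_3_2 lc_a_rc_5_2 lc_a_rc_4_2 lc_a_rc_5_2 lc_a_rc_0_1 lc_a_rc_3_2 lc_a_rc_3_0 lc_a_rc_5_0 lc_a_rc_4_2 lc_a_rc_3_2 lc_a_rc_5_0 lc_a_rc_4_2 lc_a_rc_0_1 lc_a_rc_21_0 lc_a_rc_4_2 lc_a_rc_3_2 lc_a_rc_4_2 lc_a_Cert_tree lc_a_rc_22_0 lc_a_rc_21_0 lc_a_rc_4_2 lc_a_rc_2_2 lc_a_rc_4_2 lc_a_rc_3_2 lc_a_rc_2_2 lc_a_Cert_tree lc_a_rc_3_2 lc_a_rc_2_2 lc_a_rc_3_2 lc_a_rc_5_2 lc_a_rc_4_2 lc_a_rc_2_2 lc_a_rc_4_2 lc_a_rc_1_4 lc_a_Cert_tree lc_a_rc_3_2 lc_a_rc_4_2 lc_a_rc_3_0 lc_a_rc_4_2 lc_a_rc_21_0 lc_a_rc_2_2 lc_a_rc_0_1 lc_a_Cert_tree lc_a_rc_22_0 lc_a_rc_4_2 lc_a_rc_4_2 lc_a_rc_4_2 lc_a_rc_5_2 lc_a_rc_4_2 lc_a_Cert_tree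 lc_a_rc_2_2 lc_a_rc_4_2 lc_a_rc_3_2 lc_a_rc_5_0) (@D3.rec (fun _ => (Cert rels S Gen.a)) lc_a_rc_5_2 lc_a_Cert_tree lc_a_rc_21_0 lc_a_rc_3_0 lc_a_Cert_tree lc_a_rc_3_2 lc_a_rc_4_2 lc_a_rc_2_0 lc_a_rc_0_1 lc_a_rc_0_1 lc_a_rc_3_2 lc_a_rc_21_0 lc_a_rc_2_2 lc_a_rc_3_2 lc_a_rc_22_0 lc_a_rc_4_2 lc_a_rc_22_0 lc_a_rc_4_2 lc_a_rc_0_1 lc_a_rc_4_2 lc_a_rc_5_0 lc_a_rc_3_2 lc_a_rc_4_2 lc_a_rc_21_0 lc_a_rc_3_2 lc_a_rc_5_2 lc_a_rc_4_2 lc_a_rc_4_2 lc_a_rc_5_0 lc_a_rc_2_2 lc_a_rc_2_0 lc_a_rc_22_0 lc_a_rc_22_0 lc_a_rc_3_2 lc_a_rc_5_0 lc_a_rc_5_2 lc_a_rc_3_2 lc_a_rc_3_2 lc_a_rc_0_1 lc_a_rc_0_1 lc_a_rc_1_2 lc_a_rc_2_2 lc_a_rc_3_2 lc_a_rc_4_2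 lc_a_rc_5_2 lc_a_Cert_tree lc_a_rc_2_2 lc_a_rc_3_2 lc_a_rc_4_2 lc_a_rc_3_2 lc_a_rc_3_2 lc_a_rc_21_0 lc_a_rc_2_2 lc_a_rc_4_2 lc_a_rc_4_2 lc_a_rc_5_0 lc_a_rc_2_2 lc_a_rc_4_0 lc_a_rc_21_0 lc_a_rc_3_2 lc_a_rc_5_0 lc_a_rc_2_2) (@D3.rec (fun _ => (Cert rels S Gen.a)) lc_a_rc_3_2 lc_a_rc_2_2 lc_a_rc_4_2 lc_a_rc_2_2 lc_a_rc_4_2 lc_a_rc_4_2 lc_a_rc_3_0 lc_a_rc_5_0 lc_a_rc_2_2 lc_a_rc_3_2 lc_a_rc_2_0 lc_a_rc_4_2 lc_a_Cert_tree lc_a_rc_5_2 lc_a_rc_5_2 lc_a_Cert_tree lc_a_rc_3_2 lc_a_rc_4_2 lc_a_rc_3_2 lc_a_rc_5_0 lc_a_rc_22_0 lc_a_Cert_tree lc_a_rc_3_2 lc_a_rc_4_2 lc_a_rc_5_0 lc_a_rc_3_2 lc_a_rc_4_0 lc_a_rc_5_2 lc_a_Cert_tree lc_a_rc_3_2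 lc_a_rc_4_2 lc_a_Cert_tree lc_a_rc_3_2 lc_a_rc_4_2 lc_a_rc_0_1 lc_a_rc_3_0 lc_a_rc_0_1 lc_a_rc_3_2 lc_a_rc_3_2 lc_a_rc_2_2 lc_a_rc_3_0 lc_a_rc_2_2 lc_a_rc_21_0 lc_a_rc_4_2 lc_a_rc_4_2 lc_a_Cert_tree lc_a_rc_3_2 lc_a_rc_5_0 lc_a_Cert_tree lc_a_rc_3_2 lc_a_rc_4_2 lc_a_rc_4_2 lc_a_rc_4_2 lc_a_rc_5_2 lc_a_rc_21_0 lc_a_rc_21_0 lc_a_Cert_tree lc_a_rc_3_2 lc_a_rc_4_2 lc_a_rc_1_4 lc_a_rc_21_0 lc_a_rc_5_2) (@D3.rec (fun _ => (Cert rels S Gen.a)) lc_a_Cert_tree lc_a_rc_3_2 lc_a_rc_4_2 lc_a_Cert_tree lc_a_rc_3_2 lc_a_rc_4_2 lc_a_Cert_tree lc_a_rc_0_1 lc_a_rc_0_1 lc_a_rc_1_4 lc_a_rc_0_1 lc_a_rc_2_2 lc_a_rc_3_2 lc_a_rc_2_2 lc_a_rc_4_2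 lc_a_rc_2_2 lc_a_rc_4_2 lc_a_rc_2_2 lc_a_rc_4_2 lc_a_rc_2_2 lc_a_rc_2_2 lc_a_Cert_tree lc_a_rc_3_2 lc_a_rc_5_2 lc_a_rc_4_2 lc_a_rc_4_2 lc_a_rc_0_1 lc_a_rc_2_2 lc_a_rc_2_0 lc_a_rc_2_2 lc_a_Cert_tree lc_a_rc_3_2 lc_a_rc_2_2 lc_a_rc_3_2 lc_a_rc_5_2 lc_a_rc_5_0 lc_a_rc_4_2 lc_a_Cert_tree lc_a_rc_2_2 lc_a_rc_4_2 lc_a_rc_21_0 lc_a_rc_4_2 lc_a_rc_0_1 lc_a_rc_2_0 lc_a_Cert_tree lc_a_rc_3_2 lc_a_rc_2_2 lc_a_rc_21_0 lc_a_rc_1_4 lc_a_rc_5_2 lc_a_Cert_tree lc_a_rc_2_2 lc_a_rc_5_2 lc_a_rc_5_0 lc_a_rc_1_4 lc_a_Cert_tree lc_a_rc_3_2 lc_a_rc_4_2 lc_a_rc_4_0 lc_a_rc_21_0 lc_a_rc_21_0 lc_a_rc_4_2) (@D3.rec (fun _ => (Cert rels S Gen.a))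 lc_a_Cert_tree lc_a_rc_0_1 lc_a_rc_0_1 lc_a_rc_3_2 lc_a_rc_21_0 lc_a_rc_3_2 lc_a_rc_2_2 lc_a_rc_4_2 lc_a_rc_4_2 lc_a_rc_3_2 lc_a_rc_5_0 lc_a_rc_4_2 lc_a_rc_2_0 lc_a_Cert_tree lc_a_rc_2_0 lc_a_rc_4_2 lc_a_Cert_tree lc_a_rc_2_2 lc_a_rc_4_2 lc_a_rc_2_2 lc_a_rc_3_0 lc_a_rc_2_2 lc_a_rc_4_2 lc_a_Cert_tree lc_a_rc_2_2 lc_a_rc_4_2 lc_a_rc_2_2 lc_a_rc_4_2 lc_a_rc_2_2 lc_a_rc_4_2 lc_a_rc_21_0 lc_a_rc_5_0 lc_a_rc_4_2 lc_a_rc_1_4 lc_a_rc_2_2 lc_a_rc_2_2 lc_a_rc_5_0 lc_a_rc_3_2 lc_a_rc_0_1 lc_a_rc_2_2 lc_a_rc_2_0 lc_a_rc_4_2 lc_a_rc_0_1 lc_a_rc_21_0 lc_a_rc_2_2 lc_a_rc_4_2 lc_a_rc_22_0 lc_a_rc_2_0 lc_a_Cert_tree lc_a_rc_2_2 lc_a_rc_4_2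 lc_a_rc_4_2 lc_a_rc_5_0 lc_a_rc_5_2 lc_a_Cert_tree lc_a_rc_3_2 lc_a_rc_2_2 lc_a_rc_5_0 lc_a_rc_3_2 lc_a_rc_5_2 lc_a_Cert_tree lc_a_rc_2_2) (@D3.rec (fun _ => (Cert rels S Gen.a)) lc_a_rc_4_2 lc_a_Cert_tree lc_a_rc_2_2 lc_a_rc_4_2 lc_a_Cert_tree lc_a_rc_0_1 lc_a_rc_0_1 lc_a_rc_3_2 lc_a_rc_21_0 lc_a_rc_2_2 lc_a_rc_2_2 lc_a_rc_2_2 lc_a_rc_4_2 lc_a_rc_22_0 lc_a_rc_4_2 lc_a_rc_4_2 lc_a_rc_3_2 lc_a_rc_3_2 lc_a_rc_2_0 lc_a_Cert_tree lc_a_rc_3_2 lc_a_rc_2_2 lc_a_rc_5_0 lc_a_Cert_tree lc_a_rc_4_2 lc_a_rc_5_2 lc_a_rc_2_2 lc_a_rc_4_2 lc_a_rc_4_2 lc_a_rc_21_0 lc_a_rc_3_2 lc_a_rc_21_0 lc_a_rc_2_2 lc_a_rc_3_2 lc_a_rc_2_2 lc_a_rc_4_2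 lc_a_Cert_tree lc_a_rc_2_2 lc_a_rc_5_0 lc_a_rc_0_1 lc_a_rc_4_2 lc_a_rc_5_2 lc_a_rc_1_0 lc_a_rc_3_2 lc_a_rc_2_2 lc_a_Cert_tree lc_a_rc_3_2 lc_a_rc_4_2 lc_a_rc_5_0 lc_a_rc_4_2 lc_a_rc_5_2 lc_a_Cert_tree lc_a_rc_3_2 lc_a_rc_2_2 lc_a_Cert_tree lc_a_rc_3_2 lc_a_rc_4_2 lc_a_Cert_tree lc_a_rc_3_2 lc_a_rc_3_2 lc_a_rc_2_2 lc_a_rc_3_2) (@D3.rec (fun _ => (Cert rels S Gen.a)) lc_a_rc_3_2 lc_a_rc_0_1 lc_a_rc_3_2 lc_a_rc_4_2 lc_a_rc_0_1 lc_a_rc_3_0 lc_a_rc_4_2 lc_a_rc_2_2 lc_a_rc_5_0 lc_a_rc_3_2 lc_a_rc_5_2 lc_a_rc_21_0 lc_a_rc_5_0 lc_a_rc_2_2 lc_a_rc_4_2 lc_a_rc_5_0 lc_a_rc_4_2 lc_a_rc_4_2 lc_a_rc_1_4 lc_a_rc_0_1 lc_a_rc_2_0 lc_a_Cert_tree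 lc_a_rc_3_2 lc_a_rc_4_2 lc_a_rc_2_2 lc_a_rc_4_2 lc_a_rc_4_2 lc_a_Cert_tree lc_a_rc_3_2 lc_a_rc_4_2 lc_a_rc_0_1 lc_a_rc_4_2 lc_a_rc_21_0 lc_a_Cert_tree lc_a_rc_4_2 lc_a_rc_3_2 lc_a_rc_21_0 lc_a_rc_4_2 lc_a_rc_4_2 lc_a_rc_2_2 lc_a_rc_21_0 lc_a_rc_3_2 lc_a_rc_0_1 lc_a_rc_3_2 lc_a_rc_4_2 lc_a_rc_4_2 lc_a_rc_21_0 lc_a_rc_2_2 lc_a_rc_3_2 lc_a_rc_0_1 lc_a_rc_2_2 lc_a_rc_4_2 lc_a_rc_2_2 lc_a_rc_3_2 lc_a_rc_3_2 lc_a_rc_4_2 lc_a_rc_5_2 lc_a_rc_2_0 lc_a_rc_5_0 lc_a_Cert_tree lc_a_rc_3_2 lc_a_rc_4_2) (@D3.rec (fun _ => (Cert rels S Gen.a)) lc_a_Cert_tree lc_a_rc_3_2 lc_a_rc_4_2 lc_a_rc_3_2 lc_a_rc_3_2 lc_a_rc_3_2 lc_a_rc_5_2 lc_a_Cert_tree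 lc_a_rc_4_2 lc_a_Cert_tree lc_a_rc_21_0 lc_a_rc_3_2 lc_a_rc_0_1 lc_a_rc_3_2 lc_a_rc_4_2 lc_a_rc_3_2 lc_a_rc_3_2 lc_a_rc_3_2 lc_a_rc_22_0 lc_a_rc_4_2 lc_a_rc_3_2 lc_a_rc_2_2 lc_a_rc_4_2 lc_a_rc_2_2 lc_a_rc_4_2 lc_a_rc_2_2 lc_a_rc_3_2 lc_a_rc_4_2 lc_a_rc_4_2 lc_a_rc_4_2 lc_a_Cert_tree lc_a_rc_3_2 lc_a_rc_4_2 lc_a_rc_21_0 lc_a_rc_0_1 lc_a_rc_5_2 lc_a_rc_0_1 lc_a_rc_21_0 lc_a_rc_0_1 lc_a_rc_3_2 lc_a_rc_4_2 lc_a_rc_4_2 lc_a_rc_5_0 lc_a_rc_2_2 lc_a_rc_5_0 lc_a_rc_4_2 lc_a_rc_2_2 lc_a_rc_4_2 lc_a_rc_5_0 lc_a_rc_5_2 lc_a_rc_1_4 lc_a_rc_3_2 lc_a_rc_2_2 lc_a_rc_0_1 lc_a_rc_2_2 lc_a_rc_3_2 lc_a_rc_4_2 lc_a_rc_21_0 lc_a_rc_4_2 lc_a_rc_3_2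 lc_a_rc_3_0 lc_a_rc_4_2) (@D3.rec (fun _ => (Cert rels S Gen.a)) lc_a_rc_4_2 lc_a_rc_0_1 lc_a_rc_21_0 lc_a_rc_0_1 lc_a_rc_2_2 lc_a_rc_3_2 lc_a_rc_0_1 lc_a_rc_4_2 lc_a_rc_4_2 lc_a_rc_3_2 lc_a_rc_21_0 lc_a_rc_0_1 lc_a_rc_0_1 lc_a_Cert_tree lc_a_rc_1_4 lc_a_rc_3_2 lc_a_rc_4_2 lc_a_rc_5_2 lc_a_Cert_tree lc_a_rc_2_2 lc_a_rc_3_2 lc_a_rc_4_2 lc_a_rc_3_2 lc_a_rc_21_0 lc_a_rc_3_2 lc_a_rc_2_2 lc_a_rc_4_2 lc_a_rc_3_0 lc_a_rc_4_2 lc_a_Cert_tree lc_a_rc_4_2 lc_a_Cert_tree lc_a_rc_4_2 lc_a_Cert_tree lc_a_rc_4_2 lc_a_rc_4_2 lc_a_rc_4_0 lc_a_rc_5_2 lc_a_rc_4_2 lc_a_rc_5_0 lc_a_rc_2_2 lc_a_rc_3_2 lc_a_rc_3_2 lc_a_rc_2_2 lc_a_rc_4_2 lc_a_rc_4_2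 lc_a_rc_21_0 lc_a_rc_5_0 lc_a_rc_5_0 lc_a_rc_4_2 lc_a_rc_2_2 lc_a_rc_4_2 lc_a_rc_0_1 lc_a_rc_2_2 lc_a_rc_2_2 lc_a_Cert_tree lc_a_rc_22_0 lc_a_rc_22_0 lc_a_rc_4_2 lc_a_rc_21_0 lc_a_rc_0_1 lc_a_Cert_tree) (@D3.rec (fun _ => (Cert rels S Gen.a)) lc_a_rc_21_0 lc_a_rc_0_1 lc_a_rc_0_1 lc_a_rc_3_2 lc_a_rc_4_2 lc_a_rc_4_2 lc_a_rc_4_2 lc_a_rc_2_0 lc_a_rc_21_0 lc_a_Cert_tree lc_a_rc_21_0 lc_a_rc_2_2 lc_a_rc_21_0 lc_a_rc_5_2 lc_a_rc_3_2 lc_a_rc_3_2 lc_a_rc_0_1 lc_a_rc_2_0 lc_a_rc_3_0 lc_a_rc_0_1 lc_a_rc_3_2 lc_a_rc_5_2 lc_a_rc_4_0 lc_a_rc_0_1 lc_a_Cert_tree lc_a_rc_3_2 lc_a_rc_4_2 lc_a_rc_4_2 lc_a_rc_21_0 lc_a_rc_5_2 lc_a_rc_0_1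 lc_a_rc_5_0 lc_a_rc_0_1 lc_a_rc_3_2 lc_a_rc_4_2 lc_a_rc_21_0 lc_a_rc_4_2 lc_a_rc_3_2 lc_a_rc_4_2 lc_a_rc_3_0 lc_a_rc_3_2 lc_a_rc_21_0 lc_a_rc_4_2 lc_a_Cert_tree lc_a_rc_3_2 lc_a_rc_4_2 lc_a_rc_3_2 lc_a_rc_3_2 lc_a_rc_5_2 lc_a_Cert_tree lc_a_rc_5_0 lc_a_rc_0_1 lc_a_rc_1_2 lc_a_rc_4_2 lc_a_rc_3_2 lc_a_rc_0_1 lc_a_rc_2_2 lc_a_rc_4_2 lc_a_rc_4_2 lc_a_rc_3_2 lc_a_rc_0_1 lc_a_rc_21_0) (@D3.rec (fun _ => (Cert rels S Gen.a)) lc_a_rc_0_1 lc_a_rc_2_2 lc_a_rc_5_2 lc_a_rc_0_1 lc_a_rc_0_1 lc_a_Cert_tree lc_a_rc_2_2 lc_a_rc_3_2 lc_a_rc_4_2 lc_a_rc_5_2 lc_a_rc_3_0 lc_a_rc_2_2 lc_a_rc_3_2 lc_a_rc_3_0 lc_a_rc_3_2 lc_a_Cert_tree lc_a_rc_5_0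 lc_a_rc_2_2 lc_a_rc_4_2 lc_a_rc_4_2 lc_a_Cert_tree lc_a_rc_5_0 lc_a_Cert_tree lc_a_rc_22_0 lc_a_rc_4_0 lc_a_rc_4_2 lc_a_Cert_tree lc_a_rc_3_2 lc_a_rc_4_2 lc_a_rc_5_0 lc_a_Cert_tree lc_a_rc_3_2 lc_a_rc_4_2 lc_a_rc_21_0 lc_a_rc_3_2 lc_a_rc_5_2 lc_a_rc_2_2 lc_a_Cert_tree lc_a_rc_3_2 lc_a_rc_4_2 lc_a_rc_0_1 lc_a_rc_21_0 lc_a_rc_5_2 lc_a_rc_2_2 lc_a_rc_3_2 lc_a_Cert_tree lc_a_rc_3_2 lc_a_rc_4_2 lc_a_rc_3_0 lc_a_rc_21_0 lc_a_Cert_tree lc_a_rc_3_2 lc_a_rc_4_2 lc_a_Cert_tree lc_a_rc_2_2 lc_a_rc_4_2 lc_a_rc_21_0 lc_a_rc_3_2 lc_a_rc_0_1 lc_a_rc_3_2 lc_a_rc_4_2 lc_a_rc_4_2) (@D3.rec (fun _ => (Cert rels S Gen.a)) lc_a_rc_21_0 lc_a_rc_2_2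 lc_a_rc_3_2 lc_a_rc_5_2 lc_a_rc_0_1 lc_a_rc_2_2 lc_a_rc_1_4 lc_a_rc_5_0 lc_a_rc_2_2 lc_a_rc_21_0 lc_a_rc_4_2 lc_a_rc_0_1 lc_a_rc_2_2 lc_a_rc_5_0 lc_a_rc_2_2 lc_a_rc_3_2 lc_a_rc_21_0 lc_a_rc_2_2 lc_a_rc_21_0 lc_a_rc_2_2 lc_a_Cert_tree lc_a_rc_3_2 lc_a_rc_4_2 lc_a_rc_21_0 lc_a_rc_0_1 lc_a_rc_5_2 lc_a_rc_2_2 lc_a_rc_3_2 lc_a_rc_0_1 lc_a_rc_3_2 lc_a_rc_4_2 lc_a_rc_4_2 lc_a_rc_0_1 lc_a_rc_21_0 lc_a_rc_3_2 lc_a_rc_5_2 lc_a_rc_1_2 lc_a_rc_0_1 lc_a_rc_21_0 lc_a_rc_21_0 lc_a_rc_0_1 lc_a_rc_0_1 lc_a_rc_5_0 lc_a_rc_4_2 lc_a_rc_4_2 lc_a_rc_2_0 lc_a_rc_3_2 lc_a_rc_2_2 lc_a_rc_5_0 lc_a_rc_0_1 lc_a_rc_2_2 lc_a_rc_3_2 lc_a_rc_4_2 lc_a_rc_4_2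 lc_a_rc_3_2 lc_a_rc_5_2 lc_a_rc_1_4 lc_a_rc_21_0 lc_a_rc_0_1 lc_a_rc_3_0 lc_a_rc_21_0 lc_a_rc_4_2) (@D3.rec (fun _ => (Cert rels S Gen.a)) lc_a_rc_4_2 lc_a_rc_3_2 lc_a_Cert_tree lc_a_rc_2_2 lc_a_rc_3_2 lc_a_rc_4_2 lc_a_Cert_tree lc_a_rc_21_0 lc_a_rc_21_0 lc_a_rc_4_2 lc_a_rc_3_2 lc_a_rc_4_2 lc_a_rc_3_2 lc_a_rc_21_0 lc_a_rc_2_2 lc_a_rc_3_0 lc_a_rc_3_0 lc_a_rc_2_2 lc_a_Cert_tree lc_a_rc_4_2 lc_a_rc_3_2 lc_a_rc_2_2 lc_a_rc_4_2 lc_a_rc_21_0 lc_a_rc_5_2 lc_a_Cert_tree lc_a_rc_3_2 lc_a_rc_4_2 lc_a_rc_1_2 lc_a_rc_5_2 lc_a_rc_5_2 lc_a_rc_2_2 lc_a_rc_4_2 lc_a_rc_2_2 lc_a_rc_3_2 lc_a_rc_3_2 lc_a_rc_2_2 lc_a_rc_4_2 lc_a_Cert_tree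 lc_a_rc_4_2 lc_a_rc_5_0 lc_a_rc_3_2 lc_a_rc_4_2 lc_a_rc_5_2 lc_a_rc_2_2 lc_a_Cert_tree lc_a_rc_3_2 lc_a_rc_4_2 lc_a_Cert_tree lc_a_rc_2_2 lc_a_rc_4_2 lc_a_rc_1_4 lc_a_rc_5_2 lc_a_Cert_tree lc_a_rc_3_2 lc_a_rc_3_2 lc_a_rc_4_2 lc_a_Cert_tree lc_a_rc_3_2 lc_a_rc_4_2 lc_a_rc_2_2 lc_a_rc_2_2) (@D3.rec (fun _ => (Cert rels S Gen.a)) lc_a_rc_0_1 lc_a_rc_3_2 lc_a_rc_4_2 lc_a_rc_0_1 lc_a_rc_21_0 lc_a_rc_4_2 lc_a_rc_5_0 lc_a_rc_4_0 lc_a_rc_3_2 lc_a_rc_5_2 lc_a_rc_2_2 lc_a_rc_3_0 lc_a_rc_0_1 lc_a_rc_2_2 lc_a_rc_3_2 lc_a_rc_3_2 lc_a_rc_4_2 lc_a_rc_5_2 lc_a_rc_5_0 lc_a_Cert_tree lc_a_rc_21_0 lc_a_Cert_tree lc_a_rc_2_2 lc_a_rc_3_2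 lc_a_rc_4_2 lc_a_Cert_tree lc_a_rc_2_2 lc_a_rc_21_0 lc_a_rc_4_2 lc_a_rc_3_2 lc_a_rc_4_2 lc_a_rc_3_2 lc_a_rc_21_0 lc_a_rc_2_2 lc_a_rc_4_2 lc_a_rc_4_2 lc_a_rc_4_0 lc_a_rc_3_2 lc_a_rc_5_2 lc_a_rc_4_2 lc_a_rc_5_0 lc_a_rc_3_2 lc_a_rc_4_2 lc_a_rc_4_2 lc_a_rc_3_2 lc_a_rc_2_2 lc_a_rc_3_2 lc_a_Cert_tree lc_a_rc_3_2 lc_a_rc_4_2 lc_a_rc_2_2 lc_a_Cert_tree lc_a_rc_3_2 lc_a_rc_2_2 lc_a_rc_3_2 lc_a_rc_2_2 lc_a_rc_2_2 lc_a_rc_2_2 lc_a_Cert_tree lc_a_rc_0_1 lc_a_Cert_tree lc_a_rc_3_2) (@D3.rec (fun _ => (Cert rels S Gen.a)) lc_a_rc_4_2 lc_a_rc_21_0 lc_a_rc_1_4 lc_a_rc_5_2 lc_a_Cert_tree lc_a_rc_4_2 lc_a_rc_21_0 lc_a_rc_0_1 lc_a_rc_0_1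 lc_a_rc_3_2 lc_a_rc_4_2 lc_a_rc_2_2 lc_a_rc_3_2 lc_a_rc_4_2 lc_a_rc_5_0 lc_a_rc_4_2 lc_a_rc_3_2 lc_a_rc_5_2 lc_a_rc_0_1 lc_a_rc_2_2 lc_a_rc_3_2 lc_a_rc_4_2 lc_a_rc_0_1 lc_a_rc_2_2 lc_a_rc_21_0 lc_a_rc_21_0 lc_a_rc_2_2 lc_a_rc_2_2 lc_a_rc_5_0 lc_a_rc_0_1 lc_a_rc_2_2 lc_a_rc_4_2 lc_a_rc_3_2 lc_a_Cert_tree lc_a_rc_2_2 lc_a_rc_4_2 lc_a_Cert_tree lc_a_rc_21_0 lc_a_rc_3_2 lc_a_rc_4_2 lc_a_rc_0_1 lc_a_rc_3_2 lc_a_rc_2_2 lc_a_rc_4_2 lc_a_rc_4_2 lc_a_rc_3_2 lc_a_rc_3_2 lc_a_rc_5_2 lc_a_Cert_tree lc_a_rc_4_2 lc_a_rc_4_0 lc_a_rc_4_2 lc_a_rc_0_1 lc_a_rc_0_1 lc_a_rc_4_0 lc_a_rc_4_0 lc_a_rc_5_0 lc_a_rc_2_2 lc_a_rc_3_2 lc_a_rc_5_0 lc_a_rc_5_2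 lc_a_rc_2_2) (@D3.rec (fun _ => (Cert rels S Gen.a)) lc_a_rc_3_2 lc_a_rc_21_0 lc_a_rc_2_2 lc_a_Cert_tree lc_a_rc_4_2 lc_a_rc_2_2 lc_a_Cert_tree lc_a_rc_21_0 lc_a_Cert_tree lc_a_rc_3_2 lc_a_rc_4_2 lc_a_rc_21_0 lc_a_rc_1_4 lc_a_rc_5_2 lc_a_Cert_tree lc_a_Cert_tree lc_a_rc_2_2 lc_a_rc_2_2 lc_a_rc_2_2 lc_a_rc_0_1 lc_a_rc_3_2 lc_a_rc_4_2 lc_a_rc_21_0 lc_a_rc_3_2 lc_a_rc_4_2 lc_a_rc_2_2 lc_a_rc_21_0 lc_a_rc_3_2 lc_a_rc_5_2 lc_a_rc_2_2 lc_a_rc_4_2 lc_a_rc_0_1 lc_a_rc_2_2 lc_a_rc_21_0 lc_a_Cert_tree lc_a_rc_2_2 lc_a_rc_0_1 lc_a_rc_2_2 lc_a_rc_4_2 lc_a_rc_3_2 lc_a_rc_4_2 lc_a_rc_3_2 lc_a_rc_21_0 lc_a_rc_2_2 lc_a_rc_4_2 lc_a_rc_3_2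 lc_a_rc_3_2 lc_a_rc_1_4 lc_a_rc_3_0 lc_a_rc_4_2 lc_a_Cert_tree lc_a_Cert_tree lc_a_rc_4_2 lc_a_rc_2_2 lc_a_rc_21_0 lc_a_rc_0_1 lc_a_rc_0_1 lc_a_rc_3_2 lc_a_rc_4_2 lc_a_rc_21_0 lc_a_rc_3_2 lc_a_rc_2_2) (@D3.rec (fun _ => (Cert rels S Gen.a)) lc_a_rc_3_2 lc_a_rc_4_2 lc_a_rc_21_0 lc_a_rc_2_2 lc_a_rc_3_2 lc_a_rc_4_2 lc_a_rc_21_0 lc_a_rc_0_1 lc_a_rc_2_2 lc_a_rc_4_2 lc_a_rc_3_0 lc_a_rc_3_2 lc_a_rc_3_2 lc_a_rc_5_2 lc_a_rc_1_2 lc_a_rc_4_2 lc_a_Cert_tree lc_a_rc_4_2 lc_a_rc_21_0 lc_a_rc_0_1 lc_a_rc_5_2 lc_a_rc_0_1 lc_a_rc_5_2 lc_a_rc_2_2 lc_a_rc_3_2 lc_a_rc_1_4 lc_a_rc_2_2 lc_a_rc_0_1 lc_a_Cert_tree lc_a_rc_21_0 lc_a_rc_21_0 lc_a_rc_4_2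 lc_a_rc_2_2 lc_a_rc_3_2 lc_a_rc_4_2 lc_a_rc_21_0 lc_a_rc_2_2 lc_a_rc_4_2 lc_a_rc_0_1 lc_a_rc_21_0 lc_a_rc_2_2 lc_a_rc_0_1 lc_a_rc_3_0 lc_a_rc_3_0 lc_a_rc_1_4 lc_a_rc_4_2 lc_a_rc_5_2 lc_a_rc_2_2 lc_a_rc_3_2 lc_a_rc_4_2 lc_a_rc_3_2 lc_a_rc_0_1 lc_a_rc_2_2 lc_a_rc_3_2 lc_a_rc_4_2 lc_a_rc_21_0 lc_a_rc_2_2 lc_a_rc_5_0 lc_a_Cert_tree lc_a_rc_3_2 lc_a_rc_4_2 lc_a_rc_2_2) (@D3.rec (fun _ => (Cert rels S Gen.a)) lc_a_rc_5_2 lc_a_rc_2_2 lc_a_rc_4_2 lc_a_rc_3_2 lc_a_rc_3_0 lc_a_rc_3_2 lc_a_rc_5_2 lc_a_rc_4_2 lc_a_rc_21_0 lc_a_rc_0_1 lc_a_rc_2_2 lc_a_rc_3_2 lc_a_rc_4_2 lc_a_rc_2_2 lc_a_rc_3_2 lc_a_rc_4_2 lc_a_rc_2_2 lc_a_rc_4_2 lc_a_rc_3_2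 lc_a_rc_0_1 lc_a_rc_21_0 lc_a_rc_2_2 lc_a_rc_4_2 lc_a_Cert_tree lc_a_rc_21_0 lc_a_rc_1_2 lc_a_rc_0_1 lc_a_rc_21_0 lc_a_rc_3_2 lc_a_rc_3_2 lc_a_rc_4_2 lc_a_rc_5_0 lc_a_rc_0_1 lc_a_rc_5_2 lc_a_rc_3_2 lc_a_rc_3_2 lc_a_rc_3_2 lc_a_rc_0_1 lc_a_rc_2_2 lc_a_rc_0_1 lc_a_rc_2_2 lc_a_rc_1_4 lc_a_rc_3_0 lc_a_rc_3_0 lc_a_rc_4_2 lc_a_Cert_tree lc_a_rc_3_2 lc_a_rc_2_2 lc_a_Cert_tree lc_a_rc_4_2 lc_a_rc_4_2 lc_a_rc_3_2 lc_a_rc_3_2 lc_a_rc_4_2 lc_a_rc_21_0 lc_a_rc_3_2 lc_a_rc_2_2 lc_a_rc_5_0 lc_a_rc_0_1 lc_a_rc_2_2 lc_a_rc_5_0 lc_a_rc_5_0) (@D3.rec (fun _ => (Cert rels S Gen.a)) lc_a_rc_21_0 lc_a_rc_3_2 lc_a_rc_4_2 lc_a_rc_1_4 lc_a_rc_2_2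 lc_a_rc_2_2 lc_a_rc_4_2 lc_a_rc_21_0 lc_a_rc_5_2 lc_a_rc_2_2 lc_a_rc_4_2 lc_a_rc_4_2 lc_a_rc_5_2 lc_a_rc_5_0 lc_a_Cert_tree lc_a_rc_3_2 lc_a_rc_4_2 lc_a_rc_5_0 lc_a_Cert_tree lc_a_rc_3_2 lc_a_rc_4_2 lc_a_rc_21_0 lc_a_rc_1_4 lc_a_rc_5_2 lc_a_rc_4_2 lc_a_Cert_tree lc_a_rc_3_2 lc_a_rc_4_2 lc_a_rc_0_1 lc_a_rc_21_0 lc_a_rc_5_2 lc_a_rc_2_2 lc_a_rc_3_2 lc_a_Cert_tree lc_a_rc_3_2 lc_a_rc_4_2 lc_a_rc_0_1 lc_a_rc_21_0 lc_a_Cert_tree lc_a_rc_21_0 lc_a_rc_4_2 lc_a_Cert_tree lc_a_rc_2_2 lc_a_rc_2_2 lc_a_rc_21_0 lc_a_rc_2_2 lc_a_rc_0_1 lc_a_rc_3_2 lc_a_rc_2_2 lc_a_rc_0_1 lc_a_rc_2_0 lc_a_rc_22_0 lc_a_rc_4_2 lc_a_rc_21_0 lc_a_rc_2_2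 lc_a_rc_3_2 lc_a_rc_5_2 lc_a_rc_0_1 lc_a_rc_2_2 lc_a_rc_4_2 lc_a_rc_0_1 lc_a_rc_21_0) (@D3.rec (fun _ => (Cert rels S Gen.a)) lc_a_rc_21_0 lc_a_rc_4_2 lc_a_rc_5_0 lc_a_rc_4_2 lc_a_rc_5_2 lc_a_rc_3_2 lc_a_rc_3_2 lc_a_rc_4_2 lc_a_rc_4_2 lc_a_rc_3_2 lc_a_rc_2_2 lc_a_rc_2_2 lc_a_rc_21_0 lc_a_rc_3_2 lc_a_rc_4_2 lc_a_rc_4_2 lc_a_rc_0_1 lc_a_rc_1_2 lc_a_rc_1_4 lc_a_rc_1_2 lc_a_rc_0_1 lc_a_rc_5_0 lc_a_rc_21_0 lc_a_rc_2_2 lc_a_rc_3_2 lc_a_rc_5_2 lc_a_rc_1_2 lc_a_rc_4_2 lc_a_rc_2_2 lc_a_rc_4_2 lc_a_rc_2_0 lc_a_Cert_tree lc_a_rc_3_2 lc_a_rc_4_2 lc_a_rc_5_0 lc_a_rc_1_4 lc_a_rc_5_2 lc_a_rc_5_0 lc_a_rc_2_2 lc_a_rc_0_1 lc_a_rc_4_2 lc_a_rc_0_1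 lc_a_rc_3_2 lc_a_rc_21_0 lc_a_rc_2_2 lc_a_rc_2_2 lc_a_rc_1_4 lc_a_rc_21_0 lc_a_rc_4_2 lc_a_rc_21_0 lc_a_rc_1_4 lc_a_rc_0_1 lc_a_rc_4_2 lc_a_rc_2_2 lc_a_rc_1_4 lc_a_rc_0_1 lc_a_rc_0_1 lc_a_rc_2_2 lc_a_rc_4_2 lc_a_rc_5_0 lc_a_rc_3_2 lc_a_rc_4_2) (@D3.rec (fun _ => (Cert rels S Gen.a)) lc_a_rc_21_0 lc_a_rc_21_0 lc_a_rc_1_2 lc_a_rc_3_2 lc_a_rc_2_2 lc_a_rc_21_0 lc_a_rc_1_4 lc_a_rc_0_1 lc_a_rc_22_0 lc_a_rc_3_2 lc_a_rc_4_2 lc_a_rc_2_2 lc_a_rc_21_0 lc_a_rc_3_2 lc_a_rc_21_0 lc_a_rc_4_2 lc_a_rc_5_0 lc_a_rc_5_2 lc_a_rc_3_2 lc_a_rc_5_0 lc_a_rc_1_2 lc_a_rc_5_0 lc_a_rc_4_2 lc_a_rc_0_1 lc_a_rc_21_0 lc_a_rc_5_2 lc_a_rc_21_0 lc_a_rc_4_2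 lc_a_rc_5_0 lc_a_rc_21_0 lc_a_rc_3_2 lc_a_rc_2_2 lc_a_rc_4_2 lc_a_rc_4_2 lc_a_rc_5_0 lc_a_rc_5_2 lc_a_rc_2_2 lc_a_rc_4_2 lc_a_rc_21_0 lc_a_rc_21_0 lc_a_rc_3_2 lc_a_rc_21_0 lc_a_rc_0_1 lc_a_rc_3_2 lc_a_rc_4_2 lc_a_rc_3_0 lc_a_rc_4_2 lc_a_rc_0_1 lc_a_rc_21_0 lc_a_rc_5_2 lc_a_rc_21_0 lc_a_rc_0_1 lc_a_rc_3_2 lc_a_rc_4_2 lc_a_rc_1_4 lc_a_rc_3_2 lc_a_rc_3_2 lc_a_rc_1_0 lc_a_rc_5_0 lc_a_rc_3_2 lc_a_rc_0_1 lc_a_rc_0_1) (@D3.rec (fun _ => (Cert rels S Gen.a)) lc_a_rc_3_2 lc_a_rc_3_2 lc_a_rc_2_2 lc_a_rc_4_2 lc_a_rc_2_2 lc_a_rc_4_2 lc_a_rc_4_2 lc_a_rc_5_0 lc_a_Cert_tree lc_a_rc_2_2 lc_a_rc_4_2 lc_a_rc_1_2 lc_a_rc_2_2 lc_a_rc_4_2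 lc_a_rc_2_2 lc_a_rc_2_2 lc_a_rc_3_2 lc_a_rc_2_2 lc_a_rc_4_2 lc_a_rc_4_2 lc_a_rc_4_0 lc_a_Cert_tree lc_a_rc_2_2 lc_a_rc_3_2 lc_a_Cert_tree lc_a_rc_21_0 lc_a_rc_5_0 lc_a_rc_5_2 lc_a_rc_3_2 lc_a_rc_4_2 lc_a_rc_5_2 lc_a_rc_4_2 lc_a_rc_3_2 lc_a_rc_5_2 lc_a_rc_2_2 lc_a_rc_0_1 lc_a_rc_0_1 lc_a_rc_2_2 lc_a_rc_4_2 lc_a_rc_1_4 lc_a_rc_4_2 lc_a_rc_4_2 lc_a_rc_3_2 lc_a_rc_0_1 lc_a_rc_0_1 lc_a_rc_21_0 lc_a_rc_2_2 lc_a_rc_4_2 lc_a_rc_3_2 lc_a_rc_4_2 lc_a_rc_5_2 lc_a_rc_4_2 lc_a_rc_3_2 lc_a_rc_4_2 lc_a_Cert_tree lc_a_rc_2_2 lc_a_rc_5_2 lc_a_rc_3_2 lc_a_Cert_tree lc_a_rc_2_2 lc_a_rc_1_4 lc_a_rc_5_2) (@D3.rec (fun _ => (Cert rels S Gen.a))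 lc_a_Cert_tree lc_a_rc_2_2 lc_a_Cert_tree lc_a_rc_4_2 lc_a_rc_21_0 lc_a_rc_2_2 lc_a_rc_0_1 lc_a_rc_4_2 lc_a_rc_21_0 lc_a_rc_2_2 lc_a_rc_3_2 lc_a_rc_5_2 lc_a_rc_0_1 lc_a_rc_2_2 lc_a_rc_4_2 lc_a_rc_3_2 lc_a_rc_2_2 lc_a_rc_3_2 lc_a_rc_21_0 lc_a_rc_4_2 lc_a_rc_5_2 lc_a_Cert_tree lc_a_rc_3_2 lc_a_rc_1_4 lc_a_rc_2_2 lc_a_rc_3_2 lc_a_rc_4_2 lc_a_Cert_tree lc_a_rc_21_0 lc_a_rc_21_0 lc_a_rc_4_2 lc_a_rc_4_2 lc_a_rc_3_2 lc_a_rc_4_2 lc_a_rc_3_2 lc_a_rc_5_2 lc_a_Cert_tree lc_a_rc_2_2 lc_a_rc_5_2 lc_a_rc_0_1 lc_a_rc_0_1 lc_a_rc_2_2 lc_a_rc_4_2 lc_a_Cert_tree lc_a_rc_3_2 lc_a_rc_2_2 lc_a_rc_2_2 lc_a_rc_3_2 lc_a_rc_1_2 lc_a_rc_2_2 lc_a_rc_0_1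 lc_a_rc_21_0 lc_a_rc_2_2 lc_a_rc_3_0 lc_a_rc_3_2 lc_a_rc_5_2 lc_a_rc_0_1 lc_a_rc_0_1 lc_a_rc_3_2 lc_a_rc_2_2 lc_a_rc_4_2 lc_a_rc_2_2) (@D3.rec (fun _ => (Cert rels S Gen.a)) lc_a_rc_4_2 lc_a_rc_3_2 lc_a_rc_2_2 lc_a_rc_3_2 lc_a_rc_21_0 lc_a_rc_2_2 lc_a_rc_4_2 lc_a_rc_2_2 lc_a_rc_2_2 lc_a_rc_3_2 lc_a_rc_4_2 lc_a_rc_0_1 lc_a_rc_3_2 lc_a_rc_5_2 lc_a_rc_0_1 lc_a_rc_4_2 lc_a_rc_4_2 lc_a_rc_0_1 lc_a_rc_3_2 lc_a_rc_5_2 lc_a_rc_3_2 lc_a_rc_2_2 lc_a_rc_4_2 lc_a_Cert_tree lc_a_rc_2_2 lc_a_rc_3_2 lc_a_rc_5_0 lc_a_rc_2_2 lc_a_rc_3_0 lc_a_rc_2_2 lc_a_rc_2_2 lc_a_rc_3_2 lc_a_rc_0_1 lc_a_rc_4_2 lc_a_rc_5_0 lc_a_rc_5_2 lc_a_rc_5_0 lc_a_rc_4_2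 lc_a_rc_3_0 lc_a_rc_0_1 lc_a_rc_5_2 lc_a_rc_0_1 lc_a_rc_2_2 lc_a_rc_4_2 lc_a_rc_5_0 lc_a_rc_5_2 lc_a_rc_5_0 lc_a_Cert_tree lc_a_rc_3_2 lc_a_rc_0_1 lc_a_rc_21_0 lc_a_rc_3_2 lc_a_rc_4_2 lc_a_rc_5_2 lc_a_rc_21_0 lc_a_rc_3_2 lc_a_rc_3_2 lc_a_rc_2_0 lc_a_Cert_tree lc_a_rc_3_2 lc_a_rc_3_2 lc_a_rc_4_2) (@D3.rec (fun _ => (Cert rels S Gen.a)) lc_a_rc_3_2 lc_a_rc_4_2 lc_a_rc_4_2 lc_a_rc_0_1 lc_a_rc_5_0 lc_a_rc_4_2 lc_a_rc_5_2 lc_a_Cert_tree lc_a_rc_21_0 lc_a_rc_3_2 lc_a_Cert_tree lc_a_rc_5_0 lc_a_rc_21_0 lc_a_rc_0_1 lc_a_rc_5_2 lc_a_rc_0_1 lc_a_rc_3_2 lc_a_rc_0_1 lc_a_rc_3_2 lc_a_rc_5_0 lc_a_rc_4_0 lc_a_rc_3_2 lc_a_rc_5_2 lc_a_rc_2_2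 lc_a_rc_4_2 lc_a_rc_3_2 lc_a_rc_2_2 lc_a_rc_1_4 lc_a_rc_3_2 lc_a_rc_2_2 lc_a_rc_4_2 lc_a_rc_1_2 lc_a_rc_3_2 lc_a_rc_2_2 lc_a_rc_4_2 lc_a_rc_2_2 lc_a_rc_1_4 lc_a_rc_3_2 lc_a_rc_0_1 lc_a_rc_21_0 lc_a_rc_3_0 lc_a_rc_21_0 lc_a_rc_2_2 lc_a_rc_4_2 lc_a_rc_0_1 lc_a_rc_3_2 lc_a_rc_1_2 lc_a_rc_2_2 lc_a_rc_3_2 lc_a_rc_3_0 lc_a_rc_2_2 lc_a_rc_3_2 lc_a_rc_0_1 lc_a_rc_21_0 lc_a_rc_3_2 lc_a_rc_4_2 lc_a_rc_4_2 lc_a_rc_3_2 lc_a_rc_4_2 lc_a_rc_5_2 lc_a_rc_5_0 lc_a_rc_3_2) (@D3.rec (fun _ => (Cert rels S Gen.a)) lc_a_rc_2_2 lc_a_rc_21_0 lc_a_rc_2_2 lc_a_rc_3_0 lc_a_rc_21_0 lc_a_rc_0_1 lc_a_rc_5_2 lc_a_rc_0_1 lc_a_rc_2_2 lc_a_rc_4_2 lc_a_rc_5_0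 lc_a_rc_5_2 lc_a_rc_21_0 lc_a_rc_5_0 lc_a_Cert_tree lc_a_rc_3_2 lc_a_rc_0_1 lc_a_rc_3_2 lc_a_rc_21_0 lc_a_rc_0_1 lc_a_rc_5_2 lc_a_rc_21_0 lc_a_rc_4_2 lc_a_Cert_tree lc_a_rc_5_0 lc_a_rc_2_2 lc_a_rc_4_2 lc_a_rc_22_0 lc_a_rc_22_0 lc_a_rc_3_2 lc_a_rc_3_2 lc_a_rc_3_2 lc_a_rc_2_2 lc_a_rc_4_2 lc_a_rc_3_2 lc_a_rc_2_2 lc_a_rc_4_2 lc_a_rc_3_2 lc_a_rc_4_2 lc_a_rc_0_1 lc_a_rc_3_2 lc_a_rc_3_2 lc_a_rc_3_2 lc_a_rc_3_2 lc_a_rc_2_2 lc_a_rc_3_0 lc_a_rc_0_1 lc_a_rc_3_0 lc_a_rc_21_0 lc_a_rc_4_2 lc_a_rc_3_0 lc_a_rc_2_2 lc_a_rc_4_2 lc_a_rc_2_0 lc_a_rc_2_2 lc_a_rc_3_2 lc_a_rc_4_2 lc_a_rc_5_0 lc_a_rc_4_2 lc_a_rc_3_2 lc_a_rc_5_2 lc_a_rc_0_1)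 (@D3.rec (fun _ => (Cert rels S Gen.a)) lc_a_rc_1_0 lc_a_rc_2_2 lc_a_Cert_tree lc_a_rc_4_2 lc_a_rc_0_1 lc_a_rc_4_2 lc_a_rc_3_2 lc_a_Cert_tree lc_a_rc_3_2 lc_a_rc_4_2 lc_a_rc_2_2 lc_a_rc_4_2 lc_a_rc_3_2 lc_a_rc_1_2 lc_a_rc_2_2 lc_a_rc_4_2 lc_a_rc_3_0 lc_a_rc_4_2 lc_a_rc_21_0 lc_a_rc_2_2 lc_a_rc_3_2 lc_a_rc_1_4 lc_a_rc_0_1 lc_a_rc_3_2 lc_a_rc_4_2 lc_a_rc_3_2 lc_a_rc_2_2 lc_a_rc_4_2 lc_a_rc_2_2 lc_a_rc_2_0 lc_a_rc_21_0 lc_a_rc_3_2 lc_a_rc_4_2 lc_a_rc_2_2 lc_a_rc_0_1 lc_a_rc_21_0 lc_a_rc_4_2 lc_a_rc_3_2 lc_a_rc_3_2 lc_a_rc_3_2 lc_a_rc_4_2 lc_a_rc_22_0 lc_a_rc_4_2 lc_a_rc_1_2 lc_a_rc_3_2 lc_a_rc_21_0 lc_a_rc_4_2 lc_a_rc_3_2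 lc_a_Cert_tree lc_a_rc_5_2 lc_a_rc_4_2 lc_a_rc_4_2 lc_a_rc_3_2 lc_a_rc_21_0 lc_a_rc_3_2 lc_a_rc_3_2 lc_a_rc_3_0 lc_a_rc_22_0 lc_a_rc_0_1 lc_a_rc_0_1 lc_a_rc_4_2 lc_a_rc_21_0) (@D3.rec (fun _ => (Cert rels S Gen.a)) lc_a_rc_21_0 lc_a_rc_4_2 lc_a_rc_5_0 lc_a_rc_2_2 lc_a_Cert_tree lc_a_rc_3_2 lc_a_rc_4_2 lc_a_rc_21_0 lc_a_rc_0_1 lc_a_rc_5_2 lc_a_rc_0_1 lc_a_rc_3_2 lc_a_rc_4_2 lc_a_rc_21_0 lc_a_rc_2_2 lc_a_rc_3_2 lc_a_rc_3_2 lc_a_rc_4_2 lc_a_rc_4_2 lc_a_rc_1_0 lc_a_rc_3_2 lc_a_rc_5_2 lc_a_rc_0_1 lc_a_Cert_tree lc_a_rc_3_2 lc_a_rc_4_2 lc_a_rc_4_2 lc_a_rc_1_0 lc_a_rc_22_0 lc_a_Cert_tree lc_a_rc_5_0 lc_a_rc_5_0 lc_a_rc_4_2 lc_a_Cert_tree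 lc_a_rc_3_2 lc_a_rc_3_2 lc_a_rc_2_2 lc_a_rc_0_1 lc_a_rc_21_0 lc_a_rc_0_1 lc_a_rc_3_2 lc_a_rc_4_2 lc_a_rc_2_2 lc_a_rc_2_2 lc_a_rc_0_1 lc_a_rc_4_2 lc_a_rc_22_0 lc_a_rc_4_2 lc_a_rc_5_0 lc_a_rc_3_2 lc_a_rc_5_2 lc_a_rc_4_2 lc_a_Cert_tree lc_a_rc_0_1 lc_a_rc_0_1 lc_a_rc_4_2 lc_a_Cert_tree lc_a_rc_21_0 lc_a_rc_3_2 lc_a_rc_4_2 lc_a_rc_4_2 lc_a_rc_4_2) (@D3.rec (fun _ => (Cert rels S Gen.a)) lc_a_rc_5_0 lc_a_rc_4_2 lc_a_rc_1_4 lc_a_rc_3_2 lc_a_rc_21_0 lc_a_rc_3_2 lc_a_rc_2_2 lc_a_rc_2_2 lc_a_rc_4_2 lc_a_rc_2_2 lc_a_rc_2_2 lc_a_rc_3_2 lc_a_rc_4_2 lc_a_rc_1_2 lc_a_rc_4_2 lc_a_rc_21_0 lc_a_rc_5_2 lc_a_rc_4_2 lc_a_rc_5_2 lc_a_rc_4_2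 lc_a_rc_0_1 lc_a_rc_4_2 lc_a_rc_2_2 lc_a_rc_4_2 lc_a_rc_0_1 lc_a_rc_3_0 lc_a_rc_3_2 lc_a_rc_4_2 lc_a_rc_0_1 lc_a_rc_21_0 lc_a_rc_0_1 lc_a_rc_5_2 lc_a_rc_0_1 lc_a_rc_4_2 lc_a_rc_4_2 lc_a_rc_21_0 lc_a_rc_3_2 lc_a_rc_3_2 lc_a_rc_4_2 lc_a_rc_5_0 lc_a_rc_3_2 lc_a_rc_3_2 lc_a_rc_5_2 lc_a_Cert_tree lc_a_rc_2_2 lc_a_rc_4_2 lc_a_Cert_tree lc_a_rc_3_2 lc_a_rc_2_2 lc_a_rc_0_1 lc_a_rc_0_1 lc_a_rc_2_2 lc_a_rc_3_2 lc_a_rc_3_0 lc_a_rc_0_1 lc_a_Cert_tree lc_a_rc_3_2 lc_a_rc_4_2 lc_a_rc_21_0 lc_a_rc_2_0 lc_a_rc_5_0 lc_a_rc_3_2) (@D3.rec (fun _ => (Cert rels S Gen.a)) lc_a_rc_5_2 lc_a_rc_21_0 lc_a_rc_0_1 lc_a_rc_2_2 lc_a_rc_3_2 lc_a_rc_4_2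 lc_a_Cert_tree lc_a_rc_4_2 lc_a_rc_4_2 lc_a_rc_2_0 lc_a_rc_4_2 lc_a_rc_5_0 lc_a_rc_5_0 lc_a_rc_4_2 lc_a_rc_21_0 lc_a_rc_2_2 lc_a_rc_3_2 lc_a_rc_0_1 lc_a_rc_5_0 lc_a_rc_3_2 lc_a_rc_4_2 lc_a_Cert_tree lc_a_rc_2_2 lc_a_rc_4_2 lc_a_rc_3_2 lc_a_rc_4_2 lc_a_rc_2_2 lc_a_rc_4_2 lc_a_rc_21_0 lc_a_rc_5_0 lc_a_rc_1_2 lc_a_rc_1_2 lc_a_rc_4_2 lc_a_rc_2_2 lc_a_rc_3_2 lc_a_rc_5_2 lc_a_rc_3_2 lc_a_rc_4_2 lc_a_rc_1_2 lc_a_rc_3_2 lc_a_rc_3_0 lc_a_rc_3_2 lc_a_rc_22_0 lc_a_rc_5_2 lc_a_rc_3_2 lc_a_rc_5_2 lc_a_rc_3_2 lc_a_rc_2_2 lc_a_rc_2_2 lc_a_rc_4_2 lc_a_rc_21_0 lc_a_rc_4_2 lc_a_rc_21_0 lc_a_rc_1_2 lc_a_rc_3_2 lc_a_rc_4_2 lc_a_rc_2_2 lc_a_rc_4_2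 lc_a_Cert_tree lc_a_rc_0_1 lc_a_rc_4_2 lc_a_rc_3_2) (@D3.rec (fun _ => (Cert rels S Gen.a)) lc_a_rc_2_2 lc_a_rc_4_2 lc_a_rc_3_2 lc_a_rc_3_2 lc_a_rc_4_2 lc_a_rc_2_2 lc_a_rc_21_0 lc_a_rc_3_2 lc_a_rc_5_2 lc_a_rc_21_0 lc_a_rc_3_0 lc_a_rc_3_2 lc_a_rc_2_2 lc_a_rc_2_0 lc_a_Cert_tree lc_a_rc_21_0 lc_a_rc_4_2 lc_a_rc_3_2 lc_a_rc_3_2 lc_a_rc_3_2 lc_a_rc_2_2 lc_a_rc_4_2 lc_a_rc_1_4 lc_a_rc_21_0 lc_a_rc_0_1 lc_a_rc_4_2 lc_a_rc_2_2 lc_a_rc_4_2 lc_a_rc_3_2 lc_a_rc_2_2 lc_a_rc_4_2 lc_a_rc_22_0 lc_a_rc_3_2 lc_a_rc_4_2 lc_a_rc_0_1 lc_a_rc_21_0 lc_a_rc_5_2 lc_a_rc_21_0 lc_a_rc_5_0 lc_a_Cert_tree lc_a_rc_3_2 lc_a_rc_21_0 lc_a_rc_1_4 lc_a_rc_4_2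 lc_a_rc_3_2 lc_a_rc_3_0 lc_a_rc_4_2 lc_a_rc_1_2 lc_a_rc_4_2 lc_a_rc_0_1 lc_a_rc_5_2 lc_a_rc_4_2 lc_a_rc_3_2 lc_a_rc_4_2 lc_a_rc_4_2 lc_a_rc_3_0 lc_a_rc_4_2 lc_a_rc_1_4 lc_a_rc_1_2 lc_a_rc_3_2 lc_a_rc_4_2 lc_a_rc_4_2) (@D3.rec (fun _ => (Cert rels S Gen.a)) lc_a_rc_3_2 lc_a_rc_4_2 lc_a_rc_0_1 lc_a_rc_4_2 lc_a_rc_5_2 lc_a_rc_2_2 lc_a_rc_1_4 lc_a_rc_4_2 lc_a_rc_0_1 lc_a_rc_21_0 lc_a_rc_3_2 lc_a_rc_5_2 lc_a_rc_21_0 lc_a_rc_2_2 lc_a_rc_0_1 lc_a_rc_4_2 lc_a_rc_4_2 lc_a_rc_4_2 lc_a_rc_1_4 lc_a_rc_4_2 lc_a_rc_4_2 lc_a_rc_4_2 lc_a_rc_21_0 lc_a_rc_2_2 lc_a_rc_3_2 lc_a_rc_5_2 lc_a_Cert_tree lc_a_rc_2_2 lc_a_rc_3_2 lc_a_rc_3_2 lc_a_rc_0_1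 lc_a_rc_2_2 lc_a_rc_0_1 lc_a_rc_0_1 lc_a_rc_21_0 lc_a_rc_3_2 lc_a_rc_22_0 lc_a_rc_5_2 lc_a_rc_0_1 lc_a_rc_3_2 lc_a_rc_3_2 lc_a_rc_2_0 lc_a_rc_2_0 lc_a_rc_1_4 lc_a_rc_4_2 lc_a_Cert_tree lc_a_rc_1_4 lc_a_rc_4_2 lc_a_rc_3_0 lc_a_rc_2_2 lc_a_rc_3_2 lc_a_rc_3_2 lc_a_rc_3_2 lc_a_rc_2_2 lc_a_rc_0_1 lc_a_rc_5_2 lc_a_rc_3_2 lc_a_rc_2_0 lc_a_rc_4_2 lc_a_rc_3_2 lc_a_rc_3_2 lc_a_rc_0_1) (@D3.rec (fun _ => (Cert rels S Gen.a)) lc_a_Cert_tree lc_a_rc_5_2 lc_a_rc_2_2 lc_a_rc_3_2 lc_a_rc_21_0 lc_a_rc_2_2 lc_a_rc_3_0 lc_a_rc_4_2 lc_a_rc_3_0 lc_a_rc_21_0 lc_a_rc_3_2 lc_a_rc_4_2 lc_a_rc_4_2 lc_a_rc_2_2 lc_a_rc_2_2 lc_a_rc_3_2 lc_a_rc_2_0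 lc_a_rc_4_2 lc_a_rc_4_2 lc_a_rc_3_2 lc_a_rc_2_2 lc_a_rc_0_1 lc_a_rc_3_0 lc_a_rc_4_2 lc_a_rc_2_0 lc_a_rc_0_1 lc_a_rc_21_0 lc_a_rc_0_1 lc_a_rc_21_0 lc_a_rc_4_2 lc_a_Cert_tree lc_a_rc_2_0 lc_a_rc_2_0 lc_a_Cert_tree lc_a_rc_2_0 lc_a_rc_4_2 lc_a_rc_5_0 lc_a_rc_0_1 lc_a_rc_3_2 lc_a_rc_2_0 lc_a_rc_4_2 lc_a_rc_21_0 lc_a_rc_22_0 lc_a_rc_3_2 lc_a_rc_2_2 lc_a_rc_4_2 lc_a_rc_1_4 lc_a_rc_3_2 lc_a_rc_3_2 lc_a_rc_4_2 lc_a_rc_2_2 lc_a_rc_21_0 lc_a_rc_4_0 lc_a_rc_1_2 lc_a_rc_2_0 lc_a_rc_0_1 lc_a_rc_2_0 lc_a_rc_3_2 lc_a_rc_2_2 lc_a_rc_3_2 lc_a_rc_3_0 lc_a_rc_4_2) (@D3.rec (fun _ => (Cert rels S Gen.a)) lc_a_rc_2_2 lc_a_Cert_tree lc_a_rc_4_0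 lc_a_rc_3_2 lc_a_rc_2_2 lc_a_rc_4_2 lc_a_Cert_tree lc_a_rc_4_2 lc_a_rc_21_0 lc_a_rc_5_2 lc_a_rc_0_1 lc_a_Cert_tree lc_a_rc_2_2 lc_a_rc_2_2 lc_a_rc_5_0 lc_a_rc_3_2 lc_a_rc_21_0 lc_a_rc_2_0 lc_a_rc_0_1 lc_a_rc_5_2 lc_a_rc_21_0 lc_a_rc_2_2 lc_a_rc_0_1 lc_a_rc_3_2 lc_a_rc_21_0 lc_a_rc_21_0 lc_a_rc_2_0 lc_a_rc_21_0 lc_a_rc_0_1 lc_a_rc_2_2 lc_a_rc_3_2 lc_a_rc_4_2 lc_a_rc_3_2 lc_a_rc_5_0 lc_a_rc_2_2 lc_a_rc_0_1 lc_a_rc_3_0 lc_a_rc_2_2 lc_a_rc_0_1 lc_a_rc_3_2 lc_a_rc_2_2 lc_a_rc_4_2 lc_a_rc_5_0 lc_a_rc_3_2 lc_a_rc_4_2 lc_a_rc_21_0 lc_a_rc_1_2 lc_a_rc_2_0 lc_a_rc_3_2 lc_a_rc_0_1 lc_a_rc_5_2 lc_a_rc_2_2 lc_a_rc_3_2 lc_a_rc_3_0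 lc_a_rc_4_2 lc_a_rc_0_1 lc_a_rc_5_2 lc_a_rc_4_2 lc_a_rc_0_1 lc_a_rc_3_2 lc_a_rc_4_2 lc_a_rc_3_2) (@D3.rec (fun _ => (Cert rels S Gen.a)) lc_a_rc_2_2 lc_a_rc_3_2 lc_a_rc_4_2 lc_a_rc_0_1 lc_a_rc_4_2 lc_a_rc_5_0 lc_a_rc_5_2 lc_a_rc_0_1 lc_a_rc_4_2 lc_a_rc_2_0 lc_a_rc_4_2 lc_a_rc_0_1 lc_a_rc_21_0 lc_a_rc_5_2 lc_a_rc_1_2 lc_a_rc_4_2 lc_a_rc_0_1 lc_a_rc_4_2 lc_a_rc_1_0 lc_a_rc_5_2 lc_a_rc_1_4 lc_a_rc_4_2 lc_a_rc_4_2 lc_a_rc_3_0 lc_a_rc_4_2 lc_a_Cert_tree lc_a_rc_2_2 lc_a_rc_3_2 lc_a_rc_5_2 lc_a_rc_5_2 lc_a_rc_2_2 lc_a_rc_5_2 lc_a_rc_0_1 lc_a_rc_2_0 lc_a_rc_5_0 lc_a_rc_4_2 lc_a_rc_21_0 lc_a_rc_0_1 lc_a_rc_4_2 lc_a_rc_3_2 lc_a_rc_3_2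 lc_a_rc_2_2 lc_a_rc_2_2 lc_a_rc_4_2 lc_a_rc_0_1 lc_a_rc_1_2 lc_a_rc_2_0 lc_a_rc_3_2 lc_a_rc_22_0 lc_a_rc_2_2 lc_a_rc_3_2 lc_a_rc_2_0 lc_a_rc_3_2 lc_a_rc_3_0 lc_a_rc_2_0 lc_a_rc_4_2 lc_a_rc_0_1 lc_a_rc_21_0 lc_a_rc_5_2 lc_a_rc_0_1 lc_a_rc_4_2 lc_a_rc_4_2) (@D3.rec (fun _ => (Cert rels S Gen.a)) lc_a_rc_21_0 lc_a_rc_0_1 lc_a_rc_4_2 lc_a_rc_5_0 lc_a_Cert_tree lc_a_rc_5_2 lc_a_rc_4_2 lc_a_Cert_tree lc_a_rc_4_2 lc_a_rc_0_1 lc_a_rc_5_2 lc_a_rc_4_2 lc_a_Cert_tree lc_a_rc_0_1 lc_a_rc_4_2 lc_a_rc_0_1 lc_a_rc_4_2 lc_a_rc_2_2 lc_a_rc_4_2 lc_a_rc_4_0 lc_a_rc_4_0 lc_a_rc_3_2 lc_a_rc_5_2 lc_a_rc_0_1 lc_a_rc_0_1 lc_a_rc_3_2 lc_a_rc_2_0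 lc_a_rc_5_2 lc_a_rc_5_2 lc_a_rc_3_2 lc_a_rc_22_0 lc_a_rc_5_0 lc_a_rc_4_2 lc_a_rc_2_2 lc_a_rc_5_2 lc_a_rc_0_1 lc_a_rc_2_2 lc_a_rc_3_2 lc_a_rc_0_1 lc_a_rc_2_2 lc_a_rc_0_1 lc_a_rc_2_0 lc_a_rc_0_1 lc_a_rc_0_1 lc_a_rc_2_2 lc_a_rc_4_2 lc_a_rc_5_2 lc_a_rc_21_0 lc_a_rc_5_2 lc_a_rc_4_2 lc_a_rc_3_2 lc_a_rc_4_0 lc_a_Cert_tree lc_a_rc_21_0 lc_a_rc_3_0 lc_a_rc_2_2 lc_a_rc_0_1 lc_a_rc_3_2 lc_a_rc_3_2 lc_a_rc_3_2 lc_a_rc_3_2 lc_a_rc_2_2) (@D3.rec (fun _ => (Cert rels S Gen.a)) lc_a_rc_3_2 lc_a_rc_3_2 lc_a_rc_22_0 lc_a_rc_3_2 lc_a_rc_0_1 lc_a_rc_5_0 lc_a_rc_4_2 lc_a_rc_2_2 lc_a_rc_3_2 lc_a_rc_3_2 lc_a_rc_3_0 lc_a_rc_3_0 lc_a_rc_2_2 lc_a_rc_1_2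 lc_a_rc_3_2 lc_a_rc_3_2 lc_a_rc_3_2 lc_a_rc_2_2 lc_a_rc_4_2 lc_a_rc_0_1 lc_a_rc_2_2 lc_a_rc_4_2 lc_a_rc_1_4 lc_a_rc_21_0 lc_a_rc_2_0 lc_a_rc_4_2 lc_a_rc_3_2 lc_a_rc_21_0 lc_a_rc_4_2 lc_a_rc_21_0 lc_a_rc_3_2 lc_a_rc_3_0 lc_a_rc_4_2 lc_a_rc_3_2 lc_a_rc_0_1 lc_a_rc_4_2 lc_a_rc_21_0 lc_a_rc_2_2 lc_a_rc_3_2 lc_a_rc_3_0 lc_a_rc_2_2 lc_a_rc_5_2 lc_a_rc_5_2 lc_a_rc_4_2 lc_a_rc_0_1 lc_a_rc_4_2 lc_a_rc_1_4 lc_a_rc_3_2 lc_a_rc_4_2 lc_a_rc_3_2 lc_a_rc_21_0 lc_a_rc_2_2 lc_a_rc_4_2 lc_a_rc_0_1 lc_a_rc_3_2 lc_a_rc_5_2 lc_a_rc_3_2 lc_a_rc_0_1 lc_a_rc_3_2 lc_a_rc_5_0 lc_a_rc_3_2 lc_a_rc_5_0) (@D3.rec (fun _ => (Cert rels S Gen.a)) lc_a_rc_1_2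 lc_a_rc_2_2 lc_a_rc_5_2 lc_a_rc_2_2 lc_a_rc_21_0 lc_a_rc_4_2 lc_a_rc_3_2 lc_a_rc_2_2 lc_a_rc_4_2 lc_a_rc_2_2 lc_a_rc_4_2 lc_a_rc_5_0 lc_a_rc_4_2 lc_a_rc_0_1 lc_a_rc_2_0 lc_a_rc_4_2 lc_a_rc_4_2 lc_a_rc_5_0 lc_a_rc_3_2 lc_a_rc_5_2 lc_a_rc_0_1 lc_a_rc_3_2 lc_a_rc_0_1 lc_a_rc_3_2 lc_a_rc_0_1 lc_a_rc_2_2 lc_a_rc_5_2 lc_a_rc_2_2 lc_a_rc_4_2 lc_a_rc_0_1 lc_a_rc_3_2 lc_a_rc_5_2 lc_a_rc_2_2 lc_a_rc_4_2 lc_a_rc_5_0 lc_a_rc_0_1 lc_a_rc_4_2 lc_a_rc_1_0 lc_a_rc_3_2 lc_a_rc_5_2 lc_a_rc_1_2 lc_a_rc_5_0 lc_a_rc_4_2 lc_a_rc_21_0 lc_a_rc_3_2 lc_a_rc_4_2 lc_a_rc_0_1 lc_a_rc_21_0 lc_a_rc_2_2 lc_a_rc_3_2 lc_a_rc_1_2 lc_a_rc_3_2 lc_a_rc_3_0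 lc_a_rc_3_0 lc_a_rc_2_2 lc_a_rc_3_2 lc_a_rc_2_2 lc_a_rc_21_0 lc_a_rc_21_0 lc_a_rc_5_2 lc_a_rc_3_2 lc_a_rc_2_2) (@D3.rec (fun _ => (Cert rels S Gen.a)) lc_a_rc_4_2 lc_a_rc_21_0 lc_a_rc_5_2 lc_a_rc_4_2 lc_a_rc_2_2 lc_a_rc_4_2 lc_a_rc_0_1 lc_a_Cert_tree lc_a_rc_22_0 lc_a_rc_5_2 lc_a_rc_4_2 lc_a_rc_4_2 lc_a_rc_3_2 lc_a_rc_3_2 lc_a_rc_3_2 lc_a_rc_21_0 lc_a_rc_0_1 lc_a_rc_4_2 lc_a_rc_4_2 lc_a_rc_22_0 lc_a_rc_2_0 lc_a_rc_3_2 lc_a_rc_4_2 lc_a_Cert_tree lc_a_rc_0_1 lc_a_rc_21_0 lc_a_rc_0_1 lc_a_rc_3_0 lc_a_rc_3_0 lc_a_rc_3_2 lc_a_rc_4_2 lc_a_rc_3_2 lc_a_rc_3_2 lc_a_rc_4_2 lc_a_rc_2_2 lc_a_rc_1_4 lc_a_rc_21_0 lc_a_rc_4_2 lc_a_rc_5_2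 lc_a_rc_0_1 lc_a_rc_4_2 lc_a_rc_3_2 lc_a_rc_1_2 lc_a_rc_2_2 lc_a_rc_4_2 lc_a_rc_0_1 lc_a_rc_2_2 lc_a_rc_2_2 lc_a_rc_4_2 lc_a_rc_4_0 lc_a_rc_3_2 lc_a_rc_1_4 lc_a_rc_3_2 lc_a_rc_4_2 lc_a_rc_1_0 lc_a_rc_1_4 lc_a_rc_3_2 lc_a_rc_5_2 lc_a_rc_5_0 lc_a_rc_3_2 lc_a_rc_2_2 lc_a_rc_21_0) (@D3.rec (fun _ => (Cert rels S Gen.a)) lc_a_rc_5_2 lc_a_rc_22_0 lc_a_rc_4_2 lc_a_rc_3_2 lc_a_rc_3_2 lc_a_rc_4_2 lc_a_rc_3_2 lc_a_rc_5_2 lc_a_rc_3_2 lc_a_rc_1_2 lc_a_rc_3_0 lc_a_rc_4_2 lc_a_rc_2_2 lc_a_rc_21_0 lc_a_rc_2_2 lc_a_rc_3_2 lc_a_rc_4_2 lc_a_rc_4_2 lc_a_rc_5_0 lc_a_rc_3_2 lc_a_rc_5_2 lc_a_rc_2_2 lc_a_rc_3_2 lc_a_rc_21_0 lc_a_rc_3_2 lc_a_rc_21_0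 lc_a_rc_3_2 lc_a_rc_2_2 lc_a_rc_3_2 lc_a_rc_2_2 lc_a_rc_2_2 lc_a_rc_4_2 lc_a_rc_0_1 lc_a_rc_5_2 lc_a_rc_4_2 lc_a_rc_21_0 lc_a_rc_21_0 lc_a_rc_4_2 lc_a_rc_0_1 lc_a_rc_3_2 lc_a_rc_5_2 lc_a_rc_2_2 lc_a_rc_4_2 lc_a_rc_4_2 lc_a_rc_0_1 lc_a_rc_2_2 lc_a_rc_0_1 lc_a_rc_4_2 lc_a_rc_1_0 lc_a_rc_0_1 lc_a_rc_2_2 lc_a_rc_3_2 lc_a_rc_4_2 lc_a_rc_0_1 lc_a_rc_2_2 lc_a_rc_3_2 lc_a_rc_4_2 lc_a_rc_5_0 lc_a_rc_1_4 lc_a_rc_2_2 lc_a_rc_5_2 lc_a_rc_2_0) (@D3.rec (fun _ => (Cert rels S Gen.a)) lc_a_rc_3_2 lc_a_rc_3_2 lc_a_rc_4_2 lc_a_rc_5_2 lc_a_rc_5_0 lc_a_rc_4_2 lc_a_rc_1_4 lc_a_rc_2_2 lc_a_rc_0_1 lc_a_rc_2_2 lc_a_rc_21_0 lc_a_rc_22_0 lc_a_rc_2_2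 lc_a_rc_4_2 lc_a_rc_0_1 lc_a_rc_0_1 lc_a_rc_2_2 lc_a_rc_4_2 lc_a_rc_4_2 lc_a_rc_2_2 lc_a_rc_5_2 lc_a_rc_3_2 lc_a_rc_4_2 lc_a_Cert_tree lc_a_rc_3_2 lc_a_rc_5_2 lc_a_rc_0_1 lc_a_rc_2_2 lc_a_rc_4_2 lc_a_rc_5_0 lc_a_rc_2_2 lc_a_rc_4_2 lc_a_rc_3_2 lc_a_rc_2_2 lc_a_rc_4_0 lc_a_rc_3_2 lc_a_rc_4_2 lc_a_rc_4_2 lc_a_Cert_tree lc_a_rc_2_0 lc_a_rc_4_2 lc_a_rc_0_1 lc_a_rc_5_0 lc_a_rc_3_2 lc_a_rc_5_2 lc_a_rc_3_2 lc_a_rc_0_1 lc_a_rc_2_2 lc_a_rc_5_2 lc_a_rc_2_2 lc_a_rc_21_0 lc_a_rc_21_0 lc_a_rc_4_2 lc_a_rc_4_2 lc_a_rc_3_2 lc_a_rc_3_2 lc_a_rc_4_2 lc_a_Cert_tree lc_a_rc_4_2 lc_a_rc_4_0 lc_a_rc_5_0 lc_a_rc_3_2) (@D3.rec (fun _ => (Cert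 rels S Gen.a)) lc_a_rc_5_2 lc_a_rc_4_2 lc_a_rc_3_2 lc_a_rc_2_2 lc_a_rc_1_4 lc_a_rc_2_0 lc_a_rc_4_2 lc_a_rc_1_4 lc_a_rc_21_0 lc_a_rc_4_0 lc_a_rc_4_0 lc_a_rc_2_2 lc_a_rc_3_2 lc_a_rc_4_2 lc_a_rc_3_2 lc_a_rc_4_2 lc_a_Cert_tree lc_a_rc_5_2 lc_a_rc_0_1 lc_a_rc_3_2 lc_a_rc_0_1 lc_a_rc_21_0 lc_a_rc_21_0 lc_a_rc_2_2 lc_a_rc_3_0 lc_a_rc_3_2 lc_a_rc_4_2 lc_a_rc_4_2 lc_a_rc_3_2 lc_a_rc_4_2 lc_a_rc_2_2 lc_a_rc_4_2 lc_a_rc_2_0 lc_a_rc_21_0 lc_a_rc_4_2 lc_a_rc_2_2 lc_a_rc_4_2 lc_a_rc_4_2 lc_a_rc_3_2 lc_a_Cert_tree lc_a_rc_21_0 lc_a_rc_4_2 lc_a_rc_5_0 lc_a_rc_4_2 lc_a_rc_3_2 lc_a_rc_5_2 lc_a_rc_3_2 lc_a_rc_3_2 lc_a_rc_3_2 lc_a_rc_2_2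 lc_a_rc_3_2 lc_a_Cert_tree lc_a_rc_4_2 lc_a_rc_5_0 lc_a_Cert_tree lc_a_rc_3_2 lc_a_rc_5_2 lc_a_rc_3_0 lc_a_rc_2_2 lc_a_rc_0_1 lc_a_rc_3_2 lc_a_rc_4_2) (@D3.rec (fun _ => (Cert rels S Gen.a)) lc_a_rc_4_2 lc_a_rc_0_1 lc_a_rc_21_0 lc_a_rc_3_2 lc_a_rc_4_0 lc_a_rc_2_2 lc_a_rc_1_2 lc_a_rc_3_2 lc_a_rc_3_2 lc_a_rc_2_2 lc_a_rc_3_2 lc_a_rc_2_2 lc_a_rc_3_2 lc_a_rc_22_0 lc_a_rc_4_2 lc_a_rc_2_2 lc_a_rc_21_0 lc_a_Cert_tree lc_a_rc_3_2 lc_a_rc_2_2 lc_a_rc_3_2 lc_a_rc_1_2 lc_a_rc_4_2 lc_a_rc_4_2 lc_a_rc_2_2 lc_a_rc_3_2 lc_a_rc_5_2 lc_a_rc_21_0 lc_a_rc_21_0 lc_a_rc_21_0 lc_a_rc_4_2 lc_a_rc_1_4 lc_a_rc_2_2 lc_a_rc_3_2 lc_a_rc_4_2 lc_a_rc_4_2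 lc_a_Cert_tree lc_a_rc_3_2 lc_a_rc_4_2 lc_a_rc_0_1 lc_a_rc_4_2 lc_a_rc_4_2 lc_a_rc_5_2 lc_a_rc_1_4 lc_a_rc_4_2 lc_a_rc_4_2 lc_a_rc_2_2 lc_a_rc_0_1 lc_a_rc_0_1 lc_a_rc_3_2 lc_a_rc_4_2 lc_a_rc_3_0 lc_a_rc_3_2 lc_a_rc_4_2 lc_a_rc_1_4 lc_a_rc_3_2 lc_a_rc_2_2 lc_a_rc_3_2 lc_a_rc_1_2 lc_a_rc_3_2 lc_a_rc_4_2 lc_a_rc_3_2)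
def ce_a_6 : D2 → D3 → (Cert rels S Gen.a) := @D2.rec (fun _ => D3 → (Cert rels S Gen.a)) (@D3.rec (fun _ => (Cert rels S Gen.a)) lc_a_rc_5_2 lc_a_rc_2_2 lc_a_rc_4_2 lc_a_Cert_tree lc_a_rc_4_2 lc_a_rc_21_0 lc_a_rc_1_4 lc_a_rc_5_2 lc_a_rc_2_0 lc_a_rc_0_1 lc_a_rc_3_2 lc_a_rc_4_2 lc_a_rc_4_2 lc_a_rc_21_0 lc_a_rc_0_1 lc_a_rc_3_2 lc_a_rc_5_2 lc_a_rc_0_1 lc_a_rc_3_2 lc_a_rc_1_2 lc_a_rc_2_2 lc_a_rc_3_2 lc_a_rc_4_2 lc_a_rc_21_0 lc_a_rc_0_1 lc_a_rc_4_0 lc_a_rc_4_0 lc_a_rc_2_2 lc_a_rc_21_0 lc_a_rc_0_1 lc_a_rc_2_2 lc_a_rc_3_2 lc_a_rc_4_2 lc_a_rc_0_1 lc_a_rc_4_2 lc_a_rc_3_2 lc_a_rc_21_0 lc_a_rc_3_2 lc_a_rc_21_0 lc_a_rc_0_1 lc_a_rc_5_0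 lc_a_rc_21_0 lc_a_rc_4_2 lc_a_rc_4_2 lc_a_rc_3_2 lc_a_rc_5_2 lc_a_rc_4_2 lc_a_Cert_tree lc_a_rc_4_2 lc_a_rc_2_2 lc_a_rc_4_2 lc_a_rc_3_2 lc_a_rc_5_2 lc_a_rc_1_2 lc_a_rc_3_2 lc_a_rc_1_4 lc_a_rc_4_0 lc_a_rc_21_0 lc_a_rc_21_0 lc_a_rc_3_2 lc_a_rc_2_2 lc_a_rc_5_2) (@D3.rec (fun _ => (Cert rels S Gen.a)) lc_a_rc_0_1 lc_a_rc_0_1 lc_a_rc_5_0 lc_a_rc_4_0 lc_a_rc_3_0 lc_a_rc_21_0 lc_a_Cert_tree lc_a_rc_3_2 lc_a_rc_4_2 lc_a_rc_0_1 lc_a_rc_3_2 lc_a_rc_2_2 lc_a_rc_4_2 lc_a_rc_21_0 lc_a_rc_3_2 lc_a_rc_5_2 lc_a_rc_3_2 lc_a_rc_0_1 lc_a_rc_2_2 lc_a_rc_3_2 lc_a_rc_4_2 lc_a_Cert_tree lc_a_rc_3_2 lc_a_rc_2_2 lc_a_rc_4_2 lc_a_rc_21_0 lc_a_rc_21_0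 lc_a_rc_2_2 lc_a_rc_4_2 lc_a_rc_2_2 lc_a_rc_4_2 lc_a_rc_2_2 lc_a_rc_4_2 lc_a_rc_1_4 lc_a_rc_2_2 lc_a_rc_4_2 lc_a_rc_2_2 lc_a_rc_21_0 lc_a_Cert_tree lc_a_rc_3_2 lc_a_rc_1_2 lc_a_rc_3_2 lc_a_rc_21_0 lc_a_rc_0_1 lc_a_rc_3_2 lc_a_rc_5_2 lc_a_rc_1_4 lc_a_rc_4_2 lc_a_rc_3_2 lc_a_rc_3_2 lc_a_rc_2_2 lc_a_rc_4_2 lc_a_rc_5_0 lc_a_rc_21_0 lc_a_rc_3_2 lc_a_rc_0_1 lc_a_rc_2_2 lc_a_rc_3_2 lc_a_rc_4_2 lc_a_rc_0_1 lc_a_rc_2_2 lc_a_rc_0_1) (@D3.rec (fun _ => (Cert rels S Gen.a)) lc_a_rc_2_2 lc_a_rc_3_2 lc_a_rc_3_2 lc_a_rc_3_2 lc_a_rc_3_0 lc_a_rc_2_2 lc_a_rc_3_2 lc_a_rc_3_2 lc_a_rc_1_2 lc_a_rc_2_2 lc_a_rc_4_2 lc_a_rc_0_1 lc_a_rc_3_2 lc_a_rc_4_2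 lc_a_rc_0_1 lc_a_rc_21_0 lc_a_rc_5_2 lc_a_rc_1_4 lc_a_rc_4_2 lc_a_rc_4_2 lc_a_rc_1_2 lc_a_rc_2_2 lc_a_rc_4_2 lc_a_rc_5_2 lc_a_rc_2_2 lc_a_rc_3_2 lc_a_rc_5_2 lc_a_rc_21_0 lc_a_rc_3_2 lc_a_rc_5_2 lc_a_rc_2_2 lc_a_rc_3_2 lc_a_rc_21_0 lc_a_rc_21_0 lc_a_rc_0_1 lc_a_rc_2_2 lc_a_rc_3_2 lc_a_rc_4_2 lc_a_rc_4_0 lc_a_rc_4_2 lc_a_rc_3_2 lc_a_rc_0_1 lc_a_rc_4_2 lc_a_rc_4_2 lc_a_rc_2_2 lc_a_rc_2_2 lc_a_Cert_tree lc_a_rc_3_2 lc_a_rc_5_2 lc_a_rc_4_2 lc_a_rc_2_2 lc_a_rc_3_2 lc_a_rc_4_2 lc_a_rc_3_2 lc_a_rc_5_0 lc_a_rc_3_2 lc_a_rc_4_2 lc_a_rc_1_2 lc_a_rc_2_0 lc_a_rc_3_2 lc_a_rc_21_0 lc_a_rc_0_1) (@D3.rec (fun _ => (Cert rels S Gen.a))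 lc_a_rc_3_2 lc_a_rc_2_2 lc_a_rc_21_0 lc_a_rc_21_0 lc_a_rc_2_2 lc_a_rc_2_2 lc_a_Cert_tree lc_a_rc_5_0 lc_a_rc_2_2 lc_a_rc_2_2 lc_a_rc_3_2 lc_a_rc_21_0 lc_a_rc_3_2 lc_a_rc_5_0 lc_a_rc_3_2 lc_a_rc_2_2 lc_a_rc_0_1 lc_a_rc_0_1 lc_a_rc_2_0 lc_a_rc_1_4 lc_a_rc_2_2 lc_a_Cert_tree lc_a_rc_0_1 lc_a_rc_3_2 lc_a_rc_3_2 lc_a_rc_3_0 lc_a_rc_3_2 lc_a_rc_0_1 lc_a_rc_4_2 lc_a_rc_3_2 lc_a_rc_2_2 lc_a_Cert_tree lc_a_rc_2_2 lc_a_rc_1_2 lc_a_rc_3_0 lc_a_rc_4_0 lc_a_Cert_tree lc_a_rc_4_2 lc_a_rc_5_0 lc_a_rc_4_2 lc_a_rc_5_2 lc_a_rc_2_2 lc_a_rc_4_2 lc_a_Cert_tree lc_a_rc_4_2 lc_a_rc_5_0 lc_a_Cert_tree lc_a_rc_4_0 lc_a_rc_2_2 lc_a_rc_0_1 lc_a_Cert_tree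 lc_a_rc_2_2 lc_a_rc_4_2 lc_a_rc_0_1 lc_a_rc_5_2 lc_a_Cert_tree lc_a_rc_4_2 lc_a_Cert_tree lc_a_rc_4_2 lc_a_rc_2_2 lc_a_rc_21_0 lc_a_rc_0_1) (@D3.rec (fun _ => (Cert rels S Gen.a)) lc_a_rc_3_2 lc_a_rc_4_2 lc_a_rc_2_2 lc_a_rc_4_2 lc_a_Cert_tree lc_a_rc_0_1 lc_a_rc_3_0 lc_a_rc_3_0 lc_a_rc_5_2 lc_a_rc_21_0 lc_a_Cert_tree lc_a_rc_3_2 lc_a_rc_4_2 lc_a_rc_4_2 lc_a_rc_4_2 lc_a_rc_3_2 lc_a_rc_21_0 lc_a_rc_0_1 lc_a_rc_2_2 lc_a_rc_3_2 lc_a_rc_0_1 lc_a_Cert_tree lc_a_rc_3_2 lc_a_rc_4_2 lc_a_rc_2_2 lc_a_rc_4_2 lc_a_rc_2_2 lc_a_rc_4_2 lc_a_rc_21_0 lc_a_rc_2_2 lc_a_Cert_tree lc_a_rc_3_2 lc_a_rc_5_2 lc_a_rc_4_2 lc_a_rc_4_2 lc_a_rc_5_2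 lc_a_rc_4_2 lc_a_rc_5_2 lc_a_rc_2_2 lc_a_rc_2_0 lc_a_rc_21_0 lc_a_rc_5_2 lc_a_rc_4_2 lc_a_rc_5_0 lc_a_rc_1_4 lc_a_rc_21_0 lc_a_rc_5_0 lc_a_rc_5_0 lc_a_rc_5_0 lc_a_rc_5_0 lc_a_Cert_tree lc_a_rc_22_0 lc_a_rc_4_2 lc_a_rc_3_0 lc_a_rc_3_2 lc_a_rc_4_2 lc_a_rc_2_2 lc_a_rc_4_2 lc_a_rc_22_0 lc_a_rc_2_0 lc_a_rc_4_2 lc_a_rc_4_2) (@D3.rec (fun _ => (Cert rels S Gen.a)) lc_a_rc_5_0 lc_a_rc_5_2 lc_a_rc_3_2 lc_a_Cert_tree lc_a_rc_3_2 lc_a_rc_4_2 lc_a_rc_5_0 lc_a_rc_4_2 lc_a_rc_5_2 lc_a_Cert_tree lc_a_rc_3_2 lc_a_rc_4_2 lc_a_Cert_tree lc_a_rc_21_0 lc_a_rc_4_2 lc_a_Cert_tree lc_a_rc_0_1 lc_a_rc_0_1 lc_a_rc_3_2 lc_a_rc_21_0 lc_a_rc_2_2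 lc_a_rc_5_0 lc_a_rc_3_0 lc_a_rc_4_2 lc_a_rc_22_0 lc_a_rc_4_2 lc_a_rc_3_2 lc_a_rc_3_2 lc_a_rc_0_1 lc_a_rc_2_2 lc_a_Cert_tree lc_a_rc_21_0 lc_a_rc_2_2 lc_a_rc_4_2 lc_a_rc_21_0 lc_a_rc_5_2 lc_a_rc_1_4 lc_a_rc_3_0 lc_a_rc_21_0 lc_a_rc_0_1 lc_a_rc_3_2 lc_a_rc_21_0 lc_a_rc_21_0 lc_a_rc_4_2 lc_a_rc_3_2 lc_a_rc_21_0 lc_a_rc_2_2 lc_a_rc_2_2 lc_a_Cert_tree lc_a_rc_21_0 lc_a_rc_2_2 lc_a_rc_0_1 lc_a_rc_0_1 lc_a_rc_21_0 lc_a_rc_0_1 lc_a_rc_0_1 lc_a_rc_4_2 lc_a_rc_3_2 lc_a_rc_2_2 lc_a_rc_0_1 lc_a_Cert_tree lc_a_rc_3_2) (@D3.rec (fun _ => (Cert rels S Gen.a)) lc_a_rc_4_2 lc_a_rc_4_2 lc_a_rc_21_0 lc_a_rc_5_2 lc_a_rc_5_0 lc_a_rc_0_1 lc_a_rc_0_1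 lc_a_rc_3_2 lc_a_rc_4_2 lc_a_rc_0_1 lc_a_rc_21_0 lc_a_rc_4_2 lc_a_rc_3_2 lc_a_rc_4_2 lc_a_rc_3_2 lc_a_rc_21_0 lc_a_rc_2_0 lc_a_rc_21_0 lc_a_Cert_tree lc_a_rc_3_2 lc_a_rc_4_2 lc_a_rc_4_2 lc_a_rc_4_2 lc_a_rc_5_2 lc_a_rc_5_0 lc_a_Cert_tree lc_a_rc_0_1 lc_a_rc_21_0 lc_a_rc_21_0 lc_a_rc_3_2 lc_a_rc_0_1 lc_a_rc_3_0 lc_a_rc_0_1 lc_a_rc_2_2 lc_a_rc_2_2 lc_a_rc_5_0 lc_a_rc_4_2 lc_a_rc_3_2 lc_a_rc_3_2 lc_a_rc_5_2 lc_a_rc_0_1 lc_a_rc_0_1 lc_a_rc_2_2 lc_a_rc_1_0 lc_a_rc_5_2 lc_a_rc_3_2 lc_a_rc_1_2 lc_a_rc_4_0 lc_a_rc_2_2 lc_a_rc_4_2 lc_a_rc_4_2 lc_a_rc_4_0 lc_a_rc_4_2 lc_a_rc_5_0 lc_a_rc_0_1 lc_a_rc_0_1 lc_a_rc_4_2 lc_a_rc_21_0 lc_a_rc_4_2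 lc_a_Cert_tree lc_a_rc_3_2 lc_a_rc_4_2) (@D3.rec (fun _ => (Cert rels S Gen.a)) lc_a_rc_4_2 lc_a_rc_3_2 lc_a_rc_5_2 lc_a_rc_2_2 lc_a_rc_21_0 lc_a_rc_0_1 lc_a_rc_4_2 lc_a_rc_2_2 lc_a_Cert_tree lc_a_rc_3_2 lc_a_rc_21_0 lc_a_rc_5_2 lc_a_Cert_tree lc_a_rc_2_2 lc_a_rc_4_2 lc_a_rc_0_1 lc_a_rc_5_2 lc_a_rc_3_0 lc_a_rc_0_1 lc_a_rc_4_2 lc_a_rc_2_2 lc_a_rc_21_0 lc_a_Cert_tree lc_a_rc_0_1 lc_a_Cert_tree lc_a_rc_4_2 lc_a_Cert_tree lc_a_rc_2_2 lc_a_rc_4_0 lc_a_rc_4_2 lc_a_rc_5_0 lc_a_rc_3_2 lc_a_rc_2_2 lc_a_rc_3_2 lc_a_rc_0_1 lc_a_rc_21_0 lc_a_rc_3_0 lc_a_rc_3_2 lc_a_rc_2_2 lc_a_rc_4_2 lc_a_rc_0_1 lc_a_rc_3_2 lc_a_rc_4_2 lc_a_rc_2_2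 lc_a_rc_4_2 lc_a_rc_0_1 lc_a_rc_4_0 lc_a_rc_4_0 lc_a_rc_3_2 lc_a_rc_4_0 lc_a_rc_3_2 lc_a_rc_2_2 lc_a_rc_3_2 lc_a_rc_4_2 lc_a_rc_3_2 lc_a_rc_4_2 lc_a_rc_22_0 lc_a_rc_4_2 lc_a_rc_3_2 lc_a_rc_5_2 lc_a_rc_2_2 lc_a_rc_1_4) (@D3.rec (fun _ => (Cert rels S Gen.a)) lc_a_rc_2_2 lc_a_rc_4_2 lc_a_rc_5_2 lc_a_Cert_tree lc_a_rc_3_2 lc_a_rc_5_2 lc_a_rc_3_0 lc_a_rc_5_0 lc_a_rc_3_2 lc_a_rc_3_2 lc_a_rc_4_2 lc_a_rc_0_1 lc_a_rc_21_0 lc_a_rc_4_2 lc_a_rc_5_2 lc_a_rc_2_2 lc_a_rc_4_2 lc_a_rc_21_0 lc_a_rc_3_2 lc_a_rc_5_0 lc_a_rc_0_1 lc_a_rc_0_1 lc_a_rc_21_0 lc_a_rc_2_2 lc_a_rc_3_2 lc_a_rc_22_0 lc_a_rc_21_0 lc_a_rc_4_2 lc_a_rc_0_1 lc_a_rc_5_2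 lc_a_rc_0_1 lc_a_rc_21_0 lc_a_rc_3_2 lc_a_rc_21_0 lc_a_rc_0_1 lc_a_rc_4_2 lc_a_rc_4_0 lc_a_rc_0_1 lc_a_rc_4_2 lc_a_rc_21_0 lc_a_rc_0_1 lc_a_rc_3_2 lc_a_rc_4_2 lc_a_rc_0_1 lc_a_rc_21_0 lc_a_rc_3_2 lc_a_rc_4_2 lc_a_rc_1_4 lc_a_rc_0_1 lc_a_rc_3_2 lc_a_rc_4_2 lc_a_rc_2_2 lc_a_rc_5_0 lc_a_rc_2_2 lc_a_rc_2_2 lc_a_rc_3_2 lc_a_rc_4_2 lc_a_rc_3_0 lc_a_rc_2_2 lc_a_rc_3_2 lc_a_rc_4_2 lc_a_rc_2_2) (@D3.rec (fun _ => (Cert rels S Gen.a)) lc_a_rc_4_2 lc_a_rc_1_2 lc_a_rc_2_2 lc_a_rc_3_2 lc_a_rc_4_2 lc_a_rc_2_2 lc_a_rc_0_1 lc_a_rc_4_2 lc_a_Cert_tree lc_a_rc_2_2 lc_a_rc_4_2 lc_a_rc_4_2 lc_a_rc_5_0 lc_a_rc_3_2 lc_a_rc_5_2 lc_a_rc_5_0 lc_a_rc_2_2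 lc_a_rc_5_2 lc_a_rc_2_2 lc_a_rc_2_2 lc_a_rc_2_2 lc_a_rc_3_0 lc_a_rc_21_0 lc_a_rc_5_0 lc_a_rc_4_2 lc_a_rc_21_0 lc_a_Cert_tree lc_a_rc_2_2 lc_a_rc_1_2 lc_a_rc_1_2 lc_a_rc_0_1 lc_a_rc_4_2 lc_a_rc_3_2 lc_a_rc_2_2 lc_a_rc_2_2 lc_a_rc_3_2 lc_a_rc_2_2 lc_a_rc_2_2 lc_a_rc_4_2 lc_a_rc_4_0 lc_a_rc_22_0 lc_a_rc_2_2 lc_a_rc_2_2 lc_a_Cert_tree lc_a_rc_3_2 lc_a_rc_21_0 lc_a_rc_2_2 lc_a_rc_0_1 lc_a_rc_2_2 lc_a_rc_4_2 lc_a_Cert_tree lc_a_rc_5_0 lc_a_rc_4_2 lc_a_rc_5_2 lc_a_rc_2_2 lc_a_rc_2_2 lc_a_rc_3_2 lc_a_rc_3_2 lc_a_rc_21_0 lc_a_rc_21_0 lc_a_rc_1_4 lc_a_rc_2_2) (@D3.rec (fun _ => (Cert rels S Gen.a)) lc_a_rc_0_1 lc_a_Cert_tree lc_a_rc_3_2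 lc_a_rc_2_2 lc_a_rc_2_2 lc_a_rc_0_1 lc_a_Cert_tree lc_a_rc_3_2 lc_a_rc_21_0 lc_a_rc_3_2 lc_a_rc_0_1 lc_a_rc_3_2 lc_a_rc_4_2 lc_a_rc_4_2 lc_a_rc_21_0 lc_a_rc_5_2 lc_a_rc_5_0 lc_a_rc_2_2 lc_a_rc_2_0 lc_a_rc_4_2 lc_a_rc_22_0 lc_a_rc_21_0 lc_a_rc_4_2 lc_a_rc_5_2 lc_a_rc_3_2 lc_a_rc_4_2 lc_a_rc_4_2 lc_a_Cert_tree lc_a_rc_0_1 lc_a_rc_21_0 lc_a_rc_0_1 lc_a_rc_0_1 lc_a_rc_1_2 lc_a_rc_4_2 lc_a_rc_4_2 lc_a_rc_3_2 lc_a_rc_21_0 lc_a_rc_22_0 lc_a_rc_21_0 lc_a_rc_21_0 lc_a_rc_0_1 lc_a_rc_0_1 lc_a_rc_5_0 lc_a_rc_1_2 lc_a_rc_4_2 lc_a_rc_4_2 lc_a_rc_3_2 lc_a_rc_4_2 lc_a_rc_4_2 lc_a_rc_3_2 lc_a_rc_5_2 lc_a_rc_1_2 lc_a_rc_4_2 lc_a_rc_2_0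 lc_a_rc_4_2 lc_a_rc_3_2 lc_a_rc_4_2 lc_a_rc_3_2 lc_a_rc_4_2 lc_a_rc_2_2 lc_a_rc_2_2 lc_a_rc_3_2) (@D3.rec (fun _ => (Cert rels S Gen.a)) lc_a_rc_5_2 lc_a_rc_21_0 lc_a_rc_0_1 lc_a_rc_4_2 lc_a_rc_5_2 lc_a_rc_4_2 lc_a_rc_1_4 lc_a_rc_21_0 lc_a_rc_4_2 lc_a_rc_2_2 lc_a_rc_2_0 lc_a_rc_2_2 lc_a_rc_5_2 lc_a_rc_2_2 lc_a_rc_2_2 lc_a_rc_3_2 lc_a_rc_1_4 lc_a_rc_0_1 lc_a_rc_4_2 lc_a_rc_0_1 lc_a_rc_3_2 lc_a_rc_4_2 lc_a_Cert_tree lc_a_rc_3_2 lc_a_rc_5_2 lc_a_rc_0_1 lc_a_rc_0_1 lc_a_rc_21_0 lc_a_rc_1_4 lc_a_rc_21_0 lc_a_rc_3_2 lc_a_rc_4_2 lc_a_rc_2_2 lc_a_rc_0_1 lc_a_rc_3_2 lc_a_rc_21_0 lc_a_rc_1_4 lc_a_rc_2_2 lc_a_rc_5_2 lc_a_rc_21_0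 lc_a_rc_5_0 lc_a_rc_3_2 lc_a_rc_3_2 lc_a_rc_4_2 lc_a_rc_21_0 lc_a_rc_2_2 lc_a_rc_21_0 lc_a_rc_0_1 lc_a_Cert_tree lc_a_rc_3_2 lc_a_rc_21_0 lc_a_rc_3_2 lc_a_rc_5_2 lc_a_rc_4_2 lc_a_rc_3_2 lc_a_rc_3_0 lc_a_rc_2_2 lc_a_rc_0_1 lc_a_rc_3_2 lc_a_rc_21_0 lc_a_rc_0_1 lc_a_rc_4_2) (@D3.rec (fun _ => (Cert rels S Gen.a)) lc_a_rc_5_2 lc_a_rc_2_2 lc_a_rc_3_2 lc_a_rc_0_1 lc_a_rc_5_0 lc_a_rc_3_2 lc_a_rc_2_2 lc_a_rc_3_2 lc_a_rc_21_0 lc_a_rc_3_2 lc_a_rc_4_2 lc_a_rc_0_1 lc_a_rc_2_2 lc_a_rc_4_2 lc_a_rc_2_2 lc_a_rc_2_2 lc_a_Cert_tree lc_a_rc_4_2 lc_a_rc_2_2 lc_a_rc_4_2 lc_a_rc_0_1 lc_a_rc_2_2 lc_a_rc_4_2 lc_a_rc_5_2 lc_a_rc_4_2 lc_a_rc_21_0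 lc_a_rc_4_0 lc_a_rc_5_2 lc_a_rc_5_0 lc_a_rc_4_2 lc_a_rc_2_2 lc_a_rc_2_2 lc_a_rc_4_2 lc_a_rc_2_2 lc_a_rc_2_2 lc_a_rc_21_0 lc_a_rc_2_2 lc_a_rc_3_2 lc_a_rc_0_1 lc_a_rc_1_2 lc_a_rc_3_2 lc_a_rc_4_2 lc_a_rc_3_2 lc_a_rc_4_2 lc_a_rc_2_2 lc_a_rc_21_0 lc_a_rc_2_2 lc_a_rc_4_2 lc_a_rc_2_2 lc_a_rc_21_0 lc_a_rc_3_2 lc_a_rc_2_2 lc_a_rc_2_2 lc_a_rc_4_0 lc_a_rc_5_0 lc_a_rc_0_1 lc_a_rc_0_1 lc_a_rc_2_2 lc_a_rc_3_2 lc_a_rc_2_2 lc_a_rc_0_1 lc_a_Cert_tree) (@D3.rec (fun _ => (Cert rels S Gen.a)) lc_a_rc_4_2 lc_a_rc_21_0 lc_a_rc_2_2 lc_a_rc_0_1 lc_a_rc_3_2 lc_a_rc_21_0 lc_a_rc_21_0 lc_a_rc_3_2 lc_a_rc_21_0 lc_a_rc_3_2 lc_a_rc_3_0 lc_a_rc_2_0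 lc_a_Cert_tree lc_a_rc_2_2 lc_a_rc_3_2 lc_a_rc_4_2 lc_a_rc_3_2 lc_a_rc_4_2 lc_a_rc_3_2 lc_a_rc_5_2 lc_a_rc_21_0 lc_a_rc_3_2 lc_a_rc_1_4 lc_a_rc_2_2 lc_a_rc_3_2 lc_a_rc_3_2 lc_a_rc_3_2 lc_a_rc_2_2 lc_a_rc_5_2 lc_a_Cert_tree lc_a_rc_4_2 lc_a_rc_3_2 lc_a_rc_3_2 lc_a_rc_3_0 lc_a_rc_4_2 lc_a_rc_2_2 lc_a_rc_3_2 lc_a_rc_4_0 lc_a_rc_5_0 lc_a_rc_3_2 lc_a_rc_2_2 lc_a_rc_5_2 lc_a_rc_3_2 lc_a_rc_3_2 lc_a_rc_4_2 lc_a_rc_21_0 lc_a_rc_22_0 lc_a_rc_4_2 lc_a_rc_3_2 lc_a_rc_21_0 lc_a_rc_0_1 lc_a_rc_2_2 lc_a_rc_5_0 lc_a_rc_4_2 lc_a_rc_5_2 lc_a_rc_21_0 lc_a_rc_4_2 lc_a_rc_4_2 lc_a_rc_5_0 lc_a_rc_3_2 lc_a_rc_5_2 lc_a_rc_3_2) (@D3.rec (fun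 _ => (Cert rels S Gen.a)) lc_a_rc_3_2 lc_a_rc_2_2 lc_a_rc_5_2 lc_a_rc_2_2 lc_a_rc_3_2 lc_a_rc_21_0 lc_a_rc_0_1 lc_a_rc_3_2 lc_a_rc_2_2 lc_a_rc_4_2 lc_a_rc_3_0 lc_a_rc_4_2 lc_a_rc_4_2 lc_a_rc_21_0 lc_a_rc_5_2 lc_a_rc_3_2 lc_a_rc_4_2 lc_a_rc_2_2 lc_a_rc_4_2 lc_a_rc_2_0 lc_a_rc_21_0 lc_a_rc_21_0 lc_a_rc_4_2 lc_a_rc_2_2 lc_a_rc_4_2 lc_a_rc_5_2 lc_a_rc_3_2 lc_a_rc_0_1 lc_a_rc_22_0 lc_a_rc_4_2 lc_a_rc_0_1 lc_a_rc_3_2 lc_a_rc_5_2 lc_a_rc_3_0 lc_a_rc_4_2 lc_a_rc_0_1 lc_a_rc_3_2 lc_a_rc_2_2 lc_a_rc_4_2 lc_a_rc_0_1 lc_a_rc_5_2 lc_a_rc_4_2 lc_a_rc_0_1 lc_a_rc_3_2 lc_a_rc_4_2 lc_a_rc_5_2 lc_a_rc_1_4 lc_a_rc_4_2 lc_a_rc_4_2 lc_a_Cert_tree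 lc_a_rc_5_0 lc_a_rc_2_2 lc_a_Cert_tree lc_a_rc_3_2 lc_a_rc_2_2 lc_a_rc_0_1 lc_a_rc_21_0 lc_a_rc_22_0 lc_a_rc_5_2 lc_a_rc_4_2 lc_a_rc_3_2 lc_a_rc_1_4) (@D3.rec (fun _ => (Cert rels S Gen.a)) lc_a_rc_2_2 lc_a_rc_4_2 lc_a_rc_3_2 lc_a_rc_4_2 lc_a_rc_1_4 lc_a_rc_4_2 lc_a_rc_2_2 lc_a_rc_4_2 lc_a_rc_4_2 lc_a_rc_1_4 lc_a_rc_4_2 lc_a_rc_4_2 lc_a_rc_3_2 lc_a_rc_5_2 lc_a_Cert_tree lc_a_rc_3_2 lc_a_rc_22_0 lc_a_rc_21_0 lc_a_rc_4_2 lc_a_rc_3_2 lc_a_rc_4_2 lc_a_rc_3_2 lc_a_rc_1_4 lc_a_rc_21_0 lc_a_rc_3_2 lc_a_rc_5_2 lc_a_rc_1_4 lc_a_rc_21_0 lc_a_rc_21_0 lc_a_rc_1_4 lc_a_rc_1_2 lc_a_rc_3_2 lc_a_rc_5_2 lc_a_rc_21_0 lc_a_Cert_tree lc_a_rc_4_2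 lc_a_rc_0_1 lc_a_rc_3_2 lc_a_rc_21_0 lc_a_rc_3_2 lc_a_rc_3_2 lc_a_rc_3_0 lc_a_rc_4_2 lc_a_rc_3_2 lc_a_rc_5_2 lc_a_rc_2_0 lc_a_rc_2_0 lc_a_rc_4_2 lc_a_rc_1_0 lc_a_rc_3_2 lc_a_rc_5_2 lc_a_rc_4_2 lc_a_rc_0_1 lc_a_rc_2_2 lc_a_rc_5_2 lc_a_rc_1_4 lc_a_rc_21_0 lc_a_rc_21_0 lc_a_rc_4_2 lc_a_rc_21_0 lc_a_rc_4_2 lc_a_rc_2_2) (@D3.rec (fun _ => (Cert rels S Gen.a)) lc_a_rc_21_0 lc_a_rc_3_2 lc_a_rc_0_1 lc_a_rc_2_0 lc_a_rc_4_2 lc_a_rc_0_1 lc_a_rc_3_2 lc_a_rc_5_2 lc_a_rc_3_2 lc_a_rc_3_2 lc_a_rc_3_0 lc_a_rc_5_0 lc_a_rc_3_2 lc_a_rc_3_2 lc_a_rc_4_2 lc_a_rc_3_2 lc_a_rc_1_2 lc_a_rc_4_2 lc_a_rc_2_2 lc_a_rc_2_2 lc_a_rc_5_2 lc_a_rc_2_0 lc_a_rc_2_2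 lc_a_rc_4_2 lc_a_rc_0_1 lc_a_rc_3_0 lc_a_rc_3_2 lc_a_rc_5_2 lc_a_rc_4_2 lc_a_rc_3_0 lc_a_rc_4_2 lc_a_rc_0_1 lc_a_rc_21_0 lc_a_rc_2_2 lc_a_rc_3_0 lc_a_rc_4_2 lc_a_rc_3_0 lc_a_rc_4_2 lc_a_rc_0_1 lc_a_rc_21_0 lc_a_Cert_tree lc_a_rc_3_2 lc_a_rc_5_2 lc_a_rc_3_0 lc_a_rc_2_2 lc_a_rc_4_2 lc_a_rc_0_1 lc_a_rc_5_2 lc_a_rc_3_2 lc_a_rc_4_2 lc_a_Cert_tree lc_a_Cert_tree lc_a_rc_3_2 lc_a_rc_0_1 lc_a_rc_3_2 lc_a_rc_21_0 lc_a_rc_4_2 lc_a_rc_4_2 lc_a_rc_5_0 lc_a_rc_0_1 lc_a_rc_3_2 lc_a_rc_5_0) (@D3.rec (fun _ => (Cert rels S Gen.a)) lc_a_rc_3_2 lc_a_rc_4_2 lc_a_rc_2_0 lc_a_rc_2_2 lc_a_rc_2_2 lc_a_rc_1_4 lc_a_rc_4_2 lc_a_rc_2_0 lc_a_rc_3_2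 lc_a_rc_4_2 lc_a_rc_21_0 lc_a_rc_4_2 lc_a_rc_4_2 lc_a_rc_21_0 lc_a_rc_3_0 lc_a_rc_4_2 lc_a_rc_1_2 lc_a_rc_4_2 lc_a_rc_3_2 lc_a_rc_2_2 lc_a_rc_1_2 lc_a_rc_4_2 lc_a_rc_0_1 lc_a_rc_5_2 lc_a_rc_2_2 lc_a_rc_4_2 lc_a_rc_2_2 lc_a_rc_5_0 lc_a_rc_3_2 lc_a_rc_5_2 lc_a_rc_3_0 lc_a_rc_21_0 lc_a_rc_4_0 lc_a_rc_2_2 lc_a_rc_3_2 lc_a_rc_0_1 lc_a_rc_2_2 lc_a_rc_3_2 lc_a_rc_5_0 lc_a_rc_4_2 lc_a_rc_5_2 lc_a_rc_4_2 lc_a_rc_21_0 lc_a_rc_0_1 lc_a_Cert_tree lc_a_rc_22_0 lc_a_rc_2_2 lc_a_rc_3_2 lc_a_rc_2_2 lc_a_rc_2_2 lc_a_rc_4_2 lc_a_rc_4_2 lc_a_rc_2_2 lc_a_rc_5_0 lc_a_rc_4_0 lc_a_rc_2_2 lc_a_rc_3_2 lc_a_rc_21_0 lc_a_Cert_tree lc_a_rc_3_2 lc_a_rc_5_2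 lc_a_rc_21_0) (@D3.rec (fun _ => (Cert rels S Gen.a)) lc_a_rc_2_2 lc_a_rc_0_1 lc_a_rc_3_2 lc_a_rc_2_2 lc_a_rc_22_0 lc_a_rc_0_1 lc_a_rc_3_2 lc_a_rc_2_2 lc_a_Cert_tree lc_a_rc_3_2 lc_a_rc_4_2 lc_a_rc_3_2 lc_a_rc_2_2 lc_a_rc_5_2 lc_a_rc_3_2 lc_a_rc_4_2 lc_a_rc_0_1 lc_a_rc_21_0 lc_a_rc_3_2 lc_a_rc_5_2 lc_a_rc_2_2 lc_a_Cert_tree lc_a_rc_3_2 lc_a_Cert_tree lc_a_rc_3_2 lc_a_rc_3_2 lc_a_rc_2_2 lc_a_rc_4_2 lc_a_rc_2_2 lc_a_rc_3_2 lc_a_rc_3_0 lc_a_rc_0_1 lc_a_rc_2_2 lc_a_rc_3_2 lc_a_rc_0_1 lc_a_rc_2_2 lc_a_rc_3_2 lc_a_rc_3_2 lc_a_rc_0_1 lc_a_rc_0_1 lc_a_rc_21_0 lc_a_rc_2_2 lc_a_rc_4_2 lc_a_rc_2_2 lc_a_rc_3_2 lc_a_rc_0_1 lc_a_rc_0_1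 lc_a_Cert_tree lc_a_rc_3_2 lc_a_rc_2_2 lc_a_rc_2_2 lc_a_rc_4_2 lc_a_rc_5_0 lc_a_Cert_tree lc_a_rc_5_2 lc_a_rc_2_2 lc_a_rc_4_0 lc_a_rc_3_2 lc_a_rc_0_1 lc_a_rc_2_2 lc_a_rc_3_2 lc_a_rc_2_2) (@D3.rec (fun _ => (Cert rels S Gen.a)) lc_a_rc_1_4 lc_a_rc_5_2 lc_a_rc_0_1 lc_a_rc_3_2 lc_a_rc_0_1 lc_a_rc_21_0 lc_a_rc_5_0 lc_a_rc_21_0 lc_a_rc_4_2 lc_a_rc_21_0 lc_a_rc_0_1 lc_a_rc_3_2 lc_a_rc_5_2 lc_a_rc_0_1 lc_a_rc_4_0 lc_a_rc_2_2 lc_a_rc_3_2 lc_a_rc_0_1 lc_a_Cert_tree lc_a_rc_21_0 lc_a_rc_0_1 lc_a_rc_3_2 lc_a_rc_5_2 lc_a_rc_2_2 lc_a_rc_0_1 lc_a_rc_21_0 lc_a_rc_5_2 lc_a_rc_3_2 lc_a_rc_4_2 lc_a_rc_4_2 lc_a_rc_0_1 lc_a_rc_4_0 lc_a_rc_5_2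 lc_a_rc_2_2 lc_a_rc_0_1 lc_a_rc_21_0 lc_a_rc_3_2 lc_a_rc_4_2 lc_a_rc_4_2 lc_a_rc_21_0 lc_a_rc_0_1 lc_a_rc_3_2 lc_a_rc_5_2 lc_a_rc_21_0 lc_a_rc_2_2 lc_a_rc_3_2 lc_a_rc_21_0 lc_a_rc_21_0 lc_a_rc_5_0 lc_a_rc_3_2 lc_a_rc_21_0 lc_a_rc_4_2 lc_a_rc_0_1 lc_a_rc_3_2 lc_a_rc_21_0 lc_a_rc_3_2 lc_a_rc_4_2 lc_a_rc_2_2 lc_a_rc_3_2 lc_a_rc_4_2 lc_a_rc_21_0 lc_a_rc_2_0) (@D3.rec (fun _ => (Cert rels S Gen.a)) lc_a_rc_4_2 lc_a_rc_4_2 lc_a_rc_21_0 lc_a_rc_3_2 lc_a_rc_2_2 lc_a_rc_2_2 lc_a_rc_4_2 lc_a_rc_5_2 lc_a_rc_1_4 lc_a_rc_0_1 lc_a_rc_2_2 lc_a_rc_21_0 lc_a_rc_4_2 lc_a_rc_4_2 lc_a_rc_3_2 lc_a_rc_21_0 lc_a_rc_3_2 lc_a_rc_4_2 lc_a_rc_3_0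 lc_a_rc_22_0 lc_a_rc_21_0 lc_a_rc_3_2 lc_a_rc_4_2 lc_a_rc_4_2 lc_a_rc_2_2 lc_a_rc_21_0 lc_a_rc_3_2 lc_a_rc_5_2 lc_a_Cert_tree lc_a_rc_2_2 lc_a_rc_4_2 lc_a_Cert_tree lc_a_rc_2_0 lc_a_rc_0_1 lc_a_rc_21_0 lc_a_rc_3_2 lc_a_rc_1_4 lc_a_rc_0_1 lc_a_rc_21_0 lc_a_rc_3_2 lc_a_rc_4_2 lc_a_rc_4_2 lc_a_rc_21_0 lc_a_rc_2_2 lc_a_rc_4_2 lc_a_rc_0_1 lc_a_rc_21_0 lc_a_rc_3_2 lc_a_rc_2_2 lc_a_rc_0_1 lc_a_Cert_tree lc_a_rc_3_2 lc_a_rc_3_2 lc_a_rc_3_0 lc_a_rc_3_2 lc_a_rc_0_1 lc_a_rc_4_2 lc_a_Cert_tree lc_a_rc_3_0 lc_a_rc_21_0 lc_a_rc_3_0 lc_a_rc_0_1) (@D3.rec (fun _ => (Cert rels S Gen.a)) lc_a_rc_3_2 lc_a_rc_3_0 lc_a_rc_3_0 lc_a_rc_0_1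 lc_a_rc_2_0 lc_a_rc_3_2 lc_a_rc_3_2 lc_a_Cert_tree lc_a_rc_2_2 lc_a_rc_4_2 lc_a_rc_3_2 lc_a_rc_1_4 lc_a_rc_2_2 lc_a_rc_3_2 lc_a_rc_0_1 lc_a_rc_0_1 lc_a_rc_2_2 lc_a_rc_4_2 lc_a_rc_4_2 lc_a_Cert_tree lc_a_rc_3_2 lc_a_rc_5_2 lc_a_rc_2_2 lc_a_rc_5_2 lc_a_rc_2_2 lc_a_rc_3_2 lc_a_rc_0_1 lc_a_rc_21_0 lc_a_rc_3_2 lc_a_rc_4_2 lc_a_rc_0_1 lc_a_rc_5_0 lc_a_rc_2_2 lc_a_rc_1_2 lc_a_rc_3_2 lc_a_rc_0_1 lc_a_rc_5_0 lc_a_rc_0_1 lc_a_rc_3_2 lc_a_rc_4_2 lc_a_rc_3_2 lc_a_rc_5_0 lc_a_rc_4_2 lc_a_rc_5_0 lc_a_rc_0_1 lc_a_rc_2_2 lc_a_Cert_tree lc_a_rc_3_2 lc_a_rc_2_2 lc_a_rc_2_2 lc_a_rc_3_2 lc_a_rc_2_2 lc_a_rc_3_2 lc_a_rc_4_2 lc_a_rc_5_2 lc_a_Cert_tree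 lc_a_rc_0_1 lc_a_rc_5_0 lc_a_rc_0_1 lc_a_rc_2_2 lc_a_rc_4_2 lc_a_Cert_tree) (@D3.rec (fun _ => (Cert rels S Gen.a)) lc_a_rc_3_2 lc_a_rc_3_2 lc_a_rc_0_1 lc_a_rc_4_2 lc_a_rc_2_2 lc_a_rc_0_1 lc_a_rc_3_2 lc_a_Cert_tree lc_a_rc_22_0 lc_a_rc_0_1 lc_a_rc_21_0 lc_a_rc_0_1 lc_a_rc_2_2 lc_a_Cert_tree lc_a_rc_3_2 lc_a_rc_0_1 lc_a_rc_2_2 lc_a_Cert_tree lc_a_rc_5_0 lc_a_Cert_tree lc_a_rc_3_2 lc_a_Cert_tree lc_a_rc_3_2 lc_a_rc_2_2 lc_a_rc_2_0 lc_a_rc_0_1 lc_a_rc_3_2 lc_a_rc_3_2 lc_a_rc_22_0 lc_a_rc_21_0 lc_a_rc_0_1 lc_a_rc_22_0 lc_a_rc_2_2 lc_a_rc_2_2 lc_a_rc_4_2 lc_a_rc_2_0 lc_a_rc_3_2 lc_a_Cert_tree lc_a_rc_3_2 lc_a_rc_3_2 lc_a_rc_21_0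 lc_a_rc_0_1 lc_a_rc_4_2 lc_a_Cert_tree lc_a_rc_2_2 lc_a_rc_0_1 lc_a_rc_4_2 lc_a_rc_2_2 lc_a_rc_4_2 lc_a_rc_2_2 lc_a_rc_4_2 lc_a_rc_0_1 lc_a_rc_2_0 lc_a_Cert_tree lc_a_rc_22_0 lc_a_rc_4_2 lc_a_rc_0_1 lc_a_rc_4_0 lc_a_rc_5_2 lc_a_rc_1_4 lc_a_rc_4_2 lc_a_rc_0_1) (@D3.rec (fun _ => (Cert rels S Gen.a)) lc_a_rc_4_2 lc_a_rc_4_2 lc_a_rc_4_0 lc_a_rc_3_2 lc_a_rc_2_2 lc_a_rc_3_0 lc_a_rc_4_2 lc_a_rc_2_2 lc_a_rc_2_2 lc_a_rc_4_2 lc_a_rc_2_0 lc_a_rc_5_0 lc_a_Cert_tree lc_a_rc_2_0 lc_a_rc_4_2 lc_a_rc_5_0 lc_a_Cert_tree lc_a_rc_5_2 lc_a_rc_1_4 lc_a_rc_1_0 lc_a_rc_0_1 lc_a_rc_4_2 lc_a_rc_3_2 lc_a_rc_5_2 lc_a_rc_4_2 lc_a_rc_0_1 lc_a_rc_0_1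 lc_a_Cert_tree lc_a_rc_2_2 lc_a_rc_21_0 lc_a_rc_4_2 lc_a_rc_5_2 lc_a_Cert_tree lc_a_rc_2_2 lc_a_rc_0_1 lc_a_rc_4_2 lc_a_rc_3_2 lc_a_rc_21_0 lc_a_rc_0_1 lc_a_rc_2_2 lc_a_rc_4_2 lc_a_rc_21_0 lc_a_rc_0_1 lc_a_rc_22_0 lc_a_rc_0_1 lc_a_rc_2_2 lc_a_rc_3_2 lc_a_rc_1_4 lc_a_rc_3_2 lc_a_rc_2_0 lc_a_rc_4_2 lc_a_rc_2_2 lc_a_rc_4_0 lc_a_rc_2_2 lc_a_rc_2_0 lc_a_rc_21_0 lc_a_Cert_tree lc_a_rc_3_2 lc_a_rc_0_1 lc_a_rc_3_2 lc_a_rc_0_1 lc_a_rc_0_1) (@D3.rec (fun _ => (Cert rels S Gen.a)) lc_a_rc_4_2 lc_a_rc_0_1 lc_a_rc_5_2 lc_a_rc_2_2 lc_a_rc_4_2 lc_a_rc_2_0 lc_a_Cert_tree lc_a_rc_22_0 lc_a_rc_4_2 lc_a_rc_4_2 lc_a_rc_5_0 lc_a_rc_5_2 lc_a_rc_21_0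 lc_a_rc_3_2 lc_a_rc_0_1 lc_a_rc_4_2 lc_a_rc_5_2 lc_a_Cert_tree lc_a_rc_4_2 lc_a_rc_4_0 lc_a_rc_0_1 lc_a_rc_4_2 lc_a_rc_21_0 lc_a_rc_5_2 lc_a_rc_22_0 lc_a_rc_4_2 lc_a_rc_4_2 lc_a_rc_3_2 lc_a_rc_4_2 lc_a_rc_3_2 lc_a_rc_5_2 lc_a_rc_21_0 lc_a_rc_2_2 lc_a_rc_3_2 lc_a_rc_4_2 lc_a_rc_22_0 lc_a_rc_21_0 lc_a_rc_2_2 lc_a_rc_4_2 lc_a_rc_2_2 lc_a_rc_4_2 lc_a_rc_3_2 lc_a_rc_3_2 lc_a_rc_4_2 lc_a_rc_5_2 lc_a_rc_3_2 lc_a_rc_4_2 lc_a_Cert_tree lc_a_rc_3_2 lc_a_rc_21_0 lc_a_Cert_tree lc_a_rc_5_0 lc_a_rc_21_0 lc_a_rc_5_2 lc_a_rc_2_2 lc_a_rc_3_2 lc_a_rc_3_0 lc_a_rc_4_2 lc_a_rc_2_2 lc_a_rc_4_2 lc_a_rc_2_2 lc_a_rc_3_2) (@D3.rec (fun _ => (Cert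 rels S Gen.a)) lc_a_rc_4_2 lc_a_rc_2_2 lc_a_rc_4_2 lc_a_rc_0_1 lc_a_rc_3_0 lc_a_rc_2_2 lc_a_rc_4_2 lc_a_rc_2_2 lc_a_rc_2_2 lc_a_rc_4_2 lc_a_rc_2_2 lc_a_rc_5_2 lc_a_rc_21_0 lc_a_rc_4_2 lc_a_rc_3_2 lc_a_rc_21_0 lc_a_rc_21_0 lc_a_rc_4_2 lc_a_rc_0_1 lc_a_rc_3_2 lc_a_rc_5_2 lc_a_rc_2_2 lc_a_rc_1_2 lc_a_Cert_tree lc_a_rc_2_2 lc_a_rc_3_0 lc_a_rc_0_1 lc_a_rc_1_2 lc_a_rc_22_0 lc_a_rc_4_2 lc_a_rc_3_2 lc_a_rc_0_1 lc_a_rc_21_0 lc_a_rc_0_1 lc_a_rc_2_2 lc_a_rc_3_2 lc_a_rc_2_0 lc_a_rc_5_2 lc_a_rc_4_2 lc_a_rc_5_2 lc_a_rc_5_2 lc_a_rc_2_2 lc_a_rc_0_1 lc_a_rc_5_2 lc_a_rc_2_2 lc_a_rc_2_0 lc_a_Cert_tree lc_a_Cert_tree lc_a_Cert_tree lc_a_rc_21_0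 lc_a_rc_0_1 lc_a_rc_0_1 lc_a_rc_2_0 lc_a_rc_3_2 lc_a_rc_3_0 lc_a_rc_2_2 lc_a_rc_0_1 lc_a_rc_3_2 lc_a_rc_0_1 lc_a_rc_2_2 lc_a_rc_4_2 lc_a_rc_2_2) (@D3.rec (fun _ => (Cert rels S Gen.a)) lc_a_rc_4_2 lc_a_rc_4_2 lc_a_rc_0_1 lc_a_rc_3_0 lc_a_rc_4_0 lc_a_Cert_tree lc_a_rc_2_2 lc_a_rc_0_1 lc_a_rc_2_0 lc_a_Cert_tree lc_a_rc_2_2 lc_a_rc_0_1 lc_a_rc_2_2 lc_a_rc_0_1 lc_a_Cert_tree lc_a_rc_2_2 lc_a_rc_3_2 lc_a_Cert_tree lc_a_rc_0_1 lc_a_rc_2_2 lc_a_Cert_tree lc_a_Cert_tree lc_a_rc_2_2 lc_a_rc_4_0 lc_a_rc_0_1 lc_a_rc_2_2 lc_a_rc_2_2 lc_a_rc_3_2 lc_a_Cert_tree lc_a_rc_3_2 lc_a_rc_21_0 lc_a_rc_0_1 lc_a_rc_2_2 lc_a_rc_2_2 lc_a_rc_0_1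 lc_a_rc_3_2 lc_a_rc_3_2 lc_a_rc_21_0 lc_a_rc_4_2 lc_a_rc_0_1 lc_a_rc_2_2 lc_a_Cert_tree lc_a_rc_3_2 lc_a_rc_21_0 lc_a_rc_3_2 lc_a_rc_2_2 lc_a_rc_3_2 lc_a_rc_4_2 lc_a_rc_21_0 lc_a_rc_3_2 lc_a_rc_0_1 lc_a_Cert_tree lc_a_rc_2_2 lc_a_rc_3_2 lc_a_rc_1_4 lc_a_rc_0_1 lc_a_rc_0_1 lc_a_rc_3_2 lc_a_rc_4_2 lc_a_rc_4_0 lc_a_rc_4_2 lc_a_rc_3_2) (@D3.rec (fun _ => (Cert rels S Gen.a)) lc_a_Cert_tree lc_a_rc_5_0 lc_a_rc_0_1 lc_a_rc_0_1 lc_a_rc_2_2 lc_a_rc_3_2 lc_a_rc_4_2 lc_a_Cert_tree lc_a_rc_4_2 lc_a_rc_0_1 lc_a_rc_2_2 lc_a_rc_4_2 lc_a_Cert_tree lc_a_rc_3_2 lc_a_rc_4_2 lc_a_Cert_tree lc_a_rc_2_2 lc_a_Cert_tree lc_a_rc_3_2 lc_a_rc_2_2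 lc_a_Cert_tree lc_a_rc_0_1 lc_a_rc_0_1 lc_a_rc_3_2 lc_a_rc_21_0 lc_a_rc_5_0 lc_a_rc_3_2 lc_a_rc_5_2 lc_a_rc_0_1 lc_a_rc_2_2 lc_a_rc_4_2 lc_a_rc_22_0 lc_a_rc_4_2 lc_a_rc_3_2 lc_a_rc_2_2 lc_a_rc_3_2 lc_a_rc_5_0 lc_a_rc_0_1 lc_a_Cert_tree lc_a_rc_2_0 lc_a_rc_4_2 lc_a_rc_21_0 lc_a_rc_0_1 lc_a_rc_5_2 lc_a_rc_4_2 lc_a_rc_21_0 lc_a_rc_0_1 lc_a_rc_4_2 lc_a_rc_3_2 lc_a_rc_5_2 lc_a_rc_2_2 lc_a_rc_2_2 lc_a_rc_3_2 lc_a_rc_5_0 lc_a_rc_3_2 lc_a_rc_2_0 lc_a_rc_21_0 lc_a_Cert_tree lc_a_rc_3_2 lc_a_rc_3_2 lc_a_rc_21_0 lc_a_rc_0_1) (@D3.rec (fun _ => (Cert rels S Gen.a)) lc_a_Cert_tree lc_a_rc_2_2 lc_a_rc_4_2 lc_a_Cert_tree lc_a_rc_2_2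 lc_a_rc_0_1 lc_a_rc_21_0 lc_a_Cert_tree lc_a_rc_3_2 lc_a_rc_2_2 lc_a_rc_5_0 lc_a_rc_3_2 lc_a_rc_2_0 lc_a_Cert_tree lc_a_rc_1_2 lc_a_rc_2_2 lc_a_rc_4_2 lc_a_rc_5_0 lc_a_Cert_tree lc_a_rc_5_2 lc_a_rc_21_0 lc_a_rc_4_2 lc_a_rc_5_2 lc_a_rc_3_0 lc_a_rc_4_2 lc_a_rc_21_0 lc_a_rc_0_1 lc_a_rc_5_2 lc_a_rc_2_2 lc_a_rc_4_2 lc_a_rc_2_2 lc_a_rc_4_2 lc_a_rc_21_0 lc_a_rc_4_2 lc_a_Cert_tree lc_a_rc_5_0 lc_a_rc_21_0 lc_a_rc_5_2 lc_a_rc_3_2 lc_a_rc_0_1 lc_a_rc_1_4 lc_a_rc_4_2 lc_a_rc_4_2 lc_a_rc_0_1 lc_a_rc_21_0 lc_a_rc_3_2 lc_a_rc_5_2 lc_a_rc_2_2 lc_a_rc_2_2 lc_a_rc_4_2 lc_a_rc_5_2 lc_a_rc_1_4 lc_a_rc_0_1 lc_a_rc_22_0 lc_a_rc_21_0 lc_a_rc_4_2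 lc_a_rc_4_2 lc_a_rc_4_0 lc_a_rc_5_2 lc_a_rc_3_2 lc_a_rc_0_1 lc_a_rc_4_2) (@D3.rec (fun _ => (Cert rels S Gen.a)) lc_a_rc_4_2 lc_a_rc_0_1 lc_a_rc_5_2 lc_a_Cert_tree lc_a_rc_3_2 lc_a_rc_4_2 lc_a_rc_0_1 lc_a_Cert_tree lc_a_rc_3_2 lc_a_rc_4_2 lc_a_rc_0_1 lc_a_rc_3_2 lc_a_rc_4_2 lc_a_rc_4_0 lc_a_rc_21_0 lc_a_rc_22_0 lc_a_rc_1_4 lc_a_rc_4_2 lc_a_rc_5_0 lc_a_Cert_tree lc_a_rc_5_2 lc_a_rc_3_0 lc_a_rc_3_2 lc_a_rc_4_2 lc_a_Cert_tree lc_a_rc_2_2 lc_a_rc_3_2 lc_a_rc_5_2 lc_a_rc_21_0 lc_a_rc_2_2 lc_a_rc_0_1 lc_a_rc_4_0 lc_a_rc_21_0 lc_a_rc_4_2 lc_a_rc_1_4 lc_a_rc_4_2 lc_a_Cert_tree lc_a_rc_5_0 lc_a_rc_5_2 lc_a_rc_4_2 lc_a_rc_0_1 lc_a_rc_21_0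 lc_a_rc_3_2 lc_a_rc_5_2 lc_a_rc_2_2 lc_a_rc_3_2 lc_a_rc_21_0 lc_a_rc_1_2 lc_a_rc_5_2 lc_a_rc_0_1 lc_a_rc_2_2 lc_a_rc_5_0 lc_a_rc_3_2 lc_a_rc_4_2 lc_a_Cert_tree lc_a_rc_2_2 lc_a_rc_2_2 lc_a_Cert_tree lc_a_rc_3_2 lc_a_rc_2_2 lc_a_rc_4_2 lc_a_rc_0_1) (@D3.rec (fun _ => (Cert rels S Gen.a)) lc_a_rc_1_0 lc_a_rc_5_2 lc_a_rc_0_1 lc_a_rc_0_1 lc_a_rc_4_2 lc_a_rc_0_1 lc_a_Cert_tree lc_a_rc_2_2 lc_a_rc_3_2 lc_a_rc_4_2 lc_a_Cert_tree lc_a_rc_3_2 lc_a_rc_2_2 lc_a_rc_4_0 lc_a_rc_0_1 lc_a_rc_4_2 lc_a_rc_5_0 lc_a_rc_0_1 lc_a_rc_3_2 lc_a_rc_5_2 lc_a_rc_21_0 lc_a_rc_0_1 lc_a_rc_3_2 lc_a_rc_4_2 lc_a_rc_2_0 lc_a_rc_5_2 lc_a_rc_2_2 lc_a_rc_0_1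 lc_a_rc_0_1 lc_a_rc_3_0 lc_a_Cert_tree lc_a_rc_5_2 lc_a_rc_0_1 lc_a_rc_4_2 lc_a_rc_21_0 lc_a_rc_4_2 lc_a_rc_2_0 lc_a_rc_5_0 lc_a_rc_0_1 lc_a_rc_2_2 lc_a_rc_4_2 lc_a_rc_4_2 lc_a_rc_1_2 lc_a_rc_4_2 lc_a_rc_5_2 lc_a_rc_21_0 lc_a_rc_5_0 lc_a_rc_2_2 lc_a_rc_3_2 lc_a_rc_4_2 lc_a_rc_0_1 lc_a_rc_4_2 lc_a_rc_2_2 lc_a_rc_3_2 lc_a_rc_4_2 lc_a_rc_3_2 lc_a_rc_22_0 lc_a_rc_2_2 lc_a_rc_3_2 lc_a_rc_0_1 lc_a_rc_4_2 lc_a_rc_5_2) (@D3.rec (fun _ => (Cert rels S Gen.a)) lc_a_rc_2_2 lc_a_rc_0_1 lc_a_rc_2_2 lc_a_Cert_tree lc_a_rc_2_2 lc_a_rc_21_0 lc_a_rc_1_2 lc_a_rc_2_2 lc_a_rc_0_1 lc_a_rc_21_0 lc_a_rc_2_2 lc_a_rc_2_2 lc_a_rc_4_2 lc_a_rc_0_1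 lc_a_rc_3_2 lc_a_rc_2_2 lc_a_rc_3_2 lc_a_rc_3_2 lc_a_rc_5_2 lc_a_rc_4_2 lc_a_rc_1_2 lc_a_rc_5_0 lc_a_rc_0_1 lc_a_rc_21_0 lc_a_rc_1_4 lc_a_rc_3_2 lc_a_rc_2_0 lc_a_rc_4_2 lc_a_rc_0_1 lc_a_rc_21_0 lc_a_rc_2_2 lc_a_rc_4_2 lc_a_rc_4_0 lc_a_rc_5_2 lc_a_rc_21_0 lc_a_rc_0_1 lc_a_rc_0_1 lc_a_rc_21_0 lc_a_rc_2_2 lc_a_rc_5_2 lc_a_rc_2_2 lc_a_rc_0_1 lc_a_rc_4_2 lc_a_rc_4_2 lc_a_rc_5_2 lc_a_rc_2_2 lc_a_rc_5_0 lc_a_rc_0_1 lc_a_rc_3_2 lc_a_rc_4_2 lc_a_rc_4_2 lc_a_rc_3_2 lc_a_rc_5_2 lc_a_rc_3_2 lc_a_rc_0_1 lc_a_rc_21_0 lc_a_rc_5_0 lc_a_rc_4_2 lc_a_rc_3_2 lc_a_rc_5_2 lc_a_Cert_tree lc_a_rc_4_2) (@D3.rec (fun _ => (Cert rels S Gen.a))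 lc_a_rc_21_0 lc_a_rc_0_1 lc_a_rc_21_0 lc_a_rc_4_2 lc_a_rc_22_0 lc_a_Cert_tree lc_a_rc_3_2 lc_a_rc_5_2 lc_a_rc_4_0 lc_a_rc_3_0 lc_a_rc_3_2 lc_a_rc_0_1 lc_a_rc_2_2 lc_a_rc_2_2 lc_a_rc_0_1 lc_a_rc_3_0 lc_a_Cert_tree lc_a_rc_3_2 lc_a_rc_2_2 lc_a_rc_3_0 lc_a_rc_21_0 lc_a_rc_0_1 lc_a_rc_5_2 lc_a_rc_5_2 lc_a_Cert_tree lc_a_rc_5_0 lc_a_rc_2_2 lc_a_rc_2_2 lc_a_rc_3_2 lc_a_rc_2_0 lc_a_rc_21_0 lc_a_rc_2_2 lc_a_rc_21_0 lc_a_Cert_tree lc_a_rc_4_0 lc_a_Cert_tree lc_a_rc_0_1 lc_a_rc_4_2 lc_a_rc_4_2 lc_a_rc_4_2 lc_a_rc_4_2 lc_a_rc_0_1 lc_a_Cert_tree lc_a_rc_21_0 lc_a_rc_3_2 lc_a_rc_4_2 lc_a_rc_2_0 lc_a_rc_4_2 lc_a_rc_2_2 lc_a_rc_22_0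 lc_a_rc_0_1 lc_a_rc_4_2 lc_a_rc_2_2 lc_a_rc_1_4 lc_a_rc_2_2 lc_a_rc_1_4 lc_a_rc_4_2 lc_a_rc_2_2 lc_a_rc_3_2 lc_a_Cert_tree lc_a_rc_2_2 lc_a_rc_2_2) (@D3.rec (fun _ => (Cert rels S Gen.a)) lc_a_rc_4_2 lc_a_rc_2_2 lc_a_rc_4_2 lc_a_rc_0_1 lc_a_rc_5_2 lc_a_Cert_tree lc_a_rc_3_2 lc_a_rc_1_4 lc_a_rc_1_4 lc_a_rc_1_2 lc_a_rc_4_2 lc_a_Cert_tree lc_a_rc_5_2 lc_a_rc_2_2 lc_a_rc_4_2 lc_a_rc_5_2 lc_a_rc_2_2 lc_a_rc_3_2 lc_a_rc_2_2 lc_a_rc_2_2 lc_a_rc_5_2 lc_a_rc_4_2 lc_a_rc_0_1 lc_a_rc_1_2 lc_a_rc_4_2 lc_a_rc_4_2 lc_a_rc_5_0 lc_a_rc_2_2 lc_a_rc_3_2 lc_a_rc_4_2 lc_a_rc_3_2 lc_a_rc_5_2 lc_a_rc_3_2 lc_a_rc_4_2 lc_a_rc_4_2 lc_a_rc_1_2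 lc_a_rc_5_2 lc_a_rc_3_2 lc_a_rc_4_2 lc_a_rc_0_1 lc_a_rc_21_0 lc_a_rc_4_2 lc_a_rc_3_2 lc_a_rc_4_0 lc_a_rc_21_0 lc_a_rc_4_2 lc_a_rc_2_2 lc_a_rc_3_2 lc_a_rc_5_0 lc_a_rc_4_2 lc_a_rc_5_2 lc_a_Cert_tree lc_a_rc_3_2 lc_a_rc_3_2 lc_a_rc_2_2 lc_a_rc_3_2 lc_a_rc_2_2 lc_a_rc_0_1 lc_a_rc_4_2 lc_a_rc_4_2 lc_a_rc_2_2 lc_a_rc_4_2) (@D3.rec (fun _ => (Cert rels S Gen.a)) lc_a_rc_5_2 lc_a_rc_3_0 lc_a_rc_21_0 lc_a_rc_21_0 lc_a_rc_5_2 lc_a_rc_3_0 lc_a_rc_0_1 lc_a_rc_0_1 lc_a_rc_4_2 lc_a_rc_3_2 lc_a_rc_2_2 lc_a_rc_4_2 lc_a_rc_3_2 lc_a_rc_0_1 lc_a_rc_2_2 lc_a_rc_4_2 lc_a_rc_4_2 lc_a_rc_3_2 lc_a_rc_0_1 lc_a_rc_4_2 lc_a_rc_4_2 lc_a_rc_3_2 lc_a_rc_5_2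 lc_a_rc_2_2 lc_a_rc_4_2 lc_a_rc_4_2 lc_a_rc_21_0 lc_a_rc_1_4 lc_a_rc_21_0 lc_a_rc_21_0 lc_a_rc_4_2 lc_a_rc_4_2 lc_a_rc_1_2 lc_a_rc_5_0 lc_a_rc_3_2 lc_a_rc_5_2 lc_a_rc_0_1 lc_a_rc_4_2 lc_a_Cert_tree lc_a_rc_22_0 lc_a_rc_2_0 lc_a_rc_21_0 lc_a_rc_2_2 lc_a_rc_2_2 lc_a_Cert_tree lc_a_rc_0_1 lc_a_rc_4_2 lc_a_rc_0_1 lc_a_rc_0_1 lc_a_rc_5_2 lc_a_rc_2_2 lc_a_rc_5_0 lc_a_rc_0_1 lc_a_rc_3_2 lc_a_rc_3_2 lc_a_rc_0_1 lc_a_rc_22_0 lc_a_rc_22_0 lc_a_rc_4_2 lc_a_rc_3_2 lc_a_rc_4_2 lc_a_rc_4_2) (@D3.rec (fun _ => (Cert rels S Gen.a)) lc_a_rc_21_0 lc_a_rc_3_0 lc_a_rc_21_0 lc_a_rc_4_2 lc_a_rc_0_1 lc_a_rc_1_4 lc_a_rc_1_4 lc_a_rc_21_0 lc_a_rc_4_2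 lc_a_rc_3_2 lc_a_rc_5_2 lc_a_Cert_tree lc_a_rc_4_2 lc_a_rc_2_2 lc_a_rc_0_1 lc_a_rc_21_0 lc_a_rc_4_2 lc_a_rc_4_2 lc_a_rc_21_0 lc_a_rc_0_1 lc_a_rc_3_2 lc_a_rc_5_2 lc_a_rc_2_2 lc_a_rc_3_2 lc_a_Cert_tree lc_a_rc_2_2 lc_a_rc_1_4 lc_a_rc_4_2 lc_a_rc_4_2 lc_a_Cert_tree lc_a_rc_3_2 lc_a_rc_5_2 lc_a_rc_3_0 lc_a_rc_2_2 lc_a_rc_5_2 lc_a_rc_3_2 lc_a_rc_5_2 lc_a_rc_3_2 lc_a_rc_3_2 lc_a_rc_4_2 lc_a_rc_4_2 lc_a_rc_3_2 lc_a_rc_2_2 lc_a_rc_2_2 lc_a_rc_3_2 lc_a_rc_4_2 lc_a_Cert_tree lc_a_rc_21_0 lc_a_rc_5_0 lc_a_rc_4_2 lc_a_rc_3_2 lc_a_rc_4_2 lc_a_rc_0_1 lc_a_rc_21_0 lc_a_rc_4_2 lc_a_rc_21_0 lc_a_rc_1_4 lc_a_rc_3_2 lc_a_rc_5_2 lc_a_rc_1_2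 lc_a_rc_1_2 lc_a_rc_3_2) (@D3.rec (fun _ => (Cert rels S Gen.a)) lc_a_rc_5_2 lc_a_rc_21_0 lc_a_Cert_tree lc_a_rc_3_2 lc_a_rc_4_2 lc_a_rc_5_0 lc_a_Cert_tree lc_a_rc_2_2 lc_a_rc_5_2 lc_a_rc_0_1 lc_a_Cert_tree lc_a_rc_3_2 lc_a_rc_2_2 lc_a_Cert_tree lc_a_rc_3_2 lc_a_rc_5_2 lc_a_Cert_tree lc_a_rc_4_2 lc_a_rc_0_1 lc_a_rc_3_2 lc_a_rc_1_4 lc_a_rc_4_2 lc_a_rc_2_2 lc_a_rc_2_2 lc_a_rc_0_1 lc_a_rc_4_2 lc_a_rc_4_2 lc_a_rc_2_0 lc_a_rc_3_2 lc_a_rc_21_0 lc_a_rc_21_0 lc_a_rc_3_2 lc_a_rc_2_2 lc_a_rc_3_2 lc_a_rc_0_1 lc_a_rc_4_2 lc_a_rc_22_0 lc_a_rc_0_1 lc_a_rc_21_0 lc_a_rc_0_1 lc_a_rc_3_2 lc_a_rc_0_1 lc_a_rc_4_2 lc_a_rc_3_2 lc_a_rc_1_4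 lc_a_rc_4_2 lc_a_rc_4_2 lc_a_rc_4_2 lc_a_rc_21_0 lc_a_rc_1_4 lc_a_rc_3_2 lc_a_rc_5_2 lc_a_Cert_tree lc_a_rc_4_2 lc_a_rc_1_2 lc_a_rc_4_2 lc_a_rc_5_0 lc_a_rc_4_2 lc_a_rc_3_2 lc_a_rc_5_2 lc_a_Cert_tree lc_a_rc_3_2) (@D3.rec (fun _ => (Cert rels S Gen.a)) lc_a_Cert_tree lc_a_Cert_tree lc_a_rc_3_2 lc_a_rc_0_1 lc_a_rc_3_0 lc_a_rc_22_0 lc_a_rc_5_2 lc_a_rc_21_0 lc_a_rc_3_2 lc_a_rc_4_2 lc_a_rc_5_0 lc_a_rc_2_2 lc_a_rc_4_2 lc_a_rc_3_2 lc_a_rc_2_2 lc_a_rc_21_0 lc_a_Cert_tree lc_a_rc_2_2 lc_a_rc_0_1 lc_a_rc_21_0 lc_a_Cert_tree lc_a_rc_3_2 lc_a_rc_21_0 lc_a_Cert_tree lc_a_rc_4_2 lc_a_rc_0_1 lc_a_rc_21_0 lc_a_rc_0_1 lc_a_rc_2_2 lc_a_rc_4_2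 lc_a_rc_2_0 lc_a_rc_2_2 lc_a_rc_3_2 lc_a_rc_21_0 lc_a_rc_3_2 lc_a_rc_0_1 lc_a_rc_4_2 lc_a_rc_4_2 lc_a_rc_3_2 lc_a_rc_4_2 lc_a_rc_3_2 lc_a_rc_0_1 lc_a_rc_4_2 lc_a_rc_0_1 lc_a_rc_21_0 lc_a_rc_3_2 lc_a_rc_5_2 lc_a_rc_2_2 lc_a_rc_21_0 lc_a_rc_3_2 lc_a_rc_5_2 lc_a_rc_1_4 lc_a_rc_22_0 lc_a_rc_3_2 lc_a_rc_0_1 lc_a_rc_5_0 lc_a_rc_3_2 lc_a_rc_2_2 lc_a_rc_5_2 lc_a_rc_3_2 lc_a_rc_5_2 lc_a_rc_0_1) (@D3.rec (fun _ => (Cert rels S Gen.a)) lc_a_rc_2_2 lc_a_rc_0_1 lc_a_rc_3_2 lc_a_rc_2_2 lc_a_rc_4_2 lc_a_rc_2_2 lc_a_Cert_tree lc_a_rc_2_2 lc_a_rc_21_0 lc_a_rc_0_1 lc_a_Cert_tree lc_a_rc_22_0 lc_a_rc_22_0 lc_a_rc_3_2 lc_a_rc_2_2 lc_a_rc_0_1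 lc_a_rc_4_2 lc_a_rc_1_2 lc_a_rc_2_2 lc_a_rc_2_0 lc_a_rc_4_2 lc_a_rc_4_2 lc_a_rc_4_2 lc_a_rc_2_2 lc_a_rc_4_2 lc_a_rc_21_0 lc_a_rc_0_1 lc_a_rc_3_2 lc_a_rc_5_2 lc_a_rc_4_2 lc_a_rc_21_0 lc_a_rc_1_2 lc_a_rc_5_2 lc_a_rc_0_1 lc_a_rc_0_1 lc_a_rc_2_2 lc_a_rc_3_2 lc_a_rc_5_2 lc_a_rc_4_2 lc_a_rc_4_2 lc_a_rc_4_0 lc_a_rc_3_2 lc_a_rc_5_2 lc_a_rc_5_0 lc_a_rc_2_2 lc_a_rc_3_2 lc_a_rc_5_2 lc_a_rc_3_2 lc_a_rc_5_0 lc_a_rc_2_2 lc_a_rc_3_2 lc_a_rc_3_0 lc_a_rc_0_1 lc_a_rc_0_1 lc_a_rc_4_2 lc_a_rc_4_2 lc_a_rc_0_1 lc_a_rc_2_2 lc_a_rc_4_2 lc_a_rc_0_1 lc_a_rc_3_2 lc_a_rc_5_2) (@D3.rec (fun _ => (Cert rels S Gen.a)) lc_a_rc_3_2 lc_a_rc_4_2 lc_a_rc_4_2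 lc_a_rc_2_2 lc_a_rc_3_2 lc_a_rc_5_2 lc_a_rc_4_2 lc_a_rc_21_0 lc_a_rc_0_1 lc_a_rc_3_2 lc_a_rc_5_2 lc_a_rc_1_2 lc_a_rc_3_0 lc_a_rc_2_0 lc_a_rc_2_2 lc_a_rc_4_2 lc_a_rc_2_2 lc_a_rc_4_2 lc_a_rc_4_2 lc_a_rc_5_0 lc_a_rc_3_2 lc_a_rc_5_2 lc_a_rc_21_0 lc_a_rc_0_1 lc_a_rc_0_1 lc_a_rc_4_2 lc_a_Cert_tree lc_a_rc_21_0 lc_a_rc_21_0 lc_a_rc_4_2 lc_a_rc_5_0 lc_a_rc_3_2 lc_a_rc_2_2 lc_a_rc_5_2 lc_a_rc_2_2 lc_a_rc_4_2 lc_a_rc_2_2 lc_a_rc_5_0 lc_a_rc_3_2 lc_a_rc_5_2 lc_a_rc_5_0 lc_a_rc_2_2 lc_a_rc_3_2 lc_a_rc_5_2 lc_a_rc_2_2 lc_a_rc_21_0 lc_a_rc_1_2 lc_a_rc_4_2 lc_a_rc_1_4 lc_a_rc_4_2 lc_a_rc_5_2 lc_a_rc_1_0 lc_a_rc_3_2 lc_a_rc_0_1 lc_a_rc_3_2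 lc_a_rc_4_2 lc_a_rc_21_0 lc_a_rc_0_1 lc_a_rc_2_2 lc_a_rc_5_2 lc_a_rc_5_2 lc_a_rc_0_1) (@D3.rec (fun _ => (Cert rels S Gen.a)) lc_a_rc_2_2 lc_a_rc_3_2 lc_a_rc_0_1 lc_a_rc_0_1 lc_a_rc_2_2 lc_a_rc_3_2 lc_a_rc_1_4 lc_a_rc_4_0 lc_a_rc_0_1 lc_a_rc_21_0 lc_a_rc_2_2 lc_a_rc_4_2 lc_a_rc_2_2 lc_a_rc_2_0 lc_a_rc_0_1 lc_a_rc_3_2 lc_a_rc_2_0 lc_a_rc_1_4 lc_a_rc_3_0 lc_a_rc_4_2 lc_a_Cert_tree lc_a_rc_3_2 lc_a_rc_5_2 lc_a_Cert_tree lc_a_rc_0_1 lc_a_rc_4_2 lc_a_Cert_tree lc_a_rc_2_2 lc_a_rc_0_1 lc_a_rc_0_1 lc_a_rc_5_0 lc_a_rc_0_1 lc_a_rc_2_0 lc_a_rc_22_0 lc_a_rc_4_2 lc_a_rc_3_2 lc_a_rc_21_0 lc_a_rc_3_2 lc_a_rc_21_0 lc_a_rc_3_2 lc_a_rc_5_0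 lc_a_Cert_tree lc_a_rc_4_2 lc_a_rc_1_2 lc_a_rc_3_2 lc_a_Cert_tree lc_a_rc_3_2 lc_a_rc_21_0 lc_a_rc_0_1 lc_a_rc_3_2 lc_a_rc_3_0 lc_a_rc_2_2 lc_a_rc_4_2 lc_a_rc_5_2 lc_a_rc_2_2 lc_a_rc_5_2 lc_a_Cert_tree lc_a_Cert_tree lc_a_rc_2_2 lc_a_rc_4_2 lc_a_rc_2_2 lc_a_Cert_tree) (@D3.rec (fun _ => (Cert rels S Gen.a)) lc_a_rc_0_1 lc_a_Cert_tree lc_a_rc_21_0 lc_a_rc_0_1 lc_a_rc_3_2 lc_a_rc_4_2 lc_a_rc_2_2 lc_a_rc_4_2 lc_a_rc_2_2 lc_a_rc_5_0 lc_a_rc_0_1 lc_a_rc_3_0 lc_a_rc_3_2 lc_a_rc_5_2 lc_a_rc_21_0 lc_a_rc_3_2 lc_a_rc_3_2 lc_a_rc_1_4 lc_a_rc_21_0 lc_a_rc_3_2 lc_a_rc_2_2 lc_a_rc_2_2 lc_a_rc_4_2 lc_a_rc_2_0 lc_a_rc_3_0 lc_a_rc_2_0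 lc_a_rc_2_0 lc_a_Cert_tree lc_a_rc_3_2 lc_a_rc_3_2 lc_a_rc_2_2 lc_a_rc_2_2 lc_a_rc_21_0 lc_a_Cert_tree lc_a_rc_3_2 lc_a_rc_3_2 lc_a_rc_21_0 lc_a_Cert_tree lc_a_rc_3_2 lc_a_rc_4_2 lc_a_Cert_tree lc_a_rc_3_2 lc_a_rc_22_0 lc_a_rc_3_2 lc_a_rc_2_2 lc_a_rc_0_1 lc_a_rc_3_2 lc_a_rc_0_1 lc_a_rc_22_0 lc_a_rc_3_0 lc_a_rc_4_2 lc_a_rc_22_0 lc_a_rc_0_1 lc_a_rc_4_2 lc_a_Cert_tree lc_a_rc_5_0 lc_a_rc_3_2 lc_a_rc_5_2 lc_a_rc_4_2 lc_a_rc_3_2 lc_a_rc_21_0 lc_a_rc_0_1) (@D3.rec (fun _ => (Cert rels S Gen.a)) lc_a_rc_5_2 lc_a_rc_2_2 lc_a_rc_2_2 lc_a_rc_5_0 lc_a_rc_0_1 lc_a_rc_4_2 lc_a_rc_3_2 lc_a_rc_5_2 lc_a_rc_22_0 lc_a_rc_3_2 lc_a_rc_0_1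 lc_a_Cert_tree lc_a_rc_21_0 lc_a_rc_4_2 lc_a_rc_4_2 lc_a_rc_5_0 lc_a_rc_4_2 lc_a_rc_5_2 lc_a_Cert_tree lc_a_rc_2_2 lc_a_rc_5_2 lc_a_rc_2_0 lc_a_Cert_tree lc_a_rc_3_2 lc_a_rc_0_1 lc_a_rc_2_2 lc_a_rc_5_2 lc_a_rc_5_2 lc_a_Cert_tree lc_a_rc_2_2 lc_a_rc_0_1 lc_a_rc_3_2 lc_a_rc_2_2 lc_a_rc_3_2 lc_a_rc_21_0 lc_a_rc_21_0 lc_a_Cert_tree lc_a_rc_3_2 lc_a_rc_21_0 lc_a_rc_2_2 lc_a_rc_5_2 lc_a_rc_4_2 lc_a_rc_2_2 lc_a_rc_4_2 lc_a_rc_0_1 lc_a_Cert_tree lc_a_rc_22_0 lc_a_rc_2_2 lc_a_rc_3_2 lc_a_rc_4_2 lc_a_rc_2_2 lc_a_rc_0_1 lc_a_rc_2_2 lc_a_Cert_tree lc_a_Cert_tree lc_a_rc_3_2 lc_a_rc_2_2 lc_a_rc_4_2 lc_a_Cert_tree lc_a_rc_3_2 lc_a_rc_21_0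 lc_a_rc_5_0) (@D3.rec (fun _ => (Cert rels S Gen.a)) lc_a_Cert_tree lc_a_rc_0_1 lc_a_rc_0_1 lc_a_rc_3_2 lc_a_rc_21_0 lc_a_rc_3_2 lc_a_rc_21_0 lc_a_rc_4_2 lc_a_rc_5_2 lc_a_rc_5_2 lc_a_rc_21_0 lc_a_rc_0_1 lc_a_rc_1_2 lc_a_rc_4_2 lc_a_rc_4_2 lc_a_Cert_tree lc_a_rc_3_2 lc_a_rc_21_0 lc_a_rc_2_2 lc_a_rc_21_0 lc_a_rc_3_2 lc_a_rc_4_2 lc_a_rc_3_2 lc_a_rc_3_2 lc_a_rc_4_2 lc_a_rc_2_2 lc_a_rc_2_0 lc_a_rc_3_2 lc_a_rc_0_1 lc_a_rc_0_1 lc_a_rc_21_0 lc_a_rc_2_2 lc_a_rc_3_2 lc_a_rc_0_1 lc_a_rc_3_2 lc_a_rc_2_2 lc_a_rc_3_2 lc_a_rc_1_4 lc_a_rc_3_2 lc_a_rc_3_2 lc_a_Cert_tree lc_a_rc_2_2 lc_a_rc_3_2 lc_a_rc_3_2 lc_a_rc_21_0 lc_a_Cert_tree lc_a_rc_5_0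 lc_a_rc_0_1 lc_a_Cert_tree lc_a_rc_22_0 lc_a_rc_2_2 lc_a_rc_4_2 lc_a_rc_3_2 lc_a_rc_21_0 lc_a_rc_2_2 lc_a_Cert_tree lc_a_rc_2_2 lc_a_Cert_tree lc_a_rc_2_2 lc_a_rc_4_0 lc_a_rc_22_0 lc_a_rc_4_2) (@D3.rec (fun _ => (Cert rels S Gen.a)) lc_a_Cert_tree lc_a_rc_3_2 lc_a_rc_4_2 lc_a_Cert_tree lc_a_rc_0_1 lc_a_rc_0_1 lc_a_rc_3_2 lc_a_rc_21_0 lc_a_rc_3_2 lc_a_rc_5_0 lc_a_rc_4_2 lc_a_rc_5_2 lc_a_rc_4_2 lc_a_rc_2_2 lc_a_rc_2_2 lc_a_rc_4_2 lc_a_rc_5_0 lc_a_rc_0_1 lc_a_rc_5_2 lc_a_rc_2_0 lc_a_rc_4_2 lc_a_rc_1_0 lc_a_rc_4_2 lc_a_rc_5_2 lc_a_rc_3_2 lc_a_rc_4_2 lc_a_rc_21_0 lc_a_rc_0_1 lc_a_rc_3_2 lc_a_rc_5_2 lc_a_rc_3_2 lc_a_rc_4_2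 lc_a_rc_1_4 lc_a_rc_4_2 lc_a_rc_5_2 lc_a_rc_4_2 lc_a_rc_0_1 lc_a_rc_21_0 lc_a_rc_3_2 lc_a_rc_5_2 lc_a_rc_3_2 lc_a_rc_1_0 lc_a_rc_4_0 lc_a_rc_2_2 lc_a_rc_5_2 lc_a_rc_2_2 lc_a_rc_3_2 lc_a_rc_5_2 lc_a_rc_5_0 lc_a_rc_21_0 lc_a_rc_5_0 lc_a_rc_4_2 lc_a_rc_0_1 lc_a_rc_0_1 lc_a_rc_0_1 lc_a_rc_3_2 lc_a_rc_0_1 lc_a_rc_21_0 lc_a_rc_2_2 lc_a_rc_1_4 lc_a_rc_21_0 lc_a_rc_21_0) (@D3.rec (fun _ => (Cert rels S Gen.a)) lc_a_rc_1_2 lc_a_rc_21_0 lc_a_rc_3_2 lc_a_rc_4_2 lc_a_rc_2_2 lc_a_rc_0_1 lc_a_rc_21_0 lc_a_rc_21_0 lc_a_rc_2_0 lc_a_rc_2_2 lc_a_Cert_tree lc_a_rc_3_2 lc_a_rc_2_2 lc_a_rc_2_2 lc_a_rc_3_2 lc_a_rc_4_2 lc_a_rc_2_2 lc_a_rc_1_0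 lc_a_rc_4_2 lc_a_rc_2_2 lc_a_rc_4_2 lc_a_rc_3_2 lc_a_rc_0_1 lc_a_rc_21_0 lc_a_rc_5_2 lc_a_rc_21_0 lc_a_rc_2_2 lc_a_rc_4_2 lc_a_rc_2_2 lc_a_rc_0_1 lc_a_rc_3_2 lc_a_rc_5_0 lc_a_Cert_tree lc_a_rc_4_2 lc_a_rc_5_0 lc_a_rc_4_2 lc_a_rc_4_2 lc_a_rc_5_2 lc_a_rc_2_2 lc_a_rc_2_2 lc_a_rc_3_2 lc_a_rc_2_2 lc_a_rc_3_2 lc_a_rc_4_2 lc_a_rc_1_0 lc_a_rc_5_2 lc_a_rc_0_1 lc_a_rc_5_0 lc_a_rc_2_2 lc_a_rc_4_2 lc_a_rc_21_0 lc_a_rc_0_1 lc_a_Cert_tree lc_a_rc_4_2 lc_a_rc_2_2 lc_a_rc_21_0 lc_a_rc_0_1 lc_a_Cert_tree lc_a_rc_4_2 lc_a_rc_2_0 lc_a_rc_4_2 lc_a_rc_5_2) (@D3.rec (fun _ => (Cert rels S Gen.a)) lc_a_rc_0_1 lc_a_rc_21_0 lc_a_rc_4_2 lc_a_Cert_tree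 lc_a_rc_5_0 lc_a_rc_4_2 lc_a_rc_5_2 lc_a_Cert_tree lc_a_Cert_tree lc_a_rc_0_1 lc_a_rc_0_1 lc_a_rc_3_2 lc_a_rc_21_0 lc_a_rc_4_2 lc_a_rc_4_2 lc_a_rc_3_0 lc_a_rc_3_0 lc_a_rc_4_2 lc_a_rc_5_0 lc_a_rc_4_0 lc_a_rc_2_2 lc_a_rc_3_0 lc_a_rc_0_1 lc_a_rc_4_2 lc_a_rc_2_2 lc_a_rc_21_0 lc_a_rc_0_1 lc_a_rc_0_1 lc_a_rc_2_2 lc_a_rc_22_0 lc_a_rc_2_2 lc_a_rc_5_2 lc_a_rc_4_2 lc_a_rc_5_0 lc_a_rc_3_2 lc_a_Cert_tree lc_a_rc_3_2 lc_a_rc_4_2 lc_a_Cert_tree lc_a_rc_5_0 lc_a_rc_4_2 lc_a_rc_5_0 lc_a_rc_3_2 lc_a_rc_4_2 lc_a_rc_5_2 lc_a_Cert_tree lc_a_rc_2_2 lc_a_rc_2_0 lc_a_rc_21_0 lc_a_rc_1_2 lc_a_rc_3_2 lc_a_rc_3_2 lc_a_rc_5_0 lc_a_rc_0_1 lc_a_rc_4_2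 lc_a_rc_4_2 lc_a_Cert_tree lc_a_rc_3_2 lc_a_rc_22_0 lc_a_rc_3_2 lc_a_rc_4_2 lc_a_rc_0_1) (@D3.rec (fun _ => (Cert rels S Gen.a)) lc_a_rc_0_1 lc_a_rc_3_2 lc_a_rc_5_0 lc_a_rc_0_1 lc_a_rc_3_2 lc_a_rc_4_2 lc_a_rc_0_1 lc_a_rc_0_1 lc_a_rc_2_2 lc_a_rc_4_2 lc_a_rc_4_0 lc_a_rc_4_2 lc_a_rc_3_2 lc_a_rc_0_1 lc_a_Cert_tree lc_a_rc_3_2 lc_a_rc_4_2 lc_a_rc_2_2 lc_a_rc_5_0 lc_a_rc_4_2 lc_a_rc_0_1 lc_a_Cert_tree lc_a_rc_2_2 lc_a_rc_4_2 lc_a_rc_0_1 lc_a_rc_5_0 lc_a_rc_3_2 lc_a_rc_5_2 lc_a_Cert_tree lc_a_rc_4_2 lc_a_rc_4_2 lc_a_rc_5_2 lc_a_rc_4_0 lc_a_rc_5_0 lc_a_rc_0_1 lc_a_rc_0_1 lc_a_rc_4_2 lc_a_Cert_tree lc_a_rc_3_2 lc_a_rc_2_2 lc_a_rc_2_2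 lc_a_rc_2_2 lc_a_rc_3_0 lc_a_rc_2_2 lc_a_rc_4_2 lc_a_Cert_tree lc_a_rc_2_2 lc_a_rc_3_2 lc_a_rc_1_0 lc_a_rc_4_2 lc_a_rc_21_0 lc_a_rc_2_2 lc_a_Cert_tree lc_a_rc_3_2 lc_a_Cert_tree lc_a_rc_22_0 lc_a_rc_5_2 lc_a_Cert_tree lc_a_rc_3_2 lc_a_rc_0_1 lc_a_rc_21_0 lc_a_rc_0_1) (@D3.rec (fun _ => (Cert rels S Gen.a)) lc_a_rc_3_2 lc_a_rc_3_2 lc_a_rc_5_0 lc_a_rc_4_2 lc_a_rc_4_0 lc_a_rc_2_2 lc_a_rc_2_0 lc_a_rc_0_1 lc_a_Cert_tree lc_a_rc_22_0 lc_a_rc_21_0 lc_a_rc_3_2 lc_a_rc_0_1 lc_a_rc_2_2 lc_a_rc_4_2 lc_a_rc_2_0 lc_a_rc_2_2 lc_a_Cert_tree lc_a_rc_2_0 lc_a_rc_4_2 lc_a_rc_1_4 lc_a_rc_4_0 lc_a_rc_21_0 lc_a_rc_2_2 lc_a_rc_0_1 lc_a_rc_4_2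 lc_a_rc_4_0 lc_a_rc_0_1 lc_a_rc_2_2 lc_a_Cert_tree lc_a_rc_3_2 lc_a_rc_3_2 lc_a_rc_2_0 lc_a_rc_21_0 lc_a_rc_0_1 lc_a_rc_3_2 lc_a_rc_21_0 lc_a_rc_0_1 lc_a_rc_4_2 lc_a_rc_4_2 lc_a_rc_4_0 lc_a_rc_21_0 lc_a_rc_21_0 lc_a_rc_4_2 lc_a_rc_2_2 lc_a_rc_2_2 lc_a_rc_3_2 lc_a_rc_0_1 lc_a_rc_2_2 lc_a_rc_1_4 lc_a_rc_3_2 lc_a_rc_22_0 lc_a_Cert_tree lc_a_rc_21_0 lc_a_rc_21_0 lc_a_rc_4_2 lc_a_Cert_tree lc_a_rc_2_2 lc_a_rc_3_2 lc_a_rc_4_2 lc_a_rc_5_2 lc_a_rc_21_0) (@D3.rec (fun _ => (Cert rels S Gen.a)) lc_a_rc_2_2 lc_a_rc_4_2 lc_a_Cert_tree lc_a_rc_2_0 lc_a_rc_4_2 lc_a_rc_21_0 lc_a_rc_0_1 lc_a_rc_2_2 lc_a_rc_2_2 lc_a_rc_2_2 lc_a_Cert_tree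 lc_a_rc_2_2 lc_a_rc_3_2 lc_a_rc_3_2 lc_a_rc_0_1 lc_a_rc_2_2 lc_a_rc_1_4 lc_a_Cert_tree lc_a_rc_5_2 lc_a_rc_2_0 lc_a_rc_4_2 lc_a_rc_3_2 lc_a_rc_2_2 lc_a_rc_3_2 lc_a_rc_3_2 lc_a_rc_1_2 lc_a_rc_3_2 lc_a_rc_2_2 lc_a_rc_2_0 lc_a_rc_1_2 lc_a_rc_3_2 lc_a_rc_4_2 lc_a_rc_1_2 lc_a_rc_4_2 lc_a_rc_4_2 lc_a_rc_3_2 lc_a_rc_1_2 lc_a_rc_0_1 lc_a_rc_21_0 lc_a_rc_0_1 lc_a_rc_4_2 lc_a_rc_0_1 lc_a_rc_2_2 lc_a_rc_2_2 lc_a_rc_4_0 lc_a_rc_5_2 lc_a_Cert_tree lc_a_rc_2_2 lc_a_Cert_tree lc_a_rc_4_2 lc_a_rc_2_2 lc_a_rc_0_1 lc_a_rc_1_0 lc_a_rc_2_2 lc_a_rc_2_2 lc_a_rc_3_2 lc_a_rc_4_2 lc_a_rc_2_2 lc_a_rc_3_2 lc_a_rc_4_2 lc_a_rc_1_2 lc_a_rc_5_0) (@D3.rec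 (fun _ => (Cert rels S Gen.a)) lc_a_rc_3_2 lc_a_rc_21_0 lc_a_rc_0_1 lc_a_rc_2_0 lc_a_rc_3_2 lc_a_rc_0_1 lc_a_rc_2_2 lc_a_rc_2_0 lc_a_rc_3_2 lc_a_rc_2_2 lc_a_rc_3_2 lc_a_rc_0_1 lc_a_rc_2_2 lc_a_rc_3_2 lc_a_rc_21_0 lc_a_rc_0_1 lc_a_rc_0_1 lc_a_rc_3_2 lc_a_rc_21_0 lc_a_rc_3_2 lc_a_rc_4_2 lc_a_rc_2_2 lc_a_rc_3_2 lc_a_rc_1_2 lc_a_rc_4_2 lc_a_rc_4_2 lc_a_rc_3_2 lc_a_rc_4_2 lc_a_rc_5_2 lc_a_rc_3_0 lc_a_rc_4_2 lc_a_rc_4_0 lc_a_rc_0_1 lc_a_rc_3_2 lc_a_rc_1_2 lc_a_rc_4_2 lc_a_rc_3_0 lc_a_rc_3_2 lc_a_rc_21_0 lc_a_rc_3_2 lc_a_rc_5_2 lc_a_rc_5_2 lc_a_rc_21_0 lc_a_rc_4_2 lc_a_rc_3_2 lc_a_rc_3_2 lc_a_Cert_tree lc_a_rc_0_1 lc_a_rc_0_1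 lc_a_rc_21_0 lc_a_rc_0_1 lc_a_rc_4_2 lc_a_rc_2_2 lc_a_rc_0_1 lc_a_rc_0_1 lc_a_rc_2_2 lc_a_rc_21_0 lc_a_rc_2_2 lc_a_rc_2_2 lc_a_rc_4_2 lc_a_rc_3_2 lc_a_rc_4_2) (@D3.rec (fun _ => (Cert rels S Gen.a)) lc_a_rc_4_2 lc_a_rc_1_4 lc_a_rc_0_1 lc_a_rc_4_2 lc_a_rc_3_2 lc_a_rc_3_2 lc_a_rc_0_1 lc_a_rc_2_2 lc_a_rc_3_2 lc_a_rc_0_1 lc_a_rc_5_0 lc_a_rc_0_1 lc_a_rc_0_1 lc_a_rc_0_1 lc_a_rc_3_2 lc_a_rc_21_0 lc_a_rc_4_2 lc_a_Cert_tree lc_a_rc_3_2 lc_a_rc_2_2 lc_a_rc_0_1 lc_a_rc_2_2 lc_a_rc_21_0 lc_a_rc_2_2 lc_a_rc_21_0 lc_a_Cert_tree lc_a_rc_3_2 lc_a_rc_0_1 lc_a_rc_4_2 lc_a_rc_2_2 lc_a_Cert_tree lc_a_rc_3_2 lc_a_rc_1_2 lc_a_rc_4_2 lc_a_rc_4_2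 lc_a_rc_21_0 lc_a_rc_3_2 lc_a_rc_5_2 lc_a_rc_21_0 lc_a_rc_0_1 lc_a_rc_4_2 lc_a_rc_0_1 lc_a_rc_4_2 lc_a_rc_4_2 lc_a_rc_2_2 lc_a_rc_3_2 lc_a_rc_1_2 lc_a_rc_4_2 lc_a_rc_4_2 lc_a_rc_5_0 lc_a_rc_3_2 lc_a_rc_21_0 lc_a_rc_1_4 lc_a_rc_4_2 lc_a_rc_2_0 lc_a_rc_5_2 lc_a_rc_4_2 lc_a_rc_3_2 lc_a_Cert_tree lc_a_rc_3_2 lc_a_rc_4_2 lc_a_Cert_tree) (@D3.rec (fun _ => (Cert rels S Gen.a)) lc_a_rc_3_2 lc_a_rc_2_0 lc_a_rc_3_0 lc_a_rc_3_2 lc_a_rc_2_2 lc_a_rc_5_2 lc_a_rc_3_2 lc_a_rc_4_2 lc_a_rc_21_0 lc_a_Cert_tree lc_a_rc_0_1 lc_a_rc_4_2 lc_a_rc_0_1 lc_a_rc_2_2 lc_a_rc_3_2 lc_a_rc_4_2 lc_a_rc_21_0 lc_a_rc_21_0 lc_a_rc_4_2 lc_a_rc_2_2 lc_a_rc_21_0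 lc_a_rc_4_2 lc_a_rc_3_2 lc_a_rc_2_2 lc_a_rc_21_0 lc_a_rc_21_0 lc_a_rc_5_2 lc_a_rc_21_0 lc_a_rc_22_0 lc_a_rc_1_2 lc_a_rc_3_2 lc_a_rc_21_0 lc_a_rc_3_2 lc_a_rc_0_1 lc_a_rc_3_2 lc_a_Cert_tree lc_a_rc_3_2 lc_a_Cert_tree lc_a_rc_21_0 lc_a_rc_5_0 lc_a_rc_2_0 lc_a_rc_3_2 lc_a_rc_3_2 lc_a_rc_4_2 lc_a_rc_4_0 lc_a_rc_5_2 lc_a_rc_3_0 lc_a_Cert_tree lc_a_rc_3_2 lc_a_rc_1_4 lc_a_rc_3_2 lc_a_Cert_tree lc_a_rc_3_2 lc_a_Cert_tree lc_a_rc_3_2 lc_a_rc_1_4 lc_a_rc_2_2 lc_a_rc_2_2 lc_a_rc_4_2 lc_a_Cert_tree lc_a_rc_3_2 lc_a_rc_21_0) (@D3.rec (fun _ => (Cert rels S Gen.a)) lc_a_rc_5_2 lc_a_rc_4_2 lc_a_rc_4_2 lc_a_rc_4_2 lc_a_rc_2_2 lc_a_rc_3_2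 lc_a_rc_3_2 lc_a_rc_3_2 lc_a_rc_4_2 lc_a_rc_4_2 lc_a_rc_3_2 lc_a_rc_3_2 lc_a_rc_0_1 lc_a_rc_4_2 lc_a_rc_1_4 lc_a_rc_4_2 lc_a_rc_4_2 lc_a_rc_4_2 lc_a_rc_0_1 lc_a_rc_21_0 lc_a_rc_3_2 lc_a_rc_5_2 lc_a_rc_3_2 lc_a_rc_4_2 lc_a_rc_2_0 lc_a_rc_2_0 lc_a_rc_3_2 lc_a_rc_5_2 lc_a_rc_21_0 lc_a_rc_3_2 lc_a_rc_2_2 lc_a_rc_3_2 lc_a_rc_4_2 lc_a_rc_0_1 lc_a_rc_2_2 lc_a_rc_22_0 lc_a_rc_2_2 lc_a_rc_5_2 lc_a_rc_22_0 lc_a_rc_5_0 lc_a_rc_4_2 lc_a_rc_4_2 lc_a_rc_3_2 lc_a_rc_5_2 lc_a_rc_2_2 lc_a_rc_21_0 lc_a_rc_0_1 lc_a_rc_3_2 lc_a_rc_4_2 lc_a_rc_3_2 lc_a_rc_4_2 lc_a_rc_3_2 lc_a_rc_4_2 lc_a_rc_21_0 lc_a_rc_3_2 lc_a_rc_3_2 lc_a_rc_0_1 lc_a_rc_3_2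 lc_a_rc_4_2 lc_a_rc_3_2 lc_a_rc_4_2 lc_a_rc_1_0) (@D3.rec (fun _ => (Cert rels S Gen.a)) lc_a_rc_0_1 lc_a_rc_4_2 lc_a_rc_0_1 lc_a_rc_3_2 lc_a_rc_0_1 lc_a_rc_3_2 lc_a_rc_21_0 lc_a_rc_5_0 lc_a_rc_2_0 lc_a_rc_3_2 lc_a_Cert_tree lc_a_rc_3_2 lc_a_rc_4_2 lc_a_rc_3_0 lc_a_rc_3_0 lc_a_rc_3_0 lc_a_rc_1_2 lc_a_rc_3_2 lc_a_rc_3_2 lc_a_rc_2_2 lc_a_rc_2_2 lc_a_rc_21_0 lc_a_rc_3_2 lc_a_rc_5_2 lc_a_Cert_tree lc_a_rc_3_2 lc_a_rc_3_2 lc_a_rc_3_2 lc_a_rc_2_2 lc_a_rc_5_2 lc_a_rc_3_2 lc_a_rc_5_0 lc_a_Cert_tree lc_a_rc_21_0 lc_a_rc_2_2 lc_a_rc_3_2 lc_a_rc_3_2 lc_a_rc_21_0 lc_a_rc_3_2 lc_a_rc_4_2 lc_a_rc_0_1 lc_a_rc_21_0 lc_a_rc_4_2 lc_a_rc_3_2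 lc_a_rc_3_2 lc_a_rc_4_2 lc_a_rc_1_4 lc_a_rc_4_2 lc_a_rc_4_2 lc_a_rc_1_2 lc_a_rc_21_0 lc_a_rc_3_2 lc_a_rc_5_2 lc_a_rc_2_2 lc_a_rc_2_0 lc_a_rc_3_2 lc_a_rc_5_2 lc_a_rc_21_0 lc_a_rc_3_2 lc_a_rc_3_2 lc_a_rc_3_2 lc_a_rc_0_1) (@D3.rec (fun _ => (Cert rels S Gen.a)) lc_a_rc_0_1 lc_a_rc_21_0 lc_a_rc_2_2 lc_a_rc_3_2 lc_a_rc_1_4 lc_a_rc_3_2 lc_a_rc_2_2 lc_a_rc_21_0 lc_a_rc_3_2 lc_a_rc_5_2 lc_a_rc_0_1 lc_a_rc_21_0 lc_a_rc_0_1 lc_a_rc_3_2 lc_a_rc_4_2 lc_a_rc_4_2 lc_a_rc_3_2 lc_a_rc_4_2 lc_a_rc_0_1 lc_a_rc_0_1 lc_a_rc_4_2 lc_a_rc_5_2 lc_a_rc_4_2 lc_a_rc_4_2 lc_a_rc_1_0 lc_a_rc_4_2 lc_a_rc_5_2 lc_a_rc_3_2 lc_a_rc_5_2 lc_a_rc_2_2 lc_a_rc_2_2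 lc_a_rc_3_2 lc_a_rc_5_2 lc_a_rc_21_0 lc_a_rc_5_0 lc_a_Cert_tree lc_a_rc_3_2 lc_a_rc_5_0 lc_a_rc_5_0 lc_a_rc_4_2 lc_a_rc_2_2 lc_a_rc_3_2 lc_a_rc_1_2 lc_a_rc_3_2 lc_a_rc_2_2 lc_a_rc_2_2 lc_a_rc_0_1 lc_a_rc_4_0 lc_a_rc_4_2 lc_a_Cert_tree lc_a_rc_21_0 lc_a_rc_2_2 lc_a_rc_2_2 lc_a_rc_4_2 lc_a_rc_3_2 lc_a_rc_2_2 lc_a_rc_4_2 lc_a_rc_4_2 lc_a_rc_4_2 lc_a_rc_21_0 lc_a_rc_1_2 lc_a_rc_21_0) (@D3.rec (fun _ => (Cert rels S Gen.a)) lc_a_rc_4_2 lc_a_rc_2_2 lc_a_rc_21_0 lc_a_rc_3_2 lc_a_rc_5_2 lc_a_rc_1_4 lc_a_rc_4_2 lc_a_rc_5_0 lc_a_rc_3_2 lc_a_rc_5_2 lc_a_rc_21_0 lc_a_rc_2_2 lc_a_rc_3_2 lc_a_rc_2_2 lc_a_rc_4_2 lc_a_rc_4_2 lc_a_rc_4_2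 lc_a_rc_21_0 lc_a_rc_0_1 lc_a_rc_3_2 lc_a_rc_5_2 lc_a_rc_5_0 lc_a_rc_1_2 lc_a_rc_3_2 lc_a_rc_5_2 lc_a_Cert_tree lc_a_rc_22_0 lc_a_rc_2_2 lc_a_rc_3_2 lc_a_rc_2_2 lc_a_rc_4_2 lc_a_rc_0_1 lc_a_rc_21_0 lc_a_rc_3_2 lc_a_rc_5_2 lc_a_rc_3_2 lc_a_rc_21_0 lc_a_rc_3_0 lc_a_rc_0_1 lc_a_rc_4_2 lc_a_rc_4_0 lc_a_rc_2_0 lc_a_rc_3_2 lc_a_rc_3_2 lc_a_rc_3_2 lc_a_rc_2_2 lc_a_rc_0_1 lc_a_rc_0_1 lc_a_rc_21_0 lc_a_rc_3_2 lc_a_rc_4_2 lc_a_rc_0_1 lc_a_rc_3_2 lc_a_rc_2_2 lc_a_rc_3_2 lc_a_rc_3_2 lc_a_rc_21_0 lc_a_rc_5_2 lc_a_rc_0_1 lc_a_rc_3_2 lc_a_rc_4_2 lc_a_rc_2_2) (@D3.rec (fun _ => (Cert rels S Gen.a)) lc_a_rc_4_2 lc_a_rc_3_2 lc_a_Cert_tree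 lc_a_rc_2_2 lc_a_rc_2_0 lc_a_rc_4_2 lc_a_Cert_tree lc_a_rc_2_2 lc_a_rc_2_2 lc_a_rc_4_2 lc_a_rc_21_0 lc_a_rc_2_2 lc_a_Cert_tree lc_a_rc_2_2 lc_a_rc_2_2 lc_a_rc_4_2 lc_a_rc_4_0 lc_a_rc_0_1 lc_a_rc_4_2 lc_a_rc_3_2 lc_a_Cert_tree lc_a_rc_5_0 lc_a_rc_1_2 lc_a_rc_0_1 lc_a_rc_3_2 lc_a_rc_4_2 lc_a_rc_3_2 lc_a_rc_5_0 lc_a_rc_2_2 lc_a_rc_2_2 lc_a_rc_3_2 lc_a_rc_22_0 lc_a_rc_2_2 lc_a_rc_5_0 lc_a_Cert_tree lc_a_rc_3_2 lc_a_rc_4_2 lc_a_rc_3_2 lc_a_rc_4_2 lc_a_Cert_tree lc_a_rc_3_2 lc_a_rc_0_1 lc_a_rc_4_2 lc_a_rc_0_1 lc_a_rc_4_2 lc_a_rc_0_1 lc_a_rc_21_0 lc_a_rc_0_1 lc_a_rc_3_2 lc_a_rc_4_2 lc_a_rc_21_0 lc_a_rc_4_2 lc_a_rc_3_2 lc_a_rc_3_2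 lc_a_Cert_tree lc_a_rc_3_2 lc_a_rc_0_1 lc_a_rc_21_0 lc_a_rc_1_2 lc_a_Cert_tree lc_a_rc_5_0 lc_a_Cert_tree) (@D3.rec (fun _ => (Cert rels S Gen.a)) lc_a_rc_0_1 lc_a_Cert_tree lc_a_rc_21_0 lc_a_rc_2_0 lc_a_rc_0_1 lc_a_rc_3_2 lc_a_rc_2_2 lc_a_rc_4_2 lc_a_Cert_tree lc_a_rc_3_2 lc_a_rc_1_2 lc_a_rc_3_2 lc_a_rc_4_2 lc_a_rc_2_2 lc_a_Cert_tree lc_a_rc_5_2 lc_a_rc_5_0 lc_a_rc_0_1 lc_a_rc_21_0 lc_a_rc_4_2 lc_a_rc_2_2 lc_a_rc_3_2 lc_a_rc_22_0 lc_a_rc_4_0 lc_a_rc_21_0 lc_a_rc_4_2 lc_a_Cert_tree lc_a_rc_22_0 lc_a_rc_1_2 lc_a_rc_3_2 lc_a_rc_4_2 lc_a_Cert_tree lc_a_rc_3_2 lc_a_rc_3_2 lc_a_rc_5_0 lc_a_rc_2_2 lc_a_rc_4_2 lc_a_rc_22_0 lc_a_rc_2_2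 lc_a_rc_0_1 lc_a_rc_2_2 lc_a_rc_21_0 lc_a_rc_2_2 lc_a_rc_4_2 lc_a_rc_0_1 lc_a_rc_21_0 lc_a_rc_3_2 lc_a_rc_4_0 lc_a_rc_21_0 lc_a_rc_2_2 lc_a_rc_1_4 lc_a_rc_2_0 lc_a_Cert_tree lc_a_rc_3_2 lc_a_rc_21_0 lc_a_rc_4_2 lc_a_rc_4_2 lc_a_Cert_tree lc_a_rc_1_2 lc_a_rc_4_2 lc_a_rc_5_2 lc_a_rc_21_0) (@D3.rec (fun _ => (Cert rels S Gen.a)) lc_a_rc_4_2 lc_a_rc_0_1 lc_a_rc_4_2 lc_a_rc_1_2 lc_a_rc_21_0 lc_a_rc_1_2 lc_a_rc_3_2 lc_a_rc_0_1 lc_a_rc_5_2 lc_a_rc_4_2 lc_a_Cert_tree lc_a_rc_21_0 lc_a_Cert_tree lc_a_rc_3_2 lc_a_rc_4_2 lc_a_Cert_tree lc_a_rc_0_1 lc_a_rc_0_1 lc_a_rc_3_2 lc_a_rc_21_0 lc_a_rc_3_2 lc_a_rc_4_2 lc_a_rc_3_2 lc_a_Cert_tree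 lc_a_rc_2_2 lc_a_rc_4_2 lc_a_rc_0_1 lc_a_rc_4_0 lc_a_rc_22_0 lc_a_rc_3_2 lc_a_Cert_tree lc_a_rc_21_0 lc_a_Cert_tree lc_a_rc_2_0 lc_a_rc_0_1 lc_a_rc_2_0 lc_a_rc_0_1 lc_a_rc_3_2 lc_a_rc_0_1 lc_a_rc_3_2 lc_a_rc_0_1 lc_a_rc_4_2 lc_a_rc_2_2 lc_a_rc_21_0 lc_a_rc_1_2 lc_a_rc_0_1 lc_a_rc_3_2 lc_a_rc_5_0 lc_a_rc_4_2 lc_a_rc_2_2 lc_a_rc_4_2 lc_a_rc_0_1 lc_a_rc_21_0 lc_a_rc_3_2 lc_a_rc_5_2 lc_a_rc_5_0 lc_a_rc_4_2 lc_a_rc_3_2 lc_a_rc_5_2 lc_a_Cert_tree lc_a_rc_0_1 lc_a_rc_4_2)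
def ce_a_7 : D2 → D3 → (Cert rels S Gen.a) := @D2.rec (fun _ => D3 → (Cert rels S Gen.a)) (@D3.rec (fun _ => (Cert rels S Gen.a)) lc_a_Cert_tree lc_a_rc_21_0 lc_a_rc_3_2 lc_a_rc_2_2 lc_a_rc_5_2 lc_a_rc_3_2 lc_a_rc_4_2 lc_a_rc_5_2 lc_a_rc_4_2 lc_a_rc_3_2 lc_a_rc_4_2 lc_a_rc_2_2 lc_a_rc_0_1 lc_a_rc_3_2 lc_a_rc_2_2 lc_a_rc_4_2 lc_a_rc_3_2 lc_a_rc_21_0 lc_a_rc_0_1 lc_a_rc_4_2 lc_a_rc_3_2 lc_a_rc_5_2 lc_a_rc_4_2 lc_a_rc_3_2 lc_a_rc_2_2 lc_a_rc_0_1 lc_a_rc_3_2 lc_a_Cert_tree lc_a_rc_4_2 lc_a_rc_3_2 lc_a_rc_4_2 lc_a_rc_2_2 lc_a_rc_1_4 lc_a_rc_3_2 lc_a_Cert_tree lc_a_rc_3_2 lc_a_rc_2_2 lc_a_rc_0_1 lc_a_rc_5_2 lc_a_rc_5_2 lc_a_rc_2_2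 lc_a_rc_21_0 lc_a_rc_0_1 lc_a_rc_1_2 lc_a_rc_4_2 lc_a_rc_4_2 lc_a_rc_3_2 lc_a_rc_4_2 lc_a_rc_4_2 lc_a_rc_1_4 lc_a_rc_4_2 lc_a_rc_4_2 lc_a_rc_4_2 lc_a_rc_1_2 lc_a_rc_0_1 lc_a_rc_0_1 lc_a_rc_3_2 lc_a_rc_5_2 lc_a_rc_21_0 lc_a_rc_4_2 lc_a_rc_3_2 lc_a_rc_5_2) (@D3.rec (fun _ => (Cert rels S Gen.a)) lc_a_rc_2_2 lc_a_rc_2_2 lc_a_rc_4_2 lc_a_Cert_tree lc_a_rc_3_2 lc_a_rc_4_2 lc_a_rc_5_0 lc_a_rc_3_2 lc_a_rc_2_2 lc_a_rc_5_2 lc_a_rc_1_4 lc_a_rc_3_2 lc_a_rc_4_2 lc_a_rc_2_2 lc_a_rc_4_2 lc_a_rc_3_2 lc_a_rc_2_2 lc_a_rc_4_2 lc_a_rc_3_2 lc_a_rc_4_2 lc_a_rc_3_2 lc_a_rc_4_2 lc_a_rc_0_1 lc_a_rc_4_2 lc_a_rc_4_2 lc_a_rc_0_1 lc_a_rc_3_2 lc_a_rc_4_2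 lc_a_rc_5_0 lc_a_rc_3_2 lc_a_rc_5_2 lc_a_rc_21_0 lc_a_rc_4_2 lc_a_rc_1_2 lc_a_rc_4_2 lc_a_rc_4_2 lc_a_rc_4_2 lc_a_rc_21_0 lc_a_rc_2_2 lc_a_rc_3_2 lc_a_rc_5_2 lc_a_rc_5_0 lc_a_Cert_tree lc_a_rc_3_2 lc_a_rc_5_2 lc_a_rc_0_1 lc_a_rc_22_0 lc_a_rc_22_0 lc_a_rc_21_0 lc_a_rc_1_4 lc_a_rc_0_1 lc_a_rc_4_2 lc_a_rc_3_2 lc_a_rc_4_2 lc_a_rc_5_0 lc_a_rc_3_2 lc_a_rc_5_2 lc_a_rc_1_4 lc_a_Cert_tree lc_a_rc_3_2 lc_a_rc_21_0 lc_a_Cert_tree) (@D3.rec (fun _ => (Cert rels S Gen.a)) lc_a_rc_3_2 lc_a_rc_2_2 lc_a_rc_22_0 lc_a_rc_3_2 lc_a_rc_2_2 lc_a_rc_5_2 lc_a_rc_3_0 lc_a_rc_0_1 lc_a_rc_0_1 lc_a_rc_1_4 lc_a_rc_3_0 lc_a_rc_0_1 lc_a_rc_0_1 lc_a_rc_1_4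 lc_a_rc_4_2 lc_a_rc_21_0 lc_a_rc_3_2 lc_a_rc_3_0 lc_a_rc_2_2 lc_a_rc_0_1 lc_a_rc_5_2 lc_a_rc_5_2 lc_a_rc_2_2 lc_a_rc_1_2 lc_a_rc_3_2 lc_a_rc_0_1 lc_a_rc_0_1 lc_a_rc_5_0 lc_a_rc_3_2 lc_a_rc_4_2 lc_a_rc_5_0 lc_a_rc_21_0 lc_a_rc_4_2 lc_a_rc_3_2 lc_a_rc_5_0 lc_a_rc_21_0 lc_a_rc_4_2 lc_a_rc_21_0 lc_a_rc_3_2 lc_a_rc_2_2 lc_a_rc_2_2 lc_a_rc_0_1 lc_a_rc_2_2 lc_a_rc_3_2 lc_a_rc_4_2 lc_a_rc_0_1 lc_a_rc_0_1 lc_a_rc_4_2 lc_a_rc_3_2 lc_a_Cert_tree lc_a_rc_2_2 lc_a_rc_4_2 lc_a_Cert_tree lc_a_rc_2_2 lc_a_rc_4_2 lc_a_rc_2_2 lc_a_rc_2_2 lc_a_Cert_tree lc_a_rc_2_2 lc_a_rc_2_2 lc_a_rc_4_2 lc_a_rc_3_2) (@D3.rec (fun _ => (Cert rels S Gen.a))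 lc_a_rc_21_0 lc_a_rc_3_2 lc_a_rc_21_0 lc_a_rc_1_2 lc_a_rc_3_2 lc_a_rc_21_0 lc_a_rc_22_0 lc_a_rc_0_1 lc_a_rc_2_2 lc_a_rc_3_2 lc_a_rc_4_2 lc_a_rc_4_2 lc_a_rc_3_2 lc_a_rc_4_2 lc_a_rc_5_0 lc_a_rc_2_2 lc_a_rc_4_2 lc_a_rc_2_2 lc_a_rc_3_2 lc_a_rc_5_2 lc_a_Cert_tree lc_a_rc_3_2 lc_a_rc_3_2 lc_a_rc_2_2 lc_a_rc_3_2 lc_a_rc_5_0 lc_a_rc_2_2 lc_a_rc_4_2 lc_a_rc_5_0 lc_a_rc_3_2 lc_a_rc_3_2 lc_a_rc_2_2 lc_a_rc_2_2 lc_a_Cert_tree lc_a_rc_3_2 lc_a_rc_2_2 lc_a_rc_22_0 lc_a_rc_3_2 lc_a_rc_4_2 lc_a_Cert_tree lc_a_rc_3_2 lc_a_rc_0_1 lc_a_rc_21_0 lc_a_rc_0_1 lc_a_rc_2_2 lc_a_rc_4_2 lc_a_rc_5_0 lc_a_rc_21_0 lc_a_rc_0_1 lc_a_rc_3_2 lc_a_rc_3_0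 lc_a_rc_2_2 lc_a_rc_4_2 lc_a_rc_2_0 lc_a_rc_3_2 lc_a_Cert_tree lc_a_rc_3_2 lc_a_rc_2_2 lc_a_rc_3_2 lc_a_rc_21_0 lc_a_rc_3_2 lc_a_rc_3_2) (@D3.rec (fun _ => (Cert rels S Gen.a)) lc_a_rc_21_0 lc_a_rc_3_2 lc_a_rc_2_2 lc_a_rc_4_2 lc_a_Cert_tree lc_a_rc_2_2 lc_a_rc_4_2 lc_a_Cert_tree lc_a_Cert_tree lc_a_rc_2_2 lc_a_rc_2_2 lc_a_rc_4_2 lc_a_rc_21_0 lc_a_rc_2_2 lc_a_rc_3_2 lc_a_rc_2_0 lc_a_rc_21_0 lc_a_rc_3_2 lc_a_rc_2_2 lc_a_rc_2_2 lc_a_rc_21_0 lc_a_rc_3_2 lc_a_rc_2_2 lc_a_rc_3_2 lc_a_rc_3_2 lc_a_rc_22_0 lc_a_rc_3_2 lc_a_rc_1_2 lc_a_rc_3_2 lc_a_rc_4_2 lc_a_rc_2_2 lc_a_Cert_tree lc_a_rc_5_0 lc_a_rc_3_2 lc_a_rc_3_2 lc_a_rc_3_2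 lc_a_rc_5_0 lc_a_rc_2_2 lc_a_rc_4_2 lc_a_rc_0_1 lc_a_rc_5_0 lc_a_rc_0_1 lc_a_rc_21_0 lc_a_rc_2_2 lc_a_rc_2_2 lc_a_rc_21_0 lc_a_rc_4_2 lc_a_rc_2_2 lc_a_rc_2_2 lc_a_rc_2_2 lc_a_rc_2_2 lc_a_Cert_tree lc_a_rc_3_2 lc_a_rc_1_2 lc_a_rc_3_2 lc_a_rc_4_2 lc_a_rc_2_2 lc_a_Cert_tree lc_a_rc_3_2 lc_a_rc_3_2 lc_a_rc_21_0 lc_a_rc_3_2) (@D3.rec (fun _ => (Cert rels S Gen.a)) lc_a_rc_2_2 lc_a_rc_4_2 lc_a_rc_5_2 lc_a_rc_2_0 lc_a_rc_0_1 lc_a_rc_0_1 lc_a_rc_21_0 lc_a_rc_5_0 lc_a_rc_2_2 lc_a_rc_0_1 lc_a_rc_4_2 lc_a_rc_21_0 lc_a_rc_2_2 lc_a_rc_21_0 lc_a_Cert_tree lc_a_rc_3_2 lc_a_rc_1_4 lc_a_rc_3_2 lc_a_Cert_tree lc_a_rc_3_2 lc_a_Cert_tree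 lc_a_rc_5_0 lc_a_Cert_tree lc_a_rc_3_2 lc_a_rc_3_2 lc_a_rc_2_2 lc_a_rc_4_2 lc_a_rc_0_1 lc_a_rc_3_0 lc_a_rc_3_2 lc_a_Cert_tree lc_a_rc_3_2 lc_a_rc_3_2 lc_a_rc_4_2 lc_a_rc_4_2 lc_a_rc_3_2 lc_a_rc_4_2 lc_a_rc_21_0 lc_a_rc_4_2 lc_a_rc_1_2 lc_a_rc_21_0 lc_a_rc_5_2 lc_a_rc_4_2 lc_a_Cert_tree lc_a_rc_3_2 lc_a_Cert_tree lc_a_rc_3_2 lc_a_rc_21_0 lc_a_rc_5_0 lc_a_rc_3_2 lc_a_rc_2_2 lc_a_rc_5_2 lc_a_rc_1_2 lc_a_rc_3_2 lc_a_rc_2_2 lc_a_rc_2_2 lc_a_rc_3_0 lc_a_rc_3_2 lc_a_rc_4_2 lc_a_Cert_tree lc_a_Cert_tree lc_a_rc_4_2) (@D3.rec (fun _ => (Cert rels S Gen.a)) lc_a_rc_4_2 lc_a_rc_0_1 lc_a_rc_3_2 lc_a_rc_4_2 lc_a_rc_0_1 lc_a_rc_4_2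 lc_a_rc_5_2 lc_a_rc_1_2 lc_a_rc_5_2 lc_a_rc_3_2 lc_a_rc_21_0 lc_a_rc_3_2 lc_a_rc_4_2 lc_a_rc_0_1 lc_a_rc_3_2 lc_a_rc_2_2 lc_a_rc_3_2 lc_a_rc_1_4 lc_a_rc_0_1 lc_a_rc_2_2 lc_a_rc_2_2 lc_a_rc_1_4 lc_a_rc_3_2 lc_a_rc_4_2 lc_a_rc_3_2 lc_a_rc_4_2 lc_a_rc_5_0 lc_a_rc_2_2 lc_a_rc_3_2 lc_a_rc_5_2 lc_a_rc_1_2 lc_a_rc_0_1 lc_a_rc_3_2 lc_a_rc_5_2 lc_a_rc_21_0 lc_a_rc_3_2 lc_a_Cert_tree lc_a_rc_3_2 lc_a_rc_4_2 lc_a_rc_5_0 lc_a_rc_3_2 lc_a_rc_2_2 lc_a_rc_5_2 lc_a_rc_21_0 lc_a_Cert_tree lc_a_rc_3_2 lc_a_rc_5_2 lc_a_rc_3_2 lc_a_rc_1_4 lc_a_rc_3_2 lc_a_Cert_tree lc_a_rc_3_2 lc_a_Cert_tree lc_a_rc_2_0 lc_a_rc_4_2 lc_a_rc_4_0 lc_a_rc_4_2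 lc_a_rc_0_1 lc_a_rc_3_2 lc_a_rc_4_2 lc_a_rc_4_2 lc_a_rc_0_1) (@D3.rec (fun _ => (Cert rels S Gen.a)) lc_a_rc_3_2 lc_a_rc_4_2 lc_a_rc_4_2 lc_a_rc_1_2 lc_a_rc_3_2 lc_a_rc_5_2 lc_a_rc_0_1 lc_a_rc_4_2 lc_a_rc_4_2 lc_a_rc_2_2 lc_a_rc_4_2 lc_a_rc_5_2 lc_a_Cert_tree lc_a_rc_3_2 lc_a_rc_4_2 lc_a_rc_21_0 lc_a_rc_3_2 lc_a_rc_5_0 lc_a_rc_3_2 lc_a_rc_2_2 lc_a_rc_5_2 lc_a_rc_1_4 lc_a_rc_3_2 lc_a_rc_0_1 lc_a_rc_2_2 lc_a_rc_0_1 lc_a_Cert_tree lc_a_rc_3_2 lc_a_rc_3_2 lc_a_rc_21_0 lc_a_rc_0_1 lc_a_rc_4_2 lc_a_rc_3_2 lc_a_rc_4_2 lc_a_rc_4_2 lc_a_rc_3_2 lc_a_rc_0_1 lc_a_rc_3_2 lc_a_rc_0_1 lc_a_rc_1_2 lc_a_rc_3_2 lc_a_rc_5_2 lc_a_rc_3_2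 lc_a_rc_2_0 lc_a_rc_3_2 lc_a_rc_3_2 lc_a_rc_2_2 lc_a_rc_1_2 lc_a_rc_4_2 lc_a_rc_1_2 lc_a_rc_4_2 lc_a_rc_4_2 lc_a_rc_4_2 lc_a_rc_21_0 lc_a_rc_2_2 lc_a_rc_3_2 lc_a_rc_5_2 lc_a_rc_4_2 lc_a_rc_3_2 lc_a_rc_3_2 lc_a_rc_0_1 lc_a_rc_3_2) (@D3.rec (fun _ => (Cert rels S Gen.a)) lc_a_rc_2_2 lc_a_rc_5_2 lc_a_rc_4_2 lc_a_rc_4_2 lc_a_rc_4_2 lc_a_rc_5_0 lc_a_rc_4_0 lc_a_rc_4_2 lc_a_rc_5_0 lc_a_rc_3_2 lc_a_rc_5_2 lc_a_rc_21_0 lc_a_rc_3_2 lc_a_rc_2_2 lc_a_rc_4_2 lc_a_rc_3_0 lc_a_rc_4_2 lc_a_rc_21_0 lc_a_rc_4_2 lc_a_rc_4_0 lc_a_rc_4_2 lc_a_rc_2_0 lc_a_rc_1_0 lc_a_rc_21_0 lc_a_rc_2_0 lc_a_rc_4_0 lc_a_rc_3_2 lc_a_rc_3_0 lc_a_rc_1_0 lc_a_rc_2_2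 lc_a_rc_5_2 lc_a_rc_2_2 lc_a_rc_0_1 lc_a_rc_21_0 lc_a_rc_3_2 lc_a_rc_4_2 lc_a_rc_2_2 lc_a_rc_3_2 lc_a_rc_21_0 lc_a_rc_2_2 lc_a_rc_3_0 lc_a_rc_2_2 lc_a_rc_4_2 lc_a_rc_21_0 lc_a_rc_5_0 lc_a_rc_0_1 lc_a_rc_2_2 lc_a_rc_3_2 lc_a_rc_4_2 lc_a_rc_3_2 lc_a_rc_4_2 lc_a_rc_2_2 lc_a_rc_4_2 lc_a_rc_3_2 lc_a_rc_21_0 lc_a_Cert_tree lc_a_rc_0_1 lc_a_rc_3_2 lc_a_rc_4_2 lc_a_Cert_tree lc_a_rc_2_2 lc_a_rc_2_2) (@D3.rec (fun _ => (Cert rels S Gen.a)) lc_a_rc_4_2 lc_a_rc_21_0 lc_a_rc_0_1 lc_a_rc_4_0 lc_a_rc_22_0 lc_a_rc_5_2 lc_a_rc_4_2 lc_a_rc_3_2 lc_a_rc_4_2 lc_a_Cert_tree lc_a_rc_3_2 lc_a_rc_3_2 lc_a_rc_3_2 lc_a_rc_22_0 lc_a_Cert_tree lc_a_rc_3_2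 lc_a_rc_5_0 lc_a_rc_0_1 lc_a_rc_3_2 lc_a_rc_4_2 lc_a_rc_3_2 lc_a_rc_2_2 lc_a_rc_2_2 lc_a_rc_4_2 lc_a_rc_21_0 lc_a_rc_3_2 lc_a_rc_2_2 lc_a_rc_3_0 lc_a_Cert_tree lc_a_rc_3_2 lc_a_Cert_tree lc_a_rc_3_2 lc_a_rc_4_2 lc_a_rc_4_2 lc_a_rc_2_2 lc_a_rc_5_2 lc_a_rc_5_0 lc_a_rc_0_1 lc_a_rc_3_2 lc_a_rc_4_2 lc_a_rc_2_2 lc_a_rc_4_2 lc_a_rc_0_1 lc_a_rc_22_0 lc_a_Cert_tree lc_a_rc_3_2 lc_a_rc_0_1 lc_a_rc_4_2 lc_a_rc_5_2 lc_a_rc_2_2 lc_a_rc_21_0 lc_a_Cert_tree lc_a_rc_0_1 lc_a_rc_0_1 lc_a_rc_3_0 lc_a_rc_3_0 lc_a_rc_2_2 lc_a_rc_4_2 lc_a_rc_4_2 lc_a_Cert_tree lc_a_rc_3_2 lc_a_Cert_tree) (@D3.rec (fun _ => (Cert rels S Gen.a)) lc_a_rc_1_4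 lc_a_rc_1_0 lc_a_rc_0_1 lc_a_rc_3_2 lc_a_rc_4_2 lc_a_Cert_tree lc_a_rc_4_2 lc_a_rc_0_1 lc_a_rc_1_4 lc_a_rc_21_0 lc_a_rc_0_1 lc_a_rc_0_1 lc_a_rc_3_2 lc_a_rc_4_2 lc_a_rc_4_2 lc_a_Cert_tree lc_a_rc_3_2 lc_a_rc_22_0 lc_a_rc_22_0 lc_a_rc_4_2 lc_a_rc_5_0 lc_a_rc_0_1 lc_a_rc_2_2 lc_a_rc_3_2 lc_a_rc_4_2 lc_a_rc_4_2 lc_a_rc_3_2 lc_a_rc_21_0 lc_a_rc_0_1 lc_a_rc_0_1 lc_a_rc_3_2 lc_a_rc_4_2 lc_a_rc_4_2 lc_a_rc_5_0 lc_a_rc_4_0 lc_a_Cert_tree lc_a_rc_5_0 lc_a_rc_3_2 lc_a_Cert_tree lc_a_Cert_tree lc_a_rc_3_2 lc_a_rc_3_2 lc_a_rc_0_1 lc_a_rc_2_2 lc_a_rc_4_2 lc_a_rc_22_0 lc_a_Cert_tree lc_a_rc_4_2 lc_a_Cert_tree lc_a_rc_4_2 lc_a_rc_3_2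 lc_a_rc_2_2 lc_a_rc_5_2 lc_a_rc_4_2 lc_a_rc_0_1 lc_a_rc_5_0 lc_a_rc_3_2 lc_a_rc_4_2 lc_a_rc_2_2 lc_a_rc_21_0 lc_a_Cert_tree lc_a_rc_2_0) (@D3.rec (fun _ => (Cert rels S Gen.a)) lc_a_rc_1_0 lc_a_rc_2_2 lc_a_Cert_tree lc_a_rc_3_2 lc_a_rc_21_0 lc_a_rc_3_2 lc_a_rc_4_2 lc_a_rc_2_2 lc_a_rc_22_0 lc_a_rc_3_2 lc_a_rc_5_0 lc_a_Cert_tree lc_a_rc_2_2 lc_a_rc_4_2 lc_a_rc_2_0 lc_a_rc_4_2 lc_a_rc_0_1 lc_a_rc_2_2 lc_a_rc_0_1 lc_a_rc_3_2 lc_a_rc_2_2 lc_a_rc_2_2 lc_a_Cert_tree lc_a_rc_3_2 lc_a_rc_1_4 lc_a_rc_3_2 lc_a_Cert_tree lc_a_Cert_tree lc_a_rc_3_0 lc_a_rc_4_2 lc_a_rc_0_1 lc_a_rc_3_0 lc_a_rc_2_0 lc_a_Cert_tree lc_a_rc_3_2 lc_a_rc_1_2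 lc_a_rc_0_1 lc_a_rc_3_2 lc_a_Cert_tree lc_a_rc_2_0 lc_a_rc_2_2 lc_a_rc_21_0 lc_a_rc_1_4 lc_a_rc_0_1 lc_a_rc_4_2 lc_a_rc_5_2 lc_a_rc_3_2 lc_a_rc_1_4 lc_a_rc_3_2 lc_a_Cert_tree lc_a_rc_2_0 lc_a_Cert_tree lc_a_rc_3_2 lc_a_rc_4_2 lc_a_rc_3_2 lc_a_rc_2_2 lc_a_rc_3_2 lc_a_rc_4_2 lc_a_rc_22_0 lc_a_rc_4_2 lc_a_rc_3_2 lc_a_rc_4_2) (@D3.rec (fun _ => (Cert rels S Gen.a)) lc_a_rc_21_0 lc_a_rc_4_2 lc_a_rc_4_2 lc_a_rc_0_1 lc_a_rc_21_0 lc_a_rc_4_0 lc_a_rc_5_2 lc_a_rc_4_2 lc_a_rc_3_2 lc_a_rc_4_2 lc_a_rc_1_0 lc_a_rc_3_2 lc_a_Cert_tree lc_a_rc_3_2 lc_a_rc_4_2 lc_a_Cert_tree lc_a_rc_3_2 lc_a_rc_3_2 lc_a_rc_3_2 lc_a_rc_2_2 lc_a_rc_3_2 lc_a_rc_1_2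 lc_a_rc_3_2 lc_a_rc_4_2 lc_a_rc_2_2 lc_a_rc_3_2 lc_a_rc_21_0 lc_a_rc_4_2 lc_a_rc_3_2 lc_a_rc_4_2 lc_a_rc_4_2 lc_a_rc_4_2 lc_a_rc_0_1 lc_a_rc_1_4 lc_a_rc_22_0 lc_a_rc_3_2 lc_a_rc_5_0 lc_a_rc_3_2 lc_a_rc_2_0 lc_a_Cert_tree lc_a_rc_3_2 lc_a_rc_4_2 lc_a_rc_5_0 lc_a_rc_3_2 lc_a_rc_2_2 lc_a_rc_5_2 lc_a_rc_1_4 lc_a_rc_3_2 lc_a_rc_3_0 lc_a_Cert_tree lc_a_rc_21_0 lc_a_rc_0_1 lc_a_rc_0_1 lc_a_rc_3_2 lc_a_rc_4_2 lc_a_rc_1_2 lc_a_rc_3_2 lc_a_rc_4_2 lc_a_rc_5_0 lc_a_rc_2_2 lc_a_rc_3_2 lc_a_rc_5_2) (@D3.rec (fun _ => (Cert rels S Gen.a)) lc_a_rc_21_0 lc_a_rc_21_0 lc_a_Cert_tree lc_a_rc_3_2 lc_a_rc_5_0 lc_a_rc_3_2 lc_a_rc_2_2 lc_a_rc_5_2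 lc_a_rc_0_1 lc_a_Cert_tree lc_a_rc_3_2 lc_a_Cert_tree lc_a_rc_3_2 lc_a_rc_2_2 lc_a_rc_2_2 lc_a_rc_4_2 lc_a_rc_3_2 lc_a_rc_5_2 lc_a_rc_2_2 lc_a_rc_2_2 lc_a_rc_21_0 lc_a_rc_4_2 lc_a_rc_2_2 lc_a_rc_21_0 lc_a_rc_0_1 lc_a_rc_4_2 lc_a_rc_3_2 lc_a_rc_4_2 lc_a_rc_3_2 lc_a_rc_4_2 lc_a_rc_1_4 lc_a_rc_4_2 lc_a_rc_4_2 lc_a_rc_4_2 lc_a_rc_5_0 lc_a_Cert_tree lc_a_rc_3_2 lc_a_Cert_tree lc_a_rc_3_2 lc_a_rc_4_2 lc_a_rc_3_2 lc_a_rc_3_2 lc_a_rc_2_2 lc_a_rc_4_2 lc_a_rc_4_2 lc_a_rc_4_2 lc_a_rc_0_1 lc_a_rc_1_2 lc_a_rc_5_2 lc_a_rc_21_0 lc_a_rc_4_2 lc_a_rc_21_0 lc_a_rc_3_2 lc_a_rc_4_2 lc_a_Cert_tree lc_a_rc_3_2 lc_a_rc_5_0 lc_a_rc_3_2 lc_a_rc_2_2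 lc_a_rc_5_2 lc_a_rc_1_4 lc_a_rc_3_2) (@D3.rec (fun _ => (Cert rels S Gen.a)) lc_a_rc_21_0 lc_a_rc_4_2 lc_a_rc_1_4 lc_a_rc_1_4 lc_a_rc_4_2 lc_a_rc_3_2 lc_a_rc_4_2 lc_a_rc_3_2 lc_a_rc_2_2 lc_a_rc_1_2 lc_a_rc_1_4 lc_a_rc_3_2 lc_a_rc_2_2 lc_a_rc_2_2 lc_a_rc_4_2 lc_a_rc_5_2 lc_a_rc_0_1 lc_a_rc_21_0 lc_a_rc_2_2 lc_a_rc_4_2 lc_a_rc_21_0 lc_a_rc_0_1 lc_a_rc_5_2 lc_a_rc_21_0 lc_a_rc_3_2 lc_a_rc_2_2 lc_a_rc_5_2 lc_a_rc_1_0 lc_a_rc_4_2 lc_a_rc_1_4 lc_a_rc_0_1 lc_a_rc_3_2 lc_a_rc_2_0 lc_a_rc_4_2 lc_a_rc_3_2 lc_a_rc_3_0 lc_a_rc_3_0 lc_a_rc_2_2 lc_a_rc_3_2 lc_a_rc_0_1 lc_a_rc_0_1 lc_a_rc_3_2 lc_a_rc_3_0 lc_a_rc_4_2 lc_a_rc_2_2 lc_a_rc_4_2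 lc_a_rc_5_2 lc_a_rc_0_1 lc_a_rc_2_2 lc_a_rc_3_2 lc_a_rc_0_1 lc_a_rc_2_2 lc_a_rc_4_2 lc_a_rc_3_2 lc_a_Cert_tree lc_a_rc_5_0 lc_a_rc_3_2 lc_a_rc_4_2 lc_a_Cert_tree lc_a_rc_2_2 lc_a_rc_4_2 lc_a_rc_3_2) (@D3.rec (fun _ => (Cert rels S Gen.a)) lc_a_rc_5_0 lc_a_rc_2_2 lc_a_Cert_tree lc_a_rc_3_2 lc_a_rc_5_2 lc_a_rc_4_2 lc_a_Cert_tree lc_a_rc_3_2 lc_a_Cert_tree lc_a_rc_3_2 lc_a_rc_1_4 lc_a_rc_0_1 lc_a_rc_3_2 lc_a_rc_3_2 lc_a_rc_22_0 lc_a_rc_2_2 lc_a_rc_4_2 lc_a_rc_0_1 lc_a_rc_21_0 lc_a_rc_0_1 lc_a_rc_3_2 lc_a_rc_4_2 lc_a_rc_2_2 lc_a_rc_4_2 lc_a_rc_2_0 lc_a_rc_3_2 lc_a_rc_1_2 lc_a_rc_0_1 lc_a_rc_2_2 lc_a_rc_4_0 lc_a_rc_2_2 lc_a_rc_0_1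 lc_a_rc_3_2 lc_a_rc_21_0 lc_a_rc_0_1 lc_a_rc_0_1 lc_a_Cert_tree lc_a_rc_4_2 lc_a_rc_2_2 lc_a_rc_4_2 lc_a_Cert_tree lc_a_rc_21_0 lc_a_Cert_tree lc_a_rc_3_2 lc_a_rc_4_2 lc_a_rc_2_0 lc_a_rc_2_0 lc_a_rc_5_0 lc_a_rc_3_0 lc_a_rc_22_0 lc_a_rc_4_2 lc_a_rc_2_2 lc_a_rc_2_2 lc_a_rc_1_0 lc_a_rc_2_0 lc_a_rc_0_1 lc_a_rc_3_2 lc_a_rc_4_2 lc_a_rc_21_0 lc_a_rc_4_2 lc_a_rc_0_1 lc_a_rc_2_2) (@D3.rec (fun _ => (Cert rels S Gen.a)) lc_a_rc_3_2 lc_a_rc_4_2 lc_a_rc_4_2 lc_a_rc_3_2 lc_a_rc_21_0 lc_a_rc_3_2 lc_a_rc_0_1 lc_a_rc_3_2 lc_a_rc_0_1 lc_a_Cert_tree lc_a_rc_3_2 lc_a_rc_4_2 lc_a_Cert_tree lc_a_rc_4_2 lc_a_rc_4_2 lc_a_rc_21_0 lc_a_rc_5_2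 lc_a_rc_4_2 lc_a_rc_3_2 lc_a_Cert_tree lc_a_rc_3_2 lc_a_rc_1_2 lc_a_rc_3_2 lc_a_Cert_tree lc_a_rc_3_2 lc_a_rc_21_0 lc_a_rc_0_1 lc_a_rc_2_2 lc_a_rc_4_2 lc_a_rc_21_0 lc_a_rc_0_1 lc_a_rc_2_2 lc_a_rc_3_2 lc_a_rc_2_2 lc_a_rc_2_2 lc_a_rc_2_0 lc_a_rc_3_2 lc_a_rc_4_2 lc_a_rc_1_2 lc_a_rc_4_2 lc_a_rc_4_2 lc_a_rc_0_1 lc_a_rc_3_2 lc_a_rc_4_2 lc_a_rc_21_0 lc_a_rc_1_2 lc_a_rc_4_2 lc_a_rc_4_2 lc_a_rc_2_2 lc_a_rc_1_4 lc_a_rc_3_2 lc_a_rc_1_4 lc_a_rc_3_2 lc_a_rc_5_2 lc_a_rc_2_2 lc_a_rc_0_1 lc_a_rc_2_2 lc_a_rc_21_0 lc_a_rc_4_2 lc_a_rc_0_1 lc_a_rc_2_2 lc_a_rc_5_2) (@D3.rec (fun _ => (Cert rels S Gen.a)) lc_a_rc_5_2 lc_a_rc_3_2 lc_a_rc_1_2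 lc_a_rc_5_2 lc_a_rc_3_2 lc_a_rc_4_2 lc_a_rc_21_0 lc_a_rc_4_2 lc_a_rc_2_2 lc_a_rc_0_1 lc_a_rc_4_2 lc_a_rc_5_0 lc_a_rc_1_2 lc_a_rc_4_2 lc_a_rc_0_1 lc_a_rc_2_2 lc_a_rc_3_2 lc_a_rc_2_2 lc_a_rc_3_2 lc_a_rc_4_0 lc_a_rc_5_2 lc_a_rc_0_1 lc_a_rc_2_2 lc_a_rc_5_2 lc_a_rc_4_2 lc_a_rc_4_2 lc_a_rc_4_0 lc_a_rc_5_2 lc_a_rc_2_2 lc_a_rc_3_2 lc_a_rc_4_2 lc_a_rc_3_2 lc_a_rc_3_0 lc_a_rc_5_0 lc_a_rc_2_2 lc_a_rc_5_2 lc_a_rc_5_0 lc_a_rc_0_1 lc_a_rc_3_2 lc_a_rc_4_2 lc_a_rc_3_0 lc_a_rc_21_0 lc_a_rc_4_2 lc_a_rc_3_2 lc_a_rc_0_1 lc_a_rc_2_2 lc_a_rc_3_2 lc_a_rc_4_2 lc_a_rc_0_1 lc_a_rc_4_2 lc_a_rc_22_0 lc_a_rc_3_2 lc_a_rc_21_0 lc_a_Cert_tree lc_a_rc_3_2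 lc_a_rc_4_2 lc_a_Cert_tree lc_a_rc_21_0 lc_a_rc_4_2 lc_a_rc_5_0 lc_a_rc_2_2 lc_a_Cert_tree) (@D3.rec (fun _ => (Cert rels S Gen.a)) lc_a_rc_2_0 lc_a_rc_2_2 lc_a_rc_4_2 lc_a_rc_4_2 lc_a_rc_4_0 lc_a_rc_5_0 lc_a_rc_2_2 lc_a_rc_2_2 lc_a_rc_0_1 lc_a_rc_0_1 lc_a_rc_3_2 lc_a_rc_2_0 lc_a_rc_3_2 lc_a_rc_5_0 lc_a_rc_3_2 lc_a_rc_4_2 lc_a_rc_4_2 lc_a_rc_3_2 lc_a_rc_0_1 lc_a_Cert_tree lc_a_rc_21_0 lc_a_rc_5_0 lc_a_rc_0_1 lc_a_rc_3_2 lc_a_rc_4_2 lc_a_rc_2_2 lc_a_rc_4_2 lc_a_rc_5_2 lc_a_rc_3_2 lc_a_rc_21_0 lc_a_Cert_tree lc_a_rc_3_2 lc_a_rc_21_0 lc_a_rc_3_2 lc_a_rc_0_1 lc_a_rc_3_2 lc_a_rc_4_2 lc_a_Cert_tree lc_a_rc_3_0 lc_a_rc_2_2 lc_a_rc_4_2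 lc_a_rc_5_2 lc_a_rc_0_1 lc_a_rc_5_2 lc_a_rc_21_0 lc_a_rc_4_2 lc_a_rc_21_0 lc_a_rc_21_0 lc_a_rc_1_4 lc_a_rc_4_2 lc_a_rc_1_4 lc_a_rc_2_2 lc_a_rc_3_2 lc_a_rc_21_0 lc_a_rc_4_2 lc_a_rc_1_2 lc_a_rc_4_2 lc_a_rc_4_2 lc_a_rc_0_1 lc_a_rc_21_0 lc_a_rc_3_2 lc_a_rc_5_2) (@D3.rec (fun _ => (Cert rels S Gen.a)) lc_a_rc_22_0 lc_a_Cert_tree lc_a_rc_2_2 lc_a_rc_5_2 lc_a_rc_2_2 lc_a_rc_4_2 lc_a_rc_4_2 lc_a_rc_21_0 lc_a_rc_1_4 lc_a_rc_22_0 lc_a_rc_0_1 lc_a_rc_2_2 lc_a_rc_3_2 lc_a_rc_0_1 lc_a_rc_3_2 lc_a_rc_0_1 lc_a_rc_3_2 lc_a_rc_0_1 lc_a_rc_3_0 lc_a_rc_3_0 lc_a_rc_4_2 lc_a_rc_5_2 lc_a_rc_0_1 lc_a_rc_0_1 lc_a_rc_3_2 lc_a_rc_4_2 lc_a_rc_3_2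 lc_a_rc_2_2 lc_a_rc_0_1 lc_a_rc_3_2 lc_a_rc_4_2 lc_a_rc_4_2 lc_a_rc_21_0 lc_a_Cert_tree lc_a_rc_3_0 lc_a_rc_4_2 lc_a_Cert_tree lc_a_rc_3_0 lc_a_rc_3_2 lc_a_rc_3_0 lc_a_rc_3_0 lc_a_Cert_tree lc_a_rc_4_0 lc_a_rc_5_2 lc_a_rc_0_1 lc_a_rc_3_2 lc_a_rc_4_2 lc_a_rc_4_2 lc_a_rc_4_2 lc_a_rc_21_0 lc_a_rc_2_0 lc_a_rc_0_1 lc_a_rc_3_2 lc_a_rc_4_2 lc_a_rc_4_2 lc_a_rc_2_2 lc_a_rc_21_0 lc_a_rc_3_0 lc_a_rc_3_0 lc_a_rc_3_2 lc_a_rc_21_0 lc_a_rc_5_2) (@D3.rec (fun _ => (Cert rels S Gen.a)) lc_a_rc_21_0 lc_a_rc_2_2 lc_a_rc_4_2 lc_a_rc_3_0 lc_a_rc_3_0 lc_a_rc_2_2 lc_a_rc_2_2 lc_a_rc_2_2 lc_a_rc_4_2 lc_a_rc_21_0 lc_a_rc_0_1 lc_a_rc_2_2 lc_a_rc_4_2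 lc_a_Cert_tree lc_a_rc_22_0 lc_a_rc_4_2 lc_a_rc_3_2 lc_a_rc_21_0 lc_a_rc_4_2 lc_a_rc_1_2 lc_a_rc_3_2 lc_a_rc_4_2 lc_a_rc_3_2 lc_a_rc_4_2 lc_a_rc_4_2 lc_a_rc_4_2 lc_a_rc_5_0 lc_a_rc_3_2 lc_a_rc_5_2 lc_a_rc_21_0 lc_a_rc_4_2 lc_a_rc_2_0 lc_a_rc_2_2 lc_a_rc_4_2 lc_a_rc_2_0 lc_a_Cert_tree lc_a_rc_3_2 lc_a_rc_4_2 lc_a_rc_21_0 lc_a_rc_3_2 lc_a_rc_5_0 lc_a_rc_3_2 lc_a_rc_2_2 lc_a_rc_5_2 lc_a_rc_1_4 lc_a_rc_3_2 lc_a_rc_1_2 lc_a_rc_2_2 lc_a_rc_21_0 lc_a_Cert_tree lc_a_rc_3_2 lc_a_Cert_tree lc_a_rc_4_2 lc_a_rc_4_0 lc_a_rc_2_2 lc_a_rc_0_1 lc_a_rc_5_0 lc_a_rc_3_2 lc_a_rc_3_0 lc_a_rc_3_2 lc_a_rc_4_2 lc_a_rc_3_2) (@D3.rec (fun _ =>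 (Cert rels S Gen.a)) lc_a_rc_21_0 lc_a_rc_0_1 lc_a_rc_1_2 lc_a_rc_4_2 lc_a_rc_3_2 lc_a_rc_5_2 lc_a_rc_3_2 lc_a_rc_4_2 lc_a_rc_3_2 lc_a_rc_4_2 lc_a_rc_3_0 lc_a_rc_4_2 lc_a_rc_0_1 lc_a_rc_3_2 lc_a_rc_4_2 lc_a_rc_2_2 lc_a_rc_4_2 lc_a_rc_5_2 lc_a_rc_3_2 lc_a_rc_2_0 lc_a_rc_2_2 lc_a_rc_3_2 lc_a_rc_2_2 lc_a_rc_1_2 lc_a_rc_0_1 lc_a_rc_4_2 lc_a_rc_3_2 lc_a_rc_4_2 lc_a_rc_1_4 lc_a_rc_21_0 lc_a_rc_3_2 lc_a_rc_1_4 lc_a_rc_21_0 lc_a_rc_0_1 lc_a_rc_3_2 lc_a_rc_5_2 lc_a_Cert_tree lc_a_rc_3_2 lc_a_rc_5_0 lc_a_rc_3_2 lc_a_rc_2_2 lc_a_rc_5_2 lc_a_rc_21_0 lc_a_rc_0_1 lc_a_rc_21_0 lc_a_rc_3_2 lc_a_rc_4_2 lc_a_rc_3_2 lc_a_rc_4_2 lc_a_rc_1_4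 lc_a_rc_4_2 lc_a_rc_4_2 lc_a_rc_21_0 lc_a_rc_2_2 lc_a_rc_22_0 lc_a_Cert_tree lc_a_rc_4_2 lc_a_rc_3_2 lc_a_rc_4_2 lc_a_rc_2_2 lc_a_rc_2_2 lc_a_rc_3_2) (@D3.rec (fun _ => (Cert rels S Gen.a)) lc_a_rc_5_2 lc_a_Cert_tree lc_a_rc_5_0 lc_a_rc_4_2 lc_a_Cert_tree lc_a_rc_3_2 lc_a_rc_3_2 lc_a_rc_3_2 lc_a_rc_2_2 lc_a_rc_3_2 lc_a_rc_3_2 lc_a_rc_4_2 lc_a_rc_3_2 lc_a_rc_22_0 lc_a_rc_4_2 lc_a_rc_3_2 lc_a_rc_4_2 lc_a_rc_0_1 lc_a_rc_3_2 lc_a_rc_4_2 lc_a_rc_5_2 lc_a_rc_3_2 lc_a_rc_5_2 lc_a_rc_2_0 lc_a_rc_2_2 lc_a_rc_3_2 lc_a_rc_5_2 lc_a_rc_21_0 lc_a_rc_3_2 lc_a_rc_2_2 lc_a_Cert_tree lc_a_rc_3_2 lc_a_rc_4_2 lc_a_rc_5_0 lc_a_rc_3_2 lc_a_rc_2_2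 lc_a_rc_5_2 lc_a_rc_1_4 lc_a_rc_3_2 lc_a_rc_2_2 lc_a_rc_2_2 lc_a_rc_4_2 lc_a_rc_21_0 lc_a_rc_2_2 lc_a_rc_2_2 lc_a_rc_4_2 lc_a_rc_3_2 lc_a_rc_4_2 lc_a_rc_21_0 lc_a_rc_0_1 lc_a_rc_2_2 lc_a_rc_4_2 lc_a_rc_1_4 lc_a_rc_1_2 lc_a_rc_3_2 lc_a_rc_2_2 lc_a_rc_2_2 lc_a_rc_3_2 lc_a_rc_5_2 lc_a_rc_0_1 lc_a_rc_2_2 lc_a_rc_0_1) (@D3.rec (fun _ => (Cert rels S Gen.a)) lc_a_rc_4_2 lc_a_rc_2_0 lc_a_rc_4_2 lc_a_rc_3_2 lc_a_rc_4_2 lc_a_rc_2_0 lc_a_rc_3_2 lc_a_rc_4_2 lc_a_rc_21_0 lc_a_rc_0_1 lc_a_rc_3_2 lc_a_rc_5_2 lc_a_rc_4_2 lc_a_rc_4_2 lc_a_rc_3_2 lc_a_rc_5_2 lc_a_rc_1_4 lc_a_rc_2_2 lc_a_rc_5_2 lc_a_rc_0_1 lc_a_rc_2_2 lc_a_rc_2_0 lc_a_rc_2_0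 lc_a_rc_4_2 lc_a_rc_0_1 lc_a_rc_4_2 lc_a_rc_21_0 lc_a_rc_2_2 lc_a_rc_3_2 lc_a_rc_5_2 lc_a_rc_21_0 lc_a_rc_0_1 lc_a_rc_0_1 lc_a_rc_4_2 lc_a_rc_5_0 lc_a_Cert_tree lc_a_rc_5_2 lc_a_Cert_tree lc_a_rc_2_2 lc_a_rc_0_1 lc_a_rc_4_2 lc_a_Cert_tree lc_a_rc_2_2 lc_a_rc_21_0 lc_a_rc_4_2 lc_a_rc_3_2 lc_a_rc_4_2 lc_a_rc_2_2 lc_a_rc_5_2 lc_a_rc_0_1 lc_a_rc_0_1 lc_a_rc_1_4 lc_a_rc_1_4 lc_a_rc_3_0 lc_a_rc_3_0 lc_a_rc_4_2 lc_a_rc_0_1 lc_a_rc_21_0 lc_a_rc_0_1 lc_a_rc_5_0 lc_a_rc_4_2 lc_a_rc_2_2) (@D3.rec (fun _ => (Cert rels S Gen.a)) lc_a_rc_4_2 lc_a_rc_3_2 lc_a_Cert_tree lc_a_rc_5_0 lc_a_rc_4_2 lc_a_Cert_tree lc_a_rc_2_2 lc_a_rc_3_2 lc_a_rc_21_0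 lc_a_rc_2_2 lc_a_Cert_tree lc_a_rc_2_0 lc_a_rc_2_2 lc_a_rc_4_2 lc_a_Cert_tree lc_a_rc_3_2 lc_a_rc_0_1 lc_a_rc_0_1 lc_a_rc_3_2 lc_a_rc_4_2 lc_a_rc_0_1 lc_a_rc_22_0 lc_a_rc_2_2 lc_a_rc_4_2 lc_a_rc_22_0 lc_a_rc_3_2 lc_a_rc_4_0 lc_a_Cert_tree lc_a_rc_22_0 lc_a_rc_2_2 lc_a_rc_2_2 lc_a_rc_3_2 lc_a_rc_4_2 lc_a_rc_5_0 lc_a_rc_0_1 lc_a_rc_3_2 lc_a_rc_4_2 lc_a_rc_21_0 lc_a_rc_4_2 lc_a_rc_21_0 lc_a_rc_3_2 lc_a_rc_5_0 lc_a_rc_3_2 lc_a_rc_3_2 lc_a_rc_0_1 lc_a_rc_2_2 lc_a_rc_4_2 lc_a_rc_0_1 lc_a_rc_4_2 lc_a_rc_0_1 lc_a_rc_0_1 lc_a_rc_21_0 lc_a_rc_2_2 lc_a_rc_4_2 lc_a_rc_0_1 lc_a_rc_4_2 lc_a_rc_5_2 lc_a_rc_2_2 lc_a_rc_0_1 lc_a_rc_3_2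 lc_a_rc_4_2 lc_a_rc_0_1) (@D3.rec (fun _ => (Cert rels S Gen.a)) lc_a_rc_21_0 lc_a_rc_0_1 lc_a_rc_4_2 lc_a_rc_3_2 lc_a_rc_4_2 lc_a_rc_3_2 lc_a_rc_21_0 lc_a_rc_4_2 lc_a_rc_1_2 lc_a_rc_4_2 lc_a_rc_3_2 lc_a_rc_4_2 lc_a_rc_3_2 lc_a_rc_0_1 lc_a_rc_4_2 lc_a_rc_4_2 lc_a_rc_5_0 lc_a_rc_3_2 lc_a_Cert_tree lc_a_rc_4_2 lc_a_rc_4_2 lc_a_rc_21_0 lc_a_rc_4_2 lc_a_rc_2_2 lc_a_rc_21_0 lc_a_rc_3_2 lc_a_rc_5_2 lc_a_Cert_tree lc_a_rc_3_2 lc_a_Cert_tree lc_a_rc_3_2 lc_a_rc_2_2 lc_a_rc_3_2 lc_a_rc_2_2 lc_a_rc_4_2 lc_a_rc_0_1 lc_a_rc_2_2 lc_a_Cert_tree lc_a_rc_3_2 lc_a_rc_3_2 lc_a_rc_2_2 lc_a_rc_0_1 lc_a_rc_2_2 lc_a_rc_2_2 lc_a_rc_4_2 lc_a_rc_4_2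 lc_a_rc_21_0 lc_a_Cert_tree lc_a_rc_2_2 lc_a_rc_4_2 lc_a_rc_3_2 lc_a_rc_4_2 lc_a_rc_0_1 lc_a_rc_2_2 lc_a_rc_4_2 lc_a_rc_0_1 lc_a_rc_2_0 lc_a_rc_5_2 lc_a_rc_2_0 lc_a_rc_2_0 lc_a_rc_4_2 lc_a_rc_21_0) (@D3.rec (fun _ => (Cert rels S Gen.a)) lc_a_rc_3_2 lc_a_rc_4_2 lc_a_Cert_tree lc_a_rc_3_2 lc_a_rc_5_0 lc_a_rc_3_2 lc_a_rc_5_2 lc_a_rc_1_4 lc_a_rc_3_2 lc_a_rc_0_1 lc_a_rc_2_0 lc_a_Cert_tree lc_a_rc_3_2 lc_a_rc_2_2 lc_a_rc_4_2 lc_a_rc_1_4 lc_a_rc_3_2 lc_a_Cert_tree lc_a_rc_0_1 lc_a_Cert_tree lc_a_rc_3_2 lc_a_rc_0_1 lc_a_rc_5_0 lc_a_rc_0_1 lc_a_rc_3_2 lc_a_rc_2_2 lc_a_rc_4_2 lc_a_rc_2_2 lc_a_rc_2_2 lc_a_rc_0_1 lc_a_rc_2_2 lc_a_rc_1_4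 lc_a_rc_4_2 lc_a_rc_0_1 lc_a_rc_4_2 lc_a_rc_1_2 lc_a_rc_2_2 lc_a_rc_3_2 lc_a_rc_21_0 lc_a_rc_0_1 lc_a_rc_3_2 lc_a_rc_5_2 lc_a_rc_0_1 lc_a_rc_0_1 lc_a_rc_5_0 lc_a_rc_21_0 lc_a_rc_4_2 lc_a_rc_2_2 lc_a_rc_1_0 lc_a_rc_0_1 lc_a_rc_0_1 lc_a_rc_0_1 lc_a_rc_4_2 lc_a_rc_3_2 lc_a_rc_3_0 lc_a_rc_4_2 lc_a_rc_5_2 lc_a_Cert_tree lc_a_rc_3_2 lc_a_rc_0_1 lc_a_rc_2_0 lc_a_rc_1_4) (@D3.rec (fun _ => (Cert rels S Gen.a)) lc_a_rc_4_2 lc_a_rc_2_2 lc_a_rc_5_2 lc_a_rc_5_2 lc_a_rc_4_0 lc_a_rc_4_2 lc_a_rc_4_2 lc_a_rc_5_2 lc_a_rc_21_0 lc_a_rc_0_1 lc_a_rc_0_1 lc_a_rc_1_2 lc_a_rc_4_2 lc_a_rc_21_0 lc_a_rc_0_1 lc_a_rc_2_0 lc_a_rc_2_2 lc_a_rc_0_1 lc_a_rc_3_0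 lc_a_rc_2_2 lc_a_rc_0_1 lc_a_rc_4_2 lc_a_rc_5_2 lc_a_rc_3_2 lc_a_rc_0_1 lc_a_rc_0_1 lc_a_rc_2_2 lc_a_rc_3_2 lc_a_rc_21_0 lc_a_rc_1_4 lc_a_rc_5_0 lc_a_rc_0_1 lc_a_rc_3_2 lc_a_rc_5_2 lc_a_rc_0_1 lc_a_rc_2_2 lc_a_rc_2_2 lc_a_rc_0_1 lc_a_rc_4_2 lc_a_rc_3_2 lc_a_rc_3_2 lc_a_rc_4_2 lc_a_rc_1_4 lc_a_rc_4_2 lc_a_rc_3_2 lc_a_rc_4_2 lc_a_rc_4_2 lc_a_rc_21_0 lc_a_rc_0_1 lc_a_rc_3_2 lc_a_rc_5_2 lc_a_rc_4_0 lc_a_rc_21_0 lc_a_rc_3_2 lc_a_rc_5_2 lc_a_Cert_tree lc_a_rc_3_2 lc_a_rc_2_2 lc_a_rc_21_0 lc_a_rc_5_0 lc_a_rc_21_0 lc_a_rc_5_0) (@D3.rec (fun _ => (Cert rels S Gen.a)) lc_a_rc_3_2 lc_a_rc_2_2 lc_a_rc_5_2 lc_a_rc_1_4 lc_a_rc_3_2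 lc_a_rc_2_2 lc_a_rc_1_0 lc_a_rc_3_0 lc_a_rc_3_2 lc_a_rc_4_2 lc_a_rc_3_2 lc_a_rc_4_2 lc_a_rc_4_2 lc_a_rc_0_1 lc_a_rc_3_2 lc_a_rc_2_2 lc_a_rc_2_2 lc_a_rc_3_2 lc_a_rc_5_2 lc_a_rc_5_0 lc_a_rc_4_2 lc_a_Cert_tree lc_a_rc_3_2 lc_a_rc_2_2 lc_a_rc_3_2 lc_a_rc_3_2 lc_a_rc_2_2 lc_a_rc_2_2 lc_a_rc_2_2 lc_a_rc_4_2 lc_a_rc_21_0 lc_a_rc_2_2 lc_a_rc_4_2 lc_a_rc_3_2 lc_a_rc_4_2 lc_a_rc_21_0 lc_a_rc_0_1 lc_a_rc_2_2 lc_a_rc_4_2 lc_a_rc_21_0 lc_a_rc_3_2 lc_a_rc_3_2 lc_a_rc_5_2 lc_a_rc_4_2 lc_a_rc_4_2 lc_a_rc_3_2 lc_a_rc_5_2 lc_a_rc_21_0 lc_a_rc_1_2 lc_a_rc_2_2 lc_a_rc_5_2 lc_a_rc_0_1 lc_a_rc_4_2 lc_a_rc_4_2 lc_a_rc_4_2 lc_a_rc_3_2 lc_a_rc_2_2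 lc_a_rc_3_2 lc_a_rc_2_2 lc_a_rc_2_2 lc_a_rc_3_2 lc_a_rc_5_2) (@D3.rec (fun _ => (Cert rels S Gen.a)) lc_a_rc_3_0 lc_a_rc_2_2 lc_a_rc_0_1 lc_a_rc_2_2 lc_a_rc_4_2 lc_a_rc_2_2 lc_a_rc_2_0 lc_a_rc_4_2 lc_a_rc_5_2 lc_a_rc_0_1 lc_a_rc_4_2 lc_a_rc_4_2 lc_a_rc_5_2 lc_a_rc_3_2 lc_a_rc_5_2 lc_a_rc_21_0 lc_a_rc_0_1 lc_a_rc_4_0 lc_a_rc_5_2 lc_a_Cert_tree lc_a_rc_2_2 lc_a_rc_3_2 lc_a_rc_4_2 lc_a_Cert_tree lc_a_rc_2_2 lc_a_rc_3_2 lc_a_rc_4_2 lc_a_rc_5_0 lc_a_rc_1_4 lc_a_rc_4_2 lc_a_rc_5_2 lc_a_rc_5_2 lc_a_rc_0_1 lc_a_rc_3_2 lc_a_rc_4_2 lc_a_rc_3_0 lc_a_rc_3_2 lc_a_rc_21_0 lc_a_rc_2_2 lc_a_rc_0_1 lc_a_rc_3_2 lc_a_rc_4_2 lc_a_rc_3_0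 lc_a_rc_3_2 lc_a_Cert_tree lc_a_rc_2_2 lc_a_rc_3_2 lc_a_Cert_tree lc_a_rc_2_2 lc_a_rc_4_2 lc_a_rc_0_1 lc_a_rc_3_0 lc_a_Cert_tree lc_a_Cert_tree lc_a_rc_2_2 lc_a_rc_5_2 lc_a_rc_0_1 lc_a_rc_3_2 lc_a_rc_4_2 lc_a_rc_3_0 lc_a_rc_3_0 lc_a_rc_3_0) (@D3.rec (fun _ => (Cert rels S Gen.a)) lc_a_rc_4_2 lc_a_rc_2_2 lc_a_rc_21_0 lc_a_rc_21_0 lc_a_rc_0_1 lc_a_rc_3_2 lc_a_rc_4_2 lc_a_rc_3_0 lc_a_rc_4_2 lc_a_rc_5_0 lc_a_rc_21_0 lc_a_rc_2_2 lc_a_rc_3_2 lc_a_rc_3_2 lc_a_rc_4_2 lc_a_rc_1_2 lc_a_rc_3_2 lc_a_rc_4_2 lc_a_rc_21_0 lc_a_rc_2_2 lc_a_rc_3_2 lc_a_rc_5_2 lc_a_Cert_tree lc_a_rc_3_2 lc_a_rc_5_0 lc_a_rc_2_2 lc_a_rc_5_2 lc_a_rc_1_2 lc_a_rc_3_2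 lc_a_rc_1_4 lc_a_rc_3_2 lc_a_rc_3_0 lc_a_rc_0_1 lc_a_rc_3_2 lc_a_rc_4_2 lc_a_rc_0_1 lc_a_rc_2_2 lc_a_rc_2_2 lc_a_rc_0_1 lc_a_rc_1_2 lc_a_rc_1_2 lc_a_rc_3_2 lc_a_rc_2_0 lc_a_rc_21_0 lc_a_rc_4_2 lc_a_rc_4_2 lc_a_rc_4_2 lc_a_rc_4_2 lc_a_rc_5_0 lc_a_rc_3_2 lc_a_rc_21_0 lc_a_rc_0_1 lc_a_rc_3_2 lc_a_rc_5_2 lc_a_rc_2_2 lc_a_rc_4_0 lc_a_rc_4_2 lc_a_rc_0_1 lc_a_rc_1_2 lc_a_rc_4_2 lc_a_rc_4_2 lc_a_rc_3_2) (@D3.rec (fun _ => (Cert rels S Gen.a)) lc_a_rc_2_2 lc_a_Cert_tree lc_a_rc_3_2 lc_a_rc_0_1 lc_a_rc_21_0 lc_a_rc_0_1 lc_a_rc_3_2 lc_a_rc_4_2 lc_a_rc_4_2 lc_a_rc_3_2 lc_a_rc_0_1 lc_a_rc_3_2 lc_a_rc_4_2 lc_a_rc_0_1 lc_a_rc_4_2 lc_a_rc_4_2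 lc_a_rc_3_2 lc_a_rc_5_0 lc_a_rc_0_1 lc_a_rc_4_2 lc_a_rc_1_0 lc_a_rc_1_0 lc_a_rc_0_1 lc_a_rc_5_0 lc_a_rc_3_2 lc_a_rc_21_0 lc_a_rc_3_2 lc_a_rc_0_1 lc_a_rc_4_2 lc_a_rc_2_2 lc_a_rc_0_1 lc_a_rc_3_2 lc_a_rc_5_2 lc_a_rc_4_2 lc_a_rc_5_0 lc_a_rc_2_2 lc_a_rc_3_2 lc_a_rc_21_0 lc_a_rc_4_2 lc_a_Cert_tree lc_a_rc_2_2 lc_a_rc_4_2 lc_a_rc_4_2 lc_a_rc_2_2 lc_a_rc_1_4 lc_a_rc_1_4 lc_a_rc_0_1 lc_a_rc_4_0 lc_a_rc_22_0 lc_a_rc_5_2 lc_a_Cert_tree lc_a_rc_21_0 lc_a_rc_4_2 lc_a_rc_1_0 lc_a_rc_3_2 lc_a_rc_0_1 lc_a_rc_0_1 lc_a_rc_21_0 lc_a_rc_4_2 lc_a_rc_3_2 lc_a_rc_4_2 lc_a_rc_2_2) (@D3.rec (fun _ => (Cert rels S Gen.a)) lc_a_rc_21_0 lc_a_rc_1_2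 lc_a_rc_1_2 lc_a_rc_5_0 lc_a_rc_2_2 lc_a_rc_3_2 lc_a_rc_2_0 lc_a_rc_3_2 lc_a_rc_5_2 lc_a_rc_3_2 lc_a_rc_2_2 lc_a_rc_4_2 lc_a_rc_4_2 lc_a_rc_2_2 lc_a_rc_4_2 lc_a_rc_21_0 lc_a_rc_0_1 lc_a_rc_3_2 lc_a_rc_5_2 lc_a_rc_4_2 lc_a_rc_5_0 lc_a_rc_3_2 lc_a_rc_5_2 lc_a_Cert_tree lc_a_rc_2_2 lc_a_rc_5_2 lc_a_rc_21_0 lc_a_rc_0_1 lc_a_rc_4_2 lc_a_rc_0_1 lc_a_rc_3_2 lc_a_rc_5_2 lc_a_rc_5_0 lc_a_Cert_tree lc_a_rc_3_2 lc_a_rc_5_2 lc_a_rc_0_1 lc_a_rc_3_2 lc_a_rc_4_2 lc_a_Cert_tree lc_a_rc_4_2 lc_a_rc_4_2 lc_a_rc_3_2 lc_a_rc_3_2 lc_a_rc_2_2 lc_a_rc_0_1 lc_a_rc_2_2 lc_a_rc_4_2 lc_a_rc_4_2 lc_a_rc_21_0 lc_a_rc_0_1 lc_a_rc_2_2 lc_a_rc_4_2 lc_a_rc_1_2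 lc_a_rc_4_2 lc_a_rc_4_2 lc_a_rc_5_2 lc_a_Cert_tree lc_a_rc_4_2 lc_a_rc_3_2 lc_a_rc_0_1 lc_a_Cert_tree) (@D3.rec (fun _ => (Cert rels S Gen.a)) lc_a_rc_4_2 lc_a_rc_3_2 lc_a_rc_2_2 lc_a_rc_21_0 lc_a_rc_3_2 lc_a_rc_2_2 lc_a_rc_5_2 lc_a_rc_0_1 lc_a_rc_0_1 lc_a_rc_3_2 lc_a_rc_4_2 lc_a_rc_0_1 lc_a_rc_3_2 lc_a_rc_4_2 lc_a_rc_2_2 lc_a_rc_0_1 lc_a_rc_3_2 lc_a_rc_4_2 lc_a_rc_2_2 lc_a_rc_4_2 lc_a_rc_3_2 lc_a_Cert_tree lc_a_rc_5_0 lc_a_rc_5_0 lc_a_rc_4_2 lc_a_rc_3_0 lc_a_rc_2_2 lc_a_rc_4_2 lc_a_rc_3_2 lc_a_rc_5_0 lc_a_rc_3_0 lc_a_rc_4_0 lc_a_rc_22_0 lc_a_rc_22_0 lc_a_rc_2_2 lc_a_rc_3_2 lc_a_rc_4_2 lc_a_rc_2_2 lc_a_rc_4_2 lc_a_rc_4_2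 lc_a_rc_1_4 lc_a_rc_21_0 lc_a_rc_3_0 lc_a_rc_4_2 lc_a_rc_2_0 lc_a_rc_4_2 lc_a_rc_0_1 lc_a_rc_22_0 lc_a_rc_2_2 lc_a_rc_21_0 lc_a_rc_3_2 lc_a_rc_3_2 lc_a_rc_3_0 lc_a_rc_4_2 lc_a_rc_0_1 lc_a_rc_1_0 lc_a_rc_3_2 lc_a_rc_1_4 lc_a_rc_4_2 lc_a_rc_2_2 lc_a_rc_4_2 lc_a_rc_0_1) (@D3.rec (fun _ => (Cert rels S Gen.a)) lc_a_rc_3_2 lc_a_rc_5_2 lc_a_rc_3_2 lc_a_rc_3_2 lc_a_rc_1_4 lc_a_rc_2_2 lc_a_rc_4_2 lc_a_rc_21_0 lc_a_rc_4_2 lc_a_rc_4_0 lc_a_rc_21_0 lc_a_rc_4_2 lc_a_rc_1_2 lc_a_rc_0_1 lc_a_rc_3_2 lc_a_rc_0_1 lc_a_rc_3_2 lc_a_rc_21_0 lc_a_rc_3_2 lc_a_rc_21_0 lc_a_rc_2_2 lc_a_Cert_tree lc_a_rc_1_2 lc_a_rc_3_2 lc_a_rc_4_2 lc_a_Cert_tree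 lc_a_rc_1_2 lc_a_rc_3_2 lc_a_rc_4_2 lc_a_rc_5_0 lc_a_rc_3_2 lc_a_rc_3_2 lc_a_rc_0_1 lc_a_rc_3_2 lc_a_rc_4_2 lc_a_rc_4_2 lc_a_rc_21_0 lc_a_rc_0_1 lc_a_rc_3_2 lc_a_rc_4_2 lc_a_rc_3_2 lc_a_Cert_tree lc_a_rc_4_2 lc_a_Cert_tree lc_a_rc_4_2 lc_a_rc_1_2 lc_a_rc_4_2 lc_a_rc_0_1 lc_a_rc_4_2 lc_a_rc_3_2 lc_a_rc_4_2 lc_a_rc_4_2 lc_a_rc_2_2 lc_a_rc_4_2 lc_a_rc_0_1 lc_a_rc_2_2 lc_a_rc_5_2 lc_a_rc_0_1 lc_a_rc_1_4 lc_a_rc_3_2 lc_a_rc_5_2 lc_a_rc_5_0) (@D3.rec (fun _ => (Cert rels S Gen.a)) lc_a_rc_3_2 lc_a_rc_21_0 lc_a_rc_0_1 lc_a_rc_2_2 lc_a_rc_1_4 lc_a_rc_3_2 lc_a_rc_2_2 lc_a_rc_0_1 lc_a_rc_5_2 lc_a_rc_5_0 lc_a_rc_5_0 lc_a_rc_4_2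 lc_a_rc_3_2 lc_a_rc_5_2 lc_a_Cert_tree lc_a_rc_3_2 lc_a_rc_5_0 lc_a_rc_3_2 lc_a_rc_0_1 lc_a_rc_3_2 lc_a_rc_2_2 lc_a_rc_3_2 lc_a_rc_4_2 lc_a_rc_4_2 lc_a_rc_4_2 lc_a_rc_2_2 lc_a_rc_2_2 lc_a_rc_3_2 lc_a_rc_5_2 lc_a_rc_5_0 lc_a_rc_4_2 lc_a_rc_3_2 lc_a_rc_5_2 lc_a_rc_2_2 lc_a_rc_2_2 lc_a_rc_4_2 lc_a_rc_2_2 lc_a_rc_2_2 lc_a_rc_4_2 lc_a_rc_4_2 lc_a_rc_5_0 lc_a_rc_4_2 lc_a_rc_0_1 lc_a_rc_21_0 lc_a_rc_3_2 lc_a_rc_4_2 lc_a_rc_0_1 lc_a_rc_3_2 lc_a_rc_5_2 lc_a_rc_0_1 lc_a_rc_2_2 lc_a_rc_2_2 lc_a_rc_0_1 lc_a_rc_3_2 lc_a_rc_4_2 lc_a_rc_4_2 lc_a_rc_4_2 lc_a_rc_3_2 lc_a_rc_21_0 lc_a_rc_0_1 lc_a_rc_3_2 lc_a_rc_4_2) (@D3.rec (fun _ =>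 (Cert rels S Gen.a)) lc_a_rc_4_2 lc_a_rc_4_2 lc_a_rc_3_2 lc_a_rc_2_2 lc_a_rc_2_2 lc_a_rc_4_2 lc_a_rc_1_4 lc_a_rc_1_4 lc_a_rc_3_2 lc_a_rc_5_2 lc_a_rc_3_2 lc_a_rc_0_1 lc_a_rc_4_2 lc_a_rc_3_2 lc_a_rc_21_0 lc_a_rc_4_2 lc_a_rc_2_2 lc_a_rc_3_0 lc_a_rc_3_2 lc_a_rc_4_2 lc_a_rc_4_2 lc_a_rc_4_2 lc_a_rc_3_2 lc_a_rc_5_2 lc_a_Cert_tree lc_a_rc_1_4 lc_a_rc_2_0 lc_a_rc_4_2 lc_a_Cert_tree lc_a_rc_3_0 lc_a_rc_21_0 lc_a_rc_3_2 lc_a_rc_21_0 lc_a_rc_2_2 lc_a_rc_5_2 lc_a_rc_3_0 lc_a_rc_4_2 lc_a_rc_3_2 lc_a_rc_3_2 lc_a_Cert_tree lc_a_rc_5_0 lc_a_rc_5_0 lc_a_rc_21_0 lc_a_rc_21_0 lc_a_rc_3_2 lc_a_rc_2_2 lc_a_rc_5_2 lc_a_rc_21_0 lc_a_rc_0_1 lc_a_rc_4_2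 lc_a_rc_3_2 lc_a_rc_2_2 lc_a_rc_4_2 lc_a_rc_2_2 lc_a_rc_0_1 lc_a_rc_1_4 lc_a_rc_4_2 lc_a_rc_3_2 lc_a_rc_22_0 lc_a_rc_21_0 lc_a_rc_4_2 lc_a_rc_5_2) (@D3.rec (fun _ => (Cert rels S Gen.a)) lc_a_rc_0_1 lc_a_rc_4_2 lc_a_rc_2_2 lc_a_rc_3_2 lc_a_Cert_tree lc_a_rc_4_2 lc_a_rc_0_1 lc_a_Cert_tree lc_a_rc_3_2 lc_a_rc_0_1 lc_a_rc_0_1 lc_a_rc_3_2 lc_a_rc_3_2 lc_a_rc_3_2 lc_a_rc_2_2 lc_a_rc_4_2 lc_a_Cert_tree lc_a_rc_2_2 lc_a_rc_0_1 lc_a_rc_3_2 lc_a_rc_4_2 lc_a_rc_2_2 lc_a_rc_4_2 lc_a_rc_3_2 lc_a_rc_4_2 lc_a_rc_4_2 lc_a_rc_21_0 lc_a_rc_2_2 lc_a_rc_3_2 lc_a_rc_4_2 lc_a_rc_5_0 lc_a_rc_3_2 lc_a_rc_5_2 lc_a_rc_0_1 lc_a_rc_22_0 lc_a_rc_2_2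 lc_a_rc_3_0 lc_a_rc_3_2 lc_a_rc_4_2 lc_a_rc_3_0 lc_a_rc_2_0 lc_a_rc_21_0 lc_a_rc_0_1 lc_a_rc_4_2 lc_a_rc_21_0 lc_a_rc_4_2 lc_a_rc_4_2 lc_a_rc_1_4 lc_a_rc_21_0 lc_a_rc_3_2 lc_a_rc_5_2 lc_a_rc_0_1 lc_a_rc_2_2 lc_a_rc_5_2 lc_a_rc_3_2 lc_a_rc_4_2 lc_a_rc_4_2 lc_a_rc_21_0 lc_a_rc_0_1 lc_a_rc_3_2 lc_a_rc_5_0 lc_a_rc_0_1) (@D3.rec (fun _ => (Cert rels S Gen.a)) lc_a_rc_4_2 lc_a_rc_4_0 lc_a_rc_2_2 lc_a_rc_5_2 lc_a_rc_0_1 lc_a_rc_3_2 lc_a_rc_5_2 lc_a_rc_21_0 lc_a_rc_21_0 lc_a_rc_3_2 lc_a_rc_4_2 lc_a_Cert_tree lc_a_rc_1_4 lc_a_rc_3_2 lc_a_rc_4_2 lc_a_rc_0_1 lc_a_rc_2_2 lc_a_rc_4_2 lc_a_rc_4_2 lc_a_rc_5_0 lc_a_rc_3_2 lc_a_rc_5_2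 lc_a_rc_2_2 lc_a_rc_4_2 lc_a_rc_3_2 lc_a_rc_5_2 lc_a_Cert_tree lc_a_rc_21_0 lc_a_rc_22_0 lc_a_rc_4_2 lc_a_Cert_tree lc_a_rc_2_2 lc_a_rc_3_2 lc_a_rc_4_2 lc_a_rc_1_4 lc_a_rc_21_0 lc_a_rc_2_2 lc_a_rc_5_2 lc_a_rc_0_1 lc_a_rc_0_1 lc_a_rc_3_2 lc_a_rc_5_2 lc_a_rc_4_2 lc_a_rc_2_2 lc_a_rc_4_2 lc_a_rc_2_2 lc_a_rc_0_1 lc_a_rc_2_2 lc_a_rc_3_2 lc_a_rc_0_1 lc_a_rc_2_2 lc_a_rc_4_2 lc_a_rc_3_2 lc_a_Cert_tree lc_a_rc_21_0 lc_a_rc_4_2 lc_a_Cert_tree lc_a_rc_2_2 lc_a_rc_4_2 lc_a_rc_2_0 lc_a_rc_22_0 lc_a_rc_3_2) (@D3.rec (fun _ => (Cert rels S Gen.a)) lc_a_rc_1_4 lc_a_rc_3_0 lc_a_rc_2_2 lc_a_rc_4_2 lc_a_rc_4_0 lc_a_rc_4_0 lc_a_rc_2_2 lc_a_rc_4_2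 lc_a_Cert_tree lc_a_rc_3_2 lc_a_rc_5_2 lc_a_rc_4_2 lc_a_rc_4_2 lc_a_rc_4_2 lc_a_rc_4_2 lc_a_rc_21_0 lc_a_rc_0_1 lc_a_rc_3_2 lc_a_rc_0_1 lc_a_rc_21_0 lc_a_rc_5_0 lc_a_rc_2_2 lc_a_rc_21_0 lc_a_Cert_tree lc_a_rc_4_2 lc_a_rc_3_2 lc_a_rc_2_0 lc_a_rc_3_2 lc_a_rc_2_2 lc_a_rc_2_2 lc_a_rc_4_2 lc_a_rc_0_1 lc_a_rc_3_2 lc_a_rc_5_2 lc_a_rc_21_0 lc_a_rc_2_2 lc_a_rc_4_2 lc_a_rc_2_2 lc_a_rc_4_2 lc_a_rc_3_2 lc_a_rc_4_2 lc_a_rc_1_4 lc_a_rc_1_2 lc_a_rc_3_2 lc_a_rc_5_2 lc_a_rc_1_4 lc_a_rc_3_2 lc_a_rc_3_2 lc_a_rc_2_2 lc_a_rc_21_0 lc_a_rc_0_1 lc_a_rc_2_2 lc_a_rc_3_2 lc_a_Cert_tree lc_a_rc_5_0 lc_a_rc_3_2 lc_a_rc_4_2 lc_a_Cert_tree lc_a_rc_4_2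 lc_a_rc_3_2 lc_a_rc_2_2 lc_a_rc_3_2) (@D3.rec (fun _ => (Cert rels S Gen.a)) lc_a_rc_3_2 lc_a_rc_2_2 lc_a_rc_5_2 lc_a_rc_0_1 lc_a_rc_3_2 lc_a_rc_2_2 lc_a_rc_3_2 lc_a_rc_5_2 lc_a_rc_0_1 lc_a_rc_3_2 lc_a_rc_4_2 lc_a_rc_2_2 lc_a_rc_4_2 lc_a_Cert_tree lc_a_rc_21_0 lc_a_rc_4_2 lc_a_rc_4_2 lc_a_Cert_tree lc_a_rc_0_1 lc_a_rc_3_2 lc_a_rc_21_0 lc_a_rc_2_0 lc_a_Cert_tree lc_a_rc_22_0 lc_a_rc_4_2 lc_a_rc_3_2 lc_a_rc_4_2 lc_a_rc_4_2 lc_a_rc_2_2 lc_a_rc_1_4 lc_a_rc_3_2 lc_a_rc_2_2 lc_a_Cert_tree lc_a_rc_3_2 lc_a_Cert_tree lc_a_rc_2_0 lc_a_rc_3_0 lc_a_rc_5_2 lc_a_rc_0_1 lc_a_rc_0_1 lc_a_rc_3_2 lc_a_rc_21_0 lc_a_rc_4_2 lc_a_rc_3_2 lc_a_rc_21_0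 lc_a_rc_2_2 lc_a_rc_2_2 lc_a_rc_4_2 lc_a_rc_4_2 lc_a_rc_4_2 lc_a_rc_3_2 lc_a_rc_21_0 lc_a_rc_3_2 lc_a_rc_4_2 lc_a_rc_3_2 lc_a_rc_4_2 lc_a_rc_4_2 lc_a_rc_3_2 lc_a_rc_2_2 lc_a_rc_4_2 lc_a_rc_21_0 lc_a_rc_0_1) (@D3.rec (fun _ => (Cert rels S Gen.a)) lc_a_rc_3_2 lc_a_rc_5_2 lc_a_rc_2_2 lc_a_rc_4_2 lc_a_rc_21_0 lc_a_rc_0_1 lc_a_rc_3_2 lc_a_rc_5_2 lc_a_rc_1_4 lc_a_rc_2_2 lc_a_rc_2_2 lc_a_rc_22_0 lc_a_rc_21_0 lc_a_rc_0_1 lc_a_rc_3_2 lc_a_rc_5_2 lc_a_rc_1_4 lc_a_rc_0_1 lc_a_rc_3_2 lc_a_rc_4_2 lc_a_rc_5_0 lc_a_rc_21_0 lc_a_rc_3_2 lc_a_rc_4_2 lc_a_rc_2_0 lc_a_rc_0_1 lc_a_rc_2_2 lc_a_rc_5_2 lc_a_rc_2_2 lc_a_rc_4_2 lc_a_rc_21_0 lc_a_rc_1_0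 lc_a_rc_4_0 lc_a_rc_4_0 lc_a_rc_1_2 lc_a_rc_5_0 lc_a_rc_0_1 lc_a_rc_1_4 lc_a_rc_3_2 lc_a_rc_21_0 lc_a_rc_5_0 lc_a_rc_3_2 lc_a_rc_2_2 lc_a_rc_5_2 lc_a_rc_0_1 lc_a_rc_4_2 lc_a_rc_0_1 lc_a_rc_2_2 lc_a_Cert_tree lc_a_rc_3_0 lc_a_rc_4_2 lc_a_rc_4_2 lc_a_rc_3_2 lc_a_rc_2_2 lc_a_rc_21_0 lc_a_rc_4_2 lc_a_rc_4_2 lc_a_rc_0_1 lc_a_rc_3_2 lc_a_rc_21_0 lc_a_rc_4_2 lc_a_rc_1_4) (@D3.rec (fun _ => (Cert rels S Gen.a)) lc_a_rc_1_2 lc_a_rc_3_2 lc_a_rc_5_2 lc_a_rc_4_2 lc_a_rc_4_2 lc_a_rc_2_2 lc_a_rc_3_2 lc_a_rc_3_2 lc_a_rc_4_2 lc_a_rc_4_2 lc_a_rc_4_2 lc_a_rc_5_0 lc_a_rc_3_2 lc_a_rc_5_2 lc_a_rc_2_2 lc_a_rc_3_2 lc_a_rc_2_2 lc_a_rc_3_2 lc_a_rc_4_2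 lc_a_rc_5_0 lc_a_rc_3_2 lc_a_rc_2_2 lc_a_rc_5_2 lc_a_rc_3_2 lc_a_rc_3_2 lc_a_rc_21_0 lc_a_rc_3_2 lc_a_rc_4_2 lc_a_rc_21_0 lc_a_rc_2_2 lc_a_rc_21_0 lc_a_rc_5_2 lc_a_rc_4_2 lc_a_rc_0_1 lc_a_rc_4_2 lc_a_rc_0_1 lc_a_rc_2_0 lc_a_Cert_tree lc_a_rc_22_0 lc_a_rc_4_2 lc_a_rc_2_2 lc_a_rc_4_2 lc_a_rc_4_2 lc_a_rc_21_0 lc_a_rc_4_2 lc_a_rc_2_2 lc_a_rc_21_0 lc_a_rc_3_2 lc_a_rc_5_0 lc_a_rc_3_2 lc_a_rc_5_2 lc_a_rc_0_1 lc_a_rc_2_2 lc_a_rc_21_0 lc_a_rc_2_0 lc_a_rc_3_2 lc_a_rc_5_2 lc_a_rc_1_2 lc_a_rc_3_2 lc_a_rc_0_1 lc_a_rc_5_0 lc_a_rc_5_0) (@D3.rec (fun _ => (Cert rels S Gen.a)) lc_a_rc_3_2 lc_a_rc_2_2 lc_a_rc_5_2 lc_a_rc_2_2 lc_a_rc_4_2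 lc_a_rc_2_0 lc_a_rc_3_2 lc_a_rc_5_2 lc_a_rc_4_2 lc_a_rc_21_0 lc_a_rc_2_2 lc_a_rc_0_1 lc_a_rc_4_2 lc_a_rc_3_2 lc_a_rc_4_0 lc_a_rc_3_2 lc_a_rc_5_2 lc_a_Cert_tree lc_a_rc_0_1 lc_a_rc_3_2 lc_a_rc_2_0 lc_a_rc_4_0 lc_a_rc_4_0 lc_a_rc_3_2 lc_a_rc_2_0 lc_a_rc_0_1 lc_a_rc_2_2 lc_a_rc_22_0 lc_a_rc_5_0 lc_a_rc_0_1 lc_a_rc_3_2 lc_a_rc_4_2 lc_a_rc_3_0 lc_a_rc_5_2 lc_a_rc_22_0 lc_a_rc_4_2 lc_a_rc_3_2 lc_a_rc_1_0 lc_a_rc_0_1 lc_a_rc_3_2 lc_a_rc_2_2 lc_a_rc_4_2 lc_a_Cert_tree lc_a_rc_5_2 lc_a_rc_4_2 lc_a_Cert_tree lc_a_rc_2_2 lc_a_rc_3_2 lc_a_rc_2_2 lc_a_rc_21_0 lc_a_Cert_tree lc_a_rc_2_0 lc_a_rc_5_2 lc_a_rc_4_2 lc_a_rc_4_2 lc_a_rc_21_0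 lc_a_rc_2_2 lc_a_rc_3_2 lc_a_rc_4_2 lc_a_Cert_tree lc_a_rc_21_0 lc_a_rc_3_2) (@D3.rec (fun _ => (Cert rels S Gen.a)) lc_a_rc_5_2 lc_a_rc_21_0 lc_a_rc_0_1 lc_a_rc_4_2 lc_a_rc_3_2 lc_a_rc_0_1 lc_a_rc_21_0 lc_a_rc_4_2 lc_a_rc_5_2 lc_a_rc_4_2 lc_a_rc_21_0 lc_a_rc_0_1 lc_a_rc_3_2 lc_a_rc_0_1 lc_a_rc_3_2 lc_a_rc_3_2 lc_a_rc_5_0 lc_a_rc_0_1 lc_a_rc_21_0 lc_a_rc_3_2 lc_a_rc_5_2 lc_a_rc_1_4 lc_a_rc_2_2 lc_a_rc_4_2 lc_a_rc_2_2 lc_a_rc_4_2 lc_a_rc_4_2 lc_a_rc_0_1 lc_a_rc_2_0 lc_a_rc_3_2 lc_a_rc_5_2 lc_a_rc_22_0 lc_a_rc_3_2 lc_a_rc_2_0 lc_a_rc_3_2 lc_a_rc_3_2 lc_a_rc_1_0 lc_a_rc_2_2 lc_a_rc_5_2 lc_a_rc_1_0 lc_a_rc_0_1 lc_a_rc_2_2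 lc_a_rc_1_4 lc_a_rc_4_2 lc_a_rc_0_1 lc_a_rc_5_2 lc_a_rc_3_2 lc_a_rc_2_2 lc_a_Cert_tree lc_a_rc_3_2 lc_a_rc_2_2 lc_a_rc_3_2 lc_a_rc_3_2 lc_a_rc_21_0 lc_a_rc_5_2 lc_a_rc_2_0 lc_a_rc_0_1 lc_a_rc_4_2 lc_a_rc_4_2 lc_a_rc_3_2 lc_a_rc_4_2 lc_a_rc_2_2) (@D3.rec (fun _ => (Cert rels S Gen.a)) lc_a_rc_4_2 lc_a_rc_5_0 lc_a_rc_3_2 lc_a_rc_4_2 lc_a_Cert_tree lc_a_rc_2_2 lc_a_rc_2_2 lc_a_rc_4_2 lc_a_rc_2_0 lc_a_rc_21_0 lc_a_rc_21_0 lc_a_rc_4_2 lc_a_rc_21_0 lc_a_rc_2_2 lc_a_Cert_tree lc_a_rc_3_2 lc_a_rc_5_2 lc_a_rc_4_2 lc_a_rc_5_2 lc_a_rc_0_1 lc_a_rc_1_2 lc_a_rc_3_2 lc_a_rc_0_1 lc_a_rc_2_0 lc_a_rc_21_0 lc_a_rc_3_2 lc_a_rc_21_0 lc_a_rc_3_2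 lc_a_rc_3_2 lc_a_rc_4_2 lc_a_rc_1_2 lc_a_rc_3_2 lc_a_rc_3_2 lc_a_rc_4_2 lc_a_rc_2_0 lc_a_rc_4_2 lc_a_rc_0_1 lc_a_rc_2_0 lc_a_rc_21_0 lc_a_rc_1_4 lc_a_rc_1_2 lc_a_rc_3_2 lc_a_rc_3_2 lc_a_rc_5_2 lc_a_rc_3_2 lc_a_rc_4_2 lc_a_rc_3_2 lc_a_rc_4_2 lc_a_rc_3_0 lc_a_rc_2_2 lc_a_rc_4_2 lc_a_rc_3_2 lc_a_rc_2_2 lc_a_Cert_tree lc_a_rc_4_2 lc_a_rc_4_2 lc_a_rc_3_2 lc_a_rc_4_2 lc_a_rc_5_2 lc_a_rc_2_2 lc_a_rc_3_2 lc_a_rc_2_2) (@D3.rec (fun _ => (Cert rels S Gen.a)) lc_a_rc_4_2 lc_a_rc_5_0 lc_a_rc_3_2 lc_a_rc_5_0 lc_a_rc_4_2 lc_a_rc_5_2 lc_a_rc_2_2 lc_a_rc_0_1 lc_a_rc_3_2 lc_a_rc_22_0 lc_a_rc_0_1 lc_a_rc_2_0 lc_a_rc_3_2 lc_a_rc_4_2 lc_a_rc_21_0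 lc_a_rc_3_2 lc_a_rc_4_2 lc_a_rc_2_2 lc_a_rc_0_1 lc_a_rc_3_0 lc_a_rc_3_2 lc_a_rc_4_2 lc_a_rc_2_0 lc_a_rc_4_2 lc_a_rc_4_2 lc_a_rc_3_2 lc_a_rc_4_2 lc_a_rc_5_2 lc_a_Cert_tree lc_a_rc_4_2 lc_a_Cert_tree lc_a_rc_4_2 lc_a_Cert_tree lc_a_rc_0_1 lc_a_rc_0_1 lc_a_rc_3_2 lc_a_rc_21_0 lc_a_rc_4_2 lc_a_rc_4_2 lc_a_rc_2_2 lc_a_rc_2_2 lc_a_rc_4_2 lc_a_rc_5_2 lc_a_rc_3_2 lc_a_rc_2_2 lc_a_rc_3_0 lc_a_rc_22_0 lc_a_rc_3_0 lc_a_rc_4_2 lc_a_rc_21_0 lc_a_rc_3_2 lc_a_rc_3_0 lc_a_rc_4_2 lc_a_rc_0_1 lc_a_rc_5_0 lc_a_rc_4_2 lc_a_rc_0_1 lc_a_rc_2_2 lc_a_rc_3_2 lc_a_rc_2_0 lc_a_rc_2_2 lc_a_Cert_tree) (@D3.rec (fun _ => (Cert rels S Gen.a)) lc_a_rc_2_0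 lc_a_rc_5_0 lc_a_rc_0_1 lc_a_rc_3_2 lc_a_rc_4_2 lc_a_rc_0_1 lc_a_rc_5_0 lc_a_Cert_tree lc_a_rc_3_2 lc_a_rc_2_2 lc_a_rc_21_0 lc_a_rc_0_1 lc_a_rc_3_2 lc_a_rc_2_2 lc_a_rc_4_2 lc_a_rc_0_1 lc_a_rc_5_0 lc_a_rc_3_2 lc_a_rc_3_2 lc_a_rc_4_2 lc_a_rc_0_1 lc_a_rc_21_0 lc_a_rc_2_2 lc_a_rc_4_2 lc_a_rc_4_2 lc_a_rc_5_0 lc_a_rc_3_2 lc_a_Cert_tree lc_a_rc_3_2 lc_a_rc_4_2 lc_a_Cert_tree lc_a_rc_2_2 lc_a_rc_2_0 lc_a_rc_4_2 lc_a_Cert_tree lc_a_rc_4_2 lc_a_rc_2_2 lc_a_rc_2_2 lc_a_rc_4_2 lc_a_rc_5_2 lc_a_rc_21_0 lc_a_rc_3_2 lc_a_rc_3_2 lc_a_rc_1_4 lc_a_rc_5_0 lc_a_rc_3_2 lc_a_Cert_tree lc_a_rc_5_0 lc_a_Cert_tree lc_a_rc_3_2 lc_a_rc_5_0 lc_a_rc_4_2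 lc_a_rc_0_1 lc_a_rc_21_0 lc_a_rc_4_2 lc_a_rc_4_2 lc_a_rc_3_2 lc_a_rc_0_1 lc_a_rc_0_1 lc_a_rc_3_2 lc_a_rc_4_2 lc_a_rc_3_2) (@D3.rec (fun _ => (Cert rels S Gen.a)) lc_a_rc_0_1 lc_a_rc_2_2 lc_a_rc_4_2 lc_a_rc_21_0 lc_a_Cert_tree lc_a_rc_3_2 lc_a_rc_3_2 lc_a_rc_4_2 lc_a_rc_0_1 lc_a_rc_21_0 lc_a_rc_2_2 lc_a_rc_4_2 lc_a_rc_3_2 lc_a_rc_3_2 lc_a_rc_2_2 lc_a_Cert_tree lc_a_rc_4_2 lc_a_rc_5_0 lc_a_rc_3_2 lc_a_rc_3_2 lc_a_rc_5_2 lc_a_rc_2_2 lc_a_rc_5_2 lc_a_rc_2_2 lc_a_rc_4_0 lc_a_rc_0_1 lc_a_rc_2_0 lc_a_rc_3_2 lc_a_rc_3_2 lc_a_rc_4_2 lc_a_rc_3_2 lc_a_rc_21_0 lc_a_rc_3_0 lc_a_rc_4_2 lc_a_rc_0_1 lc_a_rc_3_2 lc_a_rc_0_1 lc_a_rc_4_2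 lc_a_Cert_tree lc_a_Cert_tree lc_a_rc_0_1 lc_a_Cert_tree lc_a_rc_0_1 lc_a_rc_2_2 lc_a_rc_4_2 lc_a_rc_2_2 lc_a_rc_3_0 lc_a_Cert_tree lc_a_rc_0_1 lc_a_rc_21_0 lc_a_Cert_tree lc_a_rc_4_2 lc_a_rc_0_1 lc_a_rc_5_2 lc_a_rc_4_2 lc_a_rc_0_1 lc_a_rc_21_0 lc_a_rc_0_1 lc_a_rc_3_2 lc_a_rc_4_2 lc_a_rc_4_2 lc_a_rc_0_1) (@D3.rec (fun _ => (Cert rels S Gen.a)) lc_a_rc_4_0 lc_a_rc_4_0 lc_a_rc_0_1 lc_a_rc_3_2 lc_a_rc_3_0 lc_a_rc_4_2 lc_a_rc_4_2 lc_a_rc_0_1 lc_a_rc_3_2 lc_a_rc_4_2 lc_a_rc_4_2 lc_a_rc_3_2 lc_a_Cert_tree lc_a_rc_3_2 lc_a_rc_2_2 lc_a_rc_4_2 lc_a_Cert_tree lc_a_rc_4_2 lc_a_rc_3_2 lc_a_rc_5_0 lc_a_rc_5_2 lc_a_rc_2_2 lc_a_rc_4_2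 lc_a_rc_21_0 lc_a_rc_2_2 lc_a_rc_3_2 lc_a_rc_5_2 lc_a_rc_4_2 lc_a_rc_5_0 lc_a_rc_3_2 lc_a_rc_5_2 lc_a_rc_3_2 lc_a_rc_4_2 lc_a_rc_0_1 lc_a_rc_2_2 lc_a_rc_5_2 lc_a_rc_5_0 lc_a_rc_3_2 lc_a_rc_3_2 lc_a_rc_4_2 lc_a_rc_2_2 lc_a_rc_21_0 lc_a_rc_4_2 lc_a_rc_4_2 lc_a_rc_4_2 lc_a_rc_0_1 lc_a_rc_21_0 lc_a_rc_4_0 lc_a_rc_5_2 lc_a_rc_5_0 lc_a_rc_2_2 lc_a_rc_5_2 lc_a_rc_4_2 lc_a_rc_4_2 lc_a_rc_4_2 lc_a_rc_21_0 lc_a_rc_2_2 lc_a_rc_3_2 lc_a_rc_3_0 lc_a_rc_2_2 lc_a_rc_2_2 lc_a_rc_5_0) (@D3.rec (fun _ => (Cert rels S Gen.a)) lc_a_rc_4_2 lc_a_rc_21_0 lc_a_rc_4_0 lc_a_rc_3_2 lc_a_Cert_tree lc_a_rc_3_0 lc_a_rc_3_2 lc_a_rc_1_2 lc_a_rc_21_0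 lc_a_rc_21_0 lc_a_rc_3_2 lc_a_rc_3_2 lc_a_rc_2_2 lc_a_rc_5_2 lc_a_rc_0_1 lc_a_rc_0_1 lc_a_rc_3_2 lc_a_rc_0_1 lc_a_rc_3_0 lc_a_rc_2_2 lc_a_rc_4_2 lc_a_rc_21_0 lc_a_rc_0_1 lc_a_rc_3_2 lc_a_rc_4_2 lc_a_rc_2_2 lc_a_rc_4_2 lc_a_rc_3_2 lc_a_Cert_tree lc_a_rc_2_2 lc_a_rc_4_2 lc_a_Cert_tree lc_a_rc_2_2 lc_a_rc_4_2 lc_a_Cert_tree lc_a_rc_2_2 lc_a_Cert_tree lc_a_rc_3_2 lc_a_rc_5_2 lc_a_rc_4_2 lc_a_Cert_tree lc_a_rc_3_2 lc_a_rc_21_0 lc_a_rc_0_1 lc_a_rc_3_2 lc_a_rc_4_2 lc_a_rc_3_2 lc_a_rc_1_4 lc_a_rc_2_2 lc_a_rc_3_2 lc_a_rc_21_0 lc_a_rc_3_2 lc_a_rc_2_2 lc_a_rc_3_0 lc_a_rc_2_2 lc_a_Cert_tree lc_a_rc_22_0 lc_a_rc_1_2 lc_a_rc_3_2 lc_a_rc_4_0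 lc_a_rc_4_0 lc_a_rc_0_1) (@D3.rec (fun _ => (Cert rels S Gen.a)) lc_a_rc_3_2 lc_a_rc_4_2 lc_a_rc_2_2 lc_a_rc_4_2 lc_a_rc_22_0 lc_a_rc_3_2 lc_a_rc_5_2 lc_a_rc_0_1 lc_a_rc_3_2 lc_a_rc_2_2 lc_a_rc_2_2 lc_a_rc_4_2 lc_a_rc_3_2 lc_a_rc_2_2 lc_a_rc_4_2 lc_a_rc_4_2 lc_a_rc_2_2 lc_a_rc_21_0 lc_a_rc_3_2 lc_a_rc_5_2 lc_a_rc_21_0 lc_a_rc_0_1 lc_a_rc_3_2 lc_a_rc_5_2 lc_a_rc_3_0 lc_a_rc_3_2 lc_a_rc_5_0 lc_a_rc_2_2 lc_a_rc_5_2 lc_a_rc_5_0 lc_a_rc_3_2 lc_a_rc_2_2 lc_a_rc_4_2 lc_a_rc_5_2 lc_a_rc_4_2 lc_a_rc_2_2 lc_a_rc_4_2 lc_a_rc_4_2 lc_a_rc_21_0 lc_a_rc_0_1 lc_a_rc_3_2 lc_a_rc_0_1 lc_a_rc_2_2 lc_a_rc_21_0 lc_a_rc_4_2 lc_a_rc_4_2 lc_a_rc_4_2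 lc_a_rc_4_2 lc_a_rc_5_0 lc_a_rc_3_2 lc_a_rc_5_2 lc_a_rc_5_0 lc_a_rc_3_0 lc_a_rc_2_2 lc_a_rc_5_2 lc_a_rc_3_2 lc_a_rc_2_2 lc_a_rc_0_1 lc_a_rc_4_2 lc_a_rc_4_2 lc_a_rc_5_0 lc_a_rc_4_0) (@D3.rec (fun _ => (Cert rels S Gen.a)) lc_a_rc_5_2 lc_a_Cert_tree lc_a_rc_2_2 lc_a_rc_0_1 lc_a_rc_4_2 lc_a_Cert_tree lc_a_rc_2_2 lc_a_rc_3_2 lc_a_rc_4_2 lc_a_rc_5_0 lc_a_rc_3_2 lc_a_rc_2_2 lc_a_rc_5_2 lc_a_rc_0_1 lc_a_rc_0_1 lc_a_rc_1_2 lc_a_rc_2_2 lc_a_rc_3_2 lc_a_rc_21_0 lc_a_rc_0_1 lc_a_rc_2_2 lc_a_rc_4_2 lc_a_rc_1_4 lc_a_rc_4_2 lc_a_rc_2_0 lc_a_rc_0_1 lc_a_rc_4_2 lc_a_rc_1_2 lc_a_rc_5_0 lc_a_rc_0_1 lc_a_Cert_tree lc_a_rc_2_0 lc_a_rc_5_2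 lc_a_rc_4_2 lc_a_rc_1_2 lc_a_rc_5_2 lc_a_rc_5_0 lc_a_rc_0_1 lc_a_rc_3_2 lc_a_rc_3_2 lc_a_rc_2_2 lc_a_rc_2_2 lc_a_rc_4_2 lc_a_rc_3_2 lc_a_rc_4_2 lc_a_rc_2_2 lc_a_rc_3_2 lc_a_rc_21_0 lc_a_rc_21_0 lc_a_rc_21_0 lc_a_Cert_tree lc_a_rc_2_0 lc_a_Cert_tree lc_a_Cert_tree lc_a_rc_2_0 lc_a_rc_3_0 lc_a_Cert_tree lc_a_Cert_tree lc_a_rc_2_0 lc_a_rc_2_2 lc_a_rc_4_2 lc_a_rc_0_1) (@D3.rec (fun _ => (Cert rels S Gen.a)) lc_a_rc_21_0 lc_a_rc_0_1 lc_a_rc_4_2 lc_a_rc_2_0 lc_a_rc_4_2 lc_a_rc_3_2 lc_a_rc_4_2 lc_a_rc_2_2 lc_a_rc_2_2 lc_a_rc_3_2 lc_a_rc_5_2 lc_a_rc_5_0 lc_a_rc_0_1 lc_a_rc_3_2 lc_a_rc_5_0 lc_a_rc_4_2 lc_a_rc_2_2 lc_a_rc_4_2 lc_a_rc_3_2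 lc_a_rc_2_2 lc_a_rc_2_0 lc_a_rc_3_2 lc_a_rc_5_2 lc_a_rc_3_2 lc_a_rc_21_0 lc_a_rc_2_2 lc_a_rc_2_2 lc_a_rc_3_2 lc_a_rc_1_4 lc_a_rc_4_0 lc_a_rc_22_0 lc_a_rc_0_1 lc_a_rc_3_2 lc_a_rc_4_2 lc_a_rc_3_2 lc_a_rc_21_0 lc_a_rc_3_0 lc_a_rc_4_2 lc_a_rc_0_1 lc_a_rc_1_4 lc_a_rc_3_0 lc_a_rc_4_2 lc_a_Cert_tree lc_a_rc_3_2 lc_a_Cert_tree lc_a_rc_0_1 lc_a_rc_2_2 lc_a_rc_4_2 lc_a_rc_3_2 lc_a_rc_5_0 lc_a_rc_2_2 lc_a_rc_4_2 lc_a_rc_3_0 lc_a_rc_2_2 lc_a_rc_4_2 lc_a_rc_3_2 lc_a_rc_5_0 lc_a_rc_4_2 lc_a_rc_0_1 lc_a_rc_3_2 lc_a_rc_3_0 lc_a_rc_4_2) (@D3.rec (fun _ => (Cert rels S Gen.a)) lc_a_rc_0_1 lc_a_rc_3_2 lc_a_rc_4_2 lc_a_rc_1_4 lc_a_rc_21_0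 lc_a_rc_4_2 lc_a_rc_0_1 lc_a_rc_3_2 lc_a_rc_3_2 lc_a_rc_4_2 lc_a_rc_3_2 lc_a_rc_5_0 lc_a_rc_22_0 lc_a_rc_4_2 lc_a_Cert_tree lc_a_rc_3_2 lc_a_rc_4_2 lc_a_Cert_tree lc_a_rc_2_2 lc_a_rc_4_2 lc_a_rc_3_2 lc_a_rc_5_0 lc_a_Cert_tree lc_a_rc_21_0 lc_a_rc_0_1 lc_a_rc_2_0 lc_a_rc_2_0 lc_a_rc_1_4 lc_a_Cert_tree lc_a_Cert_tree lc_a_Cert_tree lc_a_rc_3_2 lc_a_Cert_tree lc_a_rc_21_0 lc_a_rc_0_1 lc_a_rc_4_2 lc_a_rc_2_2 lc_a_Cert_tree lc_a_rc_3_2 lc_a_Cert_tree lc_a_rc_21_0 lc_a_rc_0_1 lc_a_rc_0_1 lc_a_rc_3_2 lc_a_rc_3_2 lc_a_rc_4_2 lc_a_rc_21_0 lc_a_rc_1_2 lc_a_rc_1_4 lc_a_rc_4_2 lc_a_rc_21_0 lc_a_rc_0_1 lc_a_rc_0_1 lc_a_rc_3_2 lc_a_rc_0_1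 lc_a_rc_4_2 lc_a_rc_5_0 lc_a_rc_22_0 lc_a_rc_4_2 lc_a_Cert_tree lc_a_rc_2_2 lc_a_rc_4_2) (@D3.rec (fun _ => (Cert rels S Gen.a)) lc_a_Cert_tree lc_a_rc_3_2 lc_a_rc_4_2 lc_a_Cert_tree lc_a_rc_22_0 lc_a_rc_1_4 lc_a_rc_4_2 lc_a_rc_5_0 lc_a_rc_4_2 lc_a_rc_1_2 lc_a_Cert_tree lc_a_Cert_tree lc_a_rc_2_2 lc_a_rc_3_2 lc_a_Cert_tree lc_a_rc_2_0 lc_a_rc_4_2 lc_a_rc_4_2 lc_a_rc_3_0 lc_a_Cert_tree lc_a_rc_3_0 lc_a_rc_4_2 lc_a_rc_2_2 lc_a_rc_0_1 lc_a_rc_3_2 lc_a_rc_21_0 lc_a_rc_21_0 lc_a_Cert_tree lc_a_rc_3_2 lc_a_rc_4_2 lc_a_rc_2_2 lc_a_rc_4_2 lc_a_rc_4_2 lc_a_Cert_tree lc_a_rc_2_2 lc_a_rc_5_0 lc_a_rc_4_2 lc_a_rc_5_2 lc_a_Cert_tree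 lc_a_rc_4_2 lc_a_rc_4_0 lc_a_rc_3_2 lc_a_rc_5_2 lc_a_rc_21_0 lc_a_rc_4_2 lc_a_rc_0_1 lc_a_rc_4_2 lc_a_rc_5_2 lc_a_rc_2_2 lc_a_rc_21_0 lc_a_rc_5_2 lc_a_Cert_tree lc_a_rc_4_2 lc_a_Cert_tree lc_a_rc_2_2 lc_a_rc_4_2 lc_a_Cert_tree lc_a_rc_0_1 lc_a_rc_0_1 lc_a_rc_3_2 lc_a_rc_21_0 lc_a_rc_4_2) (@D3.rec (fun _ => (Cert rels S Gen.a)) lc_a_rc_4_2 lc_a_rc_4_2 lc_a_rc_4_2 lc_a_rc_3_2 lc_a_rc_4_2 lc_a_rc_1_4 lc_a_rc_4_2 lc_a_rc_21_0 lc_a_Cert_tree lc_a_rc_2_2 lc_a_rc_21_0 lc_a_rc_5_2 lc_a_rc_1_4 lc_a_rc_2_0 lc_a_rc_0_1 lc_a_rc_3_2 lc_a_rc_4_2 lc_a_rc_3_2 lc_a_rc_5_2 lc_a_rc_3_2 lc_a_rc_3_2 lc_a_rc_3_2 lc_a_rc_4_2 lc_a_rc_1_2 lc_a_rc_3_2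 lc_a_rc_5_2 lc_a_rc_1_4 lc_a_rc_2_2 lc_a_rc_4_2 lc_a_rc_22_0 lc_a_Cert_tree lc_a_rc_4_2 lc_a_rc_21_0 lc_a_rc_4_2 lc_a_Cert_tree lc_a_rc_4_2 lc_a_rc_3_2 lc_a_rc_5_0 lc_a_rc_5_2 lc_a_rc_4_2 lc_a_rc_4_2 lc_a_rc_4_2 lc_a_rc_2_2 lc_a_rc_0_1 lc_a_rc_1_2 lc_a_rc_4_2 lc_a_rc_4_2 lc_a_rc_4_0 lc_a_rc_1_4 lc_a_rc_4_2 lc_a_rc_3_2 lc_a_rc_5_0 lc_a_rc_4_2 lc_a_rc_2_2 lc_a_rc_5_0 lc_a_rc_5_2 lc_a_rc_5_0 lc_a_rc_4_2 lc_a_rc_1_4 lc_a_rc_21_0 lc_a_rc_2_2 lc_a_rc_1_4) (@D3.rec (fun _ => (Cert rels S Gen.a)) lc_a_rc_4_2 lc_a_rc_4_2 lc_a_rc_4_2 lc_a_rc_5_2 lc_a_rc_2_2 lc_a_rc_4_2 lc_a_rc_3_2 lc_a_rc_0_1 lc_a_rc_1_4 lc_a_rc_4_2 lc_a_rc_0_1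 lc_a_rc_4_2 lc_a_rc_3_2 lc_a_rc_2_2 lc_a_rc_4_2 lc_a_rc_3_0 lc_a_rc_1_4 lc_a_rc_0_1 lc_a_rc_4_2 lc_a_rc_4_0 lc_a_rc_3_2 lc_a_rc_4_2 lc_a_rc_21_0 lc_a_rc_0_1 lc_a_rc_5_2 lc_a_Cert_tree lc_a_rc_3_2 lc_a_rc_3_2 lc_a_rc_5_2 lc_a_rc_3_2 lc_a_rc_4_2 lc_a_rc_2_2 lc_a_rc_2_2 lc_a_Cert_tree lc_a_rc_3_2 lc_a_Cert_tree lc_a_rc_3_2 lc_a_rc_2_2 lc_a_rc_3_2 lc_a_rc_2_2 lc_a_rc_4_2 lc_a_rc_2_2 lc_a_rc_4_2 lc_a_rc_3_2 lc_a_rc_4_2 lc_a_Cert_tree lc_a_rc_3_2 lc_a_rc_5_2 lc_a_rc_4_2 lc_a_rc_2_2 lc_a_rc_3_2 lc_a_rc_2_2 lc_a_rc_3_2 lc_a_rc_2_2 lc_a_rc_2_2 lc_a_rc_4_2 lc_a_rc_21_0 lc_a_rc_2_2 lc_a_Cert_tree lc_a_rc_3_2 lc_a_rc_2_2 lc_a_rc_4_2)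 (@D3.rec (fun _ => (Cert rels S Gen.a)) lc_a_rc_4_2 lc_a_rc_5_2 lc_a_rc_5_0 lc_a_rc_2_2 lc_a_rc_3_2 lc_a_Cert_tree lc_a_rc_21_0 lc_a_rc_4_2 lc_a_rc_3_0 lc_a_rc_21_0 lc_a_rc_4_2 lc_a_rc_2_2 lc_a_Cert_tree lc_a_rc_5_0 lc_a_rc_4_2 lc_a_rc_5_0 lc_a_rc_4_2 lc_a_rc_5_2 lc_a_rc_4_2 lc_a_Cert_tree lc_a_rc_2_2 lc_a_rc_4_2 lc_a_rc_3_2 lc_a_rc_5_0 lc_a_rc_3_2 lc_a_rc_5_2 lc_a_Cert_tree lc_a_rc_3_2 lc_a_rc_4_2 lc_a_Cert_tree lc_a_rc_2_2 lc_a_rc_4_2 lc_a_rc_2_0 lc_a_rc_5_0 lc_a_rc_0_1 lc_a_rc_3_2 lc_a_rc_2_0 lc_a_rc_0_1 lc_a_rc_22_0 lc_a_rc_4_2 lc_a_rc_22_0 lc_a_rc_4_2 lc_a_rc_3_2 lc_a_rc_3_2 lc_a_rc_2_0 lc_a_rc_4_2 lc_a_rc_4_2 lc_a_rc_21_0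 lc_a_rc_4_0 lc_a_rc_21_0 lc_a_rc_5_0 lc_a_rc_21_0 lc_a_rc_3_2 lc_a_rc_5_0 lc_a_rc_5_0 lc_a_rc_5_0 lc_a_rc_5_0 lc_a_rc_4_2 lc_a_rc_0_1 lc_a_rc_3_2 lc_a_rc_2_2 lc_a_rc_4_2) (@D3.rec (fun _ => (Cert rels S Gen.a)) lc_a_rc_3_2 lc_a_rc_3_0 lc_a_rc_2_2 lc_a_rc_3_2 lc_a_rc_5_2 lc_a_rc_5_0 lc_a_rc_21_0 lc_a_rc_21_0 lc_a_rc_3_2 lc_a_rc_21_0 lc_a_rc_2_2 lc_a_rc_4_2 lc_a_rc_5_2 lc_a_rc_2_2 lc_a_rc_5_0 lc_a_rc_21_0 lc_a_rc_2_2 lc_a_rc_21_0 lc_a_rc_4_2 lc_a_rc_3_2 lc_a_rc_0_1 lc_a_rc_4_2 lc_a_rc_1_4 lc_a_rc_1_4 lc_a_rc_4_0 lc_a_rc_3_2 lc_a_rc_3_0 lc_a_rc_2_2 lc_a_rc_3_2 lc_a_rc_3_2 lc_a_rc_21_0 lc_a_rc_2_2 lc_a_rc_4_2 lc_a_rc_5_0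 lc_a_rc_4_0 lc_a_rc_5_0 lc_a_Cert_tree lc_a_rc_2_2 lc_a_rc_2_2 lc_a_rc_3_2 lc_a_rc_4_2 lc_a_rc_2_2 lc_a_rc_1_4 lc_a_rc_21_0 lc_a_rc_5_2 lc_a_rc_4_2 lc_a_rc_22_0 lc_a_rc_1_2 lc_a_rc_4_2 lc_a_rc_3_2 lc_a_rc_5_2 lc_a_rc_4_2 lc_a_rc_5_0 lc_a_rc_3_2 lc_a_rc_2_2 lc_a_rc_3_2 lc_a_rc_4_2 lc_a_rc_3_2 lc_a_rc_2_0 lc_a_rc_4_2 lc_a_rc_1_4 lc_a_rc_3_2)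
def ce_a_8 : D2 → D3 → (Cert rels S Gen.a) := @D2.rec (fun _ => D3 → (Cert rels S Gen.a)) (@D3.rec (fun _ => (Cert rels S Gen.a)) lc_a_rc_2_0 lc_a_rc_21_0 lc_a_rc_3_2 lc_a_rc_2_2 lc_a_rc_4_2 lc_a_rc_5_0 lc_a_rc_4_2 lc_a_rc_4_2 lc_a_rc_3_2 lc_a_rc_4_2 lc_a_rc_4_2 lc_a_rc_0_1 lc_a_rc_3_2 lc_a_rc_2_2 lc_a_rc_5_2 lc_a_rc_3_2 lc_a_rc_4_2 lc_a_rc_21_0 lc_a_rc_1_4 lc_a_rc_2_2 lc_a_rc_1_4 lc_a_rc_4_2 lc_a_rc_21_0 lc_a_rc_0_1 lc_a_rc_5_2 lc_a_rc_4_2 lc_a_rc_2_2 lc_a_rc_0_1 lc_a_rc_4_2 lc_a_rc_3_2 lc_a_rc_0_1 lc_a_rc_2_2 lc_a_rc_4_2 lc_a_rc_1_4 lc_a_rc_3_2 lc_a_rc_4_2 lc_a_rc_3_2 lc_a_rc_3_0 lc_a_rc_4_2 lc_a_rc_5_2 lc_a_rc_2_0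 lc_a_rc_5_2 lc_a_rc_3_2 lc_a_rc_5_2 lc_a_rc_1_4 lc_a_rc_0_1 lc_a_rc_4_0 lc_a_rc_3_2 lc_a_rc_4_0 lc_a_rc_2_2 lc_a_rc_3_2 lc_a_rc_21_0 lc_a_rc_0_1 lc_a_rc_2_2 lc_a_rc_3_2 lc_a_rc_4_2 lc_a_rc_3_2 lc_a_rc_0_1 lc_a_rc_3_2 lc_a_rc_2_2 lc_a_rc_1_4 lc_a_rc_3_2) (@D3.rec (fun _ => (Cert rels S Gen.a)) lc_a_rc_4_0 lc_a_rc_0_1 lc_a_rc_3_2 lc_a_rc_3_2 lc_a_rc_3_2 lc_a_rc_2_2 lc_a_rc_3_2 lc_a_rc_21_0 lc_a_Cert_tree lc_a_rc_4_2 lc_a_rc_3_2 lc_a_rc_5_0 lc_a_rc_5_2 lc_a_rc_2_2 lc_a_rc_4_2 lc_a_rc_3_2 lc_a_rc_4_2 lc_a_rc_4_2 lc_a_rc_4_2 lc_a_rc_5_0 lc_a_rc_5_2 lc_a_rc_21_0 lc_a_rc_3_2 lc_a_rc_4_2 lc_a_Cert_tree lc_a_rc_3_2 lc_a_rc_0_1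 lc_a_rc_0_1 lc_a_rc_4_2 lc_a_rc_4_2 lc_a_rc_5_2 lc_a_rc_4_2 lc_a_rc_4_2 lc_a_rc_5_2 lc_a_Cert_tree lc_a_rc_0_1 lc_a_rc_0_1 lc_a_rc_3_2 lc_a_rc_21_0 lc_a_rc_3_0 lc_a_rc_5_0 lc_a_rc_2_0 lc_a_rc_4_2 lc_a_rc_0_1 lc_a_rc_0_1 lc_a_rc_0_1 lc_a_rc_1_4 lc_a_rc_3_2 lc_a_rc_4_0 lc_a_rc_4_0 lc_a_rc_3_2 lc_a_rc_2_0 lc_a_rc_3_2 lc_a_rc_21_0 lc_a_rc_0_1 lc_a_rc_2_2 lc_a_rc_4_2 lc_a_rc_3_0 lc_a_rc_1_4 lc_a_Cert_tree lc_a_rc_4_2 lc_a_rc_3_2) (@D3.rec (fun _ => (Cert rels S Gen.a)) lc_a_rc_5_0 lc_a_rc_5_2 lc_a_rc_4_2 lc_a_rc_3_2 lc_a_rc_4_2 lc_a_rc_1_4 lc_a_rc_4_2 lc_a_rc_1_4 lc_a_rc_0_1 lc_a_rc_3_2 lc_a_rc_4_2 lc_a_rc_21_0 lc_a_rc_3_2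 lc_a_rc_4_2 lc_a_rc_4_2 lc_a_rc_0_1 lc_a_rc_21_0 lc_a_rc_5_2 lc_a_rc_4_2 lc_a_rc_4_2 lc_a_rc_3_2 lc_a_rc_0_1 lc_a_rc_1_4 lc_a_rc_4_2 lc_a_rc_4_2 lc_a_rc_3_2 lc_a_rc_4_2 lc_a_rc_21_0 lc_a_rc_0_1 lc_a_rc_5_2 lc_a_rc_4_2 lc_a_rc_3_2 lc_a_rc_22_0 lc_a_rc_22_0 lc_a_Cert_tree lc_a_rc_5_0 lc_a_rc_21_0 lc_a_Cert_tree lc_a_rc_3_2 lc_a_rc_21_0 lc_a_rc_5_0 lc_a_rc_3_2 lc_a_rc_2_2 lc_a_rc_21_0 lc_a_Cert_tree lc_a_rc_3_2 lc_a_rc_4_2 lc_a_rc_5_2 lc_a_rc_4_2 lc_a_Cert_tree lc_a_rc_3_2 lc_a_rc_5_2 lc_a_rc_4_2 lc_a_rc_4_2 lc_a_Cert_tree lc_a_rc_4_2 lc_a_rc_3_2 lc_a_rc_21_0 lc_a_rc_3_2 lc_a_rc_5_2 lc_a_Cert_tree lc_a_rc_4_2) (@D3.rec (fun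 _ => (Cert rels S Gen.a)) lc_a_rc_21_0 lc_a_rc_2_2 lc_a_rc_5_2 lc_a_rc_21_0 lc_a_rc_2_2 lc_a_rc_0_1 lc_a_rc_21_0 lc_a_rc_3_2 lc_a_rc_2_2 lc_a_Cert_tree lc_a_rc_2_2 lc_a_rc_3_2 lc_a_rc_21_0 lc_a_rc_5_2 lc_a_rc_3_2 lc_a_rc_3_2 lc_a_rc_3_2 lc_a_rc_4_2 lc_a_Cert_tree lc_a_rc_4_2 lc_a_rc_0_1 lc_a_rc_21_0 lc_a_rc_5_2 lc_a_rc_5_2 lc_a_rc_3_2 lc_a_rc_5_0 lc_a_rc_0_1 lc_a_rc_0_1 lc_a_rc_3_2 lc_a_rc_4_2 lc_a_rc_21_0 lc_a_rc_22_0 lc_a_rc_4_2 lc_a_rc_3_2 lc_a_rc_3_2 lc_a_rc_3_2 lc_a_rc_3_2 lc_a_rc_4_2 lc_a_rc_5_0 lc_a_rc_0_1 lc_a_rc_3_2 lc_a_rc_1_2 lc_a_rc_4_2 lc_a_rc_3_2 lc_a_rc_3_0 lc_a_rc_3_2 lc_a_rc_3_2 lc_a_rc_4_2 lc_a_rc_3_2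 lc_a_rc_3_2 lc_a_Cert_tree lc_a_rc_4_2 lc_a_rc_0_1 lc_a_rc_21_0 lc_a_rc_5_2 lc_a_rc_4_2 lc_a_rc_21_0 lc_a_rc_2_2 lc_a_rc_4_2 lc_a_rc_21_0 lc_a_Cert_tree lc_a_rc_2_2) (@D3.rec (fun _ => (Cert rels S Gen.a)) lc_a_rc_2_2 lc_a_rc_21_0 lc_a_rc_5_2 lc_a_Cert_tree lc_a_rc_2_2 lc_a_rc_4_2 lc_a_rc_3_2 lc_a_rc_4_2 lc_a_rc_5_2 lc_a_rc_4_2 lc_a_Cert_tree lc_a_rc_3_2 lc_a_rc_4_2 lc_a_rc_4_2 lc_a_rc_5_2 lc_a_rc_4_2 lc_a_Cert_tree lc_a_rc_21_0 lc_a_rc_4_2 lc_a_rc_3_2 lc_a_rc_5_2 lc_a_Cert_tree lc_a_rc_3_2 lc_a_rc_4_2 lc_a_Cert_tree lc_a_rc_3_2 lc_a_rc_4_2 lc_a_Cert_tree lc_a_rc_0_1 lc_a_rc_0_1 lc_a_rc_3_2 lc_a_rc_21_0 lc_a_rc_2_2 lc_a_rc_2_2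 lc_a_rc_3_0 lc_a_rc_5_0 lc_a_rc_3_2 lc_a_Cert_tree lc_a_rc_2_2 lc_a_rc_3_2 lc_a_rc_5_0 lc_a_rc_3_2 lc_a_rc_1_4 lc_a_rc_4_2 lc_a_Cert_tree lc_a_rc_4_2 lc_a_rc_21_0 lc_a_rc_3_2 lc_a_rc_4_2 lc_a_rc_3_2 lc_a_rc_3_2 lc_a_rc_4_2 lc_a_rc_21_0 lc_a_rc_4_2 lc_a_rc_5_0 lc_a_rc_0_1 lc_a_rc_3_2 lc_a_rc_4_2 lc_a_rc_4_2 lc_a_rc_3_2 lc_a_rc_0_1 lc_a_rc_4_2) (@D3.rec (fun _ => (Cert rels S Gen.a)) lc_a_rc_4_2 lc_a_rc_3_2 lc_a_rc_21_0 lc_a_rc_5_2 lc_a_rc_2_2 lc_a_rc_5_0 lc_a_rc_3_2 lc_a_rc_4_2 lc_a_rc_3_2 lc_a_rc_0_1 lc_a_rc_21_0 lc_a_rc_2_2 lc_a_rc_4_2 lc_a_rc_3_2 lc_a_rc_1_4 lc_a_rc_3_2 lc_a_rc_4_2 lc_a_rc_5_2 lc_a_rc_3_2 lc_a_Cert_tree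 lc_a_rc_4_2 lc_a_rc_3_0 lc_a_rc_0_1 lc_a_rc_5_2 lc_a_rc_2_2 lc_a_rc_5_2 lc_a_rc_4_2 lc_a_rc_4_2 lc_a_rc_4_0 lc_a_rc_4_2 lc_a_rc_5_0 lc_a_rc_5_2 lc_a_Cert_tree lc_a_rc_0_1 lc_a_rc_0_1 lc_a_rc_3_2 lc_a_rc_21_0 lc_a_rc_4_2 lc_a_rc_4_2 lc_a_rc_21_0 lc_a_rc_4_2 lc_a_rc_4_2 lc_a_rc_5_0 lc_a_rc_4_2 lc_a_Cert_tree lc_a_rc_3_2 lc_a_rc_2_2 lc_a_rc_5_2 lc_a_rc_4_2 lc_a_rc_21_0 lc_a_rc_5_2 lc_a_rc_4_2 lc_a_rc_5_0 lc_a_rc_5_2 lc_a_Cert_tree lc_a_rc_5_2 lc_a_rc_0_1 lc_a_rc_3_2 lc_a_rc_21_0 lc_a_rc_4_2 lc_a_rc_4_2 lc_a_rc_0_1) (@D3.rec (fun _ => (Cert rels S Gen.a)) lc_a_rc_21_0 lc_a_rc_2_2 lc_a_rc_3_2 lc_a_rc_5_2 lc_a_Cert_tree lc_a_rc_3_2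 lc_a_rc_2_2 lc_a_rc_5_2 lc_a_Cert_tree lc_a_rc_3_2 lc_a_rc_4_2 lc_a_rc_3_2 lc_a_rc_5_0 lc_a_rc_4_2 lc_a_Cert_tree lc_a_rc_21_0 lc_a_rc_4_2 lc_a_rc_21_0 lc_a_rc_2_2 lc_a_rc_4_2 lc_a_Cert_tree lc_a_rc_0_1 lc_a_rc_0_1 lc_a_rc_2_0 lc_a_rc_21_0 lc_a_rc_3_2 lc_a_rc_3_2 lc_a_rc_0_1 lc_a_rc_4_2 lc_a_rc_22_0 lc_a_rc_4_2 lc_a_rc_3_2 lc_a_rc_5_0 lc_a_rc_3_2 lc_a_Cert_tree lc_a_rc_3_2 lc_a_rc_2_2 lc_a_rc_4_2 lc_a_rc_4_2 lc_a_rc_3_2 lc_a_rc_5_0 lc_a_rc_21_0 lc_a_Cert_tree lc_a_rc_2_2 lc_a_rc_4_2 lc_a_rc_0_1 lc_a_rc_5_0 lc_a_rc_21_0 lc_a_rc_5_0 lc_a_rc_5_2 lc_a_rc_3_2 lc_a_rc_4_2 lc_a_rc_21_0 lc_a_rc_0_1 lc_a_rc_5_2 lc_a_Cert_tree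 lc_a_rc_2_2 lc_a_rc_2_2 lc_a_rc_3_2 lc_a_rc_3_2 lc_a_rc_3_2 lc_a_rc_3_2) (@D3.rec (fun _ => (Cert rels S Gen.a)) lc_a_rc_2_2 lc_a_rc_2_2 lc_a_rc_2_2 lc_a_rc_4_2 lc_a_Cert_tree lc_a_rc_0_1 lc_a_rc_0_1 lc_a_rc_3_2 lc_a_rc_21_0 lc_a_rc_21_0 lc_a_rc_0_1 lc_a_rc_4_2 lc_a_rc_22_0 lc_a_rc_5_2 lc_a_rc_2_2 lc_a_rc_5_0 lc_a_Cert_tree lc_a_rc_2_0 lc_a_rc_4_2 lc_a_rc_1_2 lc_a_rc_1_4 lc_a_Cert_tree lc_a_rc_2_2 lc_a_rc_21_0 lc_a_rc_1_4 lc_a_rc_5_2 lc_a_Cert_tree lc_a_rc_4_2 lc_a_rc_21_0 lc_a_rc_3_2 lc_a_rc_0_1 lc_a_rc_4_2 lc_a_rc_21_0 lc_a_rc_2_2 lc_a_rc_3_2 lc_a_rc_4_2 lc_a_rc_21_0 lc_a_rc_21_0 lc_a_rc_0_1 lc_a_rc_4_2 lc_a_rc_1_2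 lc_a_rc_4_2 lc_a_rc_3_0 lc_a_rc_3_2 lc_a_Cert_tree lc_a_rc_4_2 lc_a_rc_4_2 lc_a_rc_3_2 lc_a_rc_4_2 lc_a_Cert_tree lc_a_rc_2_2 lc_a_rc_4_2 lc_a_rc_4_2 lc_a_rc_0_1 lc_a_rc_4_2 lc_a_rc_5_2 lc_a_rc_21_0 lc_a_rc_2_2 lc_a_rc_0_1 lc_a_rc_5_0 lc_a_rc_3_2 lc_a_rc_5_2) (@D3.rec (fun _ => (Cert rels S Gen.a)) lc_a_rc_2_2 lc_a_rc_2_2 lc_a_rc_3_2 lc_a_rc_21_0 lc_a_rc_3_2 lc_a_rc_3_2 lc_a_rc_4_2 lc_a_rc_5_2 lc_a_Cert_tree lc_a_rc_3_2 lc_a_rc_0_1 lc_a_Cert_tree lc_a_rc_21_0 lc_a_rc_4_2 lc_a_rc_5_0 lc_a_rc_5_2 lc_a_rc_21_0 lc_a_rc_3_2 lc_a_rc_0_1 lc_a_rc_4_2 lc_a_rc_5_0 lc_a_rc_4_2 lc_a_rc_4_2 lc_a_rc_5_2 lc_a_rc_3_2 lc_a_rc_2_2 lc_a_rc_4_2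 lc_a_rc_2_2 lc_a_rc_4_2 lc_a_rc_3_2 lc_a_rc_1_2 lc_a_rc_2_2 lc_a_rc_5_2 lc_a_rc_4_2 lc_a_Cert_tree lc_a_rc_21_0 lc_a_rc_4_2 lc_a_rc_5_0 lc_a_rc_3_2 lc_a_rc_5_2 lc_a_rc_21_0 lc_a_rc_2_2 lc_a_rc_0_1 lc_a_rc_4_2 lc_a_rc_4_2 lc_a_rc_21_0 lc_a_rc_3_2 lc_a_rc_4_2 lc_a_rc_2_2 lc_a_rc_3_2 lc_a_rc_4_2 lc_a_Cert_tree lc_a_rc_21_0 lc_a_rc_21_0 lc_a_rc_21_0 lc_a_rc_0_1 lc_a_rc_0_1 lc_a_rc_4_2 lc_a_rc_4_2 lc_a_rc_5_2 lc_a_rc_21_0 lc_a_rc_3_2) (@D3.rec (fun _ => (Cert rels S Gen.a)) lc_a_rc_0_1 lc_a_rc_5_2 lc_a_rc_4_2 lc_a_rc_3_2 lc_a_rc_4_2 lc_a_rc_0_1 lc_a_rc_0_1 lc_a_Cert_tree lc_a_rc_2_2 lc_a_rc_21_0 lc_a_rc_4_2 lc_a_rc_5_2 lc_a_Cert_tree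 lc_a_rc_2_2 lc_a_rc_3_2 lc_a_rc_4_2 lc_a_rc_3_2 lc_a_rc_21_0 lc_a_rc_2_2 lc_a_rc_2_2 lc_a_rc_4_2 lc_a_rc_4_2 lc_a_rc_2_2 lc_a_rc_2_2 lc_a_rc_4_0 lc_a_rc_21_0 lc_a_rc_2_2 lc_a_rc_4_0 lc_a_rc_2_2 lc_a_rc_4_2 lc_a_rc_0_1 lc_a_rc_3_2 lc_a_rc_2_2 lc_a_rc_4_2 lc_a_rc_1_2 lc_a_Cert_tree lc_a_rc_2_2 lc_a_rc_1_4 lc_a_rc_1_2 lc_a_rc_5_2 lc_a_rc_3_2 lc_a_Cert_tree lc_a_rc_2_2 lc_a_rc_5_2 lc_a_rc_5_2 lc_a_rc_21_0 lc_a_rc_2_2 lc_a_rc_0_1 lc_a_rc_2_2 lc_a_rc_3_2 lc_a_rc_4_2 lc_a_rc_0_1 lc_a_rc_2_2 lc_a_rc_5_0 lc_a_rc_21_0 lc_a_rc_4_2 lc_a_rc_3_2 lc_a_rc_5_0 lc_a_rc_4_2 lc_a_rc_5_2 lc_a_rc_3_2 lc_a_rc_21_0) (@D3.rec (fun _ => (Cert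 rels S Gen.a)) lc_a_rc_4_2 lc_a_Cert_tree lc_a_rc_2_2 lc_a_rc_4_2 lc_a_rc_5_2 lc_a_rc_21_0 lc_a_rc_3_2 lc_a_rc_0_1 lc_a_rc_4_2 lc_a_rc_22_0 lc_a_rc_5_2 lc_a_rc_3_2 lc_a_rc_2_2 lc_a_rc_2_2 lc_a_rc_4_2 lc_a_rc_3_2 lc_a_rc_4_2 lc_a_rc_21_0 lc_a_rc_0_1 lc_a_rc_4_2 lc_a_rc_5_2 lc_a_Cert_tree lc_a_rc_3_2 lc_a_rc_4_2 lc_a_rc_5_0 lc_a_rc_5_2 lc_a_rc_0_1 lc_a_rc_3_2 lc_a_rc_3_2 lc_a_rc_4_2 lc_a_rc_0_1 lc_a_rc_0_1 lc_a_rc_0_1 lc_a_rc_21_0 lc_a_rc_3_2 lc_a_rc_3_2 lc_a_rc_3_0 lc_a_rc_2_2 lc_a_rc_4_2 lc_a_rc_21_0 lc_a_rc_4_0 lc_a_rc_4_2 lc_a_rc_0_1 lc_a_rc_21_0 lc_a_rc_5_2 lc_a_rc_4_2 lc_a_rc_4_2 lc_a_rc_2_0 lc_a_Cert_tree lc_a_rc_3_2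 lc_a_Cert_tree lc_a_rc_3_2 lc_a_rc_2_2 lc_a_rc_2_2 lc_a_rc_4_2 lc_a_rc_2_2 lc_a_rc_4_2 lc_a_rc_2_2 lc_a_rc_3_2 lc_a_rc_3_2 lc_a_rc_5_2 lc_a_rc_4_2) (@D3.rec (fun _ => (Cert rels S Gen.a)) lc_a_rc_1_0 lc_a_rc_3_2 lc_a_rc_4_2 lc_a_rc_1_2 lc_a_rc_4_2 lc_a_rc_3_0 lc_a_rc_2_2 lc_a_rc_2_2 lc_a_rc_4_2 lc_a_rc_5_0 lc_a_rc_4_2 lc_a_Cert_tree lc_a_rc_21_0 lc_a_rc_2_2 lc_a_rc_1_2 lc_a_rc_3_2 lc_a_rc_1_2 lc_a_rc_2_2 lc_a_rc_3_2 lc_a_rc_21_0 lc_a_rc_3_2 lc_a_rc_4_2 lc_a_rc_4_0 lc_a_rc_21_0 lc_a_rc_4_2 lc_a_rc_0_1 lc_a_Cert_tree lc_a_rc_3_2 lc_a_rc_4_2 lc_a_rc_5_0 lc_a_rc_4_2 lc_a_rc_5_2 lc_a_rc_4_2 lc_a_Cert_tree lc_a_rc_2_2 lc_a_rc_4_2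 lc_a_rc_3_2 lc_a_rc_5_0 lc_a_rc_4_2 lc_a_Cert_tree lc_a_rc_3_2 lc_a_rc_4_2 lc_a_Cert_tree lc_a_rc_3_2 lc_a_rc_2_2 lc_a_rc_21_0 lc_a_rc_3_2 lc_a_rc_0_1 lc_a_rc_4_2 lc_a_rc_22_0 lc_a_rc_4_2 lc_a_rc_21_0 lc_a_rc_0_1 lc_a_rc_5_0 lc_a_rc_4_2 lc_a_rc_5_2 lc_a_rc_21_0 lc_a_rc_5_0 lc_a_rc_21_0 lc_a_rc_3_2 lc_a_rc_21_0 lc_a_rc_5_2) (@D3.rec (fun _ => (Cert rels S Gen.a)) lc_a_rc_3_2 lc_a_rc_4_2 lc_a_rc_21_0 lc_a_rc_0_1 lc_a_rc_5_2 lc_a_rc_2_0 lc_a_rc_0_1 lc_a_rc_4_2 lc_a_rc_21_0 lc_a_rc_3_2 lc_a_rc_2_2 lc_a_rc_3_2 lc_a_rc_21_0 lc_a_rc_3_2 lc_a_rc_0_1 lc_a_rc_3_2 lc_a_rc_21_0 lc_a_rc_3_2 lc_a_rc_2_2 lc_a_rc_2_0 lc_a_rc_21_0 lc_a_rc_21_0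 lc_a_rc_0_1 lc_a_rc_2_2 lc_a_rc_4_0 lc_a_rc_3_2 lc_a_rc_0_1 lc_a_rc_3_2 lc_a_rc_4_2 lc_a_rc_3_2 lc_a_rc_4_2 lc_a_rc_2_2 lc_a_rc_4_2 lc_a_rc_3_2 lc_a_rc_21_0 lc_a_rc_1_2 lc_a_rc_2_2 lc_a_rc_4_2 lc_a_rc_5_2 lc_a_rc_0_1 lc_a_rc_2_2 lc_a_rc_4_2 lc_a_rc_2_0 lc_a_rc_1_4 lc_a_rc_3_2 lc_a_rc_4_2 lc_a_rc_21_0 lc_a_rc_0_1 lc_a_rc_4_0 lc_a_rc_3_2 lc_a_rc_4_2 lc_a_Cert_tree lc_a_rc_3_2 lc_a_rc_21_0 lc_a_rc_4_2 lc_a_rc_5_2 lc_a_rc_5_0 lc_a_rc_2_2 lc_a_rc_0_1 lc_a_Cert_tree lc_a_rc_3_2 lc_a_Cert_tree) (@D3.rec (fun _ => (Cert rels S Gen.a)) lc_a_rc_3_2 lc_a_rc_3_0 lc_a_rc_2_2 lc_a_rc_4_2 lc_a_rc_21_0 lc_a_rc_4_2 lc_a_Cert_tree lc_a_rc_3_2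 lc_a_rc_5_2 lc_a_rc_4_2 lc_a_rc_4_2 lc_a_rc_2_2 lc_a_rc_3_2 lc_a_rc_3_2 lc_a_rc_3_2 lc_a_rc_3_2 lc_a_rc_3_2 lc_a_rc_2_2 lc_a_rc_4_2 lc_a_rc_2_2 lc_a_rc_0_1 lc_a_rc_2_2 lc_a_Cert_tree lc_a_rc_5_0 lc_a_rc_21_0 lc_a_rc_21_0 lc_a_rc_2_2 lc_a_rc_5_2 lc_a_rc_3_0 lc_a_rc_4_2 lc_a_rc_5_0 lc_a_rc_2_2 lc_a_rc_4_2 lc_a_Cert_tree lc_a_rc_3_2 lc_a_rc_5_0 lc_a_rc_4_2 lc_a_rc_2_0 lc_a_Cert_tree lc_a_rc_3_2 lc_a_rc_4_2 lc_a_rc_0_1 lc_a_rc_4_2 lc_a_rc_5_2 lc_a_rc_4_2 lc_a_Cert_tree lc_a_rc_3_2 lc_a_rc_4_2 lc_a_rc_21_0 lc_a_rc_5_2 lc_a_Cert_tree lc_a_rc_3_2 lc_a_rc_4_2 lc_a_rc_5_0 lc_a_rc_4_2 lc_a_rc_5_2 lc_a_rc_0_1 lc_a_rc_0_1 lc_a_rc_3_2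 lc_a_rc_21_0 lc_a_rc_3_2 lc_a_rc_5_0) (@D3.rec (fun _ => (Cert rels S Gen.a)) lc_a_rc_0_1 lc_a_rc_4_2 lc_a_rc_22_0 lc_a_rc_4_2 lc_a_rc_3_2 lc_a_rc_21_0 lc_a_rc_2_2 lc_a_rc_22_0 lc_a_rc_4_2 lc_a_rc_21_0 lc_a_rc_5_2 lc_a_rc_4_2 lc_a_rc_4_2 lc_a_Cert_tree lc_a_rc_3_2 lc_a_rc_4_2 lc_a_rc_0_1 lc_a_rc_21_0 lc_a_rc_0_1 lc_a_rc_21_0 lc_a_rc_3_2 lc_a_rc_4_2 lc_a_rc_3_2 lc_a_rc_4_2 lc_a_rc_5_2 lc_a_rc_5_0 lc_a_rc_5_0 lc_a_rc_0_1 lc_a_rc_0_1 lc_a_rc_2_0 lc_a_rc_2_2 lc_a_rc_4_2 lc_a_rc_5_2 lc_a_Cert_tree lc_a_rc_1_4 lc_a_rc_3_2 lc_a_rc_0_1 lc_a_rc_21_0 lc_a_rc_2_2 lc_a_rc_1_4 lc_a_rc_4_2 lc_a_rc_2_2 lc_a_rc_0_1 lc_a_rc_5_2 lc_a_rc_3_2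 lc_a_rc_1_4 lc_a_rc_3_2 lc_a_rc_2_2 lc_a_rc_0_1 lc_a_rc_4_2 lc_a_rc_3_2 lc_a_rc_3_0 lc_a_rc_4_2 lc_a_rc_2_2 lc_a_rc_4_2 lc_a_rc_21_0 lc_a_rc_0_1 lc_a_rc_3_2 lc_a_rc_4_2 lc_a_rc_1_2 lc_a_rc_5_2 lc_a_rc_5_0) (@D3.rec (fun _ => (Cert rels S Gen.a)) lc_a_rc_2_2 lc_a_rc_3_2 lc_a_rc_1_2 lc_a_rc_2_2 lc_a_rc_4_2 lc_a_rc_3_2 lc_a_rc_4_2 lc_a_rc_4_2 lc_a_Cert_tree lc_a_rc_3_2 lc_a_rc_4_2 lc_a_Cert_tree lc_a_rc_3_2 lc_a_rc_4_2 lc_a_rc_21_0 lc_a_rc_4_2 lc_a_rc_5_2 lc_a_Cert_tree lc_a_rc_3_2 lc_a_rc_4_2 lc_a_rc_0_1 lc_a_rc_5_2 lc_a_Cert_tree lc_a_rc_3_2 lc_a_rc_4_2 lc_a_Cert_tree lc_a_rc_3_2 lc_a_rc_4_2 lc_a_Cert_tree lc_a_rc_0_1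 lc_a_rc_0_1 lc_a_rc_0_1 lc_a_rc_21_0 lc_a_rc_5_0 lc_a_rc_3_2 lc_a_rc_2_2 lc_a_rc_3_2 lc_a_rc_22_0 lc_a_rc_5_2 lc_a_rc_2_2 lc_a_rc_4_2 lc_a_rc_0_1 lc_a_rc_4_2 lc_a_rc_3_2 lc_a_Cert_tree lc_a_rc_3_2 lc_a_rc_1_4 lc_a_rc_2_2 lc_a_rc_3_2 lc_a_rc_2_0 lc_a_rc_21_0 lc_a_rc_4_2 lc_a_Cert_tree lc_a_rc_22_0 lc_a_rc_21_0 lc_a_rc_4_2 lc_a_Cert_tree lc_a_rc_3_2 lc_a_rc_2_2 lc_a_rc_0_1 lc_a_rc_5_2 lc_a_Cert_tree) (@D3.rec (fun _ => (Cert rels S Gen.a)) lc_a_rc_22_0 lc_a_rc_4_2 lc_a_rc_3_2 lc_a_rc_3_2 lc_a_rc_5_2 lc_a_Cert_tree lc_a_rc_3_2 lc_a_rc_4_2 lc_a_Cert_tree lc_a_rc_3_2 lc_a_rc_4_2 lc_a_Cert_tree lc_a_rc_0_1 lc_a_rc_0_1 lc_a_rc_2_2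 lc_a_rc_21_0 lc_a_rc_5_0 lc_a_rc_3_2 lc_a_rc_22_0 lc_a_rc_3_0 lc_a_rc_22_0 lc_a_rc_4_2 lc_a_rc_2_2 lc_a_rc_3_2 lc_a_rc_2_2 lc_a_rc_3_2 lc_a_rc_2_2 lc_a_Cert_tree lc_a_rc_3_2 lc_a_rc_2_2 lc_a_rc_4_2 lc_a_rc_1_2 lc_a_Cert_tree lc_a_rc_2_2 lc_a_rc_2_2 lc_a_rc_21_0 lc_a_rc_5_2 lc_a_rc_3_2 lc_a_Cert_tree lc_a_rc_3_2 lc_a_rc_2_2 lc_a_rc_4_2 lc_a_rc_5_2 lc_a_Cert_tree lc_a_rc_3_2 lc_a_rc_2_2 lc_a_rc_4_2 lc_a_rc_21_0 lc_a_Cert_tree lc_a_rc_22_0 lc_a_rc_4_2 lc_a_Cert_tree lc_a_rc_3_2 lc_a_rc_4_2 lc_a_Cert_tree lc_a_rc_0_1 lc_a_rc_0_1 lc_a_rc_3_2 lc_a_rc_4_0 lc_a_rc_0_1 lc_a_rc_2_2 lc_a_rc_4_2) (@D3.rec (fun _ => (Cert rels S Gen.a))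 lc_a_rc_4_2 lc_a_rc_2_0 lc_a_Cert_tree lc_a_rc_3_2 lc_a_rc_2_2 lc_a_rc_5_0 lc_a_rc_4_2 lc_a_rc_21_0 lc_a_rc_5_0 lc_a_rc_5_0 lc_a_rc_4_2 lc_a_rc_4_2 lc_a_Cert_tree lc_a_rc_2_2 lc_a_rc_21_0 lc_a_rc_3_2 lc_a_rc_5_2 lc_a_Cert_tree lc_a_rc_5_0 lc_a_rc_4_2 lc_a_rc_21_0 lc_a_rc_3_2 lc_a_rc_21_0 lc_a_rc_0_1 lc_a_rc_3_2 lc_a_rc_2_2 lc_a_Cert_tree lc_a_rc_2_2 lc_a_rc_4_2 lc_a_Cert_tree lc_a_rc_3_2 lc_a_rc_2_2 lc_a_rc_2_2 lc_a_rc_21_0 lc_a_rc_0_1 lc_a_rc_3_2 lc_a_rc_4_2 lc_a_rc_0_1 lc_a_rc_3_0 lc_a_rc_4_2 lc_a_rc_5_0 lc_a_rc_2_2 lc_a_rc_3_2 lc_a_rc_2_2 lc_a_rc_5_0 lc_a_rc_5_0 lc_a_rc_2_2 lc_a_rc_21_0 lc_a_rc_3_2 lc_a_rc_4_2 lc_a_rc_4_2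 lc_a_rc_2_2 lc_a_Cert_tree lc_a_rc_2_2 lc_a_rc_4_2 lc_a_rc_2_2 lc_a_rc_4_2 lc_a_rc_21_0 lc_a_rc_4_2 lc_a_rc_3_0 lc_a_rc_4_2 lc_a_Cert_tree) (@D3.rec (fun _ => (Cert rels S Gen.a)) lc_a_rc_3_2 lc_a_rc_4_2 lc_a_rc_1_4 lc_a_rc_4_2 lc_a_rc_5_2 lc_a_rc_2_2 lc_a_rc_3_2 lc_a_Cert_tree lc_a_rc_2_2 lc_a_rc_0_1 lc_a_rc_3_0 lc_a_rc_4_2 lc_a_rc_5_2 lc_a_rc_2_2 lc_a_rc_5_0 lc_a_rc_1_2 lc_a_rc_0_1 lc_a_rc_3_2 lc_a_rc_4_2 lc_a_rc_4_2 lc_a_rc_0_1 lc_a_rc_4_2 lc_a_rc_3_2 lc_a_rc_5_2 lc_a_rc_2_2 lc_a_rc_2_2 lc_a_rc_21_0 lc_a_rc_3_2 lc_a_rc_4_2 lc_a_rc_5_2 lc_a_Cert_tree lc_a_rc_21_0 lc_a_Cert_tree lc_a_rc_3_2 lc_a_rc_2_2 lc_a_rc_4_2 lc_a_rc_5_0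 lc_a_Cert_tree lc_a_rc_4_2 lc_a_Cert_tree lc_a_rc_22_0 lc_a_rc_0_1 lc_a_rc_0_1 lc_a_rc_3_2 lc_a_rc_4_2 lc_a_rc_2_2 lc_a_rc_21_0 lc_a_rc_3_2 lc_a_rc_5_0 lc_a_rc_2_2 lc_a_rc_3_2 lc_a_rc_5_2 lc_a_rc_1_4 lc_a_rc_2_2 lc_a_rc_3_2 lc_a_rc_21_0 lc_a_rc_1_2 lc_a_rc_2_2 lc_a_rc_4_2 lc_a_Cert_tree lc_a_rc_5_0 lc_a_rc_21_0) (@D3.rec (fun _ => (Cert rels S Gen.a)) lc_a_Cert_tree lc_a_rc_5_0 lc_a_rc_3_2 lc_a_rc_5_2 lc_a_rc_21_0 lc_a_rc_0_1 lc_a_rc_0_1 lc_a_rc_3_2 lc_a_rc_4_2 lc_a_rc_4_2 lc_a_rc_21_0 lc_a_rc_4_2 lc_a_rc_3_2 lc_a_rc_2_2 lc_a_rc_4_2 lc_a_rc_21_0 lc_a_rc_5_0 lc_a_rc_5_0 lc_a_rc_21_0 lc_a_rc_3_2 lc_a_rc_21_0 lc_a_rc_0_1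 lc_a_rc_0_1 lc_a_rc_2_2 lc_a_rc_3_2 lc_a_rc_4_2 lc_a_rc_4_2 lc_a_rc_0_1 lc_a_rc_21_0 lc_a_rc_4_2 lc_a_rc_3_2 lc_a_rc_5_2 lc_a_rc_0_1 lc_a_rc_21_0 lc_a_rc_0_1 lc_a_rc_3_2 lc_a_rc_4_2 lc_a_rc_1_4 lc_a_rc_3_2 lc_a_rc_5_2 lc_a_rc_0_1 lc_a_rc_0_1 lc_a_Cert_tree lc_a_rc_3_2 lc_a_rc_4_2 lc_a_Cert_tree lc_a_rc_21_0 lc_a_rc_3_2 lc_a_rc_0_1 lc_a_rc_3_2 lc_a_rc_2_2 lc_a_rc_4_2 lc_a_rc_3_0 lc_a_rc_1_4 lc_a_Cert_tree lc_a_rc_4_2 lc_a_Cert_tree lc_a_rc_4_2 lc_a_Cert_tree lc_a_rc_4_2 lc_a_rc_3_2 lc_a_rc_5_0) (@D3.rec (fun _ => (Cert rels S Gen.a)) lc_a_rc_5_2 lc_a_rc_4_2 lc_a_rc_2_2 lc_a_rc_2_2 lc_a_rc_4_2 lc_a_rc_4_2 lc_a_rc_3_2 lc_a_rc_3_2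 lc_a_rc_4_2 lc_a_rc_4_2 lc_a_rc_4_2 lc_a_rc_1_2 lc_a_Cert_tree lc_a_rc_4_2 lc_a_rc_21_0 lc_a_Cert_tree lc_a_rc_3_2 lc_a_rc_4_2 lc_a_rc_5_0 lc_a_rc_4_2 lc_a_rc_5_2 lc_a_rc_2_2 lc_a_rc_4_2 lc_a_rc_2_2 lc_a_rc_4_2 lc_a_Cert_tree lc_a_rc_4_2 lc_a_rc_3_2 lc_a_rc_4_2 lc_a_rc_4_0 lc_a_Cert_tree lc_a_rc_2_2 lc_a_rc_4_2 lc_a_rc_3_2 lc_a_rc_5_2 lc_a_Cert_tree lc_a_rc_3_2 lc_a_rc_4_2 lc_a_rc_0_1 lc_a_rc_21_0 lc_a_Cert_tree lc_a_rc_2_2 lc_a_rc_4_2 lc_a_Cert_tree lc_a_rc_3_2 lc_a_rc_2_2 lc_a_rc_0_1 lc_a_rc_21_0 lc_a_rc_0_1 lc_a_rc_22_0 lc_a_rc_2_2 lc_a_rc_3_0 lc_a_rc_3_0 lc_a_rc_4_2 lc_a_rc_2_2 lc_a_rc_4_2 lc_a_rc_3_2 lc_a_rc_5_2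 lc_a_rc_21_0 lc_a_rc_21_0 lc_a_rc_4_2 lc_a_rc_21_0) (@D3.rec (fun _ => (Cert rels S Gen.a)) lc_a_rc_21_0 lc_a_rc_3_2 lc_a_rc_0_1 lc_a_rc_21_0 lc_a_rc_0_1 lc_a_rc_2_2 lc_a_rc_3_2 lc_a_rc_2_2 lc_a_rc_21_0 lc_a_rc_2_2 lc_a_rc_5_0 lc_a_rc_4_2 lc_a_Cert_tree lc_a_rc_3_2 lc_a_rc_4_2 lc_a_rc_21_0 lc_a_rc_3_2 lc_a_rc_4_2 lc_a_Cert_tree lc_a_rc_3_2 lc_a_rc_4_2 lc_a_Cert_tree lc_a_rc_21_0 lc_a_rc_4_2 lc_a_rc_0_1 lc_a_rc_21_0 lc_a_rc_0_1 lc_a_rc_3_2 lc_a_rc_0_1 lc_a_rc_2_0 lc_a_rc_2_2 lc_a_rc_2_2 lc_a_rc_22_0 lc_a_rc_3_2 lc_a_rc_1_2 lc_a_rc_2_2 lc_a_rc_5_0 lc_a_rc_4_2 lc_a_rc_4_2 lc_a_rc_5_2 lc_a_Cert_tree lc_a_rc_21_0 lc_a_rc_5_2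 lc_a_rc_2_2 lc_a_rc_22_0 lc_a_rc_1_2 lc_a_rc_1_2 lc_a_rc_21_0 lc_a_rc_2_2 lc_a_Cert_tree lc_a_rc_3_2 lc_a_rc_5_2 lc_a_rc_21_0 lc_a_rc_3_2 lc_a_rc_0_1 lc_a_Cert_tree lc_a_rc_3_2 lc_a_rc_4_2 lc_a_rc_21_0 lc_a_rc_4_2 lc_a_rc_5_2 lc_a_Cert_tree) (@D3.rec (fun _ => (Cert rels S Gen.a)) lc_a_rc_4_2 lc_a_Cert_tree lc_a_rc_0_1 lc_a_rc_21_0 lc_a_rc_0_1 lc_a_rc_3_2 lc_a_rc_2_2 lc_a_rc_3_2 lc_a_rc_2_2 lc_a_rc_4_2 lc_a_rc_21_0 lc_a_rc_4_2 lc_a_rc_3_2 lc_a_rc_5_2 lc_a_rc_4_2 lc_a_rc_21_0 lc_a_rc_21_0 lc_a_rc_5_0 lc_a_rc_4_2 lc_a_rc_5_0 lc_a_rc_2_2 lc_a_rc_2_2 lc_a_rc_4_2 lc_a_rc_2_2 lc_a_rc_2_2 lc_a_rc_3_2 lc_a_rc_21_0 lc_a_rc_21_0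 lc_a_rc_5_0 lc_a_Cert_tree lc_a_rc_3_2 lc_a_rc_0_1 lc_a_rc_3_2 lc_a_rc_4_2 lc_a_rc_4_2 lc_a_rc_5_2 lc_a_Cert_tree lc_a_Cert_tree lc_a_rc_4_2 lc_a_rc_0_1 lc_a_rc_21_0 lc_a_rc_0_1 lc_a_rc_21_0 lc_a_rc_3_2 lc_a_rc_21_0 lc_a_rc_2_2 lc_a_rc_4_2 lc_a_rc_4_2 lc_a_rc_5_0 lc_a_rc_3_2 lc_a_rc_5_2 lc_a_rc_4_2 lc_a_rc_3_2 lc_a_rc_1_2 lc_a_rc_5_0 lc_a_rc_21_0 lc_a_rc_2_2 lc_a_rc_4_2 lc_a_rc_2_2 lc_a_rc_2_2 lc_a_rc_2_2 lc_a_rc_4_2) (@D3.rec (fun _ => (Cert rels S Gen.a)) lc_a_rc_1_2 lc_a_rc_5_2 lc_a_rc_2_2 lc_a_rc_5_0 lc_a_rc_1_2 lc_a_rc_2_0 lc_a_rc_4_2 lc_a_rc_0_1 lc_a_rc_2_2 lc_a_rc_3_2 lc_a_rc_4_2 lc_a_rc_2_0 lc_a_rc_0_1 lc_a_rc_2_2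 lc_a_rc_4_0 lc_a_rc_1_2 lc_a_rc_0_1 lc_a_Cert_tree lc_a_rc_3_2 lc_a_rc_2_2 lc_a_rc_2_2 lc_a_rc_0_1 lc_a_rc_2_2 lc_a_rc_0_1 lc_a_rc_3_2 lc_a_rc_3_0 lc_a_rc_4_0 lc_a_rc_2_2 lc_a_rc_1_2 lc_a_rc_1_2 lc_a_rc_3_2 lc_a_rc_2_2 lc_a_rc_2_2 lc_a_rc_2_2 lc_a_rc_4_2 lc_a_rc_21_0 lc_a_rc_3_0 lc_a_rc_1_4 lc_a_rc_4_2 lc_a_rc_1_4 lc_a_rc_21_0 lc_a_rc_3_2 lc_a_rc_4_2 lc_a_rc_21_0 lc_a_rc_4_2 lc_a_rc_3_2 lc_a_rc_4_2 lc_a_rc_3_2 lc_a_rc_2_2 lc_a_rc_3_2 lc_a_rc_5_0 lc_a_rc_4_0 lc_a_rc_4_2 lc_a_rc_2_2 lc_a_rc_3_2 lc_a_rc_0_1 lc_a_rc_0_1 lc_a_rc_3_2 lc_a_rc_4_2 lc_a_rc_4_2 lc_a_rc_4_2 lc_a_Cert_tree) (@D3.rec (fun _ => (Cert rels S Gen.a))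 lc_a_rc_3_2 lc_a_rc_4_2 lc_a_rc_3_2 lc_a_rc_1_2 lc_a_rc_3_2 lc_a_rc_4_2 lc_a_rc_5_0 lc_a_rc_4_2 lc_a_rc_5_2 lc_a_rc_4_2 lc_a_Cert_tree lc_a_rc_2_2 lc_a_rc_4_2 lc_a_rc_1_4 lc_a_rc_1_2 lc_a_rc_5_2 lc_a_rc_21_0 lc_a_rc_3_2 lc_a_rc_5_2 lc_a_rc_3_2 lc_a_rc_2_2 lc_a_rc_0_1 lc_a_rc_21_0 lc_a_Cert_tree lc_a_rc_3_2 lc_a_rc_4_2 lc_a_Cert_tree lc_a_rc_22_0 lc_a_rc_4_2 lc_a_rc_4_0 lc_a_rc_2_0 lc_a_rc_22_0 lc_a_rc_0_1 lc_a_rc_2_0 lc_a_rc_2_2 lc_a_rc_4_2 lc_a_rc_3_0 lc_a_rc_2_2 lc_a_rc_21_0 lc_a_rc_2_2 lc_a_rc_5_0 lc_a_rc_4_2 lc_a_rc_4_2 lc_a_rc_3_2 lc_a_rc_21_0 lc_a_rc_3_2 lc_a_Cert_tree lc_a_rc_3_2 lc_a_rc_4_2 lc_a_rc_5_0 lc_a_rc_4_2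 lc_a_rc_5_2 lc_a_rc_0_1 lc_a_rc_2_2 lc_a_rc_21_0 lc_a_rc_2_2 lc_a_rc_5_2 lc_a_rc_21_0 lc_a_rc_4_0 lc_a_rc_4_2 lc_a_rc_1_4 lc_a_rc_3_2) (@D3.rec (fun _ => (Cert rels S Gen.a)) lc_a_rc_1_4 lc_a_rc_1_4 lc_a_rc_4_2 lc_a_rc_0_1 lc_a_rc_4_2 lc_a_rc_4_2 lc_a_rc_4_2 lc_a_rc_22_0 lc_a_rc_3_2 lc_a_rc_4_2 lc_a_Cert_tree lc_a_rc_3_2 lc_a_rc_4_2 lc_a_rc_3_2 lc_a_rc_2_2 lc_a_rc_3_2 lc_a_rc_3_2 lc_a_rc_2_2 lc_a_rc_4_2 lc_a_Cert_tree lc_a_rc_3_2 lc_a_rc_4_2 lc_a_rc_3_2 lc_a_rc_5_2 lc_a_Cert_tree lc_a_rc_3_2 lc_a_rc_4_2 lc_a_rc_3_2 lc_a_rc_21_0 lc_a_rc_4_2 lc_a_rc_1_2 lc_a_rc_1_2 lc_a_rc_0_1 lc_a_rc_3_2 lc_a_rc_2_0 lc_a_rc_2_2 lc_a_rc_3_0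 lc_a_rc_2_0 lc_a_rc_3_2 lc_a_rc_2_2 lc_a_rc_21_0 lc_a_rc_2_2 lc_a_rc_1_4 lc_a_rc_1_4 lc_a_rc_2_2 lc_a_rc_2_2 lc_a_Cert_tree lc_a_rc_0_1 lc_a_rc_0_1 lc_a_rc_2_0 lc_a_rc_0_1 lc_a_rc_5_2 lc_a_rc_0_1 lc_a_rc_4_2 lc_a_rc_3_2 lc_a_rc_21_0 lc_a_rc_3_2 lc_a_rc_1_2 lc_a_rc_3_2 lc_a_rc_3_2 lc_a_rc_3_2 lc_a_rc_2_2) (@D3.rec (fun _ => (Cert rels S Gen.a)) lc_a_rc_4_2 lc_a_rc_1_2 lc_a_Cert_tree lc_a_rc_4_2 lc_a_rc_21_0 lc_a_rc_0_1 lc_a_rc_5_2 lc_a_rc_4_2 lc_a_rc_3_2 lc_a_rc_2_2 lc_a_rc_3_2 lc_a_rc_4_2 lc_a_Cert_tree lc_a_rc_3_2 lc_a_rc_4_2 lc_a_rc_5_2 lc_a_rc_2_2 lc_a_rc_4_2 lc_a_rc_4_2 lc_a_Cert_tree lc_a_rc_3_2 lc_a_rc_4_2 lc_a_rc_3_2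 lc_a_rc_4_2 lc_a_Cert_tree lc_a_rc_3_2 lc_a_rc_4_2 lc_a_rc_4_2 lc_a_rc_4_2 lc_a_Cert_tree lc_a_rc_21_0 lc_a_rc_4_2 lc_a_rc_2_2 lc_a_rc_3_2 lc_a_rc_4_2 lc_a_rc_4_0 lc_a_rc_3_2 lc_a_rc_2_2 lc_a_rc_21_0 lc_a_rc_3_2 lc_a_rc_5_2 lc_a_rc_4_2 lc_a_rc_2_2 lc_a_rc_4_2 lc_a_Cert_tree lc_a_rc_2_2 lc_a_rc_4_2 lc_a_rc_21_0 lc_a_rc_4_2 lc_a_Cert_tree lc_a_rc_3_2 lc_a_rc_4_2 lc_a_rc_5_0 lc_a_rc_4_2 lc_a_rc_4_2 lc_a_rc_5_2 lc_a_rc_4_2 lc_a_Cert_tree lc_a_rc_21_0 lc_a_rc_4_2 lc_a_rc_4_2 lc_a_rc_21_0) (@D3.rec (fun _ => (Cert rels S Gen.a)) lc_a_rc_3_2 lc_a_rc_5_2 lc_a_Cert_tree lc_a_rc_3_2 lc_a_rc_4_2 lc_a_Cert_tree lc_a_rc_0_1 lc_a_rc_0_1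 lc_a_rc_3_2 lc_a_rc_21_0 lc_a_rc_22_0 lc_a_rc_0_1 lc_a_rc_4_2 lc_a_rc_22_0 lc_a_rc_4_2 lc_a_rc_0_1 lc_a_rc_21_0 lc_a_Cert_tree lc_a_rc_21_0 lc_a_rc_4_2 lc_a_rc_3_2 lc_a_rc_3_2 lc_a_rc_5_2 lc_a_Cert_tree lc_a_rc_3_2 lc_a_rc_2_2 lc_a_rc_5_0 lc_a_rc_4_2 lc_a_rc_5_2 lc_a_Cert_tree lc_a_rc_0_1 lc_a_rc_0_1 lc_a_rc_3_2 lc_a_rc_21_0 lc_a_rc_3_2 lc_a_rc_5_2 lc_a_rc_21_0 lc_a_rc_3_2 lc_a_rc_0_1 lc_a_rc_2_2 lc_a_rc_21_0 lc_a_rc_3_2 lc_a_rc_4_2 lc_a_rc_3_2 lc_a_rc_4_2 lc_a_rc_3_2 lc_a_rc_5_0 lc_a_rc_4_2 lc_a_rc_21_0 lc_a_rc_3_0 lc_a_rc_3_2 lc_a_rc_1_4 lc_a_rc_22_0 lc_a_rc_21_0 lc_a_rc_4_2 lc_a_rc_21_0 lc_a_rc_4_2 lc_a_rc_21_0 lc_a_rc_3_2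 lc_a_rc_0_1 lc_a_rc_4_2 lc_a_rc_2_2) (@D3.rec (fun _ => (Cert rels S Gen.a)) lc_a_rc_21_0 lc_a_rc_4_2 lc_a_rc_5_2 lc_a_rc_3_0 lc_a_rc_3_2 lc_a_rc_4_2 lc_a_rc_21_0 lc_a_rc_0_1 lc_a_rc_2_2 lc_a_rc_21_0 lc_a_rc_21_0 lc_a_rc_0_1 lc_a_rc_3_2 lc_a_rc_4_2 lc_a_rc_3_2 lc_a_rc_5_0 lc_a_rc_0_1 lc_a_rc_0_1 lc_a_rc_2_0 lc_a_rc_2_2 lc_a_rc_21_0 lc_a_rc_4_2 lc_a_rc_5_2 lc_a_Cert_tree lc_a_rc_2_2 lc_a_rc_3_2 lc_a_rc_4_2 lc_a_rc_3_2 lc_a_rc_0_1 lc_a_rc_21_0 lc_a_rc_4_2 lc_a_rc_4_2 lc_a_rc_21_0 lc_a_rc_2_2 lc_a_rc_5_2 lc_a_rc_3_2 lc_a_rc_5_0 lc_a_rc_4_2 lc_a_rc_4_2 lc_a_rc_21_0 lc_a_Cert_tree lc_a_rc_3_2 lc_a_rc_4_2 lc_a_rc_3_2 lc_a_rc_0_1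 lc_a_rc_22_0 lc_a_Cert_tree lc_a_rc_3_2 lc_a_rc_4_2 lc_a_rc_4_2 lc_a_rc_0_1 lc_a_rc_5_2 lc_a_Cert_tree lc_a_rc_3_2 lc_a_rc_4_2 lc_a_Cert_tree lc_a_rc_3_2 lc_a_rc_4_2 lc_a_Cert_tree lc_a_rc_0_1 lc_a_rc_0_1 lc_a_rc_3_2) (@D3.rec (fun _ => (Cert rels S Gen.a)) lc_a_rc_21_0 lc_a_rc_2_2 lc_a_rc_2_2 lc_a_rc_0_1 lc_a_rc_22_0 lc_a_rc_4_2 lc_a_rc_3_2 lc_a_rc_4_2 lc_a_Cert_tree lc_a_rc_3_2 lc_a_rc_4_2 lc_a_Cert_tree lc_a_rc_3_2 lc_a_rc_2_2 lc_a_rc_4_0 lc_a_rc_3_2 lc_a_rc_4_2 lc_a_rc_4_0 lc_a_rc_5_2 lc_a_Cert_tree lc_a_rc_3_2 lc_a_rc_4_2 lc_a_rc_4_0 lc_a_rc_22_0 lc_a_rc_4_2 lc_a_Cert_tree lc_a_rc_0_1 lc_a_rc_0_1 lc_a_rc_3_2 lc_a_rc_21_0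 lc_a_rc_2_2 lc_a_rc_5_0 lc_a_rc_3_2 lc_a_rc_4_2 lc_a_rc_4_2 lc_a_rc_2_2 lc_a_Cert_tree lc_a_rc_2_2 lc_a_rc_4_2 lc_a_rc_4_2 lc_a_rc_5_2 lc_a_Cert_tree lc_a_rc_2_0 lc_a_rc_4_2 lc_a_rc_3_0 lc_a_rc_5_2 lc_a_rc_4_2 lc_a_rc_2_0 lc_a_Cert_tree lc_a_rc_2_0 lc_a_rc_4_2 lc_a_rc_4_2 lc_a_rc_5_2 lc_a_Cert_tree lc_a_rc_22_0 lc_a_rc_4_2 lc_a_rc_4_2 lc_a_rc_5_2 lc_a_Cert_tree lc_a_rc_3_2 lc_a_rc_2_2 lc_a_Cert_tree) (@D3.rec (fun _ => (Cert rels S Gen.a)) lc_a_rc_21_0 lc_a_rc_4_2 lc_a_Cert_tree lc_a_rc_0_1 lc_a_rc_0_1 lc_a_rc_3_2 lc_a_rc_1_4 lc_a_rc_3_2 lc_a_rc_21_0 lc_a_rc_4_2 lc_a_rc_4_2 lc_a_Cert_tree lc_a_rc_3_2 lc_a_rc_4_2 lc_a_rc_3_2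 lc_a_rc_3_2 lc_a_rc_5_2 lc_a_rc_2_2 lc_a_rc_21_0 lc_a_rc_2_2 lc_a_Cert_tree lc_a_rc_21_0 lc_a_rc_4_2 lc_a_Cert_tree lc_a_rc_3_2 lc_a_rc_4_2 lc_a_rc_2_2 lc_a_rc_0_1 lc_a_rc_0_1 lc_a_rc_3_2 lc_a_rc_4_2 lc_a_rc_2_0 lc_a_rc_3_0 lc_a_rc_4_2 lc_a_rc_5_0 lc_a_rc_4_2 lc_a_rc_3_2 lc_a_rc_5_2 lc_a_rc_5_0 lc_a_rc_2_2 lc_a_rc_21_0 lc_a_rc_3_2 lc_a_rc_4_2 lc_a_rc_5_2 lc_a_rc_4_0 lc_a_rc_22_0 lc_a_rc_4_2 lc_a_rc_3_2 lc_a_Cert_tree lc_a_rc_3_2 lc_a_rc_4_2 lc_a_rc_0_1 lc_a_rc_3_2 lc_a_rc_5_2 lc_a_Cert_tree lc_a_rc_4_2 lc_a_rc_21_0 lc_a_rc_5_2 lc_a_rc_21_0 lc_a_rc_0_1 lc_a_rc_0_1 lc_a_rc_3_2) (@D3.rec (fun _ => (Cert rels S Gen.a)) lc_a_rc_4_2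 lc_a_rc_4_2 lc_a_rc_21_0 lc_a_rc_2_2 lc_a_rc_4_0 lc_a_rc_3_0 lc_a_rc_2_2 lc_a_rc_0_1 lc_a_rc_2_2 lc_a_Cert_tree lc_a_rc_4_2 lc_a_Cert_tree lc_a_rc_3_0 lc_a_rc_0_1 lc_a_rc_0_1 lc_a_rc_3_2 lc_a_rc_4_2 lc_a_rc_21_0 lc_a_rc_3_2 lc_a_rc_2_2 lc_a_rc_2_2 lc_a_rc_21_0 lc_a_rc_3_2 lc_a_rc_5_2 lc_a_rc_5_0 lc_a_rc_5_0 lc_a_rc_4_2 lc_a_rc_3_2 lc_a_rc_21_0 lc_a_rc_21_0 lc_a_Cert_tree lc_a_rc_3_2 lc_a_rc_4_2 lc_a_rc_2_0 lc_a_rc_2_0 lc_a_rc_5_2 lc_a_rc_21_0 lc_a_rc_0_1 lc_a_rc_0_1 lc_a_rc_3_2 lc_a_rc_4_2 lc_a_rc_4_2 lc_a_rc_2_2 lc_a_rc_5_0 lc_a_rc_3_2 lc_a_rc_5_2 lc_a_rc_4_2 lc_a_rc_1_2 lc_a_rc_2_2 lc_a_rc_2_2 lc_a_rc_5_2 lc_a_rc_21_0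 lc_a_rc_0_1 lc_a_rc_0_1 lc_a_rc_2_2 lc_a_rc_3_2 lc_a_rc_4_2 lc_a_rc_4_2 lc_a_rc_5_2 lc_a_rc_2_2 lc_a_rc_1_4 lc_a_rc_3_2) (@D3.rec (fun _ => (Cert rels S Gen.a)) lc_a_rc_3_0 lc_a_rc_0_1 lc_a_rc_21_0 lc_a_rc_0_1 lc_a_rc_2_2 lc_a_rc_3_2 lc_a_rc_4_2 lc_a_rc_4_2 lc_a_rc_4_2 lc_a_rc_3_2 lc_a_rc_2_2 lc_a_Cert_tree lc_a_rc_2_2 lc_a_Cert_tree lc_a_rc_3_2 lc_a_rc_3_2 lc_a_rc_0_1 lc_a_rc_21_0 lc_a_rc_4_0 lc_a_rc_2_0 lc_a_Cert_tree lc_a_rc_4_2 lc_a_Cert_tree lc_a_rc_4_2 lc_a_Cert_tree lc_a_rc_4_2 lc_a_rc_5_0 lc_a_rc_3_2 lc_a_rc_5_2 lc_a_rc_4_2 lc_a_rc_2_2 lc_a_rc_21_0 lc_a_rc_5_2 lc_a_rc_4_2 lc_a_rc_3_2 lc_a_rc_3_2 lc_a_rc_4_2 lc_a_rc_4_2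 lc_a_rc_3_2 lc_a_rc_21_0 lc_a_rc_4_2 lc_a_Cert_tree lc_a_rc_3_2 lc_a_rc_4_2 lc_a_rc_4_2 lc_a_rc_4_2 lc_a_rc_4_2 lc_a_rc_5_0 lc_a_rc_4_2 lc_a_rc_5_2 lc_a_rc_5_0 lc_a_rc_2_2 lc_a_rc_3_2 lc_a_rc_4_2 lc_a_rc_3_2 lc_a_rc_3_2 lc_a_rc_5_2 lc_a_rc_2_2 lc_a_rc_1_4 lc_a_rc_22_0 lc_a_rc_4_2 lc_a_rc_3_0) (@D3.rec (fun _ => (Cert rels S Gen.a)) lc_a_rc_21_0 lc_a_Cert_tree lc_a_rc_4_2 lc_a_Cert_tree lc_a_rc_21_0 lc_a_rc_0_1 lc_a_rc_21_0 lc_a_rc_0_1 lc_a_rc_3_2 lc_a_rc_5_0 lc_a_rc_3_2 lc_a_rc_4_2 lc_a_rc_2_2 lc_a_rc_2_2 lc_a_rc_3_2 lc_a_rc_21_0 lc_a_rc_5_0 lc_a_rc_5_0 lc_a_rc_4_2 lc_a_rc_4_2 lc_a_rc_3_2 lc_a_rc_21_0 lc_a_Cert_tree lc_a_rc_2_2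 lc_a_rc_1_4 lc_a_rc_3_2 lc_a_rc_0_1 lc_a_rc_3_2 lc_a_rc_4_2 lc_a_rc_3_2 lc_a_rc_2_2 lc_a_rc_0_1 lc_a_rc_5_2 lc_a_rc_4_2 lc_a_rc_5_0 lc_a_Cert_tree lc_a_rc_2_0 lc_a_rc_4_2 lc_a_rc_4_0 lc_a_rc_3_2 lc_a_rc_4_2 lc_a_rc_2_2 lc_a_rc_2_0 lc_a_Cert_tree lc_a_rc_3_2 lc_a_rc_4_2 lc_a_Cert_tree lc_a_rc_3_2 lc_a_rc_4_2 lc_a_rc_3_2 lc_a_rc_5_2 lc_a_Cert_tree lc_a_rc_2_2 lc_a_Cert_tree lc_a_rc_4_2 lc_a_rc_0_1 lc_a_rc_21_0 lc_a_rc_0_1 lc_a_rc_4_0 lc_a_rc_2_2 lc_a_rc_3_2 lc_a_rc_21_0) (@D3.rec (fun _ => (Cert rels S Gen.a)) lc_a_rc_0_1 lc_a_rc_4_2 lc_a_rc_0_1 lc_a_rc_3_2 lc_a_rc_2_2 lc_a_rc_1_4 lc_a_rc_2_2 lc_a_rc_5_0 lc_a_rc_5_0 lc_a_rc_2_2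 lc_a_rc_4_2 lc_a_rc_22_0 lc_a_rc_5_2 lc_a_rc_3_2 lc_a_rc_4_2 lc_a_rc_4_2 lc_a_rc_21_0 lc_a_rc_5_2 lc_a_Cert_tree lc_a_rc_4_2 lc_a_Cert_tree lc_a_rc_3_2 lc_a_rc_21_0 lc_a_rc_0_1 lc_a_rc_21_0 lc_a_rc_2_2 lc_a_rc_2_2 lc_a_rc_4_2 lc_a_rc_5_0 lc_a_rc_2_2 lc_a_rc_3_2 lc_a_rc_5_2 lc_a_rc_4_2 lc_a_rc_4_2 lc_a_rc_3_2 lc_a_rc_21_0 lc_a_rc_5_0 lc_a_rc_2_2 lc_a_rc_3_2 lc_a_rc_0_1 lc_a_rc_2_2 lc_a_rc_4_2 lc_a_rc_21_0 lc_a_rc_0_1 lc_a_rc_3_0 lc_a_rc_4_0 lc_a_rc_21_0 lc_a_rc_21_0 lc_a_rc_21_0 lc_a_rc_1_4 lc_a_rc_2_2 lc_a_Cert_tree lc_a_rc_3_2 lc_a_rc_4_2 lc_a_rc_1_4 lc_a_rc_5_2 lc_a_Cert_tree lc_a_Cert_tree lc_a_rc_4_2 lc_a_rc_0_1 lc_a_rc_21_0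 lc_a_rc_0_1) (@D3.rec (fun _ => (Cert rels S Gen.a)) lc_a_rc_3_2 lc_a_rc_3_2 lc_a_rc_4_2 lc_a_rc_2_2 lc_a_rc_4_2 lc_a_rc_3_2 lc_a_rc_5_2 lc_a_rc_0_1 lc_a_rc_21_0 lc_a_rc_21_0 lc_a_rc_2_2 lc_a_rc_21_0 lc_a_rc_1_4 lc_a_rc_2_2 lc_a_rc_4_2 lc_a_rc_3_0 lc_a_rc_5_0 lc_a_rc_2_2 lc_a_rc_4_2 lc_a_rc_2_0 lc_a_rc_2_2 lc_a_rc_3_0 lc_a_rc_0_1 lc_a_rc_2_2 lc_a_rc_21_0 lc_a_rc_5_2 lc_a_rc_2_2 lc_a_rc_4_2 lc_a_rc_2_2 lc_a_rc_1_4 lc_a_rc_5_0 lc_a_rc_2_0 lc_a_rc_1_4 lc_a_rc_0_1 lc_a_rc_1_4 lc_a_rc_4_0 lc_a_rc_21_0 lc_a_rc_0_1 lc_a_Cert_tree lc_a_rc_2_2 lc_a_rc_4_2 lc_a_rc_3_2 lc_a_rc_4_0 lc_a_rc_2_2 lc_a_rc_4_0 lc_a_rc_1_4 lc_a_rc_3_2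 lc_a_rc_2_2 lc_a_rc_3_0 lc_a_rc_2_2 lc_a_rc_3_2 lc_a_rc_5_0 lc_a_rc_4_0 lc_a_rc_2_2 lc_a_rc_4_2 lc_a_rc_5_0 lc_a_rc_5_0 lc_a_rc_3_2 lc_a_rc_4_2 lc_a_rc_3_2 lc_a_rc_21_0 lc_a_rc_4_2) (@D3.rec (fun _ => (Cert rels S Gen.a)) lc_a_rc_5_0 lc_a_rc_4_2 lc_a_rc_5_2 lc_a_rc_4_2 lc_a_Cert_tree lc_a_rc_21_0 lc_a_rc_4_2 lc_a_rc_0_1 lc_a_rc_5_2 lc_a_Cert_tree lc_a_rc_2_2 lc_a_rc_2_2 lc_a_rc_3_0 lc_a_rc_21_0 lc_a_rc_1_2 lc_a_rc_3_2 lc_a_rc_4_2 lc_a_rc_2_2 lc_a_rc_1_4 lc_a_rc_2_2 lc_a_rc_0_1 lc_a_rc_2_0 lc_a_rc_4_2 lc_a_rc_4_2 lc_a_rc_2_2 lc_a_rc_3_2 lc_a_rc_21_0 lc_a_rc_21_0 lc_a_rc_5_0 lc_a_rc_4_2 lc_a_rc_2_2 lc_a_rc_3_2 lc_a_rc_21_0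 lc_a_rc_1_0 lc_a_rc_2_2 lc_a_rc_2_2 lc_a_rc_2_2 lc_a_rc_2_2 lc_a_rc_4_0 lc_a_rc_0_1 lc_a_rc_2_2 lc_a_rc_4_2 lc_a_rc_0_1 lc_a_rc_21_0 lc_a_rc_0_1 lc_a_rc_21_0 lc_a_rc_5_2 lc_a_rc_21_0 lc_a_rc_3_2 lc_a_rc_0_1 lc_a_rc_4_2 lc_a_rc_22_0 lc_a_rc_5_2 lc_a_rc_21_0 lc_a_rc_21_0 lc_a_rc_3_2 lc_a_rc_21_0 lc_a_rc_3_2 lc_a_rc_4_2 lc_a_rc_5_2 lc_a_Cert_tree lc_a_rc_3_2) (@D3.rec (fun _ => (Cert rels S Gen.a)) lc_a_rc_5_2 lc_a_rc_3_2 lc_a_rc_4_2 lc_a_rc_4_2 lc_a_Cert_tree lc_a_rc_22_0 lc_a_rc_4_2 lc_a_rc_1_2 lc_a_rc_3_2 lc_a_rc_4_2 lc_a_rc_4_2 lc_a_Cert_tree lc_a_rc_3_2 lc_a_rc_2_2 lc_a_rc_4_2 lc_a_Cert_tree lc_a_rc_2_2 lc_a_rc_4_2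 lc_a_rc_1_4 lc_a_rc_4_2 lc_a_rc_0_1 lc_a_rc_2_2 lc_a_rc_4_2 lc_a_Cert_tree lc_a_rc_3_2 lc_a_rc_4_2 lc_a_rc_2_0 lc_a_rc_4_2 lc_a_rc_21_0 lc_a_rc_3_2 lc_a_rc_5_0 lc_a_rc_21_0 lc_a_rc_1_4 lc_a_rc_1_2 lc_a_rc_4_2 lc_a_rc_4_0 lc_a_rc_2_0 lc_a_rc_0_1 lc_a_rc_0_1 lc_a_rc_2_2 lc_a_rc_21_0 lc_a_rc_0_1 lc_a_rc_21_0 lc_a_Cert_tree lc_a_rc_4_2 lc_a_rc_21_0 lc_a_rc_4_2 lc_a_rc_5_2 lc_a_rc_3_0 lc_a_rc_2_2 lc_a_rc_4_2 lc_a_rc_21_0 lc_a_rc_5_2 lc_a_Cert_tree lc_a_rc_4_2 lc_a_rc_3_2 lc_a_Cert_tree lc_a_rc_0_1 lc_a_rc_0_1 lc_a_rc_3_2 lc_a_rc_21_0 lc_a_rc_4_2) (@D3.rec (fun _ => (Cert rels S Gen.a)) lc_a_rc_4_2 lc_a_rc_3_2 lc_a_rc_4_0 lc_a_rc_4_2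 lc_a_rc_21_0 lc_a_rc_0_1 lc_a_rc_5_2 lc_a_rc_3_2 lc_a_rc_3_2 lc_a_rc_4_2 lc_a_rc_3_2 lc_a_rc_1_4 lc_a_rc_4_2 lc_a_rc_0_1 lc_a_rc_3_2 lc_a_rc_21_0 lc_a_rc_3_2 lc_a_rc_3_2 lc_a_rc_0_1 lc_a_rc_3_0 lc_a_rc_21_0 lc_a_rc_4_2 lc_a_rc_3_0 lc_a_rc_3_2 lc_a_rc_3_2 lc_a_Cert_tree lc_a_rc_4_2 lc_a_rc_21_0 lc_a_rc_0_1 lc_a_rc_5_2 lc_a_rc_4_2 lc_a_rc_4_2 lc_a_rc_4_2 lc_a_Cert_tree lc_a_rc_5_0 lc_a_rc_4_2 lc_a_Cert_tree lc_a_rc_2_2 lc_a_rc_4_2 lc_a_Cert_tree lc_a_rc_2_2 lc_a_Cert_tree lc_a_rc_0_1 lc_a_rc_0_1 lc_a_rc_3_2 lc_a_rc_21_0 lc_a_rc_4_2 lc_a_rc_4_2 lc_a_rc_5_2 lc_a_rc_4_2 lc_a_rc_5_0 lc_a_rc_3_2 lc_a_rc_4_2 lc_a_rc_4_2 lc_a_rc_4_2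 lc_a_rc_5_0 lc_a_rc_1_2 lc_a_rc_4_2 lc_a_rc_3_2 lc_a_rc_3_2 lc_a_rc_0_1 lc_a_rc_3_0) (@D3.rec (fun _ => (Cert rels S Gen.a)) lc_a_rc_2_2 lc_a_rc_4_2 lc_a_rc_3_2 lc_a_rc_3_2 lc_a_rc_3_2 lc_a_Cert_tree lc_a_rc_4_2 lc_a_rc_3_2 lc_a_rc_21_0 lc_a_rc_5_2 lc_a_rc_4_2 lc_a_Cert_tree lc_a_rc_21_0 lc_a_rc_0_1 lc_a_rc_5_2 lc_a_rc_4_2 lc_a_rc_4_2 lc_a_rc_3_2 lc_a_Cert_tree lc_a_rc_0_1 lc_a_rc_0_1 lc_a_rc_3_2 lc_a_rc_21_0 lc_a_rc_4_2 lc_a_rc_4_2 lc_a_rc_3_2 lc_a_Cert_tree lc_a_rc_3_2 lc_a_rc_2_2 lc_a_rc_4_2 lc_a_rc_21_0 lc_a_Cert_tree lc_a_rc_0_1 lc_a_rc_4_2 lc_a_rc_21_0 lc_a_rc_5_2 lc_a_Cert_tree lc_a_rc_0_1 lc_a_rc_0_1 lc_a_rc_3_2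 lc_a_rc_21_0 lc_a_rc_4_2 lc_a_rc_4_2 lc_a_rc_3_2 lc_a_rc_21_0 lc_a_Cert_tree lc_a_rc_3_2 lc_a_rc_2_2 lc_a_rc_1_0 lc_a_rc_4_2 lc_a_rc_1_2 lc_a_rc_2_2 lc_a_rc_3_2 lc_a_rc_4_0 lc_a_rc_3_2 lc_a_rc_2_2 lc_a_rc_4_2 lc_a_rc_4_2 lc_a_rc_5_2 lc_a_Cert_tree lc_a_rc_3_2 lc_a_rc_2_2) (@D3.rec (fun _ => (Cert rels S Gen.a)) lc_a_rc_4_2 lc_a_rc_21_0 lc_a_rc_1_4 lc_a_rc_22_0 lc_a_rc_4_2 lc_a_Cert_tree lc_a_rc_0_1 lc_a_rc_0_1 lc_a_rc_3_2 lc_a_rc_21_0 lc_a_rc_0_1 lc_a_rc_4_2 lc_a_rc_4_2 lc_a_rc_4_2 lc_a_Cert_tree lc_a_rc_2_2 lc_a_rc_4_2 lc_a_rc_4_2 lc_a_rc_4_2 lc_a_rc_4_0 lc_a_Cert_tree lc_a_rc_5_0 lc_a_rc_4_2 lc_a_rc_3_2 lc_a_rc_4_2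 lc_a_Cert_tree lc_a_rc_5_2 lc_a_rc_0_1 lc_a_rc_3_2 lc_a_rc_21_0 lc_a_rc_21_0 lc_a_rc_4_2 lc_a_rc_4_2 lc_a_Cert_tree lc_a_rc_0_1 lc_a_Cert_tree lc_a_rc_3_2 lc_a_rc_4_2 lc_a_rc_3_2 lc_a_rc_2_2 lc_a_rc_0_1 lc_a_rc_3_2 lc_a_rc_4_2 lc_a_rc_4_2 lc_a_rc_21_0 lc_a_rc_3_2 lc_a_rc_5_2 lc_a_rc_5_0 lc_a_rc_5_0 lc_a_rc_4_2 lc_a_rc_3_2 lc_a_rc_0_1 lc_a_rc_4_2 lc_a_Cert_tree lc_a_rc_3_2 lc_a_rc_4_2 lc_a_rc_5_2 lc_a_rc_21_0 lc_a_rc_0_1 lc_a_rc_0_1 lc_a_rc_3_2 lc_a_rc_4_2) (@D3.rec (fun _ => (Cert rels S Gen.a)) lc_a_rc_4_2 lc_a_rc_2_2 lc_a_rc_3_2 lc_a_rc_5_2 lc_a_rc_21_0 lc_a_rc_5_2 lc_a_rc_3_2 lc_a_rc_2_2 lc_a_rc_21_0 lc_a_rc_3_2 lc_a_rc_0_1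 lc_a_rc_3_2 lc_a_rc_4_2 lc_a_rc_4_2 lc_a_rc_5_0 lc_a_rc_4_2 lc_a_rc_3_2 lc_a_rc_5_2 lc_a_rc_21_0 lc_a_rc_21_0 lc_a_rc_4_2 lc_a_rc_4_2 lc_a_rc_3_2 lc_a_rc_2_2 lc_a_rc_2_2 lc_a_rc_3_2 lc_a_rc_3_2 lc_a_rc_3_2 lc_a_rc_4_2 lc_a_rc_5_2 lc_a_rc_21_0 lc_a_rc_3_2 lc_a_rc_0_1 lc_a_rc_3_2 lc_a_rc_4_2 lc_a_rc_2_2 lc_a_rc_2_2 lc_a_rc_2_2 lc_a_rc_4_2 lc_a_rc_5_2 lc_a_rc_21_0 lc_a_rc_21_0 lc_a_rc_21_0 lc_a_rc_2_2 lc_a_rc_3_2 lc_a_rc_2_2 lc_a_rc_21_0 lc_a_rc_0_1 lc_a_rc_3_2 lc_a_rc_3_0 lc_a_rc_4_2 lc_a_rc_3_2 lc_a_rc_4_2 lc_a_rc_21_0 lc_a_rc_2_2 lc_a_rc_0_1 lc_a_rc_2_2 lc_a_rc_3_2 lc_a_rc_4_2 lc_a_rc_2_2 lc_a_rc_3_2 lc_a_rc_5_2) (@D3.rec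 (fun _ => (Cert rels S Gen.a)) lc_a_rc_0_1 lc_a_rc_0_1 lc_a_rc_1_2 lc_a_rc_2_2 lc_a_rc_3_2 lc_a_rc_4_2 lc_a_rc_5_2 lc_a_rc_21_0 lc_a_rc_2_2 lc_a_rc_3_2 lc_a_rc_2_2 lc_a_rc_3_2 lc_a_rc_0_1 lc_a_rc_21_0 lc_a_rc_2_2 lc_a_rc_4_2 lc_a_rc_4_2 lc_a_Cert_tree lc_a_rc_4_2 lc_a_Cert_tree lc_a_rc_4_2 lc_a_rc_2_0 lc_a_rc_0_1 lc_a_rc_5_2 lc_a_rc_5_0 lc_a_rc_2_2 lc_a_rc_3_2 lc_a_rc_4_2 lc_a_rc_4_2 lc_a_rc_3_2 lc_a_rc_4_2 lc_a_rc_3_2 lc_a_rc_1_2 lc_a_rc_3_2 lc_a_Cert_tree lc_a_rc_2_2 lc_a_rc_5_0 lc_a_rc_4_2 lc_a_rc_5_2 lc_a_rc_1_2 lc_a_rc_5_0 lc_a_rc_0_1 lc_a_rc_4_2 lc_a_rc_3_2 lc_a_rc_5_2 lc_a_rc_21_0 lc_a_rc_21_0 lc_a_rc_2_2 lc_a_rc_21_0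 lc_a_rc_3_2 lc_a_rc_4_2 lc_a_rc_4_2 lc_a_rc_21_0 lc_a_rc_3_2 lc_a_rc_3_2 lc_a_rc_4_2 lc_a_rc_3_2 lc_a_rc_3_2 lc_a_rc_2_2 lc_a_rc_4_2 lc_a_rc_0_1 lc_a_rc_21_0) (@D3.rec (fun _ => (Cert rels S Gen.a)) lc_a_rc_3_2 lc_a_rc_3_2 lc_a_rc_5_0 lc_a_rc_3_2 lc_a_rc_5_2 lc_a_rc_4_2 lc_a_rc_5_0 lc_a_rc_21_0 lc_a_Cert_tree lc_a_rc_3_2 lc_a_Cert_tree lc_a_rc_3_2 lc_a_rc_4_2 lc_a_rc_3_2 lc_a_rc_5_2 lc_a_rc_0_1 lc_a_rc_21_0 lc_a_rc_0_1 lc_a_rc_4_2 lc_a_rc_3_2 lc_a_rc_5_2 lc_a_rc_2_2 lc_a_rc_3_2 lc_a_rc_3_0 lc_a_rc_3_2 lc_a_rc_1_2 lc_a_rc_3_2 lc_a_rc_21_0 lc_a_rc_3_2 lc_a_rc_2_2 lc_a_rc_4_2 lc_a_rc_4_2 lc_a_rc_4_2 lc_a_rc_5_2 lc_a_rc_5_0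 lc_a_rc_3_2 lc_a_rc_3_2 lc_a_rc_21_0 lc_a_rc_2_2 lc_a_rc_4_2 lc_a_rc_0_1 lc_a_rc_5_0 lc_a_rc_3_2 lc_a_rc_4_2 lc_a_rc_4_2 lc_a_rc_4_2 lc_a_rc_5_0 lc_a_rc_4_2 lc_a_rc_5_2 lc_a_rc_3_2 lc_a_rc_21_0 lc_a_rc_3_2 lc_a_rc_22_0 lc_a_rc_4_2 lc_a_rc_1_4 lc_a_rc_3_0 lc_a_rc_2_2 lc_a_rc_5_0 lc_a_rc_3_2 lc_a_rc_4_2 lc_a_rc_1_2 lc_a_rc_4_2) (@D3.rec (fun _ => (Cert rels S Gen.a)) lc_a_rc_2_0 lc_a_rc_21_0 lc_a_rc_4_2 lc_a_rc_5_2 lc_a_rc_2_2 lc_a_rc_4_2 lc_a_rc_21_0 lc_a_rc_2_2 lc_a_rc_4_2 lc_a_rc_2_0 lc_a_rc_2_0 lc_a_rc_2_2 lc_a_rc_3_2 lc_a_rc_3_2 lc_a_rc_4_0 lc_a_rc_3_2 lc_a_rc_21_0 lc_a_rc_1_0 lc_a_rc_3_2 lc_a_rc_1_2 lc_a_rc_3_2 lc_a_rc_2_2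 lc_a_rc_3_2 lc_a_rc_3_2 lc_a_rc_4_2 lc_a_rc_3_2 lc_a_rc_3_0 lc_a_rc_22_0 lc_a_rc_3_0 lc_a_rc_4_2 lc_a_rc_3_0 lc_a_rc_21_0 lc_a_rc_3_2 lc_a_rc_2_2 lc_a_rc_4_2 lc_a_Cert_tree lc_a_rc_3_0 lc_a_rc_4_2 lc_a_Cert_tree lc_a_rc_3_0 lc_a_rc_4_2 lc_a_rc_0_1 lc_a_rc_21_0 lc_a_rc_4_0 lc_a_rc_3_2 lc_a_rc_4_2 lc_a_rc_2_2 lc_a_rc_0_1 lc_a_rc_5_2 lc_a_rc_4_2 lc_a_rc_1_4 lc_a_rc_3_2 lc_a_rc_0_1 lc_a_rc_2_2 lc_a_rc_4_2 lc_a_rc_4_0 lc_a_rc_4_2 lc_a_rc_3_2 lc_a_rc_5_2 lc_a_rc_0_1 lc_a_rc_2_2 lc_a_rc_4_2) (@D3.rec (fun _ => (Cert rels S Gen.a)) lc_a_rc_4_2 lc_a_rc_5_0 lc_a_rc_5_2 lc_a_rc_21_0 lc_a_rc_0_1 lc_a_rc_0_1 lc_a_rc_2_0 lc_a_rc_2_2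 lc_a_rc_5_0 lc_a_rc_3_2 lc_a_rc_5_2 lc_a_Cert_tree lc_a_rc_2_2 lc_a_rc_2_2 lc_a_rc_4_2 lc_a_rc_3_0 lc_a_rc_5_0 lc_a_rc_5_0 lc_a_rc_4_2 lc_a_rc_5_2 lc_a_rc_3_2 lc_a_rc_3_2 lc_a_rc_4_2 lc_a_rc_4_2 lc_a_rc_2_2 lc_a_rc_4_2 lc_a_rc_3_2 lc_a_rc_4_2 lc_a_rc_3_2 lc_a_rc_4_2 lc_a_rc_5_0 lc_a_rc_3_2 lc_a_rc_5_2 lc_a_rc_2_2 lc_a_rc_4_2 lc_a_rc_4_2 lc_a_rc_3_2 lc_a_rc_22_0 lc_a_rc_0_1 lc_a_rc_3_2 lc_a_rc_2_2 lc_a_rc_21_0 lc_a_rc_22_0 lc_a_rc_4_2 lc_a_rc_0_1 lc_a_rc_4_2 lc_a_rc_3_0 lc_a_rc_3_0 lc_a_rc_3_2 lc_a_rc_2_2 lc_a_rc_0_1 lc_a_rc_4_0 lc_a_rc_5_2 lc_a_rc_4_2 lc_a_rc_21_0 lc_a_rc_3_2 lc_a_rc_2_2 lc_a_rc_21_0 lc_a_rc_22_0 lc_a_rc_21_0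 lc_a_rc_21_0 lc_a_rc_1_4) (@D3.rec (fun _ => (Cert rels S Gen.a)) lc_a_rc_4_0 lc_a_rc_3_2 lc_a_rc_2_0 lc_a_rc_4_2 lc_a_rc_2_2 lc_a_rc_4_2 lc_a_rc_3_2 lc_a_rc_3_0 lc_a_rc_4_2 lc_a_rc_1_0 lc_a_rc_0_1 lc_a_rc_2_2 lc_a_rc_4_2 lc_a_rc_3_2 lc_a_rc_5_2 lc_a_rc_4_2 lc_a_rc_3_2 lc_a_rc_0_1 lc_a_rc_4_2 lc_a_rc_0_1 lc_a_rc_4_2 lc_a_rc_2_2 lc_a_rc_4_2 lc_a_rc_3_2 lc_a_rc_3_0 lc_a_rc_0_1 lc_a_rc_2_2 lc_a_rc_5_2 lc_a_rc_3_2 lc_a_rc_0_1 lc_a_rc_21_0 lc_a_rc_3_2 lc_a_rc_2_2 lc_a_rc_0_1 lc_a_rc_2_2 lc_a_rc_3_2 lc_a_rc_4_2 lc_a_rc_3_2 lc_a_rc_4_2 lc_a_rc_1_2 lc_a_rc_0_1 lc_a_rc_3_2 lc_a_rc_2_2 lc_a_rc_4_2 lc_a_rc_2_0 lc_a_rc_4_2 lc_a_rc_2_2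 lc_a_rc_21_0 lc_a_rc_5_2 lc_a_rc_1_2 lc_a_rc_3_2 lc_a_rc_3_2 lc_a_Cert_tree lc_a_rc_21_0 lc_a_rc_4_2 lc_a_rc_4_0 lc_a_rc_3_2 lc_a_rc_2_2 lc_a_rc_4_2 lc_a_rc_5_0 lc_a_rc_3_2 lc_a_rc_5_2) (@D3.rec (fun _ => (Cert rels S Gen.a)) lc_a_rc_4_2 lc_a_rc_2_2 lc_a_rc_4_2 lc_a_rc_3_0 lc_a_rc_21_0 lc_a_rc_4_2 lc_a_rc_4_0 lc_a_rc_5_0 lc_a_rc_3_2 lc_a_rc_5_2 lc_a_rc_3_2 lc_a_rc_3_2 lc_a_rc_5_0 lc_a_rc_3_0 lc_a_rc_2_2 lc_a_rc_5_2 lc_a_Cert_tree lc_a_rc_3_2 lc_a_rc_1_4 lc_a_rc_5_2 lc_a_rc_5_0 lc_a_rc_4_2 lc_a_rc_0_1 lc_a_rc_21_0 lc_a_rc_2_2 lc_a_rc_3_2 lc_a_rc_3_2 lc_a_rc_4_2 lc_a_rc_3_2 lc_a_rc_21_0 lc_a_rc_4_2 lc_a_rc_5_0 lc_a_rc_21_0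 lc_a_rc_4_2 lc_a_rc_3_2 lc_a_rc_2_2 lc_a_rc_4_2 lc_a_rc_5_0 lc_a_rc_2_2 lc_a_Cert_tree lc_a_rc_22_0 lc_a_rc_22_0 lc_a_rc_3_0 lc_a_rc_4_0 lc_a_rc_3_2 lc_a_rc_3_2 lc_a_rc_4_2 lc_a_rc_21_0 lc_a_rc_2_2 lc_a_rc_4_2 lc_a_rc_2_2 lc_a_rc_3_2 lc_a_rc_21_0 lc_a_rc_0_1 lc_a_rc_21_0 lc_a_rc_21_0 lc_a_rc_3_0 lc_a_rc_0_1 lc_a_rc_4_2 lc_a_rc_5_2 lc_a_Cert_tree lc_a_rc_4_2) (@D3.rec (fun _ => (Cert rels S Gen.a)) lc_a_rc_2_0 lc_a_rc_2_2 lc_a_rc_2_2 lc_a_rc_4_2 lc_a_rc_2_0 lc_a_rc_4_2 lc_a_rc_21_0 lc_a_rc_3_0 lc_a_rc_4_2 lc_a_rc_5_2 lc_a_rc_2_2 lc_a_rc_4_2 lc_a_rc_4_0 lc_a_rc_21_0 lc_a_rc_21_0 lc_a_rc_21_0 lc_a_rc_3_2 lc_a_rc_0_1 lc_a_rc_4_2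 lc_a_rc_21_0 lc_a_rc_3_2 lc_a_rc_4_2 lc_a_rc_4_0 lc_a_rc_5_0 lc_a_rc_4_2 lc_a_rc_5_2 lc_a_rc_3_2 lc_a_rc_5_0 lc_a_rc_5_2 lc_a_rc_3_2 lc_a_rc_2_2 lc_a_rc_1_4 lc_a_rc_3_2 lc_a_rc_21_0 lc_a_rc_21_0 lc_a_rc_5_0 lc_a_rc_21_0 lc_a_rc_3_2 lc_a_rc_2_2 lc_a_rc_5_2 lc_a_Cert_tree lc_a_rc_4_2 lc_a_rc_21_0 lc_a_rc_3_2 lc_a_rc_2_2 lc_a_rc_21_0 lc_a_rc_4_0 lc_a_rc_22_0 lc_a_rc_3_2 lc_a_rc_4_2 lc_a_rc_2_2 lc_a_rc_4_2 lc_a_rc_3_2 lc_a_rc_4_2 lc_a_rc_2_2 lc_a_rc_4_2 lc_a_rc_3_2 lc_a_rc_1_2 lc_a_rc_1_2 lc_a_rc_4_2 lc_a_rc_0_1 lc_a_rc_3_2) (@D3.rec (fun _ => (Cert rels S Gen.a)) lc_a_rc_21_0 lc_a_rc_4_2 lc_a_rc_2_2 lc_a_rc_3_2 lc_a_rc_5_2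 lc_a_rc_2_2 lc_a_rc_4_2 lc_a_rc_0_1 lc_a_rc_2_2 lc_a_rc_2_0 lc_a_rc_3_2 lc_a_rc_4_2 lc_a_rc_3_2 lc_a_rc_3_0 lc_a_rc_2_2 lc_a_rc_5_2 lc_a_rc_3_2 lc_a_rc_21_0 lc_a_rc_4_2 lc_a_rc_3_2 lc_a_rc_4_2 lc_a_rc_2_0 lc_a_rc_3_2 lc_a_rc_21_0 lc_a_rc_2_2 lc_a_rc_2_2 lc_a_rc_5_0 lc_a_rc_0_1 lc_a_rc_3_2 lc_a_rc_2_0 lc_a_rc_3_2 lc_a_rc_3_0 lc_a_rc_2_2 lc_a_rc_3_2 lc_a_rc_3_2 lc_a_rc_21_0 lc_a_rc_4_2 lc_a_rc_4_2 lc_a_rc_0_1 lc_a_rc_2_2 lc_a_rc_4_2 lc_a_Cert_tree lc_a_rc_5_2 lc_a_rc_0_1 lc_a_rc_4_2 lc_a_rc_2_2 lc_a_rc_2_0 lc_a_rc_4_2 lc_a_rc_4_0 lc_a_rc_3_2 lc_a_rc_5_2 lc_a_rc_0_1 lc_a_rc_3_2 lc_a_rc_4_2 lc_a_rc_1_4 lc_a_rc_2_2 lc_a_rc_4_2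 lc_a_rc_2_2 lc_a_rc_2_2 lc_a_rc_5_2 lc_a_rc_1_4 lc_a_rc_4_2) (@D3.rec (fun _ => (Cert rels S Gen.a)) lc_a_rc_1_4 lc_a_rc_22_0 lc_a_rc_0_1 lc_a_rc_5_0 lc_a_rc_4_2 lc_a_rc_0_1 lc_a_rc_4_0 lc_a_rc_3_2 lc_a_rc_5_2 lc_a_rc_4_2 lc_a_rc_0_1 lc_a_rc_3_2 lc_a_rc_4_2 lc_a_Cert_tree lc_a_rc_21_0 lc_a_rc_4_2 lc_a_rc_21_0 lc_a_rc_0_1 lc_a_rc_4_2 lc_a_rc_2_2 lc_a_rc_5_0 lc_a_rc_2_0 lc_a_rc_3_2 lc_a_rc_3_2 lc_a_rc_2_2 lc_a_rc_2_2 lc_a_rc_4_2 lc_a_rc_0_1 lc_a_rc_21_0 lc_a_rc_2_2 lc_a_rc_4_2 lc_a_rc_3_2 lc_a_rc_1_2 lc_a_rc_4_2 lc_a_rc_4_0 lc_a_rc_5_0 lc_a_rc_4_2 lc_a_rc_21_0 lc_a_rc_3_2 lc_a_rc_21_0 lc_a_rc_3_2 lc_a_rc_3_2 lc_a_rc_2_2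 lc_a_rc_3_2 lc_a_rc_4_2 lc_a_rc_0_1 lc_a_rc_4_2 lc_a_rc_21_0 lc_a_rc_1_4 lc_a_rc_3_2 lc_a_rc_1_2 lc_a_Cert_tree lc_a_rc_5_0 lc_a_rc_4_2 lc_a_Cert_tree lc_a_rc_3_2 lc_a_rc_2_2 lc_a_rc_4_0 lc_a_rc_5_0 lc_a_rc_22_0 lc_a_rc_5_2 lc_a_rc_0_1) (@D3.rec (fun _ => (Cert rels S Gen.a)) lc_a_rc_0_1 lc_a_rc_2_2 lc_a_rc_3_2 lc_a_rc_4_2 lc_a_Cert_tree lc_a_rc_3_2 lc_a_rc_2_2 lc_a_rc_5_0 lc_a_rc_3_2 lc_a_rc_2_2 lc_a_rc_3_2 lc_a_rc_0_1 lc_a_rc_0_1 lc_a_rc_21_0 lc_a_rc_0_1 lc_a_rc_21_0 lc_a_rc_3_2 lc_a_rc_4_2 lc_a_rc_2_2 lc_a_rc_21_0 lc_a_rc_4_2 lc_a_rc_21_0 lc_a_rc_4_2 lc_a_rc_0_1 lc_a_rc_21_0 lc_a_rc_21_0 lc_a_rc_22_0 lc_a_rc_21_0 lc_a_rc_21_0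 lc_a_rc_4_2 lc_a_rc_5_2 lc_a_rc_3_2 lc_a_rc_2_2 lc_a_rc_0_1 lc_a_rc_5_0 lc_a_rc_0_1 lc_a_rc_3_2 lc_a_rc_3_2 lc_a_rc_3_2 lc_a_rc_4_2 lc_a_rc_0_1 lc_a_rc_2_2 lc_a_rc_4_2 lc_a_rc_21_0 lc_a_rc_2_2 lc_a_rc_4_2 lc_a_rc_21_0 lc_a_rc_4_2 lc_a_rc_5_0 lc_a_rc_2_2 lc_a_Cert_tree lc_a_rc_4_2 lc_a_rc_22_0 lc_a_rc_3_2 lc_a_rc_4_2 lc_a_rc_21_0 lc_a_rc_2_2 lc_a_rc_3_2 lc_a_rc_2_2 lc_a_rc_4_2 lc_a_rc_5_0 lc_a_rc_4_2) (@D3.rec (fun _ => (Cert rels S Gen.a)) lc_a_rc_5_0 lc_a_rc_4_2 lc_a_rc_4_2 lc_a_rc_2_0 lc_a_rc_4_2 lc_a_Cert_tree lc_a_rc_3_2 lc_a_rc_4_2 lc_a_rc_5_2 lc_a_Cert_tree lc_a_rc_3_2 lc_a_rc_4_2 lc_a_rc_4_2 lc_a_rc_1_2 lc_a_rc_5_2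 lc_a_Cert_tree lc_a_rc_3_2 lc_a_rc_4_2 lc_a_Cert_tree lc_a_rc_2_2 lc_a_rc_4_2 lc_a_Cert_tree lc_a_rc_0_1 lc_a_rc_0_1 lc_a_rc_21_0 lc_a_rc_21_0 lc_a_rc_3_2 lc_a_rc_4_2 lc_a_rc_21_0 lc_a_Cert_tree lc_a_rc_5_0 lc_a_rc_5_2 lc_a_Cert_tree lc_a_rc_3_2 lc_a_rc_4_2 lc_a_rc_3_2 lc_a_rc_4_2 lc_a_rc_22_0 lc_a_Cert_tree lc_a_rc_3_2 lc_a_rc_4_2 lc_a_rc_3_2 lc_a_rc_2_2 lc_a_rc_4_2 lc_a_Cert_tree lc_a_rc_0_1 lc_a_rc_0_1 lc_a_rc_3_2 lc_a_rc_21_0 lc_a_rc_3_2 lc_a_rc_4_0 lc_a_rc_3_0 lc_a_rc_4_2 lc_a_rc_22_0 lc_a_Cert_tree lc_a_rc_2_2 lc_a_rc_21_0 lc_a_rc_5_2 lc_a_Cert_tree lc_a_rc_3_2 lc_a_rc_4_2 lc_a_rc_5_0) (@D3.rec (fun _ => (Cert rels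 S Gen.a)) lc_a_rc_5_2 lc_a_Cert_tree lc_a_rc_5_0 lc_a_rc_4_2 lc_a_Cert_tree lc_a_rc_2_2 lc_a_rc_4_2 lc_a_Cert_tree lc_a_rc_0_1 lc_a_rc_0_1 lc_a_rc_3_2 lc_a_rc_21_0 lc_a_rc_3_2 lc_a_rc_2_2 lc_a_rc_4_2 lc_a_rc_4_2 lc_a_Cert_tree lc_a_rc_4_2 lc_a_rc_3_2 lc_a_rc_5_0 lc_a_rc_4_2 lc_a_Cert_tree lc_a_rc_3_2 lc_a_rc_4_2 lc_a_rc_3_2 lc_a_rc_21_0 lc_a_rc_5_2 lc_a_Cert_tree lc_a_rc_3_2 lc_a_rc_2_2 lc_a_Cert_tree lc_a_rc_2_2 lc_a_rc_4_2 lc_a_Cert_tree lc_a_rc_3_2 lc_a_rc_2_2 lc_a_rc_2_2 lc_a_rc_1_4 lc_a_rc_0_1 lc_a_rc_3_2 lc_a_rc_4_2 lc_a_rc_21_0 lc_a_rc_3_0 lc_a_rc_4_2 lc_a_rc_5_0 lc_a_rc_2_2 lc_a_rc_3_2 lc_a_rc_2_2 lc_a_rc_2_2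 lc_a_rc_5_0 lc_a_rc_4_2 lc_a_rc_5_0 lc_a_rc_4_2 lc_a_rc_3_2 lc_a_rc_2_0 lc_a_Cert_tree lc_a_rc_3_2 lc_a_rc_0_1 lc_a_rc_21_0 lc_a_rc_0_1 lc_a_rc_3_2 lc_a_rc_4_2) (@D3.rec (fun _ => (Cert rels S Gen.a)) lc_a_rc_4_2 lc_a_rc_0_1 lc_a_rc_2_0 lc_a_rc_3_2 lc_a_rc_5_2 lc_a_rc_2_2 lc_a_rc_4_2 lc_a_rc_2_2 lc_a_Cert_tree lc_a_rc_4_2 lc_a_rc_5_0 lc_a_Cert_tree lc_a_rc_3_2 lc_a_rc_4_2 lc_a_Cert_tree lc_a_rc_4_2 lc_a_Cert_tree lc_a_rc_21_0 lc_a_rc_2_2 lc_a_rc_0_1 lc_a_rc_3_2 lc_a_rc_4_2 lc_a_rc_3_2 lc_a_rc_2_2 lc_a_rc_4_2 lc_a_rc_4_2 lc_a_rc_4_2 lc_a_rc_3_2 lc_a_rc_5_2 lc_a_rc_2_2 lc_a_rc_3_2 lc_a_rc_5_0 lc_a_rc_5_0 lc_a_rc_4_2 lc_a_rc_2_2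 lc_a_rc_3_2 lc_a_rc_21_0 lc_a_rc_0_1 lc_a_rc_3_2 lc_a_rc_4_2 lc_a_rc_4_2 lc_a_rc_2_2 lc_a_rc_5_0 lc_a_rc_3_2 lc_a_rc_5_2 lc_a_rc_5_0 lc_a_rc_4_2 lc_a_rc_2_2 lc_a_rc_3_2 lc_a_rc_21_0 lc_a_rc_3_2 lc_a_rc_0_1 lc_a_rc_2_2 lc_a_rc_1_4 lc_a_rc_4_2 lc_a_rc_0_1 lc_a_rc_5_2 lc_a_rc_21_0 lc_a_rc_1_4 lc_a_rc_0_1 lc_a_rc_2_2 lc_a_rc_3_2) (@D3.rec (fun _ => (Cert rels S Gen.a)) lc_a_rc_4_2 lc_a_rc_4_2 lc_a_rc_4_2 lc_a_rc_3_2 lc_a_rc_5_2 lc_a_rc_0_1 lc_a_rc_0_1 lc_a_Cert_tree lc_a_rc_5_2 lc_a_rc_3_2 lc_a_rc_4_2 lc_a_rc_5_2 lc_a_Cert_tree lc_a_rc_2_2 lc_a_rc_3_2 lc_a_rc_4_2 lc_a_rc_3_2 lc_a_rc_21_0 lc_a_rc_2_2 lc_a_rc_2_2 lc_a_rc_4_2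 lc_a_rc_3_0 lc_a_rc_4_2 lc_a_Cert_tree lc_a_rc_4_2 lc_a_Cert_tree lc_a_rc_4_2 lc_a_Cert_tree lc_a_rc_4_2 lc_a_rc_2_2 lc_a_rc_2_2 lc_a_rc_5_2 lc_a_rc_4_2 lc_a_rc_5_0 lc_a_rc_2_2 lc_a_rc_3_2 lc_a_rc_3_2 lc_a_rc_21_0 lc_a_rc_21_0 lc_a_rc_21_0 lc_a_rc_2_2 lc_a_rc_4_2 lc_a_Cert_tree lc_a_rc_2_0 lc_a_rc_2_2 lc_a_rc_1_4 lc_a_rc_5_2 lc_a_Cert_tree lc_a_rc_21_0 lc_a_rc_2_2 lc_a_Cert_tree lc_a_rc_4_2 lc_a_Cert_tree lc_a_rc_4_2 lc_a_rc_2_2 lc_a_rc_2_2 lc_a_rc_0_1 lc_a_rc_3_2 lc_a_rc_0_1 lc_a_rc_3_0 lc_a_rc_3_2 lc_a_rc_21_0) (@D3.rec (fun _ => (Cert rels S Gen.a)) lc_a_rc_2_2 lc_a_rc_3_2 lc_a_rc_22_0 lc_a_rc_2_2 lc_a_rc_21_0 lc_a_rc_21_0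 lc_a_rc_3_2 lc_a_rc_2_2 lc_a_rc_0_1 lc_a_rc_4_2 lc_a_rc_3_2 lc_a_rc_1_4 lc_a_rc_2_2 lc_a_rc_4_2 lc_a_Cert_tree lc_a_rc_2_2 lc_a_rc_4_2 lc_a_rc_3_2 lc_a_rc_0_1 lc_a_rc_21_0 lc_a_rc_4_0 lc_a_rc_5_0 lc_a_rc_4_2 lc_a_Cert_tree lc_a_rc_3_2 lc_a_rc_4_2 lc_a_Cert_tree lc_a_rc_3_2 lc_a_rc_4_2 lc_a_Cert_tree lc_a_rc_4_2 lc_a_Cert_tree lc_a_rc_4_2 lc_a_rc_21_0 lc_a_rc_3_2 lc_a_rc_0_1 lc_a_rc_3_2 lc_a_rc_4_2 lc_a_rc_3_0 lc_a_rc_2_2 lc_a_rc_21_0 lc_a_rc_21_0 lc_a_rc_3_0 lc_a_rc_0_1 lc_a_rc_0_1 lc_a_rc_4_2 lc_a_Cert_tree lc_a_rc_2_2 lc_a_rc_4_2 lc_a_rc_3_2 lc_a_rc_4_2 lc_a_rc_3_2 lc_a_rc_21_0 lc_a_rc_2_2 lc_a_rc_4_2 lc_a_rc_0_1 lc_a_rc_4_2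 lc_a_rc_3_2 lc_a_Cert_tree lc_a_rc_3_2 lc_a_rc_4_2 lc_a_Cert_tree) (@D3.rec (fun _ => (Cert rels S Gen.a)) lc_a_rc_4_2 lc_a_Cert_tree lc_a_rc_2_2 lc_a_rc_2_2 lc_a_rc_0_1 lc_a_rc_3_2 lc_a_rc_4_2 lc_a_rc_4_2 lc_a_rc_4_2 lc_a_rc_21_0 lc_a_rc_3_2 lc_a_rc_4_0 lc_a_rc_2_2 lc_a_rc_4_2 lc_a_rc_3_2 lc_a_rc_5_0 lc_a_rc_1_4 lc_a_rc_21_0 lc_a_rc_2_2 lc_a_rc_1_4 lc_a_rc_2_2 lc_a_rc_4_2 lc_a_rc_5_0 lc_a_rc_2_2 lc_a_rc_3_2 lc_a_rc_4_2 lc_a_rc_2_2 lc_a_rc_4_2 lc_a_rc_3_2 lc_a_rc_3_0 lc_a_rc_3_2 lc_a_rc_5_2 lc_a_rc_5_2 lc_a_rc_2_2 lc_a_rc_3_2 lc_a_rc_5_0 lc_a_rc_4_2 lc_a_rc_5_2 lc_a_rc_2_2 lc_a_rc_4_2 lc_a_rc_2_2 lc_a_Cert_tree lc_a_rc_4_2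 lc_a_rc_21_0 lc_a_rc_3_0 lc_a_rc_21_0 lc_a_rc_1_4 lc_a_rc_5_2 lc_a_rc_21_0 lc_a_rc_2_2 lc_a_rc_0_1 lc_a_rc_3_2 lc_a_rc_4_2 lc_a_rc_4_2 lc_a_rc_2_2 lc_a_rc_2_2 lc_a_rc_3_2 lc_a_rc_4_0 lc_a_rc_2_2 lc_a_rc_4_2 lc_a_rc_21_0 lc_a_rc_1_4) (@D3.rec (fun _ => (Cert rels S Gen.a)) lc_a_rc_2_2 lc_a_rc_2_2 lc_a_rc_21_0 lc_a_rc_4_2 lc_a_rc_3_2 lc_a_rc_4_2 lc_a_rc_2_2 lc_a_rc_3_0 lc_a_rc_3_0 lc_a_rc_22_0 lc_a_rc_3_0 lc_a_rc_4_2 lc_a_rc_2_2 lc_a_rc_3_2 lc_a_rc_1_4 lc_a_rc_2_2 lc_a_rc_0_1 lc_a_rc_4_2 lc_a_rc_3_2 lc_a_rc_21_0 lc_a_rc_21_0 lc_a_rc_3_2 lc_a_rc_4_2 lc_a_rc_2_2 lc_a_rc_4_2 lc_a_rc_3_0 lc_a_rc_3_2 lc_a_rc_21_0 lc_a_rc_0_1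 lc_a_rc_2_0 lc_a_rc_5_2 lc_a_rc_3_2 lc_a_rc_3_0 lc_a_rc_2_2 lc_a_rc_5_2 lc_a_rc_2_2 lc_a_rc_0_1 lc_a_rc_3_2 lc_a_rc_21_0 lc_a_rc_21_0 lc_a_rc_4_2 lc_a_rc_2_2 lc_a_rc_3_2 lc_a_rc_4_2 lc_a_rc_2_0 lc_a_rc_2_2 lc_a_rc_3_2 lc_a_rc_4_2 lc_a_rc_2_2 lc_a_rc_2_2 lc_a_rc_3_0 lc_a_rc_3_0 lc_a_rc_4_2 lc_a_rc_2_2 lc_a_rc_2_2 lc_a_rc_3_2 lc_a_rc_4_2 lc_a_Cert_tree lc_a_rc_3_2 lc_a_rc_0_1 lc_a_rc_3_2 lc_a_rc_3_2) (@D3.rec (fun _ => (Cert rels S Gen.a)) lc_a_rc_2_2 lc_a_rc_2_2 lc_a_rc_2_2 lc_a_rc_4_2 lc_a_rc_3_2 lc_a_rc_4_0 lc_a_rc_3_2 lc_a_rc_3_2 lc_a_rc_1_2 lc_a_rc_0_1 lc_a_rc_21_0 lc_a_rc_3_2 lc_a_rc_4_2 lc_a_rc_21_0 lc_a_rc_3_2 lc_a_rc_4_2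 lc_a_rc_2_2 lc_a_rc_0_1 lc_a_rc_4_0 lc_a_rc_2_2 lc_a_rc_4_2 lc_a_rc_3_2 lc_a_rc_3_2 lc_a_rc_3_2 lc_a_rc_4_2 lc_a_rc_0_1 lc_a_rc_21_0 lc_a_rc_5_2 lc_a_rc_4_2 lc_a_rc_1_2 lc_a_rc_3_2 lc_a_rc_3_2 lc_a_rc_21_0 lc_a_rc_0_1 lc_a_rc_2_2 lc_a_rc_4_2 lc_a_rc_0_1 lc_a_rc_2_2 lc_a_rc_3_0 lc_a_rc_4_2 lc_a_rc_3_2 lc_a_rc_4_2 lc_a_rc_21_0 lc_a_rc_2_2 lc_a_rc_5_0 lc_a_Cert_tree lc_a_rc_2_2 lc_a_rc_21_0 lc_a_rc_21_0 lc_a_rc_21_0 lc_a_rc_3_0 lc_a_rc_4_2 lc_a_rc_5_2 lc_a_rc_2_2 lc_a_rc_4_2 lc_a_rc_21_0 lc_a_rc_4_2 lc_a_rc_4_2 lc_a_rc_1_4 lc_a_rc_2_2 lc_a_rc_4_2 lc_a_Cert_tree)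
def ce_a_9 : D2 → D3 → (Cert rels S Gen.a) := @D2.rec (fun _ => D3 → (Cert rels S Gen.a)) (@D3.rec (fun _ => (Cert rels S Gen.a)) lc_a_rc_21_0 lc_a_rc_4_2 lc_a_rc_4_2 lc_a_rc_4_0 lc_a_rc_0_1 lc_a_rc_21_0 lc_a_rc_4_2 lc_a_rc_4_2 lc_a_rc_21_0 lc_a_rc_4_2 lc_a_rc_22_0 lc_a_rc_2_2 lc_a_rc_4_2 lc_a_rc_3_2 lc_a_rc_2_2 lc_a_rc_4_2 lc_a_rc_2_0 lc_a_rc_2_2 lc_a_rc_4_2 lc_a_rc_4_2 lc_a_rc_5_0 lc_a_rc_5_2 lc_a_rc_5_2 lc_a_rc_4_2 lc_a_rc_21_0 lc_a_rc_3_2 lc_a_rc_5_2 lc_a_rc_0_1 lc_a_rc_0_1 lc_a_Cert_tree lc_a_rc_3_2 lc_a_rc_4_2 lc_a_Cert_tree lc_a_rc_3_2 lc_a_rc_2_2 lc_a_rc_4_2 lc_a_Cert_tree lc_a_rc_21_0 lc_a_rc_4_2 lc_a_rc_3_2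 lc_a_rc_5_2 lc_a_Cert_tree lc_a_rc_21_0 lc_a_rc_2_2 lc_a_Cert_tree lc_a_rc_2_2 lc_a_rc_4_2 lc_a_rc_21_0 lc_a_rc_0_1 lc_a_rc_0_1 lc_a_rc_3_2 lc_a_rc_4_2 lc_a_rc_21_0 lc_a_rc_4_2 lc_a_rc_5_0 lc_a_rc_3_2 lc_a_rc_5_2 lc_a_rc_5_0 lc_a_rc_0_1 lc_a_rc_4_2 lc_a_rc_2_2 lc_a_rc_2_2) (@D3.rec (fun _ => (Cert rels S Gen.a)) lc_a_rc_1_4 lc_a_rc_4_2 lc_a_rc_21_0 lc_a_rc_1_4 lc_a_rc_4_2 lc_a_rc_4_2 lc_a_rc_3_2 lc_a_rc_4_0 lc_a_rc_21_0 lc_a_rc_5_2 lc_a_rc_0_1 lc_a_rc_2_2 lc_a_rc_5_2 lc_a_rc_0_1 lc_a_rc_0_1 lc_a_rc_2_2 lc_a_rc_3_0 lc_a_rc_2_2 lc_a_rc_3_0 lc_a_rc_0_1 lc_a_rc_0_1 lc_a_rc_1_4 lc_a_rc_3_2 lc_a_rc_2_2 lc_a_rc_4_2 lc_a_rc_1_2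 lc_a_rc_2_2 lc_a_rc_4_2 lc_a_rc_4_2 lc_a_rc_4_2 lc_a_rc_0_1 lc_a_rc_21_0 lc_a_rc_5_2 lc_a_rc_4_0 lc_a_rc_5_0 lc_a_rc_5_0 lc_a_rc_3_2 lc_a_Cert_tree lc_a_rc_4_2 lc_a_rc_4_2 lc_a_rc_3_2 lc_a_rc_2_2 lc_a_rc_4_2 lc_a_rc_21_0 lc_a_rc_2_2 lc_a_rc_3_2 lc_a_rc_4_2 lc_a_rc_5_0 lc_a_rc_3_2 lc_a_rc_4_2 lc_a_rc_5_2 lc_a_rc_2_0 lc_a_Cert_tree lc_a_rc_5_2 lc_a_rc_0_1 lc_a_rc_21_0 lc_a_rc_5_2 lc_a_rc_22_0 lc_a_rc_2_2 lc_a_rc_4_2 lc_a_rc_3_2 lc_a_rc_2_2) (@D3.rec (fun _ => (Cert rels S Gen.a)) lc_a_rc_4_2 lc_a_rc_2_2 lc_a_rc_4_2 lc_a_rc_2_2 lc_a_rc_4_2 lc_a_rc_2_0 lc_a_rc_21_0 lc_a_rc_3_2 lc_a_rc_4_2 lc_a_rc_21_0 lc_a_rc_3_2 lc_a_rc_3_2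 lc_a_rc_5_2 lc_a_rc_2_2 lc_a_rc_5_2 lc_a_rc_5_0 lc_a_rc_21_0 lc_a_rc_3_2 lc_a_Cert_tree lc_a_rc_21_0 lc_a_rc_3_2 lc_a_rc_4_0 lc_a_rc_5_2 lc_a_rc_22_0 lc_a_rc_22_0 lc_a_rc_4_2 lc_a_rc_3_2 lc_a_rc_3_2 lc_a_rc_2_2 lc_a_rc_4_2 lc_a_rc_3_2 lc_a_rc_3_2 lc_a_rc_2_2 lc_a_rc_4_2 lc_a_rc_3_2 lc_a_rc_21_0 lc_a_rc_3_0 lc_a_rc_2_2 lc_a_rc_1_4 lc_a_rc_2_2 lc_a_rc_3_2 lc_a_rc_2_2 lc_a_rc_3_2 lc_a_rc_2_2 lc_a_rc_3_2 lc_a_rc_4_2 lc_a_rc_5_0 lc_a_rc_0_1 lc_a_rc_4_2 lc_a_rc_5_2 lc_a_rc_0_1 lc_a_rc_22_0 lc_a_Cert_tree lc_a_rc_4_2 lc_a_Cert_tree lc_a_rc_4_2 lc_a_rc_3_2 lc_a_Cert_tree lc_a_rc_2_2 lc_a_rc_4_2 lc_a_rc_3_2 lc_a_rc_3_2) (@D3.rec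 (fun _ => (Cert rels S Gen.a)) lc_a_rc_2_2 lc_a_rc_4_2 lc_a_rc_3_2 lc_a_rc_3_2 lc_a_rc_5_0 lc_a_rc_0_1 lc_a_rc_2_2 lc_a_rc_3_2 lc_a_rc_2_2 lc_a_rc_2_0 lc_a_Cert_tree lc_a_rc_4_2 lc_a_rc_21_0 lc_a_rc_2_2 lc_a_rc_0_1 lc_a_rc_5_2 lc_a_rc_4_2 lc_a_rc_2_2 lc_a_rc_1_0 lc_a_Cert_tree lc_a_rc_4_2 lc_a_rc_4_2 lc_a_rc_4_2 lc_a_rc_21_0 lc_a_rc_0_1 lc_a_rc_3_0 lc_a_rc_2_2 lc_a_rc_4_2 lc_a_rc_1_4 lc_a_rc_2_2 lc_a_rc_4_2 lc_a_rc_21_0 lc_a_rc_2_2 lc_a_Cert_tree lc_a_rc_4_2 lc_a_rc_4_2 lc_a_rc_21_0 lc_a_rc_5_2 lc_a_rc_5_2 lc_a_rc_4_2 lc_a_rc_2_2 lc_a_rc_0_1 lc_a_Cert_tree lc_a_rc_3_2 lc_a_rc_4_2 lc_a_rc_4_2 lc_a_rc_5_0 lc_a_rc_4_2 lc_a_rc_4_0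 lc_a_rc_3_2 lc_a_rc_3_0 lc_a_rc_4_0 lc_a_rc_2_0 lc_a_Cert_tree lc_a_rc_3_2 lc_a_rc_3_2 lc_a_rc_4_2 lc_a_rc_2_0 lc_a_rc_21_0 lc_a_rc_3_2 lc_a_rc_4_2 lc_a_rc_21_0) (@D3.rec (fun _ => (Cert rels S Gen.a)) lc_a_rc_0_1 lc_a_rc_0_1 lc_a_rc_3_2 lc_a_rc_4_2 lc_a_rc_3_2 lc_a_rc_4_2 lc_a_rc_5_0 lc_a_rc_2_2 lc_a_rc_3_2 lc_a_rc_5_2 lc_a_rc_4_2 lc_a_rc_1_4 lc_a_rc_4_2 lc_a_rc_3_2 lc_a_rc_3_2 lc_a_rc_5_0 lc_a_rc_2_2 lc_a_rc_3_2 lc_a_rc_5_0 lc_a_rc_4_2 lc_a_rc_4_2 lc_a_rc_5_0 lc_a_rc_4_2 lc_a_rc_0_1 lc_a_rc_2_2 lc_a_rc_2_2 lc_a_rc_4_2 lc_a_rc_5_0 lc_a_rc_3_2 lc_a_rc_3_2 lc_a_rc_4_2 lc_a_rc_4_0 lc_a_rc_5_0 lc_a_rc_5_2 lc_a_rc_4_2 lc_a_rc_5_2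 lc_a_rc_4_2 lc_a_Cert_tree lc_a_rc_4_2 lc_a_rc_2_2 lc_a_rc_4_2 lc_a_rc_2_2 lc_a_rc_21_0 lc_a_rc_3_2 lc_a_rc_3_0 lc_a_rc_4_2 lc_a_rc_4_2 lc_a_Cert_tree lc_a_rc_21_0 lc_a_rc_5_2 lc_a_rc_2_2 lc_a_rc_4_2 lc_a_rc_3_2 lc_a_rc_3_0 lc_a_rc_3_2 lc_a_rc_5_2 lc_a_Cert_tree lc_a_rc_2_2 lc_a_rc_4_2 lc_a_rc_2_2 lc_a_rc_0_1 lc_a_rc_0_1) (@D3.rec (fun _ => (Cert rels S Gen.a)) lc_a_rc_2_2 lc_a_rc_3_2 lc_a_Cert_tree lc_a_rc_3_2 lc_a_rc_4_2 lc_a_rc_5_0 lc_a_rc_5_2 lc_a_rc_21_0 lc_a_rc_0_1 lc_a_rc_2_2 lc_a_rc_4_2 lc_a_rc_4_2 lc_a_Cert_tree lc_a_rc_0_1 lc_a_rc_4_2 lc_a_rc_4_2 lc_a_rc_5_0 lc_a_rc_4_2 lc_a_rc_21_0 lc_a_rc_3_2 lc_a_Cert_tree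 lc_a_rc_5_0 lc_a_rc_3_2 lc_a_rc_0_1 lc_a_rc_4_2 lc_a_rc_5_0 lc_a_Cert_tree lc_a_rc_5_2 lc_a_rc_0_1 lc_a_rc_4_0 lc_a_rc_3_0 lc_a_rc_3_2 lc_a_rc_5_2 lc_a_rc_5_0 lc_a_Cert_tree lc_a_rc_2_2 lc_a_rc_5_0 lc_a_Cert_tree lc_a_rc_4_2 lc_a_rc_5_2 lc_a_rc_21_0 lc_a_rc_0_1 lc_a_rc_4_2 lc_a_Cert_tree lc_a_rc_0_1 lc_a_rc_1_2 lc_a_rc_22_0 lc_a_rc_4_2 lc_a_rc_3_2 lc_a_rc_1_4 lc_a_rc_4_2 lc_a_rc_21_0 lc_a_rc_5_2 lc_a_rc_4_2 lc_a_rc_4_2 lc_a_rc_4_2 lc_a_rc_0_1 lc_a_rc_3_0 lc_a_rc_3_2 lc_a_rc_5_2 lc_a_rc_3_2 lc_a_Cert_tree) (@D3.rec (fun _ => (Cert rels S Gen.a)) lc_a_rc_5_0 lc_a_rc_2_2 lc_a_rc_21_0 lc_a_rc_1_2 lc_a_rc_3_2 lc_a_rc_1_2 lc_a_rc_2_0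 lc_a_rc_0_1 lc_a_rc_4_2 lc_a_rc_4_0 lc_a_rc_21_0 lc_a_rc_5_2 lc_a_rc_5_2 lc_a_rc_3_2 lc_a_rc_2_2 lc_a_rc_1_4 lc_a_rc_4_2 lc_a_rc_5_0 lc_a_rc_4_2 lc_a_rc_3_2 lc_a_rc_5_2 lc_a_rc_2_2 lc_a_rc_4_2 lc_a_rc_5_0 lc_a_rc_2_2 lc_a_rc_3_2 lc_a_rc_5_2 lc_a_rc_2_2 lc_a_rc_5_0 lc_a_rc_3_2 lc_a_rc_4_2 lc_a_rc_0_1 lc_a_rc_4_2 lc_a_rc_3_2 lc_a_rc_5_2 lc_a_rc_0_1 lc_a_rc_21_0 lc_a_rc_2_2 lc_a_rc_5_2 lc_a_rc_3_2 lc_a_rc_2_2 lc_a_rc_5_0 lc_a_rc_21_0 lc_a_rc_21_0 lc_a_rc_0_1 lc_a_rc_3_2 lc_a_rc_2_2 lc_a_rc_2_2 lc_a_rc_2_2 lc_a_rc_3_2 lc_a_rc_2_2 lc_a_rc_4_2 lc_a_Cert_tree lc_a_rc_3_0 lc_a_rc_3_2 lc_a_rc_3_2 lc_a_rc_3_2 lc_a_rc_3_2 lc_a_rc_22_0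 lc_a_rc_3_2 lc_a_rc_21_0 lc_a_rc_4_2) (@D3.rec (fun _ => (Cert rels S Gen.a)) lc_a_rc_0_1 lc_a_rc_22_0 lc_a_rc_3_2 lc_a_rc_0_1 lc_a_rc_2_2 lc_a_rc_0_1 lc_a_rc_2_2 lc_a_rc_3_2 lc_a_rc_4_2 lc_a_rc_2_2 lc_a_rc_4_2 lc_a_rc_4_2 lc_a_rc_1_4 lc_a_rc_2_0 lc_a_rc_4_2 lc_a_rc_5_2 lc_a_rc_4_2 lc_a_rc_5_0 lc_a_rc_3_2 lc_a_rc_5_2 lc_a_rc_1_4 lc_a_rc_3_0 lc_a_rc_2_2 lc_a_rc_5_2 lc_a_rc_4_2 lc_a_rc_0_1 lc_a_rc_4_2 lc_a_rc_2_2 lc_a_rc_3_0 lc_a_rc_2_0 lc_a_rc_0_1 lc_a_rc_21_0 lc_a_rc_2_2 lc_a_rc_1_2 lc_a_rc_2_0 lc_a_rc_2_2 lc_a_rc_5_2 lc_a_rc_3_2 lc_a_rc_1_2 lc_a_rc_3_2 lc_a_rc_2_2 lc_a_rc_4_2 lc_a_rc_2_2 lc_a_rc_3_2 lc_a_rc_2_2 lc_a_rc_4_2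 lc_a_rc_2_0 lc_a_rc_2_2 lc_a_rc_4_0 lc_a_rc_3_2 lc_a_rc_5_2 lc_a_rc_4_2 lc_a_rc_0_1 lc_a_rc_22_0 lc_a_rc_3_2 lc_a_rc_4_2 lc_a_rc_1_2 lc_a_rc_21_0 lc_a_rc_0_1 lc_a_rc_21_0 lc_a_rc_1_2 lc_a_rc_4_2) (@D3.rec (fun _ => (Cert rels S Gen.a)) lc_a_rc_21_0 lc_a_rc_0_1 lc_a_rc_4_2 lc_a_rc_4_2 lc_a_rc_3_2 lc_a_rc_1_2 lc_a_rc_4_2 lc_a_rc_3_2 lc_a_rc_0_1 lc_a_rc_2_2 lc_a_rc_2_2 lc_a_rc_4_2 lc_a_rc_3_2 lc_a_rc_5_2 lc_a_rc_3_2 lc_a_rc_4_2 lc_a_Cert_tree lc_a_rc_3_2 lc_a_rc_5_2 lc_a_rc_3_2 lc_a_rc_5_0 lc_a_rc_2_2 lc_a_rc_5_2 lc_a_rc_22_0 lc_a_rc_4_2 lc_a_rc_0_1 lc_a_rc_4_2 lc_a_rc_4_2 lc_a_rc_1_4 lc_a_rc_4_2 lc_a_rc_3_2 lc_a_rc_5_2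 lc_a_rc_3_2 lc_a_rc_3_2 lc_a_rc_0_1 lc_a_rc_3_2 lc_a_rc_2_2 lc_a_rc_5_2 lc_a_rc_0_1 lc_a_rc_4_2 lc_a_rc_4_2 lc_a_rc_0_1 lc_a_rc_4_2 lc_a_rc_3_2 lc_a_rc_5_0 lc_a_rc_0_1 lc_a_rc_3_0 lc_a_Cert_tree lc_a_rc_4_2 lc_a_rc_3_2 lc_a_rc_1_2 lc_a_rc_2_2 lc_a_rc_3_2 lc_a_rc_1_4 lc_a_rc_22_0 lc_a_rc_3_2 lc_a_rc_2_2 lc_a_rc_4_2 lc_a_rc_21_0 lc_a_rc_22_0 lc_a_rc_0_1 lc_a_rc_2_2) (@D3.rec (fun _ => (Cert rels S Gen.a)) lc_a_rc_0_1 lc_a_rc_2_0 lc_a_rc_22_0 lc_a_rc_5_2 lc_a_rc_4_2 lc_a_rc_0_1 lc_a_rc_0_1 lc_a_rc_2_2 lc_a_rc_4_2 lc_a_rc_4_2 lc_a_rc_2_2 lc_a_rc_3_2 lc_a_Cert_tree lc_a_rc_5_2 lc_a_rc_0_1 lc_a_rc_1_0 lc_a_rc_4_2 lc_a_rc_5_0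 lc_a_rc_2_2 lc_a_rc_4_2 lc_a_rc_3_0 lc_a_rc_3_2 lc_a_rc_4_2 lc_a_rc_4_2 lc_a_rc_4_2 lc_a_rc_2_2 lc_a_rc_0_1 lc_a_rc_4_2 lc_a_rc_3_2 lc_a_rc_4_2 lc_a_rc_0_1 lc_a_rc_1_2 lc_a_rc_21_0 lc_a_rc_4_2 lc_a_rc_3_2 lc_a_rc_2_2 lc_a_rc_4_2 lc_a_rc_3_2 lc_a_rc_0_1 lc_a_rc_2_2 lc_a_rc_4_2 lc_a_rc_3_2 lc_a_rc_3_2 lc_a_rc_21_0 lc_a_rc_4_2 lc_a_rc_2_2 lc_a_rc_4_2 lc_a_rc_2_2 lc_a_rc_3_2 lc_a_rc_2_0 lc_a_rc_4_2 lc_a_rc_3_2 lc_a_rc_21_0 lc_a_rc_0_1 lc_a_rc_2_2 lc_a_rc_5_2 lc_a_rc_3_2 lc_a_rc_1_4 lc_a_rc_4_2 lc_a_rc_5_0 lc_a_rc_4_2 lc_a_rc_5_2) (@D3.rec (fun _ => (Cert rels S Gen.a)) lc_a_rc_4_2 lc_a_rc_2_2 lc_a_rc_4_2 lc_a_rc_3_2 lc_a_rc_3_2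 lc_a_rc_4_2 lc_a_rc_2_2 lc_a_rc_0_1 lc_a_rc_2_0 lc_a_rc_2_2 lc_a_rc_4_2 lc_a_rc_4_2 lc_a_rc_3_2 lc_a_rc_0_1 lc_a_rc_4_2 lc_a_rc_2_2 lc_a_rc_4_2 lc_a_rc_2_0 lc_a_rc_3_2 lc_a_rc_2_2 lc_a_rc_4_2 lc_a_rc_2_2 lc_a_rc_2_2 lc_a_rc_4_2 lc_a_rc_21_0 lc_a_rc_0_1 lc_a_rc_5_2 lc_a_rc_4_2 lc_a_rc_4_2 lc_a_rc_4_2 lc_a_rc_0_1 lc_a_rc_3_2 lc_a_rc_5_2 lc_a_rc_3_2 lc_a_rc_5_0 lc_a_rc_3_2 lc_a_rc_2_2 lc_a_rc_1_4 lc_a_rc_1_2 lc_a_rc_4_2 lc_a_rc_2_2 lc_a_rc_21_0 lc_a_rc_3_2 lc_a_rc_1_4 lc_a_rc_2_2 lc_a_rc_3_2 lc_a_rc_4_2 lc_a_rc_3_2 lc_a_rc_2_2 lc_a_rc_3_2 lc_a_rc_2_2 lc_a_rc_4_2 lc_a_rc_2_2 lc_a_rc_2_2 lc_a_rc_21_0 lc_a_rc_2_2 lc_a_rc_4_2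 lc_a_rc_4_2 lc_a_rc_4_2 lc_a_rc_5_0 lc_a_rc_2_2 lc_a_rc_3_2) (@D3.rec (fun _ => (Cert rels S Gen.a)) lc_a_rc_5_2 lc_a_rc_1_4 lc_a_rc_2_2 lc_a_rc_3_2 lc_a_rc_4_2 lc_a_rc_5_0 lc_a_rc_2_2 lc_a_rc_3_2 lc_a_rc_4_2 lc_a_rc_4_2 lc_a_rc_5_2 lc_a_Cert_tree lc_a_rc_3_2 lc_a_rc_5_2 lc_a_rc_2_2 lc_a_rc_4_2 lc_a_rc_4_2 lc_a_rc_2_0 lc_a_rc_0_1 lc_a_rc_3_2 lc_a_rc_5_2 lc_a_rc_2_2 lc_a_rc_3_2 lc_a_rc_5_0 lc_a_rc_5_2 lc_a_rc_1_0 lc_a_rc_2_2 lc_a_rc_5_2 lc_a_rc_4_2 lc_a_rc_4_2 lc_a_rc_0_1 lc_a_rc_21_0 lc_a_rc_3_2 lc_a_rc_5_2 lc_a_rc_21_0 lc_a_rc_3_2 lc_a_rc_2_2 lc_a_rc_3_2 lc_a_rc_4_2 lc_a_rc_3_0 lc_a_rc_0_1 lc_a_rc_0_1 lc_a_rc_0_1 lc_a_rc_4_2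 lc_a_rc_4_2 lc_a_rc_3_2 lc_a_rc_5_2 lc_a_rc_3_2 lc_a_rc_3_2 lc_a_rc_5_0 lc_a_rc_4_2 lc_a_rc_4_2 lc_a_rc_4_2 lc_a_rc_3_2 lc_a_rc_5_2 lc_a_rc_21_0 lc_a_rc_4_2 lc_a_rc_4_2 lc_a_rc_2_0 lc_a_rc_2_2 lc_a_rc_3_2 lc_a_rc_5_2) (@D3.rec (fun _ => (Cert rels S Gen.a)) lc_a_rc_0_1 lc_a_rc_5_0 lc_a_rc_5_0 lc_a_rc_4_2 lc_a_rc_1_4 lc_a_rc_1_4 lc_a_rc_3_2 lc_a_rc_4_2 lc_a_rc_5_0 lc_a_rc_3_2 lc_a_rc_0_1 lc_a_rc_5_2 lc_a_rc_1_2 lc_a_rc_0_1 lc_a_rc_0_1 lc_a_rc_3_2 lc_a_rc_4_2 lc_a_rc_2_2 lc_a_rc_0_1 lc_a_rc_3_2 lc_a_rc_4_2 lc_a_rc_3_2 lc_a_rc_3_2 lc_a_rc_2_2 lc_a_rc_4_2 lc_a_rc_21_0 lc_a_rc_3_2 lc_a_rc_5_2 lc_a_rc_0_1 lc_a_rc_3_2 lc_a_rc_4_2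 lc_a_rc_21_0 lc_a_rc_3_2 lc_a_rc_4_2 lc_a_rc_2_2 lc_a_rc_4_2 lc_a_rc_4_2 lc_a_rc_3_2 lc_a_rc_2_2 lc_a_rc_4_2 lc_a_rc_2_2 lc_a_rc_4_2 lc_a_rc_2_2 lc_a_rc_2_2 lc_a_rc_2_2 lc_a_Cert_tree lc_a_rc_3_2 lc_a_rc_1_4 lc_a_rc_4_2 lc_a_rc_5_0 lc_a_rc_4_2 lc_a_rc_3_2 lc_a_rc_5_2 lc_a_rc_1_4 lc_a_rc_4_2 lc_a_rc_4_2 lc_a_rc_2_2 lc_a_rc_4_2 lc_a_rc_2_0 lc_a_rc_5_0 lc_a_rc_3_2 lc_a_rc_5_2) (@D3.rec (fun _ => (Cert rels S Gen.a)) lc_a_rc_4_2 lc_a_rc_2_2 lc_a_rc_3_2 lc_a_rc_3_2 lc_a_rc_5_2 lc_a_rc_3_0 lc_a_rc_0_1 lc_a_rc_3_2 lc_a_rc_3_2 lc_a_rc_3_2 lc_a_rc_2_2 lc_a_rc_3_2 lc_a_rc_3_2 lc_a_rc_4_2 lc_a_rc_1_4 lc_a_rc_3_2 lc_a_rc_4_2 lc_a_rc_21_0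 lc_a_rc_0_1 lc_a_rc_5_2 lc_a_rc_1_4 lc_a_rc_4_2 lc_a_rc_1_4 lc_a_rc_2_2 lc_a_rc_21_0 lc_a_rc_0_1 lc_a_rc_2_2 lc_a_rc_3_2 lc_a_rc_5_2 lc_a_Cert_tree lc_a_rc_5_2 lc_a_rc_3_2 lc_a_rc_5_0 lc_a_rc_4_0 lc_a_rc_0_1 lc_a_rc_21_0 lc_a_rc_3_2 lc_a_rc_4_2 lc_a_rc_3_2 lc_a_rc_4_2 lc_a_rc_21_0 lc_a_rc_4_2 lc_a_rc_4_2 lc_a_rc_5_2 lc_a_rc_4_2 lc_a_rc_2_2 lc_a_rc_2_2 lc_a_rc_3_2 lc_a_rc_4_2 lc_a_rc_0_1 lc_a_rc_3_2 lc_a_rc_4_2 lc_a_rc_3_2 lc_a_rc_5_0 lc_a_rc_2_2 lc_a_rc_0_1 lc_a_rc_5_2 lc_a_rc_1_4 lc_a_rc_21_0 lc_a_rc_2_2 lc_a_rc_21_0 lc_a_rc_3_2) (@D3.rec (fun _ => (Cert rels S Gen.a)) lc_a_rc_2_2 lc_a_rc_3_2 lc_a_rc_5_0 lc_a_rc_3_2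 lc_a_rc_2_2 lc_a_rc_0_1 lc_a_Cert_tree lc_a_rc_2_2 lc_a_rc_2_0 lc_a_rc_5_2 lc_a_rc_3_2 lc_a_rc_5_0 lc_a_rc_0_1 lc_a_rc_3_2 lc_a_rc_22_0 lc_a_rc_4_2 lc_a_rc_5_0 lc_a_rc_4_2 lc_a_rc_5_2 lc_a_rc_2_2 lc_a_rc_4_2 lc_a_rc_2_0 lc_a_rc_4_2 lc_a_rc_5_0 lc_a_rc_0_1 lc_a_rc_4_2 lc_a_rc_21_0 lc_a_rc_4_2 lc_a_rc_22_0 lc_a_rc_2_2 lc_a_rc_4_2 lc_a_rc_21_0 lc_a_rc_5_2 lc_a_Cert_tree lc_a_rc_4_2 lc_a_Cert_tree lc_a_rc_4_2 lc_a_rc_1_0 lc_a_rc_1_2 lc_a_rc_0_1 lc_a_rc_21_0 lc_a_rc_5_2 lc_a_Cert_tree lc_a_rc_4_2 lc_a_rc_5_0 lc_a_rc_4_0 lc_a_rc_5_2 lc_a_rc_0_1 lc_a_rc_4_2 lc_a_rc_21_0 lc_a_rc_0_1 lc_a_rc_5_2 lc_a_rc_21_0 lc_a_rc_3_2 lc_a_rc_5_0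 lc_a_rc_1_2 lc_a_rc_3_2 lc_a_rc_5_0 lc_a_rc_21_0 lc_a_rc_5_0 lc_a_rc_5_2 lc_a_rc_2_2) (@D3.rec (fun _ => (Cert rels S Gen.a)) lc_a_rc_2_2 lc_a_rc_3_2 lc_a_rc_3_2 lc_a_rc_3_2 lc_a_rc_2_2 lc_a_rc_4_2 lc_a_rc_4_0 lc_a_rc_0_1 lc_a_Cert_tree lc_a_rc_3_2 lc_a_rc_5_2 lc_a_rc_0_1 lc_a_rc_3_2 lc_a_rc_5_2 lc_a_rc_1_2 lc_a_rc_0_1 lc_a_rc_3_2 lc_a_rc_21_0 lc_a_rc_4_2 lc_a_rc_3_2 lc_a_rc_21_0 lc_a_rc_2_2 lc_a_rc_2_2 lc_a_rc_1_2 lc_a_rc_4_2 lc_a_rc_4_2 lc_a_rc_4_2 lc_a_rc_21_0 lc_a_rc_2_2 lc_a_rc_3_2 lc_a_rc_5_2 lc_a_rc_4_0 lc_a_rc_2_2 lc_a_rc_5_0 lc_a_rc_2_2 lc_a_rc_3_2 lc_a_rc_0_1 lc_a_rc_21_0 lc_a_rc_3_2 lc_a_rc_21_0 lc_a_rc_2_2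 lc_a_rc_3_2 lc_a_rc_4_2 lc_a_rc_2_2 lc_a_rc_4_2 lc_a_rc_0_1 lc_a_rc_3_2 lc_a_rc_21_0 lc_a_rc_2_0 lc_a_Cert_tree lc_a_rc_3_2 lc_a_Cert_tree lc_a_rc_3_2 lc_a_rc_21_0 lc_a_rc_0_1 lc_a_rc_2_0 lc_a_rc_2_2 lc_a_Cert_tree lc_a_rc_3_2 lc_a_rc_21_0 lc_a_rc_0_1 lc_a_rc_0_1) (@D3.rec (fun _ => (Cert rels S Gen.a)) lc_a_rc_22_0 lc_a_rc_4_2 lc_a_rc_4_2 lc_a_rc_21_0 lc_a_rc_0_1 lc_a_rc_3_2 lc_a_rc_5_2 lc_a_rc_5_0 lc_a_rc_4_2 lc_a_rc_2_2 lc_a_rc_4_2 lc_a_rc_0_1 lc_a_rc_3_2 lc_a_rc_4_2 lc_a_rc_3_2 lc_a_rc_1_0 lc_a_rc_0_1 lc_a_rc_1_2 lc_a_rc_4_2 lc_a_rc_3_2 lc_a_rc_2_2 lc_a_rc_2_2 lc_a_rc_21_0 lc_a_rc_0_1 lc_a_rc_1_2 lc_a_rc_4_2 lc_a_rc_3_2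 lc_a_rc_0_1 lc_a_rc_4_2 lc_a_rc_4_2 lc_a_rc_3_2 lc_a_rc_5_2 lc_a_rc_4_2 lc_a_rc_4_2 lc_a_rc_5_2 lc_a_rc_4_2 lc_a_rc_2_2 lc_a_rc_5_2 lc_a_rc_3_2 lc_a_rc_5_2 lc_a_rc_1_2 lc_a_rc_4_2 lc_a_rc_4_2 lc_a_rc_2_2 lc_a_rc_3_2 lc_a_rc_5_2 lc_a_Cert_tree lc_a_rc_3_2 lc_a_rc_4_2 lc_a_Cert_tree lc_a_rc_3_2 lc_a_rc_4_2 lc_a_rc_22_0 lc_a_Cert_tree lc_a_rc_0_1 lc_a_rc_5_2 lc_a_rc_4_2 lc_a_rc_2_2 lc_a_rc_3_2 lc_a_rc_4_2 lc_a_rc_2_2 lc_a_rc_3_0) (@D3.rec (fun _ => (Cert rels S Gen.a)) lc_a_rc_3_2 lc_a_rc_2_0 lc_a_rc_0_1 lc_a_rc_3_2 lc_a_rc_4_2 lc_a_rc_1_2 lc_a_rc_3_2 lc_a_rc_5_2 lc_a_rc_4_2 lc_a_rc_4_2 lc_a_rc_3_2 lc_a_rc_2_2 lc_a_rc_2_2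 lc_a_rc_21_0 lc_a_rc_21_0 lc_a_rc_0_1 lc_a_rc_2_2 lc_a_rc_5_2 lc_a_rc_2_2 lc_a_rc_3_2 lc_a_rc_5_0 lc_a_rc_2_2 lc_a_rc_3_2 lc_a_rc_21_0 lc_a_rc_2_2 lc_a_rc_3_2 lc_a_rc_3_2 lc_a_rc_4_2 lc_a_rc_2_2 lc_a_Cert_tree lc_a_rc_4_2 lc_a_rc_2_2 lc_a_rc_0_1 lc_a_rc_2_2 lc_a_rc_21_0 lc_a_rc_2_2 lc_a_rc_5_2 lc_a_rc_3_2 lc_a_rc_3_2 lc_a_rc_2_2 lc_a_rc_4_2 lc_a_rc_2_2 lc_a_rc_3_2 lc_a_rc_21_0 lc_a_rc_21_0 lc_a_rc_4_2 lc_a_rc_3_2 lc_a_rc_2_2 lc_a_rc_2_2 lc_a_rc_4_2 lc_a_rc_0_1 lc_a_rc_3_2 lc_a_rc_4_2 lc_a_rc_2_2 lc_a_rc_4_2 lc_a_rc_0_1 lc_a_rc_3_0 lc_a_Cert_tree lc_a_rc_2_2 lc_a_rc_4_2 lc_a_Cert_tree lc_a_rc_5_2) (@D3.rec (fun _ => (Cert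 rels S Gen.a)) lc_a_rc_3_2 lc_a_rc_0_1 lc_a_rc_3_2 lc_a_rc_4_2 lc_a_rc_4_2 lc_a_rc_5_0 lc_a_Cert_tree lc_a_rc_3_2 lc_a_rc_2_2 lc_a_Cert_tree lc_a_rc_0_1 lc_a_rc_0_1 lc_a_rc_21_0 lc_a_rc_5_0 lc_a_rc_4_2 lc_a_rc_3_2 lc_a_rc_21_0 lc_a_rc_3_2 lc_a_rc_2_2 lc_a_Cert_tree lc_a_Cert_tree lc_a_Cert_tree lc_a_rc_4_2 lc_a_rc_22_0 lc_a_Cert_tree lc_a_rc_21_0 lc_a_rc_0_1 lc_a_rc_0_1 lc_a_rc_4_0 lc_a_rc_5_0 lc_a_rc_2_2 lc_a_rc_4_2 lc_a_rc_5_0 lc_a_Cert_tree lc_a_rc_2_2 lc_a_rc_3_2 lc_a_rc_3_2 lc_a_rc_5_0 lc_a_rc_4_0 lc_a_rc_3_2 lc_a_Cert_tree lc_a_rc_2_2 lc_a_rc_21_0 lc_a_rc_3_2 lc_a_Cert_tree lc_a_rc_5_0 lc_a_Cert_tree lc_a_rc_2_2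 lc_a_rc_0_1 lc_a_rc_21_0 lc_a_rc_21_0 lc_a_rc_0_1 lc_a_rc_2_2 lc_a_rc_21_0 lc_a_rc_0_1 lc_a_rc_2_2 lc_a_rc_4_2 lc_a_Cert_tree lc_a_rc_3_2 lc_a_rc_4_2 lc_a_rc_4_2 lc_a_rc_21_0) (@D3.rec (fun _ => (Cert rels S Gen.a)) lc_a_rc_3_2 lc_a_rc_4_0 lc_a_rc_0_1 lc_a_rc_4_2 lc_a_rc_3_2 lc_a_rc_2_2 lc_a_rc_4_0 lc_a_rc_2_2 lc_a_rc_4_2 lc_a_rc_1_4 lc_a_rc_2_2 lc_a_rc_4_2 lc_a_rc_2_2 lc_a_rc_4_2 lc_a_rc_0_1 lc_a_Cert_tree lc_a_rc_3_2 lc_a_rc_4_2 lc_a_rc_4_2 lc_a_rc_3_2 lc_a_rc_0_1 lc_a_rc_4_2 lc_a_rc_5_2 lc_a_rc_4_2 lc_a_rc_5_2 lc_a_rc_3_2 lc_a_rc_2_2 lc_a_rc_4_2 lc_a_rc_4_2 lc_a_rc_0_1 lc_a_rc_21_0 lc_a_rc_5_2 lc_a_rc_21_0 lc_a_rc_5_0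 lc_a_rc_4_2 lc_a_rc_2_2 lc_a_rc_3_2 lc_a_rc_0_1 lc_a_rc_3_0 lc_a_rc_3_2 lc_a_rc_3_2 lc_a_rc_4_2 lc_a_rc_4_2 lc_a_rc_3_2 lc_a_rc_4_2 lc_a_rc_3_2 lc_a_rc_3_2 lc_a_rc_4_2 lc_a_rc_3_2 lc_a_rc_5_2 lc_a_rc_2_2 lc_a_rc_2_2 lc_a_rc_4_2 lc_a_rc_0_1 lc_a_rc_21_0 lc_a_Cert_tree lc_a_rc_3_2 lc_a_rc_3_2 lc_a_rc_1_0 lc_a_rc_4_2 lc_a_rc_3_2 lc_a_rc_2_0) (@D3.rec (fun _ => (Cert rels S Gen.a)) lc_a_rc_3_2 lc_a_rc_21_0 lc_a_Cert_tree lc_a_rc_3_2 lc_a_rc_4_0 lc_a_rc_3_2 lc_a_rc_3_2 lc_a_rc_3_2 lc_a_rc_3_2 lc_a_rc_4_2 lc_a_rc_3_2 lc_a_rc_0_1 lc_a_rc_21_0 lc_a_rc_2_2 lc_a_rc_5_0 lc_a_rc_4_2 lc_a_rc_22_0 lc_a_rc_5_2 lc_a_rc_4_2 lc_a_Cert_tree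 lc_a_rc_0_1 lc_a_rc_2_2 lc_a_Cert_tree lc_a_Cert_tree lc_a_rc_3_2 lc_a_rc_2_2 lc_a_rc_2_0 lc_a_rc_0_1 lc_a_rc_3_2 lc_a_rc_5_0 lc_a_rc_3_2 lc_a_rc_5_2 lc_a_Cert_tree lc_a_rc_4_2 lc_a_Cert_tree lc_a_rc_4_2 lc_a_Cert_tree lc_a_rc_4_0 lc_a_Cert_tree lc_a_rc_5_0 lc_a_Cert_tree lc_a_rc_3_2 lc_a_Cert_tree lc_a_rc_1_2 lc_a_rc_0_1 lc_a_rc_4_2 lc_a_rc_5_2 lc_a_rc_5_2 lc_a_rc_3_2 lc_a_rc_2_2 lc_a_rc_3_2 lc_a_rc_2_2 lc_a_rc_3_2 lc_a_rc_0_1 lc_a_rc_2_2 lc_a_rc_2_0 lc_a_rc_21_0 lc_a_rc_3_2 lc_a_rc_2_2 lc_a_rc_3_2 lc_a_rc_4_2 lc_a_rc_2_2) (@D3.rec (fun _ => (Cert rels S Gen.a)) lc_a_rc_4_0 lc_a_rc_1_2 lc_a_rc_1_4 lc_a_rc_4_2 lc_a_rc_3_2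 lc_a_rc_5_0 lc_a_rc_2_2 lc_a_rc_3_2 lc_a_rc_0_1 lc_a_rc_3_2 lc_a_rc_4_2 lc_a_rc_4_0 lc_a_rc_4_2 lc_a_rc_21_0 lc_a_rc_3_2 lc_a_rc_5_2 lc_a_rc_3_2 lc_a_rc_2_2 lc_a_rc_3_2 lc_a_rc_1_0 lc_a_rc_21_0 lc_a_rc_4_2 lc_a_rc_4_0 lc_a_rc_21_0 lc_a_rc_3_2 lc_a_rc_4_2 lc_a_rc_21_0 lc_a_rc_4_2 lc_a_rc_2_2 lc_a_rc_2_2 lc_a_rc_2_2 lc_a_rc_3_2 lc_a_rc_2_2 lc_a_Cert_tree lc_a_rc_3_2 lc_a_rc_2_2 lc_a_rc_22_0 lc_a_rc_4_2 lc_a_rc_0_1 lc_a_rc_21_0 lc_a_rc_21_0 lc_a_rc_3_2 lc_a_rc_21_0 lc_a_rc_0_1 lc_a_rc_4_2 lc_a_Cert_tree lc_a_rc_3_2 lc_a_rc_21_0 lc_a_rc_4_2 lc_a_Cert_tree lc_a_rc_3_2 lc_a_rc_3_2 lc_a_rc_3_2 lc_a_rc_4_2 lc_a_rc_3_2 lc_a_rc_0_1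 lc_a_rc_3_2 lc_a_rc_5_2 lc_a_rc_2_2 lc_a_rc_5_2 lc_a_rc_2_2 lc_a_rc_21_0) (@D3.rec (fun _ => (Cert rels S Gen.a)) lc_a_rc_0_1 lc_a_rc_4_2 lc_a_rc_3_2 lc_a_rc_3_2 lc_a_rc_4_2 lc_a_rc_4_2 lc_a_rc_3_2 lc_a_rc_4_2 lc_a_rc_4_2 lc_a_rc_0_1 lc_a_rc_0_1 lc_a_rc_3_2 lc_a_rc_21_0 lc_a_rc_4_2 lc_a_rc_4_2 lc_a_rc_4_2 lc_a_rc_2_2 lc_a_rc_4_2 lc_a_rc_3_2 lc_a_rc_22_0 lc_a_rc_4_2 lc_a_rc_3_2 lc_a_rc_4_2 lc_a_rc_21_0 lc_a_rc_2_0 lc_a_rc_3_2 lc_a_rc_5_2 lc_a_rc_2_2 lc_a_rc_2_2 lc_a_rc_3_2 lc_a_rc_0_1 lc_a_rc_1_0 lc_a_rc_21_0 lc_a_rc_2_2 lc_a_rc_1_2 lc_a_rc_0_1 lc_a_rc_3_2 lc_a_rc_0_1 lc_a_rc_4_0 lc_a_rc_1_4 lc_a_rc_3_0 lc_a_rc_3_0 lc_a_rc_5_2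 lc_a_rc_2_2 lc_a_rc_2_2 lc_a_rc_0_1 lc_a_rc_1_2 lc_a_rc_4_2 lc_a_rc_4_2 lc_a_rc_2_2 lc_a_rc_5_2 lc_a_rc_2_2 lc_a_rc_3_2 lc_a_rc_2_2 lc_a_rc_0_1 lc_a_rc_4_2 lc_a_rc_4_2 lc_a_Cert_tree lc_a_rc_3_2 lc_a_rc_21_0 lc_a_rc_2_2 lc_a_rc_2_2) (@D3.rec (fun _ => (Cert rels S Gen.a)) lc_a_rc_2_2 lc_a_rc_0_1 lc_a_rc_4_2 lc_a_rc_4_2 lc_a_rc_5_2 lc_a_rc_21_0 lc_a_rc_2_2 lc_a_rc_0_1 lc_a_rc_5_2 lc_a_rc_1_2 lc_a_rc_4_2 lc_a_rc_3_2 lc_a_rc_1_2 lc_a_rc_21_0 lc_a_rc_4_2 lc_a_rc_4_0 lc_a_rc_2_2 lc_a_rc_3_2 lc_a_rc_0_1 lc_a_rc_3_2 lc_a_rc_4_2 lc_a_rc_3_0 lc_a_rc_3_0 lc_a_rc_4_2 lc_a_rc_0_1 lc_a_rc_21_0 lc_a_rc_3_2 lc_a_rc_5_2 lc_a_rc_5_0 lc_a_rc_3_2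 lc_a_rc_5_2 lc_a_rc_1_2 lc_a_rc_3_2 lc_a_rc_5_2 lc_a_rc_4_2 lc_a_rc_5_0 lc_a_rc_4_2 lc_a_rc_2_2 lc_a_rc_5_2 lc_a_Cert_tree lc_a_rc_3_2 lc_a_rc_4_2 lc_a_rc_21_0 lc_a_rc_3_2 lc_a_rc_4_2 lc_a_rc_0_1 lc_a_rc_0_1 lc_a_rc_2_2 lc_a_rc_22_0 lc_a_rc_2_2 lc_a_rc_0_1 lc_a_rc_2_2 lc_a_rc_3_2 lc_a_rc_5_2 lc_a_rc_4_2 lc_a_rc_3_2 lc_a_rc_22_0 lc_a_rc_4_2 lc_a_rc_21_0 lc_a_rc_4_2 lc_a_rc_4_2 lc_a_rc_4_2) (@D3.rec (fun _ => (Cert rels S Gen.a)) lc_a_rc_2_2 lc_a_rc_2_0 lc_a_rc_3_2 lc_a_rc_5_2 lc_a_rc_1_2 lc_a_rc_4_2 lc_a_rc_4_2 lc_a_rc_21_0 lc_a_Cert_tree lc_a_rc_2_0 lc_a_rc_4_2 lc_a_Cert_tree lc_a_rc_3_2 lc_a_rc_2_0 lc_a_rc_21_0 lc_a_rc_3_2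 lc_a_rc_4_2 lc_a_rc_2_2 lc_a_rc_3_2 lc_a_rc_3_0 lc_a_rc_5_2 lc_a_rc_3_2 lc_a_rc_4_2 lc_a_Cert_tree lc_a_rc_2_0 lc_a_Cert_tree lc_a_rc_3_2 lc_a_rc_3_0 lc_a_rc_1_4 lc_a_rc_21_0 lc_a_rc_0_1 lc_a_rc_3_2 lc_a_rc_4_2 lc_a_rc_5_2 lc_a_rc_3_2 lc_a_rc_0_1 lc_a_rc_0_1 lc_a_rc_3_2 lc_a_rc_4_2 lc_a_rc_1_4 lc_a_rc_2_2 lc_a_rc_4_2 lc_a_rc_2_0 lc_a_rc_3_2 lc_a_rc_21_0 lc_a_rc_2_2 lc_a_rc_3_2 lc_a_rc_3_2 lc_a_rc_3_2 lc_a_rc_3_2 lc_a_rc_3_2 lc_a_rc_0_1 lc_a_rc_0_1 lc_a_rc_2_2 lc_a_rc_2_2 lc_a_rc_21_0 lc_a_rc_2_2 lc_a_rc_0_1 lc_a_rc_21_0 lc_a_rc_0_1 lc_a_Cert_tree lc_a_rc_3_2) (@D3.rec (fun _ => (Cert rels S Gen.a)) lc_a_rc_3_0 lc_a_rc_4_2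 lc_a_rc_21_0 lc_a_rc_21_0 lc_a_rc_22_0 lc_a_rc_4_2 lc_a_rc_2_2 lc_a_rc_3_2 lc_a_rc_3_2 lc_a_rc_4_2 lc_a_rc_2_2 lc_a_rc_3_2 lc_a_rc_4_2 lc_a_rc_2_2 lc_a_rc_21_0 lc_a_rc_1_4 lc_a_rc_0_1 lc_a_rc_1_2 lc_a_rc_4_2 lc_a_rc_4_2 lc_a_rc_4_2 lc_a_rc_3_2 lc_a_rc_5_2 lc_a_rc_21_0 lc_a_rc_21_0 lc_a_rc_2_2 lc_a_rc_1_2 lc_a_rc_2_2 lc_a_rc_4_2 lc_a_rc_21_0 lc_a_rc_2_0 lc_a_rc_2_2 lc_a_rc_1_2 lc_a_rc_5_0 lc_a_rc_2_2 lc_a_rc_21_0 lc_a_rc_0_1 lc_a_rc_4_2 lc_a_rc_3_2 lc_a_rc_2_0 lc_a_rc_21_0 lc_a_rc_21_0 lc_a_rc_0_1 lc_a_rc_4_0 lc_a_rc_3_2 lc_a_rc_2_2 lc_a_rc_0_1 lc_a_rc_1_4 lc_a_rc_3_0 lc_a_rc_2_2 lc_a_rc_4_2 lc_a_rc_2_0 lc_a_rc_3_2 lc_a_rc_5_2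 lc_a_rc_3_2 lc_a_rc_0_1 lc_a_rc_1_4 lc_a_rc_21_0 lc_a_rc_4_2 lc_a_rc_3_2 lc_a_rc_4_2 lc_a_rc_2_2) (@D3.rec (fun _ => (Cert rels S Gen.a)) lc_a_rc_5_0 lc_a_rc_3_2 lc_a_rc_5_2 lc_a_rc_3_0 lc_a_rc_4_2 lc_a_rc_3_0 lc_a_rc_0_1 lc_a_rc_22_0 lc_a_rc_4_2 lc_a_rc_5_0 lc_a_rc_3_2 lc_a_rc_3_2 lc_a_rc_5_2 lc_a_Cert_tree lc_a_rc_0_1 lc_a_Cert_tree lc_a_rc_2_2 lc_a_rc_21_0 lc_a_rc_5_0 lc_a_rc_3_0 lc_a_rc_0_1 lc_a_rc_2_2 lc_a_rc_5_2 lc_a_rc_0_1 lc_a_rc_5_2 lc_a_rc_4_2 lc_a_rc_21_0 lc_a_rc_2_2 lc_a_rc_4_0 lc_a_rc_5_2 lc_a_rc_3_0 lc_a_rc_3_0 lc_a_rc_3_2 lc_a_rc_5_2 lc_a_rc_3_2 lc_a_rc_0_1 lc_a_rc_4_2 lc_a_rc_5_0 lc_a_rc_4_2 lc_a_rc_4_0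 lc_a_rc_5_2 lc_a_rc_5_0 lc_a_rc_0_1 lc_a_rc_0_1 lc_a_rc_21_0 lc_a_rc_1_4 lc_a_rc_2_2 lc_a_rc_0_1 lc_a_rc_4_2 lc_a_rc_5_0 lc_a_rc_2_2 lc_a_rc_5_2 lc_a_rc_5_2 lc_a_rc_2_2 lc_a_rc_4_2 lc_a_rc_3_2 lc_a_rc_2_0 lc_a_rc_2_2 lc_a_rc_2_0 lc_a_rc_0_1 lc_a_rc_3_0 lc_a_rc_2_2) (@D3.rec (fun _ => (Cert rels S Gen.a)) lc_a_rc_4_2 lc_a_rc_0_1 lc_a_rc_0_1 lc_a_rc_0_1 lc_a_rc_1_4 lc_a_rc_3_2 lc_a_rc_21_0 lc_a_rc_4_2 lc_a_rc_5_0 lc_a_rc_4_2 lc_a_rc_0_1 lc_a_rc_21_0 lc_a_rc_1_2 lc_a_rc_5_2 lc_a_rc_4_2 lc_a_Cert_tree lc_a_rc_4_2 lc_a_rc_3_2 lc_a_rc_2_2 lc_a_rc_21_0 lc_a_Cert_tree lc_a_rc_3_2 lc_a_rc_2_2 lc_a_rc_4_2 lc_a_rc_3_2 lc_a_rc_21_0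 lc_a_rc_3_2 lc_a_rc_3_2 lc_a_rc_3_2 lc_a_rc_21_0 lc_a_rc_3_2 lc_a_rc_22_0 lc_a_rc_4_2 lc_a_rc_22_0 lc_a_Cert_tree lc_a_rc_3_2 lc_a_rc_4_2 lc_a_rc_0_1 lc_a_rc_3_2 lc_a_rc_2_2 lc_a_rc_3_2 lc_a_rc_21_0 lc_a_rc_0_1 lc_a_rc_3_2 lc_a_rc_4_2 lc_a_rc_3_0 lc_a_rc_4_2 lc_a_rc_2_0 lc_a_rc_3_2 lc_a_rc_2_2 lc_a_rc_2_2 lc_a_rc_3_2 lc_a_rc_21_0 lc_a_rc_3_2 lc_a_rc_4_2 lc_a_rc_2_2 lc_a_rc_4_2 lc_a_rc_0_1 lc_a_rc_2_2 lc_a_rc_2_2 lc_a_rc_4_2 lc_a_rc_2_2) (@D3.rec (fun _ => (Cert rels S Gen.a)) lc_a_rc_21_0 lc_a_rc_0_1 lc_a_Cert_tree lc_a_rc_3_2 lc_a_rc_3_2 lc_a_rc_2_2 lc_a_Cert_tree lc_a_rc_3_2 lc_a_Cert_tree lc_a_rc_5_2 lc_a_rc_4_2 lc_a_rc_3_2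 lc_a_Cert_tree lc_a_rc_5_0 lc_a_rc_0_1 lc_a_Cert_tree lc_a_rc_3_2 lc_a_rc_4_2 lc_a_Cert_tree lc_a_rc_2_0 lc_a_rc_21_0 lc_a_rc_0_1 lc_a_rc_0_1 lc_a_rc_3_2 lc_a_rc_2_2 lc_a_rc_2_2 lc_a_rc_2_2 lc_a_rc_4_2 lc_a_rc_21_0 lc_a_rc_1_4 lc_a_rc_4_2 lc_a_rc_3_2 lc_a_rc_2_2 lc_a_rc_2_2 lc_a_rc_3_2 lc_a_rc_4_2 lc_a_Cert_tree lc_a_rc_3_2 lc_a_rc_4_2 lc_a_rc_21_0 lc_a_rc_0_1 lc_a_rc_3_0 lc_a_rc_2_2 lc_a_rc_21_0 lc_a_rc_3_2 lc_a_rc_2_2 lc_a_rc_2_2 lc_a_rc_1_2 lc_a_rc_21_0 lc_a_rc_2_2 lc_a_rc_2_2 lc_a_rc_2_2 lc_a_rc_0_1 lc_a_rc_21_0 lc_a_Cert_tree lc_a_rc_3_2 lc_a_rc_3_2 lc_a_rc_3_0 lc_a_rc_5_0 lc_a_rc_2_2 lc_a_Cert_tree lc_a_Cert_tree)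 (@D3.rec (fun _ => (Cert rels S Gen.a)) lc_a_rc_3_2 lc_a_rc_2_2 lc_a_rc_0_1 lc_a_Cert_tree lc_a_rc_0_1 lc_a_rc_0_1 lc_a_rc_3_2 lc_a_rc_21_0 lc_a_rc_4_2 lc_a_rc_5_2 lc_a_rc_4_2 lc_a_Cert_tree lc_a_rc_3_2 lc_a_rc_2_2 lc_a_rc_0_1 lc_a_rc_2_2 lc_a_rc_3_2 lc_a_rc_4_0 lc_a_rc_4_2 lc_a_rc_1_4 lc_a_rc_3_2 lc_a_rc_3_2 lc_a_rc_21_0 lc_a_Cert_tree lc_a_rc_2_2 lc_a_rc_3_2 lc_a_rc_0_1 lc_a_rc_4_0 lc_a_rc_2_2 lc_a_rc_21_0 lc_a_rc_3_2 lc_a_rc_4_2 lc_a_rc_2_2 lc_a_rc_2_2 lc_a_rc_2_0 lc_a_rc_5_0 lc_a_Cert_tree lc_a_rc_22_0 lc_a_rc_21_0 lc_a_Cert_tree lc_a_rc_3_2 lc_a_rc_4_0 lc_a_rc_0_1 lc_a_rc_4_2 lc_a_Cert_tree lc_a_rc_2_2 lc_a_rc_4_2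 lc_a_Cert_tree lc_a_rc_0_1 lc_a_rc_0_1 lc_a_rc_3_2 lc_a_rc_21_0 lc_a_rc_5_2 lc_a_rc_4_2 lc_a_rc_0_1 lc_a_rc_5_2 lc_a_rc_0_1 lc_a_rc_21_0 lc_a_rc_4_2 lc_a_rc_2_2 lc_a_rc_4_2 lc_a_rc_5_0) (@D3.rec (fun _ => (Cert rels S Gen.a)) lc_a_rc_0_1 lc_a_rc_4_2 lc_a_rc_4_2 lc_a_rc_2_0 lc_a_rc_2_0 lc_a_rc_3_2 lc_a_rc_5_2 lc_a_rc_3_2 lc_a_rc_5_0 lc_a_rc_4_2 lc_a_rc_5_0 lc_a_rc_4_2 lc_a_rc_5_0 lc_a_rc_1_4 lc_a_rc_3_2 lc_a_rc_5_2 lc_a_rc_1_2 lc_a_rc_4_2 lc_a_rc_2_2 lc_a_rc_4_2 lc_a_rc_3_2 lc_a_rc_3_2 lc_a_rc_4_2 lc_a_rc_4_0 lc_a_rc_5_2 lc_a_rc_4_2 lc_a_rc_2_2 lc_a_rc_3_2 lc_a_rc_3_2 lc_a_rc_21_0 lc_a_rc_21_0 lc_a_rc_5_0 lc_a_rc_5_0 lc_a_rc_5_0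 lc_a_rc_3_2 lc_a_rc_2_2 lc_a_rc_5_2 lc_a_rc_4_2 lc_a_rc_0_1 lc_a_rc_21_0 lc_a_rc_4_2 lc_a_rc_5_2 lc_a_Cert_tree lc_a_rc_0_1 lc_a_rc_0_1 lc_a_rc_5_2 lc_a_rc_21_0 lc_a_rc_3_2 lc_a_rc_21_0 lc_a_rc_3_2 lc_a_rc_5_2 lc_a_rc_0_1 lc_a_rc_21_0 lc_a_rc_1_4 lc_a_rc_4_2 lc_a_rc_21_0 lc_a_rc_21_0 lc_a_rc_4_2 lc_a_rc_0_1 lc_a_rc_4_2 lc_a_rc_3_2 lc_a_rc_21_0) (@D3.rec (fun _ => (Cert rels S Gen.a)) lc_a_rc_2_2 lc_a_rc_5_2 lc_a_rc_1_4 lc_a_rc_0_1 lc_a_rc_4_2 lc_a_rc_3_0 lc_a_rc_2_0 lc_a_rc_2_0 lc_a_rc_3_2 lc_a_rc_5_2 lc_a_rc_4_2 lc_a_rc_2_2 lc_a_rc_3_2 lc_a_rc_2_2 lc_a_rc_3_2 lc_a_rc_21_0 lc_a_rc_5_0 lc_a_Cert_tree lc_a_rc_21_0 lc_a_rc_4_2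 lc_a_rc_21_0 lc_a_rc_2_2 lc_a_rc_4_2 lc_a_rc_2_2 lc_a_Cert_tree lc_a_rc_4_2 lc_a_rc_5_0 lc_a_rc_4_2 lc_a_rc_5_2 lc_a_rc_2_2 lc_a_rc_2_2 lc_a_rc_4_2 lc_a_rc_2_2 lc_a_rc_3_2 lc_a_rc_4_2 lc_a_rc_22_0 lc_a_rc_3_2 lc_a_rc_0_1 lc_a_rc_4_2 lc_a_Cert_tree lc_a_rc_4_2 lc_a_rc_0_1 lc_a_rc_21_0 lc_a_rc_21_0 lc_a_rc_4_2 lc_a_rc_4_2 lc_a_rc_5_2 lc_a_rc_2_2 lc_a_rc_4_2 lc_a_Cert_tree lc_a_rc_5_0 lc_a_rc_4_2 lc_a_rc_5_2 lc_a_rc_3_2 lc_a_Cert_tree lc_a_rc_0_1 lc_a_rc_0_1 lc_a_rc_3_2 lc_a_rc_2_0 lc_a_rc_4_2 lc_a_rc_4_2 lc_a_rc_3_2) (@D3.rec (fun _ => (Cert rels S Gen.a)) lc_a_rc_1_4 lc_a_rc_3_2 lc_a_rc_5_2 lc_a_rc_0_1 lc_a_rc_3_2 lc_a_Cert_tree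 lc_a_rc_21_0 lc_a_Cert_tree lc_a_rc_5_0 lc_a_rc_0_1 lc_a_rc_2_2 lc_a_rc_3_2 lc_a_rc_3_0 lc_a_rc_0_1 lc_a_rc_0_1 lc_a_rc_21_0 lc_a_rc_1_4 lc_a_rc_4_2 lc_a_Cert_tree lc_a_rc_4_2 lc_a_Cert_tree lc_a_rc_1_4 lc_a_rc_4_2 lc_a_rc_5_0 lc_a_rc_3_2 lc_a_rc_5_2 lc_a_rc_5_0 lc_a_rc_0_1 lc_a_rc_3_2 lc_a_rc_4_2 lc_a_rc_1_4 lc_a_rc_4_2 lc_a_rc_5_2 lc_a_rc_4_2 lc_a_rc_3_2 lc_a_rc_4_2 lc_a_Cert_tree lc_a_rc_2_2 lc_a_Cert_tree lc_a_rc_2_0 lc_a_rc_4_2 lc_a_rc_2_2 lc_a_rc_3_0 lc_a_rc_2_2 lc_a_rc_4_2 lc_a_rc_0_1 lc_a_rc_3_2 lc_a_rc_4_2 lc_a_rc_0_1 lc_a_rc_3_0 lc_a_rc_3_2 lc_a_rc_3_0 lc_a_rc_22_0 lc_a_rc_3_2 lc_a_rc_3_2 lc_a_rc_3_2 lc_a_rc_0_1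 lc_a_rc_3_2 lc_a_rc_3_2 lc_a_rc_21_0 lc_a_rc_3_2 lc_a_rc_0_1) (@D3.rec (fun _ => (Cert rels S Gen.a)) lc_a_rc_4_2 lc_a_rc_4_0 lc_a_rc_3_2 lc_a_rc_1_4 lc_a_rc_1_2 lc_a_rc_0_1 lc_a_rc_2_0 lc_a_rc_0_1 lc_a_rc_0_1 lc_a_rc_21_0 lc_a_rc_4_2 lc_a_Cert_tree lc_a_rc_2_2 lc_a_rc_4_2 lc_a_rc_3_2 lc_a_rc_3_2 lc_a_rc_2_2 lc_a_rc_5_0 lc_a_rc_4_2 lc_a_rc_4_2 lc_a_Cert_tree lc_a_rc_0_1 lc_a_rc_4_2 lc_a_Cert_tree lc_a_rc_4_2 lc_a_rc_4_2 lc_a_rc_5_0 lc_a_rc_4_0 lc_a_rc_5_2 lc_a_rc_3_2 lc_a_rc_4_2 lc_a_rc_4_2 lc_a_rc_3_2 lc_a_rc_2_2 lc_a_Cert_tree lc_a_rc_0_1 lc_a_rc_0_1 lc_a_rc_3_2 lc_a_rc_21_0 lc_a_rc_3_2 lc_a_rc_2_2 lc_a_rc_3_0 lc_a_rc_22_0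 lc_a_rc_3_2 lc_a_rc_2_2 lc_a_Cert_tree lc_a_rc_3_2 lc_a_rc_2_2 lc_a_Cert_tree lc_a_rc_3_2 lc_a_rc_2_2 lc_a_rc_0_1 lc_a_Cert_tree lc_a_rc_5_0 lc_a_rc_2_2 lc_a_rc_4_2 lc_a_rc_2_2 lc_a_rc_4_2 lc_a_rc_4_2 lc_a_rc_21_0 lc_a_Cert_tree lc_a_rc_0_1) (@D3.rec (fun _ => (Cert rels S Gen.a)) lc_a_rc_0_1 lc_a_rc_3_2 lc_a_rc_21_0 lc_a_rc_4_2 lc_a_rc_4_2 lc_a_Cert_tree lc_a_rc_2_2 lc_a_rc_5_0 lc_a_rc_4_2 lc_a_rc_5_2 lc_a_rc_4_2 lc_a_Cert_tree lc_a_rc_2_2 lc_a_rc_5_0 lc_a_rc_5_2 lc_a_Cert_tree lc_a_rc_3_2 lc_a_rc_4_2 lc_a_rc_5_0 lc_a_rc_4_2 lc_a_rc_5_2 lc_a_Cert_tree lc_a_rc_2_2 lc_a_rc_4_2 lc_a_Cert_tree lc_a_rc_3_2 lc_a_rc_2_2 lc_a_rc_2_2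 lc_a_rc_5_0 lc_a_rc_0_1 lc_a_rc_3_2 lc_a_rc_4_2 lc_a_rc_0_1 lc_a_rc_4_2 lc_a_rc_5_0 lc_a_rc_4_2 lc_a_rc_3_2 lc_a_rc_2_2 lc_a_rc_4_2 lc_a_rc_3_2 lc_a_rc_4_2 lc_a_rc_5_2 lc_a_rc_5_2 lc_a_rc_3_2 lc_a_rc_4_2 lc_a_rc_3_2 lc_a_Cert_tree lc_a_rc_3_2 lc_a_rc_4_2 lc_a_rc_0_1 lc_a_rc_5_2 lc_a_Cert_tree lc_a_rc_2_2 lc_a_rc_4_2 lc_a_rc_4_2 lc_a_rc_2_2 lc_a_rc_21_0 lc_a_rc_0_1 lc_a_rc_3_2 lc_a_rc_4_2 lc_a_rc_4_2 lc_a_rc_4_2) (@D3.rec (fun _ => (Cert rels S Gen.a)) lc_a_rc_4_0 lc_a_rc_3_2 lc_a_rc_2_2 lc_a_rc_0_1 lc_a_rc_21_0 lc_a_rc_1_2 lc_a_Cert_tree lc_a_rc_4_2 lc_a_rc_5_0 lc_a_rc_2_2 lc_a_rc_0_1 lc_a_rc_3_2 lc_a_rc_4_2 lc_a_rc_3_2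 lc_a_rc_3_2 lc_a_rc_4_2 lc_a_rc_4_2 lc_a_rc_5_0 lc_a_rc_22_0 lc_a_rc_3_2 lc_a_rc_2_2 lc_a_rc_3_2 lc_a_rc_21_0 lc_a_rc_3_2 lc_a_rc_4_2 lc_a_Cert_tree lc_a_rc_5_0 lc_a_rc_2_2 lc_a_rc_0_1 lc_a_rc_4_2 lc_a_rc_21_0 lc_a_rc_5_2 lc_a_rc_5_0 lc_a_rc_1_2 lc_a_rc_0_1 lc_a_rc_3_2 lc_a_rc_21_0 lc_a_rc_4_2 lc_a_rc_2_2 lc_a_rc_3_0 lc_a_rc_2_0 lc_a_rc_5_2 lc_a_rc_21_0 lc_a_rc_2_2 lc_a_rc_4_2 lc_a_rc_0_1 lc_a_rc_21_0 lc_a_rc_0_1 lc_a_rc_0_1 lc_a_rc_3_2 lc_a_rc_3_0 lc_a_rc_0_1 lc_a_rc_4_2 lc_a_rc_3_2 lc_a_rc_21_0 lc_a_rc_21_0 lc_a_rc_0_1 lc_a_rc_0_1 lc_a_rc_3_2 lc_a_rc_4_2 lc_a_rc_4_2 lc_a_rc_0_1) (@D3.rec (fun _ => (Cert rels S Gen.a))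 lc_a_rc_21_0 lc_a_rc_0_1 lc_a_Cert_tree lc_a_rc_3_2 lc_a_rc_2_0 lc_a_rc_21_0 lc_a_Cert_tree lc_a_rc_3_2 lc_a_rc_3_2 lc_a_rc_5_0 lc_a_rc_3_2 lc_a_rc_2_2 lc_a_rc_4_2 lc_a_rc_3_0 lc_a_rc_4_2 lc_a_Cert_tree lc_a_rc_4_2 lc_a_rc_4_0 lc_a_rc_4_2 lc_a_Cert_tree lc_a_rc_4_2 lc_a_rc_3_2 lc_a_rc_3_2 lc_a_rc_5_2 lc_a_rc_4_2 lc_a_rc_1_4 lc_a_rc_3_2 lc_a_rc_2_2 lc_a_rc_4_2 lc_a_rc_3_2 lc_a_rc_5_0 lc_a_rc_5_0 lc_a_rc_5_0 lc_a_rc_21_0 lc_a_rc_1_2 lc_a_rc_4_2 lc_a_rc_21_0 lc_a_rc_4_2 lc_a_rc_5_2 lc_a_Cert_tree lc_a_rc_4_2 lc_a_rc_5_0 lc_a_rc_4_2 lc_a_rc_0_1 lc_a_rc_21_0 lc_a_rc_3_2 lc_a_rc_5_0 lc_a_rc_2_2 lc_a_rc_3_2 lc_a_rc_21_0 lc_a_rc_4_2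 lc_a_rc_4_2 lc_a_rc_21_0 lc_a_rc_3_2 lc_a_rc_21_0 lc_a_rc_5_0 lc_a_rc_4_0 lc_a_rc_3_2 lc_a_rc_4_2 lc_a_rc_4_2 lc_a_rc_5_2 lc_a_Cert_tree) (@D3.rec (fun _ => (Cert rels S Gen.a)) lc_a_rc_4_2 lc_a_rc_4_2 lc_a_rc_2_2 lc_a_rc_21_0 lc_a_rc_3_2 lc_a_rc_4_2 lc_a_rc_4_2 lc_a_rc_1_2 lc_a_rc_5_0 lc_a_rc_2_2 lc_a_rc_4_2 lc_a_rc_2_2 lc_a_rc_21_0 lc_a_rc_0_1 lc_a_Cert_tree lc_a_rc_3_2 lc_a_rc_2_2 lc_a_rc_2_2 lc_a_rc_1_2 lc_a_rc_5_0 lc_a_rc_3_2 lc_a_rc_2_2 lc_a_rc_4_2 lc_a_rc_0_1 lc_a_rc_5_0 lc_a_rc_4_2 lc_a_rc_1_0 lc_a_rc_1_2 lc_a_rc_1_2 lc_a_rc_2_2 lc_a_rc_4_2 lc_a_rc_21_0 lc_a_rc_21_0 lc_a_rc_2_2 lc_a_rc_0_1 lc_a_rc_4_2 lc_a_rc_3_2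 lc_a_rc_4_2 lc_a_rc_3_2 lc_a_rc_4_2 lc_a_rc_21_0 lc_a_rc_21_0 lc_a_rc_5_0 lc_a_rc_4_2 lc_a_rc_0_1 lc_a_rc_5_2 lc_a_rc_5_0 lc_a_rc_5_0 lc_a_rc_4_2 lc_a_rc_3_2 lc_a_rc_21_0 lc_a_rc_2_2 lc_a_rc_4_2 lc_a_rc_3_2 lc_a_rc_4_2 lc_a_rc_4_2 lc_a_rc_5_0 lc_a_rc_5_2 lc_a_rc_2_2 lc_a_rc_1_2 lc_a_rc_2_2 lc_a_rc_3_2) (@D3.rec (fun _ => (Cert rels S Gen.a)) lc_a_rc_3_2 lc_a_rc_0_1 lc_a_rc_2_2 lc_a_rc_3_2 lc_a_rc_4_2 lc_a_rc_4_2 lc_a_rc_3_2 lc_a_rc_5_2 lc_a_rc_21_0 lc_a_rc_3_2 lc_a_rc_0_1 lc_a_rc_3_2 lc_a_rc_4_2 lc_a_rc_2_2 lc_a_rc_4_2 lc_a_rc_5_2 lc_a_Cert_tree lc_a_rc_3_2 lc_a_rc_4_2 lc_a_Cert_tree lc_a_rc_21_0 lc_a_rc_3_2 lc_a_rc_0_1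 lc_a_rc_21_0 lc_a_rc_3_0 lc_a_rc_4_2 lc_a_Cert_tree lc_a_rc_4_2 lc_a_Cert_tree lc_a_rc_4_2 lc_a_rc_2_0 lc_a_rc_0_1 lc_a_rc_5_2 lc_a_rc_21_0 lc_a_rc_4_2 lc_a_rc_3_2 lc_a_rc_21_0 lc_a_rc_5_0 lc_a_rc_21_0 lc_a_rc_3_2 lc_a_rc_4_2 lc_a_rc_3_2 lc_a_rc_3_2 lc_a_rc_21_0 lc_a_rc_5_2 lc_a_rc_4_2 lc_a_rc_5_0 lc_a_rc_3_2 lc_a_rc_21_0 lc_a_rc_5_0 lc_a_rc_3_0 lc_a_rc_21_0 lc_a_rc_1_4 lc_a_rc_3_0 lc_a_rc_4_2 lc_a_rc_4_2 lc_a_rc_21_0 lc_a_rc_21_0 lc_a_rc_5_0 lc_a_rc_1_4 lc_a_rc_4_2 lc_a_rc_21_0) (@D3.rec (fun _ => (Cert rels S Gen.a)) lc_a_rc_3_0 lc_a_rc_21_0 lc_a_rc_4_2 lc_a_rc_1_0 lc_a_rc_2_2 lc_a_rc_4_0 lc_a_rc_21_0 lc_a_rc_0_1 lc_a_rc_0_1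 lc_a_rc_3_2 lc_a_rc_5_0 lc_a_rc_2_2 lc_a_rc_4_0 lc_a_rc_3_2 lc_a_rc_2_2 lc_a_rc_2_2 lc_a_rc_4_2 lc_a_rc_3_2 lc_a_rc_1_2 lc_a_rc_4_2 lc_a_rc_2_2 lc_a_rc_4_2 lc_a_rc_2_2 lc_a_rc_3_2 lc_a_rc_4_2 lc_a_rc_4_2 lc_a_rc_22_0 lc_a_rc_21_0 lc_a_rc_4_2 lc_a_rc_2_2 lc_a_rc_1_4 lc_a_rc_4_2 lc_a_Cert_tree lc_a_rc_3_2 lc_a_rc_4_2 lc_a_Cert_tree lc_a_rc_3_2 lc_a_rc_4_2 lc_a_rc_5_2 lc_a_Cert_tree lc_a_rc_2_2 lc_a_rc_2_2 lc_a_rc_3_2 lc_a_rc_3_2 lc_a_rc_5_2 lc_a_Cert_tree lc_a_rc_22_0 lc_a_rc_4_2 lc_a_Cert_tree lc_a_rc_2_0 lc_a_rc_4_2 lc_a_Cert_tree lc_a_rc_0_1 lc_a_rc_0_1 lc_a_rc_21_0 lc_a_rc_21_0 lc_a_rc_3_2 lc_a_rc_21_0 lc_a_rc_22_0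 lc_a_rc_4_2 lc_a_rc_22_0 lc_a_rc_4_2) (@D3.rec (fun _ => (Cert rels S Gen.a)) lc_a_rc_3_2 lc_a_rc_2_2 lc_a_rc_4_2 lc_a_rc_4_2 lc_a_Cert_tree lc_a_rc_3_2 lc_a_rc_4_2 lc_a_Cert_tree lc_a_rc_3_2 lc_a_rc_4_2 lc_a_rc_21_0 lc_a_rc_5_2 lc_a_Cert_tree lc_a_rc_3_2 lc_a_rc_4_2 lc_a_rc_3_2 lc_a_rc_3_2 lc_a_rc_5_2 lc_a_Cert_tree lc_a_rc_2_0 lc_a_rc_4_2 lc_a_Cert_tree lc_a_rc_2_2 lc_a_rc_4_2 lc_a_Cert_tree lc_a_rc_0_1 lc_a_rc_0_1 lc_a_rc_1_2 lc_a_rc_21_0 lc_a_rc_3_2 lc_a_rc_3_2 lc_a_rc_22_0 lc_a_rc_4_2 lc_a_rc_22_0 lc_a_rc_4_2 lc_a_rc_3_2 lc_a_Cert_tree lc_a_rc_3_2 lc_a_rc_2_2 lc_a_Cert_tree lc_a_rc_2_2 lc_a_rc_4_2 lc_a_Cert_tree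 lc_a_rc_3_2 lc_a_rc_4_2 lc_a_rc_4_2 lc_a_rc_3_2 lc_a_rc_21_0 lc_a_rc_4_2 lc_a_rc_4_2 lc_a_rc_5_2 lc_a_Cert_tree lc_a_rc_3_2 lc_a_rc_5_2 lc_a_Cert_tree lc_a_rc_0_1 lc_a_rc_0_1 lc_a_rc_3_2 lc_a_rc_21_0 lc_a_rc_2_2 lc_a_rc_4_2 lc_a_rc_4_2) (@D3.rec (fun _ => (Cert rels S Gen.a)) lc_a_rc_3_2 lc_a_Cert_tree lc_a_rc_2_2 lc_a_rc_5_0 lc_a_Cert_tree lc_a_rc_5_2 lc_a_rc_4_2 lc_a_rc_3_2 lc_a_Cert_tree lc_a_rc_2_2 lc_a_rc_3_2 lc_a_rc_4_2 lc_a_rc_5_2 lc_a_Cert_tree lc_a_rc_3_2 lc_a_rc_4_2 lc_a_rc_4_2 lc_a_rc_21_0 lc_a_rc_1_4 lc_a_Cert_tree lc_a_rc_3_2 lc_a_rc_2_2 lc_a_rc_22_0 lc_a_rc_3_2 lc_a_rc_4_2 lc_a_rc_21_0 lc_a_rc_0_1 lc_a_rc_0_1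 lc_a_rc_3_2 lc_a_rc_4_2 lc_a_rc_0_1 lc_a_rc_4_2 lc_a_rc_5_0 lc_a_rc_2_2 lc_a_rc_3_2 lc_a_rc_2_2 lc_a_rc_2_2 lc_a_rc_4_2 lc_a_rc_4_2 lc_a_rc_5_2 lc_a_Cert_tree lc_a_rc_3_2 lc_a_rc_3_2 lc_a_rc_4_2 lc_a_Cert_tree lc_a_rc_2_2 lc_a_rc_4_2 lc_a_rc_21_0 lc_a_rc_4_2 lc_a_Cert_tree lc_a_rc_2_2 lc_a_rc_21_0 lc_a_rc_21_0 lc_a_rc_21_0 lc_a_rc_0_1 lc_a_rc_0_1 lc_a_rc_3_2 lc_a_rc_4_2 lc_a_rc_4_2 lc_a_rc_21_0 lc_a_rc_2_2 lc_a_rc_2_0) (@D3.rec (fun _ => (Cert rels S Gen.a)) lc_a_rc_2_2 lc_a_rc_2_2 lc_a_rc_21_0 lc_a_rc_4_2 lc_a_rc_4_2 lc_a_rc_5_2 lc_a_Cert_tree lc_a_rc_4_2 lc_a_rc_21_0 lc_a_rc_3_2 lc_a_rc_0_1 lc_a_rc_3_2 lc_a_rc_2_0 lc_a_rc_3_2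 lc_a_rc_4_2 lc_a_rc_2_2 lc_a_rc_21_0 lc_a_rc_0_1 lc_a_rc_2_2 lc_a_rc_3_2 lc_a_rc_21_0 lc_a_rc_21_0 lc_a_rc_1_2 lc_a_rc_2_2 lc_a_Cert_tree lc_a_rc_2_2 lc_a_rc_4_2 lc_a_rc_4_2 lc_a_rc_21_0 lc_a_rc_21_0 lc_a_rc_1_4 lc_a_rc_3_2 lc_a_rc_0_1 lc_a_rc_3_2 lc_a_rc_4_2 lc_a_rc_4_2 lc_a_rc_5_0 lc_a_rc_2_2 lc_a_rc_3_2 lc_a_rc_21_0 lc_a_rc_2_2 lc_a_rc_21_0 lc_a_rc_5_0 lc_a_rc_21_0 lc_a_rc_4_2 lc_a_rc_4_2 lc_a_rc_0_1 lc_a_rc_21_0 lc_a_rc_0_1 lc_a_rc_2_2 lc_a_rc_3_2 lc_a_rc_4_2 lc_a_rc_3_2 lc_a_rc_4_2 lc_a_rc_3_2 lc_a_rc_5_2 lc_a_rc_22_0 lc_a_rc_2_2 lc_a_rc_0_1 lc_a_rc_3_2 lc_a_rc_2_2 lc_a_rc_0_1) (@D3.rec (fun _ => (Cert rels S Gen.a))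 lc_a_rc_3_2 lc_a_rc_2_2 lc_a_rc_0_1 lc_a_Cert_tree lc_a_rc_2_0 lc_a_Cert_tree lc_a_rc_0_1 lc_a_rc_3_2 lc_a_rc_2_0 lc_a_rc_2_0 lc_a_rc_5_2 lc_a_Cert_tree lc_a_rc_4_2 lc_a_rc_21_0 lc_a_rc_4_2 lc_a_Cert_tree lc_a_rc_4_2 lc_a_rc_2_2 lc_a_rc_21_0 lc_a_rc_4_2 lc_a_rc_2_2 lc_a_rc_5_0 lc_a_rc_5_0 lc_a_rc_21_0 lc_a_rc_21_0 lc_a_rc_21_0 lc_a_rc_2_2 lc_a_rc_0_1 lc_a_rc_1_4 lc_a_rc_5_0 lc_a_rc_5_0 lc_a_rc_21_0 lc_a_rc_4_2 lc_a_rc_2_2 lc_a_rc_2_2 lc_a_rc_5_0 lc_a_rc_21_0 lc_a_rc_2_2 lc_a_rc_2_2 lc_a_rc_22_0 lc_a_rc_3_2 lc_a_rc_3_2 lc_a_rc_4_2 lc_a_rc_3_2 lc_a_rc_5_0 lc_a_rc_5_2 lc_a_Cert_tree lc_a_rc_4_2 lc_a_rc_4_2 lc_a_rc_21_0 lc_a_rc_2_2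 lc_a_rc_3_2 lc_a_rc_2_2 lc_a_rc_3_2 lc_a_rc_2_2 lc_a_rc_3_2 lc_a_rc_5_0 lc_a_rc_5_0 lc_a_rc_5_0 lc_a_rc_4_2 lc_a_rc_5_2 lc_a_rc_2_2) (@D3.rec (fun _ => (Cert rels S Gen.a)) lc_a_rc_3_2 lc_a_rc_4_2 lc_a_rc_5_0 lc_a_rc_3_2 lc_a_rc_4_2 lc_a_rc_5_0 lc_a_Cert_tree lc_a_rc_4_2 lc_a_rc_0_1 lc_a_rc_4_2 lc_a_rc_3_2 lc_a_rc_0_1 lc_a_rc_3_0 lc_a_rc_21_0 lc_a_rc_0_1 lc_a_rc_5_2 lc_a_rc_3_2 lc_a_rc_4_2 lc_a_rc_21_0 lc_a_rc_3_0 lc_a_rc_3_2 lc_a_rc_3_0 lc_a_rc_3_0 lc_a_rc_3_0 lc_a_rc_4_2 lc_a_Cert_tree lc_a_rc_5_0 lc_a_rc_3_2 lc_a_rc_3_2 lc_a_rc_21_0 lc_a_rc_21_0 lc_a_rc_2_2 lc_a_rc_4_2 lc_a_rc_21_0 lc_a_rc_2_2 lc_a_rc_4_2 lc_a_rc_5_0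 lc_a_rc_0_1 lc_a_rc_2_2 lc_a_rc_5_2 lc_a_rc_1_2 lc_a_rc_1_2 lc_a_rc_21_0 lc_a_rc_2_2 lc_a_rc_3_2 lc_a_rc_3_2 lc_a_rc_2_2 lc_a_rc_22_0 lc_a_Cert_tree lc_a_rc_5_0 lc_a_rc_1_4 lc_a_rc_0_1 lc_a_rc_3_2 lc_a_rc_4_2 lc_a_rc_4_2 lc_a_rc_2_2 lc_a_rc_3_2 lc_a_rc_5_2 lc_a_rc_3_2 lc_a_rc_2_2 lc_a_rc_4_2 lc_a_Cert_tree) (@D3.rec (fun _ => (Cert rels S Gen.a)) lc_a_rc_4_2 lc_a_rc_21_0 lc_a_rc_4_2 lc_a_rc_5_2 lc_a_rc_3_2 lc_a_Cert_tree lc_a_rc_4_2 lc_a_rc_5_0 lc_a_rc_3_2 lc_a_rc_4_2 lc_a_rc_3_2 lc_a_rc_4_2 lc_a_rc_3_2 lc_a_rc_2_2 lc_a_rc_1_4 lc_a_rc_21_0 lc_a_rc_4_2 lc_a_rc_4_2 lc_a_rc_21_0 lc_a_rc_3_2 lc_a_rc_2_2 lc_a_rc_4_2 lc_a_rc_21_0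 lc_a_rc_4_2 lc_a_rc_2_2 lc_a_rc_2_0 lc_a_rc_3_2 lc_a_rc_3_2 lc_a_rc_0_1 lc_a_rc_2_2 lc_a_rc_4_2 lc_a_rc_3_2 lc_a_rc_3_2 lc_a_rc_3_2 lc_a_rc_3_0 lc_a_rc_0_1 lc_a_rc_0_1 lc_a_rc_4_2 lc_a_rc_2_2 lc_a_rc_4_2 lc_a_Cert_tree lc_a_rc_22_0 lc_a_rc_4_2 lc_a_rc_3_2 lc_a_rc_4_2 lc_a_rc_21_0 lc_a_rc_4_2 lc_a_rc_3_2 lc_a_rc_4_2 lc_a_rc_5_0 lc_a_rc_3_2 lc_a_rc_5_2 lc_a_rc_4_2 lc_a_Cert_tree lc_a_rc_2_2 lc_a_rc_4_2 lc_a_rc_2_2 lc_a_rc_1_4 lc_a_rc_2_2 lc_a_rc_0_1 lc_a_rc_4_0 lc_a_rc_0_1) (@D3.rec (fun _ => (Cert rels S Gen.a)) lc_a_rc_3_2 lc_a_rc_4_2 lc_a_rc_5_2 lc_a_rc_0_1 lc_a_rc_2_2 lc_a_rc_22_0 lc_a_rc_4_0 lc_a_rc_3_2 lc_a_rc_21_0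 lc_a_rc_4_2 lc_a_rc_5_0 lc_a_rc_2_2 lc_a_rc_5_0 lc_a_Cert_tree lc_a_rc_2_2 lc_a_rc_4_2 lc_a_rc_4_2 lc_a_rc_4_2 lc_a_rc_4_2 lc_a_rc_4_0 lc_a_rc_4_2 lc_a_rc_3_2 lc_a_rc_3_2 lc_a_rc_3_2 lc_a_rc_3_2 lc_a_rc_2_2 lc_a_rc_21_0 lc_a_rc_2_2 lc_a_Cert_tree lc_a_rc_4_0 lc_a_rc_4_2 lc_a_rc_3_2 lc_a_rc_3_0 lc_a_rc_3_2 lc_a_rc_5_2 lc_a_rc_22_0 lc_a_rc_3_2 lc_a_rc_3_0 lc_a_rc_5_2 lc_a_rc_3_0 lc_a_rc_21_0 lc_a_rc_0_1 lc_a_rc_2_2 lc_a_rc_4_2 lc_a_rc_22_0 lc_a_rc_3_0 lc_a_rc_3_2 lc_a_rc_5_0 lc_a_rc_4_2 lc_a_rc_5_2 lc_a_rc_4_2 lc_a_rc_4_0 lc_a_rc_3_2 lc_a_rc_3_0 lc_a_Cert_tree lc_a_rc_21_0 lc_a_rc_3_2 lc_a_rc_21_0 lc_a_rc_5_0 lc_a_rc_5_0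 lc_a_rc_21_0 lc_a_rc_21_0) (@D3.rec (fun _ => (Cert rels S Gen.a)) lc_a_rc_3_2 lc_a_rc_4_2 lc_a_rc_3_2 lc_a_rc_4_0 lc_a_rc_3_2 lc_a_rc_2_2 lc_a_rc_4_2 lc_a_rc_21_0 lc_a_rc_4_2 lc_a_Cert_tree lc_a_rc_4_2 lc_a_rc_4_2 lc_a_rc_5_0 lc_a_rc_2_2 lc_a_Cert_tree lc_a_rc_3_0 lc_a_rc_3_2 lc_a_rc_4_2 lc_a_rc_1_2 lc_a_rc_4_2 lc_a_rc_4_2 lc_a_rc_2_2 lc_a_rc_3_2 lc_a_rc_2_2 lc_a_rc_4_2 lc_a_rc_4_2 lc_a_rc_21_0 lc_a_rc_0_1 lc_a_rc_1_4 lc_a_rc_2_0 lc_a_rc_3_2 lc_a_rc_0_1 lc_a_rc_3_2 lc_a_rc_3_0 lc_a_rc_3_0 lc_a_rc_21_0 lc_a_rc_2_2 lc_a_rc_3_0 lc_a_rc_1_2 lc_a_rc_4_2 lc_a_rc_4_2 lc_a_rc_0_1 lc_a_rc_4_2 lc_a_rc_21_0 lc_a_rc_4_2 lc_a_rc_2_2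 lc_a_rc_2_2 lc_a_rc_4_2 lc_a_rc_2_2 lc_a_rc_4_2 lc_a_rc_0_1 lc_a_rc_21_0 lc_a_rc_21_0 lc_a_rc_3_2 lc_a_rc_4_2 lc_a_rc_1_0 lc_a_rc_0_1 lc_a_rc_4_2 lc_a_rc_3_2 lc_a_rc_0_1 lc_a_rc_2_2 lc_a_rc_5_2) (@D3.rec (fun _ => (Cert rels S Gen.a)) lc_a_rc_3_2 lc_a_rc_2_2 lc_a_rc_4_2 lc_a_rc_2_2 lc_a_rc_4_2 lc_a_rc_4_0 lc_a_rc_4_2 lc_a_rc_2_2 lc_a_rc_4_2 lc_a_rc_2_2 lc_a_rc_4_2 lc_a_rc_3_2 lc_a_rc_4_2 lc_a_rc_3_2 lc_a_rc_5_0 lc_a_Cert_tree lc_a_rc_1_2 lc_a_rc_3_2 lc_a_rc_4_0 lc_a_rc_3_0 lc_a_rc_2_2 lc_a_rc_2_2 lc_a_rc_0_1 lc_a_rc_3_2 lc_a_rc_3_0 lc_a_rc_2_2 lc_a_rc_1_2 lc_a_rc_0_1 lc_a_rc_3_2 lc_a_rc_4_2 lc_a_rc_0_1 lc_a_rc_2_2 lc_a_rc_3_2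 lc_a_rc_2_2 lc_a_rc_0_1 lc_a_rc_1_2 lc_a_rc_4_2 lc_a_rc_0_1 lc_a_rc_2_2 lc_a_rc_3_2 lc_a_rc_0_1 lc_a_rc_4_2 lc_a_rc_2_2 lc_a_rc_2_2 lc_a_rc_2_0 lc_a_rc_5_2 lc_a_rc_3_2 lc_a_rc_2_2 lc_a_rc_3_2 lc_a_rc_1_2 lc_a_rc_3_2 lc_a_rc_4_2 lc_a_rc_3_2 lc_a_rc_4_2 lc_a_rc_5_0 lc_a_rc_3_2 lc_a_rc_3_2 lc_a_rc_1_2 lc_a_rc_2_2 lc_a_rc_3_2 lc_a_rc_5_2 lc_a_rc_1_2) (@D3.rec (fun _ => (Cert rels S Gen.a)) lc_a_rc_5_0 lc_a_Cert_tree lc_a_rc_3_2 lc_a_rc_0_1 lc_a_rc_21_0 lc_a_rc_3_2 lc_a_rc_5_2 lc_a_rc_2_2 lc_a_rc_4_2 lc_a_rc_1_4 lc_a_rc_4_2 lc_a_rc_0_1 lc_a_rc_2_2 lc_a_rc_2_2 lc_a_rc_2_2 lc_a_rc_4_2 lc_a_rc_21_0 lc_a_rc_2_2 lc_a_rc_3_2 lc_a_rc_2_2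 lc_a_rc_2_2 lc_a_rc_3_2 lc_a_rc_3_2 lc_a_rc_2_2 lc_a_rc_3_2 lc_a_rc_22_0 lc_a_rc_2_2 lc_a_rc_0_1 lc_a_rc_5_2 lc_a_rc_0_1 lc_a_rc_0_1 lc_a_rc_1_4 lc_a_rc_4_2 lc_a_rc_4_2 lc_a_rc_5_2 lc_a_rc_0_1 lc_a_rc_3_2 lc_a_rc_2_2 lc_a_rc_2_2 lc_a_rc_0_1 lc_a_rc_3_2 lc_a_rc_2_2 lc_a_rc_2_2 lc_a_rc_0_1 lc_a_rc_0_1 lc_a_rc_4_2 lc_a_rc_4_2 lc_a_rc_3_2 lc_a_rc_5_2 lc_a_rc_0_1 lc_a_rc_1_4 lc_a_rc_0_1 lc_a_rc_4_2 lc_a_rc_4_2 lc_a_rc_3_2 lc_a_rc_5_2 lc_a_rc_3_2 lc_a_rc_4_2 lc_a_rc_22_0 lc_a_rc_2_2 lc_a_rc_3_2 lc_a_rc_1_2) (@D3.rec (fun _ => (Cert rels S Gen.a)) lc_a_rc_4_2 lc_a_rc_5_2 lc_a_rc_4_2 lc_a_Cert_tree lc_a_rc_3_2 lc_a_rc_4_2 lc_a_Cert_tree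 lc_a_rc_3_2 lc_a_rc_5_0 lc_a_rc_3_2 lc_a_rc_2_2 lc_a_rc_5_2 lc_a_rc_0_1 lc_a_rc_21_0 lc_a_rc_3_2 lc_a_rc_21_0 lc_a_rc_5_0 lc_a_rc_4_2 lc_a_rc_2_2 lc_a_rc_1_4 lc_a_rc_3_2 lc_a_rc_1_2 lc_a_rc_3_2 lc_a_rc_21_0 lc_a_rc_5_2 lc_a_rc_4_0 lc_a_rc_0_1 lc_a_rc_1_0 lc_a_rc_3_2 lc_a_rc_3_2 lc_a_rc_4_2 lc_a_rc_4_2 lc_a_rc_21_0 lc_a_rc_22_0 lc_a_rc_21_0 lc_a_rc_0_1 lc_a_rc_3_2 lc_a_rc_4_2 lc_a_rc_22_0 lc_a_rc_0_1 lc_a_rc_21_0 lc_a_rc_1_2 lc_a_rc_0_1 lc_a_rc_3_2 lc_a_rc_2_2 lc_a_rc_3_2 lc_a_rc_21_0 lc_a_rc_3_2 lc_a_rc_2_0 lc_a_rc_2_0 lc_a_Cert_tree lc_a_rc_3_2 lc_a_rc_3_2 lc_a_rc_4_2 lc_a_rc_3_0 lc_a_Cert_tree lc_a_rc_21_0 lc_a_rc_4_2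 lc_a_rc_1_2 lc_a_rc_0_1 lc_a_rc_2_2 lc_a_rc_3_2) (@D3.rec (fun _ => (Cert rels S Gen.a)) lc_a_rc_5_2 lc_a_rc_3_2 lc_a_rc_2_2 lc_a_rc_0_1 lc_a_rc_5_0 lc_a_rc_4_2 lc_a_rc_5_2 lc_a_rc_3_2 lc_a_rc_21_0 lc_a_rc_3_2 lc_a_rc_5_2 lc_a_rc_5_2 lc_a_rc_1_4 lc_a_rc_5_0 lc_a_rc_4_2 lc_a_rc_2_2 lc_a_rc_21_0 lc_a_rc_0_1 lc_a_rc_3_2 lc_a_rc_3_2 lc_a_rc_2_2 lc_a_rc_4_0 lc_a_rc_0_1 lc_a_rc_5_2 lc_a_rc_2_2 lc_a_rc_4_2 lc_a_rc_4_2 lc_a_rc_4_2 lc_a_rc_4_2 lc_a_Cert_tree lc_a_rc_3_2 lc_a_rc_2_2 lc_a_Cert_tree lc_a_rc_3_2 lc_a_rc_2_0 lc_a_rc_2_2 lc_a_rc_5_0 lc_a_rc_0_1 lc_a_rc_0_1 lc_a_rc_3_2 lc_a_rc_3_0 lc_a_rc_3_2 lc_a_Cert_tree lc_a_rc_0_1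 lc_a_rc_2_2 lc_a_rc_2_2 lc_a_rc_0_1 lc_a_rc_21_0 lc_a_rc_0_1 lc_a_rc_3_2 lc_a_rc_3_2 lc_a_rc_3_2 lc_a_rc_5_0 lc_a_rc_4_2 lc_a_Cert_tree lc_a_rc_2_2 lc_a_Cert_tree lc_a_rc_5_0 lc_a_rc_4_2 lc_a_Cert_tree lc_a_rc_21_0 lc_a_rc_4_2) (@D3.rec (fun _ => (Cert rels S Gen.a)) lc_a_rc_21_0 lc_a_rc_5_2 lc_a_Cert_tree lc_a_rc_3_2 lc_a_rc_4_2 lc_a_Cert_tree lc_a_rc_21_0 lc_a_rc_4_2 lc_a_Cert_tree lc_a_rc_0_1 lc_a_rc_0_1 lc_a_rc_3_2 lc_a_rc_21_0 lc_a_rc_5_0 lc_a_rc_3_2 lc_a_rc_4_2 lc_a_rc_4_2 lc_a_rc_5_0 lc_a_rc_4_2 lc_a_rc_4_2 lc_a_rc_2_0 lc_a_Cert_tree lc_a_rc_2_2 lc_a_rc_2_2 lc_a_rc_3_2 lc_a_rc_5_0 lc_a_rc_1_4 lc_a_Cert_tree lc_a_rc_4_2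 lc_a_rc_4_0 lc_a_Cert_tree lc_a_rc_3_2 lc_a_rc_2_2 lc_a_rc_0_1 lc_a_rc_21_0 lc_a_rc_3_2 lc_a_Cert_tree lc_a_rc_2_2 lc_a_rc_4_2 lc_a_rc_4_2 lc_a_rc_2_2 lc_a_rc_21_0 lc_a_rc_1_2 lc_a_rc_3_2 lc_a_rc_21_0 lc_a_rc_0_1 lc_a_rc_21_0 lc_a_rc_0_1 lc_a_rc_3_2 lc_a_rc_4_2 lc_a_rc_0_1 lc_a_rc_2_2 lc_a_rc_2_2 lc_a_rc_4_0 lc_a_rc_5_2 lc_a_rc_2_2 lc_a_rc_4_2 lc_a_rc_4_2 lc_a_rc_1_2 lc_a_rc_1_2 lc_a_rc_2_0 lc_a_rc_5_0) (@D3.rec (fun _ => (Cert rels S Gen.a)) lc_a_rc_3_0 lc_a_Cert_tree lc_a_rc_5_0 lc_a_rc_5_0 lc_a_rc_21_0 lc_a_rc_0_1 lc_a_rc_0_1 lc_a_rc_3_2 lc_a_rc_4_2 lc_a_rc_0_1 lc_a_rc_21_0 lc_a_rc_2_2 lc_a_rc_4_2 lc_a_rc_21_0 lc_a_rc_4_2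 lc_a_rc_4_2 lc_a_Cert_tree lc_a_rc_2_2 lc_a_Cert_tree lc_a_rc_3_2 lc_a_rc_3_2 lc_a_rc_3_2 lc_a_rc_5_2 lc_a_rc_2_2 lc_a_rc_4_2 lc_a_rc_2_2 lc_a_rc_2_2 lc_a_rc_0_1 lc_a_rc_22_0 lc_a_rc_4_2 lc_a_rc_3_2 lc_a_rc_2_2 lc_a_rc_4_2 lc_a_rc_21_0 lc_a_rc_2_2 lc_a_rc_3_2 lc_a_rc_5_2 lc_a_rc_4_2 lc_a_rc_4_2 lc_a_rc_2_2 lc_a_rc_21_0 lc_a_rc_5_0 lc_a_rc_3_2 lc_a_rc_5_0 lc_a_rc_4_2 lc_a_rc_0_1 lc_a_rc_21_0 lc_a_rc_0_1 lc_a_rc_3_2 lc_a_rc_1_4 lc_a_rc_4_2 lc_a_rc_4_0 lc_a_rc_2_2 lc_a_rc_3_2 lc_a_rc_4_2 lc_a_rc_2_2 lc_a_rc_5_2 lc_a_rc_21_0 lc_a_rc_21_0 lc_a_rc_1_2 lc_a_rc_0_1 lc_a_rc_2_2) (@D3.rec (fun _ => (Cert rels S Gen.a)) lc_a_rc_3_2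 lc_a_rc_4_2 lc_a_rc_2_2 lc_a_rc_3_2 lc_a_rc_4_2 lc_a_rc_3_2 lc_a_rc_5_2 lc_a_rc_21_0 lc_a_rc_2_2 lc_a_rc_0_1 lc_a_rc_3_2 lc_a_rc_4_2 lc_a_rc_4_2 lc_a_rc_4_2 lc_a_rc_4_2 lc_a_rc_0_1 lc_a_rc_0_1 lc_a_rc_5_0 lc_a_rc_1_4 lc_a_rc_3_2 lc_a_rc_4_2 lc_a_rc_5_2 lc_a_Cert_tree lc_a_rc_3_0 lc_a_rc_3_2 lc_a_rc_4_2 lc_a_rc_3_2 lc_a_rc_3_0 lc_a_rc_3_0 lc_a_rc_2_2 lc_a_rc_4_2 lc_a_rc_3_0 lc_a_rc_4_2 lc_a_Cert_tree lc_a_rc_4_2 lc_a_Cert_tree lc_a_rc_3_2 lc_a_Cert_tree lc_a_rc_4_2 lc_a_rc_21_0 lc_a_rc_3_2 lc_a_rc_5_2 lc_a_rc_4_2 lc_a_rc_21_0 lc_a_rc_2_2 lc_a_rc_3_2 lc_a_rc_5_0 lc_a_rc_21_0 lc_a_rc_5_0 lc_a_rc_4_2 lc_a_rc_4_2 lc_a_Cert_tree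 lc_a_rc_3_2 lc_a_rc_2_2 lc_a_rc_0_1 lc_a_rc_21_0 lc_a_rc_3_2 lc_a_rc_2_2 lc_a_Cert_tree lc_a_rc_3_2 lc_a_rc_5_2 lc_a_rc_0_1) (@D3.rec (fun _ => (Cert rels S Gen.a)) lc_a_rc_21_0 lc_a_rc_4_2 lc_a_rc_22_0 lc_a_rc_4_2 lc_a_rc_5_0 lc_a_rc_3_2 lc_a_rc_2_2 lc_a_rc_0_1 lc_a_rc_21_0 lc_a_rc_0_1 lc_a_rc_3_2 lc_a_rc_4_2 lc_a_rc_4_2 lc_a_rc_2_2 lc_a_rc_21_0 lc_a_rc_3_2 lc_a_rc_5_2 lc_a_rc_3_2 lc_a_rc_2_2 lc_a_rc_5_0 lc_a_rc_5_0 lc_a_rc_4_2 lc_a_Cert_tree lc_a_rc_3_2 lc_a_rc_2_2 lc_a_rc_5_0 lc_a_rc_4_2 lc_a_rc_3_2 lc_a_rc_21_0 lc_a_rc_0_1 lc_a_rc_1_2 lc_a_rc_4_2 lc_a_rc_4_2 lc_a_rc_21_0 lc_a_rc_2_2 lc_a_rc_3_2 lc_a_rc_5_2 lc_a_rc_1_2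 lc_a_rc_0_1 lc_a_rc_21_0 lc_a_rc_0_1 lc_a_rc_5_0 lc_a_rc_0_1 lc_a_Cert_tree lc_a_rc_4_2 lc_a_rc_3_2 lc_a_rc_4_0 lc_a_rc_3_2 lc_a_rc_0_1 lc_a_rc_22_0 lc_a_rc_4_0 lc_a_rc_4_2 lc_a_rc_2_2 lc_a_rc_4_0 lc_a_rc_5_2 lc_a_rc_0_1 lc_a_rc_21_0 lc_a_rc_0_1 lc_a_rc_3_2 lc_a_rc_21_0 lc_a_rc_4_2 lc_a_Cert_tree) (@D3.rec (fun _ => (Cert rels S Gen.a)) lc_a_rc_21_0 lc_a_rc_5_0 lc_a_rc_4_2 lc_a_Cert_tree lc_a_rc_1_2 lc_a_rc_3_2 lc_a_rc_4_2 lc_a_rc_4_2 lc_a_rc_22_0 lc_a_rc_3_0 lc_a_rc_4_2 lc_a_rc_3_0 lc_a_rc_3_2 lc_a_rc_0_1 lc_a_rc_0_1 lc_a_rc_4_2 lc_a_Cert_tree lc_a_Cert_tree lc_a_rc_4_2 lc_a_rc_2_2 lc_a_Cert_tree lc_a_Cert_tree lc_a_rc_2_2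 lc_a_Cert_tree lc_a_rc_22_0 lc_a_rc_4_2 lc_a_Cert_tree lc_a_rc_3_2 lc_a_rc_4_2 lc_a_Cert_tree lc_a_rc_5_0 lc_a_rc_4_2 lc_a_Cert_tree lc_a_rc_2_2 lc_a_rc_4_2 lc_a_rc_1_4 lc_a_rc_5_2 lc_a_Cert_tree lc_a_rc_21_0 lc_a_rc_2_2 lc_a_Cert_tree lc_a_rc_3_2 lc_a_rc_2_2 lc_a_rc_2_2 lc_a_rc_5_0 lc_a_rc_0_1 lc_a_rc_3_2 lc_a_rc_4_2 lc_a_rc_4_2 lc_a_rc_0_1 lc_a_rc_3_2 lc_a_rc_2_2 lc_a_rc_5_0 lc_a_rc_2_2 lc_a_rc_4_2 lc_a_rc_4_2 lc_a_rc_4_2 lc_a_rc_2_2 lc_a_rc_21_0 lc_a_rc_0_1 lc_a_rc_0_1 lc_a_rc_4_2) (@D3.rec (fun _ => (Cert rels S Gen.a)) lc_a_rc_3_0 lc_a_rc_2_2 lc_a_rc_21_0 lc_a_rc_4_2 lc_a_rc_3_2 lc_a_rc_4_2 lc_a_rc_0_1 lc_a_rc_21_0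 lc_a_rc_2_2 lc_a_rc_4_2 lc_a_rc_0_1 lc_a_rc_3_2 lc_a_rc_5_2 lc_a_rc_5_0 lc_a_rc_2_2 lc_a_rc_3_2 lc_a_rc_5_2 lc_a_rc_1_4 lc_a_rc_0_1 lc_a_rc_3_0 lc_a_rc_3_2 lc_a_rc_4_2 lc_a_rc_1_4 lc_a_rc_4_2 lc_a_rc_21_0 lc_a_rc_2_2 lc_a_rc_0_1 lc_a_rc_3_2 lc_a_rc_4_2 lc_a_rc_3_2 lc_a_rc_4_2 lc_a_rc_5_0 lc_a_rc_4_2 lc_a_rc_3_2 lc_a_rc_5_2 lc_a_rc_3_2 lc_a_rc_21_0 lc_a_rc_21_0 lc_a_rc_4_2 lc_a_rc_3_2 lc_a_rc_2_2 lc_a_rc_4_2 lc_a_rc_3_2 lc_a_Cert_tree lc_a_rc_1_2 lc_a_rc_4_2 lc_a_rc_1_2 lc_a_rc_1_4 lc_a_rc_3_2 lc_a_rc_4_2 lc_a_rc_3_2 lc_a_rc_3_2 lc_a_rc_4_2 lc_a_rc_3_2 lc_a_rc_3_2 lc_a_rc_5_2 lc_a_rc_0_1 lc_a_rc_4_2 lc_a_rc_4_0 lc_a_rc_2_2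 lc_a_rc_4_2 lc_a_rc_5_2) (@D3.rec (fun _ => (Cert rels S Gen.a)) lc_a_rc_3_2 lc_a_rc_21_0 lc_a_rc_0_1 lc_a_rc_0_1 lc_a_rc_22_0 lc_a_rc_4_2 lc_a_rc_4_2 lc_a_rc_21_0 lc_a_rc_3_2 lc_a_rc_4_2 lc_a_Cert_tree lc_a_rc_3_2 lc_a_rc_2_2 lc_a_Cert_tree lc_a_rc_3_2 lc_a_rc_4_2 lc_a_rc_4_2 lc_a_rc_5_2 lc_a_Cert_tree lc_a_rc_4_2 lc_a_rc_2_2 lc_a_rc_5_0 lc_a_rc_0_1 lc_a_rc_3_2 lc_a_rc_4_2 lc_a_rc_21_0 lc_a_rc_3_2 lc_a_rc_4_2 lc_a_rc_2_2 lc_a_rc_4_2 lc_a_rc_3_2 lc_a_rc_5_2 lc_a_rc_21_0 lc_a_rc_21_0 lc_a_rc_21_0 lc_a_rc_4_2 lc_a_rc_4_2 lc_a_rc_0_1 lc_a_rc_5_0 lc_a_rc_3_0 lc_a_rc_2_2 lc_a_rc_4_2 lc_a_rc_3_2 lc_a_rc_4_2 lc_a_rc_3_2 lc_a_rc_21_0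 lc_a_rc_2_2 lc_a_rc_4_2 lc_a_rc_3_0 lc_a_rc_3_0 lc_a_rc_4_0 lc_a_rc_3_0 lc_a_rc_2_2 lc_a_Cert_tree lc_a_rc_2_2 lc_a_rc_21_0 lc_a_rc_4_2 lc_a_rc_0_1 lc_a_rc_2_2 lc_a_rc_4_2 lc_a_rc_5_0 lc_a_rc_2_2) (@D3.rec (fun _ => (Cert rels S Gen.a)) lc_a_rc_3_2 lc_a_rc_2_0 lc_a_rc_4_0 lc_a_rc_2_0 lc_a_rc_21_0 lc_a_rc_0_1 lc_a_rc_5_2 lc_a_rc_4_2 lc_a_rc_22_0 lc_a_rc_2_2 lc_a_rc_3_2 lc_a_rc_3_2 lc_a_rc_3_0 lc_a_rc_2_2 lc_a_rc_5_2 lc_a_rc_3_2 lc_a_rc_21_0 lc_a_rc_3_2 lc_a_Cert_tree lc_a_rc_2_2 lc_a_rc_4_2 lc_a_rc_2_2 lc_a_rc_4_2 lc_a_rc_0_1 lc_a_rc_3_0 lc_a_rc_3_2 lc_a_rc_4_2 lc_a_rc_3_2 lc_a_rc_3_2 lc_a_rc_1_4 lc_a_rc_4_2 lc_a_rc_4_2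 lc_a_rc_3_2 lc_a_rc_5_2 lc_a_rc_4_2 lc_a_rc_3_0 lc_a_rc_2_2 lc_a_rc_3_2 lc_a_rc_4_2 lc_a_rc_1_2 lc_a_rc_0_1 lc_a_rc_5_0 lc_a_rc_3_2 lc_a_rc_4_2 lc_a_rc_21_0 lc_a_rc_21_0 lc_a_rc_2_2 lc_a_Cert_tree lc_a_rc_3_2 lc_a_rc_4_2 lc_a_rc_2_2 lc_a_rc_0_1 lc_a_rc_4_2 lc_a_rc_3_2 lc_a_rc_3_0 lc_a_rc_3_2 lc_a_rc_3_2 lc_a_rc_4_2 lc_a_rc_1_2 lc_a_rc_0_1 lc_a_rc_0_1 lc_a_rc_3_2)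
def ce_a_10 : D2 → D3 → (Cert rels S Gen.a) := @D2.rec (fun _ => D3 → (Cert rels S Gen.a)) (@D3.rec (fun _ => (Cert rels S Gen.a)) lc_a_rc_4_2 lc_a_rc_21_0 lc_a_rc_3_2 lc_a_rc_4_2 lc_a_rc_4_2 lc_a_rc_3_0 lc_a_rc_0_1 lc_a_rc_21_0 lc_a_rc_2_2 lc_a_rc_4_2 lc_a_rc_2_2 lc_a_rc_2_2 lc_a_rc_4_2 lc_a_rc_5_0 lc_a_rc_4_2 lc_a_rc_5_0 lc_a_rc_2_2 lc_a_rc_2_0 lc_a_rc_2_0 lc_a_rc_4_2 lc_a_rc_3_2 lc_a_rc_4_0 lc_a_rc_3_2 lc_a_rc_0_1 lc_a_rc_21_0 lc_a_rc_4_2 lc_a_rc_0_1 lc_a_rc_5_2 lc_a_rc_2_2 lc_a_rc_5_0 lc_a_rc_5_2 lc_a_rc_5_2 lc_a_rc_4_2 lc_a_rc_1_2 lc_a_rc_3_2 lc_a_rc_4_2 lc_a_rc_21_0 lc_a_rc_2_2 lc_a_rc_4_2 lc_a_rc_21_0 lc_a_rc_3_0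 lc_a_rc_5_0 lc_a_rc_5_0 lc_a_rc_4_2 lc_a_Cert_tree lc_a_rc_4_2 lc_a_rc_4_2 lc_a_rc_3_2 lc_a_rc_5_2 lc_a_Cert_tree lc_a_rc_2_2 lc_a_rc_4_2 lc_a_rc_1_2 lc_a_rc_1_2 lc_a_rc_5_2 lc_a_rc_21_0 lc_a_Cert_tree lc_a_rc_2_2 lc_a_rc_2_2 lc_a_Cert_tree lc_a_rc_2_2 lc_a_rc_4_2) (@D3.rec (fun _ => (Cert rels S Gen.a)) lc_a_Cert_tree lc_a_rc_2_0 lc_a_rc_2_2 lc_a_rc_1_2 lc_a_rc_0_1 lc_a_rc_3_2 lc_a_rc_3_2 lc_a_rc_4_2 lc_a_rc_4_2 lc_a_rc_4_2 lc_a_rc_3_2 lc_a_rc_22_0 lc_a_rc_4_2 lc_a_rc_5_0 lc_a_rc_21_0 lc_a_rc_3_2 lc_a_rc_3_2 lc_a_rc_5_2 lc_a_rc_3_2 lc_a_rc_3_0 lc_a_rc_3_2 lc_a_rc_3_2 lc_a_rc_5_2 lc_a_rc_4_2 lc_a_rc_0_1 lc_a_rc_0_1 lc_a_rc_4_2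 lc_a_rc_5_0 lc_a_rc_3_2 lc_a_rc_4_2 lc_a_rc_5_0 lc_a_rc_2_2 lc_a_rc_4_2 lc_a_Cert_tree lc_a_rc_2_2 lc_a_rc_4_0 lc_a_rc_4_2 lc_a_rc_5_2 lc_a_rc_4_2 lc_a_Cert_tree lc_a_rc_3_2 lc_a_rc_2_2 lc_a_rc_3_2 lc_a_rc_3_2 lc_a_rc_5_2 lc_a_Cert_tree lc_a_rc_3_2 lc_a_rc_2_2 lc_a_Cert_tree lc_a_rc_2_2 lc_a_rc_4_2 lc_a_rc_3_0 lc_a_rc_5_0 lc_a_rc_4_2 lc_a_rc_0_1 lc_a_rc_21_0 lc_a_rc_0_1 lc_a_rc_4_2 lc_a_rc_2_0 lc_a_rc_5_0 lc_a_rc_2_2 lc_a_rc_21_0) (@D3.rec (fun _ => (Cert rels S Gen.a)) lc_a_rc_3_2 lc_a_rc_5_2 lc_a_rc_3_2 lc_a_rc_2_2 lc_a_rc_5_0 lc_a_rc_4_2 lc_a_Cert_tree lc_a_rc_3_2 lc_a_rc_4_2 lc_a_rc_0_1 lc_a_rc_21_0 lc_a_rc_5_2 lc_a_rc_0_1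 lc_a_rc_21_0 lc_a_rc_0_1 lc_a_rc_4_2 lc_a_rc_21_0 lc_a_rc_2_2 lc_a_rc_5_2 lc_a_rc_3_2 lc_a_rc_2_2 lc_a_Cert_tree lc_a_rc_3_2 lc_a_rc_0_1 lc_a_rc_2_2 lc_a_rc_2_2 lc_a_rc_4_2 lc_a_rc_22_0 lc_a_rc_2_2 lc_a_rc_4_2 lc_a_rc_4_2 lc_a_rc_3_2 lc_a_rc_0_1 lc_a_rc_3_2 lc_a_rc_5_2 lc_a_rc_2_2 lc_a_Cert_tree lc_a_rc_3_0 lc_a_rc_4_2 lc_a_rc_2_2 lc_a_rc_4_2 lc_a_rc_0_1 lc_a_rc_5_2 lc_a_rc_0_1 lc_a_rc_3_2 lc_a_rc_21_0 lc_a_rc_3_2 lc_a_rc_4_2 lc_a_rc_22_0 lc_a_rc_2_0 lc_a_rc_5_2 lc_a_rc_3_2 lc_a_rc_4_2 lc_a_rc_2_2 lc_a_rc_4_2 lc_a_rc_0_1 lc_a_rc_3_2 lc_a_rc_4_2 lc_a_rc_0_1 lc_a_rc_21_0 lc_a_rc_5_2 lc_a_rc_21_0) (@D3.rec (fun _ => (Cert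 rels S Gen.a)) lc_a_rc_5_0 lc_a_rc_0_1 lc_a_rc_4_2 lc_a_Cert_tree lc_a_rc_2_2 lc_a_rc_3_2 lc_a_rc_3_0 lc_a_rc_5_0 lc_a_Cert_tree lc_a_rc_0_1 lc_a_rc_4_2 lc_a_rc_3_2 lc_a_rc_1_0 lc_a_Cert_tree lc_a_rc_4_0 lc_a_Cert_tree lc_a_rc_2_2 lc_a_rc_4_2 lc_a_rc_0_1 lc_a_rc_21_0 lc_a_rc_0_1 lc_a_rc_3_2 lc_a_rc_4_2 lc_a_rc_4_2 lc_a_rc_5_0 lc_a_rc_3_2 lc_a_rc_5_2 lc_a_rc_3_0 lc_a_rc_4_2 lc_a_rc_21_0 lc_a_rc_4_2 lc_a_rc_4_2 lc_a_rc_2_2 lc_a_rc_2_2 lc_a_rc_3_2 lc_a_rc_3_2 lc_a_rc_21_0 lc_a_rc_3_2 lc_a_rc_4_2 lc_a_rc_21_0 lc_a_rc_2_2 lc_a_rc_3_2 lc_a_rc_4_2 lc_a_rc_4_2 lc_a_rc_4_2 lc_a_rc_5_2 lc_a_rc_0_1 lc_a_rc_0_1 lc_a_rc_2_2 lc_a_rc_21_0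 lc_a_rc_4_2 lc_a_rc_4_2 lc_a_rc_1_0 lc_a_rc_2_2 lc_a_rc_4_2 lc_a_rc_1_2 lc_a_rc_4_2 lc_a_rc_5_0 lc_a_rc_5_0 lc_a_rc_21_0 lc_a_rc_4_2 lc_a_Cert_tree) (@D3.rec (fun _ => (Cert rels S Gen.a)) lc_a_rc_3_2 lc_a_rc_4_2 lc_a_rc_4_2 lc_a_rc_5_0 lc_a_rc_2_2 lc_a_rc_5_0 lc_a_rc_5_2 lc_a_rc_3_2 lc_a_rc_3_2 lc_a_rc_2_2 lc_a_rc_4_2 lc_a_rc_2_2 lc_a_rc_4_2 lc_a_rc_3_2 lc_a_rc_4_2 lc_a_rc_2_0 lc_a_rc_21_0 lc_a_Cert_tree lc_a_rc_3_0 lc_a_rc_0_1 lc_a_rc_4_2 lc_a_rc_2_2 lc_a_rc_22_0 lc_a_rc_4_2 lc_a_rc_4_2 lc_a_rc_5_0 lc_a_rc_4_2 lc_a_rc_2_2 lc_a_rc_5_2 lc_a_rc_5_2 lc_a_rc_0_1 lc_a_rc_21_0 lc_a_rc_4_2 lc_a_rc_3_2 lc_a_rc_4_2 lc_a_rc_4_2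 lc_a_rc_0_1 lc_a_rc_3_2 lc_a_rc_0_1 lc_a_rc_3_2 lc_a_rc_5_0 lc_a_rc_3_2 lc_a_rc_2_2 lc_a_rc_5_2 lc_a_rc_3_0 lc_a_rc_2_2 lc_a_rc_4_2 lc_a_rc_4_2 lc_a_rc_0_1 lc_a_rc_4_2 lc_a_rc_4_2 lc_a_rc_2_2 lc_a_rc_5_2 lc_a_rc_21_0 lc_a_rc_3_2 lc_a_rc_2_2 lc_a_rc_4_2 lc_a_rc_21_0 lc_a_rc_5_2 lc_a_rc_4_0 lc_a_rc_3_2 lc_a_rc_5_2) (@D3.rec (fun _ => (Cert rels S Gen.a)) lc_a_rc_3_2 lc_a_rc_2_2 lc_a_rc_4_2 lc_a_rc_3_2 lc_a_rc_2_2 lc_a_rc_3_2 lc_a_rc_0_1 lc_a_rc_2_2 lc_a_rc_4_2 lc_a_rc_1_4 lc_a_rc_4_0 lc_a_rc_2_0 lc_a_rc_2_2 lc_a_rc_1_4 lc_a_rc_0_1 lc_a_rc_2_2 lc_a_Cert_tree lc_a_rc_3_2 lc_a_rc_21_0 lc_a_rc_0_1 lc_a_rc_2_0 lc_a_rc_2_2 lc_a_rc_4_2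 lc_a_rc_3_2 lc_a_rc_4_2 lc_a_rc_3_2 lc_a_rc_2_2 lc_a_rc_4_2 lc_a_rc_5_2 lc_a_rc_3_2 lc_a_rc_5_2 lc_a_rc_2_2 lc_a_rc_1_2 lc_a_rc_3_2 lc_a_rc_2_2 lc_a_Cert_tree lc_a_rc_3_2 lc_a_rc_4_2 lc_a_rc_2_2 lc_a_rc_1_2 lc_a_rc_4_2 lc_a_rc_21_0 lc_a_rc_4_2 lc_a_rc_1_2 lc_a_rc_3_2 lc_a_rc_2_2 lc_a_rc_4_2 lc_a_rc_5_2 lc_a_rc_4_2 lc_a_rc_1_2 lc_a_rc_4_2 lc_a_rc_3_2 lc_a_rc_21_0 lc_a_rc_5_2 lc_a_rc_4_2 lc_a_rc_5_0 lc_a_rc_2_0 lc_a_rc_4_0 lc_a_rc_3_2 lc_a_rc_4_2 lc_a_rc_5_0 lc_a_Cert_tree) (@D3.rec (fun _ => (Cert rels S Gen.a)) lc_a_rc_5_2 lc_a_rc_0_1 lc_a_rc_5_0 lc_a_rc_4_2 lc_a_rc_0_1 lc_a_rc_4_0 lc_a_rc_1_4 lc_a_rc_5_0 lc_a_rc_4_2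 lc_a_rc_1_0 lc_a_rc_1_0 lc_a_rc_4_2 lc_a_rc_0_1 lc_a_rc_4_2 lc_a_rc_3_2 lc_a_rc_4_2 lc_a_rc_0_1 lc_a_rc_5_2 lc_a_rc_2_0 lc_a_rc_0_1 lc_a_rc_2_0 lc_a_rc_4_2 lc_a_rc_1_4 lc_a_rc_3_2 lc_a_rc_2_2 lc_a_rc_2_2 lc_a_rc_4_2 lc_a_rc_0_1 lc_a_rc_21_0 lc_a_rc_3_2 lc_a_rc_21_0 lc_a_rc_0_1 lc_a_rc_4_2 lc_a_rc_22_0 lc_a_rc_4_0 lc_a_rc_2_0 lc_a_rc_2_0 lc_a_rc_5_2 lc_a_rc_4_2 lc_a_rc_3_0 lc_a_rc_4_2 lc_a_rc_4_2 lc_a_rc_2_2 lc_a_rc_2_2 lc_a_rc_21_0 lc_a_rc_4_2 lc_a_rc_3_0 lc_a_rc_5_0 lc_a_rc_5_2 lc_a_Cert_tree lc_a_rc_4_2 lc_a_rc_5_0 lc_a_rc_4_2 lc_a_rc_2_2 lc_a_rc_4_2 lc_a_rc_2_0 lc_a_rc_3_2 lc_a_rc_4_2 lc_a_rc_3_0 lc_a_rc_4_0 lc_a_rc_5_2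 lc_a_rc_1_0) (@D3.rec (fun _ => (Cert rels S Gen.a)) lc_a_rc_4_2 lc_a_rc_21_0 lc_a_rc_2_2 lc_a_rc_4_2 lc_a_Cert_tree lc_a_rc_21_0 lc_a_rc_4_2 lc_a_rc_4_2 lc_a_rc_0_1 lc_a_rc_1_0 lc_a_rc_1_4 lc_a_rc_21_0 lc_a_rc_5_2 lc_a_rc_4_2 lc_a_rc_21_0 lc_a_rc_0_1 lc_a_rc_4_2 lc_a_rc_21_0 lc_a_rc_4_2 lc_a_rc_4_2 lc_a_rc_4_2 lc_a_rc_3_0 lc_a_rc_21_0 lc_a_rc_2_2 lc_a_rc_3_2 lc_a_rc_5_0 lc_a_rc_5_2 lc_a_Cert_tree lc_a_rc_3_2 lc_a_rc_2_2 lc_a_rc_5_0 lc_a_rc_4_2 lc_a_rc_4_0 lc_a_Cert_tree lc_a_rc_3_2 lc_a_Cert_tree lc_a_rc_2_2 lc_a_rc_2_2 lc_a_Cert_tree lc_a_rc_2_2 lc_a_rc_2_2 lc_a_rc_21_0 lc_a_rc_0_1 lc_a_rc_0_1 lc_a_rc_3_2 lc_a_rc_2_0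 lc_a_rc_2_2 lc_a_rc_2_2 lc_a_rc_2_2 lc_a_rc_1_0 lc_a_rc_5_2 lc_a_rc_2_2 lc_a_rc_2_2 lc_a_rc_4_2 lc_a_rc_4_2 lc_a_rc_4_2 lc_a_rc_3_0 lc_a_rc_3_2 lc_a_rc_5_2 lc_a_rc_0_1 lc_a_rc_0_1 lc_a_rc_4_2) (@D3.rec (fun _ => (Cert rels S Gen.a)) lc_a_rc_4_2 lc_a_rc_4_2 lc_a_rc_21_0 lc_a_rc_2_2 lc_a_rc_3_2 lc_a_rc_5_2 lc_a_rc_2_2 lc_a_rc_4_2 lc_a_rc_4_2 lc_a_rc_5_0 lc_a_rc_4_2 lc_a_rc_4_2 lc_a_rc_3_2 lc_a_Cert_tree lc_a_Cert_tree lc_a_rc_3_2 lc_a_rc_4_2 lc_a_rc_3_2 lc_a_rc_3_2 lc_a_rc_5_2 lc_a_rc_21_0 lc_a_rc_0_1 lc_a_rc_0_1 lc_a_rc_3_2 lc_a_rc_4_2 lc_a_rc_3_2 lc_a_rc_2_2 lc_a_rc_4_2 lc_a_rc_4_2 lc_a_rc_21_0 lc_a_rc_3_2 lc_a_rc_5_2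 lc_a_rc_4_2 lc_a_rc_4_2 lc_a_rc_21_0 lc_a_rc_21_0 lc_a_rc_3_2 lc_a_rc_3_2 lc_a_rc_5_2 lc_a_rc_21_0 lc_a_rc_0_1 lc_a_rc_0_1 lc_a_rc_3_2 lc_a_rc_4_2 lc_a_rc_4_2 lc_a_rc_21_0 lc_a_rc_5_2 lc_a_rc_21_0 lc_a_rc_3_2 lc_a_rc_2_2 lc_a_rc_2_2 lc_a_rc_2_2 lc_a_rc_0_1 lc_a_rc_3_0 lc_a_rc_3_2 lc_a_rc_3_2 lc_a_rc_5_2 lc_a_rc_0_1 lc_a_rc_5_0 lc_a_rc_0_1 lc_a_rc_3_2 lc_a_rc_2_0) (@D3.rec (fun _ => (Cert rels S Gen.a)) lc_a_rc_4_2 lc_a_rc_5_2 lc_a_rc_0_1 lc_a_rc_0_1 lc_a_rc_1_2 lc_a_rc_21_0 lc_a_rc_3_2 lc_a_rc_4_2 lc_a_rc_5_2 lc_a_Cert_tree lc_a_rc_2_2 lc_a_rc_3_2 lc_a_rc_4_2 lc_a_rc_3_2 lc_a_rc_4_2 lc_a_rc_3_2 lc_a_rc_2_2 lc_a_rc_4_2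 lc_a_rc_4_2 lc_a_Cert_tree lc_a_rc_2_2 lc_a_Cert_tree lc_a_rc_4_2 lc_a_rc_0_1 lc_a_rc_5_0 lc_a_rc_5_2 lc_a_rc_21_0 lc_a_rc_0_1 lc_a_rc_3_2 lc_a_rc_3_2 lc_a_rc_22_0 lc_a_rc_4_2 lc_a_rc_1_2 lc_a_rc_2_2 lc_a_rc_5_0 lc_a_rc_4_2 lc_a_rc_4_2 lc_a_Cert_tree lc_a_rc_3_2 lc_a_rc_4_2 lc_a_Cert_tree lc_a_rc_3_2 lc_a_rc_4_2 lc_a_rc_5_2 lc_a_rc_2_2 lc_a_rc_5_0 lc_a_rc_4_2 lc_a_rc_21_0 lc_a_Cert_tree lc_a_rc_2_2 lc_a_rc_4_2 lc_a_rc_1_4 lc_a_rc_1_2 lc_a_rc_5_2 lc_a_rc_21_0 lc_a_rc_4_2 lc_a_Cert_tree lc_a_rc_3_2 lc_a_rc_4_2 lc_a_Cert_tree lc_a_rc_4_2 lc_a_Cert_tree) (@D3.rec (fun _ => (Cert rels S Gen.a)) lc_a_rc_2_2 lc_a_rc_5_0 lc_a_rc_2_2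 lc_a_rc_0_1 lc_a_rc_3_2 lc_a_rc_3_0 lc_a_rc_0_1 lc_a_rc_3_2 lc_a_rc_4_2 lc_a_rc_2_2 lc_a_rc_21_0 lc_a_rc_3_2 lc_a_rc_5_2 lc_a_rc_3_2 lc_a_rc_2_2 lc_a_rc_21_0 lc_a_rc_5_0 lc_a_rc_4_2 lc_a_Cert_tree lc_a_rc_2_2 lc_a_rc_21_0 lc_a_rc_3_2 lc_a_rc_5_0 lc_a_Cert_tree lc_a_rc_0_1 lc_a_rc_4_2 lc_a_rc_2_2 lc_a_rc_21_0 lc_a_rc_5_2 lc_a_rc_21_0 lc_a_rc_0_1 lc_a_rc_21_0 lc_a_rc_0_1 lc_a_rc_1_2 lc_a_rc_2_2 lc_a_rc_4_2 lc_a_rc_5_2 lc_a_rc_21_0 lc_a_rc_4_2 lc_a_rc_3_2 lc_a_rc_4_2 lc_a_rc_21_0 lc_a_rc_2_2 lc_a_rc_4_2 lc_a_rc_4_2 lc_a_rc_4_2 lc_a_rc_22_0 lc_a_rc_4_2 lc_a_rc_3_0 lc_a_Cert_tree lc_a_Cert_tree lc_a_rc_4_2 lc_a_Cert_tree lc_a_rc_21_0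 lc_a_rc_1_2 lc_a_rc_3_2 lc_a_rc_5_2 lc_a_rc_3_2 lc_a_rc_3_2 lc_a_rc_1_2 lc_a_rc_2_2 lc_a_rc_4_2) (@D3.rec (fun _ => (Cert rels S Gen.a)) lc_a_rc_0_1 lc_a_rc_21_0 lc_a_rc_0_1 lc_a_rc_3_2 lc_a_rc_4_2 lc_a_rc_4_2 lc_a_rc_21_0 lc_a_rc_3_2 lc_a_rc_5_2 lc_a_rc_2_2 lc_a_rc_0_1 lc_a_rc_4_2 lc_a_rc_4_2 lc_a_rc_2_2 lc_a_rc_3_2 lc_a_rc_2_2 lc_a_rc_0_1 lc_a_rc_4_2 lc_a_Cert_tree lc_a_rc_2_2 lc_a_rc_4_2 lc_a_rc_3_2 lc_a_rc_4_2 lc_a_rc_0_1 lc_a_rc_21_0 lc_a_rc_0_1 lc_a_rc_5_2 lc_a_rc_5_2 lc_a_Cert_tree lc_a_rc_3_2 lc_a_rc_4_2 lc_a_rc_4_2 lc_a_Cert_tree lc_a_rc_3_2 lc_a_rc_4_2 lc_a_rc_4_2 lc_a_rc_4_2 lc_a_rc_5_2 lc_a_Cert_tree lc_a_rc_4_2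 lc_a_rc_5_0 lc_a_rc_2_2 lc_a_rc_0_1 lc_a_rc_3_2 lc_a_rc_4_2 lc_a_rc_4_2 lc_a_rc_4_2 lc_a_rc_21_0 lc_a_rc_3_2 lc_a_rc_5_2 lc_a_rc_4_2 lc_a_rc_4_2 lc_a_rc_4_2 lc_a_rc_21_0 lc_a_rc_21_0 lc_a_rc_21_0 lc_a_rc_21_0 lc_a_rc_2_2 lc_a_rc_4_2 lc_a_rc_1_4 lc_a_rc_5_0 lc_a_rc_3_2) (@D3.rec (fun _ => (Cert rels S Gen.a)) lc_a_rc_4_2 lc_a_rc_21_0 lc_a_rc_3_2 lc_a_rc_3_2 lc_a_rc_5_2 lc_a_rc_4_2 lc_a_rc_5_2 lc_a_rc_3_2 lc_a_rc_3_0 lc_a_rc_3_0 lc_a_rc_22_0 lc_a_rc_0_1 lc_a_rc_4_2 lc_a_rc_4_2 lc_a_rc_21_0 lc_a_rc_3_2 lc_a_rc_4_2 lc_a_Cert_tree lc_a_rc_3_2 lc_a_rc_5_0 lc_a_rc_4_2 lc_a_rc_2_2 lc_a_rc_0_1 lc_a_rc_0_1 lc_a_rc_3_2 lc_a_rc_3_0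 lc_a_rc_4_2 lc_a_rc_2_2 lc_a_rc_5_0 lc_a_rc_3_2 lc_a_rc_5_2 lc_a_rc_3_2 lc_a_rc_2_2 lc_a_rc_3_2 lc_a_rc_5_0 lc_a_rc_21_0 lc_a_rc_2_2 lc_a_rc_2_2 lc_a_rc_1_4 lc_a_rc_4_2 lc_a_rc_3_2 lc_a_rc_4_2 lc_a_rc_4_2 lc_a_rc_0_1 lc_a_rc_3_2 lc_a_rc_22_0 lc_a_rc_22_0 lc_a_Cert_tree lc_a_rc_2_2 lc_a_rc_21_0 lc_a_rc_5_2 lc_a_rc_5_0 lc_a_rc_21_0 lc_a_rc_0_1 lc_a_rc_4_2 lc_a_rc_1_4 lc_a_rc_0_1 lc_a_rc_3_2 lc_a_rc_2_2 lc_a_rc_4_2 lc_a_rc_3_2 lc_a_rc_21_0) (@D3.rec (fun _ => (Cert rels S Gen.a)) lc_a_rc_5_2 lc_a_rc_4_2 lc_a_rc_1_4 lc_a_rc_4_2 lc_a_rc_4_2 lc_a_rc_3_2 lc_a_rc_1_2 lc_a_rc_3_2 lc_a_rc_3_0 lc_a_rc_5_2 lc_a_rc_1_4 lc_a_rc_3_0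 lc_a_Cert_tree lc_a_rc_2_2 lc_a_rc_4_2 lc_a_rc_2_2 lc_a_rc_4_2 lc_a_rc_2_2 lc_a_rc_5_0 lc_a_rc_3_2 lc_a_rc_5_0 lc_a_rc_4_2 lc_a_rc_21_0 lc_a_rc_3_2 lc_a_rc_4_2 lc_a_rc_0_1 lc_a_rc_4_2 lc_a_rc_5_2 lc_a_rc_2_2 lc_a_rc_3_2 lc_a_rc_4_2 lc_a_Cert_tree lc_a_rc_0_1 lc_a_rc_0_1 lc_a_rc_3_2 lc_a_rc_4_2 lc_a_rc_21_0 lc_a_rc_1_2 lc_a_rc_2_0 lc_a_Cert_tree lc_a_rc_3_2 lc_a_rc_4_2 lc_a_rc_2_2 lc_a_rc_0_1 lc_a_rc_2_2 lc_a_rc_4_2 lc_a_rc_3_2 lc_a_rc_1_0 lc_a_rc_3_2 lc_a_rc_5_2 lc_a_rc_4_2 lc_a_rc_3_2 lc_a_rc_0_1 lc_a_rc_21_0 lc_a_rc_3_2 lc_a_rc_4_2 lc_a_rc_5_0 lc_a_rc_3_2 lc_a_rc_4_2 lc_a_rc_2_2 lc_a_rc_4_2 lc_a_rc_4_2) (@D3.rec (fun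 _ => (Cert rels S Gen.a)) lc_a_rc_0_1 lc_a_rc_21_0 lc_a_rc_2_2 lc_a_rc_4_2 lc_a_Cert_tree lc_a_rc_0_1 lc_a_rc_4_2 lc_a_Cert_tree lc_a_rc_2_2 lc_a_rc_4_2 lc_a_rc_21_0 lc_a_rc_2_2 lc_a_rc_3_2 lc_a_rc_4_2 lc_a_rc_0_1 lc_a_rc_4_2 lc_a_rc_21_0 lc_a_rc_3_2 lc_a_rc_3_2 lc_a_rc_0_1 lc_a_rc_1_4 lc_a_rc_2_2 lc_a_rc_21_0 lc_a_rc_0_1 lc_a_rc_4_2 lc_a_rc_2_0 lc_a_rc_2_2 lc_a_rc_5_0 lc_a_rc_22_0 lc_a_rc_5_2 lc_a_rc_3_0 lc_a_rc_5_2 lc_a_rc_4_2 lc_a_rc_2_0 lc_a_rc_3_2 lc_a_rc_4_2 lc_a_rc_21_0 lc_a_rc_2_2 lc_a_rc_4_2 lc_a_rc_3_2 lc_a_rc_21_0 lc_a_rc_3_2 lc_a_rc_4_2 lc_a_rc_21_0 lc_a_rc_4_2 lc_a_rc_3_2 lc_a_rc_3_2 lc_a_rc_1_2 lc_a_Cert_tree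 lc_a_rc_5_2 lc_a_rc_22_0 lc_a_rc_21_0 lc_a_rc_4_2 lc_a_rc_0_1 lc_a_rc_21_0 lc_a_rc_0_1 lc_a_rc_5_2 lc_a_rc_4_2 lc_a_rc_4_2 lc_a_rc_2_2 lc_a_rc_21_0 lc_a_rc_5_2) (@D3.rec (fun _ => (Cert rels S Gen.a)) lc_a_rc_22_0 lc_a_rc_3_2 lc_a_rc_2_2 lc_a_rc_5_0 lc_a_rc_4_2 lc_a_rc_4_2 lc_a_rc_4_2 lc_a_rc_5_2 lc_a_rc_3_2 lc_a_rc_3_2 lc_a_rc_0_1 lc_a_rc_21_0 lc_a_rc_4_2 lc_a_Cert_tree lc_a_rc_2_2 lc_a_rc_4_2 lc_a_rc_4_2 lc_a_rc_1_2 lc_a_rc_3_2 lc_a_rc_3_2 lc_a_rc_5_2 lc_a_rc_5_0 lc_a_rc_4_2 lc_a_rc_5_0 lc_a_rc_0_1 lc_a_rc_2_0 lc_a_rc_2_2 lc_a_rc_5_2 lc_a_rc_21_0 lc_a_rc_5_0 lc_a_rc_4_2 lc_a_Cert_tree lc_a_rc_3_2 lc_a_rc_3_2 lc_a_rc_2_0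 lc_a_rc_5_2 lc_a_rc_21_0 lc_a_rc_4_2 lc_a_rc_0_1 lc_a_rc_3_2 lc_a_rc_21_0 lc_a_Cert_tree lc_a_rc_21_0 lc_a_rc_4_2 lc_a_Cert_tree lc_a_rc_4_2 lc_a_rc_1_4 lc_a_rc_1_2 lc_a_rc_5_2 lc_a_Cert_tree lc_a_rc_1_4 lc_a_rc_2_2 lc_a_rc_0_1 lc_a_rc_3_2 lc_a_rc_2_0 lc_a_rc_2_2 lc_a_rc_0_1 lc_a_rc_4_2 lc_a_rc_5_2 lc_a_rc_21_0 lc_a_rc_5_0 lc_a_rc_4_2) (@D3.rec (fun _ => (Cert rels S Gen.a)) lc_a_rc_1_4 lc_a_rc_21_0 lc_a_rc_2_2 lc_a_rc_21_0 lc_a_Cert_tree lc_a_rc_3_2 lc_a_rc_0_1 lc_a_rc_3_2 lc_a_rc_21_0 lc_a_rc_3_2 lc_a_rc_2_2 lc_a_rc_2_2 lc_a_rc_3_0 lc_a_rc_2_2 lc_a_rc_3_0 lc_a_rc_2_2 lc_a_rc_3_0 lc_a_rc_3_2 lc_a_rc_4_2 lc_a_rc_3_2 lc_a_rc_4_2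 lc_a_rc_2_2 lc_a_rc_5_0 lc_a_rc_4_2 lc_a_rc_4_2 lc_a_Cert_tree lc_a_rc_3_2 lc_a_Cert_tree lc_a_rc_21_0 lc_a_rc_4_2 lc_a_rc_3_2 lc_a_rc_5_2 lc_a_Cert_tree lc_a_rc_5_0 lc_a_rc_4_2 lc_a_rc_2_2 lc_a_rc_2_2 lc_a_rc_4_2 lc_a_rc_0_1 lc_a_rc_21_0 lc_a_rc_0_1 lc_a_rc_2_0 lc_a_rc_0_1 lc_a_rc_21_0 lc_a_rc_3_2 lc_a_rc_5_0 lc_a_rc_21_0 lc_a_rc_0_1 lc_a_rc_4_2 lc_a_rc_2_2 lc_a_rc_2_2 lc_a_rc_21_0 lc_a_rc_2_2 lc_a_rc_2_2 lc_a_rc_4_2 lc_a_Cert_tree lc_a_rc_2_2 lc_a_rc_4_2 lc_a_rc_4_2 lc_a_rc_3_0 lc_a_rc_3_2 lc_a_rc_22_0) (@D3.rec (fun _ => (Cert rels S Gen.a)) lc_a_rc_2_2 lc_a_rc_0_1 lc_a_rc_0_1 lc_a_rc_2_2 lc_a_rc_5_0 lc_a_rc_4_2 lc_a_rc_3_2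 lc_a_rc_5_0 lc_a_rc_3_2 lc_a_rc_3_2 lc_a_rc_0_1 lc_a_rc_21_0 lc_a_rc_22_0 lc_a_rc_2_2 lc_a_rc_0_1 lc_a_rc_5_2 lc_a_rc_5_0 lc_a_rc_21_0 lc_a_rc_4_2 lc_a_rc_3_0 lc_a_rc_3_2 lc_a_rc_4_2 lc_a_rc_5_0 lc_a_rc_4_2 lc_a_rc_1_2 lc_a_rc_5_2 lc_a_rc_0_1 lc_a_Cert_tree lc_a_rc_21_0 lc_a_rc_3_2 lc_a_rc_2_2 lc_a_rc_4_2 lc_a_rc_3_2 lc_a_Cert_tree lc_a_rc_4_2 lc_a_rc_5_0 lc_a_rc_3_2 lc_a_rc_4_2 lc_a_rc_5_2 lc_a_rc_4_2 lc_a_rc_2_2 lc_a_rc_1_0 lc_a_rc_3_2 lc_a_rc_2_2 lc_a_rc_0_1 lc_a_rc_3_2 lc_a_rc_4_2 lc_a_rc_1_4 lc_a_rc_2_2 lc_a_rc_4_2 lc_a_rc_5_2 lc_a_rc_3_0 lc_a_rc_3_2 lc_a_rc_5_2 lc_a_rc_3_2 lc_a_rc_4_2 lc_a_rc_3_2 lc_a_rc_3_2 lc_a_rc_3_2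 lc_a_rc_2_2 lc_a_rc_4_2 lc_a_rc_0_1) (@D3.rec (fun _ => (Cert rels S Gen.a)) lc_a_rc_2_2 lc_a_rc_3_0 lc_a_rc_4_2 lc_a_rc_21_0 lc_a_rc_2_0 lc_a_rc_0_1 lc_a_rc_21_0 lc_a_rc_4_2 lc_a_rc_0_1 lc_a_rc_2_0 lc_a_rc_5_2 lc_a_rc_3_2 lc_a_rc_1_4 lc_a_rc_3_2 lc_a_rc_5_0 lc_a_rc_4_2 lc_a_rc_5_0 lc_a_rc_4_2 lc_a_rc_2_2 lc_a_rc_4_2 lc_a_rc_21_0 lc_a_rc_3_2 lc_a_rc_3_2 lc_a_rc_0_1 lc_a_rc_3_2 lc_a_rc_21_0 lc_a_rc_1_4 lc_a_rc_4_2 lc_a_rc_5_2 lc_a_rc_2_2 lc_a_rc_5_0 lc_a_rc_0_1 lc_a_Cert_tree lc_a_rc_3_2 lc_a_rc_2_2 lc_a_rc_4_2 lc_a_rc_1_0 lc_a_rc_4_2 lc_a_rc_2_2 lc_a_rc_2_2 lc_a_rc_5_2 lc_a_rc_0_1 lc_a_rc_0_1 lc_a_rc_4_2 lc_a_rc_4_2 lc_a_rc_2_2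 lc_a_rc_4_2 lc_a_rc_2_2 lc_a_rc_0_1 lc_a_rc_0_1 lc_a_rc_21_0 lc_a_rc_4_2 lc_a_rc_1_4 lc_a_rc_21_0 lc_a_Cert_tree lc_a_rc_0_1 lc_a_rc_4_2 lc_a_rc_2_0 lc_a_rc_2_2 lc_a_rc_4_2 lc_a_rc_4_2 lc_a_rc_22_0) (@D3.rec (fun _ => (Cert rels S Gen.a)) lc_a_rc_3_2 lc_a_rc_5_2 lc_a_rc_0_1 lc_a_rc_0_1 lc_a_rc_4_2 lc_a_rc_0_1 lc_a_rc_0_1 lc_a_rc_4_2 lc_a_rc_4_0 lc_a_rc_4_2 lc_a_Cert_tree lc_a_rc_0_1 lc_a_rc_0_1 lc_a_rc_21_0 lc_a_rc_0_1 lc_a_rc_3_2 lc_a_rc_21_0 lc_a_Cert_tree lc_a_rc_3_2 lc_a_rc_1_0 lc_a_rc_21_0 lc_a_rc_4_2 lc_a_rc_0_1 lc_a_rc_21_0 lc_a_rc_0_1 lc_a_rc_3_2 lc_a_rc_3_2 lc_a_rc_4_2 lc_a_rc_3_2 lc_a_rc_3_2 lc_a_Cert_tree lc_a_rc_21_0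 lc_a_Cert_tree lc_a_rc_3_2 lc_a_rc_2_2 lc_a_Cert_tree lc_a_rc_3_2 lc_a_rc_4_2 lc_a_rc_21_0 lc_a_rc_5_2 lc_a_Cert_tree lc_a_rc_3_2 lc_a_rc_4_2 lc_a_Cert_tree lc_a_rc_0_1 lc_a_rc_0_1 lc_a_rc_3_2 lc_a_rc_21_0 lc_a_rc_3_2 lc_a_rc_4_2 lc_a_rc_4_2 lc_a_Cert_tree lc_a_rc_4_2 lc_a_rc_3_2 lc_a_rc_5_0 lc_a_rc_1_4 lc_a_rc_4_2 lc_a_rc_5_2 lc_a_Cert_tree lc_a_rc_4_2 lc_a_rc_4_2 lc_a_rc_3_2) (@D3.rec (fun _ => (Cert rels S Gen.a)) lc_a_rc_21_0 lc_a_Cert_tree lc_a_rc_21_0 lc_a_rc_4_2 lc_a_rc_5_2 lc_a_Cert_tree lc_a_Cert_tree lc_a_rc_4_2 lc_a_rc_3_0 lc_a_rc_0_1 lc_a_rc_0_1 lc_a_rc_4_0 lc_a_rc_0_1 lc_a_rc_2_2 lc_a_rc_5_0 lc_a_rc_2_2 lc_a_rc_4_2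 lc_a_rc_3_2 lc_a_Cert_tree lc_a_rc_3_2 lc_a_rc_2_2 lc_a_rc_2_2 lc_a_rc_21_0 lc_a_rc_4_2 lc_a_Cert_tree lc_a_rc_2_2 lc_a_rc_4_0 lc_a_rc_4_2 lc_a_rc_5_2 lc_a_rc_3_2 lc_a_rc_2_2 lc_a_rc_21_0 lc_a_rc_0_1 lc_a_rc_3_2 lc_a_rc_4_2 lc_a_rc_0_1 lc_a_rc_5_0 lc_a_rc_4_2 lc_a_rc_0_1 lc_a_rc_2_2 lc_a_rc_2_2 lc_a_rc_4_2 lc_a_rc_2_2 lc_a_rc_3_2 lc_a_Cert_tree lc_a_rc_21_0 lc_a_rc_5_0 lc_a_rc_1_2 lc_a_Cert_tree lc_a_rc_4_2 lc_a_rc_21_0 lc_a_rc_1_4 lc_a_rc_0_1 lc_a_rc_21_0 lc_a_rc_4_2 lc_a_rc_2_2 lc_a_rc_4_2 lc_a_rc_2_2 lc_a_rc_2_2 lc_a_rc_3_2 lc_a_rc_5_2 lc_a_rc_2_2) (@D3.rec (fun _ => (Cert rels S Gen.a)) lc_a_rc_4_2 lc_a_rc_2_2 lc_a_rc_5_0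 lc_a_Cert_tree lc_a_rc_3_2 lc_a_rc_4_2 lc_a_rc_1_2 lc_a_rc_3_2 lc_a_rc_5_2 lc_a_rc_2_2 lc_a_rc_21_0 lc_a_rc_0_1 lc_a_rc_3_2 lc_a_rc_4_2 lc_a_rc_4_2 lc_a_rc_2_2 lc_a_rc_2_2 lc_a_rc_3_2 lc_a_rc_4_0 lc_a_rc_2_2 lc_a_rc_3_2 lc_a_rc_21_0 lc_a_rc_3_2 lc_a_rc_3_2 lc_a_rc_0_1 lc_a_rc_3_2 lc_a_rc_4_2 lc_a_rc_3_2 lc_a_rc_4_2 lc_a_rc_3_2 lc_a_rc_5_2 lc_a_rc_2_2 lc_a_rc_21_0 lc_a_rc_0_1 lc_a_rc_3_2 lc_a_rc_4_2 lc_a_rc_4_2 lc_a_rc_3_2 lc_a_rc_5_2 lc_a_rc_0_1 lc_a_rc_2_0 lc_a_rc_3_2 lc_a_rc_4_2 lc_a_rc_21_0 lc_a_Cert_tree lc_a_rc_3_2 lc_a_rc_4_2 lc_a_rc_3_2 lc_a_rc_0_1 lc_a_rc_2_2 lc_a_rc_4_2 lc_a_rc_3_2 lc_a_rc_4_2 lc_a_Cert_tree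 lc_a_Cert_tree lc_a_rc_4_2 lc_a_Cert_tree lc_a_rc_4_2 lc_a_rc_4_0 lc_a_rc_4_0 lc_a_rc_5_2 lc_a_rc_2_2) (@D3.rec (fun _ => (Cert rels S Gen.a)) lc_a_rc_2_2 lc_a_rc_5_0 lc_a_rc_3_2 lc_a_rc_4_2 lc_a_rc_4_2 lc_a_rc_1_4 lc_a_rc_5_0 lc_a_rc_21_0 lc_a_rc_21_0 lc_a_Cert_tree lc_a_rc_4_2 lc_a_rc_2_2 lc_a_rc_21_0 lc_a_rc_2_2 lc_a_rc_5_2 lc_a_rc_4_2 lc_a_rc_4_2 lc_a_rc_3_2 lc_a_rc_2_2 lc_a_rc_1_4 lc_a_rc_0_1 lc_a_rc_4_2 lc_a_rc_4_2 lc_a_rc_4_2 lc_a_Cert_tree lc_a_rc_5_2 lc_a_rc_4_2 lc_a_rc_2_2 lc_a_rc_2_2 lc_a_rc_3_2 lc_a_rc_5_2 lc_a_rc_3_2 lc_a_rc_21_0 lc_a_rc_4_2 lc_a_rc_2_2 lc_a_rc_4_2 lc_a_rc_2_2 lc_a_rc_4_2 lc_a_rc_1_4 lc_a_rc_3_2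 lc_a_rc_4_2 lc_a_rc_2_2 lc_a_rc_21_0 lc_a_Cert_tree lc_a_rc_3_2 lc_a_rc_1_4 lc_a_rc_2_2 lc_a_rc_3_0 lc_a_rc_3_2 lc_a_rc_3_2 lc_a_rc_3_2 lc_a_rc_22_0 lc_a_rc_4_2 lc_a_Cert_tree lc_a_rc_0_1 lc_a_rc_2_2 lc_a_rc_4_2 lc_a_rc_1_2 lc_a_rc_3_2 lc_a_rc_4_2 lc_a_rc_4_2 lc_a_rc_2_0) (@D3.rec (fun _ => (Cert rels S Gen.a)) lc_a_rc_0_1 lc_a_rc_21_0 lc_a_rc_2_2 lc_a_rc_4_2 lc_a_rc_2_2 lc_a_rc_0_1 lc_a_rc_4_2 lc_a_rc_2_2 lc_a_rc_0_1 lc_a_rc_21_0 lc_a_rc_3_2 lc_a_rc_4_2 lc_a_rc_3_2 lc_a_rc_3_2 lc_a_rc_21_0 lc_a_rc_2_0 lc_a_rc_3_2 lc_a_rc_4_2 lc_a_rc_3_2 lc_a_rc_4_2 lc_a_rc_4_2 lc_a_rc_3_2 lc_a_Cert_tree lc_a_rc_3_2 lc_a_rc_2_2 lc_a_rc_4_2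 lc_a_Cert_tree lc_a_rc_21_0 lc_a_rc_4_2 lc_a_rc_1_2 lc_a_rc_1_2 lc_a_rc_0_1 lc_a_rc_3_2 lc_a_rc_3_2 lc_a_rc_3_2 lc_a_rc_4_2 lc_a_rc_4_2 lc_a_Cert_tree lc_a_rc_3_2 lc_a_rc_4_2 lc_a_Cert_tree lc_a_rc_3_2 lc_a_Cert_tree lc_a_rc_21_0 lc_a_rc_4_2 lc_a_Cert_tree lc_a_rc_2_2 lc_a_rc_4_2 lc_a_rc_5_2 lc_a_Cert_tree lc_a_rc_21_0 lc_a_rc_4_2 lc_a_Cert_tree lc_a_rc_0_1 lc_a_rc_0_1 lc_a_rc_3_2 lc_a_rc_21_0 lc_a_rc_5_0 lc_a_rc_22_0 lc_a_rc_4_2 lc_a_rc_22_0 lc_a_rc_4_2) (@D3.rec (fun _ => (Cert rels S Gen.a)) lc_a_Cert_tree lc_a_rc_3_2 lc_a_rc_4_2 lc_a_rc_3_2 lc_a_Cert_tree lc_a_rc_5_2 lc_a_rc_4_2 lc_a_rc_4_2 lc_a_rc_4_2 lc_a_rc_0_1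 lc_a_Cert_tree lc_a_rc_2_2 lc_a_rc_4_0 lc_a_rc_3_2 lc_a_rc_21_0 lc_a_rc_4_2 lc_a_rc_4_2 lc_a_rc_5_2 lc_a_rc_4_2 lc_a_rc_21_0 lc_a_rc_0_1 lc_a_rc_5_2 lc_a_Cert_tree lc_a_rc_0_1 lc_a_rc_0_1 lc_a_rc_22_0 lc_a_rc_21_0 lc_a_rc_4_2 lc_a_rc_4_2 lc_a_rc_3_2 lc_a_rc_5_0 lc_a_Cert_tree lc_a_rc_3_2 lc_a_rc_4_2 lc_a_rc_21_0 lc_a_rc_3_2 lc_a_rc_5_2 lc_a_Cert_tree lc_a_rc_21_0 lc_a_rc_4_2 lc_a_Cert_tree lc_a_rc_2_2 lc_a_rc_4_2 lc_a_rc_2_2 lc_a_rc_21_0 lc_a_rc_0_1 lc_a_rc_3_2 lc_a_rc_4_2 lc_a_rc_4_2 lc_a_rc_2_2 lc_a_rc_2_2 lc_a_rc_3_2 lc_a_rc_5_2 lc_a_rc_2_2 lc_a_rc_3_0 lc_a_Cert_tree lc_a_rc_4_2 lc_a_rc_5_0 lc_a_rc_4_2 lc_a_rc_5_2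 lc_a_rc_2_2 lc_a_rc_21_0) (@D3.rec (fun _ => (Cert rels S Gen.a)) lc_a_rc_0_1 lc_a_rc_3_2 lc_a_rc_4_2 lc_a_rc_4_2 lc_a_rc_2_0 lc_a_rc_4_2 lc_a_rc_3_2 lc_a_rc_3_0 lc_a_rc_2_2 lc_a_rc_4_2 lc_a_rc_4_2 lc_a_rc_3_2 lc_a_Cert_tree lc_a_Cert_tree lc_a_rc_4_2 lc_a_rc_2_2 lc_a_rc_21_0 lc_a_rc_0_1 lc_a_rc_3_2 lc_a_rc_1_4 lc_a_rc_21_0 lc_a_rc_2_2 lc_a_rc_3_0 lc_a_rc_2_2 lc_a_rc_4_2 lc_a_rc_4_2 lc_a_rc_3_0 lc_a_rc_21_0 lc_a_rc_3_2 lc_a_rc_5_0 lc_a_rc_5_2 lc_a_rc_2_2 lc_a_rc_21_0 lc_a_rc_0_1 lc_a_rc_3_2 lc_a_rc_3_0 lc_a_rc_5_0 lc_a_rc_0_1 lc_a_rc_2_2 lc_a_rc_3_2 lc_a_rc_5_2 lc_a_rc_3_0 lc_a_rc_3_2 lc_a_rc_3_0 lc_a_rc_0_1 lc_a_rc_21_0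 lc_a_rc_0_1 lc_a_rc_3_2 lc_a_rc_4_2 lc_a_rc_0_1 lc_a_rc_3_2 lc_a_rc_3_2 lc_a_rc_0_1 lc_a_rc_0_1 lc_a_Cert_tree lc_a_rc_3_2 lc_a_rc_3_0 lc_a_rc_21_0 lc_a_rc_3_0 lc_a_rc_3_2 lc_a_rc_4_2 lc_a_rc_3_2) (@D3.rec (fun _ => (Cert rels S Gen.a)) lc_a_rc_21_0 lc_a_rc_0_1 lc_a_rc_2_2 lc_a_rc_4_2 lc_a_rc_3_0 lc_a_rc_2_2 lc_a_Cert_tree lc_a_rc_2_2 lc_a_Cert_tree lc_a_rc_0_1 lc_a_rc_1_2 lc_a_rc_4_2 lc_a_rc_21_0 lc_a_rc_4_0 lc_a_rc_5_2 lc_a_rc_4_2 lc_a_rc_5_0 lc_a_rc_2_2 lc_a_rc_3_2 lc_a_rc_2_2 lc_a_rc_3_2 lc_a_rc_4_2 lc_a_rc_4_2 lc_a_rc_21_0 lc_a_rc_21_0 lc_a_rc_3_2 lc_a_rc_4_2 lc_a_rc_4_2 lc_a_rc_4_2 lc_a_rc_21_0 lc_a_rc_3_2 lc_a_rc_5_2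 lc_a_rc_5_0 lc_a_rc_21_0 lc_a_rc_5_0 lc_a_rc_1_2 lc_a_rc_4_2 lc_a_rc_2_2 lc_a_rc_4_2 lc_a_rc_4_2 lc_a_Cert_tree lc_a_rc_3_0 lc_a_rc_4_2 lc_a_rc_3_2 lc_a_rc_4_2 lc_a_rc_2_2 lc_a_rc_5_0 lc_a_rc_3_2 lc_a_rc_2_2 lc_a_rc_1_4 lc_a_rc_4_2 lc_a_rc_21_0 lc_a_rc_4_2 lc_a_rc_21_0 lc_a_rc_2_2 lc_a_rc_3_2 lc_a_rc_4_2 lc_a_rc_1_2 lc_a_rc_4_2 lc_a_rc_5_0 lc_a_rc_2_2 lc_a_rc_3_0) (@D3.rec (fun _ => (Cert rels S Gen.a)) lc_a_rc_3_2 lc_a_rc_0_1 lc_a_rc_2_2 lc_a_rc_0_1 lc_a_rc_2_2 lc_a_rc_4_2 lc_a_rc_3_2 lc_a_rc_0_1 lc_a_rc_3_2 lc_a_rc_22_0 lc_a_rc_4_2 lc_a_rc_2_2 lc_a_rc_0_1 lc_a_rc_1_4 lc_a_rc_1_4 lc_a_rc_4_2 lc_a_rc_21_0 lc_a_rc_3_2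 lc_a_rc_4_2 lc_a_rc_1_4 lc_a_rc_4_2 lc_a_rc_2_0 lc_a_rc_3_2 lc_a_rc_5_2 lc_a_rc_2_2 lc_a_rc_4_2 lc_a_rc_22_0 lc_a_rc_2_2 lc_a_rc_4_2 lc_a_Cert_tree lc_a_rc_2_2 lc_a_rc_4_2 lc_a_rc_2_0 lc_a_rc_21_0 lc_a_rc_3_2 lc_a_rc_4_2 lc_a_rc_3_2 lc_a_rc_3_0 lc_a_rc_1_4 lc_a_rc_3_2 lc_a_rc_3_2 lc_a_rc_0_1 lc_a_rc_3_2 lc_a_rc_4_2 lc_a_rc_5_0 lc_a_rc_3_2 lc_a_rc_4_2 lc_a_rc_2_2 lc_a_rc_3_2 lc_a_rc_4_2 lc_a_rc_5_0 lc_a_Cert_tree lc_a_rc_2_2 lc_a_rc_3_2 lc_a_rc_3_2 lc_a_rc_5_2 lc_a_rc_5_2 lc_a_rc_4_2 lc_a_rc_5_2 lc_a_rc_5_0 lc_a_rc_4_2 lc_a_rc_5_2) (@D3.rec (fun _ => (Cert rels S Gen.a)) lc_a_rc_5_0 lc_a_rc_5_2 lc_a_rc_4_2 lc_a_Cert_tree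 lc_a_rc_2_2 lc_a_rc_3_2 lc_a_rc_5_2 lc_a_rc_4_2 lc_a_rc_5_2 lc_a_rc_1_4 lc_a_rc_21_0 lc_a_rc_0_1 lc_a_rc_4_2 lc_a_rc_5_0 lc_a_rc_2_2 lc_a_rc_2_2 lc_a_rc_0_1 lc_a_rc_3_2 lc_a_rc_4_2 lc_a_rc_4_2 lc_a_rc_2_2 lc_a_rc_2_2 lc_a_rc_22_0 lc_a_rc_5_2 lc_a_rc_2_2 lc_a_rc_5_0 lc_a_rc_21_0 lc_a_rc_2_2 lc_a_rc_2_2 lc_a_rc_0_1 lc_a_rc_3_2 lc_a_rc_4_2 lc_a_rc_4_2 lc_a_rc_4_2 lc_a_rc_0_1 lc_a_rc_3_2 lc_a_rc_5_2 lc_a_rc_2_2 lc_a_rc_5_0 lc_a_rc_4_0 lc_a_rc_2_0 lc_a_rc_0_1 lc_a_rc_2_2 lc_a_rc_21_0 lc_a_rc_3_2 lc_a_rc_3_2 lc_a_rc_0_1 lc_a_rc_3_2 lc_a_rc_4_2 lc_a_rc_4_2 lc_a_rc_3_2 lc_a_rc_5_2 lc_a_rc_21_0 lc_a_rc_1_4 lc_a_rc_0_1 lc_a_rc_3_2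 lc_a_rc_4_2 lc_a_rc_4_2 lc_a_rc_3_2 lc_a_rc_5_2 lc_a_Cert_tree lc_a_rc_4_2) (@D3.rec (fun _ => (Cert rels S Gen.a)) lc_a_Cert_tree lc_a_rc_4_2 lc_a_rc_2_2 lc_a_rc_4_2 lc_a_Cert_tree lc_a_rc_4_2 lc_a_rc_2_2 lc_a_rc_4_0 lc_a_rc_3_2 lc_a_rc_5_2 lc_a_rc_3_0 lc_a_rc_3_2 lc_a_rc_2_2 lc_a_rc_3_2 lc_a_rc_5_0 lc_a_rc_3_2 lc_a_rc_0_1 lc_a_rc_0_1 lc_a_rc_21_0 lc_a_rc_5_2 lc_a_rc_3_2 lc_a_rc_3_2 lc_a_rc_0_1 lc_a_rc_3_2 lc_a_rc_3_0 lc_a_rc_2_2 lc_a_rc_2_2 lc_a_rc_0_1 lc_a_rc_3_2 lc_a_rc_1_2 lc_a_rc_4_2 lc_a_rc_5_0 lc_a_rc_3_2 lc_a_rc_21_0 lc_a_rc_2_2 lc_a_rc_3_2 lc_a_rc_21_0 lc_a_rc_4_2 lc_a_rc_4_2 lc_a_rc_1_2 lc_a_rc_3_2 lc_a_rc_21_0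 lc_a_rc_21_0 lc_a_rc_2_0 lc_a_rc_0_1 lc_a_rc_3_2 lc_a_rc_4_2 lc_a_rc_4_2 lc_a_rc_21_0 lc_a_rc_2_2 lc_a_rc_3_2 lc_a_rc_2_2 lc_a_rc_2_2 lc_a_rc_4_2 lc_a_rc_21_0 lc_a_rc_2_2 lc_a_rc_2_2 lc_a_rc_0_1 lc_a_rc_0_1 lc_a_rc_3_2 lc_a_rc_4_2 lc_a_rc_3_2) (@D3.rec (fun _ => (Cert rels S Gen.a)) lc_a_rc_5_2 lc_a_rc_3_2 lc_a_rc_0_1 lc_a_rc_21_0 lc_a_rc_4_2 lc_a_rc_4_2 lc_a_rc_3_2 lc_a_rc_5_2 lc_a_rc_0_1 lc_a_Cert_tree lc_a_rc_5_2 lc_a_rc_3_2 lc_a_rc_4_2 lc_a_rc_5_2 lc_a_rc_5_0 lc_a_rc_2_2 lc_a_rc_5_0 lc_a_rc_4_2 lc_a_rc_2_2 lc_a_rc_4_2 lc_a_rc_4_2 lc_a_rc_1_4 lc_a_rc_2_2 lc_a_rc_0_1 lc_a_rc_3_2 lc_a_rc_5_2 lc_a_rc_3_2 lc_a_rc_4_2 lc_a_rc_3_2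 lc_a_rc_5_0 lc_a_rc_4_2 lc_a_rc_4_2 lc_a_Cert_tree lc_a_rc_2_0 lc_a_rc_4_2 lc_a_rc_5_0 lc_a_rc_5_2 lc_a_Cert_tree lc_a_rc_2_2 lc_a_rc_4_2 lc_a_Cert_tree lc_a_rc_2_2 lc_a_rc_4_2 lc_a_Cert_tree lc_a_rc_0_1 lc_a_rc_0_1 lc_a_rc_3_2 lc_a_rc_21_0 lc_a_rc_2_2 lc_a_rc_5_0 lc_a_rc_4_2 lc_a_rc_5_2 lc_a_rc_4_2 lc_a_Cert_tree lc_a_rc_2_2 lc_a_rc_21_0 lc_a_Cert_tree lc_a_Cert_tree lc_a_rc_2_0 lc_a_Cert_tree lc_a_rc_2_2 lc_a_rc_21_0) (@D3.rec (fun _ => (Cert rels S Gen.a)) lc_a_rc_3_2 lc_a_rc_0_1 lc_a_rc_3_2 lc_a_rc_21_0 lc_a_rc_4_2 lc_a_rc_2_2 lc_a_rc_5_0 lc_a_rc_22_0 lc_a_rc_5_2 lc_a_rc_2_2 lc_a_rc_4_2 lc_a_Cert_tree lc_a_rc_4_2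 lc_a_rc_4_2 lc_a_rc_3_2 lc_a_rc_3_2 lc_a_rc_0_1 lc_a_rc_5_2 lc_a_rc_2_2 lc_a_rc_4_2 lc_a_rc_2_2 lc_a_rc_21_0 lc_a_rc_5_2 lc_a_rc_21_0 lc_a_rc_2_2 lc_a_rc_3_0 lc_a_rc_21_0 lc_a_rc_2_2 lc_a_rc_21_0 lc_a_Cert_tree lc_a_rc_4_2 lc_a_rc_0_1 lc_a_rc_21_0 lc_a_rc_0_1 lc_a_rc_3_2 lc_a_rc_5_0 lc_a_rc_3_2 lc_a_rc_21_0 lc_a_rc_3_2 lc_a_rc_2_2 lc_a_rc_2_2 lc_a_rc_4_2 lc_a_rc_5_0 lc_a_rc_3_2 lc_a_rc_21_0 lc_a_rc_3_2 lc_a_rc_0_1 lc_a_rc_3_2 lc_a_rc_1_4 lc_a_rc_4_2 lc_a_rc_4_2 lc_a_rc_5_0 lc_a_rc_2_2 lc_a_rc_21_0 lc_a_rc_4_2 lc_a_rc_0_1 lc_a_rc_21_0 lc_a_rc_0_1 lc_a_rc_3_2 lc_a_rc_4_2 lc_a_rc_4_2 lc_a_rc_3_2) (@D3.rec (fun _ => (Cert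 rels S Gen.a)) lc_a_rc_3_2 lc_a_rc_3_2 lc_a_rc_4_2 lc_a_rc_4_2 lc_a_rc_0_1 lc_a_rc_0_1 lc_a_rc_1_4 lc_a_rc_2_2 lc_a_rc_4_0 lc_a_rc_0_1 lc_a_rc_5_2 lc_a_rc_2_2 lc_a_rc_2_0 lc_a_rc_3_2 lc_a_rc_4_2 lc_a_rc_4_2 lc_a_rc_4_2 lc_a_Cert_tree lc_a_rc_4_2 lc_a_Cert_tree lc_a_rc_4_2 lc_a_rc_5_0 lc_a_rc_5_2 lc_a_rc_5_0 lc_a_rc_2_2 lc_a_rc_3_2 lc_a_rc_2_2 lc_a_rc_4_2 lc_a_rc_21_0 lc_a_rc_5_0 lc_a_rc_5_0 lc_a_rc_4_2 lc_a_Cert_tree lc_a_rc_3_2 lc_a_rc_2_2 lc_a_Cert_tree lc_a_rc_5_0 lc_a_rc_4_2 lc_a_rc_21_0 lc_a_rc_3_2 lc_a_rc_0_1 lc_a_rc_3_2 lc_a_rc_3_2 lc_a_rc_3_2 lc_a_rc_4_2 lc_a_rc_3_2 lc_a_rc_21_0 lc_a_rc_21_0 lc_a_rc_0_1 lc_a_rc_0_1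 lc_a_rc_3_2 lc_a_rc_3_2 lc_a_rc_0_1 lc_a_rc_4_2 lc_a_Cert_tree lc_a_rc_3_2 lc_a_Cert_tree lc_a_rc_5_0 lc_a_rc_2_2 lc_a_rc_3_2 lc_a_rc_21_0 lc_a_rc_3_2) (@D3.rec (fun _ => (Cert rels S Gen.a)) lc_a_rc_4_2 lc_a_rc_21_0 lc_a_rc_5_2 lc_a_rc_1_4 lc_a_rc_1_4 lc_a_rc_0_1 lc_a_rc_3_2 lc_a_rc_4_2 lc_a_rc_5_2 lc_a_rc_4_2 lc_a_rc_4_2 lc_a_rc_3_2 lc_a_rc_5_2 lc_a_Cert_tree lc_a_rc_3_2 lc_a_rc_2_2 lc_a_rc_0_1 lc_a_rc_21_0 lc_a_Cert_tree lc_a_rc_21_0 lc_a_Cert_tree lc_a_rc_5_0 lc_a_rc_2_2 lc_a_Cert_tree lc_a_rc_3_2 lc_a_rc_3_2 lc_a_rc_3_2 lc_a_rc_4_2 lc_a_rc_0_1 lc_a_rc_3_0 lc_a_rc_3_2 lc_a_rc_4_2 lc_a_rc_4_2 lc_a_rc_2_2 lc_a_rc_3_2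 lc_a_rc_0_1 lc_a_rc_4_2 lc_a_rc_5_2 lc_a_rc_3_2 lc_a_rc_2_2 lc_a_Cert_tree lc_a_rc_4_2 lc_a_rc_4_2 lc_a_rc_5_0 lc_a_rc_5_2 lc_a_Cert_tree lc_a_rc_4_2 lc_a_Cert_tree lc_a_rc_21_0 lc_a_rc_0_1 lc_a_rc_0_1 lc_a_rc_3_2 lc_a_rc_4_2 lc_a_rc_3_2 lc_a_rc_5_0 lc_a_rc_4_2 lc_a_rc_5_0 lc_a_rc_4_2 lc_a_rc_3_2 lc_a_rc_22_0 lc_a_rc_4_2 lc_a_rc_3_2) (@D3.rec (fun _ => (Cert rels S Gen.a)) lc_a_rc_5_0 lc_a_rc_21_0 lc_a_rc_0_1 lc_a_rc_21_0 lc_a_rc_0_1 lc_a_rc_3_2 lc_a_rc_4_2 lc_a_rc_4_2 lc_a_rc_0_1 lc_a_rc_3_2 lc_a_rc_3_2 lc_a_rc_2_2 lc_a_rc_5_0 lc_a_rc_4_2 lc_a_rc_2_2 lc_a_rc_0_1 lc_a_rc_21_0 lc_a_rc_0_1 lc_a_rc_3_2 lc_a_rc_4_2 lc_a_rc_3_2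 lc_a_rc_4_2 lc_a_rc_3_2 lc_a_rc_5_2 lc_a_rc_21_0 lc_a_rc_3_2 lc_a_rc_0_1 lc_a_rc_3_2 lc_a_rc_4_2 lc_a_rc_4_2 lc_a_rc_3_2 lc_a_rc_5_2 lc_a_rc_0_1 lc_a_rc_0_1 lc_a_rc_1_2 lc_a_rc_2_2 lc_a_rc_3_2 lc_a_rc_4_2 lc_a_rc_5_2 lc_a_Cert_tree lc_a_rc_3_2 lc_a_rc_3_2 lc_a_rc_3_2 lc_a_rc_3_2 lc_a_rc_2_2 lc_a_rc_4_2 lc_a_rc_3_0 lc_a_rc_4_2 lc_a_rc_4_0 lc_a_rc_4_2 lc_a_Cert_tree lc_a_rc_4_2 lc_a_rc_5_2 lc_a_rc_4_2 lc_a_rc_4_2 lc_a_rc_3_2 lc_a_rc_5_2 lc_a_rc_3_0 lc_a_rc_4_0 lc_a_rc_3_2 lc_a_rc_5_0 lc_a_rc_4_2) (@D3.rec (fun _ => (Cert rels S Gen.a)) lc_a_rc_5_2 lc_a_rc_1_2 lc_a_rc_4_2 lc_a_rc_22_0 lc_a_rc_0_1 lc_a_rc_0_1 lc_a_rc_3_2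 lc_a_rc_1_2 lc_a_rc_4_2 lc_a_rc_0_1 lc_a_rc_3_2 lc_a_rc_5_2 lc_a_rc_4_2 lc_a_rc_21_0 lc_a_rc_4_2 lc_a_rc_5_2 lc_a_rc_21_0 lc_a_rc_4_2 lc_a_rc_5_0 lc_a_rc_4_0 lc_a_rc_2_2 lc_a_rc_0_1 lc_a_rc_22_0 lc_a_rc_2_2 lc_a_rc_5_0 lc_a_rc_4_2 lc_a_rc_5_2 lc_a_Cert_tree lc_a_rc_2_2 lc_a_rc_0_1 lc_a_rc_21_0 lc_a_rc_0_1 lc_a_rc_5_0 lc_a_rc_0_1 lc_a_rc_2_0 lc_a_rc_3_2 lc_a_rc_5_2 lc_a_rc_21_0 lc_a_rc_2_2 lc_a_rc_4_2 lc_a_rc_21_0 lc_a_rc_4_2 lc_a_rc_4_2 lc_a_rc_5_2 lc_a_rc_2_2 lc_a_Cert_tree lc_a_rc_5_2 lc_a_rc_21_0 lc_a_rc_0_1 lc_a_rc_0_1 lc_a_rc_4_2 lc_a_rc_2_2 lc_a_rc_21_0 lc_a_rc_3_2 lc_a_rc_5_2 lc_a_rc_21_0 lc_a_rc_5_0 lc_a_rc_2_2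 lc_a_rc_21_0 lc_a_rc_2_2 lc_a_rc_0_1 lc_a_rc_3_2) (@D3.rec (fun _ => (Cert rels S Gen.a)) lc_a_rc_4_2 lc_a_rc_4_2 lc_a_rc_2_2 lc_a_rc_21_0 lc_a_rc_3_2 lc_a_rc_21_0 lc_a_rc_2_2 lc_a_rc_0_1 lc_a_rc_22_0 lc_a_rc_4_2 lc_a_rc_4_2 lc_a_rc_3_2 lc_a_rc_5_2 lc_a_rc_21_0 lc_a_rc_1_4 lc_a_rc_0_1 lc_a_rc_3_2 lc_a_rc_4_2 lc_a_rc_3_0 lc_a_rc_4_2 lc_a_rc_2_2 lc_a_Cert_tree lc_a_rc_2_2 lc_a_rc_2_2 lc_a_rc_4_2 lc_a_Cert_tree lc_a_rc_3_0 lc_a_rc_2_2 lc_a_rc_4_2 lc_a_rc_3_2 lc_a_rc_4_2 lc_a_rc_21_0 lc_a_rc_0_1 lc_a_rc_4_2 lc_a_rc_4_0 lc_a_rc_2_2 lc_a_rc_3_2 lc_a_rc_1_2 lc_a_Cert_tree lc_a_rc_4_2 lc_a_Cert_tree lc_a_rc_4_2 lc_a_rc_4_0 lc_a_rc_2_2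 lc_a_rc_4_2 lc_a_rc_22_0 lc_a_Cert_tree lc_a_rc_3_2 lc_a_Cert_tree lc_a_rc_5_0 lc_a_rc_2_2 lc_a_rc_4_2 lc_a_rc_21_0 lc_a_rc_0_1 lc_a_rc_22_0 lc_a_rc_22_0 lc_a_rc_21_0 lc_a_rc_1_4 lc_a_rc_5_0 lc_a_rc_5_0 lc_a_rc_4_2 lc_a_rc_3_2) (@D3.rec (fun _ => (Cert rels S Gen.a)) lc_a_rc_2_2 lc_a_rc_5_0 lc_a_rc_21_0 lc_a_rc_4_2 lc_a_rc_21_0 lc_a_rc_2_2 lc_a_Cert_tree lc_a_rc_3_2 lc_a_rc_5_2 lc_a_rc_3_2 lc_a_Cert_tree lc_a_rc_3_2 lc_a_rc_4_2 lc_a_rc_0_1 lc_a_rc_3_0 lc_a_rc_0_1 lc_a_rc_3_2 lc_a_rc_3_2 lc_a_rc_3_2 lc_a_rc_4_2 lc_a_Cert_tree lc_a_rc_4_2 lc_a_rc_4_2 lc_a_rc_21_0 lc_a_rc_0_1 lc_a_rc_0_1 lc_a_rc_3_2 lc_a_rc_4_2 lc_a_rc_4_2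 lc_a_rc_5_0 lc_a_rc_3_2 lc_a_rc_5_2 lc_a_rc_21_0 lc_a_rc_3_2 lc_a_rc_3_2 lc_a_rc_5_2 lc_a_rc_0_1 lc_a_rc_0_1 lc_a_rc_0_1 lc_a_rc_1_0 lc_a_rc_21_0 lc_a_rc_2_2 lc_a_rc_0_1 lc_a_rc_4_2 lc_a_rc_21_0 lc_a_rc_22_0 lc_a_rc_3_2 lc_a_rc_1_4 lc_a_Cert_tree lc_a_rc_21_0 lc_a_rc_21_0 lc_a_rc_1_4 lc_a_rc_2_2 lc_a_rc_0_1 lc_a_rc_0_1 lc_a_rc_3_2 lc_a_rc_4_2 lc_a_rc_0_1 lc_a_rc_21_0 lc_a_rc_2_2 lc_a_rc_4_2 lc_a_rc_4_2) (@D3.rec (fun _ => (Cert rels S Gen.a)) lc_a_rc_4_2 lc_a_rc_3_2 lc_a_rc_4_2 lc_a_rc_4_2 lc_a_rc_5_0 lc_a_rc_3_2 lc_a_rc_5_2 lc_a_Cert_tree lc_a_rc_21_0 lc_a_rc_21_0 lc_a_rc_3_0 lc_a_Cert_tree lc_a_rc_3_2 lc_a_rc_3_2 lc_a_rc_21_0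 lc_a_rc_0_1 lc_a_rc_3_2 lc_a_rc_2_2 lc_a_Cert_tree lc_a_rc_0_1 lc_a_rc_21_0 lc_a_rc_21_0 lc_a_rc_3_2 lc_a_rc_21_0 lc_a_rc_2_2 lc_a_rc_2_2 lc_a_rc_21_0 lc_a_Cert_tree lc_a_rc_3_2 lc_a_rc_5_2 lc_a_Cert_tree lc_a_rc_3_2 lc_a_rc_4_2 lc_a_Cert_tree lc_a_rc_5_0 lc_a_rc_4_2 lc_a_rc_3_2 lc_a_rc_4_2 lc_a_rc_0_1 lc_a_rc_1_2 lc_a_rc_0_1 lc_a_rc_2_2 lc_a_rc_5_2 lc_a_rc_22_0 lc_a_rc_0_1 lc_a_rc_0_1 lc_a_rc_3_2 lc_a_rc_4_2 lc_a_rc_4_2 lc_a_rc_21_0 lc_a_rc_4_2 lc_a_rc_3_2 lc_a_rc_5_2 lc_a_rc_4_2 lc_a_rc_3_2 lc_a_rc_5_2 lc_a_rc_5_2 lc_a_rc_0_1 lc_a_rc_5_0 lc_a_rc_0_1 lc_a_rc_0_1 lc_a_rc_4_2) (@D3.rec (fun _ => (Cert rels S Gen.a)) lc_a_rc_3_2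 lc_a_rc_21_0 lc_a_rc_2_2 lc_a_rc_0_1 lc_a_Cert_tree lc_a_rc_21_0 lc_a_rc_4_2 lc_a_rc_4_0 lc_a_rc_2_2 lc_a_rc_3_2 lc_a_rc_4_2 lc_a_rc_2_0 lc_a_rc_2_0 lc_a_rc_3_2 lc_a_rc_21_0 lc_a_rc_2_2 lc_a_rc_21_0 lc_a_rc_3_2 lc_a_rc_1_4 lc_a_rc_21_0 lc_a_rc_4_2 lc_a_Cert_tree lc_a_rc_4_2 lc_a_rc_2_0 lc_a_rc_4_2 lc_a_rc_4_2 lc_a_rc_1_0 lc_a_Cert_tree lc_a_rc_3_0 lc_a_rc_0_1 lc_a_rc_4_2 lc_a_rc_2_2 lc_a_rc_4_2 lc_a_rc_3_2 lc_a_rc_3_2 lc_a_Cert_tree lc_a_rc_4_2 lc_a_rc_3_0 lc_a_rc_3_0 lc_a_rc_5_2 lc_a_rc_5_2 lc_a_rc_4_2 lc_a_rc_0_1 lc_a_rc_3_2 lc_a_rc_4_2 lc_a_rc_2_2 lc_a_rc_2_2 lc_a_rc_3_2 lc_a_rc_5_2 lc_a_rc_4_2 lc_a_Cert_tree lc_a_rc_2_2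 lc_a_rc_2_2 lc_a_rc_2_2 lc_a_rc_0_1 lc_a_rc_3_2 lc_a_rc_21_0 lc_a_rc_0_1 lc_a_rc_2_2 lc_a_rc_3_0 lc_a_rc_3_0 lc_a_rc_5_2) (@D3.rec (fun _ => (Cert rels S Gen.a)) lc_a_Cert_tree lc_a_rc_4_2 lc_a_rc_0_1 lc_a_rc_2_2 lc_a_Cert_tree lc_a_rc_21_0 lc_a_rc_1_4 lc_a_rc_3_2 lc_a_rc_4_2 lc_a_rc_21_0 lc_a_rc_3_2 lc_a_rc_4_2 lc_a_rc_5_0 lc_a_rc_21_0 lc_a_rc_4_2 lc_a_rc_4_2 lc_a_Cert_tree lc_a_rc_3_2 lc_a_rc_2_2 lc_a_rc_3_0 lc_a_rc_3_2 lc_a_rc_2_2 lc_a_rc_3_0 lc_a_rc_21_0 lc_a_rc_3_2 lc_a_rc_2_0 lc_a_rc_2_2 lc_a_rc_3_2 lc_a_rc_4_2 lc_a_rc_2_2 lc_a_rc_2_2 lc_a_rc_3_2 lc_a_rc_4_2 lc_a_rc_0_1 lc_a_rc_2_0 lc_a_rc_2_2 lc_a_rc_5_0 lc_a_rc_3_2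 lc_a_rc_3_0 lc_a_rc_4_2 lc_a_rc_5_2 lc_a_rc_4_2 lc_a_rc_2_2 lc_a_rc_4_2 lc_a_rc_4_0 lc_a_rc_3_0 lc_a_rc_21_0 lc_a_rc_3_2 lc_a_rc_21_0 lc_a_rc_2_2 lc_a_rc_3_2 lc_a_rc_4_2 lc_a_rc_2_2 lc_a_rc_3_2 lc_a_rc_2_2 lc_a_rc_21_0 lc_a_rc_3_2 lc_a_rc_2_2 lc_a_rc_3_2 lc_a_rc_5_0 lc_a_rc_3_0 lc_a_rc_1_4) (@D3.rec (fun _ => (Cert rels S Gen.a)) lc_a_rc_1_0 lc_a_rc_5_2 lc_a_rc_4_2 lc_a_rc_5_0 lc_a_rc_21_0 lc_a_rc_3_0 lc_a_rc_1_2 lc_a_rc_4_2 lc_a_rc_21_0 lc_a_rc_3_2 lc_a_rc_4_2 lc_a_rc_0_1 lc_a_rc_3_2 lc_a_rc_4_2 lc_a_rc_2_2 lc_a_rc_0_1 lc_a_rc_3_2 lc_a_rc_4_2 lc_a_rc_5_2 lc_a_Cert_tree lc_a_rc_0_1 lc_a_rc_3_2 lc_a_rc_4_2 lc_a_rc_2_2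 lc_a_rc_0_1 lc_a_rc_2_2 lc_a_rc_0_1 lc_a_rc_3_2 lc_a_rc_4_0 lc_a_rc_3_2 lc_a_rc_22_0 lc_a_rc_4_2 lc_a_rc_0_1 lc_a_rc_0_1 lc_a_rc_3_2 lc_a_rc_4_2 lc_a_rc_3_2 lc_a_rc_1_2 lc_a_rc_2_2 lc_a_rc_4_2 lc_a_rc_1_0 lc_a_rc_2_0 lc_a_rc_21_0 lc_a_rc_0_1 lc_a_rc_21_0 lc_a_rc_2_2 lc_a_rc_4_2 lc_a_Cert_tree lc_a_rc_2_2 lc_a_rc_4_2 lc_a_rc_1_4 lc_a_rc_2_2 lc_a_rc_4_2 lc_a_rc_3_2 lc_a_rc_2_2 lc_a_rc_3_2 lc_a_rc_2_2 lc_a_rc_2_2 lc_a_rc_2_2 lc_a_rc_4_0 lc_a_rc_4_2 lc_a_rc_4_2) (@D3.rec (fun _ => (Cert rels S Gen.a)) lc_a_rc_21_0 lc_a_rc_3_2 lc_a_rc_3_2 lc_a_rc_0_1 lc_a_rc_2_2 lc_a_rc_4_2 lc_a_rc_2_0 lc_a_rc_4_2 lc_a_rc_21_0 lc_a_rc_0_1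 lc_a_rc_2_2 lc_a_rc_4_2 lc_a_rc_4_0 lc_a_rc_3_2 lc_a_rc_5_2 lc_a_rc_2_2 lc_a_rc_0_1 lc_a_rc_4_2 lc_a_rc_0_1 lc_a_Cert_tree lc_a_rc_1_2 lc_a_rc_5_0 lc_a_rc_0_1 lc_a_Cert_tree lc_a_rc_2_2 lc_a_rc_4_2 lc_a_rc_5_2 lc_a_rc_22_0 lc_a_rc_3_0 lc_a_rc_3_2 lc_a_rc_1_2 lc_a_rc_5_0 lc_a_rc_3_2 lc_a_rc_21_0 lc_a_rc_5_2 lc_a_rc_3_2 lc_a_rc_3_2 lc_a_rc_2_2 lc_a_rc_21_0 lc_a_rc_0_1 lc_a_rc_4_2 lc_a_rc_2_2 lc_a_rc_4_2 lc_a_rc_3_2 lc_a_rc_1_4 lc_a_rc_2_0 lc_a_rc_4_2 lc_a_rc_3_2 lc_a_rc_2_2 lc_a_rc_21_0 lc_a_rc_21_0 lc_a_rc_4_2 lc_a_rc_4_2 lc_a_rc_0_1 lc_a_Cert_tree lc_a_rc_5_0 lc_a_rc_4_2 lc_a_rc_5_0 lc_a_Cert_tree lc_a_Cert_tree lc_a_rc_3_0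 lc_a_Cert_tree) (@D3.rec (fun _ => (Cert rels S Gen.a)) lc_a_rc_2_0 lc_a_rc_0_1 lc_a_rc_3_2 lc_a_rc_4_2 lc_a_rc_3_2 lc_a_rc_4_2 lc_a_rc_2_2 lc_a_rc_22_0 lc_a_rc_22_0 lc_a_rc_4_2 lc_a_rc_5_0 lc_a_rc_21_0 lc_a_rc_3_2 lc_a_rc_0_1 lc_a_rc_3_0 lc_a_rc_0_1 lc_a_rc_3_0 lc_a_rc_2_2 lc_a_rc_0_1 lc_a_rc_4_2 lc_a_rc_1_4 lc_a_rc_2_2 lc_a_rc_21_0 lc_a_rc_3_2 lc_a_rc_4_2 lc_a_rc_2_0 lc_a_rc_2_0 lc_a_rc_3_0 lc_a_rc_3_0 lc_a_Cert_tree lc_a_rc_3_2 lc_a_Cert_tree lc_a_rc_0_1 lc_a_rc_0_1 lc_a_Cert_tree lc_a_rc_3_2 lc_a_rc_4_2 lc_a_rc_0_1 lc_a_rc_3_2 lc_a_rc_2_2 lc_a_rc_2_2 lc_a_rc_3_2 lc_a_rc_3_0 lc_a_rc_4_2 lc_a_rc_3_0 lc_a_rc_2_2 lc_a_rc_2_0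 lc_a_rc_0_1 lc_a_rc_2_2 lc_a_rc_4_2 lc_a_rc_5_2 lc_a_rc_0_1 lc_a_rc_3_2 lc_a_rc_21_0 lc_a_rc_3_2 lc_a_Cert_tree lc_a_rc_3_2 lc_a_Cert_tree lc_a_rc_4_2 lc_a_rc_2_0 lc_a_rc_0_1 lc_a_rc_3_2) (@D3.rec (fun _ => (Cert rels S Gen.a)) lc_a_rc_4_2 lc_a_rc_0_1 lc_a_rc_4_2 lc_a_rc_2_2 lc_a_rc_21_0 lc_a_rc_3_2 lc_a_rc_5_2 lc_a_rc_4_2 lc_a_rc_4_2 lc_a_rc_5_0 lc_a_rc_21_0 lc_a_rc_1_2 lc_a_rc_2_2 lc_a_rc_4_2 lc_a_rc_3_2 lc_a_rc_5_2 lc_a_rc_3_2 lc_a_rc_4_2 lc_a_Cert_tree lc_a_rc_4_2 lc_a_rc_0_1 lc_a_rc_3_2 lc_a_rc_0_1 lc_a_rc_3_2 lc_a_rc_21_0 lc_a_rc_2_2 lc_a_rc_4_2 lc_a_rc_3_2 lc_a_rc_0_1 lc_a_Cert_tree lc_a_rc_0_1 lc_a_rc_3_2 lc_a_rc_0_1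 lc_a_rc_2_0 lc_a_rc_0_1 lc_a_rc_3_2 lc_a_rc_3_0 lc_a_rc_2_0 lc_a_rc_4_2 lc_a_rc_2_2 lc_a_rc_21_0 lc_a_rc_3_2 lc_a_rc_5_2 lc_a_rc_2_2 lc_a_rc_3_2 lc_a_rc_2_2 lc_a_rc_21_0 lc_a_rc_1_2 lc_a_rc_4_2 lc_a_rc_2_2 lc_a_rc_0_1 lc_a_rc_4_2 lc_a_rc_2_2 lc_a_rc_4_2 lc_a_rc_0_1 lc_a_rc_21_0 lc_a_rc_3_2 lc_a_rc_4_2 lc_a_rc_3_0 lc_a_rc_1_0 lc_a_rc_4_0 lc_a_rc_3_2) (@D3.rec (fun _ => (Cert rels S Gen.a)) lc_a_rc_0_1 lc_a_rc_2_2 lc_a_rc_1_4 lc_a_rc_3_2 lc_a_rc_4_2 lc_a_rc_2_2 lc_a_rc_3_2 lc_a_rc_21_0 lc_a_rc_1_2 lc_a_rc_3_2 lc_a_rc_4_2 lc_a_rc_2_2 lc_a_rc_4_2 lc_a_rc_0_1 lc_a_rc_0_1 lc_a_rc_5_0 lc_a_rc_2_0 lc_a_rc_4_2 lc_a_rc_3_0 lc_a_rc_0_1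 lc_a_rc_2_0 lc_a_Cert_tree lc_a_rc_3_2 lc_a_rc_4_2 lc_a_rc_2_2 lc_a_rc_4_2 lc_a_rc_2_2 lc_a_rc_3_2 lc_a_rc_3_2 lc_a_rc_4_0 lc_a_rc_2_2 lc_a_rc_21_0 lc_a_rc_3_2 lc_a_rc_0_1 lc_a_rc_4_0 lc_a_rc_2_2 lc_a_rc_4_2 lc_a_Cert_tree lc_a_rc_2_2 lc_a_rc_5_2 lc_a_rc_21_0 lc_a_rc_0_1 lc_a_rc_4_2 lc_a_rc_21_0 lc_a_rc_3_2 lc_a_rc_5_2 lc_a_rc_3_2 lc_a_rc_3_2 lc_a_rc_3_2 lc_a_rc_0_1 lc_a_rc_1_4 lc_a_Cert_tree lc_a_rc_4_2 lc_a_rc_5_2 lc_a_rc_3_2 lc_a_rc_0_1 lc_a_rc_21_0 lc_a_rc_0_1 lc_a_rc_3_2 lc_a_rc_4_2 lc_a_rc_4_2 lc_a_rc_2_2) (@D3.rec (fun _ => (Cert rels S Gen.a)) lc_a_rc_21_0 lc_a_rc_3_2 lc_a_rc_5_0 lc_a_rc_5_0 lc_a_rc_22_0 lc_a_rc_21_0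 lc_a_rc_0_1 lc_a_rc_0_1 lc_a_rc_4_0 lc_a_rc_4_2 lc_a_rc_2_2 lc_a_rc_2_2 lc_a_rc_21_0 lc_a_rc_2_2 lc_a_rc_4_2 lc_a_Cert_tree lc_a_rc_2_2 lc_a_rc_21_0 lc_a_rc_0_1 lc_a_rc_0_1 lc_a_rc_3_2 lc_a_rc_4_2 lc_a_rc_4_2 lc_a_rc_4_2 lc_a_rc_21_0 lc_a_rc_3_2 lc_a_rc_5_2 lc_a_rc_2_2 lc_a_rc_2_2 lc_a_rc_4_2 lc_a_rc_21_0 lc_a_Cert_tree lc_a_rc_3_2 lc_a_rc_2_2 lc_a_rc_0_1 lc_a_rc_21_0 lc_a_rc_2_2 lc_a_rc_21_0 lc_a_rc_0_1 lc_a_rc_3_2 lc_a_rc_4_2 lc_a_rc_4_2 lc_a_rc_2_0 lc_a_rc_3_2 lc_a_rc_2_2 lc_a_rc_2_2 lc_a_rc_21_0 lc_a_rc_0_1 lc_a_rc_0_1 lc_a_rc_3_2 lc_a_rc_4_2 lc_a_rc_4_2 lc_a_rc_3_2 lc_a_rc_22_0 lc_a_rc_2_2 lc_a_rc_21_0 lc_a_rc_0_1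 lc_a_rc_3_2 lc_a_rc_4_2 lc_a_rc_4_2 lc_a_rc_3_2 lc_a_rc_21_0) (@D3.rec (fun _ => (Cert rels S Gen.a)) lc_a_Cert_tree lc_a_rc_21_0 lc_a_rc_21_0 lc_a_rc_4_2 lc_a_Cert_tree lc_a_rc_2_2 lc_a_rc_4_2 lc_a_rc_3_2 lc_a_rc_4_2 lc_a_rc_21_0 lc_a_rc_3_2 lc_a_rc_2_2 lc_a_rc_1_4 lc_a_rc_2_0 lc_a_rc_1_4 lc_a_rc_3_0 lc_a_rc_3_2 lc_a_rc_1_0 lc_a_rc_3_0 lc_a_Cert_tree lc_a_rc_3_2 lc_a_Cert_tree lc_a_rc_3_2 lc_a_rc_4_2 lc_a_rc_2_2 lc_a_rc_2_2 lc_a_rc_21_0 lc_a_rc_0_1 lc_a_rc_0_1 lc_a_rc_3_2 lc_a_rc_5_0 lc_a_rc_4_2 lc_a_Cert_tree lc_a_rc_3_2 lc_a_rc_4_2 lc_a_rc_21_0 lc_a_Cert_tree lc_a_rc_0_1 lc_a_rc_2_2 lc_a_rc_0_1 lc_a_Cert_tree lc_a_rc_3_2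 lc_a_Cert_tree lc_a_rc_4_2 lc_a_rc_3_2 lc_a_rc_3_2 lc_a_rc_0_1 lc_a_rc_3_2 lc_a_rc_4_2 lc_a_rc_4_2 lc_a_rc_4_2 lc_a_rc_5_0 lc_a_rc_3_2 lc_a_rc_5_2 lc_a_rc_5_0 lc_a_rc_21_0 lc_a_rc_21_0 lc_a_rc_4_2 lc_a_rc_2_2 lc_a_rc_4_2 lc_a_rc_3_2 lc_a_rc_4_0) (@D3.rec (fun _ => (Cert rels S Gen.a)) lc_a_rc_21_0 lc_a_rc_3_2 lc_a_rc_4_2 lc_a_rc_2_2 lc_a_rc_2_2 lc_a_rc_3_2 lc_a_rc_4_0 lc_a_rc_4_2 lc_a_rc_2_2 lc_a_rc_5_0 lc_a_rc_3_2 lc_a_rc_5_2 lc_a_rc_21_0 lc_a_rc_3_2 lc_a_rc_21_0 lc_a_rc_4_0 lc_a_rc_5_2 lc_a_rc_2_2 lc_a_rc_21_0 lc_a_rc_3_2 lc_a_rc_21_0 lc_a_rc_3_2 lc_a_rc_21_0 lc_a_rc_21_0 lc_a_rc_1_4 lc_a_rc_2_2 lc_a_rc_4_2 lc_a_rc_4_2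 lc_a_rc_5_0 lc_a_rc_4_2 lc_a_rc_3_0 lc_a_rc_3_0 lc_a_rc_4_2 lc_a_rc_2_0 lc_a_rc_21_0 lc_a_rc_2_0 lc_a_rc_3_2 lc_a_rc_2_2 lc_a_rc_21_0 lc_a_rc_3_2 lc_a_rc_4_2 lc_a_rc_1_2 lc_a_rc_5_0 lc_a_rc_2_2 lc_a_rc_3_2 lc_a_rc_4_2 lc_a_rc_0_1 lc_a_rc_21_0 lc_a_rc_3_2 lc_a_rc_4_2 lc_a_rc_2_2 lc_a_rc_1_4 lc_a_rc_3_2 lc_a_rc_3_2 lc_a_rc_4_2 lc_a_rc_5_2 lc_a_rc_2_0 lc_a_rc_3_2 lc_a_rc_5_2 lc_a_rc_21_0 lc_a_rc_2_2 lc_a_rc_3_0) (@D3.rec (fun _ => (Cert rels S Gen.a)) lc_a_rc_2_2 lc_a_rc_2_2 lc_a_rc_4_2 lc_a_rc_2_2 lc_a_rc_2_0 lc_a_rc_2_2 lc_a_rc_4_0 lc_a_rc_3_2 lc_a_rc_0_1 lc_a_rc_3_2 lc_a_rc_3_2 lc_a_rc_2_2 lc_a_rc_21_0 lc_a_rc_0_1 lc_a_rc_1_2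 lc_a_rc_4_2 lc_a_rc_2_2 lc_a_rc_21_0 lc_a_Cert_tree lc_a_rc_3_2 lc_a_rc_4_2 lc_a_rc_2_2 lc_a_rc_4_2 lc_a_rc_3_2 lc_a_rc_3_2 lc_a_rc_5_2 lc_a_rc_3_2 lc_a_rc_0_1 lc_a_rc_2_2 lc_a_rc_3_2 lc_a_rc_4_2 lc_a_rc_21_0 lc_a_rc_21_0 lc_a_rc_4_2 lc_a_rc_21_0 lc_a_rc_4_2 lc_a_rc_0_1 lc_a_rc_3_2 lc_a_rc_21_0 lc_a_rc_2_2 lc_a_rc_3_2 lc_a_rc_2_2 lc_a_rc_4_2 lc_a_Cert_tree lc_a_rc_2_2 lc_a_rc_4_2 lc_a_rc_3_2 lc_a_rc_21_0 lc_a_rc_3_2 lc_a_rc_2_2 lc_a_rc_1_4 lc_a_rc_1_2 lc_a_rc_4_2 lc_a_rc_2_2 lc_a_rc_3_2 lc_a_rc_1_4 lc_a_rc_1_2 lc_a_rc_0_1 lc_a_rc_4_2 lc_a_rc_5_0 lc_a_rc_2_2 lc_a_rc_4_0) (@D3.rec (fun _ => (Cert rels S Gen.a)) lc_a_rc_2_2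 lc_a_rc_4_2 lc_a_rc_3_2 lc_a_Cert_tree lc_a_rc_4_2 lc_a_rc_5_0 lc_a_rc_5_2 lc_a_rc_21_0 lc_a_rc_3_2 lc_a_rc_0_1 lc_a_rc_3_2 lc_a_rc_4_2 lc_a_rc_4_2 lc_a_rc_5_0 lc_a_rc_3_2 lc_a_rc_5_2 lc_a_rc_2_2 lc_a_rc_4_2 lc_a_Cert_tree lc_a_rc_2_2 lc_a_rc_4_2 lc_a_Cert_tree lc_a_rc_5_0 lc_a_rc_1_2 lc_a_rc_4_2 lc_a_Cert_tree lc_a_rc_4_2 lc_a_rc_1_2 lc_a_rc_1_4 lc_a_rc_5_2 lc_a_rc_3_2 lc_a_rc_5_0 lc_a_rc_0_1 lc_a_rc_4_2 lc_a_rc_3_2 lc_a_rc_21_0 lc_a_rc_21_0 lc_a_rc_5_0 lc_a_rc_5_0 lc_a_rc_4_2 lc_a_rc_4_2 lc_a_rc_21_0 lc_a_rc_5_2 lc_a_rc_2_2 lc_a_rc_2_2 lc_a_rc_0_1 lc_a_rc_3_2 lc_a_rc_4_2 lc_a_rc_2_2 lc_a_rc_2_0 lc_a_rc_1_2 lc_a_rc_1_4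 lc_a_rc_0_1 lc_a_rc_3_2 lc_a_rc_4_2 lc_a_rc_21_0 lc_a_rc_2_2 lc_a_rc_5_2 lc_a_rc_2_2 lc_a_rc_1_2 lc_a_rc_2_2 lc_a_rc_2_2) (@D3.rec (fun _ => (Cert rels S Gen.a)) lc_a_rc_0_1 lc_a_rc_3_2 lc_a_rc_3_0 lc_a_rc_4_2 lc_a_rc_2_0 lc_a_rc_3_0 lc_a_rc_3_0 lc_a_rc_0_1 lc_a_rc_3_2 lc_a_rc_4_2 lc_a_rc_3_0 lc_a_Cert_tree lc_a_rc_22_0 lc_a_rc_21_0 lc_a_rc_4_2 lc_a_Cert_tree lc_a_rc_3_2 lc_a_rc_4_2 lc_a_rc_3_2 lc_a_rc_4_2 lc_a_rc_3_2 lc_a_rc_5_0 lc_a_rc_2_2 lc_a_rc_4_2 lc_a_rc_5_0 lc_a_rc_2_0 lc_a_rc_3_2 lc_a_rc_5_2 lc_a_Cert_tree lc_a_rc_3_2 lc_a_Cert_tree lc_a_rc_1_4 lc_a_rc_21_0 lc_a_rc_4_2 lc_a_rc_3_2 lc_a_rc_5_2 lc_a_rc_1_4 lc_a_rc_5_0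 lc_a_rc_5_2 lc_a_rc_4_2 lc_a_rc_0_1 lc_a_rc_3_2 lc_a_rc_3_2 lc_a_rc_3_2 lc_a_rc_2_2 lc_a_rc_5_2 lc_a_rc_2_2 lc_a_Cert_tree lc_a_rc_3_2 lc_a_rc_2_2 lc_a_Cert_tree lc_a_rc_3_2 lc_a_rc_2_2 lc_a_rc_4_2 lc_a_rc_3_2 lc_a_rc_21_0 lc_a_rc_21_0 lc_a_rc_2_2 lc_a_rc_4_2 lc_a_Cert_tree lc_a_rc_3_2 lc_a_rc_22_0) (@D3.rec (fun _ => (Cert rels S Gen.a)) lc_a_Cert_tree lc_a_rc_4_2 lc_a_rc_0_1 lc_a_rc_2_0 lc_a_rc_0_1 lc_a_rc_3_2 lc_a_rc_4_2 lc_a_rc_3_2 lc_a_rc_0_1 lc_a_rc_3_2 lc_a_rc_4_2 lc_a_rc_21_0 lc_a_rc_0_1 lc_a_Cert_tree lc_a_rc_3_2 lc_a_rc_4_2 lc_a_rc_2_2 lc_a_rc_4_2 lc_a_rc_3_2 lc_a_rc_22_0 lc_a_rc_0_1 lc_a_rc_1_2 lc_a_rc_21_0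 lc_a_rc_4_2 lc_a_rc_2_2 lc_a_rc_3_2 lc_a_rc_4_2 lc_a_rc_2_2 lc_a_rc_4_2 lc_a_rc_4_0 lc_a_rc_3_2 lc_a_rc_5_2 lc_a_rc_2_2 lc_a_rc_4_2 lc_a_rc_21_0 lc_a_rc_3_2 lc_a_rc_5_2 lc_a_Cert_tree lc_a_rc_2_2 lc_a_rc_4_2 lc_a_rc_3_2 lc_a_rc_2_2 lc_a_rc_4_2 lc_a_rc_1_0 lc_a_rc_3_2 lc_a_rc_4_2 lc_a_rc_4_0 lc_a_Cert_tree lc_a_rc_3_2 lc_a_rc_4_0 lc_a_rc_0_1 lc_a_rc_1_4 lc_a_rc_1_4 lc_a_rc_4_0 lc_a_rc_3_2 lc_a_rc_4_2 lc_a_rc_2_2 lc_a_rc_5_2 lc_a_rc_0_1 lc_a_rc_3_2 lc_a_rc_3_2 lc_a_rc_5_0) (@D3.rec (fun _ => (Cert rels S Gen.a)) lc_a_rc_21_0 lc_a_rc_4_2 lc_a_rc_3_2 lc_a_rc_1_2 lc_a_rc_2_2 lc_a_Cert_tree lc_a_rc_0_1 lc_a_rc_3_2 lc_a_rc_4_2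 lc_a_rc_3_2 lc_a_rc_21_0 lc_a_rc_21_0 lc_a_rc_2_2 lc_a_Cert_tree lc_a_rc_3_2 lc_a_rc_4_0 lc_a_rc_0_1 lc_a_rc_22_0 lc_a_rc_2_2 lc_a_rc_4_2 lc_a_rc_2_2 lc_a_rc_5_0 lc_a_rc_1_0 lc_a_rc_1_0 lc_a_rc_0_1 lc_a_rc_2_2 lc_a_rc_0_1 lc_a_rc_0_1 lc_a_rc_3_2 lc_a_rc_4_2 lc_a_rc_4_2 lc_a_rc_5_0 lc_a_rc_4_2 lc_a_rc_3_2 lc_a_rc_5_2 lc_a_rc_21_0 lc_a_rc_21_0 lc_a_rc_2_2 lc_a_rc_4_2 lc_a_rc_2_0 lc_a_rc_4_2 lc_a_rc_0_1 lc_a_rc_4_2 lc_a_rc_4_2 lc_a_Cert_tree lc_a_rc_21_0 lc_a_rc_4_2 lc_a_Cert_tree lc_a_rc_3_2 lc_a_rc_4_2 lc_a_rc_21_0 lc_a_rc_2_2 lc_a_rc_2_2 lc_a_rc_1_2 lc_a_rc_4_0 lc_a_rc_2_0 lc_a_rc_3_2 lc_a_rc_5_2 lc_a_Cert_tree lc_a_rc_4_2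 lc_a_Cert_tree lc_a_rc_4_2) (@D3.rec (fun _ => (Cert rels S Gen.a)) lc_a_rc_4_0 lc_a_rc_3_0 lc_a_rc_0_1 lc_a_rc_3_0 lc_a_rc_5_0 lc_a_rc_2_0 lc_a_rc_3_0 lc_a_Cert_tree lc_a_rc_3_2 lc_a_rc_21_0 lc_a_rc_4_0 lc_a_rc_3_2 lc_a_rc_2_2 lc_a_rc_3_2 lc_a_rc_3_0 lc_a_Cert_tree lc_a_rc_3_2 lc_a_rc_4_2 lc_a_rc_3_2 lc_a_rc_2_2 lc_a_rc_2_2 lc_a_rc_3_2 lc_a_rc_4_2 lc_a_Cert_tree lc_a_rc_22_0 lc_a_rc_21_0 lc_a_rc_2_2 lc_a_rc_21_0 lc_a_Cert_tree lc_a_rc_2_0 lc_a_rc_3_2 lc_a_rc_3_2 lc_a_rc_1_2 lc_a_rc_5_0 lc_a_rc_3_2 lc_a_rc_4_2 lc_a_rc_2_2 lc_a_rc_4_2 lc_a_rc_5_0 lc_a_rc_3_2 lc_a_rc_4_2 lc_a_rc_3_2 lc_a_rc_3_0 lc_a_rc_5_2 lc_a_rc_3_2 lc_a_rc_3_2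 lc_a_rc_2_2 lc_a_rc_0_1 lc_a_rc_5_0 lc_a_rc_0_1 lc_a_rc_4_0 lc_a_rc_3_2 lc_a_rc_4_2 lc_a_rc_3_0 lc_a_rc_3_2 lc_a_rc_0_1 lc_a_rc_3_2 lc_a_rc_21_0 lc_a_rc_21_0 lc_a_rc_2_2 lc_a_rc_4_2 lc_a_rc_4_2) (@D3.rec (fun _ => (Cert rels S Gen.a)) lc_a_rc_3_2 lc_a_rc_3_2 lc_a_rc_5_2 lc_a_Cert_tree lc_a_rc_2_2 lc_a_rc_4_2 lc_a_Cert_tree lc_a_rc_21_0 lc_a_rc_4_2 lc_a_rc_3_2 lc_a_rc_21_0 lc_a_rc_3_2 lc_a_rc_4_2 lc_a_rc_3_0 lc_a_rc_2_0 lc_a_rc_5_2 lc_a_rc_4_0 lc_a_Cert_tree lc_a_rc_3_2 lc_a_rc_3_0 lc_a_rc_4_2 lc_a_rc_0_1 lc_a_rc_2_2 lc_a_rc_21_0 lc_a_rc_0_1 lc_a_rc_4_0 lc_a_rc_3_2 lc_a_rc_5_2 lc_a_rc_3_0 lc_a_rc_3_2 lc_a_rc_4_2 lc_a_rc_2_2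 lc_a_rc_4_0 lc_a_rc_1_4 lc_a_rc_3_2 lc_a_rc_5_0 lc_a_rc_2_2 lc_a_rc_5_0 lc_a_rc_0_1 lc_a_rc_3_2 lc_a_rc_2_2 lc_a_Cert_tree lc_a_rc_2_0 lc_a_rc_3_0 lc_a_rc_0_1 lc_a_rc_4_2 lc_a_rc_2_0 lc_a_rc_2_0 lc_a_Cert_tree lc_a_rc_5_0 lc_a_rc_0_1 lc_a_rc_1_4 lc_a_rc_2_0 lc_a_rc_21_0 lc_a_rc_2_0 lc_a_rc_21_0 lc_a_rc_0_1 lc_a_rc_0_1 lc_a_rc_3_2 lc_a_rc_4_2 lc_a_rc_4_2 lc_a_rc_2_2) (@D3.rec (fun _ => (Cert rels S Gen.a)) lc_a_rc_21_0 lc_a_rc_3_2 lc_a_rc_5_2 lc_a_rc_21_0 lc_a_rc_2_2 lc_a_rc_21_0 lc_a_rc_0_1 lc_a_rc_0_1 lc_a_rc_3_2 lc_a_rc_3_2 lc_a_rc_0_1 lc_a_rc_4_2 lc_a_rc_3_2 lc_a_Cert_tree lc_a_rc_2_2 lc_a_rc_4_2 lc_a_rc_3_2 lc_a_rc_4_2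 lc_a_rc_21_0 lc_a_rc_3_2 lc_a_rc_2_2 lc_a_rc_4_2 lc_a_rc_2_0 lc_a_rc_2_0 lc_a_rc_3_2 lc_a_rc_2_2 lc_a_Cert_tree lc_a_Cert_tree lc_a_rc_4_2 lc_a_rc_3_2 lc_a_rc_21_0 lc_a_rc_3_2 lc_a_rc_5_2 lc_a_Cert_tree lc_a_rc_3_2 lc_a_rc_3_2 lc_a_rc_2_2 lc_a_Cert_tree lc_a_rc_3_2 lc_a_rc_3_2 lc_a_rc_4_2 lc_a_rc_21_0 lc_a_rc_3_2 lc_a_rc_2_2 lc_a_rc_5_2 lc_a_rc_22_0 lc_a_Cert_tree lc_a_rc_0_1 lc_a_rc_4_2 lc_a_Cert_tree lc_a_rc_3_2 lc_a_rc_21_0 lc_a_rc_21_0 lc_a_rc_1_0 lc_a_rc_0_1 lc_a_rc_21_0 lc_a_rc_0_1 lc_a_rc_3_0 lc_a_rc_3_2 lc_a_rc_4_2 lc_a_rc_3_2 lc_a_rc_4_2) (@D3.rec (fun _ => (Cert rels S Gen.a)) lc_a_rc_0_1 lc_a_rc_3_2 lc_a_rc_2_2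 lc_a_rc_4_2 lc_a_rc_21_0 lc_a_rc_3_2 lc_a_Cert_tree lc_a_rc_2_2 lc_a_rc_4_2 lc_a_rc_21_0 lc_a_rc_2_2 lc_a_rc_2_2 lc_a_rc_2_2 lc_a_rc_5_2 lc_a_rc_0_1 lc_a_rc_3_0 lc_a_Cert_tree lc_a_rc_2_2 lc_a_rc_0_1 lc_a_rc_3_2 lc_a_rc_3_2 lc_a_rc_2_2 lc_a_rc_0_1 lc_a_rc_3_2 lc_a_rc_3_0 lc_a_rc_0_1 lc_a_rc_2_2 lc_a_rc_0_1 lc_a_rc_0_1 lc_a_rc_4_2 lc_a_rc_5_2 lc_a_rc_3_2 lc_a_rc_0_1 lc_a_rc_1_4 lc_a_rc_3_2 lc_a_rc_5_2 lc_a_rc_2_2 lc_a_Cert_tree lc_a_rc_3_2 lc_a_rc_4_2 lc_a_rc_2_2 lc_a_rc_4_2 lc_a_rc_3_2 lc_a_rc_4_2 lc_a_rc_0_1 lc_a_rc_3_2 lc_a_rc_2_2 lc_a_rc_4_2 lc_a_rc_1_2 lc_a_rc_3_2 lc_a_rc_4_2 lc_a_rc_2_2 lc_a_rc_4_2 lc_a_rc_3_2 lc_a_rc_3_2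 lc_a_rc_5_2 lc_a_rc_21_0 lc_a_rc_3_2 lc_a_rc_4_2 lc_a_rc_1_2 lc_a_rc_3_2 lc_a_rc_21_0) (@D3.rec (fun _ => (Cert rels S Gen.a)) lc_a_rc_3_2 lc_a_rc_2_2 lc_a_rc_4_2 lc_a_rc_4_0 lc_a_rc_5_0 lc_a_rc_3_2 lc_a_rc_5_2 lc_a_rc_3_2 lc_a_rc_21_0 lc_a_rc_4_2 lc_a_rc_2_2 lc_a_rc_4_2 lc_a_rc_2_0 lc_a_rc_2_2 lc_a_rc_3_2 lc_a_rc_4_2 lc_a_rc_2_2 lc_a_rc_2_2 lc_a_rc_5_2 lc_a_rc_0_1 lc_a_rc_2_2 lc_a_rc_2_2 lc_a_rc_0_1 lc_a_rc_3_2 lc_a_rc_3_0 lc_a_rc_1_0 lc_a_rc_2_2 lc_a_rc_4_0 lc_a_rc_5_2 lc_a_rc_4_2 lc_a_rc_0_1 lc_a_rc_2_2 lc_a_rc_2_2 lc_a_rc_2_2 lc_a_rc_5_0 lc_a_rc_3_2 lc_a_rc_5_2 lc_a_Cert_tree lc_a_rc_3_2 lc_a_rc_1_2 lc_a_Cert_tree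 lc_a_rc_5_0 lc_a_rc_21_0 lc_a_rc_1_4 lc_a_rc_1_0 lc_a_rc_4_2 lc_a_rc_4_0 lc_a_rc_2_0 lc_a_rc_0_1 lc_a_Cert_tree lc_a_rc_3_2 lc_a_rc_2_2 lc_a_rc_4_2 lc_a_rc_0_1 lc_a_rc_0_1 lc_a_rc_5_0 lc_a_rc_5_0 lc_a_rc_4_2 lc_a_rc_21_0 lc_a_rc_21_0 lc_a_rc_4_2 lc_a_rc_5_2) (@D3.rec (fun _ => (Cert rels S Gen.a)) lc_a_rc_4_2 lc_a_rc_3_0 lc_a_rc_4_2 lc_a_rc_2_2 lc_a_rc_0_1 lc_a_rc_21_0 lc_a_Cert_tree lc_a_rc_5_0 lc_a_rc_2_0 lc_a_rc_2_0 lc_a_rc_3_2 lc_a_rc_22_0 lc_a_rc_1_4 lc_a_rc_2_2 lc_a_rc_4_2 lc_a_Cert_tree lc_a_rc_21_0 lc_a_rc_4_2 lc_a_rc_2_2 lc_a_rc_2_2 lc_a_rc_3_2 lc_a_rc_4_2 lc_a_rc_3_2 lc_a_rc_2_2 lc_a_rc_4_2 lc_a_Cert_tree lc_a_rc_2_2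 lc_a_rc_4_2 lc_a_rc_3_2 lc_a_rc_5_0 lc_a_rc_3_2 lc_a_rc_3_0 lc_a_rc_5_0 lc_a_rc_3_2 lc_a_rc_4_2 lc_a_rc_2_2 lc_a_rc_4_2 lc_a_rc_3_2 lc_a_rc_2_2 lc_a_rc_2_2 lc_a_rc_3_2 lc_a_rc_4_2 lc_a_rc_3_0 lc_a_rc_3_2 lc_a_rc_4_2 lc_a_rc_3_0 lc_a_rc_0_1 lc_a_rc_4_2 lc_a_rc_3_2 lc_a_rc_3_0 lc_a_rc_3_0 lc_a_rc_4_2 lc_a_rc_5_2 lc_a_rc_3_0 lc_a_rc_1_2 lc_a_rc_3_2 lc_a_rc_4_2 lc_a_rc_5_0 lc_a_rc_5_2 lc_a_rc_0_1 lc_a_rc_3_2 lc_a_rc_4_2)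
def ce_a_11 : D2 → D3 → (Cert rels S Gen.a) := @D2.rec (fun _ => D3 → (Cert rels S Gen.a)) (@D3.rec (fun _ => (Cert rels S Gen.a)) lc_a_rc_1_2 lc_a_rc_1_2 lc_a_rc_3_2 lc_a_rc_2_2 lc_a_rc_4_2 lc_a_rc_3_2 lc_a_rc_4_2 lc_a_rc_3_2 lc_a_rc_3_2 lc_a_rc_22_0 lc_a_rc_4_2 lc_a_rc_5_2 lc_a_rc_4_2 lc_a_rc_21_0 lc_a_rc_2_2 lc_a_rc_1_4 lc_a_rc_22_0 lc_a_rc_2_2 lc_a_rc_2_2 lc_a_rc_3_2 lc_a_rc_3_0 lc_a_rc_4_2 lc_a_rc_0_1 lc_a_rc_3_0 lc_a_rc_21_0 lc_a_rc_4_0 lc_a_rc_2_2 lc_a_rc_3_2 lc_a_rc_4_2 lc_a_rc_1_2 lc_a_rc_0_1 lc_a_rc_4_2 lc_a_rc_0_1 lc_a_rc_1_4 lc_a_rc_3_0 lc_a_rc_3_2 lc_a_rc_1_4 lc_a_rc_5_2 lc_a_rc_3_2 lc_a_rc_4_2 lc_a_rc_2_2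 lc_a_rc_3_0 lc_a_rc_3_0 lc_a_rc_1_0 lc_a_rc_3_0 lc_a_rc_4_0 lc_a_rc_4_0 lc_a_rc_2_2 lc_a_rc_4_0 lc_a_rc_3_2 lc_a_rc_21_0 lc_a_rc_2_0 lc_a_rc_0_1 lc_a_rc_3_2 lc_a_rc_4_2 lc_a_rc_5_0 lc_a_Cert_tree lc_a_rc_5_2 lc_a_rc_0_1 lc_a_rc_5_2 lc_a_rc_0_1 lc_a_rc_4_0) (@D3.rec (fun _ => (Cert rels S Gen.a)) lc_a_rc_21_0 lc_a_rc_2_2 lc_a_rc_5_0 lc_a_rc_3_2 lc_a_Cert_tree lc_a_rc_2_2 lc_a_rc_3_2 lc_a_rc_4_2 lc_a_rc_0_1 lc_a_rc_0_1 lc_a_rc_21_0 lc_a_rc_0_1 lc_a_rc_4_2 lc_a_rc_0_1 lc_a_rc_2_0 lc_a_rc_3_2 lc_a_rc_5_2 lc_a_rc_5_2 lc_a_rc_5_2 lc_a_rc_3_2 lc_a_rc_1_2 lc_a_rc_2_2 lc_a_rc_4_2 lc_a_rc_3_2 lc_a_rc_2_2 lc_a_rc_2_0 lc_a_rc_3_2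 lc_a_rc_3_2 lc_a_rc_3_2 lc_a_rc_2_0 lc_a_rc_4_2 lc_a_rc_2_2 lc_a_rc_4_0 lc_a_rc_21_0 lc_a_rc_2_2 lc_a_rc_2_2 lc_a_rc_2_2 lc_a_rc_1_4 lc_a_rc_2_2 lc_a_rc_2_2 lc_a_rc_4_0 lc_a_rc_1_4 lc_a_rc_22_0 lc_a_rc_2_0 lc_a_rc_21_0 lc_a_rc_3_0 lc_a_rc_1_0 lc_a_rc_3_0 lc_a_rc_0_1 lc_a_rc_2_2 lc_a_rc_3_2 lc_a_rc_3_2 lc_a_rc_2_2 lc_a_rc_3_0 lc_a_rc_4_0 lc_a_rc_2_2 lc_a_rc_3_0 lc_a_rc_0_1 lc_a_rc_2_2 lc_a_rc_4_2 lc_a_rc_3_2 lc_a_rc_2_2) (@D3.rec (fun _ => (Cert rels S Gen.a)) lc_a_rc_3_2 lc_a_rc_2_2 lc_a_rc_1_4 lc_a_rc_3_2 lc_a_rc_0_1 lc_a_rc_3_2 lc_a_rc_22_0 lc_a_rc_1_4 lc_a_rc_4_2 lc_a_rc_3_0 lc_a_rc_3_2 lc_a_rc_1_4 lc_a_Cert_tree lc_a_rc_3_2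 lc_a_rc_21_0 lc_a_rc_22_0 lc_a_rc_4_2 lc_a_rc_4_2 lc_a_rc_5_0 lc_a_rc_21_0 lc_a_rc_3_2 lc_a_rc_21_0 lc_a_Cert_tree lc_a_rc_5_2 lc_a_rc_3_2 lc_a_rc_2_2 lc_a_rc_21_0 lc_a_rc_4_2 lc_a_rc_21_0 lc_a_rc_3_2 lc_a_rc_21_0 lc_a_rc_5_0 lc_a_rc_3_2 lc_a_Cert_tree lc_a_rc_4_2 lc_a_rc_5_0 lc_a_rc_2_2 lc_a_rc_0_1 lc_a_rc_5_0 lc_a_rc_2_2 lc_a_rc_2_2 lc_a_rc_3_2 lc_a_rc_5_0 lc_a_rc_5_0 lc_a_rc_21_0 lc_a_rc_2_2 lc_a_rc_21_0 lc_a_rc_0_1 lc_a_rc_4_0 lc_a_rc_4_2 lc_a_rc_21_0 lc_a_rc_3_2 lc_a_rc_5_2 lc_a_rc_21_0 lc_a_rc_0_1 lc_a_rc_3_2 lc_a_rc_3_2 lc_a_rc_21_0 lc_a_rc_5_2 lc_a_rc_21_0 lc_a_rc_0_1 lc_a_rc_0_1) (@D3.rec (fun _ => (Cert rels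 S Gen.a)) lc_a_rc_3_2 lc_a_rc_4_2 lc_a_rc_4_2 lc_a_rc_2_2 lc_a_rc_4_2 lc_a_rc_3_2 lc_a_rc_5_2 lc_a_rc_2_2 lc_a_rc_3_2 lc_a_rc_4_2 lc_a_rc_21_0 lc_a_Cert_tree lc_a_rc_2_2 lc_a_rc_1_2 lc_a_rc_5_2 lc_a_rc_0_1 lc_a_rc_21_0 lc_a_rc_0_1 lc_a_rc_3_2 lc_a_rc_4_2 lc_a_rc_4_2 lc_a_rc_2_0 lc_a_rc_3_2 lc_a_rc_21_0 lc_a_rc_2_2 lc_a_rc_21_0 lc_a_rc_1_0 lc_a_rc_0_1 lc_a_rc_2_2 lc_a_rc_3_2 lc_a_rc_4_2 lc_a_rc_4_2 lc_a_rc_3_2 lc_a_rc_5_2 lc_a_rc_5_0 lc_a_rc_2_2 lc_a_rc_0_1 lc_a_rc_3_2 lc_a_rc_4_2 lc_a_rc_4_2 lc_a_rc_3_2 lc_a_rc_1_2 lc_a_rc_21_0 lc_a_rc_4_2 lc_a_rc_1_4 lc_a_rc_3_2 lc_a_rc_4_2 lc_a_rc_3_2 lc_a_rc_2_2 lc_a_rc_1_4 lc_a_rc_3_0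 lc_a_rc_2_0 lc_a_rc_1_4 lc_a_Cert_tree lc_a_rc_4_2 lc_a_Cert_tree lc_a_rc_4_2 lc_a_rc_5_2 lc_a_rc_4_2 lc_a_rc_3_2 lc_a_rc_3_2 lc_a_rc_4_2) (@D3.rec (fun _ => (Cert rels S Gen.a)) lc_a_rc_22_0 lc_a_rc_3_0 lc_a_rc_21_0 lc_a_Cert_tree lc_a_rc_3_2 lc_a_rc_4_2 lc_a_rc_0_1 lc_a_rc_5_0 lc_a_rc_21_0 lc_a_rc_3_2 lc_a_rc_2_2 lc_a_rc_4_2 lc_a_rc_0_1 lc_a_rc_3_0 lc_a_rc_2_2 lc_a_rc_4_2 lc_a_Cert_tree lc_a_rc_0_1 lc_a_rc_21_0 lc_a_rc_5_0 lc_a_rc_21_0 lc_a_rc_21_0 lc_a_rc_4_2 lc_a_rc_21_0 lc_a_rc_21_0 lc_a_rc_5_0 lc_a_rc_2_2 lc_a_rc_2_2 lc_a_rc_3_2 lc_a_rc_2_2 lc_a_rc_4_2 lc_a_Cert_tree lc_a_rc_2_2 lc_a_rc_4_2 lc_a_rc_0_1 lc_a_Cert_tree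 lc_a_rc_21_0 lc_a_rc_3_2 lc_a_rc_3_2 lc_a_rc_4_2 lc_a_rc_5_0 lc_a_rc_4_2 lc_a_rc_5_0 lc_a_rc_4_2 lc_a_rc_3_2 lc_a_rc_2_2 lc_a_rc_4_2 lc_a_rc_2_2 lc_a_rc_21_0 lc_a_rc_21_0 lc_a_rc_0_1 lc_a_rc_2_2 lc_a_rc_3_2 lc_a_rc_0_1 lc_a_rc_2_2 lc_a_rc_4_0 lc_a_rc_3_0 lc_a_rc_3_2 lc_a_rc_3_2 lc_a_rc_21_0 lc_a_rc_3_2 lc_a_rc_2_2) (@D3.rec (fun _ => (Cert rels S Gen.a)) lc_a_rc_1_2 lc_a_rc_3_2 lc_a_rc_4_2 lc_a_rc_1_2 lc_a_rc_5_2 lc_a_Cert_tree lc_a_rc_4_2 lc_a_rc_2_2 lc_a_rc_21_0 lc_a_rc_0_1 lc_a_rc_3_2 lc_a_rc_4_2 lc_a_rc_4_2 lc_a_rc_4_2 lc_a_rc_21_0 lc_a_rc_3_2 lc_a_rc_5_2 lc_a_rc_5_0 lc_a_rc_0_1 lc_a_rc_2_2 lc_a_rc_22_0 lc_a_rc_5_0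 lc_a_rc_3_2 lc_a_rc_3_2 lc_a_rc_4_2 lc_a_rc_4_2 lc_a_rc_4_0 lc_a_rc_0_1 lc_a_rc_3_2 lc_a_rc_5_2 lc_a_rc_5_2 lc_a_rc_3_2 lc_a_rc_2_2 lc_a_rc_3_2 lc_a_rc_0_1 lc_a_rc_1_2 lc_a_rc_1_4 lc_a_rc_1_4 lc_a_rc_5_2 lc_a_rc_2_2 lc_a_Cert_tree lc_a_rc_3_2 lc_a_rc_4_2 lc_a_rc_21_0 lc_a_rc_4_2 lc_a_rc_3_0 lc_a_rc_0_1 lc_a_rc_5_2 lc_a_rc_1_2 lc_a_rc_3_0 lc_a_rc_0_1 lc_a_rc_3_2 lc_a_rc_4_2 lc_a_rc_2_2 lc_a_rc_4_2 lc_a_rc_4_0 lc_a_rc_3_2 lc_a_rc_21_0 lc_a_rc_2_2 lc_a_rc_2_2 lc_a_rc_2_2 lc_a_rc_4_2) (@D3.rec (fun _ => (Cert rels S Gen.a)) lc_a_rc_0_1 lc_a_rc_3_2 lc_a_rc_4_2 lc_a_rc_5_0 lc_a_rc_4_2 lc_a_rc_4_2 lc_a_rc_4_2 lc_a_rc_21_0 lc_a_rc_3_2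 lc_a_rc_0_1 lc_a_rc_0_1 lc_a_rc_4_2 lc_a_rc_5_0 lc_a_rc_4_2 lc_a_rc_4_2 lc_a_rc_21_0 lc_a_rc_5_2 lc_a_rc_3_2 lc_a_rc_1_2 lc_a_rc_4_2 lc_a_rc_21_0 lc_a_rc_21_0 lc_a_rc_4_2 lc_a_rc_21_0 lc_a_rc_5_2 lc_a_rc_5_2 lc_a_rc_2_2 lc_a_rc_2_2 lc_a_rc_3_2 lc_a_rc_4_2 lc_a_rc_21_0 lc_a_rc_0_1 lc_a_rc_4_0 lc_a_rc_1_2 lc_a_rc_3_2 lc_a_rc_4_2 lc_a_rc_3_2 lc_a_rc_2_2 lc_a_rc_4_2 lc_a_rc_22_0 lc_a_rc_4_2 lc_a_rc_5_2 lc_a_rc_0_1 lc_a_rc_3_2 lc_a_rc_0_1 lc_a_rc_4_2 lc_a_rc_21_0 lc_a_rc_4_2 lc_a_rc_21_0 lc_a_rc_1_4 lc_a_rc_3_0 lc_a_rc_2_2 lc_a_rc_3_0 lc_a_rc_2_2 lc_a_rc_3_0 lc_a_rc_1_4 lc_a_rc_2_2 lc_a_rc_4_2 lc_a_rc_0_1 lc_a_rc_3_2 lc_a_rc_5_2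 lc_a_rc_0_1) (@D3.rec (fun _ => (Cert rels S Gen.a)) lc_a_rc_4_2 lc_a_rc_22_0 lc_a_rc_1_2 lc_a_rc_3_2 lc_a_rc_4_2 lc_a_rc_21_0 lc_a_rc_4_2 lc_a_rc_1_0 lc_a_rc_3_2 lc_a_rc_2_2 lc_a_rc_2_0 lc_a_rc_4_0 lc_a_rc_22_0 lc_a_rc_2_2 lc_a_rc_4_0 lc_a_rc_4_2 lc_a_rc_4_2 lc_a_rc_3_2 lc_a_rc_4_2 lc_a_rc_3_0 lc_a_Cert_tree lc_a_rc_3_2 lc_a_rc_2_2 lc_a_rc_5_2 lc_a_rc_2_0 lc_a_rc_3_2 lc_a_rc_2_2 lc_a_rc_4_2 lc_a_rc_21_0 lc_a_rc_21_0 lc_a_rc_5_0 lc_a_rc_0_1 lc_a_rc_4_2 lc_a_rc_4_0 lc_a_Cert_tree lc_a_rc_3_2 lc_a_rc_4_2 lc_a_rc_0_1 lc_a_rc_4_2 lc_a_rc_5_2 lc_a_rc_4_2 lc_a_Cert_tree lc_a_rc_3_2 lc_a_rc_4_2 lc_a_rc_1_4 lc_a_rc_21_0 lc_a_rc_2_2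 lc_a_rc_2_2 lc_a_rc_21_0 lc_a_rc_2_0 lc_a_rc_3_2 lc_a_rc_3_0 lc_a_rc_4_2 lc_a_rc_3_2 lc_a_Cert_tree lc_a_rc_21_0 lc_a_rc_21_0 lc_a_rc_5_0 lc_a_rc_4_2 lc_a_rc_1_4 lc_a_rc_3_2 lc_a_rc_5_2) (@D3.rec (fun _ => (Cert rels S Gen.a)) lc_a_rc_0_1 lc_a_rc_4_0 lc_a_rc_4_0 lc_a_rc_3_2 lc_a_rc_2_2 lc_a_rc_1_2 lc_a_rc_0_1 lc_a_rc_21_0 lc_a_rc_21_0 lc_a_rc_2_2 lc_a_rc_2_0 lc_a_rc_2_0 lc_a_rc_2_2 lc_a_rc_5_2 lc_a_rc_2_2 lc_a_rc_4_2 lc_a_rc_3_2 lc_a_rc_0_1 lc_a_rc_3_2 lc_a_rc_21_0 lc_a_rc_2_2 lc_a_rc_4_2 lc_a_rc_21_0 lc_a_rc_2_2 lc_a_rc_0_1 lc_a_rc_3_2 lc_a_rc_2_2 lc_a_rc_2_2 lc_a_rc_2_0 lc_a_rc_22_0 lc_a_rc_5_0 lc_a_rc_4_2 lc_a_rc_5_0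 lc_a_rc_4_0 lc_a_rc_0_1 lc_a_rc_5_2 lc_a_rc_4_2 lc_a_rc_4_2 lc_a_rc_3_2 lc_a_rc_3_2 lc_a_rc_3_2 lc_a_rc_0_1 lc_a_rc_4_2 lc_a_rc_2_2 lc_a_rc_2_0 lc_a_rc_22_0 lc_a_rc_22_0 lc_a_rc_21_0 lc_a_rc_3_2 lc_a_rc_5_2 lc_a_rc_0_1 lc_a_rc_4_2 lc_a_rc_21_0 lc_a_rc_0_1 lc_a_rc_22_0 lc_a_rc_5_2 lc_a_rc_2_2 lc_a_rc_1_2 lc_a_rc_3_0 lc_a_rc_0_1 lc_a_rc_0_1 lc_a_rc_4_2) (@D3.rec (fun _ => (Cert rels S Gen.a)) lc_a_rc_3_2 lc_a_rc_2_0 lc_a_rc_21_0 lc_a_rc_1_4 lc_a_rc_0_1 lc_a_rc_4_2 lc_a_rc_22_0 lc_a_rc_5_2 lc_a_rc_21_0 lc_a_rc_21_0 lc_a_rc_4_2 lc_a_Cert_tree lc_a_rc_4_2 lc_a_rc_4_2 lc_a_rc_2_0 lc_a_rc_2_2 lc_a_rc_3_2 lc_a_Cert_tree lc_a_rc_21_0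 lc_a_rc_2_2 lc_a_Cert_tree lc_a_rc_3_2 lc_a_rc_4_0 lc_a_rc_3_2 lc_a_rc_22_0 lc_a_rc_22_0 lc_a_rc_2_2 lc_a_rc_4_2 lc_a_Cert_tree lc_a_rc_3_2 lc_a_rc_4_2 lc_a_Cert_tree lc_a_rc_3_2 lc_a_rc_0_1 lc_a_rc_0_1 lc_a_rc_21_0 lc_a_rc_21_0 lc_a_rc_21_0 lc_a_rc_2_2 lc_a_rc_2_2 lc_a_rc_2_2 lc_a_rc_3_2 lc_a_rc_5_2 lc_a_rc_3_2 lc_a_rc_22_0 lc_a_rc_0_1 lc_a_rc_3_2 lc_a_rc_4_2 lc_a_rc_1_4 lc_a_rc_4_2 lc_a_rc_3_0 lc_a_rc_1_4 lc_a_rc_1_2 lc_a_rc_3_2 lc_a_rc_4_2 lc_a_rc_2_2 lc_a_rc_4_2 lc_a_rc_4_0 lc_a_rc_3_2 lc_a_rc_5_2 lc_a_rc_3_0 lc_a_rc_0_1) (@D3.rec (fun _ => (Cert rels S Gen.a)) lc_a_rc_2_2 lc_a_rc_3_2 lc_a_rc_4_2 lc_a_rc_22_0 lc_a_rc_4_2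 lc_a_rc_22_0 lc_a_rc_4_2 lc_a_rc_4_0 lc_a_rc_2_0 lc_a_rc_5_2 lc_a_rc_3_2 lc_a_rc_4_2 lc_a_rc_3_2 lc_a_rc_5_2 lc_a_rc_0_1 lc_a_rc_2_2 lc_a_rc_4_0 lc_a_rc_3_2 lc_a_rc_0_1 lc_a_rc_2_2 lc_a_rc_3_2 lc_a_rc_2_2 lc_a_rc_4_0 lc_a_rc_22_0 lc_a_rc_0_1 lc_a_Cert_tree lc_a_rc_4_0 lc_a_rc_2_2 lc_a_rc_2_2 lc_a_rc_4_2 lc_a_rc_5_0 lc_a_Cert_tree lc_a_rc_3_2 lc_a_rc_4_2 lc_a_rc_4_2 lc_a_rc_21_0 lc_a_rc_0_1 lc_a_rc_3_2 lc_a_rc_5_2 lc_a_rc_3_2 lc_a_rc_3_0 lc_a_rc_3_2 lc_a_rc_3_2 lc_a_rc_2_2 lc_a_rc_3_2 lc_a_rc_2_2 lc_a_rc_2_2 lc_a_rc_1_0 lc_a_rc_3_2 lc_a_rc_21_0 lc_a_rc_2_2 lc_a_Cert_tree lc_a_rc_4_2 lc_a_rc_0_1 lc_a_rc_22_0 lc_a_rc_4_2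 lc_a_rc_21_0 lc_a_rc_3_2 lc_a_Cert_tree lc_a_rc_4_2 lc_a_rc_4_2 lc_a_Cert_tree) (@D3.rec (fun _ => (Cert rels S Gen.a)) lc_a_rc_4_2 lc_a_Cert_tree lc_a_rc_4_2 lc_a_Cert_tree lc_a_rc_4_2 lc_a_rc_4_2 lc_a_rc_0_1 lc_a_rc_4_2 lc_a_rc_3_2 lc_a_rc_1_0 lc_a_rc_5_0 lc_a_rc_2_2 lc_a_rc_21_0 lc_a_Cert_tree lc_a_rc_2_2 lc_a_rc_4_2 lc_a_rc_5_2 lc_a_rc_4_2 lc_a_rc_3_2 lc_a_rc_4_2 lc_a_rc_1_4 lc_a_rc_3_2 lc_a_rc_4_0 lc_a_rc_5_0 lc_a_rc_5_2 lc_a_rc_0_1 lc_a_rc_4_2 lc_a_rc_2_2 lc_a_Cert_tree lc_a_rc_3_2 lc_a_rc_4_2 lc_a_rc_3_0 lc_a_rc_5_2 lc_a_rc_21_0 lc_a_rc_1_2 lc_a_Cert_tree lc_a_rc_2_2 lc_a_rc_2_2 lc_a_rc_4_0 lc_a_rc_5_2 lc_a_rc_2_0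 lc_a_rc_3_2 lc_a_rc_2_0 lc_a_rc_4_0 lc_a_rc_3_2 lc_a_rc_2_2 lc_a_rc_2_2 lc_a_rc_3_0 lc_a_rc_3_2 lc_a_rc_4_0 lc_a_rc_3_2 lc_a_rc_5_0 lc_a_rc_5_0 lc_a_rc_21_0 lc_a_rc_0_1 lc_a_rc_21_0 lc_a_rc_2_2 lc_a_rc_3_0 lc_a_rc_0_1 lc_a_rc_5_2 lc_a_rc_4_2 lc_a_rc_2_2) (@D3.rec (fun _ => (Cert rels S Gen.a)) lc_a_rc_4_2 lc_a_rc_3_0 lc_a_rc_4_0 lc_a_rc_21_0 lc_a_rc_21_0 lc_a_rc_2_2 lc_a_rc_0_1 lc_a_rc_0_1 lc_a_rc_5_0 lc_a_rc_3_2 lc_a_rc_5_2 lc_a_rc_21_0 lc_a_rc_0_1 lc_a_rc_21_0 lc_a_rc_4_2 lc_a_Cert_tree lc_a_rc_0_1 lc_a_rc_3_0 lc_a_rc_3_0 lc_a_Cert_tree lc_a_rc_5_2 lc_a_rc_4_2 lc_a_Cert_tree lc_a_rc_22_0 lc_a_rc_4_0 lc_a_rc_0_1 lc_a_Cert_tree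 lc_a_rc_4_2 lc_a_rc_22_0 lc_a_rc_3_2 lc_a_rc_0_1 lc_a_Cert_tree lc_a_rc_5_0 lc_a_rc_2_2 lc_a_rc_4_2 lc_a_rc_4_2 lc_a_rc_3_0 lc_a_rc_0_1 lc_a_rc_4_2 lc_a_rc_3_2 lc_a_rc_0_1 lc_a_rc_21_0 lc_a_rc_5_2 lc_a_rc_2_0 lc_a_rc_0_1 lc_a_rc_22_0 lc_a_rc_4_2 lc_a_rc_4_2 lc_a_rc_5_2 lc_a_rc_3_2 lc_a_Cert_tree lc_a_rc_1_0 lc_a_rc_4_2 lc_a_rc_3_2 lc_a_rc_5_0 lc_a_rc_1_4 lc_a_rc_1_2 lc_a_rc_21_0 lc_a_rc_3_2 lc_a_rc_2_2 lc_a_rc_22_0 lc_a_rc_4_2) (@D3.rec (fun _ => (Cert rels S Gen.a)) lc_a_rc_4_2 lc_a_rc_3_2 lc_a_rc_5_2 lc_a_rc_2_2 lc_a_rc_3_2 lc_a_rc_4_2 lc_a_rc_4_2 lc_a_rc_2_2 lc_a_rc_4_2 lc_a_rc_1_4 lc_a_rc_3_2 lc_a_rc_4_2 lc_a_rc_3_2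 lc_a_rc_2_2 lc_a_rc_4_2 lc_a_rc_1_4 lc_a_rc_3_2 lc_a_rc_4_2 lc_a_rc_4_2 lc_a_rc_3_2 lc_a_rc_5_2 lc_a_rc_3_2 lc_a_rc_0_1 lc_a_rc_5_2 lc_a_rc_5_0 lc_a_rc_0_1 lc_a_rc_3_2 lc_a_rc_2_2 lc_a_rc_3_0 lc_a_rc_1_4 lc_a_rc_2_2 lc_a_rc_4_2 lc_a_rc_2_2 lc_a_rc_4_2 lc_a_rc_2_2 lc_a_Cert_tree lc_a_rc_3_2 lc_a_rc_5_0 lc_a_rc_4_0 lc_a_rc_4_2 lc_a_rc_3_2 lc_a_rc_3_2 lc_a_rc_2_2 lc_a_rc_2_2 lc_a_rc_5_0 lc_a_rc_3_2 lc_a_rc_2_2 lc_a_rc_1_2 lc_a_rc_3_0 lc_a_rc_0_1 lc_a_rc_4_2 lc_a_rc_1_2 lc_a_rc_22_0 lc_a_rc_0_1 lc_a_rc_0_1 lc_a_rc_0_1 lc_a_rc_4_2 lc_a_Cert_tree lc_a_rc_3_2 lc_a_rc_4_2 lc_a_Cert_tree lc_a_rc_3_2) (@D3.rec (fun _ => (Cert rels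 S Gen.a)) lc_a_rc_4_2 lc_a_rc_3_2 lc_a_rc_3_2 lc_a_rc_2_2 lc_a_rc_4_2 lc_a_rc_4_0 lc_a_Cert_tree lc_a_rc_3_2 lc_a_rc_5_2 lc_a_rc_4_2 lc_a_rc_1_2 lc_a_rc_0_1 lc_a_rc_4_0 lc_a_rc_4_2 lc_a_rc_4_2 lc_a_rc_4_2 lc_a_rc_5_2 lc_a_rc_5_0 lc_a_rc_2_2 lc_a_rc_4_2 lc_a_Cert_tree lc_a_rc_3_2 lc_a_rc_4_2 lc_a_rc_2_2 lc_a_rc_0_1 lc_a_rc_5_2 lc_a_rc_0_1 lc_a_rc_3_2 lc_a_rc_4_2 lc_a_rc_2_2 lc_a_rc_4_2 lc_a_rc_3_2 lc_a_rc_4_2 lc_a_rc_4_2 lc_a_rc_3_0 lc_a_rc_5_2 lc_a_rc_21_0 lc_a_rc_2_2 lc_a_rc_21_0 lc_a_rc_0_1 lc_a_rc_4_2 lc_a_rc_0_1 lc_a_rc_0_1 lc_a_rc_2_2 lc_a_rc_3_2 lc_a_rc_4_2 lc_a_rc_3_2 lc_a_rc_3_2 lc_a_rc_3_2 lc_a_rc_1_2 lc_a_rc_4_2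 lc_a_rc_0_1 lc_a_Cert_tree lc_a_Cert_tree lc_a_rc_5_2 lc_a_rc_4_2 lc_a_rc_4_0 lc_a_rc_0_1 lc_a_Cert_tree lc_a_rc_1_2 lc_a_rc_0_1 lc_a_rc_5_2) (@D3.rec (fun _ => (Cert rels S Gen.a)) lc_a_rc_21_0 lc_a_rc_5_0 lc_a_rc_4_2 lc_a_rc_4_2 lc_a_rc_5_0 lc_a_rc_21_0 lc_a_rc_21_0 lc_a_rc_2_2 lc_a_rc_2_0 lc_a_Cert_tree lc_a_rc_3_2 lc_a_rc_4_2 lc_a_rc_4_2 lc_a_rc_2_2 lc_a_rc_4_2 lc_a_rc_3_0 lc_a_rc_3_2 lc_a_rc_4_2 lc_a_rc_3_0 lc_a_rc_2_2 lc_a_rc_1_4 lc_a_rc_3_2 lc_a_rc_4_2 lc_a_rc_5_0 lc_a_rc_4_2 lc_a_rc_3_2 lc_a_rc_5_2 lc_a_rc_2_2 lc_a_rc_2_2 lc_a_rc_3_2 lc_a_rc_2_2 lc_a_rc_4_2 lc_a_rc_3_2 lc_a_rc_4_2 lc_a_rc_3_2 lc_a_rc_2_2 lc_a_rc_4_2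 lc_a_rc_2_2 lc_a_rc_3_0 lc_a_rc_21_0 lc_a_rc_2_2 lc_a_Cert_tree lc_a_rc_3_2 lc_a_rc_2_2 lc_a_rc_5_0 lc_a_rc_3_0 lc_a_rc_5_2 lc_a_rc_2_2 lc_a_rc_2_2 lc_a_rc_2_2 lc_a_Cert_tree lc_a_rc_3_2 lc_a_rc_4_2 lc_a_rc_4_0 lc_a_rc_5_2 lc_a_Cert_tree lc_a_rc_3_2 lc_a_rc_4_2 lc_a_rc_5_2 lc_a_rc_5_0 lc_a_rc_2_2 lc_a_rc_4_2) (@D3.rec (fun _ => (Cert rels S Gen.a)) lc_a_Cert_tree lc_a_rc_3_2 lc_a_rc_2_2 lc_a_rc_0_1 lc_a_rc_21_0 lc_a_rc_2_2 lc_a_rc_4_2 lc_a_rc_0_1 lc_a_rc_0_1 lc_a_rc_21_0 lc_a_rc_5_2 lc_a_rc_0_1 lc_a_rc_4_2 lc_a_rc_1_2 lc_a_rc_4_2 lc_a_rc_5_2 lc_a_rc_2_2 lc_a_rc_5_2 lc_a_rc_0_1 lc_a_rc_0_1 lc_a_rc_2_2 lc_a_Cert_tree lc_a_rc_0_1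 lc_a_rc_0_1 lc_a_rc_2_2 lc_a_rc_2_2 lc_a_rc_0_1 lc_a_rc_3_0 lc_a_Cert_tree lc_a_rc_5_2 lc_a_rc_0_1 lc_a_rc_4_2 lc_a_rc_1_4 lc_a_rc_4_2 lc_a_rc_4_2 lc_a_rc_4_0 lc_a_rc_4_2 lc_a_rc_5_2 lc_a_rc_2_2 lc_a_rc_1_2 lc_a_rc_2_0 lc_a_rc_1_2 lc_a_rc_3_2 lc_a_rc_4_2 lc_a_rc_21_0 lc_a_rc_4_2 lc_a_rc_3_2 lc_a_rc_4_2 lc_a_rc_2_2 lc_a_rc_4_2 lc_a_rc_1_4 lc_a_rc_0_1 lc_a_rc_0_1 lc_a_rc_3_2 lc_a_rc_4_2 lc_a_rc_4_0 lc_a_rc_3_2 lc_a_rc_4_2 lc_a_rc_0_1 lc_a_rc_21_0 lc_a_rc_4_2 lc_a_Cert_tree) (@D3.rec (fun _ => (Cert rels S Gen.a)) lc_a_rc_3_2 lc_a_rc_4_2 lc_a_Cert_tree lc_a_rc_3_2 lc_a_rc_4_2 lc_a_rc_4_2 lc_a_rc_21_0 lc_a_rc_3_2 lc_a_rc_3_0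 lc_a_rc_0_1 lc_a_rc_5_0 lc_a_rc_3_2 lc_a_rc_2_2 lc_a_rc_4_2 lc_a_rc_2_2 lc_a_rc_3_2 lc_a_rc_3_2 lc_a_rc_4_2 lc_a_rc_4_2 lc_a_rc_3_2 lc_a_Cert_tree lc_a_rc_3_2 lc_a_rc_4_2 lc_a_rc_0_1 lc_a_rc_0_1 lc_a_rc_3_2 lc_a_rc_5_2 lc_a_rc_2_0 lc_a_rc_2_2 lc_a_rc_4_2 lc_a_rc_0_1 lc_a_rc_1_4 lc_a_rc_4_2 lc_a_rc_5_2 lc_a_rc_0_1 lc_a_rc_4_0 lc_a_rc_0_1 lc_a_rc_1_4 lc_a_rc_4_2 lc_a_rc_4_2 lc_a_rc_0_1 lc_a_rc_21_0 lc_a_rc_21_0 lc_a_rc_2_2 lc_a_rc_4_2 lc_a_rc_3_2 lc_a_rc_3_2 lc_a_rc_2_2 lc_a_rc_4_2 lc_a_rc_21_0 lc_a_rc_3_0 lc_a_rc_4_2 lc_a_rc_3_0 lc_a_rc_1_2 lc_a_rc_2_2 lc_a_rc_21_0 lc_a_rc_1_4 lc_a_rc_3_2 lc_a_rc_4_2 lc_a_rc_5_0 lc_a_rc_3_2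 lc_a_rc_5_2) (@D3.rec (fun _ => (Cert rels S Gen.a)) lc_a_rc_4_2 lc_a_rc_4_0 lc_a_rc_5_0 lc_a_rc_4_2 lc_a_rc_4_0 lc_a_rc_3_2 lc_a_rc_2_2 lc_a_rc_21_0 lc_a_rc_2_2 lc_a_rc_0_1 lc_a_rc_3_2 lc_a_rc_4_2 lc_a_rc_2_2 lc_a_rc_2_0 lc_a_rc_4_2 lc_a_rc_4_2 lc_a_rc_5_0 lc_a_rc_3_2 lc_a_rc_5_2 lc_a_rc_21_0 lc_a_rc_22_0 lc_a_rc_21_0 lc_a_rc_4_2 lc_a_rc_1_4 lc_a_rc_2_2 lc_a_rc_4_2 lc_a_rc_4_2 lc_a_rc_1_2 lc_a_rc_4_2 lc_a_rc_4_2 lc_a_rc_21_0 lc_a_rc_4_2 lc_a_rc_2_0 lc_a_rc_4_2 lc_a_rc_4_2 lc_a_rc_3_2 lc_a_rc_3_2 lc_a_rc_21_0 lc_a_rc_0_1 lc_a_rc_3_2 lc_a_rc_5_2 lc_a_rc_4_2 lc_a_rc_3_2 lc_a_rc_3_2 lc_a_rc_2_2 lc_a_rc_5_2 lc_a_rc_4_2 lc_a_rc_4_2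 lc_a_rc_2_2 lc_a_rc_5_2 lc_a_rc_3_0 lc_a_rc_0_1 lc_a_rc_0_1 lc_a_rc_1_4 lc_a_rc_4_2 lc_a_rc_2_2 lc_a_rc_2_2 lc_a_rc_22_0 lc_a_rc_0_1 lc_a_rc_0_1 lc_a_rc_3_0 lc_a_rc_5_2) (@D3.rec (fun _ => (Cert rels S Gen.a)) lc_a_rc_0_1 lc_a_rc_0_1 lc_a_rc_2_2 lc_a_rc_1_4 lc_a_rc_5_2 lc_a_rc_4_2 lc_a_rc_0_1 lc_a_rc_5_2 lc_a_rc_4_2 lc_a_rc_3_0 lc_a_rc_0_1 lc_a_rc_4_0 lc_a_rc_1_4 lc_a_rc_3_2 lc_a_rc_4_2 lc_a_rc_3_2 lc_a_rc_5_2 lc_a_rc_1_4 lc_a_rc_2_2 lc_a_rc_3_2 lc_a_rc_4_2 lc_a_rc_22_0 lc_a_rc_3_2 lc_a_rc_4_2 lc_a_rc_5_0 lc_a_rc_3_0 lc_a_rc_4_2 lc_a_rc_4_2 lc_a_rc_3_2 lc_a_rc_2_0 lc_a_rc_5_2 lc_a_rc_1_2 lc_a_rc_0_1 lc_a_rc_4_2 lc_a_rc_3_2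 lc_a_rc_4_2 lc_a_rc_0_1 lc_a_rc_3_2 lc_a_rc_5_2 lc_a_Cert_tree lc_a_rc_4_2 lc_a_rc_3_2 lc_a_rc_2_2 lc_a_Cert_tree lc_a_rc_1_4 lc_a_rc_5_0 lc_a_rc_4_2 lc_a_rc_3_2 lc_a_rc_5_0 lc_a_rc_2_2 lc_a_rc_5_2 lc_a_rc_5_2 lc_a_rc_4_2 lc_a_rc_1_2 lc_a_rc_21_0 lc_a_rc_0_1 lc_a_rc_0_1 lc_a_rc_4_0 lc_a_rc_3_2 lc_a_rc_3_2 lc_a_rc_0_1 lc_a_rc_21_0) (@D3.rec (fun _ => (Cert rels S Gen.a)) lc_a_rc_3_2 lc_a_rc_21_0 lc_a_rc_1_4 lc_a_rc_21_0 lc_a_rc_0_1 lc_a_rc_0_1 lc_a_rc_3_2 lc_a_rc_5_2 lc_a_rc_0_1 lc_a_rc_0_1 lc_a_rc_2_2 lc_a_rc_3_2 lc_a_rc_4_2 lc_a_Cert_tree lc_a_rc_3_2 lc_a_rc_4_2 lc_a_rc_2_2 lc_a_rc_3_2 lc_a_rc_4_0 lc_a_rc_5_2 lc_a_rc_0_1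 lc_a_rc_4_2 lc_a_rc_3_2 lc_a_rc_3_2 lc_a_rc_1_2 lc_a_rc_0_1 lc_a_rc_21_0 lc_a_rc_0_1 lc_a_rc_5_0 lc_a_rc_0_1 lc_a_rc_4_2 lc_a_rc_3_2 lc_a_rc_2_2 lc_a_rc_4_2 lc_a_rc_22_0 lc_a_rc_0_1 lc_a_rc_2_2 lc_a_rc_4_2 lc_a_rc_2_2 lc_a_rc_2_2 lc_a_Cert_tree lc_a_rc_22_0 lc_a_rc_1_4 lc_a_rc_3_2 lc_a_rc_4_2 lc_a_rc_1_2 lc_a_rc_4_2 lc_a_rc_5_2 lc_a_rc_4_2 lc_a_rc_5_2 lc_a_rc_4_2 lc_a_rc_3_0 lc_a_rc_3_2 lc_a_rc_2_2 lc_a_rc_4_2 lc_a_rc_0_1 lc_a_rc_5_2 lc_a_rc_3_2 lc_a_rc_2_2 lc_a_rc_0_1 lc_a_rc_1_2 lc_a_rc_3_2) (@D3.rec (fun _ => (Cert rels S Gen.a)) lc_a_rc_21_0 lc_a_rc_4_2 lc_a_rc_2_2 lc_a_rc_3_2 lc_a_rc_3_2 lc_a_rc_21_0 lc_a_rc_2_2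 lc_a_rc_3_2 lc_a_rc_21_0 lc_a_rc_3_2 lc_a_rc_5_2 lc_a_rc_1_4 lc_a_rc_3_2 lc_a_rc_4_2 lc_a_rc_21_0 lc_a_rc_0_1 lc_a_rc_5_2 lc_a_rc_4_2 lc_a_rc_2_2 lc_a_rc_4_2 lc_a_rc_3_2 lc_a_rc_2_2 lc_a_rc_2_2 lc_a_rc_4_2 lc_a_rc_3_0 lc_a_rc_21_0 lc_a_rc_5_0 lc_a_rc_2_2 lc_a_rc_1_4 lc_a_rc_4_2 lc_a_rc_2_2 lc_a_rc_0_1 lc_a_rc_2_2 lc_a_rc_2_0 lc_a_rc_21_0 lc_a_rc_3_2 lc_a_rc_21_0 lc_a_rc_2_2 lc_a_rc_21_0 lc_a_rc_4_0 lc_a_rc_5_2 lc_a_rc_2_2 lc_a_rc_5_0 lc_a_rc_3_2 lc_a_rc_5_2 lc_a_rc_3_0 lc_a_rc_4_0 lc_a_rc_3_2 lc_a_rc_2_2 lc_a_rc_0_1 lc_a_rc_1_0 lc_a_rc_2_2 lc_a_rc_2_2 lc_a_rc_0_1 lc_a_rc_2_2 lc_a_rc_21_0 lc_a_rc_3_2 lc_a_rc_3_2 lc_a_rc_1_2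 lc_a_rc_0_1 lc_a_rc_2_2 lc_a_rc_1_4) (@D3.rec (fun _ => (Cert rels S Gen.a)) lc_a_rc_5_2 lc_a_rc_2_2 lc_a_rc_2_2 lc_a_rc_3_2 lc_a_rc_3_0 lc_a_Cert_tree lc_a_rc_3_2 lc_a_rc_4_2 lc_a_rc_5_2 lc_a_rc_0_1 lc_a_rc_3_0 lc_a_rc_22_0 lc_a_rc_4_0 lc_a_rc_2_2 lc_a_rc_0_1 lc_a_rc_3_2 lc_a_rc_4_2 lc_a_rc_4_0 lc_a_rc_0_1 lc_a_rc_2_2 lc_a_rc_0_1 lc_a_rc_2_2 lc_a_rc_2_2 lc_a_rc_3_2 lc_a_rc_4_2 lc_a_rc_0_1 lc_a_rc_4_0 lc_a_rc_3_2 lc_a_rc_4_2 lc_a_rc_4_2 lc_a_rc_5_0 lc_a_rc_2_2 lc_a_rc_3_2 lc_a_rc_3_2 lc_a_rc_0_1 lc_a_rc_3_2 lc_a_rc_0_1 lc_a_rc_5_2 lc_a_rc_4_2 lc_a_rc_1_4 lc_a_rc_3_2 lc_a_rc_3_0 lc_a_rc_4_2 lc_a_rc_3_2 lc_a_rc_3_0 lc_a_rc_2_2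 lc_a_rc_4_2 lc_a_rc_22_0 lc_a_rc_21_0 lc_a_rc_3_0 lc_a_rc_2_2 lc_a_rc_21_0 lc_a_rc_5_2 lc_a_rc_3_2 lc_a_rc_2_2 lc_a_rc_3_2 lc_a_rc_21_0 lc_a_rc_0_1 lc_a_Cert_tree lc_a_rc_0_1 lc_a_rc_21_0 lc_a_rc_0_1) (@D3.rec (fun _ => (Cert rels S Gen.a)) lc_a_rc_1_4 lc_a_rc_2_0 lc_a_rc_2_2 lc_a_rc_4_2 lc_a_rc_4_2 lc_a_rc_2_0 lc_a_rc_2_2 lc_a_rc_3_2 lc_a_rc_5_2 lc_a_rc_3_0 lc_a_rc_4_2 lc_a_rc_3_2 lc_a_rc_21_0 lc_a_rc_3_2 lc_a_rc_1_4 lc_a_rc_3_2 lc_a_rc_5_0 lc_a_rc_2_0 lc_a_rc_21_0 lc_a_rc_21_0 lc_a_rc_3_2 lc_a_rc_3_2 lc_a_rc_4_2 lc_a_rc_5_2 lc_a_rc_3_2 lc_a_rc_4_2 lc_a_rc_0_1 lc_a_rc_22_0 lc_a_rc_2_2 lc_a_rc_4_2 lc_a_rc_2_2 lc_a_rc_3_0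 lc_a_rc_5_0 lc_a_rc_2_2 lc_a_rc_4_2 lc_a_rc_21_0 lc_a_rc_2_2 lc_a_Cert_tree lc_a_rc_22_0 lc_a_rc_3_2 lc_a_rc_4_2 lc_a_rc_2_2 lc_a_rc_4_2 lc_a_rc_5_2 lc_a_rc_2_2 lc_a_rc_4_2 lc_a_rc_4_2 lc_a_rc_1_4 lc_a_rc_2_2 lc_a_rc_21_0 lc_a_Cert_tree lc_a_rc_22_0 lc_a_rc_5_0 lc_a_rc_4_2 lc_a_rc_1_2 lc_a_rc_2_2 lc_a_rc_0_1 lc_a_rc_4_0 lc_a_rc_4_2 lc_a_rc_0_1 lc_a_rc_5_2 lc_a_rc_3_2) (@D3.rec (fun _ => (Cert rels S Gen.a)) lc_a_rc_4_2 lc_a_rc_4_2 lc_a_rc_5_0 lc_a_rc_5_2 lc_a_Cert_tree lc_a_rc_0_1 lc_a_rc_0_1 lc_a_rc_21_0 lc_a_rc_4_2 lc_a_rc_0_1 lc_a_rc_21_0 lc_a_rc_2_2 lc_a_rc_1_4 lc_a_rc_4_2 lc_a_rc_21_0 lc_a_rc_0_1 lc_a_rc_3_2 lc_a_rc_5_2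 lc_a_rc_4_2 lc_a_rc_4_2 lc_a_rc_5_0 lc_a_rc_2_0 lc_a_rc_5_2 lc_a_rc_1_4 lc_a_rc_0_1 lc_a_rc_3_2 lc_a_rc_4_2 lc_a_rc_5_0 lc_a_rc_2_2 lc_a_rc_21_0 lc_a_rc_4_2 lc_a_rc_1_2 lc_a_rc_0_1 lc_a_rc_5_2 lc_a_rc_4_2 lc_a_rc_4_2 lc_a_Cert_tree lc_a_rc_3_0 lc_a_rc_2_2 lc_a_rc_0_1 lc_a_rc_3_2 lc_a_rc_3_0 lc_a_rc_4_2 lc_a_rc_4_2 lc_a_rc_1_4 lc_a_rc_4_2 lc_a_rc_21_0 lc_a_rc_1_4 lc_a_rc_5_2 lc_a_rc_22_0 lc_a_rc_4_2 lc_a_rc_5_0 lc_a_rc_2_0 lc_a_rc_4_2 lc_a_rc_1_4 lc_a_rc_1_2 lc_a_rc_3_2 lc_a_rc_4_2 lc_a_rc_3_2 lc_a_rc_0_1 lc_a_rc_4_2 lc_a_rc_0_1) (@D3.rec (fun _ => (Cert rels S Gen.a)) lc_a_rc_2_2 lc_a_rc_3_2 lc_a_rc_5_0 lc_a_rc_0_1 lc_a_rc_2_2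 lc_a_rc_3_2 lc_a_rc_4_2 lc_a_rc_2_2 lc_a_rc_3_2 lc_a_rc_2_2 lc_a_rc_4_2 lc_a_rc_2_0 lc_a_rc_3_2 lc_a_rc_4_2 lc_a_rc_4_2 lc_a_rc_4_2 lc_a_rc_21_0 lc_a_rc_5_2 lc_a_rc_3_2 lc_a_rc_21_0 lc_a_rc_5_2 lc_a_rc_2_2 lc_a_rc_3_2 lc_a_rc_4_2 lc_a_rc_3_2 lc_a_rc_4_2 lc_a_rc_3_2 lc_a_rc_4_2 lc_a_rc_21_0 lc_a_rc_0_1 lc_a_rc_3_2 lc_a_rc_5_2 lc_a_rc_3_0 lc_a_rc_0_1 lc_a_rc_21_0 lc_a_rc_3_2 lc_a_rc_5_2 lc_a_rc_2_2 lc_a_rc_5_0 lc_a_rc_4_0 lc_a_rc_5_2 lc_a_rc_2_2 lc_a_rc_3_2 lc_a_rc_4_2 lc_a_rc_4_2 lc_a_rc_5_2 lc_a_rc_2_0 lc_a_rc_5_2 lc_a_rc_3_2 lc_a_rc_4_2 lc_a_rc_2_2 lc_a_rc_3_2 lc_a_rc_5_2 lc_a_rc_2_2 lc_a_rc_3_2 lc_a_rc_5_2 lc_a_rc_21_0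 lc_a_rc_0_1 lc_a_rc_21_0 lc_a_rc_5_2 lc_a_rc_2_2 lc_a_rc_1_2) (@D3.rec (fun _ => (Cert rels S Gen.a)) lc_a_rc_4_2 lc_a_rc_1_4 lc_a_rc_5_0 lc_a_rc_21_0 lc_a_rc_3_2 lc_a_rc_21_0 lc_a_rc_4_2 lc_a_rc_4_0 lc_a_rc_21_0 lc_a_rc_4_2 lc_a_rc_1_4 lc_a_rc_3_2 lc_a_rc_3_2 lc_a_rc_3_2 lc_a_rc_21_0 lc_a_rc_3_2 lc_a_rc_2_2 lc_a_rc_3_2 lc_a_rc_0_1 lc_a_rc_0_1 lc_a_rc_0_1 lc_a_rc_3_2 lc_a_rc_0_1 lc_a_rc_3_2 lc_a_rc_5_0 lc_a_rc_3_2 lc_a_rc_3_2 lc_a_rc_2_2 lc_a_rc_3_2 lc_a_rc_3_2 lc_a_rc_4_2 lc_a_rc_2_2 lc_a_rc_3_2 lc_a_rc_2_2 lc_a_rc_2_2 lc_a_rc_4_2 lc_a_rc_3_2 lc_a_Cert_tree lc_a_rc_21_0 lc_a_rc_21_0 lc_a_rc_4_2 lc_a_rc_3_2 lc_a_rc_2_2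 lc_a_rc_4_2 lc_a_rc_2_2 lc_a_rc_2_2 lc_a_rc_3_2 lc_a_rc_5_2 lc_a_rc_3_2 lc_a_rc_0_1 lc_a_rc_1_2 lc_a_rc_4_2 lc_a_rc_3_0 lc_a_rc_2_2 lc_a_rc_0_1 lc_a_rc_3_2 lc_a_rc_4_2 lc_a_rc_0_1 lc_a_rc_3_0 lc_a_rc_4_2 lc_a_rc_3_2 lc_a_rc_1_0) (@D3.rec (fun _ => (Cert rels S Gen.a)) lc_a_rc_5_2 lc_a_rc_0_1 lc_a_rc_4_2 lc_a_rc_3_2 lc_a_rc_3_2 lc_a_rc_0_1 lc_a_rc_2_2 lc_a_rc_2_2 lc_a_rc_5_2 lc_a_rc_3_2 lc_a_rc_3_2 lc_a_rc_21_0 lc_a_rc_3_2 lc_a_rc_5_0 lc_a_rc_3_2 lc_a_rc_4_2 lc_a_rc_5_2 lc_a_Cert_tree lc_a_rc_21_0 lc_a_rc_3_2 lc_a_rc_2_2 lc_a_rc_2_2 lc_a_rc_4_2 lc_a_rc_0_1 lc_a_rc_2_2 lc_a_rc_0_1 lc_a_rc_4_2 lc_a_rc_0_1 lc_a_rc_4_2 lc_a_rc_3_0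 lc_a_rc_4_2 lc_a_rc_22_0 lc_a_rc_4_2 lc_a_rc_3_2 lc_a_rc_0_1 lc_a_rc_4_2 lc_a_rc_4_2 lc_a_rc_3_0 lc_a_rc_21_0 lc_a_rc_1_0 lc_a_rc_4_2 lc_a_rc_4_2 lc_a_rc_5_0 lc_a_Cert_tree lc_a_rc_4_2 lc_a_rc_4_2 lc_a_rc_3_0 lc_a_rc_3_2 lc_a_rc_4_2 lc_a_rc_4_2 lc_a_rc_21_0 lc_a_rc_0_1 lc_a_rc_0_1 lc_a_rc_0_1 lc_a_rc_1_2 lc_a_rc_0_1 lc_a_rc_2_2 lc_a_rc_0_1 lc_a_rc_2_2 lc_a_rc_0_1 lc_a_rc_4_0 lc_a_rc_4_2) (@D3.rec (fun _ => (Cert rels S Gen.a)) lc_a_rc_2_0 lc_a_rc_5_2 lc_a_rc_4_2 lc_a_rc_3_0 lc_a_rc_22_0 lc_a_rc_4_2 lc_a_rc_0_1 lc_a_rc_3_0 lc_a_rc_2_0 lc_a_rc_3_2 lc_a_rc_4_2 lc_a_rc_5_2 lc_a_rc_1_4 lc_a_rc_4_2 lc_a_rc_2_2 lc_a_rc_0_1 lc_a_rc_5_2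 lc_a_rc_4_2 lc_a_rc_2_0 lc_a_rc_1_4 lc_a_rc_0_1 lc_a_rc_4_2 lc_a_rc_3_2 lc_a_Cert_tree lc_a_rc_4_2 lc_a_rc_0_1 lc_a_rc_3_0 lc_a_rc_5_2 lc_a_rc_0_1 lc_a_rc_0_1 lc_a_rc_4_2 lc_a_rc_5_2 lc_a_rc_4_2 lc_a_rc_4_2 lc_a_rc_4_2 lc_a_rc_5_2 lc_a_rc_2_2 lc_a_rc_0_1 lc_a_rc_4_2 lc_a_rc_0_1 lc_a_rc_2_0 lc_a_rc_2_2 lc_a_rc_0_1 lc_a_rc_5_0 lc_a_rc_0_1 lc_a_rc_2_0 lc_a_rc_4_2 lc_a_rc_3_2 lc_a_rc_1_2 lc_a_rc_4_2 lc_a_rc_0_1 lc_a_rc_2_2 lc_a_rc_2_2 lc_a_rc_3_2 lc_a_rc_4_2 lc_a_rc_0_1 lc_a_rc_0_1 lc_a_rc_21_0 lc_a_rc_1_2 lc_a_Cert_tree lc_a_rc_5_0 lc_a_rc_5_2) (@D3.rec (fun _ => (Cert rels S Gen.a)) lc_a_rc_3_2 lc_a_rc_2_2 lc_a_rc_5_0 lc_a_rc_3_2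 lc_a_rc_1_4 lc_a_rc_21_0 lc_a_rc_4_2 lc_a_rc_5_0 lc_a_rc_4_0 lc_a_rc_4_2 lc_a_rc_21_0 lc_a_rc_5_2 lc_a_rc_4_2 lc_a_rc_1_4 lc_a_rc_4_2 lc_a_rc_2_2 lc_a_rc_5_0 lc_a_rc_3_2 lc_a_rc_5_2 lc_a_rc_4_0 lc_a_rc_2_0 lc_a_rc_4_2 lc_a_rc_21_0 lc_a_rc_4_2 lc_a_rc_3_2 lc_a_rc_3_2 lc_a_rc_3_2 lc_a_rc_3_2 lc_a_rc_2_2 lc_a_rc_4_2 lc_a_rc_3_0 lc_a_rc_0_1 lc_a_rc_2_2 lc_a_rc_2_0 lc_a_Cert_tree lc_a_rc_3_2 lc_a_rc_4_2 lc_a_rc_2_2 lc_a_rc_3_2 lc_a_rc_0_1 lc_a_rc_1_2 lc_a_rc_5_2 lc_a_rc_4_2 lc_a_rc_5_0 lc_a_Cert_tree lc_a_rc_5_2 lc_a_rc_4_2 lc_a_rc_2_2 lc_a_rc_2_0 lc_a_rc_3_2 lc_a_rc_5_2 lc_a_rc_2_2 lc_a_rc_3_2 lc_a_rc_2_2 lc_a_rc_3_2 lc_a_rc_4_2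 lc_a_rc_5_2 lc_a_rc_21_0 lc_a_rc_0_1 lc_a_rc_5_2 lc_a_rc_4_2 lc_a_rc_4_2) (@D3.rec (fun _ => (Cert rels S Gen.a)) lc_a_rc_5_0 lc_a_rc_3_2 lc_a_rc_5_2 lc_a_rc_2_2 lc_a_rc_3_2 lc_a_rc_4_2 lc_a_rc_4_2 lc_a_rc_4_0 lc_a_rc_5_2 lc_a_rc_4_2 lc_a_rc_5_2 lc_a_rc_4_2 lc_a_rc_2_2 lc_a_rc_1_2 lc_a_rc_5_2 lc_a_rc_22_0 lc_a_rc_0_1 lc_a_rc_4_2 lc_a_rc_3_2 lc_a_rc_2_2 lc_a_rc_0_1 lc_a_rc_1_4 lc_a_rc_0_1 lc_a_rc_5_2 lc_a_rc_0_1 lc_a_rc_21_0 lc_a_rc_2_0 lc_a_rc_4_2 lc_a_rc_2_0 lc_a_rc_4_2 lc_a_rc_1_2 lc_a_rc_4_2 lc_a_rc_4_2 lc_a_rc_2_2 lc_a_rc_5_0 lc_a_rc_3_2 lc_a_rc_4_0 lc_a_rc_2_2 lc_a_rc_2_2 lc_a_rc_4_2 lc_a_rc_2_2 lc_a_rc_1_4 lc_a_rc_1_4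 lc_a_rc_3_2 lc_a_rc_21_0 lc_a_rc_3_2 lc_a_rc_5_0 lc_a_rc_0_1 lc_a_rc_4_2 lc_a_rc_4_2 lc_a_rc_21_0 lc_a_rc_4_2 lc_a_rc_4_2 lc_a_rc_3_2 lc_a_Cert_tree lc_a_rc_4_2 lc_a_rc_2_2 lc_a_rc_4_2 lc_a_rc_4_2 lc_a_rc_0_1 lc_a_rc_5_2 lc_a_rc_4_2) (@D3.rec (fun _ => (Cert rels S Gen.a)) lc_a_rc_4_2 lc_a_rc_0_1 lc_a_rc_4_0 lc_a_rc_2_0 lc_a_rc_4_2 lc_a_rc_3_2 lc_a_rc_5_2 lc_a_rc_21_0 lc_a_rc_4_2 lc_a_rc_5_0 lc_a_rc_5_2 lc_a_rc_0_1 lc_a_rc_2_2 lc_a_rc_3_2 lc_a_rc_4_2 lc_a_rc_21_0 lc_a_rc_2_2 lc_a_rc_1_2 lc_a_rc_0_1 lc_a_rc_4_2 lc_a_rc_2_2 lc_a_rc_4_0 lc_a_rc_21_0 lc_a_rc_4_2 lc_a_rc_2_0 lc_a_rc_3_2 lc_a_rc_4_2 lc_a_rc_21_0 lc_a_rc_3_0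 lc_a_rc_0_1 lc_a_rc_4_0 lc_a_rc_0_1 lc_a_rc_21_0 lc_a_rc_5_2 lc_a_rc_3_2 lc_a_rc_4_2 lc_a_rc_3_2 lc_a_rc_4_0 lc_a_rc_4_0 lc_a_rc_21_0 lc_a_rc_4_2 lc_a_rc_4_2 lc_a_rc_4_2 lc_a_Cert_tree lc_a_Cert_tree lc_a_Cert_tree lc_a_rc_2_2 lc_a_rc_0_1 lc_a_rc_2_2 lc_a_rc_4_2 lc_a_rc_21_0 lc_a_rc_2_2 lc_a_rc_4_2 lc_a_rc_0_1 lc_a_rc_5_2 lc_a_rc_21_0 lc_a_rc_3_2 lc_a_rc_4_2 lc_a_rc_3_2 lc_a_rc_21_0 lc_a_rc_0_1 lc_a_rc_2_2) (@D3.rec (fun _ => (Cert rels S Gen.a)) lc_a_rc_5_2 lc_a_rc_3_2 lc_a_rc_2_2 lc_a_rc_4_2 lc_a_rc_2_2 lc_a_rc_3_2 lc_a_rc_2_2 lc_a_rc_1_2 lc_a_rc_2_2 lc_a_rc_1_2 lc_a_rc_3_2 lc_a_rc_2_2 lc_a_rc_0_1 lc_a_rc_3_2 lc_a_rc_4_0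 lc_a_rc_4_2 lc_a_rc_21_0 lc_a_rc_4_2 lc_a_rc_2_0 lc_a_rc_4_2 lc_a_rc_4_2 lc_a_rc_4_0 lc_a_rc_1_0 lc_a_rc_2_2 lc_a_rc_4_2 lc_a_rc_2_2 lc_a_rc_21_0 lc_a_rc_4_2 lc_a_rc_1_2 lc_a_rc_0_1 lc_a_rc_3_2 lc_a_rc_2_2 lc_a_rc_4_2 lc_a_rc_3_2 lc_a_rc_3_2 lc_a_rc_3_2 lc_a_rc_3_2 lc_a_rc_2_2 lc_a_rc_3_2 lc_a_rc_2_2 lc_a_rc_4_2 lc_a_rc_4_2 lc_a_rc_4_0 lc_a_rc_5_2 lc_a_rc_2_2 lc_a_rc_2_2 lc_a_rc_2_2 lc_a_rc_1_4 lc_a_rc_3_2 lc_a_rc_4_2 lc_a_rc_21_0 lc_a_Cert_tree lc_a_rc_21_0 lc_a_rc_3_0 lc_a_rc_3_2 lc_a_rc_3_2 lc_a_rc_2_2 lc_a_rc_4_2 lc_a_rc_3_2 lc_a_rc_21_0 lc_a_rc_4_2 lc_a_rc_2_2) (@D3.rec (fun _ => (Cert rels S Gen.a)) lc_a_rc_4_2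 lc_a_rc_1_4 lc_a_rc_4_2 lc_a_rc_0_1 lc_a_rc_21_0 lc_a_rc_3_2 lc_a_rc_5_2 lc_a_rc_3_2 lc_a_rc_3_2 lc_a_rc_2_2 lc_a_Cert_tree lc_a_rc_5_0 lc_a_rc_21_0 lc_a_rc_3_2 lc_a_rc_3_2 lc_a_rc_2_2 lc_a_rc_4_2 lc_a_Cert_tree lc_a_rc_3_2 lc_a_rc_5_2 lc_a_rc_4_2 lc_a_rc_2_2 lc_a_rc_22_0 lc_a_rc_4_2 lc_a_rc_4_2 lc_a_rc_21_0 lc_a_rc_0_1 lc_a_rc_5_2 lc_a_rc_1_0 lc_a_rc_4_2 lc_a_rc_0_1 lc_a_rc_2_2 lc_a_rc_1_2 lc_a_rc_3_2 lc_a_rc_1_4 lc_a_rc_4_2 lc_a_rc_4_2 lc_a_rc_5_0 lc_a_rc_3_2 lc_a_rc_5_2 lc_a_rc_3_2 lc_a_rc_2_2 lc_a_rc_3_2 lc_a_rc_2_2 lc_a_rc_3_2 lc_a_rc_5_2 lc_a_rc_21_0 lc_a_rc_4_2 lc_a_rc_5_2 lc_a_rc_2_2 lc_a_rc_3_2 lc_a_rc_2_2 lc_a_rc_3_2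 lc_a_rc_4_2 lc_a_rc_3_0 lc_a_rc_2_2 lc_a_rc_21_0 lc_a_rc_4_2 lc_a_rc_0_1 lc_a_rc_3_2 lc_a_rc_5_2 lc_a_rc_0_1) (@D3.rec (fun _ => (Cert rels S Gen.a)) lc_a_rc_21_0 lc_a_rc_2_2 lc_a_rc_0_1 lc_a_rc_21_0 lc_a_rc_2_2 lc_a_rc_2_2 lc_a_rc_4_2 lc_a_rc_0_1 lc_a_rc_21_0 lc_a_rc_3_2 lc_a_rc_5_2 lc_a_rc_1_2 lc_a_rc_4_2 lc_a_rc_0_1 lc_a_rc_5_2 lc_a_rc_4_2 lc_a_rc_4_2 lc_a_rc_3_2 lc_a_rc_0_1 lc_a_rc_3_2 lc_a_rc_5_2 lc_a_Cert_tree lc_a_rc_2_2 lc_a_rc_3_2 lc_a_rc_3_2 lc_a_rc_5_0 lc_a_rc_5_0 lc_a_rc_21_0 lc_a_rc_21_0 lc_a_rc_5_0 lc_a_rc_3_2 lc_a_rc_2_2 lc_a_rc_5_2 lc_a_rc_3_2 lc_a_rc_0_1 lc_a_rc_2_2 lc_a_rc_3_0 lc_a_rc_4_0 lc_a_rc_2_0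 lc_a_rc_1_4 lc_a_rc_2_2 lc_a_rc_4_2 lc_a_rc_2_2 lc_a_rc_21_0 lc_a_Cert_tree lc_a_rc_22_0 lc_a_rc_2_2 lc_a_rc_4_2 lc_a_rc_2_2 lc_a_rc_3_2 lc_a_rc_4_2 lc_a_rc_0_1 lc_a_rc_5_2 lc_a_rc_1_4 lc_a_rc_4_2 lc_a_rc_1_0 lc_a_rc_2_2 lc_a_rc_3_2 lc_a_Cert_tree lc_a_rc_2_2 lc_a_rc_5_2 lc_a_rc_1_0) (@D3.rec (fun _ => (Cert rels S Gen.a)) lc_a_rc_21_0 lc_a_rc_3_0 lc_a_rc_4_2 lc_a_rc_21_0 lc_a_rc_4_2 lc_a_rc_21_0 lc_a_rc_1_4 lc_a_rc_4_2 lc_a_rc_1_2 lc_a_rc_1_2 lc_a_rc_3_2 lc_a_rc_2_2 lc_a_rc_3_0 lc_a_rc_2_2 lc_a_rc_1_4 lc_a_rc_3_2 lc_a_rc_2_2 lc_a_Cert_tree lc_a_rc_4_2 lc_a_rc_21_0 lc_a_rc_3_2 lc_a_rc_3_2 lc_a_rc_3_2 lc_a_rc_2_2 lc_a_rc_4_2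 lc_a_rc_3_2 lc_a_rc_4_2 lc_a_rc_1_2 lc_a_rc_21_0 lc_a_rc_4_2 lc_a_rc_2_0 lc_a_rc_2_0 lc_a_rc_1_2 lc_a_rc_3_2 lc_a_rc_2_2 lc_a_rc_0_1 lc_a_rc_4_2 lc_a_rc_1_0 lc_a_rc_1_0 lc_a_rc_3_2 lc_a_rc_21_0 lc_a_rc_3_2 lc_a_rc_4_2 lc_a_rc_0_1 lc_a_rc_2_2 lc_a_rc_0_1 lc_a_rc_3_2 lc_a_rc_0_1 lc_a_rc_21_0 lc_a_rc_22_0 lc_a_rc_3_0 lc_a_rc_3_2 lc_a_rc_4_2 lc_a_rc_21_0 lc_a_rc_4_2 lc_a_rc_4_0 lc_a_rc_2_2 lc_a_Cert_tree lc_a_rc_3_2 lc_a_rc_4_2 lc_a_rc_22_0 lc_a_rc_2_0) (@D3.rec (fun _ => (Cert rels S Gen.a)) lc_a_rc_0_1 lc_a_rc_4_0 lc_a_rc_5_2 lc_a_rc_22_0 lc_a_rc_0_1 lc_a_rc_1_0 lc_a_rc_0_1 lc_a_rc_1_4 lc_a_rc_2_2 lc_a_rc_4_2 lc_a_Cert_tree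 lc_a_rc_21_0 lc_a_rc_4_2 lc_a_rc_2_0 lc_a_rc_3_2 lc_a_rc_21_0 lc_a_rc_2_2 lc_a_rc_4_2 lc_a_rc_2_2 lc_a_rc_4_2 lc_a_rc_3_0 lc_a_rc_0_1 lc_a_rc_4_2 lc_a_rc_1_0 lc_a_rc_0_1 lc_a_rc_2_2 lc_a_rc_2_2 lc_a_rc_4_2 lc_a_rc_3_2 lc_a_rc_0_1 lc_a_rc_3_2 lc_a_rc_3_0 lc_a_rc_0_1 lc_a_rc_1_4 lc_a_rc_3_2 lc_a_rc_5_2 lc_a_rc_3_0 lc_a_rc_0_1 lc_a_rc_4_2 lc_a_rc_4_2 lc_a_rc_2_2 lc_a_rc_5_0 lc_a_rc_3_2 lc_a_rc_2_2 lc_a_rc_4_2 lc_a_rc_4_2 lc_a_rc_4_2 lc_a_rc_5_0 lc_a_rc_3_2 lc_a_rc_5_2 lc_a_rc_21_0 lc_a_rc_21_0 lc_a_rc_3_2 lc_a_rc_3_2 lc_a_rc_2_2 lc_a_rc_4_2 lc_a_rc_21_0 lc_a_rc_4_2 lc_a_rc_5_0 lc_a_rc_4_2 lc_a_rc_2_2 lc_a_rc_3_2) (@D3.rec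 (fun _ => (Cert rels S Gen.a)) lc_a_rc_5_0 lc_a_rc_1_2 lc_a_rc_2_2 lc_a_rc_5_2 lc_a_rc_5_2 lc_a_rc_2_2 lc_a_rc_21_0 lc_a_rc_0_1 lc_a_rc_1_4 lc_a_rc_3_2 lc_a_rc_21_0 lc_a_rc_4_2 lc_a_rc_4_2 lc_a_rc_2_2 lc_a_rc_3_2 lc_a_rc_4_2 lc_a_rc_0_1 lc_a_rc_5_2 lc_a_rc_2_2 lc_a_rc_1_2 lc_a_rc_0_1 lc_a_rc_4_2 lc_a_rc_21_0 lc_a_rc_2_0 lc_a_rc_3_2 lc_a_rc_5_2 lc_a_rc_21_0 lc_a_rc_3_2 lc_a_rc_2_2 lc_a_rc_4_0 lc_a_rc_2_2 lc_a_rc_2_2 lc_a_rc_2_2 lc_a_rc_4_2 lc_a_rc_3_2 lc_a_rc_4_2 lc_a_rc_4_2 lc_a_rc_4_2 lc_a_rc_3_2 lc_a_rc_4_0 lc_a_rc_1_2 lc_a_rc_4_2 lc_a_rc_0_1 lc_a_rc_22_0 lc_a_rc_2_2 lc_a_rc_4_2 lc_a_rc_1_0 lc_a_rc_0_1 lc_a_rc_3_2 lc_a_rc_2_2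 lc_a_rc_5_2 lc_a_rc_2_2 lc_a_rc_3_2 lc_a_rc_3_0 lc_a_rc_3_0 lc_a_rc_5_2 lc_a_rc_4_2 lc_a_rc_1_4 lc_a_rc_3_2 lc_a_rc_2_2 lc_a_rc_5_2 lc_a_rc_3_2) (@D3.rec (fun _ => (Cert rels S Gen.a)) lc_a_rc_3_0 lc_a_rc_2_2 lc_a_rc_4_2 lc_a_rc_3_2 lc_a_rc_2_2 lc_a_rc_2_2 lc_a_rc_3_2 lc_a_rc_2_2 lc_a_rc_4_2 lc_a_rc_4_2 lc_a_rc_1_4 lc_a_rc_2_2 lc_a_rc_4_2 lc_a_rc_2_2 lc_a_rc_2_0 lc_a_Cert_tree lc_a_rc_22_0 lc_a_rc_0_1 lc_a_rc_4_2 lc_a_rc_4_2 lc_a_rc_21_0 lc_a_rc_3_2 lc_a_rc_5_2 lc_a_rc_2_2 lc_a_rc_3_2 lc_a_Cert_tree lc_a_rc_5_0 lc_a_rc_5_2 lc_a_rc_1_0 lc_a_rc_4_2 lc_a_rc_4_2 lc_a_rc_5_0 lc_a_rc_2_2 lc_a_rc_3_2 lc_a_rc_5_2 lc_a_rc_2_2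 lc_a_rc_3_2 lc_a_rc_4_2 lc_a_rc_3_0 lc_a_rc_2_2 lc_a_rc_5_2 lc_a_rc_4_2 lc_a_rc_4_0 lc_a_rc_4_2 lc_a_rc_1_4 lc_a_rc_5_2 lc_a_Cert_tree lc_a_rc_2_2 lc_a_rc_3_2 lc_a_rc_4_2 lc_a_rc_1_2 lc_a_rc_21_0 lc_a_rc_3_2 lc_a_rc_5_0 lc_a_rc_3_2 lc_a_rc_4_0 lc_a_rc_21_0 lc_a_rc_3_2 lc_a_rc_4_2 lc_a_rc_0_1 lc_a_rc_2_2 lc_a_rc_5_0) (@D3.rec (fun _ => (Cert rels S Gen.a)) lc_a_rc_4_0 lc_a_rc_5_2 lc_a_rc_3_2 lc_a_rc_4_2 lc_a_rc_21_0 lc_a_rc_3_2 lc_a_rc_4_2 lc_a_rc_2_2 lc_a_rc_3_2 lc_a_rc_5_2 lc_a_rc_21_0 lc_a_rc_3_0 lc_a_rc_2_2 lc_a_rc_0_1 lc_a_rc_21_0 lc_a_rc_3_2 lc_a_rc_5_2 lc_a_rc_5_2 lc_a_rc_3_2 lc_a_rc_3_0 lc_a_rc_4_2 lc_a_Cert_tree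 lc_a_rc_0_1 lc_a_rc_4_2 lc_a_rc_3_2 lc_a_rc_1_2 lc_a_rc_0_1 lc_a_rc_2_0 lc_a_Cert_tree lc_a_rc_5_0 lc_a_rc_2_2 lc_a_rc_2_2 lc_a_Cert_tree lc_a_rc_3_2 lc_a_rc_2_2 lc_a_Cert_tree lc_a_rc_3_0 lc_a_rc_3_2 lc_a_rc_0_1 lc_a_Cert_tree lc_a_rc_22_0 lc_a_rc_2_0 lc_a_rc_2_0 lc_a_rc_22_0 lc_a_rc_4_2 lc_a_rc_2_2 lc_a_rc_4_2 lc_a_Cert_tree lc_a_rc_3_0 lc_a_rc_3_2 lc_a_rc_2_2 lc_a_rc_4_2 lc_a_rc_3_2 lc_a_rc_4_2 lc_a_rc_4_2 lc_a_rc_5_0 lc_a_rc_4_2 lc_a_rc_21_0 lc_a_rc_3_2 lc_a_rc_4_2 lc_a_rc_0_1 lc_a_rc_2_2) (@D3.rec (fun _ => (Cert rels S Gen.a)) lc_a_rc_0_1 lc_a_rc_2_2 lc_a_rc_2_2 lc_a_rc_2_2 lc_a_rc_3_2 lc_a_rc_1_2 lc_a_rc_5_2 lc_a_Cert_tree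 lc_a_rc_3_2 lc_a_rc_4_2 lc_a_rc_1_2 lc_a_rc_21_0 lc_a_rc_3_2 lc_a_rc_5_2 lc_a_rc_3_2 lc_a_rc_21_0 lc_a_rc_0_1 lc_a_rc_2_2 lc_a_rc_4_2 lc_a_rc_3_2 lc_a_rc_3_2 lc_a_rc_5_2 lc_a_rc_0_1 lc_a_rc_5_2 lc_a_rc_4_2 lc_a_rc_4_2 lc_a_rc_4_2 lc_a_rc_3_2 lc_a_rc_2_2 lc_a_rc_21_0 lc_a_rc_4_2 lc_a_rc_1_0 lc_a_rc_1_2 lc_a_rc_1_2 lc_a_rc_21_0 lc_a_rc_4_2 lc_a_rc_4_2 lc_a_rc_5_2 lc_a_rc_21_0 lc_a_rc_0_1 lc_a_rc_3_2 lc_a_rc_3_2 lc_a_rc_5_2 lc_a_rc_21_0 lc_a_rc_0_1 lc_a_rc_1_0 lc_a_rc_5_2 lc_a_rc_5_0 lc_a_rc_1_4 lc_a_rc_3_2 lc_a_rc_4_2 lc_a_rc_4_2 lc_a_rc_2_2 lc_a_rc_21_0 lc_a_rc_3_2 lc_a_rc_5_2 lc_a_rc_2_2 lc_a_rc_3_2 lc_a_rc_21_0 lc_a_rc_21_0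 lc_a_rc_5_0 lc_a_rc_5_2) (@D3.rec (fun _ => (Cert rels S Gen.a)) lc_a_rc_0_1 lc_a_rc_3_2 lc_a_rc_4_2 lc_a_rc_4_2 lc_a_rc_3_2 lc_a_rc_5_2 lc_a_rc_4_2 lc_a_rc_3_2 lc_a_rc_0_1 lc_a_rc_0_1 lc_a_rc_0_1 lc_a_rc_2_2 lc_a_rc_4_2 lc_a_rc_3_2 lc_a_rc_5_2 lc_a_rc_2_2 lc_a_rc_3_2 lc_a_rc_1_4 lc_a_rc_4_2 lc_a_rc_21_0 lc_a_rc_4_2 lc_a_rc_1_2 lc_a_rc_4_2 lc_a_rc_4_2 lc_a_rc_22_0 lc_a_rc_4_2 lc_a_rc_21_0 lc_a_rc_0_1 lc_a_rc_3_2 lc_a_rc_1_0 lc_a_rc_2_2 lc_a_rc_2_0 lc_a_rc_5_2 lc_a_rc_21_0 lc_a_rc_2_0 lc_a_Cert_tree lc_a_rc_3_2 lc_a_rc_0_1 lc_a_rc_3_2 lc_a_rc_4_2 lc_a_rc_3_2 lc_a_rc_5_2 lc_a_rc_2_2 lc_a_rc_21_0 lc_a_rc_0_1 lc_a_rc_3_2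 lc_a_rc_4_2 lc_a_rc_4_2 lc_a_rc_5_0 lc_a_rc_4_2 lc_a_rc_3_2 lc_a_rc_5_2 lc_a_rc_1_2 lc_a_rc_0_1 lc_a_rc_0_1 lc_a_rc_3_2 lc_a_rc_21_0 lc_a_rc_5_0 lc_a_rc_3_2 lc_a_rc_2_2 lc_a_rc_5_2 lc_a_rc_3_0) (@D3.rec (fun _ => (Cert rels S Gen.a)) lc_a_rc_4_2 lc_a_Cert_tree lc_a_rc_3_2 lc_a_rc_5_2 lc_a_rc_4_2 lc_a_rc_3_0 lc_a_rc_21_0 lc_a_rc_0_1 lc_a_rc_4_2 lc_a_rc_3_2 lc_a_rc_5_0 lc_a_rc_1_4 lc_a_rc_2_2 lc_a_rc_3_2 lc_a_rc_4_2 lc_a_rc_21_0 lc_a_rc_0_1 lc_a_rc_4_2 lc_a_rc_5_2 lc_a_rc_2_2 lc_a_rc_4_2 lc_a_Cert_tree lc_a_rc_3_2 lc_a_rc_4_2 lc_a_rc_4_2 lc_a_rc_0_1 lc_a_rc_3_2 lc_a_rc_1_2 lc_a_rc_21_0 lc_a_rc_3_2 lc_a_rc_5_2 lc_a_rc_2_2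 lc_a_rc_3_2 lc_a_rc_4_2 lc_a_rc_1_4 lc_a_rc_3_2 lc_a_rc_5_2 lc_a_rc_21_0 lc_a_rc_3_2 lc_a_rc_2_2 lc_a_rc_3_2 lc_a_rc_2_2 lc_a_rc_3_2 lc_a_rc_4_2 lc_a_rc_2_2 lc_a_rc_2_2 lc_a_rc_0_1 lc_a_rc_21_0 lc_a_Cert_tree lc_a_rc_3_2 lc_a_rc_2_2 lc_a_rc_3_0 lc_a_rc_4_2 lc_a_rc_5_0 lc_a_rc_2_2 lc_a_Cert_tree lc_a_rc_4_2 lc_a_rc_5_2 lc_a_rc_1_4 lc_a_rc_22_0 lc_a_Cert_tree lc_a_rc_0_1) (@D3.rec (fun _ => (Cert rels S Gen.a)) lc_a_rc_3_2 lc_a_rc_4_2 lc_a_Cert_tree lc_a_rc_3_2 lc_a_rc_0_1 lc_a_rc_0_1 lc_a_rc_3_2 lc_a_rc_5_2 lc_a_rc_0_1 lc_a_rc_3_0 lc_a_rc_22_0 lc_a_rc_4_2 lc_a_rc_3_2 lc_a_rc_4_2 lc_a_rc_21_0 lc_a_rc_2_2 lc_a_rc_4_2 lc_a_rc_2_2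 lc_a_rc_0_1 lc_a_rc_3_2 lc_a_rc_1_2 lc_a_rc_21_0 lc_a_rc_4_2 lc_a_rc_3_2 lc_a_rc_5_2 lc_a_rc_5_2 lc_a_rc_3_2 lc_a_rc_0_1 lc_a_rc_21_0 lc_a_rc_2_2 lc_a_rc_5_2 lc_a_rc_0_1 lc_a_rc_1_2 lc_a_rc_5_2 lc_a_Cert_tree lc_a_rc_22_0 lc_a_rc_4_2 lc_a_rc_22_0 lc_a_rc_5_2 lc_a_rc_5_2 lc_a_rc_2_0 lc_a_Cert_tree lc_a_rc_3_2 lc_a_rc_2_2 lc_a_rc_21_0 lc_a_rc_5_2 lc_a_rc_0_1 lc_a_rc_21_0 lc_a_rc_2_2 lc_a_rc_4_2 lc_a_rc_0_1 lc_a_rc_3_2 lc_a_rc_5_2 lc_a_rc_3_2 lc_a_rc_2_0 lc_a_rc_5_2 lc_a_rc_0_1 lc_a_rc_4_0 lc_a_rc_3_2 lc_a_rc_1_0 lc_a_rc_0_1 lc_a_rc_3_2) (@D3.rec (fun _ => (Cert rels S Gen.a)) lc_a_rc_3_2 lc_a_rc_1_4 lc_a_rc_4_2 lc_a_rc_2_0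 lc_a_rc_4_2 lc_a_rc_4_2 lc_a_rc_4_2 lc_a_rc_0_1 lc_a_rc_2_0 lc_a_rc_3_2 lc_a_rc_5_2 lc_a_rc_2_2 lc_a_rc_4_2 lc_a_rc_21_0 lc_a_rc_3_2 lc_a_rc_0_1 lc_a_rc_5_2 lc_a_rc_0_1 lc_a_rc_3_2 lc_a_rc_21_0 lc_a_rc_3_2 lc_a_rc_2_2 lc_a_rc_22_0 lc_a_rc_3_2 lc_a_rc_5_0 lc_a_rc_2_2 lc_a_rc_4_0 lc_a_rc_2_0 lc_a_rc_21_0 lc_a_rc_2_2 lc_a_rc_4_2 lc_a_rc_4_2 lc_a_rc_21_0 lc_a_rc_5_2 lc_a_rc_3_2 lc_a_rc_21_0 lc_a_rc_0_1 lc_a_rc_4_2 lc_a_rc_3_2 lc_a_rc_5_2 lc_a_rc_3_2 lc_a_rc_4_2 lc_a_rc_1_0 lc_a_Cert_tree lc_a_rc_4_2 lc_a_rc_3_2 lc_a_rc_4_2 lc_a_rc_3_0 lc_a_rc_0_1 lc_a_rc_21_0 lc_a_rc_21_0 lc_a_rc_4_0 lc_a_rc_5_0 lc_a_rc_3_2 lc_a_rc_5_2 lc_a_Cert_tree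 lc_a_rc_0_1 lc_a_rc_3_2 lc_a_rc_4_2 lc_a_Cert_tree lc_a_rc_3_2 lc_a_rc_4_2) (@D3.rec (fun _ => (Cert rels S Gen.a)) lc_a_rc_0_1 lc_a_rc_2_2 lc_a_rc_5_2 lc_a_rc_3_2 lc_a_rc_0_1 lc_a_rc_21_0 lc_a_rc_0_1 lc_a_rc_2_2 lc_a_rc_21_0 lc_a_rc_4_2 lc_a_rc_3_2 lc_a_rc_1_2 lc_a_rc_4_2 lc_a_rc_1_2 lc_a_rc_0_1 lc_a_rc_4_2 lc_a_rc_3_2 lc_a_rc_5_2 lc_a_rc_3_2 lc_a_rc_0_1 lc_a_rc_21_0 lc_a_rc_3_2 lc_a_rc_3_0 lc_a_rc_21_0 lc_a_rc_4_2 lc_a_rc_5_2 lc_a_rc_1_4 lc_a_rc_4_2 lc_a_rc_0_1 lc_a_rc_21_0 lc_a_rc_5_2 lc_a_rc_0_1 lc_a_rc_3_2 lc_a_rc_2_2 lc_a_rc_3_2 lc_a_rc_2_2 lc_a_rc_0_1 lc_a_rc_4_2 lc_a_rc_4_2 lc_a_rc_4_2 lc_a_rc_4_2 lc_a_rc_2_2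 lc_a_rc_2_2 lc_a_rc_5_2 lc_a_rc_1_4 lc_a_rc_3_2 lc_a_rc_3_0 lc_a_rc_3_2 lc_a_rc_5_2 lc_a_rc_3_0 lc_a_rc_2_2 lc_a_rc_0_1 lc_a_rc_21_0 lc_a_rc_0_1 lc_a_rc_3_2 lc_a_rc_4_0 lc_a_rc_0_1 lc_a_rc_21_0 lc_a_rc_0_1 lc_a_rc_0_1 lc_a_rc_2_2 lc_a_rc_3_2) (@D3.rec (fun _ => (Cert rels S Gen.a)) lc_a_rc_3_2 lc_a_rc_5_2 lc_a_Cert_tree lc_a_rc_1_2 lc_a_rc_1_0 lc_a_rc_2_2 lc_a_rc_4_2 lc_a_rc_3_2 lc_a_rc_3_2 lc_a_rc_3_2 lc_a_rc_1_2 lc_a_rc_2_2 lc_a_rc_5_2 lc_a_rc_5_0 lc_a_rc_0_1 lc_a_rc_3_2 lc_a_rc_3_2 lc_a_rc_3_2 lc_a_rc_2_2 lc_a_rc_4_2 lc_a_rc_21_0 lc_a_rc_4_0 lc_a_rc_3_2 lc_a_rc_3_2 lc_a_rc_2_2 lc_a_rc_3_0 lc_a_rc_2_2 lc_a_rc_2_2 lc_a_rc_5_0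 lc_a_rc_3_0 lc_a_rc_0_1 lc_a_rc_0_1 lc_a_rc_4_2 lc_a_rc_3_2 lc_a_rc_2_2 lc_a_Cert_tree lc_a_rc_2_2 lc_a_rc_2_2 lc_a_rc_4_2 lc_a_Cert_tree lc_a_rc_3_2 lc_a_rc_4_2 lc_a_rc_3_2 lc_a_rc_1_0 lc_a_rc_5_0 lc_a_rc_21_0 lc_a_rc_1_2 lc_a_rc_2_2 lc_a_rc_5_0 lc_a_rc_0_1 lc_a_rc_3_2 lc_a_rc_4_2 lc_a_rc_3_2 lc_a_rc_0_1 lc_a_rc_3_2 lc_a_rc_4_2 lc_a_rc_2_2 lc_a_rc_3_2 lc_a_rc_2_2 lc_a_rc_4_2 lc_a_rc_2_2 lc_a_rc_1_2) (@D3.rec (fun _ => (Cert rels S Gen.a)) lc_a_rc_5_0 lc_a_rc_4_2 lc_a_Cert_tree lc_a_rc_0_1 lc_a_rc_4_2 lc_a_rc_21_0 lc_a_rc_0_1 lc_a_rc_2_2 lc_a_rc_3_2 lc_a_rc_4_2 lc_a_rc_2_2 lc_a_Cert_tree lc_a_rc_3_2 lc_a_rc_1_0 lc_a_rc_0_1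 lc_a_Cert_tree lc_a_rc_5_0 lc_a_rc_0_1 lc_a_rc_21_0 lc_a_rc_0_1 lc_a_rc_0_1 lc_a_rc_22_0 lc_a_rc_21_0 lc_a_Cert_tree lc_a_rc_3_2 lc_a_rc_4_2 lc_a_rc_2_0 lc_a_Cert_tree lc_a_rc_2_0 lc_a_rc_4_2 lc_a_rc_3_2 lc_a_Cert_tree lc_a_rc_4_2 lc_a_Cert_tree lc_a_rc_3_2 lc_a_rc_2_2 lc_a_rc_0_1 lc_a_rc_5_2 lc_a_rc_2_0 lc_a_Cert_tree lc_a_rc_2_2 lc_a_rc_4_2 lc_a_rc_3_0 lc_a_rc_3_0 lc_a_rc_21_0 lc_a_rc_21_0 lc_a_Cert_tree lc_a_rc_3_2 lc_a_rc_4_2 lc_a_rc_4_2 lc_a_rc_5_2 lc_a_rc_3_0 lc_a_Cert_tree lc_a_rc_3_2 lc_a_rc_4_2 lc_a_Cert_tree lc_a_rc_3_2 lc_a_rc_4_2 lc_a_rc_1_2 lc_a_rc_0_1 lc_a_rc_0_1 lc_a_rc_3_2) (@D3.rec (fun _ => (Cert rels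 S Gen.a)) lc_a_rc_0_1 lc_a_rc_0_1 lc_a_rc_4_2 lc_a_rc_22_0 lc_a_rc_4_2 lc_a_rc_21_0 lc_a_rc_2_2 lc_a_rc_3_2 lc_a_rc_2_2 lc_a_rc_4_2 lc_a_rc_3_2 lc_a_rc_3_2 lc_a_rc_1_2 lc_a_rc_4_2 lc_a_rc_2_2 lc_a_rc_4_2 lc_a_rc_0_1 lc_a_rc_1_4 lc_a_rc_5_2 lc_a_rc_1_0 lc_a_rc_2_0 lc_a_rc_3_2 lc_a_rc_5_0 lc_a_rc_2_2 lc_a_rc_21_0 lc_a_rc_3_2 lc_a_rc_3_0 lc_a_rc_4_2 lc_a_Cert_tree lc_a_rc_21_0 lc_a_rc_1_0 lc_a_rc_4_2 lc_a_rc_0_1 lc_a_rc_5_2 lc_a_rc_3_2 lc_a_rc_2_2 lc_a_rc_5_2 lc_a_rc_3_2 lc_a_rc_1_0 lc_a_rc_2_2 lc_a_rc_0_1 lc_a_rc_3_2 lc_a_rc_1_4 lc_a_rc_3_0 lc_a_rc_4_2 lc_a_rc_21_0 lc_a_rc_2_2 lc_a_rc_0_1 lc_a_rc_3_2 lc_a_rc_4_2 lc_a_rc_4_2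 lc_a_rc_2_2 lc_a_rc_3_2 lc_a_rc_5_2 lc_a_rc_3_2 lc_a_rc_2_2 lc_a_rc_3_2 lc_a_rc_21_0 lc_a_rc_4_2 lc_a_rc_4_2 lc_a_rc_2_2 lc_a_rc_4_2) (@D3.rec (fun _ => (Cert rels S Gen.a)) lc_a_rc_5_2 lc_a_rc_5_2 lc_a_rc_4_2 lc_a_rc_2_0 lc_a_rc_3_0 lc_a_rc_5_2 lc_a_rc_5_2 lc_a_rc_3_2 lc_a_rc_2_2 lc_a_rc_21_0 lc_a_rc_21_0 lc_a_rc_22_0 lc_a_rc_0_1 lc_a_rc_5_2 lc_a_rc_2_2 lc_a_rc_21_0 lc_a_rc_2_2 lc_a_rc_4_2 lc_a_rc_2_2 lc_a_Cert_tree lc_a_rc_2_2 lc_a_rc_0_1 lc_a_rc_0_1 lc_a_rc_4_2 lc_a_rc_4_2 lc_a_rc_0_1 lc_a_rc_4_0 lc_a_rc_2_2 lc_a_rc_3_2 lc_a_rc_1_4 lc_a_rc_3_2 lc_a_rc_4_2 lc_a_rc_5_2 lc_a_rc_4_2 lc_a_rc_2_2 lc_a_rc_0_1 lc_a_rc_4_0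 lc_a_rc_0_1 lc_a_rc_0_1 lc_a_rc_21_0 lc_a_rc_3_2 lc_a_rc_4_2 lc_a_rc_3_2 lc_a_rc_3_2 lc_a_rc_4_2 lc_a_rc_0_1 lc_a_rc_2_2 lc_a_rc_5_2 lc_a_rc_2_2 lc_a_rc_3_0 lc_a_rc_2_2 lc_a_rc_0_1 lc_a_rc_5_0 lc_a_rc_0_1 lc_a_rc_3_0 lc_a_rc_3_0 lc_a_rc_2_2 lc_a_rc_0_1 lc_a_rc_5_0 lc_a_rc_1_2 lc_a_rc_2_2 lc_a_rc_2_0) (@D3.rec (fun _ => (Cert rels S Gen.a)) lc_a_rc_0_1 lc_a_rc_21_0 lc_a_rc_3_2 lc_a_rc_3_2 lc_a_rc_2_2 lc_a_rc_4_0 lc_a_rc_5_2 lc_a_rc_3_2 lc_a_rc_3_2 lc_a_rc_5_0 lc_a_rc_2_2 lc_a_rc_0_1 lc_a_rc_2_2 lc_a_rc_5_0 lc_a_rc_2_2 lc_a_rc_0_1 lc_a_rc_2_2 lc_a_rc_5_2 lc_a_Cert_tree lc_a_rc_3_2 lc_a_rc_2_2 lc_a_rc_3_2 lc_a_rc_3_0 lc_a_rc_21_0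 lc_a_rc_0_1 lc_a_rc_3_0 lc_a_rc_1_0 lc_a_rc_3_0 lc_a_rc_0_1 lc_a_rc_21_0 lc_a_rc_5_0 lc_a_rc_0_1 lc_a_rc_2_2 lc_a_rc_4_2 lc_a_rc_2_2 lc_a_rc_21_0 lc_a_rc_4_2 lc_a_rc_3_2 lc_a_rc_4_2 lc_a_rc_0_1 lc_a_rc_21_0 lc_a_rc_5_2 lc_a_Cert_tree lc_a_rc_1_0 lc_a_rc_0_1 lc_a_rc_21_0 lc_a_rc_0_1 lc_a_rc_4_2 lc_a_rc_0_1 lc_a_rc_4_2 lc_a_rc_2_2 lc_a_rc_21_0 lc_a_rc_0_1 lc_a_rc_4_2 lc_a_rc_3_2 lc_a_rc_3_2 lc_a_rc_5_2 lc_a_rc_2_0 lc_a_rc_3_0 lc_a_rc_0_1 lc_a_rc_4_2 lc_a_rc_4_0) (@D3.rec (fun _ => (Cert rels S Gen.a)) lc_a_rc_3_2 lc_a_rc_5_2 lc_a_rc_21_0 lc_a_rc_2_2 lc_a_rc_21_0 lc_a_rc_2_2 lc_a_rc_0_1 lc_a_rc_2_2 lc_a_rc_0_1 lc_a_rc_3_2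 lc_a_rc_2_2 lc_a_rc_0_1 lc_a_rc_4_2 lc_a_rc_0_1 lc_a_rc_3_0 lc_a_rc_21_0 lc_a_rc_3_2 lc_a_rc_3_2 lc_a_rc_3_2 lc_a_rc_3_0 lc_a_rc_3_2 lc_a_rc_0_1 lc_a_rc_2_2 lc_a_rc_4_2 lc_a_rc_3_2 lc_a_rc_5_2 lc_a_rc_2_0 lc_a_rc_2_0 lc_a_rc_0_1 lc_a_rc_1_4 lc_a_rc_0_1 lc_a_rc_3_2 lc_a_rc_3_2 lc_a_rc_21_0 lc_a_rc_21_0 lc_a_rc_21_0 lc_a_rc_3_2 lc_a_rc_3_2 lc_a_rc_3_2 lc_a_rc_2_2 lc_a_rc_4_2 lc_a_rc_0_1 lc_a_rc_21_0 lc_a_rc_1_4 lc_a_rc_2_0 lc_a_rc_4_2 lc_a_rc_3_2 lc_a_rc_4_2 lc_a_rc_1_4 lc_a_rc_3_0 lc_a_rc_0_1 lc_a_rc_4_2 lc_a_rc_3_0 lc_a_rc_0_1 lc_a_rc_3_0 lc_a_rc_4_2 lc_a_rc_3_2 lc_a_rc_3_2 lc_a_rc_5_2 lc_a_rc_3_2 lc_a_Cert_tree lc_a_rc_3_2)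 (@D3.rec (fun _ => (Cert rels S Gen.a)) lc_a_rc_4_2 lc_a_Cert_tree lc_a_rc_3_2 lc_a_rc_4_2 lc_a_rc_3_2 lc_a_rc_4_2 lc_a_rc_2_0 lc_a_rc_0_1 lc_a_rc_0_1 lc_a_rc_3_2 lc_a_rc_2_2 lc_a_rc_3_0 lc_a_rc_2_0 lc_a_rc_21_0 lc_a_Cert_tree lc_a_rc_22_0 lc_a_rc_2_0 lc_a_rc_2_2 lc_a_rc_3_0 lc_a_rc_3_2 lc_a_rc_1_4 lc_a_rc_4_2 lc_a_rc_5_0 lc_a_rc_5_2 lc_a_Cert_tree lc_a_rc_3_2 lc_a_rc_4_2 lc_a_rc_3_0 lc_a_rc_3_2 lc_a_rc_4_2 lc_a_Cert_tree lc_a_rc_0_1 lc_a_rc_0_1 lc_a_rc_3_2 lc_a_rc_21_0 lc_a_rc_2_2 lc_a_rc_5_0 lc_a_rc_4_2 lc_a_rc_4_2 lc_a_rc_2_2 lc_a_rc_3_2 lc_a_rc_2_2 lc_a_rc_4_2 lc_a_rc_21_0 lc_a_Cert_tree lc_a_rc_2_2 lc_a_rc_4_2 lc_a_rc_0_1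 lc_a_Cert_tree lc_a_rc_4_2 lc_a_Cert_tree lc_a_rc_2_2 lc_a_rc_0_1 lc_a_rc_2_0 lc_a_rc_4_2 lc_a_rc_4_2 lc_a_rc_4_2 lc_a_rc_3_2 lc_a_rc_2_2 lc_a_rc_4_2 lc_a_rc_5_0 lc_a_Cert_tree) (@D3.rec (fun _ => (Cert rels S Gen.a)) lc_a_rc_2_2 lc_a_rc_5_0 lc_a_rc_3_0 lc_a_rc_0_1 lc_a_rc_4_2 lc_a_rc_4_2 lc_a_rc_0_1 lc_a_rc_3_2 lc_a_rc_21_0 lc_a_rc_2_2 lc_a_rc_2_2 lc_a_rc_4_2 lc_a_rc_4_2 lc_a_rc_5_0 lc_a_rc_1_2 lc_a_Cert_tree lc_a_rc_4_2 lc_a_Cert_tree lc_a_rc_4_2 lc_a_rc_21_0 lc_a_rc_3_2 lc_a_rc_5_2 lc_a_rc_4_2 lc_a_rc_3_2 lc_a_rc_5_0 lc_a_rc_21_0 lc_a_rc_21_0 lc_a_rc_3_2 lc_a_rc_3_2 lc_a_rc_0_1 lc_a_rc_21_0 lc_a_rc_0_1 lc_a_rc_1_4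 lc_a_rc_4_2 lc_a_rc_4_2 lc_a_rc_2_2 lc_a_rc_21_0 lc_a_rc_3_2 lc_a_rc_2_2 lc_a_rc_5_0 lc_a_rc_21_0 lc_a_rc_4_2 lc_a_rc_3_2 lc_a_rc_0_1 lc_a_rc_0_1 lc_a_rc_4_2 lc_a_rc_3_0 lc_a_rc_4_2 lc_a_rc_3_2 lc_a_rc_5_2 lc_a_rc_21_0 lc_a_rc_2_2 lc_a_rc_0_1 lc_a_rc_2_2 lc_a_rc_1_4 lc_a_rc_4_2 lc_a_rc_4_2 lc_a_rc_3_2 lc_a_rc_5_2 lc_a_rc_0_1 lc_a_rc_0_1 lc_a_rc_1_4) (@D3.rec (fun _ => (Cert rels S Gen.a)) lc_a_rc_2_2 lc_a_rc_3_2 lc_a_rc_4_2 lc_a_rc_5_2 lc_a_rc_3_0 lc_a_rc_2_0 lc_a_rc_3_2 lc_a_rc_0_1 lc_a_rc_21_0 lc_a_rc_2_2 lc_a_rc_4_2 lc_a_rc_3_0 lc_a_rc_4_2 lc_a_rc_21_0 lc_a_rc_4_2 lc_a_Cert_tree lc_a_rc_4_2 lc_a_Cert_tree lc_a_rc_4_2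 lc_a_rc_2_2 lc_a_rc_0_1 lc_a_rc_5_2 lc_a_rc_4_2 lc_a_rc_2_2 lc_a_rc_5_0 lc_a_rc_3_2 lc_a_rc_3_2 lc_a_rc_2_2 lc_a_rc_3_2 lc_a_rc_2_2 lc_a_rc_4_2 lc_a_Cert_tree lc_a_rc_4_2 lc_a_Cert_tree lc_a_rc_2_0 lc_a_rc_2_0 lc_a_rc_0_1 lc_a_rc_3_2 lc_a_rc_4_2 lc_a_rc_4_2 lc_a_rc_4_2 lc_a_rc_3_2 lc_a_rc_5_2 lc_a_rc_4_2 lc_a_rc_4_2 lc_a_rc_21_0 lc_a_rc_1_4 lc_a_rc_2_2 lc_a_rc_4_2 lc_a_rc_3_0 lc_a_rc_2_2 lc_a_rc_3_2 lc_a_rc_21_0 lc_a_rc_0_1 lc_a_rc_4_2 lc_a_Cert_tree lc_a_rc_4_2 lc_a_rc_3_0 lc_a_rc_4_2 lc_a_rc_5_2 lc_a_Cert_tree lc_a_Cert_tree) (@D3.rec (fun _ => (Cert rels S Gen.a)) lc_a_Cert_tree lc_a_rc_2_0 lc_a_rc_0_1 lc_a_rc_3_2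 lc_a_rc_4_2 lc_a_rc_0_1 lc_a_rc_2_0 lc_a_rc_2_0 lc_a_rc_0_1 lc_a_rc_3_2 lc_a_rc_2_2 lc_a_rc_2_2 lc_a_rc_2_2 lc_a_rc_1_2 lc_a_rc_2_2 lc_a_rc_4_2 lc_a_rc_4_2 lc_a_rc_0_1 lc_a_Cert_tree lc_a_rc_3_2 lc_a_rc_3_2 lc_a_rc_4_2 lc_a_rc_0_1 lc_a_rc_3_2 lc_a_rc_4_2 lc_a_rc_4_2 lc_a_rc_4_2 lc_a_rc_21_0 lc_a_rc_3_2 lc_a_rc_5_2 lc_a_rc_4_2 lc_a_rc_0_1 lc_a_rc_0_1 lc_a_rc_5_0 lc_a_rc_21_0 lc_a_rc_21_0 lc_a_rc_3_2 lc_a_rc_2_2 lc_a_rc_4_2 lc_a_rc_2_2 lc_a_rc_3_2 lc_a_rc_4_2 lc_a_rc_4_2 lc_a_rc_0_1 lc_a_rc_5_2 lc_a_rc_3_2 lc_a_rc_3_0 lc_a_rc_1_2 lc_a_rc_3_2 lc_a_rc_2_2 lc_a_rc_4_2 lc_a_rc_3_2 lc_a_rc_3_0 lc_a_Cert_tree lc_a_rc_4_0 lc_a_rc_4_2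 lc_a_rc_2_0 lc_a_rc_0_1 lc_a_rc_1_4 lc_a_rc_4_2 lc_a_rc_22_0 lc_a_rc_3_2) (@D3.rec (fun _ => (Cert rels S Gen.a)) lc_a_rc_2_2 lc_a_rc_0_1 lc_a_rc_4_2 lc_a_rc_2_2 lc_a_rc_21_0 lc_a_rc_1_4 lc_a_rc_2_2 lc_a_rc_4_2 lc_a_rc_2_2 lc_a_rc_2_2 lc_a_Cert_tree lc_a_rc_2_2 lc_a_rc_2_2 lc_a_rc_0_1 lc_a_rc_3_2 lc_a_rc_4_0 lc_a_rc_2_2 lc_a_rc_5_2 lc_a_rc_2_2 lc_a_rc_2_2 lc_a_rc_2_0 lc_a_rc_0_1 lc_a_rc_21_0 lc_a_rc_22_0 lc_a_rc_4_2 lc_a_rc_2_2 lc_a_rc_2_2 lc_a_rc_2_2 lc_a_Cert_tree lc_a_rc_3_2 lc_a_rc_2_2 lc_a_rc_0_1 lc_a_rc_22_0 lc_a_rc_2_2 lc_a_rc_4_2 lc_a_rc_1_0 lc_a_rc_1_0 lc_a_rc_2_2 lc_a_rc_2_0 lc_a_rc_3_2 lc_a_rc_4_2 lc_a_rc_4_0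 lc_a_rc_21_0 lc_a_rc_3_0 lc_a_rc_0_1 lc_a_rc_3_2 lc_a_rc_1_4 lc_a_rc_4_2 lc_a_Cert_tree lc_a_rc_5_0 lc_a_Cert_tree lc_a_rc_0_1 lc_a_rc_21_0 lc_a_rc_0_1 lc_a_rc_22_0 lc_a_rc_2_2 lc_a_rc_4_2 lc_a_rc_4_2 lc_a_rc_2_2 lc_a_rc_3_2 lc_a_rc_5_2 lc_a_rc_4_2) (@D3.rec (fun _ => (Cert rels S Gen.a)) lc_a_rc_4_2 lc_a_rc_3_2 lc_a_rc_21_0 lc_a_rc_3_2 lc_a_rc_0_1 lc_a_rc_4_2 lc_a_rc_3_0 lc_a_rc_2_2 lc_a_rc_0_1 lc_a_rc_3_0 lc_a_rc_0_1 lc_a_rc_2_2 lc_a_rc_21_0 lc_a_rc_21_0 lc_a_rc_0_1 lc_a_rc_0_1 lc_a_rc_3_2 lc_a_rc_4_2 lc_a_rc_2_2 lc_a_rc_0_1 lc_a_rc_4_2 lc_a_rc_2_2 lc_a_rc_2_2 lc_a_rc_0_1 lc_a_rc_4_2 lc_a_rc_0_1 lc_a_rc_4_0 lc_a_rc_5_2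 lc_a_rc_0_1 lc_a_rc_0_1 lc_a_rc_0_1 lc_a_rc_21_0 lc_a_rc_2_2 lc_a_rc_2_2 lc_a_rc_0_1 lc_a_rc_3_2 lc_a_rc_5_0 lc_a_rc_4_2 lc_a_rc_4_2 lc_a_rc_3_2 lc_a_rc_2_2 lc_a_rc_4_2 lc_a_rc_2_0 lc_a_rc_3_2 lc_a_rc_3_2 lc_a_rc_3_0 lc_a_rc_0_1 lc_a_rc_4_2 lc_a_rc_3_2 lc_a_rc_2_2 lc_a_rc_2_2 lc_a_rc_4_0 lc_a_rc_0_1 lc_a_rc_4_2 lc_a_rc_5_2 lc_a_rc_2_2 lc_a_rc_4_2 lc_a_rc_0_1 lc_a_rc_4_2 lc_a_rc_3_2 lc_a_rc_21_0 lc_a_rc_0_1) (@D3.rec (fun _ => (Cert rels S Gen.a)) lc_a_Cert_tree lc_a_rc_4_2 lc_a_rc_21_0 lc_a_rc_4_2 lc_a_rc_1_4 lc_a_rc_0_1 lc_a_rc_5_2 lc_a_Cert_tree lc_a_rc_4_0 lc_a_rc_0_1 lc_a_rc_0_1 lc_a_rc_5_2 lc_a_rc_4_2 lc_a_rc_0_1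 lc_a_rc_3_2 lc_a_rc_21_0 lc_a_rc_4_2 lc_a_rc_1_4 lc_a_rc_5_2 lc_a_rc_3_2 lc_a_rc_0_1 lc_a_rc_22_0 lc_a_rc_3_0 lc_a_rc_3_2 lc_a_rc_4_2 lc_a_rc_1_2 lc_a_rc_3_0 lc_a_rc_21_0 lc_a_rc_1_4 lc_a_rc_5_2 lc_a_rc_2_2 lc_a_rc_2_2 lc_a_rc_4_2 lc_a_rc_3_2 lc_a_rc_21_0 lc_a_rc_0_1 lc_a_rc_0_1 lc_a_rc_1_2 lc_a_rc_3_2 lc_a_rc_21_0 lc_a_rc_4_2 lc_a_rc_3_2 lc_a_rc_3_2 lc_a_rc_3_2 lc_a_rc_1_4 lc_a_rc_4_2 lc_a_rc_2_0 lc_a_rc_2_2 lc_a_rc_3_2 lc_a_rc_5_2 lc_a_rc_0_1 lc_a_rc_21_0 lc_a_rc_21_0 lc_a_rc_0_1 lc_a_rc_4_2 lc_a_rc_0_1 lc_a_rc_2_2 lc_a_rc_21_0 lc_a_rc_2_2 lc_a_rc_21_0 lc_a_rc_3_2 lc_a_rc_3_2) (@D3.rec (fun _ => (Cert rels S Gen.a))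 lc_a_rc_4_2 lc_a_rc_2_2 lc_a_rc_0_1 lc_a_rc_4_2 lc_a_rc_0_1 lc_a_rc_4_2 lc_a_Cert_tree lc_a_rc_0_1 lc_a_rc_1_0 lc_a_rc_4_2 lc_a_rc_5_2 lc_a_rc_2_2 lc_a_rc_4_2 lc_a_rc_0_1 lc_a_rc_3_2 lc_a_rc_5_0 lc_a_rc_3_2 lc_a_rc_4_0 lc_a_rc_4_2 lc_a_rc_5_2 lc_a_rc_5_2 lc_a_rc_2_2 lc_a_rc_21_0 lc_a_rc_0_1 lc_a_Cert_tree lc_a_rc_4_2 lc_a_rc_4_2 lc_a_rc_5_0 lc_a_rc_5_2 lc_a_rc_3_2 lc_a_rc_0_1 lc_a_Cert_tree lc_a_rc_21_0 lc_a_rc_5_0 lc_a_rc_0_1 lc_a_rc_3_2 lc_a_rc_4_2 lc_a_rc_5_2 lc_a_rc_4_2 lc_a_rc_4_0 lc_a_rc_4_2 lc_a_rc_3_2 lc_a_Cert_tree lc_a_rc_2_2 lc_a_rc_21_0 lc_a_rc_5_0 lc_a_rc_3_2 lc_a_rc_21_0 lc_a_rc_4_2 lc_a_rc_0_1 lc_a_Cert_tree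 lc_a_rc_4_2 lc_a_rc_2_0 lc_a_rc_5_0 lc_a_rc_0_1 lc_a_rc_3_2 lc_a_rc_2_2 lc_a_rc_3_2 lc_a_rc_4_2 lc_a_rc_0_1 lc_a_rc_2_2 lc_a_rc_5_0)
def ce_a_12 : D2 → D3 → (Cert rels S Gen.a) := @D2.rec (fun _ => D3 → (Cert rels S Gen.a)) (@D3.rec (fun _ => (Cert rels S Gen.a)) lc_a_Cert_tree lc_a_rc_21_0 lc_a_rc_4_2 lc_a_rc_5_0 lc_a_rc_5_2 lc_a_rc_2_2 lc_a_Cert_tree lc_a_rc_3_2 lc_a_Cert_tree lc_a_rc_3_2 lc_a_Cert_tree lc_a_rc_3_2 lc_a_rc_2_2 lc_a_Cert_tree lc_a_rc_2_2 lc_a_rc_4_2 lc_a_rc_4_2 lc_a_rc_22_0 lc_a_Cert_tree lc_a_rc_2_2 lc_a_rc_21_0 lc_a_rc_3_2 lc_a_rc_4_2 lc_a_rc_3_2 lc_a_rc_2_0 lc_a_rc_21_0 lc_a_rc_0_1 lc_a_rc_3_2 lc_a_rc_0_1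 lc_a_rc_3_2 lc_a_rc_4_2 lc_a_rc_21_0 lc_a_rc_4_2 lc_a_rc_1_4 lc_a_rc_0_1 lc_a_rc_4_2 lc_a_rc_21_0 lc_a_rc_0_1 lc_a_rc_4_2 lc_a_rc_2_2 lc_a_rc_3_2 lc_a_rc_4_0 lc_a_rc_3_2 lc_a_rc_4_2 lc_a_Cert_tree lc_a_rc_2_2 lc_a_rc_2_2 lc_a_Cert_tree lc_a_rc_3_2 lc_a_Cert_tree lc_a_Cert_tree lc_a_rc_3_2 lc_a_Cert_tree lc_a_rc_0_1 lc_a_rc_0_1 lc_a_rc_3_2 lc_a_rc_1_4 lc_a_rc_3_2 lc_a_rc_22_0 lc_a_rc_4_2 lc_a_Cert_tree lc_a_rc_4_2) (@D3.rec (fun _ => (Cert rels S Gen.a)) lc_a_Cert_tree lc_a_rc_2_0 lc_a_rc_2_0 lc_a_rc_0_1 lc_a_rc_3_2 lc_a_rc_2_2 lc_a_rc_3_2 lc_a_rc_3_2 lc_a_rc_3_2 lc_a_rc_1_0 lc_a_rc_4_2 lc_a_rc_0_1 lc_a_rc_2_2 lc_a_rc_4_2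 lc_a_rc_3_2 lc_a_rc_4_2 lc_a_rc_4_2 lc_a_rc_2_0 lc_a_rc_1_2 lc_a_rc_21_0 lc_a_rc_5_2 lc_a_rc_4_2 lc_a_rc_21_0 lc_a_rc_3_2 lc_a_rc_4_2 lc_a_rc_0_1 lc_a_rc_5_2 lc_a_rc_21_0 lc_a_rc_4_2 lc_a_rc_3_2 lc_a_rc_3_2 lc_a_rc_3_0 lc_a_rc_5_0 lc_a_rc_2_2 lc_a_rc_0_1 lc_a_rc_4_2 lc_a_rc_4_2 lc_a_rc_4_2 lc_a_rc_4_2 lc_a_rc_0_1 lc_a_rc_21_0 lc_a_rc_1_2 lc_a_rc_5_2 lc_a_rc_3_2 lc_a_rc_5_2 lc_a_rc_0_1 lc_a_rc_21_0 lc_a_rc_2_2 lc_a_rc_3_2 lc_a_rc_1_4 lc_a_rc_22_0 lc_a_rc_4_2 lc_a_rc_3_2 lc_a_rc_2_2 lc_a_rc_1_4 lc_a_rc_2_2 lc_a_rc_4_2 lc_a_rc_2_0 lc_a_rc_5_0 lc_a_rc_2_2 lc_a_rc_3_2 lc_a_rc_5_2) (@D3.rec (fun _ => (Cert rels S Gen.a)) lc_a_rc_3_0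 lc_a_rc_1_4 lc_a_rc_21_0 lc_a_rc_2_2 lc_a_rc_5_0 lc_a_rc_3_2 lc_a_rc_5_2 lc_a_rc_3_2 lc_a_rc_2_2 lc_a_rc_3_2 lc_a_rc_3_2 lc_a_rc_4_2 lc_a_rc_3_2 lc_a_rc_4_2 lc_a_rc_2_2 lc_a_rc_3_2 lc_a_rc_5_2 lc_a_rc_4_2 lc_a_rc_0_1 lc_a_rc_21_0 lc_a_rc_3_2 lc_a_rc_5_2 lc_a_rc_3_2 lc_a_rc_4_2 lc_a_rc_1_4 lc_a_rc_21_0 lc_a_rc_4_2 lc_a_rc_3_2 lc_a_rc_3_2 lc_a_rc_3_2 lc_a_rc_3_2 lc_a_rc_5_2 lc_a_rc_3_2 lc_a_rc_4_2 lc_a_rc_1_4 lc_a_rc_4_2 lc_a_rc_4_2 lc_a_rc_21_0 lc_a_rc_0_1 lc_a_rc_3_2 lc_a_rc_2_2 lc_a_rc_3_2 lc_a_rc_4_0 lc_a_rc_0_1 lc_a_rc_3_0 lc_a_rc_0_1 lc_a_rc_2_0 lc_a_rc_3_2 lc_a_rc_2_2 lc_a_rc_2_2 lc_a_rc_5_2 lc_a_rc_3_2 lc_a_rc_4_2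 lc_a_rc_1_4 lc_a_rc_5_2 lc_a_rc_3_2 lc_a_rc_21_0 lc_a_rc_21_0 lc_a_rc_0_1 lc_a_rc_1_0 lc_a_rc_21_0 lc_a_rc_2_2) (@D3.rec (fun _ => (Cert rels S Gen.a)) lc_a_rc_2_2 lc_a_rc_4_2 lc_a_rc_0_1 lc_a_rc_3_2 lc_a_rc_2_2 lc_a_rc_21_0 lc_a_rc_0_1 lc_a_rc_2_2 lc_a_rc_2_2 lc_a_rc_3_2 lc_a_rc_21_0 lc_a_rc_4_2 lc_a_rc_2_2 lc_a_rc_3_2 lc_a_rc_4_2 lc_a_rc_0_1 lc_a_rc_4_2 lc_a_rc_4_0 lc_a_rc_2_2 lc_a_Cert_tree lc_a_rc_4_0 lc_a_rc_1_4 lc_a_rc_21_0 lc_a_Cert_tree lc_a_Cert_tree lc_a_rc_4_2 lc_a_rc_3_2 lc_a_rc_2_2 lc_a_rc_0_1 lc_a_rc_3_2 lc_a_rc_4_2 lc_a_rc_4_0 lc_a_rc_4_2 lc_a_rc_3_2 lc_a_Cert_tree lc_a_rc_2_2 lc_a_rc_5_0 lc_a_rc_4_2 lc_a_rc_2_2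 lc_a_rc_21_0 lc_a_rc_4_2 lc_a_rc_2_2 lc_a_rc_5_0 lc_a_rc_2_2 lc_a_Cert_tree lc_a_rc_3_2 lc_a_rc_5_2 lc_a_rc_3_2 lc_a_rc_21_0 lc_a_rc_0_1 lc_a_rc_2_2 lc_a_rc_2_2 lc_a_rc_2_2 lc_a_rc_5_0 lc_a_rc_3_2 lc_a_rc_21_0 lc_a_rc_1_2 lc_a_Cert_tree lc_a_rc_4_2 lc_a_rc_2_2 lc_a_rc_4_2 lc_a_Cert_tree) (@D3.rec (fun _ => (Cert rels S Gen.a)) lc_a_rc_4_2 lc_a_rc_4_2 lc_a_rc_2_0 lc_a_rc_4_2 lc_a_rc_3_2 lc_a_rc_5_0 lc_a_rc_5_2 lc_a_rc_3_2 lc_a_rc_4_2 lc_a_rc_4_2 lc_a_rc_2_2 lc_a_rc_2_2 lc_a_rc_0_1 lc_a_rc_5_2 lc_a_rc_21_0 lc_a_rc_5_2 lc_a_rc_2_0 lc_a_rc_2_2 lc_a_rc_21_0 lc_a_rc_2_2 lc_a_rc_0_1 lc_a_rc_4_2 lc_a_rc_2_2 lc_a_rc_0_1 lc_a_Cert_tree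 lc_a_rc_5_0 lc_a_rc_0_1 lc_a_rc_5_0 lc_a_rc_21_0 lc_a_rc_1_2 lc_a_rc_3_2 lc_a_rc_4_0 lc_a_rc_22_0 lc_a_rc_4_2 lc_a_rc_4_2 lc_a_rc_3_2 lc_a_rc_2_2 lc_a_rc_0_1 lc_a_rc_1_4 lc_a_rc_3_2 lc_a_rc_4_2 lc_a_rc_3_2 lc_a_Cert_tree lc_a_rc_2_2 lc_a_rc_5_2 lc_a_rc_3_2 lc_a_rc_3_2 lc_a_rc_4_2 lc_a_rc_2_2 lc_a_rc_21_0 lc_a_rc_21_0 lc_a_rc_3_0 lc_a_rc_2_2 lc_a_rc_1_4 lc_a_rc_3_0 lc_a_rc_3_0 lc_a_rc_0_1 lc_a_rc_3_2 lc_a_rc_3_2 lc_a_Cert_tree lc_a_rc_2_2 lc_a_rc_4_2) (@D3.rec (fun _ => (Cert rels S Gen.a)) lc_a_rc_1_4 lc_a_rc_0_1 lc_a_rc_4_2 lc_a_rc_3_2 lc_a_rc_3_0 lc_a_rc_2_2 lc_a_rc_3_2 lc_a_rc_3_2 lc_a_rc_4_2 lc_a_rc_21_0 lc_a_rc_4_2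 lc_a_rc_3_2 lc_a_rc_21_0 lc_a_rc_4_2 lc_a_rc_2_2 lc_a_rc_3_2 lc_a_rc_5_0 lc_a_rc_2_2 lc_a_Cert_tree lc_a_rc_5_0 lc_a_rc_4_0 lc_a_rc_0_1 lc_a_rc_3_2 lc_a_rc_3_2 lc_a_rc_4_2 lc_a_rc_3_2 lc_a_rc_21_0 lc_a_rc_3_2 lc_a_rc_21_0 lc_a_rc_2_2 lc_a_rc_5_2 lc_a_rc_3_2 lc_a_rc_2_2 lc_a_rc_4_2 lc_a_rc_3_2 lc_a_rc_3_2 lc_a_rc_2_2 lc_a_rc_4_2 lc_a_rc_3_2 lc_a_rc_3_2 lc_a_rc_3_2 lc_a_rc_0_1 lc_a_rc_2_0 lc_a_Cert_tree lc_a_rc_3_2 lc_a_rc_21_0 lc_a_rc_4_2 lc_a_rc_3_0 lc_a_rc_0_1 lc_a_rc_0_1 lc_a_rc_4_2 lc_a_rc_4_2 lc_a_rc_2_2 lc_a_rc_3_2 lc_a_rc_5_2 lc_a_rc_3_2 lc_a_rc_2_2 lc_a_rc_21_0 lc_a_rc_3_2 lc_a_rc_4_2 lc_a_rc_4_2 lc_a_rc_5_0) (@D3.rec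 (fun _ => (Cert rels S Gen.a)) lc_a_rc_22_0 lc_a_rc_2_2 lc_a_rc_4_2 lc_a_rc_3_2 lc_a_rc_3_2 lc_a_Cert_tree lc_a_rc_2_2 lc_a_rc_22_0 lc_a_rc_3_0 lc_a_rc_2_2 lc_a_rc_3_2 lc_a_rc_0_1 lc_a_rc_21_0 lc_a_rc_0_1 lc_a_rc_3_2 lc_a_rc_3_2 lc_a_rc_2_2 lc_a_rc_4_2 lc_a_rc_2_2 lc_a_rc_4_2 lc_a_rc_0_1 lc_a_rc_5_0 lc_a_rc_2_0 lc_a_rc_3_2 lc_a_rc_2_2 lc_a_rc_4_2 lc_a_rc_5_0 lc_a_rc_0_1 lc_a_rc_5_2 lc_a_rc_5_0 lc_a_rc_21_0 lc_a_rc_22_0 lc_a_rc_4_2 lc_a_rc_2_0 lc_a_rc_2_2 lc_a_rc_22_0 lc_a_rc_3_0 lc_a_rc_5_2 lc_a_rc_4_2 lc_a_rc_2_2 lc_a_Cert_tree lc_a_rc_3_2 lc_a_rc_22_0 lc_a_rc_4_2 lc_a_rc_21_0 lc_a_rc_2_2 lc_a_rc_4_2 lc_a_rc_2_2 lc_a_rc_4_2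 lc_a_rc_4_2 lc_a_rc_2_0 lc_a_rc_5_0 lc_a_rc_5_2 lc_a_rc_4_2 lc_a_rc_3_2 lc_a_rc_5_0 lc_a_rc_4_2 lc_a_rc_4_2 lc_a_rc_21_0 lc_a_rc_2_2 lc_a_rc_4_2 lc_a_rc_4_2) (@D3.rec (fun _ => (Cert rels S Gen.a)) lc_a_rc_21_0 lc_a_rc_0_1 lc_a_rc_4_2 lc_a_rc_5_2 lc_a_rc_2_2 lc_a_rc_3_2 lc_a_rc_21_0 lc_a_rc_3_2 lc_a_rc_4_2 lc_a_rc_3_0 lc_a_rc_3_2 lc_a_rc_4_2 lc_a_rc_5_2 lc_a_rc_0_1 lc_a_rc_4_0 lc_a_rc_3_0 lc_a_rc_3_2 lc_a_rc_4_2 lc_a_rc_3_2 lc_a_rc_4_2 lc_a_rc_2_2 lc_a_rc_5_2 lc_a_rc_4_2 lc_a_rc_0_1 lc_a_rc_3_2 lc_a_rc_5_2 lc_a_rc_2_2 lc_a_rc_1_4 lc_a_rc_4_2 lc_a_rc_21_0 lc_a_rc_3_2 lc_a_rc_5_2 lc_a_rc_4_2 lc_a_rc_4_2 lc_a_rc_0_1 lc_a_rc_21_0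 lc_a_rc_3_2 lc_a_rc_5_2 lc_a_Cert_tree lc_a_rc_2_2 lc_a_rc_5_0 lc_a_rc_4_2 lc_a_rc_3_2 lc_a_rc_21_0 lc_a_rc_4_2 lc_a_rc_3_0 lc_a_rc_3_2 lc_a_rc_1_2 lc_a_rc_1_4 lc_a_rc_4_2 lc_a_rc_5_2 lc_a_rc_0_1 lc_a_rc_0_1 lc_a_rc_3_2 lc_a_rc_3_2 lc_a_rc_4_0 lc_a_rc_5_0 lc_a_rc_4_2 lc_a_rc_0_1 lc_a_rc_21_0 lc_a_rc_21_0 lc_a_rc_1_0) (@D3.rec (fun _ => (Cert rels S Gen.a)) lc_a_rc_0_1 lc_a_rc_2_2 lc_a_rc_3_2 lc_a_rc_4_2 lc_a_rc_2_2 lc_a_rc_0_1 lc_a_rc_2_0 lc_a_rc_2_2 lc_a_rc_2_2 lc_a_rc_3_2 lc_a_rc_4_2 lc_a_rc_0_1 lc_a_rc_21_0 lc_a_rc_4_2 lc_a_rc_2_2 lc_a_rc_21_0 lc_a_rc_22_0 lc_a_rc_4_0 lc_a_rc_5_2 lc_a_rc_0_1 lc_a_rc_4_2 lc_a_rc_4_2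 lc_a_rc_0_1 lc_a_rc_2_0 lc_a_rc_4_2 lc_a_rc_5_2 lc_a_rc_2_2 lc_a_rc_4_2 lc_a_rc_4_2 lc_a_rc_0_1 lc_a_rc_21_0 lc_a_rc_4_2 lc_a_rc_2_2 lc_a_rc_3_2 lc_a_rc_4_2 lc_a_rc_0_1 lc_a_rc_3_2 lc_a_rc_5_2 lc_a_rc_1_0 lc_a_rc_4_2 lc_a_rc_21_0 lc_a_rc_2_2 lc_a_rc_1_4 lc_a_rc_0_1 lc_a_rc_3_2 lc_a_rc_2_2 lc_a_rc_4_2 lc_a_rc_2_2 lc_a_rc_4_2 lc_a_rc_4_2 lc_a_rc_3_2 lc_a_rc_3_2 lc_a_rc_1_4 lc_a_rc_4_2 lc_a_rc_21_0 lc_a_rc_4_2 lc_a_rc_3_2 lc_a_rc_1_2 lc_a_rc_4_2 lc_a_Cert_tree lc_a_rc_21_0 lc_a_rc_0_1) (@D3.rec (fun _ => (Cert rels S Gen.a)) lc_a_rc_0_1 lc_a_rc_0_1 lc_a_rc_0_1 lc_a_rc_3_2 lc_a_rc_5_2 lc_a_rc_4_2 lc_a_rc_4_2 lc_a_rc_4_2 lc_a_rc_1_4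 lc_a_rc_4_2 lc_a_rc_2_0 lc_a_rc_0_1 lc_a_rc_3_2 lc_a_rc_5_2 lc_a_rc_3_0 lc_a_rc_3_0 lc_a_rc_2_2 lc_a_rc_5_2 lc_a_rc_2_2 lc_a_rc_3_2 lc_a_rc_4_2 lc_a_rc_1_2 lc_a_rc_2_2 lc_a_rc_5_2 lc_a_rc_4_2 lc_a_rc_21_0 lc_a_rc_4_2 lc_a_rc_2_2 lc_a_rc_4_2 lc_a_rc_3_2 lc_a_rc_2_2 lc_a_rc_4_2 lc_a_rc_21_0 lc_a_rc_5_2 lc_a_rc_4_2 lc_a_rc_5_0 lc_a_rc_3_2 lc_a_rc_3_2 lc_a_rc_5_2 lc_a_rc_3_2 lc_a_rc_21_0 lc_a_rc_2_2 lc_a_rc_3_2 lc_a_rc_4_2 lc_a_rc_2_2 lc_a_rc_0_1 lc_a_rc_2_2 lc_a_rc_3_2 lc_a_rc_4_2 lc_a_rc_4_2 lc_a_rc_4_2 lc_a_rc_4_2 lc_a_rc_3_2 lc_a_rc_4_2 lc_a_rc_4_2 lc_a_rc_4_2 lc_a_rc_4_2 lc_a_rc_2_0 lc_a_rc_5_2 lc_a_rc_4_0 lc_a_rc_2_2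 lc_a_rc_3_0) (@D3.rec (fun _ => (Cert rels S Gen.a)) lc_a_rc_4_2 lc_a_rc_2_0 lc_a_rc_2_2 lc_a_rc_3_2 lc_a_rc_21_0 lc_a_rc_4_2 lc_a_rc_2_0 lc_a_rc_1_0 lc_a_rc_2_2 lc_a_rc_4_2 lc_a_rc_3_0 lc_a_rc_4_2 lc_a_rc_5_0 lc_a_rc_3_2 lc_a_rc_21_0 lc_a_rc_4_2 lc_a_rc_3_2 lc_a_rc_5_2 lc_a_rc_2_0 lc_a_rc_4_2 lc_a_rc_3_0 lc_a_rc_2_0 lc_a_rc_4_2 lc_a_rc_0_1 lc_a_rc_5_2 lc_a_rc_0_1 lc_a_rc_1_4 lc_a_rc_2_0 lc_a_rc_2_0 lc_a_rc_2_2 lc_a_rc_21_0 lc_a_rc_3_2 lc_a_rc_4_2 lc_a_rc_5_2 lc_a_rc_4_2 lc_a_rc_0_1 lc_a_rc_21_0 lc_a_rc_0_1 lc_a_rc_0_1 lc_a_rc_0_1 lc_a_rc_0_1 lc_a_rc_1_4 lc_a_rc_0_1 lc_a_rc_2_0 lc_a_rc_2_0 lc_a_rc_3_2 lc_a_rc_2_2 lc_a_rc_4_2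 lc_a_rc_21_0 lc_a_rc_0_1 lc_a_rc_2_2 lc_a_rc_1_2 lc_a_rc_4_2 lc_a_rc_2_2 lc_a_rc_4_2 lc_a_rc_1_2 lc_a_rc_4_2 lc_a_rc_4_0 lc_a_rc_4_2 lc_a_rc_4_2 lc_a_rc_4_2 lc_a_rc_4_2) (@D3.rec (fun _ => (Cert rels S Gen.a)) lc_a_rc_21_0 lc_a_rc_4_2 lc_a_rc_3_0 lc_a_rc_3_2 lc_a_rc_4_0 lc_a_rc_5_0 lc_a_rc_0_1 lc_a_Cert_tree lc_a_rc_3_2 lc_a_rc_21_0 lc_a_rc_0_1 lc_a_rc_4_2 lc_a_rc_2_2 lc_a_rc_5_0 lc_a_rc_3_2 lc_a_rc_5_2 lc_a_rc_2_2 lc_a_rc_3_2 lc_a_Cert_tree lc_a_rc_2_2 lc_a_rc_2_2 lc_a_rc_4_2 lc_a_rc_5_2 lc_a_rc_3_2 lc_a_rc_3_0 lc_a_rc_3_2 lc_a_rc_21_0 lc_a_rc_3_0 lc_a_Cert_tree lc_a_rc_22_0 lc_a_rc_5_2 lc_a_rc_21_0 lc_a_rc_2_0 lc_a_rc_4_2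 lc_a_rc_3_2 lc_a_rc_2_2 lc_a_rc_2_2 lc_a_rc_2_2 lc_a_rc_4_0 lc_a_rc_22_0 lc_a_Cert_tree lc_a_rc_3_2 lc_a_Cert_tree lc_a_rc_5_2 lc_a_rc_4_2 lc_a_Cert_tree lc_a_rc_5_0 lc_a_Cert_tree lc_a_rc_2_2 lc_a_Cert_tree lc_a_rc_3_2 lc_a_rc_4_2 lc_a_rc_0_1 lc_a_rc_0_1 lc_a_rc_3_2 lc_a_rc_2_2 lc_a_rc_2_0 lc_a_rc_4_2 lc_a_rc_3_2 lc_a_rc_2_2 lc_a_rc_5_0 lc_a_rc_3_2) (@D3.rec (fun _ => (Cert rels S Gen.a)) lc_a_rc_4_2 lc_a_rc_4_2 lc_a_rc_2_2 lc_a_rc_3_0 lc_a_rc_4_0 lc_a_Cert_tree lc_a_rc_2_2 lc_a_Cert_tree lc_a_rc_0_1 lc_a_rc_0_1 lc_a_rc_3_2 lc_a_rc_3_2 lc_a_rc_22_0 lc_a_rc_1_2 lc_a_rc_21_0 lc_a_rc_4_2 lc_a_rc_1_4 lc_a_rc_0_1 lc_a_rc_4_2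 lc_a_rc_4_2 lc_a_rc_3_2 lc_a_rc_2_2 lc_a_rc_2_2 lc_a_Cert_tree lc_a_rc_3_2 lc_a_rc_1_2 lc_a_rc_0_1 lc_a_rc_2_0 lc_a_rc_3_2 lc_a_rc_2_2 lc_a_rc_21_0 lc_a_rc_0_1 lc_a_Cert_tree lc_a_rc_3_2 lc_a_rc_3_2 lc_a_rc_5_0 lc_a_rc_5_0 lc_a_rc_4_2 lc_a_rc_4_2 lc_a_rc_3_2 lc_a_rc_21_0 lc_a_rc_3_2 lc_a_Cert_tree lc_a_rc_3_2 lc_a_rc_0_1 lc_a_rc_4_2 lc_a_rc_2_2 lc_a_rc_2_2 lc_a_rc_0_1 lc_a_rc_1_2 lc_a_rc_4_2 lc_a_rc_2_0 lc_a_rc_4_2 lc_a_rc_22_0 lc_a_rc_4_2 lc_a_rc_2_0 lc_a_rc_2_0 lc_a_rc_4_2 lc_a_rc_5_2 lc_a_rc_5_2 lc_a_rc_3_2 lc_a_rc_2_2) (@D3.rec (fun _ => (Cert rels S Gen.a)) lc_a_rc_5_2 lc_a_rc_1_4 lc_a_rc_3_2 lc_a_rc_22_0 lc_a_rc_21_0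 lc_a_rc_2_2 lc_a_rc_2_2 lc_a_rc_4_2 lc_a_rc_2_2 lc_a_rc_21_0 lc_a_Cert_tree lc_a_rc_3_2 lc_a_Cert_tree lc_a_rc_21_0 lc_a_rc_4_2 lc_a_rc_1_2 lc_a_rc_5_2 lc_a_Cert_tree lc_a_rc_3_2 lc_a_rc_2_2 lc_a_Cert_tree lc_a_rc_3_2 lc_a_rc_3_2 lc_a_rc_5_0 lc_a_rc_2_2 lc_a_rc_0_1 lc_a_rc_3_2 lc_a_rc_2_2 lc_a_rc_3_2 lc_a_rc_2_2 lc_a_rc_4_2 lc_a_Cert_tree lc_a_rc_4_2 lc_a_rc_3_0 lc_a_rc_0_1 lc_a_rc_0_1 lc_a_rc_3_2 lc_a_rc_21_0 lc_a_rc_0_1 lc_a_rc_1_4 lc_a_rc_2_2 lc_a_rc_3_0 lc_a_rc_2_2 lc_a_rc_5_0 lc_a_rc_5_0 lc_a_Cert_tree lc_a_rc_3_2 lc_a_rc_2_2 lc_a_rc_2_2 lc_a_rc_22_0 lc_a_Cert_tree lc_a_rc_3_2 lc_a_rc_21_0 lc_a_rc_5_0 lc_a_rc_0_1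 lc_a_rc_3_2 lc_a_rc_4_2 lc_a_rc_1_4 lc_a_rc_3_2 lc_a_rc_21_0 lc_a_rc_2_2 lc_a_rc_3_2) (@D3.rec (fun _ => (Cert rels S Gen.a)) lc_a_rc_0_1 lc_a_rc_21_0 lc_a_Cert_tree lc_a_rc_4_2 lc_a_rc_2_0 lc_a_rc_2_0 lc_a_rc_5_2 lc_a_rc_2_0 lc_a_rc_5_0 lc_a_rc_0_1 lc_a_rc_0_1 lc_a_rc_3_2 lc_a_rc_5_2 lc_a_rc_1_2 lc_a_rc_21_0 lc_a_rc_4_2 lc_a_rc_1_2 lc_a_rc_5_2 lc_a_rc_3_2 lc_a_rc_4_2 lc_a_rc_0_1 lc_a_rc_4_2 lc_a_rc_3_2 lc_a_rc_1_0 lc_a_rc_3_2 lc_a_rc_5_2 lc_a_Cert_tree lc_a_Cert_tree lc_a_Cert_tree lc_a_rc_3_2 lc_a_rc_2_2 lc_a_rc_3_2 lc_a_rc_3_2 lc_a_rc_4_2 lc_a_Cert_tree lc_a_rc_3_2 lc_a_rc_4_0 lc_a_rc_3_2 lc_a_rc_21_0 lc_a_rc_22_0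 lc_a_rc_4_2 lc_a_rc_4_2 lc_a_rc_3_2 lc_a_rc_0_1 lc_a_rc_4_2 lc_a_rc_0_1 lc_a_rc_5_2 lc_a_rc_3_2 lc_a_rc_1_2 lc_a_rc_4_0 lc_a_rc_21_0 lc_a_rc_0_1 lc_a_rc_3_0 lc_a_rc_22_0 lc_a_rc_1_4 lc_a_rc_2_2 lc_a_rc_0_1 lc_a_rc_0_1 lc_a_rc_4_2 lc_a_rc_2_2 lc_a_rc_4_2 lc_a_rc_2_2) (@D3.rec (fun _ => (Cert rels S Gen.a)) lc_a_rc_2_2 lc_a_rc_1_2 lc_a_rc_22_0 lc_a_rc_1_0 lc_a_rc_3_0 lc_a_rc_3_2 lc_a_rc_4_0 lc_a_rc_3_2 lc_a_rc_3_2 lc_a_rc_4_2 lc_a_rc_3_2 lc_a_rc_3_0 lc_a_rc_3_0 lc_a_rc_3_0 lc_a_rc_3_0 lc_a_rc_3_0 lc_a_rc_22_0 lc_a_rc_4_2 lc_a_rc_0_1 lc_a_rc_2_0 lc_a_rc_5_2 lc_a_rc_2_2 lc_a_rc_3_0 lc_a_rc_4_0 lc_a_rc_0_1 lc_a_rc_3_2 lc_a_rc_22_0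 lc_a_rc_2_0 lc_a_rc_0_1 lc_a_rc_21_0 lc_a_rc_4_2 lc_a_rc_21_0 lc_a_rc_0_1 lc_a_rc_0_1 lc_a_rc_3_2 lc_a_Cert_tree lc_a_rc_4_2 lc_a_Cert_tree lc_a_rc_3_2 lc_a_rc_3_2 lc_a_rc_0_1 lc_a_rc_3_2 lc_a_rc_0_1 lc_a_Cert_tree lc_a_rc_2_0 lc_a_rc_3_2 lc_a_rc_21_0 lc_a_rc_3_2 lc_a_rc_3_0 lc_a_rc_1_4 lc_a_rc_2_2 lc_a_rc_2_0 lc_a_rc_3_2 lc_a_rc_0_1 lc_a_rc_21_0 lc_a_rc_3_2 lc_a_rc_2_2 lc_a_rc_4_2 lc_a_rc_3_2 lc_a_rc_21_0 lc_a_rc_4_0 lc_a_rc_4_2) (@D3.rec (fun _ => (Cert rels S Gen.a)) lc_a_Cert_tree lc_a_rc_3_2 lc_a_rc_4_2 lc_a_rc_0_1 lc_a_rc_1_2 lc_a_rc_1_2 lc_a_rc_2_0 lc_a_rc_21_0 lc_a_rc_21_0 lc_a_rc_3_2 lc_a_rc_4_2 lc_a_rc_21_0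 lc_a_Cert_tree lc_a_rc_2_2 lc_a_rc_2_2 lc_a_rc_5_0 lc_a_rc_0_1 lc_a_rc_4_2 lc_a_rc_1_2 lc_a_rc_4_0 lc_a_rc_3_2 lc_a_rc_5_2 lc_a_rc_3_0 lc_a_rc_3_2 lc_a_rc_2_2 lc_a_rc_21_0 lc_a_Cert_tree lc_a_rc_3_2 lc_a_rc_2_2 lc_a_rc_4_2 lc_a_rc_21_0 lc_a_rc_2_2 lc_a_rc_4_2 lc_a_rc_2_2 lc_a_rc_0_1 lc_a_rc_2_0 lc_a_Cert_tree lc_a_rc_0_1 lc_a_rc_2_2 lc_a_rc_3_0 lc_a_rc_0_1 lc_a_rc_3_2 lc_a_rc_5_2 lc_a_rc_21_0 lc_a_rc_3_2 lc_a_rc_2_2 lc_a_rc_1_2 lc_a_rc_3_2 lc_a_rc_2_2 lc_a_rc_5_2 lc_a_rc_3_2 lc_a_rc_3_2 lc_a_rc_4_2 lc_a_rc_3_0 lc_a_rc_2_2 lc_a_rc_1_4 lc_a_rc_2_2 lc_a_rc_3_0 lc_a_rc_5_2 lc_a_rc_4_0 lc_a_rc_2_0 lc_a_Cert_tree) (@D3.rec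 (fun _ => (Cert rels S Gen.a)) lc_a_rc_3_2 lc_a_rc_2_2 lc_a_rc_0_1 lc_a_rc_5_0 lc_a_rc_3_2 lc_a_rc_3_2 lc_a_rc_4_2 lc_a_rc_3_2 lc_a_rc_5_0 lc_a_Cert_tree lc_a_rc_3_2 lc_a_Cert_tree lc_a_rc_3_2 lc_a_Cert_tree lc_a_rc_3_2 lc_a_rc_4_2 lc_a_rc_4_2 lc_a_rc_0_1 lc_a_rc_3_2 lc_a_rc_3_0 lc_a_rc_2_0 lc_a_rc_5_0 lc_a_rc_5_2 lc_a_rc_4_0 lc_a_rc_3_0 lc_a_rc_2_2 lc_a_rc_4_2 lc_a_rc_3_2 lc_a_rc_21_0 lc_a_rc_5_2 lc_a_rc_2_0 lc_a_rc_0_1 lc_a_rc_5_2 lc_a_rc_4_2 lc_a_rc_2_2 lc_a_rc_0_1 lc_a_rc_0_1 lc_a_Cert_tree lc_a_rc_5_2 lc_a_rc_2_2 lc_a_rc_4_2 lc_a_rc_5_0 lc_a_rc_2_2 lc_a_rc_21_0 lc_a_rc_2_2 lc_a_rc_0_1 lc_a_rc_4_2 lc_a_rc_3_0 lc_a_rc_3_2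 lc_a_rc_0_1 lc_a_rc_21_0 lc_a_rc_0_1 lc_a_rc_3_2 lc_a_rc_4_2 lc_a_rc_22_0 lc_a_rc_2_2 lc_a_Cert_tree lc_a_rc_22_0 lc_a_rc_0_1 lc_a_rc_3_2 lc_a_rc_3_2 lc_a_Cert_tree) (@D3.rec (fun _ => (Cert rels S Gen.a)) lc_a_rc_2_2 lc_a_rc_4_2 lc_a_rc_2_0 lc_a_rc_0_1 lc_a_rc_3_2 lc_a_rc_5_0 lc_a_rc_0_1 lc_a_rc_2_2 lc_a_rc_3_2 lc_a_rc_4_0 lc_a_rc_3_2 lc_a_rc_2_2 lc_a_rc_0_1 lc_a_rc_2_2 lc_a_Cert_tree lc_a_rc_3_0 lc_a_rc_2_2 lc_a_rc_0_1 lc_a_Cert_tree lc_a_rc_3_2 lc_a_rc_3_2 lc_a_rc_3_0 lc_a_rc_3_0 lc_a_rc_2_2 lc_a_rc_1_4 lc_a_Cert_tree lc_a_rc_4_2 lc_a_rc_2_0 lc_a_rc_5_0 lc_a_rc_0_1 lc_a_rc_22_0 lc_a_rc_4_2 lc_a_Cert_tree lc_a_rc_3_2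 lc_a_Cert_tree lc_a_rc_3_2 lc_a_rc_4_2 lc_a_Cert_tree lc_a_rc_5_2 lc_a_rc_2_0 lc_a_rc_1_4 lc_a_rc_2_0 lc_a_rc_5_2 lc_a_rc_2_2 lc_a_rc_0_1 lc_a_rc_3_2 lc_a_rc_2_2 lc_a_rc_4_2 lc_a_rc_3_2 lc_a_rc_4_0 lc_a_rc_2_0 lc_a_Cert_tree lc_a_rc_4_2 lc_a_rc_4_2 lc_a_rc_4_2 lc_a_rc_3_0 lc_a_rc_4_0 lc_a_rc_21_0 lc_a_rc_4_2 lc_a_Cert_tree lc_a_rc_2_2 lc_a_rc_2_0) (@D3.rec (fun _ => (Cert rels S Gen.a)) lc_a_Cert_tree lc_a_rc_4_2 lc_a_rc_21_0 lc_a_rc_5_2 lc_a_Cert_tree lc_a_rc_3_2 lc_a_rc_4_2 lc_a_Cert_tree lc_a_rc_3_2 lc_a_rc_0_1 lc_a_rc_3_2 lc_a_rc_2_2 lc_a_rc_2_2 lc_a_rc_5_0 lc_a_rc_0_1 lc_a_rc_3_2 lc_a_rc_2_2 lc_a_rc_2_2 lc_a_rc_0_1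 lc_a_rc_4_2 lc_a_rc_1_4 lc_a_rc_2_0 lc_a_rc_0_1 lc_a_rc_5_2 lc_a_rc_2_2 lc_a_rc_3_2 lc_a_rc_5_0 lc_a_rc_4_2 lc_a_Cert_tree lc_a_rc_2_2 lc_a_rc_4_2 lc_a_rc_2_0 lc_a_rc_21_0 lc_a_rc_3_0 lc_a_rc_4_2 lc_a_rc_4_0 lc_a_rc_3_2 lc_a_rc_3_2 lc_a_rc_5_2 lc_a_rc_1_4 lc_a_Cert_tree lc_a_rc_4_0 lc_a_rc_0_1 lc_a_rc_3_0 lc_a_rc_21_0 lc_a_rc_4_2 lc_a_rc_5_0 lc_a_rc_5_2 lc_a_rc_5_2 lc_a_rc_21_0 lc_a_rc_2_0 lc_a_rc_5_0 lc_a_rc_0_1 lc_a_rc_3_2 lc_a_rc_4_2 lc_a_rc_4_2 lc_a_rc_0_1 lc_a_rc_2_0 lc_a_rc_0_1 lc_a_rc_4_2 lc_a_rc_5_2 lc_a_rc_4_2) (@D3.rec (fun _ => (Cert rels S Gen.a)) lc_a_rc_0_1 lc_a_rc_2_2 lc_a_rc_2_2 lc_a_rc_2_2 lc_a_rc_4_2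 lc_a_rc_3_2 lc_a_rc_3_2 lc_a_rc_3_2 lc_a_rc_5_2 lc_a_rc_21_0 lc_a_rc_4_2 lc_a_rc_1_2 lc_a_rc_0_1 lc_a_rc_2_2 lc_a_rc_3_2 lc_a_rc_3_0 lc_a_rc_0_1 lc_a_rc_4_0 lc_a_rc_2_0 lc_a_rc_4_2 lc_a_rc_2_2 lc_a_rc_4_2 lc_a_rc_0_1 lc_a_rc_22_0 lc_a_rc_4_2 lc_a_Cert_tree lc_a_rc_0_1 lc_a_rc_2_2 lc_a_rc_3_2 lc_a_rc_1_4 lc_a_rc_4_2 lc_a_rc_2_2 lc_a_rc_4_2 lc_a_rc_2_0 lc_a_rc_3_2 lc_a_rc_5_2 lc_a_rc_2_2 lc_a_Cert_tree lc_a_rc_21_0 lc_a_rc_4_2 lc_a_Cert_tree lc_a_rc_2_2 lc_a_rc_4_2 lc_a_rc_2_2 lc_a_rc_2_2 lc_a_rc_3_0 lc_a_rc_2_2 lc_a_rc_5_2 lc_a_Cert_tree lc_a_rc_3_0 lc_a_rc_2_0 lc_a_rc_3_2 lc_a_rc_3_2 lc_a_rc_0_1 lc_a_rc_4_2 lc_a_rc_4_0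 lc_a_rc_4_0 lc_a_Cert_tree lc_a_rc_3_2 lc_a_Cert_tree lc_a_rc_4_2 lc_a_Cert_tree) (@D3.rec (fun _ => (Cert rels S Gen.a)) lc_a_rc_21_0 lc_a_rc_2_2 lc_a_rc_0_1 lc_a_rc_3_2 lc_a_rc_4_2 lc_a_rc_22_0 lc_a_rc_4_2 lc_a_rc_3_2 lc_a_rc_1_2 lc_a_rc_22_0 lc_a_rc_4_2 lc_a_rc_1_4 lc_a_rc_2_2 lc_a_rc_4_2 lc_a_rc_4_2 lc_a_rc_3_0 lc_a_rc_2_2 lc_a_Cert_tree lc_a_rc_4_2 lc_a_Cert_tree lc_a_rc_4_2 lc_a_rc_5_0 lc_a_rc_5_2 lc_a_Cert_tree lc_a_rc_4_2 lc_a_rc_21_0 lc_a_rc_2_2 lc_a_rc_0_1 lc_a_rc_3_2 lc_a_rc_4_2 lc_a_rc_4_2 lc_a_rc_2_0 lc_a_rc_4_0 lc_a_rc_3_2 lc_a_rc_5_2 lc_a_rc_2_2 lc_a_rc_3_2 lc_a_rc_5_2 lc_a_rc_3_2 lc_a_rc_21_0 lc_a_rc_4_2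 lc_a_rc_1_2 lc_a_rc_2_2 lc_a_rc_4_2 lc_a_rc_4_2 lc_a_rc_3_0 lc_a_rc_3_0 lc_a_rc_5_2 lc_a_rc_0_1 lc_a_rc_21_0 lc_a_rc_22_0 lc_a_rc_2_2 lc_a_rc_5_2 lc_a_rc_1_2 lc_a_rc_3_2 lc_a_rc_5_0 lc_a_rc_3_2 lc_a_rc_5_0 lc_a_rc_4_2 lc_a_rc_4_2 lc_a_rc_21_0 lc_a_rc_3_2) (@D3.rec (fun _ => (Cert rels S Gen.a)) lc_a_rc_2_2 lc_a_rc_21_0 lc_a_rc_5_2 lc_a_rc_2_2 lc_a_rc_3_2 lc_a_rc_21_0 lc_a_rc_3_0 lc_a_rc_4_2 lc_a_rc_21_0 lc_a_rc_3_2 lc_a_rc_5_2 lc_a_rc_4_2 lc_a_rc_2_2 lc_a_rc_0_1 lc_a_rc_3_2 lc_a_rc_5_2 lc_a_rc_3_2 lc_a_rc_0_1 lc_a_rc_2_0 lc_a_rc_4_2 lc_a_rc_4_0 lc_a_rc_4_2 lc_a_rc_2_0 lc_a_rc_2_2 lc_a_rc_22_0 lc_a_rc_4_2 lc_a_rc_0_1 lc_a_rc_5_0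 lc_a_rc_0_1 lc_a_rc_1_2 lc_a_rc_3_2 lc_a_rc_3_0 lc_a_rc_2_2 lc_a_rc_3_2 lc_a_rc_0_1 lc_a_rc_0_1 lc_a_rc_2_2 lc_a_rc_3_2 lc_a_rc_4_2 lc_a_rc_21_0 lc_a_rc_4_2 lc_a_rc_0_1 lc_a_rc_21_0 lc_a_rc_21_0 lc_a_rc_3_2 lc_a_rc_2_2 lc_a_rc_4_2 lc_a_rc_3_2 lc_a_rc_21_0 lc_a_rc_3_2 lc_a_rc_2_2 lc_a_rc_5_2 lc_a_rc_4_2 lc_a_rc_5_0 lc_a_rc_4_2 lc_a_rc_5_2 lc_a_rc_3_2 lc_a_rc_4_2 lc_a_rc_4_2 lc_a_rc_5_0 lc_a_rc_4_0 lc_a_rc_5_2) (@D3.rec (fun _ => (Cert rels S Gen.a)) lc_a_rc_22_0 lc_a_rc_4_2 lc_a_rc_4_2 lc_a_rc_0_1 lc_a_rc_0_1 lc_a_rc_4_2 lc_a_rc_21_0 lc_a_rc_0_1 lc_a_rc_4_2 lc_a_rc_4_2 lc_a_rc_4_2 lc_a_rc_1_2 lc_a_rc_4_2 lc_a_rc_21_0 lc_a_rc_4_2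 lc_a_rc_4_0 lc_a_rc_0_1 lc_a_rc_4_2 lc_a_rc_5_0 lc_a_rc_2_2 lc_a_rc_3_2 lc_a_rc_5_2 lc_a_rc_0_1 lc_a_rc_3_2 lc_a_rc_2_2 lc_a_rc_4_2 lc_a_rc_4_2 lc_a_rc_2_2 lc_a_rc_2_2 lc_a_rc_3_2 lc_a_rc_5_2 lc_a_rc_2_2 lc_a_rc_0_1 lc_a_rc_2_2 lc_a_rc_3_2 lc_a_Cert_tree lc_a_rc_3_2 lc_a_rc_3_2 lc_a_rc_2_0 lc_a_rc_0_1 lc_a_rc_1_0 lc_a_rc_2_2 lc_a_rc_2_2 lc_a_rc_3_0 lc_a_rc_21_0 lc_a_rc_1_2 lc_a_rc_22_0 lc_a_rc_4_2 lc_a_rc_4_2 lc_a_rc_21_0 lc_a_rc_2_2 lc_a_rc_5_0 lc_a_rc_3_2 lc_a_rc_5_2 lc_a_rc_4_2 lc_a_rc_4_2 lc_a_rc_4_0 lc_a_rc_2_0 lc_a_rc_3_2 lc_a_rc_0_1 lc_a_rc_2_0 lc_a_rc_0_1) (@D3.rec (fun _ => (Cert rels S Gen.a)) lc_a_rc_1_2 lc_a_rc_0_1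 lc_a_rc_0_1 lc_a_rc_21_0 lc_a_rc_0_1 lc_a_rc_4_2 lc_a_rc_2_2 lc_a_rc_2_2 lc_a_rc_4_2 lc_a_rc_22_0 lc_a_rc_3_0 lc_a_rc_3_0 lc_a_rc_1_0 lc_a_Cert_tree lc_a_rc_2_2 lc_a_rc_0_1 lc_a_rc_0_1 lc_a_Cert_tree lc_a_Cert_tree lc_a_Cert_tree lc_a_rc_3_0 lc_a_rc_3_0 lc_a_rc_0_1 lc_a_Cert_tree lc_a_rc_5_0 lc_a_Cert_tree lc_a_rc_22_0 lc_a_rc_21_0 lc_a_rc_0_1 lc_a_rc_0_1 lc_a_Cert_tree lc_a_rc_3_0 lc_a_rc_2_2 lc_a_rc_0_1 lc_a_Cert_tree lc_a_rc_21_0 lc_a_rc_0_1 lc_a_rc_3_2 lc_a_rc_0_1 lc_a_rc_2_2 lc_a_Cert_tree lc_a_rc_3_0 lc_a_rc_3_2 lc_a_rc_4_2 lc_a_Cert_tree lc_a_rc_3_2 lc_a_rc_21_0 lc_a_rc_3_2 lc_a_rc_3_2 lc_a_rc_2_2 lc_a_rc_0_1 lc_a_rc_0_1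 lc_a_rc_3_2 lc_a_rc_21_0 lc_a_rc_0_1 lc_a_rc_2_2 lc_a_rc_2_2 lc_a_rc_1_4 lc_a_rc_2_2 lc_a_rc_2_0 lc_a_Cert_tree lc_a_rc_22_0) (@D3.rec (fun _ => (Cert rels S Gen.a)) lc_a_rc_0_1 lc_a_rc_0_1 lc_a_rc_3_2 lc_a_rc_3_2 lc_a_rc_3_2 lc_a_rc_5_0 lc_a_rc_2_2 lc_a_rc_3_2 lc_a_rc_3_2 lc_a_Cert_tree lc_a_rc_2_0 lc_a_Cert_tree lc_a_rc_3_2 lc_a_Cert_tree lc_a_rc_3_0 lc_a_rc_1_4 lc_a_rc_3_2 lc_a_rc_0_1 lc_a_rc_4_2 lc_a_rc_5_2 lc_a_rc_3_2 lc_a_rc_2_2 lc_a_rc_1_2 lc_a_rc_3_2 lc_a_rc_2_2 lc_a_rc_4_0 lc_a_rc_4_0 lc_a_rc_3_2 lc_a_rc_21_0 lc_a_rc_4_2 lc_a_rc_0_1 lc_a_rc_2_2 lc_a_rc_2_2 lc_a_rc_0_1 lc_a_rc_3_2 lc_a_rc_3_2 lc_a_rc_4_2 lc_a_rc_21_0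 lc_a_rc_3_2 lc_a_rc_2_2 lc_a_rc_0_1 lc_a_rc_21_0 lc_a_rc_0_1 lc_a_rc_0_1 lc_a_rc_1_4 lc_a_rc_3_2 lc_a_rc_3_0 lc_a_rc_0_1 lc_a_rc_2_0 lc_a_rc_1_2 lc_a_rc_2_2 lc_a_rc_3_2 lc_a_rc_4_2 lc_a_Cert_tree lc_a_rc_3_2 lc_a_rc_4_2 lc_a_rc_21_0 lc_a_rc_0_1 lc_a_rc_5_0 lc_a_rc_2_2 lc_a_rc_2_2 lc_a_rc_2_2) (@D3.rec (fun _ => (Cert rels S Gen.a)) lc_a_rc_0_1 lc_a_rc_2_0 lc_a_rc_4_2 lc_a_rc_4_2 lc_a_rc_3_2 lc_a_rc_0_1 lc_a_rc_2_2 lc_a_rc_3_2 lc_a_rc_0_1 lc_a_rc_21_0 lc_a_rc_4_2 lc_a_rc_0_1 lc_a_rc_0_1 lc_a_Cert_tree lc_a_rc_3_0 lc_a_rc_21_0 lc_a_rc_5_0 lc_a_rc_5_2 lc_a_Cert_tree lc_a_rc_3_2 lc_a_rc_4_2 lc_a_rc_3_2 lc_a_rc_1_4 lc_a_rc_4_0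 lc_a_rc_4_0 lc_a_rc_3_0 lc_a_Cert_tree lc_a_rc_2_0 lc_a_rc_4_2 lc_a_rc_4_2 lc_a_Cert_tree lc_a_rc_4_2 lc_a_Cert_tree lc_a_rc_5_2 lc_a_Cert_tree lc_a_Cert_tree lc_a_rc_2_2 lc_a_rc_1_2 lc_a_Cert_tree lc_a_rc_5_0 lc_a_rc_2_2 lc_a_rc_0_1 lc_a_rc_4_0 lc_a_rc_3_0 lc_a_rc_4_2 lc_a_rc_3_2 lc_a_rc_21_0 lc_a_rc_2_2 lc_a_rc_4_0 lc_a_rc_2_2 lc_a_rc_1_0 lc_a_rc_0_1 lc_a_rc_2_0 lc_a_rc_2_2 lc_a_rc_4_2 lc_a_rc_4_2 lc_a_rc_3_0 lc_a_rc_3_0 lc_a_rc_2_0 lc_a_rc_5_2 lc_a_rc_22_0 lc_a_Cert_tree) (@D3.rec (fun _ => (Cert rels S Gen.a)) lc_a_Cert_tree lc_a_rc_3_2 lc_a_Cert_tree lc_a_rc_2_0 lc_a_rc_4_2 lc_a_rc_2_0 lc_a_rc_21_0 lc_a_rc_3_2 lc_a_rc_4_2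 lc_a_rc_2_2 lc_a_rc_3_2 lc_a_rc_2_2 lc_a_rc_5_0 lc_a_rc_0_1 lc_a_rc_3_2 lc_a_rc_4_2 lc_a_rc_3_2 lc_a_rc_2_2 lc_a_Cert_tree lc_a_rc_3_0 lc_a_rc_0_1 lc_a_rc_2_2 lc_a_rc_4_2 lc_a_rc_2_2 lc_a_rc_2_2 lc_a_Cert_tree lc_a_rc_3_2 lc_a_rc_3_0 lc_a_rc_5_0 lc_a_rc_0_1 lc_a_rc_2_2 lc_a_rc_4_0 lc_a_rc_3_2 lc_a_rc_4_2 lc_a_rc_1_2 lc_a_rc_0_1 lc_a_rc_2_0 lc_a_rc_4_2 lc_a_rc_3_2 lc_a_rc_3_0 lc_a_rc_3_2 lc_a_rc_1_4 lc_a_rc_4_2 lc_a_rc_1_2 lc_a_rc_0_1 lc_a_rc_4_2 lc_a_Cert_tree lc_a_rc_4_2 lc_a_rc_4_2 lc_a_rc_4_2 lc_a_rc_4_2 lc_a_rc_4_2 lc_a_rc_2_2 lc_a_rc_5_2 lc_a_rc_2_2 lc_a_rc_4_2 lc_a_rc_4_2 lc_a_rc_21_0 lc_a_rc_1_4 lc_a_rc_4_2 lc_a_rc_5_0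 lc_a_rc_5_2) (@D3.rec (fun _ => (Cert rels S Gen.a)) lc_a_rc_21_0 lc_a_rc_4_2 lc_a_rc_4_2 lc_a_rc_4_2 lc_a_rc_0_1 lc_a_rc_21_0 lc_a_rc_0_1 lc_a_rc_5_2 lc_a_rc_4_2 lc_a_rc_3_2 lc_a_rc_5_2 lc_a_rc_21_0 lc_a_Cert_tree lc_a_rc_4_2 lc_a_rc_5_2 lc_a_rc_4_2 lc_a_rc_2_2 lc_a_rc_4_2 lc_a_rc_0_1 lc_a_rc_4_2 lc_a_rc_21_0 lc_a_rc_3_2 lc_a_rc_4_2 lc_a_rc_2_2 lc_a_rc_3_2 lc_a_rc_5_2 lc_a_rc_21_0 lc_a_rc_5_2 lc_a_rc_0_1 lc_a_rc_21_0 lc_a_rc_3_2 lc_a_rc_4_2 lc_a_rc_22_0 lc_a_rc_3_2 lc_a_rc_4_2 lc_a_rc_3_2 lc_a_rc_4_2 lc_a_rc_4_0 lc_a_rc_0_1 lc_a_rc_0_1 lc_a_rc_5_2 lc_a_rc_5_2 lc_a_rc_3_2 lc_a_rc_4_2 lc_a_rc_3_2 lc_a_rc_4_0 lc_a_rc_21_0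 lc_a_rc_21_0 lc_a_rc_3_0 lc_a_rc_0_1 lc_a_rc_4_2 lc_a_rc_3_2 lc_a_rc_5_2 lc_a_rc_2_2 lc_a_rc_4_2 lc_a_rc_4_2 lc_a_rc_3_0 lc_a_rc_3_0 lc_a_rc_3_2 lc_a_rc_5_2 lc_a_Cert_tree lc_a_rc_3_2) (@D3.rec (fun _ => (Cert rels S Gen.a)) lc_a_rc_4_2 lc_a_rc_21_0 lc_a_rc_22_0 lc_a_rc_0_1 lc_a_rc_2_0 lc_a_Cert_tree lc_a_rc_2_2 lc_a_rc_0_1 lc_a_rc_5_2 lc_a_rc_4_2 lc_a_rc_0_1 lc_a_rc_3_2 lc_a_rc_5_2 lc_a_rc_2_2 lc_a_rc_4_2 lc_a_rc_3_2 lc_a_rc_0_1 lc_a_rc_21_0 lc_a_rc_2_0 lc_a_rc_0_1 lc_a_rc_2_2 lc_a_rc_21_0 lc_a_rc_0_1 lc_a_rc_21_0 lc_a_rc_2_2 lc_a_rc_21_0 lc_a_rc_1_4 lc_a_rc_2_2 lc_a_rc_5_2 lc_a_rc_0_1 lc_a_rc_0_1 lc_a_rc_3_2 lc_a_rc_4_2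 lc_a_rc_0_1 lc_a_rc_3_0 lc_a_rc_0_1 lc_a_rc_4_2 lc_a_rc_0_1 lc_a_rc_0_1 lc_a_rc_0_1 lc_a_rc_2_2 lc_a_rc_4_2 lc_a_rc_2_2 lc_a_rc_3_2 lc_a_rc_4_2 lc_a_rc_4_2 lc_a_rc_21_0 lc_a_rc_1_4 lc_a_rc_4_2 lc_a_rc_0_1 lc_a_rc_4_2 lc_a_rc_5_0 lc_a_rc_3_2 lc_a_rc_5_2 lc_a_rc_0_1 lc_a_rc_0_1 lc_a_rc_5_0 lc_a_rc_3_2 lc_a_rc_3_0 lc_a_rc_2_2 lc_a_rc_2_2 lc_a_rc_3_2) (@D3.rec (fun _ => (Cert rels S Gen.a)) lc_a_rc_3_0 lc_a_rc_4_2 lc_a_rc_2_2 lc_a_rc_3_2 lc_a_rc_4_2 lc_a_rc_0_1 lc_a_rc_21_0 lc_a_rc_2_2 lc_a_rc_3_2 lc_a_rc_3_0 lc_a_rc_5_2 lc_a_rc_5_2 lc_a_Cert_tree lc_a_rc_4_2 lc_a_rc_4_0 lc_a_rc_21_0 lc_a_rc_4_0 lc_a_rc_4_2 lc_a_rc_1_2 lc_a_rc_4_2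 lc_a_rc_4_2 lc_a_rc_22_0 lc_a_rc_3_2 lc_a_rc_4_2 lc_a_rc_4_2 lc_a_rc_0_1 lc_a_rc_21_0 lc_a_rc_3_2 lc_a_rc_4_2 lc_a_rc_4_2 lc_a_rc_4_2 lc_a_rc_2_2 lc_a_rc_4_2 lc_a_rc_3_2 lc_a_rc_2_2 lc_a_rc_2_2 lc_a_Cert_tree lc_a_rc_3_2 lc_a_rc_5_2 lc_a_Cert_tree lc_a_Cert_tree lc_a_rc_2_2 lc_a_Cert_tree lc_a_rc_2_2 lc_a_rc_4_0 lc_a_rc_0_1 lc_a_rc_2_0 lc_a_rc_3_2 lc_a_rc_3_0 lc_a_rc_4_2 lc_a_rc_2_2 lc_a_rc_3_2 lc_a_rc_4_2 lc_a_rc_4_2 lc_a_rc_3_2 lc_a_rc_4_2 lc_a_rc_2_0 lc_a_rc_1_4 lc_a_rc_4_2 lc_a_rc_4_0 lc_a_rc_3_2 lc_a_rc_1_4) (@D3.rec (fun _ => (Cert rels S Gen.a)) lc_a_Cert_tree lc_a_rc_2_2 lc_a_Cert_tree lc_a_rc_3_2 lc_a_rc_5_0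 lc_a_rc_4_0 lc_a_rc_4_2 lc_a_rc_1_2 lc_a_rc_21_0 lc_a_rc_3_2 lc_a_rc_4_2 lc_a_rc_21_0 lc_a_rc_5_2 lc_a_rc_3_2 lc_a_rc_4_2 lc_a_rc_2_2 lc_a_rc_3_2 lc_a_rc_2_2 lc_a_rc_4_2 lc_a_rc_5_0 lc_a_rc_4_2 lc_a_rc_2_2 lc_a_rc_1_4 lc_a_rc_3_2 lc_a_rc_5_2 lc_a_rc_3_2 lc_a_rc_5_2 lc_a_rc_3_0 lc_a_rc_0_1 lc_a_rc_4_2 lc_a_rc_3_2 lc_a_rc_4_2 lc_a_rc_2_0 lc_a_rc_21_0 lc_a_rc_4_2 lc_a_rc_2_0 lc_a_rc_2_0 lc_a_rc_21_0 lc_a_rc_3_2 lc_a_rc_21_0 lc_a_rc_2_2 lc_a_rc_2_0 lc_a_rc_1_4 lc_a_rc_2_2 lc_a_rc_0_1 lc_a_rc_2_2 lc_a_rc_4_2 lc_a_rc_0_1 lc_a_rc_21_0 lc_a_Cert_tree lc_a_rc_2_2 lc_a_rc_3_2 lc_a_rc_0_1 lc_a_rc_2_2 lc_a_rc_21_0 lc_a_rc_3_2 lc_a_rc_4_2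 lc_a_rc_21_0 lc_a_rc_2_2 lc_a_rc_5_2 lc_a_rc_0_1 lc_a_rc_0_1) (@D3.rec (fun _ => (Cert rels S Gen.a)) lc_a_rc_3_2 lc_a_rc_0_1 lc_a_rc_3_2 lc_a_rc_3_2 lc_a_rc_0_1 lc_a_rc_21_0 lc_a_rc_3_2 lc_a_rc_3_2 lc_a_rc_22_0 lc_a_rc_2_2 lc_a_rc_3_2 lc_a_Cert_tree lc_a_rc_3_2 lc_a_rc_5_2 lc_a_rc_5_0 lc_a_rc_0_1 lc_a_rc_3_2 lc_a_rc_4_2 lc_a_rc_4_2 lc_a_rc_2_2 lc_a_rc_4_2 lc_a_rc_3_2 lc_a_rc_4_2 lc_a_rc_3_2 lc_a_rc_2_2 lc_a_rc_2_2 lc_a_rc_1_2 lc_a_rc_0_1 lc_a_rc_4_2 lc_a_rc_4_0 lc_a_rc_2_2 lc_a_rc_2_2 lc_a_rc_22_0 lc_a_rc_3_0 lc_a_rc_21_0 lc_a_rc_3_2 lc_a_rc_4_2 lc_a_rc_0_1 lc_a_rc_5_2 lc_a_rc_5_2 lc_a_rc_0_1 lc_a_rc_0_1 lc_a_rc_5_2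 lc_a_rc_22_0 lc_a_rc_2_2 lc_a_rc_0_1 lc_a_rc_0_1 lc_a_rc_3_2 lc_a_rc_3_0 lc_a_rc_4_2 lc_a_rc_3_2 lc_a_rc_4_2 lc_a_rc_4_2 lc_a_rc_5_2 lc_a_rc_21_0 lc_a_rc_3_2 lc_a_rc_4_2 lc_a_rc_5_0 lc_a_rc_3_2 lc_a_rc_2_2 lc_a_rc_0_1 lc_a_rc_21_0) (@D3.rec (fun _ => (Cert rels S Gen.a)) lc_a_rc_3_2 lc_a_rc_4_2 lc_a_rc_4_2 lc_a_rc_3_2 lc_a_rc_4_2 lc_a_Cert_tree lc_a_rc_2_2 lc_a_rc_5_2 lc_a_rc_4_2 lc_a_rc_4_2 lc_a_rc_21_0 lc_a_rc_3_2 lc_a_rc_4_2 lc_a_rc_5_0 lc_a_rc_2_2 lc_a_rc_0_1 lc_a_rc_0_1 lc_a_Cert_tree lc_a_Cert_tree lc_a_Cert_tree lc_a_rc_3_2 lc_a_rc_3_2 lc_a_Cert_tree lc_a_rc_3_2 lc_a_rc_0_1 lc_a_Cert_tree lc_a_rc_21_0 lc_a_rc_0_1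 lc_a_rc_21_0 lc_a_rc_0_1 lc_a_rc_3_2 lc_a_rc_21_0 lc_a_rc_3_2 lc_a_rc_2_2 lc_a_rc_4_2 lc_a_rc_2_2 lc_a_rc_4_2 lc_a_rc_4_2 lc_a_rc_2_2 lc_a_rc_5_2 lc_a_rc_3_2 lc_a_rc_0_1 lc_a_rc_0_1 lc_a_rc_21_0 lc_a_rc_5_2 lc_a_rc_21_0 lc_a_rc_3_2 lc_a_rc_2_2 lc_a_rc_4_0 lc_a_rc_3_2 lc_a_rc_2_2 lc_a_rc_3_0 lc_a_Cert_tree lc_a_rc_4_2 lc_a_rc_4_2 lc_a_rc_3_2 lc_a_rc_4_2 lc_a_rc_0_1 lc_a_rc_21_0 lc_a_rc_4_0 lc_a_rc_0_1 lc_a_rc_2_2) (@D3.rec (fun _ => (Cert rels S Gen.a)) lc_a_rc_3_2 lc_a_rc_2_2 lc_a_rc_21_0 lc_a_rc_0_1 lc_a_rc_5_2 lc_a_rc_2_2 lc_a_rc_3_2 lc_a_rc_4_2 lc_a_rc_4_2 lc_a_rc_3_2 lc_a_rc_2_2 lc_a_rc_4_0 lc_a_rc_2_2 lc_a_rc_1_2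 lc_a_rc_2_2 lc_a_rc_4_2 lc_a_rc_5_2 lc_a_rc_21_0 lc_a_rc_4_2 lc_a_rc_2_2 lc_a_rc_2_2 lc_a_rc_3_2 lc_a_rc_5_2 lc_a_rc_5_0 lc_a_rc_5_2 lc_a_rc_1_2 lc_a_rc_3_2 lc_a_rc_3_2 lc_a_rc_2_2 lc_a_rc_2_2 lc_a_Cert_tree lc_a_rc_3_2 lc_a_rc_5_2 lc_a_rc_0_1 lc_a_rc_21_0 lc_a_rc_0_1 lc_a_rc_3_2 lc_a_rc_4_2 lc_a_rc_4_2 lc_a_rc_21_0 lc_a_rc_4_2 lc_a_rc_4_2 lc_a_rc_21_0 lc_a_rc_0_1 lc_a_rc_2_2 lc_a_rc_2_2 lc_a_rc_4_2 lc_a_rc_5_2 lc_a_rc_3_0 lc_a_rc_2_2 lc_a_rc_4_2 lc_a_rc_1_4 lc_a_rc_4_2 lc_a_rc_4_2 lc_a_rc_21_0 lc_a_rc_1_4 lc_a_rc_3_2 lc_a_rc_2_2 lc_a_rc_4_0 lc_a_rc_1_2 lc_a_rc_4_2 lc_a_rc_3_0) (@D3.rec (fun _ => (Cert rels S Gen.a))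 lc_a_rc_21_0 lc_a_rc_21_0 lc_a_rc_2_0 lc_a_rc_3_2 lc_a_rc_1_0 lc_a_rc_3_2 lc_a_rc_5_2 lc_a_rc_4_2 lc_a_rc_4_0 lc_a_rc_4_2 lc_a_rc_21_0 lc_a_rc_1_0 lc_a_rc_1_2 lc_a_rc_21_0 lc_a_rc_21_0 lc_a_rc_0_1 lc_a_rc_3_2 lc_a_rc_2_2 lc_a_rc_3_0 lc_a_rc_2_2 lc_a_rc_21_0 lc_a_rc_4_2 lc_a_rc_3_2 lc_a_rc_21_0 lc_a_rc_4_2 lc_a_rc_1_4 lc_a_rc_3_2 lc_a_rc_5_2 lc_a_rc_3_2 lc_a_rc_4_2 lc_a_rc_2_2 lc_a_rc_3_2 lc_a_rc_4_2 lc_a_rc_3_2 lc_a_rc_3_2 lc_a_rc_5_2 lc_a_rc_5_2 lc_a_rc_3_2 lc_a_rc_2_2 lc_a_rc_1_0 lc_a_rc_21_0 lc_a_rc_0_1 lc_a_rc_0_1 lc_a_rc_4_2 lc_a_rc_21_0 lc_a_rc_4_2 lc_a_rc_21_0 lc_a_rc_3_0 lc_a_rc_21_0 lc_a_rc_4_2 lc_a_rc_0_1 lc_a_rc_0_1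 lc_a_rc_22_0 lc_a_Cert_tree lc_a_rc_3_2 lc_a_rc_2_0 lc_a_rc_0_1 lc_a_rc_1_2 lc_a_rc_4_2 lc_a_rc_2_2 lc_a_rc_4_2 lc_a_rc_2_2) (@D3.rec (fun _ => (Cert rels S Gen.a)) lc_a_Cert_tree lc_a_rc_3_0 lc_a_rc_4_2 lc_a_rc_2_0 lc_a_rc_21_0 lc_a_rc_4_2 lc_a_rc_21_0 lc_a_rc_5_2 lc_a_rc_4_2 lc_a_rc_3_2 lc_a_rc_4_2 lc_a_rc_4_2 lc_a_rc_4_2 lc_a_rc_3_2 lc_a_rc_1_0 lc_a_rc_1_2 lc_a_rc_21_0 lc_a_rc_2_2 lc_a_rc_1_2 lc_a_rc_1_0 lc_a_rc_2_2 lc_a_rc_21_0 lc_a_rc_21_0 lc_a_rc_3_2 lc_a_rc_3_2 lc_a_rc_0_1 lc_a_rc_3_2 lc_a_rc_0_1 lc_a_rc_21_0 lc_a_rc_0_1 lc_a_rc_4_2 lc_a_rc_4_2 lc_a_rc_4_2 lc_a_rc_4_2 lc_a_rc_0_1 lc_a_rc_5_2 lc_a_rc_0_1 lc_a_rc_5_2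 lc_a_rc_3_2 lc_a_rc_5_2 lc_a_rc_21_0 lc_a_rc_3_2 lc_a_rc_3_2 lc_a_rc_21_0 lc_a_rc_2_2 lc_a_rc_5_2 lc_a_rc_0_1 lc_a_rc_3_2 lc_a_rc_2_2 lc_a_rc_2_2 lc_a_Cert_tree lc_a_rc_3_2 lc_a_rc_2_2 lc_a_rc_2_2 lc_a_rc_4_2 lc_a_rc_4_0 lc_a_rc_3_2 lc_a_rc_5_2 lc_a_rc_3_2 lc_a_rc_5_2 lc_a_rc_1_4 lc_a_rc_3_2) (@D3.rec (fun _ => (Cert rels S Gen.a)) lc_a_rc_3_0 lc_a_rc_3_2 lc_a_rc_2_2 lc_a_rc_5_2 lc_a_rc_2_2 lc_a_rc_2_2 lc_a_rc_21_0 lc_a_rc_2_0 lc_a_rc_22_0 lc_a_rc_2_2 lc_a_rc_21_0 lc_a_Cert_tree lc_a_rc_2_2 lc_a_rc_2_2 lc_a_rc_4_2 lc_a_rc_2_2 lc_a_rc_4_2 lc_a_rc_1_0 lc_a_rc_1_2 lc_a_rc_3_2 lc_a_rc_5_0 lc_a_rc_2_2 lc_a_rc_4_2 lc_a_rc_5_2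 lc_a_rc_0_1 lc_a_rc_5_0 lc_a_rc_2_2 lc_a_rc_4_2 lc_a_rc_3_2 lc_a_rc_4_2 lc_a_rc_1_0 lc_a_rc_3_2 lc_a_rc_5_2 lc_a_rc_2_2 lc_a_rc_0_1 lc_a_rc_4_2 lc_a_rc_5_0 lc_a_rc_4_2 lc_a_rc_2_0 lc_a_rc_1_0 lc_a_rc_4_2 lc_a_rc_21_0 lc_a_rc_4_2 lc_a_rc_1_0 lc_a_rc_21_0 lc_a_rc_3_2 lc_a_rc_5_2 lc_a_rc_1_2 lc_a_rc_4_2 lc_a_rc_4_2 lc_a_rc_3_2 lc_a_rc_21_0 lc_a_rc_2_2 lc_a_rc_21_0 lc_a_rc_3_2 lc_a_rc_1_4 lc_a_rc_0_1 lc_a_rc_2_2 lc_a_rc_3_2 lc_a_rc_4_2 lc_a_rc_21_0 lc_a_rc_2_0) (@D3.rec (fun _ => (Cert rels S Gen.a)) lc_a_rc_3_2 lc_a_rc_1_2 lc_a_rc_3_2 lc_a_rc_4_2 lc_a_rc_0_1 lc_a_rc_21_0 lc_a_rc_2_2 lc_a_rc_5_2 lc_a_rc_21_0 lc_a_rc_0_1 lc_a_rc_2_2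 lc_a_rc_21_0 lc_a_rc_0_1 lc_a_rc_3_2 lc_a_rc_1_2 lc_a_rc_4_2 lc_a_rc_3_2 lc_a_rc_3_2 lc_a_rc_21_0 lc_a_rc_4_2 lc_a_rc_4_0 lc_a_Cert_tree lc_a_rc_5_0 lc_a_rc_4_2 lc_a_rc_1_2 lc_a_rc_3_2 lc_a_rc_0_1 lc_a_rc_0_1 lc_a_rc_3_2 lc_a_rc_2_2 lc_a_rc_4_2 lc_a_rc_2_2 lc_a_rc_2_0 lc_a_rc_0_1 lc_a_rc_21_0 lc_a_rc_21_0 lc_a_rc_2_2 lc_a_rc_5_0 lc_a_rc_2_2 lc_a_rc_0_1 lc_a_rc_3_0 lc_a_rc_3_2 lc_a_rc_1_2 lc_a_rc_4_2 lc_a_rc_4_2 lc_a_rc_21_0 lc_a_rc_2_2 lc_a_rc_4_2 lc_a_rc_3_2 lc_a_rc_21_0 lc_a_rc_3_2 lc_a_rc_5_2 lc_a_rc_1_4 lc_a_rc_3_2 lc_a_rc_0_1 lc_a_rc_2_2 lc_a_rc_3_2 lc_a_rc_4_2 lc_a_rc_3_2 lc_a_rc_2_2 lc_a_rc_3_2 lc_a_rc_2_2) (@D3.rec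 (fun _ => (Cert rels S Gen.a)) lc_a_rc_2_2 lc_a_rc_21_0 lc_a_Cert_tree lc_a_rc_3_2 lc_a_rc_21_0 lc_a_rc_2_2 lc_a_rc_5_0 lc_a_rc_2_2 lc_a_rc_3_2 lc_a_rc_4_2 lc_a_rc_2_2 lc_a_rc_4_2 lc_a_rc_1_0 lc_a_rc_1_2 lc_a_rc_5_0 lc_a_rc_2_2 lc_a_rc_4_2 lc_a_rc_3_2 lc_a_rc_4_0 lc_a_rc_21_0 lc_a_rc_3_2 lc_a_rc_5_2 lc_a_rc_4_2 lc_a_rc_5_2 lc_a_rc_1_0 lc_a_rc_0_1 lc_a_rc_2_2 lc_a_rc_3_2 lc_a_rc_3_2 lc_a_rc_2_2 lc_a_rc_3_2 lc_a_rc_0_1 lc_a_rc_3_2 lc_a_rc_5_2 lc_a_rc_4_2 lc_a_rc_21_0 lc_a_rc_1_4 lc_a_rc_3_2 lc_a_rc_5_2 lc_a_rc_1_4 lc_a_rc_5_0 lc_a_rc_4_2 lc_a_rc_3_2 lc_a_rc_0_1 lc_a_rc_2_2 lc_a_rc_2_2 lc_a_rc_3_2 lc_a_rc_0_1 lc_a_rc_2_2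 lc_a_rc_2_2 lc_a_rc_4_2 lc_a_rc_0_1 lc_a_rc_0_1 lc_a_rc_2_2 lc_a_rc_0_1 lc_a_rc_2_2 lc_a_rc_4_2 lc_a_rc_5_2 lc_a_rc_2_2 lc_a_rc_3_2 lc_a_rc_5_0 lc_a_rc_5_2) (@D3.rec (fun _ => (Cert rels S Gen.a)) lc_a_rc_4_2 lc_a_rc_2_2 lc_a_rc_2_0 lc_a_rc_4_0 lc_a_rc_22_0 lc_a_rc_5_2 lc_a_rc_4_2 lc_a_rc_1_2 lc_a_rc_4_2 lc_a_rc_3_2 lc_a_rc_0_1 lc_a_rc_5_2 lc_a_rc_2_0 lc_a_rc_2_0 lc_a_rc_5_2 lc_a_rc_4_2 lc_a_rc_2_2 lc_a_rc_0_1 lc_a_Cert_tree lc_a_rc_22_0 lc_a_rc_3_0 lc_a_rc_3_2 lc_a_rc_5_2 lc_a_Cert_tree lc_a_rc_3_2 lc_a_Cert_tree lc_a_rc_3_2 lc_a_rc_4_0 lc_a_rc_5_2 lc_a_rc_0_1 lc_a_rc_3_2 lc_a_rc_1_4 lc_a_rc_21_0 lc_a_rc_2_0 lc_a_rc_22_0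 lc_a_rc_4_2 lc_a_rc_1_4 lc_a_rc_0_1 lc_a_rc_4_2 lc_a_rc_3_2 lc_a_rc_2_2 lc_a_rc_1_2 lc_a_rc_4_2 lc_a_rc_4_2 lc_a_rc_4_2 lc_a_rc_1_0 lc_a_rc_2_2 lc_a_rc_3_2 lc_a_rc_5_2 lc_a_rc_3_2 lc_a_rc_3_2 lc_a_rc_3_2 lc_a_rc_2_2 lc_a_rc_4_2 lc_a_rc_22_0 lc_a_rc_0_1 lc_a_rc_3_2 lc_a_rc_21_0 lc_a_rc_4_2 lc_a_rc_21_0 lc_a_rc_0_1 lc_a_rc_3_2) (@D3.rec (fun _ => (Cert rels S Gen.a)) lc_a_rc_5_2 lc_a_rc_4_2 lc_a_rc_0_1 lc_a_rc_2_0 lc_a_rc_3_2 lc_a_rc_5_2 lc_a_rc_1_4 lc_a_rc_2_2 lc_a_rc_4_0 lc_a_rc_2_2 lc_a_rc_3_2 lc_a_rc_21_0 lc_a_rc_21_0 lc_a_rc_3_2 lc_a_rc_2_2 lc_a_rc_5_2 lc_a_rc_21_0 lc_a_rc_0_1 lc_a_rc_4_2 lc_a_Cert_tree lc_a_rc_3_2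 lc_a_rc_4_2 lc_a_rc_3_2 lc_a_rc_0_1 lc_a_rc_2_2 lc_a_rc_5_2 lc_a_rc_21_0 lc_a_rc_3_2 lc_a_rc_3_2 lc_a_rc_3_0 lc_a_rc_22_0 lc_a_rc_4_2 lc_a_rc_2_2 lc_a_rc_4_2 lc_a_rc_3_2 lc_a_rc_21_0 lc_a_rc_0_1 lc_a_rc_4_2 lc_a_rc_3_0 lc_a_rc_2_2 lc_a_rc_1_0 lc_a_rc_21_0 lc_a_rc_0_1 lc_a_Cert_tree lc_a_rc_3_2 lc_a_rc_5_2 lc_a_rc_4_2 lc_a_rc_0_1 lc_a_rc_21_0 lc_a_rc_22_0 lc_a_rc_4_2 lc_a_rc_2_2 lc_a_rc_0_1 lc_a_rc_21_0 lc_a_rc_22_0 lc_a_rc_4_2 lc_a_rc_4_2 lc_a_rc_3_2 lc_a_rc_3_2 lc_a_rc_2_2 lc_a_Cert_tree lc_a_rc_22_0) (@D3.rec (fun _ => (Cert rels S Gen.a)) lc_a_Cert_tree lc_a_rc_3_2 lc_a_Cert_tree lc_a_rc_3_2 lc_a_rc_2_0 lc_a_rc_0_1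 lc_a_rc_3_2 lc_a_rc_21_0 lc_a_Cert_tree lc_a_rc_2_2 lc_a_rc_4_2 lc_a_rc_22_0 lc_a_rc_4_2 lc_a_rc_4_2 lc_a_rc_4_2 lc_a_rc_0_1 lc_a_rc_3_2 lc_a_rc_5_2 lc_a_rc_2_2 lc_a_rc_4_2 lc_a_rc_3_2 lc_a_rc_1_2 lc_a_rc_3_0 lc_a_rc_5_2 lc_a_rc_3_2 lc_a_rc_3_2 lc_a_rc_4_2 lc_a_rc_21_0 lc_a_rc_3_2 lc_a_rc_5_2 lc_a_rc_2_2 lc_a_rc_1_4 lc_a_rc_4_0 lc_a_rc_5_0 lc_a_rc_2_0 lc_a_rc_2_2 lc_a_rc_4_0 lc_a_rc_0_1 lc_a_rc_3_2 lc_a_rc_0_1 lc_a_rc_2_2 lc_a_rc_5_2 lc_a_rc_2_0 lc_a_rc_22_0 lc_a_rc_2_2 lc_a_rc_3_0 lc_a_rc_0_1 lc_a_rc_0_1 lc_a_rc_2_2 lc_a_rc_5_2 lc_a_rc_21_0 lc_a_rc_0_1 lc_a_Cert_tree lc_a_rc_3_2 lc_a_rc_22_0 lc_a_rc_4_2 lc_a_rc_2_2 lc_a_rc_0_1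 lc_a_rc_1_0 lc_a_rc_0_1 lc_a_rc_2_0 lc_a_rc_0_1) (@D3.rec (fun _ => (Cert rels S Gen.a)) lc_a_rc_3_2 lc_a_rc_0_1 lc_a_rc_3_2 lc_a_rc_3_2 lc_a_rc_22_0 lc_a_rc_5_2 lc_a_rc_3_0 lc_a_rc_3_2 lc_a_rc_2_2 lc_a_rc_5_0 lc_a_Cert_tree lc_a_rc_4_2 lc_a_rc_5_2 lc_a_rc_5_0 lc_a_rc_1_2 lc_a_rc_4_2 lc_a_rc_0_1 lc_a_rc_2_2 lc_a_Cert_tree lc_a_rc_22_0 lc_a_rc_0_1 lc_a_rc_4_2 lc_a_rc_2_2 lc_a_rc_4_2 lc_a_rc_4_2 lc_a_rc_2_2 lc_a_rc_4_2 lc_a_rc_2_0 lc_a_rc_3_2 lc_a_rc_1_2 lc_a_rc_2_2 lc_a_rc_4_2 lc_a_rc_3_0 lc_a_rc_3_2 lc_a_rc_5_2 lc_a_rc_4_2 lc_a_rc_2_0 lc_a_rc_3_0 lc_a_rc_3_2 lc_a_rc_4_2 lc_a_rc_5_0 lc_a_rc_3_2 lc_a_rc_1_4 lc_a_rc_21_0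 lc_a_rc_3_2 lc_a_rc_5_2 lc_a_rc_3_2 lc_a_rc_2_2 lc_a_rc_3_2 lc_a_rc_2_2 lc_a_rc_5_2 lc_a_rc_1_2 lc_a_rc_2_0 lc_a_rc_3_2 lc_a_rc_5_2 lc_a_rc_1_2 lc_a_rc_21_0 lc_a_rc_4_2 lc_a_rc_5_2 lc_a_rc_2_2 lc_a_rc_3_2 lc_a_rc_4_2) (@D3.rec (fun _ => (Cert rels S Gen.a)) lc_a_rc_5_0 lc_a_rc_3_2 lc_a_rc_2_2 lc_a_rc_5_2 lc_a_rc_21_0 lc_a_rc_4_2 lc_a_rc_2_2 lc_a_rc_2_2 lc_a_rc_3_2 lc_a_rc_21_0 lc_a_rc_0_1 lc_a_rc_3_2 lc_a_rc_2_2 lc_a_rc_4_2 lc_a_rc_1_2 lc_a_rc_4_0 lc_a_rc_5_2 lc_a_rc_1_0 lc_a_rc_3_2 lc_a_rc_0_1 lc_a_rc_1_2 lc_a_rc_3_2 lc_a_rc_2_0 lc_a_rc_3_0 lc_a_rc_3_2 lc_a_rc_0_1 lc_a_rc_5_2 lc_a_rc_21_0 lc_a_rc_3_2 lc_a_rc_2_2 lc_a_rc_4_2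 lc_a_rc_5_0 lc_a_Cert_tree lc_a_rc_2_2 lc_a_rc_4_2 lc_a_rc_2_0 lc_a_rc_0_1 lc_a_rc_2_2 lc_a_rc_1_4 lc_a_rc_4_2 lc_a_rc_5_2 lc_a_rc_4_2 lc_a_rc_5_2 lc_a_rc_4_2 lc_a_rc_0_1 lc_a_rc_3_2 lc_a_rc_3_2 lc_a_rc_0_1 lc_a_rc_5_2 lc_a_rc_0_1 lc_a_rc_4_2 lc_a_rc_1_4 lc_a_rc_2_2 lc_a_rc_4_2 lc_a_rc_3_2 lc_a_rc_0_1 lc_a_rc_3_0 lc_a_rc_5_0 lc_a_rc_3_2 lc_a_rc_5_2 lc_a_rc_1_2 lc_a_rc_4_2) (@D3.rec (fun _ => (Cert rels S Gen.a)) lc_a_rc_21_0 lc_a_rc_0_1 lc_a_rc_3_2 lc_a_rc_2_2 lc_a_rc_3_2 lc_a_rc_3_2 lc_a_rc_4_2 lc_a_rc_3_2 lc_a_rc_3_0 lc_a_rc_3_2 lc_a_rc_5_2 lc_a_rc_3_2 lc_a_rc_0_1 lc_a_rc_1_2 lc_a_rc_3_2 lc_a_rc_5_0 lc_a_rc_3_2 lc_a_rc_5_2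 lc_a_rc_3_2 lc_a_rc_4_2 lc_a_rc_4_0 lc_a_rc_2_2 lc_a_rc_1_2 lc_a_rc_5_2 lc_a_rc_3_2 lc_a_rc_0_1 lc_a_rc_3_2 lc_a_rc_4_2 lc_a_rc_21_0 lc_a_rc_3_2 lc_a_rc_2_2 lc_a_rc_5_2 lc_a_rc_0_1 lc_a_rc_3_2 lc_a_rc_2_2 lc_a_rc_3_2 lc_a_rc_3_2 lc_a_rc_2_2 lc_a_rc_4_2 lc_a_rc_3_2 lc_a_rc_1_4 lc_a_rc_2_2 lc_a_rc_5_2 lc_a_rc_4_2 lc_a_rc_0_1 lc_a_rc_4_2 lc_a_rc_3_0 lc_a_rc_3_0 lc_a_rc_1_4 lc_a_rc_3_2 lc_a_rc_5_2 lc_a_rc_4_2 lc_a_rc_22_0 lc_a_rc_1_4 lc_a_rc_2_2 lc_a_rc_3_2 lc_a_rc_3_2 lc_a_rc_3_2 lc_a_rc_3_0 lc_a_rc_2_2 lc_a_rc_2_2 lc_a_rc_3_2) (@D3.rec (fun _ => (Cert rels S Gen.a)) lc_a_rc_2_2 lc_a_rc_3_2 lc_a_rc_1_4 lc_a_rc_22_0 lc_a_rc_3_2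 lc_a_rc_3_2 lc_a_rc_2_2 lc_a_rc_1_4 lc_a_rc_3_2 lc_a_rc_3_0 lc_a_rc_0_1 lc_a_rc_3_2 lc_a_rc_4_2 lc_a_rc_1_4 lc_a_rc_21_0 lc_a_rc_0_1 lc_a_rc_3_0 lc_a_rc_21_0 lc_a_rc_3_2 lc_a_rc_3_2 lc_a_rc_4_2 lc_a_rc_1_4 lc_a_rc_4_2 lc_a_rc_4_2 lc_a_rc_4_2 lc_a_rc_3_2 lc_a_rc_5_2 lc_a_rc_2_2 lc_a_rc_0_1 lc_a_rc_2_2 lc_a_rc_4_2 lc_a_rc_0_1 lc_a_rc_2_0 lc_a_rc_4_2 lc_a_rc_2_0 lc_a_rc_2_0 lc_a_rc_5_2 lc_a_rc_4_0 lc_a_rc_0_1 lc_a_rc_4_0 lc_a_rc_3_2 lc_a_rc_21_0 lc_a_rc_0_1 lc_a_rc_1_2 lc_a_rc_3_2 lc_a_rc_4_2 lc_a_rc_2_2 lc_a_rc_21_0 lc_a_rc_4_2 lc_a_rc_5_2 lc_a_rc_3_2 lc_a_rc_21_0 lc_a_rc_2_2 lc_a_rc_4_2 lc_a_rc_2_2 lc_a_rc_4_2 lc_a_rc_1_2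 lc_a_rc_0_1 lc_a_rc_4_2 lc_a_rc_2_0 lc_a_rc_0_1 lc_a_rc_2_2) (@D3.rec (fun _ => (Cert rels S Gen.a)) lc_a_rc_21_0 lc_a_rc_0_1 lc_a_rc_3_2 lc_a_rc_2_2 lc_a_rc_4_2 lc_a_rc_1_0 lc_a_rc_3_2 lc_a_rc_3_2 lc_a_rc_3_0 lc_a_rc_2_2 lc_a_rc_3_0 lc_a_rc_22_0 lc_a_rc_21_0 lc_a_rc_4_2 lc_a_rc_3_0 lc_a_rc_2_0 lc_a_rc_21_0 lc_a_rc_2_0 lc_a_rc_2_0 lc_a_rc_0_1 lc_a_rc_2_2 lc_a_rc_0_1 lc_a_rc_4_2 lc_a_rc_5_0 lc_a_rc_5_0 lc_a_rc_3_2 lc_a_rc_3_2 lc_a_rc_4_2 lc_a_rc_2_0 lc_a_rc_3_2 lc_a_rc_2_2 lc_a_rc_4_2 lc_a_rc_0_1 lc_a_rc_4_0 lc_a_rc_3_2 lc_a_rc_5_2 lc_a_Cert_tree lc_a_rc_4_2 lc_a_rc_3_2 lc_a_rc_21_0 lc_a_rc_21_0 lc_a_rc_0_1 lc_a_rc_3_0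 lc_a_rc_2_0 lc_a_rc_3_2 lc_a_rc_22_0 lc_a_rc_5_0 lc_a_rc_0_1 lc_a_rc_5_0 lc_a_rc_4_2 lc_a_rc_4_0 lc_a_rc_5_2 lc_a_rc_4_0 lc_a_rc_22_0 lc_a_rc_22_0 lc_a_rc_3_2 lc_a_rc_5_2 lc_a_rc_1_4 lc_a_rc_1_2 lc_a_rc_3_2 lc_a_rc_4_2 lc_a_Cert_tree) (@D3.rec (fun _ => (Cert rels S Gen.a)) lc_a_rc_4_0 lc_a_rc_3_0 lc_a_rc_0_1 lc_a_rc_21_0 lc_a_rc_3_0 lc_a_rc_3_0 lc_a_rc_2_2 lc_a_rc_2_0 lc_a_rc_4_0 lc_a_Cert_tree lc_a_rc_4_2 lc_a_Cert_tree lc_a_rc_2_2 lc_a_rc_5_2 lc_a_rc_1_2 lc_a_rc_0_1 lc_a_rc_3_2 lc_a_rc_4_2 lc_a_rc_4_2 lc_a_rc_2_2 lc_a_rc_3_2 lc_a_rc_4_0 lc_a_rc_0_1 lc_a_rc_3_2 lc_a_rc_4_2 lc_a_rc_4_2 lc_a_rc_3_2 lc_a_rc_2_2 lc_a_rc_2_2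 lc_a_rc_21_0 lc_a_rc_0_1 lc_a_rc_3_2 lc_a_rc_4_2 lc_a_rc_22_0 lc_a_rc_4_2 lc_a_rc_21_0 lc_a_rc_3_0 lc_a_rc_2_2 lc_a_rc_4_2 lc_a_rc_3_2 lc_a_rc_2_2 lc_a_rc_4_2 lc_a_rc_3_2 lc_a_rc_3_2 lc_a_rc_4_2 lc_a_rc_2_2 lc_a_rc_3_0 lc_a_Cert_tree lc_a_rc_4_2 lc_a_rc_21_0 lc_a_rc_4_2 lc_a_rc_3_2 lc_a_rc_4_2 lc_a_rc_3_2 lc_a_rc_3_2 lc_a_rc_5_2 lc_a_rc_0_1 lc_a_rc_4_2 lc_a_rc_4_0 lc_a_rc_4_2 lc_a_rc_1_2 lc_a_rc_1_2) (@D3.rec (fun _ => (Cert rels S Gen.a)) lc_a_rc_3_2 lc_a_rc_2_2 lc_a_rc_21_0 lc_a_rc_2_2 lc_a_rc_2_2 lc_a_rc_2_2 lc_a_Cert_tree lc_a_rc_3_2 lc_a_rc_0_1 lc_a_rc_2_0 lc_a_rc_4_2 lc_a_rc_2_2 lc_a_rc_21_0 lc_a_rc_4_2 lc_a_rc_4_2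 lc_a_rc_21_0 lc_a_rc_4_2 lc_a_rc_3_2 lc_a_rc_1_2 lc_a_rc_3_2 lc_a_rc_2_2 lc_a_rc_5_2 lc_a_rc_22_0 lc_a_rc_3_2 lc_a_rc_2_0 lc_a_rc_4_2 lc_a_rc_2_2 lc_a_rc_2_2 lc_a_rc_0_1 lc_a_rc_4_2 lc_a_rc_4_0 lc_a_rc_3_2 lc_a_Cert_tree lc_a_rc_4_2 lc_a_rc_3_2 lc_a_rc_5_0 lc_a_rc_21_0 lc_a_rc_21_0 lc_a_rc_4_2 lc_a_rc_21_0 lc_a_rc_2_2 lc_a_rc_22_0 lc_a_rc_5_0 lc_a_rc_0_1 lc_a_rc_5_2 lc_a_rc_1_2 lc_a_rc_3_2 lc_a_rc_3_0 lc_a_rc_0_1 lc_a_rc_22_0 lc_a_rc_2_0 lc_a_rc_0_1 lc_a_rc_4_0 lc_a_rc_4_2 lc_a_rc_2_2 lc_a_rc_2_0 lc_a_Cert_tree lc_a_rc_22_0 lc_a_rc_21_0 lc_a_rc_4_2 lc_a_rc_2_0 lc_a_rc_0_1) (@D3.rec (fun _ => (Cert rels S Gen.a)) lc_a_rc_1_2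 lc_a_rc_2_2 lc_a_rc_5_2 lc_a_rc_3_2 lc_a_rc_2_2 lc_a_rc_21_0 lc_a_rc_4_2 lc_a_rc_0_1 lc_a_rc_3_2 lc_a_rc_2_2 lc_a_rc_1_4 lc_a_rc_4_2 lc_a_rc_2_2 lc_a_rc_3_2 lc_a_rc_4_2 lc_a_rc_4_2 lc_a_rc_1_4 lc_a_rc_3_2 lc_a_Cert_tree lc_a_rc_5_2 lc_a_rc_4_2 lc_a_rc_5_2 lc_a_rc_0_1 lc_a_rc_0_1 lc_a_rc_3_2 lc_a_rc_21_0 lc_a_rc_3_2 lc_a_rc_3_0 lc_a_rc_22_0 lc_a_rc_4_2 lc_a_rc_21_0 lc_a_rc_2_2 lc_a_rc_4_2 lc_a_rc_3_2 lc_a_rc_0_1 lc_a_Cert_tree lc_a_Cert_tree lc_a_rc_2_2 lc_a_Cert_tree lc_a_rc_4_2 lc_a_rc_3_2 lc_a_rc_0_1 lc_a_rc_3_0 lc_a_rc_3_2 lc_a_rc_0_1 lc_a_rc_4_0 lc_a_rc_3_2 lc_a_rc_0_1 lc_a_rc_0_1 lc_a_rc_2_2 lc_a_rc_3_2 lc_a_rc_2_2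 lc_a_rc_4_2 lc_a_rc_0_1 lc_a_rc_0_1 lc_a_rc_2_2 lc_a_rc_2_2 lc_a_rc_3_2 lc_a_rc_3_2 lc_a_rc_5_2 lc_a_Cert_tree lc_a_rc_2_2) (@D3.rec (fun _ => (Cert rels S Gen.a)) lc_a_rc_3_2 lc_a_rc_3_0 lc_a_rc_3_2 lc_a_rc_2_2 lc_a_rc_2_2 lc_a_rc_2_2 lc_a_rc_4_2 lc_a_rc_3_0 lc_a_rc_4_2 lc_a_Cert_tree lc_a_rc_21_0 lc_a_rc_2_2 lc_a_rc_22_0 lc_a_rc_4_2 lc_a_rc_1_4 lc_a_rc_0_1 lc_a_rc_4_2 lc_a_rc_0_1 lc_a_rc_3_2 lc_a_rc_0_1 lc_a_rc_3_2 lc_a_rc_3_2 lc_a_rc_21_0 lc_a_rc_3_2 lc_a_rc_2_2 lc_a_rc_2_2 lc_a_rc_3_2 lc_a_rc_21_0 lc_a_Cert_tree lc_a_Cert_tree lc_a_rc_3_2 lc_a_rc_2_2 lc_a_rc_4_2 lc_a_rc_1_4 lc_a_rc_2_2 lc_a_rc_21_0 lc_a_rc_0_1 lc_a_rc_4_0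 lc_a_rc_2_2 lc_a_rc_2_0 lc_a_rc_0_1 lc_a_rc_3_2 lc_a_rc_4_2 lc_a_rc_3_2 lc_a_rc_0_1 lc_a_rc_3_0 lc_a_rc_2_2 lc_a_rc_3_2 lc_a_rc_3_2 lc_a_rc_21_0 lc_a_rc_3_0 lc_a_rc_2_2 lc_a_rc_4_2 lc_a_rc_2_2 lc_a_rc_4_2 lc_a_rc_21_0 lc_a_rc_2_2 lc_a_rc_3_2 lc_a_rc_0_1 lc_a_Cert_tree lc_a_rc_2_2 lc_a_rc_3_2) (@D3.rec (fun _ => (Cert rels S Gen.a)) lc_a_rc_2_0 lc_a_rc_21_0 lc_a_Cert_tree lc_a_rc_22_0 lc_a_rc_0_1 lc_a_rc_4_2 lc_a_rc_3_2 lc_a_rc_3_0 lc_a_rc_3_0 lc_a_Cert_tree lc_a_rc_0_1 lc_a_rc_2_2 lc_a_rc_21_0 lc_a_rc_0_1 lc_a_rc_4_0 lc_a_rc_3_2 lc_a_rc_2_2 lc_a_rc_2_2 lc_a_Cert_tree lc_a_rc_3_2 lc_a_rc_2_2 lc_a_rc_3_0 lc_a_rc_3_2 lc_a_rc_3_2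 lc_a_rc_4_2 lc_a_rc_3_2 lc_a_rc_4_2 lc_a_rc_0_1 lc_a_rc_4_0 lc_a_rc_0_1 lc_a_rc_3_2 lc_a_rc_21_0 lc_a_rc_1_4 lc_a_rc_3_0 lc_a_rc_22_0 lc_a_rc_21_0 lc_a_rc_2_2 lc_a_rc_22_0 lc_a_Cert_tree lc_a_rc_3_2 lc_a_rc_21_0 lc_a_rc_0_1 lc_a_Cert_tree lc_a_rc_3_2 lc_a_rc_3_2 lc_a_rc_3_2 lc_a_rc_0_1 lc_a_rc_5_2 lc_a_rc_3_2 lc_a_rc_2_0 lc_a_rc_2_2 lc_a_rc_21_0 lc_a_rc_3_0 lc_a_rc_0_1 lc_a_rc_2_2 lc_a_rc_3_2 lc_a_rc_4_2 lc_a_rc_4_2 lc_a_rc_0_1 lc_a_rc_0_1 lc_a_rc_2_2 lc_a_rc_2_0) (@D3.rec (fun _ => (Cert rels S Gen.a)) lc_a_rc_5_2 lc_a_rc_4_0 lc_a_rc_2_2 lc_a_rc_1_4 lc_a_rc_3_2 lc_a_rc_2_2 lc_a_rc_4_2 lc_a_rc_2_2 lc_a_rc_22_0 lc_a_rc_3_2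 lc_a_rc_22_0 lc_a_rc_1_2 lc_a_rc_4_2 lc_a_rc_1_0 lc_a_rc_3_2 lc_a_rc_4_2 lc_a_rc_0_1 lc_a_rc_4_2 lc_a_rc_3_2 lc_a_rc_4_2 lc_a_rc_3_2 lc_a_rc_4_2 lc_a_rc_0_1 lc_a_rc_22_0 lc_a_rc_5_2 lc_a_rc_1_2 lc_a_rc_3_0 lc_a_rc_2_2 lc_a_rc_2_2 lc_a_rc_4_2 lc_a_rc_0_1 lc_a_rc_2_2 lc_a_rc_0_1 lc_a_rc_21_0 lc_a_rc_0_1 lc_a_rc_4_2 lc_a_rc_3_2 lc_a_rc_2_0 lc_a_rc_3_2 lc_a_rc_5_2 lc_a_rc_21_0 lc_a_rc_3_2 lc_a_rc_4_2 lc_a_rc_21_0 lc_a_rc_3_2 lc_a_rc_3_2 lc_a_rc_3_2 lc_a_rc_2_2 lc_a_rc_5_2 lc_a_rc_2_2 lc_a_rc_4_2 lc_a_rc_4_0 lc_a_rc_0_1 lc_a_rc_2_2 lc_a_rc_2_2 lc_a_rc_4_2 lc_a_rc_0_1 lc_a_rc_22_0 lc_a_rc_3_2 lc_a_rc_5_0 lc_a_rc_3_2 lc_a_rc_4_2)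 (@D3.rec (fun _ => (Cert rels S Gen.a)) lc_a_rc_2_2 lc_a_rc_21_0 lc_a_rc_2_2 lc_a_rc_4_2 lc_a_rc_1_2 lc_a_rc_2_0 lc_a_rc_2_2 lc_a_rc_3_0 lc_a_rc_2_2 lc_a_rc_2_2 lc_a_rc_0_1 lc_a_rc_3_2 lc_a_rc_1_0 lc_a_rc_4_2 lc_a_rc_1_4 lc_a_rc_3_2 lc_a_rc_4_2 lc_a_rc_3_2 lc_a_rc_21_0 lc_a_rc_1_0 lc_a_rc_5_2 lc_a_rc_2_2 lc_a_rc_5_2 lc_a_rc_4_2 lc_a_rc_2_2 lc_a_rc_4_2 lc_a_rc_5_0 lc_a_rc_3_2 lc_a_rc_5_2 lc_a_rc_3_2 lc_a_rc_2_2 lc_a_rc_0_1 lc_a_rc_2_0 lc_a_rc_1_4 lc_a_rc_1_0 lc_a_rc_4_2 lc_a_rc_1_0 lc_a_rc_2_0 lc_a_rc_0_1 lc_a_rc_3_2 lc_a_rc_0_1 lc_a_rc_2_0 lc_a_rc_3_2 lc_a_rc_4_2 lc_a_rc_3_2 lc_a_rc_1_2 lc_a_rc_2_2 lc_a_rc_4_2 lc_a_rc_5_2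 lc_a_rc_21_0 lc_a_rc_3_2 lc_a_rc_0_1 lc_a_rc_2_2 lc_a_rc_0_1 lc_a_rc_21_0 lc_a_rc_3_2 lc_a_rc_4_2 lc_a_rc_5_2 lc_a_rc_3_2 lc_a_rc_0_1 lc_a_rc_21_0 lc_a_rc_5_0) (@D3.rec (fun _ => (Cert rels S Gen.a)) lc_a_rc_1_4 lc_a_rc_2_2 lc_a_rc_2_2 lc_a_rc_3_0 lc_a_Cert_tree lc_a_rc_2_2 lc_a_rc_4_2 lc_a_rc_4_0 lc_a_rc_3_2 lc_a_rc_4_0 lc_a_rc_4_2 lc_a_rc_3_2 lc_a_rc_3_2 lc_a_rc_0_1 lc_a_rc_4_2 lc_a_rc_21_0 lc_a_rc_4_2 lc_a_rc_5_2 lc_a_Cert_tree lc_a_rc_3_2 lc_a_rc_2_2 lc_a_rc_4_2 lc_a_rc_4_2 lc_a_rc_4_2 lc_a_rc_2_2 lc_a_rc_2_2 lc_a_rc_3_2 lc_a_Cert_tree lc_a_rc_5_2 lc_a_rc_4_2 lc_a_rc_5_2 lc_a_rc_0_1 lc_a_rc_5_2 lc_a_rc_2_2 lc_a_rc_21_0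 lc_a_rc_0_1 lc_a_rc_0_1 lc_a_rc_0_1 lc_a_rc_2_0 lc_a_rc_4_0 lc_a_rc_21_0 lc_a_Cert_tree lc_a_rc_4_2 lc_a_rc_0_1 lc_a_rc_2_0 lc_a_rc_0_1 lc_a_rc_0_1 lc_a_rc_4_2 lc_a_rc_4_2 lc_a_Cert_tree lc_a_rc_22_0 lc_a_rc_4_2 lc_a_rc_22_0 lc_a_rc_3_0 lc_a_rc_1_4 lc_a_rc_2_0 lc_a_rc_0_1 lc_a_rc_4_2 lc_a_rc_3_2 lc_a_rc_21_0 lc_a_rc_21_0 lc_a_rc_0_1) (@D3.rec (fun _ => (Cert rels S Gen.a)) lc_a_rc_2_2 lc_a_rc_0_1 lc_a_rc_0_1 lc_a_Cert_tree lc_a_rc_3_2 lc_a_rc_0_1 lc_a_rc_5_2 lc_a_Cert_tree lc_a_rc_3_2 lc_a_rc_4_2 lc_a_rc_3_2 lc_a_rc_1_0 lc_a_rc_2_0 lc_a_rc_2_2 lc_a_rc_5_2 lc_a_rc_4_2 lc_a_rc_0_1 lc_a_rc_2_0 lc_a_rc_1_0 lc_a_rc_2_0 lc_a_rc_1_4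 lc_a_rc_21_0 lc_a_rc_21_0 lc_a_rc_3_2 lc_a_rc_2_2 lc_a_rc_21_0 lc_a_rc_3_2 lc_a_rc_4_2 lc_a_Cert_tree lc_a_rc_22_0 lc_a_rc_0_1 lc_a_rc_21_0 lc_a_rc_4_2 lc_a_rc_3_2 lc_a_rc_4_2 lc_a_rc_3_2 lc_a_rc_0_1 lc_a_rc_21_0 lc_a_rc_3_2 lc_a_rc_21_0 lc_a_Cert_tree lc_a_Cert_tree lc_a_rc_3_0 lc_a_rc_4_2 lc_a_rc_5_2 lc_a_rc_4_2 lc_a_rc_0_1 lc_a_rc_0_1 lc_a_Cert_tree lc_a_rc_3_0 lc_a_rc_3_2 lc_a_rc_4_2 lc_a_rc_1_4 lc_a_rc_4_2 lc_a_rc_0_1 lc_a_rc_3_2 lc_a_rc_2_2 lc_a_rc_2_2 lc_a_rc_4_2 lc_a_rc_3_2 lc_a_rc_3_2 lc_a_rc_3_2) (@D3.rec (fun _ => (Cert rels S Gen.a)) lc_a_rc_3_2 lc_a_rc_3_2 lc_a_rc_4_2 lc_a_rc_3_2 lc_a_rc_0_1 lc_a_rc_2_2 lc_a_rc_4_2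 lc_a_rc_5_2 lc_a_rc_2_2 lc_a_rc_3_2 lc_a_Cert_tree lc_a_rc_2_2 lc_a_rc_2_0 lc_a_rc_4_2 lc_a_rc_3_0 lc_a_rc_2_2 lc_a_rc_0_1 lc_a_rc_2_0 lc_a_rc_3_2 lc_a_rc_1_2 lc_a_rc_5_0 lc_a_rc_3_2 lc_a_rc_3_2 lc_a_rc_5_2 lc_a_rc_4_0 lc_a_rc_22_0 lc_a_rc_0_1 lc_a_rc_2_2 lc_a_rc_1_4 lc_a_rc_3_2 lc_a_rc_0_1 lc_a_rc_2_0 lc_a_rc_0_1 lc_a_rc_0_1 lc_a_rc_2_2 lc_a_rc_21_0 lc_a_rc_1_2 lc_a_rc_3_2 lc_a_rc_3_2 lc_a_rc_4_0 lc_a_rc_3_2 lc_a_rc_5_2 lc_a_rc_2_2 lc_a_rc_5_2 lc_a_rc_0_1 lc_a_rc_2_2 lc_a_rc_0_1 lc_a_rc_21_0 lc_a_rc_2_2 lc_a_rc_21_0 lc_a_rc_4_2 lc_a_rc_3_2 lc_a_Cert_tree lc_a_rc_2_2 lc_a_rc_3_0 lc_a_rc_1_4 lc_a_rc_5_2 lc_a_rc_3_2 lc_a_rc_2_2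 lc_a_rc_3_2 lc_a_rc_0_1 lc_a_rc_0_1) (@D3.rec (fun _ => (Cert rels S Gen.a)) lc_a_rc_2_2 lc_a_rc_2_2 lc_a_rc_3_2 lc_a_rc_22_0 lc_a_rc_5_2 lc_a_rc_5_0 lc_a_rc_2_2 lc_a_rc_3_2 lc_a_rc_4_2 lc_a_rc_5_2 lc_a_rc_3_0 lc_a_rc_0_1 lc_a_rc_3_2 lc_a_rc_2_2 lc_a_rc_21_0 lc_a_rc_4_2 lc_a_rc_5_2 lc_a_rc_4_2 lc_a_rc_3_0 lc_a_rc_21_0 lc_a_rc_3_2 lc_a_rc_0_1 lc_a_rc_5_2 lc_a_rc_1_0 lc_a_rc_2_2 lc_a_rc_4_2 lc_a_rc_2_2 lc_a_rc_0_1 lc_a_Cert_tree lc_a_rc_22_0 lc_a_rc_2_2 lc_a_rc_3_0 lc_a_rc_0_1 lc_a_rc_4_0 lc_a_rc_5_0 lc_a_rc_0_1 lc_a_rc_1_4 lc_a_rc_3_2 lc_a_rc_3_2 lc_a_rc_0_1 lc_a_rc_1_4 lc_a_rc_0_1 lc_a_rc_1_4 lc_a_rc_2_2 lc_a_rc_4_2 lc_a_rc_2_2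 lc_a_rc_3_2 lc_a_rc_2_0 lc_a_rc_2_2 lc_a_rc_3_2 lc_a_rc_4_2 lc_a_rc_3_2 lc_a_rc_22_0 lc_a_Cert_tree lc_a_rc_5_0 lc_a_rc_3_0 lc_a_rc_3_2 lc_a_rc_2_0 lc_a_rc_0_1 lc_a_rc_0_1 lc_a_rc_5_2 lc_a_rc_4_2) (@D3.rec (fun _ => (Cert rels S Gen.a)) lc_a_rc_3_2 lc_a_rc_3_2 lc_a_rc_3_0 lc_a_Cert_tree lc_a_rc_21_0 lc_a_rc_4_2 lc_a_Cert_tree lc_a_rc_2_2 lc_a_rc_4_2 lc_a_rc_1_4 lc_a_rc_3_2 lc_a_rc_3_2 lc_a_rc_4_2 lc_a_rc_0_1 lc_a_rc_0_1 lc_a_rc_3_2 lc_a_rc_4_2 lc_a_rc_4_2 lc_a_rc_2_2 lc_a_rc_2_2 lc_a_rc_2_0 lc_a_rc_21_0 lc_a_rc_4_2 lc_a_Cert_tree lc_a_rc_0_1 lc_a_rc_4_2 lc_a_rc_4_2 lc_a_rc_1_0 lc_a_Cert_tree lc_a_rc_5_2 lc_a_rc_3_2 lc_a_Cert_tree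 lc_a_rc_0_1 lc_a_rc_5_0 lc_a_rc_0_1 lc_a_rc_2_0 lc_a_rc_4_2 lc_a_rc_3_0 lc_a_rc_2_2 lc_a_rc_0_1 lc_a_rc_4_2 lc_a_rc_2_2 lc_a_rc_3_2 lc_a_rc_21_0 lc_a_rc_4_2 lc_a_rc_2_0 lc_a_rc_2_2 lc_a_rc_22_0 lc_a_rc_21_0 lc_a_rc_21_0 lc_a_rc_0_1 lc_a_rc_0_1 lc_a_rc_3_2 lc_a_rc_2_2 lc_a_rc_21_0 lc_a_rc_2_2 lc_a_rc_2_2 lc_a_rc_1_4 lc_a_rc_2_2 lc_a_rc_5_2 lc_a_rc_3_2 lc_a_Cert_tree)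
def ce_a_13 : D2 → D3 → (Cert rels S Gen.a) := @D2.rec (fun _ => D3 → (Cert rels S Gen.a)) (@D3.rec (fun _ => (Cert rels S Gen.a)) lc_a_rc_2_2 lc_a_rc_1_2 lc_a_rc_0_1 lc_a_rc_3_2 lc_a_rc_4_2 lc_a_rc_1_4 lc_a_rc_0_1 lc_a_Cert_tree lc_a_rc_22_0 lc_a_rc_4_2 lc_a_rc_21_0 lc_a_rc_4_2 lc_a_rc_0_1 lc_a_rc_2_0 lc_a_rc_5_2 lc_a_rc_5_0 lc_a_rc_0_1 lc_a_rc_2_2 lc_a_rc_3_2 lc_a_rc_0_1 lc_a_rc_21_0 lc_a_rc_3_2 lc_a_rc_1_4 lc_a_rc_2_2 lc_a_rc_4_2 lc_a_rc_3_0 lc_a_rc_3_2 lc_a_rc_5_2 lc_a_rc_0_1 lc_a_rc_4_2 lc_a_rc_5_0 lc_a_rc_3_0 lc_a_rc_4_2 lc_a_rc_5_2 lc_a_Cert_tree lc_a_rc_0_1 lc_a_rc_5_0 lc_a_rc_2_0 lc_a_rc_0_1 lc_a_rc_3_2 lc_a_rc_4_2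 lc_a_rc_2_2 lc_a_rc_22_0 lc_a_rc_2_2 lc_a_rc_4_2 lc_a_rc_1_4 lc_a_rc_22_0 lc_a_rc_0_1 lc_a_rc_21_0 lc_a_rc_2_2 lc_a_rc_4_2 lc_a_rc_2_2 lc_a_rc_3_2 lc_a_rc_3_2 lc_a_rc_4_2 lc_a_rc_4_2 lc_a_rc_2_2 lc_a_rc_0_1 lc_a_rc_4_0 lc_a_rc_4_2 lc_a_rc_3_0 lc_a_rc_1_2) (@D3.rec (fun _ => (Cert rels S Gen.a)) lc_a_rc_4_2 lc_a_rc_3_2 lc_a_rc_2_0 lc_a_rc_0_1 lc_a_rc_2_2 lc_a_rc_0_1 lc_a_rc_4_0 lc_a_rc_4_0 lc_a_rc_3_0 lc_a_rc_0_1 lc_a_rc_1_4 lc_a_rc_2_2 lc_a_rc_2_2 lc_a_Cert_tree lc_a_rc_3_2 lc_a_rc_3_2 lc_a_rc_2_2 lc_a_rc_3_2 lc_a_rc_2_2 lc_a_rc_1_4 lc_a_rc_4_2 lc_a_rc_4_0 lc_a_rc_2_2 lc_a_rc_5_0 lc_a_rc_2_2 lc_a_rc_3_2 lc_a_rc_0_1 lc_a_Cert_tree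 lc_a_rc_3_2 lc_a_rc_2_2 lc_a_rc_1_2 lc_a_rc_3_2 lc_a_rc_2_2 lc_a_rc_4_2 lc_a_rc_4_2 lc_a_rc_1_0 lc_a_rc_2_2 lc_a_rc_4_2 lc_a_rc_3_2 lc_a_rc_4_2 lc_a_rc_3_2 lc_a_rc_4_2 lc_a_rc_3_2 lc_a_rc_1_0 lc_a_rc_1_0 lc_a_rc_5_0 lc_a_rc_2_2 lc_a_rc_0_1 lc_a_rc_21_0 lc_a_rc_1_4 lc_a_rc_4_2 lc_a_rc_4_0 lc_a_rc_3_0 lc_a_rc_0_1 lc_a_rc_3_0 lc_a_rc_5_2 lc_a_rc_2_0 lc_a_rc_3_0 lc_a_rc_21_0 lc_a_rc_2_2 lc_a_rc_2_2 lc_a_rc_4_2) (@D3.rec (fun _ => (Cert rels S Gen.a)) lc_a_rc_2_2 lc_a_rc_2_0 lc_a_rc_4_2 lc_a_rc_3_2 lc_a_rc_2_2 lc_a_Cert_tree lc_a_Cert_tree lc_a_rc_4_2 lc_a_rc_3_2 lc_a_rc_3_2 lc_a_rc_5_0 lc_a_rc_4_0 lc_a_rc_22_0 lc_a_rc_4_2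 lc_a_rc_4_2 lc_a_rc_3_2 lc_a_rc_4_2 lc_a_rc_0_1 lc_a_rc_5_0 lc_a_rc_2_2 lc_a_rc_2_2 lc_a_rc_1_2 lc_a_rc_0_1 lc_a_rc_3_2 lc_a_rc_21_0 lc_a_rc_4_2 lc_a_rc_0_1 lc_a_rc_3_2 lc_a_rc_0_1 lc_a_rc_3_2 lc_a_rc_4_2 lc_a_rc_1_2 lc_a_rc_3_2 lc_a_Cert_tree lc_a_Cert_tree lc_a_rc_5_0 lc_a_rc_2_2 lc_a_rc_0_1 lc_a_rc_3_2 lc_a_rc_0_1 lc_a_rc_4_2 lc_a_rc_1_4 lc_a_rc_1_0 lc_a_rc_0_1 lc_a_rc_3_2 lc_a_rc_3_2 lc_a_rc_4_2 lc_a_rc_2_2 lc_a_rc_4_2 lc_a_rc_21_0 lc_a_rc_4_2 lc_a_rc_3_2 lc_a_rc_5_2 lc_a_rc_3_2 lc_a_Cert_tree lc_a_rc_3_2 lc_a_rc_2_2 lc_a_rc_5_2 lc_a_rc_0_1 lc_a_rc_21_0 lc_a_rc_3_2 lc_a_rc_3_2) (@D3.rec (fun _ => (Cert rels S Gen.a))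 lc_a_rc_4_2 lc_a_rc_2_2 lc_a_rc_4_2 lc_a_rc_3_2 lc_a_rc_4_2 lc_a_rc_4_2 lc_a_rc_3_2 lc_a_rc_2_0 lc_a_rc_21_0 lc_a_rc_3_2 lc_a_rc_5_2 lc_a_rc_5_0 lc_a_rc_21_0 lc_a_rc_2_2 lc_a_rc_2_2 lc_a_rc_4_2 lc_a_rc_4_2 lc_a_rc_1_2 lc_a_rc_1_4 lc_a_rc_1_2 lc_a_rc_4_2 lc_a_rc_4_0 lc_a_rc_0_1 lc_a_rc_21_0 lc_a_rc_2_2 lc_a_rc_2_2 lc_a_rc_0_1 lc_a_rc_3_2 lc_a_rc_4_2 lc_a_rc_2_2 lc_a_rc_2_2 lc_a_rc_4_2 lc_a_rc_0_1 lc_a_rc_0_1 lc_a_rc_3_2 lc_a_rc_22_0 lc_a_rc_4_0 lc_a_rc_3_2 lc_a_Cert_tree lc_a_rc_2_2 lc_a_rc_4_2 lc_a_Cert_tree lc_a_rc_4_0 lc_a_rc_2_2 lc_a_rc_21_0 lc_a_Cert_tree lc_a_rc_2_2 lc_a_rc_2_2 lc_a_rc_5_0 lc_a_rc_2_0 lc_a_rc_3_2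 lc_a_rc_1_2 lc_a_rc_0_1 lc_a_rc_3_2 lc_a_rc_4_2 lc_a_rc_5_0 lc_a_rc_3_2 lc_a_rc_2_2 lc_a_rc_4_2 lc_a_rc_0_1 lc_a_rc_3_2 lc_a_rc_2_2) (@D3.rec (fun _ => (Cert rels S Gen.a)) lc_a_rc_5_0 lc_a_rc_22_0 lc_a_rc_21_0 lc_a_rc_3_2 lc_a_rc_4_2 lc_a_rc_3_2 lc_a_rc_4_2 lc_a_rc_4_0 lc_a_rc_2_0 lc_a_rc_5_2 lc_a_rc_3_2 lc_a_rc_4_2 lc_a_rc_3_2 lc_a_rc_3_2 lc_a_rc_2_2 lc_a_rc_2_2 lc_a_rc_0_1 lc_a_rc_21_0 lc_a_rc_22_0 lc_a_rc_4_2 lc_a_rc_21_0 lc_a_rc_4_0 lc_a_rc_1_2 lc_a_rc_4_2 lc_a_Cert_tree lc_a_rc_3_2 lc_a_rc_5_2 lc_a_rc_0_1 lc_a_rc_4_0 lc_a_rc_0_1 lc_a_rc_21_0 lc_a_rc_3_2 lc_a_rc_4_2 lc_a_rc_2_2 lc_a_rc_4_0 lc_a_rc_0_1 lc_a_rc_4_2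 lc_a_rc_3_2 lc_a_rc_4_2 lc_a_Cert_tree lc_a_rc_4_2 lc_a_rc_21_0 lc_a_rc_4_2 lc_a_rc_5_2 lc_a_rc_5_0 lc_a_Cert_tree lc_a_rc_0_1 lc_a_rc_1_4 lc_a_rc_3_2 lc_a_rc_0_1 lc_a_rc_2_0 lc_a_rc_3_2 lc_a_rc_4_2 lc_a_rc_1_0 lc_a_rc_2_0 lc_a_rc_0_1 lc_a_rc_21_0 lc_a_rc_1_4 lc_a_rc_0_1 lc_a_rc_1_4 lc_a_rc_4_2 lc_a_rc_2_2) (@D3.rec (fun _ => (Cert rels S Gen.a)) lc_a_rc_5_0 lc_a_rc_2_0 lc_a_Cert_tree lc_a_rc_0_1 lc_a_rc_0_1 lc_a_rc_22_0 lc_a_rc_3_0 lc_a_rc_4_0 lc_a_rc_0_1 lc_a_rc_21_0 lc_a_rc_4_2 lc_a_rc_3_2 lc_a_rc_4_2 lc_a_rc_4_2 lc_a_rc_4_2 lc_a_rc_2_2 lc_a_rc_4_2 lc_a_rc_3_2 lc_a_rc_3_2 lc_a_rc_21_0 lc_a_rc_2_2 lc_a_rc_3_0 lc_a_rc_22_0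 lc_a_rc_0_1 lc_a_rc_4_2 lc_a_rc_4_2 lc_a_rc_2_2 lc_a_rc_3_2 lc_a_rc_5_2 lc_a_rc_21_0 lc_a_rc_0_1 lc_a_rc_3_2 lc_a_rc_5_2 lc_a_rc_3_2 lc_a_rc_3_2 lc_a_rc_4_2 lc_a_rc_0_1 lc_a_rc_3_2 lc_a_rc_3_0 lc_a_rc_5_0 lc_a_Cert_tree lc_a_rc_2_2 lc_a_rc_5_2 lc_a_rc_4_2 lc_a_rc_4_2 lc_a_rc_1_2 lc_a_rc_3_2 lc_a_rc_3_2 lc_a_rc_4_2 lc_a_rc_3_2 lc_a_rc_3_0 lc_a_rc_2_2 lc_a_rc_5_2 lc_a_rc_0_1 lc_a_rc_3_2 lc_a_rc_4_2 lc_a_rc_1_2 lc_a_rc_22_0 lc_a_rc_4_2 lc_a_rc_2_2 lc_a_rc_4_2 lc_a_rc_3_2) (@D3.rec (fun _ => (Cert rels S Gen.a)) lc_a_rc_0_1 lc_a_rc_2_2 lc_a_rc_4_2 lc_a_rc_3_0 lc_a_rc_4_2 lc_a_rc_2_2 lc_a_Cert_tree lc_a_rc_22_0 lc_a_rc_3_2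 lc_a_rc_4_2 lc_a_rc_5_0 lc_a_rc_4_2 lc_a_rc_3_0 lc_a_rc_4_2 lc_a_rc_0_1 lc_a_rc_4_2 lc_a_rc_0_1 lc_a_rc_0_1 lc_a_rc_4_2 lc_a_rc_21_0 lc_a_rc_4_2 lc_a_rc_3_2 lc_a_rc_4_2 lc_a_rc_3_0 lc_a_rc_0_1 lc_a_rc_2_0 lc_a_rc_2_2 lc_a_rc_21_0 lc_a_rc_3_2 lc_a_rc_4_2 lc_a_rc_4_2 lc_a_rc_5_2 lc_a_rc_2_2 lc_a_rc_2_2 lc_a_rc_4_2 lc_a_rc_2_2 lc_a_rc_4_2 lc_a_rc_0_1 lc_a_rc_3_2 lc_a_rc_3_2 lc_a_rc_4_2 lc_a_rc_3_2 lc_a_rc_4_2 lc_a_rc_4_2 lc_a_rc_2_2 lc_a_rc_1_2 lc_a_rc_5_2 lc_a_rc_3_2 lc_a_rc_4_2 lc_a_rc_0_1 lc_a_rc_2_2 lc_a_rc_21_0 lc_a_rc_3_2 lc_a_rc_3_2 lc_a_rc_3_2 lc_a_rc_4_2 lc_a_rc_3_2 lc_a_rc_3_2 lc_a_rc_4_2 lc_a_rc_4_2 lc_a_rc_21_0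 lc_a_rc_0_1) (@D3.rec (fun _ => (Cert rels S Gen.a)) lc_a_rc_3_2 lc_a_rc_4_2 lc_a_rc_4_2 lc_a_rc_21_0 lc_a_rc_2_2 lc_a_rc_3_2 lc_a_Cert_tree lc_a_rc_3_0 lc_a_rc_3_2 lc_a_Cert_tree lc_a_rc_3_2 lc_a_rc_4_2 lc_a_rc_3_2 lc_a_rc_3_2 lc_a_rc_1_4 lc_a_rc_0_1 lc_a_rc_3_2 lc_a_rc_4_2 lc_a_Cert_tree lc_a_rc_21_0 lc_a_rc_3_2 lc_a_rc_5_0 lc_a_rc_3_2 lc_a_rc_2_2 lc_a_rc_5_2 lc_a_rc_21_0 lc_a_rc_0_1 lc_a_rc_3_2 lc_a_rc_3_2 lc_a_rc_4_2 lc_a_Cert_tree lc_a_rc_2_2 lc_a_rc_4_2 lc_a_Cert_tree lc_a_rc_3_2 lc_a_rc_4_2 lc_a_rc_2_2 lc_a_rc_21_0 lc_a_Cert_tree lc_a_rc_4_2 lc_a_rc_5_0 lc_a_rc_0_1 lc_a_rc_0_1 lc_a_rc_3_2 lc_a_rc_3_2 lc_a_rc_5_0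 lc_a_rc_21_0 lc_a_Cert_tree lc_a_rc_2_2 lc_a_rc_4_2 lc_a_rc_4_0 lc_a_rc_1_2 lc_a_rc_4_2 lc_a_rc_4_2 lc_a_rc_0_1 lc_a_rc_21_0 lc_a_rc_3_2 lc_a_rc_0_1 lc_a_rc_2_2 lc_a_rc_5_2 lc_a_rc_3_2 lc_a_rc_4_2) (@D3.rec (fun _ => (Cert rels S Gen.a)) lc_a_rc_4_0 lc_a_rc_21_0 lc_a_rc_0_1 lc_a_rc_3_2 lc_a_rc_5_2 lc_a_rc_2_2 lc_a_rc_3_2 lc_a_rc_3_2 lc_a_rc_0_1 lc_a_rc_21_0 lc_a_rc_3_2 lc_a_rc_4_2 lc_a_rc_21_0 lc_a_rc_0_1 lc_a_rc_1_4 lc_a_rc_22_0 lc_a_rc_2_0 lc_a_rc_3_2 lc_a_rc_2_0 lc_a_rc_3_2 lc_a_rc_0_1 lc_a_rc_3_0 lc_a_rc_2_2 lc_a_rc_5_2 lc_a_rc_5_2 lc_a_rc_3_2 lc_a_rc_2_2 lc_a_rc_3_0 lc_a_rc_2_2 lc_a_rc_4_2 lc_a_rc_2_2 lc_a_rc_4_2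 lc_a_rc_0_1 lc_a_rc_1_4 lc_a_rc_2_2 lc_a_rc_4_2 lc_a_rc_21_0 lc_a_rc_4_2 lc_a_Cert_tree lc_a_rc_2_2 lc_a_rc_4_2 lc_a_rc_3_2 lc_a_rc_2_2 lc_a_rc_4_2 lc_a_rc_1_4 lc_a_rc_3_0 lc_a_rc_5_2 lc_a_rc_4_2 lc_a_rc_4_2 lc_a_rc_3_2 lc_a_rc_4_2 lc_a_rc_3_0 lc_a_rc_1_4 lc_a_rc_2_2 lc_a_rc_5_0 lc_a_rc_3_2 lc_a_rc_4_2 lc_a_rc_5_2 lc_a_rc_0_1 lc_a_rc_2_2 lc_a_Cert_tree lc_a_rc_3_2) (@D3.rec (fun _ => (Cert rels S Gen.a)) lc_a_rc_3_2 lc_a_rc_2_2 lc_a_rc_4_2 lc_a_rc_1_2 lc_a_rc_1_2 lc_a_rc_3_2 lc_a_rc_0_1 lc_a_rc_2_2 lc_a_rc_3_2 lc_a_rc_3_2 lc_a_rc_21_0 lc_a_rc_3_2 lc_a_rc_3_0 lc_a_rc_2_2 lc_a_rc_22_0 lc_a_rc_4_2 lc_a_rc_0_1 lc_a_rc_0_1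 lc_a_rc_2_2 lc_a_rc_4_2 lc_a_rc_3_2 lc_a_rc_2_2 lc_a_rc_4_2 lc_a_rc_5_2 lc_a_rc_2_2 lc_a_rc_3_2 lc_a_rc_2_2 lc_a_rc_21_0 lc_a_rc_21_0 lc_a_rc_2_2 lc_a_rc_4_2 lc_a_rc_3_2 lc_a_rc_5_2 lc_a_rc_3_2 lc_a_rc_1_4 lc_a_rc_3_2 lc_a_rc_2_2 lc_a_Cert_tree lc_a_rc_3_2 lc_a_rc_0_1 lc_a_rc_1_4 lc_a_rc_0_1 lc_a_rc_0_1 lc_a_rc_1_2 lc_a_rc_21_0 lc_a_rc_4_2 lc_a_rc_21_0 lc_a_rc_4_2 lc_a_rc_3_2 lc_a_rc_4_2 lc_a_rc_4_2 lc_a_rc_3_2 lc_a_rc_21_0 lc_a_rc_3_2 lc_a_rc_5_2 lc_a_rc_3_2 lc_a_rc_2_2 lc_a_rc_4_2 lc_a_rc_0_1 lc_a_rc_3_2 lc_a_rc_4_2 lc_a_rc_21_0) (@D3.rec (fun _ => (Cert rels S Gen.a)) lc_a_rc_0_1 lc_a_rc_4_2 lc_a_rc_1_4 lc_a_rc_1_4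 lc_a_rc_3_2 lc_a_rc_4_2 lc_a_rc_21_0 lc_a_rc_21_0 lc_a_rc_3_2 lc_a_rc_4_2 lc_a_rc_2_0 lc_a_rc_2_2 lc_a_rc_1_0 lc_a_rc_5_2 lc_a_rc_2_2 lc_a_rc_0_1 lc_a_rc_0_1 lc_a_rc_3_2 lc_a_rc_21_0 lc_a_rc_2_2 lc_a_rc_5_2 lc_a_rc_1_4 lc_a_rc_4_2 lc_a_rc_21_0 lc_a_rc_0_1 lc_a_rc_3_2 lc_a_rc_2_2 lc_a_rc_4_2 lc_a_rc_4_2 lc_a_rc_3_2 lc_a_rc_3_2 lc_a_rc_21_0 lc_a_rc_3_2 lc_a_rc_5_2 lc_a_rc_0_1 lc_a_rc_4_2 lc_a_rc_5_2 lc_a_rc_4_2 lc_a_rc_0_1 lc_a_rc_3_2 lc_a_rc_4_2 lc_a_rc_2_2 lc_a_rc_4_2 lc_a_rc_3_2 lc_a_rc_3_2 lc_a_rc_0_1 lc_a_rc_2_2 lc_a_rc_4_2 lc_a_rc_3_2 lc_a_rc_3_2 lc_a_rc_4_2 lc_a_rc_5_0 lc_a_rc_0_1 lc_a_rc_2_2 lc_a_rc_5_2 lc_a_rc_21_0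 lc_a_rc_1_2 lc_a_rc_2_2 lc_a_rc_4_2 lc_a_rc_0_1 lc_a_rc_1_0 lc_a_rc_4_2) (@D3.rec (fun _ => (Cert rels S Gen.a)) lc_a_rc_3_2 lc_a_rc_2_0 lc_a_rc_0_1 lc_a_rc_3_0 lc_a_rc_2_2 lc_a_Cert_tree lc_a_rc_2_2 lc_a_rc_0_1 lc_a_rc_4_2 lc_a_rc_1_4 lc_a_rc_0_1 lc_a_rc_0_1 lc_a_rc_21_0 lc_a_Cert_tree lc_a_rc_2_0 lc_a_rc_4_2 lc_a_rc_3_2 lc_a_rc_3_2 lc_a_rc_4_2 lc_a_rc_4_2 lc_a_rc_21_0 lc_a_rc_3_2 lc_a_rc_2_2 lc_a_rc_4_2 lc_a_rc_4_2 lc_a_rc_4_2 lc_a_rc_3_2 lc_a_rc_5_2 lc_a_rc_1_2 lc_a_rc_2_2 lc_a_rc_4_2 lc_a_rc_22_0 lc_a_rc_4_2 lc_a_rc_3_2 lc_a_rc_0_1 lc_a_Cert_tree lc_a_rc_0_1 lc_a_rc_3_0 lc_a_rc_2_0 lc_a_rc_3_2 lc_a_rc_3_2 lc_a_rc_4_2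 lc_a_rc_3_2 lc_a_rc_5_0 lc_a_rc_2_2 lc_a_rc_4_2 lc_a_rc_2_0 lc_a_rc_4_2 lc_a_rc_22_0 lc_a_Cert_tree lc_a_rc_3_0 lc_a_rc_0_1 lc_a_rc_3_2 lc_a_rc_22_0 lc_a_rc_2_2 lc_a_rc_0_1 lc_a_rc_2_2 lc_a_rc_3_2 lc_a_rc_4_2 lc_a_rc_2_0 lc_a_rc_0_1 lc_a_Cert_tree) (@D3.rec (fun _ => (Cert rels S Gen.a)) lc_a_rc_2_0 lc_a_rc_3_2 lc_a_rc_4_2 lc_a_rc_2_0 lc_a_rc_0_1 lc_a_rc_0_1 lc_a_rc_3_2 lc_a_rc_4_2 lc_a_Cert_tree lc_a_rc_4_2 lc_a_rc_3_2 lc_a_rc_3_2 lc_a_Cert_tree lc_a_rc_3_0 lc_a_Cert_tree lc_a_rc_4_2 lc_a_Cert_tree lc_a_rc_0_1 lc_a_rc_0_1 lc_a_rc_3_2 lc_a_rc_21_0 lc_a_rc_4_2 lc_a_rc_4_2 lc_a_rc_2_2 lc_a_rc_2_2 lc_a_Cert_tree lc_a_rc_2_2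 lc_a_rc_5_0 lc_a_rc_0_1 lc_a_rc_3_2 lc_a_rc_0_1 lc_a_rc_4_2 lc_a_rc_21_0 lc_a_rc_3_2 lc_a_rc_3_2 lc_a_rc_4_2 lc_a_rc_21_0 lc_a_rc_0_1 lc_a_rc_4_2 lc_a_rc_4_2 lc_a_rc_5_0 lc_a_rc_3_2 lc_a_Cert_tree lc_a_rc_4_2 lc_a_rc_21_0 lc_a_rc_5_0 lc_a_rc_4_2 lc_a_rc_21_0 lc_a_rc_3_2 lc_a_rc_2_2 lc_a_rc_0_1 lc_a_rc_22_0 lc_a_Cert_tree lc_a_rc_3_2 lc_a_Cert_tree lc_a_rc_5_0 lc_a_rc_5_0 lc_a_rc_4_2 lc_a_rc_0_1 lc_a_rc_21_0 lc_a_rc_4_2 lc_a_rc_4_2) (@D3.rec (fun _ => (Cert rels S Gen.a)) lc_a_rc_5_0 lc_a_rc_0_1 lc_a_rc_3_2 lc_a_rc_4_2 lc_a_rc_21_0 lc_a_rc_3_2 lc_a_rc_2_2 lc_a_rc_4_2 lc_a_rc_3_2 lc_a_Cert_tree lc_a_rc_22_0 lc_a_rc_3_2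 lc_a_rc_4_2 lc_a_rc_0_1 lc_a_rc_0_1 lc_a_rc_2_2 lc_a_rc_4_2 lc_a_rc_3_2 lc_a_rc_3_2 lc_a_Cert_tree lc_a_rc_4_2 lc_a_rc_3_2 lc_a_rc_4_2 lc_a_rc_3_2 lc_a_rc_2_2 lc_a_rc_4_0 lc_a_rc_3_2 lc_a_rc_0_1 lc_a_rc_0_1 lc_a_Cert_tree lc_a_Cert_tree lc_a_rc_2_2 lc_a_rc_0_1 lc_a_rc_5_0 lc_a_rc_0_1 lc_a_rc_3_2 lc_a_rc_4_2 lc_a_rc_21_0 lc_a_rc_4_2 lc_a_rc_0_1 lc_a_rc_1_2 lc_a_rc_4_2 lc_a_rc_4_2 lc_a_rc_2_0 lc_a_rc_0_1 lc_a_rc_3_2 lc_a_rc_0_1 lc_a_Cert_tree lc_a_rc_3_2 lc_a_rc_2_2 lc_a_rc_4_2 lc_a_Cert_tree lc_a_rc_4_2 lc_a_rc_4_0 lc_a_rc_21_0 lc_a_rc_5_2 lc_a_rc_5_0 lc_a_rc_4_2 lc_a_rc_0_1 lc_a_rc_3_0 lc_a_rc_0_1 lc_a_rc_3_2) (@D3.rec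 (fun _ => (Cert rels S Gen.a)) lc_a_rc_4_2 lc_a_rc_1_4 lc_a_rc_1_2 lc_a_rc_1_4 lc_a_rc_0_1 lc_a_rc_3_2 lc_a_Cert_tree lc_a_rc_3_2 lc_a_rc_4_2 lc_a_Cert_tree lc_a_rc_2_2 lc_a_rc_4_2 lc_a_rc_3_2 lc_a_rc_2_2 lc_a_rc_5_2 lc_a_Cert_tree lc_a_rc_22_0 lc_a_Cert_tree lc_a_rc_4_2 lc_a_rc_4_2 lc_a_Cert_tree lc_a_rc_3_2 lc_a_rc_0_1 lc_a_rc_0_1 lc_a_rc_5_2 lc_a_rc_3_2 lc_a_rc_21_0 lc_a_rc_3_2 lc_a_rc_1_4 lc_a_rc_2_2 lc_a_rc_4_2 lc_a_rc_5_0 lc_a_rc_4_2 lc_a_rc_0_1 lc_a_rc_5_2 lc_a_Cert_tree lc_a_rc_4_2 lc_a_Cert_tree lc_a_rc_4_2 lc_a_rc_2_2 lc_a_rc_3_2 lc_a_rc_0_1 lc_a_rc_4_2 lc_a_rc_5_0 lc_a_rc_3_2 lc_a_rc_4_2 lc_a_rc_5_2 lc_a_rc_1_4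 lc_a_rc_4_2 lc_a_rc_2_2 lc_a_rc_2_2 lc_a_rc_2_0 lc_a_rc_2_2 lc_a_rc_4_2 lc_a_rc_3_2 lc_a_rc_5_2 lc_a_rc_1_2 lc_a_rc_3_2 lc_a_rc_21_0 lc_a_rc_3_2 lc_a_rc_2_2 lc_a_rc_5_2) (@D3.rec (fun _ => (Cert rels S Gen.a)) lc_a_rc_21_0 lc_a_rc_3_2 lc_a_rc_3_2 lc_a_rc_3_0 lc_a_rc_4_0 lc_a_rc_0_1 lc_a_rc_2_0 lc_a_rc_0_1 lc_a_rc_3_2 lc_a_rc_4_2 lc_a_rc_21_0 lc_a_rc_4_2 lc_a_rc_0_1 lc_a_Cert_tree lc_a_rc_0_1 lc_a_rc_2_2 lc_a_rc_4_2 lc_a_rc_2_2 lc_a_rc_1_0 lc_a_rc_0_1 lc_a_rc_0_1 lc_a_rc_4_0 lc_a_rc_0_1 lc_a_rc_3_2 lc_a_rc_4_2 lc_a_Cert_tree lc_a_rc_0_1 lc_a_rc_21_0 lc_a_rc_5_0 lc_a_rc_4_2 lc_a_rc_0_1 lc_a_rc_0_1 lc_a_rc_0_1 lc_a_rc_4_0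 lc_a_rc_3_2 lc_a_rc_3_2 lc_a_rc_5_2 lc_a_Cert_tree lc_a_rc_4_0 lc_a_rc_0_1 lc_a_rc_3_2 lc_a_rc_0_1 lc_a_rc_2_2 lc_a_rc_4_2 lc_a_rc_21_0 lc_a_Cert_tree lc_a_rc_4_2 lc_a_rc_1_4 lc_a_rc_2_2 lc_a_rc_5_2 lc_a_rc_4_2 lc_a_rc_4_0 lc_a_rc_2_0 lc_a_rc_0_1 lc_a_rc_3_2 lc_a_rc_4_2 lc_a_rc_3_2 lc_a_Cert_tree lc_a_rc_2_2 lc_a_rc_2_2 lc_a_rc_2_2 lc_a_rc_3_2) (@D3.rec (fun _ => (Cert rels S Gen.a)) lc_a_rc_0_1 lc_a_rc_22_0 lc_a_rc_4_2 lc_a_rc_2_0 lc_a_rc_0_1 lc_a_rc_3_2 lc_a_rc_1_4 lc_a_Cert_tree lc_a_rc_3_2 lc_a_rc_22_0 lc_a_rc_3_2 lc_a_rc_0_1 lc_a_rc_1_0 lc_a_rc_2_2 lc_a_rc_4_2 lc_a_Cert_tree lc_a_rc_4_2 lc_a_Cert_tree lc_a_rc_4_2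 lc_a_Cert_tree lc_a_rc_4_2 lc_a_rc_2_0 lc_a_rc_3_2 lc_a_rc_5_2 lc_a_rc_4_2 lc_a_rc_1_2 lc_a_rc_3_2 lc_a_rc_0_1 lc_a_rc_4_2 lc_a_rc_4_2 lc_a_rc_1_2 lc_a_rc_21_0 lc_a_rc_0_1 lc_a_rc_3_2 lc_a_rc_5_2 lc_a_rc_1_2 lc_a_rc_2_0 lc_a_rc_2_0 lc_a_rc_5_2 lc_a_rc_2_2 lc_a_rc_1_4 lc_a_rc_3_2 lc_a_rc_4_2 lc_a_rc_3_2 lc_a_rc_2_2 lc_a_rc_3_2 lc_a_rc_4_2 lc_a_rc_2_0 lc_a_rc_3_2 lc_a_rc_3_2 lc_a_rc_3_2 lc_a_rc_2_2 lc_a_rc_5_2 lc_a_rc_2_2 lc_a_rc_0_1 lc_a_rc_3_2 lc_a_rc_4_2 lc_a_rc_2_2 lc_a_rc_4_2 lc_a_rc_21_0 lc_a_rc_0_1 lc_a_rc_3_2) (@D3.rec (fun _ => (Cert rels S Gen.a)) lc_a_rc_21_0 lc_a_rc_4_2 lc_a_rc_21_0 lc_a_rc_2_2 lc_a_rc_4_2 lc_a_rc_2_2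 lc_a_rc_4_2 lc_a_rc_2_2 lc_a_rc_3_2 lc_a_rc_0_1 lc_a_rc_1_2 lc_a_rc_2_2 lc_a_rc_4_2 lc_a_rc_5_0 lc_a_rc_3_2 lc_a_Cert_tree lc_a_rc_3_2 lc_a_rc_3_2 lc_a_rc_4_2 lc_a_rc_4_2 lc_a_rc_3_2 lc_a_rc_4_2 lc_a_rc_21_0 lc_a_rc_4_2 lc_a_rc_5_0 lc_a_rc_4_2 lc_a_rc_3_2 lc_a_rc_5_2 lc_a_rc_2_2 lc_a_rc_5_2 lc_a_rc_21_0 lc_a_rc_2_0 lc_a_rc_3_2 lc_a_rc_2_2 lc_a_rc_5_0 lc_a_rc_3_0 lc_a_Cert_tree lc_a_rc_3_2 lc_a_rc_4_2 lc_a_rc_3_2 lc_a_rc_21_0 lc_a_rc_4_2 lc_a_rc_0_1 lc_a_rc_4_2 lc_a_rc_3_2 lc_a_rc_5_2 lc_a_rc_4_2 lc_a_rc_4_2 lc_a_rc_1_2 lc_a_rc_3_2 lc_a_rc_4_2 lc_a_rc_5_0 lc_a_rc_1_4 lc_a_rc_4_2 lc_a_rc_3_0 lc_a_rc_3_2 lc_a_rc_0_1 lc_a_rc_0_1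 lc_a_rc_21_0 lc_a_rc_3_2 lc_a_rc_3_2 lc_a_Cert_tree) (@D3.rec (fun _ => (Cert rels S Gen.a)) lc_a_rc_4_2 lc_a_Cert_tree lc_a_rc_4_2 lc_a_rc_4_2 lc_a_rc_4_2 lc_a_rc_2_2 lc_a_rc_21_0 lc_a_rc_3_2 lc_a_rc_4_2 lc_a_rc_2_2 lc_a_rc_4_2 lc_a_rc_3_2 lc_a_rc_0_1 lc_a_rc_3_2 lc_a_rc_5_2 lc_a_rc_21_0 lc_a_rc_3_2 lc_a_rc_5_2 lc_a_rc_0_1 lc_a_rc_3_2 lc_a_rc_2_2 lc_a_rc_21_0 lc_a_rc_3_2 lc_a_rc_4_2 lc_a_rc_21_0 lc_a_rc_21_0 lc_a_rc_0_1 lc_a_rc_0_1 lc_a_rc_2_2 lc_a_rc_3_2 lc_a_rc_5_0 lc_a_rc_3_2 lc_a_rc_21_0 lc_a_rc_3_2 lc_a_rc_0_1 lc_a_rc_3_2 lc_a_rc_4_2 lc_a_rc_5_2 lc_a_rc_3_2 lc_a_rc_4_2 lc_a_rc_3_2 lc_a_rc_4_2 lc_a_rc_21_0 lc_a_rc_0_1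 lc_a_rc_3_2 lc_a_rc_4_2 lc_a_rc_2_2 lc_a_rc_4_2 lc_a_rc_21_0 lc_a_rc_5_0 lc_a_rc_4_2 lc_a_Cert_tree lc_a_rc_2_2 lc_a_rc_3_2 lc_a_rc_3_0 lc_a_rc_3_0 lc_a_rc_22_0 lc_a_rc_3_2 lc_a_rc_4_2 lc_a_rc_2_2 lc_a_rc_4_2 lc_a_rc_3_2) (@D3.rec (fun _ => (Cert rels S Gen.a)) lc_a_rc_4_2 lc_a_rc_2_2 lc_a_rc_3_2 lc_a_rc_5_2 lc_a_rc_4_2 lc_a_rc_22_0 lc_a_rc_4_2 lc_a_rc_3_2 lc_a_rc_4_2 lc_a_rc_3_2 lc_a_rc_2_2 lc_a_rc_4_2 lc_a_rc_3_2 lc_a_rc_4_2 lc_a_rc_5_2 lc_a_rc_3_2 lc_a_rc_1_2 lc_a_rc_4_0 lc_a_rc_21_0 lc_a_rc_21_0 lc_a_rc_21_0 lc_a_rc_0_1 lc_a_rc_3_2 lc_a_rc_3_2 lc_a_rc_21_0 lc_a_rc_2_2 lc_a_rc_3_2 lc_a_rc_3_2 lc_a_rc_5_0 lc_a_rc_21_0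 lc_a_rc_0_1 lc_a_rc_21_0 lc_a_rc_5_2 lc_a_rc_4_2 lc_a_rc_1_4 lc_a_rc_3_2 lc_a_rc_5_2 lc_a_rc_2_2 lc_a_rc_21_0 lc_a_rc_3_2 lc_a_rc_5_2 lc_a_rc_4_2 lc_a_rc_21_0 lc_a_rc_3_2 lc_a_rc_4_2 lc_a_rc_3_2 lc_a_rc_4_2 lc_a_rc_3_2 lc_a_rc_3_2 lc_a_rc_2_2 lc_a_rc_4_0 lc_a_rc_5_0 lc_a_rc_4_2 lc_a_rc_1_4 lc_a_rc_3_2 lc_a_rc_3_0 lc_a_rc_0_1 lc_a_rc_2_2 lc_a_rc_5_2 lc_a_rc_4_2 lc_a_rc_1_4 lc_a_rc_4_2) (@D3.rec (fun _ => (Cert rels S Gen.a)) lc_a_Cert_tree lc_a_rc_22_0 lc_a_rc_3_2 lc_a_rc_3_0 lc_a_rc_4_2 lc_a_rc_4_2 lc_a_rc_1_2 lc_a_rc_1_4 lc_a_rc_3_2 lc_a_rc_2_2 lc_a_rc_2_2 lc_a_rc_3_2 lc_a_rc_5_2 lc_a_rc_3_2 lc_a_rc_2_2 lc_a_rc_5_2 lc_a_rc_0_1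 lc_a_rc_0_1 lc_a_rc_3_2 lc_a_rc_4_2 lc_a_rc_3_0 lc_a_rc_2_2 lc_a_rc_3_2 lc_a_rc_0_1 lc_a_rc_0_1 lc_a_rc_4_0 lc_a_rc_5_2 lc_a_rc_2_2 lc_a_Cert_tree lc_a_rc_22_0 lc_a_rc_4_2 lc_a_rc_21_0 lc_a_rc_2_2 lc_a_rc_3_2 lc_a_rc_2_2 lc_a_rc_1_4 lc_a_rc_3_2 lc_a_rc_2_2 lc_a_rc_1_2 lc_a_rc_1_2 lc_a_rc_4_2 lc_a_rc_4_2 lc_a_rc_2_2 lc_a_rc_0_1 lc_a_rc_0_1 lc_a_rc_2_0 lc_a_rc_4_2 lc_a_rc_2_2 lc_a_rc_4_2 lc_a_rc_0_1 lc_a_rc_21_0 lc_a_rc_4_2 lc_a_rc_2_0 lc_a_rc_4_2 lc_a_rc_4_2 lc_a_rc_2_0 lc_a_rc_5_2 lc_a_rc_4_2 lc_a_rc_5_2 lc_a_rc_2_2 lc_a_rc_3_2 lc_a_rc_4_2) (@D3.rec (fun _ => (Cert rels S Gen.a)) lc_a_rc_21_0 lc_a_rc_4_2 lc_a_rc_21_0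 lc_a_rc_0_1 lc_a_rc_2_2 lc_a_rc_2_2 lc_a_rc_0_1 lc_a_rc_3_2 lc_a_rc_4_2 lc_a_rc_5_0 lc_a_rc_4_2 lc_a_rc_3_2 lc_a_rc_5_0 lc_a_rc_2_2 lc_a_rc_4_2 lc_a_rc_21_0 lc_a_rc_4_2 lc_a_rc_3_2 lc_a_rc_5_2 lc_a_rc_3_2 lc_a_rc_2_2 lc_a_rc_3_2 lc_a_rc_5_0 lc_a_rc_4_2 lc_a_rc_2_2 lc_a_rc_5_0 lc_a_rc_5_0 lc_a_rc_4_2 lc_a_rc_21_0 lc_a_rc_0_1 lc_a_rc_3_2 lc_a_rc_5_2 lc_a_rc_2_2 lc_a_rc_5_0 lc_a_rc_2_2 lc_a_rc_3_2 lc_a_rc_4_2 lc_a_rc_21_0 lc_a_rc_3_2 lc_a_rc_5_0 lc_a_rc_3_2 lc_a_rc_2_2 lc_a_rc_4_2 lc_a_rc_5_0 lc_a_rc_4_2 lc_a_rc_3_2 lc_a_rc_1_4 lc_a_rc_4_2 lc_a_rc_21_0 lc_a_rc_3_2 lc_a_rc_3_2 lc_a_rc_5_2 lc_a_rc_3_0 lc_a_rc_0_1 lc_a_rc_2_2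 lc_a_rc_4_2 lc_a_rc_0_1 lc_a_rc_4_2 lc_a_rc_3_2 lc_a_rc_3_2 lc_a_rc_4_2 lc_a_rc_5_2) (@D3.rec (fun _ => (Cert rels S Gen.a)) lc_a_rc_0_1 lc_a_rc_4_2 lc_a_rc_21_0 lc_a_rc_5_2 lc_a_rc_1_4 lc_a_rc_4_2 lc_a_rc_4_2 lc_a_rc_1_0 lc_a_rc_0_1 lc_a_rc_3_2 lc_a_rc_21_0 lc_a_rc_4_2 lc_a_rc_4_2 lc_a_rc_2_0 lc_a_rc_21_0 lc_a_rc_4_2 lc_a_rc_5_2 lc_a_rc_3_2 lc_a_rc_21_0 lc_a_rc_0_1 lc_a_rc_2_2 lc_a_rc_4_2 lc_a_rc_3_2 lc_a_rc_4_2 lc_a_rc_2_2 lc_a_rc_4_2 lc_a_rc_5_0 lc_a_rc_3_0 lc_a_rc_4_2 lc_a_rc_5_2 lc_a_rc_3_0 lc_a_rc_4_2 lc_a_rc_0_1 lc_a_rc_2_2 lc_a_Cert_tree lc_a_rc_3_2 lc_a_rc_5_2 lc_a_rc_3_2 lc_a_rc_0_1 lc_a_rc_2_2 lc_a_rc_4_2 lc_a_Cert_tree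 lc_a_rc_3_0 lc_a_rc_2_2 lc_a_rc_5_0 lc_a_rc_0_1 lc_a_rc_3_2 lc_a_rc_2_2 lc_a_rc_4_2 lc_a_rc_3_2 lc_a_rc_5_0 lc_a_rc_5_0 lc_a_rc_5_0 lc_a_rc_0_1 lc_a_rc_5_0 lc_a_rc_5_2 lc_a_Cert_tree lc_a_rc_2_2 lc_a_rc_3_2 lc_a_rc_5_0 lc_a_Cert_tree lc_a_rc_4_2) (@D3.rec (fun _ => (Cert rels S Gen.a)) lc_a_rc_2_0 lc_a_rc_3_2 lc_a_rc_3_2 lc_a_rc_5_2 lc_a_rc_3_2 lc_a_rc_0_1 lc_a_rc_2_2 lc_a_rc_21_0 lc_a_rc_1_4 lc_a_Cert_tree lc_a_rc_0_1 lc_a_rc_0_1 lc_a_rc_3_2 lc_a_rc_4_2 lc_a_rc_4_2 lc_a_rc_3_2 lc_a_rc_21_0 lc_a_rc_22_0 lc_a_rc_1_4 lc_a_rc_0_1 lc_a_rc_4_2 lc_a_rc_2_2 lc_a_Cert_tree lc_a_rc_3_2 lc_a_rc_0_1 lc_a_rc_3_0 lc_a_rc_1_4 lc_a_rc_4_2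 lc_a_Cert_tree lc_a_Cert_tree lc_a_rc_4_2 lc_a_rc_3_0 lc_a_rc_4_2 lc_a_rc_4_2 lc_a_rc_5_2 lc_a_rc_2_2 lc_a_rc_3_0 lc_a_rc_0_1 lc_a_rc_3_2 lc_a_rc_0_1 lc_a_rc_3_2 lc_a_rc_4_2 lc_a_Cert_tree lc_a_rc_0_1 lc_a_rc_3_2 lc_a_rc_3_2 lc_a_rc_3_0 lc_a_rc_2_2 lc_a_rc_3_2 lc_a_Cert_tree lc_a_rc_0_1 lc_a_rc_3_2 lc_a_rc_4_2 lc_a_rc_2_2 lc_a_rc_4_2 lc_a_rc_3_2 lc_a_Cert_tree lc_a_rc_2_0 lc_a_rc_0_1 lc_a_rc_21_0 lc_a_rc_4_2 lc_a_rc_4_2) (@D3.rec (fun _ => (Cert rels S Gen.a)) lc_a_rc_4_2 lc_a_rc_1_2 lc_a_rc_0_1 lc_a_rc_3_2 lc_a_rc_4_2 lc_a_rc_0_1 lc_a_Cert_tree lc_a_rc_4_2 lc_a_Cert_tree lc_a_rc_0_1 lc_a_rc_3_2 lc_a_rc_4_2 lc_a_rc_5_2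 lc_a_rc_3_2 lc_a_rc_3_2 lc_a_Cert_tree lc_a_rc_21_0 lc_a_rc_3_2 lc_a_rc_4_2 lc_a_Cert_tree lc_a_rc_3_0 lc_a_rc_3_2 lc_a_rc_3_2 lc_a_Cert_tree lc_a_rc_22_0 lc_a_rc_3_2 lc_a_rc_4_2 lc_a_rc_2_2 lc_a_rc_0_1 lc_a_rc_3_2 lc_a_rc_3_2 lc_a_rc_21_0 lc_a_rc_2_2 lc_a_rc_4_2 lc_a_rc_2_2 lc_a_rc_4_2 lc_a_rc_22_0 lc_a_rc_0_1 lc_a_rc_4_2 lc_a_rc_21_0 lc_a_rc_3_2 lc_a_rc_1_4 lc_a_rc_2_2 lc_a_rc_4_2 lc_a_rc_5_0 lc_a_rc_21_0 lc_a_rc_1_2 lc_a_rc_1_4 lc_a_rc_0_1 lc_a_rc_3_2 lc_a_rc_3_2 lc_a_rc_4_2 lc_a_rc_3_2 lc_a_rc_4_2 lc_a_rc_2_2 lc_a_rc_4_2 lc_a_Cert_tree lc_a_rc_2_2 lc_a_rc_3_2 lc_a_Cert_tree lc_a_rc_2_2 lc_a_rc_4_2) (@D3.rec (fun _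 => (Cert rels S Gen.a)) lc_a_rc_2_2 lc_a_rc_21_0 lc_a_Cert_tree lc_a_rc_3_2 lc_a_rc_4_2 lc_a_rc_0_1 lc_a_rc_3_0 lc_a_rc_22_0 lc_a_Cert_tree lc_a_rc_21_0 lc_a_Cert_tree lc_a_rc_0_1 lc_a_Cert_tree lc_a_rc_0_1 lc_a_rc_4_2 lc_a_Cert_tree lc_a_rc_3_2 lc_a_rc_5_2 lc_a_rc_0_1 lc_a_rc_0_1 lc_a_rc_3_2 lc_a_rc_3_0 lc_a_rc_4_2 lc_a_rc_0_1 lc_a_rc_3_2 lc_a_rc_1_4 lc_a_rc_2_2 lc_a_rc_4_2 lc_a_rc_1_4 lc_a_rc_2_2 lc_a_rc_3_2 lc_a_rc_0_1 lc_a_rc_3_2 lc_a_rc_2_2 lc_a_rc_4_2 lc_a_rc_2_2 lc_a_rc_4_2 lc_a_Cert_tree lc_a_rc_5_0 lc_a_rc_4_2 lc_a_Cert_tree lc_a_rc_2_2 lc_a_rc_3_2 lc_a_rc_2_2 lc_a_rc_21_0 lc_a_Cert_tree lc_a_rc_3_2 lc_a_rc_3_0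 lc_a_rc_5_0 lc_a_rc_3_2 lc_a_rc_4_2 lc_a_rc_5_2 lc_a_Cert_tree lc_a_Cert_tree lc_a_rc_2_2 lc_a_rc_5_0 lc_a_Cert_tree lc_a_rc_21_0 lc_a_Cert_tree lc_a_Cert_tree lc_a_rc_0_1 lc_a_rc_4_2) (@D3.rec (fun _ => (Cert rels S Gen.a)) lc_a_rc_3_0 lc_a_rc_21_0 lc_a_rc_5_0 lc_a_Cert_tree lc_a_rc_0_1 lc_a_rc_3_2 lc_a_rc_4_2 lc_a_rc_21_0 lc_a_rc_3_0 lc_a_rc_3_2 lc_a_rc_4_2 lc_a_rc_2_0 lc_a_rc_0_1 lc_a_rc_3_2 lc_a_rc_4_2 lc_a_rc_0_1 lc_a_rc_2_2 lc_a_rc_0_1 lc_a_rc_3_2 lc_a_rc_4_2 lc_a_rc_4_2 lc_a_rc_0_1 lc_a_rc_0_1 lc_a_Cert_tree lc_a_rc_3_0 lc_a_rc_3_2 lc_a_rc_3_0 lc_a_rc_4_0 lc_a_rc_4_2 lc_a_rc_2_2 lc_a_rc_2_2 lc_a_rc_5_2 lc_a_rc_0_1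 lc_a_rc_21_0 lc_a_rc_0_1 lc_a_rc_4_2 lc_a_rc_3_2 lc_a_rc_3_2 lc_a_rc_3_2 lc_a_rc_4_2 lc_a_rc_3_2 lc_a_rc_4_2 lc_a_rc_0_1 lc_a_rc_4_2 lc_a_rc_4_2 lc_a_rc_4_0 lc_a_rc_5_2 lc_a_rc_5_0 lc_a_rc_0_1 lc_a_rc_3_2 lc_a_rc_2_2 lc_a_rc_3_2 lc_a_rc_2_0 lc_a_rc_0_1 lc_a_rc_3_2 lc_a_rc_5_0 lc_a_rc_2_2 lc_a_rc_0_1 lc_a_rc_3_2 lc_a_rc_1_4 lc_a_rc_5_0 lc_a_rc_4_2) (@D3.rec (fun _ => (Cert rels S Gen.a)) lc_a_rc_3_2 lc_a_rc_2_2 lc_a_rc_3_2 lc_a_rc_21_0 lc_a_rc_3_0 lc_a_rc_2_0 lc_a_rc_5_2 lc_a_rc_5_0 lc_a_rc_3_2 lc_a_rc_1_4 lc_a_rc_2_2 lc_a_rc_4_2 lc_a_rc_1_4 lc_a_rc_2_2 lc_a_rc_0_1 lc_a_rc_3_2 lc_a_rc_4_2 lc_a_rc_4_2 lc_a_rc_21_0 lc_a_rc_4_2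 lc_a_rc_4_2 lc_a_rc_0_1 lc_a_Cert_tree lc_a_rc_0_1 lc_a_rc_0_1 lc_a_rc_4_0 lc_a_Cert_tree lc_a_rc_3_2 lc_a_rc_0_1 lc_a_rc_3_0 lc_a_rc_4_2 lc_a_rc_4_2 lc_a_rc_21_0 lc_a_rc_5_2 lc_a_rc_3_2 lc_a_rc_3_2 lc_a_rc_4_2 lc_a_rc_2_0 lc_a_rc_2_2 lc_a_rc_3_2 lc_a_rc_4_2 lc_a_rc_3_2 lc_a_rc_2_0 lc_a_rc_4_2 lc_a_rc_2_0 lc_a_rc_5_2 lc_a_rc_4_2 lc_a_rc_3_2 lc_a_rc_4_2 lc_a_rc_2_2 lc_a_rc_0_1 lc_a_rc_3_2 lc_a_rc_4_2 lc_a_rc_4_2 lc_a_rc_2_2 lc_a_rc_4_2 lc_a_rc_3_2 lc_a_rc_2_0 lc_a_rc_4_2 lc_a_rc_4_2 lc_a_rc_1_2 lc_a_rc_21_0) (@D3.rec (fun _ => (Cert rels S Gen.a)) lc_a_rc_5_0 lc_a_rc_3_2 lc_a_rc_21_0 lc_a_rc_3_2 lc_a_rc_3_2 lc_a_rc_4_2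 lc_a_rc_21_0 lc_a_rc_1_4 lc_a_rc_2_2 lc_a_rc_5_2 lc_a_rc_1_2 lc_a_rc_3_2 lc_a_rc_5_0 lc_a_rc_2_2 lc_a_rc_5_2 lc_a_rc_3_2 lc_a_rc_2_2 lc_a_rc_3_2 lc_a_rc_2_2 lc_a_rc_0_1 lc_a_rc_3_2 lc_a_rc_0_1 lc_a_rc_2_2 lc_a_rc_4_2 lc_a_rc_1_2 lc_a_rc_5_0 lc_a_rc_4_2 lc_a_Cert_tree lc_a_rc_2_2 lc_a_rc_4_2 lc_a_rc_0_1 lc_a_rc_21_0 lc_a_rc_2_2 lc_a_rc_5_2 lc_a_rc_4_2 lc_a_rc_3_2 lc_a_rc_5_0 lc_a_rc_0_1 lc_a_rc_3_2 lc_a_rc_2_2 lc_a_rc_4_2 lc_a_rc_3_2 lc_a_rc_2_2 lc_a_rc_4_2 lc_a_rc_2_0 lc_a_rc_3_2 lc_a_rc_22_0 lc_a_rc_4_2 lc_a_rc_21_0 lc_a_rc_4_0 lc_a_rc_0_1 lc_a_rc_3_2 lc_a_rc_4_2 lc_a_rc_4_0 lc_a_rc_4_2 lc_a_rc_0_1 lc_a_rc_3_2 lc_a_rc_4_2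 lc_a_rc_4_2 lc_a_rc_2_2 lc_a_rc_1_4 lc_a_rc_3_2) (@D3.rec (fun _ => (Cert rels S Gen.a)) lc_a_Cert_tree lc_a_rc_21_0 lc_a_rc_3_2 lc_a_rc_0_1 lc_a_rc_3_2 lc_a_rc_21_0 lc_a_rc_2_2 lc_a_rc_4_2 lc_a_rc_4_2 lc_a_rc_2_2 lc_a_rc_5_2 lc_a_rc_22_0 lc_a_rc_5_2 lc_a_rc_4_2 lc_a_rc_5_2 lc_a_rc_3_2 lc_a_rc_21_0 lc_a_rc_21_0 lc_a_rc_21_0 lc_a_rc_3_2 lc_a_rc_2_2 lc_a_rc_1_4 lc_a_rc_3_2 lc_a_rc_0_1 lc_a_rc_2_0 lc_a_rc_2_0 lc_a_rc_21_0 lc_a_rc_0_1 lc_a_rc_3_2 lc_a_rc_4_2 lc_a_rc_2_2 lc_a_rc_4_2 lc_a_rc_3_2 lc_a_rc_21_0 lc_a_rc_4_2 lc_a_Cert_tree lc_a_rc_5_0 lc_a_rc_4_2 lc_a_rc_0_1 lc_a_rc_2_2 lc_a_rc_4_2 lc_a_rc_2_2 lc_a_rc_21_0 lc_a_Cert_tree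 lc_a_rc_5_2 lc_a_rc_2_2 lc_a_rc_3_2 lc_a_rc_4_2 lc_a_rc_4_2 lc_a_rc_21_0 lc_a_rc_3_2 lc_a_Cert_tree lc_a_rc_3_2 lc_a_rc_0_1 lc_a_rc_0_1 lc_a_rc_5_0 lc_a_rc_3_2 lc_a_rc_4_2 lc_a_rc_4_2 lc_a_rc_4_2 lc_a_rc_0_1 lc_a_rc_21_0) (@D3.rec (fun _ => (Cert rels S Gen.a)) lc_a_rc_3_2 lc_a_rc_3_2 lc_a_rc_3_2 lc_a_rc_4_2 lc_a_rc_5_0 lc_a_rc_2_2 lc_a_rc_3_2 lc_a_rc_3_2 lc_a_rc_3_0 lc_a_rc_5_2 lc_a_rc_21_0 lc_a_rc_3_2 lc_a_rc_4_2 lc_a_Cert_tree lc_a_rc_2_2 lc_a_rc_4_2 lc_a_rc_21_0 lc_a_rc_2_2 lc_a_rc_5_0 lc_a_rc_4_2 lc_a_rc_3_2 lc_a_rc_4_2 lc_a_rc_3_2 lc_a_rc_1_4 lc_a_rc_21_0 lc_a_rc_5_2 lc_a_rc_3_2 lc_a_rc_21_0 lc_a_rc_21_0 lc_a_rc_1_2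 lc_a_rc_0_1 lc_a_rc_3_2 lc_a_rc_3_2 lc_a_rc_4_2 lc_a_rc_21_0 lc_a_rc_5_2 lc_a_rc_0_1 lc_a_rc_3_2 lc_a_rc_0_1 lc_a_rc_2_2 lc_a_rc_3_0 lc_a_rc_1_2 lc_a_rc_4_2 lc_a_rc_4_2 lc_a_rc_5_0 lc_a_rc_2_2 lc_a_Cert_tree lc_a_rc_5_2 lc_a_rc_4_2 lc_a_rc_4_0 lc_a_rc_21_0 lc_a_rc_3_2 lc_a_rc_5_0 lc_a_rc_4_2 lc_a_rc_3_2 lc_a_rc_3_2 lc_a_rc_2_2 lc_a_rc_2_2 lc_a_rc_1_4 lc_a_rc_2_0 lc_a_rc_5_0 lc_a_rc_3_0) (@D3.rec (fun _ => (Cert rels S Gen.a)) lc_a_rc_4_2 lc_a_rc_3_2 lc_a_rc_4_2 lc_a_rc_2_2 lc_a_rc_2_2 lc_a_Cert_tree lc_a_rc_0_1 lc_a_rc_2_2 lc_a_rc_5_0 lc_a_rc_4_2 lc_a_rc_4_0 lc_a_rc_5_2 lc_a_rc_3_2 lc_a_rc_5_0 lc_a_rc_2_2 lc_a_rc_5_2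 lc_a_rc_3_2 lc_a_rc_0_1 lc_a_rc_3_2 lc_a_rc_2_2 lc_a_rc_4_2 lc_a_rc_3_2 lc_a_rc_3_2 lc_a_rc_2_2 lc_a_rc_4_2 lc_a_rc_2_2 lc_a_rc_4_2 lc_a_rc_5_2 lc_a_rc_4_2 lc_a_rc_2_0 lc_a_rc_2_0 lc_a_rc_5_2 lc_a_rc_4_2 lc_a_rc_5_0 lc_a_rc_3_2 lc_a_rc_3_2 lc_a_rc_4_2 lc_a_rc_3_2 lc_a_rc_0_1 lc_a_rc_21_0 lc_a_rc_2_2 lc_a_rc_4_2 lc_a_rc_4_2 lc_a_rc_5_0 lc_a_rc_0_1 lc_a_rc_0_1 lc_a_rc_0_1 lc_a_rc_3_2 lc_a_rc_3_0 lc_a_rc_3_2 lc_a_rc_0_1 lc_a_rc_5_0 lc_a_Cert_tree lc_a_rc_2_2 lc_a_rc_2_2 lc_a_rc_5_0 lc_a_rc_4_2 lc_a_rc_4_2 lc_a_rc_5_2 lc_a_rc_21_0 lc_a_rc_3_2 lc_a_rc_2_2) (@D3.rec (fun _ => (Cert rels S Gen.a)) lc_a_rc_3_2 lc_a_rc_4_2 lc_a_rc_5_2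 lc_a_rc_4_2 lc_a_rc_5_0 lc_a_rc_3_2 lc_a_rc_0_1 lc_a_rc_3_2 lc_a_rc_4_2 lc_a_rc_3_2 lc_a_rc_5_2 lc_a_rc_5_0 lc_a_rc_2_2 lc_a_rc_4_2 lc_a_rc_5_0 lc_a_rc_4_2 lc_a_rc_5_2 lc_a_rc_0_1 lc_a_rc_2_2 lc_a_rc_3_2 lc_a_rc_4_2 lc_a_rc_2_2 lc_a_rc_0_1 lc_a_rc_1_4 lc_a_rc_2_2 lc_a_rc_2_2 lc_a_rc_21_0 lc_a_rc_4_2 lc_a_rc_0_1 lc_a_rc_2_2 lc_a_rc_3_2 lc_a_rc_4_2 lc_a_rc_5_0 lc_a_rc_2_2 lc_a_rc_4_2 lc_a_rc_4_2 lc_a_rc_5_0 lc_a_rc_5_2 lc_a_Cert_tree lc_a_rc_4_2 lc_a_Cert_tree lc_a_rc_3_2 lc_a_rc_4_2 lc_a_rc_21_0 lc_a_rc_0_1 lc_a_rc_3_2 lc_a_rc_5_2 lc_a_rc_21_0 lc_a_rc_3_2 lc_a_rc_4_2 lc_a_rc_4_2 lc_a_rc_5_0 lc_a_rc_0_1 lc_a_rc_0_1 lc_a_rc_0_1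 lc_a_rc_3_2 lc_a_rc_2_2 lc_a_rc_4_2 lc_a_rc_21_0 lc_a_rc_0_1 lc_a_rc_0_1 lc_a_rc_3_2) (@D3.rec (fun _ => (Cert rels S Gen.a)) lc_a_rc_2_2 lc_a_rc_4_2 lc_a_rc_5_0 lc_a_rc_3_2 lc_a_rc_3_2 lc_a_rc_4_2 lc_a_rc_3_2 lc_a_rc_5_0 lc_a_rc_2_2 lc_a_rc_4_2 lc_a_rc_4_2 lc_a_rc_3_2 lc_a_rc_2_0 lc_a_Cert_tree lc_a_rc_4_2 lc_a_rc_21_0 lc_a_rc_5_0 lc_a_rc_3_2 lc_a_Cert_tree lc_a_rc_4_2 lc_a_rc_4_2 lc_a_rc_4_2 lc_a_rc_3_2 lc_a_rc_5_2 lc_a_rc_2_2 lc_a_rc_1_4 lc_a_Cert_tree lc_a_rc_21_0 lc_a_rc_4_0 lc_a_rc_0_1 lc_a_rc_3_2 lc_a_rc_3_0 lc_a_rc_21_0 lc_a_rc_0_1 lc_a_rc_3_2 lc_a_rc_1_2 lc_a_rc_2_2 lc_a_rc_4_2 lc_a_Cert_tree lc_a_rc_2_0 lc_a_rc_5_2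 lc_a_rc_3_2 lc_a_rc_4_2 lc_a_rc_0_1 lc_a_rc_22_0 lc_a_rc_2_2 lc_a_rc_0_1 lc_a_rc_0_1 lc_a_rc_3_2 lc_a_rc_21_0 lc_a_rc_5_2 lc_a_rc_4_2 lc_a_rc_21_0 lc_a_rc_3_0 lc_a_rc_4_2 lc_a_rc_0_1 lc_a_rc_3_0 lc_a_rc_22_0 lc_a_rc_2_0 lc_a_rc_0_1 lc_a_rc_1_4 lc_a_rc_3_0) (@D3.rec (fun _ => (Cert rels S Gen.a)) lc_a_Cert_tree lc_a_rc_1_0 lc_a_rc_2_0 lc_a_rc_0_1 lc_a_rc_3_2 lc_a_rc_4_2 lc_a_Cert_tree lc_a_rc_4_2 lc_a_rc_22_0 lc_a_rc_4_2 lc_a_rc_3_2 lc_a_rc_4_2 lc_a_rc_4_2 lc_a_rc_5_0 lc_a_rc_5_2 lc_a_rc_2_2 lc_a_rc_21_0 lc_a_rc_0_1 lc_a_rc_0_1 lc_a_rc_4_2 lc_a_rc_21_0 lc_a_rc_3_2 lc_a_rc_0_1 lc_a_rc_0_1 lc_a_rc_1_0 lc_a_rc_3_2 lc_a_rc_3_2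 lc_a_rc_3_2 lc_a_rc_3_2 lc_a_rc_1_0 lc_a_rc_2_2 lc_a_rc_4_2 lc_a_rc_21_0 lc_a_rc_2_2 lc_a_rc_5_2 lc_a_rc_4_2 lc_a_rc_21_0 lc_a_rc_0_1 lc_a_rc_4_2 lc_a_rc_2_2 lc_a_rc_3_2 lc_a_rc_4_2 lc_a_rc_2_2 lc_a_rc_2_0 lc_a_rc_1_0 lc_a_rc_5_0 lc_a_rc_1_4 lc_a_rc_4_2 lc_a_rc_5_0 lc_a_rc_3_2 lc_a_rc_4_2 lc_a_rc_21_0 lc_a_rc_21_0 lc_a_rc_21_0 lc_a_rc_4_2 lc_a_rc_0_1 lc_a_rc_4_0 lc_a_rc_1_2 lc_a_rc_2_2 lc_a_rc_3_2 lc_a_rc_4_2 lc_a_rc_21_0) (@D3.rec (fun _ => (Cert rels S Gen.a)) lc_a_rc_3_2 lc_a_rc_21_0 lc_a_rc_3_2 lc_a_rc_2_2 lc_a_rc_4_2 lc_a_rc_1_4 lc_a_rc_3_2 lc_a_rc_2_0 lc_a_rc_0_1 lc_a_rc_4_2 lc_a_rc_5_2 lc_a_rc_2_2 lc_a_rc_4_0 lc_a_rc_0_1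 lc_a_rc_21_0 lc_a_Cert_tree lc_a_rc_2_2 lc_a_rc_3_2 lc_a_rc_4_2 lc_a_rc_3_2 lc_a_rc_4_2 lc_a_rc_21_0 lc_a_rc_2_2 lc_a_rc_2_2 lc_a_rc_4_2 lc_a_rc_2_2 lc_a_rc_2_0 lc_a_rc_3_2 lc_a_rc_5_2 lc_a_rc_3_2 lc_a_rc_3_2 lc_a_rc_4_2 lc_a_rc_5_2 lc_a_rc_3_2 lc_a_rc_4_0 lc_a_rc_0_1 lc_a_rc_3_2 lc_a_rc_5_2 lc_a_rc_2_2 lc_a_rc_3_0 lc_a_rc_4_0 lc_a_rc_0_1 lc_a_rc_3_2 lc_a_rc_2_2 lc_a_rc_3_0 lc_a_rc_2_2 lc_a_rc_4_2 lc_a_rc_5_2 lc_a_rc_2_2 lc_a_rc_4_2 lc_a_Cert_tree lc_a_rc_3_0 lc_a_rc_21_0 lc_a_rc_3_2 lc_a_rc_2_2 lc_a_rc_5_2 lc_a_rc_4_2 lc_a_rc_0_1 lc_a_rc_2_2 lc_a_rc_3_0 lc_a_rc_2_2 lc_a_rc_2_0) (@D3.rec (fun _ => (Cert rels S Gen.a))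 lc_a_rc_5_2 lc_a_rc_1_4 lc_a_rc_3_0 lc_a_rc_0_1 lc_a_rc_4_2 lc_a_rc_2_2 lc_a_rc_3_2 lc_a_rc_4_0 lc_a_rc_5_2 lc_a_Cert_tree lc_a_rc_3_2 lc_a_rc_4_2 lc_a_rc_3_2 lc_a_Cert_tree lc_a_rc_3_2 lc_a_rc_2_2 lc_a_rc_22_0 lc_a_rc_5_2 lc_a_rc_3_2 lc_a_rc_3_2 lc_a_rc_2_0 lc_a_rc_2_2 lc_a_rc_4_2 lc_a_Cert_tree lc_a_rc_5_0 lc_a_rc_4_2 lc_a_rc_5_0 lc_a_rc_0_1 lc_a_rc_2_0 lc_a_rc_2_0 lc_a_rc_2_0 lc_a_Cert_tree lc_a_rc_3_2 lc_a_rc_21_0 lc_a_rc_2_0 lc_a_rc_5_2 lc_a_rc_3_0 lc_a_rc_3_0 lc_a_rc_5_2 lc_a_rc_0_1 lc_a_rc_2_0 lc_a_rc_2_2 lc_a_rc_4_2 lc_a_rc_3_2 lc_a_rc_4_2 lc_a_rc_2_2 lc_a_rc_4_2 lc_a_rc_1_4 lc_a_rc_3_2 lc_a_rc_4_0 lc_a_rc_2_2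 lc_a_rc_4_2 lc_a_Cert_tree lc_a_rc_5_0 lc_a_rc_4_2 lc_a_Cert_tree lc_a_rc_2_2 lc_a_rc_4_2 lc_a_Cert_tree lc_a_rc_5_0 lc_a_Cert_tree lc_a_rc_3_2) (@D3.rec (fun _ => (Cert rels S Gen.a)) lc_a_rc_4_2 lc_a_rc_0_1 lc_a_rc_4_2 lc_a_rc_5_2 lc_a_Cert_tree lc_a_rc_21_0 lc_a_rc_2_2 lc_a_rc_21_0 lc_a_rc_3_0 lc_a_rc_2_2 lc_a_rc_4_2 lc_a_rc_1_4 lc_a_Cert_tree lc_a_rc_5_0 lc_a_rc_2_2 lc_a_rc_0_1 lc_a_rc_3_2 lc_a_rc_4_2 lc_a_rc_1_4 lc_a_rc_4_2 lc_a_rc_0_1 lc_a_rc_0_1 lc_a_rc_1_0 lc_a_rc_0_1 lc_a_Cert_tree lc_a_rc_4_2 lc_a_rc_5_0 lc_a_rc_3_2 lc_a_rc_5_2 lc_a_Cert_tree lc_a_rc_3_0 lc_a_rc_0_1 lc_a_rc_5_0 lc_a_rc_2_2 lc_a_rc_3_0 lc_a_rc_2_2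 lc_a_rc_3_2 lc_a_rc_3_2 lc_a_rc_2_2 lc_a_rc_2_0 lc_a_rc_2_2 lc_a_rc_2_2 lc_a_rc_0_1 lc_a_rc_3_2 lc_a_rc_4_2 lc_a_rc_4_2 lc_a_rc_3_2 lc_a_rc_5_0 lc_a_rc_21_0 lc_a_rc_4_2 lc_a_Cert_tree lc_a_rc_2_2 lc_a_rc_4_2 lc_a_rc_4_2 lc_a_rc_3_0 lc_a_rc_4_2 lc_a_rc_2_0 lc_a_rc_3_2 lc_a_rc_4_2 lc_a_rc_1_0 lc_a_rc_0_1 lc_a_rc_4_2) (@D3.rec (fun _ => (Cert rels S Gen.a)) lc_a_rc_4_0 lc_a_rc_0_1 lc_a_Cert_tree lc_a_rc_4_2 lc_a_rc_4_2 lc_a_rc_1_2 lc_a_rc_5_2 lc_a_rc_2_2 lc_a_rc_4_2 lc_a_rc_0_1 lc_a_rc_3_2 lc_a_rc_21_0 lc_a_rc_21_0 lc_a_rc_2_2 lc_a_rc_5_2 lc_a_rc_2_2 lc_a_rc_3_2 lc_a_rc_4_2 lc_a_Cert_tree lc_a_rc_21_0 lc_a_rc_21_0 lc_a_rc_4_2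 lc_a_rc_21_0 lc_a_rc_0_1 lc_a_rc_2_2 lc_a_rc_5_2 lc_a_rc_4_2 lc_a_rc_5_2 lc_a_rc_4_2 lc_a_rc_0_1 lc_a_rc_2_2 lc_a_rc_1_2 lc_a_rc_0_1 lc_a_rc_3_2 lc_a_rc_4_2 lc_a_rc_2_0 lc_a_rc_0_1 lc_a_rc_2_2 lc_a_rc_1_2 lc_a_rc_5_0 lc_a_rc_4_2 lc_a_rc_4_0 lc_a_rc_4_2 lc_a_rc_5_0 lc_a_rc_1_4 lc_a_rc_4_2 lc_a_rc_2_2 lc_a_rc_2_2 lc_a_rc_0_1 lc_a_rc_1_2 lc_a_rc_3_2 lc_a_rc_3_2 lc_a_rc_4_2 lc_a_rc_21_0 lc_a_rc_2_2 lc_a_rc_5_2 lc_a_rc_3_2 lc_a_rc_4_2 lc_a_rc_2_2 lc_a_rc_3_2 lc_a_rc_5_2 lc_a_rc_0_1) (@D3.rec (fun _ => (Cert rels S Gen.a)) lc_a_rc_3_2 lc_a_rc_2_2 lc_a_rc_2_2 lc_a_rc_5_0 lc_a_Cert_tree lc_a_rc_2_2 lc_a_rc_3_2 lc_a_Cert_tree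 lc_a_rc_5_2 lc_a_rc_4_2 lc_a_rc_1_2 lc_a_rc_2_2 lc_a_rc_4_2 lc_a_rc_4_0 lc_a_rc_2_2 lc_a_rc_0_1 lc_a_rc_0_1 lc_a_rc_2_2 lc_a_rc_4_2 lc_a_rc_3_2 lc_a_rc_2_2 lc_a_rc_4_2 lc_a_rc_4_2 lc_a_rc_5_0 lc_a_rc_5_2 lc_a_rc_4_2 lc_a_rc_3_2 lc_a_rc_21_0 lc_a_rc_5_0 lc_a_rc_3_2 lc_a_rc_3_2 lc_a_rc_3_2 lc_a_rc_4_2 lc_a_rc_1_4 lc_a_rc_1_2 lc_a_rc_2_2 lc_a_rc_5_2 lc_a_rc_3_2 lc_a_rc_4_2 lc_a_rc_2_2 lc_a_rc_4_2 lc_a_rc_21_0 lc_a_rc_0_1 lc_a_rc_1_2 lc_a_rc_2_2 lc_a_rc_4_2 lc_a_rc_21_0 lc_a_rc_5_0 lc_a_rc_4_2 lc_a_rc_2_0 lc_a_rc_2_2 lc_a_rc_3_2 lc_a_rc_5_0 lc_a_rc_2_2 lc_a_Cert_tree lc_a_rc_3_2 lc_a_rc_22_0 lc_a_rc_4_2 lc_a_rc_3_2 lc_a_rc_0_1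 lc_a_rc_0_1 lc_a_rc_2_0) (@D3.rec (fun _ => (Cert rels S Gen.a)) lc_a_rc_2_2 lc_a_rc_4_2 lc_a_rc_21_0 lc_a_rc_0_1 lc_a_rc_22_0 lc_a_rc_2_2 lc_a_rc_4_2 lc_a_rc_21_0 lc_a_Cert_tree lc_a_rc_2_2 lc_a_rc_4_0 lc_a_rc_5_0 lc_a_rc_1_4 lc_a_rc_22_0 lc_a_rc_4_2 lc_a_rc_2_2 lc_a_rc_1_0 lc_a_rc_2_0 lc_a_rc_4_0 lc_a_rc_2_2 lc_a_rc_4_2 lc_a_rc_4_2 lc_a_rc_3_2 lc_a_rc_5_2 lc_a_rc_4_2 lc_a_rc_4_2 lc_a_rc_4_2 lc_a_rc_21_0 lc_a_rc_1_4 lc_a_rc_4_2 lc_a_rc_3_2 lc_a_rc_5_0 lc_a_rc_3_2 lc_a_rc_2_2 lc_a_rc_4_0 lc_a_rc_4_2 lc_a_rc_4_2 lc_a_rc_3_2 lc_a_rc_21_0 lc_a_rc_0_1 lc_a_rc_5_0 lc_a_rc_5_0 lc_a_rc_21_0 lc_a_rc_21_0 lc_a_rc_0_1 lc_a_rc_1_4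 lc_a_rc_3_2 lc_a_rc_1_0 lc_a_rc_0_1 lc_a_rc_4_2 lc_a_rc_3_2 lc_a_Cert_tree lc_a_rc_4_2 lc_a_rc_0_1 lc_a_rc_4_2 lc_a_rc_3_2 lc_a_rc_3_0 lc_a_Cert_tree lc_a_rc_4_2 lc_a_rc_0_1 lc_a_rc_2_2 lc_a_rc_2_2) (@D3.rec (fun _ => (Cert rels S Gen.a)) lc_a_rc_3_0 lc_a_rc_3_2 lc_a_rc_4_2 lc_a_rc_3_2 lc_a_rc_21_0 lc_a_rc_21_0 lc_a_rc_4_2 lc_a_rc_1_4 lc_a_rc_0_1 lc_a_rc_3_2 lc_a_rc_0_1 lc_a_rc_4_2 lc_a_rc_4_2 lc_a_rc_1_2 lc_a_rc_4_2 lc_a_rc_21_0 lc_a_rc_2_2 lc_a_rc_1_2 lc_a_rc_2_0 lc_a_rc_5_2 lc_a_rc_3_2 lc_a_rc_2_2 lc_a_rc_4_2 lc_a_rc_21_0 lc_a_rc_4_2 lc_a_rc_3_2 lc_a_rc_1_4 lc_a_rc_3_2 lc_a_rc_4_2 lc_a_rc_3_2 lc_a_rc_3_2 lc_a_rc_2_2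 lc_a_rc_1_4 lc_a_rc_2_0 lc_a_rc_2_2 lc_a_rc_2_2 lc_a_rc_3_2 lc_a_rc_4_2 lc_a_rc_21_0 lc_a_rc_0_1 lc_a_rc_2_2 lc_a_rc_2_0 lc_a_rc_2_2 lc_a_rc_5_0 lc_a_rc_21_0 lc_a_rc_5_2 lc_a_rc_1_2 lc_a_rc_4_2 lc_a_rc_4_2 lc_a_Cert_tree lc_a_rc_5_2 lc_a_rc_21_0 lc_a_rc_5_2 lc_a_rc_21_0 lc_a_rc_21_0 lc_a_rc_4_2 lc_a_rc_3_2 lc_a_rc_4_2 lc_a_rc_3_2 lc_a_rc_4_2 lc_a_Cert_tree lc_a_rc_3_2) (@D3.rec (fun _ => (Cert rels S Gen.a)) lc_a_rc_5_2 lc_a_rc_4_2 lc_a_rc_3_2 lc_a_rc_3_2 lc_a_rc_3_2 lc_a_rc_0_1 lc_a_rc_2_2 lc_a_rc_4_2 lc_a_rc_5_0 lc_a_rc_2_2 lc_a_rc_4_2 lc_a_rc_2_2 lc_a_rc_4_2 lc_a_rc_5_2 lc_a_rc_4_2 lc_a_rc_2_0 lc_a_rc_21_0 lc_a_rc_3_2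 lc_a_rc_3_0 lc_a_rc_3_2 lc_a_rc_3_2 lc_a_rc_4_0 lc_a_rc_4_2 lc_a_Cert_tree lc_a_rc_2_2 lc_a_rc_4_2 lc_a_rc_3_0 lc_a_rc_0_1 lc_a_rc_2_0 lc_a_rc_0_1 lc_a_rc_2_2 lc_a_rc_4_2 lc_a_rc_21_0 lc_a_rc_4_2 lc_a_rc_4_2 lc_a_rc_5_2 lc_a_rc_2_2 lc_a_rc_3_2 lc_a_rc_3_2 lc_a_rc_21_0 lc_a_rc_1_4 lc_a_rc_2_2 lc_a_rc_4_2 lc_a_rc_1_4 lc_a_rc_4_2 lc_a_rc_21_0 lc_a_rc_3_0 lc_a_rc_1_2 lc_a_rc_5_2 lc_a_rc_2_2 lc_a_rc_0_1 lc_a_rc_4_2 lc_a_rc_4_2 lc_a_rc_0_1 lc_a_rc_2_2 lc_a_rc_4_2 lc_a_rc_2_0 lc_a_rc_21_0 lc_a_rc_4_2 lc_a_rc_4_2 lc_a_rc_0_1 lc_a_rc_5_2) (@D3.rec (fun _ => (Cert rels S Gen.a)) lc_a_rc_4_2 lc_a_rc_4_2 lc_a_rc_22_0 lc_a_rc_3_2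 lc_a_rc_2_2 lc_a_rc_4_2 lc_a_rc_0_1 lc_a_rc_4_2 lc_a_rc_5_2 lc_a_rc_2_0 lc_a_rc_3_2 lc_a_rc_4_2 lc_a_rc_3_0 lc_a_rc_3_2 lc_a_rc_2_2 lc_a_rc_4_0 lc_a_rc_0_1 lc_a_rc_0_1 lc_a_rc_3_2 lc_a_rc_21_0 lc_a_rc_2_2 lc_a_rc_4_2 lc_a_rc_4_2 lc_a_rc_5_0 lc_a_rc_4_2 lc_a_rc_0_1 lc_a_rc_2_2 lc_a_rc_21_0 lc_a_rc_0_1 lc_a_rc_0_1 lc_a_rc_3_2 lc_a_rc_2_2 lc_a_rc_4_2 lc_a_rc_3_2 lc_a_rc_3_2 lc_a_rc_3_2 lc_a_rc_5_0 lc_a_rc_2_2 lc_a_rc_4_2 lc_a_Cert_tree lc_a_rc_0_1 lc_a_rc_4_2 lc_a_rc_21_0 lc_a_rc_21_0 lc_a_rc_4_2 lc_a_rc_5_0 lc_a_rc_4_2 lc_a_rc_3_2 lc_a_rc_3_0 lc_a_rc_5_2 lc_a_rc_5_2 lc_a_rc_3_2 lc_a_rc_4_2 lc_a_rc_0_1 lc_a_rc_4_0 lc_a_rc_3_0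 lc_a_rc_4_2 lc_a_rc_2_2 lc_a_rc_5_2 lc_a_rc_3_2 lc_a_rc_4_2 lc_a_rc_5_0) (@D3.rec (fun _ => (Cert rels S Gen.a)) lc_a_rc_3_2 lc_a_rc_3_2 lc_a_rc_5_2 lc_a_rc_2_2 lc_a_rc_2_2 lc_a_rc_1_0 lc_a_rc_5_2 lc_a_Cert_tree lc_a_rc_22_0 lc_a_rc_0_1 lc_a_rc_4_2 lc_a_rc_3_0 lc_a_rc_5_2 lc_a_rc_21_0 lc_a_rc_1_4 lc_a_rc_0_1 lc_a_rc_1_4 lc_a_rc_3_0 lc_a_rc_4_2 lc_a_rc_5_0 lc_a_rc_0_1 lc_a_rc_2_2 lc_a_rc_3_2 lc_a_rc_4_2 lc_a_rc_3_0 lc_a_rc_5_0 lc_a_rc_2_2 lc_a_rc_3_0 lc_a_rc_4_2 lc_a_Cert_tree lc_a_rc_4_2 lc_a_Cert_tree lc_a_rc_4_2 lc_a_rc_3_2 lc_a_rc_4_2 lc_a_rc_5_2 lc_a_rc_4_2 lc_a_rc_4_2 lc_a_rc_0_1 lc_a_rc_3_2 lc_a_rc_3_2 lc_a_rc_3_2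 lc_a_rc_4_0 lc_a_rc_2_0 lc_a_rc_2_2 lc_a_rc_5_2 lc_a_rc_21_0 lc_a_rc_3_2 lc_a_rc_4_2 lc_a_rc_4_2 lc_a_rc_2_2 lc_a_rc_3_2 lc_a_rc_4_2 lc_a_rc_1_0 lc_a_rc_3_2 lc_a_rc_3_2 lc_a_rc_3_2 lc_a_rc_2_2 lc_a_rc_3_0 lc_a_rc_21_0 lc_a_rc_4_2 lc_a_rc_4_0) (@D3.rec (fun _ => (Cert rels S Gen.a)) lc_a_rc_2_2 lc_a_rc_0_1 lc_a_rc_3_2 lc_a_rc_5_2 lc_a_rc_21_0 lc_a_rc_3_2 lc_a_rc_3_2 lc_a_rc_3_2 lc_a_rc_3_2 lc_a_rc_2_2 lc_a_rc_1_4 lc_a_rc_5_2 lc_a_rc_2_2 lc_a_rc_4_2 lc_a_Cert_tree lc_a_rc_4_2 lc_a_rc_3_2 lc_a_rc_5_0 lc_a_rc_4_0 lc_a_rc_3_2 lc_a_rc_3_2 lc_a_rc_0_1 lc_a_rc_4_2 lc_a_rc_0_1 lc_a_rc_3_2 lc_a_rc_5_2 lc_a_Cert_tree lc_a_rc_2_2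 lc_a_rc_3_2 lc_a_rc_5_0 lc_a_Cert_tree lc_a_rc_3_2 lc_a_rc_4_2 lc_a_rc_2_2 lc_a_rc_5_2 lc_a_rc_21_0 lc_a_rc_3_2 lc_a_rc_3_2 lc_a_rc_3_0 lc_a_rc_0_1 lc_a_rc_5_2 lc_a_rc_2_2 lc_a_rc_4_2 lc_a_rc_0_1 lc_a_rc_3_2 lc_a_rc_2_2 lc_a_rc_4_2 lc_a_rc_2_2 lc_a_rc_21_0 lc_a_rc_0_1 lc_a_rc_1_4 lc_a_rc_3_2 lc_a_rc_4_2 lc_a_rc_1_4 lc_a_rc_4_2 lc_a_rc_2_0 lc_a_rc_4_2 lc_a_rc_0_1 lc_a_rc_5_0 lc_a_rc_2_0 lc_a_rc_4_2 lc_a_rc_5_0) (@D3.rec (fun _ => (Cert rels S Gen.a)) lc_a_rc_4_0 lc_a_rc_5_2 lc_a_Cert_tree lc_a_rc_3_2 lc_a_rc_22_0 lc_a_rc_5_0 lc_a_Cert_tree lc_a_rc_0_1 lc_a_rc_5_0 lc_a_rc_4_2 lc_a_rc_4_2 lc_a_rc_5_2 lc_a_rc_3_2 lc_a_Cert_tree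 lc_a_rc_2_2 lc_a_rc_4_2 lc_a_rc_2_2 lc_a_rc_1_2 lc_a_rc_4_0 lc_a_rc_3_2 lc_a_rc_2_2 lc_a_rc_4_2 lc_a_rc_5_0 lc_a_rc_4_2 lc_a_rc_4_2 lc_a_rc_4_2 lc_a_rc_4_0 lc_a_rc_2_0 lc_a_rc_4_2 lc_a_rc_1_2 lc_a_rc_2_2 lc_a_rc_1_2 lc_a_rc_3_2 lc_a_rc_4_2 lc_a_rc_2_2 lc_a_rc_1_4 lc_a_rc_3_2 lc_a_rc_4_2 lc_a_rc_0_1 lc_a_Cert_tree lc_a_rc_2_2 lc_a_rc_1_4 lc_a_rc_2_2 lc_a_rc_5_2 lc_a_rc_3_2 lc_a_rc_2_2 lc_a_rc_5_2 lc_a_rc_3_2 lc_a_rc_2_2 lc_a_rc_21_0 lc_a_rc_4_2 lc_a_rc_21_0 lc_a_rc_2_2 lc_a_rc_4_2 lc_a_rc_3_2 lc_a_Cert_tree lc_a_rc_4_2 lc_a_rc_3_2 lc_a_rc_5_0 lc_a_rc_3_0 lc_a_rc_4_2 lc_a_rc_3_2) (@D3.rec (fun _ => (Cert rels S Gen.a))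 lc_a_rc_4_2 lc_a_rc_2_2 lc_a_rc_4_2 lc_a_rc_21_0 lc_a_rc_4_2 lc_a_rc_4_2 lc_a_rc_21_0 lc_a_rc_21_0 lc_a_rc_3_2 lc_a_rc_4_2 lc_a_rc_2_2 lc_a_rc_3_2 lc_a_rc_21_0 lc_a_rc_0_1 lc_a_rc_4_2 lc_a_rc_1_4 lc_a_rc_4_2 lc_a_rc_5_0 lc_a_rc_5_0 lc_a_rc_4_2 lc_a_rc_2_2 lc_a_rc_4_2 lc_a_rc_5_0 lc_a_rc_5_2 lc_a_rc_0_1 lc_a_rc_4_2 lc_a_rc_2_2 lc_a_rc_5_2 lc_a_rc_4_2 lc_a_rc_3_2 lc_a_rc_3_2 lc_a_rc_22_0 lc_a_rc_3_2 lc_a_rc_3_0 lc_a_rc_5_0 lc_a_rc_2_2 lc_a_rc_4_2 lc_a_rc_2_2 lc_a_rc_3_2 lc_a_rc_2_2 lc_a_rc_4_2 lc_a_rc_5_0 lc_a_rc_4_2 lc_a_rc_5_0 lc_a_rc_2_0 lc_a_Cert_tree lc_a_rc_3_2 lc_a_rc_5_2 lc_a_rc_4_2 lc_a_rc_2_2 lc_a_rc_5_0 lc_a_rc_3_2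 lc_a_rc_4_2 lc_a_rc_3_2 lc_a_rc_3_0 lc_a_rc_2_2 lc_a_rc_4_2 lc_a_rc_1_0 lc_a_rc_0_1 lc_a_rc_3_2 lc_a_rc_2_2 lc_a_rc_4_2) (@D3.rec (fun _ => (Cert rels S Gen.a)) lc_a_rc_0_1 lc_a_rc_2_0 lc_a_Cert_tree lc_a_rc_4_2 lc_a_rc_3_2 lc_a_rc_3_2 lc_a_rc_5_2 lc_a_rc_0_1 lc_a_rc_2_2 lc_a_rc_3_2 lc_a_rc_4_2 lc_a_rc_21_0 lc_a_rc_3_2 lc_a_rc_22_0 lc_a_rc_3_2 lc_a_rc_22_0 lc_a_rc_0_1 lc_a_rc_0_1 lc_a_rc_0_1 lc_a_rc_5_2 lc_a_Cert_tree lc_a_rc_4_2 lc_a_rc_5_0 lc_a_rc_4_2 lc_a_rc_3_2 lc_a_rc_5_2 lc_a_rc_2_2 lc_a_rc_0_1 lc_a_rc_4_0 lc_a_rc_1_2 lc_a_rc_0_1 lc_a_rc_2_0 lc_a_rc_4_2 lc_a_rc_4_2 lc_a_rc_4_2 lc_a_rc_3_2 lc_a_rc_5_2 lc_a_rc_0_1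 lc_a_rc_3_2 lc_a_rc_4_2 lc_a_Cert_tree lc_a_rc_4_2 lc_a_rc_3_2 lc_a_rc_3_2 lc_a_rc_5_2 lc_a_Cert_tree lc_a_rc_4_2 lc_a_rc_4_0 lc_a_rc_2_2 lc_a_Cert_tree lc_a_rc_0_1 lc_a_rc_0_1 lc_a_rc_3_2 lc_a_rc_21_0 lc_a_rc_4_2 lc_a_rc_4_2 lc_a_rc_0_1 lc_a_rc_4_2 lc_a_rc_0_1 lc_a_rc_3_2 lc_a_rc_2_2 lc_a_rc_21_0) (@D3.rec (fun _ => (Cert rels S Gen.a)) lc_a_rc_3_2 lc_a_rc_21_0 lc_a_rc_3_0 lc_a_rc_3_2 lc_a_rc_3_2 lc_a_rc_4_2 lc_a_rc_0_1 lc_a_rc_2_2 lc_a_rc_4_2 lc_a_rc_4_2 lc_a_rc_3_2 lc_a_rc_21_0 lc_a_rc_1_2 lc_a_rc_21_0 lc_a_rc_3_2 lc_a_rc_2_2 lc_a_rc_3_0 lc_a_Cert_tree lc_a_rc_4_2 lc_a_rc_21_0 lc_a_rc_3_2 lc_a_rc_3_2 lc_a_rc_4_2 lc_a_rc_1_4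 lc_a_rc_4_2 lc_a_rc_0_1 lc_a_rc_21_0 lc_a_rc_3_2 lc_a_rc_3_2 lc_a_rc_4_2 lc_a_rc_0_1 lc_a_rc_2_2 lc_a_rc_4_2 lc_a_rc_0_1 lc_a_rc_3_0 lc_a_Cert_tree lc_a_rc_4_2 lc_a_rc_5_0 lc_a_rc_4_2 lc_a_rc_3_2 lc_a_rc_5_2 lc_a_rc_21_0 lc_a_rc_2_2 lc_a_rc_4_2 lc_a_rc_0_1 lc_a_rc_0_1 lc_a_rc_3_2 lc_a_rc_3_2 lc_a_rc_4_2 lc_a_rc_4_2 lc_a_rc_2_2 lc_a_rc_4_2 lc_a_rc_5_0 lc_a_rc_0_1 lc_a_Cert_tree lc_a_rc_2_2 lc_a_rc_3_2 lc_a_rc_2_2 lc_a_rc_4_2 lc_a_rc_4_2 lc_a_rc_4_2 lc_a_rc_4_2) (@D3.rec (fun _ => (Cert rels S Gen.a)) lc_a_rc_5_2 lc_a_Cert_tree lc_a_rc_2_2 lc_a_rc_2_2 lc_a_rc_21_0 lc_a_rc_0_1 lc_a_rc_3_2 lc_a_rc_4_2 lc_a_rc_2_2 lc_a_rc_1_4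 lc_a_rc_3_2 lc_a_rc_1_4 lc_a_rc_2_2 lc_a_rc_1_2 lc_a_rc_3_2 lc_a_rc_4_2 lc_a_rc_21_0 lc_a_rc_0_1 lc_a_rc_2_2 lc_a_rc_2_2 lc_a_rc_3_2 lc_a_rc_4_2 lc_a_rc_3_2 lc_a_rc_21_0 lc_a_rc_0_1 lc_a_rc_5_2 lc_a_rc_2_2 lc_a_rc_3_2 lc_a_Cert_tree lc_a_rc_5_0 lc_a_rc_2_2 lc_a_rc_21_0 lc_a_rc_5_0 lc_a_rc_4_2 lc_a_rc_4_2 lc_a_rc_4_2 lc_a_rc_0_1 lc_a_rc_5_2 lc_a_rc_4_2 lc_a_rc_4_2 lc_a_rc_5_0 lc_a_rc_2_0 lc_a_rc_4_2 lc_a_rc_4_2 lc_a_rc_3_2 lc_a_rc_3_2 lc_a_rc_5_2 lc_a_rc_2_2 lc_a_rc_4_2 lc_a_rc_2_2 lc_a_rc_3_2 lc_a_rc_2_2 lc_a_rc_4_2 lc_a_rc_2_2 lc_a_rc_4_2 lc_a_rc_2_2 lc_a_rc_2_0 lc_a_Cert_tree lc_a_rc_3_2 lc_a_rc_5_2 lc_a_rc_2_2 lc_a_rc_5_2)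 (@D3.rec (fun _ => (Cert rels S Gen.a)) lc_a_rc_3_2 lc_a_rc_4_2 lc_a_rc_3_2 lc_a_rc_3_2 lc_a_rc_2_2 lc_a_rc_4_2 lc_a_rc_3_2 lc_a_rc_21_0 lc_a_rc_2_2 lc_a_rc_2_2 lc_a_rc_5_2 lc_a_rc_21_0 lc_a_rc_3_2 lc_a_rc_4_2 lc_a_rc_0_1 lc_a_rc_4_2 lc_a_rc_2_2 lc_a_rc_3_2 lc_a_rc_4_2 lc_a_rc_4_2 lc_a_rc_5_2 lc_a_rc_21_0 lc_a_rc_0_1 lc_a_rc_5_2 lc_a_rc_0_1 lc_a_rc_2_2 lc_a_rc_3_2 lc_a_Cert_tree lc_a_rc_4_2 lc_a_rc_4_2 lc_a_rc_3_2 lc_a_rc_1_4 lc_a_rc_5_2 lc_a_rc_0_1 lc_a_rc_2_2 lc_a_rc_4_2 lc_a_Cert_tree lc_a_rc_4_2 lc_a_rc_1_2 lc_a_rc_3_2 lc_a_rc_3_2 lc_a_Cert_tree lc_a_rc_4_2 lc_a_Cert_tree lc_a_rc_4_2 lc_a_rc_4_2 lc_a_rc_5_0 lc_a_rc_0_1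 lc_a_rc_5_2 lc_a_rc_3_2 lc_a_rc_4_2 lc_a_rc_2_2 lc_a_rc_4_2 lc_a_rc_4_2 lc_a_rc_5_0 lc_a_rc_21_0 lc_a_rc_2_0 lc_a_rc_2_2 lc_a_rc_3_2 lc_a_rc_5_2 lc_a_rc_21_0 lc_a_rc_3_2) (@D3.rec (fun _ => (Cert rels S Gen.a)) lc_a_rc_3_2 lc_a_rc_4_2 lc_a_rc_0_1 lc_a_rc_21_0 lc_a_rc_2_2 lc_a_rc_4_2 lc_a_rc_0_1 lc_a_rc_21_0 lc_a_rc_5_0 lc_a_rc_0_1 lc_a_rc_4_2 lc_a_rc_5_2 lc_a_rc_21_0 lc_a_rc_3_2 lc_a_Cert_tree lc_a_rc_4_2 lc_a_rc_5_0 lc_a_rc_4_0 lc_a_rc_4_2 lc_a_rc_5_2 lc_a_rc_2_2 lc_a_rc_0_1 lc_a_rc_2_2 lc_a_rc_0_1 lc_a_rc_2_2 lc_a_Cert_tree lc_a_rc_3_2 lc_a_Cert_tree lc_a_rc_3_2 lc_a_Cert_tree lc_a_rc_5_0 lc_a_rc_3_0 lc_a_rc_4_2 lc_a_Cert_tree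 lc_a_Cert_tree lc_a_rc_2_2 lc_a_rc_0_1 lc_a_rc_0_1 lc_a_rc_3_2 lc_a_rc_4_2 lc_a_rc_2_2 lc_a_rc_3_2 lc_a_rc_5_2 lc_a_rc_3_2 lc_a_rc_4_2 lc_a_rc_4_2 lc_a_rc_4_2 lc_a_rc_3_2 lc_a_rc_5_2 lc_a_rc_2_2 lc_a_rc_2_0 lc_a_rc_2_0 lc_a_rc_5_2 lc_a_rc_21_0 lc_a_rc_2_2 lc_a_rc_0_1 lc_a_rc_3_2 lc_a_rc_21_0 lc_a_rc_3_2 lc_a_rc_3_2 lc_a_rc_1_4 lc_a_rc_2_2) (@D3.rec (fun _ => (Cert rels S Gen.a)) lc_a_rc_4_2 lc_a_rc_21_0 lc_a_rc_2_0 lc_a_rc_3_2 lc_a_rc_5_2 lc_a_Cert_tree lc_a_rc_3_2 lc_a_rc_4_2 lc_a_rc_21_0 lc_a_rc_2_2 lc_a_rc_4_2 lc_a_rc_3_2 lc_a_rc_22_0 lc_a_rc_1_4 lc_a_rc_0_1 lc_a_rc_3_2 lc_a_rc_4_2 lc_a_rc_2_2 lc_a_rc_4_2 lc_a_rc_3_2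 lc_a_rc_2_2 lc_a_rc_4_2 lc_a_Cert_tree lc_a_rc_5_0 lc_a_rc_4_2 lc_a_rc_3_2 lc_a_rc_2_2 lc_a_rc_4_2 lc_a_rc_3_2 lc_a_rc_4_2 lc_a_rc_4_2 lc_a_rc_1_2 lc_a_rc_3_2 lc_a_rc_4_0 lc_a_rc_2_0 lc_a_rc_1_0 lc_a_rc_0_1 lc_a_rc_2_0 lc_a_rc_3_2 lc_a_rc_0_1 lc_a_rc_2_2 lc_a_rc_0_1 lc_a_rc_1_2 lc_a_rc_0_1 lc_a_rc_3_2 lc_a_rc_2_2 lc_a_rc_3_2 lc_a_rc_3_0 lc_a_rc_4_2 lc_a_Cert_tree lc_a_rc_4_2 lc_a_rc_3_0 lc_a_rc_4_2 lc_a_rc_4_2 lc_a_rc_4_2 lc_a_rc_5_0 lc_a_rc_2_2 lc_a_rc_3_2 lc_a_rc_0_1 lc_a_rc_5_2 lc_a_rc_3_2 lc_a_rc_4_2) (@D3.rec (fun _ => (Cert rels S Gen.a)) lc_a_rc_4_2 lc_a_rc_3_2 lc_a_rc_2_2 lc_a_rc_4_2 lc_a_rc_0_1 lc_a_rc_3_2 lc_a_rc_0_1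 lc_a_rc_3_2 lc_a_rc_4_2 lc_a_rc_0_1 lc_a_rc_2_2 lc_a_rc_1_4 lc_a_rc_3_0 lc_a_rc_2_0 lc_a_rc_2_2 lc_a_rc_0_1 lc_a_rc_4_2 lc_a_rc_4_2 lc_a_rc_2_2 lc_a_rc_5_2 lc_a_rc_2_2 lc_a_rc_3_2 lc_a_rc_4_2 lc_a_rc_2_0 lc_a_rc_22_0 lc_a_rc_4_2 lc_a_Cert_tree lc_a_rc_4_2 lc_a_rc_4_2 lc_a_rc_3_2 lc_a_rc_0_1 lc_a_rc_2_0 lc_a_rc_21_0 lc_a_rc_21_0 lc_a_rc_3_2 lc_a_rc_5_2 lc_a_rc_2_2 lc_a_rc_1_4 lc_a_rc_3_2 lc_a_rc_3_2 lc_a_rc_1_4 lc_a_rc_0_1 lc_a_Cert_tree lc_a_rc_2_2 lc_a_rc_3_2 lc_a_rc_21_0 lc_a_rc_2_2 lc_a_rc_21_0 lc_a_rc_4_2 lc_a_Cert_tree lc_a_rc_3_2 lc_a_rc_3_2 lc_a_rc_4_0 lc_a_rc_2_2 lc_a_rc_5_2 lc_a_rc_21_0 lc_a_rc_0_1 lc_a_rc_1_2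 lc_a_rc_2_2 lc_a_rc_4_2 lc_a_Cert_tree lc_a_rc_5_0) (@D3.rec (fun _ => (Cert rels S Gen.a)) lc_a_rc_4_2 lc_a_Cert_tree lc_a_rc_2_2 lc_a_rc_3_2 lc_a_rc_3_2 lc_a_rc_21_0 lc_a_Cert_tree lc_a_rc_4_2 lc_a_rc_5_2 lc_a_rc_5_2 lc_a_rc_3_0 lc_a_rc_22_0 lc_a_rc_4_2 lc_a_rc_0_1 lc_a_rc_4_2 lc_a_rc_3_2 lc_a_rc_2_2 lc_a_rc_3_2 lc_a_rc_4_2 lc_a_rc_3_2 lc_a_rc_21_0 lc_a_rc_2_2 lc_a_rc_3_2 lc_a_rc_5_2 lc_a_rc_21_0 lc_a_rc_4_2 lc_a_rc_1_2 lc_a_rc_3_2 lc_a_rc_2_2 lc_a_rc_3_2 lc_a_rc_2_2 lc_a_rc_0_1 lc_a_rc_0_1 lc_a_rc_0_1 lc_a_rc_4_2 lc_a_rc_1_0 lc_a_rc_4_0 lc_a_rc_3_2 lc_a_rc_5_2 lc_a_rc_4_2 lc_a_rc_0_1 lc_a_rc_3_2 lc_a_rc_5_2 lc_a_rc_0_1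 lc_a_rc_3_0 lc_a_rc_3_2 lc_a_rc_4_2 lc_a_Cert_tree lc_a_rc_1_2 lc_a_rc_3_2 lc_a_rc_2_0 lc_a_rc_3_0 lc_a_rc_3_2 lc_a_rc_2_2 lc_a_rc_5_2 lc_a_rc_2_2 lc_a_rc_0_1 lc_a_rc_3_2 lc_a_rc_4_2 lc_a_rc_5_0 lc_a_rc_4_2 lc_a_rc_0_1) (@D3.rec (fun _ => (Cert rels S Gen.a)) lc_a_rc_0_1 lc_a_rc_3_2 lc_a_rc_2_2 lc_a_rc_4_2 lc_a_Cert_tree lc_a_rc_2_2 lc_a_rc_4_2 lc_a_Cert_tree lc_a_rc_4_0 lc_a_rc_3_0 lc_a_Cert_tree lc_a_rc_4_2 lc_a_rc_4_2 lc_a_rc_0_1 lc_a_rc_21_0 lc_a_rc_3_2 lc_a_rc_4_2 lc_a_rc_3_2 lc_a_rc_2_2 lc_a_rc_4_2 lc_a_rc_4_2 lc_a_rc_4_2 lc_a_rc_3_2 lc_a_rc_0_1 lc_a_rc_3_2 lc_a_rc_4_2 lc_a_rc_5_2 lc_a_rc_2_2 lc_a_rc_3_2 lc_a_rc_21_0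 lc_a_rc_3_2 lc_a_Cert_tree lc_a_rc_4_2 lc_a_rc_3_2 lc_a_rc_0_1 lc_a_rc_3_2 lc_a_rc_3_2 lc_a_rc_2_2 lc_a_rc_5_2 lc_a_rc_3_2 lc_a_rc_3_0 lc_a_rc_3_2 lc_a_rc_22_0 lc_a_rc_2_2 lc_a_rc_4_2 lc_a_rc_5_0 lc_a_rc_0_1 lc_a_rc_3_2 lc_a_rc_2_2 lc_a_rc_2_2 lc_a_rc_4_2 lc_a_rc_21_0 lc_a_rc_5_0 lc_a_rc_4_2 lc_a_Cert_tree lc_a_rc_2_2 lc_a_rc_3_2 lc_a_rc_2_2 lc_a_rc_5_2 lc_a_rc_4_2 lc_a_rc_3_2 lc_a_rc_2_2) (@D3.rec (fun _ => (Cert rels S Gen.a)) lc_a_rc_4_2 lc_a_rc_4_2 lc_a_rc_4_2 lc_a_rc_3_2 lc_a_rc_4_2 lc_a_rc_4_2 lc_a_rc_4_2 lc_a_rc_3_2 lc_a_rc_2_2 lc_a_rc_4_2 lc_a_rc_3_2 lc_a_rc_2_2 lc_a_rc_4_2 lc_a_rc_2_0 lc_a_rc_21_0 lc_a_rc_0_1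 lc_a_rc_3_2 lc_a_rc_5_2 lc_a_rc_2_2 lc_a_rc_3_2 lc_a_rc_4_2 lc_a_rc_2_2 lc_a_rc_5_2 lc_a_rc_3_2 lc_a_rc_4_2 lc_a_rc_21_0 lc_a_rc_3_2 lc_a_rc_2_2 lc_a_rc_1_4 lc_a_rc_22_0 lc_a_rc_4_2 lc_a_rc_3_2 lc_a_rc_2_0 lc_a_rc_21_0 lc_a_rc_3_0 lc_a_rc_2_2 lc_a_rc_5_2 lc_a_rc_0_1 lc_a_rc_4_2 lc_a_rc_21_0 lc_a_Cert_tree lc_a_rc_4_2 lc_a_rc_3_2 lc_a_rc_4_2 lc_a_rc_3_2 lc_a_rc_3_2 lc_a_rc_5_2 lc_a_rc_2_0 lc_a_rc_4_2 lc_a_rc_4_2 lc_a_rc_5_0 lc_a_rc_2_2 lc_a_rc_3_2 lc_a_rc_4_2 lc_a_rc_21_0 lc_a_rc_21_0 lc_a_rc_4_2 lc_a_rc_3_2 lc_a_rc_2_2 lc_a_rc_3_2 lc_a_rc_2_2 lc_a_rc_5_2) (@D3.rec (fun _ => (Cert rels S Gen.a)) lc_a_rc_3_2 lc_a_rc_1_2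 lc_a_rc_3_2 lc_a_rc_2_0 lc_a_rc_3_2 lc_a_rc_3_2 lc_a_rc_2_2 lc_a_rc_5_2 lc_a_rc_0_1 lc_a_rc_3_0 lc_a_rc_5_0 lc_a_rc_2_2 lc_a_Cert_tree lc_a_rc_5_2 lc_a_rc_4_2 lc_a_rc_2_2 lc_a_rc_2_2 lc_a_rc_2_0 lc_a_rc_3_2 lc_a_rc_4_2 lc_a_rc_3_0 lc_a_rc_4_2 lc_a_rc_3_0 lc_a_rc_3_2 lc_a_rc_3_2 lc_a_rc_1_2 lc_a_rc_21_0 lc_a_rc_21_0 lc_a_rc_1_4 lc_a_rc_3_2 lc_a_rc_4_2 lc_a_rc_3_2 lc_a_rc_3_2 lc_a_rc_4_2 lc_a_rc_5_2 lc_a_rc_0_1 lc_a_rc_3_2 lc_a_Cert_tree lc_a_rc_4_2 lc_a_rc_3_0 lc_a_rc_3_0 lc_a_rc_3_0 lc_a_rc_4_2 lc_a_rc_5_2 lc_a_rc_3_2 lc_a_rc_5_0 lc_a_rc_0_1 lc_a_rc_21_0 lc_a_rc_3_2 lc_a_rc_4_2 lc_a_rc_3_0 lc_a_rc_4_2 lc_a_rc_3_2 lc_a_rc_0_1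 lc_a_rc_2_2 lc_a_rc_4_2 lc_a_rc_2_2 lc_a_rc_3_2 lc_a_rc_5_2 lc_a_rc_0_1 lc_a_rc_0_1 lc_a_rc_3_0) (@D3.rec (fun _ => (Cert rels S Gen.a)) lc_a_rc_3_2 lc_a_rc_4_2 lc_a_rc_1_4 lc_a_rc_4_0 lc_a_rc_0_1 lc_a_rc_2_0 lc_a_rc_3_2 lc_a_rc_5_2 lc_a_Cert_tree lc_a_rc_2_2 lc_a_rc_2_0 lc_a_rc_4_2 lc_a_rc_4_0 lc_a_rc_4_0 lc_a_rc_4_2 lc_a_rc_1_0 lc_a_rc_3_2 lc_a_rc_0_1 lc_a_rc_1_2 lc_a_rc_2_0 lc_a_rc_5_2 lc_a_rc_4_2 lc_a_rc_2_2 lc_a_rc_3_2 lc_a_rc_21_0 lc_a_rc_0_1 lc_a_rc_2_2 lc_a_rc_4_2 lc_a_rc_3_0 lc_a_rc_3_2 lc_a_rc_2_2 lc_a_rc_4_2 lc_a_rc_2_0 lc_a_rc_0_1 lc_a_rc_0_1 lc_a_rc_2_2 lc_a_rc_0_1 lc_a_rc_3_0 lc_a_rc_22_0 lc_a_rc_3_2 lc_a_rc_4_2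 lc_a_rc_5_0 lc_a_rc_5_0 lc_a_rc_5_0 lc_a_rc_4_2 lc_a_rc_3_2 lc_a_Cert_tree lc_a_rc_4_2 lc_a_rc_21_0 lc_a_rc_3_2 lc_a_rc_4_2 lc_a_rc_5_2 lc_a_rc_2_2 lc_a_rc_0_1 lc_a_rc_2_2 lc_a_rc_4_2 lc_a_rc_0_1 lc_a_rc_3_2 lc_a_Cert_tree lc_a_rc_4_2 lc_a_rc_4_2 lc_a_rc_5_0)
def ce_a_14 : D2 → D3 → (Cert rels S Gen.a) := @D2.rec (fun _ => D3 → (Cert rels S Gen.a)) (@D3.rec (fun _ => (Cert rels S Gen.a)) lc_a_rc_5_2 lc_a_rc_4_2 lc_a_rc_0_1 lc_a_rc_3_2 lc_a_rc_4_2 lc_a_Cert_tree lc_a_rc_2_2 lc_a_rc_2_2 lc_a_rc_2_0 lc_a_rc_5_2 lc_a_Cert_tree lc_a_rc_4_2 lc_a_Cert_tree lc_a_rc_5_0 lc_a_Cert_tree lc_a_rc_1_4 lc_a_rc_0_1 lc_a_rc_3_2 lc_a_rc_21_0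 lc_a_rc_4_2 lc_a_rc_4_2 lc_a_rc_0_1 lc_a_rc_3_2 lc_a_rc_2_2 lc_a_rc_4_2 lc_a_rc_0_1 lc_a_rc_3_2 lc_a_rc_2_2 lc_a_rc_4_2 lc_a_rc_3_2 lc_a_rc_4_2 lc_a_rc_3_2 lc_a_rc_0_1 lc_a_rc_4_2 lc_a_rc_4_2 lc_a_rc_2_2 lc_a_rc_3_2 lc_a_Cert_tree lc_a_rc_0_1 lc_a_rc_4_2 lc_a_rc_21_0 lc_a_rc_21_0 lc_a_rc_4_2 lc_a_rc_0_1 lc_a_rc_4_2 lc_a_rc_4_2 lc_a_rc_3_2 lc_a_rc_3_2 lc_a_rc_5_2 lc_a_rc_0_1 lc_a_Cert_tree lc_a_rc_0_1 lc_a_rc_21_0 lc_a_rc_4_2 lc_a_rc_21_0 lc_a_rc_3_2 lc_a_rc_2_2 lc_a_rc_2_2 lc_a_rc_4_2 lc_a_rc_3_2 lc_a_rc_4_2 lc_a_rc_0_1) (@D3.rec (fun _ => (Cert rels S Gen.a)) lc_a_rc_4_2 lc_a_Cert_tree lc_a_rc_4_2 lc_a_rc_5_0 lc_a_rc_0_1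 lc_a_rc_5_2 lc_a_rc_5_2 lc_a_rc_1_2 lc_a_rc_4_2 lc_a_rc_1_4 lc_a_rc_2_2 lc_a_rc_2_2 lc_a_rc_4_2 lc_a_rc_2_2 lc_a_rc_22_0 lc_a_rc_1_2 lc_a_rc_4_2 lc_a_rc_3_2 lc_a_rc_3_2 lc_a_rc_4_2 lc_a_rc_5_2 lc_a_rc_2_2 lc_a_rc_21_0 lc_a_rc_0_1 lc_a_rc_2_0 lc_a_Cert_tree lc_a_rc_21_0 lc_a_Cert_tree lc_a_rc_4_2 lc_a_rc_21_0 lc_a_rc_4_2 lc_a_rc_4_2 lc_a_rc_5_2 lc_a_rc_2_2 lc_a_rc_2_2 lc_a_rc_4_2 lc_a_rc_21_0 lc_a_rc_4_2 lc_a_rc_3_2 lc_a_rc_2_0 lc_a_rc_0_1 lc_a_rc_3_2 lc_a_rc_4_2 lc_a_rc_5_2 lc_a_rc_4_2 lc_a_rc_4_2 lc_a_rc_1_4 lc_a_rc_21_0 lc_a_rc_3_2 lc_a_rc_2_2 lc_a_rc_4_2 lc_a_rc_0_1 lc_a_rc_4_2 lc_a_rc_3_2 lc_a_rc_4_2 lc_a_rc_2_0 lc_a_rc_4_2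 lc_a_rc_4_2 lc_a_rc_5_2 lc_a_rc_3_2 lc_a_rc_5_2 lc_a_rc_3_2) (@D3.rec (fun _ => (Cert rels S Gen.a)) lc_a_rc_2_2 lc_a_rc_21_0 lc_a_rc_5_0 lc_a_rc_5_0 lc_a_rc_3_2 lc_a_rc_2_2 lc_a_rc_0_1 lc_a_rc_4_2 lc_a_rc_2_0 lc_a_rc_21_0 lc_a_rc_3_2 lc_a_rc_5_2 lc_a_rc_2_0 lc_a_rc_2_0 lc_a_rc_3_2 lc_a_rc_5_2 lc_a_rc_4_2 lc_a_rc_2_2 lc_a_rc_1_4 lc_a_rc_5_0 lc_a_rc_4_2 lc_a_rc_4_0 lc_a_rc_4_2 lc_a_rc_5_2 lc_a_rc_21_0 lc_a_rc_0_1 lc_a_rc_1_2 lc_a_rc_2_2 lc_a_rc_1_0 lc_a_rc_0_1 lc_a_rc_2_2 lc_a_rc_4_2 lc_a_rc_3_2 lc_a_Cert_tree lc_a_Cert_tree lc_a_rc_4_0 lc_a_rc_4_2 lc_a_rc_0_1 lc_a_rc_1_4 lc_a_rc_22_0 lc_a_rc_3_0 lc_a_rc_22_0 lc_a_rc_2_0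 lc_a_rc_4_2 lc_a_Cert_tree lc_a_Cert_tree lc_a_rc_2_0 lc_a_Cert_tree lc_a_rc_3_2 lc_a_rc_21_0 lc_a_rc_0_1 lc_a_rc_3_2 lc_a_rc_4_2 lc_a_rc_2_2 lc_a_rc_3_2 lc_a_rc_5_2 lc_a_rc_4_2 lc_a_rc_2_2 lc_a_rc_4_2 lc_a_rc_4_2 lc_a_rc_21_0 lc_a_rc_2_0) (@D3.rec (fun _ => (Cert rels S Gen.a)) lc_a_rc_4_2 lc_a_Cert_tree lc_a_rc_2_2 lc_a_rc_4_2 lc_a_rc_3_0 lc_a_rc_3_2 lc_a_rc_3_2 lc_a_rc_4_2 lc_a_rc_2_2 lc_a_rc_4_2 lc_a_rc_1_2 lc_a_rc_0_1 lc_a_rc_3_2 lc_a_rc_2_2 lc_a_rc_4_2 lc_a_rc_21_0 lc_a_rc_5_0 lc_a_rc_4_2 lc_a_Cert_tree lc_a_rc_2_2 lc_a_rc_2_0 lc_a_rc_4_2 lc_a_rc_4_2 lc_a_rc_1_4 lc_a_rc_2_0 lc_a_rc_0_1 lc_a_rc_1_2 lc_a_rc_22_0 lc_a_rc_3_2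 lc_a_Cert_tree lc_a_rc_4_2 lc_a_rc_21_0 lc_a_rc_0_1 lc_a_rc_3_2 lc_a_rc_4_2 lc_a_rc_2_2 lc_a_rc_0_1 lc_a_rc_4_2 lc_a_rc_2_2 lc_a_rc_21_0 lc_a_rc_0_1 lc_a_rc_1_4 lc_a_rc_3_0 lc_a_rc_1_4 lc_a_rc_2_2 lc_a_rc_3_2 lc_a_rc_3_2 lc_a_rc_2_2 lc_a_rc_3_0 lc_a_Cert_tree lc_a_rc_4_2 lc_a_rc_4_0 lc_a_rc_5_0 lc_a_rc_21_0 lc_a_rc_21_0 lc_a_rc_4_2 lc_a_rc_4_2 lc_a_rc_3_2 lc_a_rc_2_0 lc_a_rc_2_0 lc_a_rc_3_2 lc_a_rc_5_2) (@D3.rec (fun _ => (Cert rels S Gen.a)) lc_a_rc_21_0 lc_a_rc_3_2 lc_a_rc_21_0 lc_a_rc_2_2 lc_a_rc_1_4 lc_a_rc_3_2 lc_a_rc_1_4 lc_a_rc_21_0 lc_a_rc_0_1 lc_a_rc_2_2 lc_a_rc_0_1 lc_a_rc_2_2 lc_a_rc_3_2 lc_a_rc_4_2 lc_a_rc_1_2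 lc_a_rc_2_2 lc_a_rc_3_2 lc_a_rc_4_2 lc_a_rc_5_0 lc_a_rc_1_4 lc_a_rc_5_2 lc_a_rc_4_2 lc_a_rc_3_2 lc_a_rc_1_4 lc_a_rc_3_2 lc_a_rc_4_2 lc_a_rc_4_2 lc_a_rc_0_1 lc_a_rc_1_0 lc_a_rc_4_0 lc_a_rc_2_2 lc_a_rc_3_2 lc_a_rc_3_2 lc_a_rc_5_2 lc_a_rc_0_1 lc_a_rc_2_0 lc_a_rc_0_1 lc_a_rc_3_2 lc_a_rc_4_2 lc_a_rc_4_2 lc_a_rc_2_2 lc_a_rc_1_4 lc_a_rc_1_4 lc_a_rc_5_2 lc_a_rc_0_1 lc_a_rc_3_2 lc_a_rc_5_2 lc_a_rc_4_2 lc_a_rc_3_2 lc_a_rc_5_2 lc_a_rc_21_0 lc_a_rc_4_2 lc_a_rc_5_0 lc_a_rc_4_2 lc_a_rc_0_1 lc_a_rc_4_2 lc_a_rc_3_0 lc_a_rc_21_0 lc_a_rc_1_4 lc_a_rc_1_4 lc_a_rc_4_2 lc_a_rc_2_0) (@D3.rec (fun _ => (Cert rels S Gen.a)) lc_a_rc_2_0 lc_a_rc_4_2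 lc_a_rc_4_2 lc_a_rc_4_2 lc_a_rc_4_2 lc_a_rc_21_0 lc_a_rc_3_2 lc_a_rc_2_2 lc_a_rc_3_2 lc_a_rc_4_2 lc_a_rc_3_2 lc_a_rc_3_2 lc_a_rc_5_2 lc_a_rc_3_2 lc_a_rc_2_2 lc_a_rc_3_2 lc_a_rc_5_2 lc_a_rc_22_0 lc_a_rc_4_2 lc_a_rc_1_2 lc_a_rc_3_2 lc_a_rc_4_2 lc_a_rc_21_0 lc_a_rc_3_2 lc_a_rc_4_0 lc_a_rc_5_2 lc_a_Cert_tree lc_a_rc_3_2 lc_a_Cert_tree lc_a_rc_3_2 lc_a_rc_2_2 lc_a_rc_3_0 lc_a_rc_3_2 lc_a_rc_2_2 lc_a_rc_5_2 lc_a_rc_5_2 lc_a_rc_0_1 lc_a_rc_3_2 lc_a_rc_4_2 lc_a_rc_2_2 lc_a_rc_4_2 lc_a_rc_3_2 lc_a_rc_5_0 lc_a_rc_2_2 lc_a_rc_4_2 lc_a_rc_3_2 lc_a_Cert_tree lc_a_rc_4_2 lc_a_rc_3_2 lc_a_rc_3_2 lc_a_rc_2_2 lc_a_rc_3_0 lc_a_Cert_tree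 lc_a_rc_3_2 lc_a_rc_5_2 lc_a_rc_4_2 lc_a_rc_3_2 lc_a_rc_2_2 lc_a_rc_4_2 lc_a_rc_1_4 lc_a_rc_3_2 lc_a_rc_2_0) (@D3.rec (fun _ => (Cert rels S Gen.a)) lc_a_rc_0_1 lc_a_rc_3_2 lc_a_rc_3_2 lc_a_rc_4_2 lc_a_rc_3_2 lc_a_rc_0_1 lc_a_rc_3_2 lc_a_rc_0_1 lc_a_rc_3_2 lc_a_rc_0_1 lc_a_rc_2_2 lc_a_rc_1_2 lc_a_rc_3_2 lc_a_rc_2_2 lc_a_rc_2_2 lc_a_rc_3_2 lc_a_rc_2_2 lc_a_rc_3_2 lc_a_rc_3_2 lc_a_rc_2_2 lc_a_rc_5_2 lc_a_rc_5_0 lc_a_rc_4_2 lc_a_rc_3_2 lc_a_rc_0_1 lc_a_rc_3_2 lc_a_rc_4_2 lc_a_rc_2_2 lc_a_rc_4_2 lc_a_rc_5_0 lc_a_rc_4_2 lc_a_Cert_tree lc_a_Cert_tree lc_a_rc_4_2 lc_a_rc_4_2 lc_a_rc_3_2 lc_a_rc_1_4 lc_a_rc_4_2 lc_a_rc_1_4 lc_a_rc_4_2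 lc_a_rc_3_2 lc_a_rc_2_2 lc_a_rc_4_2 lc_a_rc_3_2 lc_a_rc_21_0 lc_a_rc_3_2 lc_a_rc_5_2 lc_a_rc_4_2 lc_a_rc_5_2 lc_a_rc_2_2 lc_a_rc_4_2 lc_a_rc_21_0 lc_a_rc_0_1 lc_a_rc_3_2 lc_a_rc_5_2 lc_a_rc_21_0 lc_a_rc_21_0 lc_a_rc_4_2 lc_a_rc_1_4 lc_a_rc_2_2 lc_a_rc_0_1 lc_a_rc_4_2) (@D3.rec (fun _ => (Cert rels S Gen.a)) lc_a_rc_5_0 lc_a_rc_3_2 lc_a_rc_2_2 lc_a_rc_5_2 lc_a_rc_1_2 lc_a_rc_3_2 lc_a_rc_3_2 lc_a_rc_2_2 lc_a_rc_3_2 lc_a_rc_3_2 lc_a_rc_2_2 lc_a_rc_5_2 lc_a_rc_5_0 lc_a_rc_4_2 lc_a_rc_3_2 lc_a_Cert_tree lc_a_rc_2_0 lc_a_rc_5_2 lc_a_rc_4_2 lc_a_rc_4_2 lc_a_rc_3_2 lc_a_rc_3_2 lc_a_rc_3_2 lc_a_rc_21_0 lc_a_rc_2_2 lc_a_rc_4_2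 lc_a_rc_5_0 lc_a_rc_2_2 lc_a_rc_5_0 lc_a_rc_3_2 lc_a_rc_4_2 lc_a_rc_4_2 lc_a_rc_1_4 lc_a_rc_3_2 lc_a_rc_3_2 lc_a_rc_2_2 lc_a_rc_5_2 lc_a_rc_3_2 lc_a_Cert_tree lc_a_rc_2_2 lc_a_rc_4_2 lc_a_rc_21_0 lc_a_rc_21_0 lc_a_rc_21_0 lc_a_rc_3_2 lc_a_rc_3_2 lc_a_rc_2_0 lc_a_rc_3_2 lc_a_rc_2_2 lc_a_rc_4_2 lc_a_rc_3_0 lc_a_rc_3_2 lc_a_rc_2_2 lc_a_rc_5_2 lc_a_rc_4_2 lc_a_rc_3_2 lc_a_rc_3_2 lc_a_rc_1_4 lc_a_rc_0_1 lc_a_rc_3_2 lc_a_rc_2_2 lc_a_rc_2_2) (@D3.rec (fun _ => (Cert rels S Gen.a)) lc_a_rc_0_1 lc_a_rc_5_0 lc_a_rc_4_2 lc_a_rc_5_2 lc_a_rc_3_2 lc_a_rc_22_0 lc_a_rc_3_2 lc_a_rc_4_2 lc_a_rc_0_1 lc_a_rc_2_2 lc_a_rc_5_2 lc_a_rc_1_0 lc_a_rc_0_1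 lc_a_rc_3_2 lc_a_rc_1_2 lc_a_rc_4_0 lc_a_rc_21_0 lc_a_rc_2_2 lc_a_rc_3_2 lc_a_rc_3_0 lc_a_rc_2_2 lc_a_rc_4_2 lc_a_rc_4_2 lc_a_rc_3_2 lc_a_rc_3_2 lc_a_rc_0_1 lc_a_rc_0_1 lc_a_rc_3_2 lc_a_rc_4_2 lc_a_Cert_tree lc_a_rc_3_2 lc_a_rc_2_2 lc_a_rc_2_2 lc_a_rc_21_0 lc_a_rc_4_2 lc_a_rc_3_2 lc_a_rc_5_2 lc_a_Cert_tree lc_a_rc_0_1 lc_a_rc_4_2 lc_a_Cert_tree lc_a_rc_21_0 lc_a_rc_1_4 lc_a_rc_4_2 lc_a_rc_2_2 lc_a_rc_2_0 lc_a_Cert_tree lc_a_rc_22_0 lc_a_rc_5_2 lc_a_rc_2_2 lc_a_rc_5_2 lc_a_rc_3_2 lc_a_rc_4_2 lc_a_rc_21_0 lc_a_rc_3_2 lc_a_rc_2_2 lc_a_rc_4_2 lc_a_rc_4_2 lc_a_rc_21_0 lc_a_rc_3_2 lc_a_Cert_tree lc_a_rc_4_2) (@D3.rec (fun _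 => (Cert rels S Gen.a)) lc_a_rc_4_2 lc_a_rc_21_0 lc_a_rc_4_2 lc_a_rc_5_2 lc_a_rc_2_2 lc_a_rc_2_0 lc_a_rc_3_2 lc_a_rc_4_2 lc_a_rc_2_0 lc_a_rc_4_2 lc_a_rc_2_2 lc_a_rc_4_2 lc_a_Cert_tree lc_a_rc_4_2 lc_a_rc_21_0 lc_a_rc_4_2 lc_a_rc_5_2 lc_a_rc_0_1 lc_a_rc_2_2 lc_a_rc_4_2 lc_a_rc_0_1 lc_a_rc_4_2 lc_a_rc_21_0 lc_a_rc_5_2 lc_a_rc_0_1 lc_a_rc_2_0 lc_a_rc_4_2 lc_a_rc_21_0 lc_a_rc_2_2 lc_a_rc_5_2 lc_a_Cert_tree lc_a_rc_4_2 lc_a_rc_1_2 lc_a_rc_4_2 lc_a_rc_2_2 lc_a_rc_3_0 lc_a_rc_0_1 lc_a_rc_2_2 lc_a_rc_21_0 lc_a_rc_0_1 lc_a_rc_3_2 lc_a_rc_21_0 lc_a_rc_0_1 lc_a_rc_5_2 lc_a_rc_3_2 lc_a_rc_4_2 lc_a_rc_21_0 lc_a_rc_3_0 lc_a_rc_4_0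 lc_a_rc_1_0 lc_a_rc_4_0 lc_a_Cert_tree lc_a_rc_4_2 lc_a_Cert_tree lc_a_rc_2_2 lc_a_rc_3_2 lc_a_Cert_tree lc_a_rc_4_2 lc_a_rc_21_0 lc_a_rc_3_0 lc_a_rc_5_2 lc_a_rc_21_0) (@D3.rec (fun _ => (Cert rels S Gen.a)) lc_a_rc_3_2 lc_a_rc_3_2 lc_a_rc_4_2 lc_a_rc_0_1 lc_a_rc_21_0 lc_a_rc_5_2 lc_a_rc_4_2 lc_a_rc_0_1 lc_a_rc_21_0 lc_a_Cert_tree lc_a_rc_2_2 lc_a_rc_0_1 lc_a_rc_4_2 lc_a_rc_4_2 lc_a_rc_4_2 lc_a_rc_4_2 lc_a_rc_3_2 lc_a_rc_4_2 lc_a_rc_4_2 lc_a_rc_3_2 lc_a_rc_0_1 lc_a_rc_21_0 lc_a_rc_3_2 lc_a_rc_4_2 lc_a_rc_1_4 lc_a_rc_3_2 lc_a_rc_3_0 lc_a_rc_3_2 lc_a_rc_2_2 lc_a_rc_5_2 lc_a_rc_5_0 lc_a_rc_0_1 lc_a_rc_3_2 lc_a_rc_4_2 lc_a_Cert_tree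 lc_a_rc_2_2 lc_a_rc_4_2 lc_a_rc_5_0 lc_a_Cert_tree lc_a_rc_2_2 lc_a_rc_3_0 lc_a_rc_0_1 lc_a_rc_3_2 lc_a_rc_4_2 lc_a_rc_0_1 lc_a_Cert_tree lc_a_rc_4_0 lc_a_rc_3_0 lc_a_rc_2_2 lc_a_rc_3_2 lc_a_rc_2_2 lc_a_rc_3_0 lc_a_rc_4_0 lc_a_rc_5_2 lc_a_rc_2_2 lc_a_rc_0_1 lc_a_rc_2_2 lc_a_rc_4_2 lc_a_rc_3_2 lc_a_rc_3_2 lc_a_rc_4_2 lc_a_rc_3_2) (@D3.rec (fun _ => (Cert rels S Gen.a)) lc_a_rc_3_0 lc_a_rc_5_0 lc_a_rc_0_1 lc_a_rc_3_0 lc_a_rc_3_2 lc_a_rc_4_2 lc_a_rc_3_2 lc_a_rc_3_2 lc_a_rc_4_2 lc_a_rc_5_0 lc_a_Cert_tree lc_a_rc_2_2 lc_a_rc_5_2 lc_a_rc_21_0 lc_a_rc_4_2 lc_a_rc_4_2 lc_a_rc_2_2 lc_a_rc_0_1 lc_a_rc_3_2 lc_a_rc_3_2 lc_a_rc_2_2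 lc_a_rc_3_0 lc_a_rc_21_0 lc_a_rc_0_1 lc_a_rc_0_1 lc_a_rc_3_2 lc_a_rc_2_2 lc_a_rc_4_2 lc_a_rc_3_2 lc_a_rc_4_2 lc_a_rc_1_4 lc_a_rc_21_0 lc_a_rc_1_2 lc_a_rc_2_0 lc_a_rc_2_0 lc_a_rc_2_0 lc_a_rc_3_2 lc_a_rc_5_2 lc_a_rc_1_2 lc_a_rc_4_2 lc_a_rc_5_2 lc_a_rc_2_2 lc_a_rc_3_2 lc_a_rc_3_2 lc_a_rc_3_0 lc_a_rc_21_0 lc_a_rc_4_2 lc_a_rc_2_2 lc_a_rc_1_2 lc_a_rc_2_2 lc_a_rc_4_2 lc_a_rc_2_0 lc_a_rc_2_2 lc_a_rc_5_2 lc_a_rc_21_0 lc_a_rc_4_2 lc_a_rc_3_2 lc_a_rc_4_2 lc_a_rc_1_2 lc_a_rc_0_1 lc_a_rc_0_1 lc_a_rc_4_2) (@D3.rec (fun _ => (Cert rels S Gen.a)) lc_a_rc_2_2 lc_a_rc_4_2 lc_a_rc_1_4 lc_a_rc_0_1 lc_a_rc_3_0 lc_a_rc_21_0 lc_a_rc_21_0 lc_a_rc_2_2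 lc_a_rc_2_2 lc_a_Cert_tree lc_a_rc_4_2 lc_a_rc_0_1 lc_a_rc_2_2 lc_a_rc_21_0 lc_a_rc_4_0 lc_a_rc_22_0 lc_a_rc_3_2 lc_a_rc_3_2 lc_a_rc_21_0 lc_a_rc_0_1 lc_a_rc_4_2 lc_a_rc_2_2 lc_a_rc_2_2 lc_a_rc_4_2 lc_a_rc_3_2 lc_a_rc_2_2 lc_a_rc_0_1 lc_a_rc_3_2 lc_a_rc_3_2 lc_a_rc_0_1 lc_a_rc_4_2 lc_a_rc_5_2 lc_a_rc_4_2 lc_a_rc_3_2 lc_a_rc_1_2 lc_a_rc_5_0 lc_a_rc_3_2 lc_a_rc_4_2 lc_a_rc_2_0 lc_a_rc_0_1 lc_a_rc_21_0 lc_a_rc_3_2 lc_a_rc_2_2 lc_a_rc_4_2 lc_a_rc_4_2 lc_a_rc_1_4 lc_a_rc_3_2 lc_a_rc_2_0 lc_a_rc_3_2 lc_a_rc_5_2 lc_a_rc_1_4 lc_a_rc_2_2 lc_a_rc_21_0 lc_a_rc_4_2 lc_a_rc_0_1 lc_a_rc_4_2 lc_a_rc_2_2 lc_a_rc_21_0 lc_a_rc_3_2 lc_a_rc_4_2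 lc_a_rc_5_0 lc_a_rc_3_0) (@D3.rec (fun _ => (Cert rels S Gen.a)) lc_a_rc_2_2 lc_a_rc_5_2 lc_a_rc_3_2 lc_a_rc_0_1 lc_a_rc_21_0 lc_a_rc_5_0 lc_a_rc_21_0 lc_a_rc_1_4 lc_a_rc_2_2 lc_a_rc_5_2 lc_a_rc_1_2 lc_a_rc_4_2 lc_a_Cert_tree lc_a_rc_5_2 lc_a_rc_4_2 lc_a_rc_4_2 lc_a_rc_4_2 lc_a_rc_1_2 lc_a_rc_4_2 lc_a_rc_3_2 lc_a_rc_5_2 lc_a_rc_3_2 lc_a_rc_3_2 lc_a_rc_2_2 lc_a_rc_3_2 lc_a_rc_1_2 lc_a_rc_2_2 lc_a_rc_3_2 lc_a_rc_3_0 lc_a_rc_3_2 lc_a_rc_5_2 lc_a_rc_0_1 lc_a_rc_0_1 lc_a_rc_4_2 lc_a_rc_0_1 lc_a_rc_3_2 lc_a_rc_3_0 lc_a_rc_22_0 lc_a_rc_2_0 lc_a_rc_4_2 lc_a_rc_1_0 lc_a_rc_1_0 lc_a_rc_3_2 lc_a_rc_21_0 lc_a_rc_3_2 lc_a_rc_4_2 lc_a_rc_3_2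 lc_a_rc_2_2 lc_a_rc_4_2 lc_a_rc_21_0 lc_a_rc_2_2 lc_a_rc_4_2 lc_a_rc_2_0 lc_a_rc_3_2 lc_a_rc_21_0 lc_a_rc_21_0 lc_a_rc_0_1 lc_a_rc_3_2 lc_a_rc_0_1 lc_a_rc_21_0 lc_a_rc_0_1 lc_a_rc_5_2) (@D3.rec (fun _ => (Cert rels S Gen.a)) lc_a_rc_5_2 lc_a_rc_0_1 lc_a_rc_0_1 lc_a_rc_3_2 lc_a_rc_2_0 lc_a_Cert_tree lc_a_rc_3_2 lc_a_rc_2_2 lc_a_rc_3_2 lc_a_rc_5_2 lc_a_rc_2_2 lc_a_rc_3_2 lc_a_rc_3_2 lc_a_rc_21_0 lc_a_rc_5_0 lc_a_rc_0_1 lc_a_rc_4_0 lc_a_rc_3_2 lc_a_rc_4_0 lc_a_rc_3_2 lc_a_rc_0_1 lc_a_rc_2_2 lc_a_rc_3_2 lc_a_Cert_tree lc_a_rc_21_0 lc_a_Cert_tree lc_a_rc_4_2 lc_a_Cert_tree lc_a_rc_2_2 lc_a_rc_3_2 lc_a_rc_0_1 lc_a_rc_2_2 lc_a_rc_3_2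 lc_a_rc_2_2 lc_a_rc_3_2 lc_a_rc_3_2 lc_a_rc_4_2 lc_a_rc_0_1 lc_a_rc_21_0 lc_a_rc_2_2 lc_a_rc_4_2 lc_a_rc_3_2 lc_a_rc_3_2 lc_a_Cert_tree lc_a_rc_4_2 lc_a_rc_3_2 lc_a_rc_5_0 lc_a_rc_5_2 lc_a_rc_3_2 lc_a_rc_3_2 lc_a_rc_4_2 lc_a_rc_2_2 lc_a_rc_4_2 lc_a_rc_22_0 lc_a_rc_4_2 lc_a_Cert_tree lc_a_rc_4_2 lc_a_rc_4_2 lc_a_rc_5_0 lc_a_rc_3_2 lc_a_rc_5_2 lc_a_rc_2_2) (@D3.rec (fun _ => (Cert rels S Gen.a)) lc_a_rc_0_1 lc_a_rc_2_2 lc_a_rc_0_1 lc_a_rc_4_2 lc_a_Cert_tree lc_a_rc_4_2 lc_a_rc_5_0 lc_a_rc_4_2 lc_a_rc_3_2 lc_a_rc_5_2 lc_a_rc_2_2 lc_a_rc_3_2 lc_a_Cert_tree lc_a_rc_2_2 lc_a_rc_1_0 lc_a_rc_4_2 lc_a_rc_3_2 lc_a_Cert_tree lc_a_rc_4_2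 lc_a_rc_2_2 lc_a_rc_1_4 lc_a_rc_3_2 lc_a_rc_2_2 lc_a_rc_0_1 lc_a_rc_21_0 lc_a_rc_4_0 lc_a_rc_3_2 lc_a_rc_1_0 lc_a_rc_1_2 lc_a_rc_2_2 lc_a_rc_21_0 lc_a_rc_22_0 lc_a_rc_4_2 lc_a_rc_21_0 lc_a_rc_3_2 lc_a_rc_5_2 lc_a_Cert_tree lc_a_rc_3_2 lc_a_rc_4_2 lc_a_rc_4_2 lc_a_rc_3_2 lc_a_rc_3_2 lc_a_rc_4_2 lc_a_rc_21_0 lc_a_rc_21_0 lc_a_rc_4_2 lc_a_rc_3_2 lc_a_rc_3_2 lc_a_rc_2_2 lc_a_rc_0_1 lc_a_rc_4_2 lc_a_Cert_tree lc_a_rc_3_2 lc_a_rc_4_2 lc_a_rc_3_0 lc_a_rc_1_0 lc_a_rc_1_0 lc_a_rc_2_2 lc_a_rc_4_2 lc_a_rc_21_0 lc_a_rc_4_2 lc_a_rc_3_2) (@D3.rec (fun _ => (Cert rels S Gen.a)) lc_a_rc_2_2 lc_a_rc_4_2 lc_a_rc_3_2 lc_a_rc_3_2 lc_a_rc_21_0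 lc_a_rc_2_2 lc_a_rc_1_4 lc_a_rc_2_2 lc_a_rc_4_2 lc_a_rc_4_2 lc_a_rc_3_2 lc_a_rc_1_2 lc_a_rc_0_1 lc_a_rc_3_2 lc_a_rc_1_2 lc_a_rc_1_4 lc_a_rc_1_4 lc_a_rc_3_2 lc_a_rc_1_2 lc_a_rc_21_0 lc_a_rc_21_0 lc_a_rc_3_2 lc_a_rc_5_0 lc_a_rc_2_2 lc_a_rc_3_2 lc_a_rc_3_2 lc_a_rc_4_2 lc_a_rc_2_2 lc_a_rc_4_2 lc_a_rc_2_2 lc_a_rc_4_2 lc_a_Cert_tree lc_a_rc_2_2 lc_a_rc_1_2 lc_a_rc_2_2 lc_a_rc_3_2 lc_a_rc_2_2 lc_a_rc_1_0 lc_a_rc_3_2 lc_a_rc_0_1 lc_a_rc_0_1 lc_a_rc_3_2 lc_a_rc_3_2 lc_a_rc_0_1 lc_a_rc_2_2 lc_a_rc_4_2 lc_a_rc_3_2 lc_a_rc_21_0 lc_a_rc_2_0 lc_a_rc_0_1 lc_a_rc_0_1 lc_a_rc_2_2 lc_a_rc_4_2 lc_a_rc_2_0 lc_a_rc_3_2 lc_a_rc_4_2 lc_a_rc_2_2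 lc_a_rc_2_2 lc_a_rc_3_2 lc_a_rc_3_2 lc_a_Cert_tree lc_a_Cert_tree) (@D3.rec (fun _ => (Cert rels S Gen.a)) lc_a_rc_4_2 lc_a_rc_3_0 lc_a_rc_3_2 lc_a_rc_3_2 lc_a_rc_4_2 lc_a_rc_21_0 lc_a_rc_2_2 lc_a_rc_4_2 lc_a_rc_21_0 lc_a_rc_3_2 lc_a_rc_3_2 lc_a_rc_5_2 lc_a_rc_1_0 lc_a_rc_3_2 lc_a_rc_3_2 lc_a_rc_4_2 lc_a_rc_3_2 lc_a_rc_3_2 lc_a_rc_2_2 lc_a_rc_4_2 lc_a_rc_4_2 lc_a_rc_5_0 lc_a_rc_5_2 lc_a_rc_0_1 lc_a_rc_2_2 lc_a_rc_3_2 lc_a_rc_3_0 lc_a_rc_5_2 lc_a_rc_0_1 lc_a_rc_2_2 lc_a_rc_4_2 lc_a_rc_1_0 lc_a_rc_0_1 lc_a_rc_3_2 lc_a_rc_4_0 lc_a_rc_2_2 lc_a_rc_1_4 lc_a_rc_4_2 lc_a_rc_21_0 lc_a_rc_5_2 lc_a_rc_3_2 lc_a_rc_2_2 lc_a_rc_3_2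 lc_a_rc_4_2 lc_a_rc_4_2 lc_a_rc_21_0 lc_a_rc_4_2 lc_a_rc_5_2 lc_a_rc_0_1 lc_a_rc_1_4 lc_a_rc_3_2 lc_a_rc_4_2 lc_a_Cert_tree lc_a_rc_21_0 lc_a_rc_4_2 lc_a_rc_21_0 lc_a_rc_2_2 lc_a_rc_5_2 lc_a_rc_3_2 lc_a_rc_2_2 lc_a_rc_21_0 lc_a_rc_4_2) (@D3.rec (fun _ => (Cert rels S Gen.a)) lc_a_Cert_tree lc_a_rc_4_2 lc_a_rc_3_2 lc_a_rc_2_2 lc_a_rc_4_2 lc_a_rc_1_4 lc_a_rc_3_2 lc_a_Cert_tree lc_a_rc_3_2 lc_a_rc_3_0 lc_a_Cert_tree lc_a_rc_5_0 lc_a_rc_5_0 lc_a_rc_3_2 lc_a_rc_2_2 lc_a_rc_3_2 lc_a_rc_2_2 lc_a_rc_5_2 lc_a_rc_5_0 lc_a_rc_0_1 lc_a_rc_3_2 lc_a_rc_2_2 lc_a_rc_22_0 lc_a_rc_2_2 lc_a_rc_4_2 lc_a_rc_1_2 lc_a_rc_4_2 lc_a_rc_3_2 lc_a_rc_3_2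 lc_a_rc_0_1 lc_a_rc_21_0 lc_a_rc_4_2 lc_a_rc_3_2 lc_a_rc_3_2 lc_a_rc_2_2 lc_a_rc_2_2 lc_a_rc_3_2 lc_a_rc_5_2 lc_a_rc_3_0 lc_a_rc_3_2 lc_a_rc_1_4 lc_a_rc_3_2 lc_a_rc_3_2 lc_a_rc_2_2 lc_a_rc_5_0 lc_a_rc_21_0 lc_a_Cert_tree lc_a_rc_3_2 lc_a_rc_0_1 lc_a_rc_5_0 lc_a_rc_3_2 lc_a_rc_2_2 lc_a_rc_5_2 lc_a_rc_3_0 lc_a_rc_3_2 lc_a_rc_4_2 lc_a_rc_3_2 lc_a_rc_4_2 lc_a_rc_4_2 lc_a_rc_4_0 lc_a_rc_3_2 lc_a_rc_3_0) (@D3.rec (fun _ => (Cert rels S Gen.a)) lc_a_rc_3_2 lc_a_rc_0_1 lc_a_rc_1_2 lc_a_rc_3_2 lc_a_rc_2_2 lc_a_rc_1_2 lc_a_rc_3_2 lc_a_rc_1_2 lc_a_rc_21_0 lc_a_rc_3_2 lc_a_rc_2_2 lc_a_Cert_tree lc_a_rc_3_2 lc_a_rc_3_2 lc_a_rc_3_2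 lc_a_rc_0_1 lc_a_rc_21_0 lc_a_rc_5_2 lc_a_rc_1_2 lc_a_rc_4_2 lc_a_rc_4_2 lc_a_rc_4_2 lc_a_rc_4_2 lc_a_Cert_tree lc_a_rc_5_0 lc_a_rc_3_2 lc_a_rc_2_2 lc_a_rc_1_4 lc_a_rc_3_2 lc_a_rc_0_1 lc_a_rc_3_2 lc_a_rc_2_0 lc_a_Cert_tree lc_a_rc_2_2 lc_a_rc_5_2 lc_a_rc_4_2 lc_a_rc_1_4 lc_a_rc_21_0 lc_a_rc_2_2 lc_a_rc_3_2 lc_a_rc_0_1 lc_a_rc_5_0 lc_a_rc_3_2 lc_a_rc_5_2 lc_a_rc_0_1 lc_a_rc_3_2 lc_a_rc_5_2 lc_a_Cert_tree lc_a_rc_2_2 lc_a_rc_1_4 lc_a_rc_3_2 lc_a_rc_4_2 lc_a_rc_4_2 lc_a_rc_3_2 lc_a_rc_5_2 lc_a_rc_2_2 lc_a_rc_2_2 lc_a_rc_4_2 lc_a_rc_2_2 lc_a_rc_3_2 lc_a_rc_3_2 lc_a_rc_2_2) (@D3.rec (fun _ => (Cert rels S Gen.a)) lc_a_rc_5_2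 lc_a_rc_2_2 lc_a_rc_4_2 lc_a_rc_1_4 lc_a_rc_4_2 lc_a_rc_2_0 lc_a_rc_3_2 lc_a_rc_4_0 lc_a_rc_4_2 lc_a_rc_3_2 lc_a_rc_4_2 lc_a_rc_3_2 lc_a_rc_2_2 lc_a_rc_4_2 lc_a_rc_3_2 lc_a_Cert_tree lc_a_rc_3_0 lc_a_rc_2_0 lc_a_rc_1_4 lc_a_rc_4_0 lc_a_rc_2_0 lc_a_rc_3_2 lc_a_rc_3_2 lc_a_rc_2_2 lc_a_rc_1_2 lc_a_rc_0_1 lc_a_rc_0_1 lc_a_rc_3_2 lc_a_rc_4_2 lc_a_rc_0_1 lc_a_rc_4_2 lc_a_rc_3_2 lc_a_rc_5_2 lc_a_rc_5_2 lc_a_rc_0_1 lc_a_rc_2_2 lc_a_rc_21_0 lc_a_Cert_tree lc_a_rc_0_1 lc_a_rc_3_2 lc_a_Cert_tree lc_a_rc_3_0 lc_a_rc_3_2 lc_a_rc_3_0 lc_a_rc_1_0 lc_a_rc_3_0 lc_a_rc_5_0 lc_a_rc_2_2 lc_a_rc_0_1 lc_a_rc_2_2 lc_a_rc_3_2 lc_a_rc_3_2 lc_a_rc_5_2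 lc_a_rc_21_0 lc_a_rc_0_1 lc_a_rc_3_2 lc_a_rc_1_4 lc_a_rc_22_0 lc_a_rc_4_2 lc_a_rc_2_2 lc_a_rc_4_2 lc_a_rc_5_0) (@D3.rec (fun _ => (Cert rels S Gen.a)) lc_a_rc_3_2 lc_a_rc_4_2 lc_a_rc_21_0 lc_a_rc_2_2 lc_a_rc_4_2 lc_a_rc_1_2 lc_a_rc_0_1 lc_a_rc_4_2 lc_a_rc_0_1 lc_a_rc_2_2 lc_a_Cert_tree lc_a_rc_3_2 lc_a_rc_5_2 lc_a_rc_4_2 lc_a_rc_3_2 lc_a_rc_4_2 lc_a_rc_0_1 lc_a_rc_2_2 lc_a_rc_4_2 lc_a_rc_4_2 lc_a_rc_4_2 lc_a_rc_3_2 lc_a_rc_1_4 lc_a_rc_3_2 lc_a_rc_4_2 lc_a_rc_2_2 lc_a_rc_1_2 lc_a_rc_2_2 lc_a_rc_1_4 lc_a_rc_2_2 lc_a_rc_21_0 lc_a_rc_2_0 lc_a_rc_1_2 lc_a_rc_4_2 lc_a_rc_4_2 lc_a_rc_3_2 lc_a_rc_5_2 lc_a_Cert_tree lc_a_rc_4_2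 lc_a_rc_22_0 lc_a_rc_4_2 lc_a_rc_2_0 lc_a_rc_1_0 lc_a_rc_0_1 lc_a_rc_2_2 lc_a_rc_2_2 lc_a_rc_4_2 lc_a_rc_0_1 lc_a_rc_0_1 lc_a_rc_3_2 lc_a_rc_4_2 lc_a_rc_4_2 lc_a_rc_3_2 lc_a_rc_3_2 lc_a_rc_0_1 lc_a_rc_21_0 lc_a_rc_2_2 lc_a_rc_3_0 lc_a_rc_0_1 lc_a_rc_4_2 lc_a_Cert_tree lc_a_rc_4_2) (@D3.rec (fun _ => (Cert rels S Gen.a)) lc_a_Cert_tree lc_a_rc_4_2 lc_a_rc_4_2 lc_a_rc_2_2 lc_a_rc_5_2 lc_a_rc_0_1 lc_a_rc_5_2 lc_a_rc_3_2 lc_a_rc_3_2 lc_a_rc_4_2 lc_a_rc_3_2 lc_a_rc_21_0 lc_a_rc_2_2 lc_a_rc_0_1 lc_a_rc_3_0 lc_a_rc_4_2 lc_a_rc_5_0 lc_a_rc_3_2 lc_a_rc_3_2 lc_a_rc_5_2 lc_a_rc_3_2 lc_a_rc_0_1 lc_a_rc_3_2 lc_a_rc_2_2 lc_a_rc_3_2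 lc_a_rc_3_2 lc_a_rc_4_2 lc_a_rc_3_2 lc_a_rc_3_2 lc_a_rc_3_2 lc_a_rc_3_0 lc_a_rc_3_0 lc_a_rc_2_2 lc_a_rc_5_2 lc_a_rc_2_2 lc_a_rc_4_2 lc_a_rc_3_0 lc_a_rc_4_2 lc_a_rc_4_2 lc_a_rc_3_2 lc_a_rc_4_2 lc_a_rc_3_2 lc_a_rc_21_0 lc_a_rc_0_1 lc_a_rc_3_2 lc_a_rc_5_2 lc_a_rc_2_2 lc_a_rc_3_2 lc_a_rc_4_2 lc_a_rc_2_2 lc_a_rc_3_2 lc_a_rc_5_0 lc_a_rc_3_2 lc_a_rc_0_1 lc_a_rc_5_2 lc_a_rc_1_2 lc_a_rc_4_2 lc_a_Cert_tree lc_a_rc_21_0 lc_a_rc_4_2 lc_a_rc_3_2 lc_a_rc_3_2) (@D3.rec (fun _ => (Cert rels S Gen.a)) lc_a_rc_1_2 lc_a_rc_5_0 lc_a_rc_3_0 lc_a_rc_2_2 lc_a_Cert_tree lc_a_rc_4_2 lc_a_rc_1_2 lc_a_rc_3_2 lc_a_rc_2_2 lc_a_rc_1_4 lc_a_rc_3_2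 lc_a_rc_4_2 lc_a_rc_1_2 lc_a_rc_3_2 lc_a_rc_4_2 lc_a_rc_3_2 lc_a_rc_3_2 lc_a_rc_2_0 lc_a_rc_3_0 lc_a_rc_1_0 lc_a_rc_0_1 lc_a_rc_3_2 lc_a_rc_4_2 lc_a_rc_3_2 lc_a_rc_2_2 lc_a_rc_3_2 lc_a_rc_3_2 lc_a_rc_2_2 lc_a_rc_4_2 lc_a_rc_0_1 lc_a_rc_21_0 lc_a_rc_0_1 lc_a_rc_3_2 lc_a_rc_5_2 lc_a_rc_1_4 lc_a_rc_3_2 lc_a_rc_21_0 lc_a_rc_21_0 lc_a_rc_0_1 lc_a_rc_1_4 lc_a_rc_1_2 lc_a_rc_2_2 lc_a_rc_5_2 lc_a_rc_3_2 lc_a_rc_4_2 lc_a_rc_2_0 lc_a_rc_3_2 lc_a_rc_21_0 lc_a_rc_3_0 lc_a_rc_5_0 lc_a_rc_0_1 lc_a_rc_2_2 lc_a_rc_3_2 lc_a_rc_2_0 lc_a_rc_22_0 lc_a_rc_4_2 lc_a_rc_3_2 lc_a_rc_21_0 lc_a_rc_22_0 lc_a_rc_4_2 lc_a_rc_0_1 lc_a_rc_0_1) (@D3.rec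 (fun _ => (Cert rels S Gen.a)) lc_a_rc_4_0 lc_a_rc_0_1 lc_a_rc_2_2 lc_a_rc_3_2 lc_a_rc_4_2 lc_a_rc_21_0 lc_a_rc_3_2 lc_a_rc_4_2 lc_a_rc_2_2 lc_a_rc_4_2 lc_a_rc_0_1 lc_a_rc_3_2 lc_a_rc_0_1 lc_a_rc_0_1 lc_a_rc_2_2 lc_a_rc_1_0 lc_a_Cert_tree lc_a_rc_2_2 lc_a_rc_4_2 lc_a_rc_2_0 lc_a_rc_21_0 lc_a_rc_3_2 lc_a_rc_5_2 lc_a_rc_3_2 lc_a_rc_3_2 lc_a_rc_3_0 lc_a_rc_21_0 lc_a_rc_2_2 lc_a_rc_4_2 lc_a_rc_0_1 lc_a_rc_21_0 lc_a_rc_3_0 lc_a_rc_3_2 lc_a_rc_21_0 lc_a_rc_4_2 lc_a_rc_0_1 lc_a_rc_5_2 lc_a_rc_0_1 lc_a_rc_3_2 lc_a_rc_2_2 lc_a_rc_3_2 lc_a_rc_21_0 lc_a_rc_3_2 lc_a_rc_2_2 lc_a_rc_0_1 lc_a_rc_3_2 lc_a_rc_2_2 lc_a_rc_4_2 lc_a_rc_3_2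 lc_a_Cert_tree lc_a_rc_4_2 lc_a_rc_3_2 lc_a_rc_3_2 lc_a_rc_3_2 lc_a_rc_5_2 lc_a_rc_2_2 lc_a_rc_0_1 lc_a_rc_2_2 lc_a_rc_4_2 lc_a_Cert_tree lc_a_rc_4_2 lc_a_rc_3_2) (@D3.rec (fun _ => (Cert rels S Gen.a)) lc_a_rc_2_0 lc_a_rc_5_2 lc_a_rc_0_1 lc_a_rc_2_2 lc_a_rc_4_2 lc_a_Cert_tree lc_a_rc_4_2 lc_a_rc_1_2 lc_a_rc_4_0 lc_a_rc_5_2 lc_a_rc_4_2 lc_a_rc_3_0 lc_a_rc_2_2 lc_a_rc_4_2 lc_a_rc_2_0 lc_a_rc_2_2 lc_a_rc_3_2 lc_a_Cert_tree lc_a_rc_4_2 lc_a_rc_5_0 lc_a_rc_3_2 lc_a_rc_5_2 lc_a_Cert_tree lc_a_rc_21_0 lc_a_rc_21_0 lc_a_rc_4_2 lc_a_rc_5_0 lc_a_rc_3_2 lc_a_rc_4_2 lc_a_rc_5_2 lc_a_rc_2_2 lc_a_rc_3_2 lc_a_rc_3_2 lc_a_rc_3_2 lc_a_rc_21_0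 lc_a_rc_4_2 lc_a_rc_3_2 lc_a_rc_3_2 lc_a_rc_4_2 lc_a_rc_5_0 lc_a_rc_3_2 lc_a_rc_5_2 lc_a_rc_2_2 lc_a_rc_21_0 lc_a_rc_4_2 lc_a_Cert_tree lc_a_rc_2_0 lc_a_rc_4_2 lc_a_rc_0_1 lc_a_rc_21_0 lc_a_rc_0_1 lc_a_rc_3_2 lc_a_rc_5_2 lc_a_rc_2_2 lc_a_rc_3_2 lc_a_rc_0_1 lc_a_rc_5_2 lc_a_rc_3_2 lc_a_rc_4_2 lc_a_rc_21_0 lc_a_rc_5_0 lc_a_rc_3_2) (@D3.rec (fun _ => (Cert rels S Gen.a)) lc_a_rc_5_2 lc_a_rc_1_4 lc_a_rc_3_2 lc_a_rc_0_1 lc_a_rc_5_2 lc_a_rc_2_2 lc_a_rc_2_2 lc_a_rc_4_2 lc_a_rc_3_2 lc_a_rc_4_2 lc_a_rc_2_2 lc_a_rc_21_0 lc_a_rc_3_2 lc_a_rc_2_2 lc_a_rc_2_0 lc_a_rc_22_0 lc_a_rc_4_2 lc_a_rc_21_0 lc_a_rc_5_0 lc_a_rc_2_0 lc_a_rc_3_0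 lc_a_rc_3_0 lc_a_rc_2_2 lc_a_rc_3_2 lc_a_rc_1_0 lc_a_rc_3_2 lc_a_rc_3_2 lc_a_rc_2_2 lc_a_rc_4_2 lc_a_rc_2_2 lc_a_rc_4_2 lc_a_rc_1_4 lc_a_rc_4_0 lc_a_rc_0_1 lc_a_rc_4_2 lc_a_rc_3_0 lc_a_rc_2_0 lc_a_rc_2_2 lc_a_rc_2_2 lc_a_Cert_tree lc_a_rc_3_2 lc_a_rc_22_0 lc_a_rc_0_1 lc_a_rc_3_2 lc_a_rc_4_2 lc_a_rc_0_1 lc_a_rc_4_2 lc_a_rc_3_2 lc_a_rc_0_1 lc_a_rc_2_2 lc_a_rc_4_2 lc_a_rc_4_2 lc_a_rc_0_1 lc_a_rc_2_2 lc_a_rc_0_1 lc_a_rc_21_0 lc_a_rc_3_2 lc_a_rc_4_2 lc_a_rc_1_4 lc_a_rc_3_2 lc_a_rc_21_0 lc_a_rc_2_2) (@D3.rec (fun _ => (Cert rels S Gen.a)) lc_a_rc_0_1 lc_a_rc_2_0 lc_a_rc_3_2 lc_a_rc_3_2 lc_a_rc_3_0 lc_a_rc_2_2 lc_a_rc_4_2 lc_a_rc_1_4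 lc_a_rc_2_2 lc_a_rc_3_2 lc_a_rc_21_0 lc_a_rc_0_1 lc_a_Cert_tree lc_a_rc_2_2 lc_a_rc_5_2 lc_a_rc_4_2 lc_a_rc_3_2 lc_a_rc_3_2 lc_a_rc_21_0 lc_a_rc_4_2 lc_a_rc_2_2 lc_a_rc_2_2 lc_a_rc_2_2 lc_a_rc_5_0 lc_a_rc_4_2 lc_a_rc_3_2 lc_a_rc_2_2 lc_a_rc_5_2 lc_a_rc_3_2 lc_a_rc_4_2 lc_a_rc_2_0 lc_a_rc_2_2 lc_a_rc_4_2 lc_a_rc_21_0 lc_a_rc_4_2 lc_a_rc_4_2 lc_a_rc_5_0 lc_a_rc_3_2 lc_a_rc_5_2 lc_a_rc_0_1 lc_a_rc_0_1 lc_a_rc_4_2 lc_a_rc_4_2 lc_a_rc_21_0 lc_a_rc_2_2 lc_a_rc_4_2 lc_a_rc_5_2 lc_a_rc_0_1 lc_a_rc_4_2 lc_a_rc_4_2 lc_a_rc_3_0 lc_a_rc_2_2 lc_a_rc_5_2 lc_a_rc_21_0 lc_a_rc_5_0 lc_a_rc_5_0 lc_a_Cert_tree lc_a_rc_3_2 lc_a_rc_2_2 lc_a_rc_1_4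 lc_a_rc_0_1 lc_a_rc_0_1) (@D3.rec (fun _ => (Cert rels S Gen.a)) lc_a_rc_21_0 lc_a_rc_2_2 lc_a_rc_2_2 lc_a_rc_3_2 lc_a_rc_3_2 lc_a_rc_21_0 lc_a_rc_2_2 lc_a_rc_4_2 lc_a_rc_5_0 lc_a_rc_3_2 lc_a_rc_5_2 lc_a_rc_4_2 lc_a_rc_1_4 lc_a_rc_1_4 lc_a_rc_3_0 lc_a_rc_2_0 lc_a_rc_0_1 lc_a_rc_4_2 lc_a_rc_5_0 lc_a_rc_0_1 lc_a_rc_3_0 lc_a_rc_3_0 lc_a_rc_0_1 lc_a_rc_5_0 lc_a_rc_5_2 lc_a_rc_3_2 lc_a_rc_21_0 lc_a_rc_2_2 lc_a_rc_3_2 lc_a_rc_4_0 lc_a_rc_5_2 lc_a_rc_1_4 lc_a_rc_4_2 lc_a_rc_3_2 lc_a_rc_5_2 lc_a_rc_3_0 lc_a_rc_4_2 lc_a_rc_4_2 lc_a_rc_4_2 lc_a_rc_5_0 lc_a_rc_0_1 lc_a_rc_3_2 lc_a_rc_0_1 lc_a_rc_2_2 lc_a_rc_3_2 lc_a_rc_21_0 lc_a_rc_3_2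 lc_a_rc_2_0 lc_a_rc_21_0 lc_a_rc_2_2 lc_a_rc_5_2 lc_a_rc_4_2 lc_a_rc_3_2 lc_a_rc_2_2 lc_a_rc_3_0 lc_a_rc_3_0 lc_a_rc_3_2 lc_a_rc_0_1 lc_a_rc_3_2 lc_a_rc_5_2 lc_a_rc_21_0 lc_a_rc_3_2) (@D3.rec (fun _ => (Cert rels S Gen.a)) lc_a_rc_2_2 lc_a_rc_3_2 lc_a_rc_4_2 lc_a_rc_2_0 lc_a_rc_2_2 lc_a_rc_5_2 lc_a_rc_1_2 lc_a_rc_5_0 lc_a_rc_21_0 lc_a_rc_1_2 lc_a_rc_3_2 lc_a_rc_4_0 lc_a_rc_1_2 lc_a_rc_3_2 lc_a_rc_4_2 lc_a_rc_3_0 lc_a_rc_5_2 lc_a_rc_4_2 lc_a_rc_2_2 lc_a_rc_3_2 lc_a_rc_1_4 lc_a_rc_3_2 lc_a_rc_4_2 lc_a_rc_3_0 lc_a_rc_0_1 lc_a_rc_3_0 lc_a_rc_4_0 lc_a_rc_5_0 lc_a_rc_3_2 lc_a_rc_4_2 lc_a_rc_1_2 lc_a_rc_2_2 lc_a_rc_0_1 lc_a_rc_5_0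 lc_a_rc_3_2 lc_a_rc_4_2 lc_a_rc_3_2 lc_a_rc_4_2 lc_a_rc_2_2 lc_a_rc_4_2 lc_a_rc_3_2 lc_a_rc_21_0 lc_a_rc_4_2 lc_a_rc_3_2 lc_a_rc_3_0 lc_a_rc_4_2 lc_a_rc_5_0 lc_a_rc_3_2 lc_a_rc_2_2 lc_a_rc_2_2 lc_a_rc_3_2 lc_a_rc_4_2 lc_a_rc_4_2 lc_a_rc_2_2 lc_a_rc_3_2 lc_a_rc_5_2 lc_a_rc_21_0 lc_a_rc_21_0 lc_a_rc_3_2 lc_a_rc_4_2 lc_a_rc_0_1 lc_a_rc_2_2) (@D3.rec (fun _ => (Cert rels S Gen.a)) lc_a_rc_22_0 lc_a_rc_3_2 lc_a_rc_0_1 lc_a_rc_2_2 lc_a_rc_4_2 lc_a_rc_4_2 lc_a_rc_3_2 lc_a_rc_2_2 lc_a_rc_4_2 lc_a_rc_0_1 lc_a_rc_4_2 lc_a_rc_5_2 lc_a_rc_4_2 lc_a_rc_3_0 lc_a_rc_4_2 lc_a_rc_2_2 lc_a_rc_2_2 lc_a_rc_4_2 lc_a_rc_3_2 lc_a_rc_5_2 lc_a_rc_5_2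 lc_a_rc_2_2 lc_a_rc_4_2 lc_a_rc_3_2 lc_a_rc_21_0 lc_a_Cert_tree lc_a_rc_4_2 lc_a_Cert_tree lc_a_rc_4_2 lc_a_Cert_tree lc_a_rc_5_2 lc_a_rc_0_1 lc_a_rc_0_1 lc_a_rc_4_2 lc_a_rc_2_0 lc_a_rc_2_0 lc_a_rc_3_2 lc_a_rc_2_2 lc_a_rc_4_2 lc_a_rc_21_0 lc_a_rc_3_2 lc_a_rc_3_2 lc_a_rc_2_2 lc_a_rc_3_2 lc_a_rc_3_0 lc_a_rc_2_2 lc_a_rc_3_2 lc_a_rc_3_2 lc_a_rc_3_2 lc_a_rc_3_2 lc_a_rc_5_0 lc_a_rc_3_2 lc_a_rc_2_2 lc_a_rc_5_2 lc_a_rc_3_2 lc_a_rc_5_2 lc_a_rc_3_2 lc_a_rc_3_2 lc_a_rc_2_2 lc_a_rc_3_2 lc_a_rc_5_2 lc_a_rc_1_2) (@D3.rec (fun _ => (Cert rels S Gen.a)) lc_a_rc_3_2 lc_a_rc_2_2 lc_a_rc_5_2 lc_a_rc_4_2 lc_a_rc_21_0 lc_a_rc_0_1 lc_a_rc_2_2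 lc_a_rc_5_2 lc_a_rc_3_2 lc_a_rc_3_2 lc_a_rc_2_2 lc_a_rc_4_2 lc_a_rc_0_1 lc_a_rc_3_2 lc_a_rc_4_2 lc_a_rc_2_2 lc_a_rc_4_2 lc_a_rc_21_0 lc_a_rc_5_0 lc_a_rc_5_0 lc_a_rc_4_2 lc_a_rc_2_2 lc_a_rc_2_2 lc_a_rc_4_2 lc_a_rc_4_2 lc_a_rc_2_2 lc_a_rc_2_2 lc_a_Cert_tree lc_a_rc_3_2 lc_a_rc_5_2 lc_a_rc_4_2 lc_a_rc_3_2 lc_a_rc_1_0 lc_a_rc_2_2 lc_a_rc_4_2 lc_a_rc_21_0 lc_a_Cert_tree lc_a_rc_21_0 lc_a_rc_1_2 lc_a_rc_1_4 lc_a_rc_2_2 lc_a_rc_0_1 lc_a_rc_21_0 lc_a_rc_1_0 lc_a_rc_4_2 lc_a_rc_1_4 lc_a_rc_0_1 lc_a_rc_2_2 lc_a_rc_2_2 lc_a_rc_3_0 lc_a_rc_3_0 lc_a_rc_5_2 lc_a_rc_3_2 lc_a_rc_3_2 lc_a_rc_4_2 lc_a_rc_5_2 lc_a_rc_2_2 lc_a_rc_3_2 lc_a_rc_0_1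 lc_a_rc_21_0 lc_a_rc_5_2 lc_a_rc_4_2) (@D3.rec (fun _ => (Cert rels S Gen.a)) lc_a_rc_4_2 lc_a_Cert_tree lc_a_rc_0_1 lc_a_rc_0_1 lc_a_rc_21_0 lc_a_rc_4_2 lc_a_rc_2_0 lc_a_rc_2_0 lc_a_rc_0_1 lc_a_rc_4_2 lc_a_rc_2_0 lc_a_rc_3_2 lc_a_rc_21_0 lc_a_rc_3_2 lc_a_rc_4_2 lc_a_rc_21_0 lc_a_rc_0_1 lc_a_rc_3_2 lc_a_rc_5_2 lc_a_rc_0_1 lc_a_rc_1_4 lc_a_rc_4_2 lc_a_rc_3_0 lc_a_rc_3_2 lc_a_rc_4_2 lc_a_rc_21_0 lc_a_rc_3_2 lc_a_rc_2_2 lc_a_rc_3_2 lc_a_rc_2_2 lc_a_rc_3_2 lc_a_rc_2_2 lc_a_rc_4_2 lc_a_rc_1_2 lc_a_rc_3_2 lc_a_rc_3_2 lc_a_rc_1_4 lc_a_rc_4_2 lc_a_rc_2_2 lc_a_rc_3_2 lc_a_rc_4_2 lc_a_rc_0_1 lc_a_rc_2_2 lc_a_rc_4_2 lc_a_rc_21_0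 lc_a_rc_5_2 lc_a_rc_4_2 lc_a_rc_0_1 lc_a_rc_2_2 lc_a_rc_3_2 lc_a_rc_2_2 lc_a_rc_0_1 lc_a_rc_0_1 lc_a_rc_5_2 lc_a_rc_4_2 lc_a_rc_0_1 lc_a_rc_4_2 lc_a_rc_1_2 lc_a_rc_1_2 lc_a_rc_3_2 lc_a_rc_21_0 lc_a_rc_3_2) (@D3.rec (fun _ => (Cert rels S Gen.a)) lc_a_rc_0_1 lc_a_rc_1_4 lc_a_rc_2_2 lc_a_rc_1_2 lc_a_rc_3_2 lc_a_rc_3_2 lc_a_rc_4_2 lc_a_rc_4_2 lc_a_rc_1_0 lc_a_rc_3_0 lc_a_rc_3_2 lc_a_rc_1_2 lc_a_rc_4_0 lc_a_rc_3_0 lc_a_rc_0_1 lc_a_rc_5_2 lc_a_rc_4_0 lc_a_rc_0_1 lc_a_rc_4_0 lc_a_rc_0_1 lc_a_rc_5_2 lc_a_rc_1_4 lc_a_rc_3_2 lc_a_rc_3_0 lc_a_rc_3_0 lc_a_rc_2_2 lc_a_rc_3_2 lc_a_rc_3_0 lc_a_rc_3_2 lc_a_rc_21_0 lc_a_rc_3_2 lc_a_rc_3_2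 lc_a_rc_4_2 lc_a_rc_3_2 lc_a_rc_3_2 lc_a_Cert_tree lc_a_rc_2_2 lc_a_rc_4_2 lc_a_rc_2_0 lc_a_rc_2_0 lc_a_Cert_tree lc_a_rc_2_2 lc_a_rc_5_2 lc_a_rc_21_0 lc_a_rc_2_2 lc_a_rc_3_2 lc_a_rc_3_2 lc_a_rc_4_2 lc_a_rc_3_2 lc_a_rc_2_2 lc_a_rc_21_0 lc_a_rc_2_2 lc_a_rc_1_2 lc_a_rc_2_2 lc_a_rc_4_2 lc_a_rc_5_2 lc_a_rc_4_2 lc_a_rc_2_0 lc_a_rc_0_1 lc_a_Cert_tree lc_a_rc_4_2 lc_a_rc_3_2) (@D3.rec (fun _ => (Cert rels S Gen.a)) lc_a_rc_1_0 lc_a_rc_3_2 lc_a_rc_5_2 lc_a_rc_2_2 lc_a_rc_3_2 lc_a_rc_3_2 lc_a_rc_22_0 lc_a_rc_3_2 lc_a_rc_0_1 lc_a_rc_1_4 lc_a_Cert_tree lc_a_rc_3_2 lc_a_rc_22_0 lc_a_rc_0_1 lc_a_rc_2_2 lc_a_rc_4_2 lc_a_rc_0_1 lc_a_Cert_tree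 lc_a_rc_2_0 lc_a_rc_4_2 lc_a_rc_21_0 lc_a_rc_1_0 lc_a_rc_4_2 lc_a_rc_0_1 lc_a_rc_2_2 lc_a_rc_4_2 lc_a_Cert_tree lc_a_rc_2_2 lc_a_rc_2_2 lc_a_rc_1_2 lc_a_rc_1_0 lc_a_rc_5_2 lc_a_rc_5_0 lc_a_rc_3_2 lc_a_rc_4_2 lc_a_Cert_tree lc_a_rc_3_2 lc_a_rc_4_2 lc_a_Cert_tree lc_a_rc_0_1 lc_a_rc_0_1 lc_a_rc_3_2 lc_a_rc_21_0 lc_a_rc_1_0 lc_a_rc_5_2 lc_a_rc_2_2 lc_a_rc_3_2 lc_a_rc_0_1 lc_a_rc_3_2 lc_a_rc_5_2 lc_a_rc_0_1 lc_a_rc_0_1 lc_a_rc_4_2 lc_a_rc_21_0 lc_a_rc_2_0 lc_a_rc_3_2 lc_a_rc_0_1 lc_a_rc_3_2 lc_a_rc_22_0 lc_a_rc_1_4 lc_a_rc_2_2 lc_a_rc_3_2) (@D3.rec (fun _ => (Cert rels S Gen.a)) lc_a_rc_4_0 lc_a_rc_3_2 lc_a_rc_2_2 lc_a_rc_5_2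 lc_a_rc_0_1 lc_a_rc_3_2 lc_a_rc_3_2 lc_a_rc_3_2 lc_a_rc_3_2 lc_a_rc_4_0 lc_a_rc_0_1 lc_a_rc_4_0 lc_a_rc_2_0 lc_a_rc_4_0 lc_a_rc_0_1 lc_a_rc_3_2 lc_a_rc_2_2 lc_a_rc_2_2 lc_a_Cert_tree lc_a_rc_22_0 lc_a_rc_5_2 lc_a_rc_2_0 lc_a_rc_0_1 lc_a_rc_3_2 lc_a_rc_2_2 lc_a_rc_3_2 lc_a_rc_21_0 lc_a_rc_2_0 lc_a_rc_3_2 lc_a_rc_4_2 lc_a_rc_5_0 lc_a_Cert_tree lc_a_rc_2_2 lc_a_rc_3_2 lc_a_rc_0_1 lc_a_rc_5_2 lc_a_rc_2_2 lc_a_rc_4_2 lc_a_rc_1_0 lc_a_rc_2_2 lc_a_rc_21_0 lc_a_rc_3_2 lc_a_rc_4_2 lc_a_rc_1_2 lc_a_rc_3_2 lc_a_rc_2_2 lc_a_rc_2_2 lc_a_rc_2_0 lc_a_rc_1_4 lc_a_rc_2_2 lc_a_rc_0_1 lc_a_rc_3_2 lc_a_rc_5_2 lc_a_rc_21_0 lc_a_rc_2_2 lc_a_rc_3_2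 lc_a_rc_5_2 lc_a_rc_0_1 lc_a_rc_1_0 lc_a_rc_3_2 lc_a_rc_4_2 lc_a_rc_21_0) (@D3.rec (fun _ => (Cert rels S Gen.a)) lc_a_rc_3_2 lc_a_rc_0_1 lc_a_rc_2_2 lc_a_rc_5_2 lc_a_rc_3_2 lc_a_rc_5_2 lc_a_rc_21_0 lc_a_rc_2_2 lc_a_rc_21_0 lc_a_rc_3_2 lc_a_rc_2_2 lc_a_rc_4_2 lc_a_rc_2_2 lc_a_rc_4_2 lc_a_rc_2_2 lc_a_rc_2_2 lc_a_rc_5_0 lc_a_Cert_tree lc_a_rc_22_0 lc_a_rc_22_0 lc_a_rc_4_2 lc_a_rc_3_2 lc_a_rc_4_2 lc_a_rc_0_1 lc_a_rc_22_0 lc_a_rc_2_2 lc_a_rc_3_2 lc_a_rc_2_2 lc_a_rc_4_2 lc_a_rc_1_0 lc_a_rc_1_0 lc_a_rc_3_2 lc_a_rc_5_2 lc_a_rc_3_2 lc_a_rc_2_2 lc_a_rc_1_4 lc_a_rc_1_4 lc_a_rc_1_4 lc_a_rc_21_0 lc_a_rc_2_2 lc_a_rc_4_0 lc_a_rc_4_0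 lc_a_rc_21_0 lc_a_rc_1_2 lc_a_rc_2_2 lc_a_rc_1_0 lc_a_rc_2_2 lc_a_rc_3_2 lc_a_Cert_tree lc_a_rc_3_2 lc_a_rc_3_0 lc_a_rc_3_2 lc_a_rc_3_2 lc_a_rc_4_2 lc_a_rc_5_2 lc_a_rc_4_2 lc_a_rc_2_2 lc_a_rc_3_2 lc_a_rc_4_2 lc_a_rc_0_1 lc_a_rc_21_0 lc_a_rc_2_2) (@D3.rec (fun _ => (Cert rels S Gen.a)) lc_a_rc_3_2 lc_a_rc_5_2 lc_a_rc_2_2 lc_a_rc_4_2 lc_a_rc_3_2 lc_a_rc_0_1 lc_a_rc_3_2 lc_a_rc_4_2 lc_a_rc_5_0 lc_a_rc_3_2 lc_a_rc_4_2 lc_a_rc_2_2 lc_a_rc_21_0 lc_a_rc_0_1 lc_a_rc_2_2 lc_a_rc_3_2 lc_a_rc_4_2 lc_a_rc_2_2 lc_a_rc_0_1 lc_a_Cert_tree lc_a_rc_3_2 lc_a_rc_4_2 lc_a_rc_0_1 lc_a_rc_3_2 lc_a_rc_4_0 lc_a_rc_5_2 lc_a_rc_2_0 lc_a_rc_3_2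 lc_a_rc_3_0 lc_a_rc_21_0 lc_a_rc_3_2 lc_a_rc_3_2 lc_a_rc_5_2 lc_a_Cert_tree lc_a_rc_21_0 lc_a_rc_4_2 lc_a_rc_3_0 lc_a_rc_3_2 lc_a_rc_4_2 lc_a_rc_3_0 lc_a_rc_3_0 lc_a_rc_0_1 lc_a_rc_3_2 lc_a_rc_21_0 lc_a_rc_0_1 lc_a_rc_2_2 lc_a_rc_4_2 lc_a_rc_22_0 lc_a_rc_4_2 lc_a_rc_4_2 lc_a_rc_5_2 lc_a_rc_3_2 lc_a_rc_4_0 lc_a_rc_3_2 lc_a_Cert_tree lc_a_rc_2_2 lc_a_rc_3_2 lc_a_rc_3_2 lc_a_rc_21_0 lc_a_rc_22_0 lc_a_rc_2_2 lc_a_rc_4_2) (@D3.rec (fun _ => (Cert rels S Gen.a)) lc_a_rc_2_2 lc_a_rc_3_0 lc_a_rc_2_2 lc_a_rc_4_2 lc_a_rc_3_0 lc_a_rc_21_0 lc_a_rc_4_2 lc_a_rc_2_2 lc_a_rc_2_0 lc_a_Cert_tree lc_a_rc_3_2 lc_a_rc_0_1 lc_a_rc_3_2 lc_a_rc_5_2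 lc_a_rc_0_1 lc_a_rc_2_2 lc_a_rc_2_2 lc_a_rc_3_2 lc_a_rc_4_2 lc_a_Cert_tree lc_a_rc_2_2 lc_a_rc_4_2 lc_a_rc_1_2 lc_a_rc_5_0 lc_a_rc_2_2 lc_a_rc_3_0 lc_a_rc_2_2 lc_a_rc_3_2 lc_a_rc_0_1 lc_a_rc_21_0 lc_a_rc_2_2 lc_a_rc_0_1 lc_a_rc_4_0 lc_a_rc_0_1 lc_a_rc_22_0 lc_a_Cert_tree lc_a_rc_5_0 lc_a_rc_4_2 lc_a_Cert_tree lc_a_rc_4_2 lc_a_rc_3_0 lc_a_rc_4_2 lc_a_rc_3_2 lc_a_rc_3_2 lc_a_rc_0_1 lc_a_rc_4_2 lc_a_rc_4_2 lc_a_rc_2_2 lc_a_rc_2_2 lc_a_rc_5_0 lc_a_rc_2_2 lc_a_rc_4_2 lc_a_rc_4_2 lc_a_rc_2_0 lc_a_rc_4_0 lc_a_rc_4_2 lc_a_rc_5_2 lc_a_rc_2_0 lc_a_rc_3_0 lc_a_rc_3_2 lc_a_rc_5_2 lc_a_rc_5_0) (@D3.rec (fun _ => (Cert rels S Gen.a))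 lc_a_rc_3_2 lc_a_rc_21_0 lc_a_rc_0_1 lc_a_rc_2_2 lc_a_rc_4_2 lc_a_rc_2_2 lc_a_Cert_tree lc_a_rc_3_2 lc_a_rc_3_0 lc_a_rc_3_2 lc_a_rc_4_2 lc_a_rc_5_2 lc_a_rc_3_2 lc_a_rc_3_0 lc_a_rc_3_2 lc_a_rc_3_0 lc_a_rc_21_0 lc_a_rc_3_2 lc_a_rc_5_2 lc_a_rc_4_2 lc_a_rc_3_0 lc_a_rc_5_0 lc_a_rc_3_0 lc_a_rc_4_2 lc_a_rc_21_0 lc_a_rc_5_0 lc_a_rc_4_2 lc_a_rc_5_2 lc_a_rc_3_2 lc_a_rc_4_2 lc_a_rc_2_2 lc_a_rc_3_0 lc_a_rc_4_0 lc_a_rc_3_2 lc_a_rc_4_0 lc_a_rc_3_2 lc_a_rc_3_2 lc_a_rc_5_2 lc_a_rc_3_2 lc_a_rc_2_2 lc_a_rc_2_2 lc_a_rc_3_0 lc_a_rc_2_0 lc_a_rc_2_2 lc_a_rc_2_2 lc_a_rc_5_2 lc_a_rc_5_2 lc_a_rc_3_0 lc_a_rc_0_1 lc_a_rc_2_2 lc_a_rc_4_2 lc_a_rc_3_2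 lc_a_rc_5_2 lc_a_rc_4_0 lc_a_rc_0_1 lc_a_rc_2_2 lc_a_rc_4_2 lc_a_rc_3_2 lc_a_rc_5_2 lc_a_rc_0_1 lc_a_rc_0_1 lc_a_rc_3_0) (@D3.rec (fun _ => (Cert rels S Gen.a)) lc_a_rc_2_2 lc_a_rc_0_1 lc_a_rc_4_2 lc_a_rc_5_2 lc_a_rc_3_0 lc_a_rc_2_2 lc_a_rc_3_2 lc_a_rc_4_2 lc_a_rc_3_2 lc_a_rc_0_1 lc_a_rc_2_0 lc_a_rc_5_0 lc_a_rc_5_0 lc_a_rc_3_0 lc_a_rc_1_0 lc_a_rc_2_2 lc_a_rc_3_2 lc_a_rc_3_2 lc_a_rc_1_4 lc_a_rc_3_0 lc_a_rc_3_2 lc_a_rc_4_2 lc_a_rc_3_0 lc_a_rc_3_2 lc_a_rc_0_1 lc_a_rc_0_1 lc_a_rc_2_2 lc_a_Cert_tree lc_a_rc_21_0 lc_a_rc_3_2 lc_a_rc_2_2 lc_a_rc_3_2 lc_a_rc_3_2 lc_a_rc_1_4 lc_a_rc_2_2 lc_a_rc_4_2 lc_a_rc_3_0 lc_a_rc_0_1 lc_a_rc_2_2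 lc_a_rc_2_2 lc_a_rc_4_2 lc_a_rc_5_2 lc_a_rc_5_0 lc_a_rc_3_2 lc_a_rc_2_2 lc_a_rc_4_2 lc_a_rc_3_0 lc_a_rc_4_2 lc_a_rc_5_0 lc_a_rc_3_2 lc_a_rc_5_2 lc_a_rc_3_0 lc_a_rc_4_2 lc_a_rc_0_1 lc_a_rc_21_0 lc_a_rc_2_0 lc_a_rc_1_4 lc_a_rc_1_4 lc_a_rc_0_1 lc_a_rc_2_2 lc_a_rc_4_2 lc_a_rc_5_0) (@D3.rec (fun _ => (Cert rels S Gen.a)) lc_a_rc_5_2 lc_a_Cert_tree lc_a_rc_4_2 lc_a_Cert_tree lc_a_rc_3_2 lc_a_rc_2_2 lc_a_rc_21_0 lc_a_rc_3_0 lc_a_rc_0_1 lc_a_rc_3_2 lc_a_rc_4_2 lc_a_rc_2_2 lc_a_rc_3_2 lc_a_rc_3_2 lc_a_rc_4_2 lc_a_rc_5_0 lc_a_rc_3_2 lc_a_rc_2_2 lc_a_rc_4_2 lc_a_rc_5_0 lc_a_rc_1_2 lc_a_rc_2_2 lc_a_rc_4_2 lc_a_rc_5_0 lc_a_rc_0_1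 lc_a_rc_21_0 lc_a_rc_2_2 lc_a_rc_4_2 lc_a_rc_0_1 lc_a_rc_21_0 lc_a_rc_3_2 lc_a_rc_1_0 lc_a_rc_3_2 lc_a_rc_2_2 lc_a_rc_4_2 lc_a_rc_2_2 lc_a_rc_2_2 lc_a_rc_4_0 lc_a_rc_5_0 lc_a_rc_3_2 lc_a_rc_1_0 lc_a_rc_2_2 lc_a_rc_4_2 lc_a_rc_3_2 lc_a_rc_2_2 lc_a_rc_4_2 lc_a_rc_1_4 lc_a_rc_22_0 lc_a_rc_21_0 lc_a_rc_4_2 lc_a_rc_21_0 lc_a_rc_3_2 lc_a_Cert_tree lc_a_rc_3_2 lc_a_rc_4_2 lc_a_rc_3_2 lc_a_rc_3_2 lc_a_rc_1_4 lc_a_rc_3_2 lc_a_rc_4_2 lc_a_Cert_tree lc_a_rc_5_0) (@D3.rec (fun _ => (Cert rels S Gen.a)) lc_a_rc_2_2 lc_a_rc_0_1 lc_a_rc_2_2 lc_a_rc_4_2 lc_a_Cert_tree lc_a_rc_4_2 lc_a_rc_2_0 lc_a_rc_21_0 lc_a_rc_5_2 lc_a_rc_0_1 lc_a_rc_2_2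 lc_a_rc_3_2 lc_a_rc_4_2 lc_a_Cert_tree lc_a_rc_4_2 lc_a_rc_4_2 lc_a_rc_1_4 lc_a_rc_5_2 lc_a_rc_0_1 lc_a_rc_3_0 lc_a_rc_0_1 lc_a_rc_4_2 lc_a_rc_5_2 lc_a_Cert_tree lc_a_rc_0_1 lc_a_rc_2_2 lc_a_rc_3_2 lc_a_Cert_tree lc_a_rc_2_0 lc_a_rc_2_2 lc_a_rc_4_0 lc_a_rc_2_2 lc_a_rc_2_2 lc_a_rc_1_4 lc_a_rc_5_0 lc_a_rc_4_2 lc_a_rc_21_0 lc_a_rc_0_1 lc_a_rc_3_2 lc_a_rc_3_2 lc_a_rc_4_0 lc_a_rc_0_1 lc_a_rc_0_1 lc_a_rc_21_0 lc_a_rc_3_2 lc_a_rc_1_2 lc_a_rc_0_1 lc_a_rc_3_2 lc_a_rc_3_2 lc_a_rc_5_0 lc_a_rc_4_2 lc_a_rc_3_2 lc_a_rc_4_2 lc_a_rc_1_4 lc_a_rc_1_0 lc_a_rc_3_2 lc_a_rc_3_2 lc_a_rc_4_2 lc_a_rc_5_0 lc_a_rc_3_2 lc_a_rc_2_2 lc_a_rc_4_2) (@D3.rec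 (fun _ => (Cert rels S Gen.a)) lc_a_rc_4_2 lc_a_rc_0_1 lc_a_rc_21_0 lc_a_rc_4_2 lc_a_rc_21_0 lc_a_rc_4_2 lc_a_rc_1_4 lc_a_rc_4_2 lc_a_rc_0_1 lc_a_rc_5_2 lc_a_rc_4_0 lc_a_rc_21_0 lc_a_rc_0_1 lc_a_rc_1_0 lc_a_rc_3_2 lc_a_rc_2_2 lc_a_rc_4_2 lc_a_rc_3_2 lc_a_rc_2_2 lc_a_rc_3_2 lc_a_rc_3_2 lc_a_rc_2_2 lc_a_rc_4_2 lc_a_rc_2_0 lc_a_rc_2_0 lc_a_Cert_tree lc_a_rc_3_2 lc_a_rc_0_1 lc_a_rc_4_2 lc_a_rc_3_2 lc_a_rc_4_2 lc_a_rc_0_1 lc_a_rc_2_2 lc_a_rc_5_2 lc_a_rc_21_0 lc_a_rc_0_1 lc_a_rc_0_1 lc_a_rc_4_2 lc_a_rc_3_2 lc_a_rc_21_0 lc_a_rc_2_2 lc_a_rc_5_0 lc_a_rc_4_2 lc_a_rc_0_1 lc_a_rc_4_2 lc_a_rc_5_2 lc_a_rc_4_2 lc_a_rc_3_0 lc_a_rc_2_2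 lc_a_rc_5_2 lc_a_Cert_tree lc_a_rc_3_2 lc_a_rc_1_2 lc_a_rc_1_0 lc_a_rc_3_2 lc_a_rc_21_0 lc_a_rc_0_1 lc_a_rc_2_2 lc_a_rc_3_2 lc_a_rc_5_0 lc_a_rc_2_2 lc_a_rc_4_2) (@D3.rec (fun _ => (Cert rels S Gen.a)) lc_a_rc_3_2 lc_a_rc_0_1 lc_a_rc_2_2 lc_a_rc_3_2 lc_a_rc_21_0 lc_a_rc_5_2 lc_a_Cert_tree lc_a_rc_4_2 lc_a_rc_2_2 lc_a_rc_2_2 lc_a_rc_4_2 lc_a_rc_5_2 lc_a_rc_0_1 lc_a_rc_1_0 lc_a_rc_2_2 lc_a_rc_4_2 lc_a_Cert_tree lc_a_rc_4_2 lc_a_rc_21_0 lc_a_rc_0_1 lc_a_rc_5_2 lc_a_Cert_tree lc_a_rc_0_1 lc_a_rc_1_4 lc_a_rc_4_2 lc_a_rc_3_0 lc_a_rc_0_1 lc_a_rc_3_2 lc_a_Cert_tree lc_a_rc_2_2 lc_a_rc_4_2 lc_a_rc_4_2 lc_a_rc_5_2 lc_a_Cert_tree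 lc_a_rc_21_0 lc_a_rc_4_2 lc_a_rc_4_0 lc_a_rc_0_1 lc_a_rc_4_2 lc_a_rc_3_2 lc_a_rc_3_0 lc_a_rc_2_2 lc_a_rc_0_1 lc_a_rc_3_2 lc_a_rc_21_0 lc_a_rc_1_4 lc_a_rc_0_1 lc_a_rc_3_2 lc_a_rc_4_2 lc_a_rc_2_2 lc_a_rc_4_2 lc_a_rc_1_4 lc_a_rc_0_1 lc_a_rc_21_0 lc_a_rc_0_1 lc_a_rc_5_2 lc_a_rc_3_0 lc_a_rc_2_2 lc_a_rc_1_4 lc_a_rc_2_2 lc_a_rc_3_2 lc_a_rc_3_0) (@D3.rec (fun _ => (Cert rels S Gen.a)) lc_a_rc_2_2 lc_a_rc_4_2 lc_a_rc_4_2 lc_a_rc_3_2 lc_a_rc_5_2 lc_a_rc_4_2 lc_a_rc_4_0 lc_a_rc_4_0 lc_a_rc_3_2 lc_a_rc_4_2 lc_a_rc_0_1 lc_a_rc_2_2 lc_a_rc_4_2 lc_a_rc_1_2 lc_a_rc_5_2 lc_a_rc_2_2 lc_a_rc_4_0 lc_a_rc_0_1 lc_a_rc_2_2 lc_a_rc_4_2 lc_a_Cert_tree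 lc_a_rc_4_2 lc_a_rc_3_0 lc_a_rc_3_2 lc_a_rc_5_2 lc_a_rc_3_2 lc_a_rc_21_0 lc_a_rc_0_1 lc_a_rc_4_2 lc_a_rc_2_2 lc_a_rc_2_2 lc_a_rc_1_4 lc_a_rc_2_2 lc_a_rc_0_1 lc_a_rc_3_0 lc_a_rc_5_2 lc_a_rc_21_0 lc_a_rc_3_0 lc_a_rc_4_2 lc_a_rc_3_2 lc_a_rc_21_0 lc_a_rc_3_2 lc_a_rc_1_4 lc_a_rc_3_2 lc_a_rc_4_2 lc_a_rc_21_0 lc_a_rc_2_2 lc_a_rc_2_2 lc_a_rc_5_2 lc_a_rc_3_2 lc_a_rc_5_0 lc_a_rc_2_2 lc_a_rc_5_2 lc_a_rc_2_2 lc_a_rc_4_2 lc_a_rc_3_2 lc_a_rc_4_2 lc_a_rc_0_1 lc_a_rc_21_0 lc_a_rc_4_2 lc_a_rc_1_2 lc_a_rc_2_2) (@D3.rec (fun _ => (Cert rels S Gen.a)) lc_a_rc_4_2 lc_a_rc_2_2 lc_a_rc_4_2 lc_a_rc_1_2 lc_a_rc_3_2 lc_a_rc_4_2 lc_a_rc_21_0 lc_a_rc_3_2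 lc_a_rc_21_0 lc_a_rc_1_4 lc_a_rc_5_2 lc_a_rc_5_2 lc_a_rc_3_2 lc_a_rc_4_2 lc_a_rc_3_2 lc_a_rc_2_0 lc_a_rc_5_2 lc_a_rc_4_2 lc_a_rc_5_2 lc_a_rc_4_2 lc_a_rc_3_2 lc_a_rc_21_0 lc_a_rc_4_2 lc_a_rc_0_1 lc_a_rc_5_0 lc_a_rc_3_2 lc_a_rc_5_2 lc_a_rc_1_4 lc_a_rc_4_2 lc_a_Cert_tree lc_a_rc_0_1 lc_a_rc_2_2 lc_a_rc_3_2 lc_a_rc_3_0 lc_a_rc_4_2 lc_a_rc_0_1 lc_a_rc_3_2 lc_a_rc_2_2 lc_a_rc_4_0 lc_a_rc_1_2 lc_a_rc_0_1 lc_a_rc_2_2 lc_a_rc_5_0 lc_a_rc_4_2 lc_a_rc_3_2 lc_a_rc_22_0 lc_a_rc_5_2 lc_a_rc_3_2 lc_a_rc_2_0 lc_a_rc_4_0 lc_a_rc_2_2 lc_a_rc_3_0 lc_a_rc_21_0 lc_a_rc_22_0 lc_a_Cert_tree lc_a_rc_2_2 lc_a_rc_3_2 lc_a_rc_5_2 lc_a_Cert_tree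 lc_a_rc_3_2 lc_a_rc_22_0 lc_a_rc_4_2) (@D3.rec (fun _ => (Cert rels S Gen.a)) lc_a_rc_2_2 lc_a_rc_3_2 lc_a_rc_3_2 lc_a_rc_3_2 lc_a_rc_3_2 lc_a_rc_2_2 lc_a_rc_4_2 lc_a_rc_0_1 lc_a_rc_4_2 lc_a_rc_2_2 lc_a_rc_4_2 lc_a_rc_2_2 lc_a_Cert_tree lc_a_rc_3_2 lc_a_rc_3_2 lc_a_rc_3_2 lc_a_rc_5_2 lc_a_rc_3_2 lc_a_rc_3_2 lc_a_rc_4_2 lc_a_rc_21_0 lc_a_rc_3_2 lc_a_rc_2_2 lc_a_rc_4_2 lc_a_rc_5_0 lc_a_rc_2_2 lc_a_rc_0_1 lc_a_Cert_tree lc_a_rc_4_2 lc_a_rc_21_0 lc_a_rc_4_2 lc_a_rc_3_2 lc_a_rc_5_2 lc_a_rc_0_1 lc_a_rc_2_2 lc_a_rc_4_2 lc_a_rc_2_2 lc_a_rc_5_0 lc_a_rc_4_2 lc_a_rc_4_2 lc_a_rc_4_2 lc_a_rc_5_2 lc_a_rc_0_1 lc_a_rc_4_2 lc_a_rc_3_2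 lc_a_rc_0_1 lc_a_rc_4_2 lc_a_rc_0_1 lc_a_rc_2_0 lc_a_rc_5_2 lc_a_rc_1_4 lc_a_rc_1_4 lc_a_rc_1_2 lc_a_rc_1_0 lc_a_rc_0_1 lc_a_rc_22_0 lc_a_rc_21_0 lc_a_rc_4_2 lc_a_rc_1_4 lc_a_rc_1_2 lc_a_rc_0_1 lc_a_rc_21_0) (@D3.rec (fun _ => (Cert rels S Gen.a)) lc_a_rc_0_1 lc_a_rc_4_2 lc_a_rc_4_2 lc_a_rc_3_0 lc_a_rc_2_0 lc_a_rc_22_0 lc_a_rc_4_2 lc_a_rc_22_0 lc_a_rc_3_2 lc_a_rc_21_0 lc_a_rc_3_2 lc_a_rc_2_2 lc_a_rc_2_2 lc_a_rc_4_2 lc_a_rc_1_4 lc_a_rc_5_0 lc_a_rc_3_2 lc_a_rc_4_0 lc_a_rc_0_1 lc_a_rc_3_2 lc_a_rc_4_2 lc_a_rc_3_2 lc_a_rc_2_2 lc_a_rc_4_2 lc_a_rc_4_0 lc_a_rc_3_2 lc_a_rc_3_2 lc_a_rc_3_2 lc_a_rc_4_2 lc_a_rc_0_1 lc_a_rc_5_2 lc_a_rc_0_1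 lc_a_rc_1_2 lc_a_rc_0_1 lc_a_rc_0_1 lc_a_rc_21_0 lc_a_rc_1_2 lc_a_rc_4_2 lc_a_rc_1_0 lc_a_rc_4_2 lc_a_rc_3_2 lc_a_rc_5_2 lc_a_rc_3_2 lc_a_rc_4_2 lc_a_rc_3_2 lc_a_rc_4_2 lc_a_rc_5_0 lc_a_rc_3_2 lc_a_rc_5_2 lc_a_rc_2_2 lc_a_rc_3_0 lc_a_rc_4_2 lc_a_rc_3_2 lc_a_rc_21_0 lc_a_rc_2_2 lc_a_rc_4_2 lc_a_rc_22_0 lc_a_rc_1_4 lc_a_rc_0_1 lc_a_rc_3_2 lc_a_rc_21_0 lc_a_rc_3_2) (@D3.rec (fun _ => (Cert rels S Gen.a)) lc_a_rc_4_2 lc_a_rc_2_2 lc_a_rc_21_0 lc_a_rc_2_2 lc_a_rc_5_2 lc_a_rc_3_0 lc_a_rc_2_2 lc_a_rc_21_0 lc_a_rc_0_1 lc_a_rc_2_2 lc_a_rc_3_2 lc_a_rc_4_2 lc_a_rc_5_0 lc_a_rc_2_2 lc_a_rc_5_2 lc_a_rc_21_0 lc_a_rc_4_2 lc_a_rc_21_0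 lc_a_rc_4_2 lc_a_rc_5_0 lc_a_Cert_tree lc_a_rc_5_2 lc_a_rc_4_2 lc_a_rc_2_2 lc_a_rc_4_2 lc_a_rc_2_2 lc_a_rc_3_2 lc_a_Cert_tree lc_a_rc_21_0 lc_a_rc_2_2 lc_a_rc_1_4 lc_a_rc_4_2 lc_a_rc_3_2 lc_a_rc_4_2 lc_a_rc_21_0 lc_a_rc_21_0 lc_a_rc_4_2 lc_a_rc_1_2 lc_a_rc_3_2 lc_a_rc_2_2 lc_a_rc_5_0 lc_a_rc_4_2 lc_a_Cert_tree lc_a_rc_4_2 lc_a_rc_1_4 lc_a_rc_5_0 lc_a_rc_3_2 lc_a_rc_5_2 lc_a_rc_3_2 lc_a_rc_3_2 lc_a_rc_3_2 lc_a_rc_4_2 lc_a_rc_5_2 lc_a_rc_4_2 lc_a_rc_1_2 lc_a_rc_4_2 lc_a_rc_1_4 lc_a_rc_5_2 lc_a_rc_4_2 lc_a_rc_5_0 lc_a_rc_4_2 lc_a_rc_21_0) (@D3.rec (fun _ => (Cert rels S Gen.a)) lc_a_rc_3_2 lc_a_rc_3_0 lc_a_rc_4_2 lc_a_rc_4_0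 lc_a_rc_1_2 lc_a_rc_5_2 lc_a_Cert_tree lc_a_rc_3_2 lc_a_rc_3_2 lc_a_Cert_tree lc_a_rc_21_0 lc_a_rc_4_2 lc_a_rc_3_2 lc_a_rc_4_0 lc_a_rc_2_2 lc_a_rc_5_2 lc_a_rc_0_1 lc_a_rc_0_1 lc_a_rc_1_4 lc_a_rc_3_2 lc_a_rc_4_0 lc_a_rc_4_0 lc_a_rc_3_2 lc_a_rc_3_2 lc_a_rc_2_2 lc_a_rc_2_0 lc_a_rc_2_0 lc_a_rc_2_2 lc_a_rc_0_1 lc_a_rc_3_0 lc_a_rc_2_0 lc_a_rc_4_2 lc_a_Cert_tree lc_a_rc_4_2 lc_a_rc_1_2 lc_a_rc_21_0 lc_a_rc_4_2 lc_a_rc_3_2 lc_a_rc_5_2 lc_a_rc_0_1 lc_a_rc_2_2 lc_a_rc_4_2 lc_a_rc_1_2 lc_a_rc_3_2 lc_a_rc_2_2 lc_a_Cert_tree lc_a_rc_3_2 lc_a_rc_5_2 lc_a_rc_4_2 lc_a_rc_3_0 lc_a_rc_4_2 lc_a_rc_3_2 lc_a_rc_0_1 lc_a_rc_5_0 lc_a_rc_2_2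 lc_a_rc_4_2 lc_a_rc_5_0 lc_a_rc_5_2 lc_a_rc_4_2 lc_a_rc_0_1 lc_a_rc_4_2 lc_a_rc_5_0) (@D3.rec (fun _ => (Cert rels S Gen.a)) lc_a_rc_5_0 lc_a_rc_4_2 lc_a_rc_2_0 lc_a_rc_1_4 lc_a_rc_5_0 lc_a_rc_3_2 lc_a_rc_5_2 lc_a_rc_3_0 lc_a_rc_0_1 lc_a_rc_4_2 lc_a_rc_4_2 lc_a_rc_5_0 lc_a_rc_0_1 lc_a_rc_5_2 lc_a_rc_1_2 lc_a_rc_4_2 lc_a_rc_4_0 lc_a_rc_0_1 lc_a_rc_0_1 lc_a_rc_0_1 lc_a_rc_5_2 lc_a_rc_5_2 lc_a_rc_21_0 lc_a_rc_4_2 lc_a_rc_0_1 lc_a_rc_3_2 lc_a_rc_2_2 lc_a_rc_3_2 lc_a_rc_2_2 lc_a_rc_4_2 lc_a_rc_3_2 lc_a_rc_3_2 lc_a_rc_3_2 lc_a_rc_5_0 lc_a_rc_2_2 lc_a_rc_5_0 lc_a_rc_2_2 lc_a_rc_3_2 lc_a_rc_21_0 lc_a_rc_5_0 lc_a_rc_3_2 lc_a_rc_3_0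 lc_a_rc_5_2 lc_a_rc_5_0 lc_a_rc_3_2 lc_a_rc_4_2 lc_a_rc_0_1 lc_a_rc_5_2 lc_a_rc_2_2 lc_a_rc_4_2 lc_a_rc_3_0 lc_a_rc_0_1 lc_a_rc_0_1 lc_a_rc_2_2 lc_a_rc_21_0 lc_a_rc_3_2 lc_a_rc_4_2 lc_a_rc_5_2 lc_a_rc_3_0 lc_a_rc_3_0 lc_a_rc_3_0 lc_a_rc_0_1) (@D3.rec (fun _ => (Cert rels S Gen.a)) lc_a_rc_3_2 lc_a_rc_4_2 lc_a_rc_0_1 lc_a_rc_0_1 lc_a_rc_0_1 lc_a_rc_4_2 lc_a_rc_21_0 lc_a_rc_4_2 lc_a_rc_0_1 lc_a_rc_2_2 lc_a_rc_2_0 lc_a_rc_0_1 lc_a_rc_4_2 lc_a_rc_4_0 lc_a_rc_4_2 lc_a_rc_1_4 lc_a_rc_4_2 lc_a_rc_5_2 lc_a_rc_1_2 lc_a_rc_3_2 lc_a_rc_4_2 lc_a_rc_3_0 lc_a_rc_3_0 lc_a_rc_0_1 lc_a_rc_4_2 lc_a_rc_3_0 lc_a_rc_3_2 lc_a_rc_5_2 lc_a_rc_1_4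 lc_a_rc_4_2 lc_a_rc_2_2 lc_a_rc_21_0 lc_a_rc_3_2 lc_a_rc_2_0 lc_a_rc_3_2 lc_a_rc_4_2 lc_a_rc_2_2 lc_a_rc_2_0 lc_a_rc_22_0 lc_a_rc_0_1 lc_a_rc_4_2 lc_a_rc_3_2 lc_a_rc_3_2 lc_a_rc_4_2 lc_a_rc_0_1 lc_a_rc_3_2 lc_a_rc_2_2 lc_a_rc_3_2 lc_a_rc_2_0 lc_a_rc_0_1 lc_a_rc_3_2 lc_a_rc_2_2 lc_a_rc_5_2 lc_a_rc_2_2 lc_a_rc_4_2 lc_a_rc_4_2 lc_a_rc_21_0 lc_a_rc_4_2 lc_a_rc_4_2 lc_a_rc_0_1 lc_a_rc_3_2 lc_a_rc_21_0) (@D3.rec (fun _ => (Cert rels S Gen.a)) lc_a_rc_4_2 lc_a_rc_4_2 lc_a_rc_3_0 lc_a_rc_21_0 lc_a_rc_22_0 lc_a_rc_1_2 lc_a_rc_0_1 lc_a_rc_3_2 lc_a_rc_5_2 lc_a_rc_4_2 lc_a_rc_2_0 lc_a_rc_4_2 lc_a_rc_0_1 lc_a_rc_3_2 lc_a_rc_2_0 lc_a_rc_2_2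 lc_a_rc_1_4 lc_a_rc_4_2 lc_a_rc_22_0 lc_a_rc_0_1 lc_a_rc_3_2 lc_a_rc_4_2 lc_a_rc_3_2 lc_a_rc_0_1 lc_a_rc_3_2 lc_a_rc_22_0 lc_a_rc_4_2 lc_a_rc_21_0 lc_a_rc_2_2 lc_a_rc_5_2 lc_a_rc_3_2 lc_a_rc_2_2 lc_a_rc_3_2 lc_a_Cert_tree lc_a_rc_5_2 lc_a_rc_4_2 lc_a_rc_2_2 lc_a_rc_21_0 lc_a_rc_22_0 lc_a_rc_4_2 lc_a_rc_4_2 lc_a_rc_4_0 lc_a_rc_5_2 lc_a_Cert_tree lc_a_rc_2_2 lc_a_rc_0_1 lc_a_rc_2_2 lc_a_rc_2_0 lc_a_rc_4_2 lc_a_rc_0_1 lc_a_rc_5_2 lc_a_rc_3_0 lc_a_rc_4_2 lc_a_rc_5_0 lc_a_rc_21_0 lc_a_rc_3_2 lc_a_rc_5_0 lc_a_rc_3_2 lc_a_rc_3_2 lc_a_rc_5_0 lc_a_rc_2_2 lc_a_rc_4_2) (@D3.rec (fun _ => (Cert rels S Gen.a)) lc_a_Cert_tree lc_a_rc_4_2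 lc_a_rc_1_4 lc_a_rc_3_0 lc_a_rc_4_2 lc_a_rc_2_2 lc_a_rc_3_2 lc_a_rc_3_2 lc_a_rc_2_2 lc_a_rc_21_0 lc_a_rc_2_2 lc_a_rc_1_4 lc_a_rc_3_2 lc_a_rc_2_2 lc_a_rc_3_2 lc_a_rc_21_0 lc_a_rc_1_2 lc_a_rc_2_2 lc_a_rc_3_0 lc_a_Cert_tree lc_a_rc_4_2 lc_a_rc_3_2 lc_a_rc_5_0 lc_a_rc_4_2 lc_a_rc_3_2 lc_a_rc_2_2 lc_a_rc_3_0 lc_a_Cert_tree lc_a_rc_5_2 lc_a_rc_4_2 lc_a_rc_0_1 lc_a_rc_3_0 lc_a_rc_3_0 lc_a_rc_0_1 lc_a_rc_21_0 lc_a_rc_5_2 lc_a_rc_0_1 lc_a_rc_2_2 lc_a_rc_0_1 lc_a_Cert_tree lc_a_rc_4_2 lc_a_rc_3_2 lc_a_rc_3_2 lc_a_rc_4_2 lc_a_rc_0_1 lc_a_rc_21_0 lc_a_rc_4_2 lc_a_Cert_tree lc_a_rc_4_2 lc_a_rc_5_0 lc_a_rc_5_2 lc_a_Cert_tree lc_a_rc_4_2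 lc_a_Cert_tree lc_a_rc_4_2 lc_a_rc_2_2 lc_a_rc_0_1 lc_a_rc_5_2 lc_a_Cert_tree lc_a_rc_4_2 lc_a_Cert_tree lc_a_rc_4_2) (@D3.rec (fun _ => (Cert rels S Gen.a)) lc_a_rc_21_0 lc_a_rc_0_1 lc_a_rc_5_0 lc_a_rc_0_1 lc_a_rc_2_2 lc_a_rc_0_1 lc_a_rc_3_2 lc_a_rc_4_2 lc_a_rc_1_4 lc_a_rc_0_1 lc_a_rc_1_2 lc_a_rc_4_2 lc_a_rc_3_0 lc_a_rc_0_1 lc_a_rc_1_2 lc_a_rc_2_2 lc_a_rc_0_1 lc_a_rc_0_1 lc_a_rc_4_2 lc_a_rc_0_1 lc_a_rc_21_0 lc_a_rc_4_2 lc_a_rc_3_2 lc_a_rc_3_2 lc_a_rc_3_2 lc_a_rc_2_2 lc_a_rc_5_2 lc_a_rc_4_2 lc_a_rc_1_2 lc_a_rc_2_2 lc_a_rc_4_2 lc_a_rc_5_0 lc_a_rc_21_0 lc_a_rc_3_2 lc_a_rc_5_2 lc_a_rc_2_2 lc_a_rc_3_2 lc_a_rc_3_2 lc_a_Cert_tree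 lc_a_rc_21_0 lc_a_rc_4_2 lc_a_rc_3_2 lc_a_rc_3_2 lc_a_rc_3_2 lc_a_rc_3_2 lc_a_rc_2_2 lc_a_rc_4_2 lc_a_Cert_tree lc_a_rc_4_2 lc_a_rc_3_2 lc_a_rc_4_2 lc_a_rc_5_2 lc_a_rc_2_0 lc_a_rc_5_2 lc_a_rc_5_2 lc_a_rc_2_0 lc_a_rc_3_2 lc_a_rc_21_0 lc_a_rc_4_0 lc_a_rc_5_2 lc_a_rc_0_1 lc_a_rc_2_2) (@D3.rec (fun _ => (Cert rels S Gen.a)) lc_a_rc_4_2 lc_a_rc_3_0 lc_a_rc_3_0 lc_a_rc_4_2 lc_a_rc_5_0 lc_a_rc_5_2 lc_a_rc_0_1 lc_a_rc_2_2 lc_a_rc_22_0 lc_a_Cert_tree lc_a_rc_4_2 lc_a_rc_3_2 lc_a_rc_4_2 lc_a_rc_2_2 lc_a_rc_2_0 lc_a_rc_0_1 lc_a_rc_3_2 lc_a_rc_2_0 lc_a_rc_4_2 lc_a_rc_3_2 lc_a_rc_3_0 lc_a_rc_21_0 lc_a_rc_4_0 lc_a_rc_3_2 lc_a_Cert_tree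 lc_a_rc_3_2 lc_a_rc_4_2 lc_a_rc_21_0 lc_a_rc_2_2 lc_a_rc_2_2 lc_a_rc_1_0 lc_a_rc_1_2 lc_a_rc_4_0 lc_a_rc_0_1 lc_a_rc_4_2 lc_a_rc_0_1 lc_a_rc_0_1 lc_a_rc_21_0 lc_a_rc_0_1 lc_a_rc_21_0 lc_a_rc_0_1 lc_a_rc_0_1 lc_a_rc_5_0 lc_a_rc_2_2 lc_a_rc_3_2 lc_a_rc_0_1 lc_a_rc_4_2 lc_a_rc_21_0 lc_a_rc_0_1 lc_a_Cert_tree lc_a_rc_4_2 lc_a_rc_0_1 lc_a_rc_3_2 lc_a_rc_5_2 lc_a_rc_3_0 lc_a_rc_3_2 lc_a_rc_3_0 lc_a_rc_4_2 lc_a_rc_3_2 lc_a_rc_4_2 lc_a_rc_21_0 lc_a_rc_0_1) (@D3.rec (fun _ => (Cert rels S Gen.a)) lc_a_rc_0_1 lc_a_rc_3_2 lc_a_rc_3_2 lc_a_rc_4_0 lc_a_rc_2_2 lc_a_rc_4_2 lc_a_rc_4_2 lc_a_rc_5_2 lc_a_rc_21_0 lc_a_rc_0_1 lc_a_rc_0_1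 lc_a_rc_1_2 lc_a_rc_5_2 lc_a_rc_21_0 lc_a_rc_5_0 lc_a_rc_4_2 lc_a_rc_21_0 lc_a_rc_2_2 lc_a_rc_21_0 lc_a_rc_0_1 lc_a_rc_4_2 lc_a_rc_3_2 lc_a_rc_5_2 lc_a_rc_3_2 lc_a_rc_4_2 lc_a_rc_5_2 lc_a_rc_2_2 lc_a_rc_4_2 lc_a_rc_4_2 lc_a_rc_3_2 lc_a_rc_0_1 lc_a_rc_4_2 lc_a_rc_5_0 lc_a_rc_21_0 lc_a_rc_2_2 lc_a_rc_0_1 lc_a_rc_0_1 lc_a_rc_3_0 lc_a_rc_3_2 lc_a_rc_5_2 lc_a_rc_0_1 lc_a_rc_21_0 lc_a_rc_0_1 lc_a_rc_3_2 lc_a_rc_4_2 lc_a_rc_2_2 lc_a_rc_3_2 lc_a_rc_5_2 lc_a_rc_0_1 lc_a_rc_0_1 lc_a_rc_1_2 lc_a_rc_2_2 lc_a_rc_4_2 lc_a_rc_5_2 lc_a_rc_3_2 lc_a_rc_2_2 lc_a_rc_4_2 lc_a_rc_3_2 lc_a_rc_21_0 lc_a_rc_0_1 lc_a_rc_4_2 lc_a_rc_4_2) (@D3.rec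 (fun _ => (Cert rels S Gen.a)) lc_a_rc_0_1 lc_a_rc_21_0 lc_a_rc_5_2 lc_a_rc_3_2 lc_a_rc_4_2 lc_a_rc_21_0 lc_a_rc_21_0 lc_a_rc_4_2 lc_a_rc_3_2 lc_a_rc_4_2 lc_a_rc_4_2 lc_a_rc_21_0 lc_a_rc_4_2 lc_a_rc_5_2 lc_a_rc_0_1 lc_a_rc_21_0 lc_a_rc_0_1 lc_a_rc_21_0 lc_a_rc_3_2 lc_a_rc_5_2 lc_a_rc_3_0 lc_a_rc_3_2 lc_a_rc_5_2 lc_a_rc_0_1 lc_a_rc_3_2 lc_a_rc_5_0 lc_a_rc_3_2 lc_a_rc_4_2 lc_a_rc_2_2 lc_a_rc_2_2 lc_a_rc_4_2 lc_a_rc_2_2 lc_a_rc_5_2 lc_a_rc_21_0 lc_a_rc_22_0 lc_a_rc_21_0 lc_a_rc_3_0 lc_a_rc_5_2 lc_a_rc_3_0 lc_a_rc_3_2 lc_a_rc_4_2 lc_a_rc_2_2 lc_a_rc_2_2 lc_a_rc_4_2 lc_a_rc_2_2 lc_a_rc_4_2 lc_a_rc_0_1 lc_a_rc_2_2 lc_a_rc_4_2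 lc_a_rc_2_2 lc_a_rc_21_0 lc_a_rc_2_2 lc_a_rc_3_2 lc_a_rc_2_2 lc_a_rc_2_2 lc_a_rc_0_1 lc_a_rc_1_0 lc_a_rc_1_2 lc_a_rc_4_2 lc_a_rc_0_1 lc_a_rc_2_2 lc_a_rc_4_2) (@D3.rec (fun _ => (Cert rels S Gen.a)) lc_a_rc_3_2 lc_a_rc_4_2 lc_a_rc_5_2 lc_a_rc_21_0 lc_a_rc_4_2 lc_a_rc_4_2 lc_a_rc_5_0 lc_a_rc_5_2 lc_a_rc_0_1 lc_a_rc_21_0 lc_a_rc_0_1 lc_a_rc_1_2 lc_a_rc_2_2 lc_a_rc_5_0 lc_a_rc_3_2 lc_a_rc_5_2 lc_a_rc_22_0 lc_a_rc_2_2 lc_a_rc_2_2 lc_a_rc_4_2 lc_a_rc_5_2 lc_a_rc_5_0 lc_a_rc_5_2 lc_a_rc_3_2 lc_a_rc_21_0 lc_a_rc_3_2 lc_a_rc_4_2 lc_a_rc_2_2 lc_a_rc_4_2 lc_a_rc_3_2 lc_a_rc_2_2 lc_a_rc_1_2 lc_a_rc_5_0 lc_a_rc_0_1 lc_a_rc_3_2 lc_a_rc_4_2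 lc_a_rc_0_1 lc_a_rc_4_2 lc_a_rc_0_1 lc_a_rc_22_0 lc_a_rc_3_2 lc_a_rc_21_0 lc_a_rc_5_0 lc_a_rc_4_2 lc_a_rc_3_0 lc_a_rc_2_2 lc_a_rc_4_2 lc_a_rc_5_2 lc_a_rc_3_2 lc_a_rc_2_2 lc_a_rc_5_0 lc_a_rc_5_0 lc_a_rc_3_2 lc_a_rc_4_2 lc_a_rc_5_2 lc_a_Cert_tree lc_a_rc_1_2 lc_a_rc_5_2 lc_a_rc_2_2 lc_a_rc_21_0 lc_a_rc_4_2 lc_a_rc_4_2)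
def ce_a_15 : D2 → D3 → (Cert rels S Gen.a) := @D2.rec (fun _ => D3 → (Cert rels S Gen.a)) (@D3.rec (fun _ => (Cert rels S Gen.a)) lc_a_rc_4_2 lc_a_rc_2_0 lc_a_rc_21_0 lc_a_rc_5_2 lc_a_rc_4_2 lc_a_rc_4_2 lc_a_rc_0_1 lc_a_rc_5_2 lc_a_rc_4_2 lc_a_rc_21_0 lc_a_rc_0_1 lc_a_rc_2_2 lc_a_rc_21_0 lc_a_rc_4_2 lc_a_rc_21_0 lc_a_rc_21_0 lc_a_Cert_tree lc_a_rc_5_2 lc_a_rc_3_2 lc_a_rc_2_2 lc_a_rc_0_1 lc_a_rc_0_1 lc_a_rc_3_2 lc_a_rc_4_2 lc_a_rc_5_0 lc_a_rc_3_2 lc_a_rc_2_2 lc_a_rc_3_2 lc_a_rc_21_0 lc_a_rc_21_0 lc_a_rc_21_0 lc_a_rc_3_2 lc_a_rc_4_2 lc_a_rc_2_2 lc_a_rc_0_1 lc_a_Cert_tree lc_a_rc_3_2 lc_a_rc_4_2 lc_a_Cert_tree lc_a_rc_21_0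 lc_a_rc_4_2 lc_a_rc_0_1 lc_a_rc_21_0 lc_a_rc_0_1 lc_a_rc_3_2 lc_a_rc_21_0 lc_a_rc_3_2 lc_a_rc_4_2 lc_a_rc_0_1 lc_a_rc_21_0 lc_a_rc_0_1 lc_a_rc_3_2 lc_a_rc_21_0 lc_a_rc_4_2 lc_a_Cert_tree lc_a_rc_3_2 lc_a_rc_2_2 lc_a_rc_3_0 lc_a_rc_2_2 lc_a_rc_2_2 lc_a_Cert_tree lc_a_rc_5_0) (@D3.rec (fun _ => (Cert rels S Gen.a)) lc_a_rc_4_2 lc_a_rc_4_2 lc_a_rc_5_2 lc_a_rc_2_2 lc_a_rc_4_2 lc_a_rc_4_2 lc_a_rc_5_2 lc_a_Cert_tree lc_a_rc_0_1 lc_a_rc_0_1 lc_a_rc_3_2 lc_a_rc_1_4 lc_a_rc_4_2 lc_a_rc_4_2 lc_a_Cert_tree lc_a_rc_2_2 lc_a_rc_5_2 lc_a_Cert_tree lc_a_rc_2_2 lc_a_rc_4_2 lc_a_rc_21_0 lc_a_rc_1_4 lc_a_rc_22_0 lc_a_rc_4_2 lc_a_rc_1_2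 lc_a_rc_1_4 lc_a_rc_4_2 lc_a_Cert_tree lc_a_rc_21_0 lc_a_rc_4_2 lc_a_Cert_tree lc_a_rc_3_2 lc_a_rc_2_2 lc_a_rc_0_1 lc_a_rc_21_0 lc_a_rc_0_1 lc_a_rc_2_0 lc_a_rc_4_2 lc_a_rc_0_1 lc_a_rc_2_2 lc_a_rc_2_2 lc_a_rc_5_0 lc_a_rc_3_2 lc_a_rc_2_2 lc_a_rc_4_2 lc_a_rc_4_2 lc_a_rc_4_2 lc_a_rc_4_2 lc_a_rc_2_2 lc_a_Cert_tree lc_a_rc_2_2 lc_a_rc_4_2 lc_a_rc_1_2 lc_a_rc_21_0 lc_a_rc_0_1 lc_a_rc_2_0 lc_a_rc_4_2 lc_a_rc_4_2 lc_a_rc_21_0 lc_a_rc_4_0 lc_a_rc_3_2 lc_a_rc_2_2) (@D3.rec (fun _ => (Cert rels S Gen.a)) lc_a_rc_4_0 lc_a_rc_5_2 lc_a_Cert_tree lc_a_rc_4_2 lc_a_rc_0_1 lc_a_rc_2_2 lc_a_rc_0_1 lc_a_rc_22_0 lc_a_rc_4_2 lc_a_rc_3_2 lc_a_rc_4_2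 lc_a_rc_2_2 lc_a_rc_2_2 lc_a_rc_3_0 lc_a_rc_5_0 lc_a_rc_5_0 lc_a_rc_4_2 lc_a_rc_21_0 lc_a_rc_5_2 lc_a_rc_1_4 lc_a_rc_21_0 lc_a_rc_0_1 lc_a_rc_3_2 lc_a_rc_1_2 lc_a_rc_4_2 lc_a_rc_5_0 lc_a_rc_2_2 lc_a_rc_3_2 lc_a_rc_5_2 lc_a_rc_4_2 lc_a_rc_1_2 lc_a_rc_2_2 lc_a_rc_2_2 lc_a_rc_2_2 lc_a_rc_21_0 lc_a_rc_0_1 lc_a_rc_3_2 lc_a_rc_3_0 lc_a_rc_4_2 lc_a_rc_3_2 lc_a_rc_2_2 lc_a_rc_21_0 lc_a_rc_2_2 lc_a_rc_0_1 lc_a_rc_3_2 lc_a_rc_4_2 lc_a_rc_4_2 lc_a_rc_3_2 lc_a_rc_5_2 lc_a_rc_2_2 lc_a_rc_3_2 lc_a_rc_4_2 lc_a_rc_21_0 lc_a_rc_21_0 lc_a_rc_4_2 lc_a_rc_3_2 lc_a_rc_0_1 lc_a_rc_21_0 lc_a_rc_2_2 lc_a_rc_21_0 lc_a_rc_4_2 lc_a_Cert_tree) (@D3.rec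 (fun _ => (Cert rels S Gen.a)) lc_a_rc_4_2 lc_a_rc_5_2 lc_a_rc_4_2 lc_a_rc_2_2 lc_a_rc_1_4 lc_a_rc_5_2 lc_a_rc_4_2 lc_a_rc_21_0 lc_a_rc_2_2 lc_a_rc_3_2 lc_a_rc_5_0 lc_a_rc_2_2 lc_a_rc_4_2 lc_a_rc_2_2 lc_a_rc_4_2 lc_a_rc_21_0 lc_a_rc_0_1 lc_a_rc_3_2 lc_a_rc_2_2 lc_a_rc_4_2 lc_a_rc_2_2 lc_a_rc_3_2 lc_a_rc_21_0 lc_a_rc_2_2 lc_a_rc_5_0 lc_a_rc_21_0 lc_a_rc_5_0 lc_a_rc_3_2 lc_a_rc_4_2 lc_a_Cert_tree lc_a_rc_5_0 lc_a_rc_3_0 lc_a_rc_3_0 lc_a_rc_4_2 lc_a_rc_3_2 lc_a_rc_3_2 lc_a_rc_4_2 lc_a_Cert_tree lc_a_rc_2_0 lc_a_rc_2_2 lc_a_rc_3_0 lc_a_rc_1_4 lc_a_rc_3_0 lc_a_rc_21_0 lc_a_rc_22_0 lc_a_rc_2_2 lc_a_rc_5_0 lc_a_rc_1_2 lc_a_rc_3_2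 lc_a_rc_2_2 lc_a_rc_4_2 lc_a_rc_5_2 lc_a_rc_3_2 lc_a_rc_5_0 lc_a_rc_2_2 lc_a_rc_4_2 lc_a_rc_3_2 lc_a_rc_4_2 lc_a_rc_4_2 lc_a_rc_5_2 lc_a_rc_2_2 lc_a_rc_1_2) (@D3.rec (fun _ => (Cert rels S Gen.a)) lc_a_rc_3_2 lc_a_rc_0_1 lc_a_rc_3_0 lc_a_rc_4_0 lc_a_rc_2_2 lc_a_rc_2_2 lc_a_rc_3_2 lc_a_rc_2_2 lc_a_rc_3_2 lc_a_rc_4_2 lc_a_rc_1_4 lc_a_rc_21_0 lc_a_rc_5_2 lc_a_rc_4_2 lc_a_rc_2_2 lc_a_rc_0_1 lc_a_rc_2_2 lc_a_rc_3_2 lc_a_Cert_tree lc_a_rc_0_1 lc_a_rc_3_2 lc_a_rc_0_1 lc_a_rc_2_2 lc_a_rc_3_0 lc_a_rc_4_2 lc_a_rc_4_2 lc_a_rc_2_2 lc_a_Cert_tree lc_a_rc_2_2 lc_a_rc_4_2 lc_a_rc_4_2 lc_a_rc_2_2 lc_a_rc_3_0 lc_a_rc_0_1 lc_a_rc_2_2 lc_a_rc_21_0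 lc_a_rc_3_2 lc_a_rc_2_0 lc_a_rc_3_2 lc_a_rc_4_2 lc_a_rc_3_2 lc_a_rc_4_2 lc_a_rc_4_2 lc_a_rc_3_2 lc_a_rc_2_2 lc_a_rc_3_2 lc_a_rc_4_2 lc_a_rc_3_2 lc_a_rc_4_2 lc_a_rc_0_1 lc_a_rc_3_2 lc_a_rc_3_2 lc_a_rc_3_2 lc_a_rc_2_2 lc_a_rc_3_2 lc_a_rc_21_0 lc_a_rc_21_0 lc_a_rc_2_2 lc_a_rc_4_2 lc_a_rc_2_2 lc_a_rc_3_2 lc_a_rc_1_2) (@D3.rec (fun _ => (Cert rels S Gen.a)) lc_a_rc_3_2 lc_a_rc_5_2 lc_a_Cert_tree lc_a_rc_21_0 lc_a_rc_2_2 lc_a_rc_3_2 lc_a_rc_1_2 lc_a_rc_4_2 lc_a_rc_3_2 lc_a_rc_0_1 lc_a_rc_4_2 lc_a_rc_4_2 lc_a_rc_4_2 lc_a_rc_4_2 lc_a_rc_4_2 lc_a_rc_2_2 lc_a_rc_4_2 lc_a_rc_3_2 lc_a_rc_1_4 lc_a_rc_0_1 lc_a_rc_4_0 lc_a_rc_5_0 lc_a_rc_3_2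 lc_a_rc_21_0 lc_a_rc_21_0 lc_a_rc_3_2 lc_a_rc_4_2 lc_a_rc_3_0 lc_a_rc_21_0 lc_a_rc_2_2 lc_a_rc_3_2 lc_a_rc_3_2 lc_a_rc_5_0 lc_a_rc_2_2 lc_a_rc_4_2 lc_a_rc_5_2 lc_a_rc_3_2 lc_a_rc_4_2 lc_a_rc_3_2 lc_a_rc_0_1 lc_a_rc_3_2 lc_a_rc_3_2 lc_a_rc_5_0 lc_a_rc_4_0 lc_a_rc_2_2 lc_a_rc_2_2 lc_a_Cert_tree lc_a_rc_2_2 lc_a_rc_22_0 lc_a_Cert_tree lc_a_rc_4_0 lc_a_rc_5_2 lc_a_rc_3_0 lc_a_rc_4_2 lc_a_rc_21_0 lc_a_rc_0_1 lc_a_rc_5_0 lc_a_rc_4_2 lc_a_rc_4_2 lc_a_rc_21_0 lc_a_rc_2_2 lc_a_rc_4_2) (@D3.rec (fun _ => (Cert rels S Gen.a)) lc_a_rc_4_0 lc_a_rc_5_0 lc_a_rc_4_2 lc_a_rc_5_2 lc_a_rc_5_0 lc_a_rc_3_2 lc_a_rc_4_2 lc_a_rc_21_0 lc_a_rc_2_2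 lc_a_rc_4_2 lc_a_rc_21_0 lc_a_rc_3_2 lc_a_rc_2_2 lc_a_rc_21_0 lc_a_rc_3_2 lc_a_rc_5_2 lc_a_rc_2_2 lc_a_rc_3_2 lc_a_rc_2_2 lc_a_rc_0_1 lc_a_rc_5_0 lc_a_rc_21_0 lc_a_rc_21_0 lc_a_rc_21_0 lc_a_rc_2_2 lc_a_rc_5_0 lc_a_rc_4_2 lc_a_rc_5_0 lc_a_rc_4_2 lc_a_rc_0_1 lc_a_rc_0_1 lc_a_rc_2_2 lc_a_rc_21_0 lc_a_rc_3_0 lc_a_rc_2_2 lc_a_rc_3_2 lc_a_rc_0_1 lc_a_rc_3_2 lc_a_rc_21_0 lc_a_rc_4_2 lc_a_rc_5_0 lc_a_rc_3_2 lc_a_rc_5_2 lc_a_rc_3_2 lc_a_rc_4_2 lc_a_rc_5_2 lc_a_rc_0_1 lc_a_rc_0_1 lc_a_rc_1_2 lc_a_rc_2_2 lc_a_rc_3_2 lc_a_rc_4_2 lc_a_rc_5_2 lc_a_Cert_tree lc_a_rc_2_2 lc_a_rc_3_2 lc_a_rc_3_0 lc_a_rc_3_2 lc_a_rc_3_2 lc_a_rc_4_2 lc_a_rc_2_2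 lc_a_rc_4_2) (@D3.rec (fun _ => (Cert rels S Gen.a)) lc_a_rc_2_2 lc_a_rc_21_0 lc_a_rc_5_2 lc_a_rc_3_2 lc_a_rc_4_0 lc_a_rc_3_2 lc_a_rc_3_2 lc_a_rc_3_2 lc_a_rc_2_2 lc_a_rc_2_2 lc_a_rc_3_2 lc_a_rc_3_2 lc_a_rc_2_2 lc_a_rc_3_0 lc_a_rc_3_2 lc_a_rc_21_0 lc_a_rc_2_2 lc_a_rc_4_2 lc_a_rc_21_0 lc_a_rc_2_2 lc_a_rc_4_2 lc_a_rc_2_2 lc_a_rc_4_2 lc_a_rc_2_0 lc_a_rc_2_2 lc_a_Cert_tree lc_a_rc_3_2 lc_a_rc_4_2 lc_a_rc_2_2 lc_a_rc_3_2 lc_a_rc_21_0 lc_a_rc_5_2 lc_a_rc_4_2 lc_a_rc_3_2 lc_a_rc_0_1 lc_a_rc_21_0 lc_a_rc_0_1 lc_a_rc_4_2 lc_a_rc_4_2 lc_a_rc_4_2 lc_a_rc_21_0 lc_a_rc_2_2 lc_a_rc_4_2 lc_a_rc_3_0 lc_a_rc_4_2 lc_a_rc_5_2 lc_a_rc_5_0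 lc_a_rc_3_2 lc_a_rc_3_2 lc_a_rc_3_2 lc_a_rc_1_2 lc_a_rc_4_2 lc_a_rc_4_2 lc_a_rc_4_2 lc_a_rc_4_2 lc_a_rc_3_2 lc_a_rc_4_2 lc_a_rc_3_2 lc_a_rc_2_2 lc_a_rc_21_0 lc_a_rc_0_1 lc_a_rc_2_2) (@D3.rec (fun _ => (Cert rels S Gen.a)) lc_a_rc_3_2 lc_a_rc_0_1 lc_a_rc_3_2 lc_a_rc_4_2 lc_a_rc_0_1 lc_a_rc_21_0 lc_a_rc_5_2 lc_a_rc_1_4 lc_a_rc_0_1 lc_a_rc_4_2 lc_a_rc_5_2 lc_a_rc_1_2 lc_a_rc_3_2 lc_a_rc_4_2 lc_a_rc_21_0 lc_a_rc_2_2 lc_a_rc_3_2 lc_a_rc_4_2 lc_a_rc_0_1 lc_a_rc_21_0 lc_a_rc_1_4 lc_a_rc_21_0 lc_a_rc_3_2 lc_a_rc_2_2 lc_a_rc_4_2 lc_a_rc_5_0 lc_a_rc_2_2 lc_a_rc_3_2 lc_a_rc_21_0 lc_a_rc_0_1 lc_a_rc_2_2 lc_a_rc_21_0 lc_a_rc_4_2 lc_a_rc_5_0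 lc_a_rc_4_2 lc_a_rc_21_0 lc_a_rc_4_2 lc_a_rc_0_1 lc_a_rc_21_0 lc_a_rc_4_0 lc_a_rc_0_1 lc_a_rc_2_2 lc_a_rc_3_2 lc_a_rc_4_2 lc_a_rc_2_2 lc_a_rc_3_2 lc_a_rc_21_0 lc_a_rc_21_0 lc_a_rc_0_1 lc_a_rc_3_2 lc_a_rc_4_2 lc_a_rc_3_2 lc_a_rc_3_2 lc_a_Cert_tree lc_a_rc_5_0 lc_a_rc_3_2 lc_a_rc_21_0 lc_a_rc_0_1 lc_a_rc_0_1 lc_a_rc_22_0 lc_a_rc_2_2 lc_a_rc_3_0) (@D3.rec (fun _ => (Cert rels S Gen.a)) lc_a_rc_2_2 lc_a_rc_21_0 lc_a_rc_3_0 lc_a_rc_21_0 lc_a_Cert_tree lc_a_rc_0_1 lc_a_rc_0_1 lc_a_rc_3_2 lc_a_rc_21_0 lc_a_rc_5_0 lc_a_rc_4_0 lc_a_rc_2_2 lc_a_rc_0_1 lc_a_rc_4_2 lc_a_rc_4_2 lc_a_rc_5_2 lc_a_rc_4_2 lc_a_rc_21_0 lc_a_rc_21_0 lc_a_rc_1_4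 lc_a_rc_5_2 lc_a_rc_21_0 lc_a_rc_3_2 lc_a_rc_0_1 lc_a_rc_4_2 lc_a_rc_4_2 lc_a_rc_5_0 lc_a_rc_3_2 lc_a_rc_4_2 lc_a_rc_4_2 lc_a_rc_2_0 lc_a_rc_1_4 lc_a_rc_4_2 lc_a_Cert_tree lc_a_rc_1_0 lc_a_rc_4_2 lc_a_rc_3_2 lc_a_rc_21_0 lc_a_rc_21_0 lc_a_rc_4_2 lc_a_rc_5_0 lc_a_Cert_tree lc_a_rc_21_0 lc_a_rc_0_1 lc_a_rc_0_1 lc_a_rc_21_0 lc_a_rc_3_2 lc_a_rc_2_2 lc_a_rc_3_2 lc_a_rc_2_2 lc_a_rc_5_0 lc_a_rc_4_2 lc_a_rc_1_4 lc_a_rc_4_2 lc_a_rc_21_0 lc_a_rc_3_2 lc_a_rc_21_0 lc_a_rc_1_4 lc_a_rc_0_1 lc_a_rc_4_2 lc_a_rc_3_2 lc_a_rc_4_2) (@D3.rec (fun _ => (Cert rels S Gen.a)) lc_a_rc_2_2 lc_a_rc_4_2 lc_a_rc_2_2 lc_a_rc_4_2 lc_a_rc_3_2 lc_a_rc_3_2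 lc_a_rc_5_2 lc_a_rc_2_2 lc_a_rc_4_2 lc_a_rc_2_0 lc_a_rc_2_2 lc_a_rc_5_2 lc_a_rc_0_1 lc_a_rc_21_0 lc_a_rc_3_2 lc_a_rc_5_2 lc_a_rc_2_2 lc_a_rc_21_0 lc_a_rc_4_2 lc_a_rc_2_2 lc_a_rc_2_2 lc_a_rc_5_2 lc_a_rc_5_2 lc_a_rc_3_2 lc_a_rc_3_0 lc_a_rc_0_1 lc_a_rc_4_2 lc_a_rc_3_2 lc_a_rc_5_0 lc_a_rc_3_2 lc_a_rc_3_2 lc_a_rc_5_2 lc_a_rc_4_0 lc_a_rc_4_2 lc_a_rc_2_2 lc_a_rc_21_0 lc_a_rc_5_2 lc_a_rc_2_2 lc_a_rc_3_0 lc_a_rc_4_2 lc_a_rc_21_0 lc_a_rc_4_0 lc_a_rc_2_2 lc_a_rc_4_2 lc_a_rc_1_2 lc_a_rc_3_2 lc_a_rc_0_1 lc_a_rc_2_2 lc_a_rc_0_1 lc_a_rc_2_0 lc_a_rc_2_2 lc_a_rc_21_0 lc_a_rc_4_2 lc_a_rc_4_2 lc_a_rc_21_0 lc_a_rc_2_2 lc_a_Cert_tree lc_a_rc_21_0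 lc_a_rc_3_2 lc_a_rc_5_2 lc_a_rc_21_0 lc_a_rc_0_1) (@D3.rec (fun _ => (Cert rels S Gen.a)) lc_a_rc_4_2 lc_a_rc_2_2 lc_a_rc_3_2 lc_a_rc_21_0 lc_a_rc_5_2 lc_a_rc_3_2 lc_a_Cert_tree lc_a_rc_0_1 lc_a_rc_2_0 lc_a_rc_1_2 lc_a_rc_5_2 lc_a_rc_21_0 lc_a_rc_21_0 lc_a_rc_21_0 lc_a_rc_0_1 lc_a_rc_0_1 lc_a_rc_3_2 lc_a_rc_2_2 lc_a_rc_4_2 lc_a_rc_3_2 lc_a_rc_5_2 lc_a_rc_2_2 lc_a_rc_5_0 lc_a_rc_4_2 lc_a_rc_3_2 lc_a_rc_5_2 lc_a_rc_21_0 lc_a_rc_0_1 lc_a_rc_0_1 lc_a_rc_3_2 lc_a_rc_2_2 lc_a_rc_4_2 lc_a_rc_4_2 lc_a_rc_0_1 lc_a_rc_3_2 lc_a_rc_5_2 lc_a_rc_2_2 lc_a_rc_3_2 lc_a_rc_3_2 lc_a_rc_21_0 lc_a_rc_5_2 lc_a_rc_21_0 lc_a_rc_0_1 lc_a_rc_0_1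 lc_a_rc_3_2 lc_a_rc_3_0 lc_a_rc_4_2 lc_a_rc_2_2 lc_a_rc_0_1 lc_a_rc_5_2 lc_a_rc_3_2 lc_a_rc_1_0 lc_a_rc_1_0 lc_a_rc_0_1 lc_a_rc_0_1 lc_a_rc_2_2 lc_a_rc_4_2 lc_a_rc_3_2 lc_a_rc_5_2 lc_a_rc_2_2 lc_a_rc_2_2 lc_a_rc_0_1) (@D3.rec (fun _ => (Cert rels S Gen.a)) lc_a_rc_3_2 lc_a_rc_5_2 lc_a_rc_4_2 lc_a_rc_5_2 lc_a_rc_0_1 lc_a_rc_0_1 lc_a_rc_1_2 lc_a_rc_2_2 lc_a_rc_4_2 lc_a_rc_4_2 lc_a_rc_5_2 lc_a_Cert_tree lc_a_rc_2_2 lc_a_rc_2_2 lc_a_rc_4_2 lc_a_rc_3_2 lc_a_rc_4_2 lc_a_rc_2_2 lc_a_rc_5_2 lc_a_rc_4_2 lc_a_rc_5_2 lc_a_rc_21_0 lc_a_rc_2_2 lc_a_Cert_tree lc_a_rc_4_2 lc_a_rc_2_0 lc_a_rc_5_0 lc_a_rc_5_2 lc_a_rc_3_2 lc_a_rc_21_0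 lc_a_rc_3_2 lc_a_rc_4_0 lc_a_rc_2_2 lc_a_rc_1_4 lc_a_rc_0_1 lc_a_rc_4_2 lc_a_rc_3_2 lc_a_rc_5_2 lc_a_rc_4_2 lc_a_rc_0_1 lc_a_rc_3_2 lc_a_rc_3_2 lc_a_rc_21_0 lc_a_rc_0_1 lc_a_rc_0_1 lc_a_rc_4_2 lc_a_rc_3_2 lc_a_rc_5_2 lc_a_rc_0_1 lc_a_rc_4_2 lc_a_rc_0_1 lc_a_rc_2_2 lc_a_rc_4_2 lc_a_rc_2_2 lc_a_rc_3_2 lc_a_rc_5_2 lc_a_rc_2_0 lc_a_rc_2_0 lc_a_rc_5_2 lc_a_rc_21_0 lc_a_rc_21_0 lc_a_rc_0_1) (@D3.rec (fun _ => (Cert rels S Gen.a)) lc_a_rc_5_2 lc_a_rc_1_2 lc_a_rc_3_2 lc_a_rc_3_2 lc_a_rc_1_2 lc_a_rc_2_0 lc_a_rc_2_0 lc_a_rc_5_2 lc_a_rc_5_0 lc_a_rc_3_2 lc_a_rc_3_2 lc_a_rc_5_2 lc_a_rc_2_2 lc_a_rc_3_2 lc_a_rc_3_2 lc_a_rc_0_1 lc_a_rc_3_2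 lc_a_rc_21_0 lc_a_rc_2_2 lc_a_rc_3_2 lc_a_rc_3_2 lc_a_rc_4_2 lc_a_rc_3_2 lc_a_rc_5_0 lc_a_rc_2_2 lc_a_rc_4_2 lc_a_rc_21_0 lc_a_rc_3_0 lc_a_rc_2_2 lc_a_rc_4_2 lc_a_rc_2_2 lc_a_rc_4_2 lc_a_rc_2_2 lc_a_rc_0_1 lc_a_rc_21_0 lc_a_rc_3_2 lc_a_rc_21_0 lc_a_rc_2_2 lc_a_rc_2_0 lc_a_rc_1_4 lc_a_rc_5_2 lc_a_rc_4_2 lc_a_rc_3_2 lc_a_rc_2_2 lc_a_rc_3_0 lc_a_rc_4_2 lc_a_rc_0_1 lc_a_rc_4_0 lc_a_rc_22_0 lc_a_rc_21_0 lc_a_rc_1_0 lc_a_rc_3_2 lc_a_rc_3_2 lc_a_rc_3_2 lc_a_rc_0_1 lc_a_rc_1_2 lc_a_rc_21_0 lc_a_rc_2_2 lc_a_rc_4_2 lc_a_rc_4_2 lc_a_Cert_tree lc_a_rc_2_2) (@D3.rec (fun _ => (Cert rels S Gen.a)) lc_a_rc_3_2 lc_a_rc_5_2 lc_a_rc_2_2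 lc_a_rc_4_2 lc_a_rc_5_2 lc_a_rc_0_1 lc_a_rc_21_0 lc_a_rc_3_2 lc_a_rc_4_2 lc_a_rc_3_2 lc_a_rc_0_1 lc_a_rc_3_2 lc_a_rc_0_1 lc_a_rc_0_1 lc_a_rc_1_4 lc_a_rc_2_2 lc_a_rc_4_2 lc_a_rc_5_2 lc_a_rc_3_0 lc_a_rc_2_2 lc_a_rc_4_2 lc_a_rc_3_2 lc_a_rc_21_0 lc_a_rc_21_0 lc_a_rc_2_0 lc_a_rc_5_2 lc_a_rc_4_0 lc_a_rc_21_0 lc_a_rc_4_2 lc_a_rc_0_1 lc_a_Cert_tree lc_a_rc_5_0 lc_a_rc_5_2 lc_a_rc_0_1 lc_a_rc_0_1 lc_a_rc_0_1 lc_a_rc_4_0 lc_a_rc_2_2 lc_a_rc_21_0 lc_a_rc_3_2 lc_a_rc_4_2 lc_a_rc_3_2 lc_a_rc_21_0 lc_a_rc_3_2 lc_a_rc_0_1 lc_a_rc_0_1 lc_a_rc_5_2 lc_a_rc_3_2 lc_a_rc_4_2 lc_a_rc_5_0 lc_a_rc_2_2 lc_a_rc_5_2 lc_a_rc_4_2 lc_a_rc_3_2 lc_a_rc_0_1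 lc_a_rc_3_2 lc_a_rc_5_0 lc_a_rc_2_0 lc_a_rc_21_0 lc_a_rc_5_2 lc_a_rc_3_2 lc_a_rc_21_0) (@D3.rec (fun _ => (Cert rels S Gen.a)) lc_a_rc_21_0 lc_a_Cert_tree lc_a_rc_2_2 lc_a_rc_5_0 lc_a_rc_5_2 lc_a_rc_21_0 lc_a_rc_0_1 lc_a_rc_0_1 lc_a_rc_3_2 lc_a_rc_2_2 lc_a_rc_3_2 lc_a_rc_21_0 lc_a_rc_0_1 lc_a_rc_0_1 lc_a_rc_3_2 lc_a_rc_0_1 lc_a_rc_4_2 lc_a_rc_4_2 lc_a_rc_2_2 lc_a_rc_3_2 lc_a_rc_4_2 lc_a_rc_2_2 lc_a_rc_4_2 lc_a_rc_2_2 lc_a_rc_3_2 lc_a_rc_1_4 lc_a_rc_1_4 lc_a_rc_0_1 lc_a_rc_3_2 lc_a_rc_4_2 lc_a_rc_4_2 lc_a_rc_3_2 lc_a_rc_5_2 lc_a_rc_2_0 lc_a_rc_2_2 lc_a_rc_3_2 lc_a_rc_4_2 lc_a_rc_3_2 lc_a_rc_0_1 lc_a_rc_0_1 lc_a_rc_1_2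 lc_a_rc_2_2 lc_a_rc_3_2 lc_a_rc_4_2 lc_a_rc_5_2 lc_a_Cert_tree lc_a_rc_5_2 lc_a_rc_5_0 lc_a_rc_4_2 lc_a_rc_3_2 lc_a_rc_0_1 lc_a_rc_22_0 lc_a_rc_4_2 lc_a_Cert_tree lc_a_rc_4_2 lc_a_Cert_tree lc_a_rc_4_2 lc_a_Cert_tree lc_a_rc_4_2 lc_a_rc_3_2 lc_a_rc_2_2 lc_a_rc_4_2) (@D3.rec (fun _ => (Cert rels S Gen.a)) lc_a_rc_5_0 lc_a_rc_2_2 lc_a_rc_3_2 lc_a_rc_2_2 lc_a_rc_5_0 lc_a_rc_4_2 lc_a_rc_21_0 lc_a_rc_0_1 lc_a_Cert_tree lc_a_rc_2_2 lc_a_rc_0_1 lc_a_rc_0_1 lc_a_rc_0_1 lc_a_rc_3_2 lc_a_rc_4_2 lc_a_rc_0_1 lc_a_rc_4_2 lc_a_rc_2_2 lc_a_rc_4_2 lc_a_rc_4_2 lc_a_rc_1_4 lc_a_rc_1_4 lc_a_rc_5_0 lc_a_rc_0_1 lc_a_rc_21_0 lc_a_rc_0_1 lc_a_rc_21_0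 lc_a_rc_0_1 lc_a_rc_0_1 lc_a_rc_4_2 lc_a_rc_4_2 lc_a_rc_3_2 lc_a_rc_2_2 lc_a_rc_4_2 lc_a_rc_4_2 lc_a_rc_5_0 lc_a_rc_3_2 lc_a_rc_3_0 lc_a_rc_4_2 lc_a_rc_5_0 lc_a_rc_4_2 lc_a_rc_3_2 lc_a_rc_5_2 lc_a_rc_4_2 lc_a_rc_21_0 lc_a_rc_21_0 lc_a_rc_2_2 lc_a_rc_4_2 lc_a_rc_21_0 lc_a_rc_0_1 lc_a_rc_0_1 lc_a_rc_1_4 lc_a_rc_4_2 lc_a_rc_4_2 lc_a_rc_3_2 lc_a_rc_2_2 lc_a_rc_2_2 lc_a_rc_4_2 lc_a_rc_3_2 lc_a_rc_2_2 lc_a_rc_3_2 lc_a_rc_3_2) (@D3.rec (fun _ => (Cert rels S Gen.a)) lc_a_rc_4_2 lc_a_rc_3_2 lc_a_rc_5_2 lc_a_rc_4_0 lc_a_rc_0_1 lc_a_rc_22_0 lc_a_rc_4_2 lc_a_rc_3_2 lc_a_rc_0_1 lc_a_rc_0_1 lc_a_Cert_tree lc_a_rc_2_2 lc_a_rc_22_0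 lc_a_rc_4_2 lc_a_rc_5_2 lc_a_rc_0_1 lc_a_rc_3_0 lc_a_rc_3_2 lc_a_rc_4_2 lc_a_rc_3_2 lc_a_rc_4_0 lc_a_rc_3_2 lc_a_rc_4_2 lc_a_rc_4_2 lc_a_rc_22_0 lc_a_rc_4_2 lc_a_Cert_tree lc_a_rc_2_2 lc_a_rc_5_0 lc_a_rc_3_2 lc_a_rc_5_2 lc_a_rc_3_2 lc_a_Cert_tree lc_a_Cert_tree lc_a_rc_4_2 lc_a_rc_0_1 lc_a_rc_21_0 lc_a_rc_0_1 lc_a_rc_3_2 lc_a_rc_4_2 lc_a_rc_0_1 lc_a_rc_4_2 lc_a_rc_5_0 lc_a_rc_3_2 lc_a_rc_5_2 lc_a_rc_0_1 lc_a_rc_4_2 lc_a_rc_2_2 lc_a_rc_2_2 lc_a_rc_3_2 lc_a_rc_5_2 lc_a_rc_5_0 lc_a_rc_21_0 lc_a_rc_21_0 lc_a_rc_1_4 lc_a_rc_0_1 lc_a_rc_4_2 lc_a_rc_21_0 lc_a_rc_3_2 lc_a_rc_21_0 lc_a_rc_4_2 lc_a_rc_1_4) (@D3.rec (fun _ => (Cert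 rels S Gen.a)) lc_a_rc_2_2 lc_a_rc_4_2 lc_a_rc_4_2 lc_a_rc_0_1 lc_a_rc_3_2 lc_a_rc_1_2 lc_a_rc_5_2 lc_a_rc_3_2 lc_a_rc_21_0 lc_a_rc_3_2 lc_a_rc_4_2 lc_a_rc_3_2 lc_a_rc_5_0 lc_a_rc_3_2 lc_a_rc_3_0 lc_a_rc_3_2 lc_a_rc_4_2 lc_a_Cert_tree lc_a_rc_3_2 lc_a_rc_4_2 lc_a_rc_21_0 lc_a_rc_3_2 lc_a_rc_2_2 lc_a_rc_1_4 lc_a_rc_5_2 lc_a_rc_21_0 lc_a_rc_1_4 lc_a_rc_0_1 lc_a_rc_4_2 lc_a_rc_5_2 lc_a_rc_3_2 lc_a_rc_5_2 lc_a_rc_2_2 lc_a_rc_21_0 lc_a_rc_0_1 lc_a_rc_3_2 lc_a_rc_5_0 lc_a_rc_4_2 lc_a_rc_3_2 lc_a_rc_0_1 lc_a_rc_3_2 lc_a_rc_3_2 lc_a_rc_5_2 lc_a_rc_21_0 lc_a_rc_4_2 lc_a_rc_1_4 lc_a_rc_0_1 lc_a_rc_4_2 lc_a_rc_0_1 lc_a_rc_3_0 lc_a_rc_0_1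 lc_a_rc_3_2 lc_a_rc_0_1 lc_a_rc_2_2 lc_a_rc_3_2 lc_a_rc_2_2 lc_a_rc_3_2 lc_a_Cert_tree lc_a_rc_21_0 lc_a_rc_2_2 lc_a_rc_2_2 lc_a_rc_3_2) (@D3.rec (fun _ => (Cert rels S Gen.a)) lc_a_Cert_tree lc_a_rc_3_2 lc_a_rc_5_2 lc_a_rc_0_1 lc_a_rc_5_2 lc_a_rc_0_1 lc_a_rc_1_4 lc_a_Cert_tree lc_a_rc_4_2 lc_a_rc_3_2 lc_a_rc_21_0 lc_a_rc_0_1 lc_a_rc_3_2 lc_a_rc_4_2 lc_a_rc_4_2 lc_a_rc_4_2 lc_a_rc_21_0 lc_a_rc_3_2 lc_a_rc_2_2 lc_a_rc_5_0 lc_a_rc_4_2 lc_a_rc_21_0 lc_a_rc_21_0 lc_a_rc_0_1 lc_a_Cert_tree lc_a_rc_2_2 lc_a_rc_4_2 lc_a_rc_3_0 lc_a_rc_4_0 lc_a_rc_4_2 lc_a_Cert_tree lc_a_rc_3_2 lc_a_Cert_tree lc_a_rc_3_2 lc_a_rc_21_0 lc_a_rc_3_2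 lc_a_rc_3_2 lc_a_rc_4_2 lc_a_rc_5_2 lc_a_rc_2_2 lc_a_rc_4_2 lc_a_rc_21_0 lc_a_rc_3_2 lc_a_rc_21_0 lc_a_rc_4_2 lc_a_rc_21_0 lc_a_Cert_tree lc_a_rc_0_1 lc_a_rc_2_2 lc_a_rc_4_2 lc_a_rc_2_2 lc_a_rc_0_1 lc_a_Cert_tree lc_a_rc_21_0 lc_a_rc_5_0 lc_a_rc_3_2 lc_a_rc_5_2 lc_a_rc_2_2 lc_a_rc_21_0 lc_a_rc_0_1 lc_a_rc_3_2 lc_a_rc_4_2) (@D3.rec (fun _ => (Cert rels S Gen.a)) lc_a_rc_4_2 lc_a_rc_2_2 lc_a_rc_3_2 lc_a_rc_5_2 lc_a_rc_4_2 lc_a_rc_21_0 lc_a_rc_1_4 lc_a_rc_0_1 lc_a_rc_4_2 lc_a_rc_4_2 lc_a_rc_3_0 lc_a_rc_0_1 lc_a_rc_21_0 lc_a_Cert_tree lc_a_rc_3_2 lc_a_rc_2_2 lc_a_Cert_tree lc_a_rc_5_0 lc_a_rc_3_2 lc_a_rc_22_0 lc_a_rc_3_2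 lc_a_Cert_tree lc_a_rc_0_1 lc_a_rc_4_2 lc_a_rc_2_2 lc_a_rc_4_2 lc_a_rc_3_2 lc_a_rc_2_2 lc_a_rc_2_2 lc_a_rc_21_0 lc_a_rc_2_2 lc_a_rc_21_0 lc_a_rc_1_4 lc_a_rc_4_2 lc_a_rc_0_1 lc_a_rc_2_0 lc_a_rc_3_2 lc_a_rc_4_2 lc_a_rc_5_0 lc_a_rc_3_2 lc_a_rc_4_2 lc_a_rc_5_2 lc_a_rc_21_0 lc_a_rc_21_0 lc_a_rc_1_4 lc_a_rc_2_2 lc_a_rc_4_2 lc_a_rc_2_2 lc_a_rc_21_0 lc_a_rc_0_1 lc_a_rc_21_0 lc_a_rc_4_2 lc_a_rc_3_2 lc_a_rc_3_2 lc_a_rc_2_2 lc_a_rc_3_2 lc_a_rc_4_2 lc_a_rc_0_1 lc_a_rc_2_2 lc_a_rc_4_2 lc_a_rc_1_2 lc_a_rc_0_1) (@D3.rec (fun _ => (Cert rels S Gen.a)) lc_a_rc_21_0 lc_a_rc_4_2 lc_a_rc_21_0 lc_a_rc_1_4 lc_a_rc_21_0 lc_a_rc_21_0 lc_a_rc_3_2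 lc_a_rc_4_2 lc_a_rc_2_2 lc_a_rc_2_2 lc_a_rc_2_0 lc_a_rc_3_0 lc_a_rc_4_0 lc_a_rc_5_2 lc_a_rc_4_2 lc_a_rc_2_2 lc_a_rc_0_1 lc_a_rc_2_2 lc_a_rc_3_2 lc_a_rc_4_2 lc_a_rc_21_0 lc_a_rc_3_2 lc_a_rc_4_2 lc_a_rc_2_2 lc_a_rc_4_2 lc_a_rc_0_1 lc_a_rc_3_2 lc_a_rc_5_2 lc_a_rc_2_2 lc_a_rc_4_2 lc_a_rc_0_1 lc_a_rc_1_2 lc_a_rc_4_2 lc_a_Cert_tree lc_a_rc_1_2 lc_a_rc_4_2 lc_a_rc_0_1 lc_a_rc_3_2 lc_a_rc_4_2 lc_a_rc_2_2 lc_a_rc_3_0 lc_a_rc_5_2 lc_a_rc_0_1 lc_a_rc_21_0 lc_a_rc_3_2 lc_a_Cert_tree lc_a_rc_3_2 lc_a_rc_4_2 lc_a_rc_3_2 lc_a_rc_2_2 lc_a_rc_2_2 lc_a_rc_21_0 lc_a_rc_21_0 lc_a_rc_22_0 lc_a_rc_3_2 lc_a_rc_2_2 lc_a_rc_21_0 lc_a_rc_3_2 lc_a_rc_2_2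 lc_a_rc_1_4 lc_a_rc_2_2 lc_a_rc_2_2) (@D3.rec (fun _ => (Cert rels S Gen.a)) lc_a_rc_21_0 lc_a_rc_4_2 lc_a_rc_3_2 lc_a_rc_2_2 lc_a_rc_4_2 lc_a_rc_4_2 lc_a_rc_3_0 lc_a_rc_3_2 lc_a_rc_2_2 lc_a_rc_4_2 lc_a_rc_3_2 lc_a_rc_3_0 lc_a_rc_0_1 lc_a_rc_4_2 lc_a_rc_2_2 lc_a_rc_21_0 lc_a_rc_3_2 lc_a_rc_5_2 lc_a_rc_1_4 lc_a_rc_0_1 lc_a_rc_21_0 lc_a_rc_3_0 lc_a_rc_0_1 lc_a_rc_0_1 lc_a_rc_4_2 lc_a_rc_2_2 lc_a_rc_22_0 lc_a_rc_5_2 lc_a_rc_21_0 lc_a_rc_4_2 lc_a_Cert_tree lc_a_rc_4_2 lc_a_rc_2_0 lc_a_rc_2_0 lc_a_rc_2_0 lc_a_rc_21_0 lc_a_rc_3_2 lc_a_rc_22_0 lc_a_rc_3_2 lc_a_rc_4_2 lc_a_Cert_tree lc_a_rc_21_0 lc_a_rc_4_2 lc_a_rc_3_2 lc_a_rc_21_0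 lc_a_rc_4_2 lc_a_rc_5_0 lc_a_rc_4_0 lc_a_rc_5_2 lc_a_rc_2_2 lc_a_rc_21_0 lc_a_rc_0_1 lc_a_rc_5_0 lc_a_rc_5_0 lc_a_rc_3_2 lc_a_rc_5_2 lc_a_rc_21_0 lc_a_rc_3_2 lc_a_rc_21_0 lc_a_rc_4_2 lc_a_Cert_tree lc_a_rc_2_2) (@D3.rec (fun _ => (Cert rels S Gen.a)) lc_a_rc_4_2 lc_a_rc_4_2 lc_a_rc_3_2 lc_a_rc_0_1 lc_a_rc_3_2 lc_a_rc_4_0 lc_a_rc_3_2 lc_a_rc_22_0 lc_a_rc_22_0 lc_a_rc_0_1 lc_a_rc_0_1 lc_a_rc_4_2 lc_a_Cert_tree lc_a_rc_3_2 lc_a_rc_4_2 lc_a_rc_3_2 lc_a_Cert_tree lc_a_rc_3_2 lc_a_rc_21_0 lc_a_rc_21_0 lc_a_rc_21_0 lc_a_rc_1_2 lc_a_rc_2_2 lc_a_rc_1_2 lc_a_rc_3_2 lc_a_rc_5_2 lc_a_rc_3_2 lc_a_rc_21_0 lc_a_rc_0_1 lc_a_rc_3_2 lc_a_rc_4_2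 lc_a_rc_2_2 lc_a_rc_2_2 lc_a_rc_3_2 lc_a_rc_22_0 lc_a_rc_4_2 lc_a_rc_5_0 lc_a_rc_5_2 lc_a_rc_2_2 lc_a_rc_4_2 lc_a_rc_2_2 lc_a_rc_4_2 lc_a_rc_2_2 lc_a_rc_4_2 lc_a_rc_2_2 lc_a_rc_4_2 lc_a_rc_0_1 lc_a_rc_2_2 lc_a_rc_4_0 lc_a_rc_2_2 lc_a_rc_1_2 lc_a_rc_1_2 lc_a_rc_4_2 lc_a_rc_3_2 lc_a_rc_21_0 lc_a_Cert_tree lc_a_rc_4_2 lc_a_rc_21_0 lc_a_rc_4_2 lc_a_rc_5_2 lc_a_rc_5_0 lc_a_Cert_tree) (@D3.rec (fun _ => (Cert rels S Gen.a)) lc_a_rc_3_2 lc_a_rc_2_2 lc_a_rc_4_0 lc_a_rc_5_0 lc_a_rc_4_2 lc_a_rc_5_0 lc_a_rc_3_0 lc_a_rc_0_1 lc_a_rc_3_2 lc_a_rc_3_2 lc_a_rc_3_0 lc_a_rc_4_2 lc_a_rc_21_0 lc_a_rc_0_1 lc_a_rc_0_1 lc_a_rc_5_2 lc_a_rc_4_2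 lc_a_rc_1_2 lc_a_rc_2_2 lc_a_rc_4_2 lc_a_rc_5_2 lc_a_rc_3_2 lc_a_rc_4_2 lc_a_rc_4_2 lc_a_rc_5_2 lc_a_rc_22_0 lc_a_rc_1_4 lc_a_rc_4_2 lc_a_rc_4_2 lc_a_rc_4_2 lc_a_rc_22_0 lc_a_rc_4_2 lc_a_rc_4_2 lc_a_rc_4_2 lc_a_rc_5_2 lc_a_rc_0_1 lc_a_rc_2_2 lc_a_rc_3_2 lc_a_rc_21_0 lc_a_rc_1_4 lc_a_rc_3_2 lc_a_rc_4_2 lc_a_rc_4_2 lc_a_rc_5_0 lc_a_rc_5_2 lc_a_Cert_tree lc_a_rc_5_0 lc_a_rc_2_2 lc_a_rc_21_0 lc_a_rc_3_2 lc_a_rc_5_0 lc_a_rc_0_1 lc_a_rc_1_4 lc_a_rc_0_1 lc_a_rc_4_2 lc_a_rc_2_2 lc_a_rc_2_2 lc_a_rc_2_2 lc_a_rc_5_2 lc_a_rc_4_2 lc_a_rc_0_1 lc_a_rc_5_2) (@D3.rec (fun _ => (Cert rels S Gen.a)) lc_a_rc_3_2 lc_a_rc_4_2 lc_a_rc_4_2 lc_a_rc_0_1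 lc_a_rc_3_2 lc_a_rc_2_2 lc_a_rc_4_2 lc_a_rc_21_0 lc_a_rc_5_2 lc_a_Cert_tree lc_a_rc_4_2 lc_a_rc_5_0 lc_a_Cert_tree lc_a_rc_0_1 lc_a_rc_3_2 lc_a_rc_4_2 lc_a_rc_3_2 lc_a_rc_5_0 lc_a_rc_4_2 lc_a_rc_2_2 lc_a_rc_4_2 lc_a_rc_5_2 lc_a_rc_5_2 lc_a_rc_5_0 lc_a_rc_5_0 lc_a_rc_2_2 lc_a_rc_21_0 lc_a_rc_5_2 lc_a_rc_0_1 lc_a_rc_0_1 lc_a_rc_21_0 lc_a_rc_4_2 lc_a_rc_2_2 lc_a_rc_22_0 lc_a_rc_3_2 lc_a_rc_4_2 lc_a_rc_1_2 lc_a_rc_0_1 lc_a_rc_0_1 lc_a_rc_5_0 lc_a_rc_3_2 lc_a_rc_3_2 lc_a_rc_5_2 lc_a_rc_2_2 lc_a_rc_1_2 lc_a_rc_0_1 lc_a_rc_1_2 lc_a_rc_0_1 lc_a_rc_3_2 lc_a_rc_1_4 lc_a_rc_4_2 lc_a_rc_4_2 lc_a_rc_2_2 lc_a_rc_2_0 lc_a_rc_3_2 lc_a_rc_4_2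 lc_a_rc_2_2 lc_a_rc_0_1 lc_a_rc_21_0 lc_a_rc_21_0 lc_a_rc_2_2 lc_a_rc_3_2) (@D3.rec (fun _ => (Cert rels S Gen.a)) lc_a_rc_21_0 lc_a_rc_5_0 lc_a_rc_5_0 lc_a_rc_4_2 lc_a_rc_4_2 lc_a_rc_21_0 lc_a_rc_21_0 lc_a_Cert_tree lc_a_rc_22_0 lc_a_rc_3_2 lc_a_rc_1_0 lc_a_rc_2_2 lc_a_rc_1_2 lc_a_rc_2_2 lc_a_rc_2_2 lc_a_rc_2_2 lc_a_rc_0_1 lc_a_rc_4_2 lc_a_rc_3_2 lc_a_rc_1_4 lc_a_rc_1_0 lc_a_rc_21_0 lc_a_rc_2_2 lc_a_rc_3_2 lc_a_rc_3_2 lc_a_rc_3_2 lc_a_rc_21_0 lc_a_rc_3_2 lc_a_rc_2_2 lc_a_rc_0_1 lc_a_rc_4_2 lc_a_rc_0_1 lc_a_rc_3_2 lc_a_rc_2_2 lc_a_rc_4_2 lc_a_rc_2_2 lc_a_rc_3_2 lc_a_Cert_tree lc_a_rc_3_2 lc_a_rc_2_2 lc_a_rc_4_2 lc_a_rc_2_2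 lc_a_rc_4_2 lc_a_rc_3_2 lc_a_rc_21_0 lc_a_rc_2_2 lc_a_rc_3_2 lc_a_rc_4_2 lc_a_rc_21_0 lc_a_rc_2_2 lc_a_rc_4_2 lc_a_rc_0_1 lc_a_rc_3_2 lc_a_rc_1_4 lc_a_rc_3_2 lc_a_rc_4_2 lc_a_rc_21_0 lc_a_rc_3_2 lc_a_rc_22_0 lc_a_rc_2_0 lc_a_rc_0_1 lc_a_rc_4_2) (@D3.rec (fun _ => (Cert rels S Gen.a)) lc_a_rc_3_2 lc_a_rc_5_0 lc_a_rc_3_2 lc_a_rc_21_0 lc_a_rc_4_2 lc_a_rc_0_1 lc_a_rc_1_4 lc_a_rc_3_2 lc_a_rc_3_2 lc_a_Cert_tree lc_a_rc_2_2 lc_a_rc_4_2 lc_a_rc_3_2 lc_a_rc_3_2 lc_a_Cert_tree lc_a_rc_3_2 lc_a_rc_4_2 lc_a_rc_0_1 lc_a_rc_0_1 lc_a_rc_21_0 lc_a_rc_2_2 lc_a_rc_4_2 lc_a_rc_0_1 lc_a_rc_0_1 lc_a_rc_3_2 lc_a_rc_4_2 lc_a_Cert_tree lc_a_rc_5_0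 lc_a_Cert_tree lc_a_rc_3_2 lc_a_Cert_tree lc_a_rc_3_2 lc_a_rc_4_2 lc_a_rc_4_2 lc_a_rc_5_2 lc_a_Cert_tree lc_a_rc_0_1 lc_a_rc_0_1 lc_a_rc_3_2 lc_a_rc_2_0 lc_a_rc_4_2 lc_a_rc_4_2 lc_a_rc_3_2 lc_a_rc_4_2 lc_a_rc_4_0 lc_a_rc_4_2 lc_a_rc_3_2 lc_a_rc_21_0 lc_a_rc_4_2 lc_a_rc_4_2 lc_a_rc_4_2 lc_a_rc_5_2 lc_a_rc_2_2 lc_a_rc_2_2 lc_a_rc_2_2 lc_a_rc_3_2 lc_a_Cert_tree lc_a_rc_3_2 lc_a_rc_3_0 lc_a_Cert_tree lc_a_rc_21_0 lc_a_rc_0_1) (@D3.rec (fun _ => (Cert rels S Gen.a)) lc_a_rc_21_0 lc_a_rc_0_1 lc_a_rc_0_1 lc_a_rc_3_2 lc_a_rc_5_0 lc_a_rc_0_1 lc_a_rc_4_2 lc_a_rc_4_2 lc_a_rc_5_0 lc_a_rc_21_0 lc_a_rc_4_2 lc_a_rc_21_0 lc_a_rc_0_1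 lc_a_Cert_tree lc_a_rc_21_0 lc_a_Cert_tree lc_a_rc_4_2 lc_a_rc_21_0 lc_a_rc_3_2 lc_a_rc_0_1 lc_a_rc_2_0 lc_a_rc_4_2 lc_a_rc_4_2 lc_a_rc_0_1 lc_a_rc_3_2 lc_a_rc_5_0 lc_a_rc_4_2 lc_a_rc_21_0 lc_a_Cert_tree lc_a_rc_4_2 lc_a_rc_21_0 lc_a_rc_0_1 lc_a_rc_0_1 lc_a_rc_21_0 lc_a_rc_4_2 lc_a_rc_3_0 lc_a_rc_0_1 lc_a_rc_4_2 lc_a_rc_4_2 lc_a_rc_5_0 lc_a_rc_3_2 lc_a_rc_5_2 lc_a_rc_2_2 lc_a_rc_3_2 lc_a_rc_21_0 lc_a_rc_1_4 lc_a_rc_21_0 lc_a_rc_5_2 lc_a_rc_21_0 lc_a_rc_0_1 lc_a_rc_0_1 lc_a_rc_5_0 lc_a_rc_4_2 lc_a_rc_4_2 lc_a_rc_4_2 lc_a_rc_21_0 lc_a_rc_3_2 lc_a_rc_5_2 lc_a_rc_21_0 lc_a_rc_2_2 lc_a_rc_21_0 lc_a_rc_0_1) (@D3.rec (fun _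 => (Cert rels S Gen.a)) lc_a_rc_4_2 lc_a_rc_3_2 lc_a_rc_4_2 lc_a_rc_3_2 lc_a_rc_4_0 lc_a_rc_4_2 lc_a_rc_3_2 lc_a_rc_5_2 lc_a_rc_0_1 lc_a_rc_1_2 lc_a_rc_3_2 lc_a_rc_4_2 lc_a_rc_21_0 lc_a_Cert_tree lc_a_rc_1_4 lc_a_rc_3_2 lc_a_rc_3_0 lc_a_rc_3_0 lc_a_rc_21_0 lc_a_rc_4_2 lc_a_rc_3_0 lc_a_rc_4_2 lc_a_rc_1_4 lc_a_rc_3_2 lc_a_rc_4_2 lc_a_Cert_tree lc_a_rc_4_2 lc_a_rc_1_0 lc_a_rc_1_0 lc_a_rc_5_2 lc_a_rc_4_2 lc_a_rc_21_0 lc_a_rc_3_2 lc_a_rc_2_2 lc_a_rc_4_2 lc_a_rc_3_2 lc_a_rc_21_0 lc_a_rc_21_0 lc_a_rc_21_0 lc_a_rc_2_2 lc_a_rc_21_0 lc_a_rc_4_2 lc_a_rc_2_2 lc_a_rc_3_2 lc_a_rc_5_2 lc_a_Cert_tree lc_a_Cert_tree lc_a_rc_5_0 lc_a_rc_0_1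 lc_a_rc_21_0 lc_a_rc_0_1 lc_a_rc_22_0 lc_a_rc_21_0 lc_a_rc_4_2 lc_a_rc_3_2 lc_a_rc_2_2 lc_a_rc_1_4 lc_a_rc_21_0 lc_a_rc_4_2 lc_a_rc_4_2 lc_a_rc_21_0 lc_a_rc_2_2) (@D3.rec (fun _ => (Cert rels S Gen.a)) lc_a_rc_3_2 lc_a_rc_3_2 lc_a_rc_4_2 lc_a_rc_4_2 lc_a_rc_4_2 lc_a_rc_21_0 lc_a_rc_21_0 lc_a_rc_5_0 lc_a_rc_4_2 lc_a_rc_21_0 lc_a_rc_4_2 lc_a_rc_1_2 lc_a_rc_2_2 lc_a_rc_4_2 lc_a_rc_3_2 lc_a_rc_4_2 lc_a_rc_21_0 lc_a_rc_0_1 lc_a_rc_4_2 lc_a_rc_3_0 lc_a_rc_3_2 lc_a_rc_5_2 lc_a_rc_2_2 lc_a_rc_0_1 lc_a_rc_0_1 lc_a_rc_2_2 lc_a_rc_0_1 lc_a_rc_2_2 lc_a_rc_2_0 lc_a_rc_0_1 lc_a_rc_21_0 lc_a_rc_21_0 lc_a_rc_1_4 lc_a_rc_3_0 lc_a_rc_3_2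 lc_a_rc_4_0 lc_a_rc_22_0 lc_a_rc_0_1 lc_a_rc_4_2 lc_a_rc_2_2 lc_a_rc_3_2 lc_a_rc_3_2 lc_a_rc_4_2 lc_a_rc_21_0 lc_a_rc_0_1 lc_a_Cert_tree lc_a_rc_3_2 lc_a_rc_21_0 lc_a_rc_3_2 lc_a_Cert_tree lc_a_rc_2_2 lc_a_rc_3_2 lc_a_rc_1_4 lc_a_Cert_tree lc_a_rc_3_0 lc_a_rc_21_0 lc_a_rc_22_0 lc_a_rc_4_2 lc_a_rc_4_2 lc_a_rc_5_2 lc_a_rc_5_2 lc_a_rc_3_2) (@D3.rec (fun _ => (Cert rels S Gen.a)) lc_a_rc_0_1 lc_a_rc_21_0 lc_a_rc_0_1 lc_a_rc_3_2 lc_a_rc_4_2 lc_a_rc_5_0 lc_a_rc_2_2 lc_a_rc_2_2 lc_a_rc_0_1 lc_a_rc_21_0 lc_a_rc_0_1 lc_a_rc_4_2 lc_a_rc_4_2 lc_a_rc_21_0 lc_a_rc_3_2 lc_a_rc_5_2 lc_a_rc_4_2 lc_a_rc_4_2 lc_a_rc_0_1 lc_a_rc_21_0 lc_a_rc_0_1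 lc_a_rc_0_1 lc_a_rc_3_2 lc_a_rc_4_2 lc_a_rc_4_2 lc_a_rc_4_2 lc_a_rc_3_2 lc_a_rc_5_2 lc_a_rc_2_2 lc_a_rc_0_1 lc_a_rc_21_0 lc_a_rc_0_1 lc_a_rc_4_2 lc_a_rc_21_0 lc_a_rc_0_1 lc_a_rc_0_1 lc_a_rc_3_2 lc_a_rc_21_0 lc_a_rc_3_0 lc_a_rc_5_2 lc_a_rc_0_1 lc_a_rc_0_1 lc_a_rc_0_1 lc_a_rc_3_2 lc_a_rc_4_2 lc_a_rc_5_2 lc_a_rc_1_2 lc_a_rc_2_2 lc_a_rc_4_2 lc_a_rc_5_2 lc_a_rc_4_2 lc_a_Cert_tree lc_a_rc_4_2 lc_a_Cert_tree lc_a_rc_4_2 lc_a_Cert_tree lc_a_rc_4_2 lc_a_rc_5_0 lc_a_rc_3_2 lc_a_rc_5_2 lc_a_rc_4_2 lc_a_rc_3_2) (@D3.rec (fun _ => (Cert rels S Gen.a)) lc_a_rc_0_1 lc_a_rc_4_2 lc_a_rc_5_2 lc_a_rc_3_2 lc_a_rc_5_2 lc_a_rc_0_1 lc_a_rc_21_0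 lc_a_rc_0_1 lc_a_rc_3_2 lc_a_rc_4_2 lc_a_rc_0_1 lc_a_rc_0_1 lc_a_rc_21_0 lc_a_rc_0_1 lc_a_rc_0_1 lc_a_rc_3_2 lc_a_rc_21_0 lc_a_rc_4_2 lc_a_rc_4_2 lc_a_rc_3_2 lc_a_rc_2_0 lc_a_rc_2_0 lc_a_rc_0_1 lc_a_rc_3_2 lc_a_rc_1_2 lc_a_rc_4_2 lc_a_rc_2_2 lc_a_rc_21_0 lc_a_rc_0_1 lc_a_rc_0_1 lc_a_rc_3_2 lc_a_rc_4_2 lc_a_rc_21_0 lc_a_rc_2_2 lc_a_rc_5_2 lc_a_rc_2_2 lc_a_rc_3_2 lc_a_rc_2_2 lc_a_rc_21_0 lc_a_rc_0_1 lc_a_rc_0_1 lc_a_rc_3_2 lc_a_rc_4_2 lc_a_rc_4_2 lc_a_rc_2_0 lc_a_rc_4_2 lc_a_rc_0_1 lc_a_rc_21_0 lc_a_rc_0_1 lc_a_rc_2_0 lc_a_rc_4_2 lc_a_rc_3_2 lc_a_rc_5_2 lc_a_rc_0_1 lc_a_rc_0_1 lc_a_Cert_tree lc_a_rc_2_2 lc_a_rc_3_2 lc_a_rc_4_2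 lc_a_rc_5_2 lc_a_rc_3_2 lc_a_rc_3_0) (@D3.rec (fun _ => (Cert rels S Gen.a)) lc_a_rc_1_4 lc_a_rc_0_1 lc_a_rc_22_0 lc_a_rc_4_2 lc_a_Cert_tree lc_a_rc_4_2 lc_a_rc_22_0 lc_a_rc_4_2 lc_a_Cert_tree lc_a_rc_2_2 lc_a_rc_5_0 lc_a_rc_3_2 lc_a_rc_5_2 lc_a_rc_4_2 lc_a_rc_3_2 lc_a_rc_4_0 lc_a_rc_2_2 lc_a_rc_4_2 lc_a_rc_5_2 lc_a_Cert_tree lc_a_rc_2_2 lc_a_rc_21_0 lc_a_rc_5_2 lc_a_rc_1_2 lc_a_rc_1_4 lc_a_rc_5_0 lc_a_rc_0_1 lc_a_rc_3_2 lc_a_rc_21_0 lc_a_rc_4_2 lc_a_rc_5_0 lc_a_rc_2_2 lc_a_rc_22_0 lc_a_rc_5_2 lc_a_rc_2_2 lc_a_rc_0_1 lc_a_rc_0_1 lc_a_rc_21_0 lc_a_rc_0_1 lc_a_rc_3_2 lc_a_rc_4_2 lc_a_rc_4_2 lc_a_rc_22_0 lc_a_rc_21_0 lc_a_rc_2_2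 lc_a_rc_4_2 lc_a_rc_21_0 lc_a_rc_0_1 lc_a_rc_0_1 lc_a_rc_3_2 lc_a_rc_2_2 lc_a_rc_4_2 lc_a_rc_5_0 lc_a_rc_2_2 lc_a_rc_3_2 lc_a_rc_5_2 lc_a_rc_2_2 lc_a_rc_1_4 lc_a_rc_22_0 lc_a_rc_2_2 lc_a_rc_0_1 lc_a_rc_3_2) (@D3.rec (fun _ => (Cert rels S Gen.a)) lc_a_rc_4_2 lc_a_rc_4_2 lc_a_rc_4_2 lc_a_rc_4_2 lc_a_rc_3_2 lc_a_rc_21_0 lc_a_rc_4_2 lc_a_rc_0_1 lc_a_rc_2_2 lc_a_rc_21_0 lc_a_rc_0_1 lc_a_rc_3_2 lc_a_rc_2_2 lc_a_rc_4_2 lc_a_rc_3_2 lc_a_rc_5_2 lc_a_rc_21_0 lc_a_rc_0_1 lc_a_rc_0_1 lc_a_rc_3_0 lc_a_rc_3_2 lc_a_rc_5_2 lc_a_rc_0_1 lc_a_Cert_tree lc_a_rc_2_2 lc_a_rc_3_2 lc_a_rc_4_2 lc_a_rc_5_2 lc_a_rc_2_0 lc_a_rc_2_2 lc_a_rc_2_0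 lc_a_rc_3_2 lc_a_rc_3_2 lc_a_rc_5_0 lc_a_rc_3_0 lc_a_rc_2_2 lc_a_rc_4_2 lc_a_Cert_tree lc_a_rc_4_2 lc_a_rc_5_2 lc_a_rc_4_2 lc_a_rc_5_0 lc_a_rc_5_2 lc_a_Cert_tree lc_a_rc_5_0 lc_a_rc_3_2 lc_a_rc_0_1 lc_a_rc_3_2 lc_a_rc_5_2 lc_a_rc_4_2 lc_a_rc_2_0 lc_a_rc_3_2 lc_a_rc_0_1 lc_a_rc_3_2 lc_a_rc_4_2 lc_a_rc_21_0 lc_a_rc_0_1 lc_a_rc_5_2 lc_a_rc_21_0 lc_a_rc_2_2 lc_a_rc_0_1 lc_a_rc_21_0) (@D3.rec (fun _ => (Cert rels S Gen.a)) lc_a_rc_3_2 lc_a_rc_5_2 lc_a_rc_5_0 lc_a_rc_21_0 lc_a_rc_4_2 lc_a_rc_0_1 lc_a_rc_21_0 lc_a_rc_0_1 lc_a_rc_3_2 lc_a_rc_1_2 lc_a_rc_2_2 lc_a_rc_2_2 lc_a_rc_2_2 lc_a_rc_3_2 lc_a_rc_2_2 lc_a_rc_2_2 lc_a_rc_0_1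 lc_a_rc_21_0 lc_a_rc_0_1 lc_a_rc_21_0 lc_a_rc_0_1 lc_a_rc_3_2 lc_a_rc_5_2 lc_a_rc_21_0 lc_a_rc_0_1 lc_a_rc_0_1 lc_a_rc_3_2 lc_a_rc_4_2 lc_a_rc_2_2 lc_a_rc_3_2 lc_a_rc_21_0 lc_a_rc_4_2 lc_a_Cert_tree lc_a_rc_2_2 lc_a_rc_0_1 lc_a_rc_4_2 lc_a_rc_3_2 lc_a_rc_4_2 lc_a_rc_3_2 lc_a_rc_0_1 lc_a_rc_2_2 lc_a_rc_4_2 lc_a_rc_21_0 lc_a_rc_4_0 lc_a_rc_3_2 lc_a_rc_5_2 lc_a_rc_2_0 lc_a_rc_4_2 lc_a_Cert_tree lc_a_rc_4_2 lc_a_rc_4_2 lc_a_rc_4_2 lc_a_rc_4_2 lc_a_rc_5_2 lc_a_rc_4_2 lc_a_rc_5_0 lc_a_Cert_tree lc_a_rc_3_2 lc_a_rc_2_2 lc_a_rc_3_2 lc_a_rc_5_0 lc_a_rc_22_0) (@D3.rec (fun _ => (Cert rels S Gen.a)) lc_a_rc_22_0 lc_a_rc_21_0 lc_a_rc_2_2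 lc_a_rc_5_0 lc_a_rc_5_0 lc_a_rc_21_0 lc_a_rc_3_2 lc_a_rc_21_0 lc_a_rc_2_2 lc_a_rc_3_2 lc_a_rc_2_2 lc_a_rc_5_0 lc_a_rc_4_2 lc_a_rc_3_2 lc_a_rc_5_2 lc_a_rc_2_2 lc_a_rc_21_0 lc_a_rc_4_2 lc_a_rc_21_0 lc_a_rc_0_1 lc_a_rc_0_1 lc_a_rc_4_2 lc_a_rc_21_0 lc_a_rc_4_2 lc_a_rc_5_2 lc_a_rc_3_2 lc_a_rc_4_2 lc_a_rc_4_2 lc_a_rc_3_2 lc_a_rc_5_2 lc_a_rc_0_1 lc_a_rc_3_0 lc_a_rc_0_1 lc_a_rc_2_0 lc_a_rc_2_2 lc_a_rc_4_2 lc_a_rc_0_1 lc_a_rc_3_2 lc_a_rc_5_2 lc_a_rc_1_0 lc_a_rc_5_0 lc_a_Cert_tree lc_a_rc_2_2 lc_a_rc_3_2 lc_a_rc_2_2 lc_a_rc_0_1 lc_a_rc_5_2 lc_a_rc_3_2 lc_a_rc_21_0 lc_a_rc_0_1 lc_a_rc_21_0 lc_a_rc_4_2 lc_a_rc_4_2 lc_a_rc_21_0 lc_a_Cert_tree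 lc_a_Cert_tree lc_a_rc_2_2 lc_a_rc_3_2 lc_a_rc_1_4 lc_a_rc_0_1 lc_a_rc_1_2 lc_a_rc_3_2) (@D3.rec (fun _ => (Cert rels S Gen.a)) lc_a_rc_4_2 lc_a_rc_3_2 lc_a_rc_4_2 lc_a_rc_2_2 lc_a_rc_2_0 lc_a_rc_2_2 lc_a_rc_1_2 lc_a_rc_0_1 lc_a_rc_4_0 lc_a_rc_3_2 lc_a_rc_5_2 lc_a_rc_4_2 lc_a_rc_4_2 lc_a_rc_5_2 lc_a_Cert_tree lc_a_rc_3_2 lc_a_rc_4_2 lc_a_rc_2_2 lc_a_rc_3_2 lc_a_rc_4_0 lc_a_rc_3_2 lc_a_rc_22_0 lc_a_rc_3_2 lc_a_rc_0_1 lc_a_rc_3_2 lc_a_rc_1_2 lc_a_rc_3_2 lc_a_rc_21_0 lc_a_rc_0_1 lc_a_rc_21_0 lc_a_rc_2_2 lc_a_Cert_tree lc_a_rc_3_2 lc_a_rc_5_2 lc_a_rc_2_2 lc_a_rc_21_0 lc_a_rc_0_1 lc_a_rc_3_2 lc_a_rc_4_2 lc_a_rc_21_0 lc_a_rc_2_2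 lc_a_rc_0_1 lc_a_rc_3_2 lc_a_rc_5_2 lc_a_rc_4_2 lc_a_rc_4_2 lc_a_rc_3_2 lc_a_rc_3_2 lc_a_rc_21_0 lc_a_rc_0_1 lc_a_rc_0_1 lc_a_rc_5_0 lc_a_rc_1_4 lc_a_rc_0_1 lc_a_rc_22_0 lc_a_rc_3_2 lc_a_rc_1_0 lc_a_rc_1_2 lc_a_rc_5_2 lc_a_rc_3_2 lc_a_rc_4_2 lc_a_rc_2_0) (@D3.rec (fun _ => (Cert rels S Gen.a)) lc_a_rc_0_1 lc_a_rc_2_2 lc_a_rc_4_2 lc_a_rc_0_1 lc_a_rc_1_0 lc_a_rc_3_2 lc_a_rc_5_2 lc_a_Cert_tree lc_a_Cert_tree lc_a_rc_2_0 lc_a_rc_2_2 lc_a_rc_4_2 lc_a_rc_5_2 lc_a_rc_5_0 lc_a_rc_3_2 lc_a_Cert_tree lc_a_rc_1_2 lc_a_rc_2_2 lc_a_rc_3_2 lc_a_rc_5_0 lc_a_rc_2_2 lc_a_rc_21_0 lc_a_rc_3_0 lc_a_rc_3_2 lc_a_rc_2_2 lc_a_rc_5_2 lc_a_rc_2_2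 lc_a_Cert_tree lc_a_rc_3_2 lc_a_rc_5_2 lc_a_rc_3_2 lc_a_rc_3_0 lc_a_rc_0_1 lc_a_rc_21_0 lc_a_rc_4_2 lc_a_rc_2_2 lc_a_rc_3_2 lc_a_rc_1_4 lc_a_rc_4_2 lc_a_rc_21_0 lc_a_rc_2_2 lc_a_rc_0_1 lc_a_Cert_tree lc_a_rc_2_2 lc_a_rc_1_4 lc_a_rc_3_0 lc_a_rc_4_2 lc_a_rc_3_2 lc_a_rc_4_2 lc_a_rc_1_2 lc_a_rc_4_0 lc_a_rc_0_1 lc_a_rc_4_2 lc_a_rc_0_1 lc_a_rc_3_0 lc_a_rc_5_0 lc_a_rc_4_2 lc_a_rc_0_1 lc_a_rc_1_4 lc_a_rc_22_0 lc_a_rc_21_0 lc_a_rc_21_0) (@D3.rec (fun _ => (Cert rels S Gen.a)) lc_a_rc_3_2 lc_a_rc_3_2 lc_a_rc_3_2 lc_a_rc_21_0 lc_a_rc_21_0 lc_a_rc_21_0 lc_a_rc_1_4 lc_a_rc_3_2 lc_a_rc_4_2 lc_a_rc_2_2 lc_a_rc_5_0 lc_a_rc_1_4 lc_a_rc_2_2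 lc_a_rc_2_2 lc_a_rc_2_2 lc_a_rc_3_2 lc_a_rc_4_2 lc_a_rc_1_4 lc_a_rc_2_2 lc_a_rc_3_2 lc_a_rc_2_2 lc_a_rc_3_2 lc_a_rc_4_2 lc_a_rc_21_0 lc_a_rc_1_0 lc_a_rc_2_0 lc_a_rc_4_2 lc_a_rc_0_1 lc_a_rc_2_0 lc_a_rc_5_0 lc_a_rc_2_0 lc_a_rc_4_2 lc_a_rc_1_4 lc_a_rc_5_2 lc_a_rc_5_0 lc_a_rc_5_2 lc_a_rc_21_0 lc_a_rc_21_0 lc_a_rc_21_0 lc_a_rc_4_0 lc_a_rc_4_2 lc_a_rc_3_0 lc_a_rc_3_2 lc_a_rc_5_0 lc_a_rc_2_2 lc_a_rc_3_2 lc_a_rc_1_4 lc_a_rc_3_2 lc_a_rc_3_2 lc_a_rc_3_2 lc_a_rc_21_0 lc_a_rc_4_0 lc_a_rc_4_2 lc_a_rc_3_2 lc_a_rc_4_2 lc_a_rc_2_2 lc_a_rc_2_2 lc_a_rc_2_2 lc_a_rc_2_2 lc_a_rc_1_4 lc_a_rc_21_0 lc_a_rc_3_2) (@D3.rec (fun _ => (Cert rels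 S Gen.a)) lc_a_rc_5_2 lc_a_rc_4_0 lc_a_rc_1_2 lc_a_rc_0_1 lc_a_rc_22_0 lc_a_rc_3_2 lc_a_rc_3_2 lc_a_rc_0_1 lc_a_rc_22_0 lc_a_rc_3_2 lc_a_rc_5_2 lc_a_rc_3_2 lc_a_rc_4_2 lc_a_rc_3_2 lc_a_rc_0_1 lc_a_rc_3_2 lc_a_rc_4_2 lc_a_rc_0_1 lc_a_rc_2_2 lc_a_rc_4_2 lc_a_rc_4_0 lc_a_rc_3_2 lc_a_rc_21_0 lc_a_rc_0_1 lc_a_rc_1_0 lc_a_rc_3_2 lc_a_rc_2_2 lc_a_rc_4_2 lc_a_rc_21_0 lc_a_rc_2_2 lc_a_rc_4_2 lc_a_Cert_tree lc_a_rc_2_2 lc_a_rc_4_2 lc_a_Cert_tree lc_a_rc_2_2 lc_a_rc_3_2 lc_a_rc_4_0 lc_a_Cert_tree lc_a_rc_2_2 lc_a_rc_1_4 lc_a_rc_1_2 lc_a_rc_3_2 lc_a_rc_0_1 lc_a_rc_2_2 lc_a_rc_4_2 lc_a_rc_5_0 lc_a_rc_4_0 lc_a_rc_3_2 lc_a_rc_5_2 lc_a_rc_0_1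 lc_a_rc_21_0 lc_a_rc_21_0 lc_a_rc_0_1 lc_a_rc_3_2 lc_a_rc_5_2 lc_a_rc_21_0 lc_a_rc_3_2 lc_a_rc_0_1 lc_a_rc_0_1 lc_a_rc_3_2 lc_a_rc_3_0) (@D3.rec (fun _ => (Cert rels S Gen.a)) lc_a_rc_0_1 lc_a_rc_0_1 lc_a_rc_5_0 lc_a_rc_21_0 lc_a_rc_21_0 lc_a_rc_0_1 lc_a_rc_3_2 lc_a_rc_3_2 lc_a_rc_3_2 lc_a_rc_3_2 lc_a_rc_4_2 lc_a_rc_2_2 lc_a_rc_3_2 lc_a_rc_2_2 lc_a_rc_21_0 lc_a_rc_3_2 lc_a_rc_0_1 lc_a_rc_1_4 lc_a_rc_2_2 lc_a_rc_4_2 lc_a_rc_3_2 lc_a_rc_5_0 lc_a_rc_21_0 lc_a_rc_3_2 lc_a_rc_21_0 lc_a_rc_2_2 lc_a_rc_3_2 lc_a_rc_0_1 lc_a_rc_0_1 lc_a_rc_2_2 lc_a_rc_5_0 lc_a_rc_3_2 lc_a_rc_2_2 lc_a_rc_3_2 lc_a_rc_5_0 lc_a_rc_21_0 lc_a_rc_0_1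 lc_a_rc_21_0 lc_a_rc_1_2 lc_a_rc_4_2 lc_a_rc_21_0 lc_a_rc_4_2 lc_a_rc_3_2 lc_a_rc_5_2 lc_a_rc_5_0 lc_a_rc_4_2 lc_a_rc_3_2 lc_a_Cert_tree lc_a_rc_21_0 lc_a_rc_4_2 lc_a_rc_4_2 lc_a_rc_3_2 lc_a_rc_5_2 lc_a_rc_2_2 lc_a_rc_21_0 lc_a_rc_0_1 lc_a_rc_4_2 lc_a_rc_3_2 lc_a_rc_5_2 lc_a_rc_2_2 lc_a_rc_3_2 lc_a_rc_3_2) (@D3.rec (fun _ => (Cert rels S Gen.a)) lc_a_rc_3_0 lc_a_rc_0_1 lc_a_rc_3_2 lc_a_rc_4_2 lc_a_rc_4_2 lc_a_rc_5_0 lc_a_rc_4_2 lc_a_rc_3_2 lc_a_rc_5_2 lc_a_rc_21_0 lc_a_rc_21_0 lc_a_rc_3_2 lc_a_rc_21_0 lc_a_rc_2_2 lc_a_rc_0_1 lc_a_rc_3_2 lc_a_rc_4_2 lc_a_rc_4_2 lc_a_rc_0_1 lc_a_rc_3_2 lc_a_rc_2_2 lc_a_rc_0_1 lc_a_rc_21_0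 lc_a_rc_0_1 lc_a_rc_3_2 lc_a_rc_4_2 lc_a_rc_4_2 lc_a_rc_3_2 lc_a_rc_3_2 lc_a_rc_21_0 lc_a_rc_2_2 lc_a_rc_0_1 lc_a_rc_3_2 lc_a_rc_4_2 lc_a_rc_4_2 lc_a_rc_3_2 lc_a_Cert_tree lc_a_rc_4_2 lc_a_rc_21_0 lc_a_rc_21_0 lc_a_rc_1_0 lc_a_rc_22_0 lc_a_rc_2_0 lc_a_rc_4_2 lc_a_rc_3_0 lc_a_rc_4_2 lc_a_rc_2_2 lc_a_rc_3_2 lc_a_rc_3_2 lc_a_rc_4_2 lc_a_Cert_tree lc_a_rc_0_1 lc_a_rc_0_1 lc_a_Cert_tree lc_a_rc_4_2 lc_a_rc_3_2 lc_a_rc_2_2 lc_a_rc_3_2 lc_a_rc_5_0 lc_a_rc_2_2 lc_a_rc_4_0 lc_a_rc_2_2) (@D3.rec (fun _ => (Cert rels S Gen.a)) lc_a_rc_2_0 lc_a_rc_5_0 lc_a_rc_0_1 lc_a_rc_3_2 lc_a_rc_21_0 lc_a_rc_2_2 lc_a_rc_2_2 lc_a_rc_4_2 lc_a_rc_2_2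 lc_a_Cert_tree lc_a_rc_21_0 lc_a_rc_3_2 lc_a_Cert_tree lc_a_rc_5_0 lc_a_rc_2_2 lc_a_rc_21_0 lc_a_rc_3_2 lc_a_rc_21_0 lc_a_rc_3_2 lc_a_rc_21_0 lc_a_rc_0_1 lc_a_rc_0_1 lc_a_rc_1_2 lc_a_rc_1_2 lc_a_rc_4_2 lc_a_rc_3_2 lc_a_rc_3_2 lc_a_rc_21_0 lc_a_rc_0_1 lc_a_rc_0_1 lc_a_rc_0_1 lc_a_rc_21_0 lc_a_rc_5_0 lc_a_rc_3_2 lc_a_rc_0_1 lc_a_rc_4_2 lc_a_rc_5_0 lc_a_rc_3_2 lc_a_rc_5_2 lc_a_rc_2_2 lc_a_rc_3_2 lc_a_rc_21_0 lc_a_rc_1_4 lc_a_rc_4_2 lc_a_rc_4_2 lc_a_rc_4_2 lc_a_rc_4_2 lc_a_rc_5_0 lc_a_rc_4_0 lc_a_rc_3_2 lc_a_rc_0_1 lc_a_Cert_tree lc_a_rc_3_2 lc_a_rc_3_2 lc_a_rc_3_2 lc_a_rc_2_2 lc_a_rc_0_1 lc_a_rc_22_0 lc_a_rc_3_2 lc_a_rc_5_0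 lc_a_rc_5_0 lc_a_rc_4_2) (@D3.rec (fun _ => (Cert rels S Gen.a)) lc_a_rc_2_2 lc_a_rc_3_2 lc_a_rc_21_0 lc_a_rc_0_1 lc_a_Cert_tree lc_a_rc_3_2 lc_a_rc_5_2 lc_a_rc_21_0 lc_a_rc_0_1 lc_a_rc_0_1 lc_a_rc_3_2 lc_a_rc_21_0 lc_a_rc_21_0 lc_a_rc_3_2 lc_a_rc_2_2 lc_a_rc_0_1 lc_a_rc_21_0 lc_a_Cert_tree lc_a_rc_21_0 lc_a_rc_0_1 lc_a_rc_0_1 lc_a_rc_21_0 lc_a_rc_21_0 lc_a_rc_21_0 lc_a_rc_4_2 lc_a_rc_0_1 lc_a_rc_21_0 lc_a_rc_0_1 lc_a_rc_0_1 lc_a_rc_3_2 lc_a_rc_1_2 lc_a_rc_4_2 lc_a_rc_5_0 lc_a_rc_4_2 lc_a_rc_3_2 lc_a_rc_5_2 lc_a_rc_21_0 lc_a_rc_2_2 lc_a_rc_3_0 lc_a_rc_21_0 lc_a_rc_0_1 lc_a_rc_4_2 lc_a_rc_3_2 lc_a_rc_21_0 lc_a_rc_0_1 lc_a_rc_1_2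 lc_a_rc_4_2 lc_a_Cert_tree lc_a_rc_3_2 lc_a_rc_3_2 lc_a_rc_2_0 lc_a_rc_3_2 lc_a_rc_0_1 lc_a_rc_3_2 lc_a_Cert_tree lc_a_rc_4_2 lc_a_rc_5_0 lc_a_rc_4_2 lc_a_rc_3_2 lc_a_rc_3_2 lc_a_rc_3_2 lc_a_rc_5_2) (@D3.rec (fun _ => (Cert rels S Gen.a)) lc_a_rc_5_0 lc_a_rc_5_0 lc_a_rc_3_2 lc_a_rc_5_0 lc_a_rc_2_2 lc_a_rc_4_2 lc_a_rc_2_2 lc_a_rc_2_2 lc_a_rc_3_2 lc_a_rc_5_0 lc_a_rc_2_2 lc_a_rc_5_2 lc_a_rc_22_0 lc_a_rc_0_1 lc_a_rc_21_0 lc_a_rc_3_2 lc_a_rc_5_0 lc_a_rc_21_0 lc_a_Cert_tree lc_a_rc_3_2 lc_a_rc_21_0 lc_a_rc_2_2 lc_a_rc_3_0 lc_a_rc_3_2 lc_a_rc_1_2 lc_a_rc_4_2 lc_a_rc_21_0 lc_a_rc_5_2 lc_a_rc_2_2 lc_a_Cert_tree lc_a_rc_4_0 lc_a_rc_0_1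 lc_a_rc_3_2 lc_a_rc_4_2 lc_a_rc_0_1 lc_a_rc_1_2 lc_a_rc_1_4 lc_a_rc_4_2 lc_a_rc_4_2 lc_a_rc_3_2 lc_a_rc_5_2 lc_a_rc_4_2 lc_a_rc_0_1 lc_a_rc_21_0 lc_a_rc_0_1 lc_a_rc_5_0 lc_a_rc_2_2 lc_a_rc_0_1 lc_a_rc_4_2 lc_a_rc_3_2 lc_a_rc_1_4 lc_a_rc_3_0 lc_a_rc_4_2 lc_a_rc_0_1 lc_a_rc_2_2 lc_a_rc_0_1 lc_a_rc_5_2 lc_a_rc_1_2 lc_a_rc_4_2 lc_a_rc_4_2 lc_a_rc_21_0 lc_a_rc_3_2) (@D3.rec (fun _ => (Cert rels S Gen.a)) lc_a_rc_5_2 lc_a_Cert_tree lc_a_rc_21_0 lc_a_Cert_tree lc_a_rc_3_2 lc_a_rc_21_0 lc_a_rc_2_2 lc_a_rc_5_2 lc_a_rc_4_0 lc_a_rc_3_2 lc_a_rc_2_2 lc_a_rc_2_2 lc_a_rc_3_2 lc_a_rc_21_0 lc_a_rc_21_0 lc_a_rc_3_2 lc_a_rc_4_2 lc_a_rc_21_0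 lc_a_rc_2_2 lc_a_Cert_tree lc_a_rc_21_0 lc_a_rc_2_2 lc_a_rc_1_2 lc_a_rc_2_0 lc_a_rc_3_0 lc_a_rc_2_2 lc_a_rc_1_0 lc_a_rc_3_2 lc_a_rc_2_2 lc_a_rc_21_0 lc_a_rc_3_2 lc_a_rc_2_2 lc_a_rc_0_1 lc_a_rc_4_2 lc_a_rc_3_2 lc_a_rc_2_2 lc_a_rc_0_1 lc_a_rc_3_2 lc_a_rc_4_2 lc_a_rc_2_2 lc_a_rc_3_2 lc_a_rc_2_2 lc_a_rc_2_2 lc_a_rc_4_2 lc_a_rc_3_2 lc_a_rc_2_2 lc_a_rc_2_2 lc_a_rc_4_2 lc_a_Cert_tree lc_a_rc_3_2 lc_a_rc_2_2 lc_a_rc_2_2 lc_a_rc_21_0 lc_a_rc_3_2 lc_a_rc_4_2 lc_a_rc_2_2 lc_a_rc_4_2 lc_a_rc_2_0 lc_a_rc_21_0 lc_a_rc_3_2 lc_a_rc_1_4 lc_a_rc_3_2) (@D3.rec (fun _ => (Cert rels S Gen.a)) lc_a_rc_4_2 lc_a_Cert_tree lc_a_rc_3_2 lc_a_Cert_tree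 lc_a_rc_2_0 lc_a_Cert_tree lc_a_rc_3_2 lc_a_Cert_tree lc_a_rc_1_4 lc_a_rc_3_2 lc_a_rc_21_0 lc_a_rc_5_2 lc_a_rc_4_2 lc_a_rc_3_0 lc_a_rc_3_2 lc_a_rc_5_0 lc_a_rc_2_2 lc_a_rc_2_2 lc_a_rc_4_0 lc_a_rc_0_1 lc_a_rc_2_0 lc_a_rc_4_0 lc_a_rc_4_2 lc_a_rc_0_1 lc_a_rc_4_0 lc_a_rc_3_2 lc_a_rc_0_1 lc_a_rc_0_1 lc_a_rc_21_0 lc_a_rc_5_0 lc_a_rc_4_2 lc_a_rc_5_0 lc_a_rc_3_2 lc_a_rc_5_2 lc_a_rc_3_2 lc_a_Cert_tree lc_a_rc_3_0 lc_a_rc_21_0 lc_a_rc_0_1 lc_a_rc_3_2 lc_a_rc_4_2 lc_a_rc_4_2 lc_a_rc_4_2 lc_a_rc_4_2 lc_a_rc_2_0 lc_a_rc_2_2 lc_a_rc_4_2 lc_a_rc_3_2 lc_a_rc_4_2 lc_a_rc_3_0 lc_a_rc_1_2 lc_a_rc_4_2 lc_a_rc_4_2 lc_a_rc_3_2 lc_a_rc_3_2 lc_a_rc_4_2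 lc_a_rc_22_0 lc_a_rc_0_1 lc_a_rc_0_1 lc_a_rc_3_2 lc_a_rc_4_2 lc_a_rc_4_2) (@D3.rec (fun _ => (Cert rels S Gen.a)) lc_a_rc_21_0 lc_a_rc_2_2 lc_a_rc_3_2 lc_a_rc_4_0 lc_a_rc_2_2 lc_a_rc_1_4 lc_a_rc_4_2 lc_a_rc_2_2 lc_a_rc_2_2 lc_a_rc_21_0 lc_a_rc_4_2 lc_a_rc_2_2 lc_a_rc_3_2 lc_a_rc_2_2 lc_a_rc_2_2 lc_a_rc_2_2 lc_a_rc_4_2 lc_a_rc_0_1 lc_a_rc_0_1 lc_a_rc_1_2 lc_a_rc_0_1 lc_a_rc_5_2 lc_a_rc_21_0 lc_a_rc_0_1 lc_a_rc_0_1 lc_a_rc_2_2 lc_a_rc_4_2 lc_a_rc_4_2 lc_a_rc_22_0 lc_a_rc_4_2 lc_a_rc_0_1 lc_a_rc_4_2 lc_a_rc_1_4 lc_a_rc_4_2 lc_a_rc_0_1 lc_a_rc_4_2 lc_a_rc_4_2 lc_a_rc_5_0 lc_a_rc_5_2 lc_a_rc_1_4 lc_a_rc_1_4 lc_a_rc_4_2 lc_a_rc_3_2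 lc_a_rc_2_2 lc_a_rc_1_2 lc_a_rc_3_2 lc_a_rc_5_0 lc_a_rc_21_0 lc_a_rc_4_2 lc_a_rc_21_0 lc_a_rc_2_2 lc_a_rc_2_2 lc_a_rc_0_1 lc_a_rc_0_1 lc_a_rc_0_1 lc_a_rc_3_2 lc_a_rc_3_0 lc_a_rc_4_2 lc_a_rc_21_0 lc_a_rc_2_2 lc_a_rc_3_2 lc_a_rc_0_1) (@D3.rec (fun _ => (Cert rels S Gen.a)) lc_a_rc_5_0 lc_a_rc_5_0 lc_a_rc_4_2 lc_a_rc_4_2 lc_a_rc_3_2 lc_a_rc_21_0 lc_a_rc_2_2 lc_a_rc_3_2 lc_a_rc_2_2 lc_a_rc_2_0 lc_a_rc_4_2 lc_a_rc_1_2 lc_a_rc_1_2 lc_a_rc_4_2 lc_a_rc_2_0 lc_a_rc_4_0 lc_a_rc_0_1 lc_a_rc_0_1 lc_a_rc_0_1 lc_a_rc_3_2 lc_a_rc_4_2 lc_a_rc_22_0 lc_a_rc_0_1 lc_a_rc_4_2 lc_a_rc_4_2 lc_a_rc_0_1 lc_a_rc_3_2 lc_a_rc_1_4 lc_a_rc_5_2 lc_a_rc_4_0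 lc_a_rc_21_0 lc_a_rc_0_1 lc_a_rc_3_0 lc_a_rc_21_0 lc_a_rc_2_2 lc_a_rc_0_1 lc_a_rc_21_0 lc_a_rc_0_1 lc_a_rc_1_2 lc_a_rc_1_4 lc_a_rc_4_2 lc_a_rc_3_2 lc_a_rc_4_2 lc_a_rc_3_2 lc_a_rc_21_0 lc_a_rc_2_2 lc_a_rc_2_2 lc_a_rc_3_2 lc_a_rc_2_0 lc_a_rc_4_2 lc_a_rc_1_2 lc_a_rc_21_0 lc_a_rc_2_2 lc_a_rc_21_0 lc_a_rc_21_0 lc_a_rc_2_0 lc_a_rc_4_0 lc_a_rc_2_2 lc_a_rc_3_2 lc_a_rc_2_0 lc_a_rc_5_0 lc_a_rc_0_1) (@D3.rec (fun _ => (Cert rels S Gen.a)) lc_a_rc_3_2 lc_a_rc_4_2 lc_a_rc_1_4 lc_a_rc_4_2 lc_a_rc_4_2 lc_a_rc_1_0 lc_a_rc_3_2 lc_a_rc_2_2 lc_a_rc_4_2 lc_a_rc_3_2 lc_a_rc_4_2 lc_a_rc_3_2 lc_a_rc_3_2 lc_a_rc_2_2 lc_a_rc_4_2 lc_a_rc_0_1 lc_a_rc_3_2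 lc_a_rc_4_2 lc_a_rc_0_1 lc_a_rc_21_0 lc_a_rc_3_0 lc_a_rc_3_2 lc_a_rc_4_2 lc_a_rc_2_2 lc_a_rc_5_0 lc_a_rc_3_2 lc_a_rc_5_2 lc_a_rc_4_2 lc_a_rc_0_1 lc_a_rc_2_0 lc_a_rc_0_1 lc_a_rc_1_4 lc_a_rc_3_0 lc_a_rc_21_0 lc_a_rc_4_2 lc_a_Cert_tree lc_a_rc_4_2 lc_a_rc_5_2 lc_a_rc_3_2 lc_a_rc_3_2 lc_a_rc_4_0 lc_a_rc_2_2 lc_a_rc_3_2 lc_a_rc_5_2 lc_a_rc_21_0 lc_a_rc_5_2 lc_a_rc_0_1 lc_a_rc_21_0 lc_a_rc_0_1 lc_a_rc_22_0 lc_a_rc_4_2 lc_a_rc_4_2 lc_a_rc_21_0 lc_a_rc_5_0 lc_a_rc_5_2 lc_a_rc_3_2 lc_a_rc_5_2 lc_a_rc_1_4 lc_a_rc_0_1 lc_a_rc_1_2 lc_a_rc_4_2 lc_a_rc_5_2) (@D3.rec (fun _ => (Cert rels S Gen.a)) lc_a_rc_4_2 lc_a_rc_5_2 lc_a_rc_21_0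 lc_a_rc_4_2 lc_a_rc_0_1 lc_a_rc_3_2 lc_a_rc_4_2 lc_a_rc_21_0 lc_a_rc_0_1 lc_a_rc_1_2 lc_a_rc_3_2 lc_a_rc_5_2 lc_a_rc_0_1 lc_a_rc_3_0 lc_a_rc_0_1 lc_a_rc_21_0 lc_a_rc_4_2 lc_a_Cert_tree lc_a_rc_2_2 lc_a_rc_5_0 lc_a_rc_5_2 lc_a_rc_21_0 lc_a_rc_5_2 lc_a_rc_0_1 lc_a_rc_21_0 lc_a_rc_4_2 lc_a_rc_4_0 lc_a_rc_4_2 lc_a_Cert_tree lc_a_rc_2_2 lc_a_rc_0_1 lc_a_rc_0_1 lc_a_rc_3_2 lc_a_rc_4_2 lc_a_rc_2_2 lc_a_rc_21_0 lc_a_rc_0_1 lc_a_rc_0_1 lc_a_rc_4_2 lc_a_rc_2_0 lc_a_rc_0_1 lc_a_rc_4_2 lc_a_rc_21_0 lc_a_rc_3_2 lc_a_rc_4_2 lc_a_rc_0_1 lc_a_rc_0_1 lc_a_rc_3_2 lc_a_rc_4_2 lc_a_rc_4_2 lc_a_rc_3_2 lc_a_rc_21_0 lc_a_rc_2_2 lc_a_rc_1_2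 lc_a_rc_2_2 lc_a_rc_3_2 lc_a_rc_21_0 lc_a_rc_4_2 lc_a_rc_4_2 lc_a_rc_2_2 lc_a_rc_0_1 lc_a_rc_5_2) (@D3.rec (fun _ => (Cert rels S Gen.a)) lc_a_rc_4_2 lc_a_rc_4_2 lc_a_rc_3_2 lc_a_rc_4_2 lc_a_rc_0_1 lc_a_rc_0_1 lc_a_Cert_tree lc_a_rc_21_0 lc_a_rc_3_2 lc_a_rc_4_2 lc_a_rc_5_2 lc_a_Cert_tree lc_a_rc_3_2 lc_a_rc_4_2 lc_a_rc_3_2 lc_a_rc_4_0 lc_a_rc_3_2 lc_a_rc_2_2 lc_a_rc_4_2 lc_a_rc_4_0 lc_a_rc_5_2 lc_a_rc_3_2 lc_a_rc_4_2 lc_a_rc_3_2 lc_a_rc_0_1 lc_a_rc_5_2 lc_a_rc_4_2 lc_a_rc_2_2 lc_a_rc_3_2 lc_a_rc_4_2 lc_a_rc_21_0 lc_a_rc_2_0 lc_a_rc_2_2 lc_a_rc_3_2 lc_a_rc_0_1 lc_a_rc_22_0 lc_a_rc_4_2 lc_a_rc_4_2 lc_a_rc_21_0 lc_a_rc_3_2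 lc_a_rc_5_2 lc_a_rc_3_2 lc_a_rc_2_0 lc_a_rc_0_1 lc_a_rc_0_1 lc_a_rc_3_2 lc_a_rc_4_2 lc_a_rc_4_2 lc_a_rc_4_2 lc_a_rc_21_0 lc_a_rc_3_2 lc_a_rc_5_2 lc_a_rc_5_0 lc_a_rc_0_1 lc_a_rc_0_1 lc_a_rc_3_0 lc_a_rc_2_2 lc_a_rc_3_2 lc_a_rc_4_2 lc_a_rc_5_2 lc_a_rc_21_0 lc_a_rc_2_2) (@D3.rec (fun _ => (Cert rels S Gen.a)) lc_a_rc_3_2 lc_a_rc_4_2 lc_a_rc_3_2 lc_a_rc_2_2 lc_a_rc_2_2 lc_a_rc_2_0 lc_a_rc_21_0 lc_a_rc_3_2 lc_a_rc_5_2 lc_a_rc_5_2 lc_a_rc_21_0 lc_a_rc_22_0 lc_a_rc_4_2 lc_a_Cert_tree lc_a_rc_2_2 lc_a_rc_4_2 lc_a_Cert_tree lc_a_rc_3_2 lc_a_rc_3_2 lc_a_rc_21_0 lc_a_rc_21_0 lc_a_rc_3_2 lc_a_rc_3_2 lc_a_rc_0_1 lc_a_rc_22_0 lc_a_rc_21_0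 lc_a_rc_3_2 lc_a_rc_5_0 lc_a_rc_2_2 lc_a_rc_0_1 lc_a_rc_5_0 lc_a_rc_2_2 lc_a_rc_21_0 lc_a_rc_1_4 lc_a_rc_4_2 lc_a_rc_4_2 lc_a_rc_21_0 lc_a_rc_3_2 lc_a_rc_5_2 lc_a_rc_2_2 lc_a_rc_3_2 lc_a_rc_21_0 lc_a_rc_4_2 lc_a_rc_5_0 lc_a_rc_21_0 lc_a_rc_21_0 lc_a_rc_4_2 lc_a_rc_1_4 lc_a_rc_2_2 lc_a_rc_4_2 lc_a_rc_4_0 lc_a_rc_0_1 lc_a_rc_3_2 lc_a_rc_5_2 lc_a_rc_3_2 lc_a_rc_3_2 lc_a_rc_21_0 lc_a_rc_21_0 lc_a_rc_21_0 lc_a_rc_5_0 lc_a_rc_3_2 lc_a_rc_4_2) (@D3.rec (fun _ => (Cert rels S Gen.a)) lc_a_rc_5_2 lc_a_rc_2_2 lc_a_rc_3_0 lc_a_rc_3_2 lc_a_rc_2_2 lc_a_rc_21_0 lc_a_rc_21_0 lc_a_rc_4_2 lc_a_rc_21_0 lc_a_rc_3_2 lc_a_rc_21_0 lc_a_rc_3_2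 lc_a_rc_2_2 lc_a_rc_3_2 lc_a_rc_4_2 lc_a_rc_1_2 lc_a_rc_2_2 lc_a_rc_4_2 lc_a_rc_3_2 lc_a_rc_4_2 lc_a_rc_2_2 lc_a_rc_0_1 lc_a_rc_3_2 lc_a_rc_4_2 lc_a_rc_2_2 lc_a_rc_21_0 lc_a_rc_4_2 lc_a_rc_0_1 lc_a_rc_3_2 lc_a_rc_5_2 lc_a_rc_4_2 lc_a_rc_3_2 lc_a_rc_0_1 lc_a_rc_1_4 lc_a_rc_1_2 lc_a_rc_4_2 lc_a_rc_3_2 lc_a_rc_4_2 lc_a_rc_2_2 lc_a_rc_4_2 lc_a_rc_1_0 lc_a_rc_3_2 lc_a_rc_21_0 lc_a_rc_4_2 lc_a_rc_2_2 lc_a_rc_0_1 lc_a_rc_4_2 lc_a_rc_0_1 lc_a_rc_4_2 lc_a_rc_2_2 lc_a_rc_21_0 lc_a_rc_5_2 lc_a_rc_2_2 lc_a_rc_2_0 lc_a_rc_3_2 lc_a_rc_21_0 lc_a_rc_4_2 lc_a_rc_3_2 lc_a_rc_2_2 lc_a_rc_3_2 lc_a_rc_3_2 lc_a_rc_4_2) (@D3.rec (fun _ => (Cert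 rels S Gen.a)) lc_a_rc_2_2 lc_a_rc_4_2 lc_a_rc_1_4 lc_a_rc_1_2 lc_a_rc_0_1 lc_a_rc_3_2 lc_a_rc_2_2 lc_a_rc_21_0 lc_a_rc_4_2 lc_a_rc_2_2 lc_a_rc_22_0 lc_a_rc_22_0 lc_a_rc_21_0 lc_a_rc_2_2 lc_a_rc_0_1 lc_a_rc_21_0 lc_a_rc_0_1 lc_a_rc_5_0 lc_a_rc_5_0 lc_a_rc_4_2 lc_a_rc_21_0 lc_a_rc_2_2 lc_a_rc_3_2 lc_a_rc_5_2 lc_a_rc_21_0 lc_a_rc_2_2 lc_a_rc_4_2 lc_a_rc_5_0 lc_a_rc_4_2 lc_a_rc_0_1 lc_a_rc_21_0 lc_a_rc_5_0 lc_a_rc_4_2 lc_a_rc_3_2 lc_a_rc_5_2 lc_a_rc_21_0 lc_a_rc_0_1 lc_a_rc_0_1 lc_a_rc_22_0 lc_a_rc_0_1 lc_a_rc_4_2 lc_a_rc_3_2 lc_a_rc_0_1 lc_a_rc_0_1 lc_a_rc_0_1 lc_a_rc_2_0 lc_a_rc_5_0 lc_a_rc_3_2 lc_a_rc_4_2 lc_a_rc_5_2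 lc_a_rc_0_1 lc_a_rc_3_2 lc_a_rc_3_2 lc_a_rc_21_0 lc_a_rc_3_2 lc_a_rc_21_0 lc_a_rc_3_0 lc_a_rc_4_2 lc_a_Cert_tree lc_a_rc_4_2 lc_a_rc_22_0 lc_a_Cert_tree) (@D3.rec (fun _ => (Cert rels S Gen.a)) lc_a_rc_4_2 lc_a_rc_0_1 lc_a_rc_21_0 lc_a_rc_4_2 lc_a_rc_3_2 lc_a_rc_4_2 lc_a_rc_2_2 lc_a_rc_2_2 lc_a_rc_0_1 lc_a_rc_4_0 lc_a_rc_4_2 lc_a_rc_1_2 lc_a_rc_0_1 lc_a_rc_3_2 lc_a_rc_4_2 lc_a_rc_3_2 lc_a_rc_0_1 lc_a_rc_21_0 lc_a_rc_2_2 lc_a_rc_21_0 lc_a_rc_0_1 lc_a_rc_0_1 lc_a_rc_1_2 lc_a_rc_4_2 lc_a_rc_4_2 lc_a_rc_3_2 lc_a_rc_5_2 lc_a_rc_4_2 lc_a_rc_5_0 lc_a_rc_0_1 lc_a_rc_0_1 lc_a_rc_1_4 lc_a_rc_1_4 lc_a_rc_3_2 lc_a_rc_4_2 lc_a_rc_5_2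 lc_a_rc_2_2 lc_a_rc_3_2 lc_a_rc_5_2 lc_a_rc_4_2 lc_a_rc_21_0 lc_a_rc_4_2 lc_a_Cert_tree lc_a_rc_2_0 lc_a_rc_4_0 lc_a_rc_0_1 lc_a_rc_4_2 lc_a_rc_5_2 lc_a_rc_1_2 lc_a_rc_21_0 lc_a_rc_0_1 lc_a_rc_0_1 lc_a_rc_3_2 lc_a_rc_3_0 lc_a_rc_4_2 lc_a_rc_5_0 lc_a_rc_5_2 lc_a_rc_2_2 lc_a_rc_21_0 lc_a_rc_2_2 lc_a_rc_0_1 lc_a_rc_3_2) (@D3.rec (fun _ => (Cert rels S Gen.a)) lc_a_rc_4_2 lc_a_rc_4_2 lc_a_rc_0_1 lc_a_rc_2_2 lc_a_rc_4_2 lc_a_rc_3_2 lc_a_rc_5_2 lc_a_rc_21_0 lc_a_rc_4_2 lc_a_rc_21_0 lc_a_rc_0_1 lc_a_rc_0_1 lc_a_rc_3_2 lc_a_rc_0_1 lc_a_rc_21_0 lc_a_rc_2_2 lc_a_rc_5_2 lc_a_rc_4_2 lc_a_rc_21_0 lc_a_rc_3_2 lc_a_rc_0_1 lc_a_rc_3_2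 lc_a_rc_1_2 lc_a_rc_4_2 lc_a_rc_2_2 lc_a_rc_21_0 lc_a_rc_3_2 lc_a_rc_5_2 lc_a_rc_4_2 lc_a_rc_3_2 lc_a_rc_21_0 lc_a_rc_0_1 lc_a_rc_3_2 lc_a_rc_4_2 lc_a_rc_21_0 lc_a_rc_0_1 lc_a_rc_0_1 lc_a_rc_3_2 lc_a_rc_4_2 lc_a_rc_4_2 lc_a_rc_3_2 lc_a_rc_21_0 lc_a_rc_0_1 lc_a_rc_21_0 lc_a_rc_2_2 lc_a_rc_3_2 lc_a_rc_4_2 lc_a_rc_5_2 lc_a_rc_22_0 lc_a_rc_2_2 lc_a_rc_3_2 lc_a_rc_4_2 lc_a_rc_3_2 lc_a_rc_21_0 lc_a_rc_0_1 lc_a_rc_2_2 lc_a_rc_2_0 lc_a_rc_5_2 lc_a_rc_4_2 lc_a_rc_4_0 lc_a_rc_4_2 lc_a_rc_5_0) (@D3.rec (fun _ => (Cert rels S Gen.a)) lc_a_rc_3_2 lc_a_rc_5_2 lc_a_rc_2_2 lc_a_rc_21_0 lc_a_rc_0_1 lc_a_rc_3_2 lc_a_rc_4_2 lc_a_rc_21_0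 lc_a_rc_4_2 lc_a_rc_0_1 lc_a_rc_21_0 lc_a_rc_2_2 lc_a_rc_21_0 lc_a_rc_22_0 lc_a_rc_0_1 lc_a_rc_4_2 lc_a_rc_3_2 lc_a_rc_0_1 lc_a_rc_21_0 lc_a_rc_0_1 lc_a_rc_3_2 lc_a_rc_4_2 lc_a_rc_4_2 lc_a_rc_4_2 lc_a_rc_1_0 lc_a_rc_0_1 lc_a_rc_3_2 lc_a_rc_4_2 lc_a_rc_4_2 lc_a_rc_3_2 lc_a_rc_3_2 lc_a_rc_0_1 lc_a_rc_3_2 lc_a_rc_2_2 lc_a_rc_1_2 lc_a_rc_2_2 lc_a_rc_5_0 lc_a_rc_3_0 lc_a_rc_3_2 lc_a_rc_4_2 lc_a_rc_2_0 lc_a_rc_0_1 lc_a_rc_2_2 lc_a_rc_4_2 lc_a_rc_4_0 lc_a_rc_21_0 lc_a_rc_3_2 lc_a_rc_5_2 lc_a_Cert_tree lc_a_rc_2_2 lc_a_Cert_tree lc_a_rc_4_2 lc_a_rc_21_0 lc_a_rc_2_2 lc_a_rc_0_1 lc_a_rc_3_2 lc_a_rc_0_1 lc_a_rc_1_4 lc_a_rc_3_0 lc_a_rc_21_0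 lc_a_rc_4_2 lc_a_rc_2_2) (@D3.rec (fun _ => (Cert rels S Gen.a)) lc_a_rc_21_0 lc_a_rc_0_1 lc_a_rc_0_1 lc_a_rc_4_0 lc_a_rc_21_0 lc_a_rc_4_2 lc_a_rc_3_2 lc_a_rc_21_0 lc_a_rc_0_1 lc_a_rc_0_1 lc_a_rc_1_4 lc_a_rc_2_2 lc_a_rc_21_0 lc_a_rc_2_0 lc_a_rc_2_2 lc_a_rc_3_2 lc_a_rc_4_2 lc_a_rc_3_2 lc_a_rc_4_2 lc_a_rc_5_0 lc_a_rc_3_0 lc_a_rc_2_2 lc_a_rc_21_0 lc_a_rc_1_0 lc_a_rc_3_2 lc_a_rc_5_2 lc_a_rc_0_1 lc_a_rc_3_0 lc_a_rc_21_0 lc_a_rc_5_0 lc_a_rc_2_0 lc_a_rc_2_2 lc_a_rc_22_0 lc_a_rc_21_0 lc_a_rc_0_1 lc_a_rc_0_1 lc_a_rc_2_0 lc_a_rc_3_2 lc_a_rc_21_0 lc_a_rc_0_1 lc_a_rc_22_0 lc_a_rc_3_0 lc_a_rc_4_2 lc_a_rc_1_4 lc_a_rc_2_2 lc_a_rc_3_2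 lc_a_rc_4_2 lc_a_rc_2_0 lc_a_rc_0_1 lc_a_rc_2_2 lc_a_rc_4_2 lc_a_rc_1_0 lc_a_rc_4_2 lc_a_rc_3_2 lc_a_rc_5_2 lc_a_rc_1_2 lc_a_rc_4_2 lc_a_Cert_tree lc_a_rc_4_2 lc_a_rc_3_2 lc_a_rc_3_0 lc_a_rc_2_0)
def ce_a_16 : D2 → D3 → (Cert rels S Gen.a) := @D2.rec (fun _ => D3 → (Cert rels S Gen.a)) (@D3.rec (fun _ => (Cert rels S Gen.a)) lc_a_rc_3_2 lc_a_Cert_tree lc_a_rc_4_2 lc_a_rc_1_4 lc_a_rc_2_0 lc_a_rc_4_2 lc_a_rc_21_0 lc_a_rc_0_1 lc_a_rc_21_0 lc_a_rc_0_1 lc_a_rc_21_0 lc_a_rc_2_2 lc_a_rc_4_2 lc_a_rc_3_2 lc_a_rc_21_0 lc_a_rc_4_2 lc_a_rc_2_2 lc_a_rc_2_2 lc_a_rc_4_2 lc_a_rc_3_2 lc_a_rc_3_2 lc_a_rc_0_1 lc_a_rc_2_2 lc_a_rc_4_2 lc_a_rc_3_2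 lc_a_rc_4_0 lc_a_rc_3_0 lc_a_rc_3_2 lc_a_rc_4_0 lc_a_rc_21_0 lc_a_rc_4_2 lc_a_rc_3_2 lc_a_rc_3_0 lc_a_Cert_tree lc_a_rc_3_2 lc_a_rc_2_2 lc_a_rc_3_2 lc_a_rc_4_0 lc_a_rc_2_2 lc_a_rc_1_4 lc_a_rc_3_2 lc_a_rc_2_2 lc_a_rc_5_0 lc_a_Cert_tree lc_a_rc_3_2 lc_a_rc_5_2 lc_a_rc_2_2 lc_a_rc_2_2 lc_a_rc_3_2 lc_a_rc_4_2 lc_a_rc_1_4 lc_a_rc_2_2 lc_a_rc_3_2 lc_a_rc_2_2 lc_a_rc_3_2 lc_a_rc_4_2 lc_a_rc_2_2 lc_a_rc_0_1 lc_a_rc_3_2 lc_a_rc_0_1 lc_a_rc_0_1 lc_a_rc_21_0) (@D3.rec (fun _ => (Cert rels S Gen.a)) lc_a_rc_2_2 lc_a_rc_4_2 lc_a_rc_0_1 lc_a_rc_3_0 lc_a_rc_2_2 lc_a_rc_5_2 lc_a_rc_21_0 lc_a_rc_21_0 lc_a_rc_1_4 lc_a_rc_21_0 lc_a_rc_4_2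 lc_a_rc_3_0 lc_a_rc_21_0 lc_a_rc_2_2 lc_a_rc_3_2 lc_a_rc_21_0 lc_a_rc_2_2 lc_a_rc_21_0 lc_a_rc_4_2 lc_a_rc_2_2 lc_a_rc_3_2 lc_a_rc_4_2 lc_a_rc_2_2 lc_a_rc_5_0 lc_a_rc_3_2 lc_a_rc_2_2 lc_a_rc_21_0 lc_a_rc_0_1 lc_a_rc_4_2 lc_a_rc_2_0 lc_a_rc_2_0 lc_a_rc_3_2 lc_a_rc_5_2 lc_a_rc_4_2 lc_a_rc_5_0 lc_a_rc_5_2 lc_a_rc_3_2 lc_a_rc_3_2 lc_a_rc_3_2 lc_a_rc_3_2 lc_a_rc_0_1 lc_a_rc_0_1 lc_a_rc_0_1 lc_a_rc_21_0 lc_a_rc_0_1 lc_a_rc_0_1 lc_a_rc_3_2 lc_a_rc_2_2 lc_a_Cert_tree lc_a_rc_3_0 lc_a_Cert_tree lc_a_rc_2_2 lc_a_rc_4_2 lc_a_rc_3_2 lc_a_rc_3_2 lc_a_Cert_tree lc_a_rc_0_1 lc_a_rc_2_2 lc_a_rc_4_2 lc_a_rc_0_1 lc_a_rc_0_1 lc_a_rc_3_0)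 (@D3.rec (fun _ => (Cert rels S Gen.a)) lc_a_rc_21_0 lc_a_rc_3_2 lc_a_rc_0_1 lc_a_rc_4_2 lc_a_rc_3_2 lc_a_rc_3_0 lc_a_rc_3_2 lc_a_rc_4_2 lc_a_Cert_tree lc_a_rc_2_2 lc_a_rc_5_2 lc_a_rc_4_2 lc_a_Cert_tree lc_a_rc_2_2 lc_a_rc_0_1 lc_a_rc_5_2 lc_a_rc_3_0 lc_a_rc_2_0 lc_a_rc_4_2 lc_a_rc_21_0 lc_a_rc_2_2 lc_a_rc_3_2 lc_a_rc_4_2 lc_a_rc_3_2 lc_a_rc_0_1 lc_a_rc_0_1 lc_a_rc_3_2 lc_a_rc_2_2 lc_a_rc_4_2 lc_a_rc_3_2 lc_a_rc_21_0 lc_a_rc_1_2 lc_a_rc_3_2 lc_a_rc_21_0 lc_a_rc_2_2 lc_a_rc_0_1 lc_a_rc_0_1 lc_a_rc_4_2 lc_a_rc_5_0 lc_a_rc_2_2 lc_a_rc_3_2 lc_a_rc_2_2 lc_a_rc_5_0 lc_a_rc_1_4 lc_a_rc_3_2 lc_a_rc_5_0 lc_a_rc_4_2 lc_a_Cert_tree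 lc_a_rc_4_2 lc_a_rc_4_2 lc_a_rc_21_0 lc_a_rc_0_1 lc_a_rc_3_2 lc_a_rc_21_0 lc_a_rc_21_0 lc_a_rc_21_0 lc_a_rc_2_2 lc_a_rc_2_2 lc_a_rc_4_2 lc_a_rc_3_2 lc_a_rc_4_2 lc_a_rc_21_0) (@D3.rec (fun _ => (Cert rels S Gen.a)) lc_a_rc_2_2 lc_a_rc_21_0 lc_a_rc_0_1 lc_a_rc_0_1 lc_a_rc_5_2 lc_a_rc_3_2 lc_a_rc_3_2 lc_a_rc_0_1 lc_a_rc_0_1 lc_a_rc_1_2 lc_a_rc_1_2 lc_a_rc_3_2 lc_a_rc_0_1 lc_a_rc_4_2 lc_a_rc_21_0 lc_a_rc_4_2 lc_a_rc_3_2 lc_a_rc_4_2 lc_a_rc_2_0 lc_a_rc_3_0 lc_a_rc_3_2 lc_a_rc_4_2 lc_a_Cert_tree lc_a_Cert_tree lc_a_rc_21_0 lc_a_rc_0_1 lc_a_rc_22_0 lc_a_rc_5_0 lc_a_rc_3_2 lc_a_rc_1_0 lc_a_rc_0_1 lc_a_rc_1_4 lc_a_rc_5_0 lc_a_rc_5_0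 lc_a_rc_21_0 lc_a_rc_4_2 lc_a_rc_21_0 lc_a_rc_3_2 lc_a_rc_21_0 lc_a_rc_2_2 lc_a_Cert_tree lc_a_rc_0_1 lc_a_rc_2_2 lc_a_rc_2_2 lc_a_rc_0_1 lc_a_rc_2_2 lc_a_rc_2_2 lc_a_rc_21_0 lc_a_rc_1_4 lc_a_rc_3_0 lc_a_rc_2_0 lc_a_rc_3_2 lc_a_rc_3_2 lc_a_rc_2_2 lc_a_rc_2_0 lc_a_rc_3_2 lc_a_rc_4_2 lc_a_rc_0_1 lc_a_rc_5_0 lc_a_rc_21_0 lc_a_rc_0_1 lc_a_rc_0_1) (@D3.rec (fun _ => (Cert rels S Gen.a)) lc_a_rc_2_0 lc_a_rc_4_2 lc_a_rc_4_2 lc_a_rc_3_2 lc_a_rc_2_0 lc_a_rc_21_0 lc_a_rc_4_2 lc_a_rc_3_2 lc_a_rc_1_2 lc_a_rc_2_2 lc_a_Cert_tree lc_a_rc_5_0 lc_a_rc_0_1 lc_a_rc_3_2 lc_a_rc_2_2 lc_a_rc_4_2 lc_a_rc_5_2 lc_a_rc_3_2 lc_a_rc_2_2 lc_a_rc_0_1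 lc_a_rc_0_1 lc_a_rc_3_2 lc_a_rc_4_2 lc_a_rc_4_2 lc_a_rc_5_0 lc_a_rc_4_2 lc_a_rc_3_2 lc_a_rc_5_2 lc_a_rc_2_2 lc_a_rc_4_2 lc_a_rc_0_1 lc_a_rc_21_0 lc_a_rc_0_1 lc_a_rc_4_2 lc_a_rc_3_2 lc_a_rc_21_0 lc_a_rc_0_1 lc_a_rc_0_1 lc_a_rc_4_2 lc_a_rc_3_2 lc_a_rc_5_2 lc_a_rc_5_0 lc_a_rc_0_1 lc_a_rc_21_0 lc_a_rc_4_2 lc_a_Cert_tree lc_a_rc_4_2 lc_a_Cert_tree lc_a_rc_4_2 lc_a_rc_3_0 lc_a_rc_3_0 lc_a_rc_0_1 lc_a_rc_3_0 lc_a_rc_1_4 lc_a_rc_3_0 lc_a_rc_4_0 lc_a_rc_2_2 lc_a_rc_3_2 lc_a_rc_0_1 lc_a_Cert_tree lc_a_rc_3_2 lc_a_rc_1_2) (@D3.rec (fun _ => (Cert rels S Gen.a)) lc_a_rc_21_0 lc_a_rc_2_2 lc_a_rc_1_4 lc_a_rc_21_0 lc_a_rc_1_2 lc_a_rc_5_0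 lc_a_rc_2_2 lc_a_rc_3_2 lc_a_rc_5_2 lc_a_rc_4_2 lc_a_rc_3_2 lc_a_rc_2_2 lc_a_rc_0_1 lc_a_rc_21_0 lc_a_rc_0_1 lc_a_rc_4_2 lc_a_rc_22_0 lc_a_rc_2_2 lc_a_rc_5_0 lc_a_rc_0_1 lc_a_rc_1_4 lc_a_rc_4_2 lc_a_rc_4_2 lc_a_rc_0_1 lc_a_rc_1_4 lc_a_rc_3_2 lc_a_rc_1_0 lc_a_rc_3_2 lc_a_rc_4_2 lc_a_rc_21_0 lc_a_rc_3_2 lc_a_rc_4_2 lc_a_Cert_tree lc_a_rc_4_2 lc_a_rc_2_2 lc_a_rc_0_1 lc_a_rc_2_2 lc_a_rc_21_0 lc_a_rc_3_2 lc_a_rc_5_0 lc_a_rc_5_0 lc_a_rc_21_0 lc_a_rc_21_0 lc_a_rc_21_0 lc_a_rc_5_0 lc_a_rc_3_2 lc_a_rc_1_4 lc_a_rc_3_2 lc_a_rc_21_0 lc_a_rc_2_2 lc_a_rc_0_1 lc_a_rc_3_0 lc_a_rc_3_2 lc_a_rc_4_2 lc_a_rc_21_0 lc_a_Cert_tree lc_a_rc_3_2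 lc_a_rc_21_0 lc_a_rc_4_0 lc_a_Cert_tree lc_a_rc_21_0 lc_a_rc_0_1) (@D3.rec (fun _ => (Cert rels S Gen.a)) lc_a_rc_0_1 lc_a_rc_3_2 lc_a_rc_1_4 lc_a_rc_4_2 lc_a_rc_21_0 lc_a_rc_3_2 lc_a_rc_5_2 lc_a_rc_0_1 lc_a_rc_0_1 lc_a_rc_3_0 lc_a_rc_0_1 lc_a_rc_1_4 lc_a_rc_0_1 lc_a_rc_0_1 lc_a_rc_4_2 lc_a_rc_3_2 lc_a_rc_1_2 lc_a_Cert_tree lc_a_rc_4_2 lc_a_rc_3_2 lc_a_rc_21_0 lc_a_Cert_tree lc_a_rc_4_2 lc_a_rc_3_2 lc_a_rc_3_2 lc_a_rc_3_2 lc_a_rc_5_2 lc_a_Cert_tree lc_a_rc_21_0 lc_a_rc_2_0 lc_a_rc_21_0 lc_a_rc_0_1 lc_a_rc_2_2 lc_a_rc_2_2 lc_a_rc_4_2 lc_a_rc_2_2 lc_a_rc_21_0 lc_a_rc_2_2 lc_a_rc_0_1 lc_a_rc_0_1 lc_a_rc_4_2 lc_a_rc_5_0 lc_a_rc_4_2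 lc_a_rc_3_2 lc_a_rc_2_2 lc_a_rc_4_2 lc_a_rc_21_0 lc_a_rc_0_1 lc_a_rc_4_2 lc_a_rc_21_0 lc_a_rc_21_0 lc_a_rc_21_0 lc_a_rc_2_2 lc_a_Cert_tree lc_a_rc_0_1 lc_a_rc_3_2 lc_a_rc_21_0 lc_a_rc_3_2 lc_a_rc_4_2 lc_a_rc_4_0 lc_a_rc_3_2 lc_a_rc_0_1) (@D3.rec (fun _ => (Cert rels S Gen.a)) lc_a_rc_2_2 lc_a_rc_3_0 lc_a_rc_2_2 lc_a_rc_3_2 lc_a_rc_3_2 lc_a_rc_4_2 lc_a_rc_3_2 lc_a_rc_4_0 lc_a_rc_4_0 lc_a_rc_3_0 lc_a_rc_2_2 lc_a_rc_5_0 lc_a_rc_21_0 lc_a_rc_4_2 lc_a_rc_4_2 lc_a_rc_4_2 lc_a_rc_2_2 lc_a_rc_3_2 lc_a_Cert_tree lc_a_rc_3_2 lc_a_rc_5_0 lc_a_rc_2_2 lc_a_rc_0_1 lc_a_rc_5_0 lc_a_rc_4_2 lc_a_rc_21_0 lc_a_rc_21_0 lc_a_rc_3_0 lc_a_rc_0_1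 lc_a_rc_1_4 lc_a_rc_4_2 lc_a_rc_3_2 lc_a_rc_3_2 lc_a_rc_21_0 lc_a_rc_0_1 lc_a_rc_1_2 lc_a_rc_4_2 lc_a_rc_3_2 lc_a_rc_3_2 lc_a_rc_0_1 lc_a_rc_2_2 lc_a_rc_4_2 lc_a_rc_3_2 lc_a_rc_3_2 lc_a_rc_1_4 lc_a_rc_4_2 lc_a_rc_21_0 lc_a_rc_2_0 lc_a_Cert_tree lc_a_Cert_tree lc_a_rc_5_2 lc_a_rc_0_1 lc_a_rc_21_0 lc_a_rc_2_2 lc_a_rc_3_0 lc_a_rc_2_2 lc_a_rc_4_2 lc_a_rc_3_2 lc_a_rc_5_0 lc_a_rc_21_0 lc_a_rc_21_0 lc_a_rc_21_0) (@D3.rec (fun _ => (Cert rels S Gen.a)) lc_a_rc_3_2 lc_a_rc_21_0 lc_a_rc_2_2 lc_a_rc_4_2 lc_a_rc_3_2 lc_a_rc_2_2 lc_a_rc_4_2 lc_a_rc_5_2 lc_a_rc_3_0 lc_a_rc_21_0 lc_a_rc_21_0 lc_a_rc_21_0 lc_a_rc_4_2 lc_a_rc_1_4 lc_a_rc_2_2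 lc_a_rc_4_2 lc_a_rc_4_2 lc_a_rc_4_2 lc_a_rc_4_0 lc_a_rc_5_2 lc_a_rc_5_2 lc_a_rc_21_0 lc_a_rc_2_2 lc_a_rc_22_0 lc_a_rc_3_2 lc_a_rc_4_2 lc_a_rc_1_2 lc_a_Cert_tree lc_a_rc_3_2 lc_a_rc_5_2 lc_a_rc_21_0 lc_a_rc_0_1 lc_a_rc_0_1 lc_a_rc_2_2 lc_a_rc_4_2 lc_a_rc_21_0 lc_a_rc_4_2 lc_a_rc_4_0 lc_a_rc_5_2 lc_a_rc_5_0 lc_a_rc_21_0 lc_a_rc_0_1 lc_a_rc_3_2 lc_a_rc_4_2 lc_a_rc_1_2 lc_a_rc_4_2 lc_a_rc_3_2 lc_a_rc_0_1 lc_a_rc_5_2 lc_a_rc_0_1 lc_a_rc_0_1 lc_a_rc_3_2 lc_a_rc_2_2 lc_a_rc_4_2 lc_a_rc_5_2 lc_a_rc_3_2 lc_a_rc_0_1 lc_a_rc_4_2 lc_a_rc_3_2 lc_a_rc_0_1 lc_a_rc_1_2 lc_a_rc_21_0) (@D3.rec (fun _ => (Cert rels S Gen.a)) lc_a_rc_4_2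 lc_a_rc_21_0 lc_a_rc_2_2 lc_a_rc_3_2 lc_a_rc_5_2 lc_a_rc_2_2 lc_a_rc_1_2 lc_a_rc_2_2 lc_a_rc_2_2 lc_a_rc_3_2 lc_a_rc_4_2 lc_a_rc_21_0 lc_a_rc_0_1 lc_a_rc_0_1 lc_a_rc_2_0 lc_a_rc_4_2 lc_a_rc_5_2 lc_a_rc_4_2 lc_a_rc_4_2 lc_a_rc_4_0 lc_a_rc_3_2 lc_a_rc_5_2 lc_a_rc_1_4 lc_a_rc_3_2 lc_a_rc_1_0 lc_a_rc_3_0 lc_a_rc_2_2 lc_a_rc_4_2 lc_a_rc_22_0 lc_a_rc_0_1 lc_a_rc_2_2 lc_a_rc_1_4 lc_a_rc_2_2 lc_a_rc_1_2 lc_a_rc_5_0 lc_a_rc_2_2 lc_a_rc_3_2 lc_a_rc_4_0 lc_a_rc_4_2 lc_a_rc_2_2 lc_a_rc_2_2 lc_a_rc_2_2 lc_a_rc_22_0 lc_a_rc_21_0 lc_a_rc_3_2 lc_a_rc_3_2 lc_a_rc_0_1 lc_a_rc_3_2 lc_a_rc_5_2 lc_a_rc_4_2 lc_a_rc_4_2 lc_a_rc_0_1 lc_a_rc_0_1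 lc_a_rc_2_2 lc_a_rc_3_2 lc_a_rc_2_2 lc_a_rc_4_2 lc_a_rc_4_2 lc_a_rc_1_2 lc_a_rc_2_2 lc_a_rc_0_1 lc_a_rc_1_2) (@D3.rec (fun _ => (Cert rels S Gen.a)) lc_a_rc_3_2 lc_a_rc_5_2 lc_a_rc_0_1 lc_a_rc_0_1 lc_a_rc_5_0 lc_a_rc_2_2 lc_a_rc_3_2 lc_a_rc_4_2 lc_a_rc_5_2 lc_a_rc_2_2 lc_a_rc_3_2 lc_a_rc_3_2 lc_a_rc_21_0 lc_a_rc_0_1 lc_a_rc_2_2 lc_a_rc_4_2 lc_a_rc_0_1 lc_a_rc_21_0 lc_a_rc_5_2 lc_a_rc_2_2 lc_a_rc_2_2 lc_a_rc_3_2 lc_a_rc_21_0 lc_a_rc_3_2 lc_a_rc_4_2 lc_a_rc_2_2 lc_a_rc_4_2 lc_a_rc_4_2 lc_a_rc_5_2 lc_a_rc_1_4 lc_a_rc_3_2 lc_a_rc_2_2 lc_a_rc_3_2 lc_a_rc_2_2 lc_a_rc_4_2 lc_a_rc_21_0 lc_a_rc_4_2 lc_a_rc_2_2 lc_a_rc_4_2 lc_a_rc_2_2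 lc_a_rc_4_2 lc_a_Cert_tree lc_a_rc_3_0 lc_a_rc_2_0 lc_a_rc_3_2 lc_a_rc_5_2 lc_a_rc_4_2 lc_a_rc_2_2 lc_a_rc_4_2 lc_a_rc_5_0 lc_a_rc_3_2 lc_a_rc_5_2 lc_a_rc_0_1 lc_a_rc_0_1 lc_a_rc_0_1 lc_a_rc_4_2 lc_a_Cert_tree lc_a_rc_4_0 lc_a_rc_3_0 lc_a_rc_22_0 lc_a_rc_21_0 lc_a_rc_4_2) (@D3.rec (fun _ => (Cert rels S Gen.a)) lc_a_rc_2_2 lc_a_rc_2_0 lc_a_rc_5_2 lc_a_rc_21_0 lc_a_rc_2_2 lc_a_rc_4_2 lc_a_rc_5_2 lc_a_rc_1_4 lc_a_rc_5_2 lc_a_rc_5_2 lc_a_rc_1_4 lc_a_rc_0_1 lc_a_rc_3_2 lc_a_rc_4_2 lc_a_rc_3_2 lc_a_rc_3_2 lc_a_rc_0_1 lc_a_rc_3_0 lc_a_rc_2_2 lc_a_rc_3_2 lc_a_rc_2_2 lc_a_rc_0_1 lc_a_rc_0_1 lc_a_rc_5_0 lc_a_rc_3_2 lc_a_rc_5_2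 lc_a_rc_0_1 lc_a_rc_0_1 lc_a_Cert_tree lc_a_rc_3_2 lc_a_rc_4_2 lc_a_rc_5_2 lc_a_rc_2_2 lc_a_rc_2_2 lc_a_rc_3_2 lc_a_rc_3_0 lc_a_rc_3_2 lc_a_rc_21_0 lc_a_rc_3_0 lc_a_rc_21_0 lc_a_rc_4_2 lc_a_rc_4_2 lc_a_rc_3_0 lc_a_rc_3_0 lc_a_rc_5_2 lc_a_rc_4_0 lc_a_rc_4_2 lc_a_rc_5_2 lc_a_rc_2_2 lc_a_rc_5_0 lc_a_rc_4_2 lc_a_rc_3_0 lc_a_rc_5_0 lc_a_rc_4_2 lc_a_rc_5_2 lc_a_rc_3_2 lc_a_rc_4_2 lc_a_rc_21_0 lc_a_rc_0_1 lc_a_rc_2_2 lc_a_rc_4_2 lc_a_rc_2_2) (@D3.rec (fun _ => (Cert rels S Gen.a)) lc_a_rc_0_1 lc_a_rc_4_2 lc_a_rc_2_0 lc_a_rc_2_0 lc_a_rc_0_1 lc_a_rc_2_2 lc_a_rc_4_2 lc_a_rc_5_2 lc_a_rc_4_2 lc_a_rc_5_0 lc_a_rc_3_2 lc_a_rc_5_2 lc_a_rc_2_2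 lc_a_rc_2_2 lc_a_rc_5_2 lc_a_rc_21_0 lc_a_rc_0_1 lc_a_rc_0_1 lc_a_rc_0_1 lc_a_rc_2_2 lc_a_rc_4_2 lc_a_rc_22_0 lc_a_rc_21_0 lc_a_rc_5_2 lc_a_rc_3_2 lc_a_rc_2_2 lc_a_rc_4_2 lc_a_rc_0_1 lc_a_rc_21_0 lc_a_rc_4_2 lc_a_rc_0_1 lc_a_rc_0_1 lc_a_rc_0_1 lc_a_rc_0_1 lc_a_rc_2_2 lc_a_rc_3_2 lc_a_rc_4_2 lc_a_rc_5_2 lc_a_Cert_tree lc_a_rc_2_2 lc_a_rc_3_2 lc_a_rc_3_2 lc_a_rc_1_2 lc_a_rc_2_2 lc_a_rc_2_2 lc_a_rc_21_0 lc_a_rc_21_0 lc_a_rc_3_2 lc_a_rc_5_2 lc_a_rc_3_2 lc_a_rc_4_2 lc_a_rc_4_2 lc_a_rc_0_1 lc_a_rc_21_0 lc_a_rc_0_1 lc_a_rc_3_2 lc_a_rc_4_2 lc_a_rc_21_0 lc_a_rc_4_2 lc_a_rc_21_0 lc_a_rc_3_0 lc_a_rc_0_1) (@D3.rec (fun _ => (Cert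 rels S Gen.a)) lc_a_rc_21_0 lc_a_rc_4_2 lc_a_rc_4_2 lc_a_rc_21_0 lc_a_rc_0_1 lc_a_rc_0_1 lc_a_rc_2_0 lc_a_rc_2_2 lc_a_rc_3_2 lc_a_rc_4_2 lc_a_rc_5_2 lc_a_rc_2_2 lc_a_rc_3_2 lc_a_rc_3_2 lc_a_rc_0_1 lc_a_rc_1_0 lc_a_rc_2_2 lc_a_rc_4_2 lc_a_rc_3_0 lc_a_rc_0_1 lc_a_rc_3_2 lc_a_rc_5_2 lc_a_rc_3_2 lc_a_rc_0_1 lc_a_rc_4_2 lc_a_rc_4_2 lc_a_rc_0_1 lc_a_rc_0_1 lc_a_rc_21_0 lc_a_rc_4_2 lc_a_rc_21_0 lc_a_rc_4_2 lc_a_rc_0_1 lc_a_rc_3_0 lc_a_rc_0_1 lc_a_rc_21_0 lc_a_rc_2_2 lc_a_rc_2_2 lc_a_rc_5_2 lc_a_rc_4_0 lc_a_rc_3_2 lc_a_rc_4_2 lc_a_rc_1_2 lc_a_rc_5_2 lc_a_rc_2_2 lc_a_rc_0_1 lc_a_rc_3_2 lc_a_rc_2_0 lc_a_rc_2_2 lc_a_rc_4_2 lc_a_rc_21_0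 lc_a_rc_5_2 lc_a_rc_2_2 lc_a_rc_4_0 lc_a_rc_1_4 lc_a_rc_4_2 lc_a_rc_3_2 lc_a_rc_0_1 lc_a_rc_0_1 lc_a_rc_1_2 lc_a_rc_1_4 lc_a_rc_0_1) (@D3.rec (fun _ => (Cert rels S Gen.a)) lc_a_rc_3_2 lc_a_rc_5_2 lc_a_Cert_tree lc_a_rc_2_2 lc_a_rc_3_2 lc_a_rc_4_2 lc_a_rc_3_2 lc_a_rc_3_2 lc_a_rc_4_2 lc_a_rc_2_2 lc_a_rc_3_0 lc_a_Cert_tree lc_a_rc_4_2 lc_a_rc_0_1 lc_a_rc_3_2 lc_a_rc_3_2 lc_a_rc_3_2 lc_a_rc_0_1 lc_a_rc_3_2 lc_a_rc_3_2 lc_a_rc_0_1 lc_a_rc_3_2 lc_a_rc_1_2 lc_a_rc_4_2 lc_a_rc_3_2 lc_a_rc_21_0 lc_a_rc_21_0 lc_a_rc_2_2 lc_a_rc_0_1 lc_a_rc_3_2 lc_a_rc_1_2 lc_a_rc_4_2 lc_a_rc_3_2 lc_a_rc_0_1 lc_a_rc_0_1 lc_a_rc_3_2 lc_a_rc_1_2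 lc_a_rc_2_2 lc_a_rc_5_2 lc_a_rc_4_2 lc_a_rc_3_2 lc_a_rc_21_0 lc_a_rc_2_2 lc_a_rc_2_2 lc_a_rc_4_2 lc_a_rc_3_0 lc_a_rc_2_2 lc_a_rc_4_2 lc_a_rc_2_2 lc_a_rc_2_2 lc_a_rc_5_2 lc_a_rc_3_2 lc_a_rc_21_0 lc_a_rc_0_1 lc_a_rc_3_2 lc_a_rc_0_1 lc_a_rc_21_0 lc_a_rc_0_1 lc_a_rc_3_2 lc_a_rc_1_4 lc_a_rc_4_2 lc_a_rc_3_2) (@D3.rec (fun _ => (Cert rels S Gen.a)) lc_a_Cert_tree lc_a_rc_3_2 lc_a_rc_2_0 lc_a_rc_1_4 lc_a_rc_3_0 lc_a_rc_3_0 lc_a_rc_3_2 lc_a_rc_4_2 lc_a_rc_21_0 lc_a_rc_0_1 lc_a_rc_2_2 lc_a_rc_4_2 lc_a_rc_4_0 lc_a_rc_4_2 lc_a_rc_3_2 lc_a_rc_5_2 lc_a_rc_3_0 lc_a_rc_5_2 lc_a_rc_1_4 lc_a_rc_4_2 lc_a_rc_22_0 lc_a_rc_1_4 lc_a_rc_2_2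 lc_a_rc_4_2 lc_a_rc_2_2 lc_a_rc_21_0 lc_a_rc_0_1 lc_a_rc_3_2 lc_a_rc_21_0 lc_a_rc_4_2 lc_a_rc_3_2 lc_a_rc_2_2 lc_a_rc_2_2 lc_a_rc_21_0 lc_a_rc_4_2 lc_a_Cert_tree lc_a_rc_2_2 lc_a_rc_3_2 lc_a_rc_4_2 lc_a_rc_3_2 lc_a_rc_4_2 lc_a_rc_2_2 lc_a_rc_2_2 lc_a_rc_2_2 lc_a_rc_4_2 lc_a_rc_2_2 lc_a_rc_21_0 lc_a_rc_3_2 lc_a_rc_5_2 lc_a_rc_2_2 lc_a_rc_2_2 lc_a_rc_3_2 lc_a_rc_5_2 lc_a_rc_1_4 lc_a_rc_3_2 lc_a_rc_5_0 lc_a_rc_3_2 lc_a_rc_0_1 lc_a_rc_22_0 lc_a_rc_5_2 lc_a_rc_21_0 lc_a_rc_22_0) (@D3.rec (fun _ => (Cert rels S Gen.a)) lc_a_rc_2_2 lc_a_rc_5_0 lc_a_rc_4_2 lc_a_rc_3_2 lc_a_Cert_tree lc_a_rc_21_0 lc_a_rc_4_2 lc_a_rc_0_1 lc_a_rc_2_2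 lc_a_rc_3_2 lc_a_rc_4_2 lc_a_rc_2_2 lc_a_rc_4_2 lc_a_rc_21_0 lc_a_rc_3_0 lc_a_rc_3_2 lc_a_rc_5_2 lc_a_rc_5_0 lc_a_rc_2_2 lc_a_rc_3_2 lc_a_rc_4_2 lc_a_rc_3_2 lc_a_rc_1_2 lc_a_rc_3_2 lc_a_rc_2_2 lc_a_rc_5_0 lc_a_rc_2_2 lc_a_rc_5_2 lc_a_rc_21_0 lc_a_rc_22_0 lc_a_rc_21_0 lc_a_rc_21_0 lc_a_rc_2_0 lc_a_rc_3_2 lc_a_rc_21_0 lc_a_rc_4_2 lc_a_rc_0_1 lc_a_Cert_tree lc_a_rc_3_2 lc_a_rc_4_2 lc_a_rc_3_2 lc_a_rc_21_0 lc_a_rc_2_2 lc_a_rc_1_4 lc_a_rc_2_2 lc_a_rc_4_2 lc_a_rc_3_2 lc_a_rc_3_2 lc_a_rc_0_1 lc_a_rc_2_2 lc_a_rc_0_1 lc_a_rc_2_0 lc_a_rc_3_2 lc_a_rc_4_2 lc_a_rc_4_2 lc_a_rc_3_2 lc_a_rc_5_2 lc_a_rc_1_4 lc_a_rc_3_2 lc_a_rc_2_2 lc_a_rc_21_0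 lc_a_rc_5_2) (@D3.rec (fun _ => (Cert rels S Gen.a)) lc_a_rc_1_4 lc_a_rc_21_0 lc_a_rc_4_2 lc_a_rc_0_1 lc_a_rc_0_1 lc_a_rc_2_2 lc_a_rc_0_1 lc_a_rc_21_0 lc_a_rc_4_2 lc_a_rc_1_4 lc_a_rc_2_2 lc_a_rc_2_2 lc_a_rc_3_2 lc_a_rc_3_0 lc_a_rc_0_1 lc_a_rc_2_2 lc_a_rc_2_2 lc_a_rc_3_2 lc_a_rc_3_2 lc_a_rc_5_0 lc_a_rc_2_2 lc_a_rc_3_2 lc_a_rc_2_2 lc_a_rc_3_2 lc_a_rc_2_2 lc_a_rc_1_0 lc_a_rc_2_2 lc_a_rc_1_2 lc_a_rc_21_0 lc_a_rc_0_1 lc_a_rc_3_2 lc_a_rc_4_2 lc_a_rc_2_2 lc_a_rc_3_2 lc_a_rc_4_2 lc_a_rc_0_1 lc_a_rc_21_0 lc_a_rc_2_2 lc_a_rc_4_2 lc_a_rc_0_1 lc_a_rc_3_0 lc_a_rc_2_2 lc_a_rc_1_2 lc_a_rc_1_0 lc_a_rc_0_1 lc_a_rc_2_2 lc_a_rc_1_0 lc_a_rc_0_1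 lc_a_rc_5_2 lc_a_rc_4_2 lc_a_rc_21_0 lc_a_rc_2_2 lc_a_rc_3_2 lc_a_rc_4_2 lc_a_rc_3_2 lc_a_rc_2_2 lc_a_rc_2_2 lc_a_rc_1_0 lc_a_rc_2_2 lc_a_rc_0_1 lc_a_rc_2_2 lc_a_rc_4_2) (@D3.rec (fun _ => (Cert rels S Gen.a)) lc_a_rc_3_2 lc_a_rc_4_0 lc_a_rc_3_0 lc_a_rc_21_0 lc_a_rc_3_2 lc_a_rc_4_2 lc_a_rc_3_2 lc_a_rc_4_2 lc_a_rc_2_2 lc_a_rc_1_0 lc_a_rc_1_4 lc_a_rc_5_2 lc_a_rc_2_2 lc_a_rc_4_2 lc_a_Cert_tree lc_a_rc_3_0 lc_a_rc_5_0 lc_a_rc_3_0 lc_a_rc_3_2 lc_a_rc_2_2 lc_a_rc_21_0 lc_a_rc_2_0 lc_a_rc_5_2 lc_a_rc_0_1 lc_a_rc_2_0 lc_a_rc_3_2 lc_a_rc_0_1 lc_a_rc_2_2 lc_a_rc_4_2 lc_a_rc_5_2 lc_a_rc_0_1 lc_a_rc_2_2 lc_a_rc_5_0 lc_a_rc_2_2 lc_a_rc_21_0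 lc_a_rc_3_2 lc_a_rc_5_2 lc_a_Cert_tree lc_a_rc_3_2 lc_a_rc_21_0 lc_a_rc_1_2 lc_a_rc_3_2 lc_a_rc_4_2 lc_a_rc_21_0 lc_a_rc_5_0 lc_a_rc_21_0 lc_a_rc_1_2 lc_a_rc_3_2 lc_a_rc_2_2 lc_a_rc_5_0 lc_a_rc_3_2 lc_a_rc_2_2 lc_a_rc_2_2 lc_a_rc_2_2 lc_a_rc_2_2 lc_a_rc_2_2 lc_a_rc_21_0 lc_a_rc_4_2 lc_a_rc_5_0 lc_a_rc_5_0 lc_a_rc_3_2 lc_a_rc_0_1) (@D3.rec (fun _ => (Cert rels S Gen.a)) lc_a_rc_4_2 lc_a_rc_3_2 lc_a_rc_3_2 lc_a_rc_3_2 lc_a_rc_2_2 lc_a_rc_21_0 lc_a_rc_4_2 lc_a_Cert_tree lc_a_rc_1_2 lc_a_rc_3_2 lc_a_rc_4_2 lc_a_rc_4_2 lc_a_rc_3_0 lc_a_rc_1_0 lc_a_rc_3_2 lc_a_rc_5_2 lc_a_rc_5_0 lc_a_rc_3_2 lc_a_rc_4_2 lc_a_rc_4_2 lc_a_rc_5_0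 lc_a_rc_3_2 lc_a_rc_5_2 lc_a_rc_5_0 lc_a_rc_4_2 lc_a_rc_5_2 lc_a_rc_2_2 lc_a_rc_4_2 lc_a_rc_3_2 lc_a_rc_3_2 lc_a_rc_4_2 lc_a_rc_22_0 lc_a_rc_4_2 lc_a_rc_21_0 lc_a_rc_2_2 lc_a_rc_3_2 lc_a_rc_4_2 lc_a_rc_0_1 lc_a_rc_3_2 lc_a_rc_21_0 lc_a_rc_2_2 lc_a_rc_21_0 lc_a_rc_2_2 lc_a_rc_2_2 lc_a_rc_4_2 lc_a_rc_21_0 lc_a_rc_5_0 lc_a_rc_5_0 lc_a_rc_4_2 lc_a_rc_4_2 lc_a_rc_3_2 lc_a_rc_2_2 lc_a_rc_4_0 lc_a_Cert_tree lc_a_rc_0_1 lc_a_rc_3_0 lc_a_rc_0_1 lc_a_rc_4_0 lc_a_rc_3_2 lc_a_rc_3_2 lc_a_rc_0_1 lc_a_rc_5_0) (@D3.rec (fun _ => (Cert rels S Gen.a)) lc_a_rc_2_2 lc_a_rc_3_2 lc_a_rc_21_0 lc_a_rc_4_2 lc_a_rc_4_2 lc_a_rc_3_0 lc_a_rc_4_0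 lc_a_rc_2_0 lc_a_rc_5_2 lc_a_rc_21_0 lc_a_rc_3_2 lc_a_rc_2_2 lc_a_rc_5_2 lc_a_Cert_tree lc_a_rc_3_2 lc_a_rc_4_2 lc_a_rc_2_2 lc_a_rc_4_2 lc_a_rc_22_0 lc_a_rc_3_2 lc_a_rc_3_0 lc_a_rc_2_2 lc_a_rc_4_2 lc_a_rc_0_1 lc_a_rc_2_2 lc_a_rc_21_0 lc_a_rc_1_2 lc_a_rc_3_0 lc_a_rc_3_2 lc_a_rc_5_0 lc_a_rc_5_0 lc_a_rc_3_2 lc_a_rc_3_2 lc_a_rc_21_0 lc_a_rc_5_2 lc_a_rc_2_2 lc_a_rc_2_2 lc_a_rc_3_2 lc_a_rc_2_2 lc_a_rc_4_2 lc_a_rc_0_1 lc_a_rc_3_2 lc_a_rc_2_2 lc_a_rc_3_0 lc_a_rc_5_0 lc_a_rc_4_2 lc_a_rc_5_2 lc_a_rc_5_0 lc_a_rc_5_2 lc_a_rc_2_2 lc_a_rc_4_2 lc_a_rc_3_2 lc_a_rc_2_0 lc_a_rc_4_2 lc_a_rc_21_0 lc_a_rc_21_0 lc_a_rc_2_2 lc_a_rc_5_0 lc_a_rc_0_1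 lc_a_rc_3_2 lc_a_rc_2_2 lc_a_rc_4_2) (@D3.rec (fun _ => (Cert rels S Gen.a)) lc_a_rc_21_0 lc_a_rc_3_2 lc_a_rc_3_2 lc_a_rc_0_1 lc_a_rc_4_2 lc_a_rc_0_1 lc_a_rc_5_0 lc_a_rc_5_0 lc_a_rc_4_2 lc_a_rc_3_2 lc_a_rc_2_2 lc_a_rc_4_2 lc_a_rc_5_0 lc_a_rc_3_2 lc_a_rc_5_2 lc_a_rc_4_0 lc_a_rc_1_0 lc_a_rc_3_2 lc_a_rc_21_0 lc_a_rc_2_0 lc_a_rc_5_2 lc_a_rc_4_2 lc_a_Cert_tree lc_a_rc_0_1 lc_a_rc_1_2 lc_a_rc_0_1 lc_a_rc_4_2 lc_a_rc_4_2 lc_a_rc_3_0 lc_a_rc_4_2 lc_a_rc_2_2 lc_a_rc_22_0 lc_a_rc_2_0 lc_a_rc_4_2 lc_a_rc_21_0 lc_a_rc_2_2 lc_a_rc_4_2 lc_a_rc_3_2 lc_a_rc_1_0 lc_a_rc_2_2 lc_a_rc_1_2 lc_a_rc_4_2 lc_a_rc_4_2 lc_a_rc_22_0 lc_a_rc_2_2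 lc_a_rc_3_2 lc_a_rc_0_1 lc_a_rc_2_0 lc_a_rc_3_2 lc_a_rc_3_2 lc_a_rc_4_2 lc_a_rc_21_0 lc_a_rc_0_1 lc_a_rc_4_0 lc_a_rc_4_2 lc_a_rc_0_1 lc_a_rc_2_2 lc_a_rc_4_2 lc_a_rc_1_4 lc_a_rc_3_2 lc_a_rc_0_1 lc_a_rc_2_2) (@D3.rec (fun _ => (Cert rels S Gen.a)) lc_a_rc_4_2 lc_a_rc_1_4 lc_a_rc_2_0 lc_a_rc_3_2 lc_a_rc_2_0 lc_a_rc_1_4 lc_a_rc_2_2 lc_a_rc_2_2 lc_a_rc_4_2 lc_a_rc_21_0 lc_a_rc_4_0 lc_a_rc_3_0 lc_a_rc_3_2 lc_a_rc_4_2 lc_a_rc_1_4 lc_a_rc_3_2 lc_a_rc_4_2 lc_a_rc_2_0 lc_a_rc_4_0 lc_a_rc_4_2 lc_a_rc_5_0 lc_a_rc_3_2 lc_a_rc_3_2 lc_a_rc_22_0 lc_a_rc_2_2 lc_a_rc_4_2 lc_a_rc_3_2 lc_a_rc_2_2 lc_a_rc_2_0 lc_a_rc_4_2 lc_a_rc_5_2 lc_a_rc_1_4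 lc_a_rc_4_2 lc_a_rc_4_2 lc_a_rc_3_2 lc_a_rc_4_2 lc_a_rc_4_2 lc_a_rc_2_2 lc_a_rc_5_2 lc_a_rc_2_2 lc_a_rc_4_2 lc_a_rc_1_2 lc_a_rc_3_2 lc_a_rc_2_2 lc_a_rc_4_2 lc_a_rc_0_1 lc_a_rc_21_0 lc_a_rc_3_2 lc_a_rc_21_0 lc_a_rc_3_2 lc_a_rc_2_0 lc_a_rc_5_0 lc_a_Cert_tree lc_a_Cert_tree lc_a_rc_3_0 lc_a_rc_4_2 lc_a_rc_2_2 lc_a_rc_2_2 lc_a_rc_2_2 lc_a_rc_2_2 lc_a_rc_2_0 lc_a_rc_5_2) (@D3.rec (fun _ => (Cert rels S Gen.a)) lc_a_rc_3_2 lc_a_rc_3_2 lc_a_rc_2_2 lc_a_rc_22_0 lc_a_rc_0_1 lc_a_rc_0_1 lc_a_rc_4_2 lc_a_rc_5_2 lc_a_rc_3_2 lc_a_Cert_tree lc_a_rc_3_2 lc_a_rc_4_2 lc_a_rc_4_2 lc_a_rc_3_2 lc_a_rc_2_2 lc_a_rc_0_1 lc_a_rc_3_2 lc_a_rc_0_1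 lc_a_rc_4_2 lc_a_rc_1_2 lc_a_rc_4_2 lc_a_rc_5_0 lc_a_rc_4_2 lc_a_rc_4_2 lc_a_rc_5_0 lc_a_rc_4_2 lc_a_rc_3_2 lc_a_rc_0_1 lc_a_rc_4_2 lc_a_rc_3_2 lc_a_rc_5_2 lc_a_Cert_tree lc_a_rc_4_2 lc_a_rc_2_0 lc_a_rc_1_4 lc_a_rc_22_0 lc_a_rc_2_2 lc_a_rc_21_0 lc_a_rc_22_0 lc_a_rc_5_2 lc_a_rc_22_0 lc_a_rc_22_0 lc_a_rc_0_1 lc_a_Cert_tree lc_a_rc_5_0 lc_a_rc_4_2 lc_a_rc_5_2 lc_a_rc_3_2 lc_a_rc_0_1 lc_a_rc_4_2 lc_a_rc_2_2 lc_a_rc_1_4 lc_a_rc_4_2 lc_a_rc_4_2 lc_a_rc_2_2 lc_a_rc_3_2 lc_a_rc_5_2 lc_a_rc_1_4 lc_a_rc_4_2 lc_a_rc_4_2 lc_a_rc_4_2 lc_a_rc_2_0) (@D3.rec (fun _ => (Cert rels S Gen.a)) lc_a_rc_22_0 lc_a_rc_22_0 lc_a_rc_2_2 lc_a_rc_4_2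 lc_a_rc_0_1 lc_a_rc_4_0 lc_a_rc_21_0 lc_a_rc_1_2 lc_a_rc_21_0 lc_a_rc_4_2 lc_a_rc_0_1 lc_a_rc_3_2 lc_a_rc_2_2 lc_a_rc_5_0 lc_a_rc_3_2 lc_a_rc_2_2 lc_a_rc_4_2 lc_a_rc_0_1 lc_a_rc_4_2 lc_a_rc_4_2 lc_a_rc_3_2 lc_a_rc_5_2 lc_a_rc_0_1 lc_a_rc_4_2 lc_a_rc_0_1 lc_a_rc_3_2 lc_a_rc_5_2 lc_a_rc_2_0 lc_a_rc_0_1 lc_a_rc_4_2 lc_a_rc_21_0 lc_a_rc_1_4 lc_a_rc_3_2 lc_a_rc_2_2 lc_a_rc_4_2 lc_a_rc_4_2 lc_a_rc_1_4 lc_a_rc_0_1 lc_a_rc_0_1 lc_a_rc_3_2 lc_a_rc_4_2 lc_a_rc_2_2 lc_a_rc_2_2 lc_a_rc_3_2 lc_a_rc_4_0 lc_a_rc_3_2 lc_a_rc_5_0 lc_a_rc_1_4 lc_a_rc_4_2 lc_a_rc_2_2 lc_a_rc_4_0 lc_a_rc_1_2 lc_a_rc_0_1 lc_a_rc_1_2 lc_a_rc_1_2 lc_a_rc_4_2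 lc_a_rc_4_2 lc_a_rc_5_2 lc_a_rc_4_2 lc_a_rc_3_2 lc_a_rc_5_2 lc_a_rc_2_2) (@D3.rec (fun _ => (Cert rels S Gen.a)) lc_a_rc_3_2 lc_a_rc_5_2 lc_a_rc_21_0 lc_a_rc_21_0 lc_a_rc_4_2 lc_a_rc_5_0 lc_a_rc_3_2 lc_a_rc_4_2 lc_a_rc_21_0 lc_a_rc_0_1 lc_a_rc_3_2 lc_a_rc_2_2 lc_a_rc_5_0 lc_a_rc_5_2 lc_a_rc_2_2 lc_a_rc_5_2 lc_a_rc_5_0 lc_a_rc_3_0 lc_a_rc_4_0 lc_a_rc_3_2 lc_a_rc_3_0 lc_a_rc_2_2 lc_a_rc_0_1 lc_a_rc_4_2 lc_a_rc_3_2 lc_a_rc_4_2 lc_a_rc_5_2 lc_a_rc_4_2 lc_a_rc_2_0 lc_a_rc_5_0 lc_a_rc_3_2 lc_a_rc_5_2 lc_a_rc_1_4 lc_a_rc_3_0 lc_a_rc_2_0 lc_a_rc_3_2 lc_a_rc_5_0 lc_a_rc_2_0 lc_a_rc_2_2 lc_a_rc_5_0 lc_a_rc_21_0 lc_a_rc_2_2 lc_a_rc_3_2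 lc_a_rc_0_1 lc_a_rc_3_0 lc_a_rc_0_1 lc_a_rc_5_0 lc_a_rc_5_0 lc_a_rc_5_0 lc_a_rc_2_2 lc_a_rc_4_2 lc_a_rc_3_2 lc_a_rc_3_2 lc_a_rc_21_0 lc_a_rc_3_2 lc_a_rc_3_2 lc_a_rc_0_1 lc_a_rc_0_1 lc_a_rc_4_2 lc_a_rc_5_0 lc_a_rc_3_2 lc_a_rc_5_2) (@D3.rec (fun _ => (Cert rels S Gen.a)) lc_a_rc_3_2 lc_a_rc_3_0 lc_a_rc_2_2 lc_a_rc_5_2 lc_a_rc_0_1 lc_a_rc_3_2 lc_a_rc_5_2 lc_a_rc_4_2 lc_a_rc_5_2 lc_a_rc_3_2 lc_a_rc_5_2 lc_a_rc_4_2 lc_a_rc_4_2 lc_a_rc_0_1 lc_a_rc_21_0 lc_a_rc_3_2 lc_a_rc_5_2 lc_a_rc_2_2 lc_a_rc_4_2 lc_a_rc_2_2 lc_a_rc_5_0 lc_a_rc_5_0 lc_a_rc_21_0 lc_a_rc_2_0 lc_a_rc_5_0 lc_a_rc_2_0 lc_a_rc_2_2 lc_a_rc_2_2 lc_a_rc_3_0 lc_a_rc_5_2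 lc_a_rc_21_0 lc_a_rc_4_2 lc_a_rc_1_4 lc_a_rc_2_2 lc_a_rc_0_1 lc_a_rc_5_0 lc_a_rc_3_2 lc_a_rc_0_1 lc_a_rc_22_0 lc_a_rc_0_1 lc_a_rc_0_1 lc_a_rc_3_2 lc_a_rc_0_1 lc_a_rc_3_2 lc_a_rc_5_0 lc_a_rc_2_2 lc_a_rc_4_2 lc_a_rc_21_0 lc_a_rc_5_2 lc_a_rc_2_2 lc_a_rc_4_2 lc_a_rc_5_2 lc_a_rc_2_2 lc_a_rc_4_2 lc_a_rc_3_0 lc_a_rc_2_2 lc_a_rc_4_2 lc_a_rc_21_0 lc_a_rc_2_2 lc_a_rc_1_4 lc_a_rc_3_2 lc_a_rc_5_2) (@D3.rec (fun _ => (Cert rels S Gen.a)) lc_a_rc_3_0 lc_a_rc_3_2 lc_a_Cert_tree lc_a_rc_5_2 lc_a_rc_2_2 lc_a_rc_1_4 lc_a_Cert_tree lc_a_rc_5_0 lc_a_rc_5_0 lc_a_rc_4_0 lc_a_rc_5_2 lc_a_rc_0_1 lc_a_rc_4_2 lc_a_rc_21_0 lc_a_rc_4_2 lc_a_rc_2_0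 lc_a_rc_5_0 lc_a_rc_5_2 lc_a_rc_2_2 lc_a_rc_1_2 lc_a_rc_5_0 lc_a_rc_21_0 lc_a_rc_0_1 lc_a_rc_3_2 lc_a_rc_4_2 lc_a_Cert_tree lc_a_rc_4_2 lc_a_rc_0_1 lc_a_rc_3_2 lc_a_rc_21_0 lc_a_rc_2_0 lc_a_rc_2_2 lc_a_rc_3_2 lc_a_rc_4_2 lc_a_rc_3_2 lc_a_rc_21_0 lc_a_rc_3_2 lc_a_rc_3_0 lc_a_rc_4_0 lc_a_rc_5_0 lc_a_rc_4_2 lc_a_rc_4_2 lc_a_rc_4_2 lc_a_rc_21_0 lc_a_rc_4_2 lc_a_rc_5_2 lc_a_rc_3_2 lc_a_rc_2_0 lc_a_rc_3_0 lc_a_rc_3_0 lc_a_rc_3_2 lc_a_rc_22_0 lc_a_rc_3_2 lc_a_rc_2_0 lc_a_rc_2_2 lc_a_rc_4_2 lc_a_rc_3_2 lc_a_rc_21_0 lc_a_rc_21_0 lc_a_rc_5_2 lc_a_rc_4_2 lc_a_rc_5_0) (@D3.rec (fun _ => (Cert rels S Gen.a)) lc_a_rc_3_2 lc_a_rc_5_2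 lc_a_rc_5_2 lc_a_rc_5_0 lc_a_rc_4_0 lc_a_rc_0_1 lc_a_rc_2_2 lc_a_rc_21_0 lc_a_rc_4_2 lc_a_rc_4_2 lc_a_rc_3_2 lc_a_rc_3_2 lc_a_rc_4_2 lc_a_rc_0_1 lc_a_rc_21_0 lc_a_rc_22_0 lc_a_rc_1_4 lc_a_rc_4_2 lc_a_rc_5_0 lc_a_rc_5_2 lc_a_rc_3_2 lc_a_rc_3_2 lc_a_rc_0_1 lc_a_rc_2_2 lc_a_rc_4_2 lc_a_rc_4_2 lc_a_rc_3_2 lc_a_rc_1_4 lc_a_rc_3_2 lc_a_rc_2_2 lc_a_rc_2_2 lc_a_rc_5_2 lc_a_rc_5_2 lc_a_rc_21_0 lc_a_rc_3_2 lc_a_rc_5_2 lc_a_rc_2_2 lc_a_rc_4_2 lc_a_rc_3_2 lc_a_rc_3_2 lc_a_rc_22_0 lc_a_rc_5_0 lc_a_rc_2_2 lc_a_rc_2_0 lc_a_rc_2_2 lc_a_rc_3_2 lc_a_rc_4_2 lc_a_rc_3_2 lc_a_rc_21_0 lc_a_rc_2_2 lc_a_rc_3_2 lc_a_rc_2_2 lc_a_Cert_tree lc_a_rc_4_2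 lc_a_rc_4_2 lc_a_rc_3_0 lc_a_rc_3_2 lc_a_rc_2_2 lc_a_rc_2_2 lc_a_rc_4_2 lc_a_rc_0_1 lc_a_rc_4_2) (@D3.rec (fun _ => (Cert rels S Gen.a)) lc_a_rc_4_2 lc_a_rc_5_0 lc_a_rc_3_2 lc_a_rc_5_2 lc_a_rc_4_2 lc_a_rc_21_0 lc_a_rc_4_0 lc_a_rc_5_2 lc_a_rc_0_1 lc_a_rc_3_2 lc_a_rc_3_2 lc_a_rc_4_2 lc_a_rc_0_1 lc_a_rc_21_0 lc_a_rc_4_2 lc_a_rc_5_2 lc_a_rc_2_2 lc_a_rc_2_2 lc_a_rc_2_2 lc_a_rc_2_2 lc_a_rc_1_4 lc_a_rc_3_2 lc_a_rc_3_2 lc_a_rc_21_0 lc_a_rc_1_0 lc_a_rc_3_2 lc_a_rc_0_1 lc_a_rc_3_0 lc_a_rc_4_2 lc_a_rc_0_1 lc_a_rc_21_0 lc_a_rc_4_0 lc_a_rc_1_4 lc_a_rc_4_2 lc_a_rc_2_0 lc_a_rc_0_1 lc_a_rc_3_2 lc_a_rc_2_2 lc_a_rc_4_2 lc_a_rc_2_2 lc_a_rc_4_2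 lc_a_rc_0_1 lc_a_rc_1_4 lc_a_rc_3_2 lc_a_rc_4_0 lc_a_rc_22_0 lc_a_rc_2_2 lc_a_rc_1_2 lc_a_rc_21_0 lc_a_rc_3_2 lc_a_rc_5_0 lc_a_rc_3_2 lc_a_rc_5_2 lc_a_rc_0_1 lc_a_rc_3_0 lc_a_rc_5_2 lc_a_rc_21_0 lc_a_rc_1_0 lc_a_rc_3_2 lc_a_rc_3_2 lc_a_rc_3_2 lc_a_rc_3_2) (@D3.rec (fun _ => (Cert rels S Gen.a)) lc_a_rc_5_0 lc_a_rc_3_2 lc_a_rc_2_2 lc_a_rc_3_2 lc_a_rc_4_2 lc_a_rc_0_1 lc_a_rc_4_2 lc_a_rc_3_2 lc_a_rc_4_2 lc_a_rc_4_2 lc_a_rc_2_0 lc_a_rc_2_0 lc_a_rc_0_1 lc_a_rc_3_2 lc_a_rc_2_2 lc_a_rc_4_2 lc_a_rc_4_2 lc_a_rc_3_2 lc_a_rc_2_2 lc_a_rc_3_2 lc_a_rc_21_0 lc_a_rc_3_2 lc_a_rc_5_2 lc_a_rc_21_0 lc_a_rc_3_2 lc_a_rc_4_2 lc_a_rc_0_1 lc_a_rc_2_2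 lc_a_rc_4_2 lc_a_rc_1_0 lc_a_rc_2_2 lc_a_rc_3_2 lc_a_rc_2_2 lc_a_rc_3_0 lc_a_rc_0_1 lc_a_rc_3_2 lc_a_rc_5_2 lc_a_rc_3_2 lc_a_rc_1_0 lc_a_rc_3_2 lc_a_rc_2_0 lc_a_rc_3_2 lc_a_rc_4_0 lc_a_rc_4_2 lc_a_rc_5_2 lc_a_rc_2_2 lc_a_rc_2_2 lc_a_rc_3_0 lc_a_rc_2_2 lc_a_rc_5_2 lc_a_rc_5_2 lc_a_rc_5_2 lc_a_rc_4_2 lc_a_rc_5_0 lc_a_rc_3_2 lc_a_rc_4_2 lc_a_rc_3_2 lc_a_rc_3_0 lc_a_rc_21_0 lc_a_rc_3_2 lc_a_rc_1_0 lc_a_rc_0_1) (@D3.rec (fun _ => (Cert rels S Gen.a)) lc_a_rc_3_2 lc_a_rc_5_2 lc_a_rc_21_0 lc_a_rc_1_0 lc_a_rc_3_2 lc_a_rc_2_0 lc_a_rc_1_2 lc_a_rc_21_0 lc_a_rc_3_2 lc_a_rc_4_2 lc_a_rc_4_2 lc_a_rc_5_0 lc_a_rc_4_2 lc_a_rc_21_0 lc_a_rc_2_2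 lc_a_rc_3_2 lc_a_rc_5_0 lc_a_rc_2_2 lc_a_rc_3_2 lc_a_rc_2_2 lc_a_rc_4_2 lc_a_rc_0_1 lc_a_Cert_tree lc_a_rc_3_2 lc_a_rc_0_1 lc_a_rc_4_2 lc_a_rc_1_4 lc_a_rc_1_4 lc_a_rc_1_4 lc_a_rc_21_0 lc_a_rc_2_2 lc_a_rc_3_2 lc_a_rc_4_2 lc_a_rc_0_1 lc_a_rc_2_2 lc_a_rc_2_2 lc_a_rc_0_1 lc_a_rc_2_2 lc_a_rc_3_2 lc_a_rc_4_2 lc_a_rc_21_0 lc_a_rc_2_2 lc_a_rc_2_2 lc_a_rc_3_2 lc_a_rc_5_0 lc_a_rc_4_2 lc_a_rc_2_2 lc_a_rc_2_2 lc_a_rc_3_2 lc_a_rc_4_2 lc_a_rc_2_2 lc_a_rc_3_2 lc_a_rc_3_2 lc_a_rc_0_1 lc_a_rc_4_2 lc_a_rc_4_2 lc_a_rc_3_2 lc_a_rc_5_2 lc_a_rc_5_2 lc_a_rc_0_1 lc_a_rc_4_2 lc_a_rc_3_2) (@D3.rec (fun _ => (Cert rels S Gen.a)) lc_a_rc_0_1 lc_a_rc_3_2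 lc_a_rc_4_2 lc_a_rc_0_1 lc_a_rc_1_4 lc_a_rc_4_0 lc_a_rc_5_0 lc_a_rc_2_2 lc_a_rc_22_0 lc_a_rc_0_1 lc_a_rc_0_1 lc_a_rc_3_2 lc_a_rc_3_0 lc_a_rc_3_2 lc_a_rc_2_2 lc_a_rc_4_2 lc_a_rc_2_2 lc_a_rc_21_0 lc_a_rc_0_1 lc_a_rc_0_1 lc_a_rc_21_0 lc_a_rc_3_2 lc_a_rc_4_2 lc_a_rc_2_2 lc_a_rc_3_2 lc_a_rc_2_2 lc_a_rc_2_2 lc_a_rc_3_2 lc_a_rc_3_2 lc_a_rc_5_0 lc_a_rc_4_2 lc_a_rc_4_2 lc_a_rc_5_0 lc_a_Cert_tree lc_a_rc_2_2 lc_a_rc_3_2 lc_a_rc_4_2 lc_a_rc_3_0 lc_a_rc_2_2 lc_a_rc_3_2 lc_a_rc_4_2 lc_a_rc_2_0 lc_a_Cert_tree lc_a_rc_2_0 lc_a_rc_21_0 lc_a_rc_3_2 lc_a_rc_2_2 lc_a_rc_2_2 lc_a_rc_4_2 lc_a_rc_0_1 lc_a_rc_0_1 lc_a_rc_5_2 lc_a_rc_0_1 lc_a_rc_0_1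 lc_a_rc_3_2 lc_a_rc_0_1 lc_a_rc_21_0 lc_a_rc_2_2 lc_a_rc_4_2 lc_a_rc_2_2 lc_a_rc_21_0 lc_a_rc_21_0) (@D3.rec (fun _ => (Cert rels S Gen.a)) lc_a_rc_5_0 lc_a_rc_4_2 lc_a_rc_2_2 lc_a_rc_4_2 lc_a_rc_5_0 lc_a_rc_4_2 lc_a_Cert_tree lc_a_rc_3_2 lc_a_rc_2_2 lc_a_rc_3_2 lc_a_rc_5_2 lc_a_rc_2_0 lc_a_rc_3_2 lc_a_rc_4_2 lc_a_rc_0_1 lc_a_rc_21_0 lc_a_rc_0_1 lc_a_rc_2_2 lc_a_rc_3_2 lc_a_rc_3_2 lc_a_rc_21_0 lc_a_rc_3_2 lc_a_rc_5_2 lc_a_rc_22_0 lc_a_rc_4_2 lc_a_rc_1_2 lc_a_rc_21_0 lc_a_rc_4_2 lc_a_rc_4_2 lc_a_rc_2_2 lc_a_rc_3_2 lc_a_rc_22_0 lc_a_rc_21_0 lc_a_rc_3_2 lc_a_rc_4_2 lc_a_rc_3_2 lc_a_rc_3_0 lc_a_rc_5_0 lc_a_rc_4_2 lc_a_rc_2_2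 lc_a_rc_3_2 lc_a_rc_4_2 lc_a_rc_2_2 lc_a_rc_3_2 lc_a_rc_3_2 lc_a_rc_1_2 lc_a_rc_2_2 lc_a_rc_5_0 lc_a_rc_5_2 lc_a_rc_4_2 lc_a_rc_5_0 lc_a_Cert_tree lc_a_rc_3_2 lc_a_rc_2_2 lc_a_rc_21_0 lc_a_rc_22_0 lc_a_rc_21_0 lc_a_rc_4_2 lc_a_rc_2_2 lc_a_rc_3_2 lc_a_rc_5_2 lc_a_rc_2_2) (@D3.rec (fun _ => (Cert rels S Gen.a)) lc_a_rc_4_2 lc_a_Cert_tree lc_a_rc_4_2 lc_a_rc_3_0 lc_a_rc_3_2 lc_a_rc_5_2 lc_a_rc_4_2 lc_a_rc_2_0 lc_a_rc_4_2 lc_a_rc_21_0 lc_a_rc_4_2 lc_a_rc_5_2 lc_a_rc_22_0 lc_a_rc_2_2 lc_a_rc_5_0 lc_a_rc_4_2 lc_a_rc_5_2 lc_a_rc_22_0 lc_a_rc_4_2 lc_a_rc_1_2 lc_a_rc_2_2 lc_a_rc_3_2 lc_a_rc_1_2 lc_a_rc_0_1 lc_a_rc_3_2 lc_a_rc_5_0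 lc_a_rc_21_0 lc_a_rc_4_2 lc_a_rc_3_2 lc_a_rc_4_2 lc_a_rc_5_0 lc_a_rc_3_2 lc_a_rc_4_2 lc_a_rc_1_2 lc_a_rc_3_2 lc_a_rc_3_2 lc_a_Cert_tree lc_a_rc_4_2 lc_a_rc_3_2 lc_a_rc_5_2 lc_a_Cert_tree lc_a_Cert_tree lc_a_rc_2_2 lc_a_rc_21_0 lc_a_rc_5_2 lc_a_rc_21_0 lc_a_rc_0_1 lc_a_rc_4_0 lc_a_rc_21_0 lc_a_rc_0_1 lc_a_rc_3_2 lc_a_rc_4_2 lc_a_rc_2_2 lc_a_rc_21_0 lc_a_rc_3_2 lc_a_rc_5_2 lc_a_rc_21_0 lc_a_rc_2_2 lc_a_rc_0_1 lc_a_rc_1_2 lc_a_rc_1_4 lc_a_rc_21_0) (@D3.rec (fun _ => (Cert rels S Gen.a)) lc_a_rc_2_2 lc_a_rc_5_2 lc_a_rc_4_2 lc_a_rc_3_2 lc_a_rc_21_0 lc_a_rc_21_0 lc_a_rc_3_0 lc_a_rc_0_1 lc_a_rc_2_0 lc_a_rc_4_2 lc_a_rc_5_2 lc_a_rc_2_2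 lc_a_rc_0_1 lc_a_rc_5_2 lc_a_rc_21_0 lc_a_rc_4_2 lc_a_rc_3_2 lc_a_rc_21_0 lc_a_rc_0_1 lc_a_rc_0_1 lc_a_rc_2_2 lc_a_rc_4_2 lc_a_rc_5_2 lc_a_rc_0_1 lc_a_rc_2_2 lc_a_rc_4_2 lc_a_rc_4_0 lc_a_rc_1_0 lc_a_rc_5_2 lc_a_rc_4_2 lc_a_rc_21_0 lc_a_rc_0_1 lc_a_rc_0_1 lc_a_rc_2_2 lc_a_rc_2_2 lc_a_rc_0_1 lc_a_rc_1_2 lc_a_rc_1_2 lc_a_rc_4_2 lc_a_rc_2_2 lc_a_rc_5_0 lc_a_rc_3_2 lc_a_rc_5_2 lc_a_rc_2_2 lc_a_rc_1_0 lc_a_rc_0_1 lc_a_rc_22_0 lc_a_rc_2_2 lc_a_rc_4_2 lc_a_rc_5_2 lc_a_rc_22_0 lc_a_rc_4_2 lc_a_rc_3_2 lc_a_rc_0_1 lc_a_rc_0_1 lc_a_rc_1_4 lc_a_rc_3_2 lc_a_rc_5_2 lc_a_rc_2_0 lc_a_rc_5_2 lc_a_rc_2_0 lc_a_rc_5_0) (@D3.rec (fun _ =>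 (Cert rels S Gen.a)) lc_a_rc_3_2 lc_a_rc_0_1 lc_a_rc_2_0 lc_a_rc_2_2 lc_a_rc_4_2 lc_a_rc_1_2 lc_a_rc_4_2 lc_a_rc_1_4 lc_a_rc_4_2 lc_a_rc_21_0 lc_a_rc_4_2 lc_a_rc_5_2 lc_a_rc_4_2 lc_a_rc_1_2 lc_a_rc_2_2 lc_a_rc_0_1 lc_a_rc_21_0 lc_a_rc_21_0 lc_a_rc_3_2 lc_a_rc_5_2 lc_a_rc_2_2 lc_a_rc_21_0 lc_a_rc_2_2 lc_a_rc_0_1 lc_a_rc_0_1 lc_a_rc_4_2 lc_a_rc_4_2 lc_a_rc_2_2 lc_a_rc_5_0 lc_a_rc_3_2 lc_a_rc_5_2 lc_a_rc_5_0 lc_a_rc_1_2 lc_a_rc_0_1 lc_a_rc_0_1 lc_a_rc_1_4 lc_a_rc_5_2 lc_a_rc_21_0 lc_a_rc_3_0 lc_a_rc_0_1 lc_a_rc_4_2 lc_a_rc_4_2 lc_a_rc_3_2 lc_a_rc_5_2 lc_a_rc_0_1 lc_a_rc_0_1 lc_a_rc_1_2 lc_a_rc_2_2 lc_a_rc_3_2 lc_a_rc_4_2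 lc_a_rc_5_2 lc_a_rc_2_0 lc_a_rc_0_1 lc_a_rc_3_2 lc_a_rc_4_2 lc_a_rc_3_2 lc_a_rc_2_2 lc_a_rc_2_2 lc_a_rc_3_2 lc_a_rc_21_0 lc_a_rc_4_2 lc_a_Cert_tree) (@D3.rec (fun _ => (Cert rels S Gen.a)) lc_a_rc_4_2 lc_a_rc_21_0 lc_a_rc_4_2 lc_a_rc_1_2 lc_a_rc_2_2 lc_a_rc_5_2 lc_a_rc_3_2 lc_a_rc_21_0 lc_a_rc_0_1 lc_a_rc_0_1 lc_a_rc_4_2 lc_a_rc_3_2 lc_a_rc_4_2 lc_a_rc_0_1 lc_a_rc_21_0 lc_a_rc_0_1 lc_a_rc_3_2 lc_a_rc_4_2 lc_a_rc_4_2 lc_a_rc_4_2 lc_a_rc_5_0 lc_a_rc_3_2 lc_a_rc_5_2 lc_a_rc_2_2 lc_a_rc_21_0 lc_a_rc_3_2 lc_a_rc_3_2 lc_a_rc_0_1 lc_a_rc_3_2 lc_a_rc_4_2 lc_a_rc_4_2 lc_a_rc_4_2 lc_a_rc_2_2 lc_a_rc_3_2 lc_a_rc_0_1 lc_a_rc_21_0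 lc_a_rc_0_1 lc_a_rc_2_2 lc_a_rc_4_2 lc_a_rc_4_2 lc_a_rc_3_2 lc_a_rc_4_2 lc_a_rc_21_0 lc_a_rc_0_1 lc_a_rc_0_1 lc_a_rc_3_2 lc_a_rc_2_2 lc_a_rc_4_2 lc_a_rc_3_2 lc_a_rc_2_2 lc_a_rc_1_4 lc_a_rc_3_2 lc_a_rc_4_2 lc_a_rc_2_0 lc_a_rc_5_2 lc_a_rc_2_2 lc_a_rc_4_2 lc_a_rc_3_2 lc_a_rc_4_2 lc_a_rc_3_2 lc_a_rc_2_2 lc_a_rc_2_2) (@D3.rec (fun _ => (Cert rels S Gen.a)) lc_a_rc_21_0 lc_a_rc_2_2 lc_a_rc_3_2 lc_a_rc_5_2 lc_a_rc_1_2 lc_a_rc_4_2 lc_a_Cert_tree lc_a_rc_4_2 lc_a_rc_2_2 lc_a_rc_2_2 lc_a_rc_3_2 lc_a_rc_5_2 lc_a_Cert_tree lc_a_rc_5_0 lc_a_Cert_tree lc_a_rc_3_2 lc_a_rc_4_2 lc_a_rc_21_0 lc_a_rc_3_2 lc_a_rc_2_2 lc_a_rc_5_2 lc_a_rc_5_0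 lc_a_rc_1_4 lc_a_rc_3_2 lc_a_rc_5_0 lc_a_rc_4_2 lc_a_rc_5_0 lc_a_rc_21_0 lc_a_rc_21_0 lc_a_Cert_tree lc_a_rc_3_2 lc_a_rc_5_2 lc_a_Cert_tree lc_a_rc_4_2 lc_a_rc_21_0 lc_a_rc_0_1 lc_a_rc_0_1 lc_a_rc_3_2 lc_a_rc_4_2 lc_a_rc_2_2 lc_a_rc_2_2 lc_a_rc_3_2 lc_a_rc_0_1 lc_a_rc_21_0 lc_a_rc_3_2 lc_a_rc_4_2 lc_a_rc_3_2 lc_a_rc_4_2 lc_a_rc_0_1 lc_a_rc_21_0 lc_a_rc_2_2 lc_a_rc_4_2 lc_a_rc_21_0 lc_a_rc_4_0 lc_a_rc_3_2 lc_a_rc_5_2 lc_a_rc_3_2 lc_a_rc_3_2 lc_a_rc_3_2 lc_a_rc_5_2 lc_a_rc_2_2 lc_a_rc_3_2) (@D3.rec (fun _ => (Cert rels S Gen.a)) lc_a_rc_4_2 lc_a_Cert_tree lc_a_rc_3_2 lc_a_rc_5_0 lc_a_rc_3_2 lc_a_rc_21_0 lc_a_rc_5_2 lc_a_rc_5_0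 lc_a_rc_5_2 lc_a_rc_21_0 lc_a_rc_3_2 lc_a_rc_2_2 lc_a_rc_0_1 lc_a_rc_0_1 lc_a_rc_4_2 lc_a_rc_4_2 lc_a_rc_2_2 lc_a_rc_5_0 lc_a_rc_3_2 lc_a_rc_4_2 lc_a_rc_1_4 lc_a_rc_3_0 lc_a_rc_0_1 lc_a_rc_5_0 lc_a_rc_3_2 lc_a_rc_21_0 lc_a_rc_0_1 lc_a_rc_0_1 lc_a_rc_2_2 lc_a_rc_1_4 lc_a_rc_4_2 lc_a_rc_0_1 lc_a_rc_1_2 lc_a_rc_3_2 lc_a_rc_4_2 lc_a_rc_2_2 lc_a_rc_2_0 lc_a_rc_21_0 lc_a_rc_2_2 lc_a_rc_21_0 lc_a_rc_4_2 lc_a_rc_22_0 lc_a_rc_4_2 lc_a_rc_1_0 lc_a_rc_3_2 lc_a_rc_5_2 lc_a_Cert_tree lc_a_rc_2_0 lc_a_rc_3_0 lc_a_rc_3_2 lc_a_rc_2_2 lc_a_rc_2_0 lc_a_rc_2_0 lc_a_rc_2_2 lc_a_rc_3_2 lc_a_rc_2_2 lc_a_rc_3_2 lc_a_rc_2_2 lc_a_Cert_tree lc_a_rc_3_2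 lc_a_rc_22_0 lc_a_rc_5_0) (@D3.rec (fun _ => (Cert rels S Gen.a)) lc_a_rc_2_0 lc_a_rc_0_1 lc_a_rc_3_2 lc_a_rc_21_0 lc_a_rc_4_2 lc_a_rc_3_2 lc_a_rc_4_2 lc_a_rc_21_0 lc_a_rc_2_2 lc_a_rc_1_4 lc_a_rc_21_0 lc_a_rc_1_2 lc_a_rc_3_2 lc_a_rc_5_2 lc_a_rc_21_0 lc_a_rc_2_0 lc_a_rc_3_2 lc_a_rc_2_2 lc_a_rc_5_2 lc_a_rc_3_2 lc_a_rc_2_2 lc_a_rc_21_0 lc_a_rc_5_0 lc_a_rc_3_2 lc_a_rc_2_2 lc_a_rc_22_0 lc_a_rc_2_2 lc_a_rc_22_0 lc_a_rc_4_2 lc_a_rc_3_2 lc_a_rc_0_1 lc_a_rc_22_0 lc_a_rc_4_2 lc_a_rc_2_2 lc_a_rc_3_2 lc_a_rc_2_0 lc_a_rc_2_2 lc_a_rc_21_0 lc_a_rc_0_1 lc_a_rc_3_2 lc_a_rc_22_0 lc_a_rc_0_1 lc_a_rc_21_0 lc_a_rc_1_4 lc_a_rc_4_2 lc_a_rc_5_2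 lc_a_rc_22_0 lc_a_rc_4_2 lc_a_rc_3_2 lc_a_rc_2_2 lc_a_rc_2_2 lc_a_rc_3_2 lc_a_rc_4_2 lc_a_rc_2_2 lc_a_rc_4_2 lc_a_rc_3_2 lc_a_rc_0_1 lc_a_rc_21_0 lc_a_rc_2_2 lc_a_rc_3_2 lc_a_rc_2_0 lc_a_rc_2_0) (@D3.rec (fun _ => (Cert rels S Gen.a)) lc_a_rc_3_2 lc_a_rc_3_2 lc_a_rc_5_0 lc_a_rc_4_2 lc_a_rc_3_2 lc_a_rc_5_0 lc_a_rc_3_2 lc_a_rc_5_2 lc_a_rc_3_2 lc_a_rc_4_2 lc_a_rc_5_2 lc_a_rc_3_2 lc_a_rc_4_2 lc_a_rc_1_2 lc_a_rc_0_1 lc_a_rc_2_2 lc_a_rc_1_4 lc_a_rc_21_0 lc_a_rc_2_2 lc_a_rc_1_4 lc_a_rc_3_2 lc_a_rc_4_2 lc_a_rc_2_2 lc_a_rc_0_1 lc_a_rc_3_2 lc_a_rc_4_0 lc_a_rc_21_0 lc_a_rc_4_2 lc_a_rc_3_2 lc_a_rc_0_1 lc_a_rc_2_2 lc_a_rc_4_2 lc_a_rc_2_2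 lc_a_rc_4_2 lc_a_rc_3_2 lc_a_rc_4_2 lc_a_rc_2_2 lc_a_rc_0_1 lc_a_rc_21_0 lc_a_rc_2_0 lc_a_rc_2_2 lc_a_rc_2_2 lc_a_rc_4_2 lc_a_rc_3_2 lc_a_rc_4_2 lc_a_rc_4_2 lc_a_rc_5_2 lc_a_rc_4_2 lc_a_rc_0_1 lc_a_rc_3_2 lc_a_rc_3_2 lc_a_rc_3_2 lc_a_rc_4_2 lc_a_rc_21_0 lc_a_rc_21_0 lc_a_rc_0_1 lc_a_rc_5_2 lc_a_rc_4_2 lc_a_rc_2_2 lc_a_rc_2_2 lc_a_rc_3_2 lc_a_rc_0_1) (@D3.rec (fun _ => (Cert rels S Gen.a)) lc_a_rc_0_1 lc_a_rc_4_0 lc_a_rc_2_2 lc_a_rc_3_2 lc_a_rc_5_2 lc_a_rc_0_1 lc_a_rc_2_2 lc_a_rc_4_2 lc_a_rc_3_0 lc_a_rc_3_0 lc_a_rc_5_2 lc_a_rc_3_2 lc_a_rc_0_1 lc_a_rc_0_1 lc_a_rc_3_0 lc_a_rc_3_0 lc_a_rc_1_0 lc_a_rc_21_0 lc_a_rc_3_0 lc_a_rc_2_2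 lc_a_rc_2_0 lc_a_rc_2_0 lc_a_rc_3_0 lc_a_rc_2_2 lc_a_rc_0_1 lc_a_rc_5_2 lc_a_rc_3_0 lc_a_rc_2_2 lc_a_rc_21_0 lc_a_rc_3_2 lc_a_rc_4_2 lc_a_rc_21_0 lc_a_rc_4_2 lc_a_rc_5_0 lc_a_rc_3_2 lc_a_rc_2_2 lc_a_rc_21_0 lc_a_rc_3_2 lc_a_rc_21_0 lc_a_rc_3_2 lc_a_rc_2_2 lc_a_rc_21_0 lc_a_rc_21_0 lc_a_rc_3_2 lc_a_rc_4_2 lc_a_rc_21_0 lc_a_rc_2_2 lc_a_rc_0_1 lc_a_rc_3_2 lc_a_rc_4_2 lc_a_rc_0_1 lc_a_rc_21_0 lc_a_rc_5_2 lc_a_rc_2_2 lc_a_rc_1_2 lc_a_rc_1_4 lc_a_rc_0_1 lc_a_rc_3_2 lc_a_rc_4_2 lc_a_rc_5_2 lc_a_rc_21_0 lc_a_rc_2_2) (@D3.rec (fun _ => (Cert rels S Gen.a)) lc_a_rc_0_1 lc_a_rc_3_0 lc_a_rc_3_2 lc_a_rc_3_0 lc_a_rc_0_1 lc_a_rc_4_2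 lc_a_Cert_tree lc_a_rc_3_2 lc_a_rc_4_2 lc_a_Cert_tree lc_a_rc_4_2 lc_a_rc_3_2 lc_a_rc_3_0 lc_a_rc_3_2 lc_a_rc_4_0 lc_a_rc_5_2 lc_a_rc_4_2 lc_a_Cert_tree lc_a_Cert_tree lc_a_rc_2_2 lc_a_rc_2_0 lc_a_rc_2_0 lc_a_rc_3_2 lc_a_rc_5_2 lc_a_rc_3_2 lc_a_Cert_tree lc_a_rc_3_2 lc_a_rc_21_0 lc_a_rc_3_2 lc_a_rc_5_2 lc_a_rc_3_2 lc_a_rc_21_0 lc_a_rc_4_2 lc_a_rc_4_0 lc_a_rc_1_0 lc_a_rc_3_2 lc_a_rc_1_2 lc_a_rc_4_2 lc_a_rc_21_0 lc_a_rc_0_1 lc_a_rc_1_4 lc_a_rc_3_2 lc_a_rc_4_2 lc_a_rc_4_0 lc_a_rc_3_2 lc_a_rc_5_2 lc_a_rc_2_2 lc_a_rc_0_1 lc_a_rc_21_0 lc_a_rc_3_0 lc_a_rc_3_2 lc_a_rc_4_2 lc_a_rc_3_2 lc_a_rc_2_2 lc_a_rc_4_2 lc_a_rc_3_2 lc_a_rc_2_2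 lc_a_rc_4_2 lc_a_rc_1_0 lc_a_rc_3_2 lc_a_rc_2_0 lc_a_rc_3_2) (@D3.rec (fun _ => (Cert rels S Gen.a)) lc_a_rc_0_1 lc_a_rc_21_0 lc_a_rc_0_1 lc_a_rc_21_0 lc_a_rc_4_2 lc_a_rc_4_2 lc_a_rc_3_2 lc_a_rc_21_0 lc_a_rc_0_1 lc_a_rc_0_1 lc_a_rc_3_2 lc_a_rc_4_2 lc_a_rc_4_2 lc_a_rc_5_0 lc_a_rc_3_2 lc_a_rc_21_0 lc_a_rc_2_2 lc_a_rc_0_1 lc_a_rc_4_2 lc_a_rc_3_2 lc_a_rc_2_2 lc_a_rc_21_0 lc_a_rc_0_1 lc_a_rc_4_2 lc_a_rc_3_2 lc_a_rc_5_2 lc_a_rc_21_0 lc_a_rc_21_0 lc_a_rc_4_2 lc_a_Cert_tree lc_a_rc_4_2 lc_a_rc_3_2 lc_a_rc_4_2 lc_a_rc_21_0 lc_a_rc_0_1 lc_a_rc_2_2 lc_a_rc_5_0 lc_a_rc_3_2 lc_a_rc_3_0 lc_a_Cert_tree lc_a_rc_2_2 lc_a_rc_1_4 lc_a_rc_5_2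 lc_a_rc_4_2 lc_a_rc_2_2 lc_a_rc_4_2 lc_a_rc_0_1 lc_a_rc_2_2 lc_a_Cert_tree lc_a_rc_3_2 lc_a_rc_4_2 lc_a_rc_3_2 lc_a_rc_0_1 lc_a_rc_0_1 lc_a_rc_0_1 lc_a_rc_4_2 lc_a_rc_21_0 lc_a_rc_21_0 lc_a_rc_4_2 lc_a_rc_4_0 lc_a_rc_3_2 lc_a_rc_5_2) (@D3.rec (fun _ => (Cert rels S Gen.a)) lc_a_rc_2_2 lc_a_rc_4_2 lc_a_rc_3_2 lc_a_rc_2_2 lc_a_rc_4_2 lc_a_rc_3_2 lc_a_rc_2_2 lc_a_rc_4_2 lc_a_rc_3_2 lc_a_rc_21_0 lc_a_rc_3_2 lc_a_rc_1_0 lc_a_rc_21_0 lc_a_rc_1_2 lc_a_rc_4_0 lc_a_rc_0_1 lc_a_rc_1_2 lc_a_rc_3_2 lc_a_rc_0_1 lc_a_rc_2_2 lc_a_rc_0_1 lc_a_rc_3_2 lc_a_rc_5_2 lc_a_rc_2_2 lc_a_rc_0_1 lc_a_rc_1_2 lc_a_rc_3_2 lc_a_rc_3_0 lc_a_rc_3_0 lc_a_rc_0_1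 lc_a_rc_5_0 lc_a_rc_1_2 lc_a_rc_4_2 lc_a_rc_3_2 lc_a_rc_4_2 lc_a_rc_2_0 lc_a_rc_4_0 lc_a_rc_21_0 lc_a_rc_3_0 lc_a_rc_21_0 lc_a_rc_3_2 lc_a_rc_2_0 lc_a_rc_4_2 lc_a_rc_3_2 lc_a_Cert_tree lc_a_rc_3_2 lc_a_rc_3_0 lc_a_rc_4_2 lc_a_rc_3_0 lc_a_rc_22_0 lc_a_rc_21_0 lc_a_rc_3_2 lc_a_rc_4_2 lc_a_rc_21_0 lc_a_rc_21_0 lc_a_rc_3_2 lc_a_Cert_tree lc_a_rc_3_2 lc_a_rc_21_0 lc_a_rc_4_2 lc_a_rc_0_1 lc_a_rc_1_2) (@D3.rec (fun _ => (Cert rels S Gen.a)) lc_a_rc_3_2 lc_a_rc_4_2 lc_a_rc_3_2 lc_a_rc_3_2 lc_a_rc_2_2 lc_a_rc_4_2 lc_a_rc_3_2 lc_a_rc_3_2 lc_a_rc_5_2 lc_a_rc_2_2 lc_a_rc_2_2 lc_a_rc_0_1 lc_a_rc_4_2 lc_a_rc_3_2 lc_a_rc_0_1 lc_a_rc_3_2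 lc_a_rc_2_2 lc_a_rc_3_0 lc_a_rc_4_0 lc_a_rc_4_0 lc_a_rc_4_2 lc_a_rc_5_2 lc_a_rc_1_4 lc_a_rc_5_2 lc_a_rc_0_1 lc_a_rc_5_0 lc_a_rc_4_2 lc_a_rc_21_0 lc_a_rc_2_2 lc_a_rc_0_1 lc_a_Cert_tree lc_a_rc_4_2 lc_a_rc_3_2 lc_a_rc_4_2 lc_a_rc_2_2 lc_a_rc_0_1 lc_a_rc_2_2 lc_a_rc_2_2 lc_a_rc_3_2 lc_a_rc_4_0 lc_a_rc_22_0 lc_a_rc_2_2 lc_a_rc_4_0 lc_a_rc_21_0 lc_a_rc_3_2 lc_a_rc_3_2 lc_a_rc_3_2 lc_a_rc_2_2 lc_a_rc_3_2 lc_a_rc_0_1 lc_a_Cert_tree lc_a_rc_3_2 lc_a_rc_2_2 lc_a_Cert_tree lc_a_rc_21_0 lc_a_rc_2_2 lc_a_rc_3_2 lc_a_rc_5_2 lc_a_rc_3_2 lc_a_rc_4_2 lc_a_rc_3_0 lc_a_rc_3_2) (@D3.rec (fun _ => (Cert rels S Gen.a)) lc_a_rc_2_2 lc_a_rc_3_2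 lc_a_rc_21_0 lc_a_rc_3_2 lc_a_rc_3_0 lc_a_rc_2_2 lc_a_rc_4_2 lc_a_rc_3_2 lc_a_rc_0_1 lc_a_rc_4_2 lc_a_rc_4_2 lc_a_rc_5_2 lc_a_rc_3_0 lc_a_rc_1_2 lc_a_rc_4_2 lc_a_rc_4_0 lc_a_rc_2_2 lc_a_rc_2_2 lc_a_rc_2_2 lc_a_rc_4_2 lc_a_rc_2_2 lc_a_rc_4_2 lc_a_rc_3_2 lc_a_rc_2_0 lc_a_rc_2_2 lc_a_rc_4_2 lc_a_rc_5_0 lc_a_rc_3_0 lc_a_rc_3_2 lc_a_rc_2_2 lc_a_rc_4_2 lc_a_rc_4_0 lc_a_rc_4_2 lc_a_rc_4_0 lc_a_rc_21_0 lc_a_rc_4_2 lc_a_rc_21_0 lc_a_rc_5_2 lc_a_rc_2_2 lc_a_rc_0_1 lc_a_Cert_tree lc_a_rc_3_2 lc_a_rc_2_2 lc_a_rc_4_2 lc_a_rc_0_1 lc_a_rc_21_0 lc_a_rc_4_2 lc_a_rc_21_0 lc_a_rc_4_2 lc_a_rc_3_0 lc_a_rc_3_2 lc_a_rc_2_2 lc_a_rc_2_2 lc_a_rc_3_2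 lc_a_rc_4_2 lc_a_rc_21_0 lc_a_rc_2_2 lc_a_rc_2_0 lc_a_rc_2_2 lc_a_rc_0_1 lc_a_rc_3_2 lc_a_rc_2_2) (@D3.rec (fun _ => (Cert rels S Gen.a)) lc_a_rc_2_2 lc_a_rc_3_2 lc_a_rc_2_2 lc_a_rc_4_2 lc_a_rc_3_2 lc_a_rc_3_2 lc_a_rc_5_2 lc_a_rc_2_0 lc_a_rc_2_2 lc_a_rc_0_1 lc_a_rc_3_2 lc_a_rc_0_1 lc_a_rc_4_2 lc_a_rc_2_2 lc_a_rc_2_0 lc_a_rc_2_2 lc_a_rc_21_0 lc_a_rc_2_2 lc_a_rc_21_0 lc_a_rc_3_2 lc_a_rc_4_2 lc_a_rc_2_2 lc_a_rc_21_0 lc_a_rc_4_2 lc_a_rc_1_2 lc_a_rc_21_0 lc_a_rc_1_4 lc_a_rc_3_0 lc_a_rc_3_0 lc_a_rc_4_2 lc_a_rc_3_0 lc_a_rc_2_0 lc_a_rc_3_2 lc_a_rc_4_2 lc_a_rc_2_2 lc_a_rc_4_0 lc_a_rc_5_2 lc_a_rc_3_2 lc_a_rc_0_1 lc_a_rc_4_2 lc_a_rc_2_2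 lc_a_rc_21_0 lc_a_rc_1_4 lc_a_rc_0_1 lc_a_rc_1_0 lc_a_rc_2_0 lc_a_rc_2_2 lc_a_rc_4_2 lc_a_rc_4_2 lc_a_rc_0_1 lc_a_rc_2_2 lc_a_rc_2_0 lc_a_rc_2_2 lc_a_rc_2_2 lc_a_rc_1_4 lc_a_rc_2_0 lc_a_rc_2_2 lc_a_rc_2_0 lc_a_rc_2_2 lc_a_rc_0_1 lc_a_rc_2_2 lc_a_rc_3_2) (@D3.rec (fun _ => (Cert rels S Gen.a)) lc_a_rc_2_2 lc_a_rc_4_2 lc_a_rc_3_2 lc_a_rc_22_0 lc_a_rc_3_0 lc_a_rc_2_0 lc_a_rc_1_4 lc_a_rc_2_2 lc_a_rc_3_2 lc_a_rc_3_0 lc_a_rc_5_0 lc_a_Cert_tree lc_a_rc_21_0 lc_a_rc_21_0 lc_a_rc_4_2 lc_a_rc_3_2 lc_a_rc_5_2 lc_a_rc_1_0 lc_a_rc_4_2 lc_a_rc_1_2 lc_a_rc_1_2 lc_a_rc_3_2 lc_a_rc_4_2 lc_a_rc_4_0 lc_a_rc_5_2 lc_a_rc_0_1 lc_a_rc_0_1 lc_a_rc_5_0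 lc_a_rc_4_2 lc_a_rc_4_2 lc_a_rc_4_0 lc_a_rc_3_2 lc_a_rc_5_2 lc_a_rc_3_2 lc_a_rc_4_2 lc_a_rc_21_0 lc_a_rc_21_0 lc_a_rc_4_0 lc_a_rc_4_2 lc_a_rc_3_2 lc_a_Cert_tree lc_a_rc_2_2 lc_a_rc_5_2 lc_a_Cert_tree lc_a_rc_4_2 lc_a_rc_2_2 lc_a_rc_2_2 lc_a_rc_0_1 lc_a_rc_3_2 lc_a_rc_3_2 lc_a_rc_0_1 lc_a_rc_0_1 lc_a_rc_0_1 lc_a_rc_1_4 lc_a_rc_3_0 lc_a_rc_3_2 lc_a_rc_21_0 lc_a_rc_0_1 lc_a_rc_0_1 lc_a_rc_2_0 lc_a_rc_4_2 lc_a_rc_4_2) (@D3.rec (fun _ => (Cert rels S Gen.a)) lc_a_rc_3_2 lc_a_rc_4_2 lc_a_rc_5_0 lc_a_rc_4_2 lc_a_rc_2_2 lc_a_rc_21_0 lc_a_rc_0_1 lc_a_rc_3_2 lc_a_rc_4_2 lc_a_rc_4_2 lc_a_rc_2_2 lc_a_rc_4_2 lc_a_rc_3_2 lc_a_rc_5_2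 lc_a_rc_0_1 lc_a_rc_0_1 lc_a_rc_1_2 lc_a_rc_0_1 lc_a_rc_0_1 lc_a_rc_3_2 lc_a_rc_4_2 lc_a_rc_4_2 lc_a_rc_3_2 lc_a_rc_2_2 lc_a_rc_5_0 lc_a_rc_0_1 lc_a_rc_3_2 lc_a_rc_4_2 lc_a_rc_4_2 lc_a_rc_3_2 lc_a_rc_5_2 lc_a_rc_2_2 lc_a_rc_4_2 lc_a_rc_5_2 lc_a_rc_4_2 lc_a_rc_3_2 lc_a_rc_5_2 lc_a_rc_3_0 lc_a_rc_2_0 lc_a_rc_2_0 lc_a_rc_4_2 lc_a_rc_0_1 lc_a_rc_1_2 lc_a_rc_5_2 lc_a_rc_5_0 lc_a_rc_3_2 lc_a_rc_3_2 lc_a_rc_2_2 lc_a_rc_5_0 lc_a_rc_2_2 lc_a_Cert_tree lc_a_rc_3_2 lc_a_rc_1_2 lc_a_rc_4_2 lc_a_rc_2_2 lc_a_rc_21_0 lc_a_Cert_tree lc_a_rc_3_2 lc_a_rc_4_2 lc_a_rc_3_2 lc_a_rc_0_1 lc_a_rc_3_2) (@D3.rec (fun _ => (Cert rels S Gen.a)) lc_a_rc_4_2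 lc_a_rc_3_0 lc_a_rc_5_2 lc_a_rc_21_0 lc_a_rc_5_2 lc_a_rc_2_2 lc_a_rc_21_0 lc_a_rc_0_1 lc_a_rc_1_0 lc_a_rc_2_2 lc_a_rc_3_0 lc_a_rc_5_0 lc_a_rc_2_2 lc_a_rc_2_2 lc_a_rc_0_1 lc_a_rc_5_0 lc_a_rc_2_0 lc_a_rc_3_2 lc_a_rc_3_2 lc_a_rc_4_2 lc_a_rc_21_0 lc_a_rc_3_2 lc_a_rc_4_2 lc_a_rc_4_2 lc_a_rc_3_2 lc_a_rc_3_2 lc_a_rc_4_2 lc_a_rc_0_1 lc_a_rc_4_2 lc_a_rc_5_2 lc_a_rc_3_2 lc_a_rc_21_0 lc_a_rc_4_2 lc_a_rc_2_2 lc_a_rc_3_2 lc_a_rc_4_2 lc_a_rc_5_0 lc_a_rc_3_2 lc_a_rc_5_2 lc_a_rc_4_0 lc_a_rc_2_2 lc_a_rc_2_0 lc_a_rc_2_2 lc_a_rc_21_0 lc_a_rc_21_0 lc_a_rc_2_2 lc_a_rc_2_2 lc_a_rc_4_2 lc_a_rc_0_1 lc_a_rc_2_2 lc_a_rc_0_1 lc_a_rc_0_1 lc_a_rc_21_0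 lc_a_rc_22_0 lc_a_rc_4_2 lc_a_rc_2_2 lc_a_rc_21_0 lc_a_rc_21_0 lc_a_rc_4_2 lc_a_rc_4_2 lc_a_rc_1_2 lc_a_rc_3_2) (@D3.rec (fun _ => (Cert rels S Gen.a)) lc_a_rc_2_2 lc_a_rc_1_4 lc_a_rc_3_2 lc_a_rc_4_2 lc_a_rc_3_2 lc_a_rc_21_0 lc_a_rc_5_2 lc_a_Cert_tree lc_a_rc_3_2 lc_a_rc_4_2 lc_a_rc_0_1 lc_a_rc_3_2 lc_a_rc_5_2 lc_a_rc_22_0 lc_a_rc_4_2 lc_a_rc_0_1 lc_a_rc_21_0 lc_a_rc_2_2 lc_a_rc_4_2 lc_a_rc_0_1 lc_a_rc_3_2 lc_a_rc_21_0 lc_a_rc_2_2 lc_a_rc_21_0 lc_a_rc_2_2 lc_a_rc_0_1 lc_a_rc_21_0 lc_a_rc_0_1 lc_a_rc_5_2 lc_a_rc_0_1 lc_a_rc_2_2 lc_a_rc_3_2 lc_a_rc_4_2 lc_a_rc_3_0 lc_a_rc_21_0 lc_a_rc_4_2 lc_a_rc_3_0 lc_a_rc_3_0 lc_a_rc_21_0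 lc_a_rc_4_2 lc_a_rc_22_0 lc_a_rc_4_2 lc_a_rc_4_2 lc_a_rc_2_2 lc_a_rc_3_2 lc_a_rc_4_2 lc_a_rc_0_1 lc_a_rc_3_2 lc_a_rc_5_2 lc_a_rc_2_2 lc_a_rc_2_2 lc_a_rc_1_4 lc_a_rc_3_2 lc_a_rc_4_2 lc_a_rc_5_0 lc_a_Cert_tree lc_a_rc_5_2 lc_a_rc_2_2 lc_a_rc_3_2 lc_a_rc_2_2 lc_a_rc_4_2 lc_a_rc_2_2) (@D3.rec (fun _ => (Cert rels S Gen.a)) lc_a_rc_1_0 lc_a_Cert_tree lc_a_rc_3_2 lc_a_rc_2_2 lc_a_rc_3_2 lc_a_rc_4_2 lc_a_rc_5_2 lc_a_rc_2_0 lc_a_rc_4_0 lc_a_rc_5_2 lc_a_rc_3_2 lc_a_rc_2_2 lc_a_rc_4_2 lc_a_rc_4_2 lc_a_rc_3_2 lc_a_rc_21_0 lc_a_rc_2_2 lc_a_rc_1_0 lc_a_rc_3_0 lc_a_rc_21_0 lc_a_rc_5_0 lc_a_rc_2_0 lc_a_rc_4_2 lc_a_rc_3_2 lc_a_rc_4_0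 lc_a_rc_3_0 lc_a_rc_4_2 lc_a_rc_5_2 lc_a_rc_1_4 lc_a_rc_3_0 lc_a_rc_0_1 lc_a_rc_3_0 lc_a_rc_4_2 lc_a_rc_2_2 lc_a_Cert_tree lc_a_rc_0_1 lc_a_rc_1_4 lc_a_rc_4_2 lc_a_rc_4_2 lc_a_rc_5_0 lc_a_rc_5_2 lc_a_rc_4_2 lc_a_rc_2_2 lc_a_rc_3_0 lc_a_Cert_tree lc_a_rc_3_2 lc_a_rc_4_2 lc_a_rc_4_2 lc_a_rc_1_2 lc_a_rc_5_2 lc_a_Cert_tree lc_a_rc_0_1 lc_a_rc_5_2 lc_a_rc_4_2 lc_a_rc_2_0 lc_a_rc_4_0 lc_a_rc_0_1 lc_a_rc_4_0 lc_a_rc_1_4 lc_a_rc_4_0 lc_a_rc_3_0 lc_a_rc_5_2) (@D3.rec (fun _ => (Cert rels S Gen.a)) lc_a_rc_4_2 lc_a_rc_2_2 lc_a_rc_3_2 lc_a_rc_2_2 lc_a_rc_3_0 lc_a_rc_3_2 lc_a_rc_3_2 lc_a_rc_0_1 lc_a_rc_2_2 lc_a_rc_3_0 lc_a_rc_21_0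 lc_a_rc_4_2 lc_a_rc_5_0 lc_a_rc_3_2 lc_a_Cert_tree lc_a_rc_1_4 lc_a_rc_4_0 lc_a_rc_2_2 lc_a_rc_4_2 lc_a_rc_22_0 lc_a_rc_0_1 lc_a_rc_5_2 lc_a_rc_3_2 lc_a_rc_4_2 lc_a_rc_5_0 lc_a_rc_4_0 lc_a_rc_3_2 lc_a_rc_5_2 lc_a_rc_3_2 lc_a_rc_4_2 lc_a_rc_2_0 lc_a_rc_3_2 lc_a_rc_4_2 lc_a_rc_21_0 lc_a_rc_1_0 lc_a_rc_0_1 lc_a_rc_4_2 lc_a_rc_5_0 lc_a_rc_2_2 lc_a_rc_3_2 lc_a_rc_5_2 lc_a_rc_4_2 lc_a_rc_3_2 lc_a_rc_0_1 lc_a_rc_2_2 lc_a_rc_5_0 lc_a_rc_1_4 lc_a_rc_21_0 lc_a_rc_4_2 lc_a_rc_4_0 lc_a_rc_4_2 lc_a_rc_2_0 lc_a_rc_2_0 lc_a_rc_0_1 lc_a_rc_3_2 lc_a_rc_3_2 lc_a_rc_4_0 lc_a_rc_1_0 lc_a_rc_3_2 lc_a_rc_5_2 lc_a_rc_2_2 lc_a_rc_5_2) (@D3.rec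 (fun _ => (Cert rels S Gen.a)) lc_a_rc_4_2 lc_a_rc_5_0 lc_a_rc_1_4 lc_a_rc_3_2 lc_a_rc_4_2 lc_a_rc_2_2 lc_a_rc_0_1 lc_a_rc_5_0 lc_a_rc_3_2 lc_a_rc_2_0 lc_a_rc_4_2 lc_a_rc_3_2 lc_a_rc_2_0 lc_a_Cert_tree lc_a_rc_21_0 lc_a_rc_0_1 lc_a_rc_3_2 lc_a_rc_3_2 lc_a_rc_4_2 lc_a_rc_3_2 lc_a_rc_3_0 lc_a_rc_4_2 lc_a_rc_2_0 lc_a_rc_4_0 lc_a_rc_3_2 lc_a_rc_5_2 lc_a_rc_4_2 lc_a_rc_5_0 lc_a_rc_2_2 lc_a_rc_3_2 lc_a_rc_3_2 lc_a_rc_3_2 lc_a_rc_2_2 lc_a_rc_5_2 lc_a_rc_5_2 lc_a_rc_2_2 lc_a_rc_4_2 lc_a_rc_3_2 lc_a_rc_3_2 lc_a_rc_21_0 lc_a_rc_3_2 lc_a_rc_0_1 lc_a_Cert_tree lc_a_rc_3_2 lc_a_rc_2_2 lc_a_rc_2_2 lc_a_rc_2_2 lc_a_rc_4_2 lc_a_rc_2_2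 lc_a_rc_1_4 lc_a_rc_4_2 lc_a_rc_3_2 lc_a_rc_3_2 lc_a_rc_2_2 lc_a_rc_1_0 lc_a_rc_0_1 lc_a_rc_4_2 lc_a_rc_2_2 lc_a_rc_2_2 lc_a_rc_2_2 lc_a_rc_2_2 lc_a_rc_1_4) (@D3.rec (fun _ => (Cert rels S Gen.a)) lc_a_rc_3_2 lc_a_rc_4_2 lc_a_rc_0_1 lc_a_rc_5_0 lc_a_rc_5_2 lc_a_rc_0_1 lc_a_rc_4_2 lc_a_rc_22_0 lc_a_rc_4_2 lc_a_rc_3_0 lc_a_rc_4_2 lc_a_rc_4_2 lc_a_rc_4_0 lc_a_rc_3_2 lc_a_rc_21_0 lc_a_rc_0_1 lc_a_rc_5_2 lc_a_rc_4_2 lc_a_rc_3_2 lc_a_rc_3_2 lc_a_rc_5_2 lc_a_rc_3_2 lc_a_rc_4_2 lc_a_rc_0_1 lc_a_rc_4_2 lc_a_rc_2_2 lc_a_rc_1_4 lc_a_rc_21_0 lc_a_rc_3_2 lc_a_rc_5_0 lc_a_rc_0_1 lc_a_rc_21_0 lc_a_rc_0_1 lc_a_rc_5_2 lc_a_rc_21_0 lc_a_rc_21_0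 lc_a_rc_0_1 lc_a_rc_3_2 lc_a_rc_3_2 lc_a_rc_5_2 lc_a_rc_0_1 lc_a_rc_2_2 lc_a_rc_4_2 lc_a_rc_1_4 lc_a_rc_2_2 lc_a_rc_4_0 lc_a_rc_2_2 lc_a_rc_21_0 lc_a_rc_0_1 lc_a_rc_4_2 lc_a_rc_4_0 lc_a_rc_5_0 lc_a_rc_3_2 lc_a_rc_21_0 lc_a_rc_2_2 lc_a_rc_2_2 lc_a_rc_3_2 lc_a_rc_5_2 lc_a_Cert_tree lc_a_rc_3_2 lc_a_rc_2_2 lc_a_rc_3_2) (@D3.rec (fun _ => (Cert rels S Gen.a)) lc_a_rc_0_1 lc_a_rc_5_0 lc_a_rc_2_2 lc_a_rc_2_2 lc_a_rc_4_2 lc_a_Cert_tree lc_a_rc_4_2 lc_a_rc_2_2 lc_a_rc_4_2 lc_a_rc_21_0 lc_a_rc_0_1 lc_a_rc_2_2 lc_a_rc_0_1 lc_a_rc_0_1 lc_a_rc_3_2 lc_a_rc_2_2 lc_a_rc_4_2 lc_a_rc_2_2 lc_a_rc_3_2 lc_a_rc_21_0 lc_a_rc_2_2 lc_a_rc_5_2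 lc_a_rc_1_2 lc_a_rc_2_2 lc_a_rc_3_2 lc_a_rc_4_2 lc_a_rc_5_2 lc_a_rc_0_1 lc_a_rc_5_2 lc_a_rc_2_2 lc_a_rc_2_2 lc_a_rc_21_0 lc_a_rc_4_2 lc_a_rc_0_1 lc_a_rc_2_2 lc_a_rc_3_0 lc_a_rc_21_0 lc_a_rc_3_2 lc_a_rc_5_2 lc_a_rc_4_2 lc_a_rc_3_2 lc_a_rc_5_2 lc_a_rc_2_0 lc_a_rc_2_2 lc_a_rc_4_2 lc_a_rc_4_0 lc_a_rc_2_0 lc_a_rc_1_2 lc_a_rc_4_2 lc_a_rc_3_0 lc_a_rc_21_0 lc_a_rc_4_2 lc_a_rc_4_2 lc_a_rc_5_2 lc_a_rc_5_2 lc_a_rc_4_2 lc_a_rc_21_0 lc_a_rc_0_1 lc_a_rc_3_2 lc_a_rc_4_2 lc_a_rc_5_0 lc_a_rc_2_2) (@D3.rec (fun _ => (Cert rels S Gen.a)) lc_a_rc_3_2 lc_a_rc_5_2 lc_a_rc_0_1 lc_a_rc_3_0 lc_a_rc_2_2 lc_a_rc_5_2 lc_a_rc_21_0 lc_a_rc_2_2 lc_a_rc_1_4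 lc_a_rc_3_2 lc_a_rc_4_0 lc_a_rc_5_2 lc_a_rc_1_4 lc_a_rc_5_0 lc_a_rc_4_2 lc_a_rc_3_2 lc_a_rc_0_1 lc_a_rc_5_0 lc_a_rc_3_2 lc_a_rc_2_2 lc_a_rc_5_2 lc_a_rc_4_2 lc_a_rc_5_0 lc_a_rc_4_2 lc_a_rc_2_2 lc_a_rc_3_2 lc_a_rc_4_2 lc_a_rc_2_2 lc_a_rc_3_2 lc_a_rc_2_2 lc_a_rc_2_2 lc_a_rc_21_0 lc_a_rc_21_0 lc_a_rc_2_2 lc_a_rc_21_0 lc_a_rc_21_0 lc_a_rc_2_2 lc_a_rc_5_0 lc_a_rc_2_2 lc_a_rc_22_0 lc_a_rc_5_2 lc_a_rc_4_2 lc_a_rc_21_0 lc_a_rc_4_2 lc_a_rc_21_0 lc_a_rc_5_2 lc_a_rc_5_0 lc_a_rc_4_2 lc_a_Cert_tree lc_a_rc_5_0 lc_a_rc_2_2 lc_a_Cert_tree lc_a_rc_3_2 lc_a_rc_2_0 lc_a_rc_2_0 lc_a_rc_0_1 lc_a_Cert_tree lc_a_rc_3_2 lc_a_rc_3_2 lc_a_rc_3_2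 lc_a_rc_4_2 lc_a_rc_2_2) (@D3.rec (fun _ => (Cert rels S Gen.a)) lc_a_rc_4_2 lc_a_rc_21_0 lc_a_rc_3_2 lc_a_rc_0_1 lc_a_rc_21_0 lc_a_rc_2_2 lc_a_rc_4_2 lc_a_rc_21_0 lc_a_rc_2_2 lc_a_rc_4_2 lc_a_rc_21_0 lc_a_rc_3_2 lc_a_rc_2_2 lc_a_rc_4_2 lc_a_rc_2_2 lc_a_rc_4_2 lc_a_rc_2_2 lc_a_rc_21_0 lc_a_rc_21_0 lc_a_rc_2_2 lc_a_rc_22_0 lc_a_rc_2_2 lc_a_rc_0_1 lc_a_rc_1_0 lc_a_rc_5_2 lc_a_rc_2_2 lc_a_rc_5_0 lc_a_rc_3_2 lc_a_rc_2_2 lc_a_rc_5_2 lc_a_rc_2_2 lc_a_rc_0_1 lc_a_rc_1_2 lc_a_rc_3_2 lc_a_rc_5_2 lc_a_rc_4_2 lc_a_rc_4_2 lc_a_rc_5_2 lc_a_rc_1_2 lc_a_rc_4_2 lc_a_rc_3_2 lc_a_rc_4_2 lc_a_rc_4_2 lc_a_rc_4_2 lc_a_rc_0_1 lc_a_rc_2_0 lc_a_rc_21_0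 lc_a_rc_2_2 lc_a_rc_3_0 lc_a_rc_4_2 lc_a_rc_21_0 lc_a_rc_3_2 lc_a_rc_21_0 lc_a_rc_3_2 lc_a_rc_0_1 lc_a_rc_0_1 lc_a_rc_5_2 lc_a_rc_3_2 lc_a_rc_5_2 lc_a_rc_2_0 lc_a_rc_0_1 lc_a_rc_4_2)
def ce_a_17 : D2 → D3 → (Cert rels S Gen.a) := @D2.rec (fun _ => D3 → (Cert rels S Gen.a)) (@D3.rec (fun _ => (Cert rels S Gen.a)) lc_a_rc_2_2 lc_a_rc_22_0 lc_a_rc_4_2 lc_a_rc_0_1 lc_a_rc_21_0 lc_a_rc_0_1 lc_a_rc_3_2 lc_a_rc_3_2 lc_a_rc_3_2 lc_a_rc_4_2 lc_a_rc_0_1 lc_a_rc_2_2 lc_a_rc_1_4 lc_a_rc_1_2 lc_a_rc_0_1 lc_a_rc_2_2 lc_a_rc_1_2 lc_a_rc_21_0 lc_a_rc_4_2 lc_a_rc_4_2 lc_a_rc_0_1 lc_a_rc_5_2 lc_a_rc_21_0 lc_a_rc_21_0 lc_a_rc_3_2 lc_a_rc_21_0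 lc_a_rc_0_1 lc_a_rc_3_2 lc_a_rc_5_2 lc_a_rc_3_2 lc_a_rc_2_2 lc_a_rc_0_1 lc_a_rc_5_0 lc_a_rc_4_2 lc_a_rc_4_0 lc_a_rc_3_2 lc_a_rc_5_0 lc_a_rc_4_2 lc_a_rc_1_2 lc_a_rc_4_2 lc_a_rc_3_2 lc_a_rc_5_2 lc_a_rc_21_0 lc_a_rc_2_2 lc_a_rc_5_2 lc_a_rc_4_2 lc_a_rc_3_2 lc_a_rc_2_2 lc_a_rc_3_2 lc_a_rc_2_2 lc_a_rc_5_2 lc_a_rc_0_1 lc_a_rc_1_4 lc_a_rc_22_0 lc_a_rc_5_2 lc_a_rc_4_2 lc_a_rc_4_2 lc_a_rc_4_2 lc_a_rc_1_2 lc_a_rc_3_2 lc_a_rc_5_2 lc_a_rc_3_2) (@D3.rec (fun _ => (Cert rels S Gen.a)) lc_a_rc_2_2 lc_a_rc_4_2 lc_a_rc_5_0 lc_a_rc_0_1 lc_a_rc_3_2 lc_a_rc_2_0 lc_a_rc_3_2 lc_a_rc_3_0 lc_a_rc_21_0 lc_a_rc_5_2 lc_a_rc_2_2 lc_a_rc_2_2 lc_a_rc_4_2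 lc_a_rc_21_0 lc_a_rc_2_2 lc_a_rc_1_2 lc_a_rc_2_2 lc_a_rc_5_0 lc_a_rc_2_0 lc_a_rc_5_0 lc_a_rc_22_0 lc_a_rc_22_0 lc_a_rc_4_2 lc_a_rc_2_2 lc_a_rc_4_2 lc_a_rc_3_2 lc_a_rc_1_4 lc_a_rc_5_0 lc_a_rc_3_2 lc_a_rc_3_0 lc_a_rc_2_2 lc_a_rc_0_1 lc_a_rc_21_0 lc_a_rc_5_0 lc_a_rc_21_0 lc_a_rc_0_1 lc_a_rc_0_1 lc_a_rc_5_2 lc_a_rc_3_2 lc_a_rc_21_0 lc_a_rc_2_2 lc_a_rc_1_0 lc_a_rc_2_2 lc_a_rc_4_2 lc_a_Cert_tree lc_a_rc_21_0 lc_a_rc_2_2 lc_a_rc_4_2 lc_a_rc_2_2 lc_a_rc_3_2 lc_a_rc_4_2 lc_a_rc_4_2 lc_a_rc_4_2 lc_a_rc_2_0 lc_a_rc_2_2 lc_a_rc_4_2 lc_a_rc_0_1 lc_a_rc_3_2 lc_a_Cert_tree lc_a_rc_3_2 lc_a_rc_4_2 lc_a_Cert_tree) (@D3.rec (fun _ => (Cert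 rels S Gen.a)) lc_a_rc_3_2 lc_a_rc_3_0 lc_a_rc_3_0 lc_a_rc_22_0 lc_a_rc_4_2 lc_a_rc_22_0 lc_a_rc_4_2 lc_a_rc_3_2 lc_a_rc_3_2 lc_a_rc_3_2 lc_a_rc_2_2 lc_a_rc_3_2 lc_a_rc_4_2 lc_a_Cert_tree lc_a_rc_3_2 lc_a_rc_0_1 lc_a_rc_0_1 lc_a_rc_5_0 lc_a_rc_4_0 lc_a_Cert_tree lc_a_rc_3_2 lc_a_rc_4_2 lc_a_rc_4_2 lc_a_rc_0_1 lc_a_rc_4_2 lc_a_rc_5_2 lc_a_rc_2_2 lc_a_rc_4_2 lc_a_rc_21_0 lc_a_rc_0_1 lc_a_rc_3_2 lc_a_rc_5_2 lc_a_rc_2_2 lc_a_rc_5_0 lc_a_rc_1_2 lc_a_rc_4_2 lc_a_rc_1_2 lc_a_rc_3_2 lc_a_rc_22_0 lc_a_rc_4_2 lc_a_rc_2_2 lc_a_rc_4_2 lc_a_rc_5_0 lc_a_rc_3_0 lc_a_rc_5_2 lc_a_rc_1_2 lc_a_rc_2_0 lc_a_rc_2_2 lc_a_rc_5_2 lc_a_rc_4_2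 lc_a_rc_2_2 lc_a_rc_5_2 lc_a_rc_3_2 lc_a_rc_2_2 lc_a_rc_2_2 lc_a_rc_3_0 lc_a_rc_3_0 lc_a_rc_21_0 lc_a_rc_4_2 lc_a_rc_4_0 lc_a_rc_3_2 lc_a_rc_22_0) (@D3.rec (fun _ => (Cert rels S Gen.a)) lc_a_rc_4_2 lc_a_rc_0_1 lc_a_rc_21_0 lc_a_rc_3_2 lc_a_rc_5_2 lc_a_rc_2_2 lc_a_rc_5_0 lc_a_rc_3_2 lc_a_rc_4_0 lc_a_rc_2_2 lc_a_rc_3_2 lc_a_rc_4_2 lc_a_rc_0_1 lc_a_rc_2_0 lc_a_rc_4_2 lc_a_rc_2_2 lc_a_rc_0_1 lc_a_rc_21_0 lc_a_rc_0_1 lc_a_rc_2_2 lc_a_rc_2_0 lc_a_rc_4_2 lc_a_rc_5_0 lc_a_rc_4_2 lc_a_rc_21_0 lc_a_rc_0_1 lc_a_rc_5_2 lc_a_rc_2_0 lc_a_rc_4_2 lc_a_rc_3_2 lc_a_rc_22_0 lc_a_rc_2_2 lc_a_rc_2_0 lc_a_rc_3_2 lc_a_rc_3_2 lc_a_rc_1_0 lc_a_rc_4_2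 lc_a_rc_1_4 lc_a_rc_3_2 lc_a_rc_4_2 lc_a_rc_3_0 lc_a_rc_2_0 lc_a_rc_4_2 lc_a_rc_5_2 lc_a_rc_3_0 lc_a_rc_4_2 lc_a_rc_2_2 lc_a_rc_4_2 lc_a_rc_0_1 lc_a_rc_3_0 lc_a_rc_4_2 lc_a_rc_3_2 lc_a_rc_21_0 lc_a_rc_0_1 lc_a_rc_21_0 lc_a_rc_4_2 lc_a_rc_1_2 lc_a_rc_0_1 lc_a_rc_0_1 lc_a_rc_2_2 lc_a_rc_1_2 lc_a_rc_3_2) (@D3.rec (fun _ => (Cert rels S Gen.a)) lc_a_rc_4_2 lc_a_rc_2_2 lc_a_rc_2_2 lc_a_rc_4_2 lc_a_rc_2_2 lc_a_rc_4_2 lc_a_rc_4_2 lc_a_Cert_tree lc_a_rc_3_0 lc_a_rc_2_0 lc_a_rc_3_0 lc_a_rc_3_2 lc_a_rc_4_2 lc_a_rc_0_1 lc_a_rc_2_2 lc_a_rc_2_2 lc_a_rc_3_2 lc_a_rc_5_2 lc_a_rc_2_2 lc_a_rc_3_2 lc_a_rc_5_2 lc_a_rc_1_2 lc_a_rc_5_0 lc_a_rc_4_2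 lc_a_rc_1_2 lc_a_rc_3_2 lc_a_rc_5_0 lc_a_rc_3_2 lc_a_rc_5_2 lc_a_rc_1_4 lc_a_rc_0_1 lc_a_rc_3_2 lc_a_rc_4_2 lc_a_rc_2_2 lc_a_rc_5_2 lc_a_rc_5_2 lc_a_rc_3_2 lc_a_rc_4_2 lc_a_rc_2_2 lc_a_rc_5_2 lc_a_rc_1_2 lc_a_rc_0_1 lc_a_rc_2_2 lc_a_rc_2_2 lc_a_rc_5_2 lc_a_rc_4_2 lc_a_rc_3_2 lc_a_rc_3_2 lc_a_rc_1_2 lc_a_rc_3_2 lc_a_rc_4_2 lc_a_rc_3_2 lc_a_rc_3_2 lc_a_rc_2_2 lc_a_rc_5_2 lc_a_rc_3_2 lc_a_rc_2_2 lc_a_rc_3_2 lc_a_rc_2_2 lc_a_rc_2_2 lc_a_rc_2_2 lc_a_rc_21_0) (@D3.rec (fun _ => (Cert rels S Gen.a)) lc_a_rc_22_0 lc_a_rc_5_2 lc_a_rc_0_1 lc_a_rc_3_2 lc_a_rc_5_2 lc_a_rc_21_0 lc_a_rc_4_2 lc_a_rc_5_2 lc_a_rc_21_0 lc_a_rc_2_2 lc_a_rc_2_2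 lc_a_rc_4_2 lc_a_rc_3_2 lc_a_rc_0_1 lc_a_rc_2_2 lc_a_rc_1_4 lc_a_rc_3_2 lc_a_rc_4_2 lc_a_rc_3_2 lc_a_rc_2_2 lc_a_rc_4_2 lc_a_rc_1_4 lc_a_rc_4_2 lc_a_rc_3_2 lc_a_rc_5_2 lc_a_rc_4_0 lc_a_rc_0_1 lc_a_rc_3_2 lc_a_rc_5_2 lc_a_rc_5_2 lc_a_rc_3_2 lc_a_rc_2_2 lc_a_rc_5_2 lc_a_rc_1_2 lc_a_rc_4_2 lc_a_rc_4_2 lc_a_rc_4_2 lc_a_rc_21_0 lc_a_rc_1_4 lc_a_rc_3_2 lc_a_rc_4_2 lc_a_rc_3_2 lc_a_rc_5_2 lc_a_rc_2_2 lc_a_rc_0_1 lc_a_rc_0_1 lc_a_rc_21_0 lc_a_rc_3_2 lc_a_rc_5_2 lc_a_rc_4_0 lc_a_rc_3_2 lc_a_rc_0_1 lc_a_rc_1_4 lc_a_rc_4_2 lc_a_rc_1_0 lc_a_rc_3_0 lc_a_rc_3_2 lc_a_rc_4_2 lc_a_rc_5_2 lc_a_rc_3_2 lc_a_rc_0_1 lc_a_rc_5_0) (@D3.rec (fun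 _ => (Cert rels S Gen.a)) lc_a_rc_4_2 lc_a_rc_3_2 lc_a_rc_5_0 lc_a_rc_2_2 lc_a_rc_4_2 lc_a_rc_21_0 lc_a_rc_3_2 lc_a_rc_0_1 lc_a_rc_3_2 lc_a_rc_4_2 lc_a_rc_1_4 lc_a_rc_5_0 lc_a_rc_4_2 lc_a_rc_3_2 lc_a_rc_4_2 lc_a_rc_3_2 lc_a_rc_4_2 lc_a_rc_21_0 lc_a_rc_3_0 lc_a_Cert_tree lc_a_rc_5_0 lc_a_rc_3_2 lc_a_rc_5_0 lc_a_rc_21_0 lc_a_rc_3_2 lc_a_rc_3_2 lc_a_rc_4_2 lc_a_rc_2_2 lc_a_rc_3_0 lc_a_rc_3_0 lc_a_rc_3_0 lc_a_rc_2_2 lc_a_rc_5_0 lc_a_rc_2_2 lc_a_rc_5_2 lc_a_rc_2_2 lc_a_rc_1_2 lc_a_rc_3_2 lc_a_rc_3_0 lc_a_rc_3_2 lc_a_rc_3_2 lc_a_rc_4_2 lc_a_rc_0_1 lc_a_rc_5_2 lc_a_rc_3_2 lc_a_rc_2_2 lc_a_rc_4_2 lc_a_rc_22_0 lc_a_rc_21_0 lc_a_rc_3_2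 lc_a_rc_4_2 lc_a_rc_3_0 lc_a_rc_4_2 lc_a_rc_1_4 lc_a_rc_3_2 lc_a_rc_4_2 lc_a_rc_0_1 lc_a_rc_5_2 lc_a_rc_2_2 lc_a_rc_22_0 lc_a_rc_4_2 lc_a_rc_5_0) (@D3.rec (fun _ => (Cert rels S Gen.a)) lc_a_rc_4_2 lc_a_rc_0_1 lc_a_rc_5_2 lc_a_rc_3_2 lc_a_rc_3_2 lc_a_Cert_tree lc_a_rc_3_2 lc_a_rc_2_2 lc_a_Cert_tree lc_a_rc_21_0 lc_a_rc_2_2 lc_a_rc_0_1 lc_a_rc_3_2 lc_a_rc_3_2 lc_a_rc_3_2 lc_a_rc_2_2 lc_a_rc_4_2 lc_a_rc_5_0 lc_a_rc_3_2 lc_a_rc_5_2 lc_a_rc_4_2 lc_a_rc_2_2 lc_a_rc_4_2 lc_a_rc_3_2 lc_a_rc_2_2 lc_a_rc_3_2 lc_a_rc_21_0 lc_a_rc_4_2 lc_a_rc_3_2 lc_a_rc_2_2 lc_a_rc_2_2 lc_a_rc_5_0 lc_a_rc_5_0 lc_a_rc_3_2 lc_a_rc_4_2 lc_a_rc_0_1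 lc_a_rc_5_2 lc_a_rc_0_1 lc_a_rc_21_0 lc_a_rc_3_2 lc_a_rc_5_0 lc_a_rc_2_2 lc_a_rc_3_2 lc_a_rc_3_2 lc_a_rc_1_2 lc_a_rc_21_0 lc_a_rc_0_1 lc_a_rc_3_2 lc_a_rc_5_0 lc_a_rc_3_2 lc_a_rc_4_2 lc_a_rc_2_2 lc_a_rc_2_2 lc_a_Cert_tree lc_a_rc_22_0 lc_a_rc_4_2 lc_a_rc_4_2 lc_a_rc_21_0 lc_a_rc_4_0 lc_a_rc_3_2 lc_a_rc_4_2 lc_a_rc_5_2) (@D3.rec (fun _ => (Cert rels S Gen.a)) lc_a_rc_21_0 lc_a_rc_4_2 lc_a_rc_3_2 lc_a_rc_3_2 lc_a_rc_4_2 lc_a_rc_2_2 lc_a_rc_1_4 lc_a_rc_3_2 lc_a_rc_5_0 lc_a_rc_3_2 lc_a_rc_2_2 lc_a_rc_21_0 lc_a_rc_0_1 lc_a_rc_4_2 lc_a_rc_0_1 lc_a_rc_2_2 lc_a_rc_2_2 lc_a_rc_2_2 lc_a_rc_3_2 lc_a_rc_0_1 lc_a_rc_2_2 lc_a_rc_5_2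 lc_a_rc_2_2 lc_a_rc_21_0 lc_a_rc_0_1 lc_a_rc_0_1 lc_a_rc_2_2 lc_a_rc_2_0 lc_a_rc_0_1 lc_a_rc_5_2 lc_a_rc_0_1 lc_a_rc_4_2 lc_a_rc_0_1 lc_a_rc_5_2 lc_a_rc_5_2 lc_a_rc_5_0 lc_a_rc_21_0 lc_a_rc_0_1 lc_a_rc_2_0 lc_a_rc_4_2 lc_a_rc_1_4 lc_a_rc_4_2 lc_a_rc_3_2 lc_a_rc_2_2 lc_a_rc_0_1 lc_a_rc_3_2 lc_a_rc_3_0 lc_a_rc_4_2 lc_a_Cert_tree lc_a_rc_22_0 lc_a_rc_5_0 lc_a_rc_2_2 lc_a_rc_0_1 lc_a_rc_4_2 lc_a_rc_3_2 lc_a_rc_5_2 lc_a_rc_3_0 lc_a_rc_0_1 lc_a_rc_1_2 lc_a_rc_1_4 lc_a_rc_1_4 lc_a_rc_1_0) (@D3.rec (fun _ => (Cert rels S Gen.a)) lc_a_rc_0_1 lc_a_rc_21_0 lc_a_rc_0_1 lc_a_rc_1_4 lc_a_rc_2_2 lc_a_rc_0_1 lc_a_rc_0_1 lc_a_rc_5_2 lc_a_rc_5_2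 lc_a_rc_2_2 lc_a_rc_3_2 lc_a_rc_4_2 lc_a_rc_2_2 lc_a_rc_3_2 lc_a_rc_21_0 lc_a_rc_2_2 lc_a_rc_3_2 lc_a_rc_4_2 lc_a_rc_2_2 lc_a_rc_3_2 lc_a_rc_2_2 lc_a_rc_2_2 lc_a_rc_4_2 lc_a_rc_3_2 lc_a_rc_2_2 lc_a_rc_0_1 lc_a_rc_3_2 lc_a_rc_2_2 lc_a_rc_4_2 lc_a_rc_2_2 lc_a_rc_21_0 lc_a_rc_5_2 lc_a_rc_3_2 lc_a_rc_4_2 lc_a_rc_21_0 lc_a_rc_4_0 lc_a_rc_3_0 lc_a_rc_2_2 lc_a_rc_0_1 lc_a_rc_3_2 lc_a_rc_3_2 lc_a_rc_22_0 lc_a_rc_2_2 lc_a_rc_3_2 lc_a_rc_2_2 lc_a_rc_0_1 lc_a_rc_2_2 lc_a_rc_4_2 lc_a_rc_1_0 lc_a_rc_2_2 lc_a_rc_4_2 lc_a_rc_21_0 lc_a_rc_21_0 lc_a_rc_0_1 lc_a_rc_2_0 lc_a_rc_3_2 lc_a_rc_3_2 lc_a_rc_4_2 lc_a_rc_1_2 lc_a_rc_3_2 lc_a_rc_4_2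 lc_a_rc_3_2) (@D3.rec (fun _ => (Cert rels S Gen.a)) lc_a_rc_21_0 lc_a_rc_4_0 lc_a_rc_2_2 lc_a_rc_0_1 lc_a_rc_3_2 lc_a_rc_4_2 lc_a_rc_3_0 lc_a_rc_3_2 lc_a_rc_5_2 lc_a_rc_1_2 lc_a_rc_3_2 lc_a_rc_21_0 lc_a_rc_1_4 lc_a_rc_3_2 lc_a_rc_4_2 lc_a_rc_21_0 lc_a_rc_0_1 lc_a_rc_0_1 lc_a_rc_3_2 lc_a_rc_3_2 lc_a_rc_2_2 lc_a_rc_3_2 lc_a_rc_4_2 lc_a_rc_5_2 lc_a_rc_4_0 lc_a_rc_4_0 lc_a_rc_0_1 lc_a_rc_3_2 lc_a_rc_0_1 lc_a_rc_4_2 lc_a_rc_4_2 lc_a_rc_4_2 lc_a_rc_4_2 lc_a_rc_3_2 lc_a_rc_21_0 lc_a_rc_4_2 lc_a_rc_3_2 lc_a_rc_5_2 lc_a_Cert_tree lc_a_rc_3_2 lc_a_rc_4_2 lc_a_Cert_tree lc_a_rc_3_2 lc_a_rc_5_2 lc_a_rc_3_2 lc_a_rc_4_2 lc_a_rc_3_2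 lc_a_rc_4_2 lc_a_rc_21_0 lc_a_rc_4_2 lc_a_rc_3_2 lc_a_rc_5_2 lc_a_rc_3_2 lc_a_rc_3_2 lc_a_rc_2_2 lc_a_rc_2_0 lc_a_rc_3_2 lc_a_rc_3_2 lc_a_rc_4_2 lc_a_rc_2_2 lc_a_rc_21_0 lc_a_rc_2_2) (@D3.rec (fun _ => (Cert rels S Gen.a)) lc_a_rc_3_0 lc_a_rc_3_2 lc_a_rc_5_2 lc_a_rc_4_2 lc_a_rc_4_2 lc_a_rc_21_0 lc_a_rc_2_2 lc_a_rc_4_2 lc_a_rc_5_2 lc_a_rc_3_2 lc_a_rc_2_2 lc_a_rc_1_4 lc_a_rc_3_2 lc_a_rc_4_2 lc_a_rc_3_2 lc_a_rc_5_2 lc_a_rc_3_0 lc_a_rc_4_2 lc_a_rc_1_4 lc_a_rc_3_0 lc_a_rc_3_2 lc_a_rc_5_2 lc_a_rc_22_0 lc_a_rc_2_2 lc_a_rc_3_2 lc_a_rc_21_0 lc_a_rc_3_2 lc_a_rc_21_0 lc_a_rc_2_2 lc_a_rc_4_0 lc_a_rc_4_0 lc_a_rc_5_2 lc_a_rc_3_2 lc_a_rc_21_0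 lc_a_rc_21_0 lc_a_rc_4_0 lc_a_rc_0_1 lc_a_rc_3_0 lc_a_rc_5_2 lc_a_rc_0_1 lc_a_rc_21_0 lc_a_rc_2_2 lc_a_rc_0_1 lc_a_rc_22_0 lc_a_rc_4_2 lc_a_rc_3_2 lc_a_rc_4_2 lc_a_rc_3_2 lc_a_rc_21_0 lc_a_rc_1_0 lc_a_rc_0_1 lc_a_rc_5_2 lc_a_rc_21_0 lc_a_rc_3_2 lc_a_rc_22_0 lc_a_rc_22_0 lc_a_rc_4_2 lc_a_rc_2_2 lc_a_rc_4_2 lc_a_Cert_tree lc_a_rc_2_2 lc_a_rc_4_2) (@D3.rec (fun _ => (Cert rels S Gen.a)) lc_a_rc_2_2 lc_a_rc_4_2 lc_a_rc_21_0 lc_a_rc_1_2 lc_a_rc_3_2 lc_a_rc_2_2 lc_a_rc_2_2 lc_a_rc_3_2 lc_a_rc_2_2 lc_a_rc_4_2 lc_a_rc_4_2 lc_a_rc_0_1 lc_a_rc_2_2 lc_a_rc_5_2 lc_a_rc_4_2 lc_a_rc_3_2 lc_a_rc_2_0 lc_a_rc_21_0 lc_a_rc_2_2 lc_a_rc_21_0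 lc_a_rc_1_2 lc_a_rc_2_2 lc_a_rc_4_2 lc_a_rc_2_2 lc_a_rc_3_2 lc_a_rc_21_0 lc_a_rc_3_2 lc_a_rc_0_1 lc_a_rc_21_0 lc_a_Cert_tree lc_a_rc_3_2 lc_a_rc_2_2 lc_a_rc_2_0 lc_a_rc_4_0 lc_a_rc_4_2 lc_a_rc_2_2 lc_a_rc_0_1 lc_a_rc_0_1 lc_a_rc_4_2 lc_a_rc_2_2 lc_a_rc_0_1 lc_a_rc_4_2 lc_a_rc_4_2 lc_a_rc_1_4 lc_a_rc_1_4 lc_a_rc_3_0 lc_a_rc_2_2 lc_a_rc_5_2 lc_a_rc_0_1 lc_a_rc_4_2 lc_a_rc_3_2 lc_a_rc_2_2 lc_a_rc_3_2 lc_a_rc_2_0 lc_a_rc_0_1 lc_a_rc_3_0 lc_a_rc_3_0 lc_a_rc_2_2 lc_a_rc_4_2 lc_a_rc_21_0 lc_a_rc_5_2 lc_a_rc_4_2) (@D3.rec (fun _ => (Cert rels S Gen.a)) lc_a_rc_2_0 lc_a_rc_4_2 lc_a_rc_0_1 lc_a_rc_3_0 lc_a_rc_0_1 lc_a_rc_2_2 lc_a_rc_2_2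 lc_a_rc_5_2 lc_a_rc_22_0 lc_a_rc_4_2 lc_a_rc_21_0 lc_a_rc_3_2 lc_a_rc_2_0 lc_a_rc_0_1 lc_a_rc_1_4 lc_a_rc_2_2 lc_a_rc_4_2 lc_a_rc_3_2 lc_a_rc_2_2 lc_a_rc_0_1 lc_a_rc_0_1 lc_a_rc_3_0 lc_a_rc_0_1 lc_a_rc_0_1 lc_a_rc_21_0 lc_a_rc_0_1 lc_a_rc_3_0 lc_a_rc_21_0 lc_a_rc_3_0 lc_a_rc_22_0 lc_a_rc_3_0 lc_a_rc_3_0 lc_a_rc_0_1 lc_a_Cert_tree lc_a_rc_21_0 lc_a_rc_2_2 lc_a_Cert_tree lc_a_rc_2_2 lc_a_rc_2_0 lc_a_rc_2_2 lc_a_rc_5_2 lc_a_Cert_tree lc_a_rc_0_1 lc_a_rc_1_4 lc_a_rc_3_2 lc_a_rc_21_0 lc_a_rc_0_1 lc_a_rc_21_0 lc_a_rc_4_2 lc_a_rc_5_2 lc_a_rc_2_2 lc_a_Cert_tree lc_a_rc_5_2 lc_a_rc_4_2 lc_a_rc_4_2 lc_a_rc_0_1 lc_a_rc_3_2 lc_a_rc_1_2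 lc_a_rc_5_0 lc_a_rc_0_1 lc_a_rc_4_0 lc_a_rc_0_1) (@D3.rec (fun _ => (Cert rels S Gen.a)) lc_a_rc_0_1 lc_a_Cert_tree lc_a_rc_1_4 lc_a_rc_4_0 lc_a_rc_2_0 lc_a_rc_3_0 lc_a_rc_3_0 lc_a_rc_2_2 lc_a_rc_21_0 lc_a_rc_4_2 lc_a_rc_1_4 lc_a_rc_1_0 lc_a_rc_2_2 lc_a_Cert_tree lc_a_rc_4_2 lc_a_rc_2_0 lc_a_rc_0_1 lc_a_rc_3_2 lc_a_rc_4_2 lc_a_rc_4_2 lc_a_rc_3_2 lc_a_rc_0_1 lc_a_rc_21_0 lc_a_rc_4_2 lc_a_rc_3_2 lc_a_rc_2_2 lc_a_rc_21_0 lc_a_rc_4_2 lc_a_rc_3_0 lc_a_rc_4_0 lc_a_rc_3_0 lc_a_rc_2_2 lc_a_rc_2_2 lc_a_rc_21_0 lc_a_rc_2_2 lc_a_rc_4_2 lc_a_rc_2_2 lc_a_rc_3_0 lc_a_rc_4_0 lc_a_rc_3_2 lc_a_rc_4_2 lc_a_Cert_tree lc_a_rc_4_2 lc_a_Cert_tree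 lc_a_rc_0_1 lc_a_rc_0_1 lc_a_rc_21_0 lc_a_rc_4_2 lc_a_rc_4_2 lc_a_rc_5_0 lc_a_rc_4_2 lc_a_rc_3_2 lc_a_rc_2_2 lc_a_rc_4_0 lc_a_rc_2_2 lc_a_rc_4_2 lc_a_rc_4_2 lc_a_rc_3_0 lc_a_rc_3_0 lc_a_rc_2_2 lc_a_rc_2_0 lc_a_rc_4_2) (@D3.rec (fun _ => (Cert rels S Gen.a)) lc_a_rc_21_0 lc_a_rc_0_1 lc_a_rc_5_2 lc_a_rc_1_4 lc_a_rc_2_2 lc_a_rc_3_2 lc_a_rc_5_2 lc_a_rc_3_2 lc_a_rc_2_2 lc_a_rc_3_2 lc_a_rc_4_2 lc_a_rc_2_2 lc_a_rc_3_2 lc_a_rc_21_0 lc_a_rc_2_2 lc_a_rc_3_2 lc_a_rc_5_0 lc_a_rc_4_2 lc_a_rc_3_2 lc_a_rc_2_2 lc_a_rc_3_2 lc_a_rc_3_2 lc_a_rc_4_2 lc_a_rc_3_2 lc_a_rc_4_2 lc_a_rc_5_2 lc_a_rc_4_2 lc_a_rc_5_0 lc_a_rc_3_2 lc_a_rc_3_2 lc_a_rc_1_2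 lc_a_rc_5_0 lc_a_rc_3_2 lc_a_rc_5_0 lc_a_rc_3_2 lc_a_rc_3_2 lc_a_rc_5_2 lc_a_rc_2_2 lc_a_rc_2_2 lc_a_rc_3_2 lc_a_rc_3_2 lc_a_rc_5_2 lc_a_rc_2_2 lc_a_rc_5_2 lc_a_rc_1_4 lc_a_rc_3_2 lc_a_rc_4_2 lc_a_rc_4_2 lc_a_rc_3_2 lc_a_rc_3_2 lc_a_rc_2_2 lc_a_rc_3_2 lc_a_rc_21_0 lc_a_rc_0_1 lc_a_rc_3_0 lc_a_rc_3_2 lc_a_rc_2_2 lc_a_rc_0_1 lc_a_rc_22_0 lc_a_Cert_tree lc_a_rc_22_0 lc_a_rc_2_0) (@D3.rec (fun _ => (Cert rels S Gen.a)) lc_a_rc_4_2 lc_a_rc_2_2 lc_a_rc_22_0 lc_a_rc_21_0 lc_a_rc_2_2 lc_a_Cert_tree lc_a_rc_5_2 lc_a_rc_1_2 lc_a_rc_3_2 lc_a_rc_0_1 lc_a_rc_3_2 lc_a_rc_3_2 lc_a_rc_0_1 lc_a_rc_3_2 lc_a_rc_0_1 lc_a_rc_2_2 lc_a_rc_2_2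 lc_a_rc_4_2 lc_a_rc_3_0 lc_a_rc_3_2 lc_a_rc_3_2 lc_a_rc_1_0 lc_a_rc_21_0 lc_a_rc_2_2 lc_a_rc_4_2 lc_a_rc_1_2 lc_a_rc_0_1 lc_a_rc_21_0 lc_a_rc_5_0 lc_a_rc_0_1 lc_a_rc_4_2 lc_a_rc_3_2 lc_a_rc_21_0 lc_a_rc_0_1 lc_a_rc_0_1 lc_a_rc_5_0 lc_a_rc_2_2 lc_a_rc_5_0 lc_a_rc_0_1 lc_a_rc_3_0 lc_a_rc_2_2 lc_a_rc_0_1 lc_a_rc_5_2 lc_a_rc_1_2 lc_a_rc_3_2 lc_a_rc_22_0 lc_a_rc_3_0 lc_a_rc_2_2 lc_a_rc_3_2 lc_a_rc_2_2 lc_a_rc_21_0 lc_a_rc_2_0 lc_a_rc_4_2 lc_a_Cert_tree lc_a_rc_3_2 lc_a_rc_2_0 lc_a_rc_0_1 lc_a_rc_3_2 lc_a_rc_4_2 lc_a_rc_1_2 lc_a_rc_4_0 lc_a_rc_2_2) (@D3.rec (fun _ => (Cert rels S Gen.a)) lc_a_rc_4_2 lc_a_rc_4_2 lc_a_rc_2_2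 lc_a_rc_21_0 lc_a_rc_3_2 lc_a_rc_2_2 lc_a_rc_5_0 lc_a_rc_1_4 lc_a_rc_2_2 lc_a_rc_4_2 lc_a_rc_0_1 lc_a_rc_21_0 lc_a_rc_4_0 lc_a_rc_5_2 lc_a_rc_1_2 lc_a_rc_3_2 lc_a_rc_2_2 lc_a_Cert_tree lc_a_rc_2_2 lc_a_rc_2_2 lc_a_rc_3_2 lc_a_rc_4_2 lc_a_rc_3_2 lc_a_rc_5_2 lc_a_rc_2_2 lc_a_rc_5_2 lc_a_rc_1_4 lc_a_rc_4_2 lc_a_rc_2_2 lc_a_rc_4_2 lc_a_rc_2_2 lc_a_rc_4_2 lc_a_rc_21_0 lc_a_rc_21_0 lc_a_rc_5_0 lc_a_rc_3_2 lc_a_rc_4_2 lc_a_rc_2_0 lc_a_rc_2_2 lc_a_Cert_tree lc_a_rc_0_1 lc_a_rc_2_2 lc_a_rc_4_2 lc_a_rc_0_1 lc_a_rc_3_2 lc_a_rc_4_2 lc_a_rc_3_2 lc_a_rc_4_2 lc_a_rc_22_0 lc_a_rc_4_2 lc_a_rc_4_2 lc_a_rc_3_0 lc_a_rc_4_2 lc_a_rc_2_2 lc_a_rc_3_2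 lc_a_rc_3_2 lc_a_rc_0_1 lc_a_rc_2_2 lc_a_rc_2_2 lc_a_rc_0_1 lc_a_Cert_tree lc_a_Cert_tree) (@D3.rec (fun _ => (Cert rels S Gen.a)) lc_a_rc_3_2 lc_a_rc_21_0 lc_a_rc_0_1 lc_a_rc_0_1 lc_a_rc_3_2 lc_a_rc_4_2 lc_a_rc_4_2 lc_a_rc_0_1 lc_a_rc_21_0 lc_a_rc_1_4 lc_a_rc_21_0 lc_a_rc_0_1 lc_a_rc_4_2 lc_a_rc_4_2 lc_a_rc_4_2 lc_a_rc_1_2 lc_a_rc_3_2 lc_a_rc_2_2 lc_a_rc_4_2 lc_a_rc_5_0 lc_a_rc_4_0 lc_a_rc_5_2 lc_a_rc_2_2 lc_a_rc_4_0 lc_a_rc_5_2 lc_a_rc_5_2 lc_a_rc_4_2 lc_a_rc_3_2 lc_a_rc_2_2 lc_a_rc_21_0 lc_a_rc_4_2 lc_a_rc_4_0 lc_a_rc_3_2 lc_a_rc_0_1 lc_a_rc_4_2 lc_a_rc_5_2 lc_a_rc_0_1 lc_a_rc_3_2 lc_a_rc_3_2 lc_a_rc_4_2 lc_a_rc_3_2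 lc_a_rc_0_1 lc_a_rc_0_1 lc_a_rc_3_2 lc_a_rc_2_2 lc_a_rc_4_2 lc_a_rc_3_2 lc_a_rc_5_2 lc_a_rc_4_2 lc_a_rc_21_0 lc_a_rc_3_2 lc_a_rc_5_2 lc_a_rc_0_1 lc_a_rc_0_1 lc_a_rc_0_1 lc_a_rc_3_2 lc_a_rc_0_1 lc_a_rc_2_2 lc_a_rc_3_2 lc_a_rc_2_2 lc_a_rc_5_2 lc_a_Cert_tree) (@D3.rec (fun _ => (Cert rels S Gen.a)) lc_a_rc_4_2 lc_a_rc_4_2 lc_a_rc_3_2 lc_a_rc_4_2 lc_a_rc_4_0 lc_a_rc_5_0 lc_a_rc_1_4 lc_a_rc_2_2 lc_a_rc_0_1 lc_a_rc_1_2 lc_a_rc_21_0 lc_a_rc_4_2 lc_a_rc_21_0 lc_a_rc_0_1 lc_a_Cert_tree lc_a_rc_2_0 lc_a_rc_3_2 lc_a_rc_0_1 lc_a_rc_22_0 lc_a_rc_4_2 lc_a_rc_4_0 lc_a_rc_2_2 lc_a_rc_3_2 lc_a_rc_1_4 lc_a_rc_3_2 lc_a_rc_3_2 lc_a_rc_2_2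 lc_a_Cert_tree lc_a_Cert_tree lc_a_rc_2_2 lc_a_rc_4_2 lc_a_rc_4_2 lc_a_rc_0_1 lc_a_rc_21_0 lc_a_rc_4_2 lc_a_rc_1_0 lc_a_rc_4_2 lc_a_rc_1_4 lc_a_rc_3_2 lc_a_rc_0_1 lc_a_rc_4_2 lc_a_rc_0_1 lc_a_rc_0_1 lc_a_rc_4_0 lc_a_rc_2_2 lc_a_rc_2_0 lc_a_rc_4_2 lc_a_rc_3_2 lc_a_rc_4_2 lc_a_rc_3_2 lc_a_rc_4_2 lc_a_rc_21_0 lc_a_rc_0_1 lc_a_rc_3_2 lc_a_rc_5_2 lc_a_rc_4_2 lc_a_rc_21_0 lc_a_rc_4_2 lc_a_rc_1_2 lc_a_rc_4_2 lc_a_rc_3_2 lc_a_rc_5_2) (@D3.rec (fun _ => (Cert rels S Gen.a)) lc_a_rc_2_2 lc_a_rc_3_2 lc_a_rc_2_2 lc_a_rc_1_2 lc_a_rc_21_0 lc_a_rc_0_1 lc_a_rc_3_0 lc_a_rc_0_1 lc_a_rc_2_2 lc_a_rc_5_2 lc_a_rc_5_0 lc_a_rc_5_0 lc_a_rc_4_2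 lc_a_rc_4_2 lc_a_rc_5_0 lc_a_rc_2_2 lc_a_rc_5_2 lc_a_rc_5_2 lc_a_rc_3_2 lc_a_rc_2_2 lc_a_rc_4_2 lc_a_rc_5_0 lc_a_rc_4_2 lc_a_rc_3_2 lc_a_rc_5_2 lc_a_rc_4_2 lc_a_rc_4_2 lc_a_rc_3_2 lc_a_rc_2_0 lc_a_Cert_tree lc_a_rc_4_2 lc_a_rc_2_2 lc_a_rc_0_1 lc_a_rc_3_2 lc_a_rc_0_1 lc_a_rc_4_2 lc_a_rc_3_2 lc_a_rc_4_2 lc_a_rc_4_2 lc_a_rc_2_2 lc_a_rc_2_2 lc_a_Cert_tree lc_a_rc_3_2 lc_a_rc_0_1 lc_a_rc_0_1 lc_a_rc_3_2 lc_a_rc_3_0 lc_a_rc_2_2 lc_a_rc_4_2 lc_a_rc_21_0 lc_a_rc_0_1 lc_a_rc_3_2 lc_a_rc_2_2 lc_a_rc_4_2 lc_a_rc_0_1 lc_a_rc_4_2 lc_a_rc_5_2 lc_a_rc_4_2 lc_a_rc_2_2 lc_a_rc_4_2 lc_a_rc_21_0 lc_a_rc_3_2) (@D3.rec (fun _ => (Cert rels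 S Gen.a)) lc_a_rc_5_2 lc_a_rc_4_2 lc_a_rc_0_1 lc_a_rc_5_2 lc_a_Cert_tree lc_a_rc_1_0 lc_a_rc_3_2 lc_a_rc_2_0 lc_a_rc_2_2 lc_a_rc_3_2 lc_a_rc_2_2 lc_a_rc_0_1 lc_a_rc_3_0 lc_a_rc_5_2 lc_a_rc_1_4 lc_a_rc_3_2 lc_a_rc_5_2 lc_a_rc_5_0 lc_a_rc_0_1 lc_a_rc_0_1 lc_a_rc_5_2 lc_a_rc_0_1 lc_a_rc_21_0 lc_a_rc_2_0 lc_a_rc_0_1 lc_a_rc_0_1 lc_a_rc_21_0 lc_a_rc_1_2 lc_a_rc_0_1 lc_a_rc_3_2 lc_a_rc_1_2 lc_a_rc_2_2 lc_a_rc_4_2 lc_a_rc_21_0 lc_a_rc_0_1 lc_a_Cert_tree lc_a_rc_2_2 lc_a_rc_2_2 lc_a_rc_22_0 lc_a_rc_4_2 lc_a_rc_2_2 lc_a_rc_22_0 lc_a_rc_0_1 lc_a_rc_3_2 lc_a_rc_21_0 lc_a_rc_5_2 lc_a_rc_4_2 lc_a_rc_3_2 lc_a_rc_3_2 lc_a_rc_4_2 lc_a_rc_3_2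 lc_a_rc_2_2 lc_a_rc_4_2 lc_a_rc_3_0 lc_a_rc_3_2 lc_a_rc_21_0 lc_a_rc_3_2 lc_a_rc_0_1 lc_a_rc_2_0 lc_a_rc_21_0 lc_a_rc_4_0 lc_a_rc_4_2) (@D3.rec (fun _ => (Cert rels S Gen.a)) lc_a_rc_3_0 lc_a_rc_2_2 lc_a_rc_5_0 lc_a_rc_3_2 lc_a_Cert_tree lc_a_rc_22_0 lc_a_rc_2_2 lc_a_rc_1_2 lc_a_rc_3_2 lc_a_rc_2_2 lc_a_rc_3_2 lc_a_rc_21_0 lc_a_rc_2_2 lc_a_rc_3_0 lc_a_rc_0_1 lc_a_rc_0_1 lc_a_rc_3_2 lc_a_rc_21_0 lc_a_rc_0_1 lc_a_rc_1_2 lc_a_rc_3_2 lc_a_rc_4_2 lc_a_rc_4_2 lc_a_rc_0_1 lc_a_rc_3_2 lc_a_rc_5_2 lc_a_rc_4_2 lc_a_rc_3_2 lc_a_rc_4_2 lc_a_rc_4_2 lc_a_rc_2_2 lc_a_rc_3_2 lc_a_rc_5_2 lc_a_rc_4_2 lc_a_Cert_tree lc_a_rc_3_2 lc_a_rc_4_2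 lc_a_rc_4_2 lc_a_rc_0_1 lc_a_rc_0_1 lc_a_rc_5_2 lc_a_rc_4_0 lc_a_rc_4_2 lc_a_rc_3_2 lc_a_rc_0_1 lc_a_rc_4_2 lc_a_rc_1_0 lc_a_rc_21_0 lc_a_rc_2_0 lc_a_rc_3_2 lc_a_rc_3_0 lc_a_rc_2_2 lc_a_rc_1_2 lc_a_rc_4_2 lc_a_rc_0_1 lc_a_rc_4_2 lc_a_rc_2_2 lc_a_rc_3_2 lc_a_rc_5_2 lc_a_rc_0_1 lc_a_rc_0_1 lc_a_rc_1_4) (@D3.rec (fun _ => (Cert rels S Gen.a)) lc_a_rc_2_2 lc_a_rc_2_2 lc_a_rc_2_2 lc_a_rc_2_2 lc_a_rc_3_2 lc_a_rc_5_2 lc_a_rc_1_2 lc_a_rc_4_0 lc_a_rc_1_2 lc_a_rc_3_0 lc_a_rc_0_1 lc_a_rc_0_1 lc_a_rc_2_0 lc_a_rc_0_1 lc_a_rc_2_2 lc_a_rc_1_4 lc_a_rc_5_2 lc_a_rc_3_0 lc_a_rc_4_2 lc_a_rc_3_2 lc_a_rc_3_2 lc_a_rc_5_2 lc_a_rc_3_2 lc_a_rc_2_2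 lc_a_rc_4_2 lc_a_rc_3_2 lc_a_rc_4_2 lc_a_rc_1_0 lc_a_rc_21_0 lc_a_rc_5_2 lc_a_rc_0_1 lc_a_rc_2_2 lc_a_rc_5_0 lc_a_rc_3_2 lc_a_rc_3_2 lc_a_rc_5_2 lc_a_rc_2_2 lc_a_rc_5_2 lc_a_rc_4_2 lc_a_rc_0_1 lc_a_rc_21_0 lc_a_rc_3_2 lc_a_rc_0_1 lc_a_rc_21_0 lc_a_rc_4_2 lc_a_rc_3_0 lc_a_rc_3_2 lc_a_rc_4_0 lc_a_rc_5_2 lc_a_rc_0_1 lc_a_rc_2_2 lc_a_rc_5_2 lc_a_rc_21_0 lc_a_rc_1_4 lc_a_rc_3_0 lc_a_rc_4_0 lc_a_rc_3_2 lc_a_rc_0_1 lc_a_rc_2_2 lc_a_rc_21_0 lc_a_rc_1_2 lc_a_rc_2_0) (@D3.rec (fun _ => (Cert rels S Gen.a)) lc_a_rc_0_1 lc_a_rc_1_4 lc_a_rc_5_0 lc_a_rc_2_2 lc_a_rc_2_2 lc_a_rc_4_2 lc_a_rc_0_1 lc_a_rc_2_2 lc_a_rc_4_2 lc_a_rc_1_4 lc_a_rc_2_2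 lc_a_rc_4_2 lc_a_rc_2_2 lc_a_rc_2_2 lc_a_Cert_tree lc_a_rc_3_2 lc_a_rc_5_2 lc_a_rc_4_2 lc_a_rc_4_2 lc_a_rc_21_0 lc_a_rc_4_2 lc_a_rc_0_1 lc_a_rc_3_2 lc_a_rc_5_2 lc_a_rc_22_0 lc_a_rc_0_1 lc_a_rc_3_2 lc_a_rc_21_0 lc_a_rc_2_2 lc_a_rc_2_2 lc_a_rc_2_2 lc_a_rc_5_2 lc_a_rc_1_4 lc_a_rc_2_0 lc_a_rc_0_1 lc_a_rc_4_2 lc_a_rc_1_4 lc_a_rc_2_2 lc_a_rc_4_2 lc_a_rc_1_0 lc_a_rc_1_2 lc_a_rc_3_2 lc_a_rc_5_2 lc_a_rc_5_0 lc_a_rc_5_2 lc_a_rc_2_2 lc_a_rc_4_0 lc_a_rc_3_0 lc_a_rc_3_2 lc_a_rc_2_2 lc_a_rc_5_2 lc_a_rc_0_1 lc_a_rc_5_2 lc_a_rc_5_2 lc_a_rc_0_1 lc_a_rc_5_0 lc_a_rc_3_2 lc_a_rc_0_1 lc_a_rc_3_0 lc_a_rc_2_2 lc_a_rc_5_0 lc_a_rc_4_0) (@D3.rec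 (fun _ => (Cert rels S Gen.a)) lc_a_rc_3_2 lc_a_rc_4_0 lc_a_rc_4_2 lc_a_rc_3_2 lc_a_rc_2_2 lc_a_rc_1_2 lc_a_rc_2_2 lc_a_rc_3_2 lc_a_rc_0_1 lc_a_Cert_tree lc_a_rc_5_2 lc_a_rc_3_2 lc_a_rc_5_0 lc_a_rc_4_0 lc_a_rc_4_0 lc_a_Cert_tree lc_a_rc_21_0 lc_a_rc_5_2 lc_a_rc_21_0 lc_a_rc_5_2 lc_a_rc_3_0 lc_a_rc_5_0 lc_a_rc_0_1 lc_a_rc_4_0 lc_a_rc_3_2 lc_a_rc_3_0 lc_a_rc_2_2 lc_a_rc_3_2 lc_a_rc_3_0 lc_a_rc_3_0 lc_a_rc_0_1 lc_a_rc_4_2 lc_a_rc_2_2 lc_a_rc_2_0 lc_a_rc_22_0 lc_a_Cert_tree lc_a_rc_4_2 lc_a_rc_4_2 lc_a_rc_21_0 lc_a_rc_2_2 lc_a_rc_2_2 lc_a_rc_3_2 lc_a_rc_3_2 lc_a_rc_1_4 lc_a_rc_1_0 lc_a_rc_2_2 lc_a_rc_4_2 lc_a_rc_3_2 lc_a_Cert_tree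 lc_a_rc_4_2 lc_a_rc_3_2 lc_a_rc_3_2 lc_a_rc_4_2 lc_a_rc_5_2 lc_a_rc_2_2 lc_a_rc_2_2 lc_a_rc_4_2 lc_a_rc_5_0 lc_a_rc_0_1 lc_a_rc_2_2 lc_a_rc_0_1 lc_a_rc_3_0) (@D3.rec (fun _ => (Cert rels S Gen.a)) lc_a_rc_0_1 lc_a_rc_2_2 lc_a_rc_4_2 lc_a_Cert_tree lc_a_rc_2_2 lc_a_rc_4_2 lc_a_rc_4_0 lc_a_rc_4_2 lc_a_rc_5_2 lc_a_rc_2_0 lc_a_rc_21_0 lc_a_rc_0_1 lc_a_Cert_tree lc_a_rc_0_1 lc_a_rc_0_1 lc_a_rc_3_2 lc_a_rc_21_0 lc_a_rc_4_2 lc_a_rc_2_2 lc_a_rc_0_1 lc_a_rc_3_2 lc_a_rc_22_0 lc_a_rc_3_2 lc_a_rc_5_2 lc_a_rc_3_2 lc_a_rc_3_0 lc_a_rc_2_2 lc_a_rc_4_2 lc_a_rc_0_1 lc_a_rc_2_2 lc_a_rc_21_0 lc_a_rc_0_1 lc_a_rc_4_2 lc_a_rc_0_1 lc_a_rc_22_0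 lc_a_rc_3_2 lc_a_rc_2_0 lc_a_rc_2_2 lc_a_Cert_tree lc_a_rc_3_2 lc_a_rc_5_2 lc_a_rc_0_1 lc_a_rc_0_1 lc_a_rc_5_0 lc_a_rc_0_1 lc_a_rc_2_0 lc_a_rc_3_0 lc_a_rc_21_0 lc_a_rc_3_2 lc_a_rc_3_0 lc_a_rc_3_2 lc_a_rc_0_1 lc_a_rc_3_2 lc_a_rc_0_1 lc_a_rc_2_2 lc_a_rc_0_1 lc_a_rc_3_2 lc_a_rc_4_2 lc_a_rc_0_1 lc_a_rc_21_0 lc_a_rc_4_2 lc_a_rc_2_0) (@D3.rec (fun _ => (Cert rels S Gen.a)) lc_a_rc_3_2 lc_a_rc_0_1 lc_a_rc_4_2 lc_a_rc_4_2 lc_a_rc_3_2 lc_a_rc_3_2 lc_a_rc_5_2 lc_a_Cert_tree lc_a_rc_2_2 lc_a_Cert_tree lc_a_rc_2_2 lc_a_rc_1_4 lc_a_rc_3_2 lc_a_rc_2_2 lc_a_rc_1_2 lc_a_rc_1_4 lc_a_rc_3_0 lc_a_rc_4_2 lc_a_rc_3_2 lc_a_Cert_tree lc_a_rc_3_2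 lc_a_rc_21_0 lc_a_rc_21_0 lc_a_Cert_tree lc_a_rc_0_1 lc_a_rc_4_2 lc_a_Cert_tree lc_a_rc_21_0 lc_a_Cert_tree lc_a_rc_0_1 lc_a_Cert_tree lc_a_rc_3_2 lc_a_rc_21_0 lc_a_rc_2_0 lc_a_rc_0_1 lc_a_rc_0_1 lc_a_rc_3_0 lc_a_rc_3_0 lc_a_rc_2_2 lc_a_rc_3_2 lc_a_rc_2_2 lc_a_rc_3_2 lc_a_rc_21_0 lc_a_rc_0_1 lc_a_rc_0_1 lc_a_rc_3_2 lc_a_rc_4_2 lc_a_rc_2_2 lc_a_rc_4_2 lc_a_rc_0_1 lc_a_rc_3_2 lc_a_rc_21_0 lc_a_rc_4_2 lc_a_rc_0_1 lc_a_rc_21_0 lc_a_rc_0_1 lc_a_rc_3_2 lc_a_rc_4_2 lc_a_rc_4_0 lc_a_rc_21_0 lc_a_rc_0_1 lc_a_rc_3_2) (@D3.rec (fun _ => (Cert rels S Gen.a)) lc_a_rc_4_2 lc_a_rc_3_0 lc_a_rc_0_1 lc_a_rc_21_0 lc_a_rc_0_1 lc_a_rc_3_2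 lc_a_rc_4_2 lc_a_rc_21_0 lc_a_rc_5_0 lc_a_rc_21_0 lc_a_rc_1_4 lc_a_rc_3_2 lc_a_rc_3_2 lc_a_rc_21_0 lc_a_rc_3_2 lc_a_rc_3_0 lc_a_rc_4_2 lc_a_rc_4_0 lc_a_rc_4_2 lc_a_Cert_tree lc_a_rc_4_2 lc_a_Cert_tree lc_a_rc_4_2 lc_a_rc_5_0 lc_a_rc_4_0 lc_a_rc_5_2 lc_a_rc_0_1 lc_a_rc_3_2 lc_a_rc_21_0 lc_a_rc_2_2 lc_a_rc_3_2 lc_a_rc_3_0 lc_a_rc_3_2 lc_a_rc_2_2 lc_a_rc_0_1 lc_a_rc_5_2 lc_a_rc_2_2 lc_a_rc_1_2 lc_a_rc_0_1 lc_a_rc_3_2 lc_a_rc_2_2 lc_a_rc_4_2 lc_a_rc_3_2 lc_a_rc_2_2 lc_a_rc_0_1 lc_a_Cert_tree lc_a_rc_2_2 lc_a_rc_4_2 lc_a_rc_21_0 lc_a_rc_2_2 lc_a_rc_2_0 lc_a_rc_2_0 lc_a_rc_5_0 lc_a_rc_22_0 lc_a_rc_1_4 lc_a_rc_1_0 lc_a_rc_2_2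 lc_a_rc_4_2 lc_a_rc_2_2 lc_a_rc_2_2 lc_a_rc_4_2 lc_a_rc_3_2) (@D3.rec (fun _ => (Cert rels S Gen.a)) lc_a_rc_21_0 lc_a_rc_3_2 lc_a_rc_3_2 lc_a_rc_2_2 lc_a_rc_3_2 lc_a_Cert_tree lc_a_rc_3_2 lc_a_rc_2_2 lc_a_rc_3_2 lc_a_rc_2_2 lc_a_rc_3_2 lc_a_rc_0_1 lc_a_rc_1_4 lc_a_rc_3_2 lc_a_rc_3_2 lc_a_rc_0_1 lc_a_rc_3_2 lc_a_rc_3_0 lc_a_rc_21_0 lc_a_rc_2_2 lc_a_rc_2_2 lc_a_rc_5_2 lc_a_rc_4_0 lc_a_rc_22_0 lc_a_rc_3_0 lc_a_rc_3_2 lc_a_rc_0_1 lc_a_rc_4_2 lc_a_rc_3_2 lc_a_rc_0_1 lc_a_rc_3_2 lc_a_rc_3_2 lc_a_rc_0_1 lc_a_rc_0_1 lc_a_rc_2_2 lc_a_rc_0_1 lc_a_rc_1_0 lc_a_rc_5_2 lc_a_rc_1_4 lc_a_rc_5_2 lc_a_rc_5_0 lc_a_rc_3_2 lc_a_rc_1_0 lc_a_rc_1_0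 lc_a_rc_2_2 lc_a_rc_4_2 lc_a_rc_3_0 lc_a_rc_4_2 lc_a_rc_21_0 lc_a_rc_1_2 lc_a_rc_21_0 lc_a_rc_3_2 lc_a_rc_0_1 lc_a_rc_2_2 lc_a_rc_2_2 lc_a_rc_5_0 lc_a_Cert_tree lc_a_rc_3_2 lc_a_rc_1_4 lc_a_rc_0_1 lc_a_rc_21_0 lc_a_rc_3_2) (@D3.rec (fun _ => (Cert rels S Gen.a)) lc_a_rc_2_2 lc_a_rc_0_1 lc_a_rc_0_1 lc_a_rc_3_2 lc_a_rc_2_2 lc_a_rc_3_0 lc_a_rc_5_2 lc_a_rc_5_2 lc_a_rc_0_1 lc_a_rc_2_2 lc_a_rc_4_2 lc_a_rc_2_2 lc_a_rc_2_2 lc_a_Cert_tree lc_a_rc_22_0 lc_a_rc_22_0 lc_a_rc_4_2 lc_a_rc_2_0 lc_a_rc_21_0 lc_a_rc_2_0 lc_a_rc_4_0 lc_a_rc_3_2 lc_a_rc_1_4 lc_a_rc_3_2 lc_a_rc_3_2 lc_a_rc_2_2 lc_a_rc_1_2 lc_a_rc_22_0 lc_a_rc_2_0 lc_a_rc_0_1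 lc_a_rc_2_2 lc_a_rc_4_0 lc_a_rc_3_0 lc_a_rc_3_0 lc_a_rc_22_0 lc_a_rc_4_2 lc_a_rc_22_0 lc_a_rc_21_0 lc_a_rc_3_0 lc_a_rc_0_1 lc_a_rc_0_1 lc_a_Cert_tree lc_a_rc_1_0 lc_a_rc_2_0 lc_a_rc_2_0 lc_a_rc_2_0 lc_a_rc_3_2 lc_a_rc_3_2 lc_a_rc_21_0 lc_a_rc_0_1 lc_a_rc_3_2 lc_a_rc_2_2 lc_a_rc_0_1 lc_a_rc_0_1 lc_a_rc_2_0 lc_a_rc_3_0 lc_a_rc_4_0 lc_a_rc_4_2 lc_a_rc_5_2 lc_a_rc_3_2 lc_a_rc_3_0 lc_a_rc_1_2) (@D3.rec (fun _ => (Cert rels S Gen.a)) lc_a_rc_3_2 lc_a_rc_2_0 lc_a_rc_21_0 lc_a_rc_1_4 lc_a_rc_3_0 lc_a_rc_5_2 lc_a_rc_2_2 lc_a_rc_4_2 lc_a_rc_2_2 lc_a_rc_1_2 lc_a_rc_4_2 lc_a_rc_3_2 lc_a_rc_4_2 lc_a_rc_3_2 lc_a_rc_4_2 lc_a_rc_4_2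 lc_a_rc_2_0 lc_a_rc_1_2 lc_a_rc_2_0 lc_a_rc_5_0 lc_a_rc_3_2 lc_a_rc_5_2 lc_a_rc_4_2 lc_a_rc_3_2 lc_a_rc_4_2 lc_a_rc_3_2 lc_a_rc_2_2 lc_a_rc_3_2 lc_a_rc_5_2 lc_a_rc_2_2 lc_a_rc_3_2 lc_a_rc_3_2 lc_a_rc_0_1 lc_a_rc_3_2 lc_a_rc_21_0 lc_a_rc_5_2 lc_a_rc_2_2 lc_a_rc_3_2 lc_a_rc_4_2 lc_a_rc_4_0 lc_a_rc_3_0 lc_a_rc_5_2 lc_a_rc_0_1 lc_a_rc_3_2 lc_a_rc_2_2 lc_a_rc_22_0 lc_a_rc_4_2 lc_a_rc_3_2 lc_a_rc_3_2 lc_a_rc_0_1 lc_a_rc_3_2 lc_a_rc_21_0 lc_a_rc_22_0 lc_a_rc_4_2 lc_a_rc_4_2 lc_a_rc_1_4 lc_a_rc_3_2 lc_a_rc_5_2 lc_a_rc_4_2 lc_a_rc_4_2 lc_a_rc_21_0 lc_a_rc_1_2) (@D3.rec (fun _ => (Cert rels S Gen.a)) lc_a_rc_3_2 lc_a_rc_21_0 lc_a_rc_0_1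 lc_a_rc_3_2 lc_a_rc_2_2 lc_a_rc_4_2 lc_a_rc_2_2 lc_a_rc_2_2 lc_a_Cert_tree lc_a_rc_3_2 lc_a_rc_4_2 lc_a_rc_0_1 lc_a_rc_0_1 lc_a_rc_4_2 lc_a_rc_5_2 lc_a_rc_4_2 lc_a_rc_2_2 lc_a_rc_3_2 lc_a_rc_4_2 lc_a_rc_0_1 lc_a_rc_3_2 lc_a_rc_2_2 lc_a_rc_4_2 lc_a_rc_3_2 lc_a_rc_3_2 lc_a_rc_0_1 lc_a_rc_21_0 lc_a_rc_4_2 lc_a_rc_2_2 lc_a_rc_4_2 lc_a_rc_3_2 lc_a_rc_3_2 lc_a_rc_2_0 lc_a_rc_3_2 lc_a_rc_0_1 lc_a_rc_4_2 lc_a_rc_21_0 lc_a_rc_2_2 lc_a_rc_2_2 lc_a_rc_3_2 lc_a_rc_5_0 lc_a_rc_0_1 lc_a_rc_5_0 lc_a_rc_1_2 lc_a_Cert_tree lc_a_rc_3_2 lc_a_rc_4_2 lc_a_rc_3_2 lc_a_rc_3_2 lc_a_rc_5_2 lc_a_rc_1_4 lc_a_rc_3_2 lc_a_rc_3_2 lc_a_rc_4_2 lc_a_rc_3_2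 lc_a_rc_21_0 lc_a_rc_0_1 lc_a_rc_2_2 lc_a_rc_22_0 lc_a_rc_4_2 lc_a_Cert_tree lc_a_rc_5_0) (@D3.rec (fun _ => (Cert rels S Gen.a)) lc_a_rc_2_2 lc_a_rc_4_2 lc_a_rc_5_2 lc_a_rc_4_2 lc_a_rc_2_2 lc_a_rc_5_0 lc_a_rc_3_2 lc_a_rc_4_2 lc_a_rc_4_2 lc_a_rc_3_0 lc_a_rc_2_2 lc_a_rc_21_0 lc_a_rc_4_2 lc_a_rc_2_2 lc_a_rc_1_2 lc_a_rc_2_0 lc_a_rc_0_1 lc_a_rc_2_2 lc_a_rc_21_0 lc_a_rc_2_0 lc_a_rc_3_2 lc_a_rc_1_2 lc_a_rc_3_2 lc_a_rc_4_2 lc_a_rc_3_2 lc_a_rc_0_1 lc_a_rc_3_2 lc_a_rc_2_2 lc_a_rc_21_0 lc_a_rc_2_2 lc_a_rc_3_2 lc_a_rc_1_2 lc_a_rc_0_1 lc_a_rc_21_0 lc_a_rc_21_0 lc_a_rc_2_2 lc_a_rc_3_2 lc_a_rc_3_2 lc_a_rc_0_1 lc_a_rc_3_2 lc_a_rc_21_0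 lc_a_rc_21_0 lc_a_rc_1_2 lc_a_rc_21_0 lc_a_rc_21_0 lc_a_rc_4_2 lc_a_rc_1_0 lc_a_rc_0_1 lc_a_rc_21_0 lc_a_rc_2_2 lc_a_rc_0_1 lc_a_rc_21_0 lc_a_rc_1_4 lc_a_rc_2_0 lc_a_rc_2_2 lc_a_rc_5_2 lc_a_rc_5_2 lc_a_rc_2_2 lc_a_rc_3_2 lc_a_rc_4_2 lc_a_rc_3_2 lc_a_rc_2_2) (@D3.rec (fun _ => (Cert rels S Gen.a)) lc_a_rc_21_0 lc_a_rc_2_2 lc_a_rc_5_2 lc_a_rc_4_2 lc_a_rc_21_0 lc_a_rc_0_1 lc_a_rc_3_2 lc_a_rc_21_0 lc_a_rc_3_2 lc_a_rc_3_2 lc_a_rc_3_0 lc_a_rc_0_1 lc_a_rc_3_0 lc_a_rc_2_2 lc_a_rc_5_2 lc_a_rc_2_2 lc_a_rc_4_2 lc_a_rc_3_2 lc_a_rc_2_2 lc_a_rc_3_2 lc_a_rc_0_1 lc_a_rc_5_2 lc_a_Cert_tree lc_a_rc_21_0 lc_a_rc_5_2 lc_a_rc_1_2 lc_a_rc_2_2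 lc_a_rc_0_1 lc_a_rc_3_0 lc_a_rc_0_1 lc_a_rc_21_0 lc_a_rc_2_2 lc_a_rc_3_2 lc_a_rc_4_2 lc_a_rc_5_2 lc_a_rc_0_1 lc_a_rc_21_0 lc_a_rc_1_2 lc_a_rc_0_1 lc_a_rc_21_0 lc_a_rc_21_0 lc_a_rc_0_1 lc_a_rc_2_0 lc_a_Cert_tree lc_a_rc_5_2 lc_a_rc_2_2 lc_a_rc_0_1 lc_a_rc_3_0 lc_a_rc_0_1 lc_a_rc_21_0 lc_a_rc_3_2 lc_a_rc_0_1 lc_a_rc_4_2 lc_a_rc_0_1 lc_a_rc_1_4 lc_a_rc_3_2 lc_a_rc_1_2 lc_a_rc_3_2 lc_a_rc_21_0 lc_a_rc_2_2 lc_a_rc_3_2 lc_a_rc_3_2) (@D3.rec (fun _ => (Cert rels S Gen.a)) lc_a_rc_0_1 lc_a_rc_4_2 lc_a_rc_0_1 lc_a_rc_3_0 lc_a_rc_3_0 lc_a_rc_2_2 lc_a_rc_2_0 lc_a_rc_3_2 lc_a_rc_5_0 lc_a_rc_2_2 lc_a_rc_3_2 lc_a_rc_1_4 lc_a_rc_21_0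 lc_a_rc_4_2 lc_a_rc_0_1 lc_a_rc_5_0 lc_a_rc_3_2 lc_a_rc_4_2 lc_a_rc_2_2 lc_a_rc_0_1 lc_a_rc_2_2 lc_a_rc_2_2 lc_a_rc_3_2 lc_a_rc_2_2 lc_a_rc_2_2 lc_a_rc_2_0 lc_a_Cert_tree lc_a_rc_21_0 lc_a_rc_4_2 lc_a_rc_3_2 lc_a_rc_3_0 lc_a_rc_0_1 lc_a_rc_2_2 lc_a_rc_2_0 lc_a_rc_0_1 lc_a_rc_4_0 lc_a_rc_0_1 lc_a_rc_5_2 lc_a_rc_4_0 lc_a_rc_2_2 lc_a_rc_2_0 lc_a_rc_21_0 lc_a_Cert_tree lc_a_rc_2_2 lc_a_rc_5_0 lc_a_rc_21_0 lc_a_rc_5_2 lc_a_rc_2_0 lc_a_rc_2_2 lc_a_rc_0_1 lc_a_rc_3_2 lc_a_rc_4_2 lc_a_rc_3_2 lc_a_rc_21_0 lc_a_rc_2_2 lc_a_rc_0_1 lc_a_rc_0_1 lc_a_rc_3_2 lc_a_rc_4_2 lc_a_rc_0_1 lc_a_rc_5_0 lc_a_rc_5_2) (@D3.rec (fun _ => (Cert rels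 S Gen.a)) lc_a_rc_0_1 lc_a_rc_4_2 lc_a_rc_3_2 lc_a_rc_3_0 lc_a_rc_3_2 lc_a_rc_2_2 lc_a_rc_0_1 lc_a_rc_0_1 lc_a_rc_2_0 lc_a_rc_1_4 lc_a_rc_3_2 lc_a_rc_4_2 lc_a_rc_5_2 lc_a_rc_2_0 lc_a_rc_2_2 lc_a_rc_22_0 lc_a_rc_4_2 lc_a_rc_3_2 lc_a_rc_1_4 lc_a_rc_3_2 lc_a_rc_2_2 lc_a_rc_3_0 lc_a_rc_22_0 lc_a_rc_4_2 lc_a_rc_1_2 lc_a_rc_4_2 lc_a_rc_0_1 lc_a_rc_2_2 lc_a_rc_0_1 lc_a_rc_3_2 lc_a_rc_1_2 lc_a_rc_4_2 lc_a_rc_5_0 lc_a_rc_3_2 lc_a_rc_5_0 lc_a_rc_2_2 lc_a_rc_0_1 lc_a_rc_3_2 lc_a_rc_4_2 lc_a_rc_4_2 lc_a_rc_4_2 lc_a_rc_3_2 lc_a_rc_1_4 lc_a_rc_1_0 lc_a_rc_0_1 lc_a_rc_1_2 lc_a_rc_4_2 lc_a_rc_4_2 lc_a_rc_4_2 lc_a_rc_3_2 lc_a_rc_4_2 lc_a_rc_2_2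 lc_a_rc_21_0 lc_a_rc_0_1 lc_a_rc_0_1 lc_a_rc_2_2 lc_a_rc_1_4 lc_a_rc_3_2 lc_a_rc_3_0 lc_a_rc_5_2 lc_a_Cert_tree lc_a_rc_2_2) (@D3.rec (fun _ => (Cert rels S Gen.a)) lc_a_rc_3_2 lc_a_rc_4_2 lc_a_rc_3_2 lc_a_rc_21_0 lc_a_rc_0_1 lc_a_rc_2_2 lc_a_rc_3_2 lc_a_rc_3_2 lc_a_rc_3_2 lc_a_rc_5_2 lc_a_rc_4_0 lc_a_rc_3_2 lc_a_rc_0_1 lc_a_rc_4_2 lc_a_rc_4_0 lc_a_rc_4_2 lc_a_rc_0_1 lc_a_rc_3_2 lc_a_rc_1_2 lc_a_rc_0_1 lc_a_rc_3_2 lc_a_rc_21_0 lc_a_rc_3_2 lc_a_rc_0_1 lc_a_rc_3_2 lc_a_rc_1_2 lc_a_rc_4_2 lc_a_rc_2_2 lc_a_rc_2_2 lc_a_rc_3_2 lc_a_rc_5_0 lc_a_rc_4_2 lc_a_rc_21_0 lc_a_rc_2_2 lc_a_rc_0_1 lc_a_rc_3_2 lc_a_rc_4_2 lc_a_rc_4_2 lc_a_rc_2_0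 lc_a_rc_21_0 lc_a_rc_2_0 lc_a_rc_0_1 lc_a_rc_21_0 lc_a_rc_21_0 lc_a_rc_4_2 lc_a_rc_3_2 lc_a_rc_22_0 lc_a_rc_0_1 lc_a_rc_3_2 lc_a_rc_21_0 lc_a_rc_1_2 lc_a_rc_0_1 lc_a_rc_0_1 lc_a_rc_4_2 lc_a_rc_3_2 lc_a_rc_4_2 lc_a_rc_3_2 lc_a_rc_0_1 lc_a_rc_2_2 lc_a_rc_4_2 lc_a_rc_1_4 lc_a_rc_1_0) (@D3.rec (fun _ => (Cert rels S Gen.a)) lc_a_rc_3_2 lc_a_rc_5_2 lc_a_rc_3_2 lc_a_rc_4_2 lc_a_rc_2_0 lc_a_rc_3_2 lc_a_rc_4_2 lc_a_rc_5_2 lc_a_rc_0_1 lc_a_rc_1_4 lc_a_rc_0_1 lc_a_rc_3_2 lc_a_rc_21_0 lc_a_rc_2_2 lc_a_rc_3_2 lc_a_rc_0_1 lc_a_rc_2_2 lc_a_rc_2_2 lc_a_rc_2_2 lc_a_rc_2_2 lc_a_rc_2_0 lc_a_rc_4_2 lc_a_rc_3_0 lc_a_rc_3_2 lc_a_rc_0_1 lc_a_rc_4_2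 lc_a_rc_3_2 lc_a_rc_4_2 lc_a_rc_3_2 lc_a_rc_5_0 lc_a_rc_0_1 lc_a_rc_5_0 lc_a_rc_3_2 lc_a_rc_1_4 lc_a_rc_5_2 lc_a_rc_3_2 lc_a_rc_4_2 lc_a_rc_2_0 lc_a_rc_3_2 lc_a_rc_4_2 lc_a_rc_2_2 lc_a_rc_2_0 lc_a_rc_2_2 lc_a_rc_4_2 lc_a_rc_2_0 lc_a_rc_2_0 lc_a_rc_3_2 lc_a_rc_0_1 lc_a_rc_3_0 lc_a_rc_5_2 lc_a_rc_3_2 lc_a_rc_0_1 lc_a_rc_3_2 lc_a_rc_1_0 lc_a_rc_2_2 lc_a_rc_3_2 lc_a_rc_3_2 lc_a_rc_21_0 lc_a_rc_21_0 lc_a_rc_0_1 lc_a_rc_0_1 lc_a_rc_2_2) (@D3.rec (fun _ => (Cert rels S Gen.a)) lc_a_rc_3_2 lc_a_rc_22_0 lc_a_rc_21_0 lc_a_rc_2_0 lc_a_rc_2_2 lc_a_rc_3_2 lc_a_rc_3_2 lc_a_rc_4_2 lc_a_rc_3_0 lc_a_rc_2_0 lc_a_rc_2_2 lc_a_rc_1_2 lc_a_rc_2_2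 lc_a_rc_2_2 lc_a_rc_5_2 lc_a_Cert_tree lc_a_rc_4_2 lc_a_Cert_tree lc_a_rc_4_0 lc_a_rc_21_0 lc_a_rc_3_2 lc_a_rc_5_2 lc_a_rc_3_2 lc_a_rc_5_0 lc_a_rc_5_0 lc_a_rc_21_0 lc_a_rc_0_1 lc_a_rc_2_2 lc_a_rc_21_0 lc_a_rc_1_4 lc_a_rc_0_1 lc_a_rc_2_2 lc_a_rc_1_0 lc_a_rc_2_2 lc_a_rc_4_2 lc_a_rc_5_2 lc_a_rc_2_2 lc_a_rc_0_1 lc_a_rc_3_0 lc_a_rc_3_2 lc_a_rc_5_0 lc_a_rc_3_2 lc_a_rc_2_2 lc_a_rc_0_1 lc_a_rc_0_1 lc_a_rc_0_1 lc_a_rc_0_1 lc_a_rc_4_2 lc_a_rc_3_2 lc_a_rc_3_0 lc_a_rc_2_2 lc_a_rc_4_2 lc_a_rc_21_0 lc_a_rc_3_0 lc_a_rc_2_2 lc_a_rc_21_0 lc_a_rc_2_2 lc_a_rc_1_4 lc_a_rc_1_4 lc_a_rc_2_0 lc_a_rc_21_0 lc_a_rc_21_0) (@D3.rec (fun _ => (Cert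 rels S Gen.a)) lc_a_rc_4_2 lc_a_rc_1_2 lc_a_rc_2_2 lc_a_rc_3_2 lc_a_rc_3_2 lc_a_rc_2_2 lc_a_rc_21_0 lc_a_rc_2_2 lc_a_rc_3_0 lc_a_rc_21_0 lc_a_rc_21_0 lc_a_rc_1_2 lc_a_rc_4_2 lc_a_rc_0_1 lc_a_rc_2_2 lc_a_rc_21_0 lc_a_rc_1_2 lc_a_rc_5_2 lc_a_Cert_tree lc_a_rc_2_2 lc_a_rc_4_2 lc_a_rc_3_2 lc_a_rc_4_2 lc_a_rc_2_2 lc_a_rc_3_0 lc_a_rc_4_0 lc_a_rc_21_0 lc_a_rc_3_2 lc_a_rc_5_2 lc_a_rc_2_0 lc_a_rc_4_2 lc_a_rc_21_0 lc_a_rc_3_2 lc_a_rc_4_2 lc_a_rc_5_2 lc_a_rc_0_1 lc_a_rc_3_2 lc_a_rc_4_2 lc_a_rc_21_0 lc_a_rc_2_2 lc_a_rc_3_2 lc_a_rc_3_2 lc_a_rc_3_2 lc_a_rc_0_1 lc_a_rc_3_2 lc_a_rc_2_2 lc_a_rc_3_2 lc_a_rc_5_0 lc_a_rc_3_2 lc_a_rc_2_2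 lc_a_rc_4_2 lc_a_rc_2_0 lc_a_rc_3_2 lc_a_rc_4_2 lc_a_rc_1_4 lc_a_rc_3_2 lc_a_rc_4_2 lc_a_rc_3_0 lc_a_rc_3_2 lc_a_rc_2_2 lc_a_rc_3_2 lc_a_rc_3_0) (@D3.rec (fun _ => (Cert rels S Gen.a)) lc_a_rc_22_0 lc_a_rc_2_0 lc_a_rc_2_0 lc_a_rc_5_2 lc_a_rc_21_0 lc_a_rc_2_0 lc_a_rc_2_2 lc_a_rc_2_0 lc_a_rc_0_1 lc_a_rc_2_2 lc_a_rc_4_2 lc_a_rc_21_0 lc_a_rc_3_2 lc_a_rc_4_2 lc_a_rc_5_2 lc_a_rc_4_0 lc_a_rc_2_2 lc_a_rc_2_0 lc_a_rc_21_0 lc_a_rc_0_1 lc_a_rc_0_1 lc_a_rc_1_2 lc_a_rc_3_2 lc_a_rc_0_1 lc_a_rc_3_2 lc_a_rc_5_2 lc_a_Cert_tree lc_a_rc_2_2 lc_a_Cert_tree lc_a_rc_2_2 lc_a_rc_4_2 lc_a_rc_2_0 lc_a_rc_5_2 lc_a_rc_3_2 lc_a_rc_4_0 lc_a_rc_3_2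 lc_a_rc_3_2 lc_a_rc_3_2 lc_a_rc_4_2 lc_a_rc_4_2 lc_a_rc_21_0 lc_a_rc_3_0 lc_a_rc_3_2 lc_a_rc_2_2 lc_a_rc_4_2 lc_a_rc_5_0 lc_a_rc_3_2 lc_a_rc_22_0 lc_a_rc_5_0 lc_a_rc_4_2 lc_a_rc_5_0 lc_a_rc_3_2 lc_a_rc_21_0 lc_a_rc_21_0 lc_a_rc_4_2 lc_a_rc_21_0 lc_a_rc_0_1 lc_a_rc_1_2 lc_a_rc_3_2 lc_a_rc_3_2 lc_a_rc_0_1 lc_a_rc_4_2) (@D3.rec (fun _ => (Cert rels S Gen.a)) lc_a_rc_3_2 lc_a_rc_5_2 lc_a_Cert_tree lc_a_rc_3_2 lc_a_rc_4_0 lc_a_rc_21_0 lc_a_rc_21_0 lc_a_rc_2_2 lc_a_rc_5_0 lc_a_rc_4_2 lc_a_rc_1_4 lc_a_rc_0_1 lc_a_rc_2_2 lc_a_rc_3_2 lc_a_rc_0_1 lc_a_rc_22_0 lc_a_rc_2_2 lc_a_rc_2_2 lc_a_rc_5_0 lc_a_rc_22_0 lc_a_rc_2_2 lc_a_rc_0_1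 lc_a_rc_1_2 lc_a_rc_4_2 lc_a_rc_3_2 lc_a_rc_3_0 lc_a_rc_3_0 lc_a_rc_0_1 lc_a_rc_5_2 lc_a_rc_1_0 lc_a_rc_1_0 lc_a_Cert_tree lc_a_rc_2_2 lc_a_Cert_tree lc_a_rc_3_2 lc_a_rc_2_2 lc_a_rc_0_1 lc_a_Cert_tree lc_a_rc_0_1 lc_a_rc_2_2 lc_a_rc_3_2 lc_a_rc_3_2 lc_a_rc_3_2 lc_a_rc_21_0 lc_a_rc_2_2 lc_a_rc_3_0 lc_a_rc_0_1 lc_a_rc_0_1 lc_a_rc_21_0 lc_a_rc_4_2 lc_a_rc_3_2 lc_a_rc_2_2 lc_a_rc_4_2 lc_a_rc_3_2 lc_a_rc_2_0 lc_a_rc_2_2 lc_a_rc_2_2 lc_a_rc_5_0 lc_a_rc_3_2 lc_a_rc_4_2 lc_a_rc_4_2 lc_a_rc_3_2) (@D3.rec (fun _ => (Cert rels S Gen.a)) lc_a_rc_4_0 lc_a_rc_4_2 lc_a_rc_5_2 lc_a_rc_4_0 lc_a_rc_3_0 lc_a_rc_3_2 lc_a_rc_21_0 lc_a_rc_4_2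 lc_a_rc_1_4 lc_a_rc_0_1 lc_a_rc_4_2 lc_a_rc_4_2 lc_a_rc_0_1 lc_a_rc_2_2 lc_a_rc_21_0 lc_a_rc_3_2 lc_a_rc_5_0 lc_a_rc_3_2 lc_a_rc_4_2 lc_a_rc_5_0 lc_a_rc_4_2 lc_a_rc_3_2 lc_a_rc_21_0 lc_a_rc_1_4 lc_a_rc_2_2 lc_a_rc_3_2 lc_a_rc_2_2 lc_a_rc_2_2 lc_a_rc_2_2 lc_a_rc_3_2 lc_a_rc_5_0 lc_a_rc_5_2 lc_a_rc_4_2 lc_a_rc_3_2 lc_a_rc_21_0 lc_a_rc_3_2 lc_a_rc_1_4 lc_a_rc_3_2 lc_a_rc_21_0 lc_a_rc_21_0 lc_a_rc_4_2 lc_a_rc_1_4 lc_a_rc_2_2 lc_a_rc_0_1 lc_a_rc_2_2 lc_a_rc_3_2 lc_a_rc_4_2 lc_a_rc_21_0 lc_a_Cert_tree lc_a_rc_4_2 lc_a_rc_3_2 lc_a_rc_1_0 lc_a_rc_2_2 lc_a_rc_1_2 lc_a_rc_3_2 lc_a_rc_4_2 lc_a_rc_5_0 lc_a_rc_2_2 lc_a_rc_5_2 lc_a_rc_5_0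 lc_a_rc_21_0 lc_a_rc_3_0) (@D3.rec (fun _ => (Cert rels S Gen.a)) lc_a_rc_2_2 lc_a_rc_4_2 lc_a_rc_3_2 lc_a_rc_4_2 lc_a_rc_5_2 lc_a_rc_2_0 lc_a_rc_2_0 lc_a_rc_3_2 lc_a_rc_2_2 lc_a_rc_3_2 lc_a_rc_5_2 lc_a_rc_5_2 lc_a_rc_1_0 lc_a_rc_0_1 lc_a_rc_5_2 lc_a_rc_2_2 lc_a_rc_2_2 lc_a_rc_4_2 lc_a_rc_3_2 lc_a_rc_0_1 lc_a_rc_3_2 lc_a_rc_1_4 lc_a_rc_0_1 lc_a_rc_4_2 lc_a_rc_1_2 lc_a_rc_2_2 lc_a_rc_4_2 lc_a_Cert_tree lc_a_rc_2_2 lc_a_rc_4_2 lc_a_rc_22_0 lc_a_rc_0_1 lc_a_rc_1_4 lc_a_rc_5_2 lc_a_rc_0_1 lc_a_rc_21_0 lc_a_rc_4_2 lc_a_rc_5_2 lc_a_rc_0_1 lc_a_rc_2_2 lc_a_rc_3_2 lc_a_rc_5_2 lc_a_rc_3_2 lc_a_rc_0_1 lc_a_rc_1_2 lc_a_rc_3_2 lc_a_rc_4_2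 lc_a_rc_1_2 lc_a_rc_3_2 lc_a_rc_2_2 lc_a_rc_2_2 lc_a_rc_21_0 lc_a_rc_3_2 lc_a_rc_4_2 lc_a_rc_21_0 lc_a_rc_21_0 lc_a_rc_5_0 lc_a_rc_4_2 lc_a_rc_3_2 lc_a_rc_4_2 lc_a_rc_0_1 lc_a_rc_5_2) (@D3.rec (fun _ => (Cert rels S Gen.a)) lc_a_rc_3_2 lc_a_rc_21_0 lc_a_rc_5_0 lc_a_rc_0_1 lc_a_rc_1_4 lc_a_rc_5_2 lc_a_rc_4_2 lc_a_rc_2_2 lc_a_rc_4_2 lc_a_rc_21_0 lc_a_rc_21_0 lc_a_rc_21_0 lc_a_rc_1_2 lc_a_rc_1_0 lc_a_rc_0_1 lc_a_rc_2_0 lc_a_rc_21_0 lc_a_rc_0_1 lc_a_rc_21_0 lc_a_rc_4_2 lc_a_rc_1_2 lc_a_rc_21_0 lc_a_rc_4_2 lc_a_rc_5_0 lc_a_rc_0_1 lc_a_rc_2_2 lc_a_rc_4_2 lc_a_rc_3_2 lc_a_rc_2_2 lc_a_rc_2_2 lc_a_rc_2_2 lc_a_rc_4_2 lc_a_rc_3_2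 lc_a_rc_4_2 lc_a_rc_3_2 lc_a_rc_3_2 lc_a_rc_3_2 lc_a_rc_5_2 lc_a_rc_5_0 lc_a_rc_4_2 lc_a_rc_3_0 lc_a_rc_3_0 lc_a_rc_4_2 lc_a_rc_1_2 lc_a_rc_4_2 lc_a_rc_3_2 lc_a_rc_5_2 lc_a_rc_5_2 lc_a_rc_0_1 lc_a_rc_0_1 lc_a_rc_3_2 lc_a_rc_3_2 lc_a_rc_21_0 lc_a_rc_0_1 lc_a_rc_3_2 lc_a_rc_4_2 lc_a_rc_4_2 lc_a_rc_2_2 lc_a_rc_21_0 lc_a_rc_3_2 lc_a_rc_5_2 lc_a_rc_0_1) (@D3.rec (fun _ => (Cert rels S Gen.a)) lc_a_rc_21_0 lc_a_rc_0_1 lc_a_rc_3_2 lc_a_rc_4_2 lc_a_rc_4_2 lc_a_rc_5_0 lc_a_rc_4_2 lc_a_rc_3_2 lc_a_rc_5_2 lc_a_rc_2_2 lc_a_rc_4_2 lc_a_rc_21_0 lc_a_rc_3_2 lc_a_rc_2_2 lc_a_rc_4_2 lc_a_rc_0_1 lc_a_rc_3_2 lc_a_rc_4_2 lc_a_rc_4_2 lc_a_rc_3_2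 lc_a_rc_4_2 lc_a_rc_0_1 lc_a_rc_21_0 lc_a_rc_0_1 lc_a_rc_4_2 lc_a_rc_3_2 lc_a_rc_5_2 lc_a_rc_0_1 lc_a_rc_0_1 lc_a_rc_2_2 lc_a_rc_4_2 lc_a_rc_5_2 lc_a_rc_5_2 lc_a_rc_2_2 lc_a_rc_3_2 lc_a_rc_4_2 lc_a_rc_2_2 lc_a_rc_1_4 lc_a_rc_4_2 lc_a_rc_0_1 lc_a_rc_4_2 lc_a_rc_4_2 lc_a_rc_1_2 lc_a_rc_4_2 lc_a_rc_5_2 lc_a_rc_4_2 lc_a_rc_5_0 lc_a_rc_4_2 lc_a_rc_3_2 lc_a_rc_2_2 lc_a_rc_4_2 lc_a_rc_3_2 lc_a_rc_21_0 lc_a_rc_4_2 lc_a_rc_5_2 lc_a_rc_3_2 lc_a_rc_5_2 lc_a_rc_21_0 lc_a_rc_3_2 lc_a_rc_0_1 lc_a_rc_1_4 lc_a_rc_3_2) (@D3.rec (fun _ => (Cert rels S Gen.a)) lc_a_rc_21_0 lc_a_rc_0_1 lc_a_rc_3_2 lc_a_rc_4_2 lc_a_rc_4_2 lc_a_rc_2_0 lc_a_rc_3_2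 lc_a_rc_5_2 lc_a_rc_5_0 lc_a_rc_3_2 lc_a_rc_21_0 lc_a_rc_0_1 lc_a_rc_3_2 lc_a_rc_2_2 lc_a_rc_4_2 lc_a_rc_2_2 lc_a_rc_5_0 lc_a_rc_3_2 lc_a_rc_5_2 lc_a_rc_2_2 lc_a_rc_3_2 lc_a_rc_21_0 lc_a_rc_0_1 lc_a_rc_0_1 lc_a_rc_0_1 lc_a_rc_2_2 lc_a_rc_4_2 lc_a_rc_3_2 lc_a_rc_4_2 lc_a_rc_4_2 lc_a_rc_21_0 lc_a_rc_0_1 lc_a_rc_1_4 lc_a_rc_2_2 lc_a_rc_4_2 lc_a_rc_3_2 lc_a_rc_5_2 lc_a_rc_0_1 lc_a_rc_0_1 lc_a_rc_1_2 lc_a_rc_2_2 lc_a_rc_21_0 lc_a_rc_4_2 lc_a_rc_5_2 lc_a_rc_2_0 lc_a_rc_2_2 lc_a_rc_3_2 lc_a_rc_4_2 lc_a_rc_5_0 lc_a_rc_4_2 lc_a_rc_4_2 lc_a_rc_5_2 lc_a_rc_4_2 lc_a_rc_4_2 lc_a_rc_3_0 lc_a_rc_1_0 lc_a_rc_5_2 lc_a_rc_4_2 lc_a_rc_5_0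 lc_a_rc_4_2 lc_a_rc_3_2 lc_a_rc_2_2) (@D3.rec (fun _ => (Cert rels S Gen.a)) lc_a_rc_4_2 lc_a_rc_3_2 lc_a_rc_21_0 lc_a_rc_0_1 lc_a_rc_0_1 lc_a_rc_22_0 lc_a_rc_4_2 lc_a_rc_3_2 lc_a_rc_21_0 lc_a_rc_0_1 lc_a_rc_0_1 lc_a_rc_3_2 lc_a_rc_3_2 lc_a_rc_4_2 lc_a_rc_3_2 lc_a_rc_0_1 lc_a_rc_22_0 lc_a_rc_0_1 lc_a_rc_4_2 lc_a_rc_21_0 lc_a_rc_1_4 lc_a_rc_4_2 lc_a_rc_5_0 lc_a_rc_3_2 lc_a_rc_5_2 lc_a_rc_2_2 lc_a_rc_0_1 lc_a_rc_21_0 lc_a_rc_0_1 lc_a_rc_3_2 lc_a_rc_0_1 lc_a_rc_2_2 lc_a_rc_0_1 lc_a_rc_0_1 lc_a_rc_2_2 lc_a_rc_4_2 lc_a_rc_5_2 lc_a_rc_2_0 lc_a_rc_2_2 lc_a_rc_4_2 lc_a_rc_3_2 lc_a_rc_2_2 lc_a_rc_1_2 lc_a_rc_0_1 lc_a_rc_4_2 lc_a_rc_1_2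 lc_a_rc_1_0 lc_a_rc_5_2 lc_a_rc_21_0 lc_a_rc_0_1 lc_a_rc_0_1 lc_a_rc_4_2 lc_a_rc_3_2 lc_a_rc_4_2 lc_a_rc_21_0 lc_a_rc_5_2 lc_a_rc_3_2 lc_a_rc_0_1 lc_a_rc_0_1 lc_a_rc_4_2 lc_a_rc_3_2 lc_a_rc_0_1) (@D3.rec (fun _ => (Cert rels S Gen.a)) lc_a_rc_5_2 lc_a_rc_21_0 lc_a_rc_2_2 lc_a_rc_0_1 lc_a_rc_1_4 lc_a_rc_4_2 lc_a_rc_4_2 lc_a_rc_5_0 lc_a_rc_4_2 lc_a_rc_3_2 lc_a_rc_2_2 lc_a_rc_21_0 lc_a_rc_0_1 lc_a_rc_21_0 lc_a_rc_0_1 lc_a_rc_2_2 lc_a_rc_4_2 lc_a_rc_4_2 lc_a_rc_3_2 lc_a_rc_5_2 lc_a_rc_0_1 lc_a_rc_2_2 lc_a_rc_2_2 lc_a_rc_21_0 lc_a_rc_5_0 lc_a_rc_3_2 lc_a_Cert_tree lc_a_rc_2_2 lc_a_rc_3_2 lc_a_rc_4_2 lc_a_rc_3_2 lc_a_rc_4_2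 lc_a_rc_3_2 lc_a_rc_0_1 lc_a_rc_2_2 lc_a_rc_1_2 lc_a_rc_0_1 lc_a_rc_21_0 lc_a_rc_1_4 lc_a_rc_3_2 lc_a_rc_4_2 lc_a_rc_4_2 lc_a_rc_4_2 lc_a_rc_1_0 lc_a_rc_4_2 lc_a_rc_5_2 lc_a_rc_21_0 lc_a_rc_3_2 lc_a_rc_21_0 lc_a_rc_3_2 lc_a_rc_4_2 lc_a_rc_3_2 lc_a_rc_0_1 lc_a_rc_0_1 lc_a_rc_5_2 lc_a_rc_4_2 lc_a_rc_0_1 lc_a_rc_21_0 lc_a_rc_2_2 lc_a_Cert_tree lc_a_rc_3_2 lc_a_rc_5_2) (@D3.rec (fun _ => (Cert rels S Gen.a)) lc_a_rc_21_0 lc_a_rc_0_1 lc_a_rc_0_1 lc_a_rc_4_2 lc_a_rc_0_1 lc_a_rc_21_0 lc_a_rc_0_1 lc_a_rc_5_0 lc_a_rc_4_2 lc_a_rc_0_1 lc_a_rc_0_1 lc_a_rc_0_1 lc_a_rc_4_2 lc_a_rc_3_2 lc_a_rc_21_0 lc_a_rc_3_2 lc_a_rc_5_2 lc_a_rc_3_2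 lc_a_rc_3_2 lc_a_rc_4_2 lc_a_rc_3_2 lc_a_rc_2_2 lc_a_rc_1_4 lc_a_rc_1_2 lc_a_rc_3_2 lc_a_rc_3_0 lc_a_rc_5_2 lc_a_rc_5_0 lc_a_rc_3_2 lc_a_rc_4_2 lc_a_rc_1_4 lc_a_rc_21_0 lc_a_rc_0_1 lc_a_rc_1_2 lc_a_rc_3_2 lc_a_rc_0_1 lc_a_rc_4_2 lc_a_rc_3_2 lc_a_rc_2_2 lc_a_rc_21_0 lc_a_rc_0_1 lc_a_rc_2_2 lc_a_rc_2_2 lc_a_rc_4_2 lc_a_rc_21_0 lc_a_rc_22_0 lc_a_rc_3_2 lc_a_rc_0_1 lc_a_rc_3_0 lc_a_rc_2_2 lc_a_rc_1_4 lc_a_rc_3_0 lc_a_rc_21_0 lc_a_rc_4_2 lc_a_rc_0_1 lc_a_rc_2_0 lc_a_rc_21_0 lc_a_Cert_tree lc_a_rc_0_1 lc_a_rc_21_0 lc_a_rc_1_4 lc_a_rc_3_2) (@D3.rec (fun _ => (Cert rels S Gen.a)) lc_a_rc_5_0 lc_a_rc_2_2 lc_a_rc_2_2 lc_a_rc_2_2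 lc_a_rc_5_2 lc_a_Cert_tree lc_a_rc_3_2 lc_a_rc_0_1 lc_a_rc_2_2 lc_a_rc_0_1 lc_a_rc_3_2 lc_a_rc_4_2 lc_a_rc_4_2 lc_a_rc_3_2 lc_a_rc_1_2 lc_a_rc_2_2 lc_a_rc_21_0 lc_a_rc_3_2 lc_a_rc_4_2 lc_a_rc_3_2 lc_a_rc_3_0 lc_a_rc_3_0 lc_a_rc_2_2 lc_a_rc_3_0 lc_a_rc_22_0 lc_a_rc_3_0 lc_a_Cert_tree lc_a_rc_3_2 lc_a_rc_3_2 lc_a_rc_3_2 lc_a_rc_1_0 lc_a_rc_5_2 lc_a_rc_3_2 lc_a_rc_3_2 lc_a_rc_21_0 lc_a_rc_4_2 lc_a_rc_4_2 lc_a_rc_5_0 lc_a_Cert_tree lc_a_rc_3_2 lc_a_rc_4_2 lc_a_rc_3_0 lc_a_rc_5_2 lc_a_rc_4_2 lc_a_rc_3_2 lc_a_rc_21_0 lc_a_rc_3_2 lc_a_rc_2_2 lc_a_rc_3_2 lc_a_rc_4_2 lc_a_rc_21_0 lc_a_rc_3_2 lc_a_rc_4_2 lc_a_rc_5_0 lc_a_rc_3_2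 lc_a_rc_2_2 lc_a_rc_4_2 lc_a_rc_2_2 lc_a_rc_4_0 lc_a_rc_0_1 lc_a_rc_2_2 lc_a_rc_4_0) (@D3.rec (fun _ => (Cert rels S Gen.a)) lc_a_rc_22_0 lc_a_rc_5_2 lc_a_rc_0_1 lc_a_rc_0_1 lc_a_rc_4_2 lc_a_rc_3_2 lc_a_rc_2_0 lc_a_rc_21_0 lc_a_rc_3_2 lc_a_rc_2_2 lc_a_rc_1_2 lc_a_rc_2_2 lc_a_rc_0_1 lc_a_rc_1_4 lc_a_rc_0_1 lc_a_rc_3_0 lc_a_Cert_tree lc_a_Cert_tree lc_a_rc_0_1 lc_a_rc_2_2 lc_a_rc_0_1 lc_a_rc_3_0 lc_a_rc_3_2 lc_a_rc_4_2 lc_a_rc_0_1 lc_a_rc_3_2 lc_a_rc_5_2 lc_a_rc_1_2 lc_a_rc_0_1 lc_a_rc_4_0 lc_a_rc_2_2 lc_a_rc_2_2 lc_a_rc_0_1 lc_a_rc_5_0 lc_a_rc_4_2 lc_a_rc_1_2 lc_a_rc_21_0 lc_a_rc_4_2 lc_a_rc_4_0 lc_a_rc_21_0 lc_a_rc_0_1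 lc_a_rc_4_2 lc_a_rc_3_2 lc_a_rc_2_2 lc_a_rc_21_0 lc_a_rc_21_0 lc_a_rc_5_0 lc_a_rc_5_2 lc_a_rc_3_2 lc_a_rc_0_1 lc_a_rc_5_2 lc_a_rc_3_2 lc_a_rc_5_2 lc_a_rc_5_0 lc_a_Cert_tree lc_a_Cert_tree lc_a_rc_2_0 lc_a_rc_3_2 lc_a_rc_4_0 lc_a_rc_4_2 lc_a_rc_0_1 lc_a_rc_3_0) (@D3.rec (fun _ => (Cert rels S Gen.a)) lc_a_rc_3_2 lc_a_rc_4_0 lc_a_rc_3_0 lc_a_rc_4_2 lc_a_rc_0_1 lc_a_rc_2_2 lc_a_rc_21_0 lc_a_rc_4_2 lc_a_rc_21_0 lc_a_rc_0_1 lc_a_rc_3_2 lc_a_Cert_tree lc_a_rc_3_2 lc_a_rc_2_2 lc_a_Cert_tree lc_a_rc_21_0 lc_a_rc_21_0 lc_a_rc_3_2 lc_a_rc_5_0 lc_a_rc_3_0 lc_a_rc_2_2 lc_a_rc_4_2 lc_a_rc_4_0 lc_a_rc_3_0 lc_a_rc_3_2 lc_a_rc_5_2 lc_a_rc_2_2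 lc_a_rc_2_2 lc_a_rc_0_1 lc_a_rc_5_0 lc_a_rc_3_2 lc_a_rc_4_2 lc_a_rc_2_2 lc_a_rc_3_2 lc_a_rc_4_2 lc_a_rc_3_0 lc_a_rc_2_2 lc_a_rc_21_0 lc_a_rc_3_0 lc_a_rc_1_4 lc_a_rc_2_0 lc_a_rc_4_0 lc_a_rc_3_2 lc_a_rc_2_2 lc_a_rc_1_4 lc_a_rc_0_1 lc_a_rc_0_1 lc_a_rc_21_0 lc_a_rc_2_2 lc_a_rc_5_0 lc_a_rc_0_1 lc_a_rc_4_2 lc_a_rc_2_2 lc_a_rc_2_2 lc_a_rc_4_2 lc_a_rc_3_2 lc_a_rc_21_0 lc_a_rc_0_1 lc_a_rc_0_1 lc_a_rc_1_0 lc_a_rc_4_2 lc_a_rc_2_2) (@D3.rec (fun _ => (Cert rels S Gen.a)) lc_a_rc_4_2 lc_a_rc_3_2 lc_a_rc_4_2 lc_a_rc_2_0 lc_a_rc_0_1 lc_a_rc_2_2 lc_a_rc_4_2 lc_a_rc_0_1 lc_a_rc_1_2 lc_a_rc_5_2 lc_a_rc_1_4 lc_a_rc_3_2 lc_a_rc_5_2 lc_a_rc_5_2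 lc_a_rc_3_2 lc_a_rc_3_2 lc_a_rc_3_2 lc_a_rc_2_2 lc_a_rc_5_2 lc_a_rc_2_2 lc_a_rc_4_2 lc_a_Cert_tree lc_a_rc_3_2 lc_a_rc_4_2 lc_a_rc_4_2 lc_a_rc_5_0 lc_a_rc_1_2 lc_a_rc_21_0 lc_a_rc_3_2 lc_a_rc_0_1 lc_a_rc_4_2 lc_a_rc_5_2 lc_a_Cert_tree lc_a_rc_3_2 lc_a_rc_3_0 lc_a_rc_3_2 lc_a_rc_0_1 lc_a_rc_4_2 lc_a_rc_0_1 lc_a_rc_2_2 lc_a_rc_2_2 lc_a_rc_3_2 lc_a_rc_2_2 lc_a_Cert_tree lc_a_rc_5_0 lc_a_rc_4_2 lc_a_rc_3_2 lc_a_rc_4_2 lc_a_rc_4_2 lc_a_rc_5_2 lc_a_rc_2_2 lc_a_rc_2_2 lc_a_rc_3_2 lc_a_rc_4_2 lc_a_rc_4_2 lc_a_rc_4_0 lc_a_rc_2_2 lc_a_rc_4_2 lc_a_rc_4_2 lc_a_rc_1_2 lc_a_rc_4_2 lc_a_rc_1_0) (@D3.rec (fun _ => (Cert rels S Gen.a))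 lc_a_rc_1_0 lc_a_rc_5_2 lc_a_Cert_tree lc_a_rc_5_2 lc_a_rc_4_2 lc_a_rc_4_2 lc_a_rc_0_1 lc_a_rc_3_0 lc_a_rc_4_2 lc_a_rc_21_0 lc_a_rc_3_2 lc_a_rc_4_2 lc_a_rc_2_0 lc_a_rc_3_2 lc_a_rc_5_2 lc_a_rc_2_2 lc_a_rc_0_1 lc_a_rc_5_2 lc_a_rc_2_0 lc_a_rc_2_2 lc_a_rc_0_1 lc_a_rc_21_0 lc_a_rc_4_2 lc_a_rc_0_1 lc_a_rc_2_0 lc_a_rc_0_1 lc_a_rc_4_2 lc_a_rc_4_2 lc_a_rc_1_2 lc_a_rc_5_0 lc_a_rc_5_0 lc_a_rc_2_2 lc_a_rc_4_2 lc_a_rc_2_2 lc_a_rc_2_2 lc_a_rc_4_2 lc_a_rc_3_2 lc_a_rc_3_0 lc_a_rc_2_0 lc_a_rc_2_0 lc_a_rc_4_2 lc_a_rc_5_0 lc_a_rc_3_2 lc_a_rc_3_2 lc_a_rc_4_2 lc_a_rc_0_1 lc_a_rc_4_2 lc_a_rc_2_0 lc_a_rc_2_2 lc_a_rc_1_2 lc_a_rc_5_2 lc_a_rc_1_2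 lc_a_rc_2_0 lc_a_rc_2_0 lc_a_rc_3_2 lc_a_rc_4_2 lc_a_Cert_tree lc_a_rc_5_2 lc_a_rc_2_2 lc_a_rc_4_2 lc_a_rc_3_0 lc_a_rc_0_1) (@D3.rec (fun _ => (Cert rels S Gen.a)) lc_a_rc_5_0 lc_a_rc_2_2 lc_a_rc_1_2 lc_a_rc_2_0 lc_a_rc_0_1 lc_a_rc_2_2 lc_a_rc_5_0 lc_a_rc_0_1 lc_a_rc_5_0 lc_a_rc_3_2 lc_a_rc_5_2 lc_a_rc_21_0 lc_a_rc_1_4 lc_a_rc_5_0 lc_a_rc_4_2 lc_a_rc_5_2 lc_a_rc_21_0 lc_a_rc_21_0 lc_a_rc_21_0 lc_a_rc_2_2 lc_a_rc_4_2 lc_a_rc_4_2 lc_a_rc_3_2 lc_a_rc_3_2 lc_a_Cert_tree lc_a_rc_3_2 lc_a_rc_3_2 lc_a_rc_5_0 lc_a_rc_21_0 lc_a_rc_0_1 lc_a_rc_0_1 lc_a_rc_3_0 lc_a_rc_21_0 lc_a_rc_3_2 lc_a_rc_5_2 lc_a_rc_3_2 lc_a_rc_4_0 lc_a_rc_0_1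 lc_a_Cert_tree lc_a_rc_2_2 lc_a_rc_4_0 lc_a_rc_4_2 lc_a_rc_21_0 lc_a_rc_2_2 lc_a_rc_2_2 lc_a_rc_2_2 lc_a_rc_4_2 lc_a_rc_2_0 lc_a_rc_3_2 lc_a_rc_5_0 lc_a_rc_3_2 lc_a_rc_4_2 lc_a_Cert_tree lc_a_rc_0_1 lc_a_rc_21_0 lc_a_rc_0_1 lc_a_rc_5_2 lc_a_rc_3_2 lc_a_rc_3_2 lc_a_rc_5_0 lc_a_rc_2_2 lc_a_rc_3_2) (@D3.rec (fun _ => (Cert rels S Gen.a)) lc_a_rc_4_2 lc_a_rc_5_0 lc_a_rc_0_1 lc_a_rc_4_2 lc_a_rc_2_2 lc_a_rc_4_2 lc_a_rc_2_2 lc_a_rc_3_0 lc_a_rc_4_2 lc_a_rc_3_2 lc_a_rc_4_2 lc_a_rc_2_2 lc_a_rc_21_0 lc_a_rc_2_2 lc_a_rc_3_2 lc_a_rc_3_2 lc_a_rc_3_0 lc_a_rc_3_0 lc_a_rc_2_2 lc_a_rc_1_4 lc_a_Cert_tree lc_a_rc_2_2 lc_a_rc_0_1 lc_a_rc_5_2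 lc_a_rc_21_0 lc_a_rc_5_0 lc_a_rc_0_1 lc_a_rc_5_2 lc_a_rc_0_1 lc_a_rc_5_2 lc_a_rc_2_0 lc_a_rc_5_0 lc_a_rc_4_2 lc_a_rc_5_2 lc_a_rc_0_1 lc_a_rc_4_2 lc_a_rc_21_0 lc_a_rc_4_0 lc_a_rc_0_1 lc_a_rc_21_0 lc_a_rc_2_2 lc_a_rc_5_0 lc_a_rc_4_2 lc_a_rc_2_2 lc_a_rc_4_0 lc_a_rc_21_0 lc_a_rc_3_2 lc_a_rc_5_2 lc_a_rc_4_2 lc_a_rc_4_2 lc_a_rc_4_2 lc_a_rc_4_2 lc_a_rc_4_2 lc_a_rc_4_2 lc_a_rc_4_2 lc_a_rc_21_0 lc_a_rc_5_2 lc_a_rc_4_2 lc_a_rc_5_0 lc_a_rc_3_2 lc_a_rc_4_0 lc_a_rc_2_2) (@D3.rec (fun _ => (Cert rels S Gen.a)) lc_a_rc_0_1 lc_a_rc_0_1 lc_a_rc_0_1 lc_a_rc_2_2 lc_a_rc_3_2 lc_a_rc_0_1 lc_a_rc_4_2 lc_a_rc_4_2 lc_a_rc_4_2 lc_a_rc_1_0 lc_a_rc_1_0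 lc_a_rc_3_0 lc_a_rc_5_2 lc_a_rc_2_2 lc_a_rc_4_2 lc_a_rc_4_2 lc_a_rc_2_2 lc_a_rc_4_2 lc_a_rc_0_1 lc_a_rc_5_0 lc_a_rc_5_2 lc_a_Cert_tree lc_a_rc_2_0 lc_a_rc_3_2 lc_a_rc_4_2 lc_a_rc_2_2 lc_a_rc_4_0 lc_a_rc_5_2 lc_a_rc_4_2 lc_a_rc_4_0 lc_a_rc_4_2 lc_a_rc_3_2 lc_a_rc_3_2 lc_a_rc_4_2 lc_a_rc_3_2 lc_a_rc_3_2 lc_a_rc_4_2 lc_a_rc_3_2 lc_a_rc_2_2 lc_a_rc_2_0 lc_a_rc_3_2 lc_a_rc_1_2 lc_a_rc_3_2 lc_a_rc_3_2 lc_a_rc_2_2 lc_a_rc_3_2 lc_a_rc_4_2 lc_a_rc_0_1 lc_a_rc_21_0 lc_a_rc_4_2 lc_a_rc_2_2 lc_a_rc_2_2 lc_a_rc_0_1 lc_a_rc_2_2 lc_a_rc_3_2 lc_a_rc_4_2 lc_a_Cert_tree lc_a_rc_3_2 lc_a_rc_2_2 lc_a_rc_21_0 lc_a_rc_3_2 lc_a_rc_2_2) (@D3.rec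 (fun _ => (Cert rels S Gen.a)) lc_a_rc_21_0 lc_a_rc_5_2 lc_a_rc_4_0 lc_a_rc_2_2 lc_a_rc_3_2 lc_a_rc_4_2 lc_a_rc_21_0 lc_a_rc_0_1 lc_a_rc_0_1 lc_a_rc_3_2 lc_a_rc_2_2 lc_a_rc_3_2 lc_a_rc_3_2 lc_a_rc_2_0 lc_a_rc_2_0 lc_a_rc_1_0 lc_a_rc_1_0 lc_a_rc_1_2 lc_a_rc_1_4 lc_a_rc_3_2 lc_a_rc_5_0 lc_a_rc_3_2 lc_a_rc_2_2 lc_a_rc_5_2 lc_a_rc_3_2 lc_a_rc_3_2 lc_a_rc_3_2 lc_a_rc_5_2 lc_a_rc_3_2 lc_a_rc_4_2 lc_a_rc_3_2 lc_a_rc_3_2 lc_a_rc_2_2 lc_a_rc_5_2 lc_a_rc_2_2 lc_a_rc_4_2 lc_a_rc_3_2 lc_a_rc_2_2 lc_a_rc_3_2 lc_a_rc_4_2 lc_a_rc_1_4 lc_a_rc_4_2 lc_a_rc_0_1 lc_a_rc_2_0 lc_a_rc_21_0 lc_a_rc_0_1 lc_a_rc_21_0 lc_a_rc_3_2 lc_a_rc_3_2 lc_a_rc_2_2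 lc_a_rc_2_2 lc_a_rc_4_0 lc_a_rc_0_1 lc_a_Cert_tree lc_a_rc_1_2 lc_a_rc_21_0 lc_a_rc_3_2 lc_a_rc_5_0 lc_a_rc_21_0 lc_a_rc_3_2 lc_a_rc_4_2 lc_a_rc_4_0)
def ce_a_18 : D2 → D3 → (Cert rels S Gen.a) := @D2.rec (fun _ => D3 → (Cert rels S Gen.a)) (@D3.rec (fun _ => (Cert rels S Gen.a)) lc_a_rc_4_2 lc_a_rc_1_2 lc_a_rc_3_2 lc_a_rc_0_1 lc_a_rc_0_1 lc_a_rc_3_0 lc_a_rc_3_2 lc_a_rc_4_0 lc_a_rc_2_2 lc_a_rc_21_0 lc_a_rc_1_2 lc_a_rc_3_2 lc_a_rc_1_4 lc_a_rc_1_4 lc_a_rc_4_2 lc_a_rc_4_2 lc_a_rc_4_2 lc_a_rc_1_0 lc_a_rc_2_2 lc_a_rc_3_2 lc_a_rc_5_2 lc_a_rc_0_1 lc_a_rc_2_0 lc_a_rc_3_2 lc_a_rc_5_2 lc_a_rc_5_0 lc_a_rc_0_1 lc_a_rc_2_2 lc_a_rc_5_2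 lc_a_rc_4_2 lc_a_rc_21_0 lc_a_rc_21_0 lc_a_rc_0_1 lc_a_rc_5_2 lc_a_rc_4_2 lc_a_rc_22_0 lc_a_rc_1_4 lc_a_rc_1_0 lc_a_rc_2_2 lc_a_rc_1_2 lc_a_rc_3_0 lc_a_rc_4_0 lc_a_rc_21_0 lc_a_rc_2_2 lc_a_rc_21_0 lc_a_rc_5_2 lc_a_rc_2_2 lc_a_rc_4_2 lc_a_rc_3_2 lc_a_rc_3_0 lc_a_rc_0_1 lc_a_rc_5_0 lc_a_rc_3_2 lc_a_rc_0_1 lc_a_rc_2_2 lc_a_rc_3_2 lc_a_rc_0_1 lc_a_rc_0_1 lc_a_rc_3_2 lc_a_rc_2_2 lc_a_rc_4_2 lc_a_rc_2_0) (@D3.rec (fun _ => (Cert rels S Gen.a)) lc_a_rc_22_0 lc_a_rc_2_0 lc_a_rc_3_2 lc_a_rc_2_2 lc_a_rc_2_2 lc_a_rc_2_0 lc_a_rc_3_0 lc_a_Cert_tree lc_a_rc_21_0 lc_a_rc_21_0 lc_a_rc_5_2 lc_a_rc_3_2 lc_a_rc_21_0 lc_a_rc_0_1 lc_a_rc_2_0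 lc_a_rc_2_2 lc_a_rc_3_2 lc_a_rc_1_2 lc_a_rc_4_0 lc_a_rc_5_0 lc_a_rc_5_2 lc_a_rc_1_2 lc_a_rc_21_0 lc_a_rc_3_2 lc_a_rc_4_2 lc_a_rc_3_2 lc_a_rc_3_2 lc_a_rc_1_2 lc_a_rc_1_2 lc_a_rc_4_2 lc_a_rc_3_2 lc_a_rc_21_0 lc_a_Cert_tree lc_a_rc_0_1 lc_a_rc_3_0 lc_a_rc_4_2 lc_a_rc_3_2 lc_a_rc_1_4 lc_a_rc_4_2 lc_a_rc_4_2 lc_a_rc_21_0 lc_a_rc_4_2 lc_a_rc_1_4 lc_a_rc_3_2 lc_a_rc_21_0 lc_a_Cert_tree lc_a_rc_3_2 lc_a_Cert_tree lc_a_rc_3_2 lc_a_rc_2_2 lc_a_rc_1_4 lc_a_rc_3_2 lc_a_rc_5_2 lc_a_Cert_tree lc_a_rc_3_2 lc_a_rc_2_2 lc_a_rc_4_2 lc_a_rc_5_2 lc_a_rc_5_2 lc_a_Cert_tree lc_a_rc_3_2 lc_a_rc_4_2) (@D3.rec (fun _ => (Cert rels S Gen.a)) lc_a_rc_22_0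 lc_a_rc_3_2 lc_a_rc_22_0 lc_a_rc_0_1 lc_a_rc_0_1 lc_a_rc_21_0 lc_a_rc_4_2 lc_a_rc_2_2 lc_a_rc_22_0 lc_a_rc_3_2 lc_a_rc_0_1 lc_a_rc_21_0 lc_a_rc_4_2 lc_a_rc_5_0 lc_a_rc_3_2 lc_a_rc_3_2 lc_a_rc_4_2 lc_a_rc_3_0 lc_a_rc_21_0 lc_a_rc_2_0 lc_a_rc_2_0 lc_a_rc_2_2 lc_a_rc_2_2 lc_a_rc_3_2 lc_a_rc_2_0 lc_a_rc_2_0 lc_a_rc_21_0 lc_a_rc_1_0 lc_a_rc_4_2 lc_a_rc_3_2 lc_a_rc_3_2 lc_a_rc_3_2 lc_a_rc_2_2 lc_a_rc_21_0 lc_a_rc_21_0 lc_a_rc_5_2 lc_a_rc_4_2 lc_a_rc_21_0 lc_a_rc_5_2 lc_a_rc_5_2 lc_a_rc_5_2 lc_a_rc_0_1 lc_a_rc_3_2 lc_a_rc_4_2 lc_a_rc_2_2 lc_a_rc_21_0 lc_a_rc_0_1 lc_a_rc_3_2 lc_a_rc_1_4 lc_a_rc_4_2 lc_a_rc_3_2 lc_a_rc_5_2 lc_a_rc_2_2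 lc_a_rc_1_4 lc_a_rc_4_2 lc_a_rc_1_2 lc_a_rc_5_0 lc_a_rc_4_2 lc_a_rc_1_4 lc_a_rc_2_2 lc_a_rc_2_2 lc_a_rc_3_0) (@D3.rec (fun _ => (Cert rels S Gen.a)) lc_a_rc_1_4 lc_a_rc_0_1 lc_a_rc_3_2 lc_a_rc_4_2 lc_a_rc_4_2 lc_a_rc_3_2 lc_a_rc_2_2 lc_a_rc_2_2 lc_a_rc_2_0 lc_a_rc_3_0 lc_a_rc_3_2 lc_a_rc_21_0 lc_a_rc_3_0 lc_a_rc_3_0 lc_a_rc_3_2 lc_a_rc_4_2 lc_a_rc_2_0 lc_a_rc_0_1 lc_a_rc_3_2 lc_a_rc_4_0 lc_a_rc_21_0 lc_a_rc_0_1 lc_a_rc_0_1 lc_a_rc_3_2 lc_a_rc_0_1 lc_a_rc_21_0 lc_a_rc_0_1 lc_a_rc_3_2 lc_a_rc_2_2 lc_a_rc_4_2 lc_a_rc_21_0 lc_a_rc_0_1 lc_a_rc_1_2 lc_a_rc_1_2 lc_a_rc_4_2 lc_a_rc_4_2 lc_a_rc_2_2 lc_a_rc_3_2 lc_a_rc_5_2 lc_a_rc_2_2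 lc_a_rc_5_0 lc_a_rc_21_0 lc_a_rc_2_2 lc_a_rc_0_1 lc_a_rc_3_2 lc_a_rc_4_2 lc_a_rc_4_2 lc_a_rc_3_2 lc_a_rc_5_2 lc_a_rc_1_2 lc_a_rc_1_0 lc_a_rc_0_1 lc_a_rc_21_0 lc_a_rc_4_2 lc_a_rc_4_2 lc_a_rc_5_2 lc_a_rc_0_1 lc_a_rc_0_1 lc_a_rc_1_4 lc_a_rc_4_2 lc_a_rc_5_2 lc_a_rc_2_2) (@D3.rec (fun _ => (Cert rels S Gen.a)) lc_a_rc_2_2 lc_a_rc_3_2 lc_a_rc_4_2 lc_a_rc_3_2 lc_a_rc_21_0 lc_a_rc_2_2 lc_a_rc_2_2 lc_a_rc_4_2 lc_a_rc_4_0 lc_a_Cert_tree lc_a_rc_3_2 lc_a_rc_3_2 lc_a_rc_21_0 lc_a_rc_5_2 lc_a_rc_3_2 lc_a_rc_3_2 lc_a_rc_21_0 lc_a_rc_5_2 lc_a_rc_1_2 lc_a_rc_3_0 lc_a_rc_3_0 lc_a_rc_0_1 lc_a_rc_2_0 lc_a_rc_3_2 lc_a_rc_2_2 lc_a_rc_4_2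 lc_a_rc_3_0 lc_a_rc_3_2 lc_a_rc_0_1 lc_a_rc_1_4 lc_a_rc_2_2 lc_a_rc_21_0 lc_a_rc_3_2 lc_a_rc_0_1 lc_a_rc_4_0 lc_a_rc_4_2 lc_a_rc_4_2 lc_a_rc_4_2 lc_a_rc_4_2 lc_a_rc_3_2 lc_a_rc_22_0 lc_a_rc_2_2 lc_a_rc_2_2 lc_a_rc_21_0 lc_a_rc_21_0 lc_a_rc_0_1 lc_a_rc_0_1 lc_a_rc_3_2 lc_a_rc_21_0 lc_a_rc_4_2 lc_a_rc_3_2 lc_a_rc_3_2 lc_a_rc_3_2 lc_a_rc_1_4 lc_a_rc_3_2 lc_a_rc_21_0 lc_a_rc_1_4 lc_a_rc_2_2 lc_a_rc_3_2 lc_a_rc_4_2 lc_a_rc_2_0 lc_a_rc_3_2) (@D3.rec (fun _ => (Cert rels S Gen.a)) lc_a_rc_2_0 lc_a_rc_2_0 lc_a_rc_3_2 lc_a_rc_4_2 lc_a_rc_3_0 lc_a_rc_2_0 lc_a_rc_2_2 lc_a_rc_2_2 lc_a_rc_3_0 lc_a_rc_2_0 lc_a_rc_3_2 lc_a_rc_21_0 lc_a_rc_4_2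 lc_a_Cert_tree lc_a_rc_4_2 lc_a_rc_1_4 lc_a_rc_3_2 lc_a_rc_2_0 lc_a_rc_2_2 lc_a_rc_0_1 lc_a_rc_3_2 lc_a_Cert_tree lc_a_rc_2_2 lc_a_rc_2_2 lc_a_rc_3_2 lc_a_rc_4_2 lc_a_rc_3_2 lc_a_rc_3_2 lc_a_rc_3_2 lc_a_rc_2_2 lc_a_rc_1_0 lc_a_rc_3_0 lc_a_rc_4_0 lc_a_rc_5_2 lc_a_rc_4_2 lc_a_rc_0_1 lc_a_rc_4_2 lc_a_rc_21_0 lc_a_rc_4_2 lc_a_rc_21_0 lc_a_rc_2_2 lc_a_Cert_tree lc_a_rc_0_1 lc_a_rc_21_0 lc_a_rc_0_1 lc_a_rc_3_2 lc_a_rc_2_2 lc_a_rc_2_2 lc_a_rc_3_0 lc_a_rc_0_1 lc_a_rc_4_2 lc_a_rc_21_0 lc_a_rc_3_2 lc_a_rc_3_2 lc_a_rc_4_2 lc_a_rc_5_2 lc_a_rc_2_2 lc_a_rc_1_4 lc_a_rc_21_0 lc_a_Cert_tree lc_a_rc_1_2 lc_a_rc_4_2) (@D3.rec (fun _ =>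 (Cert rels S Gen.a)) lc_a_rc_3_0 lc_a_rc_2_2 lc_a_rc_0_1 lc_a_rc_2_0 lc_a_rc_2_0 lc_a_rc_0_1 lc_a_rc_3_0 lc_a_rc_4_2 lc_a_rc_5_2 lc_a_Cert_tree lc_a_rc_3_2 lc_a_Cert_tree lc_a_rc_3_2 lc_a_rc_2_2 lc_a_rc_3_2 lc_a_rc_0_1 lc_a_rc_3_2 lc_a_rc_1_4 lc_a_rc_1_2 lc_a_rc_4_2 lc_a_rc_3_2 lc_a_rc_4_2 lc_a_Cert_tree lc_a_rc_2_2 lc_a_rc_0_1 lc_a_rc_3_2 lc_a_rc_3_0 lc_a_rc_3_0 lc_a_rc_2_2 lc_a_rc_1_2 lc_a_rc_4_2 lc_a_rc_3_2 lc_a_rc_5_2 lc_a_Cert_tree lc_a_rc_21_0 lc_a_Cert_tree lc_a_rc_3_2 lc_a_rc_21_0 lc_a_rc_3_2 lc_a_rc_1_0 lc_a_rc_5_2 lc_a_rc_2_0 lc_a_rc_3_2 lc_a_rc_2_2 lc_a_rc_21_0 lc_a_rc_4_2 lc_a_rc_3_0 lc_a_rc_1_4 lc_a_rc_1_0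 lc_a_rc_2_2 lc_a_rc_3_2 lc_a_rc_4_2 lc_a_rc_21_0 lc_a_rc_3_2 lc_a_rc_4_2 lc_a_rc_2_0 lc_a_rc_2_2 lc_a_rc_5_0 lc_a_rc_2_0 lc_a_rc_22_0 lc_a_rc_22_0 lc_a_rc_4_2) (@D3.rec (fun _ => (Cert rels S Gen.a)) lc_a_rc_22_0 lc_a_rc_4_2 lc_a_rc_2_0 lc_a_rc_2_0 lc_a_rc_0_1 lc_a_rc_5_2 lc_a_rc_3_2 lc_a_rc_5_0 lc_a_rc_2_2 lc_a_rc_5_2 lc_a_rc_0_1 lc_a_rc_21_0 lc_a_rc_1_4 lc_a_rc_3_2 lc_a_rc_0_1 lc_a_rc_2_0 lc_a_rc_1_0 lc_a_rc_3_2 lc_a_rc_4_2 lc_a_rc_1_0 lc_a_rc_2_2 lc_a_rc_4_2 lc_a_rc_2_2 lc_a_rc_4_0 lc_a_rc_21_0 lc_a_rc_21_0 lc_a_rc_3_0 lc_a_rc_3_2 lc_a_rc_3_0 lc_a_rc_3_2 lc_a_rc_4_2 lc_a_rc_5_2 lc_a_rc_3_2 lc_a_rc_4_2 lc_a_rc_3_0 lc_a_rc_4_2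 lc_a_rc_0_1 lc_a_rc_4_2 lc_a_rc_0_1 lc_a_rc_3_2 lc_a_rc_4_2 lc_a_rc_3_2 lc_a_rc_5_2 lc_a_rc_4_2 lc_a_rc_3_2 lc_a_rc_0_1 lc_a_rc_4_2 lc_a_rc_3_2 lc_a_rc_5_2 lc_a_rc_4_0 lc_a_rc_21_0 lc_a_rc_0_1 lc_a_rc_21_0 lc_a_rc_4_2 lc_a_rc_1_2 lc_a_rc_2_2 lc_a_rc_4_2 lc_a_rc_2_0 lc_a_rc_2_2 lc_a_rc_1_4 lc_a_rc_2_2 lc_a_rc_0_1) (@D3.rec (fun _ => (Cert rels S Gen.a)) lc_a_rc_3_0 lc_a_rc_0_1 lc_a_rc_3_0 lc_a_rc_3_0 lc_a_rc_3_2 lc_a_rc_4_2 lc_a_rc_2_2 lc_a_rc_21_0 lc_a_rc_3_2 lc_a_rc_0_1 lc_a_rc_22_0 lc_a_rc_1_4 lc_a_rc_3_0 lc_a_rc_3_0 lc_a_rc_0_1 lc_a_rc_0_1 lc_a_rc_4_2 lc_a_rc_4_2 lc_a_rc_5_0 lc_a_rc_4_2 lc_a_rc_21_0 lc_a_rc_2_2 lc_a_rc_5_0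 lc_a_rc_0_1 lc_a_rc_4_0 lc_a_rc_4_2 lc_a_rc_4_0 lc_a_rc_5_2 lc_a_rc_1_4 lc_a_rc_2_2 lc_a_rc_2_2 lc_a_rc_21_0 lc_a_rc_1_0 lc_a_rc_2_2 lc_a_rc_4_2 lc_a_rc_5_2 lc_a_rc_0_1 lc_a_rc_4_2 lc_a_rc_3_2 lc_a_rc_3_2 lc_a_rc_21_0 lc_a_rc_2_2 lc_a_rc_4_0 lc_a_rc_3_2 lc_a_rc_3_2 lc_a_rc_2_2 lc_a_rc_5_0 lc_a_rc_3_2 lc_a_rc_1_4 lc_a_rc_3_2 lc_a_rc_4_2 lc_a_rc_5_0 lc_a_rc_4_2 lc_a_rc_1_0 lc_a_rc_0_1 lc_a_rc_21_0 lc_a_rc_4_2 lc_a_rc_2_2 lc_a_rc_5_0 lc_a_rc_21_0 lc_a_rc_21_0 lc_a_rc_2_2) (@D3.rec (fun _ => (Cert rels S Gen.a)) lc_a_rc_2_2 lc_a_rc_21_0 lc_a_Cert_tree lc_a_rc_21_0 lc_a_rc_3_0 lc_a_rc_0_1 lc_a_rc_4_2 lc_a_rc_4_2 lc_a_rc_0_1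 lc_a_rc_3_2 lc_a_rc_2_2 lc_a_rc_2_2 lc_a_rc_22_0 lc_a_rc_3_2 lc_a_rc_2_0 lc_a_rc_3_2 lc_a_rc_4_2 lc_a_rc_2_2 lc_a_rc_3_2 lc_a_rc_3_2 lc_a_rc_21_0 lc_a_rc_21_0 lc_a_rc_2_2 lc_a_rc_3_2 lc_a_rc_4_2 lc_a_rc_2_0 lc_a_rc_21_0 lc_a_rc_4_2 lc_a_rc_3_2 lc_a_rc_4_2 lc_a_rc_5_0 lc_a_rc_3_2 lc_a_rc_21_0 lc_a_rc_4_2 lc_a_rc_5_2 lc_a_rc_2_0 lc_a_rc_2_0 lc_a_rc_1_0 lc_a_rc_3_2 lc_a_rc_4_2 lc_a_rc_3_0 lc_a_Cert_tree lc_a_rc_3_2 lc_a_rc_21_0 lc_a_rc_3_2 lc_a_rc_4_2 lc_a_rc_3_2 lc_a_rc_3_2 lc_a_rc_3_2 lc_a_rc_22_0 lc_a_rc_0_1 lc_a_Cert_tree lc_a_rc_3_2 lc_a_rc_4_2 lc_a_Cert_tree lc_a_rc_3_2 lc_a_rc_21_0 lc_a_rc_2_2 lc_a_rc_2_2 lc_a_rc_0_1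 lc_a_rc_2_2 lc_a_rc_3_2) (@D3.rec (fun _ => (Cert rels S Gen.a)) lc_a_rc_5_0 lc_a_rc_4_2 lc_a_rc_4_2 lc_a_rc_0_1 lc_a_rc_2_2 lc_a_rc_4_2 lc_a_rc_0_1 lc_a_rc_2_2 lc_a_rc_4_2 lc_a_rc_4_2 lc_a_rc_0_1 lc_a_rc_3_2 lc_a_rc_22_0 lc_a_rc_21_0 lc_a_rc_2_2 lc_a_rc_0_1 lc_a_rc_21_0 lc_a_rc_2_2 lc_a_rc_4_2 lc_a_rc_5_0 lc_a_rc_4_2 lc_a_rc_5_0 lc_a_rc_5_2 lc_a_rc_3_2 lc_a_rc_4_2 lc_a_rc_4_2 lc_a_rc_4_0 lc_a_rc_21_0 lc_a_rc_4_2 lc_a_rc_4_2 lc_a_rc_2_2 lc_a_rc_2_2 lc_a_rc_4_2 lc_a_rc_2_2 lc_a_rc_2_2 lc_a_rc_0_1 lc_a_rc_5_2 lc_a_rc_2_2 lc_a_rc_21_0 lc_a_rc_5_2 lc_a_rc_0_1 lc_a_rc_0_1 lc_a_rc_3_0 lc_a_rc_3_0 lc_a_rc_4_2 lc_a_rc_4_0 lc_a_rc_0_1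 lc_a_rc_2_2 lc_a_rc_3_2 lc_a_rc_0_1 lc_a_rc_1_0 lc_a_rc_4_2 lc_a_rc_0_1 lc_a_rc_3_2 lc_a_rc_21_0 lc_a_rc_2_0 lc_a_rc_4_2 lc_a_rc_2_2 lc_a_Cert_tree lc_a_rc_2_2 lc_a_Cert_tree lc_a_rc_2_2) (@D3.rec (fun _ => (Cert rels S Gen.a)) lc_a_rc_0_1 lc_a_rc_21_0 lc_a_rc_4_2 lc_a_rc_1_2 lc_a_rc_0_1 lc_a_rc_0_1 lc_a_rc_0_1 lc_a_rc_2_2 lc_a_rc_5_2 lc_a_rc_21_0 lc_a_rc_0_1 lc_a_rc_2_0 lc_a_rc_0_1 lc_a_rc_4_2 lc_a_rc_0_1 lc_a_rc_21_0 lc_a_rc_0_1 lc_a_rc_3_2 lc_a_rc_4_2 lc_a_rc_4_2 lc_a_rc_3_2 lc_a_rc_0_1 lc_a_rc_21_0 lc_a_rc_0_1 lc_a_rc_3_2 lc_a_rc_4_2 lc_a_rc_4_2 lc_a_rc_3_2 lc_a_rc_0_1 lc_a_rc_21_0 lc_a_rc_0_1 lc_a_rc_22_0 lc_a_rc_4_2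 lc_a_rc_5_0 lc_a_rc_3_2 lc_a_rc_1_4 lc_a_rc_21_0 lc_a_rc_0_1 lc_a_rc_3_2 lc_a_rc_4_2 lc_a_rc_4_2 lc_a_rc_21_0 lc_a_rc_4_2 lc_a_rc_3_2 lc_a_rc_5_2 lc_a_rc_4_2 lc_a_rc_1_2 lc_a_rc_2_2 lc_a_rc_2_2 lc_a_rc_0_1 lc_a_rc_1_2 lc_a_rc_4_2 lc_a_rc_4_2 lc_a_rc_3_2 lc_a_rc_21_0 lc_a_rc_0_1 lc_a_rc_0_1 lc_a_rc_2_0 lc_a_rc_4_2 lc_a_rc_4_2 lc_a_rc_0_1 lc_a_rc_5_2) (@D3.rec (fun _ => (Cert rels S Gen.a)) lc_a_rc_0_1 lc_a_rc_3_2 lc_a_rc_21_0 lc_a_rc_4_2 lc_a_rc_4_0 lc_a_rc_3_2 lc_a_rc_4_2 lc_a_rc_3_2 lc_a_rc_4_2 lc_a_rc_3_2 lc_a_rc_5_0 lc_a_rc_3_0 lc_a_rc_4_2 lc_a_rc_0_1 lc_a_rc_4_2 lc_a_rc_4_0 lc_a_rc_2_0 lc_a_rc_2_2 lc_a_rc_3_2 lc_a_rc_3_2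 lc_a_Cert_tree lc_a_rc_3_2 lc_a_rc_3_2 lc_a_rc_5_0 lc_a_rc_0_1 lc_a_rc_3_2 lc_a_Cert_tree lc_a_rc_21_0 lc_a_rc_4_2 lc_a_rc_4_2 lc_a_rc_4_2 lc_a_rc_0_1 lc_a_rc_3_0 lc_a_rc_2_2 lc_a_rc_4_2 lc_a_rc_4_2 lc_a_rc_2_2 lc_a_rc_5_0 lc_a_Cert_tree lc_a_rc_3_2 lc_a_rc_4_2 lc_a_rc_3_2 lc_a_rc_2_2 lc_a_rc_2_2 lc_a_rc_21_0 lc_a_rc_3_2 lc_a_rc_4_2 lc_a_rc_0_1 lc_a_rc_5_2 lc_a_rc_2_2 lc_a_rc_4_2 lc_a_rc_3_2 lc_a_rc_0_1 lc_a_rc_5_0 lc_a_rc_1_4 lc_a_rc_0_1 lc_a_rc_3_2 lc_a_rc_21_0 lc_a_rc_2_2 lc_a_rc_3_2 lc_a_rc_1_0 lc_a_rc_21_0) (@D3.rec (fun _ => (Cert rels S Gen.a)) lc_a_rc_3_0 lc_a_rc_5_0 lc_a_rc_1_4 lc_a_rc_4_2 lc_a_rc_1_4 lc_a_rc_21_0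 lc_a_rc_4_2 lc_a_rc_3_2 lc_a_rc_21_0 lc_a_rc_4_2 lc_a_rc_3_2 lc_a_rc_3_2 lc_a_rc_4_2 lc_a_rc_3_2 lc_a_rc_21_0 lc_a_rc_2_2 lc_a_rc_4_2 lc_a_rc_1_0 lc_a_rc_21_0 lc_a_rc_3_2 lc_a_rc_4_0 lc_a_rc_3_2 lc_a_rc_0_1 lc_a_rc_3_2 lc_a_rc_5_2 lc_a_rc_2_0 lc_a_rc_5_0 lc_a_rc_21_0 lc_a_rc_3_2 lc_a_rc_2_2 lc_a_rc_3_0 lc_a_rc_0_1 lc_a_rc_2_2 lc_a_rc_5_2 lc_a_rc_21_0 lc_a_rc_21_0 lc_a_rc_3_2 lc_a_rc_4_2 lc_a_rc_4_2 lc_a_rc_2_2 lc_a_rc_3_2 lc_a_Cert_tree lc_a_rc_3_2 lc_a_rc_2_2 lc_a_rc_4_2 lc_a_rc_0_1 lc_a_rc_4_2 lc_a_rc_5_0 lc_a_rc_4_2 lc_a_rc_3_0 lc_a_rc_5_0 lc_a_rc_4_2 lc_a_rc_3_2 lc_a_rc_3_2 lc_a_rc_5_2 lc_a_rc_21_0 lc_a_rc_2_2 lc_a_Cert_tree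 lc_a_rc_1_0 lc_a_rc_4_0 lc_a_rc_3_2 lc_a_rc_1_2) (@D3.rec (fun _ => (Cert rels S Gen.a)) lc_a_rc_2_0 lc_a_rc_3_0 lc_a_rc_4_0 lc_a_rc_2_2 lc_a_rc_2_2 lc_a_rc_5_2 lc_a_rc_21_0 lc_a_rc_4_2 lc_a_rc_4_2 lc_a_rc_22_0 lc_a_rc_21_0 lc_a_rc_3_2 lc_a_rc_4_2 lc_a_rc_2_2 lc_a_rc_3_0 lc_a_rc_3_0 lc_a_rc_0_1 lc_a_rc_3_0 lc_a_rc_3_2 lc_a_rc_21_0 lc_a_rc_0_1 lc_a_rc_3_2 lc_a_rc_4_2 lc_a_rc_4_2 lc_a_rc_2_2 lc_a_rc_3_2 lc_a_rc_5_2 lc_a_rc_2_2 lc_a_rc_21_0 lc_a_rc_0_1 lc_a_rc_0_1 lc_a_rc_5_0 lc_a_rc_3_2 lc_a_rc_5_0 lc_a_Cert_tree lc_a_rc_4_2 lc_a_rc_3_2 lc_a_rc_4_2 lc_a_rc_3_2 lc_a_rc_0_1 lc_a_rc_22_0 lc_a_rc_4_2 lc_a_rc_2_2 lc_a_rc_4_0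 lc_a_rc_2_0 lc_a_Cert_tree lc_a_rc_4_2 lc_a_rc_3_2 lc_a_rc_4_2 lc_a_rc_2_2 lc_a_rc_0_1 lc_a_rc_4_2 lc_a_rc_5_2 lc_a_Cert_tree lc_a_rc_21_0 lc_a_rc_21_0 lc_a_rc_3_2 lc_a_rc_3_2 lc_a_rc_0_1 lc_a_rc_22_0 lc_a_rc_4_2 lc_a_rc_2_0) (@D3.rec (fun _ => (Cert rels S Gen.a)) lc_a_Cert_tree lc_a_rc_21_0 lc_a_rc_5_0 lc_a_rc_2_2 lc_a_rc_3_2 lc_a_rc_5_2 lc_a_rc_0_1 lc_a_rc_3_2 lc_a_rc_4_2 lc_a_rc_3_2 lc_a_rc_4_2 lc_a_rc_2_2 lc_a_rc_4_2 lc_a_rc_0_1 lc_a_rc_4_2 lc_a_rc_3_0 lc_a_rc_2_0 lc_a_rc_0_1 lc_a_rc_2_2 lc_a_rc_4_2 lc_a_rc_3_2 lc_a_rc_2_2 lc_a_rc_0_1 lc_a_rc_0_1 lc_a_rc_4_2 lc_a_rc_2_2 lc_a_rc_21_0 lc_a_rc_0_1 lc_a_rc_4_2 lc_a_rc_4_0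 lc_a_rc_1_4 lc_a_rc_0_1 lc_a_Cert_tree lc_a_rc_3_2 lc_a_rc_2_2 lc_a_rc_3_2 lc_a_rc_4_0 lc_a_rc_4_2 lc_a_rc_0_1 lc_a_rc_4_2 lc_a_rc_2_2 lc_a_rc_2_0 lc_a_rc_2_2 lc_a_rc_0_1 lc_a_rc_0_1 lc_a_rc_3_2 lc_a_rc_4_2 lc_a_rc_3_2 lc_a_rc_4_2 lc_a_rc_21_0 lc_a_rc_3_2 lc_a_rc_5_2 lc_a_rc_1_4 lc_a_rc_3_2 lc_a_rc_4_2 lc_a_rc_2_2 lc_a_rc_4_2 lc_a_rc_4_0 lc_a_rc_3_2 lc_a_rc_5_2 lc_a_rc_2_2 lc_a_rc_21_0) (@D3.rec (fun _ => (Cert rels S Gen.a)) lc_a_rc_4_2 lc_a_rc_1_2 lc_a_rc_5_0 lc_a_rc_4_0 lc_a_rc_3_0 lc_a_rc_0_1 lc_a_rc_5_0 lc_a_rc_3_2 lc_a_rc_3_2 lc_a_rc_4_2 lc_a_rc_21_0 lc_a_rc_4_2 lc_a_rc_3_2 lc_a_rc_3_2 lc_a_rc_3_2 lc_a_rc_4_2 lc_a_rc_21_0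 lc_a_rc_3_2 lc_a_rc_4_2 lc_a_rc_1_4 lc_a_rc_3_2 lc_a_rc_3_2 lc_a_rc_3_2 lc_a_rc_5_2 lc_a_rc_2_2 lc_a_rc_21_0 lc_a_rc_3_2 lc_a_rc_2_2 lc_a_rc_3_2 lc_a_rc_2_2 lc_a_rc_0_1 lc_a_rc_1_4 lc_a_rc_4_2 lc_a_rc_1_2 lc_a_rc_21_0 lc_a_rc_3_0 lc_a_rc_3_2 lc_a_rc_3_0 lc_a_rc_3_0 lc_a_rc_5_2 lc_a_rc_4_2 lc_a_rc_2_0 lc_a_rc_3_2 lc_a_rc_5_2 lc_a_rc_4_2 lc_a_rc_4_0 lc_a_rc_3_2 lc_a_rc_4_2 lc_a_rc_2_2 lc_a_rc_0_1 lc_a_rc_4_2 lc_a_rc_3_2 lc_a_rc_2_2 lc_a_rc_4_2 lc_a_rc_22_0 lc_a_rc_4_2 lc_a_rc_4_2 lc_a_rc_0_1 lc_a_rc_3_2 lc_a_rc_0_1 lc_a_rc_2_0 lc_a_rc_21_0) (@D3.rec (fun _ => (Cert rels S Gen.a)) lc_a_rc_21_0 lc_a_rc_2_2 lc_a_rc_2_2 lc_a_rc_2_2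 lc_a_rc_21_0 lc_a_rc_21_0 lc_a_rc_5_2 lc_a_rc_5_2 lc_a_rc_3_2 lc_a_rc_4_2 lc_a_rc_1_4 lc_a_rc_3_2 lc_a_rc_0_1 lc_a_rc_2_2 lc_a_rc_4_2 lc_a_rc_4_2 lc_a_rc_2_2 lc_a_rc_4_0 lc_a_rc_2_0 lc_a_rc_21_0 lc_a_rc_0_1 lc_a_rc_21_0 lc_a_rc_4_2 lc_a_rc_3_2 lc_a_rc_4_2 lc_a_rc_21_0 lc_a_rc_1_4 lc_a_rc_1_2 lc_a_rc_0_1 lc_a_rc_3_2 lc_a_rc_4_2 lc_a_rc_1_4 lc_a_rc_5_2 lc_a_rc_2_2 lc_a_rc_21_0 lc_a_rc_3_2 lc_a_rc_4_2 lc_a_Cert_tree lc_a_rc_5_2 lc_a_rc_2_2 lc_a_rc_21_0 lc_a_rc_0_1 lc_a_Cert_tree lc_a_rc_0_1 lc_a_rc_21_0 lc_a_rc_0_1 lc_a_rc_2_2 lc_a_rc_1_0 lc_a_rc_1_4 lc_a_rc_4_2 lc_a_rc_2_2 lc_a_rc_3_2 lc_a_rc_2_2 lc_a_rc_21_0 lc_a_rc_0_1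 lc_a_rc_3_2 lc_a_rc_4_2 lc_a_rc_4_2 lc_a_rc_5_0 lc_a_rc_4_2 lc_a_rc_2_2 lc_a_rc_2_2) (@D3.rec (fun _ => (Cert rels S Gen.a)) lc_a_rc_2_2 lc_a_rc_3_2 lc_a_rc_3_2 lc_a_rc_0_1 lc_a_rc_21_0 lc_a_rc_4_2 lc_a_rc_4_2 lc_a_rc_3_2 lc_a_rc_21_0 lc_a_rc_3_2 lc_a_rc_0_1 lc_a_rc_3_2 lc_a_rc_3_0 lc_a_rc_4_2 lc_a_rc_3_2 lc_a_rc_21_0 lc_a_rc_0_1 lc_a_rc_0_1 lc_a_rc_2_2 lc_a_rc_21_0 lc_a_rc_4_2 lc_a_rc_3_2 lc_a_rc_4_2 lc_a_rc_0_1 lc_a_rc_1_2 lc_a_rc_4_2 lc_a_rc_3_2 lc_a_rc_3_0 lc_a_rc_3_0 lc_a_rc_2_2 lc_a_rc_4_2 lc_a_rc_5_0 lc_a_rc_1_4 lc_a_rc_5_2 lc_a_rc_3_2 lc_a_rc_0_1 lc_a_rc_3_2 lc_a_rc_4_2 lc_a_Cert_tree lc_a_rc_2_0 lc_a_rc_21_0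 lc_a_rc_4_0 lc_a_rc_22_0 lc_a_rc_21_0 lc_a_rc_21_0 lc_a_Cert_tree lc_a_rc_4_2 lc_a_rc_4_2 lc_a_rc_5_0 lc_a_rc_3_2 lc_a_rc_4_2 lc_a_rc_4_2 lc_a_rc_0_1 lc_a_rc_5_2 lc_a_rc_2_2 lc_a_rc_4_2 lc_a_rc_4_2 lc_a_rc_4_2 lc_a_rc_5_2 lc_a_rc_2_2 lc_a_rc_4_2 lc_a_rc_4_2) (@D3.rec (fun _ => (Cert rels S Gen.a)) lc_a_rc_2_0 lc_a_rc_5_2 lc_a_rc_5_0 lc_a_rc_2_2 lc_a_rc_4_2 lc_a_rc_21_0 lc_a_rc_3_2 lc_a_rc_21_0 lc_a_rc_2_2 lc_a_rc_4_2 lc_a_rc_1_2 lc_a_rc_3_0 lc_a_rc_3_0 lc_a_rc_21_0 lc_a_rc_1_2 lc_a_rc_0_1 lc_a_rc_4_2 lc_a_rc_5_0 lc_a_rc_2_0 lc_a_rc_3_2 lc_a_rc_5_2 lc_a_rc_1_4 lc_a_rc_2_2 lc_a_rc_1_2 lc_a_rc_2_2 lc_a_rc_3_2 lc_a_rc_21_0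 lc_a_rc_21_0 lc_a_rc_4_2 lc_a_rc_5_2 lc_a_rc_2_2 lc_a_rc_0_1 lc_a_rc_4_2 lc_a_rc_21_0 lc_a_rc_2_2 lc_a_rc_3_2 lc_a_rc_5_2 lc_a_rc_2_2 lc_a_rc_2_2 lc_a_rc_3_0 lc_a_rc_21_0 lc_a_rc_0_1 lc_a_rc_21_0 lc_a_rc_4_2 lc_a_rc_4_2 lc_a_rc_0_1 lc_a_rc_3_2 lc_a_rc_0_1 lc_a_rc_0_1 lc_a_rc_1_4 lc_a_rc_3_2 lc_a_rc_5_2 lc_a_rc_4_2 lc_a_rc_4_2 lc_a_rc_3_2 lc_a_rc_4_2 lc_a_rc_3_2 lc_a_rc_4_2 lc_a_rc_4_2 lc_a_rc_1_2 lc_a_rc_4_0 lc_a_rc_4_2) (@D3.rec (fun _ => (Cert rels S Gen.a)) lc_a_rc_3_2 lc_a_Cert_tree lc_a_rc_3_2 lc_a_rc_4_0 lc_a_rc_3_2 lc_a_rc_4_2 lc_a_rc_3_2 lc_a_rc_3_2 lc_a_rc_2_2 lc_a_rc_4_0 lc_a_rc_2_2 lc_a_rc_5_0 lc_a_rc_3_2 lc_a_Cert_tree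 lc_a_rc_21_0 lc_a_rc_3_2 lc_a_rc_0_1 lc_a_rc_3_2 lc_a_rc_5_0 lc_a_rc_4_2 lc_a_rc_2_2 lc_a_rc_3_2 lc_a_rc_5_2 lc_a_rc_2_2 lc_a_rc_5_0 lc_a_rc_2_2 lc_a_rc_21_0 lc_a_rc_2_2 lc_a_rc_4_2 lc_a_rc_4_2 lc_a_rc_0_1 lc_a_rc_3_2 lc_a_rc_21_0 lc_a_rc_21_0 lc_a_Cert_tree lc_a_rc_3_2 lc_a_rc_0_1 lc_a_rc_3_2 lc_a_rc_5_0 lc_a_rc_4_2 lc_a_rc_4_2 lc_a_rc_4_0 lc_a_rc_5_2 lc_a_rc_5_2 lc_a_rc_1_2 lc_a_rc_2_0 lc_a_rc_4_2 lc_a_rc_0_1 lc_a_rc_3_2 lc_a_rc_4_0 lc_a_rc_3_2 lc_a_rc_5_2 lc_a_rc_1_4 lc_a_rc_1_0 lc_a_Cert_tree lc_a_rc_2_2 lc_a_rc_4_2 lc_a_rc_3_2 lc_a_Cert_tree lc_a_rc_3_2 lc_a_rc_21_0 lc_a_rc_0_1) (@D3.rec (fun _ => (Cert rels S Gen.a))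 lc_a_rc_3_0 lc_a_rc_21_0 lc_a_rc_22_0 lc_a_Cert_tree lc_a_rc_21_0 lc_a_rc_21_0 lc_a_rc_22_0 lc_a_rc_3_0 lc_a_rc_4_2 lc_a_rc_3_2 lc_a_rc_1_0 lc_a_rc_5_2 lc_a_rc_5_2 lc_a_rc_4_2 lc_a_rc_5_2 lc_a_rc_3_2 lc_a_rc_22_0 lc_a_rc_4_2 lc_a_rc_0_1 lc_a_rc_21_0 lc_a_rc_0_1 lc_a_rc_2_2 lc_a_rc_1_4 lc_a_rc_21_0 lc_a_rc_3_2 lc_a_rc_2_2 lc_a_rc_21_0 lc_a_rc_4_2 lc_a_rc_3_0 lc_a_rc_3_2 lc_a_rc_0_1 lc_a_rc_5_0 lc_a_rc_0_1 lc_a_rc_0_1 lc_a_rc_4_2 lc_a_rc_21_0 lc_a_rc_5_2 lc_a_rc_21_0 lc_a_rc_4_2 lc_a_rc_0_1 lc_a_rc_3_0 lc_a_rc_0_1 lc_a_rc_1_2 lc_a_rc_4_2 lc_a_rc_3_2 lc_a_rc_0_1 lc_a_rc_0_1 lc_a_rc_4_0 lc_a_rc_21_0 lc_a_rc_0_1 lc_a_rc_1_4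 lc_a_rc_2_2 lc_a_rc_3_2 lc_a_rc_4_2 lc_a_rc_1_4 lc_a_rc_4_2 lc_a_rc_0_1 lc_a_rc_2_0 lc_a_rc_1_4 lc_a_rc_0_1 lc_a_rc_3_2 lc_a_rc_5_2) (@D3.rec (fun _ => (Cert rels S Gen.a)) lc_a_Cert_tree lc_a_rc_5_0 lc_a_rc_21_0 lc_a_rc_3_2 lc_a_rc_2_2 lc_a_rc_3_2 lc_a_rc_21_0 lc_a_rc_3_2 lc_a_rc_5_0 lc_a_rc_21_0 lc_a_rc_2_2 lc_a_rc_0_1 lc_a_rc_2_2 lc_a_rc_1_2 lc_a_rc_4_2 lc_a_rc_5_0 lc_a_rc_0_1 lc_a_rc_3_2 lc_a_rc_3_2 lc_a_rc_4_0 lc_a_rc_1_4 lc_a_rc_3_0 lc_a_rc_2_0 lc_a_rc_2_2 lc_a_rc_2_2 lc_a_rc_4_2 lc_a_rc_21_0 lc_a_rc_4_2 lc_a_rc_3_0 lc_a_rc_3_0 lc_a_rc_4_2 lc_a_rc_0_1 lc_a_rc_1_4 lc_a_rc_4_2 lc_a_rc_21_0 lc_a_rc_4_2 lc_a_rc_4_2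 lc_a_rc_5_2 lc_a_rc_4_0 lc_a_rc_4_2 lc_a_rc_4_2 lc_a_rc_5_2 lc_a_rc_5_0 lc_a_rc_3_0 lc_a_rc_2_2 lc_a_rc_4_2 lc_a_rc_0_1 lc_a_rc_4_2 lc_a_rc_4_2 lc_a_rc_5_2 lc_a_rc_3_2 lc_a_Cert_tree lc_a_rc_4_2 lc_a_rc_2_2 lc_a_rc_2_2 lc_a_rc_5_2 lc_a_rc_3_2 lc_a_rc_2_2 lc_a_rc_4_0 lc_a_rc_5_2 lc_a_Cert_tree lc_a_rc_4_2) (@D3.rec (fun _ => (Cert rels S Gen.a)) lc_a_rc_21_0 lc_a_rc_4_2 lc_a_rc_5_0 lc_a_rc_0_1 lc_a_rc_21_0 lc_a_rc_2_2 lc_a_rc_4_2 lc_a_rc_3_2 lc_a_rc_0_1 lc_a_rc_4_2 lc_a_rc_2_2 lc_a_rc_3_2 lc_a_rc_4_2 lc_a_rc_1_4 lc_a_rc_2_2 lc_a_rc_2_2 lc_a_rc_3_2 lc_a_rc_4_2 lc_a_rc_21_0 lc_a_rc_1_0 lc_a_rc_4_0 lc_a_rc_4_2 lc_a_rc_21_0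 lc_a_rc_3_2 lc_a_rc_2_2 lc_a_rc_21_0 lc_a_rc_3_2 lc_a_rc_0_1 lc_a_rc_5_2 lc_a_rc_4_0 lc_a_rc_0_1 lc_a_rc_4_2 lc_a_rc_3_2 lc_a_rc_5_0 lc_a_rc_21_0 lc_a_rc_3_2 lc_a_rc_4_2 lc_a_rc_5_0 lc_a_rc_4_2 lc_a_rc_2_2 lc_a_rc_4_2 lc_a_rc_3_2 lc_a_rc_2_2 lc_a_rc_4_2 lc_a_rc_2_2 lc_a_rc_4_2 lc_a_rc_2_2 lc_a_rc_4_2 lc_a_rc_21_0 lc_a_rc_2_2 lc_a_rc_0_1 lc_a_rc_3_2 lc_a_rc_4_2 lc_a_rc_3_2 lc_a_rc_0_1 lc_a_rc_4_2 lc_a_rc_5_2 lc_a_rc_3_0 lc_a_rc_3_2 lc_a_rc_0_1 lc_a_rc_0_1 lc_a_rc_2_2) (@D3.rec (fun _ => (Cert rels S Gen.a)) lc_a_rc_3_2 lc_a_rc_5_2 lc_a_rc_4_2 lc_a_rc_4_2 lc_a_rc_3_2 lc_a_rc_2_2 lc_a_rc_21_0 lc_a_rc_4_0 lc_a_rc_3_2 lc_a_rc_5_2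 lc_a_rc_2_2 lc_a_rc_21_0 lc_a_rc_5_2 lc_a_rc_4_2 lc_a_rc_1_4 lc_a_Cert_tree lc_a_rc_4_2 lc_a_rc_0_1 lc_a_rc_0_1 lc_a_rc_21_0 lc_a_rc_4_0 lc_a_rc_2_0 lc_a_rc_3_2 lc_a_rc_21_0 lc_a_rc_4_2 lc_a_rc_2_2 lc_a_rc_4_2 lc_a_rc_5_2 lc_a_rc_2_2 lc_a_rc_4_2 lc_a_rc_3_2 lc_a_rc_3_0 lc_a_rc_1_4 lc_a_rc_1_2 lc_a_rc_4_2 lc_a_rc_21_0 lc_a_rc_4_0 lc_a_rc_2_2 lc_a_rc_4_2 lc_a_rc_2_0 lc_a_rc_4_2 lc_a_rc_4_2 lc_a_rc_3_2 lc_a_rc_4_2 lc_a_rc_3_2 lc_a_rc_5_2 lc_a_Cert_tree lc_a_rc_3_2 lc_a_rc_3_2 lc_a_rc_0_1 lc_a_rc_4_2 lc_a_rc_4_2 lc_a_rc_4_2 lc_a_rc_2_2 lc_a_rc_21_0 lc_a_rc_4_2 lc_a_rc_1_0 lc_a_rc_1_0 lc_a_rc_4_2 lc_a_rc_5_2 lc_a_rc_0_1 lc_a_rc_3_2)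 (@D3.rec (fun _ => (Cert rels S Gen.a)) lc_a_rc_4_2 lc_a_rc_0_1 lc_a_rc_2_2 lc_a_rc_2_2 lc_a_rc_2_0 lc_a_rc_22_0 lc_a_rc_4_2 lc_a_rc_21_0 lc_a_rc_1_0 lc_a_rc_2_2 lc_a_rc_3_2 lc_a_rc_4_2 lc_a_rc_3_2 lc_a_rc_4_2 lc_a_rc_21_0 lc_a_Cert_tree lc_a_rc_1_2 lc_a_rc_3_2 lc_a_rc_3_2 lc_a_rc_3_2 lc_a_rc_4_2 lc_a_rc_4_2 lc_a_rc_1_0 lc_a_rc_0_1 lc_a_rc_4_0 lc_a_rc_4_2 lc_a_rc_5_2 lc_a_rc_4_0 lc_a_rc_4_2 lc_a_rc_1_4 lc_a_rc_3_2 lc_a_rc_0_1 lc_a_rc_3_0 lc_a_rc_1_2 lc_a_rc_3_0 lc_a_rc_3_2 lc_a_rc_4_2 lc_a_rc_3_0 lc_a_rc_3_2 lc_a_rc_4_2 lc_a_rc_5_2 lc_a_rc_4_2 lc_a_rc_1_2 lc_a_rc_21_0 lc_a_rc_0_1 lc_a_rc_21_0 lc_a_rc_0_1 lc_a_rc_4_2 lc_a_rc_21_0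 lc_a_rc_21_0 lc_a_rc_2_0 lc_a_rc_1_4 lc_a_rc_2_2 lc_a_rc_0_1 lc_a_rc_4_2 lc_a_rc_21_0 lc_a_rc_2_2 lc_a_rc_4_2 lc_a_rc_21_0 lc_a_rc_21_0 lc_a_rc_21_0 lc_a_rc_4_2) (@D3.rec (fun _ => (Cert rels S Gen.a)) lc_a_rc_0_1 lc_a_rc_5_2 lc_a_rc_5_2 lc_a_rc_0_1 lc_a_rc_22_0 lc_a_rc_1_2 lc_a_rc_4_2 lc_a_Cert_tree lc_a_rc_0_1 lc_a_rc_4_0 lc_a_rc_4_2 lc_a_rc_1_2 lc_a_rc_5_2 lc_a_rc_5_2 lc_a_rc_0_1 lc_a_rc_2_2 lc_a_rc_4_2 lc_a_rc_5_0 lc_a_rc_3_2 lc_a_rc_5_2 lc_a_rc_4_2 lc_a_rc_0_1 lc_a_rc_2_2 lc_a_rc_4_2 lc_a_rc_5_2 lc_a_rc_3_2 lc_a_rc_0_1 lc_a_rc_21_0 lc_a_rc_3_2 lc_a_rc_3_2 lc_a_rc_0_1 lc_a_rc_1_4 lc_a_rc_1_4 lc_a_rc_4_2 lc_a_rc_21_0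 lc_a_rc_2_2 lc_a_rc_4_0 lc_a_rc_21_0 lc_a_rc_5_0 lc_a_rc_4_2 lc_a_rc_2_2 lc_a_rc_2_2 lc_a_rc_0_1 lc_a_rc_3_2 lc_a_rc_2_2 lc_a_rc_2_0 lc_a_rc_2_0 lc_a_rc_0_1 lc_a_rc_21_0 lc_a_rc_4_2 lc_a_rc_4_2 lc_a_rc_2_2 lc_a_rc_21_0 lc_a_rc_2_2 lc_a_rc_0_1 lc_a_rc_3_2 lc_a_rc_4_2 lc_a_rc_4_2 lc_a_rc_21_0 lc_a_rc_2_2 lc_a_rc_21_0 lc_a_rc_4_2) (@D3.rec (fun _ => (Cert rels S Gen.a)) lc_a_rc_21_0 lc_a_rc_3_2 lc_a_rc_3_2 lc_a_rc_21_0 lc_a_rc_0_1 lc_a_rc_2_2 lc_a_rc_3_0 lc_a_rc_3_2 lc_a_rc_4_2 lc_a_Cert_tree lc_a_Cert_tree lc_a_rc_4_2 lc_a_rc_0_1 lc_a_rc_3_2 lc_a_Cert_tree lc_a_Cert_tree lc_a_rc_4_2 lc_a_rc_4_2 lc_a_rc_3_2 lc_a_rc_4_2 lc_a_rc_4_2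 lc_a_rc_5_2 lc_a_rc_0_1 lc_a_rc_3_2 lc_a_rc_4_2 lc_a_rc_2_0 lc_a_rc_3_0 lc_a_rc_2_0 lc_a_rc_3_2 lc_a_rc_1_4 lc_a_rc_5_2 lc_a_rc_0_1 lc_a_rc_3_2 lc_a_rc_4_0 lc_a_rc_3_2 lc_a_rc_0_1 lc_a_rc_1_0 lc_a_rc_1_4 lc_a_rc_3_2 lc_a_rc_2_2 lc_a_rc_2_2 lc_a_rc_3_2 lc_a_rc_2_2 lc_a_rc_2_2 lc_a_rc_4_2 lc_a_rc_3_2 lc_a_rc_2_2 lc_a_rc_21_0 lc_a_rc_0_1 lc_a_rc_0_1 lc_a_rc_2_2 lc_a_rc_21_0 lc_a_rc_0_1 lc_a_rc_3_2 lc_a_rc_4_2 lc_a_rc_2_2 lc_a_rc_3_2 lc_a_rc_5_2 lc_a_rc_1_4 lc_a_rc_3_2 lc_a_rc_4_2 lc_a_rc_3_2) (@D3.rec (fun _ => (Cert rels S Gen.a)) lc_a_rc_21_0 lc_a_rc_2_2 lc_a_rc_4_2 lc_a_rc_0_1 lc_a_rc_5_0 lc_a_rc_3_2 lc_a_rc_4_2 lc_a_rc_3_2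 lc_a_rc_0_1 lc_a_rc_2_2 lc_a_rc_4_2 lc_a_rc_4_0 lc_a_rc_3_2 lc_a_rc_21_0 lc_a_rc_21_0 lc_a_rc_4_2 lc_a_Cert_tree lc_a_rc_4_2 lc_a_rc_2_0 lc_a_rc_0_1 lc_a_rc_3_2 lc_a_rc_5_2 lc_a_rc_21_0 lc_a_rc_3_2 lc_a_rc_3_0 lc_a_rc_21_0 lc_a_rc_3_2 lc_a_rc_2_2 lc_a_rc_5_2 lc_a_rc_21_0 lc_a_rc_3_2 lc_a_rc_4_2 lc_a_rc_4_0 lc_a_rc_3_2 lc_a_rc_3_0 lc_a_rc_4_2 lc_a_rc_1_4 lc_a_rc_3_2 lc_a_rc_4_2 lc_a_rc_3_2 lc_a_rc_21_0 lc_a_rc_5_2 lc_a_rc_3_2 lc_a_rc_4_0 lc_a_rc_2_2 lc_a_rc_22_0 lc_a_rc_3_0 lc_a_rc_3_0 lc_a_rc_22_0 lc_a_Cert_tree lc_a_rc_21_0 lc_a_rc_0_1 lc_a_rc_21_0 lc_a_rc_1_4 lc_a_rc_22_0 lc_a_rc_4_2 lc_a_rc_2_2 lc_a_rc_1_4 lc_a_rc_3_2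 lc_a_rc_3_0 lc_a_rc_3_0 lc_a_rc_5_2) (@D3.rec (fun _ => (Cert rels S Gen.a)) lc_a_rc_5_0 lc_a_rc_2_2 lc_a_rc_5_2 lc_a_rc_2_2 lc_a_rc_4_0 lc_a_rc_1_0 lc_a_rc_2_0 lc_a_rc_4_2 lc_a_rc_21_0 lc_a_rc_3_2 lc_a_rc_3_2 lc_a_rc_21_0 lc_a_rc_2_2 lc_a_rc_21_0 lc_a_rc_4_2 lc_a_rc_21_0 lc_a_rc_3_2 lc_a_rc_4_2 lc_a_rc_3_2 lc_a_rc_4_2 lc_a_rc_1_2 lc_a_rc_4_2 lc_a_rc_2_2 lc_a_rc_0_1 lc_a_rc_3_2 lc_a_rc_2_0 lc_a_rc_3_2 lc_a_rc_0_1 lc_a_rc_3_2 lc_a_rc_5_2 lc_a_rc_4_2 lc_a_rc_1_4 lc_a_rc_0_1 lc_a_rc_2_2 lc_a_rc_3_2 lc_a_rc_2_0 lc_a_rc_2_0 lc_a_rc_4_2 lc_a_rc_2_2 lc_a_rc_4_2 lc_a_rc_4_2 lc_a_rc_0_1 lc_a_rc_21_0 lc_a_rc_2_2 lc_a_rc_4_2 lc_a_rc_3_0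 lc_a_rc_1_2 lc_a_rc_2_2 lc_a_rc_4_2 lc_a_rc_2_2 lc_a_rc_3_2 lc_a_rc_4_2 lc_a_rc_2_0 lc_a_rc_0_1 lc_a_rc_0_1 lc_a_rc_21_0 lc_a_rc_4_2 lc_a_rc_0_1 lc_a_rc_2_2 lc_a_rc_3_0 lc_a_rc_22_0 lc_a_rc_0_1) (@D3.rec (fun _ => (Cert rels S Gen.a)) lc_a_rc_2_2 lc_a_rc_2_0 lc_a_rc_0_1 lc_a_rc_3_2 lc_a_rc_5_2 lc_a_rc_0_1 lc_a_rc_3_2 lc_a_rc_0_1 lc_a_rc_1_4 lc_a_rc_3_2 lc_a_rc_3_0 lc_a_rc_3_0 lc_a_rc_3_2 lc_a_rc_4_2 lc_a_rc_22_0 lc_a_rc_3_2 lc_a_rc_2_2 lc_a_rc_3_2 lc_a_rc_21_0 lc_a_rc_3_2 lc_a_rc_4_2 lc_a_rc_1_4 lc_a_rc_3_2 lc_a_rc_4_2 lc_a_rc_1_2 lc_a_rc_4_2 lc_a_rc_3_2 lc_a_rc_4_2 lc_a_rc_5_0 lc_a_rc_0_1 lc_a_rc_21_0 lc_a_rc_0_1 lc_a_rc_3_2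 lc_a_rc_5_2 lc_a_rc_4_2 lc_a_rc_3_2 lc_a_rc_2_2 lc_a_rc_21_0 lc_a_rc_0_1 lc_a_rc_3_2 lc_a_rc_1_2 lc_a_rc_4_2 lc_a_rc_2_2 lc_a_rc_3_2 lc_a_rc_5_2 lc_a_rc_21_0 lc_a_Cert_tree lc_a_rc_2_2 lc_a_rc_0_1 lc_a_rc_21_0 lc_a_rc_0_1 lc_a_rc_3_2 lc_a_rc_3_2 lc_a_rc_4_2 lc_a_rc_21_0 lc_a_rc_4_2 lc_a_rc_3_2 lc_a_rc_5_2 lc_a_rc_2_2 lc_a_rc_4_2 lc_a_Cert_tree lc_a_rc_0_1) (@D3.rec (fun _ => (Cert rels S Gen.a)) lc_a_rc_21_0 lc_a_rc_0_1 lc_a_rc_3_2 lc_a_rc_5_2 lc_a_rc_4_2 lc_a_rc_5_0 lc_a_rc_3_2 lc_a_rc_2_2 lc_a_rc_2_2 lc_a_rc_0_1 lc_a_rc_4_2 lc_a_rc_5_2 lc_a_rc_21_0 lc_a_rc_0_1 lc_a_rc_0_1 lc_a_rc_4_2 lc_a_rc_3_2 lc_a_Cert_tree lc_a_rc_5_0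 lc_a_rc_4_2 lc_a_rc_5_2 lc_a_rc_4_2 lc_a_rc_3_2 lc_a_rc_5_0 lc_a_rc_3_2 lc_a_rc_2_2 lc_a_rc_3_0 lc_a_Cert_tree lc_a_rc_4_2 lc_a_rc_2_2 lc_a_rc_4_2 lc_a_rc_2_2 lc_a_rc_2_2 lc_a_rc_3_2 lc_a_rc_5_2 lc_a_Cert_tree lc_a_rc_3_2 lc_a_rc_21_0 lc_a_rc_21_0 lc_a_rc_21_0 lc_a_rc_3_2 lc_a_rc_5_0 lc_a_rc_2_2 lc_a_rc_0_1 lc_a_Cert_tree lc_a_rc_3_2 lc_a_rc_4_2 lc_a_Cert_tree lc_a_rc_21_0 lc_a_rc_21_0 lc_a_rc_21_0 lc_a_rc_0_1 lc_a_rc_0_1 lc_a_rc_4_2 lc_a_rc_21_0 lc_a_rc_4_2 lc_a_rc_3_2 lc_a_rc_21_0 lc_a_rc_21_0 lc_a_rc_1_2 lc_a_rc_0_1 lc_a_rc_0_1) (@D3.rec (fun _ => (Cert rels S Gen.a)) lc_a_rc_3_2 lc_a_rc_2_2 lc_a_rc_4_2 lc_a_rc_4_2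 lc_a_rc_0_1 lc_a_rc_2_2 lc_a_rc_5_2 lc_a_rc_0_1 lc_a_rc_2_0 lc_a_rc_21_0 lc_a_rc_1_4 lc_a_rc_2_2 lc_a_rc_4_2 lc_a_rc_5_0 lc_a_rc_21_0 lc_a_rc_4_2 lc_a_rc_4_2 lc_a_rc_5_0 lc_a_rc_2_2 lc_a_Cert_tree lc_a_rc_3_2 lc_a_rc_4_2 lc_a_rc_4_0 lc_a_rc_5_2 lc_a_rc_21_0 lc_a_rc_21_0 lc_a_rc_21_0 lc_a_rc_4_2 lc_a_rc_0_1 lc_a_rc_3_2 lc_a_rc_21_0 lc_a_rc_2_2 lc_a_rc_4_2 lc_a_rc_1_4 lc_a_rc_2_2 lc_a_rc_5_0 lc_a_rc_5_2 lc_a_rc_21_0 lc_a_rc_3_0 lc_a_Cert_tree lc_a_rc_3_0 lc_a_Cert_tree lc_a_rc_21_0 lc_a_rc_0_1 lc_a_rc_4_2 lc_a_rc_0_1 lc_a_rc_4_2 lc_a_rc_0_1 lc_a_rc_1_2 lc_a_rc_4_2 lc_a_rc_21_0 lc_a_rc_4_2 lc_a_rc_2_2 lc_a_rc_5_0 lc_a_rc_21_0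 lc_a_rc_2_2 lc_a_rc_0_1 lc_a_rc_22_0 lc_a_rc_2_0 lc_a_rc_1_2 lc_a_rc_3_2 lc_a_rc_3_2) (@D3.rec (fun _ => (Cert rels S Gen.a)) lc_a_rc_4_2 lc_a_rc_21_0 lc_a_rc_2_2 lc_a_rc_4_2 lc_a_rc_22_0 lc_a_rc_4_2 lc_a_rc_3_2 lc_a_rc_4_2 lc_a_rc_3_2 lc_a_rc_3_2 lc_a_rc_4_2 lc_a_rc_0_1 lc_a_rc_0_1 lc_a_rc_5_2 lc_a_rc_3_0 lc_a_rc_3_0 lc_a_rc_3_2 lc_a_rc_5_2 lc_a_rc_21_0 lc_a_rc_3_2 lc_a_rc_5_0 lc_a_rc_3_2 lc_a_rc_2_2 lc_a_rc_3_2 lc_a_rc_3_2 lc_a_rc_2_0 lc_a_rc_2_2 lc_a_rc_3_2 lc_a_rc_4_2 lc_a_rc_2_2 lc_a_rc_5_0 lc_a_rc_2_2 lc_a_rc_4_2 lc_a_rc_22_0 lc_a_rc_3_2 lc_a_rc_2_2 lc_a_rc_4_2 lc_a_rc_3_2 lc_a_rc_3_0 lc_a_rc_0_1 lc_a_rc_2_2 lc_a_rc_3_0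 lc_a_rc_1_4 lc_a_rc_4_2 lc_a_rc_0_1 lc_a_rc_5_2 lc_a_rc_3_2 lc_a_rc_2_0 lc_a_rc_1_4 lc_a_rc_5_2 lc_a_rc_5_0 lc_a_rc_5_0 lc_a_rc_0_1 lc_a_rc_0_1 lc_a_rc_4_2 lc_a_rc_3_2 lc_a_rc_3_2 lc_a_rc_3_2 lc_a_rc_3_2 lc_a_rc_0_1 lc_a_rc_3_2 lc_a_rc_4_2) (@D3.rec (fun _ => (Cert rels S Gen.a)) lc_a_rc_4_2 lc_a_rc_4_2 lc_a_rc_21_0 lc_a_rc_3_2 lc_a_rc_5_2 lc_a_rc_4_2 lc_a_rc_4_2 lc_a_rc_2_2 lc_a_rc_3_2 lc_a_rc_1_2 lc_a_rc_0_1 lc_a_rc_3_2 lc_a_Cert_tree lc_a_rc_5_0 lc_a_rc_4_2 lc_a_Cert_tree lc_a_rc_3_2 lc_a_rc_4_2 lc_a_rc_3_2 lc_a_rc_4_2 lc_a_rc_4_0 lc_a_rc_2_2 lc_a_rc_3_2 lc_a_rc_5_2 lc_a_rc_2_2 lc_a_rc_21_0 lc_a_rc_1_4 lc_a_rc_5_2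 lc_a_Cert_tree lc_a_rc_3_2 lc_a_Cert_tree lc_a_rc_3_2 lc_a_rc_5_0 lc_a_rc_4_0 lc_a_rc_2_2 lc_a_rc_3_2 lc_a_rc_4_2 lc_a_rc_2_0 lc_a_Cert_tree lc_a_rc_3_2 lc_a_rc_4_2 lc_a_rc_21_0 lc_a_rc_1_4 lc_a_rc_5_2 lc_a_rc_3_2 lc_a_rc_0_1 lc_a_rc_21_0 lc_a_rc_0_1 lc_a_rc_3_2 lc_a_rc_4_2 lc_a_rc_0_1 lc_a_rc_1_4 lc_a_rc_5_0 lc_a_rc_1_0 lc_a_rc_21_0 lc_a_rc_3_2 lc_a_rc_5_2 lc_a_rc_1_2 lc_a_rc_21_0 lc_a_rc_0_1 lc_a_rc_0_1 lc_a_rc_1_0) (@D3.rec (fun _ => (Cert rels S Gen.a)) lc_a_rc_2_0 lc_a_rc_4_2 lc_a_rc_21_0 lc_a_rc_2_2 lc_a_rc_5_2 lc_a_rc_2_2 lc_a_rc_0_1 lc_a_rc_3_2 lc_a_rc_4_2 lc_a_rc_5_0 lc_a_rc_1_2 lc_a_rc_3_0 lc_a_rc_0_1 lc_a_rc_3_2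 lc_a_rc_3_2 lc_a_rc_3_2 lc_a_rc_21_0 lc_a_rc_2_0 lc_a_rc_4_2 lc_a_rc_3_2 lc_a_rc_21_0 lc_a_rc_3_0 lc_a_rc_0_1 lc_a_rc_3_2 lc_a_rc_5_2 lc_a_rc_21_0 lc_a_rc_4_2 lc_a_rc_3_2 lc_a_rc_3_2 lc_a_rc_2_2 lc_a_rc_21_0 lc_a_rc_3_2 lc_a_rc_2_2 lc_a_rc_2_2 lc_a_rc_3_2 lc_a_rc_4_2 lc_a_rc_4_2 lc_a_rc_3_2 lc_a_rc_2_0 lc_a_rc_4_2 lc_a_rc_1_2 lc_a_rc_5_0 lc_a_rc_0_1 lc_a_rc_4_2 lc_a_rc_22_0 lc_a_rc_0_1 lc_a_rc_5_2 lc_a_rc_4_2 lc_a_rc_0_1 lc_a_rc_2_2 lc_a_rc_3_2 lc_a_rc_4_2 lc_a_rc_2_2 lc_a_rc_0_1 lc_a_rc_0_1 lc_a_rc_3_2 lc_a_rc_4_0 lc_a_rc_2_2 lc_a_rc_3_0 lc_a_rc_4_2 lc_a_rc_4_2 lc_a_rc_4_2) (@D3.rec (fun _ => (Cert rels S Gen.a)) lc_a_rc_2_2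 lc_a_rc_4_2 lc_a_rc_4_0 lc_a_rc_4_0 lc_a_rc_3_2 lc_a_rc_2_2 lc_a_rc_1_4 lc_a_rc_2_2 lc_a_rc_4_0 lc_a_rc_4_2 lc_a_rc_1_4 lc_a_rc_3_2 lc_a_rc_3_0 lc_a_rc_0_1 lc_a_rc_0_1 lc_a_rc_3_0 lc_a_rc_4_2 lc_a_rc_21_0 lc_a_rc_1_4 lc_a_rc_4_2 lc_a_rc_4_2 lc_a_rc_0_1 lc_a_rc_0_1 lc_a_rc_3_2 lc_a_rc_4_2 lc_a_rc_2_2 lc_a_rc_3_2 lc_a_rc_2_2 lc_a_rc_3_0 lc_a_rc_5_2 lc_a_rc_4_2 lc_a_rc_3_2 lc_a_rc_0_1 lc_a_rc_3_2 lc_a_rc_0_1 lc_a_Cert_tree lc_a_rc_1_4 lc_a_rc_4_2 lc_a_rc_3_2 lc_a_rc_3_2 lc_a_rc_4_2 lc_a_rc_3_2 lc_a_rc_4_2 lc_a_rc_2_2 lc_a_rc_4_2 lc_a_rc_3_2 lc_a_rc_1_0 lc_a_rc_4_2 lc_a_rc_2_2 lc_a_rc_3_2 lc_a_rc_2_0 lc_a_rc_2_0 lc_a_rc_22_0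 lc_a_rc_4_2 lc_a_rc_2_2 lc_a_rc_21_0 lc_a_rc_2_2 lc_a_rc_3_2 lc_a_rc_0_1 lc_a_rc_0_1 lc_a_rc_3_2 lc_a_rc_2_0) (@D3.rec (fun _ => (Cert rels S Gen.a)) lc_a_rc_5_2 lc_a_rc_0_1 lc_a_rc_2_0 lc_a_rc_3_2 lc_a_rc_1_0 lc_a_rc_5_2 lc_a_rc_4_2 lc_a_rc_21_0 lc_a_rc_2_2 lc_a_rc_21_0 lc_a_rc_4_2 lc_a_rc_0_1 lc_a_rc_3_2 lc_a_rc_4_2 lc_a_rc_3_2 lc_a_rc_21_0 lc_a_rc_2_2 lc_a_rc_3_2 lc_a_rc_4_2 lc_a_rc_2_2 lc_a_rc_22_0 lc_a_rc_4_2 lc_a_rc_22_0 lc_a_rc_0_1 lc_a_rc_3_0 lc_a_rc_3_0 lc_a_rc_1_4 lc_a_rc_22_0 lc_a_rc_5_0 lc_a_rc_4_2 lc_a_rc_4_2 lc_a_rc_1_0 lc_a_rc_4_0 lc_a_rc_3_2 lc_a_rc_22_0 lc_a_rc_3_2 lc_a_rc_4_2 lc_a_rc_4_2 lc_a_rc_3_2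 lc_a_rc_21_0 lc_a_rc_2_2 lc_a_rc_1_2 lc_a_rc_3_2 lc_a_rc_4_2 lc_a_rc_0_1 lc_a_rc_0_1 lc_a_rc_5_2 lc_a_rc_1_0 lc_a_rc_4_0 lc_a_rc_5_2 lc_a_rc_0_1 lc_a_rc_4_2 lc_a_rc_2_2 lc_a_rc_1_0 lc_a_rc_3_2 lc_a_rc_5_2 lc_a_rc_3_2 lc_a_rc_1_4 lc_a_rc_4_2 lc_a_rc_3_2 lc_a_rc_2_2 lc_a_rc_0_1) (@D3.rec (fun _ => (Cert rels S Gen.a)) lc_a_rc_3_2 lc_a_rc_4_0 lc_a_rc_1_4 lc_a_rc_3_2 lc_a_rc_4_2 lc_a_rc_1_0 lc_a_rc_4_2 lc_a_rc_3_0 lc_a_rc_2_2 lc_a_rc_1_0 lc_a_rc_4_2 lc_a_rc_0_1 lc_a_rc_1_0 lc_a_rc_4_2 lc_a_rc_1_2 lc_a_rc_4_0 lc_a_rc_1_4 lc_a_rc_2_0 lc_a_rc_4_2 lc_a_rc_2_0 lc_a_rc_2_2 lc_a_rc_3_0 lc_a_rc_22_0 lc_a_rc_22_0 lc_a_rc_4_2 lc_a_Cert_tree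 lc_a_rc_3_2 lc_a_rc_4_2 lc_a_rc_1_2 lc_a_rc_2_2 lc_a_rc_5_2 lc_a_rc_21_0 lc_a_rc_21_0 lc_a_rc_3_2 lc_a_rc_2_2 lc_a_rc_4_2 lc_a_rc_0_1 lc_a_rc_3_2 lc_a_rc_5_0 lc_a_rc_21_0 lc_a_rc_4_2 lc_a_rc_2_2 lc_a_rc_2_2 lc_a_rc_0_1 lc_a_rc_3_2 lc_a_rc_4_2 lc_a_rc_2_2 lc_a_rc_4_2 lc_a_rc_1_2 lc_a_rc_4_0 lc_a_rc_3_2 lc_a_rc_5_2 lc_a_rc_0_1 lc_a_rc_4_2 lc_a_rc_4_2 lc_a_rc_5_2 lc_a_rc_4_2 lc_a_rc_3_2 lc_a_Cert_tree lc_a_rc_21_0 lc_a_rc_21_0 lc_a_rc_3_2) (@D3.rec (fun _ => (Cert rels S Gen.a)) lc_a_rc_22_0 lc_a_rc_0_1 lc_a_rc_2_2 lc_a_rc_21_0 lc_a_rc_3_2 lc_a_Cert_tree lc_a_rc_2_2 lc_a_rc_4_2 lc_a_rc_2_2 lc_a_rc_4_2 lc_a_rc_3_0 lc_a_rc_4_2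 lc_a_rc_3_0 lc_a_rc_3_0 lc_a_rc_2_2 lc_a_rc_1_2 lc_a_rc_0_1 lc_a_rc_2_2 lc_a_rc_4_2 lc_a_rc_3_2 lc_a_rc_3_2 lc_a_rc_1_4 lc_a_rc_1_2 lc_a_rc_3_2 lc_a_rc_5_2 lc_a_rc_2_2 lc_a_rc_2_0 lc_a_rc_2_2 lc_a_rc_0_1 lc_a_rc_3_0 lc_a_rc_21_0 lc_a_rc_5_2 lc_a_rc_2_2 lc_a_rc_4_2 lc_a_rc_3_2 lc_a_rc_21_0 lc_a_rc_3_2 lc_a_rc_2_0 lc_a_rc_3_2 lc_a_rc_0_1 lc_a_rc_0_1 lc_a_rc_0_1 lc_a_rc_4_2 lc_a_rc_5_2 lc_a_rc_0_1 lc_a_rc_21_0 lc_a_rc_3_0 lc_a_rc_22_0 lc_a_rc_4_2 lc_a_rc_2_0 lc_a_rc_3_2 lc_a_rc_21_0 lc_a_rc_5_2 lc_a_rc_2_2 lc_a_rc_21_0 lc_a_rc_0_1 lc_a_rc_3_2 lc_a_rc_3_0 lc_a_rc_1_0 lc_a_rc_0_1 lc_a_rc_5_0 lc_a_rc_1_2) (@D3.rec (fun _ =>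 (Cert rels S Gen.a)) lc_a_rc_3_2 lc_a_rc_3_0 lc_a_rc_0_1 lc_a_rc_3_2 lc_a_rc_4_2 lc_a_rc_1_4 lc_a_rc_3_2 lc_a_rc_4_2 lc_a_rc_3_2 lc_a_rc_21_0 lc_a_rc_3_2 lc_a_rc_1_4 lc_a_rc_2_0 lc_a_rc_5_2 lc_a_rc_4_0 lc_a_rc_2_0 lc_a_rc_2_0 lc_a_rc_0_1 lc_a_rc_3_2 lc_a_rc_5_2 lc_a_Cert_tree lc_a_rc_3_2 lc_a_rc_3_2 lc_a_rc_21_0 lc_a_rc_0_1 lc_a_rc_3_2 lc_a_rc_5_2 lc_a_rc_3_2 lc_a_rc_4_2 lc_a_Cert_tree lc_a_rc_3_2 lc_a_rc_21_0 lc_a_rc_0_1 lc_a_rc_0_1 lc_a_rc_4_2 lc_a_rc_21_0 lc_a_rc_5_2 lc_a_rc_3_2 lc_a_rc_0_1 lc_a_rc_4_2 lc_a_rc_5_0 lc_a_rc_3_2 lc_a_rc_3_2 lc_a_rc_3_2 lc_a_rc_21_0 lc_a_rc_2_2 lc_a_rc_3_2 lc_a_rc_22_0 lc_a_rc_21_0 lc_a_rc_2_2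 lc_a_rc_4_2 lc_a_rc_2_2 lc_a_rc_5_0 lc_a_rc_4_0 lc_a_rc_1_2 lc_a_rc_4_0 lc_a_rc_3_0 lc_a_rc_3_0 lc_a_rc_21_0 lc_a_rc_3_2 lc_a_rc_4_2 lc_a_rc_3_2) (@D3.rec (fun _ => (Cert rels S Gen.a)) lc_a_rc_3_2 lc_a_rc_4_2 lc_a_rc_21_0 lc_a_rc_5_0 lc_a_rc_22_0 lc_a_rc_4_2 lc_a_rc_2_2 lc_a_rc_21_0 lc_a_rc_0_1 lc_a_rc_4_2 lc_a_rc_0_1 lc_a_rc_21_0 lc_a_rc_0_1 lc_a_rc_0_1 lc_a_rc_4_2 lc_a_rc_0_1 lc_a_rc_2_2 lc_a_rc_3_2 lc_a_rc_5_2 lc_a_rc_21_0 lc_a_rc_22_0 lc_a_rc_0_1 lc_a_rc_3_2 lc_a_rc_4_2 lc_a_rc_4_2 lc_a_rc_3_2 lc_a_rc_4_2 lc_a_rc_3_2 lc_a_rc_5_2 lc_a_rc_4_2 lc_a_rc_21_0 lc_a_rc_4_2 lc_a_rc_4_2 lc_a_rc_4_2 lc_a_rc_0_1 lc_a_Cert_tree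 lc_a_rc_0_1 lc_a_rc_3_2 lc_a_rc_4_2 lc_a_rc_3_0 lc_a_rc_3_0 lc_a_rc_3_0 lc_a_rc_3_0 lc_a_rc_4_2 lc_a_rc_21_0 lc_a_rc_0_1 lc_a_rc_2_2 lc_a_rc_5_0 lc_a_rc_1_4 lc_a_rc_4_2 lc_a_rc_4_2 lc_a_rc_5_2 lc_a_rc_3_2 lc_a_rc_2_2 lc_a_rc_2_0 lc_a_rc_4_2 lc_a_rc_4_2 lc_a_rc_3_0 lc_a_rc_21_0 lc_a_rc_3_2 lc_a_rc_2_2 lc_a_rc_22_0) (@D3.rec (fun _ => (Cert rels S Gen.a)) lc_a_rc_4_2 lc_a_rc_1_4 lc_a_rc_21_0 lc_a_rc_0_1 lc_a_rc_4_2 lc_a_rc_22_0 lc_a_rc_4_2 lc_a_Cert_tree lc_a_rc_3_2 lc_a_rc_5_2 lc_a_rc_2_2 lc_a_rc_4_2 lc_a_rc_2_2 lc_a_rc_3_0 lc_a_rc_5_2 lc_a_rc_2_0 lc_a_rc_5_2 lc_a_rc_0_1 lc_a_rc_4_2 lc_a_rc_2_2 lc_a_rc_4_2 lc_a_rc_2_2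 lc_a_rc_3_2 lc_a_rc_2_2 lc_a_rc_1_0 lc_a_rc_4_0 lc_a_rc_1_2 lc_a_rc_2_0 lc_a_rc_3_0 lc_a_rc_5_0 lc_a_rc_0_1 lc_a_rc_4_2 lc_a_rc_3_2 lc_a_rc_5_0 lc_a_rc_3_2 lc_a_rc_4_2 lc_a_rc_2_0 lc_a_rc_2_2 lc_a_rc_5_0 lc_a_rc_4_2 lc_a_rc_21_0 lc_a_rc_21_0 lc_a_rc_21_0 lc_a_rc_3_2 lc_a_rc_21_0 lc_a_rc_21_0 lc_a_rc_3_2 lc_a_Cert_tree lc_a_rc_2_2 lc_a_rc_22_0 lc_a_rc_4_2 lc_a_rc_2_2 lc_a_rc_22_0 lc_a_rc_1_4 lc_a_rc_4_0 lc_a_rc_0_1 lc_a_rc_2_2 lc_a_rc_3_2 lc_a_rc_2_2 lc_a_rc_4_2 lc_a_rc_1_0 lc_a_rc_2_2) (@D3.rec (fun _ => (Cert rels S Gen.a)) lc_a_rc_4_2 lc_a_rc_2_2 lc_a_rc_4_2 lc_a_Cert_tree lc_a_rc_5_2 lc_a_rc_21_0 lc_a_rc_2_2 lc_a_rc_3_2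 lc_a_rc_2_2 lc_a_rc_1_4 lc_a_rc_0_1 lc_a_rc_4_2 lc_a_rc_1_4 lc_a_rc_3_0 lc_a_rc_1_0 lc_a_rc_1_4 lc_a_rc_2_2 lc_a_rc_5_2 lc_a_rc_4_2 lc_a_rc_5_2 lc_a_rc_2_2 lc_a_rc_2_2 lc_a_rc_21_0 lc_a_rc_4_2 lc_a_rc_4_2 lc_a_rc_5_2 lc_a_rc_5_2 lc_a_rc_1_2 lc_a_rc_4_2 lc_a_rc_1_4 lc_a_rc_4_2 lc_a_rc_2_2 lc_a_rc_2_2 lc_a_rc_5_2 lc_a_rc_22_0 lc_a_rc_1_2 lc_a_rc_0_1 lc_a_rc_21_0 lc_a_rc_4_0 lc_a_rc_4_2 lc_a_rc_2_2 lc_a_rc_1_2 lc_a_rc_1_2 lc_a_rc_21_0 lc_a_rc_4_0 lc_a_rc_0_1 lc_a_rc_1_4 lc_a_rc_0_1 lc_a_rc_4_2 lc_a_rc_0_1 lc_a_rc_5_2 lc_a_rc_4_2 lc_a_rc_3_2 lc_a_rc_2_2 lc_a_rc_4_2 lc_a_rc_2_2 lc_a_rc_4_0 lc_a_rc_0_1 lc_a_rc_21_0 lc_a_rc_0_1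 lc_a_rc_0_1 lc_a_rc_1_2) (@D3.rec (fun _ => (Cert rels S Gen.a)) lc_a_rc_4_2 lc_a_rc_2_2 lc_a_rc_3_2 lc_a_rc_4_2 lc_a_rc_2_0 lc_a_rc_2_2 lc_a_rc_3_2 lc_a_rc_4_2 lc_a_rc_3_2 lc_a_rc_21_0 lc_a_rc_0_1 lc_a_rc_2_2 lc_a_Cert_tree lc_a_rc_2_0 lc_a_rc_0_1 lc_a_rc_0_1 lc_a_rc_2_0 lc_a_rc_3_2 lc_a_rc_1_0 lc_a_rc_4_2 lc_a_rc_1_2 lc_a_rc_2_2 lc_a_rc_3_2 lc_a_rc_4_2 lc_a_rc_2_2 lc_a_rc_21_0 lc_a_rc_4_2 lc_a_rc_3_2 lc_a_rc_3_0 lc_a_rc_2_2 lc_a_rc_4_2 lc_a_rc_4_0 lc_a_rc_4_2 lc_a_rc_3_0 lc_a_rc_3_0 lc_a_rc_2_2 lc_a_rc_4_2 lc_a_rc_3_2 lc_a_rc_5_2 lc_a_rc_0_1 lc_a_rc_2_2 lc_a_rc_0_1 lc_a_rc_22_0 lc_a_rc_3_0 lc_a_rc_0_1 lc_a_rc_5_2 lc_a_rc_5_0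 lc_a_rc_5_0 lc_a_rc_0_1 lc_a_rc_2_2 lc_a_rc_0_1 lc_a_rc_1_2 lc_a_rc_4_2 lc_a_rc_4_2 lc_a_rc_2_2 lc_a_rc_3_2 lc_a_rc_5_2 lc_a_rc_5_0 lc_a_rc_3_2 lc_a_rc_3_2 lc_a_rc_0_1 lc_a_rc_3_2) (@D3.rec (fun _ => (Cert rels S Gen.a)) lc_a_rc_4_2 lc_a_rc_4_2 lc_a_rc_3_2 lc_a_rc_5_2 lc_a_rc_0_1 lc_a_rc_0_1 lc_a_rc_1_2 lc_a_rc_5_2 lc_a_rc_4_2 lc_a_rc_5_2 lc_a_Cert_tree lc_a_rc_2_2 lc_a_rc_3_2 lc_a_rc_4_2 lc_a_rc_3_2 lc_a_rc_2_0 lc_a_rc_2_2 lc_a_rc_4_2 lc_a_rc_4_2 lc_a_rc_2_0 lc_a_rc_4_2 lc_a_rc_5_2 lc_a_rc_3_2 lc_a_rc_4_0 lc_a_rc_21_0 lc_a_rc_0_1 lc_a_rc_21_0 lc_a_rc_4_2 lc_a_rc_0_1 lc_a_rc_0_1 lc_a_rc_3_2 lc_a_rc_21_0 lc_a_rc_3_2 lc_a_rc_1_0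 lc_a_rc_3_0 lc_a_rc_0_1 lc_a_rc_0_1 lc_a_rc_0_1 lc_a_rc_3_0 lc_a_rc_0_1 lc_a_rc_0_1 lc_a_rc_4_2 lc_a_rc_1_2 lc_a_Cert_tree lc_a_rc_2_2 lc_a_rc_4_2 lc_a_rc_3_0 lc_a_rc_3_0 lc_a_rc_3_2 lc_a_rc_22_0 lc_a_Cert_tree lc_a_rc_3_2 lc_a_rc_4_2 lc_a_Cert_tree lc_a_rc_21_0 lc_a_rc_0_1 lc_a_rc_0_1 lc_a_rc_3_2 lc_a_rc_4_2 lc_a_rc_2_2 lc_a_rc_3_2 lc_a_rc_0_1) (@D3.rec (fun _ => (Cert rels S Gen.a)) lc_a_rc_21_0 lc_a_rc_0_1 lc_a_rc_0_1 lc_a_rc_4_2 lc_a_rc_3_2 lc_a_rc_0_1 lc_a_rc_4_2 lc_a_rc_5_2 lc_a_rc_22_0 lc_a_rc_5_2 lc_a_rc_21_0 lc_a_rc_4_2 lc_a_rc_0_1 lc_a_rc_3_2 lc_a_rc_4_2 lc_a_rc_0_1 lc_a_rc_3_0 lc_a_rc_4_2 lc_a_rc_1_0 lc_a_rc_4_0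 lc_a_rc_4_2 lc_a_rc_4_2 lc_a_rc_3_2 lc_a_rc_1_0 lc_a_rc_1_0 lc_a_rc_1_4 lc_a_rc_4_2 lc_a_rc_5_0 lc_a_rc_4_2 lc_a_Cert_tree lc_a_rc_3_2 lc_a_rc_2_2 lc_a_rc_0_1 lc_a_rc_21_0 lc_a_rc_0_1 lc_a_rc_3_2 lc_a_rc_4_2 lc_a_rc_2_0 lc_a_rc_0_1 lc_a_rc_4_2 lc_a_rc_3_2 lc_a_rc_2_2 lc_a_rc_21_0 lc_a_rc_4_2 lc_a_Cert_tree lc_a_rc_2_2 lc_a_rc_4_2 lc_a_rc_3_0 lc_a_rc_4_2 lc_a_rc_0_1 lc_a_rc_3_2 lc_a_rc_21_0 lc_a_rc_3_2 lc_a_rc_0_1 lc_a_rc_2_0 lc_a_rc_2_2 lc_a_rc_4_2 lc_a_rc_4_0 lc_a_rc_3_2 lc_a_rc_3_0 lc_a_rc_5_2 lc_a_rc_0_1) (@D3.rec (fun _ => (Cert rels S Gen.a)) lc_a_rc_2_2 lc_a_rc_5_2 lc_a_rc_21_0 lc_a_rc_3_2 lc_a_rc_3_2 lc_a_rc_21_0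 lc_a_rc_0_1 lc_a_rc_0_1 lc_a_rc_3_2 lc_a_rc_4_2 lc_a_rc_4_2 lc_a_rc_3_2 lc_a_rc_21_0 lc_a_rc_1_2 lc_a_rc_5_2 lc_a_rc_2_0 lc_a_rc_4_2 lc_a_rc_3_2 lc_a_rc_4_2 lc_a_rc_3_2 lc_a_rc_3_0 lc_a_rc_2_2 lc_a_rc_4_2 lc_a_rc_4_0 lc_a_rc_4_2 lc_a_rc_21_0 lc_a_rc_5_2 lc_a_rc_4_0 lc_a_rc_5_2 lc_a_Cert_tree lc_a_rc_3_2 lc_a_rc_2_2 lc_a_rc_4_2 lc_a_rc_3_2 lc_a_rc_4_0 lc_a_rc_2_2 lc_a_rc_3_2 lc_a_rc_3_0 lc_a_rc_3_2 lc_a_rc_2_2 lc_a_rc_3_0 lc_a_rc_4_2 lc_a_rc_3_2 lc_a_rc_4_0 lc_a_rc_3_2 lc_a_rc_4_2 lc_a_rc_2_2 lc_a_rc_2_0 lc_a_rc_4_0 lc_a_rc_3_0 lc_a_rc_3_2 lc_a_rc_0_1 lc_a_rc_5_0 lc_a_rc_2_0 lc_a_rc_2_2 lc_a_rc_5_2 lc_a_rc_3_2 lc_a_rc_5_0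 lc_a_rc_2_2 lc_a_rc_5_2 lc_a_rc_0_1 lc_a_rc_0_1) (@D3.rec (fun _ => (Cert rels S Gen.a)) lc_a_rc_3_0 lc_a_rc_21_0 lc_a_rc_4_2 lc_a_rc_3_2 lc_a_rc_4_2 lc_a_rc_5_2 lc_a_rc_0_1 lc_a_rc_2_2 lc_a_rc_4_2 lc_a_rc_4_0 lc_a_rc_21_0 lc_a_rc_22_0 lc_a_rc_4_0 lc_a_rc_2_2 lc_a_rc_4_2 lc_a_rc_3_2 lc_a_rc_2_2 lc_a_rc_3_2 lc_a_rc_4_2 lc_a_rc_3_2 lc_a_rc_4_2 lc_a_rc_0_1 lc_a_rc_3_2 lc_a_rc_0_1 lc_a_rc_3_2 lc_a_rc_4_0 lc_a_rc_3_2 lc_a_rc_21_0 lc_a_rc_0_1 lc_a_rc_4_2 lc_a_rc_2_2 lc_a_rc_4_2 lc_a_rc_4_2 lc_a_rc_2_2 lc_a_rc_4_2 lc_a_rc_1_2 lc_a_rc_1_0 lc_a_rc_0_1 lc_a_rc_2_2 lc_a_rc_4_2 lc_a_rc_2_2 lc_a_rc_4_0 lc_a_rc_4_0 lc_a_rc_5_2 lc_a_rc_0_1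 lc_a_rc_3_2 lc_a_rc_0_1 lc_a_rc_0_1 lc_a_rc_3_2 lc_a_rc_4_0 lc_a_rc_2_0 lc_a_rc_0_1 lc_a_rc_4_2 lc_a_rc_4_0 lc_a_rc_3_2 lc_a_rc_2_0 lc_a_rc_22_0 lc_a_rc_1_4 lc_a_rc_3_2 lc_a_rc_3_2 lc_a_rc_2_0 lc_a_rc_3_2) (@D3.rec (fun _ => (Cert rels S Gen.a)) lc_a_rc_4_2 lc_a_rc_1_2 lc_a_rc_3_2 lc_a_rc_2_2 lc_a_rc_4_0 lc_a_rc_2_2 lc_a_rc_3_0 lc_a_rc_3_2 lc_a_rc_2_2 lc_a_rc_2_2 lc_a_rc_5_0 lc_a_rc_21_0 lc_a_rc_22_0 lc_a_rc_21_0 lc_a_rc_2_2 lc_a_rc_0_1 lc_a_rc_4_2 lc_a_rc_3_2 lc_a_rc_1_4 lc_a_rc_3_2 lc_a_rc_4_2 lc_a_rc_3_2 lc_a_rc_21_0 lc_a_rc_3_2 lc_a_rc_2_2 lc_a_rc_0_1 lc_a_rc_3_2 lc_a_rc_2_2 lc_a_rc_2_2 lc_a_rc_4_2 lc_a_rc_0_1 lc_a_rc_5_0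 lc_a_rc_3_2 lc_a_rc_0_1 lc_a_rc_3_2 lc_a_rc_3_2 lc_a_rc_5_2 lc_a_rc_21_0 lc_a_rc_21_0 lc_a_rc_1_4 lc_a_rc_3_2 lc_a_rc_3_2 lc_a_rc_4_2 lc_a_rc_3_0 lc_a_rc_4_2 lc_a_rc_4_2 lc_a_rc_3_2 lc_a_rc_3_2 lc_a_rc_3_2 lc_a_rc_2_2 lc_a_rc_3_0 lc_a_rc_3_2 lc_a_rc_3_0 lc_a_rc_1_2 lc_a_rc_2_2 lc_a_rc_3_2 lc_a_rc_2_0 lc_a_rc_0_1 lc_a_rc_3_2 lc_a_rc_0_1 lc_a_rc_3_2 lc_a_rc_4_2) (@D3.rec (fun _ => (Cert rels S Gen.a)) lc_a_rc_3_2 lc_a_rc_4_2 lc_a_rc_21_0 lc_a_rc_22_0 lc_a_rc_5_2 lc_a_rc_4_2 lc_a_rc_4_2 lc_a_rc_2_0 lc_a_rc_3_2 lc_a_rc_1_2 lc_a_rc_5_2 lc_a_rc_4_2 lc_a_rc_2_0 lc_a_rc_3_2 lc_a_rc_2_0 lc_a_rc_4_2 lc_a_rc_3_2 lc_a_rc_4_2 lc_a_rc_4_0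 lc_a_rc_3_2 lc_a_rc_21_0 lc_a_rc_4_0 lc_a_rc_21_0 lc_a_rc_3_2 lc_a_rc_2_2 lc_a_rc_5_2 lc_a_rc_3_2 lc_a_rc_4_2 lc_a_rc_2_2 lc_a_rc_0_1 lc_a_rc_2_2 lc_a_rc_2_2 lc_a_rc_3_2 lc_a_rc_0_1 lc_a_rc_5_2 lc_a_rc_21_0 lc_a_rc_0_1 lc_a_rc_4_2 lc_a_rc_1_4 lc_a_rc_1_0 lc_a_rc_3_0 lc_a_rc_22_0 lc_a_rc_2_2 lc_a_rc_4_0 lc_a_rc_22_0 lc_a_rc_1_4 lc_a_rc_1_0 lc_a_rc_4_2 lc_a_rc_0_1 lc_a_rc_2_2 lc_a_rc_3_2 lc_a_rc_21_0 lc_a_rc_0_1 lc_a_rc_3_2 lc_a_rc_4_2 lc_a_rc_5_2 lc_a_rc_2_2 lc_a_rc_2_2 lc_a_rc_21_0 lc_a_rc_0_1 lc_a_rc_3_2 lc_a_rc_4_2) (@D3.rec (fun _ => (Cert rels S Gen.a)) lc_a_rc_3_2 lc_a_rc_5_2 lc_a_rc_3_0 lc_a_rc_3_2 lc_a_rc_0_1 lc_a_rc_3_2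 lc_a_rc_1_4 lc_a_rc_2_2 lc_a_rc_3_2 lc_a_rc_2_2 lc_a_rc_3_2 lc_a_rc_4_2 lc_a_rc_3_2 lc_a_rc_4_2 lc_a_rc_3_2 lc_a_rc_3_0 lc_a_rc_0_1 lc_a_rc_2_2 lc_a_rc_0_1 lc_a_rc_2_2 lc_a_rc_4_2 lc_a_Cert_tree lc_a_rc_4_2 lc_a_rc_2_2 lc_a_rc_2_2 lc_a_rc_5_2 lc_a_rc_4_2 lc_a_rc_5_2 lc_a_rc_2_2 lc_a_rc_0_1 lc_a_rc_4_2 lc_a_rc_2_2 lc_a_rc_21_0 lc_a_rc_0_1 lc_a_rc_3_2 lc_a_rc_2_2 lc_a_rc_21_0 lc_a_rc_0_1 lc_a_rc_3_2 lc_a_rc_5_0 lc_a_rc_4_2 lc_a_rc_21_0 lc_a_rc_0_1 lc_a_rc_21_0 lc_a_rc_0_1 lc_a_rc_3_2 lc_a_rc_3_2 lc_a_rc_0_1 lc_a_rc_21_0 lc_a_rc_0_1 lc_a_rc_4_0 lc_a_rc_3_0 lc_a_rc_0_1 lc_a_rc_0_1 lc_a_rc_1_2 lc_a_rc_1_4 lc_a_rc_4_0 lc_a_rc_4_2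 lc_a_rc_5_2 lc_a_rc_5_2 lc_a_rc_2_2 lc_a_rc_3_2) (@D3.rec (fun _ => (Cert rels S Gen.a)) lc_a_rc_3_0 lc_a_rc_3_2 lc_a_rc_21_0 lc_a_rc_2_2 lc_a_rc_2_2 lc_a_rc_2_2 lc_a_rc_3_0 lc_a_rc_5_2 lc_a_Cert_tree lc_a_rc_2_2 lc_a_rc_4_2 lc_a_rc_3_0 lc_a_rc_5_2 lc_a_rc_4_2 lc_a_rc_3_2 lc_a_rc_21_0 lc_a_rc_0_1 lc_a_rc_0_1 lc_a_rc_3_2 lc_a_rc_4_2 lc_a_rc_5_2 lc_a_rc_5_0 lc_a_rc_3_2 lc_a_rc_0_1 lc_a_rc_21_0 lc_a_rc_0_1 lc_a_rc_5_0 lc_a_rc_21_0 lc_a_rc_4_0 lc_a_rc_1_4 lc_a_rc_0_1 lc_a_rc_21_0 lc_a_rc_22_0 lc_a_rc_3_2 lc_a_rc_0_1 lc_a_rc_5_2 lc_a_rc_4_2 lc_a_rc_21_0 lc_a_rc_2_2 lc_a_rc_5_2 lc_a_rc_1_2 lc_a_rc_0_1 lc_a_rc_0_1 lc_a_rc_2_2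 lc_a_rc_2_2 lc_a_rc_3_2 lc_a_rc_4_2 lc_a_rc_5_2 lc_a_Cert_tree lc_a_rc_2_2 lc_a_rc_3_2 lc_a_rc_4_2 lc_a_rc_1_4 lc_a_rc_4_0 lc_a_rc_2_2 lc_a_rc_0_1 lc_a_rc_4_0 lc_a_rc_1_0 lc_a_rc_4_2 lc_a_rc_5_0 lc_a_rc_3_2 lc_a_rc_1_4) (@D3.rec (fun _ => (Cert rels S Gen.a)) lc_a_rc_0_1 lc_a_rc_2_0 lc_a_rc_4_2 lc_a_rc_4_2 lc_a_rc_2_2 lc_a_rc_3_0 lc_a_rc_5_2 lc_a_rc_2_2 lc_a_rc_2_2 lc_a_rc_21_0 lc_a_rc_0_1 lc_a_rc_0_1 lc_a_rc_3_2 lc_a_rc_5_0 lc_a_rc_2_2 lc_a_rc_3_2 lc_a_rc_2_2 lc_a_rc_5_0 lc_a_rc_0_1 lc_a_rc_5_2 lc_a_rc_4_2 lc_a_rc_3_2 lc_a_rc_2_2 lc_a_rc_0_1 lc_a_rc_21_0 lc_a_rc_4_2 lc_a_rc_22_0 lc_a_rc_21_0 lc_a_rc_0_1 lc_a_rc_4_2 lc_a_rc_3_2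 lc_a_rc_4_2 lc_a_rc_3_0 lc_a_rc_3_0 lc_a_rc_1_2 lc_a_rc_21_0 lc_a_rc_2_0 lc_a_rc_3_2 lc_a_rc_3_0 lc_a_rc_21_0 lc_a_Cert_tree lc_a_Cert_tree lc_a_rc_4_2 lc_a_Cert_tree lc_a_rc_21_0 lc_a_rc_0_1 lc_a_rc_0_1 lc_a_rc_4_2 lc_a_rc_5_0 lc_a_rc_3_2 lc_a_rc_3_2 lc_a_rc_4_0 lc_a_rc_0_1 lc_a_rc_3_2 lc_a_rc_0_1 lc_a_rc_2_0 lc_a_rc_21_0 lc_a_rc_4_2 lc_a_rc_3_2 lc_a_rc_4_2 lc_a_rc_0_1 lc_a_rc_21_0) (@D3.rec (fun _ => (Cert rels S Gen.a)) lc_a_rc_2_2 lc_a_rc_4_2 lc_a_rc_4_2 lc_a_rc_2_2 lc_a_rc_22_0 lc_a_rc_5_2 lc_a_rc_3_0 lc_a_rc_3_0 lc_a_Cert_tree lc_a_Cert_tree lc_a_rc_1_2 lc_a_rc_4_2 lc_a_rc_4_2 lc_a_rc_0_1 lc_a_Cert_tree lc_a_rc_21_0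 lc_a_rc_0_1 lc_a_rc_0_1 lc_a_rc_21_0 lc_a_rc_0_1 lc_a_rc_4_2 lc_a_rc_3_2 lc_a_rc_1_2 lc_a_rc_0_1 lc_a_rc_4_2 lc_a_rc_21_0 lc_a_rc_21_0 lc_a_rc_3_2 lc_a_rc_3_0 lc_a_rc_0_1 lc_a_rc_2_2 lc_a_Cert_tree lc_a_rc_4_2 lc_a_Cert_tree lc_a_rc_4_2 lc_a_rc_3_0 lc_a_rc_5_2 lc_a_rc_3_0 lc_a_rc_4_2 lc_a_rc_1_2 lc_a_rc_0_1 lc_a_rc_2_0 lc_a_rc_4_2 lc_a_rc_3_2 lc_a_rc_3_2 lc_a_rc_21_0 lc_a_rc_2_2 lc_a_rc_5_0 lc_a_rc_3_0 lc_a_rc_3_0 lc_a_rc_1_4 lc_a_Cert_tree lc_a_rc_2_2 lc_a_rc_2_2 lc_a_rc_2_2 lc_a_rc_3_2 lc_a_rc_0_1 lc_a_rc_2_2 lc_a_rc_1_4 lc_a_rc_3_2 lc_a_rc_3_2 lc_a_rc_4_2) (@D3.rec (fun _ => (Cert rels S Gen.a)) lc_a_rc_3_2 lc_a_rc_3_0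 lc_a_rc_2_2 lc_a_rc_4_0 lc_a_rc_2_0 lc_a_rc_21_0 lc_a_rc_4_2 lc_a_rc_1_2 lc_a_rc_2_0 lc_a_Cert_tree lc_a_rc_2_2 lc_a_rc_4_2 lc_a_rc_3_2 lc_a_rc_4_0 lc_a_rc_0_1 lc_a_rc_3_2 lc_a_rc_1_4 lc_a_rc_4_0 lc_a_rc_0_1 lc_a_rc_2_2 lc_a_rc_3_2 lc_a_rc_4_2 lc_a_rc_2_2 lc_a_rc_2_2 lc_a_rc_21_0 lc_a_rc_2_2 lc_a_rc_4_2 lc_a_Cert_tree lc_a_rc_21_0 lc_a_rc_2_2 lc_a_Cert_tree lc_a_rc_2_2 lc_a_rc_4_2 lc_a_rc_3_2 lc_a_rc_1_0 lc_a_rc_22_0 lc_a_rc_2_2 lc_a_rc_3_0 lc_a_rc_3_2 lc_a_rc_4_2 lc_a_rc_22_0 lc_a_rc_0_1 lc_a_rc_3_2 lc_a_rc_2_0 lc_a_rc_0_1 lc_a_rc_3_2 lc_a_rc_2_0 lc_a_rc_4_0 lc_a_rc_5_2 lc_a_rc_5_0 lc_a_rc_0_1 lc_a_Cert_tree lc_a_rc_2_2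 lc_a_rc_2_0 lc_a_rc_4_0 lc_a_rc_3_2 lc_a_rc_2_2 lc_a_rc_5_0 lc_a_rc_1_2 lc_a_rc_3_2 lc_a_rc_4_2 lc_a_rc_2_2) (@D3.rec (fun _ => (Cert rels S Gen.a)) lc_a_rc_3_0 lc_a_rc_4_2 lc_a_rc_0_1 lc_a_rc_21_0 lc_a_rc_3_2 lc_a_rc_21_0 lc_a_rc_3_2 lc_a_rc_21_0 lc_a_rc_1_2 lc_a_rc_3_2 lc_a_rc_5_0 lc_a_rc_4_0 lc_a_rc_3_2 lc_a_rc_5_2 lc_a_rc_2_0 lc_a_rc_3_2 lc_a_rc_3_2 lc_a_rc_5_0 lc_a_rc_2_2 lc_a_rc_5_2 lc_a_rc_21_0 lc_a_rc_21_0 lc_a_rc_21_0 lc_a_rc_5_0 lc_a_rc_4_2 lc_a_rc_3_2 lc_a_rc_5_2 lc_a_rc_1_4 lc_a_rc_2_2 lc_a_rc_0_1 lc_a_rc_3_0 lc_a_rc_3_2 lc_a_Cert_tree lc_a_rc_4_2 lc_a_rc_1_0 lc_a_rc_1_4 lc_a_rc_3_0 lc_a_rc_3_2 lc_a_rc_3_2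 lc_a_rc_2_2 lc_a_rc_4_0 lc_a_rc_5_2 lc_a_rc_3_2 lc_a_rc_22_0 lc_a_rc_4_2 lc_a_rc_3_2 lc_a_rc_3_2 lc_a_rc_3_2 lc_a_rc_2_2 lc_a_rc_4_0 lc_a_rc_5_2 lc_a_rc_1_2 lc_a_rc_3_2 lc_a_rc_3_2 lc_a_rc_1_4 lc_a_rc_3_0 lc_a_rc_3_2 lc_a_rc_2_2 lc_a_rc_3_0 lc_a_rc_3_2 lc_a_rc_0_1 lc_a_rc_3_2) (@D3.rec (fun _ => (Cert rels S Gen.a)) lc_a_rc_4_2 lc_a_rc_3_2 lc_a_rc_3_2 lc_a_rc_5_2 lc_a_rc_3_2 lc_a_rc_4_2 lc_a_rc_0_1 lc_a_rc_3_2 lc_a_rc_4_2 lc_a_rc_1_0 lc_a_rc_0_1 lc_a_rc_2_2 lc_a_rc_4_0 lc_a_rc_5_2 lc_a_rc_5_2 lc_a_rc_5_2 lc_a_rc_4_2 lc_a_rc_21_0 lc_a_rc_0_1 lc_a_rc_3_2 lc_a_rc_4_2 lc_a_rc_0_1 lc_a_rc_3_2 lc_a_rc_5_2 lc_a_rc_3_0 lc_a_rc_1_2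 lc_a_rc_3_2 lc_a_rc_4_2 lc_a_rc_3_2 lc_a_rc_0_1 lc_a_rc_0_1 lc_a_rc_3_0 lc_a_rc_3_2 lc_a_rc_0_1 lc_a_rc_5_2 lc_a_rc_0_1 lc_a_rc_4_2 lc_a_rc_3_2 lc_a_rc_4_2 lc_a_rc_0_1 lc_a_rc_1_4 lc_a_rc_5_2 lc_a_rc_21_0 lc_a_rc_3_2 lc_a_rc_3_2 lc_a_rc_4_2 lc_a_rc_3_2 lc_a_rc_0_1 lc_a_rc_0_1 lc_a_rc_2_2 lc_a_rc_3_2 lc_a_rc_0_1 lc_a_rc_2_2 lc_a_rc_0_1 lc_a_rc_5_0 lc_a_rc_2_2 lc_a_rc_0_1 lc_a_rc_3_2 lc_a_rc_2_0 lc_a_rc_0_1 lc_a_rc_3_2 lc_a_rc_4_2) (@D3.rec (fun _ => (Cert rels S Gen.a)) lc_a_rc_2_2 lc_a_rc_3_2 lc_a_rc_5_2 lc_a_rc_21_0 lc_a_rc_0_1 lc_a_rc_5_2 lc_a_rc_21_0 lc_a_rc_3_2 lc_a_rc_21_0 lc_a_rc_3_2 lc_a_rc_0_1 lc_a_rc_4_2 lc_a_rc_3_2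 lc_a_rc_4_2 lc_a_rc_4_2 lc_a_rc_3_2 lc_a_rc_5_0 lc_a_rc_3_2 lc_a_rc_3_2 lc_a_rc_0_1 lc_a_rc_4_2 lc_a_rc_3_2 lc_a_rc_21_0 lc_a_rc_4_2 lc_a_rc_3_2 lc_a_rc_3_2 lc_a_rc_2_0 lc_a_rc_4_2 lc_a_rc_22_0 lc_a_rc_1_2 lc_a_rc_5_0 lc_a_rc_0_1 lc_a_rc_3_2 lc_a_rc_4_0 lc_a_rc_21_0 lc_a_rc_4_0 lc_a_rc_3_2 lc_a_rc_4_2 lc_a_rc_0_1 lc_a_rc_4_2 lc_a_rc_21_0 lc_a_rc_2_2 lc_a_rc_3_2 lc_a_rc_4_0 lc_a_rc_3_2 lc_a_rc_3_2 lc_a_rc_4_2 lc_a_rc_5_2 lc_a_Cert_tree lc_a_Cert_tree lc_a_rc_4_2 lc_a_rc_2_2 lc_a_rc_0_1 lc_a_rc_22_0 lc_a_rc_0_1 lc_a_rc_3_0 lc_a_rc_3_2 lc_a_rc_21_0 lc_a_rc_5_0 lc_a_rc_21_0 lc_a_rc_3_0 lc_a_rc_4_2) (@D3.rec (fun _ => (Cert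 rels S Gen.a)) lc_a_rc_2_2 lc_a_rc_3_0 lc_a_rc_3_2 lc_a_rc_4_2 lc_a_rc_21_0 lc_a_rc_5_2 lc_a_rc_4_2 lc_a_rc_2_0 lc_a_rc_2_0 lc_a_rc_3_2 lc_a_rc_1_2 lc_a_rc_5_0 lc_a_rc_4_0 lc_a_rc_3_2 lc_a_rc_5_2 lc_a_rc_4_2 lc_a_rc_3_2 lc_a_rc_3_0 lc_a_rc_3_2 lc_a_rc_3_0 lc_a_rc_2_2 lc_a_rc_5_2 lc_a_rc_21_0 lc_a_rc_2_2 lc_a_rc_5_0 lc_a_rc_1_2 lc_a_rc_4_0 lc_a_rc_0_1 lc_a_Cert_tree lc_a_rc_3_2 lc_a_rc_2_2 lc_a_rc_3_2 lc_a_rc_4_0 lc_a_rc_1_2 lc_a_rc_3_2 lc_a_rc_3_2 lc_a_rc_4_2 lc_a_rc_0_1 lc_a_rc_3_2 lc_a_rc_5_2 lc_a_rc_0_1 lc_a_rc_2_2 lc_a_rc_5_2 lc_a_rc_1_2 lc_a_rc_3_2 lc_a_rc_2_0 lc_a_rc_1_4 lc_a_rc_3_2 lc_a_rc_21_0 lc_a_rc_3_2 lc_a_rc_4_2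 lc_a_rc_3_2 lc_a_rc_1_0 lc_a_rc_4_2 lc_a_rc_21_0 lc_a_rc_4_0 lc_a_rc_3_2 lc_a_rc_5_2 lc_a_rc_4_0 lc_a_rc_3_2 lc_a_rc_5_2 lc_a_rc_4_0)
def ce_a_19 : D2 → D3 → (Cert rels S Gen.a) := @D2.rec (fun _ => D3 → (Cert rels S Gen.a)) (@D3.rec (fun _ => (Cert rels S Gen.a)) lc_a_rc_3_2 lc_a_rc_2_2 lc_a_rc_5_2 lc_a_rc_0_1 lc_a_rc_4_2 lc_a_rc_0_1 lc_a_rc_4_0 lc_a_rc_5_2 lc_a_rc_3_2 lc_a_rc_0_1 lc_a_rc_2_2 lc_a_rc_4_2 lc_a_rc_3_2 lc_a_rc_3_2 lc_a_rc_5_2 lc_a_rc_2_2 lc_a_rc_3_2 lc_a_rc_3_0 lc_a_rc_3_2 lc_a_rc_5_2 lc_a_rc_0_1 lc_a_rc_5_2 lc_a_rc_4_2 lc_a_rc_3_2 lc_a_rc_5_2 lc_a_rc_4_2 lc_a_rc_5_0 lc_a_rc_3_2 lc_a_rc_2_2 lc_a_rc_21_0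 lc_a_rc_3_0 lc_a_rc_1_4 lc_a_rc_4_2 lc_a_rc_0_1 lc_a_rc_21_0 lc_a_rc_0_1 lc_a_rc_2_0 lc_a_rc_1_2 lc_a_rc_21_0 lc_a_rc_2_2 lc_a_rc_21_0 lc_a_rc_3_0 lc_a_rc_3_2 lc_a_rc_0_1 lc_a_rc_4_0 lc_a_rc_4_0 lc_a_rc_2_0 lc_a_rc_22_0 lc_a_rc_3_0 lc_a_rc_5_2 lc_a_rc_21_0 lc_a_rc_3_0 lc_a_rc_3_2 lc_a_rc_3_2 lc_a_rc_2_2 lc_a_rc_4_2 lc_a_rc_3_2 lc_a_rc_3_2 lc_a_rc_5_2 lc_a_rc_3_2 lc_a_rc_3_2 lc_a_rc_21_0) (@D3.rec (fun _ => (Cert rels S Gen.a)) lc_a_rc_2_2 lc_a_rc_5_2 lc_a_rc_1_2 lc_a_rc_3_2 lc_a_rc_2_2 lc_a_rc_21_0 lc_a_rc_4_2 lc_a_rc_21_0 lc_a_rc_2_0 lc_a_rc_3_2 lc_a_rc_1_4 lc_a_rc_4_2 lc_a_rc_21_0 lc_a_rc_4_2 lc_a_rc_3_2 lc_a_rc_4_2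 lc_a_rc_2_2 lc_a_rc_4_2 lc_a_rc_4_0 lc_a_rc_2_0 lc_a_rc_3_2 lc_a_rc_4_2 lc_a_rc_3_2 lc_a_rc_3_2 lc_a_rc_3_2 lc_a_rc_5_2 lc_a_rc_5_2 lc_a_rc_21_0 lc_a_rc_0_1 lc_a_rc_3_2 lc_a_rc_4_0 lc_a_rc_1_2 lc_a_rc_0_1 lc_a_rc_21_0 lc_a_rc_3_2 lc_a_rc_4_0 lc_a_rc_4_2 lc_a_rc_4_0 lc_a_rc_3_2 lc_a_rc_5_2 lc_a_rc_3_2 lc_a_rc_2_2 lc_a_rc_5_2 lc_a_rc_2_2 lc_a_rc_4_2 lc_a_rc_4_2 lc_a_rc_4_0 lc_a_rc_0_1 lc_a_rc_0_1 lc_a_rc_3_2 lc_a_rc_5_2 lc_a_rc_2_2 lc_a_rc_5_2 lc_a_rc_4_2 lc_a_rc_0_1 lc_a_rc_2_2 lc_a_rc_0_1 lc_a_rc_5_2 lc_a_rc_3_2 lc_a_rc_5_0 lc_a_rc_4_2 lc_a_rc_2_2) (@D3.rec (fun _ => (Cert rels S Gen.a)) lc_a_rc_3_0 lc_a_rc_2_0 lc_a_rc_5_0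 lc_a_rc_3_2 lc_a_rc_5_2 lc_a_rc_4_2 lc_a_rc_3_2 lc_a_rc_4_2 lc_a_rc_1_4 lc_a_rc_2_2 lc_a_rc_4_2 lc_a_rc_3_2 lc_a_rc_1_2 lc_a_rc_1_4 lc_a_rc_1_4 lc_a_rc_4_2 lc_a_rc_3_0 lc_a_rc_3_0 lc_a_rc_1_2 lc_a_rc_3_2 lc_a_rc_21_0 lc_a_rc_4_2 lc_a_rc_4_2 lc_a_rc_2_0 lc_a_rc_3_2 lc_a_rc_5_2 lc_a_rc_2_2 lc_a_rc_0_1 lc_a_rc_3_0 lc_a_rc_3_0 lc_a_rc_2_0 lc_a_rc_3_0 lc_a_rc_5_0 lc_a_rc_2_2 lc_a_rc_0_1 lc_a_rc_3_2 lc_a_rc_0_1 lc_a_rc_21_0 lc_a_rc_0_1 lc_a_rc_3_2 lc_a_rc_4_2 lc_a_rc_4_2 lc_a_rc_5_0 lc_a_rc_4_2 lc_a_rc_3_2 lc_a_rc_0_1 lc_a_rc_5_0 lc_a_rc_21_0 lc_a_rc_4_2 lc_a_rc_0_1 lc_a_rc_3_2 lc_a_rc_4_2 lc_a_rc_4_2 lc_a_rc_3_2 lc_a_rc_5_2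 lc_a_rc_0_1 lc_a_rc_21_0 lc_a_rc_0_1 lc_a_rc_3_2 lc_a_rc_4_2 lc_a_rc_4_2 lc_a_rc_3_2) (@D3.rec (fun _ => (Cert rels S Gen.a)) lc_a_rc_5_2 lc_a_rc_0_1 lc_a_rc_0_1 lc_a_Cert_tree lc_a_rc_0_1 lc_a_rc_0_1 lc_a_rc_5_2 lc_a_rc_2_2 lc_a_rc_2_2 lc_a_rc_4_2 lc_a_rc_3_2 lc_a_rc_4_0 lc_a_rc_4_0 lc_a_rc_1_4 lc_a_rc_4_0 lc_a_rc_4_2 lc_a_rc_5_2 lc_a_rc_4_2 lc_a_rc_4_2 lc_a_rc_3_2 lc_a_rc_5_2 lc_a_rc_21_0 lc_a_rc_0_1 lc_a_rc_0_1 lc_a_rc_21_0 lc_a_rc_0_1 lc_a_rc_0_1 lc_a_rc_1_2 lc_a_rc_0_1 lc_a_rc_0_1 lc_a_rc_4_2 lc_a_rc_3_2 lc_a_rc_5_2 lc_a_rc_2_2 lc_a_rc_2_2 lc_a_rc_0_1 lc_a_rc_4_2 lc_a_rc_3_2 lc_a_rc_5_0 lc_a_rc_21_0 lc_a_rc_1_4 lc_a_rc_3_2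 lc_a_rc_0_1 lc_a_rc_21_0 lc_a_rc_2_2 lc_a_rc_4_2 lc_a_Cert_tree lc_a_rc_4_2 lc_a_rc_4_2 lc_a_rc_4_2 lc_a_rc_22_0 lc_a_rc_3_2 lc_a_Cert_tree lc_a_rc_2_2 lc_a_rc_3_2 lc_a_rc_21_0 lc_a_rc_22_0 lc_a_rc_22_0 lc_a_rc_3_2 lc_a_rc_5_0 lc_a_Cert_tree lc_a_rc_0_1) (@D3.rec (fun _ => (Cert rels S Gen.a)) lc_a_rc_1_2 lc_a_Cert_tree lc_a_rc_4_2 lc_a_rc_4_2 lc_a_rc_21_0 lc_a_rc_0_1 lc_a_rc_4_2 lc_a_rc_3_0 lc_a_rc_2_0 lc_a_rc_2_0 lc_a_rc_4_2 lc_a_rc_5_0 lc_a_rc_3_2 lc_a_rc_5_2 lc_a_Cert_tree lc_a_rc_3_2 lc_a_rc_21_0 lc_a_rc_21_0 lc_a_rc_0_1 lc_a_rc_22_0 lc_a_rc_3_2 lc_a_rc_4_0 lc_a_rc_22_0 lc_a_rc_5_0 lc_a_rc_0_1 lc_a_rc_4_2 lc_a_rc_3_2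 lc_a_rc_1_4 lc_a_rc_2_2 lc_a_rc_3_2 lc_a_rc_2_2 lc_a_rc_5_0 lc_a_rc_4_2 lc_a_rc_3_0 lc_a_rc_21_0 lc_a_rc_4_2 lc_a_rc_4_2 lc_a_rc_5_0 lc_a_rc_4_2 lc_a_rc_3_2 lc_a_rc_3_0 lc_a_rc_5_2 lc_a_rc_3_2 lc_a_rc_21_0 lc_a_Cert_tree lc_a_rc_21_0 lc_a_rc_4_2 lc_a_rc_2_2 lc_a_rc_3_2 lc_a_rc_4_2 lc_a_rc_2_2 lc_a_rc_3_2 lc_a_rc_3_2 lc_a_rc_4_2 lc_a_rc_5_0 lc_a_rc_3_2 lc_a_rc_3_0 lc_a_rc_2_0 lc_a_rc_3_2 lc_a_rc_3_2 lc_a_rc_22_0 lc_a_rc_2_0) (@D3.rec (fun _ => (Cert rels S Gen.a)) lc_a_rc_3_0 lc_a_rc_3_2 lc_a_rc_4_2 lc_a_rc_2_2 lc_a_rc_1_4 lc_a_rc_3_0 lc_a_rc_1_2 lc_a_rc_2_2 lc_a_rc_2_2 lc_a_rc_2_0 lc_a_Cert_tree lc_a_rc_1_0 lc_a_rc_0_1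 lc_a_rc_3_0 lc_a_rc_0_1 lc_a_rc_0_1 lc_a_rc_3_0 lc_a_rc_4_2 lc_a_rc_4_2 lc_a_rc_0_1 lc_a_rc_2_2 lc_a_rc_4_2 lc_a_rc_2_0 lc_a_rc_3_2 lc_a_rc_5_2 lc_a_Cert_tree lc_a_rc_1_4 lc_a_rc_5_0 lc_a_rc_0_1 lc_a_rc_4_2 lc_a_rc_3_0 lc_a_rc_2_2 lc_a_Cert_tree lc_a_rc_5_0 lc_a_rc_4_2 lc_a_rc_3_0 lc_a_rc_4_2 lc_a_rc_21_0 lc_a_rc_2_2 lc_a_rc_0_1 lc_a_rc_4_2 lc_a_rc_3_2 lc_a_rc_2_2 lc_a_rc_0_1 lc_a_rc_4_0 lc_a_rc_3_2 lc_a_rc_4_2 lc_a_rc_2_2 lc_a_rc_4_2 lc_a_rc_3_2 lc_a_rc_5_0 lc_a_rc_2_2 lc_a_rc_0_1 lc_a_rc_0_1 lc_a_rc_22_0 lc_a_rc_4_2 lc_a_rc_4_0 lc_a_rc_3_2 lc_a_rc_1_0 lc_a_rc_1_0 lc_a_rc_3_2 lc_a_rc_21_0) (@D3.rec (fun _ => (Cert rels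 S Gen.a)) lc_a_rc_5_2 lc_a_rc_4_2 lc_a_rc_21_0 lc_a_rc_3_2 lc_a_rc_0_1 lc_a_rc_3_0 lc_a_rc_1_4 lc_a_rc_22_0 lc_a_rc_4_2 lc_a_Cert_tree lc_a_rc_4_2 lc_a_rc_1_2 lc_a_rc_5_2 lc_a_rc_0_1 lc_a_rc_0_1 lc_a_rc_21_0 lc_a_rc_3_2 lc_a_rc_0_1 lc_a_rc_0_1 lc_a_rc_3_2 lc_a_rc_4_2 lc_a_rc_4_2 lc_a_rc_3_2 lc_a_rc_21_0 lc_a_rc_4_2 lc_a_rc_4_2 lc_a_rc_3_2 lc_a_rc_22_0 lc_a_rc_3_2 lc_a_rc_5_0 lc_a_rc_3_0 lc_a_rc_1_4 lc_a_rc_4_0 lc_a_rc_4_2 lc_a_rc_3_2 lc_a_rc_3_2 lc_a_rc_21_0 lc_a_rc_4_2 lc_a_rc_3_2 lc_a_rc_2_2 lc_a_rc_1_2 lc_a_rc_5_2 lc_a_rc_0_1 lc_a_rc_21_0 lc_a_rc_5_2 lc_a_rc_21_0 lc_a_rc_1_4 lc_a_rc_0_1 lc_a_rc_3_2 lc_a_rc_3_2 lc_a_rc_3_0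 lc_a_rc_0_1 lc_a_rc_1_2 lc_a_rc_5_0 lc_a_rc_4_2 lc_a_rc_0_1 lc_a_rc_0_1 lc_a_rc_1_4 lc_a_rc_2_2 lc_a_rc_1_4 lc_a_rc_0_1 lc_a_rc_3_2) (@D3.rec (fun _ => (Cert rels S Gen.a)) lc_a_rc_4_2 lc_a_rc_4_2 lc_a_rc_21_0 lc_a_rc_0_1 lc_a_rc_0_1 lc_a_rc_4_0 lc_a_rc_4_2 lc_a_rc_2_2 lc_a_rc_3_2 lc_a_rc_0_1 lc_a_rc_3_2 lc_a_rc_3_0 lc_a_rc_4_0 lc_a_rc_2_2 lc_a_rc_4_0 lc_a_rc_5_2 lc_a_rc_1_4 lc_a_rc_1_4 lc_a_Cert_tree lc_a_Cert_tree lc_a_rc_4_2 lc_a_rc_0_1 lc_a_rc_4_0 lc_a_rc_2_2 lc_a_rc_1_2 lc_a_rc_4_2 lc_a_rc_0_1 lc_a_rc_4_2 lc_a_rc_3_2 lc_a_rc_5_2 lc_a_Cert_tree lc_a_rc_2_2 lc_a_rc_0_1 lc_a_rc_21_0 lc_a_rc_2_2 lc_a_Cert_tree lc_a_rc_3_2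 lc_a_rc_21_0 lc_a_rc_0_1 lc_a_rc_4_2 lc_a_rc_2_2 lc_a_rc_3_2 lc_a_rc_5_2 lc_a_rc_21_0 lc_a_rc_21_0 lc_a_rc_2_2 lc_a_rc_21_0 lc_a_rc_0_1 lc_a_rc_2_2 lc_a_rc_21_0 lc_a_rc_0_1 lc_a_rc_0_1 lc_a_rc_2_2 lc_a_rc_3_0 lc_a_rc_3_0 lc_a_rc_3_2 lc_a_rc_4_2 lc_a_rc_2_2 lc_a_rc_2_0 lc_a_rc_1_4 lc_a_rc_4_2 lc_a_rc_0_1) (@D3.rec (fun _ => (Cert rels S Gen.a)) lc_a_rc_2_0 lc_a_rc_3_2 lc_a_rc_5_2 lc_a_Cert_tree lc_a_rc_4_2 lc_a_Cert_tree lc_a_rc_4_2 lc_a_rc_3_2 lc_a_rc_4_0 lc_a_rc_2_2 lc_a_rc_4_2 lc_a_Cert_tree lc_a_rc_5_0 lc_a_Cert_tree lc_a_rc_3_2 lc_a_rc_0_1 lc_a_rc_0_1 lc_a_rc_22_0 lc_a_rc_21_0 lc_a_rc_3_2 lc_a_rc_2_2 lc_a_Cert_tree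 lc_a_rc_5_0 lc_a_rc_21_0 lc_a_rc_1_2 lc_a_rc_2_2 lc_a_rc_2_2 lc_a_rc_3_2 lc_a_rc_4_2 lc_a_rc_2_2 lc_a_rc_4_0 lc_a_rc_2_2 lc_a_rc_2_2 lc_a_rc_21_0 lc_a_rc_3_2 lc_a_rc_22_0 lc_a_rc_0_1 lc_a_rc_4_2 lc_a_rc_21_0 lc_a_Cert_tree lc_a_rc_4_2 lc_a_Cert_tree lc_a_rc_22_0 lc_a_rc_5_2 lc_a_rc_2_2 lc_a_rc_4_2 lc_a_rc_1_4 lc_a_rc_3_2 lc_a_rc_3_2 lc_a_rc_2_2 lc_a_rc_4_0 lc_a_rc_3_2 lc_a_rc_5_2 lc_a_rc_0_1 lc_a_rc_3_2 lc_a_rc_4_2 lc_a_rc_2_0 lc_a_rc_21_0 lc_a_rc_2_2 lc_a_rc_4_2 lc_a_rc_1_0 lc_a_rc_3_2) (@D3.rec (fun _ => (Cert rels S Gen.a)) lc_a_rc_21_0 lc_a_rc_5_0 lc_a_rc_4_0 lc_a_rc_3_2 lc_a_rc_5_2 lc_a_rc_0_1 lc_a_rc_2_2 lc_a_rc_21_0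 lc_a_rc_3_0 lc_a_rc_21_0 lc_a_rc_2_2 lc_a_rc_1_4 lc_a_rc_0_1 lc_a_rc_3_0 lc_a_rc_3_2 lc_a_rc_4_2 lc_a_rc_0_1 lc_a_rc_2_2 lc_a_rc_5_2 lc_a_rc_4_2 lc_a_rc_4_2 lc_a_rc_4_0 lc_a_rc_3_2 lc_a_rc_5_2 lc_a_rc_4_0 lc_a_rc_1_2 lc_a_rc_3_2 lc_a_rc_5_2 lc_a_rc_2_2 lc_a_rc_0_1 lc_a_rc_3_2 lc_a_rc_4_2 lc_a_rc_5_2 lc_a_rc_3_2 lc_a_rc_4_2 lc_a_rc_21_0 lc_a_rc_3_2 lc_a_rc_21_0 lc_a_rc_4_2 lc_a_rc_3_2 lc_a_rc_2_2 lc_a_rc_3_2 lc_a_rc_0_1 lc_a_rc_3_2 lc_a_rc_5_2 lc_a_rc_0_1 lc_a_rc_0_1 lc_a_rc_3_2 lc_a_rc_3_2 lc_a_rc_3_2 lc_a_rc_2_2 lc_a_rc_4_2 lc_a_Cert_tree lc_a_rc_21_0 lc_a_rc_4_2 lc_a_Cert_tree lc_a_rc_2_2 lc_a_rc_4_2 lc_a_rc_3_0 lc_a_rc_2_2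 lc_a_rc_3_0 lc_a_rc_0_1) (@D3.rec (fun _ => (Cert rels S Gen.a)) lc_a_rc_1_4 lc_a_rc_1_4 lc_a_rc_2_2 lc_a_rc_21_0 lc_a_rc_3_2 lc_a_rc_3_2 lc_a_rc_4_0 lc_a_rc_2_2 lc_a_rc_0_1 lc_a_rc_4_0 lc_a_rc_3_2 lc_a_rc_1_2 lc_a_rc_4_2 lc_a_rc_4_2 lc_a_rc_4_0 lc_a_rc_5_0 lc_a_rc_4_2 lc_a_rc_2_0 lc_a_rc_3_2 lc_a_Cert_tree lc_a_rc_2_2 lc_a_rc_3_2 lc_a_rc_0_1 lc_a_Cert_tree lc_a_rc_2_2 lc_a_rc_0_1 lc_a_rc_3_2 lc_a_rc_3_0 lc_a_rc_3_0 lc_a_rc_4_2 lc_a_rc_5_0 lc_a_rc_2_2 lc_a_rc_2_2 lc_a_rc_1_2 lc_a_rc_2_2 lc_a_rc_5_2 lc_a_rc_4_2 lc_a_rc_4_2 lc_a_rc_3_2 lc_a_rc_0_1 lc_a_rc_4_2 lc_a_rc_22_0 lc_a_rc_0_1 lc_a_rc_2_2 lc_a_rc_2_2 lc_a_rc_5_0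 lc_a_rc_4_2 lc_a_rc_21_0 lc_a_rc_2_2 lc_a_rc_2_2 lc_a_rc_21_0 lc_a_rc_5_0 lc_a_rc_3_2 lc_a_rc_5_2 lc_a_rc_0_1 lc_a_rc_0_1 lc_a_rc_21_0 lc_a_rc_0_1 lc_a_rc_2_2 lc_a_rc_21_0 lc_a_rc_3_0 lc_a_rc_2_2) (@D3.rec (fun _ => (Cert rels S Gen.a)) lc_a_rc_3_2 lc_a_rc_3_0 lc_a_rc_5_0 lc_a_rc_5_0 lc_a_rc_2_2 lc_a_rc_21_0 lc_a_rc_5_0 lc_a_rc_21_0 lc_a_rc_3_2 lc_a_rc_4_2 lc_a_rc_5_0 lc_a_Cert_tree lc_a_rc_3_2 lc_a_rc_5_2 lc_a_Cert_tree lc_a_rc_0_1 lc_a_rc_21_0 lc_a_rc_0_1 lc_a_rc_4_2 lc_a_rc_0_1 lc_a_rc_21_0 lc_a_rc_21_0 lc_a_Cert_tree lc_a_rc_21_0 lc_a_rc_3_0 lc_a_rc_4_2 lc_a_rc_3_0 lc_a_rc_21_0 lc_a_Cert_tree lc_a_rc_0_1 lc_a_Cert_tree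 lc_a_rc_21_0 lc_a_rc_0_1 lc_a_rc_2_2 lc_a_rc_5_2 lc_a_rc_3_2 lc_a_rc_1_4 lc_a_rc_4_2 lc_a_rc_1_4 lc_a_rc_4_2 lc_a_rc_21_0 lc_a_rc_4_2 lc_a_rc_4_2 lc_a_rc_0_1 lc_a_rc_3_2 lc_a_rc_3_2 lc_a_rc_5_0 lc_a_rc_3_2 lc_a_rc_21_0 lc_a_Cert_tree lc_a_rc_3_2 lc_a_Cert_tree lc_a_rc_4_0 lc_a_rc_3_2 lc_a_rc_3_2 lc_a_rc_2_2 lc_a_rc_2_2 lc_a_rc_3_2 lc_a_rc_3_2 lc_a_rc_4_2 lc_a_rc_3_2 lc_a_rc_3_2) (@D3.rec (fun _ => (Cert rels S Gen.a)) lc_a_rc_3_2 lc_a_rc_4_2 lc_a_rc_4_2 lc_a_rc_1_0 lc_a_rc_21_0 lc_a_rc_4_0 lc_a_rc_3_2 lc_a_rc_3_2 lc_a_rc_5_2 lc_a_rc_2_0 lc_a_rc_0_1 lc_a_rc_2_2 lc_a_rc_5_2 lc_a_rc_21_0 lc_a_rc_21_0 lc_a_rc_0_1 lc_a_rc_2_2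 lc_a_rc_3_2 lc_a_rc_0_1 lc_a_rc_3_2 lc_a_rc_4_2 lc_a_rc_0_1 lc_a_rc_2_2 lc_a_rc_4_2 lc_a_rc_4_2 lc_a_rc_5_2 lc_a_rc_3_2 lc_a_rc_4_2 lc_a_rc_2_2 lc_a_rc_4_2 lc_a_rc_5_2 lc_a_rc_5_0 lc_a_rc_3_2 lc_a_rc_0_1 lc_a_rc_1_2 lc_a_rc_0_1 lc_a_rc_21_0 lc_a_rc_4_0 lc_a_rc_4_2 lc_a_rc_3_2 lc_a_rc_1_2 lc_a_rc_4_2 lc_a_rc_2_2 lc_a_rc_21_0 lc_a_rc_0_1 lc_a_rc_0_1 lc_a_rc_0_1 lc_a_rc_3_2 lc_a_rc_3_0 lc_a_rc_4_2 lc_a_rc_5_2 lc_a_rc_4_2 lc_a_rc_22_0 lc_a_rc_3_2 lc_a_rc_2_0 lc_a_rc_4_2 lc_a_rc_3_0 lc_a_rc_3_0 lc_a_rc_3_0 lc_a_rc_3_2 lc_a_rc_4_0 lc_a_rc_1_4) (@D3.rec (fun _ => (Cert rels S Gen.a)) lc_a_rc_5_0 lc_a_rc_22_0 lc_a_rc_2_2 lc_a_rc_2_2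 lc_a_rc_4_0 lc_a_rc_2_0 lc_a_rc_0_1 lc_a_rc_2_2 lc_a_rc_3_0 lc_a_rc_5_0 lc_a_rc_21_0 lc_a_rc_0_1 lc_a_rc_2_2 lc_a_rc_2_2 lc_a_rc_3_0 lc_a_rc_4_0 lc_a_rc_0_1 lc_a_rc_3_2 lc_a_rc_21_0 lc_a_rc_4_0 lc_a_rc_4_2 lc_a_rc_22_0 lc_a_rc_3_2 lc_a_rc_0_1 lc_a_rc_3_2 lc_a_rc_0_1 lc_a_rc_4_0 lc_a_rc_0_1 lc_a_rc_21_0 lc_a_rc_3_2 lc_a_rc_4_2 lc_a_rc_4_2 lc_a_rc_3_2 lc_a_rc_3_0 lc_a_Cert_tree lc_a_rc_21_0 lc_a_rc_4_2 lc_a_Cert_tree lc_a_rc_2_2 lc_a_rc_3_2 lc_a_rc_2_2 lc_a_Cert_tree lc_a_rc_22_0 lc_a_rc_22_0 lc_a_rc_4_2 lc_a_Cert_tree lc_a_rc_5_2 lc_a_rc_0_1 lc_a_rc_4_0 lc_a_rc_3_0 lc_a_rc_21_0 lc_a_rc_1_4 lc_a_rc_5_0 lc_a_rc_4_2 lc_a_rc_2_2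 lc_a_rc_4_2 lc_a_rc_5_2 lc_a_rc_5_0 lc_a_rc_4_2 lc_a_rc_3_2 lc_a_Cert_tree lc_a_rc_2_2) (@D3.rec (fun _ => (Cert rels S Gen.a)) lc_a_rc_21_0 lc_a_Cert_tree lc_a_rc_1_4 lc_a_rc_0_1 lc_a_rc_3_2 lc_a_rc_21_0 lc_a_rc_3_2 lc_a_rc_5_0 lc_a_rc_2_2 lc_a_rc_3_2 lc_a_rc_3_2 lc_a_rc_1_2 lc_a_rc_21_0 lc_a_rc_0_1 lc_a_rc_3_2 lc_a_rc_4_2 lc_a_rc_1_0 lc_a_rc_2_0 lc_a_rc_1_2 lc_a_rc_4_2 lc_a_rc_0_1 lc_a_rc_4_2 lc_a_rc_21_0 lc_a_rc_4_2 lc_a_rc_1_4 lc_a_rc_1_4 lc_a_rc_5_2 lc_a_rc_21_0 lc_a_rc_0_1 lc_a_rc_2_2 lc_a_rc_3_2 lc_a_rc_2_2 lc_a_rc_21_0 lc_a_rc_1_4 lc_a_rc_2_2 lc_a_rc_3_2 lc_a_rc_0_1 lc_a_rc_3_2 lc_a_rc_4_2 lc_a_rc_22_0 lc_a_rc_4_2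 lc_a_rc_2_2 lc_a_rc_5_0 lc_a_rc_4_0 lc_a_rc_21_0 lc_a_rc_3_2 lc_a_rc_4_2 lc_a_rc_2_0 lc_a_rc_2_0 lc_a_rc_3_2 lc_a_rc_5_2 lc_a_rc_1_4 lc_a_rc_3_2 lc_a_rc_5_0 lc_a_rc_3_2 lc_a_rc_2_2 lc_a_rc_3_2 lc_a_rc_4_0 lc_a_rc_0_1 lc_a_rc_4_2 lc_a_rc_2_2 lc_a_rc_4_2) (@D3.rec (fun _ => (Cert rels S Gen.a)) lc_a_rc_1_4 lc_a_rc_3_0 lc_a_rc_5_2 lc_a_rc_3_2 lc_a_rc_4_2 lc_a_rc_21_0 lc_a_rc_4_2 lc_a_rc_1_4 lc_a_rc_0_1 lc_a_rc_21_0 lc_a_rc_2_0 lc_a_rc_3_2 lc_a_rc_1_2 lc_a_rc_1_2 lc_a_rc_3_2 lc_a_rc_2_2 lc_a_rc_4_2 lc_a_rc_4_2 lc_a_rc_2_2 lc_a_rc_2_2 lc_a_rc_2_2 lc_a_rc_4_2 lc_a_rc_3_2 lc_a_rc_2_2 lc_a_rc_4_2 lc_a_rc_1_4 lc_a_rc_3_2 lc_a_Cert_tree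 lc_a_rc_3_0 lc_a_rc_3_2 lc_a_rc_2_0 lc_a_rc_0_1 lc_a_rc_3_2 lc_a_rc_3_2 lc_a_rc_3_2 lc_a_rc_21_0 lc_a_Cert_tree lc_a_rc_4_2 lc_a_rc_21_0 lc_a_rc_0_1 lc_a_rc_1_0 lc_a_rc_3_2 lc_a_rc_0_1 lc_a_rc_0_1 lc_a_rc_5_2 lc_a_rc_2_2 lc_a_rc_4_0 lc_a_rc_3_0 lc_a_rc_2_0 lc_a_rc_1_2 lc_a_rc_4_2 lc_a_rc_4_2 lc_a_rc_4_2 lc_a_rc_4_2 lc_a_rc_5_2 lc_a_rc_21_0 lc_a_rc_0_1 lc_a_rc_2_0 lc_a_rc_3_0 lc_a_rc_21_0 lc_a_rc_4_2 lc_a_rc_3_2) (@D3.rec (fun _ => (Cert rels S Gen.a)) lc_a_rc_3_2 lc_a_rc_2_2 lc_a_rc_1_0 lc_a_rc_21_0 lc_a_rc_0_1 lc_a_rc_1_4 lc_a_rc_22_0 lc_a_rc_2_0 lc_a_Cert_tree lc_a_rc_0_1 lc_a_rc_4_2 lc_a_Cert_tree lc_a_rc_21_0 lc_a_rc_3_0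 lc_a_rc_21_0 lc_a_rc_0_1 lc_a_Cert_tree lc_a_rc_5_0 lc_a_rc_5_2 lc_a_rc_3_2 lc_a_Cert_tree lc_a_rc_3_2 lc_a_rc_0_1 lc_a_rc_3_2 lc_a_rc_4_2 lc_a_rc_3_2 lc_a_rc_5_0 lc_a_rc_2_2 lc_a_rc_4_2 lc_a_rc_3_0 lc_a_rc_3_2 lc_a_rc_2_2 lc_a_rc_0_1 lc_a_rc_4_2 lc_a_rc_21_0 lc_a_rc_3_2 lc_a_rc_2_0 lc_a_rc_4_0 lc_a_rc_0_1 lc_a_rc_1_4 lc_a_rc_1_4 lc_a_rc_0_1 lc_a_rc_2_2 lc_a_rc_3_2 lc_a_rc_3_2 lc_a_rc_0_1 lc_a_rc_0_1 lc_a_rc_3_2 lc_a_rc_4_2 lc_a_rc_0_1 lc_a_rc_3_2 lc_a_rc_3_2 lc_a_rc_3_0 lc_a_rc_0_1 lc_a_rc_5_2 lc_a_rc_4_2 lc_a_rc_4_2 lc_a_rc_3_2 lc_a_rc_2_2 lc_a_rc_3_0 lc_a_rc_2_2 lc_a_rc_3_2) (@D3.rec (fun _ => (Cert rels S Gen.a))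 lc_a_rc_2_2 lc_a_rc_21_0 lc_a_rc_4_2 lc_a_rc_4_2 lc_a_rc_3_0 lc_a_rc_3_2 lc_a_rc_4_2 lc_a_rc_4_2 lc_a_rc_4_2 lc_a_rc_2_2 lc_a_rc_2_2 lc_a_rc_2_2 lc_a_rc_5_2 lc_a_rc_1_2 lc_a_rc_2_2 lc_a_rc_1_0 lc_a_rc_5_2 lc_a_rc_2_2 lc_a_rc_21_0 lc_a_rc_21_0 lc_a_rc_5_0 lc_a_rc_4_2 lc_a_rc_4_0 lc_a_rc_4_2 lc_a_rc_4_2 lc_a_rc_3_0 lc_a_rc_3_0 lc_a_rc_2_2 lc_a_rc_1_0 lc_a_rc_21_0 lc_a_rc_1_4 lc_a_rc_1_4 lc_a_rc_3_2 lc_a_rc_4_2 lc_a_rc_0_1 lc_a_rc_4_2 lc_a_rc_1_2 lc_a_rc_3_2 lc_a_rc_0_1 lc_a_rc_5_0 lc_a_rc_3_2 lc_a_rc_3_2 lc_a_rc_2_0 lc_a_rc_3_2 lc_a_rc_5_2 lc_a_rc_4_2 lc_a_rc_5_0 lc_a_Cert_tree lc_a_rc_1_0 lc_a_rc_4_0 lc_a_rc_3_2 lc_a_rc_0_1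 lc_a_rc_2_0 lc_a_rc_2_2 lc_a_rc_2_0 lc_a_rc_1_2 lc_a_rc_2_2 lc_a_rc_3_2 lc_a_rc_1_0 lc_a_rc_4_2 lc_a_rc_4_2 lc_a_rc_2_2) (@D3.rec (fun _ => (Cert rels S Gen.a)) lc_a_rc_4_2 lc_a_rc_5_2 lc_a_rc_0_1 lc_a_rc_2_2 lc_a_rc_4_2 lc_a_rc_3_2 lc_a_rc_4_2 lc_a_rc_2_0 lc_a_rc_0_1 lc_a_rc_21_0 lc_a_rc_1_0 lc_a_rc_0_1 lc_a_rc_21_0 lc_a_rc_1_4 lc_a_rc_0_1 lc_a_rc_2_0 lc_a_rc_0_1 lc_a_rc_4_2 lc_a_rc_4_2 lc_a_rc_3_2 lc_a_rc_5_2 lc_a_rc_1_4 lc_a_rc_0_1 lc_a_rc_3_2 lc_a_rc_21_0 lc_a_rc_3_2 lc_a_rc_2_2 lc_a_rc_4_2 lc_a_rc_4_0 lc_a_rc_5_2 lc_a_rc_4_2 lc_a_rc_21_0 lc_a_Cert_tree lc_a_rc_3_2 lc_a_rc_2_2 lc_a_rc_5_2 lc_a_rc_5_0 lc_a_rc_2_2 lc_a_rc_0_1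 lc_a_rc_0_1 lc_a_rc_1_4 lc_a_rc_3_2 lc_a_rc_4_2 lc_a_rc_5_2 lc_a_rc_2_2 lc_a_rc_2_2 lc_a_rc_21_0 lc_a_rc_1_4 lc_a_rc_2_2 lc_a_rc_4_2 lc_a_rc_4_0 lc_a_rc_21_0 lc_a_rc_3_2 lc_a_Cert_tree lc_a_rc_4_2 lc_a_rc_1_4 lc_a_rc_21_0 lc_a_rc_4_2 lc_a_rc_3_2 lc_a_rc_0_1 lc_a_rc_3_2 lc_a_rc_2_2) (@D3.rec (fun _ => (Cert rels S Gen.a)) lc_a_rc_0_1 lc_a_rc_2_2 lc_a_rc_21_0 lc_a_rc_0_1 lc_a_rc_5_0 lc_a_rc_1_0 lc_a_rc_1_4 lc_a_rc_4_2 lc_a_rc_4_0 lc_a_rc_2_2 lc_a_rc_0_1 lc_a_rc_2_2 lc_a_rc_4_0 lc_a_rc_2_2 lc_a_rc_21_0 lc_a_rc_3_2 lc_a_rc_5_0 lc_a_Cert_tree lc_a_rc_3_2 lc_a_Cert_tree lc_a_rc_22_0 lc_a_rc_2_2 lc_a_Cert_tree lc_a_rc_0_1 lc_a_rc_0_1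 lc_a_rc_3_2 lc_a_rc_21_0 lc_a_rc_4_2 lc_a_rc_2_0 lc_a_rc_1_0 lc_a_rc_4_2 lc_a_rc_3_2 lc_a_rc_0_1 lc_a_rc_1_2 lc_a_rc_2_0 lc_a_rc_2_2 lc_a_rc_3_0 lc_a_rc_1_4 lc_a_rc_2_2 lc_a_rc_3_2 lc_a_rc_2_0 lc_a_rc_4_2 lc_a_rc_3_2 lc_a_rc_4_2 lc_a_rc_2_2 lc_a_rc_21_0 lc_a_rc_1_2 lc_a_rc_0_1 lc_a_rc_3_2 lc_a_rc_4_2 lc_a_rc_1_4 lc_a_rc_3_0 lc_a_rc_21_0 lc_a_rc_21_0 lc_a_rc_3_2 lc_a_rc_4_2 lc_a_rc_0_1 lc_a_rc_3_0 lc_a_rc_2_2 lc_a_rc_3_0 lc_a_rc_2_2 lc_a_rc_4_2) (@D3.rec (fun _ => (Cert rels S Gen.a)) lc_a_rc_0_1 lc_a_rc_21_0 lc_a_rc_4_2 lc_a_rc_5_2 lc_a_rc_3_2 lc_a_rc_5_0 lc_a_rc_3_2 lc_a_rc_0_1 lc_a_rc_1_4 lc_a_rc_4_2 lc_a_rc_3_2 lc_a_rc_22_0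 lc_a_rc_4_2 lc_a_rc_4_2 lc_a_rc_4_2 lc_a_rc_3_0 lc_a_rc_0_1 lc_a_rc_3_2 lc_a_rc_21_0 lc_a_rc_3_2 lc_a_rc_4_2 lc_a_rc_2_0 lc_a_rc_2_0 lc_a_rc_2_2 lc_a_rc_5_0 lc_a_rc_22_0 lc_a_rc_21_0 lc_a_rc_1_0 lc_a_rc_4_2 lc_a_rc_21_0 lc_a_rc_5_0 lc_a_rc_4_2 lc_a_rc_1_4 lc_a_rc_2_2 lc_a_rc_2_2 lc_a_rc_3_2 lc_a_rc_4_2 lc_a_rc_21_0 lc_a_rc_3_0 lc_a_rc_4_2 lc_a_rc_2_2 lc_a_rc_4_2 lc_a_rc_3_2 lc_a_rc_2_0 lc_a_rc_4_2 lc_a_rc_2_2 lc_a_rc_3_2 lc_a_rc_3_2 lc_a_rc_3_2 lc_a_rc_4_2 lc_a_rc_0_1 lc_a_rc_5_2 lc_a_rc_4_2 lc_a_rc_3_2 lc_a_rc_1_2 lc_a_rc_3_2 lc_a_rc_1_2 lc_a_rc_4_2 lc_a_rc_3_2 lc_a_rc_0_1 lc_a_rc_2_2 lc_a_rc_4_2) (@D3.rec (fun _ =>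 (Cert rels S Gen.a)) lc_a_rc_3_2 lc_a_rc_3_2 lc_a_rc_5_2 lc_a_rc_2_2 lc_a_rc_4_2 lc_a_rc_2_2 lc_a_rc_2_2 lc_a_rc_1_4 lc_a_rc_3_2 lc_a_rc_1_0 lc_a_rc_2_2 lc_a_rc_4_2 lc_a_rc_3_2 lc_a_rc_3_0 lc_a_rc_2_2 lc_a_rc_3_2 lc_a_rc_3_2 lc_a_rc_4_2 lc_a_rc_2_0 lc_a_rc_4_2 lc_a_rc_21_0 lc_a_rc_21_0 lc_a_rc_3_2 lc_a_rc_2_0 lc_a_rc_2_2 lc_a_rc_2_2 lc_a_rc_4_2 lc_a_rc_22_0 lc_a_rc_3_2 lc_a_rc_2_2 lc_a_rc_4_2 lc_a_rc_0_1 lc_a_rc_21_0 lc_a_rc_4_2 lc_a_rc_3_2 lc_a_rc_2_2 lc_a_rc_0_1 lc_a_rc_5_2 lc_a_rc_4_2 lc_a_rc_2_2 lc_a_rc_5_0 lc_a_Cert_tree lc_a_rc_3_2 lc_a_rc_4_2 lc_a_rc_3_0 lc_a_rc_1_4 lc_a_rc_21_0 lc_a_rc_4_2 lc_a_rc_1_2 lc_a_rc_2_2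 lc_a_rc_1_0 lc_a_rc_2_0 lc_a_Cert_tree lc_a_rc_21_0 lc_a_rc_2_2 lc_a_rc_3_2 lc_a_rc_2_2 lc_a_rc_3_2 lc_a_rc_3_2 lc_a_rc_2_2 lc_a_rc_22_0 lc_a_rc_3_0) (@D3.rec (fun _ => (Cert rels S Gen.a)) lc_a_rc_3_2 lc_a_rc_3_2 lc_a_rc_2_2 lc_a_rc_2_2 lc_a_Cert_tree lc_a_rc_0_1 lc_a_rc_4_2 lc_a_rc_4_2 lc_a_rc_4_0 lc_a_rc_3_0 lc_a_rc_4_2 lc_a_rc_3_2 lc_a_rc_21_0 lc_a_rc_3_0 lc_a_rc_5_2 lc_a_rc_22_0 lc_a_rc_3_0 lc_a_rc_2_0 lc_a_rc_21_0 lc_a_rc_3_0 lc_a_rc_2_0 lc_a_rc_4_2 lc_a_rc_2_2 lc_a_rc_4_2 lc_a_rc_2_2 lc_a_rc_3_0 lc_a_rc_4_2 lc_a_rc_1_0 lc_a_rc_0_1 lc_a_rc_5_2 lc_a_rc_3_2 lc_a_rc_21_0 lc_a_rc_3_2 lc_a_rc_2_2 lc_a_rc_22_0 lc_a_rc_2_2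 lc_a_rc_4_2 lc_a_rc_1_4 lc_a_rc_2_0 lc_a_rc_4_2 lc_a_rc_0_1 lc_a_rc_3_2 lc_a_rc_21_0 lc_a_rc_4_0 lc_a_rc_4_0 lc_a_rc_2_2 lc_a_rc_5_2 lc_a_rc_0_1 lc_a_rc_3_2 lc_a_rc_2_2 lc_a_rc_0_1 lc_a_rc_2_2 lc_a_rc_0_1 lc_a_rc_0_1 lc_a_rc_2_2 lc_a_rc_21_0 lc_a_rc_1_2 lc_a_rc_1_2 lc_a_rc_4_0 lc_a_rc_5_0 lc_a_rc_21_0 lc_a_rc_1_4) (@D3.rec (fun _ => (Cert rels S Gen.a)) lc_a_rc_3_2 lc_a_rc_4_0 lc_a_rc_0_1 lc_a_rc_3_2 lc_a_rc_3_2 lc_a_rc_2_2 lc_a_rc_21_0 lc_a_rc_4_0 lc_a_rc_1_4 lc_a_rc_0_1 lc_a_rc_4_2 lc_a_rc_2_0 lc_a_rc_4_0 lc_a_rc_5_0 lc_a_rc_22_0 lc_a_rc_4_2 lc_a_rc_5_0 lc_a_rc_21_0 lc_a_rc_3_2 lc_a_rc_22_0 lc_a_rc_21_0 lc_a_rc_4_2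 lc_a_rc_3_2 lc_a_rc_5_0 lc_a_rc_3_2 lc_a_rc_2_2 lc_a_rc_2_2 lc_a_rc_3_0 lc_a_rc_4_2 lc_a_rc_3_2 lc_a_rc_4_0 lc_a_rc_1_4 lc_a_rc_0_1 lc_a_rc_21_0 lc_a_rc_4_2 lc_a_rc_2_2 lc_a_rc_3_2 lc_a_rc_2_0 lc_a_rc_21_0 lc_a_rc_0_1 lc_a_rc_0_1 lc_a_rc_1_4 lc_a_rc_5_2 lc_a_rc_4_2 lc_a_rc_21_0 lc_a_rc_5_2 lc_a_rc_3_0 lc_a_rc_0_1 lc_a_rc_0_1 lc_a_rc_3_0 lc_a_rc_5_0 lc_a_rc_0_1 lc_a_rc_22_0 lc_a_rc_3_2 lc_a_rc_0_1 lc_a_rc_0_1 lc_a_rc_1_4 lc_a_rc_3_2 lc_a_rc_3_2 lc_a_rc_4_2 lc_a_rc_3_2 lc_a_rc_3_0) (@D3.rec (fun _ => (Cert rels S Gen.a)) lc_a_rc_2_0 lc_a_rc_3_2 lc_a_rc_1_2 lc_a_Cert_tree lc_a_rc_3_2 lc_a_Cert_tree lc_a_rc_3_2 lc_a_rc_2_2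 lc_a_rc_22_0 lc_a_rc_0_1 lc_a_rc_4_2 lc_a_rc_21_0 lc_a_Cert_tree lc_a_rc_21_0 lc_a_rc_2_2 lc_a_rc_4_2 lc_a_rc_1_2 lc_a_rc_3_2 lc_a_rc_2_2 lc_a_rc_3_2 lc_a_rc_21_0 lc_a_rc_3_2 lc_a_rc_4_2 lc_a_Cert_tree lc_a_rc_4_2 lc_a_rc_2_2 lc_a_rc_1_4 lc_a_rc_2_2 lc_a_rc_4_2 lc_a_rc_5_0 lc_a_rc_21_0 lc_a_rc_0_1 lc_a_rc_1_2 lc_a_rc_3_2 lc_a_rc_3_2 lc_a_rc_0_1 lc_a_rc_21_0 lc_a_rc_1_2 lc_a_rc_4_2 lc_a_rc_3_2 lc_a_rc_3_2 lc_a_rc_2_2 lc_a_rc_0_1 lc_a_rc_22_0 lc_a_rc_4_2 lc_a_rc_3_2 lc_a_rc_3_2 lc_a_rc_3_2 lc_a_rc_2_2 lc_a_rc_2_2 lc_a_rc_2_0 lc_a_Cert_tree lc_a_Cert_tree lc_a_rc_3_0 lc_a_rc_4_2 lc_a_rc_2_0 lc_a_rc_3_0 lc_a_rc_3_2 lc_a_rc_2_2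 lc_a_rc_2_0 lc_a_rc_3_2 lc_a_rc_21_0) (@D3.rec (fun _ => (Cert rels S Gen.a)) lc_a_rc_3_2 lc_a_rc_4_2 lc_a_rc_21_0 lc_a_rc_3_2 lc_a_rc_3_2 lc_a_rc_4_2 lc_a_Cert_tree lc_a_rc_2_2 lc_a_rc_2_0 lc_a_rc_3_0 lc_a_rc_0_1 lc_a_rc_3_2 lc_a_rc_0_1 lc_a_rc_21_0 lc_a_rc_0_1 lc_a_rc_3_0 lc_a_rc_4_2 lc_a_Cert_tree lc_a_rc_3_2 lc_a_rc_4_2 lc_a_rc_3_2 lc_a_rc_3_2 lc_a_rc_2_0 lc_a_rc_21_0 lc_a_rc_2_0 lc_a_rc_3_2 lc_a_rc_21_0 lc_a_rc_4_2 lc_a_rc_2_0 lc_a_rc_3_2 lc_a_rc_5_2 lc_a_Cert_tree lc_a_rc_0_1 lc_a_Cert_tree lc_a_rc_0_1 lc_a_rc_0_1 lc_a_rc_2_2 lc_a_rc_21_0 lc_a_rc_21_0 lc_a_rc_3_2 lc_a_rc_2_2 lc_a_rc_5_0 lc_a_rc_21_0 lc_a_Cert_tree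 lc_a_rc_3_2 lc_a_rc_3_2 lc_a_rc_3_2 lc_a_rc_21_0 lc_a_rc_1_4 lc_a_rc_1_2 lc_a_rc_0_1 lc_a_rc_0_1 lc_a_rc_2_2 lc_a_rc_2_2 lc_a_rc_2_2 lc_a_rc_0_1 lc_a_rc_22_0 lc_a_rc_2_2 lc_a_rc_3_0 lc_a_rc_4_2 lc_a_rc_3_2 lc_a_rc_3_0) (@D3.rec (fun _ => (Cert rels S Gen.a)) lc_a_rc_3_2 lc_a_rc_4_0 lc_a_rc_21_0 lc_a_rc_1_2 lc_a_rc_4_2 lc_a_rc_4_0 lc_a_rc_4_2 lc_a_rc_1_2 lc_a_rc_2_2 lc_a_rc_2_0 lc_a_rc_3_2 lc_a_rc_3_2 lc_a_Cert_tree lc_a_rc_3_2 lc_a_rc_2_2 lc_a_rc_21_0 lc_a_rc_3_2 lc_a_rc_4_2 lc_a_rc_3_2 lc_a_rc_1_2 lc_a_rc_3_2 lc_a_rc_4_2 lc_a_rc_2_2 lc_a_rc_3_2 lc_a_rc_4_2 lc_a_rc_0_1 lc_a_rc_4_2 lc_a_rc_1_2 lc_a_rc_3_2 lc_a_rc_21_0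 lc_a_rc_3_0 lc_a_rc_5_2 lc_a_rc_2_0 lc_a_rc_3_2 lc_a_rc_3_2 lc_a_rc_3_2 lc_a_rc_1_4 lc_a_rc_2_2 lc_a_rc_2_2 lc_a_rc_0_1 lc_a_rc_3_0 lc_a_rc_1_4 lc_a_rc_5_2 lc_a_rc_2_2 lc_a_rc_1_4 lc_a_rc_2_2 lc_a_rc_2_2 lc_a_rc_2_2 lc_a_rc_2_2 lc_a_Cert_tree lc_a_rc_21_0 lc_a_rc_4_2 lc_a_rc_3_2 lc_a_rc_3_2 lc_a_rc_4_2 lc_a_rc_3_2 lc_a_rc_3_2 lc_a_rc_4_2 lc_a_rc_2_2 lc_a_rc_3_2 lc_a_rc_4_2 lc_a_rc_3_0) (@D3.rec (fun _ => (Cert rels S Gen.a)) lc_a_rc_3_0 lc_a_rc_1_4 lc_a_rc_4_0 lc_a_rc_3_2 lc_a_rc_3_0 lc_a_rc_3_2 lc_a_rc_2_2 lc_a_rc_0_1 lc_a_rc_3_2 lc_a_rc_4_2 lc_a_rc_1_2 lc_a_rc_2_0 lc_a_rc_2_0 lc_a_rc_2_0 lc_a_rc_3_2 lc_a_rc_3_0 lc_a_rc_2_0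 lc_a_rc_3_2 lc_a_rc_5_2 lc_a_rc_1_2 lc_a_rc_0_1 lc_a_rc_3_2 lc_a_rc_0_1 lc_a_rc_3_0 lc_a_rc_21_0 lc_a_rc_3_2 lc_a_rc_3_2 lc_a_rc_2_0 lc_a_rc_4_2 lc_a_rc_2_0 lc_a_rc_2_0 lc_a_rc_2_0 lc_a_rc_2_2 lc_a_rc_4_2 lc_a_rc_0_1 lc_a_rc_4_0 lc_a_rc_5_2 lc_a_rc_0_1 lc_a_rc_2_0 lc_a_rc_2_0 lc_a_rc_2_2 lc_a_rc_2_0 lc_a_rc_2_0 lc_a_rc_3_2 lc_a_rc_5_2 lc_a_rc_4_2 lc_a_rc_2_2 lc_a_rc_2_0 lc_a_rc_3_2 lc_a_rc_3_2 lc_a_rc_4_2 lc_a_rc_2_2 lc_a_rc_3_2 lc_a_rc_21_0 lc_a_rc_0_1 lc_a_rc_2_0 lc_a_rc_0_1 lc_a_rc_1_4 lc_a_rc_21_0 lc_a_rc_4_2 lc_a_rc_3_2 lc_a_rc_2_2) (@D3.rec (fun _ => (Cert rels S Gen.a)) lc_a_rc_3_2 lc_a_rc_4_2 lc_a_rc_5_2 lc_a_rc_3_2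 lc_a_rc_4_2 lc_a_rc_3_2 lc_a_rc_4_2 lc_a_rc_21_0 lc_a_rc_0_1 lc_a_rc_2_2 lc_a_rc_3_2 lc_a_rc_0_1 lc_a_rc_2_0 lc_a_rc_2_0 lc_a_rc_0_1 lc_a_rc_21_0 lc_a_rc_3_2 lc_a_rc_4_2 lc_a_rc_21_0 lc_a_rc_3_2 lc_a_rc_21_0 lc_a_rc_3_0 lc_a_rc_21_0 lc_a_rc_3_2 lc_a_rc_4_2 lc_a_rc_5_0 lc_a_rc_22_0 lc_a_rc_2_2 lc_a_rc_3_2 lc_a_rc_4_2 lc_a_Cert_tree lc_a_rc_0_1 lc_a_rc_3_2 lc_a_rc_4_2 lc_a_rc_2_2 lc_a_rc_3_2 lc_a_rc_2_2 lc_a_rc_1_2 lc_a_rc_3_0 lc_a_rc_3_2 lc_a_rc_4_2 lc_a_rc_3_2 lc_a_rc_3_2 lc_a_rc_4_2 lc_a_rc_0_1 lc_a_rc_0_1 lc_a_rc_0_1 lc_a_rc_2_2 lc_a_rc_21_0 lc_a_rc_5_0 lc_a_rc_2_2 lc_a_rc_3_2 lc_a_rc_4_2 lc_a_rc_2_2 lc_a_rc_4_2 lc_a_rc_0_1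 lc_a_rc_21_0 lc_a_rc_0_1 lc_a_rc_5_2 lc_a_rc_3_2 lc_a_rc_3_2 lc_a_rc_2_2) (@D3.rec (fun _ => (Cert rels S Gen.a)) lc_a_rc_5_2 lc_a_rc_4_2 lc_a_rc_0_1 lc_a_rc_2_2 lc_a_rc_5_2 lc_a_rc_22_0 lc_a_rc_3_2 lc_a_rc_4_2 lc_a_rc_0_1 lc_a_rc_4_0 lc_a_rc_21_0 lc_a_rc_0_1 lc_a_rc_21_0 lc_a_rc_0_1 lc_a_rc_2_2 lc_a_rc_4_2 lc_a_rc_4_2 lc_a_rc_2_2 lc_a_rc_3_2 lc_a_rc_21_0 lc_a_rc_2_2 lc_a_rc_0_1 lc_a_rc_4_2 lc_a_rc_21_0 lc_a_rc_21_0 lc_a_rc_3_2 lc_a_rc_4_2 lc_a_rc_0_1 lc_a_rc_3_0 lc_a_rc_3_2 lc_a_rc_4_2 lc_a_rc_4_0 lc_a_rc_5_0 lc_a_rc_3_2 lc_a_rc_5_2 lc_a_rc_21_0 lc_a_rc_4_0 lc_a_rc_3_2 lc_a_rc_5_2 lc_a_Cert_tree lc_a_rc_5_0 lc_a_rc_3_0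 lc_a_rc_3_2 lc_a_rc_22_0 lc_a_rc_3_2 lc_a_rc_21_0 lc_a_rc_3_2 lc_a_rc_3_2 lc_a_rc_21_0 lc_a_rc_1_2 lc_a_rc_2_2 lc_a_rc_5_0 lc_a_rc_3_2 lc_a_rc_4_2 lc_a_rc_1_4 lc_a_rc_3_2 lc_a_rc_2_2 lc_a_rc_4_2 lc_a_rc_4_2 lc_a_rc_4_0 lc_a_rc_3_2 lc_a_rc_5_2) (@D3.rec (fun _ => (Cert rels S Gen.a)) lc_a_rc_5_0 lc_a_rc_4_0 lc_a_rc_3_2 lc_a_rc_5_2 lc_a_rc_0_1 lc_a_rc_2_2 lc_a_rc_5_2 lc_a_rc_5_2 lc_a_rc_3_2 lc_a_rc_5_0 lc_a_rc_4_0 lc_a_rc_0_1 lc_a_rc_3_2 lc_a_rc_4_2 lc_a_rc_0_1 lc_a_rc_2_2 lc_a_rc_4_0 lc_a_rc_2_2 lc_a_rc_3_2 lc_a_rc_5_2 lc_a_rc_21_0 lc_a_rc_4_2 lc_a_rc_3_2 lc_a_rc_4_2 lc_a_rc_3_2 lc_a_rc_22_0 lc_a_rc_3_2 lc_a_rc_0_1 lc_a_rc_3_2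 lc_a_rc_4_2 lc_a_rc_22_0 lc_a_rc_4_2 lc_a_rc_2_0 lc_a_rc_3_2 lc_a_rc_5_2 lc_a_rc_5_0 lc_a_rc_0_1 lc_a_rc_3_2 lc_a_rc_4_2 lc_a_rc_0_1 lc_a_rc_4_2 lc_a_rc_2_0 lc_a_rc_3_2 lc_a_rc_21_0 lc_a_rc_2_2 lc_a_rc_4_2 lc_a_Cert_tree lc_a_rc_2_2 lc_a_rc_4_2 lc_a_rc_2_2 lc_a_rc_21_0 lc_a_rc_2_0 lc_a_rc_2_2 lc_a_rc_2_0 lc_a_rc_4_2 lc_a_rc_1_4 lc_a_rc_4_2 lc_a_rc_0_1 lc_a_rc_1_4 lc_a_rc_2_0 lc_a_rc_0_1 lc_a_rc_4_2) (@D3.rec (fun _ => (Cert rels S Gen.a)) lc_a_rc_4_0 lc_a_rc_4_0 lc_a_rc_3_2 lc_a_rc_3_2 lc_a_rc_2_2 lc_a_rc_2_0 lc_a_rc_21_0 lc_a_rc_4_2 lc_a_rc_21_0 lc_a_rc_5_0 lc_a_rc_4_2 lc_a_rc_21_0 lc_a_rc_4_2 lc_a_rc_3_0 lc_a_rc_0_1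 lc_a_rc_3_2 lc_a_rc_1_2 lc_a_rc_2_2 lc_a_rc_22_0 lc_a_rc_21_0 lc_a_rc_21_0 lc_a_rc_5_2 lc_a_rc_3_2 lc_a_rc_21_0 lc_a_rc_0_1 lc_a_rc_2_2 lc_a_rc_5_2 lc_a_rc_4_2 lc_a_rc_5_0 lc_a_rc_4_2 lc_a_rc_3_2 lc_a_rc_2_2 lc_a_rc_0_1 lc_a_rc_21_0 lc_a_rc_0_1 lc_a_rc_2_2 lc_a_rc_4_2 lc_a_rc_3_0 lc_a_rc_0_1 lc_a_rc_22_0 lc_a_rc_3_2 lc_a_rc_22_0 lc_a_rc_21_0 lc_a_Cert_tree lc_a_rc_3_2 lc_a_rc_4_2 lc_a_rc_2_2 lc_a_rc_4_2 lc_a_rc_4_0 lc_a_rc_2_2 lc_a_rc_3_2 lc_a_rc_2_2 lc_a_rc_2_0 lc_a_rc_2_2 lc_a_rc_3_2 lc_a_rc_22_0 lc_a_Cert_tree lc_a_rc_0_1 lc_a_rc_2_2 lc_a_rc_3_2 lc_a_rc_3_0 lc_a_rc_3_2) (@D3.rec (fun _ => (Cert rels S Gen.a)) lc_a_rc_3_0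 lc_a_rc_5_2 lc_a_rc_5_0 lc_a_rc_4_2 lc_a_rc_21_0 lc_a_rc_2_0 lc_a_rc_4_2 lc_a_rc_3_2 lc_a_rc_2_0 lc_a_rc_2_2 lc_a_rc_1_2 lc_a_rc_2_2 lc_a_rc_21_0 lc_a_rc_2_2 lc_a_rc_3_2 lc_a_rc_21_0 lc_a_rc_0_1 lc_a_rc_1_4 lc_a_rc_2_2 lc_a_rc_1_4 lc_a_rc_2_2 lc_a_rc_0_1 lc_a_rc_3_2 lc_a_rc_5_2 lc_a_rc_21_0 lc_a_rc_2_2 lc_a_rc_0_1 lc_a_rc_21_0 lc_a_rc_3_2 lc_a_rc_4_2 lc_a_rc_21_0 lc_a_rc_5_0 lc_a_rc_4_2 lc_a_rc_0_1 lc_a_rc_3_2 lc_a_rc_4_2 lc_a_rc_5_0 lc_a_rc_3_0 lc_a_rc_3_2 lc_a_rc_1_4 lc_a_rc_2_0 lc_a_rc_2_2 lc_a_rc_21_0 lc_a_rc_21_0 lc_a_rc_4_2 lc_a_rc_2_0 lc_a_Cert_tree lc_a_rc_2_0 lc_a_rc_4_2 lc_a_rc_21_0 lc_a_rc_0_1 lc_a_rc_1_2 lc_a_rc_3_2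 lc_a_rc_4_2 lc_a_rc_2_2 lc_a_rc_3_0 lc_a_rc_21_0 lc_a_rc_5_2 lc_a_rc_3_2 lc_a_rc_4_2 lc_a_rc_22_0 lc_a_rc_21_0) (@D3.rec (fun _ => (Cert rels S Gen.a)) lc_a_rc_21_0 lc_a_rc_4_2 lc_a_rc_2_0 lc_a_rc_2_2 lc_a_rc_3_2 lc_a_rc_5_2 lc_a_rc_2_0 lc_a_rc_5_0 lc_a_rc_22_0 lc_a_rc_1_4 lc_a_rc_2_0 lc_a_rc_1_4 lc_a_rc_3_2 lc_a_rc_2_2 lc_a_rc_3_2 lc_a_rc_2_2 lc_a_rc_2_0 lc_a_rc_4_0 lc_a_rc_3_2 lc_a_rc_5_2 lc_a_rc_3_2 lc_a_rc_2_2 lc_a_rc_4_2 lc_a_rc_5_2 lc_a_rc_2_0 lc_a_rc_2_2 lc_a_rc_3_2 lc_a_rc_5_0 lc_a_rc_21_0 lc_a_rc_21_0 lc_a_rc_0_1 lc_a_rc_21_0 lc_a_rc_0_1 lc_a_rc_0_1 lc_a_rc_3_0 lc_a_rc_2_2 lc_a_rc_4_2 lc_a_rc_4_0 lc_a_rc_2_2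 lc_a_rc_3_2 lc_a_rc_5_2 lc_a_rc_2_0 lc_a_rc_2_0 lc_a_rc_3_2 lc_a_rc_4_2 lc_a_rc_5_2 lc_a_rc_0_1 lc_a_rc_3_0 lc_a_rc_3_0 lc_a_rc_2_2 lc_a_rc_5_2 lc_a_rc_3_0 lc_a_rc_2_2 lc_a_rc_3_2 lc_a_rc_4_2 lc_a_rc_4_2 lc_a_rc_2_0 lc_a_rc_1_4 lc_a_rc_4_0 lc_a_rc_2_2 lc_a_rc_3_2 lc_a_rc_5_2) (@D3.rec (fun _ => (Cert rels S Gen.a)) lc_a_rc_21_0 lc_a_rc_0_1 lc_a_rc_21_0 lc_a_rc_4_2 lc_a_rc_4_0 lc_a_rc_2_0 lc_a_rc_3_2 lc_a_rc_2_2 lc_a_rc_1_2 lc_a_rc_22_0 lc_a_rc_4_2 lc_a_rc_4_0 lc_a_rc_2_2 lc_a_rc_3_2 lc_a_rc_0_1 lc_a_rc_3_2 lc_a_Cert_tree lc_a_rc_3_2 lc_a_rc_4_2 lc_a_rc_0_1 lc_a_rc_3_0 lc_a_rc_3_0 lc_a_rc_1_0 lc_a_rc_21_0 lc_a_rc_0_1 lc_a_rc_4_2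 lc_a_rc_1_4 lc_a_rc_21_0 lc_a_rc_4_2 lc_a_rc_0_1 lc_a_rc_21_0 lc_a_rc_2_2 lc_a_rc_4_2 lc_a_rc_3_0 lc_a_rc_3_2 lc_a_rc_4_2 lc_a_rc_3_2 lc_a_rc_3_2 lc_a_rc_1_0 lc_a_rc_0_1 lc_a_rc_5_0 lc_a_rc_3_0 lc_a_rc_3_2 lc_a_rc_3_2 lc_a_rc_3_0 lc_a_rc_2_2 lc_a_rc_3_2 lc_a_rc_4_2 lc_a_rc_3_2 lc_a_rc_4_2 lc_a_rc_4_2 lc_a_rc_1_0 lc_a_rc_2_0 lc_a_rc_4_0 lc_a_rc_5_0 lc_a_rc_3_0 lc_a_rc_3_0 lc_a_rc_3_2 lc_a_rc_2_2 lc_a_rc_5_0 lc_a_rc_3_2 lc_a_rc_2_2) (@D3.rec (fun _ => (Cert rels S Gen.a)) lc_a_Cert_tree lc_a_rc_3_2 lc_a_rc_2_2 lc_a_rc_4_2 lc_a_rc_2_0 lc_a_rc_0_1 lc_a_rc_0_1 lc_a_rc_4_2 lc_a_rc_3_2 lc_a_rc_1_0 lc_a_rc_2_2 lc_a_rc_21_0 lc_a_rc_21_0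 lc_a_rc_4_2 lc_a_rc_22_0 lc_a_rc_2_2 lc_a_rc_0_1 lc_a_rc_4_2 lc_a_rc_3_2 lc_a_rc_4_2 lc_a_rc_0_1 lc_a_rc_2_2 lc_a_rc_4_2 lc_a_rc_2_0 lc_a_rc_21_0 lc_a_rc_3_2 lc_a_rc_5_0 lc_a_rc_4_2 lc_a_rc_3_2 lc_a_rc_5_2 lc_a_rc_21_0 lc_a_rc_3_2 lc_a_rc_2_2 lc_a_rc_5_2 lc_a_rc_1_2 lc_a_rc_3_2 lc_a_rc_1_0 lc_a_rc_0_1 lc_a_rc_3_2 lc_a_rc_4_2 lc_a_rc_4_2 lc_a_rc_21_0 lc_a_rc_0_1 lc_a_rc_21_0 lc_a_rc_0_1 lc_a_rc_5_0 lc_a_rc_21_0 lc_a_rc_1_4 lc_a_rc_0_1 lc_a_rc_4_2 lc_a_rc_2_0 lc_a_rc_22_0 lc_a_rc_2_2 lc_a_rc_2_2 lc_a_rc_3_0 lc_a_rc_21_0 lc_a_rc_22_0 lc_a_rc_2_2 lc_a_rc_4_2 lc_a_rc_4_2 lc_a_rc_4_2 lc_a_rc_3_2) (@D3.rec (fun _ => (Cert rels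 S Gen.a)) lc_a_rc_3_2 lc_a_rc_5_2 lc_a_rc_3_2 lc_a_rc_2_2 lc_a_rc_3_2 lc_a_rc_22_0 lc_a_rc_5_0 lc_a_rc_1_4 lc_a_rc_5_0 lc_a_rc_21_0 lc_a_rc_21_0 lc_a_rc_4_0 lc_a_rc_3_2 lc_a_rc_1_2 lc_a_rc_5_0 lc_a_rc_3_2 lc_a_rc_4_2 lc_a_rc_3_2 lc_a_rc_4_2 lc_a_rc_3_0 lc_a_rc_0_1 lc_a_rc_2_2 lc_a_rc_4_2 lc_a_rc_5_0 lc_a_Cert_tree lc_a_rc_4_0 lc_a_rc_4_2 lc_a_rc_2_2 lc_a_rc_2_2 lc_a_rc_4_2 lc_a_rc_4_2 lc_a_rc_3_2 lc_a_rc_4_2 lc_a_rc_2_2 lc_a_rc_0_1 lc_a_rc_2_2 lc_a_rc_5_2 lc_a_Cert_tree lc_a_rc_3_2 lc_a_rc_4_2 lc_a_Cert_tree lc_a_rc_21_0 lc_a_rc_2_2 lc_a_rc_2_2 lc_a_rc_1_2 lc_a_rc_4_2 lc_a_rc_2_2 lc_a_rc_0_1 lc_a_rc_3_2 lc_a_rc_1_2 lc_a_rc_3_2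 lc_a_rc_3_0 lc_a_rc_0_1 lc_a_rc_4_0 lc_a_rc_21_0 lc_a_rc_3_0 lc_a_rc_21_0 lc_a_rc_3_0 lc_a_rc_4_2 lc_a_rc_3_2 lc_a_rc_4_2 lc_a_rc_4_2) (@D3.rec (fun _ => (Cert rels S Gen.a)) lc_a_rc_3_0 lc_a_rc_5_2 lc_a_rc_0_1 lc_a_rc_0_1 lc_a_rc_1_2 lc_a_rc_3_2 lc_a_rc_3_0 lc_a_rc_3_2 lc_a_rc_4_2 lc_a_rc_2_2 lc_a_rc_4_2 lc_a_rc_3_2 lc_a_rc_2_2 lc_a_rc_0_1 lc_a_rc_3_2 lc_a_rc_4_2 lc_a_rc_2_2 lc_a_rc_2_2 lc_a_rc_4_0 lc_a_rc_5_2 lc_a_rc_2_2 lc_a_rc_4_2 lc_a_rc_2_2 lc_a_rc_3_2 lc_a_rc_5_2 lc_a_rc_1_4 lc_a_rc_2_2 lc_a_rc_4_2 lc_a_rc_2_0 lc_a_rc_4_0 lc_a_rc_22_0 lc_a_rc_21_0 lc_a_rc_2_2 lc_a_rc_0_1 lc_a_rc_5_0 lc_a_rc_3_0 lc_a_rc_3_0 lc_a_rc_4_2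 lc_a_rc_21_0 lc_a_rc_2_0 lc_a_rc_2_0 lc_a_Cert_tree lc_a_rc_0_1 lc_a_rc_3_2 lc_a_rc_21_0 lc_a_rc_5_2 lc_a_rc_0_1 lc_a_rc_4_2 lc_a_rc_0_1 lc_a_rc_5_2 lc_a_rc_0_1 lc_a_rc_2_0 lc_a_rc_3_2 lc_a_rc_21_0 lc_a_rc_1_2 lc_a_rc_5_0 lc_a_rc_3_2 lc_a_rc_5_0 lc_a_rc_4_2 lc_a_rc_0_1 lc_a_rc_3_2 lc_a_rc_4_2) (@D3.rec (fun _ => (Cert rels S Gen.a)) lc_a_rc_2_2 lc_a_rc_0_1 lc_a_rc_4_2 lc_a_rc_4_2 lc_a_rc_3_2 lc_a_rc_5_0 lc_a_rc_5_2 lc_a_rc_2_2 lc_a_rc_1_4 lc_a_rc_2_2 lc_a_rc_2_2 lc_a_rc_2_0 lc_a_rc_2_2 lc_a_rc_2_2 lc_a_rc_4_2 lc_a_rc_5_0 lc_a_rc_2_2 lc_a_rc_3_0 lc_a_rc_5_0 lc_a_rc_5_2 lc_a_rc_22_0 lc_a_Cert_tree lc_a_rc_3_2 lc_a_rc_1_4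 lc_a_rc_0_1 lc_a_rc_21_0 lc_a_rc_1_2 lc_a_rc_21_0 lc_a_rc_3_2 lc_a_rc_2_2 lc_a_rc_3_0 lc_a_rc_2_0 lc_a_rc_2_2 lc_a_rc_0_1 lc_a_rc_22_0 lc_a_rc_2_2 lc_a_rc_4_2 lc_a_rc_1_2 lc_a_rc_3_2 lc_a_rc_4_2 lc_a_rc_2_2 lc_a_rc_3_2 lc_a_rc_4_2 lc_a_Cert_tree lc_a_rc_2_2 lc_a_rc_4_2 lc_a_rc_1_0 lc_a_rc_0_1 lc_a_rc_2_2 lc_a_rc_4_2 lc_a_rc_0_1 lc_a_rc_21_0 lc_a_rc_0_1 lc_a_rc_2_2 lc_a_rc_1_2 lc_a_Cert_tree lc_a_rc_3_2 lc_a_rc_3_2 lc_a_rc_4_2 lc_a_rc_5_0 lc_a_rc_4_0 lc_a_rc_5_2) (@D3.rec (fun _ => (Cert rels S Gen.a)) lc_a_rc_1_2 lc_a_rc_4_2 lc_a_rc_3_2 lc_a_rc_4_2 lc_a_rc_3_0 lc_a_rc_1_2 lc_a_rc_3_0 lc_a_rc_3_0 lc_a_rc_1_4 lc_a_rc_2_2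 lc_a_rc_21_0 lc_a_rc_3_2 lc_a_rc_22_0 lc_a_rc_0_1 lc_a_rc_21_0 lc_a_rc_4_2 lc_a_rc_3_2 lc_a_rc_5_0 lc_a_rc_3_0 lc_a_rc_3_2 lc_a_rc_0_1 lc_a_rc_21_0 lc_a_rc_3_2 lc_a_rc_2_2 lc_a_rc_4_2 lc_a_rc_5_2 lc_a_rc_21_0 lc_a_rc_4_2 lc_a_rc_21_0 lc_a_rc_4_0 lc_a_rc_4_0 lc_a_rc_4_0 lc_a_rc_5_0 lc_a_rc_1_2 lc_a_rc_4_2 lc_a_rc_2_2 lc_a_rc_2_2 lc_a_rc_3_2 lc_a_rc_5_2 lc_a_rc_5_2 lc_a_rc_3_2 lc_a_rc_4_2 lc_a_rc_3_0 lc_a_rc_3_2 lc_a_rc_0_1 lc_a_rc_4_0 lc_a_rc_21_0 lc_a_rc_1_4 lc_a_rc_3_2 lc_a_rc_4_2 lc_a_rc_2_2 lc_a_rc_4_2 lc_a_rc_4_2 lc_a_rc_5_2 lc_a_rc_0_1 lc_a_rc_3_0 lc_a_rc_22_0 lc_a_rc_21_0 lc_a_rc_21_0 lc_a_rc_4_2 lc_a_rc_1_0 lc_a_rc_0_1)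 (@D3.rec (fun _ => (Cert rels S Gen.a)) lc_a_rc_2_0 lc_a_rc_1_0 lc_a_rc_4_0 lc_a_rc_3_0 lc_a_rc_5_0 lc_a_rc_4_0 lc_a_rc_0_1 lc_a_rc_3_0 lc_a_rc_1_4 lc_a_rc_4_2 lc_a_rc_2_0 lc_a_rc_4_0 lc_a_rc_3_0 lc_a_rc_3_0 lc_a_rc_2_2 lc_a_rc_0_1 lc_a_rc_3_2 lc_a_rc_2_2 lc_a_rc_3_2 lc_a_rc_4_2 lc_a_rc_3_0 lc_a_rc_4_2 lc_a_rc_2_2 lc_a_rc_2_2 lc_a_rc_4_0 lc_a_rc_21_0 lc_a_rc_2_2 lc_a_rc_4_0 lc_a_rc_4_2 lc_a_rc_3_2 lc_a_rc_2_2 lc_a_rc_5_0 lc_a_rc_0_1 lc_a_rc_3_2 lc_a_rc_4_2 lc_a_rc_4_2 lc_a_rc_4_0 lc_a_rc_4_0 lc_a_rc_22_0 lc_a_rc_1_2 lc_a_rc_5_0 lc_a_rc_22_0 lc_a_rc_2_0 lc_a_rc_0_1 lc_a_rc_2_0 lc_a_rc_4_2 lc_a_rc_2_2 lc_a_rc_2_0 lc_a_Cert_tree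 lc_a_rc_2_2 lc_a_rc_2_2 lc_a_rc_21_0 lc_a_rc_3_0 lc_a_rc_21_0 lc_a_rc_3_2 lc_a_rc_2_2 lc_a_rc_3_2 lc_a_rc_4_2 lc_a_rc_3_2 lc_a_rc_3_2 lc_a_rc_4_2 lc_a_rc_0_1) (@D3.rec (fun _ => (Cert rels S Gen.a)) lc_a_rc_3_2 lc_a_rc_21_0 lc_a_rc_3_2 lc_a_rc_3_2 lc_a_rc_3_2 lc_a_rc_2_2 lc_a_rc_21_0 lc_a_rc_3_2 lc_a_rc_2_2 lc_a_rc_3_0 lc_a_rc_0_1 lc_a_rc_3_2 lc_a_rc_3_2 lc_a_rc_3_0 lc_a_rc_1_2 lc_a_rc_3_0 lc_a_rc_4_2 lc_a_rc_0_1 lc_a_rc_4_2 lc_a_rc_3_2 lc_a_rc_3_2 lc_a_rc_5_2 lc_a_rc_2_2 lc_a_rc_0_1 lc_a_rc_0_1 lc_a_rc_4_2 lc_a_rc_4_2 lc_a_rc_3_2 lc_a_rc_3_2 lc_a_rc_0_1 lc_a_rc_2_2 lc_a_rc_2_2 lc_a_rc_2_0 lc_a_rc_5_2 lc_a_rc_2_2 lc_a_rc_22_0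 lc_a_rc_4_2 lc_a_Cert_tree lc_a_rc_0_1 lc_a_rc_4_2 lc_a_rc_0_1 lc_a_rc_2_2 lc_a_rc_3_2 lc_a_rc_3_0 lc_a_rc_1_4 lc_a_Cert_tree lc_a_rc_2_0 lc_a_rc_2_0 lc_a_rc_4_0 lc_a_rc_0_1 lc_a_rc_2_2 lc_a_rc_4_2 lc_a_rc_21_0 lc_a_rc_4_2 lc_a_rc_3_2 lc_a_rc_5_2 lc_a_rc_0_1 lc_a_rc_2_2 lc_a_rc_4_2 lc_a_rc_3_2 lc_a_rc_3_2 lc_a_rc_5_2) (@D3.rec (fun _ => (Cert rels S Gen.a)) lc_a_rc_1_4 lc_a_rc_4_0 lc_a_rc_22_0 lc_a_rc_3_2 lc_a_rc_0_1 lc_a_rc_0_1 lc_a_rc_4_2 lc_a_rc_3_2 lc_a_rc_4_0 lc_a_rc_4_2 lc_a_rc_2_2 lc_a_rc_5_0 lc_a_rc_3_2 lc_a_rc_0_1 lc_a_rc_5_0 lc_a_rc_0_1 lc_a_rc_2_2 lc_a_rc_3_2 lc_a_rc_4_2 lc_a_rc_2_2 lc_a_rc_3_2 lc_a_rc_0_1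 lc_a_rc_0_1 lc_a_rc_3_2 lc_a_rc_4_2 lc_a_rc_3_2 lc_a_rc_2_2 lc_a_rc_3_2 lc_a_rc_0_1 lc_a_rc_21_0 lc_a_rc_0_1 lc_a_rc_2_0 lc_a_rc_0_1 lc_a_rc_3_2 lc_a_rc_4_2 lc_a_rc_0_1 lc_a_rc_22_0 lc_a_rc_4_2 lc_a_rc_3_2 lc_a_rc_1_4 lc_a_rc_3_2 lc_a_rc_4_2 lc_a_rc_5_0 lc_a_rc_4_2 lc_a_rc_2_2 lc_a_rc_4_2 lc_a_rc_2_2 lc_a_rc_2_2 lc_a_rc_3_2 lc_a_rc_3_0 lc_a_rc_2_2 lc_a_rc_3_2 lc_a_rc_3_2 lc_a_rc_2_2 lc_a_rc_21_0 lc_a_rc_4_0 lc_a_rc_4_0 lc_a_rc_1_4 lc_a_rc_21_0 lc_a_rc_4_2 lc_a_rc_2_2 lc_a_rc_3_2) (@D3.rec (fun _ => (Cert rels S Gen.a)) lc_a_rc_1_0 lc_a_rc_2_2 lc_a_rc_2_2 lc_a_rc_3_2 lc_a_rc_4_2 lc_a_rc_1_4 lc_a_rc_3_2 lc_a_rc_4_2 lc_a_rc_3_0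 lc_a_rc_2_2 lc_a_rc_5_2 lc_a_rc_3_0 lc_a_rc_4_0 lc_a_rc_2_2 lc_a_rc_3_0 lc_a_rc_0_1 lc_a_rc_5_2 lc_a_rc_22_0 lc_a_rc_3_2 lc_a_rc_4_2 lc_a_rc_0_1 lc_a_rc_5_2 lc_a_rc_0_1 lc_a_rc_21_0 lc_a_rc_2_0 lc_a_rc_4_0 lc_a_rc_3_2 lc_a_rc_2_2 lc_a_rc_4_0 lc_a_rc_2_0 lc_a_rc_5_2 lc_a_rc_4_0 lc_a_rc_3_2 lc_a_rc_2_2 lc_a_rc_4_2 lc_a_Cert_tree lc_a_rc_21_0 lc_a_rc_4_2 lc_a_rc_2_2 lc_a_rc_4_2 lc_a_rc_3_0 lc_a_rc_3_0 lc_a_rc_1_4 lc_a_rc_0_1 lc_a_rc_3_0 lc_a_rc_4_0 lc_a_rc_0_1 lc_a_rc_3_0 lc_a_rc_5_2 lc_a_rc_2_2 lc_a_rc_0_1 lc_a_rc_3_0 lc_a_rc_2_2 lc_a_rc_5_0 lc_a_rc_1_2 lc_a_rc_5_2 lc_a_rc_5_2 lc_a_rc_1_4 lc_a_rc_2_2 lc_a_rc_0_1 lc_a_rc_0_1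 lc_a_rc_2_2) (@D3.rec (fun _ => (Cert rels S Gen.a)) lc_a_rc_3_0 lc_a_rc_3_2 lc_a_rc_0_1 lc_a_rc_5_2 lc_a_rc_4_2 lc_a_rc_1_0 lc_a_rc_0_1 lc_a_rc_21_0 lc_a_rc_0_1 lc_a_rc_4_2 lc_a_rc_3_0 lc_a_rc_0_1 lc_a_rc_2_2 lc_a_rc_1_4 lc_a_rc_3_0 lc_a_rc_2_2 lc_a_rc_1_4 lc_a_rc_21_0 lc_a_rc_2_0 lc_a_rc_2_0 lc_a_rc_2_2 lc_a_rc_1_4 lc_a_rc_2_2 lc_a_rc_4_2 lc_a_rc_3_2 lc_a_rc_4_2 lc_a_rc_21_0 lc_a_rc_0_1 lc_a_rc_2_2 lc_a_rc_4_2 lc_a_rc_0_1 lc_a_rc_5_0 lc_a_rc_3_2 lc_a_rc_22_0 lc_a_rc_21_0 lc_a_rc_3_0 lc_a_rc_3_2 lc_a_rc_5_2 lc_a_Cert_tree lc_a_rc_3_2 lc_a_rc_4_2 lc_a_rc_3_2 lc_a_rc_3_2 lc_a_rc_3_2 lc_a_rc_2_2 lc_a_rc_5_2 lc_a_rc_2_2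 lc_a_rc_22_0 lc_a_rc_5_2 lc_a_rc_3_2 lc_a_rc_1_0 lc_a_rc_21_0 lc_a_rc_4_2 lc_a_rc_2_2 lc_a_rc_3_2 lc_a_rc_21_0 lc_a_rc_3_2 lc_a_rc_4_2 lc_a_rc_21_0 lc_a_rc_3_2 lc_a_rc_4_2 lc_a_rc_0_1) (@D3.rec (fun _ => (Cert rels S Gen.a)) lc_a_rc_4_0 lc_a_rc_2_0 lc_a_rc_21_0 lc_a_rc_3_2 lc_a_rc_4_0 lc_a_rc_3_2 lc_a_rc_0_1 lc_a_rc_21_0 lc_a_rc_4_2 lc_a_rc_3_0 lc_a_rc_3_2 lc_a_rc_2_2 lc_a_rc_4_2 lc_a_rc_2_2 lc_a_rc_4_2 lc_a_rc_3_2 lc_a_Cert_tree lc_a_rc_2_2 lc_a_rc_3_2 lc_a_rc_2_2 lc_a_rc_4_2 lc_a_rc_4_0 lc_a_rc_2_2 lc_a_rc_2_0 lc_a_rc_2_0 lc_a_rc_3_2 lc_a_Cert_tree lc_a_rc_3_2 lc_a_rc_2_0 lc_a_rc_2_2 lc_a_rc_3_2 lc_a_rc_2_0 lc_a_rc_0_1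 lc_a_rc_3_0 lc_a_rc_3_2 lc_a_rc_3_2 lc_a_rc_0_1 lc_a_rc_5_2 lc_a_rc_0_1 lc_a_rc_4_2 lc_a_rc_1_4 lc_a_rc_2_2 lc_a_rc_0_1 lc_a_rc_3_0 lc_a_rc_5_0 lc_a_rc_2_2 lc_a_rc_2_2 lc_a_rc_21_0 lc_a_rc_3_0 lc_a_rc_21_0 lc_a_rc_2_2 lc_a_rc_5_2 lc_a_rc_0_1 lc_a_rc_0_1 lc_a_rc_3_2 lc_a_rc_4_2 lc_a_rc_3_2 lc_a_rc_2_2 lc_a_rc_4_2 lc_a_rc_2_0 lc_a_rc_0_1 lc_a_rc_3_2) (@D3.rec (fun _ => (Cert rels S Gen.a)) lc_a_rc_2_2 lc_a_rc_2_2 lc_a_rc_3_0 lc_a_rc_5_0 lc_a_rc_2_2 lc_a_Cert_tree lc_a_rc_2_2 lc_a_rc_0_1 lc_a_rc_2_2 lc_a_rc_2_2 lc_a_rc_3_0 lc_a_rc_3_2 lc_a_rc_5_2 lc_a_rc_4_2 lc_a_rc_1_4 lc_a_rc_5_2 lc_a_rc_0_1 lc_a_rc_0_1 lc_a_rc_4_0 lc_a_rc_0_1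 lc_a_rc_4_0 lc_a_rc_0_1 lc_a_rc_0_1 lc_a_rc_4_2 lc_a_rc_5_0 lc_a_rc_3_2 lc_a_rc_2_2 lc_a_rc_0_1 lc_a_rc_3_2 lc_a_rc_21_0 lc_a_rc_3_2 lc_a_rc_4_2 lc_a_rc_3_2 lc_a_rc_4_2 lc_a_rc_21_0 lc_a_rc_21_0 lc_a_rc_4_2 lc_a_rc_3_2 lc_a_rc_4_2 lc_a_rc_0_1 lc_a_rc_4_2 lc_a_rc_4_0 lc_a_rc_3_0 lc_a_rc_3_2 lc_a_rc_4_2 lc_a_rc_3_2 lc_a_rc_1_4 lc_a_rc_2_2 lc_a_rc_3_2 lc_a_rc_2_2 lc_a_rc_0_1 lc_a_rc_1_4 lc_a_rc_21_0 lc_a_rc_0_1 lc_a_rc_21_0 lc_a_rc_3_2 lc_a_rc_4_2 lc_a_rc_0_1 lc_a_rc_3_2 lc_a_rc_4_0 lc_a_rc_3_2 lc_a_rc_1_4) (@D3.rec (fun _ => (Cert rels S Gen.a)) lc_a_rc_3_2 lc_a_rc_4_2 lc_a_rc_1_4 lc_a_rc_0_1 lc_a_rc_4_2 lc_a_rc_0_1 lc_a_rc_3_0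 lc_a_rc_3_0 lc_a_rc_0_1 lc_a_rc_1_4 lc_a_rc_3_2 lc_a_rc_4_2 lc_a_rc_1_4 lc_a_rc_4_2 lc_a_rc_3_2 lc_a_rc_4_2 lc_a_rc_4_0 lc_a_rc_2_2 lc_a_rc_2_0 lc_a_rc_3_2 lc_a_rc_4_2 lc_a_rc_4_2 lc_a_rc_21_0 lc_a_rc_3_2 lc_a_rc_4_2 lc_a_rc_3_2 lc_a_rc_3_0 lc_a_rc_4_0 lc_a_rc_0_1 lc_a_rc_4_2 lc_a_rc_3_2 lc_a_rc_4_2 lc_a_rc_0_1 lc_a_rc_2_0 lc_a_rc_5_0 lc_a_rc_4_0 lc_a_rc_3_2 lc_a_rc_2_2 lc_a_rc_4_2 lc_a_rc_2_2 lc_a_rc_4_0 lc_a_rc_3_2 lc_a_rc_2_0 lc_a_Cert_tree lc_a_rc_4_2 lc_a_rc_2_2 lc_a_rc_3_0 lc_a_rc_2_2 lc_a_rc_21_0 lc_a_rc_3_0 lc_a_rc_4_2 lc_a_rc_4_2 lc_a_rc_1_2 lc_a_rc_1_2 lc_a_rc_2_2 lc_a_rc_4_2 lc_a_rc_4_2 lc_a_rc_2_2 lc_a_rc_3_2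 lc_a_rc_5_2 lc_a_rc_1_2 lc_a_rc_3_2) (@D3.rec (fun _ => (Cert rels S Gen.a)) lc_a_rc_4_2 lc_a_rc_2_2 lc_a_rc_2_2 lc_a_rc_0_1 lc_a_rc_3_2 lc_a_rc_2_2 lc_a_rc_4_2 lc_a_rc_2_2 lc_a_rc_3_2 lc_a_rc_3_0 lc_a_rc_3_0 lc_a_rc_2_2 lc_a_rc_4_2 lc_a_rc_3_2 lc_a_rc_2_2 lc_a_rc_4_2 lc_a_rc_5_2 lc_a_rc_2_2 lc_a_rc_4_2 lc_a_rc_2_2 lc_a_rc_2_2 lc_a_rc_1_4 lc_a_rc_2_2 lc_a_rc_1_2 lc_a_rc_4_2 lc_a_rc_21_0 lc_a_rc_3_2 lc_a_rc_4_0 lc_a_rc_2_2 lc_a_rc_3_0 lc_a_rc_4_2 lc_a_rc_1_2 lc_a_rc_2_2 lc_a_rc_22_0 lc_a_rc_1_0 lc_a_rc_2_0 lc_a_rc_2_2 lc_a_rc_2_2 lc_a_rc_21_0 lc_a_rc_3_2 lc_a_rc_3_2 lc_a_rc_4_2 lc_a_Cert_tree lc_a_rc_2_2 lc_a_rc_3_2 lc_a_rc_4_2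 lc_a_rc_0_1 lc_a_rc_5_2 lc_a_rc_1_4 lc_a_rc_2_2 lc_a_rc_5_0 lc_a_rc_2_2 lc_a_rc_0_1 lc_a_rc_2_2 lc_a_rc_4_2 lc_a_rc_3_2 lc_a_rc_0_1 lc_a_rc_4_2 lc_a_rc_2_2 lc_a_rc_2_0 lc_a_rc_0_1 lc_a_rc_21_0) (@D3.rec (fun _ => (Cert rels S Gen.a)) lc_a_rc_22_0 lc_a_rc_5_2 lc_a_rc_0_1 lc_a_rc_1_4 lc_a_rc_3_2 lc_a_rc_1_4 lc_a_rc_0_1 lc_a_rc_2_2 lc_a_rc_1_2 lc_a_rc_3_2 lc_a_rc_4_2 lc_a_rc_4_2 lc_a_rc_0_1 lc_a_rc_0_1 lc_a_rc_1_2 lc_a_rc_4_2 lc_a_rc_2_2 lc_a_rc_21_0 lc_a_rc_3_2 lc_a_rc_4_2 lc_a_rc_21_0 lc_a_rc_5_0 lc_a_rc_4_2 lc_a_rc_5_0 lc_a_rc_4_2 lc_a_rc_1_0 lc_a_rc_4_2 lc_a_rc_2_2 lc_a_rc_2_0 lc_a_rc_2_0 lc_a_rc_3_2 lc_a_rc_2_2 lc_a_rc_2_2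 lc_a_rc_4_2 lc_a_rc_2_2 lc_a_rc_21_0 lc_a_rc_3_2 lc_a_rc_1_4 lc_a_rc_3_2 lc_a_rc_2_2 lc_a_rc_2_0 lc_a_rc_0_1 lc_a_rc_2_0 lc_a_rc_2_0 lc_a_rc_21_0 lc_a_rc_2_2 lc_a_rc_2_2 lc_a_Cert_tree lc_a_rc_0_1 lc_a_rc_2_0 lc_a_rc_3_0 lc_a_rc_3_2 lc_a_rc_3_2 lc_a_rc_2_0 lc_a_rc_4_2 lc_a_rc_0_1 lc_a_rc_21_0 lc_a_rc_0_1 lc_a_rc_2_2 lc_a_rc_4_2 lc_a_rc_5_2 lc_a_rc_3_2) (@D3.rec (fun _ => (Cert rels S Gen.a)) lc_a_rc_2_2 lc_a_rc_3_2 lc_a_rc_2_2 lc_a_rc_4_0 lc_a_rc_4_2 lc_a_rc_2_0 lc_a_rc_5_0 lc_a_rc_2_2 lc_a_rc_3_2 lc_a_rc_0_1 lc_a_rc_4_0 lc_a_rc_5_2 lc_a_rc_0_1 lc_a_rc_21_0 lc_a_rc_4_2 lc_a_rc_4_2 lc_a_rc_5_0 lc_a_rc_2_2 lc_a_rc_4_2 lc_a_rc_4_2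 lc_a_rc_3_2 lc_a_rc_3_2 lc_a_rc_2_2 lc_a_rc_3_2 lc_a_rc_3_2 lc_a_rc_2_2 lc_a_rc_4_2 lc_a_rc_5_2 lc_a_rc_2_2 lc_a_rc_22_0 lc_a_rc_2_0 lc_a_rc_0_1 lc_a_rc_21_0 lc_a_rc_2_2 lc_a_rc_4_2 lc_a_rc_4_2 lc_a_rc_4_0 lc_a_rc_5_2 lc_a_rc_2_2 lc_a_rc_2_2 lc_a_rc_3_0 lc_a_rc_1_2 lc_a_rc_5_0 lc_a_rc_1_4 lc_a_rc_1_2 lc_a_rc_2_2 lc_a_rc_4_2 lc_a_rc_5_0 lc_a_rc_3_0 lc_a_rc_1_0 lc_a_rc_3_2 lc_a_rc_4_2 lc_a_rc_3_2 lc_a_rc_1_4 lc_a_rc_0_1 lc_a_rc_3_0 lc_a_rc_2_2 lc_a_rc_2_2 lc_a_rc_4_2 lc_a_rc_2_2 lc_a_rc_1_4 lc_a_Cert_tree) (@D3.rec (fun _ => (Cert rels S Gen.a)) lc_a_rc_4_2 lc_a_rc_2_2 lc_a_rc_3_0 lc_a_rc_3_2 lc_a_rc_4_0 lc_a_rc_4_2 lc_a_rc_5_0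 lc_a_rc_2_0 lc_a_rc_3_2 lc_a_rc_3_2 lc_a_rc_22_0 lc_a_rc_3_0 lc_a_rc_1_2 lc_a_rc_3_2 lc_a_rc_4_2 lc_a_rc_0_1 lc_a_rc_5_2 lc_a_rc_1_2 lc_a_rc_3_2 lc_a_rc_2_2 lc_a_rc_21_0 lc_a_rc_0_1 lc_a_rc_3_2 lc_a_rc_0_1 lc_a_rc_2_2 lc_a_rc_2_2 lc_a_rc_4_2 lc_a_rc_3_2 lc_a_rc_5_2 lc_a_rc_1_2 lc_a_rc_3_2 lc_a_rc_2_2 lc_a_rc_3_0 lc_a_rc_4_2 lc_a_rc_2_0 lc_a_rc_2_0 lc_a_rc_3_2 lc_a_rc_5_2 lc_a_rc_0_1 lc_a_rc_1_0 lc_a_rc_1_4 lc_a_rc_3_0 lc_a_Cert_tree lc_a_rc_2_2 lc_a_rc_3_0 lc_a_rc_3_2 lc_a_rc_3_0 lc_a_rc_2_2 lc_a_rc_2_0 lc_a_rc_1_4 lc_a_rc_4_2 lc_a_rc_4_2 lc_a_rc_2_0 lc_a_rc_3_2 lc_a_rc_5_2 lc_a_rc_5_2 lc_a_rc_1_4 lc_a_rc_2_2 lc_a_rc_4_2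 lc_a_rc_3_2 lc_a_rc_0_1 lc_a_rc_0_1) (@D3.rec (fun _ => (Cert rels S Gen.a)) lc_a_rc_2_2 lc_a_rc_3_0 lc_a_rc_5_0 lc_a_rc_4_2 lc_a_rc_0_1 lc_a_rc_2_0 lc_a_rc_0_1 lc_a_rc_2_2 lc_a_rc_4_0 lc_a_rc_4_2 lc_a_rc_4_2 lc_a_rc_1_4 lc_a_rc_3_0 lc_a_rc_4_2 lc_a_rc_4_2 lc_a_rc_4_2 lc_a_rc_3_2 lc_a_rc_5_2 lc_a_Cert_tree lc_a_rc_3_2 lc_a_rc_4_2 lc_a_rc_5_0 lc_a_rc_3_2 lc_a_rc_4_2 lc_a_rc_3_0 lc_a_rc_3_0 lc_a_rc_3_2 lc_a_rc_5_2 lc_a_rc_3_0 lc_a_rc_2_2 lc_a_rc_4_2 lc_a_rc_2_0 lc_a_rc_1_4 lc_a_rc_5_0 lc_a_rc_2_2 lc_a_rc_3_0 lc_a_rc_3_0 lc_a_rc_3_2 lc_a_rc_4_2 lc_a_rc_2_2 lc_a_rc_1_4 lc_a_rc_3_0 lc_a_rc_3_2 lc_a_rc_2_2 lc_a_rc_4_0 lc_a_rc_2_2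 lc_a_rc_2_0 lc_a_rc_4_2 lc_a_rc_4_2 lc_a_rc_4_2 lc_a_rc_4_2 lc_a_rc_21_0 lc_a_rc_3_0 lc_a_rc_4_2 lc_a_rc_3_2 lc_a_rc_3_0 lc_a_rc_3_0 lc_a_rc_2_0 lc_a_rc_1_4 lc_a_rc_0_1 lc_a_rc_3_2 lc_a_rc_1_2) (@D3.rec (fun _ => (Cert rels S Gen.a)) lc_a_rc_4_2 lc_a_rc_21_0 lc_a_rc_4_2 lc_a_rc_2_2 lc_a_rc_2_2 lc_a_rc_2_2 lc_a_rc_2_2 lc_a_rc_4_2 lc_a_rc_1_4 lc_a_rc_2_2 lc_a_rc_2_2 lc_a_rc_4_2 lc_a_rc_2_0 lc_a_rc_3_2 lc_a_rc_0_1 lc_a_rc_4_0 lc_a_rc_5_0 lc_a_rc_2_2 lc_a_rc_2_2 lc_a_rc_1_4 lc_a_rc_2_0 lc_a_rc_22_0 lc_a_rc_4_2 lc_a_rc_21_0 lc_a_rc_0_1 lc_a_rc_21_0 lc_a_rc_2_2 lc_a_rc_21_0 lc_a_rc_5_2 lc_a_rc_2_2 lc_a_rc_4_2 lc_a_rc_3_2 lc_a_rc_2_2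 lc_a_rc_2_2 lc_a_rc_21_0 lc_a_rc_4_2 lc_a_rc_2_2 lc_a_rc_0_1 lc_a_rc_21_0 lc_a_rc_21_0 lc_a_rc_3_2 lc_a_rc_2_2 lc_a_rc_4_2 lc_a_rc_21_0 lc_a_rc_21_0 lc_a_rc_2_2 lc_a_rc_3_0 lc_a_rc_3_2 lc_a_rc_21_0 lc_a_rc_5_0 lc_a_rc_4_2 lc_a_rc_0_1 lc_a_rc_0_1 lc_a_rc_0_1 lc_a_rc_3_2 lc_a_rc_3_2 lc_a_rc_4_2 lc_a_rc_0_1 lc_a_rc_2_0 lc_a_rc_4_2 lc_a_rc_3_0 lc_a_rc_3_2) (@D3.rec (fun _ => (Cert rels S Gen.a)) lc_a_rc_3_2 lc_a_rc_21_0 lc_a_rc_1_4 lc_a_rc_3_2 lc_a_rc_2_2 lc_a_rc_3_2 lc_a_rc_1_2 lc_a_rc_3_2 lc_a_rc_4_2 lc_a_rc_5_0 lc_a_rc_21_0 lc_a_rc_4_2 lc_a_rc_2_2 lc_a_rc_21_0 lc_a_rc_4_2 lc_a_rc_3_2 lc_a_rc_0_1 lc_a_rc_2_2 lc_a_rc_3_0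 lc_a_rc_3_2 lc_a_rc_4_2 lc_a_Cert_tree lc_a_rc_5_0 lc_a_rc_3_0 lc_a_rc_4_2 lc_a_rc_21_0 lc_a_rc_4_2 lc_a_rc_2_2 lc_a_rc_4_2 lc_a_rc_3_2 lc_a_rc_4_2 lc_a_rc_4_2 lc_a_rc_0_1 lc_a_rc_5_0 lc_a_rc_3_2 lc_a_rc_5_2 lc_a_rc_2_0 lc_a_rc_4_0 lc_a_rc_3_2 lc_a_rc_5_2 lc_a_rc_4_0 lc_a_rc_21_0 lc_a_Cert_tree lc_a_rc_3_2 lc_a_rc_0_1 lc_a_rc_2_2 lc_a_rc_21_0 lc_a_rc_3_2 lc_a_rc_0_1 lc_a_rc_4_2 lc_a_rc_21_0 lc_a_rc_0_1 lc_a_rc_21_0 lc_a_rc_0_1 lc_a_rc_4_2 lc_a_rc_0_1 lc_a_rc_3_2 lc_a_rc_21_0 lc_a_rc_2_2 lc_a_rc_2_2 lc_a_rc_4_2 lc_a_rc_2_2) (@D3.rec (fun _ => (Cert rels S Gen.a)) lc_a_rc_3_2 lc_a_rc_4_2 lc_a_rc_1_0 lc_a_rc_2_0 lc_a_rc_2_2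 lc_a_rc_4_2 lc_a_rc_4_0 lc_a_rc_2_2 lc_a_rc_3_2 lc_a_rc_5_2 lc_a_rc_4_0 lc_a_rc_4_0 lc_a_rc_3_2 lc_a_rc_5_2 lc_a_rc_3_2 lc_a_rc_0_1 lc_a_rc_3_2 lc_a_rc_2_2 lc_a_rc_3_2 lc_a_rc_4_0 lc_a_rc_3_2 lc_a_rc_3_2 lc_a_rc_2_2 lc_a_rc_1_0 lc_a_rc_5_0 lc_a_rc_2_2 lc_a_rc_2_2 lc_a_rc_3_2 lc_a_rc_4_2 lc_a_rc_21_0 lc_a_rc_0_1 lc_a_rc_0_1 lc_a_rc_4_2 lc_a_rc_4_0 lc_a_rc_0_1 lc_a_rc_0_1 lc_a_rc_4_2 lc_a_rc_4_2 lc_a_rc_3_2 lc_a_rc_5_2 lc_a_rc_21_0 lc_a_rc_4_2 lc_a_rc_3_2 lc_a_rc_5_2 lc_a_rc_0_1 lc_a_rc_2_2 lc_a_rc_21_0 lc_a_rc_4_0 lc_a_rc_3_2 lc_a_rc_5_0 lc_a_rc_3_0 lc_a_rc_3_2 lc_a_rc_4_2 lc_a_rc_2_2 lc_a_rc_4_2 lc_a_rc_2_2 lc_a_rc_4_2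 lc_a_rc_0_1 lc_a_rc_3_2 lc_a_rc_5_0 lc_a_rc_3_2 lc_a_rc_4_2) (@D3.rec (fun _ => (Cert rels S Gen.a)) lc_a_rc_5_2 lc_a_rc_3_2 lc_a_rc_3_2 lc_a_rc_2_2 lc_a_rc_4_2 lc_a_rc_0_1 lc_a_rc_3_2 lc_a_rc_5_2 lc_a_rc_3_2 lc_a_rc_1_4 lc_a_rc_4_2 lc_a_rc_2_0 lc_a_rc_3_2 lc_a_rc_21_0 lc_a_rc_2_2 lc_a_rc_2_2 lc_a_rc_3_0 lc_a_rc_1_0 lc_a_rc_5_2 lc_a_rc_5_0 lc_a_rc_3_2 lc_a_rc_0_1 lc_a_rc_4_2 lc_a_rc_2_2 lc_a_rc_4_2 lc_a_rc_4_0 lc_a_rc_2_2 lc_a_rc_0_1 lc_a_rc_4_2 lc_a_rc_2_2 lc_a_rc_2_0 lc_a_rc_4_2 lc_a_rc_1_2 lc_a_rc_4_2 lc_a_rc_2_2 lc_a_rc_3_0 lc_a_rc_2_0 lc_a_rc_0_1 lc_a_rc_21_0 lc_a_rc_5_2 lc_a_rc_2_2 lc_a_rc_3_0 lc_a_rc_5_2 lc_a_rc_4_2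 lc_a_rc_2_2 lc_a_rc_1_2 lc_a_rc_3_2 lc_a_Cert_tree lc_a_rc_4_2 lc_a_rc_5_0 lc_a_rc_3_2 lc_a_rc_3_2 lc_a_rc_0_1 lc_a_rc_1_4 lc_a_rc_4_2 lc_a_rc_2_2 lc_a_rc_3_2 lc_a_rc_3_2 lc_a_rc_2_0 lc_a_rc_21_0 lc_a_rc_5_2 lc_a_rc_3_2) (@D3.rec (fun _ => (Cert rels S Gen.a)) lc_a_rc_4_2 lc_a_rc_21_0 lc_a_rc_3_2 lc_a_rc_5_2 lc_a_rc_4_2 lc_a_rc_2_2 lc_a_rc_5_0 lc_a_rc_0_1 lc_a_rc_22_0 lc_a_rc_4_2 lc_a_rc_2_2 lc_a_rc_2_2 lc_a_rc_21_0 lc_a_rc_3_2 lc_a_rc_2_2 lc_a_rc_0_1 lc_a_rc_21_0 lc_a_rc_0_1 lc_a_rc_21_0 lc_a_rc_2_2 lc_a_Cert_tree lc_a_rc_3_2 lc_a_rc_22_0 lc_a_rc_3_2 lc_a_rc_2_0 lc_a_rc_0_1 lc_a_rc_4_2 lc_a_rc_4_0 lc_a_rc_5_0 lc_a_rc_3_2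 lc_a_rc_4_2 lc_a_rc_21_0 lc_a_rc_0_1 lc_a_rc_22_0 lc_a_rc_3_2 lc_a_rc_1_4 lc_a_rc_21_0 lc_a_rc_21_0 lc_a_rc_3_2 lc_a_rc_2_2 lc_a_rc_1_4 lc_a_rc_3_0 lc_a_rc_21_0 lc_a_rc_4_2 lc_a_rc_2_2 lc_a_rc_4_2 lc_a_rc_3_2 lc_a_rc_5_2 lc_a_rc_2_0 lc_a_rc_21_0 lc_a_rc_2_2 lc_a_rc_4_2 lc_a_rc_2_0 lc_a_rc_3_2 lc_a_rc_5_2 lc_a_rc_21_0 lc_a_rc_0_1 lc_a_rc_0_1 lc_a_rc_21_0 lc_a_rc_3_2 lc_a_rc_21_0 lc_a_rc_2_2) (@D3.rec (fun _ => (Cert rels S Gen.a)) lc_a_rc_4_2 lc_a_rc_3_2 lc_a_rc_4_2 lc_a_rc_21_0 lc_a_rc_4_2 lc_a_rc_4_0 lc_a_rc_0_1 lc_a_rc_1_4 lc_a_rc_5_2 lc_a_rc_2_0 lc_a_rc_3_2 lc_a_rc_3_2 lc_a_rc_22_0 lc_a_rc_4_2 lc_a_rc_3_2 lc_a_rc_4_0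 lc_a_rc_3_2 lc_a_rc_0_1 lc_a_rc_3_2 lc_a_rc_3_2 lc_a_rc_2_2 lc_a_rc_3_2 lc_a_rc_21_0 lc_a_rc_21_0 lc_a_Cert_tree lc_a_rc_3_2 lc_a_rc_2_0 lc_a_rc_21_0 lc_a_rc_5_0 lc_a_rc_4_2 lc_a_rc_2_0 lc_a_rc_4_2 lc_a_rc_3_2 lc_a_rc_5_2 lc_a_rc_0_1 lc_a_rc_2_2 lc_a_rc_0_1 lc_a_rc_2_2 lc_a_rc_4_0 lc_a_rc_4_0 lc_a_rc_2_2 lc_a_rc_4_2 lc_a_rc_5_2 lc_a_rc_3_2 lc_a_rc_3_0 lc_a_rc_4_0 lc_a_rc_1_4 lc_a_rc_3_2 lc_a_rc_21_0 lc_a_rc_0_1 lc_a_rc_3_2 lc_a_rc_4_2 lc_a_rc_0_1 lc_a_rc_3_2 lc_a_rc_2_2 lc_a_rc_3_2 lc_a_rc_3_2 lc_a_rc_3_2 lc_a_rc_3_2 lc_a_rc_5_2 lc_a_rc_3_0 lc_a_rc_2_0) (@D3.rec (fun _ => (Cert rels S Gen.a)) lc_a_Cert_tree lc_a_rc_3_2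 lc_a_rc_4_2 lc_a_rc_4_2 lc_a_rc_21_0 lc_a_rc_2_2 lc_a_rc_21_0 lc_a_rc_0_1 lc_a_rc_2_2 lc_a_rc_2_0 lc_a_rc_4_0 lc_a_rc_2_2 lc_a_rc_3_2 lc_a_rc_2_2 lc_a_rc_1_4 lc_a_rc_0_1 lc_a_rc_3_0 lc_a_rc_3_2 lc_a_rc_2_2 lc_a_Cert_tree lc_a_rc_3_2 lc_a_rc_1_4 lc_a_rc_3_2 lc_a_rc_4_2 lc_a_Cert_tree lc_a_rc_3_2 lc_a_rc_3_0 lc_a_rc_2_2 lc_a_rc_21_0 lc_a_rc_4_2 lc_a_rc_5_2 lc_a_rc_21_0 lc_a_rc_2_2 lc_a_rc_4_2 lc_a_rc_3_2 lc_a_rc_21_0 lc_a_rc_3_0 lc_a_rc_21_0 lc_a_rc_2_2 lc_a_rc_5_0 lc_a_rc_3_2 lc_a_rc_4_2 lc_a_rc_4_2 lc_a_rc_4_2 lc_a_Cert_tree lc_a_rc_2_2 lc_a_rc_21_0 lc_a_rc_3_0 lc_a_rc_5_2 lc_a_rc_21_0 lc_a_rc_4_0 lc_a_rc_4_2 lc_a_rc_4_2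 lc_a_rc_4_0 lc_a_rc_1_4 lc_a_rc_2_2 lc_a_rc_4_2 lc_a_rc_4_2 lc_a_rc_21_0 lc_a_rc_2_2 lc_a_rc_1_4 lc_a_rc_2_2)
def ce_a_20 : D2 → D3 → (Cert rels S Gen.a) := @D2.rec (fun _ => D3 → (Cert rels S Gen.a)) (@D3.rec (fun _ => (Cert rels S Gen.a)) lc_a_rc_0_1 lc_a_rc_2_2 lc_a_rc_4_2 lc_a_rc_3_2 lc_a_rc_4_2 lc_a_rc_4_2 lc_a_rc_21_0 lc_a_rc_5_2 lc_a_rc_2_2 lc_a_rc_1_4 lc_a_rc_2_2 lc_a_rc_1_0 lc_a_rc_1_4 lc_a_rc_4_2 lc_a_rc_3_2 lc_a_rc_4_2 lc_a_rc_1_4 lc_a_Cert_tree lc_a_rc_4_2 lc_a_rc_3_2 lc_a_rc_1_2 lc_a_rc_4_2 lc_a_rc_1_4 lc_a_rc_1_0 lc_a_rc_4_0 lc_a_rc_4_2 lc_a_rc_4_0 lc_a_rc_2_0 lc_a_rc_2_2 lc_a_rc_3_2 lc_a_rc_2_2 lc_a_rc_2_2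 lc_a_rc_3_2 lc_a_rc_4_2 lc_a_rc_21_0 lc_a_rc_2_0 lc_a_rc_4_0 lc_a_rc_4_2 lc_a_rc_21_0 lc_a_rc_0_1 lc_a_rc_5_2 lc_a_rc_21_0 lc_a_rc_5_2 lc_a_rc_21_0 lc_a_rc_0_1 lc_a_rc_1_2 lc_a_rc_2_2 lc_a_rc_4_2 lc_a_rc_5_0 lc_a_rc_2_0 lc_a_rc_3_2 lc_a_rc_5_2 lc_a_rc_5_0 lc_a_rc_5_0 lc_a_rc_3_2 lc_a_rc_4_2 lc_a_rc_4_0 lc_a_rc_2_2 lc_a_rc_5_2 lc_a_rc_1_0 lc_a_rc_0_1 lc_a_rc_22_0) (@D3.rec (fun _ => (Cert rels S Gen.a)) lc_a_rc_4_2 lc_a_rc_3_0 lc_a_rc_4_2 lc_a_rc_4_2 lc_a_rc_4_0 lc_a_rc_3_2 lc_a_rc_2_2 lc_a_rc_2_2 lc_a_rc_2_2 lc_a_rc_4_2 lc_a_rc_2_0 lc_a_rc_0_1 lc_a_rc_1_2 lc_a_rc_4_2 lc_a_rc_4_2 lc_a_rc_0_1 lc_a_rc_3_2 lc_a_rc_1_4 lc_a_rc_4_2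 lc_a_rc_3_2 lc_a_rc_2_0 lc_a_rc_4_2 lc_a_rc_1_4 lc_a_rc_4_2 lc_a_rc_4_2 lc_a_rc_1_4 lc_a_rc_2_2 lc_a_rc_0_1 lc_a_rc_4_2 lc_a_rc_3_2 lc_a_rc_21_0 lc_a_rc_3_2 lc_a_rc_3_0 lc_a_rc_3_2 lc_a_rc_3_2 lc_a_rc_3_2 lc_a_rc_0_1 lc_a_rc_0_1 lc_a_rc_3_0 lc_a_rc_21_0 lc_a_rc_2_0 lc_a_rc_2_0 lc_a_Cert_tree lc_a_rc_3_2 lc_a_Cert_tree lc_a_rc_2_2 lc_a_rc_21_0 lc_a_Cert_tree lc_a_rc_5_0 lc_a_rc_2_2 lc_a_rc_3_2 lc_a_rc_2_2 lc_a_rc_0_1 lc_a_rc_4_2 lc_a_rc_22_0 lc_a_rc_4_2 lc_a_rc_21_0 lc_a_rc_5_2 lc_a_rc_4_2 lc_a_rc_4_2 lc_a_rc_1_0 lc_a_rc_3_2) (@D3.rec (fun _ => (Cert rels S Gen.a)) lc_a_rc_2_2 lc_a_rc_2_2 lc_a_rc_4_2 lc_a_rc_4_2 lc_a_rc_3_2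 lc_a_rc_4_2 lc_a_rc_21_0 lc_a_rc_21_0 lc_a_rc_2_2 lc_a_rc_4_2 lc_a_rc_3_2 lc_a_rc_4_2 lc_a_rc_3_2 lc_a_rc_4_2 lc_a_rc_4_2 lc_a_rc_4_2 lc_a_rc_3_0 lc_a_rc_3_2 lc_a_rc_5_2 lc_a_rc_21_0 lc_a_rc_3_2 lc_a_rc_5_2 lc_a_rc_3_2 lc_a_rc_4_2 lc_a_rc_3_2 lc_a_rc_21_0 lc_a_rc_22_0 lc_a_rc_22_0 lc_a_rc_21_0 lc_a_rc_4_2 lc_a_rc_4_2 lc_a_rc_4_2 lc_a_rc_5_0 lc_a_rc_3_2 lc_a_rc_5_2 lc_a_rc_21_0 lc_a_rc_21_0 lc_a_rc_4_2 lc_a_rc_3_2 lc_a_rc_0_1 lc_a_rc_22_0 lc_a_rc_5_2 lc_a_rc_22_0 lc_a_rc_3_2 lc_a_rc_3_2 lc_a_rc_2_2 lc_a_rc_4_2 lc_a_rc_2_2 lc_a_rc_0_1 lc_a_rc_2_0 lc_a_rc_3_2 lc_a_rc_2_0 lc_a_rc_3_2 lc_a_rc_21_0 lc_a_rc_22_0 lc_a_rc_3_2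 lc_a_rc_3_2 lc_a_rc_3_0 lc_a_rc_0_1 lc_a_rc_4_2 lc_a_rc_4_2 lc_a_rc_0_1) (@D3.rec (fun _ => (Cert rels S Gen.a)) lc_a_rc_3_2 lc_a_rc_3_2 lc_a_rc_5_2 lc_a_rc_0_1 lc_a_rc_22_0 lc_a_rc_22_0 lc_a_rc_21_0 lc_a_rc_4_2 lc_a_rc_4_2 lc_a_rc_4_0 lc_a_rc_3_2 lc_a_rc_5_2 lc_a_rc_3_0 lc_a_rc_0_1 lc_a_rc_4_2 lc_a_rc_2_0 lc_a_rc_3_2 lc_a_rc_21_0 lc_a_rc_2_2 lc_a_rc_2_2 lc_a_rc_2_2 lc_a_rc_4_0 lc_a_rc_2_0 lc_a_rc_21_0 lc_a_rc_2_2 lc_a_rc_2_0 lc_a_rc_0_1 lc_a_rc_1_4 lc_a_rc_4_2 lc_a_rc_3_2 lc_a_rc_21_0 lc_a_rc_2_2 lc_a_rc_4_2 lc_a_rc_3_2 lc_a_rc_0_1 lc_a_rc_2_0 lc_a_rc_2_2 lc_a_rc_4_2 lc_a_rc_5_2 lc_a_rc_3_2 lc_a_rc_2_2 lc_a_rc_21_0 lc_a_rc_3_2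 lc_a_rc_22_0 lc_a_rc_3_0 lc_a_rc_2_0 lc_a_rc_0_1 lc_a_rc_3_2 lc_a_rc_3_2 lc_a_rc_3_2 lc_a_rc_0_1 lc_a_rc_2_2 lc_a_rc_0_1 lc_a_rc_2_0 lc_a_rc_0_1 lc_a_rc_3_2 lc_a_rc_2_2 lc_a_rc_3_2 lc_a_rc_21_0 lc_a_rc_3_2 lc_a_rc_2_2 lc_a_rc_21_0) (@D3.rec (fun _ => (Cert rels S Gen.a)) lc_a_rc_21_0 lc_a_rc_2_2 lc_a_rc_2_0 lc_a_rc_21_0 lc_a_rc_1_4 lc_a_rc_3_2 lc_a_rc_2_0 lc_a_rc_2_0 lc_a_rc_4_0 lc_a_rc_2_2 lc_a_rc_3_2 lc_a_rc_1_2 lc_a_rc_21_0 lc_a_rc_3_2 lc_a_rc_2_2 lc_a_rc_21_0 lc_a_rc_5_0 lc_a_rc_2_2 lc_a_rc_5_2 lc_a_rc_3_0 lc_a_rc_2_2 lc_a_rc_3_2 lc_a_rc_3_2 lc_a_rc_4_2 lc_a_rc_4_2 lc_a_rc_2_2 lc_a_rc_2_0 lc_a_rc_3_2 lc_a_rc_5_2 lc_a_rc_2_2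 lc_a_rc_21_0 lc_a_rc_3_2 lc_a_rc_4_2 lc_a_rc_4_2 lc_a_rc_3_2 lc_a_rc_4_2 lc_a_rc_2_2 lc_a_rc_4_2 lc_a_rc_4_2 lc_a_rc_1_4 lc_a_rc_21_0 lc_a_rc_4_2 lc_a_rc_2_0 lc_a_rc_3_2 lc_a_rc_21_0 lc_a_rc_0_1 lc_a_rc_3_2 lc_a_rc_4_2 lc_a_rc_3_0 lc_a_rc_3_0 lc_a_rc_21_0 lc_a_rc_3_0 lc_a_rc_4_0 lc_a_rc_3_2 lc_a_rc_2_2 lc_a_rc_3_0 lc_a_rc_2_0 lc_a_rc_22_0 lc_a_rc_4_0 lc_a_rc_4_0 lc_a_rc_22_0 lc_a_rc_0_1) (@D3.rec (fun _ => (Cert rels S Gen.a)) lc_a_rc_3_2 lc_a_rc_3_2 lc_a_rc_2_2 lc_a_rc_3_0 lc_a_rc_0_1 lc_a_rc_1_2 lc_a_Cert_tree lc_a_rc_3_2 lc_a_rc_5_2 lc_a_rc_3_2 lc_a_rc_4_2 lc_a_rc_3_2 lc_a_rc_0_1 lc_a_rc_5_2 lc_a_rc_3_2 lc_a_rc_21_0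 lc_a_rc_3_0 lc_a_rc_4_2 lc_a_rc_2_2 lc_a_rc_5_0 lc_a_rc_22_0 lc_a_rc_5_0 lc_a_rc_3_2 lc_a_rc_2_2 lc_a_rc_4_2 lc_a_rc_3_0 lc_a_rc_1_4 lc_a_Cert_tree lc_a_rc_3_2 lc_a_rc_3_2 lc_a_rc_2_2 lc_a_rc_2_2 lc_a_Cert_tree lc_a_rc_4_2 lc_a_rc_2_2 lc_a_rc_0_1 lc_a_rc_4_2 lc_a_rc_3_2 lc_a_rc_21_0 lc_a_rc_4_2 lc_a_Cert_tree lc_a_rc_3_2 lc_a_rc_0_1 lc_a_rc_2_2 lc_a_rc_0_1 lc_a_rc_1_4 lc_a_rc_0_1 lc_a_rc_4_2 lc_a_rc_0_1 lc_a_rc_3_2 lc_a_rc_0_1 lc_a_rc_21_0 lc_a_rc_4_2 lc_a_rc_0_1 lc_a_rc_4_0 lc_a_rc_2_2 lc_a_rc_5_0 lc_a_rc_2_2 lc_a_rc_5_0 lc_a_rc_3_2 lc_a_rc_5_2 lc_a_rc_4_0) (@D3.rec (fun _ => (Cert rels S Gen.a)) lc_a_rc_3_2 lc_a_rc_3_2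 lc_a_rc_0_1 lc_a_rc_0_1 lc_a_rc_5_0 lc_a_rc_4_2 lc_a_rc_5_0 lc_a_rc_0_1 lc_a_rc_3_2 lc_a_rc_5_2 lc_a_rc_2_2 lc_a_rc_21_0 lc_a_rc_4_2 lc_a_rc_4_2 lc_a_rc_5_2 lc_a_rc_0_1 lc_a_rc_21_0 lc_a_rc_0_1 lc_a_rc_1_4 lc_a_rc_1_4 lc_a_rc_2_2 lc_a_rc_3_0 lc_a_rc_4_2 lc_a_rc_4_0 lc_a_rc_1_4 lc_a_rc_2_0 lc_a_rc_4_2 lc_a_rc_3_2 lc_a_rc_4_2 lc_a_rc_2_0 lc_a_rc_5_0 lc_a_rc_3_0 lc_a_rc_3_2 lc_a_rc_21_0 lc_a_rc_3_2 lc_a_rc_4_0 lc_a_rc_3_0 lc_a_rc_5_2 lc_a_rc_0_1 lc_a_rc_1_4 lc_a_rc_4_2 lc_a_rc_4_2 lc_a_rc_3_2 lc_a_rc_0_1 lc_a_rc_4_0 lc_a_rc_5_2 lc_a_rc_21_0 lc_a_rc_3_2 lc_a_rc_4_0 lc_a_rc_4_2 lc_a_rc_22_0 lc_a_rc_0_1 lc_a_rc_21_0 lc_a_rc_22_0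 lc_a_rc_2_2 lc_a_rc_21_0 lc_a_rc_0_1 lc_a_rc_21_0 lc_a_rc_21_0 lc_a_rc_0_1 lc_a_rc_3_0 lc_a_rc_0_1) (@D3.rec (fun _ => (Cert rels S Gen.a)) lc_a_rc_2_2 lc_a_rc_0_1 lc_a_rc_4_2 lc_a_Cert_tree lc_a_rc_1_2 lc_a_Cert_tree lc_a_rc_2_2 lc_a_rc_5_2 lc_a_rc_4_0 lc_a_rc_5_2 lc_a_rc_1_2 lc_a_rc_21_0 lc_a_rc_2_0 lc_a_rc_5_2 lc_a_rc_4_2 lc_a_rc_2_0 lc_a_rc_0_1 lc_a_rc_2_2 lc_a_rc_4_2 lc_a_rc_3_2 lc_a_rc_4_2 lc_a_rc_21_0 lc_a_rc_2_2 lc_a_rc_4_2 lc_a_rc_2_2 lc_a_rc_0_1 lc_a_rc_5_2 lc_a_rc_3_0 lc_a_rc_3_2 lc_a_rc_3_2 lc_a_rc_3_2 lc_a_rc_4_2 lc_a_rc_0_1 lc_a_rc_2_0 lc_a_rc_1_4 lc_a_rc_4_2 lc_a_rc_0_1 lc_a_rc_0_1 lc_a_rc_2_2 lc_a_Cert_tree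 lc_a_rc_22_0 lc_a_rc_2_2 lc_a_rc_4_2 lc_a_rc_2_2 lc_a_rc_3_0 lc_a_rc_3_2 lc_a_rc_3_2 lc_a_rc_21_0 lc_a_rc_3_2 lc_a_rc_3_0 lc_a_rc_0_1 lc_a_rc_2_2 lc_a_rc_4_2 lc_a_rc_22_0 lc_a_rc_4_2 lc_a_rc_0_1 lc_a_rc_3_2 lc_a_rc_5_2 lc_a_rc_4_0 lc_a_rc_4_2 lc_a_rc_2_2 lc_a_rc_4_2) (@D3.rec (fun _ => (Cert rels S Gen.a)) lc_a_rc_4_2 lc_a_rc_0_1 lc_a_rc_2_2 lc_a_rc_0_1 lc_a_rc_21_0 lc_a_rc_2_0 lc_a_rc_21_0 lc_a_rc_3_2 lc_a_rc_22_0 lc_a_rc_1_0 lc_a_rc_3_2 lc_a_rc_0_1 lc_a_rc_0_1 lc_a_rc_5_2 lc_a_rc_1_4 lc_a_rc_2_2 lc_a_rc_4_2 lc_a_rc_21_0 lc_a_rc_0_1 lc_a_rc_0_1 lc_a_rc_5_0 lc_a_rc_3_0 lc_a_rc_0_1 lc_a_rc_4_2 lc_a_rc_3_0 lc_a_rc_4_2 lc_a_rc_22_0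 lc_a_rc_4_0 lc_a_rc_3_2 lc_a_rc_4_2 lc_a_rc_2_2 lc_a_rc_1_4 lc_a_rc_2_2 lc_a_rc_2_0 lc_a_rc_4_2 lc_a_rc_21_0 lc_a_rc_3_2 lc_a_rc_3_2 lc_a_rc_1_2 lc_a_rc_2_2 lc_a_rc_0_1 lc_a_rc_0_1 lc_a_rc_21_0 lc_a_rc_3_2 lc_a_rc_4_2 lc_a_rc_4_2 lc_a_rc_5_2 lc_a_rc_3_2 lc_a_rc_4_0 lc_a_rc_0_1 lc_a_rc_3_2 lc_a_rc_4_2 lc_a_rc_3_2 lc_a_rc_5_2 lc_a_rc_4_2 lc_a_rc_1_4 lc_a_rc_4_2 lc_a_rc_3_2 lc_a_rc_3_0 lc_a_rc_5_2 lc_a_rc_5_0 lc_a_rc_1_4) (@D3.rec (fun _ => (Cert rels S Gen.a)) lc_a_rc_3_2 lc_a_rc_4_2 lc_a_rc_0_1 lc_a_rc_4_0 lc_a_rc_5_2 lc_a_rc_3_0 lc_a_rc_1_0 lc_a_rc_1_2 lc_a_rc_1_4 lc_a_rc_3_2 lc_a_rc_3_2 lc_a_rc_4_0 lc_a_rc_3_2 lc_a_rc_0_1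 lc_a_rc_1_4 lc_a_rc_4_2 lc_a_rc_0_1 lc_a_rc_3_0 lc_a_rc_0_1 lc_a_rc_3_2 lc_a_rc_0_1 lc_a_rc_3_2 lc_a_rc_21_0 lc_a_rc_0_1 lc_a_rc_2_2 lc_a_rc_2_2 lc_a_rc_4_2 lc_a_rc_2_2 lc_a_rc_4_2 lc_a_rc_5_2 lc_a_rc_4_2 lc_a_rc_5_2 lc_a_rc_4_2 lc_a_rc_5_2 lc_a_rc_3_0 lc_a_rc_2_2 lc_a_rc_4_2 lc_a_rc_4_2 lc_a_rc_2_2 lc_a_rc_2_2 lc_a_rc_3_2 lc_a_rc_4_2 lc_a_rc_0_1 lc_a_rc_0_1 lc_a_rc_0_1 lc_a_rc_3_2 lc_a_rc_3_2 lc_a_rc_1_2 lc_a_rc_4_2 lc_a_rc_0_1 lc_a_rc_5_0 lc_a_rc_1_4 lc_a_rc_2_2 lc_a_rc_5_0 lc_a_rc_2_0 lc_a_rc_0_1 lc_a_rc_0_1 lc_a_rc_0_1 lc_a_rc_21_0 lc_a_rc_2_2 lc_a_rc_3_2 lc_a_rc_3_0) (@D3.rec (fun _ => (Cert rels S Gen.a)) lc_a_rc_3_0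 lc_a_rc_2_2 lc_a_Cert_tree lc_a_rc_21_0 lc_a_rc_3_2 lc_a_rc_3_2 lc_a_rc_22_0 lc_a_rc_0_1 lc_a_rc_0_1 lc_a_rc_3_2 lc_a_rc_4_2 lc_a_rc_2_2 lc_a_rc_21_0 lc_a_rc_3_2 lc_a_rc_4_2 lc_a_rc_2_2 lc_a_rc_2_0 lc_a_rc_3_2 lc_a_rc_22_0 lc_a_rc_4_2 lc_a_rc_1_4 lc_a_rc_4_2 lc_a_rc_3_2 lc_a_rc_3_0 lc_a_rc_3_0 lc_a_rc_5_0 lc_a_rc_3_2 lc_a_rc_3_2 lc_a_rc_4_2 lc_a_rc_4_2 lc_a_rc_5_2 lc_a_rc_4_2 lc_a_rc_2_2 lc_a_rc_5_2 lc_a_rc_3_0 lc_a_rc_1_0 lc_a_rc_3_0 lc_a_rc_4_2 lc_a_rc_2_2 lc_a_rc_2_0 lc_a_rc_5_0 lc_a_rc_2_0 lc_a_rc_4_0 lc_a_rc_5_2 lc_a_Cert_tree lc_a_rc_2_0 lc_a_rc_4_2 lc_a_rc_21_0 lc_a_rc_1_2 lc_a_rc_5_2 lc_a_rc_4_2 lc_a_rc_2_2 lc_a_rc_2_0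 lc_a_rc_3_2 lc_a_rc_4_2 lc_a_rc_4_0 lc_a_rc_5_0 lc_a_rc_5_2 lc_a_rc_2_2 lc_a_rc_3_2 lc_a_rc_2_0 lc_a_rc_5_2) (@D3.rec (fun _ => (Cert rels S Gen.a)) lc_a_Cert_tree lc_a_rc_3_2 lc_a_rc_4_2 lc_a_rc_21_0 lc_a_rc_3_2 lc_a_rc_4_2 lc_a_rc_3_2 lc_a_rc_3_2 lc_a_rc_0_1 lc_a_rc_3_2 lc_a_rc_2_0 lc_a_rc_1_0 lc_a_rc_2_2 lc_a_rc_5_0 lc_a_rc_2_0 lc_a_rc_5_2 lc_a_rc_4_2 lc_a_rc_1_4 lc_a_rc_2_2 lc_a_rc_4_2 lc_a_rc_21_0 lc_a_rc_4_2 lc_a_rc_21_0 lc_a_rc_2_2 lc_a_rc_21_0 lc_a_rc_0_1 lc_a_rc_0_1 lc_a_rc_3_2 lc_a_rc_5_0 lc_a_rc_3_2 lc_a_rc_3_2 lc_a_rc_4_2 lc_a_rc_2_2 lc_a_rc_2_0 lc_a_rc_3_2 lc_a_rc_5_2 lc_a_rc_2_2 lc_a_rc_3_2 lc_a_rc_21_0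 lc_a_rc_1_4 lc_a_rc_0_1 lc_a_rc_3_2 lc_a_rc_4_2 lc_a_rc_5_0 lc_a_rc_2_2 lc_a_rc_3_2 lc_a_rc_5_2 lc_a_rc_2_0 lc_a_rc_5_0 lc_a_rc_4_2 lc_a_rc_3_2 lc_a_rc_4_0 lc_a_rc_21_0 lc_a_rc_0_1 lc_a_rc_4_0 lc_a_rc_1_4 lc_a_rc_4_2 lc_a_rc_0_1 lc_a_rc_4_2 lc_a_rc_22_0 lc_a_rc_4_2 lc_a_rc_5_2) (@D3.rec (fun _ => (Cert rels S Gen.a)) lc_a_rc_4_0 lc_a_rc_22_0 lc_a_rc_4_2 lc_a_rc_5_2 lc_a_rc_2_2 lc_a_rc_2_2 lc_a_rc_21_0 lc_a_rc_2_0 lc_a_rc_2_2 lc_a_rc_0_1 lc_a_rc_3_2 lc_a_rc_3_0 lc_a_rc_4_0 lc_a_rc_1_4 lc_a_rc_4_2 lc_a_rc_4_0 lc_a_rc_2_2 lc_a_rc_4_2 lc_a_rc_3_2 lc_a_rc_4_2 lc_a_rc_2_2 lc_a_rc_0_1 lc_a_rc_2_2 lc_a_rc_2_2 lc_a_rc_5_2 lc_a_rc_4_0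 lc_a_rc_2_0 lc_a_rc_0_1 lc_a_rc_0_1 lc_a_rc_21_0 lc_a_rc_0_1 lc_a_rc_3_0 lc_a_rc_1_2 lc_a_rc_4_0 lc_a_rc_4_2 lc_a_rc_3_2 lc_a_rc_5_0 lc_a_rc_4_2 lc_a_Cert_tree lc_a_rc_4_2 lc_a_rc_21_0 lc_a_rc_0_1 lc_a_Cert_tree lc_a_rc_2_0 lc_a_rc_21_0 lc_a_rc_4_2 lc_a_rc_5_2 lc_a_rc_4_0 lc_a_rc_5_0 lc_a_rc_4_0 lc_a_rc_3_2 lc_a_rc_4_2 lc_a_rc_0_1 lc_a_rc_3_0 lc_a_rc_2_2 lc_a_rc_3_2 lc_a_rc_3_0 lc_a_rc_2_2 lc_a_rc_5_0 lc_a_rc_0_1 lc_a_rc_21_0 lc_a_rc_4_2) (@D3.rec (fun _ => (Cert rels S Gen.a)) lc_a_rc_4_2 lc_a_rc_2_2 lc_a_rc_0_1 lc_a_rc_2_2 lc_a_rc_4_2 lc_a_rc_21_0 lc_a_rc_3_2 lc_a_rc_4_0 lc_a_rc_4_2 lc_a_rc_5_0 lc_a_rc_4_2 lc_a_rc_4_0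 lc_a_rc_3_2 lc_a_rc_1_0 lc_a_rc_5_2 lc_a_rc_0_1 lc_a_rc_5_0 lc_a_rc_5_2 lc_a_rc_21_0 lc_a_rc_0_1 lc_a_rc_2_2 lc_a_rc_3_0 lc_a_rc_0_1 lc_a_rc_5_2 lc_a_Cert_tree lc_a_rc_3_2 lc_a_rc_5_2 lc_a_rc_0_1 lc_a_rc_3_2 lc_a_rc_4_2 lc_a_rc_0_1 lc_a_rc_0_1 lc_a_rc_2_2 lc_a_rc_3_2 lc_a_rc_21_0 lc_a_rc_0_1 lc_a_rc_4_2 lc_a_rc_5_2 lc_a_rc_4_2 lc_a_rc_3_2 lc_a_rc_3_2 lc_a_rc_5_2 lc_a_rc_1_4 lc_a_rc_4_2 lc_a_rc_4_0 lc_a_rc_2_2 lc_a_rc_3_2 lc_a_rc_2_2 lc_a_rc_1_2 lc_a_rc_2_2 lc_a_rc_2_0 lc_a_rc_2_0 lc_a_rc_4_2 lc_a_rc_3_2 lc_a_Cert_tree lc_a_rc_2_2 lc_a_rc_4_2 lc_a_rc_1_2 lc_a_rc_3_0 lc_a_rc_0_1 lc_a_rc_5_0 lc_a_rc_5_2) (@D3.rec (fun _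 => (Cert rels S Gen.a)) lc_a_rc_5_2 lc_a_rc_4_2 lc_a_rc_4_2 lc_a_rc_4_2 lc_a_rc_21_0 lc_a_rc_0_1 lc_a_rc_4_2 lc_a_rc_0_1 lc_a_rc_21_0 lc_a_rc_3_2 lc_a_rc_5_2 lc_a_rc_2_2 lc_a_rc_3_2 lc_a_rc_4_2 lc_a_rc_2_2 lc_a_rc_0_1 lc_a_rc_4_2 lc_a_rc_2_0 lc_a_rc_1_2 lc_a_rc_3_2 lc_a_rc_1_0 lc_a_rc_2_0 lc_a_rc_0_1 lc_a_rc_1_0 lc_a_rc_4_2 lc_a_rc_3_2 lc_a_rc_4_2 lc_a_rc_21_0 lc_a_rc_2_2 lc_a_rc_4_2 lc_a_rc_1_4 lc_a_rc_2_0 lc_a_rc_1_2 lc_a_rc_3_0 lc_a_rc_4_2 lc_a_rc_3_2 lc_a_rc_4_0 lc_a_rc_3_2 lc_a_rc_2_2 lc_a_Cert_tree lc_a_rc_5_0 lc_a_rc_5_0 lc_a_rc_4_2 lc_a_rc_3_2 lc_a_rc_5_0 lc_a_rc_2_2 lc_a_rc_5_2 lc_a_rc_21_0 lc_a_rc_4_2 lc_a_rc_1_2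 lc_a_rc_21_0 lc_a_rc_22_0 lc_a_rc_3_0 lc_a_rc_5_2 lc_a_rc_3_2 lc_a_rc_4_2 lc_a_rc_5_2 lc_a_rc_5_0 lc_a_rc_3_2 lc_a_rc_4_2 lc_a_rc_4_2 lc_a_rc_4_2) (@D3.rec (fun _ => (Cert rels S Gen.a)) lc_a_rc_22_0 lc_a_rc_2_2 lc_a_rc_4_2 lc_a_rc_3_2 lc_a_rc_22_0 lc_a_rc_4_2 lc_a_rc_21_0 lc_a_rc_4_2 lc_a_rc_1_2 lc_a_rc_21_0 lc_a_rc_0_1 lc_a_rc_22_0 lc_a_rc_2_2 lc_a_rc_2_0 lc_a_rc_3_2 lc_a_rc_2_2 lc_a_rc_1_4 lc_a_rc_3_2 lc_a_rc_2_2 lc_a_rc_2_2 lc_a_rc_3_2 lc_a_rc_2_2 lc_a_rc_2_2 lc_a_rc_4_2 lc_a_rc_2_0 lc_a_rc_4_0 lc_a_rc_0_1 lc_a_rc_4_0 lc_a_rc_2_2 lc_a_rc_21_0 lc_a_rc_2_0 lc_a_rc_4_2 lc_a_rc_2_2 lc_a_rc_4_2 lc_a_rc_3_0 lc_a_rc_21_0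 lc_a_rc_5_2 lc_a_rc_0_1 lc_a_rc_4_2 lc_a_rc_4_0 lc_a_rc_4_2 lc_a_rc_1_2 lc_a_rc_1_0 lc_a_rc_4_2 lc_a_rc_2_2 lc_a_rc_4_2 lc_a_rc_3_2 lc_a_rc_5_0 lc_a_rc_0_1 lc_a_rc_4_2 lc_a_rc_22_0 lc_a_rc_4_0 lc_a_rc_3_2 lc_a_rc_22_0 lc_a_rc_4_2 lc_a_rc_1_0 lc_a_rc_3_2 lc_a_rc_3_0 lc_a_rc_1_2 lc_a_rc_4_2 lc_a_rc_3_2 lc_a_rc_4_2) (@D3.rec (fun _ => (Cert rels S Gen.a)) lc_a_rc_2_2 lc_a_rc_4_2 lc_a_rc_5_2 lc_a_rc_4_2 lc_a_rc_1_0 lc_a_rc_2_2 lc_a_rc_4_2 lc_a_rc_3_0 lc_a_rc_3_0 lc_a_Cert_tree lc_a_rc_1_2 lc_a_rc_2_0 lc_a_rc_0_1 lc_a_Cert_tree lc_a_rc_3_2 lc_a_rc_2_0 lc_a_rc_2_0 lc_a_rc_5_2 lc_a_rc_1_4 lc_a_rc_3_0 lc_a_rc_3_0 lc_a_rc_0_1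 lc_a_rc_2_0 lc_a_rc_3_2 lc_a_rc_3_2 lc_a_rc_21_0 lc_a_rc_2_2 lc_a_rc_3_2 lc_a_rc_2_0 lc_a_rc_2_2 lc_a_rc_21_0 lc_a_rc_4_2 lc_a_rc_0_1 lc_a_rc_4_2 lc_a_rc_1_4 lc_a_rc_5_2 lc_a_rc_4_2 lc_a_rc_3_2 lc_a_rc_3_2 lc_a_rc_3_2 lc_a_rc_0_1 lc_a_rc_2_2 lc_a_rc_3_2 lc_a_rc_3_0 lc_a_rc_3_0 lc_a_rc_0_1 lc_a_rc_5_0 lc_a_rc_4_0 lc_a_rc_0_1 lc_a_rc_5_2 lc_a_rc_1_4 lc_a_rc_2_2 lc_a_rc_2_2 lc_a_rc_3_2 lc_a_rc_2_2 lc_a_rc_22_0 lc_a_rc_4_0 lc_a_rc_2_2 lc_a_rc_2_2 lc_a_rc_4_2 lc_a_rc_1_4 lc_a_rc_22_0) (@D3.rec (fun _ => (Cert rels S Gen.a)) lc_a_rc_3_2 lc_a_rc_1_2 lc_a_rc_22_0 lc_a_rc_21_0 lc_a_rc_5_0 lc_a_Cert_tree lc_a_rc_3_2 lc_a_rc_0_1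 lc_a_rc_1_2 lc_a_rc_3_2 lc_a_rc_5_0 lc_a_rc_21_0 lc_a_rc_3_0 lc_a_rc_2_0 lc_a_rc_2_2 lc_a_rc_3_2 lc_a_rc_0_1 lc_a_Cert_tree lc_a_rc_22_0 lc_a_rc_2_2 lc_a_rc_3_2 lc_a_rc_4_2 lc_a_rc_1_4 lc_a_rc_0_1 lc_a_rc_3_2 lc_a_rc_3_0 lc_a_rc_21_0 lc_a_rc_2_2 lc_a_rc_0_1 lc_a_rc_5_0 lc_a_rc_3_0 lc_a_rc_2_2 lc_a_rc_0_1 lc_a_rc_4_2 lc_a_rc_4_2 lc_a_rc_3_2 lc_a_rc_21_0 lc_a_rc_21_0 lc_a_rc_1_2 lc_a_rc_3_2 lc_a_rc_2_2 lc_a_rc_21_0 lc_a_rc_4_0 lc_a_rc_5_2 lc_a_rc_3_2 lc_a_rc_4_2 lc_a_rc_21_0 lc_a_Cert_tree lc_a_rc_0_1 lc_a_rc_22_0 lc_a_rc_0_1 lc_a_rc_21_0 lc_a_rc_4_2 lc_a_rc_22_0 lc_a_rc_4_2 lc_a_Cert_tree lc_a_rc_4_2 lc_a_rc_0_1 lc_a_rc_5_2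 lc_a_rc_21_0 lc_a_rc_22_0 lc_a_rc_4_2) (@D3.rec (fun _ => (Cert rels S Gen.a)) lc_a_Cert_tree lc_a_rc_3_2 lc_a_rc_4_2 lc_a_rc_2_0 lc_a_rc_2_2 lc_a_Cert_tree lc_a_rc_3_2 lc_a_rc_1_0 lc_a_rc_0_1 lc_a_rc_3_2 lc_a_rc_1_0 lc_a_rc_21_0 lc_a_rc_3_2 lc_a_rc_2_2 lc_a_rc_4_2 lc_a_rc_21_0 lc_a_rc_0_1 lc_a_rc_3_2 lc_a_rc_3_2 lc_a_rc_3_2 lc_a_rc_2_0 lc_a_rc_1_0 lc_a_rc_3_0 lc_a_rc_4_2 lc_a_rc_2_2 lc_a_rc_3_2 lc_a_rc_4_2 lc_a_rc_3_2 lc_a_rc_2_2 lc_a_Cert_tree lc_a_rc_0_1 lc_a_rc_4_0 lc_a_rc_0_1 lc_a_rc_3_2 lc_a_rc_4_0 lc_a_rc_2_2 lc_a_rc_4_2 lc_a_rc_1_2 lc_a_rc_21_0 lc_a_rc_3_2 lc_a_rc_4_2 lc_a_rc_3_2 lc_a_rc_2_0 lc_a_rc_21_0 lc_a_rc_3_2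 lc_a_rc_1_0 lc_a_rc_1_0 lc_a_rc_2_2 lc_a_rc_3_2 lc_a_rc_4_0 lc_a_rc_3_2 lc_a_rc_2_2 lc_a_rc_2_0 lc_a_rc_3_0 lc_a_rc_3_2 lc_a_rc_2_2 lc_a_rc_1_2 lc_a_rc_4_2 lc_a_rc_2_2 lc_a_rc_2_2 lc_a_rc_4_0 lc_a_rc_2_0) (@D3.rec (fun _ => (Cert rels S Gen.a)) lc_a_rc_5_2 lc_a_rc_22_0 lc_a_rc_5_2 lc_a_rc_3_2 lc_a_rc_4_2 lc_a_rc_3_2 lc_a_rc_3_0 lc_a_rc_21_0 lc_a_rc_22_0 lc_a_rc_4_2 lc_a_rc_4_2 lc_a_rc_2_2 lc_a_rc_3_2 lc_a_rc_2_2 lc_a_rc_1_4 lc_a_rc_2_2 lc_a_rc_2_2 lc_a_rc_2_2 lc_a_rc_3_2 lc_a_rc_3_2 lc_a_rc_22_0 lc_a_rc_2_2 lc_a_rc_5_2 lc_a_rc_3_0 lc_a_rc_5_0 lc_a_rc_4_0 lc_a_rc_2_2 lc_a_rc_3_0 lc_a_rc_3_0 lc_a_rc_4_0 lc_a_rc_3_0 lc_a_rc_2_2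 lc_a_rc_1_4 lc_a_rc_1_4 lc_a_rc_21_0 lc_a_rc_0_1 lc_a_rc_2_2 lc_a_rc_1_4 lc_a_rc_5_2 lc_a_rc_21_0 lc_a_rc_3_0 lc_a_rc_4_0 lc_a_rc_1_0 lc_a_rc_3_0 lc_a_rc_3_0 lc_a_rc_4_0 lc_a_rc_0_1 lc_a_rc_3_2 lc_a_rc_2_2 lc_a_rc_5_0 lc_a_rc_22_0 lc_a_rc_3_2 lc_a_rc_3_2 lc_a_Cert_tree lc_a_rc_3_2 lc_a_rc_4_2 lc_a_rc_3_2 lc_a_rc_3_0 lc_a_rc_22_0 lc_a_rc_2_0 lc_a_rc_5_2 lc_a_rc_22_0) (@D3.rec (fun _ => (Cert rels S Gen.a)) lc_a_rc_4_0 lc_a_rc_3_2 lc_a_rc_4_2 lc_a_rc_2_2 lc_a_rc_3_2 lc_a_rc_3_0 lc_a_rc_5_2 lc_a_rc_4_2 lc_a_rc_2_2 lc_a_rc_3_2 lc_a_rc_4_0 lc_a_rc_2_2 lc_a_rc_3_2 lc_a_rc_3_2 lc_a_rc_3_2 lc_a_rc_3_2 lc_a_rc_4_2 lc_a_rc_5_2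 lc_a_rc_5_0 lc_a_rc_5_0 lc_a_rc_2_2 lc_a_rc_3_2 lc_a_rc_2_2 lc_a_rc_0_1 lc_a_rc_2_2 lc_a_rc_3_0 lc_a_rc_5_0 lc_a_rc_2_2 lc_a_rc_3_2 lc_a_rc_2_2 lc_a_rc_3_2 lc_a_rc_2_2 lc_a_rc_5_0 lc_a_rc_5_2 lc_a_rc_0_1 lc_a_rc_2_2 lc_a_rc_1_4 lc_a_rc_2_2 lc_a_rc_1_4 lc_a_rc_4_0 lc_a_rc_1_0 lc_a_rc_0_1 lc_a_rc_1_4 lc_a_rc_2_2 lc_a_rc_3_2 lc_a_rc_4_2 lc_a_rc_4_2 lc_a_rc_2_2 lc_a_rc_5_2 lc_a_rc_3_0 lc_a_rc_5_2 lc_a_rc_2_0 lc_a_rc_4_2 lc_a_rc_3_0 lc_a_rc_3_2 lc_a_Cert_tree lc_a_rc_4_2 lc_a_rc_1_4 lc_a_rc_3_0 lc_a_rc_4_2 lc_a_rc_4_2 lc_a_rc_2_0) (@D3.rec (fun _ => (Cert rels S Gen.a)) lc_a_rc_5_2 lc_a_rc_4_2 lc_a_rc_3_2 lc_a_rc_1_4 lc_a_rc_5_2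 lc_a_rc_3_0 lc_a_rc_4_2 lc_a_rc_4_0 lc_a_rc_1_0 lc_a_rc_5_2 lc_a_rc_5_2 lc_a_rc_4_2 lc_a_rc_4_2 lc_a_rc_3_2 lc_a_rc_5_2 lc_a_rc_2_0 lc_a_rc_2_2 lc_a_rc_3_2 lc_a_rc_3_2 lc_a_rc_5_2 lc_a_rc_2_2 lc_a_rc_1_4 lc_a_Cert_tree lc_a_rc_0_1 lc_a_rc_0_1 lc_a_rc_5_2 lc_a_rc_3_2 lc_a_rc_4_2 lc_a_rc_4_2 lc_a_rc_3_2 lc_a_rc_3_2 lc_a_rc_2_0 lc_a_rc_4_2 lc_a_rc_3_2 lc_a_rc_1_4 lc_a_rc_2_2 lc_a_rc_3_2 lc_a_rc_3_2 lc_a_rc_3_2 lc_a_rc_2_2 lc_a_rc_22_0 lc_a_rc_21_0 lc_a_rc_4_2 lc_a_rc_22_0 lc_a_rc_0_1 lc_a_rc_0_1 lc_a_rc_3_2 lc_a_rc_4_2 lc_a_rc_2_2 lc_a_rc_4_2 lc_a_rc_4_0 lc_a_rc_3_0 lc_a_rc_0_1 lc_a_rc_0_1 lc_a_rc_3_2 lc_a_rc_5_2 lc_a_rc_1_0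 lc_a_rc_5_2 lc_a_rc_2_2 lc_a_rc_4_2 lc_a_rc_21_0 lc_a_rc_2_0) (@D3.rec (fun _ => (Cert rels S Gen.a)) lc_a_rc_5_2 lc_a_rc_21_0 lc_a_rc_3_2 lc_a_rc_5_2 lc_a_rc_3_2 lc_a_rc_5_2 lc_a_rc_2_2 lc_a_rc_2_2 lc_a_rc_3_0 lc_a_rc_21_0 lc_a_rc_3_2 lc_a_rc_4_2 lc_a_rc_2_0 lc_a_rc_4_2 lc_a_rc_3_0 lc_a_rc_5_0 lc_a_rc_21_0 lc_a_rc_5_2 lc_a_rc_2_2 lc_a_rc_2_2 lc_a_rc_0_1 lc_a_rc_1_4 lc_a_rc_4_2 lc_a_rc_0_1 lc_a_rc_2_0 lc_a_rc_4_2 lc_a_rc_5_0 lc_a_rc_4_2 lc_a_rc_21_0 lc_a_rc_3_2 lc_a_rc_3_2 lc_a_rc_3_2 lc_a_rc_21_0 lc_a_rc_3_2 lc_a_rc_3_2 lc_a_rc_4_2 lc_a_rc_21_0 lc_a_rc_4_2 lc_a_rc_3_2 lc_a_rc_4_0 lc_a_rc_3_2 lc_a_rc_21_0 lc_a_rc_4_2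 lc_a_rc_5_2 lc_a_rc_0_1 lc_a_rc_4_0 lc_a_rc_3_2 lc_a_rc_3_2 lc_a_rc_21_0 lc_a_rc_21_0 lc_a_rc_3_2 lc_a_rc_5_2 lc_a_rc_3_2 lc_a_Cert_tree lc_a_rc_5_0 lc_a_rc_1_4 lc_a_rc_4_2 lc_a_rc_3_2 lc_a_rc_5_2 lc_a_rc_4_2 lc_a_rc_1_4 lc_a_rc_4_2) (@D3.rec (fun _ => (Cert rels S Gen.a)) lc_a_rc_3_2 lc_a_rc_21_0 lc_a_rc_3_2 lc_a_rc_1_2 lc_a_rc_3_2 lc_a_rc_4_2 lc_a_rc_5_0 lc_a_rc_0_1 lc_a_rc_0_1 lc_a_rc_5_2 lc_a_rc_3_2 lc_a_rc_4_2 lc_a_rc_21_0 lc_a_rc_0_1 lc_a_rc_3_2 lc_a_rc_3_2 lc_a_rc_5_0 lc_a_Cert_tree lc_a_rc_0_1 lc_a_rc_3_2 lc_a_rc_3_2 lc_a_rc_3_2 lc_a_rc_0_1 lc_a_rc_3_2 lc_a_rc_2_2 lc_a_rc_3_2 lc_a_rc_2_2 lc_a_rc_5_0 lc_a_rc_21_0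 lc_a_rc_4_2 lc_a_rc_2_2 lc_a_rc_3_2 lc_a_rc_2_2 lc_a_rc_1_2 lc_a_rc_1_2 lc_a_rc_4_2 lc_a_rc_3_2 lc_a_rc_5_2 lc_a_rc_3_2 lc_a_rc_2_2 lc_a_rc_0_1 lc_a_rc_22_0 lc_a_rc_4_2 lc_a_rc_3_2 lc_a_rc_3_2 lc_a_rc_3_2 lc_a_rc_2_2 lc_a_rc_0_1 lc_a_rc_2_2 lc_a_rc_4_2 lc_a_Cert_tree lc_a_rc_2_2 lc_a_rc_3_2 lc_a_rc_4_2 lc_a_rc_2_2 lc_a_rc_4_2 lc_a_rc_0_1 lc_a_rc_2_2 lc_a_Cert_tree lc_a_rc_3_2 lc_a_rc_2_2 lc_a_rc_5_2) (@D3.rec (fun _ => (Cert rels S Gen.a)) lc_a_rc_3_2 lc_a_rc_3_2 lc_a_rc_21_0 lc_a_rc_1_2 lc_a_rc_0_1 lc_a_rc_21_0 lc_a_rc_2_2 lc_a_rc_4_2 lc_a_rc_2_2 lc_a_rc_2_2 lc_a_rc_1_4 lc_a_rc_4_0 lc_a_rc_3_2 lc_a_rc_3_2 lc_a_rc_2_2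 lc_a_rc_3_2 lc_a_rc_4_2 lc_a_rc_3_2 lc_a_rc_3_2 lc_a_rc_2_2 lc_a_rc_4_2 lc_a_rc_3_2 lc_a_rc_2_2 lc_a_rc_21_0 lc_a_rc_3_2 lc_a_rc_5_2 lc_a_rc_0_1 lc_a_rc_21_0 lc_a_rc_21_0 lc_a_rc_3_2 lc_a_rc_1_2 lc_a_rc_2_0 lc_a_rc_21_0 lc_a_rc_3_2 lc_a_rc_4_2 lc_a_rc_21_0 lc_a_rc_4_2 lc_a_rc_21_0 lc_a_rc_4_0 lc_a_rc_4_2 lc_a_rc_0_1 lc_a_rc_3_2 lc_a_rc_4_2 lc_a_rc_3_2 lc_a_rc_22_0 lc_a_rc_22_0 lc_a_rc_4_2 lc_a_rc_4_2 lc_a_rc_4_2 lc_a_rc_3_0 lc_a_rc_4_2 lc_a_rc_4_0 lc_a_rc_21_0 lc_a_rc_0_1 lc_a_rc_1_0 lc_a_rc_4_0 lc_a_rc_5_2 lc_a_rc_4_2 lc_a_rc_3_2 lc_a_rc_5_2 lc_a_rc_0_1 lc_a_rc_5_0) (@D3.rec (fun _ => (Cert rels S Gen.a)) lc_a_rc_4_0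 lc_a_rc_2_0 lc_a_rc_0_1 lc_a_rc_1_0 lc_a_rc_21_0 lc_a_rc_1_4 lc_a_rc_2_2 lc_a_rc_1_2 lc_a_rc_4_2 lc_a_rc_3_2 lc_a_rc_3_2 lc_a_rc_2_2 lc_a_rc_2_2 lc_a_rc_5_0 lc_a_rc_0_1 lc_a_rc_3_2 lc_a_rc_0_1 lc_a_rc_2_2 lc_a_rc_3_2 lc_a_rc_2_0 lc_a_rc_3_2 lc_a_rc_0_1 lc_a_rc_2_2 lc_a_rc_2_0 lc_a_rc_3_2 lc_a_rc_0_1 lc_a_rc_4_2 lc_a_rc_3_0 lc_a_rc_5_2 lc_a_rc_4_2 lc_a_rc_2_2 lc_a_rc_0_1 lc_a_rc_4_2 lc_a_rc_3_2 lc_a_rc_0_1 lc_a_rc_2_2 lc_a_rc_2_2 lc_a_rc_2_2 lc_a_rc_1_4 lc_a_rc_5_2 lc_a_rc_3_2 lc_a_rc_4_2 lc_a_rc_4_2 lc_a_rc_5_2 lc_a_rc_4_2 lc_a_rc_5_2 lc_a_rc_4_2 lc_a_rc_4_2 lc_a_rc_3_0 lc_a_rc_4_2 lc_a_rc_5_2 lc_a_rc_4_2 lc_a_rc_3_2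 lc_a_rc_3_2 lc_a_rc_1_4 lc_a_rc_0_1 lc_a_rc_5_2 lc_a_rc_4_2 lc_a_rc_5_2 lc_a_rc_22_0 lc_a_rc_3_2 lc_a_rc_5_0) (@D3.rec (fun _ => (Cert rels S Gen.a)) lc_a_rc_4_2 lc_a_rc_0_1 lc_a_rc_2_2 lc_a_rc_4_2 lc_a_rc_0_1 lc_a_rc_2_2 lc_a_rc_3_2 lc_a_rc_5_0 lc_a_rc_2_2 lc_a_rc_4_2 lc_a_rc_21_0 lc_a_rc_4_2 lc_a_rc_2_2 lc_a_rc_21_0 lc_a_rc_1_0 lc_a_rc_21_0 lc_a_rc_3_2 lc_a_rc_3_2 lc_a_rc_0_1 lc_a_rc_5_2 lc_a_rc_4_2 lc_a_rc_4_2 lc_a_rc_2_2 lc_a_rc_5_0 lc_a_rc_4_2 lc_a_rc_1_2 lc_a_rc_0_1 lc_a_rc_1_4 lc_a_rc_21_0 lc_a_rc_4_2 lc_a_rc_3_2 lc_a_rc_0_1 lc_a_rc_4_2 lc_a_Cert_tree lc_a_rc_3_2 lc_a_rc_21_0 lc_a_rc_21_0 lc_a_rc_4_2 lc_a_Cert_tree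 lc_a_rc_3_2 lc_a_rc_1_0 lc_a_rc_0_1 lc_a_rc_3_2 lc_a_rc_0_1 lc_a_rc_2_2 lc_a_rc_3_0 lc_a_rc_5_0 lc_a_rc_5_2 lc_a_rc_5_2 lc_a_rc_0_1 lc_a_rc_3_2 lc_a_rc_4_2 lc_a_rc_1_2 lc_a_rc_3_2 lc_a_rc_2_2 lc_a_rc_3_2 lc_a_rc_4_2 lc_a_rc_5_0 lc_a_Cert_tree lc_a_rc_5_2 lc_a_rc_3_2 lc_a_rc_0_1) (@D3.rec (fun _ => (Cert rels S Gen.a)) lc_a_rc_2_2 lc_a_rc_3_2 lc_a_rc_4_2 lc_a_rc_3_2 lc_a_rc_4_2 lc_a_rc_3_2 lc_a_rc_4_2 lc_a_rc_3_2 lc_a_rc_3_2 lc_a_rc_2_0 lc_a_rc_1_2 lc_a_rc_5_2 lc_a_rc_4_2 lc_a_rc_0_1 lc_a_rc_21_0 lc_a_rc_2_2 lc_a_rc_5_2 lc_a_rc_1_4 lc_a_rc_3_2 lc_a_rc_1_0 lc_a_rc_4_0 lc_a_rc_3_0 lc_a_rc_4_2 lc_a_rc_21_0 lc_a_rc_4_0 lc_a_rc_0_1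 lc_a_rc_3_2 lc_a_rc_4_2 lc_a_rc_4_2 lc_a_rc_0_1 lc_a_rc_1_2 lc_a_rc_5_2 lc_a_rc_1_0 lc_a_rc_3_2 lc_a_rc_3_2 lc_a_rc_2_2 lc_a_rc_3_2 lc_a_rc_3_0 lc_a_rc_2_2 lc_a_rc_3_2 lc_a_rc_4_2 lc_a_rc_3_2 lc_a_rc_4_2 lc_a_rc_5_2 lc_a_rc_0_1 lc_a_rc_3_0 lc_a_rc_3_2 lc_a_rc_4_0 lc_a_rc_0_1 lc_a_rc_0_1 lc_a_rc_1_4 lc_a_rc_1_2 lc_a_rc_5_2 lc_a_rc_3_2 lc_a_rc_21_0 lc_a_rc_5_2 lc_a_rc_0_1 lc_a_rc_21_0 lc_a_rc_0_1 lc_a_rc_4_2 lc_a_rc_2_2 lc_a_rc_2_2) (@D3.rec (fun _ => (Cert rels S Gen.a)) lc_a_rc_3_2 lc_a_rc_21_0 lc_a_rc_0_1 lc_a_rc_3_2 lc_a_rc_3_2 lc_a_rc_21_0 lc_a_rc_3_2 lc_a_rc_21_0 lc_a_rc_21_0 lc_a_rc_1_4 lc_a_rc_21_0 lc_a_rc_1_4 lc_a_rc_1_4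 lc_a_rc_4_2 lc_a_rc_2_2 lc_a_rc_4_2 lc_a_rc_21_0 lc_a_rc_0_1 lc_a_rc_0_1 lc_a_rc_0_1 lc_a_rc_2_2 lc_a_rc_0_1 lc_a_rc_0_1 lc_a_rc_2_2 lc_a_rc_1_4 lc_a_rc_3_2 lc_a_rc_2_2 lc_a_rc_0_1 lc_a_rc_5_2 lc_a_rc_21_0 lc_a_rc_0_1 lc_a_rc_21_0 lc_a_rc_0_1 lc_a_rc_2_2 lc_a_rc_5_2 lc_a_rc_2_2 lc_a_rc_0_1 lc_a_rc_2_0 lc_a_rc_3_2 lc_a_rc_0_1 lc_a_rc_3_2 lc_a_rc_21_0 lc_a_rc_4_2 lc_a_rc_4_2 lc_a_rc_1_2 lc_a_rc_4_2 lc_a_rc_2_2 lc_a_rc_2_2 lc_a_rc_2_2 lc_a_rc_3_2 lc_a_rc_5_2 lc_a_rc_5_0 lc_a_rc_2_0 lc_a_rc_4_2 lc_a_rc_1_4 lc_a_rc_2_0 lc_a_rc_3_0 lc_a_rc_4_0 lc_a_rc_0_1 lc_a_rc_0_1 lc_a_rc_3_2 lc_a_rc_3_2) (@D3.rec (fun _ => (Cert rels S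 Gen.a)) lc_a_rc_2_0 lc_a_rc_1_4 lc_a_rc_3_0 lc_a_rc_1_0 lc_a_rc_3_2 lc_a_rc_3_2 lc_a_rc_3_0 lc_a_rc_4_2 lc_a_rc_0_1 lc_a_rc_4_2 lc_a_rc_2_2 lc_a_rc_3_2 lc_a_rc_2_2 lc_a_rc_1_0 lc_a_Cert_tree lc_a_rc_3_2 lc_a_rc_4_2 lc_a_rc_5_2 lc_a_rc_3_2 lc_a_rc_3_0 lc_a_rc_2_0 lc_a_rc_3_2 lc_a_rc_4_2 lc_a_rc_3_2 lc_a_rc_3_2 lc_a_rc_2_2 lc_a_rc_2_2 lc_a_rc_4_2 lc_a_rc_3_2 lc_a_rc_3_2 lc_a_rc_4_2 lc_a_rc_2_2 lc_a_rc_4_2 lc_a_rc_2_2 lc_a_rc_4_2 lc_a_rc_0_1 lc_a_rc_5_2 lc_a_Cert_tree lc_a_rc_2_2 lc_a_rc_3_0 lc_a_rc_0_1 lc_a_rc_4_0 lc_a_rc_1_4 lc_a_rc_2_2 lc_a_rc_3_2 lc_a_rc_0_1 lc_a_rc_2_2 lc_a_rc_4_2 lc_a_rc_3_2 lc_a_rc_4_2 lc_a_rc_4_2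 lc_a_rc_2_0 lc_a_rc_3_0 lc_a_rc_5_0 lc_a_rc_2_2 lc_a_rc_21_0 lc_a_rc_3_0 lc_a_rc_2_2 lc_a_rc_4_2 lc_a_rc_21_0 lc_a_rc_1_0 lc_a_rc_3_2) (@D3.rec (fun _ => (Cert rels S Gen.a)) lc_a_rc_21_0 lc_a_rc_2_2 lc_a_rc_4_2 lc_a_rc_3_2 lc_a_rc_5_2 lc_a_rc_4_2 lc_a_rc_0_1 lc_a_rc_4_2 lc_a_rc_0_1 lc_a_rc_3_2 lc_a_rc_5_2 lc_a_rc_2_2 lc_a_rc_3_2 lc_a_rc_4_2 lc_a_rc_5_2 lc_a_rc_3_2 lc_a_rc_5_0 lc_a_rc_3_2 lc_a_rc_2_2 lc_a_rc_5_2 lc_a_rc_3_0 lc_a_rc_3_2 lc_a_rc_2_2 lc_a_rc_21_0 lc_a_rc_4_2 lc_a_rc_21_0 lc_a_rc_0_1 lc_a_rc_5_2 lc_a_rc_21_0 lc_a_rc_4_2 lc_a_rc_4_0 lc_a_rc_21_0 lc_a_rc_5_2 lc_a_rc_1_0 lc_a_rc_1_0 lc_a_rc_0_1 lc_a_rc_2_0 lc_a_rc_3_0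 lc_a_rc_0_1 lc_a_rc_0_1 lc_a_rc_0_1 lc_a_rc_2_2 lc_a_rc_3_2 lc_a_rc_4_2 lc_a_rc_22_0 lc_a_rc_2_0 lc_a_rc_4_2 lc_a_rc_5_2 lc_a_rc_2_2 lc_a_rc_3_0 lc_a_rc_0_1 lc_a_rc_3_2 lc_a_rc_5_2 lc_a_rc_3_2 lc_a_rc_5_2 lc_a_rc_5_0 lc_a_rc_4_2 lc_a_rc_5_0 lc_a_rc_3_2 lc_a_rc_2_2 lc_a_rc_5_2 lc_a_rc_2_2) (@D3.rec (fun _ => (Cert rels S Gen.a)) lc_a_rc_2_2 lc_a_Cert_tree lc_a_rc_3_2 lc_a_rc_2_2 lc_a_rc_3_2 lc_a_rc_2_2 lc_a_rc_2_2 lc_a_rc_4_2 lc_a_rc_3_2 lc_a_rc_4_2 lc_a_rc_3_2 lc_a_rc_1_0 lc_a_rc_21_0 lc_a_rc_3_2 lc_a_rc_2_2 lc_a_rc_4_2 lc_a_rc_4_2 lc_a_rc_2_2 lc_a_rc_0_1 lc_a_rc_3_2 lc_a_rc_4_2 lc_a_rc_3_2 lc_a_rc_4_2 lc_a_rc_0_1 lc_a_rc_2_2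 lc_a_rc_5_2 lc_a_rc_4_2 lc_a_rc_3_2 lc_a_rc_2_2 lc_a_rc_2_2 lc_a_rc_3_2 lc_a_rc_4_2 lc_a_rc_2_2 lc_a_rc_0_1 lc_a_rc_3_2 lc_a_rc_5_2 lc_a_rc_1_4 lc_a_rc_2_2 lc_a_rc_3_2 lc_a_rc_4_2 lc_a_rc_3_0 lc_a_rc_3_2 lc_a_rc_5_0 lc_a_rc_0_1 lc_a_rc_2_2 lc_a_rc_5_2 lc_a_rc_4_2 lc_a_rc_5_0 lc_a_rc_3_2 lc_a_rc_4_0 lc_a_rc_4_2 lc_a_rc_4_2 lc_a_rc_4_2 lc_a_rc_4_2 lc_a_rc_4_2 lc_a_rc_4_0 lc_a_rc_22_0 lc_a_rc_0_1 lc_a_rc_0_1 lc_a_rc_0_1 lc_a_rc_2_2 lc_a_rc_2_2) (@D3.rec (fun _ => (Cert rels S Gen.a)) lc_a_rc_3_2 lc_a_rc_2_2 lc_a_rc_5_2 lc_a_rc_5_0 lc_a_rc_4_2 lc_a_rc_2_2 lc_a_rc_2_2 lc_a_rc_4_2 lc_a_rc_3_2 lc_a_rc_21_0 lc_a_rc_21_0 lc_a_rc_2_2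 lc_a_rc_21_0 lc_a_rc_4_2 lc_a_rc_2_2 lc_a_rc_4_2 lc_a_rc_5_0 lc_a_rc_0_1 lc_a_rc_21_0 lc_a_rc_3_0 lc_a_rc_5_2 lc_a_rc_2_2 lc_a_rc_1_4 lc_a_rc_2_2 lc_a_rc_4_2 lc_a_rc_2_2 lc_a_rc_2_0 lc_a_rc_3_2 lc_a_rc_2_2 lc_a_rc_3_0 lc_a_rc_5_2 lc_a_rc_2_2 lc_a_rc_3_2 lc_a_rc_2_0 lc_a_rc_4_2 lc_a_rc_2_2 lc_a_rc_4_2 lc_a_rc_1_4 lc_a_rc_4_2 lc_a_rc_1_2 lc_a_rc_5_2 lc_a_rc_4_0 lc_a_rc_5_0 lc_a_rc_2_2 lc_a_rc_5_2 lc_a_rc_4_0 lc_a_rc_21_0 lc_a_rc_4_0 lc_a_rc_0_1 lc_a_rc_21_0 lc_a_rc_3_2 lc_a_rc_3_2 lc_a_rc_3_0 lc_a_rc_4_2 lc_a_rc_2_2 lc_a_rc_2_0 lc_a_rc_2_2 lc_a_rc_4_2 lc_a_rc_4_2 lc_a_rc_0_1 lc_a_rc_3_2 lc_a_rc_2_2) (@D3.rec (fun _ => (Cert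 rels S Gen.a)) lc_a_rc_4_2 lc_a_rc_5_2 lc_a_rc_21_0 lc_a_rc_4_0 lc_a_rc_1_4 lc_a_rc_5_2 lc_a_rc_5_0 lc_a_rc_1_2 lc_a_Cert_tree lc_a_rc_2_2 lc_a_rc_1_2 lc_a_rc_3_2 lc_a_rc_5_2 lc_a_rc_2_0 lc_a_rc_0_1 lc_a_rc_3_0 lc_a_rc_4_2 lc_a_rc_2_2 lc_a_rc_21_0 lc_a_rc_3_2 lc_a_rc_5_2 lc_a_rc_4_2 lc_a_rc_5_2 lc_a_rc_4_2 lc_a_rc_2_2 lc_a_rc_4_2 lc_a_rc_0_1 lc_a_rc_4_2 lc_a_rc_0_1 lc_a_rc_3_0 lc_a_rc_2_2 lc_a_rc_4_2 lc_a_rc_4_2 lc_a_rc_1_4 lc_a_rc_0_1 lc_a_rc_0_1 lc_a_rc_4_2 lc_a_rc_2_2 lc_a_rc_1_2 lc_a_rc_0_1 lc_a_rc_2_0 lc_a_rc_2_2 lc_a_rc_2_2 lc_a_rc_3_2 lc_a_rc_2_2 lc_a_rc_21_0 lc_a_rc_3_2 lc_a_rc_4_2 lc_a_rc_2_2 lc_a_rc_3_2 lc_a_rc_2_0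 lc_a_rc_3_2 lc_a_rc_5_2 lc_a_rc_2_2 lc_a_rc_3_2 lc_a_rc_4_2 lc_a_rc_3_2 lc_a_rc_2_2 lc_a_rc_2_2 lc_a_rc_0_1 lc_a_rc_1_2 lc_a_rc_4_2) (@D3.rec (fun _ => (Cert rels S Gen.a)) lc_a_rc_2_0 lc_a_rc_3_2 lc_a_rc_2_2 lc_a_rc_0_1 lc_a_rc_5_2 lc_a_rc_4_2 lc_a_rc_21_0 lc_a_rc_0_1 lc_a_rc_1_0 lc_a_rc_2_2 lc_a_rc_1_0 lc_a_rc_0_1 lc_a_rc_21_0 lc_a_rc_4_2 lc_a_rc_5_0 lc_a_rc_3_2 lc_a_rc_4_2 lc_a_rc_0_1 lc_a_rc_5_2 lc_a_rc_0_1 lc_a_rc_2_2 lc_a_rc_1_4 lc_a_rc_22_0 lc_a_rc_3_2 lc_a_rc_4_2 lc_a_rc_3_2 lc_a_rc_5_2 lc_a_rc_3_2 lc_a_rc_4_2 lc_a_rc_21_0 lc_a_rc_1_4 lc_a_rc_4_2 lc_a_rc_0_1 lc_a_rc_3_2 lc_a_rc_4_0 lc_a_rc_2_2 lc_a_rc_3_2 lc_a_rc_4_2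 lc_a_rc_3_2 lc_a_rc_3_0 lc_a_rc_3_2 lc_a_rc_0_1 lc_a_rc_21_0 lc_a_Cert_tree lc_a_rc_3_2 lc_a_rc_0_1 lc_a_rc_3_0 lc_a_rc_3_2 lc_a_rc_4_2 lc_a_rc_1_2 lc_a_rc_2_0 lc_a_rc_3_0 lc_a_rc_5_2 lc_a_rc_4_2 lc_a_rc_3_2 lc_a_rc_21_0 lc_a_rc_0_1 lc_a_rc_21_0 lc_a_rc_3_2 lc_a_rc_3_2 lc_a_rc_3_2 lc_a_rc_3_0) (@D3.rec (fun _ => (Cert rels S Gen.a)) lc_a_rc_1_4 lc_a_rc_5_2 lc_a_rc_5_2 lc_a_rc_3_2 lc_a_rc_2_2 lc_a_rc_5_2 lc_a_rc_3_2 lc_a_rc_2_2 lc_a_rc_2_2 lc_a_rc_3_2 lc_a_rc_2_2 lc_a_rc_21_0 lc_a_rc_0_1 lc_a_rc_0_1 lc_a_rc_3_2 lc_a_rc_3_2 lc_a_rc_4_2 lc_a_rc_2_2 lc_a_rc_3_2 lc_a_rc_3_2 lc_a_rc_4_2 lc_a_rc_5_0 lc_a_rc_3_2 lc_a_rc_2_2 lc_a_rc_5_2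 lc_a_rc_2_2 lc_a_rc_2_0 lc_a_rc_0_1 lc_a_rc_1_4 lc_a_rc_3_2 lc_a_rc_5_2 lc_a_rc_5_2 lc_a_rc_5_0 lc_a_rc_3_2 lc_a_rc_4_2 lc_a_rc_2_2 lc_a_rc_5_2 lc_a_rc_3_2 lc_a_rc_4_0 lc_a_rc_21_0 lc_a_rc_3_2 lc_a_rc_2_2 lc_a_rc_2_2 lc_a_rc_2_2 lc_a_rc_4_2 lc_a_rc_2_0 lc_a_rc_1_0 lc_a_rc_5_2 lc_a_rc_4_2 lc_a_rc_3_2 lc_a_rc_3_2 lc_a_rc_21_0 lc_a_rc_5_2 lc_a_rc_3_2 lc_a_rc_3_2 lc_a_rc_4_0 lc_a_rc_1_0 lc_a_rc_0_1 lc_a_rc_4_2 lc_a_rc_2_2 lc_a_rc_2_2 lc_a_rc_5_2) (@D3.rec (fun _ => (Cert rels S Gen.a)) lc_a_rc_4_2 lc_a_rc_4_0 lc_a_rc_5_0 lc_a_rc_3_2 lc_a_rc_3_2 lc_a_rc_0_1 lc_a_rc_2_2 lc_a_rc_3_2 lc_a_rc_5_2 lc_a_rc_0_1 lc_a_rc_2_2 lc_a_rc_3_2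 lc_a_rc_4_2 lc_a_rc_0_1 lc_a_rc_4_2 lc_a_rc_4_2 lc_a_rc_3_2 lc_a_rc_4_2 lc_a_rc_4_2 lc_a_rc_4_0 lc_a_rc_2_2 lc_a_rc_21_0 lc_a_rc_2_2 lc_a_rc_4_2 lc_a_rc_2_2 lc_a_rc_2_2 lc_a_rc_0_1 lc_a_rc_3_0 lc_a_rc_2_2 lc_a_rc_3_0 lc_a_rc_3_0 lc_a_rc_5_0 lc_a_rc_4_2 lc_a_rc_4_2 lc_a_rc_21_0 lc_a_rc_4_0 lc_a_rc_0_1 lc_a_rc_2_2 lc_a_rc_4_2 lc_a_rc_2_2 lc_a_rc_1_0 lc_a_rc_4_0 lc_a_rc_22_0 lc_a_rc_3_2 lc_a_rc_2_2 lc_a_rc_5_2 lc_a_rc_3_2 lc_a_rc_4_2 lc_a_rc_2_2 lc_a_rc_2_2 lc_a_Cert_tree lc_a_rc_3_2 lc_a_rc_2_2 lc_a_rc_0_1 lc_a_rc_21_0 lc_a_rc_3_0 lc_a_rc_2_2 lc_a_rc_3_2 lc_a_rc_1_4 lc_a_rc_3_0 lc_a_rc_2_2 lc_a_rc_4_2) (@D3.rec (fun _ =>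 (Cert rels S Gen.a)) lc_a_rc_2_0 lc_a_rc_2_0 lc_a_rc_5_0 lc_a_rc_21_0 lc_a_rc_2_2 lc_a_rc_4_2 lc_a_rc_21_0 lc_a_rc_4_0 lc_a_rc_1_4 lc_a_rc_4_0 lc_a_rc_3_2 lc_a_rc_3_0 lc_a_rc_0_1 lc_a_rc_1_2 lc_a_rc_5_2 lc_a_rc_3_2 lc_a_rc_2_2 lc_a_rc_4_2 lc_a_rc_3_2 lc_a_rc_0_1 lc_a_rc_2_0 lc_a_rc_0_1 lc_a_rc_3_2 lc_a_rc_5_2 lc_a_rc_4_2 lc_a_rc_3_2 lc_a_rc_21_0 lc_a_rc_3_0 lc_a_rc_3_2 lc_a_rc_3_2 lc_a_rc_2_2 lc_a_rc_5_2 lc_a_rc_1_2 lc_a_rc_3_2 lc_a_rc_2_2 lc_a_rc_0_1 lc_a_rc_1_2 lc_a_rc_5_2 lc_a_rc_5_0 lc_a_rc_3_2 lc_a_rc_21_0 lc_a_rc_3_2 lc_a_rc_3_2 lc_a_rc_4_2 lc_a_rc_0_1 lc_a_rc_2_2 lc_a_rc_21_0 lc_a_rc_4_2 lc_a_rc_0_1 lc_a_rc_3_2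 lc_a_rc_5_2 lc_a_rc_3_2 lc_a_rc_3_2 lc_a_rc_2_2 lc_a_rc_3_0 lc_a_rc_5_2 lc_a_rc_21_0 lc_a_rc_0_1 lc_a_rc_0_1 lc_a_rc_3_2 lc_a_rc_21_0 lc_a_rc_3_2) (@D3.rec (fun _ => (Cert rels S Gen.a)) lc_a_rc_4_2 lc_a_rc_0_1 lc_a_rc_3_2 lc_a_rc_3_2 lc_a_rc_4_2 lc_a_rc_3_2 lc_a_rc_4_2 lc_a_rc_3_2 lc_a_rc_2_2 lc_a_rc_4_0 lc_a_rc_0_1 lc_a_rc_3_2 lc_a_rc_3_2 lc_a_rc_3_2 lc_a_rc_21_0 lc_a_rc_1_2 lc_a_rc_2_2 lc_a_rc_3_0 lc_a_rc_2_2 lc_a_rc_4_2 lc_a_rc_21_0 lc_a_rc_2_2 lc_a_rc_3_2 lc_a_rc_3_2 lc_a_rc_22_0 lc_a_rc_0_1 lc_a_rc_4_2 lc_a_rc_4_2 lc_a_rc_2_2 lc_a_rc_4_2 lc_a_rc_3_2 lc_a_rc_4_0 lc_a_rc_3_2 lc_a_rc_3_0 lc_a_rc_2_2 lc_a_rc_2_0 lc_a_rc_2_2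 lc_a_rc_1_4 lc_a_rc_3_2 lc_a_rc_5_0 lc_a_rc_0_1 lc_a_rc_21_0 lc_a_rc_4_2 lc_a_rc_2_2 lc_a_rc_3_0 lc_a_rc_0_1 lc_a_rc_3_2 lc_a_rc_22_0 lc_a_rc_5_2 lc_a_rc_2_2 lc_a_rc_4_2 lc_a_rc_1_2 lc_a_rc_4_2 lc_a_rc_4_0 lc_a_rc_0_1 lc_a_rc_21_0 lc_a_rc_0_1 lc_a_rc_3_2 lc_a_rc_4_2 lc_a_rc_4_2 lc_a_rc_2_2 lc_a_rc_2_2) (@D3.rec (fun _ => (Cert rels S Gen.a)) lc_a_rc_3_2 lc_a_rc_2_2 lc_a_rc_2_2 lc_a_rc_2_0 lc_a_rc_4_2 lc_a_rc_1_4 lc_a_rc_0_1 lc_a_rc_2_2 lc_a_rc_0_1 lc_a_rc_3_2 lc_a_rc_21_0 lc_a_rc_3_2 lc_a_rc_3_2 lc_a_rc_3_0 lc_a_rc_4_2 lc_a_rc_3_0 lc_a_rc_0_1 lc_a_rc_0_1 lc_a_rc_3_2 lc_a_rc_4_2 lc_a_rc_2_0 lc_a_rc_0_1 lc_a_rc_3_2 lc_a_rc_3_0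 lc_a_rc_4_2 lc_a_rc_0_1 lc_a_rc_3_0 lc_a_rc_4_2 lc_a_rc_3_2 lc_a_rc_22_0 lc_a_rc_2_0 lc_a_rc_0_1 lc_a_rc_3_2 lc_a_rc_3_0 lc_a_Cert_tree lc_a_rc_3_0 lc_a_Cert_tree lc_a_rc_4_2 lc_a_Cert_tree lc_a_rc_4_2 lc_a_rc_1_2 lc_a_rc_4_2 lc_a_rc_5_2 lc_a_rc_4_2 lc_a_rc_2_2 lc_a_rc_2_2 lc_a_rc_3_2 lc_a_rc_2_2 lc_a_rc_2_2 lc_a_rc_2_2 lc_a_rc_3_2 lc_a_rc_4_2 lc_a_Cert_tree lc_a_rc_21_0 lc_a_rc_2_2 lc_a_rc_0_1 lc_a_rc_3_0 lc_a_rc_2_2 lc_a_rc_4_2 lc_a_rc_5_2 lc_a_rc_3_2 lc_a_rc_0_1) (@D3.rec (fun _ => (Cert rels S Gen.a)) lc_a_rc_4_2 lc_a_rc_3_2 lc_a_rc_2_2 lc_a_rc_2_2 lc_a_rc_21_0 lc_a_rc_3_2 lc_a_rc_4_0 lc_a_rc_3_2 lc_a_rc_2_2 lc_a_rc_21_0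 lc_a_rc_3_0 lc_a_rc_0_1 lc_a_rc_0_1 lc_a_rc_3_2 lc_a_rc_4_2 lc_a_rc_3_2 lc_a_rc_2_2 lc_a_rc_4_2 lc_a_rc_4_2 lc_a_rc_3_2 lc_a_rc_21_0 lc_a_rc_5_2 lc_a_rc_0_1 lc_a_rc_21_0 lc_a_rc_5_2 lc_a_rc_0_1 lc_a_rc_3_2 lc_a_rc_4_2 lc_a_rc_4_2 lc_a_rc_3_2 lc_a_rc_4_2 lc_a_rc_3_2 lc_a_rc_1_4 lc_a_rc_1_4 lc_a_rc_2_0 lc_a_rc_2_2 lc_a_rc_3_2 lc_a_rc_1_4 lc_a_rc_2_0 lc_a_rc_3_2 lc_a_rc_5_2 lc_a_rc_2_2 lc_a_rc_3_2 lc_a_rc_1_2 lc_a_rc_4_2 lc_a_rc_4_2 lc_a_rc_21_0 lc_a_rc_0_1 lc_a_rc_2_2 lc_a_rc_1_4 lc_a_rc_3_2 lc_a_rc_0_1 lc_a_rc_4_2 lc_a_rc_3_2 lc_a_rc_3_2 lc_a_rc_21_0 lc_a_rc_3_2 lc_a_rc_4_2 lc_a_rc_4_2 lc_a_rc_1_4 lc_a_rc_0_1 lc_a_rc_0_1)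 (@D3.rec (fun _ => (Cert rels S Gen.a)) lc_a_rc_4_0 lc_a_rc_5_2 lc_a_rc_4_2 lc_a_rc_0_1 lc_a_rc_3_2 lc_a_rc_4_2 lc_a_rc_2_2 lc_a_rc_0_1 lc_a_rc_21_0 lc_a_rc_4_2 lc_a_rc_3_2 lc_a_rc_0_1 lc_a_rc_21_0 lc_a_rc_0_1 lc_a_rc_5_2 lc_a_rc_0_1 lc_a_rc_3_2 lc_a_rc_5_2 lc_a_rc_1_2 lc_a_rc_2_2 lc_a_rc_3_2 lc_a_rc_5_2 lc_a_rc_3_2 lc_a_rc_4_2 lc_a_rc_3_2 lc_a_rc_0_1 lc_a_rc_3_2 lc_a_rc_2_2 lc_a_rc_21_0 lc_a_rc_0_1 lc_a_rc_3_2 lc_a_rc_3_2 lc_a_rc_21_0 lc_a_rc_22_0 lc_a_rc_3_2 lc_a_rc_1_0 lc_a_rc_1_0 lc_a_rc_0_1 lc_a_rc_3_2 lc_a_rc_3_2 lc_a_rc_2_2 lc_a_rc_5_2 lc_a_Cert_tree lc_a_rc_3_2 lc_a_rc_4_2 lc_a_rc_4_2 lc_a_rc_4_2 lc_a_rc_3_0 lc_a_rc_2_2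 lc_a_rc_3_2 lc_a_rc_3_2 lc_a_rc_5_2 lc_a_rc_3_2 lc_a_rc_3_2 lc_a_rc_2_2 lc_a_rc_0_1 lc_a_rc_5_0 lc_a_rc_2_2 lc_a_rc_5_2 lc_a_rc_0_1 lc_a_rc_3_2 lc_a_rc_21_0) (@D3.rec (fun _ => (Cert rels S Gen.a)) lc_a_rc_3_0 lc_a_rc_2_2 lc_a_rc_2_2 lc_a_Cert_tree lc_a_rc_3_2 lc_a_rc_5_2 lc_a_rc_0_1 lc_a_rc_0_1 lc_a_rc_2_0 lc_a_rc_1_0 lc_a_rc_0_1 lc_a_rc_3_2 lc_a_rc_1_2 lc_a_rc_3_0 lc_a_rc_21_0 lc_a_rc_4_2 lc_a_rc_4_2 lc_a_rc_21_0 lc_a_rc_4_2 lc_a_rc_4_2 lc_a_rc_4_2 lc_a_rc_0_1 lc_a_rc_3_2 lc_a_rc_1_4 lc_a_rc_3_2 lc_a_rc_2_2 lc_a_rc_3_2 lc_a_rc_4_2 lc_a_rc_2_2 lc_a_rc_21_0 lc_a_rc_0_1 lc_a_rc_2_2 lc_a_rc_2_2 lc_a_rc_21_0 lc_a_rc_2_0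 lc_a_rc_21_0 lc_a_rc_3_0 lc_a_rc_0_1 lc_a_rc_4_2 lc_a_rc_3_2 lc_a_rc_2_2 lc_a_rc_4_2 lc_a_rc_3_2 lc_a_rc_4_2 lc_a_rc_3_0 lc_a_rc_2_2 lc_a_rc_4_0 lc_a_rc_21_0 lc_a_rc_3_2 lc_a_rc_4_2 lc_a_rc_1_2 lc_a_rc_3_2 lc_a_rc_5_0 lc_a_rc_3_2 lc_a_rc_2_2 lc_a_rc_4_0 lc_a_rc_1_2 lc_a_rc_3_2 lc_a_rc_21_0 lc_a_rc_2_2 lc_a_rc_4_2 lc_a_rc_5_2) (@D3.rec (fun _ => (Cert rels S Gen.a)) lc_a_rc_3_2 lc_a_rc_0_1 lc_a_rc_0_1 lc_a_rc_4_2 lc_a_rc_0_1 lc_a_rc_4_2 lc_a_rc_1_4 lc_a_rc_21_0 lc_a_rc_3_0 lc_a_rc_21_0 lc_a_rc_2_2 lc_a_Cert_tree lc_a_rc_2_2 lc_a_rc_22_0 lc_a_rc_3_2 lc_a_rc_2_2 lc_a_rc_2_2 lc_a_rc_4_2 lc_a_rc_1_4 lc_a_rc_3_2 lc_a_rc_1_4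 lc_a_rc_3_2 lc_a_Cert_tree lc_a_rc_2_2 lc_a_rc_2_2 lc_a_rc_0_1 lc_a_rc_1_2 lc_a_rc_4_0 lc_a_rc_4_0 lc_a_rc_0_1 lc_a_rc_21_0 lc_a_rc_3_2 lc_a_rc_22_0 lc_a_rc_22_0 lc_a_rc_2_0 lc_a_rc_4_2 lc_a_rc_2_0 lc_a_rc_22_0 lc_a_rc_3_2 lc_a_rc_2_2 lc_a_rc_2_2 lc_a_rc_5_2 lc_a_rc_22_0 lc_a_rc_4_2 lc_a_rc_2_0 lc_a_rc_0_1 lc_a_rc_3_2 lc_a_rc_2_0 lc_a_rc_0_1 lc_a_rc_3_2 lc_a_rc_3_0 lc_a_rc_1_4 lc_a_rc_2_2 lc_a_rc_3_2 lc_a_rc_1_2 lc_a_rc_2_2 lc_a_rc_21_0 lc_a_rc_1_2 lc_a_Cert_tree lc_a_rc_4_2 lc_a_rc_22_0 lc_a_rc_4_2) (@D3.rec (fun _ => (Cert rels S Gen.a)) lc_a_rc_1_4 lc_a_rc_0_1 lc_a_rc_5_2 lc_a_rc_4_2 lc_a_rc_0_1 lc_a_rc_3_2 lc_a_rc_2_2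 lc_a_rc_4_2 lc_a_rc_21_0 lc_a_rc_1_2 lc_a_rc_4_2 lc_a_rc_5_2 lc_a_rc_3_2 lc_a_rc_1_4 lc_a_rc_3_2 lc_a_rc_3_0 lc_a_rc_3_2 lc_a_rc_2_2 lc_a_rc_3_2 lc_a_rc_3_2 lc_a_rc_2_2 lc_a_rc_2_0 lc_a_rc_3_2 lc_a_rc_3_2 lc_a_rc_3_2 lc_a_rc_2_2 lc_a_rc_5_2 lc_a_rc_5_2 lc_a_rc_2_2 lc_a_rc_4_2 lc_a_rc_1_2 lc_a_rc_2_2 lc_a_rc_22_0 lc_a_rc_4_2 lc_a_rc_2_0 lc_a_rc_5_0 lc_a_rc_4_2 lc_a_rc_0_1 lc_a_rc_3_2 lc_a_rc_21_0 lc_a_rc_0_1 lc_a_rc_0_1 lc_a_rc_1_2 lc_a_rc_21_0 lc_a_rc_0_1 lc_a_rc_4_2 lc_a_rc_21_0 lc_a_rc_4_2 lc_a_rc_3_2 lc_a_rc_5_0 lc_a_rc_0_1 lc_a_rc_22_0 lc_a_rc_5_2 lc_a_rc_0_1 lc_a_rc_5_2 lc_a_rc_4_2 lc_a_rc_3_2 lc_a_rc_4_2 lc_a_rc_3_2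 lc_a_rc_4_0 lc_a_rc_5_0 lc_a_rc_3_2) (@D3.rec (fun _ => (Cert rels S Gen.a)) lc_a_rc_5_2 lc_a_rc_1_4 lc_a_rc_5_0 lc_a_rc_3_0 lc_a_rc_2_2 lc_a_rc_5_2 lc_a_rc_2_2 lc_a_rc_4_2 lc_a_rc_2_2 lc_a_rc_2_2 lc_a_rc_2_0 lc_a_rc_3_2 lc_a_rc_2_2 lc_a_rc_5_0 lc_a_rc_3_2 lc_a_rc_5_2 lc_a_rc_1_0 lc_a_rc_2_0 lc_a_rc_4_2 lc_a_rc_5_2 lc_a_rc_3_2 lc_a_rc_21_0 lc_a_rc_21_0 lc_a_rc_2_0 lc_a_rc_4_0 lc_a_rc_2_2 lc_a_rc_5_2 lc_a_rc_21_0 lc_a_rc_21_0 lc_a_rc_4_2 lc_a_rc_4_0 lc_a_rc_4_2 lc_a_rc_4_0 lc_a_rc_1_0 lc_a_rc_2_0 lc_a_rc_2_2 lc_a_rc_4_2 lc_a_rc_3_2 lc_a_rc_21_0 lc_a_rc_5_2 lc_a_rc_0_1 lc_a_rc_0_1 lc_a_rc_3_2 lc_a_rc_0_1 lc_a_rc_2_0 lc_a_Cert_tree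 lc_a_rc_2_0 lc_a_rc_22_0 lc_a_rc_4_2 lc_a_rc_0_1 lc_a_rc_2_2 lc_a_rc_2_2 lc_a_rc_4_0 lc_a_rc_21_0 lc_a_rc_3_2 lc_a_rc_2_2 lc_a_rc_4_2 lc_a_rc_4_2 lc_a_rc_4_2 lc_a_rc_2_2 lc_a_rc_1_2 lc_a_rc_3_2) (@D3.rec (fun _ => (Cert rels S Gen.a)) lc_a_rc_2_2 lc_a_rc_3_0 lc_a_rc_21_0 lc_a_rc_0_1 lc_a_rc_3_2 lc_a_rc_3_2 lc_a_rc_4_2 lc_a_rc_1_4 lc_a_rc_2_2 lc_a_rc_5_0 lc_a_rc_5_0 lc_a_rc_0_1 lc_a_rc_3_2 lc_a_rc_3_2 lc_a_rc_4_2 lc_a_rc_21_0 lc_a_rc_0_1 lc_a_rc_21_0 lc_a_rc_2_2 lc_a_rc_4_2 lc_a_rc_3_2 lc_a_Cert_tree lc_a_rc_4_2 lc_a_rc_2_2 lc_a_rc_21_0 lc_a_rc_3_2 lc_a_rc_4_2 lc_a_rc_4_2 lc_a_rc_5_2 lc_a_rc_1_4 lc_a_rc_3_2 lc_a_rc_4_2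 lc_a_rc_2_0 lc_a_rc_0_1 lc_a_rc_4_2 lc_a_rc_5_0 lc_a_rc_4_2 lc_a_rc_3_0 lc_a_rc_3_2 lc_a_rc_5_2 lc_a_rc_4_2 lc_a_rc_4_0 lc_a_rc_4_0 lc_a_rc_1_4 lc_a_rc_4_2 lc_a_rc_4_2 lc_a_rc_1_2 lc_a_rc_0_1 lc_a_rc_4_2 lc_a_rc_0_1 lc_a_rc_2_0 lc_a_rc_3_0 lc_a_rc_3_2 lc_a_rc_21_0 lc_a_rc_4_2 lc_a_rc_4_2 lc_a_rc_3_2 lc_a_rc_3_2 lc_a_rc_4_0 lc_a_rc_5_0 lc_a_rc_3_2 lc_a_rc_5_2) (@D3.rec (fun _ => (Cert rels S Gen.a)) lc_a_rc_21_0 lc_a_rc_3_2 lc_a_rc_2_0 lc_a_rc_3_2 lc_a_rc_0_1 lc_a_rc_3_0 lc_a_rc_1_4 lc_a_rc_1_4 lc_a_rc_4_2 lc_a_rc_2_2 lc_a_rc_2_2 lc_a_rc_21_0 lc_a_rc_0_1 lc_a_rc_2_2 lc_a_rc_4_2 lc_a_rc_3_2 lc_a_rc_1_2 lc_a_rc_3_2 lc_a_rc_4_2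 lc_a_rc_3_0 lc_a_rc_3_2 lc_a_rc_2_2 lc_a_rc_1_4 lc_a_rc_2_2 lc_a_rc_1_0 lc_a_rc_0_1 lc_a_rc_21_0 lc_a_rc_3_0 lc_a_rc_2_2 lc_a_rc_21_0 lc_a_rc_2_0 lc_a_rc_0_1 lc_a_rc_0_1 lc_a_rc_4_2 lc_a_rc_0_1 lc_a_rc_3_2 lc_a_rc_3_2 lc_a_rc_2_2 lc_a_rc_3_2 lc_a_rc_1_2 lc_a_rc_1_2 lc_a_rc_22_0 lc_a_rc_4_0 lc_a_rc_3_2 lc_a_rc_3_2 lc_a_rc_2_2 lc_a_rc_3_2 lc_a_rc_1_4 lc_a_rc_3_0 lc_a_rc_4_2 lc_a_rc_2_0 lc_a_rc_4_2 lc_a_rc_2_2 lc_a_rc_2_2 lc_a_rc_3_0 lc_a_rc_1_4 lc_a_rc_3_2 lc_a_rc_21_0 lc_a_rc_5_2 lc_a_rc_4_0 lc_a_rc_0_1 lc_a_rc_3_2) (@D3.rec (fun _ => (Cert rels S Gen.a)) lc_a_rc_3_2 lc_a_rc_4_2 lc_a_rc_4_2 lc_a_rc_0_1 lc_a_rc_2_2 lc_a_rc_4_2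 lc_a_rc_2_0 lc_a_rc_2_0 lc_a_rc_3_2 lc_a_rc_2_0 lc_a_rc_2_0 lc_a_rc_22_0 lc_a_Cert_tree lc_a_rc_4_0 lc_a_rc_3_2 lc_a_rc_5_0 lc_a_rc_0_1 lc_a_rc_4_2 lc_a_rc_0_1 lc_a_rc_2_0 lc_a_rc_22_0 lc_a_rc_1_4 lc_a_Cert_tree lc_a_rc_21_0 lc_a_rc_3_2 lc_a_rc_21_0 lc_a_Cert_tree lc_a_Cert_tree lc_a_Cert_tree lc_a_rc_0_1 lc_a_rc_0_1 lc_a_rc_5_2 lc_a_rc_21_0 lc_a_rc_4_2 lc_a_rc_4_2 lc_a_rc_0_1 lc_a_rc_0_1 lc_a_rc_1_4 lc_a_rc_3_0 lc_a_rc_2_2 lc_a_rc_4_2 lc_a_rc_3_2 lc_a_rc_3_2 lc_a_rc_5_0 lc_a_rc_0_1 lc_a_rc_4_0 lc_a_rc_3_2 lc_a_rc_4_2 lc_a_rc_3_2 lc_a_rc_4_2 lc_a_rc_1_4 lc_a_rc_4_2 lc_a_rc_3_2 lc_a_rc_2_2 lc_a_rc_3_2 lc_a_rc_3_2 lc_a_Cert_tree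 lc_a_rc_4_2 lc_a_rc_5_0 lc_a_rc_3_0 lc_a_rc_4_2 lc_a_rc_3_0) (@D3.rec (fun _ => (Cert rels S Gen.a)) lc_a_rc_3_0 lc_a_rc_3_0 lc_a_rc_5_2 lc_a_rc_3_0 lc_a_rc_3_2 lc_a_rc_5_0 lc_a_rc_4_2 lc_a_rc_3_2 lc_a_rc_0_1 lc_a_rc_0_1 lc_a_rc_4_0 lc_a_rc_4_2 lc_a_rc_1_4 lc_a_rc_3_2 lc_a_rc_21_0 lc_a_rc_0_1 lc_a_rc_3_2 lc_a_rc_3_2 lc_a_rc_3_2 lc_a_rc_3_2 lc_a_rc_3_2 lc_a_rc_0_1 lc_a_rc_4_0 lc_a_rc_2_0 lc_a_rc_2_2 lc_a_rc_0_1 lc_a_rc_3_2 lc_a_rc_21_0 lc_a_rc_3_2 lc_a_rc_0_1 lc_a_rc_4_2 lc_a_rc_0_1 lc_a_rc_3_0 lc_a_rc_3_0 lc_a_rc_2_0 lc_a_rc_5_2 lc_a_rc_2_2 lc_a_rc_4_2 lc_a_rc_2_2 lc_a_rc_1_2 lc_a_rc_1_0 lc_a_rc_0_1 lc_a_rc_1_2 lc_a_rc_4_2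 lc_a_rc_4_2 lc_a_rc_0_1 lc_a_rc_0_1 lc_a_rc_5_2 lc_a_rc_0_1 lc_a_rc_0_1 lc_a_rc_2_2 lc_a_rc_4_2 lc_a_rc_4_2 lc_a_rc_0_1 lc_a_rc_2_0 lc_a_rc_3_2 lc_a_rc_2_2 lc_a_rc_2_2 lc_a_Cert_tree lc_a_rc_3_2 lc_a_rc_2_2 lc_a_rc_4_0) (@D3.rec (fun _ => (Cert rels S Gen.a)) lc_a_rc_0_1 lc_a_rc_0_1 lc_a_rc_5_2 lc_a_rc_4_2 lc_a_rc_4_2 lc_a_rc_0_1 lc_a_rc_3_2 lc_a_rc_22_0 lc_a_rc_0_1 lc_a_rc_3_2 lc_a_rc_2_0 lc_a_rc_4_0 lc_a_rc_0_1 lc_a_rc_3_2 lc_a_rc_4_2 lc_a_rc_0_1 lc_a_rc_21_0 lc_a_rc_0_1 lc_a_rc_2_2 lc_a_rc_3_2 lc_a_rc_2_2 lc_a_rc_2_0 lc_a_rc_2_2 lc_a_rc_21_0 lc_a_rc_21_0 lc_a_rc_1_4 lc_a_rc_2_2 lc_a_rc_3_2 lc_a_rc_4_2 lc_a_rc_3_2 lc_a_rc_0_1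 lc_a_rc_21_0 lc_a_rc_2_2 lc_a_rc_4_2 lc_a_Cert_tree lc_a_rc_3_2 lc_a_Cert_tree lc_a_rc_4_2 lc_a_rc_3_2 lc_a_rc_3_0 lc_a_rc_5_2 lc_a_rc_5_0 lc_a_rc_2_2 lc_a_rc_21_0 lc_a_rc_0_1 lc_a_rc_3_2 lc_a_rc_3_0 lc_a_rc_4_0 lc_a_rc_4_0 lc_a_rc_2_2 lc_a_rc_2_2 lc_a_rc_4_2 lc_a_rc_2_2 lc_a_rc_0_1 lc_a_rc_3_2 lc_a_rc_2_2 lc_a_rc_5_0 lc_a_rc_3_0 lc_a_rc_0_1 lc_a_rc_21_0 lc_a_rc_2_2 lc_a_rc_1_0) (@D3.rec (fun _ => (Cert rels S Gen.a)) lc_a_rc_4_2 lc_a_rc_1_4 lc_a_rc_3_2 lc_a_rc_1_0 lc_a_rc_4_0 lc_a_rc_0_1 lc_a_rc_3_2 lc_a_rc_5_0 lc_a_rc_0_1 lc_a_rc_4_2 lc_a_rc_2_2 lc_a_rc_21_0 lc_a_rc_2_2 lc_a_rc_2_2 lc_a_rc_2_2 lc_a_rc_2_2 lc_a_rc_2_2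 lc_a_rc_3_2 lc_a_rc_1_4 lc_a_rc_0_1 lc_a_rc_21_0 lc_a_rc_5_2 lc_a_rc_2_2 lc_a_rc_4_2 lc_a_rc_4_2 lc_a_rc_1_2 lc_a_rc_21_0 lc_a_rc_0_1 lc_a_rc_4_2 lc_a_rc_4_2 lc_a_rc_3_2 lc_a_rc_5_2 lc_a_rc_4_2 lc_a_rc_4_2 lc_a_rc_3_2 lc_a_rc_1_4 lc_a_rc_5_0 lc_a_rc_1_4 lc_a_rc_1_0 lc_a_rc_1_4 lc_a_rc_4_2 lc_a_rc_3_2 lc_a_rc_1_4 lc_a_rc_5_0 lc_a_rc_2_2 lc_a_rc_4_0 lc_a_rc_4_2 lc_a_rc_4_0 lc_a_rc_1_4 lc_a_rc_4_2 lc_a_rc_2_2 lc_a_rc_0_1 lc_a_rc_3_2 lc_a_rc_2_0 lc_a_rc_2_2 lc_a_rc_1_4 lc_a_rc_0_1 lc_a_rc_2_2 lc_a_rc_2_2 lc_a_rc_2_2 lc_a_rc_21_0 lc_a_rc_22_0) (@D3.rec (fun _ => (Cert rels S Gen.a)) lc_a_rc_2_2 lc_a_rc_2_2 lc_a_rc_0_1 lc_a_rc_2_0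 lc_a_rc_4_2 lc_a_rc_2_0 lc_a_rc_4_2 lc_a_rc_2_2 lc_a_rc_3_2 lc_a_rc_1_4 lc_a_rc_4_2 lc_a_rc_2_2 lc_a_rc_5_0 lc_a_rc_3_2 lc_a_rc_3_2 lc_a_rc_2_0 lc_a_rc_2_2 lc_a_rc_21_0 lc_a_rc_0_1 lc_a_rc_3_2 lc_a_rc_3_2 lc_a_rc_2_2 lc_a_rc_21_0 lc_a_rc_0_1 lc_a_rc_2_2 lc_a_rc_3_2 lc_a_rc_5_2 lc_a_rc_2_2 lc_a_rc_3_2 lc_a_rc_22_0 lc_a_rc_3_2 lc_a_rc_21_0 lc_a_rc_21_0 lc_a_rc_5_2 lc_a_rc_5_0 lc_a_rc_4_0 lc_a_rc_0_1 lc_a_rc_3_2 lc_a_rc_2_2 lc_a_rc_0_1 lc_a_rc_4_2 lc_a_rc_3_2 lc_a_rc_21_0 lc_a_rc_2_2 lc_a_rc_1_4 lc_a_rc_2_2 lc_a_rc_4_0 lc_a_rc_4_2 lc_a_rc_2_0 lc_a_rc_4_0 lc_a_rc_5_2 lc_a_rc_4_0 lc_a_rc_4_2 lc_a_rc_4_0 lc_a_rc_3_2 lc_a_rc_22_0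 lc_a_rc_4_2 lc_a_rc_21_0 lc_a_rc_2_2 lc_a_rc_0_1 lc_a_rc_0_1 lc_a_rc_4_2) (@D3.rec (fun _ => (Cert rels S Gen.a)) lc_a_rc_22_0 lc_a_rc_5_2 lc_a_rc_4_2 lc_a_rc_3_2 lc_a_rc_4_0 lc_a_rc_3_2 lc_a_rc_2_2 lc_a_rc_1_2 lc_a_rc_2_2 lc_a_rc_2_2 lc_a_rc_0_1 lc_a_rc_21_0 lc_a_rc_1_4 lc_a_rc_4_2 lc_a_rc_3_2 lc_a_rc_4_0 lc_a_rc_3_2 lc_a_rc_1_2 lc_a_rc_1_4 lc_a_rc_2_2 lc_a_rc_3_2 lc_a_rc_1_4 lc_a_rc_0_1 lc_a_rc_4_2 lc_a_rc_4_2 lc_a_rc_3_0 lc_a_rc_3_2 lc_a_rc_1_0 lc_a_rc_0_1 lc_a_rc_4_2 lc_a_rc_2_0 lc_a_rc_4_2 lc_a_rc_1_4 lc_a_rc_2_2 lc_a_rc_4_2 lc_a_rc_3_2 lc_a_rc_3_2 lc_a_rc_2_2 lc_a_rc_4_2 lc_a_rc_2_0 lc_a_rc_4_0 lc_a_rc_22_0 lc_a_rc_3_0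 lc_a_rc_0_1 lc_a_rc_4_2 lc_a_rc_5_2 lc_a_rc_1_4 lc_a_rc_1_4 lc_a_rc_3_2 lc_a_rc_3_2 lc_a_rc_2_2 lc_a_rc_0_1 lc_a_rc_1_4 lc_a_rc_3_2 lc_a_rc_4_2 lc_a_rc_1_0 lc_a_rc_2_2 lc_a_rc_3_0 lc_a_rc_0_1 lc_a_rc_3_2 lc_a_rc_1_2 lc_a_rc_1_2) (@D3.rec (fun _ => (Cert rels S Gen.a)) lc_a_rc_4_0 lc_a_rc_2_2 lc_a_rc_4_2 lc_a_rc_2_2 lc_a_rc_2_2 lc_a_rc_0_1 lc_a_rc_2_2 lc_a_rc_3_2 lc_a_rc_4_2 lc_a_rc_3_2 lc_a_rc_4_0 lc_a_rc_1_4 lc_a_rc_2_2 lc_a_rc_2_2 lc_a_rc_3_2 lc_a_rc_1_2 lc_a_rc_1_4 lc_a_rc_2_2 lc_a_rc_21_0 lc_a_rc_3_2 lc_a_rc_4_0 lc_a_rc_3_2 lc_a_rc_2_2 lc_a_rc_4_2 lc_a_rc_3_0 lc_a_rc_21_0 lc_a_rc_21_0 lc_a_rc_1_4 lc_a_rc_0_1 lc_a_rc_4_2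 lc_a_rc_4_0 lc_a_rc_2_2 lc_a_rc_4_2 lc_a_rc_4_2 lc_a_rc_0_1 lc_a_rc_1_4 lc_a_rc_1_2 lc_a_rc_2_0 lc_a_rc_21_0 lc_a_rc_0_1 lc_a_rc_2_2 lc_a_rc_4_2 lc_a_rc_3_2 lc_a_rc_0_1 lc_a_rc_0_1 lc_a_rc_1_2 lc_a_rc_4_2 lc_a_rc_4_2 lc_a_rc_3_2 lc_a_rc_21_0 lc_a_rc_21_0 lc_a_rc_3_2 lc_a_rc_2_2 lc_a_rc_0_1 lc_a_rc_3_0 lc_a_rc_2_0 lc_a_rc_4_0 lc_a_Cert_tree lc_a_rc_4_2 lc_a_rc_3_2 lc_a_rc_4_2 lc_a_rc_0_1) (@D3.rec (fun _ => (Cert rels S Gen.a)) lc_a_rc_5_0 lc_a_rc_0_1 lc_a_rc_4_2 lc_a_rc_4_2 lc_a_rc_3_2 lc_a_rc_2_2 lc_a_rc_0_1 lc_a_rc_21_0 lc_a_rc_4_2 lc_a_rc_4_2 lc_a_rc_21_0 lc_a_rc_3_2 lc_a_rc_5_2 lc_a_rc_5_0 lc_a_rc_21_0 lc_a_rc_2_0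 lc_a_rc_0_1 lc_a_rc_2_0 lc_a_rc_4_2 lc_a_rc_4_2 lc_a_rc_5_2 lc_a_rc_4_2 lc_a_rc_4_2 lc_a_rc_5_2 lc_a_rc_0_1 lc_a_rc_0_1 lc_a_rc_2_2 lc_a_rc_2_2 lc_a_rc_3_2 lc_a_rc_4_2 lc_a_rc_5_2 lc_a_rc_2_0 lc_a_rc_2_2 lc_a_rc_2_2 lc_a_rc_3_2 lc_a_rc_3_2 lc_a_rc_3_2 lc_a_rc_2_2 lc_a_rc_2_2 lc_a_rc_4_2 lc_a_rc_2_0 lc_a_rc_1_2 lc_a_rc_4_2 lc_a_rc_4_2 lc_a_rc_2_0 lc_a_rc_21_0 lc_a_rc_5_2 lc_a_rc_3_2 lc_a_rc_2_0 lc_a_rc_3_2 lc_a_rc_3_2 lc_a_rc_4_0 lc_a_rc_0_1 lc_a_rc_0_1 lc_a_rc_4_2 lc_a_rc_3_2 lc_a_rc_2_2 lc_a_rc_0_1 lc_a_rc_3_0 lc_a_rc_0_1 lc_a_rc_4_2 lc_a_rc_22_0) (@D3.rec (fun _ => (Cert rels S Gen.a)) lc_a_rc_2_0 lc_a_rc_0_1 lc_a_rc_0_1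 lc_a_rc_0_1 lc_a_rc_4_2 lc_a_rc_1_4 lc_a_rc_21_0 lc_a_rc_3_2 lc_a_rc_5_2 lc_a_rc_21_0 lc_a_Cert_tree lc_a_rc_2_2 lc_a_rc_3_2 lc_a_rc_5_0 lc_a_rc_0_1 lc_a_rc_0_1 lc_a_rc_3_2 lc_a_rc_3_2 lc_a_rc_21_0 lc_a_rc_0_1 lc_a_rc_2_2 lc_a_rc_4_2 lc_a_rc_5_0 lc_a_rc_2_0 lc_a_rc_3_2 lc_a_rc_5_2 lc_a_rc_2_2 lc_a_rc_4_0 lc_a_rc_1_2 lc_a_rc_5_2 lc_a_Cert_tree lc_a_rc_22_0 lc_a_rc_4_2 lc_a_rc_2_0 lc_a_rc_1_4 lc_a_rc_3_2 lc_a_rc_2_2 lc_a_Cert_tree lc_a_rc_22_0 lc_a_Cert_tree lc_a_rc_3_2 lc_a_rc_4_2 lc_a_rc_3_2 lc_a_rc_4_2 lc_a_rc_3_2 lc_a_rc_21_0 lc_a_rc_21_0 lc_a_rc_1_4 lc_a_rc_0_1 lc_a_rc_0_1 lc_a_rc_21_0 lc_a_rc_0_1 lc_a_Cert_tree lc_a_rc_3_2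 lc_a_rc_21_0 lc_a_rc_3_2 lc_a_rc_5_0 lc_a_rc_0_1 lc_a_rc_3_0 lc_a_rc_22_0 lc_a_rc_1_2 lc_a_rc_22_0) (@D3.rec (fun _ => (Cert rels S Gen.a)) lc_a_rc_3_2 lc_a_rc_21_0 lc_a_rc_3_2 lc_a_rc_2_2 lc_a_rc_3_0 lc_a_rc_4_2 lc_a_rc_4_2 lc_a_rc_4_2 lc_a_rc_0_1 lc_a_rc_3_2 lc_a_rc_22_0 lc_a_rc_4_2 lc_a_rc_1_2 lc_a_rc_3_2 lc_a_rc_5_2 lc_a_rc_3_2 lc_a_rc_2_2 lc_a_rc_2_2 lc_a_rc_21_0 lc_a_rc_2_2 lc_a_rc_5_2 lc_a_rc_5_0 lc_a_rc_21_0 lc_a_rc_1_4 lc_a_rc_3_2 lc_a_rc_2_2 lc_a_rc_4_2 lc_a_Cert_tree lc_a_rc_3_2 lc_a_rc_4_2 lc_a_rc_4_2 lc_a_rc_21_0 lc_a_rc_3_2 lc_a_rc_5_2 lc_a_rc_0_1 lc_a_rc_0_1 lc_a_rc_2_0 lc_a_rc_3_2 lc_a_rc_5_2 lc_a_rc_3_0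 lc_a_rc_3_0 lc_a_rc_0_1 lc_a_rc_2_2 lc_a_rc_4_2 lc_a_rc_0_1 lc_a_rc_5_0 lc_a_rc_22_0 lc_a_rc_1_2 lc_a_rc_22_0 lc_a_rc_0_1 lc_a_rc_4_2 lc_a_rc_0_1 lc_a_rc_0_1 lc_a_rc_3_2 lc_a_rc_21_0 lc_a_rc_4_2 lc_a_rc_5_2 lc_a_rc_3_2 lc_a_rc_3_2 lc_a_rc_4_2 lc_a_rc_4_2 lc_a_rc_21_0) (@D3.rec (fun _ => (Cert rels S Gen.a)) lc_a_rc_4_2 lc_a_rc_1_4 lc_a_rc_4_2 lc_a_rc_4_2 lc_a_rc_0_1 lc_a_rc_2_0 lc_a_rc_0_1 lc_a_rc_2_2 lc_a_rc_4_2 lc_a_rc_2_2 lc_a_rc_4_2 lc_a_rc_0_1 lc_a_rc_2_0 lc_a_rc_2_0 lc_a_rc_0_1 lc_a_rc_3_2 lc_a_rc_2_2 lc_a_rc_2_2 lc_a_rc_4_0 lc_a_rc_4_0 lc_a_rc_2_0 lc_a_rc_2_2 lc_a_rc_4_2 lc_a_rc_21_0 lc_a_rc_3_2 lc_a_rc_5_2 lc_a_rc_0_1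 lc_a_rc_4_2 lc_a_rc_3_0 lc_a_rc_3_0 lc_a_rc_3_2 lc_a_rc_4_2 lc_a_rc_2_2 lc_a_rc_2_2 lc_a_rc_0_1 lc_a_rc_4_2 lc_a_rc_3_0 lc_a_rc_5_2 lc_a_rc_3_0 lc_a_rc_0_1 lc_a_rc_1_0 lc_a_rc_2_0 lc_a_rc_4_2 lc_a_rc_5_2 lc_a_rc_3_2 lc_a_rc_21_0 lc_a_rc_4_0 lc_a_rc_4_2 lc_a_rc_3_0 lc_a_rc_3_2 lc_a_rc_4_2 lc_a_rc_3_2 lc_a_rc_5_0 lc_a_rc_2_2 lc_a_rc_21_0 lc_a_rc_21_0 lc_a_rc_3_2 lc_a_rc_21_0 lc_a_rc_22_0 lc_a_rc_3_2 lc_a_rc_4_2 lc_a_rc_3_0) (@D3.rec (fun _ => (Cert rels S Gen.a)) lc_a_rc_3_2 lc_a_rc_0_1 lc_a_rc_2_0 lc_a_rc_2_0 lc_a_rc_3_2 lc_a_rc_0_1 lc_a_Cert_tree lc_a_rc_4_2 lc_a_Cert_tree lc_a_rc_3_2 lc_a_rc_2_2 lc_a_rc_4_2 lc_a_rc_2_0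 lc_a_rc_2_2 lc_a_rc_4_2 lc_a_rc_4_0 lc_a_rc_0_1 lc_a_rc_2_2 lc_a_rc_2_2 lc_a_Cert_tree lc_a_rc_3_2 lc_a_Cert_tree lc_a_rc_21_0 lc_a_rc_3_2 lc_a_rc_2_0 lc_a_rc_4_2 lc_a_rc_5_0 lc_a_rc_4_2 lc_a_rc_4_0 lc_a_rc_2_2 lc_a_rc_2_2 lc_a_rc_4_2 lc_a_rc_0_1 lc_a_rc_21_0 lc_a_rc_0_1 lc_a_rc_5_0 lc_a_rc_21_0 lc_a_rc_21_0 lc_a_rc_0_1 lc_a_rc_5_0 lc_a_rc_3_2 lc_a_rc_0_1 lc_a_rc_21_0 lc_a_rc_3_0 lc_a_rc_0_1 lc_a_rc_21_0 lc_a_rc_4_2 lc_a_rc_3_2 lc_a_rc_4_2 lc_a_rc_22_0 lc_a_rc_0_1 lc_a_rc_0_1 lc_a_rc_0_1 lc_a_Cert_tree lc_a_rc_2_0 lc_a_rc_0_1 lc_a_rc_4_2 lc_a_Cert_tree lc_a_rc_3_2 lc_a_rc_3_2 lc_a_rc_21_0 lc_a_rc_2_2)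
def ce_a_21 : D2 → D3 → (Cert rels S Gen.a) := @D2.rec (fun _ => D3 → (Cert rels S Gen.a)) (@D3.rec (fun _ => (Cert rels S Gen.a)) lc_a_rc_22_0 lc_a_Cert_tree lc_a_rc_3_2 lc_a_rc_3_2 lc_a_rc_21_0 lc_a_Cert_tree lc_a_rc_4_2 lc_a_rc_21_0 lc_a_rc_3_2 lc_a_rc_3_0 lc_a_rc_2_2 lc_a_rc_3_2 lc_a_rc_0_1 lc_a_rc_22_0 lc_a_rc_0_1 lc_a_rc_3_2 lc_a_rc_4_2 lc_a_rc_0_1 lc_a_rc_4_2 lc_a_rc_0_1 lc_a_rc_3_0 lc_a_rc_1_2 lc_a_rc_2_2 lc_a_rc_2_0 lc_a_rc_21_0 lc_a_rc_0_1 lc_a_rc_21_0 lc_a_rc_3_2 lc_a_Cert_tree lc_a_rc_4_2 lc_a_rc_4_2 lc_a_Cert_tree lc_a_rc_3_2 lc_a_rc_4_2 lc_a_rc_3_2 lc_a_rc_3_2 lc_a_rc_3_0 lc_a_rc_2_2 lc_a_rc_2_2 lc_a_rc_4_2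 lc_a_rc_21_0 lc_a_rc_1_4 lc_a_rc_3_2 lc_a_rc_2_2 lc_a_rc_0_1 lc_a_rc_21_0 lc_a_rc_0_1 lc_a_rc_5_0 lc_a_rc_3_2 lc_a_rc_1_2 lc_a_rc_4_2 lc_a_rc_0_1 lc_a_rc_2_2 lc_a_rc_21_0 lc_a_rc_22_0 lc_a_rc_5_0 lc_a_rc_4_2 lc_a_rc_3_2 lc_a_rc_2_2 lc_a_rc_3_2 lc_a_rc_21_0 lc_a_rc_1_2) (@D3.rec (fun _ => (Cert rels S Gen.a)) lc_a_rc_21_0 lc_a_rc_2_0 lc_a_rc_3_0 lc_a_rc_21_0 lc_a_rc_0_1 lc_a_rc_4_0 lc_a_rc_4_2 lc_a_Cert_tree lc_a_rc_5_2 lc_a_rc_3_2 lc_a_rc_2_2 lc_a_rc_3_2 lc_a_rc_4_2 lc_a_rc_21_0 lc_a_rc_3_2 lc_a_rc_2_2 lc_a_rc_1_0 lc_a_rc_3_2 lc_a_rc_1_2 lc_a_rc_4_2 lc_a_rc_21_0 lc_a_rc_0_1 lc_a_rc_4_2 lc_a_rc_2_2 lc_a_rc_3_0 lc_a_rc_2_0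 lc_a_rc_3_2 lc_a_rc_3_0 lc_a_rc_4_2 lc_a_rc_3_2 lc_a_rc_4_2 lc_a_rc_2_2 lc_a_Cert_tree lc_a_rc_3_0 lc_a_rc_2_2 lc_a_rc_4_2 lc_a_rc_3_2 lc_a_rc_2_2 lc_a_rc_3_0 lc_a_rc_22_0 lc_a_rc_2_2 lc_a_rc_21_0 lc_a_rc_0_1 lc_a_rc_0_1 lc_a_rc_4_2 lc_a_rc_3_2 lc_a_rc_2_2 lc_a_rc_0_1 lc_a_rc_4_2 lc_a_rc_1_4 lc_a_rc_2_0 lc_a_rc_2_0 lc_a_rc_3_2 lc_a_rc_1_0 lc_a_rc_3_2 lc_a_rc_3_2 lc_a_rc_5_2 lc_a_Cert_tree lc_a_Cert_tree lc_a_rc_2_2 lc_a_rc_2_2 lc_a_rc_5_2) (@D3.rec (fun _ => (Cert rels S Gen.a)) lc_a_Cert_tree lc_a_rc_22_0 lc_a_rc_2_0 lc_a_rc_3_2 lc_a_rc_2_2 lc_a_rc_2_0 lc_a_rc_1_4 lc_a_rc_4_2 lc_a_rc_1_2 lc_a_rc_3_2 lc_a_rc_2_2 lc_a_rc_21_0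 lc_a_rc_0_1 lc_a_rc_3_2 lc_a_rc_4_2 lc_a_rc_3_2 lc_a_rc_4_2 lc_a_rc_1_4 lc_a_rc_4_2 lc_a_rc_0_1 lc_a_rc_3_2 lc_a_rc_2_2 lc_a_rc_3_2 lc_a_rc_4_0 lc_a_Cert_tree lc_a_rc_3_2 lc_a_rc_3_2 lc_a_rc_5_2 lc_a_rc_2_2 lc_a_rc_3_2 lc_a_Cert_tree lc_a_rc_3_2 lc_a_rc_2_2 lc_a_rc_3_0 lc_a_rc_2_2 lc_a_rc_0_1 lc_a_rc_3_0 lc_a_rc_0_1 lc_a_rc_2_2 lc_a_rc_4_2 lc_a_rc_1_2 lc_a_rc_3_2 lc_a_rc_5_0 lc_a_rc_3_2 lc_a_rc_4_2 lc_a_rc_2_0 lc_a_rc_0_1 lc_a_rc_2_2 lc_a_rc_1_4 lc_a_rc_22_0 lc_a_rc_5_0 lc_a_rc_4_2 lc_a_rc_22_0 lc_a_rc_21_0 lc_a_rc_2_2 lc_a_rc_5_2 lc_a_rc_4_2 lc_a_rc_0_1 lc_a_rc_4_2 lc_a_rc_2_2 lc_a_rc_0_1 lc_a_rc_4_2) (@D3.rec (fun _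 => (Cert rels S Gen.a)) lc_a_rc_2_2 lc_a_rc_0_1 lc_a_rc_5_0 lc_a_rc_5_2 lc_a_rc_1_4 lc_a_rc_3_2 lc_a_rc_4_2 lc_a_rc_1_4 lc_a_rc_4_2 lc_a_rc_2_0 lc_a_rc_0_1 lc_a_rc_0_1 lc_a_rc_1_4 lc_a_rc_3_2 lc_a_rc_2_2 lc_a_rc_4_2 lc_a_rc_2_0 lc_a_rc_2_2 lc_a_rc_3_2 lc_a_rc_4_2 lc_a_rc_3_2 lc_a_rc_21_0 lc_a_rc_5_2 lc_a_rc_2_2 lc_a_rc_4_2 lc_a_rc_2_0 lc_a_rc_2_2 lc_a_rc_4_2 lc_a_rc_3_2 lc_a_rc_3_0 lc_a_rc_3_2 lc_a_rc_5_2 lc_a_rc_1_2 lc_a_rc_2_0 lc_a_rc_3_2 lc_a_rc_3_2 lc_a_rc_21_0 lc_a_rc_5_2 lc_a_rc_3_0 lc_a_rc_5_0 lc_a_rc_5_0 lc_a_rc_1_4 lc_a_rc_2_2 lc_a_rc_4_2 lc_a_rc_0_1 lc_a_rc_2_2 lc_a_rc_4_2 lc_a_rc_0_1 lc_a_rc_3_2 lc_a_rc_3_2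 lc_a_rc_2_2 lc_a_rc_0_1 lc_a_rc_3_2 lc_a_rc_5_2 lc_a_rc_2_2 lc_a_rc_1_0 lc_a_rc_0_1 lc_a_rc_3_2 lc_a_rc_3_0 lc_a_rc_2_2 lc_a_rc_5_2 lc_a_rc_0_1) (@D3.rec (fun _ => (Cert rels S Gen.a)) lc_a_rc_3_2 lc_a_rc_2_2 lc_a_rc_3_0 lc_a_rc_3_2 lc_a_rc_21_0 lc_a_rc_2_2 lc_a_rc_1_0 lc_a_rc_4_2 lc_a_rc_0_1 lc_a_rc_21_0 lc_a_rc_0_1 lc_a_rc_2_2 lc_a_rc_4_2 lc_a_rc_3_2 lc_a_rc_2_2 lc_a_rc_4_2 lc_a_rc_4_2 lc_a_rc_5_2 lc_a_rc_3_2 lc_a_rc_4_2 lc_a_rc_4_2 lc_a_rc_5_0 lc_a_rc_3_2 lc_a_rc_5_2 lc_a_rc_3_2 lc_a_rc_3_2 lc_a_rc_2_2 lc_a_rc_4_0 lc_a_rc_0_1 lc_a_rc_1_4 lc_a_rc_2_2 lc_a_rc_0_1 lc_a_rc_1_4 lc_a_rc_3_2 lc_a_rc_5_2 lc_a_rc_3_2 lc_a_rc_21_0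 lc_a_rc_3_2 lc_a_rc_4_2 lc_a_rc_3_2 lc_a_rc_5_2 lc_a_rc_3_2 lc_a_rc_2_2 lc_a_rc_3_2 lc_a_rc_3_2 lc_a_rc_2_2 lc_a_rc_3_0 lc_a_rc_0_1 lc_a_rc_2_2 lc_a_rc_4_2 lc_a_rc_21_0 lc_a_rc_3_2 lc_a_rc_2_2 lc_a_rc_4_2 lc_a_rc_4_0 lc_a_rc_3_2 lc_a_rc_0_1 lc_a_rc_21_0 lc_a_rc_0_1 lc_a_rc_3_2 lc_a_rc_4_2 lc_a_rc_4_0) (@D3.rec (fun _ => (Cert rels S Gen.a)) lc_a_rc_0_1 lc_a_rc_21_0 lc_a_rc_4_2 lc_a_rc_3_2 lc_a_rc_0_1 lc_a_rc_21_0 lc_a_Cert_tree lc_a_rc_3_2 lc_a_rc_0_1 lc_a_rc_2_2 lc_a_rc_3_0 lc_a_rc_4_2 lc_a_rc_4_2 lc_a_rc_5_0 lc_a_rc_3_2 lc_a_rc_2_2 lc_a_Cert_tree lc_a_rc_2_2 lc_a_rc_0_1 lc_a_rc_21_0 lc_a_rc_0_1 lc_a_rc_3_2 lc_a_rc_2_2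 lc_a_rc_3_0 lc_a_rc_3_2 lc_a_Cert_tree lc_a_rc_3_2 lc_a_rc_4_2 lc_a_rc_0_1 lc_a_rc_3_2 lc_a_rc_3_2 lc_a_rc_5_0 lc_a_rc_3_2 lc_a_rc_1_4 lc_a_rc_2_2 lc_a_rc_0_1 lc_a_rc_5_2 lc_a_rc_5_2 lc_a_rc_0_1 lc_a_rc_2_2 lc_a_rc_2_2 lc_a_rc_22_0 lc_a_rc_3_2 lc_a_rc_2_2 lc_a_rc_4_2 lc_a_rc_1_4 lc_a_rc_2_2 lc_a_rc_4_2 lc_a_rc_1_0 lc_a_rc_4_2 lc_a_rc_2_0 lc_a_rc_3_2 lc_a_rc_5_2 lc_a_rc_2_2 lc_a_Cert_tree lc_a_rc_2_0 lc_a_rc_21_0 lc_a_rc_0_1 lc_a_rc_3_2 lc_a_rc_4_2 lc_a_rc_22_0 lc_a_rc_2_2) (@D3.rec (fun _ => (Cert rels S Gen.a)) lc_a_rc_0_1 lc_a_rc_3_2 lc_a_rc_4_2 lc_a_rc_2_2 lc_a_rc_21_0 lc_a_rc_0_1 lc_a_rc_21_0 lc_a_rc_3_2 lc_a_rc_0_1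 lc_a_rc_4_2 lc_a_rc_0_1 lc_a_rc_3_2 lc_a_rc_5_2 lc_a_rc_4_0 lc_a_rc_5_0 lc_a_rc_5_2 lc_a_Cert_tree lc_a_rc_3_2 lc_a_rc_2_0 lc_a_rc_0_1 lc_a_rc_21_0 lc_a_rc_3_2 lc_a_Cert_tree lc_a_rc_4_2 lc_a_rc_21_0 lc_a_rc_4_2 lc_a_rc_21_0 lc_a_rc_4_2 lc_a_rc_5_2 lc_a_rc_21_0 lc_a_rc_0_1 lc_a_rc_0_1 lc_a_rc_21_0 lc_a_rc_3_2 lc_a_rc_4_2 lc_a_rc_0_1 lc_a_Cert_tree lc_a_rc_4_2 lc_a_rc_21_0 lc_a_rc_3_2 lc_a_rc_0_1 lc_a_rc_3_0 lc_a_rc_4_0 lc_a_rc_4_2 lc_a_rc_4_0 lc_a_rc_4_2 lc_a_rc_5_0 lc_a_rc_2_0 lc_a_rc_5_2 lc_a_rc_1_2 lc_a_rc_3_2 lc_a_rc_4_2 lc_a_rc_2_2 lc_a_rc_3_2 lc_a_rc_4_2 lc_a_rc_3_2 lc_a_rc_0_1 lc_a_rc_5_2 lc_a_rc_4_2 lc_a_rc_3_2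 lc_a_rc_3_0 lc_a_rc_3_0) (@D3.rec (fun _ => (Cert rels S Gen.a)) lc_a_rc_0_1 lc_a_rc_5_2 lc_a_rc_0_1 lc_a_rc_3_2 lc_a_rc_4_2 lc_a_rc_21_0 lc_a_rc_4_2 lc_a_rc_3_2 lc_a_rc_1_2 lc_a_rc_3_2 lc_a_rc_5_2 lc_a_rc_4_2 lc_a_rc_21_0 lc_a_rc_4_2 lc_a_rc_21_0 lc_a_rc_4_2 lc_a_rc_22_0 lc_a_rc_4_2 lc_a_rc_21_0 lc_a_rc_3_2 lc_a_rc_3_2 lc_a_rc_5_0 lc_a_rc_3_2 lc_a_rc_5_2 lc_a_rc_4_2 lc_a_rc_2_2 lc_a_rc_21_0 lc_a_rc_3_2 lc_a_rc_4_2 lc_a_rc_3_2 lc_a_rc_21_0 lc_a_rc_5_2 lc_a_rc_5_2 lc_a_rc_21_0 lc_a_rc_2_2 lc_a_rc_4_2 lc_a_rc_3_2 lc_a_rc_2_2 lc_a_rc_0_1 lc_a_rc_3_2 lc_a_rc_5_2 lc_a_rc_0_1 lc_a_rc_5_2 lc_a_rc_3_2 lc_a_rc_3_2 lc_a_rc_21_0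 lc_a_rc_0_1 lc_a_rc_5_0 lc_a_rc_4_2 lc_a_rc_3_0 lc_a_rc_4_2 lc_a_rc_1_2 lc_a_rc_5_2 lc_a_rc_21_0 lc_a_rc_2_2 lc_a_rc_0_1 lc_a_rc_4_2 lc_a_rc_3_0 lc_a_rc_21_0 lc_a_rc_21_0 lc_a_rc_4_2 lc_a_rc_21_0) (@D3.rec (fun _ => (Cert rels S Gen.a)) lc_a_rc_3_2 lc_a_rc_1_2 lc_a_rc_1_4 lc_a_rc_2_2 lc_a_rc_2_2 lc_a_rc_0_1 lc_a_rc_2_2 lc_a_rc_4_2 lc_a_rc_4_2 lc_a_rc_5_2 lc_a_rc_2_2 lc_a_rc_2_2 lc_a_rc_4_0 lc_a_rc_1_4 lc_a_rc_5_2 lc_a_rc_4_2 lc_a_rc_2_2 lc_a_rc_3_2 lc_a_rc_5_2 lc_a_rc_2_2 lc_a_rc_3_2 lc_a_rc_1_0 lc_a_rc_3_2 lc_a_rc_3_0 lc_a_rc_3_2 lc_a_rc_1_2 lc_a_rc_3_2 lc_a_rc_21_0 lc_a_rc_3_2 lc_a_rc_2_2 lc_a_rc_3_2 lc_a_rc_3_2 lc_a_rc_3_2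 lc_a_rc_2_2 lc_a_rc_2_2 lc_a_rc_0_1 lc_a_rc_5_2 lc_a_rc_0_1 lc_a_rc_3_2 lc_a_rc_1_4 lc_a_rc_0_1 lc_a_rc_21_0 lc_a_rc_4_2 lc_a_rc_3_2 lc_a_rc_0_1 lc_a_rc_0_1 lc_a_rc_0_1 lc_a_rc_4_2 lc_a_rc_3_2 lc_a_rc_4_0 lc_a_rc_21_0 lc_a_rc_2_2 lc_a_rc_22_0 lc_a_rc_1_2 lc_a_rc_4_2 lc_a_rc_3_2 lc_a_rc_1_2 lc_a_rc_1_4 lc_a_rc_2_2 lc_a_rc_4_2 lc_a_rc_2_2 lc_a_rc_2_2) (@D3.rec (fun _ => (Cert rels S Gen.a)) lc_a_rc_2_2 lc_a_rc_3_2 lc_a_rc_2_2 lc_a_rc_3_0 lc_a_rc_5_0 lc_a_rc_22_0 lc_a_Cert_tree lc_a_rc_2_0 lc_a_rc_3_2 lc_a_rc_4_2 lc_a_rc_4_0 lc_a_rc_4_0 lc_a_rc_4_0 lc_a_rc_2_2 lc_a_rc_1_4 lc_a_rc_2_2 lc_a_rc_1_0 lc_a_rc_4_0 lc_a_rc_3_0 lc_a_rc_0_1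 lc_a_rc_22_0 lc_a_rc_1_0 lc_a_rc_3_2 lc_a_rc_3_2 lc_a_rc_3_2 lc_a_rc_2_2 lc_a_rc_4_2 lc_a_rc_2_2 lc_a_rc_21_0 lc_a_rc_21_0 lc_a_rc_5_2 lc_a_rc_3_2 lc_a_rc_5_2 lc_a_rc_2_2 lc_a_rc_0_1 lc_a_rc_4_0 lc_a_rc_0_1 lc_a_rc_0_1 lc_a_rc_3_2 lc_a_rc_2_2 lc_a_rc_21_0 lc_a_rc_0_1 lc_a_rc_3_2 lc_a_rc_4_2 lc_a_rc_2_2 lc_a_rc_3_2 lc_a_rc_2_2 lc_a_rc_2_2 lc_a_rc_3_0 lc_a_rc_0_1 lc_a_rc_2_2 lc_a_rc_3_2 lc_a_rc_2_0 lc_a_rc_1_2 lc_a_rc_4_2 lc_a_rc_21_0 lc_a_rc_0_1 lc_a_rc_4_2 lc_a_rc_3_2 lc_a_rc_4_0 lc_a_rc_2_0 lc_a_rc_3_0) (@D3.rec (fun _ => (Cert rels S Gen.a)) lc_a_rc_0_1 lc_a_rc_5_2 lc_a_rc_3_2 lc_a_rc_4_0 lc_a_rc_3_2 lc_a_rc_3_0 lc_a_rc_22_0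 lc_a_rc_4_0 lc_a_rc_3_2 lc_a_rc_21_0 lc_a_rc_3_0 lc_a_rc_0_1 lc_a_rc_3_0 lc_a_rc_21_0 lc_a_rc_1_2 lc_a_rc_22_0 lc_a_rc_0_1 lc_a_rc_5_2 lc_a_rc_2_2 lc_a_rc_3_0 lc_a_rc_3_2 lc_a_rc_4_2 lc_a_rc_2_2 lc_a_rc_4_2 lc_a_rc_2_2 lc_a_rc_2_2 lc_a_Cert_tree lc_a_rc_3_2 lc_a_rc_21_0 lc_a_rc_4_2 lc_a_rc_5_0 lc_a_rc_3_2 lc_a_rc_5_2 lc_a_rc_2_0 lc_a_rc_4_2 lc_a_rc_5_0 lc_a_rc_3_2 lc_a_rc_5_2 lc_a_rc_2_2 lc_a_rc_4_2 lc_a_Cert_tree lc_a_rc_4_2 lc_a_rc_3_2 lc_a_rc_3_0 lc_a_rc_5_2 lc_a_rc_2_0 lc_a_rc_4_2 lc_a_rc_5_0 lc_a_rc_4_2 lc_a_rc_5_2 lc_a_rc_2_0 lc_a_rc_4_2 lc_a_rc_2_0 lc_a_rc_2_2 lc_a_rc_4_2 lc_a_rc_21_0 lc_a_rc_0_1 lc_a_rc_4_2 lc_a_rc_3_2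 lc_a_rc_3_2 lc_a_rc_3_2 lc_a_rc_2_2) (@D3.rec (fun _ => (Cert rels S Gen.a)) lc_a_rc_4_2 lc_a_rc_2_0 lc_a_rc_4_2 lc_a_rc_5_0 lc_a_rc_3_2 lc_a_rc_4_2 lc_a_rc_3_2 lc_a_rc_2_2 lc_a_rc_3_2 lc_a_Cert_tree lc_a_rc_4_2 lc_a_rc_3_0 lc_a_rc_2_2 lc_a_rc_4_2 lc_a_rc_21_0 lc_a_rc_1_0 lc_a_rc_2_0 lc_a_rc_2_2 lc_a_rc_3_0 lc_a_rc_3_2 lc_a_rc_2_2 lc_a_rc_2_2 lc_a_Cert_tree lc_a_rc_5_0 lc_a_rc_4_2 lc_a_rc_1_4 lc_a_rc_3_2 lc_a_rc_21_0 lc_a_rc_0_1 lc_a_rc_0_1 lc_a_rc_21_0 lc_a_rc_3_2 lc_a_rc_4_2 lc_a_rc_5_0 lc_a_rc_3_2 lc_a_rc_3_0 lc_a_rc_2_2 lc_a_rc_4_2 lc_a_rc_21_0 lc_a_rc_3_0 lc_a_rc_2_0 lc_a_rc_1_4 lc_a_rc_1_2 lc_a_rc_2_0 lc_a_rc_4_2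 lc_a_rc_3_2 lc_a_rc_3_0 lc_a_rc_2_2 lc_a_rc_4_2 lc_a_rc_5_2 lc_a_rc_3_2 lc_a_rc_4_2 lc_a_rc_2_2 lc_a_rc_4_2 lc_a_rc_3_2 lc_a_rc_5_0 lc_a_rc_5_2 lc_a_rc_5_0 lc_a_rc_2_0 lc_a_rc_22_0 lc_a_rc_4_2 lc_a_rc_4_2) (@D3.rec (fun _ => (Cert rels S Gen.a)) lc_a_rc_3_2 lc_a_rc_4_2 lc_a_rc_2_2 lc_a_rc_0_1 lc_a_rc_4_2 lc_a_rc_21_0 lc_a_rc_5_2 lc_a_rc_0_1 lc_a_rc_3_0 lc_a_rc_0_1 lc_a_rc_3_2 lc_a_rc_21_0 lc_a_rc_2_0 lc_a_rc_2_2 lc_a_rc_4_2 lc_a_rc_0_1 lc_a_rc_1_4 lc_a_rc_0_1 lc_a_rc_4_2 lc_a_rc_0_1 lc_a_rc_1_4 lc_a_rc_0_1 lc_a_rc_1_2 lc_a_rc_3_2 lc_a_rc_4_2 lc_a_rc_2_0 lc_a_rc_4_0 lc_a_rc_21_0 lc_a_rc_5_2 lc_a_rc_2_2 lc_a_rc_4_2 lc_a_rc_21_0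 lc_a_rc_4_2 lc_a_rc_0_1 lc_a_rc_4_0 lc_a_rc_4_2 lc_a_rc_0_1 lc_a_rc_3_0 lc_a_rc_4_2 lc_a_rc_1_0 lc_a_rc_21_0 lc_a_rc_1_0 lc_a_rc_0_1 lc_a_rc_3_2 lc_a_rc_5_2 lc_a_rc_4_2 lc_a_rc_4_2 lc_a_rc_1_2 lc_a_rc_1_2 lc_a_rc_2_2 lc_a_rc_4_2 lc_a_rc_5_0 lc_a_rc_5_2 lc_a_rc_5_2 lc_a_rc_4_2 lc_a_rc_4_2 lc_a_rc_3_2 lc_a_rc_5_2 lc_a_rc_3_2 lc_a_rc_4_2 lc_a_rc_5_2 lc_a_rc_3_2) (@D3.rec (fun _ => (Cert rels S Gen.a)) lc_a_rc_0_1 lc_a_rc_1_4 lc_a_rc_0_1 lc_a_rc_3_2 lc_a_rc_3_0 lc_a_rc_0_1 lc_a_rc_3_2 lc_a_rc_4_2 lc_a_rc_0_1 lc_a_rc_21_0 lc_a_rc_5_2 lc_a_rc_0_1 lc_a_rc_4_0 lc_a_rc_1_4 lc_a_rc_2_2 lc_a_rc_4_2 lc_a_rc_2_0 lc_a_rc_21_0 lc_a_rc_4_2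 lc_a_rc_22_0 lc_a_rc_4_2 lc_a_rc_2_0 lc_a_rc_3_2 lc_a_rc_5_2 lc_a_rc_2_2 lc_a_rc_4_2 lc_a_rc_3_2 lc_a_rc_21_0 lc_a_rc_2_2 lc_a_rc_4_2 lc_a_rc_4_2 lc_a_rc_21_0 lc_a_rc_5_2 lc_a_rc_5_2 lc_a_rc_0_1 lc_a_rc_2_2 lc_a_rc_5_2 lc_a_rc_4_2 lc_a_rc_21_0 lc_a_rc_0_1 lc_a_rc_3_2 lc_a_rc_5_2 lc_a_rc_21_0 lc_a_rc_5_0 lc_a_rc_4_2 lc_a_rc_3_2 lc_a_rc_3_2 lc_a_rc_3_2 lc_a_rc_3_2 lc_a_rc_2_2 lc_a_rc_5_2 lc_a_rc_0_1 lc_a_rc_0_1 lc_a_rc_0_1 lc_a_rc_5_0 lc_a_rc_5_2 lc_a_rc_3_2 lc_a_rc_0_1 lc_a_rc_0_1 lc_a_rc_2_0 lc_a_rc_2_2 lc_a_rc_1_4) (@D3.rec (fun _ => (Cert rels S Gen.a)) lc_a_rc_0_1 lc_a_rc_3_2 lc_a_rc_2_2 lc_a_rc_4_2 lc_a_rc_21_0 lc_a_rc_21_0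 lc_a_rc_5_0 lc_a_rc_5_0 lc_a_rc_0_1 lc_a_rc_21_0 lc_a_rc_2_2 lc_a_rc_1_2 lc_a_rc_2_2 lc_a_rc_1_2 lc_a_rc_0_1 lc_a_rc_2_2 lc_a_rc_3_2 lc_a_rc_3_2 lc_a_rc_2_0 lc_a_rc_1_2 lc_a_rc_1_2 lc_a_rc_3_2 lc_a_rc_0_1 lc_a_rc_0_1 lc_a_rc_21_0 lc_a_rc_4_2 lc_a_rc_21_0 lc_a_rc_21_0 lc_a_rc_1_2 lc_a_rc_1_4 lc_a_rc_3_2 lc_a_rc_4_2 lc_a_rc_21_0 lc_a_rc_3_2 lc_a_rc_2_2 lc_a_rc_22_0 lc_a_rc_3_2 lc_a_rc_0_1 lc_a_rc_4_2 lc_a_rc_1_4 lc_a_rc_3_2 lc_a_rc_0_1 lc_a_rc_2_2 lc_a_rc_5_2 lc_a_rc_4_2 lc_a_rc_2_2 lc_a_rc_2_2 lc_a_rc_3_2 lc_a_rc_4_2 lc_a_rc_2_2 lc_a_rc_5_2 lc_a_rc_5_0 lc_a_rc_4_2 lc_a_rc_2_2 lc_a_rc_21_0 lc_a_rc_1_4 lc_a_rc_0_1 lc_a_rc_2_2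 lc_a_rc_21_0 lc_a_rc_0_1 lc_a_rc_2_2 lc_a_rc_3_2) (@D3.rec (fun _ => (Cert rels S Gen.a)) lc_a_rc_21_0 lc_a_rc_3_2 lc_a_rc_4_2 lc_a_rc_4_2 lc_a_rc_3_2 lc_a_rc_3_2 lc_a_rc_4_2 lc_a_rc_1_0 lc_a_rc_21_0 lc_a_rc_22_0 lc_a_rc_3_2 lc_a_rc_2_0 lc_a_rc_4_2 lc_a_rc_4_0 lc_a_rc_21_0 lc_a_rc_0_1 lc_a_rc_4_0 lc_a_rc_22_0 lc_a_rc_3_2 lc_a_rc_2_0 lc_a_rc_5_2 lc_a_rc_2_0 lc_a_rc_5_2 lc_a_rc_3_2 lc_a_rc_5_2 lc_a_rc_2_0 lc_a_rc_4_2 lc_a_rc_4_2 lc_a_rc_5_0 lc_a_rc_0_1 lc_a_rc_2_2 lc_a_rc_5_2 lc_a_rc_1_4 lc_a_rc_3_2 lc_a_rc_2_2 lc_a_rc_3_2 lc_a_rc_3_2 lc_a_rc_4_2 lc_a_rc_0_1 lc_a_rc_5_0 lc_a_rc_3_2 lc_a_rc_2_2 lc_a_rc_5_2 lc_a_rc_3_2 lc_a_rc_1_4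 lc_a_rc_1_0 lc_a_rc_0_1 lc_a_rc_4_2 lc_a_rc_0_1 lc_a_rc_4_2 lc_a_rc_5_2 lc_a_Cert_tree lc_a_rc_3_2 lc_a_rc_3_2 lc_a_rc_5_0 lc_a_rc_2_0 lc_a_rc_5_2 lc_a_rc_4_2 lc_a_rc_0_1 lc_a_rc_5_2 lc_a_rc_3_2 lc_a_rc_22_0) (@D3.rec (fun _ => (Cert rels S Gen.a)) lc_a_rc_21_0 lc_a_rc_4_2 lc_a_rc_3_2 lc_a_rc_4_2 lc_a_rc_0_1 lc_a_rc_0_1 lc_a_rc_5_2 lc_a_rc_4_2 lc_a_rc_4_2 lc_a_rc_1_4 lc_a_rc_0_1 lc_a_rc_3_2 lc_a_rc_2_2 lc_a_rc_5_2 lc_a_rc_4_2 lc_a_rc_5_2 lc_a_rc_21_0 lc_a_rc_4_2 lc_a_rc_4_0 lc_a_rc_3_2 lc_a_rc_2_2 lc_a_rc_0_1 lc_a_rc_21_0 lc_a_rc_0_1 lc_a_rc_3_2 lc_a_rc_3_0 lc_a_rc_4_2 lc_a_rc_3_2 lc_a_rc_5_2 lc_a_rc_4_2 lc_a_rc_3_2 lc_a_rc_3_2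 lc_a_rc_5_2 lc_a_rc_2_2 lc_a_rc_21_0 lc_a_rc_2_2 lc_a_rc_0_1 lc_a_rc_21_0 lc_a_rc_22_0 lc_a_rc_0_1 lc_a_rc_2_2 lc_a_rc_5_0 lc_a_rc_2_2 lc_a_rc_5_2 lc_a_rc_3_0 lc_a_rc_4_2 lc_a_rc_4_2 lc_a_rc_5_2 lc_a_rc_2_2 lc_a_rc_1_4 lc_a_rc_2_2 lc_a_rc_2_2 lc_a_rc_3_2 lc_a_rc_1_2 lc_a_rc_2_2 lc_a_rc_2_2 lc_a_rc_2_0 lc_a_Cert_tree lc_a_rc_3_2 lc_a_Cert_tree lc_a_rc_5_2 lc_a_rc_2_0) (@D3.rec (fun _ => (Cert rels S Gen.a)) lc_a_rc_3_2 lc_a_rc_22_0 lc_a_rc_22_0 lc_a_rc_2_2 lc_a_rc_2_2 lc_a_rc_0_1 lc_a_rc_3_2 lc_a_rc_1_0 lc_a_rc_1_4 lc_a_rc_3_2 lc_a_rc_3_2 lc_a_rc_21_0 lc_a_rc_0_1 lc_a_rc_0_1 lc_a_rc_3_2 lc_a_rc_4_2 lc_a_rc_4_2 lc_a_rc_21_0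 lc_a_rc_0_1 lc_a_rc_0_1 lc_a_rc_3_2 lc_a_rc_4_2 lc_a_rc_4_2 lc_a_rc_4_2 lc_a_rc_0_1 lc_a_rc_3_2 lc_a_rc_4_2 lc_a_rc_4_0 lc_a_rc_0_1 lc_a_rc_3_2 lc_a_rc_21_0 lc_a_rc_1_4 lc_a_rc_3_2 lc_a_rc_4_2 lc_a_rc_3_2 lc_a_rc_21_0 lc_a_rc_3_2 lc_a_rc_3_0 lc_a_rc_4_2 lc_a_Cert_tree lc_a_rc_4_2 lc_a_Cert_tree lc_a_rc_3_0 lc_a_rc_4_2 lc_a_rc_4_2 lc_a_rc_2_2 lc_a_rc_2_2 lc_a_rc_2_2 lc_a_rc_3_2 lc_a_rc_3_0 lc_a_rc_0_1 lc_a_rc_0_1 lc_a_rc_1_4 lc_a_rc_2_2 lc_a_rc_5_2 lc_a_rc_2_2 lc_a_rc_0_1 lc_a_rc_21_0 lc_a_Cert_tree lc_a_rc_21_0 lc_a_rc_3_0 lc_a_rc_2_2) (@D3.rec (fun _ => (Cert rels S Gen.a)) lc_a_rc_22_0 lc_a_rc_2_2 lc_a_rc_3_2 lc_a_rc_4_2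 lc_a_rc_3_2 lc_a_rc_0_1 lc_a_rc_2_2 lc_a_rc_3_2 lc_a_rc_0_1 lc_a_rc_2_2 lc_a_rc_0_1 lc_a_Cert_tree lc_a_rc_3_2 lc_a_rc_5_0 lc_a_rc_21_0 lc_a_rc_0_1 lc_a_rc_0_1 lc_a_rc_4_0 lc_a_rc_4_2 lc_a_rc_0_1 lc_a_rc_21_0 lc_a_rc_3_2 lc_a_rc_3_2 lc_a_rc_4_2 lc_a_rc_0_1 lc_a_rc_3_2 lc_a_rc_4_2 lc_a_rc_0_1 lc_a_rc_5_2 lc_a_rc_3_2 lc_a_rc_3_2 lc_a_rc_0_1 lc_a_rc_3_2 lc_a_rc_4_2 lc_a_rc_5_2 lc_a_rc_2_2 lc_a_rc_4_2 lc_a_rc_2_0 lc_a_rc_2_0 lc_a_rc_5_2 lc_a_rc_22_0 lc_a_rc_2_0 lc_a_rc_2_2 lc_a_rc_0_1 lc_a_rc_3_0 lc_a_rc_5_2 lc_a_rc_22_0 lc_a_rc_4_2 lc_a_rc_4_2 lc_a_rc_2_0 lc_a_rc_21_0 lc_a_rc_21_0 lc_a_rc_4_2 lc_a_rc_0_1 lc_a_rc_1_0 lc_a_rc_2_2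 lc_a_rc_21_0 lc_a_rc_3_2 lc_a_rc_4_0 lc_a_rc_2_0 lc_a_rc_2_2 lc_a_rc_3_2) (@D3.rec (fun _ => (Cert rels S Gen.a)) lc_a_rc_0_1 lc_a_rc_3_0 lc_a_rc_21_0 lc_a_rc_0_1 lc_a_rc_0_1 lc_a_rc_3_2 lc_a_rc_22_0 lc_a_rc_4_2 lc_a_rc_21_0 lc_a_rc_0_1 lc_a_rc_3_2 lc_a_rc_21_0 lc_a_rc_4_2 lc_a_rc_21_0 lc_a_rc_0_1 lc_a_rc_0_1 lc_a_rc_3_2 lc_a_rc_4_2 lc_a_rc_4_2 lc_a_rc_2_2 lc_a_rc_5_0 lc_a_Cert_tree lc_a_rc_3_2 lc_a_rc_4_2 lc_a_rc_3_2 lc_a_rc_3_2 lc_a_rc_4_2 lc_a_Cert_tree lc_a_rc_4_2 lc_a_rc_21_0 lc_a_rc_4_2 lc_a_rc_5_2 lc_a_rc_0_1 lc_a_rc_0_1 lc_a_rc_3_0 lc_a_rc_4_2 lc_a_rc_21_0 lc_a_rc_21_0 lc_a_rc_3_2 lc_a_rc_1_2 lc_a_rc_1_0 lc_a_rc_5_0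 lc_a_rc_1_4 lc_a_rc_3_0 lc_a_rc_0_1 lc_a_rc_1_4 lc_a_rc_3_2 lc_a_rc_2_2 lc_a_rc_3_2 lc_a_rc_5_0 lc_a_rc_3_2 lc_a_rc_0_1 lc_a_rc_5_0 lc_a_rc_1_4 lc_a_rc_21_0 lc_a_rc_0_1 lc_a_rc_0_1 lc_a_rc_1_4 lc_a_rc_4_2 lc_a_Cert_tree lc_a_rc_0_1 lc_a_rc_21_0) (@D3.rec (fun _ => (Cert rels S Gen.a)) lc_a_rc_0_1 lc_a_rc_3_2 lc_a_rc_4_2 lc_a_rc_0_1 lc_a_rc_21_0 lc_a_rc_2_2 lc_a_rc_0_1 lc_a_rc_0_1 lc_a_rc_3_2 lc_a_rc_2_0 lc_a_rc_0_1 lc_a_rc_0_1 lc_a_rc_4_2 lc_a_rc_1_2 lc_a_rc_4_2 lc_a_rc_2_2 lc_a_rc_21_0 lc_a_rc_0_1 lc_a_rc_1_4 lc_a_rc_1_2 lc_a_rc_1_2 lc_a_rc_0_1 lc_a_rc_2_2 lc_a_rc_2_2 lc_a_rc_0_1 lc_a_rc_5_0 lc_a_rc_0_1 lc_a_rc_3_2 lc_a_rc_1_4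 lc_a_rc_0_1 lc_a_rc_4_2 lc_a_rc_3_2 lc_a_rc_3_2 lc_a_rc_5_2 lc_a_rc_4_2 lc_a_rc_3_0 lc_a_rc_2_2 lc_a_rc_0_1 lc_a_rc_3_2 lc_a_rc_4_2 lc_a_rc_4_2 lc_a_rc_3_2 lc_a_rc_2_2 lc_a_rc_4_2 lc_a_rc_4_2 lc_a_rc_3_2 lc_a_rc_21_0 lc_a_rc_3_2 lc_a_rc_21_0 lc_a_rc_5_0 lc_a_rc_4_2 lc_a_rc_21_0 lc_a_rc_0_1 lc_a_rc_3_2 lc_a_rc_3_2 lc_a_rc_0_1 lc_a_rc_0_1 lc_a_rc_2_2 lc_a_rc_0_1 lc_a_rc_0_1 lc_a_rc_2_2 lc_a_rc_4_2) (@D3.rec (fun _ => (Cert rels S Gen.a)) lc_a_rc_2_2 lc_a_rc_0_1 lc_a_rc_3_2 lc_a_rc_21_0 lc_a_rc_0_1 lc_a_rc_2_2 lc_a_rc_3_2 lc_a_Cert_tree lc_a_rc_4_2 lc_a_rc_2_2 lc_a_rc_0_1 lc_a_rc_4_2 lc_a_rc_2_2 lc_a_rc_1_2 lc_a_rc_5_2 lc_a_rc_3_2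 lc_a_rc_1_0 lc_a_rc_0_1 lc_a_rc_5_2 lc_a_rc_3_2 lc_a_rc_4_2 lc_a_rc_3_2 lc_a_rc_3_0 lc_a_rc_3_2 lc_a_rc_4_2 lc_a_rc_5_2 lc_a_rc_0_1 lc_a_rc_0_1 lc_a_rc_4_2 lc_a_rc_3_0 lc_a_rc_2_2 lc_a_rc_4_2 lc_a_rc_0_1 lc_a_rc_2_0 lc_a_Cert_tree lc_a_rc_2_0 lc_a_rc_0_1 lc_a_rc_0_1 lc_a_rc_1_2 lc_a_rc_3_0 lc_a_rc_4_2 lc_a_rc_21_0 lc_a_rc_3_2 lc_a_rc_21_0 lc_a_rc_3_2 lc_a_rc_3_2 lc_a_rc_2_0 lc_a_Cert_tree lc_a_rc_3_2 lc_a_rc_3_2 lc_a_rc_3_2 lc_a_rc_0_1 lc_a_rc_0_1 lc_a_rc_3_2 lc_a_rc_5_2 lc_a_rc_2_2 lc_a_rc_4_2 lc_a_rc_3_2 lc_a_rc_4_0 lc_a_rc_4_2 lc_a_rc_1_2 lc_a_rc_3_2) (@D3.rec (fun _ => (Cert rels S Gen.a)) lc_a_rc_2_2 lc_a_Cert_tree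 lc_a_rc_3_2 lc_a_rc_4_2 lc_a_rc_3_2 lc_a_rc_3_0 lc_a_rc_0_1 lc_a_rc_0_1 lc_a_rc_2_2 lc_a_rc_4_0 lc_a_rc_2_2 lc_a_rc_4_2 lc_a_rc_3_2 lc_a_rc_4_0 lc_a_rc_1_0 lc_a_rc_5_2 lc_a_rc_3_2 lc_a_rc_21_0 lc_a_rc_3_2 lc_a_rc_4_0 lc_a_rc_2_2 lc_a_rc_0_1 lc_a_rc_3_2 lc_a_rc_2_2 lc_a_rc_4_2 lc_a_rc_0_1 lc_a_rc_2_2 lc_a_rc_2_0 lc_a_rc_0_1 lc_a_rc_0_1 lc_a_rc_5_0 lc_a_rc_0_1 lc_a_rc_22_0 lc_a_rc_0_1 lc_a_rc_21_0 lc_a_rc_0_1 lc_a_rc_0_1 lc_a_rc_5_2 lc_a_rc_3_0 lc_a_rc_1_0 lc_a_rc_4_2 lc_a_rc_3_0 lc_a_rc_4_2 lc_a_rc_4_0 lc_a_rc_3_2 lc_a_rc_1_2 lc_a_rc_3_0 lc_a_rc_21_0 lc_a_rc_3_0 lc_a_rc_21_0 lc_a_rc_3_2 lc_a_rc_2_2 lc_a_rc_3_0 lc_a_rc_2_2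 lc_a_rc_3_0 lc_a_rc_3_2 lc_a_rc_5_2 lc_a_rc_3_2 lc_a_rc_2_2 lc_a_rc_0_1 lc_a_rc_1_4 lc_a_rc_1_4) (@D3.rec (fun _ => (Cert rels S Gen.a)) lc_a_rc_0_1 lc_a_rc_4_0 lc_a_rc_2_2 lc_a_rc_1_4 lc_a_rc_1_4 lc_a_rc_2_2 lc_a_rc_3_2 lc_a_rc_4_2 lc_a_rc_21_0 lc_a_rc_4_0 lc_a_rc_1_0 lc_a_rc_3_2 lc_a_rc_4_2 lc_a_rc_3_2 lc_a_rc_3_0 lc_a_rc_1_0 lc_a_rc_3_0 lc_a_rc_3_2 lc_a_rc_21_0 lc_a_rc_0_1 lc_a_rc_2_0 lc_a_rc_3_2 lc_a_rc_4_2 lc_a_rc_1_2 lc_a_rc_4_0 lc_a_rc_1_2 lc_a_rc_0_1 lc_a_rc_1_4 lc_a_rc_3_0 lc_a_rc_21_0 lc_a_rc_4_2 lc_a_rc_3_2 lc_a_rc_4_2 lc_a_rc_4_0 lc_a_rc_0_1 lc_a_rc_4_2 lc_a_rc_2_2 lc_a_rc_3_2 lc_a_rc_1_4 lc_a_rc_4_0 lc_a_rc_4_0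 lc_a_rc_1_0 lc_a_rc_3_2 lc_a_rc_3_2 lc_a_rc_3_0 lc_a_rc_0_1 lc_a_rc_0_1 lc_a_rc_2_2 lc_a_rc_3_2 lc_a_rc_22_0 lc_a_rc_0_1 lc_a_rc_2_0 lc_a_rc_1_4 lc_a_rc_4_2 lc_a_rc_3_0 lc_a_rc_0_1 lc_a_rc_0_1 lc_a_rc_4_0 lc_a_rc_0_1 lc_a_rc_1_4 lc_a_rc_2_2 lc_a_rc_2_2) (@D3.rec (fun _ => (Cert rels S Gen.a)) lc_a_rc_4_0 lc_a_rc_2_2 lc_a_rc_21_0 lc_a_rc_2_0 lc_a_rc_1_2 lc_a_rc_2_0 lc_a_rc_2_0 lc_a_rc_2_2 lc_a_rc_2_2 lc_a_rc_2_2 lc_a_rc_2_0 lc_a_rc_4_2 lc_a_rc_1_4 lc_a_rc_0_1 lc_a_rc_2_2 lc_a_rc_1_4 lc_a_rc_3_0 lc_a_rc_0_1 lc_a_rc_4_2 lc_a_rc_3_2 lc_a_rc_0_1 lc_a_rc_3_2 lc_a_rc_4_2 lc_a_rc_0_1 lc_a_rc_21_0 lc_a_rc_0_1 lc_a_rc_3_2 lc_a_rc_4_2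 lc_a_rc_3_2 lc_a_rc_4_0 lc_a_rc_4_2 lc_a_rc_5_0 lc_a_rc_4_2 lc_a_rc_3_0 lc_a_rc_4_0 lc_a_rc_3_2 lc_a_rc_2_0 lc_a_rc_3_2 lc_a_rc_2_2 lc_a_rc_21_0 lc_a_Cert_tree lc_a_rc_4_2 lc_a_rc_3_2 lc_a_rc_3_0 lc_a_rc_5_2 lc_a_rc_4_2 lc_a_rc_4_0 lc_a_rc_2_2 lc_a_rc_4_2 lc_a_rc_0_1 lc_a_rc_4_2 lc_a_rc_21_0 lc_a_rc_2_0 lc_a_rc_4_2 lc_a_rc_2_0 lc_a_rc_21_0 lc_a_rc_3_2 lc_a_rc_2_2 lc_a_rc_2_0 lc_a_rc_2_2 lc_a_rc_21_0 lc_a_rc_0_1) (@D3.rec (fun _ => (Cert rels S Gen.a)) lc_a_rc_2_0 lc_a_rc_4_2 lc_a_rc_4_2 lc_a_rc_1_0 lc_a_rc_0_1 lc_a_rc_2_2 lc_a_rc_5_0 lc_a_rc_3_2 lc_a_rc_0_1 lc_a_rc_2_0 lc_a_rc_4_2 lc_a_rc_1_4 lc_a_rc_0_1 lc_a_rc_3_2 lc_a_rc_4_2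 lc_a_rc_2_0 lc_a_rc_3_0 lc_a_rc_3_2 lc_a_rc_3_2 lc_a_rc_4_2 lc_a_rc_21_0 lc_a_rc_21_0 lc_a_rc_2_2 lc_a_rc_3_2 lc_a_rc_0_1 lc_a_rc_1_4 lc_a_rc_2_2 lc_a_rc_0_1 lc_a_rc_5_2 lc_a_rc_4_2 lc_a_rc_21_0 lc_a_rc_4_2 lc_a_rc_2_2 lc_a_rc_21_0 lc_a_rc_3_2 lc_a_rc_5_2 lc_a_rc_5_0 lc_a_rc_2_2 lc_a_Cert_tree lc_a_rc_3_2 lc_a_Cert_tree lc_a_rc_1_2 lc_a_rc_0_1 lc_a_rc_4_2 lc_a_rc_2_0 lc_a_rc_1_4 lc_a_rc_3_2 lc_a_rc_3_2 lc_a_rc_3_2 lc_a_rc_1_0 lc_a_rc_3_0 lc_a_rc_3_2 lc_a_rc_5_2 lc_a_rc_2_0 lc_a_rc_3_0 lc_a_rc_0_1 lc_a_rc_1_0 lc_a_rc_1_0 lc_a_rc_2_2 lc_a_rc_0_1 lc_a_rc_5_2 lc_a_rc_3_2) (@D3.rec (fun _ => (Cert rels S Gen.a)) lc_a_rc_21_0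 lc_a_rc_1_2 lc_a_rc_3_2 lc_a_rc_4_2 lc_a_rc_0_1 lc_a_rc_3_2 lc_a_rc_1_4 lc_a_rc_1_0 lc_a_rc_1_4 lc_a_rc_3_0 lc_a_rc_22_0 lc_a_rc_3_2 lc_a_rc_4_2 lc_a_rc_2_2 lc_a_rc_3_2 lc_a_Cert_tree lc_a_rc_2_2 lc_a_rc_3_2 lc_a_rc_3_2 lc_a_rc_21_0 lc_a_rc_3_2 lc_a_rc_5_2 lc_a_rc_2_2 lc_a_rc_1_0 lc_a_rc_2_0 lc_a_rc_2_2 lc_a_rc_0_1 lc_a_rc_4_0 lc_a_rc_3_0 lc_a_rc_1_2 lc_a_rc_21_0 lc_a_rc_3_0 lc_a_rc_3_0 lc_a_rc_3_0 lc_a_rc_3_2 lc_a_rc_2_0 lc_a_rc_21_0 lc_a_rc_3_2 lc_a_rc_4_2 lc_a_rc_3_2 lc_a_rc_1_4 lc_a_rc_2_0 lc_a_rc_4_0 lc_a_rc_4_2 lc_a_rc_0_1 lc_a_rc_4_2 lc_a_rc_2_2 lc_a_rc_21_0 lc_a_rc_3_2 lc_a_rc_0_1 lc_a_rc_0_1 lc_a_rc_3_0 lc_a_rc_3_2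 lc_a_Cert_tree lc_a_rc_3_2 lc_a_rc_4_0 lc_a_rc_3_0 lc_a_rc_3_0 lc_a_rc_3_0 lc_a_rc_5_0 lc_a_rc_0_1 lc_a_rc_1_2) (@D3.rec (fun _ => (Cert rels S Gen.a)) lc_a_rc_1_4 lc_a_rc_21_0 lc_a_rc_2_2 lc_a_rc_0_1 lc_a_rc_3_2 lc_a_rc_4_2 lc_a_rc_1_0 lc_a_rc_1_2 lc_a_rc_0_1 lc_a_rc_3_2 lc_a_rc_0_1 lc_a_rc_0_1 lc_a_rc_22_0 lc_a_rc_3_2 lc_a_rc_4_2 lc_a_rc_2_2 lc_a_rc_4_2 lc_a_rc_0_1 lc_a_rc_3_2 lc_a_rc_5_0 lc_a_Cert_tree lc_a_rc_4_2 lc_a_rc_21_0 lc_a_rc_3_0 lc_a_rc_5_2 lc_a_rc_2_2 lc_a_rc_2_0 lc_a_Cert_tree lc_a_rc_3_2 lc_a_rc_4_2 lc_a_rc_1_4 lc_a_rc_4_2 lc_a_rc_0_1 lc_a_rc_4_2 lc_a_rc_0_1 lc_a_rc_22_0 lc_a_rc_22_0 lc_a_rc_4_2 lc_a_rc_0_1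 lc_a_rc_3_0 lc_a_rc_4_2 lc_a_rc_0_1 lc_a_rc_22_0 lc_a_rc_0_1 lc_a_rc_21_0 lc_a_rc_0_1 lc_a_rc_4_2 lc_a_rc_3_2 lc_a_rc_5_2 lc_a_rc_4_2 lc_a_rc_3_2 lc_a_rc_0_1 lc_a_rc_1_2 lc_a_rc_3_2 lc_a_rc_21_0 lc_a_rc_4_0 lc_a_rc_2_2 lc_a_rc_3_2 lc_a_rc_4_2 lc_a_rc_4_0 lc_a_rc_1_2 lc_a_rc_1_0) (@D3.rec (fun _ => (Cert rels S Gen.a)) lc_a_rc_2_0 lc_a_rc_1_2 lc_a_rc_0_1 lc_a_rc_4_2 lc_a_rc_5_2 lc_a_rc_1_2 lc_a_rc_3_2 lc_a_rc_3_0 lc_a_rc_3_2 lc_a_rc_21_0 lc_a_rc_3_2 lc_a_rc_2_2 lc_a_rc_3_2 lc_a_Cert_tree lc_a_rc_3_2 lc_a_rc_4_2 lc_a_rc_5_0 lc_a_rc_21_0 lc_a_rc_2_2 lc_a_rc_21_0 lc_a_rc_3_2 lc_a_rc_0_1 lc_a_rc_1_2 lc_a_rc_21_0 lc_a_rc_3_2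 lc_a_rc_4_2 lc_a_rc_3_2 lc_a_rc_1_4 lc_a_rc_3_2 lc_a_rc_0_1 lc_a_rc_2_0 lc_a_rc_3_2 lc_a_rc_3_2 lc_a_rc_22_0 lc_a_rc_21_0 lc_a_rc_2_2 lc_a_rc_4_2 lc_a_rc_2_2 lc_a_rc_3_2 lc_a_rc_0_1 lc_a_rc_2_2 lc_a_rc_21_0 lc_a_rc_5_0 lc_a_rc_3_2 lc_a_rc_3_2 lc_a_rc_0_1 lc_a_rc_2_2 lc_a_rc_3_2 lc_a_rc_4_2 lc_a_rc_3_0 lc_a_rc_1_4 lc_a_rc_2_2 lc_a_rc_3_2 lc_a_rc_3_2 lc_a_rc_5_2 lc_a_rc_4_2 lc_a_rc_21_0 lc_a_rc_4_2 lc_a_rc_3_2 lc_a_rc_2_2 lc_a_rc_2_2 lc_a_rc_4_0) (@D3.rec (fun _ => (Cert rels S Gen.a)) lc_a_rc_1_4 lc_a_rc_1_0 lc_a_rc_3_2 lc_a_rc_3_2 lc_a_rc_4_2 lc_a_rc_3_2 lc_a_rc_5_0 lc_a_rc_0_1 lc_a_rc_4_2 lc_a_rc_4_0 lc_a_rc_2_2 lc_a_rc_1_4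 lc_a_rc_2_2 lc_a_rc_22_0 lc_a_rc_3_2 lc_a_rc_21_0 lc_a_rc_4_2 lc_a_rc_3_2 lc_a_rc_4_2 lc_a_rc_3_0 lc_a_rc_5_2 lc_a_rc_3_2 lc_a_rc_4_2 lc_a_rc_3_2 lc_a_rc_2_2 lc_a_rc_3_2 lc_a_rc_5_2 lc_a_rc_2_0 lc_a_rc_2_2 lc_a_rc_3_2 lc_a_rc_2_2 lc_a_rc_21_0 lc_a_rc_21_0 lc_a_rc_2_2 lc_a_rc_2_2 lc_a_rc_5_0 lc_a_rc_21_0 lc_a_rc_0_1 lc_a_rc_21_0 lc_a_rc_21_0 lc_a_rc_22_0 lc_a_rc_4_2 lc_a_rc_2_2 lc_a_rc_3_2 lc_a_rc_2_0 lc_a_rc_4_0 lc_a_rc_4_0 lc_a_rc_2_2 lc_a_rc_3_2 lc_a_rc_3_2 lc_a_rc_0_1 lc_a_rc_2_2 lc_a_rc_21_0 lc_a_rc_3_2 lc_a_rc_5_2 lc_a_rc_0_1 lc_a_rc_3_2 lc_a_rc_5_0 lc_a_rc_2_2 lc_a_rc_5_2 lc_a_rc_3_2 lc_a_rc_4_2) (@D3.rec (fun _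 => (Cert rels S Gen.a)) lc_a_rc_3_2 lc_a_rc_5_2 lc_a_rc_3_0 lc_a_rc_4_0 lc_a_rc_2_0 lc_a_rc_0_1 lc_a_rc_0_1 lc_a_rc_5_0 lc_a_rc_4_2 lc_a_rc_5_2 lc_a_rc_3_0 lc_a_rc_0_1 lc_a_rc_5_2 lc_a_rc_3_2 lc_a_rc_3_2 lc_a_rc_3_2 lc_a_rc_21_0 lc_a_rc_3_2 lc_a_rc_3_2 lc_a_rc_4_2 lc_a_rc_2_2 lc_a_rc_3_2 lc_a_rc_1_2 lc_a_rc_3_2 lc_a_rc_3_2 lc_a_rc_4_2 lc_a_rc_3_2 lc_a_rc_3_2 lc_a_rc_3_0 lc_a_rc_2_2 lc_a_rc_5_2 lc_a_rc_3_2 lc_a_rc_2_2 lc_a_rc_2_2 lc_a_rc_21_0 lc_a_rc_5_0 lc_a_rc_1_2 lc_a_rc_5_2 lc_a_rc_4_0 lc_a_rc_0_1 lc_a_rc_3_2 lc_a_rc_4_2 lc_a_rc_4_2 lc_a_rc_5_2 lc_a_rc_4_2 lc_a_rc_5_0 lc_a_rc_4_2 lc_a_rc_0_1 lc_a_rc_0_1 lc_a_rc_5_2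 lc_a_rc_21_0 lc_a_rc_21_0 lc_a_rc_1_4 lc_a_rc_22_0 lc_a_rc_1_4 lc_a_rc_2_2 lc_a_rc_0_1 lc_a_rc_0_1 lc_a_rc_4_2 lc_a_rc_3_2 lc_a_rc_3_2 lc_a_rc_0_1) (@D3.rec (fun _ => (Cert rels S Gen.a)) lc_a_rc_0_1 lc_a_rc_0_1 lc_a_rc_3_0 lc_a_rc_0_1 lc_a_rc_21_0 lc_a_rc_1_4 lc_a_rc_2_2 lc_a_rc_2_2 lc_a_rc_1_2 lc_a_rc_3_0 lc_a_rc_0_1 lc_a_rc_3_0 lc_a_rc_0_1 lc_a_rc_22_0 lc_a_rc_2_2 lc_a_rc_4_2 lc_a_rc_1_2 lc_a_rc_4_0 lc_a_rc_3_2 lc_a_rc_4_2 lc_a_rc_0_1 lc_a_rc_1_4 lc_a_rc_3_0 lc_a_rc_4_2 lc_a_rc_1_4 lc_a_rc_0_1 lc_a_rc_21_0 lc_a_rc_1_0 lc_a_rc_4_2 lc_a_rc_21_0 lc_a_rc_5_0 lc_a_rc_2_2 lc_a_rc_4_2 lc_a_rc_3_2 lc_a_rc_3_0 lc_a_rc_0_1 lc_a_rc_4_2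 lc_a_rc_3_0 lc_a_rc_3_0 lc_a_rc_3_0 lc_a_rc_0_1 lc_a_rc_3_2 lc_a_rc_3_2 lc_a_rc_3_2 lc_a_rc_0_1 lc_a_rc_4_2 lc_a_rc_0_1 lc_a_rc_21_0 lc_a_rc_3_2 lc_a_rc_3_2 lc_a_rc_0_1 lc_a_rc_21_0 lc_a_Cert_tree lc_a_rc_1_2 lc_a_rc_1_2 lc_a_rc_2_2 lc_a_rc_0_1 lc_a_rc_2_2 lc_a_rc_3_2 lc_a_rc_2_0 lc_a_rc_3_2 lc_a_rc_2_2) (@D3.rec (fun _ => (Cert rels S Gen.a)) lc_a_rc_2_0 lc_a_rc_0_1 lc_a_rc_21_0 lc_a_rc_2_2 lc_a_rc_2_2 lc_a_rc_0_1 lc_a_rc_3_2 lc_a_rc_3_2 lc_a_rc_4_2 lc_a_rc_0_1 lc_a_rc_2_2 lc_a_rc_2_2 lc_a_rc_3_2 lc_a_rc_4_0 lc_a_rc_0_1 lc_a_rc_2_2 lc_a_rc_3_0 lc_a_rc_2_2 lc_a_rc_1_4 lc_a_rc_0_1 lc_a_rc_2_2 lc_a_rc_4_2 lc_a_rc_3_2 lc_a_rc_0_1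 lc_a_rc_4_2 lc_a_rc_1_2 lc_a_rc_3_2 lc_a_rc_5_0 lc_a_rc_3_0 lc_a_rc_2_2 lc_a_rc_2_0 lc_a_rc_5_2 lc_a_rc_4_2 lc_a_rc_3_0 lc_a_rc_3_0 lc_a_rc_4_2 lc_a_rc_2_2 lc_a_rc_2_2 lc_a_rc_3_2 lc_a_rc_2_0 lc_a_rc_2_2 lc_a_rc_1_2 lc_a_rc_3_2 lc_a_rc_0_1 lc_a_rc_22_0 lc_a_rc_0_1 lc_a_rc_4_0 lc_a_rc_3_2 lc_a_rc_4_2 lc_a_rc_3_2 lc_a_rc_0_1 lc_a_rc_3_2 lc_a_rc_2_2 lc_a_rc_4_2 lc_a_rc_2_0 lc_a_rc_0_1 lc_a_rc_0_1 lc_a_rc_2_0 lc_a_rc_4_2 lc_a_rc_5_2 lc_a_rc_3_0 lc_a_rc_5_0) (@D3.rec (fun _ => (Cert rels S Gen.a)) lc_a_rc_21_0 lc_a_rc_2_2 lc_a_rc_1_4 lc_a_rc_22_0 lc_a_rc_1_4 lc_a_rc_2_2 lc_a_rc_2_0 lc_a_rc_4_2 lc_a_rc_2_2 lc_a_rc_0_1 lc_a_rc_3_2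 lc_a_rc_4_0 lc_a_rc_1_4 lc_a_rc_0_1 lc_a_rc_3_0 lc_a_rc_2_0 lc_a_rc_3_0 lc_a_rc_3_0 lc_a_rc_1_4 lc_a_rc_1_0 lc_a_rc_4_0 lc_a_rc_3_2 lc_a_rc_2_0 lc_a_rc_4_2 lc_a_rc_0_1 lc_a_rc_2_2 lc_a_rc_2_0 lc_a_rc_3_0 lc_a_rc_2_0 lc_a_rc_3_2 lc_a_rc_21_0 lc_a_rc_2_2 lc_a_rc_0_1 lc_a_rc_1_0 lc_a_rc_3_0 lc_a_rc_0_1 lc_a_rc_4_0 lc_a_rc_0_1 lc_a_rc_2_2 lc_a_rc_0_1 lc_a_rc_1_2 lc_a_rc_3_2 lc_a_rc_21_0 lc_a_rc_0_1 lc_a_rc_0_1 lc_a_rc_0_1 lc_a_rc_21_0 lc_a_rc_0_1 lc_a_rc_1_4 lc_a_rc_21_0 lc_a_rc_3_2 lc_a_rc_3_2 lc_a_rc_0_1 lc_a_rc_4_2 lc_a_rc_2_2 lc_a_rc_21_0 lc_a_rc_0_1 lc_a_rc_3_0 lc_a_rc_2_0 lc_a_rc_2_2 lc_a_rc_4_2 lc_a_rc_3_0) (@D3.rec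 (fun _ => (Cert rels S Gen.a)) lc_a_rc_3_0 lc_a_rc_2_2 lc_a_rc_3_2 lc_a_Cert_tree lc_a_rc_21_0 lc_a_rc_3_0 lc_a_rc_3_2 lc_a_rc_4_2 lc_a_rc_3_2 lc_a_rc_3_2 lc_a_rc_5_2 lc_a_rc_3_2 lc_a_rc_3_2 lc_a_rc_4_0 lc_a_rc_0_1 lc_a_rc_21_0 lc_a_rc_0_1 lc_a_rc_0_1 lc_a_rc_3_2 lc_a_rc_4_2 lc_a_rc_2_0 lc_a_rc_2_2 lc_a_rc_0_1 lc_a_rc_2_0 lc_a_rc_4_2 lc_a_rc_2_0 lc_a_rc_4_2 lc_a_rc_3_2 lc_a_rc_2_2 lc_a_rc_3_2 lc_a_rc_4_2 lc_a_rc_2_2 lc_a_rc_3_2 lc_a_rc_4_2 lc_a_rc_0_1 lc_a_rc_5_0 lc_a_rc_3_2 lc_a_rc_3_0 lc_a_rc_4_2 lc_a_rc_2_2 lc_a_rc_2_2 lc_a_rc_5_2 lc_a_rc_0_1 lc_a_rc_2_2 lc_a_rc_0_1 lc_a_rc_4_2 lc_a_rc_21_0 lc_a_rc_3_2 lc_a_rc_4_2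 lc_a_rc_3_0 lc_a_rc_1_4 lc_a_rc_2_2 lc_a_rc_3_0 lc_a_rc_2_0 lc_a_rc_0_1 lc_a_rc_2_0 lc_a_rc_3_2 lc_a_rc_4_2 lc_a_rc_2_2 lc_a_rc_1_2 lc_a_rc_1_2 lc_a_rc_1_2) (@D3.rec (fun _ => (Cert rels S Gen.a)) lc_a_rc_4_2 lc_a_rc_5_2 lc_a_rc_4_2 lc_a_rc_0_1 lc_a_rc_2_2 lc_a_rc_1_2 lc_a_rc_3_0 lc_a_rc_0_1 lc_a_rc_5_2 lc_a_rc_3_2 lc_a_rc_4_2 lc_a_rc_2_2 lc_a_rc_5_0 lc_a_rc_0_1 lc_a_rc_21_0 lc_a_rc_0_1 lc_a_rc_3_2 lc_a_rc_2_2 lc_a_rc_3_2 lc_a_rc_4_2 lc_a_rc_4_0 lc_a_rc_3_2 lc_a_rc_2_2 lc_a_rc_1_0 lc_a_rc_1_2 lc_a_rc_5_2 lc_a_rc_2_2 lc_a_rc_4_2 lc_a_rc_3_2 lc_a_rc_0_1 lc_a_rc_2_0 lc_a_rc_5_2 lc_a_rc_2_2 lc_a_rc_0_1 lc_a_rc_3_0 lc_a_rc_3_0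 lc_a_rc_5_2 lc_a_rc_2_0 lc_a_rc_2_2 lc_a_rc_3_0 lc_a_rc_5_2 lc_a_rc_2_2 lc_a_rc_22_0 lc_a_rc_0_1 lc_a_rc_22_0 lc_a_rc_2_0 lc_a_rc_0_1 lc_a_rc_4_2 lc_a_rc_4_2 lc_a_rc_2_0 lc_a_rc_3_2 lc_a_rc_4_2 lc_a_rc_0_1 lc_a_rc_1_4 lc_a_rc_4_2 lc_a_rc_0_1 lc_a_rc_4_2 lc_a_rc_2_2 lc_a_rc_21_0 lc_a_rc_3_2 lc_a_rc_1_4 lc_a_rc_0_1) (@D3.rec (fun _ => (Cert rels S Gen.a)) lc_a_rc_0_1 lc_a_rc_4_2 lc_a_rc_2_2 lc_a_rc_2_0 lc_a_rc_3_2 lc_a_rc_2_2 lc_a_rc_2_0 lc_a_rc_4_2 lc_a_Cert_tree lc_a_rc_3_2 lc_a_rc_4_2 lc_a_rc_3_0 lc_a_rc_1_0 lc_a_rc_5_0 lc_a_rc_4_0 lc_a_rc_4_0 lc_a_Cert_tree lc_a_rc_2_2 lc_a_rc_3_0 lc_a_rc_21_0 lc_a_rc_5_0 lc_a_rc_22_0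 lc_a_rc_4_2 lc_a_rc_3_0 lc_a_rc_4_0 lc_a_rc_4_2 lc_a_rc_22_0 lc_a_Cert_tree lc_a_rc_21_0 lc_a_rc_2_2 lc_a_rc_1_4 lc_a_rc_21_0 lc_a_rc_1_4 lc_a_rc_4_2 lc_a_rc_5_2 lc_a_rc_2_0 lc_a_rc_4_2 lc_a_rc_2_2 lc_a_rc_2_2 lc_a_rc_2_2 lc_a_rc_3_2 lc_a_rc_3_2 lc_a_rc_4_2 lc_a_rc_2_2 lc_a_rc_4_0 lc_a_rc_5_0 lc_a_rc_3_0 lc_a_rc_0_1 lc_a_rc_1_4 lc_a_rc_2_2 lc_a_rc_21_0 lc_a_rc_3_2 lc_a_rc_3_2 lc_a_rc_4_2 lc_a_rc_4_2 lc_a_rc_2_2 lc_a_rc_5_2 lc_a_rc_3_2 lc_a_rc_2_2 lc_a_rc_22_0 lc_a_rc_2_0 lc_a_rc_0_1) (@D3.rec (fun _ => (Cert rels S Gen.a)) lc_a_rc_5_2 lc_a_rc_5_2 lc_a_rc_0_1 lc_a_rc_4_0 lc_a_rc_0_1 lc_a_rc_0_1 lc_a_rc_3_0 lc_a_rc_0_1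 lc_a_rc_22_0 lc_a_rc_2_2 lc_a_rc_0_1 lc_a_rc_0_1 lc_a_rc_2_0 lc_a_rc_4_2 lc_a_Cert_tree lc_a_rc_4_2 lc_a_rc_2_2 lc_a_rc_4_2 lc_a_rc_3_2 lc_a_rc_4_2 lc_a_rc_1_4 lc_a_rc_2_2 lc_a_rc_3_0 lc_a_rc_2_2 lc_a_rc_1_4 lc_a_rc_0_1 lc_a_rc_4_2 lc_a_rc_4_2 lc_a_rc_1_4 lc_a_rc_1_2 lc_a_rc_0_1 lc_a_rc_1_4 lc_a_rc_4_2 lc_a_rc_5_2 lc_a_rc_5_0 lc_a_rc_4_2 lc_a_rc_4_2 lc_a_rc_4_2 lc_a_rc_4_0 lc_a_rc_1_4 lc_a_rc_1_2 lc_a_rc_21_0 lc_a_rc_5_0 lc_a_rc_4_2 lc_a_rc_0_1 lc_a_rc_4_2 lc_a_rc_5_0 lc_a_rc_2_2 lc_a_rc_4_2 lc_a_rc_2_2 lc_a_rc_1_2 lc_a_rc_0_1 lc_a_rc_1_4 lc_a_rc_1_4 lc_a_rc_1_4 lc_a_rc_3_2 lc_a_rc_2_2 lc_a_rc_4_2 lc_a_rc_3_2 lc_a_rc_2_2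 lc_a_rc_3_0 lc_a_rc_3_2) (@D3.rec (fun _ => (Cert rels S Gen.a)) lc_a_rc_2_2 lc_a_rc_22_0 lc_a_rc_1_2 lc_a_rc_0_1 lc_a_rc_4_2 lc_a_rc_4_2 lc_a_rc_2_2 lc_a_rc_21_0 lc_a_rc_3_2 lc_a_rc_2_0 lc_a_rc_0_1 lc_a_rc_3_2 lc_a_rc_2_2 lc_a_rc_3_2 lc_a_rc_4_2 lc_a_rc_0_1 lc_a_rc_21_0 lc_a_rc_1_0 lc_a_rc_0_1 lc_a_rc_4_2 lc_a_rc_4_2 lc_a_rc_2_2 lc_a_rc_3_2 lc_a_rc_1_2 lc_a_rc_3_2 lc_a_rc_5_0 lc_a_rc_4_2 lc_a_rc_3_2 lc_a_rc_22_0 lc_a_rc_3_0 lc_a_rc_2_2 lc_a_rc_4_2 lc_a_Cert_tree lc_a_rc_22_0 lc_a_rc_3_0 lc_a_rc_0_1 lc_a_Cert_tree lc_a_rc_2_2 lc_a_rc_4_2 lc_a_rc_4_0 lc_a_rc_4_2 lc_a_rc_5_2 lc_a_rc_5_0 lc_a_rc_4_2 lc_a_rc_2_2 lc_a_rc_3_0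 lc_a_rc_5_2 lc_a_rc_4_2 lc_a_rc_3_2 lc_a_rc_2_2 lc_a_rc_4_2 lc_a_rc_0_1 lc_a_rc_3_2 lc_a_rc_3_0 lc_a_rc_4_2 lc_a_rc_4_2 lc_a_rc_4_2 lc_a_rc_4_2 lc_a_rc_0_1 lc_a_rc_3_0 lc_a_rc_4_2 lc_a_rc_21_0) (@D3.rec (fun _ => (Cert rels S Gen.a)) lc_a_rc_1_2 lc_a_rc_0_1 lc_a_rc_0_1 lc_a_rc_0_1 lc_a_rc_3_2 lc_a_rc_4_2 lc_a_rc_3_2 lc_a_rc_5_0 lc_a_rc_3_2 lc_a_rc_3_2 lc_a_rc_3_2 lc_a_rc_21_0 lc_a_rc_5_0 lc_a_rc_3_0 lc_a_rc_2_2 lc_a_rc_21_0 lc_a_Cert_tree lc_a_rc_1_2 lc_a_rc_4_0 lc_a_rc_0_1 lc_a_rc_4_0 lc_a_rc_4_2 lc_a_rc_0_1 lc_a_rc_4_2 lc_a_rc_21_0 lc_a_rc_0_1 lc_a_rc_1_2 lc_a_rc_1_4 lc_a_rc_0_1 lc_a_rc_3_2 lc_a_rc_3_2 lc_a_rc_4_2 lc_a_rc_3_2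 lc_a_rc_21_0 lc_a_rc_3_0 lc_a_rc_0_1 lc_a_rc_3_2 lc_a_rc_1_2 lc_a_rc_2_2 lc_a_rc_3_2 lc_a_rc_4_2 lc_a_rc_21_0 lc_a_rc_3_2 lc_a_rc_3_0 lc_a_rc_3_2 lc_a_rc_3_2 lc_a_rc_3_0 lc_a_rc_4_2 lc_a_Cert_tree lc_a_rc_4_2 lc_a_Cert_tree lc_a_rc_4_2 lc_a_rc_0_1 lc_a_rc_5_2 lc_a_rc_1_0 lc_a_rc_3_2 lc_a_rc_5_2 lc_a_rc_4_2 lc_a_rc_21_0 lc_a_rc_3_2 lc_a_rc_4_2 lc_a_rc_21_0) (@D3.rec (fun _ => (Cert rels S Gen.a)) lc_a_rc_1_2 lc_a_Cert_tree lc_a_rc_4_0 lc_a_rc_0_1 lc_a_rc_1_2 lc_a_rc_1_4 lc_a_rc_2_2 lc_a_rc_4_2 lc_a_rc_0_1 lc_a_rc_21_0 lc_a_rc_2_2 lc_a_rc_3_2 lc_a_rc_2_2 lc_a_rc_4_2 lc_a_rc_3_2 lc_a_rc_3_2 lc_a_rc_2_2 lc_a_rc_3_2 lc_a_rc_1_4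 lc_a_rc_2_2 lc_a_rc_4_2 lc_a_rc_4_2 lc_a_rc_22_0 lc_a_rc_1_4 lc_a_rc_3_2 lc_a_rc_3_0 lc_a_rc_5_0 lc_a_rc_3_2 lc_a_rc_5_2 lc_a_rc_4_2 lc_a_rc_4_2 lc_a_rc_0_1 lc_a_rc_4_2 lc_a_rc_3_2 lc_a_rc_5_2 lc_a_rc_4_2 lc_a_rc_5_0 lc_a_rc_3_2 lc_a_rc_3_2 lc_a_rc_2_0 lc_a_rc_3_2 lc_a_rc_3_0 lc_a_rc_3_2 lc_a_rc_2_2 lc_a_rc_5_2 lc_a_rc_4_2 lc_a_rc_3_0 lc_a_rc_0_1 lc_a_rc_2_0 lc_a_rc_4_2 lc_a_rc_1_0 lc_a_rc_3_0 lc_a_rc_0_1 lc_a_rc_21_0 lc_a_rc_3_2 lc_a_rc_5_2 lc_a_rc_3_0 lc_a_rc_2_2 lc_a_rc_3_2 lc_a_rc_3_2 lc_a_rc_21_0 lc_a_rc_2_2) (@D3.rec (fun _ => (Cert rels S Gen.a)) lc_a_rc_4_2 lc_a_rc_3_2 lc_a_rc_5_2 lc_a_rc_0_1 lc_a_rc_5_2 lc_a_rc_2_2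 lc_a_rc_3_2 lc_a_rc_5_0 lc_a_rc_3_2 lc_a_rc_3_2 lc_a_rc_1_2 lc_a_rc_4_0 lc_a_rc_4_2 lc_a_rc_4_2 lc_a_rc_2_2 lc_a_rc_3_2 lc_a_rc_5_2 lc_a_rc_3_2 lc_a_rc_2_2 lc_a_rc_3_2 lc_a_rc_21_0 lc_a_rc_0_1 lc_a_rc_3_2 lc_a_rc_4_2 lc_a_rc_3_0 lc_a_Cert_tree lc_a_rc_21_0 lc_a_rc_4_2 lc_a_rc_21_0 lc_a_rc_4_2 lc_a_rc_3_2 lc_a_rc_4_2 lc_a_rc_1_0 lc_a_rc_4_0 lc_a_rc_2_2 lc_a_rc_4_2 lc_a_rc_3_0 lc_a_rc_4_2 lc_a_rc_2_2 lc_a_rc_2_2 lc_a_rc_2_0 lc_a_rc_2_0 lc_a_rc_4_2 lc_a_rc_22_0 lc_a_rc_3_2 lc_a_rc_2_2 lc_a_rc_3_2 lc_a_rc_2_0 lc_a_rc_3_2 lc_a_rc_3_2 lc_a_rc_3_2 lc_a_rc_4_0 lc_a_rc_21_0 lc_a_rc_5_2 lc_a_rc_3_2 lc_a_rc_2_2 lc_a_rc_5_2 lc_a_rc_2_2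 lc_a_rc_0_1 lc_a_rc_3_2 lc_a_rc_5_2 lc_a_rc_2_2) (@D3.rec (fun _ => (Cert rels S Gen.a)) lc_a_rc_1_4 lc_a_rc_0_1 lc_a_rc_0_1 lc_a_rc_1_4 lc_a_rc_4_2 lc_a_rc_0_1 lc_a_rc_4_2 lc_a_rc_4_2 lc_a_rc_3_2 lc_a_rc_3_2 lc_a_rc_4_2 lc_a_rc_3_2 lc_a_rc_2_2 lc_a_rc_2_0 lc_a_rc_2_0 lc_a_rc_0_1 lc_a_rc_22_0 lc_a_rc_2_2 lc_a_rc_3_2 lc_a_rc_4_2 lc_a_rc_3_2 lc_a_rc_2_2 lc_a_rc_0_1 lc_a_rc_2_2 lc_a_rc_4_0 lc_a_rc_2_2 lc_a_rc_2_0 lc_a_rc_21_0 lc_a_rc_4_0 lc_a_rc_0_1 lc_a_rc_4_2 lc_a_rc_0_1 lc_a_rc_3_2 lc_a_rc_4_2 lc_a_rc_2_2 lc_a_rc_2_0 lc_a_rc_2_0 lc_a_rc_2_2 lc_a_rc_4_2 lc_a_Cert_tree lc_a_rc_21_0 lc_a_rc_2_2 lc_a_rc_2_0 lc_a_rc_4_2 lc_a_rc_4_2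 lc_a_rc_1_4 lc_a_rc_0_1 lc_a_rc_5_2 lc_a_rc_3_2 lc_a_rc_5_2 lc_a_rc_4_2 lc_a_rc_4_2 lc_a_rc_2_2 lc_a_rc_2_2 lc_a_rc_4_2 lc_a_rc_2_2 lc_a_rc_5_0 lc_a_rc_3_2 lc_a_rc_22_0 lc_a_rc_4_2 lc_a_rc_1_2 lc_a_rc_2_2) (@D3.rec (fun _ => (Cert rels S Gen.a)) lc_a_rc_0_1 lc_a_Cert_tree lc_a_rc_3_2 lc_a_rc_0_1 lc_a_rc_5_2 lc_a_rc_2_2 lc_a_rc_4_2 lc_a_rc_1_4 lc_a_rc_0_1 lc_a_rc_0_1 lc_a_rc_21_0 lc_a_rc_3_2 lc_a_rc_2_2 lc_a_rc_5_2 lc_a_rc_3_2 lc_a_rc_2_2 lc_a_rc_4_2 lc_a_rc_4_2 lc_a_rc_0_1 lc_a_rc_21_0 lc_a_Cert_tree lc_a_rc_22_0 lc_a_rc_5_2 lc_a_rc_4_2 lc_a_rc_5_2 lc_a_rc_3_2 lc_a_rc_2_2 lc_a_rc_3_2 lc_a_rc_2_2 lc_a_rc_2_0 lc_a_rc_0_1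 lc_a_rc_22_0 lc_a_rc_4_2 lc_a_rc_22_0 lc_a_rc_1_4 lc_a_rc_3_2 lc_a_rc_4_2 lc_a_rc_3_2 lc_a_rc_3_2 lc_a_rc_3_2 lc_a_rc_2_0 lc_a_rc_3_0 lc_a_rc_3_2 lc_a_rc_2_2 lc_a_rc_5_0 lc_a_rc_0_1 lc_a_rc_2_2 lc_a_rc_5_2 lc_a_rc_1_2 lc_a_rc_4_2 lc_a_Cert_tree lc_a_rc_0_1 lc_a_rc_0_1 lc_a_rc_0_1 lc_a_rc_4_0 lc_a_rc_4_2 lc_a_rc_3_0 lc_a_rc_2_2 lc_a_rc_3_2 lc_a_rc_4_2 lc_a_rc_4_2 lc_a_rc_5_2) (@D3.rec (fun _ => (Cert rels S Gen.a)) lc_a_rc_5_2 lc_a_rc_4_2 lc_a_rc_2_0 lc_a_rc_2_0 lc_a_rc_5_0 lc_a_rc_4_2 lc_a_rc_2_2 lc_a_rc_3_2 lc_a_rc_2_2 lc_a_rc_3_2 lc_a_rc_4_2 lc_a_rc_3_2 lc_a_rc_0_1 lc_a_rc_5_2 lc_a_rc_3_2 lc_a_rc_2_2 lc_a_rc_1_2 lc_a_rc_3_2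 lc_a_rc_1_2 lc_a_rc_0_1 lc_a_rc_3_2 lc_a_rc_3_0 lc_a_rc_22_0 lc_a_rc_1_4 lc_a_rc_3_2 lc_a_rc_21_0 lc_a_rc_2_2 lc_a_rc_4_2 lc_a_rc_21_0 lc_a_rc_4_2 lc_a_rc_2_2 lc_a_rc_1_0 lc_a_rc_3_2 lc_a_rc_4_2 lc_a_rc_3_2 lc_a_rc_2_2 lc_a_rc_1_4 lc_a_rc_3_2 lc_a_rc_5_2 lc_a_rc_4_2 lc_a_rc_5_0 lc_a_rc_1_2 lc_a_rc_5_2 lc_a_rc_3_2 lc_a_rc_3_2 lc_a_rc_1_2 lc_a_rc_4_2 lc_a_rc_2_2 lc_a_rc_3_2 lc_a_rc_5_2 lc_a_rc_1_4 lc_a_rc_4_2 lc_a_rc_3_2 lc_a_rc_1_2 lc_a_rc_2_2 lc_a_rc_2_2 lc_a_rc_4_2 lc_a_rc_1_2 lc_a_rc_3_2 lc_a_rc_2_2 lc_a_rc_21_0 lc_a_rc_3_2) (@D3.rec (fun _ => (Cert rels S Gen.a)) lc_a_rc_0_1 lc_a_rc_3_2 lc_a_rc_21_0 lc_a_rc_2_0 lc_a_rc_3_2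 lc_a_rc_3_2 lc_a_rc_4_2 lc_a_rc_0_1 lc_a_rc_5_2 lc_a_rc_4_2 lc_a_Cert_tree lc_a_rc_3_2 lc_a_rc_0_1 lc_a_rc_2_2 lc_a_rc_4_0 lc_a_rc_5_2 lc_a_rc_3_2 lc_a_rc_1_2 lc_a_rc_3_2 lc_a_rc_0_1 lc_a_rc_4_0 lc_a_rc_0_1 lc_a_rc_2_2 lc_a_rc_1_4 lc_a_rc_0_1 lc_a_rc_2_2 lc_a_rc_0_1 lc_a_rc_22_0 lc_a_rc_4_2 lc_a_rc_0_1 lc_a_rc_3_2 lc_a_rc_4_2 lc_a_rc_1_0 lc_a_rc_2_2 lc_a_rc_2_2 lc_a_rc_1_0 lc_a_rc_2_2 lc_a_rc_2_2 lc_a_rc_4_0 lc_a_rc_3_2 lc_a_rc_2_2 lc_a_rc_22_0 lc_a_rc_3_2 lc_a_rc_4_2 lc_a_rc_0_1 lc_a_rc_3_2 lc_a_rc_4_2 lc_a_rc_2_2 lc_a_rc_3_2 lc_a_rc_4_2 lc_a_rc_0_1 lc_a_rc_21_0 lc_a_rc_2_2 lc_a_rc_4_2 lc_a_rc_21_0 lc_a_rc_2_2 lc_a_rc_2_2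 lc_a_rc_4_2 lc_a_rc_21_0 lc_a_rc_5_2 lc_a_rc_3_0 lc_a_rc_3_2) (@D3.rec (fun _ => (Cert rels S Gen.a)) lc_a_rc_1_2 lc_a_rc_21_0 lc_a_rc_21_0 lc_a_rc_3_2 lc_a_rc_2_2 lc_a_rc_5_0 lc_a_rc_4_2 lc_a_rc_2_2 lc_a_rc_3_2 lc_a_rc_21_0 lc_a_rc_0_1 lc_a_rc_4_2 lc_a_rc_5_0 lc_a_rc_0_1 lc_a_rc_5_0 lc_a_rc_0_1 lc_a_Cert_tree lc_a_rc_21_0 lc_a_rc_2_2 lc_a_rc_3_0 lc_a_rc_1_4 lc_a_rc_3_2 lc_a_rc_0_1 lc_a_rc_2_0 lc_a_rc_1_4 lc_a_rc_1_4 lc_a_rc_3_2 lc_a_rc_5_2 lc_a_rc_5_2 lc_a_rc_2_2 lc_a_rc_4_2 lc_a_rc_3_2 lc_a_rc_3_2 lc_a_rc_2_2 lc_a_rc_2_2 lc_a_rc_21_0 lc_a_rc_22_0 lc_a_rc_3_2 lc_a_rc_0_1 lc_a_rc_2_2 lc_a_rc_4_2 lc_a_rc_2_2 lc_a_rc_0_1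 lc_a_rc_4_2 lc_a_rc_3_2 lc_a_rc_2_2 lc_a_rc_0_1 lc_a_rc_0_1 lc_a_rc_0_1 lc_a_rc_3_2 lc_a_rc_3_0 lc_a_rc_3_0 lc_a_rc_0_1 lc_a_rc_1_2 lc_a_rc_3_2 lc_a_rc_3_0 lc_a_rc_3_0 lc_a_rc_3_2 lc_a_rc_2_0 lc_a_rc_21_0 lc_a_rc_1_4 lc_a_rc_4_2) (@D3.rec (fun _ => (Cert rels S Gen.a)) lc_a_rc_1_0 lc_a_rc_0_1 lc_a_rc_3_2 lc_a_rc_5_2 lc_a_rc_4_2 lc_a_rc_4_2 lc_a_rc_5_0 lc_a_rc_3_2 lc_a_rc_5_2 lc_a_rc_3_2 lc_a_rc_0_1 lc_a_rc_3_2 lc_a_rc_2_2 lc_a_rc_3_2 lc_a_rc_21_0 lc_a_rc_0_1 lc_a_rc_0_1 lc_a_rc_21_0 lc_a_rc_3_2 lc_a_rc_5_2 lc_a_rc_3_2 lc_a_rc_3_2 lc_a_rc_2_2 lc_a_rc_5_2 lc_a_rc_4_0 lc_a_rc_4_2 lc_a_rc_4_0 lc_a_rc_22_0 lc_a_rc_5_2 lc_a_rc_4_0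 lc_a_rc_5_0 lc_a_rc_2_2 lc_a_rc_2_2 lc_a_rc_4_2 lc_a_rc_3_2 lc_a_rc_3_2 lc_a_rc_4_2 lc_a_rc_4_2 lc_a_rc_5_0 lc_a_rc_4_0 lc_a_rc_4_0 lc_a_rc_21_0 lc_a_rc_4_2 lc_a_rc_3_0 lc_a_rc_2_2 lc_a_rc_4_2 lc_a_rc_21_0 lc_a_rc_3_0 lc_a_rc_0_1 lc_a_rc_21_0 lc_a_rc_4_2 lc_a_rc_22_0 lc_a_rc_4_2 lc_a_rc_2_2 lc_a_rc_3_2 lc_a_rc_5_2 lc_a_rc_2_2 lc_a_rc_1_0 lc_a_rc_5_0 lc_a_rc_2_2 lc_a_rc_3_2 lc_a_rc_2_2) (@D3.rec (fun _ => (Cert rels S Gen.a)) lc_a_rc_2_2 lc_a_Cert_tree lc_a_rc_3_2 lc_a_rc_3_2 lc_a_rc_1_2 lc_a_rc_1_4 lc_a_rc_3_0 lc_a_rc_3_2 lc_a_rc_2_2 lc_a_rc_0_1 lc_a_rc_2_0 lc_a_rc_4_2 lc_a_rc_4_2 lc_a_rc_21_0 lc_a_rc_0_1 lc_a_rc_0_1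 lc_a_rc_0_1 lc_a_rc_2_2 lc_a_rc_3_0 lc_a_rc_3_2 lc_a_rc_5_2 lc_a_rc_2_2 lc_a_rc_22_0 lc_a_rc_3_2 lc_a_rc_4_2 lc_a_Cert_tree lc_a_rc_3_2 lc_a_rc_2_2 lc_a_rc_3_2 lc_a_rc_3_2 lc_a_rc_4_2 lc_a_rc_3_0 lc_a_Cert_tree lc_a_rc_3_2 lc_a_rc_4_2 lc_a_rc_22_0 lc_a_Cert_tree lc_a_rc_22_0 lc_a_rc_3_2 lc_a_rc_0_1 lc_a_rc_0_1 lc_a_rc_0_1 lc_a_rc_3_2 lc_a_rc_21_0 lc_a_rc_22_0 lc_a_rc_4_2 lc_a_rc_2_2 lc_a_rc_2_0 lc_a_rc_1_4 lc_a_rc_4_2 lc_a_rc_1_0 lc_a_rc_1_2 lc_a_rc_5_2 lc_a_rc_3_2 lc_a_rc_3_2 lc_a_rc_2_2 lc_a_rc_3_0 lc_a_rc_0_1 lc_a_rc_5_0 lc_a_rc_4_0 lc_a_rc_4_2 lc_a_rc_3_2) (@D3.rec (fun _ => (Cert rels S Gen.a)) lc_a_rc_3_2 lc_a_rc_4_2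 lc_a_rc_0_1 lc_a_rc_0_1 lc_a_rc_3_2 lc_a_rc_4_2 lc_a_rc_3_0 lc_a_rc_1_4 lc_a_rc_0_1 lc_a_rc_5_0 lc_a_rc_4_2 lc_a_rc_0_1 lc_a_rc_2_0 lc_a_rc_0_1 lc_a_rc_3_2 lc_a_rc_4_2 lc_a_rc_2_2 lc_a_rc_3_2 lc_a_rc_3_2 lc_a_rc_3_0 lc_a_rc_3_0 lc_a_rc_2_2 lc_a_rc_4_2 lc_a_rc_5_0 lc_a_rc_4_2 lc_a_rc_0_1 lc_a_rc_4_2 lc_a_rc_5_0 lc_a_rc_4_2 lc_a_rc_4_2 lc_a_rc_3_0 lc_a_rc_5_2 lc_a_rc_4_2 lc_a_rc_3_2 lc_a_rc_3_2 lc_a_rc_2_0 lc_a_rc_21_0 lc_a_rc_2_2 lc_a_rc_3_2 lc_a_rc_2_2 lc_a_rc_4_2 lc_a_rc_3_2 lc_a_rc_1_2 lc_a_rc_3_2 lc_a_rc_2_2 lc_a_rc_0_1 lc_a_rc_2_0 lc_a_rc_3_2 lc_a_rc_4_0 lc_a_rc_1_2 lc_a_rc_5_0 lc_a_rc_2_2 lc_a_rc_1_4 lc_a_rc_3_0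 lc_a_rc_4_2 lc_a_rc_2_2 lc_a_rc_2_0 lc_a_rc_1_2 lc_a_rc_5_2 lc_a_rc_3_0 lc_a_rc_0_1 lc_a_rc_3_0) (@D3.rec (fun _ => (Cert rels S Gen.a)) lc_a_rc_3_2 lc_a_rc_22_0 lc_a_rc_2_2 lc_a_Cert_tree lc_a_Cert_tree lc_a_rc_5_2 lc_a_rc_0_1 lc_a_rc_1_4 lc_a_rc_1_4 lc_a_rc_3_0 lc_a_rc_0_1 lc_a_rc_4_2 lc_a_rc_22_0 lc_a_rc_4_2 lc_a_rc_21_0 lc_a_rc_3_2 lc_a_rc_3_2 lc_a_rc_21_0 lc_a_rc_4_2 lc_a_rc_21_0 lc_a_rc_1_2 lc_a_rc_21_0 lc_a_rc_2_2 lc_a_rc_21_0 lc_a_rc_3_2 lc_a_rc_5_2 lc_a_rc_2_2 lc_a_rc_3_0 lc_a_rc_1_0 lc_a_rc_0_1 lc_a_rc_3_2 lc_a_rc_2_0 lc_a_rc_3_2 lc_a_rc_4_2 lc_a_rc_3_0 lc_a_rc_0_1 lc_a_rc_2_0 lc_a_rc_2_0 lc_a_rc_4_2 lc_a_rc_22_0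 lc_a_rc_2_2 lc_a_rc_4_2 lc_a_rc_1_4 lc_a_rc_0_1 lc_a_rc_1_2 lc_a_rc_21_0 lc_a_rc_2_0 lc_a_rc_21_0 lc_a_rc_3_2 lc_a_rc_5_0 lc_a_rc_4_0 lc_a_rc_4_0 lc_a_rc_2_2 lc_a_rc_1_4 lc_a_rc_3_0 lc_a_rc_2_2 lc_a_rc_5_2 lc_a_rc_0_1 lc_a_rc_4_2 lc_a_rc_2_2 lc_a_rc_1_4 lc_a_rc_22_0) (@D3.rec (fun _ => (Cert rels S Gen.a)) lc_a_rc_5_2 lc_a_rc_3_0 lc_a_rc_3_2 lc_a_rc_5_0 lc_a_rc_21_0 lc_a_rc_3_2 lc_a_rc_5_2 lc_a_rc_3_2 lc_a_rc_0_1 lc_a_rc_2_2 lc_a_rc_4_2 lc_a_rc_4_2 lc_a_rc_3_2 lc_a_rc_5_2 lc_a_rc_4_2 lc_a_rc_2_2 lc_a_rc_2_0 lc_a_rc_5_2 lc_a_rc_21_0 lc_a_rc_1_0 lc_a_rc_0_1 lc_a_rc_4_2 lc_a_rc_3_2 lc_a_rc_4_2 lc_a_rc_3_2 lc_a_rc_0_1 lc_a_rc_1_2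 lc_a_rc_2_2 lc_a_rc_3_0 lc_a_rc_2_2 lc_a_rc_5_2 lc_a_rc_0_1 lc_a_rc_2_0 lc_a_rc_3_0 lc_a_rc_3_2 lc_a_rc_0_1 lc_a_rc_3_0 lc_a_rc_2_0 lc_a_rc_3_0 lc_a_rc_3_0 lc_a_rc_3_2 lc_a_rc_0_1 lc_a_rc_1_4 lc_a_rc_3_2 lc_a_rc_4_2 lc_a_rc_3_2 lc_a_rc_3_0 lc_a_rc_3_0 lc_a_rc_3_0 lc_a_rc_1_2 lc_a_rc_2_2 lc_a_rc_4_2 lc_a_rc_1_0 lc_a_rc_3_0 lc_a_rc_1_2 lc_a_rc_1_2 lc_a_rc_2_2 lc_a_rc_4_2 lc_a_rc_0_1 lc_a_rc_1_4 lc_a_rc_0_1 lc_a_rc_3_2) (@D3.rec (fun _ => (Cert rels S Gen.a)) lc_a_rc_5_2 lc_a_rc_21_0 lc_a_rc_3_0 lc_a_rc_2_0 lc_a_rc_5_0 lc_a_rc_3_0 lc_a_rc_0_1 lc_a_rc_4_2 lc_a_rc_0_1 lc_a_rc_4_0 lc_a_rc_4_2 lc_a_rc_2_0 lc_a_rc_2_2 lc_a_rc_1_2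 lc_a_rc_1_2 lc_a_rc_2_2 lc_a_rc_1_4 lc_a_rc_3_2 lc_a_rc_3_2 lc_a_rc_3_2 lc_a_rc_4_2 lc_a_rc_3_2 lc_a_rc_5_0 lc_a_rc_3_2 lc_a_rc_3_2 lc_a_rc_5_0 lc_a_rc_0_1 lc_a_rc_3_2 lc_a_rc_2_2 lc_a_rc_2_2 lc_a_rc_5_2 lc_a_rc_0_1 lc_a_rc_2_2 lc_a_rc_3_2 lc_a_rc_1_0 lc_a_rc_3_2 lc_a_rc_2_2 lc_a_rc_4_2 lc_a_rc_3_0 lc_a_rc_2_2 lc_a_rc_1_2 lc_a_rc_4_2 lc_a_Cert_tree lc_a_rc_2_2 lc_a_rc_3_2 lc_a_rc_2_2 lc_a_rc_21_0 lc_a_rc_3_2 lc_a_rc_5_2 lc_a_rc_4_2 lc_a_rc_3_2 lc_a_rc_0_1 lc_a_rc_2_2 lc_a_rc_4_2 lc_a_rc_21_0 lc_a_rc_2_2 lc_a_rc_4_2 lc_a_rc_21_0 lc_a_rc_5_0 lc_a_rc_5_2 lc_a_rc_0_1 lc_a_rc_3_2) (@D3.rec (fun _ => (Cert rels S Gen.a)) lc_a_rc_21_0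 lc_a_rc_3_0 lc_a_rc_5_2 lc_a_rc_3_2 lc_a_rc_22_0 lc_a_rc_5_2 lc_a_rc_2_2 lc_a_rc_4_2 lc_a_rc_5_2 lc_a_rc_3_2 lc_a_rc_3_0 lc_a_rc_3_0 lc_a_rc_3_0 lc_a_rc_2_2 lc_a_rc_3_0 lc_a_rc_2_2 lc_a_rc_2_2 lc_a_rc_4_2 lc_a_rc_2_2 lc_a_rc_5_0 lc_a_rc_4_2 lc_a_rc_3_2 lc_a_rc_3_2 lc_a_rc_3_2 lc_a_rc_1_4 lc_a_rc_5_0 lc_a_rc_4_2 lc_a_rc_3_0 lc_a_rc_5_0 lc_a_rc_2_2 lc_a_rc_3_2 lc_a_rc_5_0 lc_a_rc_1_2 lc_a_rc_4_2 lc_a_rc_4_2 lc_a_rc_4_2 lc_a_rc_2_0 lc_a_rc_0_1 lc_a_rc_4_2 lc_a_rc_3_2 lc_a_rc_1_2 lc_a_rc_2_2 lc_a_rc_3_2 lc_a_rc_4_2 lc_a_rc_1_0 lc_a_rc_1_0 lc_a_rc_5_0 lc_a_rc_3_2 lc_a_rc_4_2 lc_a_rc_0_1 lc_a_rc_4_2 lc_a_rc_21_0 lc_a_rc_3_2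 lc_a_rc_1_2 lc_a_rc_4_2 lc_a_rc_3_2 lc_a_rc_1_0 lc_a_rc_1_0 lc_a_rc_3_0 lc_a_rc_3_2 lc_a_rc_1_4 lc_a_rc_1_4) (@D3.rec (fun _ => (Cert rels S Gen.a)) lc_a_rc_4_0 lc_a_rc_2_2 lc_a_rc_1_0 lc_a_rc_4_2 lc_a_rc_3_2 lc_a_rc_21_0 lc_a_rc_21_0 lc_a_rc_0_1 lc_a_rc_5_2 lc_a_rc_3_2 lc_a_rc_2_0 lc_a_rc_3_0 lc_a_rc_5_0 lc_a_rc_5_2 lc_a_rc_0_1 lc_a_rc_3_2 lc_a_rc_3_2 lc_a_rc_5_2 lc_a_rc_2_2 lc_a_rc_2_2 lc_a_rc_3_2 lc_a_rc_4_2 lc_a_rc_2_2 lc_a_rc_2_2 lc_a_rc_4_2 lc_a_rc_4_0 lc_a_rc_2_0 lc_a_rc_3_2 lc_a_rc_4_2 lc_a_rc_0_1 lc_a_rc_4_0 lc_a_rc_2_2 lc_a_rc_1_4 lc_a_rc_2_2 lc_a_rc_2_0 lc_a_rc_1_0 lc_a_rc_5_2 lc_a_rc_3_2 lc_a_rc_1_2 lc_a_rc_4_2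 lc_a_rc_5_0 lc_a_rc_1_0 lc_a_rc_3_2 lc_a_rc_4_2 lc_a_rc_1_2 lc_a_rc_4_2 lc_a_rc_2_2 lc_a_rc_4_2 lc_a_rc_21_0 lc_a_rc_3_2 lc_a_rc_5_2 lc_a_rc_2_0 lc_a_rc_0_1 lc_a_rc_4_2 lc_a_rc_4_2 lc_a_rc_3_0 lc_a_rc_0_1 lc_a_rc_2_2 lc_a_rc_0_1 lc_a_rc_3_2 lc_a_rc_0_1 lc_a_rc_0_1) (@D3.rec (fun _ => (Cert rels S Gen.a)) lc_a_rc_21_0 lc_a_rc_0_1 lc_a_rc_2_2 lc_a_Cert_tree lc_a_rc_2_2 lc_a_rc_2_2 lc_a_rc_1_2 lc_a_rc_4_2 lc_a_rc_0_1 lc_a_rc_4_2 lc_a_rc_3_0 lc_a_rc_3_2 lc_a_rc_2_0 lc_a_rc_5_0 lc_a_rc_21_0 lc_a_rc_22_0 lc_a_rc_1_2 lc_a_rc_4_2 lc_a_rc_4_2 lc_a_rc_3_2 lc_a_rc_3_0 lc_a_rc_0_1 lc_a_rc_2_2 lc_a_rc_2_0 lc_a_rc_1_0 lc_a_rc_2_2 lc_a_rc_1_4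 lc_a_rc_4_2 lc_a_Cert_tree lc_a_rc_1_0 lc_a_rc_21_0 lc_a_rc_0_1 lc_a_rc_1_4 lc_a_rc_4_2 lc_a_rc_0_1 lc_a_rc_2_2 lc_a_rc_3_2 lc_a_rc_0_1 lc_a_rc_0_1 lc_a_rc_21_0 lc_a_rc_4_2 lc_a_rc_2_2 lc_a_rc_2_2 lc_a_rc_21_0 lc_a_rc_4_2 lc_a_Cert_tree lc_a_rc_21_0 lc_a_rc_1_2 lc_a_rc_3_2 lc_a_rc_1_2 lc_a_rc_2_0 lc_a_rc_5_0 lc_a_rc_0_1 lc_a_rc_5_2 lc_a_rc_3_0 lc_a_rc_1_0 lc_a_rc_1_2 lc_a_rc_0_1 lc_a_rc_3_0 lc_a_rc_2_2 lc_a_rc_1_2 lc_a_rc_21_0) (@D3.rec (fun _ => (Cert rels S Gen.a)) lc_a_rc_3_2 lc_a_rc_4_2 lc_a_rc_4_2 lc_a_rc_4_2 lc_a_rc_2_2 lc_a_rc_0_1 lc_a_rc_3_0 lc_a_rc_0_1 lc_a_rc_3_0 lc_a_rc_4_2 lc_a_rc_5_2 lc_a_rc_0_1 lc_a_rc_3_2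 lc_a_rc_3_0 lc_a_rc_5_0 lc_a_rc_21_0 lc_a_rc_3_2 lc_a_rc_2_2 lc_a_rc_2_2 lc_a_rc_21_0 lc_a_rc_3_0 lc_a_rc_3_2 lc_a_rc_5_2 lc_a_rc_21_0 lc_a_rc_21_0 lc_a_rc_2_0 lc_a_rc_3_2 lc_a_rc_5_0 lc_a_rc_0_1 lc_a_rc_2_0 lc_a_rc_22_0 lc_a_rc_2_2 lc_a_rc_4_2 lc_a_rc_0_1 lc_a_rc_4_2 lc_a_rc_4_2 lc_a_rc_1_4 lc_a_rc_2_2 lc_a_rc_2_2 lc_a_rc_3_2 lc_a_rc_4_2 lc_a_rc_3_2 lc_a_rc_0_1 lc_a_rc_3_2 lc_a_rc_21_0 lc_a_rc_2_2 lc_a_rc_22_0 lc_a_rc_2_2 lc_a_rc_1_0 lc_a_rc_0_1 lc_a_rc_2_2 lc_a_rc_1_2 lc_a_rc_5_0 lc_a_rc_0_1 lc_a_rc_3_2 lc_a_rc_5_2 lc_a_rc_4_2 lc_a_rc_3_2 lc_a_rc_3_2 lc_a_rc_3_2 lc_a_rc_5_2 lc_a_rc_1_4) (@D3.rec (fun _ => (Cert rels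 S Gen.a)) lc_a_rc_3_2 lc_a_rc_4_2 lc_a_rc_5_2 lc_a_rc_2_2 lc_a_rc_2_0 lc_a_rc_4_2 lc_a_rc_2_2 lc_a_rc_2_0 lc_a_rc_4_2 lc_a_rc_4_2 lc_a_rc_4_2 lc_a_rc_21_0 lc_a_rc_3_2 lc_a_rc_3_2 lc_a_rc_3_2 lc_a_rc_1_0 lc_a_rc_1_0 lc_a_rc_0_1 lc_a_rc_3_2 lc_a_rc_0_1 lc_a_rc_2_2 lc_a_rc_4_2 lc_a_rc_4_2 lc_a_rc_3_2 lc_a_rc_2_2 lc_a_rc_4_2 lc_a_rc_3_2 lc_a_rc_2_2 lc_a_rc_4_2 lc_a_rc_3_2 lc_a_rc_4_2 lc_a_rc_1_0 lc_a_rc_0_1 lc_a_rc_2_2 lc_a_rc_0_1 lc_a_rc_3_2 lc_a_rc_0_1 lc_a_rc_1_2 lc_a_rc_3_2 lc_a_rc_4_2 lc_a_rc_2_2 lc_a_rc_2_2 lc_a_rc_3_0 lc_a_rc_3_2 lc_a_rc_2_0 lc_a_rc_4_0 lc_a_rc_0_1 lc_a_rc_4_0 lc_a_rc_0_1 lc_a_rc_3_2 lc_a_rc_4_2 lc_a_rc_3_2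 lc_a_rc_4_2 lc_a_rc_0_1 lc_a_rc_4_0 lc_a_rc_3_2 lc_a_rc_1_2 lc_a_rc_3_2 lc_a_rc_5_0 lc_a_rc_3_2 lc_a_rc_3_2 lc_a_rc_5_2) (@D3.rec (fun _ => (Cert rels S Gen.a)) lc_a_rc_0_1 lc_a_rc_2_2 lc_a_rc_2_0 lc_a_rc_1_2 lc_a_rc_22_0 lc_a_rc_2_2 lc_a_rc_4_0 lc_a_rc_1_4 lc_a_rc_22_0 lc_a_rc_0_1 lc_a_rc_2_2 lc_a_rc_0_1 lc_a_rc_21_0 lc_a_rc_4_0 lc_a_rc_3_0 lc_a_rc_22_0 lc_a_rc_21_0 lc_a_rc_3_2 lc_a_rc_3_2 lc_a_rc_21_0 lc_a_rc_3_2 lc_a_rc_2_0 lc_a_rc_3_2 lc_a_Cert_tree lc_a_Cert_tree lc_a_rc_3_2 lc_a_rc_2_0 lc_a_rc_22_0 lc_a_rc_3_0 lc_a_rc_2_2 lc_a_rc_2_2 lc_a_rc_0_1 lc_a_rc_3_2 lc_a_rc_3_2 lc_a_rc_5_0 lc_a_rc_0_1 lc_a_rc_1_4 lc_a_rc_1_0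 lc_a_rc_4_2 lc_a_rc_21_0 lc_a_rc_1_4 lc_a_rc_3_2 lc_a_rc_3_0 lc_a_rc_1_4 lc_a_rc_22_0 lc_a_rc_1_4 lc_a_rc_2_2 lc_a_rc_21_0 lc_a_rc_3_2 lc_a_rc_1_0 lc_a_rc_21_0 lc_a_rc_2_2 lc_a_rc_3_2 lc_a_rc_4_2 lc_a_rc_21_0 lc_a_rc_21_0 lc_a_rc_3_0 lc_a_rc_0_1 lc_a_rc_3_2 lc_a_rc_3_2 lc_a_rc_0_1 lc_a_rc_3_0) (@D3.rec (fun _ => (Cert rels S Gen.a)) lc_a_rc_0_1 lc_a_rc_21_0 lc_a_rc_4_2 lc_a_rc_0_1 lc_a_rc_3_2 lc_a_rc_2_2 lc_a_rc_2_2 lc_a_rc_3_0 lc_a_rc_2_2 lc_a_rc_3_2 lc_a_rc_2_2 lc_a_rc_3_2 lc_a_rc_1_2 lc_a_rc_1_4 lc_a_rc_21_0 lc_a_rc_3_2 lc_a_rc_3_2 lc_a_rc_3_2 lc_a_rc_4_2 lc_a_rc_1_2 lc_a_rc_2_2 lc_a_rc_3_2 lc_a_rc_2_0 lc_a_rc_4_0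 lc_a_rc_2_0 lc_a_rc_3_2 lc_a_rc_3_2 lc_a_rc_3_2 lc_a_rc_2_2 lc_a_rc_4_2 lc_a_rc_3_2 lc_a_rc_2_0 lc_a_rc_1_0 lc_a_rc_0_1 lc_a_rc_3_2 lc_a_rc_3_2 lc_a_rc_3_0 lc_a_rc_1_4 lc_a_rc_1_0 lc_a_rc_4_2 lc_a_rc_2_2 lc_a_rc_2_2 lc_a_rc_4_2 lc_a_rc_4_2 lc_a_Cert_tree lc_a_rc_3_0 lc_a_rc_3_0 lc_a_rc_0_1 lc_a_rc_3_0 lc_a_rc_21_0 lc_a_rc_3_0 lc_a_rc_3_2 lc_a_rc_0_1 lc_a_rc_4_0 lc_a_Cert_tree lc_a_rc_0_1 lc_a_rc_4_2 lc_a_rc_5_2 lc_a_rc_3_2 lc_a_rc_5_2 lc_a_rc_3_2 lc_a_rc_2_2)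
def ce_a_22 : D2 → D3 → (Cert rels S Gen.a) := @D2.rec (fun _ => D3 → (Cert rels S Gen.a)) (@D3.rec (fun _ => (Cert rels S Gen.a)) lc_a_rc_3_2 lc_a_rc_21_0 lc_a_rc_2_2 lc_a_rc_2_2 lc_a_rc_4_2 lc_a_rc_3_0 lc_a_rc_2_2 lc_a_rc_2_2 lc_a_rc_3_2 lc_a_rc_2_2 lc_a_rc_3_2 lc_a_rc_22_0 lc_a_rc_3_2 lc_a_rc_4_0 lc_a_rc_3_2 lc_a_rc_2_2 lc_a_rc_1_4 lc_a_rc_3_2 lc_a_rc_4_0 lc_a_rc_1_2 lc_a_rc_0_1 lc_a_rc_3_2 lc_a_rc_21_0 lc_a_rc_2_2 lc_a_rc_4_2 lc_a_rc_3_2 lc_a_rc_4_2 lc_a_rc_3_2 lc_a_rc_2_2 lc_a_rc_1_4 lc_a_rc_3_2 lc_a_rc_4_2 lc_a_rc_3_2 lc_a_rc_5_0 lc_a_rc_2_2 lc_a_rc_3_0 lc_a_rc_3_0 lc_a_rc_2_2 lc_a_rc_3_2 lc_a_rc_1_2 lc_a_rc_3_2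 lc_a_rc_5_0 lc_a_rc_2_2 lc_a_rc_4_2 lc_a_rc_2_2 lc_a_rc_4_2 lc_a_rc_1_4 lc_a_rc_2_2 lc_a_rc_2_2 lc_a_rc_0_1 lc_a_rc_5_0 lc_a_rc_2_0 lc_a_rc_22_0 lc_a_rc_2_2 lc_a_rc_2_2 lc_a_rc_22_0 lc_a_rc_3_2 lc_a_rc_0_1 lc_a_rc_21_0 lc_a_rc_3_0 lc_a_rc_3_0 lc_a_rc_2_0) (@D3.rec (fun _ => (Cert rels S Gen.a)) lc_a_rc_2_0 lc_a_rc_2_2 lc_a_rc_3_2 lc_a_rc_3_2 lc_a_rc_5_2 lc_a_rc_1_2 lc_a_rc_2_2 lc_a_rc_4_2 lc_a_rc_21_0 lc_a_rc_4_2 lc_a_rc_5_2 lc_a_rc_0_1 lc_a_rc_5_2 lc_a_rc_0_1 lc_a_rc_0_1 lc_a_rc_2_2 lc_a_rc_3_2 lc_a_rc_2_2 lc_a_rc_0_1 lc_a_rc_2_2 lc_a_rc_1_4 lc_a_rc_22_0 lc_a_rc_2_2 lc_a_rc_4_2 lc_a_rc_4_0 lc_a_rc_3_2 lc_a_rc_21_0 lc_a_rc_2_0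 lc_a_rc_2_2 lc_a_rc_2_2 lc_a_rc_2_0 lc_a_rc_4_2 lc_a_Cert_tree lc_a_rc_0_1 lc_a_rc_0_1 lc_a_rc_3_2 lc_a_rc_21_0 lc_a_rc_4_2 lc_a_rc_4_2 lc_a_rc_1_2 lc_a_rc_3_2 lc_a_rc_2_2 lc_a_rc_0_1 lc_a_rc_4_2 lc_a_rc_4_2 lc_a_rc_4_2 lc_a_rc_3_2 lc_a_rc_4_0 lc_a_rc_2_0 lc_a_rc_2_0 lc_a_rc_0_1 lc_a_rc_22_0 lc_a_rc_21_0 lc_a_rc_4_2 lc_a_rc_3_2 lc_a_rc_3_0 lc_a_rc_0_1 lc_a_rc_0_1 lc_a_rc_1_4 lc_a_rc_3_0 lc_a_rc_3_0 lc_a_rc_21_0) (@D3.rec (fun _ => (Cert rels S Gen.a)) lc_a_rc_3_2 lc_a_rc_2_0 lc_a_rc_2_0 lc_a_rc_0_1 lc_a_rc_3_2 lc_a_rc_3_0 lc_a_rc_2_0 lc_a_rc_4_0 lc_a_rc_3_0 lc_a_rc_4_2 lc_a_rc_0_1 lc_a_rc_3_0 lc_a_rc_0_1 lc_a_rc_3_2 lc_a_rc_2_2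 lc_a_rc_4_2 lc_a_rc_3_2 lc_a_rc_2_2 lc_a_rc_2_0 lc_a_rc_4_0 lc_a_rc_21_0 lc_a_rc_4_0 lc_a_rc_2_0 lc_a_rc_4_2 lc_a_rc_1_0 lc_a_Cert_tree lc_a_rc_4_2 lc_a_rc_2_2 lc_a_rc_2_2 lc_a_rc_3_2 lc_a_rc_0_1 lc_a_rc_1_4 lc_a_rc_3_2 lc_a_rc_0_1 lc_a_rc_2_2 lc_a_rc_2_0 lc_a_rc_2_2 lc_a_rc_0_1 lc_a_rc_2_0 lc_a_rc_21_0 lc_a_rc_0_1 lc_a_rc_1_4 lc_a_rc_3_0 lc_a_rc_2_0 lc_a_rc_4_2 lc_a_rc_2_0 lc_a_rc_0_1 lc_a_rc_3_2 lc_a_rc_4_0 lc_a_rc_0_1 lc_a_rc_4_2 lc_a_rc_2_2 lc_a_rc_2_2 lc_a_rc_3_2 lc_a_rc_4_2 lc_a_rc_4_0 lc_a_rc_3_0 lc_a_rc_3_2 lc_a_rc_2_2 lc_a_rc_3_0 lc_a_rc_3_0 lc_a_rc_2_2) (@D3.rec (fun _ => (Cert rels S Gen.a)) lc_a_rc_3_2 lc_a_rc_2_2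 lc_a_rc_1_4 lc_a_rc_3_2 lc_a_rc_2_2 lc_a_rc_2_2 lc_a_rc_3_0 lc_a_rc_3_0 lc_a_rc_0_1 lc_a_rc_3_0 lc_a_rc_3_2 lc_a_rc_21_0 lc_a_rc_3_2 lc_a_rc_4_2 lc_a_rc_2_0 lc_a_rc_5_2 lc_a_rc_4_2 lc_a_rc_1_4 lc_a_rc_2_2 lc_a_rc_5_2 lc_a_rc_2_0 lc_a_rc_2_2 lc_a_rc_3_2 lc_a_rc_3_0 lc_a_rc_2_2 lc_a_rc_2_2 lc_a_rc_22_0 lc_a_rc_21_0 lc_a_rc_1_2 lc_a_rc_2_2 lc_a_rc_4_2 lc_a_rc_4_2 lc_a_rc_1_2 lc_a_rc_22_0 lc_a_rc_5_2 lc_a_rc_3_2 lc_a_rc_3_2 lc_a_rc_21_0 lc_a_rc_3_2 lc_a_rc_3_0 lc_a_rc_3_2 lc_a_rc_2_2 lc_a_rc_3_2 lc_a_rc_21_0 lc_a_rc_2_2 lc_a_rc_4_2 lc_a_rc_1_4 lc_a_rc_3_2 lc_a_rc_0_1 lc_a_rc_3_2 lc_a_rc_3_0 lc_a_rc_22_0 lc_a_rc_0_1 lc_a_rc_2_2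 lc_a_rc_21_0 lc_a_rc_0_1 lc_a_rc_4_2 lc_a_rc_1_4 lc_a_rc_2_2 lc_a_rc_2_2 lc_a_rc_3_2 lc_a_rc_1_4) (@D3.rec (fun _ => (Cert rels S Gen.a)) lc_a_rc_4_2 lc_a_rc_4_2 lc_a_rc_3_0 lc_a_rc_3_2 lc_a_rc_2_2 lc_a_rc_2_2 lc_a_rc_5_2 lc_a_rc_3_0 lc_a_rc_4_2 lc_a_rc_4_2 lc_a_rc_21_0 lc_a_rc_1_0 lc_a_Cert_tree lc_a_rc_3_0 lc_a_rc_4_2 lc_a_rc_4_2 lc_a_rc_3_2 lc_a_rc_1_4 lc_a_rc_3_0 lc_a_rc_4_2 lc_a_rc_4_2 lc_a_rc_4_2 lc_a_rc_21_0 lc_a_rc_2_0 lc_a_rc_5_2 lc_a_rc_2_2 lc_a_rc_3_2 lc_a_rc_1_2 lc_a_rc_3_2 lc_a_rc_4_2 lc_a_rc_21_0 lc_a_rc_0_1 lc_a_rc_2_2 lc_a_rc_3_2 lc_a_rc_0_1 lc_a_rc_3_2 lc_a_rc_21_0 lc_a_rc_0_1 lc_a_rc_3_2 lc_a_rc_2_2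 lc_a_rc_4_2 lc_a_rc_0_1 lc_a_rc_3_2 lc_a_rc_2_2 lc_a_rc_2_2 lc_a_rc_0_1 lc_a_rc_3_2 lc_a_rc_5_2 lc_a_rc_1_4 lc_a_rc_3_2 lc_a_rc_2_2 lc_a_rc_0_1 lc_a_rc_4_0 lc_a_rc_3_0 lc_a_rc_21_0 lc_a_rc_3_2 lc_a_rc_21_0 lc_a_rc_1_0 lc_a_rc_2_2 lc_a_Cert_tree lc_a_rc_3_0 lc_a_rc_2_2) (@D3.rec (fun _ => (Cert rels S Gen.a)) lc_a_rc_3_2 lc_a_rc_1_4 lc_a_rc_2_0 lc_a_rc_4_2 lc_a_rc_21_0 lc_a_rc_2_0 lc_a_rc_2_2 lc_a_rc_1_4 lc_a_rc_21_0 lc_a_rc_0_1 lc_a_rc_0_1 lc_a_rc_0_1 lc_a_rc_3_2 lc_a_rc_4_2 lc_a_rc_0_1 lc_a_rc_2_0 lc_a_rc_3_2 lc_a_rc_0_1 lc_a_rc_2_2 lc_a_rc_1_4 lc_a_rc_3_2 lc_a_rc_4_2 lc_a_rc_4_2 lc_a_rc_1_4 lc_a_rc_0_1 lc_a_rc_3_0 lc_a_rc_21_0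 lc_a_rc_4_2 lc_a_rc_0_1 lc_a_rc_1_4 lc_a_rc_4_2 lc_a_rc_0_1 lc_a_rc_4_2 lc_a_rc_2_0 lc_a_rc_2_0 lc_a_rc_0_1 lc_a_rc_21_0 lc_a_rc_0_1 lc_a_rc_3_2 lc_a_rc_3_2 lc_a_rc_21_0 lc_a_rc_2_0 lc_a_rc_3_2 lc_a_rc_3_2 lc_a_rc_3_2 lc_a_rc_3_2 lc_a_rc_4_2 lc_a_rc_5_2 lc_a_rc_3_2 lc_a_rc_2_0 lc_a_rc_0_1 lc_a_rc_0_1 lc_a_rc_4_0 lc_a_rc_4_2 lc_a_rc_21_0 lc_a_rc_4_0 lc_a_rc_0_1 lc_a_rc_2_2 lc_a_rc_3_2 lc_a_rc_4_2 lc_a_rc_0_1 lc_a_rc_3_0) (@D3.rec (fun _ => (Cert rels S Gen.a)) lc_a_rc_2_0 lc_a_rc_21_0 lc_a_rc_4_0 lc_a_rc_2_2 lc_a_rc_0_1 lc_a_rc_3_2 lc_a_rc_0_1 lc_a_rc_3_2 lc_a_rc_4_2 lc_a_rc_4_2 lc_a_rc_3_0 lc_a_rc_2_0 lc_a_rc_0_1 lc_a_rc_22_0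 lc_a_rc_4_2 lc_a_rc_3_2 lc_a_rc_3_2 lc_a_rc_5_0 lc_a_rc_1_2 lc_a_rc_2_0 lc_a_rc_0_1 lc_a_rc_0_1 lc_a_rc_0_1 lc_a_rc_2_2 lc_a_rc_22_0 lc_a_rc_0_1 lc_a_rc_2_0 lc_a_rc_2_2 lc_a_rc_0_1 lc_a_rc_3_2 lc_a_rc_2_2 lc_a_rc_3_2 lc_a_rc_2_2 lc_a_rc_3_2 lc_a_rc_4_0 lc_a_rc_5_0 lc_a_rc_3_2 lc_a_rc_3_2 lc_a_rc_5_2 lc_a_rc_2_2 lc_a_rc_2_2 lc_a_rc_2_2 lc_a_rc_4_2 lc_a_rc_3_2 lc_a_rc_2_0 lc_a_rc_2_2 lc_a_rc_2_2 lc_a_rc_3_0 lc_a_rc_0_1 lc_a_rc_2_0 lc_a_rc_0_1 lc_a_rc_3_2 lc_a_rc_22_0 lc_a_rc_2_0 lc_a_rc_3_2 lc_a_rc_5_0 lc_a_rc_2_2 lc_a_rc_0_1 lc_a_rc_2_0 lc_a_rc_4_2 lc_a_rc_4_2 lc_a_rc_4_2) (@D3.rec (fun _ => (Cert rels S Gen.a)) lc_a_rc_4_0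 lc_a_rc_2_2 lc_a_Cert_tree lc_a_rc_4_2 lc_a_rc_21_0 lc_a_rc_4_2 lc_a_rc_3_2 lc_a_rc_21_0 lc_a_rc_0_1 lc_a_rc_5_2 lc_a_rc_1_4 lc_a_rc_0_1 lc_a_rc_4_2 lc_a_rc_4_0 lc_a_rc_2_2 lc_a_rc_5_2 lc_a_rc_3_0 lc_a_rc_3_2 lc_a_rc_2_2 lc_a_rc_4_2 lc_a_rc_3_2 lc_a_Cert_tree lc_a_rc_3_2 lc_a_rc_5_2 lc_a_rc_0_1 lc_a_rc_2_2 lc_a_rc_4_0 lc_a_rc_3_0 lc_a_rc_5_2 lc_a_rc_3_2 lc_a_rc_4_2 lc_a_rc_3_0 lc_a_rc_2_2 lc_a_rc_2_2 lc_a_rc_3_0 lc_a_rc_2_2 lc_a_rc_1_2 lc_a_rc_3_2 lc_a_rc_3_2 lc_a_rc_2_0 lc_a_rc_3_0 lc_a_rc_0_1 lc_a_rc_3_0 lc_a_rc_2_2 lc_a_rc_0_1 lc_a_rc_3_2 lc_a_rc_3_2 lc_a_rc_5_0 lc_a_rc_2_2 lc_a_rc_0_1 lc_a_rc_3_2 lc_a_rc_22_0 lc_a_rc_2_2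 lc_a_rc_3_2 lc_a_rc_21_0 lc_a_rc_21_0 lc_a_rc_0_1 lc_a_rc_3_2 lc_a_rc_4_2 lc_a_rc_21_0 lc_a_rc_5_0 lc_a_rc_2_2) (@D3.rec (fun _ => (Cert rels S Gen.a)) lc_a_rc_5_2 lc_a_rc_2_2 lc_a_rc_1_4 lc_a_rc_2_2 lc_a_rc_2_2 lc_a_rc_2_2 lc_a_rc_1_4 lc_a_rc_5_2 lc_a_rc_2_2 lc_a_rc_3_2 lc_a_rc_22_0 lc_a_rc_2_2 lc_a_rc_4_2 lc_a_rc_2_0 lc_a_rc_2_0 lc_a_rc_1_0 lc_a_rc_4_2 lc_a_rc_2_2 lc_a_rc_4_2 lc_a_rc_3_0 lc_a_rc_4_2 lc_a_rc_0_1 lc_a_rc_3_0 lc_a_rc_0_1 lc_a_rc_1_4 lc_a_rc_0_1 lc_a_rc_3_0 lc_a_rc_2_2 lc_a_rc_2_2 lc_a_rc_0_1 lc_a_rc_3_2 lc_a_rc_1_0 lc_a_rc_4_2 lc_a_rc_2_2 lc_a_rc_3_0 lc_a_rc_4_2 lc_a_rc_3_0 lc_a_rc_0_1 lc_a_rc_0_1 lc_a_rc_2_2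 lc_a_rc_1_0 lc_a_rc_2_0 lc_a_rc_2_0 lc_a_rc_5_2 lc_a_rc_3_2 lc_a_rc_0_1 lc_a_rc_3_0 lc_a_rc_4_2 lc_a_rc_1_2 lc_a_rc_1_4 lc_a_rc_3_2 lc_a_rc_1_0 lc_a_rc_5_0 lc_a_rc_5_0 lc_a_rc_4_0 lc_a_rc_5_2 lc_a_rc_5_2 lc_a_rc_2_0 lc_a_rc_21_0 lc_a_rc_2_2 lc_a_rc_0_1 lc_a_rc_2_2) (@D3.rec (fun _ => (Cert rels S Gen.a)) lc_a_rc_4_2 lc_a_rc_21_0 lc_a_rc_22_0 lc_a_rc_5_0 lc_a_rc_0_1 lc_a_rc_21_0 lc_a_rc_0_1 lc_a_rc_0_1 lc_a_rc_2_2 lc_a_rc_4_2 lc_a_rc_3_2 lc_a_rc_22_0 lc_a_rc_2_2 lc_a_rc_1_4 lc_a_rc_0_1 lc_a_rc_1_0 lc_a_rc_21_0 lc_a_rc_3_2 lc_a_rc_3_2 lc_a_rc_4_2 lc_a_rc_3_2 lc_a_rc_5_0 lc_a_rc_2_2 lc_a_rc_4_2 lc_a_rc_3_2 lc_a_rc_3_2 lc_a_rc_22_0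 lc_a_rc_2_0 lc_a_rc_21_0 lc_a_rc_0_1 lc_a_rc_22_0 lc_a_rc_0_1 lc_a_rc_2_2 lc_a_rc_1_4 lc_a_rc_2_2 lc_a_rc_2_2 lc_a_rc_0_1 lc_a_rc_21_0 lc_a_rc_21_0 lc_a_rc_3_2 lc_a_rc_3_2 lc_a_rc_0_1 lc_a_rc_1_2 lc_a_rc_22_0 lc_a_rc_4_2 lc_a_rc_3_2 lc_a_rc_3_2 lc_a_rc_4_0 lc_a_rc_4_2 lc_a_rc_0_1 lc_a_rc_2_2 lc_a_rc_3_2 lc_a_rc_3_2 lc_a_rc_4_2 lc_a_rc_3_2 lc_a_rc_1_4 lc_a_rc_2_2 lc_a_Cert_tree lc_a_rc_2_2 lc_a_rc_3_2 lc_a_rc_0_1 lc_a_rc_0_1) (@D3.rec (fun _ => (Cert rels S Gen.a)) lc_a_rc_21_0 lc_a_rc_2_2 lc_a_rc_1_4 lc_a_rc_4_2 lc_a_rc_3_2 lc_a_rc_4_2 lc_a_rc_1_2 lc_a_rc_4_0 lc_a_rc_3_2 lc_a_rc_3_2 lc_a_rc_1_4 lc_a_rc_2_2 lc_a_rc_21_0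 lc_a_rc_3_2 lc_a_rc_0_1 lc_a_rc_0_1 lc_a_rc_2_0 lc_a_rc_3_2 lc_a_rc_3_2 lc_a_rc_3_2 lc_a_rc_22_0 lc_a_rc_4_2 lc_a_rc_4_0 lc_a_rc_1_0 lc_a_rc_2_0 lc_a_rc_22_0 lc_a_rc_2_2 lc_a_Cert_tree lc_a_rc_21_0 lc_a_rc_4_2 lc_a_rc_3_2 lc_a_rc_4_0 lc_a_rc_2_2 lc_a_rc_2_2 lc_a_rc_0_1 lc_a_rc_4_2 lc_a_rc_2_2 lc_a_rc_2_2 lc_a_rc_22_0 lc_a_rc_3_2 lc_a_rc_4_2 lc_a_rc_1_0 lc_a_rc_0_1 lc_a_rc_4_2 lc_a_rc_4_0 lc_a_rc_5_2 lc_a_rc_3_0 lc_a_rc_3_0 lc_a_rc_0_1 lc_a_rc_3_2 lc_a_rc_3_2 lc_a_rc_2_2 lc_a_rc_3_2 lc_a_rc_5_0 lc_a_rc_1_4 lc_a_rc_4_0 lc_a_rc_5_2 lc_a_rc_2_2 lc_a_rc_3_2 lc_a_rc_3_2 lc_a_rc_3_2 lc_a_rc_3_2) (@D3.rec (fun _ => (Cert rels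 S Gen.a)) lc_a_rc_1_2 lc_a_rc_21_0 lc_a_rc_1_4 lc_a_rc_1_4 lc_a_rc_4_2 lc_a_rc_4_2 lc_a_rc_5_2 lc_a_rc_3_0 lc_a_rc_3_2 lc_a_rc_1_4 lc_a_rc_21_0 lc_a_rc_3_2 lc_a_rc_1_2 lc_a_rc_3_0 lc_a_rc_0_1 lc_a_rc_1_4 lc_a_rc_2_2 lc_a_rc_0_1 lc_a_rc_4_2 lc_a_rc_3_2 lc_a_rc_3_2 lc_a_rc_2_2 lc_a_rc_0_1 lc_a_rc_5_0 lc_a_rc_3_2 lc_a_rc_3_2 lc_a_rc_0_1 lc_a_rc_0_1 lc_a_rc_1_4 lc_a_rc_3_0 lc_a_rc_2_2 lc_a_rc_4_2 lc_a_rc_5_2 lc_a_rc_1_4 lc_a_rc_1_4 lc_a_rc_1_2 lc_a_rc_4_2 lc_a_rc_0_1 lc_a_rc_4_2 lc_a_rc_21_0 lc_a_rc_3_2 lc_a_rc_0_1 lc_a_rc_2_2 lc_a_rc_3_0 lc_a_rc_3_2 lc_a_rc_0_1 lc_a_rc_5_0 lc_a_rc_0_1 lc_a_rc_0_1 lc_a_rc_21_0 lc_a_rc_0_1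 lc_a_rc_4_2 lc_a_rc_21_0 lc_a_rc_2_2 lc_a_rc_3_2 lc_a_rc_2_2 lc_a_rc_4_2 lc_a_rc_2_2 lc_a_rc_1_4 lc_a_rc_3_2 lc_a_rc_4_2 lc_a_rc_22_0) (@D3.rec (fun _ => (Cert rels S Gen.a)) lc_a_rc_0_1 lc_a_rc_3_2 lc_a_rc_2_0 lc_a_rc_4_0 lc_a_rc_3_2 lc_a_rc_5_2 lc_a_rc_4_2 lc_a_rc_4_0 lc_a_rc_0_1 lc_a_rc_2_2 lc_a_rc_0_1 lc_a_rc_4_0 lc_a_rc_3_2 lc_a_rc_5_0 lc_a_rc_22_0 lc_a_rc_0_1 lc_a_rc_21_0 lc_a_rc_5_2 lc_a_rc_0_1 lc_a_rc_3_2 lc_a_rc_3_2 lc_a_rc_1_0 lc_a_rc_2_2 lc_a_rc_1_4 lc_a_rc_4_2 lc_a_rc_0_1 lc_a_rc_5_2 lc_a_rc_4_2 lc_a_rc_21_0 lc_a_rc_4_2 lc_a_rc_2_0 lc_a_rc_5_0 lc_a_rc_3_2 lc_a_rc_2_2 lc_a_rc_5_2 lc_a_rc_2_2 lc_a_rc_2_2 lc_a_rc_0_1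 lc_a_rc_3_2 lc_a_rc_2_2 lc_a_Cert_tree lc_a_rc_22_0 lc_a_rc_4_2 lc_a_rc_2_2 lc_a_rc_2_2 lc_a_rc_3_2 lc_a_rc_4_2 lc_a_rc_2_2 lc_a_rc_3_2 lc_a_rc_3_2 lc_a_rc_4_2 lc_a_rc_5_2 lc_a_rc_2_2 lc_a_rc_4_2 lc_a_rc_2_2 lc_a_rc_4_2 lc_a_rc_3_2 lc_a_rc_3_2 lc_a_rc_4_2 lc_a_Cert_tree lc_a_rc_21_0 lc_a_rc_2_2) (@D3.rec (fun _ => (Cert rels S Gen.a)) lc_a_rc_4_2 lc_a_rc_0_1 lc_a_rc_3_2 lc_a_rc_4_2 lc_a_rc_4_0 lc_a_rc_1_2 lc_a_rc_1_4 lc_a_rc_3_2 lc_a_rc_4_2 lc_a_rc_0_1 lc_a_rc_2_0 lc_a_Cert_tree lc_a_rc_3_2 lc_a_rc_21_0 lc_a_rc_3_2 lc_a_rc_3_2 lc_a_rc_4_2 lc_a_rc_3_2 lc_a_rc_5_0 lc_a_rc_2_2 lc_a_rc_4_2 lc_a_rc_4_2 lc_a_rc_1_2 lc_a_rc_0_1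 lc_a_rc_4_2 lc_a_rc_0_1 lc_a_rc_2_2 lc_a_Cert_tree lc_a_rc_4_2 lc_a_rc_4_0 lc_a_rc_1_2 lc_a_rc_5_2 lc_a_rc_3_2 lc_a_rc_3_2 lc_a_rc_5_0 lc_a_rc_3_2 lc_a_rc_2_2 lc_a_rc_0_1 lc_a_rc_0_1 lc_a_rc_3_2 lc_a_rc_0_1 lc_a_rc_2_2 lc_a_rc_4_2 lc_a_rc_0_1 lc_a_Cert_tree lc_a_rc_4_2 lc_a_rc_3_0 lc_a_rc_3_2 lc_a_rc_0_1 lc_a_rc_21_0 lc_a_rc_4_2 lc_a_Cert_tree lc_a_rc_5_0 lc_a_Cert_tree lc_a_Cert_tree lc_a_rc_0_1 lc_a_rc_0_1 lc_a_rc_3_2 lc_a_rc_21_0 lc_a_rc_4_2 lc_a_rc_4_2 lc_a_rc_3_2) (@D3.rec (fun _ => (Cert rels S Gen.a)) lc_a_rc_21_0 lc_a_rc_4_2 lc_a_rc_3_2 lc_a_rc_3_2 lc_a_rc_4_2 lc_a_rc_3_2 lc_a_rc_3_0 lc_a_rc_2_2 lc_a_rc_3_0 lc_a_rc_4_2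 lc_a_rc_21_0 lc_a_rc_4_2 lc_a_rc_5_0 lc_a_rc_2_2 lc_a_rc_4_2 lc_a_Cert_tree lc_a_rc_4_2 lc_a_rc_2_0 lc_a_rc_4_2 lc_a_rc_3_2 lc_a_rc_5_2 lc_a_rc_1_2 lc_a_Cert_tree lc_a_rc_21_0 lc_a_rc_0_1 lc_a_rc_2_2 lc_a_rc_4_2 lc_a_rc_4_0 lc_a_rc_4_0 lc_a_rc_0_1 lc_a_rc_2_0 lc_a_rc_4_2 lc_a_rc_4_2 lc_a_rc_0_1 lc_a_rc_2_2 lc_a_Cert_tree lc_a_rc_4_2 lc_a_Cert_tree lc_a_rc_2_2 lc_a_rc_22_0 lc_a_rc_1_2 lc_a_rc_4_0 lc_a_rc_2_0 lc_a_rc_1_4 lc_a_rc_3_2 lc_a_rc_3_0 lc_a_rc_1_0 lc_a_rc_5_2 lc_a_rc_21_0 lc_a_rc_0_1 lc_a_rc_0_1 lc_a_rc_2_2 lc_a_rc_4_2 lc_a_rc_3_2 lc_a_rc_2_2 lc_a_rc_4_2 lc_a_rc_2_2 lc_a_rc_4_2 lc_a_rc_2_2 lc_a_rc_3_2 lc_a_rc_3_2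 lc_a_rc_1_2) (@D3.rec (fun _ => (Cert rels S Gen.a)) lc_a_rc_2_2 lc_a_rc_5_2 lc_a_rc_4_2 lc_a_rc_4_2 lc_a_rc_1_2 lc_a_rc_3_2 lc_a_rc_0_1 lc_a_rc_5_2 lc_a_rc_3_2 lc_a_rc_1_2 lc_a_rc_0_1 lc_a_rc_2_2 lc_a_rc_21_0 lc_a_rc_4_2 lc_a_rc_3_2 lc_a_rc_1_0 lc_a_rc_3_0 lc_a_rc_3_0 lc_a_rc_4_0 lc_a_rc_2_0 lc_a_rc_3_0 lc_a_rc_2_2 lc_a_rc_3_0 lc_a_rc_2_2 lc_a_rc_1_4 lc_a_rc_2_2 lc_a_rc_5_0 lc_a_rc_4_2 lc_a_rc_0_1 lc_a_rc_3_2 lc_a_rc_0_1 lc_a_rc_21_0 lc_a_rc_21_0 lc_a_rc_5_0 lc_a_rc_3_2 lc_a_rc_2_2 lc_a_rc_0_1 lc_a_rc_1_4 lc_a_rc_3_2 lc_a_rc_4_0 lc_a_rc_3_2 lc_a_rc_5_2 lc_a_rc_3_2 lc_a_rc_2_2 lc_a_rc_0_1 lc_a_rc_3_2 lc_a_rc_2_2 lc_a_rc_1_2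 lc_a_rc_4_0 lc_a_rc_3_2 lc_a_rc_5_2 lc_a_rc_2_2 lc_a_rc_3_2 lc_a_rc_3_2 lc_a_rc_21_0 lc_a_rc_1_4 lc_a_rc_3_2 lc_a_rc_0_1 lc_a_rc_3_2 lc_a_rc_3_0 lc_a_rc_21_0 lc_a_rc_3_2) (@D3.rec (fun _ => (Cert rels S Gen.a)) lc_a_rc_21_0 lc_a_rc_5_0 lc_a_rc_3_2 lc_a_rc_2_2 lc_a_rc_0_1 lc_a_rc_4_2 lc_a_rc_21_0 lc_a_rc_1_2 lc_a_rc_22_0 lc_a_rc_0_1 lc_a_rc_2_2 lc_a_rc_1_0 lc_a_rc_5_2 lc_a_rc_5_2 lc_a_rc_5_2 lc_a_rc_3_2 lc_a_rc_3_2 lc_a_rc_5_0 lc_a_rc_0_1 lc_a_rc_2_2 lc_a_rc_5_2 lc_a_rc_3_0 lc_a_rc_2_2 lc_a_rc_21_0 lc_a_rc_0_1 lc_a_rc_4_2 lc_a_rc_3_2 lc_a_rc_3_2 lc_a_rc_21_0 lc_a_rc_3_2 lc_a_rc_21_0 lc_a_rc_0_1 lc_a_rc_4_2 lc_a_rc_2_2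 lc_a_rc_2_2 lc_a_rc_4_0 lc_a_rc_5_2 lc_a_rc_21_0 lc_a_rc_3_2 lc_a_rc_2_2 lc_a_rc_4_2 lc_a_rc_1_0 lc_a_rc_2_0 lc_a_rc_1_4 lc_a_rc_2_2 lc_a_rc_4_2 lc_a_rc_3_0 lc_a_rc_2_0 lc_a_rc_0_1 lc_a_rc_2_2 lc_a_rc_2_2 lc_a_rc_2_0 lc_a_rc_2_2 lc_a_rc_4_2 lc_a_rc_1_2 lc_a_rc_3_2 lc_a_rc_3_2 lc_a_rc_3_2 lc_a_rc_21_0 lc_a_rc_4_2 lc_a_rc_0_1 lc_a_rc_21_0) (@D3.rec (fun _ => (Cert rels S Gen.a)) lc_a_rc_21_0 lc_a_rc_4_2 lc_a_rc_2_2 lc_a_rc_2_0 lc_a_rc_4_2 lc_a_rc_4_0 lc_a_rc_4_2 lc_a_rc_4_2 lc_a_rc_4_2 lc_a_rc_3_2 lc_a_rc_5_2 lc_a_rc_0_1 lc_a_rc_4_2 lc_a_rc_3_2 lc_a_rc_2_2 lc_a_rc_3_0 lc_a_rc_4_0 lc_a_rc_4_2 lc_a_Cert_tree lc_a_rc_4_2 lc_a_rc_3_0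 lc_a_rc_3_0 lc_a_rc_5_2 lc_a_rc_4_2 lc_a_rc_0_1 lc_a_rc_4_0 lc_a_rc_0_1 lc_a_rc_3_2 lc_a_rc_21_0 lc_a_rc_4_2 lc_a_rc_4_2 lc_a_rc_3_2 lc_a_rc_4_2 lc_a_rc_2_2 lc_a_rc_4_2 lc_a_rc_4_2 lc_a_Cert_tree lc_a_rc_4_2 lc_a_rc_3_2 lc_a_rc_5_0 lc_a_rc_5_2 lc_a_rc_4_2 lc_a_rc_4_2 lc_a_rc_3_2 lc_a_rc_0_1 lc_a_rc_3_2 lc_a_rc_3_2 lc_a_rc_0_1 lc_a_rc_2_0 lc_a_rc_1_4 lc_a_rc_3_2 lc_a_rc_21_0 lc_a_rc_0_1 lc_a_rc_3_2 lc_a_rc_3_2 lc_a_rc_3_0 lc_a_rc_4_0 lc_a_rc_4_2 lc_a_rc_21_0 lc_a_rc_0_1 lc_a_rc_2_2 lc_a_rc_3_2) (@D3.rec (fun _ => (Cert rels S Gen.a)) lc_a_rc_21_0 lc_a_rc_1_0 lc_a_rc_21_0 lc_a_rc_5_0 lc_a_rc_2_2 lc_a_rc_1_2 lc_a_rc_2_2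 lc_a_rc_4_2 lc_a_rc_3_2 lc_a_rc_2_2 lc_a_rc_4_2 lc_a_rc_2_0 lc_a_rc_2_0 lc_a_Cert_tree lc_a_rc_2_0 lc_a_rc_3_2 lc_a_rc_3_0 lc_a_rc_4_2 lc_a_rc_21_0 lc_a_rc_22_0 lc_a_rc_3_2 lc_a_rc_3_2 lc_a_rc_2_2 lc_a_rc_2_2 lc_a_rc_1_4 lc_a_rc_0_1 lc_a_rc_2_2 lc_a_rc_4_2 lc_a_rc_3_2 lc_a_rc_3_2 lc_a_rc_5_2 lc_a_rc_5_2 lc_a_rc_21_0 lc_a_rc_3_2 lc_a_rc_4_2 lc_a_rc_3_2 lc_a_rc_22_0 lc_a_rc_5_0 lc_a_rc_4_2 lc_a_rc_21_0 lc_a_rc_4_0 lc_a_rc_5_2 lc_a_rc_2_2 lc_a_Cert_tree lc_a_rc_2_2 lc_a_rc_1_2 lc_a_rc_5_2 lc_a_rc_0_1 lc_a_rc_4_0 lc_a_rc_21_0 lc_a_rc_2_0 lc_a_rc_4_2 lc_a_rc_0_1 lc_a_rc_5_2 lc_a_rc_21_0 lc_a_rc_3_2 lc_a_rc_0_1 lc_a_rc_2_2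 lc_a_rc_4_2 lc_a_rc_0_1 lc_a_rc_5_0 lc_a_rc_5_2) (@D3.rec (fun _ => (Cert rels S Gen.a)) lc_a_rc_5_2 lc_a_rc_22_0 lc_a_rc_4_2 lc_a_rc_3_2 lc_a_rc_4_2 lc_a_rc_2_2 lc_a_rc_4_2 lc_a_rc_3_2 lc_a_rc_0_1 lc_a_rc_3_2 lc_a_rc_3_2 lc_a_rc_4_2 lc_a_rc_22_0 lc_a_rc_5_2 lc_a_rc_4_2 lc_a_rc_22_0 lc_a_rc_2_2 lc_a_rc_4_2 lc_a_rc_3_2 lc_a_rc_4_2 lc_a_rc_21_0 lc_a_rc_3_2 lc_a_rc_5_2 lc_a_rc_5_2 lc_a_rc_3_2 lc_a_rc_4_0 lc_a_rc_3_2 lc_a_rc_4_2 lc_a_Cert_tree lc_a_rc_0_1 lc_a_Cert_tree lc_a_rc_0_1 lc_a_rc_2_2 lc_a_rc_4_2 lc_a_Cert_tree lc_a_rc_4_2 lc_a_Cert_tree lc_a_Cert_tree lc_a_rc_4_2 lc_a_rc_3_2 lc_a_rc_3_0 lc_a_rc_0_1 lc_a_rc_4_2 lc_a_rc_3_2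 lc_a_rc_3_0 lc_a_rc_4_2 lc_a_rc_1_2 lc_a_rc_4_2 lc_a_rc_0_1 lc_a_Cert_tree lc_a_rc_4_2 lc_a_rc_4_2 lc_a_rc_3_2 lc_a_rc_3_2 lc_a_rc_0_1 lc_a_rc_4_2 lc_a_Cert_tree lc_a_rc_5_2 lc_a_rc_4_0 lc_a_rc_5_0 lc_a_rc_3_2 lc_a_rc_3_2) (@D3.rec (fun _ => (Cert rels S Gen.a)) lc_a_rc_0_1 lc_a_rc_5_2 lc_a_rc_3_2 lc_a_rc_3_0 lc_a_rc_4_2 lc_a_rc_0_1 lc_a_rc_3_2 lc_a_rc_4_2 lc_a_rc_3_2 lc_a_rc_4_2 lc_a_rc_3_2 lc_a_rc_21_0 lc_a_rc_0_1 lc_a_rc_1_2 lc_a_rc_2_2 lc_a_rc_0_1 lc_a_rc_3_2 lc_a_rc_1_4 lc_a_rc_22_0 lc_a_rc_5_0 lc_a_rc_1_4 lc_a_rc_4_2 lc_a_rc_4_2 lc_a_rc_21_0 lc_a_rc_2_2 lc_a_rc_2_2 lc_a_rc_4_2 lc_a_rc_2_2 lc_a_rc_4_2 lc_a_Cert_tree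 lc_a_rc_5_2 lc_a_rc_5_2 lc_a_rc_21_0 lc_a_rc_3_2 lc_a_rc_0_1 lc_a_rc_21_0 lc_a_rc_2_2 lc_a_rc_4_2 lc_a_rc_4_0 lc_a_rc_0_1 lc_a_rc_4_0 lc_a_rc_5_2 lc_a_rc_2_2 lc_a_rc_4_2 lc_a_rc_5_0 lc_a_rc_4_2 lc_a_rc_4_2 lc_a_rc_2_2 lc_a_rc_0_1 lc_a_rc_4_2 lc_a_Cert_tree lc_a_rc_4_0 lc_a_rc_4_0 lc_a_rc_5_2 lc_a_rc_2_0 lc_a_rc_4_2 lc_a_rc_3_2 lc_a_rc_4_0 lc_a_rc_5_2 lc_a_Cert_tree lc_a_rc_5_2 lc_a_rc_0_1) (@D3.rec (fun _ => (Cert rels S Gen.a)) lc_a_rc_5_2 lc_a_rc_2_2 lc_a_rc_3_0 lc_a_rc_3_2 lc_a_rc_2_2 lc_a_rc_4_2 lc_a_rc_4_0 lc_a_rc_3_2 lc_a_rc_3_2 lc_a_rc_4_2 lc_a_rc_3_2 lc_a_rc_21_0 lc_a_rc_0_1 lc_a_rc_4_2 lc_a_rc_3_2 lc_a_rc_2_2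 lc_a_rc_5_0 lc_a_rc_3_0 lc_a_rc_2_2 lc_a_rc_3_2 lc_a_rc_2_2 lc_a_rc_3_2 lc_a_rc_21_0 lc_a_rc_0_1 lc_a_rc_2_0 lc_a_rc_2_2 lc_a_rc_4_2 lc_a_rc_3_2 lc_a_rc_2_2 lc_a_rc_3_2 lc_a_rc_3_2 lc_a_rc_0_1 lc_a_rc_2_2 lc_a_rc_4_2 lc_a_rc_2_2 lc_a_rc_3_2 lc_a_rc_4_2 lc_a_rc_2_0 lc_a_rc_2_2 lc_a_rc_22_0 lc_a_rc_3_2 lc_a_rc_2_2 lc_a_rc_5_2 lc_a_rc_4_2 lc_a_rc_5_2 lc_a_rc_4_2 lc_a_rc_2_2 lc_a_rc_4_2 lc_a_rc_3_0 lc_a_rc_2_0 lc_a_rc_1_4 lc_a_rc_4_2 lc_a_rc_4_2 lc_a_rc_5_2 lc_a_rc_3_2 lc_a_rc_4_2 lc_a_rc_3_2 lc_a_rc_2_0 lc_a_rc_4_2 lc_a_rc_5_0 lc_a_rc_4_2 lc_a_rc_0_1) (@D3.rec (fun _ => (Cert rels S Gen.a)) lc_a_rc_5_2 lc_a_rc_1_2 lc_a_rc_3_2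 lc_a_rc_4_2 lc_a_rc_3_0 lc_a_rc_5_2 lc_a_rc_4_2 lc_a_rc_2_2 lc_a_rc_4_2 lc_a_rc_4_0 lc_a_rc_4_2 lc_a_rc_5_2 lc_a_rc_3_2 lc_a_rc_4_2 lc_a_rc_2_0 lc_a_rc_0_1 lc_a_rc_4_2 lc_a_rc_0_1 lc_a_rc_0_1 lc_a_rc_1_0 lc_a_rc_3_2 lc_a_rc_21_0 lc_a_rc_4_2 lc_a_rc_3_2 lc_a_rc_3_2 lc_a_rc_5_2 lc_a_rc_3_2 lc_a_rc_2_2 lc_a_rc_5_2 lc_a_rc_0_1 lc_a_rc_4_2 lc_a_rc_1_4 lc_a_rc_21_0 lc_a_rc_2_2 lc_a_rc_3_2 lc_a_rc_3_2 lc_a_rc_3_2 lc_a_rc_2_2 lc_a_rc_3_0 lc_a_rc_3_2 lc_a_rc_3_2 lc_a_rc_4_2 lc_a_rc_3_2 lc_a_rc_2_2 lc_a_rc_4_2 lc_a_rc_3_2 lc_a_rc_3_0 lc_a_rc_4_2 lc_a_rc_4_2 lc_a_rc_2_2 lc_a_rc_3_2 lc_a_rc_4_2 lc_a_rc_2_2 lc_a_rc_4_2 lc_a_rc_2_2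 lc_a_rc_4_2 lc_a_rc_4_2 lc_a_rc_3_2 lc_a_rc_5_2 lc_a_rc_22_0 lc_a_rc_1_0 lc_a_rc_2_0) (@D3.rec (fun _ => (Cert rels S Gen.a)) lc_a_rc_21_0 lc_a_rc_21_0 lc_a_rc_4_2 lc_a_rc_4_2 lc_a_rc_3_0 lc_a_rc_3_2 lc_a_rc_3_2 lc_a_rc_2_2 lc_a_rc_2_2 lc_a_rc_2_2 lc_a_rc_4_2 lc_a_rc_3_2 lc_a_rc_2_0 lc_a_rc_3_2 lc_a_rc_5_2 lc_a_rc_3_2 lc_a_rc_4_2 lc_a_rc_2_2 lc_a_rc_2_0 lc_a_rc_4_2 lc_a_rc_2_2 lc_a_rc_0_1 lc_a_rc_2_2 lc_a_rc_4_2 lc_a_rc_0_1 lc_a_rc_4_2 lc_a_rc_2_0 lc_a_rc_2_2 lc_a_rc_4_2 lc_a_rc_21_0 lc_a_rc_2_2 lc_a_rc_4_2 lc_a_rc_3_2 lc_a_rc_4_2 lc_a_rc_22_0 lc_a_rc_2_0 lc_a_rc_3_2 lc_a_rc_1_2 lc_a_rc_0_1 lc_a_rc_2_2 lc_a_rc_5_2 lc_a_rc_4_2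 lc_a_rc_1_2 lc_a_rc_2_2 lc_a_rc_2_2 lc_a_rc_1_0 lc_a_rc_3_0 lc_a_rc_1_0 lc_a_rc_4_0 lc_a_rc_0_1 lc_a_rc_3_2 lc_a_rc_3_2 lc_a_rc_3_2 lc_a_rc_4_2 lc_a_rc_3_2 lc_a_rc_5_2 lc_a_rc_0_1 lc_a_rc_2_2 lc_a_rc_3_2 lc_a_rc_1_2 lc_a_rc_0_1 lc_a_rc_2_2) (@D3.rec (fun _ => (Cert rels S Gen.a)) lc_a_Cert_tree lc_a_rc_4_2 lc_a_rc_1_4 lc_a_rc_4_2 lc_a_rc_3_2 lc_a_rc_4_2 lc_a_rc_21_0 lc_a_rc_21_0 lc_a_rc_3_0 lc_a_rc_3_2 lc_a_rc_2_2 lc_a_rc_5_2 lc_a_rc_5_2 lc_a_rc_22_0 lc_a_rc_4_2 lc_a_rc_4_2 lc_a_rc_5_2 lc_a_Cert_tree lc_a_rc_22_0 lc_a_rc_4_2 lc_a_rc_21_0 lc_a_Cert_tree lc_a_rc_4_2 lc_a_rc_3_2 lc_a_rc_3_2 lc_a_rc_0_1 lc_a_rc_1_4 lc_a_rc_4_2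 lc_a_rc_2_2 lc_a_rc_4_2 lc_a_rc_2_2 lc_a_rc_4_2 lc_a_rc_21_0 lc_a_rc_2_2 lc_a_rc_4_0 lc_a_rc_5_0 lc_a_rc_4_2 lc_a_rc_5_0 lc_a_rc_2_2 lc_a_Cert_tree lc_a_rc_3_2 lc_a_rc_4_2 lc_a_rc_4_2 lc_a_rc_0_1 lc_a_rc_5_2 lc_a_rc_1_4 lc_a_rc_5_0 lc_a_rc_3_2 lc_a_rc_1_2 lc_a_rc_1_2 lc_a_rc_0_1 lc_a_rc_4_2 lc_a_rc_3_2 lc_a_rc_2_0 lc_a_rc_2_0 lc_a_rc_2_2 lc_a_rc_3_2 lc_a_rc_4_2 lc_a_rc_3_0 lc_a_rc_2_0 lc_a_rc_4_0 lc_a_rc_2_0) (@D3.rec (fun _ => (Cert rels S Gen.a)) lc_a_rc_21_0 lc_a_rc_21_0 lc_a_rc_5_0 lc_a_rc_0_1 lc_a_rc_1_4 lc_a_rc_3_0 lc_a_rc_1_2 lc_a_rc_4_2 lc_a_Cert_tree lc_a_rc_21_0 lc_a_rc_3_0 lc_a_rc_0_1 lc_a_rc_1_4 lc_a_rc_2_0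 lc_a_rc_4_2 lc_a_rc_4_2 lc_a_rc_5_2 lc_a_rc_3_2 lc_a_rc_4_2 lc_a_rc_2_2 lc_a_rc_3_2 lc_a_rc_2_2 lc_a_rc_4_2 lc_a_rc_5_0 lc_a_rc_4_0 lc_a_rc_4_0 lc_a_rc_4_0 lc_a_rc_0_1 lc_a_rc_4_2 lc_a_rc_3_0 lc_a_rc_4_2 lc_a_rc_4_0 lc_a_rc_2_2 lc_a_rc_4_2 lc_a_rc_1_2 lc_a_rc_3_0 lc_a_rc_0_1 lc_a_rc_2_2 lc_a_rc_3_0 lc_a_rc_3_0 lc_a_rc_0_1 lc_a_rc_4_2 lc_a_rc_3_0 lc_a_rc_0_1 lc_a_rc_0_1 lc_a_rc_1_4 lc_a_rc_3_0 lc_a_rc_0_1 lc_a_rc_4_2 lc_a_rc_5_2 lc_a_rc_1_4 lc_a_rc_4_0 lc_a_rc_4_2 lc_a_rc_3_2 lc_a_rc_2_2 lc_a_rc_2_0 lc_a_rc_21_0 lc_a_rc_3_0 lc_a_rc_4_2 lc_a_rc_5_0 lc_a_rc_2_2 lc_a_rc_3_2) (@D3.rec (fun _ => (Cert rels S Gen.a)) lc_a_rc_3_2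 lc_a_rc_4_0 lc_a_rc_3_0 lc_a_rc_4_2 lc_a_rc_21_0 lc_a_rc_21_0 lc_a_rc_2_2 lc_a_rc_3_0 lc_a_rc_3_2 lc_a_rc_0_1 lc_a_rc_3_2 lc_a_rc_5_0 lc_a_rc_3_2 lc_a_rc_4_0 lc_a_rc_0_1 lc_a_rc_2_2 lc_a_rc_4_2 lc_a_rc_4_0 lc_a_rc_4_2 lc_a_rc_0_1 lc_a_rc_5_0 lc_a_rc_4_2 lc_a_rc_3_2 lc_a_rc_3_0 lc_a_rc_4_2 lc_a_rc_1_4 lc_a_rc_2_0 lc_a_rc_4_2 lc_a_rc_4_2 lc_a_rc_4_2 lc_a_rc_5_2 lc_a_rc_3_2 lc_a_rc_2_2 lc_a_rc_0_1 lc_a_rc_2_2 lc_a_rc_4_2 lc_a_rc_3_0 lc_a_rc_3_2 lc_a_rc_0_1 lc_a_rc_3_0 lc_a_rc_4_0 lc_a_rc_5_0 lc_a_rc_21_0 lc_a_rc_1_4 lc_a_rc_22_0 lc_a_rc_3_2 lc_a_rc_3_2 lc_a_rc_3_0 lc_a_rc_4_2 lc_a_rc_5_0 lc_a_rc_0_1 lc_a_rc_4_0 lc_a_rc_4_2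 lc_a_rc_0_1 lc_a_rc_3_2 lc_a_rc_4_2 lc_a_rc_5_0 lc_a_rc_1_2 lc_a_rc_3_2 lc_a_rc_4_2 lc_a_rc_3_0 lc_a_rc_4_2) (@D3.rec (fun _ => (Cert rels S Gen.a)) lc_a_rc_3_0 lc_a_rc_3_0 lc_a_rc_4_0 lc_a_rc_4_2 lc_a_rc_21_0 lc_a_rc_4_0 lc_a_rc_21_0 lc_a_rc_3_2 lc_a_rc_3_2 lc_a_rc_1_2 lc_a_rc_4_2 lc_a_rc_3_2 lc_a_rc_3_0 lc_a_rc_4_2 lc_a_rc_5_0 lc_a_rc_0_1 lc_a_rc_0_1 lc_a_rc_4_2 lc_a_rc_3_2 lc_a_rc_1_2 lc_a_rc_2_2 lc_a_rc_3_2 lc_a_rc_4_2 lc_a_rc_2_2 lc_a_rc_4_2 lc_a_rc_2_2 lc_a_rc_3_0 lc_a_rc_2_2 lc_a_rc_4_2 lc_a_rc_0_1 lc_a_rc_21_0 lc_a_rc_0_1 lc_a_rc_5_2 lc_a_rc_0_1 lc_a_rc_2_2 lc_a_rc_0_1 lc_a_rc_21_0 lc_a_rc_0_1 lc_a_rc_3_2 lc_a_rc_1_2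 lc_a_rc_2_0 lc_a_Cert_tree lc_a_rc_0_1 lc_a_rc_2_0 lc_a_rc_2_2 lc_a_rc_2_2 lc_a_rc_1_4 lc_a_rc_1_4 lc_a_rc_2_2 lc_a_rc_3_2 lc_a_rc_5_2 lc_a_rc_2_2 lc_a_rc_1_4 lc_a_rc_0_1 lc_a_rc_3_2 lc_a_rc_0_1 lc_a_rc_4_2 lc_a_rc_2_0 lc_a_rc_2_2 lc_a_rc_2_2 lc_a_rc_3_2 lc_a_rc_2_2) (@D3.rec (fun _ => (Cert rels S Gen.a)) lc_a_rc_1_2 lc_a_rc_0_1 lc_a_rc_5_0 lc_a_rc_4_2 lc_a_rc_1_2 lc_a_rc_4_2 lc_a_rc_3_0 lc_a_rc_2_2 lc_a_rc_2_2 lc_a_rc_2_2 lc_a_rc_5_2 lc_a_rc_1_4 lc_a_rc_3_2 lc_a_rc_2_0 lc_a_rc_21_0 lc_a_rc_0_1 lc_a_rc_5_2 lc_a_rc_0_1 lc_a_rc_2_2 lc_a_rc_4_2 lc_a_rc_5_2 lc_a_rc_4_2 lc_a_rc_4_0 lc_a_rc_2_0 lc_a_rc_3_0 lc_a_rc_0_1 lc_a_rc_4_0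 lc_a_rc_0_1 lc_a_rc_1_4 lc_a_rc_2_2 lc_a_rc_4_2 lc_a_rc_2_2 lc_a_rc_2_2 lc_a_rc_3_2 lc_a_rc_4_2 lc_a_rc_1_4 lc_a_rc_3_2 lc_a_rc_3_2 lc_a_rc_3_2 lc_a_rc_5_0 lc_a_rc_3_2 lc_a_rc_21_0 lc_a_rc_21_0 lc_a_rc_1_0 lc_a_rc_3_2 lc_a_rc_3_2 lc_a_rc_0_1 lc_a_rc_0_1 lc_a_rc_2_2 lc_a_rc_0_1 lc_a_rc_2_0 lc_a_rc_3_2 lc_a_rc_0_1 lc_a_rc_2_2 lc_a_rc_1_2 lc_a_rc_3_0 lc_a_rc_4_2 lc_a_rc_5_0 lc_a_rc_5_2 lc_a_rc_21_0 lc_a_rc_0_1 lc_a_rc_4_2) (@D3.rec (fun _ => (Cert rels S Gen.a)) lc_a_rc_0_1 lc_a_rc_3_2 lc_a_rc_0_1 lc_a_rc_21_0 lc_a_rc_0_1 lc_a_rc_3_2 lc_a_rc_3_2 lc_a_rc_3_2 lc_a_rc_2_2 lc_a_rc_5_2 lc_a_rc_21_0 lc_a_rc_3_2 lc_a_rc_2_2 lc_a_rc_4_2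 lc_a_rc_4_2 lc_a_rc_5_0 lc_a_rc_3_2 lc_a_rc_5_2 lc_a_rc_21_0 lc_a_rc_5_0 lc_a_rc_4_2 lc_a_rc_3_2 lc_a_rc_22_0 lc_a_rc_0_1 lc_a_rc_2_2 lc_a_rc_0_1 lc_a_rc_4_2 lc_a_rc_5_0 lc_a_rc_5_2 lc_a_rc_0_1 lc_a_rc_2_2 lc_a_rc_4_2 lc_a_rc_5_0 lc_a_rc_4_2 lc_a_rc_21_0 lc_a_rc_0_1 lc_a_rc_22_0 lc_a_rc_5_0 lc_a_rc_22_0 lc_a_rc_1_2 lc_a_rc_1_2 lc_a_rc_4_2 lc_a_rc_5_2 lc_a_rc_5_0 lc_a_rc_1_2 lc_a_rc_3_0 lc_a_rc_2_2 lc_a_rc_2_0 lc_a_rc_2_2 lc_a_rc_2_0 lc_a_rc_5_0 lc_a_rc_2_2 lc_a_rc_5_2 lc_a_rc_3_2 lc_a_rc_2_2 lc_a_rc_3_2 lc_a_rc_2_2 lc_a_rc_4_2 lc_a_rc_5_2 lc_a_rc_3_0 lc_a_rc_3_2 lc_a_rc_2_2) (@D3.rec (fun _ => (Cert rels S Gen.a)) lc_a_rc_4_2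 lc_a_rc_2_2 lc_a_rc_4_2 lc_a_rc_21_0 lc_a_rc_21_0 lc_a_rc_3_0 lc_a_rc_4_0 lc_a_rc_3_2 lc_a_rc_2_2 lc_a_rc_4_2 lc_a_rc_1_2 lc_a_rc_5_2 lc_a_rc_21_0 lc_a_rc_21_0 lc_a_rc_2_0 lc_a_rc_0_1 lc_a_rc_0_1 lc_a_rc_2_2 lc_a_rc_4_2 lc_a_rc_2_2 lc_a_rc_3_2 lc_a_rc_3_2 lc_a_rc_21_0 lc_a_rc_2_2 lc_a_rc_2_0 lc_a_rc_5_2 lc_a_rc_3_2 lc_a_rc_0_1 lc_a_rc_1_2 lc_a_rc_3_2 lc_a_rc_1_4 lc_a_rc_2_0 lc_a_rc_3_0 lc_a_rc_4_2 lc_a_rc_0_1 lc_a_rc_0_1 lc_a_rc_1_4 lc_a_rc_21_0 lc_a_rc_0_1 lc_a_rc_2_2 lc_a_rc_4_2 lc_a_rc_3_2 lc_a_rc_4_2 lc_a_rc_2_2 lc_a_rc_21_0 lc_a_rc_5_2 lc_a_rc_3_0 lc_a_rc_0_1 lc_a_rc_3_2 lc_a_rc_5_0 lc_a_rc_3_2 lc_a_rc_0_1 lc_a_rc_1_4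 lc_a_rc_4_2 lc_a_rc_4_2 lc_a_rc_4_2 lc_a_rc_5_2 lc_a_rc_21_0 lc_a_rc_4_2 lc_a_rc_3_0 lc_a_rc_3_2 lc_a_rc_3_2) (@D3.rec (fun _ => (Cert rels S Gen.a)) lc_a_rc_3_2 lc_a_rc_3_0 lc_a_rc_3_2 lc_a_rc_2_2 lc_a_rc_4_2 lc_a_rc_3_0 lc_a_rc_4_0 lc_a_rc_3_0 lc_a_rc_3_2 lc_a_rc_0_1 lc_a_rc_3_2 lc_a_rc_0_1 lc_a_rc_3_2 lc_a_rc_21_0 lc_a_rc_3_0 lc_a_rc_4_2 lc_a_rc_1_4 lc_a_rc_2_2 lc_a_rc_21_0 lc_a_rc_4_2 lc_a_rc_2_0 lc_a_rc_4_0 lc_a_rc_5_2 lc_a_rc_3_2 lc_a_rc_3_2 lc_a_rc_2_2 lc_a_rc_4_2 lc_a_rc_2_2 lc_a_rc_2_2 lc_a_rc_4_2 lc_a_rc_1_4 lc_a_rc_2_2 lc_a_rc_4_2 lc_a_rc_21_0 lc_a_rc_4_0 lc_a_rc_3_2 lc_a_rc_21_0 lc_a_rc_2_0 lc_a_rc_2_0 lc_a_rc_5_2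 lc_a_rc_0_1 lc_a_rc_5_0 lc_a_rc_5_0 lc_a_rc_2_2 lc_a_rc_4_0 lc_a_rc_5_2 lc_a_rc_0_1 lc_a_rc_5_2 lc_a_rc_1_4 lc_a_rc_4_0 lc_a_rc_2_2 lc_a_rc_0_1 lc_a_rc_4_2 lc_a_rc_0_1 lc_a_rc_3_2 lc_a_rc_3_2 lc_a_rc_5_2 lc_a_rc_3_2 lc_a_Cert_tree lc_a_rc_2_2 lc_a_rc_4_2 lc_a_rc_21_0) (@D3.rec (fun _ => (Cert rels S Gen.a)) lc_a_rc_3_2 lc_a_rc_3_2 lc_a_rc_2_2 lc_a_rc_21_0 lc_a_rc_3_2 lc_a_rc_3_2 lc_a_rc_4_2 lc_a_rc_3_2 lc_a_rc_4_2 lc_a_rc_4_2 lc_a_rc_3_2 lc_a_rc_4_2 lc_a_rc_3_2 lc_a_rc_4_2 lc_a_rc_3_2 lc_a_rc_2_2 lc_a_rc_4_2 lc_a_rc_21_0 lc_a_rc_4_2 lc_a_rc_4_2 lc_a_rc_2_0 lc_a_rc_4_2 lc_a_rc_4_2 lc_a_rc_3_2 lc_a_rc_4_2 lc_a_rc_3_2 lc_a_rc_5_0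 lc_a_rc_2_2 lc_a_rc_4_2 lc_a_rc_2_2 lc_a_rc_5_2 lc_a_rc_4_2 lc_a_rc_0_1 lc_a_rc_21_0 lc_a_rc_5_2 lc_a_rc_2_2 lc_a_rc_3_2 lc_a_rc_5_0 lc_a_rc_3_2 lc_a_rc_2_2 lc_a_rc_4_2 lc_a_rc_0_1 lc_a_rc_5_2 lc_a_rc_4_2 lc_a_rc_3_0 lc_a_rc_0_1 lc_a_rc_5_2 lc_a_rc_4_2 lc_a_rc_21_0 lc_a_rc_1_4 lc_a_rc_1_2 lc_a_rc_1_4 lc_a_rc_0_1 lc_a_rc_21_0 lc_a_rc_4_2 lc_a_rc_2_2 lc_a_rc_3_2 lc_a_rc_3_2 lc_a_rc_5_2 lc_a_rc_2_2 lc_a_rc_0_1 lc_a_rc_5_0) (@D3.rec (fun _ => (Cert rels S Gen.a)) lc_a_rc_4_2 lc_a_Cert_tree lc_a_rc_4_2 lc_a_rc_4_0 lc_a_rc_2_2 lc_a_rc_4_2 lc_a_rc_3_2 lc_a_rc_4_2 lc_a_rc_5_0 lc_a_rc_4_2 lc_a_rc_3_2 lc_a_rc_5_2 lc_a_rc_5_0 lc_a_rc_5_0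 lc_a_rc_3_2 lc_a_rc_3_2 lc_a_rc_0_1 lc_a_rc_3_2 lc_a_rc_0_1 lc_a_rc_5_2 lc_a_Cert_tree lc_a_rc_5_2 lc_a_rc_4_2 lc_a_rc_4_2 lc_a_rc_3_2 lc_a_rc_3_0 lc_a_rc_1_4 lc_a_rc_4_2 lc_a_rc_4_2 lc_a_rc_2_2 lc_a_rc_3_2 lc_a_rc_21_0 lc_a_rc_0_1 lc_a_rc_5_2 lc_a_rc_3_2 lc_a_rc_4_2 lc_a_rc_4_2 lc_a_rc_2_0 lc_a_rc_4_2 lc_a_rc_3_2 lc_a_rc_4_2 lc_a_rc_3_2 lc_a_rc_3_2 lc_a_rc_3_2 lc_a_rc_2_2 lc_a_rc_3_2 lc_a_rc_2_0 lc_a_rc_2_2 lc_a_rc_4_0 lc_a_rc_5_2 lc_a_rc_0_1 lc_a_rc_2_2 lc_a_rc_4_2 lc_a_rc_5_2 lc_a_rc_0_1 lc_a_rc_2_2 lc_a_rc_3_2 lc_a_rc_0_1 lc_a_rc_1_2 lc_a_rc_5_2 lc_a_rc_3_2 lc_a_rc_4_2) (@D3.rec (fun _ => (Cert rels S Gen.a)) lc_a_rc_21_0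 lc_a_rc_4_2 lc_a_rc_0_1 lc_a_rc_3_2 lc_a_rc_0_1 lc_a_rc_2_2 lc_a_Cert_tree lc_a_rc_21_0 lc_a_rc_0_1 lc_a_rc_3_2 lc_a_rc_4_2 lc_a_rc_1_4 lc_a_rc_2_2 lc_a_Cert_tree lc_a_rc_2_2 lc_a_rc_2_2 lc_a_rc_3_2 lc_a_rc_3_2 lc_a_rc_2_2 lc_a_rc_4_2 lc_a_rc_2_2 lc_a_rc_4_2 lc_a_rc_1_2 lc_a_rc_2_2 lc_a_rc_21_0 lc_a_rc_2_2 lc_a_rc_3_2 lc_a_rc_1_2 lc_a_rc_0_1 lc_a_rc_3_0 lc_a_rc_21_0 lc_a_rc_3_2 lc_a_rc_2_2 lc_a_rc_21_0 lc_a_rc_4_2 lc_a_rc_22_0 lc_a_rc_3_2 lc_a_rc_3_0 lc_a_rc_3_2 lc_a_rc_2_2 lc_a_rc_4_2 lc_a_Cert_tree lc_a_rc_4_2 lc_a_rc_3_2 lc_a_rc_5_0 lc_a_rc_5_2 lc_a_rc_3_2 lc_a_rc_3_2 lc_a_rc_4_2 lc_a_rc_0_1 lc_a_rc_21_0 lc_a_rc_2_2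 lc_a_rc_4_2 lc_a_rc_3_2 lc_a_rc_4_2 lc_a_Cert_tree lc_a_rc_4_2 lc_a_rc_4_2 lc_a_rc_5_0 lc_a_rc_5_2 lc_a_rc_2_2 lc_a_rc_4_2) (@D3.rec (fun _ => (Cert rels S Gen.a)) lc_a_rc_5_2 lc_a_rc_4_2 lc_a_rc_5_0 lc_a_rc_4_2 lc_a_rc_3_2 lc_a_rc_5_2 lc_a_rc_0_1 lc_a_rc_21_0 lc_a_rc_4_2 lc_a_rc_4_0 lc_a_rc_2_2 lc_a_rc_0_1 lc_a_rc_4_2 lc_a_rc_5_2 lc_a_rc_2_2 lc_a_rc_4_2 lc_a_rc_3_2 lc_a_rc_4_2 lc_a_rc_0_1 lc_a_rc_3_2 lc_a_rc_5_2 lc_a_rc_4_2 lc_a_rc_3_2 lc_a_rc_2_2 lc_a_rc_3_2 lc_a_rc_5_0 lc_a_rc_2_2 lc_a_rc_5_2 lc_a_rc_3_2 lc_a_rc_4_2 lc_a_rc_2_2 lc_a_rc_3_2 lc_a_rc_3_2 lc_a_rc_2_2 lc_a_rc_1_0 lc_a_rc_3_2 lc_a_rc_21_0 lc_a_rc_1_2 lc_a_rc_3_2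 lc_a_rc_3_2 lc_a_rc_0_1 lc_a_rc_1_2 lc_a_rc_3_0 lc_a_rc_2_2 lc_a_rc_3_2 lc_a_rc_2_2 lc_a_rc_2_2 lc_a_rc_3_2 lc_a_rc_3_2 lc_a_rc_2_2 lc_a_rc_4_2 lc_a_rc_21_0 lc_a_rc_2_2 lc_a_rc_3_2 lc_a_rc_3_2 lc_a_rc_2_2 lc_a_rc_3_2 lc_a_rc_21_0 lc_a_rc_4_0 lc_a_rc_0_1 lc_a_rc_2_2 lc_a_rc_4_2) (@D3.rec (fun _ => (Cert rels S Gen.a)) lc_a_rc_2_2 lc_a_rc_3_2 lc_a_rc_4_2 lc_a_rc_3_2 lc_a_rc_3_2 lc_a_rc_4_2 lc_a_rc_3_0 lc_a_rc_3_0 lc_a_rc_21_0 lc_a_rc_3_0 lc_a_rc_3_2 lc_a_rc_4_2 lc_a_rc_4_2 lc_a_rc_4_2 lc_a_rc_3_2 lc_a_rc_2_2 lc_a_rc_1_4 lc_a_rc_3_2 lc_a_rc_3_2 lc_a_rc_1_4 lc_a_rc_3_2 lc_a_rc_5_2 lc_a_rc_4_2 lc_a_rc_5_2 lc_a_rc_3_2 lc_a_rc_4_0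 lc_a_rc_0_1 lc_a_rc_4_0 lc_a_rc_0_1 lc_a_rc_21_0 lc_a_rc_3_2 lc_a_rc_2_2 lc_a_rc_1_2 lc_a_rc_4_2 lc_a_rc_3_2 lc_a_rc_1_4 lc_a_rc_5_2 lc_a_rc_5_0 lc_a_rc_3_2 lc_a_rc_2_2 lc_a_rc_3_2 lc_a_rc_5_2 lc_a_rc_2_2 lc_a_rc_1_2 lc_a_rc_2_2 lc_a_rc_22_0 lc_a_rc_3_2 lc_a_rc_4_2 lc_a_rc_3_2 lc_a_rc_3_2 lc_a_rc_4_2 lc_a_rc_4_2 lc_a_rc_5_0 lc_a_rc_2_2 lc_a_rc_0_1 lc_a_rc_3_2 lc_a_rc_0_1 lc_a_rc_3_0 lc_a_rc_5_2 lc_a_rc_4_2 lc_a_rc_0_1 lc_a_rc_5_2) (@D3.rec (fun _ => (Cert rels S Gen.a)) lc_a_rc_21_0 lc_a_rc_2_0 lc_a_rc_22_0 lc_a_rc_2_2 lc_a_rc_3_2 lc_a_rc_5_2 lc_a_rc_1_0 lc_a_rc_4_2 lc_a_rc_5_0 lc_a_rc_5_2 lc_a_rc_0_1 lc_a_rc_3_2 lc_a_rc_3_2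 lc_a_rc_4_2 lc_a_rc_5_2 lc_a_rc_4_2 lc_a_rc_21_0 lc_a_rc_21_0 lc_a_rc_2_0 lc_a_rc_5_2 lc_a_rc_2_2 lc_a_rc_21_0 lc_a_rc_4_2 lc_a_rc_2_2 lc_a_rc_5_2 lc_a_rc_2_2 lc_a_rc_3_2 lc_a_rc_4_2 lc_a_rc_2_2 lc_a_rc_4_2 lc_a_rc_2_2 lc_a_rc_0_1 lc_a_rc_1_4 lc_a_rc_21_0 lc_a_rc_4_2 lc_a_rc_2_2 lc_a_rc_4_2 lc_a_rc_2_2 lc_a_rc_2_2 lc_a_rc_21_0 lc_a_rc_3_2 lc_a_rc_3_2 lc_a_rc_4_2 lc_a_rc_2_2 lc_a_rc_4_2 lc_a_rc_4_2 lc_a_rc_3_2 lc_a_rc_5_2 lc_a_rc_21_0 lc_a_rc_2_2 lc_a_rc_4_2 lc_a_rc_0_1 lc_a_rc_2_2 lc_a_rc_1_4 lc_a_rc_2_2 lc_a_rc_2_2 lc_a_rc_5_0 lc_a_rc_21_0 lc_a_rc_1_2 lc_a_rc_21_0 lc_a_rc_0_1 lc_a_rc_0_1) (@D3.rec (fun _ => (Cert rels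 S Gen.a)) lc_a_rc_3_2 lc_a_rc_0_1 lc_a_Cert_tree lc_a_rc_2_2 lc_a_rc_2_2 lc_a_rc_3_2 lc_a_rc_5_2 lc_a_rc_4_0 lc_a_rc_2_2 lc_a_rc_1_4 lc_a_rc_3_0 lc_a_rc_5_2 lc_a_rc_1_0 lc_a_rc_1_2 lc_a_rc_3_2 lc_a_rc_1_4 lc_a_rc_0_1 lc_a_rc_21_0 lc_a_rc_3_2 lc_a_rc_2_2 lc_a_rc_4_2 lc_a_rc_4_2 lc_a_rc_5_0 lc_a_rc_2_2 lc_a_rc_5_2 lc_a_rc_1_0 lc_a_rc_3_2 lc_a_rc_2_2 lc_a_rc_4_2 lc_a_rc_3_2 lc_a_rc_4_0 lc_a_rc_3_2 lc_a_rc_3_2 lc_a_rc_4_2 lc_a_rc_22_0 lc_a_rc_3_2 lc_a_rc_0_1 lc_a_rc_2_0 lc_a_rc_5_2 lc_a_rc_3_2 lc_a_rc_4_0 lc_a_rc_2_0 lc_a_rc_1_0 lc_a_rc_3_2 lc_a_rc_5_2 lc_a_rc_5_0 lc_a_rc_0_1 lc_a_rc_2_2 lc_a_rc_2_0 lc_a_rc_5_2 lc_a_rc_2_2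 lc_a_rc_4_2 lc_a_rc_2_0 lc_a_rc_3_0 lc_a_rc_3_2 lc_a_rc_2_2 lc_a_rc_4_0 lc_a_rc_0_1 lc_a_rc_5_2 lc_a_rc_2_2 lc_a_rc_2_2 lc_a_rc_5_2) (@D3.rec (fun _ => (Cert rels S Gen.a)) lc_a_rc_3_2 lc_a_rc_21_0 lc_a_rc_1_2 lc_a_rc_2_0 lc_a_rc_4_2 lc_a_rc_5_2 lc_a_rc_3_2 lc_a_rc_2_2 lc_a_rc_21_0 lc_a_rc_4_2 lc_a_rc_3_2 lc_a_rc_1_2 lc_a_rc_3_2 lc_a_rc_3_2 lc_a_rc_21_0 lc_a_rc_4_2 lc_a_rc_3_2 lc_a_rc_1_4 lc_a_rc_3_2 lc_a_rc_4_2 lc_a_rc_1_2 lc_a_rc_1_2 lc_a_rc_0_1 lc_a_rc_4_2 lc_a_Cert_tree lc_a_rc_3_2 lc_a_rc_5_2 lc_a_rc_22_0 lc_a_rc_1_4 lc_a_rc_2_2 lc_a_rc_4_2 lc_a_rc_0_1 lc_a_rc_2_0 lc_a_rc_2_2 lc_a_rc_5_2 lc_a_rc_5_2 lc_a_rc_3_0 lc_a_rc_2_2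 lc_a_rc_4_2 lc_a_Cert_tree lc_a_rc_4_2 lc_a_rc_5_0 lc_a_rc_3_2 lc_a_rc_5_2 lc_a_rc_2_2 lc_a_rc_4_2 lc_a_rc_4_2 lc_a_rc_4_2 lc_a_rc_0_1 lc_a_rc_3_2 lc_a_rc_4_2 lc_a_rc_3_2 lc_a_rc_4_2 lc_a_Cert_tree lc_a_rc_4_2 lc_a_rc_3_2 lc_a_rc_5_2 lc_a_rc_2_0 lc_a_rc_4_2 lc_a_Cert_tree lc_a_rc_4_2 lc_a_rc_3_2) (@D3.rec (fun _ => (Cert rels S Gen.a)) lc_a_rc_4_2 lc_a_rc_0_1 lc_a_rc_4_0 lc_a_rc_4_2 lc_a_rc_5_2 lc_a_rc_3_2 lc_a_rc_3_2 lc_a_rc_5_0 lc_a_rc_2_2 lc_a_rc_3_2 lc_a_rc_21_0 lc_a_Cert_tree lc_a_rc_4_2 lc_a_rc_0_1 lc_a_rc_2_2 lc_a_rc_5_2 lc_a_rc_0_1 lc_a_rc_3_2 lc_a_rc_3_2 lc_a_rc_3_0 lc_a_rc_3_2 lc_a_rc_2_2 lc_a_rc_1_4 lc_a_rc_1_4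 lc_a_rc_4_2 lc_a_rc_0_1 lc_a_rc_4_0 lc_a_rc_3_2 lc_a_rc_0_1 lc_a_Cert_tree lc_a_rc_1_4 lc_a_rc_3_2 lc_a_rc_0_1 lc_a_rc_2_2 lc_a_rc_1_4 lc_a_rc_1_2 lc_a_rc_2_2 lc_a_rc_1_2 lc_a_rc_5_2 lc_a_rc_2_2 lc_a_rc_3_2 lc_a_rc_0_1 lc_a_rc_21_0 lc_a_rc_3_2 lc_a_rc_5_2 lc_a_Cert_tree lc_a_rc_3_2 lc_a_rc_0_1 lc_a_rc_1_2 lc_a_rc_4_2 lc_a_rc_21_0 lc_a_rc_0_1 lc_a_rc_3_2 lc_a_rc_2_2 lc_a_rc_22_0 lc_a_rc_3_2 lc_a_rc_4_2 lc_a_rc_1_2 lc_a_rc_3_2 lc_a_rc_4_2 lc_a_rc_4_2 lc_a_rc_4_2) (@D3.rec (fun _ => (Cert rels S Gen.a)) lc_a_rc_0_1 lc_a_rc_4_2 lc_a_rc_2_2 lc_a_rc_0_1 lc_a_rc_4_2 lc_a_rc_2_2 lc_a_rc_3_2 lc_a_rc_5_2 lc_a_rc_0_1 lc_a_rc_4_2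 lc_a_rc_5_0 lc_a_rc_4_2 lc_a_rc_4_2 lc_a_rc_5_0 lc_a_rc_0_1 lc_a_rc_21_0 lc_a_rc_5_2 lc_a_rc_0_1 lc_a_rc_0_1 lc_a_rc_5_2 lc_a_rc_3_0 lc_a_rc_2_2 lc_a_rc_2_2 lc_a_rc_3_2 lc_a_rc_2_2 lc_a_rc_4_2 lc_a_rc_3_0 lc_a_rc_3_2 lc_a_rc_5_2 lc_a_rc_3_0 lc_a_rc_0_1 lc_a_rc_3_2 lc_a_rc_3_2 lc_a_rc_2_2 lc_a_rc_4_2 lc_a_rc_3_2 lc_a_rc_2_2 lc_a_rc_3_2 lc_a_rc_5_2 lc_a_rc_5_0 lc_a_rc_2_2 lc_a_rc_2_2 lc_a_rc_2_0 lc_a_rc_4_0 lc_a_rc_0_1 lc_a_rc_1_4 lc_a_rc_4_2 lc_a_rc_5_2 lc_a_rc_2_2 lc_a_rc_4_2 lc_a_rc_3_2 lc_a_rc_4_2 lc_a_rc_4_2 lc_a_rc_5_0 lc_a_rc_3_2 lc_a_rc_3_2 lc_a_rc_5_2 lc_a_rc_1_4 lc_a_rc_4_2 lc_a_rc_5_0 lc_a_rc_4_0 lc_a_rc_5_2)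 (@D3.rec (fun _ => (Cert rels S Gen.a)) lc_a_rc_2_2 lc_a_rc_3_2 lc_a_rc_0_1 lc_a_rc_4_2 lc_a_rc_1_4 lc_a_rc_0_1 lc_a_rc_21_0 lc_a_rc_3_0 lc_a_rc_0_1 lc_a_rc_4_0 lc_a_rc_2_0 lc_a_rc_0_1 lc_a_rc_4_0 lc_a_rc_5_2 lc_a_rc_0_1 lc_a_rc_2_2 lc_a_rc_22_0 lc_a_rc_2_2 lc_a_rc_2_2 lc_a_rc_5_2 lc_a_Cert_tree lc_a_rc_0_1 lc_a_rc_3_0 lc_a_rc_4_0 lc_a_rc_4_2 lc_a_rc_3_2 lc_a_rc_1_2 lc_a_rc_2_2 lc_a_rc_4_2 lc_a_rc_5_0 lc_a_rc_2_2 lc_a_rc_1_4 lc_a_rc_4_2 lc_a_rc_0_1 lc_a_rc_2_0 lc_a_rc_0_1 lc_a_rc_5_2 lc_a_rc_4_2 lc_a_rc_3_2 lc_a_rc_4_2 lc_a_rc_3_2 lc_a_rc_5_2 lc_a_rc_3_0 lc_a_rc_21_0 lc_a_rc_4_2 lc_a_rc_3_0 lc_a_rc_5_2 lc_a_rc_3_2 lc_a_rc_21_0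 lc_a_rc_5_2 lc_a_rc_4_2 lc_a_rc_2_0 lc_a_rc_4_2 lc_a_rc_4_2 lc_a_rc_2_0 lc_a_rc_5_2 lc_a_rc_5_2 lc_a_rc_3_2 lc_a_rc_3_2 lc_a_rc_5_0 lc_a_rc_2_2 lc_a_rc_4_2) (@D3.rec (fun _ => (Cert rels S Gen.a)) lc_a_Cert_tree lc_a_rc_4_2 lc_a_rc_4_0 lc_a_rc_1_4 lc_a_rc_1_2 lc_a_rc_4_2 lc_a_rc_3_2 lc_a_rc_21_0 lc_a_rc_3_2 lc_a_rc_22_0 lc_a_rc_4_2 lc_a_rc_22_0 lc_a_rc_4_2 lc_a_rc_21_0 lc_a_rc_21_0 lc_a_rc_5_2 lc_a_rc_0_1 lc_a_rc_2_2 lc_a_rc_3_2 lc_a_rc_5_2 lc_a_rc_22_0 lc_a_rc_5_2 lc_a_rc_3_0 lc_a_rc_3_0 lc_a_rc_4_2 lc_a_rc_4_2 lc_a_rc_3_0 lc_a_rc_5_2 lc_a_rc_0_1 lc_a_rc_3_0 lc_a_rc_21_0 lc_a_rc_2_2 lc_a_rc_5_0 lc_a_rc_0_1 lc_a_rc_5_2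 lc_a_rc_0_1 lc_a_rc_2_2 lc_a_rc_4_2 lc_a_rc_4_2 lc_a_Cert_tree lc_a_rc_4_2 lc_a_rc_21_0 lc_a_rc_1_2 lc_a_rc_3_0 lc_a_rc_0_1 lc_a_rc_21_0 lc_a_rc_5_0 lc_a_rc_4_2 lc_a_rc_3_2 lc_a_rc_4_0 lc_a_rc_2_0 lc_a_rc_0_1 lc_a_rc_2_2 lc_a_rc_0_1 lc_a_rc_4_2 lc_a_rc_5_0 lc_a_rc_0_1 lc_a_rc_3_2 lc_a_rc_0_1 lc_a_rc_21_0 lc_a_rc_4_0 lc_a_rc_3_2) (@D3.rec (fun _ => (Cert rels S Gen.a)) lc_a_rc_5_2 lc_a_rc_0_1 lc_a_rc_4_0 lc_a_rc_3_2 lc_a_rc_3_2 lc_a_rc_3_2 lc_a_rc_2_2 lc_a_rc_1_2 lc_a_rc_1_2 lc_a_rc_4_2 lc_a_rc_4_2 lc_a_rc_21_0 lc_a_rc_4_0 lc_a_rc_0_1 lc_a_rc_3_2 lc_a_rc_3_2 lc_a_rc_5_0 lc_a_rc_3_2 lc_a_rc_2_2 lc_a_rc_4_2 lc_a_rc_21_0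 lc_a_rc_4_2 lc_a_rc_5_0 lc_a_rc_3_2 lc_a_rc_5_2 lc_a_rc_21_0 lc_a_rc_5_0 lc_a_rc_21_0 lc_a_rc_2_2 lc_a_rc_3_2 lc_a_rc_3_2 lc_a_rc_5_0 lc_a_rc_5_2 lc_a_rc_5_2 lc_a_Cert_tree lc_a_rc_4_2 lc_a_rc_21_0 lc_a_rc_4_0 lc_a_rc_5_2 lc_a_rc_2_2 lc_a_rc_3_2 lc_a_rc_4_2 lc_a_rc_5_0 lc_a_rc_4_2 lc_a_rc_5_2 lc_a_rc_0_1 lc_a_rc_4_2 lc_a_rc_5_2 lc_a_rc_4_2 lc_a_rc_22_0 lc_a_rc_0_1 lc_a_rc_22_0 lc_a_rc_2_2 lc_a_rc_5_0 lc_a_rc_3_0 lc_a_rc_5_2 lc_a_rc_2_2 lc_a_rc_21_0 lc_a_rc_4_2 lc_a_rc_0_1 lc_a_rc_1_2 lc_a_rc_0_1) (@D3.rec (fun _ => (Cert rels S Gen.a)) lc_a_rc_2_0 lc_a_rc_3_0 lc_a_Cert_tree lc_a_rc_2_2 lc_a_rc_5_2 lc_a_rc_4_2 lc_a_Cert_tree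 lc_a_rc_3_0 lc_a_rc_0_1 lc_a_rc_0_1 lc_a_rc_0_1 lc_a_rc_2_2 lc_a_rc_0_1 lc_a_rc_5_0 lc_a_rc_4_2 lc_a_rc_0_1 lc_a_rc_1_4 lc_a_rc_4_2 lc_a_rc_0_1 lc_a_rc_2_0 lc_a_rc_0_1 lc_a_rc_4_2 lc_a_rc_2_0 lc_a_rc_5_2 lc_a_rc_5_2 lc_a_rc_4_2 lc_a_rc_3_2 lc_a_rc_2_2 lc_a_rc_3_2 lc_a_rc_4_2 lc_a_rc_4_2 lc_a_rc_5_2 lc_a_rc_4_0 lc_a_rc_4_0 lc_a_rc_4_0 lc_a_rc_2_2 lc_a_rc_2_2 lc_a_rc_5_0 lc_a_rc_2_0 lc_a_rc_0_1 lc_a_rc_5_2 lc_a_rc_1_4 lc_a_rc_3_2 lc_a_rc_3_2 lc_a_rc_5_2 lc_a_rc_2_0 lc_a_rc_21_0 lc_a_rc_3_2 lc_a_rc_2_2 lc_a_rc_0_1 lc_a_rc_4_0 lc_a_rc_5_0 lc_a_rc_4_2 lc_a_rc_4_0 lc_a_rc_3_2 lc_a_rc_0_1 lc_a_rc_4_2 lc_a_rc_3_2 lc_a_rc_0_1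 lc_a_rc_2_2 lc_a_rc_0_1 lc_a_rc_4_2) (@D3.rec (fun _ => (Cert rels S Gen.a)) lc_a_rc_5_2 lc_a_rc_4_2 lc_a_rc_0_1 lc_a_rc_5_2 lc_a_rc_21_0 lc_a_rc_2_0 lc_a_rc_1_4 lc_a_rc_2_0 lc_a_rc_4_2 lc_a_Cert_tree lc_a_rc_21_0 lc_a_rc_2_2 lc_a_rc_4_0 lc_a_rc_3_0 lc_a_rc_2_2 lc_a_rc_5_0 lc_a_rc_4_2 lc_a_rc_1_4 lc_a_rc_3_2 lc_a_rc_21_0 lc_a_rc_2_2 lc_a_rc_1_2 lc_a_rc_4_0 lc_a_rc_2_2 lc_a_rc_0_1 lc_a_rc_21_0 lc_a_rc_0_1 lc_a_rc_0_1 lc_a_rc_1_2 lc_a_rc_4_2 lc_a_rc_4_2 lc_a_rc_5_0 lc_a_rc_0_1 lc_a_rc_1_0 lc_a_rc_5_2 lc_a_rc_4_2 lc_a_rc_4_2 lc_a_rc_21_0 lc_a_rc_22_0 lc_a_rc_0_1 lc_a_rc_5_0 lc_a_rc_21_0 lc_a_rc_4_2 lc_a_rc_3_2 lc_a_rc_4_0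 lc_a_rc_5_2 lc_a_rc_1_4 lc_a_rc_4_2 lc_a_rc_1_4 lc_a_rc_4_2 lc_a_Cert_tree lc_a_rc_4_2 lc_a_rc_0_1 lc_a_rc_4_0 lc_a_rc_4_0 lc_a_rc_4_2 lc_a_rc_2_0 lc_a_rc_2_2 lc_a_rc_21_0 lc_a_rc_0_1 lc_a_rc_21_0 lc_a_rc_4_2) (@D3.rec (fun _ => (Cert rels S Gen.a)) lc_a_rc_0_1 lc_a_rc_4_2 lc_a_rc_4_2 lc_a_rc_5_0 lc_a_rc_21_0 lc_a_Cert_tree lc_a_rc_3_2 lc_a_rc_2_2 lc_a_rc_2_2 lc_a_rc_3_2 lc_a_rc_2_2 lc_a_rc_2_2 lc_a_rc_0_1 lc_a_rc_0_1 lc_a_rc_1_4 lc_a_rc_2_0 lc_a_rc_2_2 lc_a_rc_4_0 lc_a_rc_2_2 lc_a_rc_2_2 lc_a_rc_2_2 lc_a_rc_3_0 lc_a_rc_3_0 lc_a_rc_2_2 lc_a_rc_5_2 lc_a_rc_2_2 lc_a_rc_3_2 lc_a_rc_5_0 lc_a_rc_0_1 lc_a_rc_3_2 lc_a_rc_4_2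 lc_a_rc_4_2 lc_a_rc_4_2 lc_a_rc_4_2 lc_a_Cert_tree lc_a_rc_4_2 lc_a_rc_3_2 lc_a_rc_4_2 lc_a_rc_1_2 lc_a_rc_2_2 lc_a_rc_0_1 lc_a_rc_3_2 lc_a_rc_2_2 lc_a_rc_3_2 lc_a_rc_22_0 lc_a_rc_4_2 lc_a_rc_2_2 lc_a_rc_5_2 lc_a_rc_4_2 lc_a_rc_5_0 lc_a_rc_2_2 lc_a_rc_4_2 lc_a_rc_5_0 lc_a_rc_4_0 lc_a_rc_5_2 lc_a_rc_3_2 lc_a_rc_3_2 lc_a_rc_1_4 lc_a_rc_21_0 lc_a_rc_2_2 lc_a_rc_0_1 lc_a_rc_1_2) (@D3.rec (fun _ => (Cert rels S Gen.a)) lc_a_rc_4_2 lc_a_rc_5_0 lc_a_rc_5_2 lc_a_rc_1_2 lc_a_rc_21_0 lc_a_rc_4_2 lc_a_rc_4_2 lc_a_rc_0_1 lc_a_rc_22_0 lc_a_rc_4_2 lc_a_rc_3_2 lc_a_rc_4_2 lc_a_rc_4_2 lc_a_rc_5_0 lc_a_rc_5_2 lc_a_rc_4_0 lc_a_rc_4_2 lc_a_rc_5_2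 lc_a_rc_4_2 lc_a_rc_4_2 lc_a_rc_5_0 lc_a_rc_4_0 lc_a_rc_4_2 lc_a_rc_5_2 lc_a_rc_3_2 lc_a_rc_21_0 lc_a_rc_4_2 lc_a_rc_4_2 lc_a_rc_4_2 lc_a_rc_5_2 lc_a_rc_5_0 lc_a_rc_3_2 lc_a_rc_2_2 lc_a_rc_5_2 lc_a_rc_4_2 lc_a_rc_0_1 lc_a_rc_3_2 lc_a_rc_21_0 lc_a_rc_2_2 lc_a_rc_4_2 lc_a_rc_2_2 lc_a_rc_4_2 lc_a_rc_4_2 lc_a_rc_5_0 lc_a_rc_5_2 lc_a_rc_21_0 lc_a_rc_3_2 lc_a_rc_21_0 lc_a_rc_2_2 lc_a_rc_2_2 lc_a_rc_5_2 lc_a_rc_2_0 lc_a_rc_21_0 lc_a_rc_5_2 lc_a_rc_5_0 lc_a_rc_1_2 lc_a_rc_3_2 lc_a_rc_4_2 lc_a_rc_2_2 lc_a_rc_4_2 lc_a_rc_0_1 lc_a_rc_3_2) (@D3.rec (fun _ => (Cert rels S Gen.a)) lc_a_rc_5_2 lc_a_rc_4_0 lc_a_rc_3_2 lc_a_rc_4_0 lc_a_rc_3_2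 lc_a_rc_0_1 lc_a_rc_2_0 lc_a_rc_4_0 lc_a_rc_0_1 lc_a_rc_3_2 lc_a_rc_3_2 lc_a_rc_1_4 lc_a_rc_0_1 lc_a_rc_4_2 lc_a_rc_2_2 lc_a_rc_4_2 lc_a_rc_3_0 lc_a_rc_2_2 lc_a_rc_4_2 lc_a_rc_2_2 lc_a_rc_2_2 lc_a_rc_1_2 lc_a_rc_1_4 lc_a_rc_4_0 lc_a_rc_4_0 lc_a_rc_5_2 lc_a_rc_3_0 lc_a_rc_4_2 lc_a_rc_3_2 lc_a_rc_2_0 lc_a_rc_2_2 lc_a_rc_5_0 lc_a_rc_4_2 lc_a_rc_1_2 lc_a_rc_3_2 lc_a_rc_3_2 lc_a_rc_2_2 lc_a_rc_3_2 lc_a_rc_3_0 lc_a_rc_5_0 lc_a_rc_5_2 lc_a_rc_3_2 lc_a_rc_3_2 lc_a_rc_2_2 lc_a_rc_4_2 lc_a_rc_4_2 lc_a_rc_2_2 lc_a_rc_2_2 lc_a_rc_2_2 lc_a_rc_3_2 lc_a_rc_22_0 lc_a_rc_2_2 lc_a_rc_4_2 lc_a_rc_4_2 lc_a_rc_4_2 lc_a_rc_3_2 lc_a_rc_3_2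 lc_a_rc_4_2 lc_a_rc_3_2 lc_a_rc_5_0 lc_a_rc_3_0 lc_a_rc_4_2) (@D3.rec (fun _ => (Cert rels S Gen.a)) lc_a_rc_21_0 lc_a_rc_0_1 lc_a_rc_0_1 lc_a_rc_2_2 lc_a_rc_21_0 lc_a_rc_4_2 lc_a_rc_21_0 lc_a_rc_5_2 lc_a_rc_0_1 lc_a_rc_5_2 lc_a_rc_4_2 lc_a_rc_2_0 lc_a_rc_2_2 lc_a_rc_21_0 lc_a_rc_5_2 lc_a_rc_2_2 lc_a_rc_4_2 lc_a_Cert_tree lc_a_rc_4_2 lc_a_rc_3_2 lc_a_rc_0_1 lc_a_rc_3_2 lc_a_rc_3_2 lc_a_rc_4_2 lc_a_Cert_tree lc_a_rc_0_1 lc_a_rc_0_1 lc_a_rc_1_4 lc_a_rc_3_0 lc_a_rc_2_2 lc_a_rc_4_2 lc_a_rc_21_0 lc_a_rc_5_2 lc_a_rc_3_2 lc_a_rc_4_2 lc_a_rc_3_2 lc_a_rc_0_1 lc_a_rc_1_4 lc_a_rc_3_2 lc_a_rc_2_2 lc_a_rc_5_0 lc_a_rc_3_2 lc_a_rc_3_2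 lc_a_rc_3_2 lc_a_rc_3_2 lc_a_rc_3_2 lc_a_rc_3_2 lc_a_rc_21_0 lc_a_rc_21_0 lc_a_rc_3_2 lc_a_rc_5_2 lc_a_rc_1_2 lc_a_rc_2_2 lc_a_rc_2_2 lc_a_rc_4_2 lc_a_rc_22_0 lc_a_rc_4_2 lc_a_rc_2_2 lc_a_rc_5_0 lc_a_rc_2_2 lc_a_rc_2_2 lc_a_rc_2_2) (@D3.rec (fun _ => (Cert rels S Gen.a)) lc_a_rc_4_2 lc_a_rc_2_2 lc_a_rc_5_2 lc_a_rc_0_1 lc_a_rc_5_2 lc_a_rc_21_0 lc_a_rc_0_1 lc_a_rc_5_2 lc_a_rc_1_2 lc_a_rc_2_2 lc_a_rc_0_1 lc_a_rc_21_0 lc_a_rc_2_2 lc_a_rc_0_1 lc_a_rc_0_1 lc_a_rc_4_2 lc_a_rc_3_0 lc_a_rc_4_2 lc_a_rc_3_2 lc_a_rc_21_0 lc_a_rc_4_2 lc_a_rc_2_2 lc_a_rc_21_0 lc_a_rc_0_1 lc_a_Cert_tree lc_a_rc_3_2 lc_a_rc_4_0 lc_a_rc_3_2 lc_a_rc_4_2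 lc_a_rc_1_2 lc_a_rc_4_2 lc_a_rc_0_1 lc_a_rc_2_2 lc_a_rc_4_2 lc_a_rc_3_2 lc_a_rc_5_2 lc_a_rc_0_1 lc_a_rc_21_0 lc_a_Cert_tree lc_a_rc_22_0 lc_a_rc_4_2 lc_a_Cert_tree lc_a_rc_5_2 lc_a_rc_0_1 lc_a_rc_21_0 lc_a_rc_4_2 lc_a_rc_3_0 lc_a_rc_2_2 lc_a_rc_4_0 lc_a_rc_2_2 lc_a_rc_3_2 lc_a_rc_3_2 lc_a_rc_21_0 lc_a_rc_5_0 lc_a_rc_2_2 lc_a_rc_2_2 lc_a_rc_22_0 lc_a_rc_3_2 lc_a_rc_1_4 lc_a_rc_4_2 lc_a_rc_1_2 lc_a_rc_3_2) (@D3.rec (fun _ => (Cert rels S Gen.a)) lc_a_rc_5_2 lc_a_rc_2_2 lc_a_rc_4_2 lc_a_rc_1_2 lc_a_rc_2_2 lc_a_rc_5_2 lc_a_rc_5_0 lc_a_rc_4_2 lc_a_rc_0_1 lc_a_rc_5_0 lc_a_rc_3_2 lc_a_rc_2_2 lc_a_rc_3_2 lc_a_rc_2_2 lc_a_rc_4_2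 lc_a_rc_5_2 lc_a_rc_4_2 lc_a_rc_1_4 lc_a_rc_5_0 lc_a_rc_22_0 lc_a_rc_4_2 lc_a_rc_2_2 lc_a_rc_4_2 lc_a_rc_5_2 lc_a_rc_2_0 lc_a_Cert_tree lc_a_rc_2_2 lc_a_rc_4_2 lc_a_rc_2_0 lc_a_rc_2_2 lc_a_rc_4_2 lc_a_rc_5_2 lc_a_rc_2_2 lc_a_rc_21_0 lc_a_rc_3_2 lc_a_rc_21_0 lc_a_rc_2_2 lc_a_rc_5_2 lc_a_rc_21_0 lc_a_rc_0_1 lc_a_rc_1_4 lc_a_rc_3_2 lc_a_rc_2_2 lc_a_rc_3_2 lc_a_rc_3_2 lc_a_rc_5_2 lc_a_rc_2_2 lc_a_rc_3_2 lc_a_rc_4_2 lc_a_rc_0_1 lc_a_rc_21_0 lc_a_rc_4_2 lc_a_rc_5_0 lc_a_rc_22_0 lc_a_rc_0_1 lc_a_rc_3_2 lc_a_rc_4_2 lc_a_rc_4_2 lc_a_rc_3_2 lc_a_rc_4_0 lc_a_rc_2_0 lc_a_rc_2_2) (@D3.rec (fun _ => (Cert rels S Gen.a)) lc_a_rc_4_2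 lc_a_rc_21_0 lc_a_rc_2_2 lc_a_rc_4_2 lc_a_rc_2_2 lc_a_rc_4_2 lc_a_rc_21_0 lc_a_rc_4_2 lc_a_rc_21_0 lc_a_rc_2_2 lc_a_rc_1_4 lc_a_rc_3_2 lc_a_rc_2_2 lc_a_rc_3_2 lc_a_rc_2_2 lc_a_rc_4_2 lc_a_rc_3_0 lc_a_rc_4_2 lc_a_rc_2_2 lc_a_rc_2_2 lc_a_rc_3_0 lc_a_rc_0_1 lc_a_rc_5_0 lc_a_Cert_tree lc_a_rc_2_2 lc_a_rc_4_2 lc_a_rc_4_2 lc_a_rc_4_0 lc_a_rc_1_2 lc_a_rc_0_1 lc_a_rc_2_2 lc_a_rc_4_2 lc_a_rc_4_2 lc_a_rc_4_2 lc_a_rc_4_2 lc_a_rc_3_2 lc_a_rc_5_2 lc_a_rc_0_1 lc_a_rc_1_2 lc_a_rc_21_0 lc_a_rc_4_2 lc_a_rc_3_2 lc_a_rc_0_1 lc_a_rc_3_0 lc_a_rc_3_2 lc_a_rc_4_2 lc_a_rc_5_2 lc_a_rc_5_2 lc_a_rc_4_2 lc_a_rc_3_2 lc_a_rc_5_2 lc_a_rc_2_2 lc_a_rc_3_2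 lc_a_rc_3_2 lc_a_rc_5_0 lc_a_rc_5_2 lc_a_rc_21_0 lc_a_rc_4_2 lc_a_rc_0_1 lc_a_rc_4_0 lc_a_rc_3_2 lc_a_rc_3_0) (@D3.rec (fun _ => (Cert rels S Gen.a)) lc_a_rc_3_0 lc_a_rc_3_2 lc_a_rc_1_4 lc_a_rc_4_2 lc_a_rc_2_2 lc_a_rc_3_2 lc_a_rc_4_2 lc_a_rc_0_1 lc_a_rc_0_1 lc_a_rc_2_2 lc_a_rc_3_2 lc_a_rc_4_2 lc_a_rc_3_2 lc_a_rc_3_2 lc_a_rc_3_2 lc_a_rc_5_2 lc_a_rc_3_0 lc_a_rc_2_2 lc_a_rc_0_1 lc_a_rc_3_0 lc_a_rc_5_2 lc_a_rc_1_4 lc_a_rc_3_0 lc_a_rc_3_2 lc_a_rc_1_2 lc_a_rc_4_2 lc_a_rc_3_2 lc_a_rc_2_2 lc_a_rc_3_2 lc_a_rc_4_2 lc_a_rc_5_2 lc_a_rc_2_0 lc_a_rc_0_1 lc_a_rc_21_0 lc_a_rc_21_0 lc_a_rc_4_2 lc_a_rc_4_2 lc_a_rc_4_0 lc_a_rc_3_2 lc_a_rc_5_2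 lc_a_rc_0_1 lc_a_rc_3_2 lc_a_rc_0_1 lc_a_rc_5_0 lc_a_rc_0_1 lc_a_rc_0_1 lc_a_rc_2_2 lc_a_rc_0_1 lc_a_rc_3_2 lc_a_rc_0_1 lc_a_rc_0_1 lc_a_rc_0_1 lc_a_rc_2_2 lc_a_rc_21_0 lc_a_rc_3_2 lc_a_rc_1_2 lc_a_rc_2_2 lc_a_rc_0_1 lc_a_rc_2_2 lc_a_rc_1_4 lc_a_rc_21_0 lc_a_rc_4_2) (@D3.rec (fun _ => (Cert rels S Gen.a)) lc_a_rc_3_2 lc_a_rc_4_2 lc_a_rc_3_0 lc_a_rc_4_2 lc_a_rc_2_2 lc_a_rc_5_0 lc_a_rc_4_2 lc_a_rc_4_0 lc_a_rc_5_0 lc_a_rc_1_0 lc_a_rc_21_0 lc_a_rc_4_2 lc_a_rc_0_1 lc_a_rc_22_0 lc_a_rc_1_4 lc_a_rc_3_2 lc_a_rc_3_2 lc_a_rc_21_0 lc_a_rc_3_2 lc_a_rc_4_0 lc_a_rc_2_0 lc_a_rc_1_2 lc_a_rc_21_0 lc_a_rc_5_2 lc_a_rc_3_2 lc_a_rc_3_0 lc_a_rc_4_2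 lc_a_rc_5_0 lc_a_rc_4_2 lc_a_rc_3_2 lc_a_rc_1_2 lc_a_rc_3_2 lc_a_rc_22_0 lc_a_rc_0_1 lc_a_rc_2_2 lc_a_rc_4_2 lc_a_rc_3_2 lc_a_rc_22_0 lc_a_rc_5_2 lc_a_rc_2_2 lc_a_rc_21_0 lc_a_rc_2_2 lc_a_rc_3_2 lc_a_rc_3_2 lc_a_rc_3_0 lc_a_rc_1_4 lc_a_rc_21_0 lc_a_rc_1_4 lc_a_rc_5_2 lc_a_rc_22_0 lc_a_rc_4_2 lc_a_rc_0_1 lc_a_rc_1_2 lc_a_rc_5_2 lc_a_rc_4_2 lc_a_rc_4_2 lc_a_rc_5_0 lc_a_rc_5_2 lc_a_rc_0_1 lc_a_rc_0_1 lc_a_rc_4_2 lc_a_rc_3_2) (@D3.rec (fun _ => (Cert rels S Gen.a)) lc_a_rc_2_2 lc_a_Cert_tree lc_a_rc_4_2 lc_a_rc_2_2 lc_a_Cert_tree lc_a_rc_4_2 lc_a_rc_2_2 lc_a_rc_2_2 lc_a_rc_2_0 lc_a_rc_3_2 lc_a_rc_2_2 lc_a_rc_5_2 lc_a_Cert_tree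 lc_a_rc_2_2 lc_a_rc_0_1 lc_a_rc_1_4 lc_a_rc_3_2 lc_a_rc_2_2 lc_a_rc_4_0 lc_a_rc_21_0 lc_a_rc_5_2 lc_a_rc_3_2 lc_a_rc_3_2 lc_a_rc_3_2 lc_a_rc_0_1 lc_a_rc_21_0 lc_a_rc_4_2 lc_a_rc_4_2 lc_a_rc_4_2 lc_a_rc_3_2 lc_a_rc_3_2 lc_a_rc_5_2 lc_a_rc_5_0 lc_a_rc_0_1 lc_a_rc_1_4 lc_a_rc_3_0 lc_a_rc_5_0 lc_a_rc_4_2 lc_a_rc_2_2 lc_a_rc_1_2 lc_a_rc_2_2 lc_a_rc_4_2 lc_a_rc_5_2 lc_a_rc_21_0 lc_a_rc_4_2 lc_a_rc_4_0 lc_a_rc_3_2 lc_a_rc_0_1 lc_a_rc_21_0 lc_a_rc_2_2 lc_a_rc_3_2 lc_a_rc_2_2 lc_a_rc_21_0 lc_a_rc_4_2 lc_a_rc_0_1 lc_a_rc_2_0 lc_a_rc_4_0 lc_a_rc_2_2 lc_a_rc_3_2 lc_a_rc_1_2 lc_a_rc_2_2 lc_a_rc_2_2) (@D3.rec (fun _ => (Cert rels S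 Gen.a)) lc_a_rc_4_0 lc_a_rc_3_0 lc_a_rc_1_2 lc_a_rc_5_0 lc_a_rc_0_1 lc_a_rc_0_1 lc_a_rc_3_2 lc_a_rc_0_1 lc_a_rc_3_2 lc_a_rc_3_2 lc_a_rc_21_0 lc_a_rc_3_2 lc_a_rc_5_2 lc_a_rc_2_0 lc_a_rc_4_0 lc_a_rc_0_1 lc_a_rc_21_0 lc_a_rc_4_2 lc_a_rc_4_2 lc_a_rc_4_2 lc_a_rc_3_2 lc_a_rc_4_0 lc_a_rc_5_0 lc_a_rc_3_2 lc_a_rc_5_0 lc_a_rc_2_2 lc_a_rc_4_0 lc_a_rc_21_0 lc_a_rc_3_2 lc_a_rc_2_0 lc_a_rc_1_4 lc_a_rc_2_2 lc_a_rc_5_0 lc_a_rc_4_2 lc_a_rc_2_2 lc_a_rc_3_2 lc_a_rc_5_0 lc_a_rc_3_2 lc_a_rc_3_2 lc_a_rc_2_2 lc_a_rc_4_2 lc_a_rc_2_2 lc_a_rc_4_2 lc_a_rc_2_2 lc_a_rc_3_0 lc_a_rc_2_2 lc_a_rc_4_2 lc_a_rc_2_2 lc_a_rc_21_0 lc_a_rc_3_2 lc_a_rc_2_2 lc_a_rc_0_1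 lc_a_rc_3_2 lc_a_rc_4_2 lc_a_Cert_tree lc_a_rc_0_1 lc_a_rc_4_2 lc_a_rc_4_2 lc_a_rc_4_2 lc_a_rc_21_0 lc_a_rc_0_1 lc_a_rc_4_0) (@D3.rec (fun _ => (Cert rels S Gen.a)) lc_a_rc_2_2 lc_a_rc_21_0 lc_a_rc_4_2 lc_a_rc_2_0 lc_a_rc_4_2 lc_a_rc_3_2 lc_a_Cert_tree lc_a_rc_3_2 lc_a_Cert_tree lc_a_rc_5_0 lc_a_rc_21_0 lc_a_rc_5_0 lc_a_rc_3_2 lc_a_rc_22_0 lc_a_rc_3_2 lc_a_rc_5_2 lc_a_rc_1_4 lc_a_rc_2_2 lc_a_rc_4_2 lc_a_rc_3_2 lc_a_rc_2_2 lc_a_rc_1_2 lc_a_rc_3_2 lc_a_rc_3_2 lc_a_rc_2_2 lc_a_rc_4_2 lc_a_rc_3_2 lc_a_rc_3_0 lc_a_rc_4_2 lc_a_rc_21_0 lc_a_rc_4_2 lc_a_rc_3_2 lc_a_rc_2_2 lc_a_rc_3_2 lc_a_rc_21_0 lc_a_rc_2_0 lc_a_rc_1_0 lc_a_rc_3_0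 lc_a_rc_4_0 lc_a_rc_3_2 lc_a_rc_21_0 lc_a_rc_0_1 lc_a_rc_3_2 lc_a_rc_3_2 lc_a_rc_0_1 lc_a_rc_4_2 lc_a_rc_3_2 lc_a_rc_3_2 lc_a_rc_4_2 lc_a_rc_5_0 lc_a_rc_0_1 lc_a_rc_4_2 lc_a_rc_5_2 lc_a_rc_5_2 lc_a_rc_21_0 lc_a_rc_1_2 lc_a_rc_2_2 lc_a_rc_3_2 lc_a_rc_0_1 lc_a_rc_0_1 lc_a_rc_2_0 lc_a_rc_2_2) (@D3.rec (fun _ => (Cert rels S Gen.a)) lc_a_rc_2_2 lc_a_rc_4_2 lc_a_rc_2_2 lc_a_rc_4_2 lc_a_rc_2_0 lc_a_rc_3_2 lc_a_rc_5_2 lc_a_rc_21_0 lc_a_rc_21_0 lc_a_rc_4_2 lc_a_rc_1_2 lc_a_rc_0_1 lc_a_rc_2_2 lc_a_rc_21_0 lc_a_rc_2_0 lc_a_rc_3_2 lc_a_rc_21_0 lc_a_rc_2_2 lc_a_rc_0_1 lc_a_rc_3_0 lc_a_rc_0_1 lc_a_rc_21_0 lc_a_rc_0_1 lc_a_rc_5_0 lc_a_rc_21_0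 lc_a_rc_3_2 lc_a_rc_4_2 lc_a_rc_4_0 lc_a_rc_21_0 lc_a_rc_3_2 lc_a_rc_1_2 lc_a_rc_2_2 lc_a_rc_4_2 lc_a_rc_3_2 lc_a_rc_3_2 lc_a_rc_2_2 lc_a_rc_5_0 lc_a_rc_4_0 lc_a_rc_3_2 lc_a_rc_2_2 lc_a_rc_5_2 lc_a_rc_21_0 lc_a_rc_4_2 lc_a_rc_2_0 lc_a_rc_2_2 lc_a_rc_0_1 lc_a_rc_3_0 lc_a_rc_3_0 lc_a_rc_21_0 lc_a_rc_4_2 lc_a_Cert_tree lc_a_rc_3_0 lc_a_rc_2_0 lc_a_rc_4_2 lc_a_rc_2_0 lc_a_rc_22_0 lc_a_rc_0_1 lc_a_rc_3_2 lc_a_rc_2_2 lc_a_rc_1_2 lc_a_rc_0_1 lc_a_rc_4_2)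
def ce_a_23 : D2 → D3 → (Cert rels S Gen.a) := @D2.rec (fun _ => D3 → (Cert rels S Gen.a)) (@D3.rec (fun _ => (Cert rels S Gen.a)) lc_a_rc_1_2 lc_a_rc_3_2 lc_a_rc_2_2 lc_a_rc_4_2 lc_a_rc_3_2 lc_a_rc_2_2 lc_a_rc_4_2 lc_a_rc_3_0 lc_a_rc_3_0 lc_a_rc_2_2 lc_a_rc_2_0 lc_a_rc_3_2 lc_a_rc_2_0 lc_a_rc_3_2 lc_a_rc_0_1 lc_a_rc_2_2 lc_a_rc_21_0 lc_a_rc_3_0 lc_a_rc_0_1 lc_a_rc_1_0 lc_a_rc_1_4 lc_a_rc_3_0 lc_a_rc_0_1 lc_a_rc_2_2 lc_a_rc_3_2 lc_a_rc_2_0 lc_a_rc_4_0 lc_a_rc_1_0 lc_a_rc_1_0 lc_a_rc_2_2 lc_a_rc_21_0 lc_a_rc_1_0 lc_a_rc_0_1 lc_a_rc_4_0 lc_a_rc_2_2 lc_a_rc_1_0 lc_a_rc_3_0 lc_a_rc_5_0 lc_a_rc_5_2 lc_a_rc_4_2 lc_a_rc_21_0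 lc_a_rc_2_0 lc_a_rc_4_2 lc_a_rc_21_0 lc_a_rc_2_2 lc_a_rc_4_2 lc_a_rc_3_2 lc_a_rc_4_2 lc_a_rc_5_2 lc_a_rc_0_1 lc_a_rc_0_1 lc_a_rc_4_2 lc_a_rc_5_0 lc_a_rc_4_2 lc_a_rc_22_0 lc_a_rc_1_2 lc_a_rc_2_2 lc_a_rc_2_2 lc_a_rc_2_2 lc_a_rc_4_2 lc_a_rc_4_2 lc_a_rc_0_1) (@D3.rec (fun _ => (Cert rels S Gen.a)) lc_a_rc_0_1 lc_a_rc_21_0 lc_a_rc_2_2 lc_a_rc_0_1 lc_a_rc_4_2 lc_a_rc_1_2 lc_a_rc_21_0 lc_a_rc_5_2 lc_a_rc_4_2 lc_a_rc_3_2 lc_a_rc_4_0 lc_a_rc_2_2 lc_a_rc_4_2 lc_a_rc_5_2 lc_a_rc_4_2 lc_a_rc_1_4 lc_a_rc_4_2 lc_a_rc_4_2 lc_a_rc_3_2 lc_a_rc_0_1 lc_a_rc_2_2 lc_a_rc_1_2 lc_a_rc_4_2 lc_a_rc_5_0 lc_a_rc_4_2 lc_a_rc_0_1 lc_a_rc_3_0 lc_a_rc_3_0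 lc_a_rc_5_2 lc_a_rc_21_0 lc_a_rc_2_0 lc_a_rc_0_1 lc_a_rc_0_1 lc_a_rc_0_1 lc_a_rc_5_0 lc_a_rc_2_2 lc_a_rc_2_2 lc_a_rc_2_0 lc_a_rc_3_2 lc_a_rc_1_4 lc_a_rc_2_2 lc_a_rc_4_2 lc_a_rc_0_1 lc_a_rc_3_2 lc_a_rc_0_1 lc_a_rc_5_0 lc_a_rc_0_1 lc_a_rc_21_0 lc_a_rc_4_2 lc_a_rc_0_1 lc_a_rc_5_2 lc_a_rc_21_0 lc_a_rc_1_0 lc_a_rc_0_1 lc_a_rc_21_0 lc_a_rc_4_2 lc_a_rc_22_0 lc_a_rc_2_0 lc_a_rc_22_0 lc_a_rc_5_0 lc_a_rc_4_2 lc_a_rc_2_2) (@D3.rec (fun _ => (Cert rels S Gen.a)) lc_a_rc_3_2 lc_a_rc_5_2 lc_a_rc_4_2 lc_a_rc_0_1 lc_a_rc_1_2 lc_a_rc_4_0 lc_a_rc_3_0 lc_a_Cert_tree lc_a_rc_3_0 lc_a_rc_1_2 lc_a_rc_21_0 lc_a_rc_3_0 lc_a_rc_3_2 lc_a_rc_2_0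 lc_a_rc_4_2 lc_a_rc_2_2 lc_a_rc_3_0 lc_a_rc_2_2 lc_a_rc_2_2 lc_a_rc_2_2 lc_a_rc_5_2 lc_a_rc_4_0 lc_a_rc_1_4 lc_a_rc_4_2 lc_a_rc_2_2 lc_a_rc_4_2 lc_a_rc_2_0 lc_a_rc_4_2 lc_a_rc_1_4 lc_a_rc_2_0 lc_a_rc_4_2 lc_a_rc_22_0 lc_a_rc_2_0 lc_a_rc_4_2 lc_a_rc_4_0 lc_a_rc_3_2 lc_a_rc_0_1 lc_a_rc_21_0 lc_a_rc_3_2 lc_a_rc_5_2 lc_a_rc_3_0 lc_a_rc_21_0 lc_a_rc_21_0 lc_a_rc_4_2 lc_a_rc_21_0 lc_a_rc_0_1 lc_a_rc_3_2 lc_a_rc_2_0 lc_a_rc_3_2 lc_a_rc_2_0 lc_a_rc_3_2 lc_a_rc_2_2 lc_a_rc_21_0 lc_a_rc_0_1 lc_a_rc_2_0 lc_a_rc_4_2 lc_a_rc_4_2 lc_a_rc_5_2 lc_a_rc_4_2 lc_a_rc_0_1 lc_a_rc_1_0 lc_a_rc_5_0) (@D3.rec (fun _ => (Cert rels S Gen.a)) lc_a_rc_4_2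 lc_a_rc_0_1 lc_a_rc_4_2 lc_a_rc_21_0 lc_a_rc_0_1 lc_a_rc_3_2 lc_a_rc_5_2 lc_a_rc_4_0 lc_a_rc_4_0 lc_a_rc_2_0 lc_a_rc_0_1 lc_a_rc_5_0 lc_a_rc_21_0 lc_a_rc_3_2 lc_a_Cert_tree lc_a_rc_1_4 lc_a_rc_1_2 lc_a_rc_3_2 lc_a_rc_4_2 lc_a_rc_5_0 lc_a_rc_21_0 lc_a_rc_1_4 lc_a_rc_0_1 lc_a_rc_0_1 lc_a_rc_5_2 lc_a_rc_1_2 lc_a_rc_3_2 lc_a_rc_4_2 lc_a_rc_21_0 lc_a_rc_2_2 lc_a_rc_1_4 lc_a_rc_1_4 lc_a_rc_4_2 lc_a_rc_5_0 lc_a_rc_3_2 lc_a_rc_5_2 lc_a_rc_4_2 lc_a_rc_4_2 lc_a_rc_4_2 lc_a_rc_4_2 lc_a_rc_5_0 lc_a_rc_1_4 lc_a_rc_4_2 lc_a_rc_3_2 lc_a_rc_21_0 lc_a_rc_5_0 lc_a_rc_5_0 lc_a_rc_3_0 lc_a_rc_22_0 lc_a_rc_2_2 lc_a_rc_3_0 lc_a_rc_2_2 lc_a_rc_2_2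 lc_a_rc_2_2 lc_a_rc_4_2 lc_a_rc_2_0 lc_a_rc_1_4 lc_a_rc_3_2 lc_a_rc_22_0 lc_a_rc_1_2 lc_a_rc_2_2 lc_a_rc_4_2) (@D3.rec (fun _ => (Cert rels S Gen.a)) lc_a_rc_1_2 lc_a_rc_2_2 lc_a_rc_21_0 lc_a_rc_0_1 lc_a_rc_1_2 lc_a_rc_5_0 lc_a_rc_3_2 lc_a_rc_3_2 lc_a_rc_3_2 lc_a_rc_2_2 lc_a_rc_5_0 lc_a_rc_4_2 lc_a_rc_21_0 lc_a_rc_0_1 lc_a_rc_4_2 lc_a_rc_5_2 lc_a_rc_5_2 lc_a_rc_0_1 lc_a_rc_0_1 lc_a_rc_21_0 lc_a_rc_2_2 lc_a_rc_1_4 lc_a_rc_5_2 lc_a_rc_4_2 lc_a_rc_2_0 lc_a_rc_2_2 lc_a_rc_4_2 lc_a_rc_2_2 lc_a_rc_21_0 lc_a_rc_3_2 lc_a_rc_4_2 lc_a_rc_4_0 lc_a_rc_4_0 lc_a_rc_1_2 lc_a_rc_4_2 lc_a_rc_3_2 lc_a_rc_4_0 lc_a_rc_4_2 lc_a_rc_3_0 lc_a_rc_3_2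 lc_a_rc_2_2 lc_a_rc_3_2 lc_a_rc_5_0 lc_a_rc_1_2 lc_a_rc_4_0 lc_a_rc_4_2 lc_a_rc_4_2 lc_a_rc_5_2 lc_a_rc_4_2 lc_a_rc_0_1 lc_a_rc_4_2 lc_a_rc_2_0 lc_a_rc_4_2 lc_a_rc_0_1 lc_a_rc_21_0 lc_a_rc_0_1 lc_a_rc_2_2 lc_a_rc_0_1 lc_a_rc_3_0 lc_a_rc_22_0 lc_a_rc_4_2 lc_a_rc_1_4) (@D3.rec (fun _ => (Cert rels S Gen.a)) lc_a_rc_4_0 lc_a_rc_3_2 lc_a_rc_4_2 lc_a_rc_0_1 lc_a_rc_5_2 lc_a_rc_22_0 lc_a_rc_21_0 lc_a_rc_4_2 lc_a_rc_21_0 lc_a_rc_2_0 lc_a_rc_4_2 lc_a_rc_4_2 lc_a_rc_2_2 lc_a_rc_4_2 lc_a_rc_21_0 lc_a_rc_5_2 lc_a_rc_2_2 lc_a_rc_3_2 lc_a_rc_21_0 lc_a_rc_0_1 lc_a_rc_5_2 lc_a_rc_21_0 lc_a_rc_4_2 lc_a_rc_4_2 lc_a_rc_5_0 lc_a_rc_4_2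 lc_a_rc_4_2 lc_a_rc_0_1 lc_a_rc_4_2 lc_a_rc_4_2 lc_a_rc_1_2 lc_a_rc_3_2 lc_a_rc_5_2 lc_a_rc_5_0 lc_a_rc_4_2 lc_a_rc_5_0 lc_a_rc_3_0 lc_a_rc_5_2 lc_a_rc_0_1 lc_a_rc_0_1 lc_a_rc_21_0 lc_a_rc_1_2 lc_a_rc_2_2 lc_a_rc_2_2 lc_a_rc_2_0 lc_a_rc_4_2 lc_a_rc_3_2 lc_a_rc_4_0 lc_a_rc_5_2 lc_a_rc_3_2 lc_a_rc_3_2 lc_a_rc_2_0 lc_a_rc_2_2 lc_a_rc_3_0 lc_a_rc_3_2 lc_a_rc_3_2 lc_a_rc_3_0 lc_a_rc_21_0 lc_a_rc_3_2 lc_a_rc_4_0 lc_a_rc_4_2 lc_a_rc_4_2) (@D3.rec (fun _ => (Cert rels S Gen.a)) lc_a_rc_4_2 lc_a_rc_2_0 lc_a_rc_2_2 lc_a_rc_4_2 lc_a_rc_3_2 lc_a_rc_4_0 lc_a_rc_0_1 lc_a_rc_2_2 lc_a_rc_0_1 lc_a_rc_4_2 lc_a_rc_21_0 lc_a_rc_3_2 lc_a_rc_3_2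 lc_a_rc_1_4 lc_a_rc_3_2 lc_a_rc_4_2 lc_a_rc_21_0 lc_a_rc_3_2 lc_a_rc_21_0 lc_a_rc_4_2 lc_a_rc_3_2 lc_a_rc_0_1 lc_a_rc_2_0 lc_a_rc_5_2 lc_a_rc_0_1 lc_a_rc_0_1 lc_a_rc_21_0 lc_a_rc_0_1 lc_a_rc_4_2 lc_a_rc_0_1 lc_a_rc_2_2 lc_a_rc_4_2 lc_a_rc_3_2 lc_a_rc_3_2 lc_a_rc_4_2 lc_a_Cert_tree lc_a_rc_2_2 lc_a_rc_4_2 lc_a_rc_3_2 lc_a_rc_3_2 lc_a_rc_5_0 lc_a_rc_3_2 lc_a_rc_0_1 lc_a_rc_0_1 lc_a_rc_4_2 lc_a_rc_4_2 lc_a_rc_0_1 lc_a_rc_5_2 lc_a_rc_1_4 lc_a_rc_0_1 lc_a_rc_5_2 lc_a_rc_0_1 lc_a_rc_4_2 lc_a_rc_3_0 lc_a_rc_3_0 lc_a_rc_3_0 lc_a_rc_0_1 lc_a_rc_2_2 lc_a_rc_4_2 lc_a_rc_2_2 lc_a_rc_4_2 lc_a_rc_4_2) (@D3.rec (fun _ => (Cert rels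 S Gen.a)) lc_a_rc_3_2 lc_a_rc_2_2 lc_a_rc_4_2 lc_a_rc_2_2 lc_a_rc_0_1 lc_a_rc_2_0 lc_a_rc_3_2 lc_a_rc_21_0 lc_a_rc_5_2 lc_a_rc_4_2 lc_a_rc_2_0 lc_a_rc_4_2 lc_a_rc_3_2 lc_a_rc_2_2 lc_a_rc_4_2 lc_a_rc_3_2 lc_a_rc_5_2 lc_a_rc_3_2 lc_a_rc_2_2 lc_a_rc_5_2 lc_a_rc_2_2 lc_a_rc_0_1 lc_a_rc_4_2 lc_a_rc_3_0 lc_a_rc_2_0 lc_a_rc_2_0 lc_a_rc_5_2 lc_a_rc_2_2 lc_a_rc_4_2 lc_a_rc_4_0 lc_a_rc_4_0 lc_a_rc_0_1 lc_a_rc_3_2 lc_a_rc_21_0 lc_a_rc_4_2 lc_a_rc_4_2 lc_a_rc_2_0 lc_a_rc_4_2 lc_a_rc_3_0 lc_a_rc_3_2 lc_a_rc_3_0 lc_a_rc_2_2 lc_a_rc_2_2 lc_a_rc_1_0 lc_a_rc_4_2 lc_a_rc_1_0 lc_a_rc_4_2 lc_a_rc_4_2 lc_a_rc_5_2 lc_a_rc_22_0 lc_a_rc_1_4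 lc_a_rc_1_0 lc_a_rc_4_2 lc_a_rc_0_1 lc_a_rc_4_2 lc_a_rc_0_1 lc_a_rc_3_2 lc_a_rc_3_0 lc_a_rc_4_2 lc_a_rc_21_0 lc_a_rc_5_2 lc_a_rc_22_0) (@D3.rec (fun _ => (Cert rels S Gen.a)) lc_a_rc_4_0 lc_a_rc_4_2 lc_a_rc_4_2 lc_a_rc_4_2 lc_a_rc_4_2 lc_a_rc_4_2 lc_a_rc_3_2 lc_a_rc_4_2 lc_a_rc_3_2 lc_a_rc_3_2 lc_a_rc_1_2 lc_a_rc_2_2 lc_a_rc_3_2 lc_a_rc_2_2 lc_a_rc_0_1 lc_a_rc_5_0 lc_a_rc_5_2 lc_a_Cert_tree lc_a_rc_4_2 lc_a_Cert_tree lc_a_rc_4_2 lc_a_rc_4_2 lc_a_rc_3_0 lc_a_rc_2_2 lc_a_rc_3_2 lc_a_rc_4_2 lc_a_rc_3_0 lc_a_rc_2_0 lc_a_rc_4_2 lc_a_rc_4_2 lc_a_rc_3_0 lc_a_rc_2_2 lc_a_rc_5_0 lc_a_rc_3_2 lc_a_rc_5_0 lc_a_rc_3_2 lc_a_rc_4_2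 lc_a_rc_2_0 lc_a_rc_21_0 lc_a_rc_21_0 lc_a_rc_2_2 lc_a_rc_3_2 lc_a_rc_1_4 lc_a_rc_3_2 lc_a_rc_21_0 lc_a_rc_3_0 lc_a_rc_5_0 lc_a_rc_0_1 lc_a_rc_2_0 lc_a_rc_21_0 lc_a_rc_5_2 lc_a_rc_21_0 lc_a_rc_4_2 lc_a_rc_2_2 lc_a_rc_5_2 lc_a_rc_0_1 lc_a_rc_5_0 lc_a_rc_4_2 lc_a_rc_4_0 lc_a_rc_5_2 lc_a_rc_5_2 lc_a_rc_4_2) (@D3.rec (fun _ => (Cert rels S Gen.a)) lc_a_rc_2_2 lc_a_rc_3_0 lc_a_rc_0_1 lc_a_rc_3_2 lc_a_rc_2_2 lc_a_rc_1_2 lc_a_rc_3_2 lc_a_rc_4_2 lc_a_rc_3_2 lc_a_rc_21_0 lc_a_rc_2_2 lc_a_rc_5_2 lc_a_rc_4_2 lc_a_rc_4_2 lc_a_rc_3_2 lc_a_rc_4_2 lc_a_rc_21_0 lc_a_rc_4_2 lc_a_rc_21_0 lc_a_rc_2_2 lc_a_rc_22_0 lc_a_rc_2_2 lc_a_rc_3_0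 lc_a_rc_1_0 lc_a_rc_22_0 lc_a_rc_21_0 lc_a_rc_21_0 lc_a_rc_3_2 lc_a_rc_1_2 lc_a_rc_2_2 lc_a_rc_3_2 lc_a_rc_3_2 lc_a_rc_1_0 lc_a_rc_4_2 lc_a_rc_5_2 lc_a_rc_2_2 lc_a_rc_0_1 lc_a_rc_3_2 lc_a_rc_21_0 lc_a_rc_21_0 lc_a_rc_2_0 lc_a_rc_3_2 lc_a_rc_0_1 lc_a_rc_3_0 lc_a_rc_4_0 lc_a_rc_1_4 lc_a_rc_21_0 lc_a_rc_1_2 lc_a_rc_2_2 lc_a_rc_21_0 lc_a_rc_2_2 lc_a_rc_3_2 lc_a_rc_5_2 lc_a_rc_5_2 lc_a_rc_0_1 lc_a_rc_4_2 lc_a_rc_2_2 lc_a_rc_2_0 lc_a_rc_3_2 lc_a_rc_3_2 lc_a_rc_3_2 lc_a_rc_3_2) (@D3.rec (fun _ => (Cert rels S Gen.a)) lc_a_rc_5_0 lc_a_Cert_tree lc_a_rc_4_2 lc_a_rc_3_2 lc_a_rc_21_0 lc_a_rc_4_2 lc_a_rc_5_2 lc_a_rc_21_0 lc_a_rc_4_2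 lc_a_rc_2_2 lc_a_rc_4_2 lc_a_rc_0_1 lc_a_rc_3_2 lc_a_rc_4_0 lc_a_rc_1_0 lc_a_rc_3_2 lc_a_rc_0_1 lc_a_rc_0_1 lc_a_rc_2_2 lc_a_rc_4_2 lc_a_rc_0_1 lc_a_rc_4_2 lc_a_rc_1_2 lc_a_rc_21_0 lc_a_rc_1_2 lc_a_rc_3_2 lc_a_rc_5_2 lc_a_rc_4_2 lc_a_rc_3_0 lc_a_rc_0_1 lc_a_rc_1_2 lc_a_rc_1_0 lc_a_rc_4_2 lc_a_rc_4_2 lc_a_rc_4_2 lc_a_rc_0_1 lc_a_rc_5_2 lc_a_rc_0_1 lc_a_rc_3_2 lc_a_rc_5_2 lc_a_rc_5_0 lc_a_rc_21_0 lc_a_rc_5_2 lc_a_rc_22_0 lc_a_rc_4_0 lc_a_rc_0_1 lc_a_rc_4_2 lc_a_rc_2_2 lc_a_rc_3_2 lc_a_rc_4_2 lc_a_rc_0_1 lc_a_rc_4_2 lc_a_rc_1_0 lc_a_rc_0_1 lc_a_rc_5_2 lc_a_rc_4_0 lc_a_rc_0_1 lc_a_rc_2_2 lc_a_rc_0_1 lc_a_rc_3_2 lc_a_rc_2_0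 lc_a_rc_5_2) (@D3.rec (fun _ => (Cert rels S Gen.a)) lc_a_rc_21_0 lc_a_rc_5_0 lc_a_rc_2_2 lc_a_rc_3_2 lc_a_rc_4_2 lc_a_rc_5_0 lc_a_rc_21_0 lc_a_rc_4_2 lc_a_rc_0_1 lc_a_rc_5_2 lc_a_rc_4_2 lc_a_rc_2_0 lc_a_rc_4_0 lc_a_rc_0_1 lc_a_rc_5_2 lc_a_rc_2_2 lc_a_rc_2_0 lc_a_rc_0_1 lc_a_rc_1_4 lc_a_rc_1_0 lc_a_rc_1_0 lc_a_rc_3_2 lc_a_rc_2_2 lc_a_rc_1_2 lc_a_rc_21_0 lc_a_rc_2_2 lc_a_rc_4_2 lc_a_rc_4_0 lc_a_rc_4_2 lc_a_rc_1_0 lc_a_rc_4_2 lc_a_rc_1_4 lc_a_rc_4_2 lc_a_Cert_tree lc_a_rc_4_2 lc_a_Cert_tree lc_a_rc_4_2 lc_a_rc_21_0 lc_a_rc_3_2 lc_a_rc_2_2 lc_a_rc_1_4 lc_a_rc_2_2 lc_a_rc_4_2 lc_a_rc_2_2 lc_a_rc_2_2 lc_a_rc_2_0 lc_a_rc_22_0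 lc_a_rc_0_1 lc_a_rc_2_0 lc_a_rc_21_0 lc_a_rc_3_2 lc_a_rc_0_1 lc_a_rc_21_0 lc_a_rc_4_2 lc_a_rc_2_2 lc_a_rc_4_2 lc_a_rc_4_2 lc_a_rc_2_2 lc_a_rc_2_2 lc_a_rc_21_0 lc_a_rc_4_2 lc_a_rc_2_2) (@D3.rec (fun _ => (Cert rels S Gen.a)) lc_a_rc_1_2 lc_a_rc_22_0 lc_a_rc_3_2 lc_a_rc_4_2 lc_a_rc_2_2 lc_a_rc_2_2 lc_a_rc_0_1 lc_a_rc_3_0 lc_a_rc_3_0 lc_a_rc_1_4 lc_a_rc_3_0 lc_a_rc_0_1 lc_a_rc_4_2 lc_a_rc_3_2 lc_a_rc_5_0 lc_a_rc_3_2 lc_a_rc_3_0 lc_a_rc_4_2 lc_a_rc_4_0 lc_a_rc_4_0 lc_a_rc_5_2 lc_a_rc_4_2 lc_a_rc_3_2 lc_a_rc_4_2 lc_a_rc_0_1 lc_a_rc_3_0 lc_a_rc_0_1 lc_a_rc_2_2 lc_a_rc_3_0 lc_a_rc_4_0 lc_a_rc_1_2 lc_a_rc_5_2 lc_a_rc_0_1 lc_a_rc_1_0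 lc_a_rc_4_0 lc_a_rc_0_1 lc_a_rc_4_0 lc_a_rc_1_2 lc_a_rc_2_0 lc_a_rc_4_2 lc_a_rc_4_2 lc_a_rc_1_0 lc_a_rc_5_2 lc_a_rc_4_0 lc_a_rc_4_2 lc_a_rc_4_2 lc_a_rc_22_0 lc_a_rc_21_0 lc_a_rc_2_2 lc_a_rc_0_1 lc_a_rc_4_2 lc_a_rc_0_1 lc_a_rc_2_2 lc_a_rc_4_2 lc_a_rc_21_0 lc_a_rc_4_2 lc_a_rc_0_1 lc_a_rc_5_2 lc_a_rc_3_2 lc_a_rc_3_2 lc_a_rc_21_0 lc_a_rc_0_1) (@D3.rec (fun _ => (Cert rels S Gen.a)) lc_a_rc_2_2 lc_a_rc_4_2 lc_a_rc_4_0 lc_a_rc_3_0 lc_a_rc_3_2 lc_a_rc_3_2 lc_a_rc_4_2 lc_a_rc_3_2 lc_a_rc_0_1 lc_a_rc_2_2 lc_a_rc_21_0 lc_a_rc_3_2 lc_a_rc_3_2 lc_a_Cert_tree lc_a_rc_3_0 lc_a_rc_5_0 lc_a_rc_3_2 lc_a_rc_3_2 lc_a_rc_3_2 lc_a_rc_2_0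 lc_a_rc_22_0 lc_a_rc_5_2 lc_a_rc_2_2 lc_a_rc_21_0 lc_a_rc_0_1 lc_a_rc_22_0 lc_a_rc_5_2 lc_a_rc_3_0 lc_a_rc_21_0 lc_a_rc_5_2 lc_a_rc_2_2 lc_a_rc_2_2 lc_a_rc_3_0 lc_a_rc_4_2 lc_a_rc_1_2 lc_a_Cert_tree lc_a_rc_5_0 lc_a_rc_3_2 lc_a_rc_3_2 lc_a_rc_2_2 lc_a_rc_3_2 lc_a_rc_3_2 lc_a_rc_4_2 lc_a_rc_3_2 lc_a_rc_4_2 lc_a_rc_2_2 lc_a_rc_4_2 lc_a_rc_21_0 lc_a_rc_3_0 lc_a_rc_1_4 lc_a_rc_4_2 lc_a_rc_2_2 lc_a_rc_4_2 lc_a_rc_4_2 lc_a_rc_4_2 lc_a_rc_5_0 lc_a_rc_4_2 lc_a_rc_2_2 lc_a_Cert_tree lc_a_rc_3_2 lc_a_rc_2_0 lc_a_Cert_tree) (@D3.rec (fun _ => (Cert rels S Gen.a)) lc_a_rc_3_2 lc_a_rc_5_2 lc_a_rc_4_2 lc_a_rc_3_2 lc_a_rc_21_0 lc_a_rc_21_0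 lc_a_Cert_tree lc_a_rc_4_2 lc_a_rc_5_0 lc_a_rc_4_2 lc_a_rc_5_2 lc_a_rc_4_2 lc_a_rc_21_0 lc_a_rc_4_2 lc_a_rc_3_2 lc_a_rc_3_2 lc_a_rc_5_2 lc_a_Cert_tree lc_a_rc_4_2 lc_a_rc_0_1 lc_a_rc_21_0 lc_a_rc_0_1 lc_a_rc_4_2 lc_a_rc_4_2 lc_a_rc_2_2 lc_a_rc_0_1 lc_a_Cert_tree lc_a_rc_4_2 lc_a_rc_1_0 lc_a_rc_1_2 lc_a_rc_4_2 lc_a_rc_21_0 lc_a_rc_2_2 lc_a_Cert_tree lc_a_rc_4_2 lc_a_rc_5_0 lc_a_rc_4_0 lc_a_rc_5_2 lc_a_rc_4_2 lc_a_rc_3_2 lc_a_rc_0_1 lc_a_rc_2_2 lc_a_rc_3_0 lc_a_rc_3_2 lc_a_rc_3_2 lc_a_rc_3_2 lc_a_rc_21_0 lc_a_rc_2_2 lc_a_rc_0_1 lc_a_rc_5_0 lc_a_rc_5_0 lc_a_rc_4_2 lc_a_rc_3_2 lc_a_rc_4_2 lc_a_rc_0_1 lc_a_rc_4_2 lc_a_rc_2_2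 lc_a_rc_2_2 lc_a_rc_4_2 lc_a_rc_1_4 lc_a_rc_2_2 lc_a_rc_3_0) (@D3.rec (fun _ => (Cert rels S Gen.a)) lc_a_rc_21_0 lc_a_rc_2_0 lc_a_rc_2_2 lc_a_Cert_tree lc_a_rc_3_2 lc_a_rc_4_2 lc_a_rc_3_2 lc_a_rc_5_0 lc_a_rc_3_2 lc_a_Cert_tree lc_a_rc_3_2 lc_a_rc_2_2 lc_a_rc_2_0 lc_a_rc_1_2 lc_a_rc_3_2 lc_a_rc_4_2 lc_a_rc_4_2 lc_a_rc_3_0 lc_a_Cert_tree lc_a_rc_22_0 lc_a_rc_4_2 lc_a_rc_4_2 lc_a_rc_1_4 lc_a_rc_5_2 lc_a_rc_2_2 lc_a_rc_2_0 lc_a_rc_3_2 lc_a_rc_4_2 lc_a_rc_3_2 lc_a_rc_3_0 lc_a_rc_0_1 lc_a_rc_21_0 lc_a_rc_21_0 lc_a_rc_3_0 lc_a_rc_5_2 lc_a_rc_3_2 lc_a_rc_22_0 lc_a_rc_5_2 lc_a_rc_3_2 lc_a_rc_2_2 lc_a_rc_2_2 lc_a_rc_4_2 lc_a_rc_2_2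 lc_a_rc_1_2 lc_a_rc_2_2 lc_a_rc_0_1 lc_a_Cert_tree lc_a_rc_3_2 lc_a_rc_4_2 lc_a_rc_2_0 lc_a_rc_21_0 lc_a_rc_4_0 lc_a_rc_2_2 lc_a_rc_3_2 lc_a_rc_2_2 lc_a_rc_1_4 lc_a_Cert_tree lc_a_rc_4_2 lc_a_rc_5_0 lc_a_rc_1_2 lc_a_rc_5_2 lc_a_Cert_tree) (@D3.rec (fun _ => (Cert rels S Gen.a)) lc_a_rc_4_2 lc_a_rc_4_2 lc_a_rc_4_2 lc_a_rc_21_0 lc_a_rc_0_1 lc_a_rc_0_1 lc_a_rc_3_2 lc_a_rc_3_0 lc_a_rc_3_2 lc_a_rc_5_2 lc_a_rc_1_4 lc_a_rc_3_0 lc_a_rc_4_0 lc_a_rc_1_4 lc_a_rc_5_0 lc_a_rc_0_1 lc_a_rc_3_2 lc_a_rc_1_2 lc_a_rc_4_2 lc_a_rc_2_2 lc_a_rc_3_2 lc_a_rc_2_2 lc_a_rc_4_2 lc_a_rc_2_2 lc_a_rc_2_0 lc_a_rc_0_1 lc_a_rc_4_2 lc_a_rc_1_0 lc_a_rc_4_2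 lc_a_rc_2_2 lc_a_rc_2_2 lc_a_rc_22_0 lc_a_rc_5_2 lc_a_rc_4_0 lc_a_rc_4_0 lc_a_rc_4_2 lc_a_rc_22_0 lc_a_Cert_tree lc_a_rc_4_2 lc_a_rc_2_0 lc_a_rc_3_2 lc_a_rc_2_2 lc_a_rc_5_2 lc_a_rc_2_0 lc_a_rc_21_0 lc_a_rc_21_0 lc_a_rc_2_2 lc_a_rc_4_2 lc_a_rc_3_2 lc_a_rc_5_0 lc_a_rc_3_2 lc_a_rc_4_2 lc_a_Cert_tree lc_a_rc_4_2 lc_a_rc_2_2 lc_a_rc_2_2 lc_a_rc_5_2 lc_a_rc_2_0 lc_a_rc_0_1 lc_a_rc_2_0 lc_a_rc_21_0 lc_a_rc_21_0) (@D3.rec (fun _ => (Cert rels S Gen.a)) lc_a_rc_5_2 lc_a_rc_2_2 lc_a_rc_0_1 lc_a_rc_2_2 lc_a_rc_2_2 lc_a_rc_21_0 lc_a_rc_4_0 lc_a_rc_0_1 lc_a_rc_3_2 lc_a_rc_4_2 lc_a_rc_2_0 lc_a_rc_5_2 lc_a_rc_2_2 lc_a_rc_2_2 lc_a_rc_1_0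 lc_a_rc_0_1 lc_a_rc_0_1 lc_a_rc_1_4 lc_a_rc_2_2 lc_a_rc_5_0 lc_a_rc_4_2 lc_a_rc_5_2 lc_a_rc_1_4 lc_a_rc_2_2 lc_a_rc_0_1 lc_a_rc_4_2 lc_a_rc_3_2 lc_a_rc_0_1 lc_a_rc_21_0 lc_a_rc_4_0 lc_a_rc_2_0 lc_a_rc_2_2 lc_a_rc_5_0 lc_a_rc_4_0 lc_a_rc_2_2 lc_a_rc_5_0 lc_a_rc_3_2 lc_a_rc_4_2 lc_a_rc_5_2 lc_a_rc_3_2 lc_a_rc_3_0 lc_a_rc_3_2 lc_a_rc_1_2 lc_a_rc_3_2 lc_a_rc_2_0 lc_a_rc_3_2 lc_a_rc_21_0 lc_a_rc_21_0 lc_a_rc_21_0 lc_a_rc_22_0 lc_a_rc_4_2 lc_a_rc_4_2 lc_a_rc_5_0 lc_a_rc_3_0 lc_a_rc_22_0 lc_a_rc_2_2 lc_a_rc_4_2 lc_a_rc_1_2 lc_a_rc_0_1 lc_a_rc_2_0 lc_a_rc_2_2 lc_a_rc_21_0) (@D3.rec (fun _ => (Cert rels S Gen.a)) lc_a_rc_3_2 lc_a_rc_2_2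 lc_a_rc_2_0 lc_a_rc_2_0 lc_a_rc_0_1 lc_a_rc_21_0 lc_a_rc_0_1 lc_a_rc_2_2 lc_a_rc_4_2 lc_a_rc_5_2 lc_a_rc_4_2 lc_a_rc_21_0 lc_a_rc_3_2 lc_a_rc_22_0 lc_a_Cert_tree lc_a_rc_4_2 lc_a_rc_0_1 lc_a_rc_21_0 lc_a_rc_3_2 lc_a_rc_21_0 lc_a_rc_0_1 lc_a_rc_5_0 lc_a_rc_2_2 lc_a_rc_4_2 lc_a_rc_2_2 lc_a_rc_2_2 lc_a_rc_1_4 lc_a_rc_4_2 lc_a_rc_1_2 lc_a_rc_1_2 lc_a_rc_3_2 lc_a_rc_5_2 lc_a_rc_21_0 lc_a_rc_3_0 lc_a_rc_3_2 lc_a_rc_2_2 lc_a_rc_2_2 lc_a_rc_1_4 lc_a_rc_2_2 lc_a_rc_0_1 lc_a_rc_4_2 lc_a_rc_3_2 lc_a_rc_5_2 lc_a_rc_21_0 lc_a_rc_1_0 lc_a_rc_3_2 lc_a_rc_21_0 lc_a_rc_2_2 lc_a_rc_2_2 lc_a_rc_4_2 lc_a_rc_5_2 lc_a_rc_2_2 lc_a_rc_4_2 lc_a_rc_3_0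 lc_a_rc_3_0 lc_a_rc_5_2 lc_a_rc_4_2 lc_a_rc_4_2 lc_a_rc_3_2 lc_a_rc_5_2 lc_a_rc_0_1 lc_a_rc_2_2) (@D3.rec (fun _ => (Cert rels S Gen.a)) lc_a_rc_0_1 lc_a_rc_4_2 lc_a_rc_2_2 lc_a_rc_2_0 lc_a_rc_3_2 lc_a_rc_5_2 lc_a_Cert_tree lc_a_rc_2_2 lc_a_rc_4_0 lc_a_rc_0_1 lc_a_rc_0_1 lc_a_rc_4_2 lc_a_rc_3_2 lc_a_rc_4_2 lc_a_rc_5_2 lc_a_rc_4_2 lc_a_rc_0_1 lc_a_rc_22_0 lc_a_rc_3_2 lc_a_rc_3_2 lc_a_rc_21_0 lc_a_rc_4_2 lc_a_rc_3_2 lc_a_rc_4_2 lc_a_rc_2_2 lc_a_rc_4_2 lc_a_rc_2_0 lc_a_rc_3_2 lc_a_rc_3_2 lc_a_rc_4_2 lc_a_rc_2_2 lc_a_rc_4_2 lc_a_rc_0_1 lc_a_rc_4_2 lc_a_rc_21_0 lc_a_rc_2_2 lc_a_rc_2_2 lc_a_rc_3_2 lc_a_rc_3_2 lc_a_rc_2_2 lc_a_rc_2_2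 lc_a_rc_4_2 lc_a_rc_4_2 lc_a_rc_3_2 lc_a_rc_3_2 lc_a_rc_5_2 lc_a_rc_3_0 lc_a_rc_3_2 lc_a_rc_5_2 lc_a_rc_4_2 lc_a_rc_2_2 lc_a_rc_4_2 lc_a_rc_21_0 lc_a_rc_3_2 lc_a_rc_3_2 lc_a_rc_4_2 lc_a_rc_1_2 lc_a_rc_0_1 lc_a_rc_3_2 lc_a_rc_2_2 lc_a_rc_2_2 lc_a_rc_3_2) (@D3.rec (fun _ => (Cert rels S Gen.a)) lc_a_rc_3_2 lc_a_rc_3_2 lc_a_rc_2_0 lc_a_rc_5_2 lc_a_rc_3_2 lc_a_rc_4_2 lc_a_rc_1_4 lc_a_rc_4_0 lc_a_rc_5_2 lc_a_rc_4_2 lc_a_rc_3_2 lc_a_rc_3_2 lc_a_rc_4_2 lc_a_rc_0_1 lc_a_rc_21_0 lc_a_rc_21_0 lc_a_rc_3_0 lc_a_rc_2_2 lc_a_rc_3_2 lc_a_rc_1_0 lc_a_rc_2_2 lc_a_rc_3_2 lc_a_rc_21_0 lc_a_rc_4_2 lc_a_rc_4_2 lc_a_rc_4_2 lc_a_rc_2_2 lc_a_rc_4_2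 lc_a_rc_0_1 lc_a_rc_4_2 lc_a_rc_5_2 lc_a_rc_1_4 lc_a_rc_2_2 lc_a_rc_2_2 lc_a_rc_3_2 lc_a_rc_4_2 lc_a_rc_0_1 lc_a_rc_4_2 lc_a_rc_4_0 lc_a_rc_2_2 lc_a_rc_2_0 lc_a_rc_2_2 lc_a_rc_3_2 lc_a_rc_0_1 lc_a_rc_21_0 lc_a_rc_0_1 lc_a_rc_0_1 lc_a_rc_4_2 lc_a_rc_2_0 lc_a_rc_21_0 lc_a_rc_5_2 lc_a_rc_2_0 lc_a_rc_21_0 lc_a_rc_4_0 lc_a_rc_0_1 lc_a_rc_4_2 lc_a_rc_1_2 lc_a_rc_2_2 lc_a_rc_4_2 lc_a_Cert_tree lc_a_rc_0_1 lc_a_rc_2_2) (@D3.rec (fun _ => (Cert rels S Gen.a)) lc_a_rc_4_2 lc_a_rc_0_1 lc_a_rc_3_0 lc_a_rc_21_0 lc_a_rc_3_0 lc_a_rc_3_0 lc_a_rc_2_0 lc_a_rc_2_0 lc_a_rc_0_1 lc_a_rc_2_2 lc_a_rc_4_0 lc_a_rc_5_2 lc_a_rc_4_0 lc_a_rc_4_2 lc_a_rc_0_1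 lc_a_rc_2_2 lc_a_rc_5_2 lc_a_rc_0_1 lc_a_rc_4_2 lc_a_rc_5_2 lc_a_rc_4_2 lc_a_rc_4_2 lc_a_rc_4_2 lc_a_rc_4_2 lc_a_rc_1_0 lc_a_rc_5_2 lc_a_rc_4_2 lc_a_rc_5_0 lc_a_rc_0_1 lc_a_rc_2_0 lc_a_rc_2_2 lc_a_rc_0_1 lc_a_Cert_tree lc_a_rc_22_0 lc_a_rc_21_0 lc_a_rc_5_0 lc_a_rc_4_2 lc_a_rc_4_0 lc_a_rc_5_2 lc_a_rc_2_2 lc_a_rc_4_2 lc_a_rc_2_2 lc_a_rc_4_2 lc_a_Cert_tree lc_a_rc_2_2 lc_a_rc_4_0 lc_a_rc_2_2 lc_a_rc_21_0 lc_a_rc_0_1 lc_a_rc_5_2 lc_a_rc_21_0 lc_a_rc_2_2 lc_a_rc_4_0 lc_a_rc_2_0 lc_a_rc_3_2 lc_a_rc_21_0 lc_a_rc_2_2 lc_a_rc_2_2 lc_a_rc_0_1 lc_a_rc_1_2 lc_a_rc_3_2 lc_a_rc_0_1) (@D3.rec (fun _ => (Cert rels S Gen.a)) lc_a_rc_4_0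 lc_a_rc_5_2 lc_a_rc_5_0 lc_a_rc_5_2 lc_a_rc_5_0 lc_a_rc_2_2 lc_a_rc_4_2 lc_a_Cert_tree lc_a_rc_1_2 lc_a_rc_3_2 lc_a_rc_21_0 lc_a_rc_22_0 lc_a_rc_0_1 lc_a_rc_2_0 lc_a_rc_0_1 lc_a_rc_1_4 lc_a_rc_4_0 lc_a_rc_4_2 lc_a_rc_21_0 lc_a_rc_0_1 lc_a_rc_0_1 lc_a_rc_1_4 lc_a_rc_4_2 lc_a_rc_4_2 lc_a_rc_4_2 lc_a_rc_0_1 lc_a_rc_5_0 lc_a_rc_4_2 lc_a_rc_21_0 lc_a_rc_0_1 lc_a_rc_0_1 lc_a_rc_3_0 lc_a_rc_3_0 lc_a_rc_0_1 lc_a_rc_3_2 lc_a_rc_2_0 lc_a_rc_1_4 lc_a_rc_1_4 lc_a_rc_3_2 lc_a_rc_3_2 lc_a_rc_3_0 lc_a_rc_1_4 lc_a_rc_4_2 lc_a_rc_2_0 lc_a_rc_5_2 lc_a_rc_0_1 lc_a_rc_3_2 lc_a_rc_21_0 lc_a_rc_0_1 lc_a_rc_2_2 lc_a_rc_3_2 lc_a_rc_3_2 lc_a_rc_1_4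 lc_a_rc_4_0 lc_a_rc_3_2 lc_a_rc_3_2 lc_a_rc_3_2 lc_a_rc_5_0 lc_a_rc_3_2 lc_a_rc_1_4 lc_a_rc_2_2 lc_a_rc_0_1) (@D3.rec (fun _ => (Cert rels S Gen.a)) lc_a_rc_4_2 lc_a_rc_5_0 lc_a_rc_1_2 lc_a_rc_3_2 lc_a_rc_5_2 lc_a_rc_3_2 lc_a_rc_21_0 lc_a_rc_3_2 lc_a_rc_2_2 lc_a_rc_5_2 lc_a_rc_0_1 lc_a_rc_4_2 lc_a_rc_21_0 lc_a_rc_1_0 lc_a_rc_1_4 lc_a_rc_0_1 lc_a_rc_2_0 lc_a_rc_0_1 lc_a_rc_4_2 lc_a_rc_1_4 lc_a_rc_3_2 lc_a_rc_4_2 lc_a_rc_3_2 lc_a_rc_21_0 lc_a_rc_2_2 lc_a_rc_4_2 lc_a_rc_4_2 lc_a_rc_2_2 lc_a_rc_0_1 lc_a_rc_21_0 lc_a_rc_0_1 lc_a_rc_4_2 lc_a_rc_3_2 lc_a_rc_5_0 lc_a_rc_4_0 lc_a_rc_5_2 lc_a_rc_0_1 lc_a_rc_0_1 lc_a_rc_1_0 lc_a_rc_2_2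 lc_a_rc_0_1 lc_a_rc_2_2 lc_a_rc_21_0 lc_a_rc_0_1 lc_a_rc_5_2 lc_a_rc_1_4 lc_a_rc_2_0 lc_a_rc_1_4 lc_a_rc_3_2 lc_a_rc_21_0 lc_a_rc_21_0 lc_a_rc_2_2 lc_a_rc_4_2 lc_a_rc_3_0 lc_a_rc_3_0 lc_a_rc_5_2 lc_a_rc_0_1 lc_a_rc_5_2 lc_a_rc_1_0 lc_a_rc_1_4 lc_a_rc_0_1 lc_a_rc_0_1) (@D3.rec (fun _ => (Cert rels S Gen.a)) lc_a_rc_3_2 lc_a_rc_5_2 lc_a_rc_3_2 lc_a_rc_3_2 lc_a_rc_3_2 lc_a_rc_5_0 lc_a_rc_5_0 lc_a_rc_3_2 lc_a_rc_21_0 lc_a_rc_2_0 lc_a_rc_3_2 lc_a_rc_3_2 lc_a_rc_2_2 lc_a_rc_4_2 lc_a_rc_2_2 lc_a_rc_3_2 lc_a_rc_4_2 lc_a_rc_0_1 lc_a_rc_2_2 lc_a_rc_4_0 lc_a_rc_4_2 lc_a_rc_0_1 lc_a_rc_4_2 lc_a_rc_21_0 lc_a_rc_1_2 lc_a_rc_3_0 lc_a_rc_2_2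 lc_a_rc_5_2 lc_a_rc_2_2 lc_a_rc_1_0 lc_a_rc_4_2 lc_a_rc_3_2 lc_a_rc_22_0 lc_a_rc_0_1 lc_a_rc_0_1 lc_a_rc_3_2 lc_a_rc_4_2 lc_a_rc_5_2 lc_a_rc_2_2 lc_a_rc_4_2 lc_a_rc_3_2 lc_a_rc_1_4 lc_a_Cert_tree lc_a_rc_3_2 lc_a_rc_3_0 lc_a_rc_3_2 lc_a_rc_21_0 lc_a_rc_5_0 lc_a_rc_3_2 lc_a_rc_2_2 lc_a_rc_5_2 lc_a_rc_5_0 lc_a_rc_3_2 lc_a_rc_4_2 lc_a_rc_3_2 lc_a_rc_0_1 lc_a_rc_2_2 lc_a_rc_4_2 lc_a_rc_21_0 lc_a_rc_1_2 lc_a_rc_2_2 lc_a_rc_4_2) (@D3.rec (fun _ => (Cert rels S Gen.a)) lc_a_rc_2_2 lc_a_rc_4_2 lc_a_rc_3_0 lc_a_rc_21_0 lc_a_rc_3_2 lc_a_rc_2_2 lc_a_rc_4_2 lc_a_rc_3_2 lc_a_rc_4_2 lc_a_rc_3_2 lc_a_rc_2_2 lc_a_rc_4_2 lc_a_rc_2_2 lc_a_rc_5_2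 lc_a_rc_5_2 lc_a_rc_0_1 lc_a_rc_2_0 lc_a_rc_5_0 lc_a_rc_2_2 lc_a_rc_2_0 lc_a_rc_21_0 lc_a_rc_4_2 lc_a_rc_3_2 lc_a_rc_2_2 lc_a_rc_4_2 lc_a_rc_4_0 lc_a_rc_5_2 lc_a_rc_0_1 lc_a_rc_21_0 lc_a_rc_4_2 lc_a_rc_4_2 lc_a_rc_5_0 lc_a_rc_4_2 lc_a_rc_0_1 lc_a_rc_2_2 lc_a_rc_22_0 lc_a_rc_2_2 lc_a_rc_2_0 lc_a_rc_5_2 lc_a_Cert_tree lc_a_rc_4_2 lc_a_rc_0_1 lc_a_rc_4_2 lc_a_rc_0_1 lc_a_rc_4_0 lc_a_rc_3_2 lc_a_rc_4_2 lc_a_rc_21_0 lc_a_rc_4_2 lc_a_rc_4_0 lc_a_rc_4_2 lc_a_rc_4_2 lc_a_rc_3_2 lc_a_rc_5_2 lc_a_rc_4_2 lc_a_rc_4_2 lc_a_rc_4_0 lc_a_rc_5_2 lc_a_rc_2_2 lc_a_rc_3_2 lc_a_rc_3_2 lc_a_rc_22_0) (@D3.rec (fun _ => (Cert rels S Gen.a))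 lc_a_rc_5_2 lc_a_rc_1_2 lc_a_rc_3_2 lc_a_rc_4_2 lc_a_rc_21_0 lc_a_rc_2_2 lc_a_rc_4_2 lc_a_rc_5_2 lc_a_rc_3_0 lc_a_rc_4_2 lc_a_rc_1_4 lc_a_rc_4_2 lc_a_rc_3_0 lc_a_rc_21_0 lc_a_rc_4_2 lc_a_rc_1_4 lc_a_rc_4_2 lc_a_rc_21_0 lc_a_rc_4_0 lc_a_rc_4_2 lc_a_rc_3_2 lc_a_rc_3_2 lc_a_rc_0_1 lc_a_rc_1_2 lc_a_rc_3_2 lc_a_rc_4_2 lc_a_rc_3_2 lc_a_rc_0_1 lc_a_rc_4_2 lc_a_rc_2_0 lc_a_rc_3_2 lc_a_rc_0_1 lc_a_rc_1_0 lc_a_rc_0_1 lc_a_rc_4_2 lc_a_rc_5_0 lc_a_rc_2_2 lc_a_rc_0_1 lc_a_rc_4_2 lc_a_rc_2_0 lc_a_Cert_tree lc_a_rc_2_2 lc_a_rc_4_2 lc_a_rc_21_0 lc_a_rc_2_2 lc_a_rc_2_2 lc_a_rc_2_2 lc_a_Cert_tree lc_a_rc_2_0 lc_a_rc_5_2 lc_a_rc_0_1 lc_a_rc_2_2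 lc_a_rc_3_2 lc_a_rc_4_2 lc_a_rc_3_2 lc_a_rc_5_0 lc_a_rc_2_2 lc_a_rc_4_2 lc_a_rc_0_1 lc_a_rc_2_2 lc_a_rc_4_2 lc_a_rc_3_2) (@D3.rec (fun _ => (Cert rels S Gen.a)) lc_a_rc_3_2 lc_a_rc_0_1 lc_a_rc_3_0 lc_a_rc_21_0 lc_a_rc_4_2 lc_a_rc_4_0 lc_a_rc_21_0 lc_a_rc_0_1 lc_a_rc_2_2 lc_a_rc_4_2 lc_a_rc_3_0 lc_a_rc_0_1 lc_a_rc_2_2 lc_a_rc_5_2 lc_a_rc_0_1 lc_a_rc_0_1 lc_a_rc_0_1 lc_a_rc_3_2 lc_a_rc_3_2 lc_a_rc_2_0 lc_a_rc_4_2 lc_a_rc_3_2 lc_a_rc_21_0 lc_a_rc_3_2 lc_a_rc_2_2 lc_a_rc_1_0 lc_a_rc_4_2 lc_a_rc_5_2 lc_a_rc_2_2 lc_a_rc_0_1 lc_a_rc_2_2 lc_a_rc_1_4 lc_a_rc_2_2 lc_a_rc_4_2 lc_a_rc_2_2 lc_a_rc_4_2 lc_a_rc_2_2 lc_a_rc_21_0 lc_a_rc_0_1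 lc_a_rc_3_2 lc_a_rc_2_2 lc_a_rc_4_2 lc_a_rc_1_2 lc_a_rc_21_0 lc_a_rc_3_2 lc_a_rc_3_0 lc_a_rc_5_2 lc_a_rc_4_2 lc_a_rc_5_0 lc_a_rc_0_1 lc_a_rc_3_2 lc_a_rc_2_2 lc_a_rc_4_2 lc_a_rc_2_0 lc_a_rc_3_2 lc_a_rc_3_0 lc_a_rc_2_2 lc_a_rc_4_2 lc_a_rc_3_0 lc_a_rc_2_2 lc_a_rc_3_2 lc_a_rc_2_2) (@D3.rec (fun _ => (Cert rels S Gen.a)) lc_a_rc_21_0 lc_a_rc_4_2 lc_a_rc_3_2 lc_a_rc_5_2 lc_a_rc_4_2 lc_a_rc_0_1 lc_a_rc_3_2 lc_a_rc_4_2 lc_a_Cert_tree lc_a_rc_4_2 lc_a_rc_4_2 lc_a_rc_3_2 lc_a_rc_5_0 lc_a_rc_1_0 lc_a_rc_3_2 lc_a_rc_5_0 lc_a_rc_3_2 lc_a_rc_2_2 lc_a_rc_4_2 lc_a_rc_0_1 lc_a_rc_21_0 lc_a_Cert_tree lc_a_rc_4_2 lc_a_rc_4_2 lc_a_rc_4_2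 lc_a_rc_5_2 lc_a_rc_2_2 lc_a_rc_22_0 lc_a_rc_4_2 lc_a_rc_3_0 lc_a_rc_4_2 lc_a_rc_4_2 lc_a_rc_0_1 lc_a_rc_0_1 lc_a_rc_4_2 lc_a_rc_3_2 lc_a_rc_21_0 lc_a_rc_2_2 lc_a_rc_5_2 lc_a_rc_4_2 lc_a_rc_4_2 lc_a_rc_3_2 lc_a_rc_3_2 lc_a_rc_4_2 lc_a_rc_22_0 lc_a_rc_4_2 lc_a_rc_5_0 lc_a_rc_4_2 lc_a_rc_4_2 lc_a_rc_3_2 lc_a_rc_3_2 lc_a_rc_2_2 lc_a_rc_3_2 lc_a_rc_3_2 lc_a_rc_0_1 lc_a_rc_21_0 lc_a_rc_3_2 lc_a_rc_5_2 lc_a_rc_2_2 lc_a_rc_2_2 lc_a_rc_3_2 lc_a_rc_3_2) (@D3.rec (fun _ => (Cert rels S Gen.a)) lc_a_rc_1_4 lc_a_rc_1_2 lc_a_rc_3_2 lc_a_rc_21_0 lc_a_rc_4_0 lc_a_rc_3_0 lc_a_rc_2_2 lc_a_rc_1_4 lc_a_rc_4_2 lc_a_rc_4_2 lc_a_rc_3_2 lc_a_rc_2_2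 lc_a_rc_2_2 lc_a_rc_4_2 lc_a_rc_3_2 lc_a_rc_2_2 lc_a_rc_4_2 lc_a_rc_0_1 lc_a_rc_3_2 lc_a_rc_2_2 lc_a_rc_2_0 lc_a_rc_3_2 lc_a_rc_2_2 lc_a_rc_3_2 lc_a_rc_1_2 lc_a_rc_4_2 lc_a_rc_21_0 lc_a_rc_2_2 lc_a_rc_3_2 lc_a_rc_5_2 lc_a_rc_2_2 lc_a_rc_4_2 lc_a_rc_3_0 lc_a_rc_3_0 lc_a_rc_3_2 lc_a_rc_22_0 lc_a_rc_0_1 lc_a_rc_3_2 lc_a_rc_2_2 lc_a_rc_3_2 lc_a_rc_2_2 lc_a_rc_5_2 lc_a_rc_1_2 lc_a_rc_5_0 lc_a_rc_3_2 lc_a_rc_4_2 lc_a_rc_5_0 lc_a_rc_2_2 lc_a_rc_2_2 lc_a_rc_5_2 lc_a_rc_3_2 lc_a_rc_22_0 lc_a_rc_3_0 lc_a_rc_4_2 lc_a_rc_0_1 lc_a_rc_21_0 lc_a_rc_3_0 lc_a_rc_4_2 lc_a_rc_3_2 lc_a_rc_3_2 lc_a_rc_0_1 lc_a_rc_4_2) (@D3.rec (fun _ => (Cert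 rels S Gen.a)) lc_a_rc_3_2 lc_a_rc_5_0 lc_a_rc_22_0 lc_a_rc_3_2 lc_a_rc_4_2 lc_a_rc_2_2 lc_a_rc_3_2 lc_a_rc_4_2 lc_a_rc_1_4 lc_a_rc_4_2 lc_a_rc_2_2 lc_a_rc_2_2 lc_a_Cert_tree lc_a_rc_5_2 lc_a_rc_4_2 lc_a_rc_2_2 lc_a_rc_5_0 lc_a_rc_2_0 lc_a_rc_1_0 lc_a_rc_22_0 lc_a_rc_4_2 lc_a_Cert_tree lc_a_rc_5_2 lc_a_rc_0_1 lc_a_rc_0_1 lc_a_rc_2_0 lc_a_rc_4_2 lc_a_rc_4_2 lc_a_rc_5_0 lc_a_rc_3_2 lc_a_rc_3_0 lc_a_rc_1_4 lc_a_rc_4_2 lc_a_rc_2_2 lc_a_rc_3_2 lc_a_rc_3_2 lc_a_rc_2_2 lc_a_rc_3_2 lc_a_rc_1_4 lc_a_rc_3_2 lc_a_rc_3_2 lc_a_rc_0_1 lc_a_rc_21_0 lc_a_rc_4_2 lc_a_rc_2_2 lc_a_rc_3_0 lc_a_rc_3_0 lc_a_rc_3_2 lc_a_rc_4_2 lc_a_rc_0_1 lc_a_rc_4_2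 lc_a_rc_2_0 lc_a_rc_1_2 lc_a_rc_2_2 lc_a_rc_3_2 lc_a_rc_5_2 lc_a_rc_3_2 lc_a_rc_2_2 lc_a_rc_4_2 lc_a_rc_2_2 lc_a_rc_2_2 lc_a_rc_1_0) (@D3.rec (fun _ => (Cert rels S Gen.a)) lc_a_rc_4_0 lc_a_rc_5_0 lc_a_rc_3_2 lc_a_rc_5_2 lc_a_rc_2_2 lc_a_rc_0_1 lc_a_rc_3_2 lc_a_rc_4_2 lc_a_rc_3_2 lc_a_rc_2_2 lc_a_rc_3_2 lc_a_rc_2_0 lc_a_rc_5_2 lc_a_rc_0_1 lc_a_rc_3_2 lc_a_rc_3_2 lc_a_rc_3_2 lc_a_rc_0_1 lc_a_rc_5_2 lc_a_rc_5_0 lc_a_rc_0_1 lc_a_rc_2_0 lc_a_rc_4_2 lc_a_rc_4_0 lc_a_rc_1_2 lc_a_rc_3_2 lc_a_rc_5_2 lc_a_rc_3_2 lc_a_rc_4_2 lc_a_rc_2_2 lc_a_rc_4_2 lc_a_rc_3_2 lc_a_rc_3_0 lc_a_rc_3_2 lc_a_rc_1_2 lc_a_rc_1_4 lc_a_rc_2_2 lc_a_rc_2_0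 lc_a_rc_2_2 lc_a_rc_2_2 lc_a_rc_1_2 lc_a_rc_2_2 lc_a_rc_4_2 lc_a_rc_3_2 lc_a_rc_2_0 lc_a_rc_0_1 lc_a_rc_21_0 lc_a_rc_0_1 lc_a_rc_2_0 lc_a_rc_2_2 lc_a_rc_1_4 lc_a_rc_4_0 lc_a_rc_21_0 lc_a_rc_4_2 lc_a_rc_2_2 lc_a_rc_2_2 lc_a_rc_2_2 lc_a_rc_4_2 lc_a_rc_1_0 lc_a_rc_2_2 lc_a_rc_3_2 lc_a_rc_21_0) (@D3.rec (fun _ => (Cert rels S Gen.a)) lc_a_rc_21_0 lc_a_rc_4_2 lc_a_rc_21_0 lc_a_rc_2_0 lc_a_rc_3_0 lc_a_rc_0_1 lc_a_rc_1_4 lc_a_rc_4_0 lc_a_rc_3_2 lc_a_rc_2_2 lc_a_rc_4_2 lc_a_rc_4_2 lc_a_rc_3_2 lc_a_rc_2_2 lc_a_rc_5_2 lc_a_rc_5_2 lc_a_rc_2_2 lc_a_rc_0_1 lc_a_rc_4_2 lc_a_rc_2_2 lc_a_rc_2_2 lc_a_rc_3_0 lc_a_rc_2_0 lc_a_rc_0_1 lc_a_rc_0_1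 lc_a_rc_3_0 lc_a_rc_3_0 lc_a_rc_4_2 lc_a_rc_1_2 lc_a_rc_3_2 lc_a_rc_2_0 lc_a_rc_21_0 lc_a_rc_0_1 lc_a_rc_5_2 lc_a_rc_3_2 lc_a_rc_4_2 lc_a_rc_3_2 lc_a_rc_3_2 lc_a_rc_0_1 lc_a_rc_2_2 lc_a_rc_4_2 lc_a_rc_0_1 lc_a_rc_0_1 lc_a_rc_3_0 lc_a_rc_3_2 lc_a_rc_3_0 lc_a_rc_0_1 lc_a_rc_2_2 lc_a_rc_3_2 lc_a_rc_2_2 lc_a_rc_21_0 lc_a_rc_21_0 lc_a_rc_4_2 lc_a_rc_5_2 lc_a_rc_4_0 lc_a_rc_2_0 lc_a_rc_3_2 lc_a_rc_4_0 lc_a_rc_1_0 lc_a_rc_1_2 lc_a_rc_2_2 lc_a_rc_4_2) (@D3.rec (fun _ => (Cert rels S Gen.a)) lc_a_rc_1_2 lc_a_rc_0_1 lc_a_rc_3_2 lc_a_rc_3_2 lc_a_rc_21_0 lc_a_rc_3_0 lc_a_rc_22_0 lc_a_rc_3_2 lc_a_rc_2_2 lc_a_rc_4_2 lc_a_rc_21_0 lc_a_rc_1_0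 lc_a_rc_22_0 lc_a_rc_3_2 lc_a_rc_1_2 lc_a_rc_1_2 lc_a_rc_2_2 lc_a_rc_0_1 lc_a_rc_0_1 lc_a_rc_4_2 lc_a_rc_2_2 lc_a_rc_5_2 lc_a_rc_21_0 lc_a_rc_4_2 lc_a_rc_1_0 lc_a_rc_4_2 lc_a_rc_4_2 lc_a_rc_0_1 lc_a_rc_0_1 lc_a_rc_5_2 lc_a_rc_3_2 lc_a_rc_3_2 lc_a_rc_3_2 lc_a_rc_3_2 lc_a_Cert_tree lc_a_rc_4_2 lc_a_rc_5_0 lc_a_rc_4_2 lc_a_rc_5_2 lc_a_rc_1_2 lc_a_rc_4_2 lc_a_rc_0_1 lc_a_rc_0_1 lc_a_rc_5_0 lc_a_rc_5_2 lc_a_rc_21_0 lc_a_rc_0_1 lc_a_rc_3_2 lc_a_Cert_tree lc_a_rc_2_2 lc_a_rc_1_2 lc_a_rc_5_2 lc_a_Cert_tree lc_a_rc_4_0 lc_a_rc_4_2 lc_a_rc_3_2 lc_a_rc_2_2 lc_a_rc_2_2 lc_a_rc_21_0 lc_a_rc_3_0 lc_a_rc_0_1 lc_a_rc_4_2) (@D3.rec (fun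 _ => (Cert rels S Gen.a)) lc_a_rc_4_0 lc_a_rc_2_0 lc_a_rc_4_2 lc_a_rc_21_0 lc_a_rc_0_1 lc_a_rc_21_0 lc_a_rc_2_2 lc_a_rc_0_1 lc_a_rc_0_1 lc_a_Cert_tree lc_a_rc_2_2 lc_a_rc_4_0 lc_a_rc_0_1 lc_a_rc_4_2 lc_a_rc_4_2 lc_a_rc_1_0 lc_a_rc_3_2 lc_a_rc_2_2 lc_a_rc_21_0 lc_a_rc_4_2 lc_a_rc_2_0 lc_a_rc_1_2 lc_a_rc_4_2 lc_a_rc_4_2 lc_a_rc_5_2 lc_a_rc_5_2 lc_a_rc_21_0 lc_a_rc_21_0 lc_a_rc_3_2 lc_a_rc_1_2 lc_a_rc_0_1 lc_a_rc_3_2 lc_a_rc_5_2 lc_a_rc_4_2 lc_a_rc_1_4 lc_a_rc_0_1 lc_a_rc_4_2 lc_a_Cert_tree lc_a_rc_3_2 lc_a_rc_2_2 lc_a_rc_4_2 lc_a_rc_3_2 lc_a_rc_5_2 lc_a_rc_2_2 lc_a_rc_4_2 lc_a_rc_5_2 lc_a_rc_4_2 lc_a_rc_5_2 lc_a_rc_1_4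 lc_a_rc_3_2 lc_a_rc_3_2 lc_a_rc_3_0 lc_a_rc_2_2 lc_a_rc_4_2 lc_a_rc_0_1 lc_a_rc_2_2 lc_a_rc_3_2 lc_a_rc_2_2 lc_a_rc_4_2 lc_a_rc_21_0 lc_a_rc_4_2 lc_a_rc_1_4) (@D3.rec (fun _ => (Cert rels S Gen.a)) lc_a_rc_2_2 lc_a_rc_3_2 lc_a_rc_21_0 lc_a_rc_4_2 lc_a_rc_3_2 lc_a_rc_1_0 lc_a_rc_5_2 lc_a_rc_5_2 lc_a_rc_0_1 lc_a_rc_2_2 lc_a_rc_0_1 lc_a_rc_3_2 lc_a_rc_5_2 lc_a_rc_3_2 lc_a_rc_1_4 lc_a_rc_3_2 lc_a_rc_2_0 lc_a_rc_0_1 lc_a_rc_3_2 lc_a_rc_0_1 lc_a_rc_2_2 lc_a_rc_5_2 lc_a_rc_2_2 lc_a_rc_4_2 lc_a_rc_21_0 lc_a_rc_3_2 lc_a_rc_0_1 lc_a_rc_2_0 lc_a_rc_4_2 lc_a_rc_3_2 lc_a_rc_1_2 lc_a_rc_0_1 lc_a_rc_2_0 lc_a_rc_0_1 lc_a_rc_4_2 lc_a_rc_3_2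 lc_a_rc_3_2 lc_a_rc_1_4 lc_a_rc_4_0 lc_a_rc_2_2 lc_a_rc_4_2 lc_a_rc_5_0 lc_a_rc_5_2 lc_a_rc_3_2 lc_a_rc_3_2 lc_a_rc_4_2 lc_a_rc_0_1 lc_a_rc_0_1 lc_a_rc_0_1 lc_a_rc_21_0 lc_a_rc_0_1 lc_a_rc_3_0 lc_a_rc_3_0 lc_a_rc_3_2 lc_a_rc_4_0 lc_a_rc_2_0 lc_a_rc_3_2 lc_a_rc_1_0 lc_a_rc_21_0 lc_a_rc_5_2 lc_a_rc_1_2 lc_a_rc_3_2) (@D3.rec (fun _ => (Cert rels S Gen.a)) lc_a_rc_5_2 lc_a_rc_3_2 lc_a_rc_4_2 lc_a_rc_0_1 lc_a_rc_1_4 lc_a_rc_3_2 lc_a_rc_21_0 lc_a_rc_0_1 lc_a_rc_21_0 lc_a_rc_4_2 lc_a_rc_3_0 lc_a_rc_21_0 lc_a_rc_3_2 lc_a_rc_0_1 lc_a_rc_21_0 lc_a_rc_0_1 lc_a_rc_0_1 lc_a_rc_0_1 lc_a_rc_5_0 lc_a_rc_5_2 lc_a_rc_4_2 lc_a_rc_1_2 lc_a_rc_1_0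 lc_a_rc_3_2 lc_a_rc_0_1 lc_a_rc_0_1 lc_a_rc_4_2 lc_a_rc_0_1 lc_a_rc_5_2 lc_a_rc_0_1 lc_a_rc_2_0 lc_a_rc_4_0 lc_a_rc_4_2 lc_a_rc_2_0 lc_a_rc_5_0 lc_a_rc_0_1 lc_a_rc_1_2 lc_a_rc_3_2 lc_a_rc_4_0 lc_a_rc_2_2 lc_a_rc_3_0 lc_a_rc_21_0 lc_a_rc_4_0 lc_a_rc_5_2 lc_a_rc_4_0 lc_a_rc_0_1 lc_a_rc_21_0 lc_a_rc_4_0 lc_a_rc_5_2 lc_a_rc_3_0 lc_a_rc_2_2 lc_a_rc_3_0 lc_a_rc_2_2 lc_a_rc_0_1 lc_a_Cert_tree lc_a_rc_5_0 lc_a_rc_3_0 lc_a_rc_3_0 lc_a_rc_21_0 lc_a_rc_0_1 lc_a_rc_0_1 lc_a_rc_3_2) (@D3.rec (fun _ => (Cert rels S Gen.a)) lc_a_rc_22_0 lc_a_rc_3_2 lc_a_Cert_tree lc_a_rc_4_2 lc_a_rc_3_2 lc_a_rc_3_2 lc_a_rc_2_2 lc_a_rc_3_2 lc_a_rc_2_0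 lc_a_rc_3_2 lc_a_rc_5_0 lc_a_rc_3_2 lc_a_rc_2_2 lc_a_rc_5_2 lc_a_rc_3_2 lc_a_rc_21_0 lc_a_rc_2_2 lc_a_rc_4_2 lc_a_rc_4_0 lc_a_rc_3_0 lc_a_rc_1_2 lc_a_rc_1_4 lc_a_rc_21_0 lc_a_rc_3_2 lc_a_rc_2_2 lc_a_rc_4_2 lc_a_rc_3_2 lc_a_rc_2_2 lc_a_rc_4_2 lc_a_rc_1_0 lc_a_rc_3_0 lc_a_rc_3_2 lc_a_rc_21_0 lc_a_rc_3_2 lc_a_rc_21_0 lc_a_rc_3_2 lc_a_rc_4_2 lc_a_rc_21_0 lc_a_rc_2_2 lc_a_rc_4_2 lc_a_rc_5_2 lc_a_rc_5_0 lc_a_rc_4_2 lc_a_Cert_tree lc_a_rc_4_2 lc_a_rc_3_2 lc_a_rc_0_1 lc_a_rc_3_0 lc_a_rc_3_2 lc_a_rc_3_2 lc_a_Cert_tree lc_a_rc_3_2 lc_a_rc_1_2 lc_a_rc_3_0 lc_a_rc_2_2 lc_a_rc_3_2 lc_a_rc_21_0 lc_a_rc_3_2 lc_a_rc_1_4 lc_a_rc_3_2 lc_a_rc_1_4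 lc_a_rc_1_4) (@D3.rec (fun _ => (Cert rels S Gen.a)) lc_a_rc_3_2 lc_a_rc_1_0 lc_a_rc_1_4 lc_a_rc_3_0 lc_a_rc_5_2 lc_a_rc_0_1 lc_a_rc_5_2 lc_a_rc_4_2 lc_a_rc_1_4 lc_a_rc_4_2 lc_a_rc_4_2 lc_a_rc_3_2 lc_a_rc_3_2 lc_a_rc_3_2 lc_a_rc_3_2 lc_a_rc_2_2 lc_a_rc_21_0 lc_a_rc_21_0 lc_a_rc_21_0 lc_a_rc_3_2 lc_a_rc_22_0 lc_a_rc_3_2 lc_a_rc_1_4 lc_a_rc_5_2 lc_a_rc_2_2 lc_a_rc_3_2 lc_a_rc_4_2 lc_a_rc_0_1 lc_a_rc_21_0 lc_a_rc_4_2 lc_a_rc_1_4 lc_a_rc_4_2 lc_a_rc_0_1 lc_a_rc_4_2 lc_a_rc_21_0 lc_a_rc_4_2 lc_a_rc_1_4 lc_a_rc_2_2 lc_a_rc_2_0 lc_a_rc_2_2 lc_a_rc_4_0 lc_a_rc_4_0 lc_a_rc_22_0 lc_a_rc_5_2 lc_a_rc_4_2 lc_a_rc_5_0 lc_a_rc_0_1 lc_a_rc_3_2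 lc_a_rc_3_2 lc_a_rc_3_2 lc_a_rc_4_2 lc_a_rc_1_0 lc_a_rc_0_1 lc_a_rc_4_2 lc_a_rc_21_0 lc_a_rc_2_2 lc_a_rc_4_2 lc_a_rc_21_0 lc_a_rc_3_0 lc_a_rc_4_2 lc_a_rc_21_0 lc_a_rc_0_1) (@D3.rec (fun _ => (Cert rels S Gen.a)) lc_a_rc_2_0 lc_a_rc_3_2 lc_a_rc_5_2 lc_a_rc_4_2 lc_a_rc_1_4 lc_a_rc_3_2 lc_a_rc_3_2 lc_a_rc_5_0 lc_a_rc_3_0 lc_a_rc_22_0 lc_a_rc_4_2 lc_a_rc_4_2 lc_a_rc_3_2 lc_a_rc_5_2 lc_a_rc_1_0 lc_a_rc_21_0 lc_a_rc_5_0 lc_a_Cert_tree lc_a_rc_4_2 lc_a_rc_4_2 lc_a_rc_4_2 lc_a_rc_3_2 lc_a_rc_5_2 lc_a_rc_0_1 lc_a_rc_4_2 lc_a_rc_0_1 lc_a_rc_3_2 lc_a_rc_4_2 lc_a_rc_2_2 lc_a_rc_3_2 lc_a_rc_2_2 lc_a_rc_3_0 lc_a_rc_5_2 lc_a_Cert_tree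 lc_a_rc_4_2 lc_a_rc_3_2 lc_a_Cert_tree lc_a_rc_0_1 lc_a_rc_0_1 lc_a_rc_5_2 lc_a_rc_3_2 lc_a_rc_4_2 lc_a_rc_4_2 lc_a_rc_4_2 lc_a_rc_3_2 lc_a_rc_2_2 lc_a_rc_4_2 lc_a_Cert_tree lc_a_rc_4_2 lc_a_rc_4_0 lc_a_rc_0_1 lc_a_rc_5_2 lc_a_rc_4_2 lc_a_rc_4_2 lc_a_rc_4_2 lc_a_rc_2_2 lc_a_rc_3_2 lc_a_rc_2_2 lc_a_rc_2_2 lc_a_rc_3_2 lc_a_rc_4_2 lc_a_rc_3_2) (@D3.rec (fun _ => (Cert rels S Gen.a)) lc_a_rc_4_2 lc_a_rc_5_2 lc_a_rc_2_2 lc_a_rc_0_1 lc_a_rc_5_0 lc_a_rc_2_2 lc_a_rc_2_0 lc_a_rc_0_1 lc_a_rc_4_0 lc_a_rc_22_0 lc_a_rc_2_2 lc_a_rc_4_2 lc_a_rc_3_2 lc_a_rc_21_0 lc_a_rc_4_2 lc_a_Cert_tree lc_a_Cert_tree lc_a_rc_5_2 lc_a_rc_4_2 lc_a_rc_2_2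 lc_a_rc_3_2 lc_a_rc_4_2 lc_a_rc_5_0 lc_a_rc_3_2 lc_a_rc_4_2 lc_a_rc_1_2 lc_a_rc_2_2 lc_a_rc_4_2 lc_a_rc_3_0 lc_a_rc_0_1 lc_a_rc_0_1 lc_a_rc_0_1 lc_a_rc_2_0 lc_a_rc_4_0 lc_a_rc_0_1 lc_a_rc_3_2 lc_a_rc_0_1 lc_a_rc_4_0 lc_a_rc_4_2 lc_a_rc_3_2 lc_a_rc_2_2 lc_a_rc_3_2 lc_a_rc_2_2 lc_a_rc_3_2 lc_a_rc_5_2 lc_a_rc_0_1 lc_a_rc_21_0 lc_a_rc_21_0 lc_a_rc_5_0 lc_a_rc_3_2 lc_a_rc_2_2 lc_a_rc_5_2 lc_a_rc_3_2 lc_a_rc_4_2 lc_a_rc_3_2 lc_a_rc_1_4 lc_a_rc_2_2 lc_a_rc_3_2 lc_a_rc_4_2 lc_a_rc_21_0 lc_a_rc_0_1 lc_a_rc_2_2) (@D3.rec (fun _ => (Cert rels S Gen.a)) lc_a_rc_5_2 lc_a_rc_3_2 lc_a_rc_1_2 lc_a_rc_3_0 lc_a_rc_2_2 lc_a_rc_4_2 lc_a_rc_0_1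 lc_a_rc_2_2 lc_a_rc_3_2 lc_a_rc_1_4 lc_a_rc_21_0 lc_a_rc_3_0 lc_a_rc_21_0 lc_a_rc_4_2 lc_a_rc_3_2 lc_a_rc_2_2 lc_a_rc_4_2 lc_a_rc_3_0 lc_a_rc_2_0 lc_a_rc_1_2 lc_a_rc_3_2 lc_a_rc_2_2 lc_a_rc_4_2 lc_a_rc_3_2 lc_a_rc_5_0 lc_a_rc_3_2 lc_a_rc_2_2 lc_a_rc_3_2 lc_a_rc_1_4 lc_a_rc_4_2 lc_a_rc_4_2 lc_a_rc_21_0 lc_a_rc_3_2 lc_a_rc_5_2 lc_a_rc_4_2 lc_a_rc_2_2 lc_a_rc_4_2 lc_a_rc_2_2 lc_a_rc_21_0 lc_a_rc_5_2 lc_a_rc_3_2 lc_a_rc_2_0 lc_a_Cert_tree lc_a_rc_3_2 lc_a_rc_0_1 lc_a_rc_21_0 lc_a_rc_1_2 lc_a_rc_4_2 lc_a_rc_4_2 lc_a_rc_4_2 lc_a_rc_5_0 lc_a_rc_3_2 lc_a_rc_3_2 lc_a_rc_5_0 lc_a_rc_4_2 lc_a_rc_5_0 lc_a_rc_4_2 lc_a_rc_2_2 lc_a_rc_21_0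 lc_a_rc_1_4 lc_a_rc_4_0 lc_a_rc_3_2) (@D3.rec (fun _ => (Cert rels S Gen.a)) lc_a_rc_4_2 lc_a_rc_2_0 lc_a_rc_5_2 lc_a_rc_2_2 lc_a_rc_2_2 lc_a_rc_0_1 lc_a_rc_0_1 lc_a_rc_3_2 lc_a_rc_3_2 lc_a_rc_0_1 lc_a_rc_3_2 lc_a_rc_2_0 lc_a_rc_21_0 lc_a_rc_4_2 lc_a_rc_3_2 lc_a_rc_2_0 lc_a_rc_4_2 lc_a_rc_21_0 lc_a_rc_2_0 lc_a_rc_2_2 lc_a_rc_3_2 lc_a_rc_2_2 lc_a_rc_3_2 lc_a_rc_2_2 lc_a_rc_3_2 lc_a_rc_1_0 lc_a_rc_4_2 lc_a_rc_2_0 lc_a_rc_2_2 lc_a_rc_2_2 lc_a_rc_1_2 lc_a_rc_4_2 lc_a_rc_0_1 lc_a_rc_1_4 lc_a_rc_2_0 lc_a_rc_3_2 lc_a_rc_0_1 lc_a_rc_2_2 lc_a_rc_3_2 lc_a_rc_3_2 lc_a_rc_1_0 lc_a_rc_2_2 lc_a_rc_3_2 lc_a_rc_3_2 lc_a_rc_4_2 lc_a_rc_3_2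 lc_a_rc_2_2 lc_a_rc_4_2 lc_a_rc_1_2 lc_a_rc_0_1 lc_a_rc_1_4 lc_a_rc_5_0 lc_a_rc_3_2 lc_a_rc_5_2 lc_a_rc_3_2 lc_a_rc_3_2 lc_a_rc_4_2 lc_a_rc_4_2 lc_a_rc_5_0 lc_a_rc_3_2 lc_a_rc_3_2 lc_a_rc_22_0) (@D3.rec (fun _ => (Cert rels S Gen.a)) lc_a_rc_0_1 lc_a_rc_0_1 lc_a_rc_0_1 lc_a_rc_2_2 lc_a_rc_3_2 lc_a_rc_3_2 lc_a_rc_0_1 lc_a_rc_2_2 lc_a_rc_2_0 lc_a_rc_0_1 lc_a_rc_0_1 lc_a_rc_0_1 lc_a_rc_2_0 lc_a_rc_0_1 lc_a_rc_3_2 lc_a_rc_4_2 lc_a_rc_21_0 lc_a_rc_1_2 lc_a_rc_3_0 lc_a_rc_21_0 lc_a_rc_3_2 lc_a_rc_5_2 lc_a_rc_3_2 lc_a_rc_1_4 lc_a_rc_3_2 lc_a_rc_4_2 lc_a_rc_2_0 lc_a_rc_0_1 lc_a_rc_3_2 lc_a_rc_1_0 lc_a_rc_22_0 lc_a_rc_21_0 lc_a_rc_22_0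 lc_a_rc_22_0 lc_a_rc_1_4 lc_a_rc_2_2 lc_a_rc_4_2 lc_a_rc_3_2 lc_a_rc_21_0 lc_a_rc_4_2 lc_a_rc_2_2 lc_a_rc_1_4 lc_a_rc_4_0 lc_a_rc_1_2 lc_a_rc_3_2 lc_a_rc_4_2 lc_a_rc_0_1 lc_a_rc_0_1 lc_a_rc_1_4 lc_a_rc_2_2 lc_a_rc_3_0 lc_a_rc_3_2 lc_a_rc_2_2 lc_a_rc_2_2 lc_a_rc_2_2 lc_a_rc_0_1 lc_a_rc_1_2 lc_a_rc_2_0 lc_a_rc_2_2 lc_a_rc_0_1 lc_a_rc_5_2 lc_a_rc_1_4) (@D3.rec (fun _ => (Cert rels S Gen.a)) lc_a_rc_4_2 lc_a_rc_21_0 lc_a_rc_3_0 lc_a_rc_4_2 lc_a_rc_5_2 lc_a_rc_4_2 lc_a_rc_4_2 lc_a_rc_2_2 lc_a_rc_2_2 lc_a_rc_4_0 lc_a_rc_4_0 lc_a_rc_2_2 lc_a_rc_2_0 lc_a_rc_0_1 lc_a_rc_3_0 lc_a_rc_4_2 lc_a_rc_2_0 lc_a_rc_4_0 lc_a_rc_5_2 lc_a_rc_21_0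 lc_a_rc_2_2 lc_a_rc_2_2 lc_a_rc_4_2 lc_a_rc_2_0 lc_a_rc_2_0 lc_a_rc_2_0 lc_a_rc_1_4 lc_a_rc_3_2 lc_a_rc_3_2 lc_a_rc_1_4 lc_a_rc_2_2 lc_a_rc_4_2 lc_a_rc_1_0 lc_a_rc_2_0 lc_a_rc_1_0 lc_a_rc_0_1 lc_a_rc_5_2 lc_a_rc_1_2 lc_a_rc_22_0 lc_a_rc_5_2 lc_a_rc_1_4 lc_a_rc_3_2 lc_a_rc_21_0 lc_a_rc_3_2 lc_a_rc_1_4 lc_a_rc_1_0 lc_a_rc_1_4 lc_a_rc_5_2 lc_a_rc_4_2 lc_a_rc_4_2 lc_a_rc_1_4 lc_a_rc_4_2 lc_a_rc_2_0 lc_a_rc_2_2 lc_a_rc_1_4 lc_a_rc_0_1 lc_a_rc_4_2 lc_a_rc_1_0 lc_a_rc_2_0 lc_a_rc_22_0 lc_a_rc_4_2 lc_a_rc_2_2) (@D3.rec (fun _ => (Cert rels S Gen.a)) lc_a_rc_4_2 lc_a_rc_5_0 lc_a_rc_5_2 lc_a_rc_0_1 lc_a_rc_2_0 lc_a_rc_3_2 lc_a_rc_0_1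 lc_a_rc_4_2 lc_a_rc_2_2 lc_a_rc_4_2 lc_a_rc_4_2 lc_a_rc_1_2 lc_a_rc_2_2 lc_a_rc_4_2 lc_a_rc_2_2 lc_a_rc_2_2 lc_a_rc_2_2 lc_a_rc_21_0 lc_a_rc_2_2 lc_a_rc_5_2 lc_a_rc_4_0 lc_a_rc_2_2 lc_a_rc_2_2 lc_a_rc_0_1 lc_a_rc_0_1 lc_a_rc_0_1 lc_a_rc_4_2 lc_a_rc_3_2 lc_a_rc_3_2 lc_a_rc_2_2 lc_a_rc_3_2 lc_a_rc_3_2 lc_a_rc_2_2 lc_a_rc_3_2 lc_a_rc_4_2 lc_a_rc_3_2 lc_a_rc_4_2 lc_a_rc_2_2 lc_a_rc_4_2 lc_a_rc_3_2 lc_a_rc_1_2 lc_a_rc_4_2 lc_a_rc_2_0 lc_a_rc_22_0 lc_a_rc_4_2 lc_a_rc_22_0 lc_a_rc_2_2 lc_a_rc_4_2 lc_a_rc_3_2 lc_a_rc_3_2 lc_a_rc_3_2 lc_a_rc_5_2 lc_a_rc_3_2 lc_a_rc_3_2 lc_a_rc_3_2 lc_a_rc_5_0 lc_a_rc_3_0 lc_a_rc_4_2 lc_a_rc_21_0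 lc_a_rc_5_2 lc_a_rc_0_1 lc_a_rc_4_2) (@D3.rec (fun _ => (Cert rels S Gen.a)) lc_a_rc_1_4 lc_a_rc_3_2 lc_a_rc_22_0 lc_a_rc_0_1 lc_a_rc_21_0 lc_a_rc_4_2 lc_a_rc_3_2 lc_a_rc_3_2 lc_a_rc_0_1 lc_a_rc_2_2 lc_a_rc_4_2 lc_a_rc_2_2 lc_a_rc_2_2 lc_a_rc_5_2 lc_a_rc_1_4 lc_a_rc_1_4 lc_a_rc_0_1 lc_a_rc_3_2 lc_a_rc_3_2 lc_a_rc_2_2 lc_a_rc_2_2 lc_a_rc_4_0 lc_a_rc_3_2 lc_a_rc_0_1 lc_a_rc_5_2 lc_a_rc_5_0 lc_a_rc_4_0 lc_a_rc_21_0 lc_a_rc_0_1 lc_a_rc_3_2 lc_a_rc_0_1 lc_a_rc_2_2 lc_a_rc_3_2 lc_a_rc_21_0 lc_a_rc_3_2 lc_a_rc_4_2 lc_a_rc_21_0 lc_a_rc_4_2 lc_a_rc_21_0 lc_a_rc_2_2 lc_a_rc_3_2 lc_a_rc_2_0 lc_a_rc_2_2 lc_a_rc_21_0 lc_a_rc_4_2 lc_a_rc_2_2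 lc_a_rc_4_2 lc_a_rc_2_2 lc_a_rc_3_2 lc_a_rc_3_2 lc_a_rc_3_2 lc_a_rc_0_1 lc_a_rc_2_2 lc_a_rc_3_2 lc_a_rc_2_2 lc_a_rc_2_2 lc_a_rc_3_2 lc_a_rc_1_4 lc_a_rc_2_2 lc_a_rc_1_2 lc_a_rc_3_2 lc_a_rc_2_2) (@D3.rec (fun _ => (Cert rels S Gen.a)) lc_a_rc_5_0 lc_a_rc_21_0 lc_a_rc_3_2 lc_a_rc_3_2 lc_a_rc_5_2 lc_a_rc_3_2 lc_a_rc_4_2 lc_a_rc_1_4 lc_a_rc_3_2 lc_a_rc_4_2 lc_a_rc_1_4 lc_a_rc_5_2 lc_a_rc_2_2 lc_a_rc_0_1 lc_a_rc_0_1 lc_a_rc_0_1 lc_a_rc_4_2 lc_a_rc_5_2 lc_a_rc_4_2 lc_a_rc_1_2 lc_a_rc_21_0 lc_a_rc_2_2 lc_a_rc_2_2 lc_a_rc_1_0 lc_a_rc_3_2 lc_a_rc_21_0 lc_a_rc_2_0 lc_a_rc_4_0 lc_a_rc_4_2 lc_a_rc_2_2 lc_a_rc_1_4 lc_a_rc_3_2 lc_a_rc_0_1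 lc_a_rc_2_2 lc_a_rc_3_2 lc_a_rc_22_0 lc_a_rc_4_2 lc_a_rc_2_0 lc_a_rc_2_0 lc_a_rc_21_0 lc_a_rc_2_2 lc_a_rc_4_2 lc_a_rc_3_2 lc_a_rc_4_2 lc_a_rc_3_2 lc_a_rc_3_2 lc_a_rc_4_2 lc_a_rc_2_0 lc_a_rc_4_2 lc_a_rc_1_4 lc_a_rc_3_2 lc_a_rc_2_2 lc_a_rc_1_0 lc_a_rc_5_0 lc_a_rc_4_2 lc_a_rc_2_2 lc_a_rc_0_1 lc_a_rc_2_2 lc_a_rc_3_2 lc_a_rc_5_0 lc_a_rc_2_2 lc_a_rc_5_2) (@D3.rec (fun _ => (Cert rels S Gen.a)) lc_a_rc_1_2 lc_a_rc_1_4 lc_a_rc_5_2 lc_a_rc_3_2 lc_a_rc_3_2 lc_a_rc_4_2 lc_a_rc_3_2 lc_a_rc_5_2 lc_a_rc_1_2 lc_a_rc_2_2 lc_a_rc_4_2 lc_a_rc_3_2 lc_a_rc_21_0 lc_a_rc_4_2 lc_a_rc_2_2 lc_a_rc_2_2 lc_a_rc_0_1 lc_a_rc_2_2 lc_a_rc_5_2 lc_a_rc_21_0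 lc_a_rc_1_4 lc_a_rc_4_2 lc_a_rc_0_1 lc_a_rc_2_2 lc_a_rc_4_2 lc_a_rc_2_2 lc_a_rc_4_2 lc_a_rc_4_2 lc_a_rc_4_2 lc_a_rc_2_2 lc_a_rc_21_0 lc_a_rc_3_2 lc_a_rc_5_2 lc_a_rc_4_2 lc_a_rc_2_2 lc_a_rc_2_0 lc_a_rc_2_2 lc_a_rc_5_2 lc_a_rc_0_1 lc_a_rc_4_0 lc_a_rc_0_1 lc_a_rc_4_2 lc_a_rc_22_0 lc_a_rc_3_2 lc_a_rc_1_0 lc_a_rc_3_2 lc_a_rc_3_2 lc_a_rc_2_2 lc_a_rc_4_2 lc_a_rc_2_0 lc_a_rc_21_0 lc_a_rc_5_2 lc_a_rc_3_2 lc_a_rc_2_0 lc_a_rc_2_2 lc_a_rc_4_2 lc_a_rc_2_2 lc_a_rc_3_2 lc_a_rc_2_0 lc_a_rc_3_2 lc_a_rc_5_2 lc_a_rc_4_2) (@D3.rec (fun _ => (Cert rels S Gen.a)) lc_a_rc_2_2 lc_a_rc_4_2 lc_a_rc_0_1 lc_a_rc_1_2 lc_a_rc_0_1 lc_a_rc_4_2 lc_a_rc_5_2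 lc_a_rc_2_2 lc_a_rc_3_2 lc_a_rc_3_2 lc_a_rc_2_2 lc_a_rc_3_2 lc_a_rc_21_0 lc_a_rc_3_2 lc_a_rc_5_2 lc_a_rc_3_2 lc_a_rc_3_0 lc_a_rc_2_2 lc_a_rc_4_2 lc_a_rc_4_2 lc_a_rc_3_2 lc_a_rc_4_2 lc_a_rc_3_0 lc_a_rc_21_0 lc_a_rc_1_2 lc_a_rc_3_0 lc_a_rc_2_2 lc_a_rc_3_2 lc_a_rc_0_1 lc_a_rc_21_0 lc_a_rc_3_2 lc_a_rc_3_2 lc_a_rc_2_2 lc_a_rc_4_2 lc_a_rc_3_2 lc_a_rc_0_1 lc_a_rc_0_1 lc_a_rc_3_2 lc_a_rc_3_2 lc_a_rc_3_2 lc_a_rc_2_0 lc_a_rc_3_2 lc_a_rc_3_2 lc_a_rc_0_1 lc_a_rc_3_2 lc_a_rc_3_2 lc_a_rc_2_2 lc_a_rc_4_2 lc_a_rc_21_0 lc_a_rc_3_2 lc_a_rc_1_4 lc_a_rc_4_2 lc_a_rc_2_2 lc_a_rc_2_2 lc_a_rc_0_1 lc_a_rc_3_0 lc_a_rc_3_0 lc_a_rc_1_4 lc_a_rc_4_2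 lc_a_rc_21_0 lc_a_rc_3_2 lc_a_rc_3_2) (@D3.rec (fun _ => (Cert rels S Gen.a)) lc_a_rc_3_2 lc_a_rc_4_0 lc_a_rc_3_2 lc_a_rc_3_2 lc_a_rc_2_2 lc_a_rc_3_2 lc_a_rc_2_2 lc_a_rc_0_1 lc_a_rc_4_2 lc_a_rc_3_2 lc_a_rc_22_0 lc_a_rc_21_0 lc_a_rc_3_2 lc_a_rc_0_1 lc_a_rc_0_1 lc_a_rc_2_2 lc_a_rc_0_1 lc_a_rc_2_2 lc_a_rc_2_0 lc_a_rc_21_0 lc_a_rc_3_2 lc_a_rc_4_0 lc_a_rc_21_0 lc_a_rc_21_0 lc_a_rc_3_2 lc_a_rc_3_2 lc_a_rc_22_0 lc_a_rc_2_2 lc_a_rc_4_2 lc_a_rc_3_2 lc_a_rc_2_2 lc_a_rc_3_2 lc_a_rc_0_1 lc_a_Cert_tree lc_a_rc_3_2 lc_a_rc_21_0 lc_a_rc_3_2 lc_a_rc_2_2 lc_a_rc_5_2 lc_a_rc_2_2 lc_a_rc_3_2 lc_a_rc_2_2 lc_a_rc_1_4 lc_a_rc_1_2 lc_a_rc_0_1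 lc_a_rc_4_2 lc_a_rc_21_0 lc_a_rc_1_2 lc_a_rc_2_2 lc_a_rc_0_1 lc_a_rc_5_0 lc_a_rc_2_2 lc_a_rc_2_2 lc_a_rc_4_2 lc_a_rc_5_2 lc_a_rc_4_2 lc_a_rc_4_2 lc_a_rc_5_2 lc_a_rc_4_0 lc_a_rc_5_2 lc_a_rc_2_0 lc_a_rc_0_1) (@D3.rec (fun _ => (Cert rels S Gen.a)) lc_a_rc_1_0 lc_a_rc_0_1 lc_a_rc_1_4 lc_a_rc_3_0 lc_a_rc_1_2 lc_a_rc_2_0 lc_a_rc_5_2 lc_a_rc_1_2 lc_a_rc_3_2 lc_a_rc_1_4 lc_a_rc_4_2 lc_a_rc_4_0 lc_a_rc_2_2 lc_a_rc_5_2 lc_a_rc_2_2 lc_a_rc_4_2 lc_a_Cert_tree lc_a_rc_4_2 lc_a_rc_0_1 lc_a_rc_3_2 lc_a_rc_5_2 lc_a_rc_0_1 lc_a_rc_21_0 lc_a_rc_0_1 lc_a_rc_1_2 lc_a_rc_2_2 lc_a_rc_1_0 lc_a_rc_3_2 lc_a_rc_5_2 lc_a_rc_5_0 lc_a_rc_5_0 lc_a_rc_1_2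 lc_a_rc_3_2 lc_a_rc_5_0 lc_a_rc_2_2 lc_a_rc_5_2 lc_a_rc_2_2 lc_a_rc_3_0 lc_a_Cert_tree lc_a_rc_3_2 lc_a_rc_21_0 lc_a_rc_0_1 lc_a_rc_4_2 lc_a_rc_5_2 lc_a_rc_0_1 lc_a_rc_0_1 lc_a_rc_21_0 lc_a_rc_2_0 lc_a_rc_4_0 lc_a_rc_4_2 lc_a_rc_1_2 lc_a_rc_3_2 lc_a_rc_4_2 lc_a_rc_0_1 lc_a_rc_0_1 lc_a_rc_3_2 lc_a_rc_5_0 lc_a_rc_3_2 lc_a_Cert_tree lc_a_rc_2_2 lc_a_rc_3_2 lc_a_rc_4_0) (@D3.rec (fun _ => (Cert rels S Gen.a)) lc_a_rc_4_2 lc_a_rc_1_4 lc_a_rc_3_2 lc_a_rc_3_2 lc_a_rc_3_2 lc_a_rc_1_4 lc_a_rc_21_0 lc_a_rc_3_2 lc_a_rc_3_2 lc_a_rc_1_2 lc_a_rc_3_0 lc_a_rc_2_2 lc_a_rc_4_2 lc_a_rc_3_2 lc_a_rc_3_0 lc_a_rc_4_2 lc_a_rc_0_1 lc_a_rc_2_2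 lc_a_rc_3_2 lc_a_rc_4_2 lc_a_rc_5_2 lc_a_rc_4_0 lc_a_rc_0_1 lc_a_rc_3_0 lc_a_rc_4_2 lc_a_rc_21_0 lc_a_rc_4_2 lc_a_rc_3_2 lc_a_rc_5_0 lc_a_rc_3_0 lc_a_rc_2_2 lc_a_rc_3_2 lc_a_rc_4_2 lc_a_rc_0_1 lc_a_rc_22_0 lc_a_rc_2_2 lc_a_rc_4_0 lc_a_rc_0_1 lc_a_rc_4_2 lc_a_rc_3_2 lc_a_rc_21_0 lc_a_rc_3_2 lc_a_rc_5_0 lc_a_rc_3_2 lc_a_rc_2_2 lc_a_rc_3_2 lc_a_rc_3_2 lc_a_rc_2_2 lc_a_rc_4_2 lc_a_rc_5_2 lc_a_rc_4_2 lc_a_rc_2_2 lc_a_rc_4_0 lc_a_rc_2_0 lc_a_rc_2_2 lc_a_rc_5_2 lc_a_rc_4_2 lc_a_rc_4_0 lc_a_rc_3_2 lc_a_rc_0_1 lc_a_rc_2_2 lc_a_rc_1_2) (@D3.rec (fun _ => (Cert rels S Gen.a)) lc_a_rc_2_2 lc_a_rc_21_0 lc_a_rc_2_2 lc_a_rc_0_1 lc_a_rc_2_2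 lc_a_rc_3_2 lc_a_rc_2_2 lc_a_rc_3_2 lc_a_rc_1_2 lc_a_rc_2_2 lc_a_rc_3_2 lc_a_rc_1_2 lc_a_rc_4_2 lc_a_rc_3_0 lc_a_rc_4_2 lc_a_rc_21_0 lc_a_rc_1_2 lc_a_rc_2_2 lc_a_rc_4_2 lc_a_rc_22_0 lc_a_rc_3_2 lc_a_rc_2_2 lc_a_rc_4_2 lc_a_rc_0_1 lc_a_rc_2_2 lc_a_rc_2_0 lc_a_rc_21_0 lc_a_rc_4_0 lc_a_rc_2_2 lc_a_rc_4_0 lc_a_rc_21_0 lc_a_Cert_tree lc_a_rc_3_2 lc_a_rc_4_2 lc_a_rc_5_2 lc_a_rc_4_2 lc_a_rc_5_2 lc_a_rc_2_0 lc_a_rc_21_0 lc_a_rc_3_2 lc_a_rc_2_2 lc_a_rc_2_2 lc_a_rc_3_0 lc_a_rc_21_0 lc_a_rc_4_0 lc_a_rc_21_0 lc_a_rc_0_1 lc_a_rc_5_0 lc_a_rc_4_2 lc_a_rc_2_0 lc_a_rc_0_1 lc_a_rc_4_2 lc_a_rc_3_2 lc_a_rc_3_2 lc_a_rc_22_0 lc_a_rc_3_0 lc_a_rc_4_2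 lc_a_rc_2_2 lc_a_rc_3_2 lc_a_rc_2_2 lc_a_rc_3_2 lc_a_rc_3_2) (@D3.rec (fun _ => (Cert rels S Gen.a)) lc_a_rc_4_2 lc_a_rc_3_0 lc_a_rc_0_1 lc_a_rc_3_2 lc_a_rc_3_2 lc_a_rc_4_2 lc_a_rc_2_2 lc_a_rc_2_0 lc_a_rc_3_2 lc_a_Cert_tree lc_a_rc_3_0 lc_a_rc_21_0 lc_a_rc_0_1 lc_a_rc_3_0 lc_a_rc_21_0 lc_a_rc_4_2 lc_a_rc_4_2 lc_a_rc_4_2 lc_a_rc_4_2 lc_a_rc_0_1 lc_a_rc_4_2 lc_a_rc_1_0 lc_a_rc_3_2 lc_a_rc_5_2 lc_a_rc_2_2 lc_a_rc_4_2 lc_a_rc_21_0 lc_a_rc_2_2 lc_a_rc_4_2 lc_a_rc_2_2 lc_a_rc_2_2 lc_a_rc_3_2 lc_a_rc_3_0 lc_a_rc_2_2 lc_a_rc_2_0 lc_a_rc_5_2 lc_a_rc_1_4 lc_a_rc_5_0 lc_a_rc_4_2 lc_a_rc_5_0 lc_a_rc_2_2 lc_a_rc_4_2 lc_a_rc_2_2 lc_a_rc_4_2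 lc_a_rc_2_2 lc_a_rc_4_2 lc_a_rc_5_2 lc_a_rc_1_4 lc_a_rc_0_1 lc_a_rc_3_2 lc_a_rc_1_4 lc_a_rc_4_2 lc_a_rc_4_0 lc_a_rc_4_2 lc_a_rc_3_2 lc_a_rc_4_2 lc_a_rc_2_2 lc_a_rc_3_2 lc_a_rc_4_0 lc_a_rc_3_2 lc_a_rc_2_0 lc_a_rc_3_2) (@D3.rec (fun _ => (Cert rels S Gen.a)) lc_a_rc_2_2 lc_a_rc_4_2 lc_a_rc_0_1 lc_a_rc_4_0 lc_a_rc_2_2 lc_a_rc_3_0 lc_a_rc_0_1 lc_a_rc_3_2 lc_a_rc_2_2 lc_a_rc_3_2 lc_a_rc_4_2 lc_a_rc_4_0 lc_a_rc_4_2 lc_a_rc_2_2 lc_a_rc_5_2 lc_a_rc_3_2 lc_a_rc_2_2 lc_a_rc_4_2 lc_a_rc_2_2 lc_a_rc_21_0 lc_a_rc_0_1 lc_a_rc_2_2 lc_a_rc_5_2 lc_a_rc_2_2 lc_a_rc_3_2 lc_a_rc_5_0 lc_a_rc_21_0 lc_a_rc_21_0 lc_a_rc_1_4 lc_a_rc_1_4 lc_a_rc_1_0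 lc_a_rc_0_1 lc_a_rc_4_2 lc_a_rc_1_0 lc_a_rc_0_1 lc_a_rc_0_1 lc_a_rc_3_2 lc_a_rc_5_0 lc_a_rc_2_2 lc_a_rc_4_2 lc_a_rc_3_2 lc_a_rc_4_0 lc_a_rc_3_2 lc_a_rc_3_2 lc_a_rc_2_2 lc_a_rc_5_2 lc_a_rc_2_2 lc_a_rc_4_2 lc_a_rc_4_0 lc_a_rc_2_2 lc_a_rc_5_2 lc_a_rc_0_1 lc_a_rc_0_1 lc_a_rc_4_2 lc_a_rc_2_2 lc_a_rc_5_2 lc_a_rc_2_2 lc_a_rc_4_2 lc_a_rc_2_2 lc_a_rc_4_2 lc_a_rc_5_0 lc_a_rc_3_2) (@D3.rec (fun _ => (Cert rels S Gen.a)) lc_a_rc_5_2 lc_a_rc_2_2 lc_a_rc_0_1 lc_a_rc_3_2 lc_a_rc_2_2 lc_a_rc_4_2 lc_a_rc_2_2 lc_a_rc_21_0 lc_a_rc_0_1 lc_a_rc_3_2 lc_a_rc_4_2 lc_a_rc_3_0 lc_a_rc_2_2 lc_a_rc_4_2 lc_a_rc_2_2 lc_a_rc_3_2 lc_a_rc_4_2 lc_a_rc_2_2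 lc_a_rc_21_0 lc_a_rc_5_2 lc_a_rc_5_0 lc_a_rc_3_2 lc_a_rc_4_2 lc_a_rc_4_0 lc_a_rc_3_2 lc_a_rc_5_2 lc_a_rc_21_0 lc_a_rc_21_0 lc_a_rc_0_1 lc_a_rc_2_2 lc_a_rc_5_2 lc_a_rc_3_2 lc_a_rc_2_2 lc_a_rc_3_2 lc_a_rc_1_4 lc_a_rc_2_2 lc_a_rc_2_2 lc_a_rc_4_2 lc_a_rc_0_1 lc_a_rc_0_1 lc_a_rc_21_0 lc_a_rc_4_2 lc_a_rc_3_2 lc_a_rc_2_2 lc_a_rc_4_2 lc_a_rc_4_2 lc_a_rc_1_2 lc_a_rc_4_2 lc_a_rc_3_2 lc_a_rc_3_2 lc_a_rc_5_2 lc_a_rc_3_0 lc_a_rc_3_2 lc_a_rc_3_2 lc_a_rc_2_2 lc_a_rc_2_2 lc_a_rc_2_2 lc_a_rc_3_2 lc_a_rc_2_2 lc_a_rc_4_2 lc_a_rc_4_2 lc_a_rc_3_2) (@D3.rec (fun _ => (Cert rels S Gen.a)) lc_a_rc_1_4 lc_a_rc_2_2 lc_a_rc_4_2 lc_a_rc_0_1 lc_a_rc_4_2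 lc_a_rc_2_2 lc_a_rc_0_1 lc_a_rc_2_0 lc_a_rc_2_2 lc_a_rc_3_2 lc_a_rc_4_2 lc_a_rc_2_2 lc_a_rc_4_2 lc_a_rc_4_2 lc_a_rc_2_2 lc_a_rc_1_2 lc_a_rc_4_2 lc_a_rc_4_2 lc_a_rc_5_2 lc_a_rc_3_2 lc_a_rc_0_1 lc_a_rc_4_2 lc_a_rc_2_2 lc_a_rc_0_1 lc_a_rc_2_2 lc_a_rc_4_0 lc_a_rc_2_2 lc_a_rc_21_0 lc_a_rc_2_2 lc_a_rc_4_2 lc_a_rc_2_0 lc_a_rc_1_4 lc_a_rc_3_2 lc_a_rc_21_0 lc_a_rc_3_2 lc_a_rc_3_2 lc_a_rc_5_2 lc_a_rc_21_0 lc_a_rc_3_2 lc_a_rc_4_2 lc_a_rc_5_0 lc_a_rc_3_2 lc_a_rc_3_2 lc_a_rc_3_2 lc_a_rc_0_1 lc_a_rc_4_0 lc_a_rc_3_2 lc_a_rc_22_0 lc_a_rc_2_2 lc_a_rc_21_0 lc_a_rc_0_1 lc_a_rc_1_4 lc_a_rc_21_0 lc_a_rc_4_2 lc_a_rc_2_2 lc_a_rc_3_0 lc_a_rc_3_2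 lc_a_rc_3_0 lc_a_rc_4_2 lc_a_rc_3_2 lc_a_rc_5_0 lc_a_rc_2_2) (@D3.rec (fun _ => (Cert rels S Gen.a)) lc_a_rc_4_2 lc_a_rc_0_1 lc_a_rc_5_2 lc_a_rc_3_2 lc_a_rc_3_2 lc_a_rc_3_2 lc_a_rc_3_0 lc_a_rc_0_1 lc_a_rc_2_0 lc_a_rc_3_2 lc_a_rc_3_2 lc_a_rc_0_1 lc_a_rc_3_2 lc_a_rc_1_4 lc_a_rc_3_2 lc_a_rc_3_2 lc_a_rc_4_2 lc_a_rc_1_2 lc_a_rc_3_2 lc_a_rc_2_2 lc_a_rc_5_2 lc_a_rc_1_4 lc_a_rc_5_2 lc_a_rc_3_2 lc_a_rc_0_1 lc_a_rc_0_1 lc_a_rc_21_0 lc_a_rc_4_2 lc_a_rc_0_1 lc_a_rc_0_1 lc_a_rc_21_0 lc_a_rc_5_0 lc_a_rc_3_0 lc_a_rc_0_1 lc_a_rc_2_0 lc_a_rc_2_2 lc_a_rc_22_0 lc_a_rc_3_0 lc_a_rc_1_0 lc_a_rc_2_0 lc_a_rc_2_2 lc_a_rc_2_2 lc_a_rc_3_2 lc_a_rc_3_2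 lc_a_rc_3_2 lc_a_rc_5_2 lc_a_rc_4_2 lc_a_rc_2_2 lc_a_rc_1_4 lc_a_rc_2_2 lc_a_rc_4_2 lc_a_rc_3_2 lc_a_rc_1_4 lc_a_rc_3_2 lc_a_rc_4_2 lc_a_rc_5_0 lc_a_rc_3_2 lc_a_rc_5_2 lc_a_rc_2_2 lc_a_rc_0_1 lc_a_rc_3_2 lc_a_rc_3_0) (@D3.rec (fun _ => (Cert rels S Gen.a)) lc_a_rc_21_0 lc_a_rc_3_2 lc_a_rc_1_2 lc_a_rc_3_2 lc_a_rc_3_2 lc_a_rc_5_2 lc_a_rc_21_0 lc_a_rc_3_2 lc_a_rc_4_2 lc_a_rc_1_2 lc_a_rc_3_2 lc_a_rc_2_0 lc_a_rc_4_2 lc_a_rc_0_1 lc_a_rc_21_0 lc_a_rc_5_2 lc_a_rc_22_0 lc_a_rc_22_0 lc_a_rc_5_2 lc_a_rc_4_2 lc_a_rc_3_0 lc_a_rc_3_2 lc_a_rc_4_0 lc_a_rc_0_1 lc_a_rc_1_4 lc_a_rc_2_0 lc_a_rc_3_0 lc_a_rc_3_2 lc_a_rc_3_2 lc_a_rc_5_2 lc_a_rc_3_0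 lc_a_rc_2_0 lc_a_rc_3_2 lc_a_rc_3_0 lc_a_rc_0_1 lc_a_rc_5_2 lc_a_rc_3_2 lc_a_rc_5_2 lc_a_rc_5_2 lc_a_rc_4_2 lc_a_rc_3_2 lc_a_rc_5_2 lc_a_rc_3_2 lc_a_rc_3_2 lc_a_rc_3_2 lc_a_rc_5_0 lc_a_rc_2_2 lc_a_rc_21_0 lc_a_rc_2_0 lc_a_rc_2_2 lc_a_rc_2_2 lc_a_rc_2_2 lc_a_rc_4_2 lc_a_rc_2_2 lc_a_rc_2_2 lc_a_Cert_tree lc_a_rc_3_2 lc_a_rc_22_0 lc_a_rc_4_0 lc_a_rc_2_2 lc_a_rc_4_2 lc_a_rc_2_0)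
def ce_a_24 : D2 → D3 → (Cert rels S Gen.a) := @D2.rec (fun _ => D3 → (Cert rels S Gen.a)) (@D3.rec (fun _ => (Cert rels S Gen.a)) lc_a_rc_21_0 lc_a_rc_5_2 lc_a_rc_0_1 lc_a_rc_5_2 lc_a_rc_4_2 lc_a_rc_5_0 lc_a_rc_5_2 lc_a_rc_4_0 lc_a_rc_0_1 lc_a_rc_4_2 lc_a_rc_2_0 lc_a_rc_3_2 lc_a_rc_3_0 lc_a_rc_2_0 lc_a_rc_2_2 lc_a_rc_0_1 lc_a_rc_21_0 lc_a_rc_4_2 lc_a_rc_21_0 lc_a_rc_0_1 lc_a_rc_3_2 lc_a_rc_3_2 lc_a_rc_5_0 lc_a_rc_3_2 lc_a_rc_1_2 lc_a_rc_3_2 lc_a_rc_5_2 lc_a_rc_4_2 lc_a_rc_3_0 lc_a_rc_0_1 lc_a_rc_2_2 lc_a_rc_3_2 lc_a_rc_2_2 lc_a_rc_5_0 lc_a_rc_0_1 lc_a_rc_4_2 lc_a_rc_3_0 lc_a_rc_4_2 lc_a_rc_2_2 lc_a_rc_4_2 lc_a_rc_3_2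 lc_a_rc_5_2 lc_a_rc_0_1 lc_a_rc_21_0 lc_a_rc_1_2 lc_a_rc_4_2 lc_a_rc_1_2 lc_a_rc_4_2 lc_a_rc_5_2 lc_a_rc_3_2 lc_a_rc_2_2 lc_a_rc_3_2 lc_a_rc_2_2 lc_a_rc_3_2 lc_a_rc_3_2 lc_a_rc_5_0 lc_a_rc_5_2 lc_a_rc_4_2 lc_a_rc_3_0 lc_a_rc_0_1 lc_a_rc_4_2 lc_a_rc_3_2) (@D3.rec (fun _ => (Cert rels S Gen.a)) lc_a_rc_4_2 lc_a_rc_21_0 lc_a_rc_2_2 lc_a_rc_4_2 lc_a_rc_1_2 lc_a_rc_3_2 lc_a_rc_4_2 lc_a_rc_2_2 lc_a_rc_0_1 lc_a_rc_0_1 lc_a_rc_2_0 lc_a_rc_3_0 lc_a_rc_3_0 lc_a_rc_0_1 lc_a_rc_3_0 lc_a_rc_4_2 lc_a_rc_2_0 lc_a_rc_3_2 lc_a_rc_2_2 lc_a_rc_22_0 lc_a_rc_4_2 lc_a_rc_2_2 lc_a_rc_3_2 lc_a_rc_2_2 lc_a_rc_22_0 lc_a_rc_0_1 lc_a_rc_3_2 lc_a_rc_21_0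 lc_a_rc_3_2 lc_a_rc_2_0 lc_a_rc_0_1 lc_a_rc_2_2 lc_a_rc_4_2 lc_a_rc_0_1 lc_a_rc_3_2 lc_a_rc_3_2 lc_a_rc_4_0 lc_a_rc_0_1 lc_a_rc_21_0 lc_a_rc_5_2 lc_a_rc_3_0 lc_a_rc_3_2 lc_a_rc_1_2 lc_a_rc_3_2 lc_a_rc_4_2 lc_a_rc_1_2 lc_a_rc_2_0 lc_a_rc_5_2 lc_a_rc_4_2 lc_a_rc_3_0 lc_a_rc_0_1 lc_a_rc_2_2 lc_a_rc_21_0 lc_a_rc_3_2 lc_a_rc_5_2 lc_a_rc_3_2 lc_a_rc_21_0 lc_a_rc_3_2 lc_a_rc_4_2 lc_a_rc_21_0 lc_a_rc_0_1 lc_a_rc_2_2) (@D3.rec (fun _ => (Cert rels S Gen.a)) lc_a_rc_5_2 lc_a_rc_1_4 lc_a_rc_4_2 lc_a_rc_2_2 lc_a_rc_4_2 lc_a_rc_2_2 lc_a_rc_4_2 lc_a_rc_0_1 lc_a_rc_2_2 lc_a_rc_4_2 lc_a_rc_2_2 lc_a_rc_4_2 lc_a_Cert_tree lc_a_rc_3_2 lc_a_rc_5_2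 lc_a_rc_4_2 lc_a_rc_4_2 lc_a_rc_2_0 lc_a_rc_4_2 lc_a_rc_21_0 lc_a_rc_2_2 lc_a_rc_3_2 lc_a_rc_3_0 lc_a_rc_3_2 lc_a_rc_2_2 lc_a_rc_4_2 lc_a_rc_5_2 lc_a_rc_4_0 lc_a_rc_3_0 lc_a_rc_22_0 lc_a_rc_4_2 lc_a_rc_1_4 lc_a_rc_2_2 lc_a_rc_4_2 lc_a_rc_4_2 lc_a_rc_5_2 lc_a_Cert_tree lc_a_rc_21_0 lc_a_rc_2_2 lc_a_rc_5_2 lc_a_rc_3_2 lc_a_rc_2_2 lc_a_rc_3_2 lc_a_rc_4_2 lc_a_rc_2_2 lc_a_rc_3_2 lc_a_rc_3_0 lc_a_rc_2_2 lc_a_rc_4_2 lc_a_rc_0_1 lc_a_rc_1_0 lc_a_rc_3_2 lc_a_rc_4_2 lc_a_rc_2_2 lc_a_rc_4_2 lc_a_rc_21_0 lc_a_rc_3_2 lc_a_rc_2_2 lc_a_Cert_tree lc_a_rc_3_2 lc_a_rc_3_0 lc_a_rc_3_2) (@D3.rec (fun _ => (Cert rels S Gen.a)) lc_a_rc_5_2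 lc_a_rc_2_2 lc_a_rc_5_2 lc_a_rc_2_0 lc_a_rc_2_2 lc_a_rc_0_1 lc_a_rc_5_0 lc_a_rc_4_2 lc_a_rc_21_0 lc_a_rc_4_2 lc_a_rc_4_0 lc_a_Cert_tree lc_a_rc_3_2 lc_a_rc_21_0 lc_a_rc_3_2 lc_a_rc_4_2 lc_a_rc_3_2 lc_a_rc_3_2 lc_a_rc_3_2 lc_a_rc_3_2 lc_a_rc_2_2 lc_a_rc_2_2 lc_a_rc_4_2 lc_a_rc_4_0 lc_a_rc_3_2 lc_a_rc_21_0 lc_a_rc_3_2 lc_a_rc_22_0 lc_a_rc_3_2 lc_a_rc_21_0 lc_a_rc_1_0 lc_a_rc_4_2 lc_a_rc_5_2 lc_a_rc_2_2 lc_a_rc_4_2 lc_a_rc_2_2 lc_a_rc_0_1 lc_a_rc_3_2 lc_a_rc_2_2 lc_a_rc_2_2 lc_a_rc_3_2 lc_a_rc_2_2 lc_a_rc_3_2 lc_a_rc_2_2 lc_a_rc_4_2 lc_a_rc_5_2 lc_a_rc_22_0 lc_a_rc_5_0 lc_a_rc_2_2 lc_a_rc_4_2 lc_a_rc_2_2 lc_a_rc_4_2 lc_a_rc_2_2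 lc_a_rc_0_1 lc_a_Cert_tree lc_a_rc_3_2 lc_a_rc_4_2 lc_a_rc_2_0 lc_a_rc_3_0 lc_a_rc_3_2 lc_a_rc_5_2 lc_a_rc_2_2) (@D3.rec (fun _ => (Cert rels S Gen.a)) lc_a_rc_0_1 lc_a_rc_0_1 lc_a_rc_3_0 lc_a_rc_2_0 lc_a_rc_4_0 lc_a_rc_5_2 lc_a_rc_4_2 lc_a_rc_2_0 lc_a_rc_2_0 lc_a_rc_5_2 lc_a_Cert_tree lc_a_rc_2_2 lc_a_rc_4_2 lc_a_rc_0_1 lc_a_Cert_tree lc_a_rc_3_2 lc_a_rc_0_1 lc_a_rc_21_0 lc_a_rc_1_4 lc_a_rc_5_2 lc_a_rc_1_0 lc_a_rc_0_1 lc_a_rc_3_0 lc_a_rc_2_0 lc_a_rc_2_2 lc_a_rc_3_2 lc_a_rc_5_2 lc_a_rc_1_0 lc_a_rc_4_2 lc_a_rc_2_2 lc_a_rc_4_2 lc_a_rc_0_1 lc_a_Cert_tree lc_a_rc_3_2 lc_a_rc_2_2 lc_a_rc_0_1 lc_a_rc_4_2 lc_a_rc_5_2 lc_a_rc_0_1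 lc_a_rc_0_1 lc_a_rc_4_2 lc_a_rc_2_2 lc_a_rc_4_2 lc_a_rc_3_2 lc_a_rc_5_2 lc_a_rc_3_2 lc_a_rc_2_2 lc_a_rc_3_2 lc_a_rc_4_2 lc_a_rc_0_1 lc_a_rc_2_2 lc_a_rc_4_2 lc_a_rc_3_2 lc_a_rc_3_0 lc_a_rc_4_2 lc_a_rc_2_2 lc_a_rc_2_2 lc_a_rc_5_2 lc_a_rc_5_2 lc_a_rc_0_1 lc_a_rc_3_2 lc_a_rc_0_1) (@D3.rec (fun _ => (Cert rels S Gen.a)) lc_a_rc_21_0 lc_a_rc_3_2 lc_a_rc_5_2 lc_a_rc_0_1 lc_a_rc_2_2 lc_a_rc_5_0 lc_a_rc_21_0 lc_a_rc_0_1 lc_a_rc_2_2 lc_a_rc_21_0 lc_a_rc_2_0 lc_a_rc_21_0 lc_a_rc_0_1 lc_a_rc_21_0 lc_a_rc_21_0 lc_a_rc_21_0 lc_a_rc_3_2 lc_a_rc_4_2 lc_a_rc_1_2 lc_a_rc_0_1 lc_a_rc_4_2 lc_a_rc_4_2 lc_a_rc_2_2 lc_a_rc_5_2 lc_a_rc_21_0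 lc_a_rc_2_2 lc_a_rc_3_2 lc_a_rc_21_0 lc_a_rc_4_2 lc_a_rc_2_2 lc_a_rc_3_0 lc_a_rc_3_2 lc_a_rc_3_2 lc_a_rc_4_0 lc_a_rc_3_0 lc_a_rc_0_1 lc_a_rc_5_0 lc_a_rc_21_0 lc_a_rc_0_1 lc_a_rc_2_0 lc_a_rc_2_0 lc_a_rc_0_1 lc_a_rc_21_0 lc_a_rc_0_1 lc_a_rc_5_0 lc_a_rc_0_1 lc_a_rc_4_0 lc_a_rc_3_2 lc_a_rc_21_0 lc_a_rc_2_0 lc_a_rc_3_2 lc_a_rc_2_2 lc_a_rc_4_2 lc_a_rc_0_1 lc_a_rc_1_4 lc_a_rc_4_0 lc_a_rc_5_0 lc_a_rc_2_2 lc_a_rc_0_1 lc_a_rc_2_2 lc_a_rc_2_2 lc_a_rc_3_2) (@D3.rec (fun _ => (Cert rels S Gen.a)) lc_a_rc_2_2 lc_a_rc_4_2 lc_a_rc_4_2 lc_a_rc_5_0 lc_a_rc_2_2 lc_a_rc_4_2 lc_a_rc_3_2 lc_a_rc_3_0 lc_a_rc_3_0 lc_a_rc_3_2 lc_a_rc_21_0 lc_a_rc_3_2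 lc_a_rc_4_2 lc_a_rc_4_2 lc_a_rc_0_1 lc_a_rc_2_0 lc_a_rc_1_4 lc_a_rc_4_2 lc_a_rc_21_0 lc_a_rc_3_2 lc_a_rc_1_4 lc_a_rc_4_2 lc_a_rc_4_2 lc_a_rc_1_0 lc_a_rc_5_2 lc_a_rc_3_2 lc_a_rc_21_0 lc_a_rc_0_1 lc_a_rc_2_2 lc_a_rc_4_2 lc_a_rc_2_2 lc_a_rc_0_1 lc_a_rc_2_2 lc_a_rc_2_2 lc_a_rc_21_0 lc_a_rc_4_0 lc_a_rc_5_2 lc_a_rc_4_0 lc_a_rc_2_0 lc_a_rc_21_0 lc_a_rc_4_0 lc_a_rc_3_0 lc_a_rc_3_2 lc_a_rc_4_2 lc_a_rc_5_0 lc_a_rc_0_1 lc_a_rc_4_2 lc_a_rc_2_2 lc_a_rc_3_2 lc_a_rc_5_0 lc_a_rc_4_2 lc_a_rc_2_2 lc_a_rc_3_2 lc_a_rc_4_2 lc_a_rc_0_1 lc_a_rc_0_1 lc_a_rc_3_2 lc_a_rc_5_2 lc_a_rc_4_0 lc_a_rc_3_2 lc_a_rc_3_2 lc_a_rc_2_0) (@D3.rec (fun _ => (Cert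 rels S Gen.a)) lc_a_rc_22_0 lc_a_rc_3_2 lc_a_rc_4_2 lc_a_rc_3_2 lc_a_rc_2_0 lc_a_rc_2_0 lc_a_rc_4_2 lc_a_rc_21_0 lc_a_rc_3_0 lc_a_rc_2_2 lc_a_rc_4_2 lc_a_rc_2_2 lc_a_rc_2_2 lc_a_rc_2_2 lc_a_rc_2_2 lc_a_rc_0_1 lc_a_rc_3_2 lc_a_rc_3_0 lc_a_rc_5_2 lc_a_rc_0_1 lc_a_rc_5_0 lc_a_rc_3_2 lc_a_rc_4_2 lc_a_rc_5_2 lc_a_rc_2_2 lc_a_rc_3_0 lc_a_rc_3_0 lc_a_rc_2_2 lc_a_rc_4_2 lc_a_rc_3_2 lc_a_rc_5_2 lc_a_rc_5_2 lc_a_rc_2_2 lc_a_rc_4_2 lc_a_rc_3_2 lc_a_rc_0_1 lc_a_rc_0_1 lc_a_rc_3_0 lc_a_rc_4_2 lc_a_rc_3_2 lc_a_rc_4_2 lc_a_rc_4_2 lc_a_rc_1_4 lc_a_rc_4_2 lc_a_rc_5_2 lc_a_rc_2_2 lc_a_rc_21_0 lc_a_rc_3_2 lc_a_rc_4_2 lc_a_rc_0_1 lc_a_rc_3_2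 lc_a_rc_4_2 lc_a_rc_0_1 lc_a_rc_1_4 lc_a_rc_1_2 lc_a_rc_3_2 lc_a_rc_1_0 lc_a_rc_21_0 lc_a_rc_4_2 lc_a_rc_2_0 lc_a_rc_3_2 lc_a_rc_2_2) (@D3.rec (fun _ => (Cert rels S Gen.a)) lc_a_rc_1_2 lc_a_Cert_tree lc_a_rc_4_2 lc_a_rc_4_0 lc_a_rc_0_1 lc_a_rc_2_2 lc_a_rc_4_0 lc_a_rc_5_2 lc_a_rc_21_0 lc_a_rc_4_0 lc_a_rc_3_2 lc_a_rc_2_0 lc_a_rc_1_2 lc_a_rc_4_2 lc_a_rc_4_2 lc_a_rc_4_2 lc_a_rc_4_0 lc_a_rc_3_0 lc_a_rc_4_2 lc_a_rc_2_2 lc_a_rc_4_0 lc_a_rc_3_2 lc_a_rc_1_4 lc_a_rc_4_0 lc_a_rc_0_1 lc_a_rc_5_2 lc_a_rc_4_2 lc_a_rc_21_0 lc_a_rc_4_2 lc_a_rc_2_2 lc_a_rc_5_2 lc_a_rc_21_0 lc_a_rc_22_0 lc_a_rc_3_0 lc_a_rc_3_2 lc_a_rc_3_2 lc_a_rc_3_2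 lc_a_rc_3_2 lc_a_rc_4_2 lc_a_rc_2_2 lc_a_rc_21_0 lc_a_rc_5_2 lc_a_rc_4_2 lc_a_rc_5_2 lc_a_rc_4_2 lc_a_rc_0_1 lc_a_rc_1_2 lc_a_rc_1_4 lc_a_rc_4_2 lc_a_rc_0_1 lc_a_rc_4_0 lc_a_rc_3_2 lc_a_rc_4_2 lc_a_rc_21_0 lc_a_rc_5_0 lc_a_rc_4_2 lc_a_rc_21_0 lc_a_rc_3_2 lc_a_rc_4_2 lc_a_rc_1_2 lc_a_rc_4_2 lc_a_rc_2_2) (@D3.rec (fun _ => (Cert rels S Gen.a)) lc_a_rc_21_0 lc_a_rc_3_2 lc_a_rc_0_1 lc_a_rc_3_2 lc_a_rc_21_0 lc_a_rc_3_2 lc_a_rc_2_2 lc_a_rc_0_1 lc_a_rc_3_0 lc_a_rc_1_2 lc_a_rc_5_0 lc_a_rc_2_2 lc_a_rc_3_2 lc_a_rc_4_0 lc_a_rc_0_1 lc_a_rc_3_0 lc_a_rc_5_0 lc_a_rc_4_2 lc_a_rc_2_2 lc_a_rc_3_0 lc_a_rc_0_1 lc_a_rc_5_2 lc_a_rc_21_0 lc_a_rc_4_2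 lc_a_rc_5_2 lc_a_rc_5_0 lc_a_rc_4_0 lc_a_rc_5_0 lc_a_rc_5_2 lc_a_rc_0_1 lc_a_rc_2_2 lc_a_rc_2_2 lc_a_rc_3_2 lc_a_rc_0_1 lc_a_rc_21_0 lc_a_rc_3_2 lc_a_rc_3_0 lc_a_rc_4_2 lc_a_rc_4_2 lc_a_rc_2_2 lc_a_rc_0_1 lc_a_rc_4_2 lc_a_rc_3_0 lc_a_rc_2_0 lc_a_rc_3_0 lc_a_rc_5_2 lc_a_rc_0_1 lc_a_rc_4_2 lc_a_rc_21_0 lc_a_rc_22_0 lc_a_rc_2_2 lc_a_rc_1_2 lc_a_rc_3_2 lc_a_rc_3_2 lc_a_rc_2_2 lc_a_rc_3_2 lc_a_rc_3_2 lc_a_rc_4_2 lc_a_rc_2_2 lc_a_rc_21_0 lc_a_rc_0_1 lc_a_rc_5_2) (@D3.rec (fun _ => (Cert rels S Gen.a)) lc_a_rc_3_2 lc_a_rc_1_2 lc_a_rc_2_2 lc_a_rc_3_2 lc_a_rc_1_4 lc_a_rc_3_2 lc_a_rc_0_1 lc_a_rc_3_2 lc_a_rc_2_2 lc_a_rc_3_2 lc_a_rc_4_2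 lc_a_rc_2_2 lc_a_rc_4_2 lc_a_rc_4_2 lc_a_rc_1_0 lc_a_rc_1_2 lc_a_rc_3_2 lc_a_rc_3_0 lc_a_rc_1_2 lc_a_rc_2_0 lc_a_rc_3_2 lc_a_rc_0_1 lc_a_rc_1_2 lc_a_rc_4_2 lc_a_rc_5_0 lc_a_rc_2_0 lc_a_rc_2_0 lc_a_rc_3_2 lc_a_rc_1_2 lc_a_rc_4_2 lc_a_rc_0_1 lc_a_rc_3_2 lc_a_rc_5_2 lc_a_rc_1_4 lc_a_rc_4_2 lc_a_rc_5_2 lc_a_rc_5_0 lc_a_rc_3_2 lc_a_rc_0_1 lc_a_rc_1_4 lc_a_rc_21_0 lc_a_rc_3_2 lc_a_rc_5_2 lc_a_rc_4_2 lc_a_rc_5_0 lc_a_rc_3_2 lc_a_rc_5_2 lc_a_rc_4_2 lc_a_rc_3_2 lc_a_rc_3_2 lc_a_rc_5_2 lc_a_rc_2_2 lc_a_rc_2_0 lc_a_rc_1_2 lc_a_rc_4_2 lc_a_rc_4_0 lc_a_rc_5_2 lc_a_rc_4_2 lc_a_rc_2_0 lc_a_rc_3_2 lc_a_rc_3_2 lc_a_rc_2_2) (@D3.rec (fun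 _ => (Cert rels S Gen.a)) lc_a_rc_3_2 lc_a_rc_2_2 lc_a_rc_4_2 lc_a_rc_2_2 lc_a_rc_3_0 lc_a_rc_3_2 lc_a_rc_5_2 lc_a_rc_5_0 lc_a_rc_1_2 lc_a_rc_5_2 lc_a_rc_21_0 lc_a_rc_4_2 lc_a_rc_1_0 lc_a_rc_21_0 lc_a_rc_2_2 lc_a_rc_4_2 lc_a_rc_5_0 lc_a_rc_4_2 lc_a_rc_21_0 lc_a_rc_3_2 lc_a_rc_2_0 lc_a_Cert_tree lc_a_rc_4_0 lc_a_rc_4_2 lc_a_rc_3_2 lc_a_rc_3_2 lc_a_rc_22_0 lc_a_rc_2_2 lc_a_rc_1_0 lc_a_rc_1_4 lc_a_rc_5_2 lc_a_rc_2_0 lc_a_rc_3_2 lc_a_rc_5_0 lc_a_rc_0_1 lc_a_rc_3_0 lc_a_rc_2_0 lc_a_rc_2_2 lc_a_rc_3_0 lc_a_rc_0_1 lc_a_rc_21_0 lc_a_rc_0_1 lc_a_rc_2_2 lc_a_rc_4_2 lc_a_rc_3_2 lc_a_rc_5_2 lc_a_rc_0_1 lc_a_rc_0_1 lc_a_rc_2_2 lc_a_rc_4_2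 lc_a_rc_3_2 lc_a_rc_5_2 lc_a_rc_0_1 lc_a_rc_2_0 lc_a_rc_2_0 lc_a_rc_0_1 lc_a_rc_2_0 lc_a_rc_1_4 lc_a_rc_2_0 lc_a_rc_3_0 lc_a_rc_4_2 lc_a_rc_2_2) (@D3.rec (fun _ => (Cert rels S Gen.a)) lc_a_rc_3_2 lc_a_rc_3_2 lc_a_rc_2_2 lc_a_rc_4_0 lc_a_rc_2_2 lc_a_rc_4_2 lc_a_rc_3_0 lc_a_rc_1_4 lc_a_rc_2_2 lc_a_rc_2_2 lc_a_rc_4_2 lc_a_rc_2_2 lc_a_rc_4_2 lc_a_rc_5_0 lc_a_rc_4_2 lc_a_rc_2_2 lc_a_rc_4_2 lc_a_Cert_tree lc_a_rc_3_2 lc_a_rc_5_2 lc_a_rc_4_2 lc_a_rc_3_2 lc_a_rc_2_2 lc_a_rc_0_1 lc_a_rc_4_2 lc_a_rc_2_2 lc_a_rc_4_2 lc_a_rc_5_0 lc_a_rc_1_4 lc_a_rc_2_2 lc_a_rc_5_2 lc_a_rc_1_2 lc_a_rc_4_2 lc_a_rc_5_0 lc_a_rc_2_2 lc_a_rc_4_2 lc_a_rc_2_2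 lc_a_rc_4_0 lc_a_rc_2_2 lc_a_rc_4_2 lc_a_rc_5_2 lc_a_rc_0_1 lc_a_rc_3_0 lc_a_rc_3_0 lc_a_rc_21_0 lc_a_rc_3_2 lc_a_rc_2_2 lc_a_rc_4_2 lc_a_rc_4_2 lc_a_rc_1_2 lc_a_rc_3_2 lc_a_rc_4_2 lc_a_rc_3_0 lc_a_rc_5_2 lc_a_rc_3_2 lc_a_rc_0_1 lc_a_rc_4_2 lc_a_rc_0_1 lc_a_rc_4_2 lc_a_rc_1_2 lc_a_rc_2_2 lc_a_rc_5_0) (@D3.rec (fun _ => (Cert rels S Gen.a)) lc_a_rc_4_2 lc_a_rc_5_0 lc_a_rc_21_0 lc_a_rc_4_2 lc_a_rc_0_1 lc_a_rc_3_2 lc_a_rc_5_2 lc_a_rc_4_2 lc_a_rc_2_0 lc_a_rc_0_1 lc_a_rc_2_2 lc_a_rc_3_0 lc_a_rc_1_0 lc_a_rc_5_2 lc_a_rc_2_0 lc_a_rc_3_2 lc_a_rc_0_1 lc_a_rc_3_2 lc_a_rc_4_2 lc_a_rc_21_0 lc_a_rc_2_2 lc_a_rc_0_1 lc_a_rc_3_2 lc_a_rc_21_0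 lc_a_rc_3_2 lc_a_rc_3_0 lc_a_rc_2_2 lc_a_rc_4_2 lc_a_rc_22_0 lc_a_rc_22_0 lc_a_rc_3_0 lc_a_rc_4_2 lc_a_rc_2_2 lc_a_rc_2_2 lc_a_rc_4_0 lc_a_rc_5_2 lc_a_rc_4_2 lc_a_rc_5_0 lc_a_rc_3_2 lc_a_rc_0_1 lc_a_rc_4_2 lc_a_rc_4_2 lc_a_rc_3_2 lc_a_rc_2_2 lc_a_rc_3_2 lc_a_rc_22_0 lc_a_rc_4_2 lc_a_rc_2_2 lc_a_rc_4_2 lc_a_rc_2_2 lc_a_rc_2_2 lc_a_rc_4_2 lc_a_rc_0_1 lc_a_rc_2_2 lc_a_rc_3_2 lc_a_rc_5_2 lc_a_rc_3_2 lc_a_rc_1_0 lc_a_rc_0_1 lc_a_rc_21_0 lc_a_rc_22_0 lc_a_rc_3_2) (@D3.rec (fun _ => (Cert rels S Gen.a)) lc_a_rc_4_2 lc_a_rc_21_0 lc_a_rc_3_2 lc_a_rc_5_2 lc_a_rc_5_2 lc_a_rc_0_1 lc_a_rc_0_1 lc_a_rc_3_2 lc_a_rc_1_2 lc_a_rc_0_1 lc_a_rc_5_2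 lc_a_rc_0_1 lc_a_rc_3_2 lc_a_rc_4_2 lc_a_rc_1_2 lc_a_rc_3_0 lc_a_rc_3_0 lc_a_rc_1_4 lc_a_rc_4_2 lc_a_rc_3_2 lc_a_rc_21_0 lc_a_rc_3_0 lc_a_rc_2_2 lc_a_rc_3_2 lc_a_rc_21_0 lc_a_rc_2_2 lc_a_rc_3_2 lc_a_rc_1_4 lc_a_rc_3_2 lc_a_rc_4_2 lc_a_rc_3_0 lc_a_rc_3_0 lc_a_rc_0_1 lc_a_rc_4_0 lc_a_rc_3_2 lc_a_rc_2_2 lc_a_rc_0_1 lc_a_rc_4_2 lc_a_rc_4_2 lc_a_rc_3_2 lc_a_rc_2_2 lc_a_rc_2_2 lc_a_rc_4_2 lc_a_rc_2_0 lc_a_rc_21_0 lc_a_rc_2_2 lc_a_rc_3_2 lc_a_rc_21_0 lc_a_rc_3_2 lc_a_rc_21_0 lc_a_rc_4_0 lc_a_rc_5_2 lc_a_rc_5_2 lc_a_rc_4_2 lc_a_rc_2_2 lc_a_rc_3_2 lc_a_rc_2_2 lc_a_rc_3_2 lc_a_rc_2_0 lc_a_rc_2_0 lc_a_rc_5_0 lc_a_rc_21_0) (@D3.rec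 (fun _ => (Cert rels S Gen.a)) lc_a_rc_3_2 lc_a_rc_4_2 lc_a_rc_5_2 lc_a_rc_21_0 lc_a_rc_3_2 lc_a_rc_21_0 lc_a_rc_3_2 lc_a_rc_21_0 lc_a_rc_4_2 lc_a_rc_1_2 lc_a_rc_4_2 lc_a_rc_5_0 lc_a_rc_4_2 lc_a_Cert_tree lc_a_rc_2_2 lc_a_rc_4_0 lc_a_rc_5_2 lc_a_rc_5_2 lc_a_rc_4_2 lc_a_rc_3_2 lc_a_rc_3_2 lc_a_rc_4_2 lc_a_rc_3_2 lc_a_rc_5_0 lc_a_rc_3_2 lc_a_rc_3_2 lc_a_rc_3_2 lc_a_rc_2_2 lc_a_rc_4_2 lc_a_rc_2_2 lc_a_rc_2_2 lc_a_rc_4_2 lc_a_rc_21_0 lc_a_rc_3_2 lc_a_rc_1_0 lc_a_rc_0_1 lc_a_rc_4_2 lc_a_rc_1_2 lc_a_rc_4_0 lc_a_rc_1_4 lc_a_rc_1_4 lc_a_rc_1_4 lc_a_rc_21_0 lc_a_rc_0_1 lc_a_rc_2_2 lc_a_rc_5_0 lc_a_rc_1_0 lc_a_rc_4_2 lc_a_rc_5_2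 lc_a_rc_2_2 lc_a_rc_2_2 lc_a_rc_3_0 lc_a_rc_2_2 lc_a_rc_0_1 lc_a_rc_4_2 lc_a_rc_21_0 lc_a_rc_2_2 lc_a_rc_0_1 lc_a_rc_3_2 lc_a_rc_0_1 lc_a_rc_5_2 lc_a_rc_4_2) (@D3.rec (fun _ => (Cert rels S Gen.a)) lc_a_rc_2_0 lc_a_rc_4_0 lc_a_rc_3_2 lc_a_Cert_tree lc_a_rc_3_2 lc_a_rc_2_0 lc_a_Cert_tree lc_a_rc_2_0 lc_a_rc_0_1 lc_a_rc_4_0 lc_a_rc_0_1 lc_a_rc_22_0 lc_a_rc_4_2 lc_a_rc_22_0 lc_a_rc_2_2 lc_a_rc_2_2 lc_a_rc_4_2 lc_a_rc_0_1 lc_a_rc_5_0 lc_a_rc_3_2 lc_a_rc_3_0 lc_a_rc_4_2 lc_a_rc_4_2 lc_a_rc_4_2 lc_a_rc_5_2 lc_a_rc_21_0 lc_a_rc_4_2 lc_a_rc_5_0 lc_a_rc_4_2 lc_a_rc_1_0 lc_a_rc_22_0 lc_a_rc_4_0 lc_a_rc_0_1 lc_a_rc_4_2 lc_a_rc_1_2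 lc_a_rc_3_2 lc_a_rc_2_0 lc_a_rc_4_2 lc_a_rc_5_2 lc_a_rc_2_2 lc_a_rc_4_2 lc_a_rc_3_2 lc_a_Cert_tree lc_a_rc_3_2 lc_a_rc_0_1 lc_a_rc_4_2 lc_a_rc_2_2 lc_a_rc_4_2 lc_a_rc_0_1 lc_a_Cert_tree lc_a_rc_3_2 lc_a_rc_4_2 lc_a_rc_4_0 lc_a_rc_21_0 lc_a_rc_2_0 lc_a_rc_5_0 lc_a_rc_0_1 lc_a_rc_2_2 lc_a_rc_4_2 lc_a_rc_4_2 lc_a_rc_4_2 lc_a_rc_2_0) (@D3.rec (fun _ => (Cert rels S Gen.a)) lc_a_rc_3_2 lc_a_rc_2_2 lc_a_rc_4_2 lc_a_rc_3_0 lc_a_rc_2_2 lc_a_rc_0_1 lc_a_rc_2_2 lc_a_rc_4_2 lc_a_Cert_tree lc_a_rc_3_2 lc_a_rc_0_1 lc_a_rc_3_2 lc_a_rc_21_0 lc_a_rc_5_2 lc_a_rc_2_2 lc_a_rc_1_0 lc_a_rc_0_1 lc_a_rc_21_0 lc_a_rc_2_0 lc_a_rc_2_0 lc_a_rc_0_1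 lc_a_rc_1_0 lc_a_rc_2_2 lc_a_rc_1_0 lc_a_rc_4_2 lc_a_rc_2_0 lc_a_rc_0_1 lc_a_rc_1_4 lc_a_rc_1_4 lc_a_rc_4_2 lc_a_rc_4_2 lc_a_rc_3_2 lc_a_rc_5_2 lc_a_rc_0_1 lc_a_rc_0_1 lc_a_rc_21_0 lc_a_rc_0_1 lc_a_rc_2_0 lc_a_rc_5_2 lc_a_rc_21_0 lc_a_rc_3_0 lc_a_rc_3_2 lc_a_rc_22_0 lc_a_rc_3_2 lc_a_rc_2_2 lc_a_rc_0_1 lc_a_rc_2_2 lc_a_rc_3_0 lc_a_rc_3_0 lc_a_rc_5_2 lc_a_rc_1_2 lc_a_rc_4_0 lc_a_rc_1_4 lc_a_rc_3_2 lc_a_rc_4_2 lc_a_rc_21_0 lc_a_rc_0_1 lc_a_rc_4_2 lc_a_rc_3_2 lc_a_rc_3_2 lc_a_rc_2_2 lc_a_rc_5_2) (@D3.rec (fun _ => (Cert rels S Gen.a)) lc_a_rc_0_1 lc_a_rc_3_2 lc_a_rc_4_0 lc_a_rc_3_2 lc_a_rc_2_2 lc_a_rc_3_2 lc_a_rc_1_4 lc_a_rc_3_2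 lc_a_rc_4_2 lc_a_rc_2_2 lc_a_rc_4_2 lc_a_rc_2_2 lc_a_rc_3_2 lc_a_rc_1_2 lc_a_rc_0_1 lc_a_rc_3_2 lc_a_rc_3_2 lc_a_rc_2_2 lc_a_rc_5_2 lc_a_rc_0_1 lc_a_rc_5_0 lc_a_rc_2_2 lc_a_rc_1_2 lc_a_rc_21_0 lc_a_rc_3_2 lc_a_rc_22_0 lc_a_rc_1_0 lc_a_rc_2_2 lc_a_rc_4_0 lc_a_rc_1_0 lc_a_rc_0_1 lc_a_rc_3_2 lc_a_rc_3_2 lc_a_rc_3_2 lc_a_rc_5_0 lc_a_rc_0_1 lc_a_rc_2_2 lc_a_rc_3_0 lc_a_rc_4_2 lc_a_rc_3_2 lc_a_rc_0_1 lc_a_rc_1_4 lc_a_rc_21_0 lc_a_rc_4_2 lc_a_rc_2_2 lc_a_rc_4_2 lc_a_rc_2_0 lc_a_rc_2_2 lc_a_rc_3_0 lc_a_rc_0_1 lc_a_rc_4_2 lc_a_rc_1_2 lc_a_rc_4_2 lc_a_rc_3_2 lc_a_rc_21_0 lc_a_rc_4_2 lc_a_rc_2_2 lc_a_rc_2_2 lc_a_rc_4_2 lc_a_rc_2_2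 lc_a_rc_5_2 lc_a_rc_4_2) (@D3.rec (fun _ => (Cert rels S Gen.a)) lc_a_rc_4_2 lc_a_rc_2_2 lc_a_rc_3_2 lc_a_rc_21_0 lc_a_rc_2_2 lc_a_rc_3_2 lc_a_rc_2_2 lc_a_rc_2_2 lc_a_rc_3_0 lc_a_rc_4_2 lc_a_rc_2_0 lc_a_rc_5_0 lc_a_rc_2_2 lc_a_rc_2_2 lc_a_rc_4_2 lc_a_rc_2_2 lc_a_rc_0_1 lc_a_rc_4_0 lc_a_rc_22_0 lc_a_rc_2_2 lc_a_rc_4_2 lc_a_rc_2_2 lc_a_rc_3_2 lc_a_rc_2_2 lc_a_rc_2_2 lc_a_rc_22_0 lc_a_rc_2_2 lc_a_rc_1_4 lc_a_rc_3_2 lc_a_rc_4_2 lc_a_rc_0_1 lc_a_rc_2_2 lc_a_Cert_tree lc_a_rc_22_0 lc_a_rc_0_1 lc_a_Cert_tree lc_a_rc_0_1 lc_a_rc_0_1 lc_a_rc_1_4 lc_a_rc_21_0 lc_a_rc_3_2 lc_a_rc_22_0 lc_a_rc_0_1 lc_a_rc_3_2 lc_a_rc_5_2 lc_a_rc_3_2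 lc_a_rc_3_2 lc_a_rc_0_1 lc_a_rc_3_2 lc_a_rc_5_2 lc_a_rc_1_4 lc_a_rc_2_0 lc_a_rc_3_2 lc_a_rc_0_1 lc_a_rc_21_0 lc_a_rc_2_2 lc_a_rc_5_2 lc_a_rc_3_0 lc_a_rc_2_2 lc_a_rc_0_1 lc_a_rc_3_2 lc_a_rc_2_2) (@D3.rec (fun _ => (Cert rels S Gen.a)) lc_a_rc_4_2 lc_a_rc_2_2 lc_a_rc_3_2 lc_a_rc_3_2 lc_a_rc_4_0 lc_a_rc_21_0 lc_a_rc_4_0 lc_a_rc_0_1 lc_a_rc_3_2 lc_a_rc_1_0 lc_a_rc_3_0 lc_a_rc_4_2 lc_a_rc_4_2 lc_a_rc_21_0 lc_a_rc_3_0 lc_a_rc_2_2 lc_a_rc_2_2 lc_a_rc_3_2 lc_a_rc_4_2 lc_a_rc_3_2 lc_a_rc_5_2 lc_a_rc_3_2 lc_a_rc_3_2 lc_a_rc_21_0 lc_a_rc_4_2 lc_a_rc_0_1 lc_a_rc_3_2 lc_a_rc_5_2 lc_a_rc_5_2 lc_a_rc_2_2 lc_a_rc_4_0 lc_a_rc_2_2 lc_a_rc_4_0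 lc_a_rc_5_2 lc_a_rc_0_1 lc_a_rc_2_2 lc_a_rc_3_2 lc_a_rc_4_2 lc_a_rc_5_2 lc_a_rc_1_2 lc_a_rc_3_2 lc_a_rc_2_2 lc_a_rc_3_2 lc_a_rc_0_1 lc_a_rc_1_4 lc_a_rc_1_4 lc_a_rc_4_2 lc_a_rc_0_1 lc_a_rc_1_4 lc_a_rc_4_2 lc_a_rc_0_1 lc_a_rc_22_0 lc_a_rc_4_2 lc_a_rc_21_0 lc_a_rc_4_0 lc_a_rc_0_1 lc_a_rc_22_0 lc_a_rc_2_2 lc_a_rc_2_2 lc_a_rc_2_0 lc_a_rc_2_2 lc_a_rc_0_1) (@D3.rec (fun _ => (Cert rels S Gen.a)) lc_a_rc_1_0 lc_a_rc_2_2 lc_a_rc_0_1 lc_a_rc_2_2 lc_a_rc_4_2 lc_a_rc_2_0 lc_a_rc_4_2 lc_a_rc_3_2 lc_a_rc_4_0 lc_a_rc_1_4 lc_a_rc_0_1 lc_a_rc_0_1 lc_a_rc_3_0 lc_a_rc_4_2 lc_a_rc_0_1 lc_a_rc_21_0 lc_a_rc_4_2 lc_a_rc_4_2 lc_a_rc_1_0 lc_a_rc_4_2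 lc_a_rc_4_0 lc_a_rc_3_0 lc_a_rc_3_0 lc_a_rc_1_4 lc_a_rc_2_2 lc_a_rc_4_2 lc_a_rc_2_2 lc_a_rc_3_2 lc_a_rc_2_2 lc_a_rc_4_2 lc_a_rc_3_2 lc_a_rc_0_1 lc_a_rc_3_0 lc_a_rc_2_2 lc_a_rc_4_2 lc_a_rc_4_2 lc_a_rc_0_1 lc_a_rc_4_2 lc_a_rc_4_2 lc_a_rc_2_2 lc_a_rc_3_0 lc_a_rc_2_0 lc_a_rc_2_0 lc_a_rc_5_0 lc_a_rc_21_0 lc_a_rc_1_4 lc_a_rc_3_2 lc_a_rc_21_0 lc_a_rc_4_0 lc_a_rc_0_1 lc_a_rc_4_2 lc_a_rc_3_0 lc_a_rc_4_0 lc_a_rc_4_2 lc_a_rc_2_2 lc_a_rc_4_0 lc_a_rc_3_0 lc_a_rc_0_1 lc_a_rc_4_2 lc_a_rc_4_0 lc_a_rc_0_1 lc_a_rc_21_0) (@D3.rec (fun _ => (Cert rels S Gen.a)) lc_a_rc_3_2 lc_a_rc_3_2 lc_a_rc_3_2 lc_a_rc_4_2 lc_a_rc_2_2 lc_a_rc_3_0 lc_a_rc_2_2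 lc_a_rc_4_2 lc_a_rc_5_0 lc_a_rc_2_2 lc_a_rc_5_2 lc_a_rc_3_0 lc_a_rc_3_2 lc_a_rc_2_2 lc_a_rc_5_2 lc_a_rc_0_1 lc_a_rc_4_2 lc_a_rc_2_0 lc_a_rc_4_0 lc_a_rc_5_0 lc_a_rc_4_0 lc_a_rc_3_0 lc_a_rc_0_1 lc_a_rc_21_0 lc_a_rc_1_2 lc_a_rc_3_2 lc_a_rc_5_2 lc_a_rc_21_0 lc_a_rc_4_2 lc_a_rc_3_2 lc_a_rc_1_4 lc_a_rc_3_2 lc_a_rc_4_2 lc_a_rc_3_0 lc_a_rc_3_2 lc_a_rc_4_2 lc_a_rc_5_0 lc_a_rc_4_0 lc_a_rc_3_2 lc_a_rc_1_0 lc_a_rc_3_2 lc_a_rc_3_2 lc_a_rc_0_1 lc_a_rc_2_2 lc_a_rc_4_2 lc_a_rc_4_2 lc_a_rc_1_4 lc_a_rc_5_0 lc_a_rc_4_2 lc_a_rc_5_0 lc_a_rc_3_2 lc_a_rc_5_2 lc_a_rc_0_1 lc_a_rc_0_1 lc_a_rc_2_0 lc_a_rc_4_2 lc_a_rc_2_2 lc_a_rc_2_0 lc_a_rc_22_0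 lc_a_rc_2_2 lc_a_rc_2_2 lc_a_rc_21_0) (@D3.rec (fun _ => (Cert rels S Gen.a)) lc_a_rc_1_4 lc_a_rc_4_0 lc_a_rc_5_0 lc_a_rc_3_2 lc_a_rc_3_0 lc_a_rc_4_2 lc_a_rc_3_2 lc_a_rc_2_0 lc_a_rc_4_2 lc_a_rc_4_0 lc_a_rc_2_0 lc_a_rc_1_0 lc_a_rc_3_2 lc_a_rc_5_2 lc_a_rc_3_2 lc_a_rc_3_0 lc_a_rc_3_0 lc_a_rc_4_2 lc_a_rc_1_4 lc_a_rc_3_0 lc_a_Cert_tree lc_a_rc_2_2 lc_a_rc_22_0 lc_a_rc_21_0 lc_a_rc_3_0 lc_a_rc_2_0 lc_a_rc_4_2 lc_a_rc_2_0 lc_a_rc_3_0 lc_a_rc_4_2 lc_a_rc_4_2 lc_a_rc_2_2 lc_a_rc_4_2 lc_a_rc_2_0 lc_a_rc_3_0 lc_a_rc_2_2 lc_a_rc_3_0 lc_a_rc_2_0 lc_a_rc_22_0 lc_a_rc_2_0 lc_a_rc_3_0 lc_a_rc_22_0 lc_a_rc_2_2 lc_a_rc_4_2 lc_a_rc_0_1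 lc_a_rc_3_2 lc_a_rc_4_2 lc_a_rc_3_2 lc_a_rc_3_2 lc_a_rc_21_0 lc_a_rc_3_2 lc_a_rc_3_0 lc_a_rc_3_2 lc_a_rc_2_2 lc_a_rc_4_2 lc_a_rc_2_2 lc_a_rc_5_2 lc_a_rc_2_0 lc_a_rc_0_1 lc_a_rc_1_2 lc_a_rc_21_0 lc_a_rc_2_2) (@D3.rec (fun _ => (Cert rels S Gen.a)) lc_a_rc_21_0 lc_a_rc_3_2 lc_a_rc_5_2 lc_a_rc_4_2 lc_a_rc_3_0 lc_a_rc_21_0 lc_a_rc_0_1 lc_a_rc_2_2 lc_a_rc_2_2 lc_a_rc_21_0 lc_a_rc_21_0 lc_a_rc_21_0 lc_a_rc_1_0 lc_a_rc_3_0 lc_a_rc_4_2 lc_a_rc_2_0 lc_a_rc_4_2 lc_a_rc_5_2 lc_a_rc_1_0 lc_a_rc_5_0 lc_a_rc_3_2 lc_a_rc_4_2 lc_a_rc_4_0 lc_a_rc_4_2 lc_a_rc_3_0 lc_a_rc_3_0 lc_a_rc_1_4 lc_a_rc_3_0 lc_a_rc_4_2 lc_a_rc_2_2 lc_a_rc_4_2 lc_a_rc_21_0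 lc_a_rc_3_0 lc_a_rc_5_0 lc_a_rc_2_2 lc_a_rc_21_0 lc_a_rc_3_0 lc_a_rc_0_1 lc_a_rc_1_4 lc_a_rc_2_2 lc_a_rc_0_1 lc_a_rc_3_2 lc_a_rc_21_0 lc_a_rc_4_2 lc_a_rc_21_0 lc_a_rc_0_1 lc_a_rc_5_2 lc_a_rc_4_0 lc_a_rc_3_2 lc_a_rc_2_2 lc_a_rc_1_2 lc_a_rc_0_1 lc_a_rc_5_2 lc_a_rc_3_0 lc_a_rc_3_0 lc_a_rc_3_0 lc_a_rc_5_2 lc_a_rc_1_2 lc_a_rc_4_2 lc_a_rc_22_0 lc_a_rc_4_2 lc_a_rc_21_0) (@D3.rec (fun _ => (Cert rels S Gen.a)) lc_a_rc_0_1 lc_a_rc_5_2 lc_a_rc_5_2 lc_a_rc_2_0 lc_a_rc_3_2 lc_a_rc_4_2 lc_a_rc_21_0 lc_a_rc_1_4 lc_a_rc_0_1 lc_a_rc_21_0 lc_a_rc_3_0 lc_a_rc_4_2 lc_a_rc_1_2 lc_a_rc_2_2 lc_a_rc_3_2 lc_a_rc_4_2 lc_a_rc_3_0 lc_a_rc_1_4 lc_a_rc_5_0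 lc_a_rc_2_2 lc_a_rc_3_0 lc_a_rc_3_2 lc_a_rc_0_1 lc_a_rc_4_2 lc_a_rc_2_0 lc_a_rc_21_0 lc_a_rc_0_1 lc_a_rc_4_2 lc_a_rc_3_0 lc_a_rc_3_0 lc_a_rc_4_0 lc_a_rc_22_0 lc_a_rc_3_0 lc_a_rc_3_2 lc_a_rc_1_4 lc_a_rc_2_2 lc_a_rc_3_2 lc_a_rc_2_0 lc_a_rc_2_2 lc_a_rc_3_0 lc_a_rc_2_2 lc_a_rc_5_2 lc_a_rc_3_2 lc_a_rc_2_2 lc_a_rc_4_2 lc_a_rc_2_2 lc_a_rc_1_2 lc_a_rc_5_0 lc_a_rc_4_2 lc_a_rc_2_2 lc_a_rc_3_2 lc_a_rc_5_0 lc_a_rc_2_2 lc_a_rc_4_0 lc_a_rc_3_2 lc_a_rc_2_0 lc_a_rc_4_2 lc_a_rc_3_2 lc_a_rc_21_0 lc_a_rc_5_0 lc_a_rc_0_1 lc_a_rc_4_2) (@D3.rec (fun _ => (Cert rels S Gen.a)) lc_a_Cert_tree lc_a_rc_4_2 lc_a_rc_3_2 lc_a_rc_3_2 lc_a_rc_0_1 lc_a_rc_5_0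 lc_a_rc_2_2 lc_a_rc_4_2 lc_a_rc_4_2 lc_a_rc_2_2 lc_a_rc_4_2 lc_a_rc_0_1 lc_a_rc_3_2 lc_a_rc_0_1 lc_a_rc_21_0 lc_a_rc_3_2 lc_a_rc_4_2 lc_a_rc_3_2 lc_a_rc_1_2 lc_a_rc_2_2 lc_a_rc_4_2 lc_a_rc_3_2 lc_a_Cert_tree lc_a_rc_3_2 lc_a_rc_4_2 lc_a_rc_3_0 lc_a_rc_3_0 lc_a_rc_2_2 lc_a_rc_1_0 lc_a_rc_4_0 lc_a_rc_5_2 lc_a_rc_1_4 lc_a_rc_5_2 lc_a_rc_21_0 lc_a_rc_2_2 lc_a_rc_5_2 lc_a_rc_3_0 lc_a_rc_2_2 lc_a_rc_2_2 lc_a_rc_0_1 lc_a_rc_4_2 lc_a_rc_0_1 lc_a_rc_21_0 lc_a_rc_0_1 lc_a_rc_5_0 lc_a_rc_0_1 lc_a_rc_2_2 lc_a_rc_4_2 lc_a_rc_3_0 lc_a_rc_21_0 lc_a_rc_2_2 lc_a_rc_3_2 lc_a_rc_2_2 lc_a_rc_0_1 lc_a_rc_0_1 lc_a_rc_21_0 lc_a_rc_3_2 lc_a_rc_2_2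 lc_a_rc_4_2 lc_a_rc_0_1 lc_a_rc_3_2 lc_a_rc_4_2) (@D3.rec (fun _ => (Cert rels S Gen.a)) lc_a_rc_1_2 lc_a_rc_1_4 lc_a_rc_5_2 lc_a_rc_0_1 lc_a_rc_3_0 lc_a_rc_3_2 lc_a_rc_5_2 lc_a_rc_2_2 lc_a_rc_3_2 lc_a_rc_2_0 lc_a_rc_3_2 lc_a_rc_4_2 lc_a_rc_2_2 lc_a_rc_3_2 lc_a_rc_4_2 lc_a_rc_0_1 lc_a_rc_4_0 lc_a_rc_21_0 lc_a_rc_1_0 lc_a_rc_4_2 lc_a_rc_21_0 lc_a_rc_3_0 lc_a_rc_21_0 lc_a_rc_5_2 lc_a_rc_21_0 lc_a_rc_0_1 lc_a_rc_4_2 lc_a_rc_0_1 lc_a_rc_3_2 lc_a_rc_21_0 lc_a_rc_0_1 lc_a_rc_0_1 lc_a_rc_0_1 lc_a_rc_0_1 lc_a_rc_3_0 lc_a_rc_2_2 lc_a_rc_4_2 lc_a_rc_5_0 lc_a_rc_3_2 lc_a_rc_4_2 lc_a_rc_4_2 lc_a_rc_21_0 lc_a_rc_0_1 lc_a_rc_3_2 lc_a_rc_0_1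 lc_a_rc_4_2 lc_a_rc_1_4 lc_a_rc_4_2 lc_a_rc_0_1 lc_a_rc_2_2 lc_a_rc_2_2 lc_a_rc_3_2 lc_a_rc_0_1 lc_a_rc_21_0 lc_a_rc_2_0 lc_a_rc_2_2 lc_a_rc_22_0 lc_a_rc_2_0 lc_a_rc_4_2 lc_a_rc_2_0 lc_a_rc_2_2 lc_a_rc_4_2) (@D3.rec (fun _ => (Cert rels S Gen.a)) lc_a_rc_5_2 lc_a_rc_2_2 lc_a_rc_3_2 lc_a_rc_1_2 lc_a_rc_4_2 lc_a_rc_4_0 lc_a_rc_5_2 lc_a_rc_5_2 lc_a_rc_0_1 lc_a_rc_0_1 lc_a_rc_2_2 lc_a_rc_4_2 lc_a_rc_2_2 lc_a_rc_5_2 lc_a_rc_4_2 lc_a_rc_5_0 lc_a_rc_5_0 lc_a_rc_2_2 lc_a_rc_0_1 lc_a_rc_2_2 lc_a_rc_3_2 lc_a_rc_4_2 lc_a_rc_4_2 lc_a_rc_1_4 lc_a_rc_2_2 lc_a_rc_0_1 lc_a_rc_2_2 lc_a_rc_4_2 lc_a_rc_1_4 lc_a_rc_3_2 lc_a_rc_4_2 lc_a_rc_22_0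 lc_a_rc_0_1 lc_a_rc_0_1 lc_a_rc_3_2 lc_a_rc_4_2 lc_a_rc_3_2 lc_a_rc_2_2 lc_a_rc_2_2 lc_a_rc_4_0 lc_a_rc_2_2 lc_a_rc_22_0 lc_a_rc_22_0 lc_a_rc_3_2 lc_a_rc_2_2 lc_a_rc_3_2 lc_a_rc_5_2 lc_a_rc_1_4 lc_a_rc_1_0 lc_a_rc_2_2 lc_a_rc_2_2 lc_a_rc_0_1 lc_a_rc_3_2 lc_a_rc_0_1 lc_a_rc_1_0 lc_a_rc_0_1 lc_a_rc_2_2 lc_a_rc_3_2 lc_a_rc_4_2 lc_a_rc_21_0 lc_a_rc_3_2 lc_a_rc_4_2) (@D3.rec (fun _ => (Cert rels S Gen.a)) lc_a_rc_3_0 lc_a_rc_4_2 lc_a_rc_2_2 lc_a_rc_2_2 lc_a_rc_4_2 lc_a_rc_3_2 lc_a_rc_2_2 lc_a_rc_3_2 lc_a_rc_4_0 lc_a_rc_2_2 lc_a_rc_4_2 lc_a_rc_21_0 lc_a_rc_2_2 lc_a_rc_3_2 lc_a_rc_4_2 lc_a_rc_2_0 lc_a_rc_1_0 lc_a_rc_2_2 lc_a_rc_21_0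 lc_a_rc_1_4 lc_a_rc_3_2 lc_a_rc_4_2 lc_a_rc_0_1 lc_a_rc_0_1 lc_a_rc_4_0 lc_a_rc_4_2 lc_a_rc_3_2 lc_a_rc_4_0 lc_a_rc_3_0 lc_a_rc_3_0 lc_a_rc_4_2 lc_a_rc_1_4 lc_a_rc_22_0 lc_a_rc_4_0 lc_a_rc_0_1 lc_a_rc_1_4 lc_a_rc_21_0 lc_a_rc_3_2 lc_a_rc_1_4 lc_a_rc_2_0 lc_a_rc_4_2 lc_a_rc_1_2 lc_a_Cert_tree lc_a_rc_3_2 lc_a_rc_4_2 lc_a_rc_3_2 lc_a_rc_3_2 lc_a_rc_3_2 lc_a_rc_5_2 lc_a_rc_2_2 lc_a_rc_4_2 lc_a_rc_1_2 lc_a_rc_2_2 lc_a_rc_4_2 lc_a_rc_4_2 lc_a_rc_5_2 lc_a_rc_3_2 lc_a_rc_3_0 lc_a_rc_0_1 lc_a_rc_3_2 lc_a_rc_4_2 lc_a_rc_21_0) (@D3.rec (fun _ => (Cert rels S Gen.a)) lc_a_rc_3_2 lc_a_rc_4_2 lc_a_rc_21_0 lc_a_rc_3_2 lc_a_rc_4_2 lc_a_rc_4_2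 lc_a_rc_21_0 lc_a_rc_5_2 lc_a_rc_1_4 lc_a_rc_3_0 lc_a_rc_2_2 lc_a_rc_4_2 lc_a_rc_2_2 lc_a_rc_0_1 lc_a_rc_4_2 lc_a_rc_21_0 lc_a_rc_3_2 lc_a_rc_5_2 lc_a_rc_2_2 lc_a_rc_2_2 lc_a_rc_0_1 lc_a_rc_4_2 lc_a_rc_3_2 lc_a_rc_5_2 lc_a_rc_21_0 lc_a_rc_21_0 lc_a_rc_2_2 lc_a_rc_3_0 lc_a_rc_0_1 lc_a_rc_0_1 lc_a_rc_3_2 lc_a_rc_1_0 lc_a_rc_0_1 lc_a_rc_1_4 lc_a_rc_4_2 lc_a_rc_2_0 lc_a_rc_3_2 lc_a_rc_3_0 lc_a_rc_2_2 lc_a_rc_4_0 lc_a_rc_2_2 lc_a_rc_1_4 lc_a_rc_21_0 lc_a_rc_0_1 lc_a_rc_3_0 lc_a_rc_1_2 lc_a_rc_2_0 lc_a_rc_1_2 lc_a_rc_2_2 lc_a_rc_4_2 lc_a_rc_0_1 lc_a_rc_21_0 lc_a_rc_1_4 lc_a_rc_3_2 lc_a_rc_4_2 lc_a_rc_2_2 lc_a_rc_4_2 lc_a_rc_2_0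 lc_a_rc_22_0 lc_a_rc_4_2 lc_a_rc_3_0 lc_a_rc_3_0) (@D3.rec (fun _ => (Cert rels S Gen.a)) lc_a_rc_1_2 lc_a_rc_1_4 lc_a_rc_3_2 lc_a_rc_4_2 lc_a_rc_1_2 lc_a_rc_3_2 lc_a_rc_2_2 lc_a_rc_2_0 lc_a_rc_3_2 lc_a_rc_2_2 lc_a_rc_4_2 lc_a_rc_4_2 lc_a_rc_0_1 lc_a_rc_3_2 lc_a_rc_2_0 lc_a_rc_3_2 lc_a_rc_5_2 lc_a_rc_5_0 lc_a_rc_3_2 lc_a_rc_4_2 lc_a_rc_5_0 lc_a_rc_2_2 lc_a_rc_1_4 lc_a_rc_4_2 lc_a_rc_22_0 lc_a_rc_3_2 lc_a_rc_21_0 lc_a_rc_3_2 lc_a_rc_4_2 lc_a_rc_3_2 lc_a_rc_5_2 lc_a_rc_3_2 lc_a_rc_5_0 lc_a_rc_0_1 lc_a_rc_4_2 lc_a_rc_4_0 lc_a_rc_0_1 lc_a_rc_3_2 lc_a_rc_5_2 lc_a_rc_2_2 lc_a_rc_5_2 lc_a_rc_1_0 lc_a_rc_2_2 lc_a_rc_4_2 lc_a_rc_2_2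 lc_a_rc_0_1 lc_a_rc_21_0 lc_a_rc_4_2 lc_a_rc_4_2 lc_a_rc_21_0 lc_a_rc_2_2 lc_a_rc_2_2 lc_a_rc_2_2 lc_a_rc_3_2 lc_a_rc_2_2 lc_a_rc_4_2 lc_a_rc_3_2 lc_a_rc_4_2 lc_a_rc_2_2 lc_a_rc_4_2 lc_a_rc_2_2 lc_a_rc_21_0) (@D3.rec (fun _ => (Cert rels S Gen.a)) lc_a_rc_4_2 lc_a_rc_0_1 lc_a_rc_4_2 lc_a_rc_2_2 lc_a_rc_3_2 lc_a_rc_2_2 lc_a_rc_3_2 lc_a_rc_4_2 lc_a_rc_4_2 lc_a_rc_4_2 lc_a_rc_4_2 lc_a_rc_4_2 lc_a_rc_4_0 lc_a_rc_4_2 lc_a_rc_4_2 lc_a_rc_5_2 lc_a_rc_2_2 lc_a_rc_4_2 lc_a_rc_21_0 lc_a_rc_4_2 lc_a_rc_2_0 lc_a_rc_2_2 lc_a_rc_3_2 lc_a_rc_3_2 lc_a_rc_3_2 lc_a_rc_4_2 lc_a_rc_2_2 lc_a_rc_4_2 lc_a_rc_4_0 lc_a_rc_2_0 lc_a_rc_4_2 lc_a_rc_5_0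 lc_a_rc_5_0 lc_a_rc_4_0 lc_a_rc_2_0 lc_a_rc_4_2 lc_a_rc_3_2 lc_a_rc_2_2 lc_a_rc_2_2 lc_a_rc_21_0 lc_a_rc_2_2 lc_a_rc_5_2 lc_a_rc_3_2 lc_a_rc_0_1 lc_a_rc_3_0 lc_a_rc_3_0 lc_a_rc_3_2 lc_a_rc_2_2 lc_a_rc_4_2 lc_a_rc_1_2 lc_a_rc_21_0 lc_a_rc_2_2 lc_a_rc_1_0 lc_a_rc_2_0 lc_a_rc_4_2 lc_a_rc_21_0 lc_a_rc_3_0 lc_a_rc_2_2 lc_a_rc_2_0 lc_a_rc_2_0 lc_a_rc_3_2 lc_a_rc_2_2) (@D3.rec (fun _ => (Cert rels S Gen.a)) lc_a_rc_1_2 lc_a_rc_0_1 lc_a_rc_22_0 lc_a_rc_4_2 lc_a_rc_2_2 lc_a_rc_3_2 lc_a_rc_3_0 lc_a_rc_4_2 lc_a_rc_1_4 lc_a_rc_22_0 lc_a_rc_0_1 lc_a_rc_1_4 lc_a_rc_1_4 lc_a_rc_3_2 lc_a_rc_5_0 lc_a_rc_21_0 lc_a_rc_4_2 lc_a_rc_21_0 lc_a_rc_0_1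 lc_a_rc_2_2 lc_a_rc_2_2 lc_a_rc_4_2 lc_a_rc_2_2 lc_a_rc_2_2 lc_a_rc_2_0 lc_a_rc_2_2 lc_a_rc_0_1 lc_a_rc_2_0 lc_a_rc_5_2 lc_a_rc_4_2 lc_a_rc_0_1 lc_a_rc_2_0 lc_a_rc_1_4 lc_a_rc_5_0 lc_a_rc_0_1 lc_a_rc_1_4 lc_a_rc_2_2 lc_a_rc_4_2 lc_a_rc_2_2 lc_a_rc_3_2 lc_a_rc_2_2 lc_a_rc_2_2 lc_a_rc_3_2 lc_a_rc_5_2 lc_a_rc_2_0 lc_a_rc_4_0 lc_a_rc_4_2 lc_a_rc_4_0 lc_a_rc_2_2 lc_a_rc_2_0 lc_a_rc_0_1 lc_a_rc_4_2 lc_a_rc_4_2 lc_a_rc_3_2 lc_a_rc_4_2 lc_a_rc_3_0 lc_a_rc_5_0 lc_a_rc_21_0 lc_a_rc_2_2 lc_a_rc_3_2 lc_a_rc_3_2 lc_a_rc_3_2) (@D3.rec (fun _ => (Cert rels S Gen.a)) lc_a_rc_2_2 lc_a_rc_4_2 lc_a_rc_3_2 lc_a_rc_0_1 lc_a_rc_0_1 lc_a_rc_0_1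 lc_a_rc_5_2 lc_a_rc_0_1 lc_a_rc_2_2 lc_a_rc_21_0 lc_a_rc_4_2 lc_a_rc_4_2 lc_a_rc_3_0 lc_a_rc_3_2 lc_a_rc_1_0 lc_a_rc_0_1 lc_a_rc_3_2 lc_a_rc_5_2 lc_a_rc_4_2 lc_a_rc_0_1 lc_a_rc_0_1 lc_a_rc_22_0 lc_a_rc_3_2 lc_a_rc_1_4 lc_a_rc_1_0 lc_a_rc_4_2 lc_a_rc_1_4 lc_a_rc_1_4 lc_a_rc_21_0 lc_a_rc_2_2 lc_a_rc_2_2 lc_a_rc_4_2 lc_a_rc_2_2 lc_a_rc_0_1 lc_a_rc_0_1 lc_a_rc_2_2 lc_a_rc_1_2 lc_a_rc_0_1 lc_a_rc_4_2 lc_a_rc_5_0 lc_a_rc_3_0 lc_a_rc_4_0 lc_a_rc_21_0 lc_a_rc_2_2 lc_a_rc_1_4 lc_a_rc_4_2 lc_a_rc_1_4 lc_a_rc_2_2 lc_a_rc_5_2 lc_a_rc_21_0 lc_a_rc_3_2 lc_a_rc_5_0 lc_a_rc_0_1 lc_a_rc_5_2 lc_a_rc_22_0 lc_a_rc_4_2 lc_a_rc_2_2 lc_a_rc_4_0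 lc_a_rc_3_2 lc_a_rc_5_2 lc_a_rc_3_0 lc_a_rc_3_2) (@D3.rec (fun _ => (Cert rels S Gen.a)) lc_a_rc_4_2 lc_a_rc_3_0 lc_a_rc_5_0 lc_a_rc_5_2 lc_a_rc_21_0 lc_a_rc_4_2 lc_a_rc_0_1 lc_a_rc_3_2 lc_a_rc_2_2 lc_a_rc_4_2 lc_a_rc_3_2 lc_a_rc_4_2 lc_a_rc_2_2 lc_a_rc_4_2 lc_a_rc_0_1 lc_a_rc_4_2 lc_a_rc_21_0 lc_a_rc_0_1 lc_a_rc_21_0 lc_a_rc_3_2 lc_a_rc_21_0 lc_a_rc_2_0 lc_a_rc_5_0 lc_a_rc_3_2 lc_a_rc_4_2 lc_a_rc_2_2 lc_a_rc_21_0 lc_a_rc_2_2 lc_a_Cert_tree lc_a_rc_3_2 lc_a_rc_5_2 lc_a_rc_4_2 lc_a_rc_5_0 lc_a_rc_3_2 lc_a_rc_5_2 lc_a_rc_4_2 lc_a_rc_2_2 lc_a_rc_4_2 lc_a_rc_0_1 lc_a_rc_5_2 lc_a_rc_4_2 lc_a_rc_3_0 lc_a_rc_3_2 lc_a_rc_5_0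 lc_a_rc_3_2 lc_a_rc_4_2 lc_a_rc_2_2 lc_a_rc_1_4 lc_a_rc_5_2 lc_a_rc_3_2 lc_a_rc_0_1 lc_a_rc_0_1 lc_a_rc_2_2 lc_a_rc_22_0 lc_a_rc_4_2 lc_a_rc_21_0 lc_a_rc_2_2 lc_a_rc_4_2 lc_a_rc_2_2 lc_a_rc_2_0 lc_a_rc_1_2 lc_a_rc_1_0) (@D3.rec (fun _ => (Cert rels S Gen.a)) lc_a_rc_21_0 lc_a_rc_4_2 lc_a_rc_2_2 lc_a_rc_4_2 lc_a_rc_0_1 lc_a_rc_5_2 lc_a_rc_2_2 lc_a_rc_3_2 lc_a_rc_2_2 lc_a_rc_2_2 lc_a_rc_5_2 lc_a_rc_5_0 lc_a_rc_2_2 lc_a_rc_4_2 lc_a_rc_21_0 lc_a_rc_2_0 lc_a_rc_2_2 lc_a_rc_4_2 lc_a_rc_0_1 lc_a_rc_4_2 lc_a_rc_22_0 lc_a_rc_22_0 lc_a_rc_4_0 lc_a_rc_0_1 lc_a_rc_3_0 lc_a_rc_0_1 lc_a_rc_0_1 lc_a_rc_2_2 lc_a_rc_1_2 lc_a_rc_1_2 lc_a_rc_21_0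 lc_a_rc_0_1 lc_a_rc_0_1 lc_a_rc_4_2 lc_a_rc_22_0 lc_a_rc_0_1 lc_a_rc_2_2 lc_a_rc_3_2 lc_a_rc_21_0 lc_a_rc_3_0 lc_a_rc_0_1 lc_a_rc_0_1 lc_a_rc_4_2 lc_a_rc_21_0 lc_a_rc_4_2 lc_a_rc_3_0 lc_a_rc_21_0 lc_a_rc_0_1 lc_a_rc_0_1 lc_a_rc_3_2 lc_a_rc_21_0 lc_a_rc_5_0 lc_a_rc_3_2 lc_a_rc_4_2 lc_a_rc_3_2 lc_a_rc_3_2 lc_a_rc_21_0 lc_a_rc_0_1 lc_a_rc_2_2 lc_a_rc_21_0 lc_a_rc_4_2 lc_a_rc_22_0) (@D3.rec (fun _ => (Cert rels S Gen.a)) lc_a_rc_0_1 lc_a_rc_22_0 lc_a_rc_4_0 lc_a_rc_2_2 lc_a_rc_21_0 lc_a_rc_4_2 lc_a_rc_2_2 lc_a_rc_3_0 lc_a_rc_2_2 lc_a_rc_1_0 lc_a_rc_5_2 lc_a_Cert_tree lc_a_rc_4_2 lc_a_Cert_tree lc_a_rc_3_2 lc_a_rc_2_2 lc_a_rc_3_2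 lc_a_rc_5_2 lc_a_rc_5_0 lc_a_rc_5_2 lc_a_rc_3_2 lc_a_rc_21_0 lc_a_rc_3_2 lc_a_rc_2_2 lc_a_rc_3_2 lc_a_rc_21_0 lc_a_rc_3_2 lc_a_rc_21_0 lc_a_rc_4_2 lc_a_rc_2_2 lc_a_Cert_tree lc_a_rc_4_2 lc_a_rc_1_4 lc_a_rc_2_2 lc_a_rc_21_0 lc_a_rc_1_0 lc_a_rc_4_0 lc_a_rc_4_2 lc_a_rc_0_1 lc_a_rc_4_2 lc_a_rc_3_2 lc_a_rc_3_2 lc_a_rc_2_0 lc_a_rc_2_2 lc_a_rc_4_2 lc_a_rc_1_0 lc_a_rc_3_0 lc_a_rc_4_2 lc_a_rc_3_2 lc_a_rc_3_2 lc_a_rc_1_4 lc_a_rc_3_2 lc_a_rc_4_2 lc_a_rc_1_0 lc_a_rc_1_0 lc_a_rc_4_2 lc_a_rc_4_2 lc_a_rc_3_2 lc_a_rc_1_2 lc_a_rc_4_2 lc_a_rc_3_2 lc_a_Cert_tree) (@D3.rec (fun _ => (Cert rels S Gen.a)) lc_a_rc_4_2 lc_a_rc_4_2 lc_a_rc_4_0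 lc_a_rc_5_2 lc_a_Cert_tree lc_a_rc_2_2 lc_a_rc_1_2 lc_a_rc_2_2 lc_a_rc_2_0 lc_a_rc_5_0 lc_a_rc_0_1 lc_a_rc_3_2 lc_a_rc_3_2 lc_a_rc_4_2 lc_a_rc_3_2 lc_a_rc_0_1 lc_a_rc_4_2 lc_a_rc_4_0 lc_a_rc_0_1 lc_a_rc_4_2 lc_a_rc_1_4 lc_a_rc_4_2 lc_a_rc_3_2 lc_a_rc_5_2 lc_a_rc_4_2 lc_a_rc_5_0 lc_a_rc_21_0 lc_a_rc_1_4 lc_a_rc_2_2 lc_a_rc_5_0 lc_a_rc_0_1 lc_a_rc_5_2 lc_a_rc_3_2 lc_a_rc_21_0 lc_a_rc_0_1 lc_a_rc_4_2 lc_a_rc_3_0 lc_a_rc_3_0 lc_a_rc_2_0 lc_a_rc_4_2 lc_a_rc_3_0 lc_a_rc_5_2 lc_a_rc_4_0 lc_a_rc_4_2 lc_a_rc_2_0 lc_a_rc_4_2 lc_a_rc_2_2 lc_a_rc_4_0 lc_a_rc_3_0 lc_a_rc_21_0 lc_a_rc_4_0 lc_a_rc_1_4 lc_a_rc_2_2 lc_a_rc_4_0 lc_a_rc_0_1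 lc_a_rc_0_1 lc_a_rc_21_0 lc_a_rc_3_2 lc_a_rc_4_2 lc_a_rc_1_2 lc_a_rc_3_2 lc_a_rc_4_2) (@D3.rec (fun _ => (Cert rels S Gen.a)) lc_a_rc_21_0 lc_a_rc_4_2 lc_a_rc_21_0 lc_a_rc_2_2 lc_a_rc_4_0 lc_a_rc_5_0 lc_a_rc_21_0 lc_a_rc_1_4 lc_a_rc_2_2 lc_a_rc_2_0 lc_a_rc_3_2 lc_a_rc_3_0 lc_a_rc_4_2 lc_a_rc_3_2 lc_a_rc_4_2 lc_a_rc_4_2 lc_a_rc_4_0 lc_a_rc_4_2 lc_a_rc_5_2 lc_a_rc_4_2 lc_a_rc_1_2 lc_a_rc_3_2 lc_a_rc_5_2 lc_a_rc_3_0 lc_a_rc_5_2 lc_a_rc_22_0 lc_a_rc_3_0 lc_a_rc_3_2 lc_a_rc_2_2 lc_a_rc_2_0 lc_a_rc_5_2 lc_a_rc_21_0 lc_a_rc_5_2 lc_a_rc_4_0 lc_a_rc_5_2 lc_a_rc_3_2 lc_a_rc_5_2 lc_a_rc_2_2 lc_a_rc_0_1 lc_a_rc_1_4 lc_a_rc_5_0 lc_a_rc_0_1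 lc_a_rc_4_2 lc_a_rc_22_0 lc_a_rc_4_2 lc_a_rc_0_1 lc_a_rc_1_4 lc_a_rc_3_0 lc_a_rc_5_0 lc_a_rc_5_2 lc_a_rc_0_1 lc_a_rc_0_1 lc_a_rc_2_2 lc_a_rc_4_2 lc_a_rc_0_1 lc_a_rc_3_0 lc_a_rc_5_0 lc_a_rc_1_4 lc_a_rc_3_2 lc_a_rc_0_1 lc_a_rc_1_4 lc_a_rc_2_0) (@D3.rec (fun _ => (Cert rels S Gen.a)) lc_a_rc_3_0 lc_a_rc_3_2 lc_a_rc_2_2 lc_a_rc_4_2 lc_a_rc_0_1 lc_a_rc_5_2 lc_a_rc_0_1 lc_a_rc_3_2 lc_a_rc_2_2 lc_a_rc_1_2 lc_a_rc_3_2 lc_a_rc_1_2 lc_a_rc_3_2 lc_a_rc_2_2 lc_a_rc_21_0 lc_a_rc_21_0 lc_a_rc_21_0 lc_a_Cert_tree lc_a_rc_3_0 lc_a_rc_3_2 lc_a_rc_2_0 lc_a_rc_3_2 lc_a_rc_2_0 lc_a_rc_3_2 lc_a_rc_0_1 lc_a_rc_4_2 lc_a_rc_0_1 lc_a_rc_5_2 lc_a_rc_4_0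 lc_a_rc_4_2 lc_a_rc_4_2 lc_a_rc_3_2 lc_a_rc_3_0 lc_a_rc_2_2 lc_a_rc_0_1 lc_a_rc_3_2 lc_a_rc_4_2 lc_a_rc_0_1 lc_a_rc_4_2 lc_a_rc_1_4 lc_a_rc_21_0 lc_a_rc_4_2 lc_a_rc_0_1 lc_a_rc_5_2 lc_a_rc_0_1 lc_a_rc_2_2 lc_a_rc_4_2 lc_a_rc_3_2 lc_a_rc_2_2 lc_a_rc_3_2 lc_a_rc_2_2 lc_a_rc_4_2 lc_a_rc_3_2 lc_a_rc_21_0 lc_a_rc_4_2 lc_a_rc_2_2 lc_a_rc_2_2 lc_a_rc_3_2 lc_a_rc_21_0 lc_a_rc_4_0 lc_a_rc_5_0 lc_a_rc_1_4) (@D3.rec (fun _ => (Cert rels S Gen.a)) lc_a_rc_3_2 lc_a_rc_0_1 lc_a_rc_3_0 lc_a_rc_3_2 lc_a_rc_5_2 lc_a_rc_2_2 lc_a_rc_4_2 lc_a_rc_3_2 lc_a_rc_3_2 lc_a_rc_3_2 lc_a_rc_3_2 lc_a_rc_3_2 lc_a_rc_2_2 lc_a_rc_4_2 lc_a_rc_2_2 lc_a_rc_4_2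 lc_a_rc_2_2 lc_a_rc_2_2 lc_a_rc_2_0 lc_a_rc_3_0 lc_a_rc_5_2 lc_a_rc_3_2 lc_a_rc_4_2 lc_a_rc_0_1 lc_a_rc_3_2 lc_a_rc_0_1 lc_a_rc_3_2 lc_a_rc_5_2 lc_a_rc_4_2 lc_a_rc_3_0 lc_a_rc_4_2 lc_a_rc_3_2 lc_a_rc_0_1 lc_a_rc_21_0 lc_a_rc_1_4 lc_a_rc_21_0 lc_a_rc_4_2 lc_a_rc_1_4 lc_a_rc_1_4 lc_a_rc_21_0 lc_a_rc_1_4 lc_a_rc_4_2 lc_a_rc_2_2 lc_a_rc_0_1 lc_a_Cert_tree lc_a_rc_22_0 lc_a_rc_4_2 lc_a_rc_0_1 lc_a_rc_0_1 lc_a_rc_21_0 lc_a_rc_0_1 lc_a_rc_3_2 lc_a_rc_4_2 lc_a_rc_3_0 lc_a_rc_1_0 lc_a_rc_4_0 lc_a_rc_2_0 lc_a_rc_22_0 lc_a_rc_2_2 lc_a_rc_0_1 lc_a_rc_21_0 lc_a_rc_3_2) (@D3.rec (fun _ => (Cert rels S Gen.a)) lc_a_rc_2_0 lc_a_rc_2_2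 lc_a_rc_2_2 lc_a_rc_22_0 lc_a_rc_3_2 lc_a_rc_0_1 lc_a_rc_1_4 lc_a_rc_0_1 lc_a_rc_2_2 lc_a_rc_4_2 lc_a_rc_2_2 lc_a_rc_21_0 lc_a_rc_2_2 lc_a_rc_1_2 lc_a_rc_0_1 lc_a_rc_0_1 lc_a_rc_2_2 lc_a_rc_22_0 lc_a_rc_2_0 lc_a_rc_0_1 lc_a_rc_2_2 lc_a_rc_3_0 lc_a_rc_0_1 lc_a_rc_4_2 lc_a_rc_0_1 lc_a_rc_21_0 lc_a_rc_3_2 lc_a_rc_2_2 lc_a_rc_4_2 lc_a_rc_22_0 lc_a_rc_0_1 lc_a_rc_1_2 lc_a_rc_3_0 lc_a_Cert_tree lc_a_rc_5_0 lc_a_rc_2_2 lc_a_rc_21_0 lc_a_rc_5_0 lc_a_rc_3_0 lc_a_rc_5_2 lc_a_rc_4_2 lc_a_rc_2_2 lc_a_rc_4_2 lc_a_rc_2_2 lc_a_rc_1_2 lc_a_rc_0_1 lc_a_rc_5_2 lc_a_rc_22_0 lc_a_rc_3_2 lc_a_rc_21_0 lc_a_rc_4_2 lc_a_rc_3_2 lc_a_rc_5_2 lc_a_rc_4_2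 lc_a_rc_1_4 lc_a_rc_3_2 lc_a_rc_4_2 lc_a_rc_3_0 lc_a_rc_3_0 lc_a_rc_3_0 lc_a_rc_3_0 lc_a_rc_4_0) (@D3.rec (fun _ => (Cert rels S Gen.a)) lc_a_rc_3_0 lc_a_rc_5_0 lc_a_rc_2_2 lc_a_rc_4_2 lc_a_rc_2_2 lc_a_rc_4_2 lc_a_rc_2_2 lc_a_rc_2_2 lc_a_rc_3_2 lc_a_rc_21_0 lc_a_rc_2_2 lc_a_rc_4_2 lc_a_rc_1_0 lc_a_rc_4_2 lc_a_rc_3_0 lc_a_rc_3_2 lc_a_rc_4_0 lc_a_rc_0_1 lc_a_rc_4_2 lc_a_rc_3_2 lc_a_rc_2_2 lc_a_rc_0_1 lc_a_rc_3_0 lc_a_rc_3_0 lc_a_rc_21_0 lc_a_rc_1_4 lc_a_rc_2_2 lc_a_rc_4_2 lc_a_rc_2_0 lc_a_rc_4_0 lc_a_rc_21_0 lc_a_rc_2_2 lc_a_rc_1_0 lc_a_rc_3_0 lc_a_rc_2_2 lc_a_rc_4_2 lc_a_rc_21_0 lc_a_rc_3_0 lc_a_rc_0_1 lc_a_rc_4_2 lc_a_rc_3_2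 lc_a_rc_1_4 lc_a_rc_3_2 lc_a_rc_4_2 lc_a_rc_3_2 lc_a_rc_0_1 lc_a_rc_2_2 lc_a_rc_3_0 lc_a_rc_1_0 lc_a_rc_3_2 lc_a_rc_4_2 lc_a_rc_1_0 lc_a_rc_0_1 lc_a_rc_3_2 lc_a_rc_5_2 lc_a_rc_5_0 lc_a_rc_0_1 lc_a_rc_1_2 lc_a_rc_3_2 lc_a_rc_21_0 lc_a_rc_3_2 lc_a_rc_2_0) (@D3.rec (fun _ => (Cert rels S Gen.a)) lc_a_rc_2_0 lc_a_rc_3_2 lc_a_rc_2_2 lc_a_rc_2_2 lc_a_rc_3_2 lc_a_rc_4_0 lc_a_rc_1_4 lc_a_rc_0_1 lc_a_rc_22_0 lc_a_rc_3_2 lc_a_rc_1_0 lc_a_rc_0_1 lc_a_rc_4_2 lc_a_rc_1_2 lc_a_rc_1_0 lc_a_rc_5_2 lc_a_rc_1_4 lc_a_rc_2_2 lc_a_rc_3_2 lc_a_rc_4_2 lc_a_rc_4_0 lc_a_rc_4_2 lc_a_rc_5_2 lc_a_rc_4_2 lc_a_rc_3_2 lc_a_rc_21_0 lc_a_rc_4_0 lc_a_rc_3_2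 lc_a_rc_0_1 lc_a_rc_0_1 lc_a_rc_3_2 lc_a_rc_2_0 lc_a_rc_1_2 lc_a_rc_3_2 lc_a_rc_4_2 lc_a_rc_2_2 lc_a_rc_2_2 lc_a_rc_5_2 lc_a_rc_1_4 lc_a_rc_1_2 lc_a_rc_2_2 lc_a_rc_4_2 lc_a_rc_3_0 lc_a_rc_1_4 lc_a_rc_21_0 lc_a_rc_2_2 lc_a_rc_3_0 lc_a_rc_3_0 lc_a_rc_4_2 lc_a_rc_4_2 lc_a_rc_4_2 lc_a_rc_4_0 lc_a_rc_4_2 lc_a_rc_5_2 lc_a_rc_3_2 lc_a_rc_21_0 lc_a_rc_2_2 lc_a_rc_5_2 lc_a_rc_4_2 lc_a_rc_3_2 lc_a_rc_0_1 lc_a_rc_1_2) (@D3.rec (fun _ => (Cert rels S Gen.a)) lc_a_rc_3_2 lc_a_rc_21_0 lc_a_rc_4_2 lc_a_rc_4_2 lc_a_rc_0_1 lc_a_rc_3_2 lc_a_rc_4_2 lc_a_rc_3_2 lc_a_rc_5_0 lc_a_rc_2_2 lc_a_rc_4_0 lc_a_rc_1_2 lc_a_rc_4_2 lc_a_rc_21_0 lc_a_rc_2_2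 lc_a_rc_4_2 lc_a_rc_1_4 lc_a_rc_4_2 lc_a_rc_1_2 lc_a_rc_0_1 lc_a_rc_1_2 lc_a_rc_2_2 lc_a_rc_2_2 lc_a_rc_3_2 lc_a_rc_3_2 lc_a_rc_4_2 lc_a_rc_4_2 lc_a_rc_2_2 lc_a_rc_2_0 lc_a_rc_4_2 lc_a_Cert_tree lc_a_Cert_tree lc_a_rc_2_0 lc_a_rc_2_0 lc_a_rc_3_2 lc_a_Cert_tree lc_a_rc_3_2 lc_a_rc_2_2 lc_a_rc_3_2 lc_a_rc_4_2 lc_a_rc_5_0 lc_a_rc_3_2 lc_a_rc_2_2 lc_a_rc_3_2 lc_a_rc_4_2 lc_a_rc_2_2 lc_a_rc_5_2 lc_a_rc_1_2 lc_a_rc_21_0 lc_a_rc_4_2 lc_a_rc_2_2 lc_a_rc_4_2 lc_a_rc_4_2 lc_a_rc_22_0 lc_a_rc_5_0 lc_a_rc_4_2 lc_a_rc_2_2 lc_a_rc_4_2 lc_a_Cert_tree lc_a_rc_2_2 lc_a_rc_1_2 lc_a_rc_2_2) (@D3.rec (fun _ => (Cert rels S Gen.a)) lc_a_rc_5_2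 lc_a_rc_3_2 lc_a_rc_4_2 lc_a_rc_4_2 lc_a_rc_5_2 lc_a_rc_21_0 lc_a_rc_0_1 lc_a_rc_3_2 lc_a_rc_1_0 lc_a_rc_22_0 lc_a_rc_4_2 lc_a_rc_4_0 lc_a_rc_21_0 lc_a_rc_2_2 lc_a_rc_4_2 lc_a_rc_1_4 lc_a_rc_3_2 lc_a_rc_4_2 lc_a_rc_22_0 lc_a_rc_4_0 lc_a_rc_3_2 lc_a_rc_2_2 lc_a_rc_2_2 lc_a_rc_2_2 lc_a_rc_2_2 lc_a_rc_4_2 lc_a_rc_2_0 lc_a_rc_2_2 lc_a_rc_4_2 lc_a_rc_1_2 lc_a_rc_4_0 lc_a_rc_5_2 lc_a_rc_4_2 lc_a_rc_3_2 lc_a_rc_21_0 lc_a_rc_5_2 lc_a_rc_21_0 lc_a_rc_4_0 lc_a_rc_1_2 lc_a_rc_0_1 lc_a_rc_4_0 lc_a_rc_3_2 lc_a_rc_1_4 lc_a_rc_2_0 lc_a_rc_3_2 lc_a_rc_3_2 lc_a_rc_5_0 lc_a_rc_5_0 lc_a_rc_3_2 lc_a_rc_2_2 lc_a_rc_5_2 lc_a_rc_1_2 lc_a_rc_2_2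 lc_a_rc_4_2 lc_a_rc_21_0 lc_a_rc_0_1 lc_a_rc_4_0 lc_a_rc_21_0 lc_a_rc_4_2 lc_a_rc_3_0 lc_a_rc_21_0 lc_a_rc_21_0) (@D3.rec (fun _ => (Cert rels S Gen.a)) lc_a_rc_4_2 lc_a_rc_0_1 lc_a_rc_2_0 lc_a_rc_5_2 lc_a_rc_2_2 lc_a_rc_4_2 lc_a_rc_0_1 lc_a_rc_2_2 lc_a_rc_3_2 lc_a_rc_1_4 lc_a_rc_3_2 lc_a_rc_3_2 lc_a_rc_4_2 lc_a_rc_3_0 lc_a_rc_3_2 lc_a_rc_5_2 lc_a_rc_2_2 lc_a_rc_2_2 lc_a_rc_0_1 lc_a_Cert_tree lc_a_rc_1_4 lc_a_rc_0_1 lc_a_rc_4_2 lc_a_rc_3_2 lc_a_rc_21_0 lc_a_rc_4_2 lc_a_rc_1_4 lc_a_rc_21_0 lc_a_rc_0_1 lc_a_rc_3_2 lc_a_rc_3_0 lc_a_rc_0_1 lc_a_rc_4_2 lc_a_rc_1_0 lc_a_rc_0_1 lc_a_rc_0_1 lc_a_rc_1_2 lc_a_rc_4_2 lc_a_rc_2_2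 lc_a_rc_0_1 lc_a_rc_4_0 lc_a_rc_4_2 lc_a_rc_2_2 lc_a_rc_3_2 lc_a_rc_5_0 lc_a_rc_4_2 lc_a_rc_2_2 lc_a_rc_5_0 lc_a_rc_4_2 lc_a_rc_21_0 lc_a_rc_3_2 lc_a_rc_3_2 lc_a_rc_3_2 lc_a_rc_3_2 lc_a_rc_2_0 lc_a_rc_3_2 lc_a_rc_21_0 lc_a_rc_0_1 lc_a_rc_0_1 lc_a_rc_3_2 lc_a_rc_0_1 lc_a_rc_4_2) (@D3.rec (fun _ => (Cert rels S Gen.a)) lc_a_rc_3_2 lc_a_rc_0_1 lc_a_rc_0_1 lc_a_rc_3_2 lc_a_rc_4_2 lc_a_rc_4_2 lc_a_rc_3_2 lc_a_rc_0_1 lc_a_rc_4_2 lc_a_rc_2_2 lc_a_rc_3_2 lc_a_rc_4_2 lc_a_rc_3_2 lc_a_rc_2_0 lc_a_rc_1_2 lc_a_rc_21_0 lc_a_Cert_tree lc_a_rc_4_2 lc_a_rc_2_2 lc_a_rc_2_2 lc_a_rc_2_0 lc_a_rc_2_0 lc_a_rc_3_2 lc_a_rc_4_2 lc_a_rc_3_2 lc_a_rc_3_2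 lc_a_rc_0_1 lc_a_rc_3_0 lc_a_rc_3_2 lc_a_Cert_tree lc_a_rc_2_0 lc_a_rc_2_2 lc_a_rc_1_4 lc_a_rc_0_1 lc_a_rc_5_2 lc_a_rc_5_2 lc_a_rc_3_2 lc_a_rc_0_1 lc_a_rc_4_2 lc_a_rc_4_2 lc_a_rc_0_1 lc_a_rc_3_2 lc_a_rc_1_4 lc_a_rc_0_1 lc_a_rc_22_0 lc_a_rc_4_2 lc_a_rc_4_2 lc_a_rc_4_2 lc_a_rc_5_0 lc_a_rc_2_2 lc_a_rc_3_2 lc_a_rc_5_2 lc_a_rc_0_1 lc_a_rc_1_2 lc_a_rc_5_2 lc_a_Cert_tree lc_a_rc_1_4 lc_a_rc_3_2 lc_a_rc_4_2 lc_a_rc_3_2 lc_a_rc_3_2 lc_a_rc_3_2) (@D3.rec (fun _ => (Cert rels S Gen.a)) lc_a_rc_3_2 lc_a_rc_1_4 lc_a_rc_1_2 lc_a_rc_2_2 lc_a_rc_1_0 lc_a_rc_5_2 lc_a_rc_3_2 lc_a_rc_0_1 lc_a_rc_4_2 lc_a_rc_3_2 lc_a_rc_0_1 lc_a_rc_0_1 lc_a_rc_21_0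 lc_a_rc_3_2 lc_a_rc_1_4 lc_a_rc_2_2 lc_a_rc_0_1 lc_a_rc_1_4 lc_a_rc_4_2 lc_a_rc_4_2 lc_a_rc_2_2 lc_a_rc_3_2 lc_a_rc_4_2 lc_a_rc_2_2 lc_a_rc_2_2 lc_a_rc_0_1 lc_a_rc_21_0 lc_a_rc_0_1 lc_a_rc_22_0 lc_a_rc_4_2 lc_a_rc_4_2 lc_a_rc_3_2 lc_a_rc_4_0 lc_a_rc_0_1 lc_a_rc_0_1 lc_a_rc_21_0 lc_a_rc_4_2 lc_a_rc_4_2 lc_a_rc_3_2 lc_a_rc_1_2 lc_a_rc_4_2 lc_a_rc_5_2 lc_a_rc_4_2 lc_a_rc_1_4 lc_a_rc_21_0 lc_a_rc_0_1 lc_a_rc_5_2 lc_a_rc_2_2 lc_a_rc_4_2 lc_a_rc_2_2 lc_a_rc_3_2 lc_a_rc_3_2 lc_a_rc_5_0 lc_a_rc_4_2 lc_a_rc_3_2 lc_a_rc_3_2 lc_a_rc_22_0 lc_a_rc_3_2 lc_a_rc_1_4 lc_a_rc_3_2 lc_a_rc_21_0 lc_a_rc_3_2) (@D3.rec (fun _ => (Cert rels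 S Gen.a)) lc_a_rc_4_2 lc_a_rc_21_0 lc_a_rc_2_2 lc_a_rc_0_1 lc_a_rc_2_2 lc_a_rc_3_2 lc_a_rc_5_0 lc_a_rc_2_0 lc_a_rc_3_2 lc_a_rc_4_2 lc_a_rc_4_2 lc_a_rc_3_2 lc_a_rc_3_2 lc_a_rc_2_0 lc_a_rc_5_0 lc_a_rc_4_0 lc_a_rc_3_2 lc_a_rc_5_2 lc_a_rc_3_2 lc_a_rc_2_2 lc_a_rc_3_2 lc_a_rc_2_2 lc_a_rc_3_2 lc_a_rc_3_2 lc_a_rc_3_2 lc_a_rc_3_2 lc_a_rc_1_4 lc_a_rc_3_2 lc_a_rc_2_2 lc_a_rc_3_2 lc_a_rc_21_0 lc_a_rc_0_1 lc_a_rc_0_1 lc_a_rc_4_2 lc_a_rc_3_2 lc_a_rc_21_0 lc_a_rc_4_2 lc_a_rc_21_0 lc_a_rc_4_2 lc_a_rc_0_1 lc_a_rc_4_0 lc_a_rc_5_2 lc_a_rc_4_2 lc_a_rc_1_0 lc_a_rc_1_0 lc_a_rc_5_2 lc_a_rc_4_2 lc_a_rc_2_2 lc_a_rc_3_2 lc_a_rc_21_0 lc_a_rc_0_1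 lc_a_rc_3_2 lc_a_rc_1_4 lc_a_rc_1_0 lc_a_rc_1_0 lc_a_rc_2_0 lc_a_rc_1_4 lc_a_rc_1_0 lc_a_rc_2_2 lc_a_rc_1_2 lc_a_rc_2_2 lc_a_rc_21_0) (@D3.rec (fun _ => (Cert rels S Gen.a)) lc_a_rc_3_2 lc_a_rc_2_0 lc_a_rc_0_1 lc_a_rc_2_2 lc_a_rc_4_2 lc_a_rc_5_0 lc_a_rc_3_2 lc_a_rc_4_0 lc_a_rc_3_2 lc_a_rc_22_0 lc_a_rc_3_2 lc_a_rc_2_2 lc_a_rc_21_0 lc_a_rc_5_0 lc_a_rc_3_2 lc_a_rc_3_2 lc_a_rc_4_2 lc_a_rc_1_0 lc_a_rc_3_2 lc_a_rc_3_2 lc_a_rc_21_0 lc_a_rc_2_2 lc_a_rc_4_2 lc_a_rc_0_1 lc_a_rc_3_0 lc_a_rc_2_0 lc_a_rc_2_2 lc_a_rc_5_2 lc_a_rc_3_0 lc_a_rc_2_0 lc_a_rc_3_0 lc_a_rc_2_0 lc_a_rc_4_2 lc_a_rc_3_2 lc_a_rc_4_2 lc_a_rc_2_0 lc_a_rc_3_2 lc_a_rc_2_2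 lc_a_rc_4_2 lc_a_rc_0_1 lc_a_rc_3_0 lc_a_rc_3_2 lc_a_rc_5_2 lc_a_rc_21_0 lc_a_rc_3_2 lc_a_rc_5_2 lc_a_rc_3_2 lc_a_rc_21_0 lc_a_rc_21_0 lc_a_rc_3_0 lc_a_rc_4_2 lc_a_rc_22_0 lc_a_rc_0_1 lc_a_rc_2_2 lc_a_rc_4_2 lc_a_rc_0_1 lc_a_rc_5_2 lc_a_rc_22_0 lc_a_rc_4_2 lc_a_rc_3_2 lc_a_rc_0_1 lc_a_rc_3_0) (@D3.rec (fun _ => (Cert rels S Gen.a)) lc_a_rc_2_0 lc_a_rc_3_0 lc_a_rc_3_2 lc_a_rc_5_2 lc_a_rc_4_2 lc_a_rc_1_0 lc_a_rc_3_2 lc_a_rc_4_2 lc_a_rc_4_2 lc_a_rc_0_1 lc_a_rc_3_2 lc_a_rc_21_0 lc_a_rc_3_2 lc_a_rc_21_0 lc_a_rc_21_0 lc_a_rc_21_0 lc_a_rc_21_0 lc_a_rc_3_2 lc_a_rc_0_1 lc_a_rc_2_2 lc_a_rc_4_2 lc_a_rc_4_0 lc_a_rc_3_0 lc_a_rc_3_2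 lc_a_rc_5_2 lc_a_rc_0_1 lc_a_rc_1_0 lc_a_rc_4_2 lc_a_rc_2_2 lc_a_rc_4_0 lc_a_rc_21_0 lc_a_rc_5_0 lc_a_rc_3_2 lc_a_rc_21_0 lc_a_rc_21_0 lc_a_rc_4_2 lc_a_rc_3_2 lc_a_rc_1_4 lc_a_rc_0_1 lc_a_rc_22_0 lc_a_rc_1_4 lc_a_rc_5_0 lc_a_rc_3_2 lc_a_rc_0_1 lc_a_rc_4_2 lc_a_rc_2_2 lc_a_rc_2_2 lc_a_rc_0_1 lc_a_rc_4_2 lc_a_rc_4_2 lc_a_rc_0_1 lc_a_rc_3_2 lc_a_rc_1_2 lc_a_rc_3_2 lc_a_rc_2_2 lc_a_rc_4_2 lc_a_rc_4_2 lc_a_rc_2_0 lc_a_rc_5_2 lc_a_rc_4_2 lc_a_rc_2_2 lc_a_rc_4_2) (@D3.rec (fun _ => (Cert rels S Gen.a)) lc_a_rc_3_2 lc_a_rc_2_2 lc_a_rc_0_1 lc_a_rc_4_0 lc_a_rc_3_2 lc_a_rc_21_0 lc_a_rc_2_2 lc_a_rc_2_2 lc_a_rc_4_2 lc_a_rc_2_2 lc_a_rc_2_2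 lc_a_rc_4_2 lc_a_rc_5_2 lc_a_rc_0_1 lc_a_rc_5_2 lc_a_rc_0_1 lc_a_rc_5_0 lc_a_rc_4_2 lc_a_rc_2_0 lc_a_rc_0_1 lc_a_rc_2_2 lc_a_rc_2_2 lc_a_rc_4_0 lc_a_rc_4_2 lc_a_rc_0_1 lc_a_rc_3_2 lc_a_rc_5_0 lc_a_rc_4_2 lc_a_rc_21_0 lc_a_rc_2_0 lc_a_rc_3_2 lc_a_rc_4_2 lc_a_rc_3_2 lc_a_rc_21_0 lc_a_rc_4_0 lc_a_rc_2_0 lc_a_rc_1_4 lc_a_rc_2_2 lc_a_rc_2_2 lc_a_rc_3_2 lc_a_rc_4_2 lc_a_rc_3_2 lc_a_rc_1_2 lc_a_rc_1_4 lc_a_rc_5_2 lc_a_Cert_tree lc_a_rc_0_1 lc_a_rc_2_2 lc_a_rc_0_1 lc_a_rc_2_2 lc_a_rc_2_0 lc_a_rc_22_0 lc_a_rc_3_2 lc_a_rc_5_2 lc_a_rc_2_2 lc_a_rc_1_4 lc_a_rc_5_0 lc_a_rc_3_0 lc_a_rc_5_0 lc_a_rc_3_2 lc_a_rc_1_2 lc_a_rc_4_2) (@D3.rec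 (fun _ => (Cert rels S Gen.a)) lc_a_rc_2_2 lc_a_rc_3_2 lc_a_rc_5_0 lc_a_rc_4_2 lc_a_rc_3_2 lc_a_rc_0_1 lc_a_rc_3_2 lc_a_rc_5_0 lc_a_rc_5_2 lc_a_rc_4_2 lc_a_rc_4_2 lc_a_rc_4_2 lc_a_rc_4_2 lc_a_rc_21_0 lc_a_rc_4_2 lc_a_rc_4_2 lc_a_rc_21_0 lc_a_rc_2_2 lc_a_rc_3_2 lc_a_rc_4_2 lc_a_rc_5_2 lc_a_rc_0_1 lc_a_rc_0_1 lc_a_rc_4_2 lc_a_rc_2_2 lc_a_rc_4_0 lc_a_rc_22_0 lc_a_rc_4_2 lc_a_rc_1_4 lc_a_rc_21_0 lc_a_rc_2_0 lc_a_rc_3_0 lc_a_rc_2_2 lc_a_rc_5_0 lc_a_rc_5_2 lc_a_rc_21_0 lc_a_rc_2_0 lc_a_rc_5_2 lc_a_rc_2_2 lc_a_rc_3_2 lc_a_rc_21_0 lc_a_rc_22_0 lc_a_rc_2_2 lc_a_rc_4_2 lc_a_rc_5_2 lc_a_rc_5_0 lc_a_rc_4_2 lc_a_rc_2_2 lc_a_rc_5_2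 lc_a_rc_3_2 lc_a_rc_4_2 lc_a_rc_1_2 lc_a_rc_1_2 lc_a_rc_2_2 lc_a_rc_0_1 lc_a_rc_2_2 lc_a_rc_3_2 lc_a_rc_21_0 lc_a_rc_5_2 lc_a_rc_0_1 lc_a_rc_4_0 lc_a_rc_4_2) (@D3.rec (fun _ => (Cert rels S Gen.a)) lc_a_rc_5_0 lc_a_rc_22_0 lc_a_rc_2_2 lc_a_rc_4_2 lc_a_rc_2_2 lc_a_rc_4_2 lc_a_rc_2_2 lc_a_rc_4_2 lc_a_rc_4_2 lc_a_rc_3_2 lc_a_rc_0_1 lc_a_rc_2_2 lc_a_rc_3_2 lc_a_rc_4_2 lc_a_rc_3_2 lc_a_rc_4_0 lc_a_rc_4_0 lc_a_rc_3_2 lc_a_rc_2_0 lc_a_rc_3_2 lc_a_rc_4_2 lc_a_rc_2_2 lc_a_rc_4_2 lc_a_rc_2_2 lc_a_rc_2_2 lc_a_rc_2_2 lc_a_rc_2_2 lc_a_rc_1_2 lc_a_rc_3_2 lc_a_rc_4_2 lc_a_rc_2_0 lc_a_rc_5_2 lc_a_rc_2_2 lc_a_rc_21_0 lc_a_rc_21_0 lc_a_rc_4_2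 lc_a_rc_21_0 lc_a_rc_4_2 lc_a_rc_2_2 lc_a_rc_5_2 lc_a_rc_3_2 lc_a_rc_4_2 lc_a_rc_3_2 lc_a_rc_0_1 lc_a_rc_5_2 lc_a_rc_4_2 lc_a_rc_2_2 lc_a_rc_2_0 lc_a_rc_1_4 lc_a_rc_2_2 lc_a_rc_4_2 lc_a_rc_0_1 lc_a_rc_4_2 lc_a_rc_3_2 lc_a_rc_3_2 lc_a_rc_1_4 lc_a_rc_5_2 lc_a_rc_3_2 lc_a_rc_21_0 lc_a_rc_1_2 lc_a_rc_3_2 lc_a_rc_4_2) (@D3.rec (fun _ => (Cert rels S Gen.a)) lc_a_rc_2_0 lc_a_rc_3_2 lc_a_rc_2_2 lc_a_rc_21_0 lc_a_rc_0_1 lc_a_rc_2_0 lc_a_rc_3_2 lc_a_rc_3_2 lc_a_rc_0_1 lc_a_rc_5_0 lc_a_rc_22_0 lc_a_rc_1_0 lc_a_rc_5_2 lc_a_rc_2_2 lc_a_rc_0_1 lc_a_rc_5_0 lc_a_rc_1_2 lc_a_rc_0_1 lc_a_rc_4_2 lc_a_rc_2_2 lc_a_rc_3_2 lc_a_rc_2_2 lc_a_rc_4_2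 lc_a_rc_5_0 lc_a_rc_2_2 lc_a_rc_4_2 lc_a_rc_4_2 lc_a_rc_0_1 lc_a_rc_1_4 lc_a_rc_21_0 lc_a_rc_22_0 lc_a_rc_3_2 lc_a_rc_3_2 lc_a_rc_3_0 lc_a_rc_5_0 lc_a_rc_3_2 lc_a_rc_5_0 lc_a_rc_5_2 lc_a_rc_4_2 lc_a_rc_1_4 lc_a_rc_4_2 lc_a_rc_4_2 lc_a_rc_4_2 lc_a_rc_21_0 lc_a_rc_5_2 lc_a_rc_3_2 lc_a_rc_3_2 lc_a_rc_21_0 lc_a_rc_4_2 lc_a_rc_2_2 lc_a_rc_2_2 lc_a_rc_5_2 lc_a_rc_3_2 lc_a_rc_3_2 lc_a_rc_4_2 lc_a_rc_3_2 lc_a_rc_1_4 lc_a_rc_21_0 lc_a_rc_3_0 lc_a_rc_5_2 lc_a_rc_4_0 lc_a_rc_1_0) (@D3.rec (fun _ => (Cert rels S Gen.a)) lc_a_rc_0_1 lc_a_rc_2_2 lc_a_rc_2_2 lc_a_rc_1_2 lc_a_rc_5_2 lc_a_rc_4_2 lc_a_rc_5_2 lc_a_rc_0_1 lc_a_rc_2_2 lc_a_rc_21_0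 lc_a_rc_4_2 lc_a_rc_2_2 lc_a_rc_5_0 lc_a_rc_2_2 lc_a_Cert_tree lc_a_rc_3_2 lc_a_rc_5_0 lc_a_rc_5_2 lc_a_rc_3_0 lc_a_rc_2_2 lc_a_rc_22_0 lc_a_rc_2_2 lc_a_rc_4_2 lc_a_rc_3_0 lc_a_rc_21_0 lc_a_rc_4_2 lc_a_rc_0_1 lc_a_rc_2_0 lc_a_rc_21_0 lc_a_rc_21_0 lc_a_rc_3_2 lc_a_Cert_tree lc_a_rc_2_2 lc_a_rc_5_2 lc_a_rc_2_2 lc_a_rc_3_2 lc_a_rc_4_2 lc_a_rc_2_2 lc_a_rc_0_1 lc_a_rc_2_0 lc_a_rc_21_0 lc_a_rc_21_0 lc_a_rc_4_2 lc_a_rc_0_1 lc_a_rc_4_2 lc_a_rc_4_2 lc_a_rc_3_2 lc_a_rc_4_2 lc_a_rc_21_0 lc_a_rc_4_2 lc_a_rc_5_2 lc_a_rc_4_2 lc_a_rc_0_1 lc_a_rc_2_2 lc_a_rc_21_0 lc_a_rc_0_1 lc_a_rc_0_1 lc_a_rc_2_2 lc_a_rc_21_0 lc_a_rc_22_0 lc_a_rc_4_2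 lc_a_rc_5_2) (@D3.rec (fun _ => (Cert rels S Gen.a)) lc_a_Cert_tree lc_a_rc_2_2 lc_a_rc_3_2 lc_a_rc_4_2 lc_a_rc_3_2 lc_a_rc_2_0 lc_a_rc_2_2 lc_a_rc_3_0 lc_a_rc_5_0 lc_a_rc_4_2 lc_a_rc_3_0 lc_a_rc_3_0 lc_a_rc_4_2 lc_a_rc_1_2 lc_a_rc_3_2 lc_a_rc_4_2 lc_a_rc_5_2 lc_a_rc_4_2 lc_a_rc_21_0 lc_a_rc_1_4 lc_a_rc_2_2 lc_a_rc_4_2 lc_a_rc_3_2 lc_a_rc_1_2 lc_a_rc_1_2 lc_a_rc_3_0 lc_a_rc_2_2 lc_a_rc_3_2 lc_a_rc_0_1 lc_a_rc_3_2 lc_a_rc_3_2 lc_a_rc_1_2 lc_a_rc_4_2 lc_a_rc_2_2 lc_a_rc_0_1 lc_a_rc_5_2 lc_a_rc_0_1 lc_a_rc_5_2 lc_a_rc_3_2 lc_a_rc_0_1 lc_a_rc_1_2 lc_a_rc_4_2 lc_a_rc_3_2 lc_a_rc_2_0 lc_a_rc_5_2 lc_a_rc_21_0 lc_a_rc_4_2 lc_a_rc_0_1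 lc_a_rc_2_2 lc_a_rc_2_2 lc_a_rc_3_2 lc_a_rc_5_2 lc_a_rc_21_0 lc_a_rc_3_2 lc_a_rc_21_0 lc_a_rc_2_2 lc_a_rc_3_2 lc_a_rc_3_2 lc_a_rc_3_2 lc_a_rc_21_0 lc_a_rc_4_2 lc_a_rc_4_0) (@D3.rec (fun _ => (Cert rels S Gen.a)) lc_a_rc_0_1 lc_a_rc_1_4 lc_a_rc_4_2 lc_a_rc_4_2 lc_a_rc_4_0 lc_a_rc_3_2 lc_a_rc_2_0 lc_a_rc_0_1 lc_a_rc_3_2 lc_a_rc_0_1 lc_a_rc_4_0 lc_a_rc_2_0 lc_a_rc_5_2 lc_a_rc_2_0 lc_a_rc_3_0 lc_a_rc_0_1 lc_a_rc_3_2 lc_a_rc_2_0 lc_a_rc_3_2 lc_a_rc_4_2 lc_a_rc_3_2 lc_a_rc_1_2 lc_a_rc_4_2 lc_a_rc_1_2 lc_a_rc_4_2 lc_a_rc_2_2 lc_a_rc_3_2 lc_a_rc_4_2 lc_a_rc_21_0 lc_a_rc_4_2 lc_a_rc_21_0 lc_a_rc_2_2 lc_a_rc_5_2 lc_a_rc_2_2 lc_a_rc_22_0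 lc_a_rc_3_2 lc_a_rc_21_0 lc_a_rc_4_2 lc_a_rc_4_2 lc_a_rc_2_2 lc_a_rc_4_2 lc_a_rc_4_2 lc_a_rc_4_2 lc_a_rc_4_0 lc_a_rc_4_2 lc_a_rc_1_2 lc_a_rc_2_2 lc_a_rc_5_0 lc_a_rc_3_2 lc_a_rc_4_2 lc_a_rc_4_0 lc_a_rc_5_2 lc_a_rc_3_2 lc_a_rc_5_0 lc_a_rc_21_0 lc_a_rc_21_0 lc_a_rc_4_2 lc_a_rc_3_2 lc_a_rc_5_2 lc_a_rc_3_2 lc_a_rc_1_4 lc_a_rc_4_0)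
def ce_a_25 : D2 → D3 → (Cert rels S Gen.a) := @D2.rec (fun _ => D3 → (Cert rels S Gen.a)) (@D3.rec (fun _ => (Cert rels S Gen.a)) lc_a_rc_3_0 lc_a_rc_0_1 lc_a_rc_1_4 lc_a_rc_3_2 lc_a_rc_4_2 lc_a_rc_21_0 lc_a_rc_2_0 lc_a_rc_0_1 lc_a_rc_2_2 lc_a_rc_5_2 lc_a_rc_5_2 lc_a_rc_0_1 lc_a_rc_0_1 lc_a_rc_4_2 lc_a_rc_3_2 lc_a_rc_1_2 lc_a_rc_2_2 lc_a_rc_4_2 lc_a_rc_1_2 lc_a_rc_3_2 lc_a_rc_21_0 lc_a_rc_0_1 lc_a_rc_5_2 lc_a_rc_4_2 lc_a_rc_2_0 lc_a_rc_3_2 lc_a_rc_2_2 lc_a_rc_0_1 lc_a_rc_2_2 lc_a_rc_5_2 lc_a_rc_3_2 lc_a_rc_4_2 lc_a_rc_2_2 lc_a_rc_3_2 lc_a_rc_2_0 lc_a_rc_4_0 lc_a_rc_3_2 lc_a_rc_5_2 lc_a_rc_3_0 lc_a_rc_3_2 lc_a_rc_2_2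 lc_a_rc_3_2 lc_a_rc_3_0 lc_a_rc_2_2 lc_a_rc_5_2 lc_a_rc_3_2 lc_a_rc_3_2 lc_a_rc_1_2 lc_a_rc_4_2 lc_a_rc_3_2 lc_a_rc_1_2 lc_a_rc_5_0 lc_a_rc_3_0 lc_a_rc_5_2 lc_a_rc_21_0 lc_a_rc_1_4 lc_a_rc_3_2 lc_a_rc_1_2 lc_a_rc_1_4 lc_a_rc_21_0 lc_a_rc_4_2 lc_a_rc_2_2) (@D3.rec (fun _ => (Cert rels S Gen.a)) lc_a_rc_3_2 lc_a_rc_2_2 lc_a_rc_21_0 lc_a_rc_4_2 lc_a_rc_3_2 lc_a_rc_2_2 lc_a_rc_0_1 lc_a_rc_2_0 lc_a_rc_1_4 lc_a_rc_4_2 lc_a_rc_0_1 lc_a_rc_4_2 lc_a_rc_3_2 lc_a_rc_4_0 lc_a_rc_21_0 lc_a_rc_21_0 lc_a_rc_4_2 lc_a_rc_0_1 lc_a_rc_4_0 lc_a_rc_5_2 lc_a_rc_0_1 lc_a_rc_0_1 lc_a_rc_21_0 lc_a_Cert_tree lc_a_rc_3_2 lc_a_rc_5_2 lc_a_rc_3_2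 lc_a_rc_3_0 lc_a_rc_21_0 lc_a_rc_1_4 lc_a_rc_4_2 lc_a_rc_2_0 lc_a_rc_4_2 lc_a_rc_2_0 lc_a_rc_3_2 lc_a_rc_2_2 lc_a_rc_3_2 lc_a_rc_3_2 lc_a_rc_2_2 lc_a_rc_2_2 lc_a_rc_22_0 lc_a_rc_3_2 lc_a_rc_2_2 lc_a_rc_4_2 lc_a_rc_4_0 lc_a_rc_2_2 lc_a_rc_0_1 lc_a_rc_5_2 lc_a_rc_2_2 lc_a_rc_2_0 lc_a_rc_5_2 lc_a_rc_3_2 lc_a_rc_2_2 lc_a_rc_4_2 lc_a_rc_5_0 lc_a_rc_4_2 lc_a_rc_3_2 lc_a_rc_4_2 lc_a_rc_21_0 lc_a_rc_3_2 lc_a_rc_2_2 lc_a_rc_0_1) (@D3.rec (fun _ => (Cert rels S Gen.a)) lc_a_rc_3_2 lc_a_rc_4_2 lc_a_rc_21_0 lc_a_rc_4_2 lc_a_rc_1_4 lc_a_rc_5_0 lc_a_rc_5_2 lc_a_rc_4_2 lc_a_rc_4_0 lc_a_rc_2_2 lc_a_rc_5_2 lc_a_rc_2_0 lc_a_rc_2_2 lc_a_rc_4_2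 lc_a_rc_4_2 lc_a_rc_22_0 lc_a_Cert_tree lc_a_rc_3_2 lc_a_rc_2_2 lc_a_rc_2_2 lc_a_rc_2_2 lc_a_rc_5_2 lc_a_rc_4_2 lc_a_rc_4_2 lc_a_rc_2_0 lc_a_rc_3_2 lc_a_rc_1_0 lc_a_rc_1_0 lc_a_rc_21_0 lc_a_rc_2_2 lc_a_rc_2_2 lc_a_rc_3_2 lc_a_rc_5_2 lc_a_rc_2_2 lc_a_rc_2_2 lc_a_rc_4_0 lc_a_rc_4_2 lc_a_rc_5_2 lc_a_rc_2_0 lc_a_rc_3_0 lc_a_rc_3_2 lc_a_rc_3_2 lc_a_rc_0_1 lc_a_rc_3_2 lc_a_rc_4_2 lc_a_rc_5_2 lc_a_rc_4_2 lc_a_rc_4_2 lc_a_rc_2_2 lc_a_rc_3_2 lc_a_rc_2_2 lc_a_rc_0_1 lc_a_rc_5_2 lc_a_rc_2_2 lc_a_rc_2_2 lc_a_rc_4_2 lc_a_rc_1_4 lc_a_rc_3_0 lc_a_rc_3_2 lc_a_rc_3_2 lc_a_rc_4_2 lc_a_rc_3_2) (@D3.rec (fun _ => (Cert rels S Gen.a)) lc_a_rc_3_0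 lc_a_rc_0_1 lc_a_rc_2_2 lc_a_rc_4_2 lc_a_Cert_tree lc_a_rc_2_2 lc_a_rc_4_0 lc_a_rc_4_2 lc_a_rc_2_0 lc_a_rc_21_0 lc_a_rc_4_2 lc_a_rc_1_4 lc_a_rc_0_1 lc_a_rc_21_0 lc_a_rc_2_2 lc_a_rc_2_2 lc_a_rc_1_0 lc_a_rc_4_2 lc_a_rc_3_0 lc_a_rc_2_2 lc_a_rc_2_0 lc_a_rc_5_2 lc_a_rc_4_2 lc_a_rc_3_0 lc_a_rc_4_2 lc_a_rc_2_2 lc_a_rc_3_2 lc_a_rc_2_0 lc_a_rc_2_0 lc_a_rc_2_0 lc_a_rc_2_2 lc_a_rc_2_0 lc_a_rc_3_2 lc_a_rc_0_1 lc_a_rc_2_2 lc_a_rc_21_0 lc_a_rc_2_2 lc_a_rc_1_2 lc_a_rc_0_1 lc_a_rc_2_0 lc_a_rc_3_2 lc_a_rc_1_4 lc_a_rc_4_2 lc_a_rc_1_4 lc_a_rc_2_2 lc_a_rc_4_2 lc_a_rc_2_0 lc_a_rc_2_2 lc_a_rc_2_2 lc_a_rc_3_2 lc_a_rc_22_0 lc_a_rc_1_4 lc_a_rc_3_2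 lc_a_rc_2_2 lc_a_rc_21_0 lc_a_rc_3_2 lc_a_rc_4_2 lc_a_rc_3_0 lc_a_rc_22_0 lc_a_rc_4_2 lc_a_rc_21_0 lc_a_rc_4_2) (@D3.rec (fun _ => (Cert rels S Gen.a)) lc_a_rc_22_0 lc_a_rc_3_2 lc_a_rc_2_2 lc_a_rc_2_2 lc_a_rc_21_0 lc_a_rc_0_1 lc_a_rc_21_0 lc_a_rc_3_2 lc_a_rc_3_0 lc_a_rc_4_2 lc_a_rc_1_2 lc_a_rc_4_2 lc_a_rc_3_2 lc_a_rc_21_0 lc_a_rc_1_2 lc_a_rc_5_2 lc_a_rc_4_2 lc_a_rc_4_2 lc_a_rc_2_2 lc_a_rc_3_2 lc_a_rc_3_2 lc_a_rc_1_4 lc_a_rc_2_2 lc_a_rc_3_2 lc_a_rc_3_0 lc_a_rc_3_2 lc_a_rc_1_2 lc_a_rc_3_2 lc_a_rc_4_2 lc_a_rc_3_2 lc_a_rc_4_2 lc_a_Cert_tree lc_a_rc_5_0 lc_a_rc_3_0 lc_a_rc_2_2 lc_a_rc_1_0 lc_a_rc_4_2 lc_a_rc_3_2 lc_a_rc_1_0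 lc_a_rc_3_2 lc_a_rc_4_2 lc_a_rc_2_2 lc_a_rc_0_1 lc_a_rc_1_2 lc_a_rc_3_0 lc_a_rc_21_0 lc_a_rc_2_2 lc_a_rc_4_0 lc_a_rc_4_2 lc_a_rc_2_2 lc_a_rc_4_2 lc_a_rc_3_2 lc_a_rc_5_2 lc_a_rc_3_0 lc_a_rc_21_0 lc_a_rc_1_4 lc_a_rc_1_4 lc_a_rc_3_2 lc_a_rc_2_2 lc_a_rc_3_0 lc_a_rc_4_2 lc_a_rc_4_2) (@D3.rec (fun _ => (Cert rels S Gen.a)) lc_a_rc_0_1 lc_a_rc_5_2 lc_a_rc_3_2 lc_a_rc_3_2 lc_a_rc_2_2 lc_a_rc_4_2 lc_a_rc_21_0 lc_a_rc_4_2 lc_a_rc_1_4 lc_a_rc_3_2 lc_a_rc_4_2 lc_a_rc_5_2 lc_a_rc_5_0 lc_a_rc_0_1 lc_a_rc_5_2 lc_a_rc_4_2 lc_a_rc_3_2 lc_a_rc_0_1 lc_a_rc_2_2 lc_a_rc_2_2 lc_a_rc_0_1 lc_a_rc_2_2 lc_a_rc_4_2 lc_a_rc_0_1 lc_a_rc_0_1 lc_a_rc_21_0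 lc_a_rc_2_2 lc_a_rc_0_1 lc_a_rc_4_2 lc_a_rc_21_0 lc_a_rc_3_0 lc_a_rc_21_0 lc_a_rc_0_1 lc_a_rc_2_2 lc_a_rc_4_2 lc_a_rc_5_0 lc_a_rc_4_2 lc_a_rc_5_2 lc_a_rc_0_1 lc_a_rc_2_2 lc_a_rc_5_0 lc_a_rc_4_2 lc_a_rc_5_2 lc_a_rc_0_1 lc_a_rc_5_0 lc_a_rc_0_1 lc_a_rc_5_0 lc_a_rc_3_0 lc_a_rc_2_2 lc_a_rc_0_1 lc_a_rc_3_2 lc_a_rc_21_0 lc_a_rc_21_0 lc_a_rc_3_2 lc_a_rc_2_2 lc_a_rc_5_0 lc_a_rc_3_2 lc_a_rc_2_2 lc_a_rc_1_2 lc_a_rc_3_2 lc_a_rc_2_2 lc_a_rc_2_2) (@D3.rec (fun _ => (Cert rels S Gen.a)) lc_a_rc_2_2 lc_a_rc_0_1 lc_a_rc_22_0 lc_a_rc_2_2 lc_a_rc_2_2 lc_a_rc_2_2 lc_a_rc_4_2 lc_a_rc_2_0 lc_a_rc_2_2 lc_a_rc_4_2 lc_a_rc_2_0 lc_a_rc_0_1 lc_a_rc_3_2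 lc_a_rc_5_2 lc_a_rc_3_2 lc_a_rc_4_0 lc_a_rc_2_2 lc_a_rc_21_0 lc_a_rc_5_2 lc_a_rc_21_0 lc_a_rc_4_2 lc_a_rc_2_2 lc_a_rc_1_2 lc_a_rc_3_2 lc_a_rc_4_2 lc_a_rc_4_2 lc_a_rc_1_0 lc_a_rc_3_2 lc_a_rc_0_1 lc_a_rc_3_2 lc_a_rc_21_0 lc_a_rc_0_1 lc_a_rc_2_2 lc_a_rc_1_2 lc_a_rc_3_2 lc_a_rc_5_2 lc_a_rc_2_2 lc_a_rc_3_0 lc_a_rc_4_0 lc_a_rc_21_0 lc_a_rc_5_0 lc_a_Cert_tree lc_a_rc_3_2 lc_a_rc_3_2 lc_a_rc_2_2 lc_a_rc_21_0 lc_a_rc_21_0 lc_a_rc_3_2 lc_a_rc_3_2 lc_a_rc_2_2 lc_a_rc_1_4 lc_a_rc_2_2 lc_a_rc_3_0 lc_a_rc_4_2 lc_a_rc_2_0 lc_a_rc_0_1 lc_a_rc_1_2 lc_a_rc_21_0 lc_a_rc_2_2 lc_a_rc_3_2 lc_a_rc_3_2 lc_a_rc_5_2) (@D3.rec (fun _ => (Cert rels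 S Gen.a)) lc_a_rc_3_2 lc_a_rc_2_0 lc_a_rc_0_1 lc_a_rc_4_2 lc_a_rc_2_2 lc_a_rc_3_2 lc_a_rc_3_2 lc_a_rc_3_2 lc_a_rc_3_2 lc_a_rc_21_0 lc_a_rc_21_0 lc_a_rc_4_0 lc_a_rc_3_2 lc_a_rc_3_2 lc_a_rc_4_2 lc_a_rc_4_0 lc_a_rc_0_1 lc_a_rc_1_4 lc_a_rc_4_2 lc_a_rc_21_0 lc_a_rc_1_2 lc_a_rc_2_2 lc_a_rc_3_0 lc_a_rc_3_2 lc_a_rc_5_2 lc_a_rc_2_2 lc_a_rc_3_0 lc_a_rc_3_0 lc_a_rc_4_2 lc_a_rc_1_4 lc_a_rc_0_1 lc_a_rc_4_2 lc_a_rc_0_1 lc_a_rc_1_4 lc_a_rc_2_0 lc_a_rc_1_2 lc_a_rc_0_1 lc_a_rc_5_0 lc_a_rc_3_2 lc_a_rc_5_2 lc_a_rc_2_2 lc_a_rc_2_0 lc_a_rc_0_1 lc_a_rc_2_2 lc_a_rc_21_0 lc_a_rc_3_2 lc_a_rc_3_0 lc_a_rc_5_2 lc_a_rc_2_2 lc_a_rc_4_2 lc_a_rc_4_0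 lc_a_rc_3_2 lc_a_rc_4_2 lc_a_rc_0_1 lc_a_rc_21_0 lc_a_rc_0_1 lc_a_rc_21_0 lc_a_rc_0_1 lc_a_rc_0_1 lc_a_rc_3_0 lc_a_rc_3_2 lc_a_rc_2_2) (@D3.rec (fun _ => (Cert rels S Gen.a)) lc_a_rc_4_2 lc_a_rc_3_2 lc_a_rc_4_2 lc_a_rc_0_1 lc_a_rc_21_0 lc_a_rc_5_2 lc_a_rc_4_2 lc_a_rc_1_4 lc_a_rc_1_2 lc_a_rc_0_1 lc_a_rc_2_2 lc_a_rc_3_2 lc_a_rc_4_2 lc_a_rc_21_0 lc_a_rc_3_2 lc_a_rc_3_2 lc_a_rc_5_2 lc_a_rc_21_0 lc_a_rc_22_0 lc_a_rc_3_2 lc_a_rc_4_2 lc_a_rc_3_0 lc_a_rc_2_2 lc_a_rc_3_2 lc_a_rc_22_0 lc_a_rc_3_0 lc_a_rc_3_2 lc_a_rc_22_0 lc_a_rc_3_2 lc_a_rc_21_0 lc_a_rc_22_0 lc_a_rc_22_0 lc_a_rc_2_2 lc_a_rc_4_2 lc_a_rc_0_1 lc_a_rc_2_2 lc_a_rc_4_2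 lc_a_rc_4_2 lc_a_rc_4_0 lc_a_rc_3_2 lc_a_rc_4_0 lc_a_rc_3_2 lc_a_rc_3_2 lc_a_rc_3_2 lc_a_rc_0_1 lc_a_rc_5_2 lc_a_rc_2_2 lc_a_Cert_tree lc_a_rc_21_0 lc_a_rc_4_2 lc_a_rc_4_0 lc_a_rc_0_1 lc_a_rc_5_2 lc_a_rc_5_2 lc_a_rc_3_2 lc_a_rc_4_2 lc_a_rc_0_1 lc_a_rc_3_2 lc_a_rc_2_2 lc_a_rc_1_2 lc_a_rc_5_0 lc_a_rc_4_2) (@D3.rec (fun _ => (Cert rels S Gen.a)) lc_a_rc_3_2 lc_a_rc_1_2 lc_a_rc_2_0 lc_a_rc_21_0 lc_a_rc_21_0 lc_a_rc_2_0 lc_a_rc_0_1 lc_a_rc_2_0 lc_a_rc_4_2 lc_a_rc_3_2 lc_a_rc_3_0 lc_a_rc_3_2 lc_a_rc_3_0 lc_a_rc_21_0 lc_a_rc_3_2 lc_a_rc_4_2 lc_a_rc_2_2 lc_a_rc_4_2 lc_a_rc_3_2 lc_a_rc_21_0 lc_a_rc_2_2 lc_a_rc_4_2 lc_a_rc_4_0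 lc_a_rc_2_0 lc_a_rc_2_2 lc_a_rc_3_2 lc_a_rc_5_2 lc_a_rc_3_2 lc_a_rc_3_2 lc_a_rc_2_2 lc_a_rc_4_2 lc_a_rc_0_1 lc_a_rc_21_0 lc_a_rc_3_2 lc_a_rc_4_2 lc_a_rc_3_2 lc_a_rc_4_2 lc_a_rc_3_2 lc_a_rc_4_2 lc_a_rc_4_0 lc_a_rc_3_2 lc_a_rc_5_2 lc_a_rc_2_2 lc_a_rc_4_2 lc_a_rc_21_0 lc_a_rc_4_0 lc_a_rc_2_2 lc_a_rc_4_2 lc_a_rc_4_0 lc_a_rc_3_2 lc_a_rc_2_2 lc_a_rc_21_0 lc_a_rc_3_2 lc_a_rc_2_2 lc_a_rc_4_2 lc_a_rc_1_2 lc_a_rc_0_1 lc_a_rc_0_1 lc_a_rc_21_0 lc_a_rc_21_0 lc_a_rc_4_2 lc_a_rc_1_2) (@D3.rec (fun _ => (Cert rels S Gen.a)) lc_a_rc_2_0 lc_a_rc_0_1 lc_a_rc_2_2 lc_a_rc_2_2 lc_a_rc_0_1 lc_a_rc_0_1 lc_a_rc_2_2 lc_a_rc_3_2 lc_a_rc_3_0 lc_a_rc_2_2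 lc_a_rc_4_2 lc_a_rc_3_2 lc_a_rc_4_2 lc_a_rc_2_2 lc_a_rc_2_0 lc_a_rc_21_0 lc_a_rc_3_2 lc_a_rc_5_2 lc_a_rc_22_0 lc_a_rc_21_0 lc_a_rc_21_0 lc_a_rc_5_2 lc_a_rc_4_2 lc_a_rc_2_0 lc_a_rc_2_2 lc_a_rc_2_2 lc_a_rc_2_2 lc_a_rc_0_1 lc_a_rc_3_2 lc_a_rc_0_1 lc_a_rc_0_1 lc_a_rc_3_2 lc_a_rc_3_2 lc_a_rc_2_2 lc_a_rc_0_1 lc_a_rc_0_1 lc_a_rc_3_2 lc_a_rc_4_2 lc_a_Cert_tree lc_a_rc_3_0 lc_a_rc_0_1 lc_a_Cert_tree lc_a_rc_3_2 lc_a_rc_0_1 lc_a_rc_2_2 lc_a_rc_2_2 lc_a_rc_3_2 lc_a_rc_21_0 lc_a_rc_3_0 lc_a_rc_2_2 lc_a_rc_1_2 lc_a_rc_0_1 lc_a_rc_1_4 lc_a_rc_2_2 lc_a_rc_4_2 lc_a_rc_3_2 lc_a_rc_2_0 lc_a_rc_2_0 lc_a_rc_0_1 lc_a_rc_21_0 lc_a_rc_4_2 lc_a_rc_3_2)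 (@D3.rec (fun _ => (Cert rels S Gen.a)) lc_a_rc_4_2 lc_a_rc_3_2 lc_a_rc_21_0 lc_a_rc_2_2 lc_a_rc_4_2 lc_a_rc_0_1 lc_a_rc_2_2 lc_a_rc_3_2 lc_a_rc_2_2 lc_a_rc_4_0 lc_a_rc_4_0 lc_a_rc_3_2 lc_a_rc_5_2 lc_a_rc_4_0 lc_a_rc_3_2 lc_a_rc_2_2 lc_a_rc_21_0 lc_a_rc_3_2 lc_a_rc_21_0 lc_a_rc_1_2 lc_a_rc_0_1 lc_a_rc_4_2 lc_a_rc_3_2 lc_a_rc_4_2 lc_a_rc_4_0 lc_a_rc_2_2 lc_a_rc_3_0 lc_a_rc_0_1 lc_a_rc_0_1 lc_a_rc_1_2 lc_a_rc_3_2 lc_a_rc_2_0 lc_a_rc_2_0 lc_a_rc_0_1 lc_a_rc_3_2 lc_a_rc_3_0 lc_a_rc_1_4 lc_a_Cert_tree lc_a_rc_2_2 lc_a_rc_21_0 lc_a_rc_0_1 lc_a_rc_1_2 lc_a_rc_3_2 lc_a_rc_4_2 lc_a_rc_21_0 lc_a_rc_2_2 lc_a_rc_4_2 lc_a_rc_21_0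 lc_a_rc_5_0 lc_a_rc_3_2 lc_a_rc_22_0 lc_a_rc_3_2 lc_a_rc_2_2 lc_a_rc_21_0 lc_a_rc_4_2 lc_a_rc_21_0 lc_a_rc_22_0 lc_a_rc_2_0 lc_a_rc_1_2 lc_a_rc_4_2 lc_a_rc_1_0 lc_a_rc_4_2) (@D3.rec (fun _ => (Cert rels S Gen.a)) lc_a_rc_21_0 lc_a_rc_4_2 lc_a_rc_4_2 lc_a_rc_1_4 lc_a_rc_0_1 lc_a_rc_4_0 lc_a_rc_1_2 lc_a_rc_2_2 lc_a_rc_4_2 lc_a_rc_3_2 lc_a_rc_0_1 lc_a_rc_3_2 lc_a_rc_4_2 lc_a_rc_4_2 lc_a_rc_1_4 lc_a_rc_3_0 lc_a_rc_3_2 lc_a_rc_4_2 lc_a_rc_5_2 lc_a_rc_4_2 lc_a_rc_3_2 lc_a_rc_5_2 lc_a_rc_3_0 lc_a_rc_5_0 lc_a_rc_3_2 lc_a_rc_4_0 lc_a_rc_1_2 lc_a_rc_1_2 lc_a_rc_2_2 lc_a_rc_3_2 lc_a_rc_1_0 lc_a_rc_1_0 lc_a_rc_3_2 lc_a_rc_4_2 lc_a_rc_5_2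 lc_a_rc_3_2 lc_a_rc_4_2 lc_a_rc_3_2 lc_a_rc_1_2 lc_a_rc_2_2 lc_a_rc_4_2 lc_a_rc_5_0 lc_a_rc_3_0 lc_a_rc_0_1 lc_a_rc_2_0 lc_a_rc_3_2 lc_a_rc_5_2 lc_a_rc_3_2 lc_a_rc_4_2 lc_a_rc_4_0 lc_a_rc_3_0 lc_a_rc_5_2 lc_a_rc_4_2 lc_a_rc_2_2 lc_a_rc_2_2 lc_a_rc_3_2 lc_a_rc_3_0 lc_a_rc_0_1 lc_a_rc_0_1 lc_a_rc_5_2 lc_a_rc_0_1 lc_a_rc_1_2) (@D3.rec (fun _ => (Cert rels S Gen.a)) lc_a_rc_4_2 lc_a_rc_4_0 lc_a_rc_5_2 lc_a_rc_0_1 lc_a_rc_21_0 lc_a_rc_0_1 lc_a_rc_2_0 lc_a_rc_0_1 lc_a_rc_0_1 lc_a_rc_1_0 lc_a_rc_2_2 lc_a_rc_1_2 lc_a_rc_0_1 lc_a_rc_4_2 lc_a_rc_0_1 lc_a_rc_0_1 lc_a_rc_21_0 lc_a_rc_1_2 lc_a_rc_21_0 lc_a_rc_2_2 lc_a_rc_4_2 lc_a_rc_2_2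 lc_a_rc_4_2 lc_a_rc_2_2 lc_a_rc_0_1 lc_a_rc_3_2 lc_a_rc_3_2 lc_a_rc_22_0 lc_a_rc_4_2 lc_a_rc_3_2 lc_a_rc_2_2 lc_a_rc_2_2 lc_a_rc_4_2 lc_a_rc_22_0 lc_a_rc_4_2 lc_a_rc_2_0 lc_a_rc_4_2 lc_a_rc_2_2 lc_a_rc_21_0 lc_a_rc_4_2 lc_a_rc_3_2 lc_a_rc_0_1 lc_a_rc_21_0 lc_a_rc_0_1 lc_a_rc_2_2 lc_a_rc_4_2 lc_a_rc_2_2 lc_a_rc_4_2 lc_a_rc_3_2 lc_a_rc_2_2 lc_a_rc_4_2 lc_a_rc_2_2 lc_a_rc_4_2 lc_a_rc_2_2 lc_a_rc_2_2 lc_a_rc_3_2 lc_a_rc_5_2 lc_a_rc_3_0 lc_a_rc_0_1 lc_a_rc_21_0 lc_a_rc_21_0 lc_a_rc_22_0) (@D3.rec (fun _ => (Cert rels S Gen.a)) lc_a_rc_2_2 lc_a_rc_2_2 lc_a_rc_4_2 lc_a_rc_2_2 lc_a_rc_4_2 lc_a_rc_4_2 lc_a_rc_1_2 lc_a_rc_2_0 lc_a_rc_3_2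 lc_a_rc_5_2 lc_a_rc_5_2 lc_a_rc_3_2 lc_a_rc_3_2 lc_a_rc_0_1 lc_a_rc_22_0 lc_a_rc_21_0 lc_a_rc_4_2 lc_a_rc_3_2 lc_a_rc_3_2 lc_a_rc_0_1 lc_a_rc_4_2 lc_a_rc_0_1 lc_a_rc_3_2 lc_a_rc_5_2 lc_a_rc_1_4 lc_a_rc_2_0 lc_a_rc_2_0 lc_a_rc_1_4 lc_a_rc_4_2 lc_a_rc_0_1 lc_a_rc_21_0 lc_a_rc_22_0 lc_a_rc_4_2 lc_a_rc_2_0 lc_a_rc_0_1 lc_a_rc_4_2 lc_a_rc_2_0 lc_a_rc_5_2 lc_a_rc_21_0 lc_a_rc_4_2 lc_a_rc_2_2 lc_a_rc_0_1 lc_a_rc_4_2 lc_a_rc_5_2 lc_a_rc_5_2 lc_a_rc_2_2 lc_a_rc_1_2 lc_a_rc_4_2 lc_a_rc_1_2 lc_a_rc_3_2 lc_a_rc_2_2 lc_a_rc_4_0 lc_a_rc_3_2 lc_a_rc_5_2 lc_a_rc_0_1 lc_a_rc_2_2 lc_a_rc_4_2 lc_a_rc_22_0 lc_a_rc_4_2 lc_a_rc_3_0 lc_a_rc_3_2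 lc_a_rc_5_2) (@D3.rec (fun _ => (Cert rels S Gen.a)) lc_a_rc_3_2 lc_a_rc_21_0 lc_a_rc_3_2 lc_a_rc_0_1 lc_a_rc_4_0 lc_a_rc_2_2 lc_a_rc_3_0 lc_a_Cert_tree lc_a_rc_2_2 lc_a_rc_3_2 lc_a_rc_1_2 lc_a_rc_3_0 lc_a_rc_21_0 lc_a_rc_4_0 lc_a_rc_2_0 lc_a_rc_21_0 lc_a_rc_0_1 lc_a_rc_22_0 lc_a_rc_5_2 lc_a_rc_3_2 lc_a_rc_5_0 lc_a_rc_0_1 lc_a_rc_0_1 lc_a_rc_3_2 lc_a_rc_4_2 lc_a_rc_21_0 lc_a_rc_2_2 lc_a_rc_0_1 lc_a_rc_0_1 lc_a_rc_22_0 lc_a_rc_2_2 lc_a_rc_3_2 lc_a_rc_21_0 lc_a_rc_21_0 lc_a_rc_21_0 lc_a_rc_21_0 lc_a_rc_2_2 lc_a_rc_0_1 lc_a_rc_3_0 lc_a_rc_2_2 lc_a_rc_3_2 lc_a_rc_5_2 lc_a_rc_1_4 lc_a_rc_3_0 lc_a_rc_3_0 lc_a_rc_22_0 lc_a_rc_3_2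 lc_a_rc_5_0 lc_a_rc_2_2 lc_a_rc_5_2 lc_a_rc_5_2 lc_a_rc_3_2 lc_a_rc_22_0 lc_a_rc_4_2 lc_a_rc_21_0 lc_a_rc_5_2 lc_a_rc_21_0 lc_a_rc_5_2 lc_a_rc_5_0 lc_a_rc_2_2 lc_a_rc_22_0 lc_a_rc_0_1) (@D3.rec (fun _ => (Cert rels S Gen.a)) lc_a_rc_3_0 lc_a_rc_5_2 lc_a_rc_3_2 lc_a_rc_4_2 lc_a_rc_3_0 lc_a_rc_5_2 lc_a_rc_0_1 lc_a_rc_4_2 lc_a_rc_3_2 lc_a_rc_4_0 lc_a_rc_3_2 lc_a_rc_2_2 lc_a_rc_3_2 lc_a_rc_3_2 lc_a_rc_22_0 lc_a_rc_0_1 lc_a_rc_4_2 lc_a_rc_0_1 lc_a_rc_3_2 lc_a_rc_4_2 lc_a_rc_1_2 lc_a_rc_4_2 lc_a_rc_0_1 lc_a_rc_0_1 lc_a_rc_3_2 lc_a_rc_3_2 lc_a_rc_4_2 lc_a_rc_2_2 lc_a_rc_4_2 lc_a_rc_5_2 lc_a_rc_21_0 lc_a_rc_4_2 lc_a_rc_0_1 lc_a_rc_3_0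 lc_a_rc_0_1 lc_a_rc_3_0 lc_a_rc_0_1 lc_a_rc_1_4 lc_a_rc_3_2 lc_a_rc_2_2 lc_a_rc_1_0 lc_a_rc_2_0 lc_a_rc_21_0 lc_a_rc_4_2 lc_a_rc_4_0 lc_a_rc_4_2 lc_a_rc_21_0 lc_a_rc_3_0 lc_a_rc_3_2 lc_a_rc_5_2 lc_a_rc_4_2 lc_a_rc_2_2 lc_a_rc_3_2 lc_a_rc_4_2 lc_a_rc_3_2 lc_a_rc_4_2 lc_a_rc_4_2 lc_a_rc_2_2 lc_a_rc_2_2 lc_a_rc_4_2 lc_a_rc_4_0 lc_a_rc_0_1) (@D3.rec (fun _ => (Cert rels S Gen.a)) lc_a_rc_22_0 lc_a_rc_4_2 lc_a_rc_4_2 lc_a_rc_2_2 lc_a_rc_1_4 lc_a_rc_5_0 lc_a_rc_0_1 lc_a_rc_2_2 lc_a_rc_21_0 lc_a_rc_2_2 lc_a_rc_2_2 lc_a_rc_2_2 lc_a_rc_5_2 lc_a_rc_4_2 lc_a_rc_3_2 lc_a_rc_5_0 lc_a_rc_3_0 lc_a_rc_4_0 lc_a_rc_5_2 lc_a_rc_1_0 lc_a_rc_3_2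 lc_a_rc_5_0 lc_a_rc_0_1 lc_a_rc_21_0 lc_a_rc_0_1 lc_a_rc_3_0 lc_a_rc_1_2 lc_a_rc_3_2 lc_a_rc_4_2 lc_a_rc_1_2 lc_a_rc_2_2 lc_a_rc_1_4 lc_a_rc_1_0 lc_a_rc_1_4 lc_a_rc_21_0 lc_a_rc_21_0 lc_a_rc_4_2 lc_a_rc_4_0 lc_a_rc_21_0 lc_a_rc_3_2 lc_a_rc_1_4 lc_a_rc_4_2 lc_a_rc_3_2 lc_a_rc_5_2 lc_a_rc_21_0 lc_a_rc_0_1 lc_a_rc_4_0 lc_a_rc_2_0 lc_a_rc_4_2 lc_a_rc_2_2 lc_a_rc_3_0 lc_a_rc_1_4 lc_a_rc_3_2 lc_a_rc_4_2 lc_a_rc_2_0 lc_a_rc_4_0 lc_a_rc_4_0 lc_a_rc_3_2 lc_a_rc_4_2 lc_a_rc_2_2 lc_a_rc_21_0 lc_a_rc_21_0) (@D3.rec (fun _ => (Cert rels S Gen.a)) lc_a_rc_5_0 lc_a_rc_22_0 lc_a_Cert_tree lc_a_rc_3_2 lc_a_rc_21_0 lc_a_rc_0_1 lc_a_rc_0_1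 lc_a_rc_5_0 lc_a_rc_4_2 lc_a_rc_0_1 lc_a_rc_4_2 lc_a_rc_4_2 lc_a_rc_22_0 lc_a_rc_2_0 lc_a_rc_4_2 lc_a_rc_22_0 lc_a_rc_4_2 lc_a_rc_3_2 lc_a_rc_4_2 lc_a_rc_2_2 lc_a_rc_3_2 lc_a_rc_1_2 lc_a_rc_4_2 lc_a_rc_0_1 lc_a_rc_4_0 lc_a_rc_3_2 lc_a_rc_5_2 lc_a_rc_0_1 lc_a_rc_21_0 lc_a_rc_0_1 lc_a_rc_4_2 lc_a_rc_3_2 lc_a_rc_2_2 lc_a_rc_4_2 lc_a_rc_1_4 lc_a_rc_3_2 lc_a_rc_4_2 lc_a_rc_2_0 lc_a_rc_2_2 lc_a_rc_4_2 lc_a_rc_3_2 lc_a_rc_2_2 lc_a_rc_0_1 lc_a_rc_3_2 lc_a_rc_22_0 lc_a_rc_21_0 lc_a_rc_5_2 lc_a_rc_3_2 lc_a_rc_5_2 lc_a_rc_2_0 lc_a_rc_3_2 lc_a_rc_0_1 lc_a_rc_2_0 lc_a_rc_0_1 lc_a_rc_0_1 lc_a_rc_21_0 lc_a_rc_0_1 lc_a_rc_2_2 lc_a_rc_4_2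 lc_a_rc_3_2 lc_a_rc_1_4 lc_a_rc_4_2) (@D3.rec (fun _ => (Cert rels S Gen.a)) lc_a_rc_2_2 lc_a_rc_3_2 lc_a_rc_1_0 lc_a_rc_1_0 lc_a_rc_21_0 lc_a_rc_0_1 lc_a_rc_0_1 lc_a_rc_4_2 lc_a_rc_21_0 lc_a_rc_0_1 lc_a_rc_0_1 lc_a_rc_4_2 lc_a_rc_21_0 lc_a_rc_0_1 lc_a_rc_0_1 lc_a_rc_4_2 lc_a_rc_4_2 lc_a_rc_4_2 lc_a_rc_3_2 lc_a_rc_5_2 lc_a_rc_0_1 lc_a_rc_0_1 lc_a_rc_4_2 lc_a_rc_5_2 lc_a_rc_5_0 lc_a_rc_5_2 lc_a_rc_4_2 lc_a_rc_3_2 lc_a_rc_21_0 lc_a_rc_2_2 lc_a_rc_4_2 lc_a_rc_1_2 lc_a_rc_21_0 lc_a_rc_3_2 lc_a_rc_5_2 lc_a_rc_3_2 lc_a_rc_3_2 lc_a_rc_5_0 lc_a_rc_1_2 lc_a_rc_5_2 lc_a_rc_4_2 lc_a_rc_21_0 lc_a_rc_4_2 lc_a_rc_0_1 lc_a_rc_21_0 lc_a_rc_0_1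 lc_a_rc_1_2 lc_a_rc_1_4 lc_a_rc_0_1 lc_a_rc_2_2 lc_a_rc_4_2 lc_a_rc_3_2 lc_a_rc_2_2 lc_a_rc_4_2 lc_a_rc_1_4 lc_a_rc_3_2 lc_a_rc_4_2 lc_a_rc_21_0 lc_a_rc_1_2 lc_a_rc_2_0 lc_a_rc_3_2 lc_a_rc_1_2) (@D3.rec (fun _ => (Cert rels S Gen.a)) lc_a_rc_4_2 lc_a_rc_1_0 lc_a_rc_3_0 lc_a_rc_3_2 lc_a_rc_4_2 lc_a_rc_1_2 lc_a_Cert_tree lc_a_rc_21_0 lc_a_rc_3_2 lc_a_rc_22_0 lc_a_rc_3_2 lc_a_rc_1_4 lc_a_rc_0_1 lc_a_rc_0_1 lc_a_rc_1_4 lc_a_rc_0_1 lc_a_rc_4_2 lc_a_rc_2_2 lc_a_rc_2_2 lc_a_rc_0_1 lc_a_rc_3_0 lc_a_rc_4_2 lc_a_rc_2_2 lc_a_rc_3_0 lc_a_rc_21_0 lc_a_rc_21_0 lc_a_rc_1_4 lc_a_rc_1_4 lc_a_rc_5_2 lc_a_Cert_tree lc_a_rc_3_2 lc_a_rc_4_2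 lc_a_rc_3_2 lc_a_rc_22_0 lc_a_rc_2_2 lc_a_rc_21_0 lc_a_rc_3_2 lc_a_rc_2_2 lc_a_rc_2_0 lc_a_rc_21_0 lc_a_rc_0_1 lc_a_rc_4_2 lc_a_rc_3_2 lc_a_rc_21_0 lc_a_rc_4_2 lc_a_rc_1_4 lc_a_rc_2_2 lc_a_rc_4_2 lc_a_rc_4_2 lc_a_rc_4_2 lc_a_rc_2_2 lc_a_rc_3_2 lc_a_rc_5_2 lc_a_rc_1_2 lc_a_rc_4_2 lc_a_rc_1_4 lc_a_rc_1_4 lc_a_rc_3_2 lc_a_rc_5_2 lc_a_rc_4_2 lc_a_rc_3_2 lc_a_rc_21_0) (@D3.rec (fun _ => (Cert rels S Gen.a)) lc_a_rc_5_0 lc_a_rc_21_0 lc_a_rc_3_2 lc_a_rc_2_2 lc_a_rc_21_0 lc_a_rc_2_2 lc_a_rc_0_1 lc_a_rc_3_2 lc_a_rc_1_4 lc_a_rc_2_2 lc_a_rc_3_0 lc_a_rc_4_2 lc_a_rc_0_1 lc_a_rc_3_2 lc_a_rc_5_2 lc_a_rc_1_4 lc_a_rc_21_0 lc_a_rc_3_2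 lc_a_rc_5_2 lc_a_rc_3_2 lc_a_rc_5_0 lc_a_rc_2_2 lc_a_rc_3_2 lc_a_rc_2_2 lc_a_rc_5_2 lc_a_rc_1_4 lc_a_rc_3_2 lc_a_rc_3_2 lc_a_rc_4_2 lc_a_rc_4_2 lc_a_rc_4_2 lc_a_rc_4_0 lc_a_rc_0_1 lc_a_rc_3_2 lc_a_rc_5_2 lc_a_rc_21_0 lc_a_rc_4_2 lc_a_rc_2_2 lc_a_rc_21_0 lc_a_rc_3_2 lc_a_rc_5_2 lc_a_rc_3_2 lc_a_rc_2_2 lc_a_rc_3_2 lc_a_rc_1_0 lc_a_rc_5_0 lc_a_rc_4_0 lc_a_rc_4_0 lc_a_rc_2_2 lc_a_rc_0_1 lc_a_rc_3_2 lc_a_rc_4_2 lc_a_rc_0_1 lc_a_rc_4_2 lc_a_rc_2_2 lc_a_rc_4_2 lc_a_rc_2_0 lc_a_rc_3_2 lc_a_rc_22_0 lc_a_rc_0_1 lc_a_rc_22_0 lc_a_rc_1_2) (@D3.rec (fun _ => (Cert rels S Gen.a)) lc_a_rc_4_2 lc_a_rc_21_0 lc_a_rc_2_2 lc_a_rc_4_2 lc_a_rc_2_2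 lc_a_rc_2_2 lc_a_rc_4_2 lc_a_rc_21_0 lc_a_rc_4_2 lc_a_rc_4_2 lc_a_rc_3_0 lc_a_rc_1_2 lc_a_rc_2_2 lc_a_rc_22_0 lc_a_rc_4_2 lc_a_rc_3_2 lc_a_rc_3_2 lc_a_rc_4_2 lc_a_rc_5_2 lc_a_rc_3_0 lc_a_rc_3_0 lc_a_rc_21_0 lc_a_rc_5_2 lc_a_rc_2_2 lc_a_rc_2_2 lc_a_rc_0_1 lc_a_rc_3_0 lc_a_rc_1_4 lc_a_rc_5_2 lc_a_rc_3_0 lc_a_rc_2_0 lc_a_rc_4_2 lc_a_rc_1_2 lc_a_rc_2_0 lc_a_rc_4_2 lc_a_rc_5_2 lc_a_rc_3_0 lc_a_rc_3_2 lc_a_rc_3_2 lc_a_rc_1_2 lc_a_rc_3_2 lc_a_rc_21_0 lc_a_rc_3_2 lc_a_rc_3_2 lc_a_rc_2_2 lc_a_rc_4_2 lc_a_rc_5_0 lc_a_rc_4_2 lc_a_rc_21_0 lc_a_rc_5_2 lc_a_rc_21_0 lc_a_rc_0_1 lc_a_rc_0_1 lc_a_rc_2_2 lc_a_rc_21_0 lc_a_rc_0_1 lc_a_rc_4_2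 lc_a_rc_2_2 lc_a_rc_4_2 lc_a_rc_4_0 lc_a_rc_2_2 lc_a_rc_3_2) (@D3.rec (fun _ => (Cert rels S Gen.a)) lc_a_rc_5_2 lc_a_rc_21_0 lc_a_rc_3_2 lc_a_rc_2_2 lc_a_rc_2_0 lc_a_rc_3_0 lc_a_rc_3_2 lc_a_rc_4_2 lc_a_rc_2_0 lc_a_rc_4_2 lc_a_rc_3_2 lc_a_rc_2_2 lc_a_rc_21_0 lc_a_rc_21_0 lc_a_rc_2_2 lc_a_rc_0_1 lc_a_rc_0_1 lc_a_rc_0_1 lc_a_rc_21_0 lc_a_rc_4_2 lc_a_rc_21_0 lc_a_rc_3_2 lc_a_rc_2_2 lc_a_rc_5_0 lc_a_Cert_tree lc_a_rc_3_2 lc_a_rc_5_0 lc_a_rc_4_2 lc_a_rc_4_2 lc_a_rc_3_0 lc_a_rc_3_2 lc_a_rc_3_2 lc_a_rc_2_2 lc_a_rc_2_0 lc_a_rc_2_0 lc_a_rc_3_2 lc_a_rc_5_2 lc_a_rc_2_2 lc_a_rc_3_2 lc_a_rc_0_1 lc_a_rc_3_2 lc_a_rc_4_2 lc_a_rc_3_2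 lc_a_rc_3_2 lc_a_rc_3_2 lc_a_rc_2_2 lc_a_rc_2_0 lc_a_rc_4_2 lc_a_rc_1_0 lc_a_rc_21_0 lc_a_rc_2_2 lc_a_rc_0_1 lc_a_rc_2_2 lc_a_rc_0_1 lc_a_rc_0_1 lc_a_rc_5_2 lc_a_rc_4_2 lc_a_rc_22_0 lc_a_rc_2_0 lc_a_rc_2_2 lc_a_rc_3_2 lc_a_rc_4_2) (@D3.rec (fun _ => (Cert rels S Gen.a)) lc_a_rc_5_2 lc_a_rc_2_2 lc_a_rc_2_2 lc_a_rc_0_1 lc_a_rc_3_0 lc_a_rc_22_0 lc_a_rc_0_1 lc_a_rc_5_0 lc_a_rc_0_1 lc_a_rc_4_2 lc_a_rc_2_0 lc_a_rc_2_0 lc_a_rc_3_0 lc_a_rc_4_2 lc_a_rc_4_0 lc_a_rc_2_2 lc_a_rc_3_2 lc_a_rc_21_0 lc_a_rc_2_2 lc_a_Cert_tree lc_a_rc_21_0 lc_a_rc_2_2 lc_a_rc_2_2 lc_a_rc_4_2 lc_a_rc_1_2 lc_a_rc_3_2 lc_a_rc_4_2 lc_a_rc_2_2 lc_a_rc_2_2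 lc_a_rc_4_2 lc_a_rc_3_2 lc_a_Cert_tree lc_a_rc_2_0 lc_a_rc_2_2 lc_a_rc_3_2 lc_a_rc_4_2 lc_a_rc_0_1 lc_a_rc_4_2 lc_a_rc_3_0 lc_a_rc_0_1 lc_a_rc_3_2 lc_a_rc_0_1 lc_a_rc_4_0 lc_a_rc_3_2 lc_a_rc_4_0 lc_a_rc_4_2 lc_a_rc_1_2 lc_a_rc_4_2 lc_a_rc_4_2 lc_a_rc_4_2 lc_a_rc_0_1 lc_a_rc_0_1 lc_a_rc_4_0 lc_a_rc_4_2 lc_a_rc_21_0 lc_a_rc_0_1 lc_a_rc_3_2 lc_a_rc_0_1 lc_a_rc_4_2 lc_a_rc_3_2 lc_a_rc_3_2 lc_a_rc_22_0) (@D3.rec (fun _ => (Cert rels S Gen.a)) lc_a_rc_0_1 lc_a_rc_2_2 lc_a_rc_3_2 lc_a_rc_0_1 lc_a_rc_3_0 lc_a_rc_3_0 lc_a_rc_5_0 lc_a_rc_3_2 lc_a_rc_0_1 lc_a_rc_3_0 lc_a_rc_3_2 lc_a_rc_5_2 lc_a_rc_2_0 lc_a_rc_5_2 lc_a_rc_5_0 lc_a_rc_4_2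 lc_a_rc_3_2 lc_a_rc_3_2 lc_a_rc_3_2 lc_a_rc_0_1 lc_a_rc_2_2 lc_a_rc_2_2 lc_a_rc_2_2 lc_a_rc_2_2 lc_a_rc_5_2 lc_a_rc_3_2 lc_a_rc_4_0 lc_a_rc_2_2 lc_a_rc_1_4 lc_a_rc_3_0 lc_a_rc_2_2 lc_a_rc_22_0 lc_a_rc_5_0 lc_a_rc_2_2 lc_a_rc_0_1 lc_a_rc_0_1 lc_a_rc_3_2 lc_a_rc_3_2 lc_a_rc_5_0 lc_a_rc_1_4 lc_a_rc_3_2 lc_a_rc_4_2 lc_a_rc_0_1 lc_a_Cert_tree lc_a_rc_4_2 lc_a_rc_3_2 lc_a_rc_1_2 lc_a_rc_4_2 lc_a_rc_4_0 lc_a_Cert_tree lc_a_rc_4_2 lc_a_rc_3_2 lc_a_rc_0_1 lc_a_rc_3_0 lc_a_rc_1_2 lc_a_rc_3_2 lc_a_rc_1_2 lc_a_rc_3_2 lc_a_rc_1_2 lc_a_rc_3_2 lc_a_rc_3_2 lc_a_rc_4_2) (@D3.rec (fun _ => (Cert rels S Gen.a)) lc_a_rc_2_2 lc_a_rc_1_4 lc_a_rc_2_0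 lc_a_rc_5_2 lc_a_rc_21_0 lc_a_rc_3_0 lc_a_rc_4_2 lc_a_rc_2_2 lc_a_rc_0_1 lc_a_rc_21_0 lc_a_rc_4_2 lc_a_rc_3_2 lc_a_rc_4_2 lc_a_rc_2_0 lc_a_rc_0_1 lc_a_rc_0_1 lc_a_rc_4_2 lc_a_rc_2_2 lc_a_rc_3_2 lc_a_rc_3_2 lc_a_rc_0_1 lc_a_rc_5_2 lc_a_rc_21_0 lc_a_rc_4_2 lc_a_rc_3_2 lc_a_rc_4_2 lc_a_rc_2_2 lc_a_rc_3_0 lc_a_rc_0_1 lc_a_rc_3_2 lc_a_rc_1_2 lc_a_rc_5_2 lc_a_rc_0_1 lc_a_rc_4_0 lc_a_rc_2_2 lc_a_rc_1_2 lc_a_rc_0_1 lc_a_rc_4_2 lc_a_rc_4_2 lc_a_rc_3_0 lc_a_rc_4_2 lc_a_rc_0_1 lc_a_rc_21_0 lc_a_rc_0_1 lc_a_rc_5_0 lc_a_rc_21_0 lc_a_rc_3_2 lc_a_rc_5_2 lc_a_rc_5_0 lc_a_rc_4_2 lc_a_rc_3_2 lc_a_rc_3_0 lc_a_rc_1_2 lc_a_rc_0_1 lc_a_rc_3_2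 lc_a_rc_21_0 lc_a_rc_0_1 lc_a_rc_21_0 lc_a_rc_2_2 lc_a_rc_4_2 lc_a_rc_3_2 lc_a_rc_2_2) (@D3.rec (fun _ => (Cert rels S Gen.a)) lc_a_rc_5_2 lc_a_rc_4_2 lc_a_rc_4_2 lc_a_rc_5_2 lc_a_rc_21_0 lc_a_rc_5_0 lc_a_rc_3_2 lc_a_rc_22_0 lc_a_rc_22_0 lc_a_rc_3_2 lc_a_rc_2_2 lc_a_rc_4_2 lc_a_rc_1_2 lc_a_rc_4_2 lc_a_rc_3_2 lc_a_rc_4_2 lc_a_rc_21_0 lc_a_rc_2_2 lc_a_rc_3_0 lc_a_rc_2_0 lc_a_rc_3_2 lc_a_rc_21_0 lc_a_rc_0_1 lc_a_rc_22_0 lc_a_rc_21_0 lc_a_rc_5_0 lc_a_rc_2_2 lc_a_rc_4_2 lc_a_rc_3_2 lc_a_rc_4_2 lc_a_rc_2_0 lc_a_rc_4_2 lc_a_rc_5_2 lc_a_rc_22_0 lc_a_rc_21_0 lc_a_rc_3_2 lc_a_rc_5_0 lc_a_rc_2_2 lc_a_rc_5_2 lc_a_rc_3_2 lc_a_rc_4_2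 lc_a_rc_2_2 lc_a_rc_21_0 lc_a_rc_4_0 lc_a_rc_3_0 lc_a_rc_5_0 lc_a_rc_1_2 lc_a_rc_4_2 lc_a_rc_0_1 lc_a_rc_1_4 lc_a_rc_2_2 lc_a_rc_3_2 lc_a_rc_0_1 lc_a_rc_4_2 lc_a_rc_2_0 lc_a_rc_3_2 lc_a_rc_2_2 lc_a_rc_3_2 lc_a_rc_2_2 lc_a_rc_1_2 lc_a_rc_5_0 lc_a_rc_2_2) (@D3.rec (fun _ => (Cert rels S Gen.a)) lc_a_rc_0_1 lc_a_rc_2_2 lc_a_rc_3_2 lc_a_rc_2_0 lc_a_rc_2_2 lc_a_rc_3_2 lc_a_rc_4_2 lc_a_rc_3_0 lc_a_rc_4_0 lc_a_rc_2_2 lc_a_rc_22_0 lc_a_rc_3_2 lc_a_rc_4_2 lc_a_rc_1_2 lc_a_rc_0_1 lc_a_rc_3_2 lc_a_rc_3_0 lc_a_rc_2_2 lc_a_rc_1_2 lc_a_rc_3_2 lc_a_rc_5_2 lc_a_rc_0_1 lc_a_rc_2_2 lc_a_rc_2_0 lc_a_rc_21_0 lc_a_rc_2_2 lc_a_rc_2_2 lc_a_rc_2_2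 lc_a_rc_4_2 lc_a_rc_2_0 lc_a_rc_2_2 lc_a_rc_4_2 lc_a_Cert_tree lc_a_rc_21_0 lc_a_rc_4_2 lc_a_rc_2_0 lc_a_rc_21_0 lc_a_rc_5_0 lc_a_rc_0_1 lc_a_rc_0_1 lc_a_rc_0_1 lc_a_rc_4_0 lc_a_rc_5_2 lc_a_rc_22_0 lc_a_rc_21_0 lc_a_rc_21_0 lc_a_rc_3_2 lc_a_rc_0_1 lc_a_rc_5_2 lc_a_rc_2_0 lc_a_rc_2_2 lc_a_rc_3_2 lc_a_rc_21_0 lc_a_rc_3_2 lc_a_rc_21_0 lc_a_rc_3_2 lc_a_rc_3_0 lc_a_rc_2_0 lc_a_rc_1_0 lc_a_rc_21_0 lc_a_rc_5_2 lc_a_rc_4_2) (@D3.rec (fun _ => (Cert rels S Gen.a)) lc_a_rc_3_2 lc_a_rc_21_0 lc_a_rc_21_0 lc_a_rc_4_2 lc_a_rc_4_0 lc_a_rc_0_1 lc_a_rc_2_2 lc_a_rc_4_2 lc_a_rc_21_0 lc_a_rc_2_0 lc_a_rc_4_2 lc_a_rc_2_2 lc_a_rc_2_2 lc_a_rc_21_0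 lc_a_rc_2_2 lc_a_rc_0_1 lc_a_rc_2_2 lc_a_rc_21_0 lc_a_rc_0_1 lc_a_rc_2_2 lc_a_rc_21_0 lc_a_rc_0_1 lc_a_rc_4_2 lc_a_rc_2_2 lc_a_rc_21_0 lc_a_rc_4_2 lc_a_rc_3_2 lc_a_rc_3_2 lc_a_rc_5_2 lc_a_rc_2_2 lc_a_rc_4_0 lc_a_rc_3_2 lc_a_rc_4_2 lc_a_rc_1_0 lc_a_rc_2_2 lc_a_rc_4_0 lc_a_rc_22_0 lc_a_rc_21_0 lc_a_rc_2_2 lc_a_rc_4_2 lc_a_rc_0_1 lc_a_rc_1_4 lc_a_rc_0_1 lc_a_rc_4_2 lc_a_rc_4_2 lc_a_rc_4_2 lc_a_rc_0_1 lc_a_rc_5_2 lc_a_rc_0_1 lc_a_rc_0_1 lc_a_rc_1_4 lc_a_rc_4_2 lc_a_rc_3_2 lc_a_rc_1_2 lc_a_rc_3_0 lc_a_rc_0_1 lc_a_rc_1_4 lc_a_rc_21_0 lc_a_rc_2_2 lc_a_rc_4_2 lc_a_rc_5_0 lc_a_rc_3_2) (@D3.rec (fun _ => (Cert rels S Gen.a)) lc_a_rc_5_2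 lc_a_rc_1_2 lc_a_rc_2_2 lc_a_rc_4_2 lc_a_rc_5_2 lc_a_rc_4_2 lc_a_rc_2_2 lc_a_rc_2_2 lc_a_rc_3_2 lc_a_rc_5_2 lc_a_rc_21_0 lc_a_rc_5_0 lc_a_rc_3_2 lc_a_rc_1_2 lc_a_rc_1_2 lc_a_rc_0_1 lc_a_rc_1_2 lc_a_rc_0_1 lc_a_rc_4_2 lc_a_rc_4_2 lc_a_rc_1_0 lc_a_rc_4_2 lc_a_rc_2_0 lc_a_rc_2_2 lc_a_rc_3_2 lc_a_rc_2_2 lc_a_rc_0_1 lc_a_rc_0_1 lc_a_rc_2_2 lc_a_rc_21_0 lc_a_rc_21_0 lc_a_rc_0_1 lc_a_rc_4_2 lc_a_rc_5_0 lc_a_Cert_tree lc_a_rc_2_2 lc_a_rc_22_0 lc_a_rc_2_2 lc_a_rc_5_2 lc_a_rc_0_1 lc_a_rc_2_2 lc_a_Cert_tree lc_a_rc_21_0 lc_a_rc_22_0 lc_a_rc_0_1 lc_a_Cert_tree lc_a_rc_21_0 lc_a_rc_3_2 lc_a_rc_21_0 lc_a_rc_0_1 lc_a_rc_0_1 lc_a_Cert_tree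 lc_a_rc_2_2 lc_a_rc_3_0 lc_a_rc_0_1 lc_a_rc_21_0 lc_a_rc_2_2 lc_a_rc_3_2 lc_a_rc_22_0 lc_a_rc_2_2 lc_a_rc_4_2 lc_a_rc_5_2) (@D3.rec (fun _ => (Cert rels S Gen.a)) lc_a_rc_3_2 lc_a_rc_0_1 lc_a_rc_3_2 lc_a_rc_2_2 lc_a_rc_22_0 lc_a_rc_4_2 lc_a_rc_3_0 lc_a_rc_3_0 lc_a_rc_2_2 lc_a_rc_3_0 lc_a_rc_2_0 lc_a_rc_3_2 lc_a_rc_3_2 lc_a_rc_2_2 lc_a_rc_22_0 lc_a_rc_0_1 lc_a_rc_4_2 lc_a_rc_3_2 lc_a_rc_4_2 lc_a_rc_1_2 lc_a_rc_3_2 lc_a_rc_3_2 lc_a_rc_5_0 lc_a_rc_3_2 lc_a_rc_22_0 lc_a_rc_21_0 lc_a_rc_0_1 lc_a_rc_0_1 lc_a_rc_1_4 lc_a_rc_0_1 lc_a_rc_2_2 lc_a_rc_4_2 lc_a_rc_3_0 lc_a_rc_3_2 lc_a_rc_3_2 lc_a_rc_1_0 lc_a_rc_3_0 lc_a_rc_1_0 lc_a_rc_2_2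 lc_a_rc_3_2 lc_a_rc_5_2 lc_a_rc_21_0 lc_a_rc_5_0 lc_a_rc_4_2 lc_a_rc_3_0 lc_a_rc_2_2 lc_a_rc_1_4 lc_a_rc_3_2 lc_a_rc_4_2 lc_a_rc_22_0 lc_a_rc_1_0 lc_a_rc_5_2 lc_a_rc_0_1 lc_a_rc_5_2 lc_a_rc_21_0 lc_a_rc_1_0 lc_a_rc_3_2 lc_a_rc_5_0 lc_a_rc_4_2 lc_a_rc_2_2 lc_a_rc_2_2 lc_a_rc_3_2) (@D3.rec (fun _ => (Cert rels S Gen.a)) lc_a_rc_0_1 lc_a_rc_22_0 lc_a_rc_3_2 lc_a_rc_1_0 lc_a_rc_2_2 lc_a_rc_1_2 lc_a_rc_21_0 lc_a_rc_2_2 lc_a_rc_4_2 lc_a_rc_5_2 lc_a_rc_3_2 lc_a_rc_3_2 lc_a_rc_21_0 lc_a_rc_4_2 lc_a_rc_3_2 lc_a_rc_2_2 lc_a_rc_2_2 lc_a_rc_1_0 lc_a_rc_3_2 lc_a_rc_1_2 lc_a_rc_3_2 lc_a_rc_1_4 lc_a_rc_3_2 lc_a_rc_21_0 lc_a_rc_5_2 lc_a_rc_0_1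 lc_a_rc_0_1 lc_a_rc_1_2 lc_a_rc_21_0 lc_a_rc_21_0 lc_a_rc_2_2 lc_a_rc_3_2 lc_a_rc_5_2 lc_a_rc_0_1 lc_a_rc_0_1 lc_a_rc_4_0 lc_a_rc_3_2 lc_a_rc_4_0 lc_a_rc_5_2 lc_a_rc_21_0 lc_a_rc_4_2 lc_a_rc_5_0 lc_a_rc_3_2 lc_a_rc_2_2 lc_a_rc_21_0 lc_a_rc_4_2 lc_a_rc_3_2 lc_a_rc_1_2 lc_a_rc_2_2 lc_a_rc_0_1 lc_a_rc_1_4 lc_a_rc_3_2 lc_a_rc_4_2 lc_a_rc_2_2 lc_a_rc_0_1 lc_a_rc_0_1 lc_a_rc_2_2 lc_a_rc_3_2 lc_a_rc_4_2 lc_a_rc_2_0 lc_a_rc_1_2 lc_a_rc_3_2) (@D3.rec (fun _ => (Cert rels S Gen.a)) lc_a_rc_2_2 lc_a_rc_4_2 lc_a_rc_0_1 lc_a_rc_3_2 lc_a_rc_5_2 lc_a_rc_0_1 lc_a_rc_4_2 lc_a_rc_2_2 lc_a_rc_3_2 lc_a_rc_1_4 lc_a_rc_0_1 lc_a_rc_2_0 lc_a_rc_3_0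 lc_a_rc_2_0 lc_a_rc_4_2 lc_a_rc_4_2 lc_a_rc_4_2 lc_a_rc_22_0 lc_a_rc_0_1 lc_a_rc_0_1 lc_a_rc_2_0 lc_a_rc_3_2 lc_a_rc_3_2 lc_a_rc_3_0 lc_a_rc_4_0 lc_a_rc_3_0 lc_a_rc_5_0 lc_a_rc_4_2 lc_a_rc_5_2 lc_a_rc_1_2 lc_a_rc_2_2 lc_a_rc_4_2 lc_a_rc_3_0 lc_a_rc_0_1 lc_a_rc_4_2 lc_a_rc_4_2 lc_a_rc_4_0 lc_a_rc_3_0 lc_a_rc_3_2 lc_a_rc_2_2 lc_a_rc_3_2 lc_a_rc_0_1 lc_a_rc_5_0 lc_a_rc_3_2 lc_a_rc_0_1 lc_a_rc_2_0 lc_a_rc_2_2 lc_a_rc_22_0 lc_a_rc_4_2 lc_a_rc_22_0 lc_a_rc_2_2 lc_a_rc_0_1 lc_a_rc_21_0 lc_a_rc_2_2 lc_a_rc_4_2 lc_a_rc_2_2 lc_a_rc_21_0 lc_a_rc_2_2 lc_a_rc_3_2 lc_a_rc_2_2 lc_a_rc_4_2 lc_a_rc_2_2) (@D3.rec (fun _ => (Cert rels S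 Gen.a)) lc_a_rc_3_2 lc_a_rc_0_1 lc_a_rc_2_0 lc_a_rc_4_2 lc_a_rc_2_0 lc_a_rc_3_2 lc_a_rc_4_2 lc_a_rc_3_0 lc_a_rc_4_2 lc_a_rc_3_0 lc_a_rc_1_2 lc_a_rc_21_0 lc_a_rc_4_2 lc_a_rc_2_0 lc_a_rc_22_0 lc_a_rc_4_2 lc_a_rc_5_0 lc_a_rc_2_2 lc_a_rc_0_1 lc_a_rc_1_4 lc_a_rc_4_2 lc_a_rc_4_2 lc_a_rc_2_2 lc_a_rc_4_2 lc_a_rc_1_2 lc_a_rc_0_1 lc_a_rc_21_0 lc_a_rc_1_4 lc_a_rc_21_0 lc_a_rc_4_2 lc_a_rc_0_1 lc_a_rc_1_2 lc_a_rc_2_2 lc_a_rc_21_0 lc_a_rc_3_0 lc_a_rc_2_0 lc_a_rc_2_2 lc_a_rc_3_2 lc_a_rc_3_2 lc_a_rc_0_1 lc_a_rc_2_2 lc_a_rc_2_2 lc_a_rc_5_2 lc_a_rc_1_4 lc_a_rc_4_2 lc_a_rc_3_0 lc_a_rc_21_0 lc_a_rc_0_1 lc_a_rc_0_1 lc_a_rc_4_2 lc_a_rc_1_4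 lc_a_rc_21_0 lc_a_rc_3_2 lc_a_rc_2_0 lc_a_rc_1_0 lc_a_rc_4_0 lc_a_rc_0_1 lc_a_rc_0_1 lc_a_rc_2_2 lc_a_rc_22_0 lc_a_rc_5_0 lc_a_rc_3_0) (@D3.rec (fun _ => (Cert rels S Gen.a)) lc_a_rc_1_4 lc_a_rc_1_4 lc_a_rc_4_2 lc_a_rc_0_1 lc_a_rc_2_0 lc_a_rc_21_0 lc_a_rc_2_2 lc_a_rc_0_1 lc_a_rc_2_0 lc_a_rc_2_2 lc_a_rc_3_0 lc_a_rc_2_0 lc_a_rc_2_2 lc_a_rc_4_0 lc_a_rc_5_2 lc_a_rc_21_0 lc_a_rc_3_2 lc_a_rc_4_2 lc_a_rc_21_0 lc_a_rc_3_0 lc_a_rc_3_0 lc_a_rc_4_2 lc_a_rc_3_0 lc_a_rc_1_0 lc_a_rc_1_0 lc_a_rc_2_0 lc_a_rc_1_2 lc_a_rc_3_0 lc_a_rc_2_2 lc_a_rc_1_4 lc_a_rc_3_0 lc_a_rc_3_2 lc_a_rc_2_2 lc_a_rc_1_2 lc_a_rc_5_0 lc_a_rc_2_2 lc_a_rc_4_2 lc_a_rc_3_2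 lc_a_rc_2_2 lc_a_rc_3_2 lc_a_rc_4_2 lc_a_rc_0_1 lc_a_rc_2_0 lc_a_rc_3_0 lc_a_rc_1_4 lc_a_rc_2_2 lc_a_rc_3_0 lc_a_rc_0_1 lc_a_rc_4_2 lc_a_rc_21_0 lc_a_rc_3_2 lc_a_rc_3_0 lc_a_rc_0_1 lc_a_rc_3_2 lc_a_rc_3_2 lc_a_rc_5_2 lc_a_rc_2_2 lc_a_rc_1_4 lc_a_rc_3_0 lc_a_rc_5_2 lc_a_rc_4_2 lc_a_rc_5_2) (@D3.rec (fun _ => (Cert rels S Gen.a)) lc_a_rc_2_2 lc_a_rc_2_2 lc_a_rc_1_0 lc_a_rc_2_2 lc_a_rc_0_1 lc_a_rc_4_2 lc_a_rc_0_1 lc_a_rc_0_1 lc_a_rc_21_0 lc_a_rc_2_0 lc_a_rc_2_2 lc_a_rc_2_2 lc_a_rc_2_2 lc_a_rc_0_1 lc_a_rc_0_1 lc_a_rc_4_2 lc_a_rc_1_2 lc_a_rc_4_0 lc_a_rc_3_2 lc_a_rc_5_2 lc_a_rc_4_2 lc_a_rc_4_0 lc_a_rc_0_1 lc_a_rc_5_2 lc_a_rc_0_1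 lc_a_rc_2_0 lc_a_rc_3_0 lc_a_rc_21_0 lc_a_rc_21_0 lc_a_rc_3_2 lc_a_rc_2_2 lc_a_rc_0_1 lc_a_rc_4_2 lc_a_rc_3_2 lc_a_rc_5_0 lc_a_rc_3_2 lc_a_rc_5_0 lc_a_rc_4_2 lc_a_rc_4_0 lc_a_rc_2_2 lc_a_rc_5_0 lc_a_rc_4_2 lc_a_rc_22_0 lc_a_rc_4_2 lc_a_rc_22_0 lc_a_rc_22_0 lc_a_rc_2_2 lc_a_rc_0_1 lc_a_rc_21_0 lc_a_rc_4_2 lc_a_rc_5_0 lc_a_rc_3_2 lc_a_rc_4_2 lc_a_rc_2_2 lc_a_rc_2_2 lc_a_rc_1_2 lc_a_rc_2_2 lc_a_rc_22_0 lc_a_rc_4_2 lc_a_rc_22_0 lc_a_rc_3_2 lc_a_rc_2_2) (@D3.rec (fun _ => (Cert rels S Gen.a)) lc_a_rc_3_2 lc_a_rc_2_2 lc_a_rc_3_2 lc_a_rc_1_0 lc_a_rc_3_2 lc_a_rc_2_2 lc_a_rc_3_2 lc_a_rc_2_2 lc_a_rc_22_0 lc_a_rc_2_0 lc_a_rc_21_0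 lc_a_rc_2_2 lc_a_rc_4_2 lc_a_rc_3_2 lc_a_rc_5_2 lc_a_rc_2_2 lc_a_rc_3_2 lc_a_rc_5_0 lc_a_rc_2_2 lc_a_rc_5_0 lc_a_rc_3_2 lc_a_rc_0_1 lc_a_rc_0_1 lc_a_rc_21_0 lc_a_rc_4_2 lc_a_rc_4_2 lc_a_rc_3_2 lc_a_rc_3_2 lc_a_rc_3_0 lc_a_rc_4_2 lc_a_rc_4_2 lc_a_rc_4_2 lc_a_rc_0_1 lc_a_rc_21_0 lc_a_rc_3_2 lc_a_rc_2_2 lc_a_rc_3_2 lc_a_rc_2_2 lc_a_rc_3_2 lc_a_rc_3_2 lc_a_rc_3_2 lc_a_rc_4_2 lc_a_rc_0_1 lc_a_rc_5_2 lc_a_rc_4_0 lc_a_rc_4_0 lc_a_rc_0_1 lc_a_rc_5_2 lc_a_rc_5_0 lc_a_rc_1_2 lc_a_rc_5_0 lc_a_rc_2_2 lc_a_rc_5_2 lc_a_rc_2_2 lc_a_rc_21_0 lc_a_rc_22_0 lc_a_rc_4_2 lc_a_rc_3_0 lc_a_rc_22_0 lc_a_rc_5_0 lc_a_rc_3_0 lc_a_rc_3_2) (@D3.rec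 (fun _ => (Cert rels S Gen.a)) lc_a_rc_3_2 lc_a_rc_3_2 lc_a_rc_21_0 lc_a_rc_3_2 lc_a_rc_2_2 lc_a_rc_5_0 lc_a_rc_2_2 lc_a_rc_5_0 lc_a_rc_4_2 lc_a_rc_2_2 lc_a_rc_0_1 lc_a_rc_3_2 lc_a_rc_5_2 lc_a_rc_4_0 lc_a_rc_0_1 lc_a_rc_5_2 lc_a_rc_0_1 lc_a_rc_2_2 lc_a_rc_21_0 lc_a_rc_2_2 lc_a_rc_5_2 lc_a_rc_3_0 lc_a_rc_3_2 lc_a_rc_2_0 lc_a_rc_3_2 lc_a_rc_4_2 lc_a_rc_1_4 lc_a_rc_3_2 lc_a_rc_1_2 lc_a_rc_3_2 lc_a_rc_3_2 lc_a_rc_1_2 lc_a_rc_4_2 lc_a_rc_5_2 lc_a_rc_4_2 lc_a_rc_3_0 lc_a_rc_3_0 lc_a_rc_0_1 lc_a_rc_1_4 lc_a_rc_0_1 lc_a_rc_4_0 lc_a_rc_4_2 lc_a_rc_3_0 lc_a_rc_0_1 lc_a_rc_21_0 lc_a_rc_21_0 lc_a_rc_3_2 lc_a_Cert_tree lc_a_rc_1_0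 lc_a_rc_0_1 lc_a_rc_3_2 lc_a_rc_3_0 lc_a_rc_4_0 lc_a_rc_2_2 lc_a_rc_4_0 lc_a_rc_0_1 lc_a_rc_3_2 lc_a_rc_2_2 lc_a_rc_0_1 lc_a_rc_2_2 lc_a_rc_3_2 lc_a_rc_2_0) (@D3.rec (fun _ => (Cert rels S Gen.a)) lc_a_rc_1_2 lc_a_rc_2_2 lc_a_rc_4_2 lc_a_rc_3_2 lc_a_Cert_tree lc_a_rc_2_2 lc_a_rc_4_2 lc_a_Cert_tree lc_a_rc_5_0 lc_a_rc_4_2 lc_a_rc_0_1 lc_a_rc_22_0 lc_a_rc_4_0 lc_a_rc_3_2 lc_a_rc_5_2 lc_a_rc_3_0 lc_a_rc_5_2 lc_a_rc_4_0 lc_a_rc_1_4 lc_a_rc_2_2 lc_a_rc_4_2 lc_a_rc_3_2 lc_a_rc_2_2 lc_a_rc_5_2 lc_a_rc_4_2 lc_a_rc_2_0 lc_a_rc_2_0 lc_a_rc_22_0 lc_a_rc_5_2 lc_a_rc_1_2 lc_a_rc_2_2 lc_a_rc_4_2 lc_a_rc_4_0 lc_a_rc_0_1 lc_a_rc_4_2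 lc_a_rc_21_0 lc_a_rc_3_2 lc_a_rc_22_0 lc_a_rc_2_2 lc_a_rc_2_2 lc_a_rc_4_2 lc_a_rc_1_4 lc_a_rc_2_2 lc_a_rc_3_2 lc_a_rc_4_2 lc_a_rc_5_0 lc_a_rc_3_2 lc_a_rc_4_2 lc_a_rc_4_0 lc_a_rc_3_2 lc_a_rc_3_2 lc_a_rc_5_0 lc_a_rc_5_2 lc_a_rc_0_1 lc_a_rc_1_4 lc_a_rc_5_2 lc_a_rc_1_4 lc_a_rc_21_0 lc_a_rc_21_0 lc_a_rc_3_0 lc_a_rc_3_2 lc_a_rc_3_0) (@D3.rec (fun _ => (Cert rels S Gen.a)) lc_a_rc_21_0 lc_a_rc_2_2 lc_a_rc_3_2 lc_a_rc_5_0 lc_a_rc_0_1 lc_a_rc_21_0 lc_a_rc_0_1 lc_a_rc_0_1 lc_a_rc_4_0 lc_a_rc_3_2 lc_a_rc_2_2 lc_a_rc_4_2 lc_a_Cert_tree lc_a_rc_2_2 lc_a_rc_2_2 lc_a_rc_4_2 lc_a_rc_0_1 lc_a_rc_2_2 lc_a_rc_5_2 lc_a_rc_0_1 lc_a_rc_2_2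 lc_a_rc_4_2 lc_a_rc_21_0 lc_a_rc_5_0 lc_a_rc_2_2 lc_a_rc_4_0 lc_a_rc_21_0 lc_a_rc_3_2 lc_a_Cert_tree lc_a_rc_3_2 lc_a_rc_3_0 lc_a_rc_0_1 lc_a_rc_2_2 lc_a_rc_21_0 lc_a_rc_2_2 lc_a_rc_22_0 lc_a_rc_1_2 lc_a_rc_2_2 lc_a_rc_21_0 lc_a_rc_0_1 lc_a_rc_0_1 lc_a_rc_0_1 lc_a_rc_0_1 lc_a_rc_4_2 lc_a_rc_21_0 lc_a_rc_1_2 lc_a_rc_4_2 lc_a_rc_3_2 lc_a_rc_2_2 lc_a_rc_3_2 lc_a_rc_2_0 lc_a_rc_3_2 lc_a_rc_3_2 lc_a_rc_3_2 lc_a_rc_5_2 lc_a_rc_3_2 lc_a_rc_3_0 lc_a_rc_2_2 lc_a_rc_5_2 lc_a_rc_21_0 lc_a_rc_3_2 lc_a_rc_4_0) (@D3.rec (fun _ => (Cert rels S Gen.a)) lc_a_rc_3_2 lc_a_rc_3_2 lc_a_rc_2_2 lc_a_rc_4_2 lc_a_rc_21_0 lc_a_rc_5_0 lc_a_rc_21_0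 lc_a_rc_4_2 lc_a_rc_0_1 lc_a_rc_4_0 lc_a_rc_4_0 lc_a_rc_3_2 lc_a_rc_3_2 lc_a_rc_2_2 lc_a_rc_3_2 lc_a_rc_1_4 lc_a_rc_3_2 lc_a_rc_2_2 lc_a_rc_0_1 lc_a_rc_2_0 lc_a_rc_2_2 lc_a_rc_2_2 lc_a_rc_2_2 lc_a_rc_4_2 lc_a_rc_0_1 lc_a_rc_0_1 lc_a_rc_4_2 lc_a_rc_3_2 lc_a_rc_3_2 lc_a_rc_4_2 lc_a_rc_5_2 lc_a_rc_4_2 lc_a_rc_5_2 lc_a_rc_0_1 lc_a_rc_2_2 lc_a_rc_0_1 lc_a_rc_5_0 lc_a_rc_1_0 lc_a_rc_0_1 lc_a_rc_5_0 lc_a_rc_2_0 lc_a_rc_21_0 lc_a_rc_21_0 lc_a_rc_1_0 lc_a_rc_4_2 lc_a_rc_21_0 lc_a_rc_4_2 lc_a_rc_2_2 lc_a_rc_2_2 lc_a_rc_3_2 lc_a_rc_0_1 lc_a_rc_3_2 lc_a_rc_4_0 lc_a_rc_22_0 lc_a_rc_0_1 lc_a_rc_3_0 lc_a_rc_5_2 lc_a_rc_3_2 lc_a_rc_3_2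 lc_a_rc_0_1 lc_a_rc_21_0 lc_a_rc_1_4) (@D3.rec (fun _ => (Cert rels S Gen.a)) lc_a_rc_2_2 lc_a_rc_5_2 lc_a_rc_5_0 lc_a_Cert_tree lc_a_rc_22_0 lc_a_rc_21_0 lc_a_rc_3_2 lc_a_rc_2_2 lc_a_rc_3_0 lc_a_rc_0_1 lc_a_rc_2_2 lc_a_rc_3_2 lc_a_rc_0_1 lc_a_rc_4_0 lc_a_rc_4_0 lc_a_rc_5_2 lc_a_Cert_tree lc_a_rc_2_2 lc_a_rc_5_2 lc_a_rc_3_2 lc_a_rc_2_2 lc_a_rc_4_2 lc_a_rc_2_2 lc_a_rc_4_2 lc_a_rc_5_0 lc_a_rc_4_2 lc_a_rc_4_2 lc_a_rc_2_0 lc_a_rc_0_1 lc_a_rc_1_0 lc_a_rc_3_2 lc_a_rc_2_2 lc_a_rc_4_2 lc_a_rc_4_2 lc_a_rc_4_0 lc_a_rc_5_2 lc_a_rc_4_0 lc_a_rc_0_1 lc_a_rc_3_2 lc_a_rc_21_0 lc_a_rc_3_0 lc_a_rc_3_2 lc_a_rc_3_2 lc_a_rc_0_1 lc_a_rc_2_2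 lc_a_rc_1_4 lc_a_rc_0_1 lc_a_Cert_tree lc_a_rc_2_2 lc_a_rc_4_2 lc_a_Cert_tree lc_a_rc_22_0 lc_a_rc_2_2 lc_a_rc_2_2 lc_a_rc_3_2 lc_a_rc_1_2 lc_a_rc_0_1 lc_a_rc_4_2 lc_a_rc_3_2 lc_a_rc_2_0 lc_a_rc_2_0 lc_a_rc_3_2) (@D3.rec (fun _ => (Cert rels S Gen.a)) lc_a_rc_4_2 lc_a_rc_0_1 lc_a_rc_21_0 lc_a_rc_22_0 lc_a_rc_1_4 lc_a_rc_5_0 lc_a_rc_2_2 lc_a_rc_4_2 lc_a_rc_3_2 lc_a_rc_22_0 lc_a_rc_2_2 lc_a_rc_4_2 lc_a_rc_3_2 lc_a_rc_5_0 lc_a_rc_3_2 lc_a_rc_3_2 lc_a_rc_2_2 lc_a_rc_21_0 lc_a_rc_21_0 lc_a_rc_2_0 lc_a_rc_0_1 lc_a_rc_4_2 lc_a_rc_2_2 lc_a_rc_1_0 lc_a_rc_1_2 lc_a_rc_21_0 lc_a_rc_4_2 lc_a_rc_3_0 lc_a_rc_1_4 lc_a_rc_0_1 lc_a_rc_1_2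 lc_a_rc_21_0 lc_a_rc_21_0 lc_a_rc_3_2 lc_a_rc_4_2 lc_a_rc_22_0 lc_a_rc_21_0 lc_a_rc_4_2 lc_a_rc_3_2 lc_a_rc_4_2 lc_a_rc_0_1 lc_a_rc_3_2 lc_a_rc_1_2 lc_a_rc_4_2 lc_a_rc_1_0 lc_a_rc_0_1 lc_a_rc_3_2 lc_a_rc_1_0 lc_a_rc_0_1 lc_a_rc_0_1 lc_a_rc_1_2 lc_a_rc_3_0 lc_a_rc_0_1 lc_a_rc_22_0 lc_a_rc_5_2 lc_a_rc_4_2 lc_a_rc_2_2 lc_a_rc_3_0 lc_a_rc_1_4 lc_a_rc_2_0 lc_a_rc_4_2 lc_a_rc_4_2) (@D3.rec (fun _ => (Cert rels S Gen.a)) lc_a_rc_2_2 lc_a_rc_21_0 lc_a_rc_3_2 lc_a_rc_3_2 lc_a_rc_4_0 lc_a_rc_4_0 lc_a_rc_3_2 lc_a_rc_3_2 lc_a_rc_21_0 lc_a_rc_5_2 lc_a_rc_5_0 lc_a_rc_3_2 lc_a_rc_2_2 lc_a_rc_3_2 lc_a_rc_3_2 lc_a_rc_5_0 lc_a_rc_4_2 lc_a_rc_4_2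 lc_a_rc_3_2 lc_a_rc_4_2 lc_a_rc_2_0 lc_a_rc_3_0 lc_a_rc_3_2 lc_a_rc_4_2 lc_a_rc_0_1 lc_a_rc_21_0 lc_a_rc_2_2 lc_a_rc_2_0 lc_a_Cert_tree lc_a_rc_3_2 lc_a_rc_3_0 lc_a_rc_2_2 lc_a_rc_4_2 lc_a_rc_21_0 lc_a_rc_5_2 lc_a_rc_2_2 lc_a_rc_4_0 lc_a_rc_4_2 lc_a_rc_3_0 lc_a_rc_3_0 lc_a_rc_22_0 lc_a_rc_3_2 lc_a_rc_3_2 lc_a_rc_5_0 lc_a_rc_0_1 lc_a_rc_5_2 lc_a_rc_5_0 lc_a_rc_4_2 lc_a_rc_2_2 lc_a_rc_0_1 lc_a_rc_21_0 lc_a_rc_3_0 lc_a_rc_3_0 lc_a_rc_3_2 lc_a_rc_5_2 lc_a_rc_3_2 lc_a_rc_21_0 lc_a_rc_1_2 lc_a_rc_4_2 lc_a_rc_2_0 lc_a_rc_2_0 lc_a_rc_1_4) (@D3.rec (fun _ => (Cert rels S Gen.a)) lc_a_rc_1_4 lc_a_rc_2_2 lc_a_rc_22_0 lc_a_rc_21_0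 lc_a_rc_3_2 lc_a_rc_1_4 lc_a_rc_2_2 lc_a_rc_21_0 lc_a_rc_2_2 lc_a_rc_21_0 lc_a_rc_3_2 lc_a_rc_5_2 lc_a_rc_0_1 lc_a_rc_3_2 lc_a_rc_21_0 lc_a_rc_1_4 lc_a_rc_4_2 lc_a_rc_21_0 lc_a_rc_4_2 lc_a_rc_21_0 lc_a_rc_3_2 lc_a_rc_2_2 lc_a_rc_3_2 lc_a_rc_4_2 lc_a_rc_5_0 lc_a_rc_4_2 lc_a_rc_1_2 lc_a_rc_4_2 lc_a_rc_5_0 lc_a_rc_3_2 lc_a_rc_21_0 lc_a_rc_22_0 lc_a_rc_3_2 lc_a_rc_1_2 lc_a_rc_4_2 lc_a_rc_5_2 lc_a_rc_2_2 lc_a_rc_2_2 lc_a_rc_1_2 lc_a_rc_3_0 lc_a_rc_1_0 lc_a_rc_4_2 lc_a_rc_2_0 lc_a_rc_2_0 lc_a_rc_2_2 lc_a_rc_3_2 lc_a_rc_3_0 lc_a_rc_2_2 lc_a_rc_2_2 lc_a_rc_4_2 lc_a_rc_1_0 lc_a_rc_4_0 lc_a_rc_0_1 lc_a_rc_4_0 lc_a_rc_0_1 lc_a_rc_21_0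 lc_a_rc_3_2 lc_a_rc_3_2 lc_a_rc_0_1 lc_a_Cert_tree lc_a_rc_3_2 lc_a_rc_0_1) (@D3.rec (fun _ => (Cert rels S Gen.a)) lc_a_rc_3_0 lc_a_rc_4_2 lc_a_rc_4_2 lc_a_rc_3_2 lc_a_rc_3_2 lc_a_rc_3_2 lc_a_rc_3_0 lc_a_rc_1_2 lc_a_rc_0_1 lc_a_rc_3_2 lc_a_rc_4_2 lc_a_rc_3_2 lc_a_rc_3_2 lc_a_rc_4_2 lc_a_rc_2_2 lc_a_rc_21_0 lc_a_rc_4_2 lc_a_rc_4_2 lc_a_rc_21_0 lc_a_rc_4_2 lc_a_rc_0_1 lc_a_rc_4_0 lc_a_rc_3_2 lc_a_rc_4_2 lc_a_rc_5_0 lc_a_rc_5_2 lc_a_rc_22_0 lc_a_rc_4_0 lc_a_rc_2_2 lc_a_rc_4_2 lc_a_rc_0_1 lc_a_rc_2_2 lc_a_rc_4_0 lc_a_rc_2_2 lc_a_rc_3_2 lc_a_rc_2_2 lc_a_rc_2_2 lc_a_rc_4_2 lc_a_rc_2_2 lc_a_rc_4_2 lc_a_rc_3_2 lc_a_rc_0_1 lc_a_rc_5_2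 lc_a_rc_0_1 lc_a_rc_0_1 lc_a_rc_4_2 lc_a_rc_1_2 lc_a_rc_2_0 lc_a_rc_4_2 lc_a_rc_4_2 lc_a_rc_3_2 lc_a_rc_3_2 lc_a_rc_0_1 lc_a_rc_4_2 lc_a_rc_0_1 lc_a_rc_3_2 lc_a_rc_0_1 lc_a_rc_3_2 lc_a_rc_21_0 lc_a_rc_0_1 lc_a_rc_0_1 lc_a_rc_4_0) (@D3.rec (fun _ => (Cert rels S Gen.a)) lc_a_rc_5_2 lc_a_rc_21_0 lc_a_rc_3_2 lc_a_rc_1_4 lc_a_rc_2_2 lc_a_rc_4_2 lc_a_rc_3_0 lc_a_rc_3_0 lc_a_rc_4_2 lc_a_rc_3_0 lc_a_rc_21_0 lc_a_rc_0_1 lc_a_rc_4_2 lc_a_rc_2_2 lc_a_rc_3_2 lc_a_rc_2_0 lc_a_rc_2_0 lc_a_rc_3_2 lc_a_rc_0_1 lc_a_rc_0_1 lc_a_rc_4_2 lc_a_rc_3_2 lc_a_rc_0_1 lc_a_rc_0_1 lc_a_rc_4_2 lc_a_rc_4_2 lc_a_rc_1_2 lc_a_rc_3_2 lc_a_rc_3_2 lc_a_rc_4_2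 lc_a_rc_0_1 lc_a_rc_1_2 lc_a_rc_3_0 lc_a_rc_5_0 lc_a_rc_1_2 lc_a_rc_1_2 lc_a_rc_4_0 lc_a_rc_0_1 lc_a_rc_21_0 lc_a_rc_21_0 lc_a_rc_21_0 lc_a_rc_21_0 lc_a_rc_4_2 lc_a_rc_4_2 lc_a_rc_0_1 lc_a_rc_21_0 lc_a_rc_5_2 lc_a_rc_4_2 lc_a_rc_1_4 lc_a_rc_0_1 lc_a_rc_3_2 lc_a_rc_0_1 lc_a_rc_21_0 lc_a_rc_4_2 lc_a_rc_22_0 lc_a_rc_0_1 lc_a_rc_5_2 lc_a_rc_4_2 lc_a_rc_0_1 lc_a_rc_3_2 lc_a_rc_2_0 lc_a_rc_2_2) (@D3.rec (fun _ => (Cert rels S Gen.a)) lc_a_rc_3_2 lc_a_rc_1_0 lc_a_rc_0_1 lc_a_rc_21_0 lc_a_rc_3_2 lc_a_rc_2_2 lc_a_rc_4_2 lc_a_rc_5_0 lc_a_rc_2_2 lc_a_rc_4_0 lc_a_rc_2_2 lc_a_rc_3_2 lc_a_rc_3_2 lc_a_rc_3_2 lc_a_rc_3_2 lc_a_rc_21_0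 lc_a_rc_0_1 lc_a_rc_0_1 lc_a_rc_5_2 lc_a_rc_3_0 lc_a_rc_0_1 lc_a_rc_0_1 lc_a_rc_3_2 lc_a_rc_4_2 lc_a_rc_4_2 lc_a_rc_0_1 lc_a_rc_3_2 lc_a_rc_3_2 lc_a_rc_2_2 lc_a_rc_3_2 lc_a_rc_4_2 lc_a_rc_3_2 lc_a_rc_5_0 lc_a_rc_3_2 lc_a_rc_1_2 lc_a_rc_4_0 lc_a_rc_3_2 lc_a_rc_3_2 lc_a_rc_5_2 lc_a_rc_3_0 lc_a_rc_22_0 lc_a_rc_5_2 lc_a_rc_3_2 lc_a_rc_21_0 lc_a_rc_3_2 lc_a_rc_4_2 lc_a_rc_0_1 lc_a_rc_4_0 lc_a_rc_4_2 lc_a_rc_21_0 lc_a_rc_3_2 lc_a_Cert_tree lc_a_rc_4_0 lc_a_rc_2_2 lc_a_rc_21_0 lc_a_rc_3_2 lc_a_rc_4_2 lc_a_rc_4_2 lc_a_rc_3_0 lc_a_rc_4_2 lc_a_rc_0_1 lc_a_rc_4_2) (@D3.rec (fun _ => (Cert rels S Gen.a)) lc_a_rc_3_2 lc_a_rc_0_1 lc_a_rc_0_1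 lc_a_rc_5_2 lc_a_rc_4_0 lc_a_rc_0_1 lc_a_rc_21_0 lc_a_rc_2_0 lc_a_rc_2_0 lc_a_rc_4_2 lc_a_rc_0_1 lc_a_rc_1_2 lc_a_rc_4_2 lc_a_rc_3_2 lc_a_rc_3_2 lc_a_rc_5_2 lc_a_rc_3_2 lc_a_rc_0_1 lc_a_rc_5_2 lc_a_rc_4_2 lc_a_rc_3_2 lc_a_rc_3_2 lc_a_rc_5_2 lc_a_rc_0_1 lc_a_rc_4_2 lc_a_rc_4_2 lc_a_rc_4_2 lc_a_rc_1_2 lc_a_rc_4_2 lc_a_rc_3_2 lc_a_rc_21_0 lc_a_rc_22_0 lc_a_rc_5_2 lc_a_rc_4_2 lc_a_rc_21_0 lc_a_rc_0_1 lc_a_rc_5_0 lc_a_rc_4_2 lc_a_rc_2_2 lc_a_rc_3_2 lc_a_rc_4_2 lc_a_rc_2_2 lc_a_rc_4_2 lc_a_rc_3_2 lc_a_rc_5_2 lc_a_rc_4_2 lc_a_rc_2_0 lc_a_rc_3_2 lc_a_rc_0_1 lc_a_rc_2_2 lc_a_rc_4_2 lc_a_rc_21_0 lc_a_rc_21_0 lc_a_rc_4_2 lc_a_rc_4_0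 lc_a_rc_2_2 lc_a_rc_0_1 lc_a_rc_1_2 lc_a_rc_1_4 lc_a_rc_22_0 lc_a_rc_0_1 lc_a_rc_4_0) (@D3.rec (fun _ => (Cert rels S Gen.a)) lc_a_rc_2_0 lc_a_rc_21_0 lc_a_rc_2_2 lc_a_rc_4_2 lc_a_rc_5_0 lc_a_rc_4_2 lc_a_rc_4_2 lc_a_rc_3_2 lc_a_rc_0_1 lc_a_rc_3_2 lc_a_rc_4_2 lc_a_rc_3_2 lc_a_rc_3_2 lc_a_rc_4_2 lc_a_rc_4_0 lc_a_rc_1_2 lc_a_rc_3_2 lc_a_rc_5_2 lc_a_rc_3_2 lc_a_rc_3_2 lc_a_rc_3_0 lc_a_rc_3_2 lc_a_rc_0_1 lc_a_rc_3_2 lc_a_rc_3_2 lc_a_rc_4_2 lc_a_rc_2_0 lc_a_rc_1_2 lc_a_rc_3_2 lc_a_rc_1_0 lc_a_rc_0_1 lc_a_rc_3_2 lc_a_rc_3_0 lc_a_rc_2_2 lc_a_rc_21_0 lc_a_rc_3_2 lc_a_rc_4_2 lc_a_rc_1_2 lc_a_rc_0_1 lc_a_rc_2_0 lc_a_rc_3_2 lc_a_rc_5_2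 lc_a_rc_3_2 lc_a_rc_1_4 lc_a_rc_4_2 lc_a_rc_1_2 lc_a_rc_0_1 lc_a_rc_1_0 lc_a_rc_5_2 lc_a_rc_4_2 lc_a_rc_3_2 lc_a_rc_3_0 lc_a_rc_2_2 lc_a_rc_1_0 lc_a_rc_21_0 lc_a_rc_2_2 lc_a_rc_5_2 lc_a_rc_4_2 lc_a_rc_3_2 lc_a_rc_3_2 lc_a_rc_2_0 lc_a_rc_3_2) (@D3.rec (fun _ => (Cert rels S Gen.a)) lc_a_rc_21_0 lc_a_rc_2_0 lc_a_rc_3_0 lc_a_rc_2_2 lc_a_rc_4_2 lc_a_rc_3_2 lc_a_rc_2_2 lc_a_rc_4_2 lc_a_rc_2_2 lc_a_rc_2_0 lc_a_rc_3_0 lc_a_rc_0_1 lc_a_rc_2_0 lc_a_rc_0_1 lc_a_rc_2_2 lc_a_rc_0_1 lc_a_rc_2_2 lc_a_rc_4_2 lc_a_rc_0_1 lc_a_rc_0_1 lc_a_rc_2_2 lc_a_rc_4_2 lc_a_rc_5_0 lc_a_rc_3_2 lc_a_rc_22_0 lc_a_rc_4_2 lc_a_rc_3_0 lc_a_rc_22_0 lc_a_rc_0_1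 lc_a_rc_4_2 lc_a_rc_2_2 lc_a_rc_4_2 lc_a_rc_5_0 lc_a_rc_4_2 lc_a_rc_2_2 lc_a_rc_3_2 lc_a_rc_21_0 lc_a_rc_21_0 lc_a_rc_4_2 lc_a_rc_2_2 lc_a_rc_21_0 lc_a_rc_3_2 lc_a_rc_0_1 lc_a_rc_4_0 lc_a_rc_5_2 lc_a_rc_5_2 lc_a_rc_22_0 lc_a_rc_4_2 lc_a_rc_2_2 lc_a_rc_4_2 lc_a_rc_3_0 lc_a_rc_3_2 lc_a_rc_5_2 lc_a_rc_3_2 lc_a_rc_4_2 lc_a_rc_3_2 lc_a_rc_4_2 lc_a_rc_4_2 lc_a_rc_2_0 lc_a_rc_5_2 lc_a_rc_3_2 lc_a_rc_0_1) (@D3.rec (fun _ => (Cert rels S Gen.a)) lc_a_rc_3_2 lc_a_rc_0_1 lc_a_rc_21_0 lc_a_rc_0_1 lc_a_rc_4_2 lc_a_rc_1_4 lc_a_rc_3_0 lc_a_rc_2_2 lc_a_rc_0_1 lc_a_rc_5_2 lc_a_rc_2_2 lc_a_rc_4_0 lc_a_rc_2_0 lc_a_rc_0_1 lc_a_rc_3_2 lc_a_rc_2_2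 lc_a_rc_2_0 lc_a_rc_0_1 lc_a_rc_3_2 lc_a_rc_1_2 lc_a_rc_3_2 lc_a_rc_4_2 lc_a_rc_3_2 lc_a_rc_21_0 lc_a_rc_2_2 lc_a_rc_3_2 lc_a_rc_3_2 lc_a_rc_5_0 lc_a_rc_4_2 lc_a_rc_21_0 lc_a_rc_21_0 lc_a_rc_3_2 lc_a_rc_2_0 lc_a_rc_1_0 lc_a_rc_2_0 lc_a_rc_2_2 lc_a_rc_3_2 lc_a_rc_4_2 lc_a_rc_1_0 lc_a_rc_4_0 lc_a_rc_2_2 lc_a_rc_1_2 lc_a_rc_4_2 lc_a_rc_4_2 lc_a_rc_4_2 lc_a_rc_4_2 lc_a_rc_0_1 lc_a_rc_4_0 lc_a_rc_5_0 lc_a_rc_4_0 lc_a_rc_4_2 lc_a_rc_5_2 lc_a_rc_2_2 lc_a_rc_4_0 lc_a_rc_3_2 lc_a_rc_22_0 lc_a_rc_21_0 lc_a_rc_5_2 lc_a_rc_5_2 lc_a_rc_4_2 lc_a_rc_4_2 lc_a_rc_5_2) (@D3.rec (fun _ => (Cert rels S Gen.a)) lc_a_rc_0_1 lc_a_rc_4_2 lc_a_rc_0_1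 lc_a_rc_4_2 lc_a_rc_2_2 lc_a_rc_2_2 lc_a_rc_4_2 lc_a_rc_0_1 lc_a_rc_0_1 lc_a_rc_5_2 lc_a_rc_3_2 lc_a_rc_4_2 lc_a_rc_21_0 lc_a_rc_1_2 lc_a_rc_4_2 lc_a_rc_3_2 lc_a_rc_0_1 lc_a_rc_3_0 lc_a_rc_4_2 lc_a_rc_2_2 lc_a_rc_2_2 lc_a_rc_21_0 lc_a_rc_2_2 lc_a_rc_3_2 lc_a_rc_3_2 lc_a_rc_5_0 lc_a_rc_1_4 lc_a_rc_22_0 lc_a_rc_3_2 lc_a_rc_4_2 lc_a_rc_21_0 lc_a_rc_2_2 lc_a_rc_0_1 lc_a_rc_1_4 lc_a_rc_2_2 lc_a_rc_3_2 lc_a_rc_0_1 lc_a_rc_4_2 lc_a_rc_3_2 lc_a_rc_2_2 lc_a_rc_2_2 lc_a_rc_3_2 lc_a_rc_21_0 lc_a_rc_4_2 lc_a_rc_4_0 lc_a_rc_4_2 lc_a_rc_3_2 lc_a_rc_1_2 lc_a_rc_5_0 lc_a_rc_3_2 lc_a_rc_2_2 lc_a_rc_2_2 lc_a_rc_1_4 lc_a_rc_2_2 lc_a_rc_2_2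 lc_a_rc_0_1 lc_a_rc_4_2 lc_a_rc_22_0 lc_a_rc_21_0 lc_a_rc_4_2 lc_a_rc_0_1 lc_a_rc_0_1) (@D3.rec (fun _ => (Cert rels S Gen.a)) lc_a_rc_21_0 lc_a_rc_2_2 lc_a_rc_3_2 lc_a_rc_1_4 lc_a_rc_3_2 lc_a_rc_4_2 lc_a_rc_3_2 lc_a_rc_4_2 lc_a_rc_2_0 lc_a_rc_21_0 lc_a_rc_21_0 lc_a_rc_4_2 lc_a_rc_2_0 lc_a_rc_21_0 lc_a_rc_3_2 lc_a_rc_2_2 lc_a_rc_4_2 lc_a_rc_3_0 lc_a_rc_21_0 lc_a_rc_3_2 lc_a_rc_4_2 lc_a_rc_1_2 lc_a_rc_2_2 lc_a_rc_22_0 lc_a_rc_1_2 lc_a_rc_0_1 lc_a_rc_22_0 lc_a_rc_3_2 lc_a_rc_21_0 lc_a_rc_4_2 lc_a_rc_0_1 lc_a_rc_5_2 lc_a_rc_0_1 lc_a_rc_2_2 lc_a_rc_4_2 lc_a_rc_0_1 lc_a_rc_2_2 lc_a_rc_0_1 lc_a_rc_2_2 lc_a_rc_2_0 lc_a_Cert_tree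 lc_a_rc_2_2 lc_a_rc_0_1 lc_a_rc_2_2 lc_a_rc_2_2 lc_a_rc_3_2 lc_a_rc_2_0 lc_a_rc_22_0 lc_a_rc_4_2 lc_a_rc_2_2 lc_a_rc_22_0 lc_a_rc_4_2 lc_a_Cert_tree lc_a_rc_0_1 lc_a_rc_21_0 lc_a_rc_1_4 lc_a_rc_21_0 lc_a_rc_3_2 lc_a_rc_2_2 lc_a_rc_5_2 lc_a_rc_2_2 lc_a_rc_4_0) (@D3.rec (fun _ => (Cert rels S Gen.a)) lc_a_rc_2_2 lc_a_rc_3_2 lc_a_rc_2_2 lc_a_rc_3_2 lc_a_rc_21_0 lc_a_rc_0_1 lc_a_rc_5_2 lc_a_rc_3_2 lc_a_rc_2_2 lc_a_rc_2_2 lc_a_rc_2_2 lc_a_rc_3_2 lc_a_rc_3_2 lc_a_rc_3_2 lc_a_rc_3_2 lc_a_rc_4_2 lc_a_rc_21_0 lc_a_rc_2_0 lc_a_rc_2_0 lc_a_rc_0_1 lc_a_rc_21_0 lc_a_rc_5_0 lc_a_rc_4_2 lc_a_rc_5_2 lc_a_rc_3_2 lc_a_rc_0_1 lc_a_rc_3_2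 lc_a_rc_4_2 lc_a_rc_21_0 lc_a_rc_3_2 lc_a_rc_4_2 lc_a_rc_3_2 lc_a_rc_0_1 lc_a_rc_4_2 lc_a_rc_3_2 lc_a_rc_2_2 lc_a_rc_3_2 lc_a_rc_2_2 lc_a_rc_4_2 lc_a_rc_2_2 lc_a_rc_4_2 lc_a_rc_4_2 lc_a_rc_5_2 lc_a_rc_2_2 lc_a_rc_4_2 lc_a_rc_4_2 lc_a_rc_4_2 lc_a_rc_21_0 lc_a_rc_4_0 lc_a_rc_3_2 lc_a_rc_5_2 lc_a_rc_4_2 lc_a_rc_1_4 lc_a_rc_2_2 lc_a_rc_0_1 lc_a_rc_0_1 lc_a_rc_2_2 lc_a_rc_5_0 lc_a_rc_2_2 lc_a_rc_3_2 lc_a_rc_3_2 lc_a_rc_5_0) (@D3.rec (fun _ => (Cert rels S Gen.a)) lc_a_rc_2_2 lc_a_rc_0_1 lc_a_rc_3_0 lc_a_rc_3_2 lc_a_rc_0_1 lc_a_rc_1_4 lc_a_rc_21_0 lc_a_rc_5_2 lc_a_rc_21_0 lc_a_rc_4_2 lc_a_rc_5_2 lc_a_rc_2_2 lc_a_rc_21_0 lc_a_rc_21_0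 lc_a_rc_21_0 lc_a_rc_3_2 lc_a_rc_4_2 lc_a_rc_2_2 lc_a_rc_21_0 lc_a_rc_1_0 lc_a_rc_4_2 lc_a_rc_22_0 lc_a_rc_4_2 lc_a_rc_2_2 lc_a_rc_4_2 lc_a_rc_3_0 lc_a_rc_22_0 lc_a_rc_4_2 lc_a_rc_2_2 lc_a_rc_4_2 lc_a_rc_3_2 lc_a_rc_4_2 lc_a_rc_2_0 lc_a_rc_2_0 lc_a_rc_2_2 lc_a_rc_3_2 lc_a_rc_3_2 lc_a_rc_5_2 lc_a_rc_4_2 lc_a_rc_2_2 lc_a_rc_4_2 lc_a_rc_0_1 lc_a_rc_21_0 lc_a_rc_1_2 lc_a_rc_3_2 lc_a_rc_21_0 lc_a_rc_2_2 lc_a_rc_1_4 lc_a_rc_4_2 lc_a_rc_0_1 lc_a_rc_0_1 lc_a_rc_1_2 lc_a_rc_1_4 lc_a_rc_3_2 lc_a_rc_4_2 lc_a_rc_2_0 lc_a_rc_1_0 lc_a_rc_21_0 lc_a_rc_2_2 lc_a_rc_1_2 lc_a_rc_1_0 lc_a_rc_3_2) (@D3.rec (fun _ => (Cert rels S Gen.a)) lc_a_rc_5_2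 lc_a_rc_21_0 lc_a_rc_4_2 lc_a_rc_0_1 lc_a_rc_5_2 lc_a_rc_1_0 lc_a_rc_3_2 lc_a_rc_4_0 lc_a_rc_1_0 lc_a_rc_0_1 lc_a_rc_22_0 lc_a_rc_21_0 lc_a_rc_4_2 lc_a_rc_0_1 lc_a_rc_5_2 lc_a_rc_4_2 lc_a_rc_2_0 lc_a_rc_4_2 lc_a_rc_3_2 lc_a_rc_5_2 lc_a_rc_3_2 lc_a_rc_0_1 lc_a_rc_2_2 lc_a_rc_3_0 lc_a_rc_0_1 lc_a_rc_2_2 lc_a_rc_2_2 lc_a_rc_0_1 lc_a_rc_4_2 lc_a_rc_3_0 lc_a_rc_4_0 lc_a_rc_4_2 lc_a_rc_5_2 lc_a_rc_4_2 lc_a_rc_2_2 lc_a_rc_4_2 lc_a_rc_3_2 lc_a_rc_4_2 lc_a_rc_22_0 lc_a_rc_4_2 lc_a_rc_2_0 lc_a_rc_0_1 lc_a_rc_2_2 lc_a_rc_1_4 lc_a_rc_5_0 lc_a_rc_2_0 lc_a_rc_2_0 lc_a_rc_21_0 lc_a_rc_21_0 lc_a_rc_2_2 lc_a_rc_1_4 lc_a_rc_0_1 lc_a_rc_5_0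 lc_a_rc_3_2 lc_a_rc_0_1 lc_a_rc_21_0 lc_a_rc_3_2 lc_a_rc_2_2 lc_a_rc_4_2 lc_a_rc_4_0 lc_a_Cert_tree lc_a_rc_4_2) (@D3.rec (fun _ => (Cert rels S Gen.a)) lc_a_rc_4_2 lc_a_rc_0_1 lc_a_rc_0_1 lc_a_rc_3_2 lc_a_rc_3_0 lc_a_rc_3_2 lc_a_rc_4_2 lc_a_rc_0_1 lc_a_rc_2_0 lc_a_rc_1_4 lc_a_rc_4_2 lc_a_rc_0_1 lc_a_rc_1_2 lc_a_rc_3_2 lc_a_rc_3_2 lc_a_rc_4_2 lc_a_rc_3_2 lc_a_rc_2_2 lc_a_rc_4_2 lc_a_rc_5_2 lc_a_rc_3_2 lc_a_rc_4_2 lc_a_rc_3_2 lc_a_rc_21_0 lc_a_rc_2_2 lc_a_rc_1_2 lc_a_rc_4_0 lc_a_rc_0_1 lc_a_rc_0_1 lc_a_rc_2_2 lc_a_rc_2_2 lc_a_rc_4_2 lc_a_rc_2_2 lc_a_rc_3_0 lc_a_rc_21_0 lc_a_rc_0_1 lc_a_rc_5_2 lc_a_rc_3_2 lc_a_rc_21_0 lc_a_rc_1_4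 lc_a_rc_2_2 lc_a_rc_3_2 lc_a_rc_4_0 lc_a_rc_2_2 lc_a_rc_2_2 lc_a_rc_4_2 lc_a_rc_3_0 lc_a_rc_3_2 lc_a_rc_4_2 lc_a_rc_2_0 lc_a_rc_21_0 lc_a_rc_3_2 lc_a_rc_5_2 lc_a_rc_3_2 lc_a_rc_22_0 lc_a_rc_4_0 lc_a_rc_1_2 lc_a_rc_1_2 lc_a_rc_2_2 lc_a_rc_0_1 lc_a_rc_5_2 lc_a_rc_4_2) (@D3.rec (fun _ => (Cert rels S Gen.a)) lc_a_rc_3_2 lc_a_rc_3_2 lc_a_rc_4_2 lc_a_rc_1_2 lc_a_rc_3_2 lc_a_rc_2_2 lc_a_rc_5_2 lc_a_rc_1_4 lc_a_rc_2_2 lc_a_rc_3_2 lc_a_rc_3_2 lc_a_rc_3_2 lc_a_rc_2_0 lc_a_rc_0_1 lc_a_rc_2_2 lc_a_rc_4_0 lc_a_rc_2_0 lc_a_rc_0_1 lc_a_rc_2_2 lc_a_rc_4_2 lc_a_rc_4_0 lc_a_rc_3_2 lc_a_rc_2_0 lc_a_rc_22_0 lc_a_rc_0_1 lc_a_rc_2_2 lc_a_rc_3_0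 lc_a_rc_0_1 lc_a_rc_2_2 lc_a_rc_4_2 lc_a_rc_21_0 lc_a_rc_2_2 lc_a_rc_5_0 lc_a_rc_5_0 lc_a_rc_4_0 lc_a_rc_0_1 lc_a_rc_2_0 lc_a_rc_22_0 lc_a_Cert_tree lc_a_rc_0_1 lc_a_rc_4_2 lc_a_rc_4_0 lc_a_rc_4_0 lc_a_rc_3_2 lc_a_rc_4_2 lc_a_Cert_tree lc_a_rc_0_1 lc_a_rc_0_1 lc_a_rc_4_0 lc_a_rc_2_0 lc_a_rc_3_0 lc_a_rc_4_2 lc_a_rc_3_0 lc_a_rc_2_0 lc_a_rc_3_0 lc_a_rc_4_0 lc_a_rc_0_1 lc_a_rc_3_2 lc_a_rc_4_2 lc_a_rc_2_2 lc_a_rc_3_2 lc_a_rc_3_0)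
def ce_a_26 : D2 → D3 → (Cert rels S Gen.a) := @D2.rec (fun _ => D3 → (Cert rels S Gen.a)) (@D3.rec (fun _ => (Cert rels S Gen.a)) lc_a_rc_21_0 lc_a_rc_2_2 lc_a_rc_0_1 lc_a_rc_21_0 lc_a_rc_1_4 lc_a_rc_2_2 lc_a_rc_2_2 lc_a_rc_4_2 lc_a_rc_3_2 lc_a_rc_4_2 lc_a_rc_2_0 lc_a_rc_4_2 lc_a_rc_3_2 lc_a_rc_2_2 lc_a_rc_21_0 lc_a_rc_3_0 lc_a_rc_4_2 lc_a_rc_5_0 lc_a_rc_1_4 lc_a_rc_3_2 lc_a_rc_0_1 lc_a_rc_3_2 lc_a_rc_4_2 lc_a_rc_21_0 lc_a_rc_2_2 lc_a_rc_3_0 lc_a_rc_1_0 lc_a_rc_0_1 lc_a_rc_22_0 lc_a_rc_4_2 lc_a_rc_2_2 lc_a_rc_4_2 lc_a_rc_3_2 lc_a_rc_2_0 lc_a_rc_21_0 lc_a_rc_4_2 lc_a_rc_4_2 lc_a_rc_4_2 lc_a_rc_1_0 lc_a_rc_5_2 lc_a_rc_4_2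 lc_a_rc_2_0 lc_a_rc_2_2 lc_a_rc_0_1 lc_a_rc_0_1 lc_a_rc_2_2 lc_a_rc_4_2 lc_a_rc_2_0 lc_a_rc_2_2 lc_a_rc_4_0 lc_a_rc_3_2 lc_a_rc_2_2 lc_a_rc_1_0 lc_a_rc_2_2 lc_a_rc_21_0 lc_a_rc_3_2 lc_a_rc_3_0 lc_a_rc_0_1 lc_a_rc_4_2 lc_a_rc_21_0 lc_a_rc_5_0 lc_a_rc_4_2) (@D3.rec (fun _ => (Cert rels S Gen.a)) lc_a_rc_1_2 lc_a_rc_3_2 lc_a_rc_1_4 lc_a_rc_4_0 lc_a_rc_21_0 lc_a_rc_4_0 lc_a_rc_2_0 lc_a_rc_4_2 lc_a_rc_0_1 lc_a_rc_21_0 lc_a_rc_4_0 lc_a_rc_4_0 lc_a_rc_5_2 lc_a_rc_2_2 lc_a_rc_5_0 lc_a_rc_1_4 lc_a_rc_3_0 lc_a_rc_3_2 lc_a_rc_3_2 lc_a_rc_3_0 lc_a_rc_1_2 lc_a_rc_3_2 lc_a_rc_1_4 lc_a_rc_0_1 lc_a_rc_0_1 lc_a_rc_3_2 lc_a_rc_0_1 lc_a_rc_0_1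 lc_a_rc_0_1 lc_a_rc_3_2 lc_a_rc_21_0 lc_a_rc_21_0 lc_a_rc_3_2 lc_a_rc_3_0 lc_a_rc_3_2 lc_a_rc_1_4 lc_a_rc_4_2 lc_a_rc_4_2 lc_a_rc_4_0 lc_a_rc_5_0 lc_a_rc_5_2 lc_a_rc_3_2 lc_a_rc_4_2 lc_a_rc_2_2 lc_a_rc_4_2 lc_a_rc_5_2 lc_a_rc_3_2 lc_a_rc_2_2 lc_a_rc_21_0 lc_a_rc_4_2 lc_a_rc_1_0 lc_a_rc_2_0 lc_a_rc_3_2 lc_a_rc_2_0 lc_a_rc_2_2 lc_a_rc_3_2 lc_a_rc_1_2 lc_a_rc_0_1 lc_a_rc_22_0 lc_a_rc_2_2 lc_a_rc_0_1 lc_a_rc_21_0) (@D3.rec (fun _ => (Cert rels S Gen.a)) lc_a_rc_2_0 lc_a_rc_3_2 lc_a_rc_22_0 lc_a_rc_4_2 lc_a_rc_1_0 lc_a_rc_2_2 lc_a_rc_0_1 lc_a_rc_21_0 lc_a_rc_2_2 lc_a_rc_4_2 lc_a_rc_2_2 lc_a_rc_2_2 lc_a_rc_3_2 lc_a_rc_2_2 lc_a_rc_2_2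 lc_a_rc_4_2 lc_a_rc_4_2 lc_a_rc_21_0 lc_a_rc_3_2 lc_a_rc_1_2 lc_a_rc_2_2 lc_a_rc_4_2 lc_a_rc_3_0 lc_a_rc_4_2 lc_a_rc_3_2 lc_a_rc_4_0 lc_a_rc_2_2 lc_a_rc_4_2 lc_a_rc_5_2 lc_a_rc_1_0 lc_a_rc_2_0 lc_a_rc_2_0 lc_a_rc_0_1 lc_a_rc_2_0 lc_a_rc_2_0 lc_a_rc_4_0 lc_a_rc_2_2 lc_a_rc_2_0 lc_a_rc_0_1 lc_a_rc_1_0 lc_a_rc_3_2 lc_a_rc_3_0 lc_a_rc_22_0 lc_a_rc_22_0 lc_a_rc_2_2 lc_a_rc_2_2 lc_a_rc_21_0 lc_a_rc_2_2 lc_a_Cert_tree lc_a_rc_2_2 lc_a_rc_5_0 lc_a_rc_0_1 lc_a_rc_1_0 lc_a_rc_2_2 lc_a_rc_3_2 lc_a_rc_5_0 lc_a_rc_3_0 lc_a_rc_3_2 lc_a_rc_0_1 lc_a_rc_2_2 lc_a_rc_4_2 lc_a_rc_2_0) (@D3.rec (fun _ => (Cert rels S Gen.a)) lc_a_rc_0_1 lc_a_rc_1_4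 lc_a_rc_3_2 lc_a_rc_3_2 lc_a_rc_5_2 lc_a_rc_4_2 lc_a_rc_21_0 lc_a_rc_4_2 lc_a_rc_1_4 lc_a_rc_4_2 lc_a_rc_5_2 lc_a_rc_2_2 lc_a_rc_0_1 lc_a_rc_3_2 lc_a_rc_3_2 lc_a_rc_3_0 lc_a_rc_2_0 lc_a_rc_0_1 lc_a_rc_4_2 lc_a_rc_2_0 lc_a_rc_5_2 lc_a_rc_2_0 lc_a_rc_1_0 lc_a_rc_0_1 lc_a_rc_4_0 lc_a_rc_4_0 lc_a_rc_4_2 lc_a_rc_22_0 lc_a_rc_4_0 lc_a_rc_0_1 lc_a_rc_4_0 lc_a_rc_2_2 lc_a_rc_2_0 lc_a_rc_3_2 lc_a_rc_2_2 lc_a_rc_4_2 lc_a_rc_5_2 lc_a_rc_5_2 lc_a_rc_3_2 lc_a_rc_2_0 lc_a_rc_0_1 lc_a_rc_3_2 lc_a_rc_21_0 lc_a_rc_4_2 lc_a_rc_4_2 lc_a_rc_3_2 lc_a_rc_0_1 lc_a_rc_5_2 lc_a_rc_2_2 lc_a_rc_2_0 lc_a_rc_4_0 lc_a_rc_1_4 lc_a_rc_0_1 lc_a_rc_2_2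 lc_a_rc_5_0 lc_a_rc_3_0 lc_a_rc_21_0 lc_a_rc_3_0 lc_a_rc_2_2 lc_a_rc_2_2 lc_a_rc_2_2 lc_a_rc_3_2) (@D3.rec (fun _ => (Cert rels S Gen.a)) lc_a_rc_3_0 lc_a_rc_3_0 lc_a_rc_2_2 lc_a_rc_4_2 lc_a_rc_2_0 lc_a_rc_2_2 lc_a_rc_22_0 lc_a_rc_3_0 lc_a_rc_2_2 lc_a_rc_3_0 lc_a_rc_4_0 lc_a_rc_0_1 lc_a_rc_2_0 lc_a_rc_1_2 lc_a_rc_4_2 lc_a_rc_0_1 lc_a_rc_0_1 lc_a_rc_2_2 lc_a_rc_1_4 lc_a_rc_2_2 lc_a_rc_1_0 lc_a_rc_2_2 lc_a_rc_3_2 lc_a_rc_3_2 lc_a_rc_2_2 lc_a_rc_5_2 lc_a_Cert_tree lc_a_rc_5_0 lc_a_rc_4_2 lc_a_rc_1_0 lc_a_rc_4_2 lc_a_rc_3_2 lc_a_rc_0_1 lc_a_rc_1_0 lc_a_rc_1_0 lc_a_rc_5_2 lc_a_rc_21_0 lc_a_rc_3_2 lc_a_rc_2_2 lc_a_rc_3_2 lc_a_rc_4_2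 lc_a_rc_2_2 lc_a_rc_2_0 lc_a_rc_1_2 lc_a_rc_3_2 lc_a_rc_4_2 lc_a_rc_0_1 lc_a_rc_3_2 lc_a_rc_5_2 lc_a_rc_0_1 lc_a_rc_5_0 lc_a_rc_3_2 lc_a_rc_4_2 lc_a_rc_4_2 lc_a_rc_5_2 lc_a_rc_5_0 lc_a_rc_5_2 lc_a_rc_0_1 lc_a_rc_5_0 lc_a_rc_1_2 lc_a_rc_0_1 lc_a_rc_2_2) (@D3.rec (fun _ => (Cert rels S Gen.a)) lc_a_rc_21_0 lc_a_rc_4_2 lc_a_rc_1_4 lc_a_rc_2_2 lc_a_rc_1_4 lc_a_rc_21_0 lc_a_rc_4_2 lc_a_rc_22_0 lc_a_rc_1_4 lc_a_rc_22_0 lc_a_rc_22_0 lc_a_rc_2_2 lc_a_rc_0_1 lc_a_rc_4_2 lc_a_rc_2_2 lc_a_rc_5_2 lc_a_rc_2_2 lc_a_rc_3_2 lc_a_rc_4_2 lc_a_rc_21_0 lc_a_rc_0_1 lc_a_rc_4_2 lc_a_rc_3_2 lc_a_rc_2_2 lc_a_rc_21_0 lc_a_rc_2_2 lc_a_rc_4_2 lc_a_rc_3_2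 lc_a_rc_0_1 lc_a_rc_2_2 lc_a_rc_3_0 lc_a_rc_0_1 lc_a_rc_1_2 lc_a_rc_21_0 lc_a_rc_3_2 lc_a_rc_5_2 lc_a_rc_2_2 lc_a_rc_4_2 lc_a_rc_1_0 lc_a_rc_3_2 lc_a_rc_4_2 lc_a_rc_3_2 lc_a_rc_3_2 lc_a_rc_5_2 lc_a_rc_3_2 lc_a_rc_0_1 lc_a_rc_1_4 lc_a_rc_1_0 lc_a_rc_3_2 lc_a_rc_4_2 lc_a_rc_5_0 lc_a_rc_3_2 lc_a_rc_2_2 lc_a_rc_3_0 lc_a_rc_2_2 lc_a_rc_4_2 lc_a_rc_4_0 lc_a_rc_5_2 lc_a_rc_2_0 lc_a_rc_2_0 lc_a_rc_2_0 lc_a_rc_2_2) (@D3.rec (fun _ => (Cert rels S Gen.a)) lc_a_rc_1_0 lc_a_rc_3_2 lc_a_rc_1_0 lc_a_rc_4_2 lc_a_rc_1_0 lc_a_rc_4_2 lc_a_rc_1_2 lc_a_rc_3_2 lc_a_rc_0_1 lc_a_rc_3_2 lc_a_rc_21_0 lc_a_rc_3_2 lc_a_rc_2_2 lc_a_rc_3_2 lc_a_rc_3_2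 lc_a_rc_22_0 lc_a_rc_5_0 lc_a_rc_3_2 lc_a_rc_2_2 lc_a_rc_3_2 lc_a_rc_4_2 lc_a_rc_3_2 lc_a_rc_4_2 lc_a_rc_5_2 lc_a_rc_3_2 lc_a_rc_22_0 lc_a_rc_22_0 lc_a_rc_21_0 lc_a_rc_5_0 lc_a_rc_4_2 lc_a_rc_4_0 lc_a_rc_22_0 lc_a_rc_4_2 lc_a_rc_2_2 lc_a_rc_4_2 lc_a_rc_3_2 lc_a_Cert_tree lc_a_rc_21_0 lc_a_rc_21_0 lc_a_rc_2_2 lc_a_rc_21_0 lc_a_rc_3_2 lc_a_rc_2_2 lc_a_Cert_tree lc_a_rc_3_2 lc_a_rc_1_4 lc_a_rc_3_2 lc_a_rc_2_2 lc_a_rc_3_2 lc_a_rc_4_2 lc_a_rc_22_0 lc_a_rc_1_4 lc_a_rc_1_4 lc_a_rc_22_0 lc_a_rc_4_2 lc_a_rc_2_2 lc_a_rc_0_1 lc_a_rc_2_2 lc_a_rc_5_0 lc_a_rc_3_2 lc_a_rc_3_2 lc_a_rc_3_2) (@D3.rec (fun _ => (Cert rels S Gen.a)) lc_a_rc_5_2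 lc_a_rc_3_2 lc_a_rc_2_2 lc_a_rc_2_2 lc_a_Cert_tree lc_a_rc_4_2 lc_a_rc_3_2 lc_a_rc_4_2 lc_a_rc_2_0 lc_a_rc_4_2 lc_a_rc_2_2 lc_a_rc_4_2 lc_a_rc_4_2 lc_a_rc_5_2 lc_a_rc_5_0 lc_a_rc_3_2 lc_a_rc_3_2 lc_a_rc_4_2 lc_a_rc_3_2 lc_a_rc_2_0 lc_a_rc_2_2 lc_a_rc_3_2 lc_a_rc_21_0 lc_a_rc_3_2 lc_a_rc_4_2 lc_a_rc_2_2 lc_a_rc_4_2 lc_a_rc_5_2 lc_a_rc_21_0 lc_a_rc_0_1 lc_a_rc_4_2 lc_a_rc_0_1 lc_a_rc_5_2 lc_a_rc_3_0 lc_a_rc_0_1 lc_a_rc_2_2 lc_a_rc_4_2 lc_a_rc_2_2 lc_a_rc_3_2 lc_a_rc_4_2 lc_a_rc_21_0 lc_a_rc_1_4 lc_a_rc_4_2 lc_a_rc_4_2 lc_a_rc_4_2 lc_a_rc_4_2 lc_a_rc_4_2 lc_a_rc_5_0 lc_a_rc_5_2 lc_a_rc_4_2 lc_a_rc_2_0 lc_a_rc_5_0 lc_a_Cert_tree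 lc_a_rc_4_2 lc_a_rc_3_2 lc_a_rc_0_1 lc_a_rc_1_2 lc_a_rc_2_2 lc_a_rc_3_2 lc_a_rc_3_2 lc_a_rc_5_2 lc_a_rc_2_2) (@D3.rec (fun _ => (Cert rels S Gen.a)) lc_a_rc_2_0 lc_a_rc_4_2 lc_a_rc_3_2 lc_a_rc_3_2 lc_a_rc_2_2 lc_a_rc_5_0 lc_a_rc_0_1 lc_a_rc_2_2 lc_a_rc_21_0 lc_a_rc_4_2 lc_a_rc_3_2 lc_a_rc_4_2 lc_a_rc_0_1 lc_a_rc_0_1 lc_a_rc_2_2 lc_a_rc_0_1 lc_a_rc_3_2 lc_a_rc_4_0 lc_a_rc_3_2 lc_a_rc_2_2 lc_a_rc_3_2 lc_a_rc_4_2 lc_a_rc_4_2 lc_a_rc_3_2 lc_a_rc_4_2 lc_a_rc_0_1 lc_a_rc_0_1 lc_a_rc_4_2 lc_a_rc_2_2 lc_a_rc_2_2 lc_a_rc_2_2 lc_a_rc_1_4 lc_a_rc_1_2 lc_a_rc_4_2 lc_a_rc_3_2 lc_a_rc_3_2 lc_a_rc_0_1 lc_a_rc_3_2 lc_a_rc_3_2 lc_a_rc_4_2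 lc_a_rc_4_2 lc_a_rc_5_2 lc_a_rc_1_2 lc_a_rc_3_2 lc_a_rc_0_1 lc_a_rc_4_2 lc_a_rc_4_2 lc_a_rc_1_4 lc_a_rc_1_2 lc_a_rc_2_2 lc_a_rc_3_2 lc_a_rc_2_2 lc_a_rc_1_2 lc_a_rc_0_1 lc_a_rc_2_0 lc_a_rc_3_2 lc_a_rc_4_2 lc_a_rc_2_2 lc_a_rc_5_2 lc_a_rc_5_0 lc_a_rc_3_2 lc_a_rc_21_0) (@D3.rec (fun _ => (Cert rels S Gen.a)) lc_a_rc_4_2 lc_a_Cert_tree lc_a_rc_4_2 lc_a_rc_4_0 lc_a_rc_4_2 lc_a_rc_5_0 lc_a_rc_0_1 lc_a_rc_2_0 lc_a_rc_21_0 lc_a_rc_2_2 lc_a_rc_0_1 lc_a_rc_2_2 lc_a_rc_1_2 lc_a_rc_2_2 lc_a_rc_3_2 lc_a_rc_4_2 lc_a_rc_2_2 lc_a_rc_5_2 lc_a_rc_1_2 lc_a_rc_3_2 lc_a_rc_4_2 lc_a_rc_2_2 lc_a_rc_4_2 lc_a_rc_5_2 lc_a_rc_4_2 lc_a_rc_3_2 lc_a_rc_3_2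 lc_a_rc_0_1 lc_a_rc_2_2 lc_a_rc_2_2 lc_a_rc_2_2 lc_a_rc_22_0 lc_a_rc_3_0 lc_a_rc_3_0 lc_a_rc_3_2 lc_a_rc_4_2 lc_a_rc_5_0 lc_a_rc_1_2 lc_a_rc_22_0 lc_a_rc_4_2 lc_a_rc_2_2 lc_a_rc_4_2 lc_a_rc_4_2 lc_a_rc_3_2 lc_a_rc_3_2 lc_a_rc_2_2 lc_a_rc_4_2 lc_a_rc_2_2 lc_a_rc_3_0 lc_a_rc_22_0 lc_a_rc_4_2 lc_a_rc_3_2 lc_a_rc_0_1 lc_a_rc_3_2 lc_a_rc_4_2 lc_a_rc_1_4 lc_a_rc_3_2 lc_a_rc_4_2 lc_a_rc_2_2 lc_a_rc_4_2 lc_a_rc_0_1 lc_a_rc_3_2) (@D3.rec (fun _ => (Cert rels S Gen.a)) lc_a_rc_4_2 lc_a_rc_3_2 lc_a_rc_0_1 lc_a_rc_0_1 lc_a_rc_5_2 lc_a_rc_21_0 lc_a_rc_2_2 lc_a_rc_4_2 lc_a_rc_5_0 lc_a_rc_1_2 lc_a_rc_21_0 lc_a_rc_2_0 lc_a_rc_2_2 lc_a_rc_21_0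 lc_a_rc_3_2 lc_a_rc_4_2 lc_a_rc_4_2 lc_a_rc_3_2 lc_a_rc_5_0 lc_a_rc_2_2 lc_a_rc_2_2 lc_a_rc_2_2 lc_a_rc_3_2 lc_a_rc_2_0 lc_a_rc_2_2 lc_a_rc_3_2 lc_a_rc_3_2 lc_a_rc_4_2 lc_a_rc_2_2 lc_a_rc_22_0 lc_a_rc_21_0 lc_a_rc_3_2 lc_a_rc_3_2 lc_a_rc_4_0 lc_a_rc_2_2 lc_a_rc_4_2 lc_a_rc_3_2 lc_a_rc_5_2 lc_a_rc_3_2 lc_a_rc_0_1 lc_a_rc_3_0 lc_a_rc_2_2 lc_a_rc_0_1 lc_a_rc_2_0 lc_a_rc_5_2 lc_a_rc_5_2 lc_a_rc_3_2 lc_a_rc_1_2 lc_a_rc_0_1 lc_a_rc_2_0 lc_a_rc_2_2 lc_a_rc_2_2 lc_a_rc_0_1 lc_a_rc_4_0 lc_a_rc_4_2 lc_a_rc_21_0 lc_a_rc_0_1 lc_a_rc_2_2 lc_a_rc_3_2 lc_a_rc_1_2 lc_a_rc_3_2 lc_a_rc_4_2) (@D3.rec (fun _ => (Cert rels S Gen.a)) lc_a_rc_4_0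 lc_a_rc_21_0 lc_a_rc_21_0 lc_a_rc_2_2 lc_a_rc_22_0 lc_a_rc_2_0 lc_a_Cert_tree lc_a_rc_3_0 lc_a_rc_5_0 lc_a_rc_3_2 lc_a_rc_3_0 lc_a_rc_3_2 lc_a_rc_2_2 lc_a_rc_0_1 lc_a_rc_2_2 lc_a_rc_3_2 lc_a_rc_4_2 lc_a_rc_0_1 lc_a_rc_3_2 lc_a_rc_0_1 lc_a_rc_2_0 lc_a_rc_3_2 lc_a_rc_3_2 lc_a_rc_3_2 lc_a_rc_0_1 lc_a_rc_4_0 lc_a_rc_3_0 lc_a_rc_4_0 lc_a_rc_1_4 lc_a_rc_2_0 lc_a_rc_2_2 lc_a_rc_22_0 lc_a_rc_22_0 lc_a_rc_4_2 lc_a_rc_3_2 lc_a_rc_4_2 lc_a_rc_2_2 lc_a_rc_3_0 lc_a_rc_0_1 lc_a_rc_3_2 lc_a_rc_3_2 lc_a_rc_0_1 lc_a_rc_2_2 lc_a_rc_4_2 lc_a_rc_3_2 lc_a_rc_2_2 lc_a_rc_4_2 lc_a_rc_3_2 lc_a_rc_3_2 lc_a_rc_2_0 lc_a_rc_2_2 lc_a_rc_4_2 lc_a_rc_3_2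 lc_a_rc_3_2 lc_a_rc_1_4 lc_a_rc_3_0 lc_a_rc_0_1 lc_a_rc_5_2 lc_a_rc_2_0 lc_a_rc_3_2 lc_a_rc_4_2 lc_a_rc_21_0) (@D3.rec (fun _ => (Cert rels S Gen.a)) lc_a_rc_21_0 lc_a_rc_5_2 lc_a_rc_2_2 lc_a_rc_3_2 lc_a_rc_2_0 lc_a_rc_3_0 lc_a_rc_2_2 lc_a_rc_3_2 lc_a_rc_5_2 lc_a_rc_3_0 lc_a_rc_3_2 lc_a_rc_4_2 lc_a_rc_4_0 lc_a_rc_2_2 lc_a_rc_3_0 lc_a_rc_2_2 lc_a_rc_4_2 lc_a_rc_5_2 lc_a_rc_3_2 lc_a_rc_2_2 lc_a_rc_4_0 lc_a_rc_2_2 lc_a_rc_22_0 lc_a_rc_3_2 lc_a_rc_1_2 lc_a_rc_2_0 lc_a_rc_5_2 lc_a_rc_2_0 lc_a_rc_0_1 lc_a_rc_1_4 lc_a_rc_2_0 lc_a_rc_3_0 lc_a_rc_2_0 lc_a_rc_4_2 lc_a_rc_4_0 lc_a_rc_21_0 lc_a_rc_3_2 lc_a_rc_4_2 lc_a_rc_4_2 lc_a_rc_3_2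 lc_a_rc_5_2 lc_a_rc_2_2 lc_a_rc_22_0 lc_a_rc_4_2 lc_a_rc_4_2 lc_a_rc_0_1 lc_a_rc_5_2 lc_a_rc_4_2 lc_a_rc_0_1 lc_a_rc_21_0 lc_a_rc_5_2 lc_a_rc_21_0 lc_a_rc_2_2 lc_a_rc_4_2 lc_a_rc_3_0 lc_a_rc_1_2 lc_a_rc_2_2 lc_a_rc_3_2 lc_a_rc_3_2 lc_a_rc_3_0 lc_a_rc_0_1 lc_a_rc_22_0) (@D3.rec (fun _ => (Cert rels S Gen.a)) lc_a_rc_2_2 lc_a_rc_3_2 lc_a_rc_4_2 lc_a_rc_2_2 lc_a_rc_4_2 lc_a_rc_0_1 lc_a_rc_0_1 lc_a_rc_3_2 lc_a_rc_4_2 lc_a_rc_4_0 lc_a_rc_2_2 lc_a_rc_4_2 lc_a_rc_2_0 lc_a_rc_3_2 lc_a_rc_5_2 lc_a_rc_21_0 lc_a_rc_0_1 lc_a_rc_2_0 lc_a_rc_3_2 lc_a_rc_0_1 lc_a_rc_4_2 lc_a_rc_1_0 lc_a_rc_22_0 lc_a_rc_2_0 lc_a_rc_2_2 lc_a_rc_0_1 lc_a_rc_2_2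 lc_a_rc_3_2 lc_a_rc_0_1 lc_a_rc_1_2 lc_a_rc_2_2 lc_a_rc_4_2 lc_a_rc_0_1 lc_a_rc_2_2 lc_a_rc_5_2 lc_a_rc_3_0 lc_a_rc_1_4 lc_a_rc_3_2 lc_a_rc_4_2 lc_a_rc_3_2 lc_a_rc_21_0 lc_a_rc_2_2 lc_a_rc_3_0 lc_a_rc_22_0 lc_a_rc_22_0 lc_a_rc_4_2 lc_a_rc_0_1 lc_a_rc_3_2 lc_a_rc_1_4 lc_a_rc_1_2 lc_a_rc_3_2 lc_a_rc_2_2 lc_a_rc_4_2 lc_a_rc_0_1 lc_a_rc_1_2 lc_a_rc_2_2 lc_a_rc_4_2 lc_a_rc_21_0 lc_a_rc_3_2 lc_a_rc_4_2 lc_a_rc_3_0 lc_a_rc_3_2) (@D3.rec (fun _ => (Cert rels S Gen.a)) lc_a_rc_3_2 lc_a_rc_5_2 lc_a_rc_1_4 lc_a_rc_3_0 lc_a_rc_3_2 lc_a_rc_2_2 lc_a_rc_3_0 lc_a_rc_21_0 lc_a_rc_2_0 lc_a_rc_0_1 lc_a_rc_21_0 lc_a_rc_3_2 lc_a_rc_3_2 lc_a_rc_4_2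 lc_a_rc_3_0 lc_a_rc_3_2 lc_a_rc_2_2 lc_a_rc_3_2 lc_a_rc_0_1 lc_a_rc_22_0 lc_a_rc_0_1 lc_a_rc_2_0 lc_a_rc_22_0 lc_a_rc_3_2 lc_a_rc_1_2 lc_a_rc_2_2 lc_a_rc_5_2 lc_a_rc_4_2 lc_a_rc_4_2 lc_a_rc_3_2 lc_a_rc_21_0 lc_a_rc_21_0 lc_a_rc_4_2 lc_a_rc_2_2 lc_a_rc_3_2 lc_a_rc_3_2 lc_a_rc_0_1 lc_a_rc_2_2 lc_a_rc_4_2 lc_a_rc_3_0 lc_a_rc_1_2 lc_a_rc_2_0 lc_a_rc_2_0 lc_a_rc_3_0 lc_a_rc_21_0 lc_a_rc_3_2 lc_a_rc_2_2 lc_a_rc_4_2 lc_a_rc_2_0 lc_a_rc_22_0 lc_a_rc_4_2 lc_a_rc_4_0 lc_a_rc_0_1 lc_a_rc_4_0 lc_a_rc_3_2 lc_a_rc_3_2 lc_a_rc_4_0 lc_a_rc_0_1 lc_a_rc_5_2 lc_a_rc_1_4 lc_a_rc_5_0 lc_a_rc_4_2) (@D3.rec (fun _ => (Cert rels S Gen.a)) lc_a_rc_0_1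 lc_a_rc_2_2 lc_a_rc_3_2 lc_a_rc_3_2 lc_a_rc_3_0 lc_a_rc_4_2 lc_a_rc_2_2 lc_a_rc_0_1 lc_a_rc_0_1 lc_a_rc_4_0 lc_a_rc_2_2 lc_a_rc_0_1 lc_a_rc_0_1 lc_a_rc_3_0 lc_a_rc_21_0 lc_a_rc_4_2 lc_a_rc_1_4 lc_a_rc_3_2 lc_a_rc_2_0 lc_a_rc_2_2 lc_a_rc_2_0 lc_a_rc_4_2 lc_a_rc_2_2 lc_a_rc_4_2 lc_a_rc_4_0 lc_a_rc_4_2 lc_a_rc_2_2 lc_a_rc_3_2 lc_a_rc_3_2 lc_a_rc_3_2 lc_a_rc_2_2 lc_a_rc_2_2 lc_a_rc_4_2 lc_a_rc_5_0 lc_a_rc_2_2 lc_a_rc_4_2 lc_a_rc_3_0 lc_a_rc_3_0 lc_a_rc_3_2 lc_a_rc_0_1 lc_a_rc_3_0 lc_a_rc_4_2 lc_a_rc_4_2 lc_a_rc_3_2 lc_a_rc_4_2 lc_a_rc_2_2 lc_a_rc_2_2 lc_a_rc_4_2 lc_a_rc_1_0 lc_a_rc_2_2 lc_a_rc_2_2 lc_a_rc_4_0 lc_a_rc_3_2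 lc_a_rc_5_2 lc_a_rc_5_0 lc_a_rc_3_2 lc_a_rc_3_2 lc_a_rc_21_0 lc_a_rc_3_2 lc_a_rc_0_1 lc_a_rc_21_0 lc_a_rc_5_2) (@D3.rec (fun _ => (Cert rels S Gen.a)) lc_a_rc_0_1 lc_a_rc_2_0 lc_a_rc_22_0 lc_a_rc_1_0 lc_a_rc_3_0 lc_a_rc_1_4 lc_a_rc_2_2 lc_a_rc_1_0 lc_a_rc_2_0 lc_a_rc_2_2 lc_a_rc_4_2 lc_a_rc_3_0 lc_a_rc_1_0 lc_a_rc_1_2 lc_a_rc_4_0 lc_a_rc_21_0 lc_a_rc_2_2 lc_a_rc_3_2 lc_a_rc_21_0 lc_a_rc_2_0 lc_a_rc_5_0 lc_a_rc_1_2 lc_a_rc_3_2 lc_a_rc_2_2 lc_a_rc_5_2 lc_a_rc_2_0 lc_a_rc_0_1 lc_a_rc_5_0 lc_a_rc_0_1 lc_a_rc_3_0 lc_a_rc_2_2 lc_a_rc_1_0 lc_a_rc_22_0 lc_a_rc_2_2 lc_a_rc_1_0 lc_a_rc_21_0 lc_a_rc_3_2 lc_a_rc_22_0 lc_a_rc_4_2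 lc_a_rc_3_2 lc_a_rc_4_2 lc_a_rc_2_2 lc_a_rc_2_2 lc_a_rc_3_2 lc_a_rc_2_0 lc_a_rc_2_2 lc_a_rc_5_2 lc_a_rc_4_2 lc_a_rc_4_2 lc_a_rc_21_0 lc_a_rc_2_2 lc_a_rc_3_2 lc_a_rc_2_2 lc_a_rc_4_2 lc_a_rc_0_1 lc_a_rc_1_4 lc_a_rc_4_2 lc_a_rc_4_2 lc_a_rc_3_2 lc_a_rc_5_2 lc_a_rc_21_0 lc_a_rc_0_1) (@D3.rec (fun _ => (Cert rels S Gen.a)) lc_a_rc_1_4 lc_a_rc_1_4 lc_a_rc_1_4 lc_a_rc_0_1 lc_a_rc_21_0 lc_a_rc_2_2 lc_a_rc_3_2 lc_a_rc_5_2 lc_a_rc_4_0 lc_a_rc_4_0 lc_a_rc_21_0 lc_a_rc_4_2 lc_a_rc_0_1 lc_a_rc_4_2 lc_a_rc_4_2 lc_a_rc_1_0 lc_a_rc_4_2 lc_a_rc_3_2 lc_a_rc_22_0 lc_a_rc_4_2 lc_a_rc_3_2 lc_a_rc_2_2 lc_a_rc_2_2 lc_a_rc_2_2 lc_a_rc_4_2 lc_a_rc_0_1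 lc_a_rc_3_2 lc_a_rc_5_2 lc_a_rc_5_2 lc_a_rc_22_0 lc_a_rc_1_2 lc_a_rc_21_0 lc_a_rc_4_2 lc_a_rc_22_0 lc_a_rc_3_2 lc_a_rc_3_2 lc_a_rc_21_0 lc_a_rc_21_0 lc_a_rc_3_2 lc_a_rc_4_2 lc_a_rc_22_0 lc_a_rc_3_2 lc_a_rc_3_2 lc_a_rc_4_2 lc_a_rc_0_1 lc_a_rc_3_0 lc_a_rc_4_2 lc_a_rc_3_0 lc_a_rc_4_2 lc_a_rc_21_0 lc_a_rc_4_2 lc_a_rc_5_2 lc_a_rc_21_0 lc_a_rc_21_0 lc_a_rc_2_2 lc_a_rc_4_2 lc_a_rc_0_1 lc_a_rc_22_0 lc_a_rc_2_0 lc_a_rc_4_0 lc_a_rc_0_1 lc_a_rc_0_1) (@D3.rec (fun _ => (Cert rels S Gen.a)) lc_a_rc_2_2 lc_a_rc_1_2 lc_a_rc_2_2 lc_a_rc_4_2 lc_a_rc_2_2 lc_a_rc_4_2 lc_a_rc_2_0 lc_a_rc_3_2 lc_a_rc_2_0 lc_a_rc_5_2 lc_a_rc_1_4 lc_a_rc_2_2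 lc_a_rc_4_2 lc_a_rc_1_4 lc_a_rc_22_0 lc_a_rc_3_2 lc_a_rc_3_2 lc_a_rc_5_2 lc_a_rc_3_0 lc_a_rc_0_1 lc_a_rc_2_2 lc_a_rc_5_0 lc_a_rc_5_2 lc_a_rc_3_2 lc_a_rc_1_4 lc_a_rc_21_0 lc_a_rc_3_0 lc_a_rc_1_2 lc_a_rc_0_1 lc_a_rc_5_2 lc_a_rc_3_0 lc_a_rc_5_2 lc_a_Cert_tree lc_a_rc_4_2 lc_a_rc_4_0 lc_a_rc_4_2 lc_a_rc_3_2 lc_a_rc_4_2 lc_a_rc_2_2 lc_a_rc_22_0 lc_a_rc_21_0 lc_a_rc_0_1 lc_a_rc_5_2 lc_a_rc_3_2 lc_a_rc_3_2 lc_a_rc_3_0 lc_a_rc_21_0 lc_a_rc_2_2 lc_a_rc_3_2 lc_a_rc_3_2 lc_a_rc_3_0 lc_a_rc_3_2 lc_a_rc_3_2 lc_a_rc_3_2 lc_a_rc_21_0 lc_a_rc_5_2 lc_a_rc_3_2 lc_a_rc_3_2 lc_a_rc_4_2 lc_a_rc_5_0 lc_a_rc_3_2 lc_a_rc_3_2) (@D3.rec (fun _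 => (Cert rels S Gen.a)) lc_a_rc_0_1 lc_a_rc_5_2 lc_a_Cert_tree lc_a_rc_2_2 lc_a_rc_3_2 lc_a_rc_4_0 lc_a_rc_5_0 lc_a_rc_4_2 lc_a_rc_4_0 lc_a_rc_5_0 lc_a_rc_2_2 lc_a_rc_4_2 lc_a_rc_21_0 lc_a_rc_3_2 lc_a_rc_1_2 lc_a_rc_5_0 lc_a_rc_4_2 lc_a_rc_0_1 lc_a_rc_4_2 lc_a_rc_3_2 lc_a_rc_3_2 lc_a_rc_3_2 lc_a_rc_1_0 lc_a_rc_4_2 lc_a_rc_3_0 lc_a_rc_2_2 lc_a_rc_22_0 lc_a_rc_4_2 lc_a_rc_4_0 lc_a_rc_3_0 lc_a_rc_0_1 lc_a_rc_1_2 lc_a_rc_4_2 lc_a_rc_3_2 lc_a_rc_3_0 lc_a_rc_5_2 lc_a_rc_2_0 lc_a_rc_4_2 lc_a_rc_5_2 lc_a_rc_21_0 lc_a_rc_4_2 lc_a_rc_4_2 lc_a_rc_3_2 lc_a_rc_4_2 lc_a_rc_2_2 lc_a_rc_1_4 lc_a_rc_22_0 lc_a_rc_3_2 lc_a_rc_5_0 lc_a_rc_0_1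 lc_a_rc_3_2 lc_a_rc_4_2 lc_a_rc_3_2 lc_a_rc_4_2 lc_a_rc_3_2 lc_a_rc_3_2 lc_a_rc_4_2 lc_a_rc_21_0 lc_a_rc_2_2 lc_a_rc_4_2 lc_a_rc_3_0 lc_a_rc_3_2) (@D3.rec (fun _ => (Cert rels S Gen.a)) lc_a_rc_4_2 lc_a_rc_0_1 lc_a_rc_5_2 lc_a_rc_4_2 lc_a_rc_3_0 lc_a_rc_2_2 lc_a_rc_5_2 lc_a_rc_21_0 lc_a_rc_3_0 lc_a_rc_5_2 lc_a_rc_0_1 lc_a_rc_3_2 lc_a_rc_4_0 lc_a_rc_4_2 lc_a_rc_4_2 lc_a_rc_4_2 lc_a_rc_0_1 lc_a_rc_22_0 lc_a_rc_4_0 lc_a_rc_0_1 lc_a_rc_2_0 lc_a_rc_22_0 lc_a_rc_3_2 lc_a_rc_2_2 lc_a_rc_3_2 lc_a_rc_4_2 lc_a_rc_2_0 lc_a_rc_4_2 lc_a_rc_21_0 lc_a_rc_0_1 lc_a_rc_4_2 lc_a_rc_21_0 lc_a_rc_4_2 lc_a_rc_2_2 lc_a_rc_0_1 lc_a_rc_21_0 lc_a_rc_5_0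 lc_a_rc_2_2 lc_a_rc_4_2 lc_a_rc_4_2 lc_a_rc_1_2 lc_a_rc_3_0 lc_a_rc_5_2 lc_a_rc_4_0 lc_a_rc_5_2 lc_a_rc_1_2 lc_a_rc_0_1 lc_a_rc_0_1 lc_a_rc_0_1 lc_a_rc_21_0 lc_a_rc_1_2 lc_a_rc_3_2 lc_a_rc_0_1 lc_a_rc_5_0 lc_a_rc_1_4 lc_a_rc_1_4 lc_a_rc_1_0 lc_a_rc_3_2 lc_a_rc_4_2 lc_a_rc_3_2 lc_a_rc_21_0 lc_a_rc_4_0) (@D3.rec (fun _ => (Cert rels S Gen.a)) lc_a_rc_3_2 lc_a_rc_5_0 lc_a_rc_2_2 lc_a_rc_4_2 lc_a_rc_2_2 lc_a_rc_3_2 lc_a_Cert_tree lc_a_rc_2_2 lc_a_rc_3_2 lc_a_rc_0_1 lc_a_rc_22_0 lc_a_rc_4_2 lc_a_rc_22_0 lc_a_rc_21_0 lc_a_rc_3_0 lc_a_rc_4_2 lc_a_rc_5_0 lc_a_rc_21_0 lc_a_rc_3_2 lc_a_rc_4_2 lc_a_rc_2_2 lc_a_rc_0_1 lc_a_rc_2_2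 lc_a_rc_5_0 lc_a_rc_4_2 lc_a_rc_0_1 lc_a_rc_3_2 lc_a_rc_2_2 lc_a_rc_3_2 lc_a_rc_2_2 lc_a_rc_2_2 lc_a_rc_2_0 lc_a_rc_5_2 lc_a_rc_4_2 lc_a_rc_21_0 lc_a_rc_0_1 lc_a_rc_3_0 lc_a_rc_5_2 lc_a_rc_4_2 lc_a_rc_3_2 lc_a_rc_4_2 lc_a_rc_1_2 lc_a_rc_3_2 lc_a_rc_3_2 lc_a_rc_21_0 lc_a_rc_0_1 lc_a_rc_3_2 lc_a_rc_3_2 lc_a_rc_1_0 lc_a_rc_3_2 lc_a_rc_4_2 lc_a_rc_3_2 lc_a_rc_3_2 lc_a_rc_22_0 lc_a_rc_3_0 lc_a_rc_3_0 lc_a_rc_3_2 lc_a_rc_22_0 lc_a_rc_3_2 lc_a_rc_4_2 lc_a_rc_21_0 lc_a_rc_21_0) (@D3.rec (fun _ => (Cert rels S Gen.a)) lc_a_rc_2_2 lc_a_rc_3_2 lc_a_rc_21_0 lc_a_rc_5_2 lc_a_rc_4_2 lc_a_rc_4_2 lc_a_rc_2_2 lc_a_rc_21_0 lc_a_rc_3_2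 lc_a_rc_4_2 lc_a_rc_2_2 lc_a_rc_0_1 lc_a_rc_5_2 lc_a_rc_3_2 lc_a_rc_4_2 lc_a_rc_3_2 lc_a_rc_3_2 lc_a_rc_4_2 lc_a_rc_0_1 lc_a_rc_21_0 lc_a_rc_2_2 lc_a_rc_3_2 lc_a_rc_1_2 lc_a_rc_2_2 lc_a_rc_2_2 lc_a_rc_1_2 lc_a_rc_21_0 lc_a_rc_4_0 lc_a_rc_0_1 lc_a_rc_21_0 lc_a_rc_1_4 lc_a_rc_4_2 lc_a_rc_0_1 lc_a_rc_1_4 lc_a_rc_3_2 lc_a_rc_1_0 lc_a_rc_5_0 lc_a_rc_1_4 lc_a_rc_3_0 lc_a_rc_2_2 lc_a_rc_1_2 lc_a_rc_1_2 lc_a_rc_2_2 lc_a_rc_5_2 lc_a_rc_21_0 lc_a_rc_1_2 lc_a_rc_2_2 lc_a_rc_4_2 lc_a_rc_2_2 lc_a_rc_3_2 lc_a_rc_2_0 lc_a_rc_5_0 lc_a_rc_2_2 lc_a_rc_4_2 lc_a_rc_4_2 lc_a_rc_5_0 lc_a_rc_5_2 lc_a_rc_1_4 lc_a_rc_2_2 lc_a_rc_4_2 lc_a_rc_2_2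 lc_a_rc_1_2) (@D3.rec (fun _ => (Cert rels S Gen.a)) lc_a_rc_2_0 lc_a_rc_3_2 lc_a_rc_5_0 lc_a_rc_0_1 lc_a_rc_2_2 lc_a_rc_22_0 lc_a_rc_5_0 lc_a_rc_1_4 lc_a_rc_2_2 lc_a_rc_3_0 lc_a_rc_21_0 lc_a_rc_4_0 lc_a_rc_0_1 lc_a_rc_5_2 lc_a_rc_3_2 lc_a_rc_2_2 lc_a_rc_4_2 lc_a_rc_1_4 lc_a_rc_2_0 lc_a_rc_1_2 lc_a_rc_0_1 lc_a_rc_3_2 lc_a_rc_5_2 lc_a_rc_4_2 lc_a_rc_2_2 lc_a_rc_3_2 lc_a_rc_4_2 lc_a_rc_3_2 lc_a_rc_3_2 lc_a_rc_2_2 lc_a_rc_5_2 lc_a_rc_2_2 lc_a_rc_4_0 lc_a_rc_5_2 lc_a_rc_1_4 lc_a_rc_1_4 lc_a_rc_3_2 lc_a_rc_1_2 lc_a_rc_4_0 lc_a_rc_4_2 lc_a_rc_22_0 lc_a_rc_4_2 lc_a_rc_21_0 lc_a_rc_1_0 lc_a_rc_3_2 lc_a_rc_21_0 lc_a_rc_3_2 lc_a_rc_5_0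 lc_a_rc_4_2 lc_a_rc_0_1 lc_a_rc_21_0 lc_a_rc_1_4 lc_a_rc_4_2 lc_a_rc_0_1 lc_a_rc_2_2 lc_a_rc_5_0 lc_a_rc_5_2 lc_a_rc_3_2 lc_a_rc_3_2 lc_a_rc_5_0 lc_a_rc_2_2 lc_a_rc_21_0) (@D3.rec (fun _ => (Cert rels S Gen.a)) lc_a_rc_2_2 lc_a_rc_21_0 lc_a_rc_2_0 lc_a_Cert_tree lc_a_rc_5_0 lc_a_rc_5_0 lc_a_rc_21_0 lc_a_rc_21_0 lc_a_rc_3_0 lc_a_rc_0_1 lc_a_rc_2_2 lc_a_rc_21_0 lc_a_rc_22_0 lc_a_rc_4_2 lc_a_rc_5_2 lc_a_rc_0_1 lc_a_Cert_tree lc_a_rc_4_0 lc_a_rc_4_0 lc_a_rc_22_0 lc_a_rc_0_1 lc_a_rc_0_1 lc_a_rc_1_2 lc_a_rc_5_2 lc_a_rc_21_0 lc_a_rc_21_0 lc_a_rc_4_2 lc_a_rc_0_1 lc_a_rc_4_2 lc_a_rc_4_2 lc_a_rc_3_2 lc_a_rc_5_0 lc_a_rc_3_2 lc_a_rc_5_2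 lc_a_rc_21_0 lc_a_rc_3_2 lc_a_rc_1_2 lc_a_rc_4_2 lc_a_rc_0_1 lc_a_rc_0_1 lc_a_rc_2_2 lc_a_rc_3_2 lc_a_rc_3_2 lc_a_rc_1_0 lc_a_rc_1_2 lc_a_rc_5_2 lc_a_rc_3_2 lc_a_rc_2_0 lc_a_rc_4_2 lc_a_rc_4_2 lc_a_rc_5_2 lc_a_rc_5_2 lc_a_rc_4_2 lc_a_rc_3_0 lc_a_rc_3_0 lc_a_rc_4_2 lc_a_rc_3_2 lc_a_rc_5_2 lc_a_rc_2_2 lc_a_rc_21_0 lc_a_rc_4_2 lc_a_rc_0_1) (@D3.rec (fun _ => (Cert rels S Gen.a)) lc_a_rc_3_2 lc_a_rc_1_4 lc_a_rc_21_0 lc_a_rc_21_0 lc_a_rc_4_2 lc_a_rc_1_2 lc_a_rc_4_0 lc_a_rc_5_0 lc_a_rc_1_0 lc_a_rc_2_2 lc_a_rc_21_0 lc_a_rc_4_2 lc_a_rc_0_1 lc_a_rc_4_2 lc_a_rc_2_2 lc_a_rc_4_2 lc_a_rc_3_2 lc_a_rc_2_0 lc_a_rc_2_2 lc_a_rc_1_2 lc_a_rc_5_2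 lc_a_rc_2_2 lc_a_rc_3_2 lc_a_rc_3_2 lc_a_rc_4_2 lc_a_rc_3_0 lc_a_rc_4_2 lc_a_rc_5_2 lc_a_rc_2_2 lc_a_rc_4_2 lc_a_rc_1_4 lc_a_rc_0_1 lc_a_rc_1_0 lc_a_rc_0_1 lc_a_rc_4_2 lc_a_rc_1_4 lc_a_rc_1_0 lc_a_rc_0_1 lc_a_rc_4_2 lc_a_rc_4_2 lc_a_rc_2_2 lc_a_rc_4_2 lc_a_rc_1_2 lc_a_rc_2_0 lc_a_rc_3_2 lc_a_rc_3_2 lc_a_rc_21_0 lc_a_rc_2_2 lc_a_rc_1_2 lc_a_rc_0_1 lc_a_rc_3_2 lc_a_rc_0_1 lc_a_rc_4_2 lc_a_rc_1_4 lc_a_rc_0_1 lc_a_rc_1_2 lc_a_rc_4_2 lc_a_rc_3_2 lc_a_rc_4_0 lc_a_rc_21_0 lc_a_rc_4_2 lc_a_rc_0_1) (@D3.rec (fun _ => (Cert rels S Gen.a)) lc_a_rc_2_0 lc_a_rc_3_2 lc_a_rc_4_2 lc_a_rc_4_2 lc_a_rc_3_2 lc_a_rc_5_0 lc_a_rc_21_0 lc_a_rc_0_1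 lc_a_rc_2_2 lc_a_rc_5_2 lc_a_rc_0_1 lc_a_rc_21_0 lc_a_rc_3_2 lc_a_rc_3_2 lc_a_rc_4_2 lc_a_rc_4_2 lc_a_rc_5_0 lc_a_rc_4_2 lc_a_rc_5_2 lc_a_rc_5_2 lc_a_rc_3_2 lc_a_rc_2_0 lc_a_rc_4_2 lc_a_rc_3_2 lc_a_rc_3_2 lc_a_rc_4_2 lc_a_rc_4_2 lc_a_rc_21_0 lc_a_rc_4_2 lc_a_rc_4_2 lc_a_rc_2_2 lc_a_rc_4_2 lc_a_rc_3_2 lc_a_rc_3_2 lc_a_rc_1_2 lc_a_rc_2_2 lc_a_rc_3_2 lc_a_rc_4_0 lc_a_rc_3_2 lc_a_rc_1_2 lc_a_rc_0_1 lc_a_rc_1_4 lc_a_rc_22_0 lc_a_rc_5_2 lc_a_rc_2_2 lc_a_rc_22_0 lc_a_rc_3_2 lc_a_rc_4_2 lc_a_rc_3_0 lc_a_rc_4_2 lc_a_rc_3_2 lc_a_rc_2_2 lc_a_rc_2_2 lc_a_rc_2_2 lc_a_rc_0_1 lc_a_rc_4_2 lc_a_rc_3_0 lc_a_rc_3_0 lc_a_rc_5_2 lc_a_rc_21_0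 lc_a_rc_22_0 lc_a_rc_4_2) (@D3.rec (fun _ => (Cert rels S Gen.a)) lc_a_rc_3_2 lc_a_rc_3_0 lc_a_rc_3_2 lc_a_rc_3_2 lc_a_rc_4_2 lc_a_rc_4_2 lc_a_rc_4_2 lc_a_rc_3_2 lc_a_rc_2_0 lc_a_rc_3_2 lc_a_rc_5_0 lc_a_rc_5_2 lc_a_rc_4_0 lc_a_rc_4_2 lc_a_rc_1_0 lc_a_rc_22_0 lc_a_rc_3_2 lc_a_rc_3_2 lc_a_rc_3_2 lc_a_rc_3_2 lc_a_rc_1_0 lc_a_rc_21_0 lc_a_rc_2_2 lc_a_rc_21_0 lc_a_rc_3_2 lc_a_rc_0_1 lc_a_rc_2_2 lc_a_rc_3_0 lc_a_rc_3_2 lc_a_rc_4_2 lc_a_rc_3_2 lc_a_rc_1_4 lc_a_rc_3_2 lc_a_rc_2_2 lc_a_rc_1_0 lc_a_rc_5_2 lc_a_rc_21_0 lc_a_rc_3_2 lc_a_rc_2_2 lc_a_rc_1_2 lc_a_rc_1_4 lc_a_rc_3_2 lc_a_rc_2_2 lc_a_rc_2_0 lc_a_rc_4_2 lc_a_rc_3_2 lc_a_rc_5_0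 lc_a_rc_3_2 lc_a_rc_22_0 lc_a_rc_3_2 lc_a_rc_2_0 lc_a_rc_3_0 lc_a_rc_22_0 lc_a_rc_3_2 lc_a_rc_2_2 lc_a_rc_21_0 lc_a_rc_3_0 lc_a_rc_3_2 lc_a_rc_4_0 lc_a_rc_4_2 lc_a_rc_0_1 lc_a_rc_3_2) (@D3.rec (fun _ => (Cert rels S Gen.a)) lc_a_rc_1_4 lc_a_rc_1_2 lc_a_rc_2_2 lc_a_rc_3_2 lc_a_rc_2_2 lc_a_rc_5_2 lc_a_rc_21_0 lc_a_rc_4_2 lc_a_rc_3_2 lc_a_rc_4_2 lc_a_rc_0_1 lc_a_rc_3_0 lc_a_rc_4_0 lc_a_rc_3_2 lc_a_rc_1_2 lc_a_rc_3_2 lc_a_rc_4_2 lc_a_rc_5_2 lc_a_rc_4_2 lc_a_rc_1_2 lc_a_rc_4_2 lc_a_rc_0_1 lc_a_rc_4_2 lc_a_rc_4_2 lc_a_rc_5_2 lc_a_rc_5_2 lc_a_rc_3_2 lc_a_rc_4_2 lc_a_rc_3_2 lc_a_rc_5_0 lc_a_rc_2_2 lc_a_rc_3_2 lc_a_rc_0_1 lc_a_rc_21_0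 lc_a_rc_2_2 lc_a_rc_0_1 lc_a_rc_3_2 lc_a_rc_2_2 lc_a_rc_3_2 lc_a_rc_0_1 lc_a_rc_21_0 lc_a_rc_3_2 lc_a_rc_0_1 lc_a_rc_21_0 lc_a_Cert_tree lc_a_rc_4_2 lc_a_rc_5_2 lc_a_rc_3_2 lc_a_rc_5_0 lc_a_rc_3_0 lc_a_rc_2_2 lc_a_rc_2_2 lc_a_rc_2_2 lc_a_rc_1_0 lc_a_rc_4_2 lc_a_rc_3_2 lc_a_rc_5_2 lc_a_rc_3_2 lc_a_rc_4_2 lc_a_rc_3_2 lc_a_rc_4_2 lc_a_rc_0_1) (@D3.rec (fun _ => (Cert rels S Gen.a)) lc_a_rc_1_2 lc_a_rc_4_2 lc_a_rc_4_0 lc_a_rc_21_0 lc_a_rc_4_0 lc_a_rc_2_2 lc_a_rc_21_0 lc_a_rc_1_4 lc_a_rc_2_2 lc_a_rc_1_4 lc_a_rc_5_0 lc_a_rc_4_2 lc_a_rc_4_0 lc_a_Cert_tree lc_a_rc_2_2 lc_a_Cert_tree lc_a_rc_0_1 lc_a_rc_0_1 lc_a_rc_3_2 lc_a_rc_21_0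 lc_a_rc_4_2 lc_a_rc_4_2 lc_a_rc_3_2 lc_a_rc_5_2 lc_a_rc_0_1 lc_a_rc_0_1 lc_a_rc_3_2 lc_a_rc_2_2 lc_a_rc_4_2 lc_a_rc_0_1 lc_a_rc_2_2 lc_a_rc_4_2 lc_a_rc_2_0 lc_a_rc_21_0 lc_a_rc_2_2 lc_a_rc_4_2 lc_a_rc_3_2 lc_a_rc_2_2 lc_a_rc_3_2 lc_a_rc_22_0 lc_a_rc_4_2 lc_a_rc_3_2 lc_a_rc_2_2 lc_a_Cert_tree lc_a_rc_4_2 lc_a_rc_4_2 lc_a_rc_5_2 lc_a_rc_4_0 lc_a_rc_22_0 lc_a_rc_2_2 lc_a_rc_1_4 lc_a_rc_3_2 lc_a_rc_3_0 lc_a_rc_3_0 lc_a_rc_0_1 lc_a_rc_21_0 lc_a_rc_2_2 lc_a_rc_3_2 lc_a_rc_5_2 lc_a_rc_3_0 lc_a_rc_4_2 lc_a_rc_3_2) (@D3.rec (fun _ => (Cert rels S Gen.a)) lc_a_rc_3_2 lc_a_rc_2_2 lc_a_rc_4_2 lc_a_rc_3_2 lc_a_rc_3_0 lc_a_rc_21_0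 lc_a_rc_3_0 lc_a_rc_4_2 lc_a_rc_5_2 lc_a_rc_1_4 lc_a_rc_0_1 lc_a_rc_3_0 lc_a_rc_4_2 lc_a_rc_5_2 lc_a_rc_3_2 lc_a_rc_4_2 lc_a_rc_3_0 lc_a_rc_3_0 lc_a_rc_21_0 lc_a_rc_2_2 lc_a_rc_4_2 lc_a_rc_2_2 lc_a_rc_1_2 lc_a_rc_2_2 lc_a_rc_1_2 lc_a_rc_3_2 lc_a_rc_4_2 lc_a_rc_3_0 lc_a_rc_3_2 lc_a_rc_2_2 lc_a_rc_2_2 lc_a_rc_4_2 lc_a_rc_2_0 lc_a_rc_22_0 lc_a_rc_4_2 lc_a_rc_21_0 lc_a_rc_2_2 lc_a_rc_2_2 lc_a_Cert_tree lc_a_rc_3_2 lc_a_rc_21_0 lc_a_rc_1_0 lc_a_rc_0_1 lc_a_rc_3_2 lc_a_rc_3_2 lc_a_rc_2_2 lc_a_rc_5_2 lc_a_rc_4_2 lc_a_rc_5_2 lc_a_rc_2_0 lc_a_rc_4_2 lc_a_rc_2_0 lc_a_rc_4_2 lc_a_rc_1_2 lc_a_rc_3_2 lc_a_rc_5_2 lc_a_rc_2_2 lc_a_rc_0_1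 lc_a_rc_2_0 lc_a_rc_5_2 lc_a_rc_3_2 lc_a_rc_3_0) (@D3.rec (fun _ => (Cert rels S Gen.a)) lc_a_rc_5_2 lc_a_rc_3_2 lc_a_rc_0_1 lc_a_rc_2_2 lc_a_Cert_tree lc_a_rc_5_2 lc_a_rc_3_0 lc_a_rc_21_0 lc_a_rc_0_1 lc_a_rc_21_0 lc_a_rc_3_2 lc_a_rc_5_2 lc_a_rc_4_2 lc_a_rc_4_2 lc_a_rc_2_2 lc_a_rc_3_2 lc_a_rc_5_2 lc_a_rc_3_0 lc_a_rc_1_0 lc_a_rc_21_0 lc_a_rc_3_0 lc_a_rc_1_0 lc_a_rc_3_2 lc_a_rc_22_0 lc_a_rc_3_0 lc_a_rc_0_1 lc_a_rc_4_2 lc_a_rc_4_0 lc_a_rc_4_2 lc_a_rc_5_2 lc_a_rc_1_0 lc_a_rc_4_2 lc_a_rc_2_0 lc_a_rc_4_2 lc_a_rc_3_2 lc_a_rc_2_0 lc_a_rc_3_0 lc_a_rc_2_2 lc_a_rc_4_2 lc_a_rc_4_0 lc_a_rc_1_4 lc_a_rc_3_0 lc_a_rc_0_1 lc_a_rc_4_2 lc_a_rc_4_0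 lc_a_rc_3_2 lc_a_rc_3_2 lc_a_rc_21_0 lc_a_rc_2_2 lc_a_rc_4_2 lc_a_rc_2_2 lc_a_rc_21_0 lc_a_rc_5_2 lc_a_rc_4_2 lc_a_rc_4_2 lc_a_rc_2_0 lc_a_rc_3_0 lc_a_rc_21_0 lc_a_rc_4_2 lc_a_rc_2_2 lc_a_rc_4_2 lc_a_rc_2_0) (@D3.rec (fun _ => (Cert rels S Gen.a)) lc_a_rc_3_2 lc_a_rc_0_1 lc_a_rc_3_0 lc_a_rc_5_2 lc_a_rc_0_1 lc_a_rc_21_0 lc_a_rc_0_1 lc_a_rc_0_1 lc_a_rc_0_1 lc_a_rc_0_1 lc_a_rc_5_0 lc_a_rc_2_2 lc_a_rc_1_4 lc_a_rc_4_2 lc_a_rc_21_0 lc_a_rc_0_1 lc_a_rc_3_0 lc_a_rc_1_2 lc_a_rc_4_2 lc_a_rc_1_4 lc_a_rc_3_2 lc_a_rc_21_0 lc_a_rc_4_2 lc_a_rc_2_2 lc_a_rc_4_2 lc_a_rc_21_0 lc_a_rc_4_2 lc_a_rc_2_2 lc_a_rc_1_2 lc_a_rc_3_2 lc_a_rc_1_4 lc_a_rc_4_2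 lc_a_rc_5_2 lc_a_rc_5_2 lc_a_rc_4_2 lc_a_rc_2_0 lc_a_rc_4_2 lc_a_rc_21_0 lc_a_rc_22_0 lc_a_rc_4_2 lc_a_rc_4_2 lc_a_rc_2_2 lc_a_rc_4_2 lc_a_rc_0_1 lc_a_rc_21_0 lc_a_rc_0_1 lc_a_rc_1_0 lc_a_rc_4_2 lc_a_rc_21_0 lc_a_rc_3_0 lc_a_rc_4_2 lc_a_rc_4_2 lc_a_rc_4_2 lc_a_rc_1_0 lc_a_rc_2_2 lc_a_rc_3_0 lc_a_rc_4_0 lc_a_rc_5_2 lc_a_rc_3_2 lc_a_rc_0_1 lc_a_rc_3_2 lc_a_rc_0_1) (@D3.rec (fun _ => (Cert rels S Gen.a)) lc_a_rc_22_0 lc_a_rc_1_2 lc_a_rc_4_0 lc_a_rc_1_4 lc_a_rc_4_2 lc_a_rc_2_0 lc_a_rc_3_2 lc_a_rc_2_2 lc_a_rc_0_1 lc_a_rc_1_4 lc_a_rc_4_2 lc_a_rc_2_2 lc_a_rc_3_0 lc_a_rc_5_0 lc_a_rc_3_2 lc_a_rc_22_0 lc_a_rc_1_4 lc_a_rc_1_4 lc_a_rc_4_2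 lc_a_rc_4_2 lc_a_rc_0_1 lc_a_rc_3_2 lc_a_rc_5_2 lc_a_rc_0_1 lc_a_rc_3_2 lc_a_rc_21_0 lc_a_rc_3_2 lc_a_rc_4_2 lc_a_rc_1_4 lc_a_rc_3_2 lc_a_rc_0_1 lc_a_rc_3_0 lc_a_rc_3_2 lc_a_rc_1_4 lc_a_rc_4_2 lc_a_rc_4_2 lc_a_rc_0_1 lc_a_rc_21_0 lc_a_rc_3_2 lc_a_rc_3_2 lc_a_rc_2_0 lc_a_rc_2_0 lc_a_rc_3_2 lc_a_rc_5_2 lc_a_rc_4_2 lc_a_rc_3_2 lc_a_rc_4_2 lc_a_rc_2_2 lc_a_rc_4_2 lc_a_rc_3_0 lc_a_rc_3_0 lc_a_rc_2_2 lc_a_rc_3_2 lc_a_rc_4_0 lc_a_rc_3_2 lc_a_rc_4_2 lc_a_rc_4_2 lc_a_rc_2_0 lc_a_rc_0_1 lc_a_rc_2_2 lc_a_rc_1_4 lc_a_rc_2_0) (@D3.rec (fun _ => (Cert rels S Gen.a)) lc_a_rc_3_2 lc_a_rc_4_0 lc_a_rc_3_2 lc_a_rc_0_1 lc_a_rc_2_2 lc_a_rc_4_2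 lc_a_rc_2_2 lc_a_rc_2_0 lc_a_rc_4_2 lc_a_rc_5_2 lc_a_rc_4_2 lc_a_rc_5_2 lc_a_rc_2_2 lc_a_rc_2_2 lc_a_rc_2_2 lc_a_rc_0_1 lc_a_rc_2_2 lc_a_rc_4_2 lc_a_rc_1_4 lc_a_rc_3_2 lc_a_rc_4_2 lc_a_rc_1_0 lc_a_rc_1_0 lc_a_rc_3_2 lc_a_rc_2_2 lc_a_rc_2_2 lc_a_rc_2_0 lc_a_rc_21_0 lc_a_rc_4_2 lc_a_rc_3_2 lc_a_rc_4_2 lc_a_rc_4_2 lc_a_rc_21_0 lc_a_rc_2_2 lc_a_rc_2_2 lc_a_rc_2_2 lc_a_rc_2_2 lc_a_rc_3_2 lc_a_rc_2_2 lc_a_rc_1_4 lc_a_rc_5_0 lc_a_rc_5_2 lc_a_rc_3_2 lc_a_rc_0_1 lc_a_rc_2_2 lc_a_rc_4_2 lc_a_rc_1_2 lc_a_rc_4_2 lc_a_rc_4_2 lc_a_rc_0_1 lc_a_rc_3_2 lc_a_rc_1_0 lc_a_rc_3_2 lc_a_rc_21_0 lc_a_rc_2_2 lc_a_rc_2_2 lc_a_rc_4_2 lc_a_rc_0_1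 lc_a_rc_4_2 lc_a_rc_21_0 lc_a_rc_4_2 lc_a_rc_4_0) (@D3.rec (fun _ => (Cert rels S Gen.a)) lc_a_rc_4_0 lc_a_rc_1_4 lc_a_rc_5_2 lc_a_rc_2_0 lc_a_rc_3_2 lc_a_rc_5_2 lc_a_rc_5_2 lc_a_rc_3_2 lc_a_rc_1_4 lc_a_rc_22_0 lc_a_rc_0_1 lc_a_rc_3_2 lc_a_rc_3_0 lc_a_rc_3_2 lc_a_rc_21_0 lc_a_rc_4_2 lc_a_rc_21_0 lc_a_rc_3_2 lc_a_rc_0_1 lc_a_rc_0_1 lc_a_rc_3_2 lc_a_rc_4_2 lc_a_rc_21_0 lc_a_rc_4_2 lc_a_rc_0_1 lc_a_rc_4_2 lc_a_rc_21_0 lc_a_rc_3_2 lc_a_rc_4_2 lc_a_rc_21_0 lc_a_rc_4_0 lc_a_rc_4_0 lc_a_rc_0_1 lc_a_rc_21_0 lc_a_rc_3_2 lc_a_rc_5_2 lc_a_rc_4_0 lc_a_rc_4_0 lc_a_rc_0_1 lc_a_rc_2_2 lc_a_rc_2_2 lc_a_rc_2_2 lc_a_rc_2_2 lc_a_rc_21_0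 lc_a_rc_3_2 lc_a_rc_1_4 lc_a_rc_0_1 lc_a_rc_3_2 lc_a_rc_1_0 lc_a_rc_2_2 lc_a_rc_2_2 lc_a_rc_2_2 lc_a_rc_5_2 lc_a_rc_0_1 lc_a_rc_2_0 lc_a_rc_22_0 lc_a_rc_3_0 lc_a_rc_2_2 lc_a_Cert_tree lc_a_rc_3_2 lc_a_rc_4_2 lc_a_rc_2_2) (@D3.rec (fun _ => (Cert rels S Gen.a)) lc_a_rc_0_1 lc_a_rc_2_2 lc_a_rc_2_2 lc_a_rc_4_2 lc_a_rc_0_1 lc_a_rc_3_2 lc_a_rc_5_0 lc_a_rc_2_2 lc_a_rc_0_1 lc_a_rc_3_2 lc_a_rc_2_2 lc_a_rc_2_2 lc_a_rc_4_2 lc_a_rc_3_2 lc_a_Cert_tree lc_a_rc_21_0 lc_a_rc_4_2 lc_a_rc_3_2 lc_a_rc_2_2 lc_a_rc_4_2 lc_a_rc_5_0 lc_a_rc_2_2 lc_a_Cert_tree lc_a_rc_22_0 lc_a_rc_22_0 lc_a_rc_4_2 lc_a_rc_5_0 lc_a_rc_21_0 lc_a_rc_3_2 lc_a_rc_3_2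 lc_a_rc_21_0 lc_a_rc_4_2 lc_a_rc_4_2 lc_a_rc_3_2 lc_a_rc_1_4 lc_a_rc_2_2 lc_a_rc_21_0 lc_a_Cert_tree lc_a_rc_4_2 lc_a_rc_2_2 lc_a_rc_3_2 lc_a_rc_0_1 lc_a_rc_1_2 lc_a_rc_1_2 lc_a_rc_3_2 lc_a_rc_3_2 lc_a_rc_0_1 lc_a_rc_22_0 lc_a_rc_3_2 lc_a_rc_0_1 lc_a_rc_21_0 lc_a_rc_4_2 lc_a_rc_4_2 lc_a_rc_3_2 lc_a_rc_2_0 lc_a_rc_2_2 lc_a_rc_4_2 lc_a_rc_3_2 lc_a_rc_3_2 lc_a_rc_22_0 lc_a_rc_2_2 lc_a_rc_4_2) (@D3.rec (fun _ => (Cert rels S Gen.a)) lc_a_rc_0_1 lc_a_rc_3_2 lc_a_rc_5_2 lc_a_rc_3_2 lc_a_rc_2_2 lc_a_rc_4_2 lc_a_rc_1_4 lc_a_rc_3_2 lc_a_rc_3_2 lc_a_rc_2_0 lc_a_rc_4_0 lc_a_rc_21_0 lc_a_rc_1_2 lc_a_rc_0_1 lc_a_rc_21_0 lc_a_rc_1_0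 lc_a_rc_3_2 lc_a_rc_4_0 lc_a_rc_1_2 lc_a_rc_0_1 lc_a_rc_5_2 lc_a_rc_2_0 lc_a_rc_3_0 lc_a_rc_4_0 lc_a_rc_3_2 lc_a_rc_21_0 lc_a_rc_2_0 lc_a_rc_0_1 lc_a_rc_3_2 lc_a_rc_4_2 lc_a_rc_21_0 lc_a_rc_2_2 lc_a_rc_1_4 lc_a_rc_5_2 lc_a_rc_5_0 lc_a_rc_3_2 lc_a_rc_2_0 lc_a_rc_2_0 lc_a_rc_2_2 lc_a_rc_4_2 lc_a_rc_4_2 lc_a_rc_3_0 lc_a_rc_2_0 lc_a_rc_1_2 lc_a_rc_0_1 lc_a_rc_2_2 lc_a_rc_1_4 lc_a_rc_3_0 lc_a_rc_3_0 lc_a_rc_21_0 lc_a_rc_3_2 lc_a_rc_4_2 lc_a_rc_1_4 lc_a_rc_0_1 lc_a_rc_3_2 lc_a_rc_4_2 lc_a_rc_0_1 lc_a_rc_0_1 lc_a_rc_2_2 lc_a_rc_4_2 lc_a_rc_3_0 lc_a_rc_4_2) (@D3.rec (fun _ => (Cert rels S Gen.a)) lc_a_rc_0_1 lc_a_rc_2_2 lc_a_rc_4_2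 lc_a_rc_4_2 lc_a_rc_2_0 lc_a_rc_4_2 lc_a_rc_3_2 lc_a_rc_5_2 lc_a_rc_3_2 lc_a_rc_2_2 lc_a_rc_1_2 lc_a_rc_0_1 lc_a_rc_2_0 lc_a_rc_2_0 lc_a_rc_4_2 lc_a_rc_4_2 lc_a_rc_3_2 lc_a_rc_22_0 lc_a_rc_2_2 lc_a_rc_1_4 lc_a_rc_21_0 lc_a_rc_4_2 lc_a_rc_2_0 lc_a_rc_0_1 lc_a_rc_3_2 lc_a_rc_2_2 lc_a_rc_22_0 lc_a_rc_4_2 lc_a_rc_2_2 lc_a_rc_3_2 lc_a_rc_4_0 lc_a_rc_3_2 lc_a_rc_2_2 lc_a_rc_4_2 lc_a_rc_2_0 lc_a_rc_2_0 lc_a_rc_2_2 lc_a_rc_1_4 lc_a_rc_1_2 lc_a_rc_3_2 lc_a_rc_5_2 lc_a_rc_2_2 lc_a_rc_3_2 lc_a_rc_2_2 lc_a_rc_1_0 lc_a_rc_3_2 lc_a_rc_2_0 lc_a_rc_1_4 lc_a_rc_1_2 lc_a_rc_3_2 lc_a_rc_4_2 lc_a_rc_0_1 lc_a_rc_3_0 lc_a_rc_2_0 lc_a_rc_2_0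 lc_a_rc_21_0 lc_a_rc_3_2 lc_a_rc_4_2 lc_a_rc_2_0 lc_a_rc_2_2 lc_a_rc_4_2 lc_a_rc_22_0) (@D3.rec (fun _ => (Cert rels S Gen.a)) lc_a_rc_3_2 lc_a_rc_2_2 lc_a_rc_2_0 lc_a_rc_4_2 lc_a_rc_0_1 lc_a_rc_4_2 lc_a_rc_5_0 lc_a_rc_2_2 lc_a_rc_3_2 lc_a_rc_4_2 lc_a_rc_4_2 lc_a_rc_4_2 lc_a_rc_1_0 lc_a_rc_4_2 lc_a_rc_1_4 lc_a_rc_2_0 lc_a_rc_4_2 lc_a_rc_2_0 lc_a_rc_3_0 lc_a_rc_21_0 lc_a_rc_3_2 lc_a_rc_5_2 lc_a_rc_3_0 lc_a_rc_3_2 lc_a_rc_1_2 lc_a_rc_4_0 lc_a_rc_0_1 lc_a_rc_4_2 lc_a_rc_4_2 lc_a_rc_4_2 lc_a_rc_3_2 lc_a_rc_2_2 lc_a_rc_0_1 lc_a_rc_0_1 lc_a_rc_0_1 lc_a_rc_4_2 lc_a_rc_2_2 lc_a_rc_3_0 lc_a_rc_3_2 lc_a_rc_21_0 lc_a_rc_1_4 lc_a_rc_3_2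 lc_a_rc_4_2 lc_a_rc_2_2 lc_a_rc_1_0 lc_a_rc_2_0 lc_a_rc_1_4 lc_a_rc_3_2 lc_a_rc_2_2 lc_a_rc_2_0 lc_a_rc_2_2 lc_a_rc_2_0 lc_a_rc_2_2 lc_a_rc_4_2 lc_a_rc_3_2 lc_a_rc_1_4 lc_a_rc_3_0 lc_a_rc_3_2 lc_a_rc_2_2 lc_a_rc_4_2 lc_a_rc_4_2 lc_a_rc_3_2) (@D3.rec (fun _ => (Cert rels S Gen.a)) lc_a_rc_5_2 lc_a_rc_4_2 lc_a_rc_4_2 lc_a_rc_3_2 lc_a_rc_2_2 lc_a_rc_4_2 lc_a_rc_1_2 lc_a_rc_4_2 lc_a_rc_2_0 lc_a_rc_3_0 lc_a_rc_1_4 lc_a_rc_1_4 lc_a_rc_1_4 lc_a_rc_3_2 lc_a_rc_2_2 lc_a_rc_4_2 lc_a_rc_3_2 lc_a_rc_1_2 lc_a_rc_4_2 lc_a_rc_21_0 lc_a_rc_5_2 lc_a_rc_1_2 lc_a_rc_4_0 lc_a_rc_1_2 lc_a_rc_3_2 lc_a_rc_3_2 lc_a_rc_4_0 lc_a_rc_4_2 lc_a_rc_4_0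 lc_a_rc_3_0 lc_a_rc_1_4 lc_a_rc_2_2 lc_a_rc_4_2 lc_a_rc_2_2 lc_a_rc_3_0 lc_a_rc_3_2 lc_a_rc_3_0 lc_a_rc_2_2 lc_a_rc_3_2 lc_a_rc_21_0 lc_a_rc_3_2 lc_a_rc_4_2 lc_a_rc_1_2 lc_a_rc_3_2 lc_a_rc_3_2 lc_a_rc_4_2 lc_a_rc_2_0 lc_a_rc_4_0 lc_a_rc_4_2 lc_a_rc_4_2 lc_a_rc_5_2 lc_a_rc_2_2 lc_a_rc_4_2 lc_a_rc_3_0 lc_a_rc_4_0 lc_a_rc_4_0 lc_a_rc_4_2 lc_a_rc_2_2 lc_a_rc_4_0 lc_a_rc_1_4 lc_a_rc_1_0 lc_a_rc_4_2) (@D3.rec (fun _ => (Cert rels S Gen.a)) lc_a_rc_2_0 lc_a_rc_4_2 lc_a_rc_2_2 lc_a_rc_4_2 lc_a_rc_3_2 lc_a_rc_1_0 lc_a_rc_4_2 lc_a_rc_2_0 lc_a_rc_3_2 lc_a_rc_0_1 lc_a_rc_1_0 lc_a_rc_4_2 lc_a_rc_3_2 lc_a_rc_1_4 lc_a_rc_2_2 lc_a_rc_0_1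 lc_a_rc_2_0 lc_a_rc_4_2 lc_a_rc_1_0 lc_a_rc_1_4 lc_a_rc_1_4 lc_a_rc_3_2 lc_a_rc_21_0 lc_a_rc_1_4 lc_a_rc_3_2 lc_a_rc_3_2 lc_a_rc_4_0 lc_a_rc_0_1 lc_a_rc_3_2 lc_a_rc_3_2 lc_a_rc_3_0 lc_a_rc_3_2 lc_a_rc_4_2 lc_a_rc_3_2 lc_a_rc_1_0 lc_a_rc_3_0 lc_a_rc_22_0 lc_a_rc_4_2 lc_a_rc_3_2 lc_a_rc_22_0 lc_a_rc_2_2 lc_a_rc_2_2 lc_a_rc_4_2 lc_a_rc_3_2 lc_a_rc_4_2 lc_a_rc_4_0 lc_a_rc_2_0 lc_a_rc_4_0 lc_a_rc_21_0 lc_a_rc_1_4 lc_a_rc_1_4 lc_a_rc_4_2 lc_a_rc_21_0 lc_a_rc_21_0 lc_a_rc_4_2 lc_a_rc_21_0 lc_a_rc_0_1 lc_a_rc_1_4 lc_a_rc_0_1 lc_a_rc_4_2 lc_a_rc_4_0 lc_a_rc_5_2) (@D3.rec (fun _ => (Cert rels S Gen.a)) lc_a_rc_0_1 lc_a_rc_2_2 lc_a_rc_3_2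 lc_a_rc_1_2 lc_a_rc_2_2 lc_a_rc_4_0 lc_a_rc_3_0 lc_a_rc_0_1 lc_a_rc_0_1 lc_a_rc_2_2 lc_a_rc_3_2 lc_a_rc_0_1 lc_a_rc_4_2 lc_a_rc_0_1 lc_a_rc_4_2 lc_a_rc_5_0 lc_a_rc_3_2 lc_a_rc_3_2 lc_a_rc_2_2 lc_a_rc_2_2 lc_a_rc_3_0 lc_a_rc_3_0 lc_a_rc_5_2 lc_a_rc_21_0 lc_a_rc_21_0 lc_a_rc_22_0 lc_a_rc_4_2 lc_a_rc_4_2 lc_a_rc_2_0 lc_a_rc_21_0 lc_a_rc_3_2 lc_a_rc_5_2 lc_a_rc_4_0 lc_a_rc_2_2 lc_a_rc_3_2 lc_a_rc_4_2 lc_a_rc_3_0 lc_a_rc_21_0 lc_a_rc_3_2 lc_a_rc_5_0 lc_a_rc_2_2 lc_a_rc_4_2 lc_a_rc_4_2 lc_a_rc_4_2 lc_a_rc_1_2 lc_a_rc_0_1 lc_a_rc_4_2 lc_a_rc_21_0 lc_a_rc_22_0 lc_a_rc_3_2 lc_a_rc_3_2 lc_a_rc_4_2 lc_a_rc_21_0 lc_a_rc_4_2 lc_a_rc_4_0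 lc_a_rc_21_0 lc_a_rc_3_2 lc_a_rc_0_1 lc_a_rc_0_1 lc_a_rc_3_2 lc_a_rc_5_2 lc_a_Cert_tree) (@D3.rec (fun _ => (Cert rels S Gen.a)) lc_a_rc_21_0 lc_a_rc_3_2 lc_a_rc_2_2 lc_a_rc_21_0 lc_a_rc_21_0 lc_a_rc_0_1 lc_a_rc_4_2 lc_a_rc_4_0 lc_a_rc_2_0 lc_a_rc_3_2 lc_a_rc_21_0 lc_a_rc_2_2 lc_a_rc_4_0 lc_a_rc_4_2 lc_a_rc_4_0 lc_a_rc_4_0 lc_a_rc_3_2 lc_a_rc_5_2 lc_a_rc_2_2 lc_a_rc_4_2 lc_a_rc_4_2 lc_a_rc_3_2 lc_a_rc_3_0 lc_a_rc_0_1 lc_a_rc_4_2 lc_a_rc_3_2 lc_a_rc_5_2 lc_a_rc_2_2 lc_a_rc_4_2 lc_a_rc_2_2 lc_a_rc_5_2 lc_a_rc_1_0 lc_a_rc_2_2 lc_a_rc_21_0 lc_a_rc_3_2 lc_a_rc_2_2 lc_a_rc_1_4 lc_a_rc_0_1 lc_a_rc_0_1 lc_a_rc_4_2 lc_a_rc_1_2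 lc_a_rc_3_2 lc_a_rc_3_2 lc_a_rc_0_1 lc_a_rc_4_2 lc_a_rc_4_2 lc_a_rc_5_2 lc_a_rc_3_2 lc_a_rc_2_2 lc_a_rc_4_2 lc_a_rc_3_0 lc_a_rc_4_2 lc_a_rc_1_4 lc_a_rc_4_2 lc_a_rc_4_2 lc_a_rc_2_2 lc_a_rc_3_2 lc_a_rc_5_2 lc_a_rc_1_4 lc_a_rc_3_2 lc_a_rc_21_0 lc_a_rc_3_0) (@D3.rec (fun _ => (Cert rels S Gen.a)) lc_a_rc_3_2 lc_a_rc_4_2 lc_a_rc_0_1 lc_a_rc_0_1 lc_a_rc_21_0 lc_a_rc_4_2 lc_a_rc_2_2 lc_a_rc_4_2 lc_a_rc_4_2 lc_a_rc_1_4 lc_a_rc_0_1 lc_a_rc_3_2 lc_a_rc_3_2 lc_a_rc_2_2 lc_a_rc_2_2 lc_a_rc_4_2 lc_a_rc_5_0 lc_a_rc_21_0 lc_a_rc_21_0 lc_a_rc_4_2 lc_a_rc_1_4 lc_a_rc_4_2 lc_a_rc_3_2 lc_a_rc_3_0 lc_a_rc_4_0 lc_a_rc_3_2 lc_a_rc_1_4 lc_a_rc_3_2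 lc_a_rc_4_2 lc_a_rc_0_1 lc_a_rc_1_4 lc_a_rc_2_2 lc_a_rc_0_1 lc_a_rc_5_2 lc_a_rc_2_2 lc_a_rc_1_4 lc_a_rc_3_2 lc_a_rc_2_2 lc_a_rc_3_2 lc_a_rc_3_2 lc_a_rc_4_2 lc_a_rc_4_2 lc_a_rc_1_4 lc_a_rc_0_1 lc_a_rc_3_2 lc_a_rc_3_0 lc_a_rc_4_2 lc_a_rc_1_4 lc_a_rc_4_2 lc_a_rc_2_0 lc_a_rc_3_2 lc_a_rc_3_2 lc_a_rc_1_4 lc_a_rc_4_2 lc_a_rc_3_2 lc_a_rc_21_0 lc_a_rc_2_2 lc_a_rc_3_2 lc_a_rc_2_2 lc_a_rc_0_1 lc_a_rc_21_0 lc_a_rc_2_2) (@D3.rec (fun _ => (Cert rels S Gen.a)) lc_a_rc_3_2 lc_a_rc_3_2 lc_a_rc_2_0 lc_a_rc_2_0 lc_a_rc_2_0 lc_a_rc_0_1 lc_a_rc_21_0 lc_a_rc_5_2 lc_a_rc_1_2 lc_a_rc_5_2 lc_a_rc_2_2 lc_a_rc_4_2 lc_a_rc_3_2 lc_a_rc_4_2 lc_a_Cert_tree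 lc_a_rc_0_1 lc_a_rc_0_1 lc_a_rc_4_2 lc_a_rc_0_1 lc_a_rc_3_2 lc_a_rc_4_0 lc_a_rc_2_2 lc_a_rc_0_1 lc_a_rc_5_2 lc_a_rc_5_2 lc_a_rc_0_1 lc_a_rc_4_2 lc_a_rc_4_2 lc_a_rc_2_0 lc_a_rc_3_2 lc_a_rc_1_4 lc_a_rc_3_2 lc_a_rc_4_2 lc_a_rc_3_2 lc_a_rc_4_2 lc_a_rc_1_2 lc_a_rc_4_2 lc_a_rc_4_2 lc_a_rc_5_0 lc_a_rc_3_2 lc_a_rc_2_2 lc_a_rc_4_2 lc_a_rc_3_2 lc_a_rc_3_2 lc_a_rc_4_2 lc_a_rc_2_2 lc_a_rc_5_2 lc_a_rc_1_4 lc_a_rc_2_2 lc_a_rc_0_1 lc_a_rc_2_2 lc_a_rc_2_2 lc_a_rc_21_0 lc_a_rc_0_1 lc_a_rc_0_1 lc_a_rc_4_2 lc_a_rc_21_0 lc_a_rc_4_2 lc_a_rc_21_0 lc_a_rc_4_2 lc_a_rc_2_2 lc_a_rc_3_2) (@D3.rec (fun _ => (Cert rels S Gen.a)) lc_a_rc_4_2 lc_a_rc_3_2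 lc_a_rc_4_2 lc_a_rc_0_1 lc_a_rc_1_2 lc_a_rc_3_2 lc_a_rc_21_0 lc_a_rc_2_0 lc_a_rc_3_2 lc_a_rc_3_2 lc_a_rc_4_2 lc_a_rc_4_2 lc_a_rc_1_2 lc_a_rc_4_0 lc_a_rc_2_0 lc_a_rc_3_2 lc_a_rc_4_2 lc_a_rc_2_2 lc_a_rc_3_2 lc_a_rc_3_2 lc_a_rc_3_0 lc_a_rc_21_0 lc_a_rc_2_0 lc_a_rc_0_1 lc_a_rc_3_0 lc_a_rc_0_1 lc_a_rc_2_0 lc_a_rc_2_0 lc_a_rc_22_0 lc_a_rc_2_2 lc_a_rc_2_2 lc_a_rc_2_2 lc_a_rc_3_2 lc_a_rc_3_2 lc_a_rc_2_0 lc_a_rc_4_2 lc_a_rc_2_0 lc_a_rc_3_0 lc_a_rc_1_0 lc_a_rc_3_2 lc_a_rc_21_0 lc_a_rc_3_2 lc_a_rc_22_0 lc_a_rc_0_1 lc_a_rc_2_2 lc_a_rc_3_2 lc_a_rc_3_0 lc_a_rc_4_2 lc_a_rc_4_2 lc_a_rc_3_2 lc_a_rc_4_2 lc_a_rc_4_2 lc_a_rc_3_2 lc_a_rc_21_0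 lc_a_rc_2_0 lc_a_rc_21_0 lc_a_rc_3_2 lc_a_rc_5_2 lc_a_rc_0_1 lc_a_rc_4_2 lc_a_rc_0_1 lc_a_rc_1_4) (@D3.rec (fun _ => (Cert rels S Gen.a)) lc_a_rc_3_2 lc_a_rc_0_1 lc_a_rc_4_2 lc_a_rc_21_0 lc_a_rc_0_1 lc_a_rc_2_2 lc_a_rc_2_0 lc_a_rc_2_0 lc_a_rc_4_2 lc_a_rc_3_2 lc_a_rc_0_1 lc_a_rc_3_2 lc_a_rc_4_2 lc_a_rc_5_2 lc_a_rc_21_0 lc_a_rc_3_2 lc_a_rc_2_2 lc_a_rc_3_2 lc_a_rc_0_1 lc_a_rc_4_2 lc_a_rc_3_2 lc_a_rc_4_2 lc_a_rc_0_1 lc_a_rc_2_0 lc_a_rc_4_2 lc_a_rc_1_4 lc_a_rc_21_0 lc_a_rc_5_2 lc_a_rc_5_0 lc_a_rc_0_1 lc_a_rc_3_2 lc_a_rc_5_2 lc_a_rc_4_0 lc_a_rc_21_0 lc_a_rc_3_2 lc_a_rc_2_2 lc_a_rc_3_0 lc_a_rc_3_2 lc_a_rc_21_0 lc_a_rc_2_2 lc_a_rc_3_2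 lc_a_rc_4_2 lc_a_rc_1_0 lc_a_rc_21_0 lc_a_rc_5_0 lc_a_rc_3_2 lc_a_rc_4_2 lc_a_rc_5_2 lc_a_rc_3_2 lc_a_rc_3_2 lc_a_rc_21_0 lc_a_rc_3_2 lc_a_rc_4_2 lc_a_rc_0_1 lc_a_rc_4_2 lc_a_rc_2_0 lc_a_rc_21_0 lc_a_rc_5_0 lc_a_rc_4_2 lc_a_rc_3_2 lc_a_rc_5_2 lc_a_rc_2_2) (@D3.rec (fun _ => (Cert rels S Gen.a)) lc_a_rc_1_4 lc_a_rc_3_2 lc_a_rc_1_2 lc_a_rc_2_0 lc_a_rc_3_2 lc_a_rc_5_2 lc_a_rc_4_0 lc_a_rc_3_0 lc_a_rc_1_2 lc_a_rc_4_2 lc_a_rc_3_2 lc_a_rc_4_2 lc_a_rc_5_2 lc_a_rc_4_2 lc_a_rc_3_2 lc_a_rc_2_2 lc_a_rc_2_2 lc_a_rc_3_2 lc_a_rc_0_1 lc_a_rc_2_0 lc_a_rc_1_4 lc_a_rc_2_2 lc_a_rc_0_1 lc_a_rc_21_0 lc_a_rc_1_2 lc_a_rc_0_1 lc_a_rc_5_0 lc_a_rc_3_2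 lc_a_rc_21_0 lc_a_rc_4_2 lc_a_rc_3_2 lc_a_rc_3_2 lc_a_rc_5_2 lc_a_rc_1_4 lc_a_rc_2_2 lc_a_rc_22_0 lc_a_rc_3_2 lc_a_rc_1_0 lc_a_rc_3_2 lc_a_rc_5_2 lc_a_rc_4_2 lc_a_rc_4_2 lc_a_rc_5_2 lc_a_rc_3_0 lc_a_rc_4_2 lc_a_rc_4_2 lc_a_rc_3_2 lc_a_rc_0_1 lc_a_rc_2_2 lc_a_rc_3_0 lc_a_rc_2_2 lc_a_rc_3_2 lc_a_rc_3_2 lc_a_rc_2_2 lc_a_rc_2_0 lc_a_rc_4_0 lc_a_rc_4_2 lc_a_rc_1_2 lc_a_rc_2_2 lc_a_rc_2_2 lc_a_rc_21_0 lc_a_rc_5_2) (@D3.rec (fun _ => (Cert rels S Gen.a)) lc_a_rc_0_1 lc_a_rc_1_4 lc_a_rc_0_1 lc_a_rc_4_2 lc_a_rc_2_2 lc_a_rc_3_2 lc_a_rc_3_2 lc_a_rc_5_0 lc_a_rc_22_0 lc_a_rc_4_2 lc_a_rc_2_2 lc_a_rc_0_1 lc_a_rc_2_2 lc_a_rc_3_2 lc_a_rc_5_2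 lc_a_rc_3_2 lc_a_rc_4_2 lc_a_rc_2_2 lc_a_rc_4_2 lc_a_rc_5_0 lc_a_rc_4_0 lc_a_rc_4_2 lc_a_rc_5_2 lc_a_rc_3_2 lc_a_rc_0_1 lc_a_rc_2_0 lc_a_rc_3_2 lc_a_rc_5_0 lc_a_rc_4_0 lc_a_rc_3_2 lc_a_rc_4_2 lc_a_rc_21_0 lc_a_rc_3_0 lc_a_rc_2_2 lc_a_rc_3_2 lc_a_rc_3_0 lc_a_rc_2_2 lc_a_rc_0_1 lc_a_rc_4_2 lc_a_rc_4_0 lc_a_rc_2_2 lc_a_rc_2_2 lc_a_rc_1_2 lc_a_rc_2_2 lc_a_rc_22_0 lc_a_rc_21_0 lc_a_rc_0_1 lc_a_rc_4_2 lc_a_rc_5_2 lc_a_rc_21_0 lc_a_rc_0_1 lc_a_rc_0_1 lc_a_rc_0_1 lc_a_rc_3_2 lc_a_rc_4_2 lc_a_rc_4_2 lc_a_rc_3_2 lc_a_rc_4_2 lc_a_rc_22_0 lc_a_rc_4_2 lc_a_rc_5_2 lc_a_rc_0_1) (@D3.rec (fun _ => (Cert rels S Gen.a)) lc_a_rc_1_0 lc_a_rc_4_2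 lc_a_rc_5_0 lc_a_rc_4_2 lc_a_rc_3_2 lc_a_rc_4_0 lc_a_rc_4_2 lc_a_rc_4_2 lc_a_rc_2_2 lc_a_rc_4_0 lc_a_rc_0_1 lc_a_rc_21_0 lc_a_rc_5_2 lc_a_rc_3_2 lc_a_rc_0_1 lc_a_rc_1_4 lc_a_rc_2_2 lc_a_rc_3_2 lc_a_rc_4_2 lc_a_rc_2_2 lc_a_rc_4_2 lc_a_rc_4_0 lc_a_rc_3_0 lc_a_rc_0_1 lc_a_rc_1_2 lc_a_rc_21_0 lc_a_rc_2_0 lc_a_rc_2_2 lc_a_rc_0_1 lc_a_rc_3_2 lc_a_rc_4_2 lc_a_rc_1_4 lc_a_rc_4_2 lc_a_rc_3_2 lc_a_rc_4_2 lc_a_rc_3_2 lc_a_rc_5_2 lc_a_rc_4_2 lc_a_rc_3_2 lc_a_rc_3_2 lc_a_rc_3_2 lc_a_rc_21_0 lc_a_rc_1_0 lc_a_rc_3_2 lc_a_rc_4_2 lc_a_rc_3_2 lc_a_rc_21_0 lc_a_rc_3_2 lc_a_rc_5_2 lc_a_rc_21_0 lc_a_rc_3_2 lc_a_rc_5_0 lc_a_rc_2_2 lc_a_rc_4_2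 lc_a_rc_3_2 lc_a_rc_4_2 lc_a_rc_3_2 lc_a_rc_2_0 lc_a_rc_4_2 lc_a_rc_3_2 lc_a_rc_3_0 lc_a_rc_0_1) (@D3.rec (fun _ => (Cert rels S Gen.a)) lc_a_rc_4_0 lc_a_rc_4_0 lc_a_rc_5_2 lc_a_rc_3_2 lc_a_rc_3_0 lc_a_rc_21_0 lc_a_rc_0_1 lc_a_rc_5_2 lc_a_rc_2_2 lc_a_rc_4_2 lc_a_rc_0_1 lc_a_rc_21_0 lc_a_rc_4_2 lc_a_rc_3_2 lc_a_rc_1_4 lc_a_rc_22_0 lc_a_rc_1_0 lc_a_rc_3_0 lc_a_rc_0_1 lc_a_rc_0_1 lc_a_rc_22_0 lc_a_rc_3_0 lc_a_rc_4_2 lc_a_rc_3_2 lc_a_rc_2_2 lc_a_rc_4_2 lc_a_rc_4_2 lc_a_rc_2_0 lc_a_rc_2_0 lc_a_rc_3_2 lc_a_rc_5_2 lc_a_rc_3_0 lc_a_rc_2_2 lc_a_rc_2_0 lc_a_rc_4_0 lc_a_rc_3_2 lc_a_rc_2_2 lc_a_rc_1_2 lc_a_rc_3_0 lc_a_rc_5_0 lc_a_rc_22_0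 lc_a_rc_5_2 lc_a_rc_21_0 lc_a_rc_5_0 lc_a_rc_2_2 lc_a_rc_1_4 lc_a_rc_2_2 lc_a_rc_2_2 lc_a_rc_4_2 lc_a_rc_3_2 lc_a_rc_2_2 lc_a_rc_1_4 lc_a_rc_5_0 lc_a_rc_3_2 lc_a_rc_2_0 lc_a_rc_3_2 lc_a_rc_5_0 lc_a_rc_4_0 lc_a_rc_3_2 lc_a_rc_0_1 lc_a_rc_3_0 lc_a_rc_21_0) (@D3.rec (fun _ => (Cert rels S Gen.a)) lc_a_rc_1_4 lc_a_rc_2_0 lc_a_rc_0_1 lc_a_rc_3_2 lc_a_rc_0_1 lc_a_rc_3_2 lc_a_rc_1_4 lc_a_rc_3_2 lc_a_rc_0_1 lc_a_rc_2_0 lc_a_rc_0_1 lc_a_rc_5_2 lc_a_rc_2_0 lc_a_rc_2_0 lc_a_rc_3_2 lc_a_rc_2_2 lc_a_rc_2_2 lc_a_rc_3_2 lc_a_rc_2_2 lc_a_rc_2_2 lc_a_rc_21_0 lc_a_rc_3_2 lc_a_rc_1_4 lc_a_rc_2_2 lc_a_rc_21_0 lc_a_rc_2_2 lc_a_rc_5_0 lc_a_rc_4_2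 lc_a_rc_4_0 lc_a_rc_2_2 lc_a_rc_3_2 lc_a_rc_4_2 lc_a_rc_3_2 lc_a_rc_5_2 lc_a_rc_5_2 lc_a_rc_1_4 lc_a_rc_3_2 lc_a_rc_1_2 lc_a_rc_4_2 lc_a_rc_5_0 lc_a_rc_4_0 lc_a_rc_0_1 lc_a_rc_5_2 lc_a_rc_0_1 lc_a_rc_3_2 lc_a_rc_3_0 lc_a_rc_4_2 lc_a_rc_21_0 lc_a_rc_2_2 lc_a_rc_2_2 lc_a_rc_3_2 lc_a_rc_3_2 lc_a_rc_4_2 lc_a_rc_4_2 lc_a_rc_2_2 lc_a_rc_4_2 lc_a_rc_5_0 lc_a_rc_3_0 lc_a_rc_2_2 lc_a_rc_2_2 lc_a_rc_2_0 lc_a_rc_5_2) (@D3.rec (fun _ => (Cert rels S Gen.a)) lc_a_rc_21_0 lc_a_rc_2_2 lc_a_rc_0_1 lc_a_rc_4_0 lc_a_rc_4_0 lc_a_rc_3_2 lc_a_rc_2_2 lc_a_rc_2_2 lc_a_rc_0_1 lc_a_rc_22_0 lc_a_rc_1_0 lc_a_rc_4_2 lc_a_rc_0_1 lc_a_rc_3_2 lc_a_rc_4_0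 lc_a_rc_1_4 lc_a_rc_3_2 lc_a_rc_1_2 lc_a_rc_1_2 lc_a_rc_3_2 lc_a_rc_2_2 lc_a_rc_3_2 lc_a_rc_4_0 lc_a_rc_1_4 lc_a_rc_0_1 lc_a_rc_1_2 lc_a_rc_3_2 lc_a_rc_4_2 lc_a_rc_3_2 lc_a_rc_5_0 lc_a_rc_2_2 lc_a_rc_5_2 lc_a_rc_5_0 lc_a_rc_2_2 lc_a_rc_1_4 lc_a_rc_22_0 lc_a_rc_5_2 lc_a_rc_2_2 lc_a_rc_21_0 lc_a_rc_2_0 lc_a_rc_2_0 lc_a_Cert_tree lc_a_rc_4_2 lc_a_rc_3_2 lc_a_rc_5_0 lc_a_rc_4_2 lc_a_rc_2_2 lc_a_rc_4_2 lc_a_rc_1_4 lc_a_rc_2_2 lc_a_rc_2_2 lc_a_rc_21_0 lc_a_rc_4_2 lc_a_rc_3_2 lc_a_rc_22_0 lc_a_rc_3_0 lc_a_Cert_tree lc_a_rc_3_0 lc_a_rc_5_0 lc_a_rc_2_2 lc_a_rc_4_2 lc_a_rc_0_1) (@D3.rec (fun _ => (Cert rels S Gen.a)) lc_a_rc_2_2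 lc_a_rc_2_0 lc_a_rc_3_2 lc_a_rc_21_0 lc_a_rc_3_2 lc_a_rc_4_2 lc_a_rc_2_2 lc_a_rc_4_2 lc_a_rc_3_2 lc_a_rc_2_2 lc_a_rc_5_0 lc_a_rc_3_2 lc_a_rc_2_2 lc_a_rc_22_0 lc_a_rc_3_2 lc_a_rc_2_2 lc_a_rc_2_0 lc_a_rc_3_0 lc_a_rc_0_1 lc_a_rc_22_0 lc_a_rc_0_1 lc_a_rc_22_0 lc_a_rc_2_2 lc_a_rc_1_0 lc_a_rc_2_2 lc_a_rc_22_0 lc_a_rc_4_2 lc_a_rc_3_2 lc_a_rc_0_1 lc_a_rc_2_0 lc_a_rc_3_0 lc_a_rc_0_1 lc_a_rc_3_2 lc_a_rc_2_0 lc_a_rc_3_2 lc_a_rc_5_0 lc_a_rc_1_0 lc_a_rc_2_2 lc_a_rc_0_1 lc_a_rc_1_4 lc_a_rc_3_2 lc_a_rc_4_2 lc_a_Cert_tree lc_a_rc_4_2 lc_a_rc_3_0 lc_a_rc_4_0 lc_a_rc_5_2 lc_a_rc_21_0 lc_a_rc_2_0 lc_a_rc_2_2 lc_a_rc_3_2 lc_a_rc_4_2 lc_a_rc_3_2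 lc_a_rc_4_2 lc_a_rc_4_0 lc_a_rc_4_2 lc_a_rc_4_2 lc_a_rc_4_2 lc_a_rc_4_2 lc_a_rc_21_0 lc_a_rc_4_2 lc_a_rc_2_2) (@D3.rec (fun _ => (Cert rels S Gen.a)) lc_a_rc_22_0 lc_a_rc_2_2 lc_a_rc_4_2 lc_a_rc_3_2 lc_a_rc_2_2 lc_a_rc_3_2 lc_a_rc_4_2 lc_a_rc_4_2 lc_a_rc_4_2 lc_a_rc_2_2 lc_a_rc_4_0 lc_a_rc_0_1 lc_a_rc_3_2 lc_a_rc_0_1 lc_a_rc_2_2 lc_a_rc_5_0 lc_a_rc_1_2 lc_a_rc_4_2 lc_a_rc_3_0 lc_a_rc_1_0 lc_a_rc_1_0 lc_a_rc_1_0 lc_a_rc_2_2 lc_a_rc_3_2 lc_a_rc_1_2 lc_a_rc_4_2 lc_a_rc_3_2 lc_a_rc_4_2 lc_a_rc_2_2 lc_a_rc_3_2 lc_a_rc_4_2 lc_a_rc_3_2 lc_a_rc_5_0 lc_a_rc_3_2 lc_a_rc_2_2 lc_a_rc_5_2 lc_a_rc_3_2 lc_a_rc_5_2 lc_a_rc_5_2 lc_a_rc_3_2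 lc_a_rc_3_2 lc_a_rc_21_0 lc_a_rc_5_2 lc_a_rc_2_2 lc_a_rc_3_2 lc_a_rc_22_0 lc_a_rc_3_2 lc_a_rc_0_1 lc_a_rc_22_0 lc_a_rc_3_2 lc_a_rc_21_0 lc_a_rc_2_2 lc_a_rc_2_2 lc_a_rc_3_2 lc_a_rc_2_0 lc_a_rc_3_2 lc_a_rc_1_2 lc_a_rc_21_0 lc_a_rc_22_0 lc_a_rc_22_0 lc_a_rc_4_2 lc_a_rc_3_2) (@D3.rec (fun _ => (Cert rels S Gen.a)) lc_a_rc_3_2 lc_a_rc_2_0 lc_a_rc_3_2 lc_a_rc_3_0 lc_a_rc_2_2 lc_a_rc_5_2 lc_a_rc_4_2 lc_a_rc_1_4 lc_a_rc_3_0 lc_a_rc_5_0 lc_a_rc_5_0 lc_a_rc_2_2 lc_a_rc_3_2 lc_a_rc_21_0 lc_a_rc_3_0 lc_a_rc_4_2 lc_a_rc_1_0 lc_a_rc_2_2 lc_a_Cert_tree lc_a_rc_3_2 lc_a_rc_22_0 lc_a_rc_0_1 lc_a_rc_0_1 lc_a_rc_3_0 lc_a_Cert_tree lc_a_rc_2_2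 lc_a_rc_4_0 lc_a_rc_21_0 lc_a_rc_3_2 lc_a_rc_22_0 lc_a_rc_2_2 lc_a_rc_3_2 lc_a_rc_3_2 lc_a_rc_3_2 lc_a_rc_22_0 lc_a_rc_22_0 lc_a_rc_3_2 lc_a_rc_0_1 lc_a_rc_21_0 lc_a_rc_4_2 lc_a_rc_4_2 lc_a_rc_3_2 lc_a_rc_3_0 lc_a_rc_5_2 lc_a_rc_1_4 lc_a_rc_2_2 lc_a_rc_4_2 lc_a_rc_2_0 lc_a_rc_3_2 lc_a_rc_0_1 lc_a_rc_1_2 lc_a_rc_4_2 lc_a_rc_1_2 lc_a_rc_2_2 lc_a_rc_3_2 lc_a_rc_21_0 lc_a_rc_21_0 lc_a_rc_3_2 lc_a_rc_21_0 lc_a_rc_3_0 lc_a_rc_3_2 lc_a_rc_1_4) (@D3.rec (fun _ => (Cert rels S Gen.a)) lc_a_rc_5_0 lc_a_rc_0_1 lc_a_rc_0_1 lc_a_rc_4_2 lc_a_rc_5_0 lc_a_rc_3_2 lc_a_rc_4_2 lc_a_rc_0_1 lc_a_rc_0_1 lc_a_rc_3_2 lc_a_rc_1_2 lc_a_rc_4_2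 lc_a_rc_3_2 lc_a_rc_1_0 lc_a_rc_1_0 lc_a_rc_0_1 lc_a_rc_22_0 lc_a_rc_4_0 lc_a_rc_4_2 lc_a_rc_21_0 lc_a_rc_1_4 lc_a_rc_4_2 lc_a_rc_3_0 lc_a_rc_1_0 lc_a_rc_1_4 lc_a_rc_3_0 lc_a_rc_2_2 lc_a_rc_4_2 lc_a_rc_5_0 lc_a_rc_2_0 lc_a_rc_0_1 lc_a_rc_5_2 lc_a_rc_4_2 lc_a_rc_3_2 lc_a_rc_3_2 lc_a_rc_4_2 lc_a_rc_4_2 lc_a_rc_3_2 lc_a_rc_1_0 lc_a_rc_0_1 lc_a_rc_2_2 lc_a_rc_5_0 lc_a_rc_5_2 lc_a_rc_3_2 lc_a_rc_4_2 lc_a_rc_4_0 lc_a_rc_4_2 lc_a_rc_2_2 lc_a_rc_3_2 lc_a_rc_1_4 lc_a_rc_1_2 lc_a_rc_5_2 lc_a_rc_3_2 lc_a_rc_3_2 lc_a_rc_2_2 lc_a_rc_3_2 lc_a_rc_3_2 lc_a_rc_4_2 lc_a_rc_21_0 lc_a_rc_21_0 lc_a_rc_2_2 lc_a_rc_3_2) (@D3.rec (fun _ => (Cert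 rels S Gen.a)) lc_a_rc_4_2 lc_a_rc_4_2 lc_a_rc_4_2 lc_a_rc_4_2 lc_a_rc_2_0 lc_a_rc_21_0 lc_a_rc_1_4 lc_a_rc_3_0 lc_a_rc_0_1 lc_a_rc_4_0 lc_a_rc_3_0 lc_a_rc_4_2 lc_a_rc_21_0 lc_a_rc_1_0 lc_a_rc_4_2 lc_a_rc_4_2 lc_a_rc_4_2 lc_a_rc_4_0 lc_a_rc_3_2 lc_a_rc_4_2 lc_a_rc_3_2 lc_a_rc_21_0 lc_a_rc_2_2 lc_a_rc_3_2 lc_a_rc_4_2 lc_a_rc_4_2 lc_a_rc_5_0 lc_a_rc_3_0 lc_a_rc_3_2 lc_a_rc_2_2 lc_a_rc_0_1 lc_a_rc_1_4 lc_a_rc_2_2 lc_a_rc_21_0 lc_a_rc_3_2 lc_a_rc_5_0 lc_a_rc_3_2 lc_a_rc_2_2 lc_a_rc_5_2 lc_a_rc_3_2 lc_a_rc_5_2 lc_a_rc_1_4 lc_a_rc_5_0 lc_a_rc_2_2 lc_a_rc_4_2 lc_a_rc_3_2 lc_a_rc_4_2 lc_a_rc_3_0 lc_a_rc_2_2 lc_a_rc_3_2 lc_a_rc_2_2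 lc_a_rc_3_2 lc_a_rc_3_2 lc_a_rc_3_0 lc_a_rc_3_2 lc_a_rc_2_2 lc_a_rc_4_2 lc_a_rc_2_2 lc_a_rc_5_2 lc_a_rc_3_2 lc_a_rc_5_0 lc_a_rc_4_2) (@D3.rec (fun _ => (Cert rels S Gen.a)) lc_a_rc_2_2 lc_a_rc_3_2 lc_a_rc_3_2 lc_a_rc_21_0 lc_a_rc_2_0 lc_a_rc_5_2 lc_a_rc_1_4 lc_a_rc_4_2 lc_a_rc_0_1 lc_a_rc_0_1 lc_a_rc_5_2 lc_a_rc_1_4 lc_a_rc_4_2 lc_a_rc_5_2 lc_a_rc_4_2 lc_a_rc_3_2 lc_a_rc_3_2 lc_a_rc_3_2 lc_a_rc_3_0 lc_a_rc_2_0 lc_a_rc_3_2 lc_a_rc_2_2 lc_a_rc_4_2 lc_a_rc_5_2 lc_a_rc_2_0 lc_a_rc_3_2 lc_a_rc_21_0 lc_a_rc_21_0 lc_a_rc_1_4 lc_a_rc_3_2 lc_a_rc_3_2 lc_a_rc_3_2 lc_a_rc_2_2 lc_a_rc_1_4 lc_a_rc_1_4 lc_a_rc_0_1 lc_a_rc_3_0 lc_a_rc_4_2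 lc_a_rc_21_0 lc_a_rc_4_2 lc_a_rc_1_0 lc_a_rc_3_2 lc_a_rc_1_2 lc_a_rc_3_0 lc_a_rc_1_2 lc_a_rc_2_2 lc_a_rc_3_2 lc_a_rc_1_0 lc_a_rc_5_0 lc_a_rc_3_2 lc_a_rc_21_0 lc_a_rc_5_0 lc_a_rc_3_2 lc_a_rc_4_2 lc_a_rc_3_0 lc_a_rc_2_2 lc_a_rc_4_2 lc_a_rc_1_4 lc_a_rc_21_0 lc_a_rc_5_0 lc_a_rc_5_2 lc_a_rc_3_2)
def ce_a_27 : D2 → D3 → (Cert rels S Gen.a) := @D2.rec (fun _ => D3 → (Cert rels S Gen.a)) (@D3.rec (fun _ => (Cert rels S Gen.a)) lc_a_rc_21_0 lc_a_rc_3_2 lc_a_rc_5_2 lc_a_rc_3_2 lc_a_rc_1_4 lc_a_rc_4_2 lc_a_rc_2_2 lc_a_rc_2_2 lc_a_rc_5_2 lc_a_rc_2_2 lc_a_rc_5_0 lc_a_rc_3_0 lc_a_rc_0_1 lc_a_rc_5_2 lc_a_rc_1_4 lc_a_rc_4_2 lc_a_rc_4_2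 lc_a_rc_4_0 lc_a_rc_3_2 lc_a_rc_2_2 lc_a_rc_2_2 lc_a_rc_4_0 lc_a_rc_2_0 lc_a_rc_0_1 lc_a_rc_3_2 lc_a_rc_4_2 lc_a_rc_4_2 lc_a_rc_3_2 lc_a_rc_2_0 lc_a_rc_0_1 lc_a_rc_3_2 lc_a_rc_5_2 lc_a_rc_3_2 lc_a_rc_21_0 lc_a_rc_3_0 lc_a_rc_3_0 lc_a_rc_21_0 lc_a_rc_3_2 lc_a_rc_3_2 lc_a_rc_4_2 lc_a_rc_3_2 lc_a_rc_3_0 lc_a_rc_1_2 lc_a_rc_5_2 lc_a_rc_5_0 lc_a_rc_3_2 lc_a_rc_3_0 lc_a_rc_5_2 lc_a_rc_4_2 lc_a_rc_2_0 lc_a_rc_2_0 lc_a_rc_2_2 lc_a_rc_1_0 lc_a_rc_2_2 lc_a_rc_3_2 lc_a_rc_4_0 lc_a_rc_1_2 lc_a_rc_2_2 lc_a_rc_21_0 lc_a_rc_0_1 lc_a_rc_5_2 lc_a_rc_3_2) (@D3.rec (fun _ => (Cert rels S Gen.a)) lc_a_rc_3_2 lc_a_rc_4_2 lc_a_rc_2_0 lc_a_rc_2_2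 lc_a_rc_2_0 lc_a_rc_4_2 lc_a_rc_4_2 lc_a_rc_3_2 lc_a_rc_22_0 lc_a_rc_0_1 lc_a_rc_2_0 lc_a_rc_1_0 lc_a_rc_3_2 lc_a_rc_3_0 lc_a_rc_0_1 lc_a_rc_1_2 lc_a_rc_4_2 lc_a_rc_4_2 lc_a_rc_4_2 lc_a_rc_4_2 lc_a_rc_21_0 lc_a_rc_3_0 lc_a_rc_2_2 lc_a_rc_4_2 lc_a_rc_2_2 lc_a_rc_4_2 lc_a_rc_5_2 lc_a_rc_4_2 lc_a_rc_4_2 lc_a_rc_2_2 lc_a_rc_5_2 lc_a_rc_3_0 lc_a_rc_1_4 lc_a_rc_5_2 lc_a_rc_4_2 lc_a_rc_3_2 lc_a_rc_4_2 lc_a_rc_4_2 lc_a_rc_2_2 lc_a_rc_0_1 lc_a_rc_21_0 lc_a_rc_4_2 lc_a_rc_21_0 lc_a_rc_4_2 lc_a_rc_3_2 lc_a_rc_3_0 lc_a_rc_3_0 lc_a_rc_2_2 lc_a_rc_0_1 lc_a_rc_2_0 lc_a_rc_3_2 lc_a_rc_3_0 lc_a_rc_2_0 lc_a_rc_21_0 lc_a_rc_21_0 lc_a_rc_4_2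 lc_a_rc_3_2 lc_a_rc_3_2 lc_a_rc_4_2 lc_a_rc_3_2 lc_a_rc_1_2 lc_a_rc_3_2) (@D3.rec (fun _ => (Cert rels S Gen.a)) lc_a_rc_0_1 lc_a_rc_0_1 lc_a_rc_4_2 lc_a_rc_2_2 lc_a_rc_0_1 lc_a_rc_22_0 lc_a_rc_4_2 lc_a_rc_4_2 lc_a_rc_2_2 lc_a_rc_0_1 lc_a_rc_3_0 lc_a_rc_2_2 lc_a_rc_2_2 lc_a_rc_5_2 lc_a_rc_3_0 lc_a_Cert_tree lc_a_rc_3_2 lc_a_rc_4_2 lc_a_rc_3_2 lc_a_rc_4_2 lc_a_rc_5_2 lc_a_rc_2_2 lc_a_rc_3_0 lc_a_rc_2_2 lc_a_rc_2_2 lc_a_rc_5_2 lc_a_rc_1_2 lc_a_rc_22_0 lc_a_rc_5_0 lc_a_rc_2_2 lc_a_rc_2_2 lc_a_rc_4_2 lc_a_rc_4_2 lc_a_rc_1_0 lc_a_rc_3_2 lc_a_rc_2_2 lc_a_rc_2_2 lc_a_rc_3_2 lc_a_rc_2_2 lc_a_rc_2_2 lc_a_rc_5_2 lc_a_rc_0_1 lc_a_rc_22_0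 lc_a_rc_5_2 lc_a_rc_4_2 lc_a_rc_5_0 lc_a_rc_4_2 lc_a_rc_3_0 lc_a_rc_2_0 lc_a_rc_4_2 lc_a_rc_2_0 lc_a_rc_4_2 lc_a_rc_1_2 lc_a_rc_1_4 lc_a_rc_2_0 lc_a_rc_2_2 lc_a_rc_2_0 lc_a_rc_3_2 lc_a_rc_21_0 lc_a_rc_4_2 lc_a_rc_2_0 lc_a_rc_4_2) (@D3.rec (fun _ => (Cert rels S Gen.a)) lc_a_rc_3_2 lc_a_rc_3_2 lc_a_rc_5_0 lc_a_rc_3_0 lc_a_rc_0_1 lc_a_rc_0_1 lc_a_rc_4_2 lc_a_rc_4_2 lc_a_rc_0_1 lc_a_rc_4_2 lc_a_rc_4_0 lc_a_rc_2_2 lc_a_rc_5_0 lc_a_rc_4_2 lc_a_rc_4_2 lc_a_rc_4_2 lc_a_rc_3_2 lc_a_rc_3_0 lc_a_rc_3_2 lc_a_rc_4_2 lc_a_rc_3_2 lc_a_rc_5_0 lc_a_rc_3_0 lc_a_rc_22_0 lc_a_rc_0_1 lc_a_rc_21_0 lc_a_rc_1_4 lc_a_rc_2_0 lc_a_rc_1_4 lc_a_rc_2_0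 lc_a_rc_3_2 lc_a_rc_3_2 lc_a_rc_0_1 lc_a_rc_3_0 lc_a_rc_2_2 lc_a_rc_2_2 lc_a_rc_3_2 lc_a_rc_4_2 lc_a_rc_3_0 lc_a_rc_4_2 lc_a_rc_21_0 lc_a_rc_2_2 lc_a_rc_4_2 lc_a_rc_2_2 lc_a_rc_0_1 lc_a_rc_1_2 lc_a_rc_4_2 lc_a_rc_2_2 lc_a_rc_3_2 lc_a_rc_3_0 lc_a_rc_3_0 lc_a_rc_4_2 lc_a_rc_0_1 lc_a_rc_4_2 lc_a_rc_2_0 lc_a_rc_0_1 lc_a_rc_21_0 lc_a_rc_1_2 lc_a_rc_1_2 lc_a_rc_0_1 lc_a_rc_1_4 lc_a_rc_4_2) (@D3.rec (fun _ => (Cert rels S Gen.a)) lc_a_rc_1_4 lc_a_rc_3_0 lc_a_rc_4_0 lc_a_rc_4_0 lc_a_rc_1_4 lc_a_rc_4_2 lc_a_rc_4_2 lc_a_rc_0_1 lc_a_rc_1_4 lc_a_rc_4_0 lc_a_rc_2_0 lc_a_rc_1_2 lc_a_rc_2_2 lc_a_rc_4_2 lc_a_rc_1_0 lc_a_rc_4_0 lc_a_rc_0_1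 lc_a_rc_1_4 lc_a_rc_2_2 lc_a_rc_0_1 lc_a_rc_3_0 lc_a_rc_0_1 lc_a_rc_1_2 lc_a_rc_3_2 lc_a_rc_2_2 lc_a_rc_4_2 lc_a_rc_3_2 lc_a_rc_0_1 lc_a_rc_4_2 lc_a_rc_3_2 lc_a_rc_2_2 lc_a_rc_3_2 lc_a_rc_4_2 lc_a_rc_2_2 lc_a_rc_4_2 lc_a_rc_2_0 lc_a_rc_3_2 lc_a_rc_3_0 lc_a_rc_4_2 lc_a_rc_5_2 lc_a_rc_3_2 lc_a_rc_2_2 lc_a_rc_4_0 lc_a_rc_3_2 lc_a_rc_3_2 lc_a_rc_2_2 lc_a_rc_2_2 lc_a_rc_2_2 lc_a_rc_2_0 lc_a_rc_4_2 lc_a_rc_2_0 lc_a_rc_1_2 lc_a_rc_2_2 lc_a_rc_0_1 lc_a_rc_3_2 lc_a_rc_0_1 lc_a_rc_4_2 lc_a_rc_3_2 lc_a_rc_2_0 lc_a_rc_2_2 lc_a_rc_3_2 lc_a_rc_0_1) (@D3.rec (fun _ => (Cert rels S Gen.a)) lc_a_rc_3_2 lc_a_rc_5_2 lc_a_rc_1_4 lc_a_rc_2_2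 lc_a_rc_3_0 lc_a_rc_2_2 lc_a_rc_3_2 lc_a_rc_5_2 lc_a_rc_2_2 lc_a_rc_5_0 lc_a_rc_3_2 lc_a_rc_2_2 lc_a_rc_2_2 lc_a_rc_4_2 lc_a_rc_22_0 lc_a_rc_2_0 lc_a_rc_4_2 lc_a_rc_2_2 lc_a_rc_3_2 lc_a_rc_4_2 lc_a_rc_2_2 lc_a_rc_4_2 lc_a_rc_1_4 lc_a_rc_5_2 lc_a_rc_5_2 lc_a_rc_3_2 lc_a_rc_3_2 lc_a_rc_21_0 lc_a_rc_3_2 lc_a_rc_2_2 lc_a_rc_0_1 lc_a_rc_4_2 lc_a_rc_4_2 lc_a_rc_5_0 lc_a_rc_2_2 lc_a_rc_5_2 lc_a_rc_2_0 lc_a_rc_4_2 lc_a_rc_5_0 lc_a_rc_2_2 lc_a_rc_5_2 lc_a_rc_2_0 lc_a_rc_0_1 lc_a_rc_4_2 lc_a_rc_2_2 lc_a_rc_21_0 lc_a_rc_1_2 lc_a_rc_0_1 lc_a_rc_0_1 lc_a_rc_1_2 lc_a_rc_2_2 lc_a_rc_1_2 lc_a_rc_2_2 lc_a_rc_2_2 lc_a_rc_4_2 lc_a_rc_2_2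 lc_a_rc_22_0 lc_a_rc_3_2 lc_a_rc_3_2 lc_a_rc_2_2 lc_a_rc_1_0 lc_a_rc_2_2) (@D3.rec (fun _ => (Cert rels S Gen.a)) lc_a_rc_3_2 lc_a_rc_1_2 lc_a_rc_2_0 lc_a_rc_4_2 lc_a_rc_3_0 lc_a_rc_22_0 lc_a_rc_22_0 lc_a_rc_3_2 lc_a_rc_21_0 lc_a_rc_5_0 lc_a_rc_5_0 lc_a_rc_22_0 lc_a_rc_1_2 lc_a_rc_5_2 lc_a_rc_21_0 lc_a_rc_3_2 lc_a_rc_0_1 lc_a_rc_22_0 lc_a_rc_4_2 lc_a_rc_3_2 lc_a_rc_4_2 lc_a_rc_3_2 lc_a_rc_4_2 lc_a_rc_3_2 lc_a_rc_2_2 lc_a_rc_1_2 lc_a_rc_3_2 lc_a_rc_3_2 lc_a_rc_4_2 lc_a_rc_3_2 lc_a_rc_21_0 lc_a_rc_3_2 lc_a_rc_1_4 lc_a_rc_3_2 lc_a_rc_3_2 lc_a_rc_4_2 lc_a_rc_21_0 lc_a_rc_3_2 lc_a_rc_1_0 lc_a_rc_2_0 lc_a_rc_0_1 lc_a_rc_0_1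 lc_a_rc_2_2 lc_a_rc_4_2 lc_a_rc_2_2 lc_a_rc_4_2 lc_a_rc_21_0 lc_a_Cert_tree lc_a_rc_0_1 lc_a_rc_4_2 lc_a_rc_3_2 lc_a_rc_2_2 lc_a_rc_0_1 lc_a_rc_21_0 lc_a_rc_4_2 lc_a_rc_5_2 lc_a_rc_1_4 lc_a_rc_4_2 lc_a_rc_21_0 lc_a_rc_3_0 lc_a_rc_4_2 lc_a_rc_1_4) (@D3.rec (fun _ => (Cert rels S Gen.a)) lc_a_rc_0_1 lc_a_rc_21_0 lc_a_rc_4_2 lc_a_rc_21_0 lc_a_rc_4_0 lc_a_Cert_tree lc_a_rc_0_1 lc_a_Cert_tree lc_a_rc_2_2 lc_a_rc_4_0 lc_a_rc_21_0 lc_a_rc_0_1 lc_a_rc_3_2 lc_a_rc_2_2 lc_a_Cert_tree lc_a_rc_4_2 lc_a_rc_4_2 lc_a_rc_2_2 lc_a_rc_3_2 lc_a_rc_4_2 lc_a_rc_3_0 lc_a_rc_3_2 lc_a_rc_2_2 lc_a_rc_1_4 lc_a_rc_21_0 lc_a_Cert_tree lc_a_rc_4_2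 lc_a_rc_5_2 lc_a_rc_0_1 lc_a_rc_3_2 lc_a_rc_0_1 lc_a_rc_3_2 lc_a_rc_2_2 lc_a_rc_4_2 lc_a_rc_2_2 lc_a_Cert_tree lc_a_rc_3_2 lc_a_rc_5_2 lc_a_rc_21_0 lc_a_rc_0_1 lc_a_rc_1_2 lc_a_rc_21_0 lc_a_rc_22_0 lc_a_rc_3_2 lc_a_rc_2_2 lc_a_rc_4_0 lc_a_rc_21_0 lc_a_rc_1_4 lc_a_rc_2_2 lc_a_rc_3_2 lc_a_rc_4_2 lc_a_rc_3_2 lc_a_rc_2_2 lc_a_rc_3_2 lc_a_rc_2_2 lc_a_rc_4_2 lc_a_rc_5_0 lc_a_rc_5_2 lc_a_rc_3_2 lc_a_rc_3_2 lc_a_rc_1_4 lc_a_rc_22_0) (@D3.rec (fun _ => (Cert rels S Gen.a)) lc_a_rc_2_0 lc_a_rc_0_1 lc_a_rc_21_0 lc_a_rc_4_2 lc_a_rc_3_2 lc_a_rc_21_0 lc_a_rc_1_4 lc_a_rc_3_2 lc_a_rc_2_2 lc_a_rc_2_2 lc_a_rc_3_0 lc_a_rc_2_2 lc_a_rc_0_1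 lc_a_rc_3_2 lc_a_rc_2_2 lc_a_rc_3_2 lc_a_rc_4_2 lc_a_rc_21_0 lc_a_rc_4_0 lc_a_rc_2_2 lc_a_rc_5_2 lc_a_rc_3_0 lc_a_rc_2_2 lc_a_rc_0_1 lc_a_rc_21_0 lc_a_rc_2_2 lc_a_rc_4_2 lc_a_rc_21_0 lc_a_rc_2_2 lc_a_rc_4_2 lc_a_rc_21_0 lc_a_rc_0_1 lc_a_rc_2_2 lc_a_rc_2_2 lc_a_rc_4_2 lc_a_rc_5_2 lc_a_rc_3_2 lc_a_rc_3_2 lc_a_rc_4_2 lc_a_rc_5_2 lc_a_rc_5_2 lc_a_rc_0_1 lc_a_rc_3_2 lc_a_rc_3_2 lc_a_rc_3_2 lc_a_rc_3_2 lc_a_rc_22_0 lc_a_rc_3_2 lc_a_rc_3_0 lc_a_rc_3_2 lc_a_rc_21_0 lc_a_rc_3_0 lc_a_rc_0_1 lc_a_rc_3_0 lc_a_rc_3_0 lc_a_rc_3_0 lc_a_rc_2_2 lc_a_rc_2_0 lc_a_rc_3_0 lc_a_rc_21_0 lc_a_rc_4_2 lc_a_rc_0_1) (@D3.rec (fun _ => (Cert rels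 S Gen.a)) lc_a_rc_4_2 lc_a_rc_3_2 lc_a_rc_3_2 lc_a_rc_3_2 lc_a_rc_3_2 lc_a_rc_0_1 lc_a_rc_21_0 lc_a_rc_4_2 lc_a_rc_21_0 lc_a_rc_4_2 lc_a_rc_0_1 lc_a_rc_3_2 lc_a_rc_3_2 lc_a_rc_0_1 lc_a_rc_1_0 lc_a_rc_3_2 lc_a_rc_3_2 lc_a_rc_3_2 lc_a_rc_1_2 lc_a_rc_5_2 lc_a_rc_3_2 lc_a_rc_4_0 lc_a_rc_3_0 lc_a_rc_3_2 lc_a_rc_4_2 lc_a_rc_3_2 lc_a_rc_5_2 lc_a_rc_2_2 lc_a_rc_5_2 lc_a_rc_3_2 lc_a_rc_5_2 lc_a_rc_1_0 lc_a_rc_0_1 lc_a_rc_4_0 lc_a_rc_4_2 lc_a_rc_0_1 lc_a_rc_2_2 lc_a_rc_1_2 lc_a_rc_3_2 lc_a_rc_2_2 lc_a_rc_0_1 lc_a_rc_1_0 lc_a_rc_2_2 lc_a_rc_2_0 lc_a_rc_21_0 lc_a_rc_1_4 lc_a_rc_0_1 lc_a_rc_4_2 lc_a_rc_2_2 lc_a_rc_2_2 lc_a_rc_1_4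 lc_a_rc_0_1 lc_a_rc_3_2 lc_a_rc_2_2 lc_a_rc_0_1 lc_a_rc_4_0 lc_a_rc_5_2 lc_a_rc_5_0 lc_a_rc_5_2 lc_a_rc_3_2 lc_a_rc_3_0 lc_a_rc_4_2) (@D3.rec (fun _ => (Cert rels S Gen.a)) lc_a_rc_4_0 lc_a_rc_3_0 lc_a_rc_4_2 lc_a_rc_3_2 lc_a_rc_4_2 lc_a_rc_5_2 lc_a_rc_2_2 lc_a_rc_4_2 lc_a_rc_2_2 lc_a_rc_2_2 lc_a_rc_5_0 lc_a_rc_5_2 lc_a_rc_3_0 lc_a_rc_0_1 lc_a_rc_21_0 lc_a_rc_3_2 lc_a_rc_1_2 lc_a_rc_0_1 lc_a_rc_3_2 lc_a_rc_3_2 lc_a_rc_3_2 lc_a_rc_1_2 lc_a_rc_0_1 lc_a_rc_3_2 lc_a_rc_4_2 lc_a_rc_2_2 lc_a_rc_3_0 lc_a_Cert_tree lc_a_rc_2_2 lc_a_rc_3_2 lc_a_rc_4_2 lc_a_rc_2_2 lc_a_rc_2_0 lc_a_rc_3_0 lc_a_rc_2_2 lc_a_rc_3_2 lc_a_rc_3_0 lc_a_rc_3_2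 lc_a_rc_3_2 lc_a_rc_2_2 lc_a_rc_4_2 lc_a_rc_0_1 lc_a_rc_2_2 lc_a_rc_2_0 lc_a_rc_4_2 lc_a_rc_21_0 lc_a_rc_5_0 lc_a_rc_4_0 lc_a_rc_0_1 lc_a_rc_1_0 lc_a_rc_3_0 lc_a_rc_2_2 lc_a_rc_5_2 lc_a_rc_5_2 lc_a_rc_2_2 lc_a_rc_3_2 lc_a_rc_2_2 lc_a_rc_2_2 lc_a_rc_1_2 lc_a_rc_21_0 lc_a_rc_5_2 lc_a_rc_0_1) (@D3.rec (fun _ => (Cert rels S Gen.a)) lc_a_rc_3_2 lc_a_rc_2_2 lc_a_rc_2_0 lc_a_rc_0_1 lc_a_rc_0_1 lc_a_rc_2_0 lc_a_rc_5_0 lc_a_rc_2_0 lc_a_rc_3_2 lc_a_rc_3_0 lc_a_rc_2_2 lc_a_rc_1_4 lc_a_rc_3_0 lc_a_rc_21_0 lc_a_rc_4_2 lc_a_rc_5_2 lc_a_rc_1_4 lc_a_rc_3_2 lc_a_rc_21_0 lc_a_rc_3_0 lc_a_rc_4_0 lc_a_rc_1_2 lc_a_rc_0_1 lc_a_rc_1_2 lc_a_rc_3_0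 lc_a_rc_3_2 lc_a_rc_21_0 lc_a_rc_3_2 lc_a_rc_4_0 lc_a_rc_3_0 lc_a_rc_2_0 lc_a_rc_0_1 lc_a_rc_3_0 lc_a_rc_4_2 lc_a_rc_21_0 lc_a_rc_3_0 lc_a_rc_2_2 lc_a_rc_3_2 lc_a_rc_4_2 lc_a_rc_0_1 lc_a_rc_3_2 lc_a_rc_3_2 lc_a_rc_3_0 lc_a_rc_1_0 lc_a_rc_3_2 lc_a_rc_3_0 lc_a_rc_5_2 lc_a_rc_3_2 lc_a_rc_1_0 lc_a_rc_21_0 lc_a_rc_2_2 lc_a_rc_3_2 lc_a_rc_21_0 lc_a_rc_2_2 lc_a_rc_0_1 lc_a_rc_5_2 lc_a_rc_4_2 lc_a_rc_3_2 lc_a_rc_2_2 lc_a_rc_1_0 lc_a_rc_3_0 lc_a_rc_2_2) (@D3.rec (fun _ => (Cert rels S Gen.a)) lc_a_rc_4_2 lc_a_rc_3_2 lc_a_rc_4_2 lc_a_rc_3_2 lc_a_rc_3_2 lc_a_rc_2_2 lc_a_rc_2_2 lc_a_rc_2_0 lc_a_rc_0_1 lc_a_rc_2_2 lc_a_rc_1_2 lc_a_rc_4_2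 lc_a_rc_4_2 lc_a_rc_3_2 lc_a_rc_21_0 lc_a_rc_2_2 lc_a_rc_3_2 lc_a_rc_3_0 lc_a_rc_4_2 lc_a_rc_0_1 lc_a_rc_1_4 lc_a_rc_21_0 lc_a_rc_3_2 lc_a_rc_21_0 lc_a_rc_0_1 lc_a_rc_1_0 lc_a_rc_2_2 lc_a_rc_2_2 lc_a_rc_0_1 lc_a_rc_4_2 lc_a_rc_0_1 lc_a_rc_4_2 lc_a_rc_2_2 lc_a_rc_5_2 lc_a_rc_4_0 lc_a_rc_2_2 lc_a_rc_5_0 lc_a_rc_3_2 lc_a_rc_5_2 lc_a_rc_4_2 lc_a_rc_3_2 lc_a_rc_3_2 lc_a_rc_21_0 lc_a_rc_3_2 lc_a_rc_3_0 lc_a_rc_2_2 lc_a_rc_0_1 lc_a_rc_2_2 lc_a_rc_1_0 lc_a_rc_2_0 lc_a_rc_2_2 lc_a_rc_2_2 lc_a_rc_3_2 lc_a_rc_2_2 lc_a_rc_0_1 lc_a_rc_3_2 lc_a_rc_0_1 lc_a_rc_4_2 lc_a_rc_21_0 lc_a_rc_3_2 lc_a_rc_4_0 lc_a_rc_1_4) (@D3.rec (fun _ =>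 (Cert rels S Gen.a)) lc_a_rc_3_2 lc_a_Cert_tree lc_a_rc_3_2 lc_a_rc_2_2 lc_a_rc_21_0 lc_a_rc_2_2 lc_a_rc_5_0 lc_a_rc_2_2 lc_a_rc_4_2 lc_a_rc_22_0 lc_a_rc_5_2 lc_a_rc_3_0 lc_a_rc_2_0 lc_a_rc_5_2 lc_a_rc_2_2 lc_a_rc_2_2 lc_a_rc_0_1 lc_a_rc_1_2 lc_a_rc_1_4 lc_a_rc_21_0 lc_a_rc_0_1 lc_a_rc_0_1 lc_a_rc_4_2 lc_a_rc_22_0 lc_a_rc_2_2 lc_a_rc_3_2 lc_a_rc_0_1 lc_a_rc_2_2 lc_a_rc_21_0 lc_a_rc_2_0 lc_a_rc_2_2 lc_a_rc_3_2 lc_a_rc_3_0 lc_a_rc_3_0 lc_a_rc_3_2 lc_a_rc_4_2 lc_a_rc_21_0 lc_a_rc_21_0 lc_a_rc_2_2 lc_a_rc_0_1 lc_a_rc_3_2 lc_a_rc_3_0 lc_a_rc_22_0 lc_a_rc_21_0 lc_a_rc_4_0 lc_a_rc_4_2 lc_a_rc_4_2 lc_a_rc_5_2 lc_a_rc_3_2 lc_a_rc_2_2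 lc_a_rc_3_2 lc_a_rc_3_2 lc_a_rc_2_2 lc_a_rc_5_2 lc_a_rc_21_0 lc_a_rc_3_0 lc_a_rc_4_0 lc_a_rc_2_2 lc_a_rc_2_2 lc_a_rc_1_2 lc_a_rc_3_2 lc_a_rc_5_0) (@D3.rec (fun _ => (Cert rels S Gen.a)) lc_a_rc_4_2 lc_a_rc_21_0 lc_a_rc_2_2 lc_a_rc_3_2 lc_a_rc_5_2 lc_a_rc_3_2 lc_a_rc_21_0 lc_a_rc_2_2 lc_a_rc_1_4 lc_a_rc_4_0 lc_a_rc_2_2 lc_a_rc_5_2 lc_a_rc_3_2 lc_a_rc_2_2 lc_a_rc_2_0 lc_a_rc_21_0 lc_a_rc_21_0 lc_a_rc_0_1 lc_a_rc_22_0 lc_a_rc_3_0 lc_a_rc_3_0 lc_a_rc_2_0 lc_a_rc_21_0 lc_a_rc_4_2 lc_a_rc_3_2 lc_a_rc_22_0 lc_a_rc_4_0 lc_a_rc_0_1 lc_a_rc_0_1 lc_a_rc_4_2 lc_a_rc_4_2 lc_a_rc_5_2 lc_a_rc_2_0 lc_a_rc_0_1 lc_a_rc_21_0 lc_a_rc_21_0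 lc_a_rc_21_0 lc_a_rc_5_2 lc_a_rc_5_2 lc_a_rc_2_2 lc_a_rc_3_0 lc_a_rc_2_2 lc_a_rc_1_4 lc_a_rc_2_2 lc_a_rc_5_0 lc_a_rc_4_2 lc_a_rc_2_0 lc_a_rc_2_2 lc_a_rc_2_2 lc_a_rc_3_2 lc_a_rc_3_0 lc_a_rc_4_2 lc_a_rc_2_2 lc_a_rc_4_2 lc_a_rc_4_2 lc_a_rc_4_0 lc_a_rc_4_2 lc_a_rc_5_2 lc_a_rc_2_0 lc_a_rc_0_1 lc_a_rc_4_0 lc_a_rc_4_2) (@D3.rec (fun _ => (Cert rels S Gen.a)) lc_a_rc_2_2 lc_a_rc_4_2 lc_a_rc_0_1 lc_a_rc_22_0 lc_a_rc_21_0 lc_a_rc_3_2 lc_a_rc_3_0 lc_a_rc_3_2 lc_a_rc_1_4 lc_a_rc_22_0 lc_a_rc_4_0 lc_a_rc_0_1 lc_a_rc_4_2 lc_a_rc_2_0 lc_a_rc_2_0 lc_a_rc_3_2 lc_a_rc_0_1 lc_a_rc_4_2 lc_a_rc_2_0 lc_a_rc_3_2 lc_a_rc_4_2 lc_a_rc_5_2 lc_a_rc_4_2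 lc_a_rc_0_1 lc_a_rc_5_2 lc_a_rc_21_0 lc_a_rc_4_2 lc_a_rc_2_2 lc_a_rc_2_0 lc_a_rc_22_0 lc_a_rc_3_2 lc_a_rc_0_1 lc_a_rc_2_0 lc_a_rc_0_1 lc_a_rc_4_2 lc_a_rc_4_2 lc_a_rc_3_2 lc_a_rc_2_2 lc_a_rc_21_0 lc_a_rc_1_4 lc_a_rc_3_2 lc_a_rc_1_0 lc_a_rc_2_0 lc_a_rc_2_0 lc_a_rc_2_2 lc_a_rc_0_1 lc_a_rc_0_1 lc_a_rc_5_2 lc_a_rc_5_2 lc_a_rc_1_2 lc_a_rc_0_1 lc_a_rc_3_2 lc_a_rc_4_2 lc_a_rc_3_2 lc_a_rc_5_0 lc_a_rc_3_0 lc_a_rc_21_0 lc_a_rc_1_4 lc_a_rc_3_2 lc_a_rc_21_0 lc_a_rc_1_4 lc_a_rc_3_2) (@D3.rec (fun _ => (Cert rels S Gen.a)) lc_a_rc_4_2 lc_a_rc_4_2 lc_a_rc_21_0 lc_a_rc_1_2 lc_a_rc_1_2 lc_a_rc_5_2 lc_a_rc_5_2 lc_a_rc_5_2 lc_a_rc_3_0 lc_a_rc_3_0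 lc_a_rc_2_2 lc_a_rc_4_2 lc_a_rc_2_0 lc_a_rc_1_4 lc_a_rc_4_2 lc_a_rc_21_0 lc_a_rc_4_2 lc_a_rc_4_2 lc_a_rc_3_2 lc_a_rc_4_2 lc_a_rc_1_2 lc_a_rc_1_4 lc_a_rc_1_4 lc_a_rc_2_2 lc_a_rc_0_1 lc_a_rc_21_0 lc_a_rc_3_2 lc_a_rc_4_2 lc_a_rc_5_2 lc_a_rc_3_2 lc_a_rc_4_2 lc_a_rc_5_2 lc_a_rc_2_2 lc_a_rc_0_1 lc_a_rc_4_2 lc_a_rc_3_0 lc_a_rc_3_2 lc_a_rc_21_0 lc_a_rc_2_2 lc_a_rc_1_4 lc_a_rc_3_0 lc_a_rc_3_0 lc_a_rc_4_2 lc_a_rc_3_2 lc_a_rc_1_4 lc_a_rc_4_2 lc_a_rc_3_2 lc_a_rc_4_0 lc_a_rc_0_1 lc_a_rc_5_2 lc_a_rc_21_0 lc_a_rc_21_0 lc_a_rc_2_2 lc_a_rc_4_0 lc_a_rc_0_1 lc_a_rc_1_2 lc_a_rc_0_1 lc_a_rc_5_0 lc_a_rc_4_2 lc_a_rc_4_0 lc_a_rc_0_1 lc_a_Cert_tree)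 (@D3.rec (fun _ => (Cert rels S Gen.a)) lc_a_rc_21_0 lc_a_rc_4_0 lc_a_rc_0_1 lc_a_rc_4_2 lc_a_rc_1_4 lc_a_rc_21_0 lc_a_rc_2_0 lc_a_rc_3_2 lc_a_rc_3_0 lc_a_rc_22_0 lc_a_rc_4_2 lc_a_rc_1_2 lc_a_rc_3_0 lc_a_rc_1_4 lc_a_rc_21_0 lc_a_rc_0_1 lc_a_rc_3_2 lc_a_rc_5_2 lc_a_rc_0_1 lc_a_rc_0_1 lc_a_rc_5_0 lc_a_rc_2_2 lc_a_rc_4_0 lc_a_rc_1_2 lc_a_rc_0_1 lc_a_rc_3_2 lc_a_rc_3_2 lc_a_rc_3_2 lc_a_rc_0_1 lc_a_rc_4_2 lc_a_rc_0_1 lc_a_rc_0_1 lc_a_rc_4_0 lc_a_rc_1_4 lc_a_rc_3_2 lc_a_rc_0_1 lc_a_rc_4_2 lc_a_rc_21_0 lc_a_rc_2_2 lc_a_rc_5_2 lc_a_rc_2_2 lc_a_rc_3_2 lc_a_rc_3_2 lc_a_rc_2_2 lc_a_rc_0_1 lc_a_rc_0_1 lc_a_rc_4_2 lc_a_rc_1_4 lc_a_rc_2_2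 lc_a_rc_21_0 lc_a_rc_3_2 lc_a_rc_2_2 lc_a_rc_0_1 lc_a_rc_2_2 lc_a_rc_4_2 lc_a_rc_3_2 lc_a_rc_3_0 lc_a_rc_3_0 lc_a_rc_1_2 lc_a_rc_2_0 lc_a_rc_3_0 lc_a_rc_2_2) (@D3.rec (fun _ => (Cert rels S Gen.a)) lc_a_rc_3_2 lc_a_rc_3_0 lc_a_rc_4_2 lc_a_rc_4_2 lc_a_rc_0_1 lc_a_rc_2_0 lc_a_rc_3_2 lc_a_rc_4_2 lc_a_rc_3_2 lc_a_rc_1_2 lc_a_rc_3_0 lc_a_rc_3_2 lc_a_rc_3_0 lc_a_rc_1_4 lc_a_rc_3_2 lc_a_rc_3_2 lc_a_rc_0_1 lc_a_rc_3_0 lc_a_rc_2_2 lc_a_rc_4_2 lc_a_rc_3_2 lc_a_rc_3_2 lc_a_rc_2_2 lc_a_rc_3_0 lc_a_rc_4_2 lc_a_rc_3_0 lc_a_rc_2_0 lc_a_rc_3_0 lc_a_rc_4_2 lc_a_rc_3_2 lc_a_rc_21_0 lc_a_Cert_tree lc_a_rc_4_2 lc_a_rc_4_2 lc_a_rc_5_2 lc_a_rc_0_1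 lc_a_rc_3_2 lc_a_rc_0_1 lc_a_rc_2_0 lc_a_rc_3_2 lc_a_rc_2_2 lc_a_rc_0_1 lc_a_rc_21_0 lc_a_rc_5_0 lc_a_rc_4_2 lc_a_rc_3_2 lc_a_rc_5_2 lc_a_rc_3_0 lc_a_rc_3_2 lc_a_rc_1_0 lc_a_rc_2_2 lc_a_rc_4_2 lc_a_rc_2_0 lc_a_rc_2_2 lc_a_rc_4_2 lc_a_rc_3_0 lc_a_rc_2_2 lc_a_rc_2_2 lc_a_rc_3_2 lc_a_rc_5_2 lc_a_rc_3_2 lc_a_rc_3_2) (@D3.rec (fun _ => (Cert rels S Gen.a)) lc_a_rc_3_2 lc_a_rc_21_0 lc_a_rc_4_2 lc_a_rc_2_0 lc_a_rc_21_0 lc_a_rc_5_2 lc_a_rc_4_2 lc_a_rc_3_2 lc_a_rc_5_0 lc_a_rc_2_2 lc_a_rc_3_2 lc_a_rc_2_2 lc_a_rc_0_1 lc_a_rc_4_2 lc_a_rc_1_4 lc_a_rc_2_2 lc_a_rc_2_2 lc_a_rc_3_2 lc_a_rc_5_2 lc_a_rc_2_0 lc_a_rc_2_2 lc_a_rc_3_2 lc_a_rc_0_1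 lc_a_rc_2_2 lc_a_rc_2_2 lc_a_rc_2_0 lc_a_rc_3_2 lc_a_rc_22_0 lc_a_rc_3_2 lc_a_rc_5_2 lc_a_rc_2_2 lc_a_rc_2_2 lc_a_rc_2_2 lc_a_rc_2_0 lc_a_rc_2_2 lc_a_rc_4_2 lc_a_rc_22_0 lc_a_rc_0_1 lc_a_rc_0_1 lc_a_rc_0_1 lc_a_rc_4_2 lc_a_rc_5_0 lc_a_rc_2_2 lc_a_rc_1_2 lc_a_rc_4_2 lc_a_rc_4_2 lc_a_rc_4_2 lc_a_rc_2_2 lc_a_rc_3_2 lc_a_rc_0_1 lc_a_rc_21_0 lc_a_rc_3_2 lc_a_rc_2_2 lc_a_rc_3_0 lc_a_rc_2_2 lc_a_rc_4_2 lc_a_rc_4_2 lc_a_rc_3_2 lc_a_rc_2_2 lc_a_rc_1_2 lc_a_rc_4_2 lc_a_rc_1_2) (@D3.rec (fun _ => (Cert rels S Gen.a)) lc_a_rc_4_2 lc_a_rc_21_0 lc_a_rc_2_2 lc_a_rc_4_2 lc_a_rc_2_2 lc_a_rc_3_2 lc_a_rc_21_0 lc_a_rc_3_2 lc_a_rc_2_0 lc_a_rc_0_1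 lc_a_rc_21_0 lc_a_rc_2_2 lc_a_rc_4_0 lc_a_rc_5_0 lc_a_rc_21_0 lc_a_rc_5_2 lc_a_rc_1_4 lc_a_rc_0_1 lc_a_rc_2_2 lc_a_rc_2_2 lc_a_rc_2_0 lc_a_rc_3_0 lc_a_rc_2_2 lc_a_rc_4_0 lc_a_rc_4_0 lc_a_rc_0_1 lc_a_rc_4_2 lc_a_rc_2_0 lc_a_rc_2_2 lc_a_rc_0_1 lc_a_rc_2_0 lc_a_rc_3_2 lc_a_rc_22_0 lc_a_rc_2_0 lc_a_rc_1_4 lc_a_rc_22_0 lc_a_rc_2_0 lc_a_rc_0_1 lc_a_rc_21_0 lc_a_rc_4_2 lc_a_rc_2_2 lc_a_rc_3_2 lc_a_rc_5_2 lc_a_rc_2_2 lc_a_rc_4_2 lc_a_rc_1_4 lc_a_rc_2_2 lc_a_rc_1_4 lc_a_rc_0_1 lc_a_rc_4_2 lc_a_rc_3_2 lc_a_rc_3_2 lc_a_rc_4_2 lc_a_rc_3_0 lc_a_rc_4_0 lc_a_rc_4_2 lc_a_rc_4_0 lc_a_rc_2_2 lc_a_rc_3_2 lc_a_rc_3_2 lc_a_rc_2_2 lc_a_rc_3_2)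 (@D3.rec (fun _ => (Cert rels S Gen.a)) lc_a_rc_3_2 lc_a_rc_3_0 lc_a_rc_3_0 lc_a_rc_21_0 lc_a_rc_2_0 lc_a_rc_4_2 lc_a_rc_5_2 lc_a_rc_21_0 lc_a_rc_3_2 lc_a_rc_3_2 lc_a_rc_2_2 lc_a_rc_3_2 lc_a_rc_1_4 lc_a_rc_0_1 lc_a_rc_0_1 lc_a_rc_22_0 lc_a_rc_3_2 lc_a_rc_4_2 lc_a_rc_4_2 lc_a_rc_3_2 lc_a_rc_4_2 lc_a_rc_21_0 lc_a_rc_21_0 lc_a_rc_3_2 lc_a_rc_3_0 lc_a_rc_4_2 lc_a_rc_5_2 lc_a_rc_3_2 lc_a_rc_0_1 lc_a_rc_21_0 lc_a_rc_4_2 lc_a_rc_0_1 lc_a_rc_0_1 lc_a_rc_3_2 lc_a_rc_2_2 lc_a_rc_2_2 lc_a_rc_2_2 lc_a_rc_4_2 lc_a_rc_21_0 lc_a_rc_4_2 lc_a_rc_21_0 lc_a_rc_4_2 lc_a_rc_2_2 lc_a_rc_1_2 lc_a_rc_5_2 lc_a_rc_3_2 lc_a_rc_4_2 lc_a_rc_4_0 lc_a_rc_2_2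 lc_a_rc_4_2 lc_a_rc_0_1 lc_a_rc_1_4 lc_a_rc_22_0 lc_a_rc_3_0 lc_a_rc_3_0 lc_a_rc_3_0 lc_a_rc_4_2 lc_a_rc_0_1 lc_a_rc_4_2 lc_a_rc_2_0 lc_a_rc_4_2 lc_a_rc_3_0) (@D3.rec (fun _ => (Cert rels S Gen.a)) lc_a_rc_3_0 lc_a_rc_3_2 lc_a_rc_3_2 lc_a_rc_3_2 lc_a_rc_2_2 lc_a_rc_3_0 lc_a_rc_2_2 lc_a_rc_3_2 lc_a_rc_0_1 lc_a_rc_2_2 lc_a_rc_3_2 lc_a_rc_2_2 lc_a_rc_5_2 lc_a_rc_21_0 lc_a_rc_1_0 lc_a_rc_3_2 lc_a_rc_3_2 lc_a_rc_4_2 lc_a_rc_21_0 lc_a_rc_3_2 lc_a_rc_4_0 lc_a_rc_3_0 lc_a_rc_1_0 lc_a_rc_2_0 lc_a_rc_3_2 lc_a_rc_4_2 lc_a_rc_2_2 lc_a_rc_0_1 lc_a_rc_4_2 lc_a_rc_3_2 lc_a_rc_4_2 lc_a_rc_2_0 lc_a_rc_1_2 lc_a_rc_21_0 lc_a_rc_21_0 lc_a_rc_2_0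 lc_a_rc_4_0 lc_a_rc_1_2 lc_a_rc_3_2 lc_a_rc_2_2 lc_a_rc_2_0 lc_a_rc_2_2 lc_a_rc_2_2 lc_a_rc_21_0 lc_a_rc_4_2 lc_a_rc_21_0 lc_a_rc_5_2 lc_a_rc_21_0 lc_a_rc_2_2 lc_a_rc_22_0 lc_a_rc_0_1 lc_a_rc_3_0 lc_a_rc_2_0 lc_a_rc_2_2 lc_a_rc_2_0 lc_a_rc_5_2 lc_a_rc_21_0 lc_a_rc_3_0 lc_a_rc_3_0 lc_a_rc_2_0 lc_a_rc_21_0 lc_a_rc_0_1) (@D3.rec (fun _ => (Cert rels S Gen.a)) lc_a_rc_2_2 lc_a_rc_0_1 lc_a_rc_2_2 lc_a_rc_3_2 lc_a_rc_1_4 lc_a_rc_4_0 lc_a_rc_3_2 lc_a_rc_2_2 lc_a_rc_2_0 lc_a_rc_1_4 lc_a_rc_3_2 lc_a_rc_0_1 lc_a_rc_0_1 lc_a_rc_3_0 lc_a_rc_2_2 lc_a_rc_2_2 lc_a_rc_1_2 lc_a_rc_2_0 lc_a_rc_21_0 lc_a_rc_3_2 lc_a_rc_3_2 lc_a_rc_21_0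 lc_a_rc_4_2 lc_a_rc_0_1 lc_a_rc_2_2 lc_a_rc_3_2 lc_a_rc_2_2 lc_a_rc_3_2 lc_a_rc_21_0 lc_a_rc_0_1 lc_a_rc_1_2 lc_a_rc_1_2 lc_a_rc_2_2 lc_a_rc_2_0 lc_a_rc_22_0 lc_a_rc_4_0 lc_a_rc_1_0 lc_a_rc_2_2 lc_a_rc_2_0 lc_a_rc_2_2 lc_a_rc_4_2 lc_a_rc_5_0 lc_a_rc_3_2 lc_a_rc_21_0 lc_a_rc_4_2 lc_a_rc_0_1 lc_a_rc_4_2 lc_a_rc_3_2 lc_a_rc_5_0 lc_a_rc_3_2 lc_a_rc_4_2 lc_a_rc_21_0 lc_a_rc_4_2 lc_a_rc_3_2 lc_a_rc_2_2 lc_a_rc_2_2 lc_a_rc_1_2 lc_a_rc_1_2 lc_a_rc_4_0 lc_a_rc_3_2 lc_a_rc_3_2 lc_a_rc_4_2) (@D3.rec (fun _ => (Cert rels S Gen.a)) lc_a_rc_2_0 lc_a_rc_5_2 lc_a_rc_3_2 lc_a_rc_2_2 lc_a_rc_1_2 lc_a_rc_3_0 lc_a_rc_3_0 lc_a_rc_2_2 lc_a_rc_3_2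 lc_a_rc_3_2 lc_a_rc_4_2 lc_a_rc_21_0 lc_a_rc_4_2 lc_a_rc_21_0 lc_a_rc_2_2 lc_a_rc_0_1 lc_a_rc_3_2 lc_a_rc_2_2 lc_a_rc_0_1 lc_a_rc_0_1 lc_a_rc_0_1 lc_a_rc_5_2 lc_a_rc_4_2 lc_a_rc_3_2 lc_a_rc_22_0 lc_a_rc_0_1 lc_a_rc_21_0 lc_a_rc_21_0 lc_a_rc_0_1 lc_a_rc_2_2 lc_a_rc_0_1 lc_a_rc_1_4 lc_a_rc_1_2 lc_a_rc_2_2 lc_a_rc_3_2 lc_a_rc_3_2 lc_a_rc_1_2 lc_a_rc_1_2 lc_a_rc_3_2 lc_a_rc_2_0 lc_a_rc_2_2 lc_a_rc_2_0 lc_a_rc_3_2 lc_a_rc_5_2 lc_a_rc_5_0 lc_a_rc_4_2 lc_a_rc_1_2 lc_a_rc_3_2 lc_a_rc_4_2 lc_a_rc_4_2 lc_a_rc_0_1 lc_a_rc_5_2 lc_a_rc_1_4 lc_a_rc_3_2 lc_a_rc_2_2 lc_a_rc_4_2 lc_a_rc_4_2 lc_a_rc_4_2 lc_a_rc_2_0 lc_a_rc_0_1 lc_a_rc_4_2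 lc_a_rc_5_2) (@D3.rec (fun _ => (Cert rels S Gen.a)) lc_a_rc_3_2 lc_a_rc_2_2 lc_a_rc_2_2 lc_a_rc_21_0 lc_a_rc_4_0 lc_a_rc_3_0 lc_a_rc_0_1 lc_a_rc_5_0 lc_a_rc_4_2 lc_a_rc_2_2 lc_a_rc_1_4 lc_a_rc_3_2 lc_a_rc_1_0 lc_a_rc_0_1 lc_a_rc_2_2 lc_a_rc_3_2 lc_a_rc_2_2 lc_a_rc_3_2 lc_a_rc_5_2 lc_a_rc_1_2 lc_a_rc_2_2 lc_a_rc_2_2 lc_a_rc_5_0 lc_a_rc_2_2 lc_a_rc_3_0 lc_a_rc_4_2 lc_a_rc_4_2 lc_a_rc_0_1 lc_a_rc_3_2 lc_a_rc_1_2 lc_a_rc_0_1 lc_a_rc_3_0 lc_a_rc_3_0 lc_a_rc_21_0 lc_a_rc_2_2 lc_a_rc_2_2 lc_a_rc_3_2 lc_a_rc_1_2 lc_a_rc_4_2 lc_a_rc_5_0 lc_a_rc_4_2 lc_a_rc_5_2 lc_a_rc_3_2 lc_a_rc_4_2 lc_a_rc_4_0 lc_a_rc_2_0 lc_a_rc_5_2 lc_a_rc_3_0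 lc_a_rc_4_2 lc_a_rc_3_0 lc_a_rc_4_2 lc_a_rc_2_0 lc_a_rc_2_2 lc_a_rc_4_2 lc_a_rc_0_1 lc_a_rc_4_2 lc_a_rc_21_0 lc_a_rc_4_2 lc_a_rc_0_1 lc_a_rc_5_0 lc_a_rc_21_0 lc_a_rc_4_2) (@D3.rec (fun _ => (Cert rels S Gen.a)) lc_a_rc_3_0 lc_a_rc_1_2 lc_a_rc_3_2 lc_a_rc_5_2 lc_a_rc_3_2 lc_a_rc_4_2 lc_a_rc_21_0 lc_a_rc_4_2 lc_a_rc_3_0 lc_a_rc_21_0 lc_a_rc_5_2 lc_a_rc_21_0 lc_a_rc_2_2 lc_a_rc_1_4 lc_a_rc_1_2 lc_a_rc_2_2 lc_a_rc_0_1 lc_a_rc_2_0 lc_a_rc_3_2 lc_a_rc_5_2 lc_a_rc_2_2 lc_a_rc_4_2 lc_a_rc_1_4 lc_a_rc_2_0 lc_a_rc_0_1 lc_a_rc_1_4 lc_a_rc_4_2 lc_a_rc_2_2 lc_a_rc_5_2 lc_a_rc_2_2 lc_a_rc_2_2 lc_a_rc_2_2 lc_a_rc_1_2 lc_a_rc_2_2 lc_a_rc_4_2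 lc_a_rc_22_0 lc_a_rc_5_0 lc_a_rc_4_2 lc_a_rc_1_4 lc_a_rc_1_2 lc_a_rc_3_2 lc_a_rc_1_4 lc_a_rc_2_2 lc_a_rc_4_2 lc_a_rc_3_2 lc_a_rc_1_4 lc_a_rc_2_0 lc_a_rc_0_1 lc_a_rc_3_0 lc_a_rc_4_0 lc_a_rc_2_2 lc_a_rc_0_1 lc_a_rc_3_2 lc_a_rc_4_2 lc_a_rc_1_0 lc_a_rc_2_2 lc_a_rc_4_2 lc_a_rc_3_2 lc_a_rc_5_2 lc_a_rc_3_2 lc_a_rc_3_2 lc_a_rc_1_4) (@D3.rec (fun _ => (Cert rels S Gen.a)) lc_a_rc_3_2 lc_a_rc_3_2 lc_a_rc_4_2 lc_a_rc_3_0 lc_a_rc_1_2 lc_a_rc_4_2 lc_a_rc_1_2 lc_a_rc_0_1 lc_a_rc_2_2 lc_a_rc_4_2 lc_a_rc_21_0 lc_a_rc_3_0 lc_a_rc_0_1 lc_a_rc_2_2 lc_a_rc_22_0 lc_a_rc_22_0 lc_a_rc_2_2 lc_a_rc_3_2 lc_a_rc_3_2 lc_a_rc_21_0 lc_a_rc_2_2 lc_a_rc_21_0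 lc_a_rc_4_2 lc_a_rc_1_2 lc_a_rc_3_2 lc_a_Cert_tree lc_a_rc_3_0 lc_a_rc_2_2 lc_a_rc_2_0 lc_a_rc_4_2 lc_a_rc_4_2 lc_a_rc_21_0 lc_a_rc_22_0 lc_a_rc_21_0 lc_a_rc_3_0 lc_a_rc_22_0 lc_a_rc_2_2 lc_a_rc_0_1 lc_a_rc_3_2 lc_a_rc_2_2 lc_a_rc_4_2 lc_a_rc_2_2 lc_a_rc_2_2 lc_a_rc_4_2 lc_a_rc_4_0 lc_a_rc_0_1 lc_a_rc_3_2 lc_a_rc_3_0 lc_a_rc_3_0 lc_a_rc_4_0 lc_a_rc_5_2 lc_a_rc_3_2 lc_a_rc_4_2 lc_a_rc_0_1 lc_a_rc_3_0 lc_a_rc_0_1 lc_a_rc_3_2 lc_a_rc_0_1 lc_a_rc_3_2 lc_a_rc_5_2 lc_a_rc_2_0 lc_a_rc_3_0) (@D3.rec (fun _ => (Cert rels S Gen.a)) lc_a_rc_3_0 lc_a_rc_1_2 lc_a_rc_0_1 lc_a_rc_4_2 lc_a_rc_3_2 lc_a_rc_3_2 lc_a_rc_4_2 lc_a_rc_2_2 lc_a_rc_2_2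 lc_a_rc_2_0 lc_a_rc_0_1 lc_a_rc_4_2 lc_a_rc_3_2 lc_a_rc_2_2 lc_a_rc_3_2 lc_a_rc_2_2 lc_a_rc_4_0 lc_a_rc_4_2 lc_a_rc_21_0 lc_a_rc_5_0 lc_a_rc_3_2 lc_a_rc_5_2 lc_a_rc_5_0 lc_a_rc_4_2 lc_a_rc_1_0 lc_a_rc_2_2 lc_a_rc_4_2 lc_a_rc_0_1 lc_a_rc_2_0 lc_a_rc_4_2 lc_a_rc_2_2 lc_a_rc_21_0 lc_a_rc_2_2 lc_a_rc_4_2 lc_a_rc_22_0 lc_a_rc_2_2 lc_a_rc_4_2 lc_a_rc_2_2 lc_a_rc_4_2 lc_a_rc_3_2 lc_a_rc_1_4 lc_a_rc_3_0 lc_a_rc_2_2 lc_a_rc_5_2 lc_a_rc_21_0 lc_a_rc_2_0 lc_a_rc_4_2 lc_a_rc_2_2 lc_a_rc_22_0 lc_a_rc_2_2 lc_a_rc_1_0 lc_a_rc_1_2 lc_a_rc_2_2 lc_a_rc_21_0 lc_a_rc_3_2 lc_a_rc_0_1 lc_a_rc_5_2 lc_a_rc_0_1 lc_a_rc_0_1 lc_a_rc_4_0 lc_a_rc_2_0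 lc_a_rc_0_1) (@D3.rec (fun _ => (Cert rels S Gen.a)) lc_a_rc_2_2 lc_a_rc_1_4 lc_a_rc_2_0 lc_a_rc_4_2 lc_a_rc_1_4 lc_a_rc_1_4 lc_a_rc_2_2 lc_a_rc_4_2 lc_a_rc_3_2 lc_a_rc_3_2 lc_a_rc_0_1 lc_a_rc_4_2 lc_a_rc_4_0 lc_a_rc_4_2 lc_a_rc_2_2 lc_a_rc_21_0 lc_a_rc_21_0 lc_a_rc_0_1 lc_a_rc_4_2 lc_a_rc_2_2 lc_a_rc_0_1 lc_a_rc_4_0 lc_a_rc_2_2 lc_a_rc_4_0 lc_a_rc_0_1 lc_a_rc_22_0 lc_a_rc_3_2 lc_a_rc_2_2 lc_a_rc_2_0 lc_a_rc_2_2 lc_a_rc_3_2 lc_a_rc_4_2 lc_a_rc_4_2 lc_a_rc_3_2 lc_a_rc_3_2 lc_a_rc_2_2 lc_a_rc_2_2 lc_a_rc_4_2 lc_a_rc_0_1 lc_a_rc_3_2 lc_a_rc_0_1 lc_a_rc_1_4 lc_a_rc_0_1 lc_a_rc_3_2 lc_a_rc_2_2 lc_a_rc_0_1 lc_a_rc_0_1 lc_a_rc_5_0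 lc_a_rc_0_1 lc_a_rc_4_0 lc_a_rc_0_1 lc_a_rc_1_0 lc_a_rc_2_2 lc_a_rc_3_2 lc_a_rc_4_2 lc_a_rc_3_2 lc_a_rc_3_0 lc_a_rc_1_2 lc_a_rc_2_2 lc_a_rc_4_2 lc_a_rc_3_2 lc_a_rc_3_2) (@D3.rec (fun _ => (Cert rels S Gen.a)) lc_a_rc_4_0 lc_a_rc_4_2 lc_a_rc_4_2 lc_a_rc_3_0 lc_a_rc_0_1 lc_a_rc_2_0 lc_a_rc_21_0 lc_a_rc_4_2 lc_a_rc_3_2 lc_a_rc_5_2 lc_a_rc_4_2 lc_a_rc_3_2 lc_a_rc_4_2 lc_a_rc_4_0 lc_a_rc_3_2 lc_a_rc_21_0 lc_a_rc_1_4 lc_a_rc_1_4 lc_a_rc_1_0 lc_a_rc_5_0 lc_a_rc_22_0 lc_a_rc_5_2 lc_a_rc_5_0 lc_a_rc_5_0 lc_a_rc_3_2 lc_a_rc_0_1 lc_a_rc_5_2 lc_a_rc_2_2 lc_a_rc_0_1 lc_a_rc_1_2 lc_a_rc_3_2 lc_a_rc_4_2 lc_a_rc_0_1 lc_a_rc_4_2 lc_a_rc_1_0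 lc_a_rc_21_0 lc_a_rc_4_2 lc_a_rc_4_2 lc_a_rc_0_1 lc_a_rc_1_0 lc_a_rc_3_2 lc_a_rc_21_0 lc_a_rc_3_0 lc_a_rc_5_2 lc_a_rc_4_2 lc_a_rc_1_4 lc_a_rc_3_2 lc_a_rc_4_2 lc_a_rc_2_2 lc_a_rc_0_1 lc_a_rc_3_2 lc_a_rc_1_4 lc_a_rc_3_2 lc_a_rc_3_2 lc_a_rc_0_1 lc_a_rc_2_2 lc_a_rc_5_2 lc_a_rc_4_2 lc_a_rc_3_0 lc_a_rc_2_2 lc_a_rc_0_1 lc_a_rc_0_1) (@D3.rec (fun _ => (Cert rels S Gen.a)) lc_a_rc_2_2 lc_a_rc_1_2 lc_a_rc_2_0 lc_a_rc_3_2 lc_a_rc_0_1 lc_a_rc_0_1 lc_a_rc_5_2 lc_a_rc_0_1 lc_a_rc_0_1 lc_a_rc_4_2 lc_a_rc_2_2 lc_a_rc_1_0 lc_a_rc_3_2 lc_a_rc_4_2 lc_a_rc_4_2 lc_a_rc_3_2 lc_a_rc_2_2 lc_a_rc_3_0 lc_a_rc_1_2 lc_a_rc_2_0 lc_a_rc_0_1 lc_a_rc_4_2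 lc_a_rc_5_2 lc_a_rc_4_2 lc_a_rc_2_2 lc_a_rc_4_2 lc_a_rc_5_2 lc_a_rc_2_2 lc_a_rc_0_1 lc_a_rc_4_2 lc_a_rc_2_2 lc_a_rc_4_2 lc_a_rc_2_2 lc_a_rc_1_4 lc_a_rc_3_2 lc_a_rc_21_0 lc_a_rc_2_2 lc_a_rc_21_0 lc_a_rc_1_2 lc_a_rc_3_0 lc_a_rc_4_2 lc_a_rc_4_2 lc_a_rc_3_2 lc_a_rc_1_2 lc_a_rc_0_1 lc_a_rc_2_2 lc_a_rc_5_0 lc_a_rc_2_2 lc_a_rc_3_2 lc_a_rc_4_2 lc_a_rc_3_0 lc_a_rc_3_2 lc_a_rc_22_0 lc_a_rc_1_4 lc_a_rc_1_2 lc_a_rc_2_2 lc_a_rc_3_0 lc_a_rc_4_0 lc_a_rc_4_2 lc_a_rc_21_0 lc_a_rc_2_2 lc_a_rc_2_2) (@D3.rec (fun _ => (Cert rels S Gen.a)) lc_a_rc_2_0 lc_a_rc_4_2 lc_a_rc_2_2 lc_a_rc_4_2 lc_a_rc_2_2 lc_a_rc_4_2 lc_a_rc_21_0 lc_a_rc_4_2 lc_a_rc_3_2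 lc_a_rc_4_2 lc_a_rc_2_2 lc_a_rc_0_1 lc_a_rc_3_0 lc_a_rc_4_2 lc_a_rc_21_0 lc_a_rc_2_2 lc_a_rc_4_2 lc_a_rc_3_2 lc_a_rc_3_2 lc_a_rc_2_2 lc_a_rc_4_2 lc_a_rc_21_0 lc_a_rc_3_2 lc_a_rc_4_2 lc_a_rc_0_1 lc_a_rc_2_2 lc_a_rc_4_2 lc_a_rc_21_0 lc_a_rc_3_2 lc_a_rc_1_2 lc_a_rc_1_2 lc_a_rc_2_2 lc_a_rc_3_2 lc_a_rc_5_2 lc_a_rc_5_0 lc_a_rc_0_1 lc_a_rc_3_2 lc_a_rc_2_2 lc_a_rc_3_2 lc_a_rc_2_2 lc_a_rc_5_2 lc_a_rc_21_0 lc_a_rc_3_2 lc_a_rc_2_2 lc_a_rc_3_2 lc_a_rc_2_2 lc_a_rc_21_0 lc_a_rc_0_1 lc_a_rc_4_2 lc_a_rc_2_2 lc_a_rc_2_2 lc_a_rc_3_2 lc_a_rc_4_2 lc_a_rc_21_0 lc_a_rc_2_2 lc_a_rc_2_2 lc_a_rc_4_2 lc_a_rc_0_1 lc_a_rc_3_0 lc_a_rc_3_0 lc_a_rc_3_2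 lc_a_rc_5_2) (@D3.rec (fun _ => (Cert rels S Gen.a)) lc_a_rc_21_0 lc_a_rc_4_2 lc_a_rc_4_2 lc_a_rc_3_0 lc_a_rc_4_2 lc_a_rc_2_2 lc_a_rc_2_2 lc_a_rc_1_0 lc_a_rc_4_2 lc_a_rc_1_4 lc_a_rc_2_2 lc_a_rc_3_2 lc_a_rc_4_2 lc_a_rc_2_2 lc_a_rc_4_2 lc_a_rc_4_2 lc_a_rc_2_2 lc_a_rc_3_2 lc_a_rc_5_2 lc_a_rc_5_0 lc_a_rc_3_2 lc_a_rc_5_2 lc_a_rc_1_2 lc_a_rc_4_0 lc_a_rc_4_2 lc_a_rc_4_2 lc_a_rc_4_2 lc_a_rc_3_2 lc_a_rc_3_2 lc_a_rc_21_0 lc_a_rc_5_0 lc_a_rc_21_0 lc_a_rc_3_2 lc_a_rc_5_0 lc_a_rc_3_2 lc_a_rc_2_2 lc_a_rc_3_2 lc_a_rc_3_2 lc_a_rc_2_2 lc_a_rc_4_2 lc_a_rc_21_0 lc_a_rc_3_2 lc_a_rc_1_4 lc_a_rc_2_2 lc_a_rc_4_2 lc_a_rc_1_4 lc_a_rc_2_2 lc_a_rc_4_2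 lc_a_rc_21_0 lc_a_rc_4_2 lc_a_rc_3_2 lc_a_rc_4_2 lc_a_rc_5_2 lc_a_rc_2_0 lc_a_rc_1_4 lc_a_rc_1_2 lc_a_rc_3_0 lc_a_rc_3_2 lc_a_rc_5_2 lc_a_rc_21_0 lc_a_rc_3_2 lc_a_rc_21_0) (@D3.rec (fun _ => (Cert rels S Gen.a)) lc_a_rc_3_2 lc_a_rc_2_2 lc_a_rc_0_1 lc_a_rc_0_1 lc_a_rc_21_0 lc_a_rc_4_2 lc_a_rc_3_2 lc_a_rc_2_2 lc_a_rc_1_2 lc_a_rc_0_1 lc_a_rc_2_0 lc_a_rc_4_0 lc_a_rc_3_2 lc_a_rc_5_2 lc_a_rc_3_2 lc_a_rc_4_2 lc_a_rc_21_0 lc_a_rc_5_0 lc_a_rc_4_0 lc_a_rc_3_2 lc_a_rc_2_2 lc_a_rc_2_2 lc_a_rc_3_2 lc_a_rc_4_2 lc_a_rc_4_2 lc_a_rc_0_1 lc_a_rc_2_0 lc_a_rc_22_0 lc_a_rc_3_0 lc_a_rc_5_2 lc_a_rc_2_2 lc_a_rc_1_4 lc_a_rc_2_2 lc_a_rc_21_0 lc_a_rc_2_2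 lc_a_rc_21_0 lc_a_rc_2_2 lc_a_rc_0_1 lc_a_rc_2_2 lc_a_rc_2_0 lc_a_rc_5_0 lc_a_rc_4_2 lc_a_rc_3_2 lc_a_rc_5_2 lc_a_rc_2_2 lc_a_rc_4_2 lc_a_rc_4_2 lc_a_rc_2_2 lc_a_rc_0_1 lc_a_rc_4_2 lc_a_rc_4_2 lc_a_rc_2_0 lc_a_rc_2_2 lc_a_rc_22_0 lc_a_rc_4_2 lc_a_rc_4_2 lc_a_rc_2_2 lc_a_rc_2_0 lc_a_rc_4_2 lc_a_rc_21_0 lc_a_rc_4_2 lc_a_rc_1_2) (@D3.rec (fun _ => (Cert rels S Gen.a)) lc_a_rc_2_2 lc_a_rc_3_2 lc_a_rc_4_2 lc_a_rc_4_2 lc_a_rc_3_0 lc_a_rc_3_0 lc_a_rc_3_0 lc_a_rc_4_2 lc_a_rc_2_0 lc_a_rc_4_2 lc_a_rc_21_0 lc_a_rc_3_2 lc_a_rc_4_0 lc_a_rc_5_0 lc_a_rc_2_2 lc_a_rc_3_2 lc_a_rc_5_0 lc_a_rc_3_2 lc_a_rc_2_2 lc_a_rc_3_2 lc_a_rc_3_2 lc_a_rc_2_2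 lc_a_rc_4_2 lc_a_rc_1_4 lc_a_rc_2_2 lc_a_rc_3_0 lc_a_rc_4_2 lc_a_rc_5_2 lc_a_rc_2_2 lc_a_rc_4_2 lc_a_rc_1_4 lc_a_rc_3_2 lc_a_rc_2_2 lc_a_rc_2_2 lc_a_rc_0_1 lc_a_rc_3_2 lc_a_rc_3_2 lc_a_rc_4_0 lc_a_rc_3_2 lc_a_rc_4_2 lc_a_rc_3_2 lc_a_rc_4_0 lc_a_rc_21_0 lc_a_rc_2_2 lc_a_rc_4_2 lc_a_rc_3_2 lc_a_rc_2_2 lc_a_rc_2_0 lc_a_rc_21_0 lc_a_rc_2_2 lc_a_rc_4_0 lc_a_rc_1_0 lc_a_rc_2_2 lc_a_rc_4_0 lc_a_rc_1_4 lc_a_rc_4_2 lc_a_rc_4_2 lc_a_rc_1_2 lc_a_rc_2_2 lc_a_rc_2_2 lc_a_rc_4_2 lc_a_rc_2_2) (@D3.rec (fun _ => (Cert rels S Gen.a)) lc_a_rc_4_2 lc_a_rc_4_2 lc_a_rc_3_2 lc_a_rc_2_2 lc_a_rc_3_2 lc_a_rc_21_0 lc_a_rc_1_4 lc_a_rc_4_2 lc_a_rc_5_0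 lc_a_rc_4_2 lc_a_rc_0_1 lc_a_rc_1_2 lc_a_rc_1_2 lc_a_rc_2_0 lc_a_rc_3_2 lc_a_rc_3_2 lc_a_rc_1_0 lc_a_rc_4_2 lc_a_rc_3_0 lc_a_rc_1_2 lc_a_rc_1_4 lc_a_rc_3_0 lc_a_rc_3_2 lc_a_rc_21_0 lc_a_rc_2_0 lc_a_rc_0_1 lc_a_rc_5_2 lc_a_rc_0_1 lc_a_rc_4_2 lc_a_rc_0_1 lc_a_rc_1_2 lc_a_rc_4_2 lc_a_rc_0_1 lc_a_rc_1_4 lc_a_rc_4_0 lc_a_rc_0_1 lc_a_rc_0_1 lc_a_rc_2_2 lc_a_rc_0_1 lc_a_rc_2_2 lc_a_rc_21_0 lc_a_rc_0_1 lc_a_rc_2_2 lc_a_rc_4_2 lc_a_rc_2_0 lc_a_rc_1_0 lc_a_rc_3_2 lc_a_rc_2_2 lc_a_rc_0_1 lc_a_rc_2_2 lc_a_rc_5_2 lc_a_rc_21_0 lc_a_rc_1_0 lc_a_rc_2_2 lc_a_rc_2_2 lc_a_rc_21_0 lc_a_rc_4_2 lc_a_rc_2_2 lc_a_rc_1_4 lc_a_rc_2_2 lc_a_rc_2_2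 lc_a_rc_21_0) (@D3.rec (fun _ => (Cert rels S Gen.a)) lc_a_rc_5_0 lc_a_rc_3_0 lc_a_rc_4_2 lc_a_rc_0_1 lc_a_rc_3_2 lc_a_rc_21_0 lc_a_rc_2_2 lc_a_rc_3_2 lc_a_rc_5_2 lc_a_rc_1_4 lc_a_rc_4_2 lc_a_rc_1_4 lc_a_rc_2_2 lc_a_rc_5_2 lc_a_rc_2_2 lc_a_rc_2_2 lc_a_rc_0_1 lc_a_rc_4_2 lc_a_rc_4_2 lc_a_rc_4_2 lc_a_rc_3_2 lc_a_rc_4_2 lc_a_rc_0_1 lc_a_rc_3_2 lc_a_rc_0_1 lc_a_rc_0_1 lc_a_rc_4_2 lc_a_rc_3_2 lc_a_rc_5_2 lc_a_rc_3_0 lc_a_rc_2_2 lc_a_rc_4_2 lc_a_rc_3_2 lc_a_rc_4_2 lc_a_rc_0_1 lc_a_rc_1_2 lc_a_rc_4_2 lc_a_rc_2_2 lc_a_rc_3_2 lc_a_rc_4_2 lc_a_rc_4_2 lc_a_rc_0_1 lc_a_rc_3_2 lc_a_rc_2_2 lc_a_rc_0_1 lc_a_rc_0_1 lc_a_rc_3_2 lc_a_rc_4_0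 lc_a_rc_1_0 lc_a_rc_3_0 lc_a_rc_4_2 lc_a_rc_3_2 lc_a_rc_0_1 lc_a_rc_2_2 lc_a_rc_4_2 lc_a_rc_2_2 lc_a_Cert_tree lc_a_rc_3_2 lc_a_rc_21_0 lc_a_rc_3_0 lc_a_rc_0_1 lc_a_rc_0_1) (@D3.rec (fun _ => (Cert rels S Gen.a)) lc_a_rc_4_2 lc_a_rc_4_2 lc_a_rc_3_2 lc_a_rc_2_2 lc_a_rc_0_1 lc_a_rc_2_2 lc_a_rc_2_2 lc_a_rc_21_0 lc_a_rc_2_0 lc_a_rc_3_2 lc_a_rc_1_4 lc_a_rc_5_0 lc_a_rc_2_2 lc_a_rc_5_2 lc_a_rc_21_0 lc_a_rc_4_0 lc_a_rc_0_1 lc_a_rc_3_2 lc_a_rc_1_4 lc_a_rc_2_2 lc_a_rc_3_2 lc_a_rc_21_0 lc_a_rc_4_2 lc_a_rc_1_2 lc_a_rc_3_2 lc_a_rc_2_2 lc_a_rc_4_2 lc_a_rc_0_1 lc_a_rc_2_2 lc_a_rc_2_2 lc_a_rc_2_2 lc_a_rc_4_2 lc_a_rc_21_0 lc_a_rc_0_1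 lc_a_rc_3_0 lc_a_rc_4_0 lc_a_rc_4_2 lc_a_rc_0_1 lc_a_rc_2_2 lc_a_rc_22_0 lc_a_rc_2_2 lc_a_rc_4_2 lc_a_rc_0_1 lc_a_rc_2_2 lc_a_rc_0_1 lc_a_rc_4_2 lc_a_rc_2_2 lc_a_rc_0_1 lc_a_rc_0_1 lc_a_rc_2_0 lc_a_rc_5_0 lc_a_rc_21_0 lc_a_rc_4_2 lc_a_rc_3_2 lc_a_rc_2_2 lc_a_rc_3_0 lc_a_rc_21_0 lc_a_rc_4_2 lc_a_rc_3_2 lc_a_rc_2_0 lc_a_rc_5_0 lc_a_rc_5_2) (@D3.rec (fun _ => (Cert rels S Gen.a)) lc_a_rc_21_0 lc_a_rc_0_1 lc_a_rc_0_1 lc_a_rc_1_4 lc_a_rc_3_0 lc_a_rc_0_1 lc_a_rc_2_0 lc_a_rc_2_2 lc_a_rc_4_2 lc_a_rc_5_2 lc_a_rc_5_2 lc_a_rc_3_2 lc_a_rc_0_1 lc_a_rc_0_1 lc_a_rc_2_0 lc_a_rc_0_1 lc_a_rc_0_1 lc_a_rc_1_2 lc_a_rc_3_2 lc_a_rc_1_4 lc_a_rc_4_2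 lc_a_rc_3_2 lc_a_rc_4_2 lc_a_rc_21_0 lc_a_rc_3_2 lc_a_rc_2_2 lc_a_rc_4_2 lc_a_rc_1_4 lc_a_rc_5_2 lc_a_rc_2_2 lc_a_rc_4_2 lc_a_rc_4_2 lc_a_rc_1_4 lc_a_rc_0_1 lc_a_rc_1_0 lc_a_rc_21_0 lc_a_rc_0_1 lc_a_rc_2_2 lc_a_rc_2_2 lc_a_rc_1_4 lc_a_rc_3_2 lc_a_rc_2_2 lc_a_rc_5_2 lc_a_rc_2_2 lc_a_rc_3_0 lc_a_rc_21_0 lc_a_rc_0_1 lc_a_rc_4_2 lc_a_rc_2_2 lc_a_rc_1_4 lc_a_rc_3_2 lc_a_rc_22_0 lc_a_rc_1_2 lc_a_rc_4_2 lc_a_rc_4_2 lc_a_rc_5_0 lc_a_rc_3_2 lc_a_rc_21_0 lc_a_rc_0_1 lc_a_rc_21_0 lc_a_rc_4_2 lc_a_rc_4_2) (@D3.rec (fun _ => (Cert rels S Gen.a)) lc_a_rc_2_2 lc_a_rc_0_1 lc_a_rc_5_0 lc_a_rc_4_0 lc_a_rc_21_0 lc_a_rc_2_2 lc_a_rc_4_2 lc_a_rc_2_2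 lc_a_rc_4_2 lc_a_rc_3_2 lc_a_rc_4_0 lc_a_rc_4_0 lc_a_rc_0_1 lc_a_rc_0_1 lc_a_rc_2_2 lc_a_rc_2_2 lc_a_rc_5_2 lc_a_rc_1_2 lc_a_rc_4_2 lc_a_rc_0_1 lc_a_rc_0_1 lc_a_rc_5_2 lc_a_rc_1_2 lc_a_rc_4_2 lc_a_rc_3_0 lc_a_rc_4_2 lc_a_rc_2_0 lc_a_rc_3_2 lc_a_rc_21_0 lc_a_rc_3_2 lc_a_rc_0_1 lc_a_rc_0_1 lc_a_rc_5_2 lc_a_rc_21_0 lc_a_rc_22_0 lc_a_rc_2_2 lc_a_rc_3_2 lc_a_rc_3_2 lc_a_rc_4_2 lc_a_rc_4_2 lc_a_rc_4_2 lc_a_rc_0_1 lc_a_rc_0_1 lc_a_rc_3_0 lc_a_rc_4_2 lc_a_rc_4_0 lc_a_rc_5_0 lc_a_rc_2_0 lc_a_rc_3_2 lc_a_rc_4_2 lc_a_rc_0_1 lc_a_rc_5_2 lc_a_rc_1_2 lc_a_rc_1_4 lc_a_rc_3_2 lc_a_rc_2_2 lc_a_rc_3_0 lc_a_rc_2_2 lc_a_rc_3_2 lc_a_rc_0_1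 lc_a_rc_0_1 lc_a_rc_5_2) (@D3.rec (fun _ => (Cert rels S Gen.a)) lc_a_Cert_tree lc_a_rc_4_2 lc_a_rc_3_2 lc_a_rc_4_2 lc_a_rc_2_2 lc_a_rc_2_2 lc_a_rc_0_1 lc_a_rc_3_2 lc_a_rc_2_0 lc_a_rc_3_2 lc_a_rc_21_0 lc_a_rc_2_2 lc_a_rc_4_0 lc_a_rc_5_2 lc_a_rc_3_2 lc_a_rc_4_2 lc_a_rc_5_2 lc_a_rc_3_2 lc_a_rc_5_2 lc_a_rc_0_1 lc_a_rc_4_2 lc_a_rc_4_2 lc_a_rc_3_2 lc_a_rc_2_2 lc_a_rc_2_0 lc_a_rc_0_1 lc_a_rc_4_0 lc_a_rc_21_0 lc_a_rc_2_0 lc_a_rc_1_4 lc_a_rc_3_2 lc_a_rc_4_0 lc_a_rc_21_0 lc_a_rc_0_1 lc_a_rc_3_0 lc_a_rc_3_2 lc_a_rc_3_2 lc_a_rc_3_2 lc_a_rc_3_0 lc_a_rc_0_1 lc_a_Cert_tree lc_a_rc_5_0 lc_a_rc_3_2 lc_a_rc_2_2 lc_a_rc_21_0 lc_a_rc_0_1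 lc_a_rc_4_2 lc_a_rc_5_2 lc_a_rc_4_2 lc_a_rc_2_2 lc_a_rc_4_2 lc_a_rc_2_2 lc_a_rc_4_2 lc_a_rc_2_2 lc_a_rc_5_2 lc_a_rc_22_0 lc_a_rc_2_2 lc_a_rc_0_1 lc_a_rc_5_2 lc_a_rc_0_1 lc_a_rc_0_1 lc_a_rc_0_1) (@D3.rec (fun _ => (Cert rels S Gen.a)) lc_a_rc_4_2 lc_a_rc_3_2 lc_a_rc_3_2 lc_a_rc_0_1 lc_a_rc_5_2 lc_a_rc_4_2 lc_a_rc_3_2 lc_a_rc_2_0 lc_a_rc_3_2 lc_a_rc_2_2 lc_a_rc_2_2 lc_a_rc_3_2 lc_a_rc_4_2 lc_a_rc_21_0 lc_a_rc_21_0 lc_a_rc_5_2 lc_a_rc_4_2 lc_a_rc_0_1 lc_a_rc_21_0 lc_a_rc_3_2 lc_a_rc_5_2 lc_a_rc_0_1 lc_a_rc_22_0 lc_a_rc_4_2 lc_a_rc_3_2 lc_a_rc_3_2 lc_a_rc_5_0 lc_a_rc_4_2 lc_a_rc_3_2 lc_a_rc_2_2 lc_a_rc_1_4 lc_a_rc_3_2 lc_a_rc_3_2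 lc_a_rc_2_2 lc_a_rc_21_0 lc_a_rc_3_2 lc_a_rc_2_0 lc_a_rc_0_1 lc_a_rc_21_0 lc_a_rc_4_2 lc_a_rc_3_2 lc_a_rc_1_2 lc_a_rc_2_2 lc_a_rc_1_2 lc_a_rc_3_2 lc_a_rc_1_2 lc_a_rc_3_2 lc_a_Cert_tree lc_a_rc_3_2 lc_a_rc_4_2 lc_a_rc_3_2 lc_a_rc_3_2 lc_a_rc_5_0 lc_a_rc_4_2 lc_a_rc_3_2 lc_a_rc_0_1 lc_a_rc_3_2 lc_a_rc_4_2 lc_a_rc_0_1 lc_a_rc_5_0 lc_a_rc_3_2 lc_a_rc_4_0) (@D3.rec (fun _ => (Cert rels S Gen.a)) lc_a_rc_3_2 lc_a_rc_2_2 lc_a_rc_22_0 lc_a_rc_3_2 lc_a_rc_4_2 lc_a_rc_3_0 lc_a_rc_22_0 lc_a_rc_0_1 lc_a_rc_1_2 lc_a_rc_1_2 lc_a_rc_3_2 lc_a_rc_2_2 lc_a_rc_2_0 lc_a_rc_3_0 lc_a_rc_2_2 lc_a_rc_4_2 lc_a_rc_3_2 lc_a_rc_0_1 lc_a_rc_22_0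 lc_a_rc_2_2 lc_a_rc_2_0 lc_a_rc_0_1 lc_a_rc_4_0 lc_a_rc_2_2 lc_a_rc_3_2 lc_a_rc_1_0 lc_a_rc_3_0 lc_a_rc_5_0 lc_a_rc_5_2 lc_a_rc_3_0 lc_a_rc_4_2 lc_a_rc_1_4 lc_a_rc_0_1 lc_a_rc_2_2 lc_a_rc_4_2 lc_a_rc_4_2 lc_a_rc_5_0 lc_a_rc_0_1 lc_a_rc_4_2 lc_a_rc_3_2 lc_a_rc_1_4 lc_a_rc_2_2 lc_a_rc_4_2 lc_a_rc_21_0 lc_a_rc_4_2 lc_a_rc_2_0 lc_a_rc_3_0 lc_a_rc_21_0 lc_a_rc_4_2 lc_a_rc_3_2 lc_a_rc_4_0 lc_a_rc_3_2 lc_a_rc_0_1 lc_a_rc_1_2 lc_a_rc_3_2 lc_a_rc_3_2 lc_a_rc_3_2 lc_a_rc_0_1 lc_a_rc_1_2 lc_a_rc_21_0 lc_a_rc_4_2 lc_a_rc_22_0) (@D3.rec (fun _ => (Cert rels S Gen.a)) lc_a_rc_0_1 lc_a_rc_2_2 lc_a_rc_2_0 lc_a_rc_2_2 lc_a_rc_0_1 lc_a_rc_3_2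 lc_a_rc_4_2 lc_a_rc_21_0 lc_a_rc_0_1 lc_a_rc_21_0 lc_a_rc_4_2 lc_a_rc_21_0 lc_a_rc_1_4 lc_a_rc_0_1 lc_a_rc_22_0 lc_a_rc_4_2 lc_a_rc_2_2 lc_a_rc_2_0 lc_a_rc_4_0 lc_a_rc_2_2 lc_a_rc_21_0 lc_a_rc_3_2 lc_a_rc_4_0 lc_a_rc_2_2 lc_a_rc_2_0 lc_a_rc_5_2 lc_a_rc_3_2 lc_a_rc_3_2 lc_a_rc_2_2 lc_a_rc_5_2 lc_a_rc_4_2 lc_a_rc_3_2 lc_a_rc_0_1 lc_a_rc_4_2 lc_a_rc_0_1 lc_a_rc_0_1 lc_a_rc_4_2 lc_a_rc_4_2 lc_a_rc_2_2 lc_a_rc_2_2 lc_a_rc_1_2 lc_a_rc_3_2 lc_a_rc_2_0 lc_a_rc_1_2 lc_a_rc_0_1 lc_a_rc_3_2 lc_a_rc_1_2 lc_a_rc_22_0 lc_a_rc_2_0 lc_a_rc_4_0 lc_a_rc_0_1 lc_a_rc_4_2 lc_a_rc_5_2 lc_a_rc_1_2 lc_a_rc_1_0 lc_a_rc_21_0 lc_a_rc_3_2 lc_a_rc_0_1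 lc_a_rc_2_0 lc_a_rc_3_2 lc_a_rc_22_0 lc_a_rc_21_0) (@D3.rec (fun _ => (Cert rels S Gen.a)) lc_a_rc_22_0 lc_a_rc_4_2 lc_a_rc_3_2 lc_a_rc_3_0 lc_a_rc_5_2 lc_a_rc_2_2 lc_a_rc_4_2 lc_a_rc_3_2 lc_a_rc_4_2 lc_a_rc_2_2 lc_a_rc_5_2 lc_a_rc_3_2 lc_a_rc_3_0 lc_a_rc_1_2 lc_a_rc_22_0 lc_a_rc_2_0 lc_a_rc_3_0 lc_a_rc_3_2 lc_a_rc_4_2 lc_a_rc_2_2 lc_a_rc_3_0 lc_a_rc_2_0 lc_a_rc_1_2 lc_a_rc_2_2 lc_a_rc_5_2 lc_a_rc_3_0 lc_a_rc_5_2 lc_a_rc_21_0 lc_a_rc_2_2 lc_a_rc_1_2 lc_a_rc_2_2 lc_a_rc_3_2 lc_a_rc_4_2 lc_a_rc_0_1 lc_a_rc_21_0 lc_a_rc_4_2 lc_a_rc_4_2 lc_a_rc_1_4 lc_a_rc_2_2 lc_a_rc_5_2 lc_a_rc_4_2 lc_a_rc_1_0 lc_a_rc_4_2 lc_a_rc_3_2 lc_a_rc_5_0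 lc_a_rc_3_2 lc_a_rc_1_4 lc_a_rc_5_2 lc_a_rc_1_2 lc_a_rc_0_1 lc_a_rc_3_0 lc_a_rc_4_2 lc_a_rc_2_2 lc_a_rc_4_2 lc_a_rc_2_2 lc_a_rc_22_0 lc_a_rc_2_2 lc_a_rc_1_2 lc_a_rc_2_2 lc_a_rc_4_2 lc_a_rc_2_2 lc_a_rc_1_2) (@D3.rec (fun _ => (Cert rels S Gen.a)) lc_a_rc_2_2 lc_a_rc_2_2 lc_a_rc_2_2 lc_a_rc_4_2 lc_a_rc_5_0 lc_a_rc_1_4 lc_a_rc_3_2 lc_a_rc_2_2 lc_a_rc_4_0 lc_a_rc_0_1 lc_a_rc_2_0 lc_a_rc_21_0 lc_a_rc_2_2 lc_a_rc_4_2 lc_a_rc_3_2 lc_a_rc_2_0 lc_a_rc_4_0 lc_a_rc_2_0 lc_a_rc_2_2 lc_a_rc_3_0 lc_a_rc_3_0 lc_a_rc_0_1 lc_a_rc_21_0 lc_a_rc_1_4 lc_a_rc_4_2 lc_a_rc_0_1 lc_a_rc_5_2 lc_a_rc_3_2 lc_a_rc_2_0 lc_a_rc_3_0 lc_a_rc_4_0 lc_a_rc_4_2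 lc_a_rc_21_0 lc_a_rc_0_1 lc_a_rc_0_1 lc_a_rc_0_1 lc_a_rc_1_4 lc_a_rc_0_1 lc_a_rc_4_0 lc_a_rc_4_2 lc_a_rc_3_2 lc_a_rc_2_2 lc_a_rc_2_2 lc_a_rc_3_0 lc_a_rc_3_0 lc_a_rc_1_2 lc_a_rc_3_2 lc_a_rc_22_0 lc_a_rc_2_2 lc_a_rc_3_0 lc_a_rc_21_0 lc_a_rc_4_0 lc_a_rc_2_2 lc_a_rc_1_0 lc_a_rc_0_1 lc_a_rc_2_2 lc_a_rc_1_2 lc_a_rc_1_2 lc_a_rc_3_2 lc_a_rc_1_2 lc_a_rc_5_2 lc_a_rc_21_0) (@D3.rec (fun _ => (Cert rels S Gen.a)) lc_a_rc_3_0 lc_a_rc_4_2 lc_a_rc_2_2 lc_a_rc_21_0 lc_a_rc_3_0 lc_a_rc_2_0 lc_a_rc_3_0 lc_a_rc_5_2 lc_a_rc_0_1 lc_a_rc_4_2 lc_a_rc_4_0 lc_a_rc_0_1 lc_a_rc_3_2 lc_a_rc_3_2 lc_a_rc_4_0 lc_a_rc_0_1 lc_a_rc_3_2 lc_a_rc_21_0 lc_a_rc_3_0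 lc_a_rc_0_1 lc_a_rc_2_0 lc_a_rc_22_0 lc_a_rc_5_2 lc_a_rc_2_2 lc_a_rc_2_2 lc_a_rc_0_1 lc_a_rc_2_2 lc_a_rc_2_2 lc_a_rc_3_2 lc_a_rc_2_2 lc_a_rc_5_0 lc_a_rc_0_1 lc_a_rc_3_2 lc_a_rc_0_1 lc_a_rc_22_0 lc_a_rc_2_2 lc_a_rc_5_0 lc_a_rc_4_2 lc_a_rc_3_0 lc_a_rc_3_2 lc_a_rc_5_0 lc_a_rc_21_0 lc_a_rc_1_4 lc_a_rc_2_0 lc_a_rc_3_2 lc_a_rc_4_2 lc_a_rc_2_2 lc_a_rc_3_2 lc_a_rc_5_2 lc_a_rc_1_2 lc_a_rc_1_4 lc_a_rc_5_2 lc_a_rc_4_2 lc_a_rc_2_0 lc_a_rc_22_0 lc_a_rc_3_2 lc_a_rc_2_0 lc_a_rc_3_2 lc_a_rc_4_2 lc_a_rc_3_2 lc_a_rc_3_2 lc_a_rc_4_2) (@D3.rec (fun _ => (Cert rels S Gen.a)) lc_a_rc_2_2 lc_a_rc_0_1 lc_a_rc_1_4 lc_a_rc_21_0 lc_a_rc_3_2 lc_a_rc_21_0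 lc_a_rc_4_2 lc_a_rc_3_2 lc_a_rc_4_2 lc_a_rc_5_2 lc_a_rc_3_2 lc_a_rc_2_0 lc_a_rc_3_0 lc_a_rc_3_2 lc_a_rc_5_0 lc_a_rc_22_0 lc_a_rc_4_2 lc_a_rc_2_2 lc_a_rc_4_2 lc_a_rc_0_1 lc_a_rc_4_0 lc_a_rc_5_2 lc_a_rc_0_1 lc_a_rc_3_2 lc_a_rc_21_0 lc_a_rc_2_0 lc_a_rc_21_0 lc_a_rc_0_1 lc_a_rc_0_1 lc_a_rc_3_2 lc_a_rc_3_0 lc_a_rc_3_0 lc_a_rc_3_2 lc_a_rc_3_2 lc_a_rc_0_1 lc_a_rc_0_1 lc_a_rc_22_0 lc_a_rc_3_2 lc_a_rc_1_4 lc_a_rc_3_2 lc_a_rc_3_2 lc_a_rc_3_2 lc_a_rc_5_0 lc_a_rc_2_2 lc_a_rc_2_2 lc_a_rc_1_4 lc_a_rc_3_2 lc_a_rc_4_0 lc_a_rc_21_0 lc_a_rc_21_0 lc_a_rc_21_0 lc_a_rc_0_1 lc_a_rc_4_2 lc_a_rc_3_2 lc_a_rc_3_2 lc_a_rc_21_0 lc_a_rc_2_2 lc_a_rc_5_0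 lc_a_rc_1_2 lc_a_rc_4_0 lc_a_rc_3_0 lc_a_rc_2_2) (@D3.rec (fun _ => (Cert rels S Gen.a)) lc_a_rc_4_2 lc_a_rc_2_2 lc_a_rc_1_0 lc_a_rc_4_2 lc_a_rc_2_2 lc_a_rc_2_2 lc_a_rc_21_0 lc_a_rc_4_0 lc_a_rc_2_2 lc_a_rc_3_2 lc_a_rc_21_0 lc_a_rc_4_2 lc_a_rc_4_2 lc_a_rc_4_0 lc_a_rc_4_2 lc_a_rc_1_2 lc_a_rc_5_2 lc_a_rc_1_4 lc_a_rc_2_2 lc_a_rc_21_0 lc_a_rc_0_1 lc_a_rc_21_0 lc_a_rc_21_0 lc_a_rc_0_1 lc_a_rc_21_0 lc_a_rc_21_0 lc_a_rc_0_1 lc_a_rc_4_2 lc_a_rc_4_2 lc_a_rc_21_0 lc_a_rc_3_2 lc_a_rc_5_2 lc_a_rc_4_2 lc_a_rc_2_2 lc_a_rc_21_0 lc_a_rc_3_2 lc_a_rc_3_2 lc_a_rc_1_2 lc_a_rc_3_2 lc_a_rc_3_0 lc_a_rc_4_2 lc_a_rc_2_2 lc_a_rc_2_0 lc_a_rc_4_2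 lc_a_rc_2_2 lc_a_rc_3_2 lc_a_rc_4_2 lc_a_rc_4_2 lc_a_rc_3_2 lc_a_rc_4_2 lc_a_rc_2_0 lc_a_rc_3_2 lc_a_rc_5_2 lc_a_rc_4_2 lc_a_rc_3_2 lc_a_rc_21_0 lc_a_rc_4_2 lc_a_rc_4_2 lc_a_rc_4_2 lc_a_rc_4_2 lc_a_rc_4_0 lc_a_rc_2_2) (@D3.rec (fun _ => (Cert rels S Gen.a)) lc_a_rc_1_4 lc_a_rc_22_0 lc_a_rc_1_4 lc_a_rc_2_2 lc_a_rc_0_1 lc_a_rc_3_2 lc_a_rc_4_2 lc_a_rc_3_0 lc_a_rc_1_2 lc_a_rc_0_1 lc_a_rc_3_2 lc_a_rc_2_0 lc_a_rc_2_2 lc_a_rc_4_2 lc_a_rc_3_2 lc_a_rc_1_2 lc_a_rc_0_1 lc_a_rc_2_0 lc_a_rc_4_2 lc_a_rc_0_1 lc_a_rc_22_0 lc_a_rc_3_2 lc_a_rc_0_1 lc_a_rc_3_2 lc_a_rc_1_4 lc_a_rc_2_2 lc_a_rc_5_0 lc_a_rc_3_2 lc_a_rc_3_2 lc_a_rc_21_0 lc_a_rc_0_1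 lc_a_rc_1_4 lc_a_rc_3_2 lc_a_rc_4_2 lc_a_rc_4_2 lc_a_rc_4_0 lc_a_rc_3_2 lc_a_rc_3_0 lc_a_rc_21_0 lc_a_rc_21_0 lc_a_rc_3_2 lc_a_rc_5_2 lc_a_rc_2_2 lc_a_rc_4_2 lc_a_rc_3_2 lc_a_rc_5_0 lc_a_rc_2_2 lc_a_rc_2_2 lc_a_rc_2_2 lc_a_rc_21_0 lc_a_rc_21_0 lc_a_rc_2_2 lc_a_rc_3_2 lc_a_rc_4_2 lc_a_rc_2_2 lc_a_rc_4_2 lc_a_rc_1_2 lc_a_rc_1_0 lc_a_rc_3_2 lc_a_rc_3_2 lc_a_rc_4_2 lc_a_rc_4_0) (@D3.rec (fun _ => (Cert rels S Gen.a)) lc_a_rc_1_4 lc_a_rc_3_2 lc_a_rc_2_2 lc_a_rc_3_2 lc_a_rc_2_0 lc_a_rc_3_0 lc_a_rc_0_1 lc_a_rc_5_0 lc_a_rc_0_1 lc_a_rc_2_0 lc_a_rc_0_1 lc_a_rc_2_2 lc_a_rc_1_4 lc_a_rc_21_0 lc_a_rc_2_0 lc_a_rc_2_2 lc_a_rc_3_2 lc_a_rc_2_2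 lc_a_rc_2_2 lc_a_rc_5_0 lc_a_rc_3_2 lc_a_rc_22_0 lc_a_rc_4_2 lc_a_rc_3_0 lc_a_rc_3_2 lc_a_rc_3_2 lc_a_rc_4_2 lc_a_rc_3_2 lc_a_rc_4_2 lc_a_rc_0_1 lc_a_rc_21_0 lc_a_rc_1_2 lc_a_rc_1_4 lc_a_rc_3_2 lc_a_rc_4_0 lc_a_rc_2_2 lc_a_rc_3_2 lc_a_rc_5_2 lc_a_rc_22_0 lc_a_rc_3_2 lc_a_rc_1_0 lc_a_rc_0_1 lc_a_rc_21_0 lc_a_rc_4_2 lc_a_rc_3_2 lc_a_rc_4_2 lc_a_rc_2_2 lc_a_rc_21_0 lc_a_rc_2_2 lc_a_rc_21_0 lc_a_rc_2_2 lc_a_rc_1_2 lc_a_rc_2_0 lc_a_rc_2_0 lc_a_rc_3_2 lc_a_rc_3_2 lc_a_rc_5_0 lc_a_rc_1_4 lc_a_rc_4_2 lc_a_rc_3_0 lc_a_rc_3_0 lc_a_rc_3_0) (@D3.rec (fun _ => (Cert rels S Gen.a)) lc_a_rc_2_2 lc_a_rc_2_0 lc_a_rc_4_2 lc_a_rc_4_2 lc_a_rc_21_0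 lc_a_rc_1_0 lc_a_rc_0_1 lc_a_rc_2_2 lc_a_rc_4_2 lc_a_rc_3_2 lc_a_rc_4_2 lc_a_rc_4_2 lc_a_rc_1_2 lc_a_rc_1_2 lc_a_rc_22_0 lc_a_rc_2_0 lc_a_rc_0_1 lc_a_rc_2_0 lc_a_rc_3_2 lc_a_rc_5_2 lc_a_rc_2_2 lc_a_rc_21_0 lc_a_rc_21_0 lc_a_rc_3_2 lc_a_rc_4_2 lc_a_rc_3_0 lc_a_rc_3_0 lc_a_rc_4_2 lc_a_rc_4_2 lc_a_rc_1_0 lc_a_rc_1_2 lc_a_rc_2_0 lc_a_rc_2_0 lc_a_rc_3_2 lc_a_rc_2_2 lc_a_rc_3_2 lc_a_rc_4_2 lc_a_rc_5_0 lc_a_rc_3_2 lc_a_rc_2_2 lc_a_rc_1_4 lc_a_rc_4_2 lc_a_rc_4_2 lc_a_rc_3_0 lc_a_rc_4_0 lc_a_rc_2_2 lc_a_rc_4_2 lc_a_rc_1_2 lc_a_rc_4_2 lc_a_rc_3_2 lc_a_rc_4_2 lc_a_rc_0_1 lc_a_rc_4_2 lc_a_rc_3_2 lc_a_rc_4_2 lc_a_rc_21_0 lc_a_rc_2_2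 lc_a_rc_4_2 lc_a_rc_21_0 lc_a_rc_1_2 lc_a_rc_2_0 lc_a_rc_5_2) (@D3.rec (fun _ => (Cert rels S Gen.a)) lc_a_rc_3_2 lc_a_rc_22_0 lc_a_rc_21_0 lc_a_rc_2_2 lc_a_rc_2_2 lc_a_rc_3_2 lc_a_rc_4_2 lc_a_rc_4_2 lc_a_rc_21_0 lc_a_rc_1_2 lc_a_rc_0_1 lc_a_rc_2_0 lc_a_rc_3_0 lc_a_rc_4_2 lc_a_rc_0_1 lc_a_rc_22_0 lc_a_rc_4_2 lc_a_rc_1_2 lc_a_rc_3_2 lc_a_rc_0_1 lc_a_rc_3_0 lc_a_rc_4_2 lc_a_rc_3_2 lc_a_rc_0_1 lc_a_rc_1_2 lc_a_rc_2_2 lc_a_rc_3_2 lc_a_rc_5_2 lc_a_rc_3_2 lc_a_rc_3_2 lc_a_rc_4_2 lc_a_rc_4_2 lc_a_rc_3_0 lc_a_rc_0_1 lc_a_rc_3_0 lc_a_rc_0_1 lc_a_rc_4_2 lc_a_rc_1_2 lc_a_rc_2_0 lc_a_rc_3_2 lc_a_rc_3_2 lc_a_rc_3_2 lc_a_rc_4_2 lc_a_rc_2_2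 lc_a_rc_3_2 lc_a_rc_4_2 lc_a_rc_21_0 lc_a_rc_4_2 lc_a_rc_4_2 lc_a_rc_4_2 lc_a_rc_1_2 lc_a_rc_4_2 lc_a_rc_21_0 lc_a_rc_5_2 lc_a_rc_4_2 lc_a_rc_3_0 lc_a_rc_0_1 lc_a_rc_3_2 lc_a_rc_3_2 lc_a_rc_5_0 lc_a_rc_4_2 lc_a_rc_2_2) (@D3.rec (fun _ => (Cert rels S Gen.a)) lc_a_rc_3_0 lc_a_rc_21_0 lc_a_rc_3_2 lc_a_rc_1_2 lc_a_rc_0_1 lc_a_rc_3_2 lc_a_rc_3_2 lc_a_rc_2_0 lc_a_rc_0_1 lc_a_rc_4_0 lc_a_rc_22_0 lc_a_rc_2_2 lc_a_rc_4_2 lc_a_rc_2_2 lc_a_rc_21_0 lc_a_rc_3_2 lc_a_rc_21_0 lc_a_rc_2_2 lc_a_rc_1_0 lc_a_rc_1_2 lc_a_rc_2_2 lc_a_rc_0_1 lc_a_rc_2_2 lc_a_rc_4_0 lc_a_rc_4_0 lc_a_rc_5_2 lc_a_rc_1_4 lc_a_rc_2_2 lc_a_rc_1_0 lc_a_rc_3_2 lc_a_rc_2_2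 lc_a_rc_4_2 lc_a_rc_3_0 lc_a_rc_1_4 lc_a_rc_5_0 lc_a_rc_4_2 lc_a_rc_3_2 lc_a_rc_4_2 lc_a_rc_0_1 lc_a_rc_21_0 lc_a_rc_2_0 lc_a_rc_4_0 lc_a_rc_3_2 lc_a_rc_3_2 lc_a_rc_1_2 lc_a_rc_5_0 lc_a_rc_2_2 lc_a_rc_1_2 lc_a_rc_0_1 lc_a_rc_2_2 lc_a_rc_3_2 lc_a_rc_4_2 lc_a_rc_3_2 lc_a_rc_4_2 lc_a_rc_2_2 lc_a_rc_4_2 lc_a_rc_4_2 lc_a_rc_4_0 lc_a_rc_1_2 lc_a_rc_1_4 lc_a_rc_5_2 lc_a_rc_2_0) (@D3.rec (fun _ => (Cert rels S Gen.a)) lc_a_rc_2_0 lc_a_rc_2_0 lc_a_rc_2_2 lc_a_rc_0_1 lc_a_rc_4_2 lc_a_rc_4_0 lc_a_rc_4_2 lc_a_rc_3_2 lc_a_rc_3_0 lc_a_rc_4_2 lc_a_rc_5_2 lc_a_rc_0_1 lc_a_rc_5_0 lc_a_rc_1_0 lc_a_rc_1_0 lc_a_rc_4_2 lc_a_rc_0_1 lc_a_rc_1_4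 lc_a_Cert_tree lc_a_rc_4_2 lc_a_rc_22_0 lc_a_Cert_tree lc_a_rc_3_2 lc_a_rc_1_4 lc_a_rc_0_1 lc_a_rc_4_0 lc_a_rc_2_0 lc_a_rc_4_2 lc_a_rc_2_0 lc_a_rc_0_1 lc_a_rc_4_2 lc_a_rc_4_2 lc_a_rc_3_2 lc_a_rc_2_2 lc_a_rc_2_0 lc_a_rc_1_2 lc_a_rc_3_2 lc_a_rc_3_2 lc_a_rc_5_2 lc_a_rc_0_1 lc_a_rc_5_2 lc_a_rc_4_2 lc_a_rc_3_2 lc_a_rc_2_2 lc_a_rc_4_2 lc_a_rc_3_2 lc_a_rc_2_2 lc_a_rc_4_2 lc_a_rc_2_0 lc_a_rc_0_1 lc_a_rc_3_2 lc_a_rc_3_2 lc_a_rc_4_0 lc_a_rc_2_2 lc_a_rc_4_0 lc_a_rc_3_2 lc_a_rc_21_0 lc_a_rc_2_2 lc_a_rc_3_2 lc_a_rc_3_2 lc_a_rc_3_2 lc_a_rc_5_2) (@D3.rec (fun _ => (Cert rels S Gen.a)) lc_a_rc_3_2 lc_a_rc_2_0 lc_a_rc_3_2 lc_a_rc_3_2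 lc_a_rc_2_2 lc_a_rc_3_2 lc_a_rc_4_2 lc_a_rc_3_2 lc_a_rc_4_2 lc_a_rc_4_2 lc_a_rc_3_2 lc_a_rc_2_0 lc_a_rc_4_2 lc_a_rc_4_2 lc_a_rc_3_2 lc_a_rc_2_0 lc_a_rc_2_2 lc_a_rc_1_4 lc_a_rc_1_2 lc_a_rc_0_1 lc_a_rc_1_2 lc_a_rc_4_2 lc_a_rc_5_0 lc_a_rc_3_2 lc_a_rc_4_2 lc_a_rc_2_2 lc_a_rc_4_2 lc_a_rc_3_2 lc_a_rc_2_2 lc_a_rc_3_2 lc_a_rc_3_2 lc_a_rc_5_2 lc_a_rc_4_2 lc_a_rc_4_2 lc_a_rc_22_0 lc_a_rc_3_2 lc_a_rc_0_1 lc_a_rc_1_2 lc_a_rc_0_1 lc_a_rc_2_2 lc_a_rc_2_2 lc_a_rc_0_1 lc_a_rc_0_1 lc_a_rc_22_0 lc_a_rc_5_2 lc_a_rc_2_2 lc_a_rc_21_0 lc_a_rc_1_4 lc_a_rc_1_2 lc_a_rc_4_2 lc_a_rc_1_4 lc_a_rc_3_2 lc_a_rc_5_2 lc_a_rc_21_0 lc_a_rc_2_2 lc_a_rc_21_0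 lc_a_rc_2_2 lc_a_rc_3_2 lc_a_rc_0_1 lc_a_rc_0_1 lc_a_rc_21_0 lc_a_rc_2_2) (@D3.rec (fun _ => (Cert rels S Gen.a)) lc_a_rc_3_2 lc_a_rc_2_2 lc_a_rc_21_0 lc_a_rc_2_0 lc_a_rc_4_0 lc_a_rc_5_2 lc_a_rc_5_2 lc_a_rc_0_1 lc_a_rc_3_2 lc_a_rc_5_2 lc_a_rc_2_2 lc_a_rc_1_4 lc_a_rc_4_2 lc_a_rc_2_2 lc_a_rc_2_2 lc_a_rc_5_2 lc_a_rc_3_0 lc_a_rc_4_2 lc_a_rc_1_2 lc_a_rc_0_1 lc_a_rc_0_1 lc_a_rc_1_4 lc_a_rc_21_0 lc_a_rc_21_0 lc_a_rc_0_1 lc_a_rc_1_4 lc_a_rc_3_2 lc_a_rc_3_2 lc_a_rc_4_2 lc_a_rc_0_1 lc_a_rc_4_2 lc_a_rc_4_2 lc_a_rc_2_0 lc_a_rc_2_2 lc_a_rc_1_0 lc_a_rc_3_2 lc_a_rc_4_2 lc_a_rc_4_2 lc_a_rc_5_2 lc_a_rc_21_0 lc_a_rc_0_1 lc_a_rc_3_2 lc_a_rc_4_2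 lc_a_rc_4_2 lc_a_rc_0_1 lc_a_rc_0_1 lc_a_rc_3_2 lc_a_rc_2_2 lc_a_rc_4_2 lc_a_rc_4_0 lc_a_rc_2_2 lc_a_rc_5_2 lc_a_rc_22_0 lc_a_rc_5_2 lc_a_rc_0_1 lc_a_rc_0_1 lc_a_rc_4_2 lc_a_rc_3_2 lc_a_rc_21_0 lc_a_rc_4_2 lc_a_rc_4_2 lc_a_rc_2_2) (@D3.rec (fun _ => (Cert rels S Gen.a)) lc_a_rc_3_2 lc_a_rc_4_2 lc_a_rc_1_2 lc_a_rc_3_2 lc_a_rc_5_2 lc_a_rc_3_2 lc_a_rc_5_0 lc_a_rc_4_0 lc_a_rc_2_2 lc_a_rc_5_2 lc_a_rc_3_2 lc_a_rc_3_2 lc_a_rc_3_0 lc_a_rc_2_2 lc_a_rc_5_2 lc_a_rc_0_1 lc_a_rc_4_2 lc_a_rc_3_0 lc_a_rc_4_0 lc_a_rc_4_0 lc_a_rc_21_0 lc_a_rc_4_0 lc_a_rc_5_2 lc_a_rc_3_2 lc_a_rc_3_0 lc_a_rc_2_2 lc_a_rc_4_2 lc_a_rc_4_2 lc_a_rc_4_2 lc_a_rc_4_2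 lc_a_rc_3_2 lc_a_rc_22_0 lc_a_rc_3_2 lc_a_rc_4_2 lc_a_rc_2_2 lc_a_rc_2_2 lc_a_rc_3_2 lc_a_rc_3_0 lc_a_rc_3_2 lc_a_rc_3_2 lc_a_rc_21_0 lc_a_rc_21_0 lc_a_rc_2_2 lc_a_rc_2_0 lc_a_rc_5_2 lc_a_rc_2_2 lc_a_rc_0_1 lc_a_rc_3_2 lc_a_rc_4_0 lc_a_rc_2_2 lc_a_rc_4_2 lc_a_rc_2_2 lc_a_rc_1_2 lc_a_rc_3_2 lc_a_rc_21_0 lc_a_rc_21_0 lc_a_rc_0_1 lc_a_rc_2_2 lc_a_rc_3_2 lc_a_rc_4_2 lc_a_rc_3_2 lc_a_rc_22_0) (@D3.rec (fun _ => (Cert rels S Gen.a)) lc_a_rc_1_4 lc_a_rc_3_2 lc_a_rc_3_2 lc_a_rc_5_2 lc_a_rc_3_2 lc_a_rc_5_2 lc_a_rc_5_0 lc_a_rc_3_2 lc_a_rc_21_0 lc_a_rc_0_1 lc_a_rc_4_2 lc_a_rc_3_2 lc_a_rc_4_2 lc_a_rc_21_0 lc_a_rc_21_0 lc_a_rc_0_1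 lc_a_rc_4_2 lc_a_rc_1_0 lc_a_rc_1_4 lc_a_rc_4_2 lc_a_rc_3_0 lc_a_rc_3_0 lc_a_rc_1_0 lc_a_rc_1_0 lc_a_rc_0_1 lc_a_rc_3_0 lc_a_rc_1_4 lc_a_rc_3_0 lc_a_rc_0_1 lc_a_rc_2_2 lc_a_rc_3_0 lc_a_rc_0_1 lc_a_rc_4_0 lc_a_rc_2_2 lc_a_rc_4_2 lc_a_rc_5_0 lc_a_rc_4_2 lc_a_rc_3_2 lc_a_rc_1_2 lc_a_rc_2_2 lc_a_rc_4_2 lc_a_rc_2_0 lc_a_rc_4_2 lc_a_rc_21_0 lc_a_rc_0_1 lc_a_rc_4_2 lc_a_rc_5_2 lc_a_rc_1_4 lc_a_rc_1_4 lc_a_rc_4_2 lc_a_rc_3_0 lc_a_rc_2_2 lc_a_rc_3_2 lc_a_rc_4_0 lc_a_rc_1_2 lc_a_rc_2_2 lc_a_rc_4_2 lc_a_rc_21_0 lc_a_rc_0_1 lc_a_rc_21_0 lc_a_rc_4_2 lc_a_rc_2_2)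
def ce_a_28 : D2 → D3 → (Cert rels S Gen.a) := @D2.rec (fun _ => D3 → (Cert rels S Gen.a)) (@D3.rec (fun _ => (Cert rels S Gen.a)) lc_a_rc_4_2 lc_a_rc_1_4 lc_a_rc_21_0 lc_a_rc_4_2 lc_a_rc_4_2 lc_a_rc_2_0 lc_a_rc_5_0 lc_a_rc_2_0 lc_a_rc_3_2 lc_a_rc_21_0 lc_a_rc_3_0 lc_a_rc_21_0 lc_a_rc_22_0 lc_a_rc_0_1 lc_a_rc_4_2 lc_a_rc_1_4 lc_a_rc_4_2 lc_a_rc_1_0 lc_a_rc_5_2 lc_a_rc_0_1 lc_a_rc_4_2 lc_a_rc_5_0 lc_a_rc_3_0 lc_a_rc_22_0 lc_a_rc_4_2 lc_a_rc_21_0 lc_a_rc_3_2 lc_a_rc_5_2 lc_a_rc_0_1 lc_a_rc_5_2 lc_a_rc_0_1 lc_a_rc_2_2 lc_a_rc_3_0 lc_a_rc_4_2 lc_a_rc_3_2 lc_a_rc_5_2 lc_a_rc_0_1 lc_a_rc_0_1 lc_a_rc_21_0 lc_a_rc_5_2 lc_a_rc_4_2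 lc_a_rc_5_2 lc_a_rc_0_1 lc_a_rc_3_2 lc_a_rc_21_0 lc_a_rc_3_2 lc_a_rc_0_1 lc_a_rc_4_2 lc_a_rc_0_1 lc_a_rc_4_2 lc_a_rc_3_2 lc_a_rc_3_0 lc_a_rc_5_2 lc_a_rc_3_2 lc_a_rc_2_2 lc_a_rc_3_0 lc_a_rc_4_0 lc_a_rc_2_2 lc_a_rc_3_2 lc_a_rc_3_2 lc_a_rc_21_0 lc_a_rc_3_2) (@D3.rec (fun _ => (Cert rels S Gen.a)) lc_a_rc_3_2 lc_a_rc_2_2 lc_a_rc_3_2 lc_a_rc_4_2 lc_a_rc_5_2 lc_a_rc_0_1 lc_a_rc_2_0 lc_a_rc_4_2 lc_a_rc_2_0 lc_a_rc_21_0 lc_a_rc_3_2 lc_a_rc_5_2 lc_a_rc_2_2 lc_a_rc_2_2 lc_a_rc_2_0 lc_a_rc_4_2 lc_a_rc_2_0 lc_a_rc_1_2 lc_a_rc_1_4 lc_a_rc_4_2 lc_a_rc_3_0 lc_a_rc_4_2 lc_a_rc_3_2 lc_a_rc_1_2 lc_a_rc_2_2 lc_a_rc_2_0 lc_a_rc_5_0 lc_a_rc_2_2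 lc_a_rc_3_2 lc_a_rc_2_2 lc_a_rc_3_2 lc_a_rc_0_1 lc_a_rc_5_2 lc_a_rc_0_1 lc_a_rc_21_0 lc_a_rc_4_2 lc_a_rc_21_0 lc_a_rc_21_0 lc_a_rc_1_2 lc_a_rc_0_1 lc_a_rc_5_2 lc_a_rc_0_1 lc_a_rc_4_2 lc_a_rc_1_2 lc_a_rc_2_2 lc_a_rc_0_1 lc_a_rc_3_2 lc_a_rc_0_1 lc_a_rc_5_0 lc_a_rc_3_2 lc_a_rc_4_2 lc_a_rc_0_1 lc_a_rc_2_0 lc_a_rc_4_2 lc_a_rc_4_2 lc_a_rc_1_2 lc_a_rc_5_2 lc_a_rc_3_2 lc_a_rc_4_2 lc_a_rc_5_2 lc_a_rc_4_2 lc_a_rc_1_4) (@D3.rec (fun _ => (Cert rels S Gen.a)) lc_a_rc_4_2 lc_a_rc_1_4 lc_a_rc_4_2 lc_a_rc_2_2 lc_a_rc_4_2 lc_a_rc_2_2 lc_a_rc_2_2 lc_a_rc_3_2 lc_a_rc_2_2 lc_a_rc_4_2 lc_a_rc_3_2 lc_a_rc_2_2 lc_a_rc_4_2 lc_a_rc_0_1 lc_a_rc_3_2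 lc_a_rc_4_2 lc_a_rc_0_1 lc_a_rc_21_0 lc_a_rc_0_1 lc_a_rc_4_2 lc_a_rc_1_4 lc_a_rc_22_0 lc_a_rc_4_2 lc_a_rc_3_2 lc_a_rc_0_1 lc_a_rc_0_1 lc_a_rc_4_2 lc_a_rc_3_2 lc_a_rc_3_2 lc_a_rc_21_0 lc_a_rc_3_2 lc_a_rc_0_1 lc_a_rc_4_0 lc_a_rc_21_0 lc_a_rc_0_1 lc_a_rc_3_2 lc_a_rc_5_2 lc_a_rc_5_2 lc_a_rc_0_1 lc_a_rc_4_2 lc_a_rc_3_2 lc_a_rc_21_0 lc_a_rc_2_2 lc_a_rc_2_2 lc_a_rc_2_2 lc_a_rc_1_2 lc_a_rc_3_2 lc_a_rc_5_0 lc_a_rc_2_2 lc_a_rc_5_2 lc_a_rc_4_2 lc_a_rc_2_2 lc_a_rc_4_2 lc_a_rc_2_2 lc_a_rc_4_2 lc_a_rc_3_2 lc_a_rc_2_2 lc_a_rc_2_2 lc_a_rc_4_2 lc_a_rc_2_0 lc_a_rc_5_2 lc_a_rc_21_0) (@D3.rec (fun _ => (Cert rels S Gen.a)) lc_a_rc_3_0 lc_a_rc_3_0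 lc_a_rc_2_0 lc_a_rc_4_0 lc_a_rc_0_1 lc_a_rc_0_1 lc_a_rc_3_0 lc_a_rc_4_2 lc_a_rc_1_2 lc_a_rc_5_2 lc_a_rc_2_2 lc_a_rc_2_2 lc_a_rc_5_2 lc_a_rc_3_2 lc_a_rc_21_0 lc_a_rc_2_2 lc_a_rc_21_0 lc_a_rc_21_0 lc_a_rc_22_0 lc_a_rc_4_0 lc_a_rc_5_0 lc_a_rc_3_2 lc_a_rc_1_2 lc_a_rc_3_2 lc_a_rc_2_2 lc_a_rc_3_0 lc_a_rc_0_1 lc_a_rc_21_0 lc_a_rc_21_0 lc_a_rc_2_2 lc_a_rc_21_0 lc_a_rc_0_1 lc_a_rc_0_1 lc_a_rc_2_2 lc_a_rc_21_0 lc_a_rc_2_2 lc_a_rc_2_2 lc_a_rc_1_2 lc_a_rc_3_2 lc_a_rc_0_1 lc_a_rc_2_2 lc_a_rc_1_2 lc_a_rc_2_2 lc_a_rc_3_2 lc_a_rc_1_2 lc_a_rc_21_0 lc_a_rc_1_4 lc_a_rc_2_2 lc_a_rc_2_0 lc_a_rc_3_2 lc_a_rc_3_2 lc_a_rc_4_2 lc_a_rc_2_2 lc_a_rc_2_0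 lc_a_rc_22_0 lc_a_rc_4_2 lc_a_rc_5_2 lc_a_rc_3_2 lc_a_rc_5_0 lc_a_rc_2_2 lc_a_rc_4_2 lc_a_rc_1_0) (@D3.rec (fun _ => (Cert rels S Gen.a)) lc_a_rc_4_2 lc_a_rc_21_0 lc_a_rc_1_2 lc_a_rc_0_1 lc_a_rc_2_2 lc_a_rc_4_2 lc_a_rc_3_2 lc_a_rc_0_1 lc_a_rc_2_2 lc_a_rc_3_0 lc_a_rc_2_2 lc_a_rc_1_4 lc_a_rc_3_2 lc_a_rc_0_1 lc_a_rc_5_0 lc_a_rc_5_2 lc_a_rc_3_2 lc_a_rc_4_2 lc_a_rc_21_0 lc_a_rc_1_4 lc_a_rc_0_1 lc_a_rc_2_2 lc_a_rc_2_2 lc_a_rc_2_2 lc_a_rc_4_2 lc_a_rc_2_2 lc_a_rc_1_4 lc_a_rc_21_0 lc_a_rc_22_0 lc_a_rc_2_2 lc_a_rc_2_2 lc_a_rc_4_2 lc_a_rc_4_2 lc_a_rc_3_2 lc_a_rc_3_2 lc_a_rc_4_2 lc_a_rc_2_2 lc_a_rc_21_0 lc_a_rc_3_2 lc_a_rc_5_2 lc_a_rc_3_0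 lc_a_rc_1_4 lc_a_rc_4_2 lc_a_rc_5_2 lc_a_rc_3_2 lc_a_rc_0_1 lc_a_rc_2_2 lc_a_rc_2_2 lc_a_rc_1_2 lc_a_rc_2_2 lc_a_rc_2_2 lc_a_rc_3_2 lc_a_rc_5_2 lc_a_rc_3_2 lc_a_rc_21_0 lc_a_rc_0_1 lc_a_rc_0_1 lc_a_rc_4_2 lc_a_rc_3_2 lc_a_rc_4_2 lc_a_rc_0_1 lc_a_rc_3_2) (@D3.rec (fun _ => (Cert rels S Gen.a)) lc_a_rc_5_2 lc_a_rc_3_0 lc_a_rc_5_0 lc_a_rc_21_0 lc_a_rc_2_0 lc_a_rc_21_0 lc_a_rc_3_2 lc_a_rc_3_2 lc_a_rc_21_0 lc_a_rc_0_1 lc_a_rc_0_1 lc_a_rc_1_4 lc_a_rc_2_2 lc_a_rc_4_2 lc_a_rc_4_2 lc_a_rc_3_2 lc_a_rc_2_2 lc_a_rc_4_2 lc_a_rc_3_0 lc_a_rc_2_2 lc_a_rc_1_2 lc_a_rc_4_2 lc_a_rc_3_2 lc_a_rc_3_0 lc_a_rc_3_2 lc_a_rc_4_2 lc_a_rc_4_2 lc_a_rc_2_0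 lc_a_rc_3_0 lc_a_rc_4_2 lc_a_rc_2_2 lc_a_rc_4_2 lc_a_rc_1_4 lc_a_rc_3_2 lc_a_rc_3_2 lc_a_rc_1_2 lc_a_rc_0_1 lc_a_rc_4_2 lc_a_rc_0_1 lc_a_rc_2_0 lc_a_rc_0_1 lc_a_Cert_tree lc_a_rc_1_2 lc_a_rc_4_2 lc_a_rc_0_1 lc_a_rc_0_1 lc_a_rc_2_2 lc_a_rc_4_2 lc_a_rc_2_2 lc_a_rc_2_2 lc_a_rc_3_2 lc_a_rc_5_2 lc_a_rc_4_2 lc_a_rc_4_2 lc_a_rc_3_2 lc_a_rc_0_1 lc_a_rc_0_1 lc_a_rc_5_0 lc_a_rc_4_2 lc_a_rc_2_0 lc_a_rc_4_2 lc_a_rc_0_1) (@D3.rec (fun _ => (Cert rels S Gen.a)) lc_a_rc_1_2 lc_a_rc_1_2 lc_a_rc_2_2 lc_a_rc_0_1 lc_a_rc_1_4 lc_a_rc_22_0 lc_a_rc_2_2 lc_a_rc_4_2 lc_a_rc_5_0 lc_a_rc_2_2 lc_a_rc_2_2 lc_a_rc_4_2 lc_a_rc_2_2 lc_a_rc_2_2 lc_a_rc_3_2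 lc_a_rc_2_2 lc_a_rc_0_1 lc_a_rc_3_2 lc_a_rc_3_2 lc_a_rc_0_1 lc_a_rc_3_2 lc_a_rc_4_2 lc_a_rc_4_2 lc_a_rc_2_2 lc_a_rc_3_2 lc_a_rc_4_2 lc_a_rc_4_2 lc_a_rc_1_4 lc_a_rc_3_2 lc_a_rc_2_2 lc_a_rc_5_2 lc_a_rc_2_2 lc_a_rc_3_2 lc_a_rc_4_0 lc_a_rc_2_2 lc_a_rc_5_2 lc_a_rc_21_0 lc_a_rc_2_2 lc_a_rc_5_0 lc_a_rc_4_2 lc_a_rc_3_2 lc_a_rc_21_0 lc_a_rc_4_2 lc_a_rc_4_2 lc_a_rc_4_2 lc_a_rc_4_2 lc_a_rc_5_2 lc_a_rc_21_0 lc_a_rc_21_0 lc_a_rc_0_1 lc_a_rc_3_2 lc_a_rc_1_2 lc_a_rc_0_1 lc_a_rc_2_0 lc_a_rc_1_4 lc_a_rc_2_2 lc_a_rc_3_2 lc_a_rc_5_2 lc_a_rc_2_0 lc_a_rc_3_0 lc_a_rc_4_2 lc_a_rc_3_2) (@D3.rec (fun _ => (Cert rels S Gen.a)) lc_a_rc_3_0 lc_a_rc_0_1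 lc_a_rc_1_2 lc_a_rc_3_2 lc_a_rc_0_1 lc_a_rc_2_2 lc_a_rc_4_2 lc_a_rc_3_2 lc_a_rc_2_0 lc_a_rc_2_0 lc_a_rc_3_2 lc_a_rc_2_2 lc_a_rc_3_2 lc_a_rc_1_4 lc_a_rc_3_2 lc_a_rc_21_0 lc_a_rc_21_0 lc_a_rc_0_1 lc_a_rc_3_2 lc_a_rc_4_2 lc_a_rc_1_4 lc_a_rc_1_2 lc_a_rc_1_2 lc_a_rc_2_2 lc_a_rc_2_2 lc_a_rc_3_2 lc_a_rc_4_2 lc_a_rc_2_0 lc_a_rc_3_2 lc_a_rc_5_2 lc_a_rc_4_2 lc_a_rc_4_2 lc_a_rc_4_2 lc_a_rc_4_0 lc_a_rc_4_0 lc_a_rc_4_2 lc_a_rc_1_4 lc_a_rc_1_4 lc_a_rc_3_2 lc_a_rc_3_2 lc_a_rc_3_0 lc_a_rc_2_2 lc_a_rc_3_2 lc_a_rc_3_2 lc_a_rc_3_2 lc_a_rc_5_0 lc_a_rc_3_2 lc_a_rc_1_4 lc_a_rc_3_0 lc_a_rc_2_0 lc_a_rc_3_0 lc_a_rc_1_0 lc_a_rc_3_2 lc_a_rc_0_1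 lc_a_rc_2_0 lc_a_rc_2_2 lc_a_rc_5_0 lc_a_rc_1_0 lc_a_rc_2_2 lc_a_rc_0_1 lc_a_rc_3_2 lc_a_rc_2_2) (@D3.rec (fun _ => (Cert rels S Gen.a)) lc_a_rc_3_2 lc_a_rc_2_0 lc_a_rc_21_0 lc_a_rc_5_2 lc_a_rc_4_2 lc_a_rc_3_0 lc_a_rc_4_2 lc_a_rc_3_2 lc_a_rc_4_2 lc_a_rc_2_2 lc_a_rc_1_2 lc_a_rc_3_0 lc_a_rc_1_0 lc_a_rc_3_2 lc_a_rc_3_2 lc_a_rc_2_2 lc_a_rc_3_2 lc_a_rc_4_2 lc_a_rc_3_2 lc_a_rc_3_2 lc_a_rc_4_2 lc_a_rc_3_2 lc_a_rc_2_2 lc_a_rc_0_1 lc_a_rc_5_2 lc_a_rc_4_2 lc_a_rc_2_0 lc_a_rc_3_2 lc_a_rc_0_1 lc_a_rc_4_2 lc_a_rc_4_2 lc_a_rc_3_2 lc_a_rc_5_2 lc_a_rc_4_2 lc_a_rc_0_1 lc_a_rc_0_1 lc_a_rc_5_2 lc_a_rc_1_4 lc_a_rc_2_2 lc_a_rc_0_1 lc_a_rc_1_0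 lc_a_rc_5_2 lc_a_rc_22_0 lc_a_rc_1_4 lc_a_rc_3_2 lc_a_rc_1_0 lc_a_rc_22_0 lc_a_rc_5_0 lc_a_rc_2_2 lc_a_rc_0_1 lc_a_rc_0_1 lc_a_rc_0_1 lc_a_rc_2_0 lc_a_rc_1_4 lc_a_rc_0_1 lc_a_rc_22_0 lc_a_rc_22_0 lc_a_rc_4_2 lc_a_rc_2_2 lc_a_rc_22_0 lc_a_rc_0_1 lc_a_rc_22_0) (@D3.rec (fun _ => (Cert rels S Gen.a)) lc_a_rc_2_2 lc_a_rc_5_0 lc_a_rc_21_0 lc_a_rc_3_2 lc_a_rc_2_2 lc_a_rc_2_2 lc_a_rc_2_2 lc_a_rc_0_1 lc_a_rc_4_2 lc_a_rc_4_2 lc_a_rc_21_0 lc_a_rc_3_2 lc_a_rc_3_2 lc_a_rc_2_2 lc_a_rc_21_0 lc_a_rc_2_0 lc_a_rc_1_0 lc_a_rc_3_2 lc_a_rc_3_2 lc_a_rc_2_2 lc_a_rc_1_4 lc_a_rc_3_2 lc_a_rc_3_2 lc_a_rc_21_0 lc_a_rc_3_2 lc_a_rc_3_2 lc_a_rc_4_2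 lc_a_rc_5_0 lc_a_rc_22_0 lc_a_rc_4_2 lc_a_rc_3_0 lc_a_rc_3_2 lc_a_rc_3_2 lc_a_rc_3_2 lc_a_rc_2_0 lc_a_rc_3_2 lc_a_rc_1_4 lc_a_rc_4_2 lc_a_rc_4_2 lc_a_rc_4_2 lc_a_rc_21_0 lc_a_rc_22_0 lc_a_rc_3_2 lc_a_rc_4_2 lc_a_rc_4_2 lc_a_rc_0_1 lc_a_rc_3_2 lc_a_rc_3_2 lc_a_rc_5_2 lc_a_rc_2_2 lc_a_rc_21_0 lc_a_rc_3_2 lc_a_rc_4_2 lc_a_rc_2_2 lc_a_rc_4_0 lc_a_rc_3_2 lc_a_rc_4_2 lc_a_rc_2_0 lc_a_rc_3_2 lc_a_rc_0_1 lc_a_rc_3_2 lc_a_rc_3_2) (@D3.rec (fun _ => (Cert rels S Gen.a)) lc_a_rc_21_0 lc_a_rc_2_0 lc_a_rc_2_2 lc_a_rc_1_4 lc_a_rc_21_0 lc_a_rc_3_2 lc_a_rc_0_1 lc_a_rc_2_2 lc_a_rc_3_0 lc_a_rc_3_2 lc_a_rc_3_2 lc_a_rc_4_2 lc_a_rc_1_0 lc_a_rc_2_2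 lc_a_rc_3_0 lc_a_rc_1_0 lc_a_rc_4_2 lc_a_rc_2_0 lc_a_rc_4_2 lc_a_rc_21_0 lc_a_rc_0_1 lc_a_rc_3_2 lc_a_rc_4_2 lc_a_rc_4_2 lc_a_rc_3_0 lc_a_rc_2_2 lc_a_rc_1_0 lc_a_rc_0_1 lc_a_rc_4_2 lc_a_rc_21_0 lc_a_rc_22_0 lc_a_rc_0_1 lc_a_rc_4_0 lc_a_rc_3_2 lc_a_rc_3_2 lc_a_rc_1_0 lc_a_rc_4_2 lc_a_rc_3_0 lc_a_rc_2_0 lc_a_rc_2_2 lc_a_rc_3_2 lc_a_rc_5_2 lc_a_rc_4_0 lc_a_rc_2_0 lc_a_rc_5_2 lc_a_rc_5_0 lc_a_rc_3_2 lc_a_rc_2_2 lc_a_rc_21_0 lc_a_rc_3_2 lc_a_rc_2_0 lc_a_rc_2_0 lc_a_rc_0_1 lc_a_rc_3_2 lc_a_rc_3_2 lc_a_rc_4_0 lc_a_rc_2_2 lc_a_rc_3_0 lc_a_rc_4_2 lc_a_rc_1_4 lc_a_rc_4_2 lc_a_rc_0_1) (@D3.rec (fun _ => (Cert rels S Gen.a)) lc_a_rc_4_2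 lc_a_rc_0_1 lc_a_rc_3_2 lc_a_rc_3_2 lc_a_rc_4_0 lc_a_rc_5_2 lc_a_rc_4_2 lc_a_rc_5_0 lc_a_rc_4_2 lc_a_rc_4_0 lc_a_rc_2_2 lc_a_rc_4_2 lc_a_rc_0_1 lc_a_rc_3_0 lc_a_rc_4_0 lc_a_rc_2_2 lc_a_rc_5_2 lc_a_rc_21_0 lc_a_rc_4_2 lc_a_rc_4_2 lc_a_rc_1_2 lc_a_rc_3_2 lc_a_rc_0_1 lc_a_rc_1_4 lc_a_rc_2_2 lc_a_rc_21_0 lc_a_rc_5_2 lc_a_rc_2_2 lc_a_rc_4_2 lc_a_rc_5_2 lc_a_rc_2_0 lc_a_rc_2_2 lc_a_rc_3_2 lc_a_rc_4_2 lc_a_rc_2_2 lc_a_rc_4_2 lc_a_rc_5_2 lc_a_rc_4_2 lc_a_rc_3_2 lc_a_rc_3_2 lc_a_rc_5_2 lc_a_rc_3_2 lc_a_rc_5_2 lc_a_rc_1_4 lc_a_rc_4_2 lc_a_rc_21_0 lc_a_rc_3_2 lc_a_rc_2_2 lc_a_rc_5_0 lc_a_rc_0_1 lc_a_rc_5_2 lc_a_rc_21_0 lc_a_rc_0_1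 lc_a_rc_3_2 lc_a_rc_4_0 lc_a_rc_5_0 lc_a_rc_2_2 lc_a_rc_21_0 lc_a_rc_4_0 lc_a_rc_4_0 lc_a_rc_2_2 lc_a_rc_4_2) (@D3.rec (fun _ => (Cert rels S Gen.a)) lc_a_rc_2_2 lc_a_rc_21_0 lc_a_rc_4_0 lc_a_rc_4_0 lc_a_rc_0_1 lc_a_rc_3_2 lc_a_rc_1_2 lc_a_rc_4_2 lc_a_rc_4_2 lc_a_rc_21_0 lc_a_rc_4_2 lc_a_rc_3_2 lc_a_rc_4_0 lc_a_rc_5_2 lc_a_rc_4_2 lc_a_rc_2_0 lc_a_rc_2_0 lc_a_rc_3_0 lc_a_rc_4_2 lc_a_rc_3_2 lc_a_rc_4_2 lc_a_rc_3_2 lc_a_rc_2_2 lc_a_rc_4_2 lc_a_rc_2_0 lc_a_rc_1_0 lc_a_rc_21_0 lc_a_rc_4_2 lc_a_rc_5_2 lc_a_rc_3_2 lc_a_rc_2_2 lc_a_rc_3_2 lc_a_rc_4_2 lc_a_rc_0_1 lc_a_rc_3_0 lc_a_rc_5_2 lc_a_rc_0_1 lc_a_rc_5_2 lc_a_rc_4_2 lc_a_rc_1_0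 lc_a_rc_4_2 lc_a_rc_4_2 lc_a_rc_4_2 lc_a_rc_0_1 lc_a_rc_21_0 lc_a_rc_0_1 lc_a_rc_3_2 lc_a_rc_4_2 lc_a_rc_0_1 lc_a_rc_3_2 lc_a_rc_3_2 lc_a_rc_3_0 lc_a_rc_5_2 lc_a_rc_2_2 lc_a_rc_3_2 lc_a_rc_0_1 lc_a_rc_3_2 lc_a_rc_4_2 lc_a_rc_0_1 lc_a_rc_3_0 lc_a_rc_0_1 lc_a_rc_1_2) (@D3.rec (fun _ => (Cert rels S Gen.a)) lc_a_rc_5_0 lc_a_rc_1_2 lc_a_rc_4_2 lc_a_rc_3_2 lc_a_rc_4_2 lc_a_rc_1_2 lc_a_rc_4_0 lc_a_rc_4_2 lc_a_rc_1_4 lc_a_rc_1_2 lc_a_rc_5_2 lc_a_rc_0_1 lc_a_rc_3_2 lc_a_rc_2_2 lc_a_rc_3_2 lc_a_rc_1_4 lc_a_rc_4_2 lc_a_rc_4_2 lc_a_rc_0_1 lc_a_rc_1_4 lc_a_rc_21_0 lc_a_rc_1_4 lc_a_rc_4_2 lc_a_rc_4_2 lc_a_rc_21_0 lc_a_rc_5_0 lc_a_rc_4_0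 lc_a_rc_2_2 lc_a_rc_4_0 lc_a_rc_1_2 lc_a_rc_3_2 lc_a_rc_3_2 lc_a_rc_2_2 lc_a_rc_4_2 lc_a_rc_4_0 lc_a_rc_3_2 lc_a_rc_22_0 lc_a_rc_4_2 lc_a_rc_0_1 lc_a_rc_3_2 lc_a_Cert_tree lc_a_rc_4_2 lc_a_rc_4_2 lc_a_rc_0_1 lc_a_rc_5_2 lc_a_rc_1_2 lc_a_rc_0_1 lc_a_rc_21_0 lc_a_rc_4_0 lc_a_rc_4_2 lc_a_rc_2_2 lc_a_rc_4_2 lc_a_rc_2_0 lc_a_rc_21_0 lc_a_rc_2_2 lc_a_rc_21_0 lc_a_rc_3_2 lc_a_rc_1_2 lc_a_rc_4_2 lc_a_rc_4_2 lc_a_rc_1_4 lc_a_rc_2_0) (@D3.rec (fun _ => (Cert rels S Gen.a)) lc_a_rc_2_2 lc_a_rc_0_1 lc_a_rc_3_2 lc_a_rc_2_2 lc_a_rc_0_1 lc_a_rc_3_2 lc_a_rc_3_2 lc_a_rc_1_2 lc_a_rc_2_2 lc_a_rc_4_2 lc_a_rc_21_0 lc_a_rc_2_2 lc_a_rc_21_0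 lc_a_rc_21_0 lc_a_rc_2_2 lc_a_rc_21_0 lc_a_rc_3_2 lc_a_rc_0_1 lc_a_rc_0_1 lc_a_rc_4_2 lc_a_rc_21_0 lc_a_rc_4_2 lc_a_rc_3_2 lc_a_rc_3_0 lc_a_rc_4_2 lc_a_rc_4_0 lc_a_rc_0_1 lc_a_rc_5_2 lc_a_rc_3_0 lc_a_rc_3_0 lc_a_rc_4_2 lc_a_rc_2_0 lc_a_rc_21_0 lc_a_rc_21_0 lc_a_rc_0_1 lc_a_rc_4_2 lc_a_rc_4_0 lc_a_rc_0_1 lc_a_rc_3_0 lc_a_rc_4_2 lc_a_rc_4_2 lc_a_rc_4_2 lc_a_rc_4_0 lc_a_rc_2_0 lc_a_rc_3_2 lc_a_rc_1_2 lc_a_rc_21_0 lc_a_rc_2_2 lc_a_rc_5_2 lc_a_rc_3_2 lc_a_rc_4_2 lc_a_rc_2_2 lc_a_rc_2_0 lc_a_rc_0_1 lc_a_rc_0_1 lc_a_rc_2_2 lc_a_rc_4_2 lc_a_rc_21_0 lc_a_rc_4_2 lc_a_rc_1_2 lc_a_rc_1_4 lc_a_rc_2_2) (@D3.rec (fun _ => (Cert rels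 S Gen.a)) lc_a_rc_4_0 lc_a_rc_0_1 lc_a_rc_2_0 lc_a_rc_4_2 lc_a_rc_4_2 lc_a_rc_4_2 lc_a_rc_2_2 lc_a_rc_4_2 lc_a_rc_1_0 lc_a_rc_0_1 lc_a_rc_1_2 lc_a_rc_2_2 lc_a_rc_4_2 lc_a_rc_2_2 lc_a_rc_1_0 lc_a_rc_5_2 lc_a_rc_2_2 lc_a_rc_5_0 lc_a_rc_4_2 lc_a_rc_4_0 lc_a_rc_3_0 lc_a_rc_2_2 lc_a_rc_0_1 lc_a_rc_2_2 lc_a_rc_4_0 lc_a_rc_0_1 lc_a_rc_22_0 lc_a_rc_0_1 lc_a_rc_4_2 lc_a_rc_0_1 lc_a_rc_2_2 lc_a_rc_4_2 lc_a_rc_1_4 lc_a_rc_3_2 lc_a_rc_4_2 lc_a_rc_0_1 lc_a_rc_3_0 lc_a_rc_4_0 lc_a_rc_1_4 lc_a_rc_3_2 lc_a_rc_4_0 lc_a_rc_2_2 lc_a_rc_1_4 lc_a_rc_4_2 lc_a_rc_4_2 lc_a_rc_5_0 lc_a_rc_4_0 lc_a_rc_1_2 lc_a_rc_3_2 lc_a_rc_3_0 lc_a_rc_2_2 lc_a_rc_3_0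 lc_a_rc_4_0 lc_a_rc_3_2 lc_a_rc_4_2 lc_a_rc_2_2 lc_a_rc_4_2 lc_a_rc_3_2 lc_a_rc_3_2 lc_a_rc_21_0 lc_a_rc_2_0 lc_a_rc_0_1) (@D3.rec (fun _ => (Cert rels S Gen.a)) lc_a_rc_3_2 lc_a_rc_2_2 lc_a_rc_0_1 lc_a_rc_4_2 lc_a_rc_2_0 lc_a_rc_3_2 lc_a_rc_1_2 lc_a_rc_4_2 lc_a_rc_4_2 lc_a_rc_4_2 lc_a_rc_4_2 lc_a_rc_4_0 lc_a_rc_1_4 lc_a_rc_21_0 lc_a_rc_2_2 lc_a_rc_4_2 lc_a_rc_3_2 lc_a_rc_0_1 lc_a_rc_0_1 lc_a_rc_3_2 lc_a_rc_3_2 lc_a_rc_4_2 lc_a_rc_21_0 lc_a_rc_2_0 lc_a_rc_5_2 lc_a_rc_3_2 lc_a_rc_3_2 lc_a_rc_1_0 lc_a_rc_2_2 lc_a_rc_3_2 lc_a_rc_3_2 lc_a_rc_22_0 lc_a_rc_5_0 lc_a_rc_5_2 lc_a_rc_2_2 lc_a_rc_2_2 lc_a_rc_1_4 lc_a_rc_3_2 lc_a_rc_3_2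 lc_a_rc_3_2 lc_a_rc_0_1 lc_a_rc_0_1 lc_a_rc_2_2 lc_a_rc_4_0 lc_a_rc_2_2 lc_a_rc_22_0 lc_a_rc_3_2 lc_a_rc_2_2 lc_a_rc_2_2 lc_a_rc_3_2 lc_a_rc_4_2 lc_a_rc_3_0 lc_a_rc_0_1 lc_a_rc_1_2 lc_a_rc_4_2 lc_a_rc_4_0 lc_a_rc_5_2 lc_a_rc_1_0 lc_a_rc_5_2 lc_a_rc_4_0 lc_a_rc_5_2 lc_a_rc_4_2) (@D3.rec (fun _ => (Cert rels S Gen.a)) lc_a_rc_4_2 lc_a_rc_5_2 lc_a_rc_1_0 lc_a_rc_1_0 lc_a_rc_1_2 lc_a_rc_2_2 lc_a_rc_2_2 lc_a_rc_1_0 lc_a_rc_1_0 lc_a_rc_1_4 lc_a_rc_5_0 lc_a_rc_2_0 lc_a_rc_0_1 lc_a_rc_21_0 lc_a_rc_5_0 lc_a_rc_21_0 lc_a_rc_2_2 lc_a_rc_5_2 lc_a_rc_2_2 lc_a_rc_3_2 lc_a_rc_3_2 lc_a_rc_2_2 lc_a_rc_0_1 lc_a_rc_0_1 lc_a_rc_1_2 lc_a_rc_5_2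 lc_a_rc_3_2 lc_a_rc_3_2 lc_a_rc_3_2 lc_a_rc_21_0 lc_a_rc_3_2 lc_a_rc_3_2 lc_a_rc_3_0 lc_a_rc_5_0 lc_a_rc_2_2 lc_a_rc_5_2 lc_a_rc_4_2 lc_a_rc_4_2 lc_a_rc_3_2 lc_a_rc_2_0 lc_a_rc_3_2 lc_a_rc_1_2 lc_a_rc_22_0 lc_a_rc_0_1 lc_a_rc_0_1 lc_a_rc_0_1 lc_a_rc_4_0 lc_a_rc_2_2 lc_a_rc_3_2 lc_a_rc_3_2 lc_a_rc_3_2 lc_a_rc_2_2 lc_a_rc_0_1 lc_a_rc_3_2 lc_a_rc_21_0 lc_a_rc_3_2 lc_a_rc_4_0 lc_a_rc_2_0 lc_a_rc_5_2 lc_a_rc_4_2 lc_a_rc_0_1 lc_a_rc_4_0) (@D3.rec (fun _ => (Cert rels S Gen.a)) lc_a_rc_1_2 lc_a_rc_4_2 lc_a_rc_0_1 lc_a_rc_4_0 lc_a_rc_5_2 lc_a_rc_3_2 lc_a_rc_2_0 lc_a_rc_3_2 lc_a_rc_4_0 lc_a_rc_3_2 lc_a_rc_5_0 lc_a_rc_0_1 lc_a_rc_2_2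 lc_a_rc_2_2 lc_a_rc_1_0 lc_a_rc_2_2 lc_a_rc_1_4 lc_a_rc_4_2 lc_a_rc_0_1 lc_a_rc_2_2 lc_a_rc_3_2 lc_a_rc_3_2 lc_a_rc_3_2 lc_a_rc_2_2 lc_a_rc_2_2 lc_a_rc_4_2 lc_a_rc_3_2 lc_a_rc_3_0 lc_a_rc_22_0 lc_a_rc_3_2 lc_a_rc_22_0 lc_a_rc_5_2 lc_a_rc_3_2 lc_a_rc_3_0 lc_a_rc_2_2 lc_a_rc_3_2 lc_a_rc_5_2 lc_a_rc_2_2 lc_a_rc_4_2 lc_a_rc_1_2 lc_a_rc_5_2 lc_a_rc_0_1 lc_a_rc_4_2 lc_a_rc_0_1 lc_a_rc_2_2 lc_a_rc_2_2 lc_a_rc_3_2 lc_a_rc_3_2 lc_a_rc_4_2 lc_a_rc_4_2 lc_a_rc_22_0 lc_a_rc_21_0 lc_a_rc_21_0 lc_a_rc_4_2 lc_a_rc_4_2 lc_a_rc_4_0 lc_a_rc_4_0 lc_a_rc_4_0 lc_a_rc_0_1 lc_a_rc_2_2 lc_a_rc_22_0 lc_a_rc_4_2) (@D3.rec (fun _ => (Cert rels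 S Gen.a)) lc_a_rc_4_2 lc_a_rc_4_2 lc_a_rc_3_2 lc_a_rc_2_0 lc_a_rc_2_2 lc_a_rc_1_0 lc_a_rc_3_2 lc_a_rc_2_0 lc_a_rc_4_2 lc_a_rc_1_4 lc_a_rc_4_2 lc_a_rc_2_2 lc_a_rc_3_0 lc_a_rc_0_1 lc_a_rc_1_4 lc_a_rc_0_1 lc_a_rc_4_2 lc_a_rc_3_2 lc_a_rc_4_2 lc_a_rc_3_2 lc_a_rc_4_2 lc_a_rc_21_0 lc_a_rc_3_2 lc_a_rc_4_2 lc_a_rc_5_2 lc_a_rc_2_2 lc_a_rc_4_2 lc_a_rc_0_1 lc_a_rc_3_2 lc_a_rc_2_2 lc_a_rc_2_2 lc_a_rc_2_2 lc_a_rc_4_2 lc_a_rc_21_0 lc_a_rc_4_2 lc_a_rc_5_0 lc_a_rc_4_2 lc_a_rc_5_2 lc_a_rc_0_1 lc_a_rc_2_2 lc_a_rc_3_0 lc_a_rc_21_0 lc_a_rc_4_2 lc_a_rc_5_2 lc_a_rc_3_2 lc_a_rc_1_4 lc_a_rc_4_2 lc_a_rc_1_4 lc_a_rc_4_2 lc_a_rc_3_2 lc_a_rc_3_2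 lc_a_rc_21_0 lc_a_rc_4_2 lc_a_rc_0_1 lc_a_rc_1_2 lc_a_rc_4_2 lc_a_rc_3_2 lc_a_rc_1_0 lc_a_rc_21_0 lc_a_rc_4_2 lc_a_rc_3_2 lc_a_rc_21_0) (@D3.rec (fun _ => (Cert rels S Gen.a)) lc_a_rc_3_2 lc_a_rc_3_2 lc_a_rc_3_0 lc_a_rc_21_0 lc_a_rc_2_2 lc_a_rc_3_2 lc_a_rc_21_0 lc_a_rc_3_0 lc_a_rc_2_0 lc_a_rc_1_2 lc_a_rc_2_2 lc_a_rc_1_0 lc_a_rc_3_2 lc_a_rc_1_2 lc_a_rc_1_2 lc_a_rc_0_1 lc_a_rc_0_1 lc_a_rc_21_0 lc_a_rc_2_2 lc_a_rc_0_1 lc_a_rc_1_4 lc_a_rc_3_2 lc_a_rc_0_1 lc_a_rc_3_0 lc_a_rc_4_0 lc_a_rc_0_1 lc_a_rc_22_0 lc_a_rc_5_2 lc_a_rc_3_2 lc_a_rc_3_2 lc_a_rc_0_1 lc_a_rc_3_0 lc_a_rc_2_2 lc_a_rc_4_2 lc_a_rc_21_0 lc_a_rc_2_0 lc_a_rc_3_2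 lc_a_rc_4_2 lc_a_rc_2_2 lc_a_rc_4_2 lc_a_rc_1_4 lc_a_rc_3_2 lc_a_rc_0_1 lc_a_rc_0_1 lc_a_rc_3_2 lc_a_rc_0_1 lc_a_rc_2_2 lc_a_rc_2_2 lc_a_rc_0_1 lc_a_rc_4_2 lc_a_rc_4_2 lc_a_rc_3_0 lc_a_rc_5_2 lc_a_rc_2_2 lc_a_rc_21_0 lc_a_rc_21_0 lc_a_rc_3_2 lc_a_rc_2_2 lc_a_rc_0_1 lc_a_rc_3_2 lc_a_rc_21_0 lc_a_rc_5_2) (@D3.rec (fun _ => (Cert rels S Gen.a)) lc_a_rc_4_2 lc_a_rc_1_2 lc_a_rc_4_2 lc_a_rc_2_2 lc_a_rc_2_2 lc_a_rc_4_0 lc_a_rc_3_2 lc_a_rc_5_2 lc_a_rc_4_2 lc_a_rc_1_2 lc_a_rc_4_2 lc_a_rc_4_0 lc_a_rc_2_2 lc_a_rc_1_4 lc_a_rc_2_2 lc_a_rc_4_2 lc_a_rc_3_2 lc_a_rc_1_4 lc_a_rc_1_0 lc_a_rc_4_2 lc_a_rc_1_4 lc_a_rc_22_0 lc_a_Cert_tree lc_a_rc_5_0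 lc_a_rc_3_2 lc_a_rc_0_1 lc_a_rc_0_1 lc_a_rc_22_0 lc_a_rc_0_1 lc_a_rc_21_0 lc_a_rc_3_0 lc_a_rc_4_2 lc_a_rc_4_2 lc_a_rc_4_0 lc_a_rc_4_0 lc_a_rc_22_0 lc_a_rc_2_2 lc_a_rc_3_0 lc_a_rc_4_2 lc_a_rc_4_0 lc_a_rc_0_1 lc_a_rc_2_2 lc_a_rc_4_2 lc_a_rc_4_2 lc_a_rc_5_2 lc_a_rc_4_0 lc_a_rc_3_0 lc_a_rc_5_0 lc_a_rc_0_1 lc_a_rc_1_2 lc_a_rc_21_0 lc_a_rc_4_0 lc_a_rc_5_0 lc_a_rc_21_0 lc_a_rc_22_0 lc_a_rc_4_2 lc_a_rc_0_1 lc_a_rc_3_0 lc_a_rc_0_1 lc_a_rc_4_0 lc_a_rc_1_2 lc_a_rc_3_0) (@D3.rec (fun _ => (Cert rels S Gen.a)) lc_a_rc_0_1 lc_a_rc_1_4 lc_a_rc_2_2 lc_a_rc_2_0 lc_a_rc_1_2 lc_a_rc_4_2 lc_a_rc_21_0 lc_a_rc_4_2 lc_a_rc_4_2 lc_a_rc_2_2 lc_a_rc_4_2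 lc_a_rc_22_0 lc_a_rc_5_2 lc_a_rc_2_2 lc_a_rc_2_2 lc_a_rc_4_2 lc_a_rc_2_0 lc_a_rc_1_2 lc_a_rc_4_0 lc_a_rc_0_1 lc_a_rc_2_2 lc_a_rc_2_2 lc_a_rc_2_0 lc_a_rc_5_2 lc_a_rc_0_1 lc_a_rc_4_2 lc_a_rc_0_1 lc_a_rc_4_0 lc_a_rc_3_2 lc_a_rc_5_2 lc_a_rc_1_0 lc_a_rc_0_1 lc_a_rc_0_1 lc_a_rc_2_2 lc_a_rc_1_2 lc_a_rc_0_1 lc_a_rc_4_2 lc_a_rc_21_0 lc_a_rc_0_1 lc_a_rc_2_2 lc_a_rc_1_2 lc_a_rc_5_0 lc_a_rc_2_0 lc_a_rc_0_1 lc_a_rc_4_2 lc_a_rc_21_0 lc_a_rc_3_2 lc_a_rc_0_1 lc_a_rc_2_2 lc_a_rc_2_2 lc_a_rc_0_1 lc_a_rc_4_2 lc_a_rc_21_0 lc_a_rc_3_2 lc_a_rc_2_2 lc_a_rc_3_0 lc_a_rc_4_2 lc_a_rc_21_0 lc_a_rc_2_0 lc_a_rc_4_0 lc_a_rc_4_0 lc_a_rc_5_2) (@D3.rec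 (fun _ => (Cert rels S Gen.a)) lc_a_rc_1_2 lc_a_rc_4_2 lc_a_rc_3_2 lc_a_rc_2_0 lc_a_rc_3_2 lc_a_rc_5_2 lc_a_rc_4_0 lc_a_rc_3_0 lc_a_rc_0_1 lc_a_rc_0_1 lc_a_rc_5_2 lc_a_rc_5_0 lc_a_rc_2_2 lc_a_rc_4_2 lc_a_rc_3_2 lc_a_rc_2_2 lc_a_rc_4_0 lc_a_rc_2_2 lc_a_rc_3_0 lc_a_rc_2_0 lc_a_rc_22_0 lc_a_rc_2_2 lc_a_rc_3_2 lc_a_rc_3_2 lc_a_rc_21_0 lc_a_rc_0_1 lc_a_rc_2_2 lc_a_rc_21_0 lc_a_rc_4_2 lc_a_rc_2_0 lc_a_rc_0_1 lc_a_rc_2_2 lc_a_rc_1_4 lc_a_rc_2_2 lc_a_rc_0_1 lc_a_rc_21_0 lc_a_rc_2_2 lc_a_rc_4_2 lc_a_rc_0_1 lc_a_rc_3_2 lc_a_rc_1_2 lc_a_rc_22_0 lc_a_rc_1_2 lc_a_rc_4_0 lc_a_rc_3_2 lc_a_rc_4_2 lc_a_rc_22_0 lc_a_rc_22_0 lc_a_rc_2_2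 lc_a_rc_3_0 lc_a_rc_5_2 lc_a_rc_0_1 lc_a_rc_1_4 lc_a_rc_2_0 lc_a_rc_2_2 lc_a_rc_2_0 lc_a_rc_4_0 lc_a_rc_3_2 lc_a_rc_1_4 lc_a_rc_2_0 lc_a_rc_1_4 lc_a_rc_21_0) (@D3.rec (fun _ => (Cert rels S Gen.a)) lc_a_rc_21_0 lc_a_rc_4_2 lc_a_rc_0_1 lc_a_rc_1_4 lc_a_rc_3_2 lc_a_rc_3_0 lc_a_rc_2_2 lc_a_rc_4_2 lc_a_rc_4_2 lc_a_rc_0_1 lc_a_rc_2_2 lc_a_rc_4_2 lc_a_rc_2_2 lc_a_rc_3_0 lc_a_rc_21_0 lc_a_rc_2_2 lc_a_rc_0_1 lc_a_rc_2_2 lc_a_rc_4_2 lc_a_rc_1_4 lc_a_rc_21_0 lc_a_rc_0_1 lc_a_rc_5_0 lc_a_rc_5_0 lc_a_rc_3_2 lc_a_rc_5_0 lc_a_rc_3_2 lc_a_rc_5_0 lc_a_rc_2_2 lc_a_rc_5_0 lc_a_rc_5_2 lc_a_rc_2_0 lc_a_rc_3_2 lc_a_rc_4_2 lc_a_rc_2_0 lc_a_rc_2_0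 lc_a_rc_0_1 lc_a_rc_4_2 lc_a_rc_3_2 lc_a_rc_4_2 lc_a_rc_3_2 lc_a_rc_3_2 lc_a_rc_4_0 lc_a_rc_21_0 lc_a_rc_0_1 lc_a_rc_3_0 lc_a_rc_1_4 lc_a_rc_2_2 lc_a_rc_3_2 lc_a_rc_2_2 lc_a_rc_2_0 lc_a_rc_5_2 lc_a_rc_4_2 lc_a_rc_0_1 lc_a_rc_3_0 lc_a_rc_3_2 lc_a_rc_4_2 lc_a_rc_3_2 lc_a_rc_4_2 lc_a_rc_3_2 lc_a_rc_5_2 lc_a_rc_4_2) (@D3.rec (fun _ => (Cert rels S Gen.a)) lc_a_rc_3_2 lc_a_rc_4_2 lc_a_rc_3_2 lc_a_rc_1_0 lc_a_rc_4_2 lc_a_rc_3_2 lc_a_rc_4_2 lc_a_rc_1_0 lc_a_rc_3_2 lc_a_rc_1_2 lc_a_rc_3_2 lc_a_rc_4_2 lc_a_rc_4_2 lc_a_rc_0_1 lc_a_rc_21_0 lc_a_rc_5_2 lc_a_rc_4_2 lc_a_rc_1_0 lc_a_rc_2_2 lc_a_rc_4_2 lc_a_rc_2_2 lc_a_rc_5_2 lc_a_rc_1_4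 lc_a_rc_0_1 lc_a_rc_4_2 lc_a_rc_4_2 lc_a_rc_3_2 lc_a_rc_4_2 lc_a_rc_2_2 lc_a_rc_2_2 lc_a_rc_4_2 lc_a_rc_0_1 lc_a_rc_0_1 lc_a_rc_0_1 lc_a_rc_21_0 lc_a_rc_4_2 lc_a_rc_2_2 lc_a_rc_4_2 lc_a_rc_0_1 lc_a_rc_2_2 lc_a_rc_3_2 lc_a_rc_4_0 lc_a_rc_1_4 lc_a_rc_4_2 lc_a_rc_1_4 lc_a_rc_1_0 lc_a_rc_5_2 lc_a_rc_5_2 lc_a_rc_3_2 lc_a_rc_0_1 lc_a_rc_4_0 lc_a_rc_0_1 lc_a_rc_5_2 lc_a_rc_4_0 lc_a_rc_4_2 lc_a_rc_2_2 lc_a_rc_22_0 lc_a_rc_3_2 lc_a_rc_4_2 lc_a_rc_0_1 lc_a_rc_3_0 lc_a_rc_4_2) (@D3.rec (fun _ => (Cert rels S Gen.a)) lc_a_rc_5_2 lc_a_rc_21_0 lc_a_rc_1_4 lc_a_rc_3_2 lc_a_rc_2_0 lc_a_rc_21_0 lc_a_rc_3_0 lc_a_rc_2_2 lc_a_rc_0_1 lc_a_rc_3_2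 lc_a_rc_0_1 lc_a_rc_1_4 lc_a_rc_3_0 lc_a_rc_4_2 lc_a_rc_21_0 lc_a_rc_1_4 lc_a_rc_4_2 lc_a_rc_0_1 lc_a_rc_3_2 lc_a_rc_4_0 lc_a_rc_1_4 lc_a_rc_21_0 lc_a_rc_3_0 lc_a_rc_2_0 lc_a_rc_4_2 lc_a_rc_2_2 lc_a_rc_3_2 lc_a_rc_21_0 lc_a_rc_3_0 lc_a_rc_3_0 lc_a_rc_4_0 lc_a_rc_5_2 lc_a_rc_21_0 lc_a_rc_4_2 lc_a_rc_21_0 lc_a_rc_5_0 lc_a_rc_0_1 lc_a_rc_5_0 lc_a_rc_3_2 lc_a_rc_4_2 lc_a_rc_5_0 lc_a_rc_22_0 lc_a_rc_0_1 lc_a_rc_0_1 lc_a_rc_3_2 lc_a_rc_3_2 lc_a_rc_22_0 lc_a_rc_3_2 lc_a_rc_22_0 lc_a_rc_4_0 lc_a_rc_2_2 lc_a_rc_1_4 lc_a_rc_4_2 lc_a_rc_0_1 lc_a_rc_1_2 lc_a_rc_2_2 lc_a_rc_5_2 lc_a_rc_21_0 lc_a_rc_3_2 lc_a_rc_1_4 lc_a_rc_22_0 lc_a_rc_4_2)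 (@D3.rec (fun _ => (Cert rels S Gen.a)) lc_a_rc_3_0 lc_a_rc_3_2 lc_a_rc_5_2 lc_a_rc_0_1 lc_a_rc_2_2 lc_a_rc_2_0 lc_a_rc_1_0 lc_a_rc_2_0 lc_a_rc_3_2 lc_a_rc_5_2 lc_a_rc_4_2 lc_a_rc_0_1 lc_a_rc_1_2 lc_a_rc_2_0 lc_a_rc_22_0 lc_a_rc_21_0 lc_a_rc_4_2 lc_a_rc_2_0 lc_a_rc_3_2 lc_a_rc_4_0 lc_a_rc_5_2 lc_a_rc_21_0 lc_a_rc_3_2 lc_a_rc_21_0 lc_a_rc_21_0 lc_a_rc_21_0 lc_a_rc_3_2 lc_a_rc_3_2 lc_a_rc_4_0 lc_a_rc_1_0 lc_a_rc_22_0 lc_a_rc_4_2 lc_a_rc_2_0 lc_a_rc_2_2 lc_a_rc_2_0 lc_a_rc_4_0 lc_a_rc_3_2 lc_a_rc_3_0 lc_a_rc_2_2 lc_a_rc_1_4 lc_a_rc_3_0 lc_a_rc_2_0 lc_a_rc_4_0 lc_a_rc_3_2 lc_a_rc_1_2 lc_a_rc_1_4 lc_a_rc_3_0 lc_a_rc_4_2 lc_a_rc_4_2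 lc_a_rc_4_2 lc_a_rc_4_2 lc_a_rc_3_2 lc_a_rc_2_2 lc_a_rc_3_2 lc_a_rc_4_2 lc_a_rc_4_2 lc_a_rc_22_0 lc_a_rc_4_2 lc_a_rc_2_0 lc_a_rc_1_2 lc_a_rc_4_0 lc_a_rc_2_2) (@D3.rec (fun _ => (Cert rels S Gen.a)) lc_a_rc_4_2 lc_a_rc_3_2 lc_a_rc_1_2 lc_a_rc_3_0 lc_a_rc_22_0 lc_a_rc_2_0 lc_a_rc_4_0 lc_a_rc_2_0 lc_a_rc_3_0 lc_a_rc_1_2 lc_a_rc_4_0 lc_a_rc_3_2 lc_a_rc_0_1 lc_a_rc_0_1 lc_a_rc_4_2 lc_a_rc_0_1 lc_a_rc_0_1 lc_a_rc_3_2 lc_a_rc_21_0 lc_a_rc_4_0 lc_a_rc_21_0 lc_a_rc_2_2 lc_a_rc_5_2 lc_a_Cert_tree lc_a_rc_3_2 lc_a_rc_4_0 lc_a_rc_21_0 lc_a_rc_2_2 lc_a_rc_3_2 lc_a_rc_21_0 lc_a_rc_1_2 lc_a_rc_5_2 lc_a_rc_3_0 lc_a_rc_4_2 lc_a_rc_3_2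 lc_a_rc_2_2 lc_a_rc_3_0 lc_a_rc_3_2 lc_a_rc_3_0 lc_a_rc_0_1 lc_a_rc_3_2 lc_a_rc_22_0 lc_a_rc_2_2 lc_a_rc_5_0 lc_a_rc_3_0 lc_a_rc_3_2 lc_a_rc_3_2 lc_a_rc_2_0 lc_a_rc_3_0 lc_a_rc_2_2 lc_a_rc_3_2 lc_a_rc_2_2 lc_a_rc_2_2 lc_a_rc_5_2 lc_a_rc_2_2 lc_a_Cert_tree lc_a_rc_21_0 lc_a_Cert_tree lc_a_rc_3_2 lc_a_rc_21_0 lc_a_rc_2_2 lc_a_rc_5_0) (@D3.rec (fun _ => (Cert rels S Gen.a)) lc_a_rc_1_2 lc_a_rc_3_2 lc_a_rc_3_2 lc_a_rc_4_2 lc_a_rc_5_0 lc_a_rc_4_0 lc_a_rc_0_1 lc_a_rc_1_2 lc_a_rc_2_2 lc_a_rc_3_2 lc_a_rc_21_0 lc_a_rc_5_0 lc_a_rc_3_2 lc_a_rc_5_2 lc_a_rc_2_2 lc_a_rc_3_2 lc_a_rc_4_2 lc_a_rc_0_1 lc_a_rc_0_1 lc_a_rc_5_2 lc_a_rc_3_2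 lc_a_rc_5_2 lc_a_rc_2_2 lc_a_rc_0_1 lc_a_rc_2_2 lc_a_rc_2_2 lc_a_rc_2_2 lc_a_rc_4_2 lc_a_rc_4_2 lc_a_rc_21_0 lc_a_rc_1_4 lc_a_rc_5_2 lc_a_rc_4_2 lc_a_Cert_tree lc_a_rc_2_0 lc_a_rc_4_2 lc_a_rc_2_2 lc_a_rc_1_4 lc_a_rc_1_2 lc_a_rc_3_2 lc_a_rc_3_2 lc_a_rc_4_2 lc_a_rc_4_2 lc_a_rc_21_0 lc_a_rc_2_2 lc_a_rc_2_2 lc_a_rc_4_2 lc_a_rc_1_2 lc_a_rc_4_2 lc_a_rc_4_2 lc_a_rc_0_1 lc_a_rc_3_2 lc_a_rc_22_0 lc_a_rc_2_2 lc_a_rc_4_2 lc_a_rc_3_2 lc_a_rc_0_1 lc_a_rc_2_2 lc_a_rc_4_0 lc_a_rc_4_2 lc_a_rc_3_2 lc_a_rc_0_1) (@D3.rec (fun _ => (Cert rels S Gen.a)) lc_a_rc_4_0 lc_a_rc_3_2 lc_a_rc_5_2 lc_a_rc_0_1 lc_a_rc_4_2 lc_a_Cert_tree lc_a_rc_21_0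 lc_a_rc_3_2 lc_a_rc_2_2 lc_a_rc_5_0 lc_a_rc_3_2 lc_a_rc_22_0 lc_a_rc_4_2 lc_a_rc_2_2 lc_a_rc_0_1 lc_a_rc_1_2 lc_a_rc_5_2 lc_a_rc_4_2 lc_a_rc_1_2 lc_a_rc_1_4 lc_a_rc_0_1 lc_a_rc_0_1 lc_a_rc_4_0 lc_a_rc_4_0 lc_a_rc_4_2 lc_a_rc_4_2 lc_a_rc_2_2 lc_a_rc_5_2 lc_a_rc_0_1 lc_a_rc_0_1 lc_a_rc_2_2 lc_a_Cert_tree lc_a_rc_21_0 lc_a_rc_4_2 lc_a_rc_2_2 lc_a_rc_0_1 lc_a_rc_21_0 lc_a_rc_4_0 lc_a_rc_2_2 lc_a_rc_4_2 lc_a_rc_4_2 lc_a_rc_3_2 lc_a_rc_3_0 lc_a_rc_2_2 lc_a_rc_5_2 lc_a_rc_4_2 lc_a_rc_3_2 lc_a_rc_4_2 lc_a_rc_0_1 lc_a_rc_5_0 lc_a_rc_4_2 lc_a_rc_3_2 lc_a_rc_4_2 lc_a_rc_4_2 lc_a_rc_3_0 lc_a_rc_4_2 lc_a_rc_3_0 lc_a_rc_2_0 lc_a_rc_3_2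 lc_a_rc_0_1 lc_a_rc_4_2 lc_a_rc_4_0) (@D3.rec (fun _ => (Cert rels S Gen.a)) lc_a_rc_1_2 lc_a_rc_0_1 lc_a_rc_2_2 lc_a_rc_3_2 lc_a_rc_21_0 lc_a_rc_2_2 lc_a_rc_5_2 lc_a_rc_0_1 lc_a_rc_4_2 lc_a_rc_22_0 lc_a_rc_4_2 lc_a_rc_4_2 lc_a_rc_3_0 lc_a_rc_1_0 lc_a_rc_2_2 lc_a_rc_4_2 lc_a_rc_5_0 lc_a_rc_2_0 lc_a_rc_1_2 lc_a_rc_4_2 lc_a_rc_22_0 lc_a_rc_0_1 lc_a_rc_4_2 lc_a_rc_2_2 lc_a_rc_0_1 lc_a_rc_4_0 lc_a_rc_0_1 lc_a_rc_4_2 lc_a_rc_5_2 lc_a_rc_3_2 lc_a_rc_5_0 lc_a_rc_4_2 lc_a_rc_3_0 lc_a_rc_4_2 lc_a_rc_4_0 lc_a_rc_3_2 lc_a_rc_3_2 lc_a_rc_0_1 lc_a_rc_4_2 lc_a_rc_2_0 lc_a_rc_4_0 lc_a_rc_2_2 lc_a_rc_2_2 lc_a_rc_4_2 lc_a_rc_1_2 lc_a_rc_3_2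 lc_a_rc_4_2 lc_a_rc_5_0 lc_a_rc_1_2 lc_a_rc_3_2 lc_a_rc_1_4 lc_a_rc_0_1 lc_a_rc_4_2 lc_a_rc_21_0 lc_a_rc_2_2 lc_a_rc_3_2 lc_a_rc_1_0 lc_a_rc_4_2 lc_a_rc_2_2 lc_a_rc_4_2 lc_a_rc_21_0 lc_a_rc_3_0) (@D3.rec (fun _ => (Cert rels S Gen.a)) lc_a_rc_2_0 lc_a_rc_4_2 lc_a_rc_2_0 lc_a_rc_0_1 lc_a_rc_22_0 lc_a_rc_2_0 lc_a_rc_2_0 lc_a_rc_21_0 lc_a_rc_3_0 lc_a_rc_3_0 lc_a_rc_2_2 lc_a_rc_21_0 lc_a_rc_1_4 lc_a_rc_4_2 lc_a_rc_0_1 lc_a_rc_3_2 lc_a_rc_21_0 lc_a_rc_3_2 lc_a_rc_4_2 lc_a_rc_1_2 lc_a_rc_0_1 lc_a_rc_2_2 lc_a_rc_21_0 lc_a_rc_0_1 lc_a_rc_3_0 lc_a_rc_3_0 lc_a_rc_1_2 lc_a_rc_2_0 lc_a_rc_3_2 lc_a_rc_4_2 lc_a_rc_21_0 lc_a_rc_4_2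 lc_a_rc_1_0 lc_a_rc_0_1 lc_a_rc_3_2 lc_a_rc_5_2 lc_a_rc_1_4 lc_a_rc_4_2 lc_a_rc_2_0 lc_a_rc_22_0 lc_a_rc_4_0 lc_a_rc_4_0 lc_a_rc_3_0 lc_a_rc_3_0 lc_a_rc_4_2 lc_a_rc_3_0 lc_a_rc_3_0 lc_a_rc_2_2 lc_a_rc_0_1 lc_a_rc_4_2 lc_a_rc_0_1 lc_a_rc_4_0 lc_a_rc_5_0 lc_a_rc_4_0 lc_a_rc_3_2 lc_a_rc_2_2 lc_a_rc_1_4 lc_a_rc_3_2 lc_a_rc_4_0 lc_a_rc_0_1 lc_a_rc_3_2 lc_a_rc_5_0) (@D3.rec (fun _ => (Cert rels S Gen.a)) lc_a_rc_21_0 lc_a_rc_0_1 lc_a_rc_3_2 lc_a_rc_3_2 lc_a_rc_2_2 lc_a_Cert_tree lc_a_rc_2_2 lc_a_rc_4_2 lc_a_rc_0_1 lc_a_rc_2_2 lc_a_rc_2_2 lc_a_rc_0_1 lc_a_rc_1_4 lc_a_rc_0_1 lc_a_rc_5_0 lc_a_rc_1_2 lc_a_rc_1_4 lc_a_rc_1_2 lc_a_rc_0_1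 lc_a_rc_4_2 lc_a_rc_2_2 lc_a_rc_3_2 lc_a_rc_4_2 lc_a_rc_4_2 lc_a_rc_1_4 lc_a_rc_0_1 lc_a_rc_5_2 lc_a_rc_1_4 lc_a_rc_5_0 lc_a_rc_4_2 lc_a_rc_3_2 lc_a_rc_2_2 lc_a_rc_1_2 lc_a_rc_3_0 lc_a_rc_3_2 lc_a_rc_3_2 lc_a_rc_21_0 lc_a_rc_0_1 lc_a_rc_0_1 lc_a_rc_2_2 lc_a_rc_5_0 lc_a_rc_2_2 lc_a_rc_5_2 lc_a_rc_2_0 lc_a_rc_0_1 lc_a_rc_2_0 lc_a_rc_5_0 lc_a_rc_2_2 lc_a_rc_0_1 lc_a_rc_4_0 lc_a_rc_2_2 lc_a_rc_0_1 lc_a_rc_0_1 lc_a_rc_3_2 lc_a_rc_22_0 lc_a_rc_2_2 lc_a_rc_5_2 lc_a_rc_21_0 lc_a_rc_22_0 lc_a_rc_4_2 lc_a_rc_0_1 lc_a_rc_5_0) (@D3.rec (fun _ => (Cert rels S Gen.a)) lc_a_rc_22_0 lc_a_rc_21_0 lc_a_rc_4_2 lc_a_rc_0_1 lc_a_rc_2_0 lc_a_rc_1_4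 lc_a_rc_5_2 lc_a_rc_2_2 lc_a_rc_1_4 lc_a_rc_2_2 lc_a_rc_2_2 lc_a_rc_0_1 lc_a_rc_3_0 lc_a_rc_3_2 lc_a_rc_0_1 lc_a_rc_3_2 lc_a_rc_3_2 lc_a_rc_3_2 lc_a_rc_3_0 lc_a_rc_4_2 lc_a_rc_3_2 lc_a_rc_0_1 lc_a_rc_3_2 lc_a_rc_0_1 lc_a_rc_0_1 lc_a_rc_4_2 lc_a_rc_3_2 lc_a_rc_3_2 lc_a_rc_2_0 lc_a_rc_1_2 lc_a_rc_1_4 lc_a_rc_5_2 lc_a_rc_3_2 lc_a_rc_2_0 lc_a_rc_5_0 lc_a_rc_3_2 lc_a_rc_2_0 lc_a_rc_22_0 lc_a_rc_21_0 lc_a_rc_22_0 lc_a_rc_4_2 lc_a_rc_2_2 lc_a_rc_22_0 lc_a_rc_2_2 lc_a_rc_4_2 lc_a_rc_21_0 lc_a_rc_3_0 lc_a_rc_3_2 lc_a_rc_4_0 lc_a_rc_3_0 lc_a_rc_2_2 lc_a_rc_2_2 lc_a_rc_1_0 lc_a_rc_3_2 lc_a_rc_5_2 lc_a_rc_2_2 lc_a_rc_2_2 lc_a_rc_0_1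 lc_a_rc_3_0 lc_a_rc_0_1 lc_a_rc_0_1 lc_a_rc_2_0) (@D3.rec (fun _ => (Cert rels S Gen.a)) lc_a_rc_3_2 lc_a_rc_5_2 lc_a_rc_3_2 lc_a_rc_1_0 lc_a_rc_0_1 lc_a_rc_1_4 lc_a_rc_2_2 lc_a_rc_3_2 lc_a_rc_4_2 lc_a_rc_2_0 lc_a_rc_3_2 lc_a_rc_21_0 lc_a_rc_0_1 lc_a_rc_3_0 lc_a_rc_1_2 lc_a_rc_2_2 lc_a_rc_5_2 lc_a_rc_2_2 lc_a_rc_21_0 lc_a_rc_2_2 lc_a_rc_4_2 lc_a_rc_22_0 lc_a_rc_2_2 lc_a_rc_3_2 lc_a_rc_21_0 lc_a_rc_2_2 lc_a_rc_2_2 lc_a_rc_4_0 lc_a_rc_4_2 lc_a_rc_5_0 lc_a_rc_3_2 lc_a_rc_22_0 lc_a_rc_3_2 lc_a_rc_21_0 lc_a_rc_0_1 lc_a_rc_2_2 lc_a_rc_4_2 lc_a_rc_3_2 lc_a_rc_4_2 lc_a_rc_21_0 lc_a_rc_2_2 lc_a_rc_0_1 lc_a_rc_1_4 lc_a_rc_2_2 lc_a_rc_3_2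 lc_a_rc_0_1 lc_a_rc_3_2 lc_a_rc_4_2 lc_a_rc_2_0 lc_a_rc_2_0 lc_a_rc_2_0 lc_a_rc_5_2 lc_a_rc_21_0 lc_a_rc_3_2 lc_a_rc_4_2 lc_a_rc_1_4 lc_a_rc_1_4 lc_a_rc_21_0 lc_a_rc_2_0 lc_a_rc_4_2 lc_a_rc_2_2 lc_a_rc_2_0) (@D3.rec (fun _ => (Cert rels S Gen.a)) lc_a_rc_3_0 lc_a_rc_2_0 lc_a_rc_4_0 lc_a_rc_21_0 lc_a_rc_3_2 lc_a_rc_0_1 lc_a_rc_4_0 lc_a_rc_3_0 lc_a_rc_5_2 lc_a_rc_2_2 lc_a_rc_21_0 lc_a_rc_4_2 lc_a_rc_0_1 lc_a_rc_4_2 lc_a_rc_0_1 lc_a_rc_1_4 lc_a_rc_1_0 lc_a_rc_4_2 lc_a_rc_3_0 lc_a_rc_3_2 lc_a_rc_22_0 lc_a_rc_0_1 lc_a_rc_4_2 lc_a_rc_1_2 lc_a_rc_2_2 lc_a_rc_3_2 lc_a_rc_0_1 lc_a_rc_21_0 lc_a_rc_2_0 lc_a_rc_1_4 lc_a_rc_3_0 lc_a_rc_3_2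 lc_a_rc_2_2 lc_a_rc_4_0 lc_a_rc_4_0 lc_a_rc_4_2 lc_a_rc_3_2 lc_a_rc_21_0 lc_a_rc_1_4 lc_a_rc_0_1 lc_a_rc_1_2 lc_a_rc_4_2 lc_a_rc_22_0 lc_a_rc_4_2 lc_a_rc_0_1 lc_a_rc_3_2 lc_a_rc_2_2 lc_a_rc_2_0 lc_a_rc_2_0 lc_a_rc_3_2 lc_a_rc_4_2 lc_a_rc_2_2 lc_a_rc_3_2 lc_a_rc_0_1 lc_a_rc_2_2 lc_a_rc_5_2 lc_a_rc_22_0 lc_a_rc_2_0 lc_a_rc_2_2 lc_a_rc_2_0 lc_a_rc_0_1 lc_a_rc_3_2) (@D3.rec (fun _ => (Cert rels S Gen.a)) lc_a_rc_2_2 lc_a_rc_2_2 lc_a_rc_4_2 lc_a_rc_2_0 lc_a_rc_21_0 lc_a_rc_0_1 lc_a_rc_2_2 lc_a_rc_2_0 lc_a_rc_22_0 lc_a_rc_0_1 lc_a_rc_5_0 lc_a_rc_4_2 lc_a_rc_2_0 lc_a_rc_2_2 lc_a_rc_0_1 lc_a_rc_4_2 lc_a_rc_1_4 lc_a_rc_2_2 lc_a_rc_4_0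 lc_a_rc_0_1 lc_a_rc_1_4 lc_a_rc_2_2 lc_a_rc_21_0 lc_a_rc_0_1 lc_a_rc_22_0 lc_a_Cert_tree lc_a_rc_2_2 lc_a_rc_4_2 lc_a_rc_0_1 lc_a_rc_4_2 lc_a_rc_1_4 lc_a_rc_5_0 lc_a_rc_3_2 lc_a_rc_22_0 lc_a_rc_4_2 lc_a_rc_4_2 lc_a_rc_1_2 lc_a_rc_3_2 lc_a_rc_2_0 lc_a_rc_3_2 lc_a_rc_0_1 lc_a_rc_3_0 lc_a_rc_21_0 lc_a_rc_21_0 lc_a_rc_21_0 lc_a_rc_0_1 lc_a_rc_22_0 lc_a_rc_3_0 lc_a_rc_0_1 lc_a_rc_4_2 lc_a_rc_4_0 lc_a_rc_2_2 lc_a_rc_1_4 lc_a_rc_0_1 lc_a_rc_22_0 lc_a_rc_2_2 lc_a_rc_22_0 lc_a_rc_4_2 lc_a_rc_3_2 lc_a_rc_2_0 lc_a_rc_3_2 lc_a_rc_1_2) (@D3.rec (fun _ => (Cert rels S Gen.a)) lc_a_rc_2_2 lc_a_rc_2_2 lc_a_rc_3_2 lc_a_rc_3_2 lc_a_rc_5_2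 lc_a_rc_4_2 lc_a_rc_2_2 lc_a_rc_1_4 lc_a_rc_2_2 lc_a_rc_3_2 lc_a_rc_1_2 lc_a_rc_2_2 lc_a_rc_3_2 lc_a_rc_2_2 lc_a_rc_5_2 lc_a_rc_4_2 lc_a_rc_21_0 lc_a_rc_3_2 lc_a_rc_4_2 lc_a_rc_2_2 lc_a_rc_21_0 lc_a_rc_3_2 lc_a_rc_4_2 lc_a_rc_2_2 lc_a_rc_4_2 lc_a_rc_3_2 lc_a_rc_1_4 lc_a_rc_21_0 lc_a_rc_2_2 lc_a_rc_2_2 lc_a_rc_3_2 lc_a_rc_21_0 lc_a_rc_1_2 lc_a_rc_0_1 lc_a_rc_1_4 lc_a_rc_2_2 lc_a_rc_21_0 lc_a_rc_1_0 lc_a_rc_2_0 lc_a_rc_2_2 lc_a_rc_2_0 lc_a_rc_2_0 lc_a_rc_4_2 lc_a_rc_1_4 lc_a_rc_4_2 lc_a_rc_22_0 lc_a_rc_4_2 lc_a_rc_21_0 lc_a_rc_4_2 lc_a_rc_3_0 lc_a_rc_3_0 lc_a_rc_2_2 lc_a_rc_5_2 lc_a_rc_1_0 lc_a_rc_4_2 lc_a_rc_5_2 lc_a_rc_4_2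 lc_a_rc_5_2 lc_a_rc_3_2 lc_a_rc_21_0 lc_a_rc_21_0 lc_a_rc_21_0) (@D3.rec (fun _ => (Cert rels S Gen.a)) lc_a_rc_2_0 lc_a_rc_3_0 lc_a_rc_3_2 lc_a_rc_1_0 lc_a_rc_1_2 lc_a_rc_0_1 lc_a_rc_3_2 lc_a_rc_3_0 lc_a_rc_1_4 lc_a_rc_4_2 lc_a_rc_3_0 lc_a_rc_22_0 lc_a_rc_2_0 lc_a_rc_3_2 lc_a_rc_3_2 lc_a_rc_5_2 lc_a_rc_21_0 lc_a_rc_5_2 lc_a_rc_2_0 lc_a_rc_2_2 lc_a_rc_22_0 lc_a_rc_4_2 lc_a_rc_4_0 lc_a_rc_0_1 lc_a_rc_3_2 lc_a_rc_0_1 lc_a_rc_4_0 lc_a_rc_2_2 lc_a_rc_4_2 lc_a_rc_3_2 lc_a_rc_5_0 lc_a_rc_3_2 lc_a_rc_4_2 lc_a_rc_1_2 lc_a_rc_4_2 lc_a_rc_3_0 lc_a_rc_1_4 lc_a_rc_1_2 lc_a_rc_2_2 lc_a_rc_0_1 lc_a_rc_2_2 lc_a_rc_0_1 lc_a_rc_2_0 lc_a_rc_3_2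 lc_a_rc_2_2 lc_a_rc_0_1 lc_a_rc_21_0 lc_a_rc_0_1 lc_a_rc_3_0 lc_a_rc_0_1 lc_a_rc_4_0 lc_a_rc_2_0 lc_a_rc_0_1 lc_a_rc_3_2 lc_a_rc_1_4 lc_a_rc_2_2 lc_a_rc_3_2 lc_a_rc_2_2 lc_a_rc_0_1 lc_a_rc_1_4 lc_a_rc_21_0 lc_a_rc_2_2) (@D3.rec (fun _ => (Cert rels S Gen.a)) lc_a_rc_0_1 lc_a_rc_21_0 lc_a_rc_21_0 lc_a_rc_4_2 lc_a_rc_1_2 lc_a_rc_0_1 lc_a_rc_2_2 lc_a_rc_2_2 lc_a_rc_4_2 lc_a_Cert_tree lc_a_rc_3_2 lc_a_rc_4_2 lc_a_Cert_tree lc_a_rc_2_2 lc_a_rc_3_0 lc_a_rc_3_2 lc_a_rc_1_4 lc_a_rc_4_2 lc_a_rc_3_2 lc_a_rc_0_1 lc_a_rc_2_2 lc_a_rc_0_1 lc_a_rc_0_1 lc_a_rc_5_2 lc_a_rc_3_2 lc_a_rc_3_2 lc_a_rc_3_0 lc_a_rc_3_2 lc_a_rc_1_2 lc_a_rc_3_2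 lc_a_rc_21_0 lc_a_rc_3_2 lc_a_rc_2_2 lc_a_rc_1_0 lc_a_rc_5_2 lc_a_rc_4_2 lc_a_rc_3_2 lc_a_rc_2_0 lc_a_rc_3_2 lc_a_rc_0_1 lc_a_rc_2_2 lc_a_rc_2_2 lc_a_rc_3_2 lc_a_rc_5_2 lc_a_rc_0_1 lc_a_rc_4_0 lc_a_rc_3_0 lc_a_rc_2_0 lc_a_rc_21_0 lc_a_rc_3_0 lc_a_rc_4_2 lc_a_rc_5_0 lc_a_rc_3_2 lc_a_rc_2_2 lc_a_rc_2_2 lc_a_rc_4_2 lc_a_rc_1_2 lc_a_rc_2_2 lc_a_rc_2_2 lc_a_rc_4_2 lc_a_rc_3_2 lc_a_rc_2_2) (@D3.rec (fun _ => (Cert rels S Gen.a)) lc_a_rc_3_2 lc_a_rc_21_0 lc_a_rc_0_1 lc_a_rc_2_2 lc_a_rc_0_1 lc_a_rc_4_0 lc_a_rc_2_2 lc_a_rc_3_2 lc_a_rc_2_2 lc_a_rc_1_4 lc_a_rc_4_2 lc_a_rc_4_0 lc_a_rc_3_0 lc_a_rc_3_0 lc_a_rc_1_4 lc_a_rc_5_0 lc_a_rc_1_4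 lc_a_rc_0_1 lc_a_rc_4_2 lc_a_rc_3_2 lc_a_rc_0_1 lc_a_rc_5_2 lc_a_rc_3_2 lc_a_rc_2_0 lc_a_rc_21_0 lc_a_rc_2_2 lc_a_rc_4_2 lc_a_rc_4_2 lc_a_rc_3_2 lc_a_rc_4_2 lc_a_rc_4_2 lc_a_rc_4_2 lc_a_rc_5_0 lc_a_rc_21_0 lc_a_rc_2_2 lc_a_rc_5_0 lc_a_rc_5_0 lc_a_rc_22_0 lc_a_rc_3_2 lc_a_rc_3_2 lc_a_rc_0_1 lc_a_rc_3_2 lc_a_rc_0_1 lc_a_rc_4_0 lc_a_rc_0_1 lc_a_rc_4_2 lc_a_rc_4_2 lc_a_rc_4_0 lc_a_rc_0_1 lc_a_rc_1_4 lc_a_rc_3_2 lc_a_rc_2_2 lc_a_rc_3_0 lc_a_rc_3_2 lc_a_rc_3_0 lc_a_rc_4_0 lc_a_rc_0_1 lc_a_rc_2_2 lc_a_rc_2_2 lc_a_rc_4_0 lc_a_rc_1_2 lc_a_rc_4_0) (@D3.rec (fun _ => (Cert rels S Gen.a)) lc_a_rc_5_2 lc_a_rc_4_2 lc_a_rc_4_2 lc_a_rc_3_0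 lc_a_rc_0_1 lc_a_rc_4_0 lc_a_rc_0_1 lc_a_rc_0_1 lc_a_rc_21_0 lc_a_rc_2_2 lc_a_rc_4_2 lc_a_rc_4_2 lc_a_rc_4_2 lc_a_rc_5_2 lc_a_rc_0_1 lc_a_rc_4_2 lc_a_rc_2_2 lc_a_rc_1_4 lc_a_rc_3_2 lc_a_rc_5_0 lc_a_rc_1_4 lc_a_rc_0_1 lc_a_rc_0_1 lc_a_rc_21_0 lc_a_rc_21_0 lc_a_rc_21_0 lc_a_rc_4_0 lc_a_rc_1_2 lc_a_rc_2_2 lc_a_rc_0_1 lc_a_rc_21_0 lc_a_rc_0_1 lc_a_rc_4_2 lc_a_rc_2_2 lc_a_rc_2_2 lc_a_rc_4_2 lc_a_rc_21_0 lc_a_rc_2_2 lc_a_rc_21_0 lc_a_rc_0_1 lc_a_rc_21_0 lc_a_rc_3_0 lc_a_rc_3_2 lc_a_rc_4_2 lc_a_rc_1_2 lc_a_rc_0_1 lc_a_rc_1_2 lc_a_rc_3_2 lc_a_rc_3_2 lc_a_rc_3_2 lc_a_rc_2_2 lc_a_rc_4_2 lc_a_rc_4_2 lc_a_rc_1_2 lc_a_rc_4_2 lc_a_rc_2_0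 lc_a_rc_4_0 lc_a_rc_22_0 lc_a_rc_4_2 lc_a_rc_2_0 lc_a_rc_2_0 lc_a_rc_4_2) (@D3.rec (fun _ => (Cert rels S Gen.a)) lc_a_rc_2_0 lc_a_rc_4_2 lc_a_rc_2_2 lc_a_rc_4_2 lc_a_rc_3_2 lc_a_rc_3_2 lc_a_rc_4_2 lc_a_rc_3_0 lc_a_rc_1_0 lc_a_rc_3_2 lc_a_rc_2_2 lc_a_rc_3_2 lc_a_rc_2_2 lc_a_rc_0_1 lc_a_rc_3_2 lc_a_rc_3_2 lc_a_rc_4_2 lc_a_rc_4_2 lc_a_rc_2_0 lc_a_rc_22_0 lc_a_rc_3_0 lc_a_rc_2_0 lc_a_rc_4_2 lc_a_rc_0_1 lc_a_rc_5_2 lc_a_rc_0_1 lc_a_rc_21_0 lc_a_rc_4_2 lc_a_rc_4_0 lc_a_rc_21_0 lc_a_rc_2_2 lc_a_rc_4_0 lc_a_rc_3_0 lc_a_rc_21_0 lc_a_rc_0_1 lc_a_rc_5_0 lc_a_rc_4_2 lc_a_rc_0_1 lc_a_rc_2_0 lc_a_rc_5_2 lc_a_rc_1_2 lc_a_rc_2_2 lc_a_rc_4_2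 lc_a_rc_2_2 lc_a_rc_4_2 lc_a_rc_2_2 lc_a_rc_4_2 lc_a_rc_5_0 lc_a_rc_2_2 lc_a_rc_3_2 lc_a_rc_4_2 lc_a_rc_4_0 lc_a_rc_5_2 lc_a_rc_1_4 lc_a_rc_0_1 lc_a_rc_21_0 lc_a_rc_0_1 lc_a_rc_3_2 lc_a_rc_2_0 lc_a_rc_3_2 lc_a_rc_0_1 lc_a_rc_21_0) (@D3.rec (fun _ => (Cert rels S Gen.a)) lc_a_rc_3_2 lc_a_rc_4_2 lc_a_rc_1_2 lc_a_rc_1_0 lc_a_rc_4_0 lc_a_rc_21_0 lc_a_rc_2_2 lc_a_rc_0_1 lc_a_rc_1_2 lc_a_rc_5_2 lc_a_rc_4_2 lc_a_rc_1_2 lc_a_rc_3_2 lc_a_rc_2_0 lc_a_rc_2_2 lc_a_rc_2_2 lc_a_rc_1_4 lc_a_rc_1_4 lc_a_rc_2_2 lc_a_rc_3_2 lc_a_rc_1_4 lc_a_rc_5_0 lc_a_rc_0_1 lc_a_rc_3_2 lc_a_rc_3_2 lc_a_rc_0_1 lc_a_rc_3_0 lc_a_rc_0_1 lc_a_rc_0_1 lc_a_rc_1_4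 lc_a_rc_1_0 lc_a_rc_0_1 lc_a_rc_5_2 lc_a_rc_0_1 lc_a_rc_21_0 lc_a_rc_3_2 lc_a_rc_21_0 lc_a_rc_0_1 lc_a_rc_3_2 lc_a_rc_4_2 lc_a_rc_4_2 lc_a_rc_3_0 lc_a_rc_3_0 lc_a_rc_1_2 lc_a_rc_3_2 lc_a_rc_2_2 lc_a_rc_4_2 lc_a_rc_0_1 lc_a_rc_4_2 lc_a_rc_0_1 lc_a_rc_4_2 lc_a_rc_21_0 lc_a_rc_4_2 lc_a_rc_1_4 lc_a_rc_4_2 lc_a_rc_0_1 lc_a_rc_1_4 lc_a_rc_1_4 lc_a_rc_2_0 lc_a_rc_4_0 lc_a_rc_5_2 lc_a_rc_3_0) (@D3.rec (fun _ => (Cert rels S Gen.a)) lc_a_rc_4_0 lc_a_rc_1_2 lc_a_rc_0_1 lc_a_rc_5_0 lc_a_rc_5_0 lc_a_rc_2_2 lc_a_rc_4_2 lc_a_rc_4_0 lc_a_rc_3_2 lc_a_rc_4_2 lc_a_rc_2_2 lc_a_rc_3_2 lc_a_rc_21_0 lc_a_rc_21_0 lc_a_rc_2_2 lc_a_rc_3_2 lc_a_rc_4_2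 lc_a_rc_2_2 lc_a_rc_5_2 lc_a_rc_4_2 lc_a_rc_0_1 lc_a_rc_3_2 lc_a_rc_3_0 lc_a_rc_3_2 lc_a_rc_4_2 lc_a_rc_22_0 lc_a_rc_0_1 lc_a_rc_2_2 lc_a_rc_4_2 lc_a_rc_1_4 lc_a_rc_3_2 lc_a_rc_5_2 lc_a_rc_2_2 lc_a_rc_4_2 lc_a_rc_3_2 lc_a_rc_2_2 lc_a_rc_4_2 lc_a_rc_5_2 lc_a_rc_4_2 lc_a_rc_3_0 lc_a_rc_4_2 lc_a_rc_3_2 lc_a_rc_2_2 lc_a_rc_2_0 lc_a_rc_5_2 lc_a_rc_5_2 lc_a_rc_2_0 lc_a_rc_3_2 lc_a_rc_21_0 lc_a_rc_4_0 lc_a_rc_0_1 lc_a_rc_2_2 lc_a_rc_4_2 lc_a_rc_4_2 lc_a_rc_2_2 lc_a_rc_2_0 lc_a_rc_4_2 lc_a_rc_2_2 lc_a_rc_0_1 lc_a_rc_2_2 lc_a_rc_4_2 lc_a_rc_3_2) (@D3.rec (fun _ => (Cert rels S Gen.a)) lc_a_rc_4_2 lc_a_rc_5_0 lc_a_rc_4_2 lc_a_rc_4_0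 lc_a_rc_4_2 lc_a_rc_3_2 lc_a_rc_5_2 lc_a_rc_1_0 lc_a_rc_4_0 lc_a_rc_0_1 lc_a_rc_21_0 lc_a_rc_3_2 lc_a_rc_3_2 lc_a_rc_4_2 lc_a_rc_0_1 lc_a_rc_3_2 lc_a_rc_4_2 lc_a_rc_4_2 lc_a_rc_4_0 lc_a_rc_2_2 lc_a_rc_0_1 lc_a_rc_3_2 lc_a_rc_2_2 lc_a_rc_3_2 lc_a_rc_0_1 lc_a_rc_3_0 lc_a_rc_3_2 lc_a_rc_2_2 lc_a_rc_4_2 lc_a_rc_3_0 lc_a_rc_3_0 lc_a_rc_3_2 lc_a_rc_0_1 lc_a_rc_0_1 lc_a_rc_1_4 lc_a_rc_2_0 lc_a_rc_4_0 lc_a_rc_2_0 lc_a_rc_4_2 lc_a_rc_2_0 lc_a_rc_3_0 lc_a_rc_0_1 lc_a_rc_21_0 lc_a_rc_2_2 lc_a_rc_0_1 lc_a_rc_4_0 lc_a_rc_4_2 lc_a_rc_5_2 lc_a_rc_4_2 lc_a_rc_22_0 lc_a_rc_4_2 lc_a_rc_2_2 lc_a_rc_4_2 lc_a_rc_3_2 lc_a_rc_1_0 lc_a_rc_2_0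 lc_a_rc_3_2 lc_a_rc_2_2 lc_a_rc_2_2 lc_a_rc_3_2 lc_a_rc_4_0 lc_a_rc_3_2) (@D3.rec (fun _ => (Cert rels S Gen.a)) lc_a_rc_4_0 lc_a_rc_2_0 lc_a_rc_22_0 lc_a_rc_21_0 lc_a_rc_3_2 lc_a_rc_22_0 lc_a_rc_3_2 lc_a_rc_2_2 lc_a_rc_4_2 lc_a_rc_1_4 lc_a_rc_2_0 lc_a_rc_2_0 lc_a_Cert_tree lc_a_rc_4_0 lc_a_rc_1_0 lc_a_rc_4_2 lc_a_rc_2_2 lc_a_rc_3_2 lc_a_rc_22_0 lc_a_rc_4_0 lc_a_rc_3_2 lc_a_rc_1_2 lc_a_rc_2_2 lc_a_rc_0_1 lc_a_rc_21_0 lc_a_rc_2_2 lc_a_rc_1_4 lc_a_rc_4_2 lc_a_rc_0_1 lc_a_rc_2_2 lc_a_rc_1_4 lc_a_rc_2_2 lc_a_rc_3_2 lc_a_rc_1_2 lc_a_rc_0_1 lc_a_rc_0_1 lc_a_rc_2_0 lc_a_rc_2_2 lc_a_rc_4_2 lc_a_rc_0_1 lc_a_rc_2_2 lc_a_rc_2_0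 lc_a_rc_5_0 lc_a_rc_3_0 lc_a_rc_2_2 lc_a_rc_4_2 lc_a_rc_21_0 lc_a_rc_3_2 lc_a_rc_3_2 lc_a_rc_4_2 lc_a_rc_3_2 lc_a_rc_4_2 lc_a_rc_2_2 lc_a_rc_0_1 lc_a_rc_5_0 lc_a_rc_0_1 lc_a_rc_5_2 lc_a_rc_3_0 lc_a_rc_2_0 lc_a_rc_3_0 lc_a_rc_22_0 lc_a_rc_21_0) (@D3.rec (fun _ => (Cert rels S Gen.a)) lc_a_rc_0_1 lc_a_rc_1_4 lc_a_rc_21_0 lc_a_rc_3_0 lc_a_rc_3_0 lc_a_rc_3_0 lc_a_rc_4_2 lc_a_rc_0_1 lc_a_rc_3_2 lc_a_rc_4_2 lc_a_rc_5_0 lc_a_rc_3_2 lc_a_rc_0_1 lc_a_rc_4_2 lc_a_rc_1_4 lc_a_rc_21_0 lc_a_rc_4_2 lc_a_rc_4_2 lc_a_rc_0_1 lc_a_rc_5_2 lc_a_rc_4_2 lc_a_rc_2_2 lc_a_rc_2_0 lc_a_rc_5_0 lc_a_rc_1_2 lc_a_rc_2_2 lc_a_rc_0_1 lc_a_rc_3_0 lc_a_rc_0_1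 lc_a_rc_5_0 lc_a_rc_0_1 lc_a_rc_2_0 lc_a_rc_5_0 lc_a_rc_1_4 lc_a_rc_0_1 lc_a_Cert_tree lc_a_rc_3_2 lc_a_rc_2_2 lc_a_rc_3_0 lc_a_rc_4_2 lc_a_rc_0_1 lc_a_rc_1_4 lc_a_rc_4_0 lc_a_rc_2_0 lc_a_rc_0_1 lc_a_rc_5_0 lc_a_rc_4_0 lc_a_rc_4_2 lc_a_rc_2_2 lc_a_rc_1_4 lc_a_rc_4_0 lc_a_rc_0_1 lc_a_rc_3_2 lc_a_rc_2_2 lc_a_rc_4_2 lc_a_rc_4_0 lc_a_rc_0_1 lc_a_rc_3_2 lc_a_rc_3_2 lc_a_rc_5_2 lc_a_rc_2_2 lc_a_rc_0_1) (@D3.rec (fun _ => (Cert rels S Gen.a)) lc_a_rc_0_1 lc_a_rc_1_2 lc_a_rc_21_0 lc_a_rc_22_0 lc_a_rc_2_2 lc_a_rc_22_0 lc_a_Cert_tree lc_a_rc_5_0 lc_a_rc_21_0 lc_a_rc_4_0 lc_a_rc_0_1 lc_a_rc_5_0 lc_a_rc_3_2 lc_a_rc_4_2 lc_a_rc_0_1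 lc_a_rc_4_2 lc_a_rc_0_1 lc_a_rc_22_0 lc_a_rc_4_0 lc_a_rc_4_2 lc_a_rc_3_0 lc_a_rc_3_0 lc_a_rc_2_2 lc_a_rc_1_2 lc_a_rc_3_0 lc_a_rc_0_1 lc_a_rc_3_2 lc_a_rc_0_1 lc_a_rc_1_2 lc_a_rc_3_2 lc_a_rc_0_1 lc_a_rc_3_2 lc_a_rc_2_2 lc_a_rc_4_0 lc_a_rc_4_2 lc_a_rc_2_2 lc_a_rc_0_1 lc_a_rc_2_2 lc_a_rc_5_0 lc_a_rc_3_0 lc_a_rc_2_2 lc_a_rc_2_0 lc_a_rc_2_0 lc_a_rc_21_0 lc_a_rc_3_2 lc_a_rc_2_0 lc_a_rc_4_2 lc_a_rc_0_1 lc_a_rc_3_0 lc_a_rc_3_2 lc_a_rc_4_2 lc_a_rc_4_2 lc_a_rc_0_1 lc_a_rc_3_2 lc_a_rc_4_2 lc_a_rc_4_2 lc_a_rc_3_2 lc_a_rc_3_2 lc_a_rc_4_2 lc_a_rc_2_2 lc_a_rc_0_1 lc_a_rc_4_0) (@D3.rec (fun _ => (Cert rels S Gen.a)) lc_a_rc_5_2 lc_a_rc_21_0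 lc_a_rc_2_2 lc_a_rc_4_2 lc_a_rc_0_1 lc_a_rc_2_0 lc_a_rc_3_0 lc_a_rc_2_0 lc_a_rc_2_0 lc_a_rc_0_1 lc_a_rc_21_0 lc_a_rc_4_2 lc_a_rc_5_2 lc_a_rc_0_1 lc_a_rc_0_1 lc_a_rc_1_2 lc_a_rc_4_2 lc_a_rc_4_2 lc_a_rc_2_2 lc_a_rc_3_2 lc_a_rc_4_2 lc_a_rc_3_2 lc_a_rc_0_1 lc_a_rc_21_0 lc_a_rc_5_0 lc_a_rc_2_0 lc_a_rc_4_2 lc_a_rc_2_2 lc_a_rc_2_2 lc_a_rc_22_0 lc_a_rc_2_2 lc_a_rc_4_2 lc_a_rc_1_2 lc_a_rc_1_2 lc_a_rc_4_2 lc_a_rc_4_0 lc_a_rc_3_2 lc_a_rc_4_2 lc_a_rc_1_4 lc_a_rc_4_2 lc_a_rc_2_2 lc_a_rc_3_0 lc_a_rc_0_1 lc_a_rc_1_2 lc_a_rc_2_0 lc_a_rc_4_2 lc_a_rc_2_2 lc_a_rc_2_2 lc_a_rc_2_2 lc_a_rc_0_1 lc_a_rc_2_0 lc_a_rc_21_0 lc_a_rc_21_0 lc_a_rc_4_2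 lc_a_rc_0_1 lc_a_rc_4_2 lc_a_rc_4_2 lc_a_rc_2_2 lc_a_rc_4_2 lc_a_rc_21_0 lc_a_rc_2_2 lc_a_rc_5_2) (@D3.rec (fun _ => (Cert rels S Gen.a)) lc_a_rc_1_2 lc_a_rc_2_2 lc_a_rc_4_2 lc_a_rc_3_2 lc_a_rc_22_0 lc_a_rc_2_2 lc_a_rc_3_2 lc_a_rc_2_2 lc_a_rc_2_2 lc_a_rc_4_2 lc_a_rc_3_2 lc_a_rc_21_0 lc_a_rc_2_2 lc_a_rc_0_1 lc_a_rc_2_0 lc_a_rc_5_0 lc_a_rc_4_2 lc_a_rc_1_4 lc_a_rc_4_2 lc_a_rc_0_1 lc_a_rc_0_1 lc_a_rc_4_2 lc_a_rc_0_1 lc_a_rc_3_0 lc_a_rc_4_0 lc_a_rc_3_0 lc_a_rc_21_0 lc_a_rc_5_2 lc_a_rc_2_2 lc_a_rc_3_2 lc_a_rc_4_2 lc_a_rc_21_0 lc_a_rc_3_2 lc_a_rc_3_2 lc_a_rc_22_0 lc_a_rc_3_2 lc_a_rc_3_2 lc_a_rc_1_2 lc_a_rc_2_2 lc_a_rc_4_2 lc_a_rc_2_0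 lc_a_rc_3_2 lc_a_rc_5_2 lc_a_rc_4_2 lc_a_rc_2_2 lc_a_rc_4_0 lc_a_rc_4_0 lc_a_rc_1_4 lc_a_rc_3_0 lc_a_rc_0_1 lc_a_rc_1_4 lc_a_rc_22_0 lc_a_rc_3_2 lc_a_rc_2_0 lc_a_rc_4_0 lc_a_rc_5_2 lc_a_rc_0_1 lc_a_rc_4_2 lc_a_rc_4_0 lc_a_rc_2_2 lc_a_rc_5_2 lc_a_rc_0_1) (@D3.rec (fun _ => (Cert rels S Gen.a)) lc_a_rc_2_2 lc_a_rc_0_1 lc_a_rc_3_2 lc_a_rc_22_0 lc_a_rc_0_1 lc_a_rc_2_2 lc_a_rc_5_0 lc_a_rc_2_0 lc_a_rc_4_2 lc_a_rc_0_1 lc_a_rc_5_0 lc_a_rc_2_2 lc_a_rc_4_2 lc_a_rc_4_2 lc_a_rc_4_2 lc_a_rc_3_2 lc_a_rc_5_2 lc_a_rc_4_0 lc_a_rc_4_2 lc_a_rc_1_0 lc_a_rc_2_0 lc_a_rc_22_0 lc_a_rc_21_0 lc_a_rc_21_0 lc_a_rc_4_0 lc_a_rc_3_0 lc_a_rc_4_0 lc_a_rc_0_1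 lc_a_rc_1_2 lc_a_rc_0_1 lc_a_rc_21_0 lc_a_rc_3_2 lc_a_rc_2_2 lc_a_rc_5_2 lc_a_rc_21_0 lc_a_rc_0_1 lc_a_rc_0_1 lc_a_rc_4_0 lc_a_rc_3_2 lc_a_rc_2_2 lc_a_rc_5_2 lc_a_rc_21_0 lc_a_rc_2_0 lc_a_rc_2_2 lc_a_rc_22_0 lc_a_rc_2_2 lc_a_rc_2_2 lc_a_rc_3_2 lc_a_rc_5_2 lc_a_rc_1_2 lc_a_rc_2_2 lc_a_rc_0_1 lc_a_rc_3_2 lc_a_rc_2_2 lc_a_rc_2_0 lc_a_rc_3_0 lc_a_rc_2_0 lc_a_rc_2_2 lc_a_rc_21_0 lc_a_rc_21_0 lc_a_rc_5_0 lc_a_rc_2_2) (@D3.rec (fun _ => (Cert rels S Gen.a)) lc_a_rc_5_2 lc_a_rc_2_2 lc_a_rc_2_0 lc_a_rc_4_2 lc_a_rc_3_2 lc_a_rc_4_2 lc_a_rc_5_0 lc_a_rc_0_1 lc_a_rc_2_0 lc_a_rc_4_2 lc_a_rc_5_0 lc_a_rc_3_2 lc_a_rc_5_2 lc_a_rc_3_2 lc_a_rc_4_2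 lc_a_rc_22_0 lc_a_rc_3_2 lc_a_rc_4_2 lc_a_rc_2_0 lc_a_rc_1_2 lc_a_rc_4_2 lc_a_rc_1_4 lc_a_rc_0_1 lc_a_rc_3_2 lc_a_rc_4_2 lc_a_rc_4_0 lc_a_rc_3_2 lc_a_rc_5_2 lc_a_rc_3_2 lc_a_rc_0_1 lc_a_rc_2_2 lc_a_rc_3_2 lc_a_rc_4_2 lc_a_rc_0_1 lc_a_rc_3_0 lc_a_rc_3_0 lc_a_rc_3_2 lc_a_rc_22_0 lc_a_rc_2_0 lc_a_rc_2_2 lc_a_rc_21_0 lc_a_rc_3_2 lc_a_rc_2_2 lc_a_rc_21_0 lc_a_rc_2_0 lc_a_rc_4_2 lc_a_rc_4_0 lc_a_rc_3_0 lc_a_rc_2_2 lc_a_rc_5_0 lc_a_rc_3_2 lc_a_rc_4_2 lc_a_rc_4_0 lc_a_rc_3_2 lc_a_rc_4_2 lc_a_rc_1_4 lc_a_rc_21_0 lc_a_rc_4_2 lc_a_rc_2_2 lc_a_rc_21_0 lc_a_rc_21_0 lc_a_rc_4_2) (@D3.rec (fun _ => (Cert rels S Gen.a)) lc_a_rc_0_1 lc_a_rc_1_4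 lc_a_rc_3_2 lc_a_rc_2_0 lc_a_rc_1_2 lc_a_rc_1_2 lc_a_rc_2_2 lc_a_rc_5_2 lc_a_rc_3_2 lc_a_rc_4_2 lc_a_rc_3_2 lc_a_rc_1_0 lc_a_rc_0_1 lc_a_rc_2_2 lc_a_rc_4_2 lc_a_rc_4_2 lc_a_rc_2_2 lc_a_rc_3_2 lc_a_rc_4_2 lc_a_rc_0_1 lc_a_rc_3_2 lc_a_rc_5_2 lc_a_rc_4_0 lc_a_rc_3_2 lc_a_rc_1_4 lc_a_rc_2_2 lc_a_rc_3_0 lc_a_rc_3_0 lc_a_rc_5_2 lc_a_rc_2_0 lc_a_rc_0_1 lc_a_rc_2_0 lc_a_rc_2_0 lc_a_rc_3_2 lc_a_rc_4_2 lc_a_rc_22_0 lc_a_rc_0_1 lc_a_rc_0_1 lc_a_rc_5_0 lc_a_rc_2_2 lc_a_rc_4_2 lc_a_rc_4_2 lc_a_rc_5_2 lc_a_rc_4_2 lc_a_rc_1_2 lc_a_rc_3_2 lc_a_rc_4_2 lc_a_rc_3_2 lc_a_rc_5_0 lc_a_rc_1_2 lc_a_rc_3_2 lc_a_rc_4_2 lc_a_rc_4_2 lc_a_rc_3_2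 lc_a_rc_21_0 lc_a_rc_2_2 lc_a_rc_4_2 lc_a_rc_2_2 lc_a_rc_3_2 lc_a_rc_1_4 lc_a_rc_3_2 lc_a_rc_21_0) (@D3.rec (fun _ => (Cert rels S Gen.a)) lc_a_rc_0_1 lc_a_rc_1_2 lc_a_rc_2_0 lc_a_rc_4_2 lc_a_rc_0_1 lc_a_rc_5_0 lc_a_rc_1_2 lc_a_rc_4_2 lc_a_rc_4_2 lc_a_rc_2_2 lc_a_rc_2_0 lc_a_rc_3_2 lc_a_rc_5_2 lc_a_rc_2_2 lc_a_rc_2_2 lc_a_rc_4_2 lc_a_rc_3_0 lc_a_rc_3_2 lc_a_rc_22_0 lc_a_rc_2_2 lc_a_rc_3_2 lc_a_rc_4_0 lc_a_rc_3_2 lc_a_rc_3_2 lc_a_rc_2_2 lc_a_rc_5_2 lc_a_rc_4_2 lc_a_rc_3_2 lc_a_rc_2_0 lc_a_Cert_tree lc_a_rc_3_2 lc_a_rc_4_2 lc_a_rc_2_0 lc_a_rc_4_0 lc_a_rc_1_0 lc_a_rc_2_2 lc_a_rc_2_2 lc_a_rc_4_2 lc_a_rc_3_2 lc_a_rc_4_2 lc_a_rc_2_2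 lc_a_rc_4_2 lc_a_rc_4_2 lc_a_rc_21_0 lc_a_rc_3_2 lc_a_rc_5_2 lc_a_rc_2_2 lc_a_rc_3_2 lc_a_rc_2_0 lc_a_rc_0_1 lc_a_rc_3_0 lc_a_rc_5_2 lc_a_rc_4_2 lc_a_rc_4_0 lc_a_rc_3_2 lc_a_rc_5_2 lc_a_rc_2_2 lc_a_rc_21_0 lc_a_rc_0_1 lc_a_rc_4_0 lc_a_rc_4_0 lc_a_rc_1_2) (@D3.rec (fun _ => (Cert rels S Gen.a)) lc_a_rc_0_1 lc_a_rc_3_2 lc_a_rc_3_2 lc_a_rc_4_2 lc_a_rc_0_1 lc_a_rc_4_0 lc_a_rc_3_2 lc_a_rc_22_0 lc_a_rc_3_2 lc_a_rc_2_0 lc_a_rc_3_2 lc_a_rc_2_0 lc_a_rc_3_2 lc_a_rc_2_2 lc_a_rc_3_2 lc_a_rc_21_0 lc_a_rc_5_0 lc_a_rc_3_2 lc_a_rc_2_2 lc_a_rc_4_2 lc_a_rc_0_1 lc_a_rc_3_2 lc_a_rc_0_1 lc_a_rc_4_2 lc_a_rc_2_2 lc_a_rc_4_2 lc_a_rc_4_2 lc_a_rc_21_0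 lc_a_rc_3_0 lc_a_rc_3_2 lc_a_rc_4_2 lc_a_rc_3_2 lc_a_rc_3_2 lc_a_rc_4_2 lc_a_rc_3_2 lc_a_rc_3_0 lc_a_rc_4_2 lc_a_rc_1_4 lc_a_rc_3_2 lc_a_rc_4_2 lc_a_rc_2_0 lc_a_rc_3_2 lc_a_rc_5_2 lc_a_rc_2_0 lc_a_rc_0_1 lc_a_rc_1_4 lc_a_rc_4_2 lc_a_rc_2_2 lc_a_rc_22_0 lc_a_rc_0_1 lc_a_rc_1_4 lc_a_rc_21_0 lc_a_rc_2_2 lc_a_rc_4_2 lc_a_rc_1_4 lc_a_rc_4_2 lc_a_rc_3_0 lc_a_rc_4_0 lc_a_rc_2_2 lc_a_rc_2_2 lc_a_rc_0_1 lc_a_rc_2_0) (@D3.rec (fun _ => (Cert rels S Gen.a)) lc_a_rc_4_2 lc_a_rc_1_2 lc_a_rc_22_0 lc_a_rc_1_0 lc_a_rc_4_2 lc_a_rc_3_2 lc_a_rc_1_4 lc_a_rc_4_2 lc_a_rc_21_0 lc_a_rc_4_0 lc_a_rc_21_0 lc_a_rc_22_0 lc_a_rc_1_2 lc_a_rc_3_2 lc_a_rc_4_2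 lc_a_rc_5_2 lc_a_rc_3_2 lc_a_rc_0_1 lc_a_rc_0_1 lc_a_rc_3_0 lc_a_rc_22_0 lc_a_rc_3_2 lc_a_rc_3_2 lc_a_rc_2_2 lc_a_rc_21_0 lc_a_rc_1_2 lc_a_rc_2_2 lc_a_rc_4_2 lc_a_rc_5_0 lc_a_rc_2_2 lc_a_rc_1_2 lc_a_rc_5_2 lc_a_rc_21_0 lc_a_rc_22_0 lc_a_rc_3_2 lc_a_rc_4_2 lc_a_rc_1_4 lc_a_rc_2_2 lc_a_rc_2_2 lc_a_rc_4_2 lc_a_rc_1_2 lc_a_rc_4_2 lc_a_rc_4_2 lc_a_rc_2_0 lc_a_rc_1_2 lc_a_rc_22_0 lc_a_rc_3_2 lc_a_rc_21_0 lc_a_rc_21_0 lc_a_rc_3_0 lc_a_rc_3_0 lc_a_rc_4_2 lc_a_rc_2_2 lc_a_rc_4_2 lc_a_rc_3_2 lc_a_rc_5_2 lc_a_rc_3_2 lc_a_rc_3_0 lc_a_rc_1_0 lc_a_rc_0_1 lc_a_rc_21_0 lc_a_rc_3_2) (@D3.rec (fun _ => (Cert rels S Gen.a)) lc_a_rc_2_2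 lc_a_rc_2_0 lc_a_rc_2_2 lc_a_rc_4_2 lc_a_rc_2_2 lc_a_rc_4_0 lc_a_rc_0_1 lc_a_rc_4_2 lc_a_rc_0_1 lc_a_rc_21_0 lc_a_rc_21_0 lc_a_rc_21_0 lc_a_rc_21_0 lc_a_rc_3_0 lc_a_rc_0_1 lc_a_rc_21_0 lc_a_rc_1_4 lc_a_rc_21_0 lc_a_rc_4_0 lc_a_rc_2_2 lc_a_rc_2_0 lc_a_rc_5_2 lc_a_rc_3_0 lc_a_rc_2_0 lc_a_rc_1_2 lc_a_rc_0_1 lc_a_rc_1_2 lc_a_rc_1_2 lc_a_rc_0_1 lc_a_rc_1_4 lc_a_rc_2_2 lc_a_rc_2_2 lc_a_rc_4_2 lc_a_rc_2_2 lc_a_rc_1_0 lc_a_rc_21_0 lc_a_rc_0_1 lc_a_rc_3_2 lc_a_rc_4_2 lc_a_rc_5_2 lc_a_rc_21_0 lc_a_rc_3_0 lc_a_rc_2_0 lc_a_rc_3_2 lc_a_rc_2_2 lc_a_rc_1_4 lc_a_rc_4_2 lc_a_rc_3_2 lc_a_rc_0_1 lc_a_rc_2_2 lc_a_rc_3_2 lc_a_rc_0_1 lc_a_rc_3_0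 lc_a_rc_0_1 lc_a_rc_4_2 lc_a_rc_3_2 lc_a_rc_4_2 lc_a_rc_3_0 lc_a_rc_3_0 lc_a_rc_21_0 lc_a_rc_21_0 lc_a_rc_22_0) (@D3.rec (fun _ => (Cert rels S Gen.a)) lc_a_rc_3_2 lc_a_rc_3_0 lc_a_rc_5_2 lc_a_rc_3_0 lc_a_rc_3_2 lc_a_rc_2_2 lc_a_rc_4_2 lc_a_rc_2_0 lc_a_rc_5_2 lc_a_rc_2_2 lc_a_rc_5_0 lc_a_rc_1_4 lc_a_rc_2_2 lc_a_Cert_tree lc_a_rc_3_0 lc_a_rc_4_2 lc_a_rc_1_4 lc_a_rc_3_0 lc_a_rc_5_0 lc_a_rc_3_2 lc_a_rc_0_1 lc_a_rc_1_2 lc_a_rc_0_1 lc_a_rc_2_2 lc_a_rc_5_0 lc_a_rc_5_0 lc_a_rc_2_2 lc_a_rc_21_0 lc_a_rc_1_2 lc_a_rc_2_2 lc_a_rc_3_0 lc_a_rc_1_0 lc_a_rc_2_2 lc_a_rc_2_2 lc_a_rc_4_2 lc_a_rc_3_0 lc_a_rc_3_2 lc_a_rc_2_2 lc_a_rc_4_2 lc_a_rc_21_0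 lc_a_rc_2_2 lc_a_rc_2_2 lc_a_rc_0_1 lc_a_rc_2_0 lc_a_rc_1_4 lc_a_rc_22_0 lc_a_rc_0_1 lc_a_rc_4_2 lc_a_rc_3_2 lc_a_rc_4_2 lc_a_rc_4_2 lc_a_rc_4_2 lc_a_rc_4_2 lc_a_rc_2_2 lc_a_rc_5_0 lc_a_rc_0_1 lc_a_rc_3_2 lc_a_rc_2_2 lc_a_rc_4_2 lc_a_rc_3_0 lc_a_rc_1_2 lc_a_rc_3_0)
def ce_a_29 : D2 → D3 → (Cert rels S Gen.a) := @D2.rec (fun _ => D3 → (Cert rels S Gen.a)) (@D3.rec (fun _ => (Cert rels S Gen.a)) lc_a_rc_2_0 lc_a_rc_2_0 lc_a_rc_2_0 lc_a_rc_1_0 lc_a_rc_2_0 lc_a_rc_21_0 lc_a_rc_3_2 lc_a_rc_2_0 lc_a_rc_3_0 lc_a_rc_4_2 lc_a_rc_0_1 lc_a_rc_3_0 lc_a_rc_1_4 lc_a_rc_2_2 lc_a_rc_2_2 lc_a_rc_4_2 lc_a_rc_2_0 lc_a_rc_21_0 lc_a_rc_0_1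 lc_a_rc_3_2 lc_a_rc_4_2 lc_a_rc_4_2 lc_a_rc_4_2 lc_a_rc_2_0 lc_a_rc_0_1 lc_a_rc_3_2 lc_a_rc_3_2 lc_a_rc_3_2 lc_a_rc_3_2 lc_a_rc_1_2 lc_a_rc_4_0 lc_a_rc_2_0 lc_a_rc_22_0 lc_a_rc_1_2 lc_a_rc_0_1 lc_a_rc_2_0 lc_a_rc_22_0 lc_a_rc_2_2 lc_a_rc_3_2 lc_a_rc_0_1 lc_a_rc_1_2 lc_a_rc_4_2 lc_a_rc_0_1 lc_a_rc_4_2 lc_a_rc_0_1 lc_a_rc_1_2 lc_a_rc_4_0 lc_a_Cert_tree lc_a_rc_2_2 lc_a_rc_5_0 lc_a_rc_2_0 lc_a_rc_1_2 lc_a_rc_3_2 lc_a_rc_2_2 lc_a_rc_2_2 lc_a_rc_3_2 lc_a_rc_21_0 lc_a_rc_3_2 lc_a_rc_3_2 lc_a_rc_4_2 lc_a_rc_21_0 lc_a_rc_2_0) (@D3.rec (fun _ => (Cert rels S Gen.a)) lc_a_rc_1_0 lc_a_rc_0_1 lc_a_rc_4_2 lc_a_rc_3_2 lc_a_rc_22_0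 lc_a_rc_4_2 lc_a_rc_4_2 lc_a_rc_2_2 lc_a_rc_5_0 lc_a_rc_2_2 lc_a_rc_2_2 lc_a_rc_3_0 lc_a_rc_1_2 lc_a_rc_4_2 lc_a_rc_3_0 lc_a_rc_22_0 lc_a_rc_0_1 lc_a_rc_1_2 lc_a_rc_4_0 lc_a_rc_3_2 lc_a_rc_4_2 lc_a_rc_4_0 lc_a_rc_1_4 lc_a_rc_2_2 lc_a_rc_2_2 lc_a_rc_0_1 lc_a_rc_3_0 lc_a_rc_3_2 lc_a_rc_4_2 lc_a_rc_1_0 lc_a_rc_3_2 lc_a_rc_5_2 lc_a_rc_0_1 lc_a_rc_0_1 lc_a_rc_3_2 lc_a_rc_4_2 lc_a_rc_5_0 lc_a_rc_4_0 lc_a_rc_3_2 lc_a_rc_5_2 lc_a_rc_2_2 lc_a_rc_3_2 lc_a_rc_4_2 lc_a_rc_21_0 lc_a_rc_4_2 lc_a_rc_0_1 lc_a_rc_2_2 lc_a_rc_0_1 lc_a_rc_0_1 lc_a_rc_1_2 lc_a_rc_3_2 lc_a_rc_5_0 lc_a_rc_3_2 lc_a_rc_2_2 lc_a_rc_4_2 lc_a_rc_2_2 lc_a_rc_1_2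 lc_a_rc_2_0 lc_a_rc_21_0 lc_a_rc_4_2 lc_a_rc_4_0 lc_a_rc_4_2) (@D3.rec (fun _ => (Cert rels S Gen.a)) lc_a_rc_3_2 lc_a_rc_4_2 lc_a_rc_1_4 lc_a_rc_0_1 lc_a_rc_21_0 lc_a_rc_0_1 lc_a_rc_3_2 lc_a_rc_3_2 lc_a_rc_2_2 lc_a_rc_5_2 lc_a_rc_3_0 lc_a_rc_21_0 lc_a_rc_4_2 lc_a_rc_4_2 lc_a_rc_3_2 lc_a_rc_2_0 lc_a_rc_2_2 lc_a_rc_2_2 lc_a_rc_3_0 lc_a_rc_2_2 lc_a_rc_4_2 lc_a_rc_3_2 lc_a_rc_22_0 lc_a_rc_2_2 lc_a_rc_3_2 lc_a_rc_4_2 lc_a_rc_3_2 lc_a_rc_1_4 lc_a_rc_1_4 lc_a_rc_2_2 lc_a_rc_4_0 lc_a_rc_21_0 lc_a_rc_4_2 lc_a_rc_5_0 lc_a_rc_4_2 lc_a_rc_2_2 lc_a_rc_4_2 lc_a_rc_3_2 lc_a_rc_0_1 lc_a_rc_3_2 lc_a_rc_4_0 lc_a_rc_22_0 lc_a_rc_2_0 lc_a_rc_3_0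 lc_a_rc_3_0 lc_a_rc_0_1 lc_a_rc_3_2 lc_a_rc_22_0 lc_a_rc_4_2 lc_a_rc_0_1 lc_a_rc_3_2 lc_a_rc_0_1 lc_a_rc_22_0 lc_a_rc_2_2 lc_a_rc_2_2 lc_a_rc_2_2 lc_a_rc_5_2 lc_a_rc_3_2 lc_a_rc_4_2 lc_a_rc_4_2 lc_a_rc_1_4 lc_a_rc_2_2) (@D3.rec (fun _ => (Cert rels S Gen.a)) lc_a_rc_22_0 lc_a_rc_5_0 lc_a_rc_2_2 lc_a_rc_0_1 lc_a_rc_0_1 lc_a_rc_4_2 lc_a_rc_4_2 lc_a_rc_0_1 lc_a_rc_4_2 lc_a_rc_3_2 lc_a_rc_0_1 lc_a_rc_21_0 lc_a_rc_21_0 lc_a_rc_5_0 lc_a_rc_2_2 lc_a_rc_0_1 lc_a_rc_1_4 lc_a_rc_3_2 lc_a_rc_3_2 lc_a_rc_2_2 lc_a_rc_4_2 lc_a_rc_4_0 lc_a_rc_3_2 lc_a_rc_5_2 lc_a_rc_22_0 lc_a_rc_4_2 lc_a_rc_4_2 lc_a_rc_4_0 lc_a_rc_3_2 lc_a_rc_0_1 lc_a_rc_0_1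 lc_a_rc_3_2 lc_a_rc_1_4 lc_a_rc_2_0 lc_a_rc_3_2 lc_a_rc_2_0 lc_a_rc_22_0 lc_a_rc_0_1 lc_a_rc_2_2 lc_a_rc_5_2 lc_a_rc_0_1 lc_a_rc_4_0 lc_a_rc_2_2 lc_a_rc_22_0 lc_a_rc_2_2 lc_a_rc_2_2 lc_a_rc_2_2 lc_a_rc_2_2 lc_a_rc_3_0 lc_a_rc_4_2 lc_a_rc_22_0 lc_a_rc_4_2 lc_a_rc_5_2 lc_a_rc_2_2 lc_a_rc_4_2 lc_a_rc_3_2 lc_a_rc_4_0 lc_a_rc_2_0 lc_a_rc_21_0 lc_a_rc_4_2 lc_a_rc_22_0 lc_a_rc_4_2) (@D3.rec (fun _ => (Cert rels S Gen.a)) lc_a_rc_3_2 lc_a_rc_1_4 lc_a_rc_21_0 lc_a_rc_0_1 lc_a_rc_0_1 lc_a_rc_4_2 lc_a_rc_1_4 lc_a_rc_3_2 lc_a_rc_3_2 lc_a_rc_21_0 lc_a_rc_3_2 lc_a_rc_0_1 lc_a_rc_2_2 lc_a_rc_4_2 lc_a_rc_22_0 lc_a_rc_2_2 lc_a_rc_4_0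 lc_a_rc_2_2 lc_a_rc_1_4 lc_a_rc_2_0 lc_a_rc_2_0 lc_a_rc_1_0 lc_a_rc_2_2 lc_a_rc_3_2 lc_a_rc_5_0 lc_a_rc_0_1 lc_a_rc_1_2 lc_a_rc_3_2 lc_a_rc_1_4 lc_a_rc_3_0 lc_a_rc_4_2 lc_a_rc_3_2 lc_a_rc_3_0 lc_a_rc_3_0 lc_a_rc_3_2 lc_a_Cert_tree lc_a_rc_3_0 lc_a_rc_4_2 lc_a_rc_5_2 lc_a_rc_4_2 lc_a_rc_2_0 lc_a_rc_1_0 lc_a_rc_4_0 lc_a_rc_3_2 lc_a_rc_3_2 lc_a_rc_22_0 lc_a_rc_21_0 lc_a_rc_2_2 lc_a_rc_0_1 lc_a_rc_4_2 lc_a_rc_3_2 lc_a_rc_21_0 lc_a_rc_1_0 lc_a_rc_2_2 lc_a_rc_3_2 lc_a_rc_4_2 lc_a_rc_0_1 lc_a_rc_21_0 lc_a_rc_5_2 lc_a_rc_4_0 lc_a_rc_4_0 lc_a_rc_3_2) (@D3.rec (fun _ => (Cert rels S Gen.a)) lc_a_rc_3_2 lc_a_rc_0_1 lc_a_rc_3_0 lc_a_rc_2_2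 lc_a_rc_5_2 lc_a_rc_4_2 lc_a_rc_2_2 lc_a_rc_0_1 lc_a_rc_2_2 lc_a_rc_4_2 lc_a_rc_4_2 lc_a_rc_21_0 lc_a_rc_21_0 lc_a_rc_21_0 lc_a_Cert_tree lc_a_rc_1_4 lc_a_rc_3_0 lc_a_rc_4_0 lc_a_rc_22_0 lc_a_rc_4_2 lc_a_rc_2_2 lc_a_rc_3_2 lc_a_rc_2_0 lc_a_rc_3_2 lc_a_rc_1_4 lc_a_rc_3_0 lc_a_rc_4_0 lc_a_rc_21_0 lc_a_rc_4_2 lc_a_rc_3_2 lc_a_rc_3_2 lc_a_rc_3_0 lc_a_rc_4_2 lc_a_rc_2_2 lc_a_rc_3_2 lc_a_rc_3_2 lc_a_rc_2_0 lc_a_rc_4_2 lc_a_rc_0_1 lc_a_rc_2_2 lc_a_rc_2_2 lc_a_rc_4_2 lc_a_rc_3_2 lc_a_rc_2_2 lc_a_rc_1_4 lc_a_rc_3_0 lc_a_rc_1_0 lc_a_rc_1_2 lc_a_rc_2_2 lc_a_rc_3_2 lc_a_rc_4_0 lc_a_rc_3_0 lc_a_rc_4_2 lc_a_rc_2_2 lc_a_rc_3_2 lc_a_rc_1_0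 lc_a_rc_2_0 lc_a_rc_0_1 lc_a_rc_22_0 lc_a_rc_2_2 lc_a_rc_5_2 lc_a_rc_22_0) (@D3.rec (fun _ => (Cert rels S Gen.a)) lc_a_rc_1_2 lc_a_rc_0_1 lc_a_rc_1_2 lc_a_rc_1_4 lc_a_rc_2_2 lc_a_rc_3_2 lc_a_rc_2_0 lc_a_rc_5_2 lc_a_rc_2_2 lc_a_rc_3_2 lc_a_rc_1_2 lc_a_rc_4_0 lc_a_rc_2_0 lc_a_rc_2_2 lc_a_rc_4_0 lc_a_rc_1_2 lc_a_rc_0_1 lc_a_rc_3_0 lc_a_rc_2_2 lc_a_rc_3_0 lc_a_rc_2_2 lc_a_rc_2_2 lc_a_rc_4_2 lc_a_rc_3_2 lc_a_rc_4_2 lc_a_rc_3_2 lc_a_rc_21_0 lc_a_rc_1_0 lc_a_rc_21_0 lc_a_rc_5_2 lc_a_rc_3_2 lc_a_rc_4_2 lc_a_rc_2_2 lc_a_rc_3_2 lc_a_rc_3_0 lc_a_rc_0_1 lc_a_rc_2_2 lc_a_rc_0_1 lc_a_rc_3_2 lc_a_rc_1_2 lc_a_rc_2_0 lc_a_rc_3_0 lc_a_rc_3_2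 lc_a_rc_2_2 lc_a_rc_4_2 lc_a_rc_3_2 lc_a_rc_4_2 lc_a_rc_1_2 lc_a_rc_2_0 lc_a_rc_5_2 lc_a_rc_0_1 lc_a_rc_21_0 lc_a_rc_4_2 lc_a_rc_21_0 lc_a_rc_3_2 lc_a_rc_4_2 lc_a_rc_2_2 lc_a_rc_4_0 lc_a_rc_3_2 lc_a_rc_4_2 lc_a_rc_3_2 lc_a_rc_22_0) (@D3.rec (fun _ => (Cert rels S Gen.a)) lc_a_rc_0_1 lc_a_rc_2_0 lc_a_rc_0_1 lc_a_rc_4_2 lc_a_rc_4_0 lc_a_rc_3_2 lc_a_rc_2_2 lc_a_rc_4_2 lc_a_rc_2_0 lc_a_rc_3_0 lc_a_rc_2_0 lc_a_rc_1_0 lc_a_rc_3_2 lc_a_rc_0_1 lc_a_rc_22_0 lc_a_rc_3_2 lc_a_rc_21_0 lc_a_rc_1_0 lc_a_rc_0_1 lc_a_rc_4_2 lc_a_rc_4_2 lc_a_rc_2_2 lc_a_rc_3_0 lc_a_rc_2_0 lc_a_rc_3_2 lc_a_rc_3_2 lc_a_rc_2_0 lc_a_rc_2_2 lc_a_rc_1_2 lc_a_rc_1_2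 lc_a_rc_4_2 lc_a_rc_4_0 lc_a_rc_2_0 lc_a_rc_3_2 lc_a_rc_22_0 lc_a_rc_4_0 lc_a_rc_4_2 lc_a_rc_0_1 lc_a_rc_1_4 lc_a_rc_3_0 lc_a_rc_0_1 lc_a_rc_2_0 lc_a_rc_0_1 lc_a_rc_3_0 lc_a_rc_4_0 lc_a_rc_1_2 lc_a_rc_4_2 lc_a_rc_2_0 lc_a_rc_3_2 lc_a_rc_5_2 lc_a_rc_3_0 lc_a_rc_0_1 lc_a_rc_3_2 lc_a_Cert_tree lc_a_rc_0_1 lc_a_rc_3_0 lc_a_rc_3_2 lc_a_rc_2_2 lc_a_rc_1_2 lc_a_rc_0_1 lc_a_rc_2_0 lc_a_rc_0_1) (@D3.rec (fun _ => (Cert rels S Gen.a)) lc_a_rc_3_0 lc_a_rc_4_2 lc_a_rc_3_2 lc_a_rc_4_2 lc_a_rc_4_2 lc_a_rc_3_2 lc_a_rc_5_2 lc_a_rc_4_2 lc_a_rc_3_2 lc_a_rc_3_0 lc_a_rc_5_2 lc_a_rc_5_0 lc_a_rc_1_4 lc_a_rc_3_2 lc_a_rc_0_1 lc_a_rc_4_2 lc_a_rc_4_2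 lc_a_rc_3_2 lc_a_rc_3_2 lc_a_rc_21_0 lc_a_rc_4_2 lc_a_rc_3_0 lc_a_rc_3_0 lc_a_rc_1_2 lc_a_rc_2_0 lc_a_rc_3_2 lc_a_rc_2_0 lc_a_rc_21_0 lc_a_rc_2_0 lc_a_rc_0_1 lc_a_rc_3_0 lc_a_rc_4_2 lc_a_rc_3_2 lc_a_rc_3_2 lc_a_rc_3_0 lc_a_rc_5_0 lc_a_rc_5_2 lc_a_rc_2_0 lc_a_rc_0_1 lc_a_rc_3_2 lc_a_rc_5_2 lc_a_rc_0_1 lc_a_rc_3_0 lc_a_rc_4_2 lc_a_rc_3_2 lc_a_rc_2_0 lc_a_rc_3_2 lc_a_rc_3_0 lc_a_rc_2_2 lc_a_rc_2_2 lc_a_rc_3_0 lc_a_rc_21_0 lc_a_rc_3_2 lc_a_rc_3_0 lc_a_rc_0_1 lc_a_rc_3_2 lc_a_rc_22_0 lc_a_rc_2_2 lc_a_rc_3_2 lc_a_rc_2_2 lc_a_rc_3_2 lc_a_rc_4_2) (@D3.rec (fun _ => (Cert rels S Gen.a)) lc_a_rc_4_0 lc_a_rc_1_2 lc_a_rc_1_0 lc_a_rc_1_4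 lc_a_rc_0_1 lc_a_rc_4_0 lc_a_rc_3_2 lc_a_rc_0_1 lc_a_rc_4_0 lc_a_rc_1_2 lc_a_rc_3_2 lc_a_rc_2_0 lc_a_rc_2_2 lc_a_rc_2_2 lc_a_rc_5_2 lc_a_rc_2_0 lc_a_rc_4_2 lc_a_rc_4_2 lc_a_rc_5_2 lc_a_rc_22_0 lc_a_rc_5_2 lc_a_rc_2_2 lc_a_rc_21_0 lc_a_rc_5_0 lc_a_rc_5_0 lc_a_rc_21_0 lc_a_rc_2_0 lc_a_rc_2_0 lc_a_rc_1_0 lc_a_rc_0_1 lc_a_rc_2_2 lc_a_rc_2_2 lc_a_rc_2_2 lc_a_rc_22_0 lc_a_rc_22_0 lc_a_rc_0_1 lc_a_rc_4_2 lc_a_rc_2_2 lc_a_rc_4_2 lc_a_rc_3_2 lc_a_rc_0_1 lc_a_rc_21_0 lc_a_rc_5_2 lc_a_rc_2_2 lc_a_rc_3_2 lc_a_rc_4_2 lc_a_rc_3_0 lc_a_rc_3_2 lc_a_rc_0_1 lc_a_rc_3_2 lc_a_rc_1_2 lc_a_rc_4_2 lc_a_rc_4_2 lc_a_rc_4_2 lc_a_rc_2_0 lc_a_rc_4_2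 lc_a_rc_3_0 lc_a_rc_3_2 lc_a_rc_3_2 lc_a_rc_5_2 lc_a_rc_4_2 lc_a_rc_5_0) (@D3.rec (fun _ => (Cert rels S Gen.a)) lc_a_rc_3_0 lc_a_rc_4_0 lc_a_rc_3_0 lc_a_rc_0_1 lc_a_rc_3_0 lc_a_rc_2_0 lc_a_rc_4_0 lc_a_rc_3_0 lc_a_rc_3_2 lc_a_rc_4_0 lc_a_rc_5_0 lc_a_rc_0_1 lc_a_rc_3_2 lc_a_rc_4_2 lc_a_rc_5_0 lc_a_rc_5_0 lc_a_rc_5_2 lc_a_rc_4_0 lc_a_rc_2_0 lc_a_rc_5_2 lc_a_rc_0_1 lc_a_rc_0_1 lc_a_rc_0_1 lc_a_rc_21_0 lc_a_rc_2_2 lc_a_rc_21_0 lc_a_rc_4_0 lc_a_rc_21_0 lc_a_rc_2_2 lc_a_rc_4_2 lc_a_rc_5_0 lc_a_rc_2_2 lc_a_rc_4_2 lc_a_rc_4_2 lc_a_rc_4_2 lc_a_rc_4_2 lc_a_rc_2_2 lc_a_rc_2_0 lc_a_rc_21_0 lc_a_rc_5_2 lc_a_rc_5_2 lc_a_rc_3_2 lc_a_rc_2_0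 lc_a_rc_4_2 lc_a_rc_21_0 lc_a_rc_3_2 lc_a_rc_5_2 lc_a_rc_2_0 lc_a_rc_0_1 lc_a_rc_2_2 lc_a_rc_4_2 lc_a_rc_3_2 lc_a_rc_1_2 lc_a_rc_2_0 lc_a_rc_21_0 lc_a_rc_1_0 lc_a_rc_0_1 lc_a_rc_2_0 lc_a_rc_2_2 lc_a_rc_2_2 lc_a_rc_4_2 lc_a_rc_2_2) (@D3.rec (fun _ => (Cert rels S Gen.a)) lc_a_rc_1_4 lc_a_rc_0_1 lc_a_rc_0_1 lc_a_rc_3_2 lc_a_rc_4_2 lc_a_rc_5_2 lc_a_rc_21_0 lc_a_rc_2_2 lc_a_rc_1_2 lc_a_rc_4_2 lc_a_rc_21_0 lc_a_rc_21_0 lc_a_rc_3_2 lc_a_rc_4_2 lc_a_rc_4_2 lc_a_rc_3_2 lc_a_rc_3_2 lc_a_rc_4_2 lc_a_rc_5_0 lc_a_rc_3_2 lc_a_rc_5_2 lc_a_rc_2_2 lc_a_rc_2_2 lc_a_rc_2_0 lc_a_rc_2_0 lc_a_rc_2_2 lc_a_rc_3_2 lc_a_rc_3_0 lc_a_rc_3_0 lc_a_rc_1_2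 lc_a_rc_2_2 lc_a_rc_2_2 lc_a_rc_4_0 lc_a_rc_5_0 lc_a_rc_2_2 lc_a_rc_5_2 lc_a_rc_0_1 lc_a_rc_0_1 lc_a_rc_4_2 lc_a_rc_2_2 lc_a_rc_4_2 lc_a_rc_3_2 lc_a_rc_4_0 lc_a_rc_4_0 lc_a_rc_3_0 lc_a_rc_0_1 lc_a_rc_2_2 lc_a_rc_3_0 lc_a_rc_1_2 lc_a_rc_4_2 lc_a_rc_1_4 lc_a_rc_3_2 lc_a_rc_3_0 lc_a_rc_21_0 lc_a_rc_21_0 lc_a_rc_4_2 lc_a_rc_21_0 lc_a_rc_2_0 lc_a_rc_3_2 lc_a_rc_4_0 lc_a_rc_21_0 lc_a_rc_3_2) (@D3.rec (fun _ => (Cert rels S Gen.a)) lc_a_rc_4_2 lc_a_rc_3_0 lc_a_rc_5_2 lc_a_rc_2_0 lc_a_rc_1_4 lc_a_rc_3_2 lc_a_rc_3_2 lc_a_rc_3_0 lc_a_rc_2_2 lc_a_rc_4_2 lc_a_rc_3_2 lc_a_rc_1_2 lc_a_rc_4_2 lc_a_rc_1_2 lc_a_rc_5_0 lc_a_rc_2_2 lc_a_rc_0_1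 lc_a_rc_0_1 lc_a_rc_3_2 lc_a_rc_2_0 lc_a_rc_4_2 lc_a_rc_0_1 lc_a_rc_4_2 lc_a_rc_3_0 lc_a_rc_5_2 lc_a_rc_4_0 lc_a_rc_0_1 lc_a_rc_4_2 lc_a_rc_2_0 lc_a_rc_1_4 lc_a_rc_4_2 lc_a_rc_21_0 lc_a_rc_21_0 lc_a_rc_3_0 lc_a_rc_21_0 lc_a_rc_4_2 lc_a_rc_3_0 lc_a_rc_5_2 lc_a_rc_4_2 lc_a_rc_2_0 lc_a_rc_0_1 lc_a_rc_1_4 lc_a_rc_3_0 lc_a_rc_1_4 lc_a_rc_1_2 lc_a_rc_4_0 lc_a_rc_5_2 lc_a_rc_0_1 lc_a_rc_5_0 lc_a_rc_4_2 lc_a_rc_4_2 lc_a_rc_5_0 lc_a_rc_3_0 lc_a_rc_5_2 lc_a_rc_4_0 lc_a_rc_2_0 lc_a_rc_1_2 lc_a_rc_2_2 lc_a_rc_21_0 lc_a_rc_4_2 lc_a_rc_4_0 lc_a_rc_2_2) (@D3.rec (fun _ => (Cert rels S Gen.a)) lc_a_rc_2_0 lc_a_rc_21_0 lc_a_rc_3_2 lc_a_rc_3_2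 lc_a_rc_5_2 lc_a_rc_3_2 lc_a_rc_3_2 lc_a_rc_1_4 lc_a_rc_4_2 lc_a_rc_2_0 lc_a_rc_3_2 lc_a_rc_3_2 lc_a_rc_2_2 lc_a_rc_4_2 lc_a_rc_4_2 lc_a_rc_5_2 lc_a_rc_3_2 lc_a_rc_4_0 lc_a_rc_4_2 lc_a_rc_2_2 lc_a_rc_2_2 lc_a_rc_3_2 lc_a_rc_4_2 lc_a_rc_2_2 lc_a_rc_4_2 lc_a_rc_2_0 lc_a_rc_2_0 lc_a_rc_22_0 lc_a_rc_21_0 lc_a_rc_3_2 lc_a_rc_1_0 lc_a_rc_21_0 lc_a_rc_1_2 lc_a_rc_2_2 lc_a_rc_1_0 lc_a_rc_4_2 lc_a_rc_3_0 lc_a_rc_0_1 lc_a_rc_4_2 lc_a_rc_2_2 lc_a_rc_2_0 lc_a_rc_5_0 lc_a_rc_1_0 lc_a_rc_1_0 lc_a_rc_4_2 lc_a_rc_2_2 lc_a_rc_3_0 lc_a_rc_4_2 lc_a_rc_3_2 lc_a_rc_4_2 lc_a_rc_0_1 lc_a_rc_0_1 lc_a_rc_21_0 lc_a_rc_2_0 lc_a_rc_4_0 lc_a_rc_2_0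 lc_a_rc_2_0 lc_a_rc_2_0 lc_a_rc_3_2 lc_a_rc_2_0 lc_a_rc_0_1 lc_a_rc_4_0) (@D3.rec (fun _ => (Cert rels S Gen.a)) lc_a_rc_22_0 lc_a_rc_3_2 lc_a_rc_3_2 lc_a_rc_4_2 lc_a_rc_4_2 lc_a_rc_4_0 lc_a_rc_4_0 lc_a_rc_2_2 lc_a_rc_3_2 lc_a_rc_1_0 lc_a_rc_0_1 lc_a_rc_0_1 lc_a_rc_3_2 lc_a_rc_2_2 lc_a_rc_2_2 lc_a_rc_3_2 lc_a_rc_21_0 lc_a_rc_0_1 lc_a_rc_0_1 lc_a_rc_4_0 lc_a_rc_2_2 lc_a_rc_0_1 lc_a_Cert_tree lc_a_rc_4_2 lc_a_rc_0_1 lc_a_rc_1_4 lc_a_rc_2_0 lc_a_rc_3_2 lc_a_rc_1_0 lc_a_rc_3_2 lc_a_rc_3_2 lc_a_rc_1_4 lc_a_rc_4_2 lc_a_rc_0_1 lc_a_rc_4_2 lc_a_rc_2_2 lc_a_rc_0_1 lc_a_rc_4_2 lc_a_rc_3_2 lc_a_rc_4_0 lc_a_rc_1_0 lc_a_rc_22_0 lc_a_rc_5_0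 lc_a_rc_2_0 lc_a_rc_22_0 lc_a_rc_2_0 lc_a_rc_4_0 lc_a_rc_5_2 lc_a_rc_5_2 lc_a_rc_3_2 lc_a_rc_2_2 lc_a_rc_3_2 lc_a_rc_3_2 lc_a_rc_4_2 lc_a_rc_3_0 lc_a_rc_0_1 lc_a_rc_2_0 lc_a_rc_4_0 lc_a_rc_21_0 lc_a_rc_21_0 lc_a_rc_3_0 lc_a_rc_5_2) (@D3.rec (fun _ => (Cert rels S Gen.a)) lc_a_rc_3_2 lc_a_rc_1_0 lc_a_rc_3_2 lc_a_rc_21_0 lc_a_rc_4_2 lc_a_rc_2_2 lc_a_rc_21_0 lc_a_rc_0_1 lc_a_rc_5_2 lc_a_rc_1_0 lc_a_rc_0_1 lc_a_rc_4_0 lc_a_rc_1_0 lc_a_rc_0_1 lc_a_rc_4_2 lc_a_rc_3_2 lc_a_rc_0_1 lc_a_rc_0_1 lc_a_rc_3_2 lc_a_rc_0_1 lc_a_rc_3_0 lc_a_rc_4_2 lc_a_rc_4_2 lc_a_rc_2_0 lc_a_rc_21_0 lc_a_rc_3_2 lc_a_rc_3_2 lc_a_rc_1_0 lc_a_rc_2_0 lc_a_rc_0_1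 lc_a_rc_5_0 lc_a_rc_4_2 lc_a_rc_5_0 lc_a_rc_3_2 lc_a_rc_5_2 lc_a_rc_4_2 lc_a_rc_4_0 lc_a_rc_21_0 lc_a_rc_5_0 lc_a_rc_4_2 lc_a_rc_3_0 lc_a_rc_2_0 lc_a_rc_2_0 lc_a_rc_2_2 lc_a_rc_22_0 lc_a_rc_22_0 lc_a_rc_2_2 lc_a_rc_4_2 lc_a_rc_3_2 lc_a_rc_2_2 lc_a_rc_21_0 lc_a_rc_5_0 lc_a_rc_22_0 lc_a_rc_3_2 lc_a_rc_4_2 lc_a_rc_4_2 lc_a_rc_3_2 lc_a_rc_5_2 lc_a_rc_1_4 lc_a_rc_4_0 lc_a_rc_3_2 lc_a_rc_0_1) (@D3.rec (fun _ => (Cert rels S Gen.a)) lc_a_rc_1_2 lc_a_rc_1_0 lc_a_rc_2_0 lc_a_rc_3_0 lc_a_rc_4_2 lc_a_rc_1_2 lc_a_rc_2_2 lc_a_rc_2_2 lc_a_rc_2_2 lc_a_rc_2_0 lc_a_rc_21_0 lc_a_rc_3_2 lc_a_rc_2_0 lc_a_rc_3_2 lc_a_rc_3_2 lc_a_rc_2_2 lc_a_rc_3_2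 lc_a_rc_1_4 lc_a_rc_2_0 lc_a_rc_4_2 lc_a_rc_3_2 lc_a_rc_2_2 lc_a_rc_3_2 lc_a_rc_2_2 lc_a_rc_4_2 lc_a_rc_4_2 lc_a_rc_3_2 lc_a_rc_3_2 lc_a_rc_3_2 lc_a_rc_5_2 lc_a_rc_1_2 lc_a_rc_4_2 lc_a_rc_2_0 lc_a_rc_4_2 lc_a_rc_4_2 lc_a_rc_1_2 lc_a_rc_4_0 lc_a_rc_3_0 lc_a_rc_4_2 lc_a_rc_22_0 lc_a_rc_4_2 lc_a_rc_2_0 lc_a_rc_2_2 lc_a_rc_1_2 lc_a_rc_5_2 lc_a_rc_4_0 lc_a_rc_4_2 lc_a_rc_22_0 lc_a_rc_2_2 lc_a_rc_2_0 lc_a_rc_4_2 lc_a_rc_2_0 lc_a_rc_4_2 lc_a_rc_2_0 lc_a_rc_2_2 lc_a_rc_2_2 lc_a_rc_0_1 lc_a_rc_2_2 lc_a_rc_2_2 lc_a_rc_4_0 lc_a_rc_1_4 lc_a_rc_4_2) (@D3.rec (fun _ => (Cert rels S Gen.a)) lc_a_rc_3_2 lc_a_rc_21_0 lc_a_rc_3_2 lc_a_rc_3_2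 lc_a_rc_3_2 lc_a_rc_2_0 lc_a_rc_4_2 lc_a_rc_1_2 lc_a_rc_2_2 lc_a_rc_2_0 lc_a_rc_21_0 lc_a_rc_3_2 lc_a_rc_1_2 lc_a_rc_1_2 lc_a_rc_2_2 lc_a_rc_1_4 lc_a_rc_1_4 lc_a_rc_2_2 lc_a_rc_3_0 lc_a_rc_4_0 lc_a_rc_4_2 lc_a_rc_2_0 lc_a_rc_4_2 lc_a_rc_1_2 lc_a_rc_2_0 lc_a_rc_2_0 lc_a_rc_4_2 lc_a_rc_2_2 lc_a_rc_3_2 lc_a_rc_2_2 lc_a_rc_1_4 lc_a_rc_2_0 lc_a_rc_5_2 lc_a_rc_1_0 lc_a_rc_4_2 lc_a_rc_4_2 lc_a_rc_3_2 lc_a_rc_2_2 lc_a_rc_4_2 lc_a_rc_3_0 lc_a_rc_4_0 lc_a_rc_3_2 lc_a_rc_22_0 lc_a_rc_3_2 lc_a_rc_3_0 lc_a_rc_3_2 lc_a_rc_22_0 lc_a_rc_21_0 lc_a_rc_4_0 lc_a_rc_2_0 lc_a_rc_2_0 lc_a_rc_5_0 lc_a_rc_2_0 lc_a_rc_4_0 lc_a_rc_2_2 lc_a_rc_0_1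 lc_a_rc_2_0 lc_a_rc_3_2 lc_a_rc_4_2 lc_a_rc_22_0 lc_a_rc_2_0 lc_a_rc_2_2) (@D3.rec (fun _ => (Cert rels S Gen.a)) lc_a_rc_3_0 lc_a_rc_3_0 lc_a_rc_3_0 lc_a_rc_4_2 lc_a_rc_1_0 lc_a_rc_2_0 lc_a_rc_3_0 lc_a_rc_0_1 lc_a_rc_4_0 lc_a_rc_2_2 lc_a_rc_0_1 lc_a_rc_4_2 lc_a_rc_0_1 lc_a_rc_4_2 lc_a_rc_3_2 lc_a_rc_3_0 lc_a_rc_0_1 lc_a_rc_4_2 lc_a_rc_5_2 lc_a_rc_5_2 lc_a_rc_1_4 lc_a_rc_4_2 lc_a_rc_4_2 lc_a_rc_21_0 lc_a_rc_3_0 lc_a_rc_4_2 lc_a_rc_0_1 lc_a_rc_1_2 lc_a_rc_21_0 lc_a_rc_3_2 lc_a_rc_0_1 lc_a_rc_1_4 lc_a_rc_3_0 lc_a_rc_2_0 lc_a_rc_2_2 lc_a_rc_21_0 lc_a_rc_3_0 lc_a_rc_21_0 lc_a_rc_4_2 lc_a_rc_4_2 lc_a_rc_4_2 lc_a_rc_3_2 lc_a_rc_2_2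 lc_a_rc_21_0 lc_a_rc_0_1 lc_a_rc_21_0 lc_a_rc_4_2 lc_a_rc_0_1 lc_a_rc_5_2 lc_a_rc_2_0 lc_a_rc_2_2 lc_a_rc_3_0 lc_a_rc_3_0 lc_a_rc_21_0 lc_a_rc_21_0 lc_a_rc_5_2 lc_a_rc_4_2 lc_a_rc_21_0 lc_a_rc_0_1 lc_a_rc_3_2 lc_a_rc_0_1 lc_a_rc_0_1) (@D3.rec (fun _ => (Cert rels S Gen.a)) lc_a_rc_3_2 lc_a_rc_3_2 lc_a_rc_1_4 lc_a_rc_0_1 lc_a_rc_3_0 lc_a_rc_4_2 lc_a_rc_21_0 lc_a_rc_0_1 lc_a_rc_2_2 lc_a_rc_2_2 lc_a_rc_2_2 lc_a_rc_4_2 lc_a_rc_2_2 lc_a_rc_4_2 lc_a_rc_3_2 lc_a_rc_4_0 lc_a_rc_5_2 lc_a_rc_5_0 lc_a_rc_3_2 lc_a_rc_5_2 lc_a_rc_0_1 lc_a_rc_1_0 lc_a_rc_3_0 lc_a_rc_3_0 lc_a_rc_2_2 lc_a_rc_2_0 lc_a_rc_3_0 lc_a_rc_0_1 lc_a_rc_1_2 lc_a_rc_2_2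 lc_a_rc_3_2 lc_a_rc_4_2 lc_a_rc_2_0 lc_a_rc_4_2 lc_a_rc_2_0 lc_a_rc_2_0 lc_a_rc_5_2 lc_a_rc_4_2 lc_a_rc_3_2 lc_a_rc_21_0 lc_a_rc_2_0 lc_a_rc_2_2 lc_a_rc_4_2 lc_a_rc_0_1 lc_a_rc_3_2 lc_a_rc_21_0 lc_a_rc_3_2 lc_a_rc_4_0 lc_a_rc_0_1 lc_a_rc_1_4 lc_a_rc_4_2 lc_a_rc_3_2 lc_a_rc_4_2 lc_a_rc_0_1 lc_a_rc_3_0 lc_a_rc_2_2 lc_a_rc_21_0 lc_a_rc_4_0 lc_a_rc_1_2 lc_a_rc_4_2 lc_a_rc_1_0 lc_a_rc_1_0) (@D3.rec (fun _ => (Cert rels S Gen.a)) lc_a_rc_4_2 lc_a_rc_1_0 lc_a_rc_5_2 lc_a_rc_5_2 lc_a_rc_22_0 lc_a_rc_3_2 lc_a_rc_0_1 lc_a_rc_0_1 lc_a_rc_2_2 lc_a_rc_21_0 lc_a_rc_2_2 lc_a_rc_1_4 lc_a_rc_21_0 lc_a_rc_4_2 lc_a_rc_2_2 lc_a_rc_0_1 lc_a_rc_2_0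 lc_a_rc_5_2 lc_a_rc_2_2 lc_a_rc_3_2 lc_a_rc_2_0 lc_a_rc_3_2 lc_a_rc_0_1 lc_a_rc_21_0 lc_a_rc_3_2 lc_a_rc_4_2 lc_a_rc_3_2 lc_a_rc_4_0 lc_a_rc_2_2 lc_a_rc_0_1 lc_a_rc_1_4 lc_a_rc_4_2 lc_a_rc_3_2 lc_a_rc_0_1 lc_a_rc_2_0 lc_a_rc_0_1 lc_a_rc_2_0 lc_a_rc_3_2 lc_a_rc_3_0 lc_a_rc_4_0 lc_a_rc_4_2 lc_a_rc_3_2 lc_a_rc_3_0 lc_a_rc_0_1 lc_a_rc_21_0 lc_a_rc_2_2 lc_a_rc_2_2 lc_a_rc_4_2 lc_a_rc_3_2 lc_a_rc_0_1 lc_a_rc_21_0 lc_a_rc_3_2 lc_a_rc_3_0 lc_a_rc_4_2 lc_a_rc_4_2 lc_a_rc_5_2 lc_a_rc_21_0 lc_a_rc_3_2 lc_a_rc_4_2 lc_a_rc_5_0 lc_a_rc_4_2 lc_a_rc_4_0) (@D3.rec (fun _ => (Cert rels S Gen.a)) lc_a_rc_3_2 lc_a_rc_21_0 lc_a_rc_3_2 lc_a_rc_5_2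 lc_a_rc_4_2 lc_a_rc_2_2 lc_a_rc_3_2 lc_a_rc_4_2 lc_a_rc_21_0 lc_a_rc_1_4 lc_a_rc_3_2 lc_a_rc_21_0 lc_a_rc_0_1 lc_a_rc_3_2 lc_a_rc_0_1 lc_a_rc_2_2 lc_a_rc_1_2 lc_a_rc_3_2 lc_a_rc_4_2 lc_a_rc_4_0 lc_a_rc_1_2 lc_a_rc_4_2 lc_a_rc_5_2 lc_a_rc_4_0 lc_a_rc_22_0 lc_a_rc_1_4 lc_a_rc_3_2 lc_a_rc_3_2 lc_a_rc_1_2 lc_a_rc_0_1 lc_a_rc_3_2 lc_a_rc_3_2 lc_a_rc_2_2 lc_a_rc_3_2 lc_a_rc_3_2 lc_a_rc_5_2 lc_a_rc_0_1 lc_a_rc_1_2 lc_a_rc_5_2 lc_a_rc_4_2 lc_a_rc_3_2 lc_a_rc_3_0 lc_a_rc_4_2 lc_a_rc_4_2 lc_a_rc_3_0 lc_a_rc_0_1 lc_a_rc_2_2 lc_a_rc_3_2 lc_a_rc_3_2 lc_a_rc_0_1 lc_a_rc_21_0 lc_a_rc_3_0 lc_a_rc_4_2 lc_a_rc_2_2 lc_a_rc_3_0 lc_a_rc_3_0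 lc_a_rc_1_2 lc_a_rc_0_1 lc_a_rc_0_1 lc_a_rc_5_2 lc_a_rc_3_2 lc_a_rc_4_2) (@D3.rec (fun _ => (Cert rels S Gen.a)) lc_a_rc_2_2 lc_a_rc_1_4 lc_a_rc_0_1 lc_a_rc_0_1 lc_a_rc_2_2 lc_a_rc_1_2 lc_a_rc_5_2 lc_a_rc_0_1 lc_a_rc_2_2 lc_a_rc_3_0 lc_a_rc_0_1 lc_a_rc_3_2 lc_a_rc_3_2 lc_a_rc_4_2 lc_a_rc_2_2 lc_a_rc_0_1 lc_a_rc_3_2 lc_a_rc_3_2 lc_a_rc_4_2 lc_a_rc_0_1 lc_a_rc_0_1 lc_a_rc_1_0 lc_a_rc_2_2 lc_a_rc_0_1 lc_a_rc_3_0 lc_a_rc_5_2 lc_a_rc_1_4 lc_a_rc_21_0 lc_a_rc_2_2 lc_a_rc_3_2 lc_a_rc_5_2 lc_a_rc_3_2 lc_a_rc_2_0 lc_a_rc_3_2 lc_a_rc_2_2 lc_a_rc_21_0 lc_a_rc_21_0 lc_a_rc_3_2 lc_a_rc_21_0 lc_a_rc_22_0 lc_a_rc_3_2 lc_a_rc_2_2 lc_a_rc_4_2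 lc_a_rc_3_0 lc_a_rc_3_2 lc_a_rc_1_2 lc_a_rc_3_2 lc_a_rc_4_2 lc_a_rc_3_2 lc_a_rc_3_2 lc_a_rc_0_1 lc_a_rc_1_0 lc_a_rc_5_2 lc_a_rc_4_2 lc_a_rc_4_2 lc_a_rc_3_0 lc_a_rc_3_0 lc_a_rc_0_1 lc_a_rc_3_0 lc_a_rc_4_0 lc_a_rc_0_1 lc_a_rc_4_0) (@D3.rec (fun _ => (Cert rels S Gen.a)) lc_a_rc_0_1 lc_a_rc_2_2 lc_a_rc_3_0 lc_a_rc_2_0 lc_a_rc_4_2 lc_a_rc_3_2 lc_a_rc_3_2 lc_a_rc_3_2 lc_a_rc_3_2 lc_a_rc_2_2 lc_a_rc_2_0 lc_a_rc_4_2 lc_a_rc_2_0 lc_a_rc_2_2 lc_a_rc_3_2 lc_a_rc_4_2 lc_a_rc_1_4 lc_a_rc_3_0 lc_a_rc_4_0 lc_a_rc_0_1 lc_a_rc_2_2 lc_a_rc_2_2 lc_a_rc_21_0 lc_a_rc_0_1 lc_a_rc_2_2 lc_a_rc_1_4 lc_a_rc_21_0 lc_a_rc_21_0 lc_a_rc_3_2 lc_a_rc_3_2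 lc_a_rc_2_2 lc_a_rc_3_2 lc_a_rc_21_0 lc_a_rc_22_0 lc_a_rc_4_0 lc_a_rc_3_0 lc_a_rc_5_0 lc_a_rc_0_1 lc_a_rc_2_0 lc_a_rc_3_2 lc_a_rc_2_2 lc_a_rc_4_2 lc_a_rc_4_2 lc_a_rc_21_0 lc_a_rc_1_4 lc_a_rc_0_1 lc_a_rc_1_2 lc_a_rc_1_2 lc_a_rc_4_2 lc_a_rc_1_0 lc_a_rc_0_1 lc_a_rc_1_2 lc_a_rc_3_2 lc_a_rc_0_1 lc_a_rc_21_0 lc_a_rc_4_2 lc_a_rc_2_2 lc_a_rc_2_2 lc_a_rc_5_2 lc_a_rc_3_0 lc_a_rc_4_2 lc_a_rc_3_0) (@D3.rec (fun _ => (Cert rels S Gen.a)) lc_a_rc_2_2 lc_a_rc_3_2 lc_a_rc_4_2 lc_a_rc_5_2 lc_a_rc_4_2 lc_a_rc_5_2 lc_a_rc_4_2 lc_a_rc_3_0 lc_a_rc_4_2 lc_a_rc_0_1 lc_a_rc_2_0 lc_a_rc_21_0 lc_a_rc_5_2 lc_a_rc_21_0 lc_a_rc_1_4 lc_a_rc_1_4 lc_a_rc_4_2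 lc_a_rc_3_2 lc_a_rc_4_0 lc_a_rc_3_2 lc_a_rc_3_2 lc_a_rc_2_2 lc_a_rc_4_2 lc_a_rc_4_2 lc_a_rc_3_2 lc_a_rc_5_2 lc_a_rc_1_2 lc_a_rc_2_2 lc_a_rc_4_2 lc_a_rc_1_4 lc_a_rc_3_2 lc_a_rc_3_2 lc_a_rc_1_0 lc_a_rc_0_1 lc_a_rc_3_2 lc_a_rc_2_0 lc_a_rc_5_0 lc_a_rc_3_0 lc_a_rc_2_2 lc_a_rc_2_2 lc_a_rc_4_2 lc_a_rc_1_0 lc_a_rc_2_2 lc_a_rc_3_2 lc_a_rc_5_2 lc_a_rc_21_0 lc_a_rc_2_0 lc_a_rc_3_2 lc_a_rc_2_2 lc_a_rc_22_0 lc_a_rc_3_2 lc_a_rc_2_2 lc_a_rc_21_0 lc_a_rc_3_0 lc_a_rc_0_1 lc_a_rc_2_0 lc_a_rc_4_2 lc_a_rc_5_2 lc_a_rc_21_0 lc_a_rc_2_0 lc_a_rc_4_2 lc_a_rc_3_0) (@D3.rec (fun _ => (Cert rels S Gen.a)) lc_a_rc_3_2 lc_a_rc_5_2 lc_a_rc_3_0 lc_a_rc_2_0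 lc_a_rc_0_1 lc_a_rc_5_2 lc_a_rc_2_2 lc_a_rc_2_2 lc_a_rc_3_2 lc_a_rc_3_2 lc_a_rc_0_1 lc_a_rc_2_0 lc_a_rc_4_2 lc_a_rc_5_2 lc_a_rc_0_1 lc_a_rc_2_2 lc_a_rc_2_2 lc_a_rc_3_2 lc_a_rc_3_2 lc_a_rc_2_2 lc_a_rc_2_2 lc_a_rc_4_2 lc_a_rc_3_2 lc_a_rc_0_1 lc_a_rc_3_2 lc_a_rc_3_2 lc_a_rc_0_1 lc_a_rc_2_0 lc_a_rc_22_0 lc_a_rc_4_2 lc_a_rc_4_0 lc_a_rc_1_4 lc_a_rc_3_2 lc_a_rc_2_2 lc_a_rc_3_2 lc_a_rc_0_1 lc_a_rc_0_1 lc_a_rc_21_0 lc_a_rc_3_2 lc_a_rc_3_0 lc_a_rc_4_2 lc_a_rc_0_1 lc_a_rc_1_2 lc_a_rc_5_2 lc_a_rc_4_2 lc_a_rc_4_0 lc_a_rc_5_2 lc_a_rc_4_2 lc_a_rc_5_2 lc_a_rc_2_2 lc_a_rc_3_2 lc_a_rc_2_2 lc_a_rc_4_2 lc_a_rc_2_2 lc_a_rc_2_2 lc_a_rc_2_2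 lc_a_rc_21_0 lc_a_rc_2_0 lc_a_rc_3_2 lc_a_rc_2_2 lc_a_rc_0_1 lc_a_rc_0_1) (@D3.rec (fun _ => (Cert rels S Gen.a)) lc_a_rc_4_2 lc_a_rc_22_0 lc_a_rc_4_2 lc_a_rc_2_2 lc_a_rc_2_0 lc_a_rc_0_1 lc_a_rc_3_2 lc_a_rc_0_1 lc_a_rc_2_2 lc_a_rc_0_1 lc_a_rc_4_2 lc_a_rc_21_0 lc_a_rc_3_2 lc_a_rc_2_2 lc_a_rc_3_0 lc_a_rc_1_2 lc_a_rc_0_1 lc_a_rc_0_1 lc_a_rc_2_2 lc_a_rc_21_0 lc_a_rc_1_2 lc_a_rc_5_2 lc_a_rc_1_2 lc_a_rc_21_0 lc_a_rc_0_1 lc_a_rc_3_2 lc_a_rc_2_2 lc_a_rc_4_0 lc_a_rc_3_0 lc_a_rc_0_1 lc_a_rc_21_0 lc_a_rc_0_1 lc_a_rc_2_2 lc_a_rc_2_2 lc_a_rc_5_2 lc_a_rc_2_2 lc_a_rc_2_2 lc_a_rc_4_2 lc_a_rc_2_2 lc_a_rc_0_1 lc_a_rc_5_0 lc_a_rc_5_0 lc_a_rc_21_0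 lc_a_rc_2_2 lc_a_rc_4_2 lc_a_rc_4_2 lc_a_rc_2_2 lc_a_rc_3_2 lc_a_rc_3_2 lc_a_rc_3_2 lc_a_rc_1_0 lc_a_rc_2_2 lc_a_rc_3_2 lc_a_rc_3_2 lc_a_rc_5_2 lc_a_rc_2_2 lc_a_rc_2_2 lc_a_rc_0_1 lc_a_rc_4_2 lc_a_rc_2_2 lc_a_rc_4_0 lc_a_rc_1_2) (@D3.rec (fun _ => (Cert rels S Gen.a)) lc_a_rc_1_4 lc_a_rc_21_0 lc_a_rc_21_0 lc_a_rc_3_2 lc_a_rc_3_2 lc_a_rc_1_4 lc_a_rc_4_0 lc_a_rc_3_0 lc_a_rc_3_2 lc_a_rc_5_0 lc_a_rc_0_1 lc_a_rc_22_0 lc_a_rc_3_2 lc_a_rc_3_2 lc_a_rc_3_2 lc_a_rc_0_1 lc_a_rc_3_2 lc_a_rc_4_2 lc_a_rc_21_0 lc_a_rc_4_2 lc_a_rc_0_1 lc_a_rc_21_0 lc_a_rc_0_1 lc_a_rc_3_2 lc_a_rc_4_2 lc_a_rc_5_0 lc_a_rc_3_2 lc_a_rc_1_0 lc_a_rc_2_2 lc_a_rc_3_0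 lc_a_rc_21_0 lc_a_rc_4_2 lc_a_rc_3_0 lc_a_rc_5_2 lc_a_rc_2_2 lc_a_rc_4_2 lc_a_rc_2_2 lc_a_rc_0_1 lc_a_rc_4_2 lc_a_rc_3_2 lc_a_rc_2_2 lc_a_rc_4_2 lc_a_rc_0_1 lc_a_rc_4_2 lc_a_rc_3_0 lc_a_rc_1_4 lc_a_rc_3_2 lc_a_rc_2_2 lc_a_rc_22_0 lc_a_rc_3_2 lc_a_rc_3_0 lc_a_rc_1_0 lc_a_rc_2_2 lc_a_rc_2_0 lc_a_rc_21_0 lc_a_rc_3_2 lc_a_rc_3_0 lc_a_rc_3_2 lc_a_rc_4_2 lc_a_rc_2_2 lc_a_rc_4_0 lc_a_rc_4_2) (@D3.rec (fun _ => (Cert rels S Gen.a)) lc_a_rc_1_4 lc_a_rc_0_1 lc_a_rc_2_2 lc_a_rc_2_2 lc_a_rc_4_2 lc_a_rc_4_2 lc_a_rc_3_2 lc_a_rc_2_2 lc_a_rc_3_2 lc_a_rc_2_0 lc_a_rc_2_0 lc_a_rc_4_2 lc_a_rc_3_0 lc_a_rc_4_2 lc_a_rc_3_2 lc_a_rc_3_2 lc_a_rc_0_1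 lc_a_rc_4_2 lc_a_rc_4_2 lc_a_rc_1_4 lc_a_rc_3_0 lc_a_rc_5_2 lc_a_rc_3_0 lc_a_rc_21_0 lc_a_rc_1_4 lc_a_rc_0_1 lc_a_rc_3_0 lc_a_rc_4_2 lc_a_rc_4_2 lc_a_rc_5_2 lc_a_rc_2_2 lc_a_rc_5_2 lc_a_rc_0_1 lc_a_rc_3_2 lc_a_rc_2_2 lc_a_rc_4_2 lc_a_rc_0_1 lc_a_rc_1_4 lc_a_rc_1_4 lc_a_rc_22_0 lc_a_rc_5_2 lc_a_rc_21_0 lc_a_rc_4_2 lc_a_rc_2_2 lc_a_rc_3_0 lc_a_rc_4_2 lc_a_rc_3_2 lc_a_rc_3_2 lc_a_rc_22_0 lc_a_rc_3_0 lc_a_rc_3_2 lc_a_rc_2_0 lc_a_rc_3_2 lc_a_rc_3_0 lc_a_rc_3_2 lc_a_rc_4_2 lc_a_rc_1_0 lc_a_rc_2_2 lc_a_rc_5_2 lc_a_rc_3_2 lc_a_rc_4_0 lc_a_rc_0_1) (@D3.rec (fun _ => (Cert rels S Gen.a)) lc_a_rc_1_4 lc_a_rc_5_2 lc_a_rc_4_2 lc_a_rc_1_0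 lc_a_rc_3_2 lc_a_rc_5_2 lc_a_rc_21_0 lc_a_rc_5_0 lc_a_rc_4_2 lc_a_rc_3_2 lc_a_rc_2_2 lc_a_rc_2_2 lc_a_rc_21_0 lc_a_Cert_tree lc_a_rc_3_2 lc_a_rc_4_2 lc_a_rc_0_1 lc_a_rc_21_0 lc_a_rc_1_4 lc_a_rc_0_1 lc_a_rc_3_0 lc_a_rc_3_2 lc_a_rc_0_1 lc_a_rc_21_0 lc_a_rc_4_2 lc_a_rc_4_2 lc_a_rc_21_0 lc_a_rc_0_1 lc_a_rc_3_2 lc_a_rc_1_0 lc_a_rc_1_2 lc_a_rc_0_1 lc_a_rc_2_2 lc_a_rc_4_0 lc_a_rc_3_2 lc_a_rc_3_0 lc_a_rc_3_2 lc_a_rc_5_2 lc_a_rc_2_2 lc_a_rc_4_2 lc_a_rc_3_0 lc_a_rc_4_2 lc_a_rc_0_1 lc_a_rc_4_2 lc_a_rc_2_2 lc_a_rc_4_2 lc_a_rc_0_1 lc_a_rc_4_2 lc_a_rc_3_2 lc_a_rc_5_2 lc_a_rc_4_0 lc_a_rc_2_0 lc_a_rc_5_2 lc_a_rc_3_2 lc_a_rc_5_0 lc_a_rc_2_2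 lc_a_rc_3_2 lc_a_rc_2_2 lc_a_rc_4_2 lc_a_rc_5_2 lc_a_rc_4_2 lc_a_rc_21_0) (@D3.rec (fun _ => (Cert rels S Gen.a)) lc_a_rc_0_1 lc_a_rc_5_2 lc_a_rc_3_2 lc_a_rc_5_2 lc_a_rc_4_2 lc_a_rc_2_2 lc_a_rc_4_2 lc_a_rc_1_4 lc_a_rc_4_2 lc_a_rc_21_0 lc_a_rc_2_0 lc_a_rc_1_4 lc_a_rc_1_2 lc_a_rc_0_1 lc_a_rc_2_2 lc_a_rc_3_2 lc_a_rc_0_1 lc_a_rc_3_2 lc_a_rc_21_0 lc_a_rc_0_1 lc_a_rc_2_0 lc_a_rc_4_0 lc_a_rc_5_2 lc_a_rc_3_2 lc_a_rc_2_2 lc_a_rc_4_2 lc_a_rc_2_0 lc_a_rc_4_2 lc_a_rc_5_2 lc_a_rc_4_2 lc_a_rc_4_2 lc_a_rc_2_2 lc_a_rc_21_0 lc_a_rc_3_2 lc_a_rc_3_0 lc_a_rc_3_2 lc_a_rc_4_2 lc_a_rc_2_2 lc_a_rc_4_2 lc_a_rc_0_1 lc_a_rc_3_2 lc_a_rc_2_2 lc_a_rc_22_0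 lc_a_rc_4_2 lc_a_rc_0_1 lc_a_rc_4_2 lc_a_rc_22_0 lc_a_rc_1_2 lc_a_rc_4_2 lc_a_rc_4_0 lc_a_rc_5_2 lc_a_rc_4_2 lc_a_rc_2_2 lc_a_rc_4_2 lc_a_rc_3_2 lc_a_rc_4_2 lc_a_rc_0_1 lc_a_rc_4_2 lc_a_rc_2_2 lc_a_rc_2_0 lc_a_rc_2_0 lc_a_rc_2_0) (@D3.rec (fun _ => (Cert rels S Gen.a)) lc_a_rc_3_2 lc_a_rc_2_0 lc_a_rc_2_2 lc_a_rc_2_2 lc_a_rc_2_2 lc_a_rc_2_2 lc_a_rc_5_0 lc_a_rc_21_0 lc_a_rc_3_0 lc_a_rc_3_2 lc_a_rc_3_2 lc_a_rc_4_2 lc_a_rc_5_2 lc_a_rc_3_2 lc_a_rc_5_2 lc_a_rc_2_0 lc_a_rc_3_2 lc_a_rc_3_2 lc_a_rc_4_2 lc_a_rc_3_2 lc_a_rc_3_2 lc_a_rc_1_2 lc_a_rc_4_2 lc_a_rc_3_2 lc_a_rc_4_2 lc_a_rc_22_0 lc_a_rc_2_2 lc_a_rc_2_2 lc_a_rc_4_2 lc_a_rc_2_2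 lc_a_rc_3_0 lc_a_rc_3_2 lc_a_rc_2_0 lc_a_rc_21_0 lc_a_rc_1_2 lc_a_rc_22_0 lc_a_rc_4_2 lc_a_rc_1_2 lc_a_rc_5_2 lc_a_rc_1_0 lc_a_rc_1_0 lc_a_rc_2_2 lc_a_rc_3_0 lc_a_rc_3_2 lc_a_rc_21_0 lc_a_rc_1_2 lc_a_rc_3_2 lc_a_rc_2_2 lc_a_rc_3_2 lc_a_rc_2_2 lc_a_rc_2_0 lc_a_rc_4_2 lc_a_rc_0_1 lc_a_rc_5_2 lc_a_rc_4_2 lc_a_rc_2_2 lc_a_rc_1_0 lc_a_rc_2_0 lc_a_rc_2_0 lc_a_rc_5_0 lc_a_rc_2_2 lc_a_rc_2_0) (@D3.rec (fun _ => (Cert rels S Gen.a)) lc_a_rc_2_2 lc_a_rc_2_0 lc_a_rc_4_0 lc_a_rc_2_2 lc_a_rc_2_0 lc_a_rc_3_2 lc_a_rc_3_0 lc_a_rc_3_2 lc_a_rc_0_1 lc_a_rc_1_0 lc_a_rc_0_1 lc_a_rc_21_0 lc_a_rc_5_0 lc_a_rc_3_0 lc_a_rc_3_2 lc_a_rc_4_2 lc_a_rc_2_2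 lc_a_rc_2_2 lc_a_rc_3_2 lc_a_rc_2_2 lc_a_rc_4_2 lc_a_rc_3_2 lc_a_rc_2_2 lc_a_rc_5_0 lc_a_rc_21_0 lc_a_rc_2_2 lc_a_rc_2_2 lc_a_rc_3_2 lc_a_rc_0_1 lc_a_rc_4_0 lc_a_rc_4_2 lc_a_rc_3_2 lc_a_rc_3_2 lc_a_rc_0_1 lc_a_rc_0_1 lc_a_rc_0_1 lc_a_rc_5_2 lc_a_rc_5_0 lc_a_rc_5_0 lc_a_rc_0_1 lc_a_rc_3_2 lc_a_rc_2_2 lc_a_rc_2_2 lc_a_rc_4_2 lc_a_rc_2_0 lc_a_rc_2_2 lc_a_rc_2_2 lc_a_rc_4_2 lc_a_rc_2_2 lc_a_rc_3_2 lc_a_rc_1_2 lc_a_rc_2_2 lc_a_rc_4_0 lc_a_rc_2_2 lc_a_rc_5_0 lc_a_rc_3_2 lc_a_rc_4_2 lc_a_rc_2_0 lc_a_rc_2_2 lc_a_rc_21_0 lc_a_rc_0_1 lc_a_rc_1_4) (@D3.rec (fun _ => (Cert rels S Gen.a)) lc_a_rc_3_2 lc_a_rc_0_1 lc_a_rc_1_4 lc_a_rc_3_0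 lc_a_rc_1_4 lc_a_rc_21_0 lc_a_rc_2_0 lc_a_rc_5_2 lc_a_rc_3_2 lc_a_rc_3_2 lc_a_rc_1_2 lc_a_rc_4_0 lc_a_rc_3_2 lc_a_rc_1_0 lc_a_rc_1_4 lc_a_rc_2_2 lc_a_rc_3_2 lc_a_rc_21_0 lc_a_rc_3_2 lc_a_rc_4_2 lc_a_rc_0_1 lc_a_rc_2_2 lc_a_rc_3_0 lc_a_rc_3_0 lc_a_rc_1_2 lc_a_rc_1_2 lc_a_rc_21_0 lc_a_rc_3_2 lc_a_rc_5_2 lc_a_rc_3_0 lc_a_rc_21_0 lc_a_rc_0_1 lc_a_rc_2_0 lc_a_rc_3_2 lc_a_rc_2_2 lc_a_rc_3_2 lc_a_rc_1_4 lc_a_rc_22_0 lc_a_rc_4_2 lc_a_rc_1_2 lc_a_rc_3_2 lc_a_rc_2_0 lc_a_rc_3_2 lc_a_rc_2_0 lc_a_rc_22_0 lc_a_rc_4_2 lc_a_rc_4_2 lc_a_rc_4_2 lc_a_rc_3_2 lc_a_rc_0_1 lc_a_rc_2_2 lc_a_rc_4_2 lc_a_rc_2_0 lc_a_rc_5_2 lc_a_rc_3_2 lc_a_rc_3_0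 lc_a_rc_3_0 lc_a_rc_3_0 lc_a_rc_21_0 lc_a_rc_3_2 lc_a_rc_0_1 lc_a_rc_4_2) (@D3.rec (fun _ => (Cert rels S Gen.a)) lc_a_rc_1_4 lc_a_rc_21_0 lc_a_rc_3_2 lc_a_rc_4_2 lc_a_rc_3_2 lc_a_rc_21_0 lc_a_rc_3_0 lc_a_rc_22_0 lc_a_rc_2_2 lc_a_rc_3_2 lc_a_rc_5_2 lc_a_rc_0_1 lc_a_rc_2_2 lc_a_rc_1_4 lc_a_rc_2_0 lc_a_rc_5_2 lc_a_rc_0_1 lc_a_rc_5_2 lc_a_rc_5_0 lc_a_rc_2_0 lc_a_rc_1_2 lc_a_rc_4_2 lc_a_rc_5_2 lc_a_rc_3_0 lc_a_rc_0_1 lc_a_rc_2_2 lc_a_rc_4_2 lc_a_rc_21_0 lc_a_rc_2_2 lc_a_rc_4_2 lc_a_rc_2_0 lc_a_rc_21_0 lc_a_rc_1_0 lc_a_rc_0_1 lc_a_rc_0_1 lc_a_rc_3_2 lc_a_rc_3_2 lc_a_rc_3_2 lc_a_rc_2_2 lc_a_rc_4_2 lc_a_rc_4_2 lc_a_rc_2_2 lc_a_rc_1_4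 lc_a_rc_21_0 lc_a_rc_1_4 lc_a_rc_4_2 lc_a_rc_22_0 lc_a_rc_4_2 lc_a_rc_2_2 lc_a_rc_2_2 lc_a_rc_4_2 lc_a_rc_3_2 lc_a_rc_4_0 lc_a_rc_4_0 lc_a_rc_5_2 lc_a_rc_4_2 lc_a_rc_3_2 lc_a_rc_4_2 lc_a_rc_5_2 lc_a_rc_2_2 lc_a_rc_3_2 lc_a_rc_5_2) (@D3.rec (fun _ => (Cert rels S Gen.a)) lc_a_rc_21_0 lc_a_rc_3_2 lc_a_rc_3_2 lc_a_rc_2_2 lc_a_rc_2_0 lc_a_rc_4_2 lc_a_rc_4_2 lc_a_rc_22_0 lc_a_rc_3_2 lc_a_rc_3_2 lc_a_rc_0_1 lc_a_rc_1_0 lc_a_rc_3_2 lc_a_rc_2_0 lc_a_rc_3_2 lc_a_rc_4_0 lc_a_rc_0_1 lc_a_rc_2_2 lc_a_rc_3_2 lc_a_rc_0_1 lc_a_rc_2_2 lc_a_rc_4_2 lc_a_rc_1_2 lc_a_rc_4_2 lc_a_rc_21_0 lc_a_rc_3_2 lc_a_rc_5_2 lc_a_rc_1_4 lc_a_rc_0_1 lc_a_Cert_tree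 lc_a_rc_0_1 lc_a_rc_0_1 lc_a_rc_3_2 lc_a_rc_5_2 lc_a_rc_2_0 lc_a_rc_0_1 lc_a_rc_3_2 lc_a_rc_4_2 lc_a_rc_3_2 lc_a_rc_4_2 lc_a_rc_3_2 lc_a_rc_2_0 lc_a_rc_2_0 lc_a_rc_0_1 lc_a_rc_0_1 lc_a_rc_5_0 lc_a_rc_2_2 lc_a_rc_4_2 lc_a_rc_2_2 lc_a_rc_2_2 lc_a_rc_4_2 lc_a_rc_5_0 lc_a_rc_3_2 lc_a_rc_21_0 lc_a_rc_21_0 lc_a_rc_21_0 lc_a_rc_3_2 lc_a_rc_3_2 lc_a_rc_3_0 lc_a_rc_2_0 lc_a_rc_0_1 lc_a_rc_3_2) (@D3.rec (fun _ => (Cert rels S Gen.a)) lc_a_rc_4_0 lc_a_rc_3_0 lc_a_rc_3_2 lc_a_rc_3_2 lc_a_rc_2_2 lc_a_rc_2_2 lc_a_rc_4_2 lc_a_rc_22_0 lc_a_rc_3_2 lc_a_rc_3_2 lc_a_rc_21_0 lc_a_rc_1_4 lc_a_rc_2_2 lc_a_rc_4_2 lc_a_rc_3_2 lc_a_rc_2_2 lc_a_rc_5_0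 lc_a_rc_4_2 lc_a_rc_4_2 lc_a_rc_22_0 lc_a_rc_2_2 lc_a_rc_21_0 lc_a_rc_3_2 lc_a_rc_4_0 lc_a_rc_4_2 lc_a_rc_22_0 lc_a_rc_1_2 lc_a_rc_1_4 lc_a_rc_3_0 lc_a_rc_4_2 lc_a_rc_2_2 lc_a_rc_4_2 lc_a_rc_2_2 lc_a_rc_3_2 lc_a_rc_3_2 lc_a_rc_2_0 lc_a_rc_2_2 lc_a_rc_2_2 lc_a_rc_21_0 lc_a_rc_3_0 lc_a_rc_3_0 lc_a_rc_5_0 lc_a_rc_2_0 lc_a_rc_1_2 lc_a_rc_3_2 lc_a_rc_4_0 lc_a_rc_0_1 lc_a_rc_3_2 lc_a_rc_2_2 lc_a_rc_2_2 lc_a_rc_4_2 lc_a_rc_0_1 lc_a_rc_4_0 lc_a_rc_3_2 lc_a_rc_2_2 lc_a_rc_2_0 lc_a_rc_1_2 lc_a_rc_3_0 lc_a_rc_3_2 lc_a_rc_1_2 lc_a_rc_1_2 lc_a_rc_22_0) (@D3.rec (fun _ => (Cert rels S Gen.a)) lc_a_rc_21_0 lc_a_rc_2_0 lc_a_rc_2_0 lc_a_rc_0_1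 lc_a_rc_22_0 lc_a_rc_21_0 lc_a_rc_2_2 lc_a_rc_4_2 lc_a_rc_1_4 lc_a_rc_3_2 lc_a_rc_2_0 lc_a_rc_0_1 lc_a_rc_0_1 lc_a_rc_3_2 lc_a_rc_5_2 lc_a_rc_2_2 lc_a_rc_0_1 lc_a_rc_3_2 lc_a_rc_4_2 lc_a_rc_4_0 lc_a_rc_2_0 lc_a_rc_21_0 lc_a_rc_0_1 lc_a_rc_22_0 lc_a_rc_0_1 lc_a_rc_3_0 lc_a_rc_21_0 lc_a_rc_3_2 lc_a_rc_1_4 lc_a_rc_4_0 lc_a_rc_3_2 lc_a_rc_0_1 lc_a_rc_1_0 lc_a_rc_3_2 lc_a_rc_2_2 lc_a_rc_1_4 lc_a_rc_0_1 lc_a_rc_5_2 lc_a_rc_0_1 lc_a_rc_5_2 lc_a_rc_2_0 lc_a_rc_3_2 lc_a_rc_5_2 lc_a_rc_4_0 lc_a_rc_4_2 lc_a_rc_1_4 lc_a_rc_1_0 lc_a_rc_1_0 lc_a_rc_22_0 lc_a_rc_3_2 lc_a_rc_3_2 lc_a_rc_2_2 lc_a_rc_3_2 lc_a_rc_1_2 lc_a_rc_3_0 lc_a_rc_2_2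 lc_a_rc_5_2 lc_a_rc_2_2 lc_a_rc_3_2 lc_a_rc_1_0 lc_a_rc_0_1 lc_a_rc_2_2) (@D3.rec (fun _ => (Cert rels S Gen.a)) lc_a_rc_2_0 lc_a_rc_4_0 lc_a_rc_3_2 lc_a_rc_3_2 lc_a_rc_3_2 lc_a_rc_2_2 lc_a_rc_0_1 lc_a_rc_3_0 lc_a_rc_1_0 lc_a_rc_22_0 lc_a_rc_2_0 lc_a_rc_4_2 lc_a_rc_2_2 lc_a_rc_22_0 lc_a_rc_1_2 lc_a_rc_3_2 lc_a_rc_3_2 lc_a_rc_2_2 lc_a_rc_4_0 lc_a_rc_22_0 lc_a_rc_0_1 lc_a_rc_3_2 lc_a_rc_2_0 lc_a_rc_2_2 lc_a_rc_2_0 lc_a_rc_5_2 lc_a_rc_4_2 lc_a_rc_22_0 lc_a_rc_1_4 lc_a_rc_3_2 lc_a_rc_1_4 lc_a_rc_4_0 lc_a_rc_3_2 lc_a_rc_0_1 lc_a_rc_3_2 lc_a_rc_2_0 lc_a_rc_2_2 lc_a_rc_5_2 lc_a_rc_3_2 lc_a_rc_5_2 lc_a_rc_4_2 lc_a_rc_1_4 lc_a_rc_4_2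 lc_a_rc_2_2 lc_a_rc_3_2 lc_a_rc_3_2 lc_a_rc_0_1 lc_a_rc_4_0 lc_a_rc_3_2 lc_a_rc_1_2 lc_a_rc_1_4 lc_a_rc_3_2 lc_a_rc_1_2 lc_a_rc_3_2 lc_a_rc_4_2 lc_a_rc_4_0 lc_a_rc_3_2 lc_a_rc_3_0 lc_a_rc_4_2 lc_a_rc_2_2 lc_a_rc_1_4 lc_a_rc_4_2) (@D3.rec (fun _ => (Cert rels S Gen.a)) lc_a_rc_3_2 lc_a_rc_0_1 lc_a_rc_3_2 lc_a_rc_21_0 lc_a_rc_3_2 lc_a_rc_21_0 lc_a_rc_5_2 lc_a_rc_4_2 lc_a_rc_1_0 lc_a_rc_3_2 lc_a_rc_1_2 lc_a_rc_0_1 lc_a_rc_5_2 lc_a_rc_21_0 lc_a_rc_1_4 lc_a_rc_4_2 lc_a_rc_5_2 lc_a_rc_1_4 lc_a_rc_2_2 lc_a_rc_4_2 lc_a_rc_2_2 lc_a_rc_3_2 lc_a_rc_3_2 lc_a_rc_3_2 lc_a_rc_4_2 lc_a_rc_2_0 lc_a_rc_4_2 lc_a_rc_4_2 lc_a_rc_3_0 lc_a_rc_2_0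 lc_a_rc_4_0 lc_a_rc_3_2 lc_a_rc_2_2 lc_a_rc_3_0 lc_a_rc_3_2 lc_a_rc_4_0 lc_a_rc_4_2 lc_a_rc_0_1 lc_a_rc_4_2 lc_a_rc_5_0 lc_a_rc_3_2 lc_a_rc_0_1 lc_a_rc_4_0 lc_a_rc_2_2 lc_a_rc_3_2 lc_a_rc_4_0 lc_a_rc_3_0 lc_a_rc_21_0 lc_a_rc_0_1 lc_a_rc_3_2 lc_a_rc_3_0 lc_a_rc_2_2 lc_a_rc_5_0 lc_a_rc_4_0 lc_a_rc_3_0 lc_a_rc_3_0 lc_a_rc_21_0 lc_a_rc_2_2 lc_a_rc_2_2 lc_a_rc_21_0 lc_a_rc_22_0 lc_a_rc_21_0) (@D3.rec (fun _ => (Cert rels S Gen.a)) lc_a_rc_2_2 lc_a_rc_2_2 lc_a_rc_4_0 lc_a_rc_4_2 lc_a_rc_4_2 lc_a_rc_2_2 lc_a_rc_3_0 lc_a_rc_0_1 lc_a_rc_4_0 lc_a_rc_3_0 lc_a_rc_4_2 lc_a_Cert_tree lc_a_rc_3_2 lc_a_rc_22_0 lc_a_rc_4_0 lc_a_rc_4_0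 lc_a_rc_0_1 lc_a_rc_4_2 lc_a_rc_2_0 lc_a_rc_3_2 lc_a_rc_4_0 lc_a_rc_3_2 lc_a_rc_0_1 lc_a_rc_2_0 lc_a_rc_0_1 lc_a_rc_0_1 lc_a_rc_0_1 lc_a_rc_3_0 lc_a_rc_2_2 lc_a_rc_5_2 lc_a_rc_5_0 lc_a_rc_2_2 lc_a_rc_3_2 lc_a_rc_3_2 lc_a_rc_4_2 lc_a_rc_4_2 lc_a_rc_4_0 lc_a_rc_1_0 lc_a_rc_2_2 lc_a_rc_4_2 lc_a_rc_1_2 lc_a_rc_4_2 lc_a_rc_4_2 lc_a_rc_3_2 lc_a_rc_3_0 lc_a_rc_3_0 lc_a_rc_3_2 lc_a_rc_4_2 lc_a_rc_1_4 lc_a_rc_0_1 lc_a_rc_3_0 lc_a_rc_0_1 lc_a_rc_3_0 lc_a_rc_0_1 lc_a_rc_2_0 lc_a_rc_4_0 lc_a_rc_5_0 lc_a_rc_2_0 lc_a_rc_3_2 lc_a_rc_4_2 lc_a_rc_2_0 lc_a_rc_2_2) (@D3.rec (fun _ => (Cert rels S Gen.a)) lc_a_rc_3_0 lc_a_rc_2_0 lc_a_rc_3_2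 lc_a_rc_2_0 lc_a_rc_5_2 lc_a_rc_0_1 lc_a_rc_3_2 lc_a_rc_3_0 lc_a_rc_21_0 lc_a_rc_0_1 lc_a_rc_4_2 lc_a_rc_0_1 lc_a_rc_22_0 lc_a_rc_4_2 lc_a_rc_1_2 lc_a_rc_1_0 lc_a_rc_21_0 lc_a_rc_0_1 lc_a_rc_4_2 lc_a_rc_2_0 lc_a_rc_3_2 lc_a_rc_21_0 lc_a_rc_4_2 lc_a_rc_1_4 lc_a_rc_1_2 lc_a_rc_22_0 lc_a_rc_21_0 lc_a_rc_3_2 lc_a_rc_4_2 lc_a_rc_21_0 lc_a_rc_4_2 lc_a_rc_0_1 lc_a_rc_21_0 lc_a_rc_21_0 lc_a_rc_2_0 lc_a_rc_0_1 lc_a_rc_4_0 lc_a_rc_21_0 lc_a_rc_4_2 lc_a_rc_2_2 lc_a_rc_3_0 lc_a_rc_4_2 lc_a_rc_3_0 lc_a_rc_3_2 lc_a_rc_2_2 lc_a_rc_1_4 lc_a_rc_3_0 lc_a_rc_4_0 lc_a_rc_0_1 lc_a_rc_2_2 lc_a_rc_3_2 lc_a_rc_0_1 lc_a_rc_3_2 lc_a_rc_3_2 lc_a_rc_4_2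 lc_a_rc_4_2 lc_a_rc_3_0 lc_a_rc_4_0 lc_a_rc_3_2 lc_a_rc_0_1 lc_a_rc_1_2 lc_a_rc_21_0) (@D3.rec (fun _ => (Cert rels S Gen.a)) lc_a_rc_4_2 lc_a_rc_2_2 lc_a_rc_0_1 lc_a_rc_1_0 lc_a_rc_0_1 lc_a_rc_0_1 lc_a_rc_3_2 lc_a_rc_2_2 lc_a_rc_4_2 lc_a_rc_2_2 lc_a_rc_1_2 lc_a_rc_5_0 lc_a_rc_2_0 lc_a_rc_21_0 lc_a_rc_3_2 lc_a_rc_22_0 lc_a_rc_0_1 lc_a_rc_3_0 lc_a_rc_0_1 lc_a_rc_0_1 lc_a_rc_4_2 lc_a_rc_21_0 lc_a_rc_3_0 lc_a_rc_4_2 lc_a_rc_2_2 lc_a_rc_2_2 lc_a_rc_1_0 lc_a_rc_3_2 lc_a_rc_0_1 lc_a_rc_2_2 lc_a_rc_2_2 lc_a_rc_4_2 lc_a_rc_4_2 lc_a_rc_1_2 lc_a_rc_4_0 lc_a_rc_3_2 lc_a_rc_3_2 lc_a_rc_4_2 lc_a_rc_2_2 lc_a_rc_0_1 lc_a_rc_4_0 lc_a_rc_5_2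 lc_a_rc_3_2 lc_a_rc_2_2 lc_a_rc_0_1 lc_a_rc_21_0 lc_a_rc_3_0 lc_a_rc_2_2 lc_a_rc_21_0 lc_a_rc_3_2 lc_a_rc_21_0 lc_a_rc_0_1 lc_a_rc_2_2 lc_a_rc_3_2 lc_a_rc_4_2 lc_a_rc_4_0 lc_a_rc_4_2 lc_a_rc_4_2 lc_a_rc_0_1 lc_a_rc_2_2 lc_a_rc_1_4 lc_a_rc_21_0) (@D3.rec (fun _ => (Cert rels S Gen.a)) lc_a_rc_4_2 lc_a_rc_3_2 lc_a_rc_3_2 lc_a_rc_4_2 lc_a_rc_3_0 lc_a_rc_3_0 lc_a_rc_4_0 lc_a_rc_4_2 lc_a_rc_3_2 lc_a_rc_1_4 lc_a_rc_0_1 lc_a_rc_1_4 lc_a_rc_1_2 lc_a_rc_1_0 lc_a_rc_2_0 lc_a_rc_4_0 lc_a_rc_3_2 lc_a_rc_4_2 lc_a_rc_3_2 lc_a_rc_3_0 lc_a_rc_0_1 lc_a_rc_3_0 lc_a_rc_21_0 lc_a_rc_3_2 lc_a_rc_0_1 lc_a_rc_5_2 lc_a_rc_1_4 lc_a_rc_2_2 lc_a_rc_3_0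 lc_a_rc_2_2 lc_a_rc_2_0 lc_a_rc_21_0 lc_a_rc_4_2 lc_a_rc_21_0 lc_a_rc_2_0 lc_a_rc_3_2 lc_a_rc_22_0 lc_a_rc_3_2 lc_a_rc_22_0 lc_a_rc_3_2 lc_a_rc_2_2 lc_a_rc_2_2 lc_a_rc_4_0 lc_a_rc_4_0 lc_a_rc_3_2 lc_a_rc_21_0 lc_a_rc_2_2 lc_a_rc_1_4 lc_a_rc_4_2 lc_a_rc_4_2 lc_a_rc_1_4 lc_a_rc_3_2 lc_a_rc_21_0 lc_a_rc_2_2 lc_a_rc_1_4 lc_a_rc_0_1 lc_a_rc_0_1 lc_a_rc_3_0 lc_a_rc_21_0 lc_a_rc_0_1 lc_a_rc_5_2 lc_a_rc_21_0) (@D3.rec (fun _ => (Cert rels S Gen.a)) lc_a_rc_2_2 lc_a_rc_4_2 lc_a_rc_3_2 lc_a_rc_5_2 lc_a_rc_3_2 lc_a_rc_5_2 lc_a_rc_3_2 lc_a_rc_5_0 lc_a_rc_21_0 lc_a_rc_21_0 lc_a_rc_4_2 lc_a_rc_4_2 lc_a_rc_2_0 lc_a_rc_22_0 lc_a_rc_4_2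 lc_a_rc_2_2 lc_a_rc_2_2 lc_a_rc_5_2 lc_a_rc_0_1 lc_a_rc_2_0 lc_a_rc_3_0 lc_a_rc_5_2 lc_a_rc_1_2 lc_a_rc_3_2 lc_a_rc_4_2 lc_a_rc_2_2 lc_a_rc_4_2 lc_a_rc_2_2 lc_a_rc_4_2 lc_a_rc_1_2 lc_a_rc_2_2 lc_a_rc_4_2 lc_a_rc_4_2 lc_a_rc_2_2 lc_a_rc_3_2 lc_a_rc_0_1 lc_a_rc_5_2 lc_a_rc_1_2 lc_a_rc_2_2 lc_a_rc_1_0 lc_a_rc_3_2 lc_a_rc_5_2 lc_a_rc_3_2 lc_a_rc_4_2 lc_a_rc_2_2 lc_a_rc_4_2 lc_a_rc_2_2 lc_a_rc_4_2 lc_a_rc_5_0 lc_a_rc_22_0 lc_a_rc_5_2 lc_a_rc_5_2 lc_a_rc_1_4 lc_a_rc_22_0 lc_a_rc_4_0 lc_a_rc_21_0 lc_a_rc_2_2 lc_a_rc_5_2 lc_a_rc_0_1 lc_a_rc_2_2 lc_a_rc_3_2 lc_a_rc_21_0) (@D3.rec (fun _ => (Cert rels S Gen.a)) lc_a_rc_21_0 lc_a_rc_4_2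 lc_a_rc_4_2 lc_a_rc_1_0 lc_a_rc_0_1 lc_a_rc_1_2 lc_a_rc_4_2 lc_a_rc_5_2 lc_a_rc_4_2 lc_a_rc_21_0 lc_a_rc_3_2 lc_a_rc_5_2 lc_a_rc_1_4 lc_a_rc_4_0 lc_a_rc_4_2 lc_a_rc_0_1 lc_a_rc_3_2 lc_a_rc_2_2 lc_a_rc_3_0 lc_a_rc_2_0 lc_a_rc_2_0 lc_a_rc_3_0 lc_a_rc_2_0 lc_a_rc_4_2 lc_a_rc_3_2 lc_a_rc_2_0 lc_a_rc_2_0 lc_a_rc_2_0 lc_a_rc_0_1 lc_a_rc_22_0 lc_a_rc_4_2 lc_a_rc_2_2 lc_a_rc_3_2 lc_a_rc_4_2 lc_a_rc_2_0 lc_a_rc_0_1 lc_a_rc_3_2 lc_a_rc_4_2 lc_a_rc_4_0 lc_a_rc_0_1 lc_a_rc_3_2 lc_a_rc_2_2 lc_a_rc_3_2 lc_a_rc_3_2 lc_a_rc_2_2 lc_a_rc_3_2 lc_a_rc_4_2 lc_a_rc_0_1 lc_a_rc_3_2 lc_a_rc_21_0 lc_a_rc_5_2 lc_a_rc_4_2 lc_a_rc_4_2 lc_a_rc_3_2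 lc_a_rc_4_2 lc_a_rc_3_2 lc_a_rc_2_2 lc_a_rc_5_2 lc_a_rc_3_2 lc_a_rc_4_2 lc_a_rc_0_1 lc_a_rc_22_0) (@D3.rec (fun _ => (Cert rels S Gen.a)) lc_a_rc_2_2 lc_a_rc_2_0 lc_a_rc_2_2 lc_a_rc_3_2 lc_a_rc_3_0 lc_a_rc_3_0 lc_a_rc_3_2 lc_a_rc_2_2 lc_a_rc_5_2 lc_a_rc_21_0 lc_a_rc_4_2 lc_a_rc_3_2 lc_a_rc_3_2 lc_a_rc_4_2 lc_a_rc_22_0 lc_a_rc_4_2 lc_a_rc_5_0 lc_a_rc_4_2 lc_a_rc_3_2 lc_a_rc_3_2 lc_a_rc_2_2 lc_a_rc_3_2 lc_a_rc_4_2 lc_a_rc_0_1 lc_a_rc_21_0 lc_a_rc_2_0 lc_a_rc_5_2 lc_a_rc_1_4 lc_a_rc_3_2 lc_a_rc_3_2 lc_a_rc_0_1 lc_a_rc_5_2 lc_a_rc_2_0 lc_a_rc_2_2 lc_a_rc_1_4 lc_a_rc_4_2 lc_a_rc_3_0 lc_a_rc_0_1 lc_a_rc_5_0 lc_a_rc_2_2 lc_a_rc_3_2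 lc_a_rc_1_4 lc_a_rc_2_0 lc_a_rc_4_2 lc_a_rc_2_0 lc_a_rc_3_2 lc_a_rc_5_2 lc_a_rc_2_2 lc_a_rc_0_1 lc_a_rc_0_1 lc_a_rc_2_0 lc_a_rc_1_2 lc_a_rc_4_2 lc_a_rc_5_2 lc_a_Cert_tree lc_a_rc_4_2 lc_a_rc_21_0 lc_a_rc_3_2 lc_a_rc_5_2 lc_a_rc_4_2 lc_a_rc_3_2 lc_a_rc_3_2) (@D3.rec (fun _ => (Cert rels S Gen.a)) lc_a_rc_2_2 lc_a_rc_2_2 lc_a_rc_4_2 lc_a_rc_4_0 lc_a_rc_3_0 lc_a_rc_3_2 lc_a_rc_3_2 lc_a_rc_4_2 lc_a_rc_4_2 lc_a_rc_0_1 lc_a_rc_3_0 lc_a_rc_3_2 lc_a_rc_2_0 lc_a_rc_2_2 lc_a_rc_2_0 lc_a_rc_5_0 lc_a_rc_4_2 lc_a_rc_4_0 lc_a_rc_4_0 lc_a_rc_5_2 lc_a_rc_4_2 lc_a_rc_1_2 lc_a_rc_2_0 lc_a_rc_3_2 lc_a_rc_1_4 lc_a_rc_4_2 lc_a_rc_2_0 lc_a_rc_3_2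 lc_a_rc_1_4 lc_a_rc_4_2 lc_a_rc_2_0 lc_a_rc_0_1 lc_a_rc_2_2 lc_a_rc_2_0 lc_a_rc_3_0 lc_a_rc_1_4 lc_a_rc_4_2 lc_a_rc_21_0 lc_a_rc_1_4 lc_a_rc_21_0 lc_a_rc_1_4 lc_a_rc_3_0 lc_a_rc_3_2 lc_a_rc_2_0 lc_a_rc_4_2 lc_a_rc_2_2 lc_a_rc_0_1 lc_a_rc_3_0 lc_a_rc_4_0 lc_a_rc_0_1 lc_a_rc_4_2 lc_a_rc_2_0 lc_a_rc_2_0 lc_a_rc_4_0 lc_a_rc_5_2 lc_a_rc_2_0 lc_a_rc_0_1 lc_a_rc_2_2 lc_a_rc_0_1 lc_a_rc_3_2 lc_a_rc_4_2 lc_a_rc_3_0) (@D3.rec (fun _ => (Cert rels S Gen.a)) lc_a_rc_2_2 lc_a_rc_2_2 lc_a_rc_21_0 lc_a_rc_3_2 lc_a_rc_2_2 lc_a_rc_4_2 lc_a_rc_0_1 lc_a_rc_2_2 lc_a_rc_4_2 lc_a_rc_2_0 lc_a_rc_0_1 lc_a_rc_3_0 lc_a_rc_5_0 lc_a_rc_0_1 lc_a_rc_3_2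 lc_a_rc_2_2 lc_a_rc_4_2 lc_a_rc_2_2 lc_a_rc_3_2 lc_a_rc_21_0 lc_a_rc_2_2 lc_a_rc_2_2 lc_a_rc_5_0 lc_a_rc_5_2 lc_a_rc_0_1 lc_a_rc_0_1 lc_a_rc_0_1 lc_a_rc_3_2 lc_a_rc_2_2 lc_a_rc_4_2 lc_a_Cert_tree lc_a_rc_3_2 lc_a_rc_4_2 lc_a_rc_21_0 lc_a_rc_4_2 lc_a_rc_1_2 lc_a_rc_2_0 lc_a_rc_1_2 lc_a_rc_0_1 lc_a_rc_21_0 lc_a_rc_4_0 lc_a_rc_2_2 lc_a_rc_3_2 lc_a_rc_4_0 lc_a_rc_4_2 lc_a_rc_4_2 lc_a_rc_2_0 lc_a_rc_3_2 lc_a_rc_4_2 lc_a_rc_2_2 lc_a_rc_21_0 lc_a_rc_0_1 lc_a_rc_1_2 lc_a_rc_2_2 lc_a_rc_4_2 lc_a_rc_0_1 lc_a_rc_21_0 lc_a_rc_4_2 lc_a_rc_22_0 lc_a_rc_2_2 lc_a_rc_2_2 lc_a_rc_4_2) (@D3.rec (fun _ => (Cert rels S Gen.a)) lc_a_rc_21_0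 lc_a_rc_3_2 lc_a_rc_4_2 lc_a_rc_3_2 lc_a_rc_3_2 lc_a_rc_4_2 lc_a_rc_2_0 lc_a_rc_21_0 lc_a_rc_5_2 lc_a_rc_4_2 lc_a_rc_2_0 lc_a_rc_4_2 lc_a_rc_3_0 lc_a_rc_4_2 lc_a_rc_4_2 lc_a_rc_3_2 lc_a_rc_3_2 lc_a_rc_2_2 lc_a_rc_1_4 lc_a_rc_4_2 lc_a_rc_0_1 lc_a_rc_0_1 lc_a_rc_0_1 lc_a_rc_22_0 lc_a_rc_3_2 lc_a_rc_4_2 lc_a_rc_4_2 lc_a_rc_0_1 lc_a_rc_22_0 lc_a_rc_1_4 lc_a_rc_4_2 lc_a_rc_3_2 lc_a_rc_4_2 lc_a_rc_3_2 lc_a_rc_3_2 lc_a_rc_2_2 lc_a_rc_1_2 lc_a_rc_3_2 lc_a_rc_1_2 lc_a_rc_22_0 lc_a_rc_0_1 lc_a_rc_4_2 lc_a_rc_2_2 lc_a_rc_3_2 lc_a_rc_1_0 lc_a_rc_0_1 lc_a_rc_3_2 lc_a_rc_3_2 lc_a_rc_0_1 lc_a_rc_2_2 lc_a_rc_0_1 lc_a_rc_1_4 lc_a_rc_1_4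 lc_a_rc_3_2 lc_a_rc_21_0 lc_a_rc_4_2 lc_a_rc_3_2 lc_a_rc_1_2 lc_a_rc_3_2 lc_a_rc_4_2 lc_a_rc_3_2 lc_a_rc_2_2) (@D3.rec (fun _ => (Cert rels S Gen.a)) lc_a_rc_5_0 lc_a_rc_3_2 lc_a_rc_2_0 lc_a_rc_3_2 lc_a_rc_3_2 lc_a_rc_2_0 lc_a_rc_21_0 lc_a_rc_2_2 lc_a_rc_1_2 lc_a_rc_1_4 lc_a_rc_0_1 lc_a_rc_22_0 lc_a_rc_3_2 lc_a_rc_3_0 lc_a_rc_4_2 lc_a_rc_4_2 lc_a_rc_5_0 lc_a_rc_3_2 lc_a_rc_3_2 lc_a_rc_3_2 lc_a_rc_4_2 lc_a_rc_1_4 lc_a_rc_4_2 lc_a_rc_0_1 lc_a_rc_3_2 lc_a_rc_2_2 lc_a_rc_0_1 lc_a_rc_2_2 lc_a_rc_1_4 lc_a_rc_0_1 lc_a_rc_2_0 lc_a_rc_3_2 lc_a_rc_4_2 lc_a_rc_3_2 lc_a_rc_5_0 lc_a_rc_4_2 lc_a_rc_2_2 lc_a_rc_4_2 lc_a_rc_3_2 lc_a_rc_21_0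 lc_a_rc_1_4 lc_a_rc_1_4 lc_a_rc_3_2 lc_a_rc_21_0 lc_a_rc_1_4 lc_a_rc_2_0 lc_a_rc_0_1 lc_a_rc_4_2 lc_a_rc_0_1 lc_a_rc_5_2 lc_a_rc_2_2 lc_a_rc_2_0 lc_a_rc_0_1 lc_a_rc_5_2 lc_a_rc_3_2 lc_a_rc_5_2 lc_a_rc_1_4 lc_a_rc_0_1 lc_a_rc_0_1 lc_a_rc_1_4 lc_a_rc_0_1 lc_a_rc_21_0) (@D3.rec (fun _ => (Cert rels S Gen.a)) lc_a_rc_21_0 lc_a_rc_2_0 lc_a_rc_4_2 lc_a_rc_1_4 lc_a_rc_4_2 lc_a_rc_2_2 lc_a_rc_3_2 lc_a_rc_0_1 lc_a_rc_0_1 lc_a_rc_4_2 lc_a_rc_4_2 lc_a_rc_2_2 lc_a_rc_3_2 lc_a_rc_3_0 lc_a_rc_2_0 lc_a_rc_3_2 lc_a_rc_2_2 lc_a_rc_5_2 lc_a_rc_1_4 lc_a_rc_0_1 lc_a_rc_2_0 lc_a_rc_1_2 lc_a_rc_21_0 lc_a_rc_3_0 lc_a_rc_0_1 lc_a_rc_2_2 lc_a_rc_1_2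 lc_a_rc_0_1 lc_a_rc_2_0 lc_a_rc_21_0 lc_a_rc_2_2 lc_a_rc_2_2 lc_a_rc_2_2 lc_a_rc_3_2 lc_a_rc_2_2 lc_a_rc_0_1 lc_a_rc_4_2 lc_a_rc_1_2 lc_a_rc_22_0 lc_a_rc_2_0 lc_a_rc_1_2 lc_a_rc_22_0 lc_a_rc_4_2 lc_a_rc_5_2 lc_a_rc_3_2 lc_a_rc_4_2 lc_a_rc_5_2 lc_a_rc_3_2 lc_a_rc_4_2 lc_a_rc_3_2 lc_a_rc_22_0 lc_a_rc_2_2 lc_a_rc_21_0 lc_a_rc_21_0 lc_a_rc_4_2 lc_a_rc_3_2 lc_a_rc_2_2 lc_a_rc_3_2 lc_a_rc_4_2 lc_a_rc_1_2 lc_a_rc_2_2 lc_a_rc_4_2) (@D3.rec (fun _ => (Cert rels S Gen.a)) lc_a_rc_22_0 lc_a_rc_21_0 lc_a_rc_4_2 lc_a_rc_3_2 lc_a_rc_1_4 lc_a_rc_2_0 lc_a_rc_1_4 lc_a_rc_3_2 lc_a_rc_5_0 lc_a_Cert_tree lc_a_rc_1_2 lc_a_rc_4_2 lc_a_rc_2_2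 lc_a_rc_2_2 lc_a_rc_2_2 lc_a_rc_4_2 lc_a_rc_4_2 lc_a_rc_21_0 lc_a_rc_2_2 lc_a_rc_22_0 lc_a_rc_5_0 lc_a_rc_0_1 lc_a_rc_4_2 lc_a_rc_2_2 lc_a_rc_2_0 lc_a_rc_4_2 lc_a_rc_2_2 lc_a_rc_21_0 lc_a_rc_4_2 lc_a_rc_3_2 lc_a_rc_22_0 lc_a_rc_3_2 lc_a_rc_2_2 lc_a_rc_21_0 lc_a_rc_21_0 lc_a_rc_3_2 lc_a_rc_2_2 lc_a_rc_3_0 lc_a_rc_0_1 lc_a_rc_4_2 lc_a_rc_1_4 lc_a_rc_5_0 lc_a_rc_5_0 lc_a_rc_0_1 lc_a_rc_21_0 lc_a_rc_5_0 lc_a_rc_3_2 lc_a_rc_3_0 lc_a_rc_2_0 lc_a_rc_5_2 lc_a_rc_4_2 lc_a_rc_2_0 lc_a_rc_5_2 lc_a_rc_1_2 lc_a_rc_1_4 lc_a_rc_4_2 lc_a_rc_5_2 lc_a_rc_2_0 lc_a_rc_0_1 lc_a_rc_1_0 lc_a_rc_2_2 lc_a_rc_5_2) (@D3.rec (fun _ => (Cert rels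 S Gen.a)) lc_a_rc_3_2 lc_a_rc_2_0 lc_a_rc_2_0 lc_a_rc_2_2 lc_a_rc_5_0 lc_a_rc_5_0 lc_a_rc_5_2 lc_a_rc_4_2 lc_a_rc_1_4 lc_a_rc_2_0 lc_a_rc_2_2 lc_a_rc_4_0 lc_a_rc_1_2 lc_a_rc_4_2 lc_a_rc_3_2 lc_a_rc_1_2 lc_a_rc_4_2 lc_a_rc_4_2 lc_a_rc_4_2 lc_a_rc_1_4 lc_a_rc_0_1 lc_a_rc_3_0 lc_a_rc_4_2 lc_a_rc_4_2 lc_a_rc_4_2 lc_a_rc_4_2 lc_a_rc_0_1 lc_a_rc_1_2 lc_a_rc_0_1 lc_a_rc_2_2 lc_a_rc_5_0 lc_a_rc_3_2 lc_a_rc_2_2 lc_a_rc_21_0 lc_a_rc_3_2 lc_a_rc_21_0 lc_a_rc_3_2 lc_a_rc_3_0 lc_a_rc_2_2 lc_a_rc_3_0 lc_a_rc_3_2 lc_a_rc_3_2 lc_a_Cert_tree lc_a_rc_2_2 lc_a_rc_21_0 lc_a_rc_4_2 lc_a_rc_4_2 lc_a_rc_3_2 lc_a_rc_3_2 lc_a_rc_1_2 lc_a_rc_4_2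 lc_a_rc_2_2 lc_a_rc_3_0 lc_a_rc_3_0 lc_a_rc_4_2 lc_a_rc_21_0 lc_a_rc_4_2 lc_a_rc_4_2 lc_a_rc_0_1 lc_a_rc_3_2 lc_a_rc_0_1 lc_a_rc_3_2) (@D3.rec (fun _ => (Cert rels S Gen.a)) lc_a_rc_1_4 lc_a_rc_1_2 lc_a_rc_2_2 lc_a_rc_21_0 lc_a_rc_3_2 lc_a_rc_4_2 lc_a_rc_3_0 lc_a_rc_5_2 lc_a_rc_4_2 lc_a_rc_4_2 lc_a_rc_3_2 lc_a_rc_4_2 lc_a_rc_3_2 lc_a_rc_0_1 lc_a_rc_3_2 lc_a_rc_3_0 lc_a_rc_4_2 lc_a_rc_21_0 lc_a_rc_22_0 lc_a_rc_3_2 lc_a_rc_5_2 lc_a_rc_4_2 lc_a_rc_3_2 lc_a_rc_5_2 lc_a_rc_0_1 lc_a_rc_1_0 lc_a_rc_2_2 lc_a_rc_21_0 lc_a_rc_5_2 lc_a_rc_4_2 lc_a_rc_0_1 lc_a_rc_4_2 lc_a_rc_3_0 lc_a_rc_1_0 lc_a_rc_4_2 lc_a_rc_5_2 lc_a_rc_4_2 lc_a_rc_4_2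 lc_a_rc_2_2 lc_a_rc_4_2 lc_a_rc_3_2 lc_a_rc_0_1 lc_a_rc_3_2 lc_a_rc_3_2 lc_a_rc_0_1 lc_a_rc_3_2 lc_a_rc_2_2 lc_a_rc_5_2 lc_a_rc_5_0 lc_a_rc_21_0 lc_a_rc_3_0 lc_a_rc_4_0 lc_a_rc_2_2 lc_a_rc_2_0 lc_a_rc_4_0 lc_a_rc_21_0 lc_a_rc_2_0 lc_a_rc_3_2 lc_a_rc_0_1 lc_a_rc_21_0 lc_a_rc_0_1 lc_a_rc_2_2) (@D3.rec (fun _ => (Cert rels S Gen.a)) lc_a_rc_21_0 lc_a_rc_1_2 lc_a_rc_3_2 lc_a_rc_4_2 lc_a_rc_4_2 lc_a_rc_2_2 lc_a_rc_3_2 lc_a_rc_5_0 lc_a_rc_4_0 lc_a_rc_3_2 lc_a_rc_2_2 lc_a_rc_21_0 lc_a_rc_4_2 lc_a_rc_0_1 lc_a_rc_4_2 lc_a_rc_4_2 lc_a_rc_3_2 lc_a_rc_1_2 lc_a_rc_1_2 lc_a_rc_4_2 lc_a_rc_21_0 lc_a_rc_4_2 lc_a_rc_2_2 lc_a_rc_0_1 lc_a_rc_21_0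 lc_a_rc_5_2 lc_a_rc_0_1 lc_a_rc_4_2 lc_a_rc_3_2 lc_a_rc_4_2 lc_a_rc_3_0 lc_a_rc_2_2 lc_a_rc_21_0 lc_a_rc_2_2 lc_a_rc_1_2 lc_a_rc_5_0 lc_a_rc_0_1 lc_a_rc_22_0 lc_a_rc_0_1 lc_a_rc_2_0 lc_a_rc_4_2 lc_a_rc_3_2 lc_a_rc_2_0 lc_a_rc_3_2 lc_a_rc_0_1 lc_a_rc_0_1 lc_a_rc_1_2 lc_a_rc_2_2 lc_a_rc_4_2 lc_a_rc_4_0 lc_a_rc_0_1 lc_a_rc_4_2 lc_a_rc_5_2 lc_a_rc_3_2 lc_a_rc_0_1 lc_a_rc_4_0 lc_a_rc_4_0 lc_a_rc_1_2 lc_a_rc_21_0 lc_a_rc_2_2 lc_a_rc_2_0 lc_a_rc_3_2) (@D3.rec (fun _ => (Cert rels S Gen.a)) lc_a_rc_3_2 lc_a_rc_3_2 lc_a_rc_2_2 lc_a_rc_21_0 lc_a_rc_21_0 lc_a_rc_0_1 lc_a_rc_3_2 lc_a_rc_1_4 lc_a_rc_4_2 lc_a_rc_2_2 lc_a_rc_3_2 lc_a_rc_2_2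 lc_a_rc_22_0 lc_a_rc_3_2 lc_a_rc_21_0 lc_a_rc_4_2 lc_a_rc_3_0 lc_a_rc_4_0 lc_a_rc_0_1 lc_a_rc_0_1 lc_a_rc_1_0 lc_a_rc_0_1 lc_a_rc_1_4 lc_a_rc_1_0 lc_a_rc_22_0 lc_a_rc_2_0 lc_a_rc_4_2 lc_a_rc_4_2 lc_a_rc_1_0 lc_a_rc_0_1 lc_a_rc_5_2 lc_a_rc_2_2 lc_a_rc_0_1 lc_a_rc_3_2 lc_a_rc_4_2 lc_a_rc_2_0 lc_a_rc_4_2 lc_a_rc_2_2 lc_a_rc_4_2 lc_a_rc_3_2 lc_a_rc_1_4 lc_a_rc_2_0 lc_a_rc_3_2 lc_a_rc_1_2 lc_a_rc_21_0 lc_a_rc_3_2 lc_a_rc_3_2 lc_a_rc_3_2 lc_a_rc_3_2 lc_a_rc_3_2 lc_a_rc_5_0 lc_a_rc_2_2 lc_a_rc_4_2 lc_a_rc_3_2 lc_a_rc_4_2 lc_a_rc_1_4 lc_a_rc_3_2 lc_a_rc_2_2 lc_a_rc_4_2 lc_a_rc_3_0 lc_a_rc_4_2 lc_a_rc_5_2) (@D3.rec (fun _ => (Cert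 rels S Gen.a)) lc_a_rc_0_1 lc_a_rc_5_0 lc_a_rc_5_0 lc_a_rc_0_1 lc_a_rc_0_1 lc_a_rc_0_1 lc_a_rc_0_1 lc_a_rc_21_0 lc_a_rc_2_2 lc_a_rc_1_4 lc_a_rc_2_2 lc_a_rc_2_2 lc_a_rc_3_2 lc_a_rc_21_0 lc_a_rc_0_1 lc_a_rc_3_2 lc_a_rc_2_2 lc_a_rc_2_2 lc_a_rc_21_0 lc_a_rc_1_4 lc_a_rc_22_0 lc_a_rc_0_1 lc_a_rc_4_2 lc_a_rc_1_0 lc_a_rc_2_2 lc_a_rc_4_2 lc_a_rc_21_0 lc_a_rc_3_2 lc_a_rc_2_0 lc_a_rc_21_0 lc_a_rc_0_1 lc_a_rc_3_2 lc_a_rc_5_0 lc_a_rc_4_2 lc_a_rc_3_2 lc_a_rc_2_2 lc_a_rc_3_2 lc_a_rc_2_2 lc_a_rc_3_2 lc_a_rc_3_0 lc_a_rc_2_2 lc_a_rc_3_2 lc_a_rc_4_2 lc_a_rc_3_2 lc_a_rc_2_0 lc_a_rc_3_0 lc_a_rc_3_2 lc_a_rc_3_0 lc_a_rc_5_2 lc_a_rc_0_1 lc_a_rc_0_1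 lc_a_rc_4_0 lc_a_rc_0_1 lc_a_rc_3_2 lc_a_rc_4_0 lc_a_rc_2_0 lc_a_rc_1_2 lc_a_rc_5_2 lc_a_rc_4_2 lc_a_rc_5_2 lc_a_rc_2_0 lc_a_rc_1_4) (@D3.rec (fun _ => (Cert rels S Gen.a)) lc_a_rc_2_2 lc_a_rc_21_0 lc_a_rc_2_0 lc_a_rc_3_2 lc_a_rc_2_0 lc_a_rc_2_2 lc_a_rc_2_0 lc_a_rc_3_0 lc_a_rc_2_0 lc_a_rc_3_2 lc_a_rc_5_0 lc_a_rc_21_0 lc_a_rc_3_2 lc_a_rc_22_0 lc_a_rc_4_0 lc_a_rc_3_0 lc_a_rc_4_2 lc_a_rc_4_0 lc_a_rc_3_2 lc_a_rc_2_2 lc_a_rc_0_1 lc_a_rc_3_2 lc_a_rc_2_2 lc_a_rc_21_0 lc_a_rc_3_2 lc_a_rc_21_0 lc_a_rc_2_0 lc_a_rc_5_2 lc_a_rc_0_1 lc_a_rc_2_2 lc_a_rc_2_2 lc_a_rc_5_2 lc_a_rc_2_0 lc_a_rc_4_0 lc_a_rc_2_0 lc_a_rc_2_2 lc_a_rc_2_0 lc_a_rc_4_0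 lc_a_rc_4_0 lc_a_rc_3_0 lc_a_rc_4_0 lc_a_rc_3_0 lc_a_rc_21_0 lc_a_rc_3_2 lc_a_rc_2_2 lc_a_rc_3_2 lc_a_rc_0_1 lc_a_rc_3_2 lc_a_rc_2_0 lc_a_rc_2_0 lc_a_rc_1_2 lc_a_rc_5_2 lc_a_rc_2_2 lc_a_rc_1_0 lc_a_rc_2_2 lc_a_rc_3_2 lc_a_rc_0_1 lc_a_rc_2_2 lc_a_rc_21_0 lc_a_rc_2_2 lc_a_rc_22_0 lc_a_rc_4_2) (@D3.rec (fun _ => (Cert rels S Gen.a)) lc_a_rc_3_2 lc_a_rc_0_1 lc_a_rc_0_1 lc_a_rc_2_0 lc_a_rc_2_0 lc_a_rc_3_2 lc_a_rc_3_2 lc_a_rc_4_2 lc_a_rc_2_2 lc_a_rc_3_0 lc_a_rc_3_0 lc_a_rc_4_0 lc_a_rc_2_2 lc_a_rc_3_2 lc_a_rc_2_2 lc_a_rc_2_2 lc_a_rc_3_0 lc_a_rc_2_2 lc_a_rc_21_0 lc_a_rc_3_2 lc_a_rc_3_2 lc_a_rc_21_0 lc_a_rc_0_1 lc_a_rc_2_0 lc_a_rc_4_2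 lc_a_rc_2_2 lc_a_rc_1_4 lc_a_rc_21_0 lc_a_rc_4_2 lc_a_rc_21_0 lc_a_rc_4_2 lc_a_rc_0_1 lc_a_rc_4_2 lc_a_rc_3_2 lc_a_rc_4_2 lc_a_rc_2_2 lc_a_rc_3_2 lc_a_rc_4_2 lc_a_rc_5_2 lc_a_rc_0_1 lc_a_rc_4_2 lc_a_rc_0_1 lc_a_rc_1_0 lc_a_rc_4_2 lc_a_rc_1_2 lc_a_rc_3_2 lc_a_rc_1_0 lc_a_rc_21_0 lc_a_rc_4_0 lc_a_rc_2_2 lc_a_rc_2_2 lc_a_rc_3_0 lc_a_rc_0_1 lc_a_rc_2_0 lc_a_rc_1_4 lc_a_rc_1_0 lc_a_rc_3_2 lc_a_rc_3_0 lc_a_rc_1_4 lc_a_rc_4_2 lc_a_rc_0_1 lc_a_rc_3_2)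
def ce_a_30 : D2 → D3 → (Cert rels S Gen.a) := @D2.rec (fun _ => D3 → (Cert rels S Gen.a)) (@D3.rec (fun _ => (Cert rels S Gen.a)) lc_a_rc_1_4 lc_a_rc_2_2 lc_a_rc_2_0 lc_a_rc_2_2 lc_a_rc_0_1 lc_a_rc_3_2 lc_a_rc_2_2 lc_a_rc_2_0 lc_a_rc_0_1 lc_a_rc_1_2 lc_a_rc_2_2 lc_a_rc_4_2 lc_a_rc_3_2 lc_a_rc_2_2 lc_a_rc_2_2 lc_a_rc_2_2 lc_a_rc_1_4 lc_a_rc_3_0 lc_a_rc_0_1 lc_a_rc_3_0 lc_a_rc_3_2 lc_a_rc_2_2 lc_a_rc_4_2 lc_a_rc_3_2 lc_a_rc_5_2 lc_a_rc_3_2 lc_a_rc_2_0 lc_a_rc_3_2 lc_a_rc_3_2 lc_a_rc_1_2 lc_a_rc_2_2 lc_a_rc_2_0 lc_a_rc_0_1 lc_a_rc_2_2 lc_a_rc_5_2 lc_a_rc_2_2 lc_a_rc_1_4 lc_a_rc_3_2 lc_a_rc_4_2 lc_a_rc_4_2 lc_a_rc_0_1 lc_a_rc_3_2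 lc_a_rc_21_0 lc_a_rc_2_2 lc_a_rc_4_0 lc_a_rc_5_2 lc_a_rc_3_2 lc_a_rc_2_2 lc_a_rc_1_4 lc_a_rc_22_0 lc_a_rc_4_0 lc_a_rc_1_0 lc_a_rc_21_0 lc_a_rc_5_2 lc_a_rc_3_2 lc_a_rc_2_2 lc_a_rc_4_2 lc_a_rc_4_2 lc_a_rc_2_0 lc_a_rc_2_2 lc_a_rc_2_2 lc_a_rc_2_2) (@D3.rec (fun _ => (Cert rels S Gen.a)) lc_a_rc_4_2 lc_a_rc_3_2 lc_a_rc_1_4 lc_a_rc_3_0 lc_a_rc_2_2 lc_a_rc_5_0 lc_a_rc_5_2 lc_a_rc_1_4 lc_a_rc_0_1 lc_a_rc_0_1 lc_a_rc_2_0 lc_a_rc_0_1 lc_a_rc_4_2 lc_a_rc_5_2 lc_a_rc_4_2 lc_a_rc_2_2 lc_a_rc_5_2 lc_a_rc_1_0 lc_a_rc_0_1 lc_a_rc_3_2 lc_a_rc_2_2 lc_a_rc_3_2 lc_a_rc_4_2 lc_a_rc_0_1 lc_a_rc_0_1 lc_a_rc_4_0 lc_a_rc_22_0 lc_a_rc_3_2 lc_a_rc_3_2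 lc_a_rc_3_2 lc_a_rc_3_0 lc_a_rc_2_2 lc_a_rc_4_2 lc_a_rc_1_2 lc_a_rc_0_1 lc_a_rc_5_0 lc_a_rc_5_2 lc_a_rc_4_2 lc_a_rc_21_0 lc_a_rc_0_1 lc_a_rc_21_0 lc_a_rc_4_2 lc_a_rc_3_2 lc_a_rc_1_4 lc_a_rc_21_0 lc_a_rc_4_2 lc_a_rc_3_2 lc_a_rc_0_1 lc_a_rc_3_2 lc_a_rc_2_2 lc_a_rc_2_2 lc_a_rc_4_2 lc_a_rc_0_1 lc_a_rc_0_1 lc_a_rc_2_2 lc_a_rc_5_0 lc_a_rc_2_2 lc_a_rc_21_0 lc_a_rc_3_2 lc_a_rc_1_2 lc_a_rc_3_2 lc_a_rc_4_0) (@D3.rec (fun _ => (Cert rels S Gen.a)) lc_a_rc_1_4 lc_a_rc_4_0 lc_a_rc_0_1 lc_a_rc_1_2 lc_a_rc_3_2 lc_a_rc_4_2 lc_a_rc_0_1 lc_a_rc_0_1 lc_a_rc_22_0 lc_a_rc_2_2 lc_a_rc_2_2 lc_a_rc_5_0 lc_a_rc_21_0 lc_a_rc_3_2 lc_a_rc_0_1 lc_a_rc_2_2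 lc_a_rc_2_0 lc_a_rc_1_2 lc_a_rc_0_1 lc_a_rc_3_2 lc_a_rc_5_2 lc_a_rc_2_2 lc_a_rc_0_1 lc_a_rc_0_1 lc_a_rc_2_0 lc_a_rc_2_2 lc_a_rc_1_4 lc_a_rc_2_2 lc_a_rc_1_2 lc_a_rc_1_2 lc_a_rc_4_2 lc_a_rc_3_2 lc_a_rc_22_0 lc_a_rc_3_2 lc_a_rc_3_0 lc_a_rc_3_2 lc_a_rc_0_1 lc_a_rc_2_2 lc_a_rc_3_2 lc_a_rc_4_2 lc_a_rc_5_2 lc_a_rc_4_0 lc_a_rc_2_0 lc_a_rc_4_2 lc_a_rc_2_2 lc_a_rc_21_0 lc_a_rc_3_2 lc_a_rc_3_0 lc_a_rc_3_2 lc_a_rc_2_2 lc_a_rc_3_0 lc_a_rc_4_2 lc_a_rc_4_2 lc_a_rc_21_0 lc_a_rc_4_2 lc_a_rc_3_2 lc_a_rc_3_2 lc_a_rc_3_2 lc_a_rc_2_0 lc_a_rc_3_2 lc_a_rc_4_2 lc_a_rc_4_0) (@D3.rec (fun _ => (Cert rels S Gen.a)) lc_a_rc_21_0 lc_a_rc_2_2 lc_a_rc_2_0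 lc_a_rc_3_2 lc_a_rc_2_2 lc_a_rc_2_2 lc_a_rc_5_2 lc_a_rc_2_2 lc_a_rc_2_2 lc_a_rc_1_2 lc_a_rc_3_2 lc_a_rc_5_2 lc_a_rc_1_2 lc_a_rc_21_0 lc_a_rc_0_1 lc_a_rc_3_2 lc_a_rc_5_2 lc_a_rc_5_2 lc_a_rc_2_2 lc_a_rc_2_0 lc_a_rc_2_0 lc_a_rc_1_4 lc_a_rc_4_2 lc_a_rc_5_2 lc_a_rc_3_2 lc_a_rc_2_0 lc_a_rc_1_4 lc_a_rc_2_2 lc_a_rc_0_1 lc_a_rc_3_0 lc_a_rc_0_1 lc_a_rc_3_0 lc_a_rc_3_0 lc_a_rc_1_0 lc_a_rc_3_2 lc_a_rc_3_0 lc_a_rc_2_2 lc_a_rc_4_2 lc_a_rc_2_2 lc_a_rc_3_2 lc_a_rc_2_0 lc_a_rc_22_0 lc_a_rc_1_4 lc_a_rc_0_1 lc_a_rc_2_0 lc_a_rc_4_0 lc_a_rc_0_1 lc_a_rc_2_0 lc_a_rc_2_2 lc_a_rc_4_2 lc_a_rc_1_4 lc_a_rc_3_0 lc_a_rc_1_4 lc_a_rc_2_2 lc_a_rc_2_2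 lc_a_rc_1_4 lc_a_rc_4_2 lc_a_rc_4_0 lc_a_rc_2_2 lc_a_rc_2_0 lc_a_rc_3_0 lc_a_rc_3_2) (@D3.rec (fun _ => (Cert rels S Gen.a)) lc_a_rc_3_2 lc_a_rc_0_1 lc_a_rc_1_2 lc_a_rc_1_0 lc_a_rc_3_2 lc_a_rc_21_0 lc_a_rc_4_2 lc_a_rc_2_0 lc_a_rc_2_2 lc_a_rc_2_2 lc_a_rc_2_0 lc_a_rc_1_0 lc_a_rc_1_4 lc_a_rc_1_4 lc_a_rc_3_0 lc_a_rc_3_2 lc_a_rc_3_0 lc_a_rc_2_2 lc_a_rc_4_2 lc_a_rc_2_2 lc_a_rc_4_0 lc_a_rc_0_1 lc_a_rc_0_1 lc_a_rc_3_2 lc_a_rc_0_1 lc_a_rc_0_1 lc_a_rc_4_2 lc_a_rc_3_2 lc_a_rc_22_0 lc_a_rc_3_2 lc_a_rc_22_0 lc_a_rc_3_2 lc_a_rc_3_2 lc_a_rc_3_2 lc_a_rc_5_2 lc_a_rc_3_2 lc_a_rc_2_2 lc_a_rc_5_2 lc_a_rc_2_2 lc_a_rc_2_2 lc_a_rc_2_2 lc_a_rc_3_0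 lc_a_rc_2_2 lc_a_rc_3_2 lc_a_rc_2_2 lc_a_rc_3_2 lc_a_rc_2_2 lc_a_rc_4_2 lc_a_rc_2_0 lc_a_rc_4_0 lc_a_rc_1_2 lc_a_rc_1_0 lc_a_rc_3_2 lc_a_rc_21_0 lc_a_rc_4_0 lc_a_rc_3_2 lc_a_rc_4_2 lc_a_rc_3_2 lc_a_rc_4_2 lc_a_rc_1_0 lc_a_rc_2_2 lc_a_rc_22_0) (@D3.rec (fun _ => (Cert rels S Gen.a)) lc_a_rc_2_2 lc_a_rc_2_2 lc_a_rc_0_1 lc_a_rc_3_2 lc_a_rc_22_0 lc_a_rc_2_2 lc_a_rc_21_0 lc_a_rc_4_2 lc_a_rc_5_2 lc_a_rc_2_2 lc_a_rc_4_2 lc_a_rc_2_0 lc_a_rc_4_2 lc_a_rc_4_2 lc_a_rc_2_0 lc_a_rc_1_4 lc_a_rc_0_1 lc_a_rc_21_0 lc_a_rc_0_1 lc_a_rc_5_2 lc_a_rc_0_1 lc_a_rc_2_2 lc_a_rc_3_2 lc_a_rc_4_2 lc_a_rc_2_2 lc_a_rc_3_2 lc_a_rc_5_2 lc_a_rc_0_1 lc_a_rc_2_0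 lc_a_rc_21_0 lc_a_rc_3_2 lc_a_rc_2_0 lc_a_rc_3_2 lc_a_rc_1_0 lc_a_rc_0_1 lc_a_rc_3_2 lc_a_rc_4_0 lc_a_rc_1_2 lc_a_rc_4_2 lc_a_rc_4_0 lc_a_rc_5_2 lc_a_rc_0_1 lc_a_rc_4_2 lc_a_rc_2_2 lc_a_rc_4_0 lc_a_rc_5_2 lc_a_rc_4_0 lc_a_rc_4_2 lc_a_rc_1_0 lc_a_rc_0_1 lc_a_rc_3_2 lc_a_rc_4_2 lc_a_rc_21_0 lc_a_rc_5_2 lc_a_rc_4_2 lc_a_rc_2_2 lc_a_rc_2_2 lc_a_rc_4_0 lc_a_rc_4_2 lc_a_rc_4_0 lc_a_rc_2_0 lc_a_rc_4_2) (@D3.rec (fun _ => (Cert rels S Gen.a)) lc_a_rc_0_1 lc_a_rc_4_2 lc_a_rc_4_2 lc_a_rc_2_2 lc_a_rc_5_2 lc_a_rc_1_0 lc_a_rc_3_2 lc_a_rc_4_2 lc_a_rc_2_2 lc_a_rc_22_0 lc_a_rc_3_2 lc_a_rc_1_0 lc_a_rc_1_2 lc_a_rc_2_2 lc_a_rc_1_2 lc_a_rc_5_2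 lc_a_rc_0_1 lc_a_rc_2_2 lc_a_rc_3_2 lc_a_rc_1_4 lc_a_rc_3_2 lc_a_rc_3_2 lc_a_rc_2_2 lc_a_rc_0_1 lc_a_rc_0_1 lc_a_rc_4_2 lc_a_rc_3_0 lc_a_rc_3_2 lc_a_rc_4_0 lc_a_rc_0_1 lc_a_rc_3_0 lc_a_rc_2_2 lc_a_rc_0_1 lc_a_rc_3_2 lc_a_rc_3_2 lc_a_rc_3_2 lc_a_rc_2_2 lc_a_rc_3_2 lc_a_rc_21_0 lc_a_rc_1_0 lc_a_rc_22_0 lc_a_rc_4_2 lc_a_rc_1_2 lc_a_rc_2_0 lc_a_rc_0_1 lc_a_rc_0_1 lc_a_rc_4_0 lc_a_rc_21_0 lc_a_rc_0_1 lc_a_rc_2_2 lc_a_rc_2_2 lc_a_rc_21_0 lc_a_rc_21_0 lc_a_rc_0_1 lc_a_rc_2_2 lc_a_rc_4_2 lc_a_rc_1_4 lc_a_rc_2_2 lc_a_rc_3_2 lc_a_rc_4_2 lc_a_rc_4_2 lc_a_rc_4_2) (@D3.rec (fun _ => (Cert rels S Gen.a)) lc_a_rc_3_0 lc_a_rc_2_2 lc_a_rc_3_0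 lc_a_rc_2_2 lc_a_rc_2_2 lc_a_rc_0_1 lc_a_rc_3_2 lc_a_rc_2_2 lc_a_rc_1_4 lc_a_rc_1_2 lc_a_rc_5_2 lc_a_rc_2_2 lc_a_rc_4_2 lc_a_rc_21_0 lc_a_rc_2_0 lc_a_rc_2_0 lc_a_rc_3_2 lc_a_rc_2_2 lc_a_rc_2_2 lc_a_rc_4_2 lc_a_rc_21_0 lc_a_rc_1_2 lc_a_rc_3_0 lc_a_rc_0_1 lc_a_rc_2_2 lc_a_rc_3_0 lc_a_rc_4_2 lc_a_rc_3_2 lc_a_rc_3_2 lc_a_rc_2_2 lc_a_rc_3_2 lc_a_rc_4_2 lc_a_rc_3_2 lc_a_rc_21_0 lc_a_rc_3_2 lc_a_rc_3_2 lc_a_rc_2_0 lc_a_rc_1_2 lc_a_rc_3_2 lc_a_rc_3_2 lc_a_rc_2_0 lc_a_rc_4_2 lc_a_rc_3_0 lc_a_rc_0_1 lc_a_rc_5_2 lc_a_rc_21_0 lc_a_rc_3_2 lc_a_rc_2_2 lc_a_rc_2_2 lc_a_rc_4_0 lc_a_rc_1_4 lc_a_rc_3_2 lc_a_rc_3_2 lc_a_rc_0_1 lc_a_rc_4_2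 lc_a_rc_2_0 lc_a_rc_1_2 lc_a_rc_4_2 lc_a_rc_4_2 lc_a_rc_4_2 lc_a_rc_4_2 lc_a_rc_4_2) (@D3.rec (fun _ => (Cert rels S Gen.a)) lc_a_rc_5_2 lc_a_rc_2_0 lc_a_rc_0_1 lc_a_rc_3_2 lc_a_rc_4_2 lc_a_rc_5_2 lc_a_rc_0_1 lc_a_rc_0_1 lc_a_rc_5_2 lc_a_rc_4_2 lc_a_rc_2_0 lc_a_rc_5_2 lc_a_rc_0_1 lc_a_rc_3_2 lc_a_rc_3_2 lc_a_rc_2_2 lc_a_rc_4_2 lc_a_rc_4_2 lc_a_rc_4_2 lc_a_rc_2_2 lc_a_rc_2_0 lc_a_rc_0_1 lc_a_rc_0_1 lc_a_rc_1_4 lc_a_rc_4_0 lc_a_rc_2_2 lc_a_rc_3_2 lc_a_rc_2_2 lc_a_rc_4_2 lc_a_rc_3_2 lc_a_rc_2_0 lc_a_rc_0_1 lc_a_rc_2_0 lc_a_rc_1_2 lc_a_rc_1_4 lc_a_rc_0_1 lc_a_rc_5_0 lc_a_rc_21_0 lc_a_rc_1_4 lc_a_rc_0_1 lc_a_rc_0_1 lc_a_rc_4_0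 lc_a_rc_1_0 lc_a_rc_4_2 lc_a_rc_0_1 lc_a_rc_21_0 lc_a_rc_5_0 lc_a_rc_4_2 lc_a_rc_3_2 lc_a_rc_4_2 lc_a_rc_3_0 lc_a_rc_3_2 lc_a_rc_3_2 lc_a_rc_5_2 lc_a_rc_22_0 lc_a_rc_2_2 lc_a_rc_4_2 lc_a_rc_2_2 lc_a_rc_2_2 lc_a_rc_2_2 lc_a_rc_4_2 lc_a_rc_3_0) (@D3.rec (fun _ => (Cert rels S Gen.a)) lc_a_rc_4_0 lc_a_rc_1_2 lc_a_rc_4_2 lc_a_rc_0_1 lc_a_rc_4_2 lc_a_rc_4_2 lc_a_rc_22_0 lc_a_rc_0_1 lc_a_rc_21_0 lc_a_rc_21_0 lc_a_rc_0_1 lc_a_rc_2_0 lc_a_rc_4_0 lc_a_rc_2_2 lc_a_rc_21_0 lc_a_rc_5_2 lc_a_rc_1_0 lc_a_rc_3_2 lc_a_rc_3_2 lc_a_rc_2_2 lc_a_rc_22_0 lc_a_rc_4_2 lc_a_rc_4_0 lc_a_rc_1_4 lc_a_rc_0_1 lc_a_rc_22_0 lc_a_rc_2_2 lc_a_rc_1_0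 lc_a_rc_2_2 lc_a_rc_22_0 lc_a_rc_3_2 lc_a_rc_3_2 lc_a_rc_5_0 lc_a_rc_4_2 lc_a_rc_3_2 lc_a_rc_3_2 lc_a_rc_2_0 lc_a_Cert_tree lc_a_rc_5_0 lc_a_rc_0_1 lc_a_rc_0_1 lc_a_rc_1_2 lc_a_rc_4_2 lc_a_rc_3_2 lc_a_rc_2_0 lc_a_rc_3_0 lc_a_rc_0_1 lc_a_rc_5_2 lc_a_rc_3_0 lc_a_rc_22_0 lc_a_rc_2_2 lc_a_rc_4_0 lc_a_rc_0_1 lc_a_rc_1_4 lc_a_rc_1_4 lc_a_rc_4_2 lc_a_rc_3_0 lc_a_rc_0_1 lc_a_rc_21_0 lc_a_rc_1_4 lc_a_rc_3_2 lc_a_rc_2_0) (@D3.rec (fun _ => (Cert rels S Gen.a)) lc_a_rc_2_0 lc_a_rc_1_4 lc_a_rc_3_2 lc_a_rc_4_2 lc_a_rc_2_2 lc_a_rc_3_2 lc_a_rc_5_2 lc_a_rc_4_0 lc_a_rc_3_2 lc_a_rc_4_2 lc_a_rc_4_0 lc_a_rc_3_0 lc_a_rc_1_0 lc_a_rc_2_2 lc_a_rc_4_2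 lc_a_rc_21_0 lc_a_rc_3_0 lc_a_rc_21_0 lc_a_rc_2_2 lc_a_rc_4_2 lc_a_rc_4_0 lc_a_rc_4_0 lc_a_rc_2_2 lc_a_rc_3_2 lc_a_rc_1_4 lc_a_rc_3_0 lc_a_rc_2_2 lc_a_rc_2_0 lc_a_rc_0_1 lc_a_rc_3_2 lc_a_rc_4_2 lc_a_rc_3_2 lc_a_rc_3_0 lc_a_rc_3_0 lc_a_rc_3_2 lc_a_rc_2_2 lc_a_rc_4_2 lc_a_rc_5_2 lc_a_rc_2_2 lc_a_rc_4_2 lc_a_rc_2_2 lc_a_rc_3_0 lc_a_rc_4_2 lc_a_rc_2_0 lc_a_rc_4_0 lc_a_rc_0_1 lc_a_rc_0_1 lc_a_rc_22_0 lc_a_rc_4_2 lc_a_rc_3_2 lc_a_rc_4_0 lc_a_rc_5_2 lc_a_rc_0_1 lc_a_rc_5_2 lc_a_rc_2_0 lc_a_rc_4_0 lc_a_rc_21_0 lc_a_rc_4_2 lc_a_rc_4_2 lc_a_rc_1_0 lc_a_rc_1_0 lc_a_rc_3_2) (@D3.rec (fun _ => (Cert rels S Gen.a)) lc_a_rc_2_2 lc_a_rc_0_1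 lc_a_rc_2_2 lc_a_rc_3_2 lc_a_rc_3_2 lc_a_rc_0_1 lc_a_rc_3_0 lc_a_rc_0_1 lc_a_rc_2_2 lc_a_rc_1_4 lc_a_rc_1_2 lc_a_rc_4_2 lc_a_rc_3_2 lc_a_rc_1_2 lc_a_rc_4_2 lc_a_rc_22_0 lc_a_rc_0_1 lc_a_rc_2_2 lc_a_rc_3_0 lc_a_rc_21_0 lc_a_rc_3_2 lc_a_rc_4_2 lc_a_rc_5_2 lc_a_rc_1_2 lc_a_rc_3_0 lc_a_rc_2_2 lc_a_rc_3_0 lc_a_rc_4_2 lc_a_rc_1_2 lc_a_rc_3_2 lc_a_rc_3_2 lc_a_rc_3_2 lc_a_rc_1_0 lc_a_rc_2_0 lc_a_rc_4_2 lc_a_rc_1_0 lc_a_rc_3_2 lc_a_rc_4_2 lc_a_rc_1_2 lc_a_rc_3_0 lc_a_rc_2_0 lc_a_rc_4_2 lc_a_rc_0_1 lc_a_rc_2_0 lc_a_rc_2_2 lc_a_rc_3_2 lc_a_rc_4_2 lc_a_rc_3_0 lc_a_rc_21_0 lc_a_rc_21_0 lc_a_rc_4_2 lc_a_rc_3_2 lc_a_rc_4_2 lc_a_rc_5_2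 lc_a_rc_0_1 lc_a_rc_2_2 lc_a_rc_4_2 lc_a_rc_0_1 lc_a_rc_1_4 lc_a_rc_3_2 lc_a_rc_4_2 lc_a_rc_4_2) (@D3.rec (fun _ => (Cert rels S Gen.a)) lc_a_rc_4_2 lc_a_rc_5_2 lc_a_rc_3_0 lc_a_rc_2_2 lc_a_rc_5_2 lc_a_rc_5_0 lc_a_rc_4_2 lc_a_rc_3_2 lc_a_rc_3_2 lc_a_rc_1_2 lc_a_rc_3_2 lc_a_rc_3_2 lc_a_rc_4_0 lc_a_rc_3_2 lc_a_rc_3_2 lc_a_rc_2_2 lc_a_rc_2_2 lc_a_rc_2_2 lc_a_rc_3_0 lc_a_rc_0_1 lc_a_rc_3_2 lc_a_rc_3_2 lc_a_rc_1_4 lc_a_rc_3_2 lc_a_rc_2_2 lc_a_rc_4_2 lc_a_rc_4_2 lc_a_rc_3_2 lc_a_rc_2_2 lc_a_rc_0_1 lc_a_rc_3_2 lc_a_rc_3_2 lc_a_rc_2_0 lc_a_rc_2_0 lc_a_rc_3_2 lc_a_rc_2_2 lc_a_rc_3_0 lc_a_rc_4_2 lc_a_rc_0_1 lc_a_rc_4_0 lc_a_rc_3_2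 lc_a_rc_0_1 lc_a_rc_4_2 lc_a_rc_3_2 lc_a_rc_4_2 lc_a_rc_2_2 lc_a_rc_1_0 lc_a_rc_2_2 lc_a_rc_2_2 lc_a_rc_2_2 lc_a_rc_0_1 lc_a_rc_3_0 lc_a_rc_1_0 lc_a_rc_1_4 lc_a_rc_0_1 lc_a_rc_4_2 lc_a_rc_2_2 lc_a_rc_2_2 lc_a_rc_4_2 lc_a_rc_5_0 lc_a_rc_0_1 lc_a_rc_2_0) (@D3.rec (fun _ => (Cert rels S Gen.a)) lc_a_rc_0_1 lc_a_rc_1_2 lc_a_rc_3_2 lc_a_rc_4_2 lc_a_rc_4_0 lc_a_rc_1_2 lc_a_rc_2_0 lc_a_rc_4_2 lc_a_rc_3_2 lc_a_rc_4_2 lc_a_rc_4_0 lc_a_rc_3_0 lc_a_rc_4_0 lc_a_rc_2_2 lc_a_rc_2_2 lc_a_rc_1_0 lc_a_rc_2_0 lc_a_rc_0_1 lc_a_rc_1_2 lc_a_rc_3_2 lc_a_rc_2_2 lc_a_rc_2_2 lc_a_rc_5_2 lc_a_rc_4_2 lc_a_rc_21_0 lc_a_rc_3_2 lc_a_rc_21_0 lc_a_rc_3_0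 lc_a_rc_3_0 lc_a_rc_4_0 lc_a_rc_2_2 lc_a_rc_1_2 lc_a_rc_0_1 lc_a_rc_4_2 lc_a_rc_5_0 lc_a_rc_4_0 lc_a_rc_1_2 lc_a_rc_5_0 lc_a_rc_2_2 lc_a_rc_1_0 lc_a_rc_2_2 lc_a_rc_2_2 lc_a_rc_22_0 lc_a_rc_21_0 lc_a_rc_4_2 lc_a_rc_2_0 lc_a_rc_1_0 lc_a_rc_3_2 lc_a_rc_2_2 lc_a_rc_3_2 lc_a_rc_1_0 lc_a_rc_3_2 lc_a_rc_0_1 lc_a_rc_3_2 lc_a_rc_2_2 lc_a_rc_3_2 lc_a_rc_4_2 lc_a_rc_5_0 lc_a_rc_5_2 lc_a_rc_3_0 lc_a_rc_4_2 lc_a_rc_5_2) (@D3.rec (fun _ => (Cert rels S Gen.a)) lc_a_rc_4_0 lc_a_rc_5_0 lc_a_rc_4_0 lc_a_rc_4_2 lc_a_rc_5_2 lc_a_rc_1_0 lc_a_rc_4_2 lc_a_rc_4_2 lc_a_rc_3_2 lc_a_rc_3_2 lc_a_rc_3_2 lc_a_rc_1_2 lc_a_rc_5_0 lc_a_rc_3_0 lc_a_rc_3_2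 lc_a_rc_5_0 lc_a_rc_2_0 lc_a_rc_4_2 lc_a_rc_0_1 lc_a_rc_3_0 lc_a_rc_0_1 lc_a_rc_21_0 lc_a_rc_1_0 lc_a_rc_4_2 lc_a_rc_21_0 lc_a_rc_2_2 lc_a_rc_1_4 lc_a_rc_3_2 lc_a_rc_2_2 lc_a_rc_21_0 lc_a_rc_3_2 lc_a_rc_1_0 lc_a_rc_2_2 lc_a_rc_4_2 lc_a_rc_0_1 lc_a_rc_21_0 lc_a_rc_3_0 lc_a_rc_3_2 lc_a_rc_3_2 lc_a_rc_0_1 lc_a_rc_5_0 lc_a_rc_0_1 lc_a_rc_3_2 lc_a_rc_0_1 lc_a_rc_2_2 lc_a_rc_3_2 lc_a_rc_4_2 lc_a_rc_3_2 lc_a_rc_2_0 lc_a_rc_2_2 lc_a_rc_4_2 lc_a_rc_21_0 lc_a_rc_2_0 lc_a_rc_4_2 lc_a_rc_4_0 lc_a_rc_1_4 lc_a_rc_3_2 lc_a_rc_2_2 lc_a_rc_21_0 lc_a_rc_2_2 lc_a_rc_0_1 lc_a_rc_2_0) (@D3.rec (fun _ => (Cert rels S Gen.a)) lc_a_rc_22_0 lc_a_rc_4_2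 lc_a_rc_1_4 lc_a_rc_0_1 lc_a_rc_21_0 lc_a_rc_1_0 lc_a_rc_3_2 lc_a_rc_4_2 lc_a_rc_4_2 lc_a_rc_3_2 lc_a_rc_4_2 lc_a_rc_2_0 lc_a_rc_2_0 lc_a_rc_1_2 lc_a_rc_3_2 lc_a_rc_4_2 lc_a_rc_3_2 lc_a_rc_3_2 lc_a_rc_5_2 lc_a_rc_5_2 lc_a_rc_4_0 lc_a_rc_5_2 lc_a_rc_2_2 lc_a_rc_4_2 lc_a_rc_1_2 lc_a_rc_21_0 lc_a_rc_3_2 lc_a_rc_2_2 lc_a_rc_3_2 lc_a_rc_3_0 lc_a_rc_3_2 lc_a_rc_3_0 lc_a_rc_4_2 lc_a_rc_3_2 lc_a_rc_3_0 lc_a_rc_0_1 lc_a_rc_3_0 lc_a_rc_3_2 lc_a_rc_4_2 lc_a_rc_5_2 lc_a_rc_1_4 lc_a_rc_0_1 lc_a_rc_2_0 lc_a_rc_0_1 lc_a_rc_2_2 lc_a_rc_4_2 lc_a_rc_4_2 lc_a_rc_4_2 lc_a_rc_0_1 lc_a_rc_4_2 lc_a_rc_5_2 lc_a_rc_0_1 lc_a_rc_2_2 lc_a_rc_0_1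 lc_a_rc_21_0 lc_a_rc_3_0 lc_a_rc_3_2 lc_a_rc_4_0 lc_a_rc_4_0 lc_a_rc_22_0 lc_a_rc_21_0 lc_a_rc_3_2) (@D3.rec (fun _ => (Cert rels S Gen.a)) lc_a_rc_3_2 lc_a_rc_0_1 lc_a_rc_21_0 lc_a_rc_4_2 lc_a_rc_2_0 lc_a_rc_2_2 lc_a_rc_1_4 lc_a_rc_1_4 lc_a_rc_1_4 lc_a_rc_3_2 lc_a_rc_5_2 lc_a_rc_0_1 lc_a_rc_0_1 lc_a_rc_3_0 lc_a_rc_3_0 lc_a_rc_2_0 lc_a_rc_5_2 lc_a_rc_2_0 lc_a_rc_3_2 lc_a_rc_1_0 lc_a_rc_21_0 lc_a_rc_4_2 lc_a_rc_2_2 lc_a_rc_2_2 lc_a_rc_2_2 lc_a_rc_2_0 lc_a_rc_2_2 lc_a_rc_21_0 lc_a_rc_1_2 lc_a_rc_5_2 lc_a_rc_21_0 lc_a_rc_4_2 lc_a_rc_0_1 lc_a_rc_2_2 lc_a_rc_21_0 lc_a_rc_3_2 lc_a_rc_1_2 lc_a_rc_22_0 lc_a_rc_4_2 lc_a_rc_2_2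 lc_a_rc_3_0 lc_a_rc_21_0 lc_a_rc_3_2 lc_a_rc_3_0 lc_a_rc_3_0 lc_a_rc_2_2 lc_a_rc_21_0 lc_a_rc_2_2 lc_a_rc_1_4 lc_a_rc_4_0 lc_a_rc_2_0 lc_a_rc_0_1 lc_a_rc_3_0 lc_a_rc_3_0 lc_a_rc_5_2 lc_a_rc_0_1 lc_a_rc_0_1 lc_a_rc_0_1 lc_a_rc_2_0 lc_a_rc_1_2 lc_a_rc_1_4 lc_a_rc_1_0) (@D3.rec (fun _ => (Cert rels S Gen.a)) lc_a_rc_0_1 lc_a_rc_2_2 lc_a_rc_21_0 lc_a_rc_1_2 lc_a_rc_3_0 lc_a_rc_3_2 lc_a_rc_3_2 lc_a_rc_0_1 lc_a_rc_4_2 lc_a_rc_2_2 lc_a_rc_1_4 lc_a_rc_3_2 lc_a_rc_4_2 lc_a_rc_0_1 lc_a_rc_4_2 lc_a_rc_4_2 lc_a_rc_3_2 lc_a_rc_4_2 lc_a_rc_3_2 lc_a_rc_0_1 lc_a_rc_4_2 lc_a_rc_2_2 lc_a_rc_4_2 lc_a_rc_4_2 lc_a_rc_21_0 lc_a_rc_2_0 lc_a_rc_2_0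 lc_a_rc_3_0 lc_a_rc_2_0 lc_a_rc_21_0 lc_a_rc_1_2 lc_a_rc_1_0 lc_a_rc_21_0 lc_a_rc_4_0 lc_a_rc_3_2 lc_a_rc_1_2 lc_a_rc_21_0 lc_a_rc_4_2 lc_a_rc_3_2 lc_a_rc_4_2 lc_a_rc_4_2 lc_a_rc_5_0 lc_a_rc_2_2 lc_a_rc_1_2 lc_a_rc_0_1 lc_a_rc_0_1 lc_a_rc_2_0 lc_a_rc_4_0 lc_a_rc_3_2 lc_a_rc_0_1 lc_a_rc_22_0 lc_a_rc_0_1 lc_a_rc_3_0 lc_a_rc_1_4 lc_a_rc_3_2 lc_a_rc_0_1 lc_a_rc_4_2 lc_a_rc_0_1 lc_a_rc_3_2 lc_a_rc_0_1 lc_a_rc_4_2 lc_a_rc_22_0) (@D3.rec (fun _ => (Cert rels S Gen.a)) lc_a_rc_2_0 lc_a_rc_22_0 lc_a_rc_4_2 lc_a_rc_1_2 lc_a_rc_4_2 lc_a_rc_4_0 lc_a_rc_5_2 lc_a_rc_4_2 lc_a_rc_0_1 lc_a_rc_5_0 lc_a_rc_3_0 lc_a_rc_3_2 lc_a_rc_4_2 lc_a_rc_1_0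 lc_a_rc_3_2 lc_a_rc_0_1 lc_a_rc_4_0 lc_a_rc_2_0 lc_a_rc_1_4 lc_a_rc_2_2 lc_a_rc_3_2 lc_a_rc_21_0 lc_a_rc_2_2 lc_a_rc_5_2 lc_a_rc_4_2 lc_a_rc_2_2 lc_a_rc_5_2 lc_a_Cert_tree lc_a_rc_4_0 lc_a_rc_3_2 lc_a_rc_2_2 lc_a_rc_2_2 lc_a_rc_1_4 lc_a_rc_3_2 lc_a_rc_1_2 lc_a_rc_4_0 lc_a_rc_2_2 lc_a_rc_3_2 lc_a_rc_2_2 lc_a_rc_5_0 lc_a_rc_2_2 lc_a_rc_3_2 lc_a_rc_4_2 lc_a_rc_0_1 lc_a_rc_4_0 lc_a_rc_4_0 lc_a_rc_21_0 lc_a_rc_0_1 lc_a_rc_21_0 lc_a_rc_4_2 lc_a_rc_4_0 lc_a_rc_5_2 lc_a_rc_2_0 lc_a_rc_2_2 lc_a_rc_22_0 lc_a_rc_5_0 lc_a_rc_5_0 lc_a_rc_0_1 lc_a_rc_0_1 lc_a_rc_2_0 lc_a_rc_2_2 lc_a_rc_3_0) (@D3.rec (fun _ => (Cert rels S Gen.a)) lc_a_rc_0_1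 lc_a_rc_2_2 lc_a_rc_2_2 lc_a_rc_4_2 lc_a_rc_4_0 lc_a_Cert_tree lc_a_rc_3_2 lc_a_rc_5_2 lc_a_rc_4_2 lc_a_rc_4_2 lc_a_Cert_tree lc_a_rc_4_2 lc_a_rc_1_0 lc_a_rc_1_0 lc_a_rc_0_1 lc_a_rc_2_2 lc_a_rc_4_0 lc_a_rc_2_2 lc_a_rc_4_2 lc_a_rc_5_2 lc_a_rc_3_2 lc_a_rc_3_2 lc_a_rc_4_2 lc_a_rc_4_2 lc_a_rc_4_2 lc_a_rc_4_2 lc_a_rc_4_2 lc_a_rc_21_0 lc_a_rc_0_1 lc_a_rc_3_2 lc_a_rc_21_0 lc_a_rc_21_0 lc_a_rc_4_2 lc_a_rc_4_2 lc_a_rc_3_2 lc_a_rc_3_2 lc_a_rc_0_1 lc_a_rc_3_2 lc_a_rc_3_2 lc_a_rc_4_2 lc_a_rc_4_2 lc_a_rc_3_0 lc_a_rc_1_4 lc_a_rc_2_2 lc_a_rc_2_2 lc_a_rc_1_0 lc_a_rc_4_2 lc_a_rc_2_2 lc_a_rc_21_0 lc_a_rc_4_2 lc_a_rc_0_1 lc_a_rc_2_2 lc_a_rc_4_2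 lc_a_rc_21_0 lc_a_rc_5_2 lc_a_rc_2_0 lc_a_rc_3_0 lc_a_rc_4_2 lc_a_rc_3_2 lc_a_rc_4_2 lc_a_rc_3_2 lc_a_rc_2_2) (@D3.rec (fun _ => (Cert rels S Gen.a)) lc_a_rc_3_2 lc_a_rc_2_2 lc_a_rc_4_2 lc_a_rc_4_2 lc_a_rc_4_2 lc_a_rc_2_0 lc_a_rc_0_1 lc_a_rc_3_2 lc_a_rc_2_2 lc_a_rc_2_0 lc_a_rc_0_1 lc_a_rc_1_0 lc_a_rc_4_0 lc_a_rc_4_2 lc_a_rc_0_1 lc_a_rc_21_0 lc_a_rc_4_2 lc_a_rc_4_0 lc_a_rc_3_2 lc_a_rc_21_0 lc_a_rc_4_2 lc_a_rc_1_4 lc_a_rc_4_2 lc_a_rc_1_2 lc_a_rc_4_0 lc_a_rc_21_0 lc_a_rc_4_2 lc_a_rc_3_0 lc_a_rc_1_2 lc_a_rc_4_2 lc_a_rc_4_2 lc_a_rc_4_2 lc_a_rc_4_2 lc_a_rc_4_0 lc_a_rc_1_4 lc_a_rc_4_2 lc_a_rc_2_2 lc_a_rc_2_2 lc_a_rc_2_2 lc_a_rc_0_1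 lc_a_rc_3_2 lc_a_rc_2_2 lc_a_rc_2_2 lc_a_rc_2_2 lc_a_rc_4_2 lc_a_rc_3_2 lc_a_rc_3_2 lc_a_rc_5_2 lc_a_rc_2_2 lc_a_rc_2_2 lc_a_rc_5_0 lc_a_rc_3_2 lc_a_rc_5_0 lc_a_rc_2_2 lc_a_rc_3_2 lc_a_rc_2_2 lc_a_rc_2_2 lc_a_rc_0_1 lc_a_rc_5_2 lc_a_rc_4_0 lc_a_rc_2_2 lc_a_rc_1_2) (@D3.rec (fun _ => (Cert rels S Gen.a)) lc_a_rc_2_2 lc_a_Cert_tree lc_a_rc_3_2 lc_a_rc_4_2 lc_a_rc_3_0 lc_a_rc_4_2 lc_a_rc_3_2 lc_a_rc_4_2 lc_a_rc_3_0 lc_a_rc_5_2 lc_a_rc_0_1 lc_a_rc_2_2 lc_a_rc_3_2 lc_a_rc_4_2 lc_a_rc_2_2 lc_a_rc_4_2 lc_a_rc_0_1 lc_a_rc_3_2 lc_a_rc_2_0 lc_a_rc_2_0 lc_a_rc_0_1 lc_a_rc_21_0 lc_a_rc_3_2 lc_a_rc_2_2 lc_a_rc_4_2 lc_a_rc_2_2 lc_a_rc_4_2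 lc_a_rc_2_2 lc_a_rc_3_2 lc_a_rc_3_2 lc_a_rc_22_0 lc_a_rc_0_1 lc_a_rc_2_0 lc_a_rc_21_0 lc_a_Cert_tree lc_a_rc_2_2 lc_a_rc_0_1 lc_a_rc_4_0 lc_a_rc_4_2 lc_a_rc_21_0 lc_a_rc_2_2 lc_a_rc_4_2 lc_a_rc_5_2 lc_a_rc_1_2 lc_a_rc_4_0 lc_a_rc_1_2 lc_a_rc_0_1 lc_a_rc_1_4 lc_a_rc_4_2 lc_a_rc_5_2 lc_a_rc_2_2 lc_a_rc_2_2 lc_a_rc_2_2 lc_a_rc_2_0 lc_a_rc_2_2 lc_a_rc_4_2 lc_a_rc_0_1 lc_a_rc_2_0 lc_a_Cert_tree lc_a_rc_4_2 lc_a_rc_3_0 lc_a_rc_3_0) (@D3.rec (fun _ => (Cert rels S Gen.a)) lc_a_rc_5_2 lc_a_rc_3_2 lc_a_rc_4_0 lc_a_rc_4_0 lc_a_rc_0_1 lc_a_rc_1_4 lc_a_rc_4_2 lc_a_rc_3_2 lc_a_rc_2_2 lc_a_rc_0_1 lc_a_rc_0_1 lc_a_rc_21_0 lc_a_rc_22_0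 lc_a_rc_21_0 lc_a_rc_2_2 lc_a_rc_0_1 lc_a_rc_0_1 lc_a_rc_0_1 lc_a_rc_0_1 lc_a_rc_0_1 lc_a_rc_3_0 lc_a_rc_2_2 lc_a_rc_4_2 lc_a_rc_5_2 lc_a_rc_4_0 lc_a_rc_3_0 lc_a_rc_1_0 lc_a_rc_3_2 lc_a_rc_4_0 lc_a_rc_4_2 lc_a_rc_5_2 lc_a_rc_4_2 lc_a_rc_4_2 lc_a_rc_2_2 lc_a_rc_0_1 lc_a_rc_2_2 lc_a_rc_0_1 lc_a_rc_2_0 lc_a_rc_5_2 lc_a_rc_0_1 lc_a_rc_4_2 lc_a_rc_2_2 lc_a_rc_1_2 lc_a_rc_21_0 lc_a_rc_2_0 lc_a_rc_2_2 lc_a_rc_0_1 lc_a_rc_5_2 lc_a_rc_21_0 lc_a_rc_4_2 lc_a_rc_4_2 lc_a_rc_1_4 lc_a_rc_0_1 lc_a_rc_0_1 lc_a_rc_5_0 lc_a_rc_0_1 lc_a_rc_1_2 lc_a_rc_2_2 lc_a_rc_4_2 lc_a_rc_4_2 lc_a_rc_2_0 lc_a_rc_5_0) (@D3.rec (fun _ => (Cert rels S Gen.a))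 lc_a_rc_4_2 lc_a_rc_2_2 lc_a_rc_0_1 lc_a_rc_2_2 lc_a_rc_0_1 lc_a_rc_0_1 lc_a_rc_4_0 lc_a_rc_2_2 lc_a_rc_0_1 lc_a_rc_2_0 lc_a_rc_4_2 lc_a_rc_3_2 lc_a_rc_1_4 lc_a_rc_1_0 lc_a_rc_1_0 lc_a_rc_1_0 lc_a_rc_0_1 lc_a_rc_22_0 lc_a_rc_2_2 lc_a_rc_1_4 lc_a_rc_3_0 lc_a_rc_21_0 lc_a_rc_1_2 lc_a_rc_3_0 lc_a_rc_21_0 lc_a_rc_3_2 lc_a_rc_2_0 lc_a_rc_22_0 lc_a_rc_1_2 lc_a_rc_1_4 lc_a_rc_0_1 lc_a_rc_0_1 lc_a_rc_0_1 lc_a_rc_3_2 lc_a_rc_4_0 lc_a_rc_21_0 lc_a_rc_2_2 lc_a_rc_4_2 lc_a_rc_2_2 lc_a_rc_3_2 lc_a_rc_21_0 lc_a_rc_0_1 lc_a_rc_2_2 lc_a_rc_0_1 lc_a_rc_21_0 lc_a_rc_3_0 lc_a_rc_0_1 lc_a_rc_4_2 lc_a_rc_1_2 lc_a_rc_4_2 lc_a_rc_1_2 lc_a_rc_4_2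 lc_a_rc_5_2 lc_a_rc_4_2 lc_a_rc_21_0 lc_a_rc_3_2 lc_a_rc_3_0 lc_a_rc_4_0 lc_a_rc_2_2 lc_a_rc_0_1 lc_a_rc_4_2 lc_a_rc_0_1) (@D3.rec (fun _ => (Cert rels S Gen.a)) lc_a_rc_3_2 lc_a_rc_2_2 lc_a_rc_4_2 lc_a_rc_1_2 lc_a_rc_4_0 lc_a_rc_2_0 lc_a_rc_22_0 lc_a_rc_3_2 lc_a_rc_4_2 lc_a_rc_4_2 lc_a_rc_5_2 lc_a_rc_5_2 lc_a_rc_4_0 lc_a_rc_1_4 lc_a_rc_4_0 lc_a_rc_3_2 lc_a_rc_0_1 lc_a_rc_1_4 lc_a_rc_4_2 lc_a_rc_2_2 lc_a_rc_4_0 lc_a_rc_0_1 lc_a_rc_3_0 lc_a_rc_1_4 lc_a_rc_0_1 lc_a_rc_3_2 lc_a_rc_0_1 lc_a_rc_3_0 lc_a_rc_2_2 lc_a_rc_1_4 lc_a_rc_22_0 lc_a_rc_2_0 lc_a_rc_2_2 lc_a_rc_3_0 lc_a_rc_1_2 lc_a_rc_3_2 lc_a_rc_4_2 lc_a_rc_2_0 lc_a_rc_0_1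 lc_a_rc_0_1 lc_a_rc_3_2 lc_a_rc_2_2 lc_a_rc_1_2 lc_a_rc_3_2 lc_a_rc_3_2 lc_a_rc_2_2 lc_a_rc_3_0 lc_a_rc_4_2 lc_a_rc_3_2 lc_a_rc_4_0 lc_a_rc_5_2 lc_a_rc_1_4 lc_a_rc_3_2 lc_a_rc_0_1 lc_a_rc_0_1 lc_a_rc_21_0 lc_a_rc_1_2 lc_a_rc_5_2 lc_a_rc_2_0 lc_a_rc_3_2 lc_a_rc_3_2 lc_a_rc_3_0) (@D3.rec (fun _ => (Cert rels S Gen.a)) lc_a_rc_2_2 lc_a_rc_4_0 lc_a_rc_2_0 lc_a_rc_0_1 lc_a_rc_4_0 lc_a_rc_3_2 lc_a_rc_3_2 lc_a_rc_2_2 lc_a_rc_1_0 lc_a_rc_0_1 lc_a_rc_0_1 lc_a_rc_1_2 lc_a_rc_4_2 lc_a_rc_2_2 lc_a_rc_5_2 lc_a_rc_21_0 lc_a_rc_21_0 lc_a_rc_4_2 lc_a_rc_3_2 lc_a_rc_4_2 lc_a_rc_4_2 lc_a_rc_3_2 lc_a_rc_5_2 lc_a_rc_3_2 lc_a_rc_4_2 lc_a_rc_3_2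 lc_a_rc_4_2 lc_a_rc_5_2 lc_a_rc_3_2 lc_a_rc_5_2 lc_a_rc_3_2 lc_a_rc_3_2 lc_a_rc_2_2 lc_a_rc_21_0 lc_a_rc_2_2 lc_a_rc_3_2 lc_a_rc_2_2 lc_a_rc_3_2 lc_a_rc_2_2 lc_a_rc_4_2 lc_a_rc_4_2 lc_a_rc_3_2 lc_a_rc_21_0 lc_a_rc_0_1 lc_a_rc_4_2 lc_a_rc_0_1 lc_a_rc_4_2 lc_a_rc_5_2 lc_a_rc_4_2 lc_a_rc_0_1 lc_a_rc_3_0 lc_a_rc_0_1 lc_a_rc_0_1 lc_a_rc_21_0 lc_a_rc_1_2 lc_a_rc_0_1 lc_a_rc_5_0 lc_a_rc_3_0 lc_a_rc_4_0 lc_a_rc_21_0 lc_a_rc_4_2 lc_a_rc_4_2) (@D3.rec (fun _ => (Cert rels S Gen.a)) lc_a_rc_4_2 lc_a_rc_0_1 lc_a_rc_5_0 lc_a_rc_4_0 lc_a_rc_4_0 lc_a_rc_0_1 lc_a_rc_4_2 lc_a_rc_2_0 lc_a_rc_2_0 lc_a_rc_0_1 lc_a_rc_1_0 lc_a_rc_5_2 lc_a_rc_4_2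 lc_a_rc_21_0 lc_a_rc_0_1 lc_a_rc_3_2 lc_a_rc_1_2 lc_a_rc_2_2 lc_a_rc_4_2 lc_a_rc_5_2 lc_a_rc_3_2 lc_a_rc_5_2 lc_a_rc_4_2 lc_a_rc_3_2 lc_a_rc_4_2 lc_a_rc_5_2 lc_a_rc_1_2 lc_a_rc_5_2 lc_a_rc_5_0 lc_a_rc_0_1 lc_a_rc_2_2 lc_a_rc_2_0 lc_a_rc_2_2 lc_a_rc_4_2 lc_a_rc_2_0 lc_a_rc_21_0 lc_a_rc_4_2 lc_a_rc_4_0 lc_a_rc_4_2 lc_a_rc_22_0 lc_a_rc_0_1 lc_a_rc_4_2 lc_a_rc_1_4 lc_a_rc_4_2 lc_a_rc_3_2 lc_a_rc_2_0 lc_a_rc_1_2 lc_a_rc_0_1 lc_a_rc_4_0 lc_a_rc_2_2 lc_a_rc_0_1 lc_a_rc_4_2 lc_a_rc_2_0 lc_a_rc_3_0 lc_a_rc_3_0 lc_a_rc_4_2 lc_a_rc_3_2 lc_a_rc_22_0 lc_a_rc_2_2 lc_a_rc_21_0 lc_a_rc_4_0 lc_a_rc_4_2) (@D3.rec (fun _ => (Cert rels S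 Gen.a)) lc_a_rc_3_2 lc_a_rc_3_2 lc_a_rc_2_2 lc_a_rc_4_2 lc_a_rc_3_2 lc_a_rc_4_0 lc_a_rc_3_2 lc_a_rc_2_2 lc_a_rc_5_0 lc_a_rc_4_0 lc_a_rc_3_2 lc_a_rc_4_2 lc_a_rc_1_2 lc_a_rc_1_0 lc_a_rc_3_2 lc_a_rc_2_2 lc_a_rc_3_0 lc_a_rc_21_0 lc_a_rc_4_2 lc_a_rc_4_2 lc_a_rc_0_1 lc_a_rc_2_0 lc_a_rc_3_2 lc_a_rc_2_0 lc_a_rc_21_0 lc_a_rc_5_2 lc_a_rc_4_2 lc_a_rc_4_2 lc_a_rc_4_2 lc_a_rc_5_2 lc_a_rc_1_4 lc_a_rc_2_2 lc_a_rc_2_2 lc_a_rc_3_2 lc_a_rc_5_2 lc_a_rc_0_1 lc_a_rc_21_0 lc_a_rc_2_0 lc_a_rc_4_2 lc_a_rc_5_2 lc_a_rc_2_2 lc_a_rc_4_0 lc_a_rc_21_0 lc_a_rc_3_2 lc_a_rc_1_0 lc_a_rc_5_2 lc_a_rc_3_2 lc_a_rc_4_2 lc_a_rc_4_0 lc_a_rc_0_1 lc_a_rc_5_2 lc_a_rc_3_0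 lc_a_rc_2_0 lc_a_rc_2_0 lc_a_rc_4_2 lc_a_rc_2_2 lc_a_rc_4_2 lc_a_rc_1_4 lc_a_rc_21_0 lc_a_rc_21_0 lc_a_rc_4_2 lc_a_rc_1_2) (@D3.rec (fun _ => (Cert rels S Gen.a)) lc_a_rc_21_0 lc_a_rc_3_0 lc_a_rc_2_2 lc_a_rc_1_4 lc_a_rc_0_1 lc_a_rc_1_2 lc_a_rc_2_2 lc_a_rc_1_0 lc_a_rc_1_4 lc_a_rc_3_2 lc_a_rc_2_2 lc_a_rc_1_4 lc_a_rc_1_2 lc_a_rc_2_2 lc_a_rc_0_1 lc_a_rc_2_0 lc_a_rc_0_1 lc_a_rc_22_0 lc_a_rc_1_4 lc_a_rc_4_0 lc_a_rc_2_2 lc_a_rc_2_0 lc_a_rc_1_0 lc_a_rc_4_2 lc_a_rc_21_0 lc_a_rc_2_2 lc_a_rc_2_2 lc_a_rc_21_0 lc_a_rc_2_2 lc_a_rc_4_2 lc_a_rc_2_0 lc_a_rc_3_2 lc_a_rc_5_2 lc_a_rc_4_2 lc_a_rc_4_0 lc_a_rc_0_1 lc_a_rc_21_0 lc_a_rc_0_1 lc_a_rc_2_0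 lc_a_rc_5_0 lc_a_rc_3_0 lc_a_rc_21_0 lc_a_rc_3_0 lc_a_rc_4_0 lc_a_rc_0_1 lc_a_rc_1_0 lc_a_rc_3_0 lc_a_rc_3_0 lc_a_rc_0_1 lc_a_rc_2_0 lc_a_rc_3_0 lc_a_rc_2_0 lc_a_rc_4_2 lc_a_Cert_tree lc_a_rc_3_2 lc_a_rc_4_2 lc_a_Cert_tree lc_a_rc_4_2 lc_a_rc_3_2 lc_a_Cert_tree lc_a_rc_5_0 lc_a_rc_4_2) (@D3.rec (fun _ => (Cert rels S Gen.a)) lc_a_rc_21_0 lc_a_rc_21_0 lc_a_rc_5_0 lc_a_rc_4_2 lc_a_rc_2_2 lc_a_rc_2_0 lc_a_rc_0_1 lc_a_rc_4_0 lc_a_rc_4_2 lc_a_rc_4_2 lc_a_rc_5_2 lc_a_rc_5_2 lc_a_rc_2_2 lc_a_rc_21_0 lc_a_rc_1_2 lc_a_rc_1_0 lc_a_rc_0_1 lc_a_rc_1_4 lc_a_rc_21_0 lc_a_rc_4_2 lc_a_rc_3_0 lc_a_rc_1_2 lc_a_rc_5_0 lc_a_rc_3_0 lc_a_rc_2_0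 lc_a_rc_3_2 lc_a_rc_5_0 lc_a_rc_5_0 lc_a_rc_1_4 lc_a_rc_0_1 lc_a_rc_3_2 lc_a_rc_4_0 lc_a_rc_1_4 lc_a_rc_2_0 lc_a_rc_4_2 lc_a_rc_5_2 lc_a_rc_3_2 lc_a_rc_3_2 lc_a_rc_4_2 lc_a_rc_0_1 lc_a_Cert_tree lc_a_rc_3_0 lc_a_rc_4_2 lc_a_rc_4_0 lc_a_rc_1_2 lc_a_rc_1_4 lc_a_rc_2_2 lc_a_rc_1_2 lc_a_rc_2_0 lc_a_rc_4_2 lc_a_rc_4_2 lc_a_rc_3_0 lc_a_rc_4_0 lc_a_rc_1_4 lc_a_rc_4_2 lc_a_rc_2_0 lc_a_rc_0_1 lc_a_rc_3_0 lc_a_rc_4_2 lc_a_rc_2_2 lc_a_rc_0_1 lc_a_rc_1_0) (@D3.rec (fun _ => (Cert rels S Gen.a)) lc_a_rc_0_1 lc_a_rc_4_2 lc_a_rc_2_2 lc_a_rc_2_0 lc_a_rc_3_2 lc_a_rc_0_1 lc_a_rc_2_2 lc_a_rc_3_0 lc_a_rc_3_2 lc_a_rc_4_2 lc_a_rc_2_2 lc_a_rc_4_2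 lc_a_rc_4_2 lc_a_rc_4_2 lc_a_rc_0_1 lc_a_rc_3_2 lc_a_rc_2_2 lc_a_rc_2_2 lc_a_rc_2_2 lc_a_rc_3_2 lc_a_rc_4_2 lc_a_rc_1_0 lc_a_rc_21_0 lc_a_rc_21_0 lc_a_rc_0_1 lc_a_rc_4_2 lc_a_rc_21_0 lc_a_rc_4_2 lc_a_rc_3_2 lc_a_rc_1_4 lc_a_rc_3_0 lc_a_rc_3_2 lc_a_rc_0_1 lc_a_rc_0_1 lc_a_rc_21_0 lc_a_rc_4_2 lc_a_rc_4_2 lc_a_rc_3_2 lc_a_rc_0_1 lc_a_rc_3_2 lc_a_rc_3_0 lc_a_rc_4_2 lc_a_rc_3_0 lc_a_rc_3_0 lc_a_rc_2_2 lc_a_rc_4_0 lc_a_rc_4_2 lc_a_rc_2_0 lc_a_rc_4_2 lc_a_rc_1_2 lc_a_rc_3_0 lc_a_rc_4_0 lc_a_rc_5_2 lc_a_rc_2_2 lc_a_rc_1_2 lc_a_rc_4_2 lc_a_rc_3_2 lc_a_rc_5_2 lc_a_rc_4_2 lc_a_rc_1_2 lc_a_rc_5_2 lc_a_rc_2_2) (@D3.rec (fun _ => (Cert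 rels S Gen.a)) lc_a_rc_4_2 lc_a_rc_4_2 lc_a_rc_2_2 lc_a_rc_4_2 lc_a_rc_2_2 lc_a_rc_3_0 lc_a_rc_1_2 lc_a_rc_2_2 lc_a_rc_4_2 lc_a_rc_5_2 lc_a_rc_21_0 lc_a_rc_2_2 lc_a_rc_2_2 lc_a_rc_2_2 lc_a_rc_2_2 lc_a_rc_0_1 lc_a_rc_3_2 lc_a_rc_1_4 lc_a_rc_3_2 lc_a_rc_2_2 lc_a_rc_3_0 lc_a_rc_1_0 lc_a_rc_1_4 lc_a_rc_3_2 lc_a_rc_0_1 lc_a_rc_4_2 lc_a_rc_1_2 lc_a_rc_0_1 lc_a_rc_0_1 lc_a_rc_3_2 lc_a_rc_2_2 lc_a_rc_4_2 lc_a_rc_2_2 lc_a_rc_4_2 lc_a_rc_2_2 lc_a_rc_3_2 lc_a_rc_21_0 lc_a_rc_1_2 lc_a_rc_1_2 lc_a_rc_1_2 lc_a_rc_4_2 lc_a_rc_21_0 lc_a_rc_2_2 lc_a_rc_2_0 lc_a_rc_3_2 lc_a_rc_1_2 lc_a_rc_0_1 lc_a_rc_1_0 lc_a_rc_21_0 lc_a_rc_2_2 lc_a_rc_21_0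 lc_a_rc_4_2 lc_a_rc_2_2 lc_a_rc_2_2 lc_a_rc_2_2 lc_a_rc_2_2 lc_a_rc_3_2 lc_a_rc_4_0 lc_a_rc_2_2 lc_a_rc_2_2 lc_a_rc_22_0 lc_a_rc_2_0) (@D3.rec (fun _ => (Cert rels S Gen.a)) lc_a_rc_2_0 lc_a_rc_2_2 lc_a_rc_0_1 lc_a_rc_4_2 lc_a_rc_4_0 lc_a_rc_0_1 lc_a_rc_1_2 lc_a_rc_5_0 lc_a_rc_2_2 lc_a_rc_3_0 lc_a_rc_1_2 lc_a_rc_4_0 lc_a_rc_5_2 lc_a_rc_3_2 lc_a_rc_4_2 lc_a_rc_2_2 lc_a_rc_4_2 lc_a_rc_2_2 lc_a_rc_4_2 lc_a_rc_3_2 lc_a_rc_3_0 lc_a_rc_4_2 lc_a_rc_4_2 lc_a_rc_4_2 lc_a_rc_5_0 lc_a_rc_5_2 lc_a_rc_3_0 lc_a_rc_21_0 lc_a_rc_2_2 lc_a_rc_4_2 lc_a_rc_5_2 lc_a_rc_4_2 lc_a_rc_3_2 lc_a_rc_5_2 lc_a_rc_4_2 lc_a_rc_5_2 lc_a_rc_2_2 lc_a_rc_5_0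 lc_a_rc_4_2 lc_a_rc_4_2 lc_a_rc_4_0 lc_a_rc_2_2 lc_a_rc_1_4 lc_a_rc_3_2 lc_a_rc_4_2 lc_a_rc_4_0 lc_a_rc_5_0 lc_a_rc_4_2 lc_a_rc_5_2 lc_a_rc_21_0 lc_a_rc_3_0 lc_a_rc_3_2 lc_a_rc_1_4 lc_a_rc_4_2 lc_a_rc_5_0 lc_a_rc_4_2 lc_a_rc_0_1 lc_a_rc_4_2 lc_a_rc_2_2 lc_a_rc_2_2 lc_a_rc_2_2 lc_a_rc_4_2) (@D3.rec (fun _ => (Cert rels S Gen.a)) lc_a_rc_3_2 lc_a_rc_2_2 lc_a_rc_3_2 lc_a_rc_0_1 lc_a_rc_3_2 lc_a_rc_0_1 lc_a_rc_4_0 lc_a_rc_0_1 lc_a_rc_22_0 lc_a_rc_2_0 lc_a_rc_4_2 lc_a_rc_5_0 lc_a_rc_5_2 lc_a_rc_4_2 lc_a_rc_22_0 lc_a_rc_3_2 lc_a_rc_1_2 lc_a_rc_5_2 lc_a_rc_5_2 lc_a_rc_3_2 lc_a_rc_2_0 lc_a_rc_2_2 lc_a_rc_3_2 lc_a_rc_3_2 lc_a_rc_5_2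 lc_a_rc_22_0 lc_a_rc_3_2 lc_a_rc_5_0 lc_a_rc_5_2 lc_a_rc_4_2 lc_a_rc_3_2 lc_a_rc_21_0 lc_a_rc_1_2 lc_a_rc_3_2 lc_a_rc_3_2 lc_a_rc_0_1 lc_a_rc_2_2 lc_a_rc_4_2 lc_a_rc_4_2 lc_a_rc_3_2 lc_a_rc_4_2 lc_a_rc_21_0 lc_a_rc_3_2 lc_a_rc_4_2 lc_a_rc_2_0 lc_a_rc_5_2 lc_a_rc_0_1 lc_a_rc_3_0 lc_a_rc_2_2 lc_a_rc_0_1 lc_a_rc_4_0 lc_a_rc_3_0 lc_a_rc_4_0 lc_a_rc_0_1 lc_a_rc_21_0 lc_a_rc_3_2 lc_a_rc_0_1 lc_a_rc_4_2 lc_a_rc_4_2 lc_a_rc_2_2 lc_a_rc_2_2 lc_a_rc_3_0) (@D3.rec (fun _ => (Cert rels S Gen.a)) lc_a_rc_3_2 lc_a_rc_4_2 lc_a_rc_3_2 lc_a_rc_2_2 lc_a_rc_2_0 lc_a_rc_3_2 lc_a_rc_1_2 lc_a_rc_3_2 lc_a_rc_3_2 lc_a_rc_5_2 lc_a_rc_3_2 lc_a_rc_1_4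 lc_a_rc_1_0 lc_a_rc_3_2 lc_a_rc_5_2 lc_a_rc_0_1 lc_a_rc_5_2 lc_a_rc_5_0 lc_a_rc_3_2 lc_a_rc_21_0 lc_a_rc_5_2 lc_a_rc_2_2 lc_a_rc_4_2 lc_a_rc_1_4 lc_a_rc_2_2 lc_a_rc_4_2 lc_a_rc_2_2 lc_a_rc_3_2 lc_a_rc_4_2 lc_a_rc_0_1 lc_a_Cert_tree lc_a_rc_3_2 lc_a_rc_0_1 lc_a_rc_1_2 lc_a_rc_1_2 lc_a_rc_3_2 lc_a_rc_3_2 lc_a_rc_3_2 lc_a_rc_21_0 lc_a_rc_4_2 lc_a_rc_4_2 lc_a_rc_3_2 lc_a_rc_1_2 lc_a_rc_4_2 lc_a_rc_4_2 lc_a_rc_0_1 lc_a_rc_5_2 lc_a_rc_2_2 lc_a_rc_2_2 lc_a_rc_2_2 lc_a_rc_22_0 lc_a_rc_3_0 lc_a_rc_21_0 lc_a_rc_2_2 lc_a_rc_1_4 lc_a_rc_2_2 lc_a_rc_2_2 lc_a_rc_2_2 lc_a_rc_22_0 lc_a_rc_2_2 lc_a_rc_21_0 lc_a_rc_21_0) (@D3.rec (fun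 _ => (Cert rels S Gen.a)) lc_a_rc_3_2 lc_a_rc_5_2 lc_a_rc_1_0 lc_a_rc_0_1 lc_a_rc_2_2 lc_a_rc_4_2 lc_a_rc_2_2 lc_a_rc_2_2 lc_a_rc_4_2 lc_a_rc_3_2 lc_a_rc_3_2 lc_a_rc_2_2 lc_a_rc_4_2 lc_a_rc_0_1 lc_a_rc_2_2 lc_a_rc_4_2 lc_a_rc_1_4 lc_a_rc_21_0 lc_a_rc_0_1 lc_a_rc_4_2 lc_a_rc_3_2 lc_a_rc_5_2 lc_a_rc_0_1 lc_a_rc_2_2 lc_a_rc_4_2 lc_a_rc_2_2 lc_a_rc_1_4 lc_a_rc_4_2 lc_a_rc_1_0 lc_a_rc_3_0 lc_a_rc_5_2 lc_a_rc_1_4 lc_a_rc_21_0 lc_a_rc_0_1 lc_a_rc_5_2 lc_a_rc_3_2 lc_a_rc_0_1 lc_a_rc_1_4 lc_a_rc_21_0 lc_a_rc_0_1 lc_a_rc_5_2 lc_a_rc_21_0 lc_a_rc_5_2 lc_a_rc_5_0 lc_a_rc_3_2 lc_a_rc_5_0 lc_a_rc_2_2 lc_a_rc_5_2 lc_a_rc_4_2 lc_a_rc_4_0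 lc_a_rc_4_2 lc_a_rc_4_0 lc_a_rc_3_0 lc_a_rc_3_2 lc_a_rc_2_2 lc_a_rc_3_2 lc_a_rc_4_2 lc_a_rc_21_0 lc_a_rc_2_2 lc_a_rc_3_2 lc_a_rc_4_2 lc_a_rc_5_2) (@D3.rec (fun _ => (Cert rels S Gen.a)) lc_a_rc_3_2 lc_a_rc_3_2 lc_a_rc_2_2 lc_a_rc_2_2 lc_a_rc_1_2 lc_a_rc_4_2 lc_a_rc_4_2 lc_a_rc_21_0 lc_a_rc_3_0 lc_a_rc_2_2 lc_a_rc_0_1 lc_a_rc_3_2 lc_a_rc_2_2 lc_a_rc_4_0 lc_a_rc_3_2 lc_a_rc_2_2 lc_a_rc_22_0 lc_a_rc_2_2 lc_a_rc_4_2 lc_a_rc_4_2 lc_a_rc_4_0 lc_a_rc_21_0 lc_a_rc_2_0 lc_a_rc_4_2 lc_a_rc_3_2 lc_a_rc_2_2 lc_a_rc_0_1 lc_a_rc_5_2 lc_a_rc_4_2 lc_a_rc_4_2 lc_a_rc_4_2 lc_a_rc_4_2 lc_a_rc_2_2 lc_a_rc_3_0 lc_a_rc_2_2 lc_a_rc_3_2 lc_a_rc_2_2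 lc_a_rc_0_1 lc_a_rc_0_1 lc_a_rc_4_2 lc_a_rc_2_2 lc_a_rc_4_2 lc_a_rc_2_2 lc_a_rc_1_4 lc_a_rc_2_2 lc_a_rc_21_0 lc_a_rc_3_0 lc_a_rc_3_0 lc_a_rc_4_2 lc_a_rc_0_1 lc_a_rc_1_0 lc_a_rc_2_2 lc_a_rc_4_2 lc_a_rc_4_2 lc_a_rc_4_0 lc_a_rc_5_2 lc_a_rc_2_2 lc_a_rc_4_2 lc_a_rc_0_1 lc_a_rc_4_2 lc_a_rc_4_2 lc_a_rc_5_2) (@D3.rec (fun _ => (Cert rels S Gen.a)) lc_a_rc_2_2 lc_a_rc_2_2 lc_a_rc_1_4 lc_a_rc_2_0 lc_a_rc_2_2 lc_a_rc_4_2 lc_a_rc_22_0 lc_a_rc_2_2 lc_a_rc_5_0 lc_a_rc_3_2 lc_a_rc_4_2 lc_a_rc_0_1 lc_a_rc_3_2 lc_a_rc_3_2 lc_a_rc_0_1 lc_a_rc_1_0 lc_a_rc_2_0 lc_a_rc_1_4 lc_a_rc_2_2 lc_a_rc_1_0 lc_a_rc_21_0 lc_a_rc_4_2 lc_a_rc_4_2 lc_a_rc_3_0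 lc_a_rc_5_2 lc_a_rc_1_4 lc_a_rc_3_2 lc_a_rc_21_0 lc_a_rc_3_0 lc_a_rc_3_0 lc_a_rc_3_2 lc_a_rc_22_0 lc_a_rc_3_2 lc_a_rc_3_2 lc_a_rc_3_2 lc_a_rc_4_2 lc_a_rc_2_0 lc_a_rc_5_2 lc_a_rc_2_2 lc_a_rc_0_1 lc_a_rc_2_2 lc_a_rc_3_2 lc_a_rc_4_2 lc_a_rc_2_2 lc_a_rc_4_2 lc_a_rc_2_2 lc_a_rc_4_2 lc_a_rc_2_2 lc_a_rc_3_0 lc_a_rc_2_2 lc_a_rc_4_2 lc_a_rc_2_2 lc_a_rc_2_0 lc_a_rc_0_1 lc_a_rc_3_2 lc_a_rc_0_1 lc_a_rc_3_2 lc_a_rc_1_2 lc_a_rc_2_2 lc_a_rc_2_2 lc_a_rc_3_2 lc_a_rc_4_2) (@D3.rec (fun _ => (Cert rels S Gen.a)) lc_a_rc_21_0 lc_a_rc_5_2 lc_a_rc_1_2 lc_a_rc_3_2 lc_a_rc_2_0 lc_a_rc_0_1 lc_a_rc_5_0 lc_a_rc_4_2 lc_a_rc_0_1 lc_a_rc_3_2 lc_a_rc_2_2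 lc_a_rc_2_2 lc_a_rc_2_2 lc_a_rc_4_2 lc_a_rc_4_2 lc_a_rc_0_1 lc_a_rc_0_1 lc_a_rc_3_2 lc_a_rc_1_0 lc_a_rc_4_0 lc_a_rc_3_2 lc_a_rc_4_2 lc_a_rc_4_0 lc_a_rc_2_2 lc_a_rc_2_0 lc_a_rc_21_0 lc_a_rc_0_1 lc_a_rc_0_1 lc_a_rc_4_2 lc_a_rc_21_0 lc_a_rc_5_2 lc_a_rc_3_0 lc_a_rc_3_0 lc_a_rc_0_1 lc_a_rc_2_0 lc_a_rc_5_2 lc_a_rc_22_0 lc_a_rc_2_2 lc_a_rc_0_1 lc_a_rc_3_2 lc_a_rc_3_2 lc_a_rc_2_2 lc_a_rc_3_2 lc_a_rc_4_0 lc_a_rc_2_2 lc_a_rc_5_0 lc_a_rc_4_2 lc_a_rc_0_1 lc_a_rc_0_1 lc_a_rc_4_2 lc_a_rc_3_2 lc_a_rc_3_2 lc_a_rc_0_1 lc_a_rc_1_4 lc_a_rc_1_0 lc_a_rc_4_0 lc_a_rc_3_2 lc_a_rc_21_0 lc_a_rc_3_0 lc_a_rc_3_0 lc_a_rc_22_0 lc_a_rc_0_1) (@D3.rec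 (fun _ => (Cert rels S Gen.a)) lc_a_rc_21_0 lc_a_rc_0_1 lc_a_rc_3_0 lc_a_rc_2_0 lc_a_rc_4_0 lc_a_rc_4_2 lc_a_rc_0_1 lc_a_rc_3_2 lc_a_rc_3_2 lc_a_rc_21_0 lc_a_rc_2_2 lc_a_rc_4_2 lc_a_rc_2_0 lc_a_rc_2_2 lc_a_rc_4_2 lc_a_rc_2_0 lc_a_rc_2_2 lc_a_rc_1_0 lc_a_rc_3_2 lc_a_rc_2_2 lc_a_rc_21_0 lc_a_rc_4_2 lc_a_rc_0_1 lc_a_rc_5_0 lc_a_rc_4_2 lc_a_rc_5_2 lc_a_rc_4_2 lc_a_rc_21_0 lc_a_rc_3_0 lc_a_rc_5_2 lc_a_rc_2_0 lc_a_rc_21_0 lc_a_rc_3_2 lc_a_rc_2_0 lc_a_rc_1_4 lc_a_rc_2_2 lc_a_rc_5_2 lc_a_rc_5_2 lc_a_rc_3_2 lc_a_rc_2_2 lc_a_rc_3_0 lc_a_rc_5_0 lc_a_rc_3_2 lc_a_rc_0_1 lc_a_rc_2_2 lc_a_rc_1_2 lc_a_rc_4_2 lc_a_rc_1_4 lc_a_rc_4_2 lc_a_rc_1_4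 lc_a_rc_2_2 lc_a_rc_5_2 lc_a_rc_0_1 lc_a_rc_1_4 lc_a_rc_21_0 lc_a_rc_3_2 lc_a_rc_0_1 lc_a_rc_1_4 lc_a_rc_4_2 lc_a_rc_3_2 lc_a_rc_5_2 lc_a_rc_4_2) (@D3.rec (fun _ => (Cert rels S Gen.a)) lc_a_rc_2_2 lc_a_rc_5_0 lc_a_rc_3_0 lc_a_rc_5_2 lc_a_rc_1_0 lc_a_rc_3_2 lc_a_rc_5_2 lc_a_rc_4_0 lc_a_rc_4_0 lc_a_rc_5_2 lc_a_rc_2_2 lc_a_rc_4_2 lc_a_rc_3_2 lc_a_rc_2_2 lc_a_rc_3_2 lc_a_rc_5_0 lc_a_rc_4_2 lc_a_rc_2_2 lc_a_rc_2_2 lc_a_rc_3_0 lc_a_rc_22_0 lc_a_rc_0_1 lc_a_rc_5_0 lc_a_rc_4_2 lc_a_rc_4_2 lc_a_rc_4_2 lc_a_rc_2_2 lc_a_rc_21_0 lc_a_rc_0_1 lc_a_rc_1_4 lc_a_rc_2_0 lc_a_rc_5_2 lc_a_rc_2_2 lc_a_rc_1_2 lc_a_rc_4_2 lc_a_rc_21_0 lc_a_rc_4_2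 lc_a_rc_3_2 lc_a_rc_3_2 lc_a_rc_5_2 lc_a_rc_2_2 lc_a_rc_5_2 lc_a_rc_4_0 lc_a_rc_1_2 lc_a_rc_4_2 lc_a_rc_2_2 lc_a_rc_2_0 lc_a_rc_4_2 lc_a_rc_4_2 lc_a_rc_3_2 lc_a_rc_21_0 lc_a_rc_5_2 lc_a_rc_3_2 lc_a_rc_2_2 lc_a_rc_4_2 lc_a_rc_2_2 lc_a_rc_4_2 lc_a_rc_2_2 lc_a_rc_21_0 lc_a_rc_4_2 lc_a_rc_21_0 lc_a_rc_0_1) (@D3.rec (fun _ => (Cert rels S Gen.a)) lc_a_rc_0_1 lc_a_rc_5_2 lc_a_rc_3_2 lc_a_rc_4_2 lc_a_rc_21_0 lc_a_rc_1_0 lc_a_rc_4_2 lc_a_Cert_tree lc_a_rc_1_0 lc_a_rc_1_2 lc_a_rc_2_2 lc_a_rc_3_2 lc_a_rc_2_2 lc_a_rc_5_0 lc_a_rc_2_2 lc_a_rc_2_2 lc_a_rc_3_2 lc_a_rc_4_0 lc_a_rc_4_2 lc_a_rc_4_0 lc_a_rc_2_0 lc_a_rc_3_2 lc_a_rc_0_1 lc_a_rc_2_2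 lc_a_rc_4_2 lc_a_rc_0_1 lc_a_rc_4_2 lc_a_rc_2_2 lc_a_rc_3_2 lc_a_rc_2_2 lc_a_rc_21_0 lc_a_rc_2_2 lc_a_rc_4_2 lc_a_rc_4_2 lc_a_rc_3_2 lc_a_rc_1_2 lc_a_rc_21_0 lc_a_rc_4_2 lc_a_rc_0_1 lc_a_rc_5_0 lc_a_rc_4_2 lc_a_rc_3_2 lc_a_rc_3_2 lc_a_rc_21_0 lc_a_rc_4_2 lc_a_rc_5_2 lc_a_rc_4_2 lc_a_rc_5_0 lc_a_rc_2_2 lc_a_rc_0_1 lc_a_rc_3_2 lc_a_rc_5_2 lc_a_rc_1_0 lc_a_rc_2_0 lc_a_rc_3_2 lc_a_rc_4_2 lc_a_rc_21_0 lc_a_rc_1_0 lc_a_rc_2_2 lc_a_rc_2_2 lc_a_rc_4_2 lc_a_rc_4_2) (@D3.rec (fun _ => (Cert rels S Gen.a)) lc_a_rc_5_2 lc_a_rc_2_0 lc_a_rc_4_2 lc_a_rc_3_2 lc_a_rc_2_2 lc_a_rc_4_2 lc_a_rc_3_2 lc_a_rc_5_2 lc_a_rc_4_0 lc_a_rc_2_2 lc_a_rc_4_2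 lc_a_rc_0_1 lc_a_rc_1_2 lc_a_rc_3_0 lc_a_rc_0_1 lc_a_rc_3_0 lc_a_rc_2_0 lc_a_rc_1_4 lc_a_rc_4_2 lc_a_rc_21_0 lc_a_rc_5_2 lc_a_rc_0_1 lc_a_rc_2_0 lc_a_rc_4_2 lc_a_rc_2_2 lc_a_rc_2_2 lc_a_rc_1_4 lc_a_rc_1_2 lc_a_rc_1_2 lc_a_rc_2_2 lc_a_rc_2_2 lc_a_rc_21_0 lc_a_rc_1_4 lc_a_rc_4_2 lc_a_rc_2_2 lc_a_rc_4_2 lc_a_rc_2_2 lc_a_rc_2_2 lc_a_rc_2_0 lc_a_rc_2_0 lc_a_rc_1_4 lc_a_rc_5_2 lc_a_rc_2_0 lc_a_rc_2_0 lc_a_rc_4_2 lc_a_rc_0_1 lc_a_rc_0_1 lc_a_rc_21_0 lc_a_rc_5_0 lc_a_rc_2_2 lc_a_rc_2_2 lc_a_rc_3_2 lc_a_rc_21_0 lc_a_rc_1_4 lc_a_rc_0_1 lc_a_rc_2_0 lc_a_rc_5_2 lc_a_rc_1_4 lc_a_rc_0_1 lc_a_rc_2_2 lc_a_rc_4_2 lc_a_rc_3_2) (@D3.rec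 (fun _ => (Cert rels S Gen.a)) lc_a_rc_2_2 lc_a_rc_3_2 lc_a_rc_2_2 lc_a_rc_4_0 lc_a_rc_2_2 lc_a_rc_2_2 lc_a_rc_3_2 lc_a_rc_0_1 lc_a_rc_0_1 lc_a_rc_5_2 lc_a_rc_2_2 lc_a_rc_0_1 lc_a_rc_21_0 lc_a_rc_4_2 lc_a_rc_2_0 lc_a_rc_4_2 lc_a_rc_4_2 lc_a_rc_3_2 lc_a_rc_5_2 lc_a_rc_3_2 lc_a_rc_2_2 lc_a_rc_2_2 lc_a_rc_21_0 lc_a_rc_2_0 lc_a_rc_2_0 lc_a_rc_22_0 lc_a_rc_3_2 lc_a_rc_2_0 lc_a_rc_3_2 lc_a_rc_5_2 lc_a_rc_3_2 lc_a_rc_1_4 lc_a_rc_3_2 lc_a_rc_5_0 lc_a_rc_4_2 lc_a_rc_4_2 lc_a_rc_5_0 lc_a_rc_4_2 lc_a_rc_2_2 lc_a_rc_4_2 lc_a_rc_3_2 lc_a_rc_4_0 lc_a_rc_2_0 lc_a_rc_2_2 lc_a_rc_3_2 lc_a_rc_3_2 lc_a_rc_22_0 lc_a_rc_3_2 lc_a_rc_3_2 lc_a_rc_21_0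 lc_a_rc_2_2 lc_a_rc_1_2 lc_a_rc_1_4 lc_a_rc_21_0 lc_a_rc_0_1 lc_a_rc_4_2 lc_a_rc_1_2 lc_a_rc_3_2 lc_a_rc_2_2 lc_a_rc_4_2 lc_a_rc_22_0 lc_a_rc_2_2) (@D3.rec (fun _ => (Cert rels S Gen.a)) lc_a_rc_22_0 lc_a_rc_21_0 lc_a_rc_2_2 lc_a_rc_3_2 lc_a_rc_2_0 lc_a_rc_5_2 lc_a_rc_5_2 lc_a_rc_5_2 lc_a_rc_5_0 lc_a_rc_1_4 lc_a_rc_1_2 lc_a_rc_0_1 lc_a_rc_1_0 lc_a_rc_4_2 lc_a_rc_1_4 lc_a_rc_4_0 lc_a_rc_5_0 lc_a_rc_0_1 lc_a_rc_4_2 lc_a_rc_3_2 lc_a_rc_4_0 lc_a_rc_3_2 lc_a_rc_5_2 lc_a_rc_4_2 lc_a_rc_2_2 lc_a_rc_4_2 lc_a_rc_2_0 lc_a_rc_3_2 lc_a_rc_4_2 lc_a_rc_1_2 lc_a_rc_3_2 lc_a_rc_2_2 lc_a_rc_2_2 lc_a_rc_21_0 lc_a_rc_3_2 lc_a_rc_1_0 lc_a_rc_21_0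 lc_a_rc_3_2 lc_a_rc_3_2 lc_a_rc_4_2 lc_a_rc_2_2 lc_a_rc_2_2 lc_a_rc_1_2 lc_a_rc_22_0 lc_a_rc_1_2 lc_a_rc_5_2 lc_a_rc_0_1 lc_a_rc_3_2 lc_a_rc_4_2 lc_a_rc_2_2 lc_a_rc_2_2 lc_a_rc_0_1 lc_a_rc_21_0 lc_a_rc_3_0 lc_a_rc_2_2 lc_a_rc_4_2 lc_a_rc_0_1 lc_a_rc_0_1 lc_a_rc_1_4 lc_a_rc_4_0 lc_a_rc_5_2 lc_a_rc_1_2) (@D3.rec (fun _ => (Cert rels S Gen.a)) lc_a_rc_4_0 lc_a_rc_0_1 lc_a_rc_3_2 lc_a_rc_2_2 lc_a_rc_4_2 lc_a_rc_5_2 lc_a_rc_2_2 lc_a_rc_21_0 lc_a_rc_4_0 lc_a_rc_5_0 lc_a_rc_3_2 lc_a_rc_2_2 lc_a_rc_3_2 lc_a_rc_2_2 lc_a_rc_2_2 lc_a_rc_1_4 lc_a_rc_4_0 lc_a_rc_2_2 lc_a_rc_4_0 lc_a_rc_21_0 lc_a_rc_2_0 lc_a_rc_0_1 lc_a_rc_4_0 lc_a_rc_2_2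 lc_a_rc_3_2 lc_a_rc_4_2 lc_a_rc_21_0 lc_a_rc_21_0 lc_a_rc_4_2 lc_a_rc_3_2 lc_a_rc_3_2 lc_a_rc_0_1 lc_a_rc_4_2 lc_a_rc_3_2 lc_a_rc_3_2 lc_a_rc_2_2 lc_a_rc_5_2 lc_a_rc_3_2 lc_a_rc_0_1 lc_a_rc_21_0 lc_a_rc_0_1 lc_a_rc_4_2 lc_a_rc_0_1 lc_a_rc_2_2 lc_a_rc_0_1 lc_a_rc_2_2 lc_a_rc_2_2 lc_a_rc_0_1 lc_a_rc_0_1 lc_a_rc_0_1 lc_a_rc_4_2 lc_a_rc_1_2 lc_a_rc_22_0 lc_a_rc_1_4 lc_a_rc_0_1 lc_a_rc_21_0 lc_a_rc_21_0 lc_a_rc_4_2 lc_a_rc_4_2 lc_a_rc_0_1 lc_a_rc_2_2 lc_a_rc_4_2) (@D3.rec (fun _ => (Cert rels S Gen.a)) lc_a_rc_4_0 lc_a_rc_1_0 lc_a_rc_3_0 lc_a_rc_2_2 lc_a_rc_4_2 lc_a_rc_21_0 lc_a_rc_4_2 lc_a_rc_4_2 lc_a_rc_1_4 lc_a_rc_1_0 lc_a_rc_0_1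 lc_a_rc_2_2 lc_a_rc_3_0 lc_a_rc_3_2 lc_a_rc_21_0 lc_a_rc_0_1 lc_a_rc_0_1 lc_a_rc_4_0 lc_a_rc_21_0 lc_a_rc_1_2 lc_a_rc_4_0 lc_a_rc_2_2 lc_a_rc_4_2 lc_a_rc_2_2 lc_a_rc_21_0 lc_a_rc_2_2 lc_a_rc_3_2 lc_a_rc_3_0 lc_a_rc_4_0 lc_a_rc_2_2 lc_a_rc_2_2 lc_a_rc_5_2 lc_a_rc_5_2 lc_a_rc_3_2 lc_a_rc_1_0 lc_a_rc_3_2 lc_a_rc_4_0 lc_a_rc_3_2 lc_a_rc_1_2 lc_a_rc_0_1 lc_a_rc_3_2 lc_a_rc_2_0 lc_a_rc_0_1 lc_a_rc_3_0 lc_a_rc_2_2 lc_a_rc_2_0 lc_a_rc_3_2 lc_a_rc_0_1 lc_a_rc_3_0 lc_a_rc_0_1 lc_a_rc_1_0 lc_a_rc_3_2 lc_a_rc_0_1 lc_a_rc_4_0 lc_a_rc_5_0 lc_a_rc_1_0 lc_a_rc_1_0 lc_a_rc_1_2 lc_a_rc_1_4 lc_a_rc_2_2 lc_a_rc_2_2 lc_a_rc_3_2) (@D3.rec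 (fun _ => (Cert rels S Gen.a)) lc_a_rc_0_1 lc_a_rc_2_2 lc_a_rc_2_2 lc_a_rc_1_0 lc_a_rc_2_0 lc_a_rc_2_0 lc_a_rc_5_2 lc_a_rc_2_2 lc_a_rc_3_0 lc_a_rc_3_0 lc_a_rc_4_0 lc_a_rc_4_0 lc_a_rc_2_0 lc_a_rc_4_2 lc_a_rc_4_2 lc_a_rc_3_0 lc_a_rc_3_2 lc_a_rc_4_2 lc_a_rc_3_2 lc_a_rc_3_2 lc_a_rc_5_2 lc_a_rc_4_2 lc_a_rc_3_2 lc_a_rc_0_1 lc_a_rc_3_2 lc_a_rc_4_0 lc_a_rc_3_2 lc_a_rc_21_0 lc_a_rc_4_2 lc_a_rc_21_0 lc_a_rc_3_2 lc_a_rc_3_0 lc_a_rc_4_2 lc_a_rc_0_1 lc_a_rc_2_2 lc_a_rc_4_2 lc_a_rc_2_2 lc_a_rc_1_2 lc_a_rc_3_2 lc_a_rc_2_2 lc_a_rc_0_1 lc_a_rc_1_4 lc_a_rc_0_1 lc_a_rc_4_0 lc_a_rc_1_2 lc_a_rc_4_2 lc_a_rc_4_0 lc_a_rc_3_2 lc_a_rc_1_2 lc_a_rc_0_1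 lc_a_rc_3_2 lc_a_rc_3_2 lc_a_rc_4_2 lc_a_rc_4_2 lc_a_rc_2_2 lc_a_rc_1_0 lc_a_rc_4_2 lc_a_rc_3_2 lc_a_rc_2_2 lc_a_rc_21_0 lc_a_rc_1_2 lc_a_rc_3_2) (@D3.rec (fun _ => (Cert rels S Gen.a)) lc_a_rc_21_0 lc_a_rc_3_2 lc_a_rc_2_2 lc_a_rc_3_2 lc_a_rc_22_0 lc_a_rc_22_0 lc_a_rc_1_4 lc_a_rc_0_1 lc_a_rc_2_2 lc_a_rc_4_2 lc_a_rc_2_2 lc_a_rc_2_2 lc_a_rc_4_2 lc_a_rc_2_2 lc_a_rc_4_0 lc_a_rc_1_4 lc_a_rc_3_0 lc_a_rc_3_2 lc_a_rc_0_1 lc_a_rc_4_0 lc_a_rc_3_2 lc_a_rc_0_1 lc_a_rc_22_0 lc_a_rc_2_0 lc_a_rc_1_2 lc_a_rc_2_0 lc_a_rc_2_0 lc_a_rc_1_4 lc_a_rc_4_0 lc_a_rc_2_2 lc_a_rc_3_0 lc_a_rc_0_1 lc_a_rc_0_1 lc_a_rc_21_0 lc_a_rc_3_2 lc_a_rc_2_2 lc_a_rc_3_2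 lc_a_rc_2_2 lc_a_rc_4_2 lc_a_rc_4_2 lc_a_rc_5_2 lc_a_rc_21_0 lc_a_rc_1_0 lc_a_rc_4_2 lc_a_rc_5_2 lc_a_rc_2_0 lc_a_rc_3_0 lc_a_rc_3_2 lc_a_rc_2_2 lc_a_rc_3_2 lc_a_rc_3_0 lc_a_rc_1_4 lc_a_rc_3_2 lc_a_rc_4_2 lc_a_rc_22_0 lc_a_rc_4_2 lc_a_rc_3_2 lc_a_rc_3_2 lc_a_rc_3_0 lc_a_rc_0_1 lc_a_rc_2_2 lc_a_rc_4_2) (@D3.rec (fun _ => (Cert rels S Gen.a)) lc_a_rc_2_0 lc_a_rc_2_0 lc_a_rc_2_0 lc_a_rc_2_0 lc_a_rc_2_0 lc_a_rc_3_2 lc_a_rc_1_0 lc_a_rc_3_2 lc_a_rc_2_2 lc_a_rc_2_2 lc_a_rc_2_2 lc_a_rc_4_2 lc_a_rc_3_2 lc_a_rc_4_2 lc_a_rc_3_2 lc_a_rc_5_2 lc_a_rc_4_0 lc_a_rc_3_2 lc_a_rc_0_1 lc_a_rc_3_0 lc_a_rc_1_4 lc_a_rc_1_0 lc_a_rc_2_2 lc_a_rc_2_2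 lc_a_rc_0_1 lc_a_rc_2_2 lc_a_rc_4_2 lc_a_rc_4_2 lc_a_rc_21_0 lc_a_rc_3_2 lc_a_rc_21_0 lc_a_rc_4_2 lc_a_rc_2_2 lc_a_rc_0_1 lc_a_rc_0_1 lc_a_rc_21_0 lc_a_rc_2_0 lc_a_rc_5_2 lc_a_rc_3_2 lc_a_rc_4_2 lc_a_rc_2_0 lc_a_rc_4_2 lc_a_rc_5_0 lc_a_rc_2_0 lc_a_rc_4_0 lc_a_rc_2_0 lc_a_rc_1_4 lc_a_rc_2_0 lc_a_rc_0_1 lc_a_rc_4_0 lc_a_rc_3_2 lc_a_rc_4_2 lc_a_rc_2_0 lc_a_rc_4_0 lc_a_rc_1_0 lc_a_rc_0_1 lc_a_rc_3_2 lc_a_rc_5_0 lc_a_rc_3_0 lc_a_rc_21_0 lc_a_Cert_tree lc_a_rc_3_2) (@D3.rec (fun _ => (Cert rels S Gen.a)) lc_a_rc_5_0 lc_a_rc_4_2 lc_a_rc_4_0 lc_a_rc_21_0 lc_a_rc_0_1 lc_a_rc_3_2 lc_a_rc_2_0 lc_a_rc_4_2 lc_a_rc_3_2 lc_a_rc_2_2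 lc_a_rc_3_2 lc_a_rc_4_2 lc_a_rc_21_0 lc_a_rc_2_2 lc_a_rc_4_2 lc_a_rc_4_0 lc_a_rc_3_2 lc_a_rc_0_1 lc_a_rc_1_4 lc_a_rc_4_2 lc_a_rc_4_2 lc_a_rc_3_2 lc_a_rc_2_2 lc_a_rc_2_0 lc_a_rc_5_2 lc_a_rc_3_2 lc_a_rc_2_2 lc_a_rc_2_2 lc_a_rc_4_2 lc_a_rc_1_4 lc_a_rc_3_2 lc_a_rc_4_2 lc_a_rc_4_2 lc_a_rc_3_2 lc_a_rc_1_4 lc_a_rc_4_2 lc_a_rc_4_2 lc_a_rc_2_2 lc_a_rc_4_0 lc_a_rc_5_0 lc_a_rc_21_0 lc_a_rc_4_2 lc_a_rc_3_2 lc_a_rc_22_0 lc_a_rc_3_2 lc_a_rc_2_2 lc_a_rc_4_2 lc_a_rc_2_2 lc_a_rc_1_0 lc_a_rc_4_0 lc_a_rc_21_0 lc_a_rc_4_2 lc_a_rc_21_0 lc_a_rc_0_1 lc_a_rc_2_0 lc_a_rc_0_1 lc_a_rc_3_0 lc_a_rc_4_2 lc_a_rc_4_2 lc_a_rc_4_2 lc_a_rc_21_0 lc_a_rc_0_1)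 (@D3.rec (fun _ => (Cert rels S Gen.a)) lc_a_rc_2_0 lc_a_rc_21_0 lc_a_rc_3_2 lc_a_rc_21_0 lc_a_rc_2_2 lc_a_rc_3_2 lc_a_rc_21_0 lc_a_rc_2_2 lc_a_rc_1_0 lc_a_rc_21_0 lc_a_rc_3_0 lc_a_rc_1_0 lc_a_rc_0_1 lc_a_rc_0_1 lc_a_rc_1_4 lc_a_rc_2_2 lc_a_rc_2_0 lc_a_rc_4_0 lc_a_rc_4_2 lc_a_rc_1_0 lc_a_rc_1_4 lc_a_rc_4_2 lc_a_rc_0_1 lc_a_rc_2_2 lc_a_rc_2_2 lc_a_rc_0_1 lc_a_rc_2_0 lc_a_rc_4_2 lc_a_rc_3_2 lc_a_rc_22_0 lc_a_rc_1_4 lc_a_rc_3_2 lc_a_rc_1_2 lc_a_rc_4_2 lc_a_rc_3_0 lc_a_rc_4_2 lc_a_rc_2_2 lc_a_rc_3_2 lc_a_rc_2_0 lc_a_rc_1_2 lc_a_rc_3_2 lc_a_rc_2_0 lc_a_rc_2_0 lc_a_rc_5_2 lc_a_rc_3_2 lc_a_rc_2_2 lc_a_rc_3_2 lc_a_rc_1_4 lc_a_rc_3_2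 lc_a_rc_5_2 lc_a_rc_4_0 lc_a_rc_1_2 lc_a_rc_3_0 lc_a_rc_4_2 lc_a_rc_4_0 lc_a_rc_0_1 lc_a_rc_3_0 lc_a_rc_5_0 lc_a_rc_5_0 lc_a_rc_2_0 lc_a_rc_0_1 lc_a_rc_1_0) (@D3.rec (fun _ => (Cert rels S Gen.a)) lc_a_rc_21_0 lc_a_rc_21_0 lc_a_rc_2_0 lc_a_rc_4_2 lc_a_rc_21_0 lc_a_rc_3_2 lc_a_rc_1_4 lc_a_rc_0_1 lc_a_rc_3_2 lc_a_rc_2_2 lc_a_rc_1_0 lc_a_rc_3_2 lc_a_rc_21_0 lc_a_rc_3_2 lc_a_rc_3_2 lc_a_rc_4_2 lc_a_rc_4_2 lc_a_rc_5_2 lc_a_rc_3_2 lc_a_rc_3_2 lc_a_rc_1_2 lc_a_rc_0_1 lc_a_rc_3_2 lc_a_rc_5_2 lc_a_rc_4_2 lc_a_rc_4_2 lc_a_rc_1_0 lc_a_rc_1_0 lc_a_rc_1_2 lc_a_rc_2_2 lc_a_rc_3_2 lc_a_rc_3_2 lc_a_rc_4_2 lc_a_rc_1_0 lc_a_rc_5_2 lc_a_rc_3_2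 lc_a_rc_3_2 lc_a_rc_2_0 lc_a_rc_3_0 lc_a_rc_21_0 lc_a_rc_2_0 lc_a_rc_3_0 lc_a_rc_0_1 lc_a_rc_3_2 lc_a_rc_4_2 lc_a_rc_4_2 lc_a_rc_5_0 lc_a_rc_5_0 lc_a_rc_2_2 lc_a_rc_2_2 lc_a_rc_3_2 lc_a_rc_5_0 lc_a_rc_0_1 lc_a_rc_3_2 lc_a_rc_22_0 lc_a_rc_5_0 lc_a_rc_0_1 lc_a_rc_21_0 lc_a_rc_5_2 lc_a_rc_3_2 lc_a_rc_4_2 lc_a_rc_5_0) (@D3.rec (fun _ => (Cert rels S Gen.a)) lc_a_rc_1_4 lc_a_rc_21_0 lc_a_rc_4_2 lc_a_rc_3_2 lc_a_rc_5_2 lc_a_rc_4_2 lc_a_rc_5_0 lc_a_rc_4_2 lc_a_rc_4_2 lc_a_rc_2_2 lc_a_rc_4_2 lc_a_rc_3_0 lc_a_rc_3_2 lc_a_rc_2_2 lc_a_rc_2_2 lc_a_rc_0_1 lc_a_rc_1_2 lc_a_rc_5_2 lc_a_rc_4_2 lc_a_rc_4_2 lc_a_rc_1_2 lc_a_rc_4_2 lc_a_rc_3_0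 lc_a_rc_3_2 lc_a_rc_4_2 lc_a_rc_5_2 lc_a_rc_21_0 lc_a_rc_5_2 lc_a_rc_3_2 lc_a_rc_3_0 lc_a_rc_3_2 lc_a_rc_21_0 lc_a_rc_0_1 lc_a_rc_4_2 lc_a_rc_3_0 lc_a_rc_2_0 lc_a_rc_1_0 lc_a_rc_21_0 lc_a_rc_3_2 lc_a_rc_5_2 lc_a_rc_1_4 lc_a_rc_2_2 lc_a_rc_4_2 lc_a_rc_4_2 lc_a_rc_5_2 lc_a_rc_3_2 lc_a_rc_5_2 lc_a_rc_3_2 lc_a_rc_4_2 lc_a_rc_3_0 lc_a_rc_4_2 lc_a_rc_3_0 lc_a_rc_4_2 lc_a_rc_1_0 lc_a_rc_2_2 lc_a_rc_21_0 lc_a_rc_3_2 lc_a_rc_3_0 lc_a_rc_3_2 lc_a_rc_3_2 lc_a_rc_3_2 lc_a_rc_5_0) (@D3.rec (fun _ => (Cert rels S Gen.a)) lc_a_rc_5_2 lc_a_rc_2_2 lc_a_rc_4_0 lc_a_rc_3_0 lc_a_rc_0_1 lc_a_rc_3_2 lc_a_rc_4_2 lc_a_rc_3_2 lc_a_rc_1_2 lc_a_rc_3_2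 lc_a_rc_4_2 lc_a_rc_2_2 lc_a_rc_21_0 lc_a_rc_3_2 lc_a_rc_4_2 lc_a_rc_0_1 lc_a_rc_3_2 lc_a_rc_1_2 lc_a_rc_2_2 lc_a_rc_0_1 lc_a_rc_0_1 lc_a_rc_1_4 lc_a_rc_3_2 lc_a_rc_0_1 lc_a_rc_5_2 lc_a_rc_2_2 lc_a_rc_4_2 lc_a_rc_1_4 lc_a_rc_1_0 lc_a_rc_4_2 lc_a_rc_4_0 lc_a_rc_5_2 lc_a_rc_4_2 lc_a_rc_4_2 lc_a_rc_2_2 lc_a_rc_0_1 lc_a_rc_22_0 lc_a_rc_0_1 lc_a_rc_1_0 lc_a_rc_3_2 lc_a_rc_3_0 lc_a_rc_0_1 lc_a_rc_3_2 lc_a_rc_0_1 lc_a_rc_0_1 lc_a_rc_21_0 lc_a_rc_0_1 lc_a_rc_2_2 lc_a_rc_5_0 lc_a_rc_2_0 lc_a_rc_4_2 lc_a_rc_2_0 lc_a_rc_2_2 lc_a_rc_1_4 lc_a_rc_21_0 lc_a_rc_4_2 lc_a_rc_3_2 lc_a_rc_3_2 lc_a_rc_3_2 lc_a_rc_1_4 lc_a_rc_4_2 lc_a_rc_3_2)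 (@D3.rec (fun _ => (Cert rels S Gen.a)) lc_a_rc_4_2 lc_a_rc_3_2 lc_a_rc_3_2 lc_a_rc_3_0 lc_a_rc_1_2 lc_a_rc_4_2 lc_a_rc_1_0 lc_a_rc_0_1 lc_a_rc_2_2 lc_a_rc_4_2 lc_a_rc_4_0 lc_a_rc_2_2 lc_a_rc_1_0 lc_a_rc_1_2 lc_a_rc_4_0 lc_a_rc_2_2 lc_a_rc_3_0 lc_a_rc_5_2 lc_a_rc_21_0 lc_a_rc_1_0 lc_a_rc_1_4 lc_a_rc_4_2 lc_a_rc_2_2 lc_a_rc_4_2 lc_a_rc_2_0 lc_a_rc_2_2 lc_a_rc_0_1 lc_a_rc_4_2 lc_a_rc_0_1 lc_a_rc_3_2 lc_a_rc_2_2 lc_a_rc_4_2 lc_a_rc_3_0 lc_a_rc_0_1 lc_a_rc_3_2 lc_a_rc_3_2 lc_a_rc_0_1 lc_a_rc_1_2 lc_a_rc_4_0 lc_a_rc_1_4 lc_a_rc_1_2 lc_a_rc_2_2 lc_a_rc_0_1 lc_a_rc_3_2 lc_a_rc_4_2 lc_a_rc_4_2 lc_a_rc_5_0 lc_a_rc_3_2 lc_a_rc_21_0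 lc_a_rc_4_2 lc_a_rc_21_0 lc_a_rc_5_0 lc_a_rc_1_4 lc_a_rc_2_0 lc_a_rc_0_1 lc_a_rc_2_2 lc_a_rc_21_0 lc_a_rc_1_2 lc_a_rc_2_0 lc_a_rc_21_0 lc_a_rc_3_2 lc_a_rc_4_0) (@D3.rec (fun _ => (Cert rels S Gen.a)) lc_a_rc_21_0 lc_a_rc_4_0 lc_a_rc_2_2 lc_a_rc_0_1 lc_a_rc_0_1 lc_a_rc_21_0 lc_a_rc_21_0 lc_a_rc_0_1 lc_a_rc_1_2 lc_a_rc_3_2 lc_a_rc_5_2 lc_a_rc_3_2 lc_a_rc_21_0 lc_a_rc_0_1 lc_a_rc_4_2 lc_a_rc_22_0 lc_a_rc_1_2 lc_a_rc_21_0 lc_a_rc_3_2 lc_a_rc_0_1 lc_a_rc_4_2 lc_a_rc_5_0 lc_a_rc_5_2 lc_a_rc_1_4 lc_a_rc_2_2 lc_a_rc_2_2 lc_a_rc_3_0 lc_a_rc_21_0 lc_a_rc_2_0 lc_a_rc_1_0 lc_a_rc_0_1 lc_a_rc_2_2 lc_a_rc_3_2 lc_a_rc_2_2 lc_a_rc_21_0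 lc_a_rc_4_0 lc_a_rc_2_2 lc_a_rc_4_2 lc_a_rc_5_0 lc_a_rc_0_1 lc_a_rc_0_1 lc_a_rc_4_2 lc_a_rc_21_0 lc_a_rc_2_2 lc_a_rc_22_0 lc_a_rc_4_2 lc_a_rc_2_2 lc_a_rc_4_2 lc_a_rc_2_0 lc_a_rc_3_2 lc_a_rc_2_2 lc_a_rc_5_0 lc_a_rc_0_1 lc_a_rc_3_2 lc_a_rc_1_4 lc_a_rc_2_0 lc_a_rc_0_1 lc_a_rc_1_4 lc_a_rc_3_0 lc_a_rc_1_2 lc_a_rc_3_2 lc_a_rc_4_2) (@D3.rec (fun _ => (Cert rels S Gen.a)) lc_a_rc_2_2 lc_a_rc_0_1 lc_a_rc_1_4 lc_a_rc_2_0 lc_a_rc_5_2 lc_a_rc_22_0 lc_a_rc_0_1 lc_a_rc_0_1 lc_a_rc_4_2 lc_a_rc_4_0 lc_a_rc_0_1 lc_a_rc_0_1 lc_a_rc_0_1 lc_a_rc_3_0 lc_a_rc_0_1 lc_a_rc_0_1 lc_a_rc_2_0 lc_a_rc_4_2 lc_a_rc_2_2 lc_a_rc_2_2 lc_a_rc_3_0 lc_a_rc_5_2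 lc_a_rc_4_2 lc_a_rc_0_1 lc_a_rc_4_2 lc_a_rc_2_2 lc_a_rc_4_2 lc_a_rc_0_1 lc_a_rc_5_0 lc_a_rc_5_2 lc_a_rc_0_1 lc_a_rc_2_2 lc_a_rc_3_0 lc_a_rc_2_2 lc_a_rc_0_1 lc_a_rc_2_0 lc_a_rc_5_2 lc_a_rc_4_2 lc_a_rc_1_2 lc_a_rc_1_4 lc_a_rc_3_0 lc_a_rc_0_1 lc_a_rc_3_2 lc_a_rc_5_2 lc_a_rc_0_1 lc_a_rc_0_1 lc_a_rc_3_2 lc_a_rc_3_2 lc_a_rc_4_2 lc_a_rc_4_0 lc_a_rc_3_2 lc_a_rc_21_0 lc_a_rc_21_0 lc_a_rc_0_1 lc_a_rc_5_0 lc_a_rc_2_2 lc_a_rc_2_2 lc_a_rc_3_2 lc_a_rc_1_4 lc_a_rc_1_0 lc_a_rc_0_1 lc_a_rc_21_0) (@D3.rec (fun _ => (Cert rels S Gen.a)) lc_a_rc_4_2 lc_a_rc_3_2 lc_a_rc_3_2 lc_a_rc_2_2 lc_a_rc_2_0 lc_a_rc_4_2 lc_a_rc_2_0 lc_a_rc_0_1 lc_a_rc_4_2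 lc_a_rc_4_2 lc_a_rc_22_0 lc_a_rc_0_1 lc_a_rc_5_2 lc_a_rc_2_0 lc_a_rc_2_2 lc_a_rc_22_0 lc_a_rc_4_2 lc_a_rc_4_2 lc_a_rc_4_2 lc_a_rc_2_0 lc_a_rc_0_1 lc_a_rc_1_2 lc_a_rc_4_0 lc_a_rc_3_2 lc_a_rc_3_2 lc_a_rc_4_2 lc_a_rc_0_1 lc_a_rc_3_0 lc_a_rc_0_1 lc_a_rc_1_4 lc_a_rc_3_0 lc_a_rc_1_4 lc_a_rc_2_0 lc_a_rc_0_1 lc_a_rc_2_0 lc_a_rc_1_4 lc_a_rc_4_0 lc_a_rc_2_0 lc_a_rc_2_2 lc_a_rc_0_1 lc_a_rc_1_4 lc_a_rc_0_1 lc_a_rc_3_2 lc_a_rc_1_4 lc_a_rc_1_2 lc_a_rc_2_2 lc_a_rc_2_0 lc_a_rc_2_2 lc_a_rc_21_0 lc_a_rc_3_2 lc_a_rc_2_0 lc_a_rc_4_2 lc_a_rc_2_0 lc_a_rc_3_2 lc_a_rc_2_2 lc_a_rc_2_2 lc_a_rc_4_2 lc_a_rc_0_1 lc_a_rc_21_0 lc_a_rc_0_1 lc_a_rc_4_2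 lc_a_rc_2_2) (@D3.rec (fun _ => (Cert rels S Gen.a)) lc_a_rc_2_0 lc_a_rc_2_0 lc_a_rc_2_2 lc_a_rc_5_2 lc_a_rc_0_1 lc_a_rc_2_2 lc_a_rc_2_2 lc_a_rc_3_0 lc_a_rc_2_2 lc_a_rc_2_0 lc_a_rc_2_0 lc_a_rc_2_0 lc_a_rc_1_0 lc_a_rc_4_2 lc_a_rc_3_2 lc_a_rc_2_0 lc_a_rc_2_2 lc_a_rc_21_0 lc_a_rc_1_4 lc_a_rc_0_1 lc_a_rc_3_0 lc_a_rc_2_2 lc_a_rc_4_2 lc_a_rc_4_0 lc_a_rc_4_0 lc_a_rc_3_0 lc_a_rc_4_0 lc_a_rc_2_2 lc_a_rc_3_0 lc_a_rc_0_1 lc_a_rc_22_0 lc_a_rc_4_2 lc_a_rc_1_4 lc_a_rc_2_2 lc_a_rc_22_0 lc_a_rc_2_2 lc_a_rc_4_0 lc_a_rc_3_0 lc_a_rc_0_1 lc_a_rc_4_2 lc_a_rc_2_0 lc_a_rc_2_2 lc_a_rc_3_2 lc_a_rc_3_2 lc_a_rc_2_2 lc_a_rc_3_2 lc_a_rc_2_0 lc_a_rc_22_0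 lc_a_rc_3_2 lc_a_rc_1_2 lc_a_rc_1_0 lc_a_rc_4_2 lc_a_rc_3_0 lc_a_rc_2_2 lc_a_rc_3_2 lc_a_rc_0_1 lc_a_rc_3_2 lc_a_rc_2_2 lc_a_rc_0_1 lc_a_rc_0_1 lc_a_rc_3_2 lc_a_rc_2_2)
def ce_a_31 : D2 → D3 → (Cert rels S Gen.a) := @D2.rec (fun _ => D3 → (Cert rels S Gen.a)) (@D3.rec (fun _ => (Cert rels S Gen.a)) lc_a_rc_3_0 lc_a_rc_1_2 lc_a_rc_4_2 lc_a_rc_1_4 lc_a_rc_3_0 lc_a_rc_21_0 lc_a_rc_0_1 lc_a_rc_4_2 lc_a_rc_1_0 lc_a_rc_22_0 lc_a_rc_22_0 lc_a_rc_4_2 lc_a_rc_2_2 lc_a_rc_22_0 lc_a_rc_21_0 lc_a_rc_2_2 lc_a_rc_21_0 lc_a_rc_3_2 lc_a_rc_5_2 lc_a_rc_3_2 lc_a_rc_22_0 lc_a_rc_4_2 lc_a_rc_0_1 lc_a_rc_3_0 lc_a_rc_4_0 lc_a_rc_0_1 lc_a_rc_0_1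 lc_a_rc_1_2 lc_a_rc_4_2 lc_a_rc_2_2 lc_a_rc_4_2 lc_a_rc_4_2 lc_a_rc_3_2 lc_a_rc_2_2 lc_a_rc_5_2 lc_a_rc_2_0 lc_a_rc_1_0 lc_a_rc_3_2 lc_a_rc_2_0 lc_a_rc_0_1 lc_a_rc_5_2 lc_a_rc_2_2 lc_a_rc_3_2 lc_a_rc_0_1 lc_a_rc_3_2 lc_a_rc_4_2 lc_a_rc_4_2 lc_a_rc_4_2 lc_a_rc_1_0 lc_a_rc_5_2 lc_a_rc_4_2 lc_a_rc_21_0 lc_a_rc_2_2 lc_a_rc_0_1 lc_a_rc_1_4 lc_a_rc_0_1 lc_a_rc_2_2 lc_a_rc_3_2 lc_a_rc_1_0 lc_a_rc_2_2 lc_a_rc_1_2 lc_a_rc_3_2) (@D3.rec (fun _ => (Cert rels S Gen.a)) lc_a_rc_2_2 lc_a_rc_2_0 lc_a_rc_3_2 lc_a_rc_5_0 lc_a_rc_1_2 lc_a_rc_2_0 lc_a_rc_5_2 lc_a_rc_0_1 lc_a_rc_4_2 lc_a_rc_3_2 lc_a_rc_21_0 lc_a_rc_3_2 lc_a_rc_21_0 lc_a_rc_3_2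 lc_a_rc_4_2 lc_a_rc_3_0 lc_a_rc_22_0 lc_a_rc_21_0 lc_a_rc_0_1 lc_a_rc_1_0 lc_a_rc_2_0 lc_a_rc_0_1 lc_a_rc_2_2 lc_a_rc_1_0 lc_a_rc_2_0 lc_a_rc_0_1 lc_a_rc_4_0 lc_a_rc_3_0 lc_a_rc_2_0 lc_a_rc_4_0 lc_a_rc_4_2 lc_a_rc_3_0 lc_a_rc_2_2 lc_a_rc_4_2 lc_a_rc_4_2 lc_a_rc_4_0 lc_a_rc_3_2 lc_a_rc_2_2 lc_a_rc_4_2 lc_a_rc_4_2 lc_a_rc_1_4 lc_a_rc_4_2 lc_a_rc_4_2 lc_a_rc_2_0 lc_a_rc_3_2 lc_a_rc_2_2 lc_a_rc_3_2 lc_a_rc_3_2 lc_a_rc_4_2 lc_a_rc_2_2 lc_a_rc_4_2 lc_a_rc_4_2 lc_a_rc_0_1 lc_a_rc_2_2 lc_a_rc_3_2 lc_a_rc_1_4 lc_a_rc_3_2 lc_a_rc_3_0 lc_a_rc_4_0 lc_a_rc_0_1 lc_a_rc_21_0 lc_a_rc_2_2) (@D3.rec (fun _ => (Cert rels S Gen.a)) lc_a_rc_5_2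 lc_a_rc_21_0 lc_a_rc_2_2 lc_a_Cert_tree lc_a_rc_3_2 lc_a_rc_3_0 lc_a_rc_3_2 lc_a_rc_22_0 lc_a_rc_5_2 lc_a_rc_2_2 lc_a_rc_3_2 lc_a_rc_5_0 lc_a_rc_5_0 lc_a_rc_0_1 lc_a_rc_21_0 lc_a_rc_3_2 lc_a_rc_2_2 lc_a_rc_1_2 lc_a_rc_3_2 lc_a_rc_3_2 lc_a_rc_3_0 lc_a_rc_2_0 lc_a_rc_22_0 lc_a_rc_3_0 lc_a_rc_3_0 lc_a_rc_2_2 lc_a_rc_2_2 lc_a_rc_4_2 lc_a_rc_5_2 lc_a_rc_4_2 lc_a_rc_2_2 lc_a_rc_3_2 lc_a_rc_2_2 lc_a_rc_5_2 lc_a_rc_0_1 lc_a_rc_0_1 lc_a_rc_2_2 lc_a_rc_3_2 lc_a_rc_2_2 lc_a_rc_3_2 lc_a_rc_4_0 lc_a_rc_21_0 lc_a_rc_4_2 lc_a_rc_5_2 lc_a_rc_21_0 lc_a_rc_0_1 lc_a_rc_0_1 lc_a_rc_3_2 lc_a_rc_2_2 lc_a_rc_1_2 lc_a_rc_2_2 lc_a_rc_2_2 lc_a_rc_3_2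 lc_a_rc_22_0 lc_a_rc_4_2 lc_a_rc_3_2 lc_a_rc_21_0 lc_a_rc_21_0 lc_a_rc_4_2 lc_a_rc_5_0 lc_a_rc_0_1 lc_a_rc_1_4) (@D3.rec (fun _ => (Cert rels S Gen.a)) lc_a_rc_0_1 lc_a_rc_3_2 lc_a_rc_2_2 lc_a_rc_4_2 lc_a_rc_21_0 lc_a_rc_1_2 lc_a_rc_3_2 lc_a_rc_4_2 lc_a_rc_4_0 lc_a_rc_1_0 lc_a_rc_21_0 lc_a_rc_21_0 lc_a_rc_3_2 lc_a_rc_2_2 lc_a_rc_0_1 lc_a_rc_0_1 lc_a_rc_1_4 lc_a_rc_21_0 lc_a_rc_5_2 lc_a_Cert_tree lc_a_rc_3_0 lc_a_rc_3_0 lc_a_rc_0_1 lc_a_rc_2_0 lc_a_rc_3_2 lc_a_rc_0_1 lc_a_rc_4_2 lc_a_rc_2_2 lc_a_rc_4_2 lc_a_rc_4_2 lc_a_rc_2_2 lc_a_rc_2_2 lc_a_rc_2_2 lc_a_rc_4_2 lc_a_rc_4_2 lc_a_rc_2_2 lc_a_rc_5_0 lc_a_rc_2_2 lc_a_rc_4_2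 lc_a_rc_3_0 lc_a_rc_1_2 lc_a_rc_22_0 lc_a_rc_4_2 lc_a_rc_2_2 lc_a_rc_1_4 lc_a_rc_1_4 lc_a_rc_21_0 lc_a_rc_2_2 lc_a_rc_2_0 lc_a_rc_3_2 lc_a_rc_2_2 lc_a_rc_1_4 lc_a_rc_4_2 lc_a_rc_4_2 lc_a_rc_2_0 lc_a_rc_3_2 lc_a_rc_4_2 lc_a_rc_2_2 lc_a_rc_2_2 lc_a_rc_2_2 lc_a_rc_3_0 lc_a_rc_4_2) (@D3.rec (fun _ => (Cert rels S Gen.a)) lc_a_rc_5_2 lc_a_rc_1_4 lc_a_rc_21_0 lc_a_rc_3_2 lc_a_rc_5_2 lc_a_rc_1_4 lc_a_rc_1_2 lc_a_rc_3_0 lc_a_rc_4_2 lc_a_rc_4_0 lc_a_rc_4_2 lc_a_rc_5_0 lc_a_rc_3_0 lc_a_rc_3_2 lc_a_rc_0_1 lc_a_rc_4_2 lc_a_rc_4_2 lc_a_Cert_tree lc_a_rc_2_2 lc_a_rc_0_1 lc_a_rc_0_1 lc_a_rc_3_0 lc_a_rc_5_2 lc_a_rc_0_1 lc_a_rc_4_2 lc_a_rc_21_0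 lc_a_rc_3_0 lc_a_rc_0_1 lc_a_rc_21_0 lc_a_rc_3_0 lc_a_rc_1_2 lc_a_rc_3_2 lc_a_rc_4_2 lc_a_rc_4_2 lc_a_rc_5_0 lc_a_rc_0_1 lc_a_rc_1_4 lc_a_rc_0_1 lc_a_rc_4_2 lc_a_rc_2_2 lc_a_rc_2_2 lc_a_rc_3_2 lc_a_rc_2_0 lc_a_rc_3_0 lc_a_rc_3_0 lc_a_rc_3_0 lc_a_rc_5_0 lc_a_rc_4_2 lc_a_rc_4_2 lc_a_rc_3_2 lc_a_rc_5_2 lc_a_rc_0_1 lc_a_rc_2_0 lc_a_rc_5_2 lc_a_rc_4_0 lc_a_rc_5_2 lc_a_rc_3_2 lc_a_rc_3_2 lc_a_rc_3_2 lc_a_rc_2_2 lc_a_rc_3_2 lc_a_rc_2_2) (@D3.rec (fun _ => (Cert rels S Gen.a)) lc_a_rc_4_2 lc_a_rc_1_4 lc_a_rc_1_2 lc_a_rc_0_1 lc_a_rc_4_0 lc_a_rc_4_0 lc_a_rc_2_2 lc_a_rc_2_2 lc_a_rc_4_2 lc_a_rc_2_2 lc_a_rc_0_1 lc_a_rc_2_0 lc_a_rc_3_2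 lc_a_rc_3_0 lc_a_rc_0_1 lc_a_rc_2_2 lc_a_rc_4_2 lc_a_rc_2_2 lc_a_rc_3_2 lc_a_rc_21_0 lc_a_rc_4_2 lc_a_rc_3_0 lc_a_rc_2_2 lc_a_rc_4_2 lc_a_rc_0_1 lc_a_rc_5_2 lc_a_rc_1_2 lc_a_rc_1_2 lc_a_rc_4_2 lc_a_rc_3_2 lc_a_rc_2_2 lc_a_rc_4_2 lc_a_rc_2_0 lc_a_rc_2_2 lc_a_rc_2_2 lc_a_rc_1_2 lc_a_rc_21_0 lc_a_rc_0_1 lc_a_rc_0_1 lc_a_rc_2_0 lc_a_rc_4_2 lc_a_rc_1_2 lc_a_rc_3_2 lc_a_rc_2_2 lc_a_rc_0_1 lc_a_rc_2_2 lc_a_rc_1_4 lc_a_rc_3_0 lc_a_rc_21_0 lc_a_rc_2_2 lc_a_rc_3_2 lc_a_rc_3_0 lc_a_rc_2_0 lc_a_rc_5_0 lc_a_rc_5_2 lc_a_rc_22_0 lc_a_rc_21_0 lc_a_rc_4_0 lc_a_rc_2_0 lc_a_rc_5_0 lc_a_rc_4_2 lc_a_rc_3_0) (@D3.rec (fun _ => (Cert rels S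 Gen.a)) lc_a_rc_2_0 lc_a_rc_4_0 lc_a_rc_3_2 lc_a_rc_21_0 lc_a_rc_3_2 lc_a_rc_2_0 lc_a_rc_1_0 lc_a_rc_22_0 lc_a_rc_4_2 lc_a_rc_4_2 lc_a_rc_2_0 lc_a_rc_3_2 lc_a_rc_4_2 lc_a_rc_3_2 lc_a_rc_1_2 lc_a_rc_3_2 lc_a_rc_2_0 lc_a_rc_4_2 lc_a_rc_0_1 lc_a_rc_4_2 lc_a_rc_2_0 lc_a_rc_3_2 lc_a_rc_2_2 lc_a_rc_0_1 lc_a_rc_1_4 lc_a_rc_22_0 lc_a_rc_3_0 lc_a_rc_22_0 lc_a_rc_2_0 lc_a_rc_2_0 lc_a_rc_4_0 lc_a_rc_2_0 lc_a_rc_2_2 lc_a_rc_4_2 lc_a_rc_2_2 lc_a_rc_1_0 lc_a_rc_22_0 lc_a_rc_2_0 lc_a_rc_2_0 lc_a_rc_1_0 lc_a_rc_21_0 lc_a_rc_1_2 lc_a_rc_4_2 lc_a_rc_4_0 lc_a_rc_4_0 lc_a_rc_3_2 lc_a_rc_1_0 lc_a_rc_0_1 lc_a_rc_1_2 lc_a_rc_21_0 lc_a_rc_4_2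 lc_a_rc_4_2 lc_a_rc_0_1 lc_a_rc_4_2 lc_a_rc_0_1 lc_a_rc_3_2 lc_a_rc_2_2 lc_a_rc_2_0 lc_a_rc_0_1 lc_a_rc_4_2 lc_a_rc_0_1 lc_a_rc_3_0) (@D3.rec (fun _ => (Cert rels S Gen.a)) lc_a_rc_0_1 lc_a_rc_2_2 lc_a_rc_2_2 lc_a_rc_0_1 lc_a_rc_3_2 lc_a_rc_2_0 lc_a_rc_5_2 lc_a_rc_1_0 lc_a_rc_2_2 lc_a_rc_0_1 lc_a_rc_3_2 lc_a_rc_21_0 lc_a_rc_5_2 lc_a_rc_22_0 lc_a_rc_2_2 lc_a_rc_3_0 lc_a_rc_3_2 lc_a_rc_2_0 lc_a_rc_21_0 lc_a_rc_4_2 lc_a_rc_21_0 lc_a_rc_3_2 lc_a_rc_1_2 lc_a_rc_4_0 lc_a_rc_3_0 lc_a_rc_4_2 lc_a_rc_2_0 lc_a_rc_3_2 lc_a_rc_2_2 lc_a_rc_3_2 lc_a_rc_2_2 lc_a_rc_3_2 lc_a_rc_4_2 lc_a_rc_3_0 lc_a_rc_5_2 lc_a_rc_4_2 lc_a_rc_4_0 lc_a_rc_4_0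 lc_a_rc_4_2 lc_a_rc_3_0 lc_a_rc_3_2 lc_a_rc_0_1 lc_a_rc_1_4 lc_a_rc_4_2 lc_a_rc_1_4 lc_a_rc_2_2 lc_a_rc_0_1 lc_a_rc_3_2 lc_a_rc_5_0 lc_a_rc_2_2 lc_a_rc_3_2 lc_a_rc_3_2 lc_a_rc_3_2 lc_a_rc_4_2 lc_a_rc_3_2 lc_a_rc_1_0 lc_a_rc_1_4 lc_a_rc_3_2 lc_a_rc_3_2 lc_a_rc_5_0 lc_a_rc_3_2 lc_a_rc_4_0) (@D3.rec (fun _ => (Cert rels S Gen.a)) lc_a_rc_3_2 lc_a_rc_2_2 lc_a_rc_3_2 lc_a_rc_3_2 lc_a_rc_4_2 lc_a_rc_1_2 lc_a_rc_0_1 lc_a_rc_2_2 lc_a_rc_5_2 lc_a_rc_3_0 lc_a_rc_2_2 lc_a_rc_1_0 lc_a_rc_1_0 lc_a_rc_0_1 lc_a_rc_3_2 lc_a_rc_2_2 lc_a_rc_21_0 lc_a_rc_5_0 lc_a_rc_3_0 lc_a_rc_3_0 lc_a_rc_3_0 lc_a_rc_2_2 lc_a_rc_2_2 lc_a_rc_21_0 lc_a_rc_2_2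 lc_a_rc_2_2 lc_a_rc_4_2 lc_a_rc_4_2 lc_a_rc_0_1 lc_a_rc_2_2 lc_a_rc_2_0 lc_a_rc_0_1 lc_a_rc_0_1 lc_a_rc_0_1 lc_a_rc_21_0 lc_a_rc_3_2 lc_a_rc_2_2 lc_a_rc_4_2 lc_a_rc_5_0 lc_a_rc_4_2 lc_a_rc_0_1 lc_a_rc_3_2 lc_a_rc_5_2 lc_a_rc_4_2 lc_a_rc_3_2 lc_a_rc_5_0 lc_a_rc_4_0 lc_a_rc_1_2 lc_a_rc_3_2 lc_a_rc_0_1 lc_a_rc_2_2 lc_a_rc_4_2 lc_a_rc_21_0 lc_a_rc_22_0 lc_a_rc_0_1 lc_a_rc_21_0 lc_a_rc_3_2 lc_a_rc_4_2 lc_a_rc_5_0 lc_a_rc_3_2 lc_a_rc_4_0 lc_a_rc_21_0) (@D3.rec (fun _ => (Cert rels S Gen.a)) lc_a_rc_4_2 lc_a_rc_3_0 lc_a_rc_2_0 lc_a_rc_5_2 lc_a_rc_2_0 lc_a_rc_1_4 lc_a_rc_4_0 lc_a_rc_1_2 lc_a_rc_1_2 lc_a_rc_4_2 lc_a_rc_1_4 lc_a_rc_2_2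 lc_a_rc_2_2 lc_a_rc_4_2 lc_a_rc_2_2 lc_a_rc_3_2 lc_a_rc_4_2 lc_a_rc_1_2 lc_a_rc_4_2 lc_a_rc_2_2 lc_a_rc_3_2 lc_a_rc_0_1 lc_a_rc_5_2 lc_a_rc_4_0 lc_a_rc_1_2 lc_a_rc_4_0 lc_a_rc_5_2 lc_a_rc_4_2 lc_a_rc_3_2 lc_a_rc_21_0 lc_a_rc_3_0 lc_a_rc_21_0 lc_a_rc_3_2 lc_a_rc_5_2 lc_a_rc_2_2 lc_a_rc_4_2 lc_a_rc_3_0 lc_a_rc_2_0 lc_a_rc_0_1 lc_a_rc_2_2 lc_a_rc_4_2 lc_a_rc_3_2 lc_a_rc_4_2 lc_a_rc_0_1 lc_a_rc_0_1 lc_a_rc_3_2 lc_a_rc_0_1 lc_a_rc_0_1 lc_a_rc_5_2 lc_a_rc_2_0 lc_a_rc_2_2 lc_a_rc_0_1 lc_a_rc_1_4 lc_a_rc_1_4 lc_a_rc_4_2 lc_a_rc_2_2 lc_a_rc_1_0 lc_a_rc_3_2 lc_a_rc_2_2 lc_a_rc_0_1 lc_a_rc_3_0 lc_a_rc_21_0) (@D3.rec (fun _ => (Cert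 rels S Gen.a)) lc_a_rc_3_2 lc_a_rc_2_2 lc_a_rc_3_0 lc_a_rc_0_1 lc_a_rc_3_2 lc_a_rc_21_0 lc_a_rc_5_0 lc_a_rc_5_2 lc_a_rc_22_0 lc_a_rc_21_0 lc_a_rc_2_2 lc_a_rc_3_0 lc_a_rc_2_2 lc_a_rc_4_2 lc_a_rc_21_0 lc_a_rc_2_2 lc_a_rc_3_2 lc_a_rc_0_1 lc_a_rc_5_0 lc_a_rc_21_0 lc_a_rc_0_1 lc_a_rc_5_2 lc_a_rc_4_2 lc_a_rc_4_2 lc_a_rc_4_2 lc_a_rc_1_0 lc_a_rc_3_2 lc_a_rc_3_2 lc_a_rc_4_2 lc_a_rc_0_1 lc_a_rc_3_2 lc_a_rc_0_1 lc_a_rc_2_2 lc_a_rc_5_2 lc_a_rc_21_0 lc_a_rc_5_0 lc_a_rc_4_2 lc_a_rc_2_2 lc_a_rc_3_0 lc_a_rc_1_0 lc_a_rc_2_2 lc_a_rc_21_0 lc_a_rc_2_2 lc_a_rc_2_2 lc_a_rc_5_2 lc_a_rc_22_0 lc_a_rc_5_2 lc_a_rc_5_2 lc_a_rc_5_2 lc_a_rc_2_2 lc_a_rc_2_2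 lc_a_rc_4_0 lc_a_rc_21_0 lc_a_rc_5_2 lc_a_rc_3_2 lc_a_rc_3_0 lc_a_rc_3_2 lc_a_rc_21_0 lc_a_rc_0_1 lc_a_rc_3_2 lc_a_rc_2_2 lc_a_rc_2_2) (@D3.rec (fun _ => (Cert rels S Gen.a)) lc_a_rc_4_2 lc_a_rc_3_2 lc_a_rc_5_2 lc_a_rc_21_0 lc_a_rc_4_2 lc_a_rc_2_2 lc_a_rc_22_0 lc_a_rc_3_0 lc_a_rc_3_2 lc_a_rc_2_2 lc_a_rc_3_2 lc_a_rc_4_2 lc_a_rc_0_1 lc_a_rc_2_0 lc_a_rc_22_0 lc_a_rc_0_1 lc_a_rc_2_2 lc_a_rc_21_0 lc_a_rc_3_2 lc_a_rc_0_1 lc_a_rc_21_0 lc_a_rc_2_2 lc_a_rc_5_2 lc_a_rc_2_2 lc_a_rc_2_2 lc_a_rc_1_2 lc_a_rc_2_2 lc_a_rc_3_2 lc_a_rc_3_0 lc_a_rc_4_0 lc_a_rc_5_0 lc_a_rc_22_0 lc_a_rc_4_2 lc_a_rc_3_2 lc_a_rc_4_0 lc_a_rc_2_2 lc_a_rc_22_0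 lc_a_rc_2_2 lc_a_rc_4_0 lc_a_rc_2_0 lc_a_rc_1_4 lc_a_rc_3_2 lc_a_rc_5_2 lc_a_rc_2_2 lc_a_rc_3_2 lc_a_rc_3_0 lc_a_rc_4_2 lc_a_rc_3_2 lc_a_rc_1_4 lc_a_rc_2_2 lc_a_rc_3_2 lc_a_rc_4_2 lc_a_rc_2_2 lc_a_rc_5_2 lc_a_rc_2_2 lc_a_rc_3_2 lc_a_rc_0_1 lc_a_rc_0_1 lc_a_rc_4_2 lc_a_rc_21_0 lc_a_rc_3_2 lc_a_rc_3_2) (@D3.rec (fun _ => (Cert rels S Gen.a)) lc_a_rc_2_0 lc_a_rc_21_0 lc_a_rc_4_0 lc_a_rc_3_2 lc_a_rc_2_0 lc_a_rc_3_2 lc_a_rc_2_0 lc_a_rc_3_2 lc_a_rc_2_0 lc_a_rc_0_1 lc_a_rc_0_1 lc_a_rc_5_2 lc_a_rc_4_2 lc_a_rc_4_2 lc_a_rc_1_4 lc_a_rc_3_0 lc_a_rc_21_0 lc_a_rc_22_0 lc_a_rc_5_0 lc_a_rc_22_0 lc_a_rc_3_2 lc_a_rc_2_2 lc_a_rc_3_0 lc_a_rc_3_0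 lc_a_rc_2_2 lc_a_rc_4_2 lc_a_rc_2_2 lc_a_rc_0_1 lc_a_rc_3_2 lc_a_rc_4_2 lc_a_rc_4_2 lc_a_rc_3_2 lc_a_rc_22_0 lc_a_rc_5_0 lc_a_rc_4_2 lc_a_rc_1_4 lc_a_rc_5_0 lc_a_rc_4_2 lc_a_rc_3_2 lc_a_rc_4_0 lc_a_rc_3_2 lc_a_rc_5_2 lc_a_rc_4_2 lc_a_rc_1_0 lc_a_rc_3_2 lc_a_rc_5_2 lc_a_rc_3_0 lc_a_rc_3_0 lc_a_rc_22_0 lc_a_rc_21_0 lc_a_rc_5_2 lc_a_rc_2_2 lc_a_rc_3_2 lc_a_rc_1_2 lc_a_rc_2_0 lc_a_rc_3_2 lc_a_rc_2_2 lc_a_rc_3_2 lc_a_rc_4_2 lc_a_rc_3_2 lc_a_rc_4_0 lc_a_rc_4_0) (@D3.rec (fun _ => (Cert rels S Gen.a)) lc_a_rc_2_2 lc_a_rc_2_2 lc_a_rc_2_2 lc_a_rc_4_0 lc_a_rc_3_2 lc_a_rc_3_2 lc_a_rc_4_2 lc_a_rc_2_2 lc_a_rc_4_2 lc_a_rc_4_0 lc_a_rc_21_0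 lc_a_rc_3_2 lc_a_rc_2_2 lc_a_rc_21_0 lc_a_rc_3_0 lc_a_rc_21_0 lc_a_rc_0_1 lc_a_rc_2_0 lc_a_rc_0_1 lc_a_rc_4_2 lc_a_rc_2_2 lc_a_rc_2_2 lc_a_rc_0_1 lc_a_rc_22_0 lc_a_rc_0_1 lc_a_rc_4_2 lc_a_Cert_tree lc_a_rc_3_2 lc_a_rc_4_2 lc_a_rc_21_0 lc_a_rc_2_2 lc_a_rc_21_0 lc_a_rc_4_2 lc_a_rc_4_2 lc_a_rc_2_2 lc_a_rc_4_0 lc_a_rc_2_0 lc_a_rc_22_0 lc_a_rc_1_2 lc_a_rc_21_0 lc_a_rc_4_0 lc_a_rc_2_0 lc_a_rc_2_2 lc_a_rc_2_2 lc_a_rc_0_1 lc_a_rc_5_2 lc_a_rc_2_2 lc_a_rc_2_0 lc_a_rc_0_1 lc_a_rc_1_4 lc_a_rc_21_0 lc_a_rc_22_0 lc_a_rc_1_4 lc_a_rc_4_2 lc_a_rc_4_2 lc_a_rc_4_2 lc_a_Cert_tree lc_a_rc_22_0 lc_a_rc_4_2 lc_a_rc_0_1 lc_a_rc_4_2 lc_a_rc_4_2)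 (@D3.rec (fun _ => (Cert rels S Gen.a)) lc_a_rc_3_0 lc_a_rc_2_2 lc_a_rc_2_2 lc_a_rc_0_1 lc_a_rc_1_2 lc_a_rc_22_0 lc_a_rc_1_4 lc_a_rc_4_2 lc_a_rc_3_0 lc_a_rc_2_2 lc_a_rc_0_1 lc_a_rc_21_0 lc_a_rc_3_2 lc_a_rc_3_2 lc_a_rc_0_1 lc_a_rc_2_2 lc_a_rc_21_0 lc_a_rc_2_0 lc_a_rc_3_2 lc_a_rc_2_2 lc_a_rc_1_0 lc_a_rc_1_0 lc_a_rc_2_2 lc_a_rc_2_2 lc_a_rc_4_0 lc_a_rc_3_0 lc_a_rc_2_2 lc_a_rc_4_0 lc_a_rc_2_2 lc_a_rc_2_0 lc_a_rc_2_0 lc_a_rc_3_0 lc_a_rc_4_2 lc_a_rc_3_2 lc_a_rc_4_2 lc_a_rc_3_2 lc_a_rc_3_0 lc_a_rc_5_2 lc_a_rc_1_4 lc_a_rc_3_2 lc_a_rc_2_0 lc_a_rc_4_0 lc_a_rc_0_1 lc_a_rc_21_0 lc_a_rc_2_2 lc_a_rc_4_2 lc_a_rc_4_2 lc_a_rc_1_0 lc_a_rc_3_2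 lc_a_rc_4_2 lc_a_rc_5_2 lc_a_rc_1_0 lc_a_rc_3_0 lc_a_rc_4_2 lc_a_rc_2_2 lc_a_rc_0_1 lc_a_rc_1_0 lc_a_rc_4_0 lc_a_rc_0_1 lc_a_rc_1_4 lc_a_rc_5_0 lc_a_rc_2_2) (@D3.rec (fun _ => (Cert rels S Gen.a)) lc_a_rc_4_2 lc_a_rc_0_1 lc_a_rc_0_1 lc_a_rc_4_2 lc_a_rc_3_2 lc_a_rc_3_0 lc_a_rc_0_1 lc_a_rc_3_0 lc_a_rc_4_0 lc_a_rc_21_0 lc_a_rc_2_2 lc_a_rc_3_2 lc_a_rc_0_1 lc_a_rc_2_2 lc_a_rc_5_2 lc_a_rc_4_2 lc_a_rc_5_0 lc_a_rc_21_0 lc_a_rc_2_2 lc_a_rc_2_2 lc_a_rc_0_1 lc_a_Cert_tree lc_a_rc_4_0 lc_a_rc_3_2 lc_a_rc_0_1 lc_a_rc_4_2 lc_a_rc_1_2 lc_a_rc_2_2 lc_a_rc_3_2 lc_a_rc_4_2 lc_a_rc_1_2 lc_a_rc_4_2 lc_a_rc_2_2 lc_a_rc_4_0 lc_a_rc_3_0 lc_a_rc_0_1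 lc_a_rc_0_1 lc_a_rc_0_1 lc_a_rc_0_1 lc_a_rc_4_2 lc_a_rc_0_1 lc_a_rc_5_2 lc_a_rc_3_2 lc_a_rc_4_2 lc_a_rc_3_2 lc_a_rc_4_2 lc_a_rc_3_2 lc_a_rc_1_2 lc_a_rc_3_0 lc_a_rc_4_2 lc_a_rc_4_2 lc_a_rc_4_2 lc_a_rc_2_0 lc_a_rc_3_0 lc_a_rc_0_1 lc_a_rc_3_2 lc_a_rc_4_2 lc_a_rc_2_0 lc_a_rc_2_0 lc_a_rc_0_1 lc_a_rc_0_1 lc_a_rc_5_2) (@D3.rec (fun _ => (Cert rels S Gen.a)) lc_a_rc_3_2 lc_a_rc_2_0 lc_a_rc_0_1 lc_a_rc_5_0 lc_a_rc_2_0 lc_a_rc_2_0 lc_a_rc_0_1 lc_a_rc_4_0 lc_a_rc_3_2 lc_a_rc_21_0 lc_a_rc_4_2 lc_a_rc_4_2 lc_a_rc_3_2 lc_a_rc_2_0 lc_a_rc_2_0 lc_a_rc_3_2 lc_a_rc_2_2 lc_a_rc_2_2 lc_a_rc_21_0 lc_a_rc_0_1 lc_a_rc_1_2 lc_a_rc_4_2 lc_a_rc_1_2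 lc_a_rc_2_0 lc_a_rc_4_2 lc_a_rc_4_2 lc_a_rc_3_0 lc_a_rc_4_2 lc_a_rc_5_2 lc_a_rc_1_2 lc_a_rc_3_2 lc_a_rc_2_0 lc_a_rc_2_2 lc_a_rc_5_2 lc_a_rc_21_0 lc_a_rc_0_1 lc_a_rc_3_2 lc_a_rc_4_2 lc_a_rc_0_1 lc_a_rc_2_2 lc_a_rc_4_2 lc_a_rc_21_0 lc_a_rc_2_2 lc_a_rc_3_2 lc_a_rc_22_0 lc_a_rc_2_2 lc_a_rc_4_2 lc_a_rc_3_2 lc_a_rc_4_2 lc_a_rc_3_2 lc_a_rc_2_2 lc_a_rc_3_2 lc_a_rc_0_1 lc_a_rc_1_0 lc_a_rc_0_1 lc_a_rc_2_2 lc_a_rc_4_0 lc_a_rc_3_2 lc_a_rc_2_2 lc_a_rc_0_1 lc_a_rc_2_2 lc_a_rc_3_0) (@D3.rec (fun _ => (Cert rels S Gen.a)) lc_a_rc_3_0 lc_a_rc_2_0 lc_a_rc_3_2 lc_a_rc_2_2 lc_a_rc_3_2 lc_a_rc_3_0 lc_a_rc_2_0 lc_a_rc_3_2 lc_a_rc_3_2 lc_a_rc_21_0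 lc_a_rc_2_2 lc_a_rc_3_0 lc_a_rc_22_0 lc_a_rc_3_2 lc_a_rc_3_0 lc_a_rc_1_2 lc_a_rc_5_2 lc_a_rc_4_2 lc_a_rc_3_2 lc_a_rc_1_0 lc_a_rc_21_0 lc_a_rc_4_2 lc_a_rc_5_2 lc_a_rc_3_2 lc_a_rc_3_2 lc_a_rc_3_2 lc_a_rc_4_2 lc_a_rc_21_0 lc_a_rc_2_2 lc_a_rc_1_2 lc_a_rc_5_2 lc_a_rc_4_2 lc_a_rc_3_2 lc_a_rc_0_1 lc_a_rc_2_2 lc_a_rc_1_2 lc_a_rc_3_2 lc_a_rc_4_2 lc_a_rc_4_2 lc_a_rc_1_2 lc_a_rc_22_0 lc_a_rc_4_2 lc_a_rc_21_0 lc_a_rc_2_2 lc_a_rc_2_2 lc_a_rc_21_0 lc_a_rc_4_2 lc_a_rc_21_0 lc_a_rc_4_0 lc_a_rc_3_0 lc_a_rc_4_2 lc_a_rc_2_2 lc_a_rc_4_2 lc_a_rc_1_4 lc_a_rc_3_2 lc_a_rc_1_2 lc_a_rc_3_2 lc_a_rc_3_2 lc_a_rc_3_2 lc_a_rc_0_1 lc_a_rc_21_0 lc_a_rc_3_2)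 (@D3.rec (fun _ => (Cert rels S Gen.a)) lc_a_rc_21_0 lc_a_rc_5_2 lc_a_rc_3_2 lc_a_rc_5_2 lc_a_rc_3_2 lc_a_rc_21_0 lc_a_rc_1_2 lc_a_rc_0_1 lc_a_rc_21_0 lc_a_rc_2_2 lc_a_rc_21_0 lc_a_rc_2_2 lc_a_rc_1_2 lc_a_rc_4_2 lc_a_rc_2_0 lc_a_rc_21_0 lc_a_rc_2_2 lc_a_rc_4_2 lc_a_rc_5_2 lc_a_rc_2_2 lc_a_rc_4_2 lc_a_rc_2_2 lc_a_rc_1_2 lc_a_rc_3_2 lc_a_rc_4_2 lc_a_rc_4_2 lc_a_rc_3_2 lc_a_rc_1_4 lc_a_rc_2_2 lc_a_rc_0_1 lc_a_rc_0_1 lc_a_rc_3_2 lc_a_rc_3_2 lc_a_rc_21_0 lc_a_rc_1_0 lc_a_rc_3_0 lc_a_rc_1_2 lc_a_rc_2_2 lc_a_rc_3_2 lc_a_rc_3_2 lc_a_rc_1_2 lc_a_rc_4_0 lc_a_rc_3_2 lc_a_rc_5_2 lc_a_rc_2_2 lc_a_rc_0_1 lc_a_rc_0_1 lc_a_rc_3_0 lc_a_rc_5_0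 lc_a_rc_4_2 lc_a_rc_0_1 lc_a_rc_5_2 lc_a_rc_21_0 lc_a_rc_4_2 lc_a_rc_4_2 lc_a_rc_5_2 lc_a_rc_4_2 lc_a_rc_1_0 lc_a_rc_5_2 lc_a_rc_4_0 lc_a_rc_3_2 lc_a_rc_2_2) (@D3.rec (fun _ => (Cert rels S Gen.a)) lc_a_rc_5_2 lc_a_rc_21_0 lc_a_rc_21_0 lc_a_rc_2_2 lc_a_rc_2_2 lc_a_rc_0_1 lc_a_rc_3_0 lc_a_rc_3_0 lc_a_rc_21_0 lc_a_rc_2_2 lc_a_rc_1_0 lc_a_rc_2_2 lc_a_rc_4_2 lc_a_rc_4_2 lc_a_rc_4_2 lc_a_rc_3_2 lc_a_rc_2_0 lc_a_rc_4_2 lc_a_rc_21_0 lc_a_rc_4_2 lc_a_rc_4_2 lc_a_rc_4_2 lc_a_rc_4_2 lc_a_rc_4_2 lc_a_rc_1_2 lc_a_rc_4_2 lc_a_rc_4_2 lc_a_rc_4_2 lc_a_rc_22_0 lc_a_rc_2_2 lc_a_rc_3_2 lc_a_rc_5_2 lc_a_rc_5_0 lc_a_rc_1_4 lc_a_rc_0_1 lc_a_rc_5_2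 lc_a_rc_1_0 lc_a_rc_2_2 lc_a_rc_3_0 lc_a_rc_4_0 lc_a_rc_5_2 lc_a_rc_3_2 lc_a_rc_0_1 lc_a_rc_2_2 lc_a_rc_1_2 lc_a_rc_0_1 lc_a_rc_2_2 lc_a_rc_21_0 lc_a_rc_3_2 lc_a_rc_0_1 lc_a_rc_4_2 lc_a_rc_4_2 lc_a_rc_4_2 lc_a_rc_2_2 lc_a_rc_0_1 lc_a_rc_21_0 lc_a_rc_2_2 lc_a_rc_5_2 lc_a_rc_21_0 lc_a_rc_4_2 lc_a_rc_2_2 lc_a_rc_21_0) (@D3.rec (fun _ => (Cert rels S Gen.a)) lc_a_rc_4_2 lc_a_rc_2_2 lc_a_rc_4_2 lc_a_rc_2_0 lc_a_rc_2_2 lc_a_rc_2_2 lc_a_rc_3_0 lc_a_rc_5_2 lc_a_rc_4_2 lc_a_rc_1_0 lc_a_rc_0_1 lc_a_rc_21_0 lc_a_rc_2_2 lc_a_rc_2_2 lc_a_rc_4_2 lc_a_rc_2_2 lc_a_rc_0_1 lc_a_rc_2_2 lc_a_rc_3_2 lc_a_rc_0_1 lc_a_rc_21_0 lc_a_rc_1_0 lc_a_rc_1_2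 lc_a_rc_2_2 lc_a_rc_2_0 lc_a_rc_2_2 lc_a_rc_0_1 lc_a_rc_1_2 lc_a_rc_3_0 lc_a_rc_4_2 lc_a_rc_3_2 lc_a_rc_2_2 lc_a_rc_4_2 lc_a_rc_3_2 lc_a_rc_0_1 lc_a_rc_3_0 lc_a_rc_3_0 lc_a_rc_3_2 lc_a_rc_21_0 lc_a_rc_4_0 lc_a_rc_21_0 lc_a_rc_21_0 lc_a_rc_21_0 lc_a_rc_0_1 lc_a_rc_0_1 lc_a_rc_2_0 lc_a_rc_4_2 lc_a_rc_1_4 lc_a_rc_22_0 lc_a_rc_4_2 lc_a_rc_0_1 lc_a_rc_4_2 lc_a_rc_4_2 lc_a_rc_5_2 lc_a_rc_0_1 lc_a_rc_1_2 lc_a_rc_4_2 lc_a_rc_21_0 lc_a_rc_4_2 lc_a_rc_4_0 lc_a_rc_21_0 lc_a_rc_5_2) (@D3.rec (fun _ => (Cert rels S Gen.a)) lc_a_rc_4_0 lc_a_rc_3_2 lc_a_rc_4_2 lc_a_rc_2_2 lc_a_rc_2_2 lc_a_rc_3_2 lc_a_rc_3_2 lc_a_rc_3_0 lc_a_rc_4_2 lc_a_rc_2_0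 lc_a_rc_3_2 lc_a_rc_4_2 lc_a_rc_21_0 lc_a_rc_5_2 lc_a_rc_21_0 lc_a_rc_4_2 lc_a_rc_3_2 lc_a_rc_0_1 lc_a_rc_21_0 lc_a_rc_2_0 lc_a_rc_5_0 lc_a_rc_3_2 lc_a_rc_1_0 lc_a_rc_4_0 lc_a_rc_0_1 lc_a_rc_3_2 lc_a_rc_2_2 lc_a_rc_2_2 lc_a_rc_2_2 lc_a_rc_3_0 lc_a_rc_2_0 lc_a_rc_3_2 lc_a_rc_0_1 lc_a_rc_3_2 lc_a_rc_0_1 lc_a_rc_4_2 lc_a_rc_21_0 lc_a_rc_5_2 lc_a_rc_4_0 lc_a_rc_22_0 lc_a_rc_4_2 lc_a_rc_0_1 lc_a_rc_3_2 lc_a_rc_1_0 lc_a_rc_1_2 lc_a_rc_5_2 lc_a_rc_2_2 lc_a_rc_0_1 lc_a_rc_3_2 lc_a_rc_2_2 lc_a_rc_2_0 lc_a_rc_4_0 lc_a_rc_1_0 lc_a_rc_1_0 lc_a_rc_21_0 lc_a_rc_21_0 lc_a_rc_21_0 lc_a_rc_3_2 lc_a_rc_5_2 lc_a_rc_3_2 lc_a_rc_5_2 lc_a_rc_0_1)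 (@D3.rec (fun _ => (Cert rels S Gen.a)) lc_a_rc_1_2 lc_a_rc_3_0 lc_a_rc_0_1 lc_a_rc_2_2 lc_a_rc_3_2 lc_a_rc_22_0 lc_a_rc_3_2 lc_a_rc_2_0 lc_a_rc_3_0 lc_a_rc_0_1 lc_a_rc_3_2 lc_a_rc_0_1 lc_a_rc_4_2 lc_a_rc_1_4 lc_a_rc_4_2 lc_a_rc_4_0 lc_a_rc_4_2 lc_a_rc_0_1 lc_a_rc_4_2 lc_a_rc_4_0 lc_a_rc_3_0 lc_a_rc_4_0 lc_a_rc_4_2 lc_a_rc_3_2 lc_a_rc_5_0 lc_a_rc_2_2 lc_a_rc_4_0 lc_a_rc_4_2 lc_a_rc_2_0 lc_a_rc_3_2 lc_a_rc_4_2 lc_a_rc_5_2 lc_a_rc_3_2 lc_a_rc_1_2 lc_a_rc_2_2 lc_a_rc_21_0 lc_a_rc_5_0 lc_a_rc_21_0 lc_a_rc_4_2 lc_a_rc_3_2 lc_a_rc_3_2 lc_a_rc_3_2 lc_a_rc_4_2 lc_a_rc_4_2 lc_a_rc_5_2 lc_a_rc_4_2 lc_a_rc_4_2 lc_a_rc_3_2 lc_a_rc_4_2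 lc_a_rc_1_4 lc_a_rc_5_0 lc_a_rc_0_1 lc_a_rc_5_2 lc_a_rc_1_4 lc_a_rc_4_2 lc_a_rc_21_0 lc_a_rc_0_1 lc_a_rc_1_4 lc_a_rc_0_1 lc_a_rc_5_2 lc_a_rc_0_1 lc_a_rc_3_0) (@D3.rec (fun _ => (Cert rels S Gen.a)) lc_a_rc_4_2 lc_a_rc_5_2 lc_a_rc_0_1 lc_a_rc_1_2 lc_a_rc_1_4 lc_a_rc_3_2 lc_a_rc_3_2 lc_a_rc_4_0 lc_a_rc_2_0 lc_a_rc_3_2 lc_a_rc_3_2 lc_a_rc_1_2 lc_a_rc_3_0 lc_a_rc_4_2 lc_a_rc_4_2 lc_a_rc_2_2 lc_a_rc_0_1 lc_a_rc_4_2 lc_a_rc_2_0 lc_a_rc_4_2 lc_a_rc_3_2 lc_a_rc_5_2 lc_a_rc_3_2 lc_a_rc_1_0 lc_a_rc_3_0 lc_a_rc_1_0 lc_a_rc_4_2 lc_a_rc_1_0 lc_a_rc_3_2 lc_a_rc_2_2 lc_a_rc_0_1 lc_a_rc_3_0 lc_a_rc_4_2 lc_a_rc_3_2 lc_a_rc_0_1 lc_a_rc_1_2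 lc_a_rc_2_2 lc_a_rc_4_2 lc_a_rc_2_2 lc_a_rc_2_0 lc_a_rc_1_4 lc_a_rc_5_0 lc_a_rc_22_0 lc_a_rc_1_0 lc_a_rc_2_2 lc_a_rc_4_2 lc_a_rc_2_0 lc_a_rc_2_2 lc_a_rc_0_1 lc_a_rc_3_0 lc_a_rc_1_0 lc_a_rc_4_2 lc_a_rc_4_0 lc_a_rc_3_2 lc_a_rc_4_2 lc_a_rc_3_2 lc_a_rc_2_2 lc_a_rc_3_2 lc_a_rc_4_2 lc_a_rc_4_2 lc_a_rc_4_2 lc_a_rc_4_2) (@D3.rec (fun _ => (Cert rels S Gen.a)) lc_a_rc_1_2 lc_a_rc_1_4 lc_a_rc_2_0 lc_a_rc_4_0 lc_a_rc_1_4 lc_a_rc_4_2 lc_a_rc_4_2 lc_a_rc_3_2 lc_a_rc_4_2 lc_a_rc_0_1 lc_a_rc_2_2 lc_a_rc_2_2 lc_a_rc_2_2 lc_a_rc_4_2 lc_a_rc_5_2 lc_a_rc_0_1 lc_a_rc_2_2 lc_a_rc_2_0 lc_a_rc_3_0 lc_a_rc_3_0 lc_a_rc_0_1 lc_a_rc_1_0 lc_a_rc_1_4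 lc_a_rc_0_1 lc_a_rc_4_0 lc_a_rc_1_4 lc_a_rc_1_2 lc_a_rc_5_2 lc_a_Cert_tree lc_a_rc_2_2 lc_a_rc_3_2 lc_a_rc_2_2 lc_a_rc_4_2 lc_a_rc_1_2 lc_a_rc_1_2 lc_a_rc_21_0 lc_a_rc_21_0 lc_a_rc_0_1 lc_a_rc_4_0 lc_a_rc_5_2 lc_a_rc_4_2 lc_a_rc_2_2 lc_a_rc_22_0 lc_a_rc_2_2 lc_a_rc_2_2 lc_a_rc_21_0 lc_a_rc_21_0 lc_a_rc_2_2 lc_a_rc_4_2 lc_a_rc_3_0 lc_a_rc_3_2 lc_a_rc_1_2 lc_a_rc_2_0 lc_a_rc_4_2 lc_a_rc_4_0 lc_a_rc_4_0 lc_a_rc_5_2 lc_a_rc_3_2 lc_a_rc_4_2 lc_a_rc_5_2 lc_a_rc_4_2 lc_a_rc_5_2) (@D3.rec (fun _ => (Cert rels S Gen.a)) lc_a_rc_3_2 lc_a_rc_0_1 lc_a_rc_21_0 lc_a_rc_5_2 lc_a_rc_1_4 lc_a_rc_4_2 lc_a_rc_1_4 lc_a_rc_2_2 lc_a_rc_3_2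 lc_a_rc_4_0 lc_a_rc_2_2 lc_a_rc_4_0 lc_a_rc_3_0 lc_a_rc_4_2 lc_a_rc_21_0 lc_a_rc_4_0 lc_a_rc_4_2 lc_a_rc_4_2 lc_a_rc_0_1 lc_a_rc_2_2 lc_a_rc_5_2 lc_a_rc_4_0 lc_a_rc_4_2 lc_a_rc_1_0 lc_a_rc_3_2 lc_a_rc_5_2 lc_a_rc_4_2 lc_a_rc_3_2 lc_a_rc_3_2 lc_a_rc_4_2 lc_a_rc_4_2 lc_a_rc_1_2 lc_a_rc_2_2 lc_a_rc_1_2 lc_a_rc_0_1 lc_a_rc_4_2 lc_a_rc_4_2 lc_a_rc_3_2 lc_a_rc_5_2 lc_a_rc_0_1 lc_a_rc_4_2 lc_a_rc_4_2 lc_a_rc_1_4 lc_a_rc_4_2 lc_a_rc_4_2 lc_a_rc_2_2 lc_a_rc_5_0 lc_a_rc_3_2 lc_a_rc_5_2 lc_a_rc_1_2 lc_a_rc_3_0 lc_a_rc_2_0 lc_a_rc_22_0 lc_a_rc_5_0 lc_a_rc_1_2 lc_a_rc_4_2 lc_a_rc_4_2 lc_a_rc_3_2 lc_a_rc_4_2 lc_a_rc_5_0 lc_a_rc_4_2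 lc_a_rc_3_2) (@D3.rec (fun _ => (Cert rels S Gen.a)) lc_a_rc_3_2 lc_a_rc_0_1 lc_a_rc_4_2 lc_a_rc_3_2 lc_a_rc_0_1 lc_a_rc_2_2 lc_a_rc_21_0 lc_a_rc_3_2 lc_a_rc_2_2 lc_a_rc_5_2 lc_a_rc_3_2 lc_a_rc_0_1 lc_a_rc_4_2 lc_a_rc_3_2 lc_a_rc_0_1 lc_a_rc_22_0 lc_a_rc_0_1 lc_a_rc_3_2 lc_a_rc_4_2 lc_a_rc_4_0 lc_a_rc_2_2 lc_a_rc_4_2 lc_a_rc_2_2 lc_a_rc_5_2 lc_a_rc_3_2 lc_a_rc_21_0 lc_a_rc_4_2 lc_a_rc_3_2 lc_a_rc_3_0 lc_a_rc_5_2 lc_a_rc_3_2 lc_a_rc_4_2 lc_a_rc_1_0 lc_a_rc_21_0 lc_a_rc_3_0 lc_a_rc_0_1 lc_a_rc_1_4 lc_a_rc_3_2 lc_a_rc_21_0 lc_a_rc_4_2 lc_a_rc_1_0 lc_a_rc_4_2 lc_a_rc_21_0 lc_a_rc_3_2 lc_a_rc_5_2 lc_a_rc_2_2 lc_a_rc_3_2 lc_a_rc_2_2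 lc_a_rc_2_0 lc_a_rc_5_2 lc_a_rc_2_2 lc_a_rc_0_1 lc_a_rc_0_1 lc_a_rc_1_4 lc_a_rc_2_2 lc_a_rc_0_1 lc_a_rc_3_2 lc_a_rc_4_2 lc_a_rc_21_0 lc_a_rc_5_2 lc_a_rc_4_2 lc_a_rc_3_0) (@D3.rec (fun _ => (Cert rels S Gen.a)) lc_a_rc_3_2 lc_a_rc_1_4 lc_a_rc_2_2 lc_a_rc_4_2 lc_a_rc_1_2 lc_a_rc_1_0 lc_a_rc_4_2 lc_a_rc_22_0 lc_a_rc_0_1 lc_a_rc_4_0 lc_a_rc_0_1 lc_a_rc_3_2 lc_a_rc_3_2 lc_a_rc_4_2 lc_a_rc_0_1 lc_a_rc_0_1 lc_a_rc_3_2 lc_a_rc_5_2 lc_a_rc_3_0 lc_a_rc_3_2 lc_a_rc_3_0 lc_a_Cert_tree lc_a_rc_3_2 lc_a_rc_0_1 lc_a_rc_5_2 lc_a_rc_4_0 lc_a_rc_0_1 lc_a_rc_3_2 lc_a_rc_4_2 lc_a_rc_1_4 lc_a_rc_5_2 lc_a_rc_21_0 lc_a_rc_2_2 lc_a_rc_3_2 lc_a_rc_3_2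 lc_a_rc_3_0 lc_a_rc_3_0 lc_a_rc_4_0 lc_a_rc_3_2 lc_a_rc_1_4 lc_a_rc_2_2 lc_a_rc_0_1 lc_a_rc_3_2 lc_a_rc_3_0 lc_a_rc_3_2 lc_a_rc_0_1 lc_a_rc_3_2 lc_a_rc_5_0 lc_a_rc_2_2 lc_a_rc_3_0 lc_a_rc_3_0 lc_a_rc_2_2 lc_a_rc_3_0 lc_a_rc_0_1 lc_a_rc_3_0 lc_a_rc_3_2 lc_a_rc_4_2 lc_a_rc_4_2 lc_a_rc_2_2 lc_a_rc_1_4 lc_a_rc_4_2 lc_a_rc_22_0) (@D3.rec (fun _ => (Cert rels S Gen.a)) lc_a_rc_1_0 lc_a_rc_4_2 lc_a_rc_2_2 lc_a_rc_4_2 lc_a_rc_22_0 lc_a_rc_4_2 lc_a_rc_2_2 lc_a_rc_2_2 lc_a_rc_4_2 lc_a_rc_2_2 lc_a_rc_3_2 lc_a_rc_3_2 lc_a_rc_4_2 lc_a_rc_2_2 lc_a_rc_3_0 lc_a_rc_2_2 lc_a_rc_2_0 lc_a_rc_2_2 lc_a_rc_4_0 lc_a_rc_1_2 lc_a_rc_5_2 lc_a_rc_4_2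 lc_a_rc_1_4 lc_a_rc_5_0 lc_a_rc_3_2 lc_a_rc_3_0 lc_a_rc_4_2 lc_a_rc_3_2 lc_a_rc_2_2 lc_a_rc_0_1 lc_a_rc_0_1 lc_a_rc_1_4 lc_a_rc_2_2 lc_a_rc_0_1 lc_a_rc_0_1 lc_a_rc_1_0 lc_a_rc_5_2 lc_a_rc_2_0 lc_a_rc_3_0 lc_a_rc_4_2 lc_a_rc_3_0 lc_a_rc_0_1 lc_a_rc_4_2 lc_a_rc_2_0 lc_a_rc_2_2 lc_a_rc_2_2 lc_a_rc_3_2 lc_a_rc_2_2 lc_a_rc_4_2 lc_a_rc_4_2 lc_a_rc_2_0 lc_a_rc_21_0 lc_a_rc_5_2 lc_a_rc_4_0 lc_a_rc_4_0 lc_a_rc_0_1 lc_a_rc_2_2 lc_a_rc_0_1 lc_a_rc_22_0 lc_a_rc_3_2 lc_a_rc_1_4 lc_a_rc_3_2) (@D3.rec (fun _ => (Cert rels S Gen.a)) lc_a_rc_4_2 lc_a_rc_21_0 lc_a_rc_1_0 lc_a_rc_4_0 lc_a_rc_1_2 lc_a_rc_4_0 lc_a_rc_5_0 lc_a_rc_2_0 lc_a_rc_2_0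 lc_a_rc_2_2 lc_a_rc_4_0 lc_a_rc_2_2 lc_a_rc_0_1 lc_a_rc_4_2 lc_a_rc_1_4 lc_a_rc_5_2 lc_a_rc_1_4 lc_a_rc_0_1 lc_a_rc_2_0 lc_a_rc_3_2 lc_a_rc_2_2 lc_a_rc_2_2 lc_a_rc_4_0 lc_a_rc_2_0 lc_a_rc_2_0 lc_a_rc_4_2 lc_a_rc_5_0 lc_a_rc_4_2 lc_a_rc_3_2 lc_a_rc_4_2 lc_a_rc_4_2 lc_a_rc_5_2 lc_a_rc_0_1 lc_a_rc_1_4 lc_a_rc_3_2 lc_a_rc_2_2 lc_a_rc_1_4 lc_a_rc_21_0 lc_a_rc_4_2 lc_a_rc_5_0 lc_a_rc_3_0 lc_a_rc_5_0 lc_a_rc_5_2 lc_a_rc_4_2 lc_a_rc_2_2 lc_a_rc_4_0 lc_a_rc_4_2 lc_a_rc_21_0 lc_a_rc_1_4 lc_a_rc_21_0 lc_a_rc_0_1 lc_a_rc_1_0 lc_a_rc_21_0 lc_a_rc_0_1 lc_a_rc_0_1 lc_a_rc_3_0 lc_a_rc_21_0 lc_a_rc_3_0 lc_a_rc_2_2 lc_a_rc_4_2 lc_a_rc_2_2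 lc_a_rc_2_2) (@D3.rec (fun _ => (Cert rels S Gen.a)) lc_a_rc_0_1 lc_a_rc_2_0 lc_a_rc_21_0 lc_a_rc_0_1 lc_a_rc_2_2 lc_a_rc_5_0 lc_a_rc_3_0 lc_a_rc_2_2 lc_a_rc_4_2 lc_a_rc_0_1 lc_a_rc_3_2 lc_a_rc_4_2 lc_a_rc_3_2 lc_a_rc_1_0 lc_a_rc_2_0 lc_a_rc_1_0 lc_a_rc_2_2 lc_a_rc_0_1 lc_a_rc_3_0 lc_a_rc_21_0 lc_a_rc_4_2 lc_a_rc_3_2 lc_a_rc_4_2 lc_a_rc_0_1 lc_a_rc_21_0 lc_a_rc_4_2 lc_a_rc_4_0 lc_a_rc_2_2 lc_a_rc_1_2 lc_a_rc_1_0 lc_a_rc_22_0 lc_a_rc_3_0 lc_a_rc_22_0 lc_a_rc_3_0 lc_a_rc_1_2 lc_a_rc_22_0 lc_a_rc_5_0 lc_a_rc_2_2 lc_a_rc_0_1 lc_a_rc_4_2 lc_a_rc_1_4 lc_a_rc_1_4 lc_a_rc_4_2 lc_a_rc_2_0 lc_a_rc_21_0 lc_a_rc_1_4 lc_a_rc_0_1 lc_a_rc_2_2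 lc_a_rc_1_0 lc_a_rc_2_0 lc_a_rc_21_0 lc_a_rc_5_2 lc_a_rc_4_2 lc_a_rc_1_4 lc_a_rc_1_2 lc_a_rc_3_0 lc_a_rc_0_1 lc_a_rc_2_2 lc_a_rc_2_2 lc_a_rc_22_0 lc_a_rc_2_2 lc_a_rc_2_2) (@D3.rec (fun _ => (Cert rels S Gen.a)) lc_a_rc_4_0 lc_a_rc_3_0 lc_a_rc_3_0 lc_a_rc_1_4 lc_a_rc_3_2 lc_a_rc_4_2 lc_a_rc_2_2 lc_a_rc_2_2 lc_a_rc_3_2 lc_a_rc_4_2 lc_a_rc_3_0 lc_a_rc_4_2 lc_a_rc_5_0 lc_a_rc_5_0 lc_a_rc_4_2 lc_a_rc_21_0 lc_a_rc_3_2 lc_a_rc_4_2 lc_a_Cert_tree lc_a_rc_4_2 lc_a_rc_0_1 lc_a_rc_3_0 lc_a_rc_2_2 lc_a_rc_0_1 lc_a_rc_0_1 lc_a_rc_3_2 lc_a_rc_3_2 lc_a_rc_2_2 lc_a_rc_0_1 lc_a_rc_3_2 lc_a_rc_3_0 lc_a_rc_21_0 lc_a_rc_3_2 lc_a_rc_4_2 lc_a_rc_3_2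 lc_a_rc_2_2 lc_a_rc_2_2 lc_a_rc_0_1 lc_a_rc_1_2 lc_a_rc_2_2 lc_a_rc_4_0 lc_a_rc_4_2 lc_a_rc_0_1 lc_a_rc_4_0 lc_a_rc_2_2 lc_a_rc_0_1 lc_a_rc_5_2 lc_a_rc_0_1 lc_a_rc_2_2 lc_a_rc_3_0 lc_a_rc_3_2 lc_a_rc_5_2 lc_a_rc_22_0 lc_a_rc_21_0 lc_a_rc_4_2 lc_a_rc_4_2 lc_a_rc_2_2 lc_a_rc_21_0 lc_a_rc_1_2 lc_a_rc_4_2 lc_a_rc_1_2 lc_a_rc_5_2) (@D3.rec (fun _ => (Cert rels S Gen.a)) lc_a_rc_0_1 lc_a_rc_2_0 lc_a_rc_4_0 lc_a_rc_3_2 lc_a_rc_1_0 lc_a_rc_2_0 lc_a_rc_0_1 lc_a_rc_2_0 lc_a_rc_2_0 lc_a_rc_3_2 lc_a_rc_4_2 lc_a_rc_4_2 lc_a_rc_5_2 lc_a_rc_0_1 lc_a_rc_3_2 lc_a_rc_5_2 lc_a_rc_2_2 lc_a_rc_1_0 lc_a_rc_4_2 lc_a_rc_3_0 lc_a_rc_22_0 lc_a_rc_4_2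 lc_a_rc_21_0 lc_a_rc_1_2 lc_a_rc_3_0 lc_a_rc_4_2 lc_a_rc_4_2 lc_a_rc_1_0 lc_a_rc_4_0 lc_a_rc_1_4 lc_a_rc_21_0 lc_a_rc_2_2 lc_a_rc_4_2 lc_a_rc_3_2 lc_a_rc_21_0 lc_a_rc_3_2 lc_a_rc_3_2 lc_a_rc_4_0 lc_a_rc_2_0 lc_a_rc_22_0 lc_a_rc_2_2 lc_a_rc_2_2 lc_a_rc_2_0 lc_a_rc_21_0 lc_a_rc_1_4 lc_a_rc_22_0 lc_a_rc_1_2 lc_a_rc_4_2 lc_a_rc_3_0 lc_a_rc_2_0 lc_a_rc_3_2 lc_a_rc_21_0 lc_a_rc_2_2 lc_a_rc_3_2 lc_a_rc_21_0 lc_a_rc_4_2 lc_a_rc_3_0 lc_a_rc_0_1 lc_a_rc_4_2 lc_a_rc_22_0 lc_a_rc_2_2 lc_a_rc_0_1) (@D3.rec (fun _ => (Cert rels S Gen.a)) lc_a_rc_1_2 lc_a_rc_2_2 lc_a_rc_2_2 lc_a_rc_0_1 lc_a_rc_1_2 lc_a_rc_4_2 lc_a_rc_4_2 lc_a_rc_21_0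 lc_a_rc_5_0 lc_a_rc_0_1 lc_a_rc_0_1 lc_a_rc_4_2 lc_a_rc_5_2 lc_a_rc_3_2 lc_a_rc_1_0 lc_a_rc_3_2 lc_a_rc_4_0 lc_a_rc_2_2 lc_a_rc_3_0 lc_a_rc_3_0 lc_a_rc_4_2 lc_a_rc_4_0 lc_a_rc_3_0 lc_a_rc_4_2 lc_a_rc_1_4 lc_a_rc_0_1 lc_a_rc_5_2 lc_a_rc_2_2 lc_a_rc_3_0 lc_a_rc_3_0 lc_a_rc_5_2 lc_a_rc_21_0 lc_a_rc_4_2 lc_a_rc_4_2 lc_a_rc_4_2 lc_a_rc_21_0 lc_a_rc_4_0 lc_a_rc_3_2 lc_a_rc_2_2 lc_a_rc_4_2 lc_a_rc_3_2 lc_a_rc_2_2 lc_a_rc_2_0 lc_a_rc_2_2 lc_a_rc_2_2 lc_a_rc_4_2 lc_a_rc_5_2 lc_a_rc_0_1 lc_a_rc_3_2 lc_a_rc_22_0 lc_a_rc_21_0 lc_a_rc_4_0 lc_a_rc_4_2 lc_a_rc_21_0 lc_a_rc_5_2 lc_a_rc_1_2 lc_a_rc_3_0 lc_a_rc_4_2 lc_a_rc_2_0 lc_a_rc_2_2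 lc_a_rc_4_2 lc_a_rc_3_2) (@D3.rec (fun _ => (Cert rels S Gen.a)) lc_a_rc_0_1 lc_a_rc_1_2 lc_a_rc_3_2 lc_a_rc_3_2 lc_a_rc_2_2 lc_a_rc_0_1 lc_a_rc_1_0 lc_a_rc_3_2 lc_a_rc_5_0 lc_a_rc_3_0 lc_a_rc_5_2 lc_a_rc_3_2 lc_a_rc_22_0 lc_a_rc_21_0 lc_a_rc_1_0 lc_a_rc_4_2 lc_a_rc_2_2 lc_a_rc_4_2 lc_a_rc_4_2 lc_a_rc_3_2 lc_a_rc_4_2 lc_a_rc_3_2 lc_a_rc_2_0 lc_a_rc_2_2 lc_a_rc_3_2 lc_a_rc_21_0 lc_a_rc_3_2 lc_a_rc_22_0 lc_a_rc_3_0 lc_a_rc_2_2 lc_a_rc_3_2 lc_a_rc_4_2 lc_a_rc_3_0 lc_a_rc_3_2 lc_a_rc_2_0 lc_a_rc_4_0 lc_a_rc_3_2 lc_a_rc_4_2 lc_a_rc_2_0 lc_a_rc_2_0 lc_a_rc_5_2 lc_a_rc_2_2 lc_a_rc_4_2 lc_a_rc_3_2 lc_a_rc_4_0 lc_a_rc_4_2 lc_a_rc_3_2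 lc_a_rc_21_0 lc_a_rc_5_0 lc_a_rc_4_0 lc_a_rc_5_2 lc_a_rc_5_2 lc_a_rc_3_2 lc_a_rc_5_2 lc_a_rc_1_0 lc_a_rc_2_2 lc_a_rc_3_2 lc_a_rc_0_1 lc_a_rc_1_4 lc_a_rc_3_2 lc_a_rc_0_1 lc_a_rc_3_2) (@D3.rec (fun _ => (Cert rels S Gen.a)) lc_a_rc_3_2 lc_a_rc_3_2 lc_a_rc_21_0 lc_a_rc_2_2 lc_a_rc_2_2 lc_a_rc_3_2 lc_a_rc_3_2 lc_a_rc_4_2 lc_a_rc_0_1 lc_a_rc_5_2 lc_a_rc_2_2 lc_a_rc_4_2 lc_a_rc_21_0 lc_a_rc_2_2 lc_a_rc_2_0 lc_a_rc_3_2 lc_a_rc_3_2 lc_a_rc_5_2 lc_a_rc_0_1 lc_a_rc_5_0 lc_a_rc_0_1 lc_a_rc_2_2 lc_a_rc_3_2 lc_a_rc_2_2 lc_a_rc_2_0 lc_a_rc_0_1 lc_a_rc_22_0 lc_a_rc_3_2 lc_a_rc_2_2 lc_a_rc_21_0 lc_a_rc_21_0 lc_a_rc_4_0 lc_a_rc_3_2 lc_a_rc_3_2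 lc_a_rc_22_0 lc_a_rc_2_2 lc_a_rc_3_0 lc_a_rc_1_0 lc_a_rc_3_2 lc_a_rc_1_4 lc_a_rc_21_0 lc_a_rc_3_2 lc_a_rc_3_2 lc_a_rc_4_0 lc_a_rc_4_0 lc_a_rc_1_2 lc_a_rc_5_0 lc_a_rc_5_2 lc_a_rc_5_0 lc_a_rc_2_0 lc_a_rc_3_2 lc_a_rc_4_0 lc_a_rc_0_1 lc_a_rc_0_1 lc_a_rc_1_2 lc_a_rc_3_2 lc_a_rc_0_1 lc_a_rc_3_2 lc_a_rc_0_1 lc_a_rc_2_2 lc_a_rc_4_0 lc_a_rc_4_0) (@D3.rec (fun _ => (Cert rels S Gen.a)) lc_a_rc_3_2 lc_a_rc_3_2 lc_a_rc_3_0 lc_a_rc_5_0 lc_a_rc_4_0 lc_a_rc_0_1 lc_a_rc_0_1 lc_a_rc_1_0 lc_a_rc_0_1 lc_a_rc_4_2 lc_a_rc_4_0 lc_a_rc_3_2 lc_a_rc_3_2 lc_a_rc_21_0 lc_a_rc_0_1 lc_a_rc_3_0 lc_a_rc_3_2 lc_a_rc_4_2 lc_a_rc_4_2 lc_a_rc_0_1 lc_a_rc_21_0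 lc_a_rc_0_1 lc_a_rc_21_0 lc_a_rc_4_2 lc_a_rc_3_2 lc_a_rc_3_0 lc_a_rc_3_2 lc_a_rc_3_2 lc_a_rc_5_2 lc_a_rc_3_0 lc_a_rc_1_0 lc_a_rc_2_2 lc_a_rc_1_4 lc_a_rc_5_2 lc_a_rc_4_2 lc_a_rc_4_0 lc_a_rc_1_4 lc_a_rc_2_0 lc_a_rc_0_1 lc_a_rc_21_0 lc_a_rc_0_1 lc_a_rc_4_0 lc_a_rc_21_0 lc_a_rc_1_2 lc_a_rc_3_0 lc_a_rc_0_1 lc_a_rc_2_2 lc_a_rc_2_2 lc_a_rc_2_2 lc_a_rc_5_2 lc_a_rc_4_2 lc_a_rc_4_2 lc_a_rc_1_4 lc_a_rc_5_2 lc_a_rc_4_2 lc_a_rc_2_2 lc_a_rc_4_2 lc_a_rc_1_4 lc_a_rc_4_2 lc_a_rc_0_1 lc_a_rc_22_0 lc_a_rc_2_2) (@D3.rec (fun _ => (Cert rels S Gen.a)) lc_a_rc_3_2 lc_a_rc_2_2 lc_a_rc_2_0 lc_a_rc_0_1 lc_a_rc_0_1 lc_a_rc_4_0 lc_a_rc_2_2 lc_a_rc_2_2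 lc_a_rc_4_2 lc_a_rc_0_1 lc_a_rc_4_0 lc_a_rc_4_0 lc_a_rc_5_0 lc_a_rc_4_2 lc_a_rc_4_2 lc_a_rc_2_0 lc_a_rc_21_0 lc_a_rc_3_2 lc_a_rc_5_0 lc_a_rc_2_2 lc_a_rc_2_2 lc_a_rc_3_2 lc_a_rc_1_4 lc_a_rc_3_2 lc_a_rc_1_2 lc_a_rc_0_1 lc_a_rc_4_2 lc_a_rc_0_1 lc_a_rc_3_2 lc_a_rc_1_2 lc_a_rc_3_2 lc_a_rc_1_4 lc_a_rc_4_2 lc_a_rc_3_2 lc_a_rc_3_2 lc_a_rc_5_0 lc_a_rc_2_2 lc_a_rc_21_0 lc_a_rc_4_2 lc_a_rc_1_4 lc_a_rc_3_0 lc_a_rc_4_2 lc_a_rc_0_1 lc_a_rc_3_2 lc_a_rc_2_2 lc_a_rc_0_1 lc_a_rc_4_2 lc_a_rc_2_0 lc_a_rc_0_1 lc_a_rc_21_0 lc_a_rc_5_0 lc_a_rc_0_1 lc_a_rc_3_0 lc_a_rc_2_0 lc_a_rc_0_1 lc_a_rc_1_4 lc_a_rc_4_2 lc_a_rc_2_2 lc_a_rc_0_1 lc_a_rc_2_2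 lc_a_rc_2_2 lc_a_rc_21_0) (@D3.rec (fun _ => (Cert rels S Gen.a)) lc_a_rc_1_4 lc_a_rc_2_2 lc_a_rc_4_2 lc_a_rc_2_0 lc_a_rc_3_0 lc_a_rc_2_2 lc_a_rc_4_2 lc_a_rc_4_2 lc_a_rc_2_2 lc_a_rc_3_2 lc_a_rc_1_2 lc_a_rc_4_2 lc_a_rc_4_0 lc_a_rc_4_2 lc_a_rc_4_2 lc_a_rc_5_2 lc_a_rc_4_2 lc_a_rc_3_2 lc_a_rc_22_0 lc_a_rc_21_0 lc_a_rc_21_0 lc_a_rc_3_2 lc_a_rc_2_0 lc_a_rc_3_2 lc_a_rc_3_2 lc_a_rc_0_1 lc_a_rc_22_0 lc_a_rc_0_1 lc_a_rc_0_1 lc_a_rc_0_1 lc_a_rc_3_2 lc_a_rc_2_2 lc_a_rc_2_2 lc_a_rc_4_2 lc_a_rc_0_1 lc_a_rc_0_1 lc_a_rc_2_0 lc_a_rc_4_0 lc_a_rc_5_2 lc_a_rc_5_2 lc_a_rc_1_4 lc_a_rc_22_0 lc_a_rc_2_2 lc_a_rc_0_1 lc_a_rc_0_1 lc_a_rc_0_1 lc_a_rc_4_0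 lc_a_rc_21_0 lc_a_rc_21_0 lc_a_rc_4_0 lc_a_rc_4_2 lc_a_rc_5_0 lc_a_rc_3_0 lc_a_rc_1_4 lc_a_rc_3_2 lc_a_rc_2_2 lc_a_rc_0_1 lc_a_rc_21_0 lc_a_rc_2_2 lc_a_rc_21_0 lc_a_rc_2_2 lc_a_rc_4_2) (@D3.rec (fun _ => (Cert rels S Gen.a)) lc_a_rc_1_0 lc_a_rc_2_2 lc_a_rc_22_0 lc_a_rc_0_1 lc_a_rc_3_2 lc_a_rc_2_2 lc_a_rc_21_0 lc_a_rc_5_0 lc_a_rc_2_2 lc_a_rc_4_0 lc_a_rc_2_2 lc_a_rc_1_4 lc_a_rc_4_2 lc_a_rc_3_2 lc_a_rc_4_2 lc_a_rc_2_2 lc_a_rc_3_2 lc_a_rc_4_2 lc_a_rc_1_4 lc_a_rc_4_2 lc_a_rc_4_0 lc_a_rc_1_2 lc_a_rc_2_2 lc_a_rc_5_2 lc_a_rc_3_2 lc_a_rc_0_1 lc_a_rc_2_2 lc_a_rc_4_2 lc_a_rc_1_2 lc_a_rc_2_0 lc_a_rc_5_2 lc_a_rc_1_4 lc_a_rc_21_0 lc_a_rc_21_0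 lc_a_rc_0_1 lc_a_rc_3_2 lc_a_rc_4_2 lc_a_rc_1_2 lc_a_rc_0_1 lc_a_rc_2_0 lc_a_rc_4_0 lc_a_rc_3_2 lc_a_rc_3_2 lc_a_rc_3_2 lc_a_rc_4_2 lc_a_rc_3_0 lc_a_rc_3_2 lc_a_rc_1_4 lc_a_rc_0_1 lc_a_rc_2_2 lc_a_rc_3_2 lc_a_rc_2_2 lc_a_rc_4_2 lc_a_rc_1_2 lc_a_rc_21_0 lc_a_rc_3_2 lc_a_rc_2_0 lc_a_rc_4_2 lc_a_rc_4_0 lc_a_rc_3_2 lc_a_rc_21_0 lc_a_rc_2_2) (@D3.rec (fun _ => (Cert rels S Gen.a)) lc_a_rc_3_0 lc_a_rc_4_2 lc_a_rc_3_2 lc_a_rc_3_2 lc_a_rc_4_0 lc_a_rc_3_2 lc_a_rc_4_0 lc_a_rc_3_2 lc_a_rc_4_0 lc_a_rc_3_2 lc_a_rc_4_2 lc_a_rc_2_2 lc_a_rc_4_0 lc_a_rc_3_2 lc_a_rc_5_2 lc_a_rc_3_2 lc_a_rc_0_1 lc_a_rc_2_2 lc_a_rc_3_2 lc_a_rc_4_2 lc_a_rc_4_2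 lc_a_rc_1_4 lc_a_rc_4_2 lc_a_rc_1_2 lc_a_rc_2_0 lc_a_rc_4_0 lc_a_rc_4_2 lc_a_rc_0_1 lc_a_rc_3_2 lc_a_rc_4_0 lc_a_rc_1_4 lc_a_rc_5_2 lc_a_rc_3_2 lc_a_rc_2_0 lc_a_rc_3_2 lc_a_rc_3_2 lc_a_rc_4_2 lc_a_rc_2_2 lc_a_rc_2_2 lc_a_rc_4_2 lc_a_rc_21_0 lc_a_rc_4_2 lc_a_rc_4_2 lc_a_rc_0_1 lc_a_rc_3_0 lc_a_rc_1_2 lc_a_rc_3_2 lc_a_rc_5_2 lc_a_rc_5_0 lc_a_rc_3_2 lc_a_rc_1_4 lc_a_rc_1_2 lc_a_rc_21_0 lc_a_rc_1_2 lc_a_rc_1_4 lc_a_rc_0_1 lc_a_rc_3_0 lc_a_rc_1_0 lc_a_rc_3_0 lc_a_rc_4_0 lc_a_rc_21_0 lc_a_rc_21_0) (@D3.rec (fun _ => (Cert rels S Gen.a)) lc_a_rc_21_0 lc_a_rc_2_0 lc_a_rc_2_2 lc_a_rc_3_2 lc_a_rc_2_2 lc_a_rc_3_0 lc_a_rc_0_1 lc_a_rc_4_2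 lc_a_rc_2_0 lc_a_rc_21_0 lc_a_rc_4_2 lc_a_rc_4_2 lc_a_rc_3_0 lc_a_rc_3_2 lc_a_rc_21_0 lc_a_rc_4_2 lc_a_rc_3_2 lc_a_rc_3_2 lc_a_rc_21_0 lc_a_rc_21_0 lc_a_rc_4_2 lc_a_rc_2_2 lc_a_rc_4_2 lc_a_rc_3_0 lc_a_rc_3_2 lc_a_rc_2_2 lc_a_rc_4_2 lc_a_rc_2_0 lc_a_rc_4_2 lc_a_rc_4_0 lc_a_rc_3_2 lc_a_rc_4_2 lc_a_rc_3_0 lc_a_rc_3_2 lc_a_rc_5_2 lc_a_rc_1_2 lc_a_rc_2_2 lc_a_rc_2_0 lc_a_rc_1_4 lc_a_rc_4_2 lc_a_rc_1_2 lc_a_rc_22_0 lc_a_rc_0_1 lc_a_rc_3_2 lc_a_rc_2_2 lc_a_rc_4_0 lc_a_rc_3_2 lc_a_rc_2_2 lc_a_rc_1_0 lc_a_rc_4_2 lc_a_rc_3_0 lc_a_rc_4_2 lc_a_rc_2_0 lc_a_rc_1_2 lc_a_rc_1_2 lc_a_rc_1_4 lc_a_rc_2_2 lc_a_rc_4_2 lc_a_rc_1_0 lc_a_rc_4_2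 lc_a_rc_4_2 lc_a_rc_2_2) (@D3.rec (fun _ => (Cert rels S Gen.a)) lc_a_rc_4_2 lc_a_rc_2_0 lc_a_rc_21_0 lc_a_rc_4_2 lc_a_rc_3_2 lc_a_rc_4_2 lc_a_rc_3_0 lc_a_rc_0_1 lc_a_rc_0_1 lc_a_rc_2_0 lc_a_rc_3_2 lc_a_rc_5_0 lc_a_rc_22_0 lc_a_rc_3_2 lc_a_rc_21_0 lc_a_rc_0_1 lc_a_rc_2_2 lc_a_rc_2_0 lc_a_rc_21_0 lc_a_rc_0_1 lc_a_rc_2_0 lc_a_rc_0_1 lc_a_rc_4_0 lc_a_rc_4_2 lc_a_rc_3_2 lc_a_rc_2_2 lc_a_rc_2_2 lc_a_rc_2_2 lc_a_rc_4_2 lc_a_rc_2_2 lc_a_rc_2_2 lc_a_rc_2_2 lc_a_rc_1_4 lc_a_rc_3_2 lc_a_rc_2_2 lc_a_rc_2_2 lc_a_rc_21_0 lc_a_rc_0_1 lc_a_rc_1_2 lc_a_rc_2_0 lc_a_rc_3_2 lc_a_rc_2_2 lc_a_rc_4_2 lc_a_rc_22_0 lc_a_rc_3_0 lc_a_rc_2_2 lc_a_rc_3_0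 lc_a_rc_4_2 lc_a_rc_4_2 lc_a_rc_5_0 lc_a_rc_3_0 lc_a_rc_3_2 lc_a_rc_3_2 lc_a_rc_0_1 lc_a_rc_1_4 lc_a_rc_21_0 lc_a_rc_3_0 lc_a_rc_4_2 lc_a_rc_2_2 lc_a_rc_3_2 lc_a_rc_2_2 lc_a_rc_22_0) (@D3.rec (fun _ => (Cert rels S Gen.a)) lc_a_rc_3_2 lc_a_rc_3_2 lc_a_rc_4_2 lc_a_rc_3_2 lc_a_rc_3_2 lc_a_rc_22_0 lc_a_rc_3_2 lc_a_rc_5_2 lc_a_rc_5_2 lc_a_rc_4_2 lc_a_rc_0_1 lc_a_rc_3_0 lc_a_rc_3_2 lc_a_rc_21_0 lc_a_rc_4_0 lc_a_rc_2_2 lc_a_rc_2_2 lc_a_rc_2_2 lc_a_rc_1_4 lc_a_rc_1_0 lc_a_rc_3_2 lc_a_rc_1_2 lc_a_rc_1_2 lc_a_rc_2_2 lc_a_rc_0_1 lc_a_rc_5_2 lc_a_rc_0_1 lc_a_rc_5_0 lc_a_rc_4_2 lc_a_rc_3_2 lc_a_rc_2_2 lc_a_rc_2_2 lc_a_rc_0_1 lc_a_rc_2_2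 lc_a_rc_3_2 lc_a_rc_21_0 lc_a_rc_3_0 lc_a_rc_3_2 lc_a_rc_4_2 lc_a_rc_4_2 lc_a_rc_4_2 lc_a_rc_3_0 lc_a_rc_3_2 lc_a_rc_0_1 lc_a_rc_22_0 lc_a_rc_0_1 lc_a_rc_1_4 lc_a_rc_1_4 lc_a_rc_1_0 lc_a_rc_22_0 lc_a_rc_3_2 lc_a_rc_3_2 lc_a_rc_3_0 lc_a_rc_1_2 lc_a_rc_3_2 lc_a_rc_3_2 lc_a_rc_2_2 lc_a_rc_3_2 lc_a_rc_0_1 lc_a_rc_4_0 lc_a_rc_4_2 lc_a_rc_4_2) (@D3.rec (fun _ => (Cert rels S Gen.a)) lc_a_rc_3_2 lc_a_rc_3_0 lc_a_rc_4_2 lc_a_rc_1_4 lc_a_rc_21_0 lc_a_rc_21_0 lc_a_rc_21_0 lc_a_rc_4_0 lc_a_rc_5_2 lc_a_rc_5_2 lc_a_rc_2_2 lc_a_rc_2_2 lc_a_rc_4_2 lc_a_rc_3_0 lc_a_rc_1_0 lc_a_rc_2_2 lc_a_rc_0_1 lc_a_rc_4_2 lc_a_rc_2_2 lc_a_rc_4_2 lc_a_rc_2_2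 lc_a_rc_4_2 lc_a_rc_22_0 lc_a_rc_3_2 lc_a_rc_3_0 lc_a_rc_22_0 lc_a_rc_21_0 lc_a_rc_2_2 lc_a_rc_2_2 lc_a_rc_0_1 lc_a_rc_0_1 lc_a_rc_21_0 lc_a_rc_4_0 lc_a_rc_2_2 lc_a_rc_0_1 lc_a_rc_3_2 lc_a_rc_3_2 lc_a_rc_5_0 lc_a_rc_4_2 lc_a_rc_5_2 lc_a_rc_4_2 lc_a_rc_3_0 lc_a_rc_21_0 lc_a_rc_22_0 lc_a_rc_1_2 lc_a_rc_5_2 lc_a_rc_1_0 lc_a_rc_5_0 lc_a_rc_0_1 lc_a_rc_1_0 lc_a_rc_5_0 lc_a_rc_21_0 lc_a_rc_5_0 lc_a_rc_2_2 lc_a_rc_5_2 lc_a_rc_0_1 lc_a_rc_1_2 lc_a_rc_0_1 lc_a_rc_21_0 lc_a_rc_1_4 lc_a_rc_1_2 lc_a_rc_5_2) (@D3.rec (fun _ => (Cert rels S Gen.a)) lc_a_rc_21_0 lc_a_rc_2_0 lc_a_rc_3_0 lc_a_rc_4_2 lc_a_rc_2_2 lc_a_rc_3_2 lc_a_rc_3_2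 lc_a_rc_2_2 lc_a_rc_0_1 lc_a_rc_2_2 lc_a_rc_2_0 lc_a_rc_4_2 lc_a_rc_4_2 lc_a_rc_21_0 lc_a_rc_22_0 lc_a_rc_3_2 lc_a_rc_4_0 lc_a_rc_1_4 lc_a_rc_3_0 lc_a_rc_2_2 lc_a_rc_4_2 lc_a_rc_1_0 lc_a_rc_3_2 lc_a_rc_22_0 lc_a_rc_4_2 lc_a_rc_3_2 lc_a_rc_2_2 lc_a_rc_3_2 lc_a_rc_4_2 lc_a_rc_0_1 lc_a_rc_21_0 lc_a_rc_3_0 lc_a_rc_2_2 lc_a_rc_3_0 lc_a_rc_0_1 lc_a_rc_2_0 lc_a_rc_1_2 lc_a_rc_3_2 lc_a_rc_22_0 lc_a_rc_5_2 lc_a_rc_4_2 lc_a_rc_3_0 lc_a_rc_0_1 lc_a_rc_4_2 lc_a_rc_2_0 lc_a_rc_3_2 lc_a_rc_5_2 lc_a_rc_3_2 lc_a_rc_3_2 lc_a_rc_4_0 lc_a_rc_4_2 lc_a_rc_2_2 lc_a_rc_4_2 lc_a_rc_1_4 lc_a_rc_3_0 lc_a_rc_4_0 lc_a_rc_5_0 lc_a_rc_2_2 lc_a_rc_2_2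 lc_a_rc_2_2 lc_a_rc_2_2 lc_a_rc_1_0) (@D3.rec (fun _ => (Cert rels S Gen.a)) lc_a_rc_5_2 lc_a_rc_4_2 lc_a_rc_2_2 lc_a_rc_2_2 lc_a_rc_0_1 lc_a_rc_3_2 lc_a_rc_3_0 lc_a_rc_2_2 lc_a_rc_21_0 lc_a_rc_22_0 lc_a_rc_2_2 lc_a_rc_3_2 lc_a_rc_2_2 lc_a_rc_2_2 lc_a_rc_0_1 lc_a_rc_2_2 lc_a_rc_3_2 lc_a_rc_4_2 lc_a_rc_3_2 lc_a_rc_21_0 lc_a_rc_0_1 lc_a_rc_21_0 lc_a_rc_4_0 lc_a_rc_4_2 lc_a_rc_2_2 lc_a_rc_3_2 lc_a_rc_4_2 lc_a_rc_5_2 lc_a_rc_5_0 lc_a_rc_5_2 lc_a_rc_3_2 lc_a_rc_3_2 lc_a_rc_3_0 lc_a_rc_4_2 lc_a_rc_4_2 lc_a_rc_2_0 lc_a_rc_2_2 lc_a_rc_4_2 lc_a_rc_3_0 lc_a_rc_0_1 lc_a_rc_0_1 lc_a_rc_4_2 lc_a_rc_3_2 lc_a_rc_21_0 lc_a_rc_4_2 lc_a_rc_1_0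 lc_a_rc_1_2 lc_a_rc_3_2 lc_a_rc_3_2 lc_a_rc_2_0 lc_a_rc_0_1 lc_a_rc_2_2 lc_a_rc_5_2 lc_a_rc_4_2 lc_a_rc_4_2 lc_a_rc_4_0 lc_a_rc_3_2 lc_a_rc_3_2 lc_a_rc_3_2 lc_a_rc_21_0 lc_a_rc_0_1 lc_a_rc_2_2) (@D3.rec (fun _ => (Cert rels S Gen.a)) lc_a_rc_0_1 lc_a_rc_3_0 lc_a_rc_3_2 lc_a_rc_4_2 lc_a_rc_2_2 lc_a_rc_5_2 lc_a_rc_4_2 lc_a_rc_3_2 lc_a_rc_2_0 lc_a_rc_3_0 lc_a_rc_5_2 lc_a_rc_4_0 lc_a_rc_2_0 lc_a_rc_2_2 lc_a_rc_21_0 lc_a_rc_21_0 lc_a_rc_4_2 lc_a_rc_3_2 lc_a_rc_21_0 lc_a_rc_3_2 lc_a_rc_3_2 lc_a_rc_3_0 lc_a_rc_3_2 lc_a_rc_4_2 lc_a_rc_22_0 lc_a_rc_2_2 lc_a_rc_4_2 lc_a_rc_2_2 lc_a_rc_2_2 lc_a_rc_4_2 lc_a_rc_3_2 lc_a_rc_0_1 lc_a_rc_4_2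 lc_a_rc_3_2 lc_a_rc_2_2 lc_a_rc_3_2 lc_a_rc_3_2 lc_a_rc_4_2 lc_a_rc_2_2 lc_a_rc_1_0 lc_a_rc_4_2 lc_a_rc_2_2 lc_a_rc_4_2 lc_a_rc_0_1 lc_a_rc_5_2 lc_a_rc_4_2 lc_a_rc_2_2 lc_a_rc_4_0 lc_a_rc_22_0 lc_a_rc_2_0 lc_a_rc_2_0 lc_a_rc_4_2 lc_a_rc_3_2 lc_a_rc_3_2 lc_a_rc_21_0 lc_a_rc_0_1 lc_a_rc_4_0 lc_a_rc_3_0 lc_a_rc_4_0 lc_a_rc_3_2 lc_a_rc_4_2 lc_a_rc_4_0) (@D3.rec (fun _ => (Cert rels S Gen.a)) lc_a_rc_4_0 lc_a_rc_3_2 lc_a_rc_5_2 lc_a_rc_3_0 lc_a_rc_2_2 lc_a_rc_21_0 lc_a_rc_4_2 lc_a_rc_4_2 lc_a_rc_2_0 lc_a_rc_3_2 lc_a_rc_3_2 lc_a_rc_4_2 lc_a_rc_3_0 lc_a_rc_0_1 lc_a_rc_3_2 lc_a_rc_2_2 lc_a_rc_0_1 lc_a_rc_21_0 lc_a_rc_1_4 lc_a_rc_0_1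 lc_a_rc_2_2 lc_a_rc_3_2 lc_a_rc_4_2 lc_a_rc_3_0 lc_a_rc_3_0 lc_a_rc_1_4 lc_a_rc_3_2 lc_a_rc_2_0 lc_a_rc_4_2 lc_a_rc_1_2 lc_a_rc_3_2 lc_a_rc_2_2 lc_a_rc_3_2 lc_a_rc_0_1 lc_a_rc_0_1 lc_a_rc_2_2 lc_a_rc_3_2 lc_a_rc_3_2 lc_a_rc_2_2 lc_a_rc_0_1 lc_a_rc_21_0 lc_a_rc_22_0 lc_a_rc_21_0 lc_a_rc_0_1 lc_a_rc_5_0 lc_a_rc_21_0 lc_a_rc_2_2 lc_a_rc_3_0 lc_a_rc_4_2 lc_a_rc_4_2 lc_a_rc_4_2 lc_a_rc_3_2 lc_a_rc_0_1 lc_a_rc_4_0 lc_a_rc_2_2 lc_a_rc_2_2 lc_a_rc_0_1 lc_a_rc_4_2 lc_a_rc_2_0 lc_a_rc_2_0 lc_a_rc_4_2 lc_a_rc_21_0) (@D3.rec (fun _ => (Cert rels S Gen.a)) lc_a_rc_4_2 lc_a_rc_2_2 lc_a_rc_2_2 lc_a_rc_1_0 lc_a_rc_2_2 lc_a_rc_22_0 lc_a_rc_2_2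 lc_a_rc_2_0 lc_a_rc_2_2 lc_a_rc_5_2 lc_a_rc_2_2 lc_a_rc_2_2 lc_a_rc_21_0 lc_a_rc_3_2 lc_a_rc_5_2 lc_a_rc_3_0 lc_a_rc_2_0 lc_a_rc_4_0 lc_a_rc_0_1 lc_a_rc_3_0 lc_a_rc_2_2 lc_a_rc_2_2 lc_a_rc_4_0 lc_a_rc_3_2 lc_a_rc_5_2 lc_a_rc_0_1 lc_a_rc_3_2 lc_a_rc_1_2 lc_a_rc_0_1 lc_a_rc_2_2 lc_a_rc_4_2 lc_a_rc_4_2 lc_a_rc_3_0 lc_a_rc_2_2 lc_a_rc_3_2 lc_a_rc_0_1 lc_a_rc_3_2 lc_a_rc_3_2 lc_a_rc_0_1 lc_a_rc_1_2 lc_a_rc_3_0 lc_a_rc_4_2 lc_a_rc_3_2 lc_a_rc_2_2 lc_a_rc_4_2 lc_a_rc_4_2 lc_a_rc_0_1 lc_a_rc_21_0 lc_a_rc_0_1 lc_a_rc_5_2 lc_a_rc_4_0 lc_a_rc_2_0 lc_a_rc_2_0 lc_a_rc_0_1 lc_a_rc_0_1 lc_a_rc_3_2 lc_a_rc_4_2 lc_a_rc_2_2 lc_a_rc_3_2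 lc_a_rc_1_2 lc_a_rc_2_2 lc_a_rc_2_0) (@D3.rec (fun _ => (Cert rels S Gen.a)) lc_a_rc_0_1 lc_a_rc_3_0 lc_a_rc_2_2 lc_a_rc_2_0 lc_a_rc_1_2 lc_a_rc_3_2 lc_a_rc_4_2 lc_a_rc_21_0 lc_a_rc_3_2 lc_a_rc_3_2 lc_a_rc_3_0 lc_a_rc_2_2 lc_a_rc_3_0 lc_a_rc_4_2 lc_a_rc_4_2 lc_a_rc_1_4 lc_a_rc_2_2 lc_a_rc_3_2 lc_a_rc_2_2 lc_a_rc_1_4 lc_a_rc_0_1 lc_a_rc_21_0 lc_a_rc_2_2 lc_a_rc_3_2 lc_a_rc_1_2 lc_a_rc_5_2 lc_a_rc_0_1 lc_a_rc_3_2 lc_a_rc_0_1 lc_a_rc_2_2 lc_a_rc_2_2 lc_a_rc_4_0 lc_a_rc_5_2 lc_a_rc_3_2 lc_a_rc_0_1 lc_a_rc_4_2 lc_a_rc_3_2 lc_a_rc_5_2 lc_a_rc_21_0 lc_a_rc_4_2 lc_a_rc_5_2 lc_a_rc_4_2 lc_a_rc_3_2 lc_a_rc_3_0 lc_a_rc_0_1 lc_a_rc_3_2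 lc_a_rc_5_2 lc_a_rc_21_0 lc_a_rc_3_2 lc_a_rc_2_2 lc_a_rc_4_2 lc_a_rc_4_2 lc_a_rc_4_2 lc_a_rc_4_0 lc_a_rc_1_0 lc_a_rc_4_2 lc_a_rc_3_2 lc_a_rc_4_2 lc_a_rc_5_0 lc_a_rc_4_0 lc_a_rc_2_2 lc_a_rc_2_0) (@D3.rec (fun _ => (Cert rels S Gen.a)) lc_a_rc_22_0 lc_a_rc_3_2 lc_a_rc_0_1 lc_a_rc_3_2 lc_a_rc_0_1 lc_a_rc_0_1 lc_a_rc_4_2 lc_a_rc_3_0 lc_a_rc_2_2 lc_a_rc_3_0 lc_a_rc_0_1 lc_a_rc_3_2 lc_a_rc_4_2 lc_a_rc_4_0 lc_a_rc_2_2 lc_a_rc_0_1 lc_a_rc_0_1 lc_a_rc_2_2 lc_a_rc_21_0 lc_a_rc_4_2 lc_a_rc_4_2 lc_a_rc_2_0 lc_a_rc_3_0 lc_a_rc_1_2 lc_a_rc_2_2 lc_a_rc_3_2 lc_a_rc_5_2 lc_a_rc_1_0 lc_a_rc_3_2 lc_a_rc_1_2 lc_a_rc_3_2 lc_a_rc_2_0 lc_a_rc_4_0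 lc_a_rc_2_2 lc_a_rc_2_2 lc_a_rc_3_2 lc_a_rc_3_0 lc_a_rc_3_0 lc_a_rc_2_0 lc_a_rc_2_2 lc_a_rc_4_0 lc_a_rc_1_0 lc_a_rc_2_0 lc_a_rc_1_0 lc_a_rc_5_2 lc_a_rc_4_0 lc_a_rc_21_0 lc_a_rc_2_2 lc_a_rc_2_0 lc_a_rc_2_0 lc_a_rc_0_1 lc_a_rc_22_0 lc_a_rc_2_0 lc_a_rc_1_0 lc_a_rc_4_2 lc_a_rc_1_4 lc_a_rc_3_2 lc_a_rc_4_0 lc_a_rc_5_2 lc_a_rc_1_0 lc_a_rc_3_0 lc_a_rc_3_0) (@D3.rec (fun _ => (Cert rels S Gen.a)) lc_a_rc_2_2 lc_a_rc_21_0 lc_a_rc_3_2 lc_a_rc_2_2 lc_a_rc_21_0 lc_a_rc_4_2 lc_a_rc_2_0 lc_a_rc_3_2 lc_a_rc_5_2 lc_a_rc_5_2 lc_a_rc_3_2 lc_a_rc_2_2 lc_a_rc_3_2 lc_a_rc_3_0 lc_a_rc_22_0 lc_a_rc_3_0 lc_a_rc_5_2 lc_a_rc_4_2 lc_a_rc_2_2 lc_a_rc_3_2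 lc_a_rc_2_2 lc_a_rc_21_0 lc_a_rc_3_0 lc_a_rc_2_2 lc_a_rc_5_2 lc_a_rc_4_2 lc_a_rc_2_0 lc_a_rc_3_2 lc_a_rc_4_2 lc_a_rc_3_2 lc_a_rc_4_2 lc_a_rc_5_2 lc_a_rc_3_2 lc_a_rc_0_1 lc_a_rc_3_2 lc_a_rc_21_0 lc_a_rc_3_2 lc_a_rc_4_2 lc_a_rc_3_2 lc_a_rc_4_2 lc_a_rc_2_0 lc_a_rc_2_0 lc_a_rc_5_2 lc_a_rc_3_2 lc_a_rc_2_2 lc_a_rc_1_0 lc_a_rc_3_2 lc_a_rc_4_2 lc_a_rc_1_2 lc_a_rc_4_2 lc_a_rc_5_2 lc_a_rc_2_0 lc_a_rc_5_0 lc_a_rc_2_0 lc_a_rc_22_0 lc_a_rc_2_0 lc_a_rc_2_2 lc_a_rc_4_2 lc_a_rc_3_2 lc_a_rc_3_2 lc_a_rc_1_4 lc_a_rc_21_0) (@D3.rec (fun _ => (Cert rels S Gen.a)) lc_a_rc_3_2 lc_a_rc_5_0 lc_a_rc_2_0 lc_a_rc_21_0 lc_a_rc_2_2 lc_a_rc_5_2 lc_a_rc_21_0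 lc_a_rc_1_4 lc_a_rc_2_2 lc_a_rc_4_2 lc_a_rc_0_1 lc_a_rc_3_2 lc_a_rc_4_2 lc_a_rc_3_2 lc_a_rc_2_2 lc_a_rc_3_2 lc_a_rc_4_0 lc_a_rc_2_2 lc_a_rc_3_2 lc_a_rc_0_1 lc_a_rc_2_2 lc_a_rc_0_1 lc_a_rc_1_2 lc_a_rc_4_2 lc_a_rc_21_0 lc_a_rc_1_4 lc_a_rc_0_1 lc_a_rc_4_2 lc_a_rc_0_1 lc_a_rc_4_2 lc_a_rc_0_1 lc_a_rc_3_2 lc_a_rc_4_2 lc_a_rc_4_2 lc_a_rc_0_1 lc_a_rc_0_1 lc_a_rc_3_2 lc_a_rc_2_2 lc_a_rc_0_1 lc_a_rc_4_2 lc_a_rc_5_2 lc_a_rc_5_2 lc_a_rc_0_1 lc_a_rc_2_2 lc_a_rc_0_1 lc_a_rc_0_1 lc_a_rc_0_1 lc_a_rc_0_1 lc_a_rc_3_2 lc_a_rc_4_2 lc_a_rc_4_2 lc_a_rc_5_2 lc_a_rc_0_1 lc_a_rc_1_2 lc_a_rc_4_0 lc_a_rc_1_2 lc_a_rc_4_2 lc_a_rc_1_2 lc_a_rc_2_2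 lc_a_rc_4_0 lc_a_rc_4_2 lc_a_rc_4_2) (@D3.rec (fun _ => (Cert rels S Gen.a)) lc_a_rc_4_2 lc_a_rc_2_0 lc_a_rc_3_2 lc_a_rc_3_0 lc_a_rc_4_2 lc_a_rc_1_2 lc_a_rc_4_2 lc_a_rc_5_2 lc_a_rc_3_2 lc_a_rc_0_1 lc_a_rc_4_2 lc_a_rc_3_2 lc_a_rc_22_0 lc_a_rc_2_2 lc_a_rc_3_0 lc_a_rc_22_0 lc_a_rc_3_2 lc_a_rc_3_2 lc_a_rc_3_2 lc_a_rc_2_2 lc_a_rc_0_1 lc_a_rc_3_2 lc_a_rc_4_2 lc_a_rc_3_2 lc_a_rc_0_1 lc_a_rc_1_2 lc_a_rc_3_2 lc_a_rc_5_2 lc_a_rc_1_2 lc_a_rc_4_2 lc_a_rc_1_4 lc_a_rc_2_2 lc_a_rc_1_2 lc_a_rc_3_2 lc_a_rc_4_2 lc_a_rc_4_2 lc_a_rc_0_1 lc_a_rc_4_2 lc_a_rc_21_0 lc_a_rc_0_1 lc_a_rc_4_2 lc_a_rc_4_2 lc_a_rc_3_2 lc_a_rc_1_4 lc_a_rc_3_2 lc_a_rc_3_2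 lc_a_rc_2_0 lc_a_rc_5_0 lc_a_rc_3_2 lc_a_rc_0_1 lc_a_rc_2_2 lc_a_rc_4_2 lc_a_rc_1_4 lc_a_rc_0_1 lc_a_rc_3_0 lc_a_rc_1_2 lc_a_rc_3_2 lc_a_rc_4_2 lc_a_rc_21_0 lc_a_rc_3_2 lc_a_rc_2_2 lc_a_rc_2_2) (@D3.rec (fun _ => (Cert rels S Gen.a)) lc_a_rc_1_2 lc_a_rc_3_0 lc_a_rc_4_2 lc_a_rc_0_1 lc_a_rc_0_1 lc_a_rc_3_2 lc_a_rc_0_1 lc_a_rc_2_0 lc_a_rc_0_1 lc_a_rc_2_2 lc_a_rc_0_1 lc_a_rc_2_2 lc_a_rc_5_0 lc_a_rc_0_1 lc_a_rc_2_2 lc_a_rc_2_2 lc_a_rc_1_4 lc_a_rc_2_0 lc_a_rc_1_0 lc_a_rc_2_2 lc_a_rc_22_0 lc_a_rc_1_4 lc_a_rc_3_2 lc_a_rc_2_2 lc_a_rc_2_2 lc_a_rc_2_2 lc_a_rc_2_2 lc_a_rc_21_0 lc_a_rc_5_2 lc_a_rc_22_0 lc_a_rc_2_2 lc_a_rc_21_0 lc_a_rc_21_0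 lc_a_rc_2_0 lc_a_rc_21_0 lc_a_rc_4_2 lc_a_rc_0_1 lc_a_rc_3_0 lc_a_rc_2_2 lc_a_rc_0_1 lc_a_rc_21_0 lc_a_rc_1_2 lc_a_rc_1_2 lc_a_rc_3_0 lc_a_rc_21_0 lc_a_rc_1_2 lc_a_rc_3_0 lc_a_rc_2_2 lc_a_rc_1_0 lc_a_rc_4_2 lc_a_rc_2_2 lc_a_rc_3_0 lc_a_rc_1_4 lc_a_rc_4_2 lc_a_rc_1_2 lc_a_rc_1_4 lc_a_rc_4_2 lc_a_Cert_tree lc_a_rc_0_1 lc_a_rc_21_0 lc_a_rc_3_2 lc_a_rc_5_2) (@D3.rec (fun _ => (Cert rels S Gen.a)) lc_a_rc_4_2 lc_a_rc_4_2 lc_a_rc_2_0 lc_a_rc_0_1 lc_a_rc_3_2 lc_a_rc_3_2 lc_a_rc_2_2 lc_a_rc_1_0 lc_a_rc_4_2 lc_a_rc_0_1 lc_a_rc_4_0 lc_a_rc_2_2 lc_a_rc_3_2 lc_a_rc_4_2 lc_a_rc_1_2 lc_a_rc_4_2 lc_a_rc_0_1 lc_a_rc_2_2 lc_a_rc_4_2 lc_a_rc_21_0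 lc_a_rc_1_4 lc_a_rc_3_0 lc_a_rc_22_0 lc_a_rc_4_2 lc_a_rc_0_1 lc_a_rc_0_1 lc_a_rc_21_0 lc_a_rc_4_2 lc_a_rc_2_0 lc_a_rc_1_4 lc_a_rc_0_1 lc_a_rc_3_2 lc_a_rc_3_2 lc_a_rc_0_1 lc_a_rc_0_1 lc_a_rc_3_0 lc_a_rc_0_1 lc_a_rc_1_2 lc_a_rc_5_0 lc_a_rc_2_2 lc_a_rc_4_0 lc_a_rc_2_2 lc_a_rc_2_0 lc_a_rc_1_4 lc_a_rc_4_2 lc_a_rc_3_2 lc_a_rc_0_1 lc_a_rc_2_2 lc_a_rc_2_0 lc_a_rc_2_2 lc_a_rc_4_2 lc_a_rc_22_0 lc_a_rc_1_2 lc_a_rc_4_2 lc_a_rc_1_4 lc_a_rc_4_0 lc_a_rc_4_2 lc_a_rc_5_2 lc_a_rc_0_1 lc_a_rc_3_2 lc_a_rc_1_2 lc_a_rc_0_1) (@D3.rec (fun _ => (Cert rels S Gen.a)) lc_a_rc_21_0 lc_a_rc_2_2 lc_a_rc_3_2 lc_a_rc_3_2 lc_a_rc_4_2 lc_a_rc_4_2 lc_a_rc_0_1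 lc_a_rc_2_2 lc_a_rc_1_2 lc_a_rc_2_2 lc_a_rc_5_2 lc_a_rc_3_2 lc_a_rc_4_2 lc_a_rc_0_1 lc_a_rc_4_2 lc_a_rc_3_2 lc_a_rc_4_2 lc_a_rc_4_0 lc_a_rc_5_2 lc_a_rc_21_0 lc_a_rc_2_2 lc_a_rc_1_0 lc_a_rc_1_0 lc_a_rc_4_0 lc_a_rc_0_1 lc_a_rc_1_4 lc_a_rc_0_1 lc_a_rc_21_0 lc_a_rc_2_2 lc_a_rc_1_0 lc_a_rc_2_2 lc_a_rc_3_2 lc_a_rc_3_2 lc_a_rc_1_2 lc_a_rc_3_0 lc_a_rc_1_0 lc_a_rc_3_0 lc_a_rc_1_4 lc_a_rc_4_2 lc_a_rc_2_2 lc_a_rc_0_1 lc_a_rc_1_2 lc_a_rc_2_2 lc_a_rc_0_1 lc_a_rc_4_2 lc_a_rc_4_0 lc_a_rc_0_1 lc_a_rc_1_2 lc_a_rc_1_4 lc_a_rc_0_1 lc_a_rc_4_2 lc_a_rc_21_0 lc_a_rc_2_2 lc_a_rc_4_0 lc_a_rc_3_0 lc_a_rc_1_4 lc_a_rc_2_2 lc_a_rc_3_2 lc_a_rc_2_2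 lc_a_rc_3_2 lc_a_rc_1_2 lc_a_rc_21_0) (@D3.rec (fun _ => (Cert rels S Gen.a)) lc_a_rc_1_0 lc_a_rc_1_4 lc_a_rc_3_0 lc_a_rc_4_2 lc_a_rc_22_0 lc_a_rc_0_1 lc_a_rc_0_1 lc_a_rc_2_2 lc_a_rc_4_2 lc_a_rc_22_0 lc_a_rc_3_2 lc_a_rc_4_2 lc_a_rc_0_1 lc_a_rc_3_0 lc_a_rc_3_2 lc_a_rc_4_2 lc_a_rc_3_2 lc_a_rc_21_0 lc_a_rc_2_2 lc_a_rc_2_0 lc_a_rc_21_0 lc_a_rc_0_1 lc_a_rc_5_2 lc_a_rc_4_0 lc_a_rc_21_0 lc_a_rc_2_0 lc_a_rc_4_2 lc_a_rc_4_2 lc_a_rc_3_2 lc_a_rc_3_2 lc_a_rc_0_1 lc_a_rc_2_2 lc_a_rc_0_1 lc_a_rc_3_2 lc_a_rc_1_2 lc_a_rc_3_2 lc_a_rc_0_1 lc_a_rc_2_0 lc_a_rc_2_2 lc_a_rc_3_2 lc_a_rc_3_0 lc_a_rc_22_0 lc_a_rc_3_2 lc_a_rc_0_1 lc_a_rc_1_2 lc_a_rc_4_2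 lc_a_rc_0_1 lc_a_rc_3_2 lc_a_rc_3_2 lc_a_rc_4_2 lc_a_rc_2_2 lc_a_rc_0_1 lc_a_rc_4_2 lc_a_rc_4_0 lc_a_rc_0_1 lc_a_rc_22_0 lc_a_rc_2_2 lc_a_rc_3_2 lc_a_rc_3_2 lc_a_rc_2_2 lc_a_rc_1_2 lc_a_rc_2_2) (@D3.rec (fun _ => (Cert rels S Gen.a)) lc_a_rc_2_2 lc_a_rc_2_2 lc_a_rc_2_2 lc_a_rc_0_1 lc_a_rc_21_0 lc_a_rc_5_0 lc_a_rc_0_1 lc_a_rc_2_2 lc_a_rc_3_2 lc_a_rc_4_0 lc_a_rc_2_2 lc_a_rc_1_4 lc_a_rc_3_2 lc_a_rc_4_2 lc_a_rc_3_2 lc_a_rc_21_0 lc_a_rc_2_2 lc_a_rc_2_2 lc_a_rc_2_2 lc_a_rc_3_2 lc_a_rc_3_2 lc_a_rc_3_2 lc_a_rc_21_0 lc_a_rc_4_2 lc_a_rc_4_2 lc_a_rc_4_2 lc_a_rc_1_0 lc_a_rc_3_2 lc_a_rc_0_1 lc_a_rc_3_2 lc_a_rc_5_2 lc_a_rc_22_0 lc_a_rc_2_2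 lc_a_rc_21_0 lc_a_rc_4_2 lc_a_rc_0_1 lc_a_rc_5_2 lc_a_rc_4_2 lc_a_rc_4_2 lc_a_rc_1_2 lc_a_rc_5_2 lc_a_rc_5_0 lc_a_rc_5_0 lc_a_rc_4_2 lc_a_rc_3_2 lc_a_rc_2_0 lc_a_rc_1_2 lc_a_rc_0_1 lc_a_rc_21_0 lc_a_rc_2_2 lc_a_rc_2_2 lc_a_rc_0_1 lc_a_rc_1_4 lc_a_rc_2_2 lc_a_rc_22_0 lc_a_rc_1_4 lc_a_rc_3_0 lc_a_rc_4_2 lc_a_rc_1_4 lc_a_rc_3_2 lc_a_rc_4_2 lc_a_rc_21_0)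
def ce_a_32 : D2 → D3 → (Cert rels S Gen.a) := @D2.rec (fun _ => D3 → (Cert rels S Gen.a)) (@D3.rec (fun _ => (Cert rels S Gen.a)) lc_a_rc_3_2 lc_a_rc_4_2 lc_a_rc_0_1 lc_a_rc_2_2 lc_a_rc_3_2 lc_a_rc_2_0 lc_a_rc_3_0 lc_a_rc_21_0 lc_a_rc_4_2 lc_a_rc_4_2 lc_a_rc_0_1 lc_a_rc_2_2 lc_a_rc_4_0 lc_a_rc_3_2 lc_a_rc_3_2 lc_a_rc_5_0 lc_a_rc_22_0 lc_a_rc_4_2 lc_a_rc_2_2 lc_a_rc_21_0 lc_a_rc_3_2 lc_a_rc_3_0 lc_a_rc_4_0 lc_a_rc_4_0 lc_a_rc_0_1 lc_a_rc_21_0 lc_a_rc_4_2 lc_a_rc_4_2 lc_a_rc_3_0 lc_a_rc_0_1 lc_a_rc_2_2 lc_a_rc_2_2 lc_a_rc_3_2 lc_a_rc_3_0 lc_a_rc_21_0 lc_a_rc_2_2 lc_a_rc_3_0 lc_a_rc_4_2 lc_a_rc_1_2 lc_a_rc_4_2 lc_a_rc_3_0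 lc_a_rc_4_0 lc_a_rc_4_0 lc_a_rc_21_0 lc_a_rc_1_4 lc_a_rc_4_0 lc_a_rc_1_2 lc_a_rc_5_0 lc_a_rc_1_2 lc_a_rc_21_0 lc_a_rc_21_0 lc_a_rc_21_0 lc_a_rc_3_2 lc_a_rc_2_2 lc_a_rc_3_2 lc_a_rc_2_2 lc_a_rc_5_0 lc_a_rc_4_2 lc_a_rc_5_2 lc_a_rc_2_2 lc_a_rc_4_2 lc_a_rc_3_2) (@D3.rec (fun _ => (Cert rels S Gen.a)) lc_a_rc_3_2 lc_a_rc_3_2 lc_a_rc_4_2 lc_a_rc_4_2 lc_a_rc_4_2 lc_a_rc_2_0 lc_a_rc_3_2 lc_a_rc_4_2 lc_a_rc_3_2 lc_a_rc_5_2 lc_a_rc_3_2 lc_a_rc_2_2 lc_a_rc_4_2 lc_a_rc_5_2 lc_a_rc_22_0 lc_a_rc_2_0 lc_a_rc_1_2 lc_a_rc_4_0 lc_a_rc_3_2 lc_a_rc_2_2 lc_a_rc_3_2 lc_a_rc_4_2 lc_a_rc_4_2 lc_a_rc_3_2 lc_a_rc_0_1 lc_a_rc_21_0 lc_a_rc_0_1 lc_a_rc_3_2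 lc_a_rc_2_2 lc_a_rc_3_2 lc_a_rc_3_2 lc_a_rc_3_2 lc_a_rc_2_2 lc_a_rc_0_1 lc_a_rc_2_2 lc_a_rc_4_2 lc_a_rc_3_2 lc_a_rc_1_4 lc_a_rc_4_2 lc_a_rc_0_1 lc_a_rc_3_0 lc_a_rc_0_1 lc_a_rc_1_4 lc_a_rc_3_0 lc_a_rc_0_1 lc_a_rc_2_2 lc_a_rc_2_0 lc_a_rc_0_1 lc_a_rc_2_2 lc_a_rc_2_2 lc_a_rc_1_4 lc_a_rc_4_2 lc_a_rc_2_0 lc_a_rc_2_2 lc_a_rc_2_2 lc_a_rc_4_2 lc_a_rc_4_2 lc_a_rc_1_4 lc_a_rc_2_2 lc_a_rc_22_0 lc_a_rc_4_2 lc_a_rc_1_4) (@D3.rec (fun _ => (Cert rels S Gen.a)) lc_a_rc_2_0 lc_a_rc_3_2 lc_a_rc_1_0 lc_a_rc_4_2 lc_a_rc_4_2 lc_a_rc_1_2 lc_a_rc_2_0 lc_a_rc_4_0 lc_a_rc_5_2 lc_a_rc_2_2 lc_a_rc_1_0 lc_a_rc_1_4 lc_a_rc_0_1 lc_a_rc_4_2 lc_a_rc_22_0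 lc_a_rc_2_2 lc_a_rc_2_2 lc_a_rc_21_0 lc_a_rc_3_0 lc_a_rc_1_4 lc_a_rc_3_0 lc_a_rc_4_2 lc_a_rc_4_0 lc_a_rc_1_4 lc_a_rc_5_2 lc_a_rc_0_1 lc_a_rc_1_2 lc_a_rc_3_0 lc_a_rc_2_2 lc_a_rc_4_0 lc_a_rc_1_2 lc_a_rc_3_0 lc_a_rc_1_2 lc_a_rc_3_2 lc_a_rc_0_1 lc_a_rc_2_2 lc_a_rc_3_2 lc_a_rc_0_1 lc_a_rc_1_2 lc_a_rc_2_2 lc_a_rc_21_0 lc_a_rc_2_2 lc_a_rc_4_0 lc_a_rc_2_0 lc_a_rc_2_2 lc_a_rc_2_2 lc_a_rc_3_0 lc_a_rc_22_0 lc_a_rc_0_1 lc_a_rc_4_2 lc_a_rc_0_1 lc_a_rc_5_2 lc_a_rc_3_2 lc_a_rc_3_2 lc_a_rc_5_2 lc_a_rc_2_0 lc_a_rc_3_2 lc_a_rc_3_2 lc_a_rc_3_0 lc_a_rc_2_0 lc_a_rc_4_2 lc_a_rc_2_0) (@D3.rec (fun _ => (Cert rels S Gen.a)) lc_a_rc_2_0 lc_a_rc_4_0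 lc_a_rc_2_0 lc_a_rc_0_1 lc_a_rc_2_0 lc_a_rc_0_1 lc_a_rc_1_2 lc_a_rc_5_0 lc_a_rc_3_0 lc_a_rc_1_2 lc_a_rc_4_0 lc_a_rc_3_2 lc_a_rc_4_2 lc_a_rc_4_2 lc_a_rc_3_2 lc_a_rc_4_0 lc_a_rc_3_2 lc_a_rc_3_2 lc_a_rc_1_2 lc_a_rc_3_2 lc_a_rc_1_2 lc_a_rc_3_2 lc_a_rc_3_2 lc_a_rc_2_2 lc_a_rc_5_0 lc_a_rc_0_1 lc_a_rc_4_2 lc_a_rc_3_0 lc_a_rc_2_2 lc_a_rc_0_1 lc_a_rc_2_2 lc_a_rc_3_2 lc_a_rc_2_0 lc_a_rc_3_0 lc_a_rc_3_0 lc_a_rc_0_1 lc_a_rc_4_0 lc_a_rc_1_0 lc_a_rc_2_2 lc_a_rc_5_2 lc_a_rc_3_0 lc_a_rc_2_0 lc_a_rc_21_0 lc_a_rc_2_0 lc_a_rc_2_2 lc_a_rc_3_2 lc_a_rc_1_4 lc_a_rc_2_2 lc_a_rc_4_2 lc_a_rc_2_2 lc_a_rc_0_1 lc_a_rc_4_2 lc_a_rc_3_2 lc_a_rc_3_0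 lc_a_rc_3_2 lc_a_rc_3_2 lc_a_rc_21_0 lc_a_rc_2_2 lc_a_rc_3_2 lc_a_rc_3_2 lc_a_rc_0_1 lc_a_rc_1_4) (@D3.rec (fun _ => (Cert rels S Gen.a)) lc_a_rc_2_2 lc_a_rc_2_0 lc_a_rc_1_0 lc_a_rc_3_2 lc_a_rc_3_0 lc_a_rc_2_2 lc_a_rc_3_2 lc_a_rc_2_2 lc_a_rc_1_0 lc_a_rc_4_0 lc_a_rc_4_2 lc_a_rc_2_2 lc_a_rc_4_2 lc_a_rc_2_2 lc_a_rc_2_2 lc_a_rc_22_0 lc_a_rc_2_0 lc_a_rc_2_0 lc_a_rc_4_2 lc_a_rc_3_2 lc_a_rc_1_0 lc_a_rc_2_2 lc_a_rc_1_0 lc_a_rc_4_2 lc_a_rc_4_0 lc_a_rc_21_0 lc_a_rc_3_2 lc_a_rc_3_2 lc_a_rc_22_0 lc_a_rc_0_1 lc_a_rc_4_2 lc_a_rc_0_1 lc_a_rc_1_4 lc_a_rc_3_2 lc_a_rc_0_1 lc_a_rc_3_2 lc_a_rc_4_2 lc_a_rc_1_4 lc_a_rc_3_2 lc_a_rc_3_2 lc_a_rc_2_0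 lc_a_rc_0_1 lc_a_rc_3_2 lc_a_rc_4_2 lc_a_rc_5_2 lc_a_rc_22_0 lc_a_rc_0_1 lc_a_rc_21_0 lc_a_rc_5_2 lc_a_rc_0_1 lc_a_rc_5_2 lc_a_rc_1_2 lc_a_rc_3_2 lc_a_rc_3_2 lc_a_rc_0_1 lc_a_rc_2_2 lc_a_rc_3_2 lc_a_rc_0_1 lc_a_rc_2_0 lc_a_rc_4_2 lc_a_rc_21_0 lc_a_rc_21_0) (@D3.rec (fun _ => (Cert rels S Gen.a)) lc_a_rc_4_0 lc_a_rc_3_0 lc_a_rc_4_2 lc_a_rc_1_0 lc_a_rc_0_1 lc_a_rc_5_0 lc_a_rc_21_0 lc_a_rc_4_2 lc_a_rc_3_2 lc_a_rc_5_0 lc_a_rc_21_0 lc_a_rc_2_2 lc_a_rc_21_0 lc_a_rc_1_2 lc_a_rc_3_2 lc_a_rc_0_1 lc_a_rc_0_1 lc_a_rc_0_1 lc_a_rc_3_2 lc_a_rc_4_2 lc_a_rc_4_0 lc_a_rc_1_4 lc_a_rc_3_2 lc_a_rc_2_2 lc_a_rc_2_2 lc_a_rc_22_0 lc_a_rc_0_1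 lc_a_rc_4_2 lc_a_rc_3_2 lc_a_rc_0_1 lc_a_rc_4_2 lc_a_rc_2_2 lc_a_rc_2_2 lc_a_rc_5_2 lc_a_rc_3_0 lc_a_rc_2_2 lc_a_rc_2_2 lc_a_rc_3_0 lc_a_rc_3_2 lc_a_rc_1_4 lc_a_rc_22_0 lc_a_rc_3_0 lc_a_rc_4_2 lc_a_rc_21_0 lc_a_rc_1_2 lc_a_rc_3_2 lc_a_rc_4_2 lc_a_rc_5_2 lc_a_rc_3_0 lc_a_rc_3_0 lc_a_rc_4_0 lc_a_rc_3_0 lc_a_rc_3_0 lc_a_rc_3_2 lc_a_rc_0_1 lc_a_rc_2_2 lc_a_rc_2_0 lc_a_rc_5_2 lc_a_rc_3_0 lc_a_rc_3_2 lc_a_rc_4_2 lc_a_rc_4_0) (@D3.rec (fun _ => (Cert rels S Gen.a)) lc_a_rc_2_2 lc_a_rc_5_2 lc_a_rc_2_2 lc_a_rc_4_2 lc_a_rc_2_2 lc_a_rc_2_2 lc_a_rc_2_2 lc_a_rc_3_2 lc_a_rc_5_2 lc_a_rc_3_0 lc_a_rc_3_2 lc_a_rc_2_2 lc_a_rc_2_2 lc_a_rc_21_0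 lc_a_rc_3_2 lc_a_rc_0_1 lc_a_rc_0_1 lc_a_rc_3_2 lc_a_rc_1_4 lc_a_rc_1_2 lc_a_rc_4_2 lc_a_rc_1_0 lc_a_rc_4_2 lc_a_rc_5_2 lc_a_rc_3_2 lc_a_rc_3_2 lc_a_rc_1_2 lc_a_rc_2_2 lc_a_rc_4_2 lc_a_rc_3_2 lc_a_rc_3_2 lc_a_rc_4_0 lc_a_rc_22_0 lc_a_rc_3_2 lc_a_rc_4_2 lc_a_rc_0_1 lc_a_rc_1_0 lc_a_rc_4_2 lc_a_rc_2_0 lc_a_rc_3_0 lc_a_rc_2_0 lc_a_rc_22_0 lc_a_rc_3_0 lc_a_rc_4_2 lc_a_rc_4_2 lc_a_rc_3_2 lc_a_rc_2_0 lc_a_rc_3_2 lc_a_rc_5_2 lc_a_rc_3_0 lc_a_rc_0_1 lc_a_rc_3_0 lc_a_rc_4_2 lc_a_rc_3_2 lc_a_rc_3_2 lc_a_rc_3_0 lc_a_rc_2_2 lc_a_rc_2_2 lc_a_rc_4_2 lc_a_rc_3_2 lc_a_rc_21_0 lc_a_rc_3_2) (@D3.rec (fun _ => (Cert rels S Gen.a)) lc_a_rc_3_2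 lc_a_rc_4_0 lc_a_rc_3_0 lc_a_rc_2_2 lc_a_rc_4_2 lc_a_rc_4_2 lc_a_rc_2_0 lc_a_rc_3_2 lc_a_rc_1_4 lc_a_rc_3_2 lc_a_rc_3_2 lc_a_rc_3_2 lc_a_rc_5_2 lc_a_rc_22_0 lc_a_rc_21_0 lc_a_rc_4_2 lc_a_rc_2_2 lc_a_rc_1_4 lc_a_rc_2_2 lc_a_rc_21_0 lc_a_rc_0_1 lc_a_rc_3_2 lc_a_rc_4_2 lc_a_rc_3_2 lc_a_rc_3_0 lc_a_rc_2_2 lc_a_rc_3_0 lc_a_rc_4_2 lc_a_rc_5_0 lc_a_rc_0_1 lc_a_rc_1_0 lc_a_rc_21_0 lc_a_rc_4_2 lc_a_rc_4_2 lc_a_rc_2_2 lc_a_rc_0_1 lc_a_rc_0_1 lc_a_rc_4_2 lc_a_rc_4_2 lc_a_rc_21_0 lc_a_rc_4_0 lc_a_rc_1_2 lc_a_rc_3_2 lc_a_rc_3_2 lc_a_rc_2_2 lc_a_rc_4_0 lc_a_rc_1_0 lc_a_rc_4_2 lc_a_rc_3_2 lc_a_rc_21_0 lc_a_rc_1_4 lc_a_rc_3_0 lc_a_rc_1_0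 lc_a_rc_0_1 lc_a_rc_2_2 lc_a_rc_1_0 lc_a_rc_2_2 lc_a_rc_5_2 lc_a_rc_2_2 lc_a_rc_3_2 lc_a_rc_3_0 lc_a_rc_3_2) (@D3.rec (fun _ => (Cert rels S Gen.a)) lc_a_rc_5_0 lc_a_rc_0_1 lc_a_rc_2_2 lc_a_rc_4_0 lc_a_rc_3_0 lc_a_rc_21_0 lc_a_rc_3_2 lc_a_rc_2_2 lc_a_rc_3_2 lc_a_rc_21_0 lc_a_rc_4_2 lc_a_rc_4_0 lc_a_rc_2_0 lc_a_rc_4_2 lc_a_rc_2_2 lc_a_rc_3_2 lc_a_rc_2_2 lc_a_rc_0_1 lc_a_rc_4_2 lc_a_rc_2_2 lc_a_rc_3_2 lc_a_rc_3_2 lc_a_rc_3_2 lc_a_rc_2_2 lc_a_rc_2_0 lc_a_rc_0_1 lc_a_rc_0_1 lc_a_rc_4_0 lc_a_rc_0_1 lc_a_rc_0_1 lc_a_rc_1_4 lc_a_rc_1_2 lc_a_rc_1_4 lc_a_rc_2_0 lc_a_rc_3_2 lc_a_rc_2_2 lc_a_rc_3_2 lc_a_rc_3_2 lc_a_rc_21_0 lc_a_rc_2_2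 lc_a_rc_4_2 lc_a_rc_0_1 lc_a_rc_2_0 lc_a_rc_3_2 lc_a_rc_0_1 lc_a_rc_2_2 lc_a_rc_2_2 lc_a_rc_4_2 lc_a_rc_4_0 lc_a_rc_2_2 lc_a_rc_2_2 lc_a_rc_0_1 lc_a_rc_3_2 lc_a_rc_2_2 lc_a_rc_3_2 lc_a_rc_5_2 lc_a_rc_2_2 lc_a_rc_4_2 lc_a_rc_3_0 lc_a_rc_4_2 lc_a_rc_2_2 lc_a_rc_3_2) (@D3.rec (fun _ => (Cert rels S Gen.a)) lc_a_rc_22_0 lc_a_rc_2_2 lc_a_rc_3_2 lc_a_rc_2_2 lc_a_rc_3_2 lc_a_rc_22_0 lc_a_rc_3_2 lc_a_rc_3_2 lc_a_rc_21_0 lc_a_rc_0_1 lc_a_rc_1_2 lc_a_rc_3_2 lc_a_rc_4_2 lc_a_rc_4_2 lc_a_rc_3_0 lc_a_rc_1_4 lc_a_rc_3_2 lc_a_rc_22_0 lc_a_rc_0_1 lc_a_rc_3_0 lc_a_rc_22_0 lc_a_rc_0_1 lc_a_rc_21_0 lc_a_rc_0_1 lc_a_rc_0_1 lc_a_rc_21_0 lc_a_rc_2_0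 lc_a_rc_4_2 lc_a_rc_2_2 lc_a_rc_2_2 lc_a_rc_1_0 lc_a_rc_3_2 lc_a_rc_22_0 lc_a_rc_0_1 lc_a_rc_0_1 lc_a_rc_0_1 lc_a_rc_21_0 lc_a_rc_5_2 lc_a_rc_1_0 lc_a_rc_3_2 lc_a_rc_21_0 lc_a_rc_22_0 lc_a_rc_0_1 lc_a_rc_21_0 lc_a_rc_21_0 lc_a_rc_3_2 lc_a_rc_0_1 lc_a_rc_2_0 lc_a_rc_2_2 lc_a_rc_3_2 lc_a_rc_1_4 lc_a_rc_3_2 lc_a_rc_2_2 lc_a_rc_2_2 lc_a_rc_2_2 lc_a_rc_0_1 lc_a_rc_1_2 lc_a_rc_1_4 lc_a_rc_1_0 lc_a_rc_5_0 lc_a_rc_3_0 lc_a_rc_0_1) (@D3.rec (fun _ => (Cert rels S Gen.a)) lc_a_rc_2_2 lc_a_rc_2_2 lc_a_rc_3_2 lc_a_rc_3_2 lc_a_rc_1_0 lc_a_rc_4_2 lc_a_rc_21_0 lc_a_rc_5_0 lc_a_rc_3_0 lc_a_rc_0_1 lc_a_rc_3_2 lc_a_rc_4_2 lc_a_rc_3_2 lc_a_rc_2_2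 lc_a_rc_1_4 lc_a_rc_0_1 lc_a_rc_21_0 lc_a_rc_0_1 lc_a_rc_2_2 lc_a_rc_4_2 lc_a_rc_21_0 lc_a_rc_4_2 lc_a_rc_3_2 lc_a_rc_4_0 lc_a_rc_4_2 lc_a_rc_0_1 lc_a_rc_1_2 lc_a_rc_1_2 lc_a_rc_1_4 lc_a_rc_2_2 lc_a_rc_2_2 lc_a_rc_4_0 lc_a_rc_2_0 lc_a_rc_2_2 lc_a_rc_1_0 lc_a_rc_2_2 lc_a_rc_0_1 lc_a_rc_4_2 lc_a_rc_3_2 lc_a_rc_3_0 lc_a_rc_0_1 lc_a_rc_21_0 lc_a_rc_21_0 lc_a_rc_0_1 lc_a_rc_3_2 lc_a_rc_2_2 lc_a_rc_2_0 lc_a_rc_0_1 lc_a_rc_4_2 lc_a_rc_0_1 lc_a_rc_3_2 lc_a_rc_0_1 lc_a_rc_4_0 lc_a_rc_4_2 lc_a_rc_2_2 lc_a_rc_5_2 lc_a_rc_3_0 lc_a_rc_4_2 lc_a_rc_3_0 lc_a_rc_0_1 lc_a_rc_22_0 lc_a_rc_0_1) (@D3.rec (fun _ => (Cert rels S Gen.a)) lc_a_rc_3_2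 lc_a_rc_3_2 lc_a_rc_21_0 lc_a_rc_1_4 lc_a_rc_2_0 lc_a_rc_4_2 lc_a_rc_2_0 lc_a_rc_22_0 lc_a_rc_2_0 lc_a_rc_4_0 lc_a_rc_1_0 lc_a_rc_5_0 lc_a_rc_3_2 lc_a_rc_2_0 lc_a_rc_2_2 lc_a_rc_21_0 lc_a_rc_3_2 lc_a_rc_3_2 lc_a_rc_3_2 lc_a_rc_1_4 lc_a_rc_3_2 lc_a_rc_2_0 lc_a_rc_5_2 lc_a_rc_3_0 lc_a_rc_0_1 lc_a_rc_1_4 lc_a_rc_3_0 lc_a_rc_2_2 lc_a_rc_4_0 lc_a_rc_2_2 lc_a_rc_4_2 lc_a_rc_3_2 lc_a_rc_4_2 lc_a_rc_3_2 lc_a_rc_2_2 lc_a_rc_21_0 lc_a_rc_4_2 lc_a_rc_4_2 lc_a_rc_4_2 lc_a_rc_2_2 lc_a_rc_3_2 lc_a_rc_3_2 lc_a_rc_2_2 lc_a_rc_3_0 lc_a_rc_2_0 lc_a_rc_1_4 lc_a_rc_2_0 lc_a_rc_1_0 lc_a_rc_5_2 lc_a_rc_0_1 lc_a_rc_3_0 lc_a_rc_2_2 lc_a_rc_4_2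 lc_a_rc_21_0 lc_a_rc_3_0 lc_a_rc_2_0 lc_a_rc_2_2 lc_a_rc_0_1 lc_a_rc_1_0 lc_a_rc_3_0 lc_a_rc_3_2 lc_a_rc_1_4) (@D3.rec (fun _ => (Cert rels S Gen.a)) lc_a_rc_4_2 lc_a_rc_0_1 lc_a_rc_3_2 lc_a_rc_0_1 lc_a_rc_4_0 lc_a_rc_3_0 lc_a_rc_0_1 lc_a_rc_4_0 lc_a_rc_22_0 lc_a_rc_2_2 lc_a_rc_3_0 lc_a_rc_4_2 lc_a_rc_0_1 lc_a_rc_22_0 lc_a_rc_3_2 lc_a_rc_3_2 lc_a_rc_3_2 lc_a_rc_0_1 lc_a_rc_3_2 lc_a_rc_1_4 lc_a_rc_0_1 lc_a_rc_4_2 lc_a_rc_4_0 lc_a_rc_3_0 lc_a_rc_1_4 lc_a_rc_4_2 lc_a_rc_1_4 lc_a_rc_22_0 lc_a_rc_1_2 lc_a_rc_1_2 lc_a_rc_0_1 lc_a_rc_3_2 lc_a_rc_0_1 lc_a_rc_0_1 lc_a_rc_4_0 lc_a_rc_5_0 lc_a_rc_4_2 lc_a_rc_21_0 lc_a_rc_3_2 lc_a_rc_4_2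 lc_a_rc_22_0 lc_a_rc_4_0 lc_a_rc_2_2 lc_a_rc_0_1 lc_a_rc_22_0 lc_a_rc_1_2 lc_a_rc_4_2 lc_a_rc_3_0 lc_a_rc_0_1 lc_a_rc_3_0 lc_a_rc_3_2 lc_a_rc_2_0 lc_a_rc_1_2 lc_a_rc_5_2 lc_a_rc_1_4 lc_a_rc_3_2 lc_a_rc_2_0 lc_a_rc_3_2 lc_a_rc_3_2 lc_a_rc_1_4 lc_a_rc_4_2 lc_a_rc_3_2) (@D3.rec (fun _ => (Cert rels S Gen.a)) lc_a_rc_4_2 lc_a_rc_1_4 lc_a_rc_4_2 lc_a_rc_4_2 lc_a_rc_4_2 lc_a_rc_3_2 lc_a_rc_4_2 lc_a_rc_2_0 lc_a_rc_1_0 lc_a_rc_22_0 lc_a_rc_0_1 lc_a_rc_4_0 lc_a_rc_5_2 lc_a_rc_1_0 lc_a_rc_2_0 lc_a_rc_4_2 lc_a_rc_3_2 lc_a_rc_2_2 lc_a_rc_4_0 lc_a_rc_1_2 lc_a_rc_22_0 lc_a_rc_3_2 lc_a_rc_5_2 lc_a_rc_2_2 lc_a_rc_1_4 lc_a_rc_4_2 lc_a_rc_22_0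 lc_a_rc_21_0 lc_a_rc_1_2 lc_a_rc_3_2 lc_a_rc_3_2 lc_a_rc_3_2 lc_a_rc_2_0 lc_a_rc_3_0 lc_a_rc_1_0 lc_a_rc_1_4 lc_a_rc_2_2 lc_a_rc_2_2 lc_a_rc_3_2 lc_a_rc_0_1 lc_a_rc_2_0 lc_a_rc_4_2 lc_a_rc_0_1 lc_a_rc_1_4 lc_a_rc_0_1 lc_a_rc_4_0 lc_a_rc_2_2 lc_a_rc_5_2 lc_a_rc_1_0 lc_a_rc_21_0 lc_a_rc_4_2 lc_a_rc_3_0 lc_a_rc_3_0 lc_a_rc_1_2 lc_a_rc_0_1 lc_a_rc_1_2 lc_a_rc_1_4 lc_a_rc_4_2 lc_a_rc_1_4 lc_a_rc_0_1 lc_a_rc_4_2 lc_a_rc_3_0) (@D3.rec (fun _ => (Cert rels S Gen.a)) lc_a_rc_0_1 lc_a_rc_2_0 lc_a_rc_4_0 lc_a_rc_2_0 lc_a_rc_2_2 lc_a_rc_21_0 lc_a_rc_1_2 lc_a_rc_4_0 lc_a_rc_2_0 lc_a_rc_2_0 lc_a_rc_21_0 lc_a_rc_2_2 lc_a_rc_5_2 lc_a_rc_2_2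 lc_a_rc_2_0 lc_a_rc_1_4 lc_a_rc_3_2 lc_a_rc_3_0 lc_a_rc_4_0 lc_a_rc_3_0 lc_a_rc_4_0 lc_a_rc_22_0 lc_a_rc_2_2 lc_a_rc_0_1 lc_a_rc_3_2 lc_a_rc_3_0 lc_a_rc_4_2 lc_a_rc_2_0 lc_a_rc_3_0 lc_a_rc_3_0 lc_a_rc_2_2 lc_a_rc_21_0 lc_a_rc_21_0 lc_a_rc_2_0 lc_a_rc_2_0 lc_a_rc_2_2 lc_a_rc_2_2 lc_a_rc_4_2 lc_a_rc_21_0 lc_a_rc_3_2 lc_a_rc_3_2 lc_a_rc_2_0 lc_a_rc_22_0 lc_a_rc_2_2 lc_a_rc_2_2 lc_a_rc_4_2 lc_a_rc_4_2 lc_a_rc_3_2 lc_a_rc_3_0 lc_a_rc_5_2 lc_a_rc_4_0 lc_a_rc_2_2 lc_a_rc_1_2 lc_a_rc_2_2 lc_a_rc_4_2 lc_a_rc_5_2 lc_a_rc_5_0 lc_a_rc_0_1 lc_a_rc_22_0 lc_a_rc_2_2 lc_a_rc_5_2 lc_a_rc_1_2) (@D3.rec (fun _ => (Cert rels S Gen.a)) lc_a_rc_2_2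 lc_a_rc_3_2 lc_a_rc_1_4 lc_a_rc_2_0 lc_a_rc_3_0 lc_a_rc_2_0 lc_a_rc_2_0 lc_a_rc_3_2 lc_a_rc_5_2 lc_a_rc_1_4 lc_a_rc_1_2 lc_a_rc_2_2 lc_a_rc_4_2 lc_a_rc_4_0 lc_a_rc_2_2 lc_a_rc_21_0 lc_a_rc_21_0 lc_a_rc_2_2 lc_a_rc_5_2 lc_a_rc_4_2 lc_a_rc_3_0 lc_a_rc_3_2 lc_a_rc_21_0 lc_a_rc_5_2 lc_a_rc_3_2 lc_a_rc_4_2 lc_a_rc_0_1 lc_a_rc_4_0 lc_a_rc_1_4 lc_a_rc_2_0 lc_a_rc_4_2 lc_a_rc_4_0 lc_a_rc_0_1 lc_a_rc_21_0 lc_a_rc_2_0 lc_a_rc_3_2 lc_a_rc_2_2 lc_a_rc_0_1 lc_a_rc_3_2 lc_a_rc_0_1 lc_a_rc_22_0 lc_a_rc_0_1 lc_a_rc_0_1 lc_a_rc_5_2 lc_a_rc_4_2 lc_a_rc_4_2 lc_a_rc_3_2 lc_a_rc_3_2 lc_a_rc_4_2 lc_a_rc_2_0 lc_a_rc_4_2 lc_a_rc_0_1 lc_a_rc_21_0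 lc_a_rc_3_0 lc_a_rc_3_2 lc_a_rc_3_2 lc_a_rc_3_2 lc_a_rc_3_2 lc_a_rc_2_2 lc_a_rc_4_2 lc_a_rc_21_0 lc_a_rc_21_0) (@D3.rec (fun _ => (Cert rels S Gen.a)) lc_a_rc_4_0 lc_a_rc_3_2 lc_a_rc_4_2 lc_a_rc_2_2 lc_a_rc_5_2 lc_a_rc_1_2 lc_a_rc_1_4 lc_a_rc_0_1 lc_a_rc_2_2 lc_a_rc_21_0 lc_a_rc_4_2 lc_a_rc_5_2 lc_a_rc_4_0 lc_a_rc_5_0 lc_a_rc_0_1 lc_a_rc_2_2 lc_a_rc_2_0 lc_a_rc_5_0 lc_a_rc_2_2 lc_a_rc_5_2 lc_a_rc_0_1 lc_a_rc_3_2 lc_a_rc_3_2 lc_a_rc_1_0 lc_a_rc_2_2 lc_a_rc_4_0 lc_a_rc_5_0 lc_a_rc_5_2 lc_a_rc_0_1 lc_a_rc_3_2 lc_a_rc_21_0 lc_a_rc_4_0 lc_a_rc_3_0 lc_a_rc_4_2 lc_a_rc_2_2 lc_a_rc_3_2 lc_a_rc_0_1 lc_a_rc_5_2 lc_a_rc_1_4 lc_a_rc_3_0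 lc_a_rc_2_0 lc_a_rc_3_2 lc_a_rc_5_2 lc_a_rc_0_1 lc_a_rc_2_2 lc_a_rc_5_2 lc_a_rc_3_2 lc_a_rc_5_0 lc_a_rc_5_2 lc_a_rc_1_4 lc_a_rc_3_2 lc_a_rc_5_0 lc_a_rc_2_0 lc_a_rc_2_2 lc_a_rc_5_2 lc_a_rc_21_0 lc_a_rc_4_2 lc_a_rc_4_2 lc_a_rc_2_2 lc_a_rc_22_0 lc_a_rc_1_4 lc_a_rc_5_0) (@D3.rec (fun _ => (Cert rels S Gen.a)) lc_a_rc_1_4 lc_a_rc_2_2 lc_a_rc_3_2 lc_a_rc_3_2 lc_a_rc_3_2 lc_a_rc_4_2 lc_a_rc_3_2 lc_a_rc_1_0 lc_a_rc_1_2 lc_a_rc_5_2 lc_a_rc_5_0 lc_a_rc_0_1 lc_a_rc_5_2 lc_a_rc_1_4 lc_a_rc_2_2 lc_a_rc_2_2 lc_a_rc_21_0 lc_a_rc_2_2 lc_a_rc_3_2 lc_a_rc_3_0 lc_a_rc_2_0 lc_a_rc_2_2 lc_a_rc_3_2 lc_a_rc_22_0 lc_a_rc_22_0 lc_a_rc_22_0 lc_a_rc_22_0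 lc_a_rc_21_0 lc_a_rc_4_0 lc_a_rc_5_2 lc_a_rc_2_0 lc_a_rc_1_4 lc_a_rc_1_2 lc_a_rc_5_2 lc_a_rc_3_2 lc_a_rc_2_2 lc_a_rc_2_2 lc_a_rc_0_1 lc_a_rc_2_2 lc_a_rc_2_2 lc_a_rc_3_0 lc_a_rc_21_0 lc_a_rc_3_2 lc_a_rc_3_2 lc_a_rc_21_0 lc_a_rc_21_0 lc_a_rc_3_2 lc_a_rc_2_0 lc_a_rc_3_2 lc_a_rc_5_2 lc_a_rc_2_2 lc_a_rc_2_0 lc_a_rc_1_2 lc_a_rc_3_2 lc_a_rc_22_0 lc_a_rc_3_2 lc_a_rc_1_0 lc_a_rc_4_2 lc_a_rc_5_2 lc_a_rc_0_1 lc_a_rc_21_0 lc_a_rc_4_0) (@D3.rec (fun _ => (Cert rels S Gen.a)) lc_a_rc_4_0 lc_a_rc_3_2 lc_a_rc_4_2 lc_a_rc_1_4 lc_a_rc_1_2 lc_a_rc_3_0 lc_a_rc_2_2 lc_a_rc_4_0 lc_a_rc_4_2 lc_a_rc_5_2 lc_a_rc_4_2 lc_a_rc_2_2 lc_a_rc_5_2 lc_a_rc_0_1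 lc_a_rc_21_0 lc_a_rc_2_2 lc_a_rc_4_2 lc_a_rc_4_2 lc_a_rc_0_1 lc_a_rc_4_2 lc_a_rc_4_2 lc_a_rc_0_1 lc_a_rc_21_0 lc_a_rc_5_0 lc_a_rc_0_1 lc_a_rc_2_2 lc_a_rc_22_0 lc_a_rc_0_1 lc_a_rc_0_1 lc_a_rc_3_0 lc_a_rc_1_4 lc_a_rc_4_0 lc_a_rc_22_0 lc_a_rc_3_2 lc_a_rc_22_0 lc_a_rc_21_0 lc_a_rc_1_2 lc_a_rc_4_0 lc_a_rc_3_2 lc_a_rc_3_0 lc_a_rc_3_0 lc_a_rc_2_0 lc_a_rc_21_0 lc_a_rc_22_0 lc_a_rc_2_2 lc_a_rc_3_2 lc_a_rc_4_2 lc_a_rc_4_2 lc_a_rc_2_0 lc_a_rc_2_2 lc_a_rc_2_2 lc_a_rc_0_1 lc_a_rc_4_2 lc_a_rc_2_2 lc_a_rc_2_2 lc_a_rc_21_0 lc_a_rc_2_2 lc_a_rc_2_2 lc_a_rc_4_0 lc_a_rc_2_0 lc_a_rc_2_2 lc_a_rc_3_2) (@D3.rec (fun _ => (Cert rels S Gen.a))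 lc_a_rc_3_2 lc_a_rc_3_2 lc_a_rc_4_2 lc_a_rc_0_1 lc_a_rc_3_0 lc_a_rc_5_0 lc_a_rc_4_2 lc_a_rc_4_0 lc_a_rc_4_2 lc_a_rc_3_2 lc_a_rc_3_2 lc_a_rc_2_0 lc_a_rc_5_0 lc_a_rc_4_2 lc_a_rc_0_1 lc_a_rc_4_2 lc_a_rc_4_2 lc_a_rc_4_0 lc_a_rc_4_2 lc_a_rc_1_2 lc_a_rc_4_0 lc_a_rc_22_0 lc_a_rc_21_0 lc_a_rc_1_4 lc_a_rc_2_2 lc_a_rc_3_0 lc_a_rc_3_0 lc_a_rc_4_2 lc_a_rc_4_0 lc_a_rc_1_2 lc_a_rc_0_1 lc_a_rc_2_2 lc_a_rc_4_2 lc_a_rc_3_0 lc_a_rc_4_2 lc_a_rc_4_2 lc_a_rc_3_2 lc_a_rc_1_4 lc_a_rc_21_0 lc_a_rc_0_1 lc_a_rc_21_0 lc_a_rc_4_2 lc_a_rc_5_2 lc_a_rc_1_4 lc_a_rc_2_2 lc_a_rc_2_2 lc_a_rc_1_2 lc_a_rc_2_2 lc_a_rc_4_2 lc_a_rc_21_0 lc_a_rc_2_2 lc_a_rc_4_2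 lc_a_rc_3_2 lc_a_rc_2_2 lc_a_rc_2_2 lc_a_rc_2_2 lc_a_rc_4_2 lc_a_rc_2_2 lc_a_rc_22_0 lc_a_rc_2_0 lc_a_rc_0_1 lc_a_rc_2_0) (@D3.rec (fun _ => (Cert rels S Gen.a)) lc_a_rc_21_0 lc_a_rc_2_0 lc_a_rc_22_0 lc_a_rc_5_0 lc_a_rc_3_0 lc_a_rc_0_1 lc_a_rc_2_2 lc_a_rc_4_2 lc_a_rc_21_0 lc_a_rc_4_0 lc_a_rc_4_2 lc_a_rc_2_2 lc_a_rc_5_0 lc_a_rc_5_2 lc_a_rc_4_2 lc_a_rc_0_1 lc_a_rc_2_2 lc_a_rc_5_0 lc_a_rc_3_0 lc_a_rc_3_2 lc_a_rc_1_4 lc_a_rc_4_0 lc_a_rc_2_2 lc_a_rc_4_2 lc_a_rc_2_2 lc_a_rc_1_0 lc_a_rc_1_4 lc_a_rc_21_0 lc_a_rc_3_2 lc_a_rc_1_4 lc_a_rc_0_1 lc_a_rc_3_0 lc_a_rc_1_4 lc_a_rc_0_1 lc_a_rc_2_2 lc_a_rc_3_0 lc_a_rc_4_2 lc_a_rc_3_2 lc_a_rc_21_0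 lc_a_rc_2_0 lc_a_rc_0_1 lc_a_rc_4_0 lc_a_rc_2_2 lc_a_rc_2_2 lc_a_rc_3_2 lc_a_rc_21_0 lc_a_Cert_tree lc_a_rc_3_0 lc_a_rc_5_0 lc_a_rc_4_0 lc_a_rc_1_4 lc_a_rc_1_2 lc_a_rc_0_1 lc_a_rc_3_0 lc_a_rc_5_2 lc_a_rc_2_2 lc_a_rc_2_2 lc_a_rc_2_2 lc_a_rc_21_0 lc_a_rc_1_2 lc_a_rc_1_2 lc_a_rc_4_0) (@D3.rec (fun _ => (Cert rels S Gen.a)) lc_a_rc_0_1 lc_a_rc_4_2 lc_a_rc_3_2 lc_a_rc_2_2 lc_a_rc_2_2 lc_a_rc_4_2 lc_a_rc_2_2 lc_a_rc_4_2 lc_a_rc_3_2 lc_a_rc_4_2 lc_a_rc_1_0 lc_a_rc_21_0 lc_a_rc_3_2 lc_a_rc_2_2 lc_a_rc_5_2 lc_a_rc_5_0 lc_a_rc_0_1 lc_a_rc_3_2 lc_a_rc_4_2 lc_a_rc_3_2 lc_a_rc_3_0 lc_a_rc_5_0 lc_a_rc_4_2 lc_a_rc_2_2 lc_a_rc_5_2 lc_a_rc_5_2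 lc_a_rc_0_1 lc_a_rc_4_2 lc_a_rc_3_2 lc_a_rc_0_1 lc_a_rc_2_2 lc_a_rc_2_2 lc_a_rc_4_2 lc_a_rc_3_2 lc_a_rc_4_0 lc_a_rc_4_2 lc_a_rc_3_2 lc_a_rc_4_2 lc_a_rc_21_0 lc_a_rc_3_2 lc_a_rc_2_2 lc_a_rc_4_0 lc_a_rc_0_1 lc_a_rc_0_1 lc_a_rc_3_0 lc_a_rc_2_2 lc_a_rc_0_1 lc_a_rc_4_2 lc_a_rc_2_2 lc_a_rc_4_2 lc_a_rc_0_1 lc_a_rc_4_2 lc_a_rc_2_0 lc_a_rc_1_4 lc_a_rc_1_2 lc_a_rc_0_1 lc_a_rc_3_2 lc_a_rc_22_0 lc_a_rc_5_2 lc_a_rc_4_2 lc_a_rc_1_4 lc_a_rc_4_2) (@D3.rec (fun _ => (Cert rels S Gen.a)) lc_a_rc_0_1 lc_a_rc_3_0 lc_a_rc_0_1 lc_a_rc_1_4 lc_a_rc_2_2 lc_a_rc_2_0 lc_a_rc_1_0 lc_a_rc_3_2 lc_a_rc_2_0 lc_a_rc_1_0 lc_a_rc_4_2 lc_a_rc_21_0 lc_a_rc_2_0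 lc_a_rc_2_2 lc_a_rc_1_4 lc_a_rc_4_2 lc_a_rc_21_0 lc_a_rc_1_2 lc_a_rc_3_0 lc_a_rc_4_0 lc_a_rc_2_2 lc_a_rc_2_2 lc_a_rc_21_0 lc_a_rc_5_2 lc_a_rc_2_2 lc_a_rc_1_0 lc_a_rc_2_0 lc_a_rc_21_0 lc_a_rc_4_2 lc_a_rc_4_2 lc_a_rc_4_2 lc_a_rc_2_2 lc_a_rc_3_2 lc_a_rc_3_0 lc_a_rc_3_2 lc_a_rc_2_2 lc_a_rc_4_2 lc_a_rc_3_2 lc_a_rc_2_2 lc_a_rc_3_2 lc_a_rc_3_2 lc_a_rc_5_0 lc_a_rc_2_2 lc_a_rc_5_2 lc_a_rc_0_1 lc_a_rc_4_2 lc_a_rc_2_2 lc_a_rc_2_0 lc_a_rc_2_0 lc_a_rc_2_0 lc_a_rc_3_0 lc_a_rc_0_1 lc_a_rc_2_2 lc_a_rc_21_0 lc_a_rc_22_0 lc_a_rc_5_2 lc_a_rc_3_2 lc_a_rc_3_0 lc_a_rc_22_0 lc_a_rc_1_4 lc_a_rc_2_2 lc_a_rc_2_2) (@D3.rec (fun _ => (Cert rels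 S Gen.a)) lc_a_rc_4_0 lc_a_rc_2_2 lc_a_rc_2_2 lc_a_rc_2_2 lc_a_rc_0_1 lc_a_rc_4_2 lc_a_rc_0_1 lc_a_rc_1_2 lc_a_rc_5_0 lc_a_rc_4_0 lc_a_rc_3_2 lc_a_rc_0_1 lc_a_rc_21_0 lc_a_rc_5_2 lc_a_rc_4_0 lc_a_rc_4_2 lc_a_rc_1_0 lc_a_rc_2_0 lc_a_rc_2_2 lc_a_rc_4_0 lc_a_rc_3_2 lc_a_rc_22_0 lc_a_rc_2_2 lc_a_rc_2_0 lc_a_rc_0_1 lc_a_rc_0_1 lc_a_rc_4_2 lc_a_rc_3_2 lc_a_rc_2_2 lc_a_rc_1_2 lc_a_rc_2_2 lc_a_rc_1_2 lc_a_rc_3_0 lc_a_rc_3_0 lc_a_rc_1_4 lc_a_rc_1_2 lc_a_rc_3_0 lc_a_rc_3_2 lc_a_rc_21_0 lc_a_rc_4_2 lc_a_rc_3_0 lc_a_rc_2_0 lc_a_rc_4_2 lc_a_rc_3_2 lc_a_rc_4_2 lc_a_rc_1_2 lc_a_rc_4_2 lc_a_rc_3_2 lc_a_rc_4_2 lc_a_rc_2_2 lc_a_rc_0_1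 lc_a_rc_21_0 lc_a_rc_0_1 lc_a_rc_4_2 lc_a_rc_2_2 lc_a_rc_3_2 lc_a_rc_21_0 lc_a_rc_3_2 lc_a_rc_21_0 lc_a_rc_21_0 lc_a_rc_4_2 lc_a_rc_21_0) (@D3.rec (fun _ => (Cert rels S Gen.a)) lc_a_rc_2_0 lc_a_rc_21_0 lc_a_rc_0_1 lc_a_rc_4_2 lc_a_rc_2_2 lc_a_rc_4_2 lc_a_rc_0_1 lc_a_rc_2_0 lc_a_rc_2_2 lc_a_rc_4_0 lc_a_rc_5_2 lc_a_rc_2_0 lc_a_rc_4_2 lc_a_rc_4_2 lc_a_rc_2_2 lc_a_rc_4_2 lc_a_rc_4_2 lc_a_rc_21_0 lc_a_rc_1_0 lc_a_rc_2_0 lc_a_rc_21_0 lc_a_rc_2_2 lc_a_rc_22_0 lc_a_rc_2_2 lc_a_rc_3_2 lc_a_rc_3_2 lc_a_rc_3_0 lc_a_rc_3_2 lc_a_rc_3_2 lc_a_rc_22_0 lc_a_rc_2_2 lc_a_rc_2_0 lc_a_rc_2_0 lc_a_rc_2_0 lc_a_rc_3_0 lc_a_rc_1_2 lc_a_rc_4_2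 lc_a_rc_3_2 lc_a_rc_0_1 lc_a_rc_21_0 lc_a_rc_1_2 lc_a_rc_1_0 lc_a_rc_3_0 lc_a_rc_1_4 lc_a_rc_5_2 lc_a_rc_3_2 lc_a_rc_3_2 lc_a_rc_2_2 lc_a_rc_1_4 lc_a_rc_2_0 lc_a_rc_4_2 lc_a_rc_2_0 lc_a_rc_4_2 lc_a_rc_4_2 lc_a_rc_21_0 lc_a_rc_4_2 lc_a_rc_2_2 lc_a_rc_3_2 lc_a_rc_3_2 lc_a_rc_0_1 lc_a_rc_2_2 lc_a_rc_2_0) (@D3.rec (fun _ => (Cert rels S Gen.a)) lc_a_rc_4_0 lc_a_rc_2_2 lc_a_rc_2_0 lc_a_rc_2_2 lc_a_rc_3_2 lc_a_rc_4_2 lc_a_rc_2_2 lc_a_rc_0_1 lc_a_rc_21_0 lc_a_rc_0_1 lc_a_rc_3_2 lc_a_rc_1_0 lc_a_rc_4_2 lc_a_rc_3_0 lc_a_rc_22_0 lc_a_rc_2_2 lc_a_rc_0_1 lc_a_rc_21_0 lc_a_rc_22_0 lc_a_rc_3_0 lc_a_rc_3_2 lc_a_rc_5_2 lc_a_rc_5_2 lc_a_rc_3_2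 lc_a_rc_21_0 lc_a_rc_4_2 lc_a_rc_21_0 lc_a_rc_2_2 lc_a_rc_3_2 lc_a_rc_5_2 lc_a_rc_1_4 lc_a_rc_1_0 lc_a_rc_21_0 lc_a_rc_1_4 lc_a_rc_0_1 lc_a_rc_3_2 lc_a_rc_2_0 lc_a_rc_4_2 lc_a_rc_3_2 lc_a_rc_2_0 lc_a_rc_3_2 lc_a_rc_0_1 lc_a_rc_0_1 lc_a_rc_4_2 lc_a_rc_0_1 lc_a_rc_21_0 lc_a_rc_4_2 lc_a_rc_1_4 lc_a_rc_1_2 lc_a_rc_4_0 lc_a_rc_1_4 lc_a_rc_1_0 lc_a_rc_0_1 lc_a_rc_4_2 lc_a_rc_4_2 lc_a_rc_4_0 lc_a_rc_22_0 lc_a_rc_4_2 lc_a_rc_4_2 lc_a_rc_0_1 lc_a_rc_1_4 lc_a_rc_2_2) (@D3.rec (fun _ => (Cert rels S Gen.a)) lc_a_rc_2_2 lc_a_rc_3_2 lc_a_rc_3_2 lc_a_rc_0_1 lc_a_rc_3_2 lc_a_rc_2_2 lc_a_rc_4_0 lc_a_rc_3_2 lc_a_rc_3_2 lc_a_rc_3_2 lc_a_rc_4_0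 lc_a_rc_1_4 lc_a_rc_3_2 lc_a_rc_3_2 lc_a_rc_1_0 lc_a_rc_2_0 lc_a_rc_1_0 lc_a_rc_3_2 lc_a_rc_4_2 lc_a_rc_2_0 lc_a_rc_1_0 lc_a_rc_4_0 lc_a_rc_5_0 lc_a_rc_2_2 lc_a_rc_2_2 lc_a_rc_21_0 lc_a_rc_4_2 lc_a_rc_3_2 lc_a_rc_2_2 lc_a_rc_21_0 lc_a_rc_3_2 lc_a_rc_1_0 lc_a_rc_1_2 lc_a_rc_3_2 lc_a_rc_4_2 lc_a_rc_3_0 lc_a_rc_3_2 lc_a_rc_4_2 lc_a_rc_0_1 lc_a_rc_3_2 lc_a_rc_4_2 lc_a_rc_2_0 lc_a_rc_3_2 lc_a_rc_3_2 lc_a_rc_2_0 lc_a_rc_4_0 lc_a_rc_1_2 lc_a_rc_2_2 lc_a_rc_3_2 lc_a_rc_0_1 lc_a_rc_22_0 lc_a_rc_4_2 lc_a_rc_1_2 lc_a_rc_2_0 lc_a_rc_5_0 lc_a_rc_4_2 lc_a_rc_3_2 lc_a_rc_2_2 lc_a_rc_5_2 lc_a_rc_2_2 lc_a_rc_2_2 lc_a_rc_5_0) (@D3.rec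 (fun _ => (Cert rels S Gen.a)) lc_a_rc_4_2 lc_a_rc_0_1 lc_a_rc_2_2 lc_a_rc_3_0 lc_a_rc_3_2 lc_a_rc_3_2 lc_a_rc_0_1 lc_a_rc_0_1 lc_a_rc_3_2 lc_a_rc_2_2 lc_a_rc_3_0 lc_a_rc_2_0 lc_a_rc_0_1 lc_a_rc_2_2 lc_a_rc_1_2 lc_a_rc_4_2 lc_a_rc_0_1 lc_a_rc_2_0 lc_a_rc_5_2 lc_a_rc_2_0 lc_a_rc_5_2 lc_a_rc_4_2 lc_a_rc_4_2 lc_a_rc_0_1 lc_a_rc_4_2 lc_a_rc_3_2 lc_a_rc_4_2 lc_a_rc_2_2 lc_a_rc_0_1 lc_a_rc_2_2 lc_a_rc_3_2 lc_a_rc_5_2 lc_a_rc_21_0 lc_a_rc_5_2 lc_a_rc_2_2 lc_a_rc_1_2 lc_a_rc_4_2 lc_a_rc_3_2 lc_a_rc_1_2 lc_a_rc_4_2 lc_a_rc_4_2 lc_a_rc_22_0 lc_a_rc_3_2 lc_a_rc_4_2 lc_a_rc_21_0 lc_a_rc_22_0 lc_a_rc_0_1 lc_a_rc_21_0 lc_a_rc_1_4 lc_a_rc_1_2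 lc_a_rc_0_1 lc_a_rc_4_2 lc_a_rc_2_2 lc_a_rc_4_2 lc_a_rc_0_1 lc_a_rc_21_0 lc_a_rc_5_2 lc_a_rc_3_2 lc_a_rc_4_2 lc_a_rc_2_2 lc_a_rc_4_2 lc_a_rc_5_0) (@D3.rec (fun _ => (Cert rels S Gen.a)) lc_a_rc_2_2 lc_a_rc_2_0 lc_a_rc_1_4 lc_a_rc_1_4 lc_a_rc_3_0 lc_a_rc_1_4 lc_a_rc_1_0 lc_a_rc_1_2 lc_a_rc_3_2 lc_a_rc_2_2 lc_a_rc_3_2 lc_a_rc_3_2 lc_a_rc_0_1 lc_a_rc_2_0 lc_a_rc_2_0 lc_a_rc_0_1 lc_a_rc_2_2 lc_a_rc_3_2 lc_a_rc_5_2 lc_a_rc_22_0 lc_a_rc_3_0 lc_a_rc_1_4 lc_a_rc_21_0 lc_a_rc_3_2 lc_a_rc_1_4 lc_a_rc_5_2 lc_a_rc_3_0 lc_a_rc_3_2 lc_a_rc_2_2 lc_a_rc_3_2 lc_a_rc_3_2 lc_a_rc_2_0 lc_a_rc_4_2 lc_a_rc_5_0 lc_a_rc_4_2 lc_a_rc_3_2 lc_a_rc_3_0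 lc_a_rc_3_2 lc_a_rc_3_2 lc_a_rc_2_2 lc_a_rc_2_2 lc_a_rc_5_2 lc_a_rc_2_2 lc_a_rc_21_0 lc_a_rc_3_2 lc_a_rc_0_1 lc_a_rc_3_2 lc_a_rc_5_2 lc_a_rc_4_2 lc_a_rc_1_2 lc_a_rc_21_0 lc_a_rc_1_0 lc_a_rc_1_4 lc_a_rc_4_2 lc_a_rc_3_2 lc_a_rc_2_2 lc_a_rc_0_1 lc_a_rc_4_0 lc_a_rc_3_2 lc_a_rc_22_0 lc_a_rc_3_2 lc_a_rc_4_2) (@D3.rec (fun _ => (Cert rels S Gen.a)) lc_a_rc_3_2 lc_a_rc_2_0 lc_a_rc_4_2 lc_a_rc_4_2 lc_a_rc_2_2 lc_a_rc_3_2 lc_a_rc_2_0 lc_a_rc_3_2 lc_a_rc_21_0 lc_a_rc_3_2 lc_a_rc_4_2 lc_a_rc_3_2 lc_a_rc_1_4 lc_a_rc_4_2 lc_a_rc_3_2 lc_a_rc_1_2 lc_a_rc_3_2 lc_a_rc_3_2 lc_a_rc_2_2 lc_a_rc_3_0 lc_a_rc_0_1 lc_a_rc_4_2 lc_a_rc_2_0 lc_a_rc_0_1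 lc_a_rc_5_0 lc_a_rc_22_0 lc_a_rc_4_2 lc_a_rc_1_0 lc_a_rc_2_0 lc_a_rc_4_2 lc_a_rc_0_1 lc_a_rc_1_4 lc_a_rc_2_0 lc_a_rc_4_2 lc_a_rc_1_2 lc_a_rc_1_0 lc_a_rc_4_0 lc_a_rc_0_1 lc_a_rc_4_0 lc_a_rc_1_0 lc_a_rc_22_0 lc_a_rc_4_2 lc_a_rc_1_4 lc_a_rc_21_0 lc_a_rc_4_0 lc_a_rc_21_0 lc_a_rc_3_2 lc_a_rc_1_4 lc_a_rc_2_2 lc_a_rc_4_2 lc_a_rc_1_0 lc_a_rc_3_2 lc_a_rc_21_0 lc_a_rc_1_2 lc_a_rc_0_1 lc_a_rc_21_0 lc_a_rc_4_2 lc_a_rc_2_2 lc_a_rc_4_2 lc_a_rc_4_0 lc_a_rc_3_0 lc_a_rc_1_2) (@D3.rec (fun _ => (Cert rels S Gen.a)) lc_a_rc_3_2 lc_a_rc_2_0 lc_a_rc_4_2 lc_a_rc_3_2 lc_a_rc_4_2 lc_a_rc_0_1 lc_a_rc_2_0 lc_a_rc_3_2 lc_a_rc_2_0 lc_a_rc_4_2 lc_a_rc_4_0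 lc_a_rc_2_2 lc_a_rc_2_0 lc_a_rc_21_0 lc_a_rc_4_2 lc_a_rc_4_2 lc_a_rc_2_0 lc_a_rc_1_2 lc_a_rc_1_4 lc_a_rc_3_2 lc_a_rc_2_0 lc_a_rc_4_2 lc_a_rc_0_1 lc_a_rc_2_0 lc_a_rc_0_1 lc_a_rc_0_1 lc_a_rc_2_0 lc_a_rc_4_2 lc_a_rc_1_2 lc_a_rc_4_0 lc_a_rc_2_2 lc_a_rc_21_0 lc_a_rc_4_2 lc_a_rc_4_0 lc_a_rc_2_0 lc_a_rc_4_2 lc_a_rc_1_4 lc_a_rc_22_0 lc_a_rc_3_2 lc_a_rc_4_2 lc_a_rc_2_2 lc_a_rc_3_2 lc_a_rc_3_0 lc_a_rc_4_2 lc_a_rc_1_4 lc_a_rc_4_2 lc_a_rc_1_4 lc_a_rc_5_0 lc_a_rc_2_2 lc_a_rc_3_2 lc_a_rc_2_2 lc_a_rc_4_2 lc_a_rc_1_4 lc_a_rc_2_2 lc_a_rc_22_0 lc_a_rc_3_0 lc_a_rc_22_0 lc_a_rc_21_0 lc_a_rc_22_0 lc_a_rc_4_0 lc_a_rc_22_0 lc_a_rc_1_4) (@D3.rec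 (fun _ => (Cert rels S Gen.a)) lc_a_rc_5_2 lc_a_rc_5_0 lc_a_rc_0_1 lc_a_rc_3_2 lc_a_rc_3_2 lc_a_rc_3_2 lc_a_rc_3_2 lc_a_rc_3_0 lc_a_rc_4_2 lc_a_rc_0_1 lc_a_rc_3_2 lc_a_rc_21_0 lc_a_rc_1_2 lc_a_rc_5_0 lc_a_rc_3_2 lc_a_rc_1_0 lc_a_rc_0_1 lc_a_rc_21_0 lc_a_rc_0_1 lc_a_rc_4_2 lc_a_rc_22_0 lc_a_rc_0_1 lc_a_rc_3_2 lc_a_rc_4_2 lc_a_rc_0_1 lc_a_rc_3_2 lc_a_rc_1_0 lc_a_rc_1_0 lc_a_rc_3_2 lc_a_rc_3_2 lc_a_rc_21_0 lc_a_rc_4_2 lc_a_rc_1_4 lc_a_rc_0_1 lc_a_rc_2_2 lc_a_rc_22_0 lc_a_rc_1_0 lc_a_rc_22_0 lc_a_rc_4_2 lc_a_rc_2_2 lc_a_rc_4_2 lc_a_rc_3_2 lc_a_rc_4_2 lc_a_rc_4_2 lc_a_rc_21_0 lc_a_rc_1_2 lc_a_rc_1_0 lc_a_rc_0_1 lc_a_rc_4_2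 lc_a_rc_4_0 lc_a_rc_4_0 lc_a_rc_3_2 lc_a_rc_3_2 lc_a_rc_2_2 lc_a_rc_3_0 lc_a_rc_3_2 lc_a_rc_5_2 lc_a_rc_4_0 lc_a_rc_3_2 lc_a_rc_4_0 lc_a_rc_4_2 lc_a_rc_1_0) (@D3.rec (fun _ => (Cert rels S Gen.a)) lc_a_rc_4_2 lc_a_rc_4_2 lc_a_rc_22_0 lc_a_rc_5_2 lc_a_rc_2_2 lc_a_rc_3_2 lc_a_rc_0_1 lc_a_rc_4_2 lc_a_rc_3_2 lc_a_rc_3_2 lc_a_rc_2_0 lc_a_rc_4_2 lc_a_rc_3_2 lc_a_rc_3_2 lc_a_rc_2_0 lc_a_rc_2_2 lc_a_rc_2_2 lc_a_rc_5_0 lc_a_rc_3_2 lc_a_rc_0_1 lc_a_rc_5_0 lc_a_rc_0_1 lc_a_rc_4_2 lc_a_rc_4_2 lc_a_rc_3_0 lc_a_rc_2_0 lc_a_rc_3_2 lc_a_rc_2_2 lc_a_rc_1_2 lc_a_rc_2_2 lc_a_rc_4_2 lc_a_rc_3_2 lc_a_rc_3_0 lc_a_rc_2_0 lc_a_rc_3_2 lc_a_rc_3_0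 lc_a_rc_22_0 lc_a_rc_0_1 lc_a_rc_4_2 lc_a_rc_1_2 lc_a_rc_1_2 lc_a_rc_3_2 lc_a_rc_0_1 lc_a_rc_2_2 lc_a_rc_1_4 lc_a_rc_21_0 lc_a_rc_4_2 lc_a_rc_21_0 lc_a_rc_3_0 lc_a_rc_21_0 lc_a_rc_4_0 lc_a_rc_1_4 lc_a_rc_0_1 lc_a_rc_21_0 lc_a_rc_5_0 lc_a_rc_1_0 lc_a_rc_3_2 lc_a_rc_4_0 lc_a_rc_3_0 lc_a_rc_4_0 lc_a_rc_3_2 lc_a_rc_21_0) (@D3.rec (fun _ => (Cert rels S Gen.a)) lc_a_rc_3_2 lc_a_rc_4_2 lc_a_rc_21_0 lc_a_rc_3_2 lc_a_rc_1_0 lc_a_rc_4_0 lc_a_rc_4_2 lc_a_rc_3_2 lc_a_rc_21_0 lc_a_rc_1_0 lc_a_rc_1_0 lc_a_rc_1_4 lc_a_rc_2_0 lc_a_rc_4_2 lc_a_rc_4_2 lc_a_rc_4_2 lc_a_rc_4_2 lc_a_rc_0_1 lc_a_rc_21_0 lc_a_rc_4_2 lc_a_rc_4_2 lc_a_rc_21_0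 lc_a_rc_22_0 lc_a_rc_1_2 lc_a_rc_2_0 lc_a_rc_2_0 lc_a_rc_1_4 lc_a_rc_4_2 lc_a_rc_2_2 lc_a_rc_0_1 lc_a_rc_5_2 lc_a_rc_4_2 lc_a_rc_5_0 lc_a_rc_3_2 lc_a_rc_4_2 lc_a_rc_2_2 lc_a_rc_3_0 lc_a_rc_4_2 lc_a_rc_2_2 lc_a_rc_4_2 lc_a_rc_4_2 lc_a_rc_2_2 lc_a_rc_0_1 lc_a_rc_21_0 lc_a_rc_4_2 lc_a_rc_4_2 lc_a_rc_4_2 lc_a_rc_2_2 lc_a_rc_5_0 lc_a_rc_3_2 lc_a_rc_4_2 lc_a_rc_4_2 lc_a_rc_21_0 lc_a_rc_0_1 lc_a_rc_0_1 lc_a_rc_0_1 lc_a_rc_2_2 lc_a_rc_5_2 lc_a_rc_0_1 lc_a_rc_1_4 lc_a_rc_2_2 lc_a_rc_3_2) (@D3.rec (fun _ => (Cert rels S Gen.a)) lc_a_rc_3_2 lc_a_rc_3_2 lc_a_rc_21_0 lc_a_rc_4_2 lc_a_rc_0_1 lc_a_rc_3_2 lc_a_rc_4_2 lc_a_rc_3_0 lc_a_rc_5_2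 lc_a_rc_21_0 lc_a_rc_1_0 lc_a_rc_2_0 lc_a_rc_3_2 lc_a_rc_4_0 lc_a_rc_3_2 lc_a_rc_2_2 lc_a_rc_1_4 lc_a_rc_0_1 lc_a_rc_21_0 lc_a_rc_1_4 lc_a_rc_2_0 lc_a_rc_0_1 lc_a_rc_0_1 lc_a_rc_3_0 lc_a_rc_4_2 lc_a_rc_2_2 lc_a_rc_4_2 lc_a_rc_1_2 lc_a_rc_21_0 lc_a_rc_21_0 lc_a_rc_3_2 lc_a_rc_2_2 lc_a_rc_21_0 lc_a_rc_2_2 lc_a_rc_1_0 lc_a_rc_3_0 lc_a_rc_1_4 lc_a_rc_22_0 lc_a_rc_3_2 lc_a_rc_5_0 lc_a_rc_4_2 lc_a_rc_5_2 lc_a_rc_1_0 lc_a_rc_3_2 lc_a_rc_1_0 lc_a_rc_4_2 lc_a_rc_5_2 lc_a_rc_2_2 lc_a_rc_1_4 lc_a_rc_0_1 lc_a_rc_1_4 lc_a_rc_3_2 lc_a_rc_2_2 lc_a_rc_3_2 lc_a_rc_4_2 lc_a_rc_4_0 lc_a_rc_4_2 lc_a_rc_0_1 lc_a_rc_21_0 lc_a_rc_0_1 lc_a_rc_22_0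 lc_a_rc_3_2) (@D3.rec (fun _ => (Cert rels S Gen.a)) lc_a_rc_4_2 lc_a_rc_3_2 lc_a_rc_4_2 lc_a_rc_0_1 lc_a_rc_0_1 lc_a_rc_5_2 lc_a_rc_2_2 lc_a_rc_3_0 lc_a_rc_3_2 lc_a_rc_3_2 lc_a_rc_0_1 lc_a_rc_3_2 lc_a_rc_21_0 lc_a_rc_5_0 lc_a_rc_3_2 lc_a_rc_2_2 lc_a_rc_5_2 lc_a_rc_3_2 lc_a_rc_0_1 lc_a_rc_3_2 lc_a_rc_3_2 lc_a_rc_0_1 lc_a_rc_3_2 lc_a_rc_3_2 lc_a_rc_2_2 lc_a_rc_3_0 lc_a_rc_21_0 lc_a_rc_3_2 lc_a_rc_0_1 lc_a_rc_2_2 lc_a_rc_3_2 lc_a_rc_22_0 lc_a_Cert_tree lc_a_rc_0_1 lc_a_rc_4_2 lc_a_rc_4_2 lc_a_rc_0_1 lc_a_rc_3_0 lc_a_rc_3_0 lc_a_rc_3_0 lc_a_rc_3_2 lc_a_rc_5_2 lc_a_rc_1_2 lc_a_rc_2_0 lc_a_rc_3_0 lc_a_rc_1_0 lc_a_rc_2_0 lc_a_rc_1_2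 lc_a_rc_2_2 lc_a_rc_3_2 lc_a_rc_0_1 lc_a_rc_3_2 lc_a_rc_3_0 lc_a_rc_4_0 lc_a_rc_5_0 lc_a_rc_2_2 lc_a_rc_2_0 lc_a_rc_3_2 lc_a_rc_1_0 lc_a_rc_21_0 lc_a_rc_4_2 lc_a_rc_0_1) (@D3.rec (fun _ => (Cert rels S Gen.a)) lc_a_rc_0_1 lc_a_rc_1_4 lc_a_rc_4_2 lc_a_rc_0_1 lc_a_rc_2_2 lc_a_rc_3_2 lc_a_rc_2_2 lc_a_rc_2_2 lc_a_rc_2_0 lc_a_rc_2_2 lc_a_rc_4_2 lc_a_rc_4_0 lc_a_rc_2_2 lc_a_rc_3_0 lc_a_rc_3_0 lc_a_rc_21_0 lc_a_rc_1_2 lc_a_rc_2_2 lc_a_rc_2_0 lc_a_rc_22_0 lc_a_rc_0_1 lc_a_rc_3_0 lc_a_rc_4_2 lc_a_rc_4_2 lc_a_rc_0_1 lc_a_rc_21_0 lc_a_rc_1_4 lc_a_rc_4_2 lc_a_rc_3_0 lc_a_rc_5_0 lc_a_rc_0_1 lc_a_rc_1_4 lc_a_rc_0_1 lc_a_rc_22_0 lc_a_rc_3_2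 lc_a_rc_4_2 lc_a_rc_3_2 lc_a_rc_3_2 lc_a_rc_0_1 lc_a_rc_3_0 lc_a_rc_3_2 lc_a_rc_3_0 lc_a_rc_4_2 lc_a_rc_5_2 lc_a_rc_4_2 lc_a_rc_0_1 lc_a_rc_4_0 lc_a_rc_0_1 lc_a_rc_21_0 lc_a_rc_0_1 lc_a_rc_5_2 lc_a_rc_1_2 lc_a_rc_2_2 lc_a_rc_1_4 lc_a_rc_0_1 lc_a_rc_2_2 lc_a_rc_0_1 lc_a_rc_21_0 lc_a_rc_21_0 lc_a_rc_2_2 lc_a_rc_3_2 lc_a_rc_2_2) (@D3.rec (fun _ => (Cert rels S Gen.a)) lc_a_rc_2_0 lc_a_rc_3_0 lc_a_rc_2_2 lc_a_rc_0_1 lc_a_rc_1_2 lc_a_rc_2_2 lc_a_rc_1_4 lc_a_rc_2_2 lc_a_rc_0_1 lc_a_rc_2_2 lc_a_rc_3_0 lc_a_rc_5_0 lc_a_rc_5_2 lc_a_rc_2_2 lc_a_rc_4_0 lc_a_rc_2_2 lc_a_rc_3_2 lc_a_rc_3_2 lc_a_rc_4_2 lc_a_rc_3_0 lc_a_rc_2_2 lc_a_rc_4_0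 lc_a_rc_2_2 lc_a_rc_4_2 lc_a_rc_1_4 lc_a_rc_4_2 lc_a_rc_2_2 lc_a_rc_0_1 lc_a_rc_1_0 lc_a_rc_1_2 lc_a_rc_22_0 lc_a_rc_21_0 lc_a_rc_1_0 lc_a_rc_3_2 lc_a_rc_2_2 lc_a_rc_3_2 lc_a_rc_3_0 lc_a_rc_2_2 lc_a_rc_2_2 lc_a_rc_1_4 lc_a_rc_21_0 lc_a_rc_22_0 lc_a_rc_0_1 lc_a_rc_3_2 lc_a_rc_2_0 lc_a_rc_4_2 lc_a_rc_2_0 lc_a_rc_2_0 lc_a_rc_0_1 lc_a_rc_1_0 lc_a_rc_0_1 lc_a_rc_3_2 lc_a_rc_2_0 lc_a_rc_2_2 lc_a_rc_4_2 lc_a_rc_5_2 lc_a_rc_21_0 lc_a_rc_1_4 lc_a_rc_5_0 lc_a_rc_3_2 lc_a_rc_4_0 lc_a_rc_2_0) (@D3.rec (fun _ => (Cert rels S Gen.a)) lc_a_rc_5_2 lc_a_rc_1_0 lc_a_rc_3_2 lc_a_rc_0_1 lc_a_rc_1_4 lc_a_rc_3_2 lc_a_rc_4_0 lc_a_rc_1_2 lc_a_rc_3_2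 lc_a_rc_4_2 lc_a_rc_1_2 lc_a_rc_22_0 lc_a_rc_0_1 lc_a_rc_2_2 lc_a_rc_4_2 lc_a_rc_21_0 lc_a_rc_1_2 lc_a_rc_1_0 lc_a_rc_0_1 lc_a_rc_0_1 lc_a_rc_4_2 lc_a_rc_1_0 lc_a_rc_21_0 lc_a_rc_4_2 lc_a_rc_3_2 lc_a_rc_3_2 lc_a_rc_1_4 lc_a_rc_2_2 lc_a_rc_1_2 lc_a_rc_22_0 lc_a_rc_3_2 lc_a_rc_4_2 lc_a_rc_2_2 lc_a_rc_5_2 lc_a_rc_2_2 lc_a_rc_2_0 lc_a_rc_3_2 lc_a_rc_4_2 lc_a_rc_3_2 lc_a_rc_0_1 lc_a_rc_3_2 lc_a_rc_2_0 lc_a_rc_2_0 lc_a_rc_0_1 lc_a_rc_4_2 lc_a_rc_1_2 lc_a_rc_1_4 lc_a_rc_21_0 lc_a_rc_4_0 lc_a_rc_1_0 lc_a_rc_2_0 lc_a_rc_0_1 lc_a_rc_2_0 lc_a_rc_1_4 lc_a_rc_4_2 lc_a_rc_0_1 lc_a_rc_3_2 lc_a_rc_4_2 lc_a_rc_21_0 lc_a_rc_21_0 lc_a_rc_21_0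 lc_a_rc_0_1) (@D3.rec (fun _ => (Cert rels S Gen.a)) lc_a_rc_3_0 lc_a_rc_4_2 lc_a_rc_3_2 lc_a_rc_2_0 lc_a_rc_0_1 lc_a_rc_5_2 lc_a_rc_0_1 lc_a_rc_3_0 lc_a_rc_3_2 lc_a_rc_0_1 lc_a_rc_2_2 lc_a_rc_2_0 lc_a_rc_3_2 lc_a_rc_5_2 lc_a_rc_0_1 lc_a_rc_3_2 lc_a_rc_1_0 lc_a_rc_4_0 lc_a_rc_22_0 lc_a_rc_4_2 lc_a_rc_3_2 lc_a_rc_4_2 lc_a_rc_4_0 lc_a_rc_22_0 lc_a_rc_3_2 lc_a_rc_4_2 lc_a_rc_2_2 lc_a_rc_3_0 lc_a_rc_4_2 lc_a_rc_1_0 lc_a_rc_1_4 lc_a_rc_1_2 lc_a_rc_5_2 lc_a_rc_0_1 lc_a_rc_4_2 lc_a_rc_4_2 lc_a_rc_21_0 lc_a_rc_5_2 lc_a_rc_2_0 lc_a_rc_1_0 lc_a_rc_22_0 lc_a_rc_1_4 lc_a_rc_4_2 lc_a_rc_21_0 lc_a_rc_3_2 lc_a_rc_21_0 lc_a_rc_0_1 lc_a_rc_2_2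 lc_a_rc_2_2 lc_a_rc_5_2 lc_a_rc_22_0 lc_a_rc_1_2 lc_a_rc_3_2 lc_a_rc_1_4 lc_a_rc_2_0 lc_a_rc_3_2 lc_a_rc_1_4 lc_a_rc_2_2 lc_a_rc_5_0 lc_a_rc_3_2 lc_a_rc_1_4 lc_a_rc_2_0) (@D3.rec (fun _ => (Cert rels S Gen.a)) lc_a_rc_0_1 lc_a_rc_3_0 lc_a_rc_3_2 lc_a_rc_22_0 lc_a_rc_2_2 lc_a_rc_21_0 lc_a_rc_4_2 lc_a_rc_0_1 lc_a_rc_21_0 lc_a_rc_2_0 lc_a_rc_4_2 lc_a_rc_2_2 lc_a_rc_3_2 lc_a_rc_1_2 lc_a_rc_3_2 lc_a_rc_22_0 lc_a_rc_3_0 lc_a_rc_1_4 lc_a_rc_2_2 lc_a_rc_4_2 lc_a_rc_2_0 lc_a_rc_3_2 lc_a_rc_1_4 lc_a_rc_22_0 lc_a_rc_2_2 lc_a_rc_4_2 lc_a_rc_2_0 lc_a_rc_2_0 lc_a_rc_1_2 lc_a_rc_0_1 lc_a_rc_5_0 lc_a_rc_3_2 lc_a_rc_2_0 lc_a_rc_3_2 lc_a_rc_2_2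 lc_a_rc_2_2 lc_a_rc_3_2 lc_a_rc_2_2 lc_a_rc_22_0 lc_a_rc_0_1 lc_a_rc_1_4 lc_a_rc_3_0 lc_a_rc_2_2 lc_a_rc_5_0 lc_a_rc_1_4 lc_a_rc_5_0 lc_a_rc_0_1 lc_a_rc_3_0 lc_a_rc_2_0 lc_a_rc_2_2 lc_a_rc_4_2 lc_a_rc_1_0 lc_a_rc_1_0 lc_a_rc_0_1 lc_a_rc_1_2 lc_a_rc_1_4 lc_a_rc_3_2 lc_a_rc_1_2 lc_a_rc_5_2 lc_a_rc_3_2 lc_a_rc_2_2 lc_a_rc_1_2) (@D3.rec (fun _ => (Cert rels S Gen.a)) lc_a_rc_1_4 lc_a_rc_3_2 lc_a_rc_4_2 lc_a_rc_4_2 lc_a_rc_0_1 lc_a_rc_4_2 lc_a_rc_1_2 lc_a_rc_5_2 lc_a_rc_3_2 lc_a_rc_2_0 lc_a_rc_4_2 lc_a_rc_3_0 lc_a_rc_22_0 lc_a_rc_4_2 lc_a_rc_4_2 lc_a_rc_0_1 lc_a_rc_2_2 lc_a_rc_1_2 lc_a_rc_4_2 lc_a_rc_2_2 lc_a_rc_4_2 lc_a_rc_4_0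 lc_a_rc_3_0 lc_a_rc_5_0 lc_a_rc_4_2 lc_a_rc_22_0 lc_a_rc_0_1 lc_a_rc_3_2 lc_a_rc_3_2 lc_a_rc_21_0 lc_a_rc_1_4 lc_a_rc_1_4 lc_a_rc_2_0 lc_a_rc_3_2 lc_a_rc_4_0 lc_a_rc_3_2 lc_a_rc_3_2 lc_a_rc_0_1 lc_a_rc_1_0 lc_a_rc_3_2 lc_a_rc_4_0 lc_a_rc_2_2 lc_a_rc_5_0 lc_a_rc_2_2 lc_a_rc_2_2 lc_a_rc_2_2 lc_a_rc_4_0 lc_a_rc_3_0 lc_a_Cert_tree lc_a_rc_2_2 lc_a_rc_4_2 lc_a_rc_21_0 lc_a_rc_3_2 lc_a_rc_3_2 lc_a_rc_3_2 lc_a_rc_5_2 lc_a_rc_3_2 lc_a_rc_4_2 lc_a_rc_3_2 lc_a_rc_1_2 lc_a_rc_3_2 lc_a_rc_3_2) (@D3.rec (fun _ => (Cert rels S Gen.a)) lc_a_rc_5_2 lc_a_rc_4_0 lc_a_rc_4_2 lc_a_rc_0_1 lc_a_rc_4_2 lc_a_rc_3_2 lc_a_rc_4_2 lc_a_rc_1_0 lc_a_rc_3_2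 lc_a_rc_3_0 lc_a_rc_3_2 lc_a_rc_0_1 lc_a_rc_3_2 lc_a_rc_5_2 lc_a_rc_2_0 lc_a_rc_5_0 lc_a_rc_2_2 lc_a_rc_2_0 lc_a_rc_1_4 lc_a_rc_4_0 lc_a_rc_3_2 lc_a_rc_2_2 lc_a_rc_2_2 lc_a_rc_4_2 lc_a_rc_1_4 lc_a_rc_4_2 lc_a_rc_3_0 lc_a_rc_3_2 lc_a_rc_0_1 lc_a_rc_2_2 lc_a_rc_2_2 lc_a_rc_4_2 lc_a_rc_4_2 lc_a_rc_5_0 lc_a_rc_0_1 lc_a_rc_3_0 lc_a_rc_1_4 lc_a_rc_4_2 lc_a_rc_1_4 lc_a_rc_0_1 lc_a_rc_1_2 lc_a_rc_3_0 lc_a_rc_4_0 lc_a_rc_4_0 lc_a_rc_3_2 lc_a_rc_1_0 lc_a_rc_3_0 lc_a_rc_3_2 lc_a_rc_3_2 lc_a_rc_21_0 lc_a_rc_4_2 lc_a_rc_2_2 lc_a_rc_21_0 lc_a_rc_0_1 lc_a_rc_5_2 lc_a_rc_2_2 lc_a_rc_0_1 lc_a_rc_4_0 lc_a_rc_0_1 lc_a_rc_5_0 lc_a_rc_4_2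 lc_a_rc_4_2) (@D3.rec (fun _ => (Cert rels S Gen.a)) lc_a_rc_2_0 lc_a_rc_5_2 lc_a_rc_2_0 lc_a_rc_21_0 lc_a_rc_3_2 lc_a_rc_2_2 lc_a_rc_3_2 lc_a_rc_4_2 lc_a_rc_4_2 lc_a_rc_0_1 lc_a_rc_1_0 lc_a_rc_1_4 lc_a_rc_3_2 lc_a_rc_4_2 lc_a_rc_2_0 lc_a_rc_0_1 lc_a_rc_2_2 lc_a_rc_3_0 lc_a_rc_4_2 lc_a_rc_5_2 lc_a_rc_4_0 lc_a_rc_2_2 lc_a_rc_4_2 lc_a_rc_2_2 lc_a_rc_5_2 lc_a_rc_0_1 lc_a_rc_21_0 lc_a_rc_2_2 lc_a_rc_3_2 lc_a_rc_4_0 lc_a_rc_0_1 lc_a_rc_0_1 lc_a_rc_2_2 lc_a_rc_4_2 lc_a_rc_4_2 lc_a_rc_2_0 lc_a_rc_22_0 lc_a_rc_4_2 lc_a_rc_0_1 lc_a_rc_2_0 lc_a_rc_4_2 lc_a_rc_21_0 lc_a_rc_2_0 lc_a_rc_5_2 lc_a_rc_2_2 lc_a_rc_1_4 lc_a_rc_3_0 lc_a_rc_4_2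 lc_a_rc_4_2 lc_a_rc_1_0 lc_a_rc_21_0 lc_a_rc_2_0 lc_a_rc_4_2 lc_a_rc_4_2 lc_a_rc_5_2 lc_a_rc_0_1 lc_a_rc_0_1 lc_a_rc_4_2 lc_a_rc_2_0 lc_a_rc_1_0 lc_a_rc_3_2 lc_a_rc_3_2) (@D3.rec (fun _ => (Cert rels S Gen.a)) lc_a_rc_3_2 lc_a_rc_1_2 lc_a_rc_3_2 lc_a_rc_3_2 lc_a_rc_21_0 lc_a_rc_0_1 lc_a_rc_2_0 lc_a_rc_4_0 lc_a_rc_3_2 lc_a_rc_0_1 lc_a_rc_3_0 lc_a_rc_3_2 lc_a_rc_3_0 lc_a_rc_0_1 lc_a_rc_1_2 lc_a_rc_0_1 lc_a_rc_3_2 lc_a_rc_3_2 lc_a_rc_3_2 lc_a_rc_4_2 lc_a_rc_21_0 lc_a_rc_3_2 lc_a_rc_0_1 lc_a_rc_3_2 lc_a_rc_1_2 lc_a_rc_1_2 lc_a_rc_5_0 lc_a_rc_4_2 lc_a_rc_3_2 lc_a_rc_1_4 lc_a_rc_21_0 lc_a_rc_5_0 lc_a_rc_0_1 lc_a_rc_2_2 lc_a_rc_2_2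 lc_a_rc_2_2 lc_a_rc_0_1 lc_a_rc_2_2 lc_a_rc_1_4 lc_a_rc_21_0 lc_a_rc_3_2 lc_a_rc_1_2 lc_a_rc_3_0 lc_a_rc_5_2 lc_a_rc_4_0 lc_a_rc_3_2 lc_a_rc_3_0 lc_a_rc_5_2 lc_a_rc_21_0 lc_a_rc_5_2 lc_a_rc_2_2 lc_a_rc_3_0 lc_a_rc_3_2 lc_a_rc_4_2 lc_a_rc_4_0 lc_a_rc_5_2 lc_a_rc_2_2 lc_a_rc_2_2 lc_a_rc_2_2 lc_a_rc_2_0 lc_a_rc_0_1 lc_a_rc_3_0) (@D3.rec (fun _ => (Cert rels S Gen.a)) lc_a_rc_3_2 lc_a_rc_21_0 lc_a_rc_4_0 lc_a_rc_0_1 lc_a_rc_5_2 lc_a_rc_3_2 lc_a_rc_21_0 lc_a_rc_21_0 lc_a_rc_4_2 lc_a_rc_1_2 lc_a_rc_5_2 lc_a_rc_1_0 lc_a_rc_1_2 lc_a_rc_4_2 lc_a_rc_1_0 lc_a_rc_1_4 lc_a_rc_3_2 lc_a_rc_1_2 lc_a_rc_4_2 lc_a_rc_5_0 lc_a_rc_21_0 lc_a_rc_0_1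 lc_a_rc_2_2 lc_a_rc_3_2 lc_a_rc_1_0 lc_a_rc_3_2 lc_a_rc_3_2 lc_a_rc_4_0 lc_a_rc_1_2 lc_a_rc_2_2 lc_a_rc_3_2 lc_a_rc_3_0 lc_a_rc_3_0 lc_a_rc_1_0 lc_a_rc_3_2 lc_a_rc_4_2 lc_a_rc_4_2 lc_a_rc_3_0 lc_a_rc_1_2 lc_a_rc_4_2 lc_a_rc_2_0 lc_a_rc_2_2 lc_a_rc_2_2 lc_a_rc_4_2 lc_a_rc_1_4 lc_a_rc_1_2 lc_a_rc_3_2 lc_a_rc_3_2 lc_a_rc_2_0 lc_a_rc_4_2 lc_a_rc_4_2 lc_a_rc_2_2 lc_a_rc_4_2 lc_a_rc_4_2 lc_a_rc_1_0 lc_a_rc_2_2 lc_a_rc_3_2 lc_a_rc_4_2 lc_a_rc_0_1 lc_a_rc_5_2 lc_a_rc_3_0 lc_a_rc_2_2) (@D3.rec (fun _ => (Cert rels S Gen.a)) lc_a_rc_3_0 lc_a_rc_3_0 lc_a_rc_1_2 lc_a_rc_2_2 lc_a_rc_4_2 lc_a_rc_3_0 lc_a_rc_3_0 lc_a_rc_2_2 lc_a_rc_4_2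 lc_a_rc_3_0 lc_a_rc_2_2 lc_a_rc_3_0 lc_a_rc_5_2 lc_a_rc_4_2 lc_a_rc_3_0 lc_a_rc_3_2 lc_a_rc_5_2 lc_a_rc_2_0 lc_a_rc_4_2 lc_a_rc_0_1 lc_a_rc_3_0 lc_a_rc_0_1 lc_a_rc_0_1 lc_a_rc_4_2 lc_a_rc_2_2 lc_a_rc_5_0 lc_a_rc_2_2 lc_a_rc_1_4 lc_a_rc_2_2 lc_a_rc_2_2 lc_a_rc_1_2 lc_a_rc_4_2 lc_a_rc_4_2 lc_a_rc_22_0 lc_a_rc_2_0 lc_a_rc_4_2 lc_a_rc_3_0 lc_a_rc_3_2 lc_a_rc_21_0 lc_a_rc_1_4 lc_a_rc_0_1 lc_a_rc_0_1 lc_a_rc_4_0 lc_a_rc_2_0 lc_a_rc_1_4 lc_a_rc_2_2 lc_a_rc_1_2 lc_a_rc_0_1 lc_a_rc_2_2 lc_a_rc_4_2 lc_a_rc_2_2 lc_a_rc_3_2 lc_a_rc_3_2 lc_a_rc_1_4 lc_a_rc_4_2 lc_a_rc_3_2 lc_a_rc_3_2 lc_a_rc_3_0 lc_a_rc_4_2 lc_a_rc_4_0 lc_a_rc_21_0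 lc_a_rc_4_2) (@D3.rec (fun _ => (Cert rels S Gen.a)) lc_a_rc_3_2 lc_a_rc_2_2 lc_a_rc_1_0 lc_a_rc_4_2 lc_a_rc_1_2 lc_a_rc_0_1 lc_a_rc_5_2 lc_a_rc_2_2 lc_a_rc_4_2 lc_a_rc_2_0 lc_a_rc_3_2 lc_a_rc_3_0 lc_a_rc_3_2 lc_a_rc_2_2 lc_a_rc_4_2 lc_a_rc_4_2 lc_a_rc_4_2 lc_a_rc_4_2 lc_a_rc_2_2 lc_a_rc_4_2 lc_a_rc_3_2 lc_a_rc_2_0 lc_a_rc_5_2 lc_a_rc_3_2 lc_a_rc_0_1 lc_a_rc_4_0 lc_a_rc_4_2 lc_a_rc_3_2 lc_a_rc_2_0 lc_a_rc_2_0 lc_a_rc_4_2 lc_a_rc_1_0 lc_a_rc_2_2 lc_a_rc_21_0 lc_a_rc_2_2 lc_a_rc_2_2 lc_a_rc_2_0 lc_a_rc_3_2 lc_a_rc_2_0 lc_a_rc_1_0 lc_a_rc_1_0 lc_a_rc_1_4 lc_a_rc_4_2 lc_a_rc_2_2 lc_a_rc_3_2 lc_a_rc_3_2 lc_a_rc_4_2 lc_a_rc_3_0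 lc_a_rc_2_2 lc_a_rc_2_0 lc_a_rc_2_2 lc_a_rc_1_2 lc_a_rc_4_0 lc_a_rc_1_0 lc_a_rc_0_1 lc_a_rc_3_2 lc_a_rc_2_2 lc_a_rc_0_1 lc_a_rc_2_2 lc_a_rc_22_0 lc_a_rc_2_2 lc_a_rc_1_2) (@D3.rec (fun _ => (Cert rels S Gen.a)) lc_a_rc_3_2 lc_a_rc_1_2 lc_a_rc_4_2 lc_a_rc_2_2 lc_a_rc_3_2 lc_a_rc_5_0 lc_a_rc_0_1 lc_a_rc_3_0 lc_a_rc_3_2 lc_a_rc_0_1 lc_a_rc_0_1 lc_a_rc_1_4 lc_a_rc_3_2 lc_a_rc_22_0 lc_a_rc_21_0 lc_a_rc_4_2 lc_a_rc_3_2 lc_a_rc_2_2 lc_a_rc_3_2 lc_a_rc_2_2 lc_a_rc_3_0 lc_a_rc_5_2 lc_a_rc_4_2 lc_a_rc_4_0 lc_a_rc_3_2 lc_a_rc_4_2 lc_a_rc_0_1 lc_a_rc_0_1 lc_a_rc_1_2 lc_a_rc_0_1 lc_a_rc_4_2 lc_a_rc_4_2 lc_a_rc_21_0 lc_a_rc_2_2 lc_a_rc_3_2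 lc_a_rc_2_0 lc_a_rc_0_1 lc_a_rc_4_2 lc_a_rc_3_0 lc_a_rc_1_2 lc_a_rc_4_2 lc_a_rc_3_2 lc_a_rc_0_1 lc_a_rc_0_1 lc_a_rc_3_2 lc_a_rc_5_2 lc_a_rc_3_0 lc_a_rc_1_0 lc_a_rc_4_2 lc_a_rc_2_2 lc_a_rc_2_0 lc_a_rc_3_2 lc_a_rc_4_2 lc_a_rc_5_2 lc_a_rc_0_1 lc_a_rc_3_2 lc_a_rc_2_0 lc_a_rc_3_2 lc_a_rc_3_2 lc_a_rc_2_2 lc_a_rc_5_2 lc_a_rc_0_1) (@D3.rec (fun _ => (Cert rels S Gen.a)) lc_a_rc_4_2 lc_a_rc_1_4 lc_a_rc_3_0 lc_a_rc_4_2 lc_a_rc_4_2 lc_a_rc_4_2 lc_a_rc_2_0 lc_a_rc_1_4 lc_a_rc_3_2 lc_a_rc_1_0 lc_a_rc_2_0 lc_a_rc_3_2 lc_a_rc_3_2 lc_a_rc_2_2 lc_a_rc_1_2 lc_a_rc_3_0 lc_a_rc_4_2 lc_a_rc_2_0 lc_a_rc_4_2 lc_a_rc_2_2 lc_a_rc_0_1 lc_a_rc_4_2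 lc_a_rc_4_2 lc_a_rc_3_0 lc_a_rc_1_4 lc_a_rc_3_2 lc_a_rc_2_2 lc_a_rc_4_0 lc_a_rc_4_2 lc_a_rc_3_2 lc_a_rc_21_0 lc_a_rc_2_2 lc_a_rc_4_2 lc_a_rc_2_2 lc_a_rc_2_2 lc_a_rc_3_2 lc_a_rc_0_1 lc_a_rc_22_0 lc_a_rc_21_0 lc_a_rc_4_2 lc_a_rc_4_2 lc_a_rc_1_4 lc_a_rc_4_2 lc_a_rc_4_2 lc_a_rc_3_2 lc_a_rc_3_0 lc_a_rc_4_2 lc_a_rc_4_0 lc_a_rc_2_2 lc_a_rc_21_0 lc_a_rc_1_0 lc_a_rc_2_2 lc_a_rc_2_0 lc_a_rc_2_2 lc_a_rc_4_2 lc_a_rc_4_2 lc_a_rc_3_2 lc_a_rc_5_2 lc_a_rc_4_2 lc_a_rc_0_1 lc_a_rc_5_2 lc_a_rc_4_0) (@D3.rec (fun _ => (Cert rels S Gen.a)) lc_a_rc_3_2 lc_a_rc_5_2 lc_a_rc_3_2 lc_a_rc_4_2 lc_a_rc_2_2 lc_a_rc_0_1 lc_a_rc_1_0 lc_a_rc_2_2 lc_a_rc_2_2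 lc_a_rc_3_2 lc_a_rc_2_0 lc_a_rc_2_2 lc_a_rc_0_1 lc_a_rc_2_2 lc_a_rc_3_2 lc_a_rc_2_2 lc_a_rc_2_2 lc_a_rc_4_0 lc_a_rc_21_0 lc_a_rc_3_2 lc_a_rc_3_2 lc_a_rc_3_2 lc_a_rc_4_2 lc_a_rc_2_2 lc_a_rc_4_2 lc_a_rc_1_4 lc_a_rc_1_2 lc_a_rc_3_2 lc_a_rc_1_2 lc_a_rc_1_0 lc_a_rc_4_0 lc_a_rc_21_0 lc_a_rc_0_1 lc_a_rc_2_2 lc_a_rc_2_2 lc_a_rc_4_2 lc_a_rc_2_2 lc_a_rc_1_2 lc_a_rc_4_0 lc_a_rc_4_0 lc_a_rc_4_2 lc_a_rc_3_2 lc_a_rc_4_0 lc_a_rc_3_2 lc_a_rc_3_2 lc_a_rc_0_1 lc_a_rc_2_2 lc_a_rc_3_2 lc_a_rc_0_1 lc_a_rc_21_0 lc_a_rc_3_2 lc_a_rc_3_2 lc_a_rc_1_0 lc_a_rc_4_0 lc_a_rc_4_2 lc_a_rc_22_0 lc_a_rc_2_0 lc_a_rc_0_1 lc_a_rc_2_0 lc_a_rc_4_0 lc_a_rc_1_4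 lc_a_rc_2_2) (@D3.rec (fun _ => (Cert rels S Gen.a)) lc_a_rc_1_4 lc_a_rc_2_0 lc_a_rc_4_2 lc_a_rc_2_0 lc_a_rc_3_2 lc_a_rc_4_2 lc_a_rc_3_2 lc_a_rc_1_2 lc_a_rc_3_2 lc_a_rc_5_0 lc_a_rc_4_2 lc_a_rc_5_2 lc_a_rc_0_1 lc_a_rc_2_2 lc_a_rc_2_0 lc_a_rc_4_2 lc_a_rc_3_0 lc_a_rc_4_2 lc_a_rc_5_2 lc_a_rc_3_2 lc_a_rc_3_2 lc_a_rc_2_2 lc_a_rc_5_0 lc_a_rc_3_2 lc_a_rc_3_2 lc_a_rc_1_4 lc_a_rc_22_0 lc_a_rc_0_1 lc_a_rc_1_2 lc_a_rc_0_1 lc_a_rc_3_2 lc_a_rc_4_2 lc_a_rc_1_4 lc_a_rc_21_0 lc_a_rc_0_1 lc_a_rc_0_1 lc_a_rc_3_2 lc_a_rc_0_1 lc_a_rc_4_2 lc_a_rc_3_2 lc_a_rc_4_2 lc_a_rc_1_0 lc_a_rc_21_0 lc_a_rc_3_0 lc_a_rc_2_2 lc_a_rc_2_0 lc_a_rc_0_1 lc_a_rc_2_2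 lc_a_rc_3_2 lc_a_rc_2_2 lc_a_rc_2_2 lc_a_rc_21_0 lc_a_rc_21_0 lc_a_rc_4_2 lc_a_rc_21_0 lc_a_rc_1_0 lc_a_rc_0_1 lc_a_rc_2_2 lc_a_rc_2_2 lc_a_rc_2_0 lc_a_rc_2_2 lc_a_rc_2_2) (@D3.rec (fun _ => (Cert rels S Gen.a)) lc_a_rc_2_2 lc_a_rc_1_0 lc_a_rc_1_0 lc_a_rc_2_0 lc_a_rc_1_2 lc_a_rc_3_0 lc_a_rc_1_4 lc_a_rc_22_0 lc_a_rc_4_0 lc_a_rc_2_0 lc_a_rc_4_2 lc_a_rc_3_0 lc_a_rc_3_2 lc_a_rc_21_0 lc_a_rc_21_0 lc_a_rc_4_0 lc_a_rc_4_2 lc_a_rc_2_2 lc_a_rc_2_2 lc_a_rc_22_0 lc_a_rc_3_2 lc_a_rc_0_1 lc_a_rc_5_2 lc_a_rc_3_2 lc_a_rc_4_2 lc_a_rc_1_0 lc_a_rc_3_2 lc_a_rc_5_2 lc_a_rc_4_2 lc_a_rc_3_2 lc_a_rc_2_2 lc_a_rc_21_0 lc_a_rc_4_2 lc_a_rc_3_2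 lc_a_rc_4_0 lc_a_rc_3_2 lc_a_rc_3_2 lc_a_rc_2_2 lc_a_rc_1_0 lc_a_rc_3_0 lc_a_rc_5_0 lc_a_rc_0_1 lc_a_rc_2_0 lc_a_rc_0_1 lc_a_rc_1_0 lc_a_rc_1_0 lc_a_rc_0_1 lc_a_rc_21_0 lc_a_rc_3_2 lc_a_rc_1_0 lc_a_rc_2_2 lc_a_rc_1_2 lc_a_rc_0_1 lc_a_rc_4_2 lc_a_rc_3_0 lc_a_rc_1_4 lc_a_rc_21_0 lc_a_rc_1_4 lc_a_rc_5_2 lc_a_rc_3_2 lc_a_rc_3_2 lc_a_rc_2_2) (@D3.rec (fun _ => (Cert rels S Gen.a)) lc_a_rc_3_2 lc_a_rc_4_0 lc_a_rc_3_0 lc_a_rc_5_2 lc_a_rc_0_1 lc_a_rc_2_2 lc_a_rc_4_2 lc_a_rc_4_2 lc_a_rc_3_2 lc_a_rc_4_0 lc_a_rc_3_2 lc_a_rc_3_0 lc_a_rc_5_0 lc_a_rc_1_4 lc_a_rc_4_2 lc_a_rc_2_2 lc_a_rc_0_1 lc_a_rc_3_2 lc_a_rc_4_2 lc_a_rc_1_0 lc_a_rc_2_2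 lc_a_rc_0_1 lc_a_rc_1_2 lc_a_rc_0_1 lc_a_rc_2_2 lc_a_rc_1_0 lc_a_rc_3_2 lc_a_rc_2_0 lc_a_rc_2_2 lc_a_rc_2_2 lc_a_rc_4_2 lc_a_rc_5_2 lc_a_rc_1_0 lc_a_rc_2_2 lc_a_rc_2_2 lc_a_rc_21_0 lc_a_rc_3_2 lc_a_rc_2_2 lc_a_rc_2_2 lc_a_rc_21_0 lc_a_rc_2_2 lc_a_rc_5_2 lc_a_rc_5_0 lc_a_rc_1_4 lc_a_rc_2_2 lc_a_rc_0_1 lc_a_rc_1_4 lc_a_rc_1_2 lc_a_rc_0_1 lc_a_rc_4_0 lc_a_rc_21_0 lc_a_rc_4_2 lc_a_rc_5_2 lc_a_rc_2_2 lc_a_rc_3_2 lc_a_rc_3_2 lc_a_rc_2_0 lc_a_rc_4_0 lc_a_rc_4_0 lc_a_rc_4_2 lc_a_rc_21_0 lc_a_rc_2_2) (@D3.rec (fun _ => (Cert rels S Gen.a)) lc_a_rc_0_1 lc_a_rc_5_2 lc_a_rc_22_0 lc_a_rc_4_2 lc_a_rc_5_2 lc_a_rc_0_1 lc_a_rc_21_0 lc_a_rc_3_2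 lc_a_rc_1_2 lc_a_rc_3_2 lc_a_rc_3_2 lc_a_rc_1_4 lc_a_rc_0_1 lc_a_rc_2_2 lc_a_rc_3_0 lc_a_rc_2_2 lc_a_rc_4_2 lc_a_rc_2_0 lc_a_rc_4_2 lc_a_rc_4_2 lc_a_rc_2_2 lc_a_rc_1_4 lc_a_rc_4_2 lc_a_rc_21_0 lc_a_rc_2_0 lc_a_rc_1_0 lc_a_rc_3_2 lc_a_rc_3_2 lc_a_rc_5_0 lc_a_rc_2_2 lc_a_rc_2_2 lc_a_rc_1_4 lc_a_rc_2_2 lc_a_rc_3_2 lc_a_rc_22_0 lc_a_rc_3_2 lc_a_rc_1_2 lc_a_rc_2_0 lc_a_rc_3_2 lc_a_rc_4_2 lc_a_rc_5_0 lc_a_rc_5_2 lc_a_rc_1_4 lc_a_rc_4_2 lc_a_rc_3_2 lc_a_rc_3_2 lc_a_rc_2_0 lc_a_rc_4_2 lc_a_rc_3_2 lc_a_rc_3_0 lc_a_rc_1_4 lc_a_rc_0_1 lc_a_rc_22_0 lc_a_rc_2_2 lc_a_rc_3_2 lc_a_rc_2_2 lc_a_rc_2_2 lc_a_rc_2_0 lc_a_rc_5_0 lc_a_rc_3_2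 lc_a_rc_3_2 lc_a_rc_2_2) (@D3.rec (fun _ => (Cert rels S Gen.a)) lc_a_rc_4_2 lc_a_rc_4_0 lc_a_rc_4_2 lc_a_rc_2_0 lc_a_rc_2_2 lc_a_rc_4_2 lc_a_rc_4_2 lc_a_rc_3_2 lc_a_rc_21_0 lc_a_rc_3_0 lc_a_rc_1_4 lc_a_rc_3_0 lc_a_rc_1_0 lc_a_rc_3_2 lc_a_rc_4_2 lc_a_rc_2_2 lc_a_rc_4_2 lc_a_rc_3_0 lc_a_rc_3_2 lc_a_rc_1_2 lc_a_rc_1_2 lc_a_rc_0_1 lc_a_rc_1_2 lc_a_rc_1_4 lc_a_rc_2_2 lc_a_rc_1_0 lc_a_rc_0_1 lc_a_rc_3_2 lc_a_rc_4_2 lc_a_rc_3_0 lc_a_rc_1_0 lc_a_rc_0_1 lc_a_rc_3_2 lc_a_rc_1_0 lc_a_rc_1_2 lc_a_rc_4_2 lc_a_rc_1_2 lc_a_rc_2_2 lc_a_rc_22_0 lc_a_rc_5_0 lc_a_rc_1_4 lc_a_rc_2_2 lc_a_rc_5_0 lc_a_rc_2_2 lc_a_rc_1_4 lc_a_rc_3_2 lc_a_rc_2_2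 lc_a_rc_4_2 lc_a_rc_3_2 lc_a_rc_3_0 lc_a_rc_2_0 lc_a_rc_4_2 lc_a_rc_3_2 lc_a_rc_1_4 lc_a_rc_3_2 lc_a_rc_3_0 lc_a_rc_4_2 lc_a_rc_3_2 lc_a_rc_1_4 lc_a_rc_3_0 lc_a_rc_2_2 lc_a_rc_2_0) (@D3.rec (fun _ => (Cert rels S Gen.a)) lc_a_rc_3_0 lc_a_rc_0_1 lc_a_rc_22_0 lc_a_rc_21_0 lc_a_rc_3_2 lc_a_rc_1_4 lc_a_rc_3_0 lc_a_rc_0_1 lc_a_rc_1_2 lc_a_rc_2_2 lc_a_rc_4_2 lc_a_rc_2_0 lc_a_rc_4_2 lc_a_rc_1_4 lc_a_rc_3_2 lc_a_rc_2_0 lc_a_rc_0_1 lc_a_rc_2_2 lc_a_rc_2_2 lc_a_rc_1_4 lc_a_rc_3_2 lc_a_rc_4_0 lc_a_rc_2_0 lc_a_rc_4_2 lc_a_rc_4_2 lc_a_rc_3_2 lc_a_rc_3_2 lc_a_rc_4_2 lc_a_rc_3_2 lc_a_rc_0_1 lc_a_rc_3_2 lc_a_rc_3_2 lc_a_rc_0_1 lc_a_rc_4_2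 lc_a_rc_3_0 lc_a_rc_1_0 lc_a_rc_2_2 lc_a_rc_4_0 lc_a_rc_3_2 lc_a_rc_4_2 lc_a_rc_3_2 lc_a_rc_3_2 lc_a_rc_4_0 lc_a_rc_3_0 lc_a_rc_3_2 lc_a_rc_2_2 lc_a_rc_21_0 lc_a_rc_21_0 lc_a_rc_1_0 lc_a_rc_0_1 lc_a_rc_2_0 lc_a_rc_2_2 lc_a_rc_21_0 lc_a_rc_22_0 lc_a_rc_2_0 lc_a_rc_1_2 lc_a_rc_0_1 lc_a_rc_3_2 lc_a_rc_4_2 lc_a_rc_2_2 lc_a_rc_3_2 lc_a_rc_1_0) (@D3.rec (fun _ => (Cert rels S Gen.a)) lc_a_rc_1_2 lc_a_rc_0_1 lc_a_rc_22_0 lc_a_rc_1_0 lc_a_rc_2_0 lc_a_rc_0_1 lc_a_rc_1_4 lc_a_rc_2_0 lc_a_rc_21_0 lc_a_rc_1_0 lc_a_rc_3_2 lc_a_rc_2_2 lc_a_rc_1_2 lc_a_rc_1_4 lc_a_rc_4_0 lc_a_rc_0_1 lc_a_rc_21_0 lc_a_rc_2_2 lc_a_rc_2_2 lc_a_rc_4_2 lc_a_rc_2_2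 lc_a_rc_1_0 lc_a_rc_3_0 lc_a_rc_4_2 lc_a_rc_3_0 lc_a_rc_0_1 lc_a_rc_4_2 lc_a_rc_4_0 lc_a_rc_4_0 lc_a_rc_3_2 lc_a_rc_2_2 lc_a_rc_3_2 lc_a_rc_2_2 lc_a_rc_4_2 lc_a_rc_0_1 lc_a_rc_4_2 lc_a_rc_22_0 lc_a_rc_3_2 lc_a_rc_3_2 lc_a_rc_1_4 lc_a_rc_1_0 lc_a_rc_5_2 lc_a_rc_4_0 lc_a_rc_2_0 lc_a_rc_4_0 lc_a_rc_4_2 lc_a_rc_3_2 lc_a_rc_3_2 lc_a_rc_4_2 lc_a_rc_0_1 lc_a_rc_21_0 lc_a_rc_4_2 lc_a_rc_1_4 lc_a_rc_3_2 lc_a_rc_4_2 lc_a_rc_4_2 lc_a_rc_3_2 lc_a_rc_3_2 lc_a_rc_3_2 lc_a_rc_4_2 lc_a_rc_4_2 lc_a_rc_2_2) (@D3.rec (fun _ => (Cert rels S Gen.a)) lc_a_rc_5_2 lc_a_rc_3_0 lc_a_rc_2_0 lc_a_rc_3_2 lc_a_rc_2_0 lc_a_rc_0_1 lc_a_rc_5_0 lc_a_rc_3_2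 lc_a_rc_2_0 lc_a_rc_5_2 lc_a_rc_1_0 lc_a_rc_0_1 lc_a_rc_1_2 lc_a_rc_3_2 lc_a_rc_3_2 lc_a_rc_0_1 lc_a_rc_2_2 lc_a_rc_21_0 lc_a_rc_1_4 lc_a_rc_2_2 lc_a_rc_2_2 lc_a_rc_5_2 lc_a_rc_3_0 lc_a_rc_2_0 lc_a_rc_21_0 lc_a_rc_5_2 lc_a_rc_4_2 lc_a_rc_0_1 lc_a_rc_5_2 lc_a_rc_3_2 lc_a_rc_2_0 lc_a_rc_4_2 lc_a_rc_3_2 lc_a_rc_1_2 lc_a_rc_1_4 lc_a_rc_2_2 lc_a_rc_2_2 lc_a_rc_2_2 lc_a_rc_3_0 lc_a_rc_22_0 lc_a_rc_1_4 lc_a_rc_21_0 lc_a_rc_3_2 lc_a_rc_0_1 lc_a_rc_21_0 lc_a_rc_2_2 lc_a_rc_2_2 lc_a_rc_1_2 lc_a_rc_3_2 lc_a_rc_2_2 lc_a_rc_4_0 lc_a_rc_5_2 lc_a_rc_1_4 lc_a_rc_3_2 lc_a_rc_3_0 lc_a_rc_3_0 lc_a_rc_2_2 lc_a_rc_4_2 lc_a_rc_2_2 lc_a_rc_3_0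 lc_a_rc_1_4 lc_a_rc_3_0) (@D3.rec (fun _ => (Cert rels S Gen.a)) lc_a_rc_4_2 lc_a_rc_3_2 lc_a_rc_4_0 lc_a_rc_4_0 lc_a_rc_2_0 lc_a_rc_0_1 lc_a_rc_22_0 lc_a_rc_2_2 lc_a_rc_5_2 lc_a_rc_2_2 lc_a_rc_22_0 lc_a_rc_0_1 lc_a_rc_0_1 lc_a_rc_2_2 lc_a_rc_2_2 lc_a_rc_4_2 lc_a_rc_3_2 lc_a_rc_1_2 lc_a_rc_4_2 lc_a_rc_4_0 lc_a_rc_2_0 lc_a_rc_2_2 lc_a_rc_2_2 lc_a_rc_3_0 lc_a_rc_2_2 lc_a_rc_4_2 lc_a_rc_2_2 lc_a_rc_0_1 lc_a_rc_2_0 lc_a_rc_2_0 lc_a_rc_2_2 lc_a_rc_1_4 lc_a_rc_2_2 lc_a_rc_2_2 lc_a_rc_1_4 lc_a_rc_5_2 lc_a_rc_3_0 lc_a_rc_1_2 lc_a_rc_0_1 lc_a_rc_2_2 lc_a_rc_2_2 lc_a_rc_4_2 lc_a_rc_4_2 lc_a_rc_4_2 lc_a_rc_4_0 lc_a_rc_2_2 lc_a_rc_3_0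 lc_a_rc_3_0 lc_a_rc_21_0 lc_a_rc_4_2 lc_a_rc_1_2 lc_a_rc_3_2 lc_a_rc_1_4 lc_a_rc_4_2 lc_a_rc_5_2 lc_a_rc_1_4 lc_a_rc_3_2 lc_a_rc_2_2 lc_a_rc_3_2 lc_a_rc_2_2 lc_a_rc_1_4 lc_a_rc_4_2)
def ce_a : Pt → (Cert rels S Gen.a) := @Pt.rec (fun _ => (Cert rels S Gen.a)) (@D1.rec (fun _ => D2 → D3 → (Cert rels S Gen.a)) ce_a_0 ce_a_1 ce_a_2 ce_a_3 ce_a_4 ce_a_5 ce_a_6 ce_a_7 ce_a_8 ce_a_9 ce_a_10 ce_a_11 ce_a_12 ce_a_13 ce_a_14 ce_a_15 ce_a_16 ce_a_17 ce_a_18 ce_a_19 ce_a_20 ce_a_21 ce_a_22 ce_a_23 ce_a_24 ce_a_25 ce_a_26 ce_a_27 ce_a_28 ce_a_29 ce_a_30 ce_a_31 ce_a_32)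
def z3_a : D3 → Nat := fun _ => 0
def z2_a : D2 → D3 → Nat := fun _ _ => 0
def sd_a_0 : D2 → D3 → Nat := @D2.rec (fun _ => D3 → Nat) (@D3.rec (fun _ => Nat) 0 0 0 0 0 0 0 0 0 0 0 0 4 0 0 0 9 0 0 0 0 0 0 0 0 0 0 0 0 0 0 0 0 0 0 0 0 0 0 0 0 0 0 0 0 0 0 0 0 0 0 0 0 0 0 0 0 0 0 0 0 15) z3_a z3_a z3_a z3_a z3_a z3_a z3_a z3_a z3_a z3_a z3_a z3_a z3_a z3_a z3_a z3_a z3_a z3_a z3_a z3_a z3_a z3_a z3_a (@D3.rec (fun _ => Nat) 0 0 0 0 0 0 0 0 0 0 0 0 0 0 0 0 0 51 0 0 0 0 0 0 0 0 24 0 0 0 0 0 0 0 0 0 0 0 0 0 0 0 0 0 0 0 0 0 0 0 0 0 0 0 0 0 0 0 0 0 0 0) z3_a z3_a z3_a z3_a z3_a z3_a z3_a z3_a z3_a z3_a z3_a z3_a z3_a (@D3.rec (fun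 _ => Nat) 0 0 0 0 0 0 0 0 0 0 0 0 0 0 0 0 0 0 0 0 0 0 0 0 0 0 0 0 0 0 0 0 0 0 0 0 0 0 0 0 0 0 0 0 0 0 0 0 0 0 0 0 0 0 0 0 0 0 304 0 0 0) z3_a z3_a (@D3.rec (fun _ => Nat) 0 21 0 0 0 0 0 0 0 0 0 0 0 0 0 0 0 0 0 0 0 0 0 0 0 0 0 0 0 0 0 0 0 0 0 0 0 0 0 0 0 0 0 0 0 0 0 0 0 0 0 0 0 0 0 0 0 0 0 0 0 0) (@D3.rec (fun _ => Nat) 0 0 0 0 0 0 0 0 0 0 0 0 0 0 0 0 0 0 0 0 0 0 0 0 0 0 0 0 0 0 0 0 0 0 0 244 0 0 0 0 0 0 0 0 0 0 0 0 0 0 0 0 0 0 0 0 0 0 0 0 0 0) z3_a z3_a (@D3.rec (fun _ => Nat) 274 0 0 0 0 0 0 0 0 0 0 0 0 0 0 0 0 0 0 0 0 0 0 0 0 0 0 0 0 0 0 0 0 0 0 0 0 0 0 0 0 0 0 0 0 0 0 0 0 0 157 0 0 0 0 0 0 0 0 0 0 0) (@D3.rec (fun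 _ => Nat) 0 0 0 0 0 0 0 0 0 0 0 0 0 0 0 0 0 0 0 0 0 0 0 0 0 0 0 0 0 0 0 0 0 0 0 0 0 0 0 0 0 0 0 0 0 0 0 0 0 39 0 0 0 0 0 0 0 0 0 0 0 0) z3_a z3_a (@D3.rec (fun _ => Nat) 0 0 0 0 0 0 0 0 0 0 0 0 0 0 0 0 0 0 0 0 0 0 0 0 0 0 0 0 0 0 0 0 0 0 0 0 0 73 0 0 0 0 0 0 0 0 0 0 0 0 0 0 0 0 0 0 0 0 0 0 0 0) (@D3.rec (fun _ => Nat) 0 0 0 0 0 0 0 0 0 0 0 0 0 0 0 0 0 0 0 0 0 0 0 0 0 0 0 0 0 0 0 0 0 0 0 0 0 0 0 0 0 49 0 0 0 0 0 0 0 0 0 0 0 0 0 0 0 0 0 0 0 0) z3_a z3_a z3_a z3_a z3_a z3_a z3_a z3_a z3_a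
def sd_a_1 : D2 → D3 → Nat := @D2.rec (fun _ => D3 → Nat) z3_a z3_a z3_a (@D3.rec (fun _ => Nat) 0 0 0 0 0 0 0 0 0 0 0 0 0 0 0 0 0 0 0 0 0 0 0 0 0 0 0 0 0 0 0 0 0 0 0 0 0 0 0 0 0 0 0 0 0 0 0 0 0 0 0 0 0 0 0 0 0 29 0 0 0 0) z3_a z3_a z3_a z3_a (@D3.rec (fun _ => Nat) 0 0 0 0 0 0 0 141 0 0 0 0 0 0 0 0 0 0 0 0 0 0 0 0 0 0 0 0 0 0 0 0 0 0 0 0 0 0 0 0 0 0 0 0 0 0 0 0 0 0 0 0 0 0 0 0 0 0 0 0 0 0) z3_a z3_a z3_a z3_a z3_a z3_a z3_a z3_a z3_a z3_a z3_a z3_a z3_a z3_a z3_a z3_a z3_a (@D3.rec (fun _ => Nat) 0 0 125 0 0 0 0 0 0 0 0 0 0 0 0 0 0 0 0 0 0 0 0 0 0 0 0 0 0 0 0 0 0 0 0 0 0 0 0 0 0 0 0 0 0 0 0 0 0 0 0 0 0 0 0 0 0 0 0 0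 0 0) z3_a z3_a z3_a z3_a z3_a (@D3.rec (fun _ => Nat) 0 0 0 0 0 0 0 0 0 0 0 0 0 0 0 0 0 0 0 0 0 0 0 0 0 0 0 0 0 0 0 0 0 0 0 0 0 0 0 0 0 0 0 0 0 0 0 0 0 0 0 0 0 0 0 0 0 0 0 135 0 0) z3_a z3_a (@D3.rec (fun _ => Nat) 0 0 0 0 0 0 0 0 0 0 0 0 0 0 0 0 0 0 0 0 0 0 0 0 0 0 0 0 0 0 0 0 0 0 0 0 0 0 0 0 0 0 0 0 0 0 0 0 1174 0 0 0 0 0 0 0 0 0 0 0 0 0) z3_a (@D3.rec (fun _ => Nat) 0 0 0 0 584 0 0 0 0 0 0 0 0 0 0 0 0 0 0 0 0 0 0 0 0 0 0 0 0 0 0 0 0 0 0 0 0 0 0 0 0 0 0 0 0 0 0 0 0 0 0 0 0 0 0 0 0 0 0 0 0 0) z3_a z3_a z3_a (@D3.rec (fun _ => Nat) 0 0 0 0 0 0 0 0 0 0 0 0 0 0 0 0 0 0 0 0 0 0 0 0 0 0 0 0 0 0 0 0 0 0 0 67 0 0 0 0 0 0 0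 0 0 0 0 0 0 0 0 0 0 0 0 0 0 0 0 0 0 0) z3_a z3_a z3_a (@D3.rec (fun _ => Nat) 0 0 0 0 0 0 0 0 0 0 0 0 0 0 0 0 0 0 0 0 0 0 0 0 0 0 0 0 0 0 0 0 0 0 0 0 0 0 0 0 0 0 0 0 0 0 0 0 0 0 0 0 0 0 0 50 95 0 0 0 0 0) z3_a z3_a z3_a (@D3.rec (fun _ => Nat) 0 0 0 0 0 0 0 0 0 0 0 0 0 0 0 0 0 0 0 0 0 0 0 0 0 0 0 0 0 0 0 0 0 0 0 0 0 197 0 0 0 0 0 0 0 0 0 0 0 0 0 0 0 0 0 0 0 0 0 0 0 0) z3_a z3_a z3_a z3_a (@D3.rec (fun _ => Nat) 0 0 0 0 0 0 0 0 0 0 0 0 0 0 0 0 0 0 0 0 0 201 0 0 0 0 0 0 0 0 0 0 0 232 0 0 0 0 0 0 0 0 0 0 0 0 158 0 0 0 0 0 0 0 0 0 0 0 0 0 0 0) (@D3.rec (fun _ => Nat) 0 0 0 0 89 0 0 0 0 0 0 0 0 0 0 0 0 0 0 0 0 0 0 0 0 0 0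 0 0 0 0 0 0 0 0 0 0 0 0 0 0 0 0 0 0 0 0 0 0 0 0 0 0 0 0 0 0 0 0 0 0 0) z3_a z3_a z3_a z3_a
def sd_a_2 : D2 → D3 → Nat := @D2.rec (fun _ => D3 → Nat) z3_a z3_a z3_a z3_a z3_a z3_a z3_a z3_a z3_a z3_a z3_a z3_a z3_a z3_a z3_a z3_a z3_a (@D3.rec (fun _ => Nat) 0 0 0 0 0 0 0 0 0 0 0 0 0 0 0 0 0 0 0 0 0 0 0 0 0 0 1149 0 0 0 0 0 0 0 0 0 0 0 0 0 0 0 0 0 0 0 0 0 0 0 0 0 0 0 0 0 0 0 0 0 0 0) z3_a (@D3.rec (fun _ => Nat) 0 0 0 0 0 0 0 0 0 0 0 0 0 0 0 0 0 0 0 0 1312 0 0 0 0 0 0 0 0 0 0 0 0 0 0 0 0 0 0 0 0 0 0 0 0 0 0 0 0 0 0 0 0 0 0 0 0 0 0 0 0 0) (@D3.rec (fun _ => Nat) 0 0 0 0 0 0 0 0 0 0 0 0 0 0 0 0 0 0 0 0 0 0 0 0 0 0 0 0 0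 0 0 0 0 0 0 0 0 0 0 0 0 0 0 0 0 0 0 0 0 544 0 0 0 0 0 0 0 0 0 1151 0 0) (@D3.rec (fun _ => Nat) 0 0 0 0 0 1304 0 0 0 0 0 0 0 0 0 0 0 0 0 0 0 0 0 0 0 0 0 0 0 0 0 0 0 0 0 0 0 0 0 0 0 0 0 0 0 0 0 0 0 0 0 0 0 0 0 0 0 0 0 0 0 0) z3_a z3_a (@D3.rec (fun _ => Nat) 0 0 0 0 0 0 0 0 0 0 0 0 0 0 0 117 0 0 0 0 0 0 0 0 0 0 0 0 0 0 0 0 0 0 0 0 0 0 0 0 0 0 0 0 0 0 0 0 0 0 0 0 0 0 0 0 0 0 0 0 0 0) z3_a z3_a z3_a z3_a z3_a z3_a (@D3.rec (fun _ => Nat) 0 0 0 0 0 0 0 0 0 0 0 0 0 0 0 0 0 0 0 0 0 0 0 0 245 0 0 0 0 0 0 0 0 0 0 0 0 0 0 0 0 0 0 0 0 0 0 0 0 0 0 0 0 0 0 0 0 0 0 0 0 0) z3_a z3_a z3_a z3_a z3_a z3_a z3_a z3_a z3_a z3_a z3_a z3_a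 z3_a z3_a z3_a z3_a z3_a z3_a z3_a z3_a (@D3.rec (fun _ => Nat) 0 0 0 0 0 0 0 0 0 0 0 0 0 0 0 0 121 0 0 0 0 0 0 0 0 0 0 0 0 0 0 0 0 0 0 0 0 0 0 0 0 0 0 0 0 0 0 0 0 0 0 0 0 0 0 0 0 0 0 0 0 0) z3_a z3_a z3_a z3_a z3_a z3_a z3_a
def sd_a_3 : D2 → D3 → Nat := @D2.rec (fun _ => D3 → Nat) z3_a z3_a z3_a z3_a z3_a (@D3.rec (fun _ => Nat) 0 0 0 0 0 0 0 0 0 0 0 0 0 0 0 0 0 0 0 0 0 0 0 0 0 0 0 0 0 0 0 0 0 0 0 0 0 0 0 0 0 0 0 0 0 0 0 0 0 0 0 0 0 0 0 0 0 0 0 1148 0 0) (@D3.rec (fun _ => Nat) 0 0 0 0 0 0 0 0 0 0 0 0 0 0 0 0 0 0 0 0 0 0 0 0 0 0 0 0 0 0 0 0 0 0 0 0 0 0 0 0 0 0 709 0 0 0 0 0 0 0 0 0 0 0 0 0 0 0 0 0 0 0) z3_a z3_a z3_a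 z3_a z3_a (@D3.rec (fun _ => Nat) 0 0 0 0 0 715 0 0 0 0 0 0 0 0 0 0 0 0 0 0 0 0 0 0 0 0 0 0 0 0 0 0 0 0 0 0 0 0 0 0 0 0 0 0 0 0 0 0 0 0 0 0 0 0 0 0 0 0 0 0 0 0) z3_a (@D3.rec (fun _ => Nat) 0 0 0 0 0 0 0 0 0 0 0 0 0 0 1337 0 0 1328 0 0 0 0 0 0 0 0 0 0 0 0 0 0 0 0 0 0 0 0 0 0 0 0 0 0 0 0 0 0 0 0 0 0 0 0 0 0 0 0 0 0 0 0) (@D3.rec (fun _ => Nat) 0 0 0 0 0 0 0 0 0 0 0 0 0 0 0 0 0 0 0 0 0 0 0 0 0 0 0 0 0 0 0 0 0 0 0 0 0 0 0 0 0 0 0 363 0 0 0 0 0 0 0 0 0 0 0 0 0 0 0 0 0 0) (@D3.rec (fun _ => Nat) 365 0 0 0 0 0 0 0 0 0 0 0 0 0 0 0 0 0 0 0 0 0 0 0 0 0 0 0 0 0 0 0 0 0 0 0 0 0 0 0 0 0 0 0 0 0 0 0 0 0 0 0 0 0 0 0 0 0 0 0 0 0) (@D3.rec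 (fun _ => Nat) 0 0 0 0 0 0 0 0 0 0 0 0 0 0 0 0 0 0 0 0 0 0 579 0 0 0 0 0 0 0 0 0 0 0 0 0 0 0 0 0 0 0 0 0 0 0 0 0 0 0 0 0 0 0 0 0 0 0 0 0 0 0) z3_a z3_a (@D3.rec (fun _ => Nat) 0 0 0 0 0 0 0 1296 0 0 0 0 0 0 0 0 0 0 0 0 0 0 0 0 0 0 0 0 0 0 0 0 0 0 0 0 0 0 0 0 0 0 0 0 0 0 0 0 0 0 0 0 0 0 0 0 0 0 0 0 0 0) (@D3.rec (fun _ => Nat) 0 0 0 0 0 0 0 0 0 0 0 0 0 0 0 0 0 0 0 556 0 0 0 0 0 0 0 0 0 0 0 0 0 0 0 0 0 0 0 0 0 0 0 0 0 0 0 0 0 0 0 0 0 0 0 0 0 0 0 0 0 0) z3_a z3_a z3_a z3_a (@D3.rec (fun _ => Nat) 0 0 0 0 0 0 0 0 0 0 0 0 0 0 0 0 0 0 0 0 0 0 172 0 0 0 0 0 0 0 0 0 0 0 0 0 0 0 0 0 0 0 0 0 0 0 0 0 0 0 0 0 0 0 0 0 0 0 0 0 0 0)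 z3_a z3_a (@D3.rec (fun _ => Nat) 0 0 0 0 0 0 0 0 0 0 0 0 0 0 0 0 0 0 0 215 0 0 0 0 0 0 0 0 0 0 0 0 0 0 0 0 0 0 0 0 0 0 0 0 0 0 0 0 0 0 0 0 0 0 0 0 0 0 0 0 0 0) z3_a z3_a z3_a z3_a (@D3.rec (fun _ => Nat) 0 0 0 0 0 0 0 0 0 0 0 0 0 0 0 0 0 0 0 0 0 0 0 0 0 0 0 0 0 0 0 0 0 0 0 0 0 0 0 0 0 0 0 0 0 0 0 0 0 0 0 0 0 0 0 0 0 160 0 0 0 0) (@D3.rec (fun _ => Nat) 0 0 0 391 0 396 0 0 0 0 0 0 0 0 0 0 0 0 0 0 0 0 0 0 0 0 0 0 0 0 0 0 0 388 0 0 0 0 0 0 0 0 0 0 0 0 0 0 0 0 0 0 0 0 0 0 0 0 0 0 0 0) (@D3.rec (fun _ => Nat) 0 0 0 0 0 0 0 0 0 0 0 0 0 0 0 0 0 0 0 0 0 0 0 0 0 0 0 0 0 0 0 0 0 0 0 0 0 0 0 0 0 0 231 0 0 0 0 0 0 0 0 0 0 0 0 0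 0 0 0 0 0 0) z3_a z3_a z3_a z3_a z3_a (@D3.rec (fun _ => Nat) 0 0 0 0 0 0 0 0 0 0 0 0 0 0 0 0 0 0 0 0 0 0 0 0 0 0 227 0 0 0 0 0 0 0 0 0 0 0 0 0 0 0 0 0 0 0 0 0 0 0 0 0 0 0 0 0 0 0 0 0 0 0) z3_a z3_a z3_a (@D3.rec (fun _ => Nat) 0 0 0 0 0 0 0 0 0 0 0 0 0 0 0 0 0 0 0 0 0 0 0 0 0 0 0 0 0 0 0 0 0 0 0 0 0 0 0 0 0 0 0 0 0 0 0 0 0 0 0 0 0 0 0 0 0 103 0 0 0 0) z3_a z3_a z3_a z3_a z3_a z3_a z3_a z3_a (@D3.rec (fun _ => Nat) 0 0 0 0 0 0 0 0 0 0 0 0 0 0 0 0 0 0 0 434 0 0 0 0 0 0 0 0 0 0 0 0 0 0 0 0 0 0 0 0 0 0 0 0 0 0 0 0 0 0 0 0 0 0 0 0 0 0 0 0 0 0) z3_a z3_a z3_a z3_a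
def sd_a_4 : D2 → D3 → Nat := @D2.rec (fun _ => D3 → Nat) z3_a z3_a z3_a z3_a z3_a z3_a z3_a z3_a z3_a z3_a (@D3.rec (fun _ => Nat) 0 0 0 0 0 0 0 0 0 0 0 0 0 0 0 0 0 0 0 0 0 0 0 0 0 0 0 0 0 0 0 0 0 0 0 0 0 0 0 0 0 0 0 0 0 0 0 0 0 0 0 0 0 0 2397 0 0 0 0 0 0 0) z3_a z3_a (@D3.rec (fun _ => Nat) 0 0 0 0 0 0 0 0 0 0 0 0 0 0 0 0 0 625 0 0 0 0 0 0 0 0 0 0 0 0 0 0 0 0 0 0 0 0 0 0 0 0 0 0 0 0 0 0 0 0 0 0 0 0 0 0 0 0 0 0 0 0) z3_a z3_a z3_a z3_a (@D3.rec (fun _ => Nat) 0 0 0 0 0 0 0 0 0 0 0 0 0 0 0 0 0 0 0 0 919 0 0 0 0 0 0 0 0 0 0 0 0 0 0 0 0 0 0 0 0 0 0 0 0 0 0 0 0 0 0 0 0 0 0 0 0 0 0 0 0 0) z3_a z3_a z3_a z3_a z3_a z3_a z3_a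 z3_a (@D3.rec (fun _ => Nat) 0 0 0 0 0 0 0 0 0 0 0 0 0 0 0 0 0 0 0 0 0 0 0 0 0 0 0 0 0 0 0 0 0 0 0 0 0 0 0 0 0 0 0 0 0 0 0 0 0 0 0 0 0 0 0 279 0 0 0 0 0 0) (@D3.rec (fun _ => Nat) 0 0 0 0 0 0 0 0 0 0 0 280 0 0 0 0 0 0 0 281 0 0 0 0 0 0 0 0 0 0 0 0 0 0 0 0 0 0 0 0 0 0 0 0 0 0 0 0 0 0 0 0 0 0 0 0 0 0 0 0 0 0) z3_a z3_a (@D3.rec (fun _ => Nat) 0 0 0 0 0 0 0 0 0 0 0 0 0 0 0 0 0 0 0 0 0 0 0 0 0 0 0 0 0 0 0 0 0 0 0 0 0 0 0 0 0 0 0 0 0 0 905 0 0 0 0 0 0 0 0 0 0 0 0 0 0 0) z3_a (@D3.rec (fun _ => Nat) 0 0 0 0 0 0 0 0 0 0 0 0 0 0 0 0 0 0 0 0 0 0 0 0 0 0 0 0 0 0 0 0 0 0 0 936 0 0 0 0 0 0 0 0 0 0 0 0 0 0 0 0 0 0 0 0 0 0 0 0 0 0)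 z3_a (@D3.rec (fun _ => Nat) 0 0 0 0 0 0 0 0 0 0 0 0 0 0 0 0 0 0 0 0 0 0 0 0 0 0 0 0 0 0 0 0 0 0 0 0 0 0 0 0 0 0 0 0 266 0 0 0 0 0 0 0 0 0 0 0 0 0 0 0 0 0) z3_a z3_a z3_a z3_a z3_a z3_a z3_a (@D3.rec (fun _ => Nat) 0 0 0 0 0 0 0 0 0 0 0 0 0 0 0 0 0 0 0 0 0 0 0 0 0 1266 0 0 0 0 0 0 0 0 0 0 0 0 0 0 0 0 0 0 0 0 0 0 0 0 0 0 0 0 0 0 0 0 0 0 0 0) z3_a (@D3.rec (fun _ => Nat) 0 0 0 0 0 0 0 0 0 0 0 0 0 0 0 0 0 0 0 0 0 0 0 0 0 0 0 0 0 0 0 1300 0 0 0 0 0 0 0 0 0 0 0 0 0 0 0 0 0 0 0 0 0 0 0 0 0 0 0 0 0 0) z3_a (@D3.rec (fun _ => Nat) 551 0 0 0 0 0 0 0 0 0 0 0 0 0 0 0 0 0 0 0 0 0 0 0 0 0 0 0 0 0 0 0 0 0 0 0 0 0 0 0 0 0 0 0 0 744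 0 0 0 0 0 0 0 0 0 0 0 0 0 0 0 0) z3_a z3_a z3_a z3_a z3_a z3_a z3_a z3_a z3_a z3_a z3_a z3_a
def sd_a_5 : D2 → D3 → Nat := @D2.rec (fun _ => D3 → Nat) z3_a z3_a z3_a (@D3.rec (fun _ => Nat) 0 0 0 0 0 0 0 0 0 0 0 0 0 0 0 0 0 0 0 0 0 0 0 0 0 0 0 0 0 0 0 0 0 0 0 0 0 0 0 0 0 0 0 0 0 0 0 0 0 0 0 0 2526 0 0 0 0 0 0 0 0 0) z3_a z3_a z3_a z3_a (@D3.rec (fun _ => Nat) 0 0 0 0 0 0 0 0 0 0 0 0 0 0 0 0 0 0 0 0 0 0 0 0 0 0 0 2509 0 0 0 0 0 0 0 0 0 0 0 0 0 0 0 0 0 0 0 0 0 0 0 0 0 0 0 0 0 0 0 0 0 0) z3_a z3_a (@D3.rec (fun _ => Nat) 0 0 0 0 0 0 0 0 0 0 0 0 0 0 0 0 0 0 0 0 0 0 0 0 0 0 0 0 0 0 0 0 0 0 0 0 0 0 0 0 0 0 0 0 0 0 0 0 0 0 2501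 0 0 0 0 0 0 0 0 0 0 0) z3_a z3_a (@D3.rec (fun _ => Nat) 0 0 0 0 0 0 0 0 0 0 0 0 0 0 0 0 0 0 0 0 0 0 0 0 0 0 0 0 0 0 0 0 0 0 0 0 0 0 0 0 0 0 0 0 2465 0 0 0 0 0 0 0 0 0 0 0 0 0 0 0 0 0) z3_a z3_a z3_a z3_a z3_a z3_a z3_a (@D3.rec (fun _ => Nat) 0 0 0 0 0 0 0 0 0 0 0 0 0 0 0 0 0 0 0 0 0 0 0 797 0 0 0 0 0 0 0 0 0 0 0 0 0 0 0 0 0 0 0 0 0 0 0 0 0 0 0 0 0 0 0 0 0 0 0 0 0 0) z3_a z3_a z3_a (@D3.rec (fun _ => Nat) 0 0 0 0 0 0 0 0 0 0 0 0 0 0 0 0 0 0 0 0 0 0 0 0 0 0 0 0 0 0 0 0 0 0 0 0 0 0 0 0 0 0 0 0 0 0 0 0 0 2711 0 0 0 0 0 0 0 0 0 0 0 0) (@D3.rec (fun _ => Nat) 0 0 0 0 0 0 0 0 0 0 0 0 0 0 0 2481 0 0 0 0 0 0 1057 0 0 0 0 0 0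 0 0 0 0 0 0 0 0 0 0 0 0 0 0 0 0 0 0 0 0 0 0 0 0 0 0 0 0 0 0 0 0 0) z3_a z3_a z3_a z3_a z3_a z3_a z3_a z3_a z3_a z3_a z3_a (@D3.rec (fun _ => Nat) 0 0 0 0 0 0 0 0 0 0 0 0 0 0 0 0 0 0 0 0 0 0 0 0 0 0 0 0 0 0 0 0 0 0 0 0 633 0 0 0 0 0 0 0 0 0 0 0 0 0 0 0 0 0 0 0 0 0 0 0 0 0) z3_a (@D3.rec (fun _ => Nat) 0 0 0 0 0 0 0 0 0 0 934 0 0 0 0 0 0 0 0 0 0 0 0 0 0 0 0 0 0 0 0 0 0 0 0 0 0 0 0 0 0 0 0 0 0 0 0 0 0 0 0 0 0 0 0 0 0 0 0 0 0 0) z3_a z3_a z3_a z3_a z3_a (@D3.rec (fun _ => Nat) 0 0 0 0 0 0 0 0 0 0 0 0 0 0 0 0 0 0 0 0 0 0 0 0 0 0 0 0 0 0 0 0 0 0 0 0 0 0 0 928 0 0 0 0 0 0 0 0 0 0 0 0 0 0 0 0 0 0 0 0 0 0) z3_a z3_a z3_a z3_a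 (@D3.rec (fun _ => Nat) 0 0 0 0 981 0 0 0 0 0 0 0 0 0 0 0 0 0 0 0 0 0 0 0 0 0 0 0 0 0 0 0 0 0 0 0 0 0 0 0 0 0 0 0 0 0 0 0 0 0 0 0 0 0 0 0 0 0 0 0 0 0) z3_a z3_a z3_a z3_a z3_a (@D3.rec (fun _ => Nat) 0 0 0 0 0 0 0 0 0 0 0 0 0 0 0 0 0 0 0 0 0 0 0 0 0 0 0 0 0 0 0 0 0 0 0 0 0 0 0 0 0 0 0 0 0 0 0 0 0 0 0 0 0 0 999 0 0 0 0 0 0 0) z3_a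
def sd_a_6 : D2 → D3 → Nat := @D2.rec (fun _ => D3 → Nat) z3_a z3_a z3_a (@D3.rec (fun _ => Nat) 0 0 0 0 0 0 0 0 0 0 0 0 0 0 0 0 0 0 0 0 0 0 0 0 0 0 0 0 0 0 0 0 0 0 0 0 0 0 0 0 0 0 0 0 0 0 2258 0 0 0 0 0 0 0 0 0 0 0 0 0 0 0) z3_a z3_a (@D3.rec (fun _ => Nat) 0 0 0 0 0 0 0 0 0 0 0 0 0 0 0 0 0 0 0 0 0 0 0 0 0 2467 0 0 0 0 0 0 0 0 0 0 0 0 0 0 0 0 0 0 0 0 0 0 0 0 0 0 0 0 0 0 0 0 0 0 0 0) (@D3.rec (fun _ => Nat) 0 0 0 0 0 0 0 0 0 0 0 0 0 0 0 0 0 0 0 0 0 0 0 0 2510 0 0 0 0 0 0 0 0 0 0 0 0 0 0 0 0 0 0 0 0 0 0 0 0 0 0 0 0 0 0 0 0 0 0 0 0 0) z3_a (@D3.rec (fun _ => Nat) 0 0 0 0 0 0 0 0 0 0 0 0 0 0 0 0 0 0 0 0 0 0 0 0 0 0 0 0 0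 0 0 0 0 0 0 0 0 0 0 0 0 0 0 0 0 0 0 0 0 0 473 0 0 0 0 0 0 0 0 0 0 0) z3_a (@D3.rec (fun _ => Nat) 0 0 0 0 0 0 0 0 0 0 0 0 0 0 0 0 0 0 0 0 0 0 362 0 0 0 0 0 0 0 0 0 0 0 0 0 0 0 0 0 0 0 0 0 0 0 0 0 0 0 0 0 0 0 0 0 0 0 0 0 0 0) z3_a z3_a z3_a z3_a z3_a z3_a z3_a z3_a (@D3.rec (fun _ => Nat) 0 0 0 0 0 0 0 0 0 0 0 0 0 0 0 0 0 0 0 0 0 0 0 0 0 0 0 0 0 0 0 0 0 0 0 0 0 0 0 0 0 0 0 0 0 0 0 0 0 0 0 0 0 0 0 0 0 314 0 0 0 0) (@D3.rec (fun _ => Nat) 0 0 0 0 0 0 0 0 0 0 0 0 0 0 0 0 0 0 0 0 0 0 0 0 0 0 0 0 0 0 0 0 0 0 0 0 0 0 0 0 0 0 0 0 0 0 0 0 0 0 0 0 0 0 0 0 0 0 0 0 0 1317) (@D3.rec (fun _ => Nat) 0 0 0 0 0 0 0 0 0 0 0 0 0 0 0 0 0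 0 0 0 0 0 0 0 0 0 0 0 0 0 0 0 0 0 0 0 0 0 0 0 0 0 0 791 0 0 0 0 0 0 0 0 0 0 0 0 0 0 0 0 0 0) (@D3.rec (fun _ => Nat) 0 0 0 0 0 0 0 0 0 0 0 0 0 0 0 0 1159 0 0 0 0 0 0 0 0 0 0 0 0 0 0 0 0 0 0 0 0 0 0 0 0 0 0 0 0 0 0 0 0 0 0 0 0 0 0 0 0 0 0 0 0 0) (@D3.rec (fun _ => Nat) 0 0 0 0 0 0 0 0 0 0 0 0 0 0 0 0 0 0 0 0 0 0 0 0 0 0 0 0 0 0 0 0 0 0 0 0 0 0 0 0 0 0 0 0 0 0 0 0 0 0 3094 0 0 0 0 0 0 0 0 0 0 0) z3_a (@D3.rec (fun _ => Nat) 0 0 0 0 0 0 0 0 0 0 0 0 0 0 0 0 0 0 0 0 0 0 0 0 0 0 0 0 0 0 0 0 0 0 0 0 0 0 0 0 0 0 0 0 0 0 0 0 0 0 0 1267 0 0 0 0 0 0 0 0 0 0) z3_a (@D3.rec (fun _ => Nat) 0 0 0 0 0 0 0 0 0 0 0 0 0 476 0 0 0 0 729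 0 0 0 0 0 0 0 0 0 0 0 0 0 0 0 1157 0 0 0 0 0 0 0 0 0 0 0 0 0 0 0 0 0 0 0 0 0 0 0 0 0 0 0) (@D3.rec (fun _ => Nat) 0 0 0 0 0 0 0 720 0 0 0 0 0 0 0 0 0 0 0 1158 0 0 0 0 472 0 0 0 0 0 0 0 0 0 0 0 749 0 0 0 0 0 0 0 0 0 0 0 0 0 0 0 0 0 0 0 0 1279 0 0 0 0) (@D3.rec (fun _ => Nat) 0 0 0 0 0 0 0 0 0 0 0 0 0 0 0 0 0 0 0 0 0 0 0 0 0 0 0 0 0 0 1156 0 0 0 0 0 0 0 0 0 0 0 0 0 0 0 0 0 0 0 0 0 0 0 0 0 0 0 0 0 0 0) z3_a (@D3.rec (fun _ => Nat) 0 0 0 0 0 0 0 0 0 0 0 0 0 0 0 0 0 0 0 0 0 0 0 0 0 0 0 0 0 0 0 0 0 1363 0 0 0 0 0 0 0 0 708 0 0 0 0 0 0 0 0 0 0 0 0 0 0 0 0 727 0 0) z3_a z3_a (@D3.rec (fun _ => Nat) 0 0 0 0 0 0 0 0 0 0 0 0 0 0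 0 0 0 0 0 0 0 0 0 0 580 0 0 0 0 1247 0 0 0 0 0 0 0 0 0 0 0 0 0 0 0 0 0 0 0 0 0 0 0 0 0 0 0 0 0 0 0 0) (@D3.rec (fun _ => Nat) 0 0 0 0 0 0 1089 0 0 0 0 0 0 0 0 0 0 0 0 0 0 0 0 0 0 0 0 0 0 0 0 0 0 0 0 0 0 0 0 0 0 0 0 0 0 0 0 0 0 0 0 0 0 0 0 0 0 0 0 0 0 0) (@D3.rec (fun _ => Nat) 0 1341 0 0 0 0 0 0 0 0 0 0 0 0 0 0 574 0 0 0 0 0 0 0 0 0 0 0 0 0 0 0 0 0 0 0 0 0 0 0 0 0 0 0 0 0 0 0 0 0 0 0 0 0 0 0 0 0 0 0 0 0) (@D3.rec (fun _ => Nat) 0 0 0 0 0 0 347 0 0 0 0 0 0 0 0 0 0 0 0 0 0 0 0 0 0 0 0 0 0 0 0 0 0 0 0 0 0 0 0 0 0 0 0 0 0 0 0 0 0 0 0 0 0 0 0 0 0 0 0 0 0 0) z3_a (@D3.rec (fun _ => Nat) 0 0 0 0 0 0 0 0 0 0 0 0 0 0 0 0 0 0 0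 0 1104 0 0 0 0 0 0 0 0 0 0 0 0 0 0 0 0 0 0 0 0 1115 0 0 0 0 0 0 0 0 0 0 0 0 0 0 1423 247 0 0 0 0) (@D3.rec (fun _ => Nat) 0 1334 0 0 0 0 0 0 0 0 0 0 0 0 0 0 0 0 0 0 0 0 0 0 0 0 0 0 0 0 0 0 0 0 0 0 0 0 0 0 0 0 0 0 0 0 0 0 0 0 0 0 0 0 1339 0 0 0 0 0 0 0) z3_a (@D3.rec (fun _ => Nat) 0 0 0 0 0 0 0 0 0 0 0 0 0 0 0 1387 0 0 0 0 0 0 0 0 0 0 0 0 0 0 0 0 0 0 0 0 0 0 0 0 748 0 0 0 0 745 0 0 0 0 0 0 0 0 0 0 0 0 0 0 0 0) z3_a z3_a z3_a (@D3.rec (fun _ => Nat) 0 0 0 0 0 0 0 0 0 0 0 0 0 0 0 0 0 0 0 0 0 962 0 0 0 0 0 0 0 0 0 0 0 0 0 0 0 0 0 0 0 0 0 0 0 0 0 0 0 0 0 0 0 0 0 0 0 0 0 0 0 0) z3_a (@D3.rec (fun _ => Nat) 0 0 0 0 0 0 0 0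 0 0 0 0 0 0 0 0 0 1186 0 0 0 0 0 0 0 0 0 0 0 0 0 0 0 0 0 0 0 0 0 0 0 0 0 0 0 0 0 0 0 0 0 0 0 0 0 0 0 0 0 0 0 0) (@D3.rec (fun _ => Nat) 0 0 0 0 0 0 0 0 0 0 0 0 0 0 0 0 0 0 0 0 0 0 0 0 0 0 0 0 0 0 0 0 0 0 0 0 0 0 0 0 0 0 0 0 0 0 1324 0 0 0 0 0 0 0 0 0 0 0 0 0 0 0) z3_a z3_a z3_a z3_a z3_a (@D3.rec (fun _ => Nat) 0 0 0 0 0 0 0 0 0 0 0 0 0 0 0 0 0 0 0 0 0 0 0 0 0 503 0 0 0 0 0 0 0 0 0 0 0 0 0 0 0 0 0 0 0 0 0 0 0 0 0 0 0 0 0 0 0 0 0 0 0 0) z3_a z3_a z3_a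
def sd_a_7 : D2 → D3 → Nat := @D2.rec (fun _ => D3 → Nat) z3_a (@D3.rec (fun _ => Nat) 0 0 0 0 0 0 0 0 0 0 0 0 0 0 0 0 0 0 0 0 0 0 0 0 0 0 0 0 0 0 0 0 0 0 0 0 0 0 0 0 0 0 1788 0 0 0 0 0 0 0 0 0 0 0 0 0 0 0 0 0 0 0) z3_a z3_a z3_a z3_a z3_a z3_a z3_a z3_a (@D3.rec (fun _ => Nat) 0 0 0 0 0 0 0 0 0 0 0 0 0 0 0 430 0 0 0 0 0 0 0 0 0 0 0 0 0 0 0 0 0 0 0 0 0 0 414 0 0 0 0 0 0 0 0 0 0 0 0 0 0 0 0 0 0 0 0 0 520 0) (@D3.rec (fun _ => Nat) 0 0 0 0 0 0 0 0 0 0 0 597 0 0 0 0 0 0 0 0 0 0 0 0 0 0 0 0 0 0 0 0 0 0 0 0 0 0 0 0 0 0 0 0 0 0 0 0 0 0 0 0 0 0 0 0 0 0 0 0 0 0) z3_a z3_a z3_a z3_a (@D3.rec (fun _ => Nat) 0 0 0 0 0 0 0 0 0 2004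 0 0 0 0 0 0 0 0 0 0 0 0 0 0 0 0 0 0 0 0 0 0 0 0 0 0 0 0 0 0 0 0 0 0 0 0 0 0 0 0 0 0 0 0 0 0 0 0 0 0 0 0) z3_a z3_a (@D3.rec (fun _ => Nat) 0 237 0 0 0 0 0 0 0 0 0 0 0 0 0 0 0 0 0 0 0 0 0 0 0 0 0 0 0 0 0 0 0 0 0 0 0 0 0 0 0 0 0 0 0 0 0 0 0 0 0 0 0 0 0 0 0 0 0 0 0 0) z3_a z3_a z3_a (@D3.rec (fun _ => Nat) 0 0 0 0 0 0 0 0 0 0 0 0 0 0 0 0 0 0 0 0 0 0 0 0 0 0 0 0 0 0 0 0 0 0 0 2828 0 0 0 0 0 0 0 0 0 0 0 0 0 0 0 0 0 0 0 0 0 0 0 0 0 0) z3_a z3_a z3_a z3_a z3_a z3_a z3_a z3_a (@D3.rec (fun _ => Nat) 0 0 0 0 0 0 0 0 0 0 0 0 0 0 0 0 0 0 0 0 0 0 0 482 0 0 0 0 0 0 0 0 0 1550 0 0 0 0 0 0 0 0 0 0 0 0 0 0 0 0 0 0 0 0 0 0 0 0 0 0 0 0)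 z3_a z3_a z3_a z3_a z3_a z3_a (@D3.rec (fun _ => Nat) 0 0 0 0 0 0 0 0 489 0 0 0 0 0 0 0 0 0 0 0 0 0 0 0 0 0 0 0 0 0 0 0 0 0 0 0 0 0 0 0 0 0 0 0 0 0 0 0 0 0 0 0 0 0 0 0 0 0 0 0 0 0) z3_a z3_a z3_a (@D3.rec (fun _ => Nat) 0 0 0 0 0 0 0 0 0 0 0 0 0 0 0 0 0 0 0 0 0 0 0 0 0 0 0 0 0 0 0 0 0 0 0 0 0 0 0 0 0 0 0 0 0 0 0 0 0 0 0 0 0 0 0 0 0 0 0 1767 0 0) (@D3.rec (fun _ => Nat) 0 0 0 0 0 0 0 0 0 0 0 0 0 0 0 0 0 0 0 0 0 0 0 0 0 0 0 0 0 0 0 0 0 0 0 0 0 0 0 0 0 0 0 0 0 0 0 0 1761 0 0 0 0 0 0 0 0 0 0 0 0 0) z3_a z3_a z3_a (@D3.rec (fun _ => Nat) 0 0 0 0 0 0 0 0 0 0 0 0 0 0 0 0 0 0 0 0 0 0 0 0 0 0 0 0 0 0 0 0 0 0 0 0 0 0 233 0 0 0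 0 0 0 0 0 0 0 0 0 0 0 0 0 0 0 0 0 0 0 0) z3_a (@D3.rec (fun _ => Nat) 0 0 0 0 0 0 0 0 0 0 0 0 0 0 0 0 0 0 0 0 0 0 0 0 0 0 0 0 0 0 0 0 0 0 1639 0 0 0 0 0 0 0 0 0 0 0 0 0 0 0 0 0 0 0 0 0 0 0 0 0 0 0) z3_a (@D3.rec (fun _ => Nat) 0 0 0 0 0 0 0 0 0 0 0 0 0 0 0 0 0 0 0 0 0 0 0 0 0 0 0 0 0 0 0 0 0 0 0 0 0 0 0 0 0 0 0 0 0 0 0 0 0 0 0 0 485 0 0 0 0 0 0 0 0 0) z3_a z3_a z3_a z3_a z3_a z3_a z3_a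
def sd_a_8 : D2 → D3 → Nat := @D2.rec (fun _ => D3 → Nat) z3_a z3_a z3_a z3_a z3_a z3_a z3_a z3_a (@D3.rec (fun _ => Nat) 0 0 0 0 0 0 0 0 0 0 0 0 0 0 0 0 0 0 0 0 0 0 0 0 0 0 0 0 0 0 0 0 0 0 0 0 0 0 0 0 0 0 0 0 0 0 0 0 0 0 0 601 0 0 0 0 0 0 0 0 0 0) z3_a z3_a z3_a (@D3.rec (fun _ => Nat) 0 0 0 0 0 0 0 0 0 0 0 0 0 0 0 0 0 0 0 0 0 0 0 0 0 0 0 0 0 0 0 0 0 0 0 0 0 0 0 0 0 0 0 0 0 0 0 0 0 0 0 3014 0 0 0 0 0 0 0 0 0 0) z3_a z3_a z3_a z3_a z3_a z3_a (@D3.rec (fun _ => Nat) 628 0 0 0 0 0 0 0 0 0 0 0 0 0 0 0 0 0 0 0 0 0 0 0 0 0 0 0 0 0 0 0 0 0 0 0 0 0 0 0 0 0 0 0 0 0 0 0 0 0 0 0 0 0 0 0 0 0 0 0 0 0) z3_a z3_a z3_a z3_a z3_a z3_a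 z3_a z3_a z3_a z3_a z3_a z3_a z3_a z3_a z3_a z3_a z3_a z3_a z3_a z3_a z3_a z3_a z3_a z3_a z3_a z3_a z3_a z3_a z3_a (@D3.rec (fun _ => Nat) 0 0 0 0 0 0 0 0 0 0 0 0 0 0 0 0 0 0 0 0 0 0 0 0 0 0 0 0 0 0 0 0 0 0 0 0 0 0 0 0 0 1884 0 0 0 0 0 0 0 0 0 0 0 0 0 0 0 0 0 0 0 0) z3_a z3_a z3_a z3_a (@D3.rec (fun _ => Nat) 0 0 0 0 0 0 0 0 0 0 0 874 0 0 0 0 0 0 0 0 0 0 0 0 0 0 0 0 0 0 0 0 0 0 0 0 0 0 0 0 0 0 0 0 0 0 0 0 0 0 0 0 0 0 0 0 0 0 0 0 0 0) z3_a z3_a z3_a (@D3.rec (fun _ => Nat) 0 0 0 0 0 0 0 0 0 0 0 0 0 0 0 0 0 0 0 0 0 0 0 0 0 0 0 0 0 0 0 0 0 0 0 0 0 0 0 0 0 0 0 0 0 0 0 0 0 0 0 0 0 0 0 0 0 2129 0 0 0 0) (@D3.rec (fun _ => Nat)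 0 0 0 0 0 0 0 0 0 0 0 0 0 0 0 0 0 0 0 0 0 0 0 0 0 0 0 0 0 0 0 0 0 0 0 0 0 0 0 0 0 0 0 0 0 863 0 0 0 0 0 0 0 0 0 0 0 0 0 0 0 0)
def sd_a_9 : D2 → D3 → Nat := @D2.rec (fun _ => D3 → Nat) z3_a (@D3.rec (fun _ => Nat) 0 0 0 0 0 0 0 0 0 0 0 0 0 0 0 0 0 0 0 0 0 0 0 0 0 0 0 0 0 0 0 0 0 0 0 0 0 1866 0 0 0 0 0 0 0 0 0 0 0 0 0 0 0 0 0 0 0 0 0 0 0 0) (@D3.rec (fun _ => Nat) 0 0 0 0 0 0 0 0 0 0 0 0 0 0 0 0 0 0 1868 0 0 0 0 0 0 0 0 0 0 0 0 0 0 0 0 0 0 0 0 0 0 0 0 0 0 0 0 0 0 0 0 0 0 0 935 0 0 0 0 0 0 0) z3_a (@D3.rec (fun _ => Nat) 0 0 0 0 0 0 0 0 0 0 0 0 0 0 0 0 0 0 0 0 0 0 0 0 0 0 0 0 0 0 0 0 0 0 0 0 0 2192 0 0 0 0 0 0 0 0 0 0 0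 0 0 0 0 0 0 0 0 0 0 0 0 0) (@D3.rec (fun _ => Nat) 0 0 0 0 0 0 0 0 0 0 0 0 0 0 0 0 0 0 0 0 1869 0 0 0 0 0 907 0 0 0 0 0 0 0 1881 0 0 982 0 0 0 0 0 2071 0 0 0 0 0 0 0 0 0 0 0 0 0 0 0 0 0 649) z3_a z3_a (@D3.rec (fun _ => Nat) 0 0 0 0 0 0 0 0 0 0 0 0 0 0 0 0 2228 0 0 0 0 0 0 0 0 0 0 0 0 0 0 0 0 0 0 0 0 0 0 0 0 0 0 0 0 0 0 0 0 0 0 0 0 0 0 0 0 0 0 0 0 0) z3_a z3_a (@D3.rec (fun _ => Nat) 0 0 0 0 0 0 0 0 0 0 0 1027 0 0 0 0 0 0 0 0 0 0 0 0 0 0 0 0 0 0 0 0 0 0 0 0 0 0 0 0 0 0 0 0 0 0 0 0 0 0 0 0 0 0 0 0 0 0 0 0 0 0) z3_a (@D3.rec (fun _ => Nat) 0 0 0 0 0 0 0 0 0 0 0 0 0 0 0 0 0 0 0 0 0 0 0 0 0 0 0 0 0 1986 0 0 0 0 0 0 0 0 0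 0 0 0 0 0 0 0 0 0 0 0 0 0 0 0 0 0 0 0 0 0 0 0) z3_a (@D3.rec (fun _ => Nat) 0 0 0 0 0 0 0 0 0 0 0 0 0 0 0 0 0 0 0 0 0 0 0 0 0 0 0 0 0 0 0 0 0 0 0 0 0 0 0 0 0 0 0 0 0 0 0 0 0 0 0 1367 0 0 0 0 0 0 0 0 0 0) (@D3.rec (fun _ => Nat) 0 0 0 0 0 0 0 0 0 0 0 0 0 0 0 0 0 0 0 0 0 0 0 0 0 0 0 0 0 0 0 0 0 0 0 0 0 0 0 0 0 0 0 0 0 0 0 0 0 0 0 0 0 684 0 0 0 0 0 0 0 0) (@D3.rec (fun _ => Nat) 0 0 0 0 0 0 0 0 0 0 0 0 0 0 0 0 0 0 0 0 0 0 0 0 0 0 0 0 0 0 0 0 0 0 0 0 0 0 0 0 0 0 0 0 0 0 0 0 0 0 0 0 0 0 0 0 0 0 0 0 2268 0) (@D3.rec (fun _ => Nat) 0 0 0 0 0 0 1146 0 0 0 0 0 0 0 0 0 0 0 0 0 0 0 0 0 0 0 0 0 0 0 0 0 0 0 0 0 0 0 0 0 0 0 0 0 0 0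 0 0 0 0 0 0 0 0 0 0 0 0 0 0 0 0) (@D3.rec (fun _ => Nat) 0 0 0 0 0 0 0 0 0 0 0 0 0 0 0 0 0 0 0 0 0 0 0 0 0 0 0 0 0 0 0 0 0 0 0 0 0 0 0 0 0 0 0 0 0 0 0 0 0 0 0 0 0 0 0 674 0 0 0 0 0 0) (@D3.rec (fun _ => Nat) 0 0 0 0 0 0 0 0 0 0 0 0 0 0 0 0 0 0 0 0 0 0 0 0 0 0 0 0 0 0 0 0 0 0 0 0 0 0 1318 0 0 0 1286 0 0 0 0 0 0 0 0 0 0 0 0 0 0 0 0 0 0 0) (@D3.rec (fun _ => Nat) 0 0 0 0 0 0 0 0 0 0 0 0 0 0 0 0 0 0 0 0 0 0 0 0 0 0 0 0 0 0 0 0 0 0 0 0 0 0 0 0 0 0 0 0 0 1184 0 0 0 0 0 0 0 0 0 0 0 0 0 0 0 0) (@D3.rec (fun _ => Nat) 0 0 0 0 0 0 0 0 0 0 0 0 0 0 0 0 0 0 0 0 0 0 0 0 0 0 0 0 0 0 0 0 0 0 0 0 0 0 0 0 0 0 0 0 0 0 0 0 0 0 0 0 0 0 0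 0 0 1314 0 0 0 0) z3_a (@D3.rec (fun _ => Nat) 0 0 0 0 0 0 0 0 0 0 0 0 0 0 0 0 0 0 0 0 0 0 0 1969 0 0 0 0 0 0 0 0 0 0 0 0 0 0 0 0 0 0 0 0 0 0 0 0 0 0 0 0 0 0 0 0 0 0 0 0 0 0) z3_a (@D3.rec (fun _ => Nat) 0 0 0 0 0 0 0 0 0 0 0 0 0 1504 0 0 0 0 0 0 0 0 0 0 0 0 0 0 0 0 0 0 0 0 0 0 0 0 0 0 0 0 0 0 0 0 0 0 0 0 0 0 0 0 0 0 0 0 0 0 0 0) z3_a z3_a (@D3.rec (fun _ => Nat) 0 0 0 0 0 0 0 0 0 0 0 1242 0 0 0 0 0 0 0 0 0 0 0 1349 0 0 0 0 0 0 0 0 0 0 0 0 0 0 0 0 0 0 0 0 0 0 0 0 0 0 0 0 0 0 0 0 0 0 0 0 0 0) z3_a (@D3.rec (fun _ => Nat) 0 0 0 0 0 0 0 0 0 0 0 0 0 0 0 0 0 1985 0 0 0 0 0 0 0 0 0 0 0 0 0 0 0 0 0 0 0 0 0 0 0 0 0 0 0 0 0 0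 0 0 0 0 0 0 0 0 0 0 0 0 0 0) (@D3.rec (fun _ => Nat) 0 0 0 0 0 1968 0 2379 0 0 0 0 0 0 0 0 0 0 0 0 0 0 0 0 0 0 0 0 0 0 0 0 0 0 0 0 0 0 0 0 0 0 0 0 0 0 0 0 0 0 0 0 0 0 0 0 0 0 0 0 0 0) z3_a z3_a z3_a z3_a z3_a z3_a z3_a z3_a (@D3.rec (fun _ => Nat) 0 0 0 0 891 0 0 0 0 0 0 0 0 0 0 0 0 0 0 0 0 0 0 0 0 0 0 0 0 0 0 0 0 0 0 0 0 0 0 0 0 0 0 0 0 0 0 0 0 0 0 0 0 0 0 0 0 0 0 0 0 0) z3_a z3_a z3_a (@D3.rec (fun _ => Nat) 0 0 0 0 0 0 0 0 0 0 0 0 0 0 0 0 0 0 0 0 0 0 0 0 0 0 0 0 0 0 0 0 0 0 0 0 0 0 0 0 0 0 0 0 0 0 0 0 0 0 0 0 0 2088 0 0 0 0 0 0 0 0) z3_a z3_a (@D3.rec (fun _ => Nat) 0 0 0 0 0 0 0 0 0 0 0 0 0 0 0 1003 0 0 0 0 0 0 0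 0 0 0 0 0 0 0 0 0 0 0 0 0 0 0 0 0 0 0 0 0 0 0 0 0 0 0 0 0 0 0 0 0 0 0 0 0 0 0) (@D3.rec (fun _ => Nat) 0 1967 0 0 0 0 0 0 0 0 0 0 0 0 0 0 0 0 0 0 0 0 0 0 0 0 0 0 0 0 0 0 0 0 0 0 0 0 0 0 0 0 0 0 0 0 0 0 0 0 0 0 0 0 0 0 0 0 0 0 0 0) (@D3.rec (fun _ => Nat) 0 0 0 0 0 0 0 0 0 0 0 0 0 0 0 0 0 0 0 0 0 0 0 0 0 0 0 0 0 0 0 0 0 0 0 0 0 0 0 0 0 0 0 0 0 0 0 0 0 0 0 0 0 0 0 980 0 0 0 0 0 0) z3_a z3_a z3_a z3_a (@D3.rec (fun _ => Nat) 0 0 0 0 0 0 0 0 0 0 0 0 0 0 0 0 0 0 0 0 0 0 0 0 0 0 0 0 0 0 0 0 0 0 0 0 0 0 0 0 0 0 0 2452 0 0 0 0 0 0 0 0 0 0 0 0 0 0 0 0 0 0) z3_a z3_a z3_a z3_a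
def sd_a_10 : D2 → D3 → Nat := @D2.rec (fun _ => D3 → Nat) z3_a z3_a z3_a (@D3.rec (fun _ => Nat) 0 0 0 0 0 0 0 0 0 0 0 0 0 0 0 0 0 0 0 0 0 0 0 0 0 0 0 0 0 0 0 0 0 0 0 0 0 0 0 0 0 0 0 0 0 0 0 0 0 0 0 0 0 0 0 0 0 0 0 0 0 1082) z3_a (@D3.rec (fun _ => Nat) 0 0 0 0 0 0 0 0 0 0 0 0 0 0 0 0 0 0 0 0 0 0 0 0 0 0 0 0 0 0 0 0 0 0 0 0 0 0 0 0 0 0 0 0 0 0 0 0 0 0 0 0 0 0 0 0 0 0 0 0 0 949) (@D3.rec (fun _ => Nat) 0 0 0 0 0 0 0 0 0 0 0 0 0 0 0 0 0 0 0 0 0 0 0 0 0 0 0 0 0 0 0 0 0 0 0 0 0 0 0 0 0 0 0 0 0 0 0 0 0 2422 0 0 0 0 0 0 0 0 0 0 0 0) z3_a z3_a z3_a (@D3.rec (fun _ => Nat) 0 0 0 0 0 0 0 0 0 0 0 0 0 0 0 0 0 0 0 0 0 0 0 2459 0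 0 0 0 0 0 0 0 0 0 0 0 0 0 0 0 0 0 0 0 0 0 0 0 0 0 0 0 0 0 0 0 0 0 0 0 0 0) z3_a z3_a (@D3.rec (fun _ => Nat) 0 0 0 0 0 0 0 0 0 0 0 0 0 0 0 0 0 0 0 0 0 0 0 0 0 0 0 0 0 0 0 2534 0 0 0 0 0 0 0 0 0 0 0 0 0 0 0 0 0 0 0 0 0 0 0 0 0 0 0 0 0 0) z3_a z3_a z3_a (@D3.rec (fun _ => Nat) 0 0 0 0 0 0 0 0 0 0 0 0 0 0 0 0 0 0 0 0 0 0 0 0 0 0 0 2241 0 0 0 0 0 0 0 0 0 0 0 0 0 0 0 0 0 0 0 0 0 0 0 0 0 0 0 0 0 0 0 0 0 0) (@D3.rec (fun _ => Nat) 0 0 0 0 0 0 0 0 0 0 0 0 0 0 0 0 0 0 0 0 0 0 0 0 0 0 0 0 0 0 0 0 1066 0 0 0 0 0 0 0 0 0 0 0 0 0 0 0 0 0 0 0 0 0 0 0 0 0 0 0 0 0) z3_a z3_a z3_a (@D3.rec (fun _ => Nat) 0 0 0 0 0 0 0 0 0 0 0 0 0 0 0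 0 0 0 0 0 0 0 0 0 0 0 0 0 0 0 0 0 0 0 0 0 0 0 0 0 0 0 0 0 0 0 0 0 0 0 0 0 0 2525 0 0 0 0 0 0 0 0) z3_a z3_a z3_a z3_a z3_a z3_a z3_a z3_a z3_a z3_a z3_a z3_a z3_a z3_a z3_a z3_a z3_a z3_a (@D3.rec (fun _ => Nat) 0 0 0 0 0 0 0 0 0 0 0 0 0 0 0 0 0 0 0 880 0 0 0 0 0 0 0 0 0 0 0 0 0 0 0 0 0 0 0 0 0 0 0 0 0 0 0 0 0 0 0 0 0 0 0 0 0 0 0 0 0 0) z3_a z3_a (@D3.rec (fun _ => Nat) 0 0 0 0 0 0 0 0 0 0 0 0 0 0 0 0 0 0 2552 0 0 0 0 0 0 0 0 0 0 0 0 0 0 0 0 0 0 0 0 0 0 0 0 0 0 0 0 0 0 0 0 0 0 0 0 0 0 0 0 0 0 0) z3_a z3_a z3_a z3_a z3_a z3_a z3_a z3_a z3_a z3_a (@D3.rec (fun _ => Nat) 0 0 0 0 0 0 0 0 0 0 0 0 0 0 0 0 0 0 0 0 0 0 0 0 0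 0 0 0 0 0 0 0 0 0 0 0 0 0 0 0 0 0 0 0 0 0 0 0 2654 0 0 0 0 0 0 0 0 0 0 0 0 0) z3_a z3_a z3_a z3_a
def sd_a_11 : D2 → D3 → Nat := @D2.rec (fun _ => D3 → Nat) (@D3.rec (fun _ => Nat) 0 0 0 0 0 0 0 0 0 0 0 0 0 0 0 0 0 0 0 0 0 0 0 0 0 0 0 0 0 0 0 0 0 0 0 0 0 0 0 0 0 0 0 0 0 0 0 0 0 0 0 0 0 0 0 0 2630 0 0 0 0 0) z3_a z3_a z3_a z3_a z3_a z3_a z3_a z3_a z3_a z3_a z3_a (@D3.rec (fun _ => Nat) 0 0 0 0 0 0 0 0 0 0 0 0 0 0 0 0 0 0 0 0 0 0 0 0 0 0 0 0 0 0 0 1048 0 0 0 0 0 0 0 0 0 0 0 0 0 0 0 0 0 0 0 0 0 0 0 0 0 0 0 0 0 0) z3_a (@D3.rec (fun _ => Nat) 0 0 0 0 0 0 2779 0 0 0 0 0 0 0 0 0 0 0 0 0 0 0 0 0 0 0 0 0 0 0 0 0 0 0 0 0 0 0 0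 0 0 0 0 0 0 0 0 0 0 0 0 0 2189 0 0 0 0 0 0 0 0 0) z3_a z3_a z3_a z3_a z3_a z3_a z3_a z3_a z3_a z3_a z3_a z3_a (@D3.rec (fun _ => Nat) 0 0 0 0 0 0 0 0 0 0 0 0 0 0 0 0 0 2876 0 0 0 0 0 0 0 0 0 0 0 0 0 0 0 0 0 0 0 0 0 0 0 0 0 0 0 0 0 0 0 0 0 0 0 0 0 0 0 0 0 0 0 0) (@D3.rec (fun _ => Nat) 0 0 0 0 0 0 0 0 0 0 0 0 0 0 0 0 0 0 0 0 0 0 0 0 0 0 0 0 0 0 0 0 0 0 0 0 0 0 0 0 0 0 0 0 0 0 0 0 0 0 0 0 0 0 0 0 0 0 0 1890 0 0) (@D3.rec (fun _ => Nat) 0 0 0 0 0 0 0 0 0 0 0 0 0 0 0 0 0 0 0 0 0 0 0 0 0 0 0 0 0 0 0 0 0 0 0 0 0 0 0 0 0 0 0 0 2873 0 0 0 0 0 0 0 0 0 0 0 0 0 0 0 0 0) z3_a z3_a (@D3.rec (fun _ => Nat) 0 0 0 0 0 0 0 0 0 0 0 0 0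 0 0 0 0 0 0 0 0 0 0 0 0 0 0 0 0 0 0 0 0 0 0 0 0 0 0 0 0 0 0 0 0 0 0 0 0 0 0 2204 0 0 0 0 0 0 0 0 0 0) (@D3.rec (fun _ => Nat) 0 0 0 0 0 0 0 0 0 0 2378 0 0 0 0 0 0 0 0 0 0 0 0 0 0 0 0 0 0 0 0 0 0 0 0 0 0 0 0 0 0 0 0 0 0 0 0 0 0 0 0 0 0 0 0 0 0 0 0 0 0 0) (@D3.rec (fun _ => Nat) 0 0 0 0 0 0 0 0 0 0 0 0 0 0 0 0 0 0 0 0 0 0 0 0 0 0 0 0 0 0 0 0 0 0 0 0 0 0 0 0 0 0 0 0 0 0 0 0 0 0 0 0 0 0 0 0 0 0 776 0 0 0) (@D3.rec (fun _ => Nat) 0 0 0 0 0 0 0 0 0 0 0 0 0 0 0 0 0 2938 0 0 0 0 0 0 0 0 0 0 0 0 0 0 0 0 0 0 0 0 0 0 0 0 0 0 0 0 0 0 0 0 0 0 0 0 0 0 0 655 0 0 0 0) z3_a z3_a (@D3.rec (fun _ => Nat) 0 0 0 0 0 0 0 0 0 0 0 0 0 0 0 0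 0 0 0 0 0 0 0 0 0 1079 0 0 0 0 0 0 0 0 0 0 0 0 0 0 0 0 0 0 0 0 0 0 0 0 0 0 0 0 0 0 0 0 0 0 0 0) (@D3.rec (fun _ => Nat) 0 0 0 0 0 0 0 0 0 0 0 0 0 0 0 0 0 0 0 0 0 0 0 0 0 0 0 0 0 0 0 0 0 0 0 0 0 0 0 0 0 0 0 0 0 0 0 2205 0 0 0 0 0 0 0 0 0 0 0 0 0 0) z3_a z3_a (@D3.rec (fun _ => Nat) 0 0 0 0 0 0 0 0 0 0 0 0 0 0 0 0 0 0 0 0 0 0 0 0 0 0 0 0 0 0 0 0 0 0 0 0 0 0 0 0 0 0 0 0 0 0 0 0 0 0 0 0 0 0 0 2217 0 0 0 0 0 0) z3_a (@D3.rec (fun _ => Nat) 0 0 0 0 0 0 0 0 0 0 0 0 0 0 0 0 0 0 0 0 0 0 0 0 0 0 0 0 0 0 0 0 0 0 0 0 0 0 0 0 0 0 0 2971 0 0 0 0 0 0 0 0 0 0 0 2320 0 0 0 0 0 0) z3_a z3_a (@D3.rec (fun _ => Nat) 0 0 0 0 0 0 0 0 0 0 0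 0 0 0 0 2967 0 0 0 0 0 0 0 0 0 0 0 0 0 0 0 2853 0 0 0 0 0 0 0 0 0 0 0 0 0 0 0 0 0 0 0 0 0 0 0 0 0 0 0 0 0 0) (@D3.rec (fun _ => Nat) 0 0 0 0 0 0 0 0 0 0 0 0 0 0 0 0 0 0 0 0 0 0 0 0 0 0 0 0 2037 0 0 0 0 0 0 0 0 0 0 0 0 0 0 0 0 0 0 0 0 0 0 0 0 0 0 0 0 0 0 0 0 0) z3_a z3_a z3_a z3_a z3_a z3_a z3_a (@D3.rec (fun _ => Nat) 0 0 0 0 0 0 0 0 0 0 2466 0 0 0 0 0 0 0 0 0 0 0 0 0 0 0 0 0 0 0 0 0 0 0 0 0 0 0 0 0 0 0 0 0 0 0 0 0 0 0 0 0 0 0 0 0 0 0 0 0 0 0) z3_a (@D3.rec (fun _ => Nat) 2960 0 0 0 0 0 0 0 0 0 0 0 0 0 0 0 0 0 0 0 0 0 0 0 0 0 0 0 0 0 0 0 0 0 0 0 0 0 0 0 0 0 0 0 0 0 0 0 0 0 0 0 0 0 0 0 0 0 0 0 0 0) (@D3.rec (fun _ => Nat)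 0 0 0 0 0 0 0 0 0 0 0 0 0 0 0 0 0 0 0 0 0 0 0 0 0 0 0 0 0 0 0 2154 0 0 0 0 0 0 0 0 0 0 0 0 0 0 0 0 0 0 0 0 0 0 0 0 0 0 0 0 0 0)
def sd_a_12 : D2 → D3 → Nat := @D2.rec (fun _ => D3 → Nat) z3_a z3_a z3_a (@D3.rec (fun _ => Nat) 0 0 0 0 0 0 0 0 0 0 0 0 0 0 0 0 0 0 0 0 0 0 0 0 0 0 0 0 0 0 0 0 0 0 994 0 0 0 0 0 0 0 0 0 0 0 0 0 0 0 0 0 0 0 0 0 0 0 0 0 0 0) z3_a z3_a z3_a z3_a z3_a z3_a z3_a (@D3.rec (fun _ => Nat) 0 0 0 0 0 0 0 0 0 0 0 0 0 0 0 0 0 0 0 0 0 0 0 0 0 0 0 0 2310 0 0 0 0 0 0 0 0 0 0 0 0 0 0 0 0 0 0 0 0 0 0 0 0 0 0 0 0 0 0 0 0 0) z3_a z3_a (@D3.rec (fun _ => Nat) 0 0 0 0 0 0 0 0 0 0 0 0 0 0 0 0 0 0 0 0 0 0 0 0 0 0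 0 0 1965 0 0 0 0 0 0 0 0 0 0 0 0 0 0 0 0 0 0 0 0 0 0 0 0 0 0 0 0 0 0 0 0 0) z3_a (@D3.rec (fun _ => Nat) 0 0 0 0 0 0 0 0 0 0 0 0 1192 0 0 0 0 0 0 0 0 0 0 0 0 0 0 0 0 0 0 0 0 0 0 0 0 0 0 0 0 0 0 0 0 0 0 0 0 0 0 0 0 0 0 0 0 0 0 0 0 0) z3_a (@D3.rec (fun _ => Nat) 0 0 0 0 0 0 0 0 0 0 0 0 0 0 0 0 0 0 0 0 0 0 0 0 0 0 0 0 0 0 0 0 0 0 0 0 0 1391 0 0 0 0 0 0 0 0 0 0 0 0 0 0 0 0 0 0 0 0 0 0 0 0) z3_a (@D3.rec (fun _ => Nat) 0 0 0 0 0 0 0 0 0 0 0 0 0 0 0 0 0 0 0 0 0 0 0 0 0 2389 0 0 0 0 0 0 0 0 0 0 0 0 0 0 0 0 0 0 0 0 0 0 0 0 0 0 0 0 0 0 0 0 0 0 0 0) z3_a z3_a z3_a z3_a z3_a (@D3.rec (fun _ => Nat) 0 0 0 0 0 0 0 0 0 0 0 0 0 0 0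 0 0 0 0 0 0 0 0 0 0 0 0 0 0 0 0 0 1210 0 0 0 0 0 0 0 0 0 0 0 0 0 0 0 0 0 0 0 0 0 0 0 0 0 0 0 0 0) z3_a z3_a z3_a z3_a (@D3.rec (fun _ => Nat) 1348 0 0 0 0 0 0 0 0 0 0 0 0 0 0 0 0 0 0 0 0 0 0 0 0 0 0 0 0 0 0 0 0 0 0 0 0 0 0 0 0 0 0 0 0 0 0 0 0 0 0 0 0 0 0 0 0 0 0 0 0 0) z3_a z3_a z3_a z3_a (@D3.rec (fun _ => Nat) 0 0 0 0 0 0 0 0 0 0 0 0 0 0 0 0 0 0 0 0 0 0 0 0 0 0 0 0 0 0 0 0 0 0 0 0 0 0 0 0 0 0 0 0 0 0 0 0 0 0 1412 0 0 0 0 0 0 0 0 0 0 0) (@D3.rec (fun _ => Nat) 0 0 0 0 0 0 0 0 0 0 0 1116 0 0 0 0 0 0 0 0 0 0 0 0 0 0 0 0 0 0 0 0 0 0 0 0 0 0 0 0 0 0 0 0 0 0 0 0 0 0 0 0 0 0 0 0 0 0 0 0 0 0) (@D3.rec (fun _ => Nat) 0 0 0 0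 0 0 0 0 0 0 0 0 0 0 0 0 0 0 0 0 0 1668 0 0 0 0 0 0 0 0 0 0 0 0 0 0 0 0 0 0 0 0 0 0 0 0 0 0 0 0 0 0 0 0 0 0 0 0 0 0 0 0) z3_a z3_a z3_a (@D3.rec (fun _ => Nat) 0 0 0 0 0 0 0 0 1415 0 0 0 0 0 0 0 0 0 0 0 0 0 0 0 0 0 0 0 0 0 0 0 0 0 0 0 0 0 0 0 0 0 0 0 0 0 0 0 0 0 0 0 0 0 0 0 0 0 0 0 0 0) (@D3.rec (fun _ => Nat) 0 0 0 0 0 0 0 0 0 0 3065 0 0 0 0 0 0 0 0 0 0 0 0 0 0 0 0 0 0 0 0 0 0 0 0 0 0 0 0 0 0 0 0 0 0 0 0 0 0 0 0 0 0 0 0 0 0 0 0 0 0 0) (@D3.rec (fun _ => Nat) 0 0 0 0 0 0 0 0 0 0 0 0 0 0 0 0 0 0 0 0 0 0 0 0 0 0 0 0 0 0 0 0 2988 0 0 0 0 0 0 0 0 0 0 0 0 0 0 0 0 0 0 0 0 0 0 0 0 0 0 0 0 0) z3_a z3_a z3_a z3_a z3_a (@D3.rec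 (fun _ => Nat) 0 0 0 0 0 0 0 0 0 0 0 0 0 0 0 0 0 0 0 0 0 0 0 0 0 0 0 0 0 0 0 0 0 0 0 2279 0 0 0 0 0 0 0 0 0 0 0 0 0 0 0 0 0 0 0 0 0 0 0 0 0 0) (@D3.rec (fun _ => Nat) 0 0 0 0 0 0 0 0 0 0 0 0 0 0 0 0 0 0 0 0 0 0 0 0 0 0 0 0 1496 0 0 0 0 0 0 0 0 0 0 0 0 0 0 0 0 0 0 0 0 0 0 0 0 0 0 0 0 0 0 0 0 0) z3_a z3_a z3_a (@D3.rec (fun _ => Nat) 0 0 0 0 0 0 0 0 0 0 0 0 0 0 0 0 0 0 0 0 0 0 0 0 0 0 0 2224 0 0 0 0 0 0 0 0 0 0 0 0 0 0 0 0 0 0 0 0 0 0 0 0 0 0 0 0 0 0 0 0 0 0) z3_a z3_a z3_a (@D3.rec (fun _ => Nat) 0 0 0 0 0 0 0 0 0 0 0 0 0 0 0 0 0 0 0 0 0 0 0 0 0 0 0 0 0 0 0 0 0 0 0 0 0 0 0 0 0 0 0 0 0 0 0 0 0 0 0 0 0 0 0 0 0 0 0 0 0 1209)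
def sd_a_13 : D2 → D3 → Nat := @D2.rec (fun _ => D3 → Nat) z3_a z3_a z3_a z3_a (@D3.rec (fun _ => Nat) 0 0 0 0 0 0 0 0 0 0 0 0 0 0 0 0 0 0 0 0 0 0 0 0 0 0 0 0 0 0 0 0 0 0 0 0 0 0 0 0 0 0 0 0 0 1920 0 0 0 0 0 0 0 0 0 0 0 0 0 0 0 0) (@D3.rec (fun _ => Nat) 0 0 0 0 0 0 0 0 0 0 0 0 0 0 0 0 0 0 0 0 0 0 0 0 0 0 0 0 0 0 0 0 0 0 0 0 0 0 0 0 1956 0 0 0 0 0 0 0 0 0 0 0 0 0 0 0 0 0 0 0 0 0) z3_a z3_a z3_a z3_a z3_a z3_a z3_a z3_a z3_a (@D3.rec (fun _ => Nat) 0 0 0 0 0 0 0 0 0 0 0 0 0 0 0 0 0 0 0 0 0 0 0 0 0 1921 0 0 0 0 0 0 0 0 0 0 0 0 0 0 0 0 0 0 0 0 0 0 0 0 0 0 0 0 0 0 0 0 0 0 0 0) (@D3.rec (fun _ => Nat) 0 0 0 0 0 0 0 2005 0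 0 0 0 0 0 0 0 0 0 0 0 0 0 0 0 0 0 0 0 0 0 0 0 0 0 0 0 0 0 0 0 0 0 0 0 0 0 0 0 0 0 0 0 0 0 0 0 0 0 0 0 0 0) (@D3.rec (fun _ => Nat) 0 0 0 0 0 0 0 0 0 0 0 0 0 0 0 0 0 0 0 0 0 0 0 0 0 0 0 0 0 0 0 0 0 0 0 0 1549 0 0 0 0 0 0 0 0 0 0 0 0 0 0 0 0 0 0 0 0 0 0 0 0 0) z3_a z3_a z3_a z3_a z3_a (@D3.rec (fun _ => Nat) 0 0 0 0 0 0 0 0 0 0 0 0 0 0 0 0 0 0 0 0 0 0 0 0 0 0 0 0 1562 0 0 0 0 0 0 0 0 0 0 0 0 0 0 0 0 0 0 0 0 0 0 0 0 0 0 0 1409 0 0 0 0 0) (@D3.rec (fun _ => Nat) 0 0 0 0 0 0 0 0 0 0 0 0 0 0 0 523 0 0 0 519 0 0 0 0 0 0 0 0 0 0 0 0 0 0 0 0 0 0 0 0 0 0 0 0 0 0 0 0 0 0 0 0 0 0 0 0 0 0 0 0 0 0) z3_a (@D3.rec (fun _ => Nat) 0 0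 0 1923 0 0 0 0 0 0 0 0 0 0 0 0 0 0 0 0 0 0 0 0 0 0 0 0 0 0 0 0 0 0 0 0 0 0 0 0 0 0 0 0 0 0 0 0 0 0 0 0 0 0 0 0 0 0 0 0 0 0) (@D3.rec (fun _ => Nat) 0 0 0 0 0 0 0 0 0 0 0 0 0 0 0 0 0 0 0 0 0 0 1596 0 0 0 0 0 0 0 0 0 0 0 0 0 0 0 0 0 0 0 0 0 0 0 0 0 0 0 0 0 0 0 0 0 0 0 0 0 0 0) z3_a z3_a z3_a z3_a z3_a (@D3.rec (fun _ => Nat) 0 0 0 0 0 0 0 0 0 0 0 0 0 1571 0 0 0 0 0 0 0 0 0 0 0 0 0 0 0 0 0 0 0 0 0 0 0 0 0 0 0 0 0 0 0 0 0 0 0 0 0 0 0 0 0 0 0 0 0 0 0 0) z3_a z3_a (@D3.rec (fun _ => Nat) 0 0 0 0 0 0 0 0 0 0 0 0 0 0 0 0 0 0 0 0 0 0 0 0 0 0 0 0 0 0 0 0 0 0 0 0 0 0 0 0 0 0 0 0 0 0 0 0 0 0 0 0 0 0 0 0 0 0 1833 0 0 0) (@D3.rec (fun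 _ => Nat) 0 0 0 0 0 0 0 0 0 0 0 0 0 0 0 0 0 0 0 0 0 0 0 0 0 0 0 0 0 1815 0 0 0 0 0 0 0 0 0 0 0 0 0 0 0 0 0 0 0 0 0 0 0 0 0 0 0 0 0 0 0 0) (@D3.rec (fun _ => Nat) 0 0 0 0 0 0 0 0 0 0 0 0 0 0 0 0 0 0 1591 0 0 0 0 0 0 0 0 0 0 0 0 0 0 0 0 0 0 0 0 0 0 0 0 0 0 0 0 0 0 0 0 0 0 0 0 0 0 0 0 0 0 0) z3_a z3_a z3_a (@D3.rec (fun _ => Nat) 0 0 0 0 0 0 0 0 0 0 0 0 0 0 0 0 0 0 0 0 0 0 0 1594 0 0 0 0 0 0 0 0 0 0 0 0 0 0 0 0 0 0 0 0 0 0 0 0 0 0 0 0 0 0 0 0 0 0 0 0 0 0) z3_a z3_a z3_a (@D3.rec (fun _ => Nat) 0 0 0 0 0 0 1524 0 0 0 0 0 0 0 0 0 0 0 0 0 0 0 0 0 0 0 0 0 0 0 0 0 0 0 0 0 0 0 0 1597 0 0 0 0 0 0 0 0 0 0 0 0 0 0 0 0 0 0 0 0 0 0)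 z3_a z3_a z3_a (@D3.rec (fun _ => Nat) 0 0 0 0 0 0 0 0 0 0 0 0 0 0 0 0 0 0 0 0 0 0 0 0 0 0 0 0 1617 0 0 0 0 0 0 0 0 0 0 0 0 0 0 0 0 0 0 0 0 0 0 0 0 0 0 0 0 0 0 0 0 0) z3_a z3_a z3_a (@D3.rec (fun _ => Nat) 0 0 0 0 0 0 0 0 0 0 0 0 0 0 0 0 0 0 0 0 0 0 0 0 0 0 0 0 0 0 0 0 0 0 0 0 0 0 0 0 0 0 1835 0 0 0 0 0 0 0 0 0 0 0 0 0 0 0 0 0 0 0) z3_a z3_a z3_a z3_a z3_a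
def sd_a_14 : D2 → D3 → Nat := @D2.rec (fun _ => D3 → Nat) (@D3.rec (fun _ => Nat) 0 0 0 0 0 0 0 0 0 0 0 0 0 0 0 0 0 0 0 0 0 0 0 0 0 0 0 0 0 0 0 0 0 0 0 0 0 0 0 0 0 0 0 0 0 0 0 0 0 0 1637 0 0 0 0 0 0 0 0 0 0 0) z3_a z3_a z3_a z3_a z3_a z3_a z3_a z3_a (@D3.rec (fun _ => Nat) 0 0 0 0 0 0 0 0 0 0 0 0 0 0 0 0 0 0 0 0 0 0 0 0 0 0 0 0 0 0 0 0 0 0 0 0 0 0 0 0 0 0 0 0 0 0 0 0 0 0 0 0 0 1652 0 0 0 0 0 0 0 0) z3_a (@D3.rec (fun _ => Nat) 0 0 0 0 0 0 0 0 0 0 1781 0 0 0 0 0 0 0 0 0 0 0 0 0 0 0 0 0 0 0 0 0 0 0 0 0 0 0 0 0 0 0 0 0 0 0 0 0 0 0 0 0 0 0 0 0 0 0 0 0 0 0) z3_a z3_a (@D3.rec (fun _ => Nat) 0 0 0 0 0 0 0 0 0 0 0 0 0 0 0 0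 0 0 0 0 0 0 0 0 0 1691 0 0 0 0 0 0 0 0 0 0 0 0 0 0 0 0 0 0 0 0 0 0 0 0 0 0 0 0 0 0 0 0 0 0 0 0) z3_a (@D3.rec (fun _ => Nat) 0 0 0 0 0 0 0 0 0 0 0 0 0 0 0 0 0 0 0 0 0 0 0 0 0 0 0 0 0 0 0 1700 0 0 0 0 0 0 0 0 0 0 0 0 0 0 0 0 0 0 0 0 0 0 0 0 0 0 0 0 0 1703) z3_a (@D3.rec (fun _ => Nat) 0 0 0 0 0 0 0 1709 0 0 0 0 0 0 0 0 0 0 0 0 0 0 0 0 0 0 0 0 0 0 0 0 0 0 0 0 0 0 0 0 0 0 0 0 0 0 1712 0 0 0 0 0 0 0 0 0 0 0 0 0 0 0) (@D3.rec (fun _ => Nat) 0 0 0 0 0 0 0 0 0 0 0 1714 0 0 0 0 0 0 0 0 0 0 0 1746 0 0 0 0 0 0 0 0 505 0 0 0 0 0 0 0 0 0 0 0 0 0 0 1694 0 0 0 0 0 0 0 0 0 0 0 0 0 0) z3_a z3_a z3_a z3_a z3_a z3_a z3_a z3_a z3_a z3_a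 z3_a (@D3.rec (fun _ => Nat) 0 0 0 0 0 0 0 0 0 0 0 0 0 0 0 0 0 0 0 0 0 0 0 0 0 0 0 0 0 0 0 0 0 0 0 0 1757 0 0 0 0 0 0 0 0 0 0 0 0 0 0 0 0 0 0 0 0 0 0 0 0 0) z3_a z3_a z3_a (@D3.rec (fun _ => Nat) 0 0 0 0 0 0 0 0 0 0 0 0 0 0 0 0 0 0 0 0 0 0 0 0 0 0 0 0 0 0 0 2880 0 0 0 0 0 0 0 0 0 0 0 0 0 0 0 0 0 0 0 0 0 0 0 0 0 0 0 0 0 0) z3_a (@D3.rec (fun _ => Nat) 0 0 0 0 0 0 0 0 0 0 0 0 0 0 0 0 0 0 0 0 0 0 0 0 0 0 0 0 0 0 0 0 0 0 0 0 0 0 0 0 0 0 0 0 0 0 0 0 0 0 0 0 0 0 1785 0 0 0 0 0 0 0) z3_a z3_a z3_a z3_a z3_a z3_a z3_a z3_a (@D3.rec (fun _ => Nat) 0 0 0 0 0 0 0 0 0 0 0 0 0 0 0 0 0 0 0 0 0 0 0 0 0 0 0 0 0 0 0 0 0 0 0 0 0 0 0 0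 0 0 0 0 0 0 0 0 0 0 0 0 0 0 2148 0 0 0 0 0 0 0) z3_a z3_a z3_a z3_a z3_a z3_a z3_a z3_a (@D3.rec (fun _ => Nat) 0 0 0 0 0 0 0 0 0 0 0 0 0 0 0 0 0 0 0 0 0 0 0 0 0 0 0 0 0 0 0 0 0 0 0 0 0 0 1852 0 0 0 0 0 0 0 0 0 0 0 0 0 0 0 0 0 0 0 0 0 0 0) z3_a z3_a z3_a z3_a
def sd_a_15 : D2 → D3 → Nat := @D2.rec (fun _ => D3 → Nat) z3_a z3_a z3_a (@D3.rec (fun _ => Nat) 0 0 0 0 0 0 0 0 0 0 0 0 0 0 0 0 0 0 0 0 0 0 0 0 0 0 0 0 0 0 0 0 0 0 0 0 0 2670 0 0 0 0 0 0 0 0 0 0 0 0 0 0 0 0 0 0 0 0 0 0 0 0) z3_a (@D3.rec (fun _ => Nat) 0 0 2032 0 0 0 0 0 0 0 0 0 0 0 0 0 0 0 0 0 0 0 0 0 0 0 0 0 0 0 0 0 0 0 0 0 0 0 0 0 0 0 0 0 0 0 0 0 0 2150 0 0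 0 0 0 0 0 0 0 0 0 0) z3_a z3_a z3_a z3_a z3_a (@D3.rec (fun _ => Nat) 0 0 0 0 0 0 2602 0 0 0 0 0 0 0 0 0 0 0 0 0 0 0 0 0 0 0 0 0 0 0 0 0 0 0 0 0 0 0 0 0 0 0 0 0 0 0 0 0 0 0 0 0 0 0 0 0 0 0 0 0 0 0) z3_a z3_a z3_a z3_a z3_a z3_a z3_a z3_a z3_a z3_a z3_a z3_a z3_a (@D3.rec (fun _ => Nat) 0 0 0 0 0 0 0 0 0 0 0 0 2682 0 0 0 0 0 0 0 0 0 0 0 0 0 0 0 0 0 0 0 0 0 0 0 0 0 0 0 0 0 0 0 0 0 0 0 0 0 0 0 0 0 0 0 0 0 0 0 0 0) z3_a z3_a z3_a z3_a (@D3.rec (fun _ => Nat) 0 0 0 0 0 0 0 0 0 0 0 0 0 0 0 0 0 0 0 0 0 0 0 0 0 0 0 0 0 0 0 0 0 0 0 0 0 0 0 0 0 0 0 0 0 2714 0 0 0 0 0 0 0 0 0 0 0 0 0 0 0 0) z3_a z3_a z3_a z3_a z3_a z3_a z3_a z3_a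 z3_a z3_a z3_a z3_a (@D3.rec (fun _ => Nat) 0 0 0 0 0 0 0 0 0 2094 0 0 2116 0 0 0 0 0 0 0 0 0 0 0 0 0 0 0 0 0 0 0 0 0 0 0 0 0 0 0 0 0 0 0 0 0 0 0 0 0 0 0 0 0 0 0 0 0 0 0 0 0) z3_a z3_a z3_a (@D3.rec (fun _ => Nat) 0 0 0 0 0 0 0 0 0 0 0 0 0 0 0 0 0 0 0 0 0 0 0 0 0 0 0 0 0 0 0 0 0 0 0 2105 0 0 0 0 0 0 0 0 0 0 0 0 0 0 0 0 0 0 0 0 0 0 0 0 0 0) z3_a z3_a z3_a z3_a z3_a z3_a z3_a z3_a z3_a z3_a z3_a z3_a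
def sd_a_16 : D2 → D3 → Nat := @D2.rec (fun _ => D3 → Nat) z3_a z3_a z3_a (@D3.rec (fun _ => Nat) 0 0 0 0 0 0 0 0 0 0 0 0 0 0 0 0 0 0 0 0 0 0 0 2097 0 0 0 0 0 0 0 0 0 0 0 0 0 0 0 0 2080 0 0 0 0 0 0 0 0 0 0 0 0 0 0 0 0 0 0 0 0 0) z3_a z3_a z3_a (@D3.rec (fun _ => Nat) 0 0 0 0 0 0 0 0 0 0 0 0 0 0 0 0 0 0 2123 0 0 0 0 0 0 0 0 0 0 0 0 0 0 0 0 0 0 0 0 0 0 0 0 0 0 0 0 0 0 0 0 0 0 0 0 0 0 0 0 0 0 0) z3_a z3_a (@D3.rec (fun _ => Nat) 0 0 0 0 0 0 0 0 0 0 0 0 0 0 0 0 0 0 0 0 0 0 0 0 0 0 0 0 0 0 0 0 0 0 0 0 0 0 0 0 0 0 0 0 0 0 0 0 0 0 0 0 0 0 0 0 2137 0 0 0 0 0) z3_a z3_a z3_a z3_a z3_a z3_a z3_a z3_a z3_a z3_a z3_a z3_a z3_a z3_a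 z3_a z3_a (@D3.rec (fun _ => Nat) 0 0 2424 0 0 0 0 0 0 0 0 0 0 0 0 0 0 0 0 0 0 0 0 0 0 0 0 0 0 0 0 0 0 0 0 0 0 0 0 0 0 0 0 0 0 0 0 0 0 0 0 0 0 0 0 0 0 0 0 0 0 0) z3_a z3_a z3_a z3_a z3_a z3_a z3_a z3_a z3_a z3_a z3_a z3_a z3_a z3_a z3_a z3_a z3_a z3_a z3_a z3_a z3_a z3_a z3_a z3_a (@D3.rec (fun _ => Nat) 0 0 0 0 0 0 0 0 0 0 0 0 0 0 0 0 0 0 0 0 0 0 0 0 0 0 0 0 0 0 0 0 0 0 0 0 0 0 0 0 0 0 0 0 0 0 0 0 0 0 0 0 0 0 0 2229 0 0 0 0 0 0) z3_a (@D3.rec (fun _ => Nat) 0 0 0 0 0 0 0 0 0 0 0 0 0 0 2206 0 0 0 0 0 0 0 0 0 0 0 0 0 0 0 0 0 0 0 0 0 0 0 0 0 0 0 0 0 0 0 0 0 0 0 0 0 0 0 0 0 0 0 0 0 0 0) z3_a z3_a z3_a z3_a z3_a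
def sd_a_17 : D2 → D3 → Nat := @D2.rec (fun _ => D3 → Nat) z3_a z3_a (@D3.rec (fun _ => Nat) 0 0 0 0 0 0 0 0 0 0 0 0 0 2240 0 0 0 0 0 0 0 0 0 0 0 0 0 0 0 0 0 0 0 0 0 0 0 0 0 0 0 0 0 0 0 0 0 0 0 0 0 0 0 0 0 0 0 0 0 0 0 0) z3_a z3_a z3_a (@D3.rec (fun _ => Nat) 0 0 0 0 0 0 0 0 0 0 0 0 0 0 0 0 0 0 0 2943 0 0 0 0 0 0 0 0 0 0 0 0 0 0 0 0 0 0 0 0 0 0 0 0 0 0 0 0 0 0 0 0 0 0 0 0 0 0 0 0 0 0) (@D3.rec (fun _ => Nat) 0 0 0 0 0 0 0 0 0 0 0 0 0 0 0 0 0 0 0 0 0 0 0 0 0 0 0 0 0 0 0 0 0 0 0 0 0 0 0 0 0 0 0 0 0 0 0 0 0 0 0 0 0 987 0 0 0 0 0 0 0 0) (@D3.rec (fun _ => Nat) 0 0 0 0 0 0 0 0 0 0 0 0 0 0 0 0 0 0 0 0 0 0 0 0 0 0 0 0 0 0 0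 0 0 0 0 0 0 0 0 0 0 0 0 0 0 0 0 0 2792 0 0 0 0 0 0 0 0 0 0 0 0 0) z3_a z3_a z3_a z3_a z3_a z3_a z3_a z3_a (@D3.rec (fun _ => Nat) 0 0 0 0 0 0 0 0 0 0 0 0 0 0 0 0 0 0 0 0 0 0 0 0 0 0 0 0 0 0 0 0 0 0 0 0 0 0 0 0 0 0 0 0 0 0 0 0 0 0 0 0 0 0 0 0 0 0 0 0 1981 0) z3_a (@D3.rec (fun _ => Nat) 0 0 0 0 0 0 0 0 0 0 0 0 0 0 1299 0 0 0 0 0 0 0 0 0 0 0 0 2270 0 0 0 0 0 0 0 0 0 0 0 0 0 0 0 0 0 0 0 0 0 0 0 0 0 0 0 0 0 0 0 0 0 0) z3_a z3_a (@D3.rec (fun _ => Nat) 0 0 0 0 0 0 0 0 0 0 0 0 0 0 0 0 0 0 0 0 0 0 0 0 0 0 0 0 0 0 0 0 0 0 2990 0 0 0 0 0 0 0 0 0 0 0 0 0 0 0 0 0 0 0 0 0 0 0 0 0 0 0) z3_a z3_a z3_a z3_a z3_a z3_a z3_a (@D3.rec (fun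 _ => Nat) 0 0 0 0 0 0 0 0 0 0 0 0 0 0 0 0 0 0 0 0 0 0 0 0 0 0 0 0 0 0 0 0 0 0 0 0 0 0 0 0 0 2308 0 0 0 0 0 0 0 0 0 0 0 0 0 0 0 0 0 0 0 0) z3_a (@D3.rec (fun _ => Nat) 0 0 0 0 0 0 0 0 0 0 0 0 0 0 0 0 0 0 0 0 0 0 0 0 0 0 0 0 0 0 0 0 0 0 0 0 0 0 0 0 0 0 0 0 0 0 0 0 0 0 0 0 0 0 0 0 0 0 0 0 2803 0) z3_a (@D3.rec (fun _ => Nat) 0 0 0 0 0 0 0 0 0 0 0 0 0 0 0 0 0 0 0 0 0 0 2879 0 0 0 0 0 0 0 0 0 0 0 0 0 0 0 0 0 0 0 0 0 0 0 0 0 0 0 0 0 0 0 0 0 0 0 0 0 0 0) z3_a z3_a z3_a z3_a z3_a z3_a z3_a z3_a (@D3.rec (fun _ => Nat) 0 0 0 0 0 0 0 0 0 0 0 0 0 0 0 0 0 0 0 0 0 0 0 0 0 0 0 0 0 0 0 0 0 0 0 0 0 0 0 0 0 0 0 0 0 0 0 0 2813 0 0 0 0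 0 0 0 0 0 0 0 0 0) z3_a z3_a z3_a z3_a z3_a z3_a z3_a z3_a z3_a z3_a z3_a z3_a z3_a z3_a (@D3.rec (fun _ => Nat) 0 0 0 0 0 0 0 0 0 0 0 0 0 0 0 0 0 0 0 0 0 3045 0 0 0 0 0 0 0 0 0 0 0 0 0 0 0 0 0 0 0 0 0 0 0 0 0 0 0 0 0 0 0 0 0 0 0 0 0 0 0 0) (@D3.rec (fun _ => Nat) 0 0 0 0 0 0 0 0 0 0 0 0 0 0 0 0 0 0 0 0 0 0 0 0 0 0 0 0 0 0 0 0 0 0 0 0 0 0 0 0 0 0 0 0 0 0 0 0 0 0 0 0 0 3080 0 0 0 0 0 0 0 0)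
def sd_a_18 : D2 → D3 → Nat := @D2.rec (fun _ => D3 → Nat) z3_a (@D3.rec (fun _ => Nat) 0 0 0 0 0 0 0 0 0 0 0 0 0 0 0 0 0 0 0 0 0 0 0 0 0 0 0 0 0 0 0 0 2993 0 0 0 0 0 0 0 0 0 0 0 0 0 0 0 0 0 0 0 0 0 0 0 0 0 0 0 0 0) z3_a z3_a z3_a z3_a z3_a z3_a z3_a z3_a z3_a z3_a z3_a z3_a z3_a (@D3.rec (fun _ => Nat) 0 0 0 0 0 0 0 0 0 0 0 0 0 0 0 0 0 0 0 0 0 0 0 0 0 0 0 0 0 0 0 0 2613 0 0 0 0 0 0 0 0 0 0 0 0 0 0 0 0 0 0 0 0 0 0 0 0 0 0 0 0 0) z3_a z3_a z3_a z3_a z3_a (@D3.rec (fun _ => Nat) 0 0 0 2017 0 0 0 0 0 0 0 0 0 0 0 0 0 0 0 0 0 0 0 0 0 0 0 0 0 0 0 0 0 0 0 0 0 0 0 0 0 0 0 0 0 0 0 0 0 0 0 0 0 0 0 0 0 0 0 0 0 0) z3_a z3_a (@D3.rec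 (fun _ => Nat) 0 0 0 0 0 0 0 0 0 0 0 0 0 0 0 2591 0 0 0 0 0 0 0 0 0 0 0 0 0 0 0 0 0 0 0 0 0 0 0 0 0 0 0 0 0 0 2715 0 0 0 0 0 0 0 0 0 0 0 0 0 0 0) (@D3.rec (fun _ => Nat) 0 0 0 0 0 0 0 0 0 0 0 0 0 0 0 2637 0 0 0 0 0 0 0 0 0 0 0 0 0 0 0 0 0 0 0 0 0 0 0 0 0 0 0 0 0 0 0 0 0 0 0 0 0 0 0 0 0 0 0 0 0 0) (@D3.rec (fun _ => Nat) 0 0 0 0 0 0 0 2616 0 0 0 0 0 0 0 0 0 0 0 0 0 0 0 0 0 0 0 0 0 0 0 0 0 0 0 0 0 0 0 0 0 0 0 0 0 0 0 0 0 0 0 0 0 0 0 0 0 0 0 0 0 0) z3_a z3_a z3_a z3_a z3_a z3_a z3_a z3_a z3_a z3_a z3_a (@D3.rec (fun _ => Nat) 0 0 0 0 0 0 0 0 0 0 0 0 0 0 0 0 0 0 0 0 0 0 0 0 0 2536 0 0 0 0 0 0 0 0 0 0 0 0 0 0 0 0 0 0 0 0 0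 0 0 0 0 0 0 0 0 0 0 0 0 0 0 0) z3_a z3_a z3_a (@D3.rec (fun _ => Nat) 0 0 0 0 0 0 0 2953 0 0 0 0 0 0 0 0 0 0 0 0 0 0 0 0 0 0 0 0 0 0 0 0 0 0 0 0 0 0 0 0 0 0 0 0 0 0 0 0 0 0 0 0 0 0 0 0 0 0 0 0 0 0) (@D3.rec (fun _ => Nat) 0 0 0 2901 0 0 0 0 0 0 0 0 0 0 0 0 0 0 0 0 0 0 0 0 0 0 0 0 0 0 0 0 0 0 0 0 0 0 0 0 0 0 0 0 0 0 0 0 0 0 0 0 0 0 0 0 0 0 0 0 0 0) z3_a z3_a z3_a z3_a z3_a z3_a z3_a z3_a z3_a z3_a z3_a z3_a z3_a z3_a z3_a z3_a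
def sd_a_19 : D2 → D3 → Nat := @D2.rec (fun _ => D3 → Nat) z3_a z3_a z3_a (@D3.rec (fun _ => Nat) 0 0 0 0 0 0 0 0 0 0 0 0 0 0 0 0 0 0 0 0 0 0 0 0 0 0 0 0 0 0 0 0 0 0 0 0 0 0 0 0 0 0 0 0 0 0 0 0 0 0 0 0 0 0 0 0 0 0 0 0 2748 0) z3_a (@D3.rec (fun _ => Nat) 0 0 0 0 0 0 0 0 0 0 0 0 0 0 0 0 0 0 0 0 0 0 0 0 0 0 0 0 0 0 0 0 2675 0 0 0 0 0 0 0 0 0 0 0 0 0 0 0 0 0 0 0 0 0 0 0 0 0 0 0 0 0) z3_a z3_a z3_a z3_a z3_a z3_a z3_a z3_a z3_a z3_a z3_a z3_a z3_a z3_a z3_a z3_a z3_a z3_a (@D3.rec (fun _ => Nat) 0 0 0 0 0 0 0 0 0 0 0 0 0 0 0 0 0 0 0 0 0 0 0 2469 0 0 0 0 0 0 0 0 0 0 0 0 0 0 0 0 0 0 0 0 0 0 0 0 0 0 0 0 0 0 0 0 0 0 0 0 0 0)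 z3_a z3_a z3_a z3_a z3_a z3_a z3_a z3_a z3_a z3_a z3_a z3_a z3_a z3_a z3_a z3_a z3_a z3_a z3_a z3_a z3_a z3_a z3_a z3_a z3_a z3_a z3_a z3_a z3_a (@D3.rec (fun _ => Nat) 0 0 0 0 0 0 0 0 0 0 0 0 0 0 0 0 0 0 0 0 0 2046 0 0 0 0 0 0 0 0 0 0 0 0 0 0 0 0 0 0 0 0 0 0 0 0 0 0 0 0 0 0 0 0 0 0 0 0 0 0 0 0) z3_a z3_a z3_a z3_a z3_a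
def sd_a_20 : D2 → D3 → Nat := @D2.rec (fun _ => D3 → Nat) (@D3.rec (fun _ => Nat) 0 0 0 0 0 0 0 0 0 0 0 0 0 0 0 0 0 2936 0 0 0 0 0 0 0 0 0 0 0 0 0 0 0 0 0 0 0 0 0 0 0 0 0 0 0 0 0 0 0 0 0 0 0 0 0 0 0 0 0 0 0 0) z3_a z3_a z3_a z3_a (@D3.rec (fun _ => Nat) 0 0 0 0 0 0 0 0 0 0 0 0 0 0 0 0 0 0 0 0 0 0 0 0 0 0 0 0 0 0 0 0 0 0 0 0 0 0 0 0 2430 0 0 0 0 0 0 0 0 0 0 0 0 0 0 0 0 0 0 0 0 0) z3_a z3_a z3_a z3_a z3_a z3_a (@D3.rec (fun _ => Nat) 0 0 0 0 0 0 0 0 0 0 0 0 0 0 0 0 0 0 0 0 0 0 0 0 0 0 0 0 0 0 0 0 0 0 0 0 0 0 0 0 0 0 2855 0 0 0 0 0 0 0 0 0 0 0 0 0 0 0 0 0 0 0) (@D3.rec (fun _ => Nat) 0 0 0 0 0 0 0 0 0 0 0 0 0 0 0 0 0 0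 0 0 0 0 0 0 2807 0 0 0 0 0 0 0 0 0 0 0 0 0 0 0 0 0 0 0 0 0 0 0 0 0 0 0 0 0 0 0 0 0 0 0 0 0) z3_a z3_a z3_a (@D3.rec (fun _ => Nat) 0 0 0 0 0 0 0 0 0 0 0 0 0 0 0 0 0 0 0 0 0 0 0 0 0 0 0 0 0 0 0 0 0 0 0 0 0 0 0 0 0 0 0 0 0 0 0 2927 0 0 0 0 0 0 0 0 0 0 0 0 0 0) z3_a z3_a z3_a z3_a (@D3.rec (fun _ => Nat) 0 0 0 0 0 0 0 0 0 0 0 0 0 0 0 0 0 0 0 0 0 0 0 0 0 0 0 0 0 0 0 0 0 0 0 0 0 0 0 0 0 0 0 0 0 0 0 0 0 0 0 0 0 2878 0 0 0 0 0 0 0 0) (@D3.rec (fun _ => Nat) 0 0 0 0 0 0 0 0 0 0 0 0 0 0 0 0 0 2881 0 0 0 0 0 0 0 0 0 0 0 0 0 0 0 0 0 0 0 0 0 0 0 0 0 0 0 0 0 0 0 0 0 0 0 0 0 0 0 0 0 0 0 0) z3_a z3_a (@D3.rec (fun _ => Nat) 0 0 0 0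 0 0 0 0 0 0 0 0 0 0 0 0 0 0 0 0 0 0 0 0 0 0 0 0 0 0 0 0 0 0 0 0 0 0 0 0 0 0 0 0 0 0 0 0 0 0 0 0 0 0 0 0 0 0 2883 0 0 0) z3_a z3_a z3_a z3_a z3_a z3_a z3_a (@D3.rec (fun _ => Nat) 0 0 0 0 0 0 0 0 0 0 0 0 0 0 0 0 0 0 0 0 0 0 0 0 0 0 0 0 0 0 0 0 0 0 0 0 0 0 0 0 0 0 0 3088 0 0 0 0 0 0 0 0 0 0 0 0 0 0 0 0 0 0) z3_a z3_a z3_a z3_a (@D3.rec (fun _ => Nat) 0 0 0 0 0 0 0 0 0 0 0 0 0 0 0 0 0 0 0 0 0 0 0 0 0 0 0 0 0 0 0 0 0 0 0 0 0 0 0 0 0 0 0 0 0 0 0 0 0 0 0 0 2336 0 0 0 0 0 0 0 0 0) z3_a z3_a z3_a z3_a z3_a z3_a (@D3.rec (fun _ => Nat) 0 0 0 0 0 0 0 0 0 0 0 0 0 0 0 0 0 0 0 0 0 2919 0 0 0 0 0 0 0 0 0 0 0 0 0 0 0 0 0 0 0 0 0 0 0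 0 0 0 0 0 0 0 0 0 0 0 0 0 0 0 0 0) z3_a z3_a z3_a z3_a z3_a z3_a z3_a z3_a z3_a z3_a (@D3.rec (fun _ => Nat) 0 0 0 0 0 0 0 0 0 0 0 0 0 0 0 0 0 0 0 0 0 0 0 0 0 0 0 2679 0 0 0 0 0 0 0 0 0 0 0 0 0 0 0 0 0 0 0 0 0 0 0 0 0 0 0 0 0 0 0 0 0 0) z3_a z3_a
def sd_a_21 : D2 → D3 → Nat := @D2.rec (fun _ => D3 → Nat) (@D3.rec (fun _ => Nat) 0 0 0 0 0 3021 0 0 0 0 0 0 0 0 0 0 0 0 0 0 0 0 0 0 0 0 0 0 0 0 0 2713 0 0 0 0 0 0 0 0 0 0 0 0 0 0 0 0 0 0 0 0 0 0 0 0 0 0 0 0 0 0) (@D3.rec (fun _ => Nat) 0 0 0 0 0 0 0 0 0 0 0 0 0 0 0 0 0 0 0 0 0 0 0 0 0 0 0 0 0 0 0 0 3012 0 0 0 0 0 0 0 0 0 0 0 0 0 0 0 0 0 0 0 0 0 0 0 0 0 0 0 0 0) (@D3.rec (fun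 _ => Nat) 0 0 0 0 0 0 0 0 0 0 0 0 0 0 0 0 0 0 0 0 0 0 0 0 0 0 0 0 0 0 3037 0 0 0 0 0 0 0 0 0 0 0 0 0 0 0 0 0 0 0 0 0 0 0 0 0 0 0 0 0 0 0) z3_a z3_a z3_a z3_a z3_a z3_a z3_a z3_a (@D3.rec (fun _ => Nat) 0 0 0 0 0 0 0 0 0 0 0 0 0 0 0 0 0 0 0 0 0 0 3074 0 0 0 0 0 0 0 0 0 0 0 0 0 0 0 0 0 0 0 0 0 0 0 0 0 0 0 0 0 0 0 0 0 0 0 0 0 0 0) z3_a z3_a z3_a z3_a z3_a z3_a z3_a z3_a z3_a z3_a z3_a z3_a z3_a z3_a z3_a z3_a z3_a z3_a z3_a z3_a z3_a z3_a z3_a z3_a z3_a z3_a z3_a z3_a z3_a (@D3.rec (fun _ => Nat) 0 0 0 0 0 0 0 0 0 0 0 0 0 0 0 0 0 0 0 0 0 0 0 0 0 1747 0 0 0 0 0 0 0 0 0 0 0 0 0 0 0 0 0 0 0 0 0 0 0 0 0 0 0 0 0 0 0 0 0 0 0 0)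 (@D3.rec (fun _ => Nat) 0 0 0 0 0 0 0 0 0 0 0 0 0 0 0 0 0 0 0 0 0 0 0 0 0 0 0 0 0 0 0 0 0 0 0 0 0 0 0 1770 0 0 0 0 0 0 0 0 0 0 0 0 0 0 0 0 0 0 0 0 0 0) z3_a z3_a z3_a z3_a z3_a z3_a z3_a z3_a z3_a z3_a z3_a z3_a z3_a z3_a z3_a z3_a z3_a
def sd_a_22 : D2 → D3 → Nat := @D2.rec (fun _ => D3 → Nat) z3_a z3_a z3_a z3_a (@D3.rec (fun _ => Nat) 0 0 0 0 0 0 0 0 0 0 0 0 2956 0 0 0 0 0 0 0 0 0 0 0 0 0 0 0 0 0 0 0 0 0 0 0 0 0 0 0 0 0 0 0 0 0 0 0 0 0 0 0 0 0 0 0 0 0 0 0 0 0) z3_a z3_a z3_a z3_a z3_a z3_a z3_a z3_a z3_a z3_a z3_a z3_a z3_a z3_a z3_a z3_a z3_a z3_a z3_a z3_a z3_a z3_a z3_a z3_a z3_a z3_a z3_a z3_a z3_a (@D3.rec (fun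 _ => Nat) 0 0 0 0 0 0 0 0 0 0 0 0 0 1707 0 0 0 0 0 0 0 0 0 0 0 0 0 0 0 0 0 0 0 0 0 0 0 0 0 0 0 0 0 0 0 0 0 0 0 0 0 0 0 0 0 0 0 0 0 0 0 0) z3_a z3_a z3_a z3_a z3_a z3_a z3_a z3_a z3_a z3_a z3_a z3_a z3_a z3_a z3_a z3_a z3_a z3_a z3_a z3_a z3_a z3_a z3_a z3_a z3_a
def sd_a_23 : D2 → D3 → Nat := @D2.rec (fun _ => D3 → Nat) z3_a z3_a z3_a z3_a z3_a z3_a z3_a z3_a z3_a z3_a z3_a z3_a z3_a z3_a z3_a z3_a z3_a z3_a z3_a z3_a z3_a (@D3.rec (fun _ => Nat) 0 0 0 0 0 0 0 0 0 0 0 0 0 0 0 0 0 0 0 0 0 0 0 0 0 0 0 0 0 0 0 0 0 0 0 0 0 0 0 0 0 0 0 1612 0 0 0 0 0 0 0 0 0 0 0 0 0 0 0 0 0 0) z3_a z3_a (@D3.rec (fun _ => Nat) 0 0 0 0 0 0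 0 0 0 0 0 0 0 0 0 0 0 0 0 0 0 0 0 0 0 0 0 0 0 0 0 0 0 0 0 0 0 0 0 0 0 0 2984 0 0 0 0 0 0 0 0 0 0 0 0 0 0 0 0 0 0 0) z3_a z3_a z3_a z3_a z3_a z3_a z3_a z3_a z3_a z3_a z3_a z3_a z3_a z3_a z3_a z3_a z3_a z3_a z3_a z3_a z3_a z3_a z3_a z3_a z3_a z3_a z3_a z3_a z3_a z3_a z3_a z3_a z3_a z3_a z3_a
def sd_a_24 : D2 → D3 → Nat := @D2.rec (fun _ => D3 → Nat) z3_a z3_a z3_a z3_a z3_a z3_a z3_a z3_a z3_a z3_a z3_a z3_a z3_a z3_a z3_a z3_a z3_a z3_a z3_a z3_a z3_a z3_a z3_a z3_a z3_a z3_a z3_a z3_a z3_a z3_a z3_a z3_a z3_a z3_a z3_a z3_a z3_a z3_a z3_a z3_a z3_a z3_a z3_a z3_a z3_a z3_a z3_a (@D3.rec (fun _ => Nat) 0 0 0 0 0 0 0 0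 0 0 0 0 0 0 0 0 0 0 0 2928 0 0 0 0 0 0 0 0 0 0 0 0 0 0 0 0 0 0 0 0 0 0 0 0 0 0 0 0 0 0 0 0 0 0 0 0 0 0 0 0 0 0) z3_a z3_a z3_a z3_a z3_a z3_a z3_a z3_a z3_a z3_a z3_a z3_a
def sd_a_25 : D2 → D3 → Nat := @D2.rec (fun _ => D3 → Nat) z3_a (@D3.rec (fun _ => Nat) 0 0 0 0 0 0 0 0 0 0 0 0 0 0 0 0 0 0 0 0 0 0 0 2607 0 0 0 0 0 0 0 0 0 0 0 0 0 0 0 0 0 0 0 0 0 0 0 0 0 0 0 0 0 0 0 0 0 0 0 0 0 0) z3_a z3_a z3_a z3_a z3_a z3_a z3_a z3_a z3_a z3_a z3_a z3_a z3_a z3_a z3_a z3_a z3_a z3_a z3_a z3_a z3_a z3_a z3_a z3_a z3_a z3_a z3_a z3_a z3_a z3_a z3_a z3_a z3_a z3_a z3_a z3_a z3_a z3_a z3_a z3_a z3_a z3_a z3_a (@D3.rec (fun _ => Nat)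 0 0 0 0 0 0 0 0 0 0 0 0 0 0 0 0 0 0 0 0 0 0 0 0 0 0 0 0 0 0 0 0 0 0 0 0 0 0 0 0 0 0 0 0 0 0 0 0 0 0 0 0 0 0 0 0 0 0 0 2141 0 0) z3_a z3_a z3_a z3_a z3_a z3_a z3_a z3_a z3_a z3_a z3_a z3_a z3_a z3_a
def sd_a_26 : D2 → D3 → Nat := @D2.rec (fun _ => D3 → Nat) z3_a z3_a z3_a z3_a z3_a z3_a z3_a (@D3.rec (fun _ => Nat) 0 0 0 0 0 0 0 0 0 0 0 0 0 0 0 0 0 0 0 0 0 0 0 0 0 0 0 0 0 0 0 0 0 0 0 0 0 0 0 0 0 0 0 0 0 0 0 0 0 0 0 0 3009 0 0 0 0 0 0 0 0 0) z3_a z3_a z3_a z3_a z3_a z3_a z3_a z3_a z3_a z3_a z3_a z3_a z3_a z3_a z3_a z3_a z3_a z3_a z3_a z3_a z3_a z3_a z3_a (@D3.rec (fun _ => Nat) 0 0 0 0 2439 0 0 0 0 0 0 0 0 0 0 0 0 0 0 0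 0 0 0 0 0 0 0 0 0 0 0 0 0 0 0 0 0 0 0 0 0 0 0 0 0 0 0 0 0 0 0 0 0 0 0 0 0 0 0 0 0 0) z3_a z3_a z3_a z3_a z3_a z3_a z3_a z3_a z3_a z3_a z3_a z3_a z3_a z3_a z3_a z3_a z3_a z3_a z3_a z3_a z3_a (@D3.rec (fun _ => Nat) 0 0 0 0 0 0 0 0 0 0 0 0 0 0 0 0 0 0 0 0 0 0 0 0 0 0 0 0 0 0 0 0 0 0 0 0 0 0 0 0 0 900 0 0 0 0 0 0 0 0 0 0 0 0 0 0 2888 0 0 0 0 0) z3_a z3_a z3_a z3_a z3_a z3_a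
def sd_a_27 : D2 → D3 → Nat := @D2.rec (fun _ => D3 → Nat) z3_a z3_a z3_a z3_a z3_a z3_a (@D3.rec (fun _ => Nat) 0 0 0 0 0 0 0 0 0 0 0 0 0 0 0 0 0 0 0 0 0 0 0 0 0 0 0 0 0 0 0 0 0 0 0 0 0 0 0 0 0 0 0 0 0 0 0 1678 0 0 0 0 0 0 0 0 0 0 0 0 0 0) z3_a z3_a z3_a z3_a z3_a z3_a z3_a z3_a z3_a z3_a z3_a z3_a z3_a z3_a z3_a z3_a z3_a z3_a z3_a z3_a z3_a z3_a z3_a z3_a z3_a z3_a z3_a z3_a z3_a z3_a z3_a z3_a z3_a z3_a z3_a (@D3.rec (fun _ => Nat) 0 0 0 0 0 0 0 0 0 0 0 0 0 0 0 0 0 0 0 0 0 0 0 0 0 0 0 0 0 0 0 0 0 0 0 0 0 0 0 0 0 0 0 0 0 0 0 2969 0 0 0 0 0 0 0 0 0 0 0 0 0 0) z3_a z3_a z3_a z3_a z3_a z3_a z3_a z3_a z3_a z3_a z3_a z3_a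 z3_a z3_a z3_a z3_a z3_a
def sd_a_29 : D2 → D3 → Nat := @D2.rec (fun _ => D3 → Nat) z3_a z3_a z3_a z3_a z3_a z3_a z3_a z3_a z3_a z3_a z3_a z3_a z3_a z3_a z3_a z3_a z3_a z3_a z3_a z3_a z3_a z3_a z3_a z3_a z3_a z3_a z3_a z3_a z3_a z3_a z3_a z3_a z3_a z3_a z3_a (@D3.rec (fun _ => Nat) 0 0 0 0 0 0 0 0 0 0 0 0 0 0 0 0 0 0 0 0 0 0 0 0 0 0 0 0 0 2921 0 0 0 0 0 0 0 0 0 0 0 0 0 0 0 0 0 0 0 0 0 0 0 0 0 0 0 0 0 0 0 0) z3_a z3_a z3_a z3_a z3_a z3_a z3_a z3_a z3_a z3_a z3_a z3_a z3_a z3_a z3_a z3_a z3_a z3_a z3_a z3_a z3_a z3_a z3_a z3_a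
def sd_a_31 : D2 → D3 → Nat := @D2.rec (fun _ => D3 → Nat) z3_a z3_a z3_a z3_a z3_a z3_a z3_a z3_a z3_a z3_a z3_a z3_a z3_a z3_a z3_a z3_a z3_a z3_a z3_a z3_a z3_a z3_a z3_a z3_a z3_a z3_a z3_a z3_a z3_a z3_a z3_a z3_a z3_a z3_a z3_a z3_a z3_a z3_a z3_a z3_a z3_a z3_a z3_a z3_a z3_a z3_a z3_a z3_a z3_a z3_a z3_a z3_a z3_a z3_a z3_a (@D3.rec (fun _ => Nat) 0 0 0 0 0 0 0 0 0 0 0 0 0 0 0 0 0 0 0 0 0 0 0 0 0 0 0 0 0 0 0 0 0 0 0 0 0 0 0 0 0 0 0 0 0 0 0 0 0 0 0 0 0 0 0 0 0 2122 0 0 0 0) z3_a z3_a z3_a z3_a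
def sd_a : Pt → Nat := @Pt.rec (fun _ => Nat) (@D1.rec (fun _ => D2 → D3 → Nat) sd_a_0 sd_a_1 sd_a_2 sd_a_3 sd_a_4 sd_a_5 sd_a_6 sd_a_7 sd_a_8 sd_a_9 sd_a_10 sd_a_11 sd_a_12 sd_a_13 sd_a_14 sd_a_15 sd_a_16 sd_a_17 sd_a_18 sd_a_19 sd_a_20 sd_a_21 sd_a_22 sd_a_23 sd_a_24 sd_a_25 sd_a_26 sd_a_27 z2_a sd_a_29 z2_a sd_a_31 z2_a)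

end

end Cfsg.Agent.Helper28.S1692
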