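import Cfsg.Agent.Lib.Helper28.S1692.Tree

set_option autoImplicit false
set_option maxRecDepth 100000
set_option linter.all false

namespace Cfsg.Agent.Helper28.S1692

open Cfsg.Agent.Helper28
open Cfsg.Spor.ON (Gen)

noncomputable section

abbrev lc_b_Cert_tree : Cert rels S Gen.b := Cert.tree
abbrev lc_b_rc_10_0 : Cert rels S Gen.b := rc_10_0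
abbrev lc_b_rc_10_2 : Cert rels S Gen.b := rc_10_2
abbrev lc_b_rc_1_1 : Cert rels S Gen.b := rc_1_1
abbrev lc_b_rc_1_3 : Cert rels S Gen.b := rc_1_3
abbrev lc_b_rc_1_5 : Cert rels S Gen.b := rc_1_5
abbrev lc_b_rc_25_0 : Cert rels S Gen.b := rc_25_0
abbrev lc_b_rc_25_12 : Cert rels S Gen.b := rc_25_12
abbrev lc_b_rc_25_16 : Cert rels S Gen.b := rc_25_16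
abbrev lc_b_rc_25_4 : Cert rels S Gen.b := rc_25_4
abbrev lc_b_rc_25_8 : Cert rels S Gen.b := rc_25_8
abbrev lc_b_rc_26_1 : Cert rels S Gen.b := rc_26_1
abbrev lc_b_rc_26_5 : Cert rels S Gen.b := rc_26_5
abbrev lc_b_rc_26_7 : Cert rels S Gen.b := rc_26_7
abbrev lc_b_rc_6_1 : Cert rels S Gen.b := rc_6_1
abbrev lc_b_rc_7_0 : Cert rels S Gen.b := rc_7_0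
abbrev lc_b_rc_7_2 : Cert rels S Gen.b := rc_7_2
abbrev lc_b_rc_7_4 : Cert rels S Gen.b := rc_7_4
abbrev lc_b_rc_8_0 : Cert rels S Gen.b := rc_8_0
abbrev lc_b_rc_8_2 : Cert rels S Gen.b := rc_8_2
abbrev lc_b_rc_9_0 : Cert rels S Gen.b := rc_9_0
abbrev lc_b_rc_9_2 : Cert rels S Gen.b := rc_9_2
abbrev lc_b_sc_1_0 : Cert rels S Gen.b := sc_1_0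
def ce_b_0 : D2 → D3 → (Cert rels S Gen.b) := @D2.rec (fun _ => D3 → (Cert rels S Gen.b)) (@D3.rec (fun _ => (Cert rels S Gen.b)) lc_b_sc_1_0 lc_b_Cert_tree lc_b_rc_6_1 lc_b_Cert_tree lc_b_rc_8_2 lc_b_rc_9_2 lc_b_rc_6_1 lc_b_rc_26_5 lc_b_rc_26_5 lc_b_Cert_tree lc_b_rc_8_2 lc_b_rc_9_2 lc_b_Cert_tree lc_b_rc_6_1 lc_b_rc_8_2 lc_b_rc_9_2 lc_b_rc_26_5 lc_b_rc_9_2 lc_b_rc_26_5 lc_b_rc_9_2 lc_b_rc_8_2 lc_b_rc_10_2 lc_b_Cert_tree lc_b_Cert_tree lc_b_Cert_tree lc_b_rc_8_2 lc_b_rc_9_2 lc_b_rc_26_5 lc_b_Cert_tree lc_b_rc_6_1 lc_b_rc_8_2 lc_b_rc_9_2 lc_b_rc_26_1 lc_b_rc_6_1 lc_b_Cert_tree lc_b_rc_9_2 lc_b_rc_9_2 lc_b_rc_26_5 lc_b_rc_8_2 lc_b_rc_10_2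 lc_b_rc_6_1 lc_b_rc_26_5 lc_b_rc_26_7 lc_b_rc_8_2 lc_b_rc_9_2 lc_b_rc_26_7 lc_b_rc_9_2 lc_b_Cert_tree lc_b_rc_26_7 lc_b_rc_8_2 lc_b_rc_10_2 lc_b_rc_9_2 lc_b_rc_10_2 lc_b_rc_8_2 lc_b_rc_10_2 lc_b_rc_8_2 lc_b_rc_26_5 lc_b_rc_8_2 lc_b_rc_10_0 lc_b_Cert_tree lc_b_rc_10_2 lc_b_Cert_tree) (@D3.rec (fun _ => (Cert rels S Gen.b)) lc_b_rc_6_1 lc_b_rc_8_2 lc_b_rc_6_1 lc_b_rc_8_2 lc_b_rc_6_1 lc_b_rc_8_2 lc_b_rc_9_2 lc_b_Cert_tree lc_b_rc_9_2 lc_b_rc_26_5 lc_b_rc_6_1 lc_b_rc_8_2 lc_b_rc_10_2 lc_b_rc_8_2 lc_b_rc_6_1 lc_b_rc_8_2 lc_b_rc_8_2 lc_b_rc_9_2 lc_b_rc_26_5 lc_b_Cert_tree lc_b_Cert_tree lc_b_rc_9_2 lc_b_rc_9_2 lc_b_Cert_tree lc_b_rc_8_2 lc_b_rc_10_2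 lc_b_Cert_tree lc_b_rc_9_2 lc_b_Cert_tree lc_b_rc_9_2 lc_b_rc_7_2 lc_b_Cert_tree lc_b_rc_6_1 lc_b_rc_8_2 lc_b_rc_9_2 lc_b_rc_8_2 lc_b_rc_8_2 lc_b_rc_10_2 lc_b_Cert_tree lc_b_rc_26_1 lc_b_Cert_tree lc_b_rc_8_2 lc_b_rc_8_2 lc_b_rc_26_5 lc_b_Cert_tree lc_b_rc_10_2 lc_b_rc_26_7 lc_b_rc_9_2 lc_b_rc_26_5 lc_b_rc_6_1 lc_b_rc_9_2 lc_b_rc_26_5 lc_b_rc_26_1 lc_b_rc_8_2 lc_b_rc_10_2 lc_b_rc_9_2 lc_b_Cert_tree lc_b_rc_8_2 lc_b_rc_10_2 lc_b_rc_6_1 lc_b_rc_8_2 lc_b_rc_26_7) (@D3.rec (fun _ => (Cert rels S Gen.b)) lc_b_Cert_tree lc_b_rc_26_7 lc_b_Cert_tree lc_b_rc_10_2 lc_b_Cert_tree lc_b_rc_10_2 lc_b_Cert_tree lc_b_rc_9_2 lc_b_Cert_tree lc_b_rc_8_2 lc_b_Cert_tree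 lc_b_Cert_tree lc_b_rc_9_2 lc_b_Cert_tree lc_b_Cert_tree lc_b_rc_6_1 lc_b_rc_8_2 lc_b_rc_10_2 lc_b_rc_9_2 lc_b_rc_6_1 lc_b_rc_8_2 lc_b_rc_9_2 lc_b_rc_6_1 lc_b_rc_7_2 lc_b_rc_8_2 lc_b_rc_8_2 lc_b_Cert_tree lc_b_rc_8_0 lc_b_Cert_tree lc_b_rc_9_2 lc_b_rc_8_2 lc_b_rc_8_2 lc_b_Cert_tree lc_b_rc_9_2 lc_b_rc_8_2 lc_b_rc_9_2 lc_b_Cert_tree lc_b_rc_9_2 lc_b_Cert_tree lc_b_rc_7_2 lc_b_rc_8_2 lc_b_rc_10_2 lc_b_rc_6_1 lc_b_rc_26_7 lc_b_rc_9_2 lc_b_rc_26_5 lc_b_rc_8_2 lc_b_rc_10_2 lc_b_rc_26_5 lc_b_rc_8_2 lc_b_Cert_tree lc_b_rc_8_2 lc_b_rc_8_2 lc_b_rc_26_5 lc_b_Cert_tree lc_b_rc_10_2 lc_b_Cert_tree lc_b_rc_9_2 lc_b_rc_26_5 lc_b_rc_8_2 lc_b_Cert_tree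 lc_b_rc_9_2) (@D3.rec (fun _ => (Cert rels S Gen.b)) lc_b_Cert_tree lc_b_rc_26_7 lc_b_Cert_tree lc_b_rc_9_2 lc_b_rc_8_2 lc_b_rc_10_2 lc_b_Cert_tree lc_b_rc_9_2 lc_b_rc_6_1 lc_b_Cert_tree lc_b_rc_9_2 lc_b_Cert_tree lc_b_Cert_tree lc_b_rc_6_1 lc_b_rc_8_2 lc_b_rc_9_2 lc_b_rc_9_2 lc_b_Cert_tree lc_b_rc_8_2 lc_b_rc_10_2 lc_b_rc_8_2 lc_b_rc_6_1 lc_b_rc_26_5 lc_b_rc_8_2 lc_b_rc_8_2 lc_b_Cert_tree lc_b_Cert_tree lc_b_rc_10_2 lc_b_rc_1_5 lc_b_rc_6_1 lc_b_rc_9_2 lc_b_rc_6_1 lc_b_rc_9_2 lc_b_rc_9_2 lc_b_rc_6_1 lc_b_rc_9_2 lc_b_rc_9_2 lc_b_Cert_tree lc_b_rc_9_2 lc_b_rc_7_4 lc_b_rc_8_2 lc_b_rc_10_2 lc_b_Cert_tree lc_b_Cert_tree lc_b_rc_10_2 lc_b_Cert_tree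 lc_b_rc_6_1 lc_b_rc_8_2 lc_b_rc_8_2 lc_b_Cert_tree lc_b_rc_8_2 lc_b_rc_6_1 lc_b_rc_8_2 lc_b_Cert_tree lc_b_rc_9_2 lc_b_Cert_tree lc_b_Cert_tree lc_b_rc_9_2 lc_b_Cert_tree lc_b_Cert_tree lc_b_rc_6_1 lc_b_rc_8_2) (@D3.rec (fun _ => (Cert rels S Gen.b)) lc_b_rc_10_2 lc_b_rc_9_2 lc_b_rc_9_2 lc_b_rc_8_2 lc_b_rc_10_2 lc_b_rc_9_2 lc_b_rc_9_2 lc_b_rc_26_5 lc_b_rc_8_2 lc_b_rc_10_2 lc_b_rc_26_5 lc_b_rc_26_1 lc_b_rc_8_2 lc_b_rc_26_1 lc_b_Cert_tree lc_b_rc_10_2 lc_b_rc_6_1 lc_b_Cert_tree lc_b_rc_10_2 lc_b_rc_8_2 lc_b_Cert_tree lc_b_rc_9_2 lc_b_Cert_tree lc_b_rc_9_2 lc_b_rc_6_1 lc_b_rc_9_2 lc_b_rc_6_1 lc_b_rc_8_2 lc_b_rc_10_2 lc_b_rc_9_2 lc_b_rc_6_1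 lc_b_rc_8_2 lc_b_rc_10_2 lc_b_rc_9_2 lc_b_Cert_tree lc_b_rc_6_1 lc_b_rc_8_2 lc_b_rc_9_2 lc_b_Cert_tree lc_b_rc_26_5 lc_b_rc_10_2 lc_b_rc_6_1 lc_b_rc_8_2 lc_b_rc_9_2 lc_b_rc_10_2 lc_b_rc_6_1 lc_b_rc_8_2 lc_b_rc_6_1 lc_b_rc_8_2 lc_b_rc_9_2 lc_b_rc_9_2 lc_b_rc_6_1 lc_b_rc_8_2 lc_b_rc_6_1 lc_b_rc_8_2 lc_b_rc_9_2 lc_b_Cert_tree lc_b_Cert_tree lc_b_rc_1_3 lc_b_rc_8_2 lc_b_rc_10_2 lc_b_Cert_tree) (@D3.rec (fun _ => (Cert rels S Gen.b)) lc_b_Cert_tree lc_b_Cert_tree lc_b_rc_9_2 lc_b_rc_10_2 lc_b_rc_9_2 lc_b_rc_8_2 lc_b_rc_9_2 lc_b_Cert_tree lc_b_rc_9_2 lc_b_rc_8_2 lc_b_rc_8_2 lc_b_rc_9_2 lc_b_rc_8_2 lc_b_rc_9_2 lc_b_rc_9_2 lc_b_rc_7_0 lc_b_rc_8_0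 lc_b_Cert_tree lc_b_rc_9_2 lc_b_rc_6_1 lc_b_Cert_tree lc_b_rc_9_2 lc_b_Cert_tree lc_b_rc_9_2 lc_b_rc_6_1 lc_b_rc_9_2 lc_b_Cert_tree lc_b_rc_26_5 lc_b_rc_10_2 lc_b_rc_9_2 lc_b_rc_6_1 lc_b_Cert_tree lc_b_rc_9_2 lc_b_rc_6_1 lc_b_rc_9_2 lc_b_rc_26_5 lc_b_Cert_tree lc_b_rc_10_2 lc_b_rc_26_5 lc_b_rc_26_5 lc_b_Cert_tree lc_b_rc_9_2 lc_b_rc_6_1 lc_b_rc_6_1 lc_b_rc_8_2 lc_b_rc_10_2 lc_b_rc_6_1 lc_b_rc_9_2 lc_b_Cert_tree lc_b_rc_26_1 lc_b_rc_8_2 lc_b_rc_10_2 lc_b_rc_6_1 lc_b_rc_8_2 lc_b_rc_8_2 lc_b_Cert_tree lc_b_rc_26_5 lc_b_Cert_tree lc_b_rc_10_2 lc_b_rc_1_5 lc_b_rc_1_1 lc_b_rc_9_2) (@D3.rec (fun _ => (Cert rels S Gen.b)) lc_b_rc_9_2 lc_b_Cert_tree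 lc_b_rc_8_2 lc_b_rc_10_2 lc_b_rc_26_5 lc_b_Cert_tree lc_b_rc_8_2 lc_b_Cert_tree lc_b_rc_9_2 lc_b_rc_6_1 lc_b_rc_8_2 lc_b_Cert_tree lc_b_rc_9_2 lc_b_Cert_tree lc_b_Cert_tree lc_b_rc_9_2 lc_b_Cert_tree lc_b_rc_7_4 lc_b_rc_6_1 lc_b_rc_8_2 lc_b_rc_10_2 lc_b_rc_9_2 lc_b_rc_6_1 lc_b_rc_9_2 lc_b_Cert_tree lc_b_rc_6_1 lc_b_rc_10_2 lc_b_rc_8_2 lc_b_rc_9_2 lc_b_rc_26_5 lc_b_rc_9_2 lc_b_rc_6_1 lc_b_rc_9_2 lc_b_rc_6_1 lc_b_rc_26_7 lc_b_rc_10_2 lc_b_rc_6_1 lc_b_rc_9_2 lc_b_rc_9_2 lc_b_rc_6_1 lc_b_rc_9_2 lc_b_Cert_tree lc_b_Cert_tree lc_b_rc_8_2 lc_b_rc_10_2 lc_b_Cert_tree lc_b_Cert_tree lc_b_Cert_tree lc_b_rc_10_2 lc_b_rc_6_1 lc_b_rc_9_2 lc_b_Cert_tree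 lc_b_rc_9_2 lc_b_rc_8_2 lc_b_rc_10_2 lc_b_rc_9_2 lc_b_rc_6_1 lc_b_rc_9_2 lc_b_rc_8_2 lc_b_Cert_tree lc_b_rc_8_2 lc_b_rc_10_2) (@D3.rec (fun _ => (Cert rels S Gen.b)) lc_b_rc_6_1 lc_b_rc_9_2 lc_b_rc_6_1 lc_b_rc_9_2 lc_b_Cert_tree lc_b_Cert_tree lc_b_rc_1_3 lc_b_rc_8_2 lc_b_rc_9_2 lc_b_rc_9_2 lc_b_Cert_tree lc_b_Cert_tree lc_b_rc_8_2 lc_b_rc_10_2 lc_b_Cert_tree lc_b_rc_8_2 lc_b_rc_8_2 lc_b_rc_6_1 lc_b_Cert_tree lc_b_rc_8_2 lc_b_rc_9_2 lc_b_rc_26_1 lc_b_Cert_tree lc_b_Cert_tree lc_b_rc_10_2 lc_b_Cert_tree lc_b_Cert_tree lc_b_rc_8_2 lc_b_rc_6_1 lc_b_rc_8_2 lc_b_rc_8_2 lc_b_Cert_tree lc_b_rc_8_2 lc_b_Cert_tree lc_b_rc_6_1 lc_b_Cert_tree lc_b_rc_9_2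 lc_b_Cert_tree lc_b_Cert_tree lc_b_rc_6_1 lc_b_rc_8_2 lc_b_rc_10_2 lc_b_rc_9_2 lc_b_rc_9_2 lc_b_rc_26_5 lc_b_rc_26_1 lc_b_rc_1_1 lc_b_rc_9_2 lc_b_rc_7_0 lc_b_rc_9_2 lc_b_Cert_tree lc_b_rc_26_5 lc_b_rc_6_1 lc_b_rc_9_2 lc_b_rc_8_2 lc_b_rc_6_1 lc_b_rc_9_2 lc_b_rc_26_5 lc_b_Cert_tree lc_b_rc_9_2 lc_b_rc_10_2 lc_b_Cert_tree) (@D3.rec (fun _ => (Cert rels S Gen.b)) lc_b_rc_8_2 lc_b_rc_6_1 lc_b_rc_8_2 lc_b_Cert_tree lc_b_Cert_tree lc_b_rc_6_1 lc_b_rc_8_2 lc_b_rc_10_2 lc_b_rc_9_2 lc_b_rc_6_1 lc_b_rc_8_2 lc_b_rc_10_2 lc_b_rc_26_1 lc_b_rc_8_2 lc_b_Cert_tree lc_b_Cert_tree lc_b_rc_9_2 lc_b_Cert_tree lc_b_rc_9_2 lc_b_Cert_tree lc_b_Cert_tree lc_b_rc_6_1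 lc_b_rc_8_2 lc_b_rc_9_2 lc_b_rc_8_2 lc_b_rc_6_1 lc_b_rc_10_2 lc_b_rc_8_2 lc_b_Cert_tree lc_b_rc_9_2 lc_b_rc_6_1 lc_b_rc_8_2 lc_b_rc_9_2 lc_b_rc_10_2 lc_b_Cert_tree lc_b_rc_6_1 lc_b_rc_8_2 lc_b_rc_6_1 lc_b_rc_8_2 lc_b_rc_9_2 lc_b_rc_9_0 lc_b_rc_9_2 lc_b_rc_6_1 lc_b_rc_8_2 lc_b_rc_6_1 lc_b_rc_26_5 lc_b_rc_8_2 lc_b_rc_9_2 lc_b_Cert_tree lc_b_Cert_tree lc_b_rc_1_3 lc_b_rc_8_2 lc_b_rc_10_2 lc_b_Cert_tree lc_b_Cert_tree lc_b_Cert_tree lc_b_rc_9_2 lc_b_rc_10_2 lc_b_rc_9_2 lc_b_rc_8_2 lc_b_rc_10_2 lc_b_Cert_tree) (@D3.rec (fun _ => (Cert rels S Gen.b)) lc_b_rc_10_2 lc_b_rc_10_2 lc_b_rc_8_2 lc_b_Cert_tree lc_b_rc_8_2 lc_b_Cert_tree lc_b_rc_9_2 lc_b_rc_9_2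 lc_b_rc_6_1 lc_b_rc_8_2 lc_b_rc_10_2 lc_b_rc_9_2 lc_b_rc_6_1 lc_b_rc_8_2 lc_b_rc_9_2 lc_b_rc_9_2 lc_b_rc_6_1 lc_b_rc_9_2 lc_b_rc_6_1 lc_b_rc_8_2 lc_b_rc_10_2 lc_b_rc_6_1 lc_b_rc_9_2 lc_b_rc_10_2 lc_b_rc_9_2 lc_b_Cert_tree lc_b_Cert_tree lc_b_rc_1_3 lc_b_rc_8_2 lc_b_rc_10_2 lc_b_rc_9_2 lc_b_rc_9_2 lc_b_Cert_tree lc_b_Cert_tree lc_b_rc_1_3 lc_b_rc_8_2 lc_b_rc_10_2 lc_b_Cert_tree lc_b_rc_9_2 lc_b_rc_10_2 lc_b_rc_9_2 lc_b_rc_6_1 lc_b_rc_9_2 lc_b_Cert_tree lc_b_Cert_tree lc_b_rc_26_1 lc_b_rc_8_2 lc_b_rc_9_2 lc_b_rc_9_2 lc_b_Cert_tree lc_b_Cert_tree lc_b_rc_8_2 lc_b_rc_10_2 lc_b_rc_6_1 lc_b_Cert_tree lc_b_Cert_tree lc_b_Cert_tree lc_b_Cert_tree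 lc_b_rc_9_2 lc_b_rc_8_2 lc_b_rc_9_2 lc_b_rc_9_2) (@D3.rec (fun _ => (Cert rels S Gen.b)) lc_b_rc_8_2 lc_b_rc_10_2 lc_b_Cert_tree lc_b_Cert_tree lc_b_rc_1_3 lc_b_rc_8_2 lc_b_rc_9_2 lc_b_Cert_tree lc_b_Cert_tree lc_b_rc_1_3 lc_b_rc_8_2 lc_b_rc_9_2 lc_b_rc_9_2 lc_b_Cert_tree lc_b_rc_8_2 lc_b_rc_6_1 lc_b_Cert_tree lc_b_rc_1_3 lc_b_rc_8_2 lc_b_rc_9_2 lc_b_rc_6_1 lc_b_Cert_tree lc_b_rc_1_3 lc_b_rc_7_2 lc_b_rc_8_2 lc_b_rc_9_2 lc_b_rc_9_2 lc_b_rc_1_3 lc_b_Cert_tree lc_b_rc_6_1 lc_b_Cert_tree lc_b_rc_8_2 lc_b_rc_10_2 lc_b_rc_6_1 lc_b_Cert_tree lc_b_rc_8_2 lc_b_rc_9_2 lc_b_rc_1_3 lc_b_Cert_tree lc_b_Cert_tree lc_b_Cert_tree lc_b_rc_9_2 lc_b_rc_10_2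 lc_b_rc_9_2 lc_b_rc_6_1 lc_b_rc_9_2 lc_b_rc_6_1 lc_b_rc_9_2 lc_b_rc_6_1 lc_b_rc_9_2 lc_b_Cert_tree lc_b_Cert_tree lc_b_rc_10_2 lc_b_rc_9_2 lc_b_Cert_tree lc_b_rc_8_2 lc_b_rc_26_7 lc_b_rc_9_2 lc_b_rc_8_2 lc_b_rc_8_2 lc_b_rc_6_1 lc_b_rc_9_2) (@D3.rec (fun _ => (Cert rels S Gen.b)) lc_b_rc_26_5 lc_b_Cert_tree lc_b_rc_8_2 lc_b_rc_10_2 lc_b_Cert_tree lc_b_rc_26_1 lc_b_rc_9_2 lc_b_rc_8_2 lc_b_rc_1_5 lc_b_rc_9_2 lc_b_rc_26_1 lc_b_rc_8_2 lc_b_rc_10_2 lc_b_Cert_tree lc_b_rc_1_3 lc_b_rc_9_2 lc_b_rc_1_5 lc_b_rc_9_2 lc_b_rc_25_4 lc_b_rc_7_0 lc_b_rc_6_1 lc_b_rc_8_2 lc_b_rc_9_2 lc_b_rc_6_1 lc_b_rc_9_2 lc_b_rc_10_2 lc_b_rc_9_2 lc_b_rc_6_1 lc_b_rc_9_2 lc_b_Cert_tree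 lc_b_rc_26_1 lc_b_rc_8_2 lc_b_rc_10_2 lc_b_rc_6_1 lc_b_rc_9_2 lc_b_rc_26_7 lc_b_rc_26_5 lc_b_rc_9_0 lc_b_rc_10_2 lc_b_rc_6_1 lc_b_Cert_tree lc_b_rc_9_2 lc_b_rc_9_2 lc_b_Cert_tree lc_b_Cert_tree lc_b_rc_8_2 lc_b_rc_10_2 lc_b_rc_6_1 lc_b_Cert_tree lc_b_rc_8_2 lc_b_rc_9_2 lc_b_Cert_tree lc_b_rc_8_2 lc_b_rc_8_2 lc_b_Cert_tree lc_b_rc_1_3 lc_b_rc_9_2 lc_b_rc_6_1 lc_b_rc_8_2 lc_b_rc_9_2 lc_b_rc_8_2 lc_b_rc_10_2) (@D3.rec (fun _ => (Cert rels S Gen.b)) lc_b_rc_6_1 lc_b_Cert_tree lc_b_rc_9_2 lc_b_rc_9_2 lc_b_Cert_tree lc_b_Cert_tree lc_b_rc_8_2 lc_b_rc_10_2 lc_b_Cert_tree lc_b_rc_9_2 lc_b_rc_8_2 lc_b_rc_6_1 lc_b_Cert_tree lc_b_rc_8_2 lc_b_rc_9_2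 lc_b_rc_7_4 lc_b_rc_9_2 lc_b_Cert_tree lc_b_rc_9_2 lc_b_rc_26_5 lc_b_Cert_tree lc_b_rc_6_1 lc_b_rc_8_2 lc_b_rc_9_2 lc_b_rc_6_1 lc_b_rc_6_1 lc_b_rc_8_2 lc_b_rc_10_2 lc_b_rc_8_2 lc_b_rc_8_2 lc_b_rc_6_1 lc_b_rc_6_1 lc_b_Cert_tree lc_b_rc_10_2 lc_b_Cert_tree lc_b_rc_7_2 lc_b_rc_1_3 lc_b_rc_9_2 lc_b_Cert_tree lc_b_Cert_tree lc_b_rc_8_2 lc_b_rc_10_2 lc_b_rc_6_1 lc_b_rc_6_1 lc_b_rc_8_2 lc_b_rc_9_2 lc_b_Cert_tree lc_b_rc_9_2 lc_b_rc_9_2 lc_b_Cert_tree lc_b_rc_8_2 lc_b_Cert_tree lc_b_rc_10_2 lc_b_rc_8_2 lc_b_Cert_tree lc_b_rc_9_2 lc_b_Cert_tree lc_b_rc_9_2 lc_b_rc_6_1 lc_b_Cert_tree lc_b_Cert_tree lc_b_rc_9_2) (@D3.rec (fun _ => (Cert rels S Gen.b))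 lc_b_Cert_tree lc_b_Cert_tree lc_b_rc_6_1 lc_b_rc_8_2 lc_b_rc_10_2 lc_b_rc_9_2 lc_b_rc_1_5 lc_b_rc_9_2 lc_b_rc_6_1 lc_b_rc_8_2 lc_b_rc_10_2 lc_b_Cert_tree lc_b_rc_26_5 lc_b_rc_8_2 lc_b_rc_10_2 lc_b_rc_6_1 lc_b_Cert_tree lc_b_rc_6_1 lc_b_rc_8_2 lc_b_rc_8_0 lc_b_rc_26_5 lc_b_Cert_tree lc_b_rc_9_2 lc_b_rc_6_1 lc_b_Cert_tree lc_b_rc_6_1 lc_b_rc_8_2 lc_b_rc_9_2 lc_b_rc_26_5 lc_b_rc_10_2 lc_b_rc_8_2 lc_b_Cert_tree lc_b_rc_9_2 lc_b_rc_6_1 lc_b_rc_8_2 lc_b_rc_9_2 lc_b_rc_10_2 lc_b_rc_6_1 lc_b_rc_8_2 lc_b_rc_6_1 lc_b_rc_8_2 lc_b_rc_9_2 lc_b_rc_6_1 lc_b_rc_8_2 lc_b_rc_8_2 lc_b_rc_9_2 lc_b_Cert_tree lc_b_Cert_tree lc_b_rc_1_3 lc_b_rc_8_2 lc_b_rc_10_2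 lc_b_Cert_tree lc_b_Cert_tree lc_b_Cert_tree lc_b_rc_9_2 lc_b_rc_10_2 lc_b_rc_9_2 lc_b_Cert_tree lc_b_rc_1_1 lc_b_rc_9_2 lc_b_rc_8_2 lc_b_rc_10_2) (@D3.rec (fun _ => (Cert rels S Gen.b)) lc_b_rc_6_1 lc_b_rc_8_2 lc_b_rc_9_2 lc_b_rc_8_2 lc_b_rc_8_2 lc_b_rc_9_2 lc_b_rc_8_2 lc_b_rc_9_2 lc_b_rc_26_5 lc_b_rc_26_5 lc_b_rc_10_2 lc_b_rc_9_2 lc_b_rc_8_2 lc_b_rc_10_2 lc_b_rc_9_2 lc_b_rc_8_2 lc_b_rc_9_2 lc_b_rc_8_2 lc_b_rc_9_2 lc_b_rc_8_2 lc_b_rc_9_2 lc_b_rc_8_2 lc_b_rc_10_2 lc_b_rc_8_2 lc_b_rc_26_5 lc_b_rc_8_2 lc_b_rc_10_2 lc_b_Cert_tree lc_b_rc_6_1 lc_b_rc_1_3 lc_b_rc_9_2 lc_b_rc_8_2 lc_b_rc_10_2 lc_b_rc_6_1 lc_b_rc_8_2 lc_b_rc_9_2 lc_b_rc_6_1 lc_b_rc_8_2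 lc_b_rc_9_2 lc_b_Cert_tree lc_b_Cert_tree lc_b_Cert_tree lc_b_rc_10_2 lc_b_rc_6_1 lc_b_rc_6_1 lc_b_rc_9_2 lc_b_rc_6_1 lc_b_rc_8_2 lc_b_rc_10_2 lc_b_rc_9_2 lc_b_Cert_tree lc_b_Cert_tree lc_b_rc_1_3 lc_b_rc_9_2 lc_b_Cert_tree lc_b_Cert_tree lc_b_rc_8_2 lc_b_rc_10_2 lc_b_rc_6_1 lc_b_Cert_tree lc_b_rc_8_2 lc_b_Cert_tree) (@D3.rec (fun _ => (Cert rels S Gen.b)) lc_b_rc_8_2 lc_b_rc_8_2 lc_b_Cert_tree lc_b_rc_9_2 lc_b_Cert_tree lc_b_rc_10_2 lc_b_rc_7_0 lc_b_Cert_tree lc_b_rc_8_2 lc_b_rc_10_2 lc_b_rc_9_2 lc_b_Cert_tree lc_b_Cert_tree lc_b_rc_8_2 lc_b_rc_10_2 lc_b_Cert_tree lc_b_rc_9_2 lc_b_rc_6_1 lc_b_Cert_tree lc_b_rc_8_2 lc_b_rc_9_2 lc_b_rc_6_1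 lc_b_Cert_tree lc_b_Cert_tree lc_b_rc_10_2 lc_b_rc_6_1 lc_b_Cert_tree lc_b_rc_9_2 lc_b_rc_9_2 lc_b_rc_8_2 lc_b_rc_10_2 lc_b_Cert_tree lc_b_rc_9_2 lc_b_rc_7_2 lc_b_rc_9_2 lc_b_rc_8_2 lc_b_rc_10_2 lc_b_rc_6_1 lc_b_rc_26_1 lc_b_rc_9_2 lc_b_rc_6_1 lc_b_rc_9_2 lc_b_rc_1_3 lc_b_rc_9_2 lc_b_rc_6_1 lc_b_rc_6_1 lc_b_rc_26_7 lc_b_rc_9_2 lc_b_Cert_tree lc_b_Cert_tree lc_b_rc_8_2 lc_b_rc_10_2 lc_b_Cert_tree lc_b_Cert_tree lc_b_rc_8_2 lc_b_rc_10_2 lc_b_rc_6_1 lc_b_rc_8_2 lc_b_rc_9_2 lc_b_rc_6_1 lc_b_rc_8_2 lc_b_rc_9_2) (@D3.rec (fun _ => (Cert rels S Gen.b)) lc_b_Cert_tree lc_b_Cert_tree lc_b_Cert_tree lc_b_rc_10_2 lc_b_rc_6_1 lc_b_rc_8_2 lc_b_rc_9_2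 lc_b_Cert_tree lc_b_rc_26_5 lc_b_Cert_tree lc_b_rc_8_2 lc_b_rc_8_2 lc_b_rc_26_5 lc_b_rc_10_2 lc_b_rc_6_1 lc_b_rc_8_2 lc_b_rc_9_2 lc_b_rc_6_1 lc_b_rc_8_2 lc_b_rc_9_2 lc_b_Cert_tree lc_b_rc_9_2 lc_b_rc_8_2 lc_b_Cert_tree lc_b_rc_8_2 lc_b_rc_9_2 lc_b_rc_6_1 lc_b_Cert_tree lc_b_rc_8_2 lc_b_rc_9_2 lc_b_Cert_tree lc_b_Cert_tree lc_b_rc_6_1 lc_b_rc_8_2 lc_b_rc_10_2 lc_b_rc_9_2 lc_b_rc_6_1 lc_b_Cert_tree lc_b_rc_9_2 lc_b_Cert_tree lc_b_Cert_tree lc_b_rc_6_1 lc_b_rc_8_2 lc_b_rc_9_2 lc_b_Cert_tree lc_b_rc_9_2 lc_b_rc_10_2 lc_b_rc_8_2 lc_b_rc_26_5 lc_b_rc_8_0 lc_b_rc_8_0 lc_b_rc_9_2 lc_b_rc_6_1 lc_b_rc_8_2 lc_b_rc_9_2 lc_b_Cert_tree lc_b_rc_8_2 lc_b_rc_6_1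 lc_b_rc_8_2 lc_b_Cert_tree lc_b_rc_9_2 lc_b_rc_6_1) (@D3.rec (fun _ => (Cert rels S Gen.b)) lc_b_rc_8_2 lc_b_rc_9_2 lc_b_rc_8_2 lc_b_Cert_tree lc_b_rc_10_2 lc_b_rc_6_1 lc_b_rc_8_2 lc_b_rc_9_2 lc_b_rc_6_1 lc_b_rc_8_2 lc_b_rc_9_2 lc_b_Cert_tree lc_b_Cert_tree lc_b_rc_1_3 lc_b_rc_8_2 lc_b_rc_10_2 lc_b_Cert_tree lc_b_Cert_tree lc_b_rc_9_2 lc_b_rc_9_2 lc_b_rc_9_2 lc_b_rc_1_3 lc_b_rc_9_2 lc_b_rc_9_2 lc_b_rc_1_1 lc_b_rc_26_1 lc_b_rc_6_1 lc_b_rc_9_2 lc_b_rc_10_2 lc_b_Cert_tree lc_b_Cert_tree lc_b_rc_7_4 lc_b_rc_1_3 lc_b_rc_9_2 lc_b_Cert_tree lc_b_Cert_tree lc_b_rc_8_2 lc_b_rc_10_2 lc_b_Cert_tree lc_b_rc_8_2 lc_b_rc_9_2 lc_b_rc_6_1 lc_b_Cert_tree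 lc_b_rc_8_2 lc_b_rc_9_2 lc_b_rc_26_5 lc_b_Cert_tree lc_b_Cert_tree lc_b_rc_10_2 lc_b_rc_6_1 lc_b_rc_8_2 lc_b_rc_10_2 lc_b_rc_9_2 lc_b_rc_10_0 lc_b_rc_1_1 lc_b_rc_8_2 lc_b_rc_9_2 lc_b_rc_6_1 lc_b_rc_9_2 lc_b_rc_6_1 lc_b_rc_9_2 lc_b_Cert_tree) (@D3.rec (fun _ => (Cert rels S Gen.b)) lc_b_Cert_tree lc_b_rc_1_3 lc_b_rc_8_2 lc_b_rc_10_2 lc_b_Cert_tree lc_b_rc_9_2 lc_b_rc_10_2 lc_b_rc_9_2 lc_b_rc_8_2 lc_b_Cert_tree lc_b_rc_9_2 lc_b_rc_8_2 lc_b_rc_26_1 lc_b_rc_26_7 lc_b_rc_8_0 lc_b_Cert_tree lc_b_rc_9_2 lc_b_rc_6_1 lc_b_Cert_tree lc_b_rc_9_2 lc_b_rc_6_1 lc_b_rc_9_2 lc_b_Cert_tree lc_b_rc_9_2 lc_b_rc_10_2 lc_b_rc_6_1 lc_b_rc_8_2 lc_b_rc_9_2 lc_b_rc_6_1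 lc_b_rc_8_2 lc_b_rc_9_2 lc_b_rc_6_1 lc_b_rc_8_2 lc_b_Cert_tree lc_b_Cert_tree lc_b_rc_1_3 lc_b_rc_8_2 lc_b_rc_9_2 lc_b_Cert_tree lc_b_rc_9_2 lc_b_Cert_tree lc_b_Cert_tree lc_b_rc_8_2 lc_b_rc_10_2 lc_b_Cert_tree lc_b_Cert_tree lc_b_rc_1_5 lc_b_Cert_tree lc_b_rc_9_2 lc_b_rc_6_1 lc_b_rc_9_2 lc_b_rc_9_2 lc_b_Cert_tree lc_b_rc_10_2 lc_b_Cert_tree lc_b_Cert_tree lc_b_rc_1_3 lc_b_rc_8_2 lc_b_rc_9_2 lc_b_rc_9_2 lc_b_Cert_tree lc_b_Cert_tree) (@D3.rec (fun _ => (Cert rels S Gen.b)) lc_b_rc_8_2 lc_b_rc_10_2 lc_b_rc_6_1 lc_b_Cert_tree lc_b_Cert_tree lc_b_rc_1_3 lc_b_rc_8_2 lc_b_Cert_tree lc_b_Cert_tree lc_b_rc_9_2 lc_b_rc_6_1 lc_b_Cert_tree lc_b_rc_1_3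 lc_b_rc_8_2 lc_b_rc_9_2 lc_b_Cert_tree lc_b_Cert_tree lc_b_Cert_tree lc_b_Cert_tree lc_b_rc_7_4 lc_b_Cert_tree lc_b_rc_1_3 lc_b_rc_8_2 lc_b_rc_9_2 lc_b_rc_6_1 lc_b_Cert_tree lc_b_rc_1_3 lc_b_rc_8_2 lc_b_rc_9_2 lc_b_rc_9_2 lc_b_rc_26_1 lc_b_rc_1_3 lc_b_rc_10_2 lc_b_Cert_tree lc_b_rc_6_1 lc_b_Cert_tree lc_b_rc_8_2 lc_b_rc_10_2 lc_b_rc_6_1 lc_b_rc_7_2 lc_b_rc_8_2 lc_b_rc_9_2 lc_b_rc_1_3 lc_b_Cert_tree lc_b_Cert_tree lc_b_Cert_tree lc_b_rc_9_2 lc_b_rc_10_2 lc_b_rc_9_2 lc_b_rc_6_1 lc_b_rc_9_2 lc_b_rc_6_1 lc_b_rc_9_2 lc_b_rc_6_1 lc_b_rc_9_2 lc_b_Cert_tree lc_b_Cert_tree lc_b_rc_10_2 lc_b_rc_9_2 lc_b_Cert_tree lc_b_Cert_tree lc_b_rc_8_2) (@D3.rec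 (fun _ => (Cert rels S Gen.b)) lc_b_rc_6_1 lc_b_rc_8_2 lc_b_rc_9_2 lc_b_rc_9_2 lc_b_rc_9_2 lc_b_rc_6_1 lc_b_rc_9_2 lc_b_rc_26_5 lc_b_rc_8_2 lc_b_rc_10_2 lc_b_rc_6_1 lc_b_rc_10_2 lc_b_rc_9_2 lc_b_rc_9_2 lc_b_rc_7_0 lc_b_Cert_tree lc_b_rc_1_3 lc_b_rc_8_2 lc_b_rc_10_2 lc_b_Cert_tree lc_b_rc_9_2 lc_b_rc_10_2 lc_b_rc_9_2 lc_b_Cert_tree lc_b_Cert_tree lc_b_rc_1_3 lc_b_rc_8_2 lc_b_rc_9_2 lc_b_rc_26_5 lc_b_rc_8_2 lc_b_rc_10_2 lc_b_rc_6_1 lc_b_Cert_tree lc_b_rc_10_2 lc_b_rc_9_2 lc_b_rc_8_2 lc_b_rc_10_2 lc_b_rc_6_1 lc_b_Cert_tree lc_b_rc_9_2 lc_b_rc_9_2 lc_b_rc_8_2 lc_b_rc_10_2 lc_b_Cert_tree lc_b_rc_6_1 lc_b_Cert_tree lc_b_rc_8_2 lc_b_rc_7_4 lc_b_rc_6_1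 lc_b_rc_1_5 lc_b_rc_8_2 lc_b_rc_9_2 lc_b_rc_8_2 lc_b_Cert_tree lc_b_Cert_tree lc_b_rc_7_4 lc_b_rc_9_2 lc_b_rc_9_2 lc_b_Cert_tree lc_b_Cert_tree lc_b_rc_10_2 lc_b_rc_8_2) (@D3.rec (fun _ => (Cert rels S Gen.b)) lc_b_rc_10_2 lc_b_Cert_tree lc_b_rc_6_1 lc_b_Cert_tree lc_b_rc_9_2 lc_b_rc_10_2 lc_b_rc_6_1 lc_b_Cert_tree lc_b_rc_9_2 lc_b_rc_8_2 lc_b_Cert_tree lc_b_Cert_tree lc_b_Cert_tree lc_b_rc_9_2 lc_b_rc_10_2 lc_b_rc_9_2 lc_b_rc_6_1 lc_b_rc_9_2 lc_b_Cert_tree lc_b_Cert_tree lc_b_rc_10_2 lc_b_rc_9_2 lc_b_rc_8_2 lc_b_rc_6_1 lc_b_Cert_tree lc_b_rc_1_3 lc_b_rc_7_2 lc_b_rc_9_2 lc_b_rc_8_2 lc_b_rc_6_1 lc_b_Cert_tree lc_b_rc_8_2 lc_b_rc_9_2 lc_b_rc_6_1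 lc_b_rc_26_5 lc_b_rc_8_2 lc_b_rc_26_1 lc_b_rc_9_2 lc_b_Cert_tree lc_b_Cert_tree lc_b_rc_7_4 lc_b_rc_9_2 lc_b_Cert_tree lc_b_Cert_tree lc_b_rc_8_2 lc_b_rc_10_2 lc_b_Cert_tree lc_b_Cert_tree lc_b_rc_8_2 lc_b_rc_10_2 lc_b_rc_6_1 lc_b_rc_6_1 lc_b_rc_8_2 lc_b_Cert_tree lc_b_rc_10_2 lc_b_Cert_tree lc_b_rc_6_1 lc_b_rc_6_1 lc_b_rc_8_2 lc_b_rc_6_1 lc_b_rc_26_1 lc_b_rc_8_2) (@D3.rec (fun _ => (Cert rels S Gen.b)) lc_b_rc_6_1 lc_b_rc_26_5 lc_b_rc_8_2 lc_b_rc_9_2 lc_b_rc_8_2 lc_b_rc_10_2 lc_b_Cert_tree lc_b_Cert_tree lc_b_rc_6_1 lc_b_rc_9_2 lc_b_Cert_tree lc_b_rc_8_2 lc_b_rc_10_2 lc_b_Cert_tree lc_b_Cert_tree lc_b_rc_8_2 lc_b_rc_10_2 lc_b_Cert_tree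 lc_b_rc_10_2 lc_b_rc_6_1 lc_b_Cert_tree lc_b_rc_9_2 lc_b_rc_6_1 lc_b_rc_26_5 lc_b_rc_8_2 lc_b_rc_7_4 lc_b_rc_9_2 lc_b_Cert_tree lc_b_rc_10_2 lc_b_rc_6_1 lc_b_rc_26_7 lc_b_rc_6_1 lc_b_rc_26_5 lc_b_rc_1_3 lc_b_rc_9_2 lc_b_rc_7_4 lc_b_rc_9_2 lc_b_Cert_tree lc_b_Cert_tree lc_b_rc_8_2 lc_b_Cert_tree lc_b_rc_6_1 lc_b_rc_7_4 lc_b_rc_8_2 lc_b_rc_7_4 lc_b_rc_6_1 lc_b_rc_26_5 lc_b_rc_8_2 lc_b_rc_8_2 lc_b_rc_6_1 lc_b_Cert_tree lc_b_rc_7_4 lc_b_rc_9_2 lc_b_Cert_tree lc_b_Cert_tree lc_b_rc_10_2 lc_b_rc_7_4 lc_b_rc_8_2 lc_b_rc_6_1 lc_b_rc_26_5 lc_b_rc_8_2 lc_b_rc_9_2) (@D3.rec (fun _ => (Cert rels S Gen.b)) lc_b_rc_1_3 lc_b_rc_1_3 lc_b_rc_9_2 lc_b_Cert_tree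 lc_b_Cert_tree lc_b_rc_8_2 lc_b_rc_9_2 lc_b_rc_6_1 lc_b_Cert_tree lc_b_rc_7_4 lc_b_rc_9_2 lc_b_rc_6_1 lc_b_Cert_tree lc_b_rc_1_3 lc_b_rc_9_2 lc_b_rc_6_1 lc_b_rc_26_5 lc_b_rc_6_1 lc_b_rc_1_1 lc_b_Cert_tree lc_b_rc_8_2 lc_b_rc_10_2 lc_b_rc_7_2 lc_b_rc_6_1 lc_b_rc_6_1 lc_b_rc_8_2 lc_b_rc_10_2 lc_b_Cert_tree lc_b_rc_9_2 lc_b_rc_9_2 lc_b_rc_1_1 lc_b_rc_8_2 lc_b_rc_9_2 lc_b_rc_6_1 lc_b_rc_8_2 lc_b_rc_9_2 lc_b_Cert_tree lc_b_rc_9_2 lc_b_rc_7_2 lc_b_Cert_tree lc_b_Cert_tree lc_b_Cert_tree lc_b_rc_9_2 lc_b_rc_6_1 lc_b_Cert_tree lc_b_rc_9_2 lc_b_rc_6_1 lc_b_Cert_tree lc_b_rc_9_2 lc_b_Cert_tree lc_b_Cert_tree lc_b_rc_6_1 lc_b_rc_8_2 lc_b_rc_9_2 lc_b_rc_7_4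 lc_b_Cert_tree lc_b_Cert_tree lc_b_rc_10_2 lc_b_rc_9_2 lc_b_Cert_tree lc_b_Cert_tree lc_b_rc_8_2) (@D3.rec (fun _ => (Cert rels S Gen.b)) lc_b_rc_26_5 lc_b_rc_7_4 lc_b_rc_9_2 lc_b_Cert_tree lc_b_rc_26_7 lc_b_rc_10_2 lc_b_rc_8_2 lc_b_rc_7_4 lc_b_rc_9_2 lc_b_Cert_tree lc_b_rc_8_2 lc_b_rc_10_2 lc_b_rc_6_1 lc_b_Cert_tree lc_b_rc_1_3 lc_b_rc_9_2 lc_b_Cert_tree lc_b_Cert_tree lc_b_rc_8_2 lc_b_rc_10_2 lc_b_rc_6_1 lc_b_Cert_tree lc_b_rc_8_2 lc_b_rc_9_2 lc_b_rc_6_1 lc_b_Cert_tree lc_b_rc_9_2 lc_b_rc_9_2 lc_b_rc_8_2 lc_b_rc_6_1 lc_b_Cert_tree lc_b_Cert_tree lc_b_rc_6_1 lc_b_rc_9_2 lc_b_rc_6_1 lc_b_rc_8_2 lc_b_rc_10_2 lc_b_rc_1_5 lc_b_rc_26_7 lc_b_Cert_tree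 lc_b_rc_6_1 lc_b_rc_6_1 lc_b_rc_1_3 lc_b_rc_9_2 lc_b_rc_8_2 lc_b_rc_10_2 lc_b_rc_8_2 lc_b_rc_9_2 lc_b_rc_6_1 lc_b_rc_8_2 lc_b_rc_9_2 lc_b_rc_26_5 lc_b_Cert_tree lc_b_Cert_tree lc_b_rc_10_2 lc_b_rc_6_1 lc_b_rc_8_2 lc_b_rc_9_2 lc_b_rc_26_1 lc_b_rc_8_2 lc_b_rc_10_2 lc_b_rc_26_1) (@D3.rec (fun _ => (Cert rels S Gen.b)) lc_b_Cert_tree lc_b_rc_9_2 lc_b_rc_26_1 lc_b_rc_8_2 lc_b_rc_10_2 lc_b_rc_26_1 lc_b_rc_26_1 lc_b_Cert_tree lc_b_rc_10_2 lc_b_rc_6_1 lc_b_rc_7_0 lc_b_rc_9_2 lc_b_rc_26_1 lc_b_rc_6_1 lc_b_rc_1_1 lc_b_rc_9_2 lc_b_rc_26_5 lc_b_rc_8_2 lc_b_rc_10_2 lc_b_rc_9_2 lc_b_rc_6_1 lc_b_rc_8_2 lc_b_rc_8_2 lc_b_rc_10_2 lc_b_rc_9_2 lc_b_rc_7_0 lc_b_rc_9_2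 lc_b_rc_9_2 lc_b_rc_9_2 lc_b_Cert_tree lc_b_Cert_tree lc_b_rc_8_2 lc_b_rc_10_2 lc_b_rc_26_1 lc_b_rc_8_2 lc_b_rc_9_2 lc_b_Cert_tree lc_b_rc_8_2 lc_b_rc_8_2 lc_b_rc_9_2 lc_b_rc_6_1 lc_b_rc_8_2 lc_b_rc_10_2 lc_b_Cert_tree lc_b_rc_6_1 lc_b_rc_1_3 lc_b_rc_9_2 lc_b_rc_8_2 lc_b_rc_10_2 lc_b_rc_6_1 lc_b_rc_8_2 lc_b_rc_9_2 lc_b_rc_8_2 lc_b_rc_9_2 lc_b_Cert_tree lc_b_rc_6_1 lc_b_Cert_tree lc_b_rc_10_2 lc_b_Cert_tree lc_b_rc_26_5 lc_b_rc_1_3 lc_b_rc_9_2) (@D3.rec (fun _ => (Cert rels S Gen.b)) lc_b_Cert_tree lc_b_Cert_tree lc_b_rc_8_2 lc_b_rc_10_2 lc_b_rc_8_2 lc_b_rc_9_2 lc_b_rc_9_2 lc_b_rc_9_2 lc_b_rc_26_1 lc_b_rc_8_2 lc_b_Cert_tree lc_b_rc_10_2 lc_b_rc_25_0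 lc_b_rc_9_2 lc_b_rc_6_1 lc_b_rc_8_0 lc_b_rc_9_2 lc_b_rc_10_2 lc_b_Cert_tree lc_b_Cert_tree lc_b_rc_8_2 lc_b_rc_10_2 lc_b_rc_6_1 lc_b_rc_8_2 lc_b_rc_9_2 lc_b_rc_6_1 lc_b_rc_8_2 lc_b_rc_9_2 lc_b_Cert_tree lc_b_Cert_tree lc_b_Cert_tree lc_b_rc_10_2 lc_b_rc_1_5 lc_b_rc_8_2 lc_b_rc_9_2 lc_b_rc_6_1 lc_b_rc_8_2 lc_b_rc_9_2 lc_b_Cert_tree lc_b_Cert_tree lc_b_rc_9_2 lc_b_rc_6_1 lc_b_rc_8_2 lc_b_rc_10_2 lc_b_rc_6_1 lc_b_rc_8_2 lc_b_rc_9_2 lc_b_Cert_tree lc_b_rc_8_2 lc_b_rc_26_7 lc_b_rc_10_2 lc_b_rc_6_1 lc_b_rc_9_2 lc_b_rc_26_5 lc_b_rc_8_2 lc_b_rc_10_2 lc_b_rc_26_7 lc_b_Cert_tree lc_b_rc_1_3 lc_b_rc_8_2 lc_b_rc_9_2 lc_b_rc_9_2) (@D3.rec (fun _ => (Cert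 rels S Gen.b)) lc_b_rc_9_2 lc_b_rc_8_2 lc_b_rc_10_2 lc_b_rc_6_1 lc_b_rc_8_0 lc_b_rc_9_2 lc_b_rc_6_1 lc_b_rc_9_2 lc_b_rc_10_2 lc_b_rc_6_1 lc_b_Cert_tree lc_b_rc_8_2 lc_b_rc_10_2 lc_b_rc_6_1 lc_b_rc_8_2 lc_b_rc_9_2 lc_b_rc_6_1 lc_b_rc_8_2 lc_b_rc_9_2 lc_b_Cert_tree lc_b_Cert_tree lc_b_Cert_tree lc_b_rc_10_2 lc_b_rc_6_1 lc_b_rc_8_2 lc_b_rc_9_2 lc_b_Cert_tree lc_b_Cert_tree lc_b_rc_8_2 lc_b_rc_9_2 lc_b_rc_9_2 lc_b_rc_10_2 lc_b_rc_6_1 lc_b_rc_8_2 lc_b_rc_9_2 lc_b_rc_6_1 lc_b_rc_8_2 lc_b_rc_9_2 lc_b_Cert_tree lc_b_rc_8_2 lc_b_rc_8_2 lc_b_rc_10_2 lc_b_rc_9_2 lc_b_rc_8_2 lc_b_rc_8_2 lc_b_rc_10_2 lc_b_rc_6_1 lc_b_rc_9_2 lc_b_rc_6_1 lc_b_rc_8_2 lc_b_rc_10_2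 lc_b_rc_8_2 lc_b_rc_9_2 lc_b_rc_6_1 lc_b_rc_26_1 lc_b_rc_9_2 lc_b_rc_26_7 lc_b_rc_26_5 lc_b_rc_8_2 lc_b_rc_9_2 lc_b_rc_9_2 lc_b_rc_26_5) (@D3.rec (fun _ => (Cert rels S Gen.b)) lc_b_Cert_tree lc_b_rc_8_2 lc_b_rc_10_2 lc_b_Cert_tree lc_b_rc_8_2 lc_b_rc_9_2 lc_b_Cert_tree lc_b_rc_8_2 lc_b_rc_9_2 lc_b_rc_6_1 lc_b_rc_6_1 lc_b_Cert_tree lc_b_rc_10_2 lc_b_Cert_tree lc_b_rc_9_2 lc_b_Cert_tree lc_b_rc_9_2 lc_b_Cert_tree lc_b_Cert_tree lc_b_rc_10_2 lc_b_rc_9_2 lc_b_rc_6_1 lc_b_Cert_tree lc_b_rc_6_1 lc_b_rc_8_2 lc_b_rc_10_2 lc_b_rc_9_2 lc_b_rc_6_1 lc_b_rc_9_2 lc_b_rc_9_2 lc_b_rc_9_2 lc_b_Cert_tree lc_b_rc_7_0 lc_b_rc_8_2 lc_b_rc_10_2 lc_b_rc_6_1 lc_b_rc_8_2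 lc_b_rc_9_2 lc_b_rc_6_1 lc_b_rc_8_2 lc_b_rc_9_2 lc_b_Cert_tree lc_b_Cert_tree lc_b_Cert_tree lc_b_rc_10_2 lc_b_rc_8_2 lc_b_rc_9_2 lc_b_rc_8_2 lc_b_rc_9_2 lc_b_rc_6_1 lc_b_rc_26_5 lc_b_Cert_tree lc_b_rc_9_2 lc_b_rc_6_1 lc_b_rc_10_2 lc_b_rc_6_1 lc_b_rc_8_2 lc_b_rc_9_2 lc_b_Cert_tree lc_b_rc_8_2 lc_b_rc_6_1 lc_b_Cert_tree) (@D3.rec (fun _ => (Cert rels S Gen.b)) lc_b_rc_8_2 lc_b_rc_9_2 lc_b_Cert_tree lc_b_rc_8_2 lc_b_Cert_tree lc_b_Cert_tree lc_b_rc_6_1 lc_b_rc_8_2 lc_b_rc_10_2 lc_b_rc_9_2 lc_b_rc_8_2 lc_b_rc_9_2 lc_b_rc_6_1 lc_b_rc_8_2 lc_b_rc_9_2 lc_b_rc_26_1 lc_b_rc_9_2 lc_b_rc_10_2 lc_b_rc_6_1 lc_b_rc_8_2 lc_b_rc_1_5 lc_b_rc_6_1 lc_b_rc_8_2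 lc_b_rc_10_2 lc_b_rc_8_0 lc_b_rc_6_1 lc_b_rc_8_2 lc_b_rc_6_1 lc_b_rc_8_2 lc_b_rc_9_2 lc_b_rc_8_2 lc_b_rc_26_1 lc_b_rc_10_2 lc_b_rc_6_1 lc_b_rc_8_2 lc_b_rc_9_2 lc_b_rc_6_1 lc_b_rc_8_2 lc_b_rc_9_2 lc_b_Cert_tree lc_b_Cert_tree lc_b_rc_1_3 lc_b_rc_8_2 lc_b_rc_10_2 lc_b_Cert_tree lc_b_Cert_tree lc_b_rc_9_2 lc_b_rc_9_2 lc_b_Cert_tree lc_b_rc_26_5 lc_b_Cert_tree lc_b_rc_6_1 lc_b_rc_9_2 lc_b_rc_8_2 lc_b_rc_9_2 lc_b_Cert_tree lc_b_rc_10_2 lc_b_rc_6_1 lc_b_rc_8_2 lc_b_rc_6_1 lc_b_Cert_tree lc_b_rc_1_3) (@D3.rec (fun _ => (Cert rels S Gen.b)) lc_b_rc_8_2 lc_b_Cert_tree lc_b_rc_9_2 lc_b_rc_9_2 lc_b_rc_6_1 lc_b_rc_9_2 lc_b_rc_9_2 lc_b_Cert_tree lc_b_rc_10_2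 lc_b_rc_6_1 lc_b_rc_6_1 lc_b_rc_26_1 lc_b_rc_10_2 lc_b_rc_8_2 lc_b_rc_9_2 lc_b_rc_9_2 lc_b_rc_7_4 lc_b_Cert_tree lc_b_rc_8_2 lc_b_rc_10_2 lc_b_Cert_tree lc_b_rc_26_5 lc_b_rc_8_0 lc_b_Cert_tree lc_b_rc_9_2 lc_b_rc_6_1 lc_b_rc_9_2 lc_b_rc_9_2 lc_b_rc_8_2 lc_b_rc_10_2 lc_b_Cert_tree lc_b_Cert_tree lc_b_rc_1_3 lc_b_rc_8_2 lc_b_rc_9_2 lc_b_rc_9_2 lc_b_rc_8_2 lc_b_rc_10_2 lc_b_rc_6_1 lc_b_rc_26_1 lc_b_rc_1_3 lc_b_rc_8_2 lc_b_rc_9_2 lc_b_Cert_tree lc_b_Cert_tree lc_b_rc_1_3 lc_b_rc_8_2 lc_b_rc_9_2 lc_b_rc_8_0 lc_b_rc_8_2 lc_b_rc_7_4 lc_b_Cert_tree lc_b_rc_1_3 lc_b_rc_8_2 lc_b_rc_9_2 lc_b_rc_9_2 lc_b_rc_8_2 lc_b_rc_10_2 lc_b_Cert_tree lc_b_rc_6_1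 lc_b_rc_26_5 lc_b_rc_8_2) (@D3.rec (fun _ => (Cert rels S Gen.b)) lc_b_rc_6_1 lc_b_rc_6_1 lc_b_rc_26_5 lc_b_rc_1_3 lc_b_rc_1_3 lc_b_rc_1_3 lc_b_Cert_tree lc_b_Cert_tree lc_b_Cert_tree lc_b_rc_9_2 lc_b_rc_10_2 lc_b_rc_9_2 lc_b_rc_6_1 lc_b_rc_9_2 lc_b_rc_6_1 lc_b_rc_9_2 lc_b_rc_6_1 lc_b_rc_9_2 lc_b_Cert_tree lc_b_Cert_tree lc_b_rc_10_2 lc_b_rc_9_2 lc_b_rc_6_1 lc_b_rc_8_2 lc_b_rc_6_1 lc_b_rc_9_2 lc_b_rc_9_2 lc_b_Cert_tree lc_b_Cert_tree lc_b_rc_8_2 lc_b_rc_10_2 lc_b_Cert_tree lc_b_Cert_tree lc_b_Cert_tree lc_b_rc_10_2 lc_b_rc_7_4 lc_b_rc_8_2 lc_b_rc_9_2 lc_b_Cert_tree lc_b_rc_9_2 lc_b_rc_10_2 lc_b_Cert_tree lc_b_rc_10_2 lc_b_rc_8_2 lc_b_Cert_tree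 lc_b_rc_8_2 lc_b_rc_10_2 lc_b_rc_8_2 lc_b_rc_9_2 lc_b_rc_8_2 lc_b_rc_9_2 lc_b_rc_8_2 lc_b_rc_10_2 lc_b_Cert_tree lc_b_Cert_tree lc_b_Cert_tree lc_b_rc_10_2 lc_b_Cert_tree lc_b_rc_9_2 lc_b_rc_10_2 lc_b_Cert_tree lc_b_rc_10_2) (@D3.rec (fun _ => (Cert rels S Gen.b)) lc_b_rc_7_2 lc_b_rc_9_2 lc_b_rc_8_2 lc_b_rc_10_2 lc_b_rc_9_2 lc_b_rc_26_7 lc_b_rc_8_2 lc_b_rc_26_5 lc_b_rc_10_2 lc_b_rc_9_2 lc_b_rc_8_2 lc_b_rc_9_2 lc_b_rc_26_7 lc_b_rc_10_2 lc_b_rc_6_1 lc_b_rc_26_1 lc_b_rc_9_2 lc_b_rc_26_5 lc_b_rc_9_2 lc_b_rc_9_2 lc_b_Cert_tree lc_b_Cert_tree lc_b_rc_8_2 lc_b_rc_10_2 lc_b_Cert_tree lc_b_Cert_tree lc_b_Cert_tree lc_b_rc_10_2 lc_b_rc_8_2 lc_b_rc_9_2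 lc_b_rc_6_1 lc_b_Cert_tree lc_b_rc_9_2 lc_b_rc_10_2 lc_b_rc_9_2 lc_b_rc_8_2 lc_b_rc_9_2 lc_b_Cert_tree lc_b_rc_6_1 lc_b_rc_9_2 lc_b_rc_6_1 lc_b_rc_9_2 lc_b_rc_6_1 lc_b_rc_8_2 lc_b_rc_10_2 lc_b_rc_9_2 lc_b_rc_7_4 lc_b_rc_9_2 lc_b_rc_8_2 lc_b_rc_6_1 lc_b_rc_10_2 lc_b_Cert_tree lc_b_Cert_tree lc_b_rc_1_3 lc_b_rc_8_2 lc_b_rc_10_2 lc_b_rc_9_2 lc_b_rc_10_2 lc_b_rc_9_2 lc_b_Cert_tree lc_b_Cert_tree lc_b_rc_6_1) (@D3.rec (fun _ => (Cert rels S Gen.b)) lc_b_rc_9_2 lc_b_rc_6_1 lc_b_rc_9_2 lc_b_rc_9_2 lc_b_Cert_tree lc_b_Cert_tree lc_b_rc_8_2 lc_b_rc_10_2 lc_b_rc_6_1 lc_b_rc_8_2 lc_b_rc_6_1 lc_b_rc_8_2 lc_b_rc_9_2 lc_b_Cert_tree lc_b_Cert_tree lc_b_Cert_tree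 lc_b_rc_10_2 lc_b_Cert_tree lc_b_rc_8_2 lc_b_rc_6_1 lc_b_rc_8_2 lc_b_Cert_tree lc_b_rc_9_2 lc_b_Cert_tree lc_b_rc_6_1 lc_b_rc_8_2 lc_b_rc_9_2 lc_b_Cert_tree lc_b_rc_6_1 lc_b_rc_6_1 lc_b_Cert_tree lc_b_rc_9_2 lc_b_Cert_tree lc_b_rc_26_5 lc_b_Cert_tree lc_b_Cert_tree lc_b_rc_6_1 lc_b_rc_8_2 lc_b_rc_10_2 lc_b_rc_8_2 lc_b_rc_6_1 lc_b_rc_8_2 lc_b_rc_7_2 lc_b_rc_6_1 lc_b_rc_8_2 lc_b_rc_9_2 lc_b_rc_10_2 lc_b_Cert_tree lc_b_Cert_tree lc_b_rc_8_2 lc_b_rc_10_2 lc_b_rc_6_1 lc_b_rc_8_2 lc_b_rc_6_1 lc_b_rc_8_2 lc_b_rc_9_2 lc_b_Cert_tree lc_b_Cert_tree lc_b_Cert_tree lc_b_rc_10_2 lc_b_rc_6_1 lc_b_rc_8_2) (@D3.rec (fun _ => (Cert rels S Gen.b)) lc_b_rc_8_2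 lc_b_rc_6_1 lc_b_Cert_tree lc_b_Cert_tree lc_b_rc_8_2 lc_b_rc_9_2 lc_b_rc_6_1 lc_b_rc_8_2 lc_b_rc_9_2 lc_b_Cert_tree lc_b_rc_8_2 lc_b_Cert_tree lc_b_rc_9_2 lc_b_rc_6_1 lc_b_Cert_tree lc_b_rc_9_2 lc_b_Cert_tree lc_b_Cert_tree lc_b_rc_6_1 lc_b_rc_8_2 lc_b_rc_7_4 lc_b_rc_26_1 lc_b_rc_9_2 lc_b_rc_6_1 lc_b_rc_26_5 lc_b_rc_9_2 lc_b_rc_10_2 lc_b_Cert_tree lc_b_Cert_tree lc_b_rc_8_2 lc_b_rc_10_2 lc_b_Cert_tree lc_b_Cert_tree lc_b_Cert_tree lc_b_rc_10_2 lc_b_rc_6_1 lc_b_rc_9_2 lc_b_rc_25_0 lc_b_rc_10_2 lc_b_rc_6_1 lc_b_rc_7_2 lc_b_rc_9_2 lc_b_rc_6_1 lc_b_Cert_tree lc_b_rc_8_2 lc_b_rc_10_2 lc_b_Cert_tree lc_b_Cert_tree lc_b_Cert_tree lc_b_rc_10_2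 lc_b_rc_9_2 lc_b_rc_9_2 lc_b_rc_6_1 lc_b_rc_8_2 lc_b_rc_10_2 lc_b_rc_9_2 lc_b_rc_26_7 lc_b_rc_8_2 lc_b_rc_10_2 lc_b_rc_1_3 lc_b_Cert_tree lc_b_rc_6_1) (@D3.rec (fun _ => (Cert rels S Gen.b)) lc_b_rc_8_2 lc_b_rc_10_2 lc_b_rc_9_2 lc_b_rc_9_2 lc_b_rc_8_0 lc_b_rc_9_2 lc_b_Cert_tree lc_b_rc_7_2 lc_b_rc_8_2 lc_b_rc_10_2 lc_b_rc_6_1 lc_b_Cert_tree lc_b_rc_8_2 lc_b_rc_9_2 lc_b_rc_6_1 lc_b_rc_26_1 lc_b_rc_8_2 lc_b_rc_9_2 lc_b_Cert_tree lc_b_Cert_tree lc_b_Cert_tree lc_b_rc_10_2 lc_b_rc_6_1 lc_b_rc_8_2 lc_b_rc_9_2 lc_b_rc_6_1 lc_b_rc_8_2 lc_b_rc_9_2 lc_b_Cert_tree lc_b_Cert_tree lc_b_Cert_tree lc_b_rc_10_2 lc_b_rc_10_0 lc_b_rc_10_2 lc_b_rc_8_2 lc_b_rc_9_2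 lc_b_Cert_tree lc_b_rc_6_1 lc_b_Cert_tree lc_b_rc_9_2 lc_b_rc_7_2 lc_b_rc_10_2 lc_b_rc_1_1 lc_b_rc_26_1 lc_b_rc_9_2 lc_b_rc_8_2 lc_b_rc_9_2 lc_b_Cert_tree lc_b_rc_9_2 lc_b_rc_8_2 lc_b_rc_10_2 lc_b_rc_6_1 lc_b_Cert_tree lc_b_rc_8_2 lc_b_rc_9_2 lc_b_rc_6_1 lc_b_Cert_tree lc_b_rc_9_2 lc_b_Cert_tree lc_b_Cert_tree lc_b_rc_6_1 lc_b_rc_8_2) (@D3.rec (fun _ => (Cert rels S Gen.b)) lc_b_rc_10_2 lc_b_rc_9_2 lc_b_Cert_tree lc_b_rc_26_5 lc_b_rc_8_2 lc_b_rc_9_2 lc_b_Cert_tree lc_b_Cert_tree lc_b_Cert_tree lc_b_rc_9_2 lc_b_Cert_tree lc_b_rc_8_2 lc_b_rc_10_2 lc_b_rc_6_1 lc_b_Cert_tree lc_b_Cert_tree lc_b_Cert_tree lc_b_Cert_tree lc_b_rc_6_1 lc_b_rc_8_2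 lc_b_rc_9_2 lc_b_Cert_tree lc_b_rc_9_2 lc_b_rc_9_2 lc_b_Cert_tree lc_b_rc_8_2 lc_b_Cert_tree lc_b_rc_26_5 lc_b_rc_26_5 lc_b_rc_9_2 lc_b_rc_8_2 lc_b_Cert_tree lc_b_rc_8_2 lc_b_rc_9_2 lc_b_Cert_tree lc_b_rc_9_2 lc_b_rc_8_2 lc_b_rc_10_2 lc_b_rc_6_1 lc_b_rc_8_2 lc_b_rc_7_4 lc_b_rc_6_1 lc_b_rc_8_2 lc_b_rc_1_5 lc_b_Cert_tree lc_b_Cert_tree lc_b_rc_26_7 lc_b_rc_8_2 lc_b_rc_10_2 lc_b_rc_26_1 lc_b_rc_8_2 lc_b_rc_9_2 lc_b_rc_6_1 lc_b_rc_8_2 lc_b_rc_9_2 lc_b_Cert_tree lc_b_rc_9_0 lc_b_rc_8_2 lc_b_rc_10_2 lc_b_rc_6_1 lc_b_rc_8_2 lc_b_rc_9_2) (@D3.rec (fun _ => (Cert rels S Gen.b)) lc_b_rc_6_1 lc_b_rc_8_2 lc_b_rc_9_2 lc_b_Cert_tree lc_b_Cert_tree lc_b_rc_1_3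 lc_b_rc_8_2 lc_b_rc_10_2 lc_b_Cert_tree lc_b_Cert_tree lc_b_Cert_tree lc_b_rc_9_2 lc_b_rc_10_2 lc_b_rc_9_2 lc_b_Cert_tree lc_b_rc_9_2 lc_b_rc_6_1 lc_b_rc_9_2 lc_b_rc_8_2 lc_b_rc_10_2 lc_b_rc_6_1 lc_b_rc_8_2 lc_b_rc_9_2 lc_b_rc_6_1 lc_b_rc_8_2 lc_b_Cert_tree lc_b_Cert_tree lc_b_rc_8_2 lc_b_rc_8_2 lc_b_rc_9_2 lc_b_rc_9_2 lc_b_Cert_tree lc_b_Cert_tree lc_b_rc_8_2 lc_b_rc_1_5 lc_b_rc_6_1 lc_b_Cert_tree lc_b_rc_8_2 lc_b_Cert_tree lc_b_rc_8_2 lc_b_rc_26_1 lc_b_Cert_tree lc_b_rc_9_2 lc_b_rc_26_5 lc_b_Cert_tree lc_b_rc_9_2 lc_b_rc_10_2 lc_b_Cert_tree lc_b_Cert_tree lc_b_rc_8_2 lc_b_rc_9_2 lc_b_Cert_tree lc_b_rc_6_1 lc_b_rc_26_5 lc_b_Cert_tree lc_b_Cert_tree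 lc_b_rc_1_3 lc_b_rc_8_2 lc_b_Cert_tree lc_b_Cert_tree lc_b_rc_9_2 lc_b_rc_6_1) (@D3.rec (fun _ => (Cert rels S Gen.b)) lc_b_rc_26_5 lc_b_rc_26_1 lc_b_Cert_tree lc_b_Cert_tree lc_b_rc_10_2 lc_b_Cert_tree lc_b_Cert_tree lc_b_rc_1_3 lc_b_rc_8_2 lc_b_rc_9_2 lc_b_rc_9_2 lc_b_Cert_tree lc_b_Cert_tree lc_b_rc_8_2 lc_b_rc_7_4 lc_b_Cert_tree lc_b_rc_6_1 lc_b_Cert_tree lc_b_Cert_tree lc_b_Cert_tree lc_b_rc_9_2 lc_b_rc_26_5 lc_b_rc_8_2 lc_b_rc_9_2 lc_b_rc_7_0 lc_b_rc_8_2 lc_b_rc_10_2 lc_b_rc_26_1 lc_b_Cert_tree lc_b_rc_1_3 lc_b_rc_7_4 lc_b_rc_8_2 lc_b_rc_9_2 lc_b_rc_9_2 lc_b_rc_8_2 lc_b_rc_10_2 lc_b_rc_1_3 lc_b_Cert_tree lc_b_rc_6_1 lc_b_Cert_tree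 lc_b_rc_8_2 lc_b_rc_9_2 lc_b_rc_10_2 lc_b_rc_6_1 lc_b_rc_1_5 lc_b_rc_8_2 lc_b_rc_9_2 lc_b_rc_8_2 lc_b_Cert_tree lc_b_Cert_tree lc_b_rc_7_4 lc_b_rc_9_2 lc_b_rc_9_2 lc_b_rc_6_1 lc_b_rc_9_2 lc_b_rc_6_1 lc_b_rc_9_2 lc_b_Cert_tree lc_b_Cert_tree lc_b_rc_10_2 lc_b_Cert_tree lc_b_rc_7_2) (@D3.rec (fun _ => (Cert rels S Gen.b)) lc_b_rc_8_2 lc_b_Cert_tree lc_b_rc_8_2 lc_b_rc_8_2 lc_b_rc_6_1 lc_b_rc_6_1 lc_b_rc_9_2 lc_b_rc_9_2 lc_b_rc_9_2 lc_b_Cert_tree lc_b_Cert_tree lc_b_rc_8_2 lc_b_rc_10_2 lc_b_rc_6_1 lc_b_rc_8_2 lc_b_rc_9_2 lc_b_rc_6_1 lc_b_rc_8_2 lc_b_rc_9_2 lc_b_Cert_tree lc_b_Cert_tree lc_b_Cert_tree lc_b_rc_10_2 lc_b_rc_6_1 lc_b_rc_8_2 lc_b_rc_9_2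 lc_b_rc_9_0 lc_b_rc_9_2 lc_b_rc_8_2 lc_b_rc_9_2 lc_b_rc_6_1 lc_b_rc_8_2 lc_b_rc_9_2 lc_b_rc_7_4 lc_b_Cert_tree lc_b_rc_6_1 lc_b_rc_7_4 lc_b_rc_9_2 lc_b_Cert_tree lc_b_Cert_tree lc_b_rc_6_1 lc_b_rc_8_2 lc_b_rc_10_2 lc_b_rc_9_2 lc_b_Cert_tree lc_b_Cert_tree lc_b_rc_1_3 lc_b_rc_8_2 lc_b_rc_10_2 lc_b_rc_9_2 lc_b_rc_9_2 lc_b_rc_26_1 lc_b_rc_9_2 lc_b_rc_7_4 lc_b_rc_9_2 lc_b_rc_9_2 lc_b_rc_6_1 lc_b_rc_10_2 lc_b_rc_6_1 lc_b_Cert_tree lc_b_rc_1_3 lc_b_rc_9_2) (@D3.rec (fun _ => (Cert rels S Gen.b)) lc_b_rc_8_2 lc_b_rc_10_2 lc_b_rc_6_1 lc_b_Cert_tree lc_b_rc_8_2 lc_b_rc_9_2 lc_b_rc_8_2 lc_b_rc_1_3 lc_b_Cert_tree lc_b_rc_6_1 lc_b_rc_26_1 lc_b_rc_9_2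 lc_b_rc_10_2 lc_b_rc_6_1 lc_b_rc_26_5 lc_b_rc_9_2 lc_b_rc_8_2 lc_b_Cert_tree lc_b_Cert_tree lc_b_Cert_tree lc_b_rc_9_2 lc_b_rc_10_2 lc_b_rc_9_2 lc_b_rc_6_1 lc_b_rc_9_2 lc_b_Cert_tree lc_b_Cert_tree lc_b_rc_10_2 lc_b_rc_9_2 lc_b_rc_8_2 lc_b_Cert_tree lc_b_rc_9_2 lc_b_rc_6_1 lc_b_rc_9_2 lc_b_rc_26_5 lc_b_Cert_tree lc_b_rc_10_2 lc_b_Cert_tree lc_b_rc_9_2 lc_b_Cert_tree lc_b_rc_9_2 lc_b_Cert_tree lc_b_rc_9_2 lc_b_Cert_tree lc_b_Cert_tree lc_b_rc_6_1 lc_b_rc_8_2 lc_b_rc_9_2 lc_b_rc_9_2 lc_b_rc_9_2 lc_b_rc_10_2 lc_b_rc_9_2 lc_b_rc_6_1 lc_b_rc_9_2 lc_b_rc_6_1 lc_b_rc_6_1 lc_b_rc_10_2 lc_b_Cert_tree lc_b_Cert_tree lc_b_rc_1_3 lc_b_rc_9_2 lc_b_rc_8_2)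 (@D3.rec (fun _ => (Cert rels S Gen.b)) lc_b_rc_10_2 lc_b_rc_6_1 lc_b_Cert_tree lc_b_rc_8_2 lc_b_rc_9_2 lc_b_Cert_tree lc_b_rc_8_2 lc_b_rc_6_1 lc_b_rc_6_1 lc_b_Cert_tree lc_b_rc_1_3 lc_b_rc_8_2 lc_b_rc_9_2 lc_b_rc_9_2 lc_b_rc_8_2 lc_b_rc_6_1 lc_b_Cert_tree lc_b_rc_1_3 lc_b_rc_8_2 lc_b_rc_9_2 lc_b_rc_9_2 lc_b_rc_8_2 lc_b_rc_6_1 lc_b_Cert_tree lc_b_rc_1_3 lc_b_rc_8_2 lc_b_rc_9_2 lc_b_rc_6_1 lc_b_Cert_tree lc_b_rc_8_2 lc_b_rc_9_2 lc_b_rc_6_1 lc_b_rc_26_5 lc_b_rc_8_2 lc_b_rc_1_3 lc_b_rc_9_2 lc_b_Cert_tree lc_b_Cert_tree lc_b_rc_6_1 lc_b_rc_9_2 lc_b_Cert_tree lc_b_Cert_tree lc_b_rc_8_2 lc_b_rc_10_2 lc_b_rc_6_1 lc_b_rc_9_2 lc_b_Cert_tree lc_b_Cert_tree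 lc_b_rc_8_2 lc_b_rc_10_2 lc_b_rc_6_1 lc_b_rc_8_2 lc_b_rc_6_1 lc_b_rc_8_2 lc_b_Cert_tree lc_b_Cert_tree lc_b_rc_10_2 lc_b_Cert_tree lc_b_rc_6_1 lc_b_rc_8_2 lc_b_rc_6_1 lc_b_rc_8_2) (@D3.rec (fun _ => (Cert rels S Gen.b)) lc_b_rc_7_4 lc_b_rc_6_1 lc_b_rc_8_2 lc_b_rc_9_2 lc_b_rc_9_2 lc_b_rc_10_2 lc_b_rc_26_1 lc_b_Cert_tree lc_b_rc_8_2 lc_b_rc_9_2 lc_b_rc_10_2 lc_b_rc_26_7 lc_b_Cert_tree lc_b_rc_9_2 lc_b_rc_6_1 lc_b_Cert_tree lc_b_rc_8_2 lc_b_rc_26_1 lc_b_rc_6_1 lc_b_Cert_tree lc_b_rc_8_2 lc_b_rc_6_1 lc_b_rc_26_5 lc_b_rc_6_1 lc_b_rc_9_2 lc_b_rc_1_3 lc_b_rc_9_2 lc_b_rc_8_0 lc_b_Cert_tree lc_b_rc_7_4 lc_b_rc_9_2 lc_b_Cert_tree lc_b_Cert_tree lc_b_rc_8_2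 lc_b_rc_10_2 lc_b_Cert_tree lc_b_Cert_tree lc_b_rc_8_2 lc_b_rc_6_1 lc_b_rc_6_1 lc_b_rc_8_2 lc_b_rc_6_1 lc_b_rc_8_2 lc_b_Cert_tree lc_b_rc_10_2 lc_b_rc_6_1 lc_b_rc_26_1 lc_b_rc_1_3 lc_b_rc_6_1 lc_b_Cert_tree lc_b_rc_9_2 lc_b_rc_6_1 lc_b_rc_26_5 lc_b_rc_1_3 lc_b_Cert_tree lc_b_Cert_tree lc_b_rc_7_4 lc_b_rc_9_2 lc_b_rc_6_1 lc_b_rc_9_2 lc_b_rc_6_1 lc_b_rc_9_2) (@D3.rec (fun _ => (Cert rels S Gen.b)) lc_b_Cert_tree lc_b_Cert_tree lc_b_rc_9_0 lc_b_rc_7_4 lc_b_rc_6_1 lc_b_rc_7_2 lc_b_Cert_tree lc_b_Cert_tree lc_b_rc_6_1 lc_b_rc_6_1 lc_b_rc_6_1 lc_b_rc_6_1 lc_b_rc_6_1 lc_b_rc_8_2 lc_b_rc_6_1 lc_b_rc_26_5 lc_b_rc_26_1 lc_b_rc_8_2 lc_b_rc_7_4 lc_b_rc_6_1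 lc_b_rc_8_2 lc_b_rc_8_2 lc_b_Cert_tree lc_b_Cert_tree lc_b_rc_6_1 lc_b_rc_9_2 lc_b_Cert_tree lc_b_Cert_tree lc_b_rc_10_2 lc_b_rc_10_0 lc_b_rc_8_2 lc_b_rc_6_1 lc_b_rc_8_2 lc_b_rc_9_2 lc_b_rc_1_3 lc_b_rc_9_2 lc_b_rc_26_5 lc_b_Cert_tree lc_b_rc_6_1 lc_b_rc_26_5 lc_b_Cert_tree lc_b_Cert_tree lc_b_rc_8_0 lc_b_rc_10_2 lc_b_rc_8_0 lc_b_rc_1_3 lc_b_rc_9_2 lc_b_rc_6_1 lc_b_rc_6_1 lc_b_rc_1_1 lc_b_rc_8_2 lc_b_rc_10_2 lc_b_rc_6_1 lc_b_rc_6_1 lc_b_rc_8_2 lc_b_rc_1_5 lc_b_Cert_tree lc_b_rc_9_2 lc_b_rc_9_2 lc_b_rc_1_1 lc_b_rc_10_0 lc_b_rc_8_2) (@D3.rec (fun _ => (Cert rels S Gen.b)) lc_b_rc_9_2 lc_b_rc_26_5 lc_b_rc_9_2 lc_b_Cert_tree lc_b_rc_9_2 lc_b_rc_1_1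 lc_b_rc_7_0 lc_b_Cert_tree lc_b_Cert_tree lc_b_Cert_tree lc_b_rc_9_2 lc_b_rc_6_1 lc_b_Cert_tree lc_b_rc_9_2 lc_b_rc_6_1 lc_b_Cert_tree lc_b_rc_9_2 lc_b_Cert_tree lc_b_Cert_tree lc_b_rc_6_1 lc_b_rc_8_2 lc_b_rc_9_2 lc_b_rc_6_1 lc_b_Cert_tree lc_b_Cert_tree lc_b_rc_10_2 lc_b_rc_9_2 lc_b_Cert_tree lc_b_Cert_tree lc_b_rc_8_2 lc_b_rc_1_3 lc_b_rc_7_4 lc_b_rc_9_2 lc_b_Cert_tree lc_b_rc_7_2 lc_b_rc_8_2 lc_b_rc_10_2 lc_b_rc_1_3 lc_b_rc_7_4 lc_b_rc_9_2 lc_b_rc_10_2 lc_b_Cert_tree lc_b_rc_8_2 lc_b_rc_10_2 lc_b_Cert_tree lc_b_rc_26_7 lc_b_rc_1_3 lc_b_rc_9_2 lc_b_Cert_tree lc_b_Cert_tree lc_b_rc_8_2 lc_b_rc_10_2 lc_b_rc_6_1 lc_b_Cert_tree lc_b_rc_8_2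 lc_b_rc_9_2 lc_b_rc_6_1 lc_b_Cert_tree lc_b_rc_8_2 lc_b_rc_9_2 lc_b_rc_9_2 lc_b_Cert_tree) (@D3.rec (fun _ => (Cert rels S Gen.b)) lc_b_rc_26_1 lc_b_rc_8_2 lc_b_rc_6_1 lc_b_rc_8_2 lc_b_rc_6_1 lc_b_rc_8_2 lc_b_Cert_tree lc_b_Cert_tree lc_b_rc_6_1 lc_b_rc_26_1 lc_b_rc_1_3 lc_b_rc_8_2 lc_b_rc_9_2 lc_b_rc_6_1 lc_b_Cert_tree lc_b_rc_8_2 lc_b_rc_9_2 lc_b_rc_8_2 lc_b_rc_6_1 lc_b_Cert_tree lc_b_rc_1_3 lc_b_rc_1_3 lc_b_rc_8_2 lc_b_rc_6_1 lc_b_rc_8_2 lc_b_rc_9_2 lc_b_rc_8_2 lc_b_Cert_tree lc_b_Cert_tree lc_b_Cert_tree lc_b_rc_9_2 lc_b_rc_10_2 lc_b_rc_9_2 lc_b_rc_6_1 lc_b_rc_9_2 lc_b_Cert_tree lc_b_Cert_tree lc_b_rc_10_2 lc_b_rc_9_2 lc_b_rc_6_1 lc_b_Cert_tree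 lc_b_rc_9_2 lc_b_rc_6_1 lc_b_rc_26_5 lc_b_rc_9_2 lc_b_rc_8_2 lc_b_rc_6_1 lc_b_Cert_tree lc_b_rc_7_4 lc_b_rc_9_2 lc_b_Cert_tree lc_b_Cert_tree lc_b_rc_10_2 lc_b_rc_7_4 lc_b_rc_9_2 lc_b_rc_6_1 lc_b_rc_10_2 lc_b_Cert_tree lc_b_Cert_tree lc_b_rc_8_2 lc_b_rc_10_2 lc_b_Cert_tree) (@D3.rec (fun _ => (Cert rels S Gen.b)) lc_b_rc_7_4 lc_b_rc_6_1 lc_b_rc_26_5 lc_b_rc_9_2 lc_b_rc_10_2 lc_b_rc_8_2 lc_b_rc_9_2 lc_b_rc_6_1 lc_b_rc_6_1 lc_b_rc_8_2 lc_b_rc_6_1 lc_b_rc_6_1 lc_b_rc_26_5 lc_b_rc_6_1 lc_b_Cert_tree lc_b_rc_9_2 lc_b_rc_9_2 lc_b_rc_26_7 lc_b_rc_10_0 lc_b_rc_7_2 lc_b_rc_8_2 lc_b_rc_9_2 lc_b_rc_26_5 lc_b_rc_9_2 lc_b_Cert_tree lc_b_rc_9_2 lc_b_rc_1_1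 lc_b_Cert_tree lc_b_rc_9_2 lc_b_rc_6_1 lc_b_Cert_tree lc_b_rc_9_2 lc_b_rc_6_1 lc_b_Cert_tree lc_b_rc_9_2 lc_b_Cert_tree lc_b_Cert_tree lc_b_rc_8_2 lc_b_rc_9_2 lc_b_Cert_tree lc_b_Cert_tree lc_b_rc_10_2 lc_b_rc_6_1 lc_b_Cert_tree lc_b_rc_8_2 lc_b_rc_6_1 lc_b_rc_8_2 lc_b_rc_9_2 lc_b_rc_6_1 lc_b_rc_9_2 lc_b_Cert_tree lc_b_rc_1_3 lc_b_rc_10_2 lc_b_rc_6_1 lc_b_rc_26_5 lc_b_rc_9_2 lc_b_rc_6_1 lc_b_rc_10_2 lc_b_Cert_tree lc_b_rc_9_2 lc_b_rc_10_2 lc_b_rc_7_2) (@D3.rec (fun _ => (Cert rels S Gen.b)) lc_b_rc_6_1 lc_b_rc_6_1 lc_b_rc_8_2 lc_b_rc_9_2 lc_b_rc_10_2 lc_b_rc_26_7 lc_b_rc_8_2 lc_b_rc_10_2 lc_b_rc_1_1 lc_b_rc_9_2 lc_b_rc_6_1 lc_b_rc_6_1 lc_b_rc_26_1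 lc_b_rc_8_2 lc_b_Cert_tree lc_b_rc_8_2 lc_b_rc_6_1 lc_b_Cert_tree lc_b_rc_9_2 lc_b_rc_6_1 lc_b_Cert_tree lc_b_rc_9_2 lc_b_Cert_tree lc_b_Cert_tree lc_b_rc_6_1 lc_b_rc_8_2 lc_b_rc_9_2 lc_b_rc_7_4 lc_b_Cert_tree lc_b_Cert_tree lc_b_rc_10_2 lc_b_rc_9_2 lc_b_Cert_tree lc_b_rc_8_2 lc_b_rc_1_3 lc_b_rc_9_2 lc_b_Cert_tree lc_b_Cert_tree lc_b_rc_10_2 lc_b_rc_6_1 lc_b_Cert_tree lc_b_rc_8_2 lc_b_rc_9_2 lc_b_rc_6_1 lc_b_Cert_tree lc_b_rc_8_2 lc_b_rc_9_2 lc_b_rc_9_2 lc_b_rc_7_4 lc_b_rc_6_1 lc_b_rc_26_5 lc_b_rc_9_2 lc_b_rc_1_3 lc_b_rc_9_2 lc_b_rc_6_1 lc_b_rc_8_2 lc_b_rc_6_1 lc_b_rc_9_2 lc_b_rc_8_2 lc_b_rc_9_2 lc_b_rc_6_1 lc_b_rc_8_2) (@D3.rec (fun _ =>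 (Cert rels S Gen.b)) lc_b_rc_9_2 lc_b_Cert_tree lc_b_rc_9_2 lc_b_rc_26_1 lc_b_rc_8_2 lc_b_rc_1_3 lc_b_rc_7_2 lc_b_rc_8_2 lc_b_rc_8_2 lc_b_Cert_tree lc_b_rc_9_2 lc_b_Cert_tree lc_b_rc_9_2 lc_b_Cert_tree lc_b_Cert_tree lc_b_rc_8_2 lc_b_rc_9_0 lc_b_rc_6_1 lc_b_Cert_tree lc_b_rc_9_2 lc_b_rc_6_1 lc_b_Cert_tree lc_b_rc_9_2 lc_b_Cert_tree lc_b_Cert_tree lc_b_rc_8_2 lc_b_rc_9_2 lc_b_Cert_tree lc_b_Cert_tree lc_b_rc_8_2 lc_b_rc_10_2 lc_b_rc_6_1 lc_b_Cert_tree lc_b_rc_6_1 lc_b_rc_26_5 lc_b_rc_8_2 lc_b_Cert_tree lc_b_Cert_tree lc_b_rc_10_2 lc_b_rc_6_1 lc_b_rc_8_2 lc_b_rc_6_1 lc_b_rc_8_2 lc_b_rc_9_2 lc_b_rc_6_1 lc_b_rc_1_3 lc_b_rc_7_4 lc_b_rc_26_5 lc_b_rc_1_3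 lc_b_rc_8_2 lc_b_rc_6_1 lc_b_rc_10_2 lc_b_rc_9_2 lc_b_rc_6_1 lc_b_rc_8_2 lc_b_Cert_tree lc_b_rc_10_2 lc_b_rc_8_2 lc_b_rc_6_1 lc_b_rc_1_3 lc_b_rc_8_2 lc_b_rc_7_2) (@D3.rec (fun _ => (Cert rels S Gen.b)) lc_b_rc_8_2 lc_b_Cert_tree lc_b_rc_9_2 lc_b_rc_26_1 lc_b_rc_9_2 lc_b_rc_8_2 lc_b_rc_9_2 lc_b_rc_26_5 lc_b_rc_9_2 lc_b_Cert_tree lc_b_rc_9_2 lc_b_rc_8_2 lc_b_Cert_tree lc_b_rc_8_2 lc_b_rc_8_2 lc_b_rc_6_1 lc_b_Cert_tree lc_b_rc_9_2 lc_b_rc_6_1 lc_b_Cert_tree lc_b_rc_9_2 lc_b_Cert_tree lc_b_Cert_tree lc_b_rc_8_2 lc_b_rc_9_2 lc_b_Cert_tree lc_b_Cert_tree lc_b_rc_8_2 lc_b_rc_10_2 lc_b_rc_6_1 lc_b_rc_6_1 lc_b_Cert_tree lc_b_Cert_tree lc_b_rc_10_2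 lc_b_rc_6_1 lc_b_rc_6_1 lc_b_rc_9_2 lc_b_Cert_tree lc_b_Cert_tree lc_b_rc_10_2 lc_b_rc_6_1 lc_b_rc_9_2 lc_b_rc_9_2 lc_b_rc_6_1 lc_b_rc_8_2 lc_b_rc_9_2 lc_b_rc_8_2 lc_b_rc_7_2 lc_b_rc_8_2 lc_b_Cert_tree lc_b_rc_9_2 lc_b_Cert_tree lc_b_Cert_tree lc_b_rc_8_2 lc_b_rc_9_2 lc_b_Cert_tree lc_b_Cert_tree lc_b_rc_10_2 lc_b_rc_6_1 lc_b_rc_9_2 lc_b_rc_1_5 lc_b_rc_8_2) (@D3.rec (fun _ => (Cert rels S Gen.b)) lc_b_rc_8_2 lc_b_Cert_tree lc_b_rc_9_2 lc_b_Cert_tree lc_b_Cert_tree lc_b_rc_8_2 lc_b_rc_9_2 lc_b_Cert_tree lc_b_Cert_tree lc_b_rc_6_1 lc_b_Cert_tree lc_b_rc_6_1 lc_b_rc_26_5 lc_b_rc_6_1 lc_b_rc_9_2 lc_b_rc_6_1 lc_b_rc_8_2 lc_b_rc_9_2 lc_b_Cert_tree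 lc_b_rc_9_2 lc_b_rc_8_2 lc_b_rc_7_2 lc_b_rc_8_2 lc_b_rc_8_2 lc_b_Cert_tree lc_b_rc_9_2 lc_b_Cert_tree lc_b_rc_9_2 lc_b_Cert_tree lc_b_rc_9_2 lc_b_rc_6_1 lc_b_Cert_tree lc_b_rc_9_2 lc_b_Cert_tree lc_b_Cert_tree lc_b_rc_8_2 lc_b_rc_9_2 lc_b_Cert_tree lc_b_Cert_tree lc_b_rc_10_2 lc_b_rc_6_1 lc_b_rc_8_2 lc_b_rc_9_2 lc_b_rc_6_1 lc_b_rc_9_2 lc_b_rc_6_1 lc_b_rc_7_2 lc_b_rc_8_2 lc_b_Cert_tree lc_b_rc_9_2 lc_b_rc_1_5 lc_b_rc_8_2 lc_b_rc_9_2 lc_b_rc_8_2 lc_b_rc_9_2 lc_b_Cert_tree lc_b_rc_9_2 lc_b_rc_7_2 lc_b_rc_8_2 lc_b_rc_1_3 lc_b_rc_9_2 lc_b_Cert_tree) (@D3.rec (fun _ => (Cert rels S Gen.b)) lc_b_rc_9_2 lc_b_rc_6_1 lc_b_rc_8_2 lc_b_rc_6_1 lc_b_rc_8_2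 lc_b_rc_9_2 lc_b_rc_8_0 lc_b_Cert_tree lc_b_Cert_tree lc_b_rc_9_2 lc_b_rc_6_1 lc_b_rc_7_2 lc_b_rc_8_2 lc_b_Cert_tree lc_b_rc_9_2 lc_b_rc_6_1 lc_b_Cert_tree lc_b_rc_9_2 lc_b_Cert_tree lc_b_Cert_tree lc_b_rc_8_2 lc_b_rc_9_2 lc_b_Cert_tree lc_b_Cert_tree lc_b_rc_26_5 lc_b_rc_6_1 lc_b_rc_26_5 lc_b_rc_26_7 lc_b_Cert_tree lc_b_rc_9_2 lc_b_rc_8_2 lc_b_rc_8_2 lc_b_rc_8_2 lc_b_rc_8_2 lc_b_rc_6_1 lc_b_rc_8_2 lc_b_rc_8_0 lc_b_Cert_tree lc_b_rc_9_2 lc_b_rc_9_2 lc_b_rc_8_2 lc_b_rc_9_2 lc_b_rc_26_7 lc_b_rc_8_2 lc_b_rc_10_2 lc_b_rc_8_0 lc_b_rc_25_4 lc_b_Cert_tree lc_b_rc_9_2 lc_b_rc_10_2 lc_b_rc_9_2 lc_b_Cert_tree lc_b_Cert_tree lc_b_rc_6_1 lc_b_rc_26_1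 lc_b_rc_9_2 lc_b_rc_1_1 lc_b_rc_10_2 lc_b_rc_1_3 lc_b_rc_9_2 lc_b_Cert_tree lc_b_rc_9_2) (@D3.rec (fun _ => (Cert rels S Gen.b)) lc_b_rc_8_2 lc_b_rc_9_2 lc_b_Cert_tree lc_b_rc_9_2 lc_b_rc_7_0 lc_b_rc_6_1 lc_b_rc_6_1 lc_b_rc_6_1 lc_b_rc_8_2 lc_b_rc_9_2 lc_b_rc_9_2 lc_b_rc_6_1 lc_b_Cert_tree lc_b_rc_9_2 lc_b_rc_6_1 lc_b_Cert_tree lc_b_rc_9_2 lc_b_Cert_tree lc_b_Cert_tree lc_b_rc_6_1 lc_b_rc_8_2 lc_b_rc_9_2 lc_b_Cert_tree lc_b_Cert_tree lc_b_rc_10_2 lc_b_rc_8_2 lc_b_Cert_tree lc_b_rc_9_2 lc_b_Cert_tree lc_b_Cert_tree lc_b_rc_6_1 lc_b_rc_8_2 lc_b_rc_9_2 lc_b_rc_1_1 lc_b_rc_6_1 lc_b_rc_10_2 lc_b_rc_8_2 lc_b_Cert_tree lc_b_rc_9_2 lc_b_rc_6_1 lc_b_rc_8_2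 lc_b_rc_9_2 lc_b_rc_9_2 lc_b_rc_8_2 lc_b_rc_10_2 lc_b_rc_6_1 lc_b_rc_26_1 lc_b_rc_8_2 lc_b_rc_9_2 lc_b_rc_6_1 lc_b_rc_26_5 lc_b_rc_8_2 lc_b_rc_9_2 lc_b_Cert_tree lc_b_rc_1_3 lc_b_rc_8_2 lc_b_rc_9_2 lc_b_Cert_tree lc_b_Cert_tree lc_b_Cert_tree lc_b_rc_9_2 lc_b_rc_8_2) (@D3.rec (fun _ => (Cert rels S Gen.b)) lc_b_Cert_tree lc_b_Cert_tree lc_b_rc_8_2 lc_b_rc_10_2 lc_b_rc_9_2 lc_b_rc_6_1 lc_b_Cert_tree lc_b_rc_8_2 lc_b_rc_9_2 lc_b_rc_6_1 lc_b_Cert_tree lc_b_rc_8_2 lc_b_rc_9_2 lc_b_rc_9_2 lc_b_Cert_tree lc_b_Cert_tree lc_b_rc_8_2 lc_b_rc_6_1 lc_b_Cert_tree lc_b_rc_6_1 lc_b_rc_26_5 lc_b_Cert_tree lc_b_Cert_tree lc_b_Cert_tree lc_b_rc_9_2 lc_b_Cert_tree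 lc_b_Cert_tree lc_b_rc_8_2 lc_b_rc_9_2 lc_b_Cert_tree lc_b_Cert_tree lc_b_rc_10_2 lc_b_rc_6_1 lc_b_rc_8_2 lc_b_rc_8_2 lc_b_rc_9_2 lc_b_Cert_tree lc_b_rc_8_2 lc_b_Cert_tree lc_b_Cert_tree lc_b_rc_8_2 lc_b_rc_9_2 lc_b_Cert_tree lc_b_Cert_tree lc_b_rc_8_2 lc_b_rc_10_2 lc_b_rc_6_1 lc_b_rc_6_1 lc_b_Cert_tree lc_b_Cert_tree lc_b_rc_10_2 lc_b_rc_7_4 lc_b_rc_9_2 lc_b_rc_6_1 lc_b_Cert_tree lc_b_rc_9_2 lc_b_rc_9_2 lc_b_Cert_tree lc_b_Cert_tree lc_b_rc_8_2 lc_b_rc_10_2 lc_b_rc_6_1) (@D3.rec (fun _ => (Cert rels S Gen.b)) lc_b_rc_10_0 lc_b_rc_6_1 lc_b_Cert_tree lc_b_rc_10_2 lc_b_rc_26_1 lc_b_rc_9_2 lc_b_Cert_tree lc_b_rc_8_2 lc_b_rc_9_2 lc_b_rc_6_1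 lc_b_rc_1_1 lc_b_rc_9_2 lc_b_Cert_tree lc_b_rc_9_2 lc_b_rc_6_1 lc_b_Cert_tree lc_b_rc_26_5 lc_b_rc_6_1 lc_b_rc_9_2 lc_b_rc_6_1 lc_b_rc_9_2 lc_b_Cert_tree lc_b_rc_26_5 lc_b_rc_8_2 lc_b_rc_26_7 lc_b_Cert_tree lc_b_rc_8_2 lc_b_rc_9_2 lc_b_rc_6_1 lc_b_Cert_tree lc_b_rc_10_2 lc_b_Cert_tree lc_b_rc_9_2 lc_b_Cert_tree lc_b_Cert_tree lc_b_rc_6_1 lc_b_rc_8_2 lc_b_rc_7_2 lc_b_rc_9_2 lc_b_rc_9_2 lc_b_rc_9_2 lc_b_Cert_tree lc_b_Cert_tree lc_b_rc_8_2 lc_b_rc_10_2 lc_b_Cert_tree lc_b_rc_26_5 lc_b_Cert_tree lc_b_rc_10_2 lc_b_Cert_tree lc_b_rc_9_2 lc_b_rc_10_2 lc_b_rc_8_2 lc_b_rc_9_2 lc_b_Cert_tree lc_b_rc_9_2 lc_b_rc_6_1 lc_b_rc_9_2 lc_b_rc_6_1 lc_b_rc_8_2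 lc_b_rc_10_2 lc_b_Cert_tree) (@D3.rec (fun _ => (Cert rels S Gen.b)) lc_b_Cert_tree lc_b_rc_1_3 lc_b_rc_8_2 lc_b_rc_9_2 lc_b_rc_8_2 lc_b_rc_8_2 lc_b_rc_10_2 lc_b_rc_8_2 lc_b_rc_9_2 lc_b_rc_26_1 lc_b_Cert_tree lc_b_rc_8_2 lc_b_rc_6_1 lc_b_rc_8_2 lc_b_rc_8_2 lc_b_rc_10_2 lc_b_rc_8_2 lc_b_rc_9_2 lc_b_rc_26_1 lc_b_Cert_tree lc_b_rc_10_2 lc_b_Cert_tree lc_b_rc_9_2 lc_b_rc_9_2 lc_b_rc_6_1 lc_b_rc_8_2 lc_b_rc_10_2 lc_b_rc_9_2 lc_b_rc_9_2 lc_b_rc_9_2 lc_b_rc_8_2 lc_b_rc_26_1 lc_b_rc_26_1 lc_b_rc_9_2 lc_b_rc_8_2 lc_b_rc_9_2 lc_b_rc_26_5 lc_b_rc_8_2 lc_b_rc_8_2 lc_b_rc_26_5 lc_b_rc_9_0 lc_b_rc_9_2 lc_b_rc_26_5 lc_b_rc_8_0 lc_b_Cert_tree lc_b_rc_10_2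 lc_b_Cert_tree lc_b_rc_7_0 lc_b_rc_1_3 lc_b_rc_10_2 lc_b_rc_26_5 lc_b_rc_8_2 lc_b_rc_9_2 lc_b_rc_26_1 lc_b_rc_9_2 lc_b_rc_8_2 lc_b_rc_26_5 lc_b_rc_8_2 lc_b_Cert_tree lc_b_rc_10_2 lc_b_rc_8_2 lc_b_rc_10_2) (@D3.rec (fun _ => (Cert rels S Gen.b)) lc_b_rc_9_2 lc_b_rc_8_2 lc_b_rc_10_2 lc_b_rc_10_2 lc_b_rc_8_2 lc_b_rc_10_2 lc_b_rc_7_0 lc_b_Cert_tree lc_b_rc_8_2 lc_b_rc_10_2 lc_b_rc_6_1 lc_b_rc_8_2 lc_b_rc_9_2 lc_b_rc_6_1 lc_b_rc_8_2 lc_b_rc_9_2 lc_b_Cert_tree lc_b_Cert_tree lc_b_Cert_tree lc_b_rc_10_2 lc_b_rc_8_2 lc_b_rc_9_2 lc_b_rc_6_1 lc_b_rc_7_4 lc_b_rc_9_2 lc_b_rc_9_0 lc_b_rc_8_2 lc_b_rc_10_2 lc_b_rc_6_1 lc_b_rc_8_2 lc_b_rc_9_2 lc_b_Cert_tree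 lc_b_rc_6_1 lc_b_rc_26_5 lc_b_rc_10_2 lc_b_rc_8_2 lc_b_rc_8_2 lc_b_rc_9_2 lc_b_rc_9_2 lc_b_rc_6_1 lc_b_rc_8_2 lc_b_Cert_tree lc_b_rc_10_2 lc_b_rc_6_1 lc_b_rc_26_5 lc_b_rc_9_2 lc_b_rc_9_2 lc_b_rc_9_2 lc_b_Cert_tree lc_b_Cert_tree lc_b_rc_8_2 lc_b_rc_10_2 lc_b_Cert_tree lc_b_rc_8_2 lc_b_Cert_tree lc_b_rc_10_2 lc_b_rc_8_2 lc_b_rc_9_2 lc_b_rc_26_7 lc_b_rc_26_5 lc_b_Cert_tree lc_b_rc_9_2) (@D3.rec (fun _ => (Cert rels S Gen.b)) lc_b_Cert_tree lc_b_rc_9_2 lc_b_rc_6_1 lc_b_Cert_tree lc_b_Cert_tree lc_b_rc_9_2 lc_b_rc_6_1 lc_b_rc_8_2 lc_b_rc_10_2 lc_b_rc_6_1 lc_b_rc_6_1 lc_b_rc_9_2 lc_b_rc_9_2 lc_b_rc_9_2 lc_b_Cert_tree lc_b_Cert_tree lc_b_rc_8_2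 lc_b_rc_10_2 lc_b_rc_6_1 lc_b_rc_8_2 lc_b_rc_6_1 lc_b_rc_8_2 lc_b_rc_9_2 lc_b_Cert_tree lc_b_Cert_tree lc_b_rc_10_2 lc_b_rc_8_2 lc_b_rc_6_1 lc_b_Cert_tree lc_b_rc_9_2 lc_b_Cert_tree lc_b_rc_6_1 lc_b_rc_8_2 lc_b_rc_6_1 lc_b_rc_8_2 lc_b_rc_10_2 lc_b_rc_9_2 lc_b_rc_7_0 lc_b_rc_9_2 lc_b_rc_6_1 lc_b_rc_9_0 lc_b_rc_10_2 lc_b_rc_9_2 lc_b_rc_9_2 lc_b_rc_26_1 lc_b_rc_8_2 lc_b_rc_10_2 lc_b_Cert_tree lc_b_rc_6_1 lc_b_rc_10_2 lc_b_rc_26_5 lc_b_rc_6_1 lc_b_rc_26_7 lc_b_rc_8_2 lc_b_rc_9_2 lc_b_rc_6_1 lc_b_Cert_tree lc_b_rc_8_2 lc_b_rc_9_2 lc_b_Cert_tree lc_b_Cert_tree lc_b_Cert_tree) (@D3.rec (fun _ => (Cert rels S Gen.b)) lc_b_rc_10_2 lc_b_rc_26_7 lc_b_rc_9_2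 lc_b_rc_6_1 lc_b_rc_8_2 lc_b_rc_9_2 lc_b_rc_26_5 lc_b_Cert_tree lc_b_rc_9_2 lc_b_rc_7_2 lc_b_rc_10_2 lc_b_rc_6_1 lc_b_rc_9_2 lc_b_rc_8_2 lc_b_rc_9_2 lc_b_Cert_tree lc_b_rc_9_2 lc_b_rc_8_2 lc_b_rc_10_2 lc_b_rc_6_1 lc_b_Cert_tree lc_b_rc_9_2 lc_b_rc_6_1 lc_b_Cert_tree lc_b_rc_9_2 lc_b_Cert_tree lc_b_rc_8_2 lc_b_rc_6_1 lc_b_rc_8_2 lc_b_rc_10_2 lc_b_rc_9_2 lc_b_rc_8_0 lc_b_Cert_tree lc_b_rc_9_2 lc_b_rc_8_2 lc_b_rc_9_0 lc_b_rc_8_2 lc_b_rc_10_2 lc_b_Cert_tree lc_b_rc_7_0 lc_b_rc_8_2 lc_b_rc_9_2 lc_b_Cert_tree lc_b_Cert_tree lc_b_Cert_tree lc_b_rc_9_2 lc_b_rc_9_2 lc_b_rc_10_2 lc_b_rc_6_1 lc_b_Cert_tree lc_b_rc_6_1 lc_b_rc_8_2 lc_b_Cert_tree lc_b_rc_9_2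 lc_b_rc_8_2 lc_b_rc_9_2 lc_b_Cert_tree lc_b_rc_9_2 lc_b_rc_7_4 lc_b_rc_10_2 lc_b_rc_6_1 lc_b_rc_1_3) (@D3.rec (fun _ => (Cert rels S Gen.b)) lc_b_rc_9_2 lc_b_rc_8_2 lc_b_rc_9_2 lc_b_rc_8_2 lc_b_Cert_tree lc_b_rc_10_2 lc_b_rc_7_4 lc_b_rc_9_2 lc_b_rc_6_1 lc_b_rc_9_2 lc_b_rc_9_2 lc_b_rc_9_2 lc_b_rc_6_1 lc_b_Cert_tree lc_b_rc_8_2 lc_b_rc_10_2 lc_b_rc_6_1 lc_b_rc_8_2 lc_b_rc_10_2 lc_b_rc_8_2 lc_b_rc_8_2 lc_b_Cert_tree lc_b_rc_6_1 lc_b_Cert_tree lc_b_rc_10_2 lc_b_Cert_tree lc_b_rc_6_1 lc_b_rc_10_2 lc_b_rc_26_5 lc_b_rc_8_2 lc_b_rc_10_2 lc_b_rc_8_2 lc_b_rc_9_2 lc_b_rc_6_1 lc_b_rc_8_2 lc_b_rc_10_2 lc_b_Cert_tree lc_b_rc_6_1 lc_b_rc_10_2 lc_b_rc_26_5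 lc_b_rc_8_2 lc_b_rc_9_2 lc_b_rc_6_1 lc_b_rc_26_1 lc_b_rc_8_2 lc_b_rc_9_2 lc_b_rc_6_1 lc_b_Cert_tree lc_b_Cert_tree lc_b_rc_10_2 lc_b_rc_6_1 lc_b_rc_9_2 lc_b_rc_8_2 lc_b_rc_9_2 lc_b_Cert_tree lc_b_rc_26_7 lc_b_Cert_tree lc_b_rc_9_2 lc_b_rc_7_2 lc_b_rc_10_2 lc_b_rc_6_1 lc_b_rc_9_2)
def ce_b_1 : D2 → D3 → (Cert rels S Gen.b) := @D2.rec (fun _ => D3 → (Cert rels S Gen.b)) (@D3.rec (fun _ => (Cert rels S Gen.b)) lc_b_rc_8_2 lc_b_rc_9_2 lc_b_Cert_tree lc_b_rc_9_2 lc_b_rc_7_2 lc_b_rc_10_2 lc_b_rc_6_1 lc_b_Cert_tree lc_b_rc_9_2 lc_b_rc_6_1 lc_b_Cert_tree lc_b_rc_9_2 lc_b_Cert_tree lc_b_Cert_tree lc_b_rc_6_1 lc_b_rc_9_2 lc_b_Cert_tree lc_b_rc_9_2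 lc_b_rc_8_2 lc_b_rc_9_2 lc_b_Cert_tree lc_b_Cert_tree lc_b_rc_9_2 lc_b_Cert_tree lc_b_rc_10_2 lc_b_rc_6_1 lc_b_Cert_tree lc_b_rc_6_1 lc_b_rc_9_2 lc_b_rc_26_5 lc_b_rc_8_2 lc_b_rc_9_2 lc_b_rc_26_7 lc_b_rc_6_1 lc_b_rc_8_2 lc_b_rc_10_2 lc_b_rc_6_1 lc_b_rc_9_2 lc_b_rc_8_2 lc_b_rc_9_2 lc_b_Cert_tree lc_b_rc_9_2 lc_b_rc_8_2 lc_b_rc_10_2 lc_b_rc_6_1 lc_b_Cert_tree lc_b_rc_26_5 lc_b_rc_8_2 lc_b_rc_10_2 lc_b_rc_26_1 lc_b_rc_6_1 lc_b_rc_6_1 lc_b_Cert_tree lc_b_rc_10_2 lc_b_rc_9_2 lc_b_rc_26_5 lc_b_rc_8_2 lc_b_rc_10_2 lc_b_rc_7_4 lc_b_rc_8_2 lc_b_rc_9_2 lc_b_Cert_tree) (@D3.rec (fun _ => (Cert rels S Gen.b)) lc_b_rc_10_2 lc_b_rc_9_2 lc_b_rc_8_2 lc_b_rc_10_2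 lc_b_rc_9_2 lc_b_rc_9_2 lc_b_rc_8_2 lc_b_rc_10_2 lc_b_rc_9_2 lc_b_rc_9_2 lc_b_rc_9_2 lc_b_rc_6_1 lc_b_rc_8_2 lc_b_rc_10_2 lc_b_rc_26_1 lc_b_rc_8_2 lc_b_rc_26_7 lc_b_rc_8_2 lc_b_rc_9_2 lc_b_rc_6_1 lc_b_rc_8_2 lc_b_rc_9_2 lc_b_rc_26_5 lc_b_Cert_tree lc_b_Cert_tree lc_b_rc_10_2 lc_b_rc_6_1 lc_b_rc_8_2 lc_b_rc_9_2 lc_b_rc_26_5 lc_b_Cert_tree lc_b_rc_9_2 lc_b_rc_9_0 lc_b_rc_10_2 lc_b_rc_6_1 lc_b_rc_8_2 lc_b_rc_9_2 lc_b_Cert_tree lc_b_Cert_tree lc_b_rc_9_2 lc_b_Cert_tree lc_b_rc_9_2 lc_b_rc_7_4 lc_b_Cert_tree lc_b_rc_6_1 lc_b_rc_8_2 lc_b_rc_10_2 lc_b_rc_9_2 lc_b_Cert_tree lc_b_Cert_tree lc_b_rc_6_1 lc_b_rc_8_2 lc_b_rc_9_2 lc_b_rc_9_2 lc_b_rc_10_2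 lc_b_rc_6_1 lc_b_rc_8_2 lc_b_rc_9_2 lc_b_rc_9_0 lc_b_rc_10_2 lc_b_rc_6_1 lc_b_rc_8_2) (@D3.rec (fun _ => (Cert rels S Gen.b)) lc_b_rc_6_1 lc_b_rc_8_2 lc_b_rc_9_2 lc_b_rc_8_2 lc_b_rc_8_0 lc_b_rc_10_2 lc_b_rc_8_2 lc_b_rc_9_2 lc_b_rc_6_1 lc_b_rc_8_2 lc_b_rc_9_2 lc_b_Cert_tree lc_b_Cert_tree lc_b_rc_1_3 lc_b_rc_8_2 lc_b_rc_10_2 lc_b_Cert_tree lc_b_Cert_tree lc_b_rc_9_2 lc_b_rc_10_2 lc_b_rc_9_2 lc_b_rc_6_1 lc_b_rc_8_2 lc_b_rc_9_2 lc_b_rc_26_7 lc_b_rc_8_2 lc_b_rc_10_2 lc_b_rc_26_7 lc_b_rc_8_2 lc_b_rc_10_2 lc_b_rc_6_1 lc_b_rc_8_2 lc_b_rc_10_2 lc_b_rc_6_1 lc_b_rc_8_2 lc_b_rc_9_2 lc_b_rc_8_2 lc_b_rc_9_2 lc_b_Cert_tree lc_b_rc_6_1 lc_b_Cert_tree lc_b_rc_10_2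 lc_b_rc_8_2 lc_b_rc_9_2 lc_b_rc_26_5 lc_b_Cert_tree lc_b_rc_9_2 lc_b_rc_6_1 lc_b_rc_10_2 lc_b_rc_26_1 lc_b_rc_8_2 lc_b_rc_9_2 lc_b_Cert_tree lc_b_rc_9_2 lc_b_rc_6_1 lc_b_Cert_tree lc_b_rc_9_2 lc_b_rc_6_1 lc_b_Cert_tree lc_b_rc_9_2 lc_b_Cert_tree lc_b_Cert_tree) (@D3.rec (fun _ => (Cert rels S Gen.b)) lc_b_rc_6_1 lc_b_rc_8_2 lc_b_rc_10_2 lc_b_rc_9_2 lc_b_rc_26_1 lc_b_rc_9_2 lc_b_rc_9_2 lc_b_rc_10_2 lc_b_Cert_tree lc_b_Cert_tree lc_b_rc_9_2 lc_b_rc_10_2 lc_b_Cert_tree lc_b_Cert_tree lc_b_Cert_tree lc_b_rc_6_1 lc_b_rc_8_2 lc_b_rc_10_2 lc_b_rc_26_1 lc_b_rc_9_2 lc_b_rc_1_1 lc_b_rc_8_2 lc_b_rc_9_2 lc_b_Cert_tree lc_b_rc_9_2 lc_b_rc_6_1 lc_b_rc_8_2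 lc_b_rc_26_5 lc_b_rc_8_2 lc_b_rc_6_1 lc_b_rc_8_2 lc_b_rc_26_1 lc_b_rc_26_5 lc_b_rc_10_2 lc_b_rc_6_1 lc_b_rc_8_2 lc_b_rc_9_2 lc_b_rc_6_1 lc_b_rc_10_2 lc_b_rc_6_1 lc_b_rc_8_2 lc_b_rc_9_2 lc_b_rc_6_1 lc_b_rc_8_2 lc_b_rc_9_2 lc_b_Cert_tree lc_b_rc_6_1 lc_b_rc_1_3 lc_b_rc_8_2 lc_b_rc_10_2 lc_b_Cert_tree lc_b_Cert_tree lc_b_Cert_tree lc_b_rc_9_2 lc_b_rc_10_2 lc_b_rc_9_2 lc_b_rc_10_0 lc_b_rc_9_2 lc_b_rc_6_1 lc_b_rc_1_3 lc_b_rc_8_2 lc_b_rc_9_2) (@D3.rec (fun _ => (Cert rels S Gen.b)) lc_b_rc_9_2 lc_b_rc_8_2 lc_b_Cert_tree lc_b_rc_9_2 lc_b_Cert_tree lc_b_rc_9_2 lc_b_rc_26_7 lc_b_Cert_tree lc_b_Cert_tree lc_b_rc_10_2 lc_b_rc_8_2 lc_b_rc_9_2 lc_b_rc_1_5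 lc_b_rc_26_5 lc_b_Cert_tree lc_b_Cert_tree lc_b_Cert_tree lc_b_rc_1_3 lc_b_rc_8_2 lc_b_rc_9_2 lc_b_Cert_tree lc_b_Cert_tree lc_b_rc_1_3 lc_b_rc_8_2 lc_b_rc_9_2 lc_b_rc_9_2 lc_b_Cert_tree lc_b_Cert_tree lc_b_rc_8_2 lc_b_rc_10_2 lc_b_Cert_tree lc_b_Cert_tree lc_b_rc_1_3 lc_b_rc_26_1 lc_b_rc_9_2 lc_b_rc_8_2 lc_b_rc_9_2 lc_b_rc_9_2 lc_b_rc_8_2 lc_b_rc_10_2 lc_b_rc_6_1 lc_b_Cert_tree lc_b_rc_1_3 lc_b_rc_6_1 lc_b_rc_8_2 lc_b_rc_9_2 lc_b_rc_9_2 lc_b_rc_8_2 lc_b_rc_10_2 lc_b_rc_1_3 lc_b_rc_26_1 lc_b_rc_6_1 lc_b_Cert_tree lc_b_rc_8_2 lc_b_rc_9_2 lc_b_rc_10_2 lc_b_rc_6_1 lc_b_Cert_tree lc_b_rc_8_2 lc_b_rc_9_2 lc_b_rc_1_3 lc_b_Cert_tree) (@D3.rec (fun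 _ => (Cert rels S Gen.b)) lc_b_rc_26_5 lc_b_rc_7_4 lc_b_rc_9_2 lc_b_rc_9_2 lc_b_rc_6_1 lc_b_rc_9_2 lc_b_rc_6_1 lc_b_rc_9_2 lc_b_Cert_tree lc_b_Cert_tree lc_b_rc_10_2 lc_b_rc_10_2 lc_b_Cert_tree lc_b_rc_8_2 lc_b_rc_6_1 lc_b_rc_7_4 lc_b_rc_8_2 lc_b_rc_1_5 lc_b_rc_9_2 lc_b_rc_9_2 lc_b_rc_6_1 lc_b_rc_8_2 lc_b_Cert_tree lc_b_rc_6_1 lc_b_rc_8_2 lc_b_rc_10_2 lc_b_Cert_tree lc_b_rc_1_3 lc_b_rc_8_2 lc_b_rc_9_2 lc_b_rc_7_4 lc_b_rc_9_2 lc_b_rc_6_1 lc_b_rc_26_5 lc_b_rc_9_2 lc_b_rc_1_3 lc_b_rc_6_1 lc_b_rc_1_3 lc_b_Cert_tree lc_b_rc_9_2 lc_b_rc_6_1 lc_b_rc_9_2 lc_b_Cert_tree lc_b_Cert_tree lc_b_rc_10_2 lc_b_Cert_tree lc_b_rc_6_1 lc_b_rc_10_2 lc_b_Cert_tree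 lc_b_rc_1_3 lc_b_rc_9_2 lc_b_rc_8_2 lc_b_rc_10_2 lc_b_rc_9_2 lc_b_rc_8_2 lc_b_rc_6_1 lc_b_rc_8_2 lc_b_rc_9_2 lc_b_rc_6_1 lc_b_rc_26_7 lc_b_rc_1_3 lc_b_rc_7_4) (@D3.rec (fun _ => (Cert rels S Gen.b)) lc_b_rc_26_5 lc_b_rc_1_3 lc_b_rc_9_2 lc_b_rc_8_0 lc_b_rc_6_1 lc_b_rc_7_4 lc_b_rc_9_2 lc_b_rc_9_0 lc_b_rc_7_2 lc_b_rc_8_2 lc_b_rc_10_2 lc_b_Cert_tree lc_b_Cert_tree lc_b_rc_8_2 lc_b_rc_10_2 lc_b_rc_8_2 lc_b_rc_6_1 lc_b_rc_8_2 lc_b_Cert_tree lc_b_rc_10_2 lc_b_rc_6_1 lc_b_rc_8_2 lc_b_rc_9_2 lc_b_rc_6_1 lc_b_rc_8_2 lc_b_rc_9_2 lc_b_rc_8_2 lc_b_rc_8_2 lc_b_rc_10_2 lc_b_rc_6_1 lc_b_Cert_tree lc_b_rc_8_2 lc_b_rc_9_2 lc_b_rc_8_2 lc_b_rc_10_2 lc_b_rc_9_2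 lc_b_rc_9_2 lc_b_rc_6_1 lc_b_rc_26_1 lc_b_rc_6_1 lc_b_rc_26_5 lc_b_rc_9_2 lc_b_rc_1_3 lc_b_rc_9_2 lc_b_Cert_tree lc_b_Cert_tree lc_b_rc_7_4 lc_b_rc_9_2 lc_b_Cert_tree lc_b_rc_8_2 lc_b_rc_10_2 lc_b_Cert_tree lc_b_Cert_tree lc_b_rc_8_2 lc_b_rc_10_2 lc_b_Cert_tree lc_b_rc_7_4 lc_b_rc_26_1 lc_b_rc_9_2 lc_b_rc_1_3 lc_b_rc_7_4 lc_b_rc_9_2) (@D3.rec (fun _ => (Cert rels S Gen.b)) lc_b_Cert_tree lc_b_Cert_tree lc_b_rc_6_1 lc_b_rc_26_7 lc_b_rc_6_1 lc_b_rc_7_2 lc_b_rc_8_2 lc_b_rc_9_2 lc_b_rc_7_4 lc_b_rc_6_1 lc_b_Cert_tree lc_b_rc_26_1 lc_b_rc_8_2 lc_b_rc_7_4 lc_b_rc_6_1 lc_b_rc_8_2 lc_b_rc_8_2 lc_b_rc_25_4 lc_b_Cert_tree lc_b_rc_7_4 lc_b_rc_9_2 lc_b_Cert_tree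 lc_b_rc_26_5 lc_b_rc_1_3 lc_b_rc_26_5 lc_b_Cert_tree lc_b_rc_26_5 lc_b_rc_1_3 lc_b_rc_9_2 lc_b_rc_6_1 lc_b_rc_26_5 lc_b_rc_8_2 lc_b_rc_6_1 lc_b_rc_8_2 lc_b_rc_7_4 lc_b_Cert_tree lc_b_rc_9_2 lc_b_rc_9_2 lc_b_rc_8_2 lc_b_rc_9_2 lc_b_Cert_tree lc_b_rc_1_5 lc_b_Cert_tree lc_b_rc_6_1 lc_b_Cert_tree lc_b_rc_9_2 lc_b_rc_6_1 lc_b_Cert_tree lc_b_rc_9_2 lc_b_rc_6_1 lc_b_Cert_tree lc_b_rc_1_3 lc_b_Cert_tree lc_b_Cert_tree lc_b_rc_6_1 lc_b_rc_8_2 lc_b_rc_9_2 lc_b_rc_6_1 lc_b_Cert_tree lc_b_rc_8_0 lc_b_rc_10_2 lc_b_rc_9_2) (@D3.rec (fun _ => (Cert rels S Gen.b)) lc_b_rc_9_0 lc_b_Cert_tree lc_b_rc_8_2 lc_b_rc_1_3 lc_b_rc_7_4 lc_b_rc_9_2 lc_b_Cert_tree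 lc_b_rc_9_2 lc_b_rc_8_2 lc_b_rc_10_2 lc_b_rc_1_3 lc_b_rc_6_1 lc_b_rc_9_2 lc_b_rc_9_0 lc_b_Cert_tree lc_b_rc_8_2 lc_b_rc_10_2 lc_b_Cert_tree lc_b_Cert_tree lc_b_rc_1_3 lc_b_rc_9_2 lc_b_Cert_tree lc_b_Cert_tree lc_b_rc_8_2 lc_b_rc_10_2 lc_b_rc_6_1 lc_b_Cert_tree lc_b_rc_26_1 lc_b_rc_6_1 lc_b_Cert_tree lc_b_rc_9_2 lc_b_rc_9_2 lc_b_rc_26_1 lc_b_Cert_tree lc_b_rc_8_2 lc_b_rc_8_2 lc_b_Cert_tree lc_b_Cert_tree lc_b_rc_26_1 lc_b_rc_9_2 lc_b_rc_26_1 lc_b_rc_8_2 lc_b_rc_10_2 lc_b_Cert_tree lc_b_rc_6_1 lc_b_rc_1_1 lc_b_rc_10_2 lc_b_rc_6_1 lc_b_rc_26_5 lc_b_rc_8_2 lc_b_rc_9_2 lc_b_rc_6_1 lc_b_rc_26_5 lc_b_rc_8_2 lc_b_rc_9_2 lc_b_Cert_tree lc_b_Cert_tree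 lc_b_Cert_tree lc_b_rc_10_2 lc_b_rc_6_1 lc_b_rc_9_2 lc_b_rc_6_1) (@D3.rec (fun _ => (Cert rels S Gen.b)) lc_b_rc_9_2 lc_b_rc_6_1 lc_b_rc_8_2 lc_b_rc_10_2 lc_b_rc_9_2 lc_b_rc_8_2 lc_b_rc_9_2 lc_b_Cert_tree lc_b_rc_9_0 lc_b_rc_10_2 lc_b_rc_6_1 lc_b_rc_6_1 lc_b_Cert_tree lc_b_rc_6_1 lc_b_rc_10_2 lc_b_rc_9_0 lc_b_rc_10_2 lc_b_rc_10_2 lc_b_Cert_tree lc_b_Cert_tree lc_b_Cert_tree lc_b_rc_10_2 lc_b_rc_6_1 lc_b_rc_9_2 lc_b_rc_6_1 lc_b_rc_9_2 lc_b_rc_6_1 lc_b_rc_9_2 lc_b_rc_6_1 lc_b_rc_6_1 lc_b_rc_8_2 lc_b_rc_8_2 lc_b_rc_8_2 lc_b_rc_26_5 lc_b_rc_8_2 lc_b_rc_10_2 lc_b_Cert_tree lc_b_Cert_tree lc_b_Cert_tree lc_b_Cert_tree lc_b_rc_9_2 lc_b_rc_9_2 lc_b_rc_26_5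 lc_b_rc_8_2 lc_b_rc_10_2 lc_b_rc_9_2 lc_b_rc_26_5 lc_b_rc_9_0 lc_b_rc_10_2 lc_b_rc_26_5 lc_b_rc_7_0 lc_b_rc_8_2 lc_b_rc_10_2 lc_b_rc_6_1 lc_b_rc_6_1 lc_b_rc_8_2 lc_b_rc_9_2 lc_b_rc_6_1 lc_b_rc_26_5 lc_b_rc_8_2 lc_b_rc_9_2 lc_b_Cert_tree) (@D3.rec (fun _ => (Cert rels S Gen.b)) lc_b_Cert_tree lc_b_Cert_tree lc_b_rc_10_2 lc_b_rc_6_1 lc_b_rc_9_2 lc_b_rc_6_1 lc_b_rc_9_2 lc_b_rc_6_1 lc_b_rc_8_2 lc_b_rc_10_2 lc_b_rc_9_2 lc_b_rc_26_5 lc_b_rc_26_1 lc_b_Cert_tree lc_b_rc_9_2 lc_b_rc_6_1 lc_b_rc_9_2 lc_b_rc_10_2 lc_b_rc_6_1 lc_b_rc_9_2 lc_b_rc_9_2 lc_b_rc_8_2 lc_b_rc_7_4 lc_b_rc_26_1 lc_b_Cert_tree lc_b_rc_6_1 lc_b_rc_9_2 lc_b_rc_6_1 lc_b_rc_6_1 lc_b_rc_10_2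 lc_b_rc_6_1 lc_b_rc_9_2 lc_b_rc_10_2 lc_b_Cert_tree lc_b_Cert_tree lc_b_rc_1_3 lc_b_rc_8_2 lc_b_rc_10_2 lc_b_Cert_tree lc_b_rc_9_2 lc_b_rc_10_2 lc_b_rc_9_2 lc_b_rc_8_2 lc_b_rc_9_2 lc_b_rc_8_2 lc_b_rc_10_2 lc_b_rc_1_3 lc_b_Cert_tree lc_b_rc_6_1 lc_b_Cert_tree lc_b_rc_8_2 lc_b_rc_9_2 lc_b_rc_6_1 lc_b_rc_6_1 lc_b_rc_26_5 lc_b_rc_8_2 lc_b_rc_9_2 lc_b_rc_8_2 lc_b_Cert_tree lc_b_Cert_tree lc_b_rc_7_4 lc_b_rc_9_2) (@D3.rec (fun _ => (Cert rels S Gen.b)) lc_b_rc_10_2 lc_b_rc_9_2 lc_b_Cert_tree lc_b_Cert_tree lc_b_rc_10_2 lc_b_rc_9_2 lc_b_rc_8_2 lc_b_rc_6_1 lc_b_rc_8_2 lc_b_rc_6_1 lc_b_rc_8_2 lc_b_rc_9_2 lc_b_rc_9_2 lc_b_rc_8_2 lc_b_rc_9_2 lc_b_rc_8_2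 lc_b_rc_26_7 lc_b_rc_26_5 lc_b_rc_8_2 lc_b_rc_10_2 lc_b_rc_6_1 lc_b_rc_26_7 lc_b_rc_8_2 lc_b_rc_9_2 lc_b_rc_6_1 lc_b_rc_26_5 lc_b_rc_8_2 lc_b_rc_9_2 lc_b_Cert_tree lc_b_Cert_tree lc_b_Cert_tree lc_b_rc_10_2 lc_b_rc_8_2 lc_b_Cert_tree lc_b_rc_6_1 lc_b_Cert_tree lc_b_rc_9_2 lc_b_rc_6_1 lc_b_rc_7_0 lc_b_rc_8_2 lc_b_rc_9_2 lc_b_Cert_tree lc_b_rc_9_2 lc_b_rc_8_2 lc_b_rc_6_1 lc_b_Cert_tree lc_b_rc_9_2 lc_b_rc_6_1 lc_b_Cert_tree lc_b_rc_9_2 lc_b_Cert_tree lc_b_Cert_tree lc_b_rc_6_1 lc_b_rc_8_2 lc_b_rc_10_2 lc_b_rc_9_2 lc_b_rc_6_1 lc_b_rc_8_2 lc_b_rc_8_0 lc_b_Cert_tree lc_b_Cert_tree lc_b_rc_8_2) (@D3.rec (fun _ => (Cert rels S Gen.b)) lc_b_Cert_tree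 lc_b_Cert_tree lc_b_Cert_tree lc_b_rc_9_2 lc_b_rc_6_1 lc_b_rc_7_4 lc_b_Cert_tree lc_b_rc_26_7 lc_b_Cert_tree lc_b_rc_6_1 lc_b_rc_8_2 lc_b_rc_8_2 lc_b_rc_9_2 lc_b_Cert_tree lc_b_rc_9_2 lc_b_rc_8_2 lc_b_rc_6_1 lc_b_rc_8_2 lc_b_Cert_tree lc_b_Cert_tree lc_b_rc_9_2 lc_b_rc_6_1 lc_b_rc_8_2 lc_b_rc_9_2 lc_b_rc_6_1 lc_b_rc_8_2 lc_b_rc_9_2 lc_b_rc_6_1 lc_b_rc_8_2 lc_b_rc_9_2 lc_b_rc_6_1 lc_b_rc_8_2 lc_b_rc_9_2 lc_b_Cert_tree lc_b_Cert_tree lc_b_rc_9_2 lc_b_rc_8_2 lc_b_rc_10_2 lc_b_Cert_tree lc_b_Cert_tree lc_b_Cert_tree lc_b_rc_9_2 lc_b_rc_10_2 lc_b_rc_8_0 lc_b_rc_8_2 lc_b_rc_8_2 lc_b_rc_9_2 lc_b_rc_8_0 lc_b_rc_6_1 lc_b_rc_8_2 lc_b_rc_9_2 lc_b_rc_6_1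 lc_b_rc_8_2 lc_b_rc_9_2 lc_b_Cert_tree lc_b_Cert_tree lc_b_Cert_tree lc_b_rc_10_2 lc_b_rc_26_5 lc_b_rc_26_1 lc_b_rc_6_1 lc_b_rc_8_2) (@D3.rec (fun _ => (Cert rels S Gen.b)) lc_b_Cert_tree lc_b_rc_8_2 lc_b_Cert_tree lc_b_rc_9_2 lc_b_rc_8_2 lc_b_rc_9_2 lc_b_Cert_tree lc_b_rc_9_2 lc_b_rc_8_2 lc_b_rc_6_1 lc_b_Cert_tree lc_b_rc_9_2 lc_b_rc_6_1 lc_b_Cert_tree lc_b_rc_9_2 lc_b_Cert_tree lc_b_Cert_tree lc_b_rc_6_1 lc_b_rc_8_2 lc_b_rc_10_2 lc_b_rc_9_2 lc_b_rc_8_2 lc_b_Cert_tree lc_b_Cert_tree lc_b_Cert_tree lc_b_rc_9_2 lc_b_Cert_tree lc_b_rc_7_4 lc_b_Cert_tree lc_b_Cert_tree lc_b_rc_6_1 lc_b_rc_8_2 lc_b_rc_6_1 lc_b_rc_8_2 lc_b_rc_9_2 lc_b_rc_6_1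 lc_b_rc_9_2 lc_b_Cert_tree lc_b_rc_8_2 lc_b_rc_8_2 lc_b_rc_9_2 lc_b_Cert_tree lc_b_rc_9_2 lc_b_rc_8_2 lc_b_rc_6_1 lc_b_rc_8_2 lc_b_rc_26_5 lc_b_rc_6_1 lc_b_rc_8_2 lc_b_rc_9_2 lc_b_Cert_tree lc_b_rc_9_2 lc_b_rc_6_1 lc_b_rc_8_2 lc_b_rc_9_2 lc_b_rc_6_1 lc_b_rc_8_2 lc_b_rc_9_2 lc_b_rc_6_1 lc_b_rc_8_2 lc_b_rc_9_2 lc_b_Cert_tree) (@D3.rec (fun _ => (Cert rels S Gen.b)) lc_b_rc_8_2 lc_b_Cert_tree lc_b_Cert_tree lc_b_Cert_tree lc_b_rc_9_2 lc_b_rc_8_2 lc_b_rc_9_2 lc_b_rc_9_0 lc_b_rc_9_2 lc_b_rc_9_2 lc_b_rc_8_2 lc_b_rc_7_4 lc_b_rc_6_1 lc_b_rc_10_2 lc_b_rc_8_2 lc_b_rc_6_1 lc_b_rc_26_7 lc_b_rc_8_2 lc_b_rc_9_2 lc_b_rc_6_1 lc_b_Cert_tree lc_b_rc_8_2 lc_b_rc_9_2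 lc_b_Cert_tree lc_b_Cert_tree lc_b_Cert_tree lc_b_rc_10_2 lc_b_rc_6_1 lc_b_rc_9_2 lc_b_rc_6_1 lc_b_rc_9_2 lc_b_rc_6_1 lc_b_rc_8_2 lc_b_rc_10_2 lc_b_rc_9_2 lc_b_rc_9_2 lc_b_rc_8_2 lc_b_rc_9_2 lc_b_rc_26_7 lc_b_rc_6_1 lc_b_rc_10_2 lc_b_rc_8_2 lc_b_rc_9_2 lc_b_rc_9_2 lc_b_rc_6_1 lc_b_Cert_tree lc_b_rc_8_2 lc_b_rc_10_2 lc_b_rc_8_2 lc_b_rc_9_2 lc_b_rc_6_1 lc_b_rc_8_2 lc_b_rc_9_2 lc_b_rc_6_1 lc_b_Cert_tree lc_b_Cert_tree lc_b_rc_10_2 lc_b_rc_6_1 lc_b_rc_9_2 lc_b_rc_6_1 lc_b_rc_9_2 lc_b_rc_6_1) (@D3.rec (fun _ => (Cert rels S Gen.b)) lc_b_rc_8_2 lc_b_rc_10_2 lc_b_rc_9_2 lc_b_rc_6_1 lc_b_rc_7_0 lc_b_rc_8_2 lc_b_rc_10_2 lc_b_rc_6_1 lc_b_rc_8_2 lc_b_rc_10_2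 lc_b_rc_8_2 lc_b_rc_9_2 lc_b_rc_6_1 lc_b_Cert_tree lc_b_rc_10_2 lc_b_rc_8_2 lc_b_rc_10_2 lc_b_rc_8_2 lc_b_rc_9_2 lc_b_rc_26_1 lc_b_Cert_tree lc_b_rc_10_2 lc_b_rc_6_1 lc_b_rc_1_3 lc_b_rc_10_2 lc_b_rc_6_1 lc_b_rc_8_2 lc_b_rc_9_2 lc_b_rc_6_1 lc_b_rc_8_2 lc_b_rc_9_2 lc_b_Cert_tree lc_b_Cert_tree lc_b_Cert_tree lc_b_rc_10_2 lc_b_rc_8_2 lc_b_rc_8_2 lc_b_rc_9_2 lc_b_rc_6_1 lc_b_rc_8_2 lc_b_rc_10_2 lc_b_rc_6_1 lc_b_rc_8_2 lc_b_rc_9_2 lc_b_rc_8_2 lc_b_rc_9_2 lc_b_Cert_tree lc_b_rc_8_0 lc_b_Cert_tree lc_b_rc_10_2 lc_b_rc_1_5 lc_b_rc_8_2 lc_b_rc_9_2 lc_b_rc_6_1 lc_b_rc_6_1 lc_b_rc_8_2 lc_b_rc_9_2 lc_b_rc_26_7 lc_b_rc_26_5 lc_b_Cert_tree lc_b_rc_9_2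 lc_b_rc_7_0) (@D3.rec (fun _ => (Cert rels S Gen.b)) lc_b_rc_8_2 lc_b_rc_10_2 lc_b_rc_6_1 lc_b_rc_10_2 lc_b_rc_8_2 lc_b_rc_9_2 lc_b_rc_8_2 lc_b_rc_9_2 lc_b_Cert_tree lc_b_rc_9_2 lc_b_rc_8_2 lc_b_rc_10_2 lc_b_rc_6_1 lc_b_Cert_tree lc_b_rc_8_2 lc_b_rc_9_2 lc_b_rc_6_1 lc_b_Cert_tree lc_b_rc_9_2 lc_b_rc_9_2 lc_b_Cert_tree lc_b_Cert_tree lc_b_rc_6_1 lc_b_rc_8_2 lc_b_rc_10_2 lc_b_rc_9_2 lc_b_rc_8_2 lc_b_rc_9_2 lc_b_rc_26_5 lc_b_Cert_tree lc_b_rc_9_2 lc_b_rc_8_2 lc_b_rc_9_2 lc_b_Cert_tree lc_b_rc_9_2 lc_b_rc_6_1 lc_b_Cert_tree lc_b_rc_9_2 lc_b_rc_6_1 lc_b_Cert_tree lc_b_rc_9_2 lc_b_Cert_tree lc_b_Cert_tree lc_b_rc_6_1 lc_b_rc_8_2 lc_b_rc_10_2 lc_b_rc_9_2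 lc_b_rc_26_1 lc_b_rc_8_2 lc_b_rc_10_2 lc_b_rc_10_2 lc_b_rc_26_5 lc_b_Cert_tree lc_b_Cert_tree lc_b_rc_9_2 lc_b_rc_9_0 lc_b_Cert_tree lc_b_rc_10_2 lc_b_rc_6_1 lc_b_Cert_tree lc_b_rc_9_2 lc_b_Cert_tree) (@D3.rec (fun _ => (Cert rels S Gen.b)) lc_b_rc_9_2 lc_b_Cert_tree lc_b_Cert_tree lc_b_rc_6_1 lc_b_rc_8_2 lc_b_rc_9_2 lc_b_Cert_tree lc_b_rc_8_2 lc_b_rc_10_2 lc_b_rc_8_2 lc_b_rc_8_2 lc_b_rc_6_1 lc_b_rc_8_2 lc_b_rc_9_2 lc_b_Cert_tree lc_b_rc_8_2 lc_b_rc_7_4 lc_b_rc_26_5 lc_b_rc_26_5 lc_b_Cert_tree lc_b_rc_9_2 lc_b_rc_8_2 lc_b_rc_9_2 lc_b_rc_8_2 lc_b_rc_10_2 lc_b_rc_6_1 lc_b_rc_8_2 lc_b_rc_9_2 lc_b_rc_26_5 lc_b_Cert_tree lc_b_rc_8_2 lc_b_rc_10_2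 lc_b_Cert_tree lc_b_rc_10_2 lc_b_Cert_tree lc_b_rc_8_2 lc_b_rc_9_2 lc_b_Cert_tree lc_b_rc_6_1 lc_b_rc_8_2 lc_b_rc_9_2 lc_b_Cert_tree lc_b_rc_26_7 lc_b_rc_8_2 lc_b_rc_10_2 lc_b_rc_1_3 lc_b_Cert_tree lc_b_rc_9_2 lc_b_rc_6_1 lc_b_rc_8_2 lc_b_rc_9_2 lc_b_rc_9_2 lc_b_Cert_tree lc_b_rc_10_2 lc_b_rc_6_1 lc_b_rc_8_2 lc_b_rc_9_2 lc_b_rc_6_1 lc_b_rc_8_2 lc_b_rc_9_2 lc_b_Cert_tree lc_b_Cert_tree) (@D3.rec (fun _ => (Cert rels S Gen.b)) lc_b_rc_1_3 lc_b_rc_8_2 lc_b_rc_10_2 lc_b_Cert_tree lc_b_Cert_tree lc_b_rc_9_2 lc_b_rc_9_2 lc_b_Cert_tree lc_b_Cert_tree lc_b_rc_6_1 lc_b_rc_6_1 lc_b_rc_8_2 lc_b_rc_10_2 lc_b_rc_8_0 lc_b_Cert_tree lc_b_Cert_tree lc_b_Cert_tree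 lc_b_rc_9_2 lc_b_Cert_tree lc_b_Cert_tree lc_b_rc_8_2 lc_b_rc_10_2 lc_b_rc_6_1 lc_b_Cert_tree lc_b_rc_9_2 lc_b_rc_6_1 lc_b_Cert_tree lc_b_rc_9_2 lc_b_rc_6_1 lc_b_rc_9_2 lc_b_Cert_tree lc_b_Cert_tree lc_b_rc_8_2 lc_b_rc_10_2 lc_b_rc_6_1 lc_b_rc_8_2 lc_b_Cert_tree lc_b_rc_6_1 lc_b_rc_8_2 lc_b_rc_6_1 lc_b_rc_8_2 lc_b_rc_6_1 lc_b_rc_8_2 lc_b_rc_6_1 lc_b_rc_8_2 lc_b_Cert_tree lc_b_Cert_tree lc_b_rc_9_2 lc_b_rc_8_2 lc_b_rc_9_2 lc_b_rc_9_2 lc_b_Cert_tree lc_b_Cert_tree lc_b_rc_8_2 lc_b_rc_10_2 lc_b_rc_6_1 lc_b_Cert_tree lc_b_Cert_tree lc_b_rc_8_2 lc_b_rc_6_1 lc_b_rc_8_2 lc_b_rc_9_0) (@D3.rec (fun _ => (Cert rels S Gen.b)) lc_b_rc_9_2 lc_b_rc_6_1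 lc_b_rc_9_0 lc_b_rc_6_1 lc_b_rc_8_2 lc_b_Cert_tree lc_b_Cert_tree lc_b_Cert_tree lc_b_rc_9_2 lc_b_Cert_tree lc_b_Cert_tree lc_b_rc_8_2 lc_b_rc_10_2 lc_b_rc_6_1 lc_b_rc_9_2 lc_b_Cert_tree lc_b_Cert_tree lc_b_rc_8_2 lc_b_rc_10_2 lc_b_Cert_tree lc_b_Cert_tree lc_b_rc_1_3 lc_b_rc_8_2 lc_b_rc_9_2 lc_b_rc_8_2 lc_b_Cert_tree lc_b_Cert_tree lc_b_rc_10_2 lc_b_rc_8_2 lc_b_Cert_tree lc_b_Cert_tree lc_b_rc_9_2 lc_b_Cert_tree lc_b_Cert_tree lc_b_rc_10_2 lc_b_rc_26_1 lc_b_rc_6_1 lc_b_rc_6_1 lc_b_rc_7_2 lc_b_Cert_tree lc_b_rc_6_1 lc_b_rc_8_2 lc_b_rc_9_2 lc_b_rc_9_2 lc_b_Cert_tree lc_b_rc_8_2 lc_b_rc_6_1 lc_b_Cert_tree lc_b_Cert_tree lc_b_Cert_tree lc_b_rc_1_3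 lc_b_rc_7_4 lc_b_rc_8_2 lc_b_rc_9_2 lc_b_Cert_tree lc_b_Cert_tree lc_b_rc_9_2 lc_b_rc_8_2 lc_b_rc_10_2 lc_b_rc_7_4 lc_b_Cert_tree lc_b_rc_1_3) (@D3.rec (fun _ => (Cert rels S Gen.b)) lc_b_rc_7_4 lc_b_rc_8_2 lc_b_rc_9_2 lc_b_rc_9_2 lc_b_rc_8_2 lc_b_rc_9_2 lc_b_rc_10_2 lc_b_Cert_tree lc_b_rc_6_1 lc_b_Cert_tree lc_b_rc_8_2 lc_b_rc_6_1 lc_b_rc_6_1 lc_b_rc_10_0 lc_b_rc_8_2 lc_b_rc_9_2 lc_b_rc_1_3 lc_b_Cert_tree lc_b_Cert_tree lc_b_Cert_tree lc_b_rc_9_2 lc_b_rc_10_2 lc_b_rc_9_2 lc_b_rc_6_1 lc_b_rc_9_2 lc_b_rc_6_1 lc_b_rc_9_2 lc_b_rc_6_1 lc_b_rc_9_2 lc_b_Cert_tree lc_b_Cert_tree lc_b_rc_10_2 lc_b_rc_9_2 lc_b_rc_8_2 lc_b_rc_6_1 lc_b_rc_8_2 lc_b_rc_9_2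 lc_b_rc_9_0 lc_b_rc_8_2 lc_b_rc_10_2 lc_b_rc_1_5 lc_b_rc_26_1 lc_b_rc_1_3 lc_b_rc_9_2 lc_b_rc_7_2 lc_b_Cert_tree lc_b_rc_8_2 lc_b_rc_10_2 lc_b_Cert_tree lc_b_Cert_tree lc_b_rc_1_3 lc_b_rc_8_2 lc_b_rc_9_2 lc_b_rc_9_2 lc_b_rc_8_2 lc_b_rc_6_1 lc_b_Cert_tree lc_b_rc_1_3 lc_b_rc_7_2 lc_b_rc_8_2 lc_b_rc_9_2 lc_b_rc_6_1) (@D3.rec (fun _ => (Cert rels S Gen.b)) lc_b_Cert_tree lc_b_rc_8_2 lc_b_rc_6_1 lc_b_rc_26_5 lc_b_rc_8_2 lc_b_rc_9_2 lc_b_rc_1_3 lc_b_rc_1_1 lc_b_Cert_tree lc_b_Cert_tree lc_b_rc_7_4 lc_b_rc_9_2 lc_b_Cert_tree lc_b_rc_8_2 lc_b_Cert_tree lc_b_Cert_tree lc_b_rc_8_2 lc_b_rc_10_2 lc_b_rc_6_1 lc_b_rc_8_2 lc_b_rc_6_1 lc_b_rc_8_2 lc_b_rc_9_2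 lc_b_Cert_tree lc_b_Cert_tree lc_b_rc_8_0 lc_b_rc_8_2 lc_b_Cert_tree lc_b_rc_8_2 lc_b_rc_6_1 lc_b_rc_8_2 lc_b_rc_26_1 lc_b_rc_6_1 lc_b_rc_8_2 lc_b_rc_9_2 lc_b_rc_25_16 lc_b_rc_6_1 lc_b_rc_6_1 lc_b_rc_6_1 lc_b_rc_8_2 lc_b_rc_6_1 lc_b_rc_8_2 lc_b_Cert_tree lc_b_Cert_tree lc_b_rc_7_4 lc_b_rc_9_2 lc_b_Cert_tree lc_b_Cert_tree lc_b_rc_10_2 lc_b_rc_6_1 lc_b_rc_8_2 lc_b_rc_10_2 lc_b_rc_26_1 lc_b_rc_6_1 lc_b_Cert_tree lc_b_rc_9_2 lc_b_rc_6_1 lc_b_rc_26_5 lc_b_rc_8_2 lc_b_Cert_tree lc_b_Cert_tree lc_b_rc_7_4) (@D3.rec (fun _ => (Cert rels S Gen.b)) lc_b_rc_9_2 lc_b_rc_6_1 lc_b_rc_9_2 lc_b_rc_6_1 lc_b_rc_9_2 lc_b_Cert_tree lc_b_Cert_tree lc_b_rc_10_2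 lc_b_rc_26_1 lc_b_rc_6_1 lc_b_rc_8_2 lc_b_rc_6_1 lc_b_rc_8_2 lc_b_rc_6_1 lc_b_rc_6_1 lc_b_rc_1_3 lc_b_Cert_tree lc_b_Cert_tree lc_b_rc_7_4 lc_b_rc_9_2 lc_b_rc_8_2 lc_b_Cert_tree lc_b_Cert_tree lc_b_rc_8_2 lc_b_rc_10_2 lc_b_rc_6_1 lc_b_rc_8_2 lc_b_rc_6_1 lc_b_rc_8_2 lc_b_Cert_tree lc_b_Cert_tree lc_b_rc_8_2 lc_b_rc_6_1 lc_b_rc_8_2 lc_b_Cert_tree lc_b_rc_6_1 lc_b_rc_8_2 lc_b_rc_6_1 lc_b_rc_6_1 lc_b_rc_8_2 lc_b_rc_9_2 lc_b_rc_6_1 lc_b_rc_26_5 lc_b_rc_8_2 lc_b_Cert_tree lc_b_rc_8_2 lc_b_rc_1_3 lc_b_rc_7_4 lc_b_Cert_tree lc_b_rc_8_2 lc_b_rc_9_2 lc_b_rc_26_5 lc_b_Cert_tree lc_b_rc_7_2 lc_b_Cert_tree lc_b_Cert_tree lc_b_rc_8_2 lc_b_rc_10_2 lc_b_Cert_tree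 lc_b_Cert_tree lc_b_rc_25_0 lc_b_Cert_tree) (@D3.rec (fun _ => (Cert rels S Gen.b)) lc_b_rc_10_2 lc_b_rc_26_5 lc_b_rc_7_2 lc_b_rc_6_1 lc_b_rc_6_1 lc_b_rc_8_2 lc_b_rc_9_2 lc_b_rc_1_3 lc_b_rc_1_3 lc_b_rc_9_2 lc_b_Cert_tree lc_b_Cert_tree lc_b_rc_8_2 lc_b_rc_9_2 lc_b_rc_8_2 lc_b_Cert_tree lc_b_rc_6_1 lc_b_rc_9_2 lc_b_rc_7_4 lc_b_rc_8_2 lc_b_rc_10_2 lc_b_Cert_tree lc_b_Cert_tree lc_b_rc_8_2 lc_b_rc_10_2 lc_b_Cert_tree lc_b_rc_10_2 lc_b_rc_9_2 lc_b_rc_6_1 lc_b_rc_8_2 lc_b_rc_9_2 lc_b_rc_10_2 lc_b_rc_8_2 lc_b_rc_9_2 lc_b_rc_6_1 lc_b_rc_6_1 lc_b_rc_6_1 lc_b_rc_8_2 lc_b_rc_9_2 lc_b_rc_10_2 lc_b_rc_26_5 lc_b_Cert_tree lc_b_rc_9_2 lc_b_rc_10_2 lc_b_rc_26_5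 lc_b_rc_8_2 lc_b_rc_10_2 lc_b_rc_9_2 lc_b_rc_26_1 lc_b_rc_10_0 lc_b_rc_8_2 lc_b_rc_9_2 lc_b_rc_10_0 lc_b_rc_9_2 lc_b_Cert_tree lc_b_rc_9_2 lc_b_rc_10_0 lc_b_rc_8_2 lc_b_rc_10_2 lc_b_Cert_tree lc_b_rc_9_2 lc_b_rc_6_1) (@D3.rec (fun _ => (Cert rels S Gen.b)) lc_b_Cert_tree lc_b_rc_9_2 lc_b_rc_6_1 lc_b_Cert_tree lc_b_rc_9_2 lc_b_Cert_tree lc_b_Cert_tree lc_b_rc_8_2 lc_b_rc_9_2 lc_b_Cert_tree lc_b_Cert_tree lc_b_rc_10_2 lc_b_rc_6_1 lc_b_rc_9_0 lc_b_rc_8_2 lc_b_rc_1_3 lc_b_rc_7_4 lc_b_rc_9_2 lc_b_Cert_tree lc_b_rc_26_5 lc_b_rc_8_2 lc_b_rc_10_2 lc_b_rc_1_3 lc_b_rc_7_4 lc_b_rc_9_2 lc_b_rc_26_1 lc_b_Cert_tree lc_b_rc_9_2 lc_b_rc_10_2 lc_b_rc_6_1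 lc_b_rc_26_1 lc_b_rc_8_2 lc_b_rc_9_2 lc_b_rc_6_1 lc_b_rc_1_5 lc_b_rc_8_2 lc_b_rc_9_2 lc_b_rc_6_1 lc_b_rc_8_2 lc_b_rc_8_2 lc_b_Cert_tree lc_b_Cert_tree lc_b_Cert_tree lc_b_rc_6_1 lc_b_rc_8_2 lc_b_Cert_tree lc_b_Cert_tree lc_b_rc_10_2 lc_b_Cert_tree lc_b_Cert_tree lc_b_rc_1_3 lc_b_rc_9_2 lc_b_rc_8_2 lc_b_rc_8_2 lc_b_rc_26_7 lc_b_rc_6_1 lc_b_rc_1_3 lc_b_rc_1_3 lc_b_rc_6_1 lc_b_rc_26_1 lc_b_rc_8_2 lc_b_rc_6_1) (@D3.rec (fun _ => (Cert rels S Gen.b)) lc_b_rc_6_1 lc_b_rc_26_1 lc_b_rc_8_2 lc_b_rc_9_2 lc_b_Cert_tree lc_b_Cert_tree lc_b_Cert_tree lc_b_rc_10_2 lc_b_rc_8_2 lc_b_rc_9_2 lc_b_Cert_tree lc_b_rc_9_2 lc_b_rc_6_1 lc_b_rc_8_2 lc_b_rc_9_2 lc_b_Cert_tree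 lc_b_rc_9_2 lc_b_rc_6_1 lc_b_Cert_tree lc_b_rc_9_2 lc_b_rc_6_1 lc_b_Cert_tree lc_b_rc_9_2 lc_b_Cert_tree lc_b_Cert_tree lc_b_rc_6_1 lc_b_rc_8_2 lc_b_rc_10_2 lc_b_rc_9_2 lc_b_rc_8_2 lc_b_rc_9_2 lc_b_Cert_tree lc_b_rc_9_2 lc_b_Cert_tree lc_b_rc_8_2 lc_b_rc_8_2 lc_b_rc_9_2 lc_b_Cert_tree lc_b_rc_9_2 lc_b_rc_10_0 lc_b_rc_6_1 lc_b_rc_8_2 lc_b_rc_9_2 lc_b_rc_8_2 lc_b_rc_7_4 lc_b_rc_6_1 lc_b_rc_8_2 lc_b_rc_6_1 lc_b_rc_8_2 lc_b_rc_9_2 lc_b_rc_26_5 lc_b_Cert_tree lc_b_rc_1_3 lc_b_rc_8_2 lc_b_rc_10_2 lc_b_Cert_tree lc_b_Cert_tree lc_b_Cert_tree lc_b_rc_9_2 lc_b_rc_10_2 lc_b_rc_9_2 lc_b_rc_1_3) (@D3.rec (fun _ => (Cert rels S Gen.b)) lc_b_rc_7_0 lc_b_rc_6_1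 lc_b_Cert_tree lc_b_rc_9_2 lc_b_rc_10_2 lc_b_rc_6_1 lc_b_rc_8_2 lc_b_rc_6_1 lc_b_rc_7_4 lc_b_rc_9_2 lc_b_rc_9_2 lc_b_Cert_tree lc_b_Cert_tree lc_b_rc_10_2 lc_b_Cert_tree lc_b_Cert_tree lc_b_rc_8_2 lc_b_rc_26_5 lc_b_rc_8_2 lc_b_rc_9_2 lc_b_rc_26_1 lc_b_rc_10_2 lc_b_rc_9_2 lc_b_rc_8_2 lc_b_rc_9_2 lc_b_rc_6_1 lc_b_rc_8_2 lc_b_Cert_tree lc_b_Cert_tree lc_b_rc_8_2 lc_b_rc_10_2 lc_b_Cert_tree lc_b_rc_1_3 lc_b_rc_6_1 lc_b_rc_9_2 lc_b_rc_26_5 lc_b_rc_9_0 lc_b_rc_8_2 lc_b_Cert_tree lc_b_rc_8_2 lc_b_rc_9_2 lc_b_rc_6_1 lc_b_rc_9_2 lc_b_rc_6_1 lc_b_rc_1_1 lc_b_rc_9_2 lc_b_rc_10_2 lc_b_rc_9_2 lc_b_rc_1_3 lc_b_rc_8_2 lc_b_rc_10_2 lc_b_rc_1_1 lc_b_rc_7_2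 lc_b_rc_9_2 lc_b_rc_26_7 lc_b_rc_8_2 lc_b_Cert_tree lc_b_rc_8_2 lc_b_rc_6_1 lc_b_Cert_tree lc_b_rc_6_1 lc_b_Cert_tree) (@D3.rec (fun _ => (Cert rels S Gen.b)) lc_b_rc_9_2 lc_b_Cert_tree lc_b_Cert_tree lc_b_rc_6_1 lc_b_rc_8_2 lc_b_rc_9_2 lc_b_rc_6_1 lc_b_Cert_tree lc_b_Cert_tree lc_b_rc_10_2 lc_b_rc_9_2 lc_b_Cert_tree lc_b_rc_8_2 lc_b_rc_1_3 lc_b_rc_9_2 lc_b_Cert_tree lc_b_Cert_tree lc_b_rc_8_2 lc_b_rc_10_2 lc_b_rc_6_1 lc_b_Cert_tree lc_b_rc_8_2 lc_b_rc_9_2 lc_b_rc_6_1 lc_b_Cert_tree lc_b_rc_26_1 lc_b_rc_9_2 lc_b_rc_9_2 lc_b_Cert_tree lc_b_Cert_tree lc_b_rc_8_2 lc_b_Cert_tree lc_b_rc_6_1 lc_b_rc_9_2 lc_b_rc_6_1 lc_b_rc_10_2 lc_b_rc_26_5 lc_b_Cert_tree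 lc_b_rc_1_3 lc_b_rc_9_2 lc_b_rc_8_2 lc_b_rc_10_2 lc_b_rc_8_2 lc_b_rc_6_1 lc_b_rc_8_2 lc_b_rc_10_2 lc_b_rc_6_1 lc_b_rc_8_2 lc_b_rc_9_2 lc_b_rc_26_1 lc_b_rc_9_2 lc_b_rc_6_1 lc_b_rc_8_2 lc_b_rc_25_0 lc_b_rc_26_1 lc_b_rc_26_7 lc_b_rc_26_5 lc_b_rc_6_1 lc_b_rc_8_2 lc_b_rc_7_4 lc_b_rc_26_1 lc_b_rc_8_0) (@D3.rec (fun _ => (Cert rels S Gen.b)) lc_b_rc_9_2 lc_b_rc_6_1 lc_b_rc_8_2 lc_b_rc_6_1 lc_b_rc_8_2 lc_b_rc_9_2 lc_b_rc_6_1 lc_b_rc_7_4 lc_b_rc_1_3 lc_b_rc_8_2 lc_b_rc_9_2 lc_b_rc_9_2 lc_b_rc_26_7 lc_b_Cert_tree lc_b_rc_8_2 lc_b_rc_10_2 lc_b_rc_7_4 lc_b_rc_26_7 lc_b_Cert_tree lc_b_rc_8_2 lc_b_rc_26_7 lc_b_rc_6_1 lc_b_rc_8_0 lc_b_rc_10_2 lc_b_rc_6_1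 lc_b_Cert_tree lc_b_rc_1_3 lc_b_rc_9_2 lc_b_rc_8_2 lc_b_rc_10_2 lc_b_rc_1_3 lc_b_rc_6_1 lc_b_Cert_tree lc_b_rc_8_2 lc_b_rc_9_2 lc_b_rc_6_1 lc_b_rc_26_5 lc_b_rc_8_2 lc_b_rc_9_2 lc_b_rc_9_2 lc_b_Cert_tree lc_b_rc_7_4 lc_b_rc_8_2 lc_b_rc_10_2 lc_b_Cert_tree lc_b_Cert_tree lc_b_Cert_tree lc_b_rc_10_2 lc_b_rc_6_1 lc_b_rc_8_2 lc_b_rc_9_2 lc_b_rc_6_1 lc_b_rc_8_2 lc_b_rc_9_2 lc_b_rc_9_2 lc_b_rc_6_1 lc_b_rc_8_2 lc_b_rc_9_2 lc_b_rc_8_2 lc_b_rc_26_7 lc_b_rc_6_1 lc_b_rc_26_5) (@D3.rec (fun _ => (Cert rels S Gen.b)) lc_b_rc_9_2 lc_b_rc_1_3 lc_b_rc_9_2 lc_b_rc_7_4 lc_b_rc_9_2 lc_b_rc_6_1 lc_b_rc_8_2 lc_b_Cert_tree lc_b_Cert_tree lc_b_rc_8_2 lc_b_rc_10_2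 lc_b_Cert_tree lc_b_rc_1_5 lc_b_rc_8_2 lc_b_rc_9_2 lc_b_rc_6_1 lc_b_rc_6_1 lc_b_rc_9_2 lc_b_rc_1_3 lc_b_rc_1_3 lc_b_rc_8_2 lc_b_rc_7_4 lc_b_rc_9_2 lc_b_rc_6_1 lc_b_rc_26_5 lc_b_rc_8_2 lc_b_Cert_tree lc_b_Cert_tree lc_b_rc_8_2 lc_b_rc_10_2 lc_b_Cert_tree lc_b_rc_9_2 lc_b_rc_6_1 lc_b_rc_9_2 lc_b_rc_8_2 lc_b_rc_7_4 lc_b_rc_9_2 lc_b_Cert_tree lc_b_rc_26_7 lc_b_rc_10_2 lc_b_rc_7_0 lc_b_rc_8_2 lc_b_rc_9_2 lc_b_rc_6_1 lc_b_rc_9_2 lc_b_rc_25_4 lc_b_rc_9_2 lc_b_rc_1_5 lc_b_rc_8_2 lc_b_rc_1_1 lc_b_rc_8_2 lc_b_Cert_tree lc_b_rc_9_2 lc_b_Cert_tree lc_b_rc_9_2 lc_b_Cert_tree lc_b_Cert_tree lc_b_rc_8_2 lc_b_rc_10_2 lc_b_rc_6_1 lc_b_rc_26_7 lc_b_rc_9_2)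 (@D3.rec (fun _ => (Cert rels S Gen.b)) lc_b_rc_6_1 lc_b_Cert_tree lc_b_rc_9_2 lc_b_Cert_tree lc_b_Cert_tree lc_b_rc_8_2 lc_b_rc_9_2 lc_b_Cert_tree lc_b_Cert_tree lc_b_rc_8_2 lc_b_rc_10_2 lc_b_rc_6_1 lc_b_Cert_tree lc_b_rc_8_2 lc_b_rc_6_1 lc_b_Cert_tree lc_b_rc_8_2 lc_b_Cert_tree lc_b_Cert_tree lc_b_rc_10_2 lc_b_rc_1_3 lc_b_rc_7_4 lc_b_rc_9_2 lc_b_rc_8_2 lc_b_rc_10_2 lc_b_rc_6_1 lc_b_Cert_tree lc_b_rc_8_2 lc_b_rc_9_2 lc_b_rc_6_1 lc_b_Cert_tree lc_b_rc_8_2 lc_b_rc_9_2 lc_b_Cert_tree lc_b_Cert_tree lc_b_Cert_tree lc_b_rc_8_2 lc_b_rc_26_7 lc_b_rc_9_2 lc_b_rc_8_2 lc_b_Cert_tree lc_b_rc_9_2 lc_b_rc_9_0 lc_b_rc_1_3 lc_b_rc_8_2 lc_b_Cert_tree lc_b_rc_9_2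 lc_b_rc_6_1 lc_b_Cert_tree lc_b_rc_9_2 lc_b_rc_6_1 lc_b_rc_8_2 lc_b_rc_10_2 lc_b_rc_9_2 lc_b_rc_6_1 lc_b_rc_6_1 lc_b_rc_1_3 lc_b_rc_8_2 lc_b_Cert_tree lc_b_rc_9_2 lc_b_Cert_tree lc_b_rc_1_3) (@D3.rec (fun _ => (Cert rels S Gen.b)) lc_b_rc_8_2 lc_b_Cert_tree lc_b_rc_9_2 lc_b_rc_8_2 lc_b_Cert_tree lc_b_Cert_tree lc_b_rc_7_2 lc_b_rc_8_2 lc_b_rc_9_2 lc_b_rc_9_2 lc_b_rc_26_5 lc_b_rc_8_2 lc_b_rc_26_7 lc_b_rc_7_4 lc_b_rc_8_2 lc_b_rc_26_1 lc_b_rc_8_2 lc_b_rc_6_1 lc_b_rc_26_5 lc_b_rc_26_7 lc_b_rc_9_2 lc_b_rc_10_2 lc_b_rc_26_1 lc_b_Cert_tree lc_b_rc_26_1 lc_b_rc_6_1 lc_b_Cert_tree lc_b_Cert_tree lc_b_rc_26_7 lc_b_rc_8_2 lc_b_rc_6_1 lc_b_rc_6_1 lc_b_rc_8_2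 lc_b_rc_10_0 lc_b_rc_6_1 lc_b_rc_8_2 lc_b_rc_9_2 lc_b_rc_9_2 lc_b_rc_6_1 lc_b_rc_9_2 lc_b_rc_9_2 lc_b_rc_8_2 lc_b_rc_8_2 lc_b_rc_1_1 lc_b_Cert_tree lc_b_rc_9_2 lc_b_rc_6_1 lc_b_Cert_tree lc_b_Cert_tree lc_b_Cert_tree lc_b_rc_8_2 lc_b_rc_8_2 lc_b_rc_6_1 lc_b_Cert_tree lc_b_rc_8_2 lc_b_rc_6_1 lc_b_rc_7_4 lc_b_rc_8_2 lc_b_Cert_tree lc_b_Cert_tree lc_b_rc_10_2 lc_b_rc_6_1) (@D3.rec (fun _ => (Cert rels S Gen.b)) lc_b_Cert_tree lc_b_rc_8_2 lc_b_rc_6_1 lc_b_Cert_tree lc_b_rc_8_2 lc_b_rc_9_2 lc_b_Cert_tree lc_b_Cert_tree lc_b_Cert_tree lc_b_rc_26_1 lc_b_rc_6_1 lc_b_rc_1_3 lc_b_rc_8_2 lc_b_Cert_tree lc_b_rc_9_2 lc_b_rc_26_7 lc_b_rc_1_3 lc_b_rc_8_2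 lc_b_Cert_tree lc_b_rc_6_1 lc_b_rc_9_2 lc_b_rc_1_5 lc_b_rc_8_2 lc_b_rc_9_2 lc_b_rc_8_2 lc_b_rc_9_2 lc_b_rc_6_1 lc_b_rc_8_2 lc_b_rc_9_2 lc_b_rc_8_2 lc_b_rc_8_2 lc_b_rc_8_2 lc_b_Cert_tree lc_b_rc_9_2 lc_b_rc_6_1 lc_b_Cert_tree lc_b_rc_9_2 lc_b_rc_6_1 lc_b_Cert_tree lc_b_rc_9_2 lc_b_Cert_tree lc_b_Cert_tree lc_b_rc_8_2 lc_b_rc_9_2 lc_b_Cert_tree lc_b_rc_1_3 lc_b_rc_7_4 lc_b_rc_9_2 lc_b_Cert_tree lc_b_rc_26_5 lc_b_rc_10_2 lc_b_rc_8_2 lc_b_rc_7_4 lc_b_rc_9_2 lc_b_rc_10_2 lc_b_Cert_tree lc_b_rc_10_2 lc_b_rc_6_1 lc_b_Cert_tree lc_b_rc_8_2 lc_b_rc_9_2 lc_b_rc_6_1) (@D3.rec (fun _ => (Cert rels S Gen.b)) lc_b_Cert_tree lc_b_rc_8_2 lc_b_rc_9_2 lc_b_rc_1_5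 lc_b_rc_8_2 lc_b_rc_8_2 lc_b_rc_6_1 lc_b_Cert_tree lc_b_rc_9_2 lc_b_rc_6_1 lc_b_Cert_tree lc_b_rc_9_2 lc_b_rc_26_7 lc_b_rc_26_5 lc_b_rc_9_2 lc_b_rc_1_3 lc_b_rc_1_3 lc_b_rc_8_2 lc_b_rc_9_2 lc_b_rc_8_2 lc_b_rc_9_2 lc_b_Cert_tree lc_b_rc_9_2 lc_b_rc_6_1 lc_b_rc_8_2 lc_b_rc_8_2 lc_b_Cert_tree lc_b_rc_9_2 lc_b_Cert_tree lc_b_rc_9_2 lc_b_rc_6_1 lc_b_Cert_tree lc_b_rc_9_2 lc_b_rc_6_1 lc_b_Cert_tree lc_b_rc_9_2 lc_b_Cert_tree lc_b_Cert_tree lc_b_rc_8_2 lc_b_rc_9_2 lc_b_Cert_tree lc_b_rc_26_5 lc_b_rc_10_2 lc_b_rc_6_1 lc_b_rc_8_2 lc_b_rc_9_2 lc_b_rc_6_1 lc_b_rc_8_2 lc_b_rc_9_2 lc_b_rc_10_0 lc_b_rc_25_4 lc_b_rc_6_1 lc_b_rc_8_2 lc_b_rc_9_2 lc_b_Cert_tree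 lc_b_rc_9_2 lc_b_rc_26_5 lc_b_rc_8_2 lc_b_Cert_tree lc_b_rc_26_5 lc_b_rc_9_2 lc_b_rc_6_1) (@D3.rec (fun _ => (Cert rels S Gen.b)) lc_b_Cert_tree lc_b_rc_9_2 lc_b_Cert_tree lc_b_rc_6_1 lc_b_rc_8_2 lc_b_rc_26_1 lc_b_rc_9_2 lc_b_rc_6_1 lc_b_rc_26_5 lc_b_rc_7_2 lc_b_rc_6_1 lc_b_rc_9_2 lc_b_rc_9_2 lc_b_Cert_tree lc_b_rc_9_2 lc_b_rc_8_2 lc_b_rc_8_2 lc_b_rc_1_3 lc_b_Cert_tree lc_b_rc_9_2 lc_b_rc_9_2 lc_b_rc_8_2 lc_b_rc_9_2 lc_b_rc_8_2 lc_b_rc_1_5 lc_b_Cert_tree lc_b_rc_9_2 lc_b_rc_8_2 lc_b_rc_9_2 lc_b_Cert_tree lc_b_Cert_tree lc_b_rc_6_1 lc_b_rc_8_2 lc_b_rc_9_2 lc_b_rc_26_7 lc_b_rc_8_2 lc_b_rc_8_2 lc_b_Cert_tree lc_b_Cert_tree lc_b_rc_9_2 lc_b_rc_6_1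 lc_b_rc_6_1 lc_b_rc_8_2 lc_b_rc_9_2 lc_b_rc_6_1 lc_b_Cert_tree lc_b_rc_9_2 lc_b_rc_6_1 lc_b_Cert_tree lc_b_rc_10_2 lc_b_rc_8_0 lc_b_Cert_tree lc_b_rc_6_1 lc_b_rc_8_2 lc_b_rc_9_2 lc_b_Cert_tree lc_b_rc_8_0 lc_b_rc_10_2 lc_b_rc_8_2 lc_b_Cert_tree lc_b_rc_9_2 lc_b_Cert_tree) (@D3.rec (fun _ => (Cert rels S Gen.b)) lc_b_Cert_tree lc_b_rc_6_1 lc_b_rc_8_2 lc_b_rc_9_2 lc_b_rc_10_2 lc_b_rc_10_0 lc_b_rc_8_2 lc_b_rc_10_2 lc_b_rc_8_2 lc_b_Cert_tree lc_b_rc_9_2 lc_b_rc_6_1 lc_b_rc_8_2 lc_b_rc_9_2 lc_b_rc_8_2 lc_b_rc_1_1 lc_b_rc_8_2 lc_b_rc_10_2 lc_b_rc_6_1 lc_b_rc_8_2 lc_b_rc_9_2 lc_b_rc_6_1 lc_b_rc_6_1 lc_b_rc_9_2 lc_b_Cert_tree lc_b_Cert_tree lc_b_rc_1_3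 lc_b_rc_8_2 lc_b_rc_9_2 lc_b_Cert_tree lc_b_rc_6_1 lc_b_Cert_tree lc_b_rc_9_2 lc_b_rc_8_2 lc_b_Cert_tree lc_b_Cert_tree lc_b_rc_8_2 lc_b_rc_10_2 lc_b_rc_9_2 lc_b_rc_6_1 lc_b_Cert_tree lc_b_rc_26_1 lc_b_rc_6_1 lc_b_Cert_tree lc_b_rc_8_2 lc_b_rc_9_2 lc_b_rc_9_2 lc_b_rc_26_1 lc_b_rc_9_0 lc_b_rc_8_2 lc_b_rc_6_1 lc_b_rc_26_7 lc_b_rc_8_2 lc_b_rc_6_1 lc_b_rc_26_5 lc_b_rc_10_2 lc_b_rc_26_1 lc_b_Cert_tree lc_b_Cert_tree lc_b_rc_9_2 lc_b_Cert_tree lc_b_Cert_tree) (@D3.rec (fun _ => (Cert rels S Gen.b)) lc_b_rc_8_2 lc_b_rc_9_2 lc_b_Cert_tree lc_b_Cert_tree lc_b_rc_8_2 lc_b_rc_10_2 lc_b_rc_6_1 lc_b_rc_8_2 lc_b_rc_9_2 lc_b_rc_8_2 lc_b_rc_10_2 lc_b_Cert_tree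 lc_b_rc_10_2 lc_b_Cert_tree lc_b_rc_10_2 lc_b_Cert_tree lc_b_rc_9_2 lc_b_Cert_tree lc_b_rc_8_0 lc_b_rc_8_2 lc_b_rc_9_2 lc_b_rc_9_0 lc_b_rc_8_2 lc_b_rc_10_2 lc_b_rc_10_2 lc_b_rc_6_1 lc_b_rc_8_2 lc_b_rc_26_7 lc_b_rc_6_1 lc_b_Cert_tree lc_b_Cert_tree lc_b_rc_10_2 lc_b_rc_6_1 lc_b_rc_26_7 lc_b_rc_9_2 lc_b_Cert_tree lc_b_rc_9_2 lc_b_rc_9_2 lc_b_Cert_tree lc_b_Cert_tree lc_b_rc_8_2 lc_b_rc_10_2 lc_b_rc_6_1 lc_b_rc_8_2 lc_b_rc_9_2 lc_b_rc_6_1 lc_b_rc_8_2 lc_b_rc_9_2 lc_b_Cert_tree lc_b_Cert_tree lc_b_Cert_tree lc_b_rc_26_5 lc_b_rc_6_1 lc_b_rc_1_1 lc_b_rc_25_16 lc_b_rc_8_2 lc_b_rc_9_2 lc_b_Cert_tree lc_b_rc_6_1 lc_b_rc_7_4 lc_b_rc_9_2 lc_b_rc_9_0)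 (@D3.rec (fun _ => (Cert rels S Gen.b)) lc_b_rc_9_2 lc_b_Cert_tree lc_b_rc_9_2 lc_b_rc_9_0 lc_b_rc_1_5 lc_b_rc_9_2 lc_b_Cert_tree lc_b_rc_8_2 lc_b_rc_9_2 lc_b_rc_6_1 lc_b_rc_8_2 lc_b_rc_9_2 lc_b_Cert_tree lc_b_rc_7_2 lc_b_rc_9_2 lc_b_rc_8_2 lc_b_rc_6_1 lc_b_rc_8_2 lc_b_rc_9_2 lc_b_rc_1_3 lc_b_Cert_tree lc_b_Cert_tree lc_b_Cert_tree lc_b_rc_8_2 lc_b_Cert_tree lc_b_rc_8_2 lc_b_Cert_tree lc_b_rc_9_2 lc_b_rc_6_1 lc_b_Cert_tree lc_b_rc_9_2 lc_b_Cert_tree lc_b_rc_6_1 lc_b_rc_8_2 lc_b_rc_6_1 lc_b_rc_26_7 lc_b_rc_7_4 lc_b_rc_9_2 lc_b_rc_6_1 lc_b_Cert_tree lc_b_rc_10_2 lc_b_rc_6_1 lc_b_rc_8_2 lc_b_Cert_tree lc_b_rc_8_2 lc_b_Cert_tree lc_b_rc_6_1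 lc_b_rc_9_2 lc_b_rc_1_3 lc_b_rc_1_3 lc_b_rc_25_4 lc_b_rc_9_2 lc_b_rc_8_2 lc_b_rc_9_2 lc_b_Cert_tree lc_b_rc_8_0 lc_b_rc_26_1 lc_b_Cert_tree lc_b_rc_8_0 lc_b_Cert_tree lc_b_rc_9_2 lc_b_rc_6_1) (@D3.rec (fun _ => (Cert rels S Gen.b)) lc_b_rc_25_0 lc_b_rc_9_2 lc_b_rc_6_1 lc_b_Cert_tree lc_b_rc_9_2 lc_b_Cert_tree lc_b_Cert_tree lc_b_rc_6_1 lc_b_rc_8_2 lc_b_rc_9_2 lc_b_rc_7_4 lc_b_Cert_tree lc_b_Cert_tree lc_b_rc_10_2 lc_b_rc_9_2 lc_b_rc_6_1 lc_b_rc_1_1 lc_b_rc_6_1 lc_b_Cert_tree lc_b_rc_1_3 lc_b_rc_9_2 lc_b_rc_8_2 lc_b_rc_6_1 lc_b_rc_26_7 lc_b_rc_6_1 lc_b_rc_6_1 lc_b_rc_26_7 lc_b_rc_9_2 lc_b_rc_9_2 lc_b_Cert_tree lc_b_rc_9_2 lc_b_rc_7_2 lc_b_rc_6_1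 lc_b_rc_8_2 lc_b_rc_8_2 lc_b_rc_8_2 lc_b_rc_9_2 lc_b_rc_26_5 lc_b_rc_26_1 lc_b_rc_8_2 lc_b_Cert_tree lc_b_rc_9_2 lc_b_Cert_tree lc_b_rc_9_2 lc_b_rc_6_1 lc_b_Cert_tree lc_b_rc_9_2 lc_b_Cert_tree lc_b_rc_8_2 lc_b_rc_9_2 lc_b_Cert_tree lc_b_Cert_tree lc_b_rc_10_2 lc_b_rc_6_1 lc_b_rc_8_2 lc_b_rc_9_2 lc_b_rc_6_1 lc_b_rc_8_2 lc_b_rc_8_2 lc_b_rc_9_2 lc_b_rc_8_2 lc_b_rc_26_5) (@D3.rec (fun _ => (Cert rels S Gen.b)) lc_b_rc_10_2 lc_b_rc_9_2 lc_b_rc_6_1 lc_b_rc_26_5 lc_b_rc_6_1 lc_b_rc_26_5 lc_b_rc_8_2 lc_b_Cert_tree lc_b_rc_6_1 lc_b_rc_7_2 lc_b_rc_6_1 lc_b_rc_8_2 lc_b_rc_1_5 lc_b_rc_9_2 lc_b_rc_8_2 lc_b_rc_8_2 lc_b_rc_8_0 lc_b_rc_7_4 lc_b_rc_8_2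 lc_b_rc_8_2 lc_b_rc_6_1 lc_b_rc_9_2 lc_b_rc_8_2 lc_b_rc_9_2 lc_b_rc_6_1 lc_b_Cert_tree lc_b_Cert_tree lc_b_rc_26_7 lc_b_rc_6_1 lc_b_rc_8_2 lc_b_rc_9_2 lc_b_rc_26_5 lc_b_rc_10_2 lc_b_rc_8_2 lc_b_rc_8_2 lc_b_rc_9_2 lc_b_rc_26_1 lc_b_Cert_tree lc_b_rc_9_2 lc_b_Cert_tree lc_b_Cert_tree lc_b_rc_26_1 lc_b_rc_6_1 lc_b_rc_6_1 lc_b_rc_8_2 lc_b_rc_9_2 lc_b_rc_9_2 lc_b_rc_6_1 lc_b_rc_8_2 lc_b_rc_9_2 lc_b_Cert_tree lc_b_rc_6_1 lc_b_rc_10_2 lc_b_rc_9_2 lc_b_Cert_tree lc_b_rc_26_7 lc_b_rc_6_1 lc_b_rc_26_7 lc_b_rc_9_2 lc_b_rc_26_5 lc_b_rc_10_2 lc_b_rc_10_2) (@D3.rec (fun _ => (Cert rels S Gen.b)) lc_b_Cert_tree lc_b_rc_9_2 lc_b_rc_6_1 lc_b_rc_8_2 lc_b_rc_9_2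 lc_b_rc_9_2 lc_b_rc_8_2 lc_b_rc_10_2 lc_b_rc_6_1 lc_b_rc_8_2 lc_b_rc_9_2 lc_b_rc_6_1 lc_b_rc_6_1 lc_b_rc_9_2 lc_b_Cert_tree lc_b_rc_6_1 lc_b_Cert_tree lc_b_rc_9_2 lc_b_Cert_tree lc_b_Cert_tree lc_b_rc_8_2 lc_b_rc_10_2 lc_b_rc_6_1 lc_b_Cert_tree lc_b_rc_8_2 lc_b_rc_9_2 lc_b_rc_6_1 lc_b_Cert_tree lc_b_rc_8_2 lc_b_rc_9_2 lc_b_rc_7_4 lc_b_rc_6_1 lc_b_rc_26_5 lc_b_Cert_tree lc_b_Cert_tree lc_b_rc_1_1 lc_b_rc_9_2 lc_b_rc_10_2 lc_b_rc_8_2 lc_b_rc_9_2 lc_b_rc_6_1 lc_b_rc_9_2 lc_b_rc_7_4 lc_b_rc_9_2 lc_b_rc_6_1 lc_b_Cert_tree lc_b_rc_9_2 lc_b_rc_10_2 lc_b_rc_9_2 lc_b_rc_9_2 lc_b_rc_8_2 lc_b_rc_8_2 lc_b_rc_9_2 lc_b_rc_6_1 lc_b_rc_9_2 lc_b_rc_6_1 lc_b_rc_7_0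 lc_b_rc_8_2 lc_b_rc_10_2 lc_b_rc_8_2 lc_b_rc_9_2 lc_b_rc_8_2) (@D3.rec (fun _ => (Cert rels S Gen.b)) lc_b_rc_9_2 lc_b_rc_10_2 lc_b_rc_9_2 lc_b_rc_1_3 lc_b_rc_6_1 lc_b_rc_7_0 lc_b_rc_8_2 lc_b_rc_10_2 lc_b_Cert_tree lc_b_rc_10_2 lc_b_rc_1_1 lc_b_rc_8_2 lc_b_rc_9_2 lc_b_rc_8_2 lc_b_Cert_tree lc_b_rc_6_1 lc_b_rc_8_2 lc_b_rc_9_2 lc_b_Cert_tree lc_b_Cert_tree lc_b_rc_10_2 lc_b_rc_10_2 lc_b_Cert_tree lc_b_rc_9_2 lc_b_Cert_tree lc_b_Cert_tree lc_b_rc_6_1 lc_b_rc_7_4 lc_b_rc_9_2 lc_b_rc_8_0 lc_b_Cert_tree lc_b_rc_9_2 lc_b_rc_6_1 lc_b_rc_8_2 lc_b_rc_9_2 lc_b_rc_8_2 lc_b_rc_10_2 lc_b_rc_6_1 lc_b_rc_8_2 lc_b_rc_9_2 lc_b_rc_6_1 lc_b_rc_8_2 lc_b_rc_9_2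 lc_b_Cert_tree lc_b_rc_1_3 lc_b_rc_8_2 lc_b_rc_9_2 lc_b_Cert_tree lc_b_rc_9_2 lc_b_rc_8_2 lc_b_Cert_tree lc_b_Cert_tree lc_b_rc_8_2 lc_b_rc_10_2 lc_b_rc_9_2 lc_b_rc_6_1 lc_b_Cert_tree lc_b_rc_8_2 lc_b_rc_9_2 lc_b_rc_6_1 lc_b_Cert_tree lc_b_rc_8_2) (@D3.rec (fun _ => (Cert rels S Gen.b)) lc_b_rc_9_2 lc_b_rc_9_2 lc_b_Cert_tree lc_b_Cert_tree lc_b_rc_6_1 lc_b_rc_26_1 lc_b_rc_26_5 lc_b_rc_7_4 lc_b_rc_1_3 lc_b_Cert_tree lc_b_Cert_tree lc_b_rc_10_2 lc_b_rc_6_1 lc_b_rc_8_2 lc_b_rc_6_1 lc_b_rc_26_1 lc_b_rc_1_3 lc_b_Cert_tree lc_b_rc_8_2 lc_b_rc_9_2 lc_b_rc_6_1 lc_b_rc_8_2 lc_b_Cert_tree lc_b_Cert_tree lc_b_rc_26_5 lc_b_rc_8_2 lc_b_Cert_tree lc_b_rc_8_2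 lc_b_rc_9_2 lc_b_rc_6_1 lc_b_rc_8_2 lc_b_rc_8_2 lc_b_rc_9_2 lc_b_rc_9_2 lc_b_rc_8_2 lc_b_rc_8_2 lc_b_rc_6_1 lc_b_rc_6_1 lc_b_Cert_tree lc_b_rc_7_4 lc_b_rc_6_1 lc_b_rc_9_2 lc_b_rc_10_0 lc_b_rc_9_2 lc_b_rc_6_1 lc_b_rc_8_2 lc_b_rc_9_2 lc_b_rc_9_2 lc_b_rc_6_1 lc_b_rc_8_2 lc_b_Cert_tree lc_b_rc_6_1 lc_b_rc_26_1 lc_b_rc_9_2 lc_b_rc_9_2 lc_b_rc_8_2 lc_b_rc_10_2 lc_b_rc_8_2 lc_b_Cert_tree lc_b_rc_9_2 lc_b_rc_9_2 lc_b_rc_6_1) (@D3.rec (fun _ => (Cert rels S Gen.b)) lc_b_rc_8_2 lc_b_rc_9_2 lc_b_rc_26_5 lc_b_rc_10_2 lc_b_rc_6_1 lc_b_rc_8_2 lc_b_rc_9_2 lc_b_rc_6_1 lc_b_Cert_tree lc_b_rc_8_2 lc_b_rc_10_2 lc_b_rc_6_1 lc_b_rc_6_1 lc_b_rc_26_5 lc_b_Cert_tree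 lc_b_rc_9_2 lc_b_rc_7_0 lc_b_rc_6_1 lc_b_rc_8_2 lc_b_rc_9_2 lc_b_rc_1_1 lc_b_rc_8_2 lc_b_rc_10_2 lc_b_Cert_tree lc_b_rc_9_2 lc_b_rc_6_1 lc_b_rc_8_2 lc_b_rc_9_2 lc_b_rc_6_1 lc_b_rc_8_2 lc_b_rc_9_2 lc_b_rc_6_1 lc_b_rc_8_2 lc_b_rc_9_2 lc_b_Cert_tree lc_b_rc_10_2 lc_b_Cert_tree lc_b_rc_9_2 lc_b_Cert_tree lc_b_Cert_tree lc_b_rc_8_2 lc_b_rc_10_2 lc_b_rc_6_1 lc_b_Cert_tree lc_b_rc_8_2 lc_b_rc_9_2 lc_b_rc_6_1 lc_b_Cert_tree lc_b_rc_8_2 lc_b_rc_9_2 lc_b_Cert_tree lc_b_rc_7_4 lc_b_rc_6_1 lc_b_rc_9_0 lc_b_rc_8_2 lc_b_rc_6_1 lc_b_rc_6_1 lc_b_rc_9_0 lc_b_rc_8_2 lc_b_rc_10_2 lc_b_rc_6_1 lc_b_rc_8_2) (@D3.rec (fun _ => (Cert rels S Gen.b)) lc_b_rc_8_2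 lc_b_Cert_tree lc_b_rc_6_1 lc_b_Cert_tree lc_b_rc_9_2 lc_b_Cert_tree lc_b_Cert_tree lc_b_rc_6_1 lc_b_rc_8_2 lc_b_rc_10_2 lc_b_rc_9_2 lc_b_rc_7_4 lc_b_rc_8_2 lc_b_Cert_tree lc_b_rc_26_5 lc_b_rc_10_0 lc_b_rc_6_1 lc_b_rc_8_2 lc_b_rc_9_2 lc_b_rc_7_4 lc_b_rc_9_2 lc_b_rc_7_0 lc_b_rc_8_2 lc_b_rc_26_5 lc_b_rc_8_2 lc_b_rc_7_4 lc_b_Cert_tree lc_b_Cert_tree lc_b_rc_1_3 lc_b_rc_10_2 lc_b_rc_8_2 lc_b_Cert_tree lc_b_rc_9_2 lc_b_rc_6_1 lc_b_rc_26_5 lc_b_rc_8_2 lc_b_rc_7_4 lc_b_rc_26_1 lc_b_rc_9_2 lc_b_rc_8_2 lc_b_rc_9_2 lc_b_rc_9_2 lc_b_Cert_tree lc_b_rc_6_1 lc_b_rc_7_4 lc_b_rc_9_2 lc_b_rc_26_5 lc_b_rc_10_2 lc_b_rc_1_5 lc_b_rc_6_1 lc_b_rc_9_2 lc_b_rc_26_1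 lc_b_rc_8_2 lc_b_rc_9_2 lc_b_rc_8_2 lc_b_rc_6_1 lc_b_rc_8_2 lc_b_rc_9_2 lc_b_rc_26_5 lc_b_rc_10_2 lc_b_Cert_tree lc_b_rc_6_1) (@D3.rec (fun _ => (Cert rels S Gen.b)) lc_b_rc_9_2 lc_b_Cert_tree lc_b_rc_26_7 lc_b_rc_9_2 lc_b_rc_10_2 lc_b_Cert_tree lc_b_rc_9_2 lc_b_Cert_tree lc_b_Cert_tree lc_b_rc_6_1 lc_b_rc_8_2 lc_b_rc_9_2 lc_b_rc_9_2 lc_b_rc_6_1 lc_b_rc_8_2 lc_b_rc_9_2 lc_b_rc_1_1 lc_b_rc_10_2 lc_b_rc_6_1 lc_b_rc_8_2 lc_b_rc_9_2 lc_b_rc_6_1 lc_b_rc_6_1 lc_b_rc_9_2 lc_b_rc_1_5 lc_b_rc_6_1 lc_b_rc_9_2 lc_b_Cert_tree lc_b_Cert_tree lc_b_rc_8_2 lc_b_rc_10_2 lc_b_rc_6_1 lc_b_Cert_tree lc_b_rc_6_1 lc_b_Cert_tree lc_b_rc_8_2 lc_b_rc_9_2 lc_b_Cert_tree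 lc_b_Cert_tree lc_b_Cert_tree lc_b_rc_10_2 lc_b_rc_8_2 lc_b_rc_6_1 lc_b_Cert_tree lc_b_Cert_tree lc_b_Cert_tree lc_b_rc_6_1 lc_b_rc_8_2 lc_b_rc_7_4 lc_b_rc_9_2 lc_b_rc_10_2 lc_b_rc_1_3 lc_b_rc_6_1 lc_b_rc_7_2 lc_b_rc_9_2 lc_b_rc_8_2 lc_b_rc_6_1 lc_b_rc_6_1 lc_b_rc_6_1 lc_b_rc_8_2 lc_b_rc_8_2 lc_b_rc_9_2) (@D3.rec (fun _ => (Cert rels S Gen.b)) lc_b_rc_9_2 lc_b_rc_6_1 lc_b_Cert_tree lc_b_rc_8_2 lc_b_rc_9_2 lc_b_rc_6_1 lc_b_rc_8_2 lc_b_rc_9_2 lc_b_rc_6_1 lc_b_Cert_tree lc_b_rc_10_2 lc_b_rc_6_1 lc_b_rc_9_2 lc_b_rc_6_1 lc_b_rc_9_2 lc_b_Cert_tree lc_b_rc_9_2 lc_b_Cert_tree lc_b_Cert_tree lc_b_rc_8_2 lc_b_rc_26_1 lc_b_rc_6_1 lc_b_Cert_tree lc_b_rc_8_2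 lc_b_rc_9_2 lc_b_rc_6_1 lc_b_Cert_tree lc_b_rc_8_2 lc_b_rc_9_2 lc_b_rc_6_1 lc_b_rc_10_0 lc_b_rc_1_1 lc_b_rc_9_2 lc_b_Cert_tree lc_b_rc_9_2 lc_b_rc_9_2 lc_b_rc_6_1 lc_b_rc_9_2 lc_b_rc_6_1 lc_b_rc_9_2 lc_b_rc_6_1 lc_b_rc_9_2 lc_b_rc_9_2 lc_b_Cert_tree lc_b_Cert_tree lc_b_rc_8_2 lc_b_rc_6_1 lc_b_Cert_tree lc_b_rc_9_2 lc_b_rc_6_1 lc_b_Cert_tree lc_b_rc_9_2 lc_b_rc_6_1 lc_b_rc_6_1 lc_b_rc_9_2 lc_b_rc_8_2 lc_b_rc_6_1 lc_b_rc_8_0 lc_b_rc_9_2 lc_b_rc_9_0 lc_b_rc_7_0 lc_b_rc_8_2) (@D3.rec (fun _ => (Cert rels S Gen.b)) lc_b_rc_7_0 lc_b_rc_6_1 lc_b_rc_8_2 lc_b_rc_9_2 lc_b_rc_1_1 lc_b_rc_9_2 lc_b_rc_10_2 lc_b_Cert_tree lc_b_rc_8_2 lc_b_Cert_tree lc_b_rc_9_2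 lc_b_rc_9_2 lc_b_rc_6_1 lc_b_rc_8_2 lc_b_rc_9_2 lc_b_rc_6_1 lc_b_rc_8_2 lc_b_rc_9_2 lc_b_rc_26_5 lc_b_rc_8_2 lc_b_rc_10_2 lc_b_Cert_tree lc_b_rc_6_1 lc_b_rc_8_2 lc_b_rc_9_2 lc_b_Cert_tree lc_b_rc_9_2 lc_b_rc_6_1 lc_b_rc_8_2 lc_b_rc_9_2 lc_b_rc_10_0 lc_b_rc_10_2 lc_b_rc_6_1 lc_b_rc_8_2 lc_b_rc_9_2 lc_b_rc_6_1 lc_b_rc_8_2 lc_b_rc_9_2 lc_b_Cert_tree lc_b_Cert_tree lc_b_Cert_tree lc_b_rc_9_2 lc_b_Cert_tree lc_b_Cert_tree lc_b_rc_8_2 lc_b_rc_7_4 lc_b_rc_6_1 lc_b_Cert_tree lc_b_rc_8_2 lc_b_rc_9_2 lc_b_rc_6_1 lc_b_Cert_tree lc_b_rc_8_2 lc_b_rc_9_2 lc_b_rc_26_1 lc_b_rc_8_2 lc_b_rc_9_2 lc_b_rc_7_4 lc_b_rc_9_2 lc_b_rc_8_2 lc_b_rc_9_0 lc_b_rc_8_0)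 (@D3.rec (fun _ => (Cert rels S Gen.b)) lc_b_rc_6_1 lc_b_rc_6_1 lc_b_Cert_tree lc_b_rc_9_2 lc_b_Cert_tree lc_b_Cert_tree lc_b_rc_6_1 lc_b_rc_8_2 lc_b_rc_9_2 lc_b_rc_9_2 lc_b_rc_6_1 lc_b_rc_9_2 lc_b_rc_1_5 lc_b_rc_8_2 lc_b_Cert_tree lc_b_rc_1_5 lc_b_rc_6_1 lc_b_rc_8_2 lc_b_rc_6_1 lc_b_rc_8_2 lc_b_rc_9_2 lc_b_rc_1_1 lc_b_rc_8_2 lc_b_rc_10_2 lc_b_rc_26_5 lc_b_rc_8_2 lc_b_Cert_tree lc_b_Cert_tree lc_b_rc_6_1 lc_b_rc_8_2 lc_b_rc_9_2 lc_b_rc_8_2 lc_b_Cert_tree lc_b_rc_9_2 lc_b_rc_8_2 lc_b_rc_9_2 lc_b_Cert_tree lc_b_rc_9_2 lc_b_rc_8_2 lc_b_Cert_tree lc_b_rc_9_2 lc_b_rc_6_1 lc_b_Cert_tree lc_b_rc_9_2 lc_b_Cert_tree lc_b_Cert_tree lc_b_rc_6_1 lc_b_rc_26_7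 lc_b_rc_9_2 lc_b_rc_26_1 lc_b_Cert_tree lc_b_rc_7_0 lc_b_rc_6_1 lc_b_rc_8_2 lc_b_rc_9_2 lc_b_rc_9_2 lc_b_rc_8_2 lc_b_rc_10_2 lc_b_rc_9_2 lc_b_rc_6_1 lc_b_rc_8_2 lc_b_rc_9_2) (@D3.rec (fun _ => (Cert rels S Gen.b)) lc_b_rc_6_1 lc_b_rc_8_2 lc_b_rc_9_2 lc_b_rc_6_1 lc_b_rc_7_4 lc_b_rc_9_2 lc_b_Cert_tree lc_b_Cert_tree lc_b_Cert_tree lc_b_rc_9_2 lc_b_Cert_tree lc_b_Cert_tree lc_b_rc_8_2 lc_b_rc_6_1 lc_b_Cert_tree lc_b_rc_9_2 lc_b_rc_6_1 lc_b_Cert_tree lc_b_rc_9_2 lc_b_rc_9_2 lc_b_rc_6_1 lc_b_rc_9_2 lc_b_rc_6_1 lc_b_rc_8_2 lc_b_rc_10_2 lc_b_Cert_tree lc_b_rc_9_2 lc_b_rc_9_2 lc_b_rc_9_2 lc_b_rc_8_2 lc_b_Cert_tree lc_b_rc_9_2 lc_b_rc_9_2 lc_b_rc_6_1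 lc_b_rc_6_1 lc_b_rc_9_2 lc_b_rc_6_1 lc_b_Cert_tree lc_b_rc_10_2 lc_b_Cert_tree lc_b_rc_9_2 lc_b_rc_8_2 lc_b_Cert_tree lc_b_rc_9_2 lc_b_rc_6_1 lc_b_Cert_tree lc_b_rc_9_2 lc_b_rc_10_2 lc_b_rc_9_2 lc_b_Cert_tree lc_b_rc_9_2 lc_b_Cert_tree lc_b_rc_9_2 lc_b_rc_6_1 lc_b_rc_9_2 lc_b_rc_26_7 lc_b_rc_10_2 lc_b_rc_6_1 lc_b_rc_8_2 lc_b_rc_9_2 lc_b_rc_6_1 lc_b_rc_8_2) (@D3.rec (fun _ => (Cert rels S Gen.b)) lc_b_rc_9_2 lc_b_Cert_tree lc_b_rc_1_3 lc_b_rc_9_2 lc_b_Cert_tree lc_b_Cert_tree lc_b_rc_9_2 lc_b_Cert_tree lc_b_Cert_tree lc_b_rc_8_2 lc_b_rc_10_2 lc_b_Cert_tree lc_b_rc_8_2 lc_b_rc_9_2 lc_b_rc_9_2 lc_b_rc_6_1 lc_b_rc_8_2 lc_b_rc_9_2 lc_b_rc_8_0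 lc_b_rc_8_0 lc_b_Cert_tree lc_b_rc_6_1 lc_b_rc_9_2 lc_b_rc_9_2 lc_b_Cert_tree lc_b_rc_7_0 lc_b_rc_10_0 lc_b_rc_8_2 lc_b_rc_9_2 lc_b_rc_9_2 lc_b_Cert_tree lc_b_Cert_tree lc_b_rc_8_2 lc_b_Cert_tree lc_b_rc_8_2 lc_b_rc_9_2 lc_b_Cert_tree lc_b_rc_6_1 lc_b_rc_8_2 lc_b_rc_9_2 lc_b_rc_1_1 lc_b_rc_9_2 lc_b_rc_6_1 lc_b_rc_8_2 lc_b_rc_9_2 lc_b_rc_6_1 lc_b_rc_6_1 lc_b_rc_9_2 lc_b_rc_6_1 lc_b_rc_8_2 lc_b_rc_9_2 lc_b_Cert_tree lc_b_Cert_tree lc_b_rc_1_3 lc_b_rc_8_2 lc_b_rc_9_2 lc_b_rc_9_2 lc_b_Cert_tree lc_b_Cert_tree lc_b_rc_8_2 lc_b_rc_10_2 lc_b_rc_6_1) (@D3.rec (fun _ => (Cert rels S Gen.b)) lc_b_Cert_tree lc_b_rc_8_2 lc_b_rc_6_1 lc_b_Cert_tree lc_b_rc_9_2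 lc_b_rc_9_2 lc_b_rc_6_1 lc_b_rc_6_1 lc_b_rc_9_2 lc_b_rc_6_1 lc_b_Cert_tree lc_b_rc_10_2 lc_b_rc_6_1 lc_b_rc_9_2 lc_b_rc_6_1 lc_b_rc_9_2 lc_b_Cert_tree lc_b_rc_1_3 lc_b_rc_8_2 lc_b_rc_9_2 lc_b_Cert_tree lc_b_Cert_tree lc_b_rc_9_2 lc_b_Cert_tree lc_b_Cert_tree lc_b_rc_8_2 lc_b_rc_10_2 lc_b_Cert_tree lc_b_rc_8_2 lc_b_rc_9_2 lc_b_rc_7_4 lc_b_rc_8_2 lc_b_rc_9_2 lc_b_rc_9_2 lc_b_rc_6_1 lc_b_rc_8_2 lc_b_rc_9_2 lc_b_Cert_tree lc_b_rc_26_1 lc_b_rc_8_2 lc_b_rc_10_2 lc_b_Cert_tree lc_b_rc_6_1 lc_b_rc_10_2 lc_b_rc_8_2 lc_b_rc_9_2 lc_b_rc_9_2 lc_b_Cert_tree lc_b_Cert_tree lc_b_rc_8_2 lc_b_rc_10_2 lc_b_Cert_tree lc_b_rc_8_2 lc_b_rc_6_1 lc_b_rc_8_2 lc_b_Cert_tree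 lc_b_rc_10_2 lc_b_rc_6_1 lc_b_Cert_tree lc_b_rc_1_3 lc_b_rc_6_1 lc_b_rc_8_2) (@D3.rec (fun _ => (Cert rels S Gen.b)) lc_b_rc_9_2 lc_b_rc_9_2 lc_b_Cert_tree lc_b_rc_9_2 lc_b_rc_8_2 lc_b_rc_10_2 lc_b_Cert_tree lc_b_Cert_tree lc_b_rc_1_3 lc_b_rc_7_2 lc_b_rc_8_2 lc_b_rc_9_2 lc_b_rc_9_2 lc_b_rc_9_2 lc_b_rc_8_2 lc_b_rc_10_2 lc_b_rc_6_1 lc_b_rc_8_2 lc_b_rc_9_2 lc_b_rc_8_2 lc_b_rc_9_2 lc_b_Cert_tree lc_b_Cert_tree lc_b_rc_9_2 lc_b_Cert_tree lc_b_Cert_tree lc_b_rc_8_2 lc_b_rc_10_2 lc_b_rc_6_1 lc_b_rc_9_2 lc_b_rc_6_1 lc_b_rc_9_2 lc_b_rc_6_1 lc_b_rc_9_2 lc_b_Cert_tree lc_b_Cert_tree lc_b_rc_8_2 lc_b_rc_10_2 lc_b_rc_9_2 lc_b_rc_6_1 lc_b_Cert_tree lc_b_rc_8_2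 lc_b_rc_9_2 lc_b_rc_6_1 lc_b_rc_26_7 lc_b_rc_7_4 lc_b_rc_9_2 lc_b_Cert_tree lc_b_Cert_tree lc_b_Cert_tree lc_b_rc_10_2 lc_b_rc_10_2 lc_b_Cert_tree lc_b_Cert_tree lc_b_rc_8_2 lc_b_rc_1_3 lc_b_rc_10_2 lc_b_Cert_tree lc_b_rc_8_2 lc_b_rc_9_2 lc_b_Cert_tree lc_b_rc_6_1) (@D3.rec (fun _ => (Cert rels S Gen.b)) lc_b_rc_8_2 lc_b_rc_9_2 lc_b_rc_26_5 lc_b_rc_26_7 lc_b_Cert_tree lc_b_rc_9_2 lc_b_rc_8_2 lc_b_rc_6_1 lc_b_Cert_tree lc_b_rc_8_2 lc_b_rc_9_2 lc_b_rc_6_1 lc_b_rc_8_2 lc_b_rc_9_2 lc_b_Cert_tree lc_b_rc_8_2 lc_b_rc_8_2 lc_b_rc_6_1 lc_b_Cert_tree lc_b_rc_9_2 lc_b_rc_6_1 lc_b_Cert_tree lc_b_Cert_tree lc_b_rc_7_4 lc_b_rc_6_1 lc_b_rc_8_2 lc_b_rc_26_5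 lc_b_rc_6_1 lc_b_Cert_tree lc_b_rc_9_2 lc_b_Cert_tree lc_b_Cert_tree lc_b_rc_6_1 lc_b_rc_8_2 lc_b_rc_6_1 lc_b_rc_7_4 lc_b_rc_9_2 lc_b_rc_26_1 lc_b_rc_6_1 lc_b_rc_10_2 lc_b_rc_6_1 lc_b_rc_9_2 lc_b_rc_6_1 lc_b_rc_9_2 lc_b_Cert_tree lc_b_rc_9_2 lc_b_Cert_tree lc_b_Cert_tree lc_b_rc_8_2 lc_b_rc_10_2 lc_b_rc_6_1 lc_b_Cert_tree lc_b_rc_8_2 lc_b_rc_9_2 lc_b_rc_6_1 lc_b_Cert_tree lc_b_rc_8_2 lc_b_rc_9_2 lc_b_rc_7_4 lc_b_rc_8_2 lc_b_rc_6_1 lc_b_rc_8_2) (@D3.rec (fun _ => (Cert rels S Gen.b)) lc_b_rc_9_2 lc_b_rc_6_1 lc_b_rc_6_1 lc_b_rc_9_2 lc_b_rc_10_2 lc_b_rc_6_1 lc_b_rc_9_2 lc_b_rc_6_1 lc_b_rc_9_2 lc_b_Cert_tree lc_b_rc_9_2 lc_b_Cert_tree lc_b_Cert_tree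 lc_b_rc_8_2 lc_b_rc_10_2 lc_b_rc_6_1 lc_b_Cert_tree lc_b_rc_6_1 lc_b_Cert_tree lc_b_rc_7_2 lc_b_Cert_tree lc_b_Cert_tree lc_b_rc_9_2 lc_b_rc_10_2 lc_b_rc_7_4 lc_b_rc_6_1 lc_b_rc_7_4 lc_b_rc_8_2 lc_b_rc_9_2 lc_b_rc_9_2 lc_b_rc_6_1 lc_b_rc_8_2 lc_b_rc_9_2 lc_b_rc_6_1 lc_b_rc_8_2 lc_b_rc_10_2 lc_b_rc_6_1 lc_b_Cert_tree lc_b_rc_9_2 lc_b_rc_6_1 lc_b_Cert_tree lc_b_Cert_tree lc_b_rc_7_4 lc_b_rc_10_2 lc_b_rc_10_2 lc_b_rc_7_4 lc_b_rc_6_1 lc_b_Cert_tree lc_b_Cert_tree lc_b_rc_8_2 lc_b_rc_8_2 lc_b_Cert_tree lc_b_rc_6_1 lc_b_rc_8_2 lc_b_rc_7_4 lc_b_rc_26_5 lc_b_rc_7_4 lc_b_rc_6_1 lc_b_rc_26_1 lc_b_Cert_tree lc_b_Cert_tree lc_b_rc_1_3) (@D3.rec (fun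 _ => (Cert rels S Gen.b)) lc_b_Cert_tree lc_b_rc_6_1 lc_b_rc_8_2 lc_b_rc_7_4 lc_b_rc_6_1 lc_b_rc_8_2 lc_b_rc_7_4 lc_b_rc_9_2 lc_b_Cert_tree lc_b_rc_1_3 lc_b_rc_8_2 lc_b_rc_10_2 lc_b_rc_6_1 lc_b_rc_8_2 lc_b_rc_9_2 lc_b_rc_8_2 lc_b_rc_9_2 lc_b_Cert_tree lc_b_rc_26_5 lc_b_Cert_tree lc_b_rc_8_2 lc_b_rc_6_1 lc_b_rc_8_2 lc_b_rc_9_2 lc_b_Cert_tree lc_b_rc_9_2 lc_b_rc_10_2 lc_b_Cert_tree lc_b_rc_9_2 lc_b_Cert_tree lc_b_rc_7_0 lc_b_rc_6_1 lc_b_rc_8_2 lc_b_rc_10_2 lc_b_rc_6_1 lc_b_rc_8_2 lc_b_rc_25_16 lc_b_rc_6_1 lc_b_rc_8_2 lc_b_rc_6_1 lc_b_rc_8_2 lc_b_rc_1_1 lc_b_Cert_tree lc_b_Cert_tree lc_b_rc_1_3 lc_b_rc_8_2 lc_b_rc_9_2 lc_b_rc_9_2 lc_b_rc_8_2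 lc_b_rc_8_2 lc_b_rc_7_0 lc_b_rc_6_1 lc_b_rc_8_2 lc_b_rc_10_2 lc_b_rc_6_1 lc_b_rc_7_2 lc_b_rc_8_2 lc_b_rc_9_2 lc_b_rc_6_1 lc_b_rc_8_2 lc_b_rc_9_2 lc_b_Cert_tree) (@D3.rec (fun _ => (Cert rels S Gen.b)) lc_b_Cert_tree lc_b_Cert_tree lc_b_rc_10_2 lc_b_rc_6_1 lc_b_rc_9_2 lc_b_rc_9_2 lc_b_rc_6_1 lc_b_rc_8_2 lc_b_rc_9_2 lc_b_rc_6_1 lc_b_rc_9_2 lc_b_Cert_tree lc_b_rc_6_1 lc_b_rc_9_2 lc_b_Cert_tree lc_b_Cert_tree lc_b_rc_1_3 lc_b_rc_8_2 lc_b_rc_10_2 lc_b_Cert_tree lc_b_rc_9_2 lc_b_rc_10_2 lc_b_rc_6_1 lc_b_Cert_tree lc_b_rc_8_2 lc_b_rc_9_2 lc_b_rc_6_1 lc_b_Cert_tree lc_b_rc_8_2 lc_b_rc_9_2 lc_b_rc_1_3 lc_b_Cert_tree lc_b_Cert_tree lc_b_rc_7_4 lc_b_rc_9_2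 lc_b_Cert_tree lc_b_Cert_tree lc_b_rc_10_2 lc_b_rc_9_0 lc_b_rc_26_1 lc_b_rc_10_2 lc_b_Cert_tree lc_b_rc_9_2 lc_b_rc_10_2 lc_b_rc_8_2 lc_b_rc_9_2 lc_b_rc_6_1 lc_b_rc_8_2 lc_b_rc_10_2 lc_b_rc_8_2 lc_b_Cert_tree lc_b_rc_1_3 lc_b_rc_8_2 lc_b_rc_9_2 lc_b_Cert_tree lc_b_Cert_tree lc_b_Cert_tree lc_b_rc_10_2 lc_b_Cert_tree lc_b_rc_9_2 lc_b_rc_6_1 lc_b_rc_8_2) (@D3.rec (fun _ => (Cert rels S Gen.b)) lc_b_rc_10_2 lc_b_rc_9_2 lc_b_rc_6_1 lc_b_rc_9_2 lc_b_rc_9_2 lc_b_rc_10_2 lc_b_rc_8_0 lc_b_rc_10_2 lc_b_rc_6_1 lc_b_Cert_tree lc_b_rc_1_3 lc_b_rc_8_2 lc_b_rc_10_2 lc_b_rc_8_0 lc_b_rc_9_2 lc_b_rc_9_2 lc_b_rc_8_2 lc_b_rc_8_2 lc_b_rc_6_1 lc_b_rc_8_2 lc_b_rc_10_2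 lc_b_Cert_tree lc_b_rc_26_5 lc_b_Cert_tree lc_b_rc_8_2 lc_b_rc_10_0 lc_b_rc_9_2 lc_b_rc_10_2 lc_b_rc_10_2 lc_b_rc_8_2 lc_b_rc_9_2 lc_b_rc_26_1 lc_b_rc_26_5 lc_b_rc_26_1 lc_b_rc_8_2 lc_b_rc_8_2 lc_b_rc_26_7 lc_b_Cert_tree lc_b_rc_8_2 lc_b_Cert_tree lc_b_Cert_tree lc_b_rc_9_2 lc_b_Cert_tree lc_b_Cert_tree lc_b_rc_6_1 lc_b_rc_8_2 lc_b_rc_7_4 lc_b_rc_6_1 lc_b_rc_8_2 lc_b_rc_8_2 lc_b_rc_9_2 lc_b_Cert_tree lc_b_Cert_tree lc_b_Cert_tree lc_b_rc_10_2 lc_b_rc_8_2 lc_b_rc_9_2 lc_b_rc_8_2 lc_b_rc_26_5 lc_b_rc_9_0 lc_b_rc_9_2 lc_b_rc_8_2) (@D3.rec (fun _ => (Cert rels S Gen.b)) lc_b_rc_9_2 lc_b_Cert_tree lc_b_rc_9_2 lc_b_rc_7_4 lc_b_Cert_tree lc_b_rc_8_2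 lc_b_Cert_tree lc_b_rc_9_2 lc_b_rc_6_1 lc_b_rc_8_2 lc_b_rc_10_2 lc_b_rc_9_2 lc_b_rc_26_5 lc_b_rc_8_2 lc_b_Cert_tree lc_b_rc_10_2 lc_b_rc_26_1 lc_b_rc_8_2 lc_b_rc_10_2 lc_b_rc_26_5 lc_b_rc_6_1 lc_b_Cert_tree lc_b_rc_10_2 lc_b_rc_10_2 lc_b_rc_10_2 lc_b_rc_10_2 lc_b_rc_1_5 lc_b_Cert_tree lc_b_rc_10_2 lc_b_rc_8_2 lc_b_rc_9_2 lc_b_rc_6_1 lc_b_rc_8_2 lc_b_rc_9_2 lc_b_rc_26_5 lc_b_rc_8_0 lc_b_Cert_tree lc_b_rc_10_2 lc_b_rc_8_2 lc_b_rc_9_2 lc_b_rc_8_2 lc_b_rc_26_5 lc_b_Cert_tree lc_b_rc_9_2 lc_b_rc_9_0 lc_b_rc_26_5 lc_b_rc_10_2 lc_b_rc_26_1 lc_b_rc_26_5 lc_b_rc_8_2 lc_b_rc_9_2 lc_b_Cert_tree lc_b_rc_9_2 lc_b_rc_6_1 lc_b_rc_8_2 lc_b_rc_10_2 lc_b_rc_6_1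 lc_b_Cert_tree lc_b_rc_9_2 lc_b_rc_6_1 lc_b_Cert_tree lc_b_rc_9_2) (@D3.rec (fun _ => (Cert rels S Gen.b)) lc_b_Cert_tree lc_b_Cert_tree lc_b_rc_6_1 lc_b_rc_8_2 lc_b_rc_10_2 lc_b_rc_9_2 lc_b_rc_8_0 lc_b_Cert_tree lc_b_Cert_tree lc_b_rc_9_2 lc_b_Cert_tree lc_b_rc_8_2 lc_b_rc_10_2 lc_b_Cert_tree lc_b_rc_8_2 lc_b_rc_9_2 lc_b_rc_8_2 lc_b_rc_7_2 lc_b_rc_8_2 lc_b_rc_9_2 lc_b_Cert_tree lc_b_rc_9_2 lc_b_Cert_tree lc_b_rc_6_1 lc_b_rc_10_2 lc_b_rc_6_1 lc_b_rc_10_0 lc_b_Cert_tree lc_b_rc_26_5 lc_b_Cert_tree lc_b_rc_8_2 lc_b_Cert_tree lc_b_rc_9_2 lc_b_rc_6_1 lc_b_rc_8_2 lc_b_rc_10_2 lc_b_rc_9_2 lc_b_rc_9_2 lc_b_rc_8_2 lc_b_rc_8_2 lc_b_rc_6_1 lc_b_rc_6_1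 lc_b_rc_1_3 lc_b_rc_10_2 lc_b_rc_6_1 lc_b_rc_6_1 lc_b_rc_8_2 lc_b_rc_9_2 lc_b_rc_6_1 lc_b_rc_8_2 lc_b_rc_7_2 lc_b_Cert_tree lc_b_Cert_tree lc_b_rc_8_2 lc_b_rc_10_2 lc_b_rc_6_1 lc_b_rc_9_2 lc_b_rc_8_2 lc_b_rc_6_1 lc_b_rc_7_4 lc_b_rc_25_8 lc_b_rc_9_2)
def ce_b_2 : D2 → D3 → (Cert rels S Gen.b) := @D2.rec (fun _ => D3 → (Cert rels S Gen.b)) (@D3.rec (fun _ => (Cert rels S Gen.b)) lc_b_rc_26_1 lc_b_Cert_tree lc_b_rc_9_2 lc_b_rc_6_1 lc_b_rc_8_2 lc_b_rc_7_4 lc_b_rc_6_1 lc_b_rc_8_2 lc_b_rc_6_1 lc_b_rc_8_2 lc_b_rc_6_1 lc_b_rc_8_2 lc_b_rc_9_2 lc_b_Cert_tree lc_b_Cert_tree lc_b_rc_1_3 lc_b_rc_8_2 lc_b_rc_10_2 lc_b_Cert_tree lc_b_rc_9_2 lc_b_rc_10_2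 lc_b_rc_9_2 lc_b_rc_9_2 lc_b_rc_8_2 lc_b_rc_8_2 lc_b_rc_26_5 lc_b_rc_26_7 lc_b_rc_1_3 lc_b_rc_10_2 lc_b_rc_6_1 lc_b_rc_26_5 lc_b_rc_8_2 lc_b_rc_9_2 lc_b_rc_6_1 lc_b_rc_26_7 lc_b_rc_8_2 lc_b_rc_9_2 lc_b_Cert_tree lc_b_Cert_tree lc_b_Cert_tree lc_b_rc_10_2 lc_b_rc_8_2 lc_b_rc_6_1 lc_b_Cert_tree lc_b_rc_9_2 lc_b_rc_8_2 lc_b_rc_9_2 lc_b_Cert_tree lc_b_rc_9_2 lc_b_rc_6_1 lc_b_rc_9_2 lc_b_rc_6_1 lc_b_rc_8_2 lc_b_rc_10_2 lc_b_rc_9_2 lc_b_rc_6_1 lc_b_rc_7_4 lc_b_rc_6_1 lc_b_Cert_tree lc_b_Cert_tree lc_b_rc_1_3 lc_b_rc_8_2) (@D3.rec (fun _ => (Cert rels S Gen.b)) lc_b_rc_10_2 lc_b_Cert_tree lc_b_Cert_tree lc_b_rc_9_2 lc_b_rc_10_2 lc_b_rc_9_2 lc_b_rc_7_0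 lc_b_rc_26_1 lc_b_rc_8_2 lc_b_rc_10_2 lc_b_rc_8_2 lc_b_rc_9_2 lc_b_rc_26_5 lc_b_Cert_tree lc_b_rc_10_2 lc_b_rc_26_1 lc_b_rc_8_2 lc_b_rc_10_2 lc_b_rc_7_0 lc_b_rc_9_0 lc_b_rc_10_2 lc_b_rc_8_2 lc_b_rc_9_2 lc_b_rc_26_5 lc_b_Cert_tree lc_b_rc_10_2 lc_b_rc_6_1 lc_b_rc_26_5 lc_b_rc_8_2 lc_b_rc_9_2 lc_b_rc_8_2 lc_b_rc_9_2 lc_b_Cert_tree lc_b_rc_6_1 lc_b_Cert_tree lc_b_rc_8_2 lc_b_rc_8_2 lc_b_rc_9_2 lc_b_rc_7_4 lc_b_rc_8_2 lc_b_rc_26_7 lc_b_rc_26_5 lc_b_rc_6_1 lc_b_Cert_tree lc_b_rc_9_2 lc_b_rc_7_2 lc_b_rc_6_1 lc_b_rc_7_4 lc_b_rc_7_0 lc_b_rc_9_2 lc_b_rc_6_1 lc_b_rc_8_2 lc_b_rc_9_2 lc_b_rc_6_1 lc_b_rc_8_2 lc_b_rc_9_2 lc_b_Cert_tree lc_b_rc_9_2 lc_b_rc_6_1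 lc_b_rc_10_2 lc_b_rc_6_1 lc_b_Cert_tree) (@D3.rec (fun _ => (Cert rels S Gen.b)) lc_b_rc_8_2 lc_b_rc_9_2 lc_b_rc_6_1 lc_b_Cert_tree lc_b_rc_7_2 lc_b_rc_9_2 lc_b_Cert_tree lc_b_Cert_tree lc_b_rc_6_1 lc_b_rc_8_2 lc_b_rc_10_2 lc_b_rc_9_2 lc_b_rc_8_2 lc_b_rc_8_2 lc_b_rc_10_2 lc_b_rc_7_0 lc_b_rc_8_2 lc_b_rc_9_2 lc_b_rc_26_5 lc_b_rc_6_1 lc_b_Cert_tree lc_b_rc_9_2 lc_b_rc_9_0 lc_b_rc_9_0 lc_b_rc_10_2 lc_b_Cert_tree lc_b_rc_9_2 lc_b_Cert_tree lc_b_rc_6_1 lc_b_rc_9_2 lc_b_Cert_tree lc_b_rc_6_1 lc_b_rc_10_2 lc_b_rc_26_5 lc_b_rc_8_2 lc_b_rc_8_2 lc_b_rc_1_3 lc_b_Cert_tree lc_b_Cert_tree lc_b_rc_9_2 lc_b_rc_8_2 lc_b_rc_10_2 lc_b_rc_6_1 lc_b_rc_10_0 lc_b_rc_8_2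 lc_b_rc_8_2 lc_b_rc_10_2 lc_b_Cert_tree lc_b_rc_8_2 lc_b_Cert_tree lc_b_rc_9_2 lc_b_rc_6_1 lc_b_rc_9_2 lc_b_Cert_tree lc_b_rc_6_1 lc_b_rc_8_2 lc_b_rc_10_2 lc_b_rc_1_3 lc_b_Cert_tree lc_b_rc_9_2 lc_b_rc_6_1 lc_b_rc_9_2) (@D3.rec (fun _ => (Cert rels S Gen.b)) lc_b_rc_9_2 lc_b_Cert_tree lc_b_rc_10_2 lc_b_rc_6_1 lc_b_rc_7_2 lc_b_Cert_tree lc_b_Cert_tree lc_b_rc_1_3 lc_b_rc_8_2 lc_b_rc_10_2 lc_b_rc_9_2 lc_b_rc_9_2 lc_b_Cert_tree lc_b_Cert_tree lc_b_rc_6_1 lc_b_rc_6_1 lc_b_Cert_tree lc_b_rc_7_4 lc_b_rc_6_1 lc_b_rc_6_1 lc_b_rc_8_2 lc_b_rc_8_2 lc_b_rc_10_2 lc_b_Cert_tree lc_b_Cert_tree lc_b_Cert_tree lc_b_rc_9_2 lc_b_rc_7_4 lc_b_Cert_tree lc_b_rc_10_2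 lc_b_rc_6_1 lc_b_Cert_tree lc_b_rc_9_2 lc_b_rc_6_1 lc_b_Cert_tree lc_b_rc_9_2 lc_b_rc_6_1 lc_b_rc_7_2 lc_b_Cert_tree lc_b_Cert_tree lc_b_rc_10_2 lc_b_rc_6_1 lc_b_Cert_tree lc_b_rc_1_3 lc_b_rc_6_1 lc_b_rc_8_2 lc_b_rc_8_2 lc_b_rc_1_3 lc_b_Cert_tree lc_b_Cert_tree lc_b_Cert_tree lc_b_rc_9_2 lc_b_Cert_tree lc_b_rc_6_1 lc_b_rc_10_2 lc_b_rc_6_1 lc_b_rc_8_0 lc_b_Cert_tree lc_b_rc_10_2 lc_b_rc_8_0 lc_b_Cert_tree lc_b_rc_1_3) (@D3.rec (fun _ => (Cert rels S Gen.b)) lc_b_rc_9_2 lc_b_rc_8_2 lc_b_Cert_tree lc_b_Cert_tree lc_b_rc_8_2 lc_b_rc_6_1 lc_b_rc_8_2 lc_b_rc_10_2 lc_b_rc_9_2 lc_b_rc_26_5 lc_b_rc_8_2 lc_b_rc_10_2 lc_b_rc_9_2 lc_b_rc_26_1 lc_b_rc_8_2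 lc_b_rc_10_2 lc_b_rc_6_1 lc_b_rc_8_2 lc_b_rc_1_1 lc_b_rc_8_2 lc_b_rc_10_2 lc_b_rc_7_4 lc_b_rc_8_2 lc_b_rc_9_2 lc_b_rc_6_1 lc_b_rc_26_7 lc_b_rc_8_2 lc_b_rc_9_2 lc_b_rc_6_1 lc_b_Cert_tree lc_b_Cert_tree lc_b_rc_10_2 lc_b_rc_8_2 lc_b_rc_6_1 lc_b_Cert_tree lc_b_rc_10_2 lc_b_Cert_tree lc_b_rc_8_2 lc_b_rc_26_1 lc_b_rc_10_2 lc_b_rc_6_1 lc_b_Cert_tree lc_b_rc_9_2 lc_b_rc_7_4 lc_b_rc_9_2 lc_b_rc_6_1 lc_b_rc_8_2 lc_b_rc_10_2 lc_b_rc_9_2 lc_b_rc_6_1 lc_b_rc_8_2 lc_b_rc_9_2 lc_b_rc_6_1 lc_b_Cert_tree lc_b_rc_10_2 lc_b_rc_9_2 lc_b_rc_8_2 lc_b_rc_10_2 lc_b_rc_8_2 lc_b_rc_9_2 lc_b_rc_6_1 lc_b_Cert_tree) (@D3.rec (fun _ => (Cert rels S Gen.b)) lc_b_rc_10_2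 lc_b_rc_6_1 lc_b_rc_8_2 lc_b_rc_9_2 lc_b_rc_8_2 lc_b_rc_9_2 lc_b_Cert_tree lc_b_rc_6_1 lc_b_Cert_tree lc_b_rc_26_5 lc_b_rc_6_1 lc_b_rc_6_1 lc_b_Cert_tree lc_b_rc_9_2 lc_b_rc_7_0 lc_b_rc_8_2 lc_b_rc_10_2 lc_b_rc_26_1 lc_b_rc_8_2 lc_b_rc_9_2 lc_b_rc_8_2 lc_b_rc_9_2 lc_b_Cert_tree lc_b_rc_9_2 lc_b_rc_1_5 lc_b_rc_10_2 lc_b_Cert_tree lc_b_rc_9_2 lc_b_rc_6_1 lc_b_Cert_tree lc_b_rc_9_2 lc_b_Cert_tree lc_b_Cert_tree lc_b_rc_6_1 lc_b_rc_8_2 lc_b_rc_7_4 lc_b_rc_9_2 lc_b_rc_7_2 lc_b_rc_8_2 lc_b_rc_8_2 lc_b_rc_10_2 lc_b_rc_26_5 lc_b_Cert_tree lc_b_Cert_tree lc_b_rc_9_2 lc_b_rc_7_0 lc_b_Cert_tree lc_b_rc_10_2 lc_b_rc_6_1 lc_b_Cert_tree lc_b_rc_9_2 lc_b_Cert_tree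 lc_b_rc_9_2 lc_b_rc_6_1 lc_b_rc_25_16 lc_b_Cert_tree lc_b_rc_6_1 lc_b_rc_10_2 lc_b_rc_8_2 lc_b_rc_8_2 lc_b_rc_1_3 lc_b_Cert_tree) (@D3.rec (fun _ => (Cert rels S Gen.b)) lc_b_rc_6_1 lc_b_Cert_tree lc_b_rc_9_2 lc_b_Cert_tree lc_b_rc_6_1 lc_b_rc_10_2 lc_b_rc_6_1 lc_b_rc_9_2 lc_b_rc_8_0 lc_b_rc_10_2 lc_b_rc_1_3 lc_b_Cert_tree lc_b_rc_9_2 lc_b_rc_6_1 lc_b_rc_9_2 lc_b_Cert_tree lc_b_rc_9_2 lc_b_rc_10_2 lc_b_rc_1_3 lc_b_Cert_tree lc_b_rc_9_2 lc_b_rc_6_1 lc_b_rc_25_16 lc_b_rc_9_2 lc_b_Cert_tree lc_b_rc_10_2 lc_b_rc_6_1 lc_b_rc_8_0 lc_b_rc_6_1 lc_b_rc_8_0 lc_b_Cert_tree lc_b_Cert_tree lc_b_rc_1_3 lc_b_Cert_tree lc_b_rc_6_1 lc_b_rc_7_2 lc_b_rc_8_2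 lc_b_rc_8_2 lc_b_rc_10_2 lc_b_Cert_tree lc_b_rc_26_5 lc_b_Cert_tree lc_b_rc_9_2 lc_b_Cert_tree lc_b_Cert_tree lc_b_rc_10_2 lc_b_rc_6_1 lc_b_rc_9_2 lc_b_rc_6_1 lc_b_rc_1_5 lc_b_Cert_tree lc_b_Cert_tree lc_b_rc_10_2 lc_b_rc_6_1 lc_b_rc_8_2 lc_b_rc_6_1 lc_b_Cert_tree lc_b_rc_1_3 lc_b_rc_9_2 lc_b_rc_26_1 lc_b_rc_26_5 lc_b_Cert_tree) (@D3.rec (fun _ => (Cert rels S Gen.b)) lc_b_rc_9_2 lc_b_Cert_tree lc_b_rc_26_7 lc_b_rc_10_2 lc_b_Cert_tree lc_b_rc_1_1 lc_b_rc_8_2 lc_b_rc_8_2 lc_b_rc_1_3 lc_b_Cert_tree lc_b_Cert_tree lc_b_Cert_tree lc_b_rc_9_2 lc_b_Cert_tree lc_b_rc_6_1 lc_b_rc_8_2 lc_b_rc_10_2 lc_b_rc_6_1 lc_b_rc_8_0 lc_b_Cert_tree lc_b_rc_8_2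 lc_b_rc_10_2 lc_b_rc_7_4 lc_b_Cert_tree lc_b_rc_1_3 lc_b_rc_6_1 lc_b_rc_8_2 lc_b_rc_26_5 lc_b_Cert_tree lc_b_rc_10_2 lc_b_rc_8_2 lc_b_Cert_tree lc_b_rc_7_4 lc_b_Cert_tree lc_b_rc_6_1 lc_b_rc_8_2 lc_b_rc_10_2 lc_b_rc_8_2 lc_b_rc_10_2 lc_b_rc_8_2 lc_b_rc_9_2 lc_b_Cert_tree lc_b_rc_10_2 lc_b_rc_8_2 lc_b_rc_9_2 lc_b_rc_9_2 lc_b_rc_9_2 lc_b_Cert_tree lc_b_rc_6_1 lc_b_rc_8_2 lc_b_rc_10_2 lc_b_rc_8_2 lc_b_rc_26_1 lc_b_rc_8_0 lc_b_Cert_tree lc_b_rc_10_2 lc_b_rc_8_2 lc_b_rc_10_2 lc_b_rc_9_2 lc_b_rc_26_5 lc_b_Cert_tree lc_b_rc_10_2) (@D3.rec (fun _ => (Cert rels S Gen.b)) lc_b_rc_9_0 lc_b_rc_10_2 lc_b_rc_8_2 lc_b_rc_8_2 lc_b_rc_26_7 lc_b_rc_8_2 lc_b_rc_9_2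 lc_b_rc_26_5 lc_b_Cert_tree lc_b_rc_10_2 lc_b_rc_26_1 lc_b_rc_10_2 lc_b_rc_26_1 lc_b_Cert_tree lc_b_rc_8_2 lc_b_rc_26_5 lc_b_Cert_tree lc_b_rc_9_2 lc_b_rc_9_0 lc_b_rc_10_2 lc_b_rc_8_2 lc_b_rc_9_2 lc_b_Cert_tree lc_b_rc_9_2 lc_b_Cert_tree lc_b_rc_9_2 lc_b_rc_6_1 lc_b_Cert_tree lc_b_rc_9_2 lc_b_Cert_tree lc_b_Cert_tree lc_b_rc_6_1 lc_b_rc_8_2 lc_b_rc_10_2 lc_b_rc_9_2 lc_b_rc_8_2 lc_b_rc_9_2 lc_b_Cert_tree lc_b_rc_9_2 lc_b_rc_10_2 lc_b_Cert_tree lc_b_rc_7_4 lc_b_rc_6_1 lc_b_rc_8_2 lc_b_rc_9_2 lc_b_rc_6_1 lc_b_rc_8_2 lc_b_rc_9_2 lc_b_Cert_tree lc_b_rc_9_2 lc_b_rc_6_1 lc_b_rc_8_2 lc_b_rc_6_1 lc_b_rc_8_2 lc_b_rc_9_2 lc_b_rc_26_5 lc_b_rc_6_1 lc_b_rc_1_5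 lc_b_rc_6_1 lc_b_rc_8_2 lc_b_rc_8_0 lc_b_rc_8_0) (@D3.rec (fun _ => (Cert rels S Gen.b)) lc_b_rc_10_2 lc_b_rc_8_2 lc_b_rc_9_2 lc_b_rc_6_1 lc_b_rc_8_2 lc_b_rc_25_0 lc_b_Cert_tree lc_b_Cert_tree lc_b_rc_1_3 lc_b_rc_8_2 lc_b_rc_10_2 lc_b_Cert_tree lc_b_Cert_tree lc_b_Cert_tree lc_b_rc_9_2 lc_b_rc_10_2 lc_b_rc_9_2 lc_b_rc_6_1 lc_b_rc_8_2 lc_b_rc_9_2 lc_b_rc_6_1 lc_b_rc_8_2 lc_b_Cert_tree lc_b_Cert_tree lc_b_rc_9_0 lc_b_rc_8_2 lc_b_rc_9_2 lc_b_rc_9_2 lc_b_Cert_tree lc_b_rc_7_4 lc_b_rc_1_5 lc_b_rc_10_2 lc_b_rc_9_2 lc_b_rc_8_0 lc_b_rc_6_1 lc_b_Cert_tree lc_b_rc_7_4 lc_b_rc_8_2 lc_b_rc_9_2 lc_b_rc_9_2 lc_b_rc_6_1 lc_b_rc_8_2 lc_b_rc_9_2 lc_b_rc_6_1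 lc_b_Cert_tree lc_b_rc_10_2 lc_b_rc_9_2 lc_b_rc_8_2 lc_b_rc_9_2 lc_b_rc_6_1 lc_b_Cert_tree lc_b_rc_1_3 lc_b_rc_8_2 lc_b_rc_9_2 lc_b_rc_9_2 lc_b_rc_9_0 lc_b_Cert_tree lc_b_rc_8_2 lc_b_rc_10_2 lc_b_Cert_tree lc_b_Cert_tree lc_b_rc_9_2) (@D3.rec (fun _ => (Cert rels S Gen.b)) lc_b_rc_8_2 lc_b_rc_10_2 lc_b_Cert_tree lc_b_Cert_tree lc_b_rc_7_4 lc_b_rc_8_2 lc_b_rc_9_2 lc_b_rc_9_2 lc_b_rc_8_2 lc_b_rc_10_2 lc_b_rc_7_2 lc_b_Cert_tree lc_b_rc_6_1 lc_b_Cert_tree lc_b_rc_8_2 lc_b_rc_9_2 lc_b_rc_26_5 lc_b_rc_6_1 lc_b_rc_1_5 lc_b_rc_8_2 lc_b_rc_9_2 lc_b_rc_8_2 lc_b_Cert_tree lc_b_Cert_tree lc_b_Cert_tree lc_b_rc_9_2 lc_b_rc_10_2 lc_b_rc_9_2 lc_b_rc_6_1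 lc_b_rc_9_2 lc_b_rc_6_1 lc_b_rc_9_2 lc_b_Cert_tree lc_b_Cert_tree lc_b_rc_10_2 lc_b_rc_9_2 lc_b_rc_7_0 lc_b_Cert_tree lc_b_rc_8_2 lc_b_Cert_tree lc_b_rc_8_2 lc_b_Cert_tree lc_b_rc_9_2 lc_b_rc_26_5 lc_b_rc_7_2 lc_b_rc_26_5 lc_b_rc_8_2 lc_b_rc_10_2 lc_b_rc_8_2 lc_b_rc_9_2 lc_b_rc_26_5 lc_b_Cert_tree lc_b_rc_10_2 lc_b_rc_8_2 lc_b_rc_9_2 lc_b_rc_26_7 lc_b_Cert_tree lc_b_rc_10_2 lc_b_rc_8_2 lc_b_rc_9_2 lc_b_rc_26_5 lc_b_Cert_tree) (@D3.rec (fun _ => (Cert rels S Gen.b)) lc_b_rc_10_2 lc_b_rc_8_2 lc_b_rc_9_2 lc_b_rc_6_1 lc_b_rc_26_5 lc_b_Cert_tree lc_b_rc_9_2 lc_b_rc_9_0 lc_b_rc_6_1 lc_b_rc_10_2 lc_b_Cert_tree lc_b_rc_9_2 lc_b_rc_10_2 lc_b_rc_6_1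 lc_b_Cert_tree lc_b_rc_9_2 lc_b_Cert_tree lc_b_rc_9_2 lc_b_Cert_tree lc_b_Cert_tree lc_b_rc_6_1 lc_b_rc_8_2 lc_b_rc_10_2 lc_b_rc_9_2 lc_b_rc_8_2 lc_b_rc_6_1 lc_b_Cert_tree lc_b_rc_9_2 lc_b_rc_9_0 lc_b_rc_6_1 lc_b_rc_10_2 lc_b_Cert_tree lc_b_rc_9_2 lc_b_rc_6_1 lc_b_rc_8_2 lc_b_Cert_tree lc_b_rc_6_1 lc_b_rc_10_2 lc_b_rc_7_4 lc_b_rc_8_2 lc_b_Cert_tree lc_b_Cert_tree lc_b_rc_9_2 lc_b_rc_6_1 lc_b_rc_8_2 lc_b_rc_9_2 lc_b_rc_1_1 lc_b_rc_10_2 lc_b_Cert_tree lc_b_rc_9_2 lc_b_rc_6_1 lc_b_rc_8_2 lc_b_rc_9_2 lc_b_Cert_tree lc_b_rc_26_5 lc_b_rc_8_2 lc_b_rc_10_2 lc_b_rc_1_3 lc_b_Cert_tree lc_b_rc_9_2 lc_b_rc_6_1 lc_b_rc_8_2) (@D3.rec (fun _ => (Cert rels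 S Gen.b)) lc_b_rc_9_2 lc_b_rc_9_2 lc_b_Cert_tree lc_b_rc_10_2 lc_b_rc_6_1 lc_b_rc_8_2 lc_b_rc_9_2 lc_b_rc_6_1 lc_b_rc_8_2 lc_b_rc_9_2 lc_b_Cert_tree lc_b_Cert_tree lc_b_rc_1_3 lc_b_rc_8_2 lc_b_rc_10_2 lc_b_Cert_tree lc_b_Cert_tree lc_b_rc_9_2 lc_b_rc_9_2 lc_b_Cert_tree lc_b_Cert_tree lc_b_rc_6_1 lc_b_rc_9_2 lc_b_rc_6_1 lc_b_rc_9_2 lc_b_Cert_tree lc_b_Cert_tree lc_b_rc_10_2 lc_b_rc_6_1 lc_b_rc_6_1 lc_b_rc_6_1 lc_b_rc_8_2 lc_b_rc_9_2 lc_b_Cert_tree lc_b_rc_10_2 lc_b_Cert_tree lc_b_Cert_tree lc_b_rc_8_2 lc_b_rc_26_5 lc_b_Cert_tree lc_b_Cert_tree lc_b_rc_9_2 lc_b_rc_8_0 lc_b_rc_6_1 lc_b_rc_6_1 lc_b_rc_9_2 lc_b_Cert_tree lc_b_Cert_tree lc_b_rc_10_2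 lc_b_Cert_tree lc_b_Cert_tree lc_b_rc_1_3 lc_b_rc_8_2 lc_b_rc_6_1 lc_b_Cert_tree lc_b_Cert_tree lc_b_rc_8_2 lc_b_rc_9_2 lc_b_rc_25_16 lc_b_rc_7_2 lc_b_Cert_tree lc_b_Cert_tree) (@D3.rec (fun _ => (Cert rels S Gen.b)) lc_b_rc_6_1 lc_b_rc_8_2 lc_b_rc_9_2 lc_b_rc_9_2 lc_b_rc_8_2 lc_b_rc_1_5 lc_b_Cert_tree lc_b_rc_26_5 lc_b_rc_7_2 lc_b_rc_1_3 lc_b_rc_8_2 lc_b_rc_9_2 lc_b_rc_9_2 lc_b_rc_8_2 lc_b_rc_26_7 lc_b_rc_6_1 lc_b_Cert_tree lc_b_rc_1_3 lc_b_rc_6_1 lc_b_rc_8_2 lc_b_rc_9_2 lc_b_rc_9_2 lc_b_rc_8_2 lc_b_rc_10_2 lc_b_rc_10_2 lc_b_rc_6_1 lc_b_Cert_tree lc_b_rc_8_2 lc_b_rc_10_2 lc_b_rc_26_5 lc_b_rc_8_2 lc_b_rc_9_2 lc_b_rc_1_3 lc_b_Cert_tree lc_b_rc_8_0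 lc_b_Cert_tree lc_b_rc_9_2 lc_b_rc_10_2 lc_b_rc_9_2 lc_b_rc_6_1 lc_b_rc_9_2 lc_b_rc_6_1 lc_b_rc_9_2 lc_b_rc_6_1 lc_b_rc_9_2 lc_b_Cert_tree lc_b_Cert_tree lc_b_rc_10_2 lc_b_rc_9_2 lc_b_rc_8_2 lc_b_rc_9_2 lc_b_rc_1_3 lc_b_Cert_tree lc_b_Cert_tree lc_b_rc_7_4 lc_b_rc_9_2 lc_b_rc_8_2 lc_b_rc_8_2 lc_b_rc_10_2 lc_b_Cert_tree lc_b_Cert_tree lc_b_Cert_tree) (@D3.rec (fun _ => (Cert rels S Gen.b)) lc_b_rc_6_1 lc_b_rc_8_2 lc_b_rc_26_1 lc_b_rc_6_1 lc_b_rc_8_2 lc_b_rc_9_2 lc_b_rc_26_1 lc_b_rc_6_1 lc_b_rc_26_5 lc_b_rc_9_2 lc_b_rc_6_1 lc_b_rc_26_5 lc_b_Cert_tree lc_b_Cert_tree lc_b_rc_7_4 lc_b_rc_9_2 lc_b_rc_9_2 lc_b_rc_10_2 lc_b_Cert_tree lc_b_rc_26_1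 lc_b_rc_6_1 lc_b_rc_6_1 lc_b_rc_6_1 lc_b_rc_6_1 lc_b_rc_8_2 lc_b_rc_9_2 lc_b_rc_10_2 lc_b_rc_6_1 lc_b_rc_6_1 lc_b_rc_9_2 lc_b_rc_1_3 lc_b_rc_9_2 lc_b_rc_7_4 lc_b_rc_9_2 lc_b_Cert_tree lc_b_rc_8_2 lc_b_rc_10_2 lc_b_rc_8_2 lc_b_rc_10_2 lc_b_rc_6_1 lc_b_rc_8_2 lc_b_rc_6_1 lc_b_rc_8_2 lc_b_Cert_tree lc_b_rc_10_2 lc_b_rc_6_1 lc_b_rc_8_2 lc_b_rc_6_1 lc_b_rc_8_2 lc_b_rc_26_1 lc_b_rc_7_2 lc_b_rc_26_5 lc_b_rc_8_2 lc_b_rc_8_2 lc_b_rc_1_3 lc_b_rc_6_1 lc_b_rc_9_2 lc_b_rc_6_1 lc_b_rc_1_5 lc_b_rc_8_2 lc_b_rc_10_2 lc_b_rc_7_4) (@D3.rec (fun _ => (Cert rels S Gen.b)) lc_b_Cert_tree lc_b_rc_8_2 lc_b_rc_10_2 lc_b_Cert_tree lc_b_rc_10_2 lc_b_rc_7_4 lc_b_rc_8_2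 lc_b_rc_6_1 lc_b_rc_26_5 lc_b_rc_8_2 lc_b_rc_9_2 lc_b_rc_1_3 lc_b_rc_1_3 lc_b_rc_9_2 lc_b_rc_6_1 lc_b_Cert_tree lc_b_rc_8_2 lc_b_rc_9_2 lc_b_rc_7_4 lc_b_rc_9_2 lc_b_rc_9_0 lc_b_rc_26_5 lc_b_rc_8_2 lc_b_rc_10_2 lc_b_Cert_tree lc_b_Cert_tree lc_b_rc_8_2 lc_b_rc_7_0 lc_b_Cert_tree lc_b_rc_10_2 lc_b_rc_9_2 lc_b_rc_8_2 lc_b_rc_8_2 lc_b_rc_6_1 lc_b_rc_25_4 lc_b_Cert_tree lc_b_rc_8_2 lc_b_rc_9_2 lc_b_rc_10_2 lc_b_rc_7_4 lc_b_rc_6_1 lc_b_rc_6_1 lc_b_rc_8_2 lc_b_rc_9_2 lc_b_rc_10_2 lc_b_rc_6_1 lc_b_Cert_tree lc_b_rc_9_2 lc_b_rc_10_2 lc_b_rc_1_5 lc_b_rc_8_2 lc_b_rc_1_5 lc_b_rc_1_1 lc_b_rc_1_1 lc_b_rc_8_2 lc_b_rc_6_1 lc_b_rc_8_2 lc_b_rc_9_2 lc_b_Cert_tree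 lc_b_rc_9_2 lc_b_rc_10_0 lc_b_rc_8_2) (@D3.rec (fun _ => (Cert rels S Gen.b)) lc_b_rc_9_0 lc_b_Cert_tree lc_b_rc_9_2 lc_b_rc_6_1 lc_b_rc_25_4 lc_b_rc_9_2 lc_b_Cert_tree lc_b_rc_9_2 lc_b_Cert_tree lc_b_Cert_tree lc_b_rc_8_2 lc_b_rc_9_2 lc_b_Cert_tree lc_b_Cert_tree lc_b_rc_10_2 lc_b_rc_1_5 lc_b_rc_8_2 lc_b_rc_1_3 lc_b_rc_6_1 lc_b_rc_9_2 lc_b_Cert_tree lc_b_rc_10_2 lc_b_rc_8_2 lc_b_rc_10_2 lc_b_rc_1_3 lc_b_rc_7_4 lc_b_rc_9_2 lc_b_rc_26_5 lc_b_Cert_tree lc_b_rc_8_2 lc_b_rc_10_2 lc_b_rc_6_1 lc_b_rc_8_2 lc_b_rc_9_2 lc_b_rc_6_1 lc_b_rc_8_2 lc_b_rc_8_2 lc_b_rc_6_1 lc_b_rc_8_2 lc_b_Cert_tree lc_b_Cert_tree lc_b_Cert_tree lc_b_rc_8_2 lc_b_rc_8_2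 lc_b_rc_7_4 lc_b_rc_8_2 lc_b_rc_1_5 lc_b_Cert_tree lc_b_rc_8_2 lc_b_rc_7_2 lc_b_rc_8_2 lc_b_rc_9_2 lc_b_rc_6_1 lc_b_Cert_tree lc_b_rc_6_1 lc_b_rc_1_3 lc_b_rc_8_2 lc_b_rc_10_2 lc_b_Cert_tree lc_b_rc_9_2 lc_b_rc_26_5 lc_b_rc_6_1) (@D3.rec (fun _ => (Cert rels S Gen.b)) lc_b_rc_1_3 lc_b_rc_9_2 lc_b_rc_7_4 lc_b_rc_9_2 lc_b_Cert_tree lc_b_Cert_tree lc_b_rc_10_2 lc_b_rc_26_5 lc_b_rc_26_5 lc_b_rc_9_2 lc_b_rc_8_2 lc_b_rc_9_2 lc_b_rc_8_2 lc_b_rc_9_2 lc_b_rc_1_3 lc_b_Cert_tree lc_b_rc_8_2 lc_b_Cert_tree lc_b_Cert_tree lc_b_rc_1_3 lc_b_Cert_tree lc_b_Cert_tree lc_b_rc_6_1 lc_b_rc_8_2 lc_b_rc_9_2 lc_b_Cert_tree lc_b_rc_6_1 lc_b_rc_10_2 lc_b_rc_1_3 lc_b_rc_9_2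 lc_b_Cert_tree lc_b_Cert_tree lc_b_rc_8_2 lc_b_rc_10_2 lc_b_rc_6_1 lc_b_Cert_tree lc_b_rc_26_1 lc_b_rc_9_2 lc_b_rc_6_1 lc_b_Cert_tree lc_b_rc_9_2 lc_b_rc_9_2 lc_b_rc_6_1 lc_b_rc_26_1 lc_b_rc_6_1 lc_b_rc_26_5 lc_b_rc_9_2 lc_b_rc_9_2 lc_b_rc_1_1 lc_b_rc_8_2 lc_b_rc_10_2 lc_b_Cert_tree lc_b_rc_26_5 lc_b_Cert_tree lc_b_rc_10_2 lc_b_rc_9_2 lc_b_rc_8_2 lc_b_rc_9_2 lc_b_rc_6_1 lc_b_rc_9_2 lc_b_Cert_tree lc_b_rc_9_2) (@D3.rec (fun _ => (Cert rels S Gen.b)) lc_b_rc_6_1 lc_b_rc_8_2 lc_b_rc_10_2 lc_b_Cert_tree lc_b_Cert_tree lc_b_rc_9_2 lc_b_Cert_tree lc_b_rc_7_0 lc_b_rc_8_2 lc_b_rc_9_2 lc_b_Cert_tree lc_b_rc_6_1 lc_b_rc_8_2 lc_b_rc_10_2 lc_b_rc_7_2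 lc_b_rc_8_2 lc_b_rc_26_7 lc_b_rc_8_2 lc_b_Cert_tree lc_b_rc_10_2 lc_b_rc_6_1 lc_b_rc_8_2 lc_b_rc_6_1 lc_b_rc_8_2 lc_b_Cert_tree lc_b_rc_9_0 lc_b_Cert_tree lc_b_rc_26_7 lc_b_Cert_tree lc_b_rc_7_0 lc_b_rc_1_3 lc_b_rc_8_2 lc_b_Cert_tree lc_b_rc_9_2 lc_b_rc_6_1 lc_b_rc_6_1 lc_b_rc_1_5 lc_b_rc_8_2 lc_b_rc_1_3 lc_b_rc_8_2 lc_b_Cert_tree lc_b_rc_9_2 lc_b_rc_8_2 lc_b_rc_6_1 lc_b_rc_7_0 lc_b_rc_10_0 lc_b_rc_8_2 lc_b_rc_9_2 lc_b_rc_9_2 lc_b_rc_10_2 lc_b_rc_26_5 lc_b_rc_26_5 lc_b_rc_9_0 lc_b_rc_7_4 lc_b_rc_9_2 lc_b_rc_6_1 lc_b_rc_26_5 lc_b_rc_9_2 lc_b_rc_10_0 lc_b_rc_26_1 lc_b_rc_8_2 lc_b_rc_10_2) (@D3.rec (fun _ => (Cert rels S Gen.b)) lc_b_rc_26_5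 lc_b_rc_8_2 lc_b_Cert_tree lc_b_rc_6_1 lc_b_rc_9_2 lc_b_rc_6_1 lc_b_rc_8_2 lc_b_Cert_tree lc_b_rc_9_2 lc_b_rc_8_2 lc_b_rc_6_1 lc_b_rc_26_7 lc_b_rc_9_2 lc_b_rc_6_1 lc_b_Cert_tree lc_b_rc_9_2 lc_b_Cert_tree lc_b_rc_6_1 lc_b_rc_8_2 lc_b_rc_9_2 lc_b_Cert_tree lc_b_rc_8_2 lc_b_rc_10_2 lc_b_rc_6_1 lc_b_rc_6_1 lc_b_Cert_tree lc_b_Cert_tree lc_b_rc_6_1 lc_b_rc_8_2 lc_b_rc_6_1 lc_b_rc_8_2 lc_b_rc_10_0 lc_b_Cert_tree lc_b_Cert_tree lc_b_Cert_tree lc_b_rc_26_1 lc_b_rc_6_1 lc_b_rc_8_2 lc_b_rc_9_2 lc_b_rc_8_2 lc_b_rc_8_2 lc_b_rc_6_1 lc_b_rc_8_2 lc_b_rc_9_2 lc_b_rc_6_1 lc_b_rc_9_2 lc_b_rc_8_2 lc_b_rc_8_2 lc_b_rc_7_4 lc_b_Cert_tree lc_b_rc_8_0 lc_b_rc_8_2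 lc_b_rc_6_1 lc_b_rc_8_2 lc_b_rc_9_2 lc_b_rc_25_8 lc_b_rc_9_2 lc_b_rc_8_2 lc_b_rc_8_2 lc_b_Cert_tree lc_b_rc_26_1 lc_b_Cert_tree) (@D3.rec (fun _ => (Cert rels S Gen.b)) lc_b_rc_9_2 lc_b_rc_26_5 lc_b_rc_8_2 lc_b_rc_6_1 lc_b_Cert_tree lc_b_rc_9_2 lc_b_rc_1_5 lc_b_rc_8_2 lc_b_rc_9_2 lc_b_rc_26_1 lc_b_rc_26_5 lc_b_rc_6_1 lc_b_rc_9_2 lc_b_rc_9_2 lc_b_rc_9_2 lc_b_rc_6_1 lc_b_rc_9_2 lc_b_Cert_tree lc_b_rc_9_2 lc_b_rc_8_2 lc_b_rc_26_1 lc_b_Cert_tree lc_b_rc_9_2 lc_b_rc_8_2 lc_b_rc_9_2 lc_b_rc_26_5 lc_b_Cert_tree lc_b_rc_9_2 lc_b_rc_8_2 lc_b_rc_7_2 lc_b_Cert_tree lc_b_Cert_tree lc_b_rc_6_1 lc_b_rc_8_2 lc_b_rc_9_2 lc_b_Cert_tree lc_b_rc_6_1 lc_b_rc_6_1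 lc_b_rc_8_2 lc_b_rc_6_1 lc_b_Cert_tree lc_b_rc_9_2 lc_b_Cert_tree lc_b_rc_9_2 lc_b_Cert_tree lc_b_Cert_tree lc_b_rc_6_1 lc_b_rc_8_2 lc_b_rc_9_2 lc_b_rc_7_2 lc_b_rc_10_2 lc_b_Cert_tree lc_b_rc_9_2 lc_b_Cert_tree lc_b_Cert_tree lc_b_rc_6_1 lc_b_rc_8_2 lc_b_rc_9_2 lc_b_rc_10_2 lc_b_rc_9_2 lc_b_rc_8_2 lc_b_rc_10_2) (@D3.rec (fun _ => (Cert rels S Gen.b)) lc_b_rc_8_0 lc_b_Cert_tree lc_b_rc_6_1 lc_b_rc_8_2 lc_b_rc_9_2 lc_b_rc_1_5 lc_b_rc_1_3 lc_b_rc_10_2 lc_b_rc_6_1 lc_b_rc_8_2 lc_b_rc_9_2 lc_b_rc_6_1 lc_b_rc_8_2 lc_b_rc_9_2 lc_b_Cert_tree lc_b_Cert_tree lc_b_rc_1_3 lc_b_rc_8_2 lc_b_rc_9_2 lc_b_Cert_tree lc_b_Cert_tree lc_b_Cert_tree lc_b_rc_9_2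 lc_b_rc_8_2 lc_b_Cert_tree lc_b_Cert_tree lc_b_rc_8_2 lc_b_rc_10_2 lc_b_rc_9_2 lc_b_rc_6_1 lc_b_Cert_tree lc_b_rc_9_2 lc_b_Cert_tree lc_b_rc_9_2 lc_b_rc_9_2 lc_b_Cert_tree lc_b_rc_8_2 lc_b_rc_6_1 lc_b_rc_8_2 lc_b_rc_6_1 lc_b_rc_26_5 lc_b_rc_10_2 lc_b_Cert_tree lc_b_Cert_tree lc_b_Cert_tree lc_b_rc_9_2 lc_b_Cert_tree lc_b_rc_7_2 lc_b_rc_8_2 lc_b_rc_9_2 lc_b_rc_26_1 lc_b_Cert_tree lc_b_rc_8_2 lc_b_rc_10_2 lc_b_rc_6_1 lc_b_rc_8_2 lc_b_rc_8_2 lc_b_rc_8_2 lc_b_Cert_tree lc_b_rc_26_5 lc_b_Cert_tree lc_b_rc_10_2) (@D3.rec (fun _ => (Cert rels S Gen.b)) lc_b_Cert_tree lc_b_rc_9_2 lc_b_rc_8_2 lc_b_rc_9_2 lc_b_rc_9_0 lc_b_rc_10_0 lc_b_rc_8_2 lc_b_rc_10_2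 lc_b_rc_8_2 lc_b_rc_6_1 lc_b_rc_8_2 lc_b_rc_1_1 lc_b_Cert_tree lc_b_Cert_tree lc_b_rc_10_2 lc_b_rc_6_1 lc_b_Cert_tree lc_b_rc_9_2 lc_b_rc_6_1 lc_b_Cert_tree lc_b_rc_9_2 lc_b_rc_9_2 lc_b_Cert_tree lc_b_Cert_tree lc_b_rc_8_2 lc_b_rc_10_2 lc_b_rc_6_1 lc_b_rc_8_2 lc_b_rc_7_4 lc_b_rc_6_1 lc_b_rc_8_2 lc_b_rc_9_2 lc_b_Cert_tree lc_b_Cert_tree lc_b_Cert_tree lc_b_rc_10_2 lc_b_rc_26_7 lc_b_Cert_tree lc_b_Cert_tree lc_b_rc_6_1 lc_b_rc_8_2 lc_b_Cert_tree lc_b_rc_6_1 lc_b_rc_9_2 lc_b_rc_26_7 lc_b_rc_9_2 lc_b_rc_6_1 lc_b_rc_7_4 lc_b_rc_9_2 lc_b_rc_8_2 lc_b_rc_26_5 lc_b_rc_1_3 lc_b_rc_6_1 lc_b_rc_8_2 lc_b_Cert_tree lc_b_Cert_tree lc_b_Cert_tree lc_b_Cert_tree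 lc_b_rc_9_2 lc_b_rc_6_1 lc_b_Cert_tree lc_b_rc_25_0) (@D3.rec (fun _ => (Cert rels S Gen.b)) lc_b_rc_6_1 lc_b_rc_9_2 lc_b_rc_26_1 lc_b_rc_7_0 lc_b_rc_8_2 lc_b_rc_10_2 lc_b_rc_8_2 lc_b_rc_9_2 lc_b_rc_26_1 lc_b_Cert_tree lc_b_rc_10_2 lc_b_rc_6_1 lc_b_rc_8_2 lc_b_rc_9_2 lc_b_rc_8_2 lc_b_rc_9_2 lc_b_Cert_tree lc_b_rc_6_1 lc_b_Cert_tree lc_b_rc_10_2 lc_b_rc_8_2 lc_b_rc_9_2 lc_b_rc_8_2 lc_b_rc_9_2 lc_b_rc_8_0 lc_b_Cert_tree lc_b_rc_9_2 lc_b_rc_8_2 lc_b_rc_10_2 lc_b_rc_10_2 lc_b_rc_8_2 lc_b_rc_9_2 lc_b_rc_8_2 lc_b_rc_9_2 lc_b_Cert_tree lc_b_rc_9_2 lc_b_rc_6_1 lc_b_rc_6_1 lc_b_Cert_tree lc_b_rc_9_2 lc_b_rc_6_1 lc_b_Cert_tree lc_b_rc_9_2 lc_b_Cert_tree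 lc_b_Cert_tree lc_b_rc_6_1 lc_b_rc_8_2 lc_b_rc_10_2 lc_b_rc_9_2 lc_b_rc_1_3 lc_b_rc_7_4 lc_b_rc_9_2 lc_b_Cert_tree lc_b_rc_9_2 lc_b_rc_10_2 lc_b_rc_8_2 lc_b_rc_6_1 lc_b_rc_9_2 lc_b_rc_9_2 lc_b_Cert_tree lc_b_rc_10_2 lc_b_Cert_tree) (@D3.rec (fun _ => (Cert rels S Gen.b)) lc_b_rc_10_2 lc_b_rc_1_3 lc_b_rc_8_2 lc_b_rc_10_2 lc_b_rc_9_2 lc_b_rc_9_2 lc_b_Cert_tree lc_b_Cert_tree lc_b_rc_9_2 lc_b_rc_6_1 lc_b_rc_10_2 lc_b_rc_6_1 lc_b_Cert_tree lc_b_rc_1_3 lc_b_rc_6_1 lc_b_rc_8_0 lc_b_rc_1_3 lc_b_rc_6_1 lc_b_rc_9_2 lc_b_rc_6_1 lc_b_rc_9_2 lc_b_Cert_tree lc_b_Cert_tree lc_b_rc_6_1 lc_b_rc_8_2 lc_b_rc_7_4 lc_b_rc_9_2 lc_b_rc_8_2 lc_b_rc_7_4 lc_b_rc_9_2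 lc_b_Cert_tree lc_b_rc_26_7 lc_b_rc_10_2 lc_b_rc_8_2 lc_b_rc_9_0 lc_b_rc_9_2 lc_b_rc_9_2 lc_b_Cert_tree lc_b_Cert_tree lc_b_Cert_tree lc_b_rc_1_3 lc_b_Cert_tree lc_b_rc_1_3 lc_b_rc_1_3 lc_b_rc_7_4 lc_b_rc_9_2 lc_b_rc_9_2 lc_b_rc_6_1 lc_b_rc_6_1 lc_b_rc_6_1 lc_b_rc_6_1 lc_b_rc_26_5 lc_b_rc_26_5 lc_b_rc_8_2 lc_b_rc_10_2 lc_b_rc_6_1 lc_b_rc_9_2 lc_b_rc_10_2 lc_b_rc_26_1 lc_b_rc_26_5 lc_b_Cert_tree lc_b_rc_10_2) (@D3.rec (fun _ => (Cert rels S Gen.b)) lc_b_rc_6_1 lc_b_rc_8_2 lc_b_rc_26_5 lc_b_rc_26_5 lc_b_rc_10_2 lc_b_rc_8_0 lc_b_Cert_tree lc_b_rc_10_2 lc_b_rc_8_2 lc_b_rc_9_2 lc_b_rc_8_2 lc_b_rc_26_5 lc_b_rc_6_1 lc_b_Cert_tree lc_b_rc_10_2 lc_b_rc_8_2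 lc_b_rc_9_2 lc_b_rc_1_5 lc_b_rc_8_2 lc_b_rc_9_2 lc_b_rc_26_5 lc_b_Cert_tree lc_b_rc_9_2 lc_b_rc_6_1 lc_b_rc_10_2 lc_b_rc_9_2 lc_b_rc_8_2 lc_b_rc_9_2 lc_b_rc_8_2 lc_b_rc_7_2 lc_b_Cert_tree lc_b_rc_9_2 lc_b_rc_6_1 lc_b_Cert_tree lc_b_rc_9_2 lc_b_rc_6_1 lc_b_Cert_tree lc_b_rc_9_2 lc_b_Cert_tree lc_b_Cert_tree lc_b_rc_6_1 lc_b_rc_8_2 lc_b_rc_10_2 lc_b_rc_9_2 lc_b_rc_9_2 lc_b_Cert_tree lc_b_rc_9_2 lc_b_rc_8_2 lc_b_rc_10_2 lc_b_rc_8_0 lc_b_rc_6_1 lc_b_rc_9_2 lc_b_rc_6_1 lc_b_Cert_tree lc_b_rc_10_2 lc_b_Cert_tree lc_b_Cert_tree lc_b_rc_1_3 lc_b_rc_8_2 lc_b_rc_10_2 lc_b_rc_9_2 lc_b_rc_9_2) (@D3.rec (fun _ => (Cert rels S Gen.b)) lc_b_Cert_tree lc_b_Cert_tree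 lc_b_rc_7_2 lc_b_Cert_tree lc_b_rc_6_1 lc_b_rc_9_2 lc_b_rc_9_2 lc_b_rc_9_2 lc_b_rc_6_1 lc_b_rc_9_0 lc_b_rc_7_2 lc_b_rc_9_2 lc_b_rc_8_2 lc_b_rc_8_0 lc_b_Cert_tree lc_b_rc_9_2 lc_b_rc_7_4 lc_b_rc_6_1 lc_b_rc_8_2 lc_b_Cert_tree lc_b_rc_1_3 lc_b_rc_9_2 lc_b_rc_8_2 lc_b_rc_10_2 lc_b_rc_8_2 lc_b_rc_9_2 lc_b_rc_10_2 lc_b_rc_10_2 lc_b_rc_26_1 lc_b_rc_6_1 lc_b_rc_9_0 lc_b_rc_8_2 lc_b_rc_26_5 lc_b_rc_6_1 lc_b_rc_9_2 lc_b_rc_8_2 lc_b_rc_9_2 lc_b_rc_8_2 lc_b_Cert_tree lc_b_Cert_tree lc_b_Cert_tree lc_b_rc_9_2 lc_b_rc_10_2 lc_b_rc_9_2 lc_b_rc_6_1 lc_b_rc_9_2 lc_b_Cert_tree lc_b_Cert_tree lc_b_rc_10_2 lc_b_rc_9_2 lc_b_rc_8_2 lc_b_rc_9_2 lc_b_Cert_tree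 lc_b_rc_7_4 lc_b_rc_8_2 lc_b_rc_10_2 lc_b_rc_7_4 lc_b_rc_9_2 lc_b_rc_1_3 lc_b_rc_9_2 lc_b_rc_6_1 lc_b_rc_8_2) (@D3.rec (fun _ => (Cert rels S Gen.b)) lc_b_rc_9_2 lc_b_rc_6_1 lc_b_rc_8_2 lc_b_rc_9_2 lc_b_rc_6_1 lc_b_rc_6_1 lc_b_rc_8_2 lc_b_rc_9_2 lc_b_rc_6_1 lc_b_rc_10_0 lc_b_Cert_tree lc_b_rc_9_2 lc_b_rc_8_2 lc_b_rc_1_5 lc_b_rc_8_2 lc_b_rc_10_2 lc_b_rc_9_2 lc_b_rc_6_1 lc_b_rc_10_0 lc_b_rc_7_2 lc_b_rc_8_2 lc_b_rc_9_2 lc_b_rc_26_5 lc_b_rc_9_2 lc_b_Cert_tree lc_b_rc_9_2 lc_b_rc_9_2 lc_b_rc_8_2 lc_b_rc_26_1 lc_b_Cert_tree lc_b_rc_6_1 lc_b_Cert_tree lc_b_rc_9_2 lc_b_rc_6_1 lc_b_Cert_tree lc_b_rc_9_2 lc_b_rc_6_1 lc_b_Cert_tree lc_b_rc_9_2 lc_b_Cert_tree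 lc_b_Cert_tree lc_b_rc_8_2 lc_b_rc_9_2 lc_b_rc_7_4 lc_b_Cert_tree lc_b_Cert_tree lc_b_rc_10_2 lc_b_rc_9_2 lc_b_Cert_tree lc_b_rc_8_2 lc_b_rc_6_1 lc_b_rc_8_2 lc_b_rc_9_2 lc_b_rc_6_1 lc_b_rc_8_2 lc_b_rc_8_2 lc_b_rc_8_2 lc_b_Cert_tree lc_b_Cert_tree lc_b_rc_8_2 lc_b_Cert_tree lc_b_rc_9_0) (@D3.rec (fun _ => (Cert rels S Gen.b)) lc_b_rc_8_2 lc_b_rc_9_2 lc_b_Cert_tree lc_b_rc_8_2 lc_b_Cert_tree lc_b_rc_8_2 lc_b_Cert_tree lc_b_rc_8_2 lc_b_rc_8_2 lc_b_rc_26_5 lc_b_Cert_tree lc_b_rc_10_2 lc_b_rc_7_2 lc_b_rc_8_2 lc_b_rc_9_2 lc_b_rc_8_2 lc_b_rc_9_2 lc_b_rc_8_2 lc_b_rc_26_1 lc_b_Cert_tree lc_b_rc_9_2 lc_b_rc_8_2 lc_b_rc_9_2 lc_b_rc_8_2 lc_b_rc_6_1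 lc_b_Cert_tree lc_b_rc_9_2 lc_b_rc_8_2 lc_b_rc_6_1 lc_b_Cert_tree lc_b_rc_9_2 lc_b_rc_6_1 lc_b_Cert_tree lc_b_rc_9_2 lc_b_Cert_tree lc_b_Cert_tree lc_b_rc_6_1 lc_b_rc_8_2 lc_b_rc_10_2 lc_b_rc_9_2 lc_b_rc_26_1 lc_b_Cert_tree lc_b_Cert_tree lc_b_rc_9_2 lc_b_rc_6_1 lc_b_Cert_tree lc_b_rc_9_2 lc_b_Cert_tree lc_b_rc_9_2 lc_b_Cert_tree lc_b_Cert_tree lc_b_rc_6_1 lc_b_rc_8_2 lc_b_rc_9_2 lc_b_Cert_tree lc_b_rc_6_1 lc_b_rc_10_2 lc_b_rc_8_2 lc_b_rc_26_1 lc_b_rc_7_0 lc_b_Cert_tree lc_b_rc_8_2) (@D3.rec (fun _ => (Cert rels S Gen.b)) lc_b_Cert_tree lc_b_rc_9_2 lc_b_Cert_tree lc_b_rc_6_1 lc_b_rc_8_2 lc_b_rc_6_1 lc_b_rc_8_2 lc_b_rc_9_2 lc_b_rc_6_1 lc_b_rc_8_2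 lc_b_rc_10_2 lc_b_rc_25_8 lc_b_Cert_tree lc_b_rc_9_2 lc_b_rc_6_1 lc_b_rc_8_2 lc_b_rc_9_2 lc_b_Cert_tree lc_b_rc_6_1 lc_b_rc_10_2 lc_b_rc_8_2 lc_b_Cert_tree lc_b_rc_9_2 lc_b_rc_6_1 lc_b_rc_8_2 lc_b_rc_9_2 lc_b_rc_8_2 lc_b_Cert_tree lc_b_rc_10_2 lc_b_rc_6_1 lc_b_rc_8_2 lc_b_rc_9_2 lc_b_rc_6_1 lc_b_rc_8_2 lc_b_rc_9_2 lc_b_Cert_tree lc_b_Cert_tree lc_b_rc_1_3 lc_b_rc_8_2 lc_b_rc_10_2 lc_b_rc_7_2 lc_b_Cert_tree lc_b_rc_9_2 lc_b_rc_9_2 lc_b_Cert_tree lc_b_rc_8_2 lc_b_rc_26_5 lc_b_Cert_tree lc_b_Cert_tree lc_b_rc_9_2 lc_b_rc_6_1 lc_b_rc_6_1 lc_b_Cert_tree lc_b_Cert_tree lc_b_Cert_tree lc_b_rc_6_1 lc_b_rc_8_2 lc_b_Cert_tree lc_b_rc_6_1 lc_b_Cert_tree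 lc_b_rc_9_2 lc_b_rc_6_1) (@D3.rec (fun _ => (Cert rels S Gen.b)) lc_b_Cert_tree lc_b_rc_9_2 lc_b_rc_6_1 lc_b_Cert_tree lc_b_rc_6_1 lc_b_rc_9_2 lc_b_Cert_tree lc_b_Cert_tree lc_b_rc_10_2 lc_b_rc_8_2 lc_b_rc_6_1 lc_b_rc_8_2 lc_b_rc_8_2 lc_b_rc_9_2 lc_b_rc_6_1 lc_b_rc_8_2 lc_b_rc_6_1 lc_b_rc_9_2 lc_b_rc_8_2 lc_b_rc_9_2 lc_b_Cert_tree lc_b_Cert_tree lc_b_Cert_tree lc_b_rc_9_2 lc_b_rc_8_2 lc_b_rc_6_1 lc_b_rc_9_2 lc_b_Cert_tree lc_b_rc_8_2 lc_b_rc_10_2 lc_b_Cert_tree lc_b_rc_26_5 lc_b_Cert_tree lc_b_rc_9_0 lc_b_rc_8_2 lc_b_rc_9_2 lc_b_rc_6_1 lc_b_rc_8_2 lc_b_rc_6_1 lc_b_rc_8_2 lc_b_rc_9_2 lc_b_rc_8_2 lc_b_rc_9_2 lc_b_Cert_tree lc_b_Cert_tree lc_b_rc_9_2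 lc_b_Cert_tree lc_b_rc_1_3 lc_b_rc_8_2 lc_b_rc_9_2 lc_b_rc_10_2 lc_b_rc_8_2 lc_b_rc_8_2 lc_b_rc_9_2 lc_b_rc_8_2 lc_b_Cert_tree lc_b_rc_9_2 lc_b_Cert_tree lc_b_rc_1_3 lc_b_rc_7_4 lc_b_rc_8_2 lc_b_rc_9_2) (@D3.rec (fun _ => (Cert rels S Gen.b)) lc_b_rc_9_2 lc_b_rc_8_2 lc_b_rc_1_3 lc_b_rc_6_1 lc_b_rc_26_5 lc_b_rc_8_2 lc_b_rc_9_2 lc_b_rc_10_2 lc_b_rc_6_1 lc_b_rc_26_5 lc_b_rc_8_2 lc_b_rc_8_2 lc_b_Cert_tree lc_b_Cert_tree lc_b_Cert_tree lc_b_rc_9_2 lc_b_rc_10_2 lc_b_rc_6_1 lc_b_rc_9_2 lc_b_rc_6_1 lc_b_rc_9_2 lc_b_rc_6_1 lc_b_rc_9_2 lc_b_Cert_tree lc_b_Cert_tree lc_b_rc_10_2 lc_b_rc_9_2 lc_b_rc_8_2 lc_b_rc_9_2 lc_b_rc_8_2 lc_b_rc_8_0 lc_b_Cert_tree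 lc_b_rc_9_2 lc_b_rc_8_2 lc_b_rc_9_2 lc_b_Cert_tree lc_b_rc_9_2 lc_b_rc_8_2 lc_b_rc_6_1 lc_b_Cert_tree lc_b_rc_9_2 lc_b_rc_6_1 lc_b_Cert_tree lc_b_rc_9_2 lc_b_Cert_tree lc_b_Cert_tree lc_b_rc_6_1 lc_b_rc_8_2 lc_b_rc_10_2 lc_b_rc_9_2 lc_b_rc_26_1 lc_b_rc_8_2 lc_b_rc_8_2 lc_b_rc_8_2 lc_b_rc_26_5 lc_b_Cert_tree lc_b_Cert_tree lc_b_rc_9_2 lc_b_rc_6_1 lc_b_Cert_tree lc_b_rc_9_2 lc_b_Cert_tree) (@D3.rec (fun _ => (Cert rels S Gen.b)) lc_b_rc_6_1 lc_b_rc_8_2 lc_b_rc_9_2 lc_b_Cert_tree lc_b_rc_6_1 lc_b_rc_10_2 lc_b_Cert_tree lc_b_rc_26_5 lc_b_Cert_tree lc_b_rc_9_2 lc_b_rc_8_2 lc_b_rc_6_1 lc_b_rc_8_2 lc_b_rc_9_2 lc_b_rc_8_0 lc_b_rc_8_2 lc_b_rc_10_2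 lc_b_Cert_tree lc_b_rc_8_0 lc_b_Cert_tree lc_b_rc_9_2 lc_b_rc_6_1 lc_b_rc_8_2 lc_b_rc_9_2 lc_b_Cert_tree lc_b_rc_6_1 lc_b_rc_10_2 lc_b_Cert_tree lc_b_rc_9_2 lc_b_rc_6_1 lc_b_rc_8_2 lc_b_rc_9_2 lc_b_rc_26_1 lc_b_Cert_tree lc_b_rc_10_2 lc_b_rc_6_1 lc_b_rc_8_2 lc_b_rc_9_2 lc_b_rc_6_1 lc_b_rc_8_2 lc_b_rc_9_2 lc_b_Cert_tree lc_b_Cert_tree lc_b_rc_1_3 lc_b_rc_8_2 lc_b_rc_10_2 lc_b_Cert_tree lc_b_Cert_tree lc_b_rc_9_2 lc_b_rc_9_2 lc_b_Cert_tree lc_b_Cert_tree lc_b_rc_6_1 lc_b_Cert_tree lc_b_rc_9_2 lc_b_rc_6_1 lc_b_rc_9_2 lc_b_rc_6_1 lc_b_rc_6_1 lc_b_rc_9_2 lc_b_Cert_tree lc_b_Cert_tree) (@D3.rec (fun _ => (Cert rels S Gen.b)) lc_b_rc_10_2 lc_b_rc_6_1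 lc_b_rc_6_1 lc_b_rc_6_1 lc_b_rc_26_5 lc_b_Cert_tree lc_b_rc_9_2 lc_b_rc_8_2 lc_b_rc_9_2 lc_b_rc_8_2 lc_b_rc_9_2 lc_b_rc_26_5 lc_b_Cert_tree lc_b_Cert_tree lc_b_rc_9_2 lc_b_rc_8_2 lc_b_rc_7_4 lc_b_Cert_tree lc_b_rc_6_1 lc_b_rc_26_5 lc_b_Cert_tree lc_b_rc_6_1 lc_b_rc_8_2 lc_b_rc_6_1 lc_b_Cert_tree lc_b_rc_6_1 lc_b_Cert_tree lc_b_rc_9_2 lc_b_rc_8_2 lc_b_rc_6_1 lc_b_rc_9_2 lc_b_Cert_tree lc_b_rc_8_2 lc_b_rc_10_2 lc_b_Cert_tree lc_b_rc_1_5 lc_b_rc_8_2 lc_b_rc_9_2 lc_b_rc_8_2 lc_b_rc_8_2 lc_b_rc_9_2 lc_b_rc_9_2 lc_b_Cert_tree lc_b_rc_6_1 lc_b_rc_8_2 lc_b_rc_9_2 lc_b_rc_1_3 lc_b_rc_8_2 lc_b_rc_9_2 lc_b_rc_9_2 lc_b_rc_8_2 lc_b_Cert_tree lc_b_Cert_tree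 lc_b_rc_1_1 lc_b_rc_7_2 lc_b_rc_8_2 lc_b_rc_9_2 lc_b_rc_9_2 lc_b_Cert_tree lc_b_rc_1_3 lc_b_rc_8_2 lc_b_rc_9_2) (@D3.rec (fun _ => (Cert rels S Gen.b)) lc_b_rc_9_2 lc_b_rc_8_2 lc_b_rc_6_1 lc_b_rc_8_2 lc_b_Cert_tree lc_b_rc_9_2 lc_b_rc_6_1 lc_b_rc_9_2 lc_b_rc_6_1 lc_b_rc_9_2 lc_b_rc_6_1 lc_b_rc_9_2 lc_b_rc_7_0 lc_b_Cert_tree lc_b_rc_10_2 lc_b_rc_9_2 lc_b_rc_8_2 lc_b_Cert_tree lc_b_rc_8_2 lc_b_rc_8_2 lc_b_Cert_tree lc_b_rc_26_5 lc_b_rc_8_2 lc_b_rc_8_2 lc_b_rc_26_5 lc_b_Cert_tree lc_b_rc_26_5 lc_b_rc_8_2 lc_b_rc_9_2 lc_b_rc_6_1 lc_b_rc_8_2 lc_b_rc_9_2 lc_b_rc_26_5 lc_b_Cert_tree lc_b_rc_9_2 lc_b_rc_8_2 lc_b_rc_9_2 lc_b_rc_6_1 lc_b_rc_8_2 lc_b_rc_9_2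 lc_b_Cert_tree lc_b_rc_9_2 lc_b_rc_26_7 lc_b_rc_6_1 lc_b_Cert_tree lc_b_rc_9_2 lc_b_rc_6_1 lc_b_Cert_tree lc_b_rc_9_2 lc_b_Cert_tree lc_b_Cert_tree lc_b_rc_6_1 lc_b_rc_8_2 lc_b_rc_10_2 lc_b_rc_9_2 lc_b_rc_6_1 lc_b_rc_9_2 lc_b_Cert_tree lc_b_rc_6_1 lc_b_rc_10_2 lc_b_rc_6_1 lc_b_rc_9_2) (@D3.rec (fun _ => (Cert rels S Gen.b)) lc_b_rc_9_2 lc_b_Cert_tree lc_b_rc_10_2 lc_b_Cert_tree lc_b_Cert_tree lc_b_rc_10_2 lc_b_rc_8_2 lc_b_rc_10_2 lc_b_rc_9_2 lc_b_rc_9_2 lc_b_Cert_tree lc_b_rc_8_2 lc_b_Cert_tree lc_b_rc_9_0 lc_b_rc_1_1 lc_b_rc_8_2 lc_b_rc_8_2 lc_b_rc_26_7 lc_b_Cert_tree lc_b_rc_6_1 lc_b_rc_8_2 lc_b_rc_8_2 lc_b_rc_8_2 lc_b_rc_26_7 lc_b_rc_6_1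 lc_b_rc_8_2 lc_b_rc_9_2 lc_b_rc_6_1 lc_b_Cert_tree lc_b_Cert_tree lc_b_rc_10_2 lc_b_rc_6_1 lc_b_Cert_tree lc_b_rc_9_2 lc_b_rc_8_2 lc_b_rc_9_2 lc_b_Cert_tree lc_b_rc_9_2 lc_b_rc_8_2 lc_b_Cert_tree lc_b_rc_9_2 lc_b_rc_6_1 lc_b_Cert_tree lc_b_rc_9_2 lc_b_Cert_tree lc_b_Cert_tree lc_b_rc_6_1 lc_b_rc_8_2 lc_b_rc_10_2 lc_b_rc_9_2 lc_b_rc_7_4 lc_b_rc_9_2 lc_b_Cert_tree lc_b_rc_26_5 lc_b_rc_10_2 lc_b_rc_6_1 lc_b_rc_9_2 lc_b_rc_8_2 lc_b_Cert_tree lc_b_rc_10_2 lc_b_Cert_tree lc_b_Cert_tree) (@D3.rec (fun _ => (Cert rels S Gen.b)) lc_b_rc_10_2 lc_b_rc_8_2 lc_b_rc_10_2 lc_b_rc_9_2 lc_b_rc_9_2 lc_b_Cert_tree lc_b_rc_8_2 lc_b_rc_9_2 lc_b_rc_8_2 lc_b_rc_9_2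 lc_b_rc_6_1 lc_b_rc_8_0 lc_b_Cert_tree lc_b_rc_10_2 lc_b_rc_8_2 lc_b_rc_9_2 lc_b_rc_6_1 lc_b_Cert_tree lc_b_rc_10_2 lc_b_Cert_tree lc_b_rc_9_2 lc_b_Cert_tree lc_b_rc_8_2 lc_b_rc_9_2 lc_b_Cert_tree lc_b_Cert_tree lc_b_rc_6_1 lc_b_rc_6_1 lc_b_rc_25_12 lc_b_rc_9_2 lc_b_rc_26_1 lc_b_rc_26_1 lc_b_Cert_tree lc_b_rc_10_2 lc_b_Cert_tree lc_b_rc_9_2 lc_b_rc_6_1 lc_b_rc_8_2 lc_b_rc_9_2 lc_b_Cert_tree lc_b_rc_9_2 lc_b_Cert_tree lc_b_Cert_tree lc_b_rc_6_1 lc_b_rc_8_2 lc_b_rc_10_2 lc_b_rc_9_2 lc_b_rc_8_2 lc_b_rc_6_1 lc_b_Cert_tree lc_b_rc_10_2 lc_b_rc_8_2 lc_b_rc_9_2 lc_b_rc_26_7 lc_b_Cert_tree lc_b_rc_9_2 lc_b_rc_8_2 lc_b_rc_8_2 lc_b_Cert_tree lc_b_rc_9_2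 lc_b_rc_6_1 lc_b_Cert_tree) (@D3.rec (fun _ => (Cert rels S Gen.b)) lc_b_rc_8_2 lc_b_rc_9_2 lc_b_rc_6_1 lc_b_Cert_tree lc_b_rc_9_2 lc_b_Cert_tree lc_b_Cert_tree lc_b_rc_6_1 lc_b_rc_8_2 lc_b_rc_10_2 lc_b_rc_9_2 lc_b_Cert_tree lc_b_Cert_tree lc_b_rc_9_0 lc_b_rc_8_2 lc_b_rc_9_2 lc_b_rc_7_2 lc_b_Cert_tree lc_b_rc_10_2 lc_b_rc_8_2 lc_b_rc_9_2 lc_b_rc_8_2 lc_b_rc_26_5 lc_b_Cert_tree lc_b_rc_9_2 lc_b_Cert_tree lc_b_rc_9_2 lc_b_rc_6_1 lc_b_Cert_tree lc_b_rc_9_2 lc_b_Cert_tree lc_b_rc_9_2 lc_b_Cert_tree lc_b_Cert_tree lc_b_rc_6_1 lc_b_rc_8_2 lc_b_rc_10_2 lc_b_rc_9_2 lc_b_rc_8_2 lc_b_rc_6_1 lc_b_rc_6_1 lc_b_Cert_tree lc_b_rc_9_2 lc_b_rc_9_0 lc_b_rc_8_2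 lc_b_rc_10_2 lc_b_rc_8_2 lc_b_rc_8_2 lc_b_rc_9_2 lc_b_rc_8_0 lc_b_rc_26_7 lc_b_Cert_tree lc_b_rc_9_2 lc_b_rc_26_5 lc_b_rc_6_1 lc_b_rc_10_2 lc_b_Cert_tree lc_b_rc_9_2 lc_b_Cert_tree lc_b_rc_9_2 lc_b_Cert_tree lc_b_Cert_tree) (@D3.rec (fun _ => (Cert rels S Gen.b)) lc_b_rc_6_1 lc_b_rc_8_2 lc_b_rc_9_2 lc_b_rc_26_7 lc_b_rc_8_0 lc_b_rc_8_2 lc_b_rc_10_2 lc_b_rc_8_2 lc_b_Cert_tree lc_b_rc_8_2 lc_b_rc_10_2 lc_b_rc_7_0 lc_b_rc_6_1 lc_b_rc_26_5 lc_b_Cert_tree lc_b_rc_9_2 lc_b_rc_6_1 lc_b_rc_8_2 lc_b_rc_10_2 lc_b_Cert_tree lc_b_rc_9_2 lc_b_rc_1_5 lc_b_rc_26_5 lc_b_rc_1_5 lc_b_rc_6_1 lc_b_rc_8_2 lc_b_rc_9_2 lc_b_rc_6_1 lc_b_rc_1_1 lc_b_rc_8_2 lc_b_rc_10_2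 lc_b_Cert_tree lc_b_rc_10_2 lc_b_Cert_tree lc_b_rc_8_2 lc_b_rc_9_2 lc_b_Cert_tree lc_b_Cert_tree lc_b_rc_6_1 lc_b_rc_8_2 lc_b_rc_9_2 lc_b_rc_1_5 lc_b_rc_26_7 lc_b_rc_9_2 lc_b_rc_8_2 lc_b_rc_9_2 lc_b_rc_8_2 lc_b_rc_10_2 lc_b_rc_9_2 lc_b_Cert_tree lc_b_rc_9_2 lc_b_rc_6_1 lc_b_rc_8_2 lc_b_rc_7_2 lc_b_rc_9_0 lc_b_rc_9_2 lc_b_rc_9_0 lc_b_rc_9_2 lc_b_rc_10_2 lc_b_rc_6_1 lc_b_Cert_tree lc_b_rc_8_2) (@D3.rec (fun _ => (Cert rels S Gen.b)) lc_b_rc_9_2 lc_b_rc_6_1 lc_b_rc_26_5 lc_b_rc_8_2 lc_b_rc_9_2 lc_b_Cert_tree lc_b_Cert_tree lc_b_rc_1_3 lc_b_rc_8_2 lc_b_rc_10_2 lc_b_Cert_tree lc_b_Cert_tree lc_b_Cert_tree lc_b_rc_9_2 lc_b_rc_10_2 lc_b_rc_9_2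 lc_b_Cert_tree lc_b_Cert_tree lc_b_rc_6_1 lc_b_rc_8_0 lc_b_Cert_tree lc_b_rc_9_2 lc_b_Cert_tree lc_b_rc_25_8 lc_b_rc_6_1 lc_b_rc_8_2 lc_b_rc_9_2 lc_b_rc_9_2 lc_b_rc_8_2 lc_b_rc_10_2 lc_b_rc_26_5 lc_b_Cert_tree lc_b_rc_9_2 lc_b_rc_6_1 lc_b_rc_8_2 lc_b_rc_9_2 lc_b_rc_10_2 lc_b_rc_10_2 lc_b_Cert_tree lc_b_rc_9_2 lc_b_rc_6_1 lc_b_rc_8_2 lc_b_rc_9_2 lc_b_Cert_tree lc_b_rc_26_5 lc_b_rc_10_2 lc_b_Cert_tree lc_b_rc_9_2 lc_b_rc_6_1 lc_b_rc_8_2 lc_b_rc_9_2 lc_b_rc_6_1 lc_b_rc_10_2 lc_b_rc_6_1 lc_b_rc_1_3 lc_b_rc_9_2 lc_b_rc_6_1 lc_b_rc_8_2 lc_b_Cert_tree lc_b_Cert_tree lc_b_rc_1_3 lc_b_rc_8_2) (@D3.rec (fun _ => (Cert rels S Gen.b)) lc_b_rc_10_2 lc_b_Cert_tree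 lc_b_rc_9_2 lc_b_rc_9_2 lc_b_rc_26_1 lc_b_Cert_tree lc_b_rc_9_2 lc_b_Cert_tree lc_b_rc_8_0 lc_b_rc_9_0 lc_b_rc_8_0 lc_b_Cert_tree lc_b_rc_9_2 lc_b_rc_6_1 lc_b_Cert_tree lc_b_rc_9_2 lc_b_Cert_tree lc_b_Cert_tree lc_b_rc_6_1 lc_b_rc_8_2 lc_b_rc_9_2 lc_b_Cert_tree lc_b_Cert_tree lc_b_rc_10_2 lc_b_rc_7_4 lc_b_rc_8_2 lc_b_rc_6_1 lc_b_Cert_tree lc_b_rc_26_1 lc_b_rc_9_2 lc_b_Cert_tree lc_b_rc_9_2 lc_b_rc_6_1 lc_b_rc_8_2 lc_b_rc_9_2 lc_b_Cert_tree lc_b_rc_6_1 lc_b_rc_10_2 lc_b_rc_6_1 lc_b_rc_8_2 lc_b_rc_9_2 lc_b_rc_6_1 lc_b_rc_8_2 lc_b_rc_9_2 lc_b_rc_6_1 lc_b_rc_8_2 lc_b_rc_9_2 lc_b_Cert_tree lc_b_Cert_tree lc_b_rc_1_3 lc_b_rc_8_2 lc_b_rc_9_2 lc_b_rc_6_1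 lc_b_rc_9_2 lc_b_rc_26_7 lc_b_Cert_tree lc_b_rc_9_2 lc_b_rc_8_2 lc_b_rc_9_2 lc_b_Cert_tree lc_b_rc_9_2 lc_b_rc_8_2) (@D3.rec (fun _ => (Cert rels S Gen.b)) lc_b_rc_26_5 lc_b_rc_6_1 lc_b_rc_8_2 lc_b_rc_26_7 lc_b_Cert_tree lc_b_Cert_tree lc_b_rc_9_2 lc_b_rc_26_7 lc_b_rc_9_2 lc_b_rc_26_5 lc_b_rc_26_5 lc_b_Cert_tree lc_b_rc_8_2 lc_b_rc_9_2 lc_b_Cert_tree lc_b_rc_9_2 lc_b_Cert_tree lc_b_Cert_tree lc_b_rc_6_1 lc_b_rc_8_2 lc_b_rc_9_2 lc_b_rc_9_2 lc_b_Cert_tree lc_b_rc_8_2 lc_b_rc_10_2 lc_b_rc_9_2 lc_b_Cert_tree lc_b_Cert_tree lc_b_Cert_tree lc_b_rc_1_3 lc_b_rc_8_2 lc_b_rc_9_2 lc_b_rc_9_2 lc_b_Cert_tree lc_b_Cert_tree lc_b_rc_8_2 lc_b_rc_10_2 lc_b_Cert_tree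 lc_b_rc_9_2 lc_b_rc_6_1 lc_b_Cert_tree lc_b_rc_26_5 lc_b_Cert_tree lc_b_Cert_tree lc_b_rc_10_2 lc_b_rc_6_1 lc_b_Cert_tree lc_b_rc_8_2 lc_b_rc_9_2 lc_b_Cert_tree lc_b_rc_6_1 lc_b_rc_8_2 lc_b_rc_9_2 lc_b_rc_26_7 lc_b_Cert_tree lc_b_Cert_tree lc_b_rc_8_2 lc_b_rc_10_2 lc_b_rc_6_1 lc_b_rc_9_2 lc_b_Cert_tree lc_b_Cert_tree) (@D3.rec (fun _ => (Cert rels S Gen.b)) lc_b_rc_1_3 lc_b_rc_8_2 lc_b_rc_9_2 lc_b_Cert_tree lc_b_Cert_tree lc_b_rc_9_2 lc_b_Cert_tree lc_b_Cert_tree lc_b_rc_8_2 lc_b_rc_10_2 lc_b_rc_6_1 lc_b_Cert_tree lc_b_rc_8_2 lc_b_Cert_tree lc_b_rc_9_2 lc_b_rc_8_2 lc_b_Cert_tree lc_b_Cert_tree lc_b_rc_9_2 lc_b_Cert_tree lc_b_Cert_tree lc_b_rc_6_1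 lc_b_rc_8_2 lc_b_rc_9_2 lc_b_rc_9_2 lc_b_Cert_tree lc_b_rc_10_2 lc_b_Cert_tree lc_b_Cert_tree lc_b_rc_8_2 lc_b_rc_8_2 lc_b_rc_9_2 lc_b_rc_9_2 lc_b_Cert_tree lc_b_Cert_tree lc_b_rc_10_2 lc_b_Cert_tree lc_b_rc_8_2 lc_b_rc_6_1 lc_b_Cert_tree lc_b_Cert_tree lc_b_rc_7_4 lc_b_rc_1_3 lc_b_rc_7_4 lc_b_rc_8_2 lc_b_rc_9_2 lc_b_Cert_tree lc_b_Cert_tree lc_b_rc_9_2 lc_b_rc_8_2 lc_b_rc_10_2 lc_b_Cert_tree lc_b_Cert_tree lc_b_rc_1_3 lc_b_rc_7_2 lc_b_rc_8_2 lc_b_rc_9_2 lc_b_rc_9_2 lc_b_rc_10_2 lc_b_rc_1_3 lc_b_Cert_tree lc_b_rc_6_1) (@D3.rec (fun _ => (Cert rels S Gen.b)) lc_b_Cert_tree lc_b_rc_8_2 lc_b_rc_9_2 lc_b_rc_10_2 lc_b_rc_6_1 lc_b_Cert_tree lc_b_rc_8_2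 lc_b_rc_9_2 lc_b_rc_8_2 lc_b_Cert_tree lc_b_Cert_tree lc_b_rc_7_4 lc_b_rc_9_2 lc_b_rc_9_2 lc_b_rc_6_1 lc_b_rc_6_1 lc_b_rc_9_2 lc_b_Cert_tree lc_b_Cert_tree lc_b_rc_10_2 lc_b_Cert_tree lc_b_Cert_tree lc_b_rc_8_2 lc_b_rc_6_1 lc_b_Cert_tree lc_b_rc_8_2 lc_b_rc_9_2 lc_b_rc_6_1 lc_b_Cert_tree lc_b_rc_8_2 lc_b_rc_9_2 lc_b_rc_8_2 lc_b_rc_8_2 lc_b_Cert_tree lc_b_rc_9_2 lc_b_Cert_tree lc_b_rc_8_0 lc_b_rc_8_0 lc_b_rc_10_2 lc_b_rc_6_1 lc_b_Cert_tree lc_b_rc_9_2 lc_b_rc_6_1 lc_b_Cert_tree lc_b_rc_9_2 lc_b_Cert_tree lc_b_Cert_tree lc_b_rc_6_1 lc_b_rc_8_2 lc_b_rc_9_2 lc_b_Cert_tree lc_b_Cert_tree lc_b_rc_8_2 lc_b_rc_10_2 lc_b_rc_6_1 lc_b_rc_8_2 lc_b_rc_8_2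 lc_b_rc_6_1 lc_b_rc_6_1 lc_b_rc_8_2 lc_b_rc_9_2 lc_b_rc_6_1) (@D3.rec (fun _ => (Cert rels S Gen.b)) lc_b_Cert_tree lc_b_rc_9_2 lc_b_rc_6_1 lc_b_rc_9_2 lc_b_Cert_tree lc_b_rc_26_5 lc_b_rc_10_2 lc_b_rc_10_0 lc_b_Cert_tree lc_b_rc_9_2 lc_b_rc_6_1 lc_b_rc_9_2 lc_b_Cert_tree lc_b_rc_10_2 lc_b_Cert_tree lc_b_Cert_tree lc_b_rc_1_3 lc_b_rc_9_2 lc_b_rc_6_1 lc_b_rc_9_2 lc_b_rc_6_1 lc_b_rc_9_2 lc_b_Cert_tree lc_b_Cert_tree lc_b_rc_10_2 lc_b_rc_10_0 lc_b_rc_9_2 lc_b_rc_8_2 lc_b_rc_6_1 lc_b_rc_8_2 lc_b_rc_6_1 lc_b_rc_7_4 lc_b_rc_1_3 lc_b_rc_8_2 lc_b_rc_9_2 lc_b_rc_8_2 lc_b_Cert_tree lc_b_rc_9_0 lc_b_rc_8_2 lc_b_rc_9_2 lc_b_Cert_tree lc_b_rc_26_1 lc_b_rc_1_3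 lc_b_rc_8_2 lc_b_rc_9_2 lc_b_rc_6_1 lc_b_Cert_tree lc_b_rc_1_3 lc_b_rc_7_2 lc_b_rc_8_2 lc_b_rc_9_2 lc_b_rc_6_1 lc_b_rc_26_1 lc_b_rc_8_2 lc_b_rc_9_2 lc_b_rc_6_1 lc_b_rc_26_5 lc_b_rc_8_2 lc_b_rc_8_2 lc_b_rc_1_3 lc_b_Cert_tree lc_b_Cert_tree) (@D3.rec (fun _ => (Cert rels S Gen.b)) lc_b_rc_6_1 lc_b_rc_9_2 lc_b_Cert_tree lc_b_Cert_tree lc_b_rc_8_2 lc_b_rc_10_2 lc_b_Cert_tree lc_b_rc_6_1 lc_b_rc_10_2 lc_b_rc_6_1 lc_b_rc_6_1 lc_b_rc_9_2 lc_b_Cert_tree lc_b_rc_10_2 lc_b_Cert_tree lc_b_rc_6_1 lc_b_rc_6_1 lc_b_rc_9_2 lc_b_rc_8_2 lc_b_rc_8_2 lc_b_rc_9_2 lc_b_rc_8_2 lc_b_rc_9_2 lc_b_rc_6_1 lc_b_Cert_tree lc_b_rc_9_2 lc_b_rc_6_1 lc_b_Cert_tree lc_b_rc_9_2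 lc_b_Cert_tree lc_b_Cert_tree lc_b_rc_6_1 lc_b_rc_9_2 lc_b_Cert_tree lc_b_Cert_tree lc_b_rc_8_2 lc_b_rc_10_2 lc_b_rc_6_1 lc_b_rc_6_1 lc_b_Cert_tree lc_b_Cert_tree lc_b_Cert_tree lc_b_rc_1_3 lc_b_rc_9_2 lc_b_rc_8_2 lc_b_rc_10_2 lc_b_rc_6_1 lc_b_Cert_tree lc_b_rc_9_2 lc_b_rc_6_1 lc_b_rc_9_2 lc_b_Cert_tree lc_b_Cert_tree lc_b_Cert_tree lc_b_rc_10_2 lc_b_rc_6_1 lc_b_rc_6_1 lc_b_rc_8_2 lc_b_rc_8_2 lc_b_Cert_tree lc_b_Cert_tree lc_b_rc_6_1) (@D3.rec (fun _ => (Cert rels S Gen.b)) lc_b_rc_9_2 lc_b_Cert_tree lc_b_rc_10_0 lc_b_rc_9_2 lc_b_rc_10_2 lc_b_rc_6_1 lc_b_rc_7_2 lc_b_rc_6_1 lc_b_rc_26_5 lc_b_rc_8_2 lc_b_Cert_tree lc_b_Cert_tree lc_b_rc_7_4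 lc_b_rc_9_2 lc_b_rc_6_1 lc_b_rc_9_2 lc_b_rc_6_1 lc_b_rc_9_2 lc_b_rc_9_0 lc_b_Cert_tree lc_b_rc_9_2 lc_b_rc_10_2 lc_b_rc_6_1 lc_b_rc_6_1 lc_b_Cert_tree lc_b_Cert_tree lc_b_rc_7_0 lc_b_rc_6_1 lc_b_rc_10_2 lc_b_rc_6_1 lc_b_rc_8_2 lc_b_rc_6_1 lc_b_rc_8_2 lc_b_rc_7_4 lc_b_rc_9_2 lc_b_rc_8_2 lc_b_Cert_tree lc_b_Cert_tree lc_b_rc_8_2 lc_b_rc_10_2 lc_b_rc_6_1 lc_b_rc_6_1 lc_b_rc_6_1 lc_b_rc_26_1 lc_b_rc_8_2 lc_b_rc_9_2 lc_b_rc_6_1 lc_b_rc_26_5 lc_b_rc_8_2 lc_b_Cert_tree lc_b_rc_8_2 lc_b_rc_7_4 lc_b_Cert_tree lc_b_rc_8_2 lc_b_rc_9_2 lc_b_rc_8_0 lc_b_Cert_tree lc_b_rc_7_4 lc_b_rc_9_2 lc_b_rc_7_4 lc_b_rc_8_2 lc_b_rc_10_2) (@D3.rec (fun _ => (Cert rels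 S Gen.b)) lc_b_rc_6_1 lc_b_rc_9_2 lc_b_rc_6_1 lc_b_rc_9_2 lc_b_Cert_tree lc_b_Cert_tree lc_b_rc_8_2 lc_b_rc_10_2 lc_b_Cert_tree lc_b_Cert_tree lc_b_rc_10_2 lc_b_rc_26_1 lc_b_rc_8_2 lc_b_rc_6_1 lc_b_rc_6_1 lc_b_rc_8_2 lc_b_rc_9_0 lc_b_rc_1_3 lc_b_rc_9_2 lc_b_Cert_tree lc_b_rc_6_1 lc_b_rc_8_2 lc_b_rc_9_2 lc_b_rc_8_0 lc_b_Cert_tree lc_b_rc_7_4 lc_b_rc_9_2 lc_b_rc_6_1 lc_b_rc_8_2 lc_b_Cert_tree lc_b_Cert_tree lc_b_rc_8_2 lc_b_rc_10_2 lc_b_Cert_tree lc_b_rc_8_2 lc_b_rc_1_3 lc_b_rc_10_2 lc_b_rc_6_1 lc_b_rc_8_2 lc_b_rc_8_2 lc_b_rc_6_1 lc_b_rc_7_4 lc_b_rc_6_1 lc_b_rc_8_2 lc_b_rc_6_1 lc_b_rc_8_2 lc_b_Cert_tree lc_b_rc_9_2 lc_b_rc_8_2 lc_b_rc_9_2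 lc_b_rc_26_1 lc_b_rc_1_3 lc_b_rc_8_2 lc_b_rc_9_2 lc_b_rc_10_0 lc_b_rc_9_2 lc_b_Cert_tree lc_b_rc_9_2 lc_b_rc_10_2 lc_b_rc_8_2 lc_b_rc_9_0 lc_b_Cert_tree) (@D3.rec (fun _ => (Cert rels S Gen.b)) lc_b_Cert_tree lc_b_Cert_tree lc_b_rc_9_2 lc_b_rc_6_1 lc_b_Cert_tree lc_b_rc_9_2 lc_b_rc_6_1 lc_b_Cert_tree lc_b_rc_26_1 lc_b_Cert_tree lc_b_Cert_tree lc_b_rc_6_1 lc_b_rc_8_2 lc_b_rc_9_2 lc_b_rc_6_1 lc_b_Cert_tree lc_b_Cert_tree lc_b_rc_10_2 lc_b_rc_9_2 lc_b_Cert_tree lc_b_rc_8_2 lc_b_rc_1_3 lc_b_rc_7_4 lc_b_rc_9_2 lc_b_Cert_tree lc_b_rc_10_2 lc_b_rc_8_2 lc_b_rc_10_2 lc_b_rc_1_3 lc_b_rc_6_1 lc_b_rc_9_2 lc_b_Cert_tree lc_b_rc_8_2 lc_b_rc_10_2 lc_b_rc_9_0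 lc_b_Cert_tree lc_b_rc_1_3 lc_b_rc_9_2 lc_b_Cert_tree lc_b_Cert_tree lc_b_rc_8_2 lc_b_rc_10_2 lc_b_rc_6_1 lc_b_Cert_tree lc_b_rc_8_2 lc_b_rc_9_2 lc_b_rc_6_1 lc_b_Cert_tree lc_b_rc_8_2 lc_b_rc_9_2 lc_b_rc_9_2 lc_b_Cert_tree lc_b_Cert_tree lc_b_rc_8_2 lc_b_Cert_tree lc_b_Cert_tree lc_b_rc_7_2 lc_b_rc_1_3 lc_b_rc_8_2 lc_b_rc_9_2 lc_b_rc_9_2 lc_b_rc_26_5) (@D3.rec (fun _ => (Cert rels S Gen.b)) lc_b_Cert_tree lc_b_rc_8_2 lc_b_rc_10_2 lc_b_rc_6_1 lc_b_Cert_tree lc_b_rc_8_2 lc_b_rc_26_7 lc_b_rc_9_2 lc_b_rc_26_5 lc_b_rc_8_2 lc_b_rc_10_2 lc_b_rc_26_7 lc_b_rc_6_1 lc_b_rc_8_2 lc_b_rc_8_2 lc_b_Cert_tree lc_b_rc_26_5 lc_b_rc_6_1 lc_b_rc_26_1 lc_b_rc_6_1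 lc_b_rc_26_5 lc_b_rc_26_5 lc_b_rc_1_3 lc_b_rc_9_2 lc_b_rc_7_4 lc_b_rc_9_2 lc_b_rc_6_1 lc_b_rc_8_0 lc_b_rc_8_2 lc_b_rc_8_2 lc_b_rc_10_2 lc_b_Cert_tree lc_b_rc_7_2 lc_b_rc_8_2 lc_b_rc_6_1 lc_b_rc_26_1 lc_b_rc_1_5 lc_b_rc_7_4 lc_b_rc_10_2 lc_b_rc_6_1 lc_b_Cert_tree lc_b_rc_8_2 lc_b_rc_6_1 lc_b_Cert_tree lc_b_rc_7_4 lc_b_rc_9_2 lc_b_Cert_tree lc_b_Cert_tree lc_b_rc_10_2 lc_b_rc_6_1 lc_b_rc_1_3 lc_b_rc_8_2 lc_b_rc_26_7 lc_b_rc_7_2 lc_b_rc_6_1 lc_b_rc_26_1 lc_b_rc_9_2 lc_b_rc_26_7 lc_b_rc_8_2 lc_b_rc_7_2 lc_b_rc_8_2 lc_b_rc_9_2) (@D3.rec (fun _ => (Cert rels S Gen.b)) lc_b_rc_26_1 lc_b_rc_9_2 lc_b_rc_26_5 lc_b_rc_9_2 lc_b_rc_8_2 lc_b_Cert_tree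 lc_b_rc_9_2 lc_b_Cert_tree lc_b_rc_1_1 lc_b_rc_6_1 lc_b_rc_9_2 lc_b_rc_6_1 lc_b_rc_26_5 lc_b_rc_9_2 lc_b_Cert_tree lc_b_rc_6_1 lc_b_rc_8_2 lc_b_rc_9_2 lc_b_Cert_tree lc_b_Cert_tree lc_b_rc_8_2 lc_b_rc_10_2 lc_b_rc_6_1 lc_b_rc_7_2 lc_b_rc_8_2 lc_b_Cert_tree lc_b_rc_7_2 lc_b_rc_6_1 lc_b_rc_8_2 lc_b_rc_6_1 lc_b_rc_8_2 lc_b_rc_9_2 lc_b_Cert_tree lc_b_Cert_tree lc_b_rc_10_2 lc_b_rc_9_0 lc_b_rc_1_3 lc_b_rc_8_2 lc_b_rc_1_1 lc_b_rc_10_2 lc_b_rc_1_3 lc_b_rc_9_2 lc_b_rc_8_2 lc_b_rc_9_2 lc_b_rc_9_2 lc_b_rc_8_2 lc_b_rc_6_1 lc_b_Cert_tree lc_b_rc_9_2 lc_b_rc_6_1 lc_b_Cert_tree lc_b_rc_9_2 lc_b_Cert_tree lc_b_Cert_tree lc_b_rc_8_0 lc_b_rc_9_2 lc_b_rc_6_1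 lc_b_rc_8_2 lc_b_rc_26_5 lc_b_rc_8_2 lc_b_Cert_tree lc_b_Cert_tree) (@D3.rec (fun _ => (Cert rels S Gen.b)) lc_b_rc_1_3 lc_b_rc_8_2 lc_b_rc_9_2 lc_b_Cert_tree lc_b_rc_9_2 lc_b_rc_8_2 lc_b_rc_8_0 lc_b_rc_1_3 lc_b_rc_8_2 lc_b_Cert_tree lc_b_rc_9_2 lc_b_rc_6_1 lc_b_rc_8_2 lc_b_Cert_tree lc_b_rc_9_2 lc_b_rc_6_1 lc_b_Cert_tree lc_b_rc_9_2 lc_b_rc_6_1 lc_b_Cert_tree lc_b_Cert_tree lc_b_rc_9_2 lc_b_Cert_tree lc_b_Cert_tree lc_b_rc_10_2 lc_b_rc_6_1 lc_b_rc_8_2 lc_b_rc_9_2 lc_b_rc_6_1 lc_b_rc_8_2 lc_b_rc_9_2 lc_b_rc_8_2 lc_b_Cert_tree lc_b_rc_8_2 lc_b_Cert_tree lc_b_rc_9_2 lc_b_rc_9_2 lc_b_rc_10_2 lc_b_Cert_tree lc_b_rc_9_2 lc_b_rc_7_0 lc_b_rc_9_2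 lc_b_rc_6_1 lc_b_rc_26_1 lc_b_rc_26_1 lc_b_rc_8_2 lc_b_rc_7_2 lc_b_rc_8_2 lc_b_Cert_tree lc_b_rc_1_3 lc_b_rc_6_1 lc_b_rc_26_5 lc_b_rc_9_2 lc_b_rc_6_1 lc_b_Cert_tree lc_b_rc_9_2 lc_b_Cert_tree lc_b_rc_6_1 lc_b_rc_8_2 lc_b_Cert_tree lc_b_Cert_tree lc_b_rc_10_2) (@D3.rec (fun _ => (Cert rels S Gen.b)) lc_b_rc_7_4 lc_b_rc_9_2 lc_b_rc_7_4 lc_b_rc_7_2 lc_b_rc_10_2 lc_b_rc_1_3 lc_b_rc_7_4 lc_b_rc_9_2 lc_b_rc_8_2 lc_b_rc_10_2 lc_b_rc_6_1 lc_b_rc_8_2 lc_b_rc_9_2 lc_b_rc_6_1 lc_b_rc_26_1 lc_b_rc_9_2 lc_b_rc_8_0 lc_b_rc_8_2 lc_b_Cert_tree lc_b_rc_9_2 lc_b_rc_6_1 lc_b_Cert_tree lc_b_rc_9_2 lc_b_rc_6_1 lc_b_Cert_tree lc_b_rc_9_2 lc_b_Cert_tree lc_b_Cert_tree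 lc_b_rc_8_2 lc_b_rc_9_2 lc_b_Cert_tree lc_b_Cert_tree lc_b_rc_8_2 lc_b_rc_10_2 lc_b_Cert_tree lc_b_Cert_tree lc_b_rc_7_4 lc_b_rc_6_1 lc_b_rc_9_2 lc_b_rc_6_1 lc_b_rc_9_2 lc_b_Cert_tree lc_b_Cert_tree lc_b_rc_10_2 lc_b_rc_9_0 lc_b_rc_1_3 lc_b_rc_7_2 lc_b_rc_8_2 lc_b_rc_8_2 lc_b_rc_9_2 lc_b_rc_6_1 lc_b_rc_9_2 lc_b_rc_6_1 lc_b_rc_9_2 lc_b_rc_26_5 lc_b_rc_1_1 lc_b_rc_8_2 lc_b_Cert_tree lc_b_rc_6_1 lc_b_rc_6_1 lc_b_rc_8_2 lc_b_rc_8_2) (@D3.rec (fun _ => (Cert rels S Gen.b)) lc_b_Cert_tree lc_b_rc_9_2 lc_b_rc_8_2 lc_b_rc_9_2 lc_b_rc_7_2 lc_b_rc_8_2 lc_b_rc_9_2 lc_b_rc_25_8 lc_b_rc_9_2 lc_b_rc_26_5 lc_b_rc_8_2 lc_b_rc_7_2 lc_b_rc_8_2 lc_b_rc_26_5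 lc_b_Cert_tree lc_b_rc_9_2 lc_b_rc_6_1 lc_b_rc_8_2 lc_b_rc_9_2 lc_b_rc_1_5 lc_b_rc_26_1 lc_b_rc_6_1 lc_b_rc_1_3 lc_b_rc_1_3 lc_b_rc_26_1 lc_b_rc_8_2 lc_b_rc_9_2 lc_b_rc_6_1 lc_b_rc_6_1 lc_b_rc_6_1 lc_b_rc_26_5 lc_b_rc_6_1 lc_b_rc_9_2 lc_b_Cert_tree lc_b_rc_6_1 lc_b_rc_8_2 lc_b_rc_10_2 lc_b_rc_8_0 lc_b_rc_9_2 lc_b_rc_6_1 lc_b_Cert_tree lc_b_rc_9_2 lc_b_Cert_tree lc_b_Cert_tree lc_b_rc_25_4 lc_b_rc_6_1 lc_b_rc_26_1 lc_b_rc_8_2 lc_b_rc_26_5 lc_b_rc_6_1 lc_b_Cert_tree lc_b_rc_8_2 lc_b_Cert_tree lc_b_rc_8_0 lc_b_Cert_tree lc_b_rc_10_2 lc_b_rc_6_1 lc_b_rc_8_2 lc_b_rc_9_2 lc_b_rc_6_1 lc_b_rc_7_0 lc_b_rc_9_2) (@D3.rec (fun _ => (Cert rels S Gen.b))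 lc_b_Cert_tree lc_b_rc_7_0 lc_b_Cert_tree lc_b_rc_6_1 lc_b_rc_9_2 lc_b_rc_7_2 lc_b_rc_8_2 lc_b_rc_25_12 lc_b_rc_9_2 lc_b_rc_8_2 lc_b_rc_8_2 lc_b_rc_9_2 lc_b_Cert_tree lc_b_rc_9_2 lc_b_rc_8_2 lc_b_rc_1_3 lc_b_rc_9_2 lc_b_Cert_tree lc_b_rc_9_2 lc_b_rc_8_2 lc_b_rc_6_1 lc_b_rc_26_7 lc_b_rc_8_2 lc_b_rc_6_1 lc_b_rc_8_2 lc_b_rc_7_2 lc_b_Cert_tree lc_b_Cert_tree lc_b_Cert_tree lc_b_rc_9_2 lc_b_rc_6_1 lc_b_rc_9_0 lc_b_rc_8_2 lc_b_rc_10_2 lc_b_rc_8_0 lc_b_rc_9_2 lc_b_rc_6_1 lc_b_Cert_tree lc_b_rc_9_2 lc_b_Cert_tree lc_b_rc_6_1 lc_b_rc_8_2 lc_b_rc_9_2 lc_b_Cert_tree lc_b_Cert_tree lc_b_rc_8_2 lc_b_rc_10_2 lc_b_Cert_tree lc_b_rc_8_2 lc_b_rc_6_1 lc_b_Cert_tree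 lc_b_rc_7_4 lc_b_rc_10_2 lc_b_rc_6_1 lc_b_rc_9_2 lc_b_rc_6_1 lc_b_rc_8_2 lc_b_rc_9_2 lc_b_Cert_tree lc_b_Cert_tree lc_b_rc_10_2 lc_b_rc_6_1) (@D3.rec (fun _ => (Cert rels S Gen.b)) lc_b_rc_9_2 lc_b_rc_8_2 lc_b_rc_8_2 lc_b_rc_9_2 lc_b_Cert_tree lc_b_rc_9_2 lc_b_rc_8_2 lc_b_rc_25_8 lc_b_rc_25_12 lc_b_Cert_tree lc_b_rc_9_2 lc_b_rc_6_1 lc_b_rc_8_2 lc_b_rc_10_2 lc_b_rc_8_2 lc_b_rc_7_2 lc_b_rc_8_2 lc_b_rc_8_2 lc_b_rc_9_2 lc_b_rc_6_1 lc_b_Cert_tree lc_b_rc_9_2 lc_b_rc_10_2 lc_b_rc_26_7 lc_b_rc_8_2 lc_b_rc_7_4 lc_b_Cert_tree lc_b_rc_9_2 lc_b_Cert_tree lc_b_rc_8_2 lc_b_rc_6_1 lc_b_rc_8_2 lc_b_rc_9_2 lc_b_rc_10_2 lc_b_rc_9_2 lc_b_rc_8_2 lc_b_rc_10_2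 lc_b_rc_9_2 lc_b_rc_8_2 lc_b_rc_1_1 lc_b_rc_9_0 lc_b_rc_10_2 lc_b_rc_8_2 lc_b_rc_8_2 lc_b_rc_10_0 lc_b_rc_1_1 lc_b_Cert_tree lc_b_rc_9_2 lc_b_rc_10_2 lc_b_rc_8_2 lc_b_rc_10_2 lc_b_Cert_tree lc_b_rc_9_2 lc_b_rc_8_2 lc_b_rc_6_1 lc_b_rc_8_2 lc_b_rc_9_2 lc_b_rc_6_1 lc_b_rc_8_2 lc_b_rc_10_2 lc_b_rc_10_2 lc_b_rc_8_2) (@D3.rec (fun _ => (Cert rels S Gen.b)) lc_b_Cert_tree lc_b_rc_10_2 lc_b_rc_6_1 lc_b_rc_8_2 lc_b_rc_9_2 lc_b_Cert_tree lc_b_Cert_tree lc_b_rc_10_2 lc_b_rc_1_3 lc_b_Cert_tree lc_b_rc_9_2 lc_b_Cert_tree lc_b_rc_7_0 lc_b_rc_6_1 lc_b_rc_8_2 lc_b_rc_9_2 lc_b_rc_6_1 lc_b_rc_6_1 lc_b_rc_8_2 lc_b_rc_10_2 lc_b_rc_8_2 lc_b_Cert_tree lc_b_rc_9_2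 lc_b_rc_6_1 lc_b_rc_8_2 lc_b_rc_9_2 lc_b_rc_6_1 lc_b_rc_1_5 lc_b_rc_9_2 lc_b_rc_10_2 lc_b_rc_6_1 lc_b_rc_26_1 lc_b_rc_8_2 lc_b_rc_26_5 lc_b_rc_6_1 lc_b_rc_26_7 lc_b_rc_8_2 lc_b_rc_9_2 lc_b_rc_8_0 lc_b_rc_6_1 lc_b_Cert_tree lc_b_rc_9_2 lc_b_rc_10_0 lc_b_Cert_tree lc_b_rc_8_2 lc_b_rc_10_2 lc_b_rc_6_1 lc_b_Cert_tree lc_b_rc_8_2 lc_b_rc_9_2 lc_b_rc_6_1 lc_b_Cert_tree lc_b_rc_8_2 lc_b_rc_9_2 lc_b_rc_8_2 lc_b_rc_8_2 lc_b_rc_8_2 lc_b_Cert_tree lc_b_Cert_tree lc_b_Cert_tree lc_b_rc_9_2 lc_b_Cert_tree) (@D3.rec (fun _ => (Cert rels S Gen.b)) lc_b_Cert_tree lc_b_rc_8_2 lc_b_Cert_tree lc_b_Cert_tree lc_b_rc_8_2 lc_b_rc_10_2 lc_b_rc_6_1 lc_b_rc_8_2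 lc_b_rc_8_2 lc_b_rc_9_2 lc_b_Cert_tree lc_b_rc_10_2 lc_b_Cert_tree lc_b_rc_9_2 lc_b_Cert_tree lc_b_rc_25_0 lc_b_rc_8_2 lc_b_rc_9_2 lc_b_rc_6_1 lc_b_rc_1_1 lc_b_rc_10_2 lc_b_rc_8_2 lc_b_rc_9_2 lc_b_rc_6_1 lc_b_rc_8_2 lc_b_rc_9_2 lc_b_rc_26_7 lc_b_rc_26_5 lc_b_Cert_tree lc_b_rc_9_2 lc_b_rc_26_5 lc_b_rc_1_3 lc_b_rc_8_2 lc_b_rc_9_2 lc_b_rc_26_7 lc_b_Cert_tree lc_b_rc_6_1 lc_b_Cert_tree lc_b_rc_9_2 lc_b_rc_6_1 lc_b_rc_8_2 lc_b_rc_6_1 lc_b_rc_1_3 lc_b_rc_7_2 lc_b_rc_8_2 lc_b_rc_9_2 lc_b_rc_8_2 lc_b_Cert_tree lc_b_rc_9_2 lc_b_rc_8_2 lc_b_rc_6_1 lc_b_rc_8_2 lc_b_rc_6_1 lc_b_rc_10_2 lc_b_Cert_tree lc_b_rc_9_2 lc_b_Cert_tree lc_b_rc_8_0 lc_b_rc_6_1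 lc_b_Cert_tree lc_b_rc_9_2 lc_b_rc_6_1) (@D3.rec (fun _ => (Cert rels S Gen.b)) lc_b_Cert_tree lc_b_rc_9_2 lc_b_Cert_tree lc_b_Cert_tree lc_b_rc_6_1 lc_b_rc_8_2 lc_b_rc_8_2 lc_b_Cert_tree lc_b_rc_9_2 lc_b_rc_6_1 lc_b_rc_26_5 lc_b_Cert_tree lc_b_rc_6_1 lc_b_rc_8_2 lc_b_rc_10_2 lc_b_rc_6_1 lc_b_rc_26_7 lc_b_rc_9_2 lc_b_rc_6_1 lc_b_rc_26_5 lc_b_rc_8_2 lc_b_Cert_tree lc_b_Cert_tree lc_b_rc_8_2 lc_b_rc_8_2 lc_b_rc_26_5 lc_b_Cert_tree lc_b_rc_1_3 lc_b_rc_8_2 lc_b_rc_8_2 lc_b_rc_9_2 lc_b_Cert_tree lc_b_rc_9_2 lc_b_rc_8_2 lc_b_rc_9_2 lc_b_rc_8_2 lc_b_rc_6_1 lc_b_Cert_tree lc_b_rc_9_2 lc_b_rc_6_1 lc_b_rc_25_12 lc_b_rc_9_2 lc_b_rc_6_1 lc_b_Cert_tree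 lc_b_rc_9_2 lc_b_Cert_tree lc_b_Cert_tree lc_b_rc_6_1 lc_b_rc_8_2 lc_b_rc_10_2 lc_b_rc_9_2 lc_b_Cert_tree lc_b_rc_9_2 lc_b_Cert_tree lc_b_rc_6_1 lc_b_rc_8_2 lc_b_Cert_tree lc_b_rc_6_1 lc_b_rc_10_2 lc_b_rc_8_2 lc_b_rc_9_2 lc_b_rc_26_5) (@D3.rec (fun _ => (Cert rels S Gen.b)) lc_b_Cert_tree lc_b_rc_9_2 lc_b_rc_6_1 lc_b_rc_7_4 lc_b_rc_9_2 lc_b_rc_8_0 lc_b_rc_10_2 lc_b_Cert_tree lc_b_rc_9_2 lc_b_rc_6_1 lc_b_rc_8_2 lc_b_rc_9_2 lc_b_Cert_tree lc_b_rc_6_1 lc_b_rc_10_2 lc_b_Cert_tree lc_b_rc_9_2 lc_b_rc_6_1 lc_b_rc_8_2 lc_b_rc_8_2 lc_b_Cert_tree lc_b_rc_10_2 lc_b_rc_6_1 lc_b_rc_8_2 lc_b_rc_9_2 lc_b_rc_6_1 lc_b_rc_9_0 lc_b_rc_7_4 lc_b_rc_10_2 lc_b_rc_1_3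 lc_b_rc_8_2 lc_b_rc_10_2 lc_b_rc_10_0 lc_b_Cert_tree lc_b_rc_9_2 lc_b_rc_9_2 lc_b_Cert_tree lc_b_rc_9_2 lc_b_rc_6_1 lc_b_rc_9_2 lc_b_Cert_tree lc_b_Cert_tree lc_b_rc_10_2 lc_b_rc_6_1 lc_b_rc_8_0 lc_b_rc_26_5 lc_b_Cert_tree lc_b_rc_9_2 lc_b_rc_6_1 lc_b_rc_9_2 lc_b_Cert_tree lc_b_rc_10_2 lc_b_rc_9_2 lc_b_Cert_tree lc_b_rc_8_2 lc_b_rc_9_2 lc_b_rc_8_2 lc_b_rc_7_4 lc_b_rc_1_1 lc_b_rc_7_2 lc_b_rc_8_2 lc_b_rc_9_2)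
def ce_b_3 : D2 → D3 → (Cert rels S Gen.b) := @D2.rec (fun _ => D3 → (Cert rels S Gen.b)) (@D3.rec (fun _ => (Cert rels S Gen.b)) lc_b_rc_9_2 lc_b_rc_8_2 lc_b_rc_9_2 lc_b_rc_9_2 lc_b_rc_8_2 lc_b_rc_10_2 lc_b_rc_6_1 lc_b_rc_8_2 lc_b_rc_9_2 lc_b_rc_26_5 lc_b_rc_6_1 lc_b_rc_8_2 lc_b_rc_9_2 lc_b_rc_1_1 lc_b_Cert_tree lc_b_Cert_tree lc_b_rc_9_2 lc_b_rc_10_2 lc_b_rc_9_2 lc_b_rc_6_1 lc_b_rc_10_2 lc_b_rc_6_1 lc_b_rc_9_2 lc_b_rc_6_1 lc_b_rc_9_2 lc_b_Cert_tree lc_b_Cert_tree lc_b_rc_10_2 lc_b_rc_9_2 lc_b_rc_9_2 lc_b_rc_9_2 lc_b_rc_9_2 lc_b_rc_6_1 lc_b_rc_1_5 lc_b_rc_8_2 lc_b_rc_8_2 lc_b_rc_9_2 lc_b_Cert_tree lc_b_rc_8_2 lc_b_rc_9_2 lc_b_Cert_tree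 lc_b_Cert_tree lc_b_rc_10_2 lc_b_rc_6_1 lc_b_rc_6_1 lc_b_rc_8_2 lc_b_rc_6_1 lc_b_rc_8_2 lc_b_rc_9_2 lc_b_rc_6_1 lc_b_rc_8_2 lc_b_rc_9_2 lc_b_rc_6_1 lc_b_rc_8_2 lc_b_rc_9_2 lc_b_rc_6_1 lc_b_rc_26_5 lc_b_Cert_tree lc_b_rc_1_5 lc_b_rc_9_2 lc_b_rc_8_2 lc_b_rc_10_2) (@D3.rec (fun _ => (Cert rels S Gen.b)) lc_b_rc_9_2 lc_b_rc_26_7 lc_b_rc_8_2 lc_b_rc_6_1 lc_b_rc_10_2 lc_b_rc_1_3 lc_b_rc_6_1 lc_b_rc_26_1 lc_b_rc_6_1 lc_b_rc_8_2 lc_b_Cert_tree lc_b_rc_6_1 lc_b_rc_26_1 lc_b_rc_9_2 lc_b_rc_8_2 lc_b_rc_8_2 lc_b_rc_7_4 lc_b_rc_8_2 lc_b_rc_8_0 lc_b_Cert_tree lc_b_Cert_tree lc_b_rc_6_1 lc_b_Cert_tree lc_b_rc_9_2 lc_b_rc_8_2 lc_b_rc_9_2 lc_b_rc_10_2 lc_b_rc_9_2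 lc_b_rc_26_5 lc_b_rc_7_0 lc_b_rc_8_2 lc_b_rc_10_2 lc_b_rc_9_2 lc_b_rc_8_2 lc_b_rc_10_2 lc_b_rc_8_2 lc_b_Cert_tree lc_b_rc_10_2 lc_b_rc_9_2 lc_b_rc_7_2 lc_b_rc_8_2 lc_b_Cert_tree lc_b_rc_6_1 lc_b_rc_8_2 lc_b_rc_9_2 lc_b_Cert_tree lc_b_Cert_tree lc_b_rc_10_2 lc_b_Cert_tree lc_b_rc_6_1 lc_b_rc_26_7 lc_b_rc_1_3 lc_b_Cert_tree lc_b_rc_9_2 lc_b_rc_6_1 lc_b_rc_8_2 lc_b_rc_9_2 lc_b_rc_8_2 lc_b_rc_10_2 lc_b_rc_6_1 lc_b_rc_8_2 lc_b_rc_9_2) (@D3.rec (fun _ => (Cert rels S Gen.b)) lc_b_rc_6_1 lc_b_rc_6_1 lc_b_rc_9_2 lc_b_Cert_tree lc_b_Cert_tree lc_b_rc_1_3 lc_b_rc_8_2 lc_b_rc_9_2 lc_b_rc_9_2 lc_b_rc_8_2 lc_b_Cert_tree lc_b_rc_7_4 lc_b_rc_8_2 lc_b_rc_10_2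 lc_b_rc_9_2 lc_b_rc_6_1 lc_b_rc_7_2 lc_b_rc_9_2 lc_b_rc_6_1 lc_b_Cert_tree lc_b_rc_6_1 lc_b_rc_9_2 lc_b_rc_9_2 lc_b_rc_26_1 lc_b_Cert_tree lc_b_rc_8_2 lc_b_rc_6_1 lc_b_rc_8_2 lc_b_Cert_tree lc_b_rc_9_2 lc_b_rc_6_1 lc_b_Cert_tree lc_b_rc_8_2 lc_b_rc_10_2 lc_b_rc_6_1 lc_b_rc_8_2 lc_b_rc_6_1 lc_b_rc_8_2 lc_b_rc_7_0 lc_b_Cert_tree lc_b_Cert_tree lc_b_Cert_tree lc_b_rc_10_2 lc_b_rc_10_2 lc_b_rc_8_0 lc_b_Cert_tree lc_b_rc_8_2 lc_b_rc_9_2 lc_b_rc_6_1 lc_b_rc_8_2 lc_b_rc_9_2 lc_b_rc_26_7 lc_b_rc_7_4 lc_b_rc_9_2 lc_b_rc_10_2 lc_b_rc_10_2 lc_b_rc_6_1 lc_b_rc_1_1 lc_b_Cert_tree lc_b_rc_9_2 lc_b_rc_6_1 lc_b_rc_8_2) (@D3.rec (fun _ => (Cert rels S Gen.b))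 lc_b_rc_9_2 lc_b_Cert_tree lc_b_rc_8_2 lc_b_rc_8_2 lc_b_rc_1_3 lc_b_rc_8_2 lc_b_rc_6_1 lc_b_rc_8_2 lc_b_rc_6_1 lc_b_rc_8_2 lc_b_rc_9_2 lc_b_Cert_tree lc_b_Cert_tree lc_b_Cert_tree lc_b_rc_6_1 lc_b_rc_6_1 lc_b_rc_10_0 lc_b_rc_9_2 lc_b_Cert_tree lc_b_rc_7_4 lc_b_rc_8_2 lc_b_rc_26_7 lc_b_Cert_tree lc_b_rc_7_4 lc_b_rc_9_2 lc_b_rc_6_1 lc_b_rc_26_5 lc_b_rc_9_2 lc_b_rc_6_1 lc_b_Cert_tree lc_b_rc_8_2 lc_b_rc_10_2 lc_b_Cert_tree lc_b_rc_10_2 lc_b_rc_8_2 lc_b_rc_1_5 lc_b_rc_1_3 lc_b_rc_8_2 lc_b_rc_9_2 lc_b_rc_8_2 lc_b_rc_7_4 lc_b_rc_8_2 lc_b_Cert_tree lc_b_Cert_tree lc_b_rc_1_3 lc_b_rc_8_2 lc_b_rc_8_0 lc_b_rc_25_16 lc_b_rc_9_2 lc_b_rc_8_2 lc_b_rc_9_2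 lc_b_rc_8_2 lc_b_rc_9_2 lc_b_Cert_tree lc_b_rc_8_2 lc_b_rc_9_2 lc_b_rc_6_1 lc_b_rc_6_1 lc_b_rc_26_1 lc_b_rc_6_1 lc_b_rc_8_2 lc_b_rc_9_2) (@D3.rec (fun _ => (Cert rels S Gen.b)) lc_b_rc_1_3 lc_b_rc_1_3 lc_b_rc_8_2 lc_b_rc_9_2 lc_b_rc_9_2 lc_b_rc_8_2 lc_b_rc_10_2 lc_b_Cert_tree lc_b_rc_8_2 lc_b_rc_9_2 lc_b_rc_8_2 lc_b_rc_9_2 lc_b_rc_8_2 lc_b_rc_1_3 lc_b_rc_6_1 lc_b_rc_9_2 lc_b_Cert_tree lc_b_rc_7_0 lc_b_rc_8_2 lc_b_rc_10_2 lc_b_Cert_tree lc_b_Cert_tree lc_b_rc_8_2 lc_b_rc_10_2 lc_b_rc_7_0 lc_b_rc_9_2 lc_b_rc_6_1 lc_b_rc_8_2 lc_b_rc_9_2 lc_b_rc_26_5 lc_b_Cert_tree lc_b_rc_26_1 lc_b_rc_7_0 lc_b_rc_26_5 lc_b_rc_9_2 lc_b_rc_6_1 lc_b_rc_8_2 lc_b_rc_9_2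 lc_b_rc_8_2 lc_b_Cert_tree lc_b_rc_8_2 lc_b_rc_6_1 lc_b_rc_6_1 lc_b_rc_6_1 lc_b_rc_26_5 lc_b_rc_9_2 lc_b_rc_9_2 lc_b_rc_6_1 lc_b_Cert_tree lc_b_rc_8_2 lc_b_rc_10_2 lc_b_Cert_tree lc_b_rc_8_2 lc_b_rc_9_2 lc_b_rc_7_0 lc_b_rc_8_2 lc_b_rc_6_1 lc_b_rc_8_2 lc_b_rc_9_2 lc_b_rc_25_4 lc_b_rc_9_2 lc_b_rc_26_1) (@D3.rec (fun _ => (Cert rels S Gen.b)) lc_b_rc_8_2 lc_b_rc_6_1 lc_b_rc_7_2 lc_b_rc_8_2 lc_b_rc_9_2 lc_b_rc_8_2 lc_b_rc_9_2 lc_b_rc_26_5 lc_b_rc_9_2 lc_b_rc_26_5 lc_b_rc_6_1 lc_b_rc_10_2 lc_b_rc_7_0 lc_b_rc_7_4 lc_b_rc_8_2 lc_b_rc_9_0 lc_b_rc_6_1 lc_b_rc_26_1 lc_b_rc_8_2 lc_b_rc_9_2 lc_b_rc_26_5 lc_b_rc_8_2 lc_b_rc_9_2 lc_b_Cert_tree lc_b_rc_26_7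 lc_b_Cert_tree lc_b_rc_10_2 lc_b_rc_6_1 lc_b_rc_9_2 lc_b_rc_6_1 lc_b_rc_9_2 lc_b_Cert_tree lc_b_rc_6_1 lc_b_rc_8_2 lc_b_rc_10_2 lc_b_rc_9_2 lc_b_rc_25_16 lc_b_rc_9_2 lc_b_rc_26_5 lc_b_rc_1_3 lc_b_rc_8_2 lc_b_rc_9_2 lc_b_rc_9_0 lc_b_rc_1_3 lc_b_rc_8_2 lc_b_rc_9_2 lc_b_Cert_tree lc_b_rc_9_2 lc_b_rc_26_5 lc_b_rc_9_2 lc_b_rc_26_1 lc_b_rc_9_2 lc_b_rc_8_2 lc_b_Cert_tree lc_b_rc_1_3 lc_b_rc_8_2 lc_b_rc_8_2 lc_b_rc_9_2 lc_b_Cert_tree lc_b_rc_1_3 lc_b_rc_8_2 lc_b_rc_10_2) (@D3.rec (fun _ => (Cert rels S Gen.b)) lc_b_rc_26_7 lc_b_rc_8_2 lc_b_rc_8_0 lc_b_Cert_tree lc_b_rc_6_1 lc_b_rc_8_2 lc_b_rc_6_1 lc_b_rc_8_2 lc_b_rc_9_2 lc_b_rc_8_0 lc_b_Cert_tree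 lc_b_Cert_tree lc_b_rc_6_1 lc_b_rc_6_1 lc_b_rc_8_2 lc_b_rc_9_2 lc_b_rc_7_4 lc_b_rc_9_2 lc_b_rc_8_2 lc_b_rc_9_2 lc_b_Cert_tree lc_b_rc_9_2 lc_b_rc_6_1 lc_b_Cert_tree lc_b_rc_9_2 lc_b_rc_8_2 lc_b_Cert_tree lc_b_Cert_tree lc_b_rc_8_2 lc_b_rc_9_2 lc_b_Cert_tree lc_b_Cert_tree lc_b_rc_8_2 lc_b_rc_10_2 lc_b_rc_7_4 lc_b_rc_8_2 lc_b_rc_8_2 lc_b_rc_26_1 lc_b_Cert_tree lc_b_rc_6_1 lc_b_rc_10_2 lc_b_rc_10_0 lc_b_rc_6_1 lc_b_rc_7_4 lc_b_rc_9_2 lc_b_rc_8_2 lc_b_Cert_tree lc_b_rc_10_2 lc_b_rc_6_1 lc_b_rc_8_2 lc_b_rc_9_2 lc_b_rc_8_2 lc_b_Cert_tree lc_b_rc_9_2 lc_b_rc_8_2 lc_b_rc_9_2 lc_b_rc_6_1 lc_b_Cert_tree lc_b_rc_10_2 lc_b_rc_6_1 lc_b_rc_1_5 lc_b_rc_9_2)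 (@D3.rec (fun _ => (Cert rels S Gen.b)) lc_b_rc_9_2 lc_b_rc_1_5 lc_b_rc_8_2 lc_b_rc_9_2 lc_b_rc_7_0 lc_b_rc_8_2 lc_b_Cert_tree lc_b_rc_9_2 lc_b_rc_26_5 lc_b_rc_8_2 lc_b_rc_10_2 lc_b_rc_9_2 lc_b_rc_6_1 lc_b_rc_1_5 lc_b_rc_9_2 lc_b_rc_26_7 lc_b_rc_10_2 lc_b_rc_6_1 lc_b_rc_8_2 lc_b_rc_9_2 lc_b_Cert_tree lc_b_Cert_tree lc_b_rc_1_1 lc_b_rc_10_2 lc_b_rc_6_1 lc_b_rc_6_1 lc_b_rc_6_1 lc_b_rc_9_2 lc_b_Cert_tree lc_b_rc_9_2 lc_b_rc_8_2 lc_b_rc_10_2 lc_b_Cert_tree lc_b_rc_9_2 lc_b_rc_6_1 lc_b_rc_1_5 lc_b_rc_9_2 lc_b_rc_26_7 lc_b_rc_10_2 lc_b_rc_6_1 lc_b_rc_8_2 lc_b_rc_9_2 lc_b_rc_6_1 lc_b_rc_10_0 lc_b_rc_9_2 lc_b_Cert_tree lc_b_rc_6_1 lc_b_rc_9_2 lc_b_Cert_tree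 lc_b_Cert_tree lc_b_rc_8_2 lc_b_rc_10_2 lc_b_rc_6_1 lc_b_rc_26_5 lc_b_rc_8_2 lc_b_rc_9_2 lc_b_rc_6_1 lc_b_Cert_tree lc_b_rc_8_2 lc_b_Cert_tree lc_b_rc_10_0 lc_b_rc_9_0) (@D3.rec (fun _ => (Cert rels S Gen.b)) lc_b_rc_8_2 lc_b_rc_7_2 lc_b_rc_6_1 lc_b_rc_6_1 lc_b_rc_26_5 lc_b_rc_8_2 lc_b_rc_6_1 lc_b_rc_26_1 lc_b_rc_9_2 lc_b_rc_6_1 lc_b_rc_9_2 lc_b_rc_6_1 lc_b_Cert_tree lc_b_rc_9_2 lc_b_Cert_tree lc_b_rc_8_2 lc_b_rc_9_2 lc_b_Cert_tree lc_b_rc_8_2 lc_b_rc_10_2 lc_b_rc_26_7 lc_b_rc_6_1 lc_b_Cert_tree lc_b_rc_10_2 lc_b_rc_6_1 lc_b_rc_26_5 lc_b_Cert_tree lc_b_rc_8_2 lc_b_rc_9_2 lc_b_rc_6_1 lc_b_rc_8_2 lc_b_rc_9_2 lc_b_rc_8_0 lc_b_rc_10_2 lc_b_Cert_tree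 lc_b_rc_9_2 lc_b_rc_9_2 lc_b_rc_6_1 lc_b_rc_1_3 lc_b_Cert_tree lc_b_rc_8_2 lc_b_rc_9_2 lc_b_rc_6_1 lc_b_rc_9_2 lc_b_rc_9_2 lc_b_Cert_tree lc_b_rc_9_2 lc_b_rc_8_2 lc_b_rc_6_1 lc_b_Cert_tree lc_b_rc_10_0 lc_b_rc_6_1 lc_b_Cert_tree lc_b_Cert_tree lc_b_Cert_tree lc_b_rc_6_1 lc_b_rc_8_2 lc_b_rc_7_4 lc_b_rc_7_2 lc_b_rc_8_2 lc_b_rc_8_0 lc_b_Cert_tree) (@D3.rec (fun _ => (Cert rels S Gen.b)) lc_b_rc_9_2 lc_b_rc_6_1 lc_b_rc_9_2 lc_b_rc_26_1 lc_b_rc_10_0 lc_b_rc_1_3 lc_b_rc_6_1 lc_b_Cert_tree lc_b_rc_9_2 lc_b_rc_6_1 lc_b_rc_9_2 lc_b_rc_6_1 lc_b_rc_26_5 lc_b_rc_10_2 lc_b_rc_8_2 lc_b_Cert_tree lc_b_rc_9_2 lc_b_rc_6_1 lc_b_rc_9_2 lc_b_rc_10_2 lc_b_rc_8_2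 lc_b_rc_10_2 lc_b_Cert_tree lc_b_Cert_tree lc_b_rc_1_3 lc_b_rc_8_2 lc_b_rc_10_2 lc_b_rc_9_2 lc_b_rc_10_0 lc_b_Cert_tree lc_b_Cert_tree lc_b_rc_1_3 lc_b_rc_26_1 lc_b_rc_1_3 lc_b_Cert_tree lc_b_rc_9_2 lc_b_rc_6_1 lc_b_rc_9_2 lc_b_rc_1_5 lc_b_rc_10_2 lc_b_rc_6_1 lc_b_rc_8_2 lc_b_Cert_tree lc_b_rc_9_2 lc_b_rc_6_1 lc_b_rc_9_2 lc_b_Cert_tree lc_b_Cert_tree lc_b_rc_10_2 lc_b_rc_9_2 lc_b_rc_6_1 lc_b_rc_8_2 lc_b_rc_8_2 lc_b_rc_9_2 lc_b_rc_6_1 lc_b_rc_8_2 lc_b_rc_9_2 lc_b_rc_1_3 lc_b_rc_10_0 lc_b_rc_9_2 lc_b_rc_1_5 lc_b_rc_8_2) (@D3.rec (fun _ => (Cert rels S Gen.b)) lc_b_Cert_tree lc_b_Cert_tree lc_b_rc_8_2 lc_b_rc_10_2 lc_b_rc_8_2 lc_b_rc_1_5 lc_b_rc_25_0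 lc_b_rc_6_1 lc_b_rc_8_2 lc_b_rc_7_4 lc_b_rc_7_2 lc_b_rc_8_0 lc_b_rc_26_1 lc_b_rc_8_0 lc_b_rc_9_2 lc_b_rc_8_2 lc_b_rc_9_2 lc_b_Cert_tree lc_b_rc_9_2 lc_b_rc_8_2 lc_b_rc_9_2 lc_b_Cert_tree lc_b_rc_6_1 lc_b_rc_9_2 lc_b_rc_1_3 lc_b_rc_6_1 lc_b_rc_6_1 lc_b_rc_26_1 lc_b_rc_7_4 lc_b_rc_6_1 lc_b_rc_9_2 lc_b_rc_8_2 lc_b_rc_9_2 lc_b_rc_9_2 lc_b_rc_10_2 lc_b_rc_8_2 lc_b_rc_9_2 lc_b_rc_8_2 lc_b_rc_1_1 lc_b_Cert_tree lc_b_Cert_tree lc_b_Cert_tree lc_b_Cert_tree lc_b_rc_6_1 lc_b_rc_9_2 lc_b_rc_6_1 lc_b_rc_6_1 lc_b_rc_9_2 lc_b_rc_6_1 lc_b_Cert_tree lc_b_rc_6_1 lc_b_rc_9_2 lc_b_Cert_tree lc_b_Cert_tree lc_b_rc_8_2 lc_b_rc_7_2 lc_b_rc_6_1 lc_b_rc_8_2 lc_b_rc_26_7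 lc_b_Cert_tree lc_b_rc_8_2 lc_b_rc_8_2) (@D3.rec (fun _ => (Cert rels S Gen.b)) lc_b_Cert_tree lc_b_rc_6_1 lc_b_Cert_tree lc_b_Cert_tree lc_b_rc_6_1 lc_b_rc_6_1 lc_b_rc_9_2 lc_b_rc_10_0 lc_b_Cert_tree lc_b_rc_8_2 lc_b_rc_6_1 lc_b_rc_8_2 lc_b_rc_1_5 lc_b_rc_8_2 lc_b_Cert_tree lc_b_rc_10_2 lc_b_rc_1_1 lc_b_Cert_tree lc_b_rc_8_2 lc_b_rc_9_2 lc_b_rc_6_1 lc_b_rc_8_2 lc_b_rc_9_2 lc_b_Cert_tree lc_b_rc_8_2 lc_b_rc_6_1 lc_b_Cert_tree lc_b_rc_8_2 lc_b_rc_9_2 lc_b_rc_6_1 lc_b_Cert_tree lc_b_rc_9_2 lc_b_Cert_tree lc_b_Cert_tree lc_b_rc_6_1 lc_b_rc_8_2 lc_b_rc_10_2 lc_b_rc_9_2 lc_b_rc_26_5 lc_b_rc_8_2 lc_b_rc_10_2 lc_b_Cert_tree lc_b_Cert_tree lc_b_rc_9_2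 lc_b_rc_6_1 lc_b_rc_9_2 lc_b_rc_9_0 lc_b_rc_26_7 lc_b_rc_10_2 lc_b_rc_8_2 lc_b_rc_8_0 lc_b_rc_10_2 lc_b_Cert_tree lc_b_rc_6_1 lc_b_Cert_tree lc_b_Cert_tree lc_b_rc_1_3 lc_b_Cert_tree lc_b_Cert_tree lc_b_rc_9_2 lc_b_rc_6_1 lc_b_rc_8_2) (@D3.rec (fun _ => (Cert rels S Gen.b)) lc_b_rc_8_2 lc_b_rc_9_2 lc_b_rc_6_1 lc_b_rc_6_1 lc_b_rc_7_4 lc_b_Cert_tree lc_b_rc_9_2 lc_b_Cert_tree lc_b_rc_6_1 lc_b_rc_8_2 lc_b_rc_9_2 lc_b_rc_26_5 lc_b_rc_6_1 lc_b_rc_10_2 lc_b_rc_10_2 lc_b_Cert_tree lc_b_rc_9_2 lc_b_rc_6_1 lc_b_rc_8_2 lc_b_rc_9_2 lc_b_rc_6_1 lc_b_rc_1_5 lc_b_rc_8_2 lc_b_rc_10_2 lc_b_rc_6_1 lc_b_rc_8_2 lc_b_rc_9_2 lc_b_rc_6_1 lc_b_rc_6_1 lc_b_rc_9_2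 lc_b_Cert_tree lc_b_rc_6_1 lc_b_Cert_tree lc_b_rc_8_2 lc_b_rc_9_2 lc_b_Cert_tree lc_b_rc_9_2 lc_b_rc_8_2 lc_b_rc_9_2 lc_b_Cert_tree lc_b_Cert_tree lc_b_rc_10_2 lc_b_rc_6_1 lc_b_rc_9_2 lc_b_rc_10_2 lc_b_rc_1_5 lc_b_Cert_tree lc_b_rc_9_2 lc_b_rc_8_2 lc_b_rc_9_2 lc_b_rc_6_1 lc_b_Cert_tree lc_b_rc_10_2 lc_b_rc_7_4 lc_b_rc_6_1 lc_b_rc_8_2 lc_b_rc_10_2 lc_b_rc_9_2 lc_b_Cert_tree lc_b_rc_8_2 lc_b_rc_9_2 lc_b_rc_6_1) (@D3.rec (fun _ => (Cert rels S Gen.b)) lc_b_rc_9_2 lc_b_rc_9_0 lc_b_rc_8_2 lc_b_Cert_tree lc_b_rc_9_2 lc_b_rc_1_5 lc_b_rc_10_2 lc_b_rc_9_0 lc_b_rc_6_1 lc_b_Cert_tree lc_b_rc_8_2 lc_b_rc_9_2 lc_b_rc_6_1 lc_b_rc_8_2 lc_b_rc_9_2 lc_b_rc_1_5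 lc_b_rc_8_2 lc_b_rc_10_2 lc_b_rc_9_2 lc_b_rc_9_2 lc_b_rc_9_2 lc_b_rc_6_1 lc_b_rc_8_2 lc_b_rc_9_2 lc_b_rc_10_2 lc_b_rc_9_2 lc_b_rc_6_1 lc_b_rc_8_2 lc_b_rc_9_2 lc_b_rc_1_5 lc_b_rc_7_0 lc_b_rc_9_2 lc_b_rc_8_2 lc_b_Cert_tree lc_b_rc_7_0 lc_b_rc_6_1 lc_b_rc_8_2 lc_b_rc_9_2 lc_b_rc_6_1 lc_b_rc_8_2 lc_b_rc_10_2 lc_b_rc_8_2 lc_b_Cert_tree lc_b_Cert_tree lc_b_rc_9_2 lc_b_rc_6_1 lc_b_rc_9_0 lc_b_rc_9_2 lc_b_rc_6_1 lc_b_rc_9_2 lc_b_rc_26_7 lc_b_rc_26_5 lc_b_rc_9_2 lc_b_Cert_tree lc_b_Cert_tree lc_b_rc_6_1 lc_b_rc_8_2 lc_b_rc_9_2 lc_b_Cert_tree lc_b_rc_9_2 lc_b_rc_6_1 lc_b_rc_9_0) (@D3.rec (fun _ => (Cert rels S Gen.b)) lc_b_rc_9_2 lc_b_rc_1_1 lc_b_rc_6_1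 lc_b_rc_10_2 lc_b_rc_6_1 lc_b_rc_8_2 lc_b_rc_9_2 lc_b_rc_6_1 lc_b_rc_8_2 lc_b_rc_9_2 lc_b_Cert_tree lc_b_Cert_tree lc_b_rc_9_2 lc_b_Cert_tree lc_b_rc_6_1 lc_b_rc_8_2 lc_b_rc_10_2 lc_b_rc_6_1 lc_b_Cert_tree lc_b_rc_8_2 lc_b_rc_9_2 lc_b_Cert_tree lc_b_rc_9_2 lc_b_rc_8_2 lc_b_rc_7_4 lc_b_rc_8_2 lc_b_rc_9_2 lc_b_Cert_tree lc_b_rc_1_5 lc_b_rc_10_2 lc_b_rc_9_2 lc_b_rc_8_2 lc_b_rc_9_2 lc_b_Cert_tree lc_b_rc_8_2 lc_b_rc_9_2 lc_b_Cert_tree lc_b_rc_7_0 lc_b_rc_9_2 lc_b_Cert_tree lc_b_rc_9_2 lc_b_rc_8_2 lc_b_rc_6_1 lc_b_rc_8_2 lc_b_rc_9_2 lc_b_rc_8_2 lc_b_rc_8_2 lc_b_rc_6_1 lc_b_Cert_tree lc_b_rc_6_1 lc_b_rc_8_2 lc_b_Cert_tree lc_b_rc_7_0 lc_b_rc_9_2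 lc_b_rc_1_5 lc_b_rc_1_5 lc_b_rc_9_2 lc_b_Cert_tree lc_b_rc_9_2 lc_b_rc_6_1 lc_b_rc_10_2 lc_b_rc_9_2) (@D3.rec (fun _ => (Cert rels S Gen.b)) lc_b_rc_6_1 lc_b_rc_9_2 lc_b_rc_9_2 lc_b_rc_10_2 lc_b_rc_9_2 lc_b_rc_9_2 lc_b_rc_9_2 lc_b_rc_6_1 lc_b_rc_9_2 lc_b_rc_7_2 lc_b_rc_26_5 lc_b_rc_8_2 lc_b_rc_10_2 lc_b_Cert_tree lc_b_rc_6_1 lc_b_rc_9_2 lc_b_rc_6_1 lc_b_rc_6_1 lc_b_rc_9_2 lc_b_rc_9_2 lc_b_rc_8_2 lc_b_rc_9_2 lc_b_rc_9_2 lc_b_rc_6_1 lc_b_rc_9_2 lc_b_rc_26_1 lc_b_rc_10_2 lc_b_rc_6_1 lc_b_rc_8_2 lc_b_rc_9_2 lc_b_rc_6_1 lc_b_rc_26_5 lc_b_rc_9_2 lc_b_Cert_tree lc_b_rc_1_3 lc_b_rc_9_2 lc_b_Cert_tree lc_b_rc_26_5 lc_b_rc_9_2 lc_b_rc_7_0 lc_b_Cert_tree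 lc_b_rc_8_2 lc_b_Cert_tree lc_b_rc_26_7 lc_b_rc_8_2 lc_b_rc_1_1 lc_b_rc_6_1 lc_b_rc_8_2 lc_b_rc_6_1 lc_b_rc_6_1 lc_b_rc_7_0 lc_b_rc_26_1 lc_b_rc_1_1 lc_b_rc_8_2 lc_b_rc_9_2 lc_b_rc_9_2 lc_b_rc_8_2 lc_b_Cert_tree lc_b_rc_9_2 lc_b_rc_6_1 lc_b_rc_8_2 lc_b_rc_9_2) (@D3.rec (fun _ => (Cert rels S Gen.b)) lc_b_rc_1_3 lc_b_rc_9_2 lc_b_rc_10_2 lc_b_Cert_tree lc_b_rc_6_1 lc_b_rc_7_0 lc_b_rc_9_2 lc_b_rc_8_2 lc_b_rc_6_1 lc_b_rc_9_2 lc_b_rc_6_1 lc_b_rc_1_3 lc_b_rc_9_2 lc_b_Cert_tree lc_b_Cert_tree lc_b_rc_1_3 lc_b_rc_8_2 lc_b_rc_9_2 lc_b_rc_9_2 lc_b_rc_7_2 lc_b_Cert_tree lc_b_rc_8_2 lc_b_rc_10_2 lc_b_rc_6_1 lc_b_Cert_tree lc_b_rc_6_1 lc_b_Cert_tree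 lc_b_rc_9_2 lc_b_Cert_tree lc_b_rc_9_2 lc_b_Cert_tree lc_b_rc_6_1 lc_b_rc_6_1 lc_b_rc_9_2 lc_b_rc_6_1 lc_b_rc_26_7 lc_b_rc_8_2 lc_b_rc_10_2 lc_b_rc_6_1 lc_b_rc_7_0 lc_b_rc_6_1 lc_b_rc_9_2 lc_b_Cert_tree lc_b_rc_7_2 lc_b_rc_8_2 lc_b_rc_9_2 lc_b_Cert_tree lc_b_Cert_tree lc_b_rc_9_2 lc_b_Cert_tree lc_b_Cert_tree lc_b_rc_8_2 lc_b_rc_10_2 lc_b_Cert_tree lc_b_rc_10_2 lc_b_rc_9_2 lc_b_rc_10_0 lc_b_rc_8_2 lc_b_rc_9_2 lc_b_rc_10_0 lc_b_Cert_tree lc_b_rc_10_2) (@D3.rec (fun _ => (Cert rels S Gen.b)) lc_b_Cert_tree lc_b_rc_6_1 lc_b_rc_6_1 lc_b_rc_8_2 lc_b_rc_9_2 lc_b_rc_6_1 lc_b_rc_8_2 lc_b_rc_10_2 lc_b_Cert_tree lc_b_rc_7_0 lc_b_rc_7_2 lc_b_rc_8_2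 lc_b_rc_9_2 lc_b_rc_9_2 lc_b_Cert_tree lc_b_rc_7_0 lc_b_rc_8_2 lc_b_rc_10_2 lc_b_rc_7_4 lc_b_rc_6_1 lc_b_Cert_tree lc_b_rc_8_2 lc_b_rc_9_2 lc_b_rc_26_1 lc_b_rc_1_1 lc_b_Cert_tree lc_b_rc_8_2 lc_b_Cert_tree lc_b_Cert_tree lc_b_rc_1_1 lc_b_rc_7_4 lc_b_rc_8_2 lc_b_rc_9_2 lc_b_rc_9_2 lc_b_rc_8_2 lc_b_rc_10_2 lc_b_Cert_tree lc_b_rc_9_2 lc_b_rc_9_2 lc_b_rc_8_2 lc_b_rc_10_2 lc_b_rc_6_1 lc_b_rc_1_5 lc_b_rc_8_2 lc_b_rc_9_2 lc_b_rc_6_1 lc_b_rc_8_2 lc_b_rc_9_2 lc_b_rc_8_2 lc_b_rc_9_2 lc_b_Cert_tree lc_b_rc_6_1 lc_b_Cert_tree lc_b_rc_9_2 lc_b_Cert_tree lc_b_Cert_tree lc_b_rc_8_2 lc_b_rc_10_2 lc_b_rc_6_1 lc_b_rc_9_2 lc_b_rc_9_2 lc_b_rc_6_1) (@D3.rec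 (fun _ => (Cert rels S Gen.b)) lc_b_rc_9_2 lc_b_rc_26_7 lc_b_rc_6_1 lc_b_rc_8_2 lc_b_rc_10_2 lc_b_rc_9_2 lc_b_rc_6_1 lc_b_rc_1_1 lc_b_rc_8_2 lc_b_rc_9_2 lc_b_rc_6_1 lc_b_rc_26_5 lc_b_rc_8_2 lc_b_rc_9_2 lc_b_Cert_tree lc_b_Cert_tree lc_b_Cert_tree lc_b_rc_10_2 lc_b_rc_10_2 lc_b_Cert_tree lc_b_Cert_tree lc_b_rc_8_2 lc_b_Cert_tree lc_b_Cert_tree lc_b_rc_6_1 lc_b_rc_8_2 lc_b_rc_9_0 lc_b_rc_9_0 lc_b_rc_26_7 lc_b_rc_9_2 lc_b_Cert_tree lc_b_rc_8_0 lc_b_Cert_tree lc_b_rc_8_2 lc_b_rc_9_2 lc_b_rc_6_1 lc_b_rc_8_2 lc_b_rc_9_2 lc_b_Cert_tree lc_b_rc_7_4 lc_b_rc_9_2 lc_b_rc_8_2 lc_b_Cert_tree lc_b_rc_26_1 lc_b_Cert_tree lc_b_rc_8_2 lc_b_rc_8_2 lc_b_Cert_tree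 lc_b_Cert_tree lc_b_rc_8_2 lc_b_Cert_tree lc_b_rc_7_4 lc_b_rc_7_4 lc_b_Cert_tree lc_b_Cert_tree lc_b_rc_6_1 lc_b_rc_8_2 lc_b_rc_6_1 lc_b_rc_9_2 lc_b_rc_6_1 lc_b_rc_26_5 lc_b_rc_9_2) (@D3.rec (fun _ => (Cert rels S Gen.b)) lc_b_rc_26_1 lc_b_rc_6_1 lc_b_rc_9_2 lc_b_rc_6_1 lc_b_rc_7_2 lc_b_Cert_tree lc_b_Cert_tree lc_b_rc_9_2 lc_b_Cert_tree lc_b_Cert_tree lc_b_rc_8_2 lc_b_rc_10_2 lc_b_rc_6_1 lc_b_Cert_tree lc_b_rc_26_5 lc_b_rc_6_1 lc_b_rc_6_1 lc_b_Cert_tree lc_b_rc_8_2 lc_b_rc_8_2 lc_b_rc_8_0 lc_b_Cert_tree lc_b_rc_10_2 lc_b_rc_7_2 lc_b_rc_8_2 lc_b_rc_9_2 lc_b_rc_6_1 lc_b_Cert_tree lc_b_rc_9_2 lc_b_Cert_tree lc_b_rc_26_1 lc_b_rc_8_2 lc_b_rc_8_2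 lc_b_rc_6_1 lc_b_rc_6_1 lc_b_rc_26_7 lc_b_Cert_tree lc_b_Cert_tree lc_b_rc_6_1 lc_b_rc_8_2 lc_b_rc_10_2 lc_b_rc_25_0 lc_b_rc_6_1 lc_b_rc_8_2 lc_b_rc_9_2 lc_b_rc_8_2 lc_b_rc_6_1 lc_b_rc_9_2 lc_b_rc_9_2 lc_b_rc_1_5 lc_b_rc_9_2 lc_b_Cert_tree lc_b_rc_6_1 lc_b_rc_8_2 lc_b_rc_10_2 lc_b_Cert_tree lc_b_rc_10_0 lc_b_rc_26_1 lc_b_rc_9_0 lc_b_Cert_tree lc_b_rc_10_2 lc_b_Cert_tree) (@D3.rec (fun _ => (Cert rels S Gen.b)) lc_b_rc_26_1 lc_b_Cert_tree lc_b_rc_7_2 lc_b_rc_8_2 lc_b_Cert_tree lc_b_rc_8_2 lc_b_rc_7_4 lc_b_rc_6_1 lc_b_rc_9_2 lc_b_Cert_tree lc_b_Cert_tree lc_b_rc_6_1 lc_b_rc_8_2 lc_b_rc_10_2 lc_b_rc_9_2 lc_b_rc_6_1 lc_b_rc_6_1 lc_b_rc_9_2 lc_b_Cert_tree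 lc_b_rc_6_1 lc_b_rc_6_1 lc_b_rc_9_2 lc_b_rc_9_2 lc_b_rc_10_2 lc_b_rc_6_1 lc_b_rc_8_2 lc_b_rc_9_2 lc_b_rc_26_5 lc_b_rc_8_2 lc_b_rc_10_2 lc_b_rc_1_3 lc_b_Cert_tree lc_b_rc_10_2 lc_b_rc_6_1 lc_b_rc_7_4 lc_b_rc_8_2 lc_b_rc_9_2 lc_b_rc_6_1 lc_b_Cert_tree lc_b_rc_26_7 lc_b_rc_9_2 lc_b_Cert_tree lc_b_rc_9_2 lc_b_rc_1_3 lc_b_rc_7_4 lc_b_rc_8_2 lc_b_rc_9_2 lc_b_Cert_tree lc_b_rc_6_1 lc_b_Cert_tree lc_b_rc_9_2 lc_b_rc_8_2 lc_b_rc_10_2 lc_b_rc_6_1 lc_b_rc_9_2 lc_b_rc_6_1 lc_b_rc_8_2 lc_b_rc_9_2 lc_b_Cert_tree lc_b_rc_9_2 lc_b_rc_1_1 lc_b_rc_7_4) (@D3.rec (fun _ => (Cert rels S Gen.b)) lc_b_rc_6_1 lc_b_Cert_tree lc_b_rc_8_2 lc_b_rc_9_2 lc_b_rc_6_1 lc_b_Cert_tree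 lc_b_rc_9_2 lc_b_rc_10_2 lc_b_Cert_tree lc_b_rc_6_1 lc_b_rc_8_2 lc_b_rc_10_2 lc_b_rc_9_2 lc_b_Cert_tree lc_b_Cert_tree lc_b_rc_1_3 lc_b_Cert_tree lc_b_rc_8_0 lc_b_rc_8_0 lc_b_rc_10_0 lc_b_Cert_tree lc_b_rc_9_2 lc_b_rc_10_2 lc_b_rc_6_1 lc_b_rc_8_2 lc_b_rc_1_3 lc_b_rc_9_2 lc_b_Cert_tree lc_b_Cert_tree lc_b_rc_10_2 lc_b_rc_9_2 lc_b_Cert_tree lc_b_rc_6_1 lc_b_Cert_tree lc_b_Cert_tree lc_b_rc_9_2 lc_b_rc_6_1 lc_b_rc_1_1 lc_b_rc_9_2 lc_b_Cert_tree lc_b_Cert_tree lc_b_rc_1_3 lc_b_Cert_tree lc_b_rc_6_1 lc_b_rc_8_2 lc_b_rc_9_2 lc_b_Cert_tree lc_b_rc_9_2 lc_b_Cert_tree lc_b_rc_9_2 lc_b_rc_8_2 lc_b_rc_9_2 lc_b_Cert_tree lc_b_rc_9_2 lc_b_rc_8_2 lc_b_rc_10_2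 lc_b_rc_6_1 lc_b_rc_8_2 lc_b_Cert_tree lc_b_rc_7_4 lc_b_rc_8_2 lc_b_rc_9_2) (@D3.rec (fun _ => (Cert rels S Gen.b)) lc_b_rc_10_2 lc_b_rc_25_12 lc_b_rc_9_2 lc_b_Cert_tree lc_b_rc_6_1 lc_b_rc_25_12 lc_b_rc_9_2 lc_b_rc_6_1 lc_b_Cert_tree lc_b_Cert_tree lc_b_Cert_tree lc_b_rc_6_1 lc_b_rc_8_2 lc_b_rc_26_1 lc_b_Cert_tree lc_b_Cert_tree lc_b_rc_6_1 lc_b_rc_26_5 lc_b_Cert_tree lc_b_rc_9_2 lc_b_rc_6_1 lc_b_rc_9_2 lc_b_rc_9_2 lc_b_Cert_tree lc_b_rc_9_2 lc_b_rc_6_1 lc_b_rc_9_2 lc_b_rc_26_1 lc_b_Cert_tree lc_b_rc_10_2 lc_b_rc_6_1 lc_b_rc_9_2 lc_b_Cert_tree lc_b_Cert_tree lc_b_rc_1_3 lc_b_rc_9_2 lc_b_Cert_tree lc_b_rc_9_2 lc_b_Cert_tree lc_b_rc_9_2 lc_b_rc_8_2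 lc_b_rc_9_2 lc_b_Cert_tree lc_b_rc_8_0 lc_b_rc_10_2 lc_b_rc_6_1 lc_b_rc_10_2 lc_b_rc_6_1 lc_b_Cert_tree lc_b_rc_6_1 lc_b_rc_9_2 lc_b_rc_1_1 lc_b_Cert_tree lc_b_rc_9_2 lc_b_Cert_tree lc_b_rc_9_2 lc_b_rc_1_5 lc_b_rc_9_0 lc_b_Cert_tree lc_b_rc_6_1 lc_b_rc_1_3 lc_b_rc_9_2) (@D3.rec (fun _ => (Cert rels S Gen.b)) lc_b_rc_6_1 lc_b_Cert_tree lc_b_rc_9_2 lc_b_rc_7_2 lc_b_rc_9_2 lc_b_Cert_tree lc_b_rc_6_1 lc_b_rc_9_2 lc_b_Cert_tree lc_b_rc_6_1 lc_b_rc_10_2 lc_b_rc_9_2 lc_b_Cert_tree lc_b_Cert_tree lc_b_rc_26_7 lc_b_rc_9_2 lc_b_rc_6_1 lc_b_rc_8_2 lc_b_rc_10_2 lc_b_rc_1_3 lc_b_Cert_tree lc_b_rc_9_2 lc_b_rc_6_1 lc_b_rc_8_2 lc_b_rc_9_2 lc_b_rc_1_5 lc_b_rc_8_2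 lc_b_rc_10_2 lc_b_rc_6_1 lc_b_rc_8_2 lc_b_rc_9_2 lc_b_rc_6_1 lc_b_rc_6_1 lc_b_rc_9_2 lc_b_Cert_tree lc_b_rc_7_2 lc_b_rc_1_3 lc_b_rc_8_2 lc_b_rc_9_2 lc_b_Cert_tree lc_b_rc_6_1 lc_b_rc_9_2 lc_b_rc_8_2 lc_b_Cert_tree lc_b_rc_8_2 lc_b_rc_7_4 lc_b_rc_9_2 lc_b_rc_6_1 lc_b_rc_9_0 lc_b_rc_10_2 lc_b_rc_8_2 lc_b_rc_6_1 lc_b_Cert_tree lc_b_rc_6_1 lc_b_rc_9_2 lc_b_rc_9_2 lc_b_rc_10_0 lc_b_rc_9_0 lc_b_rc_8_2 lc_b_rc_8_2 lc_b_rc_7_4 lc_b_rc_8_0) (@D3.rec (fun _ => (Cert rels S Gen.b)) lc_b_rc_6_1 lc_b_Cert_tree lc_b_rc_9_2 lc_b_rc_9_2 lc_b_Cert_tree lc_b_Cert_tree lc_b_rc_8_2 lc_b_rc_10_2 lc_b_rc_7_4 lc_b_Cert_tree lc_b_rc_6_1 lc_b_rc_1_3 lc_b_rc_7_4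 lc_b_rc_7_4 lc_b_rc_6_1 lc_b_rc_8_2 lc_b_rc_10_0 lc_b_rc_8_2 lc_b_rc_8_2 lc_b_rc_8_0 lc_b_rc_7_0 lc_b_rc_6_1 lc_b_Cert_tree lc_b_rc_8_2 lc_b_rc_9_2 lc_b_rc_8_2 lc_b_Cert_tree lc_b_rc_6_1 lc_b_rc_8_2 lc_b_rc_9_2 lc_b_rc_26_1 lc_b_rc_6_1 lc_b_rc_10_2 lc_b_rc_26_7 lc_b_rc_6_1 lc_b_rc_26_7 lc_b_rc_9_2 lc_b_rc_9_2 lc_b_rc_6_1 lc_b_rc_8_2 lc_b_rc_9_2 lc_b_rc_6_1 lc_b_rc_9_2 lc_b_Cert_tree lc_b_rc_9_2 lc_b_Cert_tree lc_b_Cert_tree lc_b_rc_8_2 lc_b_rc_10_2 lc_b_rc_6_1 lc_b_Cert_tree lc_b_rc_8_2 lc_b_rc_9_2 lc_b_rc_6_1 lc_b_Cert_tree lc_b_rc_8_2 lc_b_rc_9_2 lc_b_rc_6_1 lc_b_rc_8_2 lc_b_rc_9_2 lc_b_rc_6_1 lc_b_rc_8_2) (@D3.rec (fun _ => (Cert rels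 S Gen.b)) lc_b_rc_9_2 lc_b_rc_8_2 lc_b_Cert_tree lc_b_rc_26_1 lc_b_Cert_tree lc_b_rc_6_1 lc_b_rc_8_2 lc_b_rc_7_2 lc_b_rc_8_2 lc_b_Cert_tree lc_b_Cert_tree lc_b_Cert_tree lc_b_rc_6_1 lc_b_rc_8_2 lc_b_rc_9_2 lc_b_rc_9_2 lc_b_rc_8_2 lc_b_Cert_tree lc_b_Cert_tree lc_b_Cert_tree lc_b_Cert_tree lc_b_Cert_tree lc_b_rc_8_2 lc_b_Cert_tree lc_b_rc_9_2 lc_b_rc_9_2 lc_b_rc_26_1 lc_b_rc_26_1 lc_b_rc_10_2 lc_b_rc_6_1 lc_b_rc_26_1 lc_b_rc_7_4 lc_b_rc_9_2 lc_b_rc_6_1 lc_b_rc_6_1 lc_b_rc_8_2 lc_b_rc_9_2 lc_b_rc_8_2 lc_b_rc_9_2 lc_b_rc_6_1 lc_b_Cert_tree lc_b_rc_10_0 lc_b_rc_8_2 lc_b_rc_9_2 lc_b_Cert_tree lc_b_rc_8_2 lc_b_rc_9_2 lc_b_Cert_tree lc_b_rc_6_1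 lc_b_rc_8_2 lc_b_rc_10_2 lc_b_Cert_tree lc_b_rc_8_2 lc_b_rc_9_2 lc_b_rc_9_2 lc_b_rc_1_1 lc_b_rc_9_2 lc_b_rc_6_1 lc_b_rc_8_2 lc_b_rc_9_2 lc_b_rc_26_1 lc_b_rc_8_0) (@D3.rec (fun _ => (Cert rels S Gen.b)) lc_b_rc_6_1 lc_b_rc_9_2 lc_b_rc_6_1 lc_b_rc_1_3 lc_b_rc_8_2 lc_b_rc_9_2 lc_b_rc_9_2 lc_b_Cert_tree lc_b_Cert_tree lc_b_rc_8_2 lc_b_Cert_tree lc_b_rc_1_1 lc_b_rc_8_2 lc_b_rc_9_2 lc_b_Cert_tree lc_b_rc_8_2 lc_b_rc_10_2 lc_b_rc_6_1 lc_b_Cert_tree lc_b_rc_8_2 lc_b_rc_7_4 lc_b_rc_9_0 lc_b_Cert_tree lc_b_rc_10_2 lc_b_rc_6_1 lc_b_rc_9_2 lc_b_rc_9_2 lc_b_rc_6_1 lc_b_Cert_tree lc_b_rc_10_0 lc_b_rc_9_2 lc_b_rc_8_2 lc_b_rc_9_2 lc_b_Cert_tree lc_b_rc_7_0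 lc_b_rc_8_2 lc_b_rc_10_2 lc_b_Cert_tree lc_b_rc_8_2 lc_b_rc_9_2 lc_b_rc_6_1 lc_b_rc_8_2 lc_b_rc_9_2 lc_b_rc_6_1 lc_b_rc_6_1 lc_b_rc_8_2 lc_b_rc_10_2 lc_b_rc_6_1 lc_b_rc_1_3 lc_b_rc_8_2 lc_b_rc_9_2 lc_b_rc_9_2 lc_b_Cert_tree lc_b_Cert_tree lc_b_rc_8_2 lc_b_rc_10_2 lc_b_Cert_tree lc_b_rc_10_2 lc_b_rc_8_2 lc_b_Cert_tree lc_b_rc_10_2 lc_b_rc_6_1) (@D3.rec (fun _ => (Cert rels S Gen.b)) lc_b_Cert_tree lc_b_rc_10_0 lc_b_rc_6_1 lc_b_rc_8_2 lc_b_rc_9_2 lc_b_Cert_tree lc_b_rc_9_2 lc_b_rc_8_2 lc_b_rc_10_2 lc_b_Cert_tree lc_b_rc_26_5 lc_b_rc_1_3 lc_b_rc_9_2 lc_b_rc_9_2 lc_b_rc_8_2 lc_b_rc_10_2 lc_b_rc_6_1 lc_b_rc_9_2 lc_b_rc_9_2 lc_b_rc_6_1 lc_b_rc_9_2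 lc_b_rc_8_2 lc_b_rc_6_1 lc_b_rc_8_2 lc_b_rc_9_2 lc_b_rc_6_1 lc_b_rc_8_2 lc_b_rc_9_2 lc_b_Cert_tree lc_b_Cert_tree lc_b_Cert_tree lc_b_rc_10_2 lc_b_rc_26_7 lc_b_rc_8_2 lc_b_rc_9_2 lc_b_Cert_tree lc_b_rc_6_1 lc_b_rc_8_2 lc_b_rc_9_2 lc_b_rc_8_2 lc_b_Cert_tree lc_b_rc_9_2 lc_b_rc_8_0 lc_b_rc_8_2 lc_b_Cert_tree lc_b_rc_8_2 lc_b_rc_9_2 lc_b_rc_6_1 lc_b_rc_8_2 lc_b_rc_9_2 lc_b_Cert_tree lc_b_rc_9_0 lc_b_rc_8_2 lc_b_rc_6_1 lc_b_Cert_tree lc_b_Cert_tree lc_b_Cert_tree lc_b_rc_6_1 lc_b_rc_8_2 lc_b_Cert_tree lc_b_Cert_tree lc_b_rc_8_2) (@D3.rec (fun _ => (Cert rels S Gen.b)) lc_b_rc_8_2 lc_b_Cert_tree lc_b_rc_10_2 lc_b_rc_7_2 lc_b_rc_6_1 lc_b_rc_7_4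 lc_b_rc_26_1 lc_b_Cert_tree lc_b_Cert_tree lc_b_rc_1_3 lc_b_Cert_tree lc_b_rc_8_2 lc_b_rc_7_4 lc_b_rc_8_0 lc_b_rc_1_3 lc_b_rc_6_1 lc_b_rc_9_2 lc_b_rc_26_7 lc_b_rc_26_5 lc_b_rc_10_2 lc_b_Cert_tree lc_b_rc_8_2 lc_b_rc_8_2 lc_b_Cert_tree lc_b_rc_9_2 lc_b_rc_8_2 lc_b_rc_8_2 lc_b_rc_9_2 lc_b_rc_6_1 lc_b_rc_8_0 lc_b_Cert_tree lc_b_rc_10_2 lc_b_rc_9_2 lc_b_rc_8_2 lc_b_rc_7_4 lc_b_rc_9_2 lc_b_rc_10_2 lc_b_rc_8_2 lc_b_rc_10_2 lc_b_rc_6_1 lc_b_rc_26_7 lc_b_rc_8_2 lc_b_rc_10_2 lc_b_rc_9_2 lc_b_rc_8_2 lc_b_rc_8_2 lc_b_rc_26_1 lc_b_Cert_tree lc_b_Cert_tree lc_b_rc_6_1 lc_b_rc_8_2 lc_b_rc_10_2 lc_b_rc_6_1 lc_b_rc_8_0 lc_b_Cert_tree lc_b_rc_26_7 lc_b_rc_8_2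 lc_b_rc_10_2 lc_b_Cert_tree lc_b_Cert_tree lc_b_rc_6_1 lc_b_rc_8_2) (@D3.rec (fun _ => (Cert rels S Gen.b)) lc_b_Cert_tree lc_b_Cert_tree lc_b_rc_1_3 lc_b_rc_8_2 lc_b_rc_9_2 lc_b_rc_9_2 lc_b_Cert_tree lc_b_Cert_tree lc_b_rc_8_2 lc_b_rc_10_2 lc_b_rc_6_1 lc_b_Cert_tree lc_b_rc_8_2 lc_b_rc_9_2 lc_b_rc_6_1 lc_b_rc_26_1 lc_b_rc_8_2 lc_b_rc_9_2 lc_b_rc_6_1 lc_b_rc_26_5 lc_b_rc_6_1 lc_b_rc_9_2 lc_b_rc_6_1 lc_b_rc_9_2 lc_b_rc_9_2 lc_b_Cert_tree lc_b_Cert_tree lc_b_rc_9_2 lc_b_Cert_tree lc_b_rc_8_2 lc_b_rc_9_2 lc_b_rc_6_1 lc_b_rc_8_2 lc_b_rc_9_2 lc_b_rc_26_1 lc_b_rc_8_2 lc_b_rc_10_2 lc_b_Cert_tree lc_b_rc_6_1 lc_b_rc_1_3 lc_b_rc_8_2 lc_b_rc_9_2 lc_b_rc_9_2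 lc_b_Cert_tree lc_b_Cert_tree lc_b_rc_8_2 lc_b_rc_10_2 lc_b_Cert_tree lc_b_rc_9_2 lc_b_rc_6_1 lc_b_Cert_tree lc_b_rc_1_3 lc_b_rc_6_1 lc_b_rc_8_2 lc_b_rc_9_2 lc_b_rc_9_2 lc_b_rc_8_2 lc_b_Cert_tree lc_b_Cert_tree lc_b_rc_1_3 lc_b_rc_8_2 lc_b_rc_9_2) (@D3.rec (fun _ => (Cert rels S Gen.b)) lc_b_rc_9_2 lc_b_rc_8_2 lc_b_rc_10_2 lc_b_rc_6_1 lc_b_rc_9_2 lc_b_rc_9_2 lc_b_Cert_tree lc_b_rc_9_2 lc_b_Cert_tree lc_b_Cert_tree lc_b_rc_8_2 lc_b_rc_10_2 lc_b_rc_6_1 lc_b_rc_9_2 lc_b_Cert_tree lc_b_Cert_tree lc_b_rc_8_2 lc_b_rc_9_2 lc_b_rc_9_2 lc_b_rc_6_1 lc_b_Cert_tree lc_b_rc_8_2 lc_b_rc_9_2 lc_b_rc_6_1 lc_b_rc_26_7 lc_b_rc_8_2 lc_b_rc_9_2 lc_b_Cert_tree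 lc_b_Cert_tree lc_b_Cert_tree lc_b_rc_10_2 lc_b_rc_10_2 lc_b_Cert_tree lc_b_Cert_tree lc_b_rc_8_2 lc_b_rc_6_1 lc_b_rc_10_2 lc_b_Cert_tree lc_b_rc_8_2 lc_b_rc_9_2 lc_b_Cert_tree lc_b_rc_6_1 lc_b_rc_8_2 lc_b_rc_9_2 lc_b_rc_26_5 lc_b_Cert_tree lc_b_rc_9_2 lc_b_rc_8_0 lc_b_rc_8_2 lc_b_rc_10_2 lc_b_rc_6_1 lc_b_rc_6_1 lc_b_Cert_tree lc_b_rc_8_2 lc_b_rc_9_2 lc_b_rc_6_1 lc_b_rc_8_2 lc_b_rc_9_2 lc_b_Cert_tree lc_b_rc_8_2 lc_b_rc_6_1 lc_b_Cert_tree) (@D3.rec (fun _ => (Cert rels S Gen.b)) lc_b_rc_8_2 lc_b_rc_6_1 lc_b_Cert_tree lc_b_rc_9_2 lc_b_rc_6_1 lc_b_Cert_tree lc_b_rc_26_5 lc_b_Cert_tree lc_b_Cert_tree lc_b_rc_8_2 lc_b_rc_26_1 lc_b_rc_6_1 lc_b_rc_10_2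 lc_b_rc_6_1 lc_b_Cert_tree lc_b_rc_8_2 lc_b_rc_8_2 lc_b_rc_6_1 lc_b_Cert_tree lc_b_rc_9_2 lc_b_rc_7_4 lc_b_rc_7_4 lc_b_Cert_tree lc_b_Cert_tree lc_b_rc_1_3 lc_b_rc_1_3 lc_b_Cert_tree lc_b_rc_6_1 lc_b_rc_8_2 lc_b_rc_9_2 lc_b_rc_8_2 lc_b_rc_7_2 lc_b_rc_6_1 lc_b_Cert_tree lc_b_rc_6_1 lc_b_rc_8_2 lc_b_rc_6_1 lc_b_Cert_tree lc_b_Cert_tree lc_b_rc_1_3 lc_b_rc_9_2 lc_b_Cert_tree lc_b_rc_6_1 lc_b_rc_8_2 lc_b_rc_7_4 lc_b_rc_8_2 lc_b_rc_6_1 lc_b_rc_7_4 lc_b_Cert_tree lc_b_rc_8_2 lc_b_rc_8_2 lc_b_rc_8_2 lc_b_Cert_tree lc_b_Cert_tree lc_b_rc_10_2 lc_b_Cert_tree lc_b_rc_6_1 lc_b_Cert_tree lc_b_Cert_tree lc_b_rc_8_2 lc_b_rc_9_2 lc_b_rc_10_2) (@D3.rec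 (fun _ => (Cert rels S Gen.b)) lc_b_rc_8_2 lc_b_rc_10_2 lc_b_rc_8_2 lc_b_rc_6_1 lc_b_rc_6_1 lc_b_rc_8_2 lc_b_rc_10_2 lc_b_rc_8_2 lc_b_Cert_tree lc_b_rc_8_2 lc_b_rc_6_1 lc_b_rc_26_1 lc_b_rc_10_2 lc_b_rc_6_1 lc_b_rc_6_1 lc_b_rc_26_5 lc_b_rc_9_2 lc_b_rc_26_5 lc_b_Cert_tree lc_b_rc_9_2 lc_b_rc_26_5 lc_b_Cert_tree lc_b_Cert_tree lc_b_rc_8_2 lc_b_rc_10_2 lc_b_Cert_tree lc_b_rc_8_2 lc_b_rc_8_2 lc_b_rc_10_0 lc_b_Cert_tree lc_b_Cert_tree lc_b_Cert_tree lc_b_rc_6_1 lc_b_rc_8_2 lc_b_rc_10_2 lc_b_rc_6_1 lc_b_rc_1_3 lc_b_rc_8_2 lc_b_rc_9_2 lc_b_rc_1_5 lc_b_Cert_tree lc_b_rc_8_2 lc_b_rc_10_2 lc_b_Cert_tree lc_b_rc_9_2 lc_b_Cert_tree lc_b_rc_8_2 lc_b_rc_9_2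 lc_b_rc_9_2 lc_b_Cert_tree lc_b_Cert_tree lc_b_rc_8_2 lc_b_rc_10_2 lc_b_Cert_tree lc_b_rc_6_1 lc_b_Cert_tree lc_b_Cert_tree lc_b_Cert_tree lc_b_Cert_tree lc_b_rc_6_1 lc_b_rc_8_2 lc_b_rc_7_0) (@D3.rec (fun _ => (Cert rels S Gen.b)) lc_b_rc_26_1 lc_b_rc_8_2 lc_b_rc_10_2 lc_b_rc_9_2 lc_b_rc_1_3 lc_b_rc_8_2 lc_b_rc_9_2 lc_b_Cert_tree lc_b_rc_9_2 lc_b_Cert_tree lc_b_Cert_tree lc_b_rc_8_2 lc_b_rc_10_2 lc_b_Cert_tree lc_b_rc_9_2 lc_b_rc_1_1 lc_b_Cert_tree lc_b_rc_6_1 lc_b_rc_9_2 lc_b_rc_7_0 lc_b_rc_1_3 lc_b_rc_8_2 lc_b_rc_9_2 lc_b_rc_9_2 lc_b_rc_26_1 lc_b_rc_8_2 lc_b_rc_6_1 lc_b_Cert_tree lc_b_rc_1_3 lc_b_rc_7_2 lc_b_rc_8_2 lc_b_rc_9_2 lc_b_rc_9_2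 lc_b_rc_8_2 lc_b_rc_10_2 lc_b_rc_7_0 lc_b_rc_1_3 lc_b_rc_8_2 lc_b_rc_9_2 lc_b_rc_6_1 lc_b_rc_8_2 lc_b_rc_6_1 lc_b_rc_1_5 lc_b_rc_6_1 lc_b_rc_9_2 lc_b_Cert_tree lc_b_rc_9_0 lc_b_rc_8_2 lc_b_rc_10_2 lc_b_rc_6_1 lc_b_rc_26_5 lc_b_rc_8_2 lc_b_rc_9_2 lc_b_rc_6_1 lc_b_rc_26_7 lc_b_rc_8_2 lc_b_rc_9_2 lc_b_Cert_tree lc_b_Cert_tree lc_b_Cert_tree lc_b_rc_10_2 lc_b_rc_6_1) (@D3.rec (fun _ => (Cert rels S Gen.b)) lc_b_rc_10_2 lc_b_Cert_tree lc_b_rc_8_2 lc_b_rc_9_2 lc_b_Cert_tree lc_b_rc_6_1 lc_b_rc_8_2 lc_b_rc_9_2 lc_b_rc_8_2 lc_b_Cert_tree lc_b_Cert_tree lc_b_rc_8_2 lc_b_rc_9_2 lc_b_rc_6_1 lc_b_rc_8_2 lc_b_rc_9_2 lc_b_Cert_tree lc_b_rc_10_2 lc_b_rc_6_1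 lc_b_Cert_tree lc_b_rc_8_2 lc_b_Cert_tree lc_b_rc_8_2 lc_b_rc_1_3 lc_b_rc_10_0 lc_b_rc_6_1 lc_b_Cert_tree lc_b_Cert_tree lc_b_rc_6_1 lc_b_rc_8_2 lc_b_Cert_tree lc_b_rc_9_2 lc_b_rc_6_1 lc_b_rc_8_2 lc_b_rc_9_2 lc_b_rc_8_2 lc_b_rc_10_2 lc_b_rc_6_1 lc_b_rc_8_2 lc_b_rc_9_2 lc_b_rc_6_1 lc_b_rc_8_2 lc_b_rc_9_2 lc_b_Cert_tree lc_b_Cert_tree lc_b_rc_1_3 lc_b_rc_8_2 lc_b_rc_10_2 lc_b_Cert_tree lc_b_Cert_tree lc_b_rc_9_2 lc_b_rc_10_2 lc_b_rc_7_4 lc_b_rc_8_2 lc_b_rc_6_1 lc_b_rc_8_0 lc_b_rc_7_4 lc_b_rc_6_1 lc_b_Cert_tree lc_b_Cert_tree lc_b_rc_10_2 lc_b_rc_9_2) (@D3.rec (fun _ => (Cert rels S Gen.b)) lc_b_Cert_tree lc_b_rc_8_2 lc_b_rc_7_2 lc_b_rc_6_1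 lc_b_rc_7_4 lc_b_rc_1_5 lc_b_rc_26_1 lc_b_rc_8_2 lc_b_Cert_tree lc_b_rc_8_0 lc_b_rc_8_2 lc_b_Cert_tree lc_b_Cert_tree lc_b_Cert_tree lc_b_rc_8_2 lc_b_rc_6_1 lc_b_Cert_tree lc_b_rc_6_1 lc_b_Cert_tree lc_b_Cert_tree lc_b_rc_9_2 lc_b_rc_6_1 lc_b_rc_9_2 lc_b_rc_9_2 lc_b_rc_26_5 lc_b_rc_10_2 lc_b_rc_8_2 lc_b_Cert_tree lc_b_Cert_tree lc_b_Cert_tree lc_b_rc_10_0 lc_b_rc_9_2 lc_b_rc_6_1 lc_b_rc_6_1 lc_b_rc_10_2 lc_b_rc_9_2 lc_b_rc_8_2 lc_b_rc_10_2 lc_b_rc_10_2 lc_b_rc_6_1 lc_b_rc_26_7 lc_b_rc_26_5 lc_b_Cert_tree lc_b_rc_1_3 lc_b_rc_9_2 lc_b_rc_6_1 lc_b_Cert_tree lc_b_rc_9_2 lc_b_Cert_tree lc_b_Cert_tree lc_b_rc_8_2 lc_b_rc_10_2 lc_b_Cert_tree lc_b_rc_8_2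 lc_b_rc_9_2 lc_b_rc_9_2 lc_b_rc_8_2 lc_b_rc_9_2 lc_b_rc_26_1 lc_b_rc_10_2 lc_b_rc_26_7 lc_b_rc_6_1) (@D3.rec (fun _ => (Cert rels S Gen.b)) lc_b_rc_6_1 lc_b_rc_8_2 lc_b_rc_10_2 lc_b_rc_7_0 lc_b_rc_25_4 lc_b_rc_8_2 lc_b_rc_9_2 lc_b_rc_9_2 lc_b_Cert_tree lc_b_Cert_tree lc_b_rc_8_2 lc_b_rc_10_2 lc_b_Cert_tree lc_b_Cert_tree lc_b_Cert_tree lc_b_rc_6_1 lc_b_rc_8_2 lc_b_rc_6_1 lc_b_rc_9_2 lc_b_Cert_tree lc_b_Cert_tree lc_b_rc_8_2 lc_b_rc_10_2 lc_b_rc_6_1 lc_b_Cert_tree lc_b_Cert_tree lc_b_rc_6_1 lc_b_Cert_tree lc_b_rc_10_2 lc_b_rc_6_1 lc_b_rc_8_2 lc_b_rc_6_1 lc_b_rc_9_2 lc_b_rc_6_1 lc_b_rc_9_2 lc_b_rc_26_5 lc_b_Cert_tree lc_b_rc_1_3 lc_b_rc_9_2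 lc_b_Cert_tree lc_b_Cert_tree lc_b_rc_8_2 lc_b_rc_26_1 lc_b_rc_10_2 lc_b_rc_7_0 lc_b_rc_1_3 lc_b_rc_8_2 lc_b_rc_9_2 lc_b_rc_1_3 lc_b_Cert_tree lc_b_Cert_tree lc_b_rc_8_2 lc_b_rc_10_2 lc_b_Cert_tree lc_b_rc_6_1 lc_b_Cert_tree lc_b_rc_1_3 lc_b_rc_8_2 lc_b_rc_9_2 lc_b_rc_6_1 lc_b_rc_8_2 lc_b_rc_1_3) (@D3.rec (fun _ => (Cert rels S Gen.b)) lc_b_rc_9_2 lc_b_rc_8_2 lc_b_rc_10_2 lc_b_rc_9_2 lc_b_Cert_tree lc_b_rc_9_0 lc_b_rc_8_2 lc_b_rc_10_2 lc_b_rc_6_1 lc_b_rc_8_2 lc_b_rc_6_1 lc_b_rc_8_2 lc_b_rc_9_2 lc_b_Cert_tree lc_b_Cert_tree lc_b_Cert_tree lc_b_rc_10_2 lc_b_Cert_tree lc_b_Cert_tree lc_b_rc_6_1 lc_b_rc_8_2 lc_b_rc_6_1 lc_b_rc_6_1 lc_b_rc_8_2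 lc_b_rc_9_2 lc_b_rc_6_1 lc_b_rc_8_2 lc_b_rc_9_2 lc_b_Cert_tree lc_b_rc_8_2 lc_b_rc_6_1 lc_b_Cert_tree lc_b_rc_8_2 lc_b_rc_6_1 lc_b_Cert_tree lc_b_rc_9_2 lc_b_rc_9_2 lc_b_Cert_tree lc_b_Cert_tree lc_b_rc_6_1 lc_b_rc_8_2 lc_b_rc_9_0 lc_b_rc_9_2 lc_b_rc_1_3 lc_b_Cert_tree lc_b_rc_6_1 lc_b_rc_8_2 lc_b_rc_6_1 lc_b_rc_8_2 lc_b_rc_9_2 lc_b_rc_6_1 lc_b_rc_8_2 lc_b_Cert_tree lc_b_rc_8_2 lc_b_Cert_tree lc_b_rc_9_2 lc_b_rc_8_2 lc_b_rc_7_4 lc_b_Cert_tree lc_b_Cert_tree lc_b_Cert_tree lc_b_rc_8_2) (@D3.rec (fun _ => (Cert rels S Gen.b)) lc_b_rc_8_2 lc_b_rc_9_2 lc_b_rc_8_2 lc_b_rc_7_4 lc_b_rc_6_1 lc_b_rc_9_2 lc_b_rc_6_1 lc_b_rc_9_2 lc_b_rc_26_7 lc_b_rc_6_1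 lc_b_rc_8_2 lc_b_rc_9_2 lc_b_Cert_tree lc_b_rc_8_2 lc_b_rc_9_2 lc_b_rc_9_2 lc_b_Cert_tree lc_b_Cert_tree lc_b_rc_8_2 lc_b_rc_10_2 lc_b_Cert_tree lc_b_rc_6_1 lc_b_Cert_tree lc_b_rc_9_2 lc_b_rc_6_1 lc_b_Cert_tree lc_b_rc_9_2 lc_b_rc_8_2 lc_b_rc_10_2 lc_b_rc_9_2 lc_b_rc_8_2 lc_b_rc_10_2 lc_b_rc_6_1 lc_b_rc_9_2 lc_b_rc_6_1 lc_b_rc_9_0 lc_b_rc_8_2 lc_b_rc_10_2 lc_b_rc_6_1 lc_b_rc_8_2 lc_b_rc_9_2 lc_b_rc_6_1 lc_b_rc_8_2 lc_b_rc_9_2 lc_b_Cert_tree lc_b_Cert_tree lc_b_Cert_tree lc_b_rc_8_2 lc_b_rc_26_1 lc_b_rc_10_2 lc_b_Cert_tree lc_b_rc_8_2 lc_b_rc_9_2 lc_b_Cert_tree lc_b_rc_6_1 lc_b_rc_8_2 lc_b_rc_9_2 lc_b_Cert_tree lc_b_rc_8_2 lc_b_rc_9_2 lc_b_rc_6_1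 lc_b_rc_8_2) (@D3.rec (fun _ => (Cert rels S Gen.b)) lc_b_rc_9_2 lc_b_Cert_tree lc_b_rc_6_1 lc_b_rc_10_2 lc_b_Cert_tree lc_b_Cert_tree lc_b_rc_9_2 lc_b_Cert_tree lc_b_rc_8_2 lc_b_rc_26_1 lc_b_Cert_tree lc_b_rc_9_0 lc_b_rc_10_2 lc_b_rc_10_2 lc_b_rc_7_0 lc_b_rc_1_3 lc_b_rc_10_2 lc_b_Cert_tree lc_b_rc_9_2 lc_b_rc_8_2 lc_b_rc_7_2 lc_b_Cert_tree lc_b_rc_8_0 lc_b_rc_9_2 lc_b_rc_8_2 lc_b_rc_10_2 lc_b_Cert_tree lc_b_rc_7_0 lc_b_rc_9_2 lc_b_rc_8_2 lc_b_rc_10_2 lc_b_rc_7_4 lc_b_rc_9_2 lc_b_rc_8_2 lc_b_rc_10_2 lc_b_rc_6_1 lc_b_rc_8_2 lc_b_rc_9_2 lc_b_rc_6_1 lc_b_rc_8_2 lc_b_rc_9_2 lc_b_Cert_tree lc_b_Cert_tree lc_b_Cert_tree lc_b_rc_9_2 lc_b_rc_6_1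 lc_b_rc_8_2 lc_b_rc_9_2 lc_b_rc_9_2 lc_b_rc_6_1 lc_b_rc_8_2 lc_b_rc_9_2 lc_b_rc_8_2 lc_b_rc_9_2 lc_b_Cert_tree lc_b_Cert_tree lc_b_Cert_tree lc_b_rc_9_2 lc_b_rc_8_2 lc_b_rc_8_2 lc_b_rc_26_7 lc_b_rc_6_1) (@D3.rec (fun _ => (Cert rels S Gen.b)) lc_b_rc_8_0 lc_b_rc_6_1 lc_b_Cert_tree lc_b_rc_8_2 lc_b_rc_9_2 lc_b_rc_8_2 lc_b_Cert_tree lc_b_rc_1_3 lc_b_rc_8_2 lc_b_rc_9_2 lc_b_Cert_tree lc_b_rc_9_2 lc_b_Cert_tree lc_b_Cert_tree lc_b_rc_8_2 lc_b_rc_10_2 lc_b_Cert_tree lc_b_rc_9_2 lc_b_rc_1_1 lc_b_Cert_tree lc_b_Cert_tree lc_b_Cert_tree lc_b_rc_6_1 lc_b_rc_8_2 lc_b_rc_6_1 lc_b_rc_8_2 lc_b_rc_9_2 lc_b_Cert_tree lc_b_rc_9_0 lc_b_rc_1_5 lc_b_rc_1_3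 lc_b_rc_8_2 lc_b_rc_9_2 lc_b_rc_9_2 lc_b_rc_7_0 lc_b_rc_8_2 lc_b_rc_7_4 lc_b_rc_8_2 lc_b_rc_9_2 lc_b_rc_9_2 lc_b_Cert_tree lc_b_rc_8_2 lc_b_rc_10_2 lc_b_Cert_tree lc_b_rc_6_1 lc_b_rc_6_1 lc_b_rc_9_2 lc_b_rc_26_5 lc_b_Cert_tree lc_b_rc_8_2 lc_b_rc_9_2 lc_b_Cert_tree lc_b_Cert_tree lc_b_rc_9_2 lc_b_Cert_tree lc_b_Cert_tree lc_b_rc_8_2 lc_b_rc_6_1 lc_b_rc_9_2 lc_b_rc_26_1 lc_b_rc_26_1 lc_b_rc_10_2) (@D3.rec (fun _ => (Cert rels S Gen.b)) lc_b_rc_26_5 lc_b_rc_1_3 lc_b_rc_8_2 lc_b_rc_9_2 lc_b_rc_9_2 lc_b_Cert_tree lc_b_Cert_tree lc_b_rc_8_2 lc_b_rc_10_2 lc_b_Cert_tree lc_b_rc_26_1 lc_b_Cert_tree lc_b_rc_1_3 lc_b_rc_8_2 lc_b_rc_9_2 lc_b_rc_9_2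 lc_b_rc_8_2 lc_b_Cert_tree lc_b_rc_6_1 lc_b_rc_1_3 lc_b_rc_8_2 lc_b_rc_9_2 lc_b_rc_9_2 lc_b_rc_8_2 lc_b_rc_10_2 lc_b_rc_6_1 lc_b_rc_9_2 lc_b_rc_6_1 lc_b_rc_9_2 lc_b_rc_6_1 lc_b_rc_9_2 lc_b_Cert_tree lc_b_Cert_tree lc_b_rc_8_2 lc_b_rc_10_2 lc_b_rc_6_1 lc_b_rc_8_2 lc_b_rc_9_2 lc_b_rc_6_1 lc_b_rc_8_2 lc_b_rc_9_2 lc_b_Cert_tree lc_b_Cert_tree lc_b_Cert_tree lc_b_rc_10_2 lc_b_rc_8_2 lc_b_rc_9_2 lc_b_Cert_tree lc_b_rc_6_1 lc_b_rc_8_2 lc_b_rc_9_2 lc_b_Cert_tree lc_b_rc_6_1 lc_b_Cert_tree lc_b_rc_8_2 lc_b_rc_9_2 lc_b_rc_6_1 lc_b_rc_8_2 lc_b_rc_9_2 lc_b_Cert_tree lc_b_rc_8_2 lc_b_rc_9_2) (@D3.rec (fun _ => (Cert rels S Gen.b)) lc_b_rc_26_7 lc_b_rc_8_2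 lc_b_rc_9_2 lc_b_rc_9_2 lc_b_rc_9_2 lc_b_rc_6_1 lc_b_rc_8_2 lc_b_rc_9_2 lc_b_rc_9_0 lc_b_rc_6_1 lc_b_rc_9_2 lc_b_rc_6_1 lc_b_rc_9_2 lc_b_rc_6_1 lc_b_Cert_tree lc_b_rc_1_3 lc_b_rc_8_2 lc_b_rc_9_2 lc_b_Cert_tree lc_b_rc_8_0 lc_b_Cert_tree lc_b_rc_9_2 lc_b_Cert_tree lc_b_Cert_tree lc_b_rc_8_2 lc_b_rc_9_2 lc_b_rc_26_1 lc_b_rc_8_2 lc_b_rc_10_2 lc_b_Cert_tree lc_b_rc_6_1 lc_b_rc_8_2 lc_b_rc_8_2 lc_b_rc_8_0 lc_b_rc_8_2 lc_b_Cert_tree lc_b_rc_7_2 lc_b_rc_1_3 lc_b_rc_8_2 lc_b_rc_9_2 lc_b_rc_9_2 lc_b_Cert_tree lc_b_Cert_tree lc_b_rc_8_2 lc_b_rc_10_2 lc_b_Cert_tree lc_b_Cert_tree lc_b_rc_8_2 lc_b_Cert_tree lc_b_Cert_tree lc_b_Cert_tree lc_b_rc_6_1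 lc_b_rc_8_2 lc_b_rc_6_1 lc_b_Cert_tree lc_b_rc_8_2 lc_b_rc_9_2 lc_b_rc_9_2 lc_b_rc_8_2 lc_b_rc_9_2 lc_b_rc_6_1 lc_b_rc_8_2) (@D3.rec (fun _ => (Cert rels S Gen.b)) lc_b_rc_9_2 lc_b_rc_9_2 lc_b_rc_8_2 lc_b_rc_6_1 lc_b_rc_8_2 lc_b_rc_9_2 lc_b_rc_8_2 lc_b_rc_9_2 lc_b_rc_26_5 lc_b_Cert_tree lc_b_rc_6_1 lc_b_rc_8_2 lc_b_rc_9_2 lc_b_rc_1_1 lc_b_rc_26_7 lc_b_rc_10_2 lc_b_rc_6_1 lc_b_rc_8_2 lc_b_rc_9_2 lc_b_rc_1_5 lc_b_rc_10_2 lc_b_rc_6_1 lc_b_rc_9_2 lc_b_rc_6_1 lc_b_rc_9_2 lc_b_rc_1_3 lc_b_rc_9_2 lc_b_rc_8_2 lc_b_rc_8_2 lc_b_rc_9_2 lc_b_rc_6_1 lc_b_rc_9_2 lc_b_rc_9_2 lc_b_rc_26_5 lc_b_Cert_tree lc_b_rc_1_3 lc_b_rc_8_2 lc_b_rc_9_2 lc_b_rc_9_2 lc_b_Cert_tree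 lc_b_Cert_tree lc_b_rc_8_2 lc_b_rc_10_2 lc_b_Cert_tree lc_b_rc_9_0 lc_b_Cert_tree lc_b_rc_26_5 lc_b_rc_26_1 lc_b_rc_8_2 lc_b_rc_9_2 lc_b_rc_9_2 lc_b_rc_7_0 lc_b_Cert_tree lc_b_rc_8_2 lc_b_rc_26_1 lc_b_Cert_tree lc_b_rc_1_3 lc_b_rc_8_2 lc_b_rc_9_2 lc_b_rc_9_2 lc_b_rc_8_2 lc_b_rc_10_2) (@D3.rec (fun _ => (Cert rels S Gen.b)) lc_b_Cert_tree lc_b_rc_6_1 lc_b_rc_1_3 lc_b_rc_9_2 lc_b_rc_9_2 lc_b_rc_8_2 lc_b_rc_6_1 lc_b_rc_9_2 lc_b_rc_6_1 lc_b_rc_9_2 lc_b_rc_6_1 lc_b_rc_9_2 lc_b_Cert_tree lc_b_Cert_tree lc_b_rc_8_2 lc_b_rc_10_2 lc_b_rc_6_1 lc_b_rc_8_2 lc_b_rc_9_2 lc_b_rc_6_1 lc_b_rc_8_2 lc_b_rc_9_2 lc_b_Cert_tree lc_b_Cert_tree lc_b_Cert_tree lc_b_rc_9_2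 lc_b_Cert_tree lc_b_rc_6_1 lc_b_rc_8_2 lc_b_rc_9_2 lc_b_rc_9_2 lc_b_rc_6_1 lc_b_rc_8_2 lc_b_rc_9_2 lc_b_Cert_tree lc_b_rc_6_1 lc_b_rc_9_2 lc_b_Cert_tree lc_b_rc_8_2 lc_b_rc_10_2 lc_b_Cert_tree lc_b_Cert_tree lc_b_rc_6_1 lc_b_rc_8_2 lc_b_Cert_tree lc_b_rc_10_2 lc_b_rc_6_1 lc_b_rc_10_2 lc_b_rc_9_2 lc_b_rc_6_1 lc_b_rc_8_2 lc_b_rc_9_2 lc_b_rc_26_1 lc_b_rc_10_2 lc_b_Cert_tree lc_b_rc_26_5 lc_b_rc_1_3 lc_b_rc_9_2 lc_b_rc_6_1 lc_b_rc_9_2 lc_b_rc_8_2 lc_b_rc_10_2) (@D3.rec (fun _ => (Cert rels S Gen.b)) lc_b_rc_26_5 lc_b_rc_6_1 lc_b_rc_9_2 lc_b_rc_9_2 lc_b_rc_6_1 lc_b_rc_8_2 lc_b_rc_9_2 lc_b_rc_8_2 lc_b_Cert_tree lc_b_rc_6_1 lc_b_rc_8_2 lc_b_rc_9_2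 lc_b_rc_9_2 lc_b_rc_6_1 lc_b_rc_26_5 lc_b_rc_9_2 lc_b_rc_26_5 lc_b_rc_10_2 lc_b_rc_6_1 lc_b_rc_9_2 lc_b_Cert_tree lc_b_rc_26_7 lc_b_rc_10_2 lc_b_rc_6_1 lc_b_rc_9_2 lc_b_rc_26_7 lc_b_rc_26_1 lc_b_rc_1_5 lc_b_rc_8_0 lc_b_Cert_tree lc_b_Cert_tree lc_b_rc_10_2 lc_b_rc_9_2 lc_b_rc_8_2 lc_b_rc_10_2 lc_b_Cert_tree lc_b_rc_7_2 lc_b_rc_10_2 lc_b_Cert_tree lc_b_rc_6_1 lc_b_rc_26_1 lc_b_rc_8_2 lc_b_rc_9_2 lc_b_rc_9_2 lc_b_rc_8_2 lc_b_rc_10_2 lc_b_rc_1_3 lc_b_rc_8_2 lc_b_rc_9_2 lc_b_rc_9_2 lc_b_rc_8_2 lc_b_rc_10_2 lc_b_rc_6_1 lc_b_rc_9_2 lc_b_rc_9_2 lc_b_Cert_tree lc_b_Cert_tree lc_b_rc_8_2 lc_b_rc_10_2 lc_b_rc_6_1 lc_b_rc_9_2 lc_b_rc_6_1) (@D3.rec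 (fun _ => (Cert rels S Gen.b)) lc_b_rc_9_2 lc_b_Cert_tree lc_b_Cert_tree lc_b_rc_9_2 lc_b_rc_26_7 lc_b_rc_6_1 lc_b_rc_8_2 lc_b_rc_9_2 lc_b_rc_6_1 lc_b_rc_8_2 lc_b_rc_9_2 lc_b_Cert_tree lc_b_Cert_tree lc_b_Cert_tree lc_b_rc_26_1 lc_b_rc_6_1 lc_b_rc_8_2 lc_b_rc_9_2 lc_b_Cert_tree lc_b_rc_6_1 lc_b_rc_7_2 lc_b_rc_26_5 lc_b_rc_8_2 lc_b_rc_9_2 lc_b_rc_9_2 lc_b_rc_8_2 lc_b_rc_10_2 lc_b_rc_8_2 lc_b_rc_6_1 lc_b_rc_1_3 lc_b_rc_9_2 lc_b_rc_8_2 lc_b_rc_6_1 lc_b_rc_8_2 lc_b_rc_9_2 lc_b_rc_8_2 lc_b_rc_9_2 lc_b_rc_9_2 lc_b_Cert_tree lc_b_rc_6_1 lc_b_rc_7_4 lc_b_rc_9_2 lc_b_Cert_tree lc_b_rc_7_0 lc_b_rc_8_2 lc_b_Cert_tree lc_b_Cert_tree lc_b_rc_8_2 lc_b_rc_10_2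 lc_b_rc_6_1 lc_b_rc_8_2 lc_b_rc_9_2 lc_b_rc_6_1 lc_b_rc_8_2 lc_b_rc_9_2 lc_b_Cert_tree lc_b_Cert_tree lc_b_rc_6_1 lc_b_rc_9_2 lc_b_rc_6_1 lc_b_rc_9_2 lc_b_rc_1_5) (@D3.rec (fun _ => (Cert rels S Gen.b)) lc_b_rc_1_3 lc_b_rc_8_2 lc_b_rc_9_2 lc_b_rc_9_2 lc_b_Cert_tree lc_b_rc_8_2 lc_b_Cert_tree lc_b_rc_8_2 lc_b_rc_7_0 lc_b_rc_6_1 lc_b_rc_9_2 lc_b_rc_9_2 lc_b_Cert_tree lc_b_Cert_tree lc_b_rc_8_2 lc_b_Cert_tree lc_b_rc_26_5 lc_b_rc_1_3 lc_b_rc_9_2 lc_b_rc_9_2 lc_b_rc_8_2 lc_b_rc_10_2 lc_b_rc_8_2 lc_b_Cert_tree lc_b_rc_1_3 lc_b_rc_8_2 lc_b_rc_9_2 lc_b_rc_9_2 lc_b_rc_8_2 lc_b_rc_6_1 lc_b_rc_26_5 lc_b_rc_8_2 lc_b_rc_9_2 lc_b_rc_6_1 lc_b_rc_26_5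 lc_b_rc_8_2 lc_b_rc_9_2 lc_b_rc_8_2 lc_b_rc_9_2 lc_b_Cert_tree lc_b_Cert_tree lc_b_rc_7_2 lc_b_rc_9_2 lc_b_Cert_tree lc_b_Cert_tree lc_b_rc_8_2 lc_b_rc_10_2 lc_b_Cert_tree lc_b_Cert_tree lc_b_rc_8_2 lc_b_rc_10_2 lc_b_rc_6_1 lc_b_rc_10_2 lc_b_rc_9_2 lc_b_rc_6_1 lc_b_rc_8_2 lc_b_rc_8_2 lc_b_rc_9_2 lc_b_Cert_tree lc_b_Cert_tree lc_b_Cert_tree lc_b_rc_10_2) (@D3.rec (fun _ => (Cert rels S Gen.b)) lc_b_rc_8_2 lc_b_Cert_tree lc_b_rc_6_1 lc_b_rc_8_2 lc_b_Cert_tree lc_b_rc_9_2 lc_b_rc_6_1 lc_b_rc_8_2 lc_b_rc_9_2 lc_b_rc_6_1 lc_b_rc_10_2 lc_b_rc_26_1 lc_b_rc_26_5 lc_b_rc_9_2 lc_b_rc_9_2 lc_b_rc_8_2 lc_b_rc_9_0 lc_b_rc_6_1 lc_b_rc_8_2 lc_b_rc_9_2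 lc_b_rc_6_1 lc_b_rc_8_2 lc_b_rc_26_1 lc_b_rc_9_2 lc_b_rc_8_2 lc_b_rc_10_2 lc_b_rc_10_2 lc_b_rc_1_3 lc_b_rc_9_2 lc_b_rc_8_2 lc_b_rc_6_1 lc_b_rc_9_2 lc_b_rc_9_2 lc_b_rc_9_2 lc_b_Cert_tree lc_b_Cert_tree lc_b_rc_8_2 lc_b_rc_10_2 lc_b_rc_6_1 lc_b_rc_9_2 lc_b_rc_6_1 lc_b_rc_9_2 lc_b_Cert_tree lc_b_Cert_tree lc_b_rc_8_2 lc_b_rc_10_2 lc_b_rc_6_1 lc_b_rc_8_2 lc_b_rc_9_2 lc_b_rc_6_1 lc_b_rc_8_2 lc_b_rc_9_2 lc_b_Cert_tree lc_b_Cert_tree lc_b_Cert_tree lc_b_rc_26_1 lc_b_rc_6_1 lc_b_rc_8_2 lc_b_rc_9_2 lc_b_Cert_tree lc_b_rc_8_2 lc_b_rc_9_2) (@D3.rec (fun _ => (Cert rels S Gen.b)) lc_b_rc_7_4 lc_b_rc_26_1 lc_b_rc_9_2 lc_b_rc_8_2 lc_b_rc_6_1 lc_b_rc_7_4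 lc_b_rc_6_1 lc_b_rc_8_2 lc_b_rc_9_2 lc_b_rc_9_2 lc_b_rc_8_2 lc_b_rc_6_1 lc_b_rc_9_2 lc_b_rc_9_0 lc_b_rc_8_0 lc_b_Cert_tree lc_b_rc_10_2 lc_b_rc_6_1 lc_b_rc_9_2 lc_b_rc_9_2 lc_b_rc_8_2 lc_b_rc_9_2 lc_b_Cert_tree lc_b_rc_6_1 lc_b_rc_7_4 lc_b_rc_9_2 lc_b_Cert_tree lc_b_rc_6_1 lc_b_rc_8_2 lc_b_rc_10_2 lc_b_Cert_tree lc_b_Cert_tree lc_b_rc_8_2 lc_b_rc_10_2 lc_b_rc_6_1 lc_b_rc_26_1 lc_b_rc_8_2 lc_b_rc_6_1 lc_b_rc_8_2 lc_b_rc_9_2 lc_b_Cert_tree lc_b_Cert_tree lc_b_Cert_tree lc_b_rc_10_2 lc_b_rc_6_1 lc_b_rc_8_2 lc_b_rc_9_2 lc_b_rc_26_5 lc_b_Cert_tree lc_b_rc_9_2 lc_b_Cert_tree lc_b_Cert_tree lc_b_rc_6_1 lc_b_rc_8_2 lc_b_rc_10_2 lc_b_rc_7_2 lc_b_rc_10_2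 lc_b_rc_9_2 lc_b_rc_6_1 lc_b_rc_26_5 lc_b_rc_8_2 lc_b_rc_9_2) (@D3.rec (fun _ => (Cert rels S Gen.b)) lc_b_rc_8_2 lc_b_rc_9_2 lc_b_rc_8_2 lc_b_rc_9_2 lc_b_Cert_tree lc_b_rc_26_5 lc_b_rc_9_2 lc_b_Cert_tree lc_b_Cert_tree lc_b_rc_8_2 lc_b_rc_10_2 lc_b_rc_6_1 lc_b_rc_10_2 lc_b_rc_6_1 lc_b_rc_9_2 lc_b_Cert_tree lc_b_Cert_tree lc_b_rc_8_2 lc_b_rc_10_2 lc_b_Cert_tree lc_b_Cert_tree lc_b_rc_10_2 lc_b_rc_6_1 lc_b_rc_9_2 lc_b_rc_6_1 lc_b_rc_8_2 lc_b_rc_9_2 lc_b_rc_1_3 lc_b_rc_9_2 lc_b_rc_1_3 lc_b_rc_8_2 lc_b_rc_9_2 lc_b_Cert_tree lc_b_rc_26_7 lc_b_rc_9_2 lc_b_Cert_tree lc_b_Cert_tree lc_b_rc_8_2 lc_b_rc_10_2 lc_b_rc_26_5 lc_b_Cert_tree lc_b_rc_8_2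 lc_b_rc_10_2 lc_b_rc_6_1 lc_b_Cert_tree lc_b_Cert_tree lc_b_rc_10_2 lc_b_rc_7_2 lc_b_rc_1_3 lc_b_rc_8_2 lc_b_rc_9_2 lc_b_rc_9_2 lc_b_rc_8_2 lc_b_rc_9_2 lc_b_Cert_tree lc_b_Cert_tree lc_b_rc_8_2 lc_b_rc_10_2 lc_b_rc_6_1 lc_b_rc_9_2 lc_b_rc_6_1 lc_b_rc_6_1) (@D3.rec (fun _ => (Cert rels S Gen.b)) lc_b_rc_9_2 lc_b_Cert_tree lc_b_Cert_tree lc_b_rc_8_2 lc_b_rc_10_2 lc_b_rc_6_1 lc_b_rc_8_2 lc_b_rc_9_2 lc_b_rc_6_1 lc_b_rc_8_2 lc_b_Cert_tree lc_b_Cert_tree lc_b_Cert_tree lc_b_rc_10_2 lc_b_rc_6_1 lc_b_rc_7_4 lc_b_rc_9_2 lc_b_Cert_tree lc_b_rc_10_2 lc_b_rc_8_2 lc_b_rc_10_2 lc_b_rc_8_2 lc_b_rc_9_2 lc_b_rc_26_5 lc_b_rc_1_3 lc_b_rc_8_2 lc_b_rc_10_2 lc_b_Cert_tree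 lc_b_rc_26_5 lc_b_rc_1_3 lc_b_rc_9_2 lc_b_rc_6_1 lc_b_Cert_tree lc_b_rc_8_2 lc_b_rc_10_2 lc_b_rc_6_1 lc_b_Cert_tree lc_b_rc_8_2 lc_b_rc_9_2 lc_b_rc_6_1 lc_b_rc_26_5 lc_b_rc_8_2 lc_b_rc_9_2 lc_b_Cert_tree lc_b_Cert_tree lc_b_Cert_tree lc_b_rc_10_2 lc_b_rc_10_2 lc_b_Cert_tree lc_b_Cert_tree lc_b_rc_8_2 lc_b_Cert_tree lc_b_rc_1_3 lc_b_rc_6_1 lc_b_rc_8_2 lc_b_rc_9_2 lc_b_rc_6_1 lc_b_rc_6_1 lc_b_rc_8_2 lc_b_rc_6_1 lc_b_Cert_tree lc_b_rc_26_1) (@D3.rec (fun _ => (Cert rels S Gen.b)) lc_b_Cert_tree lc_b_rc_9_2 lc_b_rc_8_2 lc_b_rc_10_2 lc_b_rc_6_1 lc_b_rc_1_3 lc_b_rc_7_2 lc_b_rc_9_2 lc_b_rc_8_2 lc_b_rc_8_2 lc_b_rc_10_2 lc_b_rc_6_1 lc_b_Cert_tree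 lc_b_rc_8_2 lc_b_rc_9_2 lc_b_rc_6_1 lc_b_Cert_tree lc_b_rc_8_2 lc_b_rc_9_2 lc_b_Cert_tree lc_b_Cert_tree lc_b_rc_6_1 lc_b_rc_8_2 lc_b_rc_10_2 lc_b_rc_9_2 lc_b_rc_10_2 lc_b_rc_6_1 lc_b_rc_8_2 lc_b_rc_9_2 lc_b_rc_6_1 lc_b_rc_8_2 lc_b_Cert_tree lc_b_Cert_tree lc_b_Cert_tree lc_b_rc_8_2 lc_b_rc_9_2 lc_b_rc_6_1 lc_b_rc_8_2 lc_b_rc_9_2 lc_b_rc_6_1 lc_b_rc_26_7 lc_b_Cert_tree lc_b_rc_9_2 lc_b_rc_6_1 lc_b_rc_26_1 lc_b_rc_6_1 lc_b_rc_8_2 lc_b_Cert_tree lc_b_rc_1_3 lc_b_rc_8_2 lc_b_rc_9_2 lc_b_Cert_tree lc_b_Cert_tree lc_b_Cert_tree lc_b_rc_9_2 lc_b_Cert_tree lc_b_rc_8_2 lc_b_Cert_tree lc_b_rc_7_4 lc_b_Cert_tree lc_b_Cert_tree lc_b_rc_6_1) (@D3.rec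 (fun _ => (Cert rels S Gen.b)) lc_b_rc_8_2 lc_b_rc_9_2 lc_b_rc_8_2 lc_b_rc_10_2 lc_b_rc_6_1 lc_b_rc_8_2 lc_b_rc_9_2 lc_b_rc_6_1 lc_b_rc_6_1 lc_b_Cert_tree lc_b_rc_8_0 lc_b_rc_9_0 lc_b_rc_8_2 lc_b_rc_26_1 lc_b_rc_7_2 lc_b_rc_8_2 lc_b_rc_9_2 lc_b_Cert_tree lc_b_rc_9_2 lc_b_rc_1_3 lc_b_rc_8_2 lc_b_rc_10_2 lc_b_rc_6_1 lc_b_rc_8_2 lc_b_rc_8_0 lc_b_rc_9_2 lc_b_rc_6_1 lc_b_rc_8_2 lc_b_rc_9_2 lc_b_rc_6_1 lc_b_rc_8_2 lc_b_rc_6_1 lc_b_Cert_tree lc_b_Cert_tree lc_b_rc_26_7 lc_b_rc_8_2 lc_b_Cert_tree lc_b_rc_9_2 lc_b_Cert_tree lc_b_rc_9_2 lc_b_rc_9_2 lc_b_rc_6_1 lc_b_rc_8_2 lc_b_rc_9_2 lc_b_rc_6_1 lc_b_rc_8_2 lc_b_rc_6_1 lc_b_rc_8_2 lc_b_rc_9_2 lc_b_Cert_tree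 lc_b_rc_1_3 lc_b_rc_8_2 lc_b_Cert_tree lc_b_rc_9_2 lc_b_rc_6_1 lc_b_rc_9_2 lc_b_rc_9_2 lc_b_rc_6_1 lc_b_rc_8_2 lc_b_rc_10_2 lc_b_Cert_tree lc_b_rc_7_4) (@D3.rec (fun _ => (Cert rels S Gen.b)) lc_b_rc_8_2 lc_b_rc_9_2 lc_b_rc_26_7 lc_b_rc_6_1 lc_b_rc_1_3 lc_b_rc_9_2 lc_b_rc_8_2 lc_b_rc_10_2 lc_b_rc_6_1 lc_b_rc_1_5 lc_b_rc_1_3 lc_b_rc_9_2 lc_b_rc_8_2 lc_b_rc_6_1 lc_b_rc_9_2 lc_b_Cert_tree lc_b_Cert_tree lc_b_rc_8_2 lc_b_rc_10_2 lc_b_rc_6_1 lc_b_rc_8_2 lc_b_rc_9_2 lc_b_rc_6_1 lc_b_rc_8_2 lc_b_rc_9_2 lc_b_Cert_tree lc_b_Cert_tree lc_b_Cert_tree lc_b_rc_10_2 lc_b_rc_8_2 lc_b_Cert_tree lc_b_rc_6_1 lc_b_rc_8_2 lc_b_rc_9_2 lc_b_rc_8_0 lc_b_Cert_tree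 lc_b_Cert_tree lc_b_rc_8_2 lc_b_rc_9_2 lc_b_rc_6_1 lc_b_rc_8_2 lc_b_rc_9_2 lc_b_Cert_tree lc_b_rc_9_2 lc_b_rc_10_2 lc_b_rc_8_2 lc_b_rc_7_4 lc_b_rc_6_1 lc_b_rc_8_2 lc_b_rc_9_2 lc_b_rc_9_2 lc_b_Cert_tree lc_b_rc_8_2 lc_b_rc_10_2 lc_b_rc_26_1 lc_b_rc_7_4 lc_b_Cert_tree lc_b_rc_10_2 lc_b_rc_26_5 lc_b_Cert_tree lc_b_rc_1_3 lc_b_rc_9_2) (@D3.rec (fun _ => (Cert rels S Gen.b)) lc_b_rc_8_2 lc_b_Cert_tree lc_b_rc_6_1 lc_b_rc_1_3 lc_b_rc_9_2 lc_b_rc_8_2 lc_b_rc_10_2 lc_b_rc_6_1 lc_b_rc_9_2 lc_b_Cert_tree lc_b_Cert_tree lc_b_rc_8_2 lc_b_rc_10_2 lc_b_rc_6_1 lc_b_rc_9_2 lc_b_rc_6_1 lc_b_rc_8_2 lc_b_rc_9_2 lc_b_Cert_tree lc_b_rc_8_2 lc_b_Cert_tree lc_b_rc_10_2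 lc_b_Cert_tree lc_b_rc_6_1 lc_b_rc_8_2 lc_b_rc_6_1 lc_b_rc_8_2 lc_b_rc_9_2 lc_b_rc_6_1 lc_b_Cert_tree lc_b_rc_6_1 lc_b_Cert_tree lc_b_rc_9_2 lc_b_Cert_tree lc_b_Cert_tree lc_b_rc_8_2 lc_b_rc_7_4 lc_b_rc_8_2 lc_b_rc_7_4 lc_b_rc_8_2 lc_b_rc_9_2 lc_b_rc_7_2 lc_b_rc_9_2 lc_b_Cert_tree lc_b_rc_6_1 lc_b_rc_8_2 lc_b_rc_8_2 lc_b_rc_9_2 lc_b_rc_10_2 lc_b_rc_9_2 lc_b_rc_7_0 lc_b_rc_8_2 lc_b_rc_26_5 lc_b_Cert_tree lc_b_rc_9_2 lc_b_Cert_tree lc_b_rc_6_1 lc_b_rc_8_2 lc_b_rc_9_2 lc_b_rc_6_1 lc_b_rc_8_2 lc_b_rc_6_1) (@D3.rec (fun _ => (Cert rels S Gen.b)) lc_b_Cert_tree lc_b_Cert_tree lc_b_rc_1_5 lc_b_rc_7_4 lc_b_rc_10_2 lc_b_rc_8_2 lc_b_rc_26_5 lc_b_rc_6_1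 lc_b_rc_8_2 lc_b_rc_6_1 lc_b_rc_8_2 lc_b_rc_9_2 lc_b_Cert_tree lc_b_rc_6_1 lc_b_rc_26_1 lc_b_rc_8_2 lc_b_rc_8_2 lc_b_Cert_tree lc_b_Cert_tree lc_b_Cert_tree lc_b_rc_9_2 lc_b_Cert_tree lc_b_Cert_tree lc_b_rc_6_1 lc_b_Cert_tree lc_b_Cert_tree lc_b_rc_26_5 lc_b_Cert_tree lc_b_Cert_tree lc_b_rc_6_1 lc_b_rc_8_2 lc_b_rc_6_1 lc_b_rc_8_2 lc_b_rc_9_2 lc_b_rc_6_1 lc_b_rc_8_2 lc_b_rc_8_2 lc_b_Cert_tree lc_b_Cert_tree lc_b_Cert_tree lc_b_rc_9_2 lc_b_Cert_tree lc_b_Cert_tree lc_b_rc_8_2 lc_b_rc_7_4 lc_b_Cert_tree lc_b_rc_9_2 lc_b_Cert_tree lc_b_rc_8_2 lc_b_rc_7_4 lc_b_rc_6_1 lc_b_Cert_tree lc_b_rc_26_1 lc_b_rc_8_0 lc_b_Cert_tree lc_b_rc_8_2 lc_b_rc_8_2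 lc_b_rc_9_2 lc_b_rc_26_7 lc_b_Cert_tree lc_b_rc_9_2 lc_b_rc_7_2) (@D3.rec (fun _ => (Cert rels S Gen.b)) lc_b_Cert_tree lc_b_rc_9_2 lc_b_rc_6_1 lc_b_rc_9_2 lc_b_rc_9_2 lc_b_Cert_tree lc_b_Cert_tree lc_b_rc_6_1 lc_b_rc_8_2 lc_b_rc_10_2 lc_b_rc_9_2 lc_b_rc_1_3 lc_b_rc_8_2 lc_b_rc_9_2 lc_b_Cert_tree lc_b_rc_9_2 lc_b_rc_10_2 lc_b_rc_6_1 lc_b_rc_8_2 lc_b_rc_26_7 lc_b_rc_6_1 lc_b_rc_8_2 lc_b_rc_10_2 lc_b_rc_6_1 lc_b_rc_8_2 lc_b_rc_10_2 lc_b_rc_8_2 lc_b_rc_9_2 lc_b_rc_9_0 lc_b_rc_1_3 lc_b_rc_8_2 lc_b_rc_10_2 lc_b_Cert_tree lc_b_Cert_tree lc_b_Cert_tree lc_b_rc_9_2 lc_b_rc_10_2 lc_b_rc_6_1 lc_b_rc_7_2 lc_b_rc_8_2 lc_b_rc_8_0 lc_b_rc_6_1 lc_b_rc_7_2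 lc_b_rc_9_2 lc_b_rc_8_2 lc_b_rc_9_2 lc_b_rc_6_1 lc_b_Cert_tree lc_b_rc_8_2 lc_b_rc_9_2 lc_b_rc_8_2 lc_b_rc_6_1 lc_b_rc_8_2 lc_b_rc_9_2 lc_b_rc_6_1 lc_b_rc_8_2 lc_b_rc_9_2 lc_b_rc_8_2 lc_b_rc_8_2 lc_b_Cert_tree lc_b_rc_7_4 lc_b_rc_9_2) (@D3.rec (fun _ => (Cert rels S Gen.b)) lc_b_Cert_tree lc_b_Cert_tree lc_b_rc_10_2 lc_b_rc_8_2 lc_b_Cert_tree lc_b_Cert_tree lc_b_rc_8_2 lc_b_rc_8_2 lc_b_rc_7_2 lc_b_rc_6_1 lc_b_Cert_tree lc_b_rc_10_2 lc_b_rc_8_2 lc_b_rc_9_2 lc_b_rc_8_2 lc_b_rc_9_2 lc_b_rc_6_1 lc_b_Cert_tree lc_b_rc_9_2 lc_b_rc_6_1 lc_b_rc_8_2 lc_b_rc_9_2 lc_b_Cert_tree lc_b_rc_9_2 lc_b_rc_6_1 lc_b_Cert_tree lc_b_rc_9_2 lc_b_rc_6_1 lc_b_Cert_tree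 lc_b_rc_9_2 lc_b_Cert_tree lc_b_Cert_tree lc_b_rc_6_1 lc_b_rc_8_2 lc_b_rc_7_4 lc_b_rc_9_2 lc_b_rc_7_4 lc_b_rc_9_2 lc_b_Cert_tree lc_b_rc_26_7 lc_b_rc_10_2 lc_b_rc_9_2 lc_b_Cert_tree lc_b_rc_10_2 lc_b_Cert_tree lc_b_Cert_tree lc_b_rc_1_3 lc_b_rc_8_2 lc_b_rc_9_2 lc_b_Cert_tree lc_b_rc_26_5 lc_b_rc_9_2 lc_b_rc_6_1 lc_b_rc_6_1 lc_b_rc_9_0 lc_b_rc_1_3 lc_b_rc_10_2 lc_b_Cert_tree lc_b_rc_6_1 lc_b_Cert_tree lc_b_rc_8_2 lc_b_rc_26_5) (@D3.rec (fun _ => (Cert rels S Gen.b)) lc_b_rc_9_0 lc_b_rc_6_1 lc_b_Cert_tree lc_b_rc_8_2 lc_b_rc_9_2 lc_b_rc_1_3 lc_b_Cert_tree lc_b_Cert_tree lc_b_rc_26_1 lc_b_rc_9_2 lc_b_rc_10_2 lc_b_rc_6_1 lc_b_rc_9_2 lc_b_Cert_tree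 lc_b_Cert_tree lc_b_rc_10_2 lc_b_rc_9_2 lc_b_rc_8_2 lc_b_rc_9_2 lc_b_rc_7_2 lc_b_rc_8_2 lc_b_rc_6_1 lc_b_rc_8_2 lc_b_rc_9_2 lc_b_Cert_tree lc_b_rc_26_5 lc_b_rc_9_0 lc_b_rc_10_0 lc_b_Cert_tree lc_b_rc_8_2 lc_b_rc_9_2 lc_b_rc_6_1 lc_b_rc_1_1 lc_b_rc_9_2 lc_b_Cert_tree lc_b_rc_9_2 lc_b_rc_9_2 lc_b_rc_8_2 lc_b_rc_10_2 lc_b_Cert_tree lc_b_rc_9_2 lc_b_rc_6_1 lc_b_rc_26_1 lc_b_rc_9_2 lc_b_rc_6_1 lc_b_Cert_tree lc_b_rc_9_2 lc_b_Cert_tree lc_b_rc_8_2 lc_b_rc_9_2 lc_b_Cert_tree lc_b_Cert_tree lc_b_rc_10_2 lc_b_rc_6_1 lc_b_rc_8_2 lc_b_rc_9_2 lc_b_rc_6_1 lc_b_rc_8_2 lc_b_Cert_tree lc_b_rc_6_1 lc_b_rc_26_1 lc_b_rc_9_0)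
def ce_b_4 : D2 → D3 → (Cert rels S Gen.b) := @D2.rec (fun _ => D3 → (Cert rels S Gen.b)) (@D3.rec (fun _ => (Cert rels S Gen.b)) lc_b_rc_1_3 lc_b_rc_8_2 lc_b_rc_10_2 lc_b_Cert_tree lc_b_rc_9_2 lc_b_rc_10_2 lc_b_rc_10_0 lc_b_rc_6_1 lc_b_rc_8_2 lc_b_rc_7_4 lc_b_rc_9_2 lc_b_Cert_tree lc_b_Cert_tree lc_b_rc_10_2 lc_b_rc_6_1 lc_b_rc_9_2 lc_b_rc_6_1 lc_b_rc_9_2 lc_b_rc_6_1 lc_b_rc_8_2 lc_b_rc_10_2 lc_b_rc_1_5 lc_b_rc_6_1 lc_b_rc_8_2 lc_b_rc_10_2 lc_b_rc_10_0 lc_b_Cert_tree lc_b_rc_1_3 lc_b_rc_8_2 lc_b_rc_10_2 lc_b_Cert_tree lc_b_rc_9_2 lc_b_rc_10_2 lc_b_rc_9_2 lc_b_rc_6_1 lc_b_Cert_tree lc_b_rc_10_2 lc_b_rc_9_2 lc_b_rc_8_2 lc_b_rc_1_3 lc_b_rc_7_0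 lc_b_rc_7_4 lc_b_rc_8_2 lc_b_rc_1_1 lc_b_rc_6_1 lc_b_rc_7_4 lc_b_rc_8_2 lc_b_rc_9_2 lc_b_rc_8_2 lc_b_rc_6_1 lc_b_Cert_tree lc_b_rc_9_2 lc_b_rc_6_1 lc_b_rc_9_2 lc_b_rc_9_2 lc_b_Cert_tree lc_b_Cert_tree lc_b_rc_10_2 lc_b_rc_8_2 lc_b_rc_9_2 lc_b_Cert_tree lc_b_rc_8_2) (@D3.rec (fun _ => (Cert rels S Gen.b)) lc_b_rc_9_2 lc_b_rc_6_1 lc_b_Cert_tree lc_b_rc_10_2 lc_b_rc_6_1 lc_b_Cert_tree lc_b_rc_9_2 lc_b_Cert_tree lc_b_rc_9_2 lc_b_rc_6_1 lc_b_rc_9_2 lc_b_rc_26_7 lc_b_Cert_tree lc_b_rc_9_2 lc_b_rc_1_5 lc_b_rc_7_4 lc_b_rc_26_7 lc_b_rc_8_2 lc_b_rc_8_2 lc_b_Cert_tree lc_b_rc_9_2 lc_b_rc_6_1 lc_b_rc_8_2 lc_b_rc_6_1 lc_b_rc_8_2 lc_b_rc_6_1 lc_b_rc_8_2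 lc_b_rc_9_2 lc_b_rc_6_1 lc_b_rc_8_2 lc_b_rc_6_1 lc_b_rc_8_2 lc_b_rc_9_2 lc_b_rc_8_2 lc_b_Cert_tree lc_b_Cert_tree lc_b_Cert_tree lc_b_rc_9_2 lc_b_rc_8_2 lc_b_rc_8_2 lc_b_rc_26_5 lc_b_Cert_tree lc_b_rc_9_2 lc_b_Cert_tree lc_b_rc_9_2 lc_b_rc_8_2 lc_b_rc_6_1 lc_b_Cert_tree lc_b_rc_9_2 lc_b_rc_6_1 lc_b_Cert_tree lc_b_rc_9_2 lc_b_Cert_tree lc_b_Cert_tree lc_b_rc_6_1 lc_b_rc_8_2 lc_b_rc_10_2 lc_b_rc_9_2 lc_b_rc_26_7 lc_b_rc_8_2 lc_b_Cert_tree lc_b_rc_9_2) (@D3.rec (fun _ => (Cert rels S Gen.b)) lc_b_rc_9_2 lc_b_Cert_tree lc_b_rc_26_7 lc_b_rc_8_2 lc_b_Cert_tree lc_b_rc_9_2 lc_b_rc_6_1 lc_b_rc_8_2 lc_b_rc_8_2 lc_b_rc_6_1 lc_b_rc_26_7 lc_b_rc_26_5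 lc_b_rc_6_1 lc_b_rc_8_2 lc_b_rc_8_2 lc_b_rc_7_0 lc_b_Cert_tree lc_b_Cert_tree lc_b_rc_9_2 lc_b_rc_8_2 lc_b_rc_10_2 lc_b_Cert_tree lc_b_Cert_tree lc_b_Cert_tree lc_b_rc_9_2 lc_b_rc_10_2 lc_b_rc_9_2 lc_b_rc_9_2 lc_b_rc_8_2 lc_b_rc_6_1 lc_b_rc_8_2 lc_b_rc_10_2 lc_b_rc_9_2 lc_b_rc_26_1 lc_b_rc_26_1 lc_b_Cert_tree lc_b_rc_10_2 lc_b_rc_9_2 lc_b_rc_9_2 lc_b_rc_6_1 lc_b_rc_8_2 lc_b_rc_10_2 lc_b_rc_9_2 lc_b_rc_8_2 lc_b_rc_8_2 lc_b_Cert_tree lc_b_rc_8_2 lc_b_rc_8_2 lc_b_Cert_tree lc_b_rc_8_2 lc_b_rc_9_2 lc_b_Cert_tree lc_b_Cert_tree lc_b_rc_6_1 lc_b_rc_8_2 lc_b_rc_10_2 lc_b_rc_9_2 lc_b_rc_6_1 lc_b_rc_26_5 lc_b_Cert_tree lc_b_rc_9_2 lc_b_rc_6_1) (@D3.rec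 (fun _ => (Cert rels S Gen.b)) lc_b_rc_26_1 lc_b_rc_8_2 lc_b_rc_9_2 lc_b_Cert_tree lc_b_rc_9_2 lc_b_rc_1_3 lc_b_rc_6_1 lc_b_rc_8_0 lc_b_Cert_tree lc_b_rc_8_2 lc_b_rc_9_2 lc_b_Cert_tree lc_b_rc_9_2 lc_b_rc_7_0 lc_b_Cert_tree lc_b_rc_6_1 lc_b_rc_8_2 lc_b_rc_10_2 lc_b_rc_10_2 lc_b_rc_6_1 lc_b_Cert_tree lc_b_rc_9_2 lc_b_rc_9_0 lc_b_rc_10_2 lc_b_Cert_tree lc_b_rc_9_2 lc_b_Cert_tree lc_b_rc_9_2 lc_b_rc_6_1 lc_b_rc_9_2 lc_b_rc_26_7 lc_b_rc_9_2 lc_b_rc_9_2 lc_b_rc_10_2 lc_b_Cert_tree lc_b_rc_8_2 lc_b_rc_8_2 lc_b_rc_26_5 lc_b_rc_26_5 lc_b_rc_8_0 lc_b_Cert_tree lc_b_rc_9_2 lc_b_rc_8_2 lc_b_rc_6_1 lc_b_rc_8_2 lc_b_rc_10_2 lc_b_rc_6_1 lc_b_rc_9_2 lc_b_rc_9_2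 lc_b_rc_8_2 lc_b_rc_8_2 lc_b_rc_10_2 lc_b_Cert_tree lc_b_Cert_tree lc_b_rc_9_2 lc_b_rc_6_1 lc_b_rc_9_2 lc_b_Cert_tree lc_b_rc_26_5 lc_b_rc_9_2 lc_b_rc_10_2 lc_b_rc_1_1) (@D3.rec (fun _ => (Cert rels S Gen.b)) lc_b_Cert_tree lc_b_rc_9_2 lc_b_rc_6_1 lc_b_rc_9_2 lc_b_rc_9_2 lc_b_Cert_tree lc_b_rc_10_2 lc_b_rc_6_1 lc_b_rc_9_2 lc_b_rc_6_1 lc_b_rc_9_2 lc_b_Cert_tree lc_b_Cert_tree lc_b_rc_1_3 lc_b_rc_8_2 lc_b_rc_10_2 lc_b_rc_9_2 lc_b_rc_9_2 lc_b_rc_26_7 lc_b_Cert_tree lc_b_Cert_tree lc_b_rc_9_2 lc_b_rc_6_1 lc_b_Cert_tree lc_b_rc_9_2 lc_b_rc_6_1 lc_b_rc_9_2 lc_b_Cert_tree lc_b_Cert_tree lc_b_rc_8_2 lc_b_rc_10_2 lc_b_rc_6_1 lc_b_rc_8_2 lc_b_rc_7_4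 lc_b_rc_6_1 lc_b_rc_8_2 lc_b_Cert_tree lc_b_rc_9_2 lc_b_rc_10_2 lc_b_rc_6_1 lc_b_rc_9_2 lc_b_Cert_tree lc_b_Cert_tree lc_b_rc_9_2 lc_b_rc_10_2 lc_b_rc_6_1 lc_b_Cert_tree lc_b_rc_8_2 lc_b_rc_6_1 lc_b_rc_8_2 lc_b_rc_6_1 lc_b_rc_6_1 lc_b_rc_6_1 lc_b_rc_7_2 lc_b_rc_1_3 lc_b_rc_8_2 lc_b_rc_10_2 lc_b_Cert_tree lc_b_rc_9_2 lc_b_rc_10_2 lc_b_rc_8_2 lc_b_rc_8_2) (@D3.rec (fun _ => (Cert rels S Gen.b)) lc_b_Cert_tree lc_b_Cert_tree lc_b_rc_8_2 lc_b_rc_8_2 lc_b_rc_6_1 lc_b_Cert_tree lc_b_rc_10_2 lc_b_rc_8_2 lc_b_rc_9_2 lc_b_rc_8_2 lc_b_rc_9_2 lc_b_rc_26_5 lc_b_Cert_tree lc_b_rc_9_2 lc_b_rc_8_2 lc_b_Cert_tree lc_b_rc_9_2 lc_b_rc_6_1 lc_b_Cert_tree lc_b_rc_9_2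 lc_b_rc_6_1 lc_b_Cert_tree lc_b_rc_9_2 lc_b_Cert_tree lc_b_Cert_tree lc_b_rc_10_2 lc_b_rc_8_2 lc_b_rc_9_2 lc_b_rc_9_2 lc_b_Cert_tree lc_b_rc_6_1 lc_b_rc_10_2 lc_b_rc_9_2 lc_b_rc_9_2 lc_b_rc_9_2 lc_b_rc_6_1 lc_b_rc_8_2 lc_b_rc_8_2 lc_b_rc_7_4 lc_b_rc_6_1 lc_b_rc_1_1 lc_b_rc_8_2 lc_b_rc_9_2 lc_b_rc_8_2 lc_b_rc_8_2 lc_b_rc_9_2 lc_b_rc_9_2 lc_b_rc_10_2 lc_b_Cert_tree lc_b_rc_6_1 lc_b_Cert_tree lc_b_rc_26_5 lc_b_rc_8_2 lc_b_rc_10_2 lc_b_rc_6_1 lc_b_rc_10_0 lc_b_rc_8_2 lc_b_rc_9_2 lc_b_rc_1_3 lc_b_rc_8_0 lc_b_Cert_tree lc_b_Cert_tree) (@D3.rec (fun _ => (Cert rels S Gen.b)) lc_b_rc_9_2 lc_b_rc_10_2 lc_b_rc_6_1 lc_b_rc_26_1 lc_b_Cert_tree lc_b_rc_6_1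 lc_b_rc_10_2 lc_b_rc_9_2 lc_b_rc_8_2 lc_b_rc_8_2 lc_b_Cert_tree lc_b_Cert_tree lc_b_rc_8_2 lc_b_rc_8_2 lc_b_rc_26_5 lc_b_Cert_tree lc_b_rc_10_2 lc_b_rc_8_2 lc_b_rc_9_2 lc_b_rc_1_5 lc_b_rc_8_2 lc_b_rc_6_1 lc_b_rc_6_1 lc_b_rc_26_5 lc_b_Cert_tree lc_b_rc_9_2 lc_b_rc_8_2 lc_b_rc_9_2 lc_b_rc_8_2 lc_b_rc_7_2 lc_b_Cert_tree lc_b_rc_9_2 lc_b_rc_6_1 lc_b_Cert_tree lc_b_rc_9_2 lc_b_rc_6_1 lc_b_Cert_tree lc_b_rc_9_2 lc_b_Cert_tree lc_b_Cert_tree lc_b_rc_6_1 lc_b_rc_8_2 lc_b_rc_10_2 lc_b_rc_9_2 lc_b_Cert_tree lc_b_rc_9_2 lc_b_rc_6_1 lc_b_rc_6_1 lc_b_rc_10_2 lc_b_rc_26_1 lc_b_Cert_tree lc_b_rc_9_2 lc_b_rc_6_1 lc_b_rc_9_2 lc_b_rc_7_4 lc_b_rc_9_2 lc_b_Cert_tree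 lc_b_rc_6_1 lc_b_rc_10_2 lc_b_Cert_tree lc_b_Cert_tree lc_b_rc_7_4) (@D3.rec (fun _ => (Cert rels S Gen.b)) lc_b_rc_8_2 lc_b_rc_10_2 lc_b_rc_9_2 lc_b_rc_9_2 lc_b_rc_6_1 lc_b_rc_8_2 lc_b_rc_10_2 lc_b_rc_7_0 lc_b_rc_6_1 lc_b_Cert_tree lc_b_rc_26_1 lc_b_rc_6_1 lc_b_rc_10_0 lc_b_rc_6_1 lc_b_rc_9_2 lc_b_rc_1_3 lc_b_Cert_tree lc_b_rc_8_0 lc_b_rc_26_5 lc_b_rc_9_2 lc_b_rc_10_2 lc_b_rc_6_1 lc_b_rc_9_2 lc_b_rc_6_1 lc_b_rc_7_4 lc_b_rc_10_2 lc_b_Cert_tree lc_b_rc_7_0 lc_b_rc_9_2 lc_b_rc_8_2 lc_b_rc_8_2 lc_b_rc_9_2 lc_b_rc_8_2 lc_b_Cert_tree lc_b_rc_8_0 lc_b_Cert_tree lc_b_rc_8_2 lc_b_Cert_tree lc_b_rc_9_2 lc_b_Cert_tree lc_b_rc_9_2 lc_b_Cert_tree lc_b_Cert_tree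 lc_b_rc_6_1 lc_b_rc_8_2 lc_b_rc_10_2 lc_b_rc_10_0 lc_b_rc_8_2 lc_b_rc_6_1 lc_b_rc_26_1 lc_b_rc_26_1 lc_b_Cert_tree lc_b_rc_10_2 lc_b_rc_8_2 lc_b_rc_6_1 lc_b_rc_8_0 lc_b_Cert_tree lc_b_rc_10_2 lc_b_Cert_tree lc_b_rc_9_2 lc_b_rc_8_2 lc_b_rc_10_2) (@D3.rec (fun _ => (Cert rels S Gen.b)) lc_b_Cert_tree lc_b_rc_9_2 lc_b_Cert_tree lc_b_Cert_tree lc_b_rc_6_1 lc_b_rc_8_2 lc_b_rc_10_2 lc_b_rc_9_2 lc_b_rc_8_2 lc_b_rc_9_2 lc_b_rc_8_2 lc_b_rc_9_2 lc_b_rc_26_5 lc_b_Cert_tree lc_b_rc_9_2 lc_b_Cert_tree lc_b_rc_9_2 lc_b_rc_6_1 lc_b_Cert_tree lc_b_rc_9_2 lc_b_Cert_tree lc_b_rc_9_2 lc_b_Cert_tree lc_b_Cert_tree lc_b_rc_6_1 lc_b_rc_8_2 lc_b_rc_10_2 lc_b_rc_9_2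 lc_b_rc_26_5 lc_b_Cert_tree lc_b_rc_9_2 lc_b_rc_8_2 lc_b_Cert_tree lc_b_rc_26_5 lc_b_Cert_tree lc_b_rc_9_2 lc_b_rc_26_1 lc_b_rc_10_2 lc_b_Cert_tree lc_b_rc_9_2 lc_b_Cert_tree lc_b_rc_9_2 lc_b_Cert_tree lc_b_Cert_tree lc_b_rc_6_1 lc_b_rc_8_2 lc_b_rc_9_2 lc_b_rc_26_5 lc_b_rc_26_7 lc_b_rc_9_2 lc_b_rc_10_2 lc_b_Cert_tree lc_b_rc_8_2 lc_b_rc_26_5 lc_b_rc_1_1 lc_b_rc_8_2 lc_b_rc_26_5 lc_b_rc_8_0 lc_b_rc_26_5 lc_b_Cert_tree lc_b_rc_9_2 lc_b_rc_10_2) (@D3.rec (fun _ => (Cert rels S Gen.b)) lc_b_rc_8_2 lc_b_rc_9_2 lc_b_Cert_tree lc_b_rc_9_2 lc_b_rc_26_1 lc_b_rc_6_1 lc_b_rc_9_0 lc_b_rc_6_1 lc_b_rc_8_2 lc_b_rc_9_2 lc_b_rc_1_1 lc_b_rc_8_2 lc_b_rc_9_2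 lc_b_rc_10_2 lc_b_Cert_tree lc_b_Cert_tree lc_b_rc_8_2 lc_b_rc_9_2 lc_b_Cert_tree lc_b_Cert_tree lc_b_rc_6_1 lc_b_rc_8_2 lc_b_rc_9_2 lc_b_rc_6_1 lc_b_rc_8_2 lc_b_rc_26_5 lc_b_rc_26_7 lc_b_rc_6_1 lc_b_rc_10_2 lc_b_rc_26_1 lc_b_Cert_tree lc_b_rc_9_2 lc_b_rc_6_1 lc_b_rc_8_2 lc_b_rc_9_2 lc_b_rc_9_0 lc_b_rc_9_2 lc_b_rc_9_2 lc_b_rc_8_2 lc_b_rc_10_2 lc_b_rc_6_1 lc_b_rc_26_5 lc_b_rc_8_2 lc_b_rc_9_2 lc_b_rc_6_1 lc_b_rc_8_2 lc_b_rc_9_2 lc_b_Cert_tree lc_b_Cert_tree lc_b_rc_1_3 lc_b_rc_8_2 lc_b_rc_10_2 lc_b_Cert_tree lc_b_Cert_tree lc_b_Cert_tree lc_b_rc_9_2 lc_b_rc_10_2 lc_b_rc_9_2 lc_b_rc_9_2 lc_b_Cert_tree lc_b_Cert_tree lc_b_rc_9_2) (@D3.rec (fun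 _ => (Cert rels S Gen.b)) lc_b_Cert_tree lc_b_rc_9_2 lc_b_rc_9_0 lc_b_rc_8_2 lc_b_rc_8_2 lc_b_rc_26_5 lc_b_Cert_tree lc_b_rc_9_2 lc_b_rc_6_1 lc_b_rc_6_1 lc_b_rc_10_2 lc_b_Cert_tree lc_b_rc_9_2 lc_b_Cert_tree lc_b_rc_9_2 lc_b_Cert_tree lc_b_Cert_tree lc_b_rc_6_1 lc_b_rc_8_2 lc_b_rc_9_2 lc_b_Cert_tree lc_b_rc_8_2 lc_b_rc_10_2 lc_b_rc_6_1 lc_b_rc_9_2 lc_b_rc_6_1 lc_b_rc_26_1 lc_b_rc_9_0 lc_b_rc_9_0 lc_b_rc_1_3 lc_b_rc_9_2 lc_b_rc_1_5 lc_b_rc_6_1 lc_b_rc_26_5 lc_b_rc_6_1 lc_b_rc_9_2 lc_b_rc_8_2 lc_b_Cert_tree lc_b_rc_9_2 lc_b_Cert_tree lc_b_rc_9_2 lc_b_rc_6_1 lc_b_rc_25_4 lc_b_rc_8_0 lc_b_Cert_tree lc_b_Cert_tree lc_b_rc_6_1 lc_b_rc_8_2 lc_b_rc_7_2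 lc_b_Cert_tree lc_b_rc_8_2 lc_b_rc_10_2 lc_b_Cert_tree lc_b_rc_7_2 lc_b_Cert_tree lc_b_rc_1_3 lc_b_rc_26_5 lc_b_Cert_tree lc_b_rc_26_5 lc_b_Cert_tree lc_b_Cert_tree lc_b_rc_10_2) (@D3.rec (fun _ => (Cert rels S Gen.b)) lc_b_rc_6_1 lc_b_Cert_tree lc_b_rc_9_2 lc_b_Cert_tree lc_b_Cert_tree lc_b_rc_6_1 lc_b_rc_8_2 lc_b_rc_9_2 lc_b_Cert_tree lc_b_rc_26_5 lc_b_rc_8_2 lc_b_rc_10_2 lc_b_rc_6_1 lc_b_Cert_tree lc_b_rc_8_2 lc_b_rc_9_2 lc_b_rc_26_5 lc_b_rc_9_0 lc_b_rc_9_0 lc_b_rc_9_2 lc_b_rc_6_1 lc_b_rc_8_2 lc_b_rc_9_2 lc_b_Cert_tree lc_b_Cert_tree lc_b_rc_9_2 lc_b_Cert_tree lc_b_Cert_tree lc_b_rc_6_1 lc_b_rc_8_2 lc_b_rc_10_2 lc_b_rc_26_1 lc_b_Cert_tree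 lc_b_rc_10_2 lc_b_rc_8_2 lc_b_rc_26_1 lc_b_rc_8_2 lc_b_rc_9_2 lc_b_rc_7_0 lc_b_rc_26_5 lc_b_rc_8_2 lc_b_rc_6_1 lc_b_Cert_tree lc_b_Cert_tree lc_b_rc_1_3 lc_b_rc_7_4 lc_b_rc_1_3 lc_b_Cert_tree lc_b_rc_6_1 lc_b_Cert_tree lc_b_rc_8_2 lc_b_rc_8_0 lc_b_rc_6_1 lc_b_rc_6_1 lc_b_Cert_tree lc_b_rc_26_1 lc_b_rc_26_5 lc_b_rc_1_3 lc_b_rc_26_1 lc_b_Cert_tree lc_b_rc_7_4 lc_b_rc_9_2) (@D3.rec (fun _ => (Cert rels S Gen.b)) lc_b_rc_9_2 lc_b_rc_8_0 lc_b_rc_9_0 lc_b_rc_6_1 lc_b_Cert_tree lc_b_rc_8_2 lc_b_rc_9_2 lc_b_rc_6_1 lc_b_rc_6_1 lc_b_rc_8_2 lc_b_rc_8_2 lc_b_rc_8_2 lc_b_Cert_tree lc_b_rc_9_2 lc_b_Cert_tree lc_b_rc_9_2 lc_b_rc_9_0 lc_b_rc_6_1 lc_b_rc_6_1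 lc_b_Cert_tree lc_b_rc_9_2 lc_b_rc_6_1 lc_b_Cert_tree lc_b_rc_9_2 lc_b_Cert_tree lc_b_Cert_tree lc_b_rc_6_1 lc_b_rc_8_2 lc_b_rc_25_16 lc_b_Cert_tree lc_b_Cert_tree lc_b_rc_10_2 lc_b_rc_26_1 lc_b_rc_6_1 lc_b_rc_8_2 lc_b_Cert_tree lc_b_rc_9_2 lc_b_rc_6_1 lc_b_rc_9_2 lc_b_Cert_tree lc_b_rc_6_1 lc_b_rc_10_2 lc_b_Cert_tree lc_b_rc_9_2 lc_b_rc_6_1 lc_b_rc_9_2 lc_b_Cert_tree lc_b_Cert_tree lc_b_rc_6_1 lc_b_rc_10_2 lc_b_rc_6_1 lc_b_rc_1_5 lc_b_rc_9_2 lc_b_rc_6_1 lc_b_rc_6_1 lc_b_rc_8_2 lc_b_Cert_tree lc_b_rc_9_2 lc_b_Cert_tree lc_b_rc_9_2 lc_b_rc_6_1 lc_b_rc_1_3) (@D3.rec (fun _ => (Cert rels S Gen.b)) lc_b_rc_6_1 lc_b_Cert_tree lc_b_rc_9_2 lc_b_rc_6_1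 lc_b_Cert_tree lc_b_rc_9_2 lc_b_Cert_tree lc_b_Cert_tree lc_b_rc_6_1 lc_b_rc_8_2 lc_b_rc_10_2 lc_b_Cert_tree lc_b_rc_10_2 lc_b_rc_6_1 lc_b_rc_8_0 lc_b_rc_9_2 lc_b_Cert_tree lc_b_Cert_tree lc_b_rc_9_0 lc_b_rc_8_0 lc_b_rc_6_1 lc_b_rc_26_5 lc_b_rc_6_1 lc_b_rc_1_3 lc_b_rc_8_2 lc_b_Cert_tree lc_b_rc_6_1 lc_b_rc_6_1 lc_b_Cert_tree lc_b_rc_26_5 lc_b_rc_1_3 lc_b_rc_8_2 lc_b_rc_10_2 lc_b_Cert_tree lc_b_rc_9_2 lc_b_rc_10_2 lc_b_rc_8_2 lc_b_rc_8_2 lc_b_rc_9_2 lc_b_rc_26_5 lc_b_Cert_tree lc_b_rc_10_2 lc_b_rc_8_2 lc_b_rc_10_2 lc_b_rc_8_2 lc_b_rc_9_2 lc_b_rc_26_5 lc_b_Cert_tree lc_b_rc_10_2 lc_b_rc_8_2 lc_b_rc_9_2 lc_b_rc_6_1 lc_b_Cert_tree lc_b_rc_8_2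 lc_b_rc_26_1 lc_b_rc_8_0 lc_b_Cert_tree lc_b_rc_10_2 lc_b_rc_8_2 lc_b_rc_9_2 lc_b_rc_8_2 lc_b_Cert_tree) (@D3.rec (fun _ => (Cert rels S Gen.b)) lc_b_rc_9_2 lc_b_rc_1_5 lc_b_rc_8_2 lc_b_rc_9_2 lc_b_rc_8_2 lc_b_rc_9_2 lc_b_Cert_tree lc_b_rc_9_2 lc_b_rc_9_0 lc_b_Cert_tree lc_b_rc_9_2 lc_b_rc_6_1 lc_b_Cert_tree lc_b_rc_9_2 lc_b_Cert_tree lc_b_rc_6_1 lc_b_rc_8_2 lc_b_rc_10_2 lc_b_rc_9_2 lc_b_Cert_tree lc_b_rc_9_2 lc_b_Cert_tree lc_b_rc_9_2 lc_b_rc_6_1 lc_b_rc_8_2 lc_b_rc_10_2 lc_b_rc_9_2 lc_b_rc_6_1 lc_b_rc_7_2 lc_b_Cert_tree lc_b_rc_6_1 lc_b_rc_9_2 lc_b_rc_10_2 lc_b_Cert_tree lc_b_Cert_tree lc_b_rc_9_2 lc_b_rc_6_1 lc_b_rc_9_2 lc_b_Cert_tree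 lc_b_rc_9_2 lc_b_rc_6_1 lc_b_rc_10_2 lc_b_rc_9_2 lc_b_rc_8_2 lc_b_Cert_tree lc_b_rc_10_2 lc_b_Cert_tree lc_b_Cert_tree lc_b_rc_1_3 lc_b_rc_8_2 lc_b_rc_10_2 lc_b_rc_9_2 lc_b_rc_9_2 lc_b_rc_9_2 lc_b_rc_8_2 lc_b_Cert_tree lc_b_rc_9_2 lc_b_Cert_tree lc_b_rc_9_2 lc_b_Cert_tree lc_b_Cert_tree lc_b_rc_6_1) (@D3.rec (fun _ => (Cert rels S Gen.b)) lc_b_rc_8_2 lc_b_rc_10_2 lc_b_rc_9_2 lc_b_rc_9_2 lc_b_rc_26_5 lc_b_Cert_tree lc_b_rc_10_2 lc_b_Cert_tree lc_b_rc_9_2 lc_b_rc_8_0 lc_b_rc_10_2 lc_b_Cert_tree lc_b_rc_9_2 lc_b_Cert_tree lc_b_Cert_tree lc_b_rc_6_1 lc_b_rc_8_2 lc_b_rc_10_2 lc_b_rc_9_2 lc_b_rc_8_2 lc_b_rc_9_2 lc_b_rc_26_5 lc_b_Cert_tree lc_b_rc_9_2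 lc_b_Cert_tree lc_b_rc_9_2 lc_b_rc_6_1 lc_b_Cert_tree lc_b_rc_9_2 lc_b_Cert_tree lc_b_rc_9_2 lc_b_Cert_tree lc_b_Cert_tree lc_b_rc_6_1 lc_b_rc_8_2 lc_b_rc_10_2 lc_b_rc_9_2 lc_b_Cert_tree lc_b_rc_9_2 lc_b_Cert_tree lc_b_rc_9_2 lc_b_Cert_tree lc_b_Cert_tree lc_b_rc_6_1 lc_b_rc_8_2 lc_b_rc_9_2 lc_b_rc_6_1 lc_b_rc_26_5 lc_b_rc_8_2 lc_b_rc_10_2 lc_b_Cert_tree lc_b_rc_8_2 lc_b_rc_9_2 lc_b_rc_6_1 lc_b_Cert_tree lc_b_rc_9_2 lc_b_rc_10_2 lc_b_Cert_tree lc_b_rc_9_2 lc_b_rc_6_1 lc_b_rc_8_2 lc_b_rc_9_2) (@D3.rec (fun _ => (Cert rels S Gen.b)) lc_b_rc_8_0 lc_b_rc_8_2 lc_b_rc_10_2 lc_b_Cert_tree lc_b_Cert_tree lc_b_rc_6_1 lc_b_rc_8_2 lc_b_rc_9_2 lc_b_rc_6_1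 lc_b_rc_9_2 lc_b_rc_8_2 lc_b_rc_10_2 lc_b_Cert_tree lc_b_rc_9_2 lc_b_rc_6_1 lc_b_rc_8_2 lc_b_rc_9_2 lc_b_rc_9_2 lc_b_rc_9_2 lc_b_rc_9_2 lc_b_rc_10_2 lc_b_rc_6_1 lc_b_Cert_tree lc_b_rc_8_2 lc_b_rc_9_2 lc_b_rc_6_1 lc_b_rc_26_7 lc_b_rc_8_2 lc_b_rc_9_2 lc_b_Cert_tree lc_b_Cert_tree lc_b_rc_1_3 lc_b_rc_8_2 lc_b_Cert_tree lc_b_Cert_tree lc_b_Cert_tree lc_b_rc_9_2 lc_b_rc_8_2 lc_b_rc_9_2 lc_b_rc_9_2 lc_b_Cert_tree lc_b_rc_8_2 lc_b_Cert_tree lc_b_rc_9_2 lc_b_Cert_tree lc_b_rc_9_2 lc_b_Cert_tree lc_b_rc_9_2 lc_b_rc_6_1 lc_b_Cert_tree lc_b_rc_9_2 lc_b_Cert_tree lc_b_Cert_tree lc_b_rc_6_1 lc_b_rc_8_2 lc_b_rc_8_2 lc_b_Cert_tree lc_b_Cert_tree lc_b_rc_10_2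 lc_b_rc_6_1 lc_b_rc_6_1 lc_b_Cert_tree) (@D3.rec (fun _ => (Cert rels S Gen.b)) lc_b_rc_9_2 lc_b_rc_6_1 lc_b_Cert_tree lc_b_rc_6_1 lc_b_rc_10_2 lc_b_rc_6_1 lc_b_rc_9_2 lc_b_rc_6_1 lc_b_Cert_tree lc_b_rc_1_3 lc_b_rc_6_1 lc_b_rc_9_2 lc_b_Cert_tree lc_b_rc_9_2 lc_b_Cert_tree lc_b_rc_9_2 lc_b_rc_7_2 lc_b_rc_6_1 lc_b_Cert_tree lc_b_rc_8_0 lc_b_Cert_tree lc_b_rc_9_2 lc_b_Cert_tree lc_b_Cert_tree lc_b_rc_6_1 lc_b_rc_8_2 lc_b_rc_9_2 lc_b_Cert_tree lc_b_rc_10_2 lc_b_rc_6_1 lc_b_rc_7_2 lc_b_Cert_tree lc_b_rc_1_3 lc_b_rc_9_2 lc_b_rc_26_1 lc_b_rc_8_0 lc_b_Cert_tree lc_b_Cert_tree lc_b_rc_9_2 lc_b_Cert_tree lc_b_Cert_tree lc_b_rc_6_1 lc_b_rc_8_2 lc_b_rc_9_2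 lc_b_Cert_tree lc_b_Cert_tree lc_b_rc_10_2 lc_b_rc_7_2 lc_b_Cert_tree lc_b_rc_8_2 lc_b_rc_9_2 lc_b_rc_8_0 lc_b_rc_9_2 lc_b_rc_9_2 lc_b_rc_8_0 lc_b_rc_6_1 lc_b_rc_8_2 lc_b_Cert_tree lc_b_rc_8_2 lc_b_rc_8_2 lc_b_Cert_tree lc_b_rc_9_2) (@D3.rec (fun _ => (Cert rels S Gen.b)) lc_b_Cert_tree lc_b_Cert_tree lc_b_rc_6_1 lc_b_rc_8_2 lc_b_rc_7_2 lc_b_Cert_tree lc_b_rc_9_2 lc_b_rc_10_2 lc_b_rc_26_5 lc_b_Cert_tree lc_b_rc_1_3 lc_b_rc_26_5 lc_b_rc_25_16 lc_b_rc_8_2 lc_b_rc_6_1 lc_b_Cert_tree lc_b_Cert_tree lc_b_rc_1_3 lc_b_rc_6_1 lc_b_Cert_tree lc_b_Cert_tree lc_b_rc_1_3 lc_b_rc_7_4 lc_b_rc_6_1 lc_b_Cert_tree lc_b_rc_8_2 lc_b_rc_9_2 lc_b_rc_6_1 lc_b_Cert_tree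 lc_b_rc_26_5 lc_b_rc_9_2 lc_b_rc_6_1 lc_b_Cert_tree lc_b_rc_8_2 lc_b_rc_9_2 lc_b_rc_8_2 lc_b_rc_8_2 lc_b_Cert_tree lc_b_rc_9_2 lc_b_Cert_tree lc_b_rc_9_2 lc_b_rc_26_1 lc_b_rc_6_1 lc_b_Cert_tree lc_b_rc_9_2 lc_b_Cert_tree lc_b_rc_9_2 lc_b_Cert_tree lc_b_rc_8_0 lc_b_rc_6_1 lc_b_rc_8_2 lc_b_rc_26_7 lc_b_Cert_tree lc_b_Cert_tree lc_b_rc_10_2 lc_b_rc_6_1 lc_b_rc_26_5 lc_b_rc_6_1 lc_b_rc_26_5 lc_b_rc_8_2 lc_b_rc_7_4 lc_b_rc_9_2) (@D3.rec (fun _ => (Cert rels S Gen.b)) lc_b_rc_9_0 lc_b_rc_6_1 lc_b_rc_6_1 lc_b_rc_9_2 lc_b_rc_8_0 lc_b_rc_9_2 lc_b_rc_6_1 lc_b_rc_26_5 lc_b_rc_9_2 lc_b_rc_9_2 lc_b_rc_9_2 lc_b_rc_6_1 lc_b_rc_9_2 lc_b_Cert_tree lc_b_rc_8_0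 lc_b_rc_9_2 lc_b_rc_10_2 lc_b_rc_6_1 lc_b_Cert_tree lc_b_rc_6_1 lc_b_rc_8_2 lc_b_rc_8_2 lc_b_Cert_tree lc_b_rc_9_2 lc_b_Cert_tree lc_b_rc_9_2 lc_b_rc_1_3 lc_b_rc_6_1 lc_b_Cert_tree lc_b_rc_9_2 lc_b_rc_6_1 lc_b_Cert_tree lc_b_rc_9_2 lc_b_Cert_tree lc_b_Cert_tree lc_b_rc_6_1 lc_b_rc_8_2 lc_b_rc_7_2 lc_b_Cert_tree lc_b_rc_8_2 lc_b_rc_10_2 lc_b_rc_6_1 lc_b_rc_8_0 lc_b_rc_26_7 lc_b_rc_7_4 lc_b_rc_6_1 lc_b_Cert_tree lc_b_rc_26_5 lc_b_rc_10_2 lc_b_rc_26_1 lc_b_rc_6_1 lc_b_rc_10_0 lc_b_Cert_tree lc_b_rc_1_3 lc_b_Cert_tree lc_b_rc_9_2 lc_b_Cert_tree lc_b_rc_9_2 lc_b_Cert_tree lc_b_rc_8_2 lc_b_rc_6_1 lc_b_rc_8_2) (@D3.rec (fun _ => (Cert rels S Gen.b))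 lc_b_rc_10_2 lc_b_rc_9_2 lc_b_Cert_tree lc_b_rc_8_2 lc_b_rc_6_1 lc_b_rc_8_2 lc_b_rc_8_2 lc_b_rc_6_1 lc_b_rc_8_2 lc_b_rc_9_2 lc_b_rc_9_0 lc_b_rc_6_1 lc_b_rc_1_3 lc_b_rc_8_2 lc_b_rc_10_2 lc_b_Cert_tree lc_b_Cert_tree lc_b_rc_9_2 lc_b_rc_10_2 lc_b_rc_6_1 lc_b_rc_8_0 lc_b_Cert_tree lc_b_rc_10_2 lc_b_Cert_tree lc_b_rc_9_2 lc_b_Cert_tree lc_b_rc_6_1 lc_b_rc_8_2 lc_b_rc_10_2 lc_b_rc_9_2 lc_b_Cert_tree lc_b_rc_9_2 lc_b_rc_8_2 lc_b_rc_9_2 lc_b_rc_7_4 lc_b_rc_6_1 lc_b_rc_8_2 lc_b_rc_10_0 lc_b_rc_1_3 lc_b_rc_8_2 lc_b_rc_10_2 lc_b_rc_8_2 lc_b_rc_8_2 lc_b_Cert_tree lc_b_rc_9_2 lc_b_rc_10_2 lc_b_Cert_tree lc_b_rc_9_2 lc_b_rc_9_2 lc_b_rc_6_1 lc_b_rc_8_2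 lc_b_rc_10_2 lc_b_rc_9_2 lc_b_Cert_tree lc_b_rc_10_2 lc_b_rc_9_2 lc_b_Cert_tree lc_b_rc_9_2 lc_b_rc_6_1 lc_b_rc_8_2 lc_b_rc_10_2 lc_b_rc_9_2) (@D3.rec (fun _ => (Cert rels S Gen.b)) lc_b_Cert_tree lc_b_rc_10_2 lc_b_Cert_tree lc_b_Cert_tree lc_b_rc_8_2 lc_b_rc_9_2 lc_b_Cert_tree lc_b_rc_9_2 lc_b_rc_7_2 lc_b_rc_8_2 lc_b_rc_10_2 lc_b_Cert_tree lc_b_rc_9_2 lc_b_Cert_tree lc_b_rc_6_1 lc_b_rc_8_2 lc_b_rc_10_2 lc_b_rc_9_2 lc_b_Cert_tree lc_b_rc_8_2 lc_b_rc_6_1 lc_b_rc_6_1 lc_b_rc_1_5 lc_b_Cert_tree lc_b_rc_9_2 lc_b_rc_6_1 lc_b_rc_8_2 lc_b_rc_10_2 lc_b_rc_9_2 lc_b_Cert_tree lc_b_rc_9_2 lc_b_Cert_tree lc_b_rc_6_1 lc_b_rc_8_2 lc_b_rc_9_2 lc_b_rc_9_2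 lc_b_rc_8_2 lc_b_rc_10_2 lc_b_rc_6_1 lc_b_Cert_tree lc_b_rc_9_2 lc_b_rc_6_1 lc_b_rc_8_2 lc_b_rc_9_2 lc_b_rc_26_5 lc_b_rc_6_1 lc_b_rc_10_2 lc_b_rc_6_1 lc_b_rc_8_2 lc_b_rc_9_2 lc_b_rc_26_7 lc_b_rc_26_7 lc_b_rc_8_2 lc_b_rc_10_2 lc_b_Cert_tree lc_b_rc_9_2 lc_b_rc_6_1 lc_b_rc_8_2 lc_b_rc_9_2 lc_b_rc_8_2 lc_b_rc_9_0 lc_b_rc_10_2) (@D3.rec (fun _ => (Cert rels S Gen.b)) lc_b_rc_6_1 lc_b_rc_8_2 lc_b_rc_9_2 lc_b_rc_6_1 lc_b_rc_8_2 lc_b_rc_9_2 lc_b_Cert_tree lc_b_Cert_tree lc_b_rc_1_3 lc_b_rc_8_2 lc_b_rc_10_2 lc_b_Cert_tree lc_b_Cert_tree lc_b_rc_9_2 lc_b_rc_9_2 lc_b_rc_26_5 lc_b_rc_9_2 lc_b_rc_26_5 lc_b_Cert_tree lc_b_rc_9_2 lc_b_rc_9_0 lc_b_rc_10_2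 lc_b_rc_6_1 lc_b_rc_9_2 lc_b_rc_26_5 lc_b_rc_10_2 lc_b_rc_6_1 lc_b_rc_8_2 lc_b_rc_8_2 lc_b_Cert_tree lc_b_rc_7_4 lc_b_rc_1_3 lc_b_rc_8_2 lc_b_rc_9_2 lc_b_rc_9_2 lc_b_Cert_tree lc_b_Cert_tree lc_b_rc_8_2 lc_b_Cert_tree lc_b_rc_6_1 lc_b_Cert_tree lc_b_rc_9_2 lc_b_rc_6_1 lc_b_rc_9_2 lc_b_rc_6_1 lc_b_rc_10_2 lc_b_rc_6_1 lc_b_Cert_tree lc_b_rc_1_3 lc_b_rc_8_2 lc_b_rc_9_2 lc_b_rc_7_2 lc_b_rc_6_1 lc_b_rc_10_2 lc_b_rc_8_2 lc_b_rc_9_2 lc_b_Cert_tree lc_b_rc_8_2 lc_b_rc_9_2 lc_b_rc_1_5 lc_b_rc_8_2 lc_b_rc_26_5) (@D3.rec (fun _ => (Cert rels S Gen.b)) lc_b_rc_26_7 lc_b_rc_6_1 lc_b_rc_6_1 lc_b_rc_6_1 lc_b_rc_8_2 lc_b_rc_8_0 lc_b_rc_7_4 lc_b_Cert_tree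 lc_b_rc_8_2 lc_b_rc_9_2 lc_b_rc_8_2 lc_b_rc_10_2 lc_b_rc_8_2 lc_b_Cert_tree lc_b_rc_8_2 lc_b_rc_8_0 lc_b_rc_7_2 lc_b_Cert_tree lc_b_rc_6_1 lc_b_rc_10_2 lc_b_rc_8_2 lc_b_rc_6_1 lc_b_rc_9_2 lc_b_rc_6_1 lc_b_rc_26_1 lc_b_rc_8_2 lc_b_rc_9_2 lc_b_rc_1_3 lc_b_Cert_tree lc_b_Cert_tree lc_b_Cert_tree lc_b_rc_9_2 lc_b_rc_10_2 lc_b_rc_9_2 lc_b_rc_6_1 lc_b_rc_9_2 lc_b_rc_6_1 lc_b_rc_9_2 lc_b_rc_6_1 lc_b_rc_9_2 lc_b_Cert_tree lc_b_Cert_tree lc_b_rc_10_2 lc_b_rc_9_2 lc_b_rc_8_2 lc_b_rc_6_1 lc_b_rc_8_2 lc_b_rc_26_7 lc_b_rc_8_2 lc_b_rc_9_2 lc_b_rc_9_2 lc_b_rc_8_2 lc_b_rc_8_2 lc_b_rc_9_2 lc_b_rc_6_1 lc_b_rc_26_5 lc_b_rc_6_1 lc_b_rc_9_2 lc_b_rc_8_2 lc_b_Cert_tree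 lc_b_rc_26_1 lc_b_rc_6_1) (@D3.rec (fun _ => (Cert rels S Gen.b)) lc_b_rc_9_2 lc_b_rc_6_1 lc_b_rc_6_1 lc_b_rc_10_2 lc_b_Cert_tree lc_b_Cert_tree lc_b_rc_9_2 lc_b_rc_10_2 lc_b_rc_6_1 lc_b_rc_9_2 lc_b_rc_26_1 lc_b_rc_7_4 lc_b_rc_8_2 lc_b_rc_9_2 lc_b_rc_6_1 lc_b_rc_26_1 lc_b_rc_9_2 lc_b_rc_1_3 lc_b_rc_1_1 lc_b_rc_6_1 lc_b_Cert_tree lc_b_rc_7_4 lc_b_rc_9_2 lc_b_rc_8_2 lc_b_Cert_tree lc_b_Cert_tree lc_b_rc_8_2 lc_b_rc_10_2 lc_b_rc_8_2 lc_b_rc_8_0 lc_b_rc_1_5 lc_b_rc_9_0 lc_b_rc_8_2 lc_b_rc_6_1 lc_b_rc_9_2 lc_b_rc_8_2 lc_b_rc_7_4 lc_b_rc_9_2 lc_b_Cert_tree lc_b_Cert_tree lc_b_rc_10_2 lc_b_rc_7_4 lc_b_rc_6_1 lc_b_rc_26_5 lc_b_rc_1_3 lc_b_rc_9_2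 lc_b_rc_7_0 lc_b_rc_26_1 lc_b_rc_7_4 lc_b_rc_9_2 lc_b_rc_6_1 lc_b_rc_7_0 lc_b_rc_8_2 lc_b_rc_10_2 lc_b_Cert_tree lc_b_Cert_tree lc_b_rc_8_2 lc_b_rc_10_2 lc_b_rc_8_2 lc_b_rc_6_1 lc_b_rc_8_2 lc_b_Cert_tree) (@D3.rec (fun _ => (Cert rels S Gen.b)) lc_b_Cert_tree lc_b_Cert_tree lc_b_rc_10_2 lc_b_rc_6_1 lc_b_rc_8_2 lc_b_rc_6_1 lc_b_rc_8_2 lc_b_Cert_tree lc_b_Cert_tree lc_b_rc_8_2 lc_b_rc_10_2 lc_b_Cert_tree lc_b_rc_10_2 lc_b_rc_6_1 lc_b_rc_26_7 lc_b_rc_8_2 lc_b_rc_6_1 lc_b_rc_26_5 lc_b_rc_8_2 lc_b_rc_9_2 lc_b_rc_1_3 lc_b_rc_9_2 lc_b_Cert_tree lc_b_Cert_tree lc_b_rc_6_1 lc_b_rc_9_2 lc_b_rc_9_0 lc_b_Cert_tree lc_b_rc_8_2 lc_b_rc_10_2 lc_b_Cert_tree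 lc_b_rc_10_2 lc_b_rc_8_2 lc_b_rc_10_2 lc_b_Cert_tree lc_b_Cert_tree lc_b_Cert_tree lc_b_rc_10_2 lc_b_rc_1_3 lc_b_rc_26_1 lc_b_rc_6_1 lc_b_rc_8_2 lc_b_rc_9_2 lc_b_rc_6_1 lc_b_rc_8_2 lc_b_rc_9_2 lc_b_rc_7_2 lc_b_rc_6_1 lc_b_rc_26_1 lc_b_rc_26_1 lc_b_rc_6_1 lc_b_rc_1_5 lc_b_rc_1_5 lc_b_rc_9_2 lc_b_rc_6_1 lc_b_rc_1_5 lc_b_rc_8_2 lc_b_rc_10_2 lc_b_rc_9_2 lc_b_rc_8_2 lc_b_rc_9_2 lc_b_rc_8_2) (@D3.rec (fun _ => (Cert rels S Gen.b)) lc_b_rc_9_2 lc_b_Cert_tree lc_b_rc_9_2 lc_b_rc_7_0 lc_b_rc_8_2 lc_b_rc_7_4 lc_b_Cert_tree lc_b_rc_8_2 lc_b_Cert_tree lc_b_rc_9_2 lc_b_rc_6_1 lc_b_rc_25_4 lc_b_rc_9_2 lc_b_rc_6_1 lc_b_Cert_tree lc_b_rc_9_2 lc_b_Cert_tree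 lc_b_rc_6_1 lc_b_rc_6_1 lc_b_rc_8_2 lc_b_rc_6_1 lc_b_rc_6_1 lc_b_Cert_tree lc_b_Cert_tree lc_b_rc_10_2 lc_b_rc_9_2 lc_b_Cert_tree lc_b_rc_8_2 lc_b_rc_10_2 lc_b_rc_7_4 lc_b_rc_9_2 lc_b_rc_7_2 lc_b_Cert_tree lc_b_rc_8_2 lc_b_rc_10_2 lc_b_rc_7_2 lc_b_rc_8_2 lc_b_rc_1_3 lc_b_rc_9_2 lc_b_Cert_tree lc_b_Cert_tree lc_b_rc_8_2 lc_b_rc_10_2 lc_b_rc_6_1 lc_b_Cert_tree lc_b_rc_8_2 lc_b_rc_9_2 lc_b_rc_6_1 lc_b_Cert_tree lc_b_rc_8_2 lc_b_rc_9_2 lc_b_rc_9_2 lc_b_Cert_tree lc_b_Cert_tree lc_b_rc_8_2 lc_b_rc_8_2 lc_b_rc_6_1 lc_b_rc_8_2 lc_b_rc_26_1 lc_b_Cert_tree lc_b_rc_8_2 lc_b_Cert_tree) (@D3.rec (fun _ => (Cert rels S Gen.b)) lc_b_rc_6_1 lc_b_rc_8_2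 lc_b_rc_26_5 lc_b_Cert_tree lc_b_rc_6_1 lc_b_rc_8_2 lc_b_rc_6_1 lc_b_rc_8_2 lc_b_rc_8_2 lc_b_rc_6_1 lc_b_Cert_tree lc_b_rc_10_2 lc_b_Cert_tree lc_b_rc_9_2 lc_b_Cert_tree lc_b_rc_9_2 lc_b_Cert_tree lc_b_Cert_tree lc_b_rc_6_1 lc_b_rc_8_2 lc_b_rc_10_2 lc_b_rc_9_2 lc_b_Cert_tree lc_b_rc_9_2 lc_b_Cert_tree lc_b_rc_9_2 lc_b_Cert_tree lc_b_Cert_tree lc_b_rc_6_1 lc_b_rc_8_2 lc_b_rc_10_2 lc_b_rc_9_2 lc_b_Cert_tree lc_b_rc_9_2 lc_b_Cert_tree lc_b_rc_9_2 lc_b_Cert_tree lc_b_Cert_tree lc_b_rc_6_1 lc_b_rc_8_2 lc_b_rc_10_2 lc_b_rc_9_2 lc_b_Cert_tree lc_b_rc_9_2 lc_b_rc_6_1 lc_b_rc_10_2 lc_b_Cert_tree lc_b_rc_9_2 lc_b_Cert_tree lc_b_rc_9_2 lc_b_Cert_tree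 lc_b_Cert_tree lc_b_rc_6_1 lc_b_rc_8_2 lc_b_rc_9_2 lc_b_rc_6_1 lc_b_rc_26_5 lc_b_rc_9_2 lc_b_rc_10_2 lc_b_Cert_tree lc_b_rc_6_1 lc_b_rc_8_2) (@D3.rec (fun _ => (Cert rels S Gen.b)) lc_b_rc_9_2 lc_b_rc_8_0 lc_b_rc_8_0 lc_b_rc_10_2 lc_b_Cert_tree lc_b_rc_9_2 lc_b_Cert_tree lc_b_Cert_tree lc_b_rc_6_1 lc_b_rc_8_2 lc_b_rc_9_2 lc_b_rc_8_2 lc_b_rc_26_5 lc_b_rc_8_2 lc_b_rc_10_2 lc_b_rc_6_1 lc_b_rc_8_2 lc_b_rc_9_2 lc_b_rc_9_2 lc_b_rc_9_2 lc_b_rc_8_2 lc_b_rc_10_2 lc_b_rc_6_1 lc_b_rc_26_7 lc_b_rc_26_1 lc_b_rc_9_2 lc_b_rc_6_1 lc_b_rc_26_5 lc_b_rc_8_2 lc_b_rc_9_2 lc_b_Cert_tree lc_b_Cert_tree lc_b_rc_1_3 lc_b_rc_8_2 lc_b_rc_10_2 lc_b_Cert_tree lc_b_Cert_tree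 lc_b_Cert_tree lc_b_rc_9_2 lc_b_rc_10_2 lc_b_rc_9_2 lc_b_Cert_tree lc_b_rc_8_2 lc_b_Cert_tree lc_b_rc_9_2 lc_b_Cert_tree lc_b_rc_9_2 lc_b_Cert_tree lc_b_Cert_tree lc_b_rc_6_1 lc_b_rc_8_2 lc_b_rc_7_4 lc_b_rc_9_2 lc_b_rc_26_7 lc_b_rc_10_2 lc_b_rc_6_1 lc_b_rc_9_2 lc_b_Cert_tree lc_b_Cert_tree lc_b_rc_1_3 lc_b_rc_8_2 lc_b_rc_6_1) (@D3.rec (fun _ => (Cert rels S Gen.b)) lc_b_rc_9_2 lc_b_rc_8_2 lc_b_Cert_tree lc_b_rc_9_2 lc_b_rc_6_1 lc_b_Cert_tree lc_b_rc_8_0 lc_b_Cert_tree lc_b_Cert_tree lc_b_rc_6_1 lc_b_rc_8_2 lc_b_rc_9_2 lc_b_rc_8_0 lc_b_rc_9_2 lc_b_rc_10_2 lc_b_Cert_tree lc_b_Cert_tree lc_b_rc_1_3 lc_b_rc_8_2 lc_b_rc_9_2 lc_b_rc_9_2 lc_b_rc_8_2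 lc_b_Cert_tree lc_b_rc_9_2 lc_b_Cert_tree lc_b_Cert_tree lc_b_rc_6_1 lc_b_rc_8_2 lc_b_rc_9_2 lc_b_rc_6_1 lc_b_Cert_tree lc_b_rc_8_2 lc_b_rc_10_2 lc_b_Cert_tree lc_b_Cert_tree lc_b_rc_1_3 lc_b_rc_8_2 lc_b_rc_9_2 lc_b_rc_9_2 lc_b_rc_9_0 lc_b_Cert_tree lc_b_rc_8_2 lc_b_rc_10_2 lc_b_rc_6_1 lc_b_rc_8_2 lc_b_Cert_tree lc_b_rc_8_2 lc_b_rc_9_2 lc_b_Cert_tree lc_b_rc_9_2 lc_b_rc_6_1 lc_b_rc_8_2 lc_b_rc_9_2 lc_b_rc_8_2 lc_b_rc_26_5 lc_b_rc_10_2 lc_b_Cert_tree lc_b_Cert_tree lc_b_rc_8_2 lc_b_rc_8_2 lc_b_rc_9_2 lc_b_Cert_tree) (@D3.rec (fun _ => (Cert rels S Gen.b)) lc_b_Cert_tree lc_b_rc_8_2 lc_b_rc_6_1 lc_b_Cert_tree lc_b_Cert_tree lc_b_Cert_tree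 lc_b_rc_1_3 lc_b_rc_8_2 lc_b_rc_9_2 lc_b_rc_9_2 lc_b_rc_8_2 lc_b_rc_10_2 lc_b_Cert_tree lc_b_rc_8_2 lc_b_rc_1_3 lc_b_rc_7_4 lc_b_rc_8_2 lc_b_rc_9_2 lc_b_rc_9_2 lc_b_rc_1_3 lc_b_Cert_tree lc_b_rc_6_1 lc_b_rc_9_0 lc_b_rc_8_2 lc_b_rc_1_5 lc_b_rc_26_7 lc_b_rc_6_1 lc_b_Cert_tree lc_b_rc_8_2 lc_b_rc_9_2 lc_b_rc_1_3 lc_b_rc_26_5 lc_b_Cert_tree lc_b_rc_7_4 lc_b_rc_9_2 lc_b_rc_9_2 lc_b_rc_6_1 lc_b_rc_6_1 lc_b_rc_26_5 lc_b_Cert_tree lc_b_Cert_tree lc_b_rc_10_2 lc_b_Cert_tree lc_b_Cert_tree lc_b_rc_8_2 lc_b_rc_6_1 lc_b_Cert_tree lc_b_rc_8_2 lc_b_rc_9_2 lc_b_rc_6_1 lc_b_Cert_tree lc_b_rc_8_2 lc_b_rc_6_1 lc_b_rc_7_4 lc_b_rc_9_2 lc_b_Cert_tree lc_b_Cert_tree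 lc_b_rc_1_3 lc_b_rc_9_2 lc_b_rc_6_1 lc_b_rc_6_1 lc_b_rc_9_2) (@D3.rec (fun _ => (Cert rels S Gen.b)) lc_b_rc_26_1 lc_b_rc_1_3 lc_b_rc_8_2 lc_b_Cert_tree lc_b_rc_26_5 lc_b_rc_1_3 lc_b_Cert_tree lc_b_Cert_tree lc_b_rc_7_4 lc_b_rc_9_2 lc_b_rc_9_2 lc_b_Cert_tree lc_b_rc_10_2 lc_b_rc_6_1 lc_b_rc_6_1 lc_b_rc_6_1 lc_b_Cert_tree lc_b_rc_9_2 lc_b_Cert_tree lc_b_rc_9_2 lc_b_rc_6_1 lc_b_Cert_tree lc_b_rc_9_2 lc_b_Cert_tree lc_b_Cert_tree lc_b_rc_6_1 lc_b_rc_8_2 lc_b_rc_9_2 lc_b_rc_6_1 lc_b_Cert_tree lc_b_rc_10_2 lc_b_Cert_tree lc_b_Cert_tree lc_b_rc_1_3 lc_b_rc_9_2 lc_b_rc_8_2 lc_b_rc_10_2 lc_b_rc_6_1 lc_b_rc_9_2 lc_b_rc_6_1 lc_b_rc_6_1 lc_b_rc_6_1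 lc_b_rc_26_5 lc_b_rc_8_2 lc_b_Cert_tree lc_b_Cert_tree lc_b_rc_9_2 lc_b_rc_6_1 lc_b_rc_6_1 lc_b_rc_7_4 lc_b_rc_9_2 lc_b_Cert_tree lc_b_Cert_tree lc_b_rc_10_2 lc_b_rc_8_2 lc_b_rc_26_5 lc_b_rc_6_1 lc_b_rc_6_1 lc_b_rc_6_1 lc_b_rc_8_2 lc_b_rc_1_1 lc_b_rc_7_4) (@D3.rec (fun _ => (Cert rels S Gen.b)) lc_b_rc_9_2 lc_b_Cert_tree lc_b_rc_8_2 lc_b_Cert_tree lc_b_Cert_tree lc_b_rc_8_2 lc_b_rc_10_2 lc_b_rc_6_1 lc_b_rc_26_1 lc_b_rc_8_2 lc_b_rc_26_5 lc_b_rc_8_2 lc_b_rc_8_2 lc_b_rc_1_1 lc_b_rc_7_4 lc_b_rc_9_2 lc_b_rc_8_2 lc_b_Cert_tree lc_b_Cert_tree lc_b_rc_8_2 lc_b_rc_10_2 lc_b_Cert_tree lc_b_rc_7_4 lc_b_rc_8_2 lc_b_rc_6_1 lc_b_rc_26_7 lc_b_rc_8_2 lc_b_rc_10_2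 lc_b_rc_9_0 lc_b_rc_1_3 lc_b_rc_1_3 lc_b_rc_6_1 lc_b_rc_6_1 lc_b_rc_8_2 lc_b_rc_9_2 lc_b_rc_8_0 lc_b_rc_8_2 lc_b_rc_7_4 lc_b_rc_9_2 lc_b_rc_7_4 lc_b_rc_6_1 lc_b_rc_8_2 lc_b_rc_10_2 lc_b_Cert_tree lc_b_Cert_tree lc_b_rc_8_2 lc_b_rc_10_2 lc_b_Cert_tree lc_b_rc_1_3 lc_b_rc_6_1 lc_b_rc_1_5 lc_b_rc_8_2 lc_b_rc_10_2 lc_b_rc_6_1 lc_b_rc_7_0 lc_b_rc_6_1 lc_b_rc_8_2 lc_b_rc_1_5 lc_b_Cert_tree lc_b_rc_9_2 lc_b_rc_26_5 lc_b_rc_9_2) (@D3.rec (fun _ => (Cert rels S Gen.b)) lc_b_rc_8_2 lc_b_rc_9_2 lc_b_Cert_tree lc_b_rc_9_2 lc_b_rc_7_0 lc_b_rc_8_2 lc_b_rc_6_1 lc_b_Cert_tree lc_b_Cert_tree lc_b_rc_8_2 lc_b_rc_6_1 lc_b_Cert_tree lc_b_rc_9_2 lc_b_Cert_tree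 lc_b_rc_9_2 lc_b_Cert_tree lc_b_Cert_tree lc_b_rc_6_1 lc_b_rc_8_2 lc_b_rc_9_2 lc_b_rc_6_1 lc_b_Cert_tree lc_b_Cert_tree lc_b_rc_10_2 lc_b_rc_9_2 lc_b_rc_8_2 lc_b_rc_1_3 lc_b_rc_7_4 lc_b_rc_9_2 lc_b_Cert_tree lc_b_rc_10_2 lc_b_rc_10_2 lc_b_rc_1_3 lc_b_rc_6_1 lc_b_rc_9_2 lc_b_Cert_tree lc_b_Cert_tree lc_b_rc_6_1 lc_b_rc_1_3 lc_b_rc_9_2 lc_b_Cert_tree lc_b_rc_9_0 lc_b_rc_8_2 lc_b_rc_10_2 lc_b_rc_6_1 lc_b_Cert_tree lc_b_rc_8_2 lc_b_rc_9_2 lc_b_rc_6_1 lc_b_Cert_tree lc_b_rc_8_2 lc_b_rc_9_2 lc_b_rc_9_2 lc_b_Cert_tree lc_b_Cert_tree lc_b_rc_8_2 lc_b_Cert_tree lc_b_rc_9_2 lc_b_rc_6_1 lc_b_rc_6_1 lc_b_rc_9_2 lc_b_rc_6_1) (@D3.rec (fun _ => (Cert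 rels S Gen.b)) lc_b_rc_9_2 lc_b_rc_26_5 lc_b_Cert_tree lc_b_rc_8_2 lc_b_rc_10_2 lc_b_rc_1_5 lc_b_Cert_tree lc_b_rc_10_2 lc_b_rc_6_1 lc_b_rc_9_2 lc_b_rc_6_1 lc_b_rc_25_16 lc_b_Cert_tree lc_b_rc_6_1 lc_b_rc_8_2 lc_b_rc_1_3 lc_b_rc_8_2 lc_b_rc_9_2 lc_b_rc_26_1 lc_b_rc_6_1 lc_b_rc_9_2 lc_b_rc_7_2 lc_b_rc_9_2 lc_b_rc_9_0 lc_b_rc_1_3 lc_b_Cert_tree lc_b_rc_9_2 lc_b_rc_6_1 lc_b_rc_9_2 lc_b_rc_6_1 lc_b_rc_9_2 lc_b_rc_8_0 lc_b_rc_9_2 lc_b_Cert_tree lc_b_Cert_tree lc_b_rc_10_2 lc_b_Cert_tree lc_b_Cert_tree lc_b_Cert_tree lc_b_rc_9_0 lc_b_rc_6_1 lc_b_rc_9_2 lc_b_rc_9_2 lc_b_rc_1_3 lc_b_rc_6_1 lc_b_rc_10_2 lc_b_rc_10_2 lc_b_rc_9_2 lc_b_rc_8_2 lc_b_Cert_tree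 lc_b_rc_9_2 lc_b_rc_8_2 lc_b_rc_8_2 lc_b_rc_9_2 lc_b_Cert_tree lc_b_Cert_tree lc_b_rc_8_2 lc_b_rc_10_2 lc_b_rc_6_1 lc_b_rc_8_2 lc_b_Cert_tree lc_b_Cert_tree) (@D3.rec (fun _ => (Cert rels S Gen.b)) lc_b_rc_7_4 lc_b_rc_10_2 lc_b_Cert_tree lc_b_rc_10_2 lc_b_rc_9_0 lc_b_rc_1_3 lc_b_rc_8_2 lc_b_rc_8_2 lc_b_rc_9_2 lc_b_rc_6_1 lc_b_rc_9_2 lc_b_rc_6_1 lc_b_rc_8_2 lc_b_rc_8_2 lc_b_rc_9_2 lc_b_rc_8_2 lc_b_rc_25_12 lc_b_rc_26_5 lc_b_rc_8_2 lc_b_Cert_tree lc_b_rc_9_2 lc_b_Cert_tree lc_b_rc_1_3 lc_b_rc_26_1 lc_b_rc_1_3 lc_b_rc_1_3 lc_b_rc_8_0 lc_b_rc_8_2 lc_b_rc_7_2 lc_b_rc_9_0 lc_b_rc_10_2 lc_b_rc_8_2 lc_b_rc_10_2 lc_b_rc_26_1 lc_b_rc_8_2 lc_b_rc_26_5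 lc_b_rc_8_2 lc_b_rc_6_1 lc_b_rc_8_0 lc_b_Cert_tree lc_b_rc_10_2 lc_b_rc_9_2 lc_b_rc_6_1 lc_b_rc_9_2 lc_b_rc_8_0 lc_b_rc_10_2 lc_b_rc_6_1 lc_b_rc_9_2 lc_b_rc_8_2 lc_b_rc_25_16 lc_b_rc_9_2 lc_b_rc_1_5 lc_b_rc_8_2 lc_b_rc_9_2 lc_b_rc_26_7 lc_b_rc_9_2 lc_b_Cert_tree lc_b_rc_9_2 lc_b_rc_9_0 lc_b_rc_1_1 lc_b_rc_1_3 lc_b_rc_9_2) (@D3.rec (fun _ => (Cert rels S Gen.b)) lc_b_rc_1_3 lc_b_rc_9_2 lc_b_rc_7_2 lc_b_rc_8_2 lc_b_rc_26_5 lc_b_rc_8_2 lc_b_rc_6_1 lc_b_rc_26_5 lc_b_rc_6_1 lc_b_rc_9_2 lc_b_rc_9_0 lc_b_rc_6_1 lc_b_rc_8_2 lc_b_rc_10_2 lc_b_Cert_tree lc_b_rc_8_0 lc_b_rc_8_2 lc_b_rc_9_2 lc_b_Cert_tree lc_b_Cert_tree lc_b_rc_8_2 lc_b_rc_7_4 lc_b_rc_8_2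 lc_b_rc_26_5 lc_b_rc_8_2 lc_b_Cert_tree lc_b_rc_8_2 lc_b_rc_10_2 lc_b_rc_10_2 lc_b_rc_6_1 lc_b_rc_9_2 lc_b_rc_6_1 lc_b_rc_9_2 lc_b_Cert_tree lc_b_rc_8_2 lc_b_rc_6_1 lc_b_rc_9_2 lc_b_rc_8_2 lc_b_rc_10_2 lc_b_rc_26_1 lc_b_rc_9_2 lc_b_rc_8_2 lc_b_rc_8_2 lc_b_rc_6_1 lc_b_rc_8_2 lc_b_rc_6_1 lc_b_rc_6_1 lc_b_rc_25_4 lc_b_rc_9_2 lc_b_rc_10_2 lc_b_rc_8_2 lc_b_rc_8_2 lc_b_rc_9_2 lc_b_rc_10_0 lc_b_rc_1_1 lc_b_rc_8_2 lc_b_rc_9_2 lc_b_rc_10_2 lc_b_rc_8_0 lc_b_rc_6_1 lc_b_rc_26_5 lc_b_rc_9_2) (@D3.rec (fun _ => (Cert rels S Gen.b)) lc_b_rc_10_2 lc_b_rc_9_2 lc_b_rc_26_7 lc_b_rc_8_2 lc_b_rc_6_1 lc_b_rc_1_1 lc_b_Cert_tree lc_b_rc_9_2 lc_b_rc_7_2 lc_b_rc_26_5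 lc_b_rc_6_1 lc_b_rc_8_2 lc_b_rc_9_2 lc_b_rc_8_0 lc_b_rc_9_2 lc_b_rc_26_1 lc_b_rc_10_2 lc_b_rc_9_2 lc_b_rc_8_2 lc_b_rc_1_5 lc_b_rc_9_0 lc_b_rc_10_2 lc_b_rc_8_2 lc_b_Cert_tree lc_b_rc_9_2 lc_b_rc_8_2 lc_b_rc_6_1 lc_b_rc_9_2 lc_b_rc_6_1 lc_b_rc_8_2 lc_b_rc_6_1 lc_b_rc_8_2 lc_b_rc_9_2 lc_b_rc_26_5 lc_b_rc_8_2 lc_b_rc_10_2 lc_b_rc_10_2 lc_b_rc_8_2 lc_b_rc_8_0 lc_b_rc_10_2 lc_b_rc_6_1 lc_b_rc_1_3 lc_b_rc_9_2 lc_b_Cert_tree lc_b_Cert_tree lc_b_rc_10_2 lc_b_rc_26_1 lc_b_rc_9_2 lc_b_Cert_tree lc_b_rc_6_1 lc_b_rc_9_2 lc_b_rc_26_5 lc_b_rc_6_1 lc_b_rc_8_2 lc_b_rc_10_2 lc_b_rc_6_1 lc_b_rc_1_5 lc_b_rc_9_2 lc_b_rc_6_1 lc_b_rc_1_1 lc_b_rc_10_2 lc_b_rc_6_1)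 (@D3.rec (fun _ => (Cert rels S Gen.b)) lc_b_rc_25_4 lc_b_rc_8_2 lc_b_rc_6_1 lc_b_rc_6_1 lc_b_rc_26_5 lc_b_rc_8_2 lc_b_rc_9_2 lc_b_Cert_tree lc_b_rc_6_1 lc_b_rc_7_4 lc_b_rc_9_2 lc_b_Cert_tree lc_b_Cert_tree lc_b_rc_8_2 lc_b_rc_10_2 lc_b_rc_6_1 lc_b_Cert_tree lc_b_rc_8_2 lc_b_rc_9_2 lc_b_rc_6_1 lc_b_Cert_tree lc_b_rc_8_2 lc_b_rc_9_2 lc_b_rc_1_5 lc_b_rc_8_2 lc_b_rc_6_1 lc_b_rc_8_0 lc_b_Cert_tree lc_b_Cert_tree lc_b_rc_9_2 lc_b_Cert_tree lc_b_rc_6_1 lc_b_rc_8_2 lc_b_rc_9_2 lc_b_rc_9_2 lc_b_Cert_tree lc_b_rc_8_2 lc_b_rc_10_2 lc_b_rc_6_1 lc_b_rc_8_2 lc_b_rc_8_2 lc_b_Cert_tree lc_b_rc_10_2 lc_b_Cert_tree lc_b_rc_9_2 lc_b_Cert_tree lc_b_rc_6_1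 lc_b_rc_8_2 lc_b_rc_9_2 lc_b_Cert_tree lc_b_Cert_tree lc_b_rc_8_2 lc_b_rc_10_2 lc_b_rc_8_2 lc_b_rc_6_1 lc_b_rc_8_2 lc_b_rc_9_2 lc_b_rc_26_5 lc_b_Cert_tree lc_b_Cert_tree lc_b_rc_10_2 lc_b_rc_1_3) (@D3.rec (fun _ => (Cert rels S Gen.b)) lc_b_rc_1_3 lc_b_rc_7_4 lc_b_rc_8_2 lc_b_rc_9_2 lc_b_Cert_tree lc_b_rc_10_2 lc_b_rc_6_1 lc_b_rc_10_2 lc_b_rc_6_1 lc_b_rc_1_3 lc_b_rc_8_2 lc_b_Cert_tree lc_b_rc_9_2 lc_b_rc_26_7 lc_b_Cert_tree lc_b_rc_8_2 lc_b_rc_7_2 lc_b_rc_8_2 lc_b_Cert_tree lc_b_rc_9_2 lc_b_rc_6_1 lc_b_Cert_tree lc_b_rc_9_2 lc_b_rc_6_1 lc_b_Cert_tree lc_b_rc_9_2 lc_b_Cert_tree lc_b_Cert_tree lc_b_rc_6_1 lc_b_Cert_tree lc_b_rc_7_4 lc_b_rc_9_2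 lc_b_Cert_tree lc_b_rc_8_0 lc_b_rc_6_1 lc_b_rc_8_0 lc_b_rc_7_4 lc_b_rc_9_2 lc_b_Cert_tree lc_b_Cert_tree lc_b_rc_10_2 lc_b_rc_10_2 lc_b_rc_6_1 lc_b_Cert_tree lc_b_rc_8_2 lc_b_rc_1_5 lc_b_rc_26_5 lc_b_rc_8_2 lc_b_rc_9_2 lc_b_Cert_tree lc_b_rc_9_2 lc_b_rc_6_1 lc_b_rc_26_1 lc_b_Cert_tree lc_b_rc_10_2 lc_b_rc_9_2 lc_b_rc_1_3 lc_b_rc_8_2 lc_b_Cert_tree lc_b_rc_6_1 lc_b_rc_8_2 lc_b_rc_9_2) (@D3.rec (fun _ => (Cert rels S Gen.b)) lc_b_Cert_tree lc_b_rc_6_1 lc_b_rc_10_2 lc_b_rc_6_1 lc_b_rc_8_2 lc_b_rc_9_2 lc_b_rc_6_1 lc_b_rc_8_2 lc_b_rc_9_2 lc_b_rc_7_2 lc_b_rc_9_2 lc_b_rc_9_2 lc_b_rc_6_1 lc_b_Cert_tree lc_b_rc_9_2 lc_b_rc_8_2 lc_b_Cert_tree lc_b_rc_6_1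 lc_b_rc_8_2 lc_b_rc_9_2 lc_b_rc_1_3 lc_b_rc_26_7 lc_b_rc_10_2 lc_b_rc_7_2 lc_b_rc_6_1 lc_b_rc_6_1 lc_b_rc_6_1 lc_b_rc_8_2 lc_b_rc_7_4 lc_b_rc_8_2 lc_b_rc_6_1 lc_b_rc_8_2 lc_b_rc_6_1 lc_b_rc_8_2 lc_b_rc_9_2 lc_b_Cert_tree lc_b_rc_1_3 lc_b_rc_8_2 lc_b_rc_9_2 lc_b_Cert_tree lc_b_rc_9_2 lc_b_Cert_tree lc_b_Cert_tree lc_b_rc_8_2 lc_b_rc_10_2 lc_b_rc_6_1 lc_b_rc_26_1 lc_b_rc_6_1 lc_b_rc_9_2 lc_b_Cert_tree lc_b_rc_9_2 lc_b_Cert_tree lc_b_Cert_tree lc_b_rc_8_2 lc_b_rc_10_2 lc_b_rc_6_1 lc_b_rc_8_2 lc_b_rc_6_1 lc_b_rc_8_2 lc_b_rc_9_2 lc_b_rc_8_0 lc_b_Cert_tree) (@D3.rec (fun _ => (Cert rels S Gen.b)) lc_b_rc_10_2 lc_b_rc_6_1 lc_b_Cert_tree lc_b_rc_9_2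 lc_b_rc_6_1 lc_b_rc_8_2 lc_b_rc_9_2 lc_b_rc_1_5 lc_b_rc_9_2 lc_b_rc_26_5 lc_b_rc_1_3 lc_b_Cert_tree lc_b_rc_9_2 lc_b_rc_6_1 lc_b_rc_8_2 lc_b_rc_9_2 lc_b_rc_8_2 lc_b_rc_6_1 lc_b_rc_7_2 lc_b_rc_26_7 lc_b_rc_7_2 lc_b_rc_26_5 lc_b_rc_9_2 lc_b_rc_8_2 lc_b_rc_8_2 lc_b_rc_26_5 lc_b_rc_7_2 lc_b_rc_9_2 lc_b_rc_6_1 lc_b_rc_6_1 lc_b_Cert_tree lc_b_rc_10_2 lc_b_rc_6_1 lc_b_rc_9_2 lc_b_rc_9_2 lc_b_rc_6_1 lc_b_rc_26_7 lc_b_rc_10_2 lc_b_rc_8_2 lc_b_rc_7_4 lc_b_rc_6_1 lc_b_rc_8_2 lc_b_rc_7_4 lc_b_Cert_tree lc_b_rc_7_0 lc_b_rc_6_1 lc_b_rc_6_1 lc_b_rc_6_1 lc_b_Cert_tree lc_b_rc_9_2 lc_b_rc_6_1 lc_b_Cert_tree lc_b_rc_8_2 lc_b_rc_8_2 lc_b_Cert_tree lc_b_Cert_tree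 lc_b_Cert_tree lc_b_rc_9_2 lc_b_Cert_tree lc_b_Cert_tree lc_b_rc_6_1 lc_b_rc_7_4) (@D3.rec (fun _ => (Cert rels S Gen.b)) lc_b_rc_7_4 lc_b_rc_8_2 lc_b_rc_1_3 lc_b_rc_26_7 lc_b_Cert_tree lc_b_rc_10_2 lc_b_rc_1_3 lc_b_rc_7_4 lc_b_rc_8_2 lc_b_Cert_tree lc_b_rc_6_1 lc_b_Cert_tree lc_b_Cert_tree lc_b_rc_6_1 lc_b_rc_9_0 lc_b_rc_10_2 lc_b_rc_6_1 lc_b_rc_8_2 lc_b_Cert_tree lc_b_rc_9_2 lc_b_rc_6_1 lc_b_rc_9_2 lc_b_rc_9_2 lc_b_rc_26_5 lc_b_Cert_tree lc_b_Cert_tree lc_b_rc_1_3 lc_b_rc_1_3 lc_b_Cert_tree lc_b_rc_9_2 lc_b_rc_6_1 lc_b_rc_9_2 lc_b_rc_9_2 lc_b_Cert_tree lc_b_rc_10_2 lc_b_rc_9_2 lc_b_rc_10_0 lc_b_rc_6_1 lc_b_rc_9_2 lc_b_Cert_tree lc_b_Cert_tree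 lc_b_rc_9_2 lc_b_rc_10_2 lc_b_rc_8_0 lc_b_rc_25_0 lc_b_rc_8_2 lc_b_rc_7_2 lc_b_rc_6_1 lc_b_rc_8_2 lc_b_rc_9_2 lc_b_rc_8_2 lc_b_rc_26_5 lc_b_rc_26_5 lc_b_rc_9_2 lc_b_rc_26_1 lc_b_rc_8_2 lc_b_rc_6_1 lc_b_rc_8_2 lc_b_rc_9_2 lc_b_rc_9_2 lc_b_rc_6_1 lc_b_rc_9_2) (@D3.rec (fun _ => (Cert rels S Gen.b)) lc_b_rc_8_2 lc_b_rc_8_2 lc_b_rc_6_1 lc_b_rc_7_4 lc_b_rc_6_1 lc_b_rc_9_2 lc_b_rc_9_2 lc_b_rc_9_2 lc_b_rc_6_1 lc_b_rc_26_1 lc_b_rc_6_1 lc_b_rc_8_2 lc_b_rc_9_2 lc_b_rc_9_2 lc_b_rc_9_2 lc_b_Cert_tree lc_b_rc_8_2 lc_b_rc_10_2 lc_b_rc_6_1 lc_b_rc_6_1 lc_b_rc_8_2 lc_b_rc_8_2 lc_b_rc_6_1 lc_b_rc_9_2 lc_b_rc_6_1 lc_b_rc_6_1 lc_b_rc_8_2 lc_b_rc_8_2 lc_b_rc_8_2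 lc_b_Cert_tree lc_b_rc_7_4 lc_b_rc_8_2 lc_b_Cert_tree lc_b_rc_6_1 lc_b_rc_6_1 lc_b_Cert_tree lc_b_Cert_tree lc_b_rc_6_1 lc_b_rc_8_2 lc_b_rc_7_4 lc_b_Cert_tree lc_b_Cert_tree lc_b_rc_1_3 lc_b_rc_1_1 lc_b_Cert_tree lc_b_rc_7_2 lc_b_rc_9_2 lc_b_rc_8_2 lc_b_rc_9_2 lc_b_Cert_tree lc_b_rc_6_1 lc_b_rc_9_2 lc_b_rc_26_7 lc_b_rc_10_2 lc_b_rc_6_1 lc_b_rc_9_2 lc_b_rc_9_2 lc_b_rc_9_2 lc_b_rc_9_2 lc_b_rc_8_2 lc_b_rc_9_2 lc_b_Cert_tree) (@D3.rec (fun _ => (Cert rels S Gen.b)) lc_b_rc_8_2 lc_b_Cert_tree lc_b_Cert_tree lc_b_rc_6_1 lc_b_rc_9_2 lc_b_rc_6_1 lc_b_rc_9_2 lc_b_rc_9_2 lc_b_Cert_tree lc_b_rc_9_2 lc_b_rc_6_1 lc_b_rc_9_2 lc_b_rc_10_0 lc_b_rc_6_1 lc_b_rc_10_2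 lc_b_rc_9_2 lc_b_rc_9_2 lc_b_Cert_tree lc_b_rc_6_1 lc_b_rc_8_2 lc_b_rc_7_4 lc_b_rc_10_2 lc_b_Cert_tree lc_b_rc_9_2 lc_b_rc_7_4 lc_b_rc_9_2 lc_b_rc_9_2 lc_b_rc_9_2 lc_b_rc_6_1 lc_b_rc_9_2 lc_b_rc_8_2 lc_b_Cert_tree lc_b_rc_6_1 lc_b_rc_9_2 lc_b_Cert_tree lc_b_rc_9_2 lc_b_rc_8_2 lc_b_rc_9_2 lc_b_rc_6_1 lc_b_rc_9_2 lc_b_rc_6_1 lc_b_rc_8_2 lc_b_rc_9_2 lc_b_rc_6_1 lc_b_rc_8_2 lc_b_rc_9_2 lc_b_Cert_tree lc_b_Cert_tree lc_b_rc_1_3 lc_b_rc_8_2 lc_b_rc_9_2 lc_b_Cert_tree lc_b_Cert_tree lc_b_rc_9_2 lc_b_rc_8_2 lc_b_rc_6_1 lc_b_Cert_tree lc_b_rc_8_2 lc_b_rc_1_3 lc_b_rc_8_2 lc_b_rc_9_2 lc_b_rc_9_2) (@D3.rec (fun _ => (Cert rels S Gen.b)) lc_b_rc_6_1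 lc_b_rc_8_2 lc_b_rc_9_2 lc_b_rc_1_5 lc_b_rc_1_3 lc_b_rc_10_2 lc_b_rc_6_1 lc_b_rc_7_0 lc_b_rc_9_2 lc_b_rc_8_2 lc_b_rc_6_1 lc_b_rc_6_1 lc_b_rc_9_2 lc_b_rc_6_1 lc_b_rc_8_2 lc_b_rc_9_2 lc_b_rc_7_4 lc_b_Cert_tree lc_b_rc_1_3 lc_b_rc_8_2 lc_b_rc_9_2 lc_b_rc_9_2 lc_b_Cert_tree lc_b_rc_7_4 lc_b_rc_8_2 lc_b_rc_10_2 lc_b_Cert_tree lc_b_rc_8_0 lc_b_rc_6_1 lc_b_rc_9_2 lc_b_rc_26_7 lc_b_rc_26_1 lc_b_rc_8_2 lc_b_rc_10_2 lc_b_rc_6_1 lc_b_rc_9_2 lc_b_rc_6_1 lc_b_rc_9_2 lc_b_Cert_tree lc_b_Cert_tree lc_b_rc_1_3 lc_b_rc_8_2 lc_b_rc_9_2 lc_b_Cert_tree lc_b_rc_8_2 lc_b_rc_9_2 lc_b_Cert_tree lc_b_Cert_tree lc_b_rc_8_2 lc_b_rc_10_2 lc_b_Cert_tree lc_b_rc_10_2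 lc_b_rc_9_2 lc_b_rc_7_2 lc_b_rc_8_2 lc_b_rc_8_2 lc_b_rc_9_2 lc_b_Cert_tree lc_b_rc_9_0 lc_b_rc_6_1 lc_b_rc_8_2 lc_b_Cert_tree) (@D3.rec (fun _ => (Cert rels S Gen.b)) lc_b_rc_7_4 lc_b_rc_1_3 lc_b_rc_8_2 lc_b_rc_9_2 lc_b_rc_9_2 lc_b_Cert_tree lc_b_rc_7_2 lc_b_rc_8_2 lc_b_rc_7_4 lc_b_Cert_tree lc_b_rc_8_2 lc_b_rc_1_5 lc_b_rc_1_5 lc_b_Cert_tree lc_b_rc_10_2 lc_b_Cert_tree lc_b_Cert_tree lc_b_rc_1_3 lc_b_rc_6_1 lc_b_rc_8_2 lc_b_rc_9_2 lc_b_rc_9_2 lc_b_rc_8_2 lc_b_rc_10_2 lc_b_Cert_tree lc_b_rc_26_5 lc_b_rc_1_3 lc_b_rc_7_4 lc_b_rc_8_2 lc_b_rc_9_2 lc_b_rc_9_2 lc_b_rc_8_2 lc_b_rc_7_4 lc_b_rc_6_1 lc_b_rc_1_5 lc_b_rc_8_2 lc_b_rc_10_2 lc_b_rc_6_1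 lc_b_rc_8_2 lc_b_rc_9_2 lc_b_rc_8_2 lc_b_rc_9_2 lc_b_rc_10_2 lc_b_rc_6_1 lc_b_Cert_tree lc_b_rc_9_2 lc_b_rc_9_0 lc_b_Cert_tree lc_b_rc_8_2 lc_b_rc_10_2 lc_b_rc_6_1 lc_b_rc_9_2 lc_b_rc_6_1 lc_b_rc_9_2 lc_b_rc_6_1 lc_b_rc_9_2 lc_b_Cert_tree lc_b_Cert_tree lc_b_rc_8_2 lc_b_rc_10_2 lc_b_rc_9_2 lc_b_rc_6_1) (@D3.rec (fun _ => (Cert rels S Gen.b)) lc_b_rc_26_5 lc_b_rc_8_2 lc_b_rc_9_2 lc_b_rc_6_1 lc_b_rc_26_1 lc_b_rc_8_2 lc_b_rc_9_2 lc_b_Cert_tree lc_b_Cert_tree lc_b_Cert_tree lc_b_rc_10_2 lc_b_rc_10_2 lc_b_Cert_tree lc_b_rc_9_0 lc_b_rc_8_2 lc_b_Cert_tree lc_b_Cert_tree lc_b_rc_6_1 lc_b_rc_8_2 lc_b_rc_9_2 lc_b_rc_6_1 lc_b_rc_8_2 lc_b_rc_9_2 lc_b_rc_8_2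 lc_b_rc_6_1 lc_b_Cert_tree lc_b_rc_8_2 lc_b_rc_10_0 lc_b_Cert_tree lc_b_rc_6_1 lc_b_Cert_tree lc_b_rc_8_2 lc_b_Cert_tree lc_b_rc_8_2 lc_b_Cert_tree lc_b_rc_9_2 lc_b_rc_6_1 lc_b_Cert_tree lc_b_rc_9_2 lc_b_Cert_tree lc_b_Cert_tree lc_b_rc_6_1 lc_b_rc_8_2 lc_b_rc_6_1 lc_b_rc_9_2 lc_b_Cert_tree lc_b_rc_9_2 lc_b_rc_6_1 lc_b_rc_9_2 lc_b_rc_9_2 lc_b_Cert_tree lc_b_Cert_tree lc_b_rc_8_2 lc_b_rc_10_2 lc_b_rc_9_2 lc_b_rc_26_5 lc_b_rc_6_1 lc_b_Cert_tree lc_b_rc_8_2 lc_b_rc_26_1 lc_b_rc_8_0 lc_b_Cert_tree) (@D3.rec (fun _ => (Cert rels S Gen.b)) lc_b_rc_10_2 lc_b_rc_7_2 lc_b_rc_8_2 lc_b_rc_9_2 lc_b_Cert_tree lc_b_Cert_tree lc_b_rc_9_2 lc_b_rc_6_1 lc_b_rc_6_1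 lc_b_rc_6_1 lc_b_rc_8_2 lc_b_rc_10_2 lc_b_rc_6_1 lc_b_rc_9_2 lc_b_Cert_tree lc_b_rc_8_2 lc_b_rc_9_2 lc_b_Cert_tree lc_b_rc_7_0 lc_b_rc_8_2 lc_b_rc_10_2 lc_b_Cert_tree lc_b_rc_8_2 lc_b_Cert_tree lc_b_rc_10_0 lc_b_rc_26_7 lc_b_rc_9_0 lc_b_Cert_tree lc_b_rc_10_2 lc_b_rc_26_5 lc_b_rc_6_1 lc_b_Cert_tree lc_b_rc_7_2 lc_b_rc_8_2 lc_b_Cert_tree lc_b_rc_9_2 lc_b_rc_6_1 lc_b_rc_9_2 lc_b_rc_6_1 lc_b_rc_8_2 lc_b_rc_10_2 lc_b_rc_10_0 lc_b_rc_9_2 lc_b_Cert_tree lc_b_rc_7_0 lc_b_rc_6_1 lc_b_rc_8_2 lc_b_rc_9_2 lc_b_rc_9_2 lc_b_rc_10_2 lc_b_rc_1_3 lc_b_Cert_tree lc_b_rc_9_2 lc_b_rc_6_1 lc_b_rc_8_2 lc_b_rc_9_2 lc_b_rc_6_1 lc_b_rc_8_2 lc_b_rc_10_2 lc_b_Cert_tree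 lc_b_Cert_tree lc_b_rc_10_2) (@D3.rec (fun _ => (Cert rels S Gen.b)) lc_b_rc_10_2 lc_b_rc_6_1 lc_b_Cert_tree lc_b_rc_8_2 lc_b_rc_9_2 lc_b_rc_6_1 lc_b_Cert_tree lc_b_rc_8_2 lc_b_rc_9_2 lc_b_rc_26_5 lc_b_Cert_tree lc_b_rc_6_1 lc_b_rc_10_2 lc_b_rc_6_1 lc_b_rc_1_3 lc_b_rc_7_2 lc_b_rc_8_2 lc_b_Cert_tree lc_b_rc_6_1 lc_b_Cert_tree lc_b_rc_9_2 lc_b_rc_10_0 lc_b_rc_9_2 lc_b_rc_7_4 lc_b_rc_8_2 lc_b_rc_9_2 lc_b_Cert_tree lc_b_rc_26_7 lc_b_rc_10_2 lc_b_rc_6_1 lc_b_Cert_tree lc_b_rc_7_0 lc_b_rc_1_5 lc_b_rc_6_1 lc_b_Cert_tree lc_b_rc_9_2 lc_b_Cert_tree lc_b_rc_8_2 lc_b_rc_6_1 lc_b_rc_8_2 lc_b_rc_10_2 lc_b_rc_9_2 lc_b_rc_6_1 lc_b_Cert_tree lc_b_rc_6_1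 lc_b_rc_8_2 lc_b_rc_6_1 lc_b_rc_8_2 lc_b_Cert_tree lc_b_rc_1_3 lc_b_rc_8_2 lc_b_Cert_tree lc_b_Cert_tree lc_b_Cert_tree lc_b_rc_9_2 lc_b_rc_6_1 lc_b_rc_8_2 lc_b_rc_8_0 lc_b_Cert_tree lc_b_rc_1_3 lc_b_rc_8_0 lc_b_rc_9_2) (@D3.rec (fun _ => (Cert rels S Gen.b)) lc_b_rc_9_2 lc_b_rc_8_2 lc_b_rc_9_2 lc_b_Cert_tree lc_b_rc_26_5 lc_b_Cert_tree lc_b_rc_9_2 lc_b_rc_9_2 lc_b_rc_8_2 lc_b_Cert_tree lc_b_rc_6_1 lc_b_Cert_tree lc_b_rc_9_2 lc_b_rc_6_1 lc_b_Cert_tree lc_b_Cert_tree lc_b_Cert_tree lc_b_rc_6_1 lc_b_rc_8_2 lc_b_rc_6_1 lc_b_rc_9_2 lc_b_rc_26_5 lc_b_Cert_tree lc_b_rc_6_1 lc_b_rc_9_2 lc_b_rc_26_5 lc_b_rc_26_5 lc_b_Cert_tree lc_b_Cert_tree lc_b_rc_1_3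 lc_b_rc_8_2 lc_b_rc_8_2 lc_b_rc_9_2 lc_b_rc_8_2 lc_b_rc_26_1 lc_b_rc_8_0 lc_b_Cert_tree lc_b_rc_10_2 lc_b_Cert_tree lc_b_rc_9_2 lc_b_rc_9_2 lc_b_Cert_tree lc_b_Cert_tree lc_b_rc_6_1 lc_b_rc_8_2 lc_b_rc_10_2 lc_b_rc_9_2 lc_b_rc_8_2 lc_b_rc_9_2 lc_b_Cert_tree lc_b_rc_9_2 lc_b_Cert_tree lc_b_rc_9_2 lc_b_rc_6_1 lc_b_Cert_tree lc_b_rc_9_2 lc_b_rc_7_4 lc_b_rc_9_2 lc_b_rc_6_1 lc_b_rc_8_2 lc_b_rc_10_2 lc_b_rc_1_1) (@D3.rec (fun _ => (Cert rels S Gen.b)) lc_b_rc_26_5 lc_b_Cert_tree lc_b_rc_9_2 lc_b_rc_10_2 lc_b_rc_26_7 lc_b_Cert_tree lc_b_rc_9_2 lc_b_rc_10_2 lc_b_Cert_tree lc_b_rc_9_2 lc_b_Cert_tree lc_b_Cert_tree lc_b_rc_6_1 lc_b_rc_8_2 lc_b_rc_9_2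 lc_b_rc_26_5 lc_b_rc_9_2 lc_b_rc_10_2 lc_b_Cert_tree lc_b_rc_8_2 lc_b_rc_6_1 lc_b_Cert_tree lc_b_rc_9_2 lc_b_rc_8_2 lc_b_Cert_tree lc_b_rc_9_2 lc_b_rc_6_1 lc_b_rc_8_2 lc_b_rc_9_2 lc_b_rc_9_0 lc_b_rc_10_2 lc_b_rc_9_2 lc_b_Cert_tree lc_b_rc_6_1 lc_b_rc_8_2 lc_b_rc_9_2 lc_b_rc_26_7 lc_b_rc_9_2 lc_b_rc_10_2 lc_b_rc_9_2 lc_b_Cert_tree lc_b_rc_9_2 lc_b_rc_6_1 lc_b_rc_8_2 lc_b_rc_9_2 lc_b_rc_9_2 lc_b_rc_9_2 lc_b_rc_8_2 lc_b_rc_10_2 lc_b_rc_6_1 lc_b_rc_8_2 lc_b_rc_9_2 lc_b_rc_6_1 lc_b_rc_8_2 lc_b_rc_9_2 lc_b_Cert_tree lc_b_Cert_tree lc_b_rc_1_3 lc_b_rc_8_2 lc_b_rc_10_2 lc_b_Cert_tree lc_b_Cert_tree) (@D3.rec (fun _ => (Cert rels S Gen.b)) lc_b_Cert_tree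 lc_b_rc_9_2 lc_b_rc_10_2 lc_b_rc_9_2 lc_b_Cert_tree lc_b_Cert_tree lc_b_Cert_tree lc_b_rc_9_2 lc_b_Cert_tree lc_b_Cert_tree lc_b_rc_8_2 lc_b_rc_7_2 lc_b_Cert_tree lc_b_Cert_tree lc_b_rc_10_2 lc_b_rc_6_1 lc_b_rc_8_2 lc_b_rc_8_2 lc_b_rc_8_2 lc_b_Cert_tree lc_b_rc_9_2 lc_b_Cert_tree lc_b_rc_8_2 lc_b_rc_7_2 lc_b_Cert_tree lc_b_Cert_tree lc_b_rc_10_2 lc_b_rc_8_2 lc_b_rc_6_1 lc_b_rc_1_3 lc_b_rc_6_1 lc_b_rc_6_1 lc_b_Cert_tree lc_b_rc_26_5 lc_b_rc_9_2 lc_b_rc_1_5 lc_b_Cert_tree lc_b_rc_1_3 lc_b_rc_1_3 lc_b_rc_6_1 lc_b_rc_7_4 lc_b_rc_9_2 lc_b_rc_9_2 lc_b_rc_6_1 lc_b_rc_8_2 lc_b_rc_9_2 lc_b_rc_6_1 lc_b_rc_9_2 lc_b_rc_8_2 lc_b_rc_8_2 lc_b_rc_10_2 lc_b_rc_1_1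 lc_b_rc_6_1 lc_b_rc_26_5 lc_b_rc_9_2 lc_b_rc_8_2 lc_b_rc_6_1 lc_b_rc_8_2 lc_b_rc_10_2 lc_b_rc_1_1 lc_b_rc_6_1 lc_b_rc_9_2) (@D3.rec (fun _ => (Cert rels S Gen.b)) lc_b_rc_9_2 lc_b_rc_9_2 lc_b_rc_10_2 lc_b_rc_6_1 lc_b_rc_8_2 lc_b_rc_9_2 lc_b_rc_6_1 lc_b_rc_8_2 lc_b_rc_9_2 lc_b_Cert_tree lc_b_Cert_tree lc_b_rc_1_3 lc_b_rc_8_2 lc_b_Cert_tree lc_b_Cert_tree lc_b_rc_9_2 lc_b_rc_9_2 lc_b_Cert_tree lc_b_Cert_tree lc_b_rc_9_2 lc_b_rc_8_2 lc_b_rc_25_12 lc_b_Cert_tree lc_b_Cert_tree lc_b_rc_10_2 lc_b_rc_6_1 lc_b_rc_8_2 lc_b_rc_8_2 lc_b_rc_9_2 lc_b_Cert_tree lc_b_rc_9_2 lc_b_rc_6_1 lc_b_rc_10_2 lc_b_Cert_tree lc_b_Cert_tree lc_b_rc_8_2 lc_b_rc_6_1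 lc_b_rc_6_1 lc_b_Cert_tree lc_b_rc_8_2 lc_b_rc_9_2 lc_b_rc_6_1 lc_b_rc_10_0 lc_b_rc_7_4 lc_b_rc_6_1 lc_b_rc_8_2 lc_b_rc_9_2 lc_b_rc_26_1 lc_b_rc_6_1 lc_b_rc_9_2 lc_b_rc_1_3 lc_b_rc_6_1 lc_b_rc_9_2 lc_b_rc_7_2 lc_b_Cert_tree lc_b_rc_1_3 lc_b_rc_8_2 lc_b_rc_8_2 lc_b_rc_26_5 lc_b_rc_26_1 lc_b_Cert_tree lc_b_rc_10_2) (@D3.rec (fun _ => (Cert rels S Gen.b)) lc_b_rc_8_2 lc_b_rc_9_2 lc_b_rc_6_1 lc_b_Cert_tree lc_b_rc_10_2 lc_b_Cert_tree lc_b_rc_9_2 lc_b_Cert_tree lc_b_rc_8_2 lc_b_Cert_tree lc_b_Cert_tree lc_b_rc_6_1 lc_b_rc_8_2 lc_b_rc_10_2 lc_b_rc_9_2 lc_b_rc_8_2 lc_b_rc_9_2 lc_b_rc_6_1 lc_b_Cert_tree lc_b_rc_8_2 lc_b_Cert_tree lc_b_rc_9_2 lc_b_Cert_tree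 lc_b_rc_9_2 lc_b_Cert_tree lc_b_Cert_tree lc_b_rc_6_1 lc_b_rc_8_2 lc_b_rc_10_2 lc_b_rc_9_2 lc_b_Cert_tree lc_b_rc_9_2 lc_b_Cert_tree lc_b_rc_9_2 lc_b_Cert_tree lc_b_rc_9_2 lc_b_rc_7_4 lc_b_rc_9_2 lc_b_Cert_tree lc_b_rc_6_1 lc_b_rc_8_2 lc_b_rc_10_2 lc_b_rc_9_2 lc_b_rc_6_1 lc_b_Cert_tree lc_b_rc_9_2 lc_b_rc_1_5 lc_b_rc_10_2 lc_b_rc_8_2 lc_b_rc_8_2 lc_b_Cert_tree lc_b_rc_9_2 lc_b_rc_6_1 lc_b_rc_7_4 lc_b_Cert_tree lc_b_rc_9_2 lc_b_Cert_tree lc_b_Cert_tree lc_b_rc_6_1 lc_b_rc_8_2 lc_b_rc_9_2 lc_b_rc_26_5) (@D3.rec (fun _ => (Cert rels S Gen.b)) lc_b_rc_9_2 lc_b_rc_10_2 lc_b_Cert_tree lc_b_rc_26_5 lc_b_rc_6_1 lc_b_rc_6_1 lc_b_Cert_tree lc_b_rc_9_2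 lc_b_rc_26_5 lc_b_Cert_tree lc_b_rc_9_2 lc_b_rc_6_1 lc_b_rc_8_2 lc_b_rc_9_2 lc_b_rc_8_2 lc_b_rc_10_2 lc_b_rc_9_2 lc_b_Cert_tree lc_b_rc_6_1 lc_b_rc_8_2 lc_b_rc_25_16 lc_b_rc_6_1 lc_b_rc_9_2 lc_b_rc_8_2 lc_b_rc_10_2 lc_b_Cert_tree lc_b_rc_9_2 lc_b_rc_6_1 lc_b_rc_8_2 lc_b_rc_9_2 lc_b_rc_26_5 lc_b_rc_9_0 lc_b_rc_8_2 lc_b_rc_10_2 lc_b_rc_6_1 lc_b_rc_8_2 lc_b_rc_9_2 lc_b_rc_6_1 lc_b_rc_8_2 lc_b_rc_9_2 lc_b_Cert_tree lc_b_Cert_tree lc_b_rc_1_3 lc_b_rc_8_2 lc_b_rc_10_2 lc_b_Cert_tree lc_b_Cert_tree lc_b_Cert_tree lc_b_rc_8_2 lc_b_rc_10_2 lc_b_rc_7_2 lc_b_Cert_tree lc_b_Cert_tree lc_b_Cert_tree lc_b_rc_8_0 lc_b_rc_8_2 lc_b_rc_10_2 lc_b_rc_6_1 lc_b_rc_8_2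 lc_b_rc_9_2 lc_b_rc_8_2 lc_b_Cert_tree) (@D3.rec (fun _ => (Cert rels S Gen.b)) lc_b_rc_7_4 lc_b_rc_9_2 lc_b_Cert_tree lc_b_rc_8_2 lc_b_rc_9_2 lc_b_Cert_tree lc_b_Cert_tree lc_b_rc_10_2 lc_b_rc_9_2 lc_b_rc_6_1 lc_b_rc_1_3 lc_b_Cert_tree lc_b_rc_6_1 lc_b_Cert_tree lc_b_rc_8_2 lc_b_rc_9_2 lc_b_rc_6_1 lc_b_rc_6_1 lc_b_Cert_tree lc_b_rc_8_2 lc_b_rc_9_2 lc_b_rc_8_2 lc_b_rc_9_2 lc_b_rc_9_2 lc_b_Cert_tree lc_b_Cert_tree lc_b_rc_8_2 lc_b_rc_9_0 lc_b_rc_6_1 lc_b_rc_8_2 lc_b_rc_9_2 lc_b_rc_6_1 lc_b_rc_8_2 lc_b_rc_6_1 lc_b_rc_6_1 lc_b_rc_1_3 lc_b_rc_9_2 lc_b_rc_8_2 lc_b_Cert_tree lc_b_rc_26_1 lc_b_rc_8_2 lc_b_rc_26_5 lc_b_rc_9_2 lc_b_rc_6_1 lc_b_rc_8_2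 lc_b_Cert_tree lc_b_rc_6_1 lc_b_rc_8_2 lc_b_rc_9_2 lc_b_rc_10_2 lc_b_rc_10_2 lc_b_rc_9_0 lc_b_rc_9_2 lc_b_rc_1_3 lc_b_rc_8_2 lc_b_Cert_tree lc_b_rc_9_2 lc_b_rc_6_1 lc_b_rc_26_5 lc_b_Cert_tree lc_b_rc_9_2 lc_b_Cert_tree) (@D3.rec (fun _ => (Cert rels S Gen.b)) lc_b_rc_9_2 lc_b_rc_1_3 lc_b_rc_1_3 lc_b_rc_8_2 lc_b_rc_6_1 lc_b_rc_8_2 lc_b_rc_9_2 lc_b_rc_6_1 lc_b_rc_8_2 lc_b_rc_9_2 lc_b_rc_10_2 lc_b_Cert_tree lc_b_rc_9_2 lc_b_rc_8_2 lc_b_rc_26_1 lc_b_rc_6_1 lc_b_rc_1_3 lc_b_rc_9_2 lc_b_rc_8_2 lc_b_rc_9_2 lc_b_rc_26_5 lc_b_rc_26_5 lc_b_Cert_tree lc_b_rc_9_2 lc_b_rc_8_0 lc_b_rc_7_0 lc_b_rc_8_2 lc_b_rc_6_1 lc_b_rc_26_5 lc_b_rc_9_2 lc_b_rc_6_1 lc_b_Cert_tree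 lc_b_rc_9_2 lc_b_rc_6_1 lc_b_Cert_tree lc_b_rc_6_1 lc_b_rc_8_2 lc_b_rc_9_2 lc_b_rc_6_1 lc_b_Cert_tree lc_b_Cert_tree lc_b_rc_10_2 lc_b_rc_9_2 lc_b_rc_9_0 lc_b_rc_26_5 lc_b_rc_8_2 lc_b_Cert_tree lc_b_Cert_tree lc_b_rc_8_2 lc_b_rc_9_2 lc_b_rc_8_2 lc_b_rc_10_2 lc_b_rc_6_1 lc_b_rc_8_2 lc_b_rc_8_0 lc_b_rc_6_1 lc_b_rc_9_2 lc_b_rc_9_2 lc_b_Cert_tree lc_b_Cert_tree lc_b_rc_8_2 lc_b_Cert_tree) (@D3.rec (fun _ => (Cert rels S Gen.b)) lc_b_Cert_tree lc_b_Cert_tree lc_b_rc_8_2 lc_b_rc_10_2 lc_b_rc_6_1 lc_b_rc_8_2 lc_b_rc_8_2 lc_b_Cert_tree lc_b_rc_8_2 lc_b_Cert_tree lc_b_rc_10_2 lc_b_rc_8_2 lc_b_rc_6_1 lc_b_Cert_tree lc_b_rc_9_2 lc_b_rc_1_3 lc_b_rc_8_2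 lc_b_rc_9_2 lc_b_rc_26_5 lc_b_rc_6_1 lc_b_rc_26_5 lc_b_rc_8_2 lc_b_rc_7_2 lc_b_rc_9_2 lc_b_rc_1_5 lc_b_Cert_tree lc_b_rc_8_2 lc_b_rc_10_2 lc_b_rc_8_2 lc_b_rc_8_2 lc_b_rc_9_2 lc_b_rc_26_1 lc_b_rc_26_1 lc_b_rc_9_0 lc_b_rc_10_2 lc_b_Cert_tree lc_b_rc_9_2 lc_b_Cert_tree lc_b_rc_26_7 lc_b_rc_6_1 lc_b_rc_7_4 lc_b_rc_25_16 lc_b_rc_10_2 lc_b_rc_1_3 lc_b_rc_8_2 lc_b_rc_10_2 lc_b_rc_9_2 lc_b_rc_8_2 lc_b_rc_8_0 lc_b_Cert_tree lc_b_rc_10_2 lc_b_rc_8_2 lc_b_rc_8_2 lc_b_rc_8_2 lc_b_rc_8_2 lc_b_rc_9_2 lc_b_rc_8_2 lc_b_Cert_tree lc_b_rc_9_2 lc_b_rc_8_2 lc_b_rc_9_2 lc_b_rc_26_5) (@D3.rec (fun _ => (Cert rels S Gen.b)) lc_b_rc_6_1 lc_b_rc_8_2 lc_b_rc_9_2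 lc_b_rc_10_0 lc_b_rc_8_2 lc_b_rc_10_2 lc_b_rc_8_2 lc_b_rc_1_3 lc_b_Cert_tree lc_b_rc_26_7 lc_b_rc_6_1 lc_b_Cert_tree lc_b_rc_9_2 lc_b_rc_7_4 lc_b_rc_9_2 lc_b_Cert_tree lc_b_rc_6_1 lc_b_rc_9_2 lc_b_Cert_tree lc_b_rc_6_1 lc_b_rc_10_2 lc_b_rc_9_2 lc_b_Cert_tree lc_b_Cert_tree lc_b_rc_6_1 lc_b_rc_7_0 lc_b_rc_9_2 lc_b_rc_1_5 lc_b_rc_8_2 lc_b_rc_10_2 lc_b_rc_7_0 lc_b_Cert_tree lc_b_rc_9_2 lc_b_rc_6_1 lc_b_rc_8_2 lc_b_rc_9_2 lc_b_rc_1_5 lc_b_rc_9_0 lc_b_rc_10_2 lc_b_rc_6_1 lc_b_rc_8_2 lc_b_rc_9_2 lc_b_rc_6_1 lc_b_rc_7_4 lc_b_rc_9_2 lc_b_Cert_tree lc_b_Cert_tree lc_b_rc_9_2 lc_b_rc_8_2 lc_b_Cert_tree lc_b_Cert_tree lc_b_rc_8_2 lc_b_rc_7_2 lc_b_rc_9_2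 lc_b_rc_6_1 lc_b_Cert_tree lc_b_rc_8_2 lc_b_rc_9_2 lc_b_rc_6_1 lc_b_rc_26_5 lc_b_rc_8_2 lc_b_rc_1_5)
def ce_b_5 : D2 → D3 → (Cert rels S Gen.b) := @D2.rec (fun _ => D3 → (Cert rels S Gen.b)) (@D3.rec (fun _ => (Cert rels S Gen.b)) lc_b_Cert_tree lc_b_Cert_tree lc_b_rc_8_2 lc_b_rc_6_1 lc_b_rc_8_2 lc_b_Cert_tree lc_b_rc_26_7 lc_b_Cert_tree lc_b_rc_6_1 lc_b_rc_1_3 lc_b_rc_7_4 lc_b_rc_8_2 lc_b_rc_9_2 lc_b_Cert_tree lc_b_rc_10_2 lc_b_rc_6_1 lc_b_rc_10_2 lc_b_rc_26_1 lc_b_rc_1_3 lc_b_rc_8_2 lc_b_Cert_tree lc_b_rc_9_2 lc_b_rc_1_5 lc_b_Cert_tree lc_b_rc_9_2 lc_b_rc_6_1 lc_b_rc_9_2 lc_b_rc_6_1 lc_b_rc_8_2 lc_b_rc_8_2 lc_b_Cert_tree lc_b_rc_6_1 lc_b_rc_8_2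 lc_b_Cert_tree lc_b_rc_6_1 lc_b_rc_26_1 lc_b_rc_8_0 lc_b_Cert_tree lc_b_Cert_tree lc_b_rc_6_1 lc_b_rc_8_2 lc_b_Cert_tree lc_b_rc_7_4 lc_b_rc_6_1 lc_b_rc_8_2 lc_b_rc_26_5 lc_b_Cert_tree lc_b_Cert_tree lc_b_rc_9_2 lc_b_Cert_tree lc_b_rc_9_2 lc_b_Cert_tree lc_b_Cert_tree lc_b_rc_6_1 lc_b_rc_8_2 lc_b_rc_10_2 lc_b_rc_9_2 lc_b_rc_8_2 lc_b_rc_8_2 lc_b_rc_26_5 lc_b_Cert_tree lc_b_rc_9_2) (@D3.rec (fun _ => (Cert rels S Gen.b)) lc_b_rc_26_7 lc_b_Cert_tree lc_b_rc_9_2 lc_b_Cert_tree lc_b_rc_8_2 lc_b_Cert_tree lc_b_rc_9_2 lc_b_Cert_tree lc_b_Cert_tree lc_b_rc_6_1 lc_b_rc_8_2 lc_b_rc_9_2 lc_b_rc_6_1 lc_b_rc_8_0 lc_b_rc_10_2 lc_b_rc_8_2 lc_b_rc_6_1 lc_b_rc_26_1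 lc_b_rc_9_2 lc_b_rc_6_1 lc_b_rc_8_2 lc_b_Cert_tree lc_b_rc_9_2 lc_b_rc_8_2 lc_b_rc_6_1 lc_b_rc_8_2 lc_b_rc_7_4 lc_b_rc_26_1 lc_b_rc_8_2 lc_b_rc_10_2 lc_b_Cert_tree lc_b_Cert_tree lc_b_rc_9_2 lc_b_Cert_tree lc_b_rc_6_1 lc_b_rc_8_2 lc_b_rc_9_2 lc_b_rc_6_1 lc_b_rc_26_5 lc_b_rc_10_2 lc_b_rc_9_2 lc_b_rc_6_1 lc_b_rc_8_2 lc_b_rc_9_2 lc_b_rc_8_2 lc_b_rc_8_2 lc_b_rc_10_2 lc_b_rc_6_1 lc_b_rc_8_2 lc_b_rc_9_2 lc_b_rc_6_1 lc_b_rc_8_2 lc_b_rc_9_2 lc_b_Cert_tree lc_b_Cert_tree lc_b_rc_1_3 lc_b_rc_8_2 lc_b_rc_10_2 lc_b_Cert_tree lc_b_Cert_tree lc_b_Cert_tree lc_b_rc_9_2) (@D3.rec (fun _ => (Cert rels S Gen.b)) lc_b_rc_10_2 lc_b_rc_9_2 lc_b_Cert_tree lc_b_rc_6_1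 lc_b_Cert_tree lc_b_rc_9_2 lc_b_rc_6_1 lc_b_Cert_tree lc_b_rc_9_2 lc_b_Cert_tree lc_b_Cert_tree lc_b_rc_6_1 lc_b_rc_8_2 lc_b_rc_9_2 lc_b_Cert_tree lc_b_Cert_tree lc_b_rc_10_2 lc_b_Cert_tree lc_b_rc_9_2 lc_b_rc_6_1 lc_b_rc_8_2 lc_b_rc_9_2 lc_b_Cert_tree lc_b_rc_9_2 lc_b_rc_10_2 lc_b_rc_6_1 lc_b_rc_8_2 lc_b_rc_9_2 lc_b_rc_6_1 lc_b_rc_8_2 lc_b_rc_9_2 lc_b_rc_6_1 lc_b_rc_8_2 lc_b_Cert_tree lc_b_Cert_tree lc_b_rc_1_3 lc_b_rc_8_2 lc_b_rc_9_2 lc_b_rc_9_2 lc_b_Cert_tree lc_b_Cert_tree lc_b_rc_8_2 lc_b_rc_6_1 lc_b_Cert_tree lc_b_Cert_tree lc_b_rc_9_2 lc_b_Cert_tree lc_b_rc_9_2 lc_b_Cert_tree lc_b_rc_9_2 lc_b_rc_6_1 lc_b_Cert_tree lc_b_rc_9_2 lc_b_Cert_tree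 lc_b_rc_9_2 lc_b_Cert_tree lc_b_Cert_tree lc_b_rc_6_1 lc_b_rc_8_2 lc_b_rc_9_2 lc_b_Cert_tree lc_b_rc_8_2) (@D3.rec (fun _ => (Cert rels S Gen.b)) lc_b_rc_10_2 lc_b_rc_6_1 lc_b_rc_26_1 lc_b_rc_8_2 lc_b_Cert_tree lc_b_Cert_tree lc_b_rc_8_2 lc_b_rc_8_2 lc_b_rc_9_2 lc_b_rc_9_2 lc_b_Cert_tree lc_b_rc_8_2 lc_b_rc_10_2 lc_b_Cert_tree lc_b_rc_8_2 lc_b_Cert_tree lc_b_rc_9_2 lc_b_Cert_tree lc_b_rc_6_1 lc_b_rc_8_2 lc_b_rc_9_2 lc_b_Cert_tree lc_b_Cert_tree lc_b_rc_10_2 lc_b_Cert_tree lc_b_Cert_tree lc_b_rc_1_3 lc_b_rc_8_2 lc_b_rc_9_2 lc_b_Cert_tree lc_b_Cert_tree lc_b_rc_7_4 lc_b_Cert_tree lc_b_rc_7_2 lc_b_rc_8_2 lc_b_rc_10_2 lc_b_rc_6_1 lc_b_Cert_tree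 lc_b_rc_8_2 lc_b_Cert_tree lc_b_rc_8_2 lc_b_rc_9_2 lc_b_Cert_tree lc_b_rc_9_2 lc_b_Cert_tree lc_b_rc_6_1 lc_b_rc_8_2 lc_b_rc_9_2 lc_b_Cert_tree lc_b_Cert_tree lc_b_rc_10_2 lc_b_Cert_tree lc_b_Cert_tree lc_b_rc_1_3 lc_b_rc_8_2 lc_b_rc_9_2 lc_b_rc_9_2 lc_b_Cert_tree lc_b_Cert_tree lc_b_rc_8_0 lc_b_Cert_tree lc_b_rc_8_2) (@D3.rec (fun _ => (Cert rels S Gen.b)) lc_b_rc_6_1 lc_b_Cert_tree lc_b_Cert_tree lc_b_rc_1_3 lc_b_rc_7_4 lc_b_rc_8_2 lc_b_rc_9_2 lc_b_Cert_tree lc_b_Cert_tree lc_b_rc_26_7 lc_b_rc_8_2 lc_b_rc_10_2 lc_b_Cert_tree lc_b_Cert_tree lc_b_rc_1_3 lc_b_rc_7_4 lc_b_rc_8_2 lc_b_rc_9_2 lc_b_rc_9_2 lc_b_rc_8_2 lc_b_rc_10_2 lc_b_rc_10_2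 lc_b_Cert_tree lc_b_rc_6_1 lc_b_Cert_tree lc_b_rc_8_2 lc_b_rc_9_2 lc_b_rc_10_2 lc_b_rc_6_1 lc_b_Cert_tree lc_b_rc_8_2 lc_b_rc_9_2 lc_b_rc_1_3 lc_b_Cert_tree lc_b_rc_26_5 lc_b_rc_7_2 lc_b_rc_9_2 lc_b_rc_9_2 lc_b_rc_9_2 lc_b_rc_6_1 lc_b_rc_9_2 lc_b_rc_10_2 lc_b_Cert_tree lc_b_rc_10_2 lc_b_Cert_tree lc_b_rc_8_2 lc_b_rc_6_1 lc_b_Cert_tree lc_b_rc_8_2 lc_b_rc_26_5 lc_b_rc_6_1 lc_b_Cert_tree lc_b_rc_9_2 lc_b_Cert_tree lc_b_rc_9_2 lc_b_rc_6_1 lc_b_Cert_tree lc_b_rc_9_2 lc_b_Cert_tree lc_b_Cert_tree lc_b_rc_6_1 lc_b_rc_8_2) (@D3.rec (fun _ => (Cert rels S Gen.b)) lc_b_rc_9_2 lc_b_rc_8_2 lc_b_Cert_tree lc_b_rc_10_2 lc_b_rc_8_2 lc_b_rc_6_1 lc_b_rc_8_2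 lc_b_rc_6_1 lc_b_rc_8_2 lc_b_rc_6_1 lc_b_rc_8_2 lc_b_Cert_tree lc_b_rc_7_0 lc_b_rc_26_5 lc_b_rc_8_2 lc_b_Cert_tree lc_b_rc_9_2 lc_b_rc_6_1 lc_b_Cert_tree lc_b_rc_9_2 lc_b_Cert_tree lc_b_rc_9_2 lc_b_Cert_tree lc_b_Cert_tree lc_b_rc_6_1 lc_b_rc_26_1 lc_b_rc_9_2 lc_b_Cert_tree lc_b_rc_6_1 lc_b_rc_10_2 lc_b_Cert_tree lc_b_rc_9_2 lc_b_rc_6_1 lc_b_rc_9_2 lc_b_Cert_tree lc_b_rc_26_5 lc_b_rc_10_2 lc_b_rc_1_3 lc_b_Cert_tree lc_b_rc_6_1 lc_b_Cert_tree lc_b_Cert_tree lc_b_rc_1_3 lc_b_rc_9_2 lc_b_rc_8_2 lc_b_rc_10_2 lc_b_rc_6_1 lc_b_Cert_tree lc_b_rc_6_1 lc_b_Cert_tree lc_b_rc_9_2 lc_b_rc_9_2 lc_b_rc_8_2 lc_b_rc_7_4 lc_b_rc_9_2 lc_b_rc_8_2 lc_b_rc_6_1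 lc_b_rc_1_5 lc_b_rc_8_2 lc_b_rc_8_0 lc_b_rc_7_4 lc_b_rc_9_2) (@D3.rec (fun _ => (Cert rels S Gen.b)) lc_b_Cert_tree lc_b_Cert_tree lc_b_rc_10_2 lc_b_rc_6_1 lc_b_Cert_tree lc_b_rc_6_1 lc_b_Cert_tree lc_b_rc_9_2 lc_b_Cert_tree lc_b_Cert_tree lc_b_rc_6_1 lc_b_rc_8_2 lc_b_rc_9_2 lc_b_Cert_tree lc_b_rc_8_2 lc_b_rc_10_2 lc_b_Cert_tree lc_b_Cert_tree lc_b_Cert_tree lc_b_rc_1_3 lc_b_rc_9_2 lc_b_rc_10_2 lc_b_rc_6_1 lc_b_rc_26_5 lc_b_Cert_tree lc_b_Cert_tree lc_b_Cert_tree lc_b_rc_6_1 lc_b_rc_6_1 lc_b_rc_9_2 lc_b_rc_6_1 lc_b_rc_9_2 lc_b_rc_8_2 lc_b_Cert_tree lc_b_rc_26_5 lc_b_rc_9_2 lc_b_Cert_tree lc_b_rc_1_5 lc_b_rc_26_7 lc_b_rc_8_2 lc_b_Cert_tree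 lc_b_rc_9_2 lc_b_rc_8_2 lc_b_rc_9_2 lc_b_rc_8_2 lc_b_rc_26_1 lc_b_Cert_tree lc_b_rc_9_2 lc_b_rc_8_0 lc_b_rc_26_5 lc_b_rc_9_2 lc_b_rc_6_1 lc_b_rc_26_5 lc_b_rc_6_1 lc_b_rc_9_2 lc_b_Cert_tree lc_b_rc_10_2 lc_b_rc_6_1 lc_b_rc_8_2 lc_b_rc_8_2 lc_b_Cert_tree lc_b_Cert_tree) (@D3.rec (fun _ => (Cert rels S Gen.b)) lc_b_rc_9_2 lc_b_rc_6_1 lc_b_rc_9_2 lc_b_Cert_tree lc_b_rc_8_2 lc_b_rc_7_4 lc_b_rc_9_2 lc_b_rc_9_2 lc_b_rc_6_1 lc_b_rc_9_2 lc_b_Cert_tree lc_b_rc_10_2 lc_b_rc_6_1 lc_b_rc_10_0 lc_b_rc_8_2 lc_b_rc_1_3 lc_b_rc_8_2 lc_b_rc_1_3 lc_b_rc_7_2 lc_b_rc_8_2 lc_b_rc_8_0 lc_b_Cert_tree lc_b_rc_26_7 lc_b_rc_9_2 lc_b_rc_6_1 lc_b_rc_8_2 lc_b_Cert_tree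 lc_b_Cert_tree lc_b_rc_8_2 lc_b_rc_10_2 lc_b_rc_8_2 lc_b_rc_26_1 lc_b_rc_6_1 lc_b_rc_8_2 lc_b_rc_9_2 lc_b_rc_10_2 lc_b_rc_7_4 lc_b_rc_6_1 lc_b_rc_8_0 lc_b_rc_7_4 lc_b_Cert_tree lc_b_rc_9_2 lc_b_rc_10_2 lc_b_rc_8_2 lc_b_rc_7_2 lc_b_rc_8_2 lc_b_rc_8_2 lc_b_Cert_tree lc_b_rc_9_2 lc_b_rc_8_2 lc_b_Cert_tree lc_b_rc_8_2 lc_b_rc_6_1 lc_b_Cert_tree lc_b_rc_9_2 lc_b_rc_6_1 lc_b_rc_26_7 lc_b_rc_9_2 lc_b_Cert_tree lc_b_Cert_tree lc_b_rc_6_1 lc_b_rc_8_2) (@D3.rec (fun _ => (Cert rels S Gen.b)) lc_b_rc_10_2 lc_b_rc_7_4 lc_b_Cert_tree lc_b_rc_8_0 lc_b_rc_10_2 lc_b_rc_9_2 lc_b_rc_7_4 lc_b_rc_9_2 lc_b_Cert_tree lc_b_rc_26_5 lc_b_rc_10_2 lc_b_rc_1_3 lc_b_rc_26_5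 lc_b_rc_9_2 lc_b_rc_9_2 lc_b_rc_8_0 lc_b_rc_10_2 lc_b_Cert_tree lc_b_Cert_tree lc_b_rc_1_3 lc_b_rc_9_2 lc_b_rc_6_1 lc_b_rc_9_2 lc_b_rc_6_1 lc_b_rc_9_2 lc_b_rc_9_2 lc_b_Cert_tree lc_b_Cert_tree lc_b_rc_6_1 lc_b_rc_26_5 lc_b_Cert_tree lc_b_rc_9_2 lc_b_Cert_tree lc_b_rc_8_2 lc_b_Cert_tree lc_b_Cert_tree lc_b_Cert_tree lc_b_rc_6_1 lc_b_rc_8_2 lc_b_rc_9_2 lc_b_rc_26_5 lc_b_rc_26_7 lc_b_rc_10_2 lc_b_rc_6_1 lc_b_rc_26_5 lc_b_rc_26_5 lc_b_rc_9_2 lc_b_rc_8_2 lc_b_rc_6_1 lc_b_rc_8_2 lc_b_rc_9_2 lc_b_rc_8_2 lc_b_rc_8_0 lc_b_rc_8_2 lc_b_rc_10_2 lc_b_Cert_tree lc_b_Cert_tree lc_b_rc_9_2 lc_b_rc_6_1 lc_b_rc_8_2 lc_b_rc_9_2 lc_b_rc_26_1) (@D3.rec (fun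 _ => (Cert rels S Gen.b)) lc_b_rc_26_7 lc_b_rc_10_2 lc_b_rc_9_2 lc_b_rc_6_1 lc_b_rc_8_2 lc_b_rc_9_2 lc_b_rc_8_2 lc_b_rc_9_2 lc_b_rc_10_2 lc_b_rc_6_1 lc_b_rc_25_4 lc_b_rc_9_2 lc_b_rc_6_1 lc_b_rc_8_2 lc_b_rc_9_2 lc_b_Cert_tree lc_b_Cert_tree lc_b_rc_1_3 lc_b_rc_8_2 lc_b_rc_10_2 lc_b_Cert_tree lc_b_Cert_tree lc_b_rc_9_2 lc_b_rc_9_2 lc_b_Cert_tree lc_b_Cert_tree lc_b_rc_8_2 lc_b_Cert_tree lc_b_rc_9_2 lc_b_Cert_tree lc_b_rc_9_2 lc_b_rc_26_1 lc_b_rc_9_0 lc_b_Cert_tree lc_b_rc_9_2 lc_b_rc_6_1 lc_b_Cert_tree lc_b_rc_9_2 lc_b_Cert_tree lc_b_Cert_tree lc_b_rc_6_1 lc_b_rc_8_2 lc_b_rc_9_2 lc_b_Cert_tree lc_b_Cert_tree lc_b_rc_10_2 lc_b_Cert_tree lc_b_rc_9_2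 lc_b_rc_6_1 lc_b_rc_9_2 lc_b_Cert_tree lc_b_rc_6_1 lc_b_rc_8_2 lc_b_rc_6_1 lc_b_Cert_tree lc_b_Cert_tree lc_b_rc_1_3 lc_b_rc_8_2 lc_b_rc_9_2 lc_b_rc_9_2 lc_b_rc_10_2 lc_b_rc_6_1) (@D3.rec (fun _ => (Cert rels S Gen.b)) lc_b_Cert_tree lc_b_Cert_tree lc_b_rc_9_2 lc_b_rc_6_1 lc_b_Cert_tree lc_b_Cert_tree lc_b_rc_9_2 lc_b_Cert_tree lc_b_rc_25_12 lc_b_rc_6_1 lc_b_rc_8_2 lc_b_rc_9_2 lc_b_rc_26_5 lc_b_rc_8_2 lc_b_rc_10_2 lc_b_Cert_tree lc_b_Cert_tree lc_b_Cert_tree lc_b_rc_8_2 lc_b_rc_8_2 lc_b_rc_9_2 lc_b_rc_9_2 lc_b_rc_10_2 lc_b_Cert_tree lc_b_rc_8_2 lc_b_Cert_tree lc_b_Cert_tree lc_b_rc_6_1 lc_b_Cert_tree lc_b_rc_8_2 lc_b_Cert_tree lc_b_rc_6_1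 lc_b_rc_8_2 lc_b_rc_9_2 lc_b_Cert_tree lc_b_Cert_tree lc_b_rc_10_2 lc_b_rc_10_2 lc_b_Cert_tree lc_b_rc_1_3 lc_b_rc_8_2 lc_b_rc_9_2 lc_b_rc_7_4 lc_b_rc_7_2 lc_b_Cert_tree lc_b_rc_8_2 lc_b_rc_10_2 lc_b_rc_6_1 lc_b_Cert_tree lc_b_rc_8_2 lc_b_Cert_tree lc_b_rc_9_2 lc_b_rc_25_12 lc_b_rc_6_1 lc_b_rc_8_2 lc_b_rc_9_2 lc_b_Cert_tree lc_b_Cert_tree lc_b_rc_10_2 lc_b_Cert_tree lc_b_Cert_tree lc_b_rc_1_3) (@D3.rec (fun _ => (Cert rels S Gen.b)) lc_b_rc_8_2 lc_b_rc_9_2 lc_b_rc_9_2 lc_b_rc_9_0 lc_b_Cert_tree lc_b_rc_10_2 lc_b_Cert_tree lc_b_rc_8_2 lc_b_rc_6_1 lc_b_Cert_tree lc_b_Cert_tree lc_b_Cert_tree lc_b_rc_1_3 lc_b_rc_7_4 lc_b_rc_8_2 lc_b_rc_9_2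 lc_b_rc_1_5 lc_b_rc_8_2 lc_b_rc_10_2 lc_b_Cert_tree lc_b_Cert_tree lc_b_rc_1_3 lc_b_rc_7_4 lc_b_rc_8_2 lc_b_rc_9_2 lc_b_rc_7_4 lc_b_rc_8_2 lc_b_rc_10_2 lc_b_rc_10_2 lc_b_Cert_tree lc_b_rc_6_1 lc_b_Cert_tree lc_b_rc_8_2 lc_b_rc_9_2 lc_b_rc_10_2 lc_b_rc_6_1 lc_b_Cert_tree lc_b_rc_8_2 lc_b_rc_9_2 lc_b_rc_8_2 lc_b_Cert_tree lc_b_Cert_tree lc_b_rc_7_4 lc_b_rc_9_2 lc_b_rc_9_2 lc_b_rc_6_1 lc_b_rc_9_2 lc_b_rc_6_1 lc_b_rc_9_2 lc_b_Cert_tree lc_b_Cert_tree lc_b_rc_10_2 lc_b_Cert_tree lc_b_rc_8_2 lc_b_rc_6_1 lc_b_Cert_tree lc_b_rc_8_2 lc_b_rc_9_2 lc_b_rc_6_1 lc_b_Cert_tree lc_b_rc_9_2 lc_b_Cert_tree) (@D3.rec (fun _ => (Cert rels S Gen.b)) lc_b_rc_9_2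 lc_b_Cert_tree lc_b_rc_9_0 lc_b_rc_6_1 lc_b_rc_8_2 lc_b_rc_9_2 lc_b_Cert_tree lc_b_rc_8_2 lc_b_rc_10_2 lc_b_rc_7_4 lc_b_rc_9_2 lc_b_Cert_tree lc_b_rc_9_2 lc_b_rc_10_2 lc_b_rc_1_3 lc_b_rc_7_4 lc_b_Cert_tree lc_b_Cert_tree lc_b_rc_1_3 lc_b_rc_9_2 lc_b_rc_8_2 lc_b_rc_10_2 lc_b_rc_6_1 lc_b_rc_6_1 lc_b_rc_9_2 lc_b_rc_6_1 lc_b_rc_6_1 lc_b_rc_7_2 lc_b_rc_9_2 lc_b_rc_6_1 lc_b_rc_9_2 lc_b_Cert_tree lc_b_Cert_tree lc_b_rc_10_2 lc_b_rc_26_5 lc_b_rc_6_1 lc_b_Cert_tree lc_b_rc_9_2 lc_b_rc_8_2 lc_b_Cert_tree lc_b_rc_6_1 lc_b_Cert_tree lc_b_rc_9_2 lc_b_Cert_tree lc_b_rc_6_1 lc_b_rc_8_2 lc_b_rc_9_2 lc_b_rc_10_0 lc_b_rc_6_1 lc_b_rc_8_2 lc_b_rc_10_2 lc_b_Cert_tree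 lc_b_rc_8_2 lc_b_rc_6_1 lc_b_rc_8_2 lc_b_rc_9_2 lc_b_rc_6_1 lc_b_rc_26_7 lc_b_rc_6_1 lc_b_rc_6_1 lc_b_rc_8_2 lc_b_Cert_tree) (@D3.rec (fun _ => (Cert rels S Gen.b)) lc_b_Cert_tree lc_b_rc_9_2 lc_b_rc_8_2 lc_b_rc_6_1 lc_b_Cert_tree lc_b_Cert_tree lc_b_rc_9_2 lc_b_Cert_tree lc_b_Cert_tree lc_b_rc_6_1 lc_b_rc_8_2 lc_b_rc_8_0 lc_b_Cert_tree lc_b_rc_8_2 lc_b_rc_10_2 lc_b_Cert_tree lc_b_Cert_tree lc_b_Cert_tree lc_b_rc_1_3 lc_b_rc_9_2 lc_b_rc_8_2 lc_b_rc_10_2 lc_b_rc_6_1 lc_b_Cert_tree lc_b_Cert_tree lc_b_Cert_tree lc_b_rc_6_1 lc_b_rc_7_4 lc_b_rc_7_4 lc_b_rc_9_2 lc_b_Cert_tree lc_b_Cert_tree lc_b_rc_10_2 lc_b_rc_9_2 lc_b_rc_9_2 lc_b_Cert_tree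 lc_b_rc_10_2 lc_b_rc_6_1 lc_b_Cert_tree lc_b_rc_1_3 lc_b_rc_8_2 lc_b_rc_9_2 lc_b_Cert_tree lc_b_rc_9_2 lc_b_rc_8_2 lc_b_rc_8_2 lc_b_rc_7_4 lc_b_rc_9_2 lc_b_rc_8_2 lc_b_Cert_tree lc_b_rc_8_2 lc_b_rc_10_2 lc_b_rc_6_1 lc_b_rc_6_1 lc_b_rc_8_2 lc_b_rc_6_1 lc_b_rc_1_5 lc_b_rc_8_2 lc_b_rc_10_2 lc_b_rc_8_2 lc_b_rc_10_2 lc_b_rc_8_2) (@D3.rec (fun _ => (Cert rels S Gen.b)) lc_b_rc_7_4 lc_b_rc_9_0 lc_b_Cert_tree lc_b_rc_26_5 lc_b_rc_9_2 lc_b_rc_25_4 lc_b_Cert_tree lc_b_Cert_tree lc_b_Cert_tree lc_b_rc_10_2 lc_b_rc_6_1 lc_b_rc_26_5 lc_b_rc_8_2 lc_b_rc_9_2 lc_b_Cert_tree lc_b_rc_8_0 lc_b_rc_6_1 lc_b_rc_9_2 lc_b_Cert_tree lc_b_Cert_tree lc_b_rc_9_2 lc_b_rc_10_2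 lc_b_rc_6_1 lc_b_rc_1_1 lc_b_rc_7_4 lc_b_rc_8_2 lc_b_rc_9_2 lc_b_rc_6_1 lc_b_rc_26_1 lc_b_rc_8_0 lc_b_rc_10_2 lc_b_rc_1_1 lc_b_rc_26_1 lc_b_rc_9_2 lc_b_Cert_tree lc_b_rc_10_2 lc_b_rc_10_2 lc_b_rc_1_3 lc_b_rc_7_4 lc_b_rc_9_2 lc_b_rc_1_5 lc_b_Cert_tree lc_b_rc_10_2 lc_b_Cert_tree lc_b_Cert_tree lc_b_rc_1_3 lc_b_rc_9_2 lc_b_rc_10_2 lc_b_rc_7_0 lc_b_rc_6_1 lc_b_rc_9_2 lc_b_rc_9_2 lc_b_Cert_tree lc_b_Cert_tree lc_b_Cert_tree lc_b_rc_6_1 lc_b_rc_8_2 lc_b_Cert_tree lc_b_rc_8_2 lc_b_rc_7_0 lc_b_rc_6_1 lc_b_rc_8_2) (@D3.rec (fun _ => (Cert rels S Gen.b)) lc_b_rc_8_2 lc_b_Cert_tree lc_b_Cert_tree lc_b_rc_9_2 lc_b_Cert_tree lc_b_rc_9_2 lc_b_Cert_tree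 lc_b_rc_6_1 lc_b_rc_8_2 lc_b_rc_10_2 lc_b_rc_9_2 lc_b_rc_26_1 lc_b_Cert_tree lc_b_rc_9_2 lc_b_rc_6_1 lc_b_rc_8_2 lc_b_rc_8_2 lc_b_rc_26_5 lc_b_Cert_tree lc_b_rc_6_1 lc_b_rc_8_2 lc_b_Cert_tree lc_b_rc_9_2 lc_b_Cert_tree lc_b_Cert_tree lc_b_rc_6_1 lc_b_rc_8_2 lc_b_rc_8_0 lc_b_rc_8_2 lc_b_rc_10_2 lc_b_rc_6_1 lc_b_Cert_tree lc_b_rc_9_2 lc_b_rc_8_2 lc_b_Cert_tree lc_b_rc_9_2 lc_b_rc_26_5 lc_b_rc_6_1 lc_b_rc_8_2 lc_b_rc_9_2 lc_b_rc_1_1 lc_b_rc_9_2 lc_b_rc_10_2 lc_b_Cert_tree lc_b_rc_9_2 lc_b_Cert_tree lc_b_rc_6_1 lc_b_rc_8_2 lc_b_rc_9_2 lc_b_rc_26_5 lc_b_rc_26_5 lc_b_rc_1_1 lc_b_Cert_tree lc_b_rc_9_2 lc_b_rc_6_1 lc_b_rc_8_2 lc_b_rc_9_2 lc_b_rc_8_2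 lc_b_rc_9_2 lc_b_rc_10_2 lc_b_rc_6_1 lc_b_rc_8_2) (@D3.rec (fun _ => (Cert rels S Gen.b)) lc_b_rc_9_2 lc_b_rc_6_1 lc_b_rc_8_2 lc_b_rc_9_2 lc_b_Cert_tree lc_b_Cert_tree lc_b_rc_1_3 lc_b_rc_8_2 lc_b_rc_10_2 lc_b_Cert_tree lc_b_Cert_tree lc_b_Cert_tree lc_b_rc_9_2 lc_b_rc_10_2 lc_b_rc_9_2 lc_b_rc_9_2 lc_b_Cert_tree lc_b_Cert_tree lc_b_rc_8_2 lc_b_rc_25_12 lc_b_Cert_tree lc_b_rc_26_1 lc_b_rc_10_2 lc_b_rc_6_1 lc_b_rc_8_2 lc_b_rc_9_2 lc_b_Cert_tree lc_b_rc_8_2 lc_b_rc_9_2 lc_b_Cert_tree lc_b_rc_9_2 lc_b_rc_10_2 lc_b_rc_8_2 lc_b_rc_6_1 lc_b_rc_1_3 lc_b_rc_26_5 lc_b_rc_6_1 lc_b_Cert_tree lc_b_rc_8_2 lc_b_rc_9_2 lc_b_rc_10_2 lc_b_rc_6_1 lc_b_Cert_tree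 lc_b_rc_6_1 lc_b_rc_9_2 lc_b_rc_8_2 lc_b_Cert_tree lc_b_rc_7_4 lc_b_rc_7_4 lc_b_rc_9_2 lc_b_rc_9_2 lc_b_Cert_tree lc_b_rc_26_1 lc_b_rc_6_1 lc_b_rc_8_2 lc_b_Cert_tree lc_b_rc_7_0 lc_b_Cert_tree lc_b_rc_6_1 lc_b_rc_8_2 lc_b_rc_26_5 lc_b_Cert_tree) (@D3.rec (fun _ => (Cert rels S Gen.b)) lc_b_rc_8_2 lc_b_Cert_tree lc_b_Cert_tree lc_b_rc_9_2 lc_b_Cert_tree lc_b_rc_9_2 lc_b_Cert_tree lc_b_rc_6_1 lc_b_rc_8_2 lc_b_rc_10_2 lc_b_rc_9_2 lc_b_Cert_tree lc_b_rc_1_5 lc_b_rc_8_2 lc_b_rc_26_5 lc_b_Cert_tree lc_b_rc_8_0 lc_b_rc_8_2 lc_b_rc_9_2 lc_b_Cert_tree lc_b_rc_9_2 lc_b_rc_6_1 lc_b_rc_9_2 lc_b_rc_6_1 lc_b_rc_9_2 lc_b_rc_6_1 lc_b_rc_8_2 lc_b_rc_10_2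 lc_b_rc_9_2 lc_b_Cert_tree lc_b_rc_9_2 lc_b_Cert_tree lc_b_Cert_tree lc_b_rc_6_1 lc_b_rc_8_2 lc_b_rc_9_2 lc_b_rc_8_2 lc_b_rc_10_2 lc_b_rc_6_1 lc_b_Cert_tree lc_b_rc_9_2 lc_b_rc_8_2 lc_b_rc_6_1 lc_b_rc_8_2 lc_b_rc_9_2 lc_b_rc_8_0 lc_b_rc_8_2 lc_b_rc_10_2 lc_b_Cert_tree lc_b_Cert_tree lc_b_rc_6_1 lc_b_rc_8_2 lc_b_rc_9_2 lc_b_rc_6_1 lc_b_rc_26_5 lc_b_rc_10_2 lc_b_rc_9_2 lc_b_rc_6_1 lc_b_rc_8_2 lc_b_rc_9_2 lc_b_rc_8_2 lc_b_rc_6_1) (@D3.rec (fun _ => (Cert rels S Gen.b)) lc_b_rc_10_2 lc_b_rc_6_1 lc_b_rc_8_2 lc_b_rc_9_2 lc_b_rc_6_1 lc_b_rc_10_2 lc_b_rc_10_0 lc_b_Cert_tree lc_b_Cert_tree lc_b_rc_1_3 lc_b_rc_8_2 lc_b_rc_10_2 lc_b_Cert_tree lc_b_Cert_tree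 lc_b_Cert_tree lc_b_rc_9_2 lc_b_rc_10_2 lc_b_rc_9_2 lc_b_rc_9_2 lc_b_Cert_tree lc_b_Cert_tree lc_b_rc_8_2 lc_b_rc_9_2 lc_b_Cert_tree lc_b_Cert_tree lc_b_rc_10_2 lc_b_rc_6_1 lc_b_rc_8_2 lc_b_rc_9_2 lc_b_Cert_tree lc_b_Cert_tree lc_b_rc_8_2 lc_b_rc_9_2 lc_b_Cert_tree lc_b_rc_8_2 lc_b_rc_10_2 lc_b_rc_8_2 lc_b_rc_6_1 lc_b_rc_1_3 lc_b_Cert_tree lc_b_rc_6_1 lc_b_Cert_tree lc_b_rc_8_2 lc_b_rc_9_2 lc_b_rc_10_2 lc_b_rc_6_1 lc_b_Cert_tree lc_b_rc_8_2 lc_b_rc_9_2 lc_b_rc_8_2 lc_b_Cert_tree lc_b_Cert_tree lc_b_rc_7_4 lc_b_rc_9_2 lc_b_rc_9_2 lc_b_Cert_tree lc_b_Cert_tree lc_b_rc_10_2 lc_b_rc_6_1 lc_b_rc_8_2 lc_b_rc_8_0 lc_b_Cert_tree) (@D3.rec (fun _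 => (Cert rels S Gen.b)) lc_b_rc_9_2 lc_b_Cert_tree lc_b_rc_9_2 lc_b_rc_8_2 lc_b_rc_9_2 lc_b_rc_9_2 lc_b_rc_6_1 lc_b_rc_9_2 lc_b_Cert_tree lc_b_rc_9_2 lc_b_rc_7_0 lc_b_rc_9_2 lc_b_rc_6_1 lc_b_rc_1_5 lc_b_rc_10_0 lc_b_rc_6_1 lc_b_rc_8_2 lc_b_rc_9_2 lc_b_rc_9_2 lc_b_rc_26_5 lc_b_rc_10_2 lc_b_rc_6_1 lc_b_rc_8_2 lc_b_rc_9_2 lc_b_rc_8_2 lc_b_rc_6_1 lc_b_rc_6_1 lc_b_rc_10_2 lc_b_rc_6_1 lc_b_rc_8_2 lc_b_rc_9_2 lc_b_rc_6_1 lc_b_rc_8_2 lc_b_rc_9_2 lc_b_Cert_tree lc_b_Cert_tree lc_b_rc_1_3 lc_b_Cert_tree lc_b_Cert_tree lc_b_rc_7_4 lc_b_rc_9_2 lc_b_rc_9_2 lc_b_rc_9_2 lc_b_rc_9_2 lc_b_rc_9_2 lc_b_rc_6_1 lc_b_rc_8_2 lc_b_rc_9_2 lc_b_rc_6_1 lc_b_rc_8_2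 lc_b_rc_9_2 lc_b_rc_9_0 lc_b_rc_8_2 lc_b_rc_10_2 lc_b_Cert_tree lc_b_rc_26_5 lc_b_rc_6_1 lc_b_rc_8_2 lc_b_rc_9_2 lc_b_rc_8_2 lc_b_rc_9_0 lc_b_rc_10_2) (@D3.rec (fun _ => (Cert rels S Gen.b)) lc_b_rc_6_1 lc_b_rc_8_2 lc_b_rc_9_2 lc_b_rc_6_1 lc_b_rc_8_2 lc_b_rc_9_2 lc_b_Cert_tree lc_b_Cert_tree lc_b_rc_1_3 lc_b_rc_8_2 lc_b_rc_10_2 lc_b_Cert_tree lc_b_rc_9_2 lc_b_rc_9_2 lc_b_rc_9_2 lc_b_Cert_tree lc_b_rc_9_2 lc_b_Cert_tree lc_b_rc_9_2 lc_b_Cert_tree lc_b_Cert_tree lc_b_rc_6_1 lc_b_rc_8_2 lc_b_rc_10_2 lc_b_rc_1_3 lc_b_Cert_tree lc_b_rc_9_2 lc_b_Cert_tree lc_b_Cert_tree lc_b_Cert_tree lc_b_rc_6_1 lc_b_rc_8_2 lc_b_rc_7_2 lc_b_rc_8_2 lc_b_rc_10_2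 lc_b_Cert_tree lc_b_rc_9_2 lc_b_rc_6_1 lc_b_rc_8_2 lc_b_rc_9_2 lc_b_rc_8_2 lc_b_rc_10_2 lc_b_rc_9_2 lc_b_Cert_tree lc_b_rc_6_1 lc_b_rc_8_2 lc_b_rc_9_2 lc_b_rc_26_5 lc_b_rc_10_2 lc_b_rc_9_2 lc_b_rc_6_1 lc_b_rc_8_2 lc_b_rc_9_2 lc_b_rc_9_2 lc_b_rc_10_2 lc_b_rc_6_1 lc_b_rc_8_2 lc_b_rc_9_2 lc_b_rc_6_1 lc_b_rc_6_1 lc_b_rc_8_2 lc_b_rc_25_12) (@D3.rec (fun _ => (Cert rels S Gen.b)) lc_b_Cert_tree lc_b_rc_9_0 lc_b_rc_1_3 lc_b_rc_8_2 lc_b_rc_10_2 lc_b_Cert_tree lc_b_Cert_tree lc_b_rc_10_2 lc_b_rc_9_2 lc_b_rc_9_2 lc_b_Cert_tree lc_b_Cert_tree lc_b_Cert_tree lc_b_rc_6_1 lc_b_rc_8_2 lc_b_rc_7_0 lc_b_rc_6_1 lc_b_rc_8_2 lc_b_Cert_tree lc_b_Cert_tree lc_b_rc_9_2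 lc_b_rc_26_7 lc_b_rc_9_2 lc_b_rc_6_1 lc_b_rc_8_2 lc_b_rc_9_2 lc_b_Cert_tree lc_b_rc_9_2 lc_b_Cert_tree lc_b_rc_8_2 lc_b_Cert_tree lc_b_Cert_tree lc_b_Cert_tree lc_b_rc_6_1 lc_b_rc_8_2 lc_b_rc_26_7 lc_b_rc_9_2 lc_b_rc_8_2 lc_b_rc_10_2 lc_b_rc_6_1 lc_b_rc_8_2 lc_b_rc_10_0 lc_b_rc_9_0 lc_b_rc_10_2 lc_b_Cert_tree lc_b_rc_9_2 lc_b_Cert_tree lc_b_Cert_tree lc_b_rc_6_1 lc_b_rc_8_2 lc_b_rc_9_2 lc_b_rc_6_1 lc_b_rc_26_5 lc_b_rc_10_2 lc_b_rc_6_1 lc_b_rc_8_2 lc_b_rc_9_2 lc_b_rc_9_2 lc_b_rc_26_7 lc_b_rc_10_2 lc_b_rc_6_1 lc_b_rc_8_2) (@D3.rec (fun _ => (Cert rels S Gen.b)) lc_b_rc_9_2 lc_b_rc_6_1 lc_b_rc_8_2 lc_b_rc_9_2 lc_b_Cert_tree lc_b_Cert_tree lc_b_rc_1_3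 lc_b_rc_8_2 lc_b_rc_10_2 lc_b_Cert_tree lc_b_Cert_tree lc_b_Cert_tree lc_b_rc_9_2 lc_b_rc_10_2 lc_b_rc_9_2 lc_b_rc_9_2 lc_b_rc_9_2 lc_b_rc_9_2 lc_b_Cert_tree lc_b_rc_6_1 lc_b_rc_8_2 lc_b_rc_9_2 lc_b_rc_8_0 lc_b_rc_8_2 lc_b_rc_8_2 lc_b_rc_10_2 lc_b_rc_7_4 lc_b_rc_9_2 lc_b_Cert_tree lc_b_rc_9_2 lc_b_rc_26_5 lc_b_rc_10_2 lc_b_Cert_tree lc_b_rc_9_2 lc_b_Cert_tree lc_b_rc_9_2 lc_b_rc_6_1 lc_b_rc_9_2 lc_b_rc_6_1 lc_b_rc_6_1 lc_b_rc_9_2 lc_b_rc_10_2 lc_b_rc_6_1 lc_b_rc_8_2 lc_b_Cert_tree lc_b_rc_6_1 lc_b_rc_7_0 lc_b_rc_9_2 lc_b_Cert_tree lc_b_rc_6_1 lc_b_rc_10_2 lc_b_rc_6_1 lc_b_rc_8_2 lc_b_rc_9_2 lc_b_rc_6_1 lc_b_rc_8_2 lc_b_rc_9_2 lc_b_rc_6_1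 lc_b_rc_26_5 lc_b_rc_8_2 lc_b_rc_9_2 lc_b_Cert_tree) (@D3.rec (fun _ => (Cert rels S Gen.b)) lc_b_Cert_tree lc_b_rc_1_3 lc_b_rc_8_2 lc_b_rc_9_2 lc_b_Cert_tree lc_b_Cert_tree lc_b_rc_9_2 lc_b_Cert_tree lc_b_Cert_tree lc_b_rc_8_2 lc_b_rc_10_2 lc_b_Cert_tree lc_b_rc_26_7 lc_b_rc_7_4 lc_b_rc_9_2 lc_b_rc_9_2 lc_b_rc_9_0 lc_b_Cert_tree lc_b_rc_10_2 lc_b_rc_26_5 lc_b_Cert_tree lc_b_rc_6_1 lc_b_rc_7_4 lc_b_rc_9_2 lc_b_Cert_tree lc_b_rc_8_0 lc_b_rc_9_2 lc_b_rc_6_1 lc_b_rc_8_2 lc_b_rc_9_2 lc_b_rc_1_1 lc_b_rc_8_2 lc_b_rc_10_2 lc_b_rc_6_1 lc_b_rc_9_2 lc_b_rc_26_1 lc_b_rc_9_2 lc_b_rc_9_2 lc_b_rc_10_2 lc_b_rc_7_4 lc_b_Cert_tree lc_b_Cert_tree lc_b_rc_1_3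 lc_b_rc_8_2 lc_b_rc_9_2 lc_b_rc_9_2 lc_b_Cert_tree lc_b_Cert_tree lc_b_rc_8_2 lc_b_rc_10_2 lc_b_Cert_tree lc_b_rc_9_2 lc_b_Cert_tree lc_b_rc_6_1 lc_b_rc_26_5 lc_b_Cert_tree lc_b_rc_10_2 lc_b_Cert_tree lc_b_Cert_tree lc_b_rc_6_1 lc_b_rc_8_2 lc_b_rc_10_2) (@D3.rec (fun _ => (Cert rels S Gen.b)) lc_b_rc_6_1 lc_b_rc_8_2 lc_b_rc_9_2 lc_b_rc_26_1 lc_b_rc_6_1 lc_b_rc_8_2 lc_b_rc_10_2 lc_b_rc_6_1 lc_b_rc_9_2 lc_b_rc_6_1 lc_b_Cert_tree lc_b_Cert_tree lc_b_rc_1_3 lc_b_rc_8_2 lc_b_rc_9_2 lc_b_Cert_tree lc_b_Cert_tree lc_b_rc_9_2 lc_b_Cert_tree lc_b_rc_8_0 lc_b_rc_8_2 lc_b_rc_10_2 lc_b_rc_8_2 lc_b_Cert_tree lc_b_rc_6_1 lc_b_Cert_tree lc_b_rc_9_0 lc_b_rc_8_0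 lc_b_Cert_tree lc_b_rc_10_2 lc_b_rc_6_1 lc_b_rc_8_2 lc_b_rc_8_2 lc_b_rc_26_1 lc_b_rc_8_2 lc_b_rc_10_2 lc_b_Cert_tree lc_b_Cert_tree lc_b_rc_1_3 lc_b_rc_8_2 lc_b_rc_8_0 lc_b_Cert_tree lc_b_Cert_tree lc_b_rc_8_0 lc_b_Cert_tree lc_b_rc_8_2 lc_b_rc_6_1 lc_b_rc_9_0 lc_b_rc_8_2 lc_b_Cert_tree lc_b_rc_10_2 lc_b_Cert_tree lc_b_Cert_tree lc_b_rc_1_3 lc_b_rc_6_1 lc_b_rc_8_2 lc_b_rc_9_2 lc_b_rc_6_1 lc_b_rc_9_2 lc_b_rc_7_4 lc_b_Cert_tree lc_b_rc_9_2) (@D3.rec (fun _ => (Cert rels S Gen.b)) lc_b_rc_9_0 lc_b_rc_10_2 lc_b_Cert_tree lc_b_rc_26_7 lc_b_rc_7_2 lc_b_rc_8_2 lc_b_rc_9_2 lc_b_rc_9_2 lc_b_rc_9_2 lc_b_rc_7_0 lc_b_rc_10_2 lc_b_rc_10_2 lc_b_Cert_tree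 lc_b_rc_6_1 lc_b_Cert_tree lc_b_rc_8_2 lc_b_rc_9_2 lc_b_rc_10_2 lc_b_rc_6_1 lc_b_rc_1_5 lc_b_rc_8_2 lc_b_rc_9_2 lc_b_rc_8_2 lc_b_Cert_tree lc_b_Cert_tree lc_b_Cert_tree lc_b_rc_9_2 lc_b_rc_10_2 lc_b_rc_9_2 lc_b_rc_6_1 lc_b_rc_9_2 lc_b_rc_6_1 lc_b_rc_9_2 lc_b_rc_6_1 lc_b_rc_9_2 lc_b_Cert_tree lc_b_Cert_tree lc_b_rc_10_2 lc_b_rc_9_2 lc_b_Cert_tree lc_b_Cert_tree lc_b_rc_8_2 lc_b_rc_6_1 lc_b_Cert_tree lc_b_rc_8_2 lc_b_rc_9_2 lc_b_rc_6_1 lc_b_rc_8_0 lc_b_rc_8_2 lc_b_rc_9_2 lc_b_Cert_tree lc_b_rc_9_2 lc_b_Cert_tree lc_b_Cert_tree lc_b_Cert_tree lc_b_rc_6_1 lc_b_rc_8_2 lc_b_rc_9_2 lc_b_rc_8_2 lc_b_Cert_tree lc_b_rc_10_2 lc_b_rc_6_1) (@D3.rec (fun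 _ => (Cert rels S Gen.b)) lc_b_Cert_tree lc_b_Cert_tree lc_b_rc_1_3 lc_b_rc_8_2 lc_b_rc_9_2 lc_b_rc_9_2 lc_b_Cert_tree lc_b_Cert_tree lc_b_Cert_tree lc_b_rc_6_1 lc_b_rc_8_2 lc_b_rc_9_2 lc_b_rc_10_2 lc_b_rc_10_2 lc_b_Cert_tree lc_b_rc_8_0 lc_b_rc_1_3 lc_b_rc_8_2 lc_b_rc_9_2 lc_b_Cert_tree lc_b_rc_9_0 lc_b_rc_8_0 lc_b_Cert_tree lc_b_Cert_tree lc_b_rc_6_1 lc_b_rc_8_2 lc_b_rc_9_2 lc_b_rc_26_1 lc_b_Cert_tree lc_b_rc_10_2 lc_b_rc_8_2 lc_b_Cert_tree lc_b_rc_1_3 lc_b_rc_8_2 lc_b_rc_9_2 lc_b_Cert_tree lc_b_rc_26_5 lc_b_rc_8_2 lc_b_rc_6_1 lc_b_Cert_tree lc_b_rc_8_2 lc_b_Cert_tree lc_b_rc_9_2 lc_b_rc_6_1 lc_b_rc_8_2 lc_b_rc_7_4 lc_b_rc_8_2 lc_b_rc_26_5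 lc_b_rc_10_2 lc_b_Cert_tree lc_b_Cert_tree lc_b_rc_1_3 lc_b_rc_8_2 lc_b_rc_8_2 lc_b_rc_8_2 lc_b_rc_1_3 lc_b_rc_6_1 lc_b_rc_9_2 lc_b_rc_1_5 lc_b_rc_8_2 lc_b_rc_26_5 lc_b_Cert_tree) (@D3.rec (fun _ => (Cert rels S Gen.b)) lc_b_rc_8_0 lc_b_rc_7_4 lc_b_rc_8_2 lc_b_rc_1_3 lc_b_rc_8_0 lc_b_rc_6_1 lc_b_Cert_tree lc_b_rc_8_2 lc_b_rc_9_2 lc_b_rc_10_2 lc_b_rc_6_1 lc_b_Cert_tree lc_b_rc_26_5 lc_b_rc_8_0 lc_b_rc_1_3 lc_b_Cert_tree lc_b_rc_10_2 lc_b_rc_7_4 lc_b_rc_9_2 lc_b_rc_9_2 lc_b_rc_6_1 lc_b_rc_9_0 lc_b_Cert_tree lc_b_rc_10_2 lc_b_rc_8_2 lc_b_rc_9_2 lc_b_rc_6_1 lc_b_rc_8_2 lc_b_rc_9_2 lc_b_rc_9_2 lc_b_rc_6_1 lc_b_rc_8_2 lc_b_rc_10_0 lc_b_rc_26_7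 lc_b_rc_26_5 lc_b_rc_10_2 lc_b_Cert_tree lc_b_rc_6_1 lc_b_rc_8_2 lc_b_rc_9_2 lc_b_rc_26_5 lc_b_rc_26_1 lc_b_rc_6_1 lc_b_Cert_tree lc_b_rc_9_2 lc_b_rc_6_1 lc_b_rc_8_2 lc_b_rc_9_2 lc_b_rc_8_0 lc_b_rc_10_2 lc_b_rc_6_1 lc_b_rc_8_2 lc_b_rc_9_2 lc_b_rc_6_1 lc_b_rc_8_2 lc_b_rc_9_2 lc_b_Cert_tree lc_b_Cert_tree lc_b_rc_1_3 lc_b_rc_8_2 lc_b_rc_9_2 lc_b_rc_9_2) (@D3.rec (fun _ => (Cert rels S Gen.b)) lc_b_Cert_tree lc_b_Cert_tree lc_b_rc_8_2 lc_b_rc_7_4 lc_b_rc_6_1 lc_b_Cert_tree lc_b_rc_9_2 lc_b_rc_6_1 lc_b_Cert_tree lc_b_rc_6_1 lc_b_rc_9_2 lc_b_rc_6_1 lc_b_Cert_tree lc_b_rc_9_2 lc_b_rc_8_2 lc_b_rc_9_2 lc_b_rc_6_1 lc_b_rc_8_2 lc_b_Cert_tree lc_b_Cert_tree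 lc_b_rc_6_1 lc_b_rc_8_2 lc_b_rc_9_2 lc_b_Cert_tree lc_b_rc_6_1 lc_b_rc_10_2 lc_b_rc_1_3 lc_b_Cert_tree lc_b_rc_1_3 lc_b_rc_8_2 lc_b_rc_9_2 lc_b_rc_9_2 lc_b_Cert_tree lc_b_Cert_tree lc_b_rc_10_2 lc_b_rc_10_2 lc_b_rc_6_1 lc_b_Cert_tree lc_b_Cert_tree lc_b_Cert_tree lc_b_Cert_tree lc_b_rc_1_3 lc_b_rc_8_2 lc_b_rc_9_2 lc_b_rc_9_2 lc_b_Cert_tree lc_b_rc_8_2 lc_b_Cert_tree lc_b_Cert_tree lc_b_rc_1_3 lc_b_rc_6_1 lc_b_rc_8_2 lc_b_rc_9_2 lc_b_rc_9_2 lc_b_rc_8_2 lc_b_rc_10_2 lc_b_Cert_tree lc_b_Cert_tree lc_b_rc_1_3 lc_b_rc_7_4 lc_b_rc_8_2 lc_b_rc_9_2) (@D3.rec (fun _ => (Cert rels S Gen.b)) lc_b_rc_7_4 lc_b_rc_8_2 lc_b_rc_6_1 lc_b_Cert_tree lc_b_rc_8_2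 lc_b_rc_9_2 lc_b_rc_6_1 lc_b_Cert_tree lc_b_rc_8_2 lc_b_rc_9_2 lc_b_rc_1_3 lc_b_rc_1_3 lc_b_Cert_tree lc_b_Cert_tree lc_b_rc_7_4 lc_b_rc_26_5 lc_b_Cert_tree lc_b_rc_7_4 lc_b_rc_6_1 lc_b_rc_9_2 lc_b_rc_8_2 lc_b_Cert_tree lc_b_rc_9_2 lc_b_rc_8_0 lc_b_rc_6_1 lc_b_rc_6_1 lc_b_rc_8_2 lc_b_rc_9_2 lc_b_rc_26_5 lc_b_rc_10_2 lc_b_rc_8_2 lc_b_Cert_tree lc_b_rc_9_2 lc_b_Cert_tree lc_b_rc_9_2 lc_b_rc_6_1 lc_b_Cert_tree lc_b_rc_9_2 lc_b_rc_6_1 lc_b_rc_9_2 lc_b_rc_6_1 lc_b_rc_6_1 lc_b_rc_9_2 lc_b_rc_10_2 lc_b_rc_6_1 lc_b_rc_6_1 lc_b_rc_8_2 lc_b_rc_9_2 lc_b_rc_6_1 lc_b_rc_8_2 lc_b_rc_9_2 lc_b_rc_6_1 lc_b_rc_10_2 lc_b_rc_6_1 lc_b_rc_26_7 lc_b_rc_8_2 lc_b_rc_9_2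 lc_b_rc_6_1 lc_b_rc_8_2 lc_b_rc_9_2 lc_b_Cert_tree lc_b_Cert_tree) (@D3.rec (fun _ => (Cert rels S Gen.b)) lc_b_rc_1_3 lc_b_rc_8_2 lc_b_rc_9_2 lc_b_Cert_tree lc_b_Cert_tree lc_b_rc_9_2 lc_b_Cert_tree lc_b_Cert_tree lc_b_rc_8_2 lc_b_rc_10_2 lc_b_Cert_tree lc_b_rc_8_2 lc_b_rc_6_1 lc_b_Cert_tree lc_b_rc_8_2 lc_b_Cert_tree lc_b_Cert_tree lc_b_rc_10_2 lc_b_Cert_tree lc_b_rc_6_1 lc_b_rc_8_2 lc_b_rc_6_1 lc_b_Cert_tree lc_b_rc_8_2 lc_b_rc_9_2 lc_b_rc_6_1 lc_b_Cert_tree lc_b_rc_8_2 lc_b_rc_9_2 lc_b_rc_8_2 lc_b_rc_9_2 lc_b_Cert_tree lc_b_Cert_tree lc_b_rc_7_4 lc_b_rc_9_2 lc_b_Cert_tree lc_b_Cert_tree lc_b_rc_8_2 lc_b_rc_10_2 lc_b_rc_1_5 lc_b_rc_6_1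 lc_b_rc_7_0 lc_b_rc_10_2 lc_b_rc_6_1 lc_b_rc_8_2 lc_b_Cert_tree lc_b_rc_10_2 lc_b_rc_6_1 lc_b_rc_8_2 lc_b_rc_9_2 lc_b_Cert_tree lc_b_rc_6_1 lc_b_rc_8_2 lc_b_rc_6_1 lc_b_rc_6_1 lc_b_Cert_tree lc_b_rc_10_2 lc_b_rc_1_5 lc_b_rc_6_1 lc_b_rc_1_3 lc_b_rc_6_1 lc_b_rc_8_2) (@D3.rec (fun _ => (Cert rels S Gen.b)) lc_b_rc_9_2 lc_b_rc_9_2 lc_b_rc_6_1 lc_b_rc_1_1 lc_b_rc_6_1 lc_b_rc_9_2 lc_b_Cert_tree lc_b_Cert_tree lc_b_rc_1_3 lc_b_rc_8_2 lc_b_rc_9_2 lc_b_Cert_tree lc_b_Cert_tree lc_b_rc_9_2 lc_b_Cert_tree lc_b_Cert_tree lc_b_rc_8_2 lc_b_rc_10_2 lc_b_rc_6_1 lc_b_Cert_tree lc_b_rc_8_2 lc_b_rc_8_2 lc_b_rc_6_1 lc_b_Cert_tree lc_b_rc_8_2 lc_b_rc_9_2 lc_b_Cert_tree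 lc_b_rc_6_1 lc_b_Cert_tree lc_b_rc_1_3 lc_b_rc_7_4 lc_b_rc_9_2 lc_b_rc_8_2 lc_b_rc_6_1 lc_b_Cert_tree lc_b_rc_9_2 lc_b_rc_6_1 lc_b_Cert_tree lc_b_rc_1_3 lc_b_rc_9_2 lc_b_Cert_tree lc_b_Cert_tree lc_b_rc_7_4 lc_b_rc_9_2 lc_b_rc_9_0 lc_b_Cert_tree lc_b_rc_8_2 lc_b_rc_10_2 lc_b_rc_6_1 lc_b_rc_9_2 lc_b_rc_6_1 lc_b_rc_7_4 lc_b_Cert_tree lc_b_rc_9_0 lc_b_rc_10_2 lc_b_rc_6_1 lc_b_rc_6_1 lc_b_rc_26_7 lc_b_Cert_tree lc_b_Cert_tree lc_b_rc_9_2 lc_b_Cert_tree) (@D3.rec (fun _ => (Cert rels S Gen.b)) lc_b_rc_8_2 lc_b_rc_6_1 lc_b_Cert_tree lc_b_rc_6_1 lc_b_rc_9_2 lc_b_Cert_tree lc_b_rc_6_1 lc_b_rc_8_2 lc_b_rc_6_1 lc_b_rc_8_2 lc_b_rc_9_2 lc_b_rc_8_2 lc_b_rc_9_2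 lc_b_rc_1_3 lc_b_rc_6_1 lc_b_rc_6_1 lc_b_rc_9_2 lc_b_Cert_tree lc_b_Cert_tree lc_b_rc_1_3 lc_b_rc_8_2 lc_b_rc_9_2 lc_b_Cert_tree lc_b_Cert_tree lc_b_rc_9_2 lc_b_Cert_tree lc_b_Cert_tree lc_b_rc_8_2 lc_b_rc_10_2 lc_b_Cert_tree lc_b_rc_8_2 lc_b_rc_6_1 lc_b_Cert_tree lc_b_rc_6_1 lc_b_rc_6_1 lc_b_Cert_tree lc_b_rc_6_1 lc_b_rc_6_1 lc_b_rc_9_2 lc_b_rc_1_3 lc_b_rc_9_2 lc_b_Cert_tree lc_b_Cert_tree lc_b_rc_7_4 lc_b_rc_9_2 lc_b_Cert_tree lc_b_Cert_tree lc_b_rc_10_2 lc_b_rc_6_1 lc_b_rc_8_0 lc_b_rc_6_1 lc_b_rc_6_1 lc_b_rc_9_2 lc_b_Cert_tree lc_b_rc_6_1 lc_b_rc_6_1 lc_b_Cert_tree lc_b_rc_8_2 lc_b_rc_9_2 lc_b_Cert_tree lc_b_rc_10_2 lc_b_Cert_tree) (@D3.rec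 (fun _ => (Cert rels S Gen.b)) lc_b_rc_1_3 lc_b_rc_9_2 lc_b_rc_7_4 lc_b_Cert_tree lc_b_rc_8_2 lc_b_rc_9_2 lc_b_Cert_tree lc_b_rc_26_1 lc_b_rc_7_4 lc_b_rc_9_2 lc_b_Cert_tree lc_b_rc_8_2 lc_b_rc_8_2 lc_b_rc_10_2 lc_b_rc_6_1 lc_b_rc_9_2 lc_b_rc_6_1 lc_b_rc_9_2 lc_b_rc_8_2 lc_b_Cert_tree lc_b_rc_10_2 lc_b_Cert_tree lc_b_Cert_tree lc_b_Cert_tree lc_b_rc_10_2 lc_b_rc_6_1 lc_b_Cert_tree lc_b_rc_8_2 lc_b_rc_6_1 lc_b_Cert_tree lc_b_rc_8_2 lc_b_rc_9_2 lc_b_rc_1_3 lc_b_rc_8_2 lc_b_rc_9_2 lc_b_Cert_tree lc_b_Cert_tree lc_b_rc_9_2 lc_b_Cert_tree lc_b_Cert_tree lc_b_rc_7_4 lc_b_rc_9_2 lc_b_Cert_tree lc_b_Cert_tree lc_b_rc_10_2 lc_b_rc_9_2 lc_b_rc_6_1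 lc_b_rc_26_5 lc_b_rc_8_2 lc_b_rc_9_2 lc_b_rc_6_1 lc_b_rc_1_1 lc_b_Cert_tree lc_b_rc_8_2 lc_b_rc_9_2 lc_b_rc_10_2 lc_b_Cert_tree lc_b_rc_26_7 lc_b_rc_6_1 lc_b_rc_8_2 lc_b_rc_9_2 lc_b_rc_10_2) (@D3.rec (fun _ => (Cert rels S Gen.b)) lc_b_rc_6_1 lc_b_Cert_tree lc_b_rc_9_2 lc_b_rc_10_2 lc_b_rc_1_1 lc_b_rc_8_2 lc_b_rc_10_2 lc_b_rc_9_2 lc_b_rc_1_3 lc_b_rc_1_1 lc_b_Cert_tree lc_b_rc_8_2 lc_b_rc_9_2 lc_b_rc_6_1 lc_b_rc_8_2 lc_b_rc_9_2 lc_b_Cert_tree lc_b_rc_9_2 lc_b_rc_26_5 lc_b_rc_8_2 lc_b_rc_10_2 lc_b_Cert_tree lc_b_rc_9_2 lc_b_rc_6_1 lc_b_Cert_tree lc_b_rc_6_1 lc_b_Cert_tree lc_b_Cert_tree lc_b_rc_9_0 lc_b_rc_8_2 lc_b_rc_9_2 lc_b_Cert_tree lc_b_rc_6_1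 lc_b_rc_10_2 lc_b_Cert_tree lc_b_Cert_tree lc_b_rc_8_2 lc_b_rc_8_2 lc_b_rc_7_4 lc_b_rc_8_2 lc_b_rc_7_4 lc_b_rc_9_2 lc_b_rc_7_2 lc_b_rc_26_7 lc_b_rc_8_2 lc_b_rc_6_1 lc_b_rc_26_1 lc_b_rc_9_2 lc_b_rc_6_1 lc_b_rc_26_1 lc_b_rc_9_2 lc_b_rc_6_1 lc_b_rc_8_2 lc_b_rc_9_2 lc_b_rc_6_1 lc_b_rc_8_2 lc_b_rc_9_2 lc_b_Cert_tree lc_b_rc_9_0 lc_b_Cert_tree lc_b_Cert_tree lc_b_rc_8_2) (@D3.rec (fun _ => (Cert rels S Gen.b)) lc_b_rc_9_2 lc_b_rc_6_1 lc_b_rc_9_2 lc_b_Cert_tree lc_b_Cert_tree lc_b_Cert_tree lc_b_rc_8_2 lc_b_rc_9_2 lc_b_rc_6_1 lc_b_rc_9_2 lc_b_Cert_tree lc_b_rc_9_2 lc_b_Cert_tree lc_b_rc_9_2 lc_b_rc_6_1 lc_b_rc_6_1 lc_b_rc_9_2 lc_b_rc_9_2 lc_b_rc_6_1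 lc_b_rc_8_2 lc_b_rc_26_1 lc_b_rc_8_2 lc_b_rc_26_7 lc_b_rc_10_2 lc_b_rc_9_2 lc_b_rc_6_1 lc_b_rc_8_2 lc_b_rc_9_2 lc_b_rc_8_2 lc_b_rc_26_5 lc_b_rc_10_2 lc_b_Cert_tree lc_b_rc_9_2 lc_b_rc_6_1 lc_b_rc_8_2 lc_b_rc_9_2 lc_b_rc_10_0 lc_b_rc_10_2 lc_b_rc_6_1 lc_b_rc_8_2 lc_b_rc_9_2 lc_b_rc_6_1 lc_b_rc_8_2 lc_b_rc_9_2 lc_b_rc_6_1 lc_b_Cert_tree lc_b_rc_1_3 lc_b_rc_8_2 lc_b_rc_9_2 lc_b_Cert_tree lc_b_Cert_tree lc_b_Cert_tree lc_b_rc_9_2 lc_b_Cert_tree lc_b_Cert_tree lc_b_rc_8_2 lc_b_rc_7_4 lc_b_rc_6_1 lc_b_Cert_tree lc_b_rc_9_2 lc_b_rc_6_1 lc_b_Cert_tree) (@D3.rec (fun _ => (Cert rels S Gen.b)) lc_b_rc_9_2 lc_b_Cert_tree lc_b_Cert_tree lc_b_rc_9_2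 lc_b_rc_10_2 lc_b_rc_8_2 lc_b_Cert_tree lc_b_rc_9_2 lc_b_rc_8_2 lc_b_rc_9_2 lc_b_Cert_tree lc_b_rc_8_2 lc_b_rc_6_1 lc_b_rc_25_8 lc_b_rc_9_2 lc_b_Cert_tree lc_b_Cert_tree lc_b_rc_10_2 lc_b_Cert_tree lc_b_Cert_tree lc_b_rc_1_3 lc_b_rc_9_2 lc_b_Cert_tree lc_b_Cert_tree lc_b_rc_26_1 lc_b_rc_8_0 lc_b_rc_6_1 lc_b_rc_9_2 lc_b_Cert_tree lc_b_rc_9_2 lc_b_Cert_tree lc_b_rc_6_1 lc_b_rc_8_2 lc_b_rc_9_2 lc_b_rc_9_0 lc_b_Cert_tree lc_b_rc_10_2 lc_b_Cert_tree lc_b_Cert_tree lc_b_rc_1_3 lc_b_rc_9_2 lc_b_Cert_tree lc_b_rc_8_2 lc_b_rc_10_2 lc_b_rc_6_1 lc_b_rc_6_1 lc_b_Cert_tree lc_b_rc_8_2 lc_b_rc_9_2 lc_b_rc_6_1 lc_b_Cert_tree lc_b_rc_8_2 lc_b_rc_9_2 lc_b_rc_10_2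 lc_b_rc_9_2 lc_b_rc_1_5 lc_b_rc_10_2 lc_b_rc_7_4 lc_b_rc_9_2 lc_b_rc_8_2 lc_b_rc_8_2 lc_b_rc_6_1) (@D3.rec (fun _ => (Cert rels S Gen.b)) lc_b_rc_9_2 lc_b_rc_6_1 lc_b_rc_8_2 lc_b_rc_6_1 lc_b_rc_8_2 lc_b_Cert_tree lc_b_Cert_tree lc_b_rc_1_1 lc_b_rc_8_2 lc_b_rc_7_4 lc_b_rc_9_2 lc_b_rc_26_1 lc_b_rc_26_5 lc_b_rc_8_2 lc_b_rc_7_4 lc_b_rc_9_2 lc_b_Cert_tree lc_b_rc_10_2 lc_b_rc_8_2 lc_b_rc_9_2 lc_b_rc_6_1 lc_b_rc_7_4 lc_b_rc_9_2 lc_b_Cert_tree lc_b_rc_6_1 lc_b_rc_10_2 lc_b_rc_6_1 lc_b_rc_26_1 lc_b_rc_26_5 lc_b_rc_26_5 lc_b_rc_1_3 lc_b_rc_7_4 lc_b_rc_9_2 lc_b_Cert_tree lc_b_rc_9_0 lc_b_rc_10_2 lc_b_rc_26_1 lc_b_rc_26_5 lc_b_rc_6_1 lc_b_rc_26_5 lc_b_rc_10_0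 lc_b_rc_6_1 lc_b_Cert_tree lc_b_rc_8_2 lc_b_rc_6_1 lc_b_Cert_tree lc_b_rc_9_2 lc_b_Cert_tree lc_b_Cert_tree lc_b_rc_10_2 lc_b_rc_8_2 lc_b_rc_1_3 lc_b_rc_8_2 lc_b_rc_9_2 lc_b_rc_26_7 lc_b_rc_6_1 lc_b_rc_8_2 lc_b_rc_26_5 lc_b_Cert_tree lc_b_rc_9_2 lc_b_rc_26_1 lc_b_rc_1_3) (@D3.rec (fun _ => (Cert rels S Gen.b)) lc_b_rc_8_2 lc_b_rc_6_1 lc_b_Cert_tree lc_b_rc_9_2 lc_b_Cert_tree lc_b_rc_9_2 lc_b_Cert_tree lc_b_Cert_tree lc_b_rc_6_1 lc_b_Cert_tree lc_b_rc_9_2 lc_b_rc_6_1 lc_b_Cert_tree lc_b_rc_9_2 lc_b_Cert_tree lc_b_rc_26_1 lc_b_rc_8_2 lc_b_rc_9_2 lc_b_Cert_tree lc_b_Cert_tree lc_b_rc_10_2 lc_b_rc_6_1 lc_b_rc_26_7 lc_b_rc_8_2 lc_b_rc_6_1 lc_b_rc_26_1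 lc_b_rc_8_2 lc_b_Cert_tree lc_b_rc_10_2 lc_b_rc_6_1 lc_b_rc_8_2 lc_b_rc_9_2 lc_b_rc_8_2 lc_b_rc_8_2 lc_b_rc_26_1 lc_b_rc_1_3 lc_b_rc_1_3 lc_b_rc_7_4 lc_b_rc_9_2 lc_b_rc_6_1 lc_b_rc_9_2 lc_b_rc_6_1 lc_b_rc_8_2 lc_b_rc_1_5 lc_b_rc_1_3 lc_b_rc_9_2 lc_b_rc_6_1 lc_b_rc_9_2 lc_b_rc_6_1 lc_b_Cert_tree lc_b_rc_10_2 lc_b_rc_9_2 lc_b_rc_9_2 lc_b_rc_9_2 lc_b_rc_6_1 lc_b_rc_9_2 lc_b_rc_6_1 lc_b_rc_9_2 lc_b_rc_6_1 lc_b_rc_9_2 lc_b_rc_6_1 lc_b_rc_10_2) (@D3.rec (fun _ => (Cert rels S Gen.b)) lc_b_rc_6_1 lc_b_rc_9_2 lc_b_rc_6_1 lc_b_rc_9_2 lc_b_Cert_tree lc_b_Cert_tree lc_b_rc_1_3 lc_b_rc_9_2 lc_b_Cert_tree lc_b_Cert_tree lc_b_rc_6_1 lc_b_rc_10_2 lc_b_rc_6_1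 lc_b_Cert_tree lc_b_rc_9_2 lc_b_rc_6_1 lc_b_Cert_tree lc_b_rc_26_5 lc_b_Cert_tree lc_b_Cert_tree lc_b_rc_10_2 lc_b_rc_6_1 lc_b_rc_8_2 lc_b_rc_6_1 lc_b_Cert_tree lc_b_rc_8_2 lc_b_rc_9_2 lc_b_rc_6_1 lc_b_rc_26_5 lc_b_rc_8_2 lc_b_rc_9_2 lc_b_rc_1_3 lc_b_Cert_tree lc_b_Cert_tree lc_b_rc_8_2 lc_b_rc_10_2 lc_b_Cert_tree lc_b_Cert_tree lc_b_rc_10_2 lc_b_rc_8_0 lc_b_rc_1_3 lc_b_Cert_tree lc_b_rc_9_2 lc_b_rc_6_1 lc_b_rc_8_2 lc_b_rc_9_2 lc_b_rc_9_2 lc_b_rc_8_2 lc_b_rc_6_1 lc_b_rc_8_0 lc_b_rc_8_2 lc_b_rc_6_1 lc_b_rc_7_2 lc_b_rc_6_1 lc_b_rc_7_0 lc_b_rc_25_16 lc_b_rc_1_3 lc_b_rc_1_3 lc_b_rc_8_2 lc_b_Cert_tree lc_b_rc_9_2 lc_b_rc_8_0) (@D3.rec (fun _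 => (Cert rels S Gen.b)) lc_b_rc_26_1 lc_b_rc_6_1 lc_b_Cert_tree lc_b_rc_9_2 lc_b_rc_6_1 lc_b_Cert_tree lc_b_rc_9_2 lc_b_Cert_tree lc_b_Cert_tree lc_b_rc_8_2 lc_b_rc_25_12 lc_b_Cert_tree lc_b_Cert_tree lc_b_rc_10_2 lc_b_rc_6_1 lc_b_rc_9_2 lc_b_rc_8_2 lc_b_rc_26_1 lc_b_rc_8_2 lc_b_rc_7_2 lc_b_rc_8_2 lc_b_Cert_tree lc_b_rc_9_2 lc_b_rc_6_1 lc_b_Cert_tree lc_b_rc_9_2 lc_b_rc_6_1 lc_b_Cert_tree lc_b_rc_9_2 lc_b_Cert_tree lc_b_Cert_tree lc_b_rc_8_2 lc_b_rc_9_2 lc_b_Cert_tree lc_b_Cert_tree lc_b_rc_10_2 lc_b_rc_6_1 lc_b_rc_9_2 lc_b_rc_8_0 lc_b_rc_1_1 lc_b_rc_10_2 lc_b_rc_8_2 lc_b_rc_9_0 lc_b_rc_9_2 lc_b_Cert_tree lc_b_rc_10_2 lc_b_rc_9_0 lc_b_rc_6_1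 lc_b_rc_8_2 lc_b_rc_7_4 lc_b_Cert_tree lc_b_Cert_tree lc_b_Cert_tree lc_b_rc_9_2 lc_b_rc_6_1 lc_b_Cert_tree lc_b_rc_9_2 lc_b_Cert_tree lc_b_rc_6_1 lc_b_rc_9_2 lc_b_rc_8_2 lc_b_rc_9_2) (@D3.rec (fun _ => (Cert rels S Gen.b)) lc_b_rc_8_2 lc_b_rc_9_2 lc_b_rc_9_2 lc_b_Cert_tree lc_b_Cert_tree lc_b_rc_8_2 lc_b_rc_10_2 lc_b_rc_6_1 lc_b_rc_7_4 lc_b_rc_6_1 lc_b_Cert_tree lc_b_rc_8_2 lc_b_Cert_tree lc_b_rc_8_0 lc_b_rc_10_2 lc_b_rc_1_3 lc_b_rc_7_4 lc_b_rc_25_8 lc_b_rc_8_2 lc_b_rc_9_2 lc_b_rc_6_1 lc_b_rc_8_2 lc_b_rc_9_2 lc_b_rc_26_5 lc_b_rc_9_2 lc_b_rc_8_2 lc_b_rc_26_5 lc_b_rc_8_2 lc_b_rc_26_7 lc_b_Cert_tree lc_b_rc_9_2 lc_b_rc_6_1 lc_b_rc_8_2 lc_b_Cert_tree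 lc_b_rc_1_3 lc_b_rc_26_1 lc_b_rc_8_2 lc_b_rc_10_2 lc_b_rc_6_1 lc_b_rc_8_2 lc_b_Cert_tree lc_b_rc_6_1 lc_b_Cert_tree lc_b_rc_9_2 lc_b_rc_26_1 lc_b_rc_8_2 lc_b_rc_10_2 lc_b_Cert_tree lc_b_rc_9_2 lc_b_rc_6_1 lc_b_Cert_tree lc_b_rc_9_2 lc_b_Cert_tree lc_b_Cert_tree lc_b_rc_8_2 lc_b_rc_9_2 lc_b_rc_9_0 lc_b_Cert_tree lc_b_rc_8_2 lc_b_rc_10_2 lc_b_rc_26_7 lc_b_rc_8_2) (@D3.rec (fun _ => (Cert rels S Gen.b)) lc_b_Cert_tree lc_b_rc_10_2 lc_b_rc_6_1 lc_b_rc_9_2 lc_b_Cert_tree lc_b_rc_10_2 lc_b_rc_10_2 lc_b_rc_1_3 lc_b_rc_7_4 lc_b_rc_9_2 lc_b_Cert_tree lc_b_rc_10_2 lc_b_rc_6_1 lc_b_rc_8_2 lc_b_rc_6_1 lc_b_rc_8_2 lc_b_rc_9_2 lc_b_rc_26_7 lc_b_Cert_tree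 lc_b_Cert_tree lc_b_rc_10_2 lc_b_rc_6_1 lc_b_rc_9_2 lc_b_rc_6_1 lc_b_rc_8_2 lc_b_rc_10_2 lc_b_rc_9_2 lc_b_rc_26_1 lc_b_Cert_tree lc_b_rc_9_2 lc_b_rc_8_2 lc_b_rc_8_2 lc_b_Cert_tree lc_b_rc_9_2 lc_b_rc_8_2 lc_b_Cert_tree lc_b_rc_9_2 lc_b_rc_8_2 lc_b_rc_6_1 lc_b_rc_26_7 lc_b_rc_8_2 lc_b_rc_8_2 lc_b_Cert_tree lc_b_rc_8_2 lc_b_Cert_tree lc_b_rc_9_2 lc_b_rc_6_1 lc_b_rc_6_1 lc_b_Cert_tree lc_b_rc_9_2 lc_b_rc_6_1 lc_b_Cert_tree lc_b_rc_8_0 lc_b_Cert_tree lc_b_Cert_tree lc_b_rc_8_2 lc_b_rc_9_2 lc_b_rc_10_2 lc_b_Cert_tree lc_b_rc_8_2 lc_b_rc_10_2 lc_b_rc_26_5) (@D3.rec (fun _ => (Cert rels S Gen.b)) lc_b_rc_6_1 lc_b_Cert_tree lc_b_rc_6_1 lc_b_rc_6_1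 lc_b_Cert_tree lc_b_Cert_tree lc_b_rc_10_2 lc_b_rc_6_1 lc_b_rc_26_7 lc_b_rc_8_2 lc_b_Cert_tree lc_b_rc_9_2 lc_b_rc_8_2 lc_b_rc_8_2 lc_b_Cert_tree lc_b_rc_9_2 lc_b_rc_7_2 lc_b_rc_9_2 lc_b_rc_8_2 lc_b_rc_26_5 lc_b_rc_8_2 lc_b_rc_8_2 lc_b_rc_1_1 lc_b_Cert_tree lc_b_rc_6_1 lc_b_rc_8_2 lc_b_Cert_tree lc_b_rc_8_0 lc_b_Cert_tree lc_b_Cert_tree lc_b_rc_6_1 lc_b_rc_26_1 lc_b_rc_9_2 lc_b_rc_25_0 lc_b_rc_1_5 lc_b_rc_6_1 lc_b_rc_9_2 lc_b_rc_8_2 lc_b_rc_8_2 lc_b_rc_1_3 lc_b_rc_9_2 lc_b_Cert_tree lc_b_rc_9_2 lc_b_rc_26_1 lc_b_rc_8_2 lc_b_rc_8_0 lc_b_rc_9_2 lc_b_rc_8_2 lc_b_rc_6_1 lc_b_rc_8_2 lc_b_rc_9_2 lc_b_rc_9_2 lc_b_rc_8_2 lc_b_rc_10_2 lc_b_rc_26_5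 lc_b_rc_7_0 lc_b_rc_26_1 lc_b_rc_26_1 lc_b_rc_6_1 lc_b_Cert_tree lc_b_rc_9_2 lc_b_rc_6_1) (@D3.rec (fun _ => (Cert rels S Gen.b)) lc_b_rc_26_1 lc_b_rc_10_0 lc_b_Cert_tree lc_b_Cert_tree lc_b_rc_6_1 lc_b_rc_8_2 lc_b_rc_9_2 lc_b_Cert_tree lc_b_Cert_tree lc_b_rc_10_2 lc_b_rc_26_7 lc_b_rc_7_2 lc_b_rc_9_2 lc_b_Cert_tree lc_b_Cert_tree lc_b_rc_6_1 lc_b_rc_8_2 lc_b_rc_9_2 lc_b_rc_9_2 lc_b_rc_6_1 lc_b_rc_8_2 lc_b_rc_10_2 lc_b_rc_1_1 lc_b_rc_6_1 lc_b_rc_8_2 lc_b_rc_26_7 lc_b_rc_1_1 lc_b_rc_26_7 lc_b_rc_8_0 lc_b_rc_6_1 lc_b_rc_26_1 lc_b_rc_8_2 lc_b_rc_9_2 lc_b_rc_6_1 lc_b_rc_26_5 lc_b_Cert_tree lc_b_rc_9_2 lc_b_Cert_tree lc_b_rc_6_1 lc_b_rc_1_3 lc_b_rc_8_2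 lc_b_rc_9_2 lc_b_Cert_tree lc_b_rc_8_2 lc_b_Cert_tree lc_b_rc_9_2 lc_b_rc_8_2 lc_b_Cert_tree lc_b_Cert_tree lc_b_rc_8_2 lc_b_rc_10_2 lc_b_rc_9_2 lc_b_rc_6_1 lc_b_Cert_tree lc_b_rc_8_2 lc_b_rc_9_2 lc_b_rc_6_1 lc_b_Cert_tree lc_b_rc_8_2 lc_b_rc_9_2 lc_b_rc_9_2 lc_b_Cert_tree) (@D3.rec (fun _ => (Cert rels S Gen.b)) lc_b_Cert_tree lc_b_rc_8_2 lc_b_rc_6_1 lc_b_rc_8_2 lc_b_rc_9_2 lc_b_Cert_tree lc_b_Cert_tree lc_b_Cert_tree lc_b_rc_9_2 lc_b_rc_26_5 lc_b_Cert_tree lc_b_rc_8_2 lc_b_rc_9_2 lc_b_Cert_tree lc_b_Cert_tree lc_b_rc_8_2 lc_b_rc_10_2 lc_b_rc_6_1 lc_b_rc_8_2 lc_b_rc_9_2 lc_b_rc_8_2 lc_b_rc_9_2 lc_b_Cert_tree lc_b_rc_1_3 lc_b_rc_9_2 lc_b_Cert_tree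 lc_b_rc_8_2 lc_b_rc_26_1 lc_b_Cert_tree lc_b_rc_1_3 lc_b_rc_8_2 lc_b_rc_10_2 lc_b_rc_6_1 lc_b_rc_8_2 lc_b_rc_9_2 lc_b_rc_6_1 lc_b_rc_6_1 lc_b_Cert_tree lc_b_rc_9_2 lc_b_rc_8_2 lc_b_Cert_tree lc_b_rc_8_2 lc_b_rc_10_2 lc_b_rc_6_1 lc_b_rc_7_4 lc_b_rc_9_2 lc_b_rc_6_1 lc_b_rc_8_2 lc_b_Cert_tree lc_b_rc_6_1 lc_b_rc_1_3 lc_b_Cert_tree lc_b_rc_8_2 lc_b_rc_9_2 lc_b_Cert_tree lc_b_rc_6_1 lc_b_rc_8_2 lc_b_rc_9_2 lc_b_Cert_tree lc_b_rc_7_0 lc_b_rc_6_1 lc_b_rc_6_1) (@D3.rec (fun _ => (Cert rels S Gen.b)) lc_b_rc_10_2 lc_b_rc_6_1 lc_b_rc_1_3 lc_b_Cert_tree lc_b_rc_8_2 lc_b_rc_9_2 lc_b_rc_6_1 lc_b_rc_10_2 lc_b_rc_8_2 lc_b_rc_10_2 lc_b_rc_6_1 lc_b_Cert_tree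 lc_b_rc_8_2 lc_b_rc_9_2 lc_b_rc_6_1 lc_b_Cert_tree lc_b_rc_8_2 lc_b_rc_9_2 lc_b_Cert_tree lc_b_Cert_tree lc_b_Cert_tree lc_b_rc_6_1 lc_b_rc_6_1 lc_b_rc_8_2 lc_b_rc_8_2 lc_b_rc_9_2 lc_b_rc_7_2 lc_b_rc_9_2 lc_b_Cert_tree lc_b_rc_7_0 lc_b_rc_8_2 lc_b_rc_10_2 lc_b_Cert_tree lc_b_Cert_tree lc_b_rc_8_2 lc_b_rc_10_2 lc_b_rc_26_5 lc_b_rc_9_2 lc_b_rc_6_1 lc_b_rc_8_2 lc_b_rc_26_5 lc_b_Cert_tree lc_b_Cert_tree lc_b_rc_10_2 lc_b_rc_8_2 lc_b_rc_6_1 lc_b_rc_8_2 lc_b_rc_1_5 lc_b_rc_26_5 lc_b_rc_9_2 lc_b_Cert_tree lc_b_rc_9_2 lc_b_rc_7_4 lc_b_rc_8_2 lc_b_Cert_tree lc_b_rc_9_2 lc_b_Cert_tree lc_b_rc_9_2 lc_b_rc_6_1 lc_b_rc_10_2 lc_b_rc_9_2 lc_b_rc_26_7)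 (@D3.rec (fun _ => (Cert rels S Gen.b)) lc_b_Cert_tree lc_b_rc_9_2 lc_b_rc_8_2 lc_b_rc_8_2 lc_b_rc_9_2 lc_b_Cert_tree lc_b_Cert_tree lc_b_rc_8_2 lc_b_rc_10_2 lc_b_rc_9_2 lc_b_rc_26_1 lc_b_rc_26_7 lc_b_Cert_tree lc_b_rc_10_2 lc_b_rc_6_1 lc_b_rc_26_1 lc_b_rc_8_0 lc_b_rc_6_1 lc_b_rc_10_2 lc_b_rc_8_2 lc_b_Cert_tree lc_b_rc_9_2 lc_b_rc_6_1 lc_b_rc_7_2 lc_b_rc_7_4 lc_b_rc_9_2 lc_b_rc_25_0 lc_b_rc_9_2 lc_b_rc_6_1 lc_b_Cert_tree lc_b_rc_9_2 lc_b_rc_1_5 lc_b_rc_8_2 lc_b_rc_9_2 lc_b_Cert_tree lc_b_Cert_tree lc_b_rc_10_2 lc_b_rc_6_1 lc_b_rc_8_2 lc_b_rc_6_1 lc_b_rc_8_2 lc_b_rc_9_2 lc_b_rc_6_1 lc_b_rc_9_2 lc_b_rc_7_0 lc_b_rc_8_0 lc_b_rc_9_2 lc_b_rc_9_2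 lc_b_rc_9_2 lc_b_rc_1_5 lc_b_rc_10_2 lc_b_rc_1_1 lc_b_rc_10_2 lc_b_rc_9_2 lc_b_rc_9_2 lc_b_rc_8_0 lc_b_rc_9_2 lc_b_rc_26_1 lc_b_rc_26_5 lc_b_rc_8_2 lc_b_rc_9_2 lc_b_rc_9_0) (@D3.rec (fun _ => (Cert rels S Gen.b)) lc_b_rc_8_2 lc_b_rc_9_2 lc_b_rc_1_1 lc_b_rc_8_2 lc_b_rc_10_2 lc_b_Cert_tree lc_b_rc_6_1 lc_b_rc_9_2 lc_b_rc_1_1 lc_b_Cert_tree lc_b_rc_9_2 lc_b_rc_10_2 lc_b_rc_6_1 lc_b_rc_8_2 lc_b_rc_26_1 lc_b_rc_9_2 lc_b_rc_9_2 lc_b_rc_9_2 lc_b_rc_6_1 lc_b_rc_9_2 lc_b_rc_9_2 lc_b_rc_9_2 lc_b_Cert_tree lc_b_Cert_tree lc_b_rc_8_2 lc_b_rc_10_2 lc_b_rc_6_1 lc_b_rc_26_7 lc_b_rc_8_2 lc_b_rc_7_4 lc_b_rc_6_1 lc_b_Cert_tree lc_b_rc_8_2 lc_b_rc_9_2 lc_b_Cert_tree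 lc_b_Cert_tree lc_b_rc_9_2 lc_b_rc_10_2 lc_b_rc_26_1 lc_b_rc_6_1 lc_b_rc_8_2 lc_b_rc_8_2 lc_b_rc_25_0 lc_b_Cert_tree lc_b_rc_1_5 lc_b_rc_6_1 lc_b_Cert_tree lc_b_rc_9_2 lc_b_Cert_tree lc_b_rc_7_2 lc_b_rc_8_2 lc_b_rc_26_5 lc_b_rc_10_2 lc_b_rc_1_1 lc_b_rc_1_3 lc_b_rc_7_4 lc_b_rc_8_2 lc_b_rc_9_2 lc_b_rc_9_2 lc_b_rc_8_2 lc_b_rc_6_1 lc_b_rc_8_2) (@D3.rec (fun _ => (Cert rels S Gen.b)) lc_b_rc_6_1 lc_b_rc_10_2 lc_b_rc_6_1 lc_b_rc_8_2 lc_b_rc_25_8 lc_b_rc_25_8 lc_b_rc_8_0 lc_b_rc_9_2 lc_b_rc_25_4 lc_b_rc_6_1 lc_b_rc_1_3 lc_b_rc_9_2 lc_b_rc_7_4 lc_b_rc_7_2 lc_b_rc_7_2 lc_b_rc_25_4 lc_b_rc_9_2 lc_b_rc_9_0 lc_b_rc_9_2 lc_b_rc_8_2 lc_b_Cert_tree lc_b_rc_1_3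 lc_b_rc_8_0 lc_b_rc_9_2 lc_b_rc_6_1 lc_b_rc_8_2 lc_b_rc_10_2 lc_b_rc_1_3 lc_b_rc_8_0 lc_b_rc_9_2 lc_b_rc_6_1 lc_b_rc_26_1 lc_b_Cert_tree lc_b_rc_6_1 lc_b_rc_6_1 lc_b_rc_9_2 lc_b_Cert_tree lc_b_Cert_tree lc_b_rc_25_16 lc_b_rc_8_2 lc_b_rc_9_2 lc_b_rc_8_2 lc_b_Cert_tree lc_b_rc_6_1 lc_b_rc_6_1 lc_b_rc_9_2 lc_b_rc_6_1 lc_b_rc_8_2 lc_b_rc_26_7 lc_b_rc_9_2 lc_b_rc_8_0 lc_b_rc_9_2 lc_b_Cert_tree lc_b_rc_8_2 lc_b_rc_6_1 lc_b_Cert_tree lc_b_rc_8_2 lc_b_rc_8_2 lc_b_Cert_tree lc_b_rc_26_1 lc_b_rc_8_0 lc_b_rc_9_2) (@D3.rec (fun _ => (Cert rels S Gen.b)) lc_b_rc_26_7 lc_b_rc_6_1 lc_b_rc_10_2 lc_b_rc_8_2 lc_b_Cert_tree lc_b_rc_9_2 lc_b_rc_6_1 lc_b_rc_9_2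 lc_b_rc_26_5 lc_b_rc_10_2 lc_b_rc_9_2 lc_b_rc_6_1 lc_b_rc_9_2 lc_b_rc_6_1 lc_b_rc_7_2 lc_b_rc_6_1 lc_b_rc_9_2 lc_b_Cert_tree lc_b_rc_8_2 lc_b_rc_10_2 lc_b_rc_6_1 lc_b_Cert_tree lc_b_rc_8_2 lc_b_rc_9_2 lc_b_rc_6_1 lc_b_Cert_tree lc_b_rc_6_1 lc_b_rc_6_1 lc_b_rc_9_2 lc_b_rc_7_4 lc_b_rc_8_2 lc_b_rc_9_2 lc_b_rc_10_2 lc_b_rc_9_0 lc_b_rc_6_1 lc_b_rc_8_2 lc_b_rc_9_2 lc_b_Cert_tree lc_b_rc_1_5 lc_b_rc_9_0 lc_b_Cert_tree lc_b_rc_9_2 lc_b_rc_6_1 lc_b_rc_9_2 lc_b_rc_9_2 lc_b_rc_6_1 lc_b_Cert_tree lc_b_rc_10_2 lc_b_rc_8_2 lc_b_rc_26_5 lc_b_Cert_tree lc_b_rc_26_1 lc_b_rc_25_16 lc_b_rc_6_1 lc_b_rc_9_2 lc_b_rc_9_2 lc_b_rc_10_2 lc_b_rc_7_2 lc_b_rc_1_1 lc_b_rc_8_2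 lc_b_rc_9_2 lc_b_rc_8_2) (@D3.rec (fun _ => (Cert rels S Gen.b)) lc_b_Cert_tree lc_b_rc_8_2 lc_b_rc_9_2 lc_b_rc_6_1 lc_b_rc_9_2 lc_b_Cert_tree lc_b_rc_10_2 lc_b_rc_1_3 lc_b_rc_9_2 lc_b_rc_7_0 lc_b_rc_9_2 lc_b_rc_26_5 lc_b_rc_7_4 lc_b_rc_10_2 lc_b_Cert_tree lc_b_rc_9_2 lc_b_rc_6_1 lc_b_rc_9_2 lc_b_rc_6_1 lc_b_rc_10_2 lc_b_rc_6_1 lc_b_rc_9_2 lc_b_rc_9_2 lc_b_rc_1_3 lc_b_rc_9_2 lc_b_rc_6_1 lc_b_rc_26_5 lc_b_rc_26_5 lc_b_rc_9_2 lc_b_rc_6_1 lc_b_rc_26_5 lc_b_rc_8_2 lc_b_rc_9_2 lc_b_Cert_tree lc_b_rc_8_2 lc_b_rc_9_2 lc_b_Cert_tree lc_b_rc_26_1 lc_b_rc_10_2 lc_b_rc_8_2 lc_b_rc_8_2 lc_b_rc_9_2 lc_b_Cert_tree lc_b_rc_9_2 lc_b_rc_1_5 lc_b_Cert_tree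 lc_b_Cert_tree lc_b_rc_8_2 lc_b_rc_10_2 lc_b_Cert_tree lc_b_rc_10_2 lc_b_rc_8_2 lc_b_rc_9_2 lc_b_rc_8_0 lc_b_rc_6_1 lc_b_rc_9_2 lc_b_rc_6_1 lc_b_rc_10_2 lc_b_rc_6_1 lc_b_rc_1_3 lc_b_rc_9_2 lc_b_rc_9_2) (@D3.rec (fun _ => (Cert rels S Gen.b)) lc_b_rc_10_2 lc_b_rc_6_1 lc_b_rc_9_2 lc_b_rc_6_1 lc_b_rc_10_2 lc_b_rc_1_3 lc_b_rc_9_2 lc_b_rc_6_1 lc_b_rc_10_0 lc_b_rc_1_1 lc_b_rc_10_2 lc_b_rc_9_2 lc_b_rc_6_1 lc_b_rc_1_5 lc_b_rc_10_2 lc_b_rc_6_1 lc_b_rc_9_2 lc_b_rc_6_1 lc_b_rc_9_2 lc_b_rc_6_1 lc_b_Cert_tree lc_b_rc_8_2 lc_b_rc_10_2 lc_b_rc_6_1 lc_b_Cert_tree lc_b_rc_9_0 lc_b_rc_9_2 lc_b_rc_6_1 lc_b_Cert_tree lc_b_rc_8_2 lc_b_rc_9_2 lc_b_Cert_tree lc_b_Cert_tree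 lc_b_rc_10_2 lc_b_rc_10_2 lc_b_rc_6_1 lc_b_Cert_tree lc_b_rc_9_2 lc_b_rc_6_1 lc_b_Cert_tree lc_b_Cert_tree lc_b_Cert_tree lc_b_rc_10_2 lc_b_rc_1_3 lc_b_rc_26_5 lc_b_rc_9_2 lc_b_rc_9_2 lc_b_rc_10_2 lc_b_rc_7_2 lc_b_rc_9_2 lc_b_rc_8_2 lc_b_rc_10_2 lc_b_rc_6_1 lc_b_rc_6_1 lc_b_rc_9_2 lc_b_rc_7_2 lc_b_rc_8_2 lc_b_rc_8_2 lc_b_rc_8_2 lc_b_rc_8_0 lc_b_Cert_tree lc_b_rc_10_2) (@D3.rec (fun _ => (Cert rels S Gen.b)) lc_b_rc_26_7 lc_b_rc_26_1 lc_b_rc_7_4 lc_b_rc_9_2 lc_b_rc_8_2 lc_b_rc_7_4 lc_b_rc_9_2 lc_b_rc_7_4 lc_b_rc_8_2 lc_b_rc_8_2 lc_b_rc_26_5 lc_b_Cert_tree lc_b_rc_9_0 lc_b_rc_6_1 lc_b_rc_9_2 lc_b_rc_8_2 lc_b_Cert_tree lc_b_rc_7_4 lc_b_rc_9_2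 lc_b_rc_26_5 lc_b_Cert_tree lc_b_rc_9_2 lc_b_rc_6_1 lc_b_Cert_tree lc_b_Cert_tree lc_b_rc_9_2 lc_b_rc_8_2 lc_b_rc_26_7 lc_b_rc_9_2 lc_b_rc_6_1 lc_b_rc_26_7 lc_b_Cert_tree lc_b_rc_9_2 lc_b_rc_8_2 lc_b_rc_25_4 lc_b_rc_9_2 lc_b_rc_8_2 lc_b_rc_1_1 lc_b_rc_8_2 lc_b_rc_8_2 lc_b_Cert_tree lc_b_rc_8_2 lc_b_Cert_tree lc_b_rc_9_2 lc_b_rc_25_4 lc_b_rc_9_2 lc_b_rc_6_1 lc_b_rc_26_5 lc_b_rc_26_5 lc_b_rc_8_2 lc_b_rc_9_2 lc_b_Cert_tree lc_b_rc_9_2 lc_b_rc_6_1 lc_b_rc_8_2 lc_b_rc_26_5 lc_b_rc_1_5 lc_b_rc_26_5 lc_b_rc_8_2 lc_b_rc_7_4 lc_b_rc_8_2 lc_b_rc_8_2) (@D3.rec (fun _ => (Cert rels S Gen.b)) lc_b_rc_8_2 lc_b_Cert_tree lc_b_rc_1_3 lc_b_rc_8_2 lc_b_rc_25_12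 lc_b_rc_9_2 lc_b_rc_8_2 lc_b_rc_8_0 lc_b_rc_9_2 lc_b_rc_8_0 lc_b_rc_9_2 lc_b_Cert_tree lc_b_rc_9_2 lc_b_rc_1_5 lc_b_rc_8_2 lc_b_rc_9_2 lc_b_Cert_tree lc_b_Cert_tree lc_b_rc_8_2 lc_b_rc_10_2 lc_b_rc_6_1 lc_b_rc_8_2 lc_b_rc_6_1 lc_b_rc_8_2 lc_b_Cert_tree lc_b_Cert_tree lc_b_rc_10_2 lc_b_rc_26_7 lc_b_rc_9_2 lc_b_rc_6_1 lc_b_rc_8_2 lc_b_rc_10_2 lc_b_rc_26_7 lc_b_rc_9_2 lc_b_rc_6_1 lc_b_rc_8_2 lc_b_rc_7_4 lc_b_rc_6_1 lc_b_rc_8_2 lc_b_rc_6_1 lc_b_rc_6_1 lc_b_rc_8_2 lc_b_rc_9_2 lc_b_rc_6_1 lc_b_rc_6_1 lc_b_rc_26_1 lc_b_Cert_tree lc_b_rc_6_1 lc_b_Cert_tree lc_b_rc_8_2 lc_b_rc_7_4 lc_b_rc_8_2 lc_b_rc_26_5 lc_b_rc_8_0 lc_b_rc_1_5 lc_b_rc_9_2 lc_b_rc_26_5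 lc_b_rc_7_2 lc_b_rc_8_2 lc_b_rc_6_1 lc_b_rc_8_2 lc_b_rc_7_4) (@D3.rec (fun _ => (Cert rels S Gen.b)) lc_b_rc_9_2 lc_b_rc_6_1 lc_b_Cert_tree lc_b_rc_9_2 lc_b_rc_10_2 lc_b_rc_9_2 lc_b_rc_7_4 lc_b_rc_6_1 lc_b_rc_8_2 lc_b_rc_7_4 lc_b_rc_9_2 lc_b_rc_9_2 lc_b_rc_8_2 lc_b_rc_9_2 lc_b_rc_9_2 lc_b_rc_8_2 lc_b_rc_26_5 lc_b_rc_9_2 lc_b_rc_9_2 lc_b_rc_10_2 lc_b_rc_6_1 lc_b_rc_1_1 lc_b_rc_9_2 lc_b_rc_6_1 lc_b_Cert_tree lc_b_Cert_tree lc_b_rc_1_3 lc_b_Cert_tree lc_b_rc_26_5 lc_b_rc_8_2 lc_b_rc_9_2 lc_b_rc_8_2 lc_b_Cert_tree lc_b_rc_9_2 lc_b_Cert_tree lc_b_rc_8_0 lc_b_rc_7_0 lc_b_rc_9_2 lc_b_rc_9_2 lc_b_rc_7_2 lc_b_rc_9_2 lc_b_rc_8_2 lc_b_rc_6_1 lc_b_rc_6_1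 lc_b_rc_9_2 lc_b_rc_8_2 lc_b_rc_9_2 lc_b_Cert_tree lc_b_rc_9_2 lc_b_rc_6_1 lc_b_rc_8_2 lc_b_rc_6_1 lc_b_rc_1_3 lc_b_rc_9_2 lc_b_rc_6_1 lc_b_rc_6_1 lc_b_rc_8_2 lc_b_rc_9_2 lc_b_rc_26_5 lc_b_rc_8_0 lc_b_Cert_tree lc_b_rc_8_2) (@D3.rec (fun _ => (Cert rels S Gen.b)) lc_b_rc_8_2 lc_b_rc_25_4 lc_b_rc_9_2 lc_b_rc_8_2 lc_b_Cert_tree lc_b_rc_1_1 lc_b_rc_8_2 lc_b_rc_6_1 lc_b_rc_25_0 lc_b_rc_6_1 lc_b_Cert_tree lc_b_rc_9_2 lc_b_Cert_tree lc_b_rc_7_2 lc_b_rc_6_1 lc_b_rc_8_2 lc_b_rc_9_2 lc_b_Cert_tree lc_b_rc_6_1 lc_b_rc_8_2 lc_b_rc_10_2 lc_b_rc_7_4 lc_b_rc_8_2 lc_b_rc_26_5 lc_b_rc_8_2 lc_b_Cert_tree lc_b_Cert_tree lc_b_Cert_tree lc_b_rc_10_2 lc_b_rc_26_5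 lc_b_rc_8_0 lc_b_rc_9_2 lc_b_rc_26_5 lc_b_rc_10_2 lc_b_rc_9_2 lc_b_rc_6_1 lc_b_rc_8_2 lc_b_rc_9_2 lc_b_rc_1_5 lc_b_rc_9_2 lc_b_rc_10_2 lc_b_rc_6_1 lc_b_rc_9_2 lc_b_rc_9_2 lc_b_rc_1_5 lc_b_rc_7_4 lc_b_Cert_tree lc_b_Cert_tree lc_b_rc_7_2 lc_b_rc_6_1 lc_b_Cert_tree lc_b_rc_8_2 lc_b_rc_8_2 lc_b_rc_6_1 lc_b_Cert_tree lc_b_rc_8_2 lc_b_rc_9_2 lc_b_rc_6_1 lc_b_Cert_tree lc_b_rc_7_4 lc_b_rc_10_2 lc_b_rc_6_1) (@D3.rec (fun _ => (Cert rels S Gen.b)) lc_b_rc_8_2 lc_b_Cert_tree lc_b_rc_9_2 lc_b_Cert_tree lc_b_rc_8_2 lc_b_rc_9_2 lc_b_rc_6_1 lc_b_Cert_tree lc_b_rc_1_5 lc_b_Cert_tree lc_b_Cert_tree lc_b_rc_8_2 lc_b_rc_7_4 lc_b_rc_9_2 lc_b_rc_1_5 lc_b_rc_1_3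 lc_b_rc_7_4 lc_b_rc_9_2 lc_b_rc_10_2 lc_b_rc_10_2 lc_b_rc_9_2 lc_b_rc_8_2 lc_b_rc_9_2 lc_b_rc_6_1 lc_b_rc_6_1 lc_b_rc_9_2 lc_b_rc_8_2 lc_b_rc_7_4 lc_b_Cert_tree lc_b_Cert_tree lc_b_Cert_tree lc_b_rc_9_2 lc_b_rc_8_2 lc_b_rc_10_2 lc_b_rc_6_1 lc_b_rc_6_1 lc_b_rc_9_2 lc_b_rc_9_2 lc_b_rc_6_1 lc_b_rc_8_2 lc_b_rc_9_2 lc_b_rc_9_2 lc_b_rc_6_1 lc_b_rc_8_2 lc_b_rc_10_2 lc_b_rc_8_2 lc_b_rc_1_1 lc_b_rc_9_0 lc_b_rc_10_2 lc_b_rc_9_0 lc_b_rc_8_2 lc_b_Cert_tree lc_b_rc_9_2 lc_b_rc_9_2 lc_b_rc_8_2 lc_b_Cert_tree lc_b_rc_9_2 lc_b_rc_6_1 lc_b_rc_7_2 lc_b_rc_9_0 lc_b_rc_6_1 lc_b_rc_8_2) (@D3.rec (fun _ => (Cert rels S Gen.b)) lc_b_rc_10_2 lc_b_rc_9_2 lc_b_rc_8_2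 lc_b_Cert_tree lc_b_rc_6_1 lc_b_rc_8_2 lc_b_rc_9_2 lc_b_rc_26_1 lc_b_rc_7_2 lc_b_rc_9_2 lc_b_rc_10_2 lc_b_rc_6_1 lc_b_rc_8_2 lc_b_rc_9_2 lc_b_rc_26_5 lc_b_rc_9_2 lc_b_rc_6_1 lc_b_Cert_tree lc_b_rc_25_4 lc_b_rc_8_2 lc_b_rc_9_2 lc_b_rc_10_2 lc_b_Cert_tree lc_b_rc_26_7 lc_b_rc_9_2 lc_b_rc_10_2 lc_b_rc_9_2 lc_b_rc_8_2 lc_b_rc_8_2 lc_b_rc_9_2 lc_b_rc_26_1 lc_b_rc_9_2 lc_b_rc_9_0 lc_b_rc_10_2 lc_b_rc_9_2 lc_b_Cert_tree lc_b_rc_9_2 lc_b_rc_9_2 lc_b_rc_8_2 lc_b_rc_6_1 lc_b_rc_8_2 lc_b_rc_9_2 lc_b_Cert_tree lc_b_rc_26_7 lc_b_rc_8_2 lc_b_rc_10_2 lc_b_rc_8_2 lc_b_rc_26_5 lc_b_rc_8_0 lc_b_Cert_tree lc_b_rc_10_2 lc_b_rc_6_1 lc_b_rc_9_2 lc_b_rc_26_7 lc_b_rc_6_1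 lc_b_rc_8_2 lc_b_rc_10_2 lc_b_rc_6_1 lc_b_Cert_tree lc_b_rc_1_3 lc_b_rc_8_2 lc_b_rc_9_2) (@D3.rec (fun _ => (Cert rels S Gen.b)) lc_b_rc_9_2 lc_b_rc_26_7 lc_b_Cert_tree lc_b_rc_8_2 lc_b_rc_9_0 lc_b_Cert_tree lc_b_rc_8_2 lc_b_rc_9_2 lc_b_rc_6_1 lc_b_Cert_tree lc_b_rc_10_2 lc_b_Cert_tree lc_b_rc_8_2 lc_b_Cert_tree lc_b_rc_9_2 lc_b_Cert_tree lc_b_Cert_tree lc_b_rc_6_1 lc_b_rc_8_2 lc_b_rc_10_2 lc_b_rc_9_2 lc_b_rc_8_2 lc_b_rc_9_2 lc_b_rc_9_2 lc_b_Cert_tree lc_b_rc_8_2 lc_b_rc_10_2 lc_b_rc_6_1 lc_b_Cert_tree lc_b_rc_8_2 lc_b_rc_9_2 lc_b_rc_6_1 lc_b_Cert_tree lc_b_rc_8_2 lc_b_rc_9_2 lc_b_rc_9_2 lc_b_rc_6_1 lc_b_rc_8_2 lc_b_rc_9_2 lc_b_rc_10_0 lc_b_rc_10_2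 lc_b_rc_8_2 lc_b_rc_10_2 lc_b_rc_6_1 lc_b_rc_9_2 lc_b_rc_9_2 lc_b_rc_6_1 lc_b_Cert_tree lc_b_rc_26_7 lc_b_rc_8_2 lc_b_rc_9_2 lc_b_Cert_tree lc_b_rc_26_5 lc_b_rc_9_2 lc_b_rc_6_1 lc_b_rc_8_2 lc_b_rc_10_2 lc_b_rc_8_2 lc_b_rc_7_4 lc_b_rc_8_2 lc_b_rc_9_2 lc_b_rc_9_2)
def ce_b_6 : D2 → D3 → (Cert rels S Gen.b) := @D2.rec (fun _ => D3 → (Cert rels S Gen.b)) (@D3.rec (fun _ => (Cert rels S Gen.b)) lc_b_rc_10_2 lc_b_rc_26_1 lc_b_rc_9_2 lc_b_rc_6_1 lc_b_rc_9_2 lc_b_rc_26_1 lc_b_rc_26_5 lc_b_rc_10_2 lc_b_rc_7_2 lc_b_rc_1_3 lc_b_rc_8_2 lc_b_rc_9_2 lc_b_rc_9_2 lc_b_Cert_tree lc_b_Cert_tree lc_b_rc_8_2 lc_b_rc_10_2 lc_b_rc_7_4 lc_b_rc_8_2 lc_b_rc_9_2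 lc_b_Cert_tree lc_b_rc_8_2 lc_b_rc_9_2 lc_b_rc_6_1 lc_b_rc_1_5 lc_b_Cert_tree lc_b_rc_10_2 lc_b_rc_6_1 lc_b_rc_6_1 lc_b_rc_1_3 lc_b_rc_6_1 lc_b_rc_8_2 lc_b_rc_9_2 lc_b_Cert_tree lc_b_rc_9_2 lc_b_rc_10_2 lc_b_rc_26_5 lc_b_Cert_tree lc_b_rc_26_5 lc_b_rc_1_3 lc_b_rc_7_2 lc_b_rc_8_2 lc_b_rc_9_2 lc_b_rc_9_2 lc_b_rc_8_2 lc_b_rc_10_2 lc_b_rc_9_2 lc_b_rc_6_1 lc_b_rc_9_2 lc_b_Cert_tree lc_b_Cert_tree lc_b_rc_8_2 lc_b_rc_10_2 lc_b_Cert_tree lc_b_rc_10_0 lc_b_rc_6_1 lc_b_rc_26_7 lc_b_rc_8_2 lc_b_Cert_tree lc_b_Cert_tree lc_b_Cert_tree lc_b_rc_10_2) (@D3.rec (fun _ => (Cert rels S Gen.b)) lc_b_rc_7_0 lc_b_rc_10_2 lc_b_Cert_tree lc_b_rc_8_2 lc_b_rc_9_2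 lc_b_Cert_tree lc_b_rc_6_1 lc_b_rc_8_2 lc_b_rc_9_2 lc_b_rc_8_2 lc_b_rc_26_5 lc_b_Cert_tree lc_b_rc_9_2 lc_b_rc_9_0 lc_b_rc_8_2 lc_b_rc_10_2 lc_b_rc_6_1 lc_b_rc_6_1 lc_b_Cert_tree lc_b_rc_8_2 lc_b_rc_9_2 lc_b_rc_6_1 lc_b_rc_8_2 lc_b_Cert_tree lc_b_rc_9_2 lc_b_rc_10_2 lc_b_rc_8_0 lc_b_Cert_tree lc_b_rc_9_2 lc_b_Cert_tree lc_b_rc_9_2 lc_b_Cert_tree lc_b_rc_9_2 lc_b_rc_6_1 lc_b_Cert_tree lc_b_rc_9_2 lc_b_Cert_tree lc_b_Cert_tree lc_b_rc_6_1 lc_b_rc_8_2 lc_b_rc_6_1 lc_b_rc_8_2 lc_b_Cert_tree lc_b_rc_6_1 lc_b_rc_8_2 lc_b_rc_10_2 lc_b_rc_6_1 lc_b_rc_9_2 lc_b_rc_6_1 lc_b_Cert_tree lc_b_Cert_tree lc_b_rc_9_2 lc_b_rc_6_1 lc_b_rc_7_4 lc_b_rc_8_2 lc_b_rc_6_1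 lc_b_rc_26_5 lc_b_rc_8_2 lc_b_rc_8_2 lc_b_Cert_tree lc_b_rc_7_4 lc_b_rc_10_2) (@D3.rec (fun _ => (Cert rels S Gen.b)) lc_b_rc_7_2 lc_b_rc_8_2 lc_b_Cert_tree lc_b_rc_10_2 lc_b_Cert_tree lc_b_Cert_tree lc_b_rc_9_2 lc_b_rc_8_2 lc_b_rc_6_1 lc_b_rc_8_2 lc_b_rc_9_2 lc_b_rc_6_1 lc_b_rc_8_2 lc_b_rc_9_2 lc_b_rc_6_1 lc_b_rc_6_1 lc_b_rc_10_2 lc_b_rc_6_1 lc_b_rc_9_2 lc_b_rc_9_2 lc_b_rc_7_4 lc_b_Cert_tree lc_b_rc_9_2 lc_b_Cert_tree lc_b_rc_9_2 lc_b_rc_8_2 lc_b_rc_10_2 lc_b_Cert_tree lc_b_rc_8_2 lc_b_rc_9_2 lc_b_Cert_tree lc_b_rc_8_2 lc_b_rc_9_2 lc_b_Cert_tree lc_b_rc_10_2 lc_b_rc_6_1 lc_b_rc_8_2 lc_b_rc_9_2 lc_b_Cert_tree lc_b_rc_6_1 lc_b_rc_8_2 lc_b_rc_8_2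 lc_b_rc_9_2 lc_b_rc_8_2 lc_b_Cert_tree lc_b_Cert_tree lc_b_rc_6_1 lc_b_rc_8_2 lc_b_rc_10_2 lc_b_rc_10_2 lc_b_rc_26_1 lc_b_rc_1_3 lc_b_rc_9_2 lc_b_rc_8_2 lc_b_Cert_tree lc_b_rc_8_2 lc_b_rc_9_2 lc_b_rc_9_0 lc_b_Cert_tree lc_b_rc_8_2 lc_b_rc_26_5 lc_b_Cert_tree) (@D3.rec (fun _ => (Cert rels S Gen.b)) lc_b_rc_6_1 lc_b_Cert_tree lc_b_Cert_tree lc_b_rc_8_2 lc_b_rc_7_4 lc_b_Cert_tree lc_b_rc_6_1 lc_b_rc_8_2 lc_b_Cert_tree lc_b_rc_1_5 lc_b_rc_8_2 lc_b_Cert_tree lc_b_rc_8_2 lc_b_rc_10_2 lc_b_rc_6_1 lc_b_Cert_tree lc_b_rc_9_2 lc_b_Cert_tree lc_b_rc_9_0 lc_b_rc_8_2 lc_b_rc_9_2 lc_b_rc_6_1 lc_b_rc_9_2 lc_b_rc_8_2 lc_b_rc_8_2 lc_b_rc_8_2 lc_b_rc_8_0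 lc_b_rc_1_5 lc_b_rc_9_2 lc_b_rc_9_2 lc_b_Cert_tree lc_b_rc_6_1 lc_b_rc_9_2 lc_b_rc_9_2 lc_b_rc_6_1 lc_b_rc_10_2 lc_b_rc_6_1 lc_b_rc_9_2 lc_b_rc_10_2 lc_b_rc_8_2 lc_b_rc_10_2 lc_b_rc_8_0 lc_b_rc_9_2 lc_b_rc_6_1 lc_b_rc_9_2 lc_b_Cert_tree lc_b_rc_6_1 lc_b_rc_10_2 lc_b_Cert_tree lc_b_rc_9_2 lc_b_rc_6_1 lc_b_rc_9_2 lc_b_rc_9_2 lc_b_rc_10_2 lc_b_rc_26_7 lc_b_rc_6_1 lc_b_rc_9_2 lc_b_rc_6_1 lc_b_rc_7_4 lc_b_Cert_tree lc_b_rc_7_4 lc_b_rc_1_3) (@D3.rec (fun _ => (Cert rels S Gen.b)) lc_b_rc_8_2 lc_b_rc_9_2 lc_b_Cert_tree lc_b_rc_9_2 lc_b_rc_6_1 lc_b_rc_9_2 lc_b_rc_9_2 lc_b_Cert_tree lc_b_rc_10_2 lc_b_rc_7_2 lc_b_rc_6_1 lc_b_rc_8_2 lc_b_rc_9_2 lc_b_rc_6_1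 lc_b_rc_9_2 lc_b_rc_8_2 lc_b_Cert_tree lc_b_Cert_tree lc_b_rc_6_1 lc_b_rc_7_0 lc_b_rc_7_0 lc_b_rc_6_1 lc_b_rc_8_2 lc_b_Cert_tree lc_b_Cert_tree lc_b_rc_9_2 lc_b_Cert_tree lc_b_rc_9_2 lc_b_Cert_tree lc_b_Cert_tree lc_b_rc_6_1 lc_b_rc_8_2 lc_b_rc_10_2 lc_b_rc_1_3 lc_b_rc_25_12 lc_b_rc_9_2 lc_b_Cert_tree lc_b_rc_9_2 lc_b_Cert_tree lc_b_Cert_tree lc_b_rc_6_1 lc_b_rc_9_2 lc_b_rc_9_2 lc_b_rc_26_5 lc_b_rc_10_2 lc_b_rc_6_1 lc_b_Cert_tree lc_b_rc_9_2 lc_b_rc_25_12 lc_b_rc_9_2 lc_b_rc_6_1 lc_b_rc_7_4 lc_b_rc_9_2 lc_b_rc_9_0 lc_b_rc_8_0 lc_b_rc_8_2 lc_b_rc_25_12 lc_b_rc_9_2 lc_b_Cert_tree lc_b_Cert_tree lc_b_rc_9_2 lc_b_rc_26_5) (@D3.rec (fun _ =>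 (Cert rels S Gen.b)) lc_b_rc_26_5 lc_b_rc_10_2 lc_b_rc_9_2 lc_b_rc_6_1 lc_b_rc_8_2 lc_b_rc_9_2 lc_b_rc_8_2 lc_b_rc_9_2 lc_b_rc_10_2 lc_b_rc_6_1 lc_b_rc_26_7 lc_b_rc_9_2 lc_b_rc_6_1 lc_b_rc_8_2 lc_b_rc_9_2 lc_b_Cert_tree lc_b_rc_6_1 lc_b_rc_1_3 lc_b_rc_8_2 lc_b_rc_10_2 lc_b_Cert_tree lc_b_Cert_tree lc_b_Cert_tree lc_b_rc_9_2 lc_b_rc_10_2 lc_b_rc_9_2 lc_b_Cert_tree lc_b_rc_6_1 lc_b_Cert_tree lc_b_Cert_tree lc_b_rc_6_1 lc_b_rc_8_2 lc_b_rc_7_4 lc_b_rc_8_2 lc_b_rc_6_1 lc_b_rc_10_2 lc_b_rc_6_1 lc_b_Cert_tree lc_b_Cert_tree lc_b_rc_1_3 lc_b_rc_8_2 lc_b_rc_6_1 lc_b_Cert_tree lc_b_rc_9_2 lc_b_rc_8_2 lc_b_Cert_tree lc_b_Cert_tree lc_b_Cert_tree lc_b_rc_6_1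 lc_b_rc_8_2 lc_b_rc_9_2 lc_b_rc_10_0 lc_b_rc_10_2 lc_b_rc_7_2 lc_b_Cert_tree lc_b_rc_1_3 lc_b_rc_9_2 lc_b_rc_9_0 lc_b_Cert_tree lc_b_Cert_tree lc_b_rc_6_1 lc_b_rc_8_2) (@D3.rec (fun _ => (Cert rels S Gen.b)) lc_b_rc_9_2 lc_b_Cert_tree lc_b_Cert_tree lc_b_rc_10_2 lc_b_Cert_tree lc_b_rc_8_2 lc_b_rc_1_3 lc_b_rc_8_2 lc_b_rc_9_2 lc_b_rc_26_1 lc_b_Cert_tree lc_b_Cert_tree lc_b_rc_8_2 lc_b_rc_6_1 lc_b_rc_8_2 lc_b_rc_9_2 lc_b_Cert_tree lc_b_Cert_tree lc_b_rc_6_1 lc_b_rc_8_2 lc_b_rc_9_2 lc_b_rc_9_2 lc_b_rc_26_5 lc_b_rc_10_2 lc_b_Cert_tree lc_b_Cert_tree lc_b_rc_1_3 lc_b_rc_8_2 lc_b_rc_8_2 lc_b_rc_6_1 lc_b_rc_10_2 lc_b_Cert_tree lc_b_rc_1_3 lc_b_rc_6_1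 lc_b_rc_8_2 lc_b_rc_9_2 lc_b_rc_7_4 lc_b_rc_8_2 lc_b_rc_1_5 lc_b_rc_7_2 lc_b_rc_1_3 lc_b_rc_1_5 lc_b_Cert_tree lc_b_rc_9_2 lc_b_Cert_tree lc_b_rc_8_2 lc_b_rc_6_1 lc_b_rc_26_1 lc_b_rc_7_2 lc_b_rc_9_2 lc_b_rc_9_2 lc_b_rc_6_1 lc_b_rc_26_5 lc_b_Cert_tree lc_b_rc_26_5 lc_b_rc_26_7 lc_b_rc_9_2 lc_b_Cert_tree lc_b_Cert_tree lc_b_rc_6_1 lc_b_rc_8_2 lc_b_rc_9_2) (@D3.rec (fun _ => (Cert rels S Gen.b)) lc_b_Cert_tree lc_b_Cert_tree lc_b_rc_10_2 lc_b_rc_8_0 lc_b_Cert_tree lc_b_rc_9_0 lc_b_rc_9_2 lc_b_rc_6_1 lc_b_rc_6_1 lc_b_rc_9_2 lc_b_rc_1_5 lc_b_rc_10_2 lc_b_rc_6_1 lc_b_rc_8_2 lc_b_rc_9_2 lc_b_rc_26_5 lc_b_rc_10_2 lc_b_rc_7_2 lc_b_rc_7_4 lc_b_rc_9_2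 lc_b_rc_8_2 lc_b_rc_10_2 lc_b_rc_6_1 lc_b_Cert_tree lc_b_rc_8_2 lc_b_rc_10_2 lc_b_rc_6_1 lc_b_rc_26_5 lc_b_rc_9_0 lc_b_rc_9_2 lc_b_rc_26_1 lc_b_rc_8_2 lc_b_rc_1_3 lc_b_rc_1_1 lc_b_rc_1_5 lc_b_rc_8_2 lc_b_rc_8_0 lc_b_rc_8_0 lc_b_rc_26_1 lc_b_rc_9_2 lc_b_rc_9_2 lc_b_rc_8_2 lc_b_rc_7_2 lc_b_rc_1_5 lc_b_rc_9_2 lc_b_rc_8_2 lc_b_Cert_tree lc_b_Cert_tree lc_b_rc_8_2 lc_b_rc_10_2 lc_b_rc_8_2 lc_b_rc_9_0 lc_b_rc_8_2 lc_b_rc_9_2 lc_b_rc_8_2 lc_b_rc_9_2 lc_b_Cert_tree lc_b_rc_9_2 lc_b_rc_26_5 lc_b_rc_9_2 lc_b_rc_1_1 lc_b_rc_6_1) (@D3.rec (fun _ => (Cert rels S Gen.b)) lc_b_Cert_tree lc_b_rc_9_2 lc_b_Cert_tree lc_b_rc_6_1 lc_b_rc_8_2 lc_b_rc_26_5 lc_b_rc_7_4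 lc_b_rc_7_4 lc_b_Cert_tree lc_b_rc_10_2 lc_b_rc_9_2 lc_b_Cert_tree lc_b_rc_6_1 lc_b_rc_9_2 lc_b_rc_6_1 lc_b_rc_10_0 lc_b_rc_9_2 lc_b_rc_10_2 lc_b_Cert_tree lc_b_Cert_tree lc_b_rc_7_4 lc_b_rc_1_3 lc_b_rc_9_2 lc_b_rc_26_5 lc_b_rc_8_2 lc_b_rc_10_2 lc_b_rc_6_1 lc_b_rc_6_1 lc_b_rc_6_1 lc_b_rc_9_2 lc_b_Cert_tree lc_b_rc_26_7 lc_b_rc_8_2 lc_b_rc_8_2 lc_b_rc_25_16 lc_b_rc_6_1 lc_b_rc_6_1 lc_b_Cert_tree lc_b_rc_9_2 lc_b_Cert_tree lc_b_Cert_tree lc_b_rc_8_2 lc_b_rc_10_2 lc_b_rc_6_1 lc_b_Cert_tree lc_b_rc_6_1 lc_b_rc_9_2 lc_b_rc_6_1 lc_b_Cert_tree lc_b_rc_8_2 lc_b_rc_9_2 lc_b_rc_9_2 lc_b_rc_10_0 lc_b_Cert_tree lc_b_rc_7_2 lc_b_rc_8_2 lc_b_rc_9_2 lc_b_rc_7_4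 lc_b_rc_9_2 lc_b_rc_8_2 lc_b_rc_9_2 lc_b_rc_26_7) (@D3.rec (fun _ => (Cert rels S Gen.b)) lc_b_rc_9_2 lc_b_rc_8_2 lc_b_rc_9_2 lc_b_rc_7_4 lc_b_rc_9_2 lc_b_rc_7_4 lc_b_Cert_tree lc_b_rc_9_2 lc_b_rc_6_1 lc_b_Cert_tree lc_b_rc_9_2 lc_b_rc_26_1 lc_b_Cert_tree lc_b_rc_8_2 lc_b_rc_10_2 lc_b_rc_8_2 lc_b_Cert_tree lc_b_rc_10_2 lc_b_rc_7_4 lc_b_Cert_tree lc_b_rc_8_0 lc_b_rc_26_1 lc_b_rc_8_2 lc_b_Cert_tree lc_b_rc_9_2 lc_b_Cert_tree lc_b_rc_6_1 lc_b_rc_8_2 lc_b_Cert_tree lc_b_Cert_tree lc_b_rc_7_4 lc_b_rc_9_2 lc_b_rc_8_2 lc_b_Cert_tree lc_b_Cert_tree lc_b_rc_10_2 lc_b_Cert_tree lc_b_Cert_tree lc_b_rc_9_2 lc_b_rc_6_1 lc_b_Cert_tree lc_b_Cert_tree lc_b_rc_25_4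 lc_b_rc_6_1 lc_b_rc_8_2 lc_b_rc_7_4 lc_b_Cert_tree lc_b_rc_1_3 lc_b_rc_6_1 lc_b_rc_9_2 lc_b_Cert_tree lc_b_Cert_tree lc_b_rc_1_1 lc_b_rc_1_3 lc_b_Cert_tree lc_b_rc_7_4 lc_b_rc_1_3 lc_b_rc_10_0 lc_b_rc_8_0 lc_b_Cert_tree lc_b_rc_10_2 lc_b_Cert_tree) (@D3.rec (fun _ => (Cert rels S Gen.b)) lc_b_Cert_tree lc_b_rc_6_1 lc_b_rc_8_2 lc_b_rc_10_2 lc_b_Cert_tree lc_b_Cert_tree lc_b_rc_6_1 lc_b_rc_8_2 lc_b_Cert_tree lc_b_Cert_tree lc_b_rc_1_3 lc_b_rc_8_2 lc_b_rc_9_2 lc_b_rc_9_2 lc_b_rc_1_5 lc_b_rc_10_2 lc_b_rc_6_1 lc_b_Cert_tree lc_b_rc_7_0 lc_b_rc_9_2 lc_b_rc_6_1 lc_b_rc_26_7 lc_b_rc_10_0 lc_b_rc_6_1 lc_b_rc_6_1 lc_b_rc_9_2 lc_b_rc_10_0 lc_b_rc_6_1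 lc_b_rc_26_1 lc_b_rc_7_0 lc_b_rc_7_2 lc_b_rc_1_3 lc_b_rc_8_2 lc_b_rc_9_2 lc_b_rc_9_2 lc_b_rc_8_2 lc_b_rc_10_2 lc_b_Cert_tree lc_b_rc_9_2 lc_b_Cert_tree lc_b_Cert_tree lc_b_rc_1_3 lc_b_rc_7_2 lc_b_rc_8_2 lc_b_rc_9_2 lc_b_rc_26_7 lc_b_rc_10_0 lc_b_rc_9_2 lc_b_rc_9_2 lc_b_rc_6_1 lc_b_rc_9_2 lc_b_rc_6_1 lc_b_rc_26_5 lc_b_rc_6_1 lc_b_rc_9_2 lc_b_rc_8_2 lc_b_rc_9_2 lc_b_rc_7_4 lc_b_rc_9_2 lc_b_rc_26_7 lc_b_Cert_tree lc_b_rc_8_2) (@D3.rec (fun _ => (Cert rels S Gen.b)) lc_b_rc_10_2 lc_b_rc_1_3 lc_b_rc_26_5 lc_b_rc_8_2 lc_b_rc_10_2 lc_b_rc_9_2 lc_b_rc_6_1 lc_b_rc_26_5 lc_b_rc_9_2 lc_b_rc_6_1 lc_b_rc_7_4 lc_b_rc_7_2 lc_b_rc_10_2 lc_b_Cert_tree lc_b_rc_26_5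 lc_b_rc_8_2 lc_b_Cert_tree lc_b_rc_6_1 lc_b_rc_9_2 lc_b_Cert_tree lc_b_rc_26_5 lc_b_rc_26_7 lc_b_rc_9_2 lc_b_rc_8_2 lc_b_rc_26_5 lc_b_rc_6_1 lc_b_rc_26_7 lc_b_rc_26_7 lc_b_rc_9_2 lc_b_rc_6_1 lc_b_rc_8_2 lc_b_rc_9_2 lc_b_Cert_tree lc_b_rc_8_0 lc_b_rc_8_2 lc_b_rc_1_5 lc_b_rc_8_2 lc_b_rc_26_1 lc_b_rc_26_5 lc_b_rc_6_1 lc_b_Cert_tree lc_b_rc_6_1 lc_b_rc_9_2 lc_b_Cert_tree lc_b_rc_8_2 lc_b_Cert_tree lc_b_Cert_tree lc_b_Cert_tree lc_b_rc_6_1 lc_b_rc_8_2 lc_b_rc_8_2 lc_b_rc_1_3 lc_b_rc_10_2 lc_b_rc_8_2 lc_b_rc_9_2 lc_b_rc_6_1 lc_b_rc_7_2 lc_b_rc_6_1 lc_b_rc_10_0 lc_b_rc_10_2 lc_b_rc_26_1 lc_b_Cert_tree) (@D3.rec (fun _ => (Cert rels S Gen.b)) lc_b_rc_10_2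 lc_b_rc_7_4 lc_b_rc_8_2 lc_b_rc_10_2 lc_b_Cert_tree lc_b_rc_8_2 lc_b_Cert_tree lc_b_rc_9_2 lc_b_rc_6_1 lc_b_Cert_tree lc_b_rc_9_2 lc_b_rc_6_1 lc_b_Cert_tree lc_b_rc_9_2 lc_b_Cert_tree lc_b_rc_25_16 lc_b_rc_6_1 lc_b_rc_10_2 lc_b_Cert_tree lc_b_rc_10_2 lc_b_Cert_tree lc_b_rc_6_1 lc_b_rc_9_2 lc_b_rc_8_2 lc_b_rc_9_2 lc_b_rc_1_1 lc_b_rc_8_2 lc_b_rc_10_2 lc_b_rc_8_2 lc_b_rc_9_2 lc_b_Cert_tree lc_b_Cert_tree lc_b_rc_9_2 lc_b_Cert_tree lc_b_Cert_tree lc_b_rc_7_0 lc_b_rc_6_1 lc_b_rc_8_2 lc_b_rc_9_2 lc_b_rc_8_2 lc_b_rc_8_2 lc_b_rc_9_2 lc_b_rc_25_16 lc_b_rc_9_2 lc_b_rc_6_1 lc_b_Cert_tree lc_b_Cert_tree lc_b_rc_8_2 lc_b_Cert_tree lc_b_rc_6_1 lc_b_rc_8_2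 lc_b_rc_9_2 lc_b_rc_8_0 lc_b_rc_6_1 lc_b_Cert_tree lc_b_rc_9_2 lc_b_rc_6_1 lc_b_Cert_tree lc_b_rc_26_5 lc_b_rc_6_1 lc_b_Cert_tree lc_b_rc_6_1) (@D3.rec (fun _ => (Cert rels S Gen.b)) lc_b_rc_8_2 lc_b_Cert_tree lc_b_Cert_tree lc_b_rc_1_3 lc_b_rc_8_2 lc_b_rc_6_1 lc_b_rc_10_2 lc_b_rc_8_2 lc_b_Cert_tree lc_b_rc_8_2 lc_b_Cert_tree lc_b_rc_8_2 lc_b_rc_6_1 lc_b_rc_8_2 lc_b_rc_8_2 lc_b_rc_9_2 lc_b_rc_8_2 lc_b_rc_26_5 lc_b_rc_1_3 lc_b_rc_1_3 lc_b_rc_7_2 lc_b_rc_8_2 lc_b_rc_6_1 lc_b_rc_1_5 lc_b_rc_8_2 lc_b_rc_26_5 lc_b_Cert_tree lc_b_Cert_tree lc_b_rc_10_2 lc_b_rc_6_1 lc_b_rc_9_2 lc_b_rc_8_2 lc_b_rc_7_4 lc_b_rc_9_2 lc_b_rc_26_1 lc_b_Cert_tree lc_b_rc_8_2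 lc_b_rc_10_2 lc_b_rc_6_1 lc_b_Cert_tree lc_b_Cert_tree lc_b_rc_8_2 lc_b_rc_6_1 lc_b_rc_26_1 lc_b_rc_6_1 lc_b_rc_6_1 lc_b_rc_26_5 lc_b_rc_9_2 lc_b_rc_8_2 lc_b_rc_8_0 lc_b_rc_6_1 lc_b_rc_10_2 lc_b_rc_6_1 lc_b_Cert_tree lc_b_rc_10_2 lc_b_rc_7_2 lc_b_rc_9_2 lc_b_rc_26_1 lc_b_Cert_tree lc_b_rc_8_2 lc_b_rc_10_2 lc_b_rc_8_2) (@D3.rec (fun _ => (Cert rels S Gen.b)) lc_b_Cert_tree lc_b_Cert_tree lc_b_rc_8_2 lc_b_rc_6_1 lc_b_rc_8_2 lc_b_rc_26_7 lc_b_rc_9_0 lc_b_rc_8_2 lc_b_rc_7_4 lc_b_rc_9_2 lc_b_rc_6_1 lc_b_rc_9_2 lc_b_Cert_tree lc_b_Cert_tree lc_b_rc_10_2 lc_b_rc_8_2 lc_b_rc_9_2 lc_b_rc_7_4 lc_b_rc_9_2 lc_b_rc_7_0 lc_b_rc_8_2 lc_b_rc_10_2 lc_b_rc_6_1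 lc_b_Cert_tree lc_b_rc_8_2 lc_b_rc_10_2 lc_b_rc_8_2 lc_b_Cert_tree lc_b_rc_26_7 lc_b_rc_9_2 lc_b_rc_7_4 lc_b_rc_8_2 lc_b_rc_10_2 lc_b_rc_10_0 lc_b_rc_9_2 lc_b_rc_7_2 lc_b_rc_8_2 lc_b_Cert_tree lc_b_rc_8_0 lc_b_rc_6_1 lc_b_rc_8_2 lc_b_rc_9_2 lc_b_Cert_tree lc_b_Cert_tree lc_b_rc_8_2 lc_b_rc_10_2 lc_b_rc_6_1 lc_b_rc_7_2 lc_b_rc_9_2 lc_b_rc_6_1 lc_b_rc_8_2 lc_b_rc_9_2 lc_b_rc_6_1 lc_b_rc_8_2 lc_b_rc_9_2 lc_b_rc_26_5 lc_b_Cert_tree lc_b_rc_9_2 lc_b_rc_10_2 lc_b_rc_26_5 lc_b_rc_8_2 lc_b_rc_8_2) (@D3.rec (fun _ => (Cert rels S Gen.b)) lc_b_rc_9_2 lc_b_rc_9_2 lc_b_rc_8_2 lc_b_rc_9_2 lc_b_rc_6_1 lc_b_rc_9_2 lc_b_rc_25_16 lc_b_rc_9_2 lc_b_rc_9_2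 lc_b_rc_8_2 lc_b_rc_9_2 lc_b_rc_9_2 lc_b_rc_8_2 lc_b_rc_10_2 lc_b_rc_6_1 lc_b_rc_8_2 lc_b_rc_8_2 lc_b_rc_8_2 lc_b_rc_9_2 lc_b_rc_8_2 lc_b_rc_9_2 lc_b_rc_8_2 lc_b_rc_26_5 lc_b_rc_6_1 lc_b_rc_8_2 lc_b_rc_1_3 lc_b_rc_7_4 lc_b_rc_8_2 lc_b_rc_9_2 lc_b_rc_6_1 lc_b_rc_26_5 lc_b_rc_8_2 lc_b_rc_8_2 lc_b_Cert_tree lc_b_rc_6_1 lc_b_rc_9_2 lc_b_rc_7_0 lc_b_rc_8_2 lc_b_rc_8_2 lc_b_rc_6_1 lc_b_rc_8_0 lc_b_Cert_tree lc_b_rc_9_2 lc_b_rc_8_2 lc_b_rc_9_2 lc_b_rc_6_1 lc_b_rc_7_0 lc_b_rc_9_2 lc_b_rc_26_5 lc_b_rc_8_2 lc_b_rc_10_2 lc_b_rc_26_5 lc_b_rc_1_5 lc_b_rc_9_2 lc_b_rc_8_2 lc_b_rc_8_2 lc_b_rc_9_2 lc_b_rc_26_1 lc_b_rc_9_2 lc_b_rc_6_1 lc_b_rc_9_2 lc_b_rc_1_3)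 (@D3.rec (fun _ => (Cert rels S Gen.b)) lc_b_rc_7_2 lc_b_rc_8_2 lc_b_rc_26_5 lc_b_rc_1_5 lc_b_rc_26_5 lc_b_rc_1_1 lc_b_rc_9_2 lc_b_rc_10_2 lc_b_rc_8_2 lc_b_rc_8_2 lc_b_rc_8_0 lc_b_rc_10_0 lc_b_rc_10_2 lc_b_rc_8_2 lc_b_rc_9_2 lc_b_rc_26_1 lc_b_rc_8_2 lc_b_rc_9_2 lc_b_rc_25_0 lc_b_rc_7_2 lc_b_rc_8_2 lc_b_rc_8_2 lc_b_rc_9_2 lc_b_rc_9_2 lc_b_rc_1_5 lc_b_Cert_tree lc_b_rc_6_1 lc_b_rc_6_1 lc_b_rc_9_2 lc_b_rc_25_16 lc_b_rc_9_2 lc_b_rc_8_2 lc_b_rc_10_2 lc_b_rc_6_1 lc_b_Cert_tree lc_b_rc_9_2 lc_b_rc_26_7 lc_b_rc_9_2 lc_b_rc_1_5 lc_b_Cert_tree lc_b_rc_6_1 lc_b_rc_26_1 lc_b_rc_10_2 lc_b_rc_9_2 lc_b_rc_7_4 lc_b_rc_9_2 lc_b_rc_6_1 lc_b_rc_10_2 lc_b_rc_8_0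 lc_b_rc_9_2 lc_b_rc_6_1 lc_b_Cert_tree lc_b_Cert_tree lc_b_rc_1_3 lc_b_rc_8_2 lc_b_rc_10_2 lc_b_rc_9_2 lc_b_rc_9_2 lc_b_rc_6_1 lc_b_rc_6_1 lc_b_rc_8_2 lc_b_rc_7_2) (@D3.rec (fun _ => (Cert rels S Gen.b)) lc_b_rc_8_2 lc_b_rc_9_2 lc_b_rc_7_2 lc_b_Cert_tree lc_b_rc_25_4 lc_b_rc_26_5 lc_b_Cert_tree lc_b_rc_26_5 lc_b_rc_1_3 lc_b_rc_9_2 lc_b_Cert_tree lc_b_rc_9_2 lc_b_Cert_tree lc_b_rc_9_0 lc_b_rc_6_1 lc_b_rc_9_2 lc_b_rc_8_2 lc_b_rc_9_2 lc_b_rc_6_1 lc_b_Cert_tree lc_b_rc_6_1 lc_b_rc_9_2 lc_b_rc_26_1 lc_b_rc_10_2 lc_b_Cert_tree lc_b_rc_9_2 lc_b_rc_9_2 lc_b_Cert_tree lc_b_rc_8_2 lc_b_rc_10_2 lc_b_rc_6_1 lc_b_Cert_tree lc_b_rc_8_2 lc_b_rc_10_2 lc_b_rc_8_2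 lc_b_rc_8_0 lc_b_Cert_tree lc_b_rc_8_2 lc_b_Cert_tree lc_b_rc_9_2 lc_b_Cert_tree lc_b_rc_1_3 lc_b_Cert_tree lc_b_Cert_tree lc_b_rc_6_1 lc_b_rc_8_2 lc_b_rc_7_4 lc_b_rc_8_2 lc_b_Cert_tree lc_b_rc_26_7 lc_b_rc_8_2 lc_b_rc_9_2 lc_b_Cert_tree lc_b_rc_8_0 lc_b_rc_6_1 lc_b_Cert_tree lc_b_rc_26_7 lc_b_rc_10_2 lc_b_rc_6_1 lc_b_rc_26_5 lc_b_rc_10_2 lc_b_Cert_tree) (@D3.rec (fun _ => (Cert rels S Gen.b)) lc_b_Cert_tree lc_b_rc_1_3 lc_b_rc_6_1 lc_b_rc_7_0 lc_b_rc_26_7 lc_b_rc_9_2 lc_b_rc_8_2 lc_b_Cert_tree lc_b_rc_6_1 lc_b_rc_8_2 lc_b_rc_9_2 lc_b_rc_6_1 lc_b_Cert_tree lc_b_rc_6_1 lc_b_rc_8_2 lc_b_rc_9_2 lc_b_rc_10_0 lc_b_rc_6_1 lc_b_rc_9_2 lc_b_rc_10_2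 lc_b_Cert_tree lc_b_rc_6_1 lc_b_rc_7_4 lc_b_rc_6_1 lc_b_rc_8_2 lc_b_Cert_tree lc_b_Cert_tree lc_b_rc_9_2 lc_b_Cert_tree lc_b_rc_8_2 lc_b_rc_10_2 lc_b_rc_6_1 lc_b_Cert_tree lc_b_rc_26_7 lc_b_rc_6_1 lc_b_rc_26_1 lc_b_rc_8_2 lc_b_rc_9_2 lc_b_rc_6_1 lc_b_Cert_tree lc_b_rc_10_2 lc_b_Cert_tree lc_b_rc_10_2 lc_b_Cert_tree lc_b_rc_8_2 lc_b_Cert_tree lc_b_rc_7_0 lc_b_rc_6_1 lc_b_rc_8_2 lc_b_Cert_tree lc_b_rc_9_2 lc_b_rc_9_2 lc_b_rc_8_0 lc_b_rc_6_1 lc_b_rc_8_2 lc_b_rc_10_2 lc_b_Cert_tree lc_b_Cert_tree lc_b_rc_1_3 lc_b_Cert_tree lc_b_rc_8_2 lc_b_Cert_tree) (@D3.rec (fun _ => (Cert rels S Gen.b)) lc_b_rc_6_1 lc_b_rc_10_2 lc_b_rc_1_5 lc_b_rc_10_2 lc_b_rc_6_1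 lc_b_rc_10_0 lc_b_rc_10_0 lc_b_rc_6_1 lc_b_rc_9_2 lc_b_rc_26_7 lc_b_rc_26_7 lc_b_rc_8_2 lc_b_rc_10_2 lc_b_rc_8_2 lc_b_rc_26_5 lc_b_rc_25_4 lc_b_rc_8_2 lc_b_rc_1_1 lc_b_rc_6_1 lc_b_Cert_tree lc_b_Cert_tree lc_b_rc_8_2 lc_b_rc_10_2 lc_b_Cert_tree lc_b_rc_26_1 lc_b_rc_26_1 lc_b_rc_10_2 lc_b_rc_8_2 lc_b_rc_9_2 lc_b_rc_9_2 lc_b_Cert_tree lc_b_rc_8_2 lc_b_rc_10_2 lc_b_Cert_tree lc_b_rc_26_5 lc_b_Cert_tree lc_b_rc_8_2 lc_b_rc_9_2 lc_b_rc_9_2 lc_b_Cert_tree lc_b_Cert_tree lc_b_rc_8_2 lc_b_rc_7_4 lc_b_rc_6_1 lc_b_Cert_tree lc_b_rc_8_2 lc_b_rc_6_1 lc_b_rc_26_5 lc_b_rc_6_1 lc_b_rc_8_2 lc_b_rc_6_1 lc_b_rc_9_2 lc_b_Cert_tree lc_b_rc_8_2 lc_b_rc_8_0 lc_b_rc_8_0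 lc_b_rc_9_2 lc_b_rc_6_1 lc_b_rc_8_2 lc_b_rc_9_2 lc_b_rc_10_2 lc_b_Cert_tree) (@D3.rec (fun _ => (Cert rels S Gen.b)) lc_b_rc_9_2 lc_b_rc_9_2 lc_b_Cert_tree lc_b_rc_8_2 lc_b_rc_9_2 lc_b_Cert_tree lc_b_rc_9_2 lc_b_rc_6_1 lc_b_Cert_tree lc_b_rc_1_3 lc_b_rc_7_4 lc_b_rc_8_2 lc_b_rc_9_2 lc_b_rc_1_3 lc_b_rc_8_2 lc_b_Cert_tree lc_b_rc_8_2 lc_b_rc_9_2 lc_b_rc_9_2 lc_b_rc_8_2 lc_b_rc_10_2 lc_b_rc_6_1 lc_b_rc_9_2 lc_b_rc_9_2 lc_b_Cert_tree lc_b_rc_26_1 lc_b_rc_8_2 lc_b_rc_10_2 lc_b_rc_6_1 lc_b_rc_7_2 lc_b_rc_9_2 lc_b_rc_6_1 lc_b_rc_8_2 lc_b_Cert_tree lc_b_Cert_tree lc_b_rc_10_2 lc_b_Cert_tree lc_b_rc_1_1 lc_b_rc_6_1 lc_b_rc_8_2 lc_b_rc_9_2 lc_b_Cert_tree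 lc_b_rc_8_2 lc_b_rc_26_7 lc_b_Cert_tree lc_b_rc_10_2 lc_b_Cert_tree lc_b_rc_8_2 lc_b_rc_6_1 lc_b_rc_8_2 lc_b_rc_6_1 lc_b_rc_9_2 lc_b_rc_8_2 lc_b_rc_8_0 lc_b_rc_26_5 lc_b_rc_7_4 lc_b_rc_9_2 lc_b_Cert_tree lc_b_Cert_tree lc_b_rc_7_4 lc_b_rc_9_2 lc_b_rc_10_0) (@D3.rec (fun _ => (Cert rels S Gen.b)) lc_b_rc_8_2 lc_b_rc_8_0 lc_b_Cert_tree lc_b_rc_1_3 lc_b_rc_6_1 lc_b_rc_7_0 lc_b_rc_8_2 lc_b_rc_6_1 lc_b_rc_7_4 lc_b_rc_9_2 lc_b_rc_8_2 lc_b_rc_6_1 lc_b_Cert_tree lc_b_rc_8_2 lc_b_Cert_tree lc_b_rc_6_1 lc_b_Cert_tree lc_b_rc_10_2 lc_b_rc_8_2 lc_b_rc_6_1 lc_b_rc_8_2 lc_b_rc_10_2 lc_b_Cert_tree lc_b_rc_26_5 lc_b_Cert_tree lc_b_rc_8_2 lc_b_Cert_tree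 lc_b_rc_6_1 lc_b_rc_8_2 lc_b_rc_9_2 lc_b_rc_6_1 lc_b_Cert_tree lc_b_Cert_tree lc_b_rc_9_2 lc_b_rc_6_1 lc_b_rc_26_1 lc_b_Cert_tree lc_b_rc_9_2 lc_b_rc_8_2 lc_b_rc_9_2 lc_b_rc_9_2 lc_b_rc_9_2 lc_b_Cert_tree lc_b_rc_10_2 lc_b_Cert_tree lc_b_Cert_tree lc_b_rc_6_1 lc_b_rc_8_2 lc_b_rc_9_2 lc_b_Cert_tree lc_b_rc_8_2 lc_b_Cert_tree lc_b_rc_1_3 lc_b_rc_10_0 lc_b_Cert_tree lc_b_rc_6_1 lc_b_rc_8_2 lc_b_rc_8_0 lc_b_rc_6_1 lc_b_Cert_tree lc_b_rc_9_2 lc_b_rc_9_2) (@D3.rec (fun _ => (Cert rels S Gen.b)) lc_b_rc_8_2 lc_b_Cert_tree lc_b_rc_26_5 lc_b_rc_9_2 lc_b_rc_7_4 lc_b_Cert_tree lc_b_rc_9_0 lc_b_rc_6_1 lc_b_rc_8_2 lc_b_rc_9_2 lc_b_Cert_tree lc_b_rc_9_2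 lc_b_Cert_tree lc_b_rc_6_1 lc_b_rc_8_2 lc_b_rc_8_0 lc_b_Cert_tree lc_b_rc_6_1 lc_b_rc_8_2 lc_b_rc_6_1 lc_b_rc_8_2 lc_b_rc_6_1 lc_b_rc_10_2 lc_b_Cert_tree lc_b_Cert_tree lc_b_rc_1_3 lc_b_rc_8_2 lc_b_Cert_tree lc_b_Cert_tree lc_b_Cert_tree lc_b_rc_9_2 lc_b_rc_8_2 lc_b_Cert_tree lc_b_Cert_tree lc_b_rc_9_2 lc_b_rc_26_1 lc_b_Cert_tree lc_b_rc_6_1 lc_b_rc_8_2 lc_b_Cert_tree lc_b_Cert_tree lc_b_rc_1_3 lc_b_rc_9_2 lc_b_Cert_tree lc_b_rc_10_2 lc_b_Cert_tree lc_b_rc_9_2 lc_b_Cert_tree lc_b_rc_9_2 lc_b_Cert_tree lc_b_rc_9_2 lc_b_Cert_tree lc_b_Cert_tree lc_b_rc_6_1 lc_b_rc_8_2 lc_b_rc_9_2 lc_b_rc_10_2 lc_b_rc_26_1 lc_b_rc_10_2 lc_b_Cert_tree lc_b_Cert_tree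 lc_b_rc_1_3) (@D3.rec (fun _ => (Cert rels S Gen.b)) lc_b_rc_9_2 lc_b_Cert_tree lc_b_Cert_tree lc_b_rc_8_2 lc_b_rc_10_2 lc_b_Cert_tree lc_b_rc_8_2 lc_b_Cert_tree lc_b_Cert_tree lc_b_rc_1_3 lc_b_Cert_tree lc_b_Cert_tree lc_b_rc_6_1 lc_b_rc_8_2 lc_b_rc_9_2 lc_b_rc_8_2 lc_b_Cert_tree lc_b_rc_10_2 lc_b_Cert_tree lc_b_rc_6_1 lc_b_rc_1_3 lc_b_rc_9_2 lc_b_rc_8_2 lc_b_rc_10_2 lc_b_rc_8_2 lc_b_rc_1_3 lc_b_Cert_tree lc_b_rc_6_1 lc_b_Cert_tree lc_b_rc_8_2 lc_b_rc_9_2 lc_b_rc_10_2 lc_b_rc_6_1 lc_b_rc_26_5 lc_b_rc_8_2 lc_b_rc_9_2 lc_b_rc_1_3 lc_b_Cert_tree lc_b_Cert_tree lc_b_rc_7_4 lc_b_rc_9_2 lc_b_Cert_tree lc_b_Cert_tree lc_b_rc_10_2 lc_b_Cert_tree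 lc_b_Cert_tree lc_b_rc_26_1 lc_b_rc_6_1 lc_b_rc_26_1 lc_b_rc_6_1 lc_b_Cert_tree lc_b_rc_9_2 lc_b_rc_8_2 lc_b_Cert_tree lc_b_Cert_tree lc_b_Cert_tree lc_b_rc_6_1 lc_b_rc_8_2 lc_b_rc_9_2 lc_b_Cert_tree lc_b_Cert_tree lc_b_rc_1_3) (@D3.rec (fun _ => (Cert rels S Gen.b)) lc_b_rc_9_2 lc_b_Cert_tree lc_b_rc_26_7 lc_b_Cert_tree lc_b_rc_9_2 lc_b_Cert_tree lc_b_rc_6_1 lc_b_rc_8_2 lc_b_rc_9_2 lc_b_rc_6_1 lc_b_rc_26_1 lc_b_rc_10_2 lc_b_Cert_tree lc_b_Cert_tree lc_b_rc_1_3 lc_b_rc_9_2 lc_b_rc_8_0 lc_b_rc_6_1 lc_b_rc_26_7 lc_b_rc_6_1 lc_b_Cert_tree lc_b_Cert_tree lc_b_rc_26_5 lc_b_rc_10_2 lc_b_rc_8_2 lc_b_rc_9_2 lc_b_rc_9_2 lc_b_rc_25_4 lc_b_rc_9_2 lc_b_rc_6_1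 lc_b_rc_8_2 lc_b_rc_8_2 lc_b_rc_9_2 lc_b_rc_10_2 lc_b_rc_9_2 lc_b_rc_8_2 lc_b_rc_7_0 lc_b_Cert_tree lc_b_rc_9_2 lc_b_rc_26_5 lc_b_rc_7_2 lc_b_Cert_tree lc_b_Cert_tree lc_b_rc_8_2 lc_b_rc_10_2 lc_b_rc_26_1 lc_b_rc_9_2 lc_b_rc_6_1 lc_b_rc_8_2 lc_b_rc_7_4 lc_b_rc_6_1 lc_b_rc_8_2 lc_b_rc_9_2 lc_b_rc_1_5 lc_b_rc_9_2 lc_b_rc_10_2 lc_b_rc_7_4 lc_b_rc_9_2 lc_b_Cert_tree lc_b_rc_9_2 lc_b_Cert_tree lc_b_rc_26_7) (@D3.rec (fun _ => (Cert rels S Gen.b)) lc_b_rc_9_2 lc_b_Cert_tree lc_b_rc_9_2 lc_b_rc_8_2 lc_b_rc_8_0 lc_b_Cert_tree lc_b_rc_9_2 lc_b_Cert_tree lc_b_rc_9_0 lc_b_rc_9_2 lc_b_rc_26_5 lc_b_rc_8_2 lc_b_rc_7_2 lc_b_rc_9_2 lc_b_rc_8_2 lc_b_rc_6_1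 lc_b_rc_8_2 lc_b_rc_9_2 lc_b_rc_26_5 lc_b_rc_8_2 lc_b_rc_10_2 lc_b_Cert_tree lc_b_rc_6_1 lc_b_rc_6_1 lc_b_rc_26_5 lc_b_rc_8_0 lc_b_rc_26_5 lc_b_rc_26_5 lc_b_rc_26_1 lc_b_rc_8_0 lc_b_Cert_tree lc_b_rc_1_3 lc_b_Cert_tree lc_b_rc_26_5 lc_b_Cert_tree lc_b_rc_9_2 lc_b_rc_8_2 lc_b_rc_10_2 lc_b_rc_9_2 lc_b_rc_26_5 lc_b_rc_10_2 lc_b_rc_6_1 lc_b_rc_26_5 lc_b_rc_10_2 lc_b_rc_9_0 lc_b_Cert_tree lc_b_rc_6_1 lc_b_rc_6_1 lc_b_rc_6_1 lc_b_rc_6_1 lc_b_rc_1_5 lc_b_rc_1_3 lc_b_rc_9_2 lc_b_rc_8_2 lc_b_Cert_tree lc_b_rc_26_1 lc_b_rc_10_2 lc_b_rc_6_1 lc_b_rc_1_3 lc_b_rc_7_4 lc_b_rc_9_2 lc_b_rc_6_1) (@D3.rec (fun _ => (Cert rels S Gen.b)) lc_b_rc_10_0 lc_b_rc_9_2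 lc_b_Cert_tree lc_b_rc_9_0 lc_b_rc_10_2 lc_b_rc_6_1 lc_b_Cert_tree lc_b_Cert_tree lc_b_Cert_tree lc_b_rc_6_1 lc_b_Cert_tree lc_b_rc_8_2 lc_b_rc_7_4 lc_b_Cert_tree lc_b_rc_6_1 lc_b_Cert_tree lc_b_rc_8_0 lc_b_rc_6_1 lc_b_rc_10_2 lc_b_Cert_tree lc_b_rc_6_1 lc_b_rc_6_1 lc_b_Cert_tree lc_b_Cert_tree lc_b_rc_1_3 lc_b_rc_9_2 lc_b_rc_26_1 lc_b_rc_10_0 lc_b_rc_6_1 lc_b_rc_8_2 lc_b_rc_10_0 lc_b_Cert_tree lc_b_Cert_tree lc_b_Cert_tree lc_b_rc_1_1 lc_b_rc_8_2 lc_b_Cert_tree lc_b_Cert_tree lc_b_Cert_tree lc_b_Cert_tree lc_b_Cert_tree lc_b_rc_6_1 lc_b_rc_8_2 lc_b_Cert_tree lc_b_rc_10_2 lc_b_Cert_tree lc_b_rc_8_2 lc_b_rc_9_2 lc_b_rc_6_1 lc_b_rc_8_2 lc_b_rc_1_5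 lc_b_rc_8_2 lc_b_Cert_tree lc_b_rc_8_2 lc_b_rc_8_2 lc_b_rc_1_3 lc_b_rc_1_3 lc_b_rc_8_2 lc_b_rc_9_2 lc_b_Cert_tree lc_b_rc_9_2 lc_b_rc_8_2) (@D3.rec (fun _ => (Cert rels S Gen.b)) lc_b_rc_6_1 lc_b_rc_8_2 lc_b_Cert_tree lc_b_rc_1_3 lc_b_Cert_tree lc_b_rc_8_2 lc_b_rc_9_2 lc_b_rc_6_1 lc_b_rc_9_2 lc_b_rc_10_2 lc_b_rc_25_12 lc_b_rc_9_2 lc_b_rc_6_1 lc_b_rc_8_2 lc_b_rc_9_2 lc_b_rc_6_1 lc_b_rc_26_7 lc_b_rc_6_1 lc_b_rc_7_0 lc_b_rc_9_2 lc_b_Cert_tree lc_b_Cert_tree lc_b_rc_1_3 lc_b_rc_8_2 lc_b_rc_10_2 lc_b_Cert_tree lc_b_Cert_tree lc_b_rc_10_2 lc_b_rc_8_2 lc_b_Cert_tree lc_b_rc_1_3 lc_b_Cert_tree lc_b_rc_9_2 lc_b_rc_6_1 lc_b_Cert_tree lc_b_rc_9_2 lc_b_Cert_tree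 lc_b_Cert_tree lc_b_rc_6_1 lc_b_rc_8_2 lc_b_rc_9_2 lc_b_rc_9_0 lc_b_rc_9_0 lc_b_rc_10_2 lc_b_Cert_tree lc_b_Cert_tree lc_b_rc_1_3 lc_b_rc_9_2 lc_b_rc_8_2 lc_b_rc_10_2 lc_b_Cert_tree lc_b_Cert_tree lc_b_rc_9_2 lc_b_Cert_tree lc_b_rc_9_2 lc_b_rc_26_1 lc_b_Cert_tree lc_b_rc_6_1 lc_b_rc_8_2 lc_b_Cert_tree lc_b_Cert_tree lc_b_rc_1_3) (@D3.rec (fun _ => (Cert rels S Gen.b)) lc_b_rc_6_1 lc_b_Cert_tree lc_b_rc_9_2 lc_b_rc_6_1 lc_b_Cert_tree lc_b_rc_6_1 lc_b_Cert_tree lc_b_rc_6_1 lc_b_rc_8_2 lc_b_rc_25_4 lc_b_Cert_tree lc_b_Cert_tree lc_b_Cert_tree lc_b_Cert_tree lc_b_rc_6_1 lc_b_rc_26_5 lc_b_rc_9_2 lc_b_rc_7_4 lc_b_rc_6_1 lc_b_rc_10_2 lc_b_rc_6_1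 lc_b_rc_9_2 lc_b_Cert_tree lc_b_rc_8_2 lc_b_rc_9_2 lc_b_rc_26_5 lc_b_Cert_tree lc_b_rc_10_2 lc_b_Cert_tree lc_b_rc_9_2 lc_b_rc_7_4 lc_b_rc_9_2 lc_b_rc_6_1 lc_b_rc_9_2 lc_b_rc_26_1 lc_b_rc_26_5 lc_b_rc_8_2 lc_b_rc_10_2 lc_b_rc_1_1 lc_b_rc_1_3 lc_b_rc_8_2 lc_b_rc_9_2 lc_b_rc_9_2 lc_b_Cert_tree lc_b_Cert_tree lc_b_rc_8_2 lc_b_rc_10_2 lc_b_rc_7_4 lc_b_rc_8_0 lc_b_rc_9_2 lc_b_rc_6_1 lc_b_Cert_tree lc_b_rc_1_1 lc_b_rc_7_2 lc_b_rc_8_2 lc_b_rc_9_2 lc_b_rc_9_2 lc_b_rc_8_2 lc_b_rc_7_4 lc_b_Cert_tree lc_b_rc_6_1 lc_b_rc_9_2) (@D3.rec (fun _ => (Cert rels S Gen.b)) lc_b_rc_9_2 lc_b_rc_8_2 lc_b_rc_10_2 lc_b_rc_6_1 lc_b_rc_8_2 lc_b_rc_9_2 lc_b_rc_26_7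 lc_b_rc_10_2 lc_b_rc_8_2 lc_b_rc_9_2 lc_b_rc_6_1 lc_b_rc_8_2 lc_b_rc_9_2 lc_b_rc_8_2 lc_b_Cert_tree lc_b_rc_10_2 lc_b_rc_6_1 lc_b_rc_9_2 lc_b_rc_26_1 lc_b_rc_6_1 lc_b_rc_10_2 lc_b_rc_8_2 lc_b_rc_8_2 lc_b_rc_9_2 lc_b_Cert_tree lc_b_Cert_tree lc_b_rc_8_2 lc_b_rc_10_2 lc_b_rc_6_1 lc_b_Cert_tree lc_b_rc_10_2 lc_b_rc_6_1 lc_b_rc_7_2 lc_b_rc_9_2 lc_b_rc_6_1 lc_b_rc_9_2 lc_b_rc_6_1 lc_b_rc_6_1 lc_b_rc_10_2 lc_b_rc_9_2 lc_b_rc_8_2 lc_b_Cert_tree lc_b_rc_8_2 lc_b_rc_10_2 lc_b_rc_26_1 lc_b_rc_9_2 lc_b_rc_6_1 lc_b_Cert_tree lc_b_rc_6_1 lc_b_rc_9_2 lc_b_rc_6_1 lc_b_Cert_tree lc_b_rc_8_2 lc_b_rc_8_2 lc_b_rc_6_1 lc_b_rc_8_2 lc_b_rc_9_2 lc_b_rc_9_2 lc_b_rc_1_3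 lc_b_Cert_tree lc_b_rc_9_2 lc_b_rc_6_1) (@D3.rec (fun _ => (Cert rels S Gen.b)) lc_b_rc_10_2 lc_b_rc_10_2 lc_b_Cert_tree lc_b_rc_1_3 lc_b_rc_9_2 lc_b_Cert_tree lc_b_rc_6_1 lc_b_Cert_tree lc_b_rc_7_0 lc_b_rc_10_2 lc_b_rc_6_1 lc_b_rc_26_5 lc_b_rc_26_5 lc_b_rc_9_2 lc_b_rc_8_2 lc_b_rc_9_2 lc_b_rc_6_1 lc_b_rc_6_1 lc_b_rc_8_2 lc_b_rc_10_2 lc_b_Cert_tree lc_b_rc_1_1 lc_b_rc_8_2 lc_b_rc_9_2 lc_b_Cert_tree lc_b_rc_10_2 lc_b_Cert_tree lc_b_rc_10_2 lc_b_rc_10_2 lc_b_rc_10_2 lc_b_rc_26_7 lc_b_rc_10_2 lc_b_rc_1_3 lc_b_rc_9_2 lc_b_Cert_tree lc_b_rc_9_2 lc_b_rc_8_0 lc_b_rc_7_2 lc_b_rc_1_3 lc_b_rc_8_2 lc_b_rc_9_2 lc_b_rc_9_2 lc_b_rc_6_1 lc_b_rc_8_2 lc_b_rc_10_2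 lc_b_rc_6_1 lc_b_rc_8_2 lc_b_rc_9_2 lc_b_rc_8_2 lc_b_rc_9_2 lc_b_rc_1_3 lc_b_rc_9_2 lc_b_rc_8_2 lc_b_rc_10_2 lc_b_rc_9_2 lc_b_rc_8_2 lc_b_rc_10_2 lc_b_Cert_tree lc_b_rc_8_2 lc_b_rc_1_1 lc_b_Cert_tree lc_b_rc_8_2) (@D3.rec (fun _ => (Cert rels S Gen.b)) lc_b_Cert_tree lc_b_Cert_tree lc_b_Cert_tree lc_b_rc_6_1 lc_b_rc_8_2 lc_b_rc_6_1 lc_b_rc_8_2 lc_b_rc_8_2 lc_b_rc_1_5 lc_b_rc_6_1 lc_b_Cert_tree lc_b_Cert_tree lc_b_rc_9_2 lc_b_Cert_tree lc_b_rc_8_2 lc_b_Cert_tree lc_b_rc_6_1 lc_b_rc_10_2 lc_b_rc_7_4 lc_b_rc_6_1 lc_b_rc_6_1 lc_b_rc_6_1 lc_b_rc_1_3 lc_b_rc_8_2 lc_b_rc_9_2 lc_b_Cert_tree lc_b_rc_26_7 lc_b_rc_9_2 lc_b_Cert_tree lc_b_Cert_tree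 lc_b_rc_6_1 lc_b_rc_10_0 lc_b_rc_6_1 lc_b_rc_10_2 lc_b_Cert_tree lc_b_rc_10_2 lc_b_rc_10_2 lc_b_rc_7_2 lc_b_rc_9_0 lc_b_rc_10_2 lc_b_Cert_tree lc_b_rc_8_2 lc_b_rc_9_2 lc_b_Cert_tree lc_b_rc_10_2 lc_b_rc_1_1 lc_b_Cert_tree lc_b_rc_1_3 lc_b_rc_8_2 lc_b_rc_9_2 lc_b_rc_9_2 lc_b_rc_8_2 lc_b_Cert_tree lc_b_rc_7_2 lc_b_rc_1_3 lc_b_rc_8_2 lc_b_rc_9_2 lc_b_rc_9_2 lc_b_rc_8_2 lc_b_rc_7_2 lc_b_rc_6_1 lc_b_rc_9_2) (@D3.rec (fun _ => (Cert rels S Gen.b)) lc_b_rc_6_1 lc_b_Cert_tree lc_b_Cert_tree lc_b_rc_26_5 lc_b_rc_10_2 lc_b_rc_6_1 lc_b_rc_8_2 lc_b_rc_9_2 lc_b_rc_6_1 lc_b_rc_7_0 lc_b_Cert_tree lc_b_rc_8_2 lc_b_Cert_tree lc_b_rc_8_2 lc_b_rc_8_2 lc_b_rc_9_2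 lc_b_rc_6_1 lc_b_rc_8_2 lc_b_rc_9_2 lc_b_rc_8_2 lc_b_Cert_tree lc_b_rc_1_5 lc_b_rc_26_7 lc_b_rc_26_5 lc_b_rc_6_1 lc_b_rc_26_5 lc_b_rc_8_0 lc_b_Cert_tree lc_b_rc_10_2 lc_b_Cert_tree lc_b_rc_8_2 lc_b_rc_9_2 lc_b_Cert_tree lc_b_rc_9_2 lc_b_rc_10_2 lc_b_rc_6_1 lc_b_rc_8_2 lc_b_rc_7_4 lc_b_Cert_tree lc_b_rc_8_2 lc_b_rc_6_1 lc_b_Cert_tree lc_b_rc_1_5 lc_b_rc_1_1 lc_b_rc_6_1 lc_b_rc_9_2 lc_b_Cert_tree lc_b_rc_8_2 lc_b_rc_6_1 lc_b_rc_8_2 lc_b_rc_9_2 lc_b_rc_8_2 lc_b_Cert_tree lc_b_Cert_tree lc_b_rc_26_5 lc_b_rc_8_2 lc_b_rc_9_2 lc_b_rc_9_2 lc_b_rc_8_2 lc_b_rc_1_5 lc_b_Cert_tree lc_b_Cert_tree) (@D3.rec (fun _ => (Cert rels S Gen.b)) lc_b_rc_9_2 lc_b_Cert_tree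 lc_b_rc_1_3 lc_b_Cert_tree lc_b_Cert_tree lc_b_rc_6_1 lc_b_rc_8_2 lc_b_rc_6_1 lc_b_rc_8_0 lc_b_rc_8_2 lc_b_rc_9_2 lc_b_rc_6_1 lc_b_Cert_tree lc_b_Cert_tree lc_b_rc_8_2 lc_b_rc_10_2 lc_b_Cert_tree lc_b_rc_8_2 lc_b_Cert_tree lc_b_rc_6_1 lc_b_rc_8_2 lc_b_rc_9_2 lc_b_Cert_tree lc_b_rc_6_1 lc_b_rc_9_2 lc_b_rc_9_2 lc_b_rc_7_0 lc_b_rc_7_4 lc_b_rc_8_2 lc_b_rc_9_2 lc_b_rc_9_2 lc_b_rc_10_2 lc_b_rc_9_0 lc_b_rc_9_2 lc_b_Cert_tree lc_b_rc_6_1 lc_b_rc_10_2 lc_b_rc_8_2 lc_b_rc_7_4 lc_b_Cert_tree lc_b_Cert_tree lc_b_rc_9_2 lc_b_rc_8_2 lc_b_rc_10_2 lc_b_Cert_tree lc_b_rc_9_2 lc_b_rc_6_1 lc_b_rc_10_2 lc_b_rc_26_7 lc_b_Cert_tree lc_b_rc_10_2 lc_b_rc_6_1 lc_b_rc_8_2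 lc_b_rc_8_2 lc_b_rc_9_2 lc_b_rc_26_1 lc_b_rc_26_7 lc_b_rc_1_3 lc_b_rc_9_2 lc_b_rc_9_2 lc_b_rc_26_7 lc_b_rc_8_2) (@D3.rec (fun _ => (Cert rels S Gen.b)) lc_b_rc_10_2 lc_b_rc_6_1 lc_b_rc_10_2 lc_b_rc_26_1 lc_b_rc_7_4 lc_b_rc_6_1 lc_b_Cert_tree lc_b_rc_1_3 lc_b_rc_9_2 lc_b_rc_8_2 lc_b_rc_8_2 lc_b_rc_9_2 lc_b_rc_6_1 lc_b_rc_1_3 lc_b_rc_8_2 lc_b_rc_9_2 lc_b_rc_9_2 lc_b_rc_8_2 lc_b_rc_1_3 lc_b_rc_9_2 lc_b_rc_10_0 lc_b_rc_8_2 lc_b_rc_10_2 lc_b_rc_6_1 lc_b_rc_9_2 lc_b_rc_9_2 lc_b_rc_26_5 lc_b_Cert_tree lc_b_rc_8_2 lc_b_rc_6_1 lc_b_rc_9_2 lc_b_rc_9_2 lc_b_rc_6_1 lc_b_Cert_tree lc_b_rc_9_2 lc_b_rc_10_2 lc_b_rc_8_2 lc_b_rc_7_0 lc_b_rc_6_1 lc_b_rc_26_5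 lc_b_rc_9_2 lc_b_Cert_tree lc_b_rc_7_2 lc_b_Cert_tree lc_b_rc_6_1 lc_b_rc_8_2 lc_b_rc_9_2 lc_b_Cert_tree lc_b_rc_26_7 lc_b_rc_26_1 lc_b_rc_8_0 lc_b_rc_10_2 lc_b_rc_1_3 lc_b_rc_8_2 lc_b_rc_26_5 lc_b_rc_1_3 lc_b_rc_9_2 lc_b_rc_25_4 lc_b_rc_9_2 lc_b_rc_8_2 lc_b_rc_9_2 lc_b_rc_1_3) (@D3.rec (fun _ => (Cert rels S Gen.b)) lc_b_Cert_tree lc_b_rc_8_0 lc_b_rc_7_4 lc_b_rc_9_2 lc_b_rc_26_5 lc_b_rc_6_1 lc_b_rc_8_2 lc_b_Cert_tree lc_b_rc_26_1 lc_b_rc_9_2 lc_b_rc_10_2 lc_b_rc_6_1 lc_b_rc_9_2 lc_b_rc_26_1 lc_b_rc_1_3 lc_b_rc_8_2 lc_b_rc_9_2 lc_b_rc_9_2 lc_b_Cert_tree lc_b_rc_7_4 lc_b_rc_8_2 lc_b_rc_10_2 lc_b_Cert_tree lc_b_rc_8_2 lc_b_rc_8_0 lc_b_rc_26_1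 lc_b_rc_6_1 lc_b_rc_9_2 lc_b_rc_9_2 lc_b_Cert_tree lc_b_rc_8_2 lc_b_rc_10_2 lc_b_rc_10_2 lc_b_Cert_tree lc_b_rc_8_2 lc_b_rc_8_2 lc_b_rc_9_2 lc_b_rc_8_0 lc_b_rc_26_1 lc_b_rc_9_2 lc_b_rc_9_2 lc_b_rc_8_2 lc_b_rc_6_1 lc_b_rc_26_5 lc_b_rc_6_1 lc_b_rc_9_2 lc_b_rc_6_1 lc_b_rc_26_5 lc_b_rc_8_2 lc_b_rc_9_2 lc_b_rc_8_2 lc_b_rc_9_2 lc_b_Cert_tree lc_b_rc_6_1 lc_b_rc_9_2 lc_b_Cert_tree lc_b_Cert_tree lc_b_rc_8_2 lc_b_rc_10_2 lc_b_rc_7_0 lc_b_rc_6_1 lc_b_rc_8_2) (@D3.rec (fun _ => (Cert rels S Gen.b)) lc_b_rc_10_2 lc_b_rc_8_2 lc_b_rc_6_1 lc_b_rc_8_2 lc_b_rc_9_2 lc_b_Cert_tree lc_b_Cert_tree lc_b_rc_7_4 lc_b_rc_10_2 lc_b_Cert_tree lc_b_rc_6_1 lc_b_rc_8_2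 lc_b_Cert_tree lc_b_rc_6_1 lc_b_rc_8_2 lc_b_rc_9_2 lc_b_rc_6_1 lc_b_rc_9_2 lc_b_rc_26_1 lc_b_rc_8_2 lc_b_rc_6_1 lc_b_rc_26_5 lc_b_Cert_tree lc_b_rc_6_1 lc_b_rc_1_3 lc_b_rc_9_2 lc_b_rc_9_2 lc_b_Cert_tree lc_b_rc_26_7 lc_b_rc_10_2 lc_b_Cert_tree lc_b_rc_8_2 lc_b_rc_10_2 lc_b_rc_8_2 lc_b_Cert_tree lc_b_Cert_tree lc_b_rc_10_2 lc_b_rc_6_1 lc_b_Cert_tree lc_b_rc_1_3 lc_b_rc_8_2 lc_b_rc_1_3 lc_b_rc_9_2 lc_b_rc_8_2 lc_b_rc_6_1 lc_b_rc_9_2 lc_b_rc_9_2 lc_b_rc_9_2 lc_b_rc_26_5 lc_b_Cert_tree lc_b_rc_8_2 lc_b_rc_10_2 lc_b_rc_6_1 lc_b_rc_26_1 lc_b_rc_6_1 lc_b_rc_9_2 lc_b_Cert_tree lc_b_rc_10_2 lc_b_rc_8_2 lc_b_rc_10_2 lc_b_rc_6_1 lc_b_rc_8_2) (@D3.rec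 (fun _ => (Cert rels S Gen.b)) lc_b_rc_6_1 lc_b_rc_10_2 lc_b_rc_8_2 lc_b_Cert_tree lc_b_Cert_tree lc_b_Cert_tree lc_b_rc_10_2 lc_b_rc_6_1 lc_b_rc_8_2 lc_b_rc_9_2 lc_b_rc_8_0 lc_b_Cert_tree lc_b_rc_1_1 lc_b_rc_8_2 lc_b_Cert_tree lc_b_Cert_tree lc_b_rc_7_0 lc_b_rc_10_0 lc_b_Cert_tree lc_b_Cert_tree lc_b_rc_6_1 lc_b_rc_8_2 lc_b_rc_10_2 lc_b_rc_6_1 lc_b_rc_9_2 lc_b_rc_6_1 lc_b_Cert_tree lc_b_rc_1_3 lc_b_rc_8_2 lc_b_rc_9_2 lc_b_rc_9_2 lc_b_rc_26_7 lc_b_rc_8_2 lc_b_rc_10_2 lc_b_rc_8_2 lc_b_rc_6_1 lc_b_rc_9_2 lc_b_rc_9_2 lc_b_rc_8_2 lc_b_rc_9_2 lc_b_rc_26_1 lc_b_rc_10_2 lc_b_rc_9_2 lc_b_Cert_tree lc_b_rc_6_1 lc_b_rc_8_2 lc_b_rc_10_2 lc_b_Cert_tree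 lc_b_Cert_tree lc_b_rc_8_2 lc_b_rc_10_2 lc_b_rc_6_1 lc_b_rc_8_2 lc_b_rc_8_2 lc_b_rc_10_0 lc_b_Cert_tree lc_b_Cert_tree lc_b_Cert_tree lc_b_rc_10_2 lc_b_rc_8_2 lc_b_rc_26_5 lc_b_rc_8_2) (@D3.rec (fun _ => (Cert rels S Gen.b)) lc_b_Cert_tree lc_b_rc_6_1 lc_b_rc_10_2 lc_b_rc_9_2 lc_b_Cert_tree lc_b_rc_7_4 lc_b_rc_10_0 lc_b_Cert_tree lc_b_Cert_tree lc_b_Cert_tree lc_b_rc_6_1 lc_b_rc_8_2 lc_b_rc_7_4 lc_b_rc_6_1 lc_b_rc_26_1 lc_b_rc_8_2 lc_b_rc_9_2 lc_b_rc_6_1 lc_b_rc_26_7 lc_b_rc_8_2 lc_b_rc_1_3 lc_b_rc_9_2 lc_b_rc_9_2 lc_b_rc_7_4 lc_b_rc_9_2 lc_b_Cert_tree lc_b_Cert_tree lc_b_rc_8_2 lc_b_rc_10_2 lc_b_Cert_tree lc_b_Cert_tree lc_b_rc_8_2 lc_b_rc_10_2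 lc_b_Cert_tree lc_b_rc_10_2 lc_b_Cert_tree lc_b_rc_10_2 lc_b_rc_6_1 lc_b_rc_9_2 lc_b_Cert_tree lc_b_Cert_tree lc_b_rc_8_2 lc_b_rc_10_2 lc_b_rc_6_1 lc_b_Cert_tree lc_b_rc_8_2 lc_b_rc_10_2 lc_b_Cert_tree lc_b_Cert_tree lc_b_Cert_tree lc_b_rc_10_2 lc_b_rc_6_1 lc_b_rc_1_3 lc_b_rc_8_2 lc_b_rc_9_2 lc_b_rc_1_1 lc_b_rc_1_5 lc_b_rc_1_1 lc_b_rc_9_2 lc_b_rc_26_5 lc_b_rc_8_2 lc_b_rc_6_1) (@D3.rec (fun _ => (Cert rels S Gen.b)) lc_b_rc_6_1 lc_b_rc_9_2 lc_b_rc_9_2 lc_b_rc_26_7 lc_b_rc_8_2 lc_b_rc_10_2 lc_b_rc_9_2 lc_b_Cert_tree lc_b_Cert_tree lc_b_rc_8_2 lc_b_rc_10_2 lc_b_rc_6_1 lc_b_rc_8_2 lc_b_rc_9_2 lc_b_rc_26_7 lc_b_rc_9_2 lc_b_rc_6_1 lc_b_rc_9_2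 lc_b_rc_9_0 lc_b_Cert_tree lc_b_rc_8_2 lc_b_rc_10_2 lc_b_rc_6_1 lc_b_rc_26_1 lc_b_rc_8_2 lc_b_rc_6_1 lc_b_rc_6_1 lc_b_rc_26_5 lc_b_rc_8_2 lc_b_rc_9_2 lc_b_Cert_tree lc_b_Cert_tree lc_b_Cert_tree lc_b_rc_10_2 lc_b_rc_6_1 lc_b_rc_9_2 lc_b_Cert_tree lc_b_rc_26_5 lc_b_rc_8_2 lc_b_rc_9_2 lc_b_rc_26_5 lc_b_Cert_tree lc_b_rc_8_2 lc_b_rc_26_1 lc_b_Cert_tree lc_b_rc_26_5 lc_b_rc_9_2 lc_b_rc_9_0 lc_b_Cert_tree lc_b_rc_8_2 lc_b_rc_10_2 lc_b_rc_26_7 lc_b_rc_8_2 lc_b_rc_26_5 lc_b_rc_8_2 lc_b_rc_9_2 lc_b_Cert_tree lc_b_rc_8_2 lc_b_Cert_tree lc_b_rc_10_2 lc_b_rc_10_2 lc_b_Cert_tree) (@D3.rec (fun _ => (Cert rels S Gen.b)) lc_b_rc_6_1 lc_b_rc_8_2 lc_b_rc_7_2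 lc_b_rc_1_3 lc_b_rc_6_1 lc_b_rc_8_2 lc_b_rc_9_2 lc_b_rc_26_1 lc_b_Cert_tree lc_b_rc_6_1 lc_b_rc_8_0 lc_b_rc_9_2 lc_b_rc_7_4 lc_b_rc_6_1 lc_b_rc_1_3 lc_b_rc_8_2 lc_b_rc_9_2 lc_b_rc_8_2 lc_b_Cert_tree lc_b_rc_9_2 lc_b_rc_10_0 lc_b_rc_8_2 lc_b_rc_7_4 lc_b_rc_6_1 lc_b_rc_10_0 lc_b_rc_9_2 lc_b_rc_6_1 lc_b_Cert_tree lc_b_rc_1_5 lc_b_Cert_tree lc_b_Cert_tree lc_b_rc_6_1 lc_b_rc_8_2 lc_b_rc_7_2 lc_b_rc_9_2 lc_b_rc_10_2 lc_b_rc_6_1 lc_b_rc_8_2 lc_b_rc_6_1 lc_b_rc_8_2 lc_b_Cert_tree lc_b_rc_10_2 lc_b_Cert_tree lc_b_rc_6_1 lc_b_rc_1_5 lc_b_rc_6_1 lc_b_rc_8_2 lc_b_rc_26_5 lc_b_rc_1_3 lc_b_rc_8_2 lc_b_Cert_tree lc_b_Cert_tree lc_b_rc_9_2 lc_b_Cert_tree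 lc_b_Cert_tree lc_b_rc_9_2 lc_b_rc_26_7 lc_b_rc_9_2 lc_b_Cert_tree lc_b_rc_9_2 lc_b_rc_6_1 lc_b_rc_6_1) (@D3.rec (fun _ => (Cert rels S Gen.b)) lc_b_rc_9_2 lc_b_rc_1_3 lc_b_Cert_tree lc_b_rc_1_3 lc_b_rc_8_2 lc_b_rc_9_2 lc_b_Cert_tree lc_b_rc_9_2 lc_b_Cert_tree lc_b_rc_8_2 lc_b_rc_10_2 lc_b_rc_6_1 lc_b_rc_8_2 lc_b_Cert_tree lc_b_rc_6_1 lc_b_rc_8_2 lc_b_rc_6_1 lc_b_rc_25_12 lc_b_rc_6_1 lc_b_rc_8_2 lc_b_rc_7_4 lc_b_rc_25_12 lc_b_rc_8_2 lc_b_rc_6_1 lc_b_Cert_tree lc_b_Cert_tree lc_b_Cert_tree lc_b_rc_6_1 lc_b_rc_8_2 lc_b_rc_6_1 lc_b_Cert_tree lc_b_Cert_tree lc_b_Cert_tree lc_b_rc_6_1 lc_b_rc_8_2 lc_b_rc_25_8 lc_b_rc_8_2 lc_b_rc_6_1 lc_b_rc_8_2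 lc_b_rc_9_2 lc_b_rc_6_1 lc_b_rc_8_2 lc_b_rc_26_5 lc_b_Cert_tree lc_b_Cert_tree lc_b_rc_1_3 lc_b_rc_8_2 lc_b_Cert_tree lc_b_Cert_tree lc_b_Cert_tree lc_b_rc_9_2 lc_b_Cert_tree lc_b_rc_1_3 lc_b_rc_9_2 lc_b_rc_9_2 lc_b_rc_10_2 lc_b_rc_8_2 lc_b_rc_10_2 lc_b_Cert_tree lc_b_rc_8_2 lc_b_Cert_tree lc_b_rc_10_2) (@D3.rec (fun _ => (Cert rels S Gen.b)) lc_b_rc_26_7 lc_b_Cert_tree lc_b_rc_6_1 lc_b_Cert_tree lc_b_rc_1_3 lc_b_rc_9_2 lc_b_rc_8_2 lc_b_rc_10_2 lc_b_Cert_tree lc_b_rc_26_7 lc_b_rc_1_3 lc_b_rc_6_1 lc_b_rc_6_1 lc_b_rc_9_2 lc_b_Cert_tree lc_b_Cert_tree lc_b_rc_9_2 lc_b_rc_10_2 lc_b_rc_6_1 lc_b_rc_26_1 lc_b_rc_8_2 lc_b_rc_9_2 lc_b_rc_6_1 lc_b_rc_9_2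 lc_b_Cert_tree lc_b_Cert_tree lc_b_rc_9_2 lc_b_rc_8_2 lc_b_rc_6_1 lc_b_rc_9_2 lc_b_rc_26_1 lc_b_rc_8_0 lc_b_rc_26_1 lc_b_rc_26_5 lc_b_rc_8_0 lc_b_rc_8_2 lc_b_rc_6_1 lc_b_rc_8_2 lc_b_Cert_tree lc_b_rc_9_2 lc_b_rc_9_2 lc_b_rc_8_2 lc_b_Cert_tree lc_b_rc_1_5 lc_b_Cert_tree lc_b_rc_6_1 lc_b_rc_8_2 lc_b_rc_10_2 lc_b_rc_8_2 lc_b_rc_9_2 lc_b_Cert_tree lc_b_rc_9_2 lc_b_Cert_tree lc_b_rc_6_1 lc_b_rc_6_1 lc_b_rc_6_1 lc_b_Cert_tree lc_b_rc_7_4 lc_b_rc_6_1 lc_b_rc_8_2 lc_b_rc_6_1 lc_b_rc_8_2) (@D3.rec (fun _ => (Cert rels S Gen.b)) lc_b_Cert_tree lc_b_Cert_tree lc_b_rc_1_3 lc_b_rc_8_2 lc_b_rc_10_2 lc_b_Cert_tree lc_b_Cert_tree lc_b_rc_9_2 lc_b_rc_10_2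 lc_b_rc_9_2 lc_b_rc_6_1 lc_b_Cert_tree lc_b_rc_8_2 lc_b_rc_9_2 lc_b_rc_9_2 lc_b_rc_10_2 lc_b_rc_8_2 lc_b_rc_9_0 lc_b_Cert_tree lc_b_rc_6_1 lc_b_Cert_tree lc_b_rc_9_2 lc_b_rc_8_2 lc_b_rc_9_0 lc_b_rc_9_2 lc_b_Cert_tree lc_b_rc_10_2 lc_b_rc_8_2 lc_b_rc_26_1 lc_b_rc_6_1 lc_b_rc_8_2 lc_b_rc_26_5 lc_b_rc_8_2 lc_b_Cert_tree lc_b_Cert_tree lc_b_Cert_tree lc_b_rc_10_2 lc_b_rc_6_1 lc_b_rc_8_2 lc_b_Cert_tree lc_b_rc_6_1 lc_b_Cert_tree lc_b_rc_6_1 lc_b_rc_9_2 lc_b_Cert_tree lc_b_rc_26_5 lc_b_Cert_tree lc_b_rc_7_0 lc_b_rc_6_1 lc_b_rc_8_2 lc_b_rc_10_2 lc_b_rc_9_2 lc_b_rc_6_1 lc_b_Cert_tree lc_b_Cert_tree lc_b_rc_6_1 lc_b_Cert_tree lc_b_rc_6_1 lc_b_rc_6_1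 lc_b_rc_6_1 lc_b_rc_8_2 lc_b_rc_10_0) (@D3.rec (fun _ => (Cert rels S Gen.b)) lc_b_rc_6_1 lc_b_rc_8_2 lc_b_rc_9_2 lc_b_rc_26_5 lc_b_Cert_tree lc_b_rc_1_3 lc_b_rc_8_2 lc_b_rc_10_2 lc_b_Cert_tree lc_b_rc_26_7 lc_b_rc_9_2 lc_b_rc_10_2 lc_b_rc_9_2 lc_b_rc_7_4 lc_b_rc_9_2 lc_b_rc_9_2 lc_b_rc_6_1 lc_b_rc_6_1 lc_b_rc_10_2 lc_b_rc_6_1 lc_b_rc_9_2 lc_b_rc_7_4 lc_b_rc_9_2 lc_b_rc_26_5 lc_b_rc_8_2 lc_b_rc_9_2 lc_b_Cert_tree lc_b_rc_26_7 lc_b_rc_8_2 lc_b_rc_26_1 lc_b_rc_8_2 lc_b_rc_8_2 lc_b_rc_8_2 lc_b_rc_9_2 lc_b_rc_10_2 lc_b_rc_9_2 lc_b_rc_26_7 lc_b_Cert_tree lc_b_rc_8_2 lc_b_Cert_tree lc_b_rc_8_2 lc_b_rc_9_2 lc_b_rc_8_2 lc_b_Cert_tree lc_b_rc_10_2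 lc_b_rc_1_5 lc_b_rc_1_5 lc_b_rc_6_1 lc_b_rc_10_2 lc_b_rc_8_2 lc_b_rc_9_2 lc_b_rc_26_5 lc_b_rc_6_1 lc_b_rc_8_2 lc_b_Cert_tree lc_b_rc_8_2 lc_b_rc_1_5 lc_b_Cert_tree lc_b_Cert_tree lc_b_rc_9_2 lc_b_rc_6_1 lc_b_rc_10_2) (@D3.rec (fun _ => (Cert rels S Gen.b)) lc_b_rc_9_2 lc_b_rc_6_1 lc_b_rc_8_2 lc_b_rc_9_2 lc_b_rc_7_4 lc_b_rc_1_5 lc_b_rc_8_2 lc_b_rc_10_2 lc_b_Cert_tree lc_b_rc_7_4 lc_b_rc_6_1 lc_b_rc_8_2 lc_b_rc_26_5 lc_b_Cert_tree lc_b_rc_1_3 lc_b_rc_1_3 lc_b_rc_6_1 lc_b_rc_7_2 lc_b_rc_9_2 lc_b_rc_26_5 lc_b_rc_9_2 lc_b_rc_6_1 lc_b_Cert_tree lc_b_rc_8_2 lc_b_rc_10_2 lc_b_rc_6_1 lc_b_Cert_tree lc_b_rc_9_2 lc_b_Cert_tree lc_b_rc_26_5 lc_b_Cert_tree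 lc_b_rc_8_2 lc_b_rc_6_1 lc_b_rc_9_2 lc_b_Cert_tree lc_b_rc_8_2 lc_b_rc_8_2 lc_b_rc_10_2 lc_b_Cert_tree lc_b_rc_26_5 lc_b_rc_1_5 lc_b_rc_1_3 lc_b_rc_26_5 lc_b_rc_1_3 lc_b_rc_8_2 lc_b_rc_7_2 lc_b_Cert_tree lc_b_rc_26_7 lc_b_rc_8_0 lc_b_rc_9_2 lc_b_Cert_tree lc_b_rc_1_5 lc_b_rc_6_1 lc_b_rc_8_0 lc_b_Cert_tree lc_b_rc_8_2 lc_b_Cert_tree lc_b_rc_6_1 lc_b_rc_9_2 lc_b_Cert_tree lc_b_rc_6_1 lc_b_rc_10_2) (@D3.rec (fun _ => (Cert rels S Gen.b)) lc_b_rc_8_2 lc_b_Cert_tree lc_b_rc_9_2 lc_b_rc_6_1 lc_b_rc_26_1 lc_b_Cert_tree lc_b_rc_10_2 lc_b_rc_6_1 lc_b_Cert_tree lc_b_Cert_tree lc_b_rc_1_3 lc_b_rc_8_2 lc_b_rc_10_2 lc_b_rc_9_2 lc_b_rc_9_2 lc_b_rc_6_1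 lc_b_rc_6_1 lc_b_rc_6_1 lc_b_Cert_tree lc_b_Cert_tree lc_b_rc_8_0 lc_b_rc_6_1 lc_b_rc_8_2 lc_b_rc_10_2 lc_b_Cert_tree lc_b_rc_6_1 lc_b_rc_6_1 lc_b_rc_1_3 lc_b_rc_6_1 lc_b_rc_8_2 lc_b_Cert_tree lc_b_rc_9_2 lc_b_rc_1_3 lc_b_rc_10_2 lc_b_rc_1_5 lc_b_rc_6_1 lc_b_Cert_tree lc_b_rc_9_2 lc_b_rc_6_1 lc_b_Cert_tree lc_b_rc_9_2 lc_b_Cert_tree lc_b_Cert_tree lc_b_rc_9_2 lc_b_rc_10_2 lc_b_rc_6_1 lc_b_Cert_tree lc_b_rc_6_1 lc_b_rc_8_2 lc_b_rc_6_1 lc_b_rc_8_2 lc_b_rc_6_1 lc_b_Cert_tree lc_b_rc_1_3 lc_b_rc_9_2 lc_b_rc_9_2 lc_b_rc_6_1 lc_b_rc_8_2 lc_b_rc_6_1 lc_b_rc_26_1 lc_b_rc_9_2 lc_b_rc_6_1) (@D3.rec (fun _ => (Cert rels S Gen.b)) lc_b_rc_26_5 lc_b_rc_8_2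 lc_b_rc_10_0 lc_b_rc_1_1 lc_b_rc_8_2 lc_b_rc_9_2 lc_b_Cert_tree lc_b_Cert_tree lc_b_rc_26_5 lc_b_rc_9_2 lc_b_Cert_tree lc_b_Cert_tree lc_b_rc_8_2 lc_b_Cert_tree lc_b_rc_6_1 lc_b_rc_8_2 lc_b_Cert_tree lc_b_rc_6_1 lc_b_rc_6_1 lc_b_rc_1_3 lc_b_Cert_tree lc_b_Cert_tree lc_b_Cert_tree lc_b_rc_9_2 lc_b_Cert_tree lc_b_Cert_tree lc_b_rc_8_2 lc_b_rc_10_2 lc_b_rc_6_1 lc_b_rc_8_0 lc_b_rc_8_2 lc_b_rc_10_2 lc_b_Cert_tree lc_b_Cert_tree lc_b_rc_1_3 lc_b_rc_8_2 lc_b_rc_9_2 lc_b_rc_6_1 lc_b_rc_8_2 lc_b_rc_9_2 lc_b_rc_6_1 lc_b_rc_1_3 lc_b_rc_9_2 lc_b_Cert_tree lc_b_rc_9_2 lc_b_rc_6_1 lc_b_rc_7_2 lc_b_rc_9_2 lc_b_rc_9_2 lc_b_Cert_tree lc_b_rc_26_7 lc_b_Cert_tree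 lc_b_rc_6_1 lc_b_rc_8_2 lc_b_rc_6_1 lc_b_rc_8_2 lc_b_rc_9_2 lc_b_rc_6_1 lc_b_rc_8_2 lc_b_Cert_tree lc_b_rc_6_1 lc_b_rc_1_3) (@D3.rec (fun _ => (Cert rels S Gen.b)) lc_b_rc_8_2 lc_b_rc_9_2 lc_b_rc_25_8 lc_b_rc_9_2 lc_b_rc_6_1 lc_b_Cert_tree lc_b_Cert_tree lc_b_Cert_tree lc_b_rc_6_1 lc_b_rc_8_2 lc_b_Cert_tree lc_b_Cert_tree lc_b_rc_1_3 lc_b_Cert_tree lc_b_rc_10_0 lc_b_Cert_tree lc_b_rc_25_4 lc_b_rc_6_1 lc_b_rc_8_2 lc_b_rc_9_2 lc_b_rc_9_0 lc_b_rc_8_0 lc_b_Cert_tree lc_b_Cert_tree lc_b_rc_8_2 lc_b_rc_9_2 lc_b_Cert_tree lc_b_Cert_tree lc_b_Cert_tree lc_b_rc_6_1 lc_b_rc_8_2 lc_b_rc_9_2 lc_b_rc_7_2 lc_b_rc_8_0 lc_b_rc_10_2 lc_b_rc_6_1 lc_b_Cert_tree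 lc_b_rc_8_2 lc_b_rc_9_2 lc_b_rc_8_2 lc_b_rc_10_2 lc_b_Cert_tree lc_b_rc_26_1 lc_b_rc_26_1 lc_b_rc_6_1 lc_b_Cert_tree lc_b_rc_9_2 lc_b_rc_1_3 lc_b_rc_7_4 lc_b_rc_9_2 lc_b_rc_8_2 lc_b_rc_10_2 lc_b_rc_6_1 lc_b_Cert_tree lc_b_rc_8_2 lc_b_rc_9_2 lc_b_rc_6_1 lc_b_Cert_tree lc_b_rc_8_2 lc_b_rc_9_2 lc_b_rc_10_2 lc_b_rc_6_1) (@D3.rec (fun _ => (Cert rels S Gen.b)) lc_b_rc_7_4 lc_b_rc_6_1 lc_b_rc_6_1 lc_b_rc_1_3 lc_b_rc_9_2 lc_b_rc_8_2 lc_b_rc_6_1 lc_b_rc_6_1 lc_b_Cert_tree lc_b_Cert_tree lc_b_rc_6_1 lc_b_rc_8_2 lc_b_rc_7_4 lc_b_Cert_tree lc_b_rc_7_4 lc_b_Cert_tree lc_b_rc_6_1 lc_b_Cert_tree lc_b_rc_10_2 lc_b_rc_6_1 lc_b_rc_9_2 lc_b_rc_9_2 lc_b_rc_7_2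 lc_b_rc_8_2 lc_b_rc_8_2 lc_b_rc_6_1 lc_b_rc_8_2 lc_b_rc_26_1 lc_b_rc_9_2 lc_b_rc_9_2 lc_b_rc_1_5 lc_b_rc_9_2 lc_b_rc_6_1 lc_b_rc_9_2 lc_b_rc_9_2 lc_b_rc_8_2 lc_b_rc_6_1 lc_b_rc_26_5 lc_b_Cert_tree lc_b_rc_1_3 lc_b_rc_9_2 lc_b_rc_6_1 lc_b_rc_9_0 lc_b_rc_26_1 lc_b_rc_8_2 lc_b_rc_10_2 lc_b_rc_6_1 lc_b_rc_9_2 lc_b_rc_6_1 lc_b_rc_9_2 lc_b_rc_7_2 lc_b_Cert_tree lc_b_rc_8_2 lc_b_rc_8_2 lc_b_Cert_tree lc_b_rc_8_2 lc_b_rc_9_2 lc_b_Cert_tree lc_b_rc_10_2 lc_b_rc_9_2 lc_b_rc_6_1 lc_b_rc_9_2) (@D3.rec (fun _ => (Cert rels S Gen.b)) lc_b_rc_8_2 lc_b_rc_10_2 lc_b_Cert_tree lc_b_rc_10_2 lc_b_rc_8_2 lc_b_rc_9_2 lc_b_rc_26_1 lc_b_rc_9_2 lc_b_rc_8_2 lc_b_rc_1_5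 lc_b_rc_8_2 lc_b_rc_1_5 lc_b_Cert_tree lc_b_rc_26_5 lc_b_rc_8_2 lc_b_Cert_tree lc_b_rc_1_1 lc_b_rc_6_1 lc_b_Cert_tree lc_b_rc_26_7 lc_b_rc_9_2 lc_b_rc_9_2 lc_b_rc_8_2 lc_b_rc_6_1 lc_b_rc_9_2 lc_b_rc_9_2 lc_b_rc_1_3 lc_b_rc_9_2 lc_b_rc_10_2 lc_b_rc_8_2 lc_b_rc_9_2 lc_b_rc_1_1 lc_b_rc_10_0 lc_b_rc_8_2 lc_b_rc_6_1 lc_b_rc_26_5 lc_b_rc_9_2 lc_b_rc_6_1 lc_b_rc_9_2 lc_b_rc_8_2 lc_b_rc_10_2 lc_b_rc_6_1 lc_b_rc_26_1 lc_b_rc_9_2 lc_b_rc_8_2 lc_b_rc_7_0 lc_b_rc_1_3 lc_b_rc_1_1 lc_b_Cert_tree lc_b_rc_9_2 lc_b_rc_6_1 lc_b_rc_9_2 lc_b_rc_8_0 lc_b_rc_10_0 lc_b_rc_10_0 lc_b_Cert_tree lc_b_rc_9_0 lc_b_Cert_tree lc_b_Cert_tree lc_b_rc_26_5 lc_b_rc_8_2 lc_b_rc_9_2)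 (@D3.rec (fun _ => (Cert rels S Gen.b)) lc_b_rc_9_2 lc_b_rc_6_1 lc_b_rc_26_1 lc_b_rc_9_2 lc_b_rc_8_2 lc_b_rc_8_2 lc_b_rc_6_1 lc_b_rc_9_0 lc_b_rc_8_2 lc_b_rc_6_1 lc_b_rc_6_1 lc_b_Cert_tree lc_b_rc_8_2 lc_b_rc_9_2 lc_b_rc_1_5 lc_b_Cert_tree lc_b_rc_9_2 lc_b_rc_6_1 lc_b_rc_8_2 lc_b_rc_7_4 lc_b_Cert_tree lc_b_rc_7_4 lc_b_rc_7_4 lc_b_Cert_tree lc_b_Cert_tree lc_b_rc_6_1 lc_b_rc_8_2 lc_b_Cert_tree lc_b_rc_8_2 lc_b_rc_7_4 lc_b_rc_6_1 lc_b_rc_8_2 lc_b_rc_8_2 lc_b_rc_9_2 lc_b_rc_9_2 lc_b_Cert_tree lc_b_rc_8_2 lc_b_rc_10_2 lc_b_rc_26_1 lc_b_rc_7_4 lc_b_rc_9_2 lc_b_rc_1_3 lc_b_rc_9_2 lc_b_rc_9_2 lc_b_rc_1_1 lc_b_rc_8_2 lc_b_rc_8_2 lc_b_rc_9_2 lc_b_rc_9_2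 lc_b_rc_26_7 lc_b_rc_8_2 lc_b_rc_6_1 lc_b_rc_7_2 lc_b_rc_9_2 lc_b_rc_8_2 lc_b_rc_6_1 lc_b_rc_9_2 lc_b_rc_8_2 lc_b_rc_6_1 lc_b_rc_8_2 lc_b_rc_9_2 lc_b_rc_6_1) (@D3.rec (fun _ => (Cert rels S Gen.b)) lc_b_rc_8_2 lc_b_rc_9_2 lc_b_Cert_tree lc_b_Cert_tree lc_b_Cert_tree lc_b_rc_10_2 lc_b_rc_8_2 lc_b_rc_9_2 lc_b_Cert_tree lc_b_rc_6_1 lc_b_rc_8_2 lc_b_rc_9_2 lc_b_rc_10_0 lc_b_Cert_tree lc_b_rc_8_2 lc_b_rc_9_2 lc_b_rc_6_1 lc_b_rc_8_2 lc_b_rc_9_2 lc_b_Cert_tree lc_b_rc_8_2 lc_b_rc_9_2 lc_b_rc_6_1 lc_b_rc_7_2 lc_b_rc_8_2 lc_b_rc_9_2 lc_b_rc_10_2 lc_b_rc_6_1 lc_b_rc_8_2 lc_b_rc_6_1 lc_b_rc_8_2 lc_b_Cert_tree lc_b_rc_26_1 lc_b_rc_6_1 lc_b_rc_8_2 lc_b_rc_6_1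 lc_b_rc_8_2 lc_b_rc_6_1 lc_b_rc_8_2 lc_b_rc_9_2 lc_b_rc_8_2 lc_b_rc_6_1 lc_b_Cert_tree lc_b_rc_9_2 lc_b_rc_26_5 lc_b_rc_10_2 lc_b_rc_26_5 lc_b_rc_6_1 lc_b_rc_8_2 lc_b_rc_6_1 lc_b_rc_8_2 lc_b_rc_6_1 lc_b_rc_10_2 lc_b_rc_6_1 lc_b_rc_8_2 lc_b_rc_6_1 lc_b_rc_8_2 lc_b_Cert_tree lc_b_rc_9_2 lc_b_rc_6_1 lc_b_rc_8_2 lc_b_rc_26_1) (@D3.rec (fun _ => (Cert rels S Gen.b)) lc_b_rc_10_2 lc_b_rc_9_2 lc_b_rc_9_2 lc_b_rc_6_1 lc_b_rc_7_4 lc_b_rc_6_1 lc_b_rc_26_1 lc_b_rc_8_2 lc_b_rc_9_2 lc_b_rc_9_2 lc_b_rc_8_2 lc_b_rc_8_2 lc_b_rc_26_7 lc_b_rc_9_2 lc_b_rc_6_1 lc_b_rc_9_2 lc_b_rc_9_2 lc_b_rc_9_2 lc_b_rc_6_1 lc_b_Cert_tree lc_b_rc_8_2 lc_b_rc_10_2 lc_b_rc_6_1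 lc_b_rc_9_2 lc_b_Cert_tree lc_b_rc_7_0 lc_b_rc_8_2 lc_b_rc_10_2 lc_b_rc_6_1 lc_b_rc_8_2 lc_b_rc_9_2 lc_b_rc_8_2 lc_b_rc_9_2 lc_b_Cert_tree lc_b_rc_6_1 lc_b_Cert_tree lc_b_rc_10_2 lc_b_rc_6_1 lc_b_rc_8_2 lc_b_rc_9_2 lc_b_Cert_tree lc_b_rc_9_2 lc_b_rc_1_3 lc_b_rc_10_2 lc_b_rc_6_1 lc_b_rc_6_1 lc_b_rc_26_5 lc_b_rc_8_2 lc_b_rc_9_2 lc_b_rc_10_2 lc_b_rc_9_2 lc_b_rc_8_2 lc_b_rc_10_2 lc_b_rc_26_1 lc_b_Cert_tree lc_b_rc_25_4 lc_b_rc_26_7 lc_b_rc_8_2 lc_b_rc_9_2 lc_b_rc_1_1 lc_b_rc_9_2 lc_b_rc_8_2) (@D3.rec (fun _ => (Cert rels S Gen.b)) lc_b_rc_7_4 lc_b_rc_9_2 lc_b_rc_1_5 lc_b_rc_8_2 lc_b_Cert_tree lc_b_rc_8_2 lc_b_rc_10_2 lc_b_rc_6_1 lc_b_rc_8_2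 lc_b_rc_9_2 lc_b_rc_6_1 lc_b_rc_8_2 lc_b_rc_9_2 lc_b_Cert_tree lc_b_Cert_tree lc_b_Cert_tree lc_b_rc_6_1 lc_b_rc_8_2 lc_b_rc_9_2 lc_b_rc_7_2 lc_b_Cert_tree lc_b_Cert_tree lc_b_rc_8_2 lc_b_rc_10_2 lc_b_rc_6_1 lc_b_rc_8_2 lc_b_Cert_tree lc_b_Cert_tree lc_b_Cert_tree lc_b_rc_10_2 lc_b_rc_8_2 lc_b_rc_8_2 lc_b_rc_6_1 lc_b_rc_8_2 lc_b_Cert_tree lc_b_rc_8_2 lc_b_rc_8_2 lc_b_rc_6_1 lc_b_rc_8_2 lc_b_rc_9_2 lc_b_rc_6_1 lc_b_rc_26_1 lc_b_rc_9_2 lc_b_rc_8_2 lc_b_rc_8_2 lc_b_rc_9_2 lc_b_rc_6_1 lc_b_rc_9_2 lc_b_rc_9_2 lc_b_rc_26_5 lc_b_Cert_tree lc_b_rc_8_2 lc_b_rc_10_2 lc_b_Cert_tree lc_b_rc_26_1 lc_b_rc_8_2 lc_b_rc_10_2 lc_b_rc_6_1 lc_b_rc_8_2 lc_b_rc_9_2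 lc_b_rc_8_2 lc_b_rc_9_2) (@D3.rec (fun _ => (Cert rels S Gen.b)) lc_b_Cert_tree lc_b_rc_8_2 lc_b_Cert_tree lc_b_rc_10_2 lc_b_rc_6_1 lc_b_rc_8_2 lc_b_Cert_tree lc_b_Cert_tree lc_b_rc_8_2 lc_b_rc_6_1 lc_b_rc_7_2 lc_b_rc_7_2 lc_b_rc_1_1 lc_b_rc_8_2 lc_b_rc_9_2 lc_b_rc_9_2 lc_b_rc_8_2 lc_b_rc_6_1 lc_b_rc_9_0 lc_b_Cert_tree lc_b_Cert_tree lc_b_rc_10_2 lc_b_rc_9_2 lc_b_rc_9_2 lc_b_rc_6_1 lc_b_rc_9_2 lc_b_rc_1_5 lc_b_rc_8_2 lc_b_rc_10_2 lc_b_rc_26_1 lc_b_Cert_tree lc_b_rc_8_2 lc_b_rc_1_1 lc_b_rc_6_1 lc_b_rc_8_2 lc_b_rc_6_1 lc_b_rc_8_2 lc_b_rc_9_2 lc_b_rc_1_1 lc_b_Cert_tree lc_b_Cert_tree lc_b_rc_10_2 lc_b_rc_6_1 lc_b_rc_8_2 lc_b_rc_9_2 lc_b_Cert_tree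 lc_b_rc_9_2 lc_b_Cert_tree lc_b_rc_6_1 lc_b_rc_6_1 lc_b_rc_8_2 lc_b_rc_10_2 lc_b_rc_7_4 lc_b_rc_9_2 lc_b_rc_6_1 lc_b_rc_26_7 lc_b_rc_9_2 lc_b_rc_9_2 lc_b_rc_9_2 lc_b_rc_8_2 lc_b_rc_8_2 lc_b_rc_26_5) (@D3.rec (fun _ => (Cert rels S Gen.b)) lc_b_rc_9_2 lc_b_rc_6_1 lc_b_Cert_tree lc_b_rc_8_2 lc_b_rc_10_2 lc_b_rc_6_1 lc_b_Cert_tree lc_b_rc_6_1 lc_b_rc_8_2 lc_b_rc_10_2 lc_b_Cert_tree lc_b_Cert_tree lc_b_rc_10_2 lc_b_rc_6_1 lc_b_rc_9_2 lc_b_rc_9_2 lc_b_rc_9_2 lc_b_Cert_tree lc_b_rc_26_5 lc_b_rc_8_2 lc_b_rc_10_2 lc_b_rc_6_1 lc_b_Cert_tree lc_b_rc_8_2 lc_b_rc_10_2 lc_b_rc_1_1 lc_b_Cert_tree lc_b_Cert_tree lc_b_rc_6_1 lc_b_rc_7_2 lc_b_rc_9_2 lc_b_rc_7_4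 lc_b_rc_26_5 lc_b_rc_8_2 lc_b_rc_6_1 lc_b_rc_8_2 lc_b_rc_26_5 lc_b_Cert_tree lc_b_rc_10_2 lc_b_rc_9_2 lc_b_rc_26_7 lc_b_rc_26_7 lc_b_rc_8_2 lc_b_Cert_tree lc_b_Cert_tree lc_b_Cert_tree lc_b_rc_7_2 lc_b_rc_1_3 lc_b_rc_6_1 lc_b_rc_8_2 lc_b_rc_9_2 lc_b_Cert_tree lc_b_rc_10_2 lc_b_Cert_tree lc_b_rc_9_2 lc_b_rc_8_2 lc_b_rc_10_2 lc_b_rc_6_1 lc_b_rc_1_3 lc_b_rc_8_2 lc_b_rc_9_2 lc_b_Cert_tree) (@D3.rec (fun _ => (Cert rels S Gen.b)) lc_b_rc_9_2 lc_b_rc_8_2 lc_b_rc_6_1 lc_b_Cert_tree lc_b_rc_8_2 lc_b_rc_9_2 lc_b_rc_6_1 lc_b_Cert_tree lc_b_rc_8_2 lc_b_rc_9_2 lc_b_Cert_tree lc_b_Cert_tree lc_b_rc_6_1 lc_b_rc_8_2 lc_b_rc_10_2 lc_b_rc_9_2 lc_b_rc_26_1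 lc_b_Cert_tree lc_b_rc_9_2 lc_b_rc_26_5 lc_b_rc_6_1 lc_b_rc_8_2 lc_b_rc_26_7 lc_b_rc_1_3 lc_b_rc_8_2 lc_b_rc_9_2 lc_b_Cert_tree lc_b_Cert_tree lc_b_rc_7_2 lc_b_Cert_tree lc_b_rc_8_2 lc_b_Cert_tree lc_b_Cert_tree lc_b_Cert_tree lc_b_rc_6_1 lc_b_rc_8_2 lc_b_rc_9_2 lc_b_rc_9_0 lc_b_rc_7_2 lc_b_rc_6_1 lc_b_rc_8_2 lc_b_rc_9_2 lc_b_rc_6_1 lc_b_Cert_tree lc_b_Cert_tree lc_b_rc_8_0 lc_b_rc_26_1 lc_b_rc_1_3 lc_b_rc_8_2 lc_b_rc_9_2 lc_b_Cert_tree lc_b_rc_9_2 lc_b_rc_26_5 lc_b_rc_8_2 lc_b_rc_6_1 lc_b_rc_8_2 lc_b_Cert_tree lc_b_Cert_tree lc_b_rc_9_2 lc_b_rc_6_1 lc_b_rc_8_2 lc_b_rc_6_1) (@D3.rec (fun _ => (Cert rels S Gen.b)) lc_b_rc_8_2 lc_b_rc_6_1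 lc_b_rc_8_2 lc_b_Cert_tree lc_b_rc_1_3 lc_b_rc_8_2 lc_b_Cert_tree lc_b_rc_9_2 lc_b_rc_6_1 lc_b_rc_10_2 lc_b_rc_6_1 lc_b_rc_8_2 lc_b_rc_9_2 lc_b_Cert_tree lc_b_rc_6_1 lc_b_rc_8_2 lc_b_Cert_tree lc_b_Cert_tree lc_b_rc_8_0 lc_b_rc_9_2 lc_b_Cert_tree lc_b_rc_1_1 lc_b_Cert_tree lc_b_Cert_tree lc_b_rc_8_2 lc_b_Cert_tree lc_b_rc_6_1 lc_b_rc_8_2 lc_b_rc_6_1 lc_b_rc_8_2 lc_b_rc_9_2 lc_b_rc_6_1 lc_b_rc_8_2 lc_b_Cert_tree lc_b_Cert_tree lc_b_Cert_tree lc_b_rc_9_2 lc_b_Cert_tree lc_b_Cert_tree lc_b_rc_8_2 lc_b_Cert_tree lc_b_rc_7_4 lc_b_rc_7_4 lc_b_rc_9_2 lc_b_Cert_tree lc_b_Cert_tree lc_b_rc_8_2 lc_b_rc_10_2 lc_b_Cert_tree lc_b_rc_7_2 lc_b_rc_6_1 lc_b_rc_7_4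 lc_b_rc_6_1 lc_b_rc_8_2 lc_b_Cert_tree lc_b_rc_10_2 lc_b_rc_9_2 lc_b_rc_6_1 lc_b_rc_6_1 lc_b_rc_6_1 lc_b_rc_10_2 lc_b_Cert_tree) (@D3.rec (fun _ => (Cert rels S Gen.b)) lc_b_rc_9_2 lc_b_rc_1_5 lc_b_rc_8_2 lc_b_rc_10_2 lc_b_rc_26_1 lc_b_rc_8_2 lc_b_rc_8_2 lc_b_rc_1_5 lc_b_rc_26_1 lc_b_rc_9_2 lc_b_rc_6_1 lc_b_rc_8_2 lc_b_rc_6_1 lc_b_rc_8_2 lc_b_rc_9_2 lc_b_Cert_tree lc_b_Cert_tree lc_b_rc_1_3 lc_b_rc_8_2 lc_b_rc_10_2 lc_b_Cert_tree lc_b_rc_9_2 lc_b_rc_10_2 lc_b_rc_6_1 lc_b_rc_8_2 lc_b_rc_8_2 lc_b_rc_26_7 lc_b_rc_26_7 lc_b_Cert_tree lc_b_rc_10_2 lc_b_rc_6_1 lc_b_rc_8_2 lc_b_rc_6_1 lc_b_rc_26_1 lc_b_Cert_tree lc_b_rc_7_0 lc_b_rc_1_3 lc_b_rc_8_2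 lc_b_Cert_tree lc_b_Cert_tree lc_b_Cert_tree lc_b_rc_9_2 lc_b_rc_6_1 lc_b_rc_26_5 lc_b_rc_9_2 lc_b_rc_6_1 lc_b_rc_26_5 lc_b_rc_9_2 lc_b_rc_9_2 lc_b_rc_10_2 lc_b_rc_9_2 lc_b_Cert_tree lc_b_Cert_tree lc_b_rc_8_2 lc_b_rc_10_2 lc_b_rc_6_1 lc_b_rc_6_1 lc_b_rc_9_2 lc_b_rc_10_2 lc_b_rc_6_1 lc_b_rc_8_2 lc_b_rc_9_2)
def ce_b_7 : D2 → D3 → (Cert rels S Gen.b) := @D2.rec (fun _ => D3 → (Cert rels S Gen.b)) (@D3.rec (fun _ => (Cert rels S Gen.b)) lc_b_rc_6_1 lc_b_rc_8_2 lc_b_Cert_tree lc_b_rc_7_4 lc_b_rc_10_2 lc_b_rc_8_2 lc_b_rc_9_2 lc_b_Cert_tree lc_b_rc_6_1 lc_b_rc_26_5 lc_b_rc_9_2 lc_b_Cert_tree lc_b_rc_8_2 lc_b_rc_8_2 lc_b_Cert_tree lc_b_rc_26_5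 lc_b_rc_6_1 lc_b_rc_6_1 lc_b_rc_1_3 lc_b_rc_9_2 lc_b_rc_8_2 lc_b_rc_10_2 lc_b_rc_9_2 lc_b_rc_8_2 lc_b_rc_26_5 lc_b_Cert_tree lc_b_rc_8_2 lc_b_rc_6_1 lc_b_rc_9_2 lc_b_rc_6_1 lc_b_rc_9_2 lc_b_Cert_tree lc_b_Cert_tree lc_b_rc_8_2 lc_b_rc_6_1 lc_b_rc_8_2 lc_b_rc_9_2 lc_b_Cert_tree lc_b_Cert_tree lc_b_rc_10_2 lc_b_rc_6_1 lc_b_rc_7_4 lc_b_rc_26_5 lc_b_rc_8_2 lc_b_rc_9_2 lc_b_rc_26_1 lc_b_rc_8_2 lc_b_rc_9_2 lc_b_Cert_tree lc_b_rc_6_1 lc_b_rc_9_2 lc_b_rc_9_2 lc_b_rc_9_2 lc_b_rc_9_2 lc_b_Cert_tree lc_b_rc_1_5 lc_b_rc_8_2 lc_b_rc_10_2 lc_b_Cert_tree lc_b_rc_7_4 lc_b_rc_8_2 lc_b_rc_10_2) (@D3.rec (fun _ => (Cert rels S Gen.b)) lc_b_rc_6_1 lc_b_rc_8_2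 lc_b_rc_9_2 lc_b_rc_6_1 lc_b_rc_8_2 lc_b_rc_9_2 lc_b_Cert_tree lc_b_Cert_tree lc_b_Cert_tree lc_b_rc_10_2 lc_b_rc_6_1 lc_b_rc_8_2 lc_b_rc_9_2 lc_b_rc_7_2 lc_b_rc_9_2 lc_b_rc_6_1 lc_b_rc_7_2 lc_b_rc_9_2 lc_b_rc_8_2 lc_b_rc_1_3 lc_b_rc_6_1 lc_b_rc_9_2 lc_b_rc_7_0 lc_b_rc_9_2 lc_b_Cert_tree lc_b_Cert_tree lc_b_rc_8_2 lc_b_rc_1_3 lc_b_rc_26_5 lc_b_rc_8_2 lc_b_rc_10_2 lc_b_rc_6_1 lc_b_rc_9_2 lc_b_rc_6_1 lc_b_rc_9_2 lc_b_rc_9_2 lc_b_rc_9_2 lc_b_Cert_tree lc_b_rc_6_1 lc_b_rc_8_2 lc_b_rc_10_2 lc_b_rc_26_5 lc_b_Cert_tree lc_b_rc_8_2 lc_b_rc_10_2 lc_b_rc_8_2 lc_b_Cert_tree lc_b_Cert_tree lc_b_rc_10_2 lc_b_rc_7_2 lc_b_rc_1_3 lc_b_rc_9_2 lc_b_rc_8_2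 lc_b_Cert_tree lc_b_Cert_tree lc_b_rc_8_2 lc_b_rc_10_2 lc_b_rc_6_1 lc_b_rc_6_1 lc_b_rc_8_2 lc_b_rc_9_2 lc_b_rc_6_1) (@D3.rec (fun _ => (Cert rels S Gen.b)) lc_b_rc_8_2 lc_b_rc_9_2 lc_b_Cert_tree lc_b_Cert_tree lc_b_Cert_tree lc_b_rc_10_2 lc_b_Cert_tree lc_b_rc_6_1 lc_b_rc_8_0 lc_b_rc_6_1 lc_b_rc_26_1 lc_b_rc_26_1 lc_b_rc_9_2 lc_b_rc_6_1 lc_b_rc_26_5 lc_b_rc_26_1 lc_b_rc_9_2 lc_b_Cert_tree lc_b_rc_7_0 lc_b_rc_7_4 lc_b_rc_8_2 lc_b_rc_10_2 lc_b_Cert_tree lc_b_rc_6_1 lc_b_rc_8_2 lc_b_rc_1_5 lc_b_rc_1_3 lc_b_rc_6_1 lc_b_rc_8_2 lc_b_rc_9_2 lc_b_rc_6_1 lc_b_rc_9_0 lc_b_rc_8_0 lc_b_Cert_tree lc_b_rc_8_2 lc_b_Cert_tree lc_b_rc_9_2 lc_b_rc_10_0 lc_b_rc_8_2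 lc_b_rc_10_2 lc_b_rc_10_0 lc_b_rc_1_3 lc_b_rc_7_2 lc_b_rc_8_2 lc_b_rc_9_2 lc_b_rc_8_2 lc_b_Cert_tree lc_b_rc_9_2 lc_b_rc_8_2 lc_b_rc_6_1 lc_b_rc_7_2 lc_b_rc_9_2 lc_b_rc_6_1 lc_b_rc_26_7 lc_b_rc_9_2 lc_b_Cert_tree lc_b_rc_10_2 lc_b_rc_6_1 lc_b_rc_8_2 lc_b_rc_10_2 lc_b_rc_9_2 lc_b_rc_10_2) (@D3.rec (fun _ => (Cert rels S Gen.b)) lc_b_rc_6_1 lc_b_rc_8_2 lc_b_rc_9_2 lc_b_rc_6_1 lc_b_rc_8_2 lc_b_rc_9_2 lc_b_Cert_tree lc_b_Cert_tree lc_b_Cert_tree lc_b_rc_10_2 lc_b_rc_9_2 lc_b_rc_6_1 lc_b_rc_8_2 lc_b_rc_9_2 lc_b_rc_26_7 lc_b_Cert_tree lc_b_rc_9_2 lc_b_rc_10_2 lc_b_rc_8_2 lc_b_rc_10_2 lc_b_rc_6_1 lc_b_rc_8_2 lc_b_rc_8_2 lc_b_rc_9_2 lc_b_Cert_tree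 lc_b_rc_8_2 lc_b_Cert_tree lc_b_rc_9_2 lc_b_Cert_tree lc_b_rc_8_2 lc_b_rc_10_2 lc_b_Cert_tree lc_b_Cert_tree lc_b_rc_6_1 lc_b_rc_8_2 lc_b_rc_9_2 lc_b_Cert_tree lc_b_rc_8_2 lc_b_rc_1_3 lc_b_rc_6_1 lc_b_rc_8_2 lc_b_rc_9_2 lc_b_rc_6_1 lc_b_rc_8_2 lc_b_Cert_tree lc_b_rc_8_2 lc_b_rc_8_2 lc_b_rc_7_0 lc_b_rc_6_1 lc_b_rc_8_2 lc_b_rc_9_2 lc_b_Cert_tree lc_b_rc_9_2 lc_b_Cert_tree lc_b_rc_9_2 lc_b_rc_6_1 lc_b_rc_8_2 lc_b_Cert_tree lc_b_rc_8_2 lc_b_rc_6_1 lc_b_rc_8_2 lc_b_Cert_tree) (@D3.rec (fun _ => (Cert rels S Gen.b)) lc_b_rc_6_1 lc_b_rc_8_2 lc_b_rc_9_2 lc_b_rc_26_1 lc_b_rc_6_1 lc_b_rc_8_2 lc_b_rc_9_2 lc_b_rc_6_1 lc_b_rc_6_1 lc_b_Cert_tree lc_b_Cert_tree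 lc_b_rc_8_0 lc_b_rc_26_5 lc_b_rc_26_7 lc_b_rc_8_2 lc_b_Cert_tree lc_b_rc_6_1 lc_b_rc_8_2 lc_b_rc_9_2 lc_b_Cert_tree lc_b_rc_6_1 lc_b_rc_8_2 lc_b_rc_9_2 lc_b_rc_8_2 lc_b_rc_8_2 lc_b_rc_6_1 lc_b_rc_8_2 lc_b_rc_6_1 lc_b_rc_8_2 lc_b_rc_9_2 lc_b_Cert_tree lc_b_rc_6_1 lc_b_rc_10_0 lc_b_rc_8_2 lc_b_rc_8_2 lc_b_Cert_tree lc_b_Cert_tree lc_b_Cert_tree lc_b_rc_9_2 lc_b_Cert_tree lc_b_Cert_tree lc_b_rc_8_2 lc_b_rc_7_4 lc_b_Cert_tree lc_b_Cert_tree lc_b_rc_10_2 lc_b_Cert_tree lc_b_rc_6_1 lc_b_rc_26_5 lc_b_rc_7_4 lc_b_rc_7_4 lc_b_rc_6_1 lc_b_rc_8_2 lc_b_rc_6_1 lc_b_rc_8_2 lc_b_rc_9_2 lc_b_Cert_tree lc_b_rc_6_1 lc_b_rc_8_2 lc_b_rc_8_2 lc_b_Cert_tree lc_b_Cert_tree)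 (@D3.rec (fun _ => (Cert rels S Gen.b)) lc_b_Cert_tree lc_b_rc_9_2 lc_b_Cert_tree lc_b_Cert_tree lc_b_rc_8_2 lc_b_Cert_tree lc_b_Cert_tree lc_b_Cert_tree lc_b_Cert_tree lc_b_rc_8_2 lc_b_rc_6_1 lc_b_Cert_tree lc_b_rc_7_4 lc_b_rc_6_1 lc_b_rc_6_1 lc_b_rc_8_2 lc_b_rc_6_1 lc_b_rc_8_2 lc_b_rc_6_1 lc_b_rc_8_2 lc_b_rc_6_1 lc_b_rc_8_2 lc_b_rc_6_1 lc_b_Cert_tree lc_b_Cert_tree lc_b_Cert_tree lc_b_rc_9_2 lc_b_rc_10_2 lc_b_rc_9_2 lc_b_rc_26_5 lc_b_rc_6_1 lc_b_rc_26_1 lc_b_rc_8_2 lc_b_rc_9_2 lc_b_rc_26_5 lc_b_rc_8_2 lc_b_rc_9_2 lc_b_rc_6_1 lc_b_rc_9_2 lc_b_rc_6_1 lc_b_Cert_tree lc_b_rc_10_2 lc_b_rc_9_2 lc_b_rc_6_1 lc_b_rc_8_2 lc_b_rc_6_1 lc_b_rc_8_2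 lc_b_rc_9_2 lc_b_Cert_tree lc_b_Cert_tree lc_b_rc_7_4 lc_b_rc_10_2 lc_b_rc_6_1 lc_b_rc_8_2 lc_b_rc_9_2 lc_b_Cert_tree lc_b_rc_8_0 lc_b_rc_1_5 lc_b_rc_6_1 lc_b_rc_6_1 lc_b_rc_6_1 lc_b_Cert_tree) (@D3.rec (fun _ => (Cert rels S Gen.b)) lc_b_Cert_tree lc_b_rc_1_3 lc_b_rc_8_2 lc_b_rc_9_2 lc_b_rc_9_2 lc_b_rc_9_2 lc_b_rc_10_2 lc_b_rc_8_2 lc_b_rc_10_2 lc_b_rc_1_5 lc_b_rc_6_1 lc_b_rc_8_2 lc_b_rc_9_2 lc_b_rc_8_2 lc_b_rc_6_1 lc_b_Cert_tree lc_b_rc_10_2 lc_b_rc_6_1 lc_b_rc_8_2 lc_b_rc_9_2 lc_b_rc_6_1 lc_b_rc_26_5 lc_b_rc_8_2 lc_b_rc_9_2 lc_b_rc_8_2 lc_b_rc_9_2 lc_b_Cert_tree lc_b_Cert_tree lc_b_rc_8_2 lc_b_rc_10_2 lc_b_rc_6_1 lc_b_rc_9_0 lc_b_rc_8_2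 lc_b_rc_10_2 lc_b_rc_6_1 lc_b_rc_8_2 lc_b_rc_6_1 lc_b_rc_8_2 lc_b_rc_9_2 lc_b_Cert_tree lc_b_Cert_tree lc_b_Cert_tree lc_b_rc_10_2 lc_b_rc_26_7 lc_b_rc_6_1 lc_b_rc_8_2 lc_b_rc_6_1 lc_b_rc_8_2 lc_b_rc_6_1 lc_b_rc_8_2 lc_b_rc_6_1 lc_b_rc_8_2 lc_b_rc_6_1 lc_b_rc_8_2 lc_b_rc_9_2 lc_b_Cert_tree lc_b_Cert_tree lc_b_rc_1_3 lc_b_rc_8_2 lc_b_rc_9_2 lc_b_rc_1_1 lc_b_rc_26_5) (@D3.rec (fun _ => (Cert rels S Gen.b)) lc_b_rc_8_2 lc_b_rc_1_3 lc_b_rc_26_5 lc_b_Cert_tree lc_b_rc_8_2 lc_b_rc_10_2 lc_b_rc_6_1 lc_b_rc_26_1 lc_b_rc_6_1 lc_b_rc_7_0 lc_b_rc_8_2 lc_b_rc_10_2 lc_b_rc_6_1 lc_b_rc_8_2 lc_b_rc_9_2 lc_b_rc_6_1 lc_b_rc_8_2 lc_b_Cert_tree lc_b_Cert_tree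 lc_b_Cert_tree lc_b_rc_10_2 lc_b_rc_6_1 lc_b_rc_8_2 lc_b_rc_9_2 lc_b_Cert_tree lc_b_Cert_tree lc_b_rc_6_1 lc_b_rc_8_2 lc_b_rc_6_1 lc_b_rc_8_2 lc_b_rc_1_3 lc_b_rc_9_2 lc_b_rc_8_2 lc_b_rc_9_2 lc_b_rc_1_3 lc_b_rc_6_1 lc_b_rc_1_3 lc_b_rc_8_2 lc_b_rc_26_1 lc_b_rc_6_1 lc_b_rc_8_2 lc_b_rc_10_2 lc_b_rc_10_2 lc_b_rc_9_2 lc_b_Cert_tree lc_b_Cert_tree lc_b_Cert_tree lc_b_rc_26_1 lc_b_rc_9_2 lc_b_rc_6_1 lc_b_rc_9_2 lc_b_rc_1_3 lc_b_rc_9_2 lc_b_rc_6_1 lc_b_Cert_tree lc_b_rc_8_2 lc_b_rc_10_2 lc_b_Cert_tree lc_b_rc_26_5 lc_b_rc_8_2 lc_b_Cert_tree lc_b_rc_6_1) (@D3.rec (fun _ => (Cert rels S Gen.b)) lc_b_Cert_tree lc_b_rc_10_2 lc_b_rc_9_2 lc_b_rc_1_3 lc_b_Cert_tree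 lc_b_rc_26_7 lc_b_rc_8_2 lc_b_rc_8_2 lc_b_Cert_tree lc_b_rc_8_2 lc_b_rc_10_2 lc_b_rc_8_2 lc_b_Cert_tree lc_b_Cert_tree lc_b_rc_8_2 lc_b_rc_26_5 lc_b_rc_9_2 lc_b_rc_7_0 lc_b_rc_26_5 lc_b_rc_8_2 lc_b_rc_10_2 lc_b_rc_6_1 lc_b_rc_26_5 lc_b_rc_8_2 lc_b_rc_26_5 lc_b_rc_26_1 lc_b_rc_8_2 lc_b_rc_8_0 lc_b_rc_6_1 lc_b_rc_25_16 lc_b_rc_10_2 lc_b_rc_26_7 lc_b_rc_26_5 lc_b_rc_6_1 lc_b_rc_8_2 lc_b_rc_9_2 lc_b_rc_10_0 lc_b_rc_9_0 lc_b_rc_9_2 lc_b_Cert_tree lc_b_rc_26_5 lc_b_Cert_tree lc_b_rc_9_2 lc_b_rc_8_2 lc_b_rc_7_0 lc_b_rc_1_3 lc_b_rc_7_2 lc_b_rc_8_2 lc_b_rc_9_2 lc_b_rc_8_2 lc_b_rc_9_2 lc_b_Cert_tree lc_b_rc_9_2 lc_b_rc_8_2 lc_b_rc_10_2 lc_b_rc_6_1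 lc_b_Cert_tree lc_b_rc_8_2 lc_b_rc_9_2 lc_b_rc_6_1 lc_b_Cert_tree lc_b_rc_8_2) (@D3.rec (fun _ => (Cert rels S Gen.b)) lc_b_rc_9_2 lc_b_Cert_tree lc_b_Cert_tree lc_b_rc_6_1 lc_b_rc_8_2 lc_b_rc_10_2 lc_b_rc_9_2 lc_b_rc_8_2 lc_b_rc_9_2 lc_b_rc_6_1 lc_b_rc_8_2 lc_b_rc_8_0 lc_b_rc_9_0 lc_b_rc_9_0 lc_b_rc_6_1 lc_b_rc_8_2 lc_b_rc_26_5 lc_b_rc_7_4 lc_b_rc_8_2 lc_b_rc_9_2 lc_b_Cert_tree lc_b_Cert_tree lc_b_Cert_tree lc_b_rc_9_2 lc_b_rc_26_7 lc_b_rc_8_2 lc_b_Cert_tree lc_b_Cert_tree lc_b_rc_6_1 lc_b_rc_8_2 lc_b_rc_6_1 lc_b_rc_8_2 lc_b_rc_9_2 lc_b_rc_9_0 lc_b_Cert_tree lc_b_rc_10_2 lc_b_rc_10_0 lc_b_rc_26_1 lc_b_rc_8_2 lc_b_rc_9_2 lc_b_Cert_tree lc_b_rc_9_2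 lc_b_rc_8_2 lc_b_rc_10_2 lc_b_rc_6_1 lc_b_rc_8_2 lc_b_rc_8_2 lc_b_rc_8_2 lc_b_rc_6_1 lc_b_rc_8_2 lc_b_Cert_tree lc_b_rc_6_1 lc_b_rc_26_1 lc_b_rc_8_2 lc_b_Cert_tree lc_b_Cert_tree lc_b_Cert_tree lc_b_rc_9_2 lc_b_rc_9_2 lc_b_rc_6_1 lc_b_rc_8_2 lc_b_rc_6_1) (@D3.rec (fun _ => (Cert rels S Gen.b)) lc_b_Cert_tree lc_b_rc_6_1 lc_b_rc_1_3 lc_b_rc_8_2 lc_b_rc_9_2 lc_b_rc_6_1 lc_b_rc_9_2 lc_b_rc_26_7 lc_b_rc_10_2 lc_b_Cert_tree lc_b_rc_7_0 lc_b_rc_1_3 lc_b_rc_8_2 lc_b_rc_9_2 lc_b_rc_9_2 lc_b_rc_26_7 lc_b_rc_8_2 lc_b_rc_10_2 lc_b_Cert_tree lc_b_Cert_tree lc_b_Cert_tree lc_b_rc_1_3 lc_b_rc_7_4 lc_b_rc_8_2 lc_b_rc_9_2 lc_b_rc_9_2 lc_b_rc_8_2 lc_b_Cert_tree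 lc_b_Cert_tree lc_b_rc_1_3 lc_b_rc_8_2 lc_b_rc_9_2 lc_b_rc_9_2 lc_b_rc_8_2 lc_b_rc_10_2 lc_b_rc_6_1 lc_b_rc_26_7 lc_b_rc_8_2 lc_b_rc_10_2 lc_b_rc_6_1 lc_b_rc_8_2 lc_b_rc_8_2 lc_b_Cert_tree lc_b_Cert_tree lc_b_rc_9_2 lc_b_rc_10_2 lc_b_rc_6_1 lc_b_rc_9_2 lc_b_rc_6_1 lc_b_rc_9_2 lc_b_Cert_tree lc_b_Cert_tree lc_b_rc_10_2 lc_b_rc_9_2 lc_b_Cert_tree lc_b_Cert_tree lc_b_rc_9_0 lc_b_rc_9_2 lc_b_Cert_tree lc_b_Cert_tree lc_b_Cert_tree lc_b_rc_7_2) (@D3.rec (fun _ => (Cert rels S Gen.b)) lc_b_rc_8_2 lc_b_rc_7_4 lc_b_rc_6_1 lc_b_rc_8_2 lc_b_rc_6_1 lc_b_rc_8_2 lc_b_rc_9_2 lc_b_Cert_tree lc_b_rc_6_1 lc_b_rc_8_2 lc_b_Cert_tree lc_b_Cert_tree lc_b_Cert_tree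 lc_b_rc_9_2 lc_b_Cert_tree lc_b_Cert_tree lc_b_rc_8_2 lc_b_Cert_tree lc_b_Cert_tree lc_b_rc_8_2 lc_b_Cert_tree lc_b_Cert_tree lc_b_rc_6_1 lc_b_rc_8_2 lc_b_rc_6_1 lc_b_rc_8_2 lc_b_rc_6_1 lc_b_rc_6_1 lc_b_Cert_tree lc_b_rc_9_2 lc_b_rc_7_4 lc_b_Cert_tree lc_b_Cert_tree lc_b_rc_6_1 lc_b_rc_8_2 lc_b_Cert_tree lc_b_rc_6_1 lc_b_rc_8_2 lc_b_rc_6_1 lc_b_rc_8_2 lc_b_rc_9_2 lc_b_Cert_tree lc_b_Cert_tree lc_b_rc_1_3 lc_b_rc_9_2 lc_b_rc_9_2 lc_b_rc_9_2 lc_b_rc_6_1 lc_b_rc_8_2 lc_b_rc_6_1 lc_b_rc_9_2 lc_b_rc_6_1 lc_b_Cert_tree lc_b_rc_9_2 lc_b_rc_8_2 lc_b_rc_7_4 lc_b_rc_8_2 lc_b_rc_9_2 lc_b_rc_10_2 lc_b_rc_9_2 lc_b_rc_8_2 lc_b_rc_9_2) (@D3.rec (fun _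 => (Cert rels S Gen.b)) lc_b_rc_6_1 lc_b_rc_9_2 lc_b_rc_9_2 lc_b_rc_26_5 lc_b_Cert_tree lc_b_rc_8_2 lc_b_rc_10_2 lc_b_rc_9_2 lc_b_rc_6_1 lc_b_rc_9_2 lc_b_rc_26_1 lc_b_rc_9_2 lc_b_rc_6_1 lc_b_rc_8_2 lc_b_rc_9_2 lc_b_rc_6_1 lc_b_rc_8_2 lc_b_Cert_tree lc_b_rc_9_0 lc_b_Cert_tree lc_b_rc_10_2 lc_b_rc_6_1 lc_b_rc_8_2 lc_b_rc_9_2 lc_b_Cert_tree lc_b_rc_10_0 lc_b_rc_8_2 lc_b_rc_9_2 lc_b_rc_7_0 lc_b_rc_8_0 lc_b_rc_9_2 lc_b_rc_9_2 lc_b_rc_1_5 lc_b_rc_8_2 lc_b_rc_10_2 lc_b_rc_8_2 lc_b_rc_6_1 lc_b_rc_8_2 lc_b_rc_9_2 lc_b_rc_6_1 lc_b_rc_8_2 lc_b_rc_9_2 lc_b_rc_26_5 lc_b_Cert_tree lc_b_Cert_tree lc_b_rc_10_2 lc_b_rc_6_1 lc_b_rc_8_2 lc_b_rc_6_1 lc_b_rc_6_1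 lc_b_Cert_tree lc_b_rc_6_1 lc_b_rc_1_3 lc_b_rc_8_2 lc_b_rc_9_2 lc_b_rc_7_4 lc_b_rc_8_2 lc_b_rc_9_2 lc_b_Cert_tree lc_b_rc_7_4 lc_b_rc_8_2 lc_b_rc_10_2) (@D3.rec (fun _ => (Cert rels S Gen.b)) lc_b_rc_6_1 lc_b_rc_8_2 lc_b_rc_6_1 lc_b_rc_8_2 lc_b_Cert_tree lc_b_Cert_tree lc_b_Cert_tree lc_b_rc_10_2 lc_b_rc_26_7 lc_b_rc_6_1 lc_b_rc_8_2 lc_b_rc_6_1 lc_b_rc_8_2 lc_b_Cert_tree lc_b_Cert_tree lc_b_rc_6_1 lc_b_rc_8_2 lc_b_rc_10_2 lc_b_Cert_tree lc_b_Cert_tree lc_b_rc_8_2 lc_b_rc_9_2 lc_b_rc_7_2 lc_b_rc_7_4 lc_b_rc_6_1 lc_b_rc_9_2 lc_b_rc_8_2 lc_b_rc_9_2 lc_b_rc_8_2 lc_b_rc_9_2 lc_b_rc_6_1 lc_b_rc_9_2 lc_b_rc_1_3 lc_b_rc_6_1 lc_b_Cert_tree lc_b_rc_6_1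 lc_b_rc_8_2 lc_b_rc_6_1 lc_b_rc_7_0 lc_b_rc_26_7 lc_b_Cert_tree lc_b_Cert_tree lc_b_Cert_tree lc_b_rc_9_2 lc_b_rc_9_2 lc_b_rc_1_3 lc_b_rc_1_5 lc_b_rc_8_2 lc_b_rc_10_2 lc_b_rc_26_1 lc_b_rc_8_2 lc_b_rc_6_1 lc_b_rc_8_2 lc_b_rc_9_2 lc_b_rc_6_1 lc_b_rc_8_2 lc_b_rc_26_5 lc_b_Cert_tree lc_b_Cert_tree lc_b_rc_7_4 lc_b_rc_6_1 lc_b_rc_8_2) (@D3.rec (fun _ => (Cert rels S Gen.b)) lc_b_rc_26_1 lc_b_rc_9_2 lc_b_rc_6_1 lc_b_rc_26_5 lc_b_rc_9_2 lc_b_rc_8_2 lc_b_rc_1_3 lc_b_rc_25_4 lc_b_rc_1_3 lc_b_Cert_tree lc_b_Cert_tree lc_b_rc_8_2 lc_b_rc_26_7 lc_b_rc_26_5 lc_b_rc_8_2 lc_b_rc_9_2 lc_b_Cert_tree lc_b_rc_8_0 lc_b_Cert_tree lc_b_rc_1_3 lc_b_Cert_tree lc_b_rc_26_5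 lc_b_rc_10_2 lc_b_rc_8_2 lc_b_Cert_tree lc_b_Cert_tree lc_b_rc_10_2 lc_b_rc_6_1 lc_b_rc_8_2 lc_b_rc_6_1 lc_b_rc_26_7 lc_b_rc_26_7 lc_b_rc_26_1 lc_b_rc_9_0 lc_b_rc_8_2 lc_b_rc_8_0 lc_b_rc_8_0 lc_b_rc_25_4 lc_b_rc_10_2 lc_b_rc_6_1 lc_b_rc_26_1 lc_b_rc_8_2 lc_b_Cert_tree lc_b_rc_26_7 lc_b_rc_7_4 lc_b_rc_9_2 lc_b_rc_6_1 lc_b_rc_1_3 lc_b_rc_7_2 lc_b_rc_8_2 lc_b_rc_9_2 lc_b_Cert_tree lc_b_rc_6_1 lc_b_rc_8_2 lc_b_rc_6_1 lc_b_rc_7_4 lc_b_rc_8_2 lc_b_rc_9_2 lc_b_rc_6_1 lc_b_Cert_tree lc_b_rc_8_2 lc_b_rc_9_2) (@D3.rec (fun _ => (Cert rels S Gen.b)) lc_b_Cert_tree lc_b_Cert_tree lc_b_rc_6_1 lc_b_rc_8_2 lc_b_rc_10_2 lc_b_rc_9_2 lc_b_rc_6_1 lc_b_rc_8_2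 lc_b_rc_6_1 lc_b_rc_8_2 lc_b_rc_6_1 lc_b_rc_7_4 lc_b_rc_8_2 lc_b_Cert_tree lc_b_Cert_tree lc_b_Cert_tree lc_b_rc_9_2 lc_b_rc_8_2 lc_b_rc_6_1 lc_b_rc_1_3 lc_b_rc_8_2 lc_b_rc_9_2 lc_b_Cert_tree lc_b_rc_9_2 lc_b_Cert_tree lc_b_rc_8_2 lc_b_rc_6_1 lc_b_rc_1_5 lc_b_Cert_tree lc_b_rc_8_2 lc_b_Cert_tree lc_b_rc_6_1 lc_b_rc_7_4 lc_b_Cert_tree lc_b_rc_1_3 lc_b_rc_9_2 lc_b_rc_6_1 lc_b_rc_10_2 lc_b_rc_9_2 lc_b_Cert_tree lc_b_rc_6_1 lc_b_rc_8_2 lc_b_rc_6_1 lc_b_rc_8_2 lc_b_rc_9_2 lc_b_Cert_tree lc_b_Cert_tree lc_b_rc_8_2 lc_b_Cert_tree lc_b_Cert_tree lc_b_rc_9_2 lc_b_rc_8_2 lc_b_rc_6_1 lc_b_rc_6_1 lc_b_Cert_tree lc_b_rc_1_3 lc_b_rc_8_2 lc_b_rc_10_2 lc_b_rc_26_5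 lc_b_Cert_tree lc_b_rc_1_3 lc_b_rc_7_4) (@D3.rec (fun _ => (Cert rels S Gen.b)) lc_b_rc_8_2 lc_b_rc_9_2 lc_b_rc_9_2 lc_b_rc_8_2 lc_b_Cert_tree lc_b_Cert_tree lc_b_rc_7_0 lc_b_rc_8_2 lc_b_rc_6_1 lc_b_rc_8_2 lc_b_Cert_tree lc_b_rc_9_2 lc_b_rc_6_1 lc_b_rc_9_2 lc_b_Cert_tree lc_b_Cert_tree lc_b_rc_10_2 lc_b_rc_9_2 lc_b_rc_8_2 lc_b_rc_6_1 lc_b_rc_8_2 lc_b_rc_6_1 lc_b_rc_8_2 lc_b_rc_6_1 lc_b_rc_8_2 lc_b_Cert_tree lc_b_Cert_tree lc_b_rc_7_2 lc_b_rc_9_2 lc_b_Cert_tree lc_b_rc_6_1 lc_b_rc_25_8 lc_b_rc_9_2 lc_b_rc_8_2 lc_b_rc_6_1 lc_b_Cert_tree lc_b_rc_10_0 lc_b_rc_9_2 lc_b_Cert_tree lc_b_rc_26_5 lc_b_Cert_tree lc_b_rc_1_3 lc_b_rc_8_2 lc_b_rc_10_2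 lc_b_rc_6_1 lc_b_rc_26_5 lc_b_rc_9_2 lc_b_rc_9_2 lc_b_Cert_tree lc_b_Cert_tree lc_b_rc_8_2 lc_b_rc_10_2 lc_b_rc_8_2 lc_b_rc_10_2 lc_b_rc_6_1 lc_b_rc_8_2 lc_b_rc_6_1 lc_b_rc_8_2 lc_b_rc_9_2 lc_b_Cert_tree lc_b_Cert_tree lc_b_rc_10_2) (@D3.rec (fun _ => (Cert rels S Gen.b)) lc_b_rc_6_1 lc_b_rc_8_2 lc_b_rc_9_2 lc_b_rc_6_1 lc_b_rc_8_2 lc_b_rc_9_2 lc_b_rc_26_1 lc_b_rc_9_2 lc_b_rc_6_1 lc_b_rc_26_5 lc_b_rc_9_2 lc_b_rc_26_5 lc_b_Cert_tree lc_b_rc_10_2 lc_b_Cert_tree lc_b_Cert_tree lc_b_rc_10_2 lc_b_Cert_tree lc_b_rc_26_1 lc_b_rc_8_2 lc_b_rc_10_2 lc_b_Cert_tree lc_b_Cert_tree lc_b_rc_10_2 lc_b_rc_9_2 lc_b_rc_9_0 lc_b_rc_8_2 lc_b_rc_6_1 lc_b_rc_7_4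 lc_b_rc_8_2 lc_b_rc_9_2 lc_b_rc_8_2 lc_b_rc_8_2 lc_b_rc_26_5 lc_b_Cert_tree lc_b_rc_10_2 lc_b_rc_6_1 lc_b_rc_6_1 lc_b_rc_8_2 lc_b_rc_9_2 lc_b_Cert_tree lc_b_Cert_tree lc_b_rc_9_2 lc_b_rc_6_1 lc_b_rc_7_4 lc_b_rc_7_4 lc_b_rc_8_2 lc_b_rc_9_2 lc_b_Cert_tree lc_b_rc_9_2 lc_b_rc_7_4 lc_b_rc_8_2 lc_b_rc_10_2 lc_b_rc_6_1 lc_b_Cert_tree lc_b_rc_9_2 lc_b_rc_6_1 lc_b_Cert_tree lc_b_rc_9_2 lc_b_Cert_tree lc_b_Cert_tree lc_b_rc_6_1) (@D3.rec (fun _ => (Cert rels S Gen.b)) lc_b_rc_8_2 lc_b_rc_10_2 lc_b_rc_9_2 lc_b_rc_9_2 lc_b_rc_6_1 lc_b_rc_8_2 lc_b_rc_6_1 lc_b_rc_8_2 lc_b_rc_6_1 lc_b_rc_10_2 lc_b_rc_8_2 lc_b_rc_9_2 lc_b_Cert_tree lc_b_rc_26_7 lc_b_Cert_tree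 lc_b_rc_9_2 lc_b_rc_26_7 lc_b_rc_8_2 lc_b_Cert_tree lc_b_rc_6_1 lc_b_rc_8_2 lc_b_rc_8_2 lc_b_rc_1_1 lc_b_rc_8_2 lc_b_rc_9_2 lc_b_Cert_tree lc_b_rc_9_2 lc_b_Cert_tree lc_b_rc_6_1 lc_b_rc_10_2 lc_b_rc_6_1 lc_b_rc_8_2 lc_b_rc_6_1 lc_b_rc_8_2 lc_b_rc_6_1 lc_b_rc_1_5 lc_b_rc_9_2 lc_b_rc_6_1 lc_b_Cert_tree lc_b_rc_7_4 lc_b_rc_9_2 lc_b_Cert_tree lc_b_rc_26_1 lc_b_rc_6_1 lc_b_Cert_tree lc_b_Cert_tree lc_b_rc_8_2 lc_b_rc_6_1 lc_b_rc_26_5 lc_b_rc_9_2 lc_b_Cert_tree lc_b_Cert_tree lc_b_rc_8_2 lc_b_rc_6_1 lc_b_rc_9_2 lc_b_rc_6_1 lc_b_rc_9_2 lc_b_rc_9_2 lc_b_rc_6_1 lc_b_Cert_tree lc_b_rc_8_2 lc_b_rc_10_2) (@D3.rec (fun _ => (Cert rels S Gen.b)) lc_b_Cert_tree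 lc_b_rc_1_5 lc_b_Cert_tree lc_b_rc_10_2 lc_b_rc_6_1 lc_b_rc_9_2 lc_b_rc_9_2 lc_b_Cert_tree lc_b_rc_26_5 lc_b_rc_10_2 lc_b_Cert_tree lc_b_rc_7_4 lc_b_rc_10_2 lc_b_rc_26_7 lc_b_rc_8_2 lc_b_rc_1_1 lc_b_rc_8_2 lc_b_rc_1_5 lc_b_rc_8_0 lc_b_rc_6_1 lc_b_Cert_tree lc_b_rc_10_2 lc_b_rc_9_0 lc_b_rc_1_3 lc_b_rc_8_2 lc_b_rc_9_2 lc_b_rc_9_2 lc_b_rc_26_5 lc_b_rc_1_3 lc_b_rc_8_2 lc_b_rc_9_2 lc_b_rc_9_2 lc_b_rc_10_2 lc_b_rc_6_1 lc_b_Cert_tree lc_b_rc_9_2 lc_b_rc_6_1 lc_b_Cert_tree lc_b_rc_9_2 lc_b_Cert_tree lc_b_Cert_tree lc_b_rc_6_1 lc_b_rc_26_5 lc_b_rc_26_5 lc_b_rc_1_3 lc_b_rc_8_2 lc_b_rc_9_2 lc_b_rc_9_2 lc_b_Cert_tree lc_b_rc_8_2 lc_b_rc_7_4 lc_b_rc_1_3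 lc_b_rc_8_2 lc_b_rc_9_2 lc_b_rc_9_2 lc_b_Cert_tree lc_b_rc_8_2 lc_b_Cert_tree lc_b_Cert_tree lc_b_rc_9_2 lc_b_rc_8_2 lc_b_rc_6_1) (@D3.rec (fun _ => (Cert rels S Gen.b)) lc_b_rc_6_1 lc_b_rc_6_1 lc_b_rc_8_2 lc_b_Cert_tree lc_b_rc_26_7 lc_b_Cert_tree lc_b_Cert_tree lc_b_Cert_tree lc_b_rc_9_2 lc_b_Cert_tree lc_b_rc_25_4 lc_b_Cert_tree lc_b_rc_9_2 lc_b_rc_6_1 lc_b_rc_8_2 lc_b_rc_9_2 lc_b_rc_8_2 lc_b_rc_10_2 lc_b_rc_9_2 lc_b_rc_6_1 lc_b_rc_8_2 lc_b_rc_9_2 lc_b_rc_8_2 lc_b_rc_1_3 lc_b_rc_9_2 lc_b_rc_26_5 lc_b_Cert_tree lc_b_rc_8_2 lc_b_rc_10_2 lc_b_rc_6_1 lc_b_rc_9_2 lc_b_Cert_tree lc_b_Cert_tree lc_b_rc_8_2 lc_b_rc_10_2 lc_b_rc_6_1 lc_b_rc_8_2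 lc_b_rc_9_2 lc_b_rc_6_1 lc_b_rc_8_2 lc_b_Cert_tree lc_b_Cert_tree lc_b_rc_9_2 lc_b_rc_10_2 lc_b_rc_6_1 lc_b_rc_8_2 lc_b_rc_9_2 lc_b_Cert_tree lc_b_Cert_tree lc_b_rc_6_1 lc_b_rc_8_2 lc_b_rc_6_1 lc_b_rc_6_1 lc_b_rc_26_5 lc_b_Cert_tree lc_b_rc_1_3 lc_b_rc_8_2 lc_b_Cert_tree lc_b_rc_8_0 lc_b_Cert_tree lc_b_rc_9_2 lc_b_rc_7_0) (@D3.rec (fun _ => (Cert rels S Gen.b)) lc_b_rc_26_1 lc_b_rc_7_2 lc_b_rc_8_2 lc_b_rc_9_2 lc_b_rc_8_2 lc_b_rc_6_1 lc_b_rc_8_2 lc_b_rc_9_2 lc_b_rc_1_3 lc_b_rc_9_2 lc_b_rc_8_0 lc_b_rc_9_2 lc_b_rc_1_5 lc_b_rc_8_2 lc_b_Cert_tree lc_b_rc_26_1 lc_b_rc_8_2 lc_b_rc_10_2 lc_b_rc_8_2 lc_b_rc_9_2 lc_b_rc_10_2 lc_b_Cert_tree lc_b_Cert_tree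 lc_b_rc_26_5 lc_b_rc_8_2 lc_b_rc_9_2 lc_b_Cert_tree lc_b_rc_9_2 lc_b_Cert_tree lc_b_rc_26_5 lc_b_rc_8_2 lc_b_rc_10_2 lc_b_Cert_tree lc_b_Cert_tree lc_b_rc_8_2 lc_b_rc_10_2 lc_b_rc_6_1 lc_b_rc_8_2 lc_b_Cert_tree lc_b_Cert_tree lc_b_Cert_tree lc_b_rc_10_2 lc_b_rc_26_7 lc_b_rc_6_1 lc_b_rc_8_2 lc_b_rc_8_2 lc_b_rc_9_2 lc_b_rc_8_2 lc_b_rc_9_2 lc_b_rc_6_1 lc_b_rc_9_2 lc_b_rc_9_2 lc_b_rc_6_1 lc_b_Cert_tree lc_b_rc_8_2 lc_b_rc_6_1 lc_b_rc_9_2 lc_b_rc_6_1 lc_b_rc_26_5 lc_b_Cert_tree lc_b_Cert_tree lc_b_rc_8_2) (@D3.rec (fun _ => (Cert rels S Gen.b)) lc_b_rc_10_2 lc_b_rc_6_1 lc_b_rc_8_2 lc_b_rc_9_2 lc_b_rc_6_1 lc_b_rc_8_2 lc_b_Cert_tree lc_b_Cert_tree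 lc_b_Cert_tree lc_b_rc_6_1 lc_b_rc_26_1 lc_b_rc_9_2 lc_b_rc_8_2 lc_b_rc_8_2 lc_b_rc_9_2 lc_b_rc_1_3 lc_b_rc_9_2 lc_b_rc_1_5 lc_b_rc_7_4 lc_b_rc_9_2 lc_b_rc_10_2 lc_b_rc_8_2 lc_b_rc_10_2 lc_b_Cert_tree lc_b_Cert_tree lc_b_rc_8_2 lc_b_rc_10_2 lc_b_rc_6_1 lc_b_rc_8_2 lc_b_rc_9_2 lc_b_rc_6_1 lc_b_rc_8_2 lc_b_rc_9_2 lc_b_Cert_tree lc_b_Cert_tree lc_b_Cert_tree lc_b_rc_10_2 lc_b_rc_6_1 lc_b_rc_8_2 lc_b_rc_26_1 lc_b_rc_6_1 lc_b_rc_9_2 lc_b_rc_6_1 lc_b_rc_26_5 lc_b_rc_6_1 lc_b_rc_9_2 lc_b_rc_1_3 lc_b_rc_9_2 lc_b_rc_8_2 lc_b_rc_7_2 lc_b_rc_1_1 lc_b_rc_9_2 lc_b_rc_26_7 lc_b_Cert_tree lc_b_rc_8_2 lc_b_Cert_tree lc_b_rc_26_5 lc_b_rc_8_2 lc_b_rc_10_2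 lc_b_Cert_tree lc_b_Cert_tree lc_b_rc_6_1) (@D3.rec (fun _ => (Cert rels S Gen.b)) lc_b_rc_9_2 lc_b_rc_8_2 lc_b_rc_9_2 lc_b_rc_8_2 lc_b_rc_9_2 lc_b_Cert_tree lc_b_rc_8_0 lc_b_rc_9_2 lc_b_Cert_tree lc_b_rc_26_5 lc_b_rc_8_2 lc_b_rc_10_2 lc_b_rc_26_5 lc_b_Cert_tree lc_b_rc_8_2 lc_b_rc_10_2 lc_b_Cert_tree lc_b_Cert_tree lc_b_rc_10_2 lc_b_rc_8_2 lc_b_rc_25_4 lc_b_rc_9_2 lc_b_rc_26_5 lc_b_rc_7_0 lc_b_rc_8_2 lc_b_rc_9_2 lc_b_rc_6_1 lc_b_Cert_tree lc_b_rc_8_2 lc_b_rc_10_2 lc_b_Cert_tree lc_b_Cert_tree lc_b_rc_9_2 lc_b_rc_9_2 lc_b_rc_26_5 lc_b_Cert_tree lc_b_rc_10_2 lc_b_rc_6_1 lc_b_rc_10_0 lc_b_rc_8_2 lc_b_rc_9_2 lc_b_rc_6_1 lc_b_Cert_tree lc_b_rc_8_2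 lc_b_rc_9_2 lc_b_Cert_tree lc_b_Cert_tree lc_b_Cert_tree lc_b_rc_10_2 lc_b_rc_10_2 lc_b_rc_25_4 lc_b_rc_8_2 lc_b_rc_9_2 lc_b_Cert_tree lc_b_Cert_tree lc_b_rc_9_2 lc_b_rc_9_2 lc_b_rc_7_2 lc_b_rc_1_3 lc_b_rc_8_2 lc_b_rc_9_2 lc_b_Cert_tree) (@D3.rec (fun _ => (Cert rels S Gen.b)) lc_b_rc_9_2 lc_b_rc_8_2 lc_b_rc_6_1 lc_b_Cert_tree lc_b_rc_9_2 lc_b_rc_6_1 lc_b_Cert_tree lc_b_rc_9_2 lc_b_Cert_tree lc_b_Cert_tree lc_b_rc_6_1 lc_b_rc_8_2 lc_b_rc_10_2 lc_b_rc_9_2 lc_b_rc_6_1 lc_b_rc_8_2 lc_b_rc_6_1 lc_b_rc_26_7 lc_b_rc_8_2 lc_b_rc_9_2 lc_b_Cert_tree lc_b_Cert_tree lc_b_Cert_tree lc_b_rc_9_2 lc_b_rc_26_7 lc_b_rc_8_2 lc_b_rc_26_7 lc_b_rc_6_1 lc_b_rc_8_2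 lc_b_rc_7_4 lc_b_rc_6_1 lc_b_rc_8_2 lc_b_rc_9_2 lc_b_rc_26_1 lc_b_rc_1_3 lc_b_rc_8_2 lc_b_rc_9_2 lc_b_Cert_tree lc_b_rc_10_2 lc_b_Cert_tree lc_b_rc_6_1 lc_b_rc_6_1 lc_b_rc_8_2 lc_b_Cert_tree lc_b_rc_10_2 lc_b_Cert_tree lc_b_rc_9_2 lc_b_Cert_tree lc_b_Cert_tree lc_b_rc_8_2 lc_b_Cert_tree lc_b_Cert_tree lc_b_Cert_tree lc_b_rc_9_2 lc_b_rc_8_2 lc_b_rc_8_2 lc_b_rc_6_1 lc_b_Cert_tree lc_b_rc_1_3 lc_b_rc_8_2 lc_b_rc_9_2 lc_b_rc_7_2) (@D3.rec (fun _ => (Cert rels S Gen.b)) lc_b_rc_7_2 lc_b_rc_1_1 lc_b_rc_9_2 lc_b_rc_1_3 lc_b_rc_9_2 lc_b_rc_8_2 lc_b_rc_26_7 lc_b_rc_9_2 lc_b_rc_6_1 lc_b_rc_9_2 lc_b_rc_8_2 lc_b_rc_1_3 lc_b_rc_6_1 lc_b_Cert_tree lc_b_rc_9_2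 lc_b_rc_6_1 lc_b_Cert_tree lc_b_rc_8_2 lc_b_rc_6_1 lc_b_rc_9_2 lc_b_rc_9_2 lc_b_rc_6_1 lc_b_rc_9_2 lc_b_rc_26_7 lc_b_Cert_tree lc_b_rc_8_2 lc_b_rc_10_2 lc_b_rc_6_1 lc_b_rc_8_2 lc_b_rc_6_1 lc_b_rc_6_1 lc_b_rc_6_1 lc_b_rc_6_1 lc_b_Cert_tree lc_b_rc_9_2 lc_b_rc_6_1 lc_b_Cert_tree lc_b_rc_6_1 lc_b_rc_8_2 lc_b_Cert_tree lc_b_rc_1_3 lc_b_rc_1_3 lc_b_Cert_tree lc_b_Cert_tree lc_b_rc_6_1 lc_b_rc_8_2 lc_b_Cert_tree lc_b_rc_6_1 lc_b_rc_8_2 lc_b_rc_9_2 lc_b_rc_8_2 lc_b_rc_1_3 lc_b_rc_1_5 lc_b_rc_8_2 lc_b_rc_9_2 lc_b_rc_1_5 lc_b_rc_8_2 lc_b_rc_10_2 lc_b_Cert_tree lc_b_Cert_tree lc_b_rc_26_1 lc_b_rc_6_1) (@D3.rec (fun _ => (Cert rels S Gen.b)) lc_b_rc_8_2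 lc_b_rc_9_2 lc_b_rc_6_1 lc_b_rc_8_2 lc_b_Cert_tree lc_b_Cert_tree lc_b_rc_6_1 lc_b_rc_6_1 lc_b_rc_26_5 lc_b_rc_10_0 lc_b_Cert_tree lc_b_rc_6_1 lc_b_rc_8_2 lc_b_Cert_tree lc_b_rc_9_2 lc_b_rc_6_1 lc_b_rc_8_2 lc_b_rc_6_1 lc_b_rc_1_5 lc_b_rc_6_1 lc_b_rc_8_2 lc_b_Cert_tree lc_b_rc_7_0 lc_b_rc_1_3 lc_b_rc_8_2 lc_b_Cert_tree lc_b_rc_9_2 lc_b_Cert_tree lc_b_rc_6_1 lc_b_rc_1_3 lc_b_rc_6_1 lc_b_rc_26_5 lc_b_rc_9_2 lc_b_rc_1_5 lc_b_rc_9_2 lc_b_rc_6_1 lc_b_Cert_tree lc_b_rc_8_2 lc_b_Cert_tree lc_b_Cert_tree lc_b_rc_8_2 lc_b_rc_10_2 lc_b_rc_1_5 lc_b_rc_25_4 lc_b_rc_8_2 lc_b_rc_9_2 lc_b_rc_8_2 lc_b_Cert_tree lc_b_rc_7_2 lc_b_rc_1_3 lc_b_rc_8_2 lc_b_rc_9_2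 lc_b_rc_9_2 lc_b_rc_8_2 lc_b_rc_1_1 lc_b_Cert_tree lc_b_rc_10_2 lc_b_rc_6_1 lc_b_rc_8_2 lc_b_rc_1_5 lc_b_rc_6_1 lc_b_rc_9_2) (@D3.rec (fun _ => (Cert rels S Gen.b)) lc_b_rc_9_2 lc_b_rc_10_2 lc_b_rc_8_2 lc_b_rc_10_2 lc_b_rc_9_0 lc_b_rc_8_2 lc_b_rc_7_4 lc_b_rc_10_2 lc_b_rc_6_1 lc_b_rc_6_1 lc_b_rc_1_3 lc_b_rc_8_2 lc_b_rc_9_2 lc_b_Cert_tree lc_b_rc_9_2 lc_b_rc_8_2 lc_b_rc_26_5 lc_b_rc_26_5 lc_b_rc_26_1 lc_b_Cert_tree lc_b_rc_1_3 lc_b_rc_9_2 lc_b_rc_10_2 lc_b_Cert_tree lc_b_rc_10_2 lc_b_rc_1_3 lc_b_rc_9_2 lc_b_rc_26_7 lc_b_rc_26_7 lc_b_rc_8_2 lc_b_Cert_tree lc_b_rc_26_5 lc_b_rc_6_1 lc_b_rc_1_3 lc_b_rc_9_0 lc_b_rc_6_1 lc_b_rc_7_0 lc_b_rc_26_5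 lc_b_rc_9_2 lc_b_rc_8_2 lc_b_rc_8_2 lc_b_rc_9_2 lc_b_rc_6_1 lc_b_rc_9_2 lc_b_rc_8_2 lc_b_rc_9_2 lc_b_rc_9_2 lc_b_rc_26_5 lc_b_Cert_tree lc_b_rc_8_2 lc_b_rc_10_2 lc_b_Cert_tree lc_b_Cert_tree lc_b_rc_8_2 lc_b_rc_10_2 lc_b_rc_6_1 lc_b_rc_8_2 lc_b_rc_9_2 lc_b_rc_6_1 lc_b_rc_8_2 lc_b_rc_9_2 lc_b_Cert_tree) (@D3.rec (fun _ => (Cert rels S Gen.b)) lc_b_Cert_tree lc_b_Cert_tree lc_b_rc_10_2 lc_b_rc_6_1 lc_b_rc_8_2 lc_b_Cert_tree lc_b_rc_26_1 lc_b_rc_6_1 lc_b_rc_6_1 lc_b_rc_9_2 lc_b_rc_10_2 lc_b_rc_9_2 lc_b_rc_9_2 lc_b_rc_1_5 lc_b_rc_8_2 lc_b_Cert_tree lc_b_Cert_tree lc_b_rc_8_2 lc_b_rc_10_2 lc_b_rc_8_2 lc_b_rc_9_2 lc_b_rc_6_1 lc_b_rc_8_2 lc_b_rc_9_2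 lc_b_Cert_tree lc_b_Cert_tree lc_b_Cert_tree lc_b_rc_6_1 lc_b_rc_8_2 lc_b_rc_9_2 lc_b_rc_6_1 lc_b_rc_8_2 lc_b_rc_9_2 lc_b_rc_8_2 lc_b_rc_9_2 lc_b_rc_8_2 lc_b_rc_7_2 lc_b_rc_7_4 lc_b_rc_9_2 lc_b_rc_26_5 lc_b_Cert_tree lc_b_rc_8_2 lc_b_rc_10_2 lc_b_Cert_tree lc_b_rc_26_5 lc_b_rc_8_2 lc_b_rc_10_2 lc_b_Cert_tree lc_b_rc_26_5 lc_b_Cert_tree lc_b_rc_10_2 lc_b_rc_6_1 lc_b_rc_9_2 lc_b_rc_9_2 lc_b_rc_9_2 lc_b_Cert_tree lc_b_rc_26_5 lc_b_rc_8_2 lc_b_rc_7_4 lc_b_Cert_tree lc_b_rc_9_2 lc_b_rc_10_2) (@D3.rec (fun _ => (Cert rels S Gen.b)) lc_b_Cert_tree lc_b_Cert_tree lc_b_rc_1_3 lc_b_rc_8_0 lc_b_rc_9_2 lc_b_rc_26_1 lc_b_rc_6_1 lc_b_rc_8_2 lc_b_rc_10_2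 lc_b_rc_8_2 lc_b_rc_9_2 lc_b_rc_8_2 lc_b_Cert_tree lc_b_rc_25_8 lc_b_rc_9_2 lc_b_Cert_tree lc_b_Cert_tree lc_b_rc_8_2 lc_b_rc_10_2 lc_b_rc_6_1 lc_b_Cert_tree lc_b_rc_8_2 lc_b_rc_9_2 lc_b_rc_6_1 lc_b_Cert_tree lc_b_rc_8_2 lc_b_rc_9_2 lc_b_Cert_tree lc_b_Cert_tree lc_b_Cert_tree lc_b_rc_10_2 lc_b_rc_7_4 lc_b_rc_1_3 lc_b_rc_8_2 lc_b_rc_9_2 lc_b_Cert_tree lc_b_rc_9_2 lc_b_rc_8_2 lc_b_rc_6_1 lc_b_rc_1_3 lc_b_rc_8_2 lc_b_rc_9_2 lc_b_Cert_tree lc_b_rc_9_2 lc_b_rc_6_1 lc_b_rc_10_2 lc_b_rc_9_2 lc_b_rc_6_1 lc_b_Cert_tree lc_b_rc_9_2 lc_b_Cert_tree lc_b_Cert_tree lc_b_rc_6_1 lc_b_rc_6_1 lc_b_rc_8_2 lc_b_rc_26_5 lc_b_rc_1_3 lc_b_rc_8_2 lc_b_rc_9_2 lc_b_Cert_tree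 lc_b_Cert_tree lc_b_Cert_tree) (@D3.rec (fun _ => (Cert rels S Gen.b)) lc_b_rc_9_2 lc_b_Cert_tree lc_b_rc_8_2 lc_b_rc_6_1 lc_b_rc_1_3 lc_b_rc_8_2 lc_b_rc_9_2 lc_b_Cert_tree lc_b_rc_9_2 lc_b_rc_25_12 lc_b_rc_8_2 lc_b_rc_6_1 lc_b_rc_26_5 lc_b_rc_8_2 lc_b_rc_9_2 lc_b_rc_26_5 lc_b_rc_8_2 lc_b_rc_9_2 lc_b_Cert_tree lc_b_rc_6_1 lc_b_rc_8_2 lc_b_rc_10_2 lc_b_rc_6_1 lc_b_rc_8_2 lc_b_Cert_tree lc_b_Cert_tree lc_b_rc_10_2 lc_b_rc_6_1 lc_b_rc_8_2 lc_b_rc_6_1 lc_b_Cert_tree lc_b_Cert_tree lc_b_rc_1_3 lc_b_rc_8_2 lc_b_rc_9_2 lc_b_rc_6_1 lc_b_rc_8_0 lc_b_rc_6_1 lc_b_rc_25_4 lc_b_rc_8_2 lc_b_rc_9_2 lc_b_rc_1_5 lc_b_rc_8_2 lc_b_rc_6_1 lc_b_rc_9_2 lc_b_rc_9_2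 lc_b_rc_9_2 lc_b_Cert_tree lc_b_rc_26_5 lc_b_rc_8_2 lc_b_rc_6_1 lc_b_rc_7_4 lc_b_rc_8_2 lc_b_rc_10_2 lc_b_Cert_tree lc_b_rc_9_0 lc_b_rc_9_2 lc_b_rc_1_3 lc_b_rc_8_2 lc_b_rc_9_2 lc_b_rc_9_2 lc_b_rc_8_2) (@D3.rec (fun _ => (Cert rels S Gen.b)) lc_b_Cert_tree lc_b_rc_6_1 lc_b_rc_8_2 lc_b_rc_7_2 lc_b_rc_6_1 lc_b_rc_1_3 lc_b_rc_8_2 lc_b_rc_9_2 lc_b_rc_9_2 lc_b_rc_8_2 lc_b_rc_6_1 lc_b_rc_26_5 lc_b_rc_9_0 lc_b_rc_1_3 lc_b_rc_9_2 lc_b_rc_9_2 lc_b_rc_8_2 lc_b_Cert_tree lc_b_rc_9_2 lc_b_rc_26_1 lc_b_rc_6_1 lc_b_rc_8_0 lc_b_rc_1_3 lc_b_rc_9_2 lc_b_rc_26_1 lc_b_rc_26_5 lc_b_Cert_tree lc_b_rc_1_3 lc_b_rc_9_2 lc_b_rc_26_5 lc_b_Cert_tree lc_b_rc_9_0 lc_b_rc_10_2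 lc_b_rc_9_2 lc_b_rc_6_1 lc_b_rc_7_4 lc_b_rc_6_1 lc_b_rc_26_1 lc_b_rc_9_2 lc_b_rc_6_1 lc_b_rc_26_5 lc_b_rc_9_2 lc_b_rc_6_1 lc_b_Cert_tree lc_b_rc_8_2 lc_b_rc_10_2 lc_b_Cert_tree lc_b_Cert_tree lc_b_Cert_tree lc_b_rc_1_5 lc_b_rc_6_1 lc_b_rc_26_5 lc_b_rc_9_2 lc_b_rc_8_2 lc_b_rc_6_1 lc_b_rc_8_2 lc_b_rc_6_1 lc_b_rc_8_2 lc_b_rc_9_2 lc_b_rc_8_2 lc_b_rc_9_2 lc_b_rc_6_1) (@D3.rec (fun _ => (Cert rels S Gen.b)) lc_b_rc_6_1 lc_b_rc_7_4 lc_b_rc_9_2 lc_b_Cert_tree lc_b_rc_7_2 lc_b_rc_8_2 lc_b_rc_26_1 lc_b_rc_8_2 lc_b_rc_26_5 lc_b_rc_7_4 lc_b_Cert_tree lc_b_rc_9_2 lc_b_rc_9_2 lc_b_rc_25_4 lc_b_rc_9_2 lc_b_rc_6_1 lc_b_rc_7_0 lc_b_rc_8_2 lc_b_rc_10_2 lc_b_rc_7_0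 lc_b_rc_26_5 lc_b_rc_8_2 lc_b_rc_10_2 lc_b_Cert_tree lc_b_Cert_tree lc_b_rc_10_2 lc_b_rc_26_5 lc_b_rc_1_3 lc_b_rc_9_2 lc_b_rc_1_5 lc_b_rc_8_2 lc_b_rc_10_2 lc_b_Cert_tree lc_b_rc_26_5 lc_b_rc_8_2 lc_b_rc_10_2 lc_b_rc_6_1 lc_b_rc_26_1 lc_b_rc_9_2 lc_b_rc_6_1 lc_b_rc_8_2 lc_b_rc_9_2 lc_b_Cert_tree lc_b_Cert_tree lc_b_rc_10_0 lc_b_rc_7_0 lc_b_rc_6_1 lc_b_rc_9_2 lc_b_rc_8_2 lc_b_rc_10_2 lc_b_rc_1_3 lc_b_rc_8_0 lc_b_rc_9_2 lc_b_rc_26_1 lc_b_Cert_tree lc_b_rc_8_2 lc_b_rc_10_2 lc_b_rc_6_1 lc_b_Cert_tree lc_b_rc_8_2 lc_b_rc_9_2 lc_b_rc_6_1) (@D3.rec (fun _ => (Cert rels S Gen.b)) lc_b_Cert_tree lc_b_rc_8_2 lc_b_rc_7_4 lc_b_Cert_tree lc_b_Cert_tree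 lc_b_rc_7_4 lc_b_rc_8_2 lc_b_rc_10_2 lc_b_rc_1_1 lc_b_rc_8_2 lc_b_rc_9_2 lc_b_rc_8_2 lc_b_Cert_tree lc_b_rc_9_2 lc_b_rc_10_2 lc_b_rc_1_3 lc_b_rc_8_2 lc_b_rc_9_2 lc_b_Cert_tree lc_b_rc_9_2 lc_b_rc_6_1 lc_b_rc_6_1 lc_b_Cert_tree lc_b_rc_8_2 lc_b_rc_9_2 lc_b_rc_6_1 lc_b_Cert_tree lc_b_rc_26_7 lc_b_rc_9_2 lc_b_Cert_tree lc_b_Cert_tree lc_b_rc_6_1 lc_b_rc_8_2 lc_b_rc_7_4 lc_b_Cert_tree lc_b_rc_8_2 lc_b_rc_9_2 lc_b_Cert_tree lc_b_rc_9_2 lc_b_Cert_tree lc_b_rc_6_1 lc_b_rc_8_2 lc_b_rc_26_7 lc_b_rc_9_2 lc_b_rc_9_2 lc_b_rc_9_2 lc_b_rc_8_2 lc_b_rc_7_4 lc_b_rc_6_1 lc_b_rc_6_1 lc_b_rc_8_2 lc_b_rc_8_2 lc_b_Cert_tree lc_b_rc_9_2 lc_b_rc_10_2 lc_b_rc_7_0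 lc_b_rc_8_2 lc_b_rc_8_2 lc_b_rc_9_2 lc_b_rc_25_4 lc_b_rc_9_2 lc_b_rc_26_1) (@D3.rec (fun _ => (Cert rels S Gen.b)) lc_b_rc_8_2 lc_b_rc_10_2 lc_b_rc_8_2 lc_b_rc_8_2 lc_b_rc_6_1 lc_b_rc_7_2 lc_b_rc_9_2 lc_b_rc_26_5 lc_b_rc_9_2 lc_b_Cert_tree lc_b_rc_6_1 lc_b_rc_8_2 lc_b_rc_10_2 lc_b_rc_6_1 lc_b_rc_8_2 lc_b_rc_9_2 lc_b_rc_8_2 lc_b_rc_9_2 lc_b_Cert_tree lc_b_Cert_tree lc_b_rc_7_4 lc_b_rc_6_1 lc_b_rc_6_1 lc_b_rc_8_2 lc_b_rc_9_2 lc_b_rc_6_1 lc_b_Cert_tree lc_b_rc_8_2 lc_b_rc_9_2 lc_b_Cert_tree lc_b_Cert_tree lc_b_rc_10_2 lc_b_rc_1_3 lc_b_rc_8_2 lc_b_rc_9_2 lc_b_rc_9_2 lc_b_rc_26_7 lc_b_rc_1_3 lc_b_rc_8_2 lc_b_rc_9_2 lc_b_rc_9_2 lc_b_rc_6_1 lc_b_rc_9_2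 lc_b_rc_6_1 lc_b_rc_9_2 lc_b_Cert_tree lc_b_rc_9_2 lc_b_Cert_tree lc_b_rc_9_2 lc_b_rc_8_2 lc_b_rc_9_2 lc_b_rc_9_2 lc_b_rc_7_2 lc_b_rc_9_2 lc_b_Cert_tree lc_b_rc_7_0 lc_b_rc_8_2 lc_b_Cert_tree lc_b_Cert_tree lc_b_rc_8_2 lc_b_rc_10_2 lc_b_rc_6_1) (@D3.rec (fun _ => (Cert rels S Gen.b)) lc_b_rc_8_2 lc_b_Cert_tree lc_b_Cert_tree lc_b_rc_7_4 lc_b_rc_6_1 lc_b_rc_8_2 lc_b_Cert_tree lc_b_rc_6_1 lc_b_Cert_tree lc_b_rc_8_2 lc_b_Cert_tree lc_b_rc_26_5 lc_b_rc_8_2 lc_b_rc_6_1 lc_b_rc_6_1 lc_b_rc_8_2 lc_b_rc_6_1 lc_b_rc_8_2 lc_b_Cert_tree lc_b_Cert_tree lc_b_Cert_tree lc_b_rc_6_1 lc_b_rc_9_2 lc_b_rc_9_2 lc_b_rc_9_2 lc_b_Cert_tree lc_b_rc_26_7 lc_b_rc_8_2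 lc_b_rc_10_2 lc_b_rc_26_7 lc_b_Cert_tree lc_b_rc_8_2 lc_b_rc_10_2 lc_b_Cert_tree lc_b_rc_7_2 lc_b_rc_9_2 lc_b_rc_6_1 lc_b_rc_26_5 lc_b_rc_9_2 lc_b_rc_9_2 lc_b_rc_6_1 lc_b_rc_9_2 lc_b_rc_7_4 lc_b_Cert_tree lc_b_rc_8_2 lc_b_Cert_tree lc_b_rc_26_5 lc_b_rc_8_2 lc_b_rc_10_2 lc_b_Cert_tree lc_b_rc_8_2 lc_b_rc_6_1 lc_b_rc_26_1 lc_b_rc_8_2 lc_b_rc_9_2 lc_b_rc_9_2 lc_b_rc_9_2 lc_b_rc_8_2 lc_b_rc_10_2 lc_b_rc_26_1 lc_b_rc_8_2 lc_b_rc_9_2) (@D3.rec (fun _ => (Cert rels S Gen.b)) lc_b_rc_9_2 lc_b_rc_9_2 lc_b_rc_8_2 lc_b_rc_10_2 lc_b_rc_7_4 lc_b_rc_9_2 lc_b_Cert_tree lc_b_Cert_tree lc_b_rc_8_2 lc_b_rc_10_2 lc_b_rc_6_1 lc_b_Cert_tree lc_b_rc_9_2 lc_b_rc_6_1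 lc_b_rc_6_1 lc_b_rc_9_2 lc_b_rc_26_5 lc_b_rc_26_1 lc_b_rc_8_2 lc_b_rc_9_2 lc_b_Cert_tree lc_b_Cert_tree lc_b_rc_8_2 lc_b_rc_10_2 lc_b_rc_6_1 lc_b_rc_26_7 lc_b_rc_8_2 lc_b_rc_9_2 lc_b_rc_6_1 lc_b_rc_26_5 lc_b_rc_9_2 lc_b_Cert_tree lc_b_Cert_tree lc_b_Cert_tree lc_b_rc_10_2 lc_b_rc_6_1 lc_b_rc_8_0 lc_b_rc_8_2 lc_b_rc_9_2 lc_b_rc_6_1 lc_b_Cert_tree lc_b_rc_8_2 lc_b_rc_26_7 lc_b_rc_10_2 lc_b_Cert_tree lc_b_Cert_tree lc_b_rc_10_2 lc_b_rc_26_1 lc_b_rc_1_3 lc_b_rc_9_2 lc_b_rc_8_2 lc_b_rc_8_2 lc_b_rc_9_2 lc_b_rc_10_0 lc_b_rc_1_3 lc_b_rc_8_2 lc_b_rc_9_2 lc_b_Cert_tree lc_b_rc_6_1 lc_b_rc_8_2 lc_b_rc_9_2 lc_b_rc_6_1) (@D3.rec (fun _ => (Cert rels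 S Gen.b)) lc_b_Cert_tree lc_b_rc_9_2 lc_b_Cert_tree lc_b_Cert_tree lc_b_rc_6_1 lc_b_rc_7_4 lc_b_Cert_tree lc_b_rc_6_1 lc_b_rc_8_2 lc_b_Cert_tree lc_b_rc_1_3 lc_b_rc_8_2 lc_b_Cert_tree lc_b_Cert_tree lc_b_Cert_tree lc_b_rc_9_2 lc_b_rc_6_1 lc_b_Cert_tree lc_b_rc_1_3 lc_b_rc_8_2 lc_b_rc_9_2 lc_b_Cert_tree lc_b_rc_6_1 lc_b_rc_8_2 lc_b_rc_9_2 lc_b_rc_9_2 lc_b_Cert_tree lc_b_rc_26_5 lc_b_rc_8_2 lc_b_rc_6_1 lc_b_rc_26_5 lc_b_rc_8_2 lc_b_rc_6_1 lc_b_rc_26_5 lc_b_rc_10_2 lc_b_rc_7_2 lc_b_rc_9_2 lc_b_rc_8_2 lc_b_rc_9_2 lc_b_rc_9_2 lc_b_rc_8_2 lc_b_rc_6_1 lc_b_rc_8_2 lc_b_rc_9_2 lc_b_rc_6_1 lc_b_rc_9_2 lc_b_rc_9_2 lc_b_rc_7_4 lc_b_rc_7_4 lc_b_rc_8_2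 lc_b_rc_10_2 lc_b_Cert_tree lc_b_Cert_tree lc_b_rc_10_2 lc_b_rc_8_2 lc_b_rc_9_2 lc_b_rc_9_2 lc_b_rc_6_1 lc_b_rc_26_1 lc_b_rc_8_2 lc_b_Cert_tree lc_b_rc_1_3) (@D3.rec (fun _ => (Cert rels S Gen.b)) lc_b_rc_9_2 lc_b_rc_8_2 lc_b_Cert_tree lc_b_rc_6_1 lc_b_Cert_tree lc_b_rc_8_2 lc_b_rc_10_2 lc_b_rc_6_1 lc_b_rc_6_1 lc_b_rc_8_2 lc_b_rc_26_5 lc_b_rc_6_1 lc_b_rc_26_5 lc_b_rc_8_2 lc_b_rc_9_2 lc_b_rc_7_0 lc_b_rc_7_4 lc_b_rc_9_2 lc_b_Cert_tree lc_b_rc_26_1 lc_b_rc_8_2 lc_b_rc_10_2 lc_b_rc_25_4 lc_b_rc_9_2 lc_b_rc_8_2 lc_b_rc_10_2 lc_b_rc_6_1 lc_b_Cert_tree lc_b_rc_8_2 lc_b_rc_8_2 lc_b_rc_6_1 lc_b_Cert_tree lc_b_rc_8_2 lc_b_rc_9_2 lc_b_Cert_tree lc_b_Cert_tree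 lc_b_rc_7_4 lc_b_rc_10_2 lc_b_rc_26_7 lc_b_rc_1_1 lc_b_rc_8_2 lc_b_rc_9_2 lc_b_rc_6_1 lc_b_Cert_tree lc_b_rc_9_2 lc_b_rc_1_5 lc_b_rc_1_3 lc_b_rc_7_4 lc_b_rc_8_2 lc_b_rc_9_2 lc_b_Cert_tree lc_b_rc_9_2 lc_b_rc_8_2 lc_b_rc_6_1 lc_b_Cert_tree lc_b_rc_9_2 lc_b_rc_6_1 lc_b_Cert_tree lc_b_rc_9_2 lc_b_rc_6_1 lc_b_rc_6_1 lc_b_rc_8_2) (@D3.rec (fun _ => (Cert rels S Gen.b)) lc_b_rc_9_2 lc_b_Cert_tree lc_b_Cert_tree lc_b_rc_9_2 lc_b_Cert_tree lc_b_rc_6_1 lc_b_Cert_tree lc_b_rc_9_2 lc_b_rc_8_2 lc_b_rc_9_2 lc_b_rc_9_0 lc_b_rc_9_2 lc_b_rc_9_2 lc_b_rc_9_2 lc_b_rc_9_2 lc_b_rc_6_1 lc_b_rc_26_7 lc_b_rc_8_2 lc_b_rc_8_2 lc_b_rc_7_2 lc_b_Cert_tree lc_b_Cert_tree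 lc_b_Cert_tree lc_b_rc_6_1 lc_b_rc_9_2 lc_b_rc_8_2 lc_b_rc_26_1 lc_b_rc_8_2 lc_b_rc_7_2 lc_b_rc_7_4 lc_b_rc_9_2 lc_b_Cert_tree lc_b_rc_1_1 lc_b_rc_26_1 lc_b_rc_6_1 lc_b_rc_26_7 lc_b_rc_9_2 lc_b_rc_26_1 lc_b_rc_7_4 lc_b_rc_8_2 lc_b_rc_9_2 lc_b_Cert_tree lc_b_rc_26_5 lc_b_rc_8_2 lc_b_rc_10_2 lc_b_rc_6_1 lc_b_rc_8_2 lc_b_rc_8_2 lc_b_rc_9_2 lc_b_Cert_tree lc_b_rc_8_0 lc_b_Cert_tree lc_b_rc_10_2 lc_b_rc_6_1 lc_b_rc_7_4 lc_b_rc_8_2 lc_b_rc_9_2 lc_b_rc_6_1 lc_b_Cert_tree lc_b_rc_8_2 lc_b_rc_9_2 lc_b_Cert_tree) (@D3.rec (fun _ => (Cert rels S Gen.b)) lc_b_Cert_tree lc_b_Cert_tree lc_b_rc_10_2 lc_b_rc_1_3 lc_b_rc_8_2 lc_b_rc_25_12 lc_b_rc_9_2 lc_b_rc_26_1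 lc_b_rc_1_1 lc_b_rc_8_2 lc_b_rc_9_2 lc_b_rc_10_2 lc_b_rc_9_2 lc_b_rc_6_1 lc_b_rc_1_3 lc_b_rc_8_2 lc_b_rc_9_2 lc_b_rc_6_1 lc_b_rc_8_2 lc_b_rc_9_2 lc_b_Cert_tree lc_b_Cert_tree lc_b_rc_6_1 lc_b_rc_10_2 lc_b_rc_9_2 lc_b_rc_8_2 lc_b_rc_9_2 lc_b_rc_9_2 lc_b_rc_8_2 lc_b_rc_6_1 lc_b_rc_8_2 lc_b_rc_9_2 lc_b_rc_6_1 lc_b_rc_8_2 lc_b_rc_6_1 lc_b_rc_6_1 lc_b_rc_9_2 lc_b_Cert_tree lc_b_rc_6_1 lc_b_rc_7_4 lc_b_rc_8_2 lc_b_rc_10_2 lc_b_rc_9_2 lc_b_rc_10_2 lc_b_rc_26_5 lc_b_rc_7_0 lc_b_rc_8_2 lc_b_rc_9_2 lc_b_rc_10_2 lc_b_rc_7_0 lc_b_rc_8_2 lc_b_rc_10_2 lc_b_rc_8_2 lc_b_rc_9_2 lc_b_rc_8_2 lc_b_rc_9_2 lc_b_rc_9_2 lc_b_rc_8_2 lc_b_rc_26_1 lc_b_rc_9_2 lc_b_rc_6_1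 lc_b_rc_6_1) (@D3.rec (fun _ => (Cert rels S Gen.b)) lc_b_rc_8_2 lc_b_rc_10_2 lc_b_Cert_tree lc_b_rc_9_2 lc_b_rc_6_1 lc_b_rc_1_5 lc_b_rc_8_2 lc_b_rc_10_2 lc_b_rc_6_1 lc_b_rc_9_2 lc_b_rc_26_7 lc_b_Cert_tree lc_b_rc_10_2 lc_b_Cert_tree lc_b_rc_8_2 lc_b_rc_10_2 lc_b_rc_6_1 lc_b_rc_6_1 lc_b_rc_8_2 lc_b_rc_6_1 lc_b_rc_6_1 lc_b_rc_7_2 lc_b_rc_8_2 lc_b_rc_9_2 lc_b_rc_6_1 lc_b_Cert_tree lc_b_Cert_tree lc_b_rc_10_2 lc_b_rc_7_4 lc_b_rc_9_2 lc_b_rc_6_1 lc_b_rc_26_7 lc_b_rc_8_2 lc_b_rc_10_2 lc_b_rc_6_1 lc_b_rc_8_2 lc_b_rc_1_3 lc_b_rc_6_1 lc_b_rc_8_2 lc_b_rc_9_2 lc_b_Cert_tree lc_b_Cert_tree lc_b_Cert_tree lc_b_rc_10_2 lc_b_rc_6_1 lc_b_rc_9_2 lc_b_Cert_tree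 lc_b_Cert_tree lc_b_rc_6_1 lc_b_rc_10_2 lc_b_rc_7_4 lc_b_rc_9_2 lc_b_rc_8_2 lc_b_rc_7_2 lc_b_rc_8_2 lc_b_rc_9_2 lc_b_rc_9_2 lc_b_rc_1_3 lc_b_rc_8_2 lc_b_rc_26_1 lc_b_rc_9_2 lc_b_rc_26_5) (@D3.rec (fun _ => (Cert rels S Gen.b)) lc_b_rc_26_5 lc_b_rc_8_2 lc_b_rc_1_3 lc_b_rc_9_2 lc_b_rc_9_2 lc_b_rc_10_0 lc_b_rc_8_2 lc_b_rc_6_1 lc_b_rc_10_2 lc_b_rc_9_2 lc_b_Cert_tree lc_b_rc_26_7 lc_b_rc_8_2 lc_b_rc_10_2 lc_b_rc_6_1 lc_b_rc_8_2 lc_b_rc_6_1 lc_b_rc_8_2 lc_b_rc_9_2 lc_b_Cert_tree lc_b_Cert_tree lc_b_Cert_tree lc_b_rc_10_2 lc_b_rc_1_1 lc_b_rc_9_2 lc_b_rc_6_1 lc_b_rc_8_2 lc_b_rc_9_2 lc_b_rc_26_5 lc_b_Cert_tree lc_b_Cert_tree lc_b_rc_10_2 lc_b_rc_9_2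 lc_b_rc_6_1 lc_b_rc_9_2 lc_b_rc_7_4 lc_b_rc_7_4 lc_b_rc_6_1 lc_b_rc_10_2 lc_b_rc_9_2 lc_b_rc_26_5 lc_b_rc_9_2 lc_b_rc_9_2 lc_b_rc_1_3 lc_b_rc_9_2 lc_b_rc_6_1 lc_b_Cert_tree lc_b_rc_8_2 lc_b_rc_7_0 lc_b_rc_8_2 lc_b_rc_10_2 lc_b_rc_26_5 lc_b_Cert_tree lc_b_rc_7_0 lc_b_Cert_tree lc_b_rc_8_2 lc_b_rc_10_2 lc_b_rc_6_1 lc_b_rc_8_2 lc_b_rc_6_1 lc_b_rc_8_2 lc_b_Cert_tree) (@D3.rec (fun _ => (Cert rels S Gen.b)) lc_b_Cert_tree lc_b_Cert_tree lc_b_rc_10_2 lc_b_rc_1_1 lc_b_rc_9_2 lc_b_rc_1_1 lc_b_rc_8_2 lc_b_rc_10_2 lc_b_rc_9_2 lc_b_rc_7_2 lc_b_Cert_tree lc_b_rc_1_3 lc_b_rc_9_2 lc_b_rc_8_2 lc_b_rc_9_0 lc_b_rc_8_2 lc_b_rc_10_2 lc_b_rc_6_1 lc_b_Cert_tree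 lc_b_rc_8_2 lc_b_rc_9_2 lc_b_rc_6_1 lc_b_rc_9_0 lc_b_rc_8_2 lc_b_rc_26_1 lc_b_Cert_tree lc_b_Cert_tree lc_b_rc_10_2 lc_b_rc_26_5 lc_b_rc_6_1 lc_b_rc_8_2 lc_b_rc_9_2 lc_b_rc_26_1 lc_b_rc_6_1 lc_b_Cert_tree lc_b_rc_9_2 lc_b_rc_8_2 lc_b_rc_6_1 lc_b_rc_1_1 lc_b_rc_8_2 lc_b_Cert_tree lc_b_rc_9_2 lc_b_rc_6_1 lc_b_Cert_tree lc_b_rc_9_2 lc_b_rc_6_1 lc_b_Cert_tree lc_b_rc_9_2 lc_b_Cert_tree lc_b_Cert_tree lc_b_rc_6_1 lc_b_rc_8_2 lc_b_rc_10_2 lc_b_rc_9_2 lc_b_rc_9_2 lc_b_rc_26_7 lc_b_rc_6_1 lc_b_rc_8_2 lc_b_rc_9_2 lc_b_rc_7_4 lc_b_Cert_tree lc_b_rc_8_2) (@D3.rec (fun _ => (Cert rels S Gen.b)) lc_b_rc_10_2 lc_b_rc_6_1 lc_b_rc_8_2 lc_b_rc_9_2 lc_b_rc_8_2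 lc_b_Cert_tree lc_b_rc_8_2 lc_b_Cert_tree lc_b_rc_10_2 lc_b_rc_9_2 lc_b_Cert_tree lc_b_Cert_tree lc_b_rc_8_2 lc_b_rc_10_2 lc_b_rc_8_2 lc_b_rc_6_1 lc_b_rc_8_2 lc_b_rc_9_2 lc_b_rc_10_2 lc_b_Cert_tree lc_b_rc_10_2 lc_b_rc_6_1 lc_b_rc_7_2 lc_b_rc_26_5 lc_b_rc_6_1 lc_b_rc_9_2 lc_b_rc_9_2 lc_b_Cert_tree lc_b_Cert_tree lc_b_rc_8_2 lc_b_rc_10_2 lc_b_rc_8_2 lc_b_rc_7_0 lc_b_rc_6_1 lc_b_rc_8_2 lc_b_rc_8_0 lc_b_rc_6_1 lc_b_Cert_tree lc_b_rc_10_2 lc_b_rc_6_1 lc_b_rc_10_2 lc_b_rc_26_1 lc_b_rc_8_2 lc_b_rc_9_2 lc_b_rc_10_2 lc_b_rc_6_1 lc_b_rc_8_2 lc_b_rc_9_2 lc_b_Cert_tree lc_b_rc_8_2 lc_b_Cert_tree lc_b_rc_9_2 lc_b_rc_6_1 lc_b_rc_8_2 lc_b_rc_10_2 lc_b_rc_9_2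 lc_b_rc_1_3 lc_b_rc_9_2 lc_b_rc_9_2 lc_b_rc_8_2 lc_b_rc_26_5 lc_b_rc_7_4) (@D3.rec (fun _ => (Cert rels S Gen.b)) lc_b_rc_9_2 lc_b_rc_10_2 lc_b_rc_8_2 lc_b_rc_10_2 lc_b_rc_6_1 lc_b_Cert_tree lc_b_rc_8_2 lc_b_rc_9_2 lc_b_rc_6_1 lc_b_Cert_tree lc_b_rc_9_2 lc_b_rc_1_3 lc_b_Cert_tree lc_b_Cert_tree lc_b_rc_6_1 lc_b_rc_8_2 lc_b_rc_10_2 lc_b_rc_9_2 lc_b_rc_8_2 lc_b_rc_6_1 lc_b_rc_6_1 lc_b_rc_8_2 lc_b_rc_1_5 lc_b_rc_6_1 lc_b_rc_26_5 lc_b_rc_8_2 lc_b_rc_7_4 lc_b_Cert_tree lc_b_Cert_tree lc_b_Cert_tree lc_b_rc_26_1 lc_b_rc_8_2 lc_b_rc_8_2 lc_b_rc_1_3 lc_b_rc_8_2 lc_b_rc_9_2 lc_b_rc_6_1 lc_b_Cert_tree lc_b_Cert_tree lc_b_rc_9_2 lc_b_rc_7_4 lc_b_Cert_tree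 lc_b_rc_8_2 lc_b_rc_10_2 lc_b_rc_8_2 lc_b_rc_26_7 lc_b_rc_6_1 lc_b_Cert_tree lc_b_rc_9_2 lc_b_Cert_tree lc_b_rc_9_2 lc_b_Cert_tree lc_b_Cert_tree lc_b_rc_6_1 lc_b_rc_9_2 lc_b_rc_10_0 lc_b_rc_8_2 lc_b_rc_8_2 lc_b_rc_10_2 lc_b_Cert_tree lc_b_rc_8_2 lc_b_rc_1_3) (@D3.rec (fun _ => (Cert rels S Gen.b)) lc_b_rc_9_2 lc_b_Cert_tree lc_b_rc_8_2 lc_b_Cert_tree lc_b_rc_9_0 lc_b_rc_10_2 lc_b_Cert_tree lc_b_rc_1_1 lc_b_rc_8_2 lc_b_rc_9_2 lc_b_Cert_tree lc_b_Cert_tree lc_b_rc_6_1 lc_b_rc_9_2 lc_b_Cert_tree lc_b_rc_26_5 lc_b_rc_8_2 lc_b_rc_10_2 lc_b_rc_10_0 lc_b_rc_8_0 lc_b_rc_8_2 lc_b_rc_9_2 lc_b_rc_6_1 lc_b_rc_7_4 lc_b_rc_9_2 lc_b_Cert_tree lc_b_rc_8_2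 lc_b_rc_6_1 lc_b_rc_6_1 lc_b_rc_9_2 lc_b_rc_6_1 lc_b_rc_9_2 lc_b_Cert_tree lc_b_Cert_tree lc_b_rc_1_3 lc_b_rc_8_2 lc_b_rc_10_2 lc_b_rc_9_2 lc_b_rc_9_2 lc_b_Cert_tree lc_b_rc_7_4 lc_b_rc_9_2 lc_b_Cert_tree lc_b_rc_8_2 lc_b_rc_9_2 lc_b_Cert_tree lc_b_rc_6_1 lc_b_rc_25_4 lc_b_rc_9_2 lc_b_rc_8_2 lc_b_rc_8_2 lc_b_Cert_tree lc_b_rc_9_2 lc_b_rc_6_1 lc_b_rc_8_0 lc_b_rc_9_2 lc_b_rc_6_1 lc_b_Cert_tree lc_b_rc_9_2 lc_b_Cert_tree lc_b_Cert_tree lc_b_rc_6_1) (@D3.rec (fun _ => (Cert rels S Gen.b)) lc_b_rc_8_2 lc_b_Cert_tree lc_b_rc_1_3 lc_b_rc_8_2 lc_b_rc_9_2 lc_b_Cert_tree lc_b_rc_8_2 lc_b_rc_6_1 lc_b_rc_8_2 lc_b_rc_6_1 lc_b_rc_26_1 lc_b_rc_1_3 lc_b_rc_8_2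 lc_b_rc_8_2 lc_b_rc_9_2 lc_b_rc_6_1 lc_b_Cert_tree lc_b_rc_26_7 lc_b_rc_8_2 lc_b_rc_9_2 lc_b_rc_26_1 lc_b_Cert_tree lc_b_Cert_tree lc_b_rc_9_2 lc_b_Cert_tree lc_b_Cert_tree lc_b_rc_8_2 lc_b_rc_6_1 lc_b_Cert_tree lc_b_rc_9_2 lc_b_rc_6_1 lc_b_Cert_tree lc_b_rc_8_2 lc_b_rc_9_2 lc_b_rc_6_1 lc_b_rc_9_2 lc_b_Cert_tree lc_b_Cert_tree lc_b_rc_8_2 lc_b_rc_10_2 lc_b_rc_6_1 lc_b_Cert_tree lc_b_Cert_tree lc_b_rc_6_1 lc_b_rc_8_2 lc_b_rc_8_2 lc_b_rc_6_1 lc_b_rc_8_2 lc_b_rc_6_1 lc_b_rc_8_2 lc_b_rc_26_5 lc_b_Cert_tree lc_b_rc_1_3 lc_b_rc_8_2 lc_b_rc_9_2 lc_b_rc_9_2 lc_b_rc_1_1 lc_b_rc_6_1 lc_b_rc_1_3 lc_b_rc_8_2 lc_b_rc_9_2 lc_b_Cert_tree) (@D3.rec (fun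 _ => (Cert rels S Gen.b)) lc_b_Cert_tree lc_b_Cert_tree lc_b_rc_9_2 lc_b_rc_8_2 lc_b_rc_6_1 lc_b_rc_26_1 lc_b_rc_8_2 lc_b_rc_9_2 lc_b_rc_10_2 lc_b_rc_8_2 lc_b_Cert_tree lc_b_rc_9_2 lc_b_rc_9_0 lc_b_rc_8_2 lc_b_rc_10_2 lc_b_rc_6_1 lc_b_rc_9_2 lc_b_rc_26_5 lc_b_Cert_tree lc_b_rc_8_2 lc_b_rc_10_2 lc_b_Cert_tree lc_b_rc_10_2 lc_b_Cert_tree lc_b_rc_8_2 lc_b_rc_1_3 lc_b_rc_8_2 lc_b_rc_9_2 lc_b_rc_8_2 lc_b_rc_9_2 lc_b_Cert_tree lc_b_Cert_tree lc_b_Cert_tree lc_b_rc_9_2 lc_b_rc_8_2 lc_b_rc_8_2 lc_b_Cert_tree lc_b_rc_9_2 lc_b_Cert_tree lc_b_rc_6_1 lc_b_rc_8_2 lc_b_rc_6_1 lc_b_rc_8_2 lc_b_Cert_tree lc_b_rc_9_2 lc_b_Cert_tree lc_b_rc_9_2 lc_b_rc_6_1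 lc_b_rc_9_2 lc_b_rc_6_1 lc_b_rc_6_1 lc_b_rc_26_5 lc_b_rc_9_2 lc_b_rc_8_0 lc_b_rc_6_1 lc_b_Cert_tree lc_b_rc_10_2 lc_b_rc_1_3 lc_b_rc_8_2 lc_b_rc_9_2 lc_b_rc_9_2 lc_b_rc_8_2) (@D3.rec (fun _ => (Cert rels S Gen.b)) lc_b_rc_8_0 lc_b_Cert_tree lc_b_rc_1_3 lc_b_rc_8_2 lc_b_rc_9_2 lc_b_Cert_tree lc_b_rc_9_0 lc_b_rc_1_3 lc_b_rc_8_2 lc_b_rc_9_2 lc_b_rc_1_5 lc_b_rc_1_5 lc_b_rc_6_1 lc_b_rc_8_2 lc_b_Cert_tree lc_b_rc_9_2 lc_b_rc_6_1 lc_b_rc_9_2 lc_b_Cert_tree lc_b_Cert_tree lc_b_rc_10_2 lc_b_rc_7_4 lc_b_rc_9_2 lc_b_rc_6_1 lc_b_rc_6_1 lc_b_rc_8_2 lc_b_rc_10_2 lc_b_rc_1_1 lc_b_rc_9_0 lc_b_rc_9_2 lc_b_rc_10_2 lc_b_rc_8_2 lc_b_rc_9_2 lc_b_Cert_tree lc_b_Cert_tree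 lc_b_rc_10_2 lc_b_rc_6_1 lc_b_rc_8_2 lc_b_rc_8_2 lc_b_rc_9_2 lc_b_Cert_tree lc_b_rc_6_1 lc_b_rc_9_2 lc_b_rc_9_2 lc_b_rc_1_3 lc_b_rc_6_1 lc_b_rc_26_1 lc_b_rc_8_2 lc_b_rc_10_2 lc_b_Cert_tree lc_b_rc_9_0 lc_b_rc_10_2 lc_b_rc_9_2 lc_b_rc_9_2 lc_b_rc_1_3 lc_b_rc_26_7 lc_b_rc_26_7 lc_b_rc_8_2 lc_b_Cert_tree lc_b_Cert_tree lc_b_Cert_tree lc_b_Cert_tree) (@D3.rec (fun _ => (Cert rels S Gen.b)) lc_b_rc_9_2 lc_b_Cert_tree lc_b_rc_8_2 lc_b_rc_8_2 lc_b_rc_6_1 lc_b_rc_26_1 lc_b_rc_8_2 lc_b_rc_9_2 lc_b_rc_6_1 lc_b_rc_8_2 lc_b_Cert_tree lc_b_rc_8_2 lc_b_Cert_tree lc_b_rc_10_2 lc_b_rc_10_0 lc_b_rc_1_3 lc_b_rc_8_2 lc_b_rc_9_2 lc_b_Cert_tree lc_b_Cert_tree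 lc_b_rc_1_3 lc_b_rc_7_0 lc_b_rc_1_3 lc_b_rc_8_2 lc_b_rc_9_2 lc_b_Cert_tree lc_b_rc_9_2 lc_b_rc_8_2 lc_b_rc_6_1 lc_b_Cert_tree lc_b_rc_9_2 lc_b_rc_6_1 lc_b_Cert_tree lc_b_rc_9_2 lc_b_rc_7_4 lc_b_Cert_tree lc_b_rc_6_1 lc_b_rc_8_2 lc_b_rc_10_2 lc_b_rc_9_2 lc_b_rc_6_1 lc_b_rc_6_1 lc_b_rc_26_5 lc_b_rc_1_1 lc_b_rc_8_2 lc_b_rc_9_2 lc_b_rc_6_1 lc_b_Cert_tree lc_b_rc_7_2 lc_b_rc_8_2 lc_b_rc_26_7 lc_b_rc_8_2 lc_b_Cert_tree lc_b_Cert_tree lc_b_rc_26_7 lc_b_rc_6_1 lc_b_rc_8_2 lc_b_rc_6_1 lc_b_rc_8_2 lc_b_Cert_tree lc_b_rc_6_1 lc_b_rc_1_3) (@D3.rec (fun _ => (Cert rels S Gen.b)) lc_b_rc_8_2 lc_b_rc_9_2 lc_b_Cert_tree lc_b_rc_9_2 lc_b_Cert_tree lc_b_rc_8_2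 lc_b_rc_10_2 lc_b_rc_6_1 lc_b_rc_8_2 lc_b_rc_8_0 lc_b_rc_6_1 lc_b_rc_9_2 lc_b_rc_8_2 lc_b_rc_7_4 lc_b_rc_9_2 lc_b_rc_9_2 lc_b_Cert_tree lc_b_rc_7_4 lc_b_rc_8_2 lc_b_rc_10_2 lc_b_Cert_tree lc_b_Cert_tree lc_b_rc_8_2 lc_b_rc_10_2 lc_b_rc_6_1 lc_b_rc_10_2 lc_b_rc_8_2 lc_b_Cert_tree lc_b_rc_10_2 lc_b_rc_8_2 lc_b_rc_8_2 lc_b_Cert_tree lc_b_rc_6_1 lc_b_rc_10_2 lc_b_rc_9_2 lc_b_rc_6_1 lc_b_rc_9_2 lc_b_rc_9_2 lc_b_Cert_tree lc_b_rc_26_1 lc_b_rc_8_2 lc_b_Cert_tree lc_b_Cert_tree lc_b_rc_6_1 lc_b_rc_9_2 lc_b_rc_9_2 lc_b_rc_1_3 lc_b_rc_26_1 lc_b_rc_26_5 lc_b_rc_8_2 lc_b_rc_10_2 lc_b_rc_6_1 lc_b_Cert_tree lc_b_Cert_tree lc_b_rc_10_2 lc_b_Cert_tree lc_b_Cert_tree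 lc_b_rc_1_1 lc_b_rc_9_2 lc_b_Cert_tree lc_b_Cert_tree lc_b_rc_8_2) (@D3.rec (fun _ => (Cert rels S Gen.b)) lc_b_rc_10_2 lc_b_rc_6_1 lc_b_Cert_tree lc_b_rc_8_2 lc_b_rc_9_2 lc_b_rc_6_1 lc_b_Cert_tree lc_b_rc_8_2 lc_b_rc_9_2 lc_b_Cert_tree lc_b_rc_8_2 lc_b_Cert_tree lc_b_rc_10_2 lc_b_rc_6_1 lc_b_rc_1_3 lc_b_Cert_tree lc_b_rc_9_2 lc_b_rc_10_2 lc_b_rc_10_0 lc_b_rc_10_2 lc_b_rc_8_2 lc_b_rc_9_2 lc_b_Cert_tree lc_b_rc_9_2 lc_b_rc_6_1 lc_b_rc_7_4 lc_b_rc_9_2 lc_b_rc_7_4 lc_b_Cert_tree lc_b_Cert_tree lc_b_rc_6_1 lc_b_rc_8_2 lc_b_rc_10_2 lc_b_rc_9_2 lc_b_rc_6_1 lc_b_rc_8_2 lc_b_rc_6_1 lc_b_rc_1_1 lc_b_rc_8_2 lc_b_Cert_tree lc_b_Cert_tree lc_b_Cert_tree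 lc_b_rc_9_2 lc_b_rc_8_2 lc_b_rc_9_2 lc_b_Cert_tree lc_b_rc_9_2 lc_b_rc_10_0 lc_b_rc_8_2 lc_b_Cert_tree lc_b_rc_6_1 lc_b_rc_8_2 lc_b_rc_9_2 lc_b_rc_6_1 lc_b_rc_8_2 lc_b_rc_9_2 lc_b_rc_6_1 lc_b_rc_6_1 lc_b_rc_9_2 lc_b_Cert_tree lc_b_rc_8_2 lc_b_Cert_tree) (@D3.rec (fun _ => (Cert rels S Gen.b)) lc_b_Cert_tree lc_b_Cert_tree lc_b_rc_9_2 lc_b_Cert_tree lc_b_rc_9_2 lc_b_rc_8_2 lc_b_rc_9_2 lc_b_Cert_tree lc_b_rc_26_1 lc_b_rc_8_2 lc_b_rc_10_2 lc_b_rc_6_1 lc_b_rc_8_2 lc_b_rc_8_2 lc_b_Cert_tree lc_b_rc_8_2 lc_b_rc_6_1 lc_b_rc_9_2 lc_b_rc_8_2 lc_b_rc_26_7 lc_b_Cert_tree lc_b_rc_8_2 lc_b_rc_1_3 lc_b_rc_26_7 lc_b_rc_10_2 lc_b_Cert_tree lc_b_rc_1_3 lc_b_rc_8_2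 lc_b_rc_6_1 lc_b_rc_6_1 lc_b_rc_8_2 lc_b_rc_1_1 lc_b_rc_8_2 lc_b_rc_9_2 lc_b_Cert_tree lc_b_rc_10_2 lc_b_Cert_tree lc_b_rc_10_0 lc_b_rc_8_2 lc_b_rc_8_2 lc_b_Cert_tree lc_b_rc_9_2 lc_b_rc_6_1 lc_b_rc_8_2 lc_b_rc_6_1 lc_b_rc_8_2 lc_b_Cert_tree lc_b_rc_9_2 lc_b_Cert_tree lc_b_Cert_tree lc_b_Cert_tree lc_b_rc_9_2 lc_b_Cert_tree lc_b_Cert_tree lc_b_rc_9_2 lc_b_rc_26_1 lc_b_rc_6_1 lc_b_Cert_tree lc_b_rc_1_3 lc_b_rc_8_2 lc_b_Cert_tree lc_b_rc_9_2) (@D3.rec (fun _ => (Cert rels S Gen.b)) lc_b_rc_6_1 lc_b_rc_8_2 lc_b_rc_9_2 lc_b_rc_6_1 lc_b_rc_6_1 lc_b_rc_26_1 lc_b_rc_10_2 lc_b_rc_8_2 lc_b_Cert_tree lc_b_rc_9_2 lc_b_Cert_tree lc_b_Cert_tree lc_b_Cert_tree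 lc_b_rc_9_2 lc_b_rc_6_1 lc_b_Cert_tree lc_b_rc_9_2 lc_b_rc_6_1 lc_b_Cert_tree lc_b_rc_9_2 lc_b_Cert_tree lc_b_Cert_tree lc_b_rc_6_1 lc_b_rc_8_2 lc_b_Cert_tree lc_b_Cert_tree lc_b_rc_9_2 lc_b_rc_10_2 lc_b_rc_6_1 lc_b_rc_6_1 lc_b_rc_6_1 lc_b_rc_8_2 lc_b_rc_6_1 lc_b_rc_6_1 lc_b_Cert_tree lc_b_rc_9_2 lc_b_Cert_tree lc_b_rc_6_1 lc_b_rc_8_2 lc_b_rc_6_1 lc_b_rc_8_2 lc_b_rc_1_5 lc_b_rc_1_3 lc_b_rc_8_2 lc_b_Cert_tree lc_b_rc_8_2 lc_b_Cert_tree lc_b_rc_8_2 lc_b_rc_9_2 lc_b_rc_9_2 lc_b_Cert_tree lc_b_rc_26_7 lc_b_rc_1_3 lc_b_rc_8_2 lc_b_Cert_tree lc_b_rc_9_2 lc_b_Cert_tree lc_b_Cert_tree lc_b_rc_9_2 lc_b_rc_6_1 lc_b_Cert_tree lc_b_rc_9_2) (@D3.rec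 (fun _ => (Cert rels S Gen.b)) lc_b_rc_6_1 lc_b_Cert_tree lc_b_rc_9_2 lc_b_rc_6_1 lc_b_rc_8_2 lc_b_rc_9_2 lc_b_Cert_tree lc_b_Cert_tree lc_b_rc_8_2 lc_b_rc_10_2 lc_b_rc_6_1 lc_b_rc_6_1 lc_b_Cert_tree lc_b_rc_8_2 lc_b_rc_6_1 lc_b_rc_6_1 lc_b_rc_9_2 lc_b_rc_9_2 lc_b_rc_10_2 lc_b_rc_6_1 lc_b_Cert_tree lc_b_rc_9_2 lc_b_rc_26_1 lc_b_rc_6_1 lc_b_rc_8_2 lc_b_rc_9_2 lc_b_rc_9_2 lc_b_rc_6_1 lc_b_rc_8_2 lc_b_rc_9_2 lc_b_Cert_tree lc_b_rc_9_2 lc_b_rc_9_2 lc_b_rc_6_1 lc_b_rc_9_2 lc_b_Cert_tree lc_b_rc_8_2 lc_b_rc_10_2 lc_b_rc_6_1 lc_b_rc_9_2 lc_b_rc_9_0 lc_b_rc_9_2 lc_b_rc_10_2 lc_b_rc_6_1 lc_b_rc_9_2 lc_b_rc_10_2 lc_b_rc_9_2 lc_b_rc_10_2 lc_b_rc_9_2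 lc_b_Cert_tree lc_b_rc_10_2 lc_b_rc_6_1 lc_b_rc_9_2 lc_b_rc_6_1 lc_b_rc_8_2 lc_b_rc_9_2 lc_b_Cert_tree lc_b_Cert_tree lc_b_rc_1_3 lc_b_rc_8_2 lc_b_rc_10_2 lc_b_rc_9_2) (@D3.rec (fun _ => (Cert rels S Gen.b)) lc_b_rc_9_2 lc_b_Cert_tree lc_b_rc_9_2 lc_b_rc_10_2 lc_b_rc_9_2 lc_b_rc_8_0 lc_b_rc_9_2 lc_b_rc_10_2 lc_b_rc_6_1 lc_b_rc_9_2 lc_b_rc_6_1 lc_b_rc_10_2 lc_b_rc_6_1 lc_b_rc_9_0 lc_b_rc_1_3 lc_b_rc_8_2 lc_b_rc_9_2 lc_b_rc_8_2 lc_b_rc_8_2 lc_b_rc_9_2 lc_b_rc_8_2 lc_b_rc_9_2 lc_b_rc_9_2 lc_b_rc_8_2 lc_b_rc_1_3 lc_b_rc_6_1 lc_b_Cert_tree lc_b_Cert_tree lc_b_rc_9_2 lc_b_rc_10_2 lc_b_rc_6_1 lc_b_rc_9_2 lc_b_rc_6_1 lc_b_rc_9_2 lc_b_rc_6_1 lc_b_rc_9_2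 lc_b_Cert_tree lc_b_Cert_tree lc_b_rc_10_2 lc_b_rc_9_2 lc_b_rc_9_2 lc_b_rc_9_2 lc_b_rc_6_1 lc_b_rc_1_5 lc_b_rc_7_4 lc_b_rc_6_1 lc_b_Cert_tree lc_b_rc_10_2 lc_b_rc_7_2 lc_b_rc_9_2 lc_b_rc_8_2 lc_b_rc_7_4 lc_b_rc_9_2 lc_b_rc_9_0 lc_b_rc_6_1 lc_b_rc_10_2 lc_b_rc_7_4 lc_b_rc_6_1 lc_b_rc_6_1 lc_b_rc_8_0 lc_b_rc_6_1 lc_b_rc_9_2) (@D3.rec (fun _ => (Cert rels S Gen.b)) lc_b_rc_26_7 lc_b_rc_26_7 lc_b_rc_8_2 lc_b_rc_10_2 lc_b_Cert_tree lc_b_rc_9_2 lc_b_rc_8_2 lc_b_rc_1_1 lc_b_rc_8_2 lc_b_rc_9_2 lc_b_rc_1_5 lc_b_rc_9_2 lc_b_rc_1_1 lc_b_rc_6_1 lc_b_rc_9_2 lc_b_rc_9_2 lc_b_rc_6_1 lc_b_rc_1_5 lc_b_rc_9_2 lc_b_rc_26_7 lc_b_rc_8_2 lc_b_rc_9_2 lc_b_Cert_tree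 lc_b_Cert_tree lc_b_rc_10_2 lc_b_rc_6_1 lc_b_rc_8_2 lc_b_rc_9_2 lc_b_rc_6_1 lc_b_rc_8_2 lc_b_rc_9_2 lc_b_Cert_tree lc_b_Cert_tree lc_b_rc_6_1 lc_b_rc_8_2 lc_b_rc_6_1 lc_b_rc_8_2 lc_b_Cert_tree lc_b_rc_9_2 lc_b_Cert_tree lc_b_rc_9_2 lc_b_Cert_tree lc_b_rc_9_2 lc_b_rc_7_4 lc_b_rc_9_2 lc_b_rc_6_1 lc_b_rc_8_2 lc_b_rc_10_2 lc_b_rc_9_2 lc_b_Cert_tree lc_b_rc_9_2 lc_b_Cert_tree lc_b_rc_9_2 lc_b_rc_26_1 lc_b_Cert_tree lc_b_rc_9_2 lc_b_Cert_tree lc_b_Cert_tree lc_b_rc_6_1 lc_b_rc_8_2 lc_b_rc_9_2 lc_b_rc_26_5) (@D3.rec (fun _ => (Cert rels S Gen.b)) lc_b_rc_9_2 lc_b_rc_10_2 lc_b_rc_6_1 lc_b_Cert_tree lc_b_rc_9_2 lc_b_rc_6_1 lc_b_rc_8_2 lc_b_rc_9_2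 lc_b_rc_8_2 lc_b_rc_10_2 lc_b_rc_9_2 lc_b_Cert_tree lc_b_rc_6_1 lc_b_rc_8_2 lc_b_rc_9_2 lc_b_rc_26_5 lc_b_rc_8_0 lc_b_rc_10_2 lc_b_rc_9_2 lc_b_rc_6_1 lc_b_rc_8_2 lc_b_rc_9_2 lc_b_rc_9_2 lc_b_rc_9_0 lc_b_rc_9_0 lc_b_rc_10_2 lc_b_rc_6_1 lc_b_rc_8_2 lc_b_rc_9_2 lc_b_rc_6_1 lc_b_rc_8_2 lc_b_rc_9_2 lc_b_Cert_tree lc_b_Cert_tree lc_b_rc_1_3 lc_b_rc_8_2 lc_b_Cert_tree lc_b_Cert_tree lc_b_Cert_tree lc_b_rc_7_4 lc_b_rc_8_2 lc_b_rc_9_2 lc_b_Cert_tree lc_b_rc_6_1 lc_b_rc_8_2 lc_b_rc_9_2 lc_b_Cert_tree lc_b_Cert_tree lc_b_rc_10_2 lc_b_rc_6_1 lc_b_rc_8_2 lc_b_rc_9_2 lc_b_rc_8_2 lc_b_rc_6_1 lc_b_rc_6_1 lc_b_Cert_tree lc_b_rc_8_2 lc_b_rc_9_2 lc_b_rc_6_1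 lc_b_Cert_tree lc_b_rc_8_2 lc_b_rc_9_2) (@D3.rec (fun _ => (Cert rels S Gen.b)) lc_b_rc_1_3 lc_b_Cert_tree lc_b_rc_7_4 lc_b_rc_9_2 lc_b_rc_8_2 lc_b_rc_6_1 lc_b_rc_7_2 lc_b_rc_26_5 lc_b_rc_1_3 lc_b_rc_6_1 lc_b_rc_10_2 lc_b_rc_10_2 lc_b_rc_26_5 lc_b_rc_7_0 lc_b_rc_6_1 lc_b_rc_8_2 lc_b_rc_9_0 lc_b_rc_10_2 lc_b_rc_9_2 lc_b_rc_26_1 lc_b_rc_10_0 lc_b_rc_9_0 lc_b_rc_8_2 lc_b_rc_9_2 lc_b_rc_6_1 lc_b_rc_8_2 lc_b_rc_25_0 lc_b_rc_26_5 lc_b_rc_9_2 lc_b_Cert_tree lc_b_rc_26_5 lc_b_rc_26_1 lc_b_rc_8_2 lc_b_rc_6_1 lc_b_rc_10_2 lc_b_rc_9_2 lc_b_rc_6_1 lc_b_rc_9_0 lc_b_Cert_tree lc_b_rc_8_2 lc_b_rc_8_0 lc_b_rc_26_5 lc_b_Cert_tree lc_b_Cert_tree lc_b_rc_10_2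 lc_b_rc_9_2 lc_b_rc_9_2 lc_b_rc_6_1 lc_b_rc_8_2 lc_b_rc_6_1 lc_b_rc_9_2 lc_b_Cert_tree lc_b_rc_26_7 lc_b_rc_26_5 lc_b_rc_26_5 lc_b_rc_6_1 lc_b_rc_9_2 lc_b_rc_26_7 lc_b_rc_9_2 lc_b_rc_9_0 lc_b_rc_26_1 lc_b_rc_8_2)
def ce_b_8 : D2 → D3 → (Cert rels S Gen.b) := @D2.rec (fun _ => D3 → (Cert rels S Gen.b)) (@D3.rec (fun _ => (Cert rels S Gen.b)) lc_b_rc_7_2 lc_b_rc_6_1 lc_b_rc_8_2 lc_b_rc_26_1 lc_b_rc_1_1 lc_b_rc_6_1 lc_b_rc_9_2 lc_b_rc_9_2 lc_b_rc_8_2 lc_b_rc_10_2 lc_b_rc_9_2 lc_b_rc_6_1 lc_b_rc_8_2 lc_b_rc_6_1 lc_b_rc_6_1 lc_b_rc_8_2 lc_b_rc_26_5 lc_b_rc_8_2 lc_b_rc_8_2 lc_b_rc_26_1 lc_b_rc_6_1 lc_b_rc_9_2 lc_b_Cert_tree lc_b_rc_6_1 lc_b_rc_10_2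 lc_b_rc_9_2 lc_b_Cert_tree lc_b_rc_1_5 lc_b_rc_9_2 lc_b_rc_9_2 lc_b_rc_1_1 lc_b_rc_26_7 lc_b_rc_9_2 lc_b_rc_6_1 lc_b_rc_7_0 lc_b_rc_9_2 lc_b_rc_8_2 lc_b_rc_6_1 lc_b_rc_9_2 lc_b_rc_7_4 lc_b_Cert_tree lc_b_rc_10_2 lc_b_rc_8_2 lc_b_rc_7_2 lc_b_rc_6_1 lc_b_Cert_tree lc_b_rc_8_2 lc_b_rc_10_0 lc_b_rc_6_1 lc_b_rc_9_0 lc_b_rc_8_2 lc_b_rc_26_5 lc_b_rc_1_3 lc_b_rc_7_2 lc_b_rc_8_2 lc_b_rc_9_2 lc_b_rc_10_2 lc_b_rc_1_3 lc_b_rc_8_2 lc_b_Cert_tree lc_b_rc_6_1 lc_b_rc_26_5) (@D3.rec (fun _ => (Cert rels S Gen.b)) lc_b_Cert_tree lc_b_rc_1_3 lc_b_rc_8_2 lc_b_rc_8_2 lc_b_rc_1_3 lc_b_Cert_tree lc_b_rc_9_2 lc_b_rc_10_2 lc_b_rc_6_1 lc_b_rc_9_2 lc_b_Cert_tree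 lc_b_Cert_tree lc_b_rc_10_2 lc_b_rc_9_2 lc_b_rc_9_2 lc_b_rc_8_2 lc_b_rc_9_2 lc_b_rc_9_2 lc_b_Cert_tree lc_b_Cert_tree lc_b_rc_10_2 lc_b_rc_6_1 lc_b_rc_8_2 lc_b_rc_9_2 lc_b_rc_6_1 lc_b_rc_8_2 lc_b_rc_9_2 lc_b_rc_6_1 lc_b_rc_9_2 lc_b_rc_6_1 lc_b_rc_10_2 lc_b_rc_9_2 lc_b_rc_9_2 lc_b_rc_10_2 lc_b_Cert_tree lc_b_Cert_tree lc_b_rc_1_3 lc_b_rc_8_2 lc_b_rc_10_2 lc_b_rc_9_2 lc_b_rc_25_16 lc_b_rc_9_0 lc_b_Cert_tree lc_b_rc_10_2 lc_b_rc_10_2 lc_b_rc_10_2 lc_b_rc_26_1 lc_b_rc_1_1 lc_b_rc_6_1 lc_b_rc_9_2 lc_b_rc_8_2 lc_b_rc_6_1 lc_b_rc_1_3 lc_b_Cert_tree lc_b_rc_8_0 lc_b_Cert_tree lc_b_rc_9_2 lc_b_rc_10_2 lc_b_rc_9_2 lc_b_rc_6_1 lc_b_rc_9_2 lc_b_Cert_tree)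 (@D3.rec (fun _ => (Cert rels S Gen.b)) lc_b_Cert_tree lc_b_rc_10_2 lc_b_rc_9_2 lc_b_rc_8_2 lc_b_rc_9_2 lc_b_rc_6_1 lc_b_rc_9_2 lc_b_rc_8_2 lc_b_rc_8_0 lc_b_rc_1_1 lc_b_rc_9_2 lc_b_rc_7_2 lc_b_rc_8_2 lc_b_rc_9_2 lc_b_rc_7_4 lc_b_rc_1_3 lc_b_rc_8_2 lc_b_rc_10_2 lc_b_rc_9_2 lc_b_rc_9_2 lc_b_rc_8_2 lc_b_rc_6_1 lc_b_rc_6_1 lc_b_rc_9_2 lc_b_rc_8_2 lc_b_rc_6_1 lc_b_rc_9_2 lc_b_Cert_tree lc_b_Cert_tree lc_b_rc_10_2 lc_b_rc_9_2 lc_b_rc_8_2 lc_b_rc_8_2 lc_b_rc_10_2 lc_b_rc_6_1 lc_b_rc_8_2 lc_b_rc_9_2 lc_b_rc_6_1 lc_b_rc_8_2 lc_b_rc_9_2 lc_b_Cert_tree lc_b_Cert_tree lc_b_Cert_tree lc_b_rc_10_2 lc_b_rc_6_1 lc_b_rc_8_2 lc_b_Cert_tree lc_b_rc_9_2 lc_b_rc_9_2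 lc_b_rc_6_1 lc_b_rc_8_2 lc_b_rc_10_2 lc_b_rc_10_2 lc_b_rc_9_2 lc_b_rc_6_1 lc_b_rc_9_2 lc_b_rc_26_5 lc_b_rc_26_5 lc_b_rc_9_2 lc_b_rc_10_2 lc_b_rc_6_1 lc_b_rc_9_2) (@D3.rec (fun _ => (Cert rels S Gen.b)) lc_b_rc_9_2 lc_b_rc_6_1 lc_b_rc_10_2 lc_b_Cert_tree lc_b_Cert_tree lc_b_rc_1_3 lc_b_Cert_tree lc_b_rc_8_2 lc_b_Cert_tree lc_b_rc_6_1 lc_b_rc_9_2 lc_b_Cert_tree lc_b_rc_26_5 lc_b_rc_10_2 lc_b_rc_1_5 lc_b_rc_8_2 lc_b_rc_8_2 lc_b_rc_8_2 lc_b_rc_6_1 lc_b_rc_9_2 lc_b_rc_26_5 lc_b_rc_9_2 lc_b_rc_26_5 lc_b_rc_8_2 lc_b_rc_9_2 lc_b_rc_26_5 lc_b_rc_1_3 lc_b_rc_8_2 lc_b_rc_8_2 lc_b_rc_9_2 lc_b_rc_8_2 lc_b_rc_9_2 lc_b_rc_9_2 lc_b_rc_26_5 lc_b_rc_8_2 lc_b_rc_7_4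 lc_b_rc_8_2 lc_b_rc_9_2 lc_b_rc_10_2 lc_b_rc_1_1 lc_b_rc_8_2 lc_b_rc_9_2 lc_b_rc_9_2 lc_b_rc_8_2 lc_b_Cert_tree lc_b_rc_9_2 lc_b_rc_6_1 lc_b_rc_9_2 lc_b_rc_6_1 lc_b_rc_9_2 lc_b_rc_6_1 lc_b_rc_9_2 lc_b_Cert_tree lc_b_Cert_tree lc_b_rc_10_2 lc_b_rc_9_2 lc_b_rc_6_1 lc_b_rc_26_5 lc_b_rc_9_2 lc_b_Cert_tree lc_b_rc_6_1 lc_b_rc_8_2) (@D3.rec (fun _ => (Cert rels S Gen.b)) lc_b_rc_9_2 lc_b_rc_26_7 lc_b_rc_10_2 lc_b_rc_6_1 lc_b_rc_8_2 lc_b_rc_9_2 lc_b_rc_26_5 lc_b_rc_8_2 lc_b_rc_10_2 lc_b_rc_9_2 lc_b_rc_6_1 lc_b_rc_8_2 lc_b_rc_9_2 lc_b_rc_6_1 lc_b_rc_10_2 lc_b_rc_9_2 lc_b_rc_6_1 lc_b_rc_8_2 lc_b_rc_9_2 lc_b_rc_8_2 lc_b_rc_10_2 lc_b_rc_6_1 lc_b_rc_8_2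 lc_b_rc_9_2 lc_b_rc_6_1 lc_b_rc_8_2 lc_b_rc_9_2 lc_b_Cert_tree lc_b_Cert_tree lc_b_rc_1_3 lc_b_rc_8_2 lc_b_rc_10_2 lc_b_Cert_tree lc_b_Cert_tree lc_b_rc_9_2 lc_b_rc_9_2 lc_b_rc_9_2 lc_b_rc_6_1 lc_b_rc_9_2 lc_b_rc_26_5 lc_b_rc_26_1 lc_b_rc_10_2 lc_b_rc_6_1 lc_b_rc_8_2 lc_b_rc_6_1 lc_b_rc_9_2 lc_b_rc_26_5 lc_b_rc_6_1 lc_b_rc_10_2 lc_b_rc_8_2 lc_b_rc_9_2 lc_b_rc_9_2 lc_b_Cert_tree lc_b_rc_9_2 lc_b_rc_6_1 lc_b_rc_7_2 lc_b_rc_8_2 lc_b_rc_9_2 lc_b_rc_8_2 lc_b_rc_8_2 lc_b_rc_9_0 lc_b_rc_6_1) (@D3.rec (fun _ => (Cert rels S Gen.b)) lc_b_rc_26_5 lc_b_rc_8_2 lc_b_rc_6_1 lc_b_rc_1_3 lc_b_rc_6_1 lc_b_rc_7_2 lc_b_rc_8_2 lc_b_rc_26_5 lc_b_rc_1_1 lc_b_rc_1_5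 lc_b_rc_8_0 lc_b_Cert_tree lc_b_rc_9_2 lc_b_rc_10_2 lc_b_rc_9_2 lc_b_rc_6_1 lc_b_rc_9_2 lc_b_rc_6_1 lc_b_rc_9_2 lc_b_rc_6_1 lc_b_rc_9_2 lc_b_Cert_tree lc_b_Cert_tree lc_b_rc_10_2 lc_b_rc_9_2 lc_b_rc_8_2 lc_b_Cert_tree lc_b_rc_8_2 lc_b_rc_10_2 lc_b_rc_8_2 lc_b_rc_26_5 lc_b_rc_10_2 lc_b_Cert_tree lc_b_Cert_tree lc_b_rc_1_3 lc_b_rc_8_2 lc_b_rc_10_2 lc_b_rc_26_7 lc_b_rc_9_2 lc_b_rc_9_2 lc_b_rc_9_2 lc_b_Cert_tree lc_b_rc_9_2 lc_b_rc_9_2 lc_b_rc_6_1 lc_b_rc_8_2 lc_b_rc_10_2 lc_b_rc_10_2 lc_b_rc_26_7 lc_b_rc_6_1 lc_b_rc_10_2 lc_b_rc_8_2 lc_b_rc_8_0 lc_b_rc_10_2 lc_b_rc_6_1 lc_b_Cert_tree lc_b_rc_1_3 lc_b_rc_8_2 lc_b_rc_10_2 lc_b_rc_9_2 lc_b_rc_8_0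 lc_b_rc_9_2) (@D3.rec (fun _ => (Cert rels S Gen.b)) lc_b_rc_9_2 lc_b_Cert_tree lc_b_rc_9_2 lc_b_rc_8_2 lc_b_rc_6_1 lc_b_rc_8_2 lc_b_rc_25_16 lc_b_rc_10_2 lc_b_rc_6_1 lc_b_rc_8_2 lc_b_rc_9_2 lc_b_rc_26_7 lc_b_rc_6_1 lc_b_rc_1_5 lc_b_rc_6_1 lc_b_rc_8_2 lc_b_rc_9_2 lc_b_rc_6_1 lc_b_rc_8_2 lc_b_rc_7_2 lc_b_Cert_tree lc_b_Cert_tree lc_b_rc_1_3 lc_b_rc_8_2 lc_b_rc_10_2 lc_b_Cert_tree lc_b_Cert_tree lc_b_Cert_tree lc_b_rc_26_5 lc_b_rc_10_2 lc_b_rc_9_2 lc_b_rc_9_2 lc_b_rc_9_2 lc_b_Cert_tree lc_b_rc_6_1 lc_b_rc_8_2 lc_b_rc_9_2 lc_b_rc_26_5 lc_b_rc_6_1 lc_b_rc_10_2 lc_b_Cert_tree lc_b_rc_9_2 lc_b_rc_6_1 lc_b_rc_8_2 lc_b_rc_9_2 lc_b_rc_8_0 lc_b_rc_9_2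 lc_b_rc_10_2 lc_b_rc_9_2 lc_b_rc_6_1 lc_b_rc_7_4 lc_b_rc_9_2 lc_b_Cert_tree lc_b_rc_26_1 lc_b_rc_10_2 lc_b_rc_6_1 lc_b_rc_8_2 lc_b_rc_9_2 lc_b_rc_9_2 lc_b_Cert_tree lc_b_rc_10_2 lc_b_rc_8_2) (@D3.rec (fun _ => (Cert rels S Gen.b)) lc_b_rc_9_2 lc_b_rc_6_1 lc_b_rc_8_2 lc_b_rc_7_2 lc_b_Cert_tree lc_b_Cert_tree lc_b_rc_1_3 lc_b_rc_8_2 lc_b_rc_10_2 lc_b_Cert_tree lc_b_Cert_tree lc_b_rc_9_2 lc_b_rc_7_4 lc_b_rc_9_2 lc_b_Cert_tree lc_b_Cert_tree lc_b_rc_6_1 lc_b_rc_8_2 lc_b_rc_9_2 lc_b_rc_10_2 lc_b_rc_26_5 lc_b_rc_6_1 lc_b_rc_9_2 lc_b_Cert_tree lc_b_rc_26_7 lc_b_rc_10_2 lc_b_rc_6_1 lc_b_rc_9_2 lc_b_rc_26_5 lc_b_Cert_tree lc_b_rc_1_3 lc_b_rc_9_2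 lc_b_Cert_tree lc_b_Cert_tree lc_b_rc_8_2 lc_b_rc_10_2 lc_b_Cert_tree lc_b_rc_8_2 lc_b_Cert_tree lc_b_rc_8_2 lc_b_rc_9_2 lc_b_rc_8_2 lc_b_Cert_tree lc_b_rc_10_2 lc_b_rc_6_1 lc_b_rc_9_2 lc_b_rc_9_2 lc_b_rc_8_0 lc_b_rc_9_2 lc_b_rc_6_1 lc_b_rc_8_2 lc_b_rc_9_2 lc_b_rc_9_2 lc_b_rc_1_5 lc_b_rc_8_2 lc_b_rc_10_2 lc_b_rc_6_1 lc_b_Cert_tree lc_b_rc_1_3 lc_b_rc_9_2 lc_b_rc_10_0 lc_b_rc_8_0) (@D3.rec (fun _ => (Cert rels S Gen.b)) lc_b_Cert_tree lc_b_rc_10_0 lc_b_rc_8_2 lc_b_Cert_tree lc_b_rc_8_2 lc_b_rc_26_7 lc_b_Cert_tree lc_b_rc_10_2 lc_b_rc_6_1 lc_b_rc_8_2 lc_b_Cert_tree lc_b_rc_6_1 lc_b_rc_8_2 lc_b_rc_9_2 lc_b_rc_6_1 lc_b_rc_10_2 lc_b_Cert_tree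 lc_b_Cert_tree lc_b_rc_8_2 lc_b_rc_9_2 lc_b_Cert_tree lc_b_Cert_tree lc_b_rc_8_2 lc_b_rc_10_2 lc_b_rc_6_1 lc_b_Cert_tree lc_b_rc_8_2 lc_b_Cert_tree lc_b_rc_8_2 lc_b_rc_9_2 lc_b_rc_26_5 lc_b_Cert_tree lc_b_rc_6_1 lc_b_rc_9_2 lc_b_rc_6_1 lc_b_rc_8_2 lc_b_rc_9_2 lc_b_rc_8_2 lc_b_rc_9_2 lc_b_rc_10_2 lc_b_rc_6_1 lc_b_Cert_tree lc_b_rc_1_3 lc_b_rc_9_2 lc_b_Cert_tree lc_b_Cert_tree lc_b_rc_8_2 lc_b_rc_10_2 lc_b_Cert_tree lc_b_rc_8_2 lc_b_rc_8_2 lc_b_rc_6_1 lc_b_Cert_tree lc_b_rc_6_1 lc_b_Cert_tree lc_b_Cert_tree lc_b_rc_8_2 lc_b_rc_9_2 lc_b_rc_8_2 lc_b_rc_10_2 lc_b_Cert_tree lc_b_Cert_tree) (@D3.rec (fun _ => (Cert rels S Gen.b)) lc_b_rc_1_3 lc_b_rc_7_2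 lc_b_rc_9_2 lc_b_rc_8_2 lc_b_rc_7_4 lc_b_rc_1_3 lc_b_Cert_tree lc_b_rc_6_1 lc_b_Cert_tree lc_b_rc_8_2 lc_b_rc_9_2 lc_b_rc_10_2 lc_b_rc_6_1 lc_b_Cert_tree lc_b_rc_8_2 lc_b_rc_9_2 lc_b_rc_1_3 lc_b_Cert_tree lc_b_Cert_tree lc_b_rc_7_2 lc_b_rc_9_2 lc_b_rc_9_2 lc_b_Cert_tree lc_b_rc_7_0 lc_b_rc_10_2 lc_b_Cert_tree lc_b_Cert_tree lc_b_rc_8_2 lc_b_Cert_tree lc_b_rc_8_2 lc_b_rc_9_2 lc_b_rc_6_1 lc_b_Cert_tree lc_b_rc_8_2 lc_b_rc_9_2 lc_b_rc_6_1 lc_b_rc_9_2 lc_b_rc_8_2 lc_b_rc_26_5 lc_b_rc_10_2 lc_b_rc_9_2 lc_b_rc_6_1 lc_b_rc_9_2 lc_b_rc_10_0 lc_b_rc_10_2 lc_b_Cert_tree lc_b_Cert_tree lc_b_rc_1_3 lc_b_rc_9_2 lc_b_rc_8_2 lc_b_rc_7_4 lc_b_rc_6_1 lc_b_Cert_tree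 lc_b_rc_6_1 lc_b_Cert_tree lc_b_rc_9_2 lc_b_rc_8_2 lc_b_Cert_tree lc_b_rc_7_4 lc_b_rc_8_2 lc_b_rc_8_2 lc_b_rc_9_2) (@D3.rec (fun _ => (Cert rels S Gen.b)) lc_b_rc_9_2 lc_b_rc_6_1 lc_b_rc_9_2 lc_b_Cert_tree lc_b_rc_10_2 lc_b_Cert_tree lc_b_Cert_tree lc_b_rc_1_3 lc_b_rc_9_2 lc_b_rc_8_2 lc_b_rc_10_2 lc_b_rc_6_1 lc_b_Cert_tree lc_b_rc_8_2 lc_b_rc_9_2 lc_b_rc_6_1 lc_b_Cert_tree lc_b_Cert_tree lc_b_Cert_tree lc_b_Cert_tree lc_b_rc_10_2 lc_b_rc_6_1 lc_b_rc_8_2 lc_b_rc_9_2 lc_b_rc_8_2 lc_b_rc_9_0 lc_b_rc_6_1 lc_b_rc_8_2 lc_b_Cert_tree lc_b_rc_9_2 lc_b_rc_6_1 lc_b_rc_10_2 lc_b_rc_1_5 lc_b_rc_8_2 lc_b_rc_10_2 lc_b_rc_8_2 lc_b_rc_8_2 lc_b_rc_9_0 lc_b_rc_9_2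 lc_b_rc_10_2 lc_b_rc_6_1 lc_b_rc_6_1 lc_b_Cert_tree lc_b_Cert_tree lc_b_rc_6_1 lc_b_rc_9_2 lc_b_Cert_tree lc_b_Cert_tree lc_b_rc_6_1 lc_b_rc_8_2 lc_b_rc_6_1 lc_b_rc_8_2 lc_b_rc_26_5 lc_b_Cert_tree lc_b_rc_9_2 lc_b_Cert_tree lc_b_rc_9_2 lc_b_rc_7_2 lc_b_rc_6_1 lc_b_rc_8_2 lc_b_rc_8_2 lc_b_rc_1_3) (@D3.rec (fun _ => (Cert rels S Gen.b)) lc_b_rc_6_1 lc_b_Cert_tree lc_b_rc_9_2 lc_b_rc_9_0 lc_b_Cert_tree lc_b_rc_9_2 lc_b_rc_9_2 lc_b_Cert_tree lc_b_rc_9_2 lc_b_Cert_tree lc_b_Cert_tree lc_b_rc_6_1 lc_b_rc_8_2 lc_b_rc_26_1 lc_b_rc_6_1 lc_b_rc_10_2 lc_b_rc_26_1 lc_b_Cert_tree lc_b_rc_9_2 lc_b_rc_6_1 lc_b_rc_8_2 lc_b_rc_9_2 lc_b_rc_9_0 lc_b_rc_10_2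 lc_b_rc_9_2 lc_b_Cert_tree lc_b_rc_6_1 lc_b_rc_8_2 lc_b_rc_9_2 lc_b_rc_26_5 lc_b_rc_26_7 lc_b_rc_10_2 lc_b_rc_9_2 lc_b_rc_6_1 lc_b_rc_8_2 lc_b_rc_8_2 lc_b_rc_9_2 lc_b_rc_9_2 lc_b_rc_10_2 lc_b_rc_6_1 lc_b_rc_1_3 lc_b_rc_9_2 lc_b_rc_6_1 lc_b_rc_7_4 lc_b_rc_9_2 lc_b_Cert_tree lc_b_rc_6_1 lc_b_rc_6_1 lc_b_rc_1_1 lc_b_rc_6_1 lc_b_rc_9_2 lc_b_Cert_tree lc_b_rc_9_2 lc_b_Cert_tree lc_b_Cert_tree lc_b_rc_10_2 lc_b_rc_6_1 lc_b_rc_8_2 lc_b_rc_9_2 lc_b_rc_8_2 lc_b_Cert_tree lc_b_rc_10_2) (@D3.rec (fun _ => (Cert rels S Gen.b)) lc_b_rc_9_2 lc_b_rc_9_0 lc_b_Cert_tree lc_b_rc_26_5 lc_b_rc_1_5 lc_b_rc_9_2 lc_b_rc_26_7 lc_b_rc_9_2 lc_b_Cert_tree lc_b_Cert_tree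 lc_b_rc_9_0 lc_b_rc_8_0 lc_b_rc_26_1 lc_b_rc_9_2 lc_b_Cert_tree lc_b_rc_1_3 lc_b_rc_6_1 lc_b_rc_8_2 lc_b_rc_26_5 lc_b_rc_7_0 lc_b_rc_6_1 lc_b_rc_8_2 lc_b_rc_26_1 lc_b_rc_7_4 lc_b_Cert_tree lc_b_rc_10_2 lc_b_rc_10_2 lc_b_rc_8_2 lc_b_rc_9_2 lc_b_rc_10_0 lc_b_rc_26_5 lc_b_Cert_tree lc_b_rc_9_2 lc_b_rc_8_2 lc_b_rc_6_1 lc_b_rc_6_1 lc_b_rc_6_1 lc_b_rc_1_1 lc_b_Cert_tree lc_b_rc_6_1 lc_b_Cert_tree lc_b_rc_9_2 lc_b_Cert_tree lc_b_rc_6_1 lc_b_rc_8_2 lc_b_rc_9_2 lc_b_rc_6_1 lc_b_rc_8_0 lc_b_Cert_tree lc_b_rc_10_2 lc_b_rc_9_2 lc_b_Cert_tree lc_b_rc_10_0 lc_b_rc_6_1 lc_b_rc_9_2 lc_b_rc_9_2 lc_b_rc_26_5 lc_b_rc_10_2 lc_b_Cert_tree lc_b_rc_6_1 lc_b_rc_8_2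 lc_b_rc_6_1) (@D3.rec (fun _ => (Cert rels S Gen.b)) lc_b_rc_8_2 lc_b_rc_26_1 lc_b_Cert_tree lc_b_Cert_tree lc_b_Cert_tree lc_b_rc_9_2 lc_b_rc_6_1 lc_b_rc_8_2 lc_b_rc_10_2 lc_b_rc_1_3 lc_b_rc_6_1 lc_b_Cert_tree lc_b_rc_9_2 lc_b_rc_8_2 lc_b_rc_8_2 lc_b_Cert_tree lc_b_rc_9_2 lc_b_Cert_tree lc_b_rc_9_2 lc_b_rc_7_4 lc_b_Cert_tree lc_b_Cert_tree lc_b_rc_6_1 lc_b_rc_8_2 lc_b_rc_9_2 lc_b_rc_26_5 lc_b_rc_8_0 lc_b_rc_10_2 lc_b_rc_26_1 lc_b_Cert_tree lc_b_rc_9_2 lc_b_Cert_tree lc_b_rc_9_2 lc_b_rc_6_1 lc_b_rc_8_2 lc_b_rc_9_2 lc_b_rc_9_2 lc_b_Cert_tree lc_b_rc_6_1 lc_b_rc_8_2 lc_b_rc_9_2 lc_b_rc_6_1 lc_b_rc_9_0 lc_b_rc_10_2 lc_b_rc_9_2 lc_b_rc_6_1 lc_b_rc_8_2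 lc_b_rc_9_2 lc_b_rc_9_2 lc_b_rc_10_2 lc_b_rc_6_1 lc_b_rc_1_5 lc_b_rc_9_2 lc_b_rc_6_1 lc_b_rc_9_2 lc_b_Cert_tree lc_b_Cert_tree lc_b_rc_1_3 lc_b_rc_8_2 lc_b_rc_10_2 lc_b_Cert_tree lc_b_rc_6_1) (@D3.rec (fun _ => (Cert rels S Gen.b)) lc_b_Cert_tree lc_b_rc_9_2 lc_b_rc_10_2 lc_b_rc_9_2 lc_b_rc_6_1 lc_b_rc_26_5 lc_b_rc_6_1 lc_b_rc_8_2 lc_b_rc_9_2 lc_b_rc_6_1 lc_b_rc_10_2 lc_b_Cert_tree lc_b_Cert_tree lc_b_rc_6_1 lc_b_rc_8_2 lc_b_rc_9_2 lc_b_rc_8_0 lc_b_Cert_tree lc_b_rc_7_2 lc_b_rc_9_2 lc_b_rc_8_2 lc_b_rc_9_2 lc_b_Cert_tree lc_b_Cert_tree lc_b_rc_10_2 lc_b_rc_6_1 lc_b_rc_8_2 lc_b_rc_1_3 lc_b_Cert_tree lc_b_rc_6_1 lc_b_rc_26_1 lc_b_rc_9_2 lc_b_rc_10_2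 lc_b_rc_6_1 lc_b_Cert_tree lc_b_rc_1_3 lc_b_Cert_tree lc_b_Cert_tree lc_b_rc_7_4 lc_b_rc_9_2 lc_b_rc_9_2 lc_b_Cert_tree lc_b_Cert_tree lc_b_rc_9_0 lc_b_rc_8_2 lc_b_rc_26_1 lc_b_rc_1_3 lc_b_rc_26_7 lc_b_rc_6_1 lc_b_rc_26_5 lc_b_rc_10_2 lc_b_rc_6_1 lc_b_rc_9_2 lc_b_rc_6_1 lc_b_rc_9_2 lc_b_rc_26_5 lc_b_Cert_tree lc_b_rc_10_0 lc_b_rc_9_2 lc_b_rc_6_1 lc_b_rc_26_1 lc_b_rc_6_1) (@D3.rec (fun _ => (Cert rels S Gen.b)) lc_b_Cert_tree lc_b_Cert_tree lc_b_rc_9_2 lc_b_Cert_tree lc_b_rc_9_2 lc_b_rc_6_1 lc_b_rc_9_2 lc_b_rc_9_2 lc_b_rc_6_1 lc_b_rc_8_2 lc_b_rc_9_2 lc_b_rc_6_1 lc_b_rc_8_2 lc_b_rc_9_2 lc_b_rc_8_2 lc_b_rc_26_5 lc_b_rc_10_2 lc_b_rc_6_1 lc_b_rc_8_2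 lc_b_rc_9_2 lc_b_rc_6_1 lc_b_rc_10_2 lc_b_rc_6_1 lc_b_rc_9_0 lc_b_rc_9_2 lc_b_rc_6_1 lc_b_rc_8_2 lc_b_rc_9_2 lc_b_Cert_tree lc_b_Cert_tree lc_b_rc_1_3 lc_b_rc_8_2 lc_b_rc_10_2 lc_b_Cert_tree lc_b_Cert_tree lc_b_Cert_tree lc_b_rc_8_2 lc_b_rc_10_2 lc_b_rc_9_2 lc_b_Cert_tree lc_b_rc_9_2 lc_b_rc_6_1 lc_b_rc_9_2 lc_b_rc_9_2 lc_b_rc_6_1 lc_b_rc_8_2 lc_b_rc_9_2 lc_b_Cert_tree lc_b_rc_9_2 lc_b_rc_1_5 lc_b_rc_1_1 lc_b_rc_9_2 lc_b_rc_6_1 lc_b_rc_8_2 lc_b_rc_10_2 lc_b_rc_10_0 lc_b_rc_6_1 lc_b_rc_8_2 lc_b_rc_9_2 lc_b_rc_9_0 lc_b_rc_1_1 lc_b_rc_6_1) (@D3.rec (fun _ => (Cert rels S Gen.b)) lc_b_rc_8_2 lc_b_rc_25_16 lc_b_rc_9_2 lc_b_rc_9_2 lc_b_rc_10_2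 lc_b_rc_6_1 lc_b_rc_8_2 lc_b_rc_9_2 lc_b_rc_6_1 lc_b_rc_8_2 lc_b_rc_9_2 lc_b_Cert_tree lc_b_rc_7_0 lc_b_rc_1_3 lc_b_rc_8_2 lc_b_rc_10_2 lc_b_Cert_tree lc_b_Cert_tree lc_b_Cert_tree lc_b_rc_1_5 lc_b_rc_10_2 lc_b_rc_9_2 lc_b_Cert_tree lc_b_rc_9_2 lc_b_Cert_tree lc_b_rc_9_2 lc_b_Cert_tree lc_b_rc_6_1 lc_b_rc_8_2 lc_b_rc_9_2 lc_b_rc_6_1 lc_b_rc_10_2 lc_b_rc_6_1 lc_b_rc_8_2 lc_b_rc_9_2 lc_b_rc_8_0 lc_b_rc_10_2 lc_b_rc_9_2 lc_b_rc_6_1 lc_b_rc_8_2 lc_b_rc_9_2 lc_b_rc_26_5 lc_b_rc_10_2 lc_b_rc_6_1 lc_b_rc_8_2 lc_b_rc_9_2 lc_b_rc_9_2 lc_b_rc_10_2 lc_b_rc_6_1 lc_b_rc_8_2 lc_b_rc_9_2 lc_b_rc_6_1 lc_b_rc_7_4 lc_b_rc_9_2 lc_b_Cert_tree lc_b_Cert_tree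 lc_b_rc_1_3 lc_b_rc_8_2 lc_b_rc_10_2 lc_b_Cert_tree lc_b_Cert_tree lc_b_rc_9_2) (@D3.rec (fun _ => (Cert rels S Gen.b)) lc_b_rc_9_2 lc_b_Cert_tree lc_b_rc_6_1 lc_b_rc_8_2 lc_b_rc_9_2 lc_b_rc_6_1 lc_b_rc_8_2 lc_b_rc_10_2 lc_b_rc_9_2 lc_b_rc_6_1 lc_b_rc_9_2 lc_b_rc_9_2 lc_b_rc_6_1 lc_b_rc_9_2 lc_b_Cert_tree lc_b_rc_8_0 lc_b_rc_10_2 lc_b_rc_6_1 lc_b_rc_8_2 lc_b_rc_9_2 lc_b_Cert_tree lc_b_rc_6_1 lc_b_rc_10_2 lc_b_rc_6_1 lc_b_rc_8_2 lc_b_rc_6_1 lc_b_rc_6_1 lc_b_rc_8_2 lc_b_rc_6_1 lc_b_rc_6_1 lc_b_rc_8_2 lc_b_rc_9_2 lc_b_Cert_tree lc_b_Cert_tree lc_b_rc_1_3 lc_b_rc_8_2 lc_b_rc_9_2 lc_b_Cert_tree lc_b_Cert_tree lc_b_rc_9_2 lc_b_Cert_tree lc_b_Cert_tree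 lc_b_rc_8_2 lc_b_rc_10_2 lc_b_Cert_tree lc_b_rc_8_2 lc_b_rc_10_2 lc_b_rc_9_2 lc_b_rc_8_2 lc_b_Cert_tree lc_b_rc_10_2 lc_b_Cert_tree lc_b_rc_6_1 lc_b_rc_26_5 lc_b_rc_9_2 lc_b_Cert_tree lc_b_rc_8_0 lc_b_Cert_tree lc_b_rc_9_2 lc_b_rc_9_2 lc_b_rc_9_2 lc_b_rc_6_1) (@D3.rec (fun _ => (Cert rels S Gen.b)) lc_b_rc_8_2 lc_b_rc_9_2 lc_b_rc_6_1 lc_b_rc_6_1 lc_b_rc_10_2 lc_b_Cert_tree lc_b_rc_9_2 lc_b_rc_6_1 lc_b_rc_9_2 lc_b_rc_26_1 lc_b_rc_1_5 lc_b_rc_9_2 lc_b_rc_9_2 lc_b_Cert_tree lc_b_Cert_tree lc_b_Cert_tree lc_b_rc_1_3 lc_b_rc_8_2 lc_b_rc_9_2 lc_b_rc_9_2 lc_b_Cert_tree lc_b_Cert_tree lc_b_rc_8_2 lc_b_rc_10_2 lc_b_rc_26_7 lc_b_Cert_tree lc_b_rc_6_1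 lc_b_rc_26_5 lc_b_Cert_tree lc_b_rc_10_2 lc_b_rc_6_1 lc_b_rc_8_2 lc_b_rc_6_1 lc_b_rc_8_2 lc_b_rc_9_2 lc_b_rc_6_1 lc_b_rc_8_2 lc_b_rc_6_1 lc_b_rc_8_0 lc_b_rc_6_1 lc_b_Cert_tree lc_b_Cert_tree lc_b_rc_7_4 lc_b_rc_8_2 lc_b_rc_9_2 lc_b_Cert_tree lc_b_Cert_tree lc_b_rc_9_2 lc_b_Cert_tree lc_b_Cert_tree lc_b_rc_8_2 lc_b_rc_10_2 lc_b_rc_7_0 lc_b_Cert_tree lc_b_rc_8_2 lc_b_rc_7_4 lc_b_rc_9_2 lc_b_Cert_tree lc_b_rc_9_2 lc_b_rc_6_1 lc_b_rc_6_1 lc_b_rc_9_2) (@D3.rec (fun _ => (Cert rels S Gen.b)) lc_b_rc_9_2 lc_b_rc_8_2 lc_b_rc_8_2 lc_b_rc_10_2 lc_b_Cert_tree lc_b_Cert_tree lc_b_rc_1_3 lc_b_rc_8_2 lc_b_rc_9_2 lc_b_rc_9_2 lc_b_Cert_tree lc_b_rc_8_2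 lc_b_rc_7_0 lc_b_rc_10_2 lc_b_rc_10_2 lc_b_rc_8_2 lc_b_Cert_tree lc_b_rc_8_2 lc_b_Cert_tree lc_b_rc_10_2 lc_b_Cert_tree lc_b_Cert_tree lc_b_rc_1_3 lc_b_rc_7_2 lc_b_rc_8_2 lc_b_rc_9_2 lc_b_rc_9_2 lc_b_Cert_tree lc_b_Cert_tree lc_b_rc_9_2 lc_b_rc_8_2 lc_b_rc_10_2 lc_b_Cert_tree lc_b_Cert_tree lc_b_rc_1_3 lc_b_rc_8_2 lc_b_rc_9_2 lc_b_rc_9_2 lc_b_rc_8_2 lc_b_rc_10_2 lc_b_rc_8_2 lc_b_Cert_tree lc_b_rc_6_1 lc_b_rc_8_2 lc_b_rc_9_2 lc_b_rc_6_1 lc_b_rc_8_2 lc_b_rc_8_2 lc_b_Cert_tree lc_b_Cert_tree lc_b_Cert_tree lc_b_rc_9_2 lc_b_rc_10_2 lc_b_rc_9_2 lc_b_rc_6_1 lc_b_rc_9_2 lc_b_rc_6_1 lc_b_rc_9_2 lc_b_rc_6_1 lc_b_rc_9_2 lc_b_Cert_tree lc_b_Cert_tree)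 (@D3.rec (fun _ => (Cert rels S Gen.b)) lc_b_rc_26_7 lc_b_rc_9_2 lc_b_Cert_tree lc_b_Cert_tree lc_b_rc_9_2 lc_b_Cert_tree lc_b_rc_8_2 lc_b_rc_8_2 lc_b_rc_6_1 lc_b_Cert_tree lc_b_rc_8_2 lc_b_rc_9_2 lc_b_rc_6_1 lc_b_rc_10_2 lc_b_rc_9_2 lc_b_rc_6_1 lc_b_rc_8_2 lc_b_rc_9_2 lc_b_rc_9_2 lc_b_rc_26_5 lc_b_rc_10_2 lc_b_Cert_tree lc_b_rc_9_2 lc_b_rc_6_1 lc_b_rc_9_2 lc_b_rc_6_1 lc_b_rc_9_2 lc_b_rc_6_1 lc_b_rc_9_2 lc_b_rc_10_2 lc_b_rc_6_1 lc_b_rc_8_2 lc_b_rc_9_2 lc_b_rc_8_2 lc_b_rc_10_2 lc_b_rc_6_1 lc_b_rc_8_2 lc_b_rc_9_2 lc_b_rc_10_2 lc_b_rc_6_1 lc_b_rc_6_1 lc_b_rc_8_2 lc_b_rc_9_2 lc_b_rc_6_1 lc_b_rc_8_2 lc_b_rc_9_2 lc_b_Cert_tree lc_b_Cert_tree lc_b_rc_1_3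 lc_b_rc_8_2 lc_b_rc_9_2 lc_b_Cert_tree lc_b_Cert_tree lc_b_rc_9_2 lc_b_Cert_tree lc_b_Cert_tree lc_b_rc_8_2 lc_b_rc_6_1 lc_b_rc_6_1 lc_b_Cert_tree lc_b_Cert_tree lc_b_rc_8_2) (@D3.rec (fun _ => (Cert rels S Gen.b)) lc_b_rc_9_0 lc_b_rc_9_2 lc_b_rc_1_1 lc_b_rc_9_2 lc_b_rc_1_1 lc_b_rc_7_4 lc_b_rc_26_1 lc_b_Cert_tree lc_b_Cert_tree lc_b_rc_9_2 lc_b_rc_26_7 lc_b_rc_9_2 lc_b_rc_6_1 lc_b_rc_8_2 lc_b_rc_9_2 lc_b_rc_6_1 lc_b_rc_7_4 lc_b_rc_1_3 lc_b_rc_6_1 lc_b_rc_8_2 lc_b_rc_9_2 lc_b_rc_6_1 lc_b_rc_7_4 lc_b_rc_9_2 lc_b_Cert_tree lc_b_rc_6_1 lc_b_rc_26_5 lc_b_rc_8_2 lc_b_Cert_tree lc_b_rc_6_1 lc_b_Cert_tree lc_b_rc_6_1 lc_b_Cert_tree lc_b_rc_8_2 lc_b_rc_6_1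 lc_b_Cert_tree lc_b_rc_26_5 lc_b_Cert_tree lc_b_Cert_tree lc_b_rc_10_2 lc_b_rc_6_1 lc_b_Cert_tree lc_b_rc_6_1 lc_b_Cert_tree lc_b_rc_7_0 lc_b_rc_6_1 lc_b_rc_6_1 lc_b_Cert_tree lc_b_Cert_tree lc_b_rc_6_1 lc_b_rc_8_2 lc_b_rc_10_2 lc_b_Cert_tree lc_b_rc_8_2 lc_b_rc_1_3 lc_b_rc_6_1 lc_b_rc_8_2 lc_b_rc_9_2 lc_b_rc_6_1 lc_b_rc_6_1 lc_b_rc_1_3 lc_b_rc_6_1) (@D3.rec (fun _ => (Cert rels S Gen.b)) lc_b_rc_9_2 lc_b_rc_6_1 lc_b_Cert_tree lc_b_Cert_tree lc_b_rc_1_3 lc_b_rc_8_2 lc_b_rc_9_2 lc_b_Cert_tree lc_b_Cert_tree lc_b_rc_9_2 lc_b_Cert_tree lc_b_Cert_tree lc_b_rc_8_2 lc_b_rc_9_2 lc_b_rc_6_1 lc_b_Cert_tree lc_b_rc_8_2 lc_b_rc_9_2 lc_b_Cert_tree lc_b_rc_8_2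 lc_b_Cert_tree lc_b_Cert_tree lc_b_rc_9_2 lc_b_rc_6_1 lc_b_Cert_tree lc_b_rc_26_1 lc_b_rc_9_2 lc_b_rc_8_2 lc_b_Cert_tree lc_b_rc_6_1 lc_b_rc_8_2 lc_b_rc_6_1 lc_b_rc_26_1 lc_b_rc_9_2 lc_b_rc_9_2 lc_b_rc_10_2 lc_b_rc_6_1 lc_b_rc_6_1 lc_b_rc_9_2 lc_b_Cert_tree lc_b_Cert_tree lc_b_rc_1_1 lc_b_rc_8_2 lc_b_Cert_tree lc_b_rc_26_1 lc_b_Cert_tree lc_b_rc_9_2 lc_b_Cert_tree lc_b_Cert_tree lc_b_rc_8_2 lc_b_rc_7_2 lc_b_rc_7_4 lc_b_rc_8_2 lc_b_rc_6_1 lc_b_Cert_tree lc_b_Cert_tree lc_b_rc_26_5 lc_b_rc_9_2 lc_b_rc_7_4 lc_b_rc_6_1 lc_b_Cert_tree lc_b_rc_9_2) (@D3.rec (fun _ => (Cert rels S Gen.b)) lc_b_rc_6_1 lc_b_Cert_tree lc_b_Cert_tree lc_b_rc_6_1 lc_b_Cert_tree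 lc_b_rc_8_2 lc_b_rc_9_2 lc_b_rc_6_1 lc_b_rc_26_5 lc_b_rc_9_0 lc_b_rc_26_1 lc_b_rc_6_1 lc_b_rc_1_1 lc_b_Cert_tree lc_b_rc_8_2 lc_b_Cert_tree lc_b_rc_10_0 lc_b_rc_6_1 lc_b_rc_8_2 lc_b_rc_9_2 lc_b_rc_10_2 lc_b_rc_1_5 lc_b_Cert_tree lc_b_rc_26_1 lc_b_rc_8_2 lc_b_rc_8_0 lc_b_rc_9_0 lc_b_rc_26_1 lc_b_Cert_tree lc_b_rc_6_1 lc_b_rc_8_2 lc_b_rc_9_2 lc_b_Cert_tree lc_b_Cert_tree lc_b_rc_9_2 lc_b_Cert_tree lc_b_rc_6_1 lc_b_Cert_tree lc_b_rc_8_0 lc_b_Cert_tree lc_b_Cert_tree lc_b_rc_8_2 lc_b_rc_9_2 lc_b_rc_9_0 lc_b_rc_9_0 lc_b_rc_8_2 lc_b_Cert_tree lc_b_rc_26_1 lc_b_Cert_tree lc_b_rc_8_2 lc_b_rc_9_2 lc_b_rc_6_1 lc_b_rc_9_2 lc_b_rc_26_1 lc_b_rc_9_2 lc_b_rc_8_2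 lc_b_rc_26_7 lc_b_Cert_tree lc_b_rc_9_2 lc_b_rc_9_2 lc_b_rc_9_2 lc_b_rc_6_1) (@D3.rec (fun _ => (Cert rels S Gen.b)) lc_b_rc_8_2 lc_b_rc_9_2 lc_b_rc_9_2 lc_b_rc_6_1 lc_b_rc_8_2 lc_b_rc_26_5 lc_b_rc_8_2 lc_b_rc_26_5 lc_b_rc_10_2 lc_b_rc_9_2 lc_b_rc_6_1 lc_b_rc_8_2 lc_b_rc_9_2 lc_b_rc_26_5 lc_b_rc_26_5 lc_b_rc_10_2 lc_b_Cert_tree lc_b_rc_9_2 lc_b_rc_6_1 lc_b_rc_8_2 lc_b_rc_6_1 lc_b_rc_1_1 lc_b_rc_26_5 lc_b_rc_6_1 lc_b_rc_8_2 lc_b_rc_9_2 lc_b_rc_6_1 lc_b_rc_8_2 lc_b_rc_9_2 lc_b_rc_6_1 lc_b_Cert_tree lc_b_rc_8_2 lc_b_Cert_tree lc_b_Cert_tree lc_b_Cert_tree lc_b_rc_9_2 lc_b_Cert_tree lc_b_Cert_tree lc_b_rc_6_1 lc_b_Cert_tree lc_b_rc_8_2 lc_b_rc_6_1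 lc_b_rc_7_2 lc_b_rc_26_7 lc_b_rc_9_2 lc_b_rc_8_2 lc_b_rc_6_1 lc_b_rc_8_2 lc_b_rc_9_2 lc_b_rc_6_1 lc_b_Cert_tree lc_b_rc_10_2 lc_b_rc_1_3 lc_b_rc_9_2 lc_b_rc_25_8 lc_b_rc_10_2 lc_b_rc_26_5 lc_b_rc_6_1 lc_b_rc_6_1 lc_b_rc_26_7 lc_b_rc_9_2 lc_b_rc_7_0) (@D3.rec (fun _ => (Cert rels S Gen.b)) lc_b_rc_6_1 lc_b_rc_6_1 lc_b_rc_7_2 lc_b_rc_8_0 lc_b_rc_9_2 lc_b_rc_9_2 lc_b_rc_9_2 lc_b_rc_6_1 lc_b_rc_8_2 lc_b_rc_9_2 lc_b_rc_6_1 lc_b_rc_10_2 lc_b_rc_1_5 lc_b_rc_9_2 lc_b_Cert_tree lc_b_rc_6_1 lc_b_rc_8_2 lc_b_rc_9_2 lc_b_rc_9_2 lc_b_rc_6_1 lc_b_rc_9_0 lc_b_rc_7_2 lc_b_rc_26_5 lc_b_rc_10_2 lc_b_rc_6_1 lc_b_rc_8_2 lc_b_rc_9_2 lc_b_rc_6_1 lc_b_rc_6_1 lc_b_rc_9_2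 lc_b_Cert_tree lc_b_Cert_tree lc_b_rc_1_3 lc_b_rc_8_2 lc_b_rc_8_0 lc_b_Cert_tree lc_b_rc_8_0 lc_b_rc_10_2 lc_b_rc_8_2 lc_b_rc_7_2 lc_b_rc_6_1 lc_b_Cert_tree lc_b_rc_6_1 lc_b_rc_6_1 lc_b_Cert_tree lc_b_rc_7_2 lc_b_rc_6_1 lc_b_rc_8_2 lc_b_Cert_tree lc_b_rc_10_2 lc_b_rc_1_3 lc_b_rc_26_1 lc_b_rc_10_2 lc_b_rc_6_1 lc_b_rc_8_2 lc_b_rc_10_2 lc_b_rc_8_2 lc_b_rc_26_5 lc_b_rc_8_2 lc_b_rc_8_0 lc_b_rc_8_0 lc_b_Cert_tree) (@D3.rec (fun _ => (Cert rels S Gen.b)) lc_b_rc_9_2 lc_b_rc_10_2 lc_b_rc_6_1 lc_b_rc_9_2 lc_b_Cert_tree lc_b_Cert_tree lc_b_rc_10_2 lc_b_rc_9_2 lc_b_rc_26_5 lc_b_Cert_tree lc_b_rc_9_2 lc_b_rc_9_2 lc_b_rc_6_1 lc_b_rc_8_2 lc_b_rc_9_2 lc_b_rc_10_2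 lc_b_Cert_tree lc_b_rc_9_2 lc_b_rc_9_2 lc_b_rc_6_1 lc_b_rc_8_2 lc_b_rc_9_2 lc_b_rc_9_2 lc_b_rc_9_2 lc_b_rc_6_1 lc_b_rc_8_2 lc_b_rc_9_2 lc_b_rc_9_2 lc_b_rc_9_2 lc_b_rc_6_1 lc_b_rc_8_2 lc_b_rc_9_2 lc_b_Cert_tree lc_b_rc_9_2 lc_b_rc_9_2 lc_b_rc_6_1 lc_b_rc_9_0 lc_b_rc_25_16 lc_b_rc_8_2 lc_b_rc_8_0 lc_b_rc_10_2 lc_b_rc_9_2 lc_b_Cert_tree lc_b_rc_9_2 lc_b_rc_6_1 lc_b_rc_8_2 lc_b_rc_9_2 lc_b_rc_6_1 lc_b_rc_10_2 lc_b_rc_6_1 lc_b_rc_8_2 lc_b_rc_6_1 lc_b_rc_26_5 lc_b_rc_9_2 lc_b_rc_9_0 lc_b_rc_10_2 lc_b_rc_9_2 lc_b_rc_6_1 lc_b_rc_8_2 lc_b_rc_9_2 lc_b_rc_9_2 lc_b_rc_26_7) (@D3.rec (fun _ => (Cert rels S Gen.b)) lc_b_rc_9_2 lc_b_rc_10_2 lc_b_rc_6_1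 lc_b_rc_8_2 lc_b_rc_9_2 lc_b_Cert_tree lc_b_Cert_tree lc_b_rc_1_3 lc_b_rc_8_2 lc_b_rc_10_2 lc_b_Cert_tree lc_b_Cert_tree lc_b_rc_9_2 lc_b_rc_10_2 lc_b_rc_10_2 lc_b_rc_9_2 lc_b_rc_9_2 lc_b_rc_6_1 lc_b_rc_8_2 lc_b_rc_7_2 lc_b_rc_26_7 lc_b_rc_6_1 lc_b_rc_10_2 lc_b_rc_6_1 lc_b_rc_8_2 lc_b_rc_9_2 lc_b_rc_6_1 lc_b_rc_6_1 lc_b_rc_10_2 lc_b_Cert_tree lc_b_Cert_tree lc_b_rc_1_3 lc_b_rc_8_2 lc_b_rc_10_2 lc_b_rc_9_2 lc_b_rc_9_2 lc_b_Cert_tree lc_b_Cert_tree lc_b_rc_1_3 lc_b_Cert_tree lc_b_Cert_tree lc_b_rc_8_2 lc_b_rc_7_2 lc_b_rc_6_1 lc_b_rc_9_2 lc_b_Cert_tree lc_b_rc_6_1 lc_b_rc_8_0 lc_b_rc_10_2 lc_b_rc_6_1 lc_b_rc_9_0 lc_b_rc_6_1 lc_b_rc_8_2 lc_b_rc_9_2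 lc_b_rc_6_1 lc_b_Cert_tree lc_b_rc_10_2 lc_b_Cert_tree lc_b_Cert_tree lc_b_rc_8_2 lc_b_rc_9_2 lc_b_Cert_tree) (@D3.rec (fun _ => (Cert rels S Gen.b)) lc_b_Cert_tree lc_b_rc_8_2 lc_b_rc_10_2 lc_b_rc_6_1 lc_b_rc_10_0 lc_b_rc_8_2 lc_b_rc_8_2 lc_b_rc_10_0 lc_b_Cert_tree lc_b_rc_26_5 lc_b_Cert_tree lc_b_Cert_tree lc_b_rc_8_2 lc_b_rc_10_2 lc_b_rc_8_2 lc_b_rc_6_1 lc_b_rc_1_3 lc_b_Cert_tree lc_b_rc_6_1 lc_b_Cert_tree lc_b_rc_8_2 lc_b_rc_9_2 lc_b_rc_7_4 lc_b_rc_6_1 lc_b_rc_26_5 lc_b_rc_8_2 lc_b_rc_9_2 lc_b_rc_1_3 lc_b_Cert_tree lc_b_Cert_tree lc_b_rc_9_2 lc_b_rc_9_2 lc_b_rc_26_7 lc_b_Cert_tree lc_b_rc_10_2 lc_b_rc_8_2 lc_b_rc_8_2 lc_b_rc_8_2 lc_b_rc_9_0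 lc_b_rc_9_2 lc_b_rc_6_1 lc_b_rc_8_2 lc_b_rc_9_2 lc_b_rc_9_2 lc_b_rc_26_5 lc_b_rc_10_2 lc_b_rc_6_1 lc_b_rc_8_2 lc_b_rc_9_2 lc_b_rc_26_1 lc_b_rc_26_5 lc_b_rc_10_2 lc_b_rc_6_1 lc_b_rc_8_2 lc_b_rc_9_2 lc_b_rc_6_1 lc_b_rc_8_2 lc_b_rc_9_2 lc_b_Cert_tree lc_b_rc_9_0 lc_b_rc_1_3 lc_b_rc_8_2) (@D3.rec (fun _ => (Cert rels S Gen.b)) lc_b_rc_10_2 lc_b_Cert_tree lc_b_Cert_tree lc_b_Cert_tree lc_b_rc_10_2 lc_b_rc_9_2 lc_b_rc_8_2 lc_b_rc_9_2 lc_b_rc_6_1 lc_b_rc_8_2 lc_b_rc_9_2 lc_b_rc_6_1 lc_b_rc_8_2 lc_b_rc_9_2 lc_b_rc_6_1 lc_b_rc_9_0 lc_b_rc_8_0 lc_b_rc_8_2 lc_b_rc_10_2 lc_b_rc_6_1 lc_b_rc_8_2 lc_b_rc_9_2 lc_b_rc_6_1 lc_b_rc_26_5 lc_b_rc_25_16 lc_b_Cert_tree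 lc_b_rc_10_2 lc_b_rc_1_3 lc_b_rc_8_2 lc_b_rc_10_2 lc_b_Cert_tree lc_b_Cert_tree lc_b_rc_9_2 lc_b_rc_9_2 lc_b_rc_9_2 lc_b_Cert_tree lc_b_rc_6_1 lc_b_rc_8_2 lc_b_rc_9_2 lc_b_rc_26_5 lc_b_rc_10_2 lc_b_rc_6_1 lc_b_rc_8_2 lc_b_rc_9_2 lc_b_rc_8_0 lc_b_rc_10_2 lc_b_rc_9_2 lc_b_Cert_tree lc_b_rc_6_1 lc_b_rc_8_2 lc_b_rc_9_2 lc_b_rc_9_2 lc_b_rc_10_2 lc_b_rc_6_1 lc_b_rc_8_2 lc_b_rc_9_2 lc_b_rc_9_2 lc_b_rc_10_2 lc_b_rc_6_1 lc_b_rc_8_2 lc_b_rc_9_2 lc_b_rc_6_1) (@D3.rec (fun _ => (Cert rels S Gen.b)) lc_b_rc_8_2 lc_b_rc_9_2 lc_b_Cert_tree lc_b_Cert_tree lc_b_rc_1_3 lc_b_rc_8_2 lc_b_rc_10_2 lc_b_Cert_tree lc_b_Cert_tree lc_b_rc_9_2 lc_b_rc_7_2 lc_b_rc_6_1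 lc_b_rc_8_2 lc_b_rc_10_2 lc_b_rc_6_1 lc_b_rc_26_5 lc_b_rc_10_2 lc_b_rc_6_1 lc_b_rc_8_2 lc_b_rc_9_2 lc_b_rc_6_1 lc_b_rc_8_2 lc_b_rc_9_2 lc_b_rc_6_1 lc_b_rc_8_2 lc_b_rc_9_2 lc_b_Cert_tree lc_b_Cert_tree lc_b_rc_1_3 lc_b_rc_8_2 lc_b_rc_9_2 lc_b_Cert_tree lc_b_Cert_tree lc_b_rc_9_2 lc_b_rc_6_1 lc_b_Cert_tree lc_b_rc_8_2 lc_b_rc_10_2 lc_b_Cert_tree lc_b_rc_26_7 lc_b_rc_9_2 lc_b_rc_8_2 lc_b_rc_10_0 lc_b_rc_10_2 lc_b_rc_6_1 lc_b_rc_9_0 lc_b_rc_9_2 lc_b_rc_9_2 lc_b_rc_6_1 lc_b_rc_8_2 lc_b_rc_9_2 lc_b_rc_9_0 lc_b_rc_8_2 lc_b_rc_10_2 lc_b_rc_6_1 lc_b_rc_6_1 lc_b_rc_6_1 lc_b_rc_10_2 lc_b_Cert_tree lc_b_rc_10_2 lc_b_rc_1_3 lc_b_rc_8_2) (@D3.rec (fun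 _ => (Cert rels S Gen.b)) lc_b_rc_9_2 lc_b_rc_9_2 lc_b_Cert_tree lc_b_rc_7_2 lc_b_rc_8_2 lc_b_rc_10_2 lc_b_rc_9_2 lc_b_rc_8_0 lc_b_Cert_tree lc_b_rc_6_1 lc_b_rc_9_2 lc_b_rc_6_1 lc_b_Cert_tree lc_b_Cert_tree lc_b_rc_1_3 lc_b_rc_8_2 lc_b_rc_9_2 lc_b_Cert_tree lc_b_Cert_tree lc_b_rc_9_2 lc_b_Cert_tree lc_b_Cert_tree lc_b_rc_8_2 lc_b_rc_10_2 lc_b_Cert_tree lc_b_rc_8_2 lc_b_rc_26_7 lc_b_rc_8_2 lc_b_rc_8_2 lc_b_rc_26_5 lc_b_rc_6_1 lc_b_rc_8_2 lc_b_rc_9_2 lc_b_rc_9_2 lc_b_rc_6_1 lc_b_rc_10_2 lc_b_Cert_tree lc_b_rc_7_0 lc_b_rc_1_3 lc_b_rc_8_2 lc_b_rc_9_2 lc_b_rc_9_2 lc_b_Cert_tree lc_b_Cert_tree lc_b_rc_8_2 lc_b_rc_26_5 lc_b_rc_7_4 lc_b_rc_8_0 lc_b_Cert_tree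 lc_b_Cert_tree lc_b_rc_10_2 lc_b_Cert_tree lc_b_Cert_tree lc_b_rc_9_2 lc_b_rc_26_5 lc_b_rc_8_2 lc_b_rc_9_2 lc_b_rc_6_1 lc_b_rc_9_2 lc_b_Cert_tree lc_b_rc_9_2 lc_b_rc_8_2) (@D3.rec (fun _ => (Cert rels S Gen.b)) lc_b_rc_10_2 lc_b_Cert_tree lc_b_Cert_tree lc_b_rc_7_2 lc_b_rc_7_2 lc_b_rc_8_2 lc_b_rc_9_2 lc_b_rc_9_2 lc_b_rc_9_2 lc_b_rc_8_2 lc_b_rc_10_2 lc_b_rc_6_1 lc_b_rc_1_3 lc_b_rc_6_1 lc_b_rc_8_2 lc_b_rc_8_2 lc_b_Cert_tree lc_b_Cert_tree lc_b_Cert_tree lc_b_rc_9_2 lc_b_rc_6_1 lc_b_rc_9_2 lc_b_rc_6_1 lc_b_rc_8_2 lc_b_rc_6_1 lc_b_rc_9_2 lc_b_Cert_tree lc_b_Cert_tree lc_b_rc_8_2 lc_b_rc_9_2 lc_b_Cert_tree lc_b_Cert_tree lc_b_rc_8_2 lc_b_Cert_tree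 lc_b_rc_8_2 lc_b_rc_8_2 lc_b_rc_6_1 lc_b_Cert_tree lc_b_rc_8_2 lc_b_rc_9_2 lc_b_rc_9_2 lc_b_rc_6_1 lc_b_rc_8_2 lc_b_rc_9_2 lc_b_rc_9_2 lc_b_rc_6_1 lc_b_rc_9_2 lc_b_rc_26_5 lc_b_rc_6_1 lc_b_rc_10_2 lc_b_Cert_tree lc_b_rc_6_1 lc_b_rc_7_0 lc_b_rc_9_2 lc_b_rc_8_2 lc_b_rc_26_5 lc_b_rc_10_2 lc_b_Cert_tree lc_b_rc_6_1 lc_b_rc_1_5 lc_b_rc_8_0 lc_b_rc_8_2) (@D3.rec (fun _ => (Cert rels S Gen.b)) lc_b_rc_10_2 lc_b_rc_6_1 lc_b_rc_26_5 lc_b_rc_6_1 lc_b_rc_9_2 lc_b_Cert_tree lc_b_rc_1_3 lc_b_rc_9_0 lc_b_rc_8_2 lc_b_Cert_tree lc_b_Cert_tree lc_b_rc_9_2 lc_b_Cert_tree lc_b_Cert_tree lc_b_rc_6_1 lc_b_rc_6_1 lc_b_Cert_tree lc_b_rc_6_1 lc_b_rc_6_1 lc_b_rc_26_5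 lc_b_rc_6_1 lc_b_rc_9_2 lc_b_rc_6_1 lc_b_rc_6_1 lc_b_Cert_tree lc_b_rc_6_1 lc_b_rc_1_3 lc_b_rc_6_1 lc_b_rc_9_2 lc_b_rc_8_2 lc_b_Cert_tree lc_b_rc_6_1 lc_b_Cert_tree lc_b_rc_9_2 lc_b_rc_9_2 lc_b_rc_6_1 lc_b_rc_8_2 lc_b_rc_9_2 lc_b_rc_6_1 lc_b_rc_8_2 lc_b_rc_26_1 lc_b_Cert_tree lc_b_Cert_tree lc_b_rc_6_1 lc_b_rc_8_2 lc_b_rc_9_2 lc_b_rc_6_1 lc_b_rc_8_2 lc_b_rc_9_2 lc_b_rc_6_1 lc_b_rc_10_2 lc_b_rc_6_1 lc_b_rc_9_2 lc_b_rc_6_1 lc_b_rc_9_2 lc_b_Cert_tree lc_b_Cert_tree lc_b_rc_9_0 lc_b_rc_8_2 lc_b_rc_9_2 lc_b_Cert_tree lc_b_Cert_tree) (@D3.rec (fun _ => (Cert rels S Gen.b)) lc_b_Cert_tree lc_b_rc_9_2 lc_b_Cert_tree lc_b_rc_8_2 lc_b_rc_7_2 lc_b_rc_6_1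 lc_b_rc_9_2 lc_b_Cert_tree lc_b_rc_6_1 lc_b_Cert_tree lc_b_rc_1_5 lc_b_rc_6_1 lc_b_rc_6_1 lc_b_rc_26_1 lc_b_rc_9_2 lc_b_rc_26_5 lc_b_rc_26_5 lc_b_rc_1_3 lc_b_rc_6_1 lc_b_rc_9_2 lc_b_rc_6_1 lc_b_Cert_tree lc_b_rc_6_1 lc_b_rc_8_0 lc_b_rc_8_2 lc_b_rc_9_2 lc_b_Cert_tree lc_b_rc_9_2 lc_b_Cert_tree lc_b_Cert_tree lc_b_rc_8_2 lc_b_rc_7_2 lc_b_rc_6_1 lc_b_Cert_tree lc_b_rc_8_2 lc_b_rc_8_2 lc_b_rc_6_1 lc_b_Cert_tree lc_b_rc_8_2 lc_b_rc_9_2 lc_b_Cert_tree lc_b_rc_9_2 lc_b_rc_6_1 lc_b_Cert_tree lc_b_rc_8_0 lc_b_Cert_tree lc_b_rc_9_2 lc_b_rc_8_2 lc_b_Cert_tree lc_b_rc_6_1 lc_b_Cert_tree lc_b_rc_6_1 lc_b_rc_8_2 lc_b_rc_9_2 lc_b_rc_9_2 lc_b_rc_10_2 lc_b_rc_6_1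 lc_b_rc_6_1 lc_b_rc_9_2 lc_b_Cert_tree lc_b_Cert_tree lc_b_rc_1_3) (@D3.rec (fun _ => (Cert rels S Gen.b)) lc_b_rc_8_2 lc_b_Cert_tree lc_b_rc_7_4 lc_b_Cert_tree lc_b_Cert_tree lc_b_rc_8_2 lc_b_rc_10_2 lc_b_rc_6_1 lc_b_rc_9_0 lc_b_rc_9_2 lc_b_Cert_tree lc_b_Cert_tree lc_b_rc_6_1 lc_b_rc_26_5 lc_b_rc_9_2 lc_b_rc_8_0 lc_b_rc_6_1 lc_b_rc_6_1 lc_b_rc_26_1 lc_b_rc_9_2 lc_b_rc_6_1 lc_b_Cert_tree lc_b_rc_8_2 lc_b_rc_6_1 lc_b_rc_8_0 lc_b_rc_6_1 lc_b_Cert_tree lc_b_rc_9_2 lc_b_rc_7_4 lc_b_Cert_tree lc_b_Cert_tree lc_b_rc_8_2 lc_b_rc_6_1 lc_b_rc_8_0 lc_b_Cert_tree lc_b_rc_8_2 lc_b_Cert_tree lc_b_rc_1_5 lc_b_rc_6_1 lc_b_Cert_tree lc_b_rc_26_5 lc_b_rc_9_0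 lc_b_rc_9_0 lc_b_rc_26_1 lc_b_Cert_tree lc_b_rc_6_1 lc_b_rc_8_2 lc_b_rc_26_5 lc_b_rc_8_0 lc_b_Cert_tree lc_b_rc_8_2 lc_b_rc_9_2 lc_b_rc_6_1 lc_b_rc_8_0 lc_b_rc_9_2 lc_b_rc_9_2 lc_b_rc_6_1 lc_b_rc_8_2 lc_b_rc_9_2 lc_b_rc_9_2 lc_b_rc_6_1 lc_b_rc_7_2) (@D3.rec (fun _ => (Cert rels S Gen.b)) lc_b_rc_6_1 lc_b_rc_8_2 lc_b_rc_10_2 lc_b_rc_9_2 lc_b_rc_6_1 lc_b_rc_8_2 lc_b_rc_9_2 lc_b_rc_6_1 lc_b_rc_10_2 lc_b_rc_6_1 lc_b_rc_8_2 lc_b_rc_26_5 lc_b_rc_8_2 lc_b_rc_10_2 lc_b_rc_6_1 lc_b_rc_1_3 lc_b_rc_9_2 lc_b_rc_9_2 lc_b_rc_6_1 lc_b_rc_8_2 lc_b_Cert_tree lc_b_rc_6_1 lc_b_rc_7_0 lc_b_Cert_tree lc_b_Cert_tree lc_b_rc_8_2 lc_b_rc_6_1 lc_b_Cert_tree lc_b_rc_6_1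 lc_b_rc_6_1 lc_b_Cert_tree lc_b_rc_6_1 lc_b_rc_9_2 lc_b_rc_6_1 lc_b_rc_8_2 lc_b_rc_7_2 lc_b_rc_6_1 lc_b_rc_8_2 lc_b_rc_8_2 lc_b_rc_10_2 lc_b_rc_7_2 lc_b_rc_9_2 lc_b_rc_9_2 lc_b_rc_10_2 lc_b_rc_26_5 lc_b_rc_26_1 lc_b_rc_10_2 lc_b_Cert_tree lc_b_Cert_tree lc_b_rc_1_3 lc_b_rc_9_2 lc_b_rc_8_2 lc_b_rc_10_2 lc_b_rc_6_1 lc_b_rc_8_2 lc_b_rc_9_2 lc_b_rc_26_5 lc_b_rc_6_1 lc_b_Cert_tree lc_b_rc_10_2 lc_b_rc_6_1 lc_b_rc_9_0) (@D3.rec (fun _ => (Cert rels S Gen.b)) lc_b_rc_8_2 lc_b_Cert_tree lc_b_rc_9_2 lc_b_rc_9_2 lc_b_rc_6_1 lc_b_rc_8_2 lc_b_rc_25_16 lc_b_rc_6_1 lc_b_rc_8_2 lc_b_rc_1_5 lc_b_rc_9_2 lc_b_rc_6_1 lc_b_rc_8_2 lc_b_rc_9_2 lc_b_rc_9_2 lc_b_rc_6_1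 lc_b_rc_8_2 lc_b_rc_9_2 lc_b_rc_26_5 lc_b_rc_9_2 lc_b_rc_6_1 lc_b_rc_8_2 lc_b_rc_26_5 lc_b_rc_6_1 lc_b_rc_8_2 lc_b_rc_9_2 lc_b_rc_8_2 lc_b_rc_9_2 lc_b_Cert_tree lc_b_rc_8_2 lc_b_rc_6_1 lc_b_Cert_tree lc_b_Cert_tree lc_b_rc_6_1 lc_b_rc_9_2 lc_b_rc_10_2 lc_b_rc_8_2 lc_b_rc_10_0 lc_b_rc_1_1 lc_b_rc_7_2 lc_b_rc_6_1 lc_b_rc_6_1 lc_b_rc_26_5 lc_b_rc_6_1 lc_b_rc_8_2 lc_b_rc_6_1 lc_b_rc_6_1 lc_b_rc_10_2 lc_b_rc_6_1 lc_b_rc_10_0 lc_b_rc_26_5 lc_b_rc_6_1 lc_b_rc_10_2 lc_b_rc_6_1 lc_b_rc_9_2 lc_b_rc_9_0 lc_b_Cert_tree lc_b_rc_6_1 lc_b_rc_1_3 lc_b_rc_8_2 lc_b_rc_10_2 lc_b_rc_9_2) (@D3.rec (fun _ => (Cert rels S Gen.b)) lc_b_rc_6_1 lc_b_rc_9_2 lc_b_rc_6_1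 lc_b_rc_8_2 lc_b_rc_9_2 lc_b_rc_6_1 lc_b_rc_7_0 lc_b_rc_8_2 lc_b_rc_9_2 lc_b_rc_9_2 lc_b_rc_8_2 lc_b_rc_9_2 lc_b_rc_9_2 lc_b_rc_7_2 lc_b_rc_8_2 lc_b_rc_10_2 lc_b_rc_8_2 lc_b_rc_1_3 lc_b_rc_6_1 lc_b_rc_8_0 lc_b_Cert_tree lc_b_rc_9_2 lc_b_rc_10_2 lc_b_rc_6_1 lc_b_rc_9_2 lc_b_rc_6_1 lc_b_rc_9_2 lc_b_Cert_tree lc_b_rc_8_2 lc_b_rc_10_2 lc_b_rc_9_2 lc_b_rc_9_2 lc_b_rc_9_2 lc_b_rc_6_1 lc_b_rc_8_2 lc_b_rc_9_2 lc_b_rc_6_1 lc_b_rc_7_4 lc_b_rc_9_2 lc_b_rc_6_1 lc_b_rc_9_2 lc_b_Cert_tree lc_b_Cert_tree lc_b_rc_1_3 lc_b_rc_8_2 lc_b_rc_10_2 lc_b_rc_9_2 lc_b_rc_9_2 lc_b_rc_6_1 lc_b_rc_10_2 lc_b_rc_8_0 lc_b_rc_9_0 lc_b_rc_10_2 lc_b_rc_8_2 lc_b_rc_8_0 lc_b_rc_6_1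 lc_b_rc_8_2 lc_b_rc_6_1 lc_b_rc_8_2 lc_b_rc_8_2 lc_b_rc_26_5 lc_b_rc_8_0) (@D3.rec (fun _ => (Cert rels S Gen.b)) lc_b_rc_6_1 lc_b_rc_9_2 lc_b_rc_10_2 lc_b_rc_9_2 lc_b_rc_1_5 lc_b_rc_6_1 lc_b_rc_9_2 lc_b_rc_8_2 lc_b_Cert_tree lc_b_rc_10_2 lc_b_rc_9_2 lc_b_rc_6_1 lc_b_rc_6_1 lc_b_rc_6_1 lc_b_rc_10_2 lc_b_rc_9_2 lc_b_rc_26_5 lc_b_rc_10_2 lc_b_Cert_tree lc_b_Cert_tree lc_b_rc_1_3 lc_b_rc_8_2 lc_b_rc_10_2 lc_b_rc_8_2 lc_b_rc_9_2 lc_b_rc_9_2 lc_b_rc_6_1 lc_b_rc_26_7 lc_b_rc_10_2 lc_b_rc_9_2 lc_b_rc_10_0 lc_b_rc_6_1 lc_b_rc_8_2 lc_b_rc_6_1 lc_b_rc_6_1 lc_b_rc_10_2 lc_b_Cert_tree lc_b_rc_1_3 lc_b_rc_1_3 lc_b_rc_8_2 lc_b_rc_10_2 lc_b_rc_9_2 lc_b_rc_9_2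 lc_b_rc_26_7 lc_b_rc_9_2 lc_b_rc_6_1 lc_b_rc_26_7 lc_b_rc_10_2 lc_b_rc_10_0 lc_b_rc_6_1 lc_b_rc_6_1 lc_b_Cert_tree lc_b_rc_9_2 lc_b_rc_6_1 lc_b_rc_8_2 lc_b_rc_26_1 lc_b_rc_8_2 lc_b_rc_9_2 lc_b_rc_10_2 lc_b_rc_6_1 lc_b_rc_8_2 lc_b_rc_8_2) (@D3.rec (fun _ => (Cert rels S Gen.b)) lc_b_rc_9_2 lc_b_rc_6_1 lc_b_rc_6_1 lc_b_rc_8_2 lc_b_rc_9_2 lc_b_Cert_tree lc_b_Cert_tree lc_b_rc_1_1 lc_b_rc_8_2 lc_b_rc_10_2 lc_b_Cert_tree lc_b_rc_9_2 lc_b_rc_1_3 lc_b_rc_9_2 lc_b_rc_6_1 lc_b_rc_8_2 lc_b_rc_9_2 lc_b_rc_6_1 lc_b_rc_9_2 lc_b_rc_10_2 lc_b_rc_6_1 lc_b_rc_8_2 lc_b_rc_9_2 lc_b_rc_9_2 lc_b_rc_10_2 lc_b_rc_1_5 lc_b_Cert_tree lc_b_rc_1_3 lc_b_rc_8_2 lc_b_rc_10_2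 lc_b_rc_8_0 lc_b_rc_9_2 lc_b_rc_9_2 lc_b_rc_6_1 lc_b_rc_26_5 lc_b_rc_6_1 lc_b_rc_8_2 lc_b_rc_9_2 lc_b_Cert_tree lc_b_Cert_tree lc_b_rc_1_3 lc_b_rc_8_2 lc_b_rc_9_2 lc_b_rc_9_2 lc_b_Cert_tree lc_b_rc_8_2 lc_b_rc_10_2 lc_b_Cert_tree lc_b_rc_8_2 lc_b_rc_26_5 lc_b_rc_6_1 lc_b_rc_9_2 lc_b_rc_9_2 lc_b_rc_6_1 lc_b_rc_8_2 lc_b_rc_9_2 lc_b_rc_10_2 lc_b_Cert_tree lc_b_Cert_tree lc_b_rc_1_3 lc_b_rc_8_2 lc_b_rc_9_2) (@D3.rec (fun _ => (Cert rels S Gen.b)) lc_b_rc_9_2 lc_b_Cert_tree lc_b_rc_8_2 lc_b_rc_10_2 lc_b_Cert_tree lc_b_rc_8_2 lc_b_rc_9_2 lc_b_Cert_tree lc_b_Cert_tree lc_b_Cert_tree lc_b_rc_1_3 lc_b_rc_8_2 lc_b_rc_9_2 lc_b_rc_9_2 lc_b_rc_10_2 lc_b_Cert_tree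 lc_b_rc_8_2 lc_b_rc_10_2 lc_b_Cert_tree lc_b_rc_8_2 lc_b_Cert_tree lc_b_rc_9_2 lc_b_rc_8_2 lc_b_rc_9_2 lc_b_Cert_tree lc_b_rc_8_2 lc_b_rc_6_1 lc_b_rc_8_2 lc_b_rc_26_5 lc_b_rc_10_2 lc_b_Cert_tree lc_b_Cert_tree lc_b_rc_8_2 lc_b_rc_8_2 lc_b_rc_9_2 lc_b_rc_9_2 lc_b_Cert_tree lc_b_rc_7_4 lc_b_rc_8_2 lc_b_rc_7_4 lc_b_Cert_tree lc_b_rc_26_1 lc_b_rc_8_2 lc_b_Cert_tree lc_b_rc_8_2 lc_b_Cert_tree lc_b_Cert_tree lc_b_rc_1_3 lc_b_rc_8_2 lc_b_rc_9_2 lc_b_rc_9_2 lc_b_rc_9_2 lc_b_rc_10_2 lc_b_Cert_tree lc_b_Cert_tree lc_b_rc_8_2 lc_b_rc_7_4 lc_b_rc_8_2 lc_b_rc_9_2 lc_b_rc_9_2 lc_b_rc_8_2 lc_b_rc_10_2) (@D3.rec (fun _ => (Cert rels S Gen.b)) lc_b_rc_1_3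 lc_b_Cert_tree lc_b_rc_6_1 lc_b_rc_26_1 lc_b_rc_8_2 lc_b_rc_9_2 lc_b_rc_6_1 lc_b_rc_6_1 lc_b_rc_26_7 lc_b_rc_8_2 lc_b_rc_9_2 lc_b_rc_1_3 lc_b_rc_1_3 lc_b_Cert_tree lc_b_rc_7_4 lc_b_rc_9_2 lc_b_rc_9_2 lc_b_rc_6_1 lc_b_rc_9_2 lc_b_rc_6_1 lc_b_rc_9_2 lc_b_Cert_tree lc_b_Cert_tree lc_b_rc_10_2 lc_b_Cert_tree lc_b_Cert_tree lc_b_rc_8_2 lc_b_Cert_tree lc_b_rc_8_2 lc_b_rc_8_2 lc_b_Cert_tree lc_b_rc_8_2 lc_b_rc_8_2 lc_b_rc_9_2 lc_b_rc_6_1 lc_b_rc_9_2 lc_b_rc_8_0 lc_b_rc_6_1 lc_b_rc_10_2 lc_b_Cert_tree lc_b_Cert_tree lc_b_rc_1_3 lc_b_rc_9_2 lc_b_rc_8_2 lc_b_rc_10_2 lc_b_Cert_tree lc_b_rc_8_2 lc_b_rc_6_1 lc_b_rc_6_1 lc_b_rc_8_2 lc_b_rc_10_2 lc_b_rc_8_0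 lc_b_rc_6_1 lc_b_rc_10_0 lc_b_rc_1_3 lc_b_rc_9_2 lc_b_rc_8_2 lc_b_rc_8_0 lc_b_rc_7_4 lc_b_rc_9_2 lc_b_rc_9_0 lc_b_rc_6_1) (@D3.rec (fun _ => (Cert rels S Gen.b)) lc_b_rc_8_2 lc_b_Cert_tree lc_b_Cert_tree lc_b_rc_8_2 lc_b_rc_10_2 lc_b_rc_6_1 lc_b_rc_6_1 lc_b_Cert_tree lc_b_rc_6_1 lc_b_rc_26_1 lc_b_rc_6_1 lc_b_rc_8_2 lc_b_rc_9_2 lc_b_rc_6_1 lc_b_rc_10_2 lc_b_Cert_tree lc_b_rc_9_2 lc_b_rc_1_3 lc_b_rc_9_2 lc_b_rc_8_2 lc_b_rc_10_2 lc_b_Cert_tree lc_b_rc_8_2 lc_b_rc_6_1 lc_b_rc_6_1 lc_b_rc_8_2 lc_b_rc_1_3 lc_b_rc_6_1 lc_b_Cert_tree lc_b_rc_7_4 lc_b_rc_9_2 lc_b_Cert_tree lc_b_Cert_tree lc_b_rc_10_2 lc_b_rc_10_2 lc_b_rc_10_2 lc_b_rc_6_1 lc_b_rc_8_2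 lc_b_rc_7_4 lc_b_rc_9_2 lc_b_rc_26_7 lc_b_rc_8_2 lc_b_rc_6_1 lc_b_rc_9_2 lc_b_rc_9_2 lc_b_Cert_tree lc_b_Cert_tree lc_b_rc_9_2 lc_b_rc_1_5 lc_b_rc_1_5 lc_b_rc_10_2 lc_b_rc_26_7 lc_b_rc_8_2 lc_b_rc_9_2 lc_b_rc_6_1 lc_b_rc_9_0 lc_b_rc_7_4 lc_b_rc_6_1 lc_b_Cert_tree lc_b_rc_10_2 lc_b_rc_6_1 lc_b_rc_9_2) (@D3.rec (fun _ => (Cert rels S Gen.b)) lc_b_Cert_tree lc_b_rc_6_1 lc_b_rc_8_2 lc_b_rc_10_2 lc_b_Cert_tree lc_b_rc_7_2 lc_b_rc_6_1 lc_b_rc_8_2 lc_b_rc_10_2 lc_b_rc_7_0 lc_b_Cert_tree lc_b_rc_26_5 lc_b_Cert_tree lc_b_Cert_tree lc_b_rc_10_2 lc_b_rc_8_2 lc_b_rc_6_1 lc_b_rc_6_1 lc_b_rc_8_2 lc_b_rc_8_2 lc_b_rc_8_2 lc_b_rc_1_5 lc_b_rc_8_2 lc_b_rc_8_2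 lc_b_rc_8_0 lc_b_rc_8_2 lc_b_rc_9_2 lc_b_rc_8_2 lc_b_rc_26_5 lc_b_rc_9_2 lc_b_rc_8_0 lc_b_Cert_tree lc_b_Cert_tree lc_b_Cert_tree lc_b_rc_9_2 lc_b_rc_6_1 lc_b_Cert_tree lc_b_rc_9_2 lc_b_rc_6_1 lc_b_Cert_tree lc_b_rc_9_2 lc_b_Cert_tree lc_b_rc_26_1 lc_b_rc_6_1 lc_b_rc_7_0 lc_b_rc_26_1 lc_b_rc_8_0 lc_b_Cert_tree lc_b_rc_10_2 lc_b_rc_9_2 lc_b_rc_7_2 lc_b_rc_8_2 lc_b_rc_8_2 lc_b_rc_7_4 lc_b_rc_9_2 lc_b_Cert_tree lc_b_rc_7_4 lc_b_rc_8_2 lc_b_rc_10_2 lc_b_rc_1_1 lc_b_rc_6_1 lc_b_rc_9_2) (@D3.rec (fun _ => (Cert rels S Gen.b)) lc_b_rc_8_2 lc_b_Cert_tree lc_b_rc_10_2 lc_b_Cert_tree lc_b_Cert_tree lc_b_rc_1_3 lc_b_rc_9_2 lc_b_Cert_tree lc_b_Cert_tree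 lc_b_rc_8_2 lc_b_rc_7_4 lc_b_rc_6_1 lc_b_Cert_tree lc_b_rc_8_2 lc_b_rc_9_2 lc_b_rc_6_1 lc_b_Cert_tree lc_b_rc_7_4 lc_b_rc_9_2 lc_b_rc_9_2 lc_b_Cert_tree lc_b_rc_6_1 lc_b_rc_8_2 lc_b_Cert_tree lc_b_rc_7_4 lc_b_rc_8_2 lc_b_rc_1_1 lc_b_rc_9_2 lc_b_rc_8_2 lc_b_Cert_tree lc_b_rc_26_1 lc_b_rc_8_2 lc_b_rc_10_2 lc_b_Cert_tree lc_b_rc_9_2 lc_b_rc_9_2 lc_b_rc_26_7 lc_b_rc_10_2 lc_b_rc_1_5 lc_b_rc_26_5 lc_b_Cert_tree lc_b_rc_6_1 lc_b_rc_25_0 lc_b_rc_9_2 lc_b_Cert_tree lc_b_rc_9_2 lc_b_rc_25_4 lc_b_rc_6_1 lc_b_rc_8_2 lc_b_rc_9_2 lc_b_rc_6_1 lc_b_Cert_tree lc_b_rc_10_2 lc_b_rc_9_2 lc_b_rc_6_1 lc_b_rc_8_2 lc_b_rc_10_2 lc_b_rc_6_1 lc_b_rc_6_1 lc_b_rc_9_2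 lc_b_Cert_tree lc_b_rc_7_0) (@D3.rec (fun _ => (Cert rels S Gen.b)) lc_b_rc_9_0 lc_b_rc_8_2 lc_b_rc_8_2 lc_b_rc_9_2 lc_b_rc_25_4 lc_b_rc_9_2 lc_b_rc_8_2 lc_b_rc_10_2 lc_b_rc_9_2 lc_b_rc_6_1 lc_b_rc_26_5 lc_b_Cert_tree lc_b_rc_9_2 lc_b_rc_1_1 lc_b_rc_26_7 lc_b_rc_9_2 lc_b_rc_6_1 lc_b_Cert_tree lc_b_rc_9_2 lc_b_rc_8_2 lc_b_rc_9_2 lc_b_Cert_tree lc_b_Cert_tree lc_b_rc_8_2 lc_b_rc_10_2 lc_b_rc_1_5 lc_b_rc_26_1 lc_b_rc_6_1 lc_b_rc_8_2 lc_b_rc_9_2 lc_b_rc_6_1 lc_b_rc_8_2 lc_b_rc_9_2 lc_b_rc_10_2 lc_b_rc_9_2 lc_b_rc_9_0 lc_b_rc_9_2 lc_b_rc_1_5 lc_b_rc_9_2 lc_b_rc_9_2 lc_b_rc_1_5 lc_b_rc_8_2 lc_b_Cert_tree lc_b_rc_8_2 lc_b_rc_8_2 lc_b_rc_9_2 lc_b_Cert_tree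 lc_b_rc_6_1 lc_b_rc_10_2 lc_b_rc_6_1 lc_b_rc_8_2 lc_b_rc_9_2 lc_b_rc_6_1 lc_b_rc_8_2 lc_b_rc_9_2 lc_b_rc_9_0 lc_b_rc_8_2 lc_b_Cert_tree lc_b_rc_1_3 lc_b_rc_6_1 lc_b_rc_8_2 lc_b_rc_1_1) (@D3.rec (fun _ => (Cert rels S Gen.b)) lc_b_rc_9_2 lc_b_rc_8_0 lc_b_rc_9_2 lc_b_rc_6_1 lc_b_rc_8_0 lc_b_rc_9_2 lc_b_Cert_tree lc_b_rc_6_1 lc_b_rc_8_2 lc_b_rc_10_2 lc_b_rc_8_2 lc_b_rc_8_2 lc_b_Cert_tree lc_b_Cert_tree lc_b_Cert_tree lc_b_rc_10_2 lc_b_rc_6_1 lc_b_rc_8_2 lc_b_rc_9_2 lc_b_rc_6_1 lc_b_rc_8_2 lc_b_rc_9_2 lc_b_Cert_tree lc_b_Cert_tree lc_b_Cert_tree lc_b_rc_10_2 lc_b_Cert_tree lc_b_rc_8_0 lc_b_rc_8_2 lc_b_Cert_tree lc_b_rc_9_2 lc_b_rc_6_1 lc_b_Cert_tree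 lc_b_rc_9_2 lc_b_rc_6_1 lc_b_Cert_tree lc_b_rc_9_2 lc_b_rc_25_12 lc_b_rc_7_4 lc_b_rc_6_1 lc_b_rc_8_2 lc_b_rc_10_2 lc_b_rc_9_2 lc_b_rc_9_0 lc_b_rc_8_2 lc_b_rc_8_2 lc_b_rc_9_2 lc_b_rc_8_2 lc_b_rc_6_1 lc_b_rc_9_2 lc_b_rc_6_1 lc_b_rc_8_2 lc_b_rc_9_2 lc_b_rc_6_1 lc_b_rc_8_2 lc_b_rc_9_2 lc_b_Cert_tree lc_b_rc_25_4 lc_b_Cert_tree lc_b_rc_10_2 lc_b_rc_6_1 lc_b_rc_9_2) (@D3.rec (fun _ => (Cert rels S Gen.b)) lc_b_rc_8_2 lc_b_rc_8_2 lc_b_rc_8_0 lc_b_rc_9_2 lc_b_rc_8_2 lc_b_rc_9_2 lc_b_rc_8_2 lc_b_rc_7_4 lc_b_rc_9_2 lc_b_rc_8_2 lc_b_Cert_tree lc_b_rc_1_3 lc_b_rc_9_0 lc_b_rc_6_1 lc_b_rc_6_1 lc_b_rc_26_1 lc_b_rc_6_1 lc_b_rc_25_4 lc_b_rc_9_2 lc_b_rc_6_1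 lc_b_rc_8_2 lc_b_rc_9_2 lc_b_rc_9_0 lc_b_rc_10_2 lc_b_rc_8_2 lc_b_rc_10_2 lc_b_rc_10_2 lc_b_rc_6_1 lc_b_rc_26_5 lc_b_rc_8_2 lc_b_rc_9_0 lc_b_rc_6_1 lc_b_rc_8_2 lc_b_rc_9_2 lc_b_rc_25_0 lc_b_rc_8_2 lc_b_Cert_tree lc_b_Cert_tree lc_b_rc_8_0 lc_b_rc_10_2 lc_b_rc_6_1 lc_b_rc_9_2 lc_b_rc_6_1 lc_b_rc_8_2 lc_b_rc_26_7 lc_b_Cert_tree lc_b_rc_6_1 lc_b_rc_9_0 lc_b_rc_10_2 lc_b_rc_9_2 lc_b_rc_8_2 lc_b_rc_9_2 lc_b_rc_8_2 lc_b_rc_9_2 lc_b_rc_6_1 lc_b_rc_9_2 lc_b_rc_6_1 lc_b_rc_8_2 lc_b_rc_6_1 lc_b_rc_9_2 lc_b_rc_7_0 lc_b_rc_8_2) (@D3.rec (fun _ => (Cert rels S Gen.b)) lc_b_rc_10_2 lc_b_rc_26_1 lc_b_rc_7_2 lc_b_rc_26_7 lc_b_rc_26_7 lc_b_rc_8_0 lc_b_rc_9_2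 lc_b_Cert_tree lc_b_rc_7_2 lc_b_rc_7_4 lc_b_rc_8_2 lc_b_rc_9_2 lc_b_rc_8_2 lc_b_rc_8_0 lc_b_Cert_tree lc_b_rc_10_2 lc_b_rc_8_2 lc_b_Cert_tree lc_b_rc_9_2 lc_b_rc_8_2 lc_b_rc_9_2 lc_b_rc_6_1 lc_b_rc_8_2 lc_b_rc_6_1 lc_b_rc_6_1 lc_b_rc_10_2 lc_b_rc_10_0 lc_b_rc_26_5 lc_b_rc_8_2 lc_b_rc_10_2 lc_b_rc_8_2 lc_b_rc_8_0 lc_b_Cert_tree lc_b_rc_8_2 lc_b_rc_6_1 lc_b_rc_1_5 lc_b_rc_9_2 lc_b_rc_9_2 lc_b_rc_26_7 lc_b_rc_6_1 lc_b_rc_8_2 lc_b_Cert_tree lc_b_rc_10_2 lc_b_rc_8_0 lc_b_rc_9_2 lc_b_Cert_tree lc_b_rc_26_5 lc_b_rc_9_2 lc_b_Cert_tree lc_b_rc_9_0 lc_b_rc_10_2 lc_b_rc_8_2 lc_b_Cert_tree lc_b_rc_9_2 lc_b_rc_6_1 lc_b_rc_26_5 lc_b_rc_9_2 lc_b_rc_26_1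 lc_b_rc_26_5 lc_b_rc_10_2 lc_b_rc_6_1 lc_b_rc_6_1) (@D3.rec (fun _ => (Cert rels S Gen.b)) lc_b_rc_9_2 lc_b_rc_25_4 lc_b_rc_8_0 lc_b_rc_8_2 lc_b_rc_9_2 lc_b_rc_9_0 lc_b_rc_26_5 lc_b_rc_8_2 lc_b_rc_26_5 lc_b_rc_9_2 lc_b_rc_6_1 lc_b_rc_8_2 lc_b_rc_9_2 lc_b_rc_6_1 lc_b_rc_8_2 lc_b_rc_9_2 lc_b_Cert_tree lc_b_Cert_tree lc_b_rc_8_2 lc_b_rc_6_1 lc_b_rc_8_2 lc_b_rc_26_7 lc_b_Cert_tree lc_b_rc_8_0 lc_b_Cert_tree lc_b_Cert_tree lc_b_rc_9_2 lc_b_rc_1_5 lc_b_rc_7_2 lc_b_rc_8_2 lc_b_rc_9_2 lc_b_Cert_tree lc_b_rc_6_1 lc_b_rc_8_2 lc_b_rc_10_2 lc_b_rc_26_5 lc_b_rc_9_2 lc_b_rc_6_1 lc_b_rc_8_2 lc_b_rc_9_2 lc_b_rc_8_2 lc_b_rc_26_7 lc_b_rc_9_0 lc_b_rc_9_0 lc_b_rc_9_2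 lc_b_rc_1_5 lc_b_rc_9_2 lc_b_Cert_tree lc_b_Cert_tree lc_b_rc_8_2 lc_b_rc_10_2 lc_b_rc_6_1 lc_b_rc_8_2 lc_b_rc_9_2 lc_b_rc_6_1 lc_b_rc_8_2 lc_b_rc_9_2 lc_b_rc_9_0 lc_b_Cert_tree lc_b_Cert_tree lc_b_rc_10_2 lc_b_rc_26_7) (@D3.rec (fun _ => (Cert rels S Gen.b)) lc_b_rc_9_2 lc_b_Cert_tree lc_b_rc_8_2 lc_b_rc_9_2 lc_b_rc_6_1 lc_b_rc_8_2 lc_b_rc_9_2 lc_b_Cert_tree lc_b_rc_26_7 lc_b_Cert_tree lc_b_rc_9_2 lc_b_rc_10_2 lc_b_rc_10_2 lc_b_rc_6_1 lc_b_rc_10_2 lc_b_Cert_tree lc_b_rc_8_2 lc_b_rc_9_2 lc_b_rc_6_1 lc_b_rc_8_2 lc_b_rc_9_2 lc_b_Cert_tree lc_b_rc_9_2 lc_b_rc_9_2 lc_b_rc_8_2 lc_b_rc_10_2 lc_b_rc_8_2 lc_b_rc_6_1 lc_b_rc_8_2 lc_b_rc_9_2 lc_b_rc_6_1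 lc_b_rc_8_2 lc_b_rc_9_2 lc_b_Cert_tree lc_b_rc_6_1 lc_b_Cert_tree lc_b_rc_6_1 lc_b_rc_8_2 lc_b_Cert_tree lc_b_rc_9_2 lc_b_rc_8_2 lc_b_Cert_tree lc_b_rc_9_2 lc_b_rc_6_1 lc_b_Cert_tree lc_b_rc_9_2 lc_b_Cert_tree lc_b_rc_8_2 lc_b_Cert_tree lc_b_Cert_tree lc_b_rc_6_1 lc_b_rc_8_2 lc_b_rc_8_2 lc_b_Cert_tree lc_b_rc_9_2 lc_b_rc_26_7 lc_b_rc_6_1 lc_b_rc_8_2 lc_b_Cert_tree lc_b_rc_9_2 lc_b_Cert_tree lc_b_Cert_tree) (@D3.rec (fun _ => (Cert rels S Gen.b)) lc_b_rc_9_2 lc_b_rc_9_2 lc_b_rc_6_1 lc_b_rc_8_2 lc_b_rc_9_2 lc_b_rc_6_1 lc_b_rc_8_2 lc_b_rc_9_2 lc_b_rc_10_2 lc_b_rc_6_1 lc_b_rc_8_2 lc_b_rc_9_2 lc_b_rc_6_1 lc_b_rc_26_5 lc_b_rc_10_2 lc_b_rc_6_1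 lc_b_rc_8_2 lc_b_rc_1_3 lc_b_rc_6_1 lc_b_rc_8_2 lc_b_rc_9_2 lc_b_rc_8_0 lc_b_Cert_tree lc_b_rc_1_3 lc_b_rc_8_2 lc_b_rc_10_2 lc_b_rc_6_1 lc_b_rc_8_2 lc_b_rc_10_2 lc_b_rc_6_1 lc_b_rc_6_1 lc_b_rc_10_2 lc_b_rc_6_1 lc_b_rc_8_2 lc_b_rc_9_2 lc_b_rc_8_2 lc_b_rc_9_2 lc_b_rc_10_2 lc_b_rc_6_1 lc_b_rc_8_2 lc_b_rc_9_2 lc_b_rc_6_1 lc_b_rc_8_2 lc_b_rc_26_1 lc_b_rc_6_1 lc_b_Cert_tree lc_b_rc_1_3 lc_b_rc_8_2 lc_b_rc_10_2 lc_b_rc_1_5 lc_b_rc_9_0 lc_b_Cert_tree lc_b_rc_9_2 lc_b_rc_10_2 lc_b_rc_6_1 lc_b_rc_9_2 lc_b_rc_8_2 lc_b_rc_10_2 lc_b_rc_6_1 lc_b_rc_8_2 lc_b_rc_9_2 lc_b_rc_9_2) (@D3.rec (fun _ => (Cert rels S Gen.b)) lc_b_rc_10_2 lc_b_rc_6_1 lc_b_rc_8_2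 lc_b_rc_8_0 lc_b_rc_6_1 lc_b_rc_7_4 lc_b_rc_9_2 lc_b_Cert_tree lc_b_Cert_tree lc_b_rc_1_3 lc_b_rc_8_2 lc_b_rc_10_2 lc_b_Cert_tree lc_b_Cert_tree lc_b_rc_9_2 lc_b_rc_9_2 lc_b_rc_6_1 lc_b_rc_9_2 lc_b_rc_8_2 lc_b_rc_8_2 lc_b_rc_10_2 lc_b_rc_6_1 lc_b_rc_8_2 lc_b_rc_9_2 lc_b_rc_6_1 lc_b_rc_26_5 lc_b_rc_10_2 lc_b_rc_6_1 lc_b_rc_8_2 lc_b_rc_9_2 lc_b_rc_6_1 lc_b_rc_8_2 lc_b_rc_9_2 lc_b_rc_6_1 lc_b_rc_8_2 lc_b_rc_9_2 lc_b_Cert_tree lc_b_Cert_tree lc_b_rc_1_3 lc_b_rc_8_2 lc_b_rc_9_2 lc_b_Cert_tree lc_b_Cert_tree lc_b_rc_9_2 lc_b_Cert_tree lc_b_Cert_tree lc_b_rc_8_2 lc_b_rc_10_2 lc_b_Cert_tree lc_b_rc_7_4 lc_b_rc_8_0 lc_b_rc_26_7 lc_b_Cert_tree lc_b_rc_10_2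 lc_b_Cert_tree lc_b_rc_6_1 lc_b_rc_8_2 lc_b_Cert_tree lc_b_Cert_tree lc_b_rc_1_3 lc_b_rc_8_2 lc_b_rc_9_2) (@D3.rec (fun _ => (Cert rels S Gen.b)) lc_b_rc_9_2 lc_b_Cert_tree lc_b_Cert_tree lc_b_rc_8_2 lc_b_rc_10_2 lc_b_rc_6_1 lc_b_rc_9_2 lc_b_Cert_tree lc_b_rc_6_1 lc_b_rc_9_2 lc_b_rc_9_2 lc_b_rc_6_1 lc_b_rc_8_2 lc_b_rc_10_2 lc_b_rc_6_1 lc_b_rc_9_2 lc_b_rc_6_1 lc_b_Cert_tree lc_b_Cert_tree lc_b_rc_1_3 lc_b_rc_8_2 lc_b_rc_9_2 lc_b_rc_8_2 lc_b_Cert_tree lc_b_rc_9_2 lc_b_Cert_tree lc_b_Cert_tree lc_b_rc_26_7 lc_b_rc_10_2 lc_b_Cert_tree lc_b_rc_26_5 lc_b_Cert_tree lc_b_rc_8_2 lc_b_rc_9_2 lc_b_Cert_tree lc_b_rc_7_2 lc_b_Cert_tree lc_b_rc_1_3 lc_b_rc_8_2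 lc_b_rc_9_2 lc_b_rc_9_2 lc_b_Cert_tree lc_b_Cert_tree lc_b_rc_8_2 lc_b_rc_10_2 lc_b_Cert_tree lc_b_rc_6_1 lc_b_rc_7_2 lc_b_rc_8_2 lc_b_Cert_tree lc_b_Cert_tree lc_b_rc_1_3 lc_b_rc_6_1 lc_b_rc_9_2 lc_b_rc_9_2 lc_b_Cert_tree lc_b_rc_10_2 lc_b_rc_6_1 lc_b_Cert_tree lc_b_rc_1_3 lc_b_rc_7_2 lc_b_rc_8_2) (@D3.rec (fun _ => (Cert rels S Gen.b)) lc_b_rc_9_2 lc_b_rc_9_2 lc_b_rc_9_2 lc_b_rc_8_2 lc_b_rc_26_5 lc_b_rc_10_2 lc_b_Cert_tree lc_b_rc_6_1 lc_b_Cert_tree lc_b_rc_8_2 lc_b_rc_26_7 lc_b_rc_10_2 lc_b_rc_6_1 lc_b_rc_26_5 lc_b_rc_10_2 lc_b_rc_9_2 lc_b_rc_8_2 lc_b_Cert_tree lc_b_Cert_tree lc_b_Cert_tree lc_b_rc_9_2 lc_b_rc_10_2 lc_b_rc_9_2 lc_b_rc_6_1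 lc_b_rc_9_2 lc_b_rc_6_1 lc_b_rc_9_2 lc_b_rc_6_1 lc_b_rc_9_2 lc_b_rc_26_7 lc_b_Cert_tree lc_b_rc_10_2 lc_b_rc_9_2 lc_b_Cert_tree lc_b_Cert_tree lc_b_rc_8_2 lc_b_rc_6_1 lc_b_Cert_tree lc_b_rc_8_2 lc_b_rc_9_2 lc_b_Cert_tree lc_b_rc_9_2 lc_b_rc_6_1 lc_b_rc_8_2 lc_b_rc_9_2 lc_b_rc_6_1 lc_b_rc_10_2 lc_b_rc_6_1 lc_b_rc_8_2 lc_b_rc_9_2 lc_b_rc_6_1 lc_b_rc_9_2 lc_b_rc_6_1 lc_b_rc_9_2 lc_b_Cert_tree lc_b_Cert_tree lc_b_rc_1_3 lc_b_rc_8_2 lc_b_rc_1_3 lc_b_rc_8_2 lc_b_rc_9_2 lc_b_Cert_tree) (@D3.rec (fun _ => (Cert rels S Gen.b)) lc_b_Cert_tree lc_b_rc_8_2 lc_b_rc_7_4 lc_b_Cert_tree lc_b_Cert_tree lc_b_rc_9_2 lc_b_rc_9_0 lc_b_Cert_tree lc_b_rc_1_3 lc_b_rc_9_2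 lc_b_rc_8_2 lc_b_rc_6_1 lc_b_Cert_tree lc_b_rc_9_2 lc_b_rc_6_1 lc_b_rc_26_5 lc_b_rc_9_2 lc_b_rc_8_2 lc_b_Cert_tree lc_b_Cert_tree lc_b_rc_7_4 lc_b_rc_7_4 lc_b_rc_9_2 lc_b_rc_6_1 lc_b_rc_8_2 lc_b_rc_9_2 lc_b_rc_6_1 lc_b_rc_8_2 lc_b_rc_9_2 lc_b_rc_6_1 lc_b_rc_9_2 lc_b_rc_6_1 lc_b_rc_9_2 lc_b_Cert_tree lc_b_Cert_tree lc_b_rc_1_3 lc_b_rc_8_2 lc_b_rc_9_2 lc_b_rc_9_2 lc_b_Cert_tree lc_b_Cert_tree lc_b_Cert_tree lc_b_rc_8_0 lc_b_rc_6_1 lc_b_Cert_tree lc_b_rc_9_2 lc_b_rc_6_1 lc_b_Cert_tree lc_b_rc_9_2 lc_b_rc_1_3 lc_b_rc_9_2 lc_b_rc_8_2 lc_b_Cert_tree lc_b_rc_7_4 lc_b_rc_9_2 lc_b_Cert_tree lc_b_Cert_tree lc_b_rc_8_2 lc_b_rc_6_1 lc_b_rc_8_2 lc_b_rc_9_2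 lc_b_rc_6_1) (@D3.rec (fun _ => (Cert rels S Gen.b)) lc_b_rc_9_2 lc_b_rc_6_1 lc_b_Cert_tree lc_b_rc_6_1 lc_b_rc_1_3 lc_b_rc_8_2 lc_b_rc_9_2 lc_b_rc_8_2 lc_b_Cert_tree lc_b_Cert_tree lc_b_rc_8_2 lc_b_rc_10_2 lc_b_Cert_tree lc_b_rc_8_2 lc_b_rc_6_1 lc_b_Cert_tree lc_b_rc_8_2 lc_b_rc_9_2 lc_b_rc_7_2 lc_b_rc_6_1 lc_b_Cert_tree lc_b_rc_9_2 lc_b_rc_6_1 lc_b_rc_26_5 lc_b_rc_1_3 lc_b_rc_9_2 lc_b_rc_7_4 lc_b_rc_9_2 lc_b_Cert_tree lc_b_Cert_tree lc_b_rc_8_2 lc_b_rc_10_2 lc_b_rc_6_1 lc_b_rc_9_2 lc_b_rc_8_2 lc_b_Cert_tree lc_b_rc_10_0 lc_b_rc_10_2 lc_b_rc_7_4 lc_b_rc_8_2 lc_b_rc_7_4 lc_b_rc_6_1 lc_b_rc_9_2 lc_b_Cert_tree lc_b_rc_6_1 lc_b_rc_9_2 lc_b_rc_8_2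 lc_b_rc_1_3 lc_b_Cert_tree lc_b_Cert_tree lc_b_rc_1_3 lc_b_rc_8_2 lc_b_rc_9_2 lc_b_rc_9_2 lc_b_Cert_tree lc_b_Cert_tree lc_b_rc_8_2 lc_b_rc_7_4 lc_b_Cert_tree lc_b_rc_8_2 lc_b_Cert_tree lc_b_rc_6_1) (@D3.rec (fun _ => (Cert rels S Gen.b)) lc_b_Cert_tree lc_b_rc_6_1 lc_b_rc_26_5 lc_b_rc_9_2 lc_b_rc_1_3 lc_b_rc_9_2 lc_b_rc_7_4 lc_b_Cert_tree lc_b_Cert_tree lc_b_rc_6_1 lc_b_rc_6_1 lc_b_rc_9_2 lc_b_Cert_tree lc_b_rc_6_1 lc_b_rc_6_1 lc_b_Cert_tree lc_b_rc_9_0 lc_b_rc_9_2 lc_b_rc_6_1 lc_b_rc_26_5 lc_b_rc_8_2 lc_b_rc_8_2 lc_b_rc_9_2 lc_b_rc_7_4 lc_b_rc_9_2 lc_b_Cert_tree lc_b_rc_8_2 lc_b_rc_10_2 lc_b_Cert_tree lc_b_Cert_tree lc_b_rc_10_2 lc_b_Cert_tree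 lc_b_Cert_tree lc_b_rc_26_1 lc_b_rc_10_2 lc_b_rc_6_1 lc_b_Cert_tree lc_b_rc_8_2 lc_b_Cert_tree lc_b_rc_9_2 lc_b_rc_8_0 lc_b_rc_26_1 lc_b_rc_1_3 lc_b_rc_9_2 lc_b_Cert_tree lc_b_rc_26_1 lc_b_rc_8_2 lc_b_rc_9_2 lc_b_rc_7_4 lc_b_rc_9_2 lc_b_Cert_tree lc_b_rc_8_0 lc_b_rc_9_2 lc_b_rc_6_1 lc_b_rc_26_5 lc_b_rc_8_2 lc_b_rc_6_1 lc_b_rc_9_0 lc_b_rc_8_2 lc_b_rc_7_2 lc_b_rc_6_1 lc_b_rc_8_2) (@D3.rec (fun _ => (Cert rels S Gen.b)) lc_b_rc_10_2 lc_b_rc_26_5 lc_b_rc_7_4 lc_b_rc_8_0 lc_b_rc_26_1 lc_b_rc_9_2 lc_b_rc_10_2 lc_b_rc_8_2 lc_b_rc_26_1 lc_b_rc_7_4 lc_b_Cert_tree lc_b_rc_8_2 lc_b_rc_9_2 lc_b_rc_6_1 lc_b_rc_7_0 lc_b_rc_9_2 lc_b_Cert_tree lc_b_rc_9_2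 lc_b_rc_9_0 lc_b_Cert_tree lc_b_rc_9_2 lc_b_rc_10_2 lc_b_rc_6_1 lc_b_Cert_tree lc_b_rc_7_4 lc_b_Cert_tree lc_b_rc_6_1 lc_b_rc_8_2 lc_b_rc_9_2 lc_b_rc_10_2 lc_b_rc_6_1 lc_b_Cert_tree lc_b_rc_8_2 lc_b_rc_8_2 lc_b_rc_7_4 lc_b_rc_8_2 lc_b_rc_6_1 lc_b_rc_9_2 lc_b_rc_6_1 lc_b_rc_9_2 lc_b_rc_6_1 lc_b_rc_9_2 lc_b_rc_6_1 lc_b_rc_9_2 lc_b_rc_9_0 lc_b_Cert_tree lc_b_rc_26_5 lc_b_Cert_tree lc_b_rc_8_2 lc_b_rc_9_2 lc_b_rc_6_1 lc_b_rc_26_1 lc_b_Cert_tree lc_b_Cert_tree lc_b_rc_8_2 lc_b_rc_6_1 lc_b_Cert_tree lc_b_rc_9_2 lc_b_rc_6_1 lc_b_Cert_tree lc_b_rc_9_2 lc_b_rc_6_1)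
def ce_b_9 : D2 → D3 → (Cert rels S Gen.b) := @D2.rec (fun _ => D3 → (Cert rels S Gen.b)) (@D3.rec (fun _ => (Cert rels S Gen.b)) lc_b_rc_26_5 lc_b_rc_9_2 lc_b_rc_7_4 lc_b_rc_9_0 lc_b_rc_10_2 lc_b_rc_7_4 lc_b_rc_9_2 lc_b_rc_9_2 lc_b_rc_6_1 lc_b_rc_9_2 lc_b_rc_6_1 lc_b_Cert_tree lc_b_rc_9_2 lc_b_rc_6_1 lc_b_Cert_tree lc_b_rc_9_2 lc_b_Cert_tree lc_b_Cert_tree lc_b_rc_26_7 lc_b_Cert_tree lc_b_Cert_tree lc_b_rc_10_2 lc_b_rc_8_2 lc_b_rc_8_2 lc_b_rc_6_1 lc_b_rc_8_2 lc_b_rc_9_2 lc_b_rc_7_4 lc_b_rc_1_3 lc_b_rc_6_1 lc_b_rc_8_2 lc_b_rc_9_2 lc_b_rc_6_1 lc_b_rc_8_2 lc_b_rc_9_2 lc_b_rc_9_2 lc_b_rc_6_1 lc_b_rc_8_2 lc_b_rc_9_2 lc_b_rc_26_5 lc_b_rc_10_2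 lc_b_rc_6_1 lc_b_rc_8_2 lc_b_rc_9_2 lc_b_rc_6_1 lc_b_rc_8_2 lc_b_rc_9_2 lc_b_Cert_tree lc_b_Cert_tree lc_b_rc_1_3 lc_b_rc_8_2 lc_b_rc_9_2 lc_b_Cert_tree lc_b_rc_26_7 lc_b_Cert_tree lc_b_rc_6_1 lc_b_rc_9_2 lc_b_rc_7_2 lc_b_rc_8_2 lc_b_rc_6_1 lc_b_Cert_tree lc_b_rc_6_1) (@D3.rec (fun _ => (Cert rels S Gen.b)) lc_b_Cert_tree lc_b_rc_9_2 lc_b_rc_6_1 lc_b_Cert_tree lc_b_rc_8_0 lc_b_rc_1_3 lc_b_Cert_tree lc_b_rc_9_0 lc_b_rc_8_2 lc_b_rc_10_2 lc_b_rc_26_7 lc_b_Cert_tree lc_b_rc_9_0 lc_b_rc_1_1 lc_b_rc_1_3 lc_b_rc_7_4 lc_b_rc_9_2 lc_b_rc_6_1 lc_b_rc_6_1 lc_b_rc_1_3 lc_b_rc_1_3 lc_b_rc_8_2 lc_b_rc_6_1 lc_b_Cert_tree lc_b_rc_9_2 lc_b_rc_6_1 lc_b_Cert_tree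 lc_b_rc_9_2 lc_b_rc_8_2 lc_b_rc_9_2 lc_b_Cert_tree lc_b_Cert_tree lc_b_rc_10_2 lc_b_rc_6_1 lc_b_rc_8_2 lc_b_rc_6_1 lc_b_rc_8_2 lc_b_rc_7_0 lc_b_rc_9_2 lc_b_rc_9_2 lc_b_rc_8_2 lc_b_Cert_tree lc_b_rc_9_2 lc_b_Cert_tree lc_b_rc_25_4 lc_b_rc_7_2 lc_b_rc_9_2 lc_b_Cert_tree lc_b_Cert_tree lc_b_rc_8_2 lc_b_rc_10_2 lc_b_rc_6_1 lc_b_rc_6_1 lc_b_rc_6_1 lc_b_rc_8_0 lc_b_Cert_tree lc_b_rc_10_2 lc_b_rc_26_1 lc_b_Cert_tree lc_b_rc_9_2 lc_b_rc_8_2 lc_b_Cert_tree) (@D3.rec (fun _ => (Cert rels S Gen.b)) lc_b_rc_9_2 lc_b_Cert_tree lc_b_rc_1_3 lc_b_Cert_tree lc_b_rc_9_2 lc_b_rc_9_0 lc_b_Cert_tree lc_b_rc_8_2 lc_b_rc_1_5 lc_b_rc_6_1 lc_b_rc_6_1 lc_b_rc_8_2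 lc_b_rc_10_2 lc_b_rc_9_0 lc_b_rc_6_1 lc_b_rc_8_2 lc_b_rc_6_1 lc_b_rc_8_2 lc_b_rc_9_2 lc_b_rc_1_1 lc_b_rc_8_2 lc_b_rc_10_2 lc_b_rc_6_1 lc_b_rc_8_2 lc_b_rc_25_4 lc_b_rc_9_2 lc_b_rc_8_2 lc_b_rc_26_5 lc_b_rc_1_5 lc_b_rc_9_2 lc_b_rc_8_2 lc_b_rc_8_2 lc_b_Cert_tree lc_b_rc_9_2 lc_b_rc_8_2 lc_b_rc_8_2 lc_b_rc_8_0 lc_b_Cert_tree lc_b_rc_9_2 lc_b_rc_25_4 lc_b_rc_9_2 lc_b_Cert_tree lc_b_rc_8_0 lc_b_Cert_tree lc_b_rc_8_2 lc_b_rc_9_2 lc_b_Cert_tree lc_b_Cert_tree lc_b_rc_8_2 lc_b_rc_10_2 lc_b_rc_26_7 lc_b_Cert_tree lc_b_rc_6_1 lc_b_rc_6_1 lc_b_Cert_tree lc_b_Cert_tree lc_b_rc_10_2 lc_b_rc_6_1 lc_b_Cert_tree lc_b_rc_9_2 lc_b_rc_8_2 lc_b_rc_8_2) (@D3.rec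 (fun _ => (Cert rels S Gen.b)) lc_b_Cert_tree lc_b_rc_9_2 lc_b_rc_8_2 lc_b_rc_8_2 lc_b_rc_8_2 lc_b_rc_8_0 lc_b_rc_26_5 lc_b_rc_8_2 lc_b_Cert_tree lc_b_Cert_tree lc_b_rc_6_1 lc_b_rc_8_2 lc_b_rc_9_2 lc_b_rc_10_2 lc_b_rc_10_2 lc_b_rc_10_2 lc_b_rc_9_2 lc_b_rc_7_2 lc_b_rc_9_2 lc_b_rc_6_1 lc_b_rc_9_2 lc_b_rc_9_2 lc_b_rc_8_2 lc_b_rc_10_2 lc_b_rc_1_5 lc_b_Cert_tree lc_b_Cert_tree lc_b_rc_9_2 lc_b_rc_6_1 lc_b_Cert_tree lc_b_rc_10_0 lc_b_Cert_tree lc_b_Cert_tree lc_b_rc_6_1 lc_b_rc_9_2 lc_b_rc_9_0 lc_b_Cert_tree lc_b_rc_10_2 lc_b_Cert_tree lc_b_rc_9_2 lc_b_Cert_tree lc_b_Cert_tree lc_b_rc_6_1 lc_b_rc_8_2 lc_b_rc_7_4 lc_b_rc_9_2 lc_b_rc_6_1 lc_b_rc_9_2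 lc_b_rc_6_1 lc_b_rc_8_2 lc_b_rc_8_0 lc_b_rc_9_0 lc_b_rc_10_2 lc_b_rc_6_1 lc_b_rc_26_1 lc_b_rc_8_2 lc_b_rc_9_2 lc_b_rc_6_1 lc_b_rc_26_5 lc_b_rc_9_0 lc_b_rc_7_0 lc_b_Cert_tree) (@D3.rec (fun _ => (Cert rels S Gen.b)) lc_b_Cert_tree lc_b_rc_1_3 lc_b_rc_8_2 lc_b_rc_9_2 lc_b_rc_26_5 lc_b_rc_9_2 lc_b_rc_7_4 lc_b_rc_9_0 lc_b_rc_8_2 lc_b_rc_10_2 lc_b_rc_9_2 lc_b_rc_6_1 lc_b_Cert_tree lc_b_rc_8_2 lc_b_rc_8_2 lc_b_rc_6_1 lc_b_rc_9_0 lc_b_rc_10_0 lc_b_rc_6_1 lc_b_rc_9_2 lc_b_Cert_tree lc_b_rc_10_2 lc_b_rc_8_2 lc_b_rc_8_2 lc_b_rc_7_4 lc_b_Cert_tree lc_b_rc_9_2 lc_b_Cert_tree lc_b_Cert_tree lc_b_rc_8_2 lc_b_rc_9_2 lc_b_rc_9_0 lc_b_rc_9_2 lc_b_rc_10_2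 lc_b_rc_6_1 lc_b_rc_8_2 lc_b_rc_9_2 lc_b_rc_8_2 lc_b_rc_9_2 lc_b_rc_9_0 lc_b_rc_1_3 lc_b_rc_10_2 lc_b_Cert_tree lc_b_rc_8_2 lc_b_Cert_tree lc_b_rc_6_1 lc_b_rc_9_2 lc_b_rc_6_1 lc_b_Cert_tree lc_b_rc_10_2 lc_b_rc_7_4 lc_b_rc_9_2 lc_b_Cert_tree lc_b_Cert_tree lc_b_rc_8_2 lc_b_rc_10_2 lc_b_rc_6_1 lc_b_rc_8_2 lc_b_rc_9_2 lc_b_Cert_tree lc_b_rc_8_2 lc_b_rc_1_3) (@D3.rec (fun _ => (Cert rels S Gen.b)) lc_b_Cert_tree lc_b_rc_8_2 lc_b_rc_6_1 lc_b_rc_26_5 lc_b_rc_9_2 lc_b_rc_8_2 lc_b_rc_9_2 lc_b_rc_10_2 lc_b_rc_1_3 lc_b_Cert_tree lc_b_rc_8_2 lc_b_rc_9_2 lc_b_rc_6_1 lc_b_rc_8_2 lc_b_rc_8_2 lc_b_rc_6_1 lc_b_rc_8_2 lc_b_rc_9_2 lc_b_rc_6_1 lc_b_rc_8_2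 lc_b_rc_9_2 lc_b_rc_26_7 lc_b_Cert_tree lc_b_rc_6_1 lc_b_rc_9_2 lc_b_rc_9_0 lc_b_rc_9_2 lc_b_rc_10_2 lc_b_rc_9_2 lc_b_rc_9_0 lc_b_rc_7_4 lc_b_rc_8_2 lc_b_rc_10_2 lc_b_rc_10_2 lc_b_rc_6_1 lc_b_Cert_tree lc_b_Cert_tree lc_b_Cert_tree lc_b_rc_9_2 lc_b_rc_10_2 lc_b_rc_6_1 lc_b_rc_1_3 lc_b_rc_9_2 lc_b_rc_6_1 lc_b_rc_1_3 lc_b_rc_6_1 lc_b_rc_26_7 lc_b_rc_9_2 lc_b_rc_8_2 lc_b_rc_6_1 lc_b_rc_9_2 lc_b_rc_6_1 lc_b_rc_9_2 lc_b_rc_9_2 lc_b_rc_9_2 lc_b_rc_9_2 lc_b_Cert_tree lc_b_rc_9_2 lc_b_rc_8_2 lc_b_rc_10_2 lc_b_rc_6_1 lc_b_rc_8_2) (@D3.rec (fun _ => (Cert rels S Gen.b)) lc_b_rc_9_2 lc_b_rc_6_1 lc_b_rc_9_2 lc_b_rc_6_1 lc_b_rc_9_2 lc_b_rc_6_1 lc_b_Cert_tree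 lc_b_rc_8_0 lc_b_rc_6_1 lc_b_rc_10_2 lc_b_rc_10_2 lc_b_rc_9_2 lc_b_rc_10_2 lc_b_rc_8_2 lc_b_rc_9_0 lc_b_rc_6_1 lc_b_rc_9_2 lc_b_rc_6_1 lc_b_rc_6_1 lc_b_rc_9_2 lc_b_rc_1_3 lc_b_Cert_tree lc_b_rc_9_2 lc_b_Cert_tree lc_b_rc_6_1 lc_b_rc_8_2 lc_b_rc_7_2 lc_b_rc_6_1 lc_b_rc_26_7 lc_b_rc_6_1 lc_b_rc_9_2 lc_b_rc_6_1 lc_b_Cert_tree lc_b_rc_8_2 lc_b_rc_9_2 lc_b_Cert_tree lc_b_Cert_tree lc_b_rc_7_4 lc_b_rc_10_2 lc_b_rc_8_2 lc_b_Cert_tree lc_b_rc_9_2 lc_b_rc_6_1 lc_b_Cert_tree lc_b_rc_9_2 lc_b_rc_6_1 lc_b_Cert_tree lc_b_Cert_tree lc_b_Cert_tree lc_b_rc_8_2 lc_b_rc_7_4 lc_b_rc_9_2 lc_b_rc_6_1 lc_b_rc_9_2 lc_b_rc_8_2 lc_b_rc_1_3 lc_b_rc_26_7 lc_b_rc_26_5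 lc_b_rc_7_4 lc_b_rc_6_1 lc_b_rc_7_4 lc_b_rc_9_2) (@D3.rec (fun _ => (Cert rels S Gen.b)) lc_b_rc_8_2 lc_b_rc_7_4 lc_b_rc_8_2 lc_b_rc_1_1 lc_b_rc_7_4 lc_b_rc_8_2 lc_b_rc_10_2 lc_b_rc_9_2 lc_b_rc_9_2 lc_b_rc_7_0 lc_b_rc_26_1 lc_b_rc_9_2 lc_b_rc_6_1 lc_b_rc_10_2 lc_b_rc_26_5 lc_b_rc_6_1 lc_b_rc_9_2 lc_b_rc_7_0 lc_b_rc_1_3 lc_b_rc_1_3 lc_b_rc_8_2 lc_b_rc_8_2 lc_b_Cert_tree lc_b_rc_1_3 lc_b_rc_9_2 lc_b_Cert_tree lc_b_rc_9_2 lc_b_rc_7_4 lc_b_rc_7_4 lc_b_rc_8_2 lc_b_rc_8_2 lc_b_rc_8_2 lc_b_rc_7_4 lc_b_rc_6_1 lc_b_rc_8_0 lc_b_rc_7_4 lc_b_rc_10_2 lc_b_rc_8_2 lc_b_rc_9_2 lc_b_rc_8_2 lc_b_rc_6_1 lc_b_rc_9_2 lc_b_rc_7_4 lc_b_rc_9_2 lc_b_rc_1_1 lc_b_rc_9_2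 lc_b_Cert_tree lc_b_Cert_tree lc_b_rc_6_1 lc_b_rc_8_2 lc_b_rc_7_4 lc_b_rc_9_2 lc_b_rc_7_2 lc_b_rc_9_2 lc_b_rc_9_2 lc_b_rc_9_2 lc_b_Cert_tree lc_b_rc_7_0 lc_b_rc_1_3 lc_b_rc_8_0 lc_b_rc_6_1 lc_b_rc_9_2) (@D3.rec (fun _ => (Cert rels S Gen.b)) lc_b_Cert_tree lc_b_rc_6_1 lc_b_rc_9_2 lc_b_rc_9_2 lc_b_rc_8_2 lc_b_rc_6_1 lc_b_rc_26_5 lc_b_rc_8_2 lc_b_rc_1_5 lc_b_Cert_tree lc_b_Cert_tree lc_b_rc_1_3 lc_b_rc_1_1 lc_b_rc_9_2 lc_b_rc_1_3 lc_b_rc_9_2 lc_b_rc_6_1 lc_b_rc_8_2 lc_b_rc_26_7 lc_b_rc_8_2 lc_b_rc_10_2 lc_b_Cert_tree lc_b_rc_8_2 lc_b_rc_25_12 lc_b_rc_9_2 lc_b_rc_8_0 lc_b_rc_9_2 lc_b_rc_9_2 lc_b_Cert_tree lc_b_Cert_tree lc_b_rc_8_2 lc_b_rc_10_2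 lc_b_rc_8_2 lc_b_rc_8_2 lc_b_Cert_tree lc_b_rc_8_0 lc_b_Cert_tree lc_b_rc_10_2 lc_b_rc_6_1 lc_b_rc_9_2 lc_b_rc_9_2 lc_b_rc_10_0 lc_b_rc_9_2 lc_b_rc_8_2 lc_b_rc_6_1 lc_b_rc_26_1 lc_b_rc_9_2 lc_b_rc_6_1 lc_b_rc_9_2 lc_b_Cert_tree lc_b_Cert_tree lc_b_rc_7_4 lc_b_rc_8_2 lc_b_rc_26_5 lc_b_Cert_tree lc_b_rc_8_2 lc_b_Cert_tree lc_b_rc_8_0 lc_b_rc_6_1 lc_b_Cert_tree lc_b_rc_9_2 lc_b_Cert_tree) (@D3.rec (fun _ => (Cert rels S Gen.b)) lc_b_Cert_tree lc_b_Cert_tree lc_b_rc_8_2 lc_b_rc_6_1 lc_b_rc_9_2 lc_b_rc_6_1 lc_b_rc_1_3 lc_b_rc_6_1 lc_b_rc_9_2 lc_b_rc_7_4 lc_b_rc_7_2 lc_b_rc_9_2 lc_b_rc_6_1 lc_b_rc_8_0 lc_b_rc_8_2 lc_b_rc_7_4 lc_b_Cert_tree lc_b_rc_10_2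 lc_b_Cert_tree lc_b_rc_9_2 lc_b_rc_26_5 lc_b_rc_1_3 lc_b_rc_26_5 lc_b_rc_9_2 lc_b_rc_9_2 lc_b_rc_8_2 lc_b_rc_1_5 lc_b_rc_9_2 lc_b_rc_8_2 lc_b_rc_9_2 lc_b_rc_10_2 lc_b_rc_9_2 lc_b_rc_26_7 lc_b_rc_9_2 lc_b_rc_8_2 lc_b_Cert_tree lc_b_rc_9_2 lc_b_rc_1_1 lc_b_rc_10_2 lc_b_rc_26_5 lc_b_rc_9_2 lc_b_rc_10_2 lc_b_rc_8_2 lc_b_rc_26_5 lc_b_rc_9_2 lc_b_Cert_tree lc_b_rc_9_2 lc_b_rc_25_4 lc_b_rc_8_2 lc_b_rc_10_2 lc_b_rc_9_2 lc_b_rc_8_2 lc_b_rc_8_2 lc_b_Cert_tree lc_b_Cert_tree lc_b_rc_8_2 lc_b_rc_8_2 lc_b_rc_6_1 lc_b_rc_9_2 lc_b_rc_6_1 lc_b_rc_6_1 lc_b_rc_10_2) (@D3.rec (fun _ => (Cert rels S Gen.b)) lc_b_rc_9_2 lc_b_rc_9_2 lc_b_rc_9_2 lc_b_rc_8_2 lc_b_rc_6_1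 lc_b_rc_9_2 lc_b_rc_10_2 lc_b_Cert_tree lc_b_rc_8_2 lc_b_rc_26_5 lc_b_rc_9_2 lc_b_rc_1_3 lc_b_rc_8_2 lc_b_rc_7_4 lc_b_rc_9_2 lc_b_rc_26_1 lc_b_rc_9_2 lc_b_rc_1_5 lc_b_rc_8_2 lc_b_rc_7_2 lc_b_rc_9_2 lc_b_rc_26_1 lc_b_rc_6_1 lc_b_rc_10_2 lc_b_rc_26_1 lc_b_rc_26_5 lc_b_rc_10_2 lc_b_rc_9_2 lc_b_rc_9_2 lc_b_rc_9_0 lc_b_Cert_tree lc_b_rc_8_2 lc_b_rc_8_2 lc_b_rc_8_2 lc_b_rc_26_5 lc_b_rc_8_0 lc_b_Cert_tree lc_b_rc_8_2 lc_b_rc_9_2 lc_b_rc_9_2 lc_b_Cert_tree lc_b_Cert_tree lc_b_rc_1_5 lc_b_rc_26_5 lc_b_Cert_tree lc_b_rc_8_2 lc_b_rc_9_2 lc_b_rc_10_2 lc_b_rc_26_5 lc_b_rc_10_2 lc_b_rc_25_12 lc_b_rc_9_2 lc_b_rc_25_12 lc_b_Cert_tree lc_b_Cert_tree lc_b_rc_26_5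 lc_b_rc_8_0 lc_b_rc_9_2 lc_b_rc_9_2 lc_b_Cert_tree lc_b_rc_9_0 lc_b_rc_8_2) (@D3.rec (fun _ => (Cert rels S Gen.b)) lc_b_rc_10_2 lc_b_rc_6_1 lc_b_Cert_tree lc_b_rc_8_2 lc_b_rc_8_2 lc_b_rc_6_1 lc_b_rc_26_7 lc_b_rc_8_2 lc_b_rc_1_3 lc_b_rc_9_2 lc_b_rc_6_1 lc_b_Cert_tree lc_b_rc_8_2 lc_b_rc_10_2 lc_b_rc_6_1 lc_b_rc_9_2 lc_b_rc_9_2 lc_b_Cert_tree lc_b_rc_26_7 lc_b_rc_8_2 lc_b_rc_10_2 lc_b_rc_1_3 lc_b_rc_8_2 lc_b_rc_7_4 lc_b_rc_8_2 lc_b_rc_9_2 lc_b_Cert_tree lc_b_rc_10_2 lc_b_rc_9_2 lc_b_rc_9_2 lc_b_Cert_tree lc_b_Cert_tree lc_b_rc_8_2 lc_b_rc_10_2 lc_b_rc_7_4 lc_b_rc_8_2 lc_b_Cert_tree lc_b_rc_8_2 lc_b_rc_9_2 lc_b_rc_6_1 lc_b_Cert_tree lc_b_rc_1_3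 lc_b_rc_8_2 lc_b_rc_7_4 lc_b_rc_9_2 lc_b_rc_8_2 lc_b_rc_10_2 lc_b_Cert_tree lc_b_rc_26_5 lc_b_rc_7_2 lc_b_rc_9_2 lc_b_rc_9_2 lc_b_rc_9_2 lc_b_rc_8_2 lc_b_rc_10_2 lc_b_rc_6_1 lc_b_rc_9_2 lc_b_rc_9_2 lc_b_Cert_tree lc_b_rc_7_0 lc_b_rc_8_2 lc_b_rc_10_2) (@D3.rec (fun _ => (Cert rels S Gen.b)) lc_b_rc_6_1 lc_b_rc_26_1 lc_b_rc_8_2 lc_b_rc_6_1 lc_b_rc_6_1 lc_b_rc_26_5 lc_b_rc_6_1 lc_b_rc_1_5 lc_b_Cert_tree lc_b_rc_9_0 lc_b_rc_6_1 lc_b_rc_10_2 lc_b_rc_10_2 lc_b_rc_10_2 lc_b_rc_26_5 lc_b_rc_8_2 lc_b_rc_9_2 lc_b_Cert_tree lc_b_rc_6_1 lc_b_rc_8_2 lc_b_rc_10_2 lc_b_rc_8_2 lc_b_rc_6_1 lc_b_Cert_tree lc_b_rc_26_5 lc_b_Cert_tree lc_b_rc_6_1 lc_b_rc_10_2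 lc_b_Cert_tree lc_b_rc_8_2 lc_b_rc_9_2 lc_b_rc_6_1 lc_b_rc_8_2 lc_b_rc_26_5 lc_b_Cert_tree lc_b_rc_6_1 lc_b_rc_10_2 lc_b_rc_8_2 lc_b_Cert_tree lc_b_rc_9_2 lc_b_Cert_tree lc_b_rc_9_2 lc_b_rc_7_4 lc_b_Cert_tree lc_b_Cert_tree lc_b_rc_6_1 lc_b_rc_8_2 lc_b_rc_6_1 lc_b_rc_1_3 lc_b_rc_10_2 lc_b_rc_6_1 lc_b_rc_8_2 lc_b_rc_10_2 lc_b_rc_6_1 lc_b_rc_9_2 lc_b_rc_9_2 lc_b_Cert_tree lc_b_rc_9_2 lc_b_Cert_tree lc_b_rc_6_1 lc_b_rc_8_2 lc_b_rc_10_2) (@D3.rec (fun _ => (Cert rels S Gen.b)) lc_b_rc_6_1 lc_b_Cert_tree lc_b_rc_8_2 lc_b_rc_9_2 lc_b_rc_10_2 lc_b_rc_6_1 lc_b_rc_10_2 lc_b_rc_8_2 lc_b_Cert_tree lc_b_rc_6_1 lc_b_rc_26_7 lc_b_rc_9_2 lc_b_rc_6_1 lc_b_rc_10_2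 lc_b_rc_6_1 lc_b_rc_8_2 lc_b_rc_9_2 lc_b_Cert_tree lc_b_rc_6_1 lc_b_rc_10_2 lc_b_rc_6_1 lc_b_rc_6_1 lc_b_rc_9_2 lc_b_Cert_tree lc_b_rc_26_5 lc_b_rc_6_1 lc_b_rc_26_1 lc_b_rc_8_2 lc_b_rc_9_2 lc_b_rc_6_1 lc_b_rc_6_1 lc_b_rc_8_2 lc_b_rc_6_1 lc_b_rc_10_2 lc_b_rc_8_2 lc_b_rc_10_2 lc_b_rc_8_2 lc_b_rc_1_1 lc_b_rc_8_2 lc_b_rc_9_2 lc_b_rc_6_1 lc_b_rc_8_0 lc_b_rc_6_1 lc_b_rc_26_7 lc_b_rc_10_2 lc_b_rc_7_4 lc_b_rc_10_2 lc_b_rc_1_3 lc_b_rc_9_2 lc_b_Cert_tree lc_b_rc_8_2 lc_b_rc_7_2 lc_b_Cert_tree lc_b_rc_26_5 lc_b_rc_9_0 lc_b_rc_8_0 lc_b_rc_10_2 lc_b_rc_10_2 lc_b_rc_6_1 lc_b_rc_26_7 lc_b_Cert_tree lc_b_rc_8_2) (@D3.rec (fun _ => (Cert rels S Gen.b)) lc_b_rc_7_2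 lc_b_rc_8_2 lc_b_Cert_tree lc_b_rc_6_1 lc_b_rc_26_1 lc_b_rc_9_2 lc_b_rc_6_1 lc_b_Cert_tree lc_b_rc_6_1 lc_b_rc_9_2 lc_b_rc_8_2 lc_b_rc_6_1 lc_b_rc_26_5 lc_b_rc_9_2 lc_b_rc_6_1 lc_b_rc_9_2 lc_b_rc_10_2 lc_b_rc_8_2 lc_b_rc_10_2 lc_b_rc_26_1 lc_b_rc_9_2 lc_b_rc_6_1 lc_b_rc_9_2 lc_b_rc_9_2 lc_b_rc_6_1 lc_b_rc_8_2 lc_b_rc_8_0 lc_b_rc_9_2 lc_b_rc_6_1 lc_b_rc_9_2 lc_b_rc_9_2 lc_b_Cert_tree lc_b_rc_10_2 lc_b_rc_6_1 lc_b_rc_9_2 lc_b_rc_6_1 lc_b_rc_9_2 lc_b_rc_8_2 lc_b_Cert_tree lc_b_rc_1_3 lc_b_rc_6_1 lc_b_rc_10_2 lc_b_rc_6_1 lc_b_rc_9_2 lc_b_Cert_tree lc_b_rc_7_2 lc_b_rc_10_2 lc_b_rc_26_7 lc_b_rc_9_2 lc_b_Cert_tree lc_b_rc_9_2 lc_b_rc_10_2 lc_b_rc_6_1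 lc_b_rc_8_2 lc_b_rc_9_2 lc_b_rc_6_1 lc_b_rc_1_1 lc_b_rc_25_4 lc_b_rc_6_1 lc_b_rc_6_1 lc_b_rc_8_2 lc_b_rc_6_1) (@D3.rec (fun _ => (Cert rels S Gen.b)) lc_b_rc_9_0 lc_b_rc_9_2 lc_b_rc_8_2 lc_b_rc_8_2 lc_b_Cert_tree lc_b_rc_9_2 lc_b_rc_7_4 lc_b_rc_1_5 lc_b_rc_6_1 lc_b_rc_8_2 lc_b_rc_7_2 lc_b_Cert_tree lc_b_rc_1_1 lc_b_rc_10_2 lc_b_rc_26_1 lc_b_rc_1_3 lc_b_rc_26_1 lc_b_rc_6_1 lc_b_rc_9_2 lc_b_rc_10_2 lc_b_rc_26_7 lc_b_Cert_tree lc_b_Cert_tree lc_b_rc_6_1 lc_b_rc_9_2 lc_b_rc_1_5 lc_b_rc_9_2 lc_b_rc_7_2 lc_b_Cert_tree lc_b_rc_8_2 lc_b_rc_10_2 lc_b_rc_6_1 lc_b_rc_7_4 lc_b_rc_8_2 lc_b_rc_7_4 lc_b_rc_8_2 lc_b_rc_9_2 lc_b_rc_7_2 lc_b_rc_8_2 lc_b_rc_9_2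 lc_b_rc_7_2 lc_b_rc_8_2 lc_b_rc_9_2 lc_b_rc_7_4 lc_b_rc_9_2 lc_b_rc_1_5 lc_b_rc_26_7 lc_b_rc_7_4 lc_b_Cert_tree lc_b_rc_6_1 lc_b_rc_8_2 lc_b_rc_26_1 lc_b_rc_8_2 lc_b_rc_10_2 lc_b_Cert_tree lc_b_rc_7_2 lc_b_rc_9_2 lc_b_rc_6_1 lc_b_rc_8_2 lc_b_rc_7_0 lc_b_rc_26_1 lc_b_rc_1_3) (@D3.rec (fun _ => (Cert rels S Gen.b)) lc_b_rc_8_2 lc_b_rc_9_2 lc_b_rc_9_2 lc_b_Cert_tree lc_b_Cert_tree lc_b_rc_8_2 lc_b_rc_10_2 lc_b_rc_1_5 lc_b_rc_8_2 lc_b_rc_26_1 lc_b_rc_9_2 lc_b_rc_1_3 lc_b_rc_26_5 lc_b_rc_9_2 lc_b_rc_10_2 lc_b_rc_6_1 lc_b_rc_1_3 lc_b_rc_8_2 lc_b_rc_9_2 lc_b_rc_8_2 lc_b_Cert_tree lc_b_rc_8_2 lc_b_rc_25_12 lc_b_rc_10_2 lc_b_rc_8_2 lc_b_rc_9_2 lc_b_rc_6_1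 lc_b_rc_1_3 lc_b_rc_9_2 lc_b_rc_9_2 lc_b_rc_8_2 lc_b_rc_6_1 lc_b_rc_9_2 lc_b_rc_9_2 lc_b_Cert_tree lc_b_rc_9_2 lc_b_rc_6_1 lc_b_rc_10_2 lc_b_rc_8_2 lc_b_rc_10_2 lc_b_rc_6_1 lc_b_rc_9_2 lc_b_rc_1_3 lc_b_Cert_tree lc_b_rc_8_2 lc_b_rc_10_2 lc_b_rc_6_1 lc_b_rc_8_2 lc_b_rc_9_2 lc_b_rc_6_1 lc_b_rc_8_2 lc_b_rc_7_0 lc_b_Cert_tree lc_b_rc_8_0 lc_b_Cert_tree lc_b_rc_10_2 lc_b_rc_9_2 lc_b_rc_6_1 lc_b_rc_8_2 lc_b_rc_7_2 lc_b_Cert_tree lc_b_rc_9_2) (@D3.rec (fun _ => (Cert rels S Gen.b)) lc_b_rc_8_2 lc_b_rc_1_5 lc_b_rc_6_1 lc_b_rc_8_2 lc_b_rc_10_2 lc_b_rc_6_1 lc_b_rc_9_0 lc_b_rc_10_2 lc_b_rc_6_1 lc_b_Cert_tree lc_b_rc_9_2 lc_b_rc_6_1 lc_b_rc_10_2 lc_b_rc_9_2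 lc_b_rc_6_1 lc_b_Cert_tree lc_b_Cert_tree lc_b_rc_10_2 lc_b_rc_7_2 lc_b_rc_8_2 lc_b_Cert_tree lc_b_rc_7_2 lc_b_rc_8_2 lc_b_rc_9_2 lc_b_Cert_tree lc_b_rc_6_1 lc_b_Cert_tree lc_b_rc_9_2 lc_b_rc_25_16 lc_b_rc_6_1 lc_b_rc_10_2 lc_b_rc_10_0 lc_b_rc_1_5 lc_b_rc_6_1 lc_b_rc_8_2 lc_b_rc_9_2 lc_b_rc_10_2 lc_b_rc_8_2 lc_b_rc_9_2 lc_b_rc_25_16 lc_b_rc_9_2 lc_b_rc_6_1 lc_b_rc_8_2 lc_b_rc_8_2 lc_b_Cert_tree lc_b_rc_9_2 lc_b_rc_8_2 lc_b_rc_26_5 lc_b_Cert_tree lc_b_rc_9_2 lc_b_rc_6_1 lc_b_rc_7_4 lc_b_rc_9_2 lc_b_rc_7_4 lc_b_rc_9_2 lc_b_rc_6_1 lc_b_Cert_tree lc_b_rc_6_1 lc_b_rc_10_2 lc_b_rc_9_2 lc_b_rc_26_7 lc_b_rc_10_2) (@D3.rec (fun _ => (Cert rels S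 Gen.b)) lc_b_rc_6_1 lc_b_rc_1_3 lc_b_rc_10_2 lc_b_rc_9_2 lc_b_rc_9_2 lc_b_Cert_tree lc_b_Cert_tree lc_b_rc_8_2 lc_b_Cert_tree lc_b_rc_6_1 lc_b_Cert_tree lc_b_rc_7_2 lc_b_rc_6_1 lc_b_rc_6_1 lc_b_rc_9_2 lc_b_rc_8_2 lc_b_rc_6_1 lc_b_rc_8_2 lc_b_rc_9_0 lc_b_rc_6_1 lc_b_rc_6_1 lc_b_rc_6_1 lc_b_rc_9_2 lc_b_rc_6_1 lc_b_rc_6_1 lc_b_Cert_tree lc_b_Cert_tree lc_b_rc_1_3 lc_b_rc_6_1 lc_b_rc_26_5 lc_b_Cert_tree lc_b_rc_9_2 lc_b_Cert_tree lc_b_rc_6_1 lc_b_rc_10_2 lc_b_rc_1_3 lc_b_rc_8_2 lc_b_rc_8_0 lc_b_rc_9_2 lc_b_Cert_tree lc_b_rc_6_1 lc_b_rc_6_1 lc_b_rc_6_1 lc_b_rc_7_0 lc_b_rc_6_1 lc_b_rc_8_2 lc_b_Cert_tree lc_b_Cert_tree lc_b_rc_1_3 lc_b_rc_10_2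 lc_b_Cert_tree lc_b_rc_10_2 lc_b_Cert_tree lc_b_rc_26_5 lc_b_rc_1_3 lc_b_Cert_tree lc_b_rc_9_2 lc_b_rc_6_1 lc_b_rc_8_2 lc_b_rc_9_2 lc_b_rc_9_2 lc_b_rc_10_2) (@D3.rec (fun _ => (Cert rels S Gen.b)) lc_b_Cert_tree lc_b_rc_8_2 lc_b_rc_1_3 lc_b_rc_9_2 lc_b_rc_9_2 lc_b_Cert_tree lc_b_rc_6_1 lc_b_Cert_tree lc_b_rc_8_0 lc_b_rc_6_1 lc_b_Cert_tree lc_b_rc_9_2 lc_b_Cert_tree lc_b_rc_9_2 lc_b_Cert_tree lc_b_rc_6_1 lc_b_rc_8_2 lc_b_rc_9_2 lc_b_rc_1_5 lc_b_rc_9_0 lc_b_rc_1_3 lc_b_rc_9_2 lc_b_rc_10_2 lc_b_rc_9_2 lc_b_rc_6_1 lc_b_rc_8_2 lc_b_Cert_tree lc_b_rc_9_2 lc_b_rc_7_2 lc_b_Cert_tree lc_b_rc_6_1 lc_b_rc_10_2 lc_b_rc_6_1 lc_b_rc_8_2 lc_b_rc_6_1 lc_b_rc_6_1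 lc_b_rc_8_2 lc_b_rc_7_4 lc_b_rc_26_7 lc_b_Cert_tree lc_b_rc_10_2 lc_b_rc_9_2 lc_b_rc_9_2 lc_b_rc_9_2 lc_b_rc_9_2 lc_b_rc_1_1 lc_b_rc_1_5 lc_b_rc_9_2 lc_b_rc_6_1 lc_b_rc_7_4 lc_b_Cert_tree lc_b_rc_25_8 lc_b_rc_9_2 lc_b_rc_26_5 lc_b_rc_6_1 lc_b_rc_7_0 lc_b_rc_8_2 lc_b_rc_8_2 lc_b_rc_6_1 lc_b_rc_9_2 lc_b_rc_9_0 lc_b_rc_10_2) (@D3.rec (fun _ => (Cert rels S Gen.b)) lc_b_rc_8_2 lc_b_rc_26_5 lc_b_rc_6_1 lc_b_rc_8_2 lc_b_Cert_tree lc_b_Cert_tree lc_b_rc_7_0 lc_b_rc_8_2 lc_b_rc_8_2 lc_b_rc_9_2 lc_b_rc_26_7 lc_b_rc_8_2 lc_b_rc_10_2 lc_b_rc_25_12 lc_b_Cert_tree lc_b_Cert_tree lc_b_rc_6_1 lc_b_rc_8_2 lc_b_Cert_tree lc_b_rc_6_1 lc_b_rc_1_3 lc_b_rc_6_1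 lc_b_rc_6_1 lc_b_rc_6_1 lc_b_rc_8_2 lc_b_rc_9_2 lc_b_rc_7_0 lc_b_rc_1_3 lc_b_rc_8_2 lc_b_rc_7_0 lc_b_rc_7_0 lc_b_rc_7_2 lc_b_rc_6_1 lc_b_rc_26_5 lc_b_rc_6_1 lc_b_rc_9_2 lc_b_rc_6_1 lc_b_Cert_tree lc_b_rc_9_0 lc_b_rc_6_1 lc_b_rc_6_1 lc_b_rc_8_2 lc_b_rc_8_2 lc_b_rc_10_2 lc_b_rc_1_5 lc_b_rc_9_2 lc_b_rc_10_2 lc_b_rc_10_2 lc_b_rc_8_2 lc_b_Cert_tree lc_b_rc_8_2 lc_b_Cert_tree lc_b_rc_8_2 lc_b_rc_1_5 lc_b_Cert_tree lc_b_Cert_tree lc_b_rc_6_1 lc_b_rc_8_2 lc_b_rc_6_1 lc_b_rc_8_2 lc_b_rc_9_2 lc_b_rc_7_0) (@D3.rec (fun _ => (Cert rels S Gen.b)) lc_b_rc_8_2 lc_b_rc_6_1 lc_b_rc_26_5 lc_b_rc_9_2 lc_b_rc_8_2 lc_b_rc_6_1 lc_b_Cert_tree lc_b_rc_8_2 lc_b_rc_6_1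 lc_b_rc_7_2 lc_b_rc_9_2 lc_b_rc_6_1 lc_b_rc_9_2 lc_b_Cert_tree lc_b_rc_8_2 lc_b_rc_10_2 lc_b_rc_8_2 lc_b_Cert_tree lc_b_rc_8_2 lc_b_rc_6_1 lc_b_rc_26_1 lc_b_rc_8_2 lc_b_rc_26_7 lc_b_rc_6_1 lc_b_rc_8_2 lc_b_rc_9_2 lc_b_rc_8_2 lc_b_rc_9_2 lc_b_Cert_tree lc_b_rc_6_1 lc_b_Cert_tree lc_b_rc_8_2 lc_b_rc_9_2 lc_b_rc_6_1 lc_b_rc_8_2 lc_b_rc_9_2 lc_b_rc_8_2 lc_b_rc_9_2 lc_b_rc_9_2 lc_b_rc_9_2 lc_b_rc_8_2 lc_b_rc_7_4 lc_b_rc_6_1 lc_b_Cert_tree lc_b_rc_9_2 lc_b_rc_26_7 lc_b_rc_8_2 lc_b_rc_8_0 lc_b_Cert_tree lc_b_rc_6_1 lc_b_rc_8_2 lc_b_rc_10_2 lc_b_rc_6_1 lc_b_rc_9_2 lc_b_rc_8_2 lc_b_rc_6_1 lc_b_rc_8_2 lc_b_rc_10_2 lc_b_rc_26_1 lc_b_rc_10_2 lc_b_rc_6_1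 lc_b_rc_7_2) (@D3.rec (fun _ => (Cert rels S Gen.b)) lc_b_rc_1_3 lc_b_rc_9_2 lc_b_rc_8_2 lc_b_rc_8_2 lc_b_rc_9_2 lc_b_rc_9_2 lc_b_rc_8_2 lc_b_rc_9_2 lc_b_rc_7_2 lc_b_rc_8_2 lc_b_rc_10_2 lc_b_rc_6_1 lc_b_rc_6_1 lc_b_rc_9_2 lc_b_rc_7_4 lc_b_rc_9_2 lc_b_rc_6_1 lc_b_rc_26_5 lc_b_rc_8_2 lc_b_rc_6_1 lc_b_rc_9_2 lc_b_rc_6_1 lc_b_rc_9_2 lc_b_Cert_tree lc_b_Cert_tree lc_b_rc_8_2 lc_b_rc_10_2 lc_b_Cert_tree lc_b_rc_10_2 lc_b_rc_26_7 lc_b_rc_6_1 lc_b_rc_7_4 lc_b_rc_8_2 lc_b_rc_9_2 lc_b_rc_6_1 lc_b_rc_9_2 lc_b_rc_8_2 lc_b_Cert_tree lc_b_rc_6_1 lc_b_rc_7_4 lc_b_rc_9_2 lc_b_Cert_tree lc_b_rc_26_1 lc_b_Cert_tree lc_b_rc_6_1 lc_b_rc_1_3 lc_b_rc_8_2 lc_b_rc_9_2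 lc_b_rc_9_2 lc_b_Cert_tree lc_b_rc_7_4 lc_b_Cert_tree lc_b_rc_8_2 lc_b_Cert_tree lc_b_rc_1_3 lc_b_rc_9_2 lc_b_rc_9_2 lc_b_Cert_tree lc_b_rc_8_2 lc_b_rc_6_1 lc_b_Cert_tree lc_b_Cert_tree) (@D3.rec (fun _ => (Cert rels S Gen.b)) lc_b_rc_26_5 lc_b_rc_1_3 lc_b_rc_9_2 lc_b_rc_9_2 lc_b_rc_9_2 lc_b_rc_6_1 lc_b_rc_7_2 lc_b_rc_1_3 lc_b_rc_8_2 lc_b_rc_9_2 lc_b_rc_9_2 lc_b_rc_8_2 lc_b_rc_26_7 lc_b_rc_8_2 lc_b_rc_9_2 lc_b_rc_6_1 lc_b_rc_26_5 lc_b_rc_8_2 lc_b_rc_9_2 lc_b_rc_8_2 lc_b_rc_9_2 lc_b_rc_8_2 lc_b_rc_6_1 lc_b_rc_9_2 lc_b_rc_6_1 lc_b_Cert_tree lc_b_rc_8_2 lc_b_rc_10_2 lc_b_rc_26_7 lc_b_rc_8_2 lc_b_rc_10_2 lc_b_rc_6_1 lc_b_rc_8_2 lc_b_rc_8_2 lc_b_rc_7_4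 lc_b_Cert_tree lc_b_rc_8_2 lc_b_Cert_tree lc_b_rc_10_2 lc_b_rc_6_1 lc_b_rc_8_2 lc_b_rc_9_2 lc_b_rc_8_2 lc_b_rc_26_7 lc_b_rc_9_2 lc_b_rc_1_5 lc_b_rc_26_7 lc_b_Cert_tree lc_b_rc_6_1 lc_b_Cert_tree lc_b_rc_7_0 lc_b_rc_9_2 lc_b_rc_8_2 lc_b_rc_10_2 lc_b_rc_9_2 lc_b_rc_8_2 lc_b_rc_6_1 lc_b_rc_9_2 lc_b_rc_6_1 lc_b_rc_9_2 lc_b_rc_9_2 lc_b_rc_9_2) (@D3.rec (fun _ => (Cert rels S Gen.b)) lc_b_Cert_tree lc_b_Cert_tree lc_b_rc_8_2 lc_b_rc_10_2 lc_b_rc_6_1 lc_b_rc_9_2 lc_b_rc_9_2 lc_b_rc_10_2 lc_b_rc_6_1 lc_b_rc_8_2 lc_b_rc_9_2 lc_b_rc_6_1 lc_b_rc_8_2 lc_b_rc_7_0 lc_b_rc_6_1 lc_b_rc_8_2 lc_b_rc_9_2 lc_b_Cert_tree lc_b_rc_8_2 lc_b_rc_6_1 lc_b_rc_9_2 lc_b_Cert_tree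 lc_b_Cert_tree lc_b_rc_10_2 lc_b_Cert_tree lc_b_rc_6_1 lc_b_rc_8_2 lc_b_rc_10_2 lc_b_rc_6_1 lc_b_rc_6_1 lc_b_rc_26_5 lc_b_rc_8_2 lc_b_rc_6_1 lc_b_rc_6_1 lc_b_rc_26_1 lc_b_rc_7_4 lc_b_rc_9_2 lc_b_rc_1_1 lc_b_rc_9_2 lc_b_Cert_tree lc_b_rc_7_4 lc_b_rc_9_2 lc_b_Cert_tree lc_b_rc_8_2 lc_b_rc_10_2 lc_b_rc_6_1 lc_b_rc_8_2 lc_b_rc_8_2 lc_b_Cert_tree lc_b_Cert_tree lc_b_rc_8_2 lc_b_rc_6_1 lc_b_rc_8_2 lc_b_Cert_tree lc_b_rc_26_5 lc_b_rc_9_2 lc_b_Cert_tree lc_b_rc_6_1 lc_b_Cert_tree lc_b_rc_6_1 lc_b_rc_6_1 lc_b_rc_8_2) (@D3.rec (fun _ => (Cert rels S Gen.b)) lc_b_rc_10_2 lc_b_rc_9_2 lc_b_rc_6_1 lc_b_Cert_tree lc_b_rc_8_2 lc_b_rc_1_1 lc_b_rc_6_1 lc_b_rc_26_5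 lc_b_rc_7_0 lc_b_rc_9_2 lc_b_rc_1_1 lc_b_rc_1_1 lc_b_rc_9_2 lc_b_rc_25_4 lc_b_rc_8_2 lc_b_rc_9_2 lc_b_rc_6_1 lc_b_rc_6_1 lc_b_rc_9_2 lc_b_Cert_tree lc_b_Cert_tree lc_b_rc_8_2 lc_b_rc_10_2 lc_b_rc_10_2 lc_b_rc_10_2 lc_b_rc_6_1 lc_b_Cert_tree lc_b_rc_26_5 lc_b_rc_9_2 lc_b_rc_26_5 lc_b_rc_25_8 lc_b_rc_1_3 lc_b_rc_26_5 lc_b_Cert_tree lc_b_rc_9_2 lc_b_rc_8_2 lc_b_rc_7_2 lc_b_rc_9_2 lc_b_rc_8_2 lc_b_rc_8_2 lc_b_rc_10_2 lc_b_Cert_tree lc_b_Cert_tree lc_b_Cert_tree lc_b_rc_8_2 lc_b_rc_6_1 lc_b_rc_1_3 lc_b_rc_8_2 lc_b_rc_9_2 lc_b_rc_6_1 lc_b_rc_9_2 lc_b_rc_26_7 lc_b_rc_10_0 lc_b_rc_6_1 lc_b_rc_7_2 lc_b_rc_8_2 lc_b_rc_9_2 lc_b_rc_7_4 lc_b_rc_9_2 lc_b_rc_8_2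 lc_b_rc_9_2 lc_b_rc_9_2) (@D3.rec (fun _ => (Cert rels S Gen.b)) lc_b_rc_10_2 lc_b_rc_8_2 lc_b_rc_10_2 lc_b_rc_26_1 lc_b_rc_8_2 lc_b_rc_7_2 lc_b_rc_8_2 lc_b_rc_6_1 lc_b_rc_9_2 lc_b_Cert_tree lc_b_Cert_tree lc_b_rc_8_2 lc_b_rc_10_2 lc_b_Cert_tree lc_b_rc_8_2 lc_b_rc_6_1 lc_b_rc_26_5 lc_b_rc_8_2 lc_b_rc_9_2 lc_b_rc_8_0 lc_b_Cert_tree lc_b_Cert_tree lc_b_rc_10_2 lc_b_rc_10_0 lc_b_rc_7_4 lc_b_rc_9_2 lc_b_Cert_tree lc_b_rc_26_5 lc_b_rc_8_2 lc_b_rc_10_2 lc_b_rc_9_2 lc_b_rc_26_7 lc_b_Cert_tree lc_b_rc_8_0 lc_b_rc_1_5 lc_b_Cert_tree lc_b_rc_9_2 lc_b_rc_10_2 lc_b_Cert_tree lc_b_rc_8_2 lc_b_rc_10_2 lc_b_rc_6_1 lc_b_Cert_tree lc_b_rc_8_2 lc_b_rc_9_2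 lc_b_rc_6_1 lc_b_rc_7_4 lc_b_rc_8_2 lc_b_Cert_tree lc_b_Cert_tree lc_b_Cert_tree lc_b_rc_10_2 lc_b_rc_10_2 lc_b_rc_6_1 lc_b_rc_1_3 lc_b_rc_8_2 lc_b_rc_26_7 lc_b_rc_8_2 lc_b_rc_9_2 lc_b_rc_1_5 lc_b_rc_8_0 lc_b_Cert_tree) (@D3.rec (fun _ => (Cert rels S Gen.b)) lc_b_rc_9_2 lc_b_rc_8_2 lc_b_rc_26_1 lc_b_rc_1_3 lc_b_rc_7_2 lc_b_rc_8_2 lc_b_rc_9_2 lc_b_Cert_tree lc_b_Cert_tree lc_b_rc_9_2 lc_b_rc_8_2 lc_b_rc_26_7 lc_b_rc_6_1 lc_b_Cert_tree lc_b_rc_9_2 lc_b_rc_6_1 lc_b_Cert_tree lc_b_rc_9_2 lc_b_Cert_tree lc_b_Cert_tree lc_b_rc_6_1 lc_b_rc_8_2 lc_b_rc_10_2 lc_b_rc_9_2 lc_b_rc_10_2 lc_b_rc_6_1 lc_b_rc_8_2 lc_b_rc_9_2 lc_b_rc_10_2 lc_b_Cert_tree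 lc_b_Cert_tree lc_b_Cert_tree lc_b_rc_6_1 lc_b_rc_9_0 lc_b_rc_6_1 lc_b_rc_26_5 lc_b_Cert_tree lc_b_rc_1_3 lc_b_rc_8_2 lc_b_rc_9_2 lc_b_rc_8_2 lc_b_Cert_tree lc_b_rc_1_3 lc_b_rc_8_2 lc_b_rc_9_2 lc_b_Cert_tree lc_b_rc_9_2 lc_b_Cert_tree lc_b_rc_8_2 lc_b_Cert_tree lc_b_Cert_tree lc_b_rc_8_2 lc_b_rc_6_1 lc_b_rc_8_2 lc_b_rc_9_2 lc_b_Cert_tree lc_b_rc_7_0 lc_b_rc_1_1 lc_b_rc_6_1 lc_b_Cert_tree lc_b_rc_8_2 lc_b_Cert_tree) (@D3.rec (fun _ => (Cert rels S Gen.b)) lc_b_Cert_tree lc_b_Cert_tree lc_b_rc_6_1 lc_b_rc_8_2 lc_b_rc_9_2 lc_b_Cert_tree lc_b_rc_6_1 lc_b_rc_8_2 lc_b_rc_6_1 lc_b_rc_8_2 lc_b_rc_9_2 lc_b_rc_9_2 lc_b_rc_6_1 lc_b_rc_8_2 lc_b_rc_26_1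 lc_b_rc_6_1 lc_b_rc_8_2 lc_b_rc_9_2 lc_b_rc_6_1 lc_b_rc_8_2 lc_b_rc_7_4 lc_b_Cert_tree lc_b_rc_1_3 lc_b_rc_8_2 lc_b_Cert_tree lc_b_Cert_tree lc_b_Cert_tree lc_b_rc_9_2 lc_b_rc_26_5 lc_b_rc_6_1 lc_b_rc_9_2 lc_b_rc_8_2 lc_b_rc_1_3 lc_b_Cert_tree lc_b_rc_8_2 lc_b_rc_8_2 lc_b_rc_6_1 lc_b_rc_8_2 lc_b_rc_6_1 lc_b_rc_8_2 lc_b_Cert_tree lc_b_Cert_tree lc_b_Cert_tree lc_b_rc_10_2 lc_b_rc_8_2 lc_b_Cert_tree lc_b_Cert_tree lc_b_rc_6_1 lc_b_rc_8_2 lc_b_Cert_tree lc_b_Cert_tree lc_b_Cert_tree lc_b_rc_25_12 lc_b_rc_9_2 lc_b_rc_6_1 lc_b_rc_8_2 lc_b_rc_8_2 lc_b_rc_26_5 lc_b_rc_1_3 lc_b_Cert_tree lc_b_rc_6_1 lc_b_rc_6_1) (@D3.rec (fun _ => (Cert rels S Gen.b))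 lc_b_rc_6_1 lc_b_Cert_tree lc_b_rc_7_4 lc_b_rc_7_4 lc_b_Cert_tree lc_b_rc_1_3 lc_b_rc_8_2 lc_b_rc_10_2 lc_b_rc_9_2 lc_b_rc_10_2 lc_b_rc_9_2 lc_b_Cert_tree lc_b_rc_8_2 lc_b_rc_8_2 lc_b_rc_26_7 lc_b_Cert_tree lc_b_Cert_tree lc_b_rc_9_0 lc_b_rc_8_2 lc_b_rc_6_1 lc_b_rc_8_2 lc_b_rc_9_0 lc_b_Cert_tree lc_b_rc_8_2 lc_b_Cert_tree lc_b_rc_8_2 lc_b_rc_6_1 lc_b_rc_8_0 lc_b_Cert_tree lc_b_rc_6_1 lc_b_rc_9_0 lc_b_rc_8_0 lc_b_rc_7_4 lc_b_Cert_tree lc_b_rc_6_1 lc_b_Cert_tree lc_b_rc_6_1 lc_b_rc_8_2 lc_b_rc_10_2 lc_b_rc_6_1 lc_b_rc_8_2 lc_b_rc_26_5 lc_b_rc_8_2 lc_b_rc_26_5 lc_b_rc_6_1 lc_b_rc_6_1 lc_b_rc_9_2 lc_b_Cert_tree lc_b_Cert_tree lc_b_rc_1_3 lc_b_rc_8_2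 lc_b_rc_10_2 lc_b_rc_10_2 lc_b_rc_9_2 lc_b_rc_26_7 lc_b_rc_10_2 lc_b_rc_6_1 lc_b_rc_8_2 lc_b_rc_9_2 lc_b_rc_26_7 lc_b_rc_6_1 lc_b_rc_7_4) (@D3.rec (fun _ => (Cert rels S Gen.b)) lc_b_rc_1_3 lc_b_rc_9_2 lc_b_rc_9_2 lc_b_Cert_tree lc_b_rc_26_7 lc_b_rc_8_2 lc_b_rc_10_2 lc_b_rc_8_2 lc_b_rc_8_2 lc_b_rc_9_2 lc_b_rc_6_1 lc_b_rc_9_2 lc_b_rc_10_2 lc_b_rc_26_5 lc_b_rc_8_2 lc_b_rc_10_2 lc_b_rc_8_2 lc_b_rc_9_2 lc_b_rc_8_2 lc_b_rc_9_2 lc_b_rc_8_2 lc_b_rc_8_2 lc_b_rc_9_2 lc_b_rc_8_2 lc_b_rc_10_2 lc_b_rc_6_1 lc_b_rc_26_5 lc_b_rc_8_2 lc_b_rc_9_2 lc_b_rc_6_1 lc_b_Cert_tree lc_b_rc_6_1 lc_b_rc_9_2 lc_b_rc_7_0 lc_b_rc_26_1 lc_b_Cert_tree lc_b_rc_1_3 lc_b_rc_10_0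 lc_b_rc_9_2 lc_b_Cert_tree lc_b_rc_9_2 lc_b_rc_10_2 lc_b_rc_6_1 lc_b_rc_8_2 lc_b_rc_1_1 lc_b_rc_9_0 lc_b_Cert_tree lc_b_rc_9_2 lc_b_rc_6_1 lc_b_rc_10_2 lc_b_rc_26_5 lc_b_rc_26_5 lc_b_Cert_tree lc_b_rc_8_2 lc_b_rc_9_2 lc_b_rc_6_1 lc_b_rc_8_2 lc_b_rc_9_2 lc_b_Cert_tree lc_b_rc_9_2 lc_b_rc_8_2 lc_b_rc_10_2) (@D3.rec (fun _ => (Cert rels S Gen.b)) lc_b_Cert_tree lc_b_rc_26_5 lc_b_rc_6_1 lc_b_Cert_tree lc_b_rc_8_2 lc_b_rc_9_2 lc_b_Cert_tree lc_b_rc_26_1 lc_b_rc_8_2 lc_b_rc_10_2 lc_b_rc_9_2 lc_b_rc_7_2 lc_b_rc_6_1 lc_b_rc_1_5 lc_b_rc_1_3 lc_b_rc_6_1 lc_b_rc_10_2 lc_b_rc_8_2 lc_b_Cert_tree lc_b_rc_9_2 lc_b_rc_6_1 lc_b_Cert_tree lc_b_rc_1_1 lc_b_Cert_tree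 lc_b_rc_6_1 lc_b_rc_9_2 lc_b_Cert_tree lc_b_rc_6_1 lc_b_rc_10_2 lc_b_Cert_tree lc_b_Cert_tree lc_b_rc_1_3 lc_b_rc_10_0 lc_b_rc_8_2 lc_b_rc_10_2 lc_b_rc_26_5 lc_b_rc_6_1 lc_b_rc_1_5 lc_b_rc_10_2 lc_b_rc_6_1 lc_b_rc_9_2 lc_b_rc_8_2 lc_b_Cert_tree lc_b_rc_6_1 lc_b_rc_9_2 lc_b_rc_1_5 lc_b_rc_26_5 lc_b_rc_26_5 lc_b_rc_9_2 lc_b_rc_6_1 lc_b_rc_8_2 lc_b_rc_26_5 lc_b_rc_8_2 lc_b_rc_6_1 lc_b_Cert_tree lc_b_Cert_tree lc_b_rc_1_3 lc_b_rc_8_2 lc_b_rc_10_2 lc_b_rc_9_2 lc_b_rc_9_2 lc_b_rc_8_2) (@D3.rec (fun _ => (Cert rels S Gen.b)) lc_b_rc_6_1 lc_b_rc_8_2 lc_b_Cert_tree lc_b_rc_26_1 lc_b_rc_8_2 lc_b_Cert_tree lc_b_Cert_tree lc_b_rc_6_1 lc_b_rc_26_5 lc_b_rc_1_3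 lc_b_rc_7_2 lc_b_rc_8_2 lc_b_rc_9_2 lc_b_rc_6_1 lc_b_Cert_tree lc_b_Cert_tree lc_b_Cert_tree lc_b_rc_9_2 lc_b_rc_6_1 lc_b_rc_9_2 lc_b_rc_6_1 lc_b_rc_6_1 lc_b_rc_9_2 lc_b_rc_8_2 lc_b_Cert_tree lc_b_rc_10_2 lc_b_rc_9_0 lc_b_rc_1_3 lc_b_rc_8_2 lc_b_rc_9_2 lc_b_rc_6_1 lc_b_rc_9_2 lc_b_Cert_tree lc_b_rc_1_3 lc_b_rc_6_1 lc_b_rc_9_2 lc_b_rc_6_1 lc_b_Cert_tree lc_b_rc_6_1 lc_b_rc_8_2 lc_b_rc_26_5 lc_b_Cert_tree lc_b_rc_6_1 lc_b_Cert_tree lc_b_rc_9_2 lc_b_rc_6_1 lc_b_rc_26_5 lc_b_rc_8_2 lc_b_rc_7_2 lc_b_rc_6_1 lc_b_rc_9_0 lc_b_rc_6_1 lc_b_rc_6_1 lc_b_rc_26_5 lc_b_Cert_tree lc_b_Cert_tree lc_b_rc_1_3 lc_b_rc_8_2 lc_b_rc_7_0 lc_b_rc_6_1 lc_b_Cert_tree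 lc_b_rc_8_2) (@D3.rec (fun _ => (Cert rels S Gen.b)) lc_b_rc_9_2 lc_b_rc_6_1 lc_b_rc_8_2 lc_b_rc_6_1 lc_b_Cert_tree lc_b_rc_1_3 lc_b_rc_9_2 lc_b_rc_26_5 lc_b_rc_6_1 lc_b_Cert_tree lc_b_rc_9_2 lc_b_rc_6_1 lc_b_rc_7_2 lc_b_rc_9_2 lc_b_Cert_tree lc_b_rc_9_2 lc_b_Cert_tree lc_b_rc_6_1 lc_b_rc_9_2 lc_b_rc_9_2 lc_b_rc_6_1 lc_b_rc_8_2 lc_b_rc_9_2 lc_b_rc_6_1 lc_b_rc_9_2 lc_b_rc_26_7 lc_b_rc_7_4 lc_b_rc_10_2 lc_b_rc_6_1 lc_b_rc_1_5 lc_b_rc_9_2 lc_b_rc_6_1 lc_b_rc_9_0 lc_b_rc_9_2 lc_b_Cert_tree lc_b_Cert_tree lc_b_rc_1_3 lc_b_rc_8_2 lc_b_rc_10_2 lc_b_rc_8_2 lc_b_Cert_tree lc_b_Cert_tree lc_b_rc_10_2 lc_b_rc_9_2 lc_b_rc_7_4 lc_b_rc_6_1 lc_b_rc_8_2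 lc_b_rc_9_2 lc_b_rc_6_1 lc_b_rc_8_2 lc_b_rc_9_2 lc_b_rc_9_2 lc_b_rc_6_1 lc_b_rc_8_2 lc_b_rc_9_2 lc_b_rc_26_5 lc_b_rc_8_2 lc_b_rc_9_2 lc_b_rc_9_2 lc_b_rc_10_2 lc_b_Cert_tree lc_b_Cert_tree) (@D3.rec (fun _ => (Cert rels S Gen.b)) lc_b_rc_1_3 lc_b_rc_8_2 lc_b_rc_10_2 lc_b_rc_9_2 lc_b_rc_25_16 lc_b_rc_6_1 lc_b_rc_9_2 lc_b_rc_6_1 lc_b_Cert_tree lc_b_rc_10_2 lc_b_rc_9_2 lc_b_rc_6_1 lc_b_rc_26_7 lc_b_rc_8_2 lc_b_rc_10_2 lc_b_rc_6_1 lc_b_rc_8_2 lc_b_rc_9_2 lc_b_rc_6_1 lc_b_rc_6_1 lc_b_rc_10_2 lc_b_rc_6_1 lc_b_rc_8_2 lc_b_rc_9_2 lc_b_rc_6_1 lc_b_rc_8_2 lc_b_rc_9_2 lc_b_Cert_tree lc_b_Cert_tree lc_b_rc_1_3 lc_b_rc_8_2 lc_b_rc_9_2 lc_b_Cert_tree lc_b_rc_9_2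 lc_b_Cert_tree lc_b_Cert_tree lc_b_rc_8_2 lc_b_rc_10_2 lc_b_Cert_tree lc_b_rc_8_2 lc_b_rc_7_2 lc_b_rc_8_2 lc_b_rc_6_1 lc_b_rc_8_2 lc_b_rc_8_0 lc_b_rc_9_2 lc_b_rc_6_1 lc_b_rc_1_3 lc_b_rc_1_3 lc_b_rc_10_0 lc_b_rc_10_2 lc_b_rc_6_1 lc_b_rc_9_2 lc_b_rc_9_0 lc_b_rc_10_2 lc_b_Cert_tree lc_b_Cert_tree lc_b_rc_1_3 lc_b_rc_8_2 lc_b_rc_9_2 lc_b_rc_9_2 lc_b_rc_26_5) (@D3.rec (fun _ => (Cert rels S Gen.b)) lc_b_Cert_tree lc_b_rc_8_2 lc_b_rc_10_2 lc_b_rc_9_0 lc_b_Cert_tree lc_b_rc_10_2 lc_b_rc_6_1 lc_b_rc_9_2 lc_b_Cert_tree lc_b_Cert_tree lc_b_rc_1_3 lc_b_rc_8_2 lc_b_rc_9_2 lc_b_Cert_tree lc_b_Cert_tree lc_b_rc_9_2 lc_b_rc_7_2 lc_b_Cert_tree lc_b_rc_8_2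 lc_b_rc_10_2 lc_b_Cert_tree lc_b_rc_26_5 lc_b_rc_9_2 lc_b_rc_8_0 lc_b_rc_6_1 lc_b_rc_6_1 lc_b_rc_6_1 lc_b_rc_9_2 lc_b_rc_9_2 lc_b_rc_26_5 lc_b_rc_8_2 lc_b_rc_10_2 lc_b_Cert_tree lc_b_Cert_tree lc_b_rc_8_2 lc_b_rc_8_2 lc_b_rc_9_2 lc_b_rc_9_2 lc_b_rc_7_4 lc_b_Cert_tree lc_b_rc_8_2 lc_b_rc_26_5 lc_b_rc_8_2 lc_b_Cert_tree lc_b_Cert_tree lc_b_rc_10_2 lc_b_rc_6_1 lc_b_Cert_tree lc_b_rc_1_3 lc_b_rc_8_2 lc_b_rc_9_2 lc_b_Cert_tree lc_b_rc_9_2 lc_b_rc_8_2 lc_b_rc_10_2 lc_b_Cert_tree lc_b_Cert_tree lc_b_rc_1_3 lc_b_rc_8_2 lc_b_rc_9_2 lc_b_rc_9_2 lc_b_rc_8_2) (@D3.rec (fun _ => (Cert rels S Gen.b)) lc_b_rc_10_2 lc_b_rc_10_2 lc_b_rc_6_1 lc_b_rc_8_2 lc_b_rc_9_2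 lc_b_rc_10_2 lc_b_rc_6_1 lc_b_rc_8_2 lc_b_rc_8_2 lc_b_Cert_tree lc_b_Cert_tree lc_b_Cert_tree lc_b_rc_9_2 lc_b_rc_10_2 lc_b_rc_9_2 lc_b_rc_6_1 lc_b_rc_9_2 lc_b_rc_6_1 lc_b_rc_10_0 lc_b_rc_6_1 lc_b_rc_9_2 lc_b_Cert_tree lc_b_Cert_tree lc_b_rc_10_2 lc_b_rc_9_2 lc_b_rc_8_2 lc_b_rc_6_1 lc_b_Cert_tree lc_b_rc_8_2 lc_b_rc_9_2 lc_b_rc_6_1 lc_b_Cert_tree lc_b_rc_8_2 lc_b_rc_9_2 lc_b_rc_6_1 lc_b_rc_7_2 lc_b_rc_6_1 lc_b_rc_6_1 lc_b_rc_10_2 lc_b_rc_6_1 lc_b_rc_9_2 lc_b_rc_6_1 lc_b_rc_9_2 lc_b_Cert_tree lc_b_Cert_tree lc_b_rc_9_2 lc_b_rc_6_1 lc_b_Cert_tree lc_b_rc_8_2 lc_b_rc_8_2 lc_b_rc_6_1 lc_b_rc_7_2 lc_b_rc_8_2 lc_b_rc_9_2 lc_b_rc_8_2 lc_b_Cert_tree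 lc_b_rc_6_1 lc_b_rc_8_2 lc_b_rc_7_4 lc_b_rc_9_2 lc_b_rc_1_3 lc_b_rc_6_1) (@D3.rec (fun _ => (Cert rels S Gen.b)) lc_b_rc_9_2 lc_b_rc_9_2 lc_b_Cert_tree lc_b_Cert_tree lc_b_rc_8_2 lc_b_rc_6_1 lc_b_Cert_tree lc_b_rc_9_2 lc_b_rc_6_1 lc_b_Cert_tree lc_b_rc_9_2 lc_b_rc_6_1 lc_b_Cert_tree lc_b_rc_10_2 lc_b_rc_6_1 lc_b_rc_8_2 lc_b_rc_9_2 lc_b_rc_26_1 lc_b_Cert_tree lc_b_rc_6_1 lc_b_rc_8_2 lc_b_rc_10_2 lc_b_rc_1_3 lc_b_rc_1_1 lc_b_rc_6_1 lc_b_rc_9_2 lc_b_rc_6_1 lc_b_rc_6_1 lc_b_rc_7_2 lc_b_rc_8_0 lc_b_rc_8_2 lc_b_rc_9_2 lc_b_rc_6_1 lc_b_Cert_tree lc_b_rc_1_3 lc_b_rc_9_2 lc_b_rc_8_2 lc_b_rc_10_2 lc_b_rc_6_1 lc_b_rc_8_2 lc_b_rc_26_5 lc_b_rc_9_2 lc_b_rc_9_0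 lc_b_Cert_tree lc_b_rc_8_2 lc_b_rc_10_2 lc_b_Cert_tree lc_b_rc_6_1 lc_b_rc_9_2 lc_b_rc_8_2 lc_b_rc_9_2 lc_b_Cert_tree lc_b_rc_9_2 lc_b_rc_8_2 lc_b_rc_9_2 lc_b_rc_6_1 lc_b_rc_8_2 lc_b_rc_10_2 lc_b_rc_7_2 lc_b_rc_8_2 lc_b_Cert_tree lc_b_rc_6_1) (@D3.rec (fun _ => (Cert rels S Gen.b)) lc_b_Cert_tree lc_b_rc_1_3 lc_b_rc_7_4 lc_b_rc_8_2 lc_b_rc_9_2 lc_b_rc_9_2 lc_b_rc_8_2 lc_b_rc_10_2 lc_b_Cert_tree lc_b_Cert_tree lc_b_rc_8_2 lc_b_rc_8_2 lc_b_rc_9_2 lc_b_rc_7_2 lc_b_rc_8_2 lc_b_rc_10_2 lc_b_rc_6_1 lc_b_rc_8_2 lc_b_rc_9_2 lc_b_rc_6_1 lc_b_rc_8_2 lc_b_rc_8_2 lc_b_Cert_tree lc_b_Cert_tree lc_b_rc_7_4 lc_b_rc_9_2 lc_b_rc_6_1 lc_b_rc_9_2 lc_b_rc_6_1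 lc_b_rc_9_2 lc_b_rc_6_1 lc_b_Cert_tree lc_b_rc_10_2 lc_b_Cert_tree lc_b_rc_8_0 lc_b_rc_8_2 lc_b_rc_6_1 lc_b_rc_8_2 lc_b_rc_9_2 lc_b_rc_6_1 lc_b_rc_8_2 lc_b_rc_9_2 lc_b_rc_6_1 lc_b_rc_9_2 lc_b_rc_10_2 lc_b_rc_9_2 lc_b_Cert_tree lc_b_rc_8_2 lc_b_rc_25_12 lc_b_rc_6_1 lc_b_Cert_tree lc_b_rc_8_2 lc_b_rc_6_1 lc_b_rc_8_0 lc_b_rc_10_2 lc_b_rc_9_2 lc_b_rc_7_2 lc_b_rc_8_2 lc_b_Cert_tree lc_b_rc_6_1 lc_b_rc_9_2 lc_b_rc_6_1) (@D3.rec (fun _ => (Cert rels S Gen.b)) lc_b_Cert_tree lc_b_rc_9_2 lc_b_rc_6_1 lc_b_rc_7_2 lc_b_rc_7_4 lc_b_rc_8_2 lc_b_Cert_tree lc_b_rc_1_5 lc_b_rc_6_1 lc_b_rc_8_2 lc_b_rc_9_2 lc_b_Cert_tree lc_b_rc_7_2 lc_b_rc_8_2 lc_b_rc_26_5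 lc_b_rc_1_5 lc_b_rc_8_2 lc_b_rc_9_2 lc_b_rc_6_1 lc_b_rc_9_2 lc_b_rc_8_0 lc_b_rc_26_1 lc_b_rc_26_5 lc_b_rc_9_2 lc_b_rc_9_2 lc_b_rc_9_2 lc_b_rc_6_1 lc_b_rc_6_1 lc_b_rc_9_2 lc_b_Cert_tree lc_b_rc_9_2 lc_b_rc_9_2 lc_b_rc_6_1 lc_b_rc_26_7 lc_b_rc_10_2 lc_b_rc_6_1 lc_b_rc_8_2 lc_b_rc_9_2 lc_b_rc_10_2 lc_b_rc_6_1 lc_b_rc_8_2 lc_b_rc_9_2 lc_b_rc_26_5 lc_b_rc_26_7 lc_b_rc_10_2 lc_b_rc_6_1 lc_b_rc_8_2 lc_b_rc_9_2 lc_b_rc_6_1 lc_b_rc_26_5 lc_b_rc_9_2 lc_b_rc_6_1 lc_b_Cert_tree lc_b_rc_1_3 lc_b_rc_8_2 lc_b_rc_10_2 lc_b_Cert_tree lc_b_rc_10_2 lc_b_Cert_tree lc_b_rc_9_2 lc_b_rc_26_7 lc_b_rc_9_2) (@D3.rec (fun _ => (Cert rels S Gen.b)) lc_b_rc_8_2 lc_b_Cert_tree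 lc_b_rc_9_2 lc_b_rc_9_2 lc_b_rc_6_1 lc_b_rc_8_2 lc_b_rc_9_2 lc_b_rc_6_1 lc_b_rc_8_2 lc_b_rc_9_2 lc_b_rc_26_5 lc_b_rc_10_2 lc_b_rc_6_1 lc_b_rc_8_2 lc_b_rc_9_2 lc_b_rc_8_2 lc_b_rc_9_2 lc_b_rc_10_2 lc_b_rc_6_1 lc_b_rc_8_2 lc_b_rc_9_2 lc_b_rc_6_1 lc_b_rc_8_2 lc_b_rc_9_2 lc_b_Cert_tree lc_b_Cert_tree lc_b_rc_1_3 lc_b_rc_8_2 lc_b_rc_10_2 lc_b_rc_26_5 lc_b_Cert_tree lc_b_rc_26_7 lc_b_rc_9_2 lc_b_rc_26_7 lc_b_rc_9_2 lc_b_rc_8_2 lc_b_rc_6_1 lc_b_rc_8_2 lc_b_rc_26_5 lc_b_rc_6_1 lc_b_rc_8_2 lc_b_rc_9_2 lc_b_rc_6_1 lc_b_rc_8_2 lc_b_rc_9_2 lc_b_rc_9_2 lc_b_rc_10_2 lc_b_rc_8_2 lc_b_rc_25_12 lc_b_rc_6_1 lc_b_rc_10_2 lc_b_rc_6_1 lc_b_rc_8_2 lc_b_rc_9_2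 lc_b_rc_6_1 lc_b_Cert_tree lc_b_rc_1_3 lc_b_rc_8_2 lc_b_rc_10_2 lc_b_Cert_tree lc_b_rc_9_2 lc_b_rc_9_2) (@D3.rec (fun _ => (Cert rels S Gen.b)) lc_b_rc_6_1 lc_b_rc_6_1 lc_b_rc_9_2 lc_b_rc_8_0 lc_b_rc_26_7 lc_b_rc_10_2 lc_b_rc_9_2 lc_b_rc_8_2 lc_b_rc_6_1 lc_b_rc_9_2 lc_b_rc_26_5 lc_b_rc_9_2 lc_b_rc_10_2 lc_b_rc_6_1 lc_b_rc_8_2 lc_b_rc_9_2 lc_b_rc_6_1 lc_b_rc_6_1 lc_b_rc_10_2 lc_b_rc_6_1 lc_b_rc_8_2 lc_b_rc_9_2 lc_b_rc_6_1 lc_b_rc_7_2 lc_b_rc_10_2 lc_b_Cert_tree lc_b_Cert_tree lc_b_rc_1_3 lc_b_rc_8_2 lc_b_rc_9_2 lc_b_Cert_tree lc_b_rc_9_2 lc_b_Cert_tree lc_b_Cert_tree lc_b_rc_8_2 lc_b_rc_10_2 lc_b_rc_1_5 lc_b_rc_26_5 lc_b_Cert_tree lc_b_rc_10_2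 lc_b_rc_6_1 lc_b_rc_26_7 lc_b_rc_9_2 lc_b_rc_9_2 lc_b_rc_6_1 lc_b_rc_8_2 lc_b_rc_8_2 lc_b_rc_6_1 lc_b_rc_10_2 lc_b_rc_6_1 lc_b_rc_9_2 lc_b_rc_8_0 lc_b_rc_10_2 lc_b_Cert_tree lc_b_rc_6_1 lc_b_rc_1_3 lc_b_rc_8_2 lc_b_rc_9_2 lc_b_rc_9_2 lc_b_Cert_tree lc_b_Cert_tree lc_b_rc_8_2) (@D3.rec (fun _ => (Cert rels S Gen.b)) lc_b_rc_7_4 lc_b_Cert_tree lc_b_rc_26_1 lc_b_Cert_tree lc_b_rc_8_2 lc_b_rc_10_2 lc_b_rc_6_1 lc_b_rc_25_4 lc_b_Cert_tree lc_b_Cert_tree lc_b_rc_1_3 lc_b_rc_8_2 lc_b_Cert_tree lc_b_Cert_tree lc_b_rc_8_0 lc_b_Cert_tree lc_b_rc_1_5 lc_b_rc_25_16 lc_b_Cert_tree lc_b_rc_8_2 lc_b_rc_7_4 lc_b_rc_9_0 lc_b_rc_6_1 lc_b_Cert_tree lc_b_rc_6_1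 lc_b_rc_8_2 lc_b_rc_9_2 lc_b_rc_8_2 lc_b_rc_26_1 lc_b_rc_10_2 lc_b_Cert_tree lc_b_rc_26_7 lc_b_rc_1_3 lc_b_rc_8_2 lc_b_rc_9_2 lc_b_rc_8_0 lc_b_rc_7_2 lc_b_Cert_tree lc_b_rc_26_5 lc_b_rc_10_2 lc_b_rc_9_0 lc_b_rc_9_2 lc_b_Cert_tree lc_b_rc_8_2 lc_b_Cert_tree lc_b_rc_10_2 lc_b_rc_6_1 lc_b_Cert_tree lc_b_rc_1_3 lc_b_rc_7_4 lc_b_rc_8_2 lc_b_rc_9_2 lc_b_rc_9_0 lc_b_rc_9_2 lc_b_rc_8_2 lc_b_rc_10_2 lc_b_Cert_tree lc_b_Cert_tree lc_b_rc_1_3 lc_b_rc_8_2 lc_b_rc_9_2 lc_b_rc_9_2) (@D3.rec (fun _ => (Cert rels S Gen.b)) lc_b_rc_6_1 lc_b_rc_7_2 lc_b_rc_10_2 lc_b_rc_6_1 lc_b_rc_9_2 lc_b_rc_6_1 lc_b_rc_8_2 lc_b_rc_8_2 lc_b_Cert_tree lc_b_Cert_tree lc_b_rc_10_2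 lc_b_rc_6_1 lc_b_rc_9_2 lc_b_rc_6_1 lc_b_rc_9_2 lc_b_rc_6_1 lc_b_rc_8_2 lc_b_Cert_tree lc_b_rc_7_4 lc_b_rc_7_4 lc_b_Cert_tree lc_b_Cert_tree lc_b_rc_6_1 lc_b_Cert_tree lc_b_rc_8_2 lc_b_rc_9_2 lc_b_rc_6_1 lc_b_Cert_tree lc_b_rc_8_2 lc_b_rc_6_1 lc_b_Cert_tree lc_b_rc_8_2 lc_b_Cert_tree lc_b_rc_26_1 lc_b_Cert_tree lc_b_rc_6_1 lc_b_rc_8_2 lc_b_Cert_tree lc_b_Cert_tree lc_b_rc_6_1 lc_b_rc_26_1 lc_b_rc_9_0 lc_b_rc_8_0 lc_b_rc_6_1 lc_b_rc_9_0 lc_b_rc_9_2 lc_b_rc_6_1 lc_b_rc_9_2 lc_b_rc_26_5 lc_b_Cert_tree lc_b_Cert_tree lc_b_rc_1_3 lc_b_rc_7_4 lc_b_rc_6_1 lc_b_Cert_tree lc_b_rc_9_2 lc_b_rc_6_1 lc_b_Cert_tree lc_b_rc_6_1 lc_b_rc_9_2 lc_b_rc_6_1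 lc_b_rc_26_5) (@D3.rec (fun _ => (Cert rels S Gen.b)) lc_b_rc_8_2 lc_b_rc_9_2 lc_b_rc_6_1 lc_b_rc_8_2 lc_b_rc_9_2 lc_b_Cert_tree lc_b_rc_6_1 lc_b_rc_9_2 lc_b_rc_1_5 lc_b_rc_9_2 lc_b_rc_8_2 lc_b_rc_8_2 lc_b_rc_10_2 lc_b_rc_7_2 lc_b_rc_10_0 lc_b_Cert_tree lc_b_rc_8_2 lc_b_rc_9_2 lc_b_rc_6_1 lc_b_rc_9_2 lc_b_rc_8_2 lc_b_Cert_tree lc_b_rc_8_0 lc_b_rc_6_1 lc_b_rc_9_2 lc_b_rc_6_1 lc_b_rc_9_0 lc_b_Cert_tree lc_b_rc_10_2 lc_b_rc_8_2 lc_b_rc_9_2 lc_b_rc_6_1 lc_b_rc_8_2 lc_b_rc_6_1 lc_b_rc_7_4 lc_b_rc_6_1 lc_b_rc_6_1 lc_b_rc_8_2 lc_b_Cert_tree lc_b_rc_6_1 lc_b_rc_6_1 lc_b_rc_26_5 lc_b_rc_26_7 lc_b_rc_26_1 lc_b_rc_8_2 lc_b_rc_8_2 lc_b_rc_7_4 lc_b_rc_7_4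 lc_b_rc_6_1 lc_b_rc_6_1 lc_b_Cert_tree lc_b_rc_1_3 lc_b_rc_8_2 lc_b_rc_9_2 lc_b_rc_9_2 lc_b_Cert_tree lc_b_rc_8_2 lc_b_rc_10_2 lc_b_rc_1_3 lc_b_Cert_tree lc_b_rc_9_2 lc_b_rc_6_1) (@D3.rec (fun _ => (Cert rels S Gen.b)) lc_b_rc_9_2 lc_b_Cert_tree lc_b_Cert_tree lc_b_rc_10_2 lc_b_rc_1_1 lc_b_rc_6_1 lc_b_rc_25_12 lc_b_Cert_tree lc_b_Cert_tree lc_b_rc_10_2 lc_b_rc_6_1 lc_b_rc_9_2 lc_b_rc_8_2 lc_b_Cert_tree lc_b_rc_8_2 lc_b_rc_6_1 lc_b_rc_9_0 lc_b_rc_9_2 lc_b_rc_8_2 lc_b_rc_8_2 lc_b_Cert_tree lc_b_rc_8_0 lc_b_rc_26_5 lc_b_rc_9_2 lc_b_Cert_tree lc_b_Cert_tree lc_b_rc_6_1 lc_b_rc_26_7 lc_b_rc_26_1 lc_b_rc_25_0 lc_b_rc_8_2 lc_b_rc_8_2 lc_b_rc_26_1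 lc_b_rc_8_2 lc_b_rc_8_0 lc_b_rc_1_5 lc_b_Cert_tree lc_b_rc_9_2 lc_b_rc_9_0 lc_b_rc_9_2 lc_b_rc_6_1 lc_b_rc_8_2 lc_b_rc_9_2 lc_b_rc_10_2 lc_b_rc_9_2 lc_b_rc_10_2 lc_b_rc_9_2 lc_b_rc_8_2 lc_b_rc_8_0 lc_b_Cert_tree lc_b_rc_6_1 lc_b_rc_10_2 lc_b_rc_9_2 lc_b_rc_6_1 lc_b_rc_8_2 lc_b_rc_26_5 lc_b_rc_7_4 lc_b_rc_6_1 lc_b_rc_1_5 lc_b_Cert_tree lc_b_rc_9_0 lc_b_rc_6_1) (@D3.rec (fun _ => (Cert rels S Gen.b)) lc_b_rc_8_2 lc_b_rc_9_2 lc_b_rc_10_2 lc_b_Cert_tree lc_b_rc_9_2 lc_b_rc_8_2 lc_b_Cert_tree lc_b_rc_8_2 lc_b_rc_10_2 lc_b_rc_9_2 lc_b_rc_6_1 lc_b_Cert_tree lc_b_rc_8_2 lc_b_rc_6_1 lc_b_Cert_tree lc_b_rc_8_2 lc_b_rc_9_2 lc_b_rc_9_2 lc_b_Cert_tree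 lc_b_rc_9_2 lc_b_rc_8_2 lc_b_rc_8_2 lc_b_rc_8_2 lc_b_rc_26_5 lc_b_rc_26_7 lc_b_Cert_tree lc_b_rc_6_1 lc_b_rc_7_2 lc_b_rc_6_1 lc_b_Cert_tree lc_b_rc_10_2 lc_b_Cert_tree lc_b_Cert_tree lc_b_rc_8_2 lc_b_rc_10_2 lc_b_Cert_tree lc_b_rc_8_2 lc_b_rc_6_1 lc_b_rc_8_2 lc_b_rc_10_2 lc_b_rc_8_2 lc_b_rc_1_1 lc_b_rc_6_1 lc_b_rc_9_2 lc_b_rc_6_1 lc_b_rc_6_1 lc_b_rc_8_2 lc_b_rc_10_2 lc_b_rc_6_1 lc_b_rc_10_2 lc_b_rc_6_1 lc_b_rc_6_1 lc_b_rc_1_1 lc_b_Cert_tree lc_b_rc_6_1 lc_b_rc_6_1 lc_b_rc_8_2 lc_b_rc_9_2 lc_b_rc_6_1 lc_b_rc_8_2 lc_b_rc_9_2 lc_b_Cert_tree) (@D3.rec (fun _ => (Cert rels S Gen.b)) lc_b_Cert_tree lc_b_rc_8_0 lc_b_rc_10_2 lc_b_rc_9_0 lc_b_rc_8_2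 lc_b_Cert_tree lc_b_rc_9_2 lc_b_Cert_tree lc_b_rc_9_2 lc_b_rc_6_1 lc_b_rc_25_0 lc_b_rc_8_2 lc_b_rc_7_4 lc_b_rc_7_4 lc_b_rc_6_1 lc_b_rc_9_2 lc_b_rc_10_2 lc_b_rc_9_2 lc_b_rc_6_1 lc_b_rc_8_0 lc_b_rc_8_2 lc_b_rc_9_0 lc_b_rc_26_1 lc_b_Cert_tree lc_b_rc_9_2 lc_b_rc_9_2 lc_b_rc_9_2 lc_b_rc_26_7 lc_b_rc_8_2 lc_b_rc_10_2 lc_b_rc_8_2 lc_b_rc_6_1 lc_b_rc_26_7 lc_b_rc_8_2 lc_b_rc_8_0 lc_b_rc_9_0 lc_b_rc_10_2 lc_b_rc_9_2 lc_b_rc_10_2 lc_b_rc_9_2 lc_b_rc_9_2 lc_b_rc_6_1 lc_b_rc_9_2 lc_b_rc_6_1 lc_b_rc_1_5 lc_b_rc_6_1 lc_b_rc_26_7 lc_b_rc_9_2 lc_b_rc_7_4 lc_b_rc_9_2 lc_b_rc_26_7 lc_b_rc_10_2 lc_b_rc_26_5 lc_b_rc_26_7 lc_b_rc_9_2 lc_b_rc_7_4 lc_b_rc_25_16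 lc_b_rc_9_2 lc_b_rc_1_3 lc_b_rc_1_3 lc_b_rc_25_0 lc_b_rc_6_1) (@D3.rec (fun _ => (Cert rels S Gen.b)) lc_b_rc_8_2 lc_b_rc_9_2 lc_b_rc_9_2 lc_b_rc_10_2 lc_b_rc_9_2 lc_b_rc_6_1 lc_b_rc_9_2 lc_b_Cert_tree lc_b_rc_9_2 lc_b_rc_1_3 lc_b_rc_9_2 lc_b_rc_8_2 lc_b_rc_9_2 lc_b_rc_6_1 lc_b_rc_9_2 lc_b_rc_1_5 lc_b_rc_6_1 lc_b_rc_8_2 lc_b_rc_10_2 lc_b_rc_6_1 lc_b_rc_1_5 lc_b_rc_26_5 lc_b_rc_6_1 lc_b_rc_26_5 lc_b_rc_8_0 lc_b_Cert_tree lc_b_rc_6_1 lc_b_rc_1_1 lc_b_rc_8_2 lc_b_rc_9_2 lc_b_rc_26_7 lc_b_Cert_tree lc_b_rc_8_2 lc_b_rc_1_5 lc_b_rc_1_5 lc_b_rc_8_2 lc_b_rc_9_2 lc_b_rc_8_2 lc_b_rc_26_5 lc_b_rc_6_1 lc_b_rc_25_12 lc_b_rc_9_2 lc_b_rc_7_4 lc_b_Cert_tree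 lc_b_Cert_tree lc_b_rc_6_1 lc_b_rc_8_2 lc_b_rc_10_2 lc_b_rc_9_2 lc_b_rc_9_2 lc_b_rc_6_1 lc_b_rc_26_5 lc_b_rc_9_2 lc_b_rc_9_2 lc_b_rc_6_1 lc_b_Cert_tree lc_b_rc_25_4 lc_b_rc_9_2 lc_b_rc_9_0 lc_b_rc_8_2 lc_b_rc_10_2 lc_b_rc_6_1) (@D3.rec (fun _ => (Cert rels S Gen.b)) lc_b_rc_26_5 lc_b_rc_6_1 lc_b_rc_8_2 lc_b_rc_1_1 lc_b_Cert_tree lc_b_rc_8_2 lc_b_rc_10_2 lc_b_rc_6_1 lc_b_rc_9_2 lc_b_rc_6_1 lc_b_rc_26_7 lc_b_rc_8_2 lc_b_rc_9_2 lc_b_Cert_tree lc_b_Cert_tree lc_b_rc_9_2 lc_b_Cert_tree lc_b_rc_10_0 lc_b_rc_1_3 lc_b_rc_10_2 lc_b_rc_7_2 lc_b_rc_8_2 lc_b_rc_1_1 lc_b_rc_9_0 lc_b_rc_10_2 lc_b_rc_6_1 lc_b_rc_9_2 lc_b_rc_6_1 lc_b_rc_10_2 lc_b_rc_1_5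 lc_b_rc_1_3 lc_b_rc_8_2 lc_b_rc_9_2 lc_b_rc_1_1 lc_b_rc_26_7 lc_b_Cert_tree lc_b_rc_6_1 lc_b_rc_26_5 lc_b_Cert_tree lc_b_rc_6_1 lc_b_rc_10_2 lc_b_rc_7_0 lc_b_Cert_tree lc_b_rc_1_3 lc_b_rc_8_2 lc_b_rc_9_2 lc_b_rc_9_2 lc_b_rc_8_2 lc_b_rc_10_2 lc_b_rc_8_2 lc_b_rc_26_1 lc_b_rc_10_0 lc_b_rc_9_2 lc_b_rc_9_2 lc_b_rc_10_0 lc_b_rc_8_0 lc_b_rc_6_1 lc_b_rc_9_2 lc_b_rc_6_1 lc_b_rc_9_2 lc_b_rc_8_0 lc_b_Cert_tree) (@D3.rec (fun _ => (Cert rels S Gen.b)) lc_b_rc_8_2 lc_b_rc_10_2 lc_b_rc_9_2 lc_b_rc_6_1 lc_b_rc_6_1 lc_b_rc_9_2 lc_b_rc_6_1 lc_b_rc_8_2 lc_b_Cert_tree lc_b_Cert_tree lc_b_Cert_tree lc_b_rc_8_2 lc_b_rc_26_5 lc_b_Cert_tree lc_b_rc_8_2 lc_b_rc_6_1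 lc_b_rc_8_2 lc_b_rc_9_2 lc_b_Cert_tree lc_b_rc_6_1 lc_b_rc_8_2 lc_b_rc_9_2 lc_b_rc_1_1 lc_b_rc_6_1 lc_b_rc_9_0 lc_b_rc_10_2 lc_b_rc_6_1 lc_b_rc_7_2 lc_b_rc_8_2 lc_b_rc_8_2 lc_b_rc_9_2 lc_b_rc_10_2 lc_b_rc_6_1 lc_b_rc_8_2 lc_b_rc_9_2 lc_b_rc_6_1 lc_b_rc_7_0 lc_b_rc_9_2 lc_b_rc_26_1 lc_b_rc_26_5 lc_b_Cert_tree lc_b_rc_8_2 lc_b_Cert_tree lc_b_rc_6_1 lc_b_Cert_tree lc_b_rc_9_2 lc_b_Cert_tree lc_b_rc_6_1 lc_b_Cert_tree lc_b_Cert_tree lc_b_rc_6_1 lc_b_rc_8_2 lc_b_rc_9_0 lc_b_rc_9_2 lc_b_rc_9_2 lc_b_rc_6_1 lc_b_Cert_tree lc_b_rc_9_0 lc_b_rc_10_2 lc_b_rc_6_1 lc_b_rc_1_5 lc_b_rc_8_2) (@D3.rec (fun _ => (Cert rels S Gen.b)) lc_b_Cert_tree lc_b_rc_6_1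 lc_b_Cert_tree lc_b_rc_9_2 lc_b_rc_6_1 lc_b_rc_9_2 lc_b_rc_6_1 lc_b_rc_8_2 lc_b_Cert_tree lc_b_rc_6_1 lc_b_rc_8_2 lc_b_rc_7_4 lc_b_rc_9_2 lc_b_rc_6_1 lc_b_rc_8_2 lc_b_Cert_tree lc_b_Cert_tree lc_b_rc_1_3 lc_b_rc_8_2 lc_b_rc_9_2 lc_b_rc_6_1 lc_b_rc_6_1 lc_b_rc_1_1 lc_b_rc_10_2 lc_b_Cert_tree lc_b_rc_8_0 lc_b_rc_6_1 lc_b_rc_9_2 lc_b_rc_9_2 lc_b_rc_6_1 lc_b_rc_8_2 lc_b_rc_26_5 lc_b_rc_6_1 lc_b_rc_8_2 lc_b_rc_9_2 lc_b_Cert_tree lc_b_Cert_tree lc_b_rc_9_2 lc_b_rc_8_2 lc_b_Cert_tree lc_b_rc_10_2 lc_b_rc_10_0 lc_b_rc_6_1 lc_b_rc_8_2 lc_b_rc_8_2 lc_b_rc_9_2 lc_b_rc_8_2 lc_b_rc_10_0 lc_b_rc_9_2 lc_b_rc_8_2 lc_b_rc_9_0 lc_b_rc_9_2 lc_b_Cert_tree lc_b_Cert_tree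 lc_b_rc_6_1 lc_b_rc_8_2 lc_b_rc_6_1 lc_b_rc_8_2 lc_b_rc_9_2 lc_b_rc_6_1 lc_b_rc_8_2 lc_b_rc_9_2) (@D3.rec (fun _ => (Cert rels S Gen.b)) lc_b_rc_26_5 lc_b_rc_10_2 lc_b_rc_6_1 lc_b_rc_8_2 lc_b_rc_9_2 lc_b_rc_6_1 lc_b_rc_8_2 lc_b_rc_9_2 lc_b_rc_26_5 lc_b_Cert_tree lc_b_rc_1_3 lc_b_rc_8_2 lc_b_rc_10_2 lc_b_Cert_tree lc_b_Cert_tree lc_b_rc_26_7 lc_b_rc_9_2 lc_b_rc_10_2 lc_b_rc_9_2 lc_b_rc_26_1 lc_b_Cert_tree lc_b_rc_6_1 lc_b_rc_8_2 lc_b_rc_10_2 lc_b_rc_26_7 lc_b_rc_8_2 lc_b_rc_10_2 lc_b_rc_6_1 lc_b_rc_9_2 lc_b_rc_10_2 lc_b_rc_6_1 lc_b_rc_8_2 lc_b_rc_9_2 lc_b_Cert_tree lc_b_rc_26_1 lc_b_rc_10_2 lc_b_rc_6_1 lc_b_rc_8_2 lc_b_rc_9_2 lc_b_rc_6_1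 lc_b_rc_26_5 lc_b_rc_9_2 lc_b_rc_6_1 lc_b_rc_6_1 lc_b_rc_1_5 lc_b_Cert_tree lc_b_Cert_tree lc_b_rc_8_2 lc_b_rc_8_2 lc_b_rc_9_2 lc_b_rc_9_0 lc_b_rc_9_2 lc_b_Cert_tree lc_b_rc_10_2 lc_b_rc_10_2 lc_b_Cert_tree lc_b_rc_9_2 lc_b_rc_9_2 lc_b_rc_9_2 lc_b_rc_6_1 lc_b_rc_9_0 lc_b_rc_8_2) (@D3.rec (fun _ => (Cert rels S Gen.b)) lc_b_rc_10_2 lc_b_rc_6_1 lc_b_rc_26_7 lc_b_rc_8_2 lc_b_Cert_tree lc_b_rc_6_1 lc_b_rc_1_3 lc_b_rc_8_2 lc_b_rc_9_2 lc_b_Cert_tree lc_b_rc_6_1 lc_b_Cert_tree lc_b_rc_8_0 lc_b_rc_8_2 lc_b_rc_9_0 lc_b_Cert_tree lc_b_rc_6_1 lc_b_rc_8_2 lc_b_rc_6_1 lc_b_rc_9_0 lc_b_rc_6_1 lc_b_rc_8_2 lc_b_rc_10_2 lc_b_rc_6_1 lc_b_rc_9_2 lc_b_Cert_tree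 lc_b_Cert_tree lc_b_rc_1_3 lc_b_rc_8_2 lc_b_rc_9_2 lc_b_rc_1_5 lc_b_rc_8_2 lc_b_rc_9_2 lc_b_Cert_tree lc_b_Cert_tree lc_b_rc_8_2 lc_b_rc_7_4 lc_b_Cert_tree lc_b_rc_9_2 lc_b_rc_7_2 lc_b_rc_8_2 lc_b_rc_9_2 lc_b_rc_26_5 lc_b_rc_6_1 lc_b_rc_10_2 lc_b_Cert_tree lc_b_Cert_tree lc_b_rc_10_2 lc_b_rc_8_2 lc_b_rc_9_2 lc_b_rc_9_2 lc_b_Cert_tree lc_b_Cert_tree lc_b_rc_1_5 lc_b_rc_10_2 lc_b_Cert_tree lc_b_rc_8_0 lc_b_Cert_tree lc_b_Cert_tree lc_b_Cert_tree lc_b_rc_1_3 lc_b_rc_6_1) (@D3.rec (fun _ => (Cert rels S Gen.b)) lc_b_rc_8_2 lc_b_rc_9_2 lc_b_Cert_tree lc_b_Cert_tree lc_b_rc_9_2 lc_b_rc_8_2 lc_b_rc_10_2 lc_b_Cert_tree lc_b_Cert_tree lc_b_rc_1_3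 lc_b_rc_8_2 lc_b_rc_9_2 lc_b_rc_9_2 lc_b_rc_8_2 lc_b_rc_10_2 lc_b_rc_10_2 lc_b_Cert_tree lc_b_rc_6_1 lc_b_Cert_tree lc_b_rc_7_2 lc_b_rc_9_2 lc_b_rc_6_1 lc_b_rc_6_1 lc_b_rc_10_0 lc_b_rc_8_2 lc_b_rc_9_2 lc_b_rc_8_2 lc_b_Cert_tree lc_b_Cert_tree lc_b_Cert_tree lc_b_rc_9_2 lc_b_rc_10_2 lc_b_rc_9_2 lc_b_rc_6_1 lc_b_rc_9_2 lc_b_rc_6_1 lc_b_rc_9_2 lc_b_rc_6_1 lc_b_rc_26_7 lc_b_Cert_tree lc_b_rc_26_5 lc_b_rc_10_2 lc_b_rc_9_2 lc_b_Cert_tree lc_b_Cert_tree lc_b_rc_8_2 lc_b_rc_6_1 lc_b_Cert_tree lc_b_rc_8_2 lc_b_rc_9_2 lc_b_rc_8_2 lc_b_rc_6_1 lc_b_rc_8_2 lc_b_rc_9_2 lc_b_rc_6_1 lc_b_rc_9_2 lc_b_rc_10_2 lc_b_Cert_tree lc_b_rc_6_1 lc_b_rc_6_1 lc_b_rc_9_2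 lc_b_rc_10_2) (@D3.rec (fun _ => (Cert rels S Gen.b)) lc_b_rc_9_0 lc_b_rc_6_1 lc_b_rc_9_2 lc_b_rc_9_2 lc_b_rc_6_1 lc_b_rc_6_1 lc_b_rc_9_2 lc_b_Cert_tree lc_b_Cert_tree lc_b_rc_1_3 lc_b_rc_8_2 lc_b_rc_9_2 lc_b_rc_9_2 lc_b_Cert_tree lc_b_Cert_tree lc_b_rc_8_2 lc_b_rc_7_2 lc_b_rc_6_1 lc_b_Cert_tree lc_b_rc_6_1 lc_b_Cert_tree lc_b_rc_9_2 lc_b_rc_6_1 lc_b_rc_8_2 lc_b_rc_7_2 lc_b_rc_8_2 lc_b_Cert_tree lc_b_Cert_tree lc_b_Cert_tree lc_b_rc_1_3 lc_b_rc_8_2 lc_b_rc_9_2 lc_b_rc_6_1 lc_b_rc_9_2 lc_b_Cert_tree lc_b_rc_9_2 lc_b_rc_10_2 lc_b_rc_6_1 lc_b_Cert_tree lc_b_Cert_tree lc_b_rc_26_7 lc_b_rc_8_2 lc_b_rc_1_3 lc_b_rc_8_2 lc_b_rc_9_2 lc_b_rc_8_2 lc_b_Cert_tree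 lc_b_rc_8_2 lc_b_rc_1_3 lc_b_rc_6_1 lc_b_rc_8_2 lc_b_rc_9_2 lc_b_rc_26_1 lc_b_rc_8_2 lc_b_rc_10_2 lc_b_Cert_tree lc_b_Cert_tree lc_b_rc_1_3 lc_b_rc_7_4 lc_b_rc_8_2 lc_b_rc_8_0 lc_b_rc_6_1) (@D3.rec (fun _ => (Cert rels S Gen.b)) lc_b_rc_26_1 lc_b_rc_7_0 lc_b_rc_8_0 lc_b_rc_6_1 lc_b_Cert_tree lc_b_rc_26_7 lc_b_rc_9_2 lc_b_rc_9_2 lc_b_Cert_tree lc_b_rc_26_7 lc_b_rc_9_2 lc_b_Cert_tree lc_b_Cert_tree lc_b_Cert_tree lc_b_Cert_tree lc_b_rc_26_7 lc_b_rc_6_1 lc_b_rc_6_1 lc_b_rc_8_0 lc_b_Cert_tree lc_b_rc_6_1 lc_b_rc_6_1 lc_b_rc_9_2 lc_b_rc_6_1 lc_b_rc_8_2 lc_b_rc_9_2 lc_b_rc_6_1 lc_b_rc_8_2 lc_b_rc_9_2 lc_b_rc_6_1 lc_b_rc_8_2 lc_b_rc_25_12 lc_b_rc_6_1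 lc_b_rc_8_2 lc_b_rc_9_2 lc_b_rc_26_1 lc_b_rc_10_2 lc_b_rc_6_1 lc_b_rc_8_2 lc_b_rc_9_2 lc_b_rc_6_1 lc_b_rc_8_2 lc_b_rc_9_2 lc_b_Cert_tree lc_b_Cert_tree lc_b_rc_1_3 lc_b_rc_8_2 lc_b_rc_9_2 lc_b_rc_9_2 lc_b_Cert_tree lc_b_rc_8_2 lc_b_rc_10_2 lc_b_rc_6_1 lc_b_Cert_tree lc_b_Cert_tree lc_b_Cert_tree lc_b_rc_9_2 lc_b_rc_10_2 lc_b_rc_6_1 lc_b_Cert_tree lc_b_rc_10_2 lc_b_rc_9_2) (@D3.rec (fun _ => (Cert rels S Gen.b)) lc_b_rc_6_1 lc_b_Cert_tree lc_b_rc_8_2 lc_b_rc_9_2 lc_b_rc_1_3 lc_b_rc_9_2 lc_b_rc_7_0 lc_b_rc_8_2 lc_b_rc_7_4 lc_b_rc_9_2 lc_b_rc_7_4 lc_b_rc_8_2 lc_b_rc_10_2 lc_b_Cert_tree lc_b_Cert_tree lc_b_rc_8_2 lc_b_rc_10_2 lc_b_rc_6_1 lc_b_rc_1_5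 lc_b_rc_6_1 lc_b_rc_26_7 lc_b_rc_6_1 lc_b_rc_6_1 lc_b_rc_9_2 lc_b_Cert_tree lc_b_Cert_tree lc_b_rc_1_3 lc_b_rc_8_2 lc_b_rc_9_2 lc_b_rc_10_2 lc_b_rc_9_2 lc_b_Cert_tree lc_b_rc_26_7 lc_b_rc_8_2 lc_b_rc_10_2 lc_b_rc_6_1 lc_b_Cert_tree lc_b_rc_8_2 lc_b_rc_26_1 lc_b_rc_6_1 lc_b_Cert_tree lc_b_rc_8_2 lc_b_rc_9_2 lc_b_rc_6_1 lc_b_rc_26_1 lc_b_rc_9_2 lc_b_rc_6_1 lc_b_rc_26_5 lc_b_rc_8_2 lc_b_rc_1_3 lc_b_Cert_tree lc_b_rc_26_1 lc_b_Cert_tree lc_b_Cert_tree lc_b_rc_8_2 lc_b_rc_10_2 lc_b_rc_6_1 lc_b_rc_9_2 lc_b_rc_6_1 lc_b_rc_25_16 lc_b_rc_8_2 lc_b_rc_6_1) (@D3.rec (fun _ => (Cert rels S Gen.b)) lc_b_rc_7_0 lc_b_rc_1_5 lc_b_Cert_tree lc_b_rc_26_5 lc_b_rc_10_2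 lc_b_Cert_tree lc_b_rc_8_2 lc_b_rc_6_1 lc_b_rc_8_2 lc_b_Cert_tree lc_b_rc_6_1 lc_b_rc_7_2 lc_b_rc_9_2 lc_b_rc_6_1 lc_b_rc_8_2 lc_b_rc_9_2 lc_b_rc_26_5 lc_b_rc_10_2 lc_b_rc_6_1 lc_b_rc_9_2 lc_b_Cert_tree lc_b_Cert_tree lc_b_rc_1_3 lc_b_rc_8_2 lc_b_rc_9_2 lc_b_Cert_tree lc_b_Cert_tree lc_b_rc_9_2 lc_b_Cert_tree lc_b_Cert_tree lc_b_rc_8_2 lc_b_rc_7_2 lc_b_rc_6_1 lc_b_Cert_tree lc_b_rc_9_2 lc_b_rc_6_1 lc_b_Cert_tree lc_b_rc_6_1 lc_b_rc_9_0 lc_b_rc_6_1 lc_b_rc_6_1 lc_b_rc_9_2 lc_b_rc_1_3 lc_b_rc_9_2 lc_b_rc_1_5 lc_b_rc_10_2 lc_b_rc_7_4 lc_b_rc_9_2 lc_b_Cert_tree lc_b_Cert_tree lc_b_rc_6_1 lc_b_rc_8_0 lc_b_rc_6_1 lc_b_rc_6_1 lc_b_rc_26_7 lc_b_Cert_tree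 lc_b_rc_6_1 lc_b_rc_6_1 lc_b_rc_1_3 lc_b_rc_9_2 lc_b_rc_8_2 lc_b_rc_9_0) (@D3.rec (fun _ => (Cert rels S Gen.b)) lc_b_Cert_tree lc_b_rc_9_0 lc_b_rc_8_2 lc_b_rc_10_2 lc_b_rc_6_1 lc_b_rc_9_2 lc_b_rc_6_1 lc_b_rc_1_5 lc_b_Cert_tree lc_b_rc_9_0 lc_b_rc_8_2 lc_b_Cert_tree lc_b_rc_10_2 lc_b_Cert_tree lc_b_rc_26_5 lc_b_rc_6_1 lc_b_rc_9_0 lc_b_rc_8_2 lc_b_rc_6_1 lc_b_rc_26_5 lc_b_rc_8_2 lc_b_rc_1_3 lc_b_rc_9_2 lc_b_Cert_tree lc_b_rc_6_1 lc_b_rc_8_2 lc_b_rc_9_2 lc_b_Cert_tree lc_b_Cert_tree lc_b_rc_9_2 lc_b_rc_8_0 lc_b_Cert_tree lc_b_rc_8_2 lc_b_rc_10_2 lc_b_rc_9_2 lc_b_rc_6_1 lc_b_rc_10_2 lc_b_rc_26_5 lc_b_rc_9_2 lc_b_rc_6_1 lc_b_rc_26_1 lc_b_Cert_tree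 lc_b_rc_8_2 lc_b_rc_9_2 lc_b_rc_10_2 lc_b_Cert_tree lc_b_rc_7_0 lc_b_rc_6_1 lc_b_rc_8_2 lc_b_rc_9_2 lc_b_rc_10_2 lc_b_rc_1_5 lc_b_rc_9_2 lc_b_rc_7_0 lc_b_rc_26_5 lc_b_rc_8_2 lc_b_rc_10_2 lc_b_rc_9_2 lc_b_rc_26_1 lc_b_rc_1_1 lc_b_Cert_tree lc_b_rc_8_2)
def ce_b_10 : D2 → D3 → (Cert rels S Gen.b) := @D2.rec (fun _ => D3 → (Cert rels S Gen.b)) (@D3.rec (fun _ => (Cert rels S Gen.b)) lc_b_rc_9_2 lc_b_rc_6_1 lc_b_rc_8_2 lc_b_rc_9_2 lc_b_rc_9_2 lc_b_rc_8_2 lc_b_rc_26_1 lc_b_rc_10_2 lc_b_rc_1_5 lc_b_rc_9_2 lc_b_rc_6_1 lc_b_Cert_tree lc_b_rc_9_2 lc_b_rc_26_5 lc_b_rc_9_2 lc_b_rc_26_5 lc_b_Cert_tree lc_b_Cert_tree lc_b_rc_7_0 lc_b_rc_10_2 lc_b_rc_8_2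 lc_b_Cert_tree lc_b_rc_8_2 lc_b_Cert_tree lc_b_rc_9_0 lc_b_rc_9_2 lc_b_rc_7_4 lc_b_rc_9_2 lc_b_rc_9_0 lc_b_Cert_tree lc_b_rc_10_2 lc_b_rc_8_2 lc_b_rc_9_2 lc_b_rc_6_1 lc_b_rc_6_1 lc_b_rc_9_2 lc_b_rc_6_1 lc_b_Cert_tree lc_b_rc_8_2 lc_b_rc_6_1 lc_b_Cert_tree lc_b_Cert_tree lc_b_rc_9_2 lc_b_Cert_tree lc_b_rc_6_1 lc_b_rc_9_2 lc_b_rc_9_2 lc_b_rc_26_5 lc_b_rc_10_2 lc_b_rc_6_1 lc_b_rc_8_2 lc_b_rc_9_2 lc_b_rc_9_2 lc_b_rc_9_2 lc_b_rc_8_2 lc_b_rc_9_2 lc_b_rc_6_1 lc_b_rc_8_2 lc_b_rc_9_2 lc_b_rc_6_1 lc_b_rc_8_2 lc_b_rc_9_2) (@D3.rec (fun _ => (Cert rels S Gen.b)) lc_b_rc_6_1 lc_b_rc_8_2 lc_b_rc_6_1 lc_b_Cert_tree lc_b_rc_9_0 lc_b_rc_8_2 lc_b_rc_9_2 lc_b_rc_9_2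 lc_b_rc_8_0 lc_b_Cert_tree lc_b_rc_8_2 lc_b_rc_10_2 lc_b_Cert_tree lc_b_rc_6_1 lc_b_Cert_tree lc_b_rc_9_2 lc_b_rc_9_2 lc_b_rc_10_0 lc_b_rc_8_2 lc_b_rc_9_2 lc_b_rc_8_2 lc_b_rc_9_2 lc_b_rc_26_5 lc_b_rc_26_7 lc_b_rc_6_1 lc_b_rc_8_2 lc_b_rc_9_2 lc_b_rc_6_1 lc_b_rc_8_2 lc_b_rc_26_1 lc_b_rc_26_7 lc_b_Cert_tree lc_b_rc_9_2 lc_b_rc_6_1 lc_b_rc_9_2 lc_b_Cert_tree lc_b_rc_6_1 lc_b_rc_10_2 lc_b_rc_9_2 lc_b_rc_6_1 lc_b_rc_7_4 lc_b_rc_9_2 lc_b_rc_8_2 lc_b_rc_6_1 lc_b_rc_10_2 lc_b_rc_6_1 lc_b_rc_8_2 lc_b_rc_9_2 lc_b_rc_6_1 lc_b_rc_8_2 lc_b_rc_9_2 lc_b_rc_6_1 lc_b_rc_7_4 lc_b_rc_9_2 lc_b_rc_26_7 lc_b_Cert_tree lc_b_rc_1_3 lc_b_rc_9_2 lc_b_rc_26_7 lc_b_rc_9_2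 lc_b_Cert_tree lc_b_Cert_tree) (@D3.rec (fun _ => (Cert rels S Gen.b)) lc_b_rc_8_2 lc_b_rc_10_2 lc_b_rc_6_1 lc_b_Cert_tree lc_b_Cert_tree lc_b_rc_9_2 lc_b_rc_6_1 lc_b_rc_8_2 lc_b_rc_9_2 lc_b_rc_8_2 lc_b_Cert_tree lc_b_rc_10_2 lc_b_rc_8_2 lc_b_Cert_tree lc_b_rc_1_3 lc_b_rc_9_2 lc_b_Cert_tree lc_b_Cert_tree lc_b_rc_9_2 lc_b_rc_6_1 lc_b_Cert_tree lc_b_rc_6_1 lc_b_Cert_tree lc_b_rc_1_3 lc_b_rc_6_1 lc_b_rc_7_2 lc_b_rc_9_2 lc_b_rc_6_1 lc_b_Cert_tree lc_b_rc_10_0 lc_b_rc_9_2 lc_b_Cert_tree lc_b_Cert_tree lc_b_rc_8_2 lc_b_rc_10_2 lc_b_Cert_tree lc_b_rc_6_1 lc_b_Cert_tree lc_b_rc_9_2 lc_b_rc_6_1 lc_b_rc_9_2 lc_b_Cert_tree lc_b_rc_7_4 lc_b_Cert_tree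 lc_b_rc_1_3 lc_b_rc_26_1 lc_b_Cert_tree lc_b_rc_10_2 lc_b_rc_9_0 lc_b_rc_1_5 lc_b_rc_8_2 lc_b_rc_8_2 lc_b_rc_26_5 lc_b_rc_9_2 lc_b_rc_8_2 lc_b_Cert_tree lc_b_rc_8_2 lc_b_rc_9_2 lc_b_Cert_tree lc_b_rc_6_1 lc_b_rc_10_2 lc_b_rc_6_1) (@D3.rec (fun _ => (Cert rels S Gen.b)) lc_b_rc_8_2 lc_b_rc_8_2 lc_b_rc_9_2 lc_b_rc_6_1 lc_b_Cert_tree lc_b_rc_9_2 lc_b_rc_6_1 lc_b_rc_9_2 lc_b_rc_6_1 lc_b_rc_1_5 lc_b_rc_9_2 lc_b_rc_6_1 lc_b_rc_10_2 lc_b_rc_6_1 lc_b_rc_26_7 lc_b_rc_6_1 lc_b_rc_26_1 lc_b_rc_9_2 lc_b_rc_25_4 lc_b_rc_6_1 lc_b_rc_1_3 lc_b_rc_8_2 lc_b_rc_9_2 lc_b_rc_9_2 lc_b_Cert_tree lc_b_rc_8_2 lc_b_rc_10_2 lc_b_rc_6_1 lc_b_Cert_tree lc_b_Cert_tree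 lc_b_rc_26_5 lc_b_Cert_tree lc_b_rc_25_8 lc_b_rc_6_1 lc_b_rc_26_5 lc_b_rc_6_1 lc_b_rc_9_0 lc_b_rc_8_2 lc_b_rc_9_2 lc_b_rc_6_1 lc_b_Cert_tree lc_b_rc_1_3 lc_b_rc_1_3 lc_b_rc_9_2 lc_b_Cert_tree lc_b_rc_10_2 lc_b_rc_6_1 lc_b_rc_1_3 lc_b_rc_7_2 lc_b_rc_6_1 lc_b_rc_6_1 lc_b_rc_6_1 lc_b_rc_7_2 lc_b_rc_1_3 lc_b_rc_9_2 lc_b_rc_6_1 lc_b_rc_9_2 lc_b_rc_6_1 lc_b_Cert_tree lc_b_rc_8_2 lc_b_rc_9_2 lc_b_Cert_tree) (@D3.rec (fun _ => (Cert rels S Gen.b)) lc_b_rc_8_2 lc_b_rc_1_5 lc_b_rc_9_2 lc_b_rc_6_1 lc_b_rc_9_2 lc_b_rc_10_2 lc_b_rc_8_2 lc_b_rc_8_0 lc_b_rc_8_2 lc_b_rc_26_7 lc_b_rc_9_2 lc_b_Cert_tree lc_b_rc_9_2 lc_b_Cert_tree lc_b_rc_9_2 lc_b_Cert_tree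 lc_b_Cert_tree lc_b_rc_6_1 lc_b_rc_9_2 lc_b_rc_1_5 lc_b_rc_10_2 lc_b_rc_7_2 lc_b_rc_8_2 lc_b_rc_26_5 lc_b_Cert_tree lc_b_rc_6_1 lc_b_rc_10_2 lc_b_rc_7_2 lc_b_rc_26_5 lc_b_rc_8_2 lc_b_rc_8_2 lc_b_rc_7_4 lc_b_rc_9_2 lc_b_rc_10_2 lc_b_rc_10_2 lc_b_rc_6_1 lc_b_rc_8_2 lc_b_rc_6_1 lc_b_Cert_tree lc_b_rc_6_1 lc_b_rc_10_2 lc_b_rc_8_2 lc_b_Cert_tree lc_b_rc_9_2 lc_b_rc_6_1 lc_b_rc_9_2 lc_b_rc_26_5 lc_b_rc_10_2 lc_b_Cert_tree lc_b_rc_26_7 lc_b_Cert_tree lc_b_Cert_tree lc_b_rc_10_2 lc_b_rc_1_3 lc_b_rc_6_1 lc_b_rc_7_4 lc_b_rc_9_2 lc_b_rc_10_2 lc_b_rc_7_4 lc_b_rc_6_1 lc_b_rc_6_1 lc_b_rc_8_2) (@D3.rec (fun _ => (Cert rels S Gen.b)) lc_b_rc_6_1 lc_b_rc_26_5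 lc_b_rc_9_2 lc_b_rc_8_2 lc_b_rc_6_1 lc_b_rc_8_2 lc_b_rc_1_1 lc_b_Cert_tree lc_b_rc_9_2 lc_b_rc_6_1 lc_b_rc_9_2 lc_b_rc_26_7 lc_b_rc_26_5 lc_b_rc_8_2 lc_b_rc_26_5 lc_b_rc_7_4 lc_b_rc_6_1 lc_b_rc_8_2 lc_b_rc_6_1 lc_b_rc_1_5 lc_b_rc_8_2 lc_b_Cert_tree lc_b_rc_8_0 lc_b_rc_8_2 lc_b_rc_7_0 lc_b_rc_8_2 lc_b_Cert_tree lc_b_rc_9_2 lc_b_rc_10_2 lc_b_rc_8_2 lc_b_rc_8_2 lc_b_rc_26_1 lc_b_rc_8_0 lc_b_rc_8_2 lc_b_Cert_tree lc_b_rc_6_1 lc_b_rc_8_2 lc_b_rc_9_2 lc_b_rc_10_2 lc_b_rc_9_2 lc_b_rc_8_2 lc_b_rc_10_2 lc_b_rc_6_1 lc_b_rc_26_5 lc_b_rc_8_2 lc_b_rc_6_1 lc_b_rc_9_2 lc_b_rc_26_5 lc_b_rc_9_2 lc_b_rc_6_1 lc_b_rc_26_1 lc_b_rc_1_1 lc_b_rc_10_2 lc_b_rc_7_4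 lc_b_rc_9_2 lc_b_rc_26_5 lc_b_rc_6_1 lc_b_rc_6_1 lc_b_rc_8_2 lc_b_rc_10_0 lc_b_rc_10_2 lc_b_rc_1_5) (@D3.rec (fun _ => (Cert rels S Gen.b)) lc_b_rc_10_2 lc_b_rc_10_2 lc_b_Cert_tree lc_b_rc_9_2 lc_b_rc_26_7 lc_b_rc_9_0 lc_b_rc_6_1 lc_b_rc_8_2 lc_b_rc_9_2 lc_b_rc_6_1 lc_b_rc_6_1 lc_b_rc_10_2 lc_b_rc_26_5 lc_b_rc_9_2 lc_b_rc_10_2 lc_b_rc_9_2 lc_b_rc_9_2 lc_b_rc_10_2 lc_b_rc_6_1 lc_b_rc_26_1 lc_b_rc_8_2 lc_b_rc_9_2 lc_b_rc_6_1 lc_b_rc_26_7 lc_b_rc_26_1 lc_b_rc_7_0 lc_b_Cert_tree lc_b_rc_9_0 lc_b_rc_8_2 lc_b_Cert_tree lc_b_rc_9_0 lc_b_Cert_tree lc_b_rc_9_2 lc_b_rc_8_2 lc_b_rc_26_1 lc_b_rc_25_0 lc_b_rc_26_1 lc_b_rc_7_4 lc_b_rc_9_2 lc_b_rc_6_1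 lc_b_rc_8_0 lc_b_rc_9_2 lc_b_rc_9_2 lc_b_Cert_tree lc_b_Cert_tree lc_b_rc_9_2 lc_b_Cert_tree lc_b_Cert_tree lc_b_rc_10_2 lc_b_rc_8_2 lc_b_rc_7_0 lc_b_rc_7_2 lc_b_rc_9_2 lc_b_rc_26_5 lc_b_rc_9_2 lc_b_rc_6_1 lc_b_rc_8_2 lc_b_rc_9_2 lc_b_rc_7_0 lc_b_rc_9_0 lc_b_rc_10_2 lc_b_rc_8_2) (@D3.rec (fun _ => (Cert rels S Gen.b)) lc_b_rc_8_2 lc_b_rc_6_1 lc_b_Cert_tree lc_b_rc_9_2 lc_b_rc_6_1 lc_b_rc_26_5 lc_b_rc_9_2 lc_b_rc_9_2 lc_b_rc_26_5 lc_b_rc_6_1 lc_b_rc_9_2 lc_b_rc_7_0 lc_b_rc_10_2 lc_b_rc_9_2 lc_b_rc_1_1 lc_b_rc_6_1 lc_b_rc_9_2 lc_b_rc_6_1 lc_b_rc_7_4 lc_b_rc_9_2 lc_b_rc_8_0 lc_b_rc_6_1 lc_b_rc_9_0 lc_b_rc_8_0 lc_b_rc_6_1 lc_b_rc_8_2 lc_b_rc_10_2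 lc_b_rc_6_1 lc_b_rc_8_2 lc_b_rc_9_2 lc_b_Cert_tree lc_b_rc_8_2 lc_b_rc_10_2 lc_b_rc_6_1 lc_b_rc_8_2 lc_b_rc_6_1 lc_b_rc_8_2 lc_b_rc_9_2 lc_b_rc_6_1 lc_b_rc_8_2 lc_b_rc_9_2 lc_b_Cert_tree lc_b_rc_8_2 lc_b_rc_1_3 lc_b_rc_8_2 lc_b_rc_9_2 lc_b_rc_9_2 lc_b_Cert_tree lc_b_Cert_tree lc_b_rc_8_2 lc_b_rc_7_4 lc_b_Cert_tree lc_b_Cert_tree lc_b_rc_9_2 lc_b_rc_9_2 lc_b_rc_9_2 lc_b_rc_8_2 lc_b_rc_8_2 lc_b_rc_10_2 lc_b_Cert_tree lc_b_rc_1_3 lc_b_rc_8_2) (@D3.rec (fun _ => (Cert rels S Gen.b)) lc_b_rc_9_2 lc_b_rc_9_2 lc_b_Cert_tree lc_b_rc_7_4 lc_b_rc_8_2 lc_b_rc_10_2 lc_b_Cert_tree lc_b_rc_10_0 lc_b_Cert_tree lc_b_rc_8_2 lc_b_rc_6_1 lc_b_Cert_tree lc_b_rc_10_2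 lc_b_rc_6_1 lc_b_rc_6_1 lc_b_rc_8_2 lc_b_rc_6_1 lc_b_rc_6_1 lc_b_Cert_tree lc_b_rc_10_2 lc_b_Cert_tree lc_b_Cert_tree lc_b_rc_1_3 lc_b_rc_8_2 lc_b_rc_9_2 lc_b_Cert_tree lc_b_Cert_tree lc_b_rc_9_2 lc_b_Cert_tree lc_b_Cert_tree lc_b_rc_8_2 lc_b_rc_10_2 lc_b_Cert_tree lc_b_rc_9_2 lc_b_Cert_tree lc_b_rc_9_2 lc_b_rc_10_2 lc_b_rc_6_1 lc_b_rc_10_2 lc_b_rc_7_0 lc_b_Cert_tree lc_b_rc_1_3 lc_b_rc_8_2 lc_b_rc_9_2 lc_b_rc_9_2 lc_b_Cert_tree lc_b_rc_10_2 lc_b_Cert_tree lc_b_rc_8_0 lc_b_Cert_tree lc_b_Cert_tree lc_b_Cert_tree lc_b_rc_1_3 lc_b_rc_9_2 lc_b_rc_9_0 lc_b_rc_8_2 lc_b_rc_10_2 lc_b_Cert_tree lc_b_Cert_tree lc_b_rc_1_3 lc_b_rc_8_2 lc_b_rc_9_2)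 (@D3.rec (fun _ => (Cert rels S Gen.b)) lc_b_rc_9_2 lc_b_rc_7_4 lc_b_rc_10_2 lc_b_Cert_tree lc_b_rc_6_1 lc_b_rc_26_1 lc_b_rc_8_2 lc_b_rc_9_2 lc_b_rc_10_2 lc_b_rc_6_1 lc_b_rc_10_0 lc_b_rc_8_2 lc_b_rc_9_2 lc_b_rc_8_2 lc_b_rc_26_1 lc_b_Cert_tree lc_b_rc_7_4 lc_b_rc_9_2 lc_b_rc_9_2 lc_b_rc_6_1 lc_b_rc_9_2 lc_b_rc_6_1 lc_b_rc_9_2 lc_b_Cert_tree lc_b_Cert_tree lc_b_rc_10_2 lc_b_Cert_tree lc_b_Cert_tree lc_b_rc_8_2 lc_b_rc_6_1 lc_b_Cert_tree lc_b_rc_8_2 lc_b_rc_6_1 lc_b_rc_7_4 lc_b_rc_8_2 lc_b_rc_9_2 lc_b_rc_9_2 lc_b_rc_6_1 lc_b_rc_8_2 lc_b_rc_9_2 lc_b_rc_6_1 lc_b_rc_8_2 lc_b_rc_9_2 lc_b_rc_10_2 lc_b_Cert_tree lc_b_Cert_tree lc_b_Cert_tree lc_b_rc_8_2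 lc_b_rc_6_1 lc_b_rc_8_2 lc_b_rc_9_2 lc_b_rc_26_5 lc_b_rc_26_5 lc_b_rc_1_3 lc_b_Cert_tree lc_b_rc_9_2 lc_b_rc_6_1 lc_b_rc_8_2 lc_b_rc_9_2 lc_b_rc_6_1 lc_b_rc_9_2 lc_b_rc_6_1) (@D3.rec (fun _ => (Cert rels S Gen.b)) lc_b_rc_9_2 lc_b_Cert_tree lc_b_Cert_tree lc_b_rc_1_3 lc_b_rc_8_2 lc_b_rc_9_2 lc_b_Cert_tree lc_b_Cert_tree lc_b_rc_9_2 lc_b_Cert_tree lc_b_Cert_tree lc_b_rc_8_2 lc_b_rc_7_2 lc_b_rc_6_1 lc_b_Cert_tree lc_b_rc_6_1 lc_b_Cert_tree lc_b_rc_9_2 lc_b_rc_6_1 lc_b_rc_9_2 lc_b_Cert_tree lc_b_Cert_tree lc_b_rc_1_3 lc_b_Cert_tree lc_b_rc_1_3 lc_b_rc_9_2 lc_b_Cert_tree lc_b_rc_10_2 lc_b_rc_10_2 lc_b_rc_6_1 lc_b_Cert_tree lc_b_Cert_tree lc_b_rc_1_3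 lc_b_rc_6_1 lc_b_Cert_tree lc_b_rc_9_2 lc_b_rc_6_1 lc_b_Cert_tree lc_b_rc_9_2 lc_b_rc_26_7 lc_b_rc_9_2 lc_b_Cert_tree lc_b_rc_7_4 lc_b_rc_9_2 lc_b_Cert_tree lc_b_Cert_tree lc_b_rc_10_2 lc_b_rc_10_2 lc_b_Cert_tree lc_b_rc_6_1 lc_b_rc_6_1 lc_b_rc_9_2 lc_b_rc_6_1 lc_b_rc_8_2 lc_b_rc_6_1 lc_b_rc_6_1 lc_b_rc_9_2 lc_b_rc_26_1 lc_b_rc_10_2 lc_b_rc_6_1 lc_b_rc_9_2 lc_b_rc_9_2) (@D3.rec (fun _ => (Cert rels S Gen.b)) lc_b_Cert_tree lc_b_Cert_tree lc_b_rc_1_3 lc_b_rc_8_2 lc_b_rc_9_2 lc_b_rc_9_2 lc_b_Cert_tree lc_b_rc_8_2 lc_b_rc_10_2 lc_b_rc_25_16 lc_b_Cert_tree lc_b_Cert_tree lc_b_Cert_tree lc_b_rc_6_1 lc_b_rc_8_2 lc_b_rc_6_1 lc_b_rc_26_1 lc_b_rc_9_2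 lc_b_rc_6_1 lc_b_Cert_tree lc_b_rc_9_2 lc_b_rc_1_3 lc_b_rc_9_2 lc_b_Cert_tree lc_b_rc_9_2 lc_b_Cert_tree lc_b_rc_10_2 lc_b_rc_7_4 lc_b_rc_6_1 lc_b_rc_8_2 lc_b_rc_6_1 lc_b_rc_6_1 lc_b_rc_6_1 lc_b_rc_8_2 lc_b_rc_9_2 lc_b_rc_26_5 lc_b_rc_6_1 lc_b_rc_8_2 lc_b_rc_6_1 lc_b_rc_7_2 lc_b_Cert_tree lc_b_Cert_tree lc_b_rc_1_3 lc_b_rc_8_2 lc_b_rc_9_2 lc_b_rc_9_2 lc_b_Cert_tree lc_b_Cert_tree lc_b_rc_8_2 lc_b_rc_10_2 lc_b_rc_6_1 lc_b_Cert_tree lc_b_rc_8_2 lc_b_rc_6_1 lc_b_Cert_tree lc_b_rc_8_2 lc_b_rc_9_2 lc_b_rc_8_2 lc_b_rc_9_2 lc_b_rc_6_1 lc_b_Cert_tree lc_b_rc_8_2) (@D3.rec (fun _ => (Cert rels S Gen.b)) lc_b_rc_1_3 lc_b_rc_6_1 lc_b_Cert_tree lc_b_rc_8_2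 lc_b_rc_10_2 lc_b_rc_1_1 lc_b_rc_26_1 lc_b_rc_7_0 lc_b_rc_6_1 lc_b_Cert_tree lc_b_rc_26_1 lc_b_rc_26_5 lc_b_Cert_tree lc_b_rc_8_2 lc_b_rc_6_1 lc_b_rc_8_2 lc_b_Cert_tree lc_b_rc_6_1 lc_b_rc_8_2 lc_b_rc_9_2 lc_b_rc_9_2 lc_b_Cert_tree lc_b_Cert_tree lc_b_rc_1_3 lc_b_rc_8_2 lc_b_rc_9_2 lc_b_rc_9_2 lc_b_Cert_tree lc_b_rc_26_7 lc_b_rc_8_2 lc_b_rc_26_7 lc_b_rc_6_1 lc_b_Cert_tree lc_b_rc_8_2 lc_b_rc_6_1 lc_b_Cert_tree lc_b_rc_6_1 lc_b_rc_6_1 lc_b_rc_26_5 lc_b_rc_9_2 lc_b_rc_8_2 lc_b_rc_9_2 lc_b_rc_9_2 lc_b_Cert_tree lc_b_Cert_tree lc_b_rc_10_2 lc_b_rc_6_1 lc_b_rc_6_1 lc_b_rc_9_2 lc_b_Cert_tree lc_b_rc_6_1 lc_b_rc_6_1 lc_b_Cert_tree lc_b_rc_8_2 lc_b_rc_9_2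 lc_b_rc_6_1 lc_b_rc_26_5 lc_b_rc_8_2 lc_b_rc_1_3 lc_b_rc_9_2 lc_b_rc_9_0 lc_b_rc_6_1) (@D3.rec (fun _ => (Cert rels S Gen.b)) lc_b_rc_8_2 lc_b_rc_9_2 lc_b_rc_7_4 lc_b_Cert_tree lc_b_Cert_tree lc_b_rc_8_2 lc_b_rc_10_2 lc_b_rc_8_2 lc_b_Cert_tree lc_b_rc_10_2 lc_b_rc_6_1 lc_b_rc_26_1 lc_b_rc_6_1 lc_b_rc_26_5 lc_b_rc_9_2 lc_b_rc_1_3 lc_b_rc_9_2 lc_b_Cert_tree lc_b_Cert_tree lc_b_rc_8_2 lc_b_rc_9_2 lc_b_Cert_tree lc_b_Cert_tree lc_b_rc_8_2 lc_b_rc_10_2 lc_b_rc_6_1 lc_b_rc_9_2 lc_b_rc_6_1 lc_b_rc_26_5 lc_b_rc_8_2 lc_b_rc_9_2 lc_b_rc_6_1 lc_b_rc_1_1 lc_b_Cert_tree lc_b_rc_8_2 lc_b_rc_9_2 lc_b_rc_10_2 lc_b_Cert_tree lc_b_rc_6_1 lc_b_rc_6_1 lc_b_rc_8_2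 lc_b_rc_9_2 lc_b_rc_10_2 lc_b_rc_1_1 lc_b_rc_26_7 lc_b_rc_26_5 lc_b_rc_7_0 lc_b_rc_6_1 lc_b_rc_8_2 lc_b_rc_10_2 lc_b_rc_9_2 lc_b_rc_26_1 lc_b_rc_1_1 lc_b_Cert_tree lc_b_rc_8_2 lc_b_rc_9_2 lc_b_rc_6_1 lc_b_rc_8_2 lc_b_rc_9_2 lc_b_rc_26_1 lc_b_rc_9_2 lc_b_rc_10_2) (@D3.rec (fun _ => (Cert rels S Gen.b)) lc_b_rc_8_2 lc_b_rc_10_2 lc_b_Cert_tree lc_b_rc_9_2 lc_b_rc_6_1 lc_b_rc_26_1 lc_b_rc_26_7 lc_b_rc_6_1 lc_b_rc_26_5 lc_b_rc_9_2 lc_b_rc_6_1 lc_b_Cert_tree lc_b_rc_8_2 lc_b_rc_9_2 lc_b_Cert_tree lc_b_rc_10_2 lc_b_rc_9_0 lc_b_Cert_tree lc_b_rc_8_2 lc_b_rc_1_3 lc_b_rc_6_1 lc_b_rc_9_2 lc_b_Cert_tree lc_b_rc_1_1 lc_b_rc_10_2 lc_b_rc_9_2 lc_b_rc_26_7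 lc_b_Cert_tree lc_b_rc_10_2 lc_b_rc_7_4 lc_b_rc_6_1 lc_b_rc_10_2 lc_b_rc_9_2 lc_b_rc_6_1 lc_b_rc_8_2 lc_b_rc_10_2 lc_b_rc_6_1 lc_b_Cert_tree lc_b_rc_8_2 lc_b_rc_9_2 lc_b_rc_6_1 lc_b_rc_8_2 lc_b_rc_9_2 lc_b_rc_6_1 lc_b_rc_9_2 lc_b_rc_8_2 lc_b_rc_9_2 lc_b_rc_10_2 lc_b_rc_6_1 lc_b_rc_1_5 lc_b_rc_6_1 lc_b_rc_26_7 lc_b_rc_8_0 lc_b_rc_9_0 lc_b_rc_6_1 lc_b_rc_1_3 lc_b_rc_8_2 lc_b_rc_9_2 lc_b_rc_9_2 lc_b_Cert_tree lc_b_Cert_tree lc_b_rc_8_2) (@D3.rec (fun _ => (Cert rels S Gen.b)) lc_b_rc_10_2 lc_b_rc_6_1 lc_b_Cert_tree lc_b_Cert_tree lc_b_rc_8_2 lc_b_rc_8_2 lc_b_Cert_tree lc_b_rc_10_2 lc_b_rc_6_1 lc_b_rc_8_2 lc_b_rc_6_1 lc_b_Cert_tree lc_b_rc_9_2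 lc_b_rc_6_1 lc_b_rc_9_0 lc_b_rc_9_2 lc_b_rc_9_2 lc_b_rc_6_1 lc_b_Cert_tree lc_b_rc_8_2 lc_b_rc_10_2 lc_b_rc_6_1 lc_b_rc_9_2 lc_b_rc_8_2 lc_b_rc_26_7 lc_b_rc_6_1 lc_b_Cert_tree lc_b_rc_10_2 lc_b_rc_6_1 lc_b_rc_8_2 lc_b_rc_6_1 lc_b_rc_6_1 lc_b_rc_9_2 lc_b_rc_9_2 lc_b_rc_1_5 lc_b_rc_6_1 lc_b_rc_8_2 lc_b_rc_25_8 lc_b_rc_9_0 lc_b_rc_8_2 lc_b_rc_10_2 lc_b_rc_6_1 lc_b_rc_8_2 lc_b_rc_9_2 lc_b_rc_6_1 lc_b_rc_25_16 lc_b_rc_8_2 lc_b_rc_9_0 lc_b_rc_8_2 lc_b_rc_6_1 lc_b_rc_7_0 lc_b_Cert_tree lc_b_rc_10_2 lc_b_rc_8_2 lc_b_rc_9_2 lc_b_rc_9_2 lc_b_Cert_tree lc_b_rc_8_2 lc_b_rc_6_1 lc_b_Cert_tree lc_b_rc_10_0 lc_b_rc_10_0) (@D3.rec (fun _ => (Cert rels S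 Gen.b)) lc_b_rc_8_2 lc_b_rc_26_7 lc_b_Cert_tree lc_b_rc_10_2 lc_b_rc_6_1 lc_b_rc_9_2 lc_b_rc_1_3 lc_b_rc_8_2 lc_b_rc_9_2 lc_b_rc_9_2 lc_b_rc_9_0 lc_b_rc_7_4 lc_b_rc_9_2 lc_b_rc_9_2 lc_b_rc_8_2 lc_b_Cert_tree lc_b_rc_9_2 lc_b_rc_6_1 lc_b_rc_9_2 lc_b_rc_6_1 lc_b_rc_9_2 lc_b_rc_26_5 lc_b_Cert_tree lc_b_rc_10_2 lc_b_rc_9_2 lc_b_rc_6_1 lc_b_rc_7_4 lc_b_rc_6_1 lc_b_rc_8_2 lc_b_rc_9_2 lc_b_rc_26_5 lc_b_rc_10_2 lc_b_rc_6_1 lc_b_rc_8_2 lc_b_rc_9_2 lc_b_rc_6_1 lc_b_rc_6_1 lc_b_rc_9_2 lc_b_rc_26_7 lc_b_Cert_tree lc_b_rc_1_3 lc_b_rc_8_2 lc_b_rc_26_7 lc_b_rc_10_2 lc_b_rc_7_2 lc_b_rc_6_1 lc_b_rc_8_2 lc_b_rc_9_2 lc_b_Cert_tree lc_b_Cert_tree lc_b_rc_6_1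 lc_b_rc_8_2 lc_b_rc_6_1 lc_b_rc_7_2 lc_b_rc_9_2 lc_b_rc_6_1 lc_b_Cert_tree lc_b_rc_9_2 lc_b_rc_9_2 lc_b_rc_8_0 lc_b_rc_8_2 lc_b_rc_10_2) (@D3.rec (fun _ => (Cert rels S Gen.b)) lc_b_rc_26_1 lc_b_rc_1_3 lc_b_rc_1_3 lc_b_rc_7_4 lc_b_rc_6_1 lc_b_rc_6_1 lc_b_rc_6_1 lc_b_Cert_tree lc_b_rc_9_0 lc_b_rc_8_2 lc_b_Cert_tree lc_b_rc_7_4 lc_b_rc_1_5 lc_b_rc_9_2 lc_b_rc_1_1 lc_b_rc_10_2 lc_b_rc_6_1 lc_b_rc_8_2 lc_b_rc_9_2 lc_b_rc_6_1 lc_b_rc_9_2 lc_b_rc_10_2 lc_b_Cert_tree lc_b_rc_10_2 lc_b_rc_6_1 lc_b_rc_10_2 lc_b_rc_6_1 lc_b_rc_9_2 lc_b_rc_6_1 lc_b_rc_8_2 lc_b_Cert_tree lc_b_rc_9_2 lc_b_rc_8_2 lc_b_rc_6_1 lc_b_rc_9_2 lc_b_Cert_tree lc_b_Cert_tree lc_b_rc_8_2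 lc_b_rc_10_2 lc_b_rc_6_1 lc_b_Cert_tree lc_b_rc_7_2 lc_b_rc_8_2 lc_b_rc_26_7 lc_b_rc_6_1 lc_b_rc_8_2 lc_b_rc_8_2 lc_b_rc_10_2 lc_b_rc_1_3 lc_b_rc_6_1 lc_b_rc_9_2 lc_b_rc_6_1 lc_b_rc_6_1 lc_b_rc_1_5 lc_b_rc_8_2 lc_b_rc_10_0 lc_b_rc_8_2 lc_b_rc_8_2 lc_b_rc_8_2 lc_b_rc_26_1 lc_b_rc_9_2 lc_b_rc_8_2) (@D3.rec (fun _ => (Cert rels S Gen.b)) lc_b_rc_26_5 lc_b_rc_9_2 lc_b_rc_6_1 lc_b_rc_1_5 lc_b_rc_9_2 lc_b_Cert_tree lc_b_rc_26_1 lc_b_rc_10_0 lc_b_rc_9_0 lc_b_Cert_tree lc_b_rc_10_2 lc_b_rc_6_1 lc_b_rc_6_1 lc_b_rc_8_2 lc_b_rc_6_1 lc_b_rc_9_2 lc_b_rc_6_1 lc_b_rc_9_2 lc_b_rc_26_7 lc_b_rc_7_0 lc_b_rc_6_1 lc_b_rc_6_1 lc_b_rc_6_1 lc_b_rc_1_5 lc_b_rc_8_2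 lc_b_rc_26_7 lc_b_rc_9_2 lc_b_rc_9_2 lc_b_rc_10_2 lc_b_rc_1_3 lc_b_Cert_tree lc_b_rc_9_0 lc_b_rc_7_4 lc_b_rc_8_2 lc_b_rc_26_7 lc_b_rc_9_2 lc_b_rc_8_2 lc_b_rc_9_2 lc_b_rc_6_1 lc_b_Cert_tree lc_b_rc_10_2 lc_b_rc_6_1 lc_b_rc_8_2 lc_b_rc_9_2 lc_b_rc_9_2 lc_b_rc_7_2 lc_b_rc_9_2 lc_b_rc_10_2 lc_b_rc_9_2 lc_b_rc_9_0 lc_b_rc_10_2 lc_b_rc_9_2 lc_b_rc_6_1 lc_b_rc_6_1 lc_b_rc_6_1 lc_b_Cert_tree lc_b_rc_26_5 lc_b_rc_6_1 lc_b_rc_26_5 lc_b_rc_9_2 lc_b_rc_9_2 lc_b_rc_10_2) (@D3.rec (fun _ => (Cert rels S Gen.b)) lc_b_rc_8_2 lc_b_rc_10_2 lc_b_rc_26_7 lc_b_rc_1_1 lc_b_rc_9_2 lc_b_rc_10_2 lc_b_rc_6_1 lc_b_rc_9_2 lc_b_rc_6_1 lc_b_rc_1_5 lc_b_rc_6_1 lc_b_rc_8_2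 lc_b_rc_10_0 lc_b_Cert_tree lc_b_rc_9_2 lc_b_rc_8_2 lc_b_Cert_tree lc_b_rc_6_1 lc_b_rc_8_2 lc_b_rc_26_5 lc_b_rc_8_2 lc_b_rc_9_2 lc_b_Cert_tree lc_b_rc_6_1 lc_b_rc_9_2 lc_b_rc_8_2 lc_b_Cert_tree lc_b_rc_9_2 lc_b_Cert_tree lc_b_rc_9_2 lc_b_rc_6_1 lc_b_rc_8_2 lc_b_rc_6_1 lc_b_rc_8_2 lc_b_rc_9_2 lc_b_rc_6_1 lc_b_rc_8_2 lc_b_rc_9_2 lc_b_rc_26_5 lc_b_rc_10_2 lc_b_rc_6_1 lc_b_rc_8_2 lc_b_rc_9_2 lc_b_Cert_tree lc_b_Cert_tree lc_b_rc_1_3 lc_b_rc_8_2 lc_b_rc_10_2 lc_b_Cert_tree lc_b_rc_9_2 lc_b_rc_9_2 lc_b_rc_6_1 lc_b_rc_7_2 lc_b_rc_9_2 lc_b_rc_6_1 lc_b_rc_10_2 lc_b_rc_9_2 lc_b_rc_9_2 lc_b_rc_6_1 lc_b_rc_7_2 lc_b_rc_8_2 lc_b_rc_8_0) (@D3.rec (fun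 _ => (Cert rels S Gen.b)) lc_b_rc_26_1 lc_b_rc_6_1 lc_b_rc_6_1 lc_b_rc_9_2 lc_b_rc_10_2 lc_b_rc_6_1 lc_b_rc_6_1 lc_b_rc_9_2 lc_b_rc_8_0 lc_b_Cert_tree lc_b_rc_1_3 lc_b_rc_8_2 lc_b_Cert_tree lc_b_Cert_tree lc_b_Cert_tree lc_b_rc_8_0 lc_b_Cert_tree lc_b_rc_9_2 lc_b_rc_6_1 lc_b_rc_8_2 lc_b_rc_9_2 lc_b_rc_6_1 lc_b_rc_10_2 lc_b_rc_9_2 lc_b_rc_6_1 lc_b_rc_9_2 lc_b_rc_9_0 lc_b_rc_9_2 lc_b_rc_26_1 lc_b_rc_6_1 lc_b_Cert_tree lc_b_Cert_tree lc_b_rc_1_3 lc_b_rc_8_2 lc_b_rc_9_2 lc_b_rc_9_2 lc_b_rc_9_0 lc_b_Cert_tree lc_b_rc_26_1 lc_b_rc_10_2 lc_b_Cert_tree lc_b_rc_9_2 lc_b_Cert_tree lc_b_rc_1_1 lc_b_rc_6_1 lc_b_rc_8_2 lc_b_rc_9_2 lc_b_rc_26_1 lc_b_rc_6_1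 lc_b_rc_9_2 lc_b_Cert_tree lc_b_Cert_tree lc_b_rc_1_3 lc_b_rc_8_2 lc_b_rc_9_2 lc_b_Cert_tree lc_b_rc_9_2 lc_b_Cert_tree lc_b_rc_8_2 lc_b_rc_8_2 lc_b_rc_10_2 lc_b_Cert_tree) (@D3.rec (fun _ => (Cert rels S Gen.b)) lc_b_rc_8_2 lc_b_rc_7_4 lc_b_rc_9_2 lc_b_rc_6_1 lc_b_rc_8_2 lc_b_rc_9_2 lc_b_rc_8_2 lc_b_rc_8_2 lc_b_rc_10_2 lc_b_Cert_tree lc_b_Cert_tree lc_b_rc_7_2 lc_b_rc_8_2 lc_b_rc_9_2 lc_b_rc_9_2 lc_b_Cert_tree lc_b_Cert_tree lc_b_rc_8_2 lc_b_rc_10_2 lc_b_rc_10_2 lc_b_rc_8_0 lc_b_Cert_tree lc_b_rc_6_1 lc_b_Cert_tree lc_b_rc_1_3 lc_b_rc_8_2 lc_b_rc_9_2 lc_b_Cert_tree lc_b_rc_7_4 lc_b_rc_8_2 lc_b_rc_10_2 lc_b_Cert_tree lc_b_Cert_tree lc_b_rc_1_3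 lc_b_rc_8_2 lc_b_rc_9_2 lc_b_rc_9_2 lc_b_rc_8_2 lc_b_rc_10_2 lc_b_rc_10_2 lc_b_rc_6_1 lc_b_rc_8_2 lc_b_rc_9_2 lc_b_rc_6_1 lc_b_rc_6_1 lc_b_rc_8_2 lc_b_rc_9_2 lc_b_rc_8_2 lc_b_rc_6_1 lc_b_Cert_tree lc_b_rc_9_2 lc_b_rc_10_2 lc_b_rc_9_2 lc_b_rc_6_1 lc_b_rc_6_1 lc_b_rc_10_0 lc_b_rc_6_1 lc_b_rc_9_2 lc_b_Cert_tree lc_b_Cert_tree lc_b_rc_10_2 lc_b_rc_26_7) (@D3.rec (fun _ => (Cert rels S Gen.b)) lc_b_Cert_tree lc_b_Cert_tree lc_b_rc_8_2 lc_b_Cert_tree lc_b_rc_8_2 lc_b_rc_8_2 lc_b_rc_6_1 lc_b_Cert_tree lc_b_rc_8_2 lc_b_rc_6_1 lc_b_rc_9_2 lc_b_rc_9_2 lc_b_rc_26_5 lc_b_Cert_tree lc_b_rc_25_12 lc_b_rc_6_1 lc_b_Cert_tree lc_b_rc_8_2 lc_b_Cert_tree lc_b_rc_9_2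 lc_b_rc_8_2 lc_b_rc_8_0 lc_b_rc_8_2 lc_b_rc_10_2 lc_b_rc_6_1 lc_b_rc_9_2 lc_b_rc_9_2 lc_b_Cert_tree lc_b_Cert_tree lc_b_rc_8_2 lc_b_rc_10_2 lc_b_rc_6_1 lc_b_Cert_tree lc_b_rc_9_2 lc_b_Cert_tree lc_b_rc_9_2 lc_b_rc_26_1 lc_b_rc_1_1 lc_b_rc_6_1 lc_b_rc_8_2 lc_b_rc_9_2 lc_b_Cert_tree lc_b_rc_6_1 lc_b_rc_6_1 lc_b_rc_8_2 lc_b_rc_9_2 lc_b_rc_10_2 lc_b_rc_1_1 lc_b_rc_8_2 lc_b_rc_8_2 lc_b_rc_9_2 lc_b_rc_10_2 lc_b_rc_9_2 lc_b_rc_26_7 lc_b_rc_1_3 lc_b_rc_26_7 lc_b_rc_9_2 lc_b_rc_6_1 lc_b_rc_8_2 lc_b_rc_9_2 lc_b_rc_9_2 lc_b_rc_26_1) (@D3.rec (fun _ => (Cert rels S Gen.b)) lc_b_rc_8_2 lc_b_rc_10_2 lc_b_Cert_tree lc_b_rc_9_2 lc_b_rc_6_1 lc_b_Cert_tree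 lc_b_rc_9_2 lc_b_rc_26_5 lc_b_Cert_tree lc_b_Cert_tree lc_b_rc_8_2 lc_b_rc_9_2 lc_b_Cert_tree lc_b_rc_6_1 lc_b_Cert_tree lc_b_rc_6_1 lc_b_rc_10_2 lc_b_rc_9_2 lc_b_rc_8_2 lc_b_Cert_tree lc_b_rc_6_1 lc_b_rc_8_2 lc_b_rc_6_1 lc_b_rc_8_2 lc_b_rc_8_2 lc_b_rc_9_2 lc_b_rc_6_1 lc_b_rc_8_2 lc_b_rc_9_2 lc_b_Cert_tree lc_b_rc_6_1 lc_b_rc_1_3 lc_b_rc_8_2 lc_b_Cert_tree lc_b_Cert_tree lc_b_rc_9_2 lc_b_rc_9_2 lc_b_rc_6_1 lc_b_rc_1_1 lc_b_rc_9_2 lc_b_rc_6_1 lc_b_rc_8_2 lc_b_rc_6_1 lc_b_rc_8_2 lc_b_rc_9_2 lc_b_rc_6_1 lc_b_rc_8_2 lc_b_rc_6_1 lc_b_rc_10_2 lc_b_rc_6_1 lc_b_rc_8_2 lc_b_rc_9_2 lc_b_Cert_tree lc_b_Cert_tree lc_b_rc_1_3 lc_b_rc_8_2 lc_b_rc_10_2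 lc_b_Cert_tree lc_b_Cert_tree lc_b_rc_9_2 lc_b_rc_10_2 lc_b_rc_9_2) (@D3.rec (fun _ => (Cert rels S Gen.b)) lc_b_rc_6_1 lc_b_rc_8_2 lc_b_rc_9_2 lc_b_rc_8_2 lc_b_rc_6_1 lc_b_rc_9_2 lc_b_rc_26_5 lc_b_rc_26_1 lc_b_rc_10_2 lc_b_rc_9_2 lc_b_rc_6_1 lc_b_rc_9_2 lc_b_rc_9_0 lc_b_rc_9_0 lc_b_rc_10_2 lc_b_rc_26_5 lc_b_rc_26_7 lc_b_rc_10_2 lc_b_rc_9_2 lc_b_rc_6_1 lc_b_rc_6_1 lc_b_rc_10_2 lc_b_Cert_tree lc_b_Cert_tree lc_b_rc_1_3 lc_b_rc_8_2 lc_b_rc_10_2 lc_b_rc_9_2 lc_b_rc_9_2 lc_b_rc_9_0 lc_b_rc_6_1 lc_b_rc_6_1 lc_b_rc_8_2 lc_b_rc_9_2 lc_b_rc_6_1 lc_b_rc_6_1 lc_b_rc_10_2 lc_b_rc_6_1 lc_b_rc_8_2 lc_b_rc_9_2 lc_b_rc_6_1 lc_b_rc_8_2 lc_b_rc_10_2 lc_b_Cert_tree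 lc_b_Cert_tree lc_b_rc_1_3 lc_b_rc_8_2 lc_b_rc_9_2 lc_b_rc_9_2 lc_b_Cert_tree lc_b_Cert_tree lc_b_rc_8_2 lc_b_rc_10_2 lc_b_Cert_tree lc_b_rc_9_2 lc_b_rc_6_1 lc_b_rc_9_2 lc_b_rc_6_1 lc_b_rc_8_2 lc_b_rc_10_2 lc_b_Cert_tree lc_b_Cert_tree) (@D3.rec (fun _ => (Cert rels S Gen.b)) lc_b_rc_1_3 lc_b_rc_8_2 lc_b_rc_9_2 lc_b_rc_9_2 lc_b_Cert_tree lc_b_Cert_tree lc_b_rc_8_2 lc_b_rc_10_2 lc_b_Cert_tree lc_b_rc_9_2 lc_b_Cert_tree lc_b_rc_10_2 lc_b_rc_6_1 lc_b_rc_6_1 lc_b_rc_9_2 lc_b_Cert_tree lc_b_Cert_tree lc_b_rc_8_2 lc_b_rc_8_2 lc_b_rc_9_2 lc_b_Cert_tree lc_b_Cert_tree lc_b_Cert_tree lc_b_rc_26_5 lc_b_Cert_tree lc_b_rc_8_2 lc_b_rc_26_5 lc_b_rc_9_2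 lc_b_rc_26_1 lc_b_rc_9_0 lc_b_rc_10_2 lc_b_Cert_tree lc_b_Cert_tree lc_b_rc_10_2 lc_b_rc_8_2 lc_b_rc_9_2 lc_b_rc_9_2 lc_b_rc_8_0 lc_b_Cert_tree lc_b_rc_26_1 lc_b_rc_10_2 lc_b_rc_8_0 lc_b_rc_8_0 lc_b_Cert_tree lc_b_rc_6_1 lc_b_Cert_tree lc_b_rc_1_3 lc_b_rc_8_2 lc_b_rc_9_2 lc_b_Cert_tree lc_b_Cert_tree lc_b_Cert_tree lc_b_rc_1_3 lc_b_rc_10_2 lc_b_rc_6_1 lc_b_rc_8_2 lc_b_rc_9_2 lc_b_rc_10_2 lc_b_rc_6_1 lc_b_rc_10_2 lc_b_rc_25_0 lc_b_rc_8_2) (@D3.rec (fun _ => (Cert rels S Gen.b)) lc_b_Cert_tree lc_b_Cert_tree lc_b_rc_1_3 lc_b_rc_9_2 lc_b_rc_10_2 lc_b_rc_9_2 lc_b_rc_6_1 lc_b_rc_9_2 lc_b_rc_6_1 lc_b_rc_9_2 lc_b_rc_6_1 lc_b_rc_1_5 lc_b_Cert_tree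 lc_b_Cert_tree lc_b_rc_10_2 lc_b_rc_9_2 lc_b_Cert_tree lc_b_Cert_tree lc_b_rc_8_2 lc_b_Cert_tree lc_b_rc_8_2 lc_b_rc_8_2 lc_b_rc_6_1 lc_b_Cert_tree lc_b_rc_8_2 lc_b_rc_6_1 lc_b_rc_9_2 lc_b_rc_9_2 lc_b_Cert_tree lc_b_rc_9_0 lc_b_rc_8_2 lc_b_rc_10_2 lc_b_rc_6_1 lc_b_Cert_tree lc_b_rc_8_2 lc_b_rc_6_1 lc_b_rc_8_2 lc_b_rc_7_4 lc_b_rc_8_2 lc_b_Cert_tree lc_b_rc_6_1 lc_b_rc_6_1 lc_b_rc_26_5 lc_b_Cert_tree lc_b_rc_9_2 lc_b_Cert_tree lc_b_Cert_tree lc_b_rc_8_2 lc_b_rc_9_2 lc_b_rc_6_1 lc_b_Cert_tree lc_b_rc_9_2 lc_b_rc_9_2 lc_b_rc_6_1 lc_b_rc_26_1 lc_b_rc_8_2 lc_b_rc_9_2 lc_b_rc_6_1 lc_b_rc_9_2 lc_b_Cert_tree lc_b_rc_6_1 lc_b_rc_6_1) (@D3.rec (fun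 _ => (Cert rels S Gen.b)) lc_b_rc_26_1 lc_b_rc_1_5 lc_b_rc_26_1 lc_b_rc_1_5 lc_b_rc_7_4 lc_b_rc_9_2 lc_b_rc_10_2 lc_b_rc_10_0 lc_b_rc_8_2 lc_b_rc_10_2 lc_b_rc_9_2 lc_b_rc_26_7 lc_b_rc_26_1 lc_b_Cert_tree lc_b_rc_8_2 lc_b_rc_9_2 lc_b_rc_6_1 lc_b_rc_8_2 lc_b_rc_9_2 lc_b_Cert_tree lc_b_rc_9_2 lc_b_rc_7_0 lc_b_rc_8_2 lc_b_rc_10_2 lc_b_Cert_tree lc_b_rc_9_2 lc_b_rc_6_1 lc_b_Cert_tree lc_b_rc_6_1 lc_b_rc_6_1 lc_b_rc_26_5 lc_b_rc_9_2 lc_b_Cert_tree lc_b_rc_26_1 lc_b_rc_8_2 lc_b_rc_9_2 lc_b_Cert_tree lc_b_rc_8_0 lc_b_rc_10_2 lc_b_Cert_tree lc_b_Cert_tree lc_b_rc_6_1 lc_b_rc_8_2 lc_b_rc_9_2 lc_b_rc_6_1 lc_b_rc_9_2 lc_b_rc_1_5 lc_b_rc_7_4 lc_b_rc_8_2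 lc_b_rc_8_2 lc_b_rc_9_2 lc_b_rc_6_1 lc_b_rc_9_2 lc_b_rc_26_5 lc_b_rc_26_5 lc_b_rc_10_2 lc_b_rc_6_1 lc_b_rc_9_2 lc_b_rc_10_2 lc_b_rc_26_5 lc_b_rc_26_1 lc_b_rc_10_2) (@D3.rec (fun _ => (Cert rels S Gen.b)) lc_b_rc_6_1 lc_b_rc_10_2 lc_b_rc_9_2 lc_b_rc_6_1 lc_b_rc_9_2 lc_b_rc_26_1 lc_b_rc_10_2 lc_b_rc_26_5 lc_b_rc_10_2 lc_b_Cert_tree lc_b_Cert_tree lc_b_rc_1_1 lc_b_rc_9_2 lc_b_rc_9_2 lc_b_Cert_tree lc_b_Cert_tree lc_b_rc_1_3 lc_b_rc_8_2 lc_b_rc_9_2 lc_b_rc_9_2 lc_b_Cert_tree lc_b_Cert_tree lc_b_rc_8_2 lc_b_rc_10_2 lc_b_Cert_tree lc_b_Cert_tree lc_b_rc_9_2 lc_b_Cert_tree lc_b_Cert_tree lc_b_rc_7_2 lc_b_rc_8_2 lc_b_rc_9_2 lc_b_rc_9_2 lc_b_Cert_tree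 lc_b_Cert_tree lc_b_rc_8_2 lc_b_rc_10_2 lc_b_Cert_tree lc_b_rc_9_2 lc_b_Cert_tree lc_b_rc_9_2 lc_b_rc_1_1 lc_b_Cert_tree lc_b_rc_8_2 lc_b_Cert_tree lc_b_rc_6_1 lc_b_rc_1_3 lc_b_rc_8_2 lc_b_rc_9_2 lc_b_rc_9_2 lc_b_rc_8_2 lc_b_rc_26_7 lc_b_rc_6_1 lc_b_Cert_tree lc_b_rc_1_3 lc_b_rc_8_2 lc_b_rc_9_2 lc_b_rc_9_2 lc_b_rc_8_2 lc_b_rc_10_2 lc_b_rc_6_1 lc_b_rc_9_2) (@D3.rec (fun _ => (Cert rels S Gen.b)) lc_b_rc_6_1 lc_b_rc_9_2 lc_b_rc_6_1 lc_b_rc_9_2 lc_b_rc_6_1 lc_b_rc_7_4 lc_b_rc_9_2 lc_b_rc_9_0 lc_b_rc_6_1 lc_b_rc_10_2 lc_b_Cert_tree lc_b_rc_8_2 lc_b_rc_8_0 lc_b_rc_8_2 lc_b_rc_8_2 lc_b_rc_6_1 lc_b_rc_10_2 lc_b_rc_8_2 lc_b_rc_26_1 lc_b_rc_10_2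 lc_b_Cert_tree lc_b_Cert_tree lc_b_rc_1_3 lc_b_rc_8_2 lc_b_rc_7_0 lc_b_rc_9_0 lc_b_Cert_tree lc_b_rc_1_3 lc_b_rc_8_2 lc_b_rc_9_2 lc_b_rc_9_2 lc_b_Cert_tree lc_b_rc_8_2 lc_b_rc_7_4 lc_b_Cert_tree lc_b_rc_9_2 lc_b_rc_26_5 lc_b_Cert_tree lc_b_rc_10_2 lc_b_rc_6_1 lc_b_rc_8_2 lc_b_rc_10_2 lc_b_rc_6_1 lc_b_Cert_tree lc_b_rc_1_3 lc_b_rc_8_2 lc_b_rc_9_2 lc_b_rc_9_2 lc_b_Cert_tree lc_b_rc_7_2 lc_b_rc_8_2 lc_b_rc_10_2 lc_b_Cert_tree lc_b_rc_6_1 lc_b_rc_25_4 lc_b_rc_6_1 lc_b_rc_26_1 lc_b_rc_1_3 lc_b_rc_8_2 lc_b_rc_9_2 lc_b_rc_9_2 lc_b_rc_8_2) (@D3.rec (fun _ => (Cert rels S Gen.b)) lc_b_rc_10_2 lc_b_rc_6_1 lc_b_rc_1_3 lc_b_rc_8_2 lc_b_rc_9_2 lc_b_rc_9_2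 lc_b_rc_8_2 lc_b_rc_26_5 lc_b_rc_7_0 lc_b_rc_6_1 lc_b_Cert_tree lc_b_rc_8_2 lc_b_rc_9_2 lc_b_rc_10_2 lc_b_rc_6_1 lc_b_rc_26_5 lc_b_rc_8_2 lc_b_rc_9_2 lc_b_Cert_tree lc_b_rc_9_2 lc_b_rc_9_2 lc_b_rc_6_1 lc_b_rc_9_2 lc_b_rc_9_0 lc_b_Cert_tree lc_b_rc_10_2 lc_b_rc_7_0 lc_b_Cert_tree lc_b_rc_8_2 lc_b_rc_8_2 lc_b_rc_6_1 lc_b_rc_9_2 lc_b_rc_6_1 lc_b_rc_8_2 lc_b_rc_9_2 lc_b_rc_6_1 lc_b_rc_10_2 lc_b_rc_6_1 lc_b_rc_8_2 lc_b_rc_9_2 lc_b_rc_6_1 lc_b_rc_8_2 lc_b_rc_9_2 lc_b_Cert_tree lc_b_Cert_tree lc_b_rc_1_3 lc_b_rc_8_2 lc_b_rc_10_2 lc_b_Cert_tree lc_b_Cert_tree lc_b_rc_10_2 lc_b_rc_9_0 lc_b_rc_8_0 lc_b_rc_6_1 lc_b_rc_26_7 lc_b_rc_10_2 lc_b_rc_6_1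 lc_b_rc_6_1 lc_b_rc_9_2 lc_b_rc_6_1 lc_b_rc_9_2 lc_b_Cert_tree) (@D3.rec (fun _ => (Cert rels S Gen.b)) lc_b_Cert_tree lc_b_rc_1_3 lc_b_rc_8_2 lc_b_Cert_tree lc_b_rc_9_2 lc_b_Cert_tree lc_b_Cert_tree lc_b_rc_8_2 lc_b_rc_7_2 lc_b_rc_9_0 lc_b_rc_9_2 lc_b_rc_6_1 lc_b_rc_9_2 lc_b_rc_9_0 lc_b_Cert_tree lc_b_rc_26_1 lc_b_rc_1_3 lc_b_rc_8_2 lc_b_rc_9_2 lc_b_rc_9_2 lc_b_Cert_tree lc_b_rc_7_4 lc_b_rc_8_2 lc_b_rc_7_2 lc_b_Cert_tree lc_b_rc_8_0 lc_b_rc_26_5 lc_b_rc_26_5 lc_b_rc_10_2 lc_b_rc_6_1 lc_b_rc_9_2 lc_b_Cert_tree lc_b_rc_6_1 lc_b_rc_1_3 lc_b_rc_8_2 lc_b_rc_9_2 lc_b_rc_9_2 lc_b_Cert_tree lc_b_rc_8_2 lc_b_rc_9_2 lc_b_rc_8_0 lc_b_rc_9_2 lc_b_rc_8_2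 lc_b_rc_10_2 lc_b_Cert_tree lc_b_rc_26_7 lc_b_rc_1_3 lc_b_rc_8_2 lc_b_rc_9_2 lc_b_rc_9_2 lc_b_Cert_tree lc_b_Cert_tree lc_b_rc_1_5 lc_b_rc_10_2 lc_b_rc_26_5 lc_b_rc_26_1 lc_b_Cert_tree lc_b_rc_1_3 lc_b_rc_8_2 lc_b_rc_9_2 lc_b_rc_9_2 lc_b_rc_6_1) (@D3.rec (fun _ => (Cert rels S Gen.b)) lc_b_rc_9_0 lc_b_rc_8_2 lc_b_rc_9_2 lc_b_rc_8_0 lc_b_rc_10_2 lc_b_rc_10_2 lc_b_rc_6_1 lc_b_rc_26_1 lc_b_rc_8_2 lc_b_rc_9_2 lc_b_rc_6_1 lc_b_rc_26_5 lc_b_rc_7_0 lc_b_rc_8_2 lc_b_Cert_tree lc_b_Cert_tree lc_b_rc_9_2 lc_b_rc_6_1 lc_b_rc_9_2 lc_b_rc_6_1 lc_b_rc_9_2 lc_b_Cert_tree lc_b_rc_9_2 lc_b_Cert_tree lc_b_Cert_tree lc_b_rc_26_5 lc_b_rc_8_0 lc_b_rc_8_2 lc_b_rc_6_1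 lc_b_Cert_tree lc_b_rc_8_2 lc_b_rc_9_2 lc_b_rc_6_1 lc_b_rc_10_2 lc_b_rc_9_2 lc_b_rc_6_1 lc_b_rc_8_2 lc_b_rc_25_16 lc_b_rc_6_1 lc_b_Cert_tree lc_b_rc_1_3 lc_b_rc_8_2 lc_b_rc_1_3 lc_b_Cert_tree lc_b_rc_8_2 lc_b_rc_8_2 lc_b_rc_9_2 lc_b_Cert_tree lc_b_rc_9_0 lc_b_rc_1_3 lc_b_rc_8_2 lc_b_Cert_tree lc_b_Cert_tree lc_b_rc_9_2 lc_b_rc_6_1 lc_b_rc_8_2 lc_b_rc_6_1 lc_b_rc_8_2 lc_b_rc_9_2 lc_b_rc_26_1 lc_b_rc_10_2 lc_b_rc_8_2) (@D3.rec (fun _ => (Cert rels S Gen.b)) lc_b_rc_9_2 lc_b_rc_26_5 lc_b_rc_10_2 lc_b_Cert_tree lc_b_Cert_tree lc_b_rc_9_2 lc_b_rc_8_2 lc_b_rc_1_5 lc_b_rc_6_1 lc_b_rc_7_2 lc_b_rc_8_0 lc_b_rc_8_2 lc_b_rc_10_2 lc_b_rc_6_1 lc_b_rc_8_2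 lc_b_rc_9_2 lc_b_rc_9_2 lc_b_rc_6_1 lc_b_rc_6_1 lc_b_rc_8_2 lc_b_rc_6_1 lc_b_rc_8_2 lc_b_rc_9_2 lc_b_rc_6_1 lc_b_rc_8_2 lc_b_Cert_tree lc_b_Cert_tree lc_b_rc_8_2 lc_b_Cert_tree lc_b_Cert_tree lc_b_rc_9_2 lc_b_rc_9_2 lc_b_rc_26_5 lc_b_rc_7_4 lc_b_rc_8_2 lc_b_rc_8_2 lc_b_rc_9_2 lc_b_Cert_tree lc_b_rc_8_2 lc_b_Cert_tree lc_b_rc_6_1 lc_b_rc_9_2 lc_b_rc_26_5 lc_b_rc_6_1 lc_b_rc_10_2 lc_b_rc_6_1 lc_b_rc_9_2 lc_b_rc_6_1 lc_b_Cert_tree lc_b_Cert_tree lc_b_rc_1_3 lc_b_rc_8_2 lc_b_rc_9_2 lc_b_Cert_tree lc_b_Cert_tree lc_b_rc_9_2 lc_b_Cert_tree lc_b_Cert_tree lc_b_rc_8_2 lc_b_rc_10_2 lc_b_rc_9_2 lc_b_rc_8_2) (@D3.rec (fun _ => (Cert rels S Gen.b))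 lc_b_Cert_tree lc_b_rc_9_2 lc_b_Cert_tree lc_b_rc_6_1 lc_b_rc_1_3 lc_b_rc_8_2 lc_b_rc_9_2 lc_b_rc_8_2 lc_b_Cert_tree lc_b_Cert_tree lc_b_rc_8_2 lc_b_rc_10_2 lc_b_rc_7_4 lc_b_rc_8_2 lc_b_Cert_tree lc_b_Cert_tree lc_b_Cert_tree lc_b_rc_1_3 lc_b_rc_8_2 lc_b_rc_9_2 lc_b_rc_7_4 lc_b_rc_9_2 lc_b_rc_8_2 lc_b_rc_10_2 lc_b_rc_26_5 lc_b_Cert_tree lc_b_rc_1_3 lc_b_rc_8_2 lc_b_rc_9_2 lc_b_rc_9_2 lc_b_rc_8_2 lc_b_rc_10_2 lc_b_rc_10_2 lc_b_Cert_tree lc_b_rc_6_1 lc_b_rc_26_1 lc_b_rc_8_2 lc_b_rc_9_2 lc_b_rc_6_1 lc_b_rc_6_1 lc_b_rc_8_2 lc_b_rc_8_2 lc_b_Cert_tree lc_b_Cert_tree lc_b_Cert_tree lc_b_rc_9_2 lc_b_rc_10_2 lc_b_rc_9_2 lc_b_rc_6_1 lc_b_rc_8_0 lc_b_rc_6_1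 lc_b_rc_9_2 lc_b_rc_6_1 lc_b_rc_9_2 lc_b_Cert_tree lc_b_Cert_tree lc_b_rc_7_0 lc_b_rc_7_0 lc_b_rc_8_2 lc_b_rc_9_2 lc_b_rc_26_5 lc_b_rc_26_1) (@D3.rec (fun _ => (Cert rels S Gen.b)) lc_b_rc_10_2 lc_b_rc_6_1 lc_b_rc_9_2 lc_b_Cert_tree lc_b_rc_9_2 lc_b_rc_1_3 lc_b_rc_8_2 lc_b_rc_9_2 lc_b_rc_9_2 lc_b_rc_1_5 lc_b_rc_26_7 lc_b_rc_9_2 lc_b_rc_9_2 lc_b_rc_8_2 lc_b_rc_8_0 lc_b_rc_10_2 lc_b_rc_8_2 lc_b_rc_9_2 lc_b_rc_6_1 lc_b_rc_6_1 lc_b_rc_8_0 lc_b_rc_10_2 lc_b_rc_6_1 lc_b_rc_9_2 lc_b_rc_26_5 lc_b_rc_26_1 lc_b_rc_10_2 lc_b_rc_6_1 lc_b_rc_10_2 lc_b_rc_10_0 lc_b_rc_10_2 lc_b_Cert_tree lc_b_rc_9_0 lc_b_rc_1_3 lc_b_rc_9_2 lc_b_rc_8_2 lc_b_rc_7_2 lc_b_Cert_tree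 lc_b_Cert_tree lc_b_rc_9_2 lc_b_rc_26_5 lc_b_rc_8_2 lc_b_Cert_tree lc_b_rc_10_2 lc_b_Cert_tree lc_b_rc_6_1 lc_b_rc_10_2 lc_b_Cert_tree lc_b_Cert_tree lc_b_rc_1_3 lc_b_rc_9_2 lc_b_Cert_tree lc_b_Cert_tree lc_b_rc_1_3 lc_b_rc_10_2 lc_b_rc_6_1 lc_b_rc_9_2 lc_b_Cert_tree lc_b_rc_6_1 lc_b_Cert_tree lc_b_rc_1_3 lc_b_rc_8_2) (@D3.rec (fun _ => (Cert rels S Gen.b)) lc_b_rc_9_2 lc_b_rc_9_2 lc_b_Cert_tree lc_b_Cert_tree lc_b_rc_8_2 lc_b_Cert_tree lc_b_Cert_tree lc_b_rc_1_3 lc_b_rc_8_2 lc_b_rc_9_2 lc_b_rc_9_2 lc_b_rc_8_2 lc_b_rc_10_2 lc_b_rc_6_1 lc_b_Cert_tree lc_b_rc_1_3 lc_b_rc_8_2 lc_b_rc_9_2 lc_b_rc_9_2 lc_b_rc_9_2 lc_b_rc_8_2 lc_b_rc_6_1 lc_b_Cert_tree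 lc_b_rc_8_2 lc_b_rc_9_2 lc_b_rc_6_1 lc_b_rc_26_5 lc_b_rc_9_2 lc_b_rc_9_2 lc_b_rc_8_2 lc_b_rc_6_1 lc_b_Cert_tree lc_b_rc_26_1 lc_b_rc_9_2 lc_b_Cert_tree lc_b_Cert_tree lc_b_rc_8_2 lc_b_rc_10_2 lc_b_rc_6_1 lc_b_rc_9_2 lc_b_rc_6_1 lc_b_rc_9_2 lc_b_rc_7_4 lc_b_Cert_tree lc_b_rc_10_2 lc_b_rc_10_2 lc_b_rc_6_1 lc_b_rc_8_2 lc_b_rc_6_1 lc_b_rc_26_7 lc_b_rc_8_2 lc_b_rc_9_2 lc_b_Cert_tree lc_b_Cert_tree lc_b_Cert_tree lc_b_rc_10_2 lc_b_Cert_tree lc_b_rc_6_1 lc_b_rc_8_2 lc_b_Cert_tree lc_b_rc_9_2 lc_b_rc_8_2) (@D3.rec (fun _ => (Cert rels S Gen.b)) lc_b_rc_7_4 lc_b_Cert_tree lc_b_rc_8_2 lc_b_rc_7_4 lc_b_Cert_tree lc_b_Cert_tree lc_b_rc_6_1 lc_b_rc_8_2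 lc_b_rc_10_2 lc_b_rc_8_2 lc_b_rc_6_1 lc_b_rc_8_2 lc_b_rc_9_2 lc_b_rc_26_5 lc_b_Cert_tree lc_b_rc_1_3 lc_b_Cert_tree lc_b_Cert_tree lc_b_rc_6_1 lc_b_rc_9_2 lc_b_rc_6_1 lc_b_rc_9_2 lc_b_rc_26_1 lc_b_rc_6_1 lc_b_Cert_tree lc_b_rc_1_3 lc_b_rc_8_2 lc_b_rc_9_2 lc_b_rc_9_2 lc_b_Cert_tree lc_b_rc_8_2 lc_b_rc_10_2 lc_b_rc_26_5 lc_b_rc_9_0 lc_b_rc_10_2 lc_b_Cert_tree lc_b_rc_1_1 lc_b_rc_1_3 lc_b_rc_9_2 lc_b_rc_6_1 lc_b_rc_8_0 lc_b_Cert_tree lc_b_rc_10_0 lc_b_rc_1_5 lc_b_rc_9_2 lc_b_rc_9_0 lc_b_rc_6_1 lc_b_rc_10_2 lc_b_rc_6_1 lc_b_Cert_tree lc_b_rc_8_2 lc_b_rc_6_1 lc_b_rc_26_5 lc_b_rc_8_2 lc_b_rc_9_2 lc_b_rc_10_2 lc_b_rc_1_1 lc_b_Cert_tree lc_b_Cert_tree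 lc_b_rc_7_4 lc_b_rc_9_2 lc_b_Cert_tree) (@D3.rec (fun _ => (Cert rels S Gen.b)) lc_b_Cert_tree lc_b_rc_8_2 lc_b_rc_10_2 lc_b_rc_6_1 lc_b_Cert_tree lc_b_rc_8_2 lc_b_rc_10_2 lc_b_rc_6_1 lc_b_rc_26_5 lc_b_rc_8_2 lc_b_rc_9_2 lc_b_rc_6_1 lc_b_rc_8_2 lc_b_Cert_tree lc_b_Cert_tree lc_b_Cert_tree lc_b_rc_10_2 lc_b_Cert_tree lc_b_rc_6_1 lc_b_rc_8_2 lc_b_rc_9_2 lc_b_rc_6_1 lc_b_rc_9_0 lc_b_rc_7_2 lc_b_rc_26_7 lc_b_rc_6_1 lc_b_Cert_tree lc_b_rc_6_1 lc_b_rc_8_2 lc_b_rc_10_2 lc_b_rc_6_1 lc_b_rc_8_2 lc_b_rc_9_2 lc_b_rc_6_1 lc_b_rc_8_2 lc_b_rc_9_2 lc_b_Cert_tree lc_b_rc_6_1 lc_b_rc_1_1 lc_b_rc_8_2 lc_b_rc_6_1 lc_b_rc_9_2 lc_b_rc_8_2 lc_b_Cert_tree lc_b_rc_7_2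 lc_b_rc_1_3 lc_b_rc_8_2 lc_b_rc_9_2 lc_b_rc_9_2 lc_b_rc_7_2 lc_b_Cert_tree lc_b_rc_8_2 lc_b_rc_10_2 lc_b_rc_8_2 lc_b_rc_9_2 lc_b_rc_8_2 lc_b_rc_9_2 lc_b_rc_6_1 lc_b_rc_6_1 lc_b_Cert_tree lc_b_rc_1_3 lc_b_rc_9_2) (@D3.rec (fun _ => (Cert rels S Gen.b)) lc_b_rc_26_7 lc_b_rc_6_1 lc_b_Cert_tree lc_b_rc_1_3 lc_b_rc_6_1 lc_b_Cert_tree lc_b_rc_9_2 lc_b_rc_6_1 lc_b_rc_26_5 lc_b_rc_8_2 lc_b_rc_7_4 lc_b_Cert_tree lc_b_rc_10_2 lc_b_rc_8_2 lc_b_rc_9_2 lc_b_Cert_tree lc_b_Cert_tree lc_b_rc_8_2 lc_b_rc_10_2 lc_b_rc_6_1 lc_b_rc_9_2 lc_b_rc_6_1 lc_b_rc_9_2 lc_b_rc_26_7 lc_b_Cert_tree lc_b_rc_8_2 lc_b_rc_9_2 lc_b_rc_6_1 lc_b_rc_26_1 lc_b_rc_9_2 lc_b_Cert_tree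 lc_b_rc_8_0 lc_b_rc_10_2 lc_b_rc_6_1 lc_b_rc_8_2 lc_b_rc_6_1 lc_b_rc_9_2 lc_b_rc_7_2 lc_b_rc_6_1 lc_b_rc_9_0 lc_b_rc_6_1 lc_b_Cert_tree lc_b_rc_1_3 lc_b_rc_8_2 lc_b_rc_9_2 lc_b_Cert_tree lc_b_Cert_tree lc_b_rc_7_4 lc_b_rc_10_2 lc_b_rc_8_2 lc_b_rc_6_1 lc_b_Cert_tree lc_b_rc_6_1 lc_b_rc_7_2 lc_b_rc_9_2 lc_b_rc_1_3 lc_b_Cert_tree lc_b_Cert_tree lc_b_rc_7_4 lc_b_Cert_tree lc_b_Cert_tree lc_b_rc_10_2) (@D3.rec (fun _ => (Cert rels S Gen.b)) lc_b_rc_6_1 lc_b_rc_8_2 lc_b_rc_8_2 lc_b_rc_9_2 lc_b_rc_6_1 lc_b_rc_8_2 lc_b_rc_6_1 lc_b_rc_8_2 lc_b_rc_9_2 lc_b_rc_8_0 lc_b_rc_8_2 lc_b_rc_9_2 lc_b_rc_7_4 lc_b_rc_8_2 lc_b_Cert_tree lc_b_Cert_tree lc_b_rc_6_1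 lc_b_rc_8_2 lc_b_rc_10_2 lc_b_rc_6_1 lc_b_Cert_tree lc_b_rc_6_1 lc_b_rc_9_2 lc_b_rc_6_1 lc_b_rc_26_5 lc_b_rc_8_2 lc_b_rc_1_3 lc_b_rc_8_2 lc_b_rc_9_2 lc_b_rc_7_0 lc_b_rc_1_1 lc_b_rc_8_2 lc_b_rc_9_2 lc_b_rc_6_1 lc_b_Cert_tree lc_b_rc_7_2 lc_b_rc_9_2 lc_b_Cert_tree lc_b_Cert_tree lc_b_rc_9_2 lc_b_rc_10_2 lc_b_rc_9_2 lc_b_rc_6_1 lc_b_rc_9_2 lc_b_rc_9_0 lc_b_rc_10_2 lc_b_rc_26_1 lc_b_rc_1_3 lc_b_rc_6_1 lc_b_rc_26_5 lc_b_rc_8_2 lc_b_rc_9_2 lc_b_rc_8_2 lc_b_rc_8_2 lc_b_rc_6_1 lc_b_Cert_tree lc_b_rc_8_2 lc_b_rc_9_2 lc_b_rc_8_2 lc_b_Cert_tree lc_b_rc_7_4 lc_b_rc_9_2) (@D3.rec (fun _ => (Cert rels S Gen.b)) lc_b_rc_6_1 lc_b_rc_10_2 lc_b_rc_9_2 lc_b_rc_6_1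 lc_b_rc_10_2 lc_b_Cert_tree lc_b_rc_8_0 lc_b_rc_1_5 lc_b_rc_8_0 lc_b_rc_1_3 lc_b_rc_9_2 lc_b_rc_6_1 lc_b_rc_8_2 lc_b_rc_9_2 lc_b_rc_26_7 lc_b_rc_25_0 lc_b_rc_8_2 lc_b_rc_9_2 lc_b_rc_10_2 lc_b_rc_6_1 lc_b_rc_6_1 lc_b_rc_8_2 lc_b_rc_26_7 lc_b_rc_6_1 lc_b_rc_8_2 lc_b_Cert_tree lc_b_rc_9_2 lc_b_rc_10_2 lc_b_rc_10_0 lc_b_rc_8_2 lc_b_rc_10_2 lc_b_rc_6_1 lc_b_rc_26_5 lc_b_rc_1_1 lc_b_rc_8_2 lc_b_rc_9_2 lc_b_rc_8_2 lc_b_rc_9_2 lc_b_Cert_tree lc_b_rc_9_2 lc_b_rc_6_1 lc_b_rc_8_2 lc_b_rc_10_2 lc_b_rc_10_2 lc_b_Cert_tree lc_b_rc_7_4 lc_b_rc_8_2 lc_b_rc_6_1 lc_b_Cert_tree lc_b_rc_9_2 lc_b_rc_6_1 lc_b_Cert_tree lc_b_rc_9_2 lc_b_Cert_tree lc_b_rc_6_1 lc_b_rc_8_2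 lc_b_rc_9_2 lc_b_rc_7_4 lc_b_Cert_tree lc_b_Cert_tree lc_b_rc_10_2 lc_b_rc_9_2) (@D3.rec (fun _ => (Cert rels S Gen.b)) lc_b_Cert_tree lc_b_Cert_tree lc_b_rc_8_2 lc_b_rc_8_2 lc_b_rc_7_2 lc_b_rc_9_2 lc_b_rc_7_2 lc_b_rc_8_2 lc_b_rc_10_2 lc_b_rc_1_3 lc_b_rc_7_4 lc_b_rc_9_2 lc_b_rc_8_0 lc_b_rc_8_2 lc_b_rc_10_2 lc_b_Cert_tree lc_b_rc_10_2 lc_b_rc_9_2 lc_b_rc_8_2 lc_b_rc_6_1 lc_b_rc_26_5 lc_b_rc_8_2 lc_b_rc_9_2 lc_b_rc_6_1 lc_b_rc_9_0 lc_b_rc_8_2 lc_b_rc_9_2 lc_b_rc_8_0 lc_b_Cert_tree lc_b_rc_8_2 lc_b_rc_6_1 lc_b_rc_26_7 lc_b_rc_1_5 lc_b_rc_9_2 lc_b_rc_6_1 lc_b_rc_26_5 lc_b_rc_10_0 lc_b_rc_9_2 lc_b_rc_9_0 lc_b_rc_1_5 lc_b_rc_9_2 lc_b_Cert_tree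 lc_b_rc_8_2 lc_b_rc_9_2 lc_b_rc_6_1 lc_b_rc_10_0 lc_b_rc_9_2 lc_b_rc_8_2 lc_b_Cert_tree lc_b_rc_7_2 lc_b_rc_8_2 lc_b_rc_9_2 lc_b_rc_9_2 lc_b_rc_26_1 lc_b_rc_6_1 lc_b_rc_8_2 lc_b_rc_9_2 lc_b_rc_8_2 lc_b_rc_6_1 lc_b_rc_6_1 lc_b_rc_9_2 lc_b_rc_6_1) (@D3.rec (fun _ => (Cert rels S Gen.b)) lc_b_Cert_tree lc_b_rc_1_3 lc_b_rc_8_2 lc_b_rc_9_2 lc_b_Cert_tree lc_b_Cert_tree lc_b_Cert_tree lc_b_rc_8_2 lc_b_rc_10_2 lc_b_Cert_tree lc_b_rc_6_1 lc_b_Cert_tree lc_b_rc_9_2 lc_b_rc_1_5 lc_b_rc_8_2 lc_b_rc_10_0 lc_b_rc_6_1 lc_b_Cert_tree lc_b_rc_8_2 lc_b_rc_9_2 lc_b_rc_6_1 lc_b_rc_26_5 lc_b_rc_7_0 lc_b_rc_1_3 lc_b_rc_9_2 lc_b_rc_6_1 lc_b_Cert_tree lc_b_rc_8_0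 lc_b_Cert_tree lc_b_rc_6_1 lc_b_rc_8_2 lc_b_rc_6_1 lc_b_rc_8_2 lc_b_rc_9_2 lc_b_rc_6_1 lc_b_rc_8_2 lc_b_rc_9_2 lc_b_rc_1_3 lc_b_rc_8_2 lc_b_rc_9_2 lc_b_Cert_tree lc_b_rc_8_2 lc_b_rc_8_0 lc_b_Cert_tree lc_b_rc_6_1 lc_b_Cert_tree lc_b_rc_26_1 lc_b_rc_9_2 lc_b_Cert_tree lc_b_rc_9_2 lc_b_Cert_tree lc_b_rc_10_2 lc_b_Cert_tree lc_b_rc_6_1 lc_b_rc_6_1 lc_b_rc_6_1 lc_b_rc_8_2 lc_b_rc_6_1 lc_b_rc_9_2 lc_b_Cert_tree lc_b_rc_1_3 lc_b_rc_8_2) (@D3.rec (fun _ => (Cert rels S Gen.b)) lc_b_rc_9_2 lc_b_Cert_tree lc_b_rc_9_2 lc_b_Cert_tree lc_b_Cert_tree lc_b_rc_8_2 lc_b_rc_7_4 lc_b_Cert_tree lc_b_rc_6_1 lc_b_rc_6_1 lc_b_Cert_tree lc_b_rc_9_2 lc_b_rc_9_0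 lc_b_rc_9_2 lc_b_rc_6_1 lc_b_rc_26_5 lc_b_rc_8_2 lc_b_rc_9_2 lc_b_rc_1_5 lc_b_rc_8_0 lc_b_Cert_tree lc_b_rc_8_2 lc_b_rc_6_1 lc_b_rc_10_0 lc_b_rc_9_2 lc_b_rc_10_0 lc_b_Cert_tree lc_b_rc_8_2 lc_b_rc_6_1 lc_b_rc_6_1 lc_b_rc_6_1 lc_b_rc_9_2 lc_b_Cert_tree lc_b_Cert_tree lc_b_rc_1_3 lc_b_rc_8_2 lc_b_Cert_tree lc_b_Cert_tree lc_b_rc_9_2 lc_b_Cert_tree lc_b_Cert_tree lc_b_rc_8_2 lc_b_rc_7_4 lc_b_Cert_tree lc_b_rc_8_2 lc_b_Cert_tree lc_b_rc_6_1 lc_b_rc_6_1 lc_b_rc_9_2 lc_b_Cert_tree lc_b_rc_1_5 lc_b_rc_9_2 lc_b_rc_8_2 lc_b_rc_9_2 lc_b_rc_6_1 lc_b_Cert_tree lc_b_rc_8_2 lc_b_rc_9_2 lc_b_Cert_tree lc_b_rc_6_1 lc_b_rc_8_2 lc_b_rc_8_2) (@D3.rec (fun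 _ => (Cert rels S Gen.b)) lc_b_Cert_tree lc_b_Cert_tree lc_b_rc_6_1 lc_b_rc_26_5 lc_b_rc_9_2 lc_b_rc_1_1 lc_b_Cert_tree lc_b_Cert_tree lc_b_rc_8_2 lc_b_rc_1_5 lc_b_rc_9_2 lc_b_rc_26_5 lc_b_rc_9_2 lc_b_rc_8_2 lc_b_rc_26_5 lc_b_Cert_tree lc_b_rc_8_2 lc_b_rc_9_2 lc_b_rc_10_2 lc_b_Cert_tree lc_b_rc_6_1 lc_b_rc_6_1 lc_b_rc_8_2 lc_b_rc_9_2 lc_b_rc_10_2 lc_b_Cert_tree lc_b_rc_26_1 lc_b_rc_8_2 lc_b_rc_8_2 lc_b_rc_9_0 lc_b_Cert_tree lc_b_rc_6_1 lc_b_rc_8_2 lc_b_rc_9_2 lc_b_Cert_tree lc_b_rc_10_2 lc_b_rc_9_2 lc_b_rc_6_1 lc_b_rc_6_1 lc_b_rc_26_5 lc_b_rc_6_1 lc_b_rc_8_2 lc_b_rc_9_2 lc_b_rc_6_1 lc_b_Cert_tree lc_b_rc_10_2 lc_b_Cert_tree lc_b_rc_6_1 lc_b_rc_8_2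 lc_b_rc_1_3 lc_b_rc_7_4 lc_b_rc_6_1 lc_b_rc_9_2 lc_b_Cert_tree lc_b_rc_26_1 lc_b_rc_26_5 lc_b_Cert_tree lc_b_rc_1_3 lc_b_rc_8_2 lc_b_rc_9_2 lc_b_rc_9_2 lc_b_Cert_tree) (@D3.rec (fun _ => (Cert rels S Gen.b)) lc_b_Cert_tree lc_b_rc_26_7 lc_b_Cert_tree lc_b_rc_8_2 lc_b_rc_8_2 lc_b_Cert_tree lc_b_Cert_tree lc_b_rc_1_3 lc_b_rc_8_2 lc_b_rc_8_0 lc_b_Cert_tree lc_b_rc_7_0 lc_b_Cert_tree lc_b_rc_26_5 lc_b_rc_8_2 lc_b_rc_6_1 lc_b_rc_9_2 lc_b_Cert_tree lc_b_rc_9_0 lc_b_rc_1_3 lc_b_rc_8_2 lc_b_rc_9_2 lc_b_rc_9_2 lc_b_rc_7_4 lc_b_Cert_tree lc_b_rc_8_2 lc_b_rc_10_2 lc_b_Cert_tree lc_b_rc_8_2 lc_b_rc_9_2 lc_b_Cert_tree lc_b_rc_6_1 lc_b_rc_8_2 lc_b_rc_9_2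 lc_b_rc_9_2 lc_b_rc_10_2 lc_b_Cert_tree lc_b_rc_6_1 lc_b_rc_1_3 lc_b_rc_8_2 lc_b_rc_9_2 lc_b_rc_9_2 lc_b_Cert_tree lc_b_rc_8_2 lc_b_rc_10_2 lc_b_Cert_tree lc_b_Cert_tree lc_b_Cert_tree lc_b_rc_1_3 lc_b_rc_8_2 lc_b_rc_9_2 lc_b_rc_9_2 lc_b_rc_8_2 lc_b_rc_10_2 lc_b_Cert_tree lc_b_Cert_tree lc_b_rc_1_3 lc_b_rc_8_2 lc_b_rc_9_2 lc_b_rc_26_5 lc_b_rc_8_2 lc_b_rc_10_2) (@D3.rec (fun _ => (Cert rels S Gen.b)) lc_b_rc_6_1 lc_b_rc_26_5 lc_b_rc_8_2 lc_b_rc_9_2 lc_b_rc_6_1 lc_b_rc_8_2 lc_b_rc_9_2 lc_b_rc_9_0 lc_b_rc_1_3 lc_b_Cert_tree lc_b_Cert_tree lc_b_rc_7_4 lc_b_rc_9_2 lc_b_Cert_tree lc_b_rc_8_2 lc_b_Cert_tree lc_b_rc_8_0 lc_b_rc_6_1 lc_b_rc_8_0 lc_b_rc_6_1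 lc_b_rc_8_2 lc_b_rc_6_1 lc_b_rc_8_2 lc_b_rc_9_2 lc_b_rc_26_1 lc_b_Cert_tree lc_b_rc_6_1 lc_b_rc_26_5 lc_b_Cert_tree lc_b_rc_8_2 lc_b_Cert_tree lc_b_rc_9_2 lc_b_rc_6_1 lc_b_rc_8_2 lc_b_rc_9_2 lc_b_Cert_tree lc_b_rc_6_1 lc_b_rc_8_2 lc_b_rc_9_2 lc_b_rc_8_2 lc_b_rc_6_1 lc_b_rc_8_2 lc_b_rc_6_1 lc_b_rc_9_2 lc_b_Cert_tree lc_b_Cert_tree lc_b_rc_1_3 lc_b_rc_8_2 lc_b_rc_9_2 lc_b_rc_9_2 lc_b_Cert_tree lc_b_rc_6_1 lc_b_rc_8_2 lc_b_rc_10_2 lc_b_rc_6_1 lc_b_Cert_tree lc_b_rc_8_2 lc_b_rc_8_2 lc_b_Cert_tree lc_b_rc_8_2 lc_b_Cert_tree lc_b_rc_6_1) (@D3.rec (fun _ => (Cert rels S Gen.b)) lc_b_rc_26_5 lc_b_rc_8_2 lc_b_rc_9_2 lc_b_rc_7_4 lc_b_rc_9_2 lc_b_rc_6_1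 lc_b_Cert_tree lc_b_rc_10_2 lc_b_Cert_tree lc_b_rc_8_2 lc_b_rc_9_2 lc_b_rc_26_7 lc_b_rc_6_1 lc_b_rc_6_1 lc_b_rc_6_1 lc_b_rc_8_2 lc_b_rc_9_0 lc_b_Cert_tree lc_b_rc_6_1 lc_b_rc_8_2 lc_b_rc_6_1 lc_b_rc_8_2 lc_b_rc_6_1 lc_b_rc_26_1 lc_b_rc_6_1 lc_b_rc_26_5 lc_b_rc_9_2 lc_b_rc_9_2 lc_b_rc_7_4 lc_b_rc_9_2 lc_b_Cert_tree lc_b_Cert_tree lc_b_rc_8_2 lc_b_rc_8_2 lc_b_rc_6_1 lc_b_Cert_tree lc_b_rc_7_0 lc_b_rc_26_5 lc_b_rc_6_1 lc_b_Cert_tree lc_b_rc_9_2 lc_b_rc_6_1 lc_b_Cert_tree lc_b_Cert_tree lc_b_rc_26_5 lc_b_rc_10_2 lc_b_rc_6_1 lc_b_Cert_tree lc_b_rc_8_2 lc_b_rc_9_2 lc_b_rc_7_4 lc_b_rc_9_2 lc_b_Cert_tree lc_b_Cert_tree lc_b_rc_8_2 lc_b_rc_10_2 lc_b_Cert_tree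 lc_b_rc_8_2 lc_b_rc_10_2 lc_b_rc_9_0 lc_b_rc_6_1 lc_b_Cert_tree) (@D3.rec (fun _ => (Cert rels S Gen.b)) lc_b_rc_6_1 lc_b_rc_26_5 lc_b_rc_9_2 lc_b_Cert_tree lc_b_Cert_tree lc_b_rc_9_2 lc_b_Cert_tree lc_b_rc_8_2 lc_b_rc_26_5 lc_b_Cert_tree lc_b_rc_9_0 lc_b_rc_1_5 lc_b_rc_6_1 lc_b_rc_6_1 lc_b_rc_8_2 lc_b_rc_9_2 lc_b_Cert_tree lc_b_rc_6_1 lc_b_rc_6_1 lc_b_rc_8_2 lc_b_rc_9_2 lc_b_Cert_tree lc_b_rc_9_2 lc_b_rc_9_2 lc_b_rc_26_5 lc_b_rc_9_2 lc_b_rc_26_1 lc_b_rc_6_1 lc_b_rc_7_2 lc_b_rc_8_2 lc_b_rc_9_2 lc_b_rc_6_1 lc_b_rc_8_2 lc_b_rc_9_2 lc_b_Cert_tree lc_b_rc_9_2 lc_b_rc_1_5 lc_b_rc_8_2 lc_b_rc_10_2 lc_b_Cert_tree lc_b_rc_6_1 lc_b_Cert_tree lc_b_rc_8_0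 lc_b_rc_6_1 lc_b_Cert_tree lc_b_rc_9_2 lc_b_rc_10_2 lc_b_Cert_tree lc_b_rc_8_2 lc_b_Cert_tree lc_b_rc_6_1 lc_b_Cert_tree lc_b_rc_9_2 lc_b_Cert_tree lc_b_rc_8_2 lc_b_Cert_tree lc_b_rc_26_1 lc_b_rc_1_3 lc_b_rc_9_2 lc_b_rc_7_0 lc_b_Cert_tree lc_b_rc_8_2) (@D3.rec (fun _ => (Cert rels S Gen.b)) lc_b_Cert_tree lc_b_rc_9_2 lc_b_rc_8_2 lc_b_rc_6_1 lc_b_rc_9_2 lc_b_rc_10_2 lc_b_rc_10_2 lc_b_Cert_tree lc_b_Cert_tree lc_b_rc_1_3 lc_b_rc_8_2 lc_b_rc_9_2 lc_b_rc_9_2 lc_b_rc_10_2 lc_b_rc_8_2 lc_b_rc_9_0 lc_b_Cert_tree lc_b_rc_9_2 lc_b_rc_6_1 lc_b_rc_8_2 lc_b_rc_9_2 lc_b_rc_6_1 lc_b_rc_8_0 lc_b_rc_10_2 lc_b_rc_9_2 lc_b_rc_6_1 lc_b_rc_9_2 lc_b_rc_8_2 lc_b_rc_6_1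 lc_b_rc_10_2 lc_b_Cert_tree lc_b_Cert_tree lc_b_rc_1_3 lc_b_rc_9_2 lc_b_rc_8_2 lc_b_rc_10_2 lc_b_Cert_tree lc_b_rc_8_2 lc_b_rc_9_2 lc_b_rc_6_1 lc_b_rc_26_1 lc_b_Cert_tree lc_b_rc_10_2 lc_b_Cert_tree lc_b_Cert_tree lc_b_rc_1_3 lc_b_rc_8_2 lc_b_rc_9_2 lc_b_Cert_tree lc_b_Cert_tree lc_b_Cert_tree lc_b_rc_6_1 lc_b_rc_1_3 lc_b_rc_8_2 lc_b_rc_9_2 lc_b_Cert_tree lc_b_Cert_tree lc_b_rc_10_2 lc_b_Cert_tree lc_b_rc_8_2 lc_b_Cert_tree lc_b_Cert_tree) (@D3.rec (fun _ => (Cert rels S Gen.b)) lc_b_rc_1_3 lc_b_rc_8_2 lc_b_rc_9_2 lc_b_rc_7_2 lc_b_rc_9_2 lc_b_Cert_tree lc_b_Cert_tree lc_b_rc_1_3 lc_b_rc_8_2 lc_b_rc_9_2 lc_b_rc_10_2 lc_b_rc_6_1 lc_b_rc_26_1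 lc_b_rc_8_2 lc_b_rc_9_2 lc_b_rc_6_1 lc_b_rc_8_2 lc_b_rc_9_2 lc_b_rc_8_2 lc_b_rc_9_2 lc_b_Cert_tree lc_b_Cert_tree lc_b_rc_6_1 lc_b_rc_9_2 lc_b_Cert_tree lc_b_Cert_tree lc_b_rc_8_2 lc_b_rc_10_2 lc_b_rc_6_1 lc_b_rc_9_2 lc_b_rc_6_1 lc_b_rc_9_2 lc_b_Cert_tree lc_b_Cert_tree lc_b_rc_10_2 lc_b_rc_10_2 lc_b_rc_6_1 lc_b_rc_10_0 lc_b_rc_10_2 lc_b_rc_9_2 lc_b_rc_6_1 lc_b_rc_6_1 lc_b_Cert_tree lc_b_Cert_tree lc_b_Cert_tree lc_b_rc_10_2 lc_b_Cert_tree lc_b_rc_6_1 lc_b_rc_8_2 lc_b_rc_9_2 lc_b_rc_6_1 lc_b_rc_8_2 lc_b_Cert_tree lc_b_rc_9_2 lc_b_rc_6_1 lc_b_Cert_tree lc_b_rc_8_2 lc_b_Cert_tree lc_b_Cert_tree lc_b_rc_6_1 lc_b_rc_8_2 lc_b_rc_1_5) (@D3.rec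 (fun _ => (Cert rels S Gen.b)) lc_b_rc_6_1 lc_b_rc_9_2 lc_b_Cert_tree lc_b_Cert_tree lc_b_rc_1_3 lc_b_rc_8_2 lc_b_rc_9_2 lc_b_rc_7_2 lc_b_rc_1_3 lc_b_rc_8_2 lc_b_rc_9_2 lc_b_Cert_tree lc_b_Cert_tree lc_b_rc_6_1 lc_b_rc_8_2 lc_b_rc_9_2 lc_b_Cert_tree lc_b_rc_9_2 lc_b_rc_8_2 lc_b_rc_26_1 lc_b_rc_7_0 lc_b_Cert_tree lc_b_rc_8_2 lc_b_rc_9_2 lc_b_rc_6_1 lc_b_rc_8_2 lc_b_rc_9_2 lc_b_Cert_tree lc_b_rc_26_5 lc_b_rc_9_0 lc_b_rc_8_2 lc_b_rc_10_2 lc_b_Cert_tree lc_b_rc_9_2 lc_b_rc_26_5 lc_b_rc_8_2 lc_b_rc_1_3 lc_b_rc_6_1 lc_b_rc_10_2 lc_b_rc_9_2 lc_b_rc_6_1 lc_b_rc_26_5 lc_b_rc_9_2 lc_b_rc_10_2 lc_b_rc_8_2 lc_b_rc_9_2 lc_b_rc_9_2 lc_b_rc_6_1 lc_b_rc_26_1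 lc_b_rc_8_2 lc_b_rc_9_2 lc_b_rc_6_1 lc_b_Cert_tree lc_b_rc_9_0 lc_b_Cert_tree lc_b_rc_9_0 lc_b_Cert_tree lc_b_rc_10_2 lc_b_rc_1_5 lc_b_rc_7_4 lc_b_Cert_tree lc_b_rc_25_16) (@D3.rec (fun _ => (Cert rels S Gen.b)) lc_b_rc_26_5 lc_b_rc_7_4 lc_b_rc_8_2 lc_b_rc_8_0 lc_b_Cert_tree lc_b_rc_6_1 lc_b_rc_1_3 lc_b_rc_8_2 lc_b_rc_9_2 lc_b_Cert_tree lc_b_Cert_tree lc_b_Cert_tree lc_b_rc_7_2 lc_b_rc_6_1 lc_b_rc_7_0 lc_b_rc_9_0 lc_b_rc_1_3 lc_b_rc_8_2 lc_b_Cert_tree lc_b_rc_8_0 lc_b_rc_10_2 lc_b_rc_6_1 lc_b_rc_6_1 lc_b_rc_6_1 lc_b_rc_1_3 lc_b_Cert_tree lc_b_Cert_tree lc_b_rc_1_3 lc_b_rc_8_2 lc_b_rc_9_2 lc_b_rc_9_2 lc_b_Cert_tree lc_b_rc_26_7 lc_b_rc_8_2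 lc_b_rc_10_2 lc_b_Cert_tree lc_b_rc_9_2 lc_b_Cert_tree lc_b_rc_9_2 lc_b_Cert_tree lc_b_Cert_tree lc_b_rc_1_3 lc_b_rc_9_2 lc_b_rc_8_2 lc_b_rc_6_1 lc_b_rc_10_2 lc_b_rc_9_2 lc_b_rc_6_1 lc_b_rc_8_2 lc_b_rc_9_2 lc_b_Cert_tree lc_b_Cert_tree lc_b_rc_7_4 lc_b_rc_9_2 lc_b_rc_9_0 lc_b_Cert_tree lc_b_rc_8_2 lc_b_rc_10_2 lc_b_rc_6_1 lc_b_rc_9_2 lc_b_rc_6_1 lc_b_rc_9_2) (@D3.rec (fun _ => (Cert rels S Gen.b)) lc_b_Cert_tree lc_b_rc_10_0 lc_b_rc_8_2 lc_b_rc_6_1 lc_b_rc_6_1 lc_b_rc_9_2 lc_b_rc_9_2 lc_b_rc_6_1 lc_b_rc_6_1 lc_b_rc_9_2 lc_b_rc_26_7 lc_b_rc_8_2 lc_b_Cert_tree lc_b_rc_8_2 lc_b_Cert_tree lc_b_rc_6_1 lc_b_rc_8_2 lc_b_rc_26_5 lc_b_rc_8_2 lc_b_rc_25_8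 lc_b_Cert_tree lc_b_rc_8_2 lc_b_rc_9_2 lc_b_rc_6_1 lc_b_rc_8_2 lc_b_rc_9_2 lc_b_Cert_tree lc_b_rc_10_2 lc_b_rc_6_1 lc_b_rc_10_2 lc_b_rc_7_4 lc_b_rc_8_2 lc_b_rc_6_1 lc_b_rc_9_0 lc_b_rc_8_2 lc_b_rc_9_2 lc_b_Cert_tree lc_b_rc_9_2 lc_b_rc_6_1 lc_b_rc_8_2 lc_b_rc_9_2 lc_b_Cert_tree lc_b_Cert_tree lc_b_rc_8_2 lc_b_Cert_tree lc_b_rc_9_0 lc_b_Cert_tree lc_b_rc_10_2 lc_b_rc_9_2 lc_b_rc_26_7 lc_b_rc_6_1 lc_b_rc_26_5 lc_b_rc_8_0 lc_b_rc_9_2 lc_b_rc_9_0 lc_b_rc_7_0 lc_b_Cert_tree lc_b_rc_6_1 lc_b_rc_8_2 lc_b_Cert_tree lc_b_rc_9_2 lc_b_Cert_tree) (@D3.rec (fun _ => (Cert rels S Gen.b)) lc_b_rc_8_0 lc_b_rc_8_2 lc_b_rc_10_2 lc_b_rc_6_1 lc_b_Cert_tree lc_b_rc_7_4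 lc_b_rc_6_1 lc_b_Cert_tree lc_b_rc_9_2 lc_b_Cert_tree lc_b_Cert_tree lc_b_rc_8_2 lc_b_rc_9_2 lc_b_rc_9_0 lc_b_Cert_tree lc_b_rc_10_2 lc_b_rc_9_0 lc_b_rc_6_1 lc_b_Cert_tree lc_b_rc_9_2 lc_b_Cert_tree lc_b_rc_26_5 lc_b_rc_7_4 lc_b_rc_9_2 lc_b_rc_9_2 lc_b_Cert_tree lc_b_rc_26_7 lc_b_rc_10_2 lc_b_rc_6_1 lc_b_rc_10_2 lc_b_rc_25_16 lc_b_rc_7_4 lc_b_rc_7_2 lc_b_rc_6_1 lc_b_Cert_tree lc_b_rc_6_1 lc_b_rc_26_1 lc_b_rc_26_1 lc_b_rc_6_1 lc_b_rc_8_2 lc_b_rc_26_7 lc_b_rc_6_1 lc_b_rc_7_0 lc_b_Cert_tree lc_b_rc_1_3 lc_b_rc_9_2 lc_b_rc_6_1 lc_b_rc_9_2 lc_b_Cert_tree lc_b_Cert_tree lc_b_rc_7_4 lc_b_rc_8_2 lc_b_Cert_tree lc_b_Cert_tree lc_b_rc_9_2 lc_b_rc_6_1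 lc_b_Cert_tree lc_b_rc_1_3 lc_b_rc_8_2 lc_b_rc_9_2 lc_b_rc_9_2 lc_b_Cert_tree) (@D3.rec (fun _ => (Cert rels S Gen.b)) lc_b_Cert_tree lc_b_rc_8_2 lc_b_rc_10_2 lc_b_Cert_tree lc_b_Cert_tree lc_b_rc_6_1 lc_b_rc_10_2 lc_b_rc_1_3 lc_b_Cert_tree lc_b_Cert_tree lc_b_rc_1_3 lc_b_rc_9_2 lc_b_rc_8_2 lc_b_rc_6_1 lc_b_rc_6_1 lc_b_rc_9_2 lc_b_rc_8_2 lc_b_rc_9_2 lc_b_Cert_tree lc_b_Cert_tree lc_b_rc_7_2 lc_b_rc_9_2 lc_b_Cert_tree lc_b_Cert_tree lc_b_rc_8_2 lc_b_rc_10_2 lc_b_rc_6_1 lc_b_rc_6_1 lc_b_rc_9_2 lc_b_Cert_tree lc_b_Cert_tree lc_b_rc_8_2 lc_b_rc_10_2 lc_b_rc_6_1 lc_b_rc_26_5 lc_b_rc_8_2 lc_b_rc_9_2 lc_b_rc_6_1 lc_b_rc_26_7 lc_b_rc_8_2 lc_b_rc_9_2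 lc_b_Cert_tree lc_b_Cert_tree lc_b_Cert_tree lc_b_rc_10_2 lc_b_Cert_tree lc_b_rc_6_1 lc_b_rc_8_2 lc_b_rc_9_2 lc_b_rc_6_1 lc_b_rc_8_2 lc_b_rc_9_2 lc_b_rc_8_2 lc_b_rc_6_1 lc_b_rc_10_2 lc_b_Cert_tree lc_b_Cert_tree lc_b_rc_6_1 lc_b_rc_26_1 lc_b_rc_9_2 lc_b_rc_8_2 lc_b_rc_9_2) (@D3.rec (fun _ => (Cert rels S Gen.b)) lc_b_rc_1_5 lc_b_rc_9_2 lc_b_Cert_tree lc_b_rc_1_3 lc_b_rc_26_5 lc_b_Cert_tree lc_b_rc_6_1 lc_b_Cert_tree lc_b_rc_9_2 lc_b_rc_6_1 lc_b_Cert_tree lc_b_Cert_tree lc_b_rc_10_2 lc_b_rc_8_2 lc_b_rc_9_2 lc_b_Cert_tree lc_b_rc_6_1 lc_b_Cert_tree lc_b_rc_1_5 lc_b_rc_9_2 lc_b_rc_6_1 lc_b_rc_25_8 lc_b_rc_8_2 lc_b_rc_9_2 lc_b_rc_8_0 lc_b_rc_1_1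 lc_b_rc_7_4 lc_b_rc_8_0 lc_b_rc_8_0 lc_b_rc_9_2 lc_b_rc_6_1 lc_b_rc_8_2 lc_b_rc_1_5 lc_b_rc_8_2 lc_b_rc_9_2 lc_b_Cert_tree lc_b_rc_7_0 lc_b_rc_6_1 lc_b_rc_8_2 lc_b_rc_9_2 lc_b_Cert_tree lc_b_rc_9_2 lc_b_rc_8_0 lc_b_rc_8_2 lc_b_rc_6_1 lc_b_rc_8_2 lc_b_rc_26_5 lc_b_rc_8_0 lc_b_rc_6_1 lc_b_rc_8_2 lc_b_rc_9_2 lc_b_Cert_tree lc_b_rc_9_2 lc_b_rc_8_0 lc_b_rc_8_2 lc_b_rc_8_0 lc_b_rc_26_1 lc_b_rc_8_2 lc_b_rc_9_2 lc_b_rc_6_1 lc_b_rc_6_1 lc_b_Cert_tree) (@D3.rec (fun _ => (Cert rels S Gen.b)) lc_b_Cert_tree lc_b_Cert_tree lc_b_rc_9_2 lc_b_Cert_tree lc_b_rc_7_2 lc_b_rc_8_2 lc_b_rc_10_2 lc_b_rc_6_1 lc_b_Cert_tree lc_b_rc_9_2 lc_b_rc_26_5 lc_b_rc_6_1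 lc_b_rc_9_2 lc_b_Cert_tree lc_b_rc_6_1 lc_b_rc_9_2 lc_b_Cert_tree lc_b_rc_6_1 lc_b_rc_10_2 lc_b_rc_6_1 lc_b_Cert_tree lc_b_Cert_tree lc_b_rc_1_5 lc_b_rc_8_0 lc_b_rc_8_0 lc_b_rc_6_1 lc_b_rc_7_2 lc_b_rc_10_2 lc_b_rc_6_1 lc_b_rc_9_2 lc_b_rc_8_2 lc_b_rc_7_4 lc_b_rc_9_2 lc_b_rc_9_2 lc_b_Cert_tree lc_b_rc_8_2 lc_b_rc_10_2 lc_b_rc_6_1 lc_b_rc_8_2 lc_b_rc_6_1 lc_b_rc_6_1 lc_b_rc_10_2 lc_b_rc_9_0 lc_b_rc_6_1 lc_b_rc_6_1 lc_b_rc_26_5 lc_b_rc_8_2 lc_b_Cert_tree lc_b_rc_1_5 lc_b_rc_6_1 lc_b_rc_8_2 lc_b_rc_25_4 lc_b_rc_7_4 lc_b_rc_1_5 lc_b_rc_6_1 lc_b_Cert_tree lc_b_rc_8_2 lc_b_rc_9_2 lc_b_rc_6_1 lc_b_rc_8_2 lc_b_rc_9_2 lc_b_rc_26_5) (@D3.rec (fun _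 => (Cert rels S Gen.b)) lc_b_rc_9_2 lc_b_rc_8_2 lc_b_rc_9_2 lc_b_Cert_tree lc_b_rc_6_1 lc_b_rc_6_1 lc_b_rc_6_1 lc_b_rc_9_2 lc_b_Cert_tree lc_b_Cert_tree lc_b_rc_8_2 lc_b_rc_10_2 lc_b_rc_6_1 lc_b_rc_25_4 lc_b_rc_26_5 lc_b_rc_6_1 lc_b_Cert_tree lc_b_rc_9_2 lc_b_Cert_tree lc_b_rc_6_1 lc_b_rc_8_2 lc_b_rc_9_2 lc_b_rc_6_1 lc_b_Cert_tree lc_b_rc_9_2 lc_b_rc_6_1 lc_b_rc_8_0 lc_b_rc_1_5 lc_b_rc_10_2 lc_b_rc_7_2 lc_b_rc_8_2 lc_b_rc_9_2 lc_b_rc_1_3 lc_b_rc_8_2 lc_b_rc_26_5 lc_b_rc_7_4 lc_b_rc_8_0 lc_b_rc_9_0 lc_b_rc_7_4 lc_b_rc_25_4 lc_b_rc_8_2 lc_b_rc_26_5 lc_b_rc_6_1 lc_b_rc_10_2 lc_b_rc_9_2 lc_b_rc_6_1 lc_b_rc_8_0 lc_b_rc_9_2 lc_b_rc_10_2 lc_b_rc_8_0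 lc_b_rc_8_0 lc_b_rc_8_2 lc_b_rc_10_2 lc_b_rc_9_2 lc_b_rc_6_1 lc_b_rc_8_2 lc_b_rc_1_3 lc_b_rc_26_7 lc_b_rc_26_5 lc_b_rc_1_1 lc_b_rc_8_2 lc_b_rc_9_2)
def ce_b_11 : D2 → D3 → (Cert rels S Gen.b) := @D2.rec (fun _ => D3 → (Cert rels S Gen.b)) (@D3.rec (fun _ => (Cert rels S Gen.b)) lc_b_rc_10_2 lc_b_Cert_tree lc_b_rc_8_0 lc_b_Cert_tree lc_b_rc_9_2 lc_b_rc_6_1 lc_b_Cert_tree lc_b_rc_8_0 lc_b_rc_8_2 lc_b_rc_10_2 lc_b_rc_9_2 lc_b_Cert_tree lc_b_rc_9_2 lc_b_Cert_tree lc_b_rc_26_7 lc_b_rc_6_1 lc_b_rc_10_0 lc_b_rc_25_4 lc_b_rc_9_0 lc_b_rc_8_2 lc_b_rc_10_2 lc_b_rc_26_1 lc_b_rc_8_0 lc_b_rc_26_1 lc_b_rc_10_2 lc_b_rc_7_4 lc_b_rc_10_2 lc_b_rc_8_2 lc_b_rc_8_0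 lc_b_rc_6_1 lc_b_rc_8_2 lc_b_rc_9_2 lc_b_rc_9_0 lc_b_rc_9_2 lc_b_rc_8_0 lc_b_rc_8_0 lc_b_rc_8_2 lc_b_rc_10_2 lc_b_rc_8_2 lc_b_rc_9_2 lc_b_Cert_tree lc_b_rc_9_2 lc_b_rc_6_1 lc_b_rc_6_1 lc_b_rc_26_5 lc_b_rc_6_1 lc_b_rc_9_0 lc_b_rc_26_7 lc_b_rc_1_1 lc_b_rc_26_1 lc_b_rc_8_0 lc_b_rc_9_2 lc_b_rc_6_1 lc_b_rc_8_2 lc_b_rc_9_2 lc_b_rc_10_2 lc_b_Cert_tree lc_b_rc_26_1 lc_b_rc_1_3 lc_b_rc_6_1 lc_b_Cert_tree lc_b_rc_6_1) (@D3.rec (fun _ => (Cert rels S Gen.b)) lc_b_rc_8_2 lc_b_rc_26_7 lc_b_rc_6_1 lc_b_rc_8_2 lc_b_rc_6_1 lc_b_rc_1_5 lc_b_rc_8_2 lc_b_rc_1_5 lc_b_rc_8_2 lc_b_rc_10_2 lc_b_Cert_tree lc_b_rc_7_4 lc_b_rc_9_2 lc_b_Cert_tree lc_b_Cert_tree lc_b_rc_8_2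 lc_b_rc_10_2 lc_b_rc_6_1 lc_b_Cert_tree lc_b_rc_8_2 lc_b_rc_9_2 lc_b_rc_7_2 lc_b_rc_9_2 lc_b_rc_6_1 lc_b_Cert_tree lc_b_rc_8_2 lc_b_rc_9_2 lc_b_rc_6_1 lc_b_Cert_tree lc_b_rc_8_2 lc_b_rc_8_2 lc_b_rc_26_7 lc_b_rc_9_0 lc_b_Cert_tree lc_b_rc_6_1 lc_b_Cert_tree lc_b_rc_10_2 lc_b_rc_8_2 lc_b_rc_1_1 lc_b_rc_6_1 lc_b_Cert_tree lc_b_rc_8_2 lc_b_rc_9_2 lc_b_rc_7_0 lc_b_rc_8_2 lc_b_rc_8_2 lc_b_rc_10_2 lc_b_rc_8_0 lc_b_rc_1_1 lc_b_rc_1_5 lc_b_rc_9_2 lc_b_Cert_tree lc_b_rc_26_1 lc_b_rc_6_1 lc_b_rc_8_2 lc_b_rc_26_5 lc_b_rc_8_0 lc_b_rc_1_1 lc_b_rc_9_0 lc_b_rc_9_2 lc_b_rc_8_0 lc_b_rc_26_1) (@D3.rec (fun _ => (Cert rels S Gen.b)) lc_b_rc_8_2 lc_b_rc_7_4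 lc_b_rc_8_2 lc_b_rc_9_2 lc_b_rc_9_2 lc_b_rc_8_2 lc_b_rc_7_2 lc_b_rc_8_2 lc_b_rc_9_2 lc_b_rc_8_0 lc_b_rc_8_2 lc_b_rc_6_1 lc_b_rc_6_1 lc_b_rc_8_2 lc_b_rc_6_1 lc_b_rc_8_2 lc_b_rc_9_2 lc_b_rc_9_2 lc_b_Cert_tree lc_b_rc_9_2 lc_b_rc_8_2 lc_b_rc_6_1 lc_b_rc_6_1 lc_b_rc_6_1 lc_b_rc_6_1 lc_b_rc_9_2 lc_b_rc_8_2 lc_b_Cert_tree lc_b_rc_9_2 lc_b_rc_8_2 lc_b_rc_6_1 lc_b_rc_26_7 lc_b_rc_9_2 lc_b_rc_6_1 lc_b_rc_9_2 lc_b_rc_6_1 lc_b_Cert_tree lc_b_rc_1_3 lc_b_rc_9_2 lc_b_rc_7_2 lc_b_Cert_tree lc_b_rc_9_0 lc_b_Cert_tree lc_b_rc_8_2 lc_b_rc_8_2 lc_b_rc_26_5 lc_b_Cert_tree lc_b_rc_1_3 lc_b_rc_8_2 lc_b_rc_8_0 lc_b_rc_8_0 lc_b_rc_26_1 lc_b_rc_8_0 lc_b_Cert_tree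 lc_b_rc_8_0 lc_b_rc_9_2 lc_b_rc_26_5 lc_b_rc_26_1 lc_b_rc_10_2 lc_b_Cert_tree lc_b_rc_8_0 lc_b_rc_1_3) (@D3.rec (fun _ => (Cert rels S Gen.b)) lc_b_rc_8_2 lc_b_rc_9_2 lc_b_rc_9_2 lc_b_Cert_tree lc_b_Cert_tree lc_b_rc_8_2 lc_b_rc_10_2 lc_b_Cert_tree lc_b_rc_9_2 lc_b_rc_8_2 lc_b_rc_7_4 lc_b_rc_6_1 lc_b_rc_9_2 lc_b_rc_6_1 lc_b_rc_10_2 lc_b_Cert_tree lc_b_rc_26_1 lc_b_rc_1_3 lc_b_rc_8_2 lc_b_rc_9_2 lc_b_rc_9_2 lc_b_rc_9_0 lc_b_rc_8_2 lc_b_rc_10_2 lc_b_Cert_tree lc_b_Cert_tree lc_b_rc_26_5 lc_b_rc_1_3 lc_b_rc_7_4 lc_b_rc_8_2 lc_b_rc_9_2 lc_b_rc_9_2 lc_b_rc_8_2 lc_b_rc_10_2 lc_b_Cert_tree lc_b_rc_26_5 lc_b_rc_1_3 lc_b_rc_8_2 lc_b_rc_9_2 lc_b_rc_9_2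 lc_b_rc_8_2 lc_b_rc_26_5 lc_b_rc_8_2 lc_b_rc_9_2 lc_b_rc_6_1 lc_b_rc_8_2 lc_b_rc_9_2 lc_b_rc_8_2 lc_b_rc_10_2 lc_b_rc_9_2 lc_b_rc_8_2 lc_b_rc_8_0 lc_b_rc_8_2 lc_b_rc_6_1 lc_b_rc_9_2 lc_b_rc_6_1 lc_b_rc_7_0 lc_b_rc_6_1 lc_b_rc_10_0 lc_b_rc_8_0 lc_b_Cert_tree lc_b_rc_1_5) (@D3.rec (fun _ => (Cert rels S Gen.b)) lc_b_rc_10_2 lc_b_rc_6_1 lc_b_rc_9_2 lc_b_rc_6_1 lc_b_rc_7_0 lc_b_rc_9_2 lc_b_rc_26_5 lc_b_Cert_tree lc_b_rc_26_5 lc_b_rc_8_2 lc_b_Cert_tree lc_b_rc_9_2 lc_b_Cert_tree lc_b_rc_6_1 lc_b_Cert_tree lc_b_rc_9_2 lc_b_rc_6_1 lc_b_rc_8_2 lc_b_rc_9_2 lc_b_rc_9_0 lc_b_rc_8_2 lc_b_rc_6_1 lc_b_Cert_tree lc_b_rc_9_2 lc_b_rc_6_1 lc_b_Cert_tree lc_b_Cert_tree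 lc_b_Cert_tree lc_b_rc_8_2 lc_b_rc_9_2 lc_b_rc_9_2 lc_b_rc_6_1 lc_b_rc_8_2 lc_b_rc_9_2 lc_b_rc_8_2 lc_b_rc_6_1 lc_b_rc_8_2 lc_b_Cert_tree lc_b_Cert_tree lc_b_rc_1_5 lc_b_rc_9_2 lc_b_rc_9_2 lc_b_Cert_tree lc_b_Cert_tree lc_b_rc_8_2 lc_b_rc_7_2 lc_b_rc_6_1 lc_b_Cert_tree lc_b_rc_8_2 lc_b_rc_8_2 lc_b_rc_6_1 lc_b_rc_26_5 lc_b_rc_8_2 lc_b_rc_6_1 lc_b_rc_6_1 lc_b_Cert_tree lc_b_rc_8_0 lc_b_rc_6_1 lc_b_rc_8_2 lc_b_rc_6_1 lc_b_rc_8_2 lc_b_rc_7_4) (@D3.rec (fun _ => (Cert rels S Gen.b)) lc_b_rc_6_1 lc_b_rc_8_2 lc_b_rc_9_2 lc_b_rc_26_5 lc_b_rc_1_3 lc_b_rc_6_1 lc_b_rc_9_2 lc_b_Cert_tree lc_b_Cert_tree lc_b_rc_7_4 lc_b_rc_8_2 lc_b_rc_9_2 lc_b_rc_9_2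 lc_b_Cert_tree lc_b_Cert_tree lc_b_rc_8_2 lc_b_rc_10_2 lc_b_Cert_tree lc_b_rc_6_1 lc_b_Cert_tree lc_b_rc_6_1 lc_b_Cert_tree lc_b_rc_6_1 lc_b_rc_26_5 lc_b_rc_9_2 lc_b_rc_9_2 lc_b_Cert_tree lc_b_Cert_tree lc_b_rc_8_2 lc_b_rc_10_2 lc_b_rc_6_1 lc_b_rc_7_0 lc_b_rc_8_0 lc_b_rc_10_2 lc_b_rc_6_1 lc_b_rc_6_1 lc_b_rc_8_2 lc_b_rc_9_2 lc_b_Cert_tree lc_b_rc_6_1 lc_b_rc_6_1 lc_b_rc_8_2 lc_b_rc_9_2 lc_b_Cert_tree lc_b_rc_8_2 lc_b_rc_8_2 lc_b_rc_1_5 lc_b_rc_10_2 lc_b_rc_8_2 lc_b_rc_9_2 lc_b_rc_6_1 lc_b_rc_8_2 lc_b_rc_9_2 lc_b_Cert_tree lc_b_rc_6_1 lc_b_rc_9_2 lc_b_rc_6_1 lc_b_rc_9_2 lc_b_rc_7_4 lc_b_Cert_tree lc_b_Cert_tree lc_b_rc_9_2) (@D3.rec (fun _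 => (Cert rels S Gen.b)) lc_b_Cert_tree lc_b_rc_8_2 lc_b_rc_7_4 lc_b_Cert_tree lc_b_rc_8_0 lc_b_rc_8_2 lc_b_rc_7_4 lc_b_rc_9_2 lc_b_rc_6_1 lc_b_rc_6_1 lc_b_rc_6_1 lc_b_rc_7_2 lc_b_rc_9_2 lc_b_rc_7_4 lc_b_Cert_tree lc_b_Cert_tree lc_b_rc_9_2 lc_b_rc_26_1 lc_b_rc_8_2 lc_b_rc_9_2 lc_b_rc_8_2 lc_b_rc_9_2 lc_b_rc_10_2 lc_b_rc_10_2 lc_b_rc_10_2 lc_b_rc_6_1 lc_b_Cert_tree lc_b_rc_8_0 lc_b_rc_8_2 lc_b_rc_9_2 lc_b_rc_26_5 lc_b_Cert_tree lc_b_rc_10_2 lc_b_rc_6_1 lc_b_rc_1_3 lc_b_rc_9_2 lc_b_rc_10_2 lc_b_rc_9_2 lc_b_rc_9_2 lc_b_rc_8_2 lc_b_Cert_tree lc_b_rc_10_2 lc_b_rc_6_1 lc_b_rc_7_4 lc_b_rc_8_2 lc_b_rc_9_2 lc_b_rc_26_1 lc_b_rc_9_2 lc_b_rc_9_2 lc_b_rc_6_1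 lc_b_rc_6_1 lc_b_Cert_tree lc_b_rc_9_2 lc_b_rc_9_0 lc_b_rc_9_2 lc_b_rc_6_1 lc_b_rc_26_5 lc_b_rc_9_2 lc_b_Cert_tree lc_b_Cert_tree lc_b_rc_10_2 lc_b_rc_6_1) (@D3.rec (fun _ => (Cert rels S Gen.b)) lc_b_rc_7_0 lc_b_rc_6_1 lc_b_rc_9_2 lc_b_rc_10_2 lc_b_rc_1_3 lc_b_rc_6_1 lc_b_rc_9_2 lc_b_rc_9_2 lc_b_rc_9_2 lc_b_Cert_tree lc_b_Cert_tree lc_b_rc_6_1 lc_b_rc_26_5 lc_b_rc_26_1 lc_b_rc_9_0 lc_b_rc_10_2 lc_b_rc_9_2 lc_b_rc_8_2 lc_b_rc_9_2 lc_b_rc_9_2 lc_b_rc_6_1 lc_b_rc_8_2 lc_b_rc_9_2 lc_b_rc_10_2 lc_b_rc_6_1 lc_b_rc_8_2 lc_b_rc_26_1 lc_b_Cert_tree lc_b_rc_6_1 lc_b_rc_6_1 lc_b_rc_26_5 lc_b_rc_26_1 lc_b_rc_9_2 lc_b_rc_26_5 lc_b_rc_6_1 lc_b_rc_8_2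 lc_b_rc_9_2 lc_b_rc_1_1 lc_b_rc_10_2 lc_b_rc_26_5 lc_b_rc_9_2 lc_b_rc_6_1 lc_b_rc_8_2 lc_b_rc_9_2 lc_b_rc_6_1 lc_b_rc_8_2 lc_b_rc_9_2 lc_b_rc_8_2 lc_b_rc_9_2 lc_b_Cert_tree lc_b_rc_10_2 lc_b_Cert_tree lc_b_rc_9_2 lc_b_rc_8_2 lc_b_rc_6_1 lc_b_rc_26_7 lc_b_rc_8_2 lc_b_rc_9_2 lc_b_rc_6_1 lc_b_Cert_tree lc_b_rc_8_2 lc_b_rc_9_2) (@D3.rec (fun _ => (Cert rels S Gen.b)) lc_b_rc_26_5 lc_b_rc_9_0 lc_b_rc_8_2 lc_b_rc_8_2 lc_b_Cert_tree lc_b_rc_6_1 lc_b_rc_7_2 lc_b_rc_6_1 lc_b_rc_8_2 lc_b_Cert_tree lc_b_Cert_tree lc_b_Cert_tree lc_b_rc_6_1 lc_b_rc_8_2 lc_b_rc_7_4 lc_b_rc_9_2 lc_b_rc_8_2 lc_b_rc_9_2 lc_b_rc_7_0 lc_b_rc_8_0 lc_b_rc_1_3 lc_b_rc_1_3 lc_b_rc_8_2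 lc_b_rc_6_1 lc_b_rc_8_2 lc_b_rc_9_2 lc_b_rc_26_5 lc_b_rc_26_5 lc_b_Cert_tree lc_b_rc_8_2 lc_b_rc_7_2 lc_b_Cert_tree lc_b_rc_26_7 lc_b_rc_10_2 lc_b_rc_1_3 lc_b_rc_10_2 lc_b_rc_6_1 lc_b_rc_8_2 lc_b_rc_8_2 lc_b_Cert_tree lc_b_Cert_tree lc_b_rc_9_2 lc_b_rc_9_2 lc_b_Cert_tree lc_b_Cert_tree lc_b_rc_8_2 lc_b_rc_10_2 lc_b_rc_26_5 lc_b_rc_26_1 lc_b_rc_10_2 lc_b_rc_1_3 lc_b_rc_9_2 lc_b_Cert_tree lc_b_Cert_tree lc_b_rc_8_2 lc_b_rc_10_2 lc_b_Cert_tree lc_b_rc_8_2 lc_b_Cert_tree lc_b_rc_9_0 lc_b_rc_1_3 lc_b_rc_9_2) (@D3.rec (fun _ => (Cert rels S Gen.b)) lc_b_rc_8_2 lc_b_rc_10_2 lc_b_Cert_tree lc_b_Cert_tree lc_b_rc_1_3 lc_b_rc_9_2 lc_b_rc_8_2 lc_b_rc_10_2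 lc_b_rc_6_1 lc_b_Cert_tree lc_b_rc_9_2 lc_b_rc_6_1 lc_b_rc_9_2 lc_b_rc_1_3 lc_b_Cert_tree lc_b_Cert_tree lc_b_rc_10_2 lc_b_rc_6_1 lc_b_rc_8_2 lc_b_rc_9_2 lc_b_rc_6_1 lc_b_rc_8_2 lc_b_rc_26_5 lc_b_rc_9_2 lc_b_rc_7_4 lc_b_rc_9_0 lc_b_Cert_tree lc_b_rc_9_2 lc_b_rc_6_1 lc_b_rc_8_2 lc_b_rc_9_2 lc_b_rc_6_1 lc_b_rc_8_2 lc_b_Cert_tree lc_b_rc_9_2 lc_b_rc_6_1 lc_b_Cert_tree lc_b_rc_8_2 lc_b_Cert_tree lc_b_Cert_tree lc_b_rc_6_1 lc_b_rc_8_2 lc_b_rc_7_2 lc_b_Cert_tree lc_b_Cert_tree lc_b_rc_1_3 lc_b_rc_8_2 lc_b_rc_9_2 lc_b_rc_8_2 lc_b_rc_9_2 lc_b_Cert_tree lc_b_rc_6_1 lc_b_rc_6_1 lc_b_rc_8_2 lc_b_rc_9_2 lc_b_rc_25_4 lc_b_rc_26_5 lc_b_rc_9_0 lc_b_rc_10_0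 lc_b_rc_10_2 lc_b_rc_26_1 lc_b_rc_6_1) (@D3.rec (fun _ => (Cert rels S Gen.b)) lc_b_rc_7_2 lc_b_rc_8_2 lc_b_rc_9_2 lc_b_rc_26_1 lc_b_rc_9_2 lc_b_Cert_tree lc_b_rc_9_2 lc_b_rc_8_2 lc_b_rc_8_2 lc_b_rc_10_2 lc_b_Cert_tree lc_b_rc_9_0 lc_b_rc_9_0 lc_b_rc_10_2 lc_b_rc_6_1 lc_b_Cert_tree lc_b_rc_9_0 lc_b_rc_8_2 lc_b_rc_6_1 lc_b_rc_26_5 lc_b_rc_8_2 lc_b_Cert_tree lc_b_rc_10_2 lc_b_rc_6_1 lc_b_rc_6_1 lc_b_rc_6_1 lc_b_rc_10_2 lc_b_Cert_tree lc_b_Cert_tree lc_b_rc_10_0 lc_b_rc_7_2 lc_b_rc_6_1 lc_b_rc_8_2 lc_b_rc_9_2 lc_b_rc_10_2 lc_b_Cert_tree lc_b_rc_10_0 lc_b_rc_8_2 lc_b_rc_9_2 lc_b_Cert_tree lc_b_rc_26_1 lc_b_rc_9_2 lc_b_rc_8_2 lc_b_rc_10_2 lc_b_rc_8_2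 lc_b_rc_10_2 lc_b_rc_25_12 lc_b_rc_26_5 lc_b_rc_8_2 lc_b_Cert_tree lc_b_rc_9_2 lc_b_rc_6_1 lc_b_rc_9_2 lc_b_rc_6_1 lc_b_rc_9_2 lc_b_rc_26_5 lc_b_Cert_tree lc_b_rc_9_2 lc_b_rc_6_1 lc_b_rc_7_2 lc_b_rc_9_2 lc_b_rc_6_1) (@D3.rec (fun _ => (Cert rels S Gen.b)) lc_b_rc_9_2 lc_b_rc_6_1 lc_b_rc_9_2 lc_b_rc_6_1 lc_b_rc_9_2 lc_b_rc_9_2 lc_b_rc_10_2 lc_b_rc_1_5 lc_b_rc_26_1 lc_b_rc_26_1 lc_b_rc_6_1 lc_b_rc_1_1 lc_b_rc_9_2 lc_b_rc_6_1 lc_b_rc_8_0 lc_b_rc_9_2 lc_b_rc_10_2 lc_b_rc_9_2 lc_b_rc_8_2 lc_b_rc_9_2 lc_b_rc_6_1 lc_b_rc_1_3 lc_b_rc_9_2 lc_b_Cert_tree lc_b_rc_10_2 lc_b_rc_8_2 lc_b_rc_9_2 lc_b_Cert_tree lc_b_rc_6_1 lc_b_rc_8_2 lc_b_rc_9_2 lc_b_rc_8_0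 lc_b_rc_10_2 lc_b_Cert_tree lc_b_rc_9_2 lc_b_rc_6_1 lc_b_rc_8_2 lc_b_rc_9_2 lc_b_rc_10_2 lc_b_rc_10_2 lc_b_rc_6_1 lc_b_rc_8_2 lc_b_rc_9_2 lc_b_rc_6_1 lc_b_rc_6_1 lc_b_rc_26_1 lc_b_Cert_tree lc_b_rc_9_2 lc_b_rc_8_2 lc_b_rc_6_1 lc_b_rc_8_2 lc_b_rc_6_1 lc_b_rc_26_1 lc_b_rc_9_2 lc_b_Cert_tree lc_b_rc_8_2 lc_b_rc_9_2 lc_b_Cert_tree lc_b_Cert_tree lc_b_rc_10_2 lc_b_rc_9_2 lc_b_rc_9_0) (@D3.rec (fun _ => (Cert rels S Gen.b)) lc_b_rc_9_2 lc_b_Cert_tree lc_b_Cert_tree lc_b_rc_10_2 lc_b_rc_6_1 lc_b_rc_9_2 lc_b_rc_6_1 lc_b_rc_10_0 lc_b_rc_7_4 lc_b_rc_8_2 lc_b_rc_26_5 lc_b_rc_25_4 lc_b_rc_6_1 lc_b_rc_9_0 lc_b_rc_8_2 lc_b_rc_6_1 lc_b_rc_9_0 lc_b_Cert_tree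 lc_b_Cert_tree lc_b_rc_6_1 lc_b_rc_10_2 lc_b_rc_9_2 lc_b_rc_6_1 lc_b_rc_26_5 lc_b_rc_1_1 lc_b_rc_10_2 lc_b_rc_6_1 lc_b_rc_9_2 lc_b_Cert_tree lc_b_Cert_tree lc_b_rc_1_3 lc_b_rc_6_1 lc_b_rc_6_1 lc_b_Cert_tree lc_b_rc_9_2 lc_b_rc_9_2 lc_b_rc_10_2 lc_b_rc_26_7 lc_b_rc_8_2 lc_b_rc_10_2 lc_b_rc_6_1 lc_b_rc_6_1 lc_b_rc_10_2 lc_b_rc_26_7 lc_b_rc_1_3 lc_b_rc_6_1 lc_b_Cert_tree lc_b_rc_8_2 lc_b_rc_6_1 lc_b_rc_8_2 lc_b_rc_6_1 lc_b_rc_6_1 lc_b_rc_9_2 lc_b_rc_8_2 lc_b_rc_8_2 lc_b_rc_8_2 lc_b_rc_26_7 lc_b_rc_7_4 lc_b_rc_8_2 lc_b_rc_7_0 lc_b_rc_10_2 lc_b_rc_8_0) (@D3.rec (fun _ => (Cert rels S Gen.b)) lc_b_rc_9_2 lc_b_rc_8_2 lc_b_rc_10_2 lc_b_Cert_tree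 lc_b_rc_7_2 lc_b_Cert_tree lc_b_rc_9_2 lc_b_Cert_tree lc_b_rc_9_2 lc_b_rc_6_1 lc_b_rc_8_2 lc_b_rc_9_2 lc_b_rc_8_2 lc_b_Cert_tree lc_b_rc_8_2 lc_b_rc_6_1 lc_b_rc_8_2 lc_b_rc_7_2 lc_b_rc_9_2 lc_b_rc_7_0 lc_b_rc_10_2 lc_b_rc_8_2 lc_b_rc_1_5 lc_b_rc_10_2 lc_b_rc_9_2 lc_b_rc_8_2 lc_b_rc_8_2 lc_b_rc_8_2 lc_b_rc_8_0 lc_b_rc_6_1 lc_b_Cert_tree lc_b_rc_8_2 lc_b_rc_1_3 lc_b_rc_9_2 lc_b_Cert_tree lc_b_rc_6_1 lc_b_rc_8_2 lc_b_rc_9_2 lc_b_rc_26_7 lc_b_rc_8_2 lc_b_rc_10_2 lc_b_rc_8_2 lc_b_rc_10_2 lc_b_Cert_tree lc_b_rc_6_1 lc_b_rc_26_7 lc_b_rc_8_2 lc_b_rc_6_1 lc_b_rc_10_2 lc_b_Cert_tree lc_b_rc_9_2 lc_b_rc_6_1 lc_b_rc_1_5 lc_b_rc_26_7 lc_b_rc_1_5 lc_b_rc_6_1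 lc_b_rc_10_2 lc_b_rc_6_1 lc_b_rc_8_2 lc_b_rc_9_2 lc_b_rc_6_1 lc_b_rc_8_2) (@D3.rec (fun _ => (Cert rels S Gen.b)) lc_b_rc_26_5 lc_b_rc_8_2 lc_b_rc_9_0 lc_b_Cert_tree lc_b_rc_9_2 lc_b_rc_9_0 lc_b_Cert_tree lc_b_rc_8_2 lc_b_rc_7_4 lc_b_rc_9_0 lc_b_rc_6_1 lc_b_rc_26_7 lc_b_rc_26_1 lc_b_rc_9_2 lc_b_rc_9_0 lc_b_Cert_tree lc_b_rc_10_2 lc_b_rc_26_7 lc_b_rc_26_1 lc_b_rc_9_2 lc_b_rc_6_1 lc_b_rc_8_2 lc_b_rc_9_2 lc_b_rc_25_4 lc_b_rc_26_5 lc_b_rc_10_2 lc_b_rc_6_1 lc_b_rc_6_1 lc_b_rc_9_2 lc_b_Cert_tree lc_b_rc_9_2 lc_b_rc_8_2 lc_b_rc_9_2 lc_b_rc_9_2 lc_b_rc_9_0 lc_b_rc_10_2 lc_b_rc_6_1 lc_b_rc_9_0 lc_b_rc_8_2 lc_b_rc_10_2 lc_b_rc_9_2 lc_b_rc_26_5 lc_b_rc_1_1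 lc_b_rc_8_0 lc_b_rc_8_2 lc_b_rc_9_2 lc_b_rc_6_1 lc_b_rc_8_2 lc_b_rc_8_2 lc_b_rc_6_1 lc_b_rc_9_2 lc_b_Cert_tree lc_b_Cert_tree lc_b_rc_6_1 lc_b_rc_7_0 lc_b_rc_9_2 lc_b_rc_6_1 lc_b_rc_6_1 lc_b_rc_6_1 lc_b_Cert_tree lc_b_rc_10_2 lc_b_rc_8_2) (@D3.rec (fun _ => (Cert rels S Gen.b)) lc_b_rc_10_2 lc_b_rc_10_2 lc_b_rc_8_0 lc_b_rc_10_2 lc_b_rc_10_0 lc_b_rc_8_2 lc_b_Cert_tree lc_b_rc_10_2 lc_b_rc_9_0 lc_b_rc_6_1 lc_b_rc_8_2 lc_b_rc_9_2 lc_b_rc_9_2 lc_b_Cert_tree lc_b_rc_9_2 lc_b_rc_6_1 lc_b_rc_6_1 lc_b_rc_26_5 lc_b_rc_10_2 lc_b_rc_6_1 lc_b_rc_6_1 lc_b_rc_8_2 lc_b_rc_9_2 lc_b_rc_1_5 lc_b_Cert_tree lc_b_rc_9_2 lc_b_rc_1_3 lc_b_Cert_tree lc_b_rc_8_2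 lc_b_rc_8_2 lc_b_Cert_tree lc_b_rc_9_2 lc_b_Cert_tree lc_b_rc_9_2 lc_b_rc_6_1 lc_b_Cert_tree lc_b_rc_9_2 lc_b_Cert_tree lc_b_rc_8_0 lc_b_Cert_tree lc_b_Cert_tree lc_b_rc_6_1 lc_b_rc_8_2 lc_b_rc_9_2 lc_b_rc_6_1 lc_b_Cert_tree lc_b_rc_10_2 lc_b_rc_7_2 lc_b_Cert_tree lc_b_Cert_tree lc_b_rc_6_1 lc_b_rc_8_2 lc_b_rc_9_2 lc_b_rc_1_1 lc_b_rc_10_2 lc_b_rc_6_1 lc_b_rc_8_2 lc_b_rc_26_7 lc_b_rc_10_2 lc_b_rc_6_1 lc_b_rc_8_2 lc_b_rc_10_2) (@D3.rec (fun _ => (Cert rels S Gen.b)) lc_b_rc_6_1 lc_b_rc_8_2 lc_b_rc_9_2 lc_b_rc_7_2 lc_b_Cert_tree lc_b_Cert_tree lc_b_rc_9_2 lc_b_rc_26_5 lc_b_rc_26_5 lc_b_rc_10_2 lc_b_Cert_tree lc_b_rc_6_1 lc_b_Cert_tree lc_b_rc_8_2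 lc_b_rc_9_2 lc_b_Cert_tree lc_b_Cert_tree lc_b_rc_10_2 lc_b_rc_7_4 lc_b_rc_6_1 lc_b_rc_8_2 lc_b_rc_6_1 lc_b_rc_1_5 lc_b_rc_1_3 lc_b_rc_9_0 lc_b_rc_7_4 lc_b_rc_6_1 lc_b_Cert_tree lc_b_rc_6_1 lc_b_rc_10_2 lc_b_rc_1_3 lc_b_rc_9_2 lc_b_rc_6_1 lc_b_rc_9_2 lc_b_rc_6_1 lc_b_rc_6_1 lc_b_rc_9_2 lc_b_rc_10_2 lc_b_Cert_tree lc_b_rc_9_2 lc_b_rc_7_4 lc_b_rc_6_1 lc_b_rc_1_3 lc_b_rc_9_2 lc_b_rc_8_2 lc_b_rc_9_2 lc_b_rc_8_2 lc_b_rc_9_2 lc_b_Cert_tree lc_b_rc_9_2 lc_b_rc_6_1 lc_b_rc_1_5 lc_b_Cert_tree lc_b_rc_10_2 lc_b_rc_9_2 lc_b_rc_6_1 lc_b_rc_8_2 lc_b_rc_10_0 lc_b_rc_26_1 lc_b_rc_26_5 lc_b_rc_10_2 lc_b_rc_6_1) (@D3.rec (fun _ => (Cert rels S Gen.b)) lc_b_rc_8_2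 lc_b_rc_9_2 lc_b_rc_6_1 lc_b_rc_8_2 lc_b_rc_10_0 lc_b_rc_9_2 lc_b_Cert_tree lc_b_Cert_tree lc_b_rc_9_2 lc_b_rc_9_0 lc_b_rc_10_2 lc_b_rc_8_2 lc_b_rc_7_4 lc_b_rc_9_2 lc_b_rc_8_0 lc_b_rc_8_2 lc_b_rc_8_2 lc_b_rc_9_2 lc_b_rc_9_2 lc_b_rc_26_1 lc_b_rc_6_1 lc_b_rc_8_2 lc_b_rc_9_2 lc_b_rc_10_2 lc_b_rc_9_0 lc_b_rc_8_2 lc_b_rc_10_2 lc_b_rc_8_2 lc_b_rc_26_1 lc_b_rc_9_2 lc_b_rc_10_0 lc_b_rc_10_0 lc_b_rc_8_2 lc_b_rc_10_2 lc_b_Cert_tree lc_b_rc_8_0 lc_b_rc_8_2 lc_b_rc_8_2 lc_b_rc_9_2 lc_b_rc_1_5 lc_b_rc_1_5 lc_b_Cert_tree lc_b_rc_8_2 lc_b_rc_10_2 lc_b_Cert_tree lc_b_rc_8_2 lc_b_rc_8_2 lc_b_rc_1_1 lc_b_rc_9_2 lc_b_rc_10_2 lc_b_rc_26_1 lc_b_rc_9_2 lc_b_rc_8_0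 lc_b_rc_9_2 lc_b_rc_7_2 lc_b_rc_26_5 lc_b_rc_6_1 lc_b_rc_1_5 lc_b_rc_9_2 lc_b_rc_6_1 lc_b_rc_1_1 lc_b_rc_9_2) (@D3.rec (fun _ => (Cert rels S Gen.b)) lc_b_rc_7_4 lc_b_rc_6_1 lc_b_rc_10_2 lc_b_rc_9_2 lc_b_rc_6_1 lc_b_rc_10_2 lc_b_rc_7_4 lc_b_Cert_tree lc_b_Cert_tree lc_b_rc_1_3 lc_b_rc_8_2 lc_b_rc_9_2 lc_b_rc_6_1 lc_b_rc_7_4 lc_b_rc_9_2 lc_b_Cert_tree lc_b_Cert_tree lc_b_rc_8_2 lc_b_rc_10_2 lc_b_rc_6_1 lc_b_rc_9_0 lc_b_rc_8_2 lc_b_rc_9_2 lc_b_rc_6_1 lc_b_rc_26_7 lc_b_rc_1_1 lc_b_rc_10_0 lc_b_rc_9_0 lc_b_rc_8_0 lc_b_rc_8_2 lc_b_rc_6_1 lc_b_rc_9_2 lc_b_rc_6_1 lc_b_rc_9_2 lc_b_rc_9_2 lc_b_Cert_tree lc_b_Cert_tree lc_b_Cert_tree lc_b_rc_26_5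 lc_b_rc_26_7 lc_b_rc_9_0 lc_b_Cert_tree lc_b_rc_8_2 lc_b_rc_8_2 lc_b_rc_10_2 lc_b_rc_8_2 lc_b_rc_9_2 lc_b_rc_9_2 lc_b_Cert_tree lc_b_rc_10_2 lc_b_Cert_tree lc_b_rc_26_5 lc_b_rc_1_3 lc_b_rc_8_2 lc_b_rc_9_2 lc_b_rc_26_7 lc_b_rc_25_16 lc_b_rc_25_0 lc_b_Cert_tree lc_b_rc_1_1 lc_b_rc_26_5 lc_b_rc_6_1) (@D3.rec (fun _ => (Cert rels S Gen.b)) lc_b_Cert_tree lc_b_rc_10_0 lc_b_rc_6_1 lc_b_rc_8_2 lc_b_rc_9_2 lc_b_rc_9_2 lc_b_Cert_tree lc_b_rc_10_2 lc_b_rc_6_1 lc_b_Cert_tree lc_b_rc_9_0 lc_b_rc_7_2 lc_b_rc_9_2 lc_b_rc_8_2 lc_b_rc_9_2 lc_b_rc_26_5 lc_b_rc_7_0 lc_b_rc_6_1 lc_b_rc_26_1 lc_b_rc_7_0 lc_b_rc_26_5 lc_b_rc_26_5 lc_b_rc_8_2 lc_b_rc_9_2 lc_b_rc_1_1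 lc_b_Cert_tree lc_b_rc_9_2 lc_b_Cert_tree lc_b_Cert_tree lc_b_rc_8_2 lc_b_rc_10_2 lc_b_rc_6_1 lc_b_rc_9_2 lc_b_rc_8_2 lc_b_rc_6_1 lc_b_rc_9_2 lc_b_rc_1_5 lc_b_rc_9_2 lc_b_rc_10_2 lc_b_rc_6_1 lc_b_Cert_tree lc_b_rc_8_2 lc_b_rc_26_7 lc_b_rc_6_1 lc_b_rc_26_7 lc_b_rc_9_0 lc_b_rc_8_0 lc_b_Cert_tree lc_b_rc_10_2 lc_b_rc_7_4 lc_b_rc_10_2 lc_b_rc_10_2 lc_b_Cert_tree lc_b_rc_6_1 lc_b_rc_8_2 lc_b_rc_10_2 lc_b_rc_1_1 lc_b_Cert_tree lc_b_rc_8_2 lc_b_rc_9_2 lc_b_Cert_tree lc_b_rc_6_1) (@D3.rec (fun _ => (Cert rels S Gen.b)) lc_b_rc_8_2 lc_b_rc_9_2 lc_b_rc_6_1 lc_b_Cert_tree lc_b_rc_6_1 lc_b_Cert_tree lc_b_rc_26_5 lc_b_rc_26_5 lc_b_rc_10_2 lc_b_rc_6_1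 lc_b_Cert_tree lc_b_rc_8_2 lc_b_rc_9_2 lc_b_rc_6_1 lc_b_rc_8_2 lc_b_rc_9_2 lc_b_Cert_tree lc_b_rc_1_5 lc_b_rc_1_1 lc_b_rc_10_2 lc_b_rc_6_1 lc_b_Cert_tree lc_b_rc_10_0 lc_b_rc_9_2 lc_b_rc_6_1 lc_b_Cert_tree lc_b_rc_1_5 lc_b_rc_1_5 lc_b_rc_6_1 lc_b_Cert_tree lc_b_Cert_tree lc_b_rc_8_2 lc_b_Cert_tree lc_b_rc_9_2 lc_b_Cert_tree lc_b_rc_6_1 lc_b_Cert_tree lc_b_rc_9_2 lc_b_Cert_tree lc_b_Cert_tree lc_b_rc_6_1 lc_b_rc_8_2 lc_b_rc_6_1 lc_b_rc_8_2 lc_b_rc_26_5 lc_b_rc_6_1 lc_b_rc_6_1 lc_b_rc_10_2 lc_b_rc_9_2 lc_b_rc_6_1 lc_b_rc_8_0 lc_b_rc_26_7 lc_b_Cert_tree lc_b_Cert_tree lc_b_rc_9_2 lc_b_rc_26_1 lc_b_Cert_tree lc_b_rc_8_2 lc_b_rc_9_0 lc_b_rc_6_1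 lc_b_rc_6_1 lc_b_rc_8_2) (@D3.rec (fun _ => (Cert rels S Gen.b)) lc_b_rc_10_0 lc_b_rc_6_1 lc_b_rc_1_5 lc_b_rc_8_2 lc_b_rc_6_1 lc_b_rc_7_4 lc_b_rc_26_5 lc_b_rc_8_2 lc_b_rc_9_2 lc_b_rc_8_2 lc_b_rc_9_2 lc_b_rc_6_1 lc_b_rc_8_2 lc_b_rc_26_7 lc_b_rc_10_2 lc_b_rc_9_0 lc_b_rc_6_1 lc_b_rc_6_1 lc_b_rc_6_1 lc_b_rc_8_0 lc_b_rc_8_2 lc_b_Cert_tree lc_b_Cert_tree lc_b_rc_9_2 lc_b_rc_8_0 lc_b_rc_25_0 lc_b_rc_6_1 lc_b_rc_25_0 lc_b_rc_6_1 lc_b_rc_9_2 lc_b_rc_7_4 lc_b_rc_9_2 lc_b_rc_7_4 lc_b_rc_8_2 lc_b_rc_9_2 lc_b_rc_9_0 lc_b_Cert_tree lc_b_rc_26_5 lc_b_rc_8_2 lc_b_rc_9_0 lc_b_rc_6_1 lc_b_rc_8_2 lc_b_rc_7_4 lc_b_rc_8_2 lc_b_rc_10_2 lc_b_Cert_tree lc_b_rc_6_1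 lc_b_rc_6_1 lc_b_Cert_tree lc_b_rc_8_2 lc_b_rc_6_1 lc_b_Cert_tree lc_b_rc_25_0 lc_b_rc_1_3 lc_b_rc_7_4 lc_b_rc_9_2 lc_b_rc_8_2 lc_b_rc_9_0 lc_b_rc_6_1 lc_b_rc_1_3 lc_b_rc_7_2 lc_b_rc_8_2) (@D3.rec (fun _ => (Cert rels S Gen.b)) lc_b_rc_6_1 lc_b_rc_10_2 lc_b_Cert_tree lc_b_rc_1_3 lc_b_rc_10_2 lc_b_rc_6_1 lc_b_rc_8_2 lc_b_rc_26_5 lc_b_rc_6_1 lc_b_rc_8_0 lc_b_Cert_tree lc_b_rc_10_2 lc_b_rc_6_1 lc_b_Cert_tree lc_b_rc_1_3 lc_b_rc_8_2 lc_b_rc_9_2 lc_b_Cert_tree lc_b_rc_8_2 lc_b_rc_6_1 lc_b_rc_7_4 lc_b_rc_9_0 lc_b_Cert_tree lc_b_rc_9_2 lc_b_rc_1_3 lc_b_Cert_tree lc_b_rc_6_1 lc_b_rc_8_2 lc_b_rc_7_4 lc_b_rc_8_2 lc_b_rc_6_1 lc_b_rc_9_2 lc_b_rc_1_5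 lc_b_rc_8_2 lc_b_rc_10_2 lc_b_Cert_tree lc_b_rc_1_3 lc_b_rc_10_2 lc_b_Cert_tree lc_b_rc_8_2 lc_b_rc_9_2 lc_b_rc_6_1 lc_b_rc_8_0 lc_b_rc_25_4 lc_b_rc_6_1 lc_b_rc_8_2 lc_b_rc_9_2 lc_b_Cert_tree lc_b_rc_9_2 lc_b_rc_6_1 lc_b_Cert_tree lc_b_rc_6_1 lc_b_rc_9_2 lc_b_rc_6_1 lc_b_Cert_tree lc_b_rc_6_1 lc_b_Cert_tree lc_b_rc_7_0 lc_b_rc_6_1 lc_b_Cert_tree lc_b_rc_7_0 lc_b_rc_1_3) (@D3.rec (fun _ => (Cert rels S Gen.b)) lc_b_rc_6_1 lc_b_rc_7_0 lc_b_rc_7_2 lc_b_rc_9_2 lc_b_rc_26_1 lc_b_rc_1_5 lc_b_rc_7_0 lc_b_rc_8_2 lc_b_rc_10_2 lc_b_rc_6_1 lc_b_rc_6_1 lc_b_Cert_tree lc_b_Cert_tree lc_b_rc_10_2 lc_b_rc_6_1 lc_b_rc_7_4 lc_b_rc_9_2 lc_b_rc_6_1 lc_b_rc_7_0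 lc_b_rc_9_2 lc_b_rc_7_2 lc_b_rc_7_0 lc_b_Cert_tree lc_b_rc_7_0 lc_b_Cert_tree lc_b_rc_9_2 lc_b_rc_26_1 lc_b_rc_8_2 lc_b_Cert_tree lc_b_rc_6_1 lc_b_Cert_tree lc_b_rc_8_0 lc_b_rc_6_1 lc_b_rc_10_2 lc_b_rc_9_2 lc_b_rc_6_1 lc_b_Cert_tree lc_b_rc_6_1 lc_b_rc_8_2 lc_b_rc_10_2 lc_b_rc_9_2 lc_b_Cert_tree lc_b_rc_9_2 lc_b_rc_8_2 lc_b_rc_8_2 lc_b_rc_9_2 lc_b_rc_9_2 lc_b_rc_9_2 lc_b_rc_26_5 lc_b_Cert_tree lc_b_rc_6_1 lc_b_rc_8_2 lc_b_rc_10_2 lc_b_rc_9_2 lc_b_rc_8_2 lc_b_Cert_tree lc_b_rc_9_2 lc_b_rc_6_1 lc_b_rc_26_5 lc_b_rc_8_0 lc_b_rc_6_1 lc_b_rc_6_1) (@D3.rec (fun _ => (Cert rels S Gen.b)) lc_b_rc_9_2 lc_b_rc_6_1 lc_b_rc_6_1 lc_b_rc_10_2 lc_b_Cert_tree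 lc_b_rc_7_4 lc_b_rc_1_3 lc_b_rc_10_2 lc_b_rc_9_2 lc_b_rc_9_0 lc_b_rc_7_4 lc_b_rc_8_2 lc_b_rc_6_1 lc_b_rc_7_4 lc_b_rc_6_1 lc_b_rc_6_1 lc_b_rc_8_2 lc_b_rc_10_2 lc_b_rc_9_2 lc_b_Cert_tree lc_b_Cert_tree lc_b_rc_8_2 lc_b_rc_10_2 lc_b_rc_6_1 lc_b_rc_26_5 lc_b_rc_8_2 lc_b_rc_9_2 lc_b_rc_6_1 lc_b_rc_10_2 lc_b_rc_1_1 lc_b_rc_6_1 lc_b_Cert_tree lc_b_rc_8_2 lc_b_rc_10_2 lc_b_rc_9_2 lc_b_rc_9_2 lc_b_rc_6_1 lc_b_Cert_tree lc_b_rc_26_1 lc_b_rc_1_3 lc_b_rc_9_2 lc_b_rc_26_7 lc_b_rc_9_2 lc_b_rc_9_2 lc_b_rc_6_1 lc_b_rc_9_2 lc_b_rc_6_1 lc_b_rc_6_1 lc_b_rc_10_2 lc_b_rc_8_2 lc_b_rc_6_1 lc_b_rc_8_0 lc_b_rc_10_2 lc_b_rc_9_2 lc_b_rc_9_2 lc_b_rc_6_1 lc_b_rc_6_1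 lc_b_rc_9_2 lc_b_rc_7_4 lc_b_rc_1_5 lc_b_rc_8_2 lc_b_rc_6_1) (@D3.rec (fun _ => (Cert rels S Gen.b)) lc_b_rc_26_7 lc_b_rc_8_2 lc_b_rc_1_3 lc_b_rc_6_1 lc_b_Cert_tree lc_b_rc_8_2 lc_b_rc_9_2 lc_b_rc_6_1 lc_b_rc_8_2 lc_b_rc_26_1 lc_b_rc_9_2 lc_b_rc_7_0 lc_b_rc_1_3 lc_b_rc_9_2 lc_b_rc_9_2 lc_b_Cert_tree lc_b_rc_9_2 lc_b_rc_10_2 lc_b_rc_9_2 lc_b_rc_6_1 lc_b_rc_26_1 lc_b_rc_6_1 lc_b_rc_8_2 lc_b_rc_1_5 lc_b_rc_10_0 lc_b_rc_9_2 lc_b_rc_8_2 lc_b_rc_9_2 lc_b_Cert_tree lc_b_rc_26_1 lc_b_rc_8_2 lc_b_rc_10_2 lc_b_rc_8_0 lc_b_rc_6_1 lc_b_rc_6_1 lc_b_rc_8_2 lc_b_rc_10_2 lc_b_rc_26_7 lc_b_Cert_tree lc_b_rc_9_2 lc_b_rc_10_2 lc_b_rc_7_4 lc_b_rc_8_2 lc_b_rc_9_2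 lc_b_rc_6_1 lc_b_rc_10_2 lc_b_rc_10_2 lc_b_rc_6_1 lc_b_rc_8_2 lc_b_rc_9_2 lc_b_rc_7_4 lc_b_rc_8_2 lc_b_rc_26_7 lc_b_rc_6_1 lc_b_rc_8_2 lc_b_rc_6_1 lc_b_rc_8_2 lc_b_rc_6_1 lc_b_Cert_tree lc_b_rc_10_2 lc_b_rc_8_2 lc_b_rc_25_16) (@D3.rec (fun _ => (Cert rels S Gen.b)) lc_b_rc_9_2 lc_b_Cert_tree lc_b_rc_7_2 lc_b_Cert_tree lc_b_rc_8_2 lc_b_rc_7_2 lc_b_rc_9_2 lc_b_rc_8_2 lc_b_rc_8_2 lc_b_rc_8_2 lc_b_rc_6_1 lc_b_rc_8_2 lc_b_rc_6_1 lc_b_rc_8_2 lc_b_Cert_tree lc_b_rc_8_2 lc_b_Cert_tree lc_b_rc_10_2 lc_b_rc_1_5 lc_b_rc_6_1 lc_b_rc_26_5 lc_b_rc_8_2 lc_b_Cert_tree lc_b_rc_26_7 lc_b_rc_25_16 lc_b_rc_26_1 lc_b_rc_6_1 lc_b_Cert_tree lc_b_rc_6_1 lc_b_rc_8_2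 lc_b_rc_9_2 lc_b_rc_6_1 lc_b_rc_8_2 lc_b_rc_26_5 lc_b_rc_26_7 lc_b_rc_9_2 lc_b_rc_8_2 lc_b_rc_6_1 lc_b_Cert_tree lc_b_rc_8_2 lc_b_rc_9_2 lc_b_rc_6_1 lc_b_Cert_tree lc_b_rc_8_2 lc_b_Cert_tree lc_b_rc_26_1 lc_b_rc_8_2 lc_b_rc_10_2 lc_b_rc_1_3 lc_b_rc_26_1 lc_b_rc_6_1 lc_b_rc_9_2 lc_b_rc_6_1 lc_b_rc_26_1 lc_b_rc_7_2 lc_b_Cert_tree lc_b_rc_9_2 lc_b_rc_7_0 lc_b_rc_6_1 lc_b_rc_26_1 lc_b_rc_6_1 lc_b_rc_8_2) (@D3.rec (fun _ => (Cert rels S Gen.b)) lc_b_rc_10_2 lc_b_rc_6_1 lc_b_rc_9_2 lc_b_rc_8_2 lc_b_rc_8_2 lc_b_rc_8_2 lc_b_rc_7_4 lc_b_Cert_tree lc_b_rc_26_5 lc_b_rc_8_2 lc_b_rc_1_3 lc_b_rc_9_2 lc_b_rc_8_2 lc_b_rc_26_1 lc_b_rc_6_1 lc_b_rc_9_2 lc_b_rc_10_2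 lc_b_rc_8_0 lc_b_rc_8_2 lc_b_rc_8_2 lc_b_rc_9_0 lc_b_rc_26_7 lc_b_rc_8_2 lc_b_rc_9_0 lc_b_rc_26_7 lc_b_rc_25_12 lc_b_rc_9_2 lc_b_rc_26_1 lc_b_rc_9_2 lc_b_rc_8_2 lc_b_rc_9_2 lc_b_rc_26_5 lc_b_rc_9_2 lc_b_rc_1_1 lc_b_rc_26_5 lc_b_rc_9_2 lc_b_rc_9_2 lc_b_rc_8_0 lc_b_rc_26_1 lc_b_rc_6_1 lc_b_rc_26_7 lc_b_rc_9_2 lc_b_rc_8_2 lc_b_rc_6_1 lc_b_rc_9_2 lc_b_rc_9_2 lc_b_rc_10_2 lc_b_rc_7_0 lc_b_rc_1_3 lc_b_rc_9_2 lc_b_rc_8_0 lc_b_Cert_tree lc_b_rc_26_1 lc_b_rc_6_1 lc_b_rc_6_1 lc_b_rc_1_3 lc_b_rc_6_1 lc_b_rc_9_0 lc_b_rc_6_1 lc_b_rc_6_1 lc_b_rc_26_5 lc_b_rc_9_2) (@D3.rec (fun _ => (Cert rels S Gen.b)) lc_b_rc_7_0 lc_b_rc_10_2 lc_b_rc_9_2 lc_b_rc_6_1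 lc_b_rc_26_5 lc_b_rc_9_2 lc_b_rc_6_1 lc_b_rc_8_0 lc_b_rc_8_2 lc_b_rc_1_3 lc_b_rc_9_2 lc_b_rc_10_2 lc_b_rc_8_2 lc_b_rc_8_0 lc_b_rc_8_0 lc_b_rc_9_2 lc_b_rc_7_2 lc_b_rc_8_0 lc_b_rc_8_2 lc_b_rc_6_1 lc_b_rc_7_2 lc_b_rc_6_1 lc_b_rc_9_2 lc_b_rc_6_1 lc_b_rc_9_2 lc_b_rc_8_0 lc_b_rc_6_1 lc_b_rc_10_2 lc_b_rc_8_2 lc_b_rc_1_3 lc_b_rc_9_2 lc_b_rc_6_1 lc_b_rc_9_2 lc_b_rc_26_1 lc_b_rc_26_7 lc_b_rc_10_2 lc_b_rc_1_1 lc_b_rc_1_3 lc_b_rc_9_2 lc_b_rc_7_4 lc_b_rc_26_5 lc_b_rc_1_3 lc_b_rc_1_3 lc_b_rc_9_2 lc_b_Cert_tree lc_b_rc_26_5 lc_b_rc_6_1 lc_b_rc_8_2 lc_b_rc_9_2 lc_b_rc_6_1 lc_b_rc_6_1 lc_b_Cert_tree lc_b_Cert_tree lc_b_rc_8_2 lc_b_rc_1_3 lc_b_rc_9_2 lc_b_rc_1_5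 lc_b_rc_9_2 lc_b_Cert_tree lc_b_rc_9_0 lc_b_Cert_tree lc_b_rc_10_2) (@D3.rec (fun _ => (Cert rels S Gen.b)) lc_b_rc_8_2 lc_b_rc_7_4 lc_b_rc_8_2 lc_b_Cert_tree lc_b_rc_6_1 lc_b_rc_6_1 lc_b_rc_9_2 lc_b_rc_26_1 lc_b_rc_10_2 lc_b_rc_9_2 lc_b_Cert_tree lc_b_rc_26_5 lc_b_rc_9_2 lc_b_rc_6_1 lc_b_rc_9_2 lc_b_rc_9_2 lc_b_rc_26_5 lc_b_Cert_tree lc_b_rc_26_5 lc_b_rc_9_0 lc_b_rc_6_1 lc_b_rc_9_2 lc_b_rc_10_2 lc_b_rc_10_2 lc_b_rc_8_2 lc_b_rc_8_2 lc_b_rc_26_1 lc_b_rc_6_1 lc_b_rc_1_1 lc_b_rc_9_2 lc_b_rc_8_0 lc_b_Cert_tree lc_b_Cert_tree lc_b_Cert_tree lc_b_rc_6_1 lc_b_rc_8_2 lc_b_rc_9_2 lc_b_rc_26_5 lc_b_rc_7_0 lc_b_Cert_tree lc_b_rc_6_1 lc_b_rc_8_2 lc_b_rc_9_2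 lc_b_rc_26_5 lc_b_rc_6_1 lc_b_rc_10_2 lc_b_rc_1_5 lc_b_Cert_tree lc_b_rc_26_7 lc_b_rc_8_2 lc_b_rc_10_2 lc_b_rc_10_2 lc_b_rc_26_5 lc_b_rc_26_5 lc_b_rc_8_2 lc_b_rc_9_2 lc_b_rc_6_1 lc_b_rc_26_5 lc_b_rc_26_1 lc_b_rc_10_2 lc_b_rc_9_2 lc_b_rc_26_7) (@D3.rec (fun _ => (Cert rels S Gen.b)) lc_b_Cert_tree lc_b_rc_8_2 lc_b_rc_26_7 lc_b_Cert_tree lc_b_rc_8_2 lc_b_rc_9_2 lc_b_rc_9_2 lc_b_rc_8_2 lc_b_rc_26_7 lc_b_rc_8_2 lc_b_rc_10_2 lc_b_rc_9_2 lc_b_rc_7_4 lc_b_rc_6_1 lc_b_rc_10_2 lc_b_Cert_tree lc_b_rc_1_1 lc_b_rc_9_2 lc_b_rc_6_1 lc_b_rc_9_2 lc_b_rc_1_5 lc_b_Cert_tree lc_b_rc_9_2 lc_b_rc_9_0 lc_b_rc_10_2 lc_b_rc_6_1 lc_b_rc_8_2 lc_b_rc_9_2 lc_b_rc_8_2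 lc_b_rc_9_2 lc_b_rc_6_1 lc_b_rc_9_2 lc_b_rc_9_2 lc_b_rc_9_0 lc_b_Cert_tree lc_b_rc_8_2 lc_b_rc_10_2 lc_b_rc_6_1 lc_b_rc_26_5 lc_b_rc_9_2 lc_b_rc_26_7 lc_b_rc_6_1 lc_b_rc_6_1 lc_b_rc_9_2 lc_b_rc_6_1 lc_b_rc_8_2 lc_b_rc_6_1 lc_b_rc_6_1 lc_b_rc_8_2 lc_b_rc_9_2 lc_b_rc_8_2 lc_b_Cert_tree lc_b_Cert_tree lc_b_rc_10_2 lc_b_rc_6_1 lc_b_rc_7_0 lc_b_rc_26_1 lc_b_rc_9_2 lc_b_rc_9_0 lc_b_rc_9_2 lc_b_rc_10_2 lc_b_rc_9_2) (@D3.rec (fun _ => (Cert rels S Gen.b)) lc_b_rc_9_2 lc_b_rc_1_5 lc_b_rc_9_0 lc_b_rc_10_2 lc_b_rc_9_2 lc_b_rc_8_2 lc_b_rc_1_3 lc_b_rc_26_7 lc_b_Cert_tree lc_b_rc_8_2 lc_b_rc_10_2 lc_b_rc_1_3 lc_b_rc_26_7 lc_b_rc_8_2 lc_b_rc_8_2 lc_b_Cert_tree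 lc_b_rc_26_5 lc_b_rc_10_2 lc_b_rc_1_3 lc_b_rc_9_2 lc_b_Cert_tree lc_b_rc_10_2 lc_b_rc_6_1 lc_b_rc_9_2 lc_b_rc_6_1 lc_b_rc_8_2 lc_b_rc_9_2 lc_b_rc_6_1 lc_b_Cert_tree lc_b_rc_1_1 lc_b_rc_10_2 lc_b_rc_6_1 lc_b_rc_10_2 lc_b_rc_10_2 lc_b_rc_6_1 lc_b_Cert_tree lc_b_Cert_tree lc_b_rc_9_2 lc_b_rc_6_1 lc_b_Cert_tree lc_b_rc_9_2 lc_b_rc_6_1 lc_b_rc_8_0 lc_b_rc_6_1 lc_b_rc_6_1 lc_b_rc_6_1 lc_b_Cert_tree lc_b_rc_8_2 lc_b_Cert_tree lc_b_rc_9_2 lc_b_rc_1_5 lc_b_rc_7_2 lc_b_rc_9_0 lc_b_Cert_tree lc_b_rc_10_2 lc_b_rc_7_4 lc_b_rc_8_2 lc_b_rc_7_2 lc_b_rc_8_2 lc_b_rc_10_2 lc_b_rc_8_2 lc_b_rc_7_4) (@D3.rec (fun _ => (Cert rels S Gen.b)) lc_b_rc_7_4 lc_b_rc_8_2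 lc_b_rc_26_5 lc_b_rc_8_2 lc_b_rc_9_0 lc_b_rc_8_2 lc_b_rc_26_5 lc_b_rc_9_2 lc_b_Cert_tree lc_b_rc_9_2 lc_b_rc_6_1 lc_b_Cert_tree lc_b_Cert_tree lc_b_rc_8_2 lc_b_rc_8_2 lc_b_rc_7_4 lc_b_Cert_tree lc_b_rc_1_3 lc_b_Cert_tree lc_b_rc_7_4 lc_b_rc_26_7 lc_b_Cert_tree lc_b_rc_8_2 lc_b_Cert_tree lc_b_rc_9_2 lc_b_rc_9_0 lc_b_Cert_tree lc_b_rc_9_2 lc_b_rc_6_1 lc_b_Cert_tree lc_b_rc_8_2 lc_b_rc_7_4 lc_b_rc_9_2 lc_b_Cert_tree lc_b_rc_26_5 lc_b_rc_9_2 lc_b_rc_6_1 lc_b_rc_26_7 lc_b_rc_9_2 lc_b_Cert_tree lc_b_rc_9_2 lc_b_Cert_tree lc_b_Cert_tree lc_b_rc_10_2 lc_b_rc_25_12 lc_b_Cert_tree lc_b_rc_8_0 lc_b_rc_6_1 lc_b_rc_7_0 lc_b_rc_7_4 lc_b_Cert_tree lc_b_rc_6_1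 lc_b_rc_8_2 lc_b_rc_9_2 lc_b_rc_6_1 lc_b_rc_8_2 lc_b_rc_8_2 lc_b_rc_9_2 lc_b_rc_1_1 lc_b_rc_8_0 lc_b_rc_9_2 lc_b_rc_25_4) (@D3.rec (fun _ => (Cert rels S Gen.b)) lc_b_rc_9_2 lc_b_rc_6_1 lc_b_rc_9_2 lc_b_rc_26_5 lc_b_rc_6_1 lc_b_rc_8_2 lc_b_rc_10_2 lc_b_rc_6_1 lc_b_rc_8_0 lc_b_Cert_tree lc_b_rc_6_1 lc_b_rc_8_0 lc_b_rc_26_7 lc_b_rc_10_0 lc_b_rc_9_2 lc_b_Cert_tree lc_b_rc_9_2 lc_b_rc_6_1 lc_b_rc_8_2 lc_b_rc_26_7 lc_b_rc_9_2 lc_b_rc_6_1 lc_b_rc_26_7 lc_b_rc_10_2 lc_b_rc_9_2 lc_b_rc_6_1 lc_b_rc_26_1 lc_b_rc_26_5 lc_b_rc_6_1 lc_b_rc_1_3 lc_b_rc_1_5 lc_b_rc_9_0 lc_b_rc_9_2 lc_b_rc_8_2 lc_b_rc_6_1 lc_b_rc_6_1 lc_b_rc_9_0 lc_b_Cert_tree lc_b_rc_8_2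 lc_b_rc_10_2 lc_b_rc_8_2 lc_b_Cert_tree lc_b_rc_8_2 lc_b_rc_7_4 lc_b_rc_9_2 lc_b_rc_8_2 lc_b_rc_1_5 lc_b_rc_9_2 lc_b_rc_7_4 lc_b_rc_1_3 lc_b_rc_8_2 lc_b_rc_6_1 lc_b_rc_8_2 lc_b_rc_9_2 lc_b_rc_9_2 lc_b_rc_8_2 lc_b_rc_26_5 lc_b_rc_9_2 lc_b_rc_1_5 lc_b_rc_8_2 lc_b_rc_10_2 lc_b_rc_1_1) (@D3.rec (fun _ => (Cert rels S Gen.b)) lc_b_rc_8_2 lc_b_rc_26_1 lc_b_rc_1_5 lc_b_rc_6_1 lc_b_rc_7_4 lc_b_rc_26_5 lc_b_rc_9_2 lc_b_Cert_tree lc_b_rc_6_1 lc_b_rc_8_2 lc_b_rc_9_2 lc_b_rc_6_1 lc_b_rc_8_2 lc_b_rc_7_0 lc_b_rc_10_2 lc_b_rc_9_2 lc_b_rc_9_2 lc_b_rc_7_0 lc_b_rc_1_5 lc_b_rc_8_2 lc_b_rc_10_2 lc_b_rc_6_1 lc_b_Cert_tree lc_b_rc_8_2 lc_b_rc_8_2 lc_b_rc_6_1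 lc_b_rc_26_5 lc_b_rc_8_2 lc_b_rc_9_2 lc_b_rc_1_3 lc_b_rc_8_2 lc_b_rc_6_1 lc_b_rc_10_2 lc_b_rc_8_2 lc_b_rc_1_1 lc_b_rc_8_2 lc_b_rc_9_2 lc_b_Cert_tree lc_b_rc_9_2 lc_b_rc_6_1 lc_b_Cert_tree lc_b_rc_9_2 lc_b_Cert_tree lc_b_rc_9_0 lc_b_rc_6_1 lc_b_rc_8_2 lc_b_rc_7_4 lc_b_rc_9_2 lc_b_rc_1_5 lc_b_rc_8_2 lc_b_rc_26_5 lc_b_rc_1_5 lc_b_rc_10_2 lc_b_rc_8_2 lc_b_rc_9_2 lc_b_rc_26_7 lc_b_rc_7_2 lc_b_rc_8_2 lc_b_rc_1_5 lc_b_rc_26_1 lc_b_rc_8_2 lc_b_rc_8_2) (@D3.rec (fun _ => (Cert rels S Gen.b)) lc_b_rc_8_2 lc_b_rc_9_2 lc_b_rc_9_2 lc_b_rc_8_0 lc_b_rc_9_2 lc_b_rc_26_7 lc_b_rc_6_1 lc_b_rc_9_2 lc_b_rc_6_1 lc_b_rc_9_2 lc_b_rc_8_2 lc_b_Cert_tree lc_b_rc_8_0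 lc_b_rc_9_0 lc_b_rc_9_2 lc_b_rc_8_2 lc_b_rc_9_2 lc_b_rc_1_5 lc_b_rc_9_2 lc_b_rc_10_2 lc_b_rc_26_7 lc_b_rc_6_1 lc_b_rc_8_2 lc_b_Cert_tree lc_b_rc_9_2 lc_b_rc_8_2 lc_b_rc_9_2 lc_b_rc_8_0 lc_b_rc_6_1 lc_b_rc_9_2 lc_b_rc_26_5 lc_b_Cert_tree lc_b_rc_6_1 lc_b_rc_1_5 lc_b_rc_9_2 lc_b_rc_1_5 lc_b_rc_10_2 lc_b_rc_10_2 lc_b_rc_7_2 lc_b_rc_8_0 lc_b_rc_10_2 lc_b_rc_8_2 lc_b_rc_9_2 lc_b_Cert_tree lc_b_rc_26_7 lc_b_rc_9_0 lc_b_rc_8_2 lc_b_rc_8_0 lc_b_rc_26_7 lc_b_Cert_tree lc_b_rc_9_2 lc_b_rc_8_2 lc_b_rc_9_2 lc_b_Cert_tree lc_b_rc_6_1 lc_b_rc_8_2 lc_b_rc_7_4 lc_b_rc_9_2 lc_b_rc_9_2 lc_b_rc_8_0 lc_b_rc_10_2 lc_b_rc_10_2) (@D3.rec (fun _ => (Cert rels S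 Gen.b)) lc_b_rc_6_1 lc_b_rc_9_2 lc_b_Cert_tree lc_b_rc_6_1 lc_b_rc_7_4 lc_b_rc_6_1 lc_b_rc_1_3 lc_b_rc_6_1 lc_b_rc_7_2 lc_b_rc_9_2 lc_b_rc_6_1 lc_b_Cert_tree lc_b_rc_9_2 lc_b_rc_6_1 lc_b_rc_9_2 lc_b_rc_9_2 lc_b_rc_8_2 lc_b_rc_9_2 lc_b_rc_7_2 lc_b_rc_9_2 lc_b_rc_6_1 lc_b_rc_1_5 lc_b_rc_9_2 lc_b_rc_6_1 lc_b_rc_10_2 lc_b_rc_6_1 lc_b_rc_26_7 lc_b_rc_9_2 lc_b_rc_1_3 lc_b_rc_1_5 lc_b_rc_8_2 lc_b_rc_9_2 lc_b_rc_6_1 lc_b_Cert_tree lc_b_rc_8_2 lc_b_rc_10_2 lc_b_rc_8_0 lc_b_rc_1_3 lc_b_rc_9_2 lc_b_rc_9_2 lc_b_rc_26_5 lc_b_Cert_tree lc_b_rc_1_1 lc_b_rc_7_4 lc_b_rc_6_1 lc_b_rc_26_5 lc_b_rc_10_2 lc_b_Cert_tree lc_b_rc_8_2 lc_b_rc_1_3 lc_b_rc_26_7 lc_b_rc_8_2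 lc_b_rc_26_7 lc_b_rc_8_2 lc_b_Cert_tree lc_b_rc_9_2 lc_b_rc_6_1 lc_b_Cert_tree lc_b_rc_26_5 lc_b_rc_9_2 lc_b_rc_26_5 lc_b_rc_8_2) (@D3.rec (fun _ => (Cert rels S Gen.b)) lc_b_rc_6_1 lc_b_rc_8_2 lc_b_Cert_tree lc_b_rc_8_2 lc_b_Cert_tree lc_b_rc_7_4 lc_b_Cert_tree lc_b_Cert_tree lc_b_rc_6_1 lc_b_rc_8_2 lc_b_rc_10_2 lc_b_rc_9_2 lc_b_rc_9_2 lc_b_rc_7_2 lc_b_rc_25_4 lc_b_rc_9_2 lc_b_rc_1_5 lc_b_rc_10_2 lc_b_Cert_tree lc_b_rc_6_1 lc_b_rc_1_3 lc_b_rc_9_2 lc_b_rc_26_1 lc_b_rc_26_1 lc_b_rc_9_2 lc_b_rc_10_2 lc_b_rc_8_0 lc_b_rc_8_2 lc_b_rc_6_1 lc_b_rc_7_2 lc_b_rc_26_5 lc_b_rc_26_5 lc_b_rc_25_4 lc_b_rc_9_2 lc_b_rc_6_1 lc_b_rc_9_2 lc_b_rc_9_2 lc_b_rc_10_2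 lc_b_rc_8_2 lc_b_rc_10_2 lc_b_rc_6_1 lc_b_rc_9_2 lc_b_rc_7_2 lc_b_rc_8_2 lc_b_rc_9_2 lc_b_rc_6_1 lc_b_rc_7_4 lc_b_rc_26_5 lc_b_rc_8_2 lc_b_rc_10_2 lc_b_rc_6_1 lc_b_Cert_tree lc_b_rc_8_2 lc_b_rc_6_1 lc_b_rc_7_4 lc_b_rc_8_2 lc_b_rc_9_2 lc_b_Cert_tree lc_b_rc_6_1 lc_b_rc_7_2 lc_b_rc_10_2 lc_b_rc_8_2) (@D3.rec (fun _ => (Cert rels S Gen.b)) lc_b_rc_8_2 lc_b_Cert_tree lc_b_rc_9_2 lc_b_rc_8_2 lc_b_Cert_tree lc_b_rc_10_2 lc_b_rc_6_1 lc_b_Cert_tree lc_b_rc_8_2 lc_b_rc_9_2 lc_b_rc_6_1 lc_b_Cert_tree lc_b_rc_9_2 lc_b_rc_10_2 lc_b_Cert_tree lc_b_rc_6_1 lc_b_rc_8_2 lc_b_rc_10_2 lc_b_rc_9_2 lc_b_rc_7_2 lc_b_rc_26_5 lc_b_rc_9_0 lc_b_rc_10_2 lc_b_Cert_tree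 lc_b_rc_8_2 lc_b_rc_6_1 lc_b_rc_26_1 lc_b_rc_10_2 lc_b_rc_6_1 lc_b_rc_9_2 lc_b_rc_1_3 lc_b_Cert_tree lc_b_rc_26_7 lc_b_rc_8_2 lc_b_rc_10_2 lc_b_rc_1_3 lc_b_rc_8_2 lc_b_rc_9_2 lc_b_rc_8_0 lc_b_rc_9_2 lc_b_rc_26_1 lc_b_rc_9_2 lc_b_rc_8_2 lc_b_rc_26_1 lc_b_rc_8_2 lc_b_rc_10_2 lc_b_rc_6_1 lc_b_rc_26_1 lc_b_rc_8_2 lc_b_rc_9_2 lc_b_rc_6_1 lc_b_rc_26_5 lc_b_rc_8_2 lc_b_rc_9_2 lc_b_rc_8_2 lc_b_rc_9_0 lc_b_rc_6_1 lc_b_rc_8_2 lc_b_rc_9_2 lc_b_rc_1_5 lc_b_Cert_tree lc_b_rc_6_1) (@D3.rec (fun _ => (Cert rels S Gen.b)) lc_b_rc_6_1 lc_b_rc_8_2 lc_b_rc_8_2 lc_b_rc_9_2 lc_b_rc_6_1 lc_b_rc_8_2 lc_b_rc_9_2 lc_b_Cert_tree lc_b_rc_6_1 lc_b_rc_10_2 lc_b_rc_9_2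 lc_b_rc_6_1 lc_b_Cert_tree lc_b_Cert_tree lc_b_rc_9_0 lc_b_rc_8_2 lc_b_rc_7_4 lc_b_rc_9_2 lc_b_rc_8_2 lc_b_Cert_tree lc_b_rc_9_2 lc_b_rc_6_1 lc_b_rc_8_2 lc_b_rc_9_2 lc_b_rc_8_2 lc_b_rc_10_2 lc_b_Cert_tree lc_b_Cert_tree lc_b_rc_6_1 lc_b_rc_8_2 lc_b_rc_9_2 lc_b_rc_26_1 lc_b_rc_6_1 lc_b_rc_8_2 lc_b_rc_7_2 lc_b_rc_6_1 lc_b_rc_26_5 lc_b_rc_8_2 lc_b_rc_9_2 lc_b_rc_6_1 lc_b_rc_8_2 lc_b_Cert_tree lc_b_Cert_tree lc_b_Cert_tree lc_b_rc_9_2 lc_b_rc_8_2 lc_b_rc_7_4 lc_b_rc_9_0 lc_b_rc_6_1 lc_b_rc_8_2 lc_b_rc_1_3 lc_b_rc_9_2 lc_b_rc_8_2 lc_b_rc_9_2 lc_b_rc_9_2 lc_b_Cert_tree lc_b_rc_10_2 lc_b_rc_7_2 lc_b_rc_8_2 lc_b_rc_7_4 lc_b_rc_6_1 lc_b_rc_7_4) (@D3.rec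 (fun _ => (Cert rels S Gen.b)) lc_b_rc_1_3 lc_b_rc_7_4 lc_b_rc_7_4 lc_b_rc_25_12 lc_b_rc_10_0 lc_b_rc_6_1 lc_b_rc_6_1 lc_b_rc_6_1 lc_b_rc_8_2 lc_b_rc_26_7 lc_b_Cert_tree lc_b_rc_7_4 lc_b_rc_6_1 lc_b_rc_10_2 lc_b_rc_26_1 lc_b_rc_6_1 lc_b_rc_1_3 lc_b_rc_9_2 lc_b_rc_8_2 lc_b_rc_26_5 lc_b_rc_1_1 lc_b_rc_8_2 lc_b_rc_7_4 lc_b_Cert_tree lc_b_rc_7_2 lc_b_rc_9_2 lc_b_rc_9_2 lc_b_rc_26_5 lc_b_rc_6_1 lc_b_rc_8_2 lc_b_rc_9_2 lc_b_rc_6_1 lc_b_rc_8_2 lc_b_rc_10_2 lc_b_rc_6_1 lc_b_rc_9_2 lc_b_rc_26_1 lc_b_rc_10_2 lc_b_rc_6_1 lc_b_rc_1_3 lc_b_rc_10_0 lc_b_rc_8_2 lc_b_rc_8_2 lc_b_rc_6_1 lc_b_rc_6_1 lc_b_rc_26_1 lc_b_rc_9_2 lc_b_rc_26_5 lc_b_rc_6_1 lc_b_rc_8_2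 lc_b_rc_9_2 lc_b_rc_26_1 lc_b_rc_7_2 lc_b_rc_9_0 lc_b_rc_8_2 lc_b_rc_10_2 lc_b_rc_9_2 lc_b_rc_8_2 lc_b_Cert_tree lc_b_rc_10_2 lc_b_Cert_tree lc_b_rc_10_2) (@D3.rec (fun _ => (Cert rels S Gen.b)) lc_b_rc_6_1 lc_b_rc_8_2 lc_b_rc_9_2 lc_b_rc_9_2 lc_b_rc_8_2 lc_b_rc_6_1 lc_b_rc_9_2 lc_b_rc_6_1 lc_b_rc_26_5 lc_b_rc_1_3 lc_b_rc_7_0 lc_b_Cert_tree lc_b_rc_9_2 lc_b_rc_6_1 lc_b_rc_8_2 lc_b_rc_9_2 lc_b_rc_6_1 lc_b_Cert_tree lc_b_rc_9_2 lc_b_rc_10_2 lc_b_rc_9_2 lc_b_rc_6_1 lc_b_rc_9_2 lc_b_rc_7_4 lc_b_rc_10_2 lc_b_rc_9_2 lc_b_Cert_tree lc_b_rc_7_4 lc_b_rc_8_2 lc_b_rc_10_2 lc_b_Cert_tree lc_b_rc_6_1 lc_b_rc_10_2 lc_b_Cert_tree lc_b_rc_9_0 lc_b_rc_6_1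 lc_b_rc_6_1 lc_b_rc_1_5 lc_b_rc_6_1 lc_b_rc_1_5 lc_b_rc_8_2 lc_b_rc_9_0 lc_b_Cert_tree lc_b_rc_8_2 lc_b_rc_26_1 lc_b_rc_8_2 lc_b_rc_9_2 lc_b_rc_9_2 lc_b_rc_7_2 lc_b_rc_26_7 lc_b_rc_8_2 lc_b_rc_9_2 lc_b_rc_6_1 lc_b_rc_1_5 lc_b_rc_8_2 lc_b_rc_26_5 lc_b_rc_9_2 lc_b_rc_26_5 lc_b_rc_6_1 lc_b_Cert_tree lc_b_rc_10_2 lc_b_rc_9_2) (@D3.rec (fun _ => (Cert rels S Gen.b)) lc_b_rc_8_0 lc_b_rc_6_1 lc_b_rc_8_2 lc_b_rc_10_2 lc_b_rc_9_2 lc_b_rc_26_1 lc_b_rc_6_1 lc_b_rc_7_2 lc_b_rc_9_2 lc_b_rc_8_2 lc_b_Cert_tree lc_b_rc_9_2 lc_b_rc_26_5 lc_b_rc_8_2 lc_b_rc_26_1 lc_b_rc_10_2 lc_b_rc_8_2 lc_b_Cert_tree lc_b_rc_8_2 lc_b_Cert_tree lc_b_rc_9_2 lc_b_rc_6_1 lc_b_rc_10_2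 lc_b_rc_9_2 lc_b_rc_9_2 lc_b_rc_1_3 lc_b_rc_8_2 lc_b_Cert_tree lc_b_rc_26_1 lc_b_rc_8_2 lc_b_rc_6_1 lc_b_rc_1_1 lc_b_rc_8_2 lc_b_rc_6_1 lc_b_rc_6_1 lc_b_rc_8_2 lc_b_rc_9_2 lc_b_rc_26_7 lc_b_Cert_tree lc_b_Cert_tree lc_b_rc_8_2 lc_b_rc_6_1 lc_b_rc_8_2 lc_b_rc_9_2 lc_b_Cert_tree lc_b_Cert_tree lc_b_Cert_tree lc_b_Cert_tree lc_b_rc_6_1 lc_b_rc_8_2 lc_b_rc_10_2 lc_b_rc_9_2 lc_b_rc_6_1 lc_b_rc_10_2 lc_b_rc_9_2 lc_b_rc_8_2 lc_b_rc_6_1 lc_b_rc_1_5 lc_b_rc_6_1 lc_b_rc_7_4 lc_b_rc_6_1 lc_b_rc_26_5) (@D3.rec (fun _ => (Cert rels S Gen.b)) lc_b_rc_8_2 lc_b_rc_26_5 lc_b_rc_6_1 lc_b_rc_8_2 lc_b_Cert_tree lc_b_rc_1_3 lc_b_rc_8_2 lc_b_rc_10_2 lc_b_Cert_tree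 lc_b_Cert_tree lc_b_Cert_tree lc_b_rc_26_5 lc_b_rc_10_2 lc_b_rc_9_2 lc_b_rc_6_1 lc_b_rc_8_0 lc_b_rc_9_2 lc_b_rc_6_1 lc_b_Cert_tree lc_b_rc_8_2 lc_b_rc_10_2 lc_b_rc_6_1 lc_b_Cert_tree lc_b_rc_8_2 lc_b_rc_10_2 lc_b_rc_6_1 lc_b_rc_8_2 lc_b_Cert_tree lc_b_rc_8_2 lc_b_Cert_tree lc_b_rc_10_2 lc_b_Cert_tree lc_b_rc_8_2 lc_b_rc_9_2 lc_b_rc_6_1 lc_b_rc_8_2 lc_b_rc_26_5 lc_b_Cert_tree lc_b_rc_10_2 lc_b_rc_8_2 lc_b_rc_9_2 lc_b_rc_6_1 lc_b_rc_8_2 lc_b_Cert_tree lc_b_rc_6_1 lc_b_rc_10_2 lc_b_rc_1_3 lc_b_rc_8_2 lc_b_rc_9_2 lc_b_rc_9_2 lc_b_Cert_tree lc_b_rc_8_2 lc_b_rc_26_7 lc_b_rc_8_2 lc_b_rc_6_1 lc_b_rc_10_2 lc_b_rc_1_1 lc_b_rc_26_5 lc_b_rc_10_2 lc_b_rc_6_1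 lc_b_rc_26_5 lc_b_rc_8_2) (@D3.rec (fun _ => (Cert rels S Gen.b)) lc_b_rc_8_2 lc_b_Cert_tree lc_b_rc_9_2 lc_b_rc_6_1 lc_b_rc_9_2 lc_b_rc_9_2 lc_b_rc_9_2 lc_b_rc_6_1 lc_b_Cert_tree lc_b_rc_8_2 lc_b_rc_10_2 lc_b_rc_6_1 lc_b_rc_9_2 lc_b_Cert_tree lc_b_rc_8_0 lc_b_rc_8_2 lc_b_rc_10_2 lc_b_rc_1_3 lc_b_rc_6_1 lc_b_Cert_tree lc_b_Cert_tree lc_b_Cert_tree lc_b_rc_10_2 lc_b_Cert_tree lc_b_rc_7_2 lc_b_rc_1_5 lc_b_rc_7_2 lc_b_rc_9_2 lc_b_rc_8_2 lc_b_rc_26_5 lc_b_rc_1_1 lc_b_rc_9_2 lc_b_Cert_tree lc_b_rc_9_2 lc_b_rc_6_1 lc_b_rc_8_2 lc_b_rc_7_2 lc_b_rc_9_2 lc_b_rc_8_2 lc_b_rc_10_2 lc_b_rc_8_2 lc_b_rc_9_2 lc_b_rc_8_2 lc_b_rc_6_1 lc_b_rc_26_1 lc_b_rc_8_2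 lc_b_rc_9_2 lc_b_rc_9_2 lc_b_rc_1_5 lc_b_rc_8_2 lc_b_rc_10_2 lc_b_rc_9_2 lc_b_Cert_tree lc_b_rc_8_2 lc_b_rc_10_2 lc_b_rc_6_1 lc_b_rc_26_5 lc_b_rc_8_2 lc_b_rc_7_2 lc_b_rc_6_1 lc_b_rc_8_2 lc_b_rc_26_5) (@D3.rec (fun _ => (Cert rels S Gen.b)) lc_b_rc_26_1 lc_b_rc_8_2 lc_b_rc_6_1 lc_b_rc_8_2 lc_b_rc_9_2 lc_b_rc_9_0 lc_b_rc_9_2 lc_b_rc_6_1 lc_b_rc_8_2 lc_b_rc_9_2 lc_b_rc_8_2 lc_b_rc_8_2 lc_b_rc_9_2 lc_b_rc_9_2 lc_b_Cert_tree lc_b_rc_6_1 lc_b_rc_6_1 lc_b_rc_9_2 lc_b_rc_8_2 lc_b_rc_9_2 lc_b_rc_26_5 lc_b_rc_10_2 lc_b_rc_26_1 lc_b_rc_8_0 lc_b_rc_9_2 lc_b_rc_10_2 lc_b_rc_6_1 lc_b_rc_9_2 lc_b_Cert_tree lc_b_rc_6_1 lc_b_rc_10_2 lc_b_Cert_tree lc_b_rc_8_0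 lc_b_Cert_tree lc_b_rc_8_2 lc_b_rc_6_1 lc_b_rc_9_2 lc_b_rc_7_4 lc_b_rc_10_0 lc_b_rc_9_2 lc_b_rc_9_2 lc_b_Cert_tree lc_b_rc_26_7 lc_b_rc_8_2 lc_b_rc_10_2 lc_b_rc_26_5 lc_b_Cert_tree lc_b_rc_8_2 lc_b_rc_10_2 lc_b_rc_8_0 lc_b_rc_8_2 lc_b_rc_10_2 lc_b_rc_26_1 lc_b_Cert_tree lc_b_rc_8_2 lc_b_rc_10_2 lc_b_rc_26_1 lc_b_rc_6_1 lc_b_rc_7_2 lc_b_rc_9_2 lc_b_rc_7_0 lc_b_rc_9_2) (@D3.rec (fun _ => (Cert rels S Gen.b)) lc_b_rc_9_0 lc_b_rc_6_1 lc_b_rc_6_1 lc_b_Cert_tree lc_b_rc_26_7 lc_b_rc_9_2 lc_b_rc_6_1 lc_b_rc_8_2 lc_b_rc_9_2 lc_b_Cert_tree lc_b_Cert_tree lc_b_Cert_tree lc_b_rc_10_2 lc_b_rc_7_0 lc_b_rc_6_1 lc_b_rc_8_2 lc_b_Cert_tree lc_b_Cert_tree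 lc_b_rc_25_8 lc_b_rc_10_0 lc_b_rc_26_1 lc_b_rc_7_2 lc_b_rc_8_2 lc_b_rc_8_2 lc_b_Cert_tree lc_b_rc_6_1 lc_b_Cert_tree lc_b_rc_9_0 lc_b_rc_9_2 lc_b_rc_6_1 lc_b_Cert_tree lc_b_rc_9_2 lc_b_rc_9_2 lc_b_Cert_tree lc_b_Cert_tree lc_b_rc_6_1 lc_b_rc_8_2 lc_b_rc_10_2 lc_b_rc_9_2 lc_b_rc_6_1 lc_b_rc_8_2 lc_b_rc_6_1 lc_b_rc_8_0 lc_b_rc_26_5 lc_b_rc_6_1 lc_b_rc_10_2 lc_b_rc_6_1 lc_b_rc_8_2 lc_b_rc_26_5 lc_b_rc_1_3 lc_b_rc_8_2 lc_b_rc_9_2 lc_b_Cert_tree lc_b_rc_26_7 lc_b_Cert_tree lc_b_rc_9_2 lc_b_rc_1_5 lc_b_rc_8_2 lc_b_Cert_tree lc_b_rc_9_2 lc_b_Cert_tree lc_b_rc_8_2) (@D3.rec (fun _ => (Cert rels S Gen.b)) lc_b_rc_26_1 lc_b_rc_26_5 lc_b_rc_6_1 lc_b_rc_8_2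 lc_b_rc_25_0 lc_b_rc_8_2 lc_b_rc_10_2 lc_b_rc_6_1 lc_b_rc_1_1 lc_b_rc_7_0 lc_b_rc_9_0 lc_b_rc_6_1 lc_b_rc_8_2 lc_b_rc_26_5 lc_b_rc_1_1 lc_b_rc_8_0 lc_b_rc_10_0 lc_b_rc_9_2 lc_b_rc_10_2 lc_b_rc_26_5 lc_b_rc_1_3 lc_b_rc_8_2 lc_b_Cert_tree lc_b_rc_6_1 lc_b_rc_8_2 lc_b_rc_9_2 lc_b_rc_8_2 lc_b_rc_6_1 lc_b_rc_7_4 lc_b_rc_9_2 lc_b_rc_9_2 lc_b_Cert_tree lc_b_rc_9_2 lc_b_rc_6_1 lc_b_rc_8_2 lc_b_rc_9_2 lc_b_rc_8_0 lc_b_rc_10_2 lc_b_rc_1_5 lc_b_rc_6_1 lc_b_rc_8_2 lc_b_rc_9_2 lc_b_rc_6_1 lc_b_Cert_tree lc_b_Cert_tree lc_b_rc_9_2 lc_b_rc_6_1 lc_b_rc_8_2 lc_b_rc_9_2 lc_b_rc_9_2 lc_b_rc_9_0 lc_b_rc_26_1 lc_b_rc_6_1 lc_b_rc_8_2 lc_b_rc_9_2 lc_b_rc_6_1 lc_b_rc_8_2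 lc_b_rc_26_5 lc_b_rc_6_1 lc_b_Cert_tree lc_b_rc_1_3 lc_b_rc_8_2) (@D3.rec (fun _ => (Cert rels S Gen.b)) lc_b_Cert_tree lc_b_Cert_tree lc_b_rc_9_2 lc_b_rc_8_2 lc_b_rc_9_2 lc_b_rc_10_2 lc_b_rc_6_1 lc_b_rc_8_2 lc_b_rc_9_2 lc_b_rc_9_2 lc_b_rc_9_0 lc_b_rc_8_0 lc_b_rc_6_1 lc_b_rc_1_1 lc_b_rc_6_1 lc_b_rc_26_5 lc_b_rc_1_5 lc_b_rc_10_2 lc_b_rc_8_2 lc_b_rc_9_2 lc_b_rc_26_1 lc_b_rc_26_5 lc_b_rc_6_1 lc_b_rc_6_1 lc_b_rc_9_2 lc_b_rc_8_2 lc_b_rc_8_0 lc_b_rc_9_2 lc_b_rc_6_1 lc_b_rc_6_1 lc_b_rc_7_2 lc_b_rc_8_2 lc_b_rc_7_2 lc_b_Cert_tree lc_b_rc_9_0 lc_b_rc_10_2 lc_b_rc_9_2 lc_b_rc_8_2 lc_b_rc_8_2 lc_b_rc_25_12 lc_b_rc_6_1 lc_b_rc_26_7 lc_b_rc_6_1 lc_b_rc_6_1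 lc_b_rc_8_2 lc_b_Cert_tree lc_b_rc_7_2 lc_b_rc_8_2 lc_b_rc_8_2 lc_b_rc_9_2 lc_b_rc_26_1 lc_b_Cert_tree lc_b_rc_8_2 lc_b_rc_9_2 lc_b_rc_10_2 lc_b_rc_26_1 lc_b_rc_8_2 lc_b_rc_8_0 lc_b_rc_9_2 lc_b_rc_9_0 lc_b_rc_10_0 lc_b_rc_9_2) (@D3.rec (fun _ => (Cert rels S Gen.b)) lc_b_rc_1_3 lc_b_rc_6_1 lc_b_rc_9_2 lc_b_Cert_tree lc_b_rc_9_0 lc_b_rc_10_2 lc_b_rc_6_1 lc_b_rc_26_1 lc_b_rc_9_2 lc_b_rc_1_1 lc_b_rc_6_1 lc_b_Cert_tree lc_b_Cert_tree lc_b_rc_10_2 lc_b_Cert_tree lc_b_rc_6_1 lc_b_rc_9_2 lc_b_rc_1_1 lc_b_rc_7_2 lc_b_rc_6_1 lc_b_rc_9_2 lc_b_rc_9_0 lc_b_rc_6_1 lc_b_rc_9_2 lc_b_rc_7_2 lc_b_rc_1_3 lc_b_rc_10_2 lc_b_Cert_tree lc_b_rc_8_2 lc_b_rc_6_1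 lc_b_rc_8_2 lc_b_rc_6_1 lc_b_rc_10_2 lc_b_rc_6_1 lc_b_rc_6_1 lc_b_rc_1_5 lc_b_rc_9_2 lc_b_rc_9_2 lc_b_rc_8_2 lc_b_rc_10_2 lc_b_rc_26_5 lc_b_rc_9_2 lc_b_rc_1_5 lc_b_rc_1_1 lc_b_rc_6_1 lc_b_rc_6_1 lc_b_rc_1_5 lc_b_rc_10_2 lc_b_rc_26_7 lc_b_rc_8_0 lc_b_rc_7_4 lc_b_rc_26_1 lc_b_rc_6_1 lc_b_rc_9_2 lc_b_rc_8_0 lc_b_rc_6_1 lc_b_rc_26_5 lc_b_rc_6_1 lc_b_rc_6_1 lc_b_rc_6_1 lc_b_Cert_tree lc_b_rc_26_1) (@D3.rec (fun _ => (Cert rels S Gen.b)) lc_b_rc_1_3 lc_b_rc_6_1 lc_b_rc_10_0 lc_b_rc_8_2 lc_b_Cert_tree lc_b_rc_6_1 lc_b_rc_26_5 lc_b_rc_8_2 lc_b_Cert_tree lc_b_Cert_tree lc_b_rc_7_4 lc_b_rc_9_2 lc_b_rc_7_4 lc_b_rc_9_2 lc_b_Cert_tree lc_b_rc_9_2 lc_b_rc_9_0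 lc_b_Cert_tree lc_b_rc_6_1 lc_b_rc_8_2 lc_b_rc_9_2 lc_b_rc_8_2 lc_b_rc_6_1 lc_b_rc_9_2 lc_b_rc_26_5 lc_b_rc_8_0 lc_b_rc_6_1 lc_b_Cert_tree lc_b_rc_1_3 lc_b_rc_9_2 lc_b_Cert_tree lc_b_rc_1_1 lc_b_rc_25_8 lc_b_rc_9_2 lc_b_Cert_tree lc_b_rc_8_0 lc_b_rc_1_1 lc_b_rc_10_0 lc_b_rc_9_2 lc_b_rc_7_2 lc_b_rc_8_2 lc_b_rc_10_2 lc_b_rc_6_1 lc_b_rc_6_1 lc_b_rc_1_1 lc_b_rc_9_2 lc_b_rc_7_0 lc_b_rc_9_2 lc_b_Cert_tree lc_b_rc_8_0 lc_b_rc_10_2 lc_b_rc_8_2 lc_b_rc_1_5 lc_b_rc_9_2 lc_b_Cert_tree lc_b_rc_8_2 lc_b_rc_10_2 lc_b_rc_6_1 lc_b_Cert_tree lc_b_rc_7_0 lc_b_rc_9_2 lc_b_Cert_tree) (@D3.rec (fun _ => (Cert rels S Gen.b)) lc_b_rc_8_2 lc_b_rc_10_2 lc_b_rc_6_1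 lc_b_Cert_tree lc_b_rc_8_2 lc_b_rc_8_0 lc_b_rc_9_0 lc_b_Cert_tree lc_b_rc_6_1 lc_b_rc_1_5 lc_b_rc_9_2 lc_b_rc_7_0 lc_b_rc_9_2 lc_b_rc_8_2 lc_b_rc_10_2 lc_b_Cert_tree lc_b_rc_8_2 lc_b_rc_8_2 lc_b_rc_1_3 lc_b_rc_8_0 lc_b_Cert_tree lc_b_rc_1_3 lc_b_rc_7_4 lc_b_rc_9_2 lc_b_rc_8_2 lc_b_rc_10_2 lc_b_rc_7_0 lc_b_Cert_tree lc_b_rc_1_3 lc_b_rc_6_1 lc_b_Cert_tree lc_b_rc_8_2 lc_b_rc_9_2 lc_b_rc_26_5 lc_b_rc_8_2 lc_b_rc_9_2 lc_b_rc_1_3 lc_b_Cert_tree lc_b_rc_7_4 lc_b_rc_7_4 lc_b_rc_9_2 lc_b_rc_7_4 lc_b_Cert_tree lc_b_rc_6_1 lc_b_rc_8_2 lc_b_rc_9_2 lc_b_Cert_tree lc_b_Cert_tree lc_b_rc_10_2 lc_b_Cert_tree lc_b_rc_1_3 lc_b_rc_9_2 lc_b_rc_6_1 lc_b_rc_1_3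 lc_b_rc_7_4 lc_b_rc_9_2 lc_b_Cert_tree lc_b_rc_6_1 lc_b_rc_10_2 lc_b_rc_8_2 lc_b_rc_6_1 lc_b_rc_26_1) (@D3.rec (fun _ => (Cert rels S Gen.b)) lc_b_rc_9_2 lc_b_rc_6_1 lc_b_rc_8_2 lc_b_rc_9_2 lc_b_rc_9_2 lc_b_rc_9_2 lc_b_Cert_tree lc_b_rc_7_4 lc_b_rc_10_2 lc_b_rc_8_2 lc_b_Cert_tree lc_b_rc_7_4 lc_b_Cert_tree lc_b_rc_7_0 lc_b_rc_6_1 lc_b_rc_1_5 lc_b_rc_6_1 lc_b_rc_9_2 lc_b_rc_6_1 lc_b_rc_10_2 lc_b_rc_6_1 lc_b_rc_9_2 lc_b_rc_26_5 lc_b_rc_10_2 lc_b_rc_6_1 lc_b_rc_8_2 lc_b_rc_9_2 lc_b_rc_6_1 lc_b_rc_10_2 lc_b_rc_9_2 lc_b_Cert_tree lc_b_Cert_tree lc_b_rc_1_3 lc_b_rc_8_2 lc_b_rc_10_2 lc_b_Cert_tree lc_b_rc_7_4 lc_b_rc_9_2 lc_b_rc_9_2 lc_b_Cert_tree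 lc_b_rc_10_2 lc_b_rc_9_2 lc_b_rc_9_2 lc_b_rc_10_2 lc_b_rc_6_1 lc_b_rc_9_2 lc_b_rc_9_2 lc_b_rc_10_2 lc_b_rc_6_1 lc_b_rc_1_5 lc_b_rc_6_1 lc_b_rc_9_2 lc_b_rc_7_4 lc_b_Cert_tree lc_b_rc_9_2 lc_b_Cert_tree lc_b_Cert_tree lc_b_rc_8_2 lc_b_rc_10_2 lc_b_rc_7_2 lc_b_rc_7_4 lc_b_rc_6_1) (@D3.rec (fun _ => (Cert rels S Gen.b)) lc_b_rc_9_2 lc_b_Cert_tree lc_b_Cert_tree lc_b_rc_1_1 lc_b_rc_9_2 lc_b_rc_9_2 lc_b_Cert_tree lc_b_rc_8_2 lc_b_rc_10_2 lc_b_Cert_tree lc_b_Cert_tree lc_b_rc_9_2 lc_b_rc_26_1 lc_b_rc_26_5 lc_b_rc_10_2 lc_b_rc_6_1 lc_b_rc_26_7 lc_b_rc_6_1 lc_b_Cert_tree lc_b_Cert_tree lc_b_rc_8_2 lc_b_rc_10_2 lc_b_Cert_tree lc_b_rc_8_2 lc_b_rc_7_4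 lc_b_rc_9_2 lc_b_rc_26_7 lc_b_rc_9_2 lc_b_rc_10_2 lc_b_rc_26_7 lc_b_rc_7_4 lc_b_rc_1_3 lc_b_rc_8_2 lc_b_rc_9_2 lc_b_rc_9_2 lc_b_rc_26_7 lc_b_Cert_tree lc_b_rc_8_2 lc_b_rc_10_2 lc_b_rc_9_2 lc_b_rc_8_2 lc_b_Cert_tree lc_b_rc_6_1 lc_b_Cert_tree lc_b_rc_1_3 lc_b_rc_9_2 lc_b_Cert_tree lc_b_rc_9_2 lc_b_rc_8_2 lc_b_rc_10_2 lc_b_Cert_tree lc_b_rc_7_2 lc_b_rc_10_2 lc_b_rc_7_4 lc_b_rc_8_2 lc_b_rc_9_2 lc_b_rc_9_2 lc_b_rc_8_2 lc_b_rc_10_2 lc_b_rc_10_2 lc_b_rc_10_2 lc_b_rc_6_1) (@D3.rec (fun _ => (Cert rels S Gen.b)) lc_b_Cert_tree lc_b_rc_10_0 lc_b_rc_9_2 lc_b_rc_1_1 lc_b_rc_7_2 lc_b_rc_9_2 lc_b_rc_8_2 lc_b_rc_25_4 lc_b_rc_6_1 lc_b_Cert_tree lc_b_rc_9_2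 lc_b_rc_10_2 lc_b_rc_9_2 lc_b_rc_6_1 lc_b_rc_9_2 lc_b_rc_6_1 lc_b_rc_9_2 lc_b_rc_6_1 lc_b_rc_9_2 lc_b_rc_8_2 lc_b_rc_1_5 lc_b_rc_10_2 lc_b_rc_8_0 lc_b_Cert_tree lc_b_Cert_tree lc_b_rc_9_0 lc_b_rc_6_1 lc_b_Cert_tree lc_b_rc_9_2 lc_b_Cert_tree lc_b_rc_8_2 lc_b_rc_6_1 lc_b_rc_9_2 lc_b_rc_6_1 lc_b_Cert_tree lc_b_Cert_tree lc_b_rc_1_3 lc_b_rc_8_2 lc_b_rc_9_2 lc_b_Cert_tree lc_b_Cert_tree lc_b_rc_10_0 lc_b_rc_7_4 lc_b_Cert_tree lc_b_Cert_tree lc_b_rc_7_2 lc_b_rc_6_1 lc_b_Cert_tree lc_b_rc_9_2 lc_b_rc_6_1 lc_b_rc_26_5 lc_b_rc_1_3 lc_b_Cert_tree lc_b_rc_6_1 lc_b_rc_7_4 lc_b_rc_6_1 lc_b_rc_9_2 lc_b_rc_6_1 lc_b_rc_8_2 lc_b_rc_10_2 lc_b_rc_6_1 lc_b_rc_6_1)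 (@D3.rec (fun _ => (Cert rels S Gen.b)) lc_b_rc_6_1 lc_b_Cert_tree lc_b_rc_1_3 lc_b_rc_8_2 lc_b_rc_9_2 lc_b_Cert_tree lc_b_Cert_tree lc_b_rc_9_2 lc_b_Cert_tree lc_b_rc_8_2 lc_b_rc_7_4 lc_b_Cert_tree lc_b_Cert_tree lc_b_rc_6_1 lc_b_Cert_tree lc_b_rc_9_2 lc_b_rc_9_2 lc_b_Cert_tree lc_b_rc_6_1 lc_b_rc_6_1 lc_b_rc_6_1 lc_b_rc_1_3 lc_b_rc_1_3 lc_b_rc_8_2 lc_b_rc_9_2 lc_b_rc_9_2 lc_b_Cert_tree lc_b_Cert_tree lc_b_rc_8_2 lc_b_rc_7_4 lc_b_rc_6_1 lc_b_Cert_tree lc_b_rc_8_2 lc_b_rc_6_1 lc_b_Cert_tree lc_b_rc_9_2 lc_b_rc_6_1 lc_b_Cert_tree lc_b_rc_9_2 lc_b_rc_26_5 lc_b_rc_1_3 lc_b_rc_9_2 lc_b_Cert_tree lc_b_rc_6_1 lc_b_rc_8_2 lc_b_rc_8_2 lc_b_rc_6_1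 lc_b_rc_6_1 lc_b_rc_26_1 lc_b_Cert_tree lc_b_rc_6_1 lc_b_rc_8_2 lc_b_rc_8_0 lc_b_rc_6_1 lc_b_rc_6_1 lc_b_rc_9_2 lc_b_Cert_tree lc_b_rc_1_1 lc_b_rc_8_2 lc_b_rc_26_7 lc_b_rc_8_2 lc_b_rc_7_4) (@D3.rec (fun _ => (Cert rels S Gen.b)) lc_b_rc_26_5 lc_b_rc_8_2 lc_b_Cert_tree lc_b_rc_6_1 lc_b_Cert_tree lc_b_rc_6_1 lc_b_rc_26_5 lc_b_rc_9_2 lc_b_rc_7_4 lc_b_Cert_tree lc_b_rc_6_1 lc_b_rc_26_5 lc_b_rc_1_3 lc_b_rc_6_1 lc_b_Cert_tree lc_b_rc_8_2 lc_b_rc_9_2 lc_b_rc_8_2 lc_b_Cert_tree lc_b_Cert_tree lc_b_rc_7_0 lc_b_Cert_tree lc_b_rc_26_1 lc_b_rc_8_2 lc_b_rc_1_3 lc_b_rc_10_2 lc_b_rc_7_2 lc_b_rc_26_5 lc_b_rc_6_1 lc_b_rc_26_1 lc_b_rc_9_2 lc_b_rc_6_1 lc_b_rc_6_1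 lc_b_rc_10_2 lc_b_rc_9_2 lc_b_rc_26_1 lc_b_rc_26_7 lc_b_Cert_tree lc_b_rc_7_0 lc_b_rc_8_2 lc_b_rc_9_2 lc_b_rc_9_0 lc_b_rc_6_1 lc_b_rc_8_0 lc_b_rc_7_4 lc_b_rc_8_2 lc_b_rc_6_1 lc_b_rc_9_2 lc_b_rc_6_1 lc_b_rc_9_2 lc_b_rc_6_1 lc_b_rc_8_0 lc_b_Cert_tree lc_b_rc_1_3 lc_b_rc_8_2 lc_b_rc_9_2 lc_b_rc_6_1 lc_b_Cert_tree lc_b_Cert_tree lc_b_rc_8_2 lc_b_rc_7_4 lc_b_rc_6_1) (@D3.rec (fun _ => (Cert rels S Gen.b)) lc_b_Cert_tree lc_b_rc_6_1 lc_b_Cert_tree lc_b_rc_9_2 lc_b_Cert_tree lc_b_rc_9_2 lc_b_rc_6_1 lc_b_rc_26_5 lc_b_rc_7_4 lc_b_rc_8_0 lc_b_rc_8_0 lc_b_rc_7_4 lc_b_rc_9_2 lc_b_Cert_tree lc_b_Cert_tree lc_b_rc_1_3 lc_b_rc_8_2 lc_b_rc_9_2 lc_b_rc_9_2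 lc_b_Cert_tree lc_b_rc_8_2 lc_b_rc_10_2 lc_b_Cert_tree lc_b_rc_9_2 lc_b_rc_1_1 lc_b_Cert_tree lc_b_rc_8_2 lc_b_rc_10_2 lc_b_rc_26_7 lc_b_rc_1_3 lc_b_rc_7_4 lc_b_rc_6_1 lc_b_rc_6_1 lc_b_rc_9_2 lc_b_rc_1_3 lc_b_rc_8_2 lc_b_rc_8_2 lc_b_rc_9_2 lc_b_rc_1_1 lc_b_rc_8_2 lc_b_rc_26_5 lc_b_rc_9_2 lc_b_rc_9_2 lc_b_rc_9_2 lc_b_rc_10_0 lc_b_rc_8_0 lc_b_Cert_tree lc_b_rc_8_2 lc_b_rc_8_2 lc_b_Cert_tree lc_b_rc_10_2 lc_b_rc_9_0 lc_b_rc_1_3 lc_b_rc_8_2 lc_b_rc_10_2 lc_b_rc_10_2 lc_b_rc_6_1 lc_b_rc_6_1 lc_b_rc_8_2 lc_b_rc_9_2 lc_b_rc_6_1 lc_b_rc_26_5) (@D3.rec (fun _ => (Cert rels S Gen.b)) lc_b_rc_1_5 lc_b_rc_9_2 lc_b_rc_9_0 lc_b_rc_9_2 lc_b_rc_6_1 lc_b_rc_10_0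 lc_b_rc_10_2 lc_b_rc_6_1 lc_b_rc_9_0 lc_b_rc_8_0 lc_b_rc_7_2 lc_b_rc_8_2 lc_b_rc_9_2 lc_b_Cert_tree lc_b_rc_8_2 lc_b_rc_26_5 lc_b_rc_7_4 lc_b_rc_6_1 lc_b_rc_9_2 lc_b_Cert_tree lc_b_rc_26_5 lc_b_rc_6_1 lc_b_rc_9_2 lc_b_rc_10_0 lc_b_rc_1_5 lc_b_rc_7_0 lc_b_rc_9_2 lc_b_rc_6_1 lc_b_rc_6_1 lc_b_rc_9_0 lc_b_Cert_tree lc_b_rc_26_1 lc_b_rc_9_2 lc_b_rc_8_2 lc_b_rc_10_2 lc_b_rc_26_1 lc_b_Cert_tree lc_b_rc_6_1 lc_b_rc_9_0 lc_b_rc_8_2 lc_b_rc_9_2 lc_b_rc_8_2 lc_b_rc_7_2 lc_b_rc_26_5 lc_b_rc_6_1 lc_b_rc_9_2 lc_b_rc_26_5 lc_b_rc_26_5 lc_b_rc_8_2 lc_b_rc_10_2 lc_b_rc_6_1 lc_b_rc_6_1 lc_b_rc_6_1 lc_b_rc_1_3 lc_b_rc_9_2 lc_b_Cert_tree lc_b_rc_26_7 lc_b_rc_10_2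 lc_b_Cert_tree lc_b_rc_6_1 lc_b_rc_8_2 lc_b_rc_8_2) (@D3.rec (fun _ => (Cert rels S Gen.b)) lc_b_rc_9_2 lc_b_rc_6_1 lc_b_rc_8_2 lc_b_rc_9_2 lc_b_rc_1_5 lc_b_rc_6_1 lc_b_rc_6_1 lc_b_rc_8_2 lc_b_rc_8_2 lc_b_rc_7_4 lc_b_rc_6_1 lc_b_rc_26_1 lc_b_rc_9_2 lc_b_rc_8_0 lc_b_rc_6_1 lc_b_rc_6_1 lc_b_rc_8_2 lc_b_rc_6_1 lc_b_rc_26_1 lc_b_rc_10_2 lc_b_rc_10_2 lc_b_Cert_tree lc_b_Cert_tree lc_b_rc_1_3 lc_b_rc_6_1 lc_b_rc_9_2 lc_b_rc_6_1 lc_b_rc_6_1 lc_b_rc_10_2 lc_b_rc_8_2 lc_b_rc_9_2 lc_b_rc_6_1 lc_b_rc_8_2 lc_b_rc_9_2 lc_b_rc_25_0 lc_b_Cert_tree lc_b_rc_8_0 lc_b_rc_10_2 lc_b_rc_9_2 lc_b_rc_6_1 lc_b_rc_9_2 lc_b_rc_7_4 lc_b_rc_6_1 lc_b_rc_10_2 lc_b_rc_7_2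 lc_b_rc_9_2 lc_b_rc_6_1 lc_b_rc_8_2 lc_b_rc_26_5 lc_b_rc_10_2 lc_b_rc_6_1 lc_b_rc_7_2 lc_b_Cert_tree lc_b_rc_25_4 lc_b_rc_1_3 lc_b_rc_8_2 lc_b_rc_10_2 lc_b_Cert_tree lc_b_rc_7_2 lc_b_rc_6_1 lc_b_Cert_tree lc_b_rc_1_1)
def ce_b_12 : D2 → D3 → (Cert rels S Gen.b) := @D2.rec (fun _ => D3 → (Cert rels S Gen.b)) (@D3.rec (fun _ => (Cert rels S Gen.b)) lc_b_rc_6_1 lc_b_Cert_tree lc_b_rc_9_2 lc_b_rc_6_1 lc_b_rc_10_2 lc_b_Cert_tree lc_b_rc_6_1 lc_b_rc_8_2 lc_b_rc_6_1 lc_b_rc_8_2 lc_b_rc_6_1 lc_b_rc_8_2 lc_b_Cert_tree lc_b_rc_6_1 lc_b_rc_8_2 lc_b_rc_9_2 lc_b_rc_9_2 lc_b_Cert_tree lc_b_rc_6_1 lc_b_rc_8_2 lc_b_rc_6_1 lc_b_rc_8_2 lc_b_rc_9_2 lc_b_rc_8_2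 lc_b_Cert_tree lc_b_Cert_tree lc_b_rc_1_3 lc_b_rc_8_2 lc_b_Cert_tree lc_b_Cert_tree lc_b_rc_9_2 lc_b_rc_25_4 lc_b_rc_9_2 lc_b_rc_6_1 lc_b_Cert_tree lc_b_rc_9_2 lc_b_rc_6_1 lc_b_rc_8_2 lc_b_rc_9_2 lc_b_rc_8_0 lc_b_rc_8_2 lc_b_rc_10_2 lc_b_rc_9_2 lc_b_Cert_tree lc_b_rc_6_1 lc_b_rc_1_3 lc_b_Cert_tree lc_b_rc_6_1 lc_b_rc_8_2 lc_b_rc_6_1 lc_b_rc_6_1 lc_b_rc_9_2 lc_b_Cert_tree lc_b_Cert_tree lc_b_rc_1_3 lc_b_rc_8_2 lc_b_rc_10_2 lc_b_Cert_tree lc_b_Cert_tree lc_b_rc_9_2 lc_b_rc_6_1 lc_b_rc_9_2) (@D3.rec (fun _ => (Cert rels S Gen.b)) lc_b_rc_6_1 lc_b_Cert_tree lc_b_Cert_tree lc_b_rc_1_3 lc_b_rc_8_2 lc_b_Cert_tree lc_b_rc_1_3 lc_b_rc_9_2 lc_b_rc_6_1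 lc_b_rc_7_2 lc_b_rc_9_2 lc_b_rc_6_1 lc_b_rc_26_5 lc_b_rc_9_2 lc_b_rc_8_2 lc_b_rc_9_2 lc_b_rc_9_2 lc_b_rc_6_1 lc_b_rc_10_2 lc_b_rc_1_5 lc_b_rc_7_4 lc_b_rc_9_2 lc_b_rc_6_1 lc_b_rc_7_0 lc_b_rc_9_2 lc_b_rc_6_1 lc_b_rc_1_5 lc_b_rc_8_2 lc_b_rc_9_2 lc_b_rc_26_5 lc_b_rc_7_0 lc_b_rc_9_2 lc_b_rc_8_2 lc_b_rc_7_4 lc_b_rc_26_5 lc_b_rc_9_2 lc_b_rc_9_2 lc_b_rc_9_2 lc_b_rc_9_2 lc_b_rc_10_2 lc_b_rc_7_0 lc_b_rc_8_2 lc_b_rc_10_2 lc_b_rc_10_2 lc_b_rc_10_2 lc_b_rc_26_5 lc_b_rc_8_0 lc_b_rc_9_0 lc_b_rc_10_2 lc_b_rc_6_1 lc_b_rc_8_2 lc_b_rc_9_2 lc_b_rc_6_1 lc_b_rc_26_1 lc_b_rc_6_1 lc_b_rc_26_5 lc_b_rc_9_2 lc_b_rc_8_0 lc_b_Cert_tree lc_b_Cert_tree lc_b_rc_8_2 lc_b_rc_26_7)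 (@D3.rec (fun _ => (Cert rels S Gen.b)) lc_b_rc_8_0 lc_b_Cert_tree lc_b_rc_6_1 lc_b_rc_1_3 lc_b_Cert_tree lc_b_rc_9_2 lc_b_rc_10_2 lc_b_Cert_tree lc_b_rc_7_4 lc_b_rc_8_2 lc_b_rc_26_1 lc_b_rc_9_2 lc_b_rc_8_2 lc_b_rc_9_2 lc_b_rc_7_2 lc_b_rc_7_0 lc_b_rc_26_1 lc_b_rc_9_2 lc_b_rc_1_5 lc_b_rc_6_1 lc_b_rc_8_2 lc_b_rc_10_2 lc_b_rc_25_0 lc_b_rc_9_2 lc_b_rc_6_1 lc_b_rc_6_1 lc_b_rc_1_1 lc_b_rc_7_0 lc_b_rc_8_2 lc_b_rc_9_2 lc_b_rc_8_2 lc_b_rc_9_2 lc_b_rc_26_5 lc_b_rc_9_2 lc_b_rc_6_1 lc_b_rc_9_2 lc_b_rc_9_2 lc_b_rc_7_4 lc_b_rc_8_2 lc_b_rc_10_2 lc_b_rc_6_1 lc_b_rc_8_2 lc_b_rc_26_7 lc_b_rc_10_2 lc_b_rc_6_1 lc_b_rc_9_0 lc_b_rc_7_0 lc_b_rc_1_5 lc_b_rc_10_2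 lc_b_rc_7_4 lc_b_Cert_tree lc_b_rc_8_2 lc_b_rc_7_2 lc_b_rc_6_1 lc_b_rc_8_2 lc_b_rc_9_0 lc_b_Cert_tree lc_b_rc_8_2 lc_b_rc_8_2 lc_b_rc_10_2 lc_b_rc_8_2 lc_b_rc_9_2) (@D3.rec (fun _ => (Cert rels S Gen.b)) lc_b_rc_26_7 lc_b_rc_9_2 lc_b_rc_7_2 lc_b_rc_8_2 lc_b_rc_10_2 lc_b_rc_6_1 lc_b_rc_8_2 lc_b_rc_10_2 lc_b_Cert_tree lc_b_rc_1_5 lc_b_Cert_tree lc_b_rc_9_2 lc_b_rc_6_1 lc_b_rc_8_2 lc_b_rc_9_2 lc_b_rc_7_4 lc_b_rc_9_2 lc_b_Cert_tree lc_b_rc_25_8 lc_b_rc_6_1 lc_b_rc_8_2 lc_b_rc_6_1 lc_b_rc_8_2 lc_b_rc_6_1 lc_b_rc_6_1 lc_b_rc_9_2 lc_b_Cert_tree lc_b_rc_8_2 lc_b_rc_1_3 lc_b_rc_8_2 lc_b_rc_9_2 lc_b_rc_9_0 lc_b_rc_8_2 lc_b_rc_8_2 lc_b_rc_6_1 lc_b_Cert_tree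 lc_b_rc_9_2 lc_b_rc_9_2 lc_b_Cert_tree lc_b_Cert_tree lc_b_rc_1_1 lc_b_Cert_tree lc_b_rc_26_5 lc_b_Cert_tree lc_b_rc_6_1 lc_b_rc_8_2 lc_b_rc_6_1 lc_b_rc_8_2 lc_b_rc_8_2 lc_b_rc_1_5 lc_b_rc_9_2 lc_b_Cert_tree lc_b_Cert_tree lc_b_rc_7_4 lc_b_rc_6_1 lc_b_rc_9_2 lc_b_rc_9_2 lc_b_rc_6_1 lc_b_rc_10_2 lc_b_rc_9_0 lc_b_rc_9_2 lc_b_rc_6_1) (@D3.rec (fun _ => (Cert rels S Gen.b)) lc_b_rc_26_7 lc_b_rc_6_1 lc_b_rc_6_1 lc_b_rc_9_2 lc_b_rc_1_1 lc_b_Cert_tree lc_b_rc_9_2 lc_b_rc_6_1 lc_b_rc_7_4 lc_b_rc_9_2 lc_b_Cert_tree lc_b_Cert_tree lc_b_rc_1_3 lc_b_rc_6_1 lc_b_rc_26_1 lc_b_rc_8_2 lc_b_rc_6_1 lc_b_rc_9_2 lc_b_rc_26_5 lc_b_rc_10_2 lc_b_rc_8_2 lc_b_Cert_tree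 lc_b_rc_7_4 lc_b_rc_8_2 lc_b_rc_6_1 lc_b_rc_9_2 lc_b_rc_6_1 lc_b_rc_6_1 lc_b_rc_8_2 lc_b_rc_6_1 lc_b_rc_8_2 lc_b_rc_8_2 lc_b_rc_8_2 lc_b_rc_9_2 lc_b_rc_9_2 lc_b_rc_8_2 lc_b_Cert_tree lc_b_Cert_tree lc_b_rc_9_2 lc_b_rc_1_5 lc_b_rc_6_1 lc_b_rc_9_0 lc_b_rc_6_1 lc_b_Cert_tree lc_b_rc_6_1 lc_b_rc_9_0 lc_b_rc_8_2 lc_b_rc_9_2 lc_b_rc_7_2 lc_b_rc_9_2 lc_b_rc_6_1 lc_b_rc_6_1 lc_b_rc_26_7 lc_b_rc_6_1 lc_b_rc_8_0 lc_b_rc_8_2 lc_b_rc_1_3 lc_b_rc_8_2 lc_b_rc_7_0 lc_b_rc_6_1 lc_b_Cert_tree lc_b_rc_9_2) (@D3.rec (fun _ => (Cert rels S Gen.b)) lc_b_rc_6_1 lc_b_rc_26_5 lc_b_rc_9_2 lc_b_rc_6_1 lc_b_rc_8_0 lc_b_Cert_tree lc_b_rc_26_7 lc_b_Cert_tree lc_b_rc_9_2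 lc_b_Cert_tree lc_b_rc_9_2 lc_b_rc_6_1 lc_b_Cert_tree lc_b_rc_9_2 lc_b_Cert_tree lc_b_rc_8_2 lc_b_Cert_tree lc_b_Cert_tree lc_b_rc_6_1 lc_b_rc_9_2 lc_b_rc_26_1 lc_b_rc_1_1 lc_b_rc_8_2 lc_b_Cert_tree lc_b_rc_9_2 lc_b_rc_8_2 lc_b_rc_26_5 lc_b_rc_6_1 lc_b_rc_8_2 lc_b_Cert_tree lc_b_rc_10_2 lc_b_rc_8_2 lc_b_rc_9_0 lc_b_rc_9_2 lc_b_rc_8_2 lc_b_rc_8_2 lc_b_rc_7_4 lc_b_rc_9_2 lc_b_Cert_tree lc_b_rc_6_1 lc_b_rc_26_7 lc_b_rc_8_2 lc_b_Cert_tree lc_b_rc_6_1 lc_b_rc_8_2 lc_b_rc_7_4 lc_b_rc_9_2 lc_b_Cert_tree lc_b_rc_6_1 lc_b_rc_1_3 lc_b_rc_9_2 lc_b_rc_9_2 lc_b_rc_7_2 lc_b_Cert_tree lc_b_rc_10_2 lc_b_rc_8_2 lc_b_rc_25_16 lc_b_rc_6_1 lc_b_rc_8_2 lc_b_rc_9_2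 lc_b_rc_1_1 lc_b_Cert_tree) (@D3.rec (fun _ => (Cert rels S Gen.b)) lc_b_Cert_tree lc_b_rc_10_2 lc_b_rc_9_2 lc_b_rc_6_1 lc_b_rc_9_2 lc_b_rc_6_1 lc_b_rc_8_2 lc_b_rc_10_2 lc_b_rc_8_2 lc_b_rc_25_0 lc_b_rc_7_0 lc_b_rc_8_2 lc_b_rc_9_0 lc_b_rc_9_2 lc_b_rc_6_1 lc_b_rc_6_1 lc_b_Cert_tree lc_b_rc_9_2 lc_b_rc_25_4 lc_b_rc_7_2 lc_b_rc_8_2 lc_b_rc_8_2 lc_b_rc_6_1 lc_b_rc_6_1 lc_b_rc_9_2 lc_b_rc_9_2 lc_b_Cert_tree lc_b_rc_7_4 lc_b_rc_10_2 lc_b_rc_9_2 lc_b_rc_6_1 lc_b_rc_10_2 lc_b_rc_9_2 lc_b_rc_7_0 lc_b_rc_26_5 lc_b_rc_10_2 lc_b_rc_9_2 lc_b_rc_6_1 lc_b_rc_9_2 lc_b_Cert_tree lc_b_rc_6_1 lc_b_rc_8_2 lc_b_rc_10_2 lc_b_rc_8_2 lc_b_rc_8_2 lc_b_Cert_tree lc_b_rc_9_2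 lc_b_Cert_tree lc_b_rc_9_2 lc_b_rc_9_2 lc_b_rc_6_1 lc_b_rc_6_1 lc_b_rc_10_2 lc_b_rc_6_1 lc_b_rc_8_2 lc_b_rc_9_2 lc_b_rc_6_1 lc_b_rc_8_2 lc_b_rc_9_2 lc_b_Cert_tree lc_b_rc_9_2 lc_b_rc_9_2) (@D3.rec (fun _ => (Cert rels S Gen.b)) lc_b_rc_6_1 lc_b_Cert_tree lc_b_rc_8_2 lc_b_rc_10_2 lc_b_rc_9_0 lc_b_rc_7_0 lc_b_rc_6_1 lc_b_rc_26_7 lc_b_rc_9_2 lc_b_rc_7_0 lc_b_Cert_tree lc_b_rc_26_5 lc_b_rc_7_0 lc_b_rc_7_4 lc_b_rc_6_1 lc_b_rc_9_2 lc_b_rc_7_0 lc_b_rc_6_1 lc_b_rc_26_1 lc_b_rc_26_5 lc_b_rc_9_0 lc_b_rc_7_0 lc_b_rc_9_2 lc_b_rc_8_0 lc_b_rc_8_2 lc_b_rc_10_2 lc_b_rc_7_4 lc_b_rc_6_1 lc_b_rc_9_2 lc_b_rc_6_1 lc_b_rc_8_2 lc_b_rc_10_2 lc_b_rc_9_2 lc_b_rc_9_2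 lc_b_rc_10_2 lc_b_rc_1_1 lc_b_rc_8_2 lc_b_rc_10_2 lc_b_rc_6_1 lc_b_rc_26_7 lc_b_rc_8_2 lc_b_rc_9_2 lc_b_rc_6_1 lc_b_Cert_tree lc_b_rc_6_1 lc_b_rc_9_2 lc_b_Cert_tree lc_b_rc_6_1 lc_b_rc_10_2 lc_b_rc_1_1 lc_b_rc_6_1 lc_b_rc_1_5 lc_b_rc_6_1 lc_b_rc_8_2 lc_b_rc_9_2 lc_b_rc_1_1 lc_b_rc_26_7 lc_b_rc_9_2 lc_b_rc_6_1 lc_b_rc_8_2 lc_b_rc_8_2 lc_b_rc_6_1) (@D3.rec (fun _ => (Cert rels S Gen.b)) lc_b_rc_7_4 lc_b_rc_7_4 lc_b_rc_8_2 lc_b_rc_9_2 lc_b_Cert_tree lc_b_rc_26_5 lc_b_rc_7_0 lc_b_rc_26_5 lc_b_rc_26_5 lc_b_rc_8_2 lc_b_rc_9_2 lc_b_rc_6_1 lc_b_Cert_tree lc_b_rc_9_2 lc_b_Cert_tree lc_b_rc_6_1 lc_b_rc_8_2 lc_b_rc_9_0 lc_b_rc_10_2 lc_b_rc_26_5 lc_b_rc_9_2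 lc_b_rc_7_0 lc_b_rc_8_2 lc_b_rc_7_0 lc_b_rc_8_2 lc_b_rc_7_0 lc_b_Cert_tree lc_b_rc_8_2 lc_b_rc_9_2 lc_b_rc_26_5 lc_b_rc_10_2 lc_b_rc_9_2 lc_b_rc_26_5 lc_b_Cert_tree lc_b_rc_9_2 lc_b_rc_6_1 lc_b_rc_8_2 lc_b_rc_10_2 lc_b_rc_6_1 lc_b_rc_8_2 lc_b_rc_10_2 lc_b_Cert_tree lc_b_rc_7_2 lc_b_rc_1_1 lc_b_rc_8_2 lc_b_rc_8_2 lc_b_rc_9_2 lc_b_rc_7_2 lc_b_rc_8_2 lc_b_rc_9_2 lc_b_rc_8_2 lc_b_rc_6_1 lc_b_rc_8_2 lc_b_rc_9_2 lc_b_Cert_tree lc_b_rc_9_2 lc_b_rc_8_2 lc_b_rc_6_1 lc_b_rc_9_2 lc_b_rc_6_1 lc_b_Cert_tree lc_b_rc_9_2) (@D3.rec (fun _ => (Cert rels S Gen.b)) lc_b_rc_1_3 lc_b_rc_1_5 lc_b_rc_8_0 lc_b_rc_8_2 lc_b_rc_10_2 lc_b_rc_9_2 lc_b_rc_9_2 lc_b_rc_9_2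 lc_b_rc_6_1 lc_b_rc_9_2 lc_b_Cert_tree lc_b_rc_26_7 lc_b_rc_8_2 lc_b_rc_10_2 lc_b_rc_8_0 lc_b_rc_8_2 lc_b_Cert_tree lc_b_rc_8_2 lc_b_rc_26_5 lc_b_rc_8_2 lc_b_rc_9_2 lc_b_rc_6_1 lc_b_rc_26_7 lc_b_rc_10_2 lc_b_rc_9_2 lc_b_rc_9_0 lc_b_rc_9_2 lc_b_rc_8_2 lc_b_rc_9_2 lc_b_rc_6_1 lc_b_rc_26_1 lc_b_rc_7_2 lc_b_Cert_tree lc_b_rc_10_2 lc_b_rc_9_2 lc_b_rc_10_2 lc_b_rc_26_1 lc_b_rc_8_2 lc_b_rc_10_2 lc_b_rc_8_2 lc_b_rc_8_2 lc_b_rc_1_5 lc_b_rc_8_2 lc_b_rc_9_2 lc_b_rc_26_7 lc_b_Cert_tree lc_b_rc_1_3 lc_b_rc_8_2 lc_b_rc_9_2 lc_b_rc_9_2 lc_b_rc_8_2 lc_b_rc_9_2 lc_b_rc_10_2 lc_b_rc_9_2 lc_b_rc_26_7 lc_b_rc_6_1 lc_b_rc_9_2 lc_b_rc_7_0 lc_b_rc_8_0 lc_b_rc_6_1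 lc_b_rc_10_2 lc_b_rc_8_0) (@D3.rec (fun _ => (Cert rels S Gen.b)) lc_b_rc_9_2 lc_b_rc_6_1 lc_b_Cert_tree lc_b_rc_8_2 lc_b_rc_10_2 lc_b_rc_9_2 lc_b_rc_9_2 lc_b_rc_9_2 lc_b_Cert_tree lc_b_rc_9_2 lc_b_rc_6_1 lc_b_rc_9_2 lc_b_Cert_tree lc_b_rc_8_2 lc_b_rc_10_2 lc_b_rc_9_2 lc_b_Cert_tree lc_b_rc_1_1 lc_b_rc_7_0 lc_b_rc_9_2 lc_b_rc_6_1 lc_b_rc_8_2 lc_b_rc_9_2 lc_b_rc_26_1 lc_b_rc_26_7 lc_b_rc_25_16 lc_b_rc_10_2 lc_b_rc_26_5 lc_b_rc_6_1 lc_b_rc_9_2 lc_b_rc_6_1 lc_b_rc_7_4 lc_b_rc_9_2 lc_b_rc_10_2 lc_b_rc_9_2 lc_b_rc_26_5 lc_b_rc_6_1 lc_b_rc_10_2 lc_b_rc_8_2 lc_b_rc_1_3 lc_b_rc_6_1 lc_b_rc_8_2 lc_b_rc_8_0 lc_b_rc_6_1 lc_b_rc_26_5 lc_b_rc_26_5 lc_b_rc_8_0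 lc_b_rc_9_2 lc_b_rc_9_2 lc_b_rc_26_5 lc_b_rc_26_1 lc_b_rc_25_8 lc_b_rc_9_2 lc_b_rc_7_4 lc_b_rc_9_2 lc_b_rc_6_1 lc_b_rc_9_2 lc_b_rc_6_1 lc_b_rc_6_1 lc_b_rc_26_5 lc_b_rc_9_2 lc_b_rc_9_2) (@D3.rec (fun _ => (Cert rels S Gen.b)) lc_b_rc_6_1 lc_b_rc_9_2 lc_b_rc_26_1 lc_b_rc_8_0 lc_b_rc_6_1 lc_b_rc_9_2 lc_b_Cert_tree lc_b_rc_6_1 lc_b_rc_8_2 lc_b_rc_6_1 lc_b_rc_8_2 lc_b_rc_9_2 lc_b_Cert_tree lc_b_rc_10_2 lc_b_rc_8_2 lc_b_rc_10_2 lc_b_rc_1_5 lc_b_rc_26_5 lc_b_rc_6_1 lc_b_Cert_tree lc_b_rc_7_2 lc_b_rc_8_2 lc_b_rc_10_2 lc_b_rc_8_2 lc_b_rc_6_1 lc_b_rc_8_2 lc_b_rc_9_2 lc_b_Cert_tree lc_b_rc_8_2 lc_b_rc_7_2 lc_b_rc_10_2 lc_b_rc_26_5 lc_b_Cert_tree lc_b_rc_6_1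 lc_b_rc_8_2 lc_b_Cert_tree lc_b_rc_10_2 lc_b_Cert_tree lc_b_Cert_tree lc_b_Cert_tree lc_b_rc_6_1 lc_b_rc_8_2 lc_b_rc_6_1 lc_b_rc_8_2 lc_b_rc_9_2 lc_b_rc_6_1 lc_b_rc_8_2 lc_b_rc_6_1 lc_b_rc_8_2 lc_b_rc_6_1 lc_b_rc_8_2 lc_b_rc_9_2 lc_b_Cert_tree lc_b_rc_1_3 lc_b_rc_8_2 lc_b_Cert_tree lc_b_Cert_tree lc_b_rc_9_2 lc_b_rc_8_2 lc_b_Cert_tree lc_b_rc_6_1 lc_b_rc_7_4) (@D3.rec (fun _ => (Cert rels S Gen.b)) lc_b_rc_26_1 lc_b_rc_26_5 lc_b_Cert_tree lc_b_rc_6_1 lc_b_rc_9_0 lc_b_rc_6_1 lc_b_rc_10_0 lc_b_Cert_tree lc_b_rc_6_1 lc_b_rc_1_3 lc_b_rc_10_2 lc_b_rc_7_0 lc_b_rc_26_5 lc_b_rc_6_1 lc_b_Cert_tree lc_b_rc_6_1 lc_b_rc_6_1 lc_b_Cert_tree lc_b_rc_9_2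 lc_b_rc_10_0 lc_b_rc_8_2 lc_b_rc_26_1 lc_b_Cert_tree lc_b_rc_6_1 lc_b_rc_8_2 lc_b_rc_6_1 lc_b_rc_26_5 lc_b_rc_8_2 lc_b_rc_1_5 lc_b_rc_9_0 lc_b_Cert_tree lc_b_rc_6_1 lc_b_rc_6_1 lc_b_rc_8_2 lc_b_rc_6_1 lc_b_rc_1_5 lc_b_rc_8_2 lc_b_rc_9_2 lc_b_rc_9_2 lc_b_rc_8_2 lc_b_rc_7_4 lc_b_rc_6_1 lc_b_rc_6_1 lc_b_rc_8_2 lc_b_rc_1_3 lc_b_rc_9_2 lc_b_rc_26_5 lc_b_Cert_tree lc_b_rc_1_3 lc_b_rc_8_2 lc_b_rc_9_2 lc_b_rc_6_1 lc_b_rc_9_2 lc_b_rc_6_1 lc_b_rc_9_2 lc_b_rc_7_0 lc_b_rc_26_1 lc_b_rc_8_2 lc_b_rc_10_2 lc_b_rc_6_1 lc_b_rc_26_7 lc_b_rc_7_2) (@D3.rec (fun _ => (Cert rels S Gen.b)) lc_b_Cert_tree lc_b_rc_6_1 lc_b_rc_26_7 lc_b_Cert_tree lc_b_rc_8_0 lc_b_rc_7_4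 lc_b_Cert_tree lc_b_rc_9_2 lc_b_Cert_tree lc_b_rc_1_5 lc_b_rc_6_1 lc_b_rc_7_4 lc_b_rc_6_1 lc_b_rc_8_2 lc_b_rc_9_2 lc_b_rc_9_0 lc_b_rc_9_2 lc_b_rc_6_1 lc_b_rc_8_2 lc_b_rc_9_2 lc_b_rc_6_1 lc_b_rc_8_2 lc_b_rc_10_2 lc_b_Cert_tree lc_b_Cert_tree lc_b_rc_1_3 lc_b_rc_8_2 lc_b_rc_8_0 lc_b_rc_9_0 lc_b_Cert_tree lc_b_rc_7_4 lc_b_rc_6_1 lc_b_rc_7_4 lc_b_Cert_tree lc_b_Cert_tree lc_b_rc_1_3 lc_b_rc_8_2 lc_b_rc_10_2 lc_b_rc_10_2 lc_b_rc_6_1 lc_b_Cert_tree lc_b_rc_6_1 lc_b_Cert_tree lc_b_rc_9_2 lc_b_Cert_tree lc_b_rc_6_1 lc_b_rc_8_2 lc_b_Cert_tree lc_b_rc_7_4 lc_b_rc_1_5 lc_b_rc_6_1 lc_b_rc_8_2 lc_b_rc_6_1 lc_b_rc_9_2 lc_b_rc_9_0 lc_b_rc_8_2 lc_b_rc_9_2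 lc_b_rc_8_2 lc_b_rc_8_2 lc_b_rc_9_2 lc_b_rc_25_12 lc_b_rc_10_2) (@D3.rec (fun _ => (Cert rels S Gen.b)) lc_b_rc_1_3 lc_b_rc_6_1 lc_b_rc_6_1 lc_b_rc_9_2 lc_b_Cert_tree lc_b_Cert_tree lc_b_rc_10_2 lc_b_rc_6_1 lc_b_rc_9_2 lc_b_rc_1_3 lc_b_rc_6_1 lc_b_rc_8_2 lc_b_rc_10_2 lc_b_rc_6_1 lc_b_rc_8_2 lc_b_rc_9_2 lc_b_rc_6_1 lc_b_rc_8_2 lc_b_rc_6_1 lc_b_rc_9_2 lc_b_rc_9_2 lc_b_Cert_tree lc_b_rc_8_2 lc_b_rc_9_0 lc_b_rc_8_2 lc_b_rc_6_1 lc_b_rc_6_1 lc_b_rc_6_1 lc_b_Cert_tree lc_b_rc_8_2 lc_b_rc_6_1 lc_b_rc_8_2 lc_b_rc_1_3 lc_b_rc_9_2 lc_b_rc_6_1 lc_b_rc_8_2 lc_b_rc_10_2 lc_b_rc_26_7 lc_b_rc_6_1 lc_b_rc_8_2 lc_b_rc_9_2 lc_b_rc_9_2 lc_b_rc_8_2 lc_b_rc_6_1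 lc_b_rc_9_2 lc_b_rc_1_3 lc_b_rc_6_1 lc_b_rc_8_2 lc_b_rc_6_1 lc_b_Cert_tree lc_b_rc_6_1 lc_b_rc_8_2 lc_b_Cert_tree lc_b_rc_8_2 lc_b_rc_6_1 lc_b_rc_7_4 lc_b_rc_9_2 lc_b_rc_6_1 lc_b_rc_9_2 lc_b_rc_1_3 lc_b_rc_9_2 lc_b_rc_26_5) (@D3.rec (fun _ => (Cert rels S Gen.b)) lc_b_rc_6_1 lc_b_rc_6_1 lc_b_rc_8_2 lc_b_rc_6_1 lc_b_rc_6_1 lc_b_rc_8_2 lc_b_rc_10_2 lc_b_rc_8_0 lc_b_rc_6_1 lc_b_rc_9_2 lc_b_rc_8_2 lc_b_rc_10_2 lc_b_rc_6_1 lc_b_Cert_tree lc_b_rc_6_1 lc_b_rc_8_0 lc_b_rc_8_2 lc_b_rc_9_2 lc_b_rc_9_0 lc_b_rc_8_2 lc_b_rc_26_5 lc_b_rc_6_1 lc_b_rc_8_0 lc_b_rc_26_1 lc_b_rc_9_2 lc_b_Cert_tree lc_b_rc_26_1 lc_b_rc_7_0 lc_b_rc_1_3 lc_b_rc_6_1 lc_b_rc_9_2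 lc_b_rc_26_5 lc_b_rc_1_3 lc_b_rc_6_1 lc_b_rc_8_2 lc_b_rc_6_1 lc_b_rc_8_0 lc_b_rc_6_1 lc_b_rc_8_2 lc_b_rc_8_2 lc_b_Cert_tree lc_b_rc_8_0 lc_b_rc_9_2 lc_b_rc_6_1 lc_b_Cert_tree lc_b_rc_1_3 lc_b_rc_6_1 lc_b_rc_8_2 lc_b_rc_26_1 lc_b_Cert_tree lc_b_rc_25_12 lc_b_rc_7_2 lc_b_rc_8_2 lc_b_rc_8_0 lc_b_rc_7_4 lc_b_rc_9_2 lc_b_Cert_tree lc_b_rc_9_2 lc_b_rc_10_2 lc_b_rc_10_2 lc_b_rc_6_1 lc_b_rc_9_2) (@D3.rec (fun _ => (Cert rels S Gen.b)) lc_b_rc_6_1 lc_b_rc_8_2 lc_b_rc_7_4 lc_b_rc_6_1 lc_b_rc_26_5 lc_b_rc_26_7 lc_b_rc_6_1 lc_b_rc_26_5 lc_b_rc_10_2 lc_b_rc_7_0 lc_b_rc_9_2 lc_b_rc_8_0 lc_b_rc_6_1 lc_b_Cert_tree lc_b_rc_6_1 lc_b_rc_10_2 lc_b_rc_6_1 lc_b_rc_1_1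 lc_b_rc_7_0 lc_b_rc_9_0 lc_b_rc_8_2 lc_b_rc_10_2 lc_b_Cert_tree lc_b_Cert_tree lc_b_Cert_tree lc_b_rc_8_2 lc_b_rc_6_1 lc_b_rc_8_2 lc_b_Cert_tree lc_b_rc_9_2 lc_b_rc_6_1 lc_b_Cert_tree lc_b_rc_6_1 lc_b_Cert_tree lc_b_rc_6_1 lc_b_rc_10_2 lc_b_rc_6_1 lc_b_rc_8_2 lc_b_rc_10_2 lc_b_rc_7_4 lc_b_rc_1_3 lc_b_rc_8_2 lc_b_rc_10_2 lc_b_rc_6_1 lc_b_rc_1_3 lc_b_Cert_tree lc_b_rc_6_1 lc_b_rc_8_2 lc_b_Cert_tree lc_b_rc_6_1 lc_b_rc_10_2 lc_b_rc_8_2 lc_b_rc_9_2 lc_b_Cert_tree lc_b_rc_7_2 lc_b_rc_9_2 lc_b_Cert_tree lc_b_rc_6_1 lc_b_rc_8_0 lc_b_rc_10_2 lc_b_Cert_tree lc_b_rc_6_1) (@D3.rec (fun _ => (Cert rels S Gen.b)) lc_b_rc_8_2 lc_b_rc_7_4 lc_b_rc_6_1 lc_b_Cert_tree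 lc_b_rc_26_5 lc_b_rc_8_2 lc_b_rc_1_3 lc_b_rc_8_0 lc_b_rc_8_2 lc_b_rc_6_1 lc_b_rc_8_2 lc_b_rc_6_1 lc_b_rc_8_2 lc_b_rc_6_1 lc_b_rc_8_2 lc_b_Cert_tree lc_b_rc_7_4 lc_b_rc_1_3 lc_b_rc_8_2 lc_b_rc_9_2 lc_b_rc_8_2 lc_b_rc_6_1 lc_b_rc_10_0 lc_b_Cert_tree lc_b_rc_6_1 lc_b_rc_8_0 lc_b_rc_6_1 lc_b_rc_6_1 lc_b_rc_6_1 lc_b_rc_26_5 lc_b_rc_10_0 lc_b_rc_8_0 lc_b_Cert_tree lc_b_rc_9_2 lc_b_Cert_tree lc_b_rc_6_1 lc_b_Cert_tree lc_b_rc_6_1 lc_b_rc_8_2 lc_b_rc_9_2 lc_b_rc_9_0 lc_b_rc_10_0 lc_b_Cert_tree lc_b_rc_6_1 lc_b_rc_6_1 lc_b_rc_1_5 lc_b_rc_9_2 lc_b_Cert_tree lc_b_rc_6_1 lc_b_Cert_tree lc_b_rc_6_1 lc_b_rc_1_3 lc_b_rc_8_2 lc_b_rc_9_2 lc_b_rc_6_1 lc_b_Cert_tree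 lc_b_rc_6_1 lc_b_rc_8_2 lc_b_rc_9_2 lc_b_rc_8_2 lc_b_rc_9_0 lc_b_rc_6_1) (@D3.rec (fun _ => (Cert rels S Gen.b)) lc_b_rc_8_2 lc_b_Cert_tree lc_b_rc_7_0 lc_b_rc_1_1 lc_b_rc_8_2 lc_b_rc_9_0 lc_b_rc_8_2 lc_b_rc_7_4 lc_b_rc_8_2 lc_b_Cert_tree lc_b_Cert_tree lc_b_Cert_tree lc_b_rc_1_3 lc_b_rc_10_2 lc_b_rc_6_1 lc_b_rc_26_1 lc_b_rc_8_2 lc_b_rc_9_2 lc_b_rc_6_1 lc_b_rc_8_2 lc_b_rc_9_0 lc_b_Cert_tree lc_b_Cert_tree lc_b_Cert_tree lc_b_rc_9_2 lc_b_rc_6_1 lc_b_rc_9_2 lc_b_rc_6_1 lc_b_rc_6_1 lc_b_Cert_tree lc_b_rc_10_2 lc_b_rc_8_0 lc_b_rc_6_1 lc_b_rc_8_2 lc_b_rc_6_1 lc_b_rc_8_2 lc_b_rc_26_7 lc_b_rc_10_0 lc_b_rc_10_2 lc_b_rc_10_2 lc_b_rc_6_1 lc_b_rc_8_2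 lc_b_Cert_tree lc_b_Cert_tree lc_b_rc_1_3 lc_b_rc_8_2 lc_b_Cert_tree lc_b_rc_9_2 lc_b_rc_6_1 lc_b_rc_9_0 lc_b_rc_9_2 lc_b_rc_6_1 lc_b_Cert_tree lc_b_rc_9_2 lc_b_rc_1_3 lc_b_Cert_tree lc_b_Cert_tree lc_b_rc_6_1 lc_b_rc_26_7 lc_b_rc_6_1 lc_b_rc_8_2 lc_b_rc_26_7) (@D3.rec (fun _ => (Cert rels S Gen.b)) lc_b_rc_6_1 lc_b_rc_9_2 lc_b_rc_9_2 lc_b_rc_9_0 lc_b_rc_6_1 lc_b_rc_8_2 lc_b_rc_7_2 lc_b_rc_6_1 lc_b_rc_8_2 lc_b_rc_6_1 lc_b_rc_8_2 lc_b_rc_9_2 lc_b_rc_25_16 lc_b_Cert_tree lc_b_rc_1_3 lc_b_rc_8_2 lc_b_rc_9_2 lc_b_Cert_tree lc_b_Cert_tree lc_b_rc_9_2 lc_b_Cert_tree lc_b_rc_1_5 lc_b_rc_8_2 lc_b_rc_7_2 lc_b_Cert_tree lc_b_rc_9_2 lc_b_Cert_tree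 lc_b_rc_6_1 lc_b_rc_6_1 lc_b_Cert_tree lc_b_rc_9_2 lc_b_rc_6_1 lc_b_rc_7_4 lc_b_rc_9_2 lc_b_rc_9_2 lc_b_rc_9_0 lc_b_Cert_tree lc_b_rc_8_2 lc_b_rc_10_2 lc_b_rc_6_1 lc_b_rc_6_1 lc_b_rc_6_1 lc_b_rc_7_4 lc_b_rc_6_1 lc_b_rc_6_1 lc_b_rc_7_2 lc_b_rc_8_2 lc_b_rc_9_2 lc_b_rc_6_1 lc_b_rc_6_1 lc_b_Cert_tree lc_b_rc_9_0 lc_b_rc_26_5 lc_b_rc_8_2 lc_b_rc_9_2 lc_b_rc_9_2 lc_b_Cert_tree lc_b_Cert_tree lc_b_rc_8_2 lc_b_rc_10_2 lc_b_Cert_tree lc_b_rc_8_2) (@D3.rec (fun _ => (Cert rels S Gen.b)) lc_b_rc_6_1 lc_b_Cert_tree lc_b_rc_6_1 lc_b_Cert_tree lc_b_rc_1_3 lc_b_rc_8_0 lc_b_Cert_tree lc_b_rc_8_2 lc_b_rc_10_2 lc_b_rc_6_1 lc_b_rc_9_2 lc_b_Cert_tree lc_b_rc_1_1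 lc_b_rc_10_2 lc_b_rc_8_2 lc_b_rc_9_2 lc_b_rc_10_2 lc_b_rc_6_1 lc_b_rc_8_2 lc_b_rc_26_1 lc_b_Cert_tree lc_b_rc_9_2 lc_b_rc_1_5 lc_b_rc_8_0 lc_b_rc_7_2 lc_b_rc_26_1 lc_b_rc_1_1 lc_b_rc_7_2 lc_b_rc_8_2 lc_b_rc_9_2 lc_b_rc_9_2 lc_b_rc_26_5 lc_b_rc_9_2 lc_b_rc_26_5 lc_b_rc_8_2 lc_b_rc_26_1 lc_b_rc_1_3 lc_b_rc_6_1 lc_b_Cert_tree lc_b_rc_9_2 lc_b_rc_6_1 lc_b_rc_26_5 lc_b_rc_9_2 lc_b_Cert_tree lc_b_rc_9_2 lc_b_Cert_tree lc_b_Cert_tree lc_b_rc_10_2 lc_b_rc_6_1 lc_b_rc_6_1 lc_b_rc_6_1 lc_b_rc_6_1 lc_b_rc_7_2 lc_b_rc_9_0 lc_b_rc_9_2 lc_b_rc_6_1 lc_b_rc_8_2 lc_b_rc_6_1 lc_b_rc_8_2 lc_b_rc_6_1 lc_b_rc_9_2 lc_b_rc_6_1) (@D3.rec (fun _ => (Cert rels S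 Gen.b)) lc_b_rc_7_4 lc_b_rc_1_5 lc_b_rc_1_3 lc_b_rc_8_2 lc_b_rc_9_2 lc_b_Cert_tree lc_b_rc_9_2 lc_b_rc_8_2 lc_b_rc_6_1 lc_b_Cert_tree lc_b_rc_10_0 lc_b_rc_6_1 lc_b_Cert_tree lc_b_rc_9_2 lc_b_rc_9_2 lc_b_Cert_tree lc_b_Cert_tree lc_b_rc_6_1 lc_b_rc_9_2 lc_b_rc_6_1 lc_b_rc_9_2 lc_b_rc_26_5 lc_b_rc_9_0 lc_b_rc_6_1 lc_b_rc_9_2 lc_b_rc_8_2 lc_b_Cert_tree lc_b_rc_1_3 lc_b_rc_8_2 lc_b_rc_9_2 lc_b_rc_9_2 lc_b_Cert_tree lc_b_Cert_tree lc_b_rc_8_2 lc_b_rc_25_16 lc_b_Cert_tree lc_b_rc_8_2 lc_b_rc_9_2 lc_b_rc_6_1 lc_b_Cert_tree lc_b_rc_9_2 lc_b_rc_6_1 lc_b_Cert_tree lc_b_rc_9_2 lc_b_rc_9_2 lc_b_Cert_tree lc_b_Cert_tree lc_b_rc_9_2 lc_b_rc_9_2 lc_b_rc_7_4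 lc_b_rc_10_2 lc_b_Cert_tree lc_b_rc_6_1 lc_b_rc_6_1 lc_b_rc_10_2 lc_b_rc_9_2 lc_b_rc_8_2 lc_b_rc_9_2 lc_b_rc_9_2 lc_b_rc_9_2 lc_b_rc_9_2 lc_b_rc_9_2) (@D3.rec (fun _ => (Cert rels S Gen.b)) lc_b_rc_25_4 lc_b_rc_6_1 lc_b_rc_8_2 lc_b_rc_9_2 lc_b_rc_8_2 lc_b_rc_8_2 lc_b_rc_6_1 lc_b_rc_9_2 lc_b_rc_6_1 lc_b_rc_6_1 lc_b_rc_9_0 lc_b_rc_1_5 lc_b_Cert_tree lc_b_rc_26_5 lc_b_rc_1_5 lc_b_rc_10_2 lc_b_rc_6_1 lc_b_rc_26_5 lc_b_rc_8_2 lc_b_rc_1_5 lc_b_rc_6_1 lc_b_rc_25_0 lc_b_rc_26_1 lc_b_rc_25_12 lc_b_rc_10_2 lc_b_rc_9_2 lc_b_rc_8_2 lc_b_rc_9_2 lc_b_rc_1_1 lc_b_rc_8_2 lc_b_Cert_tree lc_b_rc_7_4 lc_b_Cert_tree lc_b_rc_7_4 lc_b_rc_9_2 lc_b_rc_7_4 lc_b_rc_9_2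 lc_b_rc_8_2 lc_b_rc_9_2 lc_b_Cert_tree lc_b_rc_9_2 lc_b_rc_26_5 lc_b_rc_8_2 lc_b_rc_10_2 lc_b_Cert_tree lc_b_rc_6_1 lc_b_rc_1_3 lc_b_Cert_tree lc_b_Cert_tree lc_b_rc_8_2 lc_b_rc_10_2 lc_b_rc_7_2 lc_b_rc_9_2 lc_b_rc_8_2 lc_b_rc_7_2 lc_b_rc_10_2 lc_b_rc_6_1 lc_b_rc_7_4 lc_b_rc_9_2 lc_b_rc_6_1 lc_b_rc_9_0 lc_b_rc_10_2) (@D3.rec (fun _ => (Cert rels S Gen.b)) lc_b_rc_6_1 lc_b_rc_7_4 lc_b_rc_9_2 lc_b_rc_26_7 lc_b_rc_6_1 lc_b_rc_9_2 lc_b_Cert_tree lc_b_rc_1_1 lc_b_rc_10_2 lc_b_rc_1_1 lc_b_rc_9_2 lc_b_rc_6_1 lc_b_rc_9_2 lc_b_Cert_tree lc_b_rc_9_2 lc_b_rc_10_2 lc_b_rc_6_1 lc_b_rc_10_2 lc_b_Cert_tree lc_b_rc_26_5 lc_b_rc_9_0 lc_b_rc_10_2 lc_b_rc_7_2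 lc_b_rc_8_2 lc_b_rc_9_2 lc_b_rc_9_2 lc_b_rc_9_2 lc_b_rc_26_7 lc_b_rc_7_4 lc_b_rc_8_2 lc_b_rc_26_5 lc_b_rc_6_1 lc_b_rc_1_1 lc_b_Cert_tree lc_b_rc_10_2 lc_b_rc_6_1 lc_b_rc_8_2 lc_b_rc_8_2 lc_b_rc_26_1 lc_b_rc_1_3 lc_b_rc_7_4 lc_b_rc_8_2 lc_b_rc_9_2 lc_b_rc_26_5 lc_b_rc_9_2 lc_b_rc_6_1 lc_b_rc_6_1 lc_b_rc_9_2 lc_b_rc_9_2 lc_b_rc_6_1 lc_b_rc_9_2 lc_b_Cert_tree lc_b_rc_26_5 lc_b_rc_10_2 lc_b_rc_9_2 lc_b_rc_1_3 lc_b_rc_6_1 lc_b_Cert_tree lc_b_rc_6_1 lc_b_rc_7_2 lc_b_Cert_tree lc_b_rc_1_3) (@D3.rec (fun _ => (Cert rels S Gen.b)) lc_b_rc_6_1 lc_b_rc_1_1 lc_b_Cert_tree lc_b_rc_8_2 lc_b_rc_6_1 lc_b_rc_7_2 lc_b_rc_26_5 lc_b_rc_7_4 lc_b_rc_9_2 lc_b_rc_8_2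 lc_b_rc_9_2 lc_b_rc_8_0 lc_b_rc_7_2 lc_b_rc_6_1 lc_b_rc_7_2 lc_b_Cert_tree lc_b_Cert_tree lc_b_rc_6_1 lc_b_rc_6_1 lc_b_rc_6_1 lc_b_Cert_tree lc_b_rc_8_0 lc_b_rc_7_4 lc_b_rc_6_1 lc_b_rc_7_4 lc_b_rc_6_1 lc_b_rc_1_5 lc_b_Cert_tree lc_b_Cert_tree lc_b_rc_1_3 lc_b_rc_6_1 lc_b_Cert_tree lc_b_rc_7_2 lc_b_rc_7_2 lc_b_rc_6_1 lc_b_Cert_tree lc_b_rc_1_3 lc_b_Cert_tree lc_b_rc_1_3 lc_b_rc_1_5 lc_b_rc_6_1 lc_b_rc_26_7 lc_b_rc_8_2 lc_b_rc_9_2 lc_b_rc_6_1 lc_b_rc_26_5 lc_b_rc_8_2 lc_b_rc_8_2 lc_b_rc_8_2 lc_b_rc_7_2 lc_b_rc_1_5 lc_b_rc_1_3 lc_b_rc_8_2 lc_b_rc_26_7 lc_b_rc_26_5 lc_b_Cert_tree lc_b_Cert_tree lc_b_rc_6_1 lc_b_Cert_tree lc_b_Cert_tree lc_b_rc_6_1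 lc_b_rc_26_7) (@D3.rec (fun _ => (Cert rels S Gen.b)) lc_b_rc_6_1 lc_b_rc_26_7 lc_b_rc_8_2 lc_b_rc_8_2 lc_b_rc_26_7 lc_b_Cert_tree lc_b_rc_7_4 lc_b_rc_6_1 lc_b_rc_8_2 lc_b_rc_6_1 lc_b_rc_8_2 lc_b_rc_6_1 lc_b_rc_8_2 lc_b_rc_6_1 lc_b_rc_6_1 lc_b_Cert_tree lc_b_Cert_tree lc_b_rc_7_4 lc_b_rc_8_2 lc_b_rc_6_1 lc_b_rc_10_2 lc_b_rc_26_5 lc_b_rc_6_1 lc_b_rc_8_2 lc_b_Cert_tree lc_b_rc_8_2 lc_b_Cert_tree lc_b_rc_26_1 lc_b_rc_26_5 lc_b_rc_8_2 lc_b_rc_26_7 lc_b_Cert_tree lc_b_rc_9_2 lc_b_rc_6_1 lc_b_rc_8_2 lc_b_rc_1_3 lc_b_rc_9_2 lc_b_Cert_tree lc_b_rc_26_5 lc_b_Cert_tree lc_b_rc_9_2 lc_b_Cert_tree lc_b_rc_6_1 lc_b_rc_8_2 lc_b_rc_6_1 lc_b_rc_8_2 lc_b_rc_8_0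 lc_b_rc_1_3 lc_b_rc_8_2 lc_b_rc_6_1 lc_b_rc_26_1 lc_b_rc_1_3 lc_b_rc_6_1 lc_b_rc_6_1 lc_b_rc_8_2 lc_b_rc_9_2 lc_b_Cert_tree lc_b_rc_10_2 lc_b_rc_9_2 lc_b_Cert_tree lc_b_rc_9_2 lc_b_Cert_tree) (@D3.rec (fun _ => (Cert rels S Gen.b)) lc_b_rc_1_3 lc_b_rc_8_2 lc_b_rc_9_2 lc_b_rc_9_2 lc_b_Cert_tree lc_b_rc_1_3 lc_b_rc_7_2 lc_b_Cert_tree lc_b_rc_9_2 lc_b_rc_7_4 lc_b_rc_9_2 lc_b_rc_1_3 lc_b_Cert_tree lc_b_rc_6_1 lc_b_Cert_tree lc_b_rc_8_2 lc_b_rc_9_2 lc_b_rc_10_2 lc_b_rc_6_1 lc_b_rc_8_2 lc_b_rc_9_2 lc_b_rc_8_2 lc_b_Cert_tree lc_b_rc_6_1 lc_b_rc_7_2 lc_b_rc_10_2 lc_b_rc_6_1 lc_b_rc_6_1 lc_b_rc_10_0 lc_b_rc_9_2 lc_b_rc_6_1 lc_b_rc_9_2 lc_b_Cert_tree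 lc_b_rc_8_2 lc_b_rc_6_1 lc_b_rc_6_1 lc_b_rc_8_0 lc_b_rc_6_1 lc_b_rc_6_1 lc_b_rc_26_5 lc_b_Cert_tree lc_b_rc_1_3 lc_b_rc_8_2 lc_b_rc_9_2 lc_b_rc_10_0 lc_b_rc_8_2 lc_b_rc_7_2 lc_b_Cert_tree lc_b_Cert_tree lc_b_rc_6_1 lc_b_rc_7_2 lc_b_rc_9_2 lc_b_rc_6_1 lc_b_rc_7_4 lc_b_rc_9_2 lc_b_rc_1_3 lc_b_Cert_tree lc_b_rc_8_2 lc_b_rc_8_2 lc_b_rc_10_2 lc_b_rc_7_4 lc_b_rc_6_1) (@D3.rec (fun _ => (Cert rels S Gen.b)) lc_b_rc_6_1 lc_b_rc_8_2 lc_b_rc_6_1 lc_b_rc_8_2 lc_b_rc_7_4 lc_b_rc_26_1 lc_b_rc_8_2 lc_b_rc_8_2 lc_b_rc_7_4 lc_b_rc_6_1 lc_b_rc_8_2 lc_b_Cert_tree lc_b_Cert_tree lc_b_rc_1_3 lc_b_rc_8_2 lc_b_rc_9_2 lc_b_rc_6_1 lc_b_Cert_tree lc_b_rc_6_1 lc_b_rc_6_1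 lc_b_rc_1_3 lc_b_Cert_tree lc_b_rc_9_2 lc_b_Cert_tree lc_b_rc_7_4 lc_b_rc_6_1 lc_b_rc_8_2 lc_b_rc_8_0 lc_b_rc_26_1 lc_b_rc_8_2 lc_b_Cert_tree lc_b_rc_6_1 lc_b_rc_26_5 lc_b_rc_6_1 lc_b_rc_6_1 lc_b_rc_1_3 lc_b_rc_8_2 lc_b_rc_9_2 lc_b_rc_6_1 lc_b_rc_6_1 lc_b_rc_7_4 lc_b_rc_26_5 lc_b_rc_26_5 lc_b_rc_6_1 lc_b_rc_26_1 lc_b_rc_7_2 lc_b_rc_6_1 lc_b_rc_26_1 lc_b_rc_9_2 lc_b_rc_7_2 lc_b_rc_8_2 lc_b_rc_26_5 lc_b_rc_26_7 lc_b_rc_10_2 lc_b_rc_6_1 lc_b_rc_9_2 lc_b_rc_9_2 lc_b_rc_6_1 lc_b_rc_6_1 lc_b_rc_7_4 lc_b_rc_6_1 lc_b_rc_10_2) (@D3.rec (fun _ => (Cert rels S Gen.b)) lc_b_rc_9_2 lc_b_rc_9_2 lc_b_rc_9_2 lc_b_rc_9_2 lc_b_rc_26_7 lc_b_rc_6_1 lc_b_rc_8_2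 lc_b_rc_10_2 lc_b_rc_26_5 lc_b_rc_8_2 lc_b_rc_1_3 lc_b_rc_6_1 lc_b_rc_6_1 lc_b_rc_9_2 lc_b_rc_8_2 lc_b_rc_7_4 lc_b_rc_6_1 lc_b_rc_26_7 lc_b_rc_1_5 lc_b_rc_9_2 lc_b_rc_8_2 lc_b_rc_6_1 lc_b_rc_9_2 lc_b_rc_26_5 lc_b_rc_8_2 lc_b_rc_10_2 lc_b_Cert_tree lc_b_rc_10_2 lc_b_rc_1_3 lc_b_rc_7_2 lc_b_rc_8_2 lc_b_rc_9_2 lc_b_rc_10_2 lc_b_rc_26_7 lc_b_rc_9_2 lc_b_rc_10_2 lc_b_rc_9_2 lc_b_rc_8_2 lc_b_rc_8_0 lc_b_rc_9_0 lc_b_rc_1_5 lc_b_rc_10_2 lc_b_rc_8_2 lc_b_rc_9_2 lc_b_rc_10_2 lc_b_rc_10_2 lc_b_Cert_tree lc_b_rc_6_1 lc_b_rc_10_2 lc_b_rc_7_0 lc_b_rc_9_2 lc_b_rc_8_2 lc_b_rc_7_4 lc_b_rc_26_1 lc_b_rc_9_2 lc_b_rc_7_0 lc_b_rc_26_1 lc_b_rc_9_2 lc_b_rc_8_2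 lc_b_rc_10_2 lc_b_rc_6_1 lc_b_rc_10_2) (@D3.rec (fun _ => (Cert rels S Gen.b)) lc_b_rc_9_2 lc_b_rc_6_1 lc_b_rc_8_2 lc_b_rc_7_4 lc_b_rc_8_2 lc_b_rc_6_1 lc_b_rc_9_2 lc_b_rc_26_5 lc_b_rc_6_1 lc_b_rc_9_2 lc_b_rc_26_7 lc_b_rc_8_2 lc_b_rc_1_5 lc_b_rc_26_1 lc_b_rc_8_2 lc_b_rc_6_1 lc_b_rc_6_1 lc_b_rc_8_2 lc_b_rc_9_2 lc_b_rc_9_2 lc_b_rc_7_4 lc_b_rc_8_2 lc_b_Cert_tree lc_b_rc_6_1 lc_b_rc_9_2 lc_b_Cert_tree lc_b_rc_6_1 lc_b_rc_26_5 lc_b_rc_1_3 lc_b_rc_9_2 lc_b_rc_1_3 lc_b_rc_8_2 lc_b_rc_9_2 lc_b_Cert_tree lc_b_Cert_tree lc_b_rc_25_12 lc_b_rc_9_2 lc_b_Cert_tree lc_b_rc_6_1 lc_b_rc_7_4 lc_b_rc_6_1 lc_b_rc_6_1 lc_b_rc_9_2 lc_b_rc_8_2 lc_b_rc_9_2 lc_b_rc_6_1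 lc_b_rc_10_2 lc_b_rc_6_1 lc_b_Cert_tree lc_b_rc_1_3 lc_b_rc_6_1 lc_b_Cert_tree lc_b_rc_10_0 lc_b_rc_8_0 lc_b_rc_9_2 lc_b_rc_1_3 lc_b_rc_1_1 lc_b_rc_26_7 lc_b_rc_8_2 lc_b_rc_26_5 lc_b_rc_7_2 lc_b_rc_26_5) (@D3.rec (fun _ => (Cert rels S Gen.b)) lc_b_rc_26_5 lc_b_rc_6_1 lc_b_rc_9_0 lc_b_rc_8_2 lc_b_rc_9_2 lc_b_rc_6_1 lc_b_Cert_tree lc_b_rc_7_4 lc_b_rc_9_2 lc_b_rc_8_0 lc_b_rc_10_2 lc_b_rc_6_1 lc_b_rc_6_1 lc_b_rc_1_3 lc_b_Cert_tree lc_b_rc_6_1 lc_b_rc_10_2 lc_b_rc_9_2 lc_b_rc_8_2 lc_b_rc_9_2 lc_b_rc_9_2 lc_b_rc_8_2 lc_b_rc_1_3 lc_b_rc_9_2 lc_b_rc_1_1 lc_b_rc_6_1 lc_b_rc_1_5 lc_b_rc_8_2 lc_b_rc_10_2 lc_b_rc_9_2 lc_b_rc_9_2 lc_b_Cert_tree lc_b_rc_6_1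 lc_b_rc_10_2 lc_b_Cert_tree lc_b_rc_25_4 lc_b_rc_6_1 lc_b_rc_8_2 lc_b_rc_8_2 lc_b_rc_6_1 lc_b_rc_6_1 lc_b_rc_8_2 lc_b_rc_6_1 lc_b_rc_8_2 lc_b_rc_6_1 lc_b_rc_1_3 lc_b_rc_8_2 lc_b_rc_26_7 lc_b_Cert_tree lc_b_rc_7_4 lc_b_rc_8_2 lc_b_rc_8_2 lc_b_rc_9_2 lc_b_rc_9_2 lc_b_rc_6_1 lc_b_rc_9_2 lc_b_rc_6_1 lc_b_rc_9_2 lc_b_Cert_tree lc_b_rc_26_7 lc_b_rc_8_2 lc_b_rc_6_1) (@D3.rec (fun _ => (Cert rels S Gen.b)) lc_b_Cert_tree lc_b_rc_9_2 lc_b_rc_6_1 lc_b_rc_25_4 lc_b_rc_8_2 lc_b_rc_9_0 lc_b_rc_9_2 lc_b_rc_26_1 lc_b_rc_7_4 lc_b_rc_6_1 lc_b_rc_9_2 lc_b_rc_6_1 lc_b_rc_1_5 lc_b_rc_6_1 lc_b_rc_7_2 lc_b_rc_6_1 lc_b_rc_9_0 lc_b_rc_6_1 lc_b_rc_9_2 lc_b_rc_6_1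 lc_b_rc_9_2 lc_b_Cert_tree lc_b_rc_6_1 lc_b_rc_8_2 lc_b_rc_7_2 lc_b_rc_26_1 lc_b_rc_7_0 lc_b_rc_6_1 lc_b_rc_26_5 lc_b_rc_9_2 lc_b_rc_1_1 lc_b_rc_9_2 lc_b_rc_7_0 lc_b_rc_7_4 lc_b_rc_9_2 lc_b_Cert_tree lc_b_Cert_tree lc_b_rc_8_2 lc_b_rc_8_2 lc_b_rc_6_1 lc_b_rc_9_2 lc_b_rc_8_2 lc_b_Cert_tree lc_b_rc_26_5 lc_b_rc_1_1 lc_b_rc_7_2 lc_b_rc_9_2 lc_b_rc_1_3 lc_b_rc_6_1 lc_b_rc_6_1 lc_b_Cert_tree lc_b_rc_8_2 lc_b_rc_9_2 lc_b_rc_6_1 lc_b_rc_26_1 lc_b_rc_8_2 lc_b_rc_9_2 lc_b_rc_8_0 lc_b_rc_26_7 lc_b_rc_8_2 lc_b_rc_1_5 lc_b_rc_1_3) (@D3.rec (fun _ => (Cert rels S Gen.b)) lc_b_rc_8_2 lc_b_rc_9_2 lc_b_rc_26_5 lc_b_rc_9_2 lc_b_rc_8_2 lc_b_rc_26_7 lc_b_Cert_tree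 lc_b_rc_6_1 lc_b_Cert_tree lc_b_rc_8_2 lc_b_rc_7_4 lc_b_rc_6_1 lc_b_rc_8_2 lc_b_rc_7_4 lc_b_rc_6_1 lc_b_rc_1_3 lc_b_rc_8_2 lc_b_rc_9_2 lc_b_Cert_tree lc_b_rc_1_5 lc_b_rc_9_2 lc_b_rc_8_2 lc_b_rc_6_1 lc_b_rc_8_2 lc_b_rc_26_7 lc_b_rc_7_4 lc_b_rc_9_0 lc_b_rc_10_2 lc_b_rc_6_1 lc_b_rc_6_1 lc_b_Cert_tree lc_b_rc_6_1 lc_b_rc_8_2 lc_b_Cert_tree lc_b_Cert_tree lc_b_Cert_tree lc_b_rc_9_2 lc_b_Cert_tree lc_b_rc_7_0 lc_b_rc_6_1 lc_b_rc_10_2 lc_b_Cert_tree lc_b_rc_6_1 lc_b_rc_6_1 lc_b_Cert_tree lc_b_Cert_tree lc_b_rc_8_2 lc_b_rc_1_5 lc_b_rc_26_5 lc_b_rc_9_2 lc_b_rc_8_2 lc_b_rc_6_1 lc_b_rc_26_5 lc_b_rc_6_1 lc_b_rc_26_1 lc_b_rc_8_0 lc_b_rc_9_2 lc_b_rc_6_1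 lc_b_rc_8_2 lc_b_Cert_tree lc_b_rc_6_1 lc_b_rc_7_0) (@D3.rec (fun _ => (Cert rels S Gen.b)) lc_b_rc_8_2 lc_b_rc_9_2 lc_b_rc_9_2 lc_b_rc_6_1 lc_b_Cert_tree lc_b_rc_6_1 lc_b_rc_8_2 lc_b_rc_6_1 lc_b_rc_9_2 lc_b_rc_9_2 lc_b_Cert_tree lc_b_rc_8_2 lc_b_rc_6_1 lc_b_Cert_tree lc_b_Cert_tree lc_b_Cert_tree lc_b_Cert_tree lc_b_rc_6_1 lc_b_rc_6_1 lc_b_rc_6_1 lc_b_rc_8_2 lc_b_rc_7_0 lc_b_rc_6_1 lc_b_rc_8_2 lc_b_rc_9_2 lc_b_rc_6_1 lc_b_rc_8_2 lc_b_Cert_tree lc_b_Cert_tree lc_b_rc_8_2 lc_b_rc_8_2 lc_b_Cert_tree lc_b_Cert_tree lc_b_rc_7_4 lc_b_rc_7_4 lc_b_rc_26_1 lc_b_rc_9_2 lc_b_rc_9_2 lc_b_rc_7_0 lc_b_rc_10_2 lc_b_rc_6_1 lc_b_rc_26_5 lc_b_rc_1_3 lc_b_rc_6_1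 lc_b_rc_8_2 lc_b_rc_6_1 lc_b_rc_8_2 lc_b_rc_9_2 lc_b_rc_6_1 lc_b_rc_8_2 lc_b_Cert_tree lc_b_Cert_tree lc_b_rc_6_1 lc_b_rc_9_2 lc_b_rc_7_0 lc_b_rc_6_1 lc_b_rc_9_2 lc_b_Cert_tree lc_b_rc_6_1 lc_b_rc_8_2 lc_b_rc_7_2 lc_b_Cert_tree) (@D3.rec (fun _ => (Cert rels S Gen.b)) lc_b_rc_8_2 lc_b_rc_9_0 lc_b_rc_6_1 lc_b_Cert_tree lc_b_rc_10_2 lc_b_Cert_tree lc_b_rc_8_2 lc_b_rc_6_1 lc_b_rc_9_2 lc_b_rc_26_5 lc_b_rc_9_2 lc_b_rc_8_2 lc_b_rc_26_1 lc_b_rc_6_1 lc_b_rc_26_1 lc_b_rc_9_2 lc_b_rc_6_1 lc_b_rc_26_5 lc_b_rc_9_2 lc_b_Cert_tree lc_b_Cert_tree lc_b_rc_8_2 lc_b_rc_10_2 lc_b_rc_8_2 lc_b_rc_10_2 lc_b_rc_6_1 lc_b_rc_8_2 lc_b_rc_7_4 lc_b_rc_25_12 lc_b_rc_7_4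 lc_b_rc_6_1 lc_b_rc_8_2 lc_b_rc_10_2 lc_b_Cert_tree lc_b_rc_6_1 lc_b_rc_1_3 lc_b_rc_8_2 lc_b_rc_9_2 lc_b_rc_9_2 lc_b_rc_9_2 lc_b_rc_6_1 lc_b_rc_1_3 lc_b_rc_26_1 lc_b_Cert_tree lc_b_rc_26_1 lc_b_rc_1_5 lc_b_rc_7_0 lc_b_rc_26_7 lc_b_rc_8_2 lc_b_rc_7_2 lc_b_rc_9_2 lc_b_rc_6_1 lc_b_rc_9_2 lc_b_rc_9_2 lc_b_rc_26_5 lc_b_Cert_tree lc_b_rc_8_2 lc_b_rc_8_2 lc_b_rc_9_0 lc_b_rc_8_2 lc_b_rc_26_1 lc_b_rc_7_4) (@D3.rec (fun _ => (Cert rels S Gen.b)) lc_b_rc_7_4 lc_b_rc_9_2 lc_b_rc_25_0 lc_b_rc_8_2 lc_b_rc_7_2 lc_b_rc_8_2 lc_b_rc_9_2 lc_b_rc_9_2 lc_b_rc_10_2 lc_b_rc_7_4 lc_b_rc_8_2 lc_b_rc_7_2 lc_b_rc_9_2 lc_b_rc_26_1 lc_b_rc_9_2 lc_b_rc_6_1 lc_b_rc_26_5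 lc_b_rc_1_5 lc_b_rc_8_0 lc_b_rc_26_5 lc_b_rc_6_1 lc_b_rc_9_2 lc_b_rc_9_2 lc_b_rc_10_2 lc_b_rc_9_0 lc_b_Cert_tree lc_b_rc_8_2 lc_b_rc_26_5 lc_b_rc_8_2 lc_b_rc_9_2 lc_b_rc_6_1 lc_b_rc_7_2 lc_b_rc_26_5 lc_b_rc_8_0 lc_b_rc_1_3 lc_b_Cert_tree lc_b_rc_8_2 lc_b_rc_8_2 lc_b_Cert_tree lc_b_rc_6_1 lc_b_rc_7_0 lc_b_rc_9_2 lc_b_rc_1_3 lc_b_rc_9_2 lc_b_rc_10_2 lc_b_rc_9_2 lc_b_rc_9_0 lc_b_rc_6_1 lc_b_rc_8_2 lc_b_rc_9_2 lc_b_rc_6_1 lc_b_Cert_tree lc_b_Cert_tree lc_b_rc_6_1 lc_b_rc_9_2 lc_b_Cert_tree lc_b_rc_1_3 lc_b_rc_8_2 lc_b_rc_9_2 lc_b_Cert_tree lc_b_rc_8_2 lc_b_rc_10_2) (@D3.rec (fun _ => (Cert rels S Gen.b)) lc_b_rc_6_1 lc_b_rc_26_5 lc_b_rc_9_2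 lc_b_rc_7_2 lc_b_rc_6_1 lc_b_rc_9_2 lc_b_rc_8_0 lc_b_rc_10_2 lc_b_rc_9_2 lc_b_rc_6_1 lc_b_rc_6_1 lc_b_rc_9_2 lc_b_rc_9_2 lc_b_rc_26_1 lc_b_rc_26_1 lc_b_rc_10_2 lc_b_rc_9_2 lc_b_rc_8_2 lc_b_rc_9_2 lc_b_rc_26_1 lc_b_rc_8_0 lc_b_rc_8_2 lc_b_rc_26_5 lc_b_rc_8_2 lc_b_rc_26_1 lc_b_rc_26_1 lc_b_rc_10_2 lc_b_rc_26_1 lc_b_rc_7_4 lc_b_rc_1_3 lc_b_rc_9_2 lc_b_rc_9_2 lc_b_rc_9_2 lc_b_rc_9_2 lc_b_rc_6_1 lc_b_rc_6_1 lc_b_rc_8_2 lc_b_rc_10_2 lc_b_rc_8_2 lc_b_rc_6_1 lc_b_rc_6_1 lc_b_rc_8_2 lc_b_rc_8_2 lc_b_rc_10_2 lc_b_rc_6_1 lc_b_rc_6_1 lc_b_rc_6_1 lc_b_rc_8_2 lc_b_Cert_tree lc_b_rc_25_12 lc_b_Cert_tree lc_b_rc_8_2 lc_b_rc_1_3 lc_b_rc_7_2 lc_b_rc_6_1 lc_b_rc_26_5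 lc_b_rc_8_2 lc_b_rc_10_2 lc_b_rc_8_2 lc_b_rc_10_2 lc_b_rc_6_1 lc_b_rc_8_2) (@D3.rec (fun _ => (Cert rels S Gen.b)) lc_b_rc_8_2 lc_b_rc_1_3 lc_b_Cert_tree lc_b_rc_10_2 lc_b_Cert_tree lc_b_Cert_tree lc_b_Cert_tree lc_b_rc_6_1 lc_b_rc_6_1 lc_b_rc_25_12 lc_b_rc_6_1 lc_b_Cert_tree lc_b_rc_7_4 lc_b_rc_26_1 lc_b_rc_9_2 lc_b_rc_26_5 lc_b_rc_9_2 lc_b_rc_6_1 lc_b_Cert_tree lc_b_rc_8_2 lc_b_rc_26_7 lc_b_rc_26_5 lc_b_rc_26_7 lc_b_rc_10_2 lc_b_Cert_tree lc_b_rc_8_0 lc_b_Cert_tree lc_b_rc_9_2 lc_b_rc_7_4 lc_b_rc_9_2 lc_b_rc_6_1 lc_b_rc_8_2 lc_b_rc_10_2 lc_b_rc_26_1 lc_b_rc_6_1 lc_b_rc_9_2 lc_b_rc_26_5 lc_b_rc_7_2 lc_b_rc_9_2 lc_b_rc_6_1 lc_b_rc_8_2 lc_b_rc_10_2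 lc_b_rc_9_2 lc_b_rc_9_0 lc_b_rc_6_1 lc_b_rc_8_2 lc_b_rc_10_2 lc_b_rc_6_1 lc_b_rc_9_2 lc_b_rc_9_2 lc_b_rc_8_2 lc_b_rc_10_2 lc_b_rc_6_1 lc_b_rc_26_7 lc_b_rc_8_2 lc_b_rc_9_2 lc_b_rc_6_1 lc_b_rc_26_5 lc_b_rc_8_2 lc_b_rc_26_5 lc_b_rc_7_2 lc_b_rc_10_2) (@D3.rec (fun _ => (Cert rels S Gen.b)) lc_b_rc_8_2 lc_b_rc_26_5 lc_b_rc_8_2 lc_b_rc_9_2 lc_b_rc_8_0 lc_b_Cert_tree lc_b_rc_7_4 lc_b_rc_10_2 lc_b_Cert_tree lc_b_rc_10_2 lc_b_rc_9_0 lc_b_rc_26_1 lc_b_rc_1_3 lc_b_rc_8_2 lc_b_rc_9_2 lc_b_rc_9_2 lc_b_rc_1_5 lc_b_rc_6_1 lc_b_Cert_tree lc_b_rc_9_2 lc_b_rc_6_1 lc_b_Cert_tree lc_b_rc_25_16 lc_b_rc_9_2 lc_b_rc_6_1 lc_b_rc_26_7 lc_b_Cert_tree lc_b_rc_1_3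 lc_b_rc_8_2 lc_b_rc_9_0 lc_b_rc_6_1 lc_b_rc_6_1 lc_b_rc_1_5 lc_b_rc_1_3 lc_b_rc_8_2 lc_b_rc_9_2 lc_b_rc_8_0 lc_b_rc_6_1 lc_b_rc_8_0 lc_b_rc_1_3 lc_b_rc_9_2 lc_b_rc_8_2 lc_b_rc_6_1 lc_b_rc_9_2 lc_b_rc_8_2 lc_b_rc_26_5 lc_b_Cert_tree lc_b_rc_10_2 lc_b_rc_9_2 lc_b_rc_8_0 lc_b_rc_8_2 lc_b_rc_7_0 lc_b_rc_6_1 lc_b_rc_8_2 lc_b_rc_10_2 lc_b_rc_26_1 lc_b_rc_6_1 lc_b_rc_6_1 lc_b_rc_26_5 lc_b_Cert_tree lc_b_rc_8_2 lc_b_Cert_tree) (@D3.rec (fun _ => (Cert rels S Gen.b)) lc_b_Cert_tree lc_b_Cert_tree lc_b_rc_6_1 lc_b_rc_8_2 lc_b_rc_10_2 lc_b_rc_9_0 lc_b_rc_26_5 lc_b_rc_6_1 lc_b_rc_1_3 lc_b_rc_1_1 lc_b_rc_26_1 lc_b_rc_1_3 lc_b_rc_7_2 lc_b_rc_8_2 lc_b_rc_7_4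 lc_b_rc_7_2 lc_b_rc_9_2 lc_b_rc_1_1 lc_b_rc_26_5 lc_b_rc_6_1 lc_b_rc_1_1 lc_b_rc_10_2 lc_b_rc_8_2 lc_b_rc_10_2 lc_b_rc_26_1 lc_b_rc_6_1 lc_b_rc_26_5 lc_b_rc_8_2 lc_b_rc_9_0 lc_b_rc_9_0 lc_b_rc_10_2 lc_b_rc_10_2 lc_b_rc_6_1 lc_b_rc_8_0 lc_b_rc_9_2 lc_b_rc_26_5 lc_b_Cert_tree lc_b_rc_9_2 lc_b_rc_10_2 lc_b_rc_6_1 lc_b_rc_8_2 lc_b_rc_9_2 lc_b_rc_8_2 lc_b_rc_9_2 lc_b_Cert_tree lc_b_rc_7_4 lc_b_rc_7_2 lc_b_rc_1_1 lc_b_rc_8_2 lc_b_Cert_tree lc_b_rc_7_0 lc_b_rc_1_3 lc_b_rc_7_2 lc_b_rc_6_1 lc_b_rc_8_2 lc_b_Cert_tree lc_b_rc_26_5 lc_b_rc_6_1 lc_b_Cert_tree lc_b_rc_8_2 lc_b_rc_6_1 lc_b_Cert_tree) (@D3.rec (fun _ => (Cert rels S Gen.b)) lc_b_rc_26_7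 lc_b_Cert_tree lc_b_rc_25_12 lc_b_rc_6_1 lc_b_rc_8_2 lc_b_rc_10_2 lc_b_rc_7_2 lc_b_rc_8_2 lc_b_rc_9_2 lc_b_rc_1_5 lc_b_Cert_tree lc_b_rc_26_5 lc_b_rc_26_7 lc_b_rc_10_2 lc_b_rc_6_1 lc_b_rc_9_2 lc_b_rc_10_0 lc_b_rc_9_2 lc_b_rc_6_1 lc_b_rc_1_5 lc_b_rc_6_1 lc_b_rc_6_1 lc_b_rc_8_2 lc_b_rc_6_1 lc_b_rc_26_7 lc_b_rc_6_1 lc_b_rc_8_2 lc_b_Cert_tree lc_b_rc_6_1 lc_b_rc_9_2 lc_b_rc_8_2 lc_b_rc_10_2 lc_b_rc_8_2 lc_b_Cert_tree lc_b_rc_7_4 lc_b_rc_9_2 lc_b_rc_10_2 lc_b_rc_1_3 lc_b_rc_9_2 lc_b_rc_8_2 lc_b_rc_9_2 lc_b_rc_6_1 lc_b_rc_7_2 lc_b_rc_9_2 lc_b_rc_9_2 lc_b_rc_6_1 lc_b_rc_26_5 lc_b_rc_8_2 lc_b_rc_10_2 lc_b_rc_6_1 lc_b_rc_8_2 lc_b_rc_10_2 lc_b_rc_7_2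 lc_b_rc_9_2 lc_b_rc_9_2 lc_b_rc_8_0 lc_b_rc_8_2 lc_b_rc_6_1 lc_b_rc_9_2 lc_b_rc_6_1 lc_b_rc_10_2 lc_b_rc_8_2) (@D3.rec (fun _ => (Cert rels S Gen.b)) lc_b_rc_10_2 lc_b_rc_9_2 lc_b_rc_26_5 lc_b_rc_6_1 lc_b_rc_8_2 lc_b_rc_10_2 lc_b_rc_6_1 lc_b_rc_7_4 lc_b_rc_8_2 lc_b_rc_7_4 lc_b_rc_8_2 lc_b_rc_9_2 lc_b_Cert_tree lc_b_rc_8_2 lc_b_Cert_tree lc_b_rc_10_2 lc_b_rc_6_1 lc_b_rc_9_0 lc_b_rc_26_7 lc_b_rc_6_1 lc_b_rc_8_2 lc_b_rc_9_2 lc_b_rc_8_0 lc_b_Cert_tree lc_b_Cert_tree lc_b_rc_10_2 lc_b_rc_6_1 lc_b_rc_8_2 lc_b_Cert_tree lc_b_rc_8_2 lc_b_Cert_tree lc_b_rc_9_2 lc_b_rc_7_2 lc_b_rc_6_1 lc_b_rc_6_1 lc_b_Cert_tree lc_b_rc_8_2 lc_b_rc_26_5 lc_b_rc_6_1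 lc_b_Cert_tree lc_b_rc_8_2 lc_b_Cert_tree lc_b_rc_10_2 lc_b_rc_6_1 lc_b_rc_8_2 lc_b_rc_10_2 lc_b_rc_9_2 lc_b_rc_9_0 lc_b_rc_8_2 lc_b_Cert_tree lc_b_rc_9_2 lc_b_rc_25_16 lc_b_rc_10_2 lc_b_rc_6_1 lc_b_rc_8_2 lc_b_rc_9_2 lc_b_rc_6_1 lc_b_rc_8_2 lc_b_rc_8_2 lc_b_rc_10_0 lc_b_rc_6_1 lc_b_rc_8_2) (@D3.rec (fun _ => (Cert rels S Gen.b)) lc_b_rc_6_1 lc_b_rc_8_2 lc_b_rc_6_1 lc_b_rc_8_2 lc_b_Cert_tree lc_b_rc_7_0 lc_b_rc_8_2 lc_b_Cert_tree lc_b_Cert_tree lc_b_Cert_tree lc_b_rc_9_2 lc_b_rc_8_2 lc_b_rc_9_2 lc_b_rc_9_2 lc_b_rc_9_2 lc_b_rc_26_7 lc_b_rc_6_1 lc_b_rc_10_2 lc_b_rc_8_2 lc_b_rc_9_2 lc_b_rc_8_2 lc_b_rc_6_1 lc_b_rc_6_1 lc_b_rc_9_2 lc_b_rc_8_2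 lc_b_rc_8_2 lc_b_rc_9_2 lc_b_rc_6_1 lc_b_rc_8_2 lc_b_rc_10_2 lc_b_rc_6_1 lc_b_Cert_tree lc_b_rc_8_2 lc_b_rc_9_2 lc_b_rc_6_1 lc_b_rc_26_5 lc_b_rc_8_2 lc_b_rc_9_2 lc_b_Cert_tree lc_b_rc_8_2 lc_b_rc_9_0 lc_b_rc_10_2 lc_b_rc_6_1 lc_b_rc_7_4 lc_b_rc_10_0 lc_b_rc_6_1 lc_b_rc_8_2 lc_b_Cert_tree lc_b_rc_6_1 lc_b_rc_10_2 lc_b_rc_6_1 lc_b_Cert_tree lc_b_rc_6_1 lc_b_rc_8_2 lc_b_rc_10_2 lc_b_rc_1_5 lc_b_rc_26_7 lc_b_rc_9_2 lc_b_rc_6_1 lc_b_rc_8_2 lc_b_rc_26_7 lc_b_rc_6_1) (@D3.rec (fun _ => (Cert rels S Gen.b)) lc_b_rc_8_2 lc_b_rc_6_1 lc_b_rc_8_2 lc_b_Cert_tree lc_b_rc_10_2 lc_b_rc_8_2 lc_b_rc_6_1 lc_b_rc_8_2 lc_b_rc_9_2 lc_b_Cert_tree lc_b_Cert_tree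 lc_b_rc_25_12 lc_b_rc_10_2 lc_b_rc_6_1 lc_b_rc_6_1 lc_b_rc_1_3 lc_b_Cert_tree lc_b_Cert_tree lc_b_rc_6_1 lc_b_rc_8_2 lc_b_rc_10_2 lc_b_rc_6_1 lc_b_rc_25_8 lc_b_rc_9_2 lc_b_rc_9_2 lc_b_Cert_tree lc_b_rc_9_2 lc_b_Cert_tree lc_b_rc_8_2 lc_b_rc_6_1 lc_b_rc_10_2 lc_b_rc_9_2 lc_b_rc_26_7 lc_b_rc_6_1 lc_b_rc_9_2 lc_b_rc_9_2 lc_b_rc_8_2 lc_b_rc_8_0 lc_b_rc_9_2 lc_b_rc_7_0 lc_b_rc_9_0 lc_b_rc_8_2 lc_b_rc_10_2 lc_b_rc_1_1 lc_b_rc_9_2 lc_b_rc_10_2 lc_b_rc_10_2 lc_b_rc_9_2 lc_b_rc_26_1 lc_b_Cert_tree lc_b_rc_10_2 lc_b_rc_6_1 lc_b_rc_7_0 lc_b_rc_8_2 lc_b_rc_10_2 lc_b_rc_6_1 lc_b_rc_8_2 lc_b_rc_1_5 lc_b_rc_6_1 lc_b_rc_26_7 lc_b_rc_8_2 lc_b_rc_9_2) (@D3.rec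 (fun _ => (Cert rels S Gen.b)) lc_b_rc_8_0 lc_b_rc_8_2 lc_b_Cert_tree lc_b_rc_10_2 lc_b_rc_8_2 lc_b_rc_9_2 lc_b_rc_26_5 lc_b_rc_1_1 lc_b_rc_8_2 lc_b_rc_6_1 lc_b_rc_7_0 lc_b_rc_8_2 lc_b_rc_26_5 lc_b_rc_9_2 lc_b_rc_6_1 lc_b_rc_8_2 lc_b_rc_26_1 lc_b_rc_26_1 lc_b_rc_9_0 lc_b_rc_6_1 lc_b_rc_26_7 lc_b_rc_8_2 lc_b_rc_9_2 lc_b_rc_7_4 lc_b_rc_7_4 lc_b_Cert_tree lc_b_rc_10_2 lc_b_Cert_tree lc_b_rc_8_2 lc_b_rc_1_5 lc_b_rc_26_1 lc_b_rc_1_1 lc_b_rc_10_0 lc_b_rc_7_4 lc_b_rc_9_2 lc_b_rc_26_1 lc_b_rc_1_1 lc_b_rc_7_2 lc_b_rc_8_2 lc_b_rc_9_2 lc_b_rc_8_2 lc_b_rc_9_2 lc_b_rc_8_0 lc_b_rc_9_2 lc_b_rc_10_2 lc_b_rc_8_2 lc_b_rc_10_2 lc_b_rc_6_1 lc_b_Cert_tree lc_b_rc_6_1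 lc_b_rc_9_2 lc_b_rc_6_1 lc_b_rc_10_2 lc_b_rc_7_0 lc_b_rc_8_2 lc_b_Cert_tree lc_b_rc_8_2 lc_b_rc_6_1 lc_b_rc_7_0 lc_b_rc_25_16 lc_b_rc_9_2 lc_b_rc_9_2) (@D3.rec (fun _ => (Cert rels S Gen.b)) lc_b_rc_6_1 lc_b_rc_26_5 lc_b_rc_8_2 lc_b_rc_6_1 lc_b_rc_8_2 lc_b_rc_8_2 lc_b_rc_9_2 lc_b_rc_8_0 lc_b_rc_8_0 lc_b_rc_25_16 lc_b_rc_8_2 lc_b_rc_8_2 lc_b_rc_9_2 lc_b_rc_6_1 lc_b_rc_8_2 lc_b_rc_26_5 lc_b_Cert_tree lc_b_rc_8_2 lc_b_rc_6_1 lc_b_rc_9_2 lc_b_rc_9_0 lc_b_Cert_tree lc_b_rc_8_2 lc_b_rc_10_2 lc_b_rc_8_2 lc_b_rc_6_1 lc_b_rc_8_2 lc_b_rc_1_5 lc_b_Cert_tree lc_b_Cert_tree lc_b_rc_6_1 lc_b_rc_10_2 lc_b_rc_26_5 lc_b_rc_8_2 lc_b_rc_8_2 lc_b_rc_1_5 lc_b_rc_8_2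 lc_b_rc_10_0 lc_b_rc_9_2 lc_b_rc_8_2 lc_b_rc_6_1 lc_b_rc_1_5 lc_b_rc_10_2 lc_b_rc_9_2 lc_b_rc_26_1 lc_b_rc_7_0 lc_b_rc_8_0 lc_b_rc_8_0 lc_b_rc_6_1 lc_b_rc_8_2 lc_b_rc_10_2 lc_b_rc_26_7 lc_b_rc_10_2 lc_b_rc_6_1 lc_b_rc_26_5 lc_b_rc_1_5 lc_b_rc_7_4 lc_b_rc_8_2 lc_b_rc_6_1 lc_b_Cert_tree lc_b_rc_26_7 lc_b_rc_8_2) (@D3.rec (fun _ => (Cert rels S Gen.b)) lc_b_rc_10_2 lc_b_rc_8_2 lc_b_rc_7_0 lc_b_rc_8_2 lc_b_rc_8_2 lc_b_Cert_tree lc_b_rc_7_2 lc_b_rc_9_2 lc_b_rc_6_1 lc_b_rc_26_1 lc_b_rc_9_2 lc_b_rc_8_2 lc_b_rc_6_1 lc_b_rc_9_2 lc_b_Cert_tree lc_b_rc_7_4 lc_b_rc_8_0 lc_b_rc_1_1 lc_b_rc_8_2 lc_b_rc_8_2 lc_b_rc_9_2 lc_b_rc_6_1 lc_b_rc_9_2 lc_b_rc_26_5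 lc_b_Cert_tree lc_b_rc_9_2 lc_b_rc_10_2 lc_b_rc_7_4 lc_b_rc_8_2 lc_b_rc_25_0 lc_b_rc_9_2 lc_b_rc_26_7 lc_b_rc_25_16 lc_b_rc_9_2 lc_b_rc_7_0 lc_b_rc_26_7 lc_b_rc_8_2 lc_b_rc_9_0 lc_b_rc_1_1 lc_b_rc_6_1 lc_b_rc_9_0 lc_b_rc_6_1 lc_b_rc_9_2 lc_b_rc_6_1 lc_b_rc_8_2 lc_b_rc_9_2 lc_b_Cert_tree lc_b_rc_25_8 lc_b_rc_9_2 lc_b_rc_8_2 lc_b_Cert_tree lc_b_rc_6_1 lc_b_Cert_tree lc_b_rc_9_2 lc_b_rc_9_2 lc_b_rc_8_2 lc_b_rc_6_1 lc_b_rc_26_7 lc_b_rc_6_1 lc_b_rc_6_1 lc_b_rc_8_2 lc_b_rc_6_1) (@D3.rec (fun _ => (Cert rels S Gen.b)) lc_b_rc_7_0 lc_b_rc_7_4 lc_b_rc_8_2 lc_b_rc_7_2 lc_b_rc_6_1 lc_b_rc_7_4 lc_b_rc_8_2 lc_b_rc_8_2 lc_b_Cert_tree lc_b_rc_7_2 lc_b_rc_9_2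 lc_b_rc_6_1 lc_b_Cert_tree lc_b_rc_26_5 lc_b_rc_6_1 lc_b_rc_7_0 lc_b_rc_10_2 lc_b_rc_6_1 lc_b_rc_6_1 lc_b_rc_6_1 lc_b_rc_6_1 lc_b_rc_26_5 lc_b_rc_9_2 lc_b_rc_6_1 lc_b_rc_10_0 lc_b_rc_8_2 lc_b_rc_8_2 lc_b_rc_1_1 lc_b_rc_8_0 lc_b_Cert_tree lc_b_Cert_tree lc_b_rc_9_2 lc_b_rc_9_0 lc_b_rc_7_0 lc_b_rc_8_2 lc_b_rc_10_2 lc_b_rc_6_1 lc_b_rc_26_1 lc_b_rc_8_2 lc_b_rc_6_1 lc_b_Cert_tree lc_b_rc_6_1 lc_b_rc_6_1 lc_b_rc_9_2 lc_b_rc_6_1 lc_b_rc_8_2 lc_b_rc_8_2 lc_b_Cert_tree lc_b_rc_26_1 lc_b_rc_1_1 lc_b_rc_26_5 lc_b_rc_26_1 lc_b_rc_8_2 lc_b_rc_8_2 lc_b_rc_6_1 lc_b_rc_26_1 lc_b_rc_9_2 lc_b_rc_6_1 lc_b_rc_6_1 lc_b_rc_10_0 lc_b_rc_9_2 lc_b_rc_6_1) (@D3.rec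 (fun _ => (Cert rels S Gen.b)) lc_b_rc_8_2 lc_b_rc_7_2 lc_b_rc_1_3 lc_b_rc_8_2 lc_b_Cert_tree lc_b_rc_6_1 lc_b_Cert_tree lc_b_rc_7_0 lc_b_rc_6_1 lc_b_rc_6_1 lc_b_rc_9_2 lc_b_rc_6_1 lc_b_rc_8_2 lc_b_Cert_tree lc_b_Cert_tree lc_b_rc_1_3 lc_b_rc_8_2 lc_b_rc_9_2 lc_b_rc_9_2 lc_b_rc_9_2 lc_b_rc_6_1 lc_b_Cert_tree lc_b_rc_1_3 lc_b_rc_8_2 lc_b_rc_9_2 lc_b_rc_9_2 lc_b_rc_26_7 lc_b_rc_10_2 lc_b_rc_8_2 lc_b_Cert_tree lc_b_rc_1_3 lc_b_rc_8_2 lc_b_rc_9_2 lc_b_rc_8_2 lc_b_rc_10_2 lc_b_rc_6_1 lc_b_rc_26_7 lc_b_rc_8_2 lc_b_rc_9_2 lc_b_rc_6_1 lc_b_rc_8_2 lc_b_rc_9_2 lc_b_rc_8_2 lc_b_Cert_tree lc_b_rc_6_1 lc_b_Cert_tree lc_b_rc_9_2 lc_b_rc_6_1 lc_b_rc_9_2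 lc_b_rc_6_1 lc_b_rc_9_2 lc_b_rc_6_1 lc_b_rc_9_2 lc_b_rc_26_5 lc_b_rc_7_4 lc_b_rc_8_0 lc_b_rc_6_1 lc_b_rc_9_2 lc_b_Cert_tree lc_b_rc_9_2 lc_b_rc_8_2 lc_b_rc_10_2) (@D3.rec (fun _ => (Cert rels S Gen.b)) lc_b_rc_8_2 lc_b_Cert_tree lc_b_rc_6_1 lc_b_rc_25_12 lc_b_rc_9_2 lc_b_rc_10_2 lc_b_rc_6_1 lc_b_rc_8_2 lc_b_rc_26_1 lc_b_rc_8_2 lc_b_rc_9_2 lc_b_rc_6_1 lc_b_rc_8_2 lc_b_rc_9_2 lc_b_rc_1_3 lc_b_rc_26_5 lc_b_Cert_tree lc_b_rc_8_2 lc_b_rc_10_2 lc_b_Cert_tree lc_b_Cert_tree lc_b_rc_10_2 lc_b_rc_6_1 lc_b_rc_9_0 lc_b_rc_8_2 lc_b_rc_7_2 lc_b_rc_26_1 lc_b_rc_8_2 lc_b_rc_1_1 lc_b_rc_9_2 lc_b_rc_9_0 lc_b_rc_26_5 lc_b_rc_6_1 lc_b_rc_26_5 lc_b_rc_8_2 lc_b_rc_6_1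 lc_b_rc_26_5 lc_b_rc_8_2 lc_b_rc_9_2 lc_b_Cert_tree lc_b_Cert_tree lc_b_rc_6_1 lc_b_rc_26_5 lc_b_rc_10_2 lc_b_rc_8_2 lc_b_rc_9_2 lc_b_rc_8_2 lc_b_rc_9_2 lc_b_rc_8_2 lc_b_Cert_tree lc_b_rc_6_1 lc_b_rc_6_1 lc_b_rc_7_4 lc_b_rc_6_1 lc_b_rc_25_8 lc_b_Cert_tree lc_b_rc_6_1 lc_b_rc_8_2 lc_b_rc_10_2 lc_b_rc_8_0 lc_b_rc_6_1 lc_b_rc_1_1) (@D3.rec (fun _ => (Cert rels S Gen.b)) lc_b_rc_9_2 lc_b_Cert_tree lc_b_Cert_tree lc_b_rc_26_1 lc_b_rc_26_5 lc_b_rc_6_1 lc_b_rc_6_1 lc_b_rc_1_1 lc_b_rc_8_2 lc_b_Cert_tree lc_b_rc_6_1 lc_b_rc_9_2 lc_b_Cert_tree lc_b_rc_8_2 lc_b_rc_7_4 lc_b_rc_26_5 lc_b_rc_6_1 lc_b_rc_10_0 lc_b_rc_6_1 lc_b_rc_8_2 lc_b_rc_7_2 lc_b_Cert_tree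 lc_b_rc_6_1 lc_b_rc_1_3 lc_b_rc_8_2 lc_b_rc_10_2 lc_b_Cert_tree lc_b_rc_8_2 lc_b_Cert_tree lc_b_rc_7_0 lc_b_rc_10_2 lc_b_rc_26_7 lc_b_rc_8_2 lc_b_rc_8_2 lc_b_Cert_tree lc_b_Cert_tree lc_b_rc_6_1 lc_b_rc_10_0 lc_b_rc_6_1 lc_b_Cert_tree lc_b_rc_6_1 lc_b_rc_1_3 lc_b_Cert_tree lc_b_rc_8_2 lc_b_rc_1_3 lc_b_rc_6_1 lc_b_rc_8_2 lc_b_Cert_tree lc_b_rc_9_2 lc_b_rc_7_4 lc_b_rc_8_2 lc_b_rc_7_2 lc_b_rc_8_2 lc_b_rc_10_2 lc_b_Cert_tree lc_b_rc_6_1 lc_b_rc_26_1 lc_b_rc_8_2 lc_b_rc_9_2 lc_b_rc_7_4 lc_b_rc_6_1 lc_b_Cert_tree) (@D3.rec (fun _ => (Cert rels S Gen.b)) lc_b_rc_8_2 lc_b_rc_9_2 lc_b_rc_1_3 lc_b_Cert_tree lc_b_Cert_tree lc_b_rc_8_0 lc_b_rc_9_2 lc_b_rc_10_2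 lc_b_rc_9_2 lc_b_rc_6_1 lc_b_rc_6_1 lc_b_Cert_tree lc_b_rc_10_2 lc_b_rc_25_0 lc_b_rc_6_1 lc_b_rc_26_5 lc_b_rc_9_2 lc_b_Cert_tree lc_b_rc_8_2 lc_b_rc_6_1 lc_b_rc_8_2 lc_b_rc_8_2 lc_b_Cert_tree lc_b_rc_6_1 lc_b_Cert_tree lc_b_Cert_tree lc_b_rc_1_5 lc_b_rc_9_0 lc_b_Cert_tree lc_b_rc_6_1 lc_b_rc_8_2 lc_b_rc_25_4 lc_b_rc_9_2 lc_b_rc_6_1 lc_b_rc_26_7 lc_b_rc_6_1 lc_b_Cert_tree lc_b_rc_8_2 lc_b_Cert_tree lc_b_rc_6_1 lc_b_rc_26_1 lc_b_rc_8_2 lc_b_rc_9_2 lc_b_rc_8_2 lc_b_Cert_tree lc_b_rc_8_0 lc_b_Cert_tree lc_b_rc_8_2 lc_b_rc_8_2 lc_b_Cert_tree lc_b_rc_6_1 lc_b_rc_7_2 lc_b_rc_9_2 lc_b_Cert_tree lc_b_rc_8_2 lc_b_rc_6_1 lc_b_rc_25_8 lc_b_rc_8_2 lc_b_rc_9_2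 lc_b_rc_6_1 lc_b_Cert_tree lc_b_rc_9_2) (@D3.rec (fun _ => (Cert rels S Gen.b)) lc_b_Cert_tree lc_b_Cert_tree lc_b_rc_6_1 lc_b_rc_8_2 lc_b_rc_10_2 lc_b_rc_8_2 lc_b_rc_8_2 lc_b_Cert_tree lc_b_rc_9_2 lc_b_rc_6_1 lc_b_rc_8_2 lc_b_rc_9_2 lc_b_Cert_tree lc_b_Cert_tree lc_b_rc_6_1 lc_b_rc_8_2 lc_b_rc_1_5 lc_b_rc_7_4 lc_b_rc_6_1 lc_b_rc_8_2 lc_b_Cert_tree lc_b_rc_6_1 lc_b_rc_26_7 lc_b_rc_8_2 lc_b_rc_9_2 lc_b_rc_8_2 lc_b_rc_25_16 lc_b_rc_8_0 lc_b_Cert_tree lc_b_rc_1_3 lc_b_rc_8_2 lc_b_rc_10_2 lc_b_Cert_tree lc_b_rc_8_2 lc_b_Cert_tree lc_b_rc_9_2 lc_b_rc_10_2 lc_b_rc_6_1 lc_b_rc_6_1 lc_b_Cert_tree lc_b_rc_7_4 lc_b_rc_1_3 lc_b_rc_6_1 lc_b_rc_8_2 lc_b_rc_8_2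 lc_b_Cert_tree lc_b_rc_1_3 lc_b_Cert_tree lc_b_rc_8_2 lc_b_Cert_tree lc_b_Cert_tree lc_b_rc_8_2 lc_b_rc_1_3 lc_b_rc_1_3 lc_b_rc_7_4 lc_b_rc_8_2 lc_b_rc_9_2 lc_b_rc_8_0 lc_b_rc_10_2 lc_b_rc_1_5 lc_b_rc_26_1 lc_b_rc_8_2) (@D3.rec (fun _ => (Cert rels S Gen.b)) lc_b_rc_10_2 lc_b_rc_6_1 lc_b_Cert_tree lc_b_rc_8_2 lc_b_rc_8_2 lc_b_Cert_tree lc_b_Cert_tree lc_b_rc_7_4 lc_b_rc_9_2 lc_b_rc_10_2 lc_b_rc_9_2 lc_b_rc_6_1 lc_b_rc_7_2 lc_b_rc_9_2 lc_b_rc_8_2 lc_b_rc_1_1 lc_b_rc_9_2 lc_b_rc_9_2 lc_b_rc_9_2 lc_b_rc_9_2 lc_b_rc_7_0 lc_b_rc_9_2 lc_b_rc_26_1 lc_b_rc_26_5 lc_b_rc_10_2 lc_b_rc_6_1 lc_b_rc_26_5 lc_b_rc_9_2 lc_b_rc_6_1 lc_b_rc_8_0 lc_b_Cert_tree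 lc_b_rc_10_2 lc_b_rc_9_2 lc_b_rc_8_0 lc_b_rc_26_5 lc_b_rc_9_2 lc_b_rc_8_2 lc_b_rc_26_1 lc_b_rc_1_3 lc_b_rc_10_2 lc_b_Cert_tree lc_b_rc_8_2 lc_b_rc_26_1 lc_b_rc_6_1 lc_b_rc_8_2 lc_b_rc_26_7 lc_b_Cert_tree lc_b_Cert_tree lc_b_rc_8_2 lc_b_rc_9_0 lc_b_rc_7_0 lc_b_rc_9_0 lc_b_rc_1_5 lc_b_rc_8_0 lc_b_Cert_tree lc_b_rc_6_1 lc_b_rc_26_1 lc_b_rc_10_2 lc_b_rc_8_2 lc_b_rc_9_2 lc_b_rc_10_2 lc_b_rc_26_1) (@D3.rec (fun _ => (Cert rels S Gen.b)) lc_b_Cert_tree lc_b_rc_10_0 lc_b_rc_1_5 lc_b_rc_9_2 lc_b_rc_6_1 lc_b_rc_8_2 lc_b_Cert_tree lc_b_rc_8_0 lc_b_rc_7_4 lc_b_Cert_tree lc_b_rc_8_0 lc_b_Cert_tree lc_b_rc_7_2 lc_b_Cert_tree lc_b_rc_6_1 lc_b_rc_8_2 lc_b_rc_9_2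 lc_b_rc_1_1 lc_b_rc_8_2 lc_b_rc_9_2 lc_b_rc_10_2 lc_b_rc_7_2 lc_b_rc_8_2 lc_b_rc_9_2 lc_b_Cert_tree lc_b_rc_9_2 lc_b_rc_7_4 lc_b_rc_10_2 lc_b_rc_7_4 lc_b_rc_8_2 lc_b_rc_26_5 lc_b_rc_6_1 lc_b_rc_7_0 lc_b_rc_26_5 lc_b_rc_8_2 lc_b_rc_9_2 lc_b_rc_26_1 lc_b_Cert_tree lc_b_rc_7_4 lc_b_rc_8_2 lc_b_rc_26_1 lc_b_rc_6_1 lc_b_rc_10_0 lc_b_rc_9_2 lc_b_rc_8_2 lc_b_rc_6_1 lc_b_Cert_tree lc_b_rc_9_2 lc_b_rc_1_3 lc_b_rc_10_2 lc_b_rc_8_2 lc_b_rc_26_1 lc_b_rc_7_4 lc_b_rc_7_0 lc_b_Cert_tree lc_b_rc_8_2 lc_b_rc_9_2 lc_b_rc_8_2 lc_b_rc_8_2 lc_b_rc_8_2 lc_b_rc_10_2 lc_b_rc_9_0) (@D3.rec (fun _ => (Cert rels S Gen.b)) lc_b_rc_6_1 lc_b_Cert_tree lc_b_rc_6_1 lc_b_rc_9_2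 lc_b_rc_6_1 lc_b_rc_8_2 lc_b_rc_9_2 lc_b_rc_6_1 lc_b_rc_8_2 lc_b_rc_6_1 lc_b_rc_8_2 lc_b_Cert_tree lc_b_Cert_tree lc_b_rc_1_3 lc_b_rc_9_2 lc_b_rc_6_1 lc_b_Cert_tree lc_b_rc_26_1 lc_b_rc_6_1 lc_b_rc_8_2 lc_b_Cert_tree lc_b_rc_9_2 lc_b_rc_9_2 lc_b_rc_9_2 lc_b_rc_6_1 lc_b_rc_8_0 lc_b_rc_1_5 lc_b_rc_6_1 lc_b_Cert_tree lc_b_rc_8_0 lc_b_rc_1_5 lc_b_rc_6_1 lc_b_rc_26_1 lc_b_rc_26_5 lc_b_rc_6_1 lc_b_Cert_tree lc_b_rc_1_3 lc_b_rc_1_5 lc_b_Cert_tree lc_b_rc_6_1 lc_b_rc_8_2 lc_b_rc_6_1 lc_b_rc_9_2 lc_b_Cert_tree lc_b_rc_6_1 lc_b_rc_1_1 lc_b_rc_9_2 lc_b_rc_6_1 lc_b_rc_9_2 lc_b_rc_6_1 lc_b_rc_8_2 lc_b_rc_7_4 lc_b_Cert_tree lc_b_rc_8_0 lc_b_rc_10_2 lc_b_rc_7_0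 lc_b_rc_1_3 lc_b_rc_9_2 lc_b_rc_6_1 lc_b_Cert_tree lc_b_Cert_tree lc_b_rc_1_3) (@D3.rec (fun _ => (Cert rels S Gen.b)) lc_b_rc_7_2 lc_b_rc_7_0 lc_b_Cert_tree lc_b_rc_6_1 lc_b_rc_8_2 lc_b_rc_9_2 lc_b_rc_10_2 lc_b_rc_6_1 lc_b_rc_8_2 lc_b_rc_9_2 lc_b_rc_1_3 lc_b_rc_6_1 lc_b_rc_6_1 lc_b_rc_7_2 lc_b_rc_9_2 lc_b_rc_9_2 lc_b_rc_9_0 lc_b_rc_8_0 lc_b_rc_6_1 lc_b_rc_6_1 lc_b_rc_6_1 lc_b_rc_6_1 lc_b_rc_26_7 lc_b_rc_8_2 lc_b_rc_6_1 lc_b_rc_7_2 lc_b_rc_8_2 lc_b_rc_9_2 lc_b_rc_6_1 lc_b_rc_8_2 lc_b_rc_1_3 lc_b_Cert_tree lc_b_rc_9_2 lc_b_rc_6_1 lc_b_rc_9_2 lc_b_rc_10_0 lc_b_rc_1_3 lc_b_Cert_tree lc_b_rc_6_1 lc_b_rc_10_2 lc_b_rc_6_1 lc_b_rc_6_1 lc_b_Cert_tree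 lc_b_Cert_tree lc_b_rc_26_5 lc_b_rc_7_4 lc_b_rc_8_2 lc_b_rc_26_5 lc_b_rc_6_1 lc_b_Cert_tree lc_b_rc_8_2 lc_b_rc_9_2 lc_b_rc_6_1 lc_b_rc_10_2 lc_b_rc_1_3 lc_b_rc_8_2 lc_b_rc_9_2 lc_b_Cert_tree lc_b_rc_9_2 lc_b_rc_8_2 lc_b_rc_8_2 lc_b_rc_6_1) (@D3.rec (fun _ => (Cert rels S Gen.b)) lc_b_rc_8_2 lc_b_rc_8_2 lc_b_rc_9_2 lc_b_Cert_tree lc_b_rc_8_0 lc_b_rc_26_1 lc_b_rc_9_2 lc_b_Cert_tree lc_b_rc_10_2 lc_b_rc_8_2 lc_b_rc_6_1 lc_b_rc_7_4 lc_b_rc_8_2 lc_b_rc_9_2 lc_b_rc_6_1 lc_b_rc_25_16 lc_b_Cert_tree lc_b_Cert_tree lc_b_rc_1_3 lc_b_rc_7_2 lc_b_Cert_tree lc_b_rc_8_2 lc_b_rc_8_2 lc_b_rc_10_2 lc_b_rc_6_1 lc_b_rc_6_1 lc_b_Cert_tree lc_b_Cert_tree lc_b_rc_6_1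 lc_b_rc_8_2 lc_b_rc_7_0 lc_b_rc_7_0 lc_b_rc_1_3 lc_b_rc_8_2 lc_b_Cert_tree lc_b_rc_9_2 lc_b_rc_6_1 lc_b_rc_8_2 lc_b_rc_8_2 lc_b_rc_1_1 lc_b_rc_8_2 lc_b_rc_10_2 lc_b_rc_6_1 lc_b_Cert_tree lc_b_rc_6_1 lc_b_rc_25_0 lc_b_Cert_tree lc_b_rc_26_7 lc_b_rc_6_1 lc_b_rc_8_2 lc_b_rc_7_2 lc_b_rc_8_2 lc_b_rc_6_1 lc_b_rc_9_0 lc_b_rc_26_5 lc_b_rc_6_1 lc_b_rc_8_2 lc_b_rc_6_1 lc_b_rc_7_4 lc_b_rc_6_1 lc_b_rc_8_2 lc_b_rc_1_3) (@D3.rec (fun _ => (Cert rels S Gen.b)) lc_b_rc_6_1 lc_b_rc_26_1 lc_b_rc_8_2 lc_b_rc_6_1 lc_b_rc_9_0 lc_b_rc_8_2 lc_b_rc_10_2 lc_b_rc_9_2 lc_b_Cert_tree lc_b_rc_10_2 lc_b_Cert_tree lc_b_rc_10_2 lc_b_rc_8_2 lc_b_rc_8_2 lc_b_Cert_tree lc_b_Cert_tree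 lc_b_rc_10_2 lc_b_rc_9_2 lc_b_rc_6_1 lc_b_rc_7_0 lc_b_Cert_tree lc_b_rc_7_2 lc_b_Cert_tree lc_b_rc_8_2 lc_b_rc_26_5 lc_b_rc_6_1 lc_b_Cert_tree lc_b_rc_7_4 lc_b_rc_6_1 lc_b_rc_8_2 lc_b_rc_6_1 lc_b_Cert_tree lc_b_rc_8_0 lc_b_rc_8_2 lc_b_rc_6_1 lc_b_rc_1_1 lc_b_rc_8_2 lc_b_Cert_tree lc_b_Cert_tree lc_b_rc_8_2 lc_b_rc_8_2 lc_b_rc_1_5 lc_b_rc_6_1 lc_b_rc_7_2 lc_b_rc_9_2 lc_b_Cert_tree lc_b_rc_8_2 lc_b_rc_7_2 lc_b_rc_7_4 lc_b_rc_7_4 lc_b_rc_9_2 lc_b_rc_6_1 lc_b_rc_8_2 lc_b_rc_6_1 lc_b_rc_9_2 lc_b_rc_6_1 lc_b_rc_7_4 lc_b_Cert_tree lc_b_rc_8_2 lc_b_rc_1_3 lc_b_rc_8_2 lc_b_rc_9_2) (@D3.rec (fun _ => (Cert rels S Gen.b)) lc_b_rc_6_1 lc_b_Cert_tree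 lc_b_rc_9_2 lc_b_rc_6_1 lc_b_Cert_tree lc_b_rc_9_2 lc_b_rc_6_1 lc_b_rc_8_2 lc_b_rc_9_2 lc_b_rc_6_1 lc_b_rc_8_2 lc_b_rc_8_2 lc_b_rc_9_2 lc_b_Cert_tree lc_b_rc_1_3 lc_b_rc_8_2 lc_b_rc_9_2 lc_b_rc_9_2 lc_b_rc_7_4 lc_b_Cert_tree lc_b_rc_6_1 lc_b_rc_25_4 lc_b_rc_9_2 lc_b_rc_6_1 lc_b_Cert_tree lc_b_rc_1_3 lc_b_rc_9_2 lc_b_rc_6_1 lc_b_rc_6_1 lc_b_rc_6_1 lc_b_rc_8_2 lc_b_rc_6_1 lc_b_Cert_tree lc_b_Cert_tree lc_b_rc_1_3 lc_b_rc_8_2 lc_b_rc_9_2 lc_b_rc_9_0 lc_b_rc_7_0 lc_b_rc_8_2 lc_b_rc_9_2 lc_b_rc_25_4 lc_b_rc_6_1 lc_b_rc_26_5 lc_b_rc_8_0 lc_b_rc_7_0 lc_b_rc_8_2 lc_b_rc_10_2 lc_b_rc_6_1 lc_b_rc_6_1 lc_b_rc_1_5 lc_b_rc_6_1 lc_b_rc_8_2 lc_b_rc_26_1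 lc_b_Cert_tree lc_b_Cert_tree lc_b_rc_7_2 lc_b_Cert_tree lc_b_rc_6_1 lc_b_rc_8_2 lc_b_rc_10_2 lc_b_rc_7_2)
def ce_b_13 : D2 → D3 → (Cert rels S Gen.b) := @D2.rec (fun _ => D3 → (Cert rels S Gen.b)) (@D3.rec (fun _ => (Cert rels S Gen.b)) lc_b_rc_10_2 lc_b_rc_6_1 lc_b_rc_6_1 lc_b_rc_8_2 lc_b_rc_9_2 lc_b_Cert_tree lc_b_rc_6_1 lc_b_rc_6_1 lc_b_rc_8_2 lc_b_rc_9_2 lc_b_Cert_tree lc_b_rc_6_1 lc_b_rc_1_5 lc_b_rc_8_2 lc_b_rc_10_2 lc_b_rc_10_0 lc_b_rc_6_1 lc_b_Cert_tree lc_b_rc_8_2 lc_b_rc_9_2 lc_b_rc_6_1 lc_b_rc_1_3 lc_b_rc_9_2 lc_b_Cert_tree lc_b_rc_9_2 lc_b_rc_8_2 lc_b_rc_9_0 lc_b_rc_25_0 lc_b_rc_1_3 lc_b_rc_9_2 lc_b_rc_7_0 lc_b_rc_8_0 lc_b_rc_8_2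 lc_b_rc_10_2 lc_b_rc_6_1 lc_b_rc_6_1 lc_b_rc_6_1 lc_b_Cert_tree lc_b_rc_1_3 lc_b_rc_8_2 lc_b_rc_9_2 lc_b_rc_25_4 lc_b_rc_6_1 lc_b_Cert_tree lc_b_rc_9_2 lc_b_rc_6_1 lc_b_rc_8_2 lc_b_rc_26_1 lc_b_rc_6_1 lc_b_rc_8_0 lc_b_rc_9_2 lc_b_rc_26_1 lc_b_rc_8_2 lc_b_rc_8_2 lc_b_rc_9_2 lc_b_rc_1_5 lc_b_Cert_tree lc_b_rc_8_2 lc_b_rc_26_5 lc_b_rc_9_2 lc_b_rc_6_1 lc_b_rc_26_5) (@D3.rec (fun _ => (Cert rels S Gen.b)) lc_b_rc_9_2 lc_b_rc_9_0 lc_b_Cert_tree lc_b_rc_1_3 lc_b_rc_9_2 lc_b_rc_26_1 lc_b_rc_9_0 lc_b_rc_9_0 lc_b_rc_6_1 lc_b_rc_26_7 lc_b_rc_6_1 lc_b_rc_26_7 lc_b_Cert_tree lc_b_rc_6_1 lc_b_rc_8_2 lc_b_rc_8_0 lc_b_rc_9_2 lc_b_rc_8_2 lc_b_Cert_tree lc_b_rc_6_1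 lc_b_rc_9_2 lc_b_rc_26_1 lc_b_rc_26_7 lc_b_Cert_tree lc_b_rc_8_0 lc_b_rc_26_7 lc_b_rc_7_0 lc_b_rc_6_1 lc_b_rc_6_1 lc_b_rc_10_2 lc_b_rc_6_1 lc_b_rc_1_5 lc_b_rc_6_1 lc_b_rc_9_2 lc_b_rc_9_2 lc_b_rc_10_2 lc_b_Cert_tree lc_b_rc_9_2 lc_b_rc_8_2 lc_b_rc_9_2 lc_b_rc_9_0 lc_b_rc_9_2 lc_b_rc_8_0 lc_b_rc_8_2 lc_b_rc_7_0 lc_b_rc_7_4 lc_b_rc_7_4 lc_b_rc_26_5 lc_b_Cert_tree lc_b_rc_7_4 lc_b_rc_7_4 lc_b_rc_9_0 lc_b_rc_9_2 lc_b_rc_6_1 lc_b_rc_6_1 lc_b_rc_9_2 lc_b_rc_9_2 lc_b_rc_9_0 lc_b_rc_8_2 lc_b_rc_10_2 lc_b_rc_6_1 lc_b_rc_9_2) (@D3.rec (fun _ => (Cert rels S Gen.b)) lc_b_Cert_tree lc_b_rc_6_1 lc_b_rc_6_1 lc_b_rc_8_2 lc_b_Cert_tree lc_b_rc_6_1 lc_b_rc_6_1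 lc_b_rc_9_2 lc_b_rc_6_1 lc_b_rc_8_2 lc_b_rc_9_2 lc_b_rc_9_0 lc_b_rc_7_2 lc_b_rc_9_2 lc_b_rc_6_1 lc_b_rc_8_2 lc_b_rc_9_2 lc_b_rc_6_1 lc_b_rc_10_0 lc_b_rc_26_7 lc_b_rc_8_2 lc_b_rc_9_2 lc_b_Cert_tree lc_b_rc_6_1 lc_b_rc_7_4 lc_b_rc_9_2 lc_b_rc_26_5 lc_b_Cert_tree lc_b_rc_10_2 lc_b_rc_8_2 lc_b_rc_9_2 lc_b_rc_6_1 lc_b_rc_8_2 lc_b_rc_6_1 lc_b_rc_6_1 lc_b_rc_26_5 lc_b_Cert_tree lc_b_rc_1_3 lc_b_rc_8_2 lc_b_rc_8_2 lc_b_rc_6_1 lc_b_rc_6_1 lc_b_rc_6_1 lc_b_rc_1_3 lc_b_rc_8_2 lc_b_rc_8_0 lc_b_rc_9_2 lc_b_rc_7_4 lc_b_rc_9_2 lc_b_rc_6_1 lc_b_rc_6_1 lc_b_rc_8_2 lc_b_rc_10_2 lc_b_rc_8_2 lc_b_rc_6_1 lc_b_rc_8_2 lc_b_Cert_tree lc_b_rc_10_2 lc_b_rc_1_3 lc_b_rc_8_2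 lc_b_rc_8_2 lc_b_rc_8_2) (@D3.rec (fun _ => (Cert rels S Gen.b)) lc_b_rc_9_2 lc_b_rc_26_1 lc_b_rc_8_2 lc_b_rc_8_2 lc_b_rc_9_2 lc_b_rc_9_2 lc_b_rc_8_2 lc_b_Cert_tree lc_b_rc_26_7 lc_b_rc_8_2 lc_b_rc_9_2 lc_b_rc_8_2 lc_b_rc_26_7 lc_b_Cert_tree lc_b_Cert_tree lc_b_rc_9_2 lc_b_rc_9_2 lc_b_rc_9_2 lc_b_Cert_tree lc_b_rc_8_2 lc_b_rc_9_2 lc_b_rc_8_2 lc_b_Cert_tree lc_b_rc_8_0 lc_b_Cert_tree lc_b_rc_10_0 lc_b_rc_9_2 lc_b_rc_8_2 lc_b_rc_9_2 lc_b_Cert_tree lc_b_Cert_tree lc_b_rc_9_2 lc_b_rc_1_5 lc_b_rc_1_3 lc_b_rc_8_2 lc_b_rc_9_2 lc_b_rc_9_0 lc_b_rc_9_2 lc_b_rc_6_1 lc_b_Cert_tree lc_b_rc_9_2 lc_b_rc_6_1 lc_b_rc_9_0 lc_b_Cert_tree lc_b_Cert_tree lc_b_rc_6_1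 lc_b_rc_8_2 lc_b_rc_10_2 lc_b_rc_9_2 lc_b_rc_6_1 lc_b_rc_8_2 lc_b_rc_6_1 lc_b_rc_7_2 lc_b_rc_8_2 lc_b_rc_9_2 lc_b_Cert_tree lc_b_Cert_tree lc_b_Cert_tree lc_b_rc_9_2 lc_b_rc_6_1 lc_b_rc_6_1 lc_b_Cert_tree) (@D3.rec (fun _ => (Cert rels S Gen.b)) lc_b_Cert_tree lc_b_rc_6_1 lc_b_rc_8_2 lc_b_Cert_tree lc_b_rc_26_1 lc_b_rc_8_2 lc_b_rc_9_2 lc_b_Cert_tree lc_b_rc_9_2 lc_b_rc_26_7 lc_b_rc_6_1 lc_b_rc_6_1 lc_b_rc_8_2 lc_b_Cert_tree lc_b_Cert_tree lc_b_Cert_tree lc_b_Cert_tree lc_b_rc_9_2 lc_b_Cert_tree lc_b_rc_6_1 lc_b_rc_10_2 lc_b_Cert_tree lc_b_rc_8_2 lc_b_rc_1_3 lc_b_rc_6_1 lc_b_rc_8_2 lc_b_rc_9_2 lc_b_rc_6_1 lc_b_Cert_tree lc_b_rc_1_3 lc_b_rc_7_2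 lc_b_rc_8_2 lc_b_rc_8_2 lc_b_Cert_tree lc_b_rc_26_5 lc_b_rc_1_3 lc_b_rc_9_2 lc_b_rc_8_2 lc_b_rc_9_2 lc_b_rc_6_1 lc_b_rc_9_2 lc_b_Cert_tree lc_b_rc_26_1 lc_b_rc_10_2 lc_b_Cert_tree lc_b_rc_7_0 lc_b_rc_26_5 lc_b_rc_8_2 lc_b_rc_8_2 lc_b_Cert_tree lc_b_rc_7_0 lc_b_rc_8_2 lc_b_rc_7_0 lc_b_rc_26_5 lc_b_Cert_tree lc_b_rc_26_1 lc_b_rc_26_7 lc_b_Cert_tree lc_b_rc_7_2 lc_b_rc_8_2 lc_b_rc_9_2 lc_b_Cert_tree) (@D3.rec (fun _ => (Cert rels S Gen.b)) lc_b_rc_6_1 lc_b_rc_8_2 lc_b_rc_6_1 lc_b_rc_9_2 lc_b_Cert_tree lc_b_rc_10_2 lc_b_rc_6_1 lc_b_Cert_tree lc_b_rc_1_3 lc_b_rc_8_2 lc_b_rc_10_2 lc_b_rc_26_5 lc_b_rc_9_2 lc_b_rc_6_1 lc_b_rc_9_2 lc_b_rc_26_5 lc_b_rc_26_7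 lc_b_rc_8_2 lc_b_rc_8_2 lc_b_rc_10_2 lc_b_Cert_tree lc_b_Cert_tree lc_b_rc_7_2 lc_b_rc_8_2 lc_b_rc_9_2 lc_b_rc_9_2 lc_b_rc_7_0 lc_b_rc_8_2 lc_b_rc_10_2 lc_b_Cert_tree lc_b_rc_26_5 lc_b_rc_8_2 lc_b_rc_1_1 lc_b_rc_8_2 lc_b_rc_8_2 lc_b_rc_9_2 lc_b_rc_6_1 lc_b_rc_8_2 lc_b_rc_9_2 lc_b_rc_6_1 lc_b_Cert_tree lc_b_Cert_tree lc_b_rc_10_2 lc_b_rc_9_2 lc_b_rc_8_2 lc_b_rc_6_1 lc_b_rc_8_2 lc_b_rc_8_2 lc_b_rc_26_5 lc_b_Cert_tree lc_b_rc_26_7 lc_b_Cert_tree lc_b_rc_8_2 lc_b_rc_7_4 lc_b_rc_8_2 lc_b_rc_9_2 lc_b_rc_6_1 lc_b_Cert_tree lc_b_rc_9_2 lc_b_Cert_tree lc_b_rc_9_2 lc_b_rc_8_2) (@D3.rec (fun _ => (Cert rels S Gen.b)) lc_b_rc_6_1 lc_b_Cert_tree lc_b_rc_9_2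 lc_b_Cert_tree lc_b_rc_9_2 lc_b_rc_9_2 lc_b_rc_6_1 lc_b_rc_8_2 lc_b_rc_10_2 lc_b_rc_26_1 lc_b_rc_8_2 lc_b_rc_9_2 lc_b_Cert_tree lc_b_rc_9_2 lc_b_rc_6_1 lc_b_rc_6_1 lc_b_rc_1_5 lc_b_rc_8_2 lc_b_rc_9_2 lc_b_rc_6_1 lc_b_rc_9_2 lc_b_rc_8_2 lc_b_rc_9_2 lc_b_rc_8_0 lc_b_rc_10_2 lc_b_rc_9_2 lc_b_rc_6_1 lc_b_rc_6_1 lc_b_rc_8_2 lc_b_rc_9_2 lc_b_rc_8_2 lc_b_rc_26_1 lc_b_rc_10_2 lc_b_rc_6_1 lc_b_rc_9_2 lc_b_rc_25_8 lc_b_rc_26_1 lc_b_rc_7_2 lc_b_rc_8_2 lc_b_rc_1_3 lc_b_rc_9_2 lc_b_rc_8_2 lc_b_rc_9_2 lc_b_rc_7_2 lc_b_Cert_tree lc_b_rc_8_2 lc_b_rc_10_2 lc_b_rc_8_2 lc_b_rc_9_2 lc_b_rc_1_5 lc_b_Cert_tree lc_b_rc_6_1 lc_b_rc_8_2 lc_b_Cert_tree lc_b_Cert_tree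 lc_b_rc_9_2 lc_b_rc_10_2 lc_b_rc_8_2 lc_b_rc_9_2 lc_b_rc_9_2 lc_b_rc_10_2 lc_b_rc_26_5) (@D3.rec (fun _ => (Cert rels S Gen.b)) lc_b_rc_8_2 lc_b_rc_9_2 lc_b_rc_8_2 lc_b_rc_6_1 lc_b_Cert_tree lc_b_rc_1_1 lc_b_rc_6_1 lc_b_Cert_tree lc_b_rc_9_2 lc_b_rc_6_1 lc_b_rc_8_2 lc_b_rc_9_2 lc_b_rc_9_2 lc_b_rc_8_2 lc_b_rc_6_1 lc_b_rc_7_4 lc_b_rc_8_2 lc_b_rc_9_2 lc_b_rc_6_1 lc_b_rc_26_5 lc_b_rc_8_2 lc_b_Cert_tree lc_b_Cert_tree lc_b_Cert_tree lc_b_rc_10_2 lc_b_rc_6_1 lc_b_rc_1_3 lc_b_rc_8_2 lc_b_Cert_tree lc_b_rc_9_2 lc_b_rc_6_1 lc_b_Cert_tree lc_b_rc_8_2 lc_b_rc_6_1 lc_b_Cert_tree lc_b_rc_9_2 lc_b_Cert_tree lc_b_Cert_tree lc_b_rc_6_1 lc_b_rc_1_3 lc_b_rc_6_1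 lc_b_rc_9_0 lc_b_rc_1_3 lc_b_rc_8_2 lc_b_rc_26_7 lc_b_Cert_tree lc_b_rc_1_5 lc_b_rc_6_1 lc_b_Cert_tree lc_b_rc_9_2 lc_b_rc_8_2 lc_b_rc_9_2 lc_b_rc_9_2 lc_b_rc_9_2 lc_b_rc_6_1 lc_b_rc_6_1 lc_b_rc_8_2 lc_b_rc_26_1 lc_b_Cert_tree lc_b_Cert_tree lc_b_rc_9_0 lc_b_rc_9_2) (@D3.rec (fun _ => (Cert rels S Gen.b)) lc_b_rc_8_2 lc_b_Cert_tree lc_b_rc_6_1 lc_b_rc_8_2 lc_b_rc_6_1 lc_b_rc_6_1 lc_b_rc_8_2 lc_b_rc_26_1 lc_b_rc_6_1 lc_b_rc_26_5 lc_b_rc_8_2 lc_b_rc_9_2 lc_b_rc_26_5 lc_b_Cert_tree lc_b_Cert_tree lc_b_rc_10_2 lc_b_rc_6_1 lc_b_rc_8_2 lc_b_rc_9_2 lc_b_rc_8_2 lc_b_Cert_tree lc_b_rc_26_7 lc_b_Cert_tree lc_b_rc_10_2 lc_b_rc_10_2 lc_b_rc_8_2 lc_b_rc_9_2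 lc_b_rc_8_2 lc_b_Cert_tree lc_b_rc_9_2 lc_b_Cert_tree lc_b_rc_9_2 lc_b_Cert_tree lc_b_rc_6_1 lc_b_Cert_tree lc_b_rc_9_2 lc_b_Cert_tree lc_b_rc_9_2 lc_b_rc_6_1 lc_b_rc_10_2 lc_b_rc_9_2 lc_b_rc_8_2 lc_b_Cert_tree lc_b_rc_9_2 lc_b_rc_6_1 lc_b_rc_8_2 lc_b_rc_8_2 lc_b_rc_9_2 lc_b_rc_9_2 lc_b_rc_8_2 lc_b_rc_9_2 lc_b_rc_8_0 lc_b_rc_9_2 lc_b_rc_6_1 lc_b_rc_7_0 lc_b_rc_8_2 lc_b_rc_8_2 lc_b_rc_10_2 lc_b_rc_6_1 lc_b_Cert_tree lc_b_rc_6_1 lc_b_rc_8_2) (@D3.rec (fun _ => (Cert rels S Gen.b)) lc_b_rc_8_2 lc_b_rc_26_7 lc_b_rc_9_2 lc_b_Cert_tree lc_b_rc_8_2 lc_b_rc_8_2 lc_b_rc_1_5 lc_b_Cert_tree lc_b_rc_10_2 lc_b_rc_8_2 lc_b_rc_6_1 lc_b_rc_8_2 lc_b_Cert_tree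 lc_b_Cert_tree lc_b_rc_8_2 lc_b_rc_6_1 lc_b_rc_6_1 lc_b_rc_26_5 lc_b_rc_8_2 lc_b_rc_9_2 lc_b_rc_9_2 lc_b_rc_9_2 lc_b_rc_9_2 lc_b_rc_6_1 lc_b_rc_25_4 lc_b_rc_9_2 lc_b_rc_7_2 lc_b_rc_26_5 lc_b_rc_6_1 lc_b_rc_8_0 lc_b_rc_9_2 lc_b_rc_8_2 lc_b_rc_9_2 lc_b_rc_9_2 lc_b_rc_6_1 lc_b_rc_8_2 lc_b_rc_26_5 lc_b_rc_6_1 lc_b_rc_8_2 lc_b_rc_9_2 lc_b_Cert_tree lc_b_rc_7_0 lc_b_rc_1_3 lc_b_rc_8_2 lc_b_rc_10_2 lc_b_rc_1_5 lc_b_rc_6_1 lc_b_rc_9_2 lc_b_rc_8_2 lc_b_rc_9_2 lc_b_rc_9_2 lc_b_rc_8_2 lc_b_rc_26_5 lc_b_rc_8_2 lc_b_rc_26_5 lc_b_rc_8_2 lc_b_rc_7_4 lc_b_rc_9_2 lc_b_rc_6_1 lc_b_rc_8_2 lc_b_rc_26_5 lc_b_rc_7_0) (@D3.rec (fun _ => (Cert rels S Gen.b)) lc_b_Cert_tree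 lc_b_rc_8_2 lc_b_rc_10_2 lc_b_rc_7_4 lc_b_rc_8_2 lc_b_rc_26_5 lc_b_rc_6_1 lc_b_rc_26_7 lc_b_rc_8_2 lc_b_rc_9_2 lc_b_rc_6_1 lc_b_Cert_tree lc_b_rc_7_2 lc_b_rc_10_2 lc_b_rc_26_7 lc_b_rc_6_1 lc_b_rc_8_2 lc_b_rc_9_2 lc_b_rc_8_2 lc_b_Cert_tree lc_b_rc_10_2 lc_b_rc_6_1 lc_b_rc_9_2 lc_b_rc_7_4 lc_b_Cert_tree lc_b_rc_6_1 lc_b_rc_8_2 lc_b_rc_9_2 lc_b_rc_9_2 lc_b_rc_8_2 lc_b_rc_9_0 lc_b_rc_26_1 lc_b_rc_8_2 lc_b_rc_1_3 lc_b_rc_6_1 lc_b_rc_9_2 lc_b_rc_8_2 lc_b_rc_9_2 lc_b_rc_6_1 lc_b_rc_8_2 lc_b_rc_9_2 lc_b_rc_9_2 lc_b_rc_8_2 lc_b_rc_6_1 lc_b_rc_9_2 lc_b_rc_6_1 lc_b_rc_9_2 lc_b_rc_8_2 lc_b_rc_8_2 lc_b_rc_8_2 lc_b_rc_9_2 lc_b_rc_8_0 lc_b_rc_8_2 lc_b_Cert_tree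 lc_b_rc_8_2 lc_b_rc_6_1 lc_b_Cert_tree lc_b_rc_7_4 lc_b_rc_9_2 lc_b_rc_6_1 lc_b_rc_6_1 lc_b_rc_8_2) (@D3.rec (fun _ => (Cert rels S Gen.b)) lc_b_rc_8_2 lc_b_rc_1_5 lc_b_rc_10_0 lc_b_rc_8_0 lc_b_Cert_tree lc_b_rc_6_1 lc_b_rc_7_2 lc_b_rc_8_2 lc_b_rc_9_2 lc_b_rc_6_1 lc_b_rc_6_1 lc_b_Cert_tree lc_b_Cert_tree lc_b_rc_6_1 lc_b_rc_7_2 lc_b_rc_6_1 lc_b_rc_8_2 lc_b_rc_8_2 lc_b_rc_9_2 lc_b_rc_9_2 lc_b_rc_8_0 lc_b_Cert_tree lc_b_Cert_tree lc_b_rc_9_2 lc_b_rc_26_1 lc_b_Cert_tree lc_b_rc_8_2 lc_b_rc_10_2 lc_b_rc_6_1 lc_b_Cert_tree lc_b_rc_9_2 lc_b_Cert_tree lc_b_rc_9_2 lc_b_Cert_tree lc_b_Cert_tree lc_b_rc_6_1 lc_b_Cert_tree lc_b_rc_8_2 lc_b_rc_8_2 lc_b_rc_8_2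 lc_b_rc_8_2 lc_b_rc_7_2 lc_b_Cert_tree lc_b_Cert_tree lc_b_Cert_tree lc_b_rc_9_2 lc_b_Cert_tree lc_b_rc_26_1 lc_b_rc_8_2 lc_b_rc_6_1 lc_b_rc_9_2 lc_b_rc_10_0 lc_b_rc_8_2 lc_b_rc_10_2 lc_b_rc_10_2 lc_b_rc_8_2 lc_b_Cert_tree lc_b_rc_8_2 lc_b_rc_9_2 lc_b_Cert_tree lc_b_Cert_tree lc_b_rc_6_1) (@D3.rec (fun _ => (Cert rels S Gen.b)) lc_b_Cert_tree lc_b_rc_8_2 lc_b_rc_8_2 lc_b_rc_10_2 lc_b_rc_8_2 lc_b_Cert_tree lc_b_rc_8_2 lc_b_rc_9_2 lc_b_rc_6_1 lc_b_rc_9_2 lc_b_rc_8_2 lc_b_rc_10_2 lc_b_rc_6_1 lc_b_rc_8_0 lc_b_rc_6_1 lc_b_rc_9_2 lc_b_Cert_tree lc_b_Cert_tree lc_b_rc_1_3 lc_b_rc_8_2 lc_b_rc_10_2 lc_b_rc_9_2 lc_b_rc_9_2 lc_b_Cert_tree lc_b_Cert_tree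 lc_b_rc_6_1 lc_b_rc_6_1 lc_b_rc_7_0 lc_b_rc_7_0 lc_b_rc_8_2 lc_b_Cert_tree lc_b_rc_9_2 lc_b_rc_26_5 lc_b_rc_8_2 lc_b_rc_1_3 lc_b_rc_1_3 lc_b_rc_26_5 lc_b_Cert_tree lc_b_rc_7_0 lc_b_rc_6_1 lc_b_Cert_tree lc_b_rc_8_2 lc_b_rc_6_1 lc_b_rc_9_2 lc_b_rc_6_1 lc_b_rc_8_2 lc_b_rc_9_2 lc_b_rc_6_1 lc_b_Cert_tree lc_b_Cert_tree lc_b_rc_6_1 lc_b_rc_8_2 lc_b_rc_6_1 lc_b_rc_8_2 lc_b_rc_6_1 lc_b_rc_8_2 lc_b_rc_7_2 lc_b_Cert_tree lc_b_rc_1_3 lc_b_rc_8_2 lc_b_rc_9_2 lc_b_rc_9_2) (@D3.rec (fun _ => (Cert rels S Gen.b)) lc_b_rc_26_1 lc_b_rc_1_3 lc_b_rc_8_2 lc_b_rc_9_2 lc_b_Cert_tree lc_b_Cert_tree lc_b_Cert_tree lc_b_rc_9_2 lc_b_rc_8_2 lc_b_rc_6_1 lc_b_rc_10_0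 lc_b_rc_8_2 lc_b_rc_1_3 lc_b_Cert_tree lc_b_rc_8_0 lc_b_Cert_tree lc_b_rc_9_2 lc_b_rc_26_5 lc_b_rc_8_2 lc_b_rc_6_1 lc_b_rc_10_0 lc_b_Cert_tree lc_b_Cert_tree lc_b_rc_8_2 lc_b_Cert_tree lc_b_Cert_tree lc_b_rc_10_2 lc_b_rc_9_2 lc_b_rc_8_2 lc_b_rc_6_1 lc_b_rc_6_1 lc_b_rc_9_2 lc_b_Cert_tree lc_b_rc_6_1 lc_b_rc_1_3 lc_b_rc_8_2 lc_b_rc_9_2 lc_b_rc_6_1 lc_b_rc_7_2 lc_b_rc_1_3 lc_b_rc_8_2 lc_b_rc_9_2 lc_b_Cert_tree lc_b_rc_26_1 lc_b_rc_1_3 lc_b_rc_8_2 lc_b_rc_9_2 lc_b_rc_6_1 lc_b_rc_26_5 lc_b_Cert_tree lc_b_rc_9_2 lc_b_rc_6_1 lc_b_rc_9_2 lc_b_rc_6_1 lc_b_rc_10_2 lc_b_rc_10_2 lc_b_rc_9_0 lc_b_Cert_tree lc_b_rc_1_3 lc_b_Cert_tree lc_b_rc_8_0 lc_b_rc_8_2)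 (@D3.rec (fun _ => (Cert rels S Gen.b)) lc_b_rc_9_2 lc_b_rc_6_1 lc_b_rc_6_1 lc_b_rc_6_1 lc_b_rc_1_3 lc_b_rc_8_2 lc_b_rc_6_1 lc_b_rc_7_2 lc_b_rc_9_2 lc_b_rc_6_1 lc_b_Cert_tree lc_b_rc_1_1 lc_b_Cert_tree lc_b_rc_26_5 lc_b_rc_6_1 lc_b_rc_6_1 lc_b_rc_8_2 lc_b_rc_6_1 lc_b_rc_26_1 lc_b_rc_9_2 lc_b_rc_6_1 lc_b_rc_8_2 lc_b_rc_1_3 lc_b_rc_1_3 lc_b_rc_8_2 lc_b_rc_8_2 lc_b_Cert_tree lc_b_rc_8_2 lc_b_rc_9_2 lc_b_rc_8_2 lc_b_rc_9_2 lc_b_Cert_tree lc_b_rc_26_5 lc_b_rc_1_3 lc_b_rc_8_2 lc_b_rc_6_1 lc_b_rc_9_2 lc_b_rc_6_1 lc_b_rc_9_2 lc_b_rc_25_4 lc_b_rc_26_5 lc_b_rc_6_1 lc_b_rc_26_7 lc_b_Cert_tree lc_b_rc_8_0 lc_b_rc_8_2 lc_b_rc_10_2 lc_b_rc_6_1 lc_b_rc_6_1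 lc_b_rc_7_4 lc_b_rc_6_1 lc_b_rc_8_2 lc_b_Cert_tree lc_b_rc_6_1 lc_b_rc_8_2 lc_b_rc_10_2 lc_b_rc_6_1 lc_b_rc_8_2 lc_b_rc_6_1 lc_b_rc_8_2 lc_b_Cert_tree lc_b_rc_10_2) (@D3.rec (fun _ => (Cert rels S Gen.b)) lc_b_rc_6_1 lc_b_rc_8_2 lc_b_rc_8_2 lc_b_Cert_tree lc_b_Cert_tree lc_b_rc_1_5 lc_b_rc_7_4 lc_b_rc_1_3 lc_b_rc_8_2 lc_b_rc_9_2 lc_b_Cert_tree lc_b_rc_9_0 lc_b_rc_1_3 lc_b_rc_6_1 lc_b_rc_8_2 lc_b_rc_26_7 lc_b_rc_9_2 lc_b_Cert_tree lc_b_rc_7_2 lc_b_rc_9_2 lc_b_rc_6_1 lc_b_rc_9_0 lc_b_rc_1_1 lc_b_rc_8_2 lc_b_rc_9_2 lc_b_rc_6_1 lc_b_rc_1_3 lc_b_rc_8_2 lc_b_rc_9_2 lc_b_rc_9_2 lc_b_rc_1_3 lc_b_Cert_tree lc_b_rc_6_1 lc_b_Cert_tree lc_b_rc_8_2 lc_b_rc_9_2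 lc_b_rc_10_2 lc_b_rc_6_1 lc_b_rc_26_5 lc_b_rc_8_2 lc_b_rc_8_2 lc_b_Cert_tree lc_b_rc_7_2 lc_b_rc_9_2 lc_b_rc_10_2 lc_b_rc_6_1 lc_b_rc_8_2 lc_b_Cert_tree lc_b_rc_6_1 lc_b_rc_10_2 lc_b_rc_9_2 lc_b_rc_26_5 lc_b_rc_7_0 lc_b_rc_1_3 lc_b_rc_8_2 lc_b_rc_9_2 lc_b_Cert_tree lc_b_rc_6_1 lc_b_rc_9_2 lc_b_rc_10_2 lc_b_rc_26_1 lc_b_Cert_tree) (@D3.rec (fun _ => (Cert rels S Gen.b)) lc_b_rc_9_2 lc_b_rc_8_2 lc_b_rc_9_2 lc_b_rc_26_5 lc_b_rc_1_3 lc_b_rc_8_2 lc_b_rc_6_1 lc_b_rc_1_3 lc_b_rc_8_2 lc_b_rc_8_2 lc_b_rc_1_3 lc_b_Cert_tree lc_b_rc_6_1 lc_b_Cert_tree lc_b_rc_9_2 lc_b_rc_6_1 lc_b_rc_9_2 lc_b_rc_6_1 lc_b_rc_9_2 lc_b_rc_6_1 lc_b_rc_9_2 lc_b_rc_8_2 lc_b_Cert_tree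 lc_b_rc_10_2 lc_b_rc_9_2 lc_b_rc_9_2 lc_b_rc_8_2 lc_b_rc_26_1 lc_b_rc_9_2 lc_b_rc_9_2 lc_b_rc_8_2 lc_b_rc_26_5 lc_b_rc_6_1 lc_b_rc_8_2 lc_b_rc_10_2 lc_b_rc_7_0 lc_b_rc_26_5 lc_b_rc_7_0 lc_b_rc_10_2 lc_b_rc_6_1 lc_b_rc_26_5 lc_b_rc_8_2 lc_b_rc_9_2 lc_b_rc_6_1 lc_b_rc_26_5 lc_b_rc_10_2 lc_b_rc_26_1 lc_b_rc_7_2 lc_b_rc_7_0 lc_b_rc_10_2 lc_b_rc_9_2 lc_b_rc_26_1 lc_b_rc_8_2 lc_b_rc_10_2 lc_b_rc_1_3 lc_b_rc_8_2 lc_b_rc_9_2 lc_b_Cert_tree lc_b_rc_9_2 lc_b_rc_6_1 lc_b_rc_1_3 lc_b_rc_8_2) (@D3.rec (fun _ => (Cert rels S Gen.b)) lc_b_rc_7_2 lc_b_rc_6_1 lc_b_rc_6_1 lc_b_rc_26_1 lc_b_rc_26_1 lc_b_rc_6_1 lc_b_rc_9_2 lc_b_Cert_tree lc_b_rc_6_1 lc_b_Cert_tree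 lc_b_rc_9_2 lc_b_rc_6_1 lc_b_rc_9_2 lc_b_Cert_tree lc_b_rc_8_2 lc_b_rc_6_1 lc_b_rc_8_2 lc_b_Cert_tree lc_b_rc_9_2 lc_b_rc_6_1 lc_b_rc_10_2 lc_b_rc_9_2 lc_b_rc_8_2 lc_b_rc_9_2 lc_b_rc_6_1 lc_b_rc_6_1 lc_b_rc_8_2 lc_b_rc_10_2 lc_b_Cert_tree lc_b_rc_10_2 lc_b_rc_6_1 lc_b_rc_26_7 lc_b_rc_8_2 lc_b_rc_26_1 lc_b_rc_8_2 lc_b_rc_9_2 lc_b_rc_6_1 lc_b_rc_8_2 lc_b_rc_8_2 lc_b_Cert_tree lc_b_Cert_tree lc_b_rc_7_4 lc_b_rc_1_3 lc_b_rc_9_2 lc_b_rc_8_2 lc_b_rc_10_2 lc_b_rc_9_2 lc_b_rc_8_2 lc_b_rc_6_1 lc_b_rc_8_2 lc_b_rc_7_2 lc_b_rc_6_1 lc_b_rc_8_2 lc_b_rc_9_2 lc_b_rc_26_7 lc_b_Cert_tree lc_b_rc_1_5 lc_b_rc_1_3 lc_b_rc_8_2 lc_b_rc_9_2 lc_b_rc_9_2 lc_b_rc_6_1)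 (@D3.rec (fun _ => (Cert rels S Gen.b)) lc_b_rc_9_2 lc_b_rc_6_1 lc_b_rc_9_2 lc_b_rc_9_2 lc_b_rc_9_2 lc_b_rc_6_1 lc_b_rc_26_1 lc_b_rc_8_2 lc_b_rc_8_2 lc_b_Cert_tree lc_b_rc_9_2 lc_b_rc_8_2 lc_b_rc_26_1 lc_b_rc_8_2 lc_b_rc_1_1 lc_b_rc_6_1 lc_b_rc_8_2 lc_b_rc_10_2 lc_b_rc_1_5 lc_b_rc_8_2 lc_b_rc_10_2 lc_b_rc_6_1 lc_b_rc_8_2 lc_b_rc_1_3 lc_b_rc_8_2 lc_b_rc_9_2 lc_b_Cert_tree lc_b_rc_10_2 lc_b_rc_9_0 lc_b_rc_10_2 lc_b_rc_6_1 lc_b_rc_8_2 lc_b_rc_26_7 lc_b_rc_8_2 lc_b_Cert_tree lc_b_Cert_tree lc_b_Cert_tree lc_b_rc_1_3 lc_b_rc_8_2 lc_b_rc_9_2 lc_b_Cert_tree lc_b_rc_9_2 lc_b_rc_10_0 lc_b_rc_1_3 lc_b_rc_8_2 lc_b_rc_9_2 lc_b_Cert_tree lc_b_rc_9_2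 lc_b_rc_6_1 lc_b_Cert_tree lc_b_rc_9_2 lc_b_rc_6_1 lc_b_Cert_tree lc_b_rc_9_2 lc_b_Cert_tree lc_b_Cert_tree lc_b_rc_6_1 lc_b_rc_8_2 lc_b_rc_9_2 lc_b_Cert_tree lc_b_rc_9_2 lc_b_rc_7_2) (@D3.rec (fun _ => (Cert rels S Gen.b)) lc_b_rc_9_2 lc_b_rc_6_1 lc_b_rc_9_0 lc_b_rc_10_2 lc_b_rc_9_2 lc_b_rc_8_2 lc_b_rc_9_2 lc_b_rc_8_2 lc_b_rc_9_2 lc_b_rc_1_3 lc_b_rc_10_2 lc_b_rc_9_2 lc_b_rc_8_2 lc_b_rc_7_2 lc_b_rc_6_1 lc_b_rc_8_2 lc_b_rc_10_2 lc_b_rc_6_1 lc_b_rc_26_1 lc_b_rc_26_7 lc_b_rc_26_7 lc_b_rc_6_1 lc_b_rc_8_2 lc_b_Cert_tree lc_b_Cert_tree lc_b_rc_7_4 lc_b_rc_8_2 lc_b_rc_9_2 lc_b_rc_8_2 lc_b_rc_9_2 lc_b_rc_1_3 lc_b_rc_8_2 lc_b_rc_10_2 lc_b_rc_9_2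 lc_b_rc_6_1 lc_b_rc_8_2 lc_b_rc_10_2 lc_b_rc_9_2 lc_b_rc_6_1 lc_b_rc_8_2 lc_b_rc_1_3 lc_b_rc_8_2 lc_b_rc_6_1 lc_b_rc_8_2 lc_b_rc_9_2 lc_b_rc_6_1 lc_b_rc_9_2 lc_b_Cert_tree lc_b_rc_8_2 lc_b_Cert_tree lc_b_rc_10_2 lc_b_rc_8_2 lc_b_rc_8_2 lc_b_rc_6_1 lc_b_rc_8_2 lc_b_rc_10_2 lc_b_Cert_tree lc_b_rc_10_2 lc_b_rc_8_2 lc_b_rc_9_2 lc_b_rc_6_1 lc_b_rc_26_5) (@D3.rec (fun _ => (Cert rels S Gen.b)) lc_b_rc_6_1 lc_b_rc_8_2 lc_b_rc_9_0 lc_b_rc_8_2 lc_b_rc_9_2 lc_b_rc_9_2 lc_b_rc_26_7 lc_b_Cert_tree lc_b_rc_8_2 lc_b_Cert_tree lc_b_rc_6_1 lc_b_rc_8_2 lc_b_rc_6_1 lc_b_rc_8_2 lc_b_rc_7_4 lc_b_rc_8_2 lc_b_rc_10_2 lc_b_rc_7_2 lc_b_rc_8_2 lc_b_rc_9_2 lc_b_rc_6_1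 lc_b_rc_7_4 lc_b_rc_9_2 lc_b_rc_1_1 lc_b_rc_1_1 lc_b_rc_8_2 lc_b_rc_9_2 lc_b_rc_25_4 lc_b_rc_6_1 lc_b_rc_25_4 lc_b_rc_8_0 lc_b_rc_6_1 lc_b_rc_8_2 lc_b_rc_6_1 lc_b_rc_9_2 lc_b_rc_6_1 lc_b_rc_8_2 lc_b_rc_10_2 lc_b_rc_9_2 lc_b_rc_6_1 lc_b_rc_9_2 lc_b_rc_9_2 lc_b_rc_9_2 lc_b_rc_9_2 lc_b_rc_9_2 lc_b_rc_7_0 lc_b_rc_9_2 lc_b_rc_9_2 lc_b_rc_9_2 lc_b_rc_8_2 lc_b_rc_8_2 lc_b_rc_6_1 lc_b_rc_6_1 lc_b_rc_7_0 lc_b_rc_7_4 lc_b_rc_7_0 lc_b_rc_25_16 lc_b_rc_10_2 lc_b_rc_8_2 lc_b_rc_6_1 lc_b_rc_8_2 lc_b_rc_9_2) (@D3.rec (fun _ => (Cert rels S Gen.b)) lc_b_rc_8_2 lc_b_rc_9_2 lc_b_Cert_tree lc_b_rc_6_1 lc_b_Cert_tree lc_b_rc_1_5 lc_b_rc_8_2 lc_b_rc_1_3 lc_b_rc_9_2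 lc_b_rc_8_2 lc_b_rc_9_2 lc_b_rc_10_2 lc_b_rc_10_2 lc_b_Cert_tree lc_b_rc_9_2 lc_b_rc_8_0 lc_b_Cert_tree lc_b_rc_8_2 lc_b_rc_10_2 lc_b_rc_6_1 lc_b_Cert_tree lc_b_rc_9_2 lc_b_rc_8_2 lc_b_rc_9_2 lc_b_Cert_tree lc_b_Cert_tree lc_b_rc_6_1 lc_b_rc_9_2 lc_b_Cert_tree lc_b_rc_26_5 lc_b_rc_8_2 lc_b_rc_10_2 lc_b_rc_8_0 lc_b_rc_8_2 lc_b_rc_1_1 lc_b_rc_1_3 lc_b_rc_1_3 lc_b_Cert_tree lc_b_rc_8_2 lc_b_rc_7_0 lc_b_rc_8_0 lc_b_rc_25_4 lc_b_rc_9_2 lc_b_rc_9_0 lc_b_rc_9_0 lc_b_rc_8_2 lc_b_rc_6_1 lc_b_rc_1_1 lc_b_rc_10_0 lc_b_rc_8_2 lc_b_rc_8_2 lc_b_rc_10_2 lc_b_rc_1_3 lc_b_rc_8_2 lc_b_rc_26_1 lc_b_rc_9_2 lc_b_rc_6_1 lc_b_rc_9_2 lc_b_Cert_tree lc_b_rc_8_2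 lc_b_rc_8_2 lc_b_rc_10_2) (@D3.rec (fun _ => (Cert rels S Gen.b)) lc_b_rc_8_2 lc_b_rc_9_2 lc_b_Cert_tree lc_b_rc_7_0 lc_b_rc_6_1 lc_b_rc_9_2 lc_b_rc_7_4 lc_b_rc_6_1 lc_b_rc_1_3 lc_b_rc_8_2 lc_b_rc_10_2 lc_b_rc_8_0 lc_b_rc_10_2 lc_b_Cert_tree lc_b_rc_6_1 lc_b_rc_9_2 lc_b_Cert_tree lc_b_rc_8_2 lc_b_rc_9_2 lc_b_Cert_tree lc_b_rc_9_0 lc_b_rc_9_2 lc_b_rc_8_2 lc_b_rc_9_2 lc_b_Cert_tree lc_b_rc_9_2 lc_b_rc_6_1 lc_b_Cert_tree lc_b_rc_9_2 lc_b_rc_6_1 lc_b_Cert_tree lc_b_rc_9_2 lc_b_Cert_tree lc_b_Cert_tree lc_b_rc_6_1 lc_b_rc_8_2 lc_b_Cert_tree lc_b_rc_8_2 lc_b_rc_9_2 lc_b_Cert_tree lc_b_rc_9_2 lc_b_rc_6_1 lc_b_rc_6_1 lc_b_rc_6_1 lc_b_rc_6_1 lc_b_rc_1_3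 lc_b_rc_8_2 lc_b_Cert_tree lc_b_rc_9_2 lc_b_Cert_tree lc_b_Cert_tree lc_b_Cert_tree lc_b_rc_9_2 lc_b_rc_9_2 lc_b_Cert_tree lc_b_rc_10_2 lc_b_rc_6_1 lc_b_Cert_tree lc_b_rc_9_2 lc_b_rc_7_4 lc_b_rc_6_1 lc_b_rc_9_2) (@D3.rec (fun _ => (Cert rels S Gen.b)) lc_b_Cert_tree lc_b_Cert_tree lc_b_rc_9_2 lc_b_rc_10_2 lc_b_rc_6_1 lc_b_rc_10_2 lc_b_Cert_tree lc_b_rc_6_1 lc_b_rc_6_1 lc_b_rc_6_1 lc_b_rc_26_5 lc_b_rc_1_3 lc_b_rc_8_2 lc_b_rc_9_2 lc_b_rc_26_7 lc_b_rc_8_2 lc_b_rc_6_1 lc_b_rc_1_5 lc_b_rc_6_1 lc_b_rc_1_3 lc_b_rc_9_2 lc_b_rc_7_4 lc_b_rc_6_1 lc_b_rc_8_2 lc_b_Cert_tree lc_b_rc_6_1 lc_b_rc_9_2 lc_b_Cert_tree lc_b_rc_7_2 lc_b_rc_6_1 lc_b_rc_7_2 lc_b_Cert_tree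 lc_b_rc_9_2 lc_b_rc_1_5 lc_b_rc_10_2 lc_b_rc_6_1 lc_b_rc_9_2 lc_b_rc_26_5 lc_b_rc_10_2 lc_b_rc_9_2 lc_b_rc_8_2 lc_b_rc_9_2 lc_b_rc_6_1 lc_b_rc_8_2 lc_b_rc_8_2 lc_b_Cert_tree lc_b_rc_6_1 lc_b_rc_10_2 lc_b_rc_9_2 lc_b_rc_6_1 lc_b_rc_8_2 lc_b_rc_8_2 lc_b_rc_9_2 lc_b_Cert_tree lc_b_rc_9_2 lc_b_rc_8_2 lc_b_Cert_tree lc_b_Cert_tree lc_b_rc_1_3 lc_b_rc_8_2 lc_b_rc_9_2 lc_b_rc_8_0) (@D3.rec (fun _ => (Cert rels S Gen.b)) lc_b_rc_9_0 lc_b_Cert_tree lc_b_rc_1_3 lc_b_Cert_tree lc_b_rc_26_5 lc_b_rc_1_3 lc_b_rc_6_1 lc_b_rc_9_2 lc_b_rc_6_1 lc_b_rc_9_2 lc_b_Cert_tree lc_b_rc_8_2 lc_b_rc_10_2 lc_b_rc_8_2 lc_b_rc_10_2 lc_b_rc_1_3 lc_b_rc_6_1 lc_b_rc_8_2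 lc_b_rc_9_2 lc_b_Cert_tree lc_b_rc_6_1 lc_b_rc_6_1 lc_b_rc_8_2 lc_b_rc_6_1 lc_b_rc_8_2 lc_b_rc_8_2 lc_b_rc_9_2 lc_b_rc_26_5 lc_b_rc_9_2 lc_b_rc_8_2 lc_b_Cert_tree lc_b_Cert_tree lc_b_Cert_tree lc_b_rc_8_2 lc_b_rc_26_5 lc_b_rc_6_1 lc_b_rc_8_2 lc_b_Cert_tree lc_b_rc_9_2 lc_b_rc_6_1 lc_b_rc_8_2 lc_b_rc_9_2 lc_b_Cert_tree lc_b_rc_9_2 lc_b_rc_6_1 lc_b_rc_6_1 lc_b_rc_6_1 lc_b_rc_26_5 lc_b_rc_1_3 lc_b_rc_8_2 lc_b_Cert_tree lc_b_rc_9_2 lc_b_Cert_tree lc_b_Cert_tree lc_b_rc_8_2 lc_b_rc_9_2 lc_b_rc_6_1 lc_b_Cert_tree lc_b_rc_9_2 lc_b_rc_6_1 lc_b_rc_7_2 lc_b_rc_9_2) (@D3.rec (fun _ => (Cert rels S Gen.b)) lc_b_Cert_tree lc_b_Cert_tree lc_b_rc_6_1 lc_b_rc_8_2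 lc_b_rc_9_2 lc_b_Cert_tree lc_b_Cert_tree lc_b_rc_10_2 lc_b_rc_6_1 lc_b_rc_6_1 lc_b_rc_6_1 lc_b_rc_8_2 lc_b_rc_6_1 lc_b_Cert_tree lc_b_rc_9_2 lc_b_rc_6_1 lc_b_rc_8_2 lc_b_rc_8_2 lc_b_rc_26_5 lc_b_rc_10_2 lc_b_rc_8_2 lc_b_Cert_tree lc_b_rc_9_2 lc_b_Cert_tree lc_b_rc_8_2 lc_b_rc_9_2 lc_b_Cert_tree lc_b_rc_9_2 lc_b_rc_6_1 lc_b_rc_6_1 lc_b_rc_6_1 lc_b_rc_1_3 lc_b_rc_8_2 lc_b_Cert_tree lc_b_rc_9_2 lc_b_Cert_tree lc_b_rc_9_2 lc_b_rc_6_1 lc_b_Cert_tree lc_b_rc_9_2 lc_b_rc_6_1 lc_b_rc_10_2 lc_b_rc_9_2 lc_b_Cert_tree lc_b_Cert_tree lc_b_rc_6_1 lc_b_rc_8_2 lc_b_rc_8_0 lc_b_Cert_tree lc_b_Cert_tree lc_b_rc_9_2 lc_b_rc_10_2 lc_b_rc_6_1 lc_b_rc_6_1 lc_b_rc_9_0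 lc_b_rc_8_2 lc_b_rc_6_1 lc_b_rc_6_1 lc_b_rc_6_1 lc_b_rc_6_1 lc_b_rc_7_4 lc_b_rc_9_2) (@D3.rec (fun _ => (Cert rels S Gen.b)) lc_b_rc_6_1 lc_b_rc_8_2 lc_b_rc_1_5 lc_b_rc_10_2 lc_b_rc_1_3 lc_b_rc_8_2 lc_b_rc_9_2 lc_b_Cert_tree lc_b_Cert_tree lc_b_rc_8_2 lc_b_rc_9_2 lc_b_Cert_tree lc_b_rc_1_3 lc_b_rc_8_2 lc_b_rc_9_2 lc_b_rc_6_1 lc_b_Cert_tree lc_b_rc_1_3 lc_b_rc_8_2 lc_b_rc_9_2 lc_b_rc_9_2 lc_b_Cert_tree lc_b_rc_1_3 lc_b_rc_6_1 lc_b_rc_26_5 lc_b_rc_6_1 lc_b_rc_9_2 lc_b_rc_6_1 lc_b_rc_8_0 lc_b_Cert_tree lc_b_Cert_tree lc_b_rc_10_2 lc_b_Cert_tree lc_b_rc_26_5 lc_b_rc_1_3 lc_b_rc_9_2 lc_b_rc_8_2 lc_b_rc_8_2 lc_b_rc_8_2 lc_b_rc_9_2 lc_b_rc_8_2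 lc_b_rc_9_2 lc_b_rc_6_1 lc_b_rc_9_2 lc_b_rc_9_2 lc_b_rc_8_2 lc_b_rc_26_5 lc_b_rc_6_1 lc_b_rc_1_1 lc_b_rc_8_2 lc_b_Cert_tree lc_b_rc_9_2 lc_b_rc_7_0 lc_b_rc_1_3 lc_b_rc_8_2 lc_b_rc_9_2 lc_b_Cert_tree lc_b_rc_6_1 lc_b_rc_26_7 lc_b_rc_6_1 lc_b_rc_10_2 lc_b_rc_9_2) (@D3.rec (fun _ => (Cert rels S Gen.b)) lc_b_rc_6_1 lc_b_Cert_tree lc_b_rc_9_2 lc_b_rc_9_0 lc_b_Cert_tree lc_b_rc_8_2 lc_b_rc_10_2 lc_b_rc_6_1 lc_b_rc_8_2 lc_b_rc_9_2 lc_b_Cert_tree lc_b_rc_8_2 lc_b_rc_6_1 lc_b_rc_8_2 lc_b_Cert_tree lc_b_Cert_tree lc_b_rc_9_2 lc_b_rc_6_1 lc_b_Cert_tree lc_b_rc_6_1 lc_b_Cert_tree lc_b_rc_26_5 lc_b_rc_8_0 lc_b_rc_1_3 lc_b_rc_6_1 lc_b_Cert_tree lc_b_rc_6_1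 lc_b_rc_8_2 lc_b_rc_1_5 lc_b_Cert_tree lc_b_rc_9_2 lc_b_Cert_tree lc_b_Cert_tree lc_b_rc_10_2 lc_b_rc_8_2 lc_b_rc_8_2 lc_b_rc_9_2 lc_b_rc_10_2 lc_b_rc_26_5 lc_b_rc_8_2 lc_b_rc_9_2 lc_b_Cert_tree lc_b_rc_9_2 lc_b_rc_9_2 lc_b_rc_6_1 lc_b_rc_10_2 lc_b_rc_7_0 lc_b_rc_8_2 lc_b_rc_9_2 lc_b_Cert_tree lc_b_rc_1_3 lc_b_rc_8_2 lc_b_rc_9_2 lc_b_rc_9_2 lc_b_rc_8_2 lc_b_rc_6_1 lc_b_rc_8_2 lc_b_rc_6_1 lc_b_rc_9_0 lc_b_rc_8_2 lc_b_rc_10_2 lc_b_rc_6_1) (@D3.rec (fun _ => (Cert rels S Gen.b)) lc_b_rc_26_5 lc_b_rc_8_2 lc_b_rc_6_1 lc_b_rc_26_1 lc_b_rc_8_2 lc_b_rc_9_2 lc_b_Cert_tree lc_b_Cert_tree lc_b_Cert_tree lc_b_rc_10_2 lc_b_rc_6_1 lc_b_rc_6_1 lc_b_rc_8_2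 lc_b_rc_6_1 lc_b_rc_10_2 lc_b_rc_8_2 lc_b_rc_7_2 lc_b_rc_9_2 lc_b_rc_6_1 lc_b_rc_1_3 lc_b_rc_8_2 lc_b_rc_9_2 lc_b_Cert_tree lc_b_rc_9_2 lc_b_rc_6_1 lc_b_rc_6_1 lc_b_rc_9_2 lc_b_rc_6_1 lc_b_Cert_tree lc_b_rc_9_2 lc_b_Cert_tree lc_b_Cert_tree lc_b_rc_6_1 lc_b_rc_26_7 lc_b_rc_7_4 lc_b_rc_8_2 lc_b_rc_6_1 lc_b_rc_1_3 lc_b_rc_8_2 lc_b_Cert_tree lc_b_rc_10_2 lc_b_rc_8_2 lc_b_Cert_tree lc_b_rc_6_1 lc_b_rc_25_4 lc_b_rc_8_2 lc_b_Cert_tree lc_b_rc_9_2 lc_b_Cert_tree lc_b_rc_9_0 lc_b_rc_1_3 lc_b_rc_8_2 lc_b_rc_9_2 lc_b_rc_6_1 lc_b_Cert_tree lc_b_rc_1_3 lc_b_rc_8_2 lc_b_rc_9_2 lc_b_rc_9_2 lc_b_rc_6_1 lc_b_rc_6_1 lc_b_rc_8_2) (@D3.rec (fun _ => (Cert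 rels S Gen.b)) lc_b_rc_6_1 lc_b_rc_26_5 lc_b_rc_8_2 lc_b_rc_7_4 lc_b_rc_8_2 lc_b_Cert_tree lc_b_rc_7_4 lc_b_rc_9_2 lc_b_Cert_tree lc_b_Cert_tree lc_b_rc_10_2 lc_b_rc_26_1 lc_b_rc_10_2 lc_b_Cert_tree lc_b_rc_26_7 lc_b_rc_8_2 lc_b_rc_6_1 lc_b_rc_8_2 lc_b_rc_26_5 lc_b_Cert_tree lc_b_Cert_tree lc_b_rc_10_2 lc_b_rc_8_2 lc_b_rc_8_2 lc_b_rc_26_1 lc_b_rc_8_0 lc_b_rc_6_1 lc_b_rc_1_3 lc_b_rc_8_2 lc_b_rc_9_2 lc_b_rc_9_0 lc_b_rc_9_2 lc_b_rc_8_2 lc_b_Cert_tree lc_b_rc_6_1 lc_b_rc_6_1 lc_b_Cert_tree lc_b_rc_9_2 lc_b_rc_6_1 lc_b_Cert_tree lc_b_rc_9_2 lc_b_Cert_tree lc_b_rc_25_4 lc_b_rc_6_1 lc_b_rc_10_2 lc_b_rc_7_4 lc_b_rc_8_2 lc_b_rc_9_2 lc_b_rc_26_1 lc_b_rc_6_1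 lc_b_rc_8_2 lc_b_rc_6_1 lc_b_rc_8_2 lc_b_rc_26_5 lc_b_rc_9_2 lc_b_rc_8_2 lc_b_rc_9_2 lc_b_rc_9_2 lc_b_rc_9_2 lc_b_rc_1_3 lc_b_rc_6_1 lc_b_rc_26_7) (@D3.rec (fun _ => (Cert rels S Gen.b)) lc_b_rc_8_2 lc_b_rc_8_2 lc_b_rc_8_2 lc_b_rc_9_2 lc_b_rc_10_2 lc_b_Cert_tree lc_b_rc_8_2 lc_b_rc_8_2 lc_b_rc_7_2 lc_b_rc_10_2 lc_b_rc_6_1 lc_b_rc_26_5 lc_b_rc_7_0 lc_b_rc_6_1 lc_b_rc_9_0 lc_b_rc_9_2 lc_b_rc_26_7 lc_b_rc_9_0 lc_b_rc_6_1 lc_b_rc_9_2 lc_b_rc_8_2 lc_b_rc_9_2 lc_b_rc_8_2 lc_b_rc_26_5 lc_b_rc_6_1 lc_b_rc_10_2 lc_b_rc_8_2 lc_b_rc_7_2 lc_b_rc_8_2 lc_b_rc_9_2 lc_b_rc_6_1 lc_b_rc_8_2 lc_b_rc_26_5 lc_b_Cert_tree lc_b_Cert_tree lc_b_rc_10_2 lc_b_rc_6_1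 lc_b_rc_8_2 lc_b_rc_7_0 lc_b_Cert_tree lc_b_Cert_tree lc_b_rc_6_1 lc_b_rc_9_2 lc_b_rc_9_2 lc_b_Cert_tree lc_b_Cert_tree lc_b_rc_6_1 lc_b_rc_10_2 lc_b_rc_8_0 lc_b_rc_8_2 lc_b_rc_6_1 lc_b_rc_9_2 lc_b_rc_8_2 lc_b_rc_6_1 lc_b_Cert_tree lc_b_rc_26_5 lc_b_Cert_tree lc_b_rc_26_5 lc_b_rc_6_1 lc_b_rc_8_2 lc_b_rc_26_5 lc_b_Cert_tree) (@D3.rec (fun _ => (Cert rels S Gen.b)) lc_b_rc_9_2 lc_b_rc_6_1 lc_b_rc_9_2 lc_b_rc_7_2 lc_b_rc_26_5 lc_b_rc_6_1 lc_b_rc_26_1 lc_b_rc_26_7 lc_b_rc_26_1 lc_b_rc_26_1 lc_b_rc_8_2 lc_b_rc_10_2 lc_b_rc_8_2 lc_b_rc_6_1 lc_b_Cert_tree lc_b_rc_10_2 lc_b_rc_8_2 lc_b_rc_26_5 lc_b_rc_8_2 lc_b_Cert_tree lc_b_rc_9_2 lc_b_rc_8_2 lc_b_rc_8_2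 lc_b_Cert_tree lc_b_rc_9_2 lc_b_Cert_tree lc_b_rc_9_2 lc_b_Cert_tree lc_b_rc_9_2 lc_b_Cert_tree lc_b_rc_8_2 lc_b_rc_25_4 lc_b_rc_9_2 lc_b_rc_26_1 lc_b_rc_8_2 lc_b_rc_8_2 lc_b_rc_9_2 lc_b_rc_8_2 lc_b_rc_9_2 lc_b_rc_6_1 lc_b_Cert_tree lc_b_rc_9_2 lc_b_rc_8_2 lc_b_rc_6_1 lc_b_rc_8_2 lc_b_rc_6_1 lc_b_rc_8_2 lc_b_rc_9_2 lc_b_Cert_tree lc_b_rc_9_2 lc_b_rc_6_1 lc_b_rc_8_2 lc_b_rc_6_1 lc_b_rc_8_2 lc_b_rc_9_2 lc_b_Cert_tree lc_b_rc_26_1 lc_b_rc_8_2 lc_b_rc_10_2 lc_b_Cert_tree lc_b_rc_8_2 lc_b_rc_1_3) (@D3.rec (fun _ => (Cert rels S Gen.b)) lc_b_rc_8_2 lc_b_rc_7_4 lc_b_rc_8_2 lc_b_rc_9_2 lc_b_Cert_tree lc_b_rc_26_5 lc_b_rc_9_2 lc_b_Cert_tree lc_b_rc_7_0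 lc_b_rc_8_2 lc_b_rc_10_2 lc_b_rc_6_1 lc_b_rc_8_2 lc_b_rc_9_2 lc_b_rc_6_1 lc_b_Cert_tree lc_b_rc_10_2 lc_b_rc_8_2 lc_b_Cert_tree lc_b_rc_8_2 lc_b_rc_9_2 lc_b_rc_7_4 lc_b_rc_7_4 lc_b_rc_6_1 lc_b_rc_9_2 lc_b_Cert_tree lc_b_rc_26_7 lc_b_rc_10_2 lc_b_rc_8_2 lc_b_rc_10_2 lc_b_rc_8_2 lc_b_rc_9_2 lc_b_rc_6_1 lc_b_rc_10_2 lc_b_rc_9_2 lc_b_rc_8_2 lc_b_rc_7_0 lc_b_rc_10_2 lc_b_rc_6_1 lc_b_rc_9_2 lc_b_rc_6_1 lc_b_rc_26_5 lc_b_rc_9_2 lc_b_rc_6_1 lc_b_rc_1_5 lc_b_rc_8_2 lc_b_rc_10_2 lc_b_Cert_tree lc_b_Cert_tree lc_b_rc_8_0 lc_b_rc_9_2 lc_b_Cert_tree lc_b_rc_9_2 lc_b_Cert_tree lc_b_rc_1_3 lc_b_rc_8_2 lc_b_Cert_tree lc_b_rc_9_2 lc_b_rc_6_1 lc_b_rc_6_1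 lc_b_rc_1_3 lc_b_rc_8_2) (@D3.rec (fun _ => (Cert rels S Gen.b)) lc_b_rc_7_4 lc_b_rc_9_2 lc_b_Cert_tree lc_b_rc_8_2 lc_b_rc_8_2 lc_b_rc_9_2 lc_b_rc_26_5 lc_b_Cert_tree lc_b_Cert_tree lc_b_rc_9_2 lc_b_rc_1_5 lc_b_rc_8_2 lc_b_rc_6_1 lc_b_rc_25_12 lc_b_rc_10_2 lc_b_rc_6_1 lc_b_rc_10_2 lc_b_rc_9_2 lc_b_rc_6_1 lc_b_rc_9_2 lc_b_Cert_tree lc_b_Cert_tree lc_b_rc_8_2 lc_b_rc_9_0 lc_b_Cert_tree lc_b_rc_6_1 lc_b_rc_6_1 lc_b_rc_10_0 lc_b_Cert_tree lc_b_rc_1_3 lc_b_rc_8_2 lc_b_rc_6_1 lc_b_rc_10_2 lc_b_rc_1_3 lc_b_rc_8_2 lc_b_rc_9_2 lc_b_rc_26_5 lc_b_rc_9_2 lc_b_rc_6_1 lc_b_rc_8_2 lc_b_rc_8_2 lc_b_rc_8_2 lc_b_rc_7_2 lc_b_Cert_tree lc_b_rc_6_1 lc_b_Cert_tree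 lc_b_rc_9_2 lc_b_rc_26_1 lc_b_rc_8_2 lc_b_rc_10_2 lc_b_rc_6_1 lc_b_rc_26_1 lc_b_rc_10_0 lc_b_rc_8_0 lc_b_rc_8_2 lc_b_rc_10_2 lc_b_Cert_tree lc_b_rc_8_2 lc_b_rc_7_0 lc_b_rc_1_3 lc_b_rc_8_2 lc_b_rc_9_2) (@D3.rec (fun _ => (Cert rels S Gen.b)) lc_b_rc_6_1 lc_b_rc_6_1 lc_b_Cert_tree lc_b_rc_1_3 lc_b_rc_8_2 lc_b_rc_8_2 lc_b_rc_6_1 lc_b_rc_9_2 lc_b_rc_6_1 lc_b_rc_9_2 lc_b_rc_6_1 lc_b_rc_10_0 lc_b_Cert_tree lc_b_Cert_tree lc_b_rc_7_0 lc_b_rc_6_1 lc_b_rc_6_1 lc_b_rc_1_3 lc_b_rc_8_2 lc_b_rc_9_2 lc_b_rc_26_5 lc_b_rc_6_1 lc_b_rc_1_3 lc_b_rc_6_1 lc_b_rc_6_1 lc_b_rc_8_2 lc_b_rc_8_2 lc_b_rc_8_2 lc_b_Cert_tree lc_b_rc_8_2 lc_b_rc_7_4 lc_b_rc_9_2 lc_b_Cert_tree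 lc_b_Cert_tree lc_b_rc_1_5 lc_b_rc_6_1 lc_b_Cert_tree lc_b_rc_1_3 lc_b_rc_9_2 lc_b_rc_6_1 lc_b_rc_1_3 lc_b_rc_9_2 lc_b_rc_6_1 lc_b_rc_9_2 lc_b_rc_6_1 lc_b_rc_8_2 lc_b_rc_10_2 lc_b_Cert_tree lc_b_Cert_tree lc_b_rc_8_2 lc_b_rc_26_1 lc_b_Cert_tree lc_b_rc_6_1 lc_b_rc_6_1 lc_b_Cert_tree lc_b_rc_9_2 lc_b_rc_6_1 lc_b_rc_26_5 lc_b_rc_1_3 lc_b_rc_8_2 lc_b_rc_1_3 lc_b_rc_9_0) (@D3.rec (fun _ => (Cert rels S Gen.b)) lc_b_rc_8_2 lc_b_rc_8_2 lc_b_Cert_tree lc_b_rc_7_4 lc_b_rc_9_2 lc_b_Cert_tree lc_b_rc_8_2 lc_b_Cert_tree lc_b_rc_26_5 lc_b_rc_8_2 lc_b_rc_10_2 lc_b_Cert_tree lc_b_rc_6_1 lc_b_Cert_tree lc_b_rc_8_2 lc_b_rc_6_1 lc_b_rc_26_5 lc_b_rc_8_2 lc_b_rc_9_2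 lc_b_rc_1_3 lc_b_rc_9_2 lc_b_Cert_tree lc_b_Cert_tree lc_b_rc_7_2 lc_b_rc_9_2 lc_b_Cert_tree lc_b_rc_7_0 lc_b_rc_8_2 lc_b_rc_10_2 lc_b_rc_8_2 lc_b_Cert_tree lc_b_rc_8_2 lc_b_rc_10_2 lc_b_Cert_tree lc_b_rc_6_1 lc_b_rc_7_4 lc_b_rc_8_2 lc_b_rc_10_2 lc_b_rc_25_4 lc_b_rc_9_2 lc_b_rc_26_1 lc_b_rc_1_3 lc_b_rc_8_2 lc_b_rc_6_1 lc_b_rc_9_2 lc_b_rc_9_0 lc_b_rc_9_2 lc_b_rc_6_1 lc_b_Cert_tree lc_b_rc_9_2 lc_b_rc_6_1 lc_b_rc_9_2 lc_b_rc_7_4 lc_b_Cert_tree lc_b_rc_7_0 lc_b_rc_10_2 lc_b_rc_9_2 lc_b_rc_8_2 lc_b_rc_7_4 lc_b_rc_9_2 lc_b_rc_7_2 lc_b_Cert_tree) (@D3.rec (fun _ => (Cert rels S Gen.b)) lc_b_rc_7_2 lc_b_Cert_tree lc_b_Cert_tree lc_b_rc_26_1 lc_b_rc_9_2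 lc_b_Cert_tree lc_b_Cert_tree lc_b_rc_9_2 lc_b_rc_10_2 lc_b_rc_6_1 lc_b_Cert_tree lc_b_rc_8_2 lc_b_rc_9_2 lc_b_rc_6_1 lc_b_rc_26_5 lc_b_rc_8_2 lc_b_rc_9_2 lc_b_rc_9_2 lc_b_Cert_tree lc_b_Cert_tree lc_b_rc_6_1 lc_b_rc_25_8 lc_b_rc_9_2 lc_b_rc_6_1 lc_b_rc_25_12 lc_b_rc_9_2 lc_b_Cert_tree lc_b_Cert_tree lc_b_rc_26_5 lc_b_Cert_tree lc_b_rc_9_0 lc_b_rc_6_1 lc_b_rc_8_2 lc_b_rc_6_1 lc_b_rc_8_2 lc_b_rc_6_1 lc_b_rc_26_1 lc_b_rc_8_0 lc_b_rc_1_5 lc_b_rc_10_0 lc_b_rc_8_2 lc_b_rc_7_4 lc_b_rc_9_2 lc_b_rc_8_2 lc_b_rc_9_2 lc_b_Cert_tree lc_b_rc_9_2 lc_b_rc_6_1 lc_b_rc_8_2 lc_b_rc_8_2 lc_b_rc_8_2 lc_b_rc_9_2 lc_b_rc_6_1 lc_b_rc_8_2 lc_b_rc_9_2 lc_b_rc_6_1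 lc_b_rc_7_2 lc_b_rc_1_1 lc_b_Cert_tree lc_b_Cert_tree lc_b_rc_6_1 lc_b_rc_8_2) (@D3.rec (fun _ => (Cert rels S Gen.b)) lc_b_rc_26_5 lc_b_Cert_tree lc_b_rc_9_2 lc_b_rc_10_2 lc_b_rc_6_1 lc_b_rc_6_1 lc_b_Cert_tree lc_b_rc_6_1 lc_b_rc_6_1 lc_b_Cert_tree lc_b_rc_9_2 lc_b_rc_6_1 lc_b_rc_6_1 lc_b_rc_6_1 lc_b_Cert_tree lc_b_rc_1_3 lc_b_rc_8_2 lc_b_rc_8_0 lc_b_rc_8_2 lc_b_rc_9_2 lc_b_rc_6_1 lc_b_rc_26_1 lc_b_rc_26_1 lc_b_rc_1_3 lc_b_rc_6_1 lc_b_rc_7_2 lc_b_Cert_tree lc_b_Cert_tree lc_b_rc_9_0 lc_b_rc_6_1 lc_b_rc_9_0 lc_b_rc_7_0 lc_b_rc_8_2 lc_b_rc_6_1 lc_b_rc_9_2 lc_b_rc_6_1 lc_b_rc_8_2 lc_b_rc_8_2 lc_b_rc_6_1 lc_b_rc_9_2 lc_b_rc_6_1 lc_b_Cert_tree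 lc_b_rc_1_3 lc_b_rc_8_2 lc_b_rc_9_2 lc_b_rc_9_2 lc_b_rc_8_2 lc_b_rc_6_1 lc_b_Cert_tree lc_b_rc_9_2 lc_b_rc_6_1 lc_b_rc_26_5 lc_b_rc_26_5 lc_b_rc_9_2 lc_b_Cert_tree lc_b_rc_26_5 lc_b_rc_10_2 lc_b_rc_8_2 lc_b_rc_26_1 lc_b_rc_6_1 lc_b_rc_1_3 lc_b_rc_9_2) (@D3.rec (fun _ => (Cert rels S Gen.b)) lc_b_rc_26_5 lc_b_rc_1_3 lc_b_rc_6_1 lc_b_rc_9_2 lc_b_rc_1_5 lc_b_Cert_tree lc_b_rc_9_0 lc_b_Cert_tree lc_b_rc_9_2 lc_b_rc_1_5 lc_b_rc_8_2 lc_b_rc_10_2 lc_b_Cert_tree lc_b_rc_26_5 lc_b_rc_10_2 lc_b_Cert_tree lc_b_rc_8_2 lc_b_rc_9_2 lc_b_rc_6_1 lc_b_rc_26_7 lc_b_rc_8_2 lc_b_rc_9_2 lc_b_rc_26_5 lc_b_Cert_tree lc_b_rc_9_0 lc_b_rc_10_2 lc_b_rc_8_2 lc_b_rc_10_2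 lc_b_rc_9_2 lc_b_rc_1_5 lc_b_rc_26_7 lc_b_rc_6_1 lc_b_rc_1_1 lc_b_rc_8_2 lc_b_rc_9_2 lc_b_rc_10_2 lc_b_rc_1_3 lc_b_Cert_tree lc_b_rc_6_1 lc_b_rc_26_5 lc_b_rc_9_2 lc_b_rc_6_1 lc_b_rc_9_2 lc_b_Cert_tree lc_b_rc_8_2 lc_b_rc_9_2 lc_b_rc_25_8 lc_b_rc_9_2 lc_b_rc_6_1 lc_b_rc_6_1 lc_b_rc_8_2 lc_b_rc_9_2 lc_b_rc_9_2 lc_b_rc_6_1 lc_b_Cert_tree lc_b_rc_10_2 lc_b_rc_8_2 lc_b_rc_9_2 lc_b_Cert_tree lc_b_rc_9_2 lc_b_rc_26_7 lc_b_rc_1_3) (@D3.rec (fun _ => (Cert rels S Gen.b)) lc_b_rc_8_2 lc_b_rc_9_2 lc_b_Cert_tree lc_b_rc_7_4 lc_b_rc_6_1 lc_b_rc_9_2 lc_b_rc_9_2 lc_b_rc_6_1 lc_b_rc_10_2 lc_b_rc_9_2 lc_b_rc_8_2 lc_b_rc_9_2 lc_b_rc_6_1 lc_b_rc_6_1 lc_b_rc_26_1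 lc_b_rc_1_3 lc_b_rc_6_1 lc_b_Cert_tree lc_b_rc_9_2 lc_b_rc_8_2 lc_b_rc_7_4 lc_b_rc_9_2 lc_b_Cert_tree lc_b_Cert_tree lc_b_rc_10_2 lc_b_rc_9_2 lc_b_rc_8_2 lc_b_rc_6_1 lc_b_rc_26_5 lc_b_rc_8_2 lc_b_rc_26_1 lc_b_rc_8_2 lc_b_rc_1_1 lc_b_Cert_tree lc_b_Cert_tree lc_b_Cert_tree lc_b_rc_10_2 lc_b_rc_8_2 lc_b_rc_10_2 lc_b_Cert_tree lc_b_rc_9_2 lc_b_rc_6_1 lc_b_rc_1_3 lc_b_rc_8_2 lc_b_rc_25_4 lc_b_rc_6_1 lc_b_rc_6_1 lc_b_Cert_tree lc_b_rc_8_2 lc_b_rc_6_1 lc_b_rc_7_4 lc_b_rc_9_2 lc_b_rc_7_4 lc_b_rc_8_2 lc_b_rc_6_1 lc_b_rc_8_2 lc_b_rc_10_2 lc_b_rc_10_2 lc_b_rc_10_2 lc_b_rc_1_3 lc_b_rc_7_4 lc_b_rc_8_2) (@D3.rec (fun _ => (Cert rels S Gen.b)) lc_b_rc_8_2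 lc_b_rc_9_2 lc_b_rc_26_5 lc_b_rc_1_3 lc_b_rc_8_2 lc_b_rc_25_12 lc_b_rc_9_2 lc_b_rc_6_1 lc_b_rc_6_1 lc_b_Cert_tree lc_b_Cert_tree lc_b_rc_8_2 lc_b_rc_10_2 lc_b_Cert_tree lc_b_rc_7_4 lc_b_rc_6_1 lc_b_rc_7_2 lc_b_rc_6_1 lc_b_rc_26_5 lc_b_rc_7_2 lc_b_rc_9_2 lc_b_Cert_tree lc_b_Cert_tree lc_b_rc_10_2 lc_b_rc_9_2 lc_b_rc_9_2 lc_b_rc_9_2 lc_b_rc_6_1 lc_b_rc_6_1 lc_b_rc_8_2 lc_b_rc_8_2 lc_b_rc_26_7 lc_b_rc_26_5 lc_b_Cert_tree lc_b_rc_8_2 lc_b_rc_9_2 lc_b_rc_26_5 lc_b_rc_8_2 lc_b_rc_9_2 lc_b_rc_6_1 lc_b_rc_26_5 lc_b_rc_8_2 lc_b_rc_9_2 lc_b_rc_6_1 lc_b_rc_1_1 lc_b_rc_8_2 lc_b_rc_6_1 lc_b_rc_6_1 lc_b_rc_1_3 lc_b_rc_9_2 lc_b_rc_6_1 lc_b_rc_6_1 lc_b_rc_10_2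 lc_b_rc_6_1 lc_b_rc_1_3 lc_b_Cert_tree lc_b_rc_26_7 lc_b_rc_6_1 lc_b_rc_9_2 lc_b_rc_1_5 lc_b_rc_7_2 lc_b_rc_8_2) (@D3.rec (fun _ => (Cert rels S Gen.b)) lc_b_rc_8_0 lc_b_rc_8_2 lc_b_rc_9_2 lc_b_Cert_tree lc_b_rc_26_5 lc_b_Cert_tree lc_b_rc_9_2 lc_b_rc_26_1 lc_b_rc_1_1 lc_b_rc_8_2 lc_b_Cert_tree lc_b_rc_9_2 lc_b_rc_9_2 lc_b_rc_6_1 lc_b_rc_9_2 lc_b_rc_8_2 lc_b_Cert_tree lc_b_rc_6_1 lc_b_rc_6_1 lc_b_rc_8_2 lc_b_rc_8_2 lc_b_rc_8_2 lc_b_rc_9_2 lc_b_rc_8_2 lc_b_rc_9_2 lc_b_rc_8_2 lc_b_rc_9_2 lc_b_rc_8_2 lc_b_rc_9_2 lc_b_rc_9_2 lc_b_rc_8_2 lc_b_rc_6_1 lc_b_rc_7_2 lc_b_rc_8_2 lc_b_rc_6_1 lc_b_rc_26_5 lc_b_rc_6_1 lc_b_rc_6_1 lc_b_rc_6_1 lc_b_rc_8_0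 lc_b_rc_7_2 lc_b_rc_8_2 lc_b_rc_26_5 lc_b_rc_8_0 lc_b_Cert_tree lc_b_rc_8_2 lc_b_rc_6_1 lc_b_rc_9_2 lc_b_rc_9_2 lc_b_rc_6_1 lc_b_rc_10_2 lc_b_rc_6_1 lc_b_rc_10_2 lc_b_rc_6_1 lc_b_rc_1_3 lc_b_rc_9_2 lc_b_rc_8_2 lc_b_rc_9_2 lc_b_rc_6_1 lc_b_rc_9_2 lc_b_rc_6_1 lc_b_rc_8_2) (@D3.rec (fun _ => (Cert rels S Gen.b)) lc_b_rc_10_2 lc_b_rc_9_2 lc_b_rc_8_2 lc_b_rc_8_2 lc_b_Cert_tree lc_b_rc_1_5 lc_b_rc_25_12 lc_b_rc_9_2 lc_b_rc_6_1 lc_b_Cert_tree lc_b_rc_8_0 lc_b_rc_9_2 lc_b_rc_9_2 lc_b_Cert_tree lc_b_rc_9_2 lc_b_rc_9_0 lc_b_rc_25_16 lc_b_rc_9_2 lc_b_rc_26_7 lc_b_rc_8_2 lc_b_rc_8_2 lc_b_rc_6_1 lc_b_rc_9_2 lc_b_rc_6_1 lc_b_Cert_tree lc_b_rc_8_2 lc_b_Cert_tree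 lc_b_rc_9_2 lc_b_rc_9_0 lc_b_Cert_tree lc_b_rc_8_2 lc_b_rc_9_2 lc_b_rc_8_2 lc_b_rc_9_2 lc_b_rc_10_2 lc_b_rc_8_2 lc_b_rc_1_1 lc_b_rc_6_1 lc_b_rc_8_2 lc_b_Cert_tree lc_b_rc_9_2 lc_b_Cert_tree lc_b_rc_8_2 lc_b_rc_6_1 lc_b_rc_9_2 lc_b_rc_10_2 lc_b_rc_8_0 lc_b_rc_8_2 lc_b_rc_10_2 lc_b_Cert_tree lc_b_rc_1_1 lc_b_rc_8_2 lc_b_rc_9_2 lc_b_Cert_tree lc_b_rc_26_7 lc_b_rc_7_4 lc_b_Cert_tree lc_b_rc_7_0 lc_b_rc_8_2 lc_b_rc_10_2 lc_b_rc_6_1 lc_b_rc_7_2) (@D3.rec (fun _ => (Cert rels S Gen.b)) lc_b_rc_8_2 lc_b_rc_9_2 lc_b_rc_6_1 lc_b_rc_26_7 lc_b_rc_9_2 lc_b_rc_8_2 lc_b_Cert_tree lc_b_rc_8_2 lc_b_rc_10_2 lc_b_rc_6_1 lc_b_rc_1_3 lc_b_rc_1_5 lc_b_rc_6_1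 lc_b_rc_6_1 lc_b_rc_9_2 lc_b_rc_9_0 lc_b_rc_7_0 lc_b_rc_1_3 lc_b_rc_8_2 lc_b_rc_10_2 lc_b_rc_7_2 lc_b_rc_8_0 lc_b_rc_9_2 lc_b_Cert_tree lc_b_rc_9_0 lc_b_rc_1_3 lc_b_rc_7_4 lc_b_rc_6_1 lc_b_rc_7_0 lc_b_rc_26_5 lc_b_rc_8_2 lc_b_Cert_tree lc_b_rc_26_1 lc_b_rc_8_2 lc_b_rc_7_4 lc_b_rc_6_1 lc_b_Cert_tree lc_b_rc_8_2 lc_b_rc_9_2 lc_b_rc_6_1 lc_b_Cert_tree lc_b_rc_9_2 lc_b_rc_6_1 lc_b_Cert_tree lc_b_rc_9_2 lc_b_rc_6_1 lc_b_rc_9_2 lc_b_Cert_tree lc_b_rc_6_1 lc_b_rc_10_2 lc_b_rc_8_2 lc_b_rc_8_2 lc_b_rc_9_2 lc_b_rc_1_3 lc_b_rc_10_2 lc_b_rc_7_2 lc_b_rc_9_2 lc_b_rc_1_5 lc_b_rc_8_2 lc_b_rc_6_1 lc_b_rc_9_2 lc_b_Cert_tree) (@D3.rec (fun _ => (Cert rels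 S Gen.b)) lc_b_Cert_tree lc_b_rc_6_1 lc_b_rc_10_2 lc_b_rc_6_1 lc_b_rc_10_2 lc_b_rc_26_1 lc_b_rc_6_1 lc_b_rc_6_1 lc_b_rc_6_1 lc_b_rc_7_2 lc_b_rc_9_2 lc_b_rc_10_2 lc_b_rc_6_1 lc_b_rc_26_5 lc_b_Cert_tree lc_b_rc_1_3 lc_b_rc_8_2 lc_b_rc_9_2 lc_b_rc_6_1 lc_b_Cert_tree lc_b_rc_1_3 lc_b_rc_7_2 lc_b_rc_8_2 lc_b_rc_9_2 lc_b_rc_9_2 lc_b_rc_6_1 lc_b_rc_6_1 lc_b_rc_6_1 lc_b_rc_9_2 lc_b_rc_6_1 lc_b_rc_1_5 lc_b_rc_6_1 lc_b_rc_9_2 lc_b_Cert_tree lc_b_Cert_tree lc_b_rc_10_2 lc_b_rc_9_2 lc_b_rc_26_1 lc_b_rc_6_1 lc_b_rc_8_2 lc_b_rc_8_0 lc_b_Cert_tree lc_b_rc_7_4 lc_b_Cert_tree lc_b_Cert_tree lc_b_rc_9_2 lc_b_Cert_tree lc_b_rc_9_2 lc_b_rc_6_1 lc_b_rc_26_5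 lc_b_rc_1_3 lc_b_rc_8_2 lc_b_rc_1_3 lc_b_rc_6_1 lc_b_rc_8_2 lc_b_rc_8_0 lc_b_rc_8_2 lc_b_rc_7_4 lc_b_rc_9_2 lc_b_rc_26_1 lc_b_rc_6_1 lc_b_rc_8_2) (@D3.rec (fun _ => (Cert rels S Gen.b)) lc_b_Cert_tree lc_b_rc_26_5 lc_b_rc_7_0 lc_b_rc_10_2 lc_b_rc_6_1 lc_b_rc_6_1 lc_b_rc_8_2 lc_b_Cert_tree lc_b_rc_26_1 lc_b_rc_6_1 lc_b_rc_6_1 lc_b_rc_8_2 lc_b_Cert_tree lc_b_rc_1_5 lc_b_rc_6_1 lc_b_rc_8_0 lc_b_Cert_tree lc_b_rc_6_1 lc_b_rc_10_2 lc_b_Cert_tree lc_b_Cert_tree lc_b_rc_8_0 lc_b_rc_9_2 lc_b_Cert_tree lc_b_Cert_tree lc_b_rc_10_2 lc_b_rc_6_1 lc_b_Cert_tree lc_b_rc_7_4 lc_b_rc_9_2 lc_b_rc_6_1 lc_b_rc_8_2 lc_b_rc_8_2 lc_b_rc_9_2 lc_b_rc_10_2 lc_b_Cert_tree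 lc_b_rc_9_2 lc_b_rc_9_2 lc_b_Cert_tree lc_b_rc_10_2 lc_b_rc_8_2 lc_b_Cert_tree lc_b_rc_26_1 lc_b_rc_7_2 lc_b_rc_8_2 lc_b_Cert_tree lc_b_rc_9_2 lc_b_rc_6_1 lc_b_rc_26_1 lc_b_rc_1_3 lc_b_rc_8_2 lc_b_rc_7_2 lc_b_rc_9_2 lc_b_rc_6_1 lc_b_rc_9_2 lc_b_rc_6_1 lc_b_rc_9_2 lc_b_rc_26_1 lc_b_rc_26_5 lc_b_rc_8_2 lc_b_rc_9_2 lc_b_rc_9_2) (@D3.rec (fun _ => (Cert rels S Gen.b)) lc_b_rc_9_0 lc_b_rc_10_2 lc_b_rc_6_1 lc_b_Cert_tree lc_b_rc_7_4 lc_b_Cert_tree lc_b_rc_26_5 lc_b_rc_26_7 lc_b_Cert_tree lc_b_rc_8_2 lc_b_rc_8_2 lc_b_rc_10_2 lc_b_Cert_tree lc_b_rc_6_1 lc_b_Cert_tree lc_b_rc_9_2 lc_b_Cert_tree lc_b_rc_6_1 lc_b_rc_26_5 lc_b_rc_1_3 lc_b_rc_6_1 lc_b_Cert_tree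 lc_b_Cert_tree lc_b_rc_8_2 lc_b_rc_9_2 lc_b_rc_9_2 lc_b_rc_8_2 lc_b_rc_7_0 lc_b_rc_8_2 lc_b_rc_10_2 lc_b_rc_6_1 lc_b_Cert_tree lc_b_rc_8_2 lc_b_rc_9_2 lc_b_rc_6_1 lc_b_rc_26_5 lc_b_rc_8_2 lc_b_rc_9_2 lc_b_Cert_tree lc_b_Cert_tree lc_b_Cert_tree lc_b_rc_10_2 lc_b_Cert_tree lc_b_rc_10_2 lc_b_rc_8_2 lc_b_Cert_tree lc_b_rc_6_1 lc_b_rc_8_2 lc_b_rc_9_2 lc_b_Cert_tree lc_b_rc_6_1 lc_b_rc_6_1 lc_b_Cert_tree lc_b_rc_9_2 lc_b_Cert_tree lc_b_rc_6_1 lc_b_rc_6_1 lc_b_rc_8_2 lc_b_Cert_tree lc_b_Cert_tree lc_b_rc_9_2 lc_b_rc_8_2) (@D3.rec (fun _ => (Cert rels S Gen.b)) lc_b_rc_9_2 lc_b_Cert_tree lc_b_rc_9_2 lc_b_rc_8_2 lc_b_rc_9_2 lc_b_rc_9_2 lc_b_rc_26_1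 lc_b_rc_8_2 lc_b_rc_8_2 lc_b_rc_6_1 lc_b_rc_26_5 lc_b_rc_8_2 lc_b_rc_9_2 lc_b_rc_6_1 lc_b_rc_6_1 lc_b_rc_6_1 lc_b_rc_10_0 lc_b_rc_6_1 lc_b_rc_8_2 lc_b_rc_9_2 lc_b_rc_8_2 lc_b_rc_6_1 lc_b_rc_8_2 lc_b_rc_10_2 lc_b_rc_6_1 lc_b_rc_26_1 lc_b_rc_6_1 lc_b_rc_26_5 lc_b_rc_9_2 lc_b_rc_8_2 lc_b_rc_8_2 lc_b_rc_8_2 lc_b_rc_8_2 lc_b_Cert_tree lc_b_rc_26_5 lc_b_Cert_tree lc_b_rc_9_2 lc_b_Cert_tree lc_b_rc_9_2 lc_b_Cert_tree lc_b_rc_9_2 lc_b_Cert_tree lc_b_rc_9_2 lc_b_Cert_tree lc_b_Cert_tree lc_b_rc_6_1 lc_b_rc_6_1 lc_b_rc_10_2 lc_b_rc_9_2 lc_b_rc_6_1 lc_b_rc_8_2 lc_b_rc_8_2 lc_b_rc_9_2 lc_b_Cert_tree lc_b_Cert_tree lc_b_Cert_tree lc_b_rc_9_2 lc_b_rc_6_1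 lc_b_Cert_tree lc_b_rc_6_1 lc_b_Cert_tree lc_b_rc_9_2) (@D3.rec (fun _ => (Cert rels S Gen.b)) lc_b_Cert_tree lc_b_Cert_tree lc_b_rc_6_1 lc_b_rc_9_2 lc_b_Cert_tree lc_b_rc_8_2 lc_b_rc_10_2 lc_b_rc_8_2 lc_b_rc_1_3 lc_b_rc_8_2 lc_b_rc_1_1 lc_b_Cert_tree lc_b_rc_8_2 lc_b_rc_8_2 lc_b_rc_6_1 lc_b_Cert_tree lc_b_rc_9_2 lc_b_Cert_tree lc_b_rc_8_2 lc_b_rc_10_2 lc_b_rc_6_1 lc_b_rc_9_2 lc_b_rc_9_2 lc_b_Cert_tree lc_b_rc_6_1 lc_b_rc_10_2 lc_b_rc_8_2 lc_b_rc_1_1 lc_b_rc_9_0 lc_b_rc_9_2 lc_b_Cert_tree lc_b_rc_6_1 lc_b_rc_7_4 lc_b_Cert_tree lc_b_rc_8_2 lc_b_rc_6_1 lc_b_rc_6_1 lc_b_rc_1_1 lc_b_Cert_tree lc_b_rc_9_2 lc_b_rc_6_1 lc_b_rc_9_2 lc_b_rc_7_4 lc_b_Cert_tree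 lc_b_rc_10_2 lc_b_rc_6_1 lc_b_rc_9_2 lc_b_rc_6_1 lc_b_rc_7_4 lc_b_Cert_tree lc_b_Cert_tree lc_b_rc_1_3 lc_b_rc_8_2 lc_b_rc_10_2 lc_b_rc_9_2 lc_b_rc_25_4 lc_b_rc_8_2 lc_b_rc_9_2 lc_b_rc_8_2 lc_b_Cert_tree lc_b_rc_6_1 lc_b_rc_7_4) (@D3.rec (fun _ => (Cert rels S Gen.b)) lc_b_rc_8_2 lc_b_Cert_tree lc_b_rc_9_2 lc_b_rc_8_2 lc_b_rc_8_2 lc_b_rc_7_0 lc_b_Cert_tree lc_b_Cert_tree lc_b_rc_9_2 lc_b_rc_8_0 lc_b_Cert_tree lc_b_rc_8_2 lc_b_rc_6_1 lc_b_Cert_tree lc_b_rc_9_2 lc_b_Cert_tree lc_b_rc_8_2 lc_b_rc_6_1 lc_b_rc_9_2 lc_b_rc_7_4 lc_b_rc_9_2 lc_b_rc_8_2 lc_b_rc_10_2 lc_b_rc_6_1 lc_b_rc_10_0 lc_b_rc_10_2 lc_b_rc_8_2 lc_b_rc_9_2 lc_b_rc_8_2 lc_b_rc_9_2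 lc_b_rc_1_5 lc_b_rc_25_4 lc_b_rc_9_2 lc_b_Cert_tree lc_b_rc_10_2 lc_b_rc_6_1 lc_b_rc_9_2 lc_b_Cert_tree lc_b_rc_1_1 lc_b_rc_9_2 lc_b_rc_26_5 lc_b_rc_6_1 lc_b_rc_7_4 lc_b_rc_1_5 lc_b_rc_9_2 lc_b_rc_8_2 lc_b_rc_10_2 lc_b_rc_8_2 lc_b_rc_9_2 lc_b_rc_9_2 lc_b_rc_8_0 lc_b_rc_9_2 lc_b_rc_6_1 lc_b_rc_7_4 lc_b_rc_6_1 lc_b_rc_25_4 lc_b_rc_9_2 lc_b_rc_10_2 lc_b_rc_9_2 lc_b_Cert_tree lc_b_rc_9_0 lc_b_rc_9_2) (@D3.rec (fun _ => (Cert rels S Gen.b)) lc_b_rc_10_2 lc_b_rc_6_1 lc_b_Cert_tree lc_b_rc_6_1 lc_b_rc_10_2 lc_b_rc_6_1 lc_b_rc_8_2 lc_b_rc_7_2 lc_b_rc_6_1 lc_b_rc_26_5 lc_b_rc_8_2 lc_b_rc_9_2 lc_b_rc_6_1 lc_b_rc_26_5 lc_b_rc_8_2 lc_b_rc_9_2 lc_b_rc_9_2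 lc_b_Cert_tree lc_b_rc_7_4 lc_b_rc_9_2 lc_b_rc_8_2 lc_b_rc_9_2 lc_b_rc_1_5 lc_b_rc_6_1 lc_b_rc_6_1 lc_b_rc_10_2 lc_b_rc_26_1 lc_b_rc_9_2 lc_b_rc_6_1 lc_b_rc_9_2 lc_b_rc_8_0 lc_b_rc_10_2 lc_b_rc_6_1 lc_b_rc_8_2 lc_b_rc_9_2 lc_b_rc_6_1 lc_b_rc_6_1 lc_b_rc_7_4 lc_b_rc_1_5 lc_b_rc_9_2 lc_b_rc_6_1 lc_b_rc_8_2 lc_b_rc_9_2 lc_b_rc_10_2 lc_b_rc_6_1 lc_b_rc_8_2 lc_b_rc_26_5 lc_b_Cert_tree lc_b_rc_9_2 lc_b_rc_7_4 lc_b_rc_8_0 lc_b_Cert_tree lc_b_rc_9_2 lc_b_Cert_tree lc_b_rc_9_2 lc_b_Cert_tree lc_b_Cert_tree lc_b_rc_6_1 lc_b_rc_7_4 lc_b_rc_10_2 lc_b_rc_10_0 lc_b_rc_8_2) (@D3.rec (fun _ => (Cert rels S Gen.b)) lc_b_rc_1_3 lc_b_rc_1_3 lc_b_Cert_tree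 lc_b_rc_8_2 lc_b_rc_7_2 lc_b_rc_9_2 lc_b_rc_9_0 lc_b_Cert_tree lc_b_Cert_tree lc_b_rc_8_2 lc_b_rc_9_2 lc_b_rc_8_2 lc_b_rc_1_3 lc_b_rc_1_3 lc_b_Cert_tree lc_b_rc_6_1 lc_b_rc_7_4 lc_b_rc_9_2 lc_b_Cert_tree lc_b_rc_9_0 lc_b_rc_10_2 lc_b_rc_9_2 lc_b_Cert_tree lc_b_rc_10_2 lc_b_rc_1_3 lc_b_Cert_tree lc_b_rc_9_2 lc_b_rc_6_1 lc_b_rc_9_2 lc_b_Cert_tree lc_b_rc_8_2 lc_b_rc_6_1 lc_b_rc_10_2 lc_b_rc_10_2 lc_b_Cert_tree lc_b_rc_9_2 lc_b_rc_6_1 lc_b_rc_6_1 lc_b_rc_7_4 lc_b_Cert_tree lc_b_rc_8_0 lc_b_rc_6_1 lc_b_rc_9_2 lc_b_rc_6_1 lc_b_rc_1_3 lc_b_Cert_tree lc_b_rc_8_0 lc_b_rc_1_3 lc_b_rc_8_2 lc_b_rc_1_3 lc_b_rc_9_2 lc_b_rc_8_2 lc_b_rc_9_2 lc_b_rc_6_1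 lc_b_Cert_tree lc_b_rc_8_2 lc_b_Cert_tree lc_b_Cert_tree lc_b_rc_8_2 lc_b_rc_10_2 lc_b_rc_6_1 lc_b_rc_8_2) (@D3.rec (fun _ => (Cert rels S Gen.b)) lc_b_rc_26_1 lc_b_rc_9_2 lc_b_Cert_tree lc_b_Cert_tree lc_b_rc_7_4 lc_b_rc_9_2 lc_b_Cert_tree lc_b_rc_8_2 lc_b_rc_8_0 lc_b_Cert_tree lc_b_rc_6_1 lc_b_rc_10_2 lc_b_rc_6_1 lc_b_rc_6_1 lc_b_rc_6_1 lc_b_rc_9_2 lc_b_Cert_tree lc_b_rc_9_0 lc_b_rc_8_2 lc_b_rc_10_2 lc_b_Cert_tree lc_b_rc_1_5 lc_b_Cert_tree lc_b_rc_9_2 lc_b_Cert_tree lc_b_rc_6_1 lc_b_rc_8_2 lc_b_rc_6_1 lc_b_rc_8_2 lc_b_rc_6_1 lc_b_rc_6_1 lc_b_rc_9_2 lc_b_rc_6_1 lc_b_rc_6_1 lc_b_rc_6_1 lc_b_rc_6_1 lc_b_Cert_tree lc_b_rc_1_3 lc_b_rc_8_2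 lc_b_rc_9_2 lc_b_rc_8_0 lc_b_rc_8_2 lc_b_rc_10_2 lc_b_rc_10_2 lc_b_rc_9_2 lc_b_rc_1_1 lc_b_rc_9_2 lc_b_rc_10_0 lc_b_rc_26_7 lc_b_rc_7_2 lc_b_rc_6_1 lc_b_rc_8_2 lc_b_rc_10_2 lc_b_rc_8_2 lc_b_rc_9_2 lc_b_rc_6_1 lc_b_rc_9_2 lc_b_rc_26_5 lc_b_Cert_tree lc_b_rc_9_2 lc_b_rc_10_2 lc_b_rc_7_2) (@D3.rec (fun _ => (Cert rels S Gen.b)) lc_b_rc_9_2 lc_b_rc_26_1 lc_b_rc_10_2 lc_b_rc_8_2 lc_b_rc_10_2 lc_b_rc_6_1 lc_b_rc_6_1 lc_b_rc_9_2 lc_b_rc_6_1 lc_b_rc_8_2 lc_b_rc_7_2 lc_b_Cert_tree lc_b_rc_10_2 lc_b_rc_6_1 lc_b_rc_1_1 lc_b_rc_8_2 lc_b_rc_9_2 lc_b_rc_26_5 lc_b_rc_9_2 lc_b_rc_8_2 lc_b_Cert_tree lc_b_rc_9_2 lc_b_rc_6_1 lc_b_rc_26_5 lc_b_rc_26_5 lc_b_rc_6_1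 lc_b_rc_26_1 lc_b_rc_9_2 lc_b_rc_8_2 lc_b_rc_9_2 lc_b_rc_10_2 lc_b_rc_6_1 lc_b_rc_8_2 lc_b_rc_6_1 lc_b_rc_8_2 lc_b_rc_26_1 lc_b_rc_9_2 lc_b_rc_8_2 lc_b_rc_9_2 lc_b_rc_8_0 lc_b_rc_6_1 lc_b_rc_1_3 lc_b_rc_8_2 lc_b_rc_6_1 lc_b_rc_8_2 lc_b_rc_8_2 lc_b_rc_6_1 lc_b_rc_9_2 lc_b_rc_9_2 lc_b_rc_6_1 lc_b_rc_7_2 lc_b_Cert_tree lc_b_rc_9_2 lc_b_rc_9_2 lc_b_rc_9_2 lc_b_rc_6_1 lc_b_rc_7_2 lc_b_rc_8_2 lc_b_Cert_tree lc_b_rc_1_3 lc_b_rc_8_2 lc_b_rc_6_1) (@D3.rec (fun _ => (Cert rels S Gen.b)) lc_b_rc_9_2 lc_b_rc_8_2 lc_b_rc_8_2 lc_b_rc_1_1 lc_b_rc_26_5 lc_b_rc_8_2 lc_b_rc_10_2 lc_b_rc_8_2 lc_b_rc_9_2 lc_b_rc_10_2 lc_b_Cert_tree lc_b_rc_6_1 lc_b_rc_26_5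 lc_b_rc_7_0 lc_b_rc_26_5 lc_b_rc_26_5 lc_b_rc_9_2 lc_b_rc_9_2 lc_b_Cert_tree lc_b_rc_10_2 lc_b_rc_26_1 lc_b_rc_6_1 lc_b_rc_9_2 lc_b_rc_6_1 lc_b_rc_8_2 lc_b_rc_9_2 lc_b_rc_6_1 lc_b_rc_9_2 lc_b_rc_9_2 lc_b_rc_8_2 lc_b_rc_6_1 lc_b_rc_9_2 lc_b_Cert_tree lc_b_rc_26_1 lc_b_rc_8_2 lc_b_rc_10_2 lc_b_rc_6_1 lc_b_rc_26_1 lc_b_rc_8_2 lc_b_rc_9_2 lc_b_rc_26_5 lc_b_Cert_tree lc_b_rc_8_0 lc_b_Cert_tree lc_b_rc_10_2 lc_b_rc_6_1 lc_b_rc_8_0 lc_b_rc_8_2 lc_b_rc_9_2 lc_b_rc_6_1 lc_b_rc_8_2 lc_b_Cert_tree lc_b_Cert_tree lc_b_rc_26_1 lc_b_rc_10_2 lc_b_rc_26_5 lc_b_rc_1_3 lc_b_rc_8_2 lc_b_rc_26_5 lc_b_rc_1_1 lc_b_rc_6_1 lc_b_Cert_tree) (@D3.rec (fun _ => (Cert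 rels S Gen.b)) lc_b_rc_8_2 lc_b_rc_6_1 lc_b_Cert_tree lc_b_rc_26_7 lc_b_Cert_tree lc_b_rc_6_1 lc_b_rc_6_1 lc_b_rc_9_2 lc_b_rc_8_2 lc_b_rc_8_2 lc_b_rc_6_1 lc_b_Cert_tree lc_b_rc_9_2 lc_b_rc_7_2 lc_b_rc_9_2 lc_b_rc_8_2 lc_b_Cert_tree lc_b_rc_8_2 lc_b_rc_9_2 lc_b_rc_8_2 lc_b_rc_7_2 lc_b_Cert_tree lc_b_rc_8_2 lc_b_rc_10_2 lc_b_rc_8_2 lc_b_rc_9_2 lc_b_rc_6_1 lc_b_rc_8_2 lc_b_rc_9_2 lc_b_rc_6_1 lc_b_Cert_tree lc_b_Cert_tree lc_b_rc_8_2 lc_b_rc_25_4 lc_b_rc_9_2 lc_b_rc_6_1 lc_b_rc_26_1 lc_b_rc_9_2 lc_b_rc_10_2 lc_b_rc_7_0 lc_b_Cert_tree lc_b_rc_8_2 lc_b_rc_26_5 lc_b_rc_6_1 lc_b_rc_26_5 lc_b_rc_8_2 lc_b_rc_9_2 lc_b_rc_6_1 lc_b_rc_26_5 lc_b_rc_8_2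 lc_b_rc_9_2 lc_b_Cert_tree lc_b_Cert_tree lc_b_Cert_tree lc_b_rc_10_2 lc_b_rc_6_1 lc_b_rc_1_1 lc_b_rc_8_2 lc_b_rc_9_2 lc_b_rc_25_12 lc_b_rc_9_2 lc_b_rc_1_5) (@D3.rec (fun _ => (Cert rels S Gen.b)) lc_b_rc_1_3 lc_b_rc_8_2 lc_b_rc_1_3 lc_b_rc_9_2 lc_b_rc_6_1 lc_b_rc_25_12 lc_b_rc_9_2 lc_b_rc_6_1 lc_b_Cert_tree lc_b_rc_9_2 lc_b_rc_6_1 lc_b_rc_9_2 lc_b_rc_9_2 lc_b_rc_6_1 lc_b_rc_7_0 lc_b_rc_8_2 lc_b_rc_9_2 lc_b_rc_8_2 lc_b_rc_25_0 lc_b_rc_9_2 lc_b_rc_1_1 lc_b_rc_9_0 lc_b_rc_8_2 lc_b_rc_10_2 lc_b_rc_1_5 lc_b_rc_9_2 lc_b_rc_1_5 lc_b_Cert_tree lc_b_rc_10_2 lc_b_rc_6_1 lc_b_rc_8_2 lc_b_rc_6_1 lc_b_rc_9_0 lc_b_rc_8_2 lc_b_rc_6_1 lc_b_Cert_tree lc_b_Cert_tree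 lc_b_Cert_tree lc_b_rc_10_2 lc_b_rc_8_2 lc_b_rc_9_2 lc_b_rc_8_0 lc_b_rc_10_2 lc_b_Cert_tree lc_b_rc_9_2 lc_b_rc_6_1 lc_b_rc_26_1 lc_b_rc_8_2 lc_b_rc_9_2 lc_b_Cert_tree lc_b_rc_9_2 lc_b_rc_6_1 lc_b_Cert_tree lc_b_rc_1_1 lc_b_rc_6_1 lc_b_Cert_tree lc_b_rc_9_2 lc_b_rc_6_1 lc_b_rc_8_2 lc_b_rc_9_2 lc_b_rc_8_2 lc_b_Cert_tree) (@D3.rec (fun _ => (Cert rels S Gen.b)) lc_b_rc_9_2 lc_b_rc_9_2 lc_b_rc_9_2 lc_b_rc_8_2 lc_b_rc_9_2 lc_b_rc_26_1 lc_b_rc_9_2 lc_b_rc_8_2 lc_b_rc_26_1 lc_b_rc_9_2 lc_b_rc_8_2 lc_b_rc_6_1 lc_b_rc_9_2 lc_b_rc_7_0 lc_b_rc_6_1 lc_b_Cert_tree lc_b_rc_8_2 lc_b_rc_10_2 lc_b_rc_6_1 lc_b_rc_8_2 lc_b_rc_7_2 lc_b_rc_6_1 lc_b_rc_26_5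 lc_b_rc_8_2 lc_b_rc_9_2 lc_b_rc_6_1 lc_b_Cert_tree lc_b_rc_25_8 lc_b_rc_6_1 lc_b_rc_8_2 lc_b_rc_1_5 lc_b_rc_8_2 lc_b_rc_9_2 lc_b_Cert_tree lc_b_rc_26_5 lc_b_rc_25_12 lc_b_rc_10_2 lc_b_rc_6_1 lc_b_rc_9_2 lc_b_Cert_tree lc_b_rc_6_1 lc_b_rc_9_2 lc_b_rc_8_2 lc_b_rc_9_2 lc_b_rc_8_2 lc_b_rc_8_2 lc_b_rc_10_2 lc_b_rc_6_1 lc_b_rc_7_2 lc_b_rc_1_5 lc_b_Cert_tree lc_b_rc_26_7 lc_b_rc_8_2 lc_b_rc_10_2 lc_b_rc_6_1 lc_b_rc_8_2 lc_b_rc_9_2 lc_b_rc_8_2 lc_b_Cert_tree lc_b_rc_26_5 lc_b_Cert_tree lc_b_rc_10_2) (@D3.rec (fun _ => (Cert rels S Gen.b)) lc_b_rc_8_2 lc_b_rc_6_1 lc_b_rc_8_2 lc_b_rc_9_2 lc_b_rc_26_5 lc_b_Cert_tree lc_b_Cert_tree lc_b_rc_10_2 lc_b_rc_6_1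 lc_b_rc_9_2 lc_b_Cert_tree lc_b_Cert_tree lc_b_rc_6_1 lc_b_rc_10_2 lc_b_rc_9_2 lc_b_rc_26_5 lc_b_rc_7_2 lc_b_rc_7_2 lc_b_rc_6_1 lc_b_rc_9_2 lc_b_rc_8_2 lc_b_rc_9_2 lc_b_Cert_tree lc_b_rc_26_5 lc_b_rc_8_2 lc_b_rc_10_2 lc_b_rc_8_2 lc_b_rc_9_2 lc_b_rc_6_1 lc_b_rc_8_2 lc_b_rc_7_0 lc_b_rc_8_2 lc_b_Cert_tree lc_b_Cert_tree lc_b_rc_8_2 lc_b_rc_6_1 lc_b_rc_8_2 lc_b_rc_6_1 lc_b_rc_8_2 lc_b_rc_8_0 lc_b_rc_8_0 lc_b_rc_10_2 lc_b_rc_9_2 lc_b_rc_6_1 lc_b_rc_1_5 lc_b_rc_6_1 lc_b_rc_1_1 lc_b_rc_7_2 lc_b_rc_8_2 lc_b_rc_9_2 lc_b_rc_8_0 lc_b_rc_9_2 lc_b_Cert_tree lc_b_rc_26_5 lc_b_rc_7_4 lc_b_rc_1_1 lc_b_rc_9_2 lc_b_rc_8_2 lc_b_rc_10_2 lc_b_rc_26_5 lc_b_rc_1_3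 lc_b_rc_26_5) (@D3.rec (fun _ => (Cert rels S Gen.b)) lc_b_rc_8_2 lc_b_rc_9_2 lc_b_rc_6_1 lc_b_Cert_tree lc_b_rc_9_2 lc_b_rc_8_2 lc_b_rc_8_2 lc_b_rc_10_2 lc_b_rc_6_1 lc_b_rc_10_0 lc_b_rc_8_2 lc_b_rc_9_2 lc_b_rc_6_1 lc_b_rc_7_4 lc_b_rc_8_2 lc_b_rc_9_2 lc_b_Cert_tree lc_b_rc_9_0 lc_b_rc_6_1 lc_b_rc_8_2 lc_b_rc_26_5 lc_b_rc_9_2 lc_b_rc_10_2 lc_b_rc_8_2 lc_b_rc_6_1 lc_b_Cert_tree lc_b_rc_25_8 lc_b_rc_6_1 lc_b_rc_7_2 lc_b_rc_6_1 lc_b_rc_26_1 lc_b_rc_10_0 lc_b_rc_9_0 lc_b_rc_9_0 lc_b_rc_6_1 lc_b_rc_7_4 lc_b_Cert_tree lc_b_rc_26_5 lc_b_rc_10_2 lc_b_rc_8_2 lc_b_rc_1_3 lc_b_Cert_tree lc_b_rc_9_2 lc_b_rc_8_2 lc_b_rc_7_0 lc_b_rc_8_2 lc_b_rc_6_1 lc_b_rc_9_2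 lc_b_rc_26_5 lc_b_rc_26_5 lc_b_rc_9_2 lc_b_rc_10_2 lc_b_rc_25_12 lc_b_rc_1_3 lc_b_rc_26_5 lc_b_rc_9_2 lc_b_Cert_tree lc_b_Cert_tree lc_b_rc_6_1 lc_b_rc_9_2 lc_b_Cert_tree lc_b_rc_26_5)
def ce_b_14 : D2 → D3 → (Cert rels S Gen.b) := @D2.rec (fun _ => D3 → (Cert rels S Gen.b)) (@D3.rec (fun _ => (Cert rels S Gen.b)) lc_b_rc_8_2 lc_b_rc_10_2 lc_b_rc_1_3 lc_b_rc_8_2 lc_b_rc_9_2 lc_b_rc_6_1 lc_b_rc_6_1 lc_b_rc_6_1 lc_b_Cert_tree lc_b_rc_10_2 lc_b_rc_6_1 lc_b_rc_9_2 lc_b_rc_6_1 lc_b_rc_10_0 lc_b_Cert_tree lc_b_Cert_tree lc_b_rc_1_3 lc_b_rc_8_2 lc_b_rc_10_2 lc_b_rc_9_2 lc_b_rc_8_2 lc_b_Cert_tree lc_b_Cert_tree lc_b_rc_6_1 lc_b_Cert_tree lc_b_rc_26_5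 lc_b_rc_8_2 lc_b_Cert_tree lc_b_rc_9_2 lc_b_rc_10_2 lc_b_rc_26_7 lc_b_Cert_tree lc_b_rc_7_2 lc_b_rc_9_2 lc_b_rc_26_5 lc_b_Cert_tree lc_b_rc_8_2 lc_b_rc_6_1 lc_b_rc_9_0 lc_b_rc_9_2 lc_b_rc_6_1 lc_b_rc_9_0 lc_b_rc_7_0 lc_b_rc_6_1 lc_b_rc_9_2 lc_b_Cert_tree lc_b_rc_8_0 lc_b_rc_9_2 lc_b_rc_10_2 lc_b_rc_6_1 lc_b_rc_26_7 lc_b_rc_9_2 lc_b_rc_8_2 lc_b_rc_9_2 lc_b_rc_6_1 lc_b_rc_8_2 lc_b_rc_9_2 lc_b_Cert_tree lc_b_rc_9_2 lc_b_rc_8_2 lc_b_rc_9_2 lc_b_Cert_tree) (@D3.rec (fun _ => (Cert rels S Gen.b)) lc_b_rc_1_3 lc_b_rc_6_1 lc_b_rc_7_4 lc_b_Cert_tree lc_b_Cert_tree lc_b_rc_9_2 lc_b_rc_6_1 lc_b_rc_8_2 lc_b_rc_1_5 lc_b_rc_6_1 lc_b_Cert_tree lc_b_Cert_tree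 lc_b_rc_6_1 lc_b_rc_7_4 lc_b_rc_8_0 lc_b_rc_6_1 lc_b_rc_8_0 lc_b_Cert_tree lc_b_Cert_tree lc_b_rc_8_2 lc_b_rc_9_2 lc_b_rc_6_1 lc_b_rc_6_1 lc_b_rc_7_2 lc_b_rc_6_1 lc_b_rc_6_1 lc_b_Cert_tree lc_b_rc_6_1 lc_b_rc_9_2 lc_b_rc_9_0 lc_b_Cert_tree lc_b_rc_8_2 lc_b_rc_10_2 lc_b_Cert_tree lc_b_Cert_tree lc_b_rc_9_2 lc_b_rc_6_1 lc_b_rc_9_2 lc_b_rc_1_1 lc_b_rc_6_1 lc_b_rc_6_1 lc_b_rc_6_1 lc_b_rc_9_2 lc_b_rc_8_2 lc_b_rc_9_2 lc_b_rc_9_2 lc_b_rc_6_1 lc_b_rc_6_1 lc_b_rc_8_2 lc_b_Cert_tree lc_b_rc_9_2 lc_b_rc_8_2 lc_b_rc_9_2 lc_b_rc_8_2 lc_b_rc_9_2 lc_b_rc_6_1 lc_b_rc_9_2 lc_b_rc_7_4 lc_b_rc_1_3 lc_b_rc_8_2 lc_b_rc_10_2 lc_b_rc_8_2) (@D3.rec (fun _ => (Cert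 rels S Gen.b)) lc_b_rc_9_2 lc_b_rc_6_1 lc_b_rc_1_1 lc_b_rc_6_1 lc_b_Cert_tree lc_b_rc_7_2 lc_b_rc_1_1 lc_b_rc_9_2 lc_b_rc_1_3 lc_b_rc_26_1 lc_b_rc_8_2 lc_b_rc_10_2 lc_b_rc_6_1 lc_b_Cert_tree lc_b_rc_8_2 lc_b_rc_10_2 lc_b_rc_9_2 lc_b_rc_9_2 lc_b_rc_6_1 lc_b_rc_10_0 lc_b_rc_9_2 lc_b_rc_9_0 lc_b_rc_26_5 lc_b_rc_10_2 lc_b_rc_6_1 lc_b_rc_1_1 lc_b_rc_8_2 lc_b_rc_7_4 lc_b_rc_6_1 lc_b_rc_1_3 lc_b_rc_7_4 lc_b_rc_9_2 lc_b_rc_7_4 lc_b_rc_6_1 lc_b_rc_6_1 lc_b_rc_6_1 lc_b_rc_7_2 lc_b_rc_1_3 lc_b_rc_8_2 lc_b_Cert_tree lc_b_rc_9_2 lc_b_rc_6_1 lc_b_rc_26_1 lc_b_rc_9_2 lc_b_rc_6_1 lc_b_rc_6_1 lc_b_rc_7_0 lc_b_rc_6_1 lc_b_Cert_tree lc_b_Cert_tree lc_b_rc_1_3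 lc_b_rc_8_2 lc_b_rc_26_5 lc_b_rc_1_5 lc_b_rc_6_1 lc_b_rc_1_3 lc_b_rc_9_2 lc_b_rc_8_0 lc_b_rc_9_2 lc_b_rc_9_2 lc_b_rc_6_1 lc_b_rc_8_2) (@D3.rec (fun _ => (Cert rels S Gen.b)) lc_b_rc_9_2 lc_b_rc_6_1 lc_b_rc_7_0 lc_b_rc_9_2 lc_b_Cert_tree lc_b_rc_8_0 lc_b_rc_8_2 lc_b_rc_9_2 lc_b_Cert_tree lc_b_rc_9_2 lc_b_rc_6_1 lc_b_rc_26_5 lc_b_rc_8_2 lc_b_rc_8_2 lc_b_rc_9_2 lc_b_rc_6_1 lc_b_Cert_tree lc_b_rc_9_2 lc_b_rc_6_1 lc_b_rc_9_0 lc_b_rc_9_2 lc_b_rc_9_2 lc_b_rc_7_0 lc_b_rc_6_1 lc_b_rc_26_1 lc_b_rc_9_2 lc_b_rc_8_2 lc_b_rc_1_5 lc_b_rc_7_4 lc_b_rc_6_1 lc_b_rc_9_2 lc_b_rc_6_1 lc_b_Cert_tree lc_b_rc_8_2 lc_b_rc_9_2 lc_b_rc_7_2 lc_b_rc_1_3 lc_b_rc_8_2 lc_b_rc_6_1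 lc_b_rc_7_4 lc_b_rc_7_2 lc_b_rc_8_2 lc_b_rc_8_2 lc_b_rc_6_1 lc_b_rc_7_4 lc_b_rc_10_0 lc_b_rc_1_1 lc_b_Cert_tree lc_b_rc_9_2 lc_b_rc_6_1 lc_b_rc_8_2 lc_b_Cert_tree lc_b_Cert_tree lc_b_rc_10_2 lc_b_rc_6_1 lc_b_rc_9_2 lc_b_rc_9_2 lc_b_rc_8_2 lc_b_rc_7_4 lc_b_Cert_tree lc_b_rc_8_2 lc_b_rc_10_2) (@D3.rec (fun _ => (Cert rels S Gen.b)) lc_b_rc_26_5 lc_b_rc_8_2 lc_b_rc_7_4 lc_b_rc_6_1 lc_b_Cert_tree lc_b_rc_8_2 lc_b_rc_9_2 lc_b_Cert_tree lc_b_Cert_tree lc_b_rc_7_4 lc_b_rc_6_1 lc_b_Cert_tree lc_b_rc_8_2 lc_b_rc_9_2 lc_b_rc_6_1 lc_b_Cert_tree lc_b_rc_8_2 lc_b_rc_9_2 lc_b_Cert_tree lc_b_Cert_tree lc_b_rc_10_2 lc_b_rc_9_2 lc_b_rc_8_2 lc_b_rc_6_1 lc_b_rc_8_2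 lc_b_rc_9_2 lc_b_rc_8_2 lc_b_rc_8_2 lc_b_rc_6_1 lc_b_rc_9_0 lc_b_Cert_tree lc_b_rc_6_1 lc_b_rc_8_2 lc_b_rc_7_2 lc_b_Cert_tree lc_b_rc_6_1 lc_b_rc_1_3 lc_b_rc_8_2 lc_b_rc_9_2 lc_b_rc_9_2 lc_b_rc_26_5 lc_b_rc_8_2 lc_b_rc_10_2 lc_b_rc_8_0 lc_b_rc_10_2 lc_b_rc_9_0 lc_b_rc_9_2 lc_b_rc_9_2 lc_b_rc_7_4 lc_b_rc_9_0 lc_b_rc_6_1 lc_b_rc_9_2 lc_b_rc_26_7 lc_b_rc_9_2 lc_b_rc_6_1 lc_b_rc_7_2 lc_b_Cert_tree lc_b_rc_10_2 lc_b_rc_6_1 lc_b_rc_6_1 lc_b_rc_10_2 lc_b_rc_7_0) (@D3.rec (fun _ => (Cert rels S Gen.b)) lc_b_rc_26_5 lc_b_rc_9_2 lc_b_rc_9_2 lc_b_rc_9_2 lc_b_rc_6_1 lc_b_rc_26_7 lc_b_rc_8_2 lc_b_rc_8_2 lc_b_rc_8_2 lc_b_rc_9_2 lc_b_rc_8_2 lc_b_rc_8_2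 lc_b_rc_10_2 lc_b_rc_10_0 lc_b_rc_7_2 lc_b_rc_8_2 lc_b_rc_10_2 lc_b_rc_8_2 lc_b_rc_9_2 lc_b_rc_6_1 lc_b_rc_8_2 lc_b_rc_9_2 lc_b_rc_26_1 lc_b_Cert_tree lc_b_Cert_tree lc_b_rc_10_2 lc_b_rc_6_1 lc_b_rc_8_2 lc_b_rc_6_1 lc_b_rc_8_2 lc_b_rc_7_2 lc_b_Cert_tree lc_b_rc_26_7 lc_b_Cert_tree lc_b_rc_6_1 lc_b_rc_6_1 lc_b_rc_1_1 lc_b_rc_8_2 lc_b_rc_9_2 lc_b_Cert_tree lc_b_rc_9_2 lc_b_rc_8_2 lc_b_rc_9_2 lc_b_Cert_tree lc_b_rc_9_2 lc_b_rc_6_1 lc_b_rc_6_1 lc_b_rc_9_2 lc_b_rc_6_1 lc_b_rc_9_2 lc_b_Cert_tree lc_b_Cert_tree lc_b_rc_6_1 lc_b_rc_8_2 lc_b_rc_10_2 lc_b_rc_9_2 lc_b_rc_8_2 lc_b_Cert_tree lc_b_rc_9_2 lc_b_rc_6_1 lc_b_rc_26_1 lc_b_rc_8_2) (@D3.rec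 (fun _ => (Cert rels S Gen.b)) lc_b_rc_6_1 lc_b_rc_7_4 lc_b_rc_8_2 lc_b_rc_9_2 lc_b_rc_8_2 lc_b_rc_1_5 lc_b_rc_8_2 lc_b_rc_10_2 lc_b_rc_8_2 lc_b_rc_1_5 lc_b_rc_10_2 lc_b_rc_6_1 lc_b_rc_8_2 lc_b_rc_9_2 lc_b_rc_6_1 lc_b_rc_8_2 lc_b_rc_9_2 lc_b_Cert_tree lc_b_Cert_tree lc_b_Cert_tree lc_b_rc_10_2 lc_b_rc_6_1 lc_b_rc_9_2 lc_b_rc_26_7 lc_b_rc_1_3 lc_b_rc_8_2 lc_b_rc_9_2 lc_b_rc_25_12 lc_b_rc_9_2 lc_b_rc_6_1 lc_b_rc_9_2 lc_b_rc_6_1 lc_b_rc_6_1 lc_b_rc_9_2 lc_b_rc_9_2 lc_b_rc_8_2 lc_b_rc_8_2 lc_b_rc_9_2 lc_b_rc_7_4 lc_b_rc_9_2 lc_b_rc_8_2 lc_b_rc_7_2 lc_b_rc_9_2 lc_b_rc_6_1 lc_b_rc_6_1 lc_b_rc_8_2 lc_b_rc_10_2 lc_b_rc_9_2 lc_b_rc_26_5 lc_b_rc_8_2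 lc_b_rc_7_2 lc_b_rc_6_1 lc_b_Cert_tree lc_b_rc_8_2 lc_b_rc_10_2 lc_b_rc_6_1 lc_b_rc_8_2 lc_b_rc_6_1 lc_b_rc_6_1 lc_b_rc_26_5 lc_b_rc_8_2 lc_b_rc_9_2) (@D3.rec (fun _ => (Cert rels S Gen.b)) lc_b_rc_26_5 lc_b_Cert_tree lc_b_Cert_tree lc_b_rc_10_2 lc_b_rc_6_1 lc_b_rc_8_2 lc_b_rc_8_2 lc_b_rc_9_2 lc_b_Cert_tree lc_b_rc_26_5 lc_b_Cert_tree lc_b_rc_10_2 lc_b_rc_6_1 lc_b_rc_9_2 lc_b_rc_9_2 lc_b_rc_6_1 lc_b_rc_8_2 lc_b_rc_10_2 lc_b_rc_9_2 lc_b_rc_9_2 lc_b_rc_8_2 lc_b_rc_8_2 lc_b_rc_8_2 lc_b_rc_6_1 lc_b_rc_26_1 lc_b_rc_25_16 lc_b_rc_8_2 lc_b_rc_26_5 lc_b_Cert_tree lc_b_rc_26_5 lc_b_Cert_tree lc_b_rc_26_5 lc_b_rc_6_1 lc_b_rc_8_2 lc_b_rc_6_1 lc_b_Cert_tree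 lc_b_rc_10_2 lc_b_rc_6_1 lc_b_rc_6_1 lc_b_rc_7_4 lc_b_rc_9_2 lc_b_rc_7_2 lc_b_rc_7_2 lc_b_rc_9_2 lc_b_Cert_tree lc_b_rc_8_2 lc_b_rc_10_2 lc_b_rc_10_2 lc_b_rc_10_2 lc_b_rc_9_2 lc_b_rc_26_5 lc_b_rc_8_2 lc_b_Cert_tree lc_b_rc_10_2 lc_b_rc_1_1 lc_b_rc_8_2 lc_b_rc_26_7 lc_b_rc_8_2 lc_b_rc_26_5 lc_b_rc_6_1 lc_b_rc_8_0 lc_b_rc_25_4) (@D3.rec (fun _ => (Cert rels S Gen.b)) lc_b_Cert_tree lc_b_rc_8_2 lc_b_rc_10_2 lc_b_rc_6_1 lc_b_rc_26_5 lc_b_rc_6_1 lc_b_rc_6_1 lc_b_rc_9_2 lc_b_Cert_tree lc_b_rc_7_2 lc_b_rc_8_2 lc_b_rc_6_1 lc_b_rc_1_3 lc_b_rc_8_2 lc_b_rc_9_2 lc_b_rc_9_0 lc_b_rc_6_1 lc_b_rc_26_7 lc_b_Cert_tree lc_b_rc_6_1 lc_b_Cert_tree lc_b_rc_8_2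 lc_b_rc_9_2 lc_b_rc_7_0 lc_b_rc_10_2 lc_b_rc_26_7 lc_b_rc_6_1 lc_b_rc_8_2 lc_b_rc_9_2 lc_b_rc_6_1 lc_b_rc_26_5 lc_b_rc_1_3 lc_b_rc_7_4 lc_b_rc_9_2 lc_b_rc_8_2 lc_b_rc_8_2 lc_b_rc_10_2 lc_b_rc_6_1 lc_b_Cert_tree lc_b_rc_8_0 lc_b_rc_6_1 lc_b_rc_7_4 lc_b_rc_8_2 lc_b_rc_9_2 lc_b_rc_26_5 lc_b_Cert_tree lc_b_rc_6_1 lc_b_rc_6_1 lc_b_rc_10_2 lc_b_rc_26_1 lc_b_rc_8_2 lc_b_rc_8_2 lc_b_rc_1_3 lc_b_rc_8_2 lc_b_rc_26_1 lc_b_Cert_tree lc_b_rc_9_2 lc_b_rc_10_2 lc_b_Cert_tree lc_b_rc_8_2 lc_b_rc_6_1 lc_b_rc_9_2) (@D3.rec (fun _ => (Cert rels S Gen.b)) lc_b_Cert_tree lc_b_rc_26_5 lc_b_rc_26_5 lc_b_rc_10_2 lc_b_rc_25_8 lc_b_rc_8_2 lc_b_rc_8_2 lc_b_rc_1_3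 lc_b_Cert_tree lc_b_rc_9_2 lc_b_Cert_tree lc_b_rc_6_1 lc_b_rc_6_1 lc_b_rc_9_2 lc_b_rc_26_5 lc_b_rc_26_1 lc_b_rc_10_2 lc_b_rc_1_3 lc_b_rc_10_2 lc_b_rc_9_2 lc_b_rc_9_0 lc_b_Cert_tree lc_b_rc_6_1 lc_b_rc_7_0 lc_b_rc_9_0 lc_b_rc_6_1 lc_b_rc_9_2 lc_b_rc_26_5 lc_b_rc_7_0 lc_b_rc_10_2 lc_b_rc_6_1 lc_b_rc_26_5 lc_b_rc_6_1 lc_b_rc_26_7 lc_b_rc_6_1 lc_b_Cert_tree lc_b_rc_1_3 lc_b_rc_6_1 lc_b_rc_6_1 lc_b_rc_1_3 lc_b_rc_8_2 lc_b_rc_6_1 lc_b_rc_9_2 lc_b_rc_6_1 lc_b_rc_8_2 lc_b_rc_9_2 lc_b_rc_8_2 lc_b_Cert_tree lc_b_rc_8_0 lc_b_rc_26_5 lc_b_Cert_tree lc_b_rc_6_1 lc_b_rc_9_2 lc_b_rc_6_1 lc_b_rc_8_2 lc_b_rc_9_2 lc_b_rc_6_1 lc_b_rc_9_2 lc_b_rc_6_1 lc_b_rc_8_2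 lc_b_rc_10_2 lc_b_rc_6_1) (@D3.rec (fun _ => (Cert rels S Gen.b)) lc_b_rc_8_2 lc_b_rc_8_2 lc_b_rc_1_3 lc_b_Cert_tree lc_b_Cert_tree lc_b_Cert_tree lc_b_rc_9_2 lc_b_Cert_tree lc_b_rc_8_2 lc_b_rc_6_1 lc_b_rc_26_5 lc_b_rc_6_1 lc_b_rc_10_2 lc_b_rc_9_2 lc_b_rc_9_2 lc_b_rc_9_2 lc_b_rc_26_1 lc_b_rc_9_2 lc_b_rc_9_2 lc_b_rc_26_1 lc_b_rc_6_1 lc_b_rc_26_5 lc_b_rc_8_2 lc_b_rc_9_2 lc_b_rc_26_5 lc_b_rc_8_2 lc_b_Cert_tree lc_b_Cert_tree lc_b_rc_26_7 lc_b_rc_10_2 lc_b_rc_6_1 lc_b_rc_7_2 lc_b_rc_8_2 lc_b_rc_9_2 lc_b_rc_6_1 lc_b_Cert_tree lc_b_rc_9_2 lc_b_Cert_tree lc_b_rc_6_1 lc_b_rc_10_2 lc_b_rc_8_2 lc_b_rc_7_2 lc_b_rc_8_2 lc_b_rc_9_2 lc_b_Cert_tree lc_b_rc_6_1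 lc_b_rc_26_1 lc_b_rc_6_1 lc_b_rc_26_5 lc_b_rc_8_2 lc_b_rc_7_4 lc_b_rc_9_2 lc_b_Cert_tree lc_b_rc_25_0 lc_b_rc_9_2 lc_b_rc_6_1 lc_b_Cert_tree lc_b_rc_9_2 lc_b_rc_8_2 lc_b_rc_8_2 lc_b_rc_6_1 lc_b_rc_8_2) (@D3.rec (fun _ => (Cert rels S Gen.b)) lc_b_rc_9_2 lc_b_rc_8_2 lc_b_rc_8_2 lc_b_Cert_tree lc_b_rc_6_1 lc_b_Cert_tree lc_b_rc_8_2 lc_b_rc_8_2 lc_b_rc_9_2 lc_b_rc_6_1 lc_b_rc_10_2 lc_b_rc_9_2 lc_b_rc_8_2 lc_b_rc_6_1 lc_b_rc_7_4 lc_b_rc_9_2 lc_b_rc_6_1 lc_b_rc_26_5 lc_b_rc_8_2 lc_b_rc_8_2 lc_b_rc_26_1 lc_b_rc_6_1 lc_b_rc_6_1 lc_b_Cert_tree lc_b_rc_1_3 lc_b_rc_8_2 lc_b_rc_26_1 lc_b_rc_9_2 lc_b_rc_26_1 lc_b_rc_1_3 lc_b_rc_6_1 lc_b_rc_7_4 lc_b_rc_9_2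 lc_b_rc_26_5 lc_b_Cert_tree lc_b_rc_8_2 lc_b_rc_9_2 lc_b_rc_26_5 lc_b_rc_8_2 lc_b_rc_7_4 lc_b_rc_7_4 lc_b_rc_7_4 lc_b_rc_8_2 lc_b_rc_8_2 lc_b_Cert_tree lc_b_rc_6_1 lc_b_rc_9_2 lc_b_rc_6_1 lc_b_rc_10_2 lc_b_rc_6_1 lc_b_rc_1_3 lc_b_rc_26_7 lc_b_rc_26_7 lc_b_rc_10_2 lc_b_rc_6_1 lc_b_rc_9_2 lc_b_rc_8_2 lc_b_rc_9_2 lc_b_rc_9_2 lc_b_rc_1_3 lc_b_rc_7_2 lc_b_rc_8_0) (@D3.rec (fun _ => (Cert rels S Gen.b)) lc_b_rc_26_5 lc_b_rc_7_4 lc_b_rc_8_2 lc_b_rc_9_2 lc_b_rc_6_1 lc_b_rc_26_5 lc_b_rc_7_0 lc_b_rc_9_2 lc_b_Cert_tree lc_b_rc_6_1 lc_b_rc_9_2 lc_b_rc_6_1 lc_b_rc_8_2 lc_b_rc_26_5 lc_b_rc_6_1 lc_b_rc_7_0 lc_b_rc_8_2 lc_b_rc_1_5 lc_b_rc_6_1 lc_b_rc_1_3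 lc_b_rc_9_2 lc_b_rc_6_1 lc_b_rc_6_1 lc_b_rc_7_0 lc_b_rc_8_2 lc_b_rc_7_4 lc_b_rc_9_2 lc_b_rc_8_2 lc_b_rc_8_2 lc_b_rc_26_5 lc_b_rc_9_2 lc_b_rc_6_1 lc_b_rc_9_2 lc_b_rc_8_2 lc_b_rc_6_1 lc_b_rc_26_1 lc_b_rc_8_2 lc_b_rc_9_2 lc_b_rc_8_2 lc_b_rc_9_2 lc_b_rc_10_2 lc_b_rc_1_5 lc_b_rc_8_0 lc_b_rc_9_2 lc_b_rc_1_5 lc_b_rc_6_1 lc_b_rc_8_2 lc_b_rc_1_5 lc_b_rc_8_2 lc_b_rc_10_2 lc_b_rc_10_0 lc_b_rc_7_2 lc_b_rc_10_2 lc_b_rc_9_2 lc_b_rc_1_5 lc_b_rc_8_2 lc_b_rc_10_2 lc_b_rc_8_2 lc_b_rc_8_2 lc_b_rc_1_3 lc_b_rc_6_1 lc_b_rc_8_0) (@D3.rec (fun _ => (Cert rels S Gen.b)) lc_b_Cert_tree lc_b_rc_10_2 lc_b_rc_10_2 lc_b_rc_9_2 lc_b_rc_8_2 lc_b_rc_9_2 lc_b_rc_26_5 lc_b_rc_26_5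 lc_b_Cert_tree lc_b_rc_10_2 lc_b_rc_6_1 lc_b_rc_8_2 lc_b_rc_6_1 lc_b_rc_10_2 lc_b_rc_9_2 lc_b_rc_9_2 lc_b_rc_9_2 lc_b_rc_7_0 lc_b_rc_26_1 lc_b_rc_8_2 lc_b_rc_10_2 lc_b_rc_8_2 lc_b_rc_8_2 lc_b_rc_9_2 lc_b_rc_10_2 lc_b_rc_6_1 lc_b_rc_10_0 lc_b_rc_9_2 lc_b_rc_8_0 lc_b_rc_6_1 lc_b_rc_6_1 lc_b_rc_6_1 lc_b_rc_8_2 lc_b_rc_9_2 lc_b_rc_9_2 lc_b_rc_8_2 lc_b_rc_6_1 lc_b_rc_6_1 lc_b_rc_8_0 lc_b_rc_9_2 lc_b_rc_6_1 lc_b_rc_6_1 lc_b_rc_8_2 lc_b_rc_10_2 lc_b_rc_1_1 lc_b_Cert_tree lc_b_rc_10_2 lc_b_rc_25_0 lc_b_rc_9_2 lc_b_rc_26_5 lc_b_rc_8_0 lc_b_rc_9_2 lc_b_rc_26_5 lc_b_rc_8_2 lc_b_rc_10_2 lc_b_rc_8_2 lc_b_rc_6_1 lc_b_rc_8_2 lc_b_rc_1_5 lc_b_rc_26_1 lc_b_rc_9_0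 lc_b_Cert_tree) (@D3.rec (fun _ => (Cert rels S Gen.b)) lc_b_rc_10_2 lc_b_rc_6_1 lc_b_rc_6_1 lc_b_rc_8_2 lc_b_rc_9_2 lc_b_rc_6_1 lc_b_rc_8_2 lc_b_rc_26_5 lc_b_rc_26_5 lc_b_rc_8_2 lc_b_Cert_tree lc_b_rc_9_2 lc_b_rc_8_2 lc_b_rc_10_2 lc_b_rc_6_1 lc_b_rc_10_2 lc_b_rc_26_1 lc_b_rc_8_2 lc_b_rc_6_1 lc_b_rc_8_2 lc_b_rc_1_5 lc_b_rc_9_2 lc_b_rc_9_2 lc_b_rc_6_1 lc_b_Cert_tree lc_b_rc_8_2 lc_b_rc_9_2 lc_b_rc_6_1 lc_b_rc_25_8 lc_b_rc_9_2 lc_b_rc_10_0 lc_b_Cert_tree lc_b_rc_8_2 lc_b_rc_26_7 lc_b_rc_8_2 lc_b_rc_8_2 lc_b_rc_9_2 lc_b_rc_1_3 lc_b_rc_8_2 lc_b_Cert_tree lc_b_rc_9_2 lc_b_rc_9_2 lc_b_rc_26_7 lc_b_rc_6_1 lc_b_rc_9_2 lc_b_Cert_tree lc_b_rc_10_0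 lc_b_rc_10_2 lc_b_rc_10_2 lc_b_rc_8_2 lc_b_rc_9_2 lc_b_Cert_tree lc_b_rc_9_2 lc_b_rc_8_2 lc_b_rc_9_2 lc_b_rc_6_1 lc_b_rc_9_2 lc_b_rc_9_2 lc_b_Cert_tree lc_b_rc_9_2 lc_b_rc_10_2 lc_b_rc_8_2) (@D3.rec (fun _ => (Cert rels S Gen.b)) lc_b_rc_1_1 lc_b_Cert_tree lc_b_rc_8_2 lc_b_rc_9_2 lc_b_rc_6_1 lc_b_rc_9_2 lc_b_Cert_tree lc_b_rc_9_0 lc_b_rc_8_2 lc_b_rc_10_2 lc_b_Cert_tree lc_b_rc_9_2 lc_b_rc_6_1 lc_b_rc_9_2 lc_b_rc_26_5 lc_b_rc_8_2 lc_b_rc_10_2 lc_b_rc_6_1 lc_b_rc_9_2 lc_b_rc_6_1 lc_b_rc_8_2 lc_b_rc_26_7 lc_b_rc_6_1 lc_b_rc_26_5 lc_b_rc_8_2 lc_b_Cert_tree lc_b_Cert_tree lc_b_rc_7_2 lc_b_rc_9_2 lc_b_rc_6_1 lc_b_rc_9_0 lc_b_rc_6_1 lc_b_rc_10_0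 lc_b_Cert_tree lc_b_Cert_tree lc_b_rc_7_0 lc_b_rc_6_1 lc_b_rc_8_2 lc_b_rc_9_2 lc_b_rc_9_2 lc_b_rc_26_7 lc_b_rc_8_2 lc_b_rc_9_2 lc_b_rc_26_5 lc_b_rc_8_2 lc_b_rc_9_2 lc_b_rc_8_0 lc_b_rc_26_7 lc_b_Cert_tree lc_b_rc_1_5 lc_b_Cert_tree lc_b_rc_6_1 lc_b_rc_1_3 lc_b_rc_9_2 lc_b_rc_6_1 lc_b_rc_6_1 lc_b_rc_7_4 lc_b_rc_26_7 lc_b_rc_9_2 lc_b_rc_7_4 lc_b_rc_7_0 lc_b_rc_8_2) (@D3.rec (fun _ => (Cert rels S Gen.b)) lc_b_rc_10_2 lc_b_rc_9_2 lc_b_rc_8_2 lc_b_rc_26_1 lc_b_rc_6_1 lc_b_Cert_tree lc_b_rc_10_2 lc_b_Cert_tree lc_b_rc_9_2 lc_b_rc_9_2 lc_b_rc_1_1 lc_b_rc_9_0 lc_b_rc_1_5 lc_b_rc_8_2 lc_b_rc_10_2 lc_b_rc_6_1 lc_b_rc_26_7 lc_b_rc_8_2 lc_b_rc_26_1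 lc_b_rc_8_2 lc_b_rc_9_2 lc_b_Cert_tree lc_b_rc_6_1 lc_b_rc_9_2 lc_b_rc_10_2 lc_b_rc_8_2 lc_b_rc_9_2 lc_b_Cert_tree lc_b_rc_9_2 lc_b_Cert_tree lc_b_rc_9_2 lc_b_rc_6_1 lc_b_Cert_tree lc_b_rc_9_2 lc_b_Cert_tree lc_b_rc_9_2 lc_b_rc_25_4 lc_b_rc_7_2 lc_b_rc_8_2 lc_b_rc_9_0 lc_b_rc_7_4 lc_b_rc_8_2 lc_b_rc_25_4 lc_b_rc_1_5 lc_b_rc_7_2 lc_b_rc_9_2 lc_b_rc_26_5 lc_b_rc_10_2 lc_b_rc_6_1 lc_b_rc_6_1 lc_b_rc_8_0 lc_b_rc_8_2 lc_b_rc_9_2 lc_b_rc_6_1 lc_b_rc_8_2 lc_b_rc_9_2 lc_b_Cert_tree lc_b_rc_26_5 lc_b_rc_8_2 lc_b_rc_9_0 lc_b_rc_6_1 lc_b_rc_8_2) (@D3.rec (fun _ => (Cert rels S Gen.b)) lc_b_rc_9_2 lc_b_rc_6_1 lc_b_rc_9_2 lc_b_rc_1_3 lc_b_rc_1_3 lc_b_Cert_tree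 lc_b_rc_7_4 lc_b_rc_9_2 lc_b_Cert_tree lc_b_rc_8_0 lc_b_rc_10_2 lc_b_rc_10_2 lc_b_rc_26_5 lc_b_rc_8_2 lc_b_rc_1_1 lc_b_rc_8_2 lc_b_rc_8_0 lc_b_rc_8_2 lc_b_rc_7_4 lc_b_rc_9_2 lc_b_Cert_tree lc_b_rc_26_5 lc_b_rc_10_2 lc_b_rc_1_3 lc_b_rc_7_4 lc_b_Cert_tree lc_b_rc_26_1 lc_b_rc_10_2 lc_b_rc_1_3 lc_b_rc_7_4 lc_b_rc_9_2 lc_b_rc_6_1 lc_b_rc_7_4 lc_b_rc_7_4 lc_b_rc_10_2 lc_b_rc_6_1 lc_b_rc_26_5 lc_b_Cert_tree lc_b_Cert_tree lc_b_rc_6_1 lc_b_rc_8_2 lc_b_rc_8_2 lc_b_rc_8_2 lc_b_rc_9_2 lc_b_rc_6_1 lc_b_rc_6_1 lc_b_rc_8_2 lc_b_rc_10_2 lc_b_rc_6_1 lc_b_rc_6_1 lc_b_rc_8_2 lc_b_rc_9_2 lc_b_rc_6_1 lc_b_rc_8_2 lc_b_rc_9_2 lc_b_Cert_tree lc_b_rc_1_5 lc_b_rc_6_1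 lc_b_rc_8_2 lc_b_Cert_tree lc_b_rc_6_1 lc_b_rc_9_2) (@D3.rec (fun _ => (Cert rels S Gen.b)) lc_b_rc_6_1 lc_b_rc_9_2 lc_b_rc_8_2 lc_b_Cert_tree lc_b_rc_9_2 lc_b_rc_6_1 lc_b_rc_8_2 lc_b_rc_6_1 lc_b_rc_8_2 lc_b_Cert_tree lc_b_rc_6_1 lc_b_rc_8_2 lc_b_rc_9_2 lc_b_rc_8_2 lc_b_rc_9_2 lc_b_rc_8_0 lc_b_rc_25_4 lc_b_rc_8_2 lc_b_rc_6_1 lc_b_rc_1_3 lc_b_rc_8_2 lc_b_rc_25_16 lc_b_rc_8_2 lc_b_rc_8_2 lc_b_rc_9_2 lc_b_rc_6_1 lc_b_rc_9_2 lc_b_rc_6_1 lc_b_rc_9_2 lc_b_rc_9_0 lc_b_rc_6_1 lc_b_rc_9_2 lc_b_rc_8_2 lc_b_rc_8_2 lc_b_rc_26_5 lc_b_rc_26_1 lc_b_rc_8_2 lc_b_rc_10_2 lc_b_rc_6_1 lc_b_rc_7_0 lc_b_rc_8_2 lc_b_rc_7_4 lc_b_rc_6_1 lc_b_rc_26_5 lc_b_rc_8_2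 lc_b_rc_9_2 lc_b_rc_6_1 lc_b_rc_8_2 lc_b_rc_1_1 lc_b_rc_10_2 lc_b_Cert_tree lc_b_Cert_tree lc_b_rc_10_2 lc_b_rc_6_1 lc_b_rc_8_2 lc_b_rc_9_2 lc_b_rc_8_2 lc_b_rc_9_2 lc_b_rc_9_2 lc_b_rc_8_2 lc_b_rc_8_2 lc_b_rc_9_2) (@D3.rec (fun _ => (Cert rels S Gen.b)) lc_b_rc_8_2 lc_b_rc_10_2 lc_b_rc_26_1 lc_b_rc_8_2 lc_b_rc_6_1 lc_b_rc_26_5 lc_b_rc_8_2 lc_b_rc_9_2 lc_b_rc_8_2 lc_b_rc_1_3 lc_b_rc_9_0 lc_b_rc_6_1 lc_b_rc_8_2 lc_b_rc_9_2 lc_b_rc_8_2 lc_b_Cert_tree lc_b_rc_8_2 lc_b_rc_10_2 lc_b_rc_6_1 lc_b_rc_7_0 lc_b_rc_9_2 lc_b_rc_9_2 lc_b_rc_9_2 lc_b_rc_7_0 lc_b_rc_6_1 lc_b_rc_8_2 lc_b_rc_10_2 lc_b_rc_7_0 lc_b_rc_8_2 lc_b_rc_6_1 lc_b_rc_8_2 lc_b_rc_10_2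 lc_b_rc_6_1 lc_b_Cert_tree lc_b_rc_10_2 lc_b_rc_9_2 lc_b_rc_9_2 lc_b_rc_6_1 lc_b_rc_26_5 lc_b_rc_8_2 lc_b_rc_10_2 lc_b_rc_7_0 lc_b_rc_8_2 lc_b_rc_26_5 lc_b_rc_1_5 lc_b_rc_8_2 lc_b_rc_10_2 lc_b_rc_10_0 lc_b_Cert_tree lc_b_rc_10_2 lc_b_rc_1_3 lc_b_rc_26_1 lc_b_Cert_tree lc_b_rc_8_2 lc_b_rc_10_2 lc_b_rc_6_1 lc_b_rc_26_5 lc_b_rc_9_2 lc_b_rc_6_1 lc_b_Cert_tree lc_b_Cert_tree lc_b_rc_8_0) (@D3.rec (fun _ => (Cert rels S Gen.b)) lc_b_rc_10_2 lc_b_rc_26_5 lc_b_rc_9_2 lc_b_rc_6_1 lc_b_rc_9_2 lc_b_rc_7_0 lc_b_rc_8_2 lc_b_rc_10_2 lc_b_rc_9_2 lc_b_rc_8_2 lc_b_rc_9_2 lc_b_rc_25_4 lc_b_rc_7_2 lc_b_rc_9_2 lc_b_rc_8_2 lc_b_rc_6_1 lc_b_rc_7_2 lc_b_rc_9_2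 lc_b_rc_6_1 lc_b_rc_9_0 lc_b_rc_26_1 lc_b_Cert_tree lc_b_rc_8_2 lc_b_Cert_tree lc_b_rc_10_2 lc_b_rc_7_0 lc_b_rc_26_1 lc_b_rc_8_2 lc_b_rc_9_2 lc_b_rc_6_1 lc_b_rc_9_2 lc_b_rc_8_2 lc_b_rc_10_2 lc_b_rc_6_1 lc_b_rc_7_0 lc_b_rc_9_2 lc_b_rc_9_2 lc_b_rc_6_1 lc_b_rc_26_5 lc_b_rc_9_2 lc_b_rc_6_1 lc_b_Cert_tree lc_b_rc_9_2 lc_b_rc_26_5 lc_b_rc_6_1 lc_b_rc_6_1 lc_b_rc_9_2 lc_b_rc_7_4 lc_b_rc_8_0 lc_b_rc_26_5 lc_b_rc_9_2 lc_b_rc_10_2 lc_b_rc_9_2 lc_b_rc_6_1 lc_b_rc_1_3 lc_b_rc_8_2 lc_b_rc_6_1 lc_b_rc_8_2 lc_b_rc_26_1 lc_b_Cert_tree lc_b_rc_10_2 lc_b_rc_1_5) (@D3.rec (fun _ => (Cert rels S Gen.b)) lc_b_rc_26_7 lc_b_rc_1_1 lc_b_rc_25_16 lc_b_rc_26_1 lc_b_rc_9_2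 lc_b_rc_6_1 lc_b_Cert_tree lc_b_rc_9_2 lc_b_Cert_tree lc_b_Cert_tree lc_b_rc_6_1 lc_b_rc_8_2 lc_b_rc_10_2 lc_b_rc_9_2 lc_b_rc_8_2 lc_b_rc_1_3 lc_b_rc_1_5 lc_b_rc_26_5 lc_b_rc_8_2 lc_b_rc_9_2 lc_b_Cert_tree lc_b_rc_9_0 lc_b_rc_26_5 lc_b_rc_8_2 lc_b_rc_9_2 lc_b_rc_26_5 lc_b_rc_6_1 lc_b_rc_6_1 lc_b_rc_6_1 lc_b_Cert_tree lc_b_rc_7_0 lc_b_rc_9_2 lc_b_rc_6_1 lc_b_rc_9_2 lc_b_rc_8_2 lc_b_Cert_tree lc_b_rc_10_2 lc_b_rc_6_1 lc_b_rc_10_2 lc_b_rc_6_1 lc_b_rc_9_2 lc_b_rc_7_0 lc_b_rc_6_1 lc_b_rc_1_3 lc_b_rc_7_0 lc_b_rc_7_0 lc_b_rc_6_1 lc_b_rc_1_5 lc_b_rc_1_3 lc_b_rc_8_2 lc_b_rc_9_2 lc_b_rc_6_1 lc_b_rc_8_2 lc_b_rc_8_2 lc_b_rc_6_1 lc_b_rc_10_0 lc_b_Cert_tree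 lc_b_rc_9_2 lc_b_rc_6_1 lc_b_rc_9_2 lc_b_rc_6_1 lc_b_rc_9_2) (@D3.rec (fun _ => (Cert rels S Gen.b)) lc_b_rc_6_1 lc_b_rc_9_2 lc_b_Cert_tree lc_b_Cert_tree lc_b_rc_9_2 lc_b_rc_1_3 lc_b_rc_6_1 lc_b_rc_1_3 lc_b_rc_8_2 lc_b_rc_9_2 lc_b_rc_10_2 lc_b_rc_26_7 lc_b_Cert_tree lc_b_rc_8_2 lc_b_rc_6_1 lc_b_rc_9_2 lc_b_rc_10_2 lc_b_rc_1_3 lc_b_rc_9_2 lc_b_rc_10_2 lc_b_rc_8_2 lc_b_rc_6_1 lc_b_rc_8_2 lc_b_rc_6_1 lc_b_rc_8_2 lc_b_rc_8_2 lc_b_rc_7_2 lc_b_rc_26_5 lc_b_rc_8_2 lc_b_rc_9_2 lc_b_rc_6_1 lc_b_rc_26_5 lc_b_rc_9_2 lc_b_rc_1_1 lc_b_rc_10_2 lc_b_rc_9_2 lc_b_Cert_tree lc_b_rc_8_2 lc_b_rc_9_2 lc_b_rc_8_2 lc_b_rc_9_2 lc_b_rc_8_2 lc_b_rc_6_1 lc_b_rc_7_0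 lc_b_rc_8_2 lc_b_rc_9_2 lc_b_rc_26_1 lc_b_rc_8_2 lc_b_rc_9_2 lc_b_rc_26_5 lc_b_rc_8_2 lc_b_Cert_tree lc_b_rc_8_2 lc_b_Cert_tree lc_b_rc_10_2 lc_b_rc_6_1 lc_b_rc_9_2 lc_b_rc_6_1 lc_b_rc_10_2 lc_b_rc_9_2 lc_b_rc_8_2 lc_b_rc_8_2) (@D3.rec (fun _ => (Cert rels S Gen.b)) lc_b_rc_8_2 lc_b_rc_6_1 lc_b_rc_1_3 lc_b_Cert_tree lc_b_rc_6_1 lc_b_rc_9_2 lc_b_rc_8_2 lc_b_rc_8_2 lc_b_rc_1_5 lc_b_rc_6_1 lc_b_rc_8_2 lc_b_rc_26_7 lc_b_rc_6_1 lc_b_rc_8_2 lc_b_rc_26_1 lc_b_rc_8_2 lc_b_rc_8_2 lc_b_rc_8_0 lc_b_rc_7_2 lc_b_rc_6_1 lc_b_rc_10_2 lc_b_rc_8_2 lc_b_rc_9_2 lc_b_rc_8_2 lc_b_rc_26_5 lc_b_rc_9_2 lc_b_rc_8_2 lc_b_rc_10_2 lc_b_rc_9_2 lc_b_rc_9_2 lc_b_rc_6_1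 lc_b_rc_6_1 lc_b_rc_8_2 lc_b_rc_10_2 lc_b_rc_6_1 lc_b_rc_8_2 lc_b_rc_9_2 lc_b_rc_26_1 lc_b_rc_26_1 lc_b_Cert_tree lc_b_rc_26_1 lc_b_Cert_tree lc_b_rc_10_2 lc_b_rc_7_0 lc_b_rc_26_5 lc_b_rc_26_1 lc_b_rc_8_2 lc_b_rc_10_2 lc_b_rc_8_0 lc_b_rc_6_1 lc_b_rc_6_1 lc_b_rc_10_2 lc_b_rc_8_2 lc_b_rc_6_1 lc_b_rc_8_2 lc_b_rc_26_5 lc_b_Cert_tree lc_b_rc_26_1 lc_b_Cert_tree lc_b_rc_9_2 lc_b_rc_9_0 lc_b_rc_10_2) (@D3.rec (fun _ => (Cert rels S Gen.b)) lc_b_rc_6_1 lc_b_rc_10_2 lc_b_rc_26_5 lc_b_rc_8_2 lc_b_rc_9_2 lc_b_rc_6_1 lc_b_rc_8_2 lc_b_rc_26_5 lc_b_Cert_tree lc_b_rc_9_2 lc_b_rc_9_2 lc_b_rc_8_2 lc_b_rc_10_2 lc_b_rc_6_1 lc_b_Cert_tree lc_b_rc_9_2 lc_b_rc_6_1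 lc_b_Cert_tree lc_b_rc_9_2 lc_b_Cert_tree lc_b_Cert_tree lc_b_rc_8_2 lc_b_rc_26_1 lc_b_rc_10_2 lc_b_rc_8_2 lc_b_rc_6_1 lc_b_Cert_tree lc_b_Cert_tree lc_b_rc_9_2 lc_b_rc_9_0 lc_b_rc_7_0 lc_b_rc_10_2 lc_b_rc_7_4 lc_b_rc_6_1 lc_b_rc_9_2 lc_b_rc_1_5 lc_b_rc_10_2 lc_b_rc_26_5 lc_b_rc_9_0 lc_b_rc_1_3 lc_b_rc_8_2 lc_b_Cert_tree lc_b_rc_8_2 lc_b_rc_9_2 lc_b_rc_8_0 lc_b_rc_8_2 lc_b_Cert_tree lc_b_rc_9_2 lc_b_rc_8_2 lc_b_rc_6_1 lc_b_rc_9_2 lc_b_rc_8_0 lc_b_Cert_tree lc_b_rc_8_2 lc_b_rc_10_2 lc_b_Cert_tree lc_b_rc_10_2 lc_b_Cert_tree lc_b_rc_9_2 lc_b_rc_6_1 lc_b_rc_9_2 lc_b_rc_6_1) (@D3.rec (fun _ => (Cert rels S Gen.b)) lc_b_rc_7_0 lc_b_rc_10_2 lc_b_rc_1_3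 lc_b_Cert_tree lc_b_rc_9_2 lc_b_rc_6_1 lc_b_rc_9_2 lc_b_rc_26_1 lc_b_rc_7_4 lc_b_rc_10_2 lc_b_rc_9_2 lc_b_rc_8_2 lc_b_Cert_tree lc_b_rc_9_2 lc_b_rc_6_1 lc_b_Cert_tree lc_b_rc_9_2 lc_b_rc_6_1 lc_b_rc_9_2 lc_b_Cert_tree lc_b_rc_9_0 lc_b_rc_10_2 lc_b_rc_6_1 lc_b_Cert_tree lc_b_rc_6_1 lc_b_rc_10_2 lc_b_Cert_tree lc_b_Cert_tree lc_b_rc_8_2 lc_b_rc_10_2 lc_b_Cert_tree lc_b_rc_8_2 lc_b_rc_8_2 lc_b_rc_8_2 lc_b_rc_26_1 lc_b_rc_8_2 lc_b_rc_8_2 lc_b_rc_26_1 lc_b_rc_9_2 lc_b_Cert_tree lc_b_rc_26_7 lc_b_Cert_tree lc_b_Cert_tree lc_b_rc_6_1 lc_b_rc_8_2 lc_b_rc_6_1 lc_b_rc_6_1 lc_b_rc_26_1 lc_b_rc_1_3 lc_b_rc_6_1 lc_b_rc_26_1 lc_b_rc_8_2 lc_b_rc_8_2 lc_b_rc_1_5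 lc_b_rc_8_2 lc_b_rc_6_1 lc_b_Cert_tree lc_b_rc_10_2 lc_b_rc_9_2 lc_b_rc_6_1 lc_b_rc_6_1 lc_b_rc_8_2) (@D3.rec (fun _ => (Cert rels S Gen.b)) lc_b_rc_1_1 lc_b_rc_6_1 lc_b_rc_8_2 lc_b_rc_10_2 lc_b_rc_6_1 lc_b_Cert_tree lc_b_rc_26_1 lc_b_rc_9_2 lc_b_rc_8_2 lc_b_rc_9_2 lc_b_rc_26_5 lc_b_rc_6_1 lc_b_rc_8_2 lc_b_rc_10_2 lc_b_rc_6_1 lc_b_rc_26_5 lc_b_rc_9_2 lc_b_rc_7_4 lc_b_rc_8_2 lc_b_rc_9_2 lc_b_Cert_tree lc_b_rc_8_0 lc_b_rc_8_0 lc_b_rc_10_2 lc_b_rc_6_1 lc_b_rc_8_2 lc_b_rc_8_2 lc_b_rc_25_4 lc_b_rc_9_2 lc_b_Cert_tree lc_b_rc_9_2 lc_b_rc_6_1 lc_b_rc_26_1 lc_b_rc_8_2 lc_b_rc_9_2 lc_b_rc_8_0 lc_b_rc_9_2 lc_b_rc_7_4 lc_b_Cert_tree lc_b_rc_6_1 lc_b_rc_8_2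 lc_b_rc_10_2 lc_b_rc_1_3 lc_b_rc_8_2 lc_b_rc_9_2 lc_b_rc_8_2 lc_b_rc_9_2 lc_b_rc_26_1 lc_b_rc_26_5 lc_b_Cert_tree lc_b_rc_9_2 lc_b_rc_10_2 lc_b_rc_10_2 lc_b_rc_6_1 lc_b_rc_10_2 lc_b_Cert_tree lc_b_rc_8_2 lc_b_rc_9_2 lc_b_rc_6_1 lc_b_rc_8_2 lc_b_rc_26_5 lc_b_Cert_tree) (@D3.rec (fun _ => (Cert rels S Gen.b)) lc_b_rc_9_2 lc_b_rc_7_0 lc_b_rc_8_2 lc_b_rc_10_2 lc_b_rc_6_1 lc_b_Cert_tree lc_b_rc_9_2 lc_b_rc_6_1 lc_b_rc_26_5 lc_b_rc_26_7 lc_b_rc_25_4 lc_b_Cert_tree lc_b_rc_6_1 lc_b_rc_8_2 lc_b_rc_10_2 lc_b_rc_10_2 lc_b_rc_8_2 lc_b_rc_8_0 lc_b_rc_8_2 lc_b_rc_9_2 lc_b_Cert_tree lc_b_Cert_tree lc_b_rc_9_2 lc_b_Cert_tree lc_b_rc_9_2 lc_b_rc_10_2 lc_b_rc_1_1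 lc_b_rc_8_2 lc_b_rc_7_4 lc_b_rc_1_3 lc_b_rc_8_2 lc_b_rc_8_2 lc_b_rc_9_2 lc_b_Cert_tree lc_b_rc_1_1 lc_b_rc_9_2 lc_b_rc_6_1 lc_b_rc_8_0 lc_b_rc_10_2 lc_b_rc_6_1 lc_b_rc_8_2 lc_b_rc_9_2 lc_b_rc_9_2 lc_b_Cert_tree lc_b_rc_25_8 lc_b_rc_8_2 lc_b_rc_10_2 lc_b_rc_8_2 lc_b_rc_9_2 lc_b_rc_9_2 lc_b_rc_7_0 lc_b_rc_25_8 lc_b_rc_10_2 lc_b_rc_6_1 lc_b_rc_8_2 lc_b_rc_10_0 lc_b_rc_6_1 lc_b_rc_8_2 lc_b_rc_9_2 lc_b_Cert_tree lc_b_rc_6_1 lc_b_rc_1_1) (@D3.rec (fun _ => (Cert rels S Gen.b)) lc_b_rc_10_2 lc_b_rc_9_2 lc_b_Cert_tree lc_b_rc_7_4 lc_b_rc_26_1 lc_b_Cert_tree lc_b_rc_7_4 lc_b_rc_9_2 lc_b_Cert_tree lc_b_Cert_tree lc_b_rc_10_2 lc_b_rc_8_0 lc_b_rc_8_2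 lc_b_rc_9_2 lc_b_rc_9_2 lc_b_rc_10_2 lc_b_rc_9_2 lc_b_rc_6_1 lc_b_rc_6_1 lc_b_rc_26_5 lc_b_rc_9_2 lc_b_rc_9_2 lc_b_rc_1_3 lc_b_rc_6_1 lc_b_rc_7_2 lc_b_rc_8_2 lc_b_rc_1_5 lc_b_rc_26_5 lc_b_rc_1_3 lc_b_rc_7_4 lc_b_rc_9_2 lc_b_rc_10_2 lc_b_Cert_tree lc_b_rc_9_0 lc_b_rc_10_2 lc_b_rc_9_2 lc_b_rc_9_2 lc_b_rc_9_2 lc_b_rc_7_2 lc_b_rc_6_1 lc_b_rc_6_1 lc_b_rc_8_2 lc_b_rc_6_1 lc_b_rc_7_0 lc_b_rc_8_2 lc_b_rc_6_1 lc_b_rc_8_2 lc_b_rc_1_3 lc_b_rc_1_3 lc_b_Cert_tree lc_b_rc_8_2 lc_b_rc_9_2 lc_b_rc_8_2 lc_b_rc_6_1 lc_b_rc_6_1 lc_b_rc_6_1 lc_b_rc_8_2 lc_b_rc_7_4 lc_b_rc_8_2 lc_b_rc_10_2 lc_b_rc_26_5 lc_b_rc_26_7) (@D3.rec (fun _ => (Cert rels S Gen.b)) lc_b_rc_6_1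 lc_b_rc_8_2 lc_b_rc_9_2 lc_b_rc_1_5 lc_b_rc_26_1 lc_b_rc_1_3 lc_b_rc_6_1 lc_b_rc_9_2 lc_b_rc_6_1 lc_b_rc_6_1 lc_b_rc_8_2 lc_b_rc_10_2 lc_b_rc_8_2 lc_b_rc_8_2 lc_b_rc_9_2 lc_b_rc_8_2 lc_b_rc_10_2 lc_b_rc_7_4 lc_b_rc_6_1 lc_b_rc_10_2 lc_b_rc_6_1 lc_b_rc_8_2 lc_b_rc_9_2 lc_b_rc_8_0 lc_b_Cert_tree lc_b_Cert_tree lc_b_rc_10_2 lc_b_rc_26_1 lc_b_rc_8_2 lc_b_rc_6_1 lc_b_Cert_tree lc_b_rc_7_4 lc_b_rc_8_2 lc_b_rc_6_1 lc_b_rc_8_2 lc_b_rc_9_2 lc_b_rc_8_2 lc_b_rc_9_2 lc_b_rc_1_5 lc_b_rc_9_2 lc_b_rc_8_2 lc_b_rc_10_2 lc_b_rc_9_2 lc_b_rc_6_1 lc_b_rc_26_1 lc_b_rc_9_2 lc_b_rc_6_1 lc_b_rc_8_2 lc_b_rc_26_5 lc_b_rc_26_5 lc_b_rc_10_2 lc_b_rc_9_2 lc_b_rc_26_5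 lc_b_rc_26_1 lc_b_rc_8_2 lc_b_rc_10_2 lc_b_rc_8_2 lc_b_rc_9_2 lc_b_rc_26_7 lc_b_rc_9_2 lc_b_rc_10_2 lc_b_Cert_tree) (@D3.rec (fun _ => (Cert rels S Gen.b)) lc_b_rc_10_2 lc_b_rc_8_2 lc_b_rc_8_2 lc_b_Cert_tree lc_b_rc_26_1 lc_b_rc_26_5 lc_b_rc_8_2 lc_b_Cert_tree lc_b_rc_9_2 lc_b_rc_26_7 lc_b_rc_10_2 lc_b_rc_6_1 lc_b_rc_9_2 lc_b_rc_6_1 lc_b_rc_9_2 lc_b_Cert_tree lc_b_Cert_tree lc_b_rc_6_1 lc_b_rc_8_2 lc_b_rc_9_2 lc_b_rc_10_2 lc_b_rc_6_1 lc_b_rc_9_2 lc_b_rc_25_0 lc_b_rc_10_2 lc_b_rc_6_1 lc_b_rc_9_2 lc_b_rc_6_1 lc_b_rc_9_2 lc_b_rc_7_4 lc_b_rc_7_0 lc_b_rc_26_5 lc_b_rc_10_2 lc_b_rc_9_2 lc_b_Cert_tree lc_b_rc_26_1 lc_b_rc_8_2 lc_b_rc_26_1 lc_b_rc_9_2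 lc_b_rc_9_2 lc_b_rc_8_2 lc_b_rc_8_2 lc_b_rc_26_5 lc_b_rc_8_2 lc_b_rc_8_0 lc_b_Cert_tree lc_b_rc_8_2 lc_b_rc_8_2 lc_b_rc_8_2 lc_b_rc_8_2 lc_b_rc_26_5 lc_b_rc_6_1 lc_b_Cert_tree lc_b_rc_1_3 lc_b_rc_8_2 lc_b_rc_10_2 lc_b_rc_8_2 lc_b_rc_1_5 lc_b_Cert_tree lc_b_rc_8_2 lc_b_rc_1_5 lc_b_rc_6_1) (@D3.rec (fun _ => (Cert rels S Gen.b)) lc_b_rc_8_2 lc_b_rc_9_2 lc_b_rc_10_2 lc_b_rc_7_2 lc_b_rc_8_2 lc_b_rc_26_5 lc_b_Cert_tree lc_b_rc_10_2 lc_b_rc_8_2 lc_b_rc_1_3 lc_b_Cert_tree lc_b_rc_9_2 lc_b_rc_26_7 lc_b_rc_8_2 lc_b_rc_9_2 lc_b_rc_7_4 lc_b_rc_9_2 lc_b_rc_6_1 lc_b_Cert_tree lc_b_rc_8_2 lc_b_rc_9_2 lc_b_rc_6_1 lc_b_Cert_tree lc_b_rc_8_2 lc_b_rc_9_2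 lc_b_Cert_tree lc_b_Cert_tree lc_b_rc_6_1 lc_b_rc_8_2 lc_b_rc_10_2 lc_b_rc_9_2 lc_b_rc_26_5 lc_b_rc_6_1 lc_b_rc_9_0 lc_b_rc_9_2 lc_b_rc_9_2 lc_b_rc_10_2 lc_b_rc_7_2 lc_b_rc_8_2 lc_b_rc_9_2 lc_b_Cert_tree lc_b_rc_10_2 lc_b_rc_26_1 lc_b_rc_10_2 lc_b_rc_9_2 lc_b_rc_6_1 lc_b_rc_9_2 lc_b_rc_25_4 lc_b_Cert_tree lc_b_rc_6_1 lc_b_rc_10_2 lc_b_rc_9_2 lc_b_Cert_tree lc_b_rc_8_2 lc_b_rc_9_0 lc_b_rc_10_2 lc_b_rc_26_5 lc_b_rc_9_2 lc_b_rc_8_2 lc_b_rc_6_1 lc_b_rc_10_2 lc_b_rc_9_2) (@D3.rec (fun _ => (Cert rels S Gen.b)) lc_b_rc_9_2 lc_b_rc_26_5 lc_b_rc_26_5 lc_b_rc_8_0 lc_b_rc_10_2 lc_b_rc_9_2 lc_b_rc_26_5 lc_b_Cert_tree lc_b_rc_10_2 lc_b_rc_9_2 lc_b_rc_26_1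 lc_b_rc_8_2 lc_b_rc_7_0 lc_b_rc_8_2 lc_b_rc_9_2 lc_b_rc_6_1 lc_b_Cert_tree lc_b_rc_8_2 lc_b_rc_10_2 lc_b_rc_7_2 lc_b_rc_6_1 lc_b_rc_6_1 lc_b_rc_6_1 lc_b_rc_6_1 lc_b_rc_9_2 lc_b_rc_9_0 lc_b_rc_26_1 lc_b_Cert_tree lc_b_rc_8_2 lc_b_Cert_tree lc_b_rc_10_2 lc_b_Cert_tree lc_b_rc_9_2 lc_b_rc_6_1 lc_b_rc_8_2 lc_b_rc_8_2 lc_b_rc_6_1 lc_b_rc_26_7 lc_b_Cert_tree lc_b_rc_8_2 lc_b_rc_9_2 lc_b_rc_8_2 lc_b_Cert_tree lc_b_rc_6_1 lc_b_rc_6_1 lc_b_Cert_tree lc_b_rc_9_2 lc_b_rc_6_1 lc_b_Cert_tree lc_b_rc_9_2 lc_b_Cert_tree lc_b_rc_7_4 lc_b_rc_6_1 lc_b_rc_7_4 lc_b_rc_10_2 lc_b_rc_25_4 lc_b_rc_1_3 lc_b_rc_6_1 lc_b_Cert_tree lc_b_rc_8_2 lc_b_rc_10_2 lc_b_rc_8_2)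 (@D3.rec (fun _ => (Cert rels S Gen.b)) lc_b_rc_8_2 lc_b_rc_8_2 lc_b_rc_1_1 lc_b_rc_10_2 lc_b_rc_8_2 lc_b_rc_6_1 lc_b_rc_7_2 lc_b_rc_9_2 lc_b_rc_26_1 lc_b_rc_26_1 lc_b_rc_8_2 lc_b_rc_10_2 lc_b_rc_6_1 lc_b_rc_9_2 lc_b_rc_1_5 lc_b_rc_10_2 lc_b_rc_1_1 lc_b_rc_1_3 lc_b_rc_9_0 lc_b_rc_8_2 lc_b_rc_9_2 lc_b_rc_6_1 lc_b_rc_8_2 lc_b_rc_6_1 lc_b_rc_8_2 lc_b_Cert_tree lc_b_rc_9_2 lc_b_Cert_tree lc_b_rc_8_2 lc_b_rc_10_2 lc_b_rc_8_2 lc_b_rc_8_2 lc_b_rc_26_5 lc_b_rc_9_2 lc_b_rc_8_2 lc_b_rc_6_1 lc_b_Cert_tree lc_b_rc_9_2 lc_b_rc_7_4 lc_b_Cert_tree lc_b_rc_6_1 lc_b_rc_8_2 lc_b_rc_10_2 lc_b_rc_9_2 lc_b_rc_26_1 lc_b_rc_8_2 lc_b_rc_8_2 lc_b_rc_26_5 lc_b_rc_1_5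 lc_b_Cert_tree lc_b_rc_9_2 lc_b_rc_25_4 lc_b_rc_8_2 lc_b_rc_6_1 lc_b_rc_25_0 lc_b_Cert_tree lc_b_rc_9_2 lc_b_Cert_tree lc_b_rc_7_4 lc_b_rc_6_1 lc_b_rc_9_2 lc_b_rc_26_1) (@D3.rec (fun _ => (Cert rels S Gen.b)) lc_b_rc_26_5 lc_b_rc_26_5 lc_b_rc_10_2 lc_b_rc_7_2 lc_b_rc_8_2 lc_b_rc_1_1 lc_b_rc_26_1 lc_b_rc_26_5 lc_b_Cert_tree lc_b_rc_9_2 lc_b_rc_6_1 lc_b_rc_10_0 lc_b_rc_26_5 lc_b_rc_26_5 lc_b_Cert_tree lc_b_rc_9_2 lc_b_rc_9_0 lc_b_rc_6_1 lc_b_rc_8_2 lc_b_rc_9_2 lc_b_rc_26_1 lc_b_rc_26_5 lc_b_rc_10_2 lc_b_rc_1_1 lc_b_Cert_tree lc_b_rc_9_2 lc_b_rc_6_1 lc_b_rc_8_2 lc_b_rc_9_2 lc_b_rc_9_2 lc_b_rc_8_2 lc_b_rc_10_2 lc_b_rc_6_1 lc_b_rc_25_8 lc_b_rc_26_1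 lc_b_rc_6_1 lc_b_rc_8_2 lc_b_rc_9_2 lc_b_rc_6_1 lc_b_Cert_tree lc_b_rc_1_1 lc_b_rc_8_2 lc_b_rc_10_2 lc_b_rc_9_2 lc_b_rc_7_2 lc_b_Cert_tree lc_b_Cert_tree lc_b_rc_6_1 lc_b_rc_9_2 lc_b_rc_1_1 lc_b_rc_9_2 lc_b_rc_10_2 lc_b_rc_9_2 lc_b_rc_7_0 lc_b_rc_9_0 lc_b_rc_8_2 lc_b_rc_9_2 lc_b_rc_8_2 lc_b_rc_9_2 lc_b_rc_6_1 lc_b_rc_26_1 lc_b_rc_8_2) (@D3.rec (fun _ => (Cert rels S Gen.b)) lc_b_rc_6_1 lc_b_rc_8_0 lc_b_rc_10_0 lc_b_rc_10_2 lc_b_rc_6_1 lc_b_rc_8_2 lc_b_rc_9_2 lc_b_rc_8_2 lc_b_rc_26_7 lc_b_Cert_tree lc_b_rc_26_5 lc_b_Cert_tree lc_b_rc_6_1 lc_b_rc_6_1 lc_b_rc_8_2 lc_b_rc_9_2 lc_b_rc_8_0 lc_b_Cert_tree lc_b_rc_6_1 lc_b_rc_10_2 lc_b_rc_9_0 lc_b_rc_7_0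 lc_b_rc_7_2 lc_b_rc_8_2 lc_b_rc_6_1 lc_b_rc_6_1 lc_b_rc_6_1 lc_b_rc_6_1 lc_b_rc_8_2 lc_b_rc_26_5 lc_b_Cert_tree lc_b_rc_26_5 lc_b_rc_9_2 lc_b_rc_10_2 lc_b_Cert_tree lc_b_rc_10_2 lc_b_Cert_tree lc_b_rc_9_2 lc_b_rc_6_1 lc_b_rc_26_5 lc_b_rc_9_2 lc_b_rc_8_2 lc_b_rc_9_2 lc_b_rc_6_1 lc_b_rc_9_2 lc_b_rc_6_1 lc_b_rc_26_5 lc_b_rc_9_0 lc_b_rc_8_2 lc_b_rc_26_5 lc_b_rc_7_0 lc_b_rc_8_2 lc_b_rc_26_5 lc_b_rc_26_1 lc_b_rc_9_2 lc_b_rc_9_0 lc_b_rc_10_2 lc_b_rc_6_1 lc_b_rc_6_1 lc_b_rc_8_2 lc_b_rc_9_2 lc_b_rc_6_1) (@D3.rec (fun _ => (Cert rels S Gen.b)) lc_b_rc_9_0 lc_b_rc_8_0 lc_b_Cert_tree lc_b_rc_10_2 lc_b_rc_8_2 lc_b_rc_8_0 lc_b_rc_7_4 lc_b_rc_9_2 lc_b_rc_10_2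 lc_b_rc_8_2 lc_b_Cert_tree lc_b_rc_9_2 lc_b_rc_7_2 lc_b_rc_9_2 lc_b_Cert_tree lc_b_rc_25_8 lc_b_rc_7_4 lc_b_rc_6_1 lc_b_rc_8_2 lc_b_rc_10_2 lc_b_rc_9_2 lc_b_rc_8_2 lc_b_rc_10_2 lc_b_rc_7_0 lc_b_rc_8_2 lc_b_rc_9_2 lc_b_rc_8_0 lc_b_rc_9_0 lc_b_rc_9_2 lc_b_rc_6_1 lc_b_rc_6_1 lc_b_rc_8_2 lc_b_rc_10_2 lc_b_rc_8_2 lc_b_rc_6_1 lc_b_rc_8_2 lc_b_rc_9_2 lc_b_rc_8_2 lc_b_rc_8_2 lc_b_rc_1_5 lc_b_rc_9_0 lc_b_rc_8_2 lc_b_rc_10_2 lc_b_rc_6_1 lc_b_rc_1_3 lc_b_rc_10_2 lc_b_rc_7_2 lc_b_Cert_tree lc_b_rc_6_1 lc_b_rc_8_2 lc_b_rc_8_0 lc_b_rc_9_2 lc_b_rc_8_2 lc_b_rc_8_2 lc_b_rc_10_2 lc_b_rc_6_1 lc_b_rc_25_8 lc_b_rc_26_5 lc_b_rc_26_5 lc_b_rc_26_5 lc_b_rc_7_0 lc_b_rc_7_0)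 (@D3.rec (fun _ => (Cert rels S Gen.b)) lc_b_rc_8_2 lc_b_rc_10_2 lc_b_rc_7_4 lc_b_rc_9_2 lc_b_rc_8_2 lc_b_rc_26_7 lc_b_rc_26_5 lc_b_rc_9_2 lc_b_rc_6_1 lc_b_rc_9_2 lc_b_rc_10_2 lc_b_Cert_tree lc_b_rc_10_2 lc_b_rc_6_1 lc_b_Cert_tree lc_b_rc_8_2 lc_b_rc_9_2 lc_b_Cert_tree lc_b_Cert_tree lc_b_rc_6_1 lc_b_rc_8_2 lc_b_rc_9_2 lc_b_rc_26_1 lc_b_Cert_tree lc_b_rc_8_2 lc_b_rc_10_2 lc_b_rc_6_1 lc_b_rc_8_2 lc_b_rc_7_4 lc_b_rc_1_5 lc_b_rc_8_2 lc_b_Cert_tree lc_b_rc_10_2 lc_b_rc_6_1 lc_b_rc_8_2 lc_b_rc_9_2 lc_b_rc_6_1 lc_b_rc_26_7 lc_b_rc_9_2 lc_b_rc_8_0 lc_b_Cert_tree lc_b_rc_1_3 lc_b_rc_8_2 lc_b_rc_10_2 lc_b_rc_1_5 lc_b_rc_9_2 lc_b_rc_8_2 lc_b_rc_9_0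 lc_b_rc_8_0 lc_b_rc_10_2 lc_b_Cert_tree lc_b_rc_8_2 lc_b_rc_8_2 lc_b_Cert_tree lc_b_rc_8_2 lc_b_Cert_tree lc_b_rc_8_0 lc_b_rc_8_2 lc_b_rc_8_2 lc_b_rc_9_2 lc_b_rc_8_0 lc_b_rc_9_2) (@D3.rec (fun _ => (Cert rels S Gen.b)) lc_b_rc_8_2 lc_b_rc_6_1 lc_b_rc_8_0 lc_b_rc_8_2 lc_b_rc_6_1 lc_b_Cert_tree lc_b_rc_9_2 lc_b_Cert_tree lc_b_rc_10_2 lc_b_rc_6_1 lc_b_rc_8_2 lc_b_rc_9_2 lc_b_rc_8_2 lc_b_rc_1_3 lc_b_rc_1_3 lc_b_rc_10_2 lc_b_rc_9_2 lc_b_rc_6_1 lc_b_rc_8_2 lc_b_rc_6_1 lc_b_rc_9_2 lc_b_rc_8_2 lc_b_rc_26_5 lc_b_rc_6_1 lc_b_rc_26_5 lc_b_Cert_tree lc_b_rc_26_1 lc_b_Cert_tree lc_b_rc_9_2 lc_b_rc_6_1 lc_b_rc_25_4 lc_b_rc_8_2 lc_b_rc_9_0 lc_b_rc_1_5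 lc_b_rc_8_2 lc_b_rc_6_1 lc_b_rc_8_2 lc_b_rc_9_2 lc_b_rc_6_1 lc_b_rc_9_2 lc_b_rc_6_1 lc_b_rc_9_2 lc_b_Cert_tree lc_b_rc_6_1 lc_b_rc_1_3 lc_b_rc_9_2 lc_b_rc_9_0 lc_b_rc_10_2 lc_b_rc_26_1 lc_b_rc_9_2 lc_b_rc_25_0 lc_b_rc_6_1 lc_b_rc_7_4 lc_b_rc_25_8 lc_b_rc_26_1 lc_b_Cert_tree lc_b_rc_8_2 lc_b_rc_6_1 lc_b_rc_26_5 lc_b_rc_1_3 lc_b_rc_1_1 lc_b_rc_6_1) (@D3.rec (fun _ => (Cert rels S Gen.b)) lc_b_rc_9_2 lc_b_rc_6_1 lc_b_Cert_tree lc_b_Cert_tree lc_b_rc_9_2 lc_b_rc_6_1 lc_b_rc_6_1 lc_b_rc_26_1 lc_b_Cert_tree lc_b_Cert_tree lc_b_rc_8_2 lc_b_rc_10_2 lc_b_rc_6_1 lc_b_rc_6_1 lc_b_rc_8_2 lc_b_rc_8_0 lc_b_Cert_tree lc_b_rc_9_2 lc_b_rc_26_5 lc_b_rc_6_1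 lc_b_rc_26_1 lc_b_rc_8_2 lc_b_Cert_tree lc_b_rc_9_2 lc_b_rc_9_2 lc_b_rc_10_2 lc_b_rc_26_5 lc_b_rc_10_2 lc_b_rc_8_2 lc_b_rc_9_2 lc_b_rc_6_1 lc_b_rc_26_5 lc_b_Cert_tree lc_b_rc_8_2 lc_b_Cert_tree lc_b_Cert_tree lc_b_rc_8_2 lc_b_rc_9_0 lc_b_Cert_tree lc_b_rc_8_2 lc_b_rc_6_1 lc_b_rc_26_5 lc_b_rc_8_2 lc_b_rc_26_5 lc_b_Cert_tree lc_b_rc_26_5 lc_b_rc_8_2 lc_b_rc_8_0 lc_b_rc_1_3 lc_b_rc_7_4 lc_b_rc_9_2 lc_b_rc_8_2 lc_b_rc_10_2 lc_b_rc_9_0 lc_b_rc_8_2 lc_b_rc_7_4 lc_b_rc_9_2 lc_b_rc_8_2 lc_b_rc_10_2 lc_b_rc_1_3 lc_b_rc_8_0 lc_b_rc_6_1) (@D3.rec (fun _ => (Cert rels S Gen.b)) lc_b_Cert_tree lc_b_rc_1_5 lc_b_rc_8_0 lc_b_rc_10_2 lc_b_rc_6_1 lc_b_Cert_tree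 lc_b_rc_6_1 lc_b_rc_8_0 lc_b_rc_26_5 lc_b_rc_1_3 lc_b_rc_26_5 lc_b_rc_7_2 lc_b_rc_9_2 lc_b_rc_9_2 lc_b_rc_6_1 lc_b_rc_9_0 lc_b_rc_6_1 lc_b_Cert_tree lc_b_rc_6_1 lc_b_rc_26_1 lc_b_rc_8_2 lc_b_rc_7_4 lc_b_rc_26_7 lc_b_rc_8_2 lc_b_Cert_tree lc_b_rc_6_1 lc_b_Cert_tree lc_b_rc_6_1 lc_b_rc_6_1 lc_b_Cert_tree lc_b_rc_7_2 lc_b_rc_9_2 lc_b_rc_8_2 lc_b_rc_6_1 lc_b_rc_7_4 lc_b_rc_10_2 lc_b_Cert_tree lc_b_Cert_tree lc_b_Cert_tree lc_b_rc_8_2 lc_b_rc_8_2 lc_b_rc_10_2 lc_b_Cert_tree lc_b_rc_6_1 lc_b_Cert_tree lc_b_rc_9_2 lc_b_rc_6_1 lc_b_rc_9_2 lc_b_rc_10_2 lc_b_Cert_tree lc_b_rc_10_2 lc_b_rc_7_2 lc_b_rc_9_2 lc_b_rc_1_3 lc_b_Cert_tree lc_b_rc_7_2 lc_b_rc_9_2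 lc_b_rc_6_1 lc_b_rc_7_4 lc_b_rc_9_2 lc_b_rc_8_0 lc_b_rc_10_2) (@D3.rec (fun _ => (Cert rels S Gen.b)) lc_b_rc_10_2 lc_b_rc_6_1 lc_b_rc_8_0 lc_b_rc_6_1 lc_b_rc_8_2 lc_b_rc_9_2 lc_b_Cert_tree lc_b_Cert_tree lc_b_rc_1_3 lc_b_rc_8_2 lc_b_rc_9_2 lc_b_rc_6_1 lc_b_rc_8_2 lc_b_rc_8_2 lc_b_rc_9_2 lc_b_Cert_tree lc_b_rc_26_5 lc_b_rc_7_4 lc_b_rc_6_1 lc_b_rc_6_1 lc_b_rc_6_1 lc_b_Cert_tree lc_b_rc_9_2 lc_b_Cert_tree lc_b_rc_1_3 lc_b_rc_8_2 lc_b_Cert_tree lc_b_rc_9_2 lc_b_rc_8_2 lc_b_rc_6_1 lc_b_rc_8_2 lc_b_rc_10_0 lc_b_rc_6_1 lc_b_rc_7_2 lc_b_rc_9_2 lc_b_rc_26_1 lc_b_rc_9_0 lc_b_rc_10_2 lc_b_rc_6_1 lc_b_rc_8_2 lc_b_rc_26_1 lc_b_Cert_tree lc_b_rc_9_2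 lc_b_rc_26_7 lc_b_rc_7_4 lc_b_rc_9_2 lc_b_rc_6_1 lc_b_rc_1_5 lc_b_rc_8_2 lc_b_rc_9_2 lc_b_Cert_tree lc_b_rc_7_0 lc_b_rc_6_1 lc_b_rc_8_2 lc_b_rc_8_0 lc_b_rc_8_2 lc_b_rc_10_2 lc_b_rc_8_2 lc_b_rc_10_2 lc_b_rc_6_1 lc_b_rc_6_1 lc_b_rc_10_0) (@D3.rec (fun _ => (Cert rels S Gen.b)) lc_b_Cert_tree lc_b_rc_26_7 lc_b_rc_26_7 lc_b_rc_9_2 lc_b_rc_6_1 lc_b_rc_9_2 lc_b_Cert_tree lc_b_rc_26_5 lc_b_rc_10_2 lc_b_rc_8_2 lc_b_Cert_tree lc_b_rc_8_2 lc_b_rc_9_2 lc_b_rc_6_1 lc_b_rc_9_2 lc_b_rc_9_0 lc_b_Cert_tree lc_b_rc_10_2 lc_b_Cert_tree lc_b_rc_26_7 lc_b_rc_1_3 lc_b_rc_9_2 lc_b_rc_10_2 lc_b_rc_6_1 lc_b_Cert_tree lc_b_rc_8_2 lc_b_rc_9_2 lc_b_rc_6_1 lc_b_rc_26_5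 lc_b_rc_9_2 lc_b_rc_9_0 lc_b_rc_7_0 lc_b_Cert_tree lc_b_rc_10_2 lc_b_rc_6_1 lc_b_rc_9_2 lc_b_rc_6_1 lc_b_rc_8_0 lc_b_rc_8_2 lc_b_rc_9_2 lc_b_rc_6_1 lc_b_rc_10_2 lc_b_rc_7_0 lc_b_rc_8_2 lc_b_rc_9_2 lc_b_rc_9_0 lc_b_rc_1_3 lc_b_rc_8_2 lc_b_rc_8_2 lc_b_rc_8_2 lc_b_rc_6_1 lc_b_rc_8_2 lc_b_rc_10_2 lc_b_Cert_tree lc_b_rc_6_1 lc_b_rc_8_2 lc_b_rc_1_3 lc_b_rc_26_5 lc_b_Cert_tree lc_b_rc_8_2 lc_b_Cert_tree lc_b_rc_9_2) (@D3.rec (fun _ => (Cert rels S Gen.b)) lc_b_rc_6_1 lc_b_rc_8_2 lc_b_rc_6_1 lc_b_rc_6_1 lc_b_rc_6_1 lc_b_rc_9_2 lc_b_rc_6_1 lc_b_rc_1_5 lc_b_Cert_tree lc_b_rc_10_2 lc_b_rc_6_1 lc_b_Cert_tree lc_b_rc_9_2 lc_b_rc_7_2 lc_b_rc_9_2 lc_b_Cert_tree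 lc_b_rc_9_2 lc_b_rc_1_1 lc_b_rc_26_7 lc_b_rc_26_5 lc_b_rc_7_0 lc_b_rc_10_2 lc_b_rc_8_2 lc_b_Cert_tree lc_b_rc_7_0 lc_b_rc_6_1 lc_b_rc_8_2 lc_b_rc_1_5 lc_b_rc_10_0 lc_b_rc_8_2 lc_b_rc_10_2 lc_b_rc_8_0 lc_b_Cert_tree lc_b_rc_10_2 lc_b_rc_6_1 lc_b_rc_26_5 lc_b_rc_8_0 lc_b_rc_9_2 lc_b_rc_8_2 lc_b_rc_7_4 lc_b_Cert_tree lc_b_rc_10_2 lc_b_rc_26_1 lc_b_rc_6_1 lc_b_rc_6_1 lc_b_rc_9_2 lc_b_rc_6_1 lc_b_Cert_tree lc_b_Cert_tree lc_b_rc_10_2 lc_b_rc_6_1 lc_b_rc_9_2 lc_b_rc_6_1 lc_b_rc_6_1 lc_b_rc_8_2 lc_b_Cert_tree lc_b_rc_8_0 lc_b_Cert_tree lc_b_rc_26_5 lc_b_Cert_tree lc_b_Cert_tree lc_b_rc_9_2) (@D3.rec (fun _ => (Cert rels S Gen.b)) lc_b_rc_8_2 lc_b_rc_6_1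 lc_b_Cert_tree lc_b_rc_9_2 lc_b_rc_6_1 lc_b_rc_10_2 lc_b_rc_6_1 lc_b_rc_9_2 lc_b_Cert_tree lc_b_Cert_tree lc_b_rc_8_2 lc_b_rc_10_2 lc_b_Cert_tree lc_b_rc_6_1 lc_b_rc_7_2 lc_b_rc_9_2 lc_b_rc_6_1 lc_b_rc_9_2 lc_b_Cert_tree lc_b_Cert_tree lc_b_rc_10_2 lc_b_rc_6_1 lc_b_rc_1_3 lc_b_rc_8_2 lc_b_rc_6_1 lc_b_rc_6_1 lc_b_rc_1_3 lc_b_rc_8_2 lc_b_rc_6_1 lc_b_rc_9_2 lc_b_rc_6_1 lc_b_Cert_tree lc_b_rc_26_5 lc_b_rc_6_1 lc_b_rc_26_1 lc_b_Cert_tree lc_b_Cert_tree lc_b_rc_1_3 lc_b_rc_9_2 lc_b_rc_8_2 lc_b_rc_7_0 lc_b_Cert_tree lc_b_rc_1_3 lc_b_rc_9_2 lc_b_rc_26_7 lc_b_rc_6_1 lc_b_rc_1_3 lc_b_rc_8_2 lc_b_rc_1_3 lc_b_rc_7_4 lc_b_rc_9_2 lc_b_rc_8_2 lc_b_Cert_tree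 lc_b_rc_26_1 lc_b_rc_6_1 lc_b_rc_10_2 lc_b_rc_7_4 lc_b_Cert_tree lc_b_rc_6_1 lc_b_rc_26_5 lc_b_rc_1_3 lc_b_rc_8_0) (@D3.rec (fun _ => (Cert rels S Gen.b)) lc_b_rc_7_2 lc_b_rc_9_2 lc_b_rc_8_2 lc_b_rc_8_2 lc_b_rc_10_2 lc_b_rc_6_1 lc_b_rc_7_2 lc_b_rc_26_5 lc_b_rc_1_3 lc_b_rc_1_3 lc_b_rc_1_5 lc_b_rc_6_1 lc_b_rc_6_1 lc_b_Cert_tree lc_b_rc_10_2 lc_b_rc_7_2 lc_b_rc_26_1 lc_b_rc_6_1 lc_b_Cert_tree lc_b_rc_26_5 lc_b_rc_6_1 lc_b_rc_9_2 lc_b_rc_8_0 lc_b_rc_8_0 lc_b_rc_10_2 lc_b_Cert_tree lc_b_Cert_tree lc_b_rc_1_3 lc_b_rc_9_2 lc_b_rc_26_5 lc_b_rc_10_2 lc_b_rc_6_1 lc_b_rc_10_0 lc_b_rc_1_5 lc_b_rc_6_1 lc_b_rc_26_7 lc_b_rc_6_1 lc_b_rc_8_0 lc_b_rc_9_2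 lc_b_rc_8_2 lc_b_rc_26_5 lc_b_rc_8_2 lc_b_rc_26_5 lc_b_rc_8_2 lc_b_rc_9_2 lc_b_Cert_tree lc_b_rc_26_1 lc_b_Cert_tree lc_b_rc_10_2 lc_b_rc_6_1 lc_b_rc_8_2 lc_b_rc_25_16 lc_b_rc_10_2 lc_b_rc_25_8 lc_b_rc_9_2 lc_b_rc_6_1 lc_b_rc_10_2 lc_b_rc_1_3 lc_b_rc_6_1 lc_b_rc_7_2 lc_b_rc_8_2 lc_b_rc_26_1) (@D3.rec (fun _ => (Cert rels S Gen.b)) lc_b_rc_8_2 lc_b_rc_26_5 lc_b_rc_9_2 lc_b_rc_6_1 lc_b_rc_8_2 lc_b_rc_9_2 lc_b_rc_8_2 lc_b_rc_8_2 lc_b_rc_6_1 lc_b_rc_6_1 lc_b_rc_10_2 lc_b_rc_7_4 lc_b_rc_8_2 lc_b_rc_8_2 lc_b_rc_8_2 lc_b_rc_6_1 lc_b_rc_6_1 lc_b_rc_9_2 lc_b_rc_26_7 lc_b_rc_10_0 lc_b_rc_8_2 lc_b_rc_8_2 lc_b_rc_9_2 lc_b_rc_8_2 lc_b_rc_6_1 lc_b_rc_10_2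 lc_b_Cert_tree lc_b_rc_6_1 lc_b_rc_6_1 lc_b_rc_6_1 lc_b_rc_6_1 lc_b_rc_6_1 lc_b_rc_8_2 lc_b_rc_6_1 lc_b_rc_10_0 lc_b_Cert_tree lc_b_rc_9_2 lc_b_rc_25_12 lc_b_rc_9_0 lc_b_rc_7_0 lc_b_Cert_tree lc_b_rc_7_2 lc_b_rc_8_2 lc_b_rc_9_2 lc_b_rc_8_2 lc_b_rc_6_1 lc_b_rc_8_0 lc_b_rc_26_5 lc_b_rc_7_0 lc_b_rc_8_2 lc_b_Cert_tree lc_b_rc_8_0 lc_b_rc_6_1 lc_b_Cert_tree lc_b_rc_9_2 lc_b_Cert_tree lc_b_rc_8_2 lc_b_rc_7_0 lc_b_rc_6_1 lc_b_rc_8_2 lc_b_rc_10_2 lc_b_rc_9_2) (@D3.rec (fun _ => (Cert rels S Gen.b)) lc_b_rc_6_1 lc_b_rc_8_2 lc_b_rc_8_2 lc_b_rc_6_1 lc_b_rc_6_1 lc_b_rc_26_7 lc_b_rc_10_2 lc_b_rc_6_1 lc_b_rc_6_1 lc_b_rc_26_7 lc_b_rc_9_2 lc_b_rc_1_5 lc_b_rc_6_1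 lc_b_rc_9_2 lc_b_Cert_tree lc_b_rc_8_2 lc_b_rc_1_5 lc_b_rc_6_1 lc_b_rc_8_2 lc_b_rc_9_2 lc_b_rc_9_0 lc_b_rc_6_1 lc_b_rc_26_1 lc_b_rc_9_2 lc_b_rc_8_2 lc_b_rc_8_0 lc_b_rc_8_2 lc_b_rc_6_1 lc_b_rc_9_2 lc_b_rc_26_5 lc_b_rc_9_0 lc_b_rc_8_2 lc_b_rc_10_2 lc_b_rc_8_2 lc_b_rc_26_7 lc_b_rc_9_2 lc_b_rc_26_5 lc_b_rc_6_1 lc_b_rc_9_2 lc_b_Cert_tree lc_b_rc_7_0 lc_b_rc_10_2 lc_b_rc_1_3 lc_b_rc_26_7 lc_b_rc_9_2 lc_b_rc_6_1 lc_b_rc_7_4 lc_b_rc_26_1 lc_b_Cert_tree lc_b_rc_8_2 lc_b_rc_9_2 lc_b_rc_6_1 lc_b_rc_7_0 lc_b_rc_6_1 lc_b_rc_26_5 lc_b_rc_8_2 lc_b_rc_10_2 lc_b_rc_9_2 lc_b_rc_9_0 lc_b_rc_8_0 lc_b_rc_6_1 lc_b_rc_6_1) (@D3.rec (fun _ => (Cert rels S Gen.b))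 lc_b_rc_1_3 lc_b_rc_9_2 lc_b_rc_7_4 lc_b_rc_6_1 lc_b_Cert_tree lc_b_rc_6_1 lc_b_Cert_tree lc_b_rc_8_2 lc_b_rc_9_2 lc_b_rc_6_1 lc_b_rc_9_2 lc_b_rc_7_4 lc_b_Cert_tree lc_b_rc_9_2 lc_b_rc_6_1 lc_b_rc_6_1 lc_b_rc_26_5 lc_b_Cert_tree lc_b_rc_1_3 lc_b_rc_8_2 lc_b_rc_1_1 lc_b_rc_8_2 lc_b_Cert_tree lc_b_rc_9_2 lc_b_rc_6_1 lc_b_rc_9_0 lc_b_rc_10_2 lc_b_rc_8_2 lc_b_rc_9_2 lc_b_rc_9_0 lc_b_rc_8_0 lc_b_Cert_tree lc_b_rc_9_2 lc_b_Cert_tree lc_b_rc_8_2 lc_b_rc_10_2 lc_b_rc_6_1 lc_b_rc_26_5 lc_b_rc_26_7 lc_b_rc_6_1 lc_b_rc_8_2 lc_b_rc_6_1 lc_b_rc_6_1 lc_b_rc_9_2 lc_b_rc_8_2 lc_b_rc_9_2 lc_b_Cert_tree lc_b_rc_1_5 lc_b_rc_10_2 lc_b_Cert_tree lc_b_rc_8_2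 lc_b_rc_9_2 lc_b_rc_10_2 lc_b_rc_26_5 lc_b_rc_26_5 lc_b_rc_8_2 lc_b_rc_10_2 lc_b_rc_6_1 lc_b_rc_26_5 lc_b_rc_8_2 lc_b_rc_26_5 lc_b_rc_8_2) (@D3.rec (fun _ => (Cert rels S Gen.b)) lc_b_rc_9_2 lc_b_rc_26_5 lc_b_rc_10_2 lc_b_Cert_tree lc_b_rc_10_2 lc_b_rc_6_1 lc_b_Cert_tree lc_b_rc_8_2 lc_b_rc_6_1 lc_b_rc_10_0 lc_b_rc_1_3 lc_b_rc_8_2 lc_b_rc_10_2 lc_b_Cert_tree lc_b_rc_26_7 lc_b_rc_6_1 lc_b_rc_6_1 lc_b_rc_7_4 lc_b_rc_9_2 lc_b_rc_7_4 lc_b_rc_6_1 lc_b_rc_10_2 lc_b_rc_9_2 lc_b_rc_26_7 lc_b_rc_9_2 lc_b_rc_26_7 lc_b_rc_9_2 lc_b_rc_6_1 lc_b_rc_6_1 lc_b_rc_6_1 lc_b_rc_10_2 lc_b_rc_9_2 lc_b_rc_8_2 lc_b_rc_6_1 lc_b_rc_8_2 lc_b_rc_8_2 lc_b_rc_8_2 lc_b_Cert_tree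 lc_b_rc_6_1 lc_b_Cert_tree lc_b_rc_6_1 lc_b_rc_9_2 lc_b_rc_6_1 lc_b_rc_9_2 lc_b_rc_8_2 lc_b_rc_26_1 lc_b_rc_9_0 lc_b_rc_10_2 lc_b_rc_8_2 lc_b_rc_6_1 lc_b_rc_26_5 lc_b_rc_26_5 lc_b_rc_10_2 lc_b_rc_9_2 lc_b_rc_6_1 lc_b_rc_26_1 lc_b_rc_6_1 lc_b_rc_8_2 lc_b_rc_9_2 lc_b_rc_6_1 lc_b_rc_9_2 lc_b_rc_6_1) (@D3.rec (fun _ => (Cert rels S Gen.b)) lc_b_rc_7_2 lc_b_rc_9_2 lc_b_rc_9_2 lc_b_Cert_tree lc_b_rc_8_2 lc_b_rc_10_2 lc_b_rc_6_1 lc_b_rc_8_2 lc_b_rc_1_5 lc_b_rc_6_1 lc_b_rc_8_2 lc_b_rc_9_2 lc_b_rc_9_0 lc_b_Cert_tree lc_b_Cert_tree lc_b_rc_10_2 lc_b_rc_1_5 lc_b_rc_1_3 lc_b_rc_8_2 lc_b_rc_9_2 lc_b_rc_6_1 lc_b_rc_6_1 lc_b_rc_26_1 lc_b_rc_8_0 lc_b_rc_9_0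 lc_b_rc_26_5 lc_b_rc_7_2 lc_b_rc_26_5 lc_b_rc_26_7 lc_b_Cert_tree lc_b_rc_8_2 lc_b_rc_9_2 lc_b_rc_6_1 lc_b_rc_26_1 lc_b_rc_7_4 lc_b_rc_9_2 lc_b_rc_9_2 lc_b_rc_8_2 lc_b_rc_10_2 lc_b_rc_6_1 lc_b_rc_1_3 lc_b_rc_10_2 lc_b_rc_7_4 lc_b_Cert_tree lc_b_Cert_tree lc_b_rc_6_1 lc_b_rc_8_2 lc_b_rc_10_2 lc_b_rc_9_2 lc_b_rc_6_1 lc_b_rc_6_1 lc_b_rc_9_2 lc_b_Cert_tree lc_b_Cert_tree lc_b_rc_1_5 lc_b_Cert_tree lc_b_rc_8_2 lc_b_rc_8_2 lc_b_rc_1_3 lc_b_rc_7_2 lc_b_Cert_tree lc_b_rc_9_2) (@D3.rec (fun _ => (Cert rels S Gen.b)) lc_b_Cert_tree lc_b_rc_6_1 lc_b_rc_6_1 lc_b_rc_7_4 lc_b_rc_26_5 lc_b_Cert_tree lc_b_rc_10_2 lc_b_rc_9_2 lc_b_Cert_tree lc_b_rc_26_1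 lc_b_Cert_tree lc_b_rc_26_5 lc_b_rc_9_2 lc_b_rc_9_2 lc_b_rc_6_1 lc_b_rc_1_3 lc_b_rc_6_1 lc_b_rc_1_5 lc_b_rc_1_5 lc_b_rc_1_3 lc_b_rc_8_2 lc_b_rc_10_2 lc_b_rc_9_2 lc_b_rc_8_2 lc_b_Cert_tree lc_b_rc_9_0 lc_b_rc_26_7 lc_b_rc_8_2 lc_b_Cert_tree lc_b_rc_9_2 lc_b_rc_8_2 lc_b_rc_6_1 lc_b_Cert_tree lc_b_Cert_tree lc_b_rc_26_5 lc_b_rc_6_1 lc_b_Cert_tree lc_b_rc_9_2 lc_b_rc_6_1 lc_b_Cert_tree lc_b_rc_6_1 lc_b_rc_6_1 lc_b_rc_9_2 lc_b_Cert_tree lc_b_rc_26_1 lc_b_rc_10_2 lc_b_rc_6_1 lc_b_rc_8_0 lc_b_rc_25_8 lc_b_rc_9_2 lc_b_rc_1_3 lc_b_rc_8_2 lc_b_rc_6_1 lc_b_rc_9_2 lc_b_rc_26_1 lc_b_Cert_tree lc_b_rc_8_2 lc_b_rc_10_2 lc_b_rc_6_1 lc_b_rc_10_0 lc_b_Cert_tree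 lc_b_rc_1_3) (@D3.rec (fun _ => (Cert rels S Gen.b)) lc_b_rc_8_2 lc_b_rc_9_2 lc_b_rc_1_3 lc_b_rc_8_2 lc_b_rc_9_2 lc_b_rc_9_2 lc_b_rc_6_1 lc_b_Cert_tree lc_b_rc_10_2 lc_b_Cert_tree lc_b_rc_6_1 lc_b_rc_1_3 lc_b_rc_9_2 lc_b_rc_6_1 lc_b_rc_9_2 lc_b_Cert_tree lc_b_Cert_tree lc_b_rc_10_2 lc_b_rc_6_1 lc_b_rc_6_1 lc_b_rc_9_2 lc_b_Cert_tree lc_b_Cert_tree lc_b_rc_6_1 lc_b_rc_7_2 lc_b_Cert_tree lc_b_Cert_tree lc_b_rc_10_2 lc_b_rc_6_1 lc_b_rc_8_2 lc_b_Cert_tree lc_b_rc_6_1 lc_b_rc_8_2 lc_b_rc_26_7 lc_b_rc_10_2 lc_b_rc_9_2 lc_b_rc_8_2 lc_b_rc_7_0 lc_b_rc_8_2 lc_b_rc_7_2 lc_b_rc_9_2 lc_b_rc_9_2 lc_b_rc_6_1 lc_b_rc_9_2 lc_b_rc_9_2 lc_b_rc_8_2 lc_b_rc_26_1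 lc_b_rc_6_1 lc_b_rc_9_2 lc_b_rc_6_1 lc_b_rc_8_2 lc_b_rc_9_2 lc_b_rc_10_2 lc_b_Cert_tree lc_b_rc_9_2 lc_b_rc_9_2 lc_b_rc_6_1 lc_b_rc_1_3 lc_b_rc_9_2 lc_b_rc_6_1 lc_b_rc_8_2 lc_b_Cert_tree) (@D3.rec (fun _ => (Cert rels S Gen.b)) lc_b_rc_9_2 lc_b_rc_9_2 lc_b_rc_26_1 lc_b_rc_10_2 lc_b_rc_8_2 lc_b_rc_6_1 lc_b_Cert_tree lc_b_rc_9_2 lc_b_rc_26_5 lc_b_rc_1_5 lc_b_rc_6_1 lc_b_rc_7_4 lc_b_Cert_tree lc_b_rc_9_0 lc_b_rc_9_2 lc_b_Cert_tree lc_b_rc_6_1 lc_b_rc_26_5 lc_b_Cert_tree lc_b_rc_1_3 lc_b_rc_8_2 lc_b_rc_9_2 lc_b_rc_6_1 lc_b_rc_1_3 lc_b_rc_8_2 lc_b_rc_6_1 lc_b_rc_9_2 lc_b_Cert_tree lc_b_Cert_tree lc_b_rc_8_2 lc_b_rc_6_1 lc_b_rc_9_0 lc_b_rc_9_2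 lc_b_rc_6_1 lc_b_rc_8_2 lc_b_rc_9_2 lc_b_Cert_tree lc_b_rc_8_2 lc_b_rc_6_1 lc_b_rc_10_0 lc_b_rc_9_2 lc_b_rc_9_0 lc_b_rc_9_2 lc_b_rc_6_1 lc_b_rc_26_7 lc_b_Cert_tree lc_b_rc_6_1 lc_b_rc_8_2 lc_b_rc_6_1 lc_b_Cert_tree lc_b_rc_10_2 lc_b_Cert_tree lc_b_rc_9_2 lc_b_rc_8_2 lc_b_rc_6_1 lc_b_rc_6_1 lc_b_rc_9_2 lc_b_rc_1_3 lc_b_rc_6_1 lc_b_Cert_tree lc_b_Cert_tree lc_b_rc_9_2) (@D3.rec (fun _ => (Cert rels S Gen.b)) lc_b_rc_6_1 lc_b_rc_9_2 lc_b_rc_6_1 lc_b_rc_6_1 lc_b_rc_10_2 lc_b_rc_26_5 lc_b_rc_6_1 lc_b_Cert_tree lc_b_rc_25_4 lc_b_rc_6_1 lc_b_rc_6_1 lc_b_rc_8_2 lc_b_rc_8_2 lc_b_rc_9_2 lc_b_rc_1_3 lc_b_rc_6_1 lc_b_rc_6_1 lc_b_Cert_tree lc_b_rc_9_2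 lc_b_rc_6_1 lc_b_rc_9_2 lc_b_rc_26_1 lc_b_rc_6_1 lc_b_rc_8_0 lc_b_rc_6_1 lc_b_rc_25_4 lc_b_rc_9_2 lc_b_rc_6_1 lc_b_Cert_tree lc_b_rc_9_2 lc_b_rc_1_5 lc_b_rc_6_1 lc_b_rc_1_3 lc_b_rc_6_1 lc_b_Cert_tree lc_b_rc_10_2 lc_b_rc_1_3 lc_b_Cert_tree lc_b_rc_9_2 lc_b_rc_6_1 lc_b_rc_9_2 lc_b_rc_8_2 lc_b_rc_8_2 lc_b_rc_26_5 lc_b_rc_8_2 lc_b_Cert_tree lc_b_rc_9_2 lc_b_rc_6_1 lc_b_rc_9_0 lc_b_Cert_tree lc_b_rc_10_2 lc_b_rc_6_1 lc_b_rc_9_2 lc_b_rc_6_1 lc_b_rc_8_0 lc_b_rc_1_1 lc_b_rc_10_2 lc_b_rc_8_2 lc_b_rc_6_1 lc_b_rc_26_1 lc_b_rc_6_1 lc_b_rc_9_2) (@D3.rec (fun _ => (Cert rels S Gen.b)) lc_b_rc_6_1 lc_b_rc_1_3 lc_b_rc_8_2 lc_b_rc_1_3 lc_b_Cert_tree lc_b_rc_1_3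 lc_b_rc_8_2 lc_b_rc_9_2 lc_b_Cert_tree lc_b_rc_1_3 lc_b_rc_6_1 lc_b_rc_1_3 lc_b_Cert_tree lc_b_Cert_tree lc_b_rc_6_1 lc_b_rc_7_2 lc_b_rc_9_2 lc_b_rc_8_2 lc_b_rc_9_2 lc_b_rc_1_3 lc_b_rc_8_2 lc_b_rc_9_2 lc_b_rc_8_2 lc_b_rc_8_2 lc_b_rc_8_2 lc_b_Cert_tree lc_b_rc_6_1 lc_b_rc_9_2 lc_b_rc_6_1 lc_b_rc_6_1 lc_b_rc_8_0 lc_b_rc_6_1 lc_b_rc_26_5 lc_b_rc_8_2 lc_b_rc_25_4 lc_b_rc_9_2 lc_b_Cert_tree lc_b_Cert_tree lc_b_rc_6_1 lc_b_rc_26_5 lc_b_rc_9_2 lc_b_rc_8_2 lc_b_rc_8_2 lc_b_Cert_tree lc_b_rc_1_3 lc_b_Cert_tree lc_b_rc_9_2 lc_b_rc_6_1 lc_b_rc_9_2 lc_b_rc_10_2 lc_b_rc_8_0 lc_b_rc_10_2 lc_b_rc_6_1 lc_b_rc_7_4 lc_b_rc_6_1 lc_b_rc_9_2 lc_b_rc_8_0 lc_b_rc_10_0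 lc_b_Cert_tree lc_b_rc_10_2 lc_b_rc_8_2 lc_b_Cert_tree) (@D3.rec (fun _ => (Cert rels S Gen.b)) lc_b_rc_9_2 lc_b_rc_6_1 lc_b_rc_7_2 lc_b_rc_6_1 lc_b_rc_8_2 lc_b_rc_8_2 lc_b_rc_1_3 lc_b_rc_7_2 lc_b_rc_9_2 lc_b_rc_6_1 lc_b_rc_9_2 lc_b_rc_6_1 lc_b_rc_10_2 lc_b_rc_6_1 lc_b_Cert_tree lc_b_rc_7_0 lc_b_rc_8_2 lc_b_rc_9_2 lc_b_rc_9_2 lc_b_rc_8_2 lc_b_rc_6_1 lc_b_Cert_tree lc_b_rc_6_1 lc_b_rc_8_0 lc_b_rc_6_1 lc_b_Cert_tree lc_b_rc_8_2 lc_b_rc_8_0 lc_b_Cert_tree lc_b_Cert_tree lc_b_rc_7_2 lc_b_rc_9_0 lc_b_rc_6_1 lc_b_rc_1_3 lc_b_rc_26_5 lc_b_rc_1_1 lc_b_rc_6_1 lc_b_rc_7_2 lc_b_rc_9_2 lc_b_Cert_tree lc_b_rc_7_4 lc_b_rc_7_4 lc_b_rc_9_2 lc_b_rc_9_2 lc_b_rc_10_2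 lc_b_rc_26_5 lc_b_rc_1_5 lc_b_rc_7_2 lc_b_rc_1_3 lc_b_rc_6_1 lc_b_rc_9_2 lc_b_Cert_tree lc_b_rc_9_2 lc_b_rc_9_2 lc_b_Cert_tree lc_b_rc_8_2 lc_b_rc_8_0 lc_b_rc_9_2 lc_b_rc_9_2 lc_b_rc_10_2 lc_b_Cert_tree lc_b_rc_7_2) (@D3.rec (fun _ => (Cert rels S Gen.b)) lc_b_rc_1_3 lc_b_rc_8_2 lc_b_rc_9_2 lc_b_rc_6_1 lc_b_rc_7_4 lc_b_rc_1_3 lc_b_rc_8_0 lc_b_rc_10_2 lc_b_rc_6_1 lc_b_Cert_tree lc_b_rc_1_3 lc_b_rc_9_2 lc_b_rc_6_1 lc_b_rc_6_1 lc_b_rc_8_0 lc_b_Cert_tree lc_b_rc_26_5 lc_b_Cert_tree lc_b_rc_26_1 lc_b_rc_1_3 lc_b_rc_9_2 lc_b_rc_8_2 lc_b_rc_10_2 lc_b_rc_8_2 lc_b_rc_1_1 lc_b_rc_10_2 lc_b_rc_9_2 lc_b_rc_26_1 lc_b_Cert_tree lc_b_rc_6_1 lc_b_rc_9_2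 lc_b_rc_8_2 lc_b_rc_6_1 lc_b_rc_7_4 lc_b_rc_6_1 lc_b_rc_1_1 lc_b_rc_1_3 lc_b_rc_9_2 lc_b_rc_9_2 lc_b_rc_25_12 lc_b_rc_6_1 lc_b_rc_9_0 lc_b_rc_8_2 lc_b_rc_8_2 lc_b_rc_9_2 lc_b_rc_9_2 lc_b_rc_8_2 lc_b_rc_9_2 lc_b_rc_1_3 lc_b_Cert_tree lc_b_rc_6_1 lc_b_Cert_tree lc_b_rc_9_2 lc_b_rc_10_2 lc_b_rc_6_1 lc_b_rc_26_5 lc_b_rc_7_0 lc_b_rc_8_2 lc_b_Cert_tree lc_b_Cert_tree lc_b_rc_9_2 lc_b_rc_9_2) (@D3.rec (fun _ => (Cert rels S Gen.b)) lc_b_Cert_tree lc_b_Cert_tree lc_b_rc_7_4 lc_b_rc_8_2 lc_b_rc_6_1 lc_b_rc_8_2 lc_b_rc_8_2 lc_b_rc_8_2 lc_b_rc_8_2 lc_b_rc_8_0 lc_b_rc_9_2 lc_b_rc_26_7 lc_b_rc_8_0 lc_b_rc_10_2 lc_b_Cert_tree lc_b_rc_1_3 lc_b_rc_1_3 lc_b_rc_9_2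 lc_b_rc_26_5 lc_b_rc_26_7 lc_b_rc_9_2 lc_b_rc_1_3 lc_b_rc_7_4 lc_b_rc_9_2 lc_b_rc_9_2 lc_b_Cert_tree lc_b_rc_8_2 lc_b_rc_9_2 lc_b_Cert_tree lc_b_rc_7_4 lc_b_rc_26_7 lc_b_Cert_tree lc_b_rc_9_2 lc_b_rc_7_4 lc_b_rc_9_2 lc_b_rc_8_0 lc_b_rc_8_0 lc_b_rc_10_2 lc_b_rc_26_5 lc_b_rc_26_5 lc_b_rc_10_2 lc_b_Cert_tree lc_b_rc_25_8 lc_b_rc_9_2 lc_b_Cert_tree lc_b_rc_9_2 lc_b_rc_6_1 lc_b_rc_26_7 lc_b_rc_8_2 lc_b_rc_7_2 lc_b_rc_1_3 lc_b_rc_6_1 lc_b_rc_8_2 lc_b_rc_9_2 lc_b_rc_6_1 lc_b_rc_6_1 lc_b_rc_26_5 lc_b_rc_10_2 lc_b_rc_9_2 lc_b_rc_8_2 lc_b_rc_7_2 lc_b_rc_9_2) (@D3.rec (fun _ => (Cert rels S Gen.b)) lc_b_rc_26_1 lc_b_rc_8_2 lc_b_rc_10_2 lc_b_rc_6_1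 lc_b_rc_9_2 lc_b_rc_7_0 lc_b_rc_9_0 lc_b_rc_10_2 lc_b_rc_8_2 lc_b_Cert_tree lc_b_rc_1_3 lc_b_rc_9_2 lc_b_Cert_tree lc_b_Cert_tree lc_b_rc_8_2 lc_b_rc_10_2 lc_b_rc_6_1 lc_b_Cert_tree lc_b_rc_10_2 lc_b_rc_6_1 lc_b_rc_6_1 lc_b_Cert_tree lc_b_rc_9_2 lc_b_rc_8_2 lc_b_rc_26_7 lc_b_rc_8_2 lc_b_rc_9_2 lc_b_rc_26_5 lc_b_rc_9_2 lc_b_rc_8_2 lc_b_rc_9_2 lc_b_rc_6_1 lc_b_rc_8_2 lc_b_rc_9_2 lc_b_rc_8_2 lc_b_rc_8_2 lc_b_rc_1_5 lc_b_rc_9_2 lc_b_rc_1_5 lc_b_rc_10_2 lc_b_rc_8_2 lc_b_rc_8_2 lc_b_rc_9_2 lc_b_rc_9_2 lc_b_rc_25_4 lc_b_Cert_tree lc_b_rc_26_5 lc_b_rc_10_2 lc_b_rc_7_0 lc_b_rc_9_2 lc_b_rc_8_2 lc_b_rc_9_2 lc_b_rc_25_0 lc_b_Cert_tree lc_b_rc_6_1 lc_b_rc_6_1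 lc_b_rc_9_2 lc_b_rc_10_2 lc_b_rc_7_2 lc_b_rc_7_2 lc_b_rc_9_2 lc_b_rc_9_2)
def ce_b_15 : D2 → D3 → (Cert rels S Gen.b) := @D2.rec (fun _ => D3 → (Cert rels S Gen.b)) (@D3.rec (fun _ => (Cert rels S Gen.b)) lc_b_rc_7_2 lc_b_Cert_tree lc_b_rc_6_1 lc_b_rc_10_2 lc_b_rc_9_2 lc_b_rc_9_2 lc_b_rc_1_1 lc_b_rc_1_3 lc_b_rc_9_2 lc_b_rc_9_0 lc_b_rc_10_2 lc_b_rc_8_2 lc_b_rc_10_2 lc_b_rc_6_1 lc_b_rc_8_2 lc_b_rc_9_2 lc_b_rc_6_1 lc_b_rc_10_2 lc_b_rc_6_1 lc_b_rc_9_2 lc_b_rc_10_2 lc_b_rc_9_2 lc_b_rc_8_2 lc_b_rc_9_2 lc_b_rc_8_2 lc_b_rc_26_7 lc_b_Cert_tree lc_b_rc_9_2 lc_b_rc_8_0 lc_b_rc_10_2 lc_b_rc_9_2 lc_b_rc_8_2 lc_b_rc_9_2 lc_b_Cert_tree lc_b_rc_8_2 lc_b_rc_6_1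 lc_b_rc_8_2 lc_b_rc_9_2 lc_b_rc_6_1 lc_b_rc_8_2 lc_b_rc_9_2 lc_b_rc_26_1 lc_b_Cert_tree lc_b_rc_1_3 lc_b_rc_8_2 lc_b_Cert_tree lc_b_rc_7_4 lc_b_rc_9_2 lc_b_Cert_tree lc_b_rc_1_1 lc_b_rc_1_3 lc_b_rc_8_2 lc_b_Cert_tree lc_b_rc_9_2 lc_b_rc_6_1 lc_b_rc_8_2 lc_b_rc_9_2 lc_b_rc_6_1 lc_b_rc_7_4 lc_b_rc_9_2 lc_b_rc_6_1 lc_b_rc_8_2) (@D3.rec (fun _ => (Cert rels S Gen.b)) lc_b_rc_9_2 lc_b_rc_9_2 lc_b_rc_10_2 lc_b_rc_8_2 lc_b_rc_9_2 lc_b_rc_26_5 lc_b_rc_10_2 lc_b_rc_7_4 lc_b_Cert_tree lc_b_rc_1_3 lc_b_rc_8_2 lc_b_rc_10_2 lc_b_rc_9_2 lc_b_rc_9_2 lc_b_rc_6_1 lc_b_rc_9_2 lc_b_rc_10_2 lc_b_rc_6_1 lc_b_rc_9_2 lc_b_rc_26_5 lc_b_rc_10_2 lc_b_rc_6_1 lc_b_rc_8_2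 lc_b_rc_9_2 lc_b_rc_26_5 lc_b_rc_26_5 lc_b_rc_10_2 lc_b_rc_6_1 lc_b_rc_8_2 lc_b_rc_9_2 lc_b_rc_6_1 lc_b_rc_8_2 lc_b_rc_9_2 lc_b_Cert_tree lc_b_Cert_tree lc_b_rc_1_3 lc_b_rc_8_2 lc_b_rc_9_2 lc_b_Cert_tree lc_b_rc_7_4 lc_b_rc_6_1 lc_b_rc_7_2 lc_b_rc_8_2 lc_b_rc_10_2 lc_b_Cert_tree lc_b_rc_6_1 lc_b_rc_9_2 lc_b_rc_10_2 lc_b_rc_8_2 lc_b_rc_6_1 lc_b_rc_9_2 lc_b_rc_10_2 lc_b_rc_6_1 lc_b_rc_26_5 lc_b_rc_8_0 lc_b_rc_8_2 lc_b_rc_9_2 lc_b_rc_9_2 lc_b_rc_9_0 lc_b_rc_7_4 lc_b_rc_8_2 lc_b_rc_10_2) (@D3.rec (fun _ => (Cert rels S Gen.b)) lc_b_Cert_tree lc_b_rc_10_2 lc_b_rc_6_1 lc_b_rc_9_2 lc_b_Cert_tree lc_b_Cert_tree lc_b_rc_1_3 lc_b_rc_8_2 lc_b_rc_9_2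 lc_b_rc_8_0 lc_b_rc_9_2 lc_b_Cert_tree lc_b_rc_7_2 lc_b_rc_10_2 lc_b_rc_25_16 lc_b_rc_8_2 lc_b_rc_7_4 lc_b_rc_9_2 lc_b_rc_10_2 lc_b_Cert_tree lc_b_rc_6_1 lc_b_rc_8_2 lc_b_rc_8_2 lc_b_rc_9_2 lc_b_rc_9_2 lc_b_Cert_tree lc_b_Cert_tree lc_b_rc_8_2 lc_b_rc_10_2 lc_b_rc_7_4 lc_b_rc_8_2 lc_b_Cert_tree lc_b_rc_26_5 lc_b_rc_6_1 lc_b_rc_26_7 lc_b_rc_1_3 lc_b_rc_8_2 lc_b_rc_9_2 lc_b_rc_9_2 lc_b_rc_8_2 lc_b_rc_8_0 lc_b_Cert_tree lc_b_Cert_tree lc_b_rc_1_3 lc_b_rc_8_2 lc_b_rc_9_2 lc_b_rc_9_2 lc_b_rc_8_2 lc_b_rc_10_2 lc_b_rc_6_1 lc_b_rc_7_0 lc_b_rc_9_2 lc_b_rc_6_1 lc_b_rc_6_1 lc_b_rc_10_0 lc_b_rc_8_2 lc_b_rc_7_0 lc_b_rc_10_2 lc_b_Cert_tree lc_b_rc_6_1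 lc_b_rc_9_2 lc_b_rc_6_1) (@D3.rec (fun _ => (Cert rels S Gen.b)) lc_b_rc_9_2 lc_b_rc_6_1 lc_b_rc_9_2 lc_b_rc_7_4 lc_b_rc_6_1 lc_b_rc_10_2 lc_b_rc_9_2 lc_b_Cert_tree lc_b_Cert_tree lc_b_rc_8_2 lc_b_rc_6_1 lc_b_Cert_tree lc_b_rc_9_2 lc_b_rc_8_0 lc_b_rc_9_2 lc_b_rc_1_3 lc_b_Cert_tree lc_b_rc_8_2 lc_b_rc_10_2 lc_b_rc_6_1 lc_b_Cert_tree lc_b_rc_6_1 lc_b_rc_6_1 lc_b_Cert_tree lc_b_rc_9_2 lc_b_rc_8_2 lc_b_rc_7_2 lc_b_rc_8_2 lc_b_rc_9_2 lc_b_rc_6_1 lc_b_rc_8_2 lc_b_rc_9_2 lc_b_rc_25_12 lc_b_rc_9_2 lc_b_rc_8_2 lc_b_rc_8_2 lc_b_rc_9_2 lc_b_rc_6_1 lc_b_rc_8_2 lc_b_rc_9_2 lc_b_Cert_tree lc_b_rc_6_1 lc_b_rc_9_0 lc_b_rc_6_1 lc_b_rc_8_2 lc_b_rc_9_2 lc_b_rc_7_4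 lc_b_rc_26_5 lc_b_rc_26_5 lc_b_rc_26_5 lc_b_rc_9_2 lc_b_rc_7_2 lc_b_rc_6_1 lc_b_rc_8_2 lc_b_Cert_tree lc_b_rc_9_2 lc_b_rc_26_5 lc_b_rc_26_5 lc_b_rc_1_1 lc_b_rc_10_2 lc_b_Cert_tree lc_b_rc_9_2) (@D3.rec (fun _ => (Cert rels S Gen.b)) lc_b_rc_8_2 lc_b_rc_9_0 lc_b_rc_8_0 lc_b_rc_9_0 lc_b_rc_10_0 lc_b_rc_10_2 lc_b_rc_6_1 lc_b_rc_7_4 lc_b_rc_8_2 lc_b_rc_8_2 lc_b_Cert_tree lc_b_rc_6_1 lc_b_rc_10_2 lc_b_rc_9_2 lc_b_rc_26_5 lc_b_rc_10_2 lc_b_rc_9_0 lc_b_rc_26_1 lc_b_rc_6_1 lc_b_rc_7_4 lc_b_rc_8_2 lc_b_rc_6_1 lc_b_Cert_tree lc_b_rc_8_0 lc_b_rc_8_0 lc_b_rc_6_1 lc_b_rc_9_2 lc_b_rc_6_1 lc_b_rc_26_7 lc_b_rc_9_2 lc_b_rc_9_2 lc_b_rc_25_4 lc_b_Cert_tree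 lc_b_rc_6_1 lc_b_rc_6_1 lc_b_rc_6_1 lc_b_rc_1_5 lc_b_rc_9_2 lc_b_rc_8_2 lc_b_rc_9_2 lc_b_rc_8_2 lc_b_rc_8_2 lc_b_rc_8_2 lc_b_rc_26_1 lc_b_rc_25_4 lc_b_rc_8_2 lc_b_rc_9_2 lc_b_rc_1_1 lc_b_rc_8_2 lc_b_rc_7_2 lc_b_rc_8_2 lc_b_rc_8_2 lc_b_rc_6_1 lc_b_rc_26_7 lc_b_rc_8_2 lc_b_rc_8_2 lc_b_rc_26_5 lc_b_rc_9_2 lc_b_rc_9_2 lc_b_rc_26_7 lc_b_rc_8_2 lc_b_rc_9_2) (@D3.rec (fun _ => (Cert rels S Gen.b)) lc_b_rc_9_0 lc_b_rc_26_1 lc_b_rc_6_1 lc_b_rc_10_2 lc_b_rc_7_4 lc_b_rc_8_2 lc_b_rc_6_1 lc_b_rc_9_2 lc_b_rc_8_2 lc_b_rc_1_5 lc_b_rc_9_2 lc_b_rc_9_2 lc_b_rc_9_2 lc_b_rc_9_2 lc_b_rc_6_1 lc_b_rc_7_4 lc_b_rc_9_2 lc_b_rc_8_2 lc_b_rc_6_1 lc_b_rc_7_4 lc_b_rc_10_2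 lc_b_rc_26_1 lc_b_rc_8_2 lc_b_rc_6_1 lc_b_rc_6_1 lc_b_rc_8_2 lc_b_rc_9_2 lc_b_rc_8_0 lc_b_rc_6_1 lc_b_rc_7_2 lc_b_rc_8_2 lc_b_rc_8_2 lc_b_rc_26_5 lc_b_rc_7_4 lc_b_rc_9_2 lc_b_rc_26_7 lc_b_rc_8_2 lc_b_rc_7_2 lc_b_rc_6_1 lc_b_Cert_tree lc_b_Cert_tree lc_b_rc_8_2 lc_b_rc_6_1 lc_b_rc_6_1 lc_b_rc_8_2 lc_b_Cert_tree lc_b_rc_6_1 lc_b_rc_9_2 lc_b_rc_7_4 lc_b_rc_9_0 lc_b_Cert_tree lc_b_rc_10_2 lc_b_rc_9_2 lc_b_Cert_tree lc_b_Cert_tree lc_b_rc_1_3 lc_b_rc_9_2 lc_b_rc_10_2 lc_b_rc_8_2 lc_b_rc_6_1 lc_b_rc_26_7 lc_b_rc_9_2) (@D3.rec (fun _ => (Cert rels S Gen.b)) lc_b_rc_6_1 lc_b_rc_8_2 lc_b_rc_9_2 lc_b_rc_9_2 lc_b_rc_10_0 lc_b_rc_8_2 lc_b_rc_6_1 lc_b_rc_10_2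 lc_b_rc_7_4 lc_b_rc_9_2 lc_b_rc_26_5 lc_b_rc_6_1 lc_b_rc_26_1 lc_b_rc_6_1 lc_b_rc_9_0 lc_b_rc_10_2 lc_b_rc_6_1 lc_b_rc_10_2 lc_b_rc_9_2 lc_b_rc_6_1 lc_b_rc_26_7 lc_b_rc_7_2 lc_b_rc_8_0 lc_b_rc_8_2 lc_b_rc_9_2 lc_b_Cert_tree lc_b_rc_9_0 lc_b_Cert_tree lc_b_rc_26_5 lc_b_rc_6_1 lc_b_rc_1_3 lc_b_rc_7_4 lc_b_rc_8_2 lc_b_rc_9_2 lc_b_Cert_tree lc_b_rc_9_2 lc_b_rc_9_2 lc_b_rc_7_0 lc_b_rc_8_2 lc_b_rc_9_2 lc_b_rc_26_5 lc_b_rc_9_0 lc_b_rc_10_2 lc_b_rc_8_2 lc_b_rc_8_2 lc_b_rc_10_2 lc_b_rc_10_2 lc_b_Cert_tree lc_b_rc_6_1 lc_b_Cert_tree lc_b_rc_6_1 lc_b_rc_26_5 lc_b_rc_6_1 lc_b_rc_6_1 lc_b_rc_26_5 lc_b_rc_8_2 lc_b_rc_9_2 lc_b_rc_8_2 lc_b_rc_26_7 lc_b_Cert_tree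 lc_b_rc_7_4 lc_b_rc_9_2) (@D3.rec (fun _ => (Cert rels S Gen.b)) lc_b_rc_7_4 lc_b_Cert_tree lc_b_rc_10_2 lc_b_rc_9_2 lc_b_rc_6_1 lc_b_rc_10_2 lc_b_rc_10_2 lc_b_rc_8_2 lc_b_Cert_tree lc_b_rc_9_2 lc_b_rc_8_2 lc_b_rc_26_5 lc_b_rc_7_2 lc_b_rc_8_0 lc_b_rc_8_2 lc_b_rc_8_2 lc_b_Cert_tree lc_b_rc_9_2 lc_b_rc_6_1 lc_b_Cert_tree lc_b_rc_9_2 lc_b_rc_7_4 lc_b_rc_9_2 lc_b_Cert_tree lc_b_Cert_tree lc_b_rc_6_1 lc_b_rc_8_2 lc_b_rc_9_2 lc_b_rc_7_4 lc_b_rc_8_0 lc_b_rc_6_1 lc_b_rc_10_2 lc_b_rc_9_2 lc_b_rc_8_2 lc_b_Cert_tree lc_b_Cert_tree lc_b_rc_1_3 lc_b_rc_9_2 lc_b_rc_8_2 lc_b_rc_10_2 lc_b_rc_6_1 lc_b_rc_26_7 lc_b_rc_8_2 lc_b_rc_6_1 lc_b_rc_8_0 lc_b_rc_9_2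 lc_b_Cert_tree lc_b_Cert_tree lc_b_rc_8_2 lc_b_rc_8_2 lc_b_rc_9_2 lc_b_rc_9_2 lc_b_rc_9_2 lc_b_rc_1_1 lc_b_rc_9_2 lc_b_rc_6_1 lc_b_rc_9_2 lc_b_rc_8_2 lc_b_rc_7_2 lc_b_rc_26_1 lc_b_rc_8_2 lc_b_rc_26_5) (@D3.rec (fun _ => (Cert rels S Gen.b)) lc_b_rc_9_2 lc_b_rc_7_2 lc_b_rc_8_2 lc_b_rc_9_2 lc_b_Cert_tree lc_b_rc_6_1 lc_b_rc_10_2 lc_b_rc_6_1 lc_b_rc_1_3 lc_b_rc_9_2 lc_b_rc_10_2 lc_b_rc_6_1 lc_b_rc_8_2 lc_b_rc_8_0 lc_b_rc_6_1 lc_b_rc_1_1 lc_b_rc_8_2 lc_b_rc_26_7 lc_b_rc_10_2 lc_b_Cert_tree lc_b_rc_9_2 lc_b_rc_26_5 lc_b_rc_8_2 lc_b_Cert_tree lc_b_rc_9_0 lc_b_Cert_tree lc_b_Cert_tree lc_b_rc_10_2 lc_b_rc_6_1 lc_b_rc_9_2 lc_b_rc_7_4 lc_b_rc_8_2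 lc_b_rc_9_2 lc_b_Cert_tree lc_b_rc_8_2 lc_b_Cert_tree lc_b_rc_9_2 lc_b_rc_26_7 lc_b_rc_10_2 lc_b_rc_9_0 lc_b_rc_1_3 lc_b_rc_7_4 lc_b_rc_8_2 lc_b_rc_9_2 lc_b_Cert_tree lc_b_rc_9_2 lc_b_rc_6_1 lc_b_rc_8_2 lc_b_rc_10_2 lc_b_rc_6_1 lc_b_rc_9_2 lc_b_rc_6_1 lc_b_rc_10_2 lc_b_rc_6_1 lc_b_rc_9_2 lc_b_rc_6_1 lc_b_rc_6_1 lc_b_rc_1_3 lc_b_rc_7_2 lc_b_rc_8_2 lc_b_rc_25_0 lc_b_rc_6_1) (@D3.rec (fun _ => (Cert rels S Gen.b)) lc_b_rc_8_0 lc_b_rc_8_0 lc_b_rc_10_2 lc_b_rc_26_5 lc_b_Cert_tree lc_b_Cert_tree lc_b_rc_1_3 lc_b_rc_8_2 lc_b_rc_10_2 lc_b_rc_6_1 lc_b_rc_10_2 lc_b_rc_1_5 lc_b_rc_8_2 lc_b_rc_9_2 lc_b_rc_8_2 lc_b_rc_10_2 lc_b_rc_8_2 lc_b_rc_8_2 lc_b_rc_26_5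 lc_b_rc_26_1 lc_b_rc_26_7 lc_b_rc_6_1 lc_b_Cert_tree lc_b_rc_1_3 lc_b_rc_9_2 lc_b_Cert_tree lc_b_Cert_tree lc_b_rc_8_2 lc_b_rc_10_2 lc_b_rc_8_2 lc_b_rc_6_1 lc_b_Cert_tree lc_b_rc_9_2 lc_b_rc_6_1 lc_b_rc_26_7 lc_b_rc_9_2 lc_b_rc_6_1 lc_b_rc_6_1 lc_b_rc_8_2 lc_b_rc_9_2 lc_b_rc_8_0 lc_b_rc_6_1 lc_b_rc_6_1 lc_b_rc_8_2 lc_b_rc_1_3 lc_b_rc_9_2 lc_b_rc_26_7 lc_b_rc_26_7 lc_b_rc_6_1 lc_b_Cert_tree lc_b_Cert_tree lc_b_rc_9_2 lc_b_rc_9_2 lc_b_rc_9_2 lc_b_rc_6_1 lc_b_rc_8_2 lc_b_rc_7_4 lc_b_Cert_tree lc_b_rc_1_3 lc_b_rc_9_2 lc_b_rc_8_2 lc_b_rc_10_2) (@D3.rec (fun _ => (Cert rels S Gen.b)) lc_b_rc_10_2 lc_b_rc_10_0 lc_b_rc_7_4 lc_b_rc_9_2 lc_b_Cert_tree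 lc_b_Cert_tree lc_b_rc_10_2 lc_b_rc_7_4 lc_b_rc_9_2 lc_b_Cert_tree lc_b_Cert_tree lc_b_rc_7_4 lc_b_rc_9_0 lc_b_Cert_tree lc_b_rc_8_2 lc_b_rc_10_2 lc_b_Cert_tree lc_b_rc_7_4 lc_b_rc_9_2 lc_b_Cert_tree lc_b_rc_26_1 lc_b_rc_10_2 lc_b_rc_10_0 lc_b_rc_8_2 lc_b_rc_8_0 lc_b_rc_7_4 lc_b_rc_9_2 lc_b_rc_8_2 lc_b_rc_10_2 lc_b_Cert_tree lc_b_rc_8_2 lc_b_rc_10_2 lc_b_rc_6_1 lc_b_rc_8_0 lc_b_Cert_tree lc_b_Cert_tree lc_b_rc_10_2 lc_b_rc_9_2 lc_b_rc_9_2 lc_b_rc_8_0 lc_b_rc_8_2 lc_b_rc_10_2 lc_b_rc_6_1 lc_b_rc_9_2 lc_b_rc_6_1 lc_b_rc_10_2 lc_b_rc_6_1 lc_b_rc_25_4 lc_b_rc_1_3 lc_b_rc_9_2 lc_b_rc_26_1 lc_b_rc_26_5 lc_b_rc_10_0 lc_b_rc_7_4 lc_b_rc_6_1 lc_b_Cert_tree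 lc_b_rc_6_1 lc_b_Cert_tree lc_b_rc_6_1 lc_b_rc_9_2 lc_b_rc_26_7 lc_b_rc_6_1) (@D3.rec (fun _ => (Cert rels S Gen.b)) lc_b_rc_9_2 lc_b_rc_9_2 lc_b_rc_8_2 lc_b_rc_8_0 lc_b_rc_10_2 lc_b_rc_6_1 lc_b_rc_1_3 lc_b_rc_1_3 lc_b_rc_8_2 lc_b_rc_9_2 lc_b_rc_1_5 lc_b_Cert_tree lc_b_rc_9_2 lc_b_rc_6_1 lc_b_Cert_tree lc_b_rc_1_3 lc_b_rc_8_2 lc_b_rc_9_2 lc_b_rc_9_2 lc_b_rc_8_2 lc_b_rc_9_2 lc_b_rc_6_1 lc_b_rc_8_2 lc_b_rc_26_7 lc_b_rc_26_1 lc_b_rc_10_2 lc_b_Cert_tree lc_b_rc_10_2 lc_b_rc_1_3 lc_b_rc_8_2 lc_b_rc_9_2 lc_b_rc_9_2 lc_b_Cert_tree lc_b_Cert_tree lc_b_rc_8_2 lc_b_rc_26_7 lc_b_rc_9_0 lc_b_rc_9_2 lc_b_rc_8_2 lc_b_rc_9_2 lc_b_rc_10_2 lc_b_rc_6_1 lc_b_Cert_tree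 lc_b_rc_1_3 lc_b_rc_8_2 lc_b_rc_9_2 lc_b_rc_26_7 lc_b_rc_7_4 lc_b_rc_26_5 lc_b_rc_26_7 lc_b_rc_10_2 lc_b_rc_6_1 lc_b_rc_6_1 lc_b_rc_1_3 lc_b_rc_8_2 lc_b_rc_9_2 lc_b_rc_9_2 lc_b_rc_8_2 lc_b_rc_7_4 lc_b_Cert_tree lc_b_rc_8_0 lc_b_rc_1_3) (@D3.rec (fun _ => (Cert rels S Gen.b)) lc_b_rc_8_2 lc_b_rc_9_2 lc_b_rc_7_2 lc_b_rc_10_2 lc_b_rc_10_2 lc_b_Cert_tree lc_b_rc_6_1 lc_b_Cert_tree lc_b_rc_8_2 lc_b_rc_9_2 lc_b_rc_1_3 lc_b_rc_6_1 lc_b_rc_26_5 lc_b_rc_7_0 lc_b_rc_9_2 lc_b_rc_8_2 lc_b_rc_6_1 lc_b_rc_25_16 lc_b_rc_7_2 lc_b_rc_9_2 lc_b_rc_9_2 lc_b_rc_6_1 lc_b_rc_9_2 lc_b_rc_6_1 lc_b_rc_9_2 lc_b_rc_26_5 lc_b_rc_26_1 lc_b_rc_9_2 lc_b_rc_8_2 lc_b_rc_8_2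 lc_b_rc_26_5 lc_b_rc_10_2 lc_b_rc_7_4 lc_b_Cert_tree lc_b_rc_1_3 lc_b_rc_9_2 lc_b_rc_8_2 lc_b_rc_10_2 lc_b_rc_9_2 lc_b_rc_10_0 lc_b_rc_26_5 lc_b_rc_10_2 lc_b_Cert_tree lc_b_Cert_tree lc_b_rc_1_3 lc_b_rc_9_2 lc_b_rc_8_2 lc_b_rc_10_2 lc_b_rc_8_2 lc_b_rc_9_2 lc_b_rc_6_1 lc_b_rc_7_4 lc_b_rc_9_2 lc_b_Cert_tree lc_b_rc_6_1 lc_b_rc_1_1 lc_b_rc_8_0 lc_b_rc_26_1 lc_b_rc_10_2 lc_b_rc_6_1 lc_b_Cert_tree lc_b_rc_9_0) (@D3.rec (fun _ => (Cert rels S Gen.b)) lc_b_rc_10_2 lc_b_rc_8_2 lc_b_rc_8_2 lc_b_rc_8_0 lc_b_rc_9_2 lc_b_rc_26_5 lc_b_Cert_tree lc_b_rc_10_2 lc_b_Cert_tree lc_b_rc_9_2 lc_b_rc_9_2 lc_b_rc_10_2 lc_b_Cert_tree lc_b_rc_1_1 lc_b_rc_8_2 lc_b_rc_7_2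 lc_b_rc_8_2 lc_b_rc_9_2 lc_b_Cert_tree lc_b_rc_9_2 lc_b_rc_8_2 lc_b_rc_9_2 lc_b_rc_8_2 lc_b_rc_8_2 lc_b_Cert_tree lc_b_rc_9_2 lc_b_rc_9_0 lc_b_rc_8_2 lc_b_Cert_tree lc_b_rc_1_1 lc_b_Cert_tree lc_b_rc_9_2 lc_b_rc_7_2 lc_b_rc_9_2 lc_b_rc_6_1 lc_b_rc_8_2 lc_b_rc_26_7 lc_b_rc_7_4 lc_b_rc_6_1 lc_b_Cert_tree lc_b_rc_10_2 lc_b_rc_9_2 lc_b_rc_8_2 lc_b_rc_7_4 lc_b_rc_9_2 lc_b_rc_8_2 lc_b_rc_6_1 lc_b_rc_10_2 lc_b_rc_9_0 lc_b_rc_8_2 lc_b_rc_8_2 lc_b_rc_9_2 lc_b_rc_8_2 lc_b_Cert_tree lc_b_rc_1_3 lc_b_rc_9_2 lc_b_rc_26_5 lc_b_rc_9_2 lc_b_rc_26_5 lc_b_rc_6_1 lc_b_rc_6_1 lc_b_Cert_tree) (@D3.rec (fun _ => (Cert rels S Gen.b)) lc_b_rc_9_2 lc_b_rc_6_1 lc_b_Cert_tree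 lc_b_rc_9_2 lc_b_rc_9_2 lc_b_rc_9_0 lc_b_rc_26_7 lc_b_rc_8_2 lc_b_rc_6_1 lc_b_rc_8_2 lc_b_rc_9_2 lc_b_rc_8_2 lc_b_rc_1_3 lc_b_rc_10_2 lc_b_rc_6_1 lc_b_rc_25_0 lc_b_rc_9_2 lc_b_rc_8_0 lc_b_rc_6_1 lc_b_rc_26_5 lc_b_rc_9_2 lc_b_rc_8_2 lc_b_rc_9_2 lc_b_Cert_tree lc_b_Cert_tree lc_b_rc_26_7 lc_b_rc_1_1 lc_b_rc_9_2 lc_b_rc_8_2 lc_b_rc_8_2 lc_b_rc_6_1 lc_b_rc_9_2 lc_b_rc_10_2 lc_b_rc_7_4 lc_b_Cert_tree lc_b_rc_1_3 lc_b_rc_8_2 lc_b_rc_10_2 lc_b_rc_6_1 lc_b_rc_10_0 lc_b_rc_10_2 lc_b_rc_9_2 lc_b_rc_9_2 lc_b_rc_8_2 lc_b_rc_1_3 lc_b_rc_1_5 lc_b_rc_7_2 lc_b_rc_8_2 lc_b_rc_9_2 lc_b_rc_6_1 lc_b_rc_26_1 lc_b_rc_7_4 lc_b_rc_9_2 lc_b_rc_1_3 lc_b_Cert_tree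 lc_b_Cert_tree lc_b_rc_9_2 lc_b_Cert_tree lc_b_rc_6_1 lc_b_rc_7_4 lc_b_rc_8_2 lc_b_rc_8_2) (@D3.rec (fun _ => (Cert rels S Gen.b)) lc_b_rc_8_2 lc_b_rc_6_1 lc_b_rc_9_2 lc_b_rc_26_5 lc_b_rc_10_2 lc_b_Cert_tree lc_b_Cert_tree lc_b_rc_1_3 lc_b_rc_8_2 lc_b_Cert_tree lc_b_rc_7_4 lc_b_rc_6_1 lc_b_Cert_tree lc_b_rc_1_3 lc_b_rc_8_2 lc_b_rc_9_2 lc_b_rc_9_2 lc_b_Cert_tree lc_b_Cert_tree lc_b_rc_8_2 lc_b_rc_10_2 lc_b_Cert_tree lc_b_rc_8_2 lc_b_Cert_tree lc_b_rc_9_2 lc_b_Cert_tree lc_b_Cert_tree lc_b_rc_1_3 lc_b_rc_8_2 lc_b_rc_9_2 lc_b_rc_9_2 lc_b_rc_8_2 lc_b_rc_10_2 lc_b_rc_6_1 lc_b_Cert_tree lc_b_rc_8_2 lc_b_rc_9_2 lc_b_rc_8_2 lc_b_rc_1_3 lc_b_Cert_tree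 lc_b_rc_6_1 lc_b_Cert_tree lc_b_rc_8_2 lc_b_rc_9_2 lc_b_rc_1_1 lc_b_rc_6_1 lc_b_rc_7_2 lc_b_rc_8_2 lc_b_rc_9_2 lc_b_rc_6_1 lc_b_rc_6_1 lc_b_rc_10_2 lc_b_rc_9_2 lc_b_rc_6_1 lc_b_rc_9_2 lc_b_rc_6_1 lc_b_rc_9_2 lc_b_rc_6_1 lc_b_rc_6_1 lc_b_rc_6_1 lc_b_Cert_tree lc_b_rc_9_2) (@D3.rec (fun _ => (Cert rels S Gen.b)) lc_b_rc_1_3 lc_b_Cert_tree lc_b_rc_8_2 lc_b_Cert_tree lc_b_rc_8_2 lc_b_rc_8_2 lc_b_rc_8_2 lc_b_rc_6_1 lc_b_rc_6_1 lc_b_rc_8_2 lc_b_Cert_tree lc_b_Cert_tree lc_b_rc_8_0 lc_b_rc_8_2 lc_b_rc_9_2 lc_b_rc_1_5 lc_b_rc_7_4 lc_b_Cert_tree lc_b_rc_8_2 lc_b_rc_10_2 lc_b_rc_9_2 lc_b_rc_6_1 lc_b_rc_1_5 lc_b_rc_26_1 lc_b_rc_10_2 lc_b_rc_6_1 lc_b_Cert_tree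 lc_b_rc_1_3 lc_b_rc_8_2 lc_b_rc_9_2 lc_b_rc_9_2 lc_b_rc_8_2 lc_b_Cert_tree lc_b_rc_8_2 lc_b_rc_26_5 lc_b_rc_26_5 lc_b_Cert_tree lc_b_rc_6_1 lc_b_rc_9_2 lc_b_Cert_tree lc_b_Cert_tree lc_b_rc_9_0 lc_b_rc_10_2 lc_b_rc_6_1 lc_b_Cert_tree lc_b_rc_26_7 lc_b_rc_9_0 lc_b_rc_9_2 lc_b_rc_6_1 lc_b_Cert_tree lc_b_rc_9_2 lc_b_rc_8_2 lc_b_rc_9_2 lc_b_rc_8_0 lc_b_rc_8_2 lc_b_rc_10_2 lc_b_Cert_tree lc_b_rc_8_2 lc_b_rc_6_1 lc_b_rc_6_1 lc_b_Cert_tree lc_b_Cert_tree) (@D3.rec (fun _ => (Cert rels S Gen.b)) lc_b_rc_7_4 lc_b_rc_8_2 lc_b_rc_7_4 lc_b_Cert_tree lc_b_Cert_tree lc_b_rc_8_2 lc_b_rc_8_2 lc_b_rc_8_2 lc_b_rc_10_2 lc_b_rc_6_1 lc_b_rc_6_1 lc_b_Cert_tree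 lc_b_rc_8_2 lc_b_rc_9_2 lc_b_rc_10_2 lc_b_rc_6_1 lc_b_rc_26_5 lc_b_rc_1_5 lc_b_rc_9_2 lc_b_rc_8_2 lc_b_Cert_tree lc_b_Cert_tree lc_b_rc_9_2 lc_b_rc_9_2 lc_b_rc_6_1 lc_b_rc_9_2 lc_b_rc_6_1 lc_b_rc_6_1 lc_b_Cert_tree lc_b_Cert_tree lc_b_rc_10_2 lc_b_rc_8_2 lc_b_rc_6_1 lc_b_rc_6_1 lc_b_rc_9_2 lc_b_rc_7_2 lc_b_rc_7_2 lc_b_rc_1_3 lc_b_rc_8_2 lc_b_rc_9_2 lc_b_Cert_tree lc_b_rc_9_2 lc_b_Cert_tree lc_b_rc_8_2 lc_b_rc_10_2 lc_b_rc_1_3 lc_b_rc_9_2 lc_b_Cert_tree lc_b_Cert_tree lc_b_rc_8_2 lc_b_rc_10_2 lc_b_rc_6_1 lc_b_rc_9_2 lc_b_rc_6_1 lc_b_Cert_tree lc_b_rc_1_3 lc_b_rc_9_2 lc_b_Cert_tree lc_b_rc_8_2 lc_b_Cert_tree lc_b_rc_9_2 lc_b_rc_6_1) (@D3.rec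 (fun _ => (Cert rels S Gen.b)) lc_b_Cert_tree lc_b_rc_10_0 lc_b_rc_9_2 lc_b_rc_10_2 lc_b_rc_8_2 lc_b_rc_10_2 lc_b_rc_6_1 lc_b_rc_8_2 lc_b_rc_6_1 lc_b_rc_8_2 lc_b_rc_26_1 lc_b_Cert_tree lc_b_Cert_tree lc_b_rc_6_1 lc_b_rc_6_1 lc_b_rc_1_5 lc_b_rc_9_2 lc_b_rc_6_1 lc_b_rc_10_2 lc_b_rc_9_2 lc_b_rc_8_2 lc_b_Cert_tree lc_b_rc_8_0 lc_b_rc_6_1 lc_b_rc_8_0 lc_b_rc_9_2 lc_b_Cert_tree lc_b_rc_8_2 lc_b_rc_9_0 lc_b_rc_10_2 lc_b_rc_26_1 lc_b_rc_10_2 lc_b_Cert_tree lc_b_Cert_tree lc_b_rc_1_3 lc_b_rc_8_2 lc_b_rc_9_2 lc_b_rc_9_2 lc_b_rc_10_2 lc_b_rc_6_1 lc_b_rc_6_1 lc_b_rc_26_5 lc_b_rc_10_2 lc_b_rc_7_4 lc_b_rc_9_2 lc_b_rc_6_1 lc_b_rc_26_5 lc_b_rc_9_2 lc_b_rc_26_5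 lc_b_Cert_tree lc_b_Cert_tree lc_b_Cert_tree lc_b_rc_10_0 lc_b_rc_6_1 lc_b_rc_6_1 lc_b_rc_9_2 lc_b_Cert_tree lc_b_rc_6_1 lc_b_rc_8_2 lc_b_Cert_tree lc_b_rc_8_0 lc_b_rc_9_2) (@D3.rec (fun _ => (Cert rels S Gen.b)) lc_b_rc_6_1 lc_b_rc_25_0 lc_b_rc_9_2 lc_b_rc_6_1 lc_b_Cert_tree lc_b_rc_1_3 lc_b_rc_8_2 lc_b_rc_6_1 lc_b_rc_9_2 lc_b_Cert_tree lc_b_rc_26_1 lc_b_rc_1_3 lc_b_rc_8_2 lc_b_rc_9_2 lc_b_rc_1_5 lc_b_rc_8_0 lc_b_Cert_tree lc_b_rc_7_0 lc_b_rc_10_2 lc_b_rc_7_2 lc_b_rc_9_2 lc_b_rc_6_1 lc_b_Cert_tree lc_b_rc_9_2 lc_b_rc_6_1 lc_b_rc_26_5 lc_b_rc_9_2 lc_b_rc_25_4 lc_b_rc_8_2 lc_b_rc_10_2 lc_b_rc_6_1 lc_b_rc_8_2 lc_b_rc_6_1 lc_b_rc_8_2 lc_b_rc_9_2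 lc_b_Cert_tree lc_b_Cert_tree lc_b_rc_10_0 lc_b_rc_9_0 lc_b_rc_9_0 lc_b_rc_8_2 lc_b_rc_6_1 lc_b_rc_9_2 lc_b_rc_8_2 lc_b_Cert_tree lc_b_rc_8_2 lc_b_rc_6_1 lc_b_rc_10_2 lc_b_rc_9_2 lc_b_rc_6_1 lc_b_rc_7_2 lc_b_rc_8_0 lc_b_rc_6_1 lc_b_rc_10_2 lc_b_rc_9_2 lc_b_rc_8_0 lc_b_rc_10_2 lc_b_rc_7_2 lc_b_rc_7_2 lc_b_rc_1_3 lc_b_rc_8_2 lc_b_rc_9_2) (@D3.rec (fun _ => (Cert rels S Gen.b)) lc_b_rc_9_2 lc_b_Cert_tree lc_b_rc_8_2 lc_b_rc_10_2 lc_b_rc_8_2 lc_b_rc_7_4 lc_b_rc_6_1 lc_b_rc_26_5 lc_b_rc_9_2 lc_b_rc_9_2 lc_b_Cert_tree lc_b_rc_8_2 lc_b_rc_10_2 lc_b_rc_6_1 lc_b_rc_8_2 lc_b_rc_9_2 lc_b_rc_6_1 lc_b_rc_8_2 lc_b_Cert_tree lc_b_Cert_tree lc_b_rc_26_5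 lc_b_rc_6_1 lc_b_rc_8_2 lc_b_rc_8_2 lc_b_rc_26_5 lc_b_rc_8_2 lc_b_rc_9_2 lc_b_rc_8_0 lc_b_rc_6_1 lc_b_rc_8_2 lc_b_rc_25_4 lc_b_rc_6_1 lc_b_rc_6_1 lc_b_rc_9_2 lc_b_rc_25_8 lc_b_Cert_tree lc_b_rc_8_2 lc_b_rc_10_2 lc_b_Cert_tree lc_b_Cert_tree lc_b_rc_26_7 lc_b_rc_10_2 lc_b_rc_6_1 lc_b_Cert_tree lc_b_rc_6_1 lc_b_rc_26_1 lc_b_rc_9_2 lc_b_rc_6_1 lc_b_Cert_tree lc_b_rc_8_0 lc_b_rc_6_1 lc_b_rc_8_2 lc_b_Cert_tree lc_b_rc_10_2 lc_b_rc_9_0 lc_b_rc_8_2 lc_b_rc_9_2 lc_b_rc_6_1 lc_b_rc_26_1 lc_b_rc_9_2 lc_b_rc_6_1 lc_b_rc_1_1) (@D3.rec (fun _ => (Cert rels S Gen.b)) lc_b_rc_8_2 lc_b_rc_9_2 lc_b_rc_10_2 lc_b_Cert_tree lc_b_rc_7_0 lc_b_rc_6_1 lc_b_rc_8_2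 lc_b_rc_1_1 lc_b_rc_25_0 lc_b_Cert_tree lc_b_rc_9_2 lc_b_rc_8_2 lc_b_rc_8_2 lc_b_rc_10_2 lc_b_rc_6_1 lc_b_rc_26_7 lc_b_rc_1_1 lc_b_Cert_tree lc_b_rc_8_2 lc_b_rc_9_2 lc_b_rc_6_1 lc_b_rc_26_7 lc_b_rc_8_0 lc_b_rc_26_5 lc_b_rc_9_2 lc_b_rc_7_4 lc_b_rc_8_2 lc_b_rc_10_2 lc_b_rc_1_3 lc_b_rc_9_2 lc_b_rc_6_1 lc_b_Cert_tree lc_b_rc_9_2 lc_b_rc_6_1 lc_b_rc_26_5 lc_b_rc_9_2 lc_b_rc_1_5 lc_b_rc_8_2 lc_b_rc_9_2 lc_b_Cert_tree lc_b_Cert_tree lc_b_rc_10_2 lc_b_rc_6_1 lc_b_rc_7_2 lc_b_rc_8_2 lc_b_rc_6_1 lc_b_rc_8_2 lc_b_rc_9_2 lc_b_rc_8_2 lc_b_rc_7_4 lc_b_rc_6_1 lc_b_rc_8_2 lc_b_rc_9_2 lc_b_rc_6_1 lc_b_rc_26_7 lc_b_rc_9_2 lc_b_Cert_tree lc_b_Cert_tree lc_b_Cert_tree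 lc_b_rc_6_1 lc_b_rc_26_7 lc_b_rc_9_2) (@D3.rec (fun _ => (Cert rels S Gen.b)) lc_b_rc_8_2 lc_b_rc_8_2 lc_b_rc_9_2 lc_b_Cert_tree lc_b_rc_8_2 lc_b_rc_9_2 lc_b_rc_6_1 lc_b_rc_1_5 lc_b_rc_25_12 lc_b_rc_10_2 lc_b_rc_6_1 lc_b_rc_8_2 lc_b_rc_1_3 lc_b_rc_9_2 lc_b_Cert_tree lc_b_Cert_tree lc_b_rc_8_2 lc_b_rc_10_2 lc_b_rc_9_2 lc_b_rc_26_5 lc_b_rc_10_2 lc_b_rc_26_5 lc_b_rc_26_1 lc_b_rc_1_3 lc_b_rc_9_2 lc_b_Cert_tree lc_b_rc_8_2 lc_b_rc_10_2 lc_b_rc_6_1 lc_b_rc_9_2 lc_b_rc_6_1 lc_b_rc_9_2 lc_b_Cert_tree lc_b_rc_6_1 lc_b_rc_8_2 lc_b_Cert_tree lc_b_rc_9_2 lc_b_rc_6_1 lc_b_rc_26_5 lc_b_rc_9_2 lc_b_rc_6_1 lc_b_rc_8_2 lc_b_rc_9_2 lc_b_rc_9_2 lc_b_rc_6_1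 lc_b_rc_10_0 lc_b_Cert_tree lc_b_rc_6_1 lc_b_rc_9_0 lc_b_rc_6_1 lc_b_Cert_tree lc_b_rc_1_3 lc_b_rc_9_2 lc_b_Cert_tree lc_b_rc_10_0 lc_b_rc_9_2 lc_b_rc_6_1 lc_b_rc_6_1 lc_b_Cert_tree lc_b_rc_9_2 lc_b_rc_6_1 lc_b_rc_26_5) (@D3.rec (fun _ => (Cert rels S Gen.b)) lc_b_rc_9_2 lc_b_rc_1_3 lc_b_Cert_tree lc_b_Cert_tree lc_b_rc_8_2 lc_b_rc_10_2 lc_b_Cert_tree lc_b_rc_6_1 lc_b_rc_10_2 lc_b_rc_1_5 lc_b_rc_8_2 lc_b_rc_9_2 lc_b_rc_6_1 lc_b_rc_8_2 lc_b_rc_9_2 lc_b_rc_9_2 lc_b_rc_6_1 lc_b_rc_8_2 lc_b_rc_6_1 lc_b_Cert_tree lc_b_rc_8_2 lc_b_rc_6_1 lc_b_Cert_tree lc_b_rc_6_1 lc_b_rc_10_2 lc_b_rc_10_2 lc_b_Cert_tree lc_b_Cert_tree lc_b_rc_1_3 lc_b_rc_8_2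 lc_b_rc_26_7 lc_b_rc_26_5 lc_b_Cert_tree lc_b_rc_9_2 lc_b_rc_6_1 lc_b_rc_9_2 lc_b_rc_26_7 lc_b_rc_10_2 lc_b_Cert_tree lc_b_rc_9_2 lc_b_rc_25_8 lc_b_rc_9_2 lc_b_rc_9_0 lc_b_rc_9_2 lc_b_Cert_tree lc_b_rc_9_2 lc_b_rc_9_0 lc_b_rc_9_0 lc_b_rc_8_2 lc_b_rc_10_2 lc_b_rc_6_1 lc_b_Cert_tree lc_b_rc_9_2 lc_b_Cert_tree lc_b_Cert_tree lc_b_rc_6_1 lc_b_rc_9_2 lc_b_rc_6_1 lc_b_rc_9_2 lc_b_rc_9_2 lc_b_rc_26_5 lc_b_rc_6_1) (@D3.rec (fun _ => (Cert rels S Gen.b)) lc_b_rc_10_2 lc_b_rc_9_2 lc_b_rc_6_1 lc_b_rc_8_2 lc_b_rc_26_7 lc_b_rc_26_5 lc_b_Cert_tree lc_b_rc_1_3 lc_b_rc_8_2 lc_b_rc_6_1 lc_b_Cert_tree lc_b_rc_9_2 lc_b_rc_6_1 lc_b_rc_1_1 lc_b_rc_1_3 lc_b_rc_8_2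 lc_b_rc_26_5 lc_b_rc_6_1 lc_b_rc_7_2 lc_b_rc_9_2 lc_b_rc_6_1 lc_b_rc_26_5 lc_b_rc_26_5 lc_b_rc_6_1 lc_b_rc_8_2 lc_b_rc_6_1 lc_b_rc_8_2 lc_b_rc_9_2 lc_b_rc_1_5 lc_b_rc_9_2 lc_b_rc_6_1 lc_b_rc_6_1 lc_b_rc_26_1 lc_b_rc_9_2 lc_b_rc_10_2 lc_b_rc_6_1 lc_b_rc_9_2 lc_b_rc_8_0 lc_b_rc_10_2 lc_b_rc_6_1 lc_b_rc_1_5 lc_b_rc_1_1 lc_b_rc_8_2 lc_b_rc_6_1 lc_b_rc_10_2 lc_b_rc_6_1 lc_b_rc_8_2 lc_b_rc_9_2 lc_b_rc_6_1 lc_b_rc_9_0 lc_b_Cert_tree lc_b_rc_1_1 lc_b_rc_8_2 lc_b_Cert_tree lc_b_Cert_tree lc_b_rc_26_7 lc_b_rc_26_7 lc_b_Cert_tree lc_b_rc_6_1 lc_b_rc_9_2 lc_b_rc_1_1 lc_b_rc_10_2) (@D3.rec (fun _ => (Cert rels S Gen.b)) lc_b_rc_8_2 lc_b_rc_9_2 lc_b_rc_9_2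 lc_b_rc_26_1 lc_b_rc_8_2 lc_b_rc_10_2 lc_b_rc_6_1 lc_b_rc_26_1 lc_b_rc_10_2 lc_b_rc_6_1 lc_b_rc_9_2 lc_b_rc_8_2 lc_b_Cert_tree lc_b_rc_10_2 lc_b_rc_8_2 lc_b_rc_9_2 lc_b_Cert_tree lc_b_rc_26_7 lc_b_rc_9_2 lc_b_Cert_tree lc_b_rc_9_0 lc_b_rc_8_2 lc_b_rc_10_2 lc_b_Cert_tree lc_b_rc_8_2 lc_b_rc_25_12 lc_b_rc_9_2 lc_b_rc_10_2 lc_b_rc_1_5 lc_b_rc_1_3 lc_b_rc_8_2 lc_b_rc_9_2 lc_b_rc_6_1 lc_b_rc_26_5 lc_b_rc_6_1 lc_b_rc_26_5 lc_b_rc_8_2 lc_b_rc_7_2 lc_b_rc_1_3 lc_b_rc_9_2 lc_b_rc_8_2 lc_b_rc_6_1 lc_b_rc_7_2 lc_b_Cert_tree lc_b_rc_7_2 lc_b_rc_7_2 lc_b_rc_9_2 lc_b_rc_26_7 lc_b_rc_8_2 lc_b_rc_6_1 lc_b_rc_7_2 lc_b_rc_9_2 lc_b_rc_8_0 lc_b_Cert_tree lc_b_rc_7_2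 lc_b_rc_7_2 lc_b_Cert_tree lc_b_rc_6_1 lc_b_Cert_tree lc_b_rc_8_2 lc_b_rc_8_0 lc_b_rc_8_2) (@D3.rec (fun _ => (Cert rels S Gen.b)) lc_b_rc_6_1 lc_b_Cert_tree lc_b_rc_8_2 lc_b_rc_6_1 lc_b_Cert_tree lc_b_rc_6_1 lc_b_rc_8_2 lc_b_rc_6_1 lc_b_rc_6_1 lc_b_rc_1_3 lc_b_rc_8_2 lc_b_rc_6_1 lc_b_rc_6_1 lc_b_rc_6_1 lc_b_rc_10_2 lc_b_rc_8_2 lc_b_rc_6_1 lc_b_rc_26_1 lc_b_rc_8_2 lc_b_rc_26_1 lc_b_rc_26_1 lc_b_rc_8_2 lc_b_Cert_tree lc_b_rc_9_2 lc_b_rc_8_2 lc_b_rc_26_1 lc_b_rc_6_1 lc_b_rc_8_2 lc_b_rc_26_5 lc_b_rc_1_5 lc_b_rc_9_2 lc_b_rc_26_5 lc_b_rc_8_2 lc_b_Cert_tree lc_b_rc_9_2 lc_b_rc_7_0 lc_b_rc_26_1 lc_b_rc_6_1 lc_b_rc_8_2 lc_b_rc_9_2 lc_b_rc_8_2 lc_b_rc_26_1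 lc_b_rc_9_2 lc_b_rc_8_2 lc_b_rc_6_1 lc_b_rc_6_1 lc_b_rc_8_2 lc_b_rc_9_2 lc_b_rc_6_1 lc_b_rc_26_1 lc_b_rc_9_2 lc_b_rc_9_2 lc_b_rc_8_2 lc_b_rc_6_1 lc_b_rc_8_2 lc_b_rc_10_0 lc_b_Cert_tree lc_b_rc_8_2 lc_b_rc_8_2 lc_b_Cert_tree lc_b_rc_7_2 lc_b_rc_9_2) (@D3.rec (fun _ => (Cert rels S Gen.b)) lc_b_rc_8_2 lc_b_rc_26_1 lc_b_rc_10_2 lc_b_rc_7_4 lc_b_rc_9_2 lc_b_rc_6_1 lc_b_rc_9_2 lc_b_rc_6_1 lc_b_Cert_tree lc_b_rc_6_1 lc_b_rc_26_7 lc_b_rc_9_2 lc_b_rc_6_1 lc_b_rc_10_2 lc_b_rc_6_1 lc_b_rc_7_4 lc_b_rc_9_2 lc_b_Cert_tree lc_b_rc_1_3 lc_b_rc_8_2 lc_b_rc_7_4 lc_b_rc_9_2 lc_b_rc_1_5 lc_b_rc_1_3 lc_b_rc_8_2 lc_b_rc_1_1 lc_b_rc_6_1 lc_b_rc_6_1 lc_b_rc_6_1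 lc_b_rc_26_7 lc_b_rc_6_1 lc_b_rc_26_7 lc_b_rc_9_2 lc_b_rc_26_5 lc_b_rc_10_2 lc_b_Cert_tree lc_b_Cert_tree lc_b_rc_1_3 lc_b_rc_8_2 lc_b_rc_10_2 lc_b_rc_9_2 lc_b_rc_9_2 lc_b_rc_6_1 lc_b_rc_10_2 lc_b_rc_10_2 lc_b_rc_9_2 lc_b_rc_8_2 lc_b_rc_6_1 lc_b_rc_9_2 lc_b_rc_6_1 lc_b_rc_9_0 lc_b_rc_10_2 lc_b_rc_6_1 lc_b_rc_8_2 lc_b_rc_25_16 lc_b_rc_8_2 lc_b_rc_6_1 lc_b_rc_8_2 lc_b_rc_9_2 lc_b_rc_6_1 lc_b_rc_8_2 lc_b_rc_9_2) (@D3.rec (fun _ => (Cert rels S Gen.b)) lc_b_rc_6_1 lc_b_Cert_tree lc_b_rc_1_3 lc_b_rc_8_2 lc_b_rc_9_2 lc_b_Cert_tree lc_b_rc_9_2 lc_b_Cert_tree lc_b_Cert_tree lc_b_rc_8_2 lc_b_rc_7_2 lc_b_Cert_tree lc_b_rc_7_4 lc_b_rc_6_1 lc_b_rc_6_1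 lc_b_rc_6_1 lc_b_rc_9_2 lc_b_Cert_tree lc_b_rc_10_2 lc_b_rc_1_3 lc_b_rc_8_2 lc_b_rc_9_2 lc_b_rc_9_2 lc_b_Cert_tree lc_b_rc_8_2 lc_b_rc_26_1 lc_b_rc_26_5 lc_b_rc_10_2 lc_b_rc_6_1 lc_b_rc_9_2 lc_b_rc_6_1 lc_b_Cert_tree lc_b_rc_1_3 lc_b_rc_8_2 lc_b_rc_9_2 lc_b_Cert_tree lc_b_rc_26_5 lc_b_rc_9_2 lc_b_Cert_tree lc_b_Cert_tree lc_b_rc_8_2 lc_b_rc_10_2 lc_b_Cert_tree lc_b_rc_8_2 lc_b_rc_7_4 lc_b_rc_6_1 lc_b_rc_26_1 lc_b_rc_10_2 lc_b_Cert_tree lc_b_rc_7_0 lc_b_rc_1_3 lc_b_rc_8_2 lc_b_rc_9_2 lc_b_rc_7_4 lc_b_rc_7_4 lc_b_Cert_tree lc_b_rc_8_2 lc_b_rc_10_2 lc_b_Cert_tree lc_b_rc_6_1 lc_b_Cert_tree lc_b_rc_6_1) (@D3.rec (fun _ => (Cert rels S Gen.b))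 lc_b_rc_9_2 lc_b_Cert_tree lc_b_rc_9_2 lc_b_rc_8_2 lc_b_rc_10_2 lc_b_rc_9_2 lc_b_rc_8_2 lc_b_rc_10_2 lc_b_rc_7_4 lc_b_rc_6_1 lc_b_rc_1_3 lc_b_rc_9_2 lc_b_rc_6_1 lc_b_rc_6_1 lc_b_rc_8_2 lc_b_rc_8_2 lc_b_Cert_tree lc_b_Cert_tree lc_b_Cert_tree lc_b_rc_9_2 lc_b_rc_10_2 lc_b_rc_9_2 lc_b_rc_6_1 lc_b_rc_9_2 lc_b_rc_9_2 lc_b_rc_6_1 lc_b_rc_9_2 lc_b_rc_26_7 lc_b_rc_6_1 lc_b_rc_10_2 lc_b_rc_9_2 lc_b_Cert_tree lc_b_rc_8_2 lc_b_rc_7_4 lc_b_rc_8_2 lc_b_rc_9_2 lc_b_rc_26_5 lc_b_rc_8_2 lc_b_rc_6_1 lc_b_Cert_tree lc_b_rc_8_2 lc_b_rc_8_0 lc_b_rc_8_0 lc_b_rc_8_2 lc_b_rc_26_7 lc_b_rc_6_1 lc_b_rc_6_1 lc_b_rc_9_2 lc_b_rc_8_0 lc_b_Cert_tree lc_b_rc_1_3 lc_b_rc_8_2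 lc_b_rc_9_2 lc_b_rc_6_1 lc_b_rc_8_2 lc_b_Cert_tree lc_b_rc_6_1 lc_b_rc_26_5 lc_b_rc_9_2 lc_b_rc_9_2 lc_b_Cert_tree lc_b_Cert_tree) (@D3.rec (fun _ => (Cert rels S Gen.b)) lc_b_rc_8_2 lc_b_rc_10_2 lc_b_rc_6_1 lc_b_Cert_tree lc_b_rc_8_2 lc_b_rc_6_1 lc_b_Cert_tree lc_b_rc_9_2 lc_b_rc_7_2 lc_b_rc_8_2 lc_b_rc_9_2 lc_b_rc_6_1 lc_b_rc_1_1 lc_b_rc_9_2 lc_b_rc_26_5 lc_b_rc_9_2 lc_b_Cert_tree lc_b_rc_1_1 lc_b_rc_9_2 lc_b_rc_8_0 lc_b_rc_8_2 lc_b_rc_10_2 lc_b_rc_25_8 lc_b_rc_8_0 lc_b_rc_6_1 lc_b_rc_1_3 lc_b_rc_6_1 lc_b_Cert_tree lc_b_rc_6_1 lc_b_rc_6_1 lc_b_rc_9_2 lc_b_rc_8_2 lc_b_rc_9_2 lc_b_Cert_tree lc_b_Cert_tree lc_b_rc_8_2 lc_b_rc_6_1 lc_b_rc_6_1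 lc_b_rc_9_2 lc_b_rc_8_2 lc_b_rc_8_2 lc_b_rc_8_2 lc_b_rc_7_4 lc_b_rc_6_1 lc_b_rc_9_0 lc_b_rc_6_1 lc_b_rc_8_2 lc_b_rc_6_1 lc_b_rc_6_1 lc_b_rc_6_1 lc_b_rc_8_2 lc_b_rc_8_2 lc_b_rc_10_2 lc_b_rc_6_1 lc_b_rc_10_0 lc_b_rc_9_2 lc_b_rc_8_0 lc_b_rc_9_2 lc_b_rc_6_1 lc_b_rc_10_2 lc_b_rc_6_1 lc_b_rc_6_1) (@D3.rec (fun _ => (Cert rels S Gen.b)) lc_b_Cert_tree lc_b_Cert_tree lc_b_rc_1_3 lc_b_rc_8_2 lc_b_rc_8_2 lc_b_rc_26_1 lc_b_rc_26_5 lc_b_Cert_tree lc_b_rc_1_3 lc_b_rc_8_2 lc_b_rc_9_2 lc_b_rc_9_2 lc_b_rc_7_2 lc_b_rc_26_5 lc_b_rc_8_2 lc_b_rc_26_7 lc_b_Cert_tree lc_b_Cert_tree lc_b_rc_9_2 lc_b_Cert_tree lc_b_Cert_tree lc_b_rc_1_3 lc_b_rc_8_2 lc_b_rc_9_2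 lc_b_rc_9_2 lc_b_rc_8_2 lc_b_rc_6_1 lc_b_rc_9_2 lc_b_Cert_tree lc_b_Cert_tree lc_b_Cert_tree lc_b_rc_1_3 lc_b_rc_9_2 lc_b_rc_6_1 lc_b_Cert_tree lc_b_rc_1_3 lc_b_rc_8_2 lc_b_rc_9_2 lc_b_rc_7_2 lc_b_rc_26_7 lc_b_rc_10_2 lc_b_Cert_tree lc_b_rc_6_1 lc_b_rc_6_1 lc_b_rc_9_2 lc_b_rc_10_2 lc_b_rc_6_1 lc_b_rc_26_5 lc_b_rc_9_2 lc_b_rc_10_2 lc_b_rc_9_2 lc_b_rc_6_1 lc_b_rc_9_2 lc_b_rc_6_1 lc_b_rc_9_2 lc_b_rc_6_1 lc_b_rc_7_4 lc_b_rc_26_7 lc_b_rc_26_5 lc_b_rc_10_2 lc_b_rc_9_2 lc_b_rc_8_2) (@D3.rec (fun _ => (Cert rels S Gen.b)) lc_b_rc_6_1 lc_b_rc_1_1 lc_b_rc_10_2 lc_b_rc_9_2 lc_b_rc_10_2 lc_b_Cert_tree lc_b_rc_26_1 lc_b_rc_1_3 lc_b_rc_8_2 lc_b_rc_9_2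 lc_b_rc_6_1 lc_b_rc_1_5 lc_b_rc_6_1 lc_b_rc_26_1 lc_b_rc_1_3 lc_b_rc_8_2 lc_b_rc_10_2 lc_b_rc_9_2 lc_b_rc_26_7 lc_b_rc_1_3 lc_b_Cert_tree lc_b_Cert_tree lc_b_rc_1_3 lc_b_rc_8_2 lc_b_rc_9_2 lc_b_rc_9_2 lc_b_Cert_tree lc_b_rc_6_1 lc_b_rc_6_1 lc_b_rc_1_3 lc_b_rc_8_2 lc_b_rc_7_4 lc_b_rc_7_4 lc_b_Cert_tree lc_b_rc_25_16 lc_b_rc_26_5 lc_b_rc_8_2 lc_b_Cert_tree lc_b_rc_7_2 lc_b_Cert_tree lc_b_rc_1_3 lc_b_rc_8_2 lc_b_rc_9_2 lc_b_rc_9_2 lc_b_rc_8_2 lc_b_rc_10_2 lc_b_Cert_tree lc_b_rc_8_0 lc_b_rc_1_3 lc_b_rc_8_2 lc_b_rc_9_2 lc_b_rc_26_7 lc_b_rc_10_2 lc_b_rc_10_2 lc_b_rc_7_0 lc_b_rc_6_1 lc_b_rc_6_1 lc_b_rc_8_2 lc_b_rc_25_0 lc_b_rc_10_2 lc_b_rc_8_2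 lc_b_rc_6_1) (@D3.rec (fun _ => (Cert rels S Gen.b)) lc_b_rc_6_1 lc_b_Cert_tree lc_b_rc_10_2 lc_b_rc_9_2 lc_b_rc_6_1 lc_b_rc_9_2 lc_b_rc_6_1 lc_b_rc_9_2 lc_b_rc_6_1 lc_b_rc_9_2 lc_b_rc_6_1 lc_b_rc_9_2 lc_b_rc_10_2 lc_b_rc_9_2 lc_b_rc_8_2 lc_b_rc_6_1 lc_b_rc_10_2 lc_b_rc_26_5 lc_b_rc_10_2 lc_b_rc_6_1 lc_b_rc_26_7 lc_b_rc_6_1 lc_b_rc_10_2 lc_b_rc_6_1 lc_b_Cert_tree lc_b_rc_7_0 lc_b_rc_1_3 lc_b_rc_8_2 lc_b_rc_9_2 lc_b_rc_9_2 lc_b_Cert_tree lc_b_rc_9_0 lc_b_rc_26_1 lc_b_rc_7_2 lc_b_rc_7_2 lc_b_rc_9_2 lc_b_rc_6_1 lc_b_Cert_tree lc_b_rc_1_3 lc_b_rc_8_2 lc_b_rc_9_2 lc_b_rc_9_2 lc_b_rc_8_2 lc_b_rc_10_2 lc_b_Cert_tree lc_b_rc_26_5 lc_b_Cert_tree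 lc_b_rc_10_0 lc_b_rc_1_3 lc_b_rc_8_2 lc_b_rc_9_2 lc_b_rc_9_2 lc_b_Cert_tree lc_b_rc_6_1 lc_b_rc_8_2 lc_b_rc_6_1 lc_b_rc_7_2 lc_b_rc_8_2 lc_b_rc_6_1 lc_b_rc_1_3 lc_b_rc_1_3 lc_b_rc_8_2) (@D3.rec (fun _ => (Cert rels S Gen.b)) lc_b_rc_9_2 lc_b_rc_9_2 lc_b_rc_8_2 lc_b_Cert_tree lc_b_rc_8_2 lc_b_rc_10_2 lc_b_rc_1_5 lc_b_rc_8_2 lc_b_Cert_tree lc_b_rc_8_2 lc_b_rc_1_3 lc_b_rc_8_2 lc_b_rc_9_2 lc_b_rc_9_2 lc_b_rc_8_2 lc_b_rc_7_2 lc_b_Cert_tree lc_b_Cert_tree lc_b_rc_1_3 lc_b_rc_9_2 lc_b_rc_9_0 lc_b_rc_10_2 lc_b_Cert_tree lc_b_rc_6_1 lc_b_Cert_tree lc_b_rc_8_2 lc_b_rc_9_2 lc_b_rc_10_2 lc_b_rc_6_1 lc_b_rc_26_5 lc_b_rc_8_2 lc_b_rc_9_2 lc_b_rc_8_2 lc_b_Cert_tree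 lc_b_Cert_tree lc_b_rc_10_0 lc_b_rc_9_2 lc_b_rc_6_1 lc_b_rc_9_2 lc_b_rc_6_1 lc_b_rc_10_2 lc_b_Cert_tree lc_b_rc_10_2 lc_b_rc_6_1 lc_b_rc_9_0 lc_b_Cert_tree lc_b_rc_1_3 lc_b_rc_8_2 lc_b_rc_9_2 lc_b_rc_9_2 lc_b_rc_8_0 lc_b_rc_10_0 lc_b_rc_9_2 lc_b_rc_9_2 lc_b_rc_9_2 lc_b_rc_6_1 lc_b_rc_26_1 lc_b_rc_10_2 lc_b_rc_26_5 lc_b_Cert_tree lc_b_rc_1_3 lc_b_rc_9_2) (@D3.rec (fun _ => (Cert rels S Gen.b)) lc_b_rc_8_2 lc_b_rc_26_7 lc_b_rc_6_1 lc_b_rc_9_2 lc_b_rc_9_2 lc_b_Cert_tree lc_b_rc_9_0 lc_b_rc_1_3 lc_b_rc_8_2 lc_b_rc_9_2 lc_b_Cert_tree lc_b_rc_8_2 lc_b_rc_7_2 lc_b_rc_6_1 lc_b_Cert_tree lc_b_Cert_tree lc_b_Cert_tree lc_b_rc_8_2 lc_b_Cert_tree lc_b_Cert_tree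 lc_b_rc_1_3 lc_b_rc_8_2 lc_b_rc_10_2 lc_b_rc_6_1 lc_b_Cert_tree lc_b_rc_1_3 lc_b_rc_8_2 lc_b_rc_9_2 lc_b_rc_6_1 lc_b_Cert_tree lc_b_rc_8_2 lc_b_rc_9_2 lc_b_rc_6_1 lc_b_rc_26_5 lc_b_rc_6_1 lc_b_rc_9_2 lc_b_rc_8_2 lc_b_rc_1_1 lc_b_rc_7_2 lc_b_Cert_tree lc_b_rc_26_5 lc_b_rc_9_2 lc_b_Cert_tree lc_b_rc_9_0 lc_b_rc_8_2 lc_b_rc_10_2 lc_b_rc_6_1 lc_b_rc_9_2 lc_b_rc_6_1 lc_b_rc_7_0 lc_b_Cert_tree lc_b_Cert_tree lc_b_rc_8_2 lc_b_rc_10_2 lc_b_rc_6_1 lc_b_rc_8_2 lc_b_rc_6_1 lc_b_rc_8_2 lc_b_rc_9_2 lc_b_Cert_tree lc_b_Cert_tree lc_b_Cert_tree) (@D3.rec (fun _ => (Cert rels S Gen.b)) lc_b_rc_10_2 lc_b_Cert_tree lc_b_rc_6_1 lc_b_rc_8_2 lc_b_rc_7_4 lc_b_rc_9_2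 lc_b_rc_26_1 lc_b_rc_10_2 lc_b_rc_8_2 lc_b_rc_8_2 lc_b_Cert_tree lc_b_Cert_tree lc_b_rc_6_1 lc_b_rc_26_7 lc_b_rc_8_0 lc_b_rc_6_1 lc_b_rc_26_5 lc_b_rc_9_2 lc_b_rc_6_1 lc_b_Cert_tree lc_b_rc_1_3 lc_b_rc_9_2 lc_b_rc_6_1 lc_b_rc_26_7 lc_b_rc_9_2 lc_b_rc_6_1 lc_b_rc_25_8 lc_b_rc_1_5 lc_b_rc_26_5 lc_b_rc_10_2 lc_b_rc_8_0 lc_b_rc_26_7 lc_b_rc_26_5 lc_b_rc_8_2 lc_b_rc_9_2 lc_b_rc_9_2 lc_b_rc_10_2 lc_b_rc_6_1 lc_b_rc_10_2 lc_b_rc_8_2 lc_b_rc_9_2 lc_b_rc_6_1 lc_b_rc_9_2 lc_b_rc_6_1 lc_b_Cert_tree lc_b_rc_1_3 lc_b_rc_9_2 lc_b_rc_8_2 lc_b_rc_26_5 lc_b_rc_1_5 lc_b_rc_26_5 lc_b_rc_6_1 lc_b_Cert_tree lc_b_rc_1_5 lc_b_rc_6_1 lc_b_rc_6_1 lc_b_rc_26_1 lc_b_rc_8_2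 lc_b_rc_9_2 lc_b_rc_6_1 lc_b_rc_26_5 lc_b_rc_6_1) (@D3.rec (fun _ => (Cert rels S Gen.b)) lc_b_rc_9_2 lc_b_rc_1_3 lc_b_rc_1_3 lc_b_Cert_tree lc_b_rc_1_5 lc_b_rc_7_4 lc_b_rc_9_2 lc_b_Cert_tree lc_b_rc_6_1 lc_b_rc_8_2 lc_b_rc_10_2 lc_b_rc_10_2 lc_b_rc_1_5 lc_b_rc_26_5 lc_b_rc_6_1 lc_b_rc_8_2 lc_b_rc_9_2 lc_b_rc_6_1 lc_b_rc_8_2 lc_b_Cert_tree lc_b_Cert_tree lc_b_Cert_tree lc_b_rc_10_2 lc_b_Cert_tree lc_b_rc_8_2 lc_b_rc_6_1 lc_b_rc_8_2 lc_b_rc_7_4 lc_b_Cert_tree lc_b_Cert_tree lc_b_rc_10_2 lc_b_rc_6_1 lc_b_rc_8_2 lc_b_rc_10_2 lc_b_rc_6_1 lc_b_rc_26_1 lc_b_rc_1_3 lc_b_rc_8_2 lc_b_rc_10_2 lc_b_rc_1_3 lc_b_Cert_tree lc_b_rc_1_3 lc_b_rc_8_2 lc_b_rc_9_2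 lc_b_rc_9_2 lc_b_rc_9_2 lc_b_rc_1_5 lc_b_rc_8_2 lc_b_rc_6_1 lc_b_Cert_tree lc_b_rc_1_3 lc_b_rc_6_1 lc_b_Cert_tree lc_b_rc_1_3 lc_b_rc_6_1 lc_b_rc_7_2 lc_b_rc_9_2 lc_b_rc_6_1 lc_b_rc_26_5 lc_b_rc_8_2 lc_b_rc_1_1 lc_b_rc_1_3) (@D3.rec (fun _ => (Cert rels S Gen.b)) lc_b_Cert_tree lc_b_rc_7_4 lc_b_rc_9_2 lc_b_Cert_tree lc_b_rc_6_1 lc_b_rc_8_2 lc_b_rc_10_2 lc_b_rc_6_1 lc_b_rc_6_1 lc_b_Cert_tree lc_b_Cert_tree lc_b_rc_8_2 lc_b_rc_10_2 lc_b_rc_6_1 lc_b_rc_26_1 lc_b_rc_6_1 lc_b_rc_8_2 lc_b_rc_9_2 lc_b_Cert_tree lc_b_Cert_tree lc_b_rc_8_2 lc_b_rc_8_2 lc_b_rc_6_1 lc_b_rc_8_2 lc_b_rc_7_2 lc_b_rc_8_2 lc_b_rc_7_4 lc_b_rc_6_1 lc_b_rc_6_1 lc_b_rc_10_2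 lc_b_rc_26_7 lc_b_Cert_tree lc_b_rc_9_0 lc_b_rc_9_2 lc_b_rc_26_5 lc_b_Cert_tree lc_b_rc_8_2 lc_b_rc_10_2 lc_b_rc_8_2 lc_b_rc_26_5 lc_b_Cert_tree lc_b_rc_10_2 lc_b_rc_6_1 lc_b_Cert_tree lc_b_rc_6_1 lc_b_rc_26_5 lc_b_rc_9_2 lc_b_rc_8_2 lc_b_rc_1_3 lc_b_rc_6_1 lc_b_rc_26_1 lc_b_rc_7_4 lc_b_rc_9_2 lc_b_rc_1_5 lc_b_rc_10_2 lc_b_Cert_tree lc_b_rc_7_4 lc_b_rc_10_2 lc_b_rc_6_1 lc_b_rc_9_2 lc_b_rc_8_2 lc_b_rc_9_2) (@D3.rec (fun _ => (Cert rels S Gen.b)) lc_b_rc_25_0 lc_b_Cert_tree lc_b_rc_8_2 lc_b_rc_7_0 lc_b_rc_9_2 lc_b_rc_9_2 lc_b_rc_6_1 lc_b_rc_8_2 lc_b_rc_9_2 lc_b_rc_8_0 lc_b_Cert_tree lc_b_rc_6_1 lc_b_rc_8_0 lc_b_rc_6_1 lc_b_Cert_tree lc_b_rc_9_0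 lc_b_rc_25_0 lc_b_rc_6_1 lc_b_rc_26_5 lc_b_rc_8_2 lc_b_rc_7_4 lc_b_rc_1_3 lc_b_rc_1_1 lc_b_rc_6_1 lc_b_rc_7_2 lc_b_rc_8_2 lc_b_rc_9_2 lc_b_Cert_tree lc_b_Cert_tree lc_b_rc_9_2 lc_b_Cert_tree lc_b_Cert_tree lc_b_rc_8_2 lc_b_rc_10_2 lc_b_rc_6_1 lc_b_rc_10_2 lc_b_rc_6_1 lc_b_rc_6_1 lc_b_rc_6_1 lc_b_Cert_tree lc_b_rc_8_2 lc_b_rc_10_2 lc_b_rc_10_2 lc_b_rc_8_2 lc_b_rc_25_16 lc_b_rc_10_2 lc_b_rc_6_1 lc_b_rc_26_1 lc_b_rc_8_2 lc_b_rc_6_1 lc_b_rc_26_5 lc_b_rc_8_2 lc_b_rc_9_2 lc_b_rc_8_2 lc_b_rc_8_0 lc_b_Cert_tree lc_b_Cert_tree lc_b_rc_7_4 lc_b_rc_9_2 lc_b_Cert_tree lc_b_rc_26_1 lc_b_rc_8_2) (@D3.rec (fun _ => (Cert rels S Gen.b)) lc_b_rc_10_2 lc_b_Cert_tree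 lc_b_rc_6_1 lc_b_rc_26_5 lc_b_rc_10_2 lc_b_rc_8_2 lc_b_Cert_tree lc_b_rc_1_5 lc_b_rc_9_0 lc_b_rc_1_3 lc_b_rc_6_1 lc_b_rc_8_2 lc_b_rc_9_2 lc_b_rc_6_1 lc_b_rc_1_1 lc_b_rc_8_2 lc_b_rc_9_2 lc_b_rc_1_1 lc_b_rc_26_1 lc_b_rc_9_2 lc_b_rc_9_0 lc_b_rc_7_4 lc_b_rc_26_1 lc_b_rc_8_2 lc_b_rc_26_5 lc_b_rc_8_2 lc_b_Cert_tree lc_b_rc_9_2 lc_b_Cert_tree lc_b_Cert_tree lc_b_rc_9_2 lc_b_rc_6_1 lc_b_rc_26_1 lc_b_rc_9_2 lc_b_rc_6_1 lc_b_Cert_tree lc_b_Cert_tree lc_b_rc_9_0 lc_b_rc_6_1 lc_b_rc_7_4 lc_b_rc_9_2 lc_b_rc_9_0 lc_b_rc_8_0 lc_b_rc_1_3 lc_b_rc_7_4 lc_b_rc_9_2 lc_b_Cert_tree lc_b_rc_9_2 lc_b_rc_8_2 lc_b_rc_9_2 lc_b_rc_10_2 lc_b_rc_7_2 lc_b_rc_9_2 lc_b_rc_1_5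 lc_b_rc_8_2 lc_b_rc_10_2 lc_b_rc_26_5 lc_b_Cert_tree lc_b_rc_10_2 lc_b_rc_9_2 lc_b_rc_6_1 lc_b_rc_6_1) (@D3.rec (fun _ => (Cert rels S Gen.b)) lc_b_rc_6_1 lc_b_rc_6_1 lc_b_rc_26_5 lc_b_rc_8_2 lc_b_rc_9_2 lc_b_rc_1_5 lc_b_rc_8_2 lc_b_rc_6_1 lc_b_rc_26_1 lc_b_rc_8_2 lc_b_rc_9_2 lc_b_rc_6_1 lc_b_rc_8_2 lc_b_rc_9_2 lc_b_rc_6_1 lc_b_rc_8_2 lc_b_rc_9_2 lc_b_rc_9_2 lc_b_rc_26_7 lc_b_rc_10_2 lc_b_rc_8_2 lc_b_rc_9_2 lc_b_rc_6_1 lc_b_rc_8_2 lc_b_rc_26_5 lc_b_Cert_tree lc_b_rc_6_1 lc_b_rc_6_1 lc_b_rc_1_3 lc_b_rc_10_2 lc_b_rc_7_4 lc_b_rc_10_2 lc_b_rc_9_0 lc_b_rc_8_2 lc_b_rc_8_2 lc_b_Cert_tree lc_b_rc_1_3 lc_b_rc_8_2 lc_b_rc_9_2 lc_b_rc_9_2 lc_b_Cert_tree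 lc_b_rc_7_4 lc_b_rc_10_0 lc_b_rc_9_0 lc_b_rc_26_5 lc_b_rc_26_1 lc_b_rc_9_2 lc_b_rc_6_1 lc_b_rc_8_2 lc_b_rc_9_2 lc_b_rc_9_2 lc_b_rc_26_1 lc_b_rc_9_0 lc_b_Cert_tree lc_b_rc_26_5 lc_b_rc_1_3 lc_b_rc_9_2 lc_b_rc_8_2 lc_b_rc_10_2 lc_b_rc_7_4 lc_b_rc_26_5 lc_b_rc_10_2) (@D3.rec (fun _ => (Cert rels S Gen.b)) lc_b_rc_6_1 lc_b_rc_1_3 lc_b_rc_8_2 lc_b_rc_9_2 lc_b_rc_6_1 lc_b_rc_9_2 lc_b_Cert_tree lc_b_rc_8_2 lc_b_rc_10_2 lc_b_rc_26_5 lc_b_rc_9_2 lc_b_rc_8_2 lc_b_rc_7_2 lc_b_Cert_tree lc_b_rc_1_3 lc_b_rc_8_2 lc_b_rc_9_2 lc_b_rc_9_2 lc_b_rc_26_7 lc_b_rc_8_2 lc_b_rc_10_2 lc_b_rc_6_1 lc_b_Cert_tree lc_b_rc_1_3 lc_b_rc_8_2 lc_b_rc_9_2 lc_b_rc_9_2 lc_b_rc_8_2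 lc_b_rc_10_2 lc_b_Cert_tree lc_b_Cert_tree lc_b_rc_1_3 lc_b_rc_8_2 lc_b_rc_9_2 lc_b_rc_9_2 lc_b_rc_8_2 lc_b_rc_6_1 lc_b_rc_7_2 lc_b_rc_6_1 lc_b_rc_8_2 lc_b_rc_6_1 lc_b_rc_9_2 lc_b_rc_6_1 lc_b_rc_9_2 lc_b_rc_6_1 lc_b_rc_9_2 lc_b_Cert_tree lc_b_Cert_tree lc_b_rc_9_2 lc_b_rc_10_2 lc_b_rc_6_1 lc_b_rc_26_5 lc_b_rc_8_2 lc_b_rc_6_1 lc_b_rc_8_0 lc_b_rc_8_2 lc_b_rc_9_2 lc_b_Cert_tree lc_b_Cert_tree lc_b_Cert_tree lc_b_rc_8_2 lc_b_rc_9_2) (@D3.rec (fun _ => (Cert rels S Gen.b)) lc_b_rc_6_1 lc_b_rc_25_16 lc_b_rc_6_1 lc_b_rc_8_2 lc_b_rc_9_2 lc_b_rc_26_1 lc_b_rc_26_5 lc_b_rc_6_1 lc_b_rc_1_3 lc_b_Cert_tree lc_b_rc_8_2 lc_b_Cert_tree lc_b_rc_7_2 lc_b_rc_6_1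 lc_b_rc_6_1 lc_b_rc_6_1 lc_b_rc_8_2 lc_b_Cert_tree lc_b_rc_7_0 lc_b_rc_8_2 lc_b_Cert_tree lc_b_rc_1_3 lc_b_rc_8_2 lc_b_rc_9_2 lc_b_rc_9_2 lc_b_rc_8_2 lc_b_rc_8_2 lc_b_rc_6_1 lc_b_Cert_tree lc_b_rc_1_3 lc_b_rc_8_2 lc_b_rc_9_2 lc_b_rc_10_2 lc_b_Cert_tree lc_b_rc_1_3 lc_b_rc_9_2 lc_b_rc_9_2 lc_b_rc_10_2 lc_b_rc_10_2 lc_b_rc_6_1 lc_b_rc_6_1 lc_b_rc_6_1 lc_b_rc_6_1 lc_b_rc_26_5 lc_b_rc_9_2 lc_b_rc_6_1 lc_b_rc_9_2 lc_b_rc_26_1 lc_b_rc_9_0 lc_b_rc_9_2 lc_b_rc_1_5 lc_b_rc_6_1 lc_b_rc_8_2 lc_b_Cert_tree lc_b_Cert_tree lc_b_rc_7_2 lc_b_rc_10_2 lc_b_rc_6_1 lc_b_rc_26_5 lc_b_rc_9_2 lc_b_rc_8_2 lc_b_rc_6_1) (@D3.rec (fun _ => (Cert rels S Gen.b)) lc_b_rc_9_0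 lc_b_rc_8_2 lc_b_Cert_tree lc_b_Cert_tree lc_b_rc_6_1 lc_b_rc_8_2 lc_b_rc_10_2 lc_b_rc_6_1 lc_b_Cert_tree lc_b_rc_1_3 lc_b_rc_6_1 lc_b_Cert_tree lc_b_rc_6_1 lc_b_rc_10_2 lc_b_rc_6_1 lc_b_rc_6_1 lc_b_rc_6_1 lc_b_Cert_tree lc_b_rc_9_0 lc_b_rc_9_2 lc_b_rc_8_2 lc_b_rc_10_2 lc_b_rc_6_1 lc_b_Cert_tree lc_b_rc_9_2 lc_b_rc_26_5 lc_b_Cert_tree lc_b_rc_1_5 lc_b_rc_1_3 lc_b_rc_8_2 lc_b_rc_9_2 lc_b_rc_25_0 lc_b_rc_25_4 lc_b_rc_26_5 lc_b_rc_26_7 lc_b_rc_1_5 lc_b_Cert_tree lc_b_Cert_tree lc_b_Cert_tree lc_b_Cert_tree lc_b_rc_1_3 lc_b_rc_9_2 lc_b_rc_8_2 lc_b_rc_6_1 lc_b_rc_1_3 lc_b_rc_6_1 lc_b_rc_9_2 lc_b_rc_6_1 lc_b_rc_8_2 lc_b_rc_7_0 lc_b_Cert_tree lc_b_rc_7_4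 lc_b_rc_9_2 lc_b_rc_8_2 lc_b_rc_6_1 lc_b_rc_9_2 lc_b_rc_6_1 lc_b_rc_9_2 lc_b_Cert_tree lc_b_Cert_tree lc_b_rc_8_2 lc_b_rc_8_2) (@D3.rec (fun _ => (Cert rels S Gen.b)) lc_b_rc_6_1 lc_b_rc_26_5 lc_b_rc_7_0 lc_b_rc_9_2 lc_b_rc_6_1 lc_b_rc_8_0 lc_b_rc_8_2 lc_b_rc_9_2 lc_b_rc_10_2 lc_b_Cert_tree lc_b_rc_7_4 lc_b_rc_8_2 lc_b_rc_8_2 lc_b_Cert_tree lc_b_rc_6_1 lc_b_rc_7_2 lc_b_rc_26_1 lc_b_rc_7_4 lc_b_rc_6_1 lc_b_rc_8_2 lc_b_rc_9_2 lc_b_Cert_tree lc_b_rc_6_1 lc_b_rc_8_2 lc_b_rc_6_1 lc_b_rc_25_4 lc_b_Cert_tree lc_b_rc_6_1 lc_b_Cert_tree lc_b_rc_6_1 lc_b_rc_9_0 lc_b_rc_1_3 lc_b_rc_8_2 lc_b_rc_8_2 lc_b_rc_6_1 lc_b_Cert_tree lc_b_rc_9_2 lc_b_rc_9_2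 lc_b_Cert_tree lc_b_rc_8_2 lc_b_rc_1_5 lc_b_rc_26_5 lc_b_rc_26_7 lc_b_rc_8_2 lc_b_rc_1_3 lc_b_rc_6_1 lc_b_rc_8_2 lc_b_rc_1_3 lc_b_rc_9_2 lc_b_rc_8_2 lc_b_rc_6_1 lc_b_rc_6_1 lc_b_rc_1_1 lc_b_rc_1_3 lc_b_Cert_tree lc_b_rc_9_2 lc_b_rc_6_1 lc_b_rc_6_1 lc_b_rc_9_2 lc_b_Cert_tree lc_b_rc_6_1 lc_b_rc_8_2) (@D3.rec (fun _ => (Cert rels S Gen.b)) lc_b_rc_26_5 lc_b_rc_6_1 lc_b_rc_9_2 lc_b_rc_6_1 lc_b_Cert_tree lc_b_Cert_tree lc_b_Cert_tree lc_b_rc_8_2 lc_b_Cert_tree lc_b_rc_8_2 lc_b_rc_25_4 lc_b_rc_6_1 lc_b_rc_8_2 lc_b_rc_26_1 lc_b_rc_6_1 lc_b_rc_8_2 lc_b_rc_9_2 lc_b_rc_8_2 lc_b_rc_9_2 lc_b_rc_6_1 lc_b_Cert_tree lc_b_rc_6_1 lc_b_rc_6_1 lc_b_rc_6_1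 lc_b_rc_9_2 lc_b_rc_7_2 lc_b_rc_6_1 lc_b_rc_8_2 lc_b_rc_26_5 lc_b_rc_6_1 lc_b_rc_8_2 lc_b_rc_6_1 lc_b_rc_8_2 lc_b_rc_9_2 lc_b_rc_6_1 lc_b_rc_8_2 lc_b_rc_10_2 lc_b_rc_8_2 lc_b_rc_9_2 lc_b_rc_10_2 lc_b_rc_8_2 lc_b_rc_8_0 lc_b_rc_6_1 lc_b_rc_6_1 lc_b_rc_10_2 lc_b_rc_9_2 lc_b_Cert_tree lc_b_rc_1_1 lc_b_rc_6_1 lc_b_rc_8_2 lc_b_rc_10_2 lc_b_rc_6_1 lc_b_rc_7_0 lc_b_rc_8_2 lc_b_rc_9_2 lc_b_rc_6_1 lc_b_rc_9_2 lc_b_rc_6_1 lc_b_rc_6_1 lc_b_rc_8_2 lc_b_rc_6_1 lc_b_rc_8_2) (@D3.rec (fun _ => (Cert rels S Gen.b)) lc_b_rc_9_2 lc_b_rc_6_1 lc_b_rc_8_2 lc_b_rc_6_1 lc_b_rc_8_2 lc_b_rc_6_1 lc_b_rc_8_2 lc_b_rc_6_1 lc_b_rc_8_2 lc_b_Cert_tree lc_b_Cert_tree lc_b_Cert_tree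 lc_b_rc_9_2 lc_b_rc_8_0 lc_b_rc_8_0 lc_b_rc_8_2 lc_b_Cert_tree lc_b_Cert_tree lc_b_rc_26_5 lc_b_rc_1_5 lc_b_rc_6_1 lc_b_Cert_tree lc_b_rc_9_0 lc_b_rc_1_5 lc_b_rc_6_1 lc_b_rc_8_2 lc_b_rc_26_7 lc_b_rc_6_1 lc_b_rc_7_2 lc_b_rc_6_1 lc_b_rc_10_0 lc_b_rc_9_2 lc_b_rc_7_4 lc_b_rc_10_2 lc_b_rc_6_1 lc_b_rc_9_2 lc_b_rc_6_1 lc_b_rc_7_0 lc_b_rc_1_3 lc_b_rc_8_2 lc_b_rc_9_2 lc_b_rc_8_0 lc_b_rc_6_1 lc_b_rc_26_5 lc_b_rc_7_0 lc_b_rc_8_0 lc_b_rc_9_2 lc_b_rc_8_2 lc_b_rc_8_0 lc_b_Cert_tree lc_b_rc_8_2 lc_b_rc_1_5 lc_b_rc_1_3 lc_b_rc_9_2 lc_b_rc_26_1 lc_b_rc_10_2 lc_b_rc_8_2 lc_b_Cert_tree lc_b_rc_1_3 lc_b_rc_8_2 lc_b_rc_9_2 lc_b_rc_9_2) (@D3.rec (fun _ => (Cert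 rels S Gen.b)) lc_b_Cert_tree lc_b_rc_26_7 lc_b_rc_10_2 lc_b_rc_10_2 lc_b_Cert_tree lc_b_rc_9_2 lc_b_rc_9_2 lc_b_rc_9_2 lc_b_rc_6_1 lc_b_rc_8_2 lc_b_rc_9_2 lc_b_Cert_tree lc_b_rc_8_2 lc_b_rc_26_7 lc_b_rc_9_0 lc_b_rc_26_1 lc_b_Cert_tree lc_b_rc_1_3 lc_b_rc_8_2 lc_b_rc_9_2 lc_b_rc_26_7 lc_b_rc_9_2 lc_b_Cert_tree lc_b_rc_10_2 lc_b_rc_9_0 lc_b_rc_8_2 lc_b_rc_9_2 lc_b_rc_9_2 lc_b_rc_6_1 lc_b_rc_8_2 lc_b_rc_6_1 lc_b_rc_6_1 lc_b_rc_6_1 lc_b_rc_8_2 lc_b_rc_6_1 lc_b_rc_9_2 lc_b_Cert_tree lc_b_rc_9_2 lc_b_rc_10_2 lc_b_rc_6_1 lc_b_rc_6_1 lc_b_rc_9_2 lc_b_rc_8_2 lc_b_rc_6_1 lc_b_rc_6_1 lc_b_rc_10_0 lc_b_Cert_tree lc_b_rc_9_2 lc_b_rc_6_1 lc_b_rc_9_2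 lc_b_rc_9_2 lc_b_Cert_tree lc_b_rc_9_2 lc_b_rc_7_0 lc_b_rc_1_3 lc_b_rc_8_2 lc_b_rc_9_2 lc_b_rc_9_2 lc_b_Cert_tree lc_b_Cert_tree lc_b_rc_8_2 lc_b_rc_7_2) (@D3.rec (fun _ => (Cert rels S Gen.b)) lc_b_rc_26_1 lc_b_rc_8_2 lc_b_rc_6_1 lc_b_rc_25_12 lc_b_rc_8_2 lc_b_Cert_tree lc_b_rc_8_0 lc_b_rc_8_2 lc_b_rc_7_4 lc_b_rc_26_7 lc_b_rc_9_2 lc_b_rc_8_2 lc_b_rc_9_2 lc_b_rc_25_0 lc_b_rc_7_0 lc_b_rc_6_1 lc_b_rc_26_5 lc_b_rc_1_3 lc_b_rc_1_5 lc_b_rc_6_1 lc_b_rc_9_2 lc_b_rc_6_1 lc_b_rc_8_2 lc_b_rc_9_2 lc_b_rc_9_2 lc_b_rc_9_0 lc_b_rc_1_5 lc_b_rc_6_1 lc_b_rc_10_2 lc_b_rc_9_0 lc_b_rc_6_1 lc_b_rc_1_3 lc_b_Cert_tree lc_b_rc_26_5 lc_b_rc_6_1 lc_b_rc_8_2 lc_b_rc_8_2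 lc_b_rc_1_1 lc_b_rc_8_2 lc_b_rc_9_2 lc_b_rc_9_2 lc_b_rc_1_3 lc_b_rc_9_2 lc_b_rc_26_7 lc_b_rc_7_2 lc_b_rc_6_1 lc_b_rc_6_1 lc_b_rc_9_0 lc_b_rc_6_1 lc_b_rc_7_2 lc_b_rc_6_1 lc_b_rc_10_2 lc_b_rc_25_4 lc_b_rc_8_0 lc_b_rc_6_1 lc_b_rc_7_0 lc_b_Cert_tree lc_b_rc_6_1 lc_b_rc_8_2 lc_b_rc_7_2 lc_b_rc_9_0 lc_b_rc_1_3) (@D3.rec (fun _ => (Cert rels S Gen.b)) lc_b_rc_8_2 lc_b_rc_9_2 lc_b_rc_6_1 lc_b_rc_9_2 lc_b_rc_9_2 lc_b_rc_6_1 lc_b_rc_8_2 lc_b_rc_1_5 lc_b_rc_9_2 lc_b_rc_8_2 lc_b_rc_9_2 lc_b_rc_8_0 lc_b_rc_8_2 lc_b_Cert_tree lc_b_rc_9_2 lc_b_rc_1_5 lc_b_rc_9_2 lc_b_rc_9_2 lc_b_Cert_tree lc_b_rc_7_0 lc_b_rc_6_1 lc_b_rc_8_2 lc_b_rc_9_2 lc_b_rc_8_0 lc_b_rc_8_0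 lc_b_rc_6_1 lc_b_rc_10_2 lc_b_rc_9_2 lc_b_Cert_tree lc_b_rc_9_0 lc_b_rc_9_0 lc_b_rc_9_2 lc_b_rc_8_0 lc_b_rc_6_1 lc_b_rc_9_2 lc_b_rc_6_1 lc_b_rc_8_2 lc_b_rc_6_1 lc_b_rc_1_1 lc_b_rc_6_1 lc_b_rc_6_1 lc_b_rc_8_0 lc_b_rc_6_1 lc_b_rc_10_2 lc_b_rc_6_1 lc_b_rc_10_2 lc_b_Cert_tree lc_b_rc_7_0 lc_b_rc_1_3 lc_b_rc_8_2 lc_b_rc_9_2 lc_b_rc_9_2 lc_b_rc_6_1 lc_b_rc_26_5 lc_b_rc_10_2 lc_b_rc_26_5 lc_b_rc_10_2 lc_b_Cert_tree lc_b_rc_1_3 lc_b_rc_8_2 lc_b_rc_1_5 lc_b_rc_10_2) (@D3.rec (fun _ => (Cert rels S Gen.b)) lc_b_rc_6_1 lc_b_rc_10_2 lc_b_Cert_tree lc_b_Cert_tree lc_b_rc_1_3 lc_b_rc_8_2 lc_b_rc_1_3 lc_b_rc_26_1 lc_b_rc_26_5 lc_b_rc_26_1 lc_b_rc_9_2 lc_b_rc_10_2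 lc_b_Cert_tree lc_b_rc_1_5 lc_b_rc_1_3 lc_b_rc_8_2 lc_b_rc_9_2 lc_b_rc_6_1 lc_b_rc_9_2 lc_b_rc_9_2 lc_b_rc_10_2 lc_b_rc_6_1 lc_b_rc_10_2 lc_b_rc_6_1 lc_b_Cert_tree lc_b_rc_9_2 lc_b_rc_1_1 lc_b_rc_10_2 lc_b_rc_6_1 lc_b_rc_8_2 lc_b_rc_1_5 lc_b_rc_1_3 lc_b_rc_8_2 lc_b_rc_9_2 lc_b_rc_6_1 lc_b_rc_7_2 lc_b_rc_1_3 lc_b_rc_8_2 lc_b_rc_9_2 lc_b_rc_8_2 lc_b_rc_9_2 lc_b_rc_9_0 lc_b_rc_6_1 lc_b_rc_6_1 lc_b_rc_10_2 lc_b_rc_10_2 lc_b_rc_1_3 lc_b_rc_8_2 lc_b_rc_9_2 lc_b_rc_9_2 lc_b_rc_8_2 lc_b_rc_10_2 lc_b_rc_7_4 lc_b_rc_6_1 lc_b_rc_7_2 lc_b_rc_26_7 lc_b_rc_9_2 lc_b_rc_10_2 lc_b_rc_6_1 lc_b_Cert_tree lc_b_rc_1_3 lc_b_rc_8_2) (@D3.rec (fun _ => (Cert rels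 S Gen.b)) lc_b_rc_9_2 lc_b_rc_9_2 lc_b_rc_8_2 lc_b_rc_10_2 lc_b_rc_1_3 lc_b_Cert_tree lc_b_rc_6_1 lc_b_rc_8_2 lc_b_rc_8_2 lc_b_rc_9_2 lc_b_rc_10_2 lc_b_rc_6_1 lc_b_rc_8_2 lc_b_rc_9_2 lc_b_rc_8_2 lc_b_rc_9_0 lc_b_rc_9_0 lc_b_Cert_tree lc_b_rc_9_2 lc_b_rc_10_2 lc_b_rc_6_1 lc_b_rc_6_1 lc_b_rc_9_2 lc_b_Cert_tree lc_b_Cert_tree lc_b_rc_10_2 lc_b_rc_9_2 lc_b_rc_9_2 lc_b_rc_9_2 lc_b_rc_6_1 lc_b_rc_9_2 lc_b_rc_8_2 lc_b_rc_8_2 lc_b_Cert_tree lc_b_rc_1_3 lc_b_rc_8_2 lc_b_rc_9_2 lc_b_Cert_tree lc_b_Cert_tree lc_b_rc_8_2 lc_b_rc_10_2 lc_b_rc_9_2 lc_b_Cert_tree lc_b_Cert_tree lc_b_rc_1_3 lc_b_rc_8_2 lc_b_rc_9_2 lc_b_rc_7_4 lc_b_Cert_tree lc_b_Cert_tree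 lc_b_rc_8_2 lc_b_rc_7_4 lc_b_rc_8_2 lc_b_rc_1_3 lc_b_Cert_tree lc_b_rc_6_1 lc_b_rc_26_1 lc_b_rc_7_2 lc_b_rc_9_2 lc_b_rc_8_2 lc_b_rc_6_1 lc_b_rc_10_0) (@D3.rec (fun _ => (Cert rels S Gen.b)) lc_b_rc_8_2 lc_b_rc_9_2 lc_b_rc_1_3 lc_b_rc_25_4 lc_b_Cert_tree lc_b_rc_9_2 lc_b_rc_6_1 lc_b_rc_9_0 lc_b_rc_10_2 lc_b_rc_26_1 lc_b_rc_6_1 lc_b_Cert_tree lc_b_rc_9_2 lc_b_rc_6_1 lc_b_rc_26_5 lc_b_rc_9_2 lc_b_rc_6_1 lc_b_rc_6_1 lc_b_rc_6_1 lc_b_rc_1_5 lc_b_rc_9_2 lc_b_rc_10_2 lc_b_Cert_tree lc_b_rc_1_5 lc_b_rc_8_2 lc_b_rc_6_1 lc_b_rc_9_2 lc_b_rc_7_2 lc_b_rc_8_2 lc_b_rc_26_5 lc_b_Cert_tree lc_b_rc_8_2 lc_b_Cert_tree lc_b_rc_8_2 lc_b_rc_9_2 lc_b_rc_9_2 lc_b_rc_1_3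 lc_b_rc_8_2 lc_b_rc_9_0 lc_b_rc_26_1 lc_b_rc_10_2 lc_b_rc_6_1 lc_b_Cert_tree lc_b_rc_9_2 lc_b_rc_6_1 lc_b_rc_6_1 lc_b_rc_9_2 lc_b_rc_6_1 lc_b_rc_26_5 lc_b_rc_9_2 lc_b_rc_7_0 lc_b_rc_7_0 lc_b_rc_8_2 lc_b_rc_10_2 lc_b_rc_6_1 lc_b_rc_9_0 lc_b_rc_6_1 lc_b_rc_26_1 lc_b_rc_25_16 lc_b_Cert_tree lc_b_Cert_tree lc_b_Cert_tree) (@D3.rec (fun _ => (Cert rels S Gen.b)) lc_b_rc_9_0 lc_b_Cert_tree lc_b_rc_6_1 lc_b_rc_10_0 lc_b_rc_1_3 lc_b_rc_6_1 lc_b_rc_8_2 lc_b_rc_9_2 lc_b_rc_6_1 lc_b_rc_8_2 lc_b_Cert_tree lc_b_rc_9_2 lc_b_rc_9_2 lc_b_rc_10_2 lc_b_rc_9_2 lc_b_rc_6_1 lc_b_rc_1_3 lc_b_rc_9_2 lc_b_rc_8_2 lc_b_rc_9_2 lc_b_rc_26_1 lc_b_rc_6_1 lc_b_rc_8_2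 lc_b_rc_26_1 lc_b_rc_1_3 lc_b_Cert_tree lc_b_rc_9_2 lc_b_rc_1_5 lc_b_rc_8_2 lc_b_rc_10_2 lc_b_rc_9_2 lc_b_rc_1_3 lc_b_rc_10_2 lc_b_rc_7_2 lc_b_rc_8_2 lc_b_rc_9_2 lc_b_rc_8_2 lc_b_rc_9_2 lc_b_rc_8_0 lc_b_rc_7_4 lc_b_rc_6_1 lc_b_rc_8_2 lc_b_rc_10_2 lc_b_rc_9_2 lc_b_rc_6_1 lc_b_rc_1_5 lc_b_rc_9_2 lc_b_rc_6_1 lc_b_rc_9_2 lc_b_Cert_tree lc_b_rc_7_4 lc_b_rc_10_2 lc_b_Cert_tree lc_b_Cert_tree lc_b_rc_8_2 lc_b_rc_9_2 lc_b_rc_6_1 lc_b_rc_7_4 lc_b_rc_9_2 lc_b_rc_6_1 lc_b_rc_10_2 lc_b_rc_1_5) (@D3.rec (fun _ => (Cert rels S Gen.b)) lc_b_rc_26_7 lc_b_rc_7_4 lc_b_Cert_tree lc_b_Cert_tree lc_b_rc_1_3 lc_b_rc_8_2 lc_b_rc_9_2 lc_b_rc_26_7 lc_b_Cert_tree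 lc_b_rc_7_4 lc_b_rc_8_2 lc_b_rc_8_2 lc_b_Cert_tree lc_b_rc_7_2 lc_b_rc_6_1 lc_b_rc_7_2 lc_b_rc_1_3 lc_b_rc_8_2 lc_b_rc_9_2 lc_b_rc_10_0 lc_b_Cert_tree lc_b_Cert_tree lc_b_rc_10_2 lc_b_rc_9_0 lc_b_Cert_tree lc_b_Cert_tree lc_b_rc_9_2 lc_b_rc_7_2 lc_b_Cert_tree lc_b_rc_1_3 lc_b_rc_8_2 lc_b_rc_9_2 lc_b_rc_10_0 lc_b_rc_26_7 lc_b_rc_9_0 lc_b_rc_6_1 lc_b_rc_8_0 lc_b_rc_9_0 lc_b_rc_8_2 lc_b_rc_9_2 lc_b_rc_9_2 lc_b_rc_26_1 lc_b_rc_1_5 lc_b_rc_1_3 lc_b_rc_26_1 lc_b_rc_6_1 lc_b_rc_7_2 lc_b_rc_6_1 lc_b_rc_9_2 lc_b_rc_10_2 lc_b_rc_26_5 lc_b_rc_7_0 lc_b_rc_8_2 lc_b_rc_6_1 lc_b_Cert_tree lc_b_Cert_tree lc_b_rc_10_2 lc_b_rc_9_2 lc_b_rc_6_1 lc_b_rc_6_1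 lc_b_rc_6_1 lc_b_rc_6_1) (@D3.rec (fun _ => (Cert rels S Gen.b)) lc_b_rc_26_7 lc_b_rc_9_2 lc_b_Cert_tree lc_b_rc_6_1 lc_b_rc_8_2 lc_b_rc_26_5 lc_b_Cert_tree lc_b_Cert_tree lc_b_rc_1_3 lc_b_rc_8_2 lc_b_rc_9_2 lc_b_Cert_tree lc_b_rc_1_3 lc_b_rc_8_2 lc_b_rc_9_2 lc_b_rc_6_1 lc_b_rc_6_1 lc_b_Cert_tree lc_b_rc_26_5 lc_b_rc_6_1 lc_b_rc_26_7 lc_b_rc_1_3 lc_b_rc_8_2 lc_b_rc_9_2 lc_b_rc_9_2 lc_b_rc_8_2 lc_b_rc_10_2 lc_b_rc_7_2 lc_b_Cert_tree lc_b_rc_10_2 lc_b_rc_6_1 lc_b_rc_6_1 lc_b_Cert_tree lc_b_rc_10_2 lc_b_rc_9_2 lc_b_rc_1_3 lc_b_rc_26_5 lc_b_rc_8_2 lc_b_rc_7_4 lc_b_rc_9_2 lc_b_rc_6_1 lc_b_rc_9_2 lc_b_rc_6_1 lc_b_rc_6_1 lc_b_rc_8_2 lc_b_rc_8_0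 lc_b_rc_8_0 lc_b_rc_10_2 lc_b_rc_6_1 lc_b_Cert_tree lc_b_rc_6_1 lc_b_rc_1_3 lc_b_rc_8_2 lc_b_rc_9_2 lc_b_rc_9_2 lc_b_rc_26_7 lc_b_rc_8_0 lc_b_rc_1_1 lc_b_rc_6_1 lc_b_rc_1_3 lc_b_rc_8_2 lc_b_rc_8_2) (@D3.rec (fun _ => (Cert rels S Gen.b)) lc_b_rc_9_2 lc_b_rc_6_1 lc_b_rc_10_2 lc_b_Cert_tree lc_b_rc_9_0 lc_b_rc_6_1 lc_b_rc_10_2 lc_b_rc_6_1 lc_b_rc_9_2 lc_b_Cert_tree lc_b_rc_1_1 lc_b_rc_1_3 lc_b_rc_8_2 lc_b_rc_9_2 lc_b_rc_8_2 lc_b_rc_26_1 lc_b_rc_10_2 lc_b_rc_8_2 lc_b_rc_6_1 lc_b_rc_7_2 lc_b_rc_1_3 lc_b_rc_8_2 lc_b_rc_9_2 lc_b_rc_9_2 lc_b_Cert_tree lc_b_rc_26_1 lc_b_rc_8_2 lc_b_rc_10_2 lc_b_Cert_tree lc_b_Cert_tree lc_b_rc_26_7 lc_b_rc_9_2 lc_b_rc_8_2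 lc_b_rc_9_2 lc_b_rc_6_1 lc_b_Cert_tree lc_b_rc_1_3 lc_b_rc_8_2 lc_b_rc_9_2 lc_b_rc_9_2 lc_b_rc_8_2 lc_b_rc_10_2 lc_b_Cert_tree lc_b_rc_6_1 lc_b_Cert_tree lc_b_rc_8_2 lc_b_rc_9_2 lc_b_rc_8_2 lc_b_rc_6_1 lc_b_rc_26_5 lc_b_rc_8_2 lc_b_rc_8_2 lc_b_rc_8_2 lc_b_Cert_tree lc_b_Cert_tree lc_b_rc_10_2 lc_b_rc_9_2 lc_b_rc_6_1 lc_b_rc_9_2 lc_b_rc_6_1 lc_b_rc_8_0 lc_b_Cert_tree) (@D3.rec (fun _ => (Cert rels S Gen.b)) lc_b_Cert_tree lc_b_rc_10_2 lc_b_rc_6_1 lc_b_Cert_tree lc_b_rc_1_3 lc_b_rc_8_2 lc_b_rc_9_2 lc_b_rc_9_2 lc_b_Cert_tree lc_b_rc_26_5 lc_b_Cert_tree lc_b_Cert_tree lc_b_Cert_tree lc_b_rc_8_2 lc_b_rc_9_2 lc_b_rc_1_3 lc_b_rc_8_2 lc_b_Cert_tree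 lc_b_Cert_tree lc_b_rc_1_3 lc_b_rc_8_2 lc_b_rc_9_2 lc_b_rc_9_2 lc_b_rc_10_2 lc_b_rc_7_2 lc_b_rc_7_2 lc_b_rc_8_2 lc_b_rc_9_2 lc_b_rc_9_2 lc_b_rc_8_2 lc_b_rc_6_1 lc_b_Cert_tree lc_b_rc_7_4 lc_b_rc_9_2 lc_b_rc_6_1 lc_b_rc_26_5 lc_b_rc_8_2 lc_b_rc_9_2 lc_b_rc_1_3 lc_b_rc_1_1 lc_b_rc_6_1 lc_b_Cert_tree lc_b_rc_26_5 lc_b_rc_9_2 lc_b_Cert_tree lc_b_rc_9_0 lc_b_rc_8_2 lc_b_rc_10_2 lc_b_rc_6_1 lc_b_rc_9_2 lc_b_rc_6_1 lc_b_rc_9_2 lc_b_rc_6_1 lc_b_rc_9_2 lc_b_rc_10_2 lc_b_rc_9_0 lc_b_Cert_tree lc_b_rc_6_1 lc_b_rc_9_2 lc_b_Cert_tree lc_b_rc_26_5 lc_b_rc_6_1) (@D3.rec (fun _ => (Cert rels S Gen.b)) lc_b_Cert_tree lc_b_rc_26_5 lc_b_rc_1_3 lc_b_rc_8_2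 lc_b_rc_9_2 lc_b_rc_26_5 lc_b_rc_9_0 lc_b_Cert_tree lc_b_Cert_tree lc_b_rc_1_3 lc_b_rc_6_1 lc_b_rc_7_2 lc_b_rc_8_2 lc_b_rc_9_2 lc_b_rc_26_5 lc_b_rc_8_2 lc_b_rc_9_2 lc_b_rc_1_3 lc_b_rc_9_2 lc_b_Cert_tree lc_b_rc_8_2 lc_b_rc_6_1 lc_b_rc_9_2 lc_b_rc_6_1 lc_b_rc_8_2 lc_b_rc_10_2 lc_b_Cert_tree lc_b_rc_26_1 lc_b_rc_6_1 lc_b_rc_26_7 lc_b_rc_25_16 lc_b_rc_10_2 lc_b_rc_6_1 lc_b_rc_6_1 lc_b_Cert_tree lc_b_rc_26_5 lc_b_rc_9_2 lc_b_rc_26_7 lc_b_rc_8_2 lc_b_rc_1_3 lc_b_rc_6_1 lc_b_rc_1_3 lc_b_rc_1_5 lc_b_rc_6_1 lc_b_rc_26_5 lc_b_rc_1_3 lc_b_rc_1_1 lc_b_rc_6_1 lc_b_Cert_tree lc_b_rc_26_5 lc_b_rc_9_2 lc_b_rc_9_2 lc_b_rc_26_1 lc_b_rc_8_2 lc_b_rc_10_2 lc_b_rc_6_1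 lc_b_rc_26_1 lc_b_rc_6_1 lc_b_rc_9_2 lc_b_Cert_tree lc_b_rc_8_0 lc_b_rc_6_1)
def ce_b_16 : D2 → D3 → (Cert rels S Gen.b) := @D2.rec (fun _ => D3 → (Cert rels S Gen.b)) (@D3.rec (fun _ => (Cert rels S Gen.b)) lc_b_rc_8_2 lc_b_rc_6_1 lc_b_rc_9_2 lc_b_rc_6_1 lc_b_rc_6_1 lc_b_rc_8_0 lc_b_rc_7_4 lc_b_Cert_tree lc_b_rc_26_1 lc_b_rc_6_1 lc_b_rc_8_2 lc_b_rc_9_2 lc_b_rc_9_2 lc_b_rc_8_2 lc_b_rc_26_1 lc_b_rc_8_2 lc_b_rc_6_1 lc_b_rc_26_5 lc_b_rc_9_2 lc_b_rc_1_3 lc_b_Cert_tree lc_b_Cert_tree lc_b_rc_7_4 lc_b_rc_9_2 lc_b_rc_8_2 lc_b_rc_10_2 lc_b_Cert_tree lc_b_rc_8_2 lc_b_rc_10_2 lc_b_rc_6_1 lc_b_rc_26_7 lc_b_rc_8_2 lc_b_rc_9_2 lc_b_rc_6_1 lc_b_rc_7_4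 lc_b_Cert_tree lc_b_rc_26_5 lc_b_rc_8_2 lc_b_rc_9_2 lc_b_rc_6_1 lc_b_rc_8_2 lc_b_Cert_tree lc_b_Cert_tree lc_b_rc_6_1 lc_b_rc_8_2 lc_b_rc_10_2 lc_b_rc_6_1 lc_b_rc_6_1 lc_b_rc_8_2 lc_b_rc_9_2 lc_b_rc_6_1 lc_b_rc_26_5 lc_b_rc_8_2 lc_b_rc_1_3 lc_b_rc_8_2 lc_b_rc_1_3 lc_b_rc_6_1 lc_b_rc_26_1 lc_b_rc_8_2 lc_b_rc_9_2 lc_b_rc_1_3 lc_b_Cert_tree) (@D3.rec (fun _ => (Cert rels S Gen.b)) lc_b_rc_1_3 lc_b_rc_9_2 lc_b_rc_25_8 lc_b_rc_6_1 lc_b_rc_8_2 lc_b_rc_10_2 lc_b_rc_9_2 lc_b_rc_26_1 lc_b_rc_10_2 lc_b_rc_6_1 lc_b_rc_9_2 lc_b_rc_8_0 lc_b_rc_6_1 lc_b_Cert_tree lc_b_rc_8_2 lc_b_rc_6_1 lc_b_rc_26_5 lc_b_rc_8_2 lc_b_rc_1_5 lc_b_rc_8_2 lc_b_rc_1_3 lc_b_rc_9_2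 lc_b_rc_6_1 lc_b_rc_7_2 lc_b_rc_8_2 lc_b_rc_9_2 lc_b_Cert_tree lc_b_rc_7_4 lc_b_rc_9_2 lc_b_rc_26_1 lc_b_rc_25_0 lc_b_rc_8_2 lc_b_rc_10_2 lc_b_rc_9_2 lc_b_rc_9_2 lc_b_rc_10_2 lc_b_rc_7_2 lc_b_Cert_tree lc_b_rc_10_2 lc_b_rc_10_2 lc_b_rc_7_2 lc_b_rc_26_1 lc_b_rc_26_7 lc_b_rc_26_1 lc_b_rc_7_0 lc_b_rc_1_5 lc_b_rc_8_2 lc_b_rc_6_1 lc_b_rc_6_1 lc_b_Cert_tree lc_b_rc_6_1 lc_b_rc_7_2 lc_b_rc_1_1 lc_b_Cert_tree lc_b_Cert_tree lc_b_rc_6_1 lc_b_rc_1_1 lc_b_rc_8_2 lc_b_rc_9_2 lc_b_rc_1_1 lc_b_rc_8_2 lc_b_Cert_tree) (@D3.rec (fun _ => (Cert rels S Gen.b)) lc_b_Cert_tree lc_b_Cert_tree lc_b_rc_10_2 lc_b_rc_9_2 lc_b_Cert_tree lc_b_Cert_tree lc_b_rc_1_5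 lc_b_rc_9_2 lc_b_rc_6_1 lc_b_Cert_tree lc_b_rc_8_2 lc_b_rc_10_0 lc_b_rc_6_1 lc_b_Cert_tree lc_b_rc_7_0 lc_b_rc_7_4 lc_b_Cert_tree lc_b_Cert_tree lc_b_rc_8_2 lc_b_rc_6_1 lc_b_rc_9_2 lc_b_rc_6_1 lc_b_rc_9_2 lc_b_Cert_tree lc_b_rc_6_1 lc_b_rc_6_1 lc_b_rc_7_0 lc_b_rc_9_2 lc_b_rc_8_0 lc_b_rc_8_2 lc_b_rc_9_2 lc_b_rc_6_1 lc_b_rc_8_2 lc_b_rc_26_5 lc_b_rc_7_4 lc_b_rc_1_3 lc_b_rc_9_2 lc_b_rc_9_2 lc_b_rc_9_0 lc_b_rc_7_0 lc_b_rc_8_2 lc_b_rc_9_0 lc_b_rc_8_2 lc_b_rc_9_2 lc_b_rc_1_5 lc_b_rc_26_5 lc_b_Cert_tree lc_b_rc_6_1 lc_b_rc_25_16 lc_b_rc_9_2 lc_b_rc_1_5 lc_b_rc_7_2 lc_b_rc_8_2 lc_b_rc_6_1 lc_b_rc_26_7 lc_b_rc_9_2 lc_b_rc_7_2 lc_b_rc_6_1 lc_b_rc_26_1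 lc_b_rc_8_2 lc_b_Cert_tree lc_b_rc_10_2) (@D3.rec (fun _ => (Cert rels S Gen.b)) lc_b_rc_10_2 lc_b_rc_8_2 lc_b_rc_8_2 lc_b_rc_1_3 lc_b_rc_9_2 lc_b_Cert_tree lc_b_rc_8_2 lc_b_rc_1_3 lc_b_rc_9_2 lc_b_rc_6_1 lc_b_rc_9_2 lc_b_rc_10_2 lc_b_rc_1_5 lc_b_rc_9_2 lc_b_rc_6_1 lc_b_rc_9_2 lc_b_rc_6_1 lc_b_rc_6_1 lc_b_rc_26_1 lc_b_Cert_tree lc_b_rc_9_2 lc_b_rc_10_2 lc_b_rc_6_1 lc_b_rc_8_2 lc_b_rc_6_1 lc_b_rc_8_2 lc_b_rc_9_2 lc_b_Cert_tree lc_b_Cert_tree lc_b_rc_7_4 lc_b_Cert_tree lc_b_rc_6_1 lc_b_rc_8_2 lc_b_rc_9_0 lc_b_rc_9_2 lc_b_rc_26_5 lc_b_rc_9_2 lc_b_rc_26_5 lc_b_rc_26_5 lc_b_Cert_tree lc_b_Cert_tree lc_b_rc_1_3 lc_b_rc_8_2 lc_b_Cert_tree lc_b_rc_6_1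 lc_b_Cert_tree lc_b_rc_26_5 lc_b_rc_7_2 lc_b_rc_8_2 lc_b_rc_1_5 lc_b_rc_25_0 lc_b_rc_6_1 lc_b_rc_8_2 lc_b_rc_6_1 lc_b_rc_6_1 lc_b_rc_1_5 lc_b_rc_26_1 lc_b_Cert_tree lc_b_rc_8_2 lc_b_rc_6_1 lc_b_rc_10_2 lc_b_rc_1_3) (@D3.rec (fun _ => (Cert rels S Gen.b)) lc_b_rc_8_2 lc_b_rc_9_2 lc_b_rc_1_5 lc_b_rc_8_2 lc_b_Cert_tree lc_b_rc_8_2 lc_b_rc_8_0 lc_b_rc_7_0 lc_b_rc_6_1 lc_b_rc_9_2 lc_b_rc_6_1 lc_b_Cert_tree lc_b_rc_1_3 lc_b_rc_8_2 lc_b_rc_9_2 lc_b_rc_9_2 lc_b_Cert_tree lc_b_rc_8_2 lc_b_rc_6_1 lc_b_rc_9_0 lc_b_rc_1_3 lc_b_rc_8_2 lc_b_rc_9_2 lc_b_rc_6_1 lc_b_Cert_tree lc_b_rc_25_8 lc_b_rc_8_2 lc_b_rc_10_2 lc_b_rc_7_2 lc_b_rc_8_2 lc_b_rc_8_2 lc_b_rc_1_5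 lc_b_rc_1_3 lc_b_rc_9_2 lc_b_rc_8_2 lc_b_rc_8_2 lc_b_rc_10_2 lc_b_rc_1_3 lc_b_rc_9_2 lc_b_rc_8_2 lc_b_rc_10_2 lc_b_rc_6_1 lc_b_rc_6_1 lc_b_rc_6_1 lc_b_rc_9_2 lc_b_rc_6_1 lc_b_rc_1_5 lc_b_rc_6_1 lc_b_rc_9_2 lc_b_rc_8_0 lc_b_rc_8_0 lc_b_rc_1_5 lc_b_rc_8_0 lc_b_rc_6_1 lc_b_rc_26_1 lc_b_rc_9_0 lc_b_rc_1_5 lc_b_rc_8_2 lc_b_rc_6_1 lc_b_rc_6_1 lc_b_rc_8_2 lc_b_Cert_tree) (@D3.rec (fun _ => (Cert rels S Gen.b)) lc_b_rc_6_1 lc_b_rc_9_2 lc_b_rc_6_1 lc_b_Cert_tree lc_b_rc_9_2 lc_b_Cert_tree lc_b_rc_9_2 lc_b_rc_8_2 lc_b_rc_8_2 lc_b_rc_26_5 lc_b_rc_8_2 lc_b_rc_9_0 lc_b_rc_26_1 lc_b_rc_6_1 lc_b_rc_1_3 lc_b_rc_9_2 lc_b_rc_8_2 lc_b_rc_8_2 lc_b_Cert_tree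 lc_b_rc_1_3 lc_b_rc_6_1 lc_b_rc_9_2 lc_b_rc_9_2 lc_b_rc_8_2 lc_b_rc_6_1 lc_b_Cert_tree lc_b_rc_6_1 lc_b_rc_8_2 lc_b_rc_10_2 lc_b_rc_6_1 lc_b_rc_26_7 lc_b_rc_9_2 lc_b_rc_6_1 lc_b_rc_8_2 lc_b_rc_26_5 lc_b_Cert_tree lc_b_rc_7_2 lc_b_rc_1_5 lc_b_rc_8_2 lc_b_rc_25_8 lc_b_rc_6_1 lc_b_rc_10_0 lc_b_rc_26_1 lc_b_Cert_tree lc_b_Cert_tree lc_b_rc_9_2 lc_b_rc_6_1 lc_b_rc_1_5 lc_b_rc_26_5 lc_b_Cert_tree lc_b_rc_6_1 lc_b_rc_6_1 lc_b_rc_8_2 lc_b_rc_26_5 lc_b_rc_6_1 lc_b_rc_6_1 lc_b_rc_8_2 lc_b_rc_8_2 lc_b_rc_6_1 lc_b_rc_6_1 lc_b_rc_6_1 lc_b_Cert_tree) (@D3.rec (fun _ => (Cert rels S Gen.b)) lc_b_rc_1_3 lc_b_rc_8_2 lc_b_rc_9_2 lc_b_rc_8_2 lc_b_rc_26_1 lc_b_rc_1_5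 lc_b_rc_1_5 lc_b_rc_26_7 lc_b_Cert_tree lc_b_Cert_tree lc_b_rc_1_3 lc_b_rc_6_1 lc_b_Cert_tree lc_b_rc_1_3 lc_b_rc_9_2 lc_b_rc_8_2 lc_b_rc_6_1 lc_b_rc_6_1 lc_b_rc_8_2 lc_b_rc_8_2 lc_b_Cert_tree lc_b_rc_6_1 lc_b_rc_9_2 lc_b_rc_8_2 lc_b_rc_8_2 lc_b_rc_9_2 lc_b_rc_25_0 lc_b_rc_6_1 lc_b_rc_8_0 lc_b_rc_6_1 lc_b_Cert_tree lc_b_Cert_tree lc_b_rc_7_4 lc_b_rc_7_2 lc_b_rc_9_2 lc_b_rc_6_1 lc_b_rc_8_2 lc_b_rc_6_1 lc_b_rc_6_1 lc_b_rc_6_1 lc_b_rc_9_2 lc_b_rc_8_2 lc_b_rc_9_2 lc_b_rc_7_0 lc_b_rc_9_2 lc_b_rc_8_2 lc_b_rc_7_2 lc_b_rc_6_1 lc_b_rc_9_2 lc_b_rc_9_2 lc_b_rc_6_1 lc_b_rc_8_2 lc_b_rc_6_1 lc_b_rc_6_1 lc_b_rc_6_1 lc_b_rc_8_2 lc_b_rc_6_1 lc_b_rc_8_2 lc_b_rc_9_2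 lc_b_rc_8_2 lc_b_rc_7_0 lc_b_rc_10_2) (@D3.rec (fun _ => (Cert rels S Gen.b)) lc_b_rc_6_1 lc_b_rc_9_2 lc_b_rc_6_1 lc_b_rc_8_2 lc_b_rc_8_2 lc_b_rc_7_2 lc_b_rc_8_2 lc_b_rc_6_1 lc_b_rc_8_2 lc_b_rc_7_2 lc_b_rc_9_2 lc_b_rc_26_5 lc_b_rc_8_2 lc_b_rc_9_2 lc_b_rc_7_4 lc_b_Cert_tree lc_b_rc_8_0 lc_b_rc_8_2 lc_b_rc_6_1 lc_b_rc_8_2 lc_b_rc_9_0 lc_b_rc_7_4 lc_b_rc_9_2 lc_b_rc_26_5 lc_b_rc_26_5 lc_b_rc_10_2 lc_b_rc_6_1 lc_b_rc_10_2 lc_b_rc_1_3 lc_b_rc_9_2 lc_b_rc_8_0 lc_b_rc_9_2 lc_b_Cert_tree lc_b_rc_6_1 lc_b_rc_1_1 lc_b_rc_8_2 lc_b_rc_1_3 lc_b_rc_8_2 lc_b_rc_6_1 lc_b_Cert_tree lc_b_rc_7_2 lc_b_rc_9_2 lc_b_rc_8_2 lc_b_rc_8_2 lc_b_rc_6_1 lc_b_rc_1_1 lc_b_rc_9_2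 lc_b_rc_26_1 lc_b_rc_6_1 lc_b_rc_6_1 lc_b_rc_26_5 lc_b_rc_26_1 lc_b_Cert_tree lc_b_rc_7_4 lc_b_rc_8_0 lc_b_rc_7_2 lc_b_rc_6_1 lc_b_rc_8_2 lc_b_Cert_tree lc_b_rc_9_2 lc_b_rc_9_2 lc_b_rc_6_1) (@D3.rec (fun _ => (Cert rels S Gen.b)) lc_b_rc_26_5 lc_b_rc_10_2 lc_b_Cert_tree lc_b_rc_9_2 lc_b_rc_8_2 lc_b_rc_26_5 lc_b_rc_9_2 lc_b_rc_8_2 lc_b_rc_8_0 lc_b_rc_9_2 lc_b_rc_6_1 lc_b_Cert_tree lc_b_rc_9_2 lc_b_rc_6_1 lc_b_rc_26_5 lc_b_rc_9_2 lc_b_rc_10_2 lc_b_Cert_tree lc_b_rc_6_1 lc_b_rc_8_2 lc_b_rc_10_2 lc_b_Cert_tree lc_b_Cert_tree lc_b_Cert_tree lc_b_rc_10_2 lc_b_rc_9_2 lc_b_rc_9_2 lc_b_rc_6_1 lc_b_rc_7_4 lc_b_rc_10_2 lc_b_Cert_tree lc_b_Cert_tree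 lc_b_rc_1_3 lc_b_rc_8_0 lc_b_rc_9_2 lc_b_rc_6_1 lc_b_rc_7_4 lc_b_Cert_tree lc_b_rc_10_2 lc_b_rc_9_2 lc_b_rc_6_1 lc_b_rc_1_3 lc_b_rc_8_2 lc_b_rc_8_0 lc_b_rc_8_2 lc_b_rc_9_2 lc_b_rc_1_5 lc_b_rc_10_2 lc_b_rc_9_0 lc_b_Cert_tree lc_b_rc_25_4 lc_b_rc_8_2 lc_b_rc_9_2 lc_b_rc_9_2 lc_b_rc_8_0 lc_b_rc_26_1 lc_b_rc_6_1 lc_b_rc_26_5 lc_b_rc_7_2 lc_b_rc_1_3 lc_b_rc_8_2 lc_b_rc_9_2) (@D3.rec (fun _ => (Cert rels S Gen.b)) lc_b_rc_8_0 lc_b_rc_26_7 lc_b_Cert_tree lc_b_rc_8_2 lc_b_rc_26_5 lc_b_rc_7_2 lc_b_rc_8_2 lc_b_rc_6_1 lc_b_Cert_tree lc_b_rc_8_2 lc_b_rc_1_5 lc_b_Cert_tree lc_b_rc_8_2 lc_b_rc_1_3 lc_b_rc_8_2 lc_b_rc_9_2 lc_b_rc_10_2 lc_b_rc_9_2 lc_b_rc_7_4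 lc_b_rc_9_0 lc_b_rc_9_2 lc_b_rc_10_2 lc_b_rc_6_1 lc_b_rc_10_2 lc_b_rc_26_5 lc_b_rc_6_1 lc_b_rc_25_4 lc_b_rc_6_1 lc_b_rc_26_1 lc_b_rc_6_1 lc_b_Cert_tree lc_b_rc_8_2 lc_b_Cert_tree lc_b_rc_8_2 lc_b_Cert_tree lc_b_rc_9_2 lc_b_rc_8_2 lc_b_rc_10_2 lc_b_rc_9_2 lc_b_Cert_tree lc_b_rc_8_0 lc_b_rc_9_2 lc_b_rc_8_2 lc_b_rc_7_4 lc_b_rc_6_1 lc_b_rc_25_16 lc_b_rc_7_2 lc_b_rc_9_0 lc_b_rc_10_2 lc_b_Cert_tree lc_b_rc_10_2 lc_b_rc_9_2 lc_b_Cert_tree lc_b_Cert_tree lc_b_rc_10_2 lc_b_Cert_tree lc_b_rc_9_2 lc_b_Cert_tree lc_b_rc_8_2 lc_b_Cert_tree lc_b_rc_1_3 lc_b_rc_9_2) (@D3.rec (fun _ => (Cert rels S Gen.b)) lc_b_rc_8_2 lc_b_rc_6_1 lc_b_rc_1_3 lc_b_rc_10_2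 lc_b_rc_6_1 lc_b_Cert_tree lc_b_rc_8_2 lc_b_rc_9_2 lc_b_rc_6_1 lc_b_rc_26_5 lc_b_rc_9_0 lc_b_rc_8_2 lc_b_Cert_tree lc_b_Cert_tree lc_b_rc_7_4 lc_b_rc_9_2 lc_b_rc_7_4 lc_b_Cert_tree lc_b_rc_10_2 lc_b_rc_1_5 lc_b_rc_7_4 lc_b_Cert_tree lc_b_rc_8_2 lc_b_rc_7_4 lc_b_rc_9_2 lc_b_rc_7_4 lc_b_rc_9_2 lc_b_rc_10_0 lc_b_rc_10_2 lc_b_rc_9_2 lc_b_rc_8_2 lc_b_Cert_tree lc_b_rc_8_2 lc_b_rc_7_2 lc_b_rc_9_2 lc_b_rc_8_0 lc_b_rc_9_2 lc_b_Cert_tree lc_b_rc_6_1 lc_b_rc_7_2 lc_b_rc_9_2 lc_b_rc_6_1 lc_b_rc_9_2 lc_b_rc_6_1 lc_b_rc_9_2 lc_b_rc_10_2 lc_b_rc_9_2 lc_b_rc_7_4 lc_b_rc_9_2 lc_b_rc_1_1 lc_b_rc_26_7 lc_b_rc_10_2 lc_b_Cert_tree lc_b_rc_8_2 lc_b_rc_1_3 lc_b_rc_9_2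 lc_b_rc_10_0 lc_b_rc_26_5 lc_b_rc_8_0 lc_b_rc_6_1 lc_b_rc_26_5 lc_b_rc_9_2) (@D3.rec (fun _ => (Cert rels S Gen.b)) lc_b_rc_7_2 lc_b_rc_9_2 lc_b_rc_9_2 lc_b_rc_8_0 lc_b_rc_26_7 lc_b_rc_6_1 lc_b_rc_10_2 lc_b_rc_26_1 lc_b_rc_10_2 lc_b_Cert_tree lc_b_rc_8_0 lc_b_rc_1_3 lc_b_rc_8_2 lc_b_rc_9_2 lc_b_rc_8_2 lc_b_Cert_tree lc_b_rc_1_3 lc_b_rc_9_2 lc_b_rc_10_0 lc_b_rc_9_2 lc_b_rc_6_1 lc_b_rc_10_2 lc_b_rc_1_3 lc_b_rc_9_2 lc_b_rc_8_2 lc_b_rc_9_0 lc_b_rc_1_3 lc_b_rc_7_2 lc_b_rc_6_1 lc_b_rc_8_2 lc_b_rc_9_2 lc_b_rc_10_2 lc_b_rc_6_1 lc_b_rc_1_5 lc_b_rc_8_2 lc_b_rc_9_2 lc_b_rc_1_3 lc_b_rc_9_2 lc_b_rc_8_2 lc_b_rc_6_1 lc_b_rc_9_2 lc_b_rc_9_2 lc_b_Cert_tree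 lc_b_rc_7_4 lc_b_rc_26_7 lc_b_rc_8_2 lc_b_rc_8_2 lc_b_rc_9_2 lc_b_Cert_tree lc_b_rc_8_2 lc_b_rc_10_2 lc_b_rc_8_0 lc_b_rc_10_2 lc_b_Cert_tree lc_b_rc_10_2 lc_b_Cert_tree lc_b_rc_9_2 lc_b_rc_26_5 lc_b_rc_8_0 lc_b_Cert_tree lc_b_rc_9_2 lc_b_Cert_tree) (@D3.rec (fun _ => (Cert rels S Gen.b)) lc_b_rc_26_5 lc_b_rc_9_2 lc_b_Cert_tree lc_b_rc_25_4 lc_b_rc_8_2 lc_b_rc_6_1 lc_b_Cert_tree lc_b_rc_10_2 lc_b_rc_9_2 lc_b_rc_6_1 lc_b_rc_9_2 lc_b_rc_10_2 lc_b_rc_26_5 lc_b_Cert_tree lc_b_rc_10_2 lc_b_Cert_tree lc_b_Cert_tree lc_b_rc_1_3 lc_b_rc_6_1 lc_b_rc_10_2 lc_b_rc_9_2 lc_b_rc_6_1 lc_b_rc_9_0 lc_b_rc_9_2 lc_b_rc_26_7 lc_b_rc_6_1 lc_b_Cert_tree lc_b_rc_9_2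 lc_b_rc_8_2 lc_b_rc_9_2 lc_b_rc_8_2 lc_b_rc_1_3 lc_b_Cert_tree lc_b_rc_6_1 lc_b_rc_26_1 lc_b_rc_8_2 lc_b_rc_9_2 lc_b_rc_9_0 lc_b_rc_6_1 lc_b_rc_26_5 lc_b_rc_8_2 lc_b_rc_8_2 lc_b_Cert_tree lc_b_Cert_tree lc_b_rc_7_4 lc_b_rc_9_2 lc_b_Cert_tree lc_b_Cert_tree lc_b_rc_10_2 lc_b_rc_10_2 lc_b_rc_8_2 lc_b_rc_8_2 lc_b_rc_1_3 lc_b_rc_6_1 lc_b_rc_7_2 lc_b_rc_10_2 lc_b_rc_9_2 lc_b_rc_8_2 lc_b_rc_9_2 lc_b_rc_26_5 lc_b_rc_8_0 lc_b_rc_9_2) (@D3.rec (fun _ => (Cert rels S Gen.b)) lc_b_rc_8_2 lc_b_rc_9_2 lc_b_rc_9_0 lc_b_rc_9_2 lc_b_rc_10_2 lc_b_rc_1_3 lc_b_rc_6_1 lc_b_rc_8_0 lc_b_rc_8_2 lc_b_rc_9_2 lc_b_rc_7_0 lc_b_rc_10_0 lc_b_rc_6_1 lc_b_rc_8_2 lc_b_rc_6_1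 lc_b_rc_7_0 lc_b_rc_7_4 lc_b_rc_9_2 lc_b_rc_9_2 lc_b_rc_26_7 lc_b_rc_8_2 lc_b_rc_9_2 lc_b_rc_9_2 lc_b_rc_9_2 lc_b_rc_8_2 lc_b_rc_6_1 lc_b_rc_1_5 lc_b_rc_1_3 lc_b_rc_10_2 lc_b_rc_7_4 lc_b_rc_7_4 lc_b_rc_10_0 lc_b_rc_9_2 lc_b_rc_8_0 lc_b_rc_26_7 lc_b_Cert_tree lc_b_rc_6_1 lc_b_rc_7_2 lc_b_rc_10_2 lc_b_rc_9_0 lc_b_rc_8_2 lc_b_rc_8_0 lc_b_rc_9_2 lc_b_rc_10_2 lc_b_rc_1_3 lc_b_rc_1_3 lc_b_rc_8_2 lc_b_rc_7_0 lc_b_rc_8_0 lc_b_rc_9_2 lc_b_rc_8_2 lc_b_Cert_tree lc_b_rc_6_1 lc_b_rc_8_2 lc_b_rc_9_2 lc_b_rc_8_2 lc_b_rc_26_1 lc_b_rc_1_3 lc_b_Cert_tree lc_b_rc_6_1 lc_b_Cert_tree lc_b_rc_8_2) (@D3.rec (fun _ => (Cert rels S Gen.b)) lc_b_rc_9_2 lc_b_rc_10_2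 lc_b_rc_6_1 lc_b_rc_1_5 lc_b_rc_8_2 lc_b_rc_9_2 lc_b_rc_8_2 lc_b_rc_26_5 lc_b_Cert_tree lc_b_rc_7_2 lc_b_rc_9_2 lc_b_rc_6_1 lc_b_rc_9_2 lc_b_rc_1_5 lc_b_rc_10_2 lc_b_rc_7_0 lc_b_rc_8_2 lc_b_rc_8_0 lc_b_Cert_tree lc_b_Cert_tree lc_b_rc_1_3 lc_b_rc_8_2 lc_b_rc_9_2 lc_b_rc_9_2 lc_b_rc_8_2 lc_b_rc_6_1 lc_b_rc_6_1 lc_b_Cert_tree lc_b_rc_1_3 lc_b_rc_8_2 lc_b_rc_9_2 lc_b_rc_9_2 lc_b_rc_8_2 lc_b_rc_1_3 lc_b_rc_6_1 lc_b_rc_8_2 lc_b_rc_6_1 lc_b_rc_26_5 lc_b_rc_8_2 lc_b_rc_1_5 lc_b_rc_8_2 lc_b_rc_8_2 lc_b_Cert_tree lc_b_Cert_tree lc_b_rc_9_2 lc_b_rc_8_2 lc_b_rc_9_2 lc_b_rc_9_2 lc_b_Cert_tree lc_b_Cert_tree lc_b_rc_10_2 lc_b_rc_8_2 lc_b_Cert_tree lc_b_rc_1_3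 lc_b_rc_26_5 lc_b_rc_6_1 lc_b_Cert_tree lc_b_rc_26_7 lc_b_rc_8_2 lc_b_rc_9_2 lc_b_rc_9_2 lc_b_rc_7_0) (@D3.rec (fun _ => (Cert rels S Gen.b)) lc_b_rc_6_1 lc_b_Cert_tree lc_b_rc_8_2 lc_b_rc_9_2 lc_b_rc_6_1 lc_b_rc_26_5 lc_b_rc_8_2 lc_b_rc_7_4 lc_b_Cert_tree lc_b_rc_8_2 lc_b_rc_7_4 lc_b_rc_9_2 lc_b_Cert_tree lc_b_rc_26_1 lc_b_rc_8_2 lc_b_rc_10_2 lc_b_Cert_tree lc_b_rc_10_2 lc_b_rc_6_1 lc_b_rc_25_16 lc_b_rc_10_2 lc_b_rc_6_1 lc_b_Cert_tree lc_b_rc_8_2 lc_b_rc_10_2 lc_b_rc_10_0 lc_b_rc_1_3 lc_b_rc_8_2 lc_b_rc_9_2 lc_b_rc_9_2 lc_b_rc_7_0 lc_b_rc_6_1 lc_b_rc_8_0 lc_b_rc_8_2 lc_b_rc_9_2 lc_b_rc_6_1 lc_b_rc_26_5 lc_b_rc_8_2 lc_b_rc_9_2 lc_b_rc_8_2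 lc_b_rc_9_2 lc_b_Cert_tree lc_b_Cert_tree lc_b_rc_6_1 lc_b_rc_9_2 lc_b_rc_26_5 lc_b_rc_7_0 lc_b_rc_8_2 lc_b_rc_10_2 lc_b_rc_26_5 lc_b_Cert_tree lc_b_rc_8_2 lc_b_rc_10_2 lc_b_rc_6_1 lc_b_rc_8_2 lc_b_rc_26_7 lc_b_rc_6_1 lc_b_rc_1_5 lc_b_Cert_tree lc_b_rc_10_2 lc_b_rc_6_1 lc_b_rc_25_16) (@D3.rec (fun _ => (Cert rels S Gen.b)) lc_b_rc_26_7 lc_b_Cert_tree lc_b_rc_6_1 lc_b_rc_8_2 lc_b_rc_6_1 lc_b_Cert_tree lc_b_rc_26_5 lc_b_rc_6_1 lc_b_rc_26_5 lc_b_rc_1_3 lc_b_rc_9_2 lc_b_rc_7_0 lc_b_rc_9_2 lc_b_rc_6_1 lc_b_rc_9_0 lc_b_rc_8_2 lc_b_rc_10_2 lc_b_Cert_tree lc_b_Cert_tree lc_b_rc_8_2 lc_b_rc_9_2 lc_b_rc_9_2 lc_b_rc_6_1 lc_b_rc_8_2 lc_b_rc_8_0 lc_b_Cert_tree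 lc_b_Cert_tree lc_b_rc_10_2 lc_b_rc_6_1 lc_b_rc_8_2 lc_b_rc_10_2 lc_b_rc_9_2 lc_b_rc_6_1 lc_b_rc_8_2 lc_b_rc_26_7 lc_b_Cert_tree lc_b_rc_9_2 lc_b_rc_6_1 lc_b_rc_8_2 lc_b_rc_25_4 lc_b_rc_26_1 lc_b_rc_6_1 lc_b_Cert_tree lc_b_rc_6_1 lc_b_rc_26_7 lc_b_rc_8_0 lc_b_rc_1_3 lc_b_Cert_tree lc_b_Cert_tree lc_b_rc_9_2 lc_b_rc_26_5 lc_b_Cert_tree lc_b_rc_8_2 lc_b_Cert_tree lc_b_rc_25_0 lc_b_rc_8_2 lc_b_rc_10_2 lc_b_rc_6_1 lc_b_rc_8_2 lc_b_rc_9_2 lc_b_rc_8_2 lc_b_rc_8_2) (@D3.rec (fun _ => (Cert rels S Gen.b)) lc_b_rc_6_1 lc_b_rc_26_7 lc_b_rc_26_7 lc_b_rc_6_1 lc_b_rc_7_2 lc_b_rc_6_1 lc_b_rc_8_0 lc_b_rc_6_1 lc_b_rc_7_0 lc_b_rc_6_1 lc_b_rc_26_5 lc_b_rc_8_2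 lc_b_rc_1_3 lc_b_rc_7_2 lc_b_Cert_tree lc_b_rc_7_4 lc_b_rc_9_2 lc_b_Cert_tree lc_b_rc_6_1 lc_b_rc_6_1 lc_b_Cert_tree lc_b_rc_8_2 lc_b_rc_7_2 lc_b_Cert_tree lc_b_rc_8_2 lc_b_rc_7_4 lc_b_rc_6_1 lc_b_rc_6_1 lc_b_rc_8_2 lc_b_rc_6_1 lc_b_rc_8_2 lc_b_rc_9_2 lc_b_rc_1_3 lc_b_rc_1_3 lc_b_rc_9_2 lc_b_rc_8_0 lc_b_rc_6_1 lc_b_rc_8_2 lc_b_rc_9_2 lc_b_Cert_tree lc_b_Cert_tree lc_b_rc_7_4 lc_b_rc_9_2 lc_b_rc_6_1 lc_b_rc_8_2 lc_b_rc_10_2 lc_b_rc_26_5 lc_b_Cert_tree lc_b_rc_26_5 lc_b_rc_9_2 lc_b_rc_6_1 lc_b_rc_26_5 lc_b_rc_8_2 lc_b_rc_9_2 lc_b_rc_8_2 lc_b_rc_26_1 lc_b_rc_7_0 lc_b_rc_8_2 lc_b_rc_7_4 lc_b_rc_8_2 lc_b_rc_25_4 lc_b_rc_9_2) (@D3.rec (fun _ =>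 (Cert rels S Gen.b)) lc_b_rc_8_2 lc_b_rc_26_5 lc_b_rc_10_2 lc_b_rc_26_7 lc_b_rc_8_2 lc_b_rc_9_2 lc_b_rc_8_2 lc_b_rc_1_5 lc_b_Cert_tree lc_b_rc_6_1 lc_b_rc_6_1 lc_b_rc_10_2 lc_b_rc_8_2 lc_b_rc_9_2 lc_b_rc_6_1 lc_b_rc_26_5 lc_b_rc_9_2 lc_b_Cert_tree lc_b_rc_8_2 lc_b_rc_9_2 lc_b_rc_26_1 lc_b_Cert_tree lc_b_rc_10_2 lc_b_rc_8_0 lc_b_rc_9_2 lc_b_rc_8_2 lc_b_rc_8_2 lc_b_rc_6_1 lc_b_rc_9_2 lc_b_rc_10_2 lc_b_rc_1_3 lc_b_rc_6_1 lc_b_rc_9_2 lc_b_rc_9_0 lc_b_rc_26_1 lc_b_rc_7_4 lc_b_rc_26_7 lc_b_rc_6_1 lc_b_rc_8_2 lc_b_rc_9_2 lc_b_rc_6_1 lc_b_rc_25_4 lc_b_rc_1_3 lc_b_rc_6_1 lc_b_rc_8_2 lc_b_rc_9_2 lc_b_rc_6_1 lc_b_rc_26_1 lc_b_rc_26_5 lc_b_rc_9_0 lc_b_rc_1_5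 lc_b_rc_8_2 lc_b_rc_6_1 lc_b_rc_8_0 lc_b_Cert_tree lc_b_rc_6_1 lc_b_rc_9_2 lc_b_rc_7_4 lc_b_rc_6_1 lc_b_rc_6_1 lc_b_rc_8_2 lc_b_rc_1_3) (@D3.rec (fun _ => (Cert rels S Gen.b)) lc_b_rc_9_2 lc_b_rc_8_2 lc_b_rc_9_2 lc_b_rc_6_1 lc_b_Cert_tree lc_b_rc_6_1 lc_b_rc_9_2 lc_b_rc_6_1 lc_b_rc_26_5 lc_b_rc_8_2 lc_b_rc_9_2 lc_b_rc_9_2 lc_b_rc_26_1 lc_b_rc_7_4 lc_b_rc_8_2 lc_b_rc_10_2 lc_b_rc_26_1 lc_b_rc_6_1 lc_b_rc_9_2 lc_b_rc_26_5 lc_b_rc_26_5 lc_b_Cert_tree lc_b_rc_6_1 lc_b_rc_8_2 lc_b_rc_10_2 lc_b_rc_10_2 lc_b_Cert_tree lc_b_rc_1_1 lc_b_rc_8_2 lc_b_Cert_tree lc_b_rc_9_2 lc_b_Cert_tree lc_b_rc_9_2 lc_b_Cert_tree lc_b_Cert_tree lc_b_rc_8_2 lc_b_rc_9_2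 lc_b_Cert_tree lc_b_rc_8_2 lc_b_rc_10_2 lc_b_rc_10_2 lc_b_rc_6_1 lc_b_rc_1_5 lc_b_rc_26_5 lc_b_rc_6_1 lc_b_rc_6_1 lc_b_rc_26_5 lc_b_rc_8_2 lc_b_rc_9_2 lc_b_Cert_tree lc_b_rc_8_2 lc_b_rc_7_4 lc_b_rc_10_2 lc_b_rc_6_1 lc_b_rc_1_3 lc_b_rc_8_0 lc_b_rc_1_3 lc_b_rc_8_2 lc_b_rc_9_2 lc_b_rc_8_2 lc_b_rc_1_5 lc_b_rc_10_0) (@D3.rec (fun _ => (Cert rels S Gen.b)) lc_b_rc_6_1 lc_b_rc_26_5 lc_b_Cert_tree lc_b_rc_1_3 lc_b_rc_9_2 lc_b_Cert_tree lc_b_rc_7_0 lc_b_rc_8_2 lc_b_rc_10_2 lc_b_rc_26_7 lc_b_Cert_tree lc_b_rc_9_2 lc_b_rc_26_5 lc_b_rc_6_1 lc_b_rc_26_5 lc_b_rc_9_2 lc_b_rc_9_0 lc_b_rc_1_3 lc_b_rc_9_2 lc_b_rc_9_2 lc_b_rc_6_1 lc_b_rc_25_4 lc_b_rc_9_2 lc_b_Cert_tree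 lc_b_rc_9_2 lc_b_rc_10_2 lc_b_rc_6_1 lc_b_rc_26_7 lc_b_rc_9_2 lc_b_rc_8_2 lc_b_rc_6_1 lc_b_rc_9_0 lc_b_rc_8_2 lc_b_rc_1_5 lc_b_rc_8_2 lc_b_rc_7_2 lc_b_Cert_tree lc_b_rc_9_2 lc_b_Cert_tree lc_b_rc_9_2 lc_b_Cert_tree lc_b_rc_8_2 lc_b_rc_6_1 lc_b_rc_9_2 lc_b_rc_6_1 lc_b_rc_8_2 lc_b_rc_10_2 lc_b_rc_26_5 lc_b_rc_9_2 lc_b_rc_6_1 lc_b_rc_26_7 lc_b_rc_6_1 lc_b_rc_9_2 lc_b_rc_6_1 lc_b_Cert_tree lc_b_rc_26_7 lc_b_rc_9_2 lc_b_rc_26_5 lc_b_rc_8_0 lc_b_rc_1_5 lc_b_rc_7_4 lc_b_rc_7_0) (@D3.rec (fun _ => (Cert rels S Gen.b)) lc_b_Cert_tree lc_b_rc_26_5 lc_b_rc_8_2 lc_b_rc_10_0 lc_b_rc_9_2 lc_b_rc_1_5 lc_b_Cert_tree lc_b_rc_8_2 lc_b_rc_9_2 lc_b_rc_6_1 lc_b_Cert_tree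 lc_b_rc_8_2 lc_b_Cert_tree lc_b_rc_26_5 lc_b_rc_10_2 lc_b_rc_6_1 lc_b_rc_26_1 lc_b_rc_7_4 lc_b_rc_9_2 lc_b_rc_7_0 lc_b_rc_10_2 lc_b_rc_10_2 lc_b_rc_6_1 lc_b_rc_9_2 lc_b_rc_8_2 lc_b_rc_26_7 lc_b_rc_9_2 lc_b_rc_9_2 lc_b_rc_6_1 lc_b_rc_8_2 lc_b_rc_1_5 lc_b_rc_8_2 lc_b_rc_6_1 lc_b_rc_8_2 lc_b_rc_6_1 lc_b_rc_26_7 lc_b_rc_9_2 lc_b_rc_8_2 lc_b_rc_8_2 lc_b_rc_7_4 lc_b_rc_6_1 lc_b_rc_9_2 lc_b_rc_8_0 lc_b_Cert_tree lc_b_rc_7_4 lc_b_rc_9_2 lc_b_rc_8_0 lc_b_rc_8_2 lc_b_rc_6_1 lc_b_rc_6_1 lc_b_rc_9_2 lc_b_rc_8_0 lc_b_rc_26_5 lc_b_rc_6_1 lc_b_rc_26_5 lc_b_rc_6_1 lc_b_rc_26_7 lc_b_rc_9_2 lc_b_rc_6_1 lc_b_rc_8_2 lc_b_rc_6_1 lc_b_Cert_tree) (@D3.rec (fun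 _ => (Cert rels S Gen.b)) lc_b_rc_9_2 lc_b_rc_6_1 lc_b_rc_8_2 lc_b_rc_9_2 lc_b_rc_10_2 lc_b_rc_6_1 lc_b_rc_26_5 lc_b_rc_9_0 lc_b_rc_8_0 lc_b_rc_10_0 lc_b_rc_9_0 lc_b_rc_8_0 lc_b_rc_8_2 lc_b_rc_8_0 lc_b_rc_6_1 lc_b_rc_7_0 lc_b_rc_9_2 lc_b_Cert_tree lc_b_Cert_tree lc_b_rc_8_2 lc_b_rc_8_2 lc_b_rc_8_2 lc_b_rc_6_1 lc_b_Cert_tree lc_b_Cert_tree lc_b_rc_9_2 lc_b_rc_8_2 lc_b_rc_7_4 lc_b_rc_26_7 lc_b_rc_8_2 lc_b_rc_10_2 lc_b_rc_6_1 lc_b_rc_8_2 lc_b_rc_8_2 lc_b_rc_9_2 lc_b_rc_8_2 lc_b_rc_6_1 lc_b_Cert_tree lc_b_rc_10_2 lc_b_rc_8_2 lc_b_rc_9_2 lc_b_rc_6_1 lc_b_rc_8_0 lc_b_rc_8_2 lc_b_rc_9_2 lc_b_Cert_tree lc_b_rc_10_2 lc_b_rc_9_2 lc_b_rc_1_3 lc_b_rc_6_1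 lc_b_rc_8_2 lc_b_rc_8_2 lc_b_rc_6_1 lc_b_rc_6_1 lc_b_rc_26_5 lc_b_rc_9_2 lc_b_rc_8_2 lc_b_rc_6_1 lc_b_rc_10_2 lc_b_rc_9_2 lc_b_rc_6_1 lc_b_rc_6_1) (@D3.rec (fun _ => (Cert rels S Gen.b)) lc_b_Cert_tree lc_b_Cert_tree lc_b_Cert_tree lc_b_rc_8_2 lc_b_rc_25_4 lc_b_rc_10_2 lc_b_rc_26_7 lc_b_rc_8_2 lc_b_rc_9_2 lc_b_rc_6_1 lc_b_rc_9_0 lc_b_rc_7_4 lc_b_rc_10_2 lc_b_rc_9_2 lc_b_rc_26_5 lc_b_rc_8_2 lc_b_rc_26_5 lc_b_Cert_tree lc_b_rc_9_2 lc_b_rc_6_1 lc_b_rc_26_1 lc_b_rc_8_2 lc_b_rc_9_2 lc_b_rc_8_2 lc_b_rc_6_1 lc_b_rc_8_2 lc_b_rc_9_2 lc_b_rc_8_2 lc_b_Cert_tree lc_b_Cert_tree lc_b_Cert_tree lc_b_rc_6_1 lc_b_rc_9_2 lc_b_rc_7_2 lc_b_rc_8_2 lc_b_rc_10_2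 lc_b_Cert_tree lc_b_rc_6_1 lc_b_rc_7_0 lc_b_rc_9_2 lc_b_rc_7_0 lc_b_Cert_tree lc_b_rc_10_2 lc_b_rc_6_1 lc_b_rc_10_2 lc_b_rc_26_7 lc_b_rc_10_2 lc_b_rc_8_2 lc_b_rc_6_1 lc_b_rc_9_2 lc_b_rc_9_2 lc_b_rc_6_1 lc_b_rc_9_2 lc_b_rc_9_2 lc_b_rc_26_1 lc_b_rc_6_1 lc_b_rc_8_0 lc_b_rc_6_1 lc_b_rc_9_2 lc_b_rc_9_2 lc_b_rc_26_5 lc_b_rc_7_2) (@D3.rec (fun _ => (Cert rels S Gen.b)) lc_b_rc_8_2 lc_b_rc_10_2 lc_b_rc_26_7 lc_b_rc_9_2 lc_b_rc_6_1 lc_b_rc_26_7 lc_b_rc_8_2 lc_b_rc_7_0 lc_b_rc_9_2 lc_b_rc_9_2 lc_b_rc_25_16 lc_b_rc_9_0 lc_b_rc_10_2 lc_b_rc_6_1 lc_b_rc_8_2 lc_b_rc_26_5 lc_b_rc_9_2 lc_b_rc_6_1 lc_b_rc_9_2 lc_b_rc_9_2 lc_b_rc_8_2 lc_b_rc_10_2 lc_b_rc_26_1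 lc_b_rc_9_2 lc_b_rc_6_1 lc_b_rc_8_2 lc_b_rc_10_2 lc_b_rc_8_2 lc_b_rc_6_1 lc_b_rc_9_2 lc_b_rc_7_2 lc_b_rc_6_1 lc_b_rc_9_2 lc_b_rc_7_4 lc_b_rc_9_2 lc_b_rc_9_2 lc_b_rc_6_1 lc_b_rc_1_1 lc_b_rc_9_2 lc_b_rc_10_2 lc_b_rc_9_2 lc_b_rc_26_1 lc_b_rc_26_5 lc_b_rc_8_2 lc_b_rc_10_2 lc_b_rc_6_1 lc_b_rc_26_1 lc_b_rc_8_2 lc_b_rc_9_2 lc_b_rc_6_1 lc_b_rc_7_4 lc_b_rc_6_1 lc_b_rc_9_2 lc_b_rc_7_0 lc_b_rc_26_5 lc_b_rc_1_5 lc_b_rc_9_2 lc_b_rc_8_2 lc_b_rc_9_2 lc_b_rc_10_2 lc_b_rc_1_3 lc_b_rc_6_1) (@D3.rec (fun _ => (Cert rels S Gen.b)) lc_b_rc_9_2 lc_b_rc_25_4 lc_b_rc_10_2 lc_b_rc_8_2 lc_b_rc_9_2 lc_b_Cert_tree lc_b_rc_8_2 lc_b_rc_9_2 lc_b_rc_26_7 lc_b_Cert_tree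 lc_b_rc_9_0 lc_b_rc_10_2 lc_b_rc_7_4 lc_b_rc_1_1 lc_b_rc_1_3 lc_b_rc_1_1 lc_b_rc_1_3 lc_b_rc_6_1 lc_b_rc_10_2 lc_b_rc_8_2 lc_b_rc_8_0 lc_b_rc_8_0 lc_b_rc_6_1 lc_b_rc_9_2 lc_b_rc_7_4 lc_b_Cert_tree lc_b_rc_26_7 lc_b_rc_9_2 lc_b_rc_6_1 lc_b_rc_26_5 lc_b_rc_8_2 lc_b_rc_10_2 lc_b_rc_6_1 lc_b_rc_26_5 lc_b_rc_8_2 lc_b_rc_9_2 lc_b_rc_7_4 lc_b_rc_8_2 lc_b_rc_9_2 lc_b_rc_8_2 lc_b_rc_7_2 lc_b_Cert_tree lc_b_rc_9_2 lc_b_rc_25_12 lc_b_rc_10_2 lc_b_rc_1_3 lc_b_rc_7_4 lc_b_rc_8_2 lc_b_rc_9_2 lc_b_rc_10_0 lc_b_rc_8_2 lc_b_rc_8_2 lc_b_rc_6_1 lc_b_rc_9_0 lc_b_rc_8_2 lc_b_rc_8_2 lc_b_Cert_tree lc_b_rc_6_1 lc_b_rc_9_2 lc_b_rc_6_1 lc_b_rc_8_2 lc_b_rc_1_3) (@D3.rec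 (fun _ => (Cert rels S Gen.b)) lc_b_rc_8_2 lc_b_rc_6_1 lc_b_rc_26_5 lc_b_rc_8_2 lc_b_rc_1_3 lc_b_rc_8_2 lc_b_rc_10_2 lc_b_rc_9_2 lc_b_rc_6_1 lc_b_rc_8_2 lc_b_rc_10_2 lc_b_rc_7_2 lc_b_rc_9_2 lc_b_rc_26_1 lc_b_rc_26_5 lc_b_rc_8_2 lc_b_rc_10_2 lc_b_rc_6_1 lc_b_rc_7_2 lc_b_rc_7_4 lc_b_rc_7_0 lc_b_rc_9_2 lc_b_rc_6_1 lc_b_rc_7_0 lc_b_rc_7_2 lc_b_rc_10_2 lc_b_rc_25_4 lc_b_rc_7_4 lc_b_rc_9_2 lc_b_rc_6_1 lc_b_rc_25_0 lc_b_rc_10_2 lc_b_rc_6_1 lc_b_rc_25_8 lc_b_Cert_tree lc_b_rc_6_1 lc_b_rc_25_16 lc_b_rc_26_1 lc_b_rc_9_2 lc_b_rc_6_1 lc_b_rc_26_5 lc_b_rc_8_2 lc_b_rc_9_2 lc_b_Cert_tree lc_b_rc_10_2 lc_b_Cert_tree lc_b_rc_1_1 lc_b_rc_8_2 lc_b_rc_9_2 lc_b_Cert_tree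 lc_b_rc_10_2 lc_b_rc_6_1 lc_b_Cert_tree lc_b_rc_9_2 lc_b_rc_6_1 lc_b_Cert_tree lc_b_rc_8_2 lc_b_rc_8_2 lc_b_rc_26_5 lc_b_rc_6_1 lc_b_rc_1_5 lc_b_rc_8_0) (@D3.rec (fun _ => (Cert rels S Gen.b)) lc_b_rc_9_2 lc_b_rc_6_1 lc_b_rc_6_1 lc_b_rc_10_2 lc_b_Cert_tree lc_b_rc_9_2 lc_b_rc_6_1 lc_b_rc_9_2 lc_b_rc_8_2 lc_b_rc_8_0 lc_b_rc_10_2 lc_b_Cert_tree lc_b_rc_9_2 lc_b_rc_6_1 lc_b_rc_9_2 lc_b_Cert_tree lc_b_rc_26_5 lc_b_rc_9_0 lc_b_Cert_tree lc_b_rc_9_2 lc_b_rc_6_1 lc_b_rc_6_1 lc_b_rc_7_0 lc_b_rc_8_2 lc_b_rc_9_2 lc_b_rc_26_1 lc_b_rc_7_0 lc_b_rc_1_3 lc_b_rc_8_2 lc_b_rc_10_2 lc_b_rc_8_0 lc_b_rc_1_5 lc_b_rc_26_7 lc_b_rc_7_0 lc_b_rc_1_1 lc_b_rc_8_0 lc_b_rc_8_2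 lc_b_rc_9_2 lc_b_rc_1_1 lc_b_rc_6_1 lc_b_rc_10_2 lc_b_rc_9_2 lc_b_rc_9_2 lc_b_rc_7_0 lc_b_Cert_tree lc_b_rc_10_2 lc_b_rc_8_2 lc_b_rc_9_2 lc_b_rc_10_2 lc_b_Cert_tree lc_b_rc_9_2 lc_b_rc_10_2 lc_b_rc_8_2 lc_b_rc_9_2 lc_b_Cert_tree lc_b_rc_9_2 lc_b_rc_8_2 lc_b_rc_8_2 lc_b_rc_10_2 lc_b_rc_6_1 lc_b_rc_9_2 lc_b_rc_6_1) (@D3.rec (fun _ => (Cert rels S Gen.b)) lc_b_rc_26_1 lc_b_rc_26_7 lc_b_rc_9_2 lc_b_Cert_tree lc_b_rc_9_0 lc_b_rc_1_3 lc_b_rc_7_4 lc_b_rc_6_1 lc_b_rc_9_2 lc_b_rc_9_2 lc_b_rc_8_2 lc_b_rc_9_2 lc_b_rc_9_2 lc_b_rc_1_5 lc_b_rc_10_2 lc_b_Cert_tree lc_b_rc_6_1 lc_b_rc_9_2 lc_b_rc_6_1 lc_b_rc_10_2 lc_b_rc_8_2 lc_b_rc_8_2 lc_b_rc_6_1 lc_b_rc_10_2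 lc_b_rc_9_2 lc_b_rc_9_2 lc_b_rc_8_2 lc_b_rc_9_2 lc_b_rc_8_2 lc_b_rc_10_2 lc_b_rc_1_1 lc_b_rc_10_2 lc_b_rc_8_2 lc_b_Cert_tree lc_b_rc_8_0 lc_b_rc_10_2 lc_b_rc_25_4 lc_b_rc_6_1 lc_b_rc_8_2 lc_b_rc_8_2 lc_b_Cert_tree lc_b_rc_9_2 lc_b_rc_25_8 lc_b_rc_9_2 lc_b_rc_26_1 lc_b_rc_8_2 lc_b_rc_9_2 lc_b_Cert_tree lc_b_rc_10_2 lc_b_Cert_tree lc_b_rc_9_2 lc_b_rc_26_5 lc_b_rc_6_1 lc_b_rc_10_2 lc_b_rc_9_2 lc_b_rc_6_1 lc_b_rc_9_2 lc_b_Cert_tree lc_b_Cert_tree lc_b_rc_10_2 lc_b_rc_1_1 lc_b_rc_9_2) (@D3.rec (fun _ => (Cert rels S Gen.b)) lc_b_Cert_tree lc_b_rc_10_2 lc_b_rc_8_2 lc_b_rc_10_2 lc_b_rc_9_2 lc_b_rc_6_1 lc_b_rc_9_0 lc_b_rc_10_2 lc_b_rc_10_0 lc_b_rc_7_0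 lc_b_rc_6_1 lc_b_rc_9_2 lc_b_rc_10_2 lc_b_rc_6_1 lc_b_rc_8_2 lc_b_rc_6_1 lc_b_Cert_tree lc_b_rc_9_2 lc_b_rc_9_2 lc_b_rc_9_2 lc_b_Cert_tree lc_b_rc_8_2 lc_b_rc_8_2 lc_b_rc_26_1 lc_b_rc_8_0 lc_b_rc_10_2 lc_b_rc_1_5 lc_b_rc_10_0 lc_b_rc_9_2 lc_b_rc_10_0 lc_b_rc_6_1 lc_b_rc_7_4 lc_b_rc_6_1 lc_b_rc_9_2 lc_b_rc_8_2 lc_b_rc_7_4 lc_b_rc_9_2 lc_b_Cert_tree lc_b_rc_1_1 lc_b_Cert_tree lc_b_rc_9_2 lc_b_rc_25_4 lc_b_rc_6_1 lc_b_rc_8_2 lc_b_rc_9_0 lc_b_rc_10_2 lc_b_rc_26_5 lc_b_rc_6_1 lc_b_rc_7_2 lc_b_rc_9_2 lc_b_rc_26_5 lc_b_rc_8_2 lc_b_rc_10_2 lc_b_rc_26_1 lc_b_rc_8_0 lc_b_Cert_tree lc_b_rc_9_0 lc_b_rc_6_1 lc_b_rc_8_2 lc_b_rc_8_2 lc_b_rc_26_1 lc_b_rc_8_2)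 (@D3.rec (fun _ => (Cert rels S Gen.b)) lc_b_rc_9_2 lc_b_rc_8_2 lc_b_rc_7_4 lc_b_rc_1_3 lc_b_rc_9_2 lc_b_rc_1_1 lc_b_Cert_tree lc_b_rc_10_2 lc_b_rc_9_2 lc_b_rc_9_2 lc_b_rc_1_5 lc_b_rc_25_8 lc_b_rc_6_1 lc_b_rc_1_5 lc_b_rc_26_1 lc_b_rc_9_2 lc_b_rc_9_2 lc_b_rc_9_2 lc_b_rc_26_1 lc_b_rc_9_2 lc_b_rc_26_7 lc_b_rc_6_1 lc_b_rc_26_1 lc_b_rc_6_1 lc_b_rc_8_2 lc_b_rc_9_2 lc_b_rc_10_2 lc_b_rc_6_1 lc_b_rc_9_2 lc_b_rc_8_2 lc_b_rc_26_7 lc_b_rc_10_2 lc_b_rc_6_1 lc_b_rc_9_2 lc_b_rc_26_1 lc_b_rc_26_1 lc_b_rc_10_2 lc_b_rc_8_2 lc_b_rc_9_2 lc_b_rc_8_2 lc_b_rc_7_2 lc_b_rc_8_2 lc_b_rc_9_2 lc_b_rc_8_2 lc_b_rc_10_2 lc_b_rc_26_5 lc_b_rc_26_5 lc_b_rc_8_0 lc_b_Cert_tree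 lc_b_rc_9_0 lc_b_rc_10_2 lc_b_rc_9_0 lc_b_rc_8_2 lc_b_rc_26_7 lc_b_rc_8_2 lc_b_rc_9_2 lc_b_rc_8_2 lc_b_rc_6_1 lc_b_rc_26_1 lc_b_rc_10_2 lc_b_rc_6_1 lc_b_Cert_tree) (@D3.rec (fun _ => (Cert rels S Gen.b)) lc_b_rc_8_2 lc_b_rc_8_2 lc_b_rc_6_1 lc_b_rc_6_1 lc_b_rc_8_2 lc_b_rc_26_7 lc_b_rc_6_1 lc_b_rc_7_2 lc_b_rc_8_2 lc_b_rc_9_2 lc_b_rc_9_0 lc_b_rc_6_1 lc_b_Cert_tree lc_b_rc_8_2 lc_b_Cert_tree lc_b_rc_9_2 lc_b_rc_6_1 lc_b_Cert_tree lc_b_rc_9_2 lc_b_Cert_tree lc_b_rc_26_7 lc_b_rc_9_0 lc_b_rc_6_1 lc_b_rc_8_2 lc_b_rc_6_1 lc_b_rc_9_2 lc_b_rc_26_1 lc_b_rc_6_1 lc_b_rc_9_2 lc_b_rc_9_0 lc_b_rc_10_0 lc_b_rc_8_2 lc_b_rc_10_2 lc_b_rc_6_1 lc_b_rc_26_1 lc_b_rc_8_2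 lc_b_rc_9_2 lc_b_rc_6_1 lc_b_rc_8_2 lc_b_rc_9_2 lc_b_rc_6_1 lc_b_rc_7_2 lc_b_Cert_tree lc_b_rc_10_2 lc_b_Cert_tree lc_b_rc_9_2 lc_b_rc_9_2 lc_b_rc_7_4 lc_b_rc_8_2 lc_b_rc_9_2 lc_b_rc_7_4 lc_b_rc_6_1 lc_b_rc_7_0 lc_b_rc_10_2 lc_b_rc_9_2 lc_b_rc_9_2 lc_b_rc_8_2 lc_b_rc_26_7 lc_b_rc_10_2 lc_b_rc_6_1 lc_b_rc_6_1 lc_b_rc_8_2) (@D3.rec (fun _ => (Cert rels S Gen.b)) lc_b_rc_6_1 lc_b_rc_8_2 lc_b_rc_9_2 lc_b_rc_6_1 lc_b_rc_8_2 lc_b_rc_9_0 lc_b_rc_6_1 lc_b_Cert_tree lc_b_rc_10_2 lc_b_rc_7_2 lc_b_rc_1_1 lc_b_rc_8_2 lc_b_rc_9_2 lc_b_rc_26_7 lc_b_rc_10_2 lc_b_rc_9_2 lc_b_rc_10_2 lc_b_rc_8_2 lc_b_rc_9_2 lc_b_rc_1_1 lc_b_rc_7_4 lc_b_rc_8_2 lc_b_rc_9_2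 lc_b_Cert_tree lc_b_rc_9_2 lc_b_rc_10_2 lc_b_Cert_tree lc_b_rc_8_2 lc_b_rc_6_1 lc_b_Cert_tree lc_b_rc_9_2 lc_b_Cert_tree lc_b_Cert_tree lc_b_rc_6_1 lc_b_rc_8_2 lc_b_rc_10_2 lc_b_rc_9_2 lc_b_rc_8_0 lc_b_rc_8_0 lc_b_rc_8_2 lc_b_rc_1_3 lc_b_rc_10_2 lc_b_rc_6_1 lc_b_rc_7_0 lc_b_rc_6_1 lc_b_rc_25_0 lc_b_rc_26_1 lc_b_rc_8_0 lc_b_rc_9_2 lc_b_rc_9_2 lc_b_rc_6_1 lc_b_rc_10_2 lc_b_rc_1_5 lc_b_rc_26_1 lc_b_rc_8_2 lc_b_rc_9_2 lc_b_Cert_tree lc_b_Cert_tree lc_b_rc_9_2 lc_b_rc_9_2 lc_b_rc_26_5 lc_b_rc_6_1) (@D3.rec (fun _ => (Cert rels S Gen.b)) lc_b_rc_1_1 lc_b_rc_9_2 lc_b_rc_7_4 lc_b_rc_9_2 lc_b_rc_10_2 lc_b_Cert_tree lc_b_rc_6_1 lc_b_rc_8_2 lc_b_rc_9_2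 lc_b_rc_7_0 lc_b_rc_10_2 lc_b_rc_8_2 lc_b_rc_8_2 lc_b_rc_9_2 lc_b_rc_6_1 lc_b_rc_8_2 lc_b_rc_6_1 lc_b_rc_8_0 lc_b_rc_9_2 lc_b_rc_8_2 lc_b_rc_10_2 lc_b_rc_8_2 lc_b_rc_9_2 lc_b_Cert_tree lc_b_rc_9_2 lc_b_rc_6_1 lc_b_rc_8_2 lc_b_rc_26_5 lc_b_rc_8_2 lc_b_rc_26_5 lc_b_rc_10_2 lc_b_Cert_tree lc_b_rc_7_4 lc_b_rc_8_2 lc_b_rc_9_2 lc_b_Cert_tree lc_b_rc_8_2 lc_b_Cert_tree lc_b_rc_8_2 lc_b_rc_7_4 lc_b_rc_8_2 lc_b_rc_9_2 lc_b_rc_7_2 lc_b_rc_6_1 lc_b_rc_8_2 lc_b_rc_6_1 lc_b_rc_6_1 lc_b_Cert_tree lc_b_rc_9_2 lc_b_Cert_tree lc_b_Cert_tree lc_b_rc_6_1 lc_b_rc_8_2 lc_b_Cert_tree lc_b_Cert_tree lc_b_Cert_tree lc_b_rc_6_1 lc_b_rc_9_2 lc_b_Cert_tree lc_b_rc_9_2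 lc_b_rc_10_2 lc_b_Cert_tree) (@D3.rec (fun _ => (Cert rels S Gen.b)) lc_b_rc_9_2 lc_b_rc_6_1 lc_b_rc_26_1 lc_b_rc_26_5 lc_b_rc_26_7 lc_b_rc_10_2 lc_b_rc_9_2 lc_b_rc_6_1 lc_b_rc_9_2 lc_b_Cert_tree lc_b_rc_6_1 lc_b_rc_10_2 lc_b_rc_6_1 lc_b_rc_9_2 lc_b_rc_9_2 lc_b_rc_6_1 lc_b_rc_10_2 lc_b_rc_6_1 lc_b_rc_9_2 lc_b_rc_6_1 lc_b_rc_9_2 lc_b_Cert_tree lc_b_rc_6_1 lc_b_rc_1_3 lc_b_rc_8_2 lc_b_rc_9_2 lc_b_rc_10_0 lc_b_rc_9_2 lc_b_rc_6_1 lc_b_rc_9_2 lc_b_Cert_tree lc_b_rc_9_2 lc_b_rc_9_2 lc_b_rc_6_1 lc_b_rc_26_5 lc_b_rc_9_2 lc_b_rc_6_1 lc_b_rc_9_2 lc_b_rc_26_5 lc_b_rc_10_2 lc_b_rc_6_1 lc_b_rc_6_1 lc_b_rc_8_0 lc_b_rc_26_1 lc_b_rc_10_2 lc_b_Cert_tree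 lc_b_Cert_tree lc_b_rc_8_2 lc_b_Cert_tree lc_b_rc_1_3 lc_b_rc_8_2 lc_b_rc_9_2 lc_b_rc_26_5 lc_b_Cert_tree lc_b_rc_8_2 lc_b_rc_9_0 lc_b_Cert_tree lc_b_rc_7_2 lc_b_rc_1_3 lc_b_rc_8_2 lc_b_rc_9_2 lc_b_rc_26_7) (@D3.rec (fun _ => (Cert rels S Gen.b)) lc_b_rc_25_12 lc_b_rc_1_5 lc_b_rc_26_7 lc_b_rc_9_2 lc_b_Cert_tree lc_b_rc_9_2 lc_b_rc_8_2 lc_b_rc_1_3 lc_b_rc_8_2 lc_b_rc_26_1 lc_b_rc_6_1 lc_b_rc_1_3 lc_b_rc_8_0 lc_b_rc_8_2 lc_b_rc_9_2 lc_b_rc_8_0 lc_b_rc_9_0 lc_b_rc_7_4 lc_b_rc_1_3 lc_b_Cert_tree lc_b_Cert_tree lc_b_rc_9_2 lc_b_rc_6_1 lc_b_rc_6_1 lc_b_rc_26_5 lc_b_rc_9_2 lc_b_Cert_tree lc_b_rc_8_2 lc_b_rc_10_2 lc_b_rc_10_2 lc_b_rc_10_2 lc_b_rc_1_3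 lc_b_rc_1_3 lc_b_rc_6_1 lc_b_rc_10_2 lc_b_rc_1_3 lc_b_rc_8_2 lc_b_rc_9_2 lc_b_rc_9_2 lc_b_rc_9_0 lc_b_rc_26_1 lc_b_rc_8_2 lc_b_rc_9_2 lc_b_rc_6_1 lc_b_rc_7_2 lc_b_rc_1_3 lc_b_rc_8_2 lc_b_rc_9_2 lc_b_rc_9_2 lc_b_rc_7_2 lc_b_rc_8_2 lc_b_rc_9_2 lc_b_rc_10_0 lc_b_rc_1_3 lc_b_rc_7_2 lc_b_Cert_tree lc_b_rc_8_2 lc_b_rc_10_2 lc_b_rc_6_1 lc_b_rc_10_0 lc_b_rc_8_2 lc_b_rc_9_2) (@D3.rec (fun _ => (Cert rels S Gen.b)) lc_b_rc_8_2 lc_b_Cert_tree lc_b_rc_6_1 lc_b_rc_7_2 lc_b_rc_9_2 lc_b_rc_10_2 lc_b_rc_1_5 lc_b_rc_6_1 lc_b_rc_9_2 lc_b_rc_6_1 lc_b_rc_9_0 lc_b_rc_7_4 lc_b_rc_7_4 lc_b_rc_26_5 lc_b_Cert_tree lc_b_rc_1_3 lc_b_rc_9_2 lc_b_Cert_tree lc_b_rc_8_2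 lc_b_rc_25_4 lc_b_Cert_tree lc_b_rc_6_1 lc_b_Cert_tree lc_b_rc_1_3 lc_b_rc_8_2 lc_b_rc_9_2 lc_b_rc_7_4 lc_b_rc_6_1 lc_b_Cert_tree lc_b_rc_8_2 lc_b_rc_10_2 lc_b_rc_8_0 lc_b_rc_6_1 lc_b_Cert_tree lc_b_rc_1_3 lc_b_rc_8_2 lc_b_rc_10_2 lc_b_rc_9_0 lc_b_Cert_tree lc_b_rc_1_3 lc_b_rc_9_2 lc_b_rc_8_2 lc_b_rc_8_2 lc_b_rc_10_2 lc_b_rc_10_2 lc_b_rc_10_2 lc_b_rc_6_1 lc_b_rc_7_2 lc_b_rc_8_2 lc_b_rc_9_2 lc_b_rc_10_2 lc_b_rc_6_1 lc_b_rc_26_5 lc_b_rc_8_2 lc_b_rc_9_2 lc_b_rc_8_2 lc_b_Cert_tree lc_b_Cert_tree lc_b_rc_7_4 lc_b_rc_9_2 lc_b_rc_9_2 lc_b_rc_6_1) (@D3.rec (fun _ => (Cert rels S Gen.b)) lc_b_rc_9_2 lc_b_rc_6_1 lc_b_rc_9_2 lc_b_rc_7_0 lc_b_rc_7_0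 lc_b_rc_9_0 lc_b_rc_8_2 lc_b_Cert_tree lc_b_Cert_tree lc_b_rc_1_3 lc_b_rc_9_2 lc_b_rc_8_2 lc_b_rc_9_2 lc_b_rc_6_1 lc_b_rc_6_1 lc_b_rc_1_3 lc_b_rc_8_2 lc_b_rc_9_2 lc_b_rc_9_2 lc_b_rc_10_2 lc_b_Cert_tree lc_b_rc_26_7 lc_b_rc_10_2 lc_b_Cert_tree lc_b_Cert_tree lc_b_Cert_tree lc_b_rc_9_2 lc_b_rc_1_3 lc_b_rc_8_2 lc_b_rc_9_2 lc_b_rc_9_2 lc_b_rc_9_2 lc_b_Cert_tree lc_b_rc_8_2 lc_b_Cert_tree lc_b_Cert_tree lc_b_rc_1_3 lc_b_rc_8_2 lc_b_rc_9_2 lc_b_rc_9_2 lc_b_rc_8_2 lc_b_rc_10_2 lc_b_rc_6_1 lc_b_Cert_tree lc_b_rc_1_3 lc_b_rc_8_2 lc_b_rc_9_2 lc_b_rc_9_2 lc_b_rc_8_2 lc_b_rc_6_1 lc_b_Cert_tree lc_b_rc_8_2 lc_b_rc_26_5 lc_b_rc_6_1 lc_b_rc_26_5 lc_b_rc_8_2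 lc_b_rc_9_2 lc_b_rc_1_3 lc_b_rc_9_2 lc_b_Cert_tree lc_b_Cert_tree lc_b_rc_9_2) (@D3.rec (fun _ => (Cert rels S Gen.b)) lc_b_Cert_tree lc_b_Cert_tree lc_b_rc_8_2 lc_b_rc_10_2 lc_b_rc_6_1 lc_b_rc_7_4 lc_b_rc_6_1 lc_b_rc_9_2 lc_b_rc_7_4 lc_b_Cert_tree lc_b_rc_8_2 lc_b_rc_7_4 lc_b_rc_6_1 lc_b_rc_8_2 lc_b_rc_6_1 lc_b_rc_8_2 lc_b_rc_9_2 lc_b_Cert_tree lc_b_Cert_tree lc_b_Cert_tree lc_b_rc_10_2 lc_b_rc_26_5 lc_b_rc_6_1 lc_b_rc_8_2 lc_b_rc_8_2 lc_b_rc_9_2 lc_b_Cert_tree lc_b_rc_26_5 lc_b_Cert_tree lc_b_rc_6_1 lc_b_rc_8_2 lc_b_rc_10_2 lc_b_rc_6_1 lc_b_rc_9_2 lc_b_rc_6_1 lc_b_rc_10_2 lc_b_rc_1_3 lc_b_rc_8_2 lc_b_rc_9_2 lc_b_rc_6_1 lc_b_rc_1_3 lc_b_rc_8_2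 lc_b_rc_9_2 lc_b_rc_6_1 lc_b_rc_6_1 lc_b_rc_9_2 lc_b_rc_1_1 lc_b_rc_25_0 lc_b_rc_8_2 lc_b_Cert_tree lc_b_rc_7_4 lc_b_rc_9_2 lc_b_Cert_tree lc_b_rc_9_2 lc_b_rc_8_2 lc_b_rc_10_2 lc_b_rc_7_0 lc_b_Cert_tree lc_b_rc_8_2 lc_b_rc_10_2 lc_b_rc_6_1 lc_b_rc_9_2) (@D3.rec (fun _ => (Cert rels S Gen.b)) lc_b_rc_26_7 lc_b_rc_6_1 lc_b_rc_8_2 lc_b_Cert_tree lc_b_Cert_tree lc_b_Cert_tree lc_b_rc_10_2 lc_b_rc_6_1 lc_b_rc_9_2 lc_b_rc_6_1 lc_b_rc_8_2 lc_b_Cert_tree lc_b_rc_6_1 lc_b_rc_1_3 lc_b_rc_9_2 lc_b_rc_25_16 lc_b_rc_10_2 lc_b_rc_9_2 lc_b_rc_8_2 lc_b_rc_9_2 lc_b_rc_6_1 lc_b_rc_26_5 lc_b_rc_1_3 lc_b_rc_9_2 lc_b_rc_6_1 lc_b_rc_26_1 lc_b_rc_7_2 lc_b_rc_1_3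 lc_b_rc_6_1 lc_b_Cert_tree lc_b_rc_9_2 lc_b_rc_6_1 lc_b_rc_26_5 lc_b_rc_1_3 lc_b_rc_9_2 lc_b_Cert_tree lc_b_rc_25_4 lc_b_rc_6_1 lc_b_rc_7_2 lc_b_rc_10_2 lc_b_rc_9_2 lc_b_rc_6_1 lc_b_rc_9_2 lc_b_rc_6_1 lc_b_rc_8_2 lc_b_rc_10_2 lc_b_rc_6_1 lc_b_rc_7_0 lc_b_rc_6_1 lc_b_rc_7_0 lc_b_rc_10_2 lc_b_rc_26_1 lc_b_rc_26_1 lc_b_rc_26_1 lc_b_rc_8_2 lc_b_rc_6_1 lc_b_rc_8_2 lc_b_rc_7_4 lc_b_rc_6_1 lc_b_rc_8_2 lc_b_rc_9_2 lc_b_rc_1_5) (@D3.rec (fun _ => (Cert rels S Gen.b)) lc_b_Cert_tree lc_b_rc_6_1 lc_b_rc_6_1 lc_b_rc_6_1 lc_b_rc_9_2 lc_b_rc_1_1 lc_b_rc_9_2 lc_b_rc_1_5 lc_b_rc_7_4 lc_b_rc_9_2 lc_b_Cert_tree lc_b_rc_6_1 lc_b_rc_8_2 lc_b_rc_10_2 lc_b_rc_7_0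 lc_b_rc_26_5 lc_b_rc_8_2 lc_b_rc_7_4 lc_b_rc_6_1 lc_b_rc_8_2 lc_b_rc_25_12 lc_b_rc_6_1 lc_b_rc_8_2 lc_b_Cert_tree lc_b_rc_26_7 lc_b_rc_10_2 lc_b_rc_6_1 lc_b_rc_8_2 lc_b_rc_9_2 lc_b_rc_7_0 lc_b_rc_6_1 lc_b_Cert_tree lc_b_rc_9_2 lc_b_rc_6_1 lc_b_rc_26_5 lc_b_rc_8_2 lc_b_rc_1_3 lc_b_rc_6_1 lc_b_rc_6_1 lc_b_rc_8_2 lc_b_rc_9_2 lc_b_Cert_tree lc_b_rc_9_2 lc_b_rc_10_2 lc_b_rc_6_1 lc_b_rc_10_2 lc_b_rc_6_1 lc_b_rc_9_2 lc_b_rc_8_2 lc_b_rc_6_1 lc_b_rc_26_5 lc_b_rc_8_2 lc_b_rc_1_5 lc_b_rc_1_3 lc_b_rc_9_2 lc_b_rc_6_1 lc_b_Cert_tree lc_b_rc_8_2 lc_b_rc_9_2 lc_b_rc_9_2 lc_b_Cert_tree lc_b_rc_6_1) (@D3.rec (fun _ => (Cert rels S Gen.b)) lc_b_rc_8_2 lc_b_rc_9_0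 lc_b_rc_8_0 lc_b_rc_10_2 lc_b_rc_8_2 lc_b_rc_8_2 lc_b_rc_7_0 lc_b_rc_7_2 lc_b_rc_1_3 lc_b_rc_9_2 lc_b_rc_6_1 lc_b_rc_8_2 lc_b_rc_9_2 lc_b_rc_6_1 lc_b_rc_26_1 lc_b_rc_6_1 lc_b_rc_8_2 lc_b_rc_10_2 lc_b_rc_10_2 lc_b_rc_6_1 lc_b_rc_26_1 lc_b_rc_9_2 lc_b_rc_26_1 lc_b_rc_7_0 lc_b_rc_10_2 lc_b_rc_7_2 lc_b_rc_26_7 lc_b_rc_9_2 lc_b_rc_26_1 lc_b_rc_1_1 lc_b_rc_7_2 lc_b_rc_9_2 lc_b_rc_8_2 lc_b_rc_9_2 lc_b_rc_26_5 lc_b_rc_26_5 lc_b_rc_9_2 lc_b_rc_8_2 lc_b_rc_10_2 lc_b_rc_26_1 lc_b_rc_26_5 lc_b_Cert_tree lc_b_rc_7_4 lc_b_rc_6_1 lc_b_rc_9_2 lc_b_rc_6_1 lc_b_rc_8_2 lc_b_rc_26_5 lc_b_Cert_tree lc_b_rc_8_0 lc_b_rc_6_1 lc_b_rc_26_5 lc_b_rc_6_1 lc_b_rc_6_1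 lc_b_rc_25_16 lc_b_rc_7_4 lc_b_rc_10_2 lc_b_rc_9_2 lc_b_rc_25_0 lc_b_Cert_tree lc_b_rc_8_2 lc_b_rc_1_3) (@D3.rec (fun _ => (Cert rels S Gen.b)) lc_b_rc_7_2 lc_b_rc_26_5 lc_b_rc_26_1 lc_b_rc_8_2 lc_b_rc_10_2 lc_b_rc_1_1 lc_b_rc_7_4 lc_b_rc_9_2 lc_b_rc_9_2 lc_b_rc_25_0 lc_b_rc_10_2 lc_b_Cert_tree lc_b_rc_6_1 lc_b_rc_1_1 lc_b_rc_9_2 lc_b_rc_8_0 lc_b_rc_8_2 lc_b_rc_8_2 lc_b_rc_26_1 lc_b_rc_8_2 lc_b_rc_9_2 lc_b_rc_6_1 lc_b_rc_26_7 lc_b_rc_8_2 lc_b_rc_1_5 lc_b_rc_9_2 lc_b_rc_8_0 lc_b_rc_7_4 lc_b_rc_6_1 lc_b_rc_8_2 lc_b_rc_9_2 lc_b_rc_6_1 lc_b_rc_7_2 lc_b_rc_26_5 lc_b_rc_6_1 lc_b_Cert_tree lc_b_rc_8_2 lc_b_rc_9_2 lc_b_rc_6_1 lc_b_rc_8_2 lc_b_rc_9_2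 lc_b_Cert_tree lc_b_rc_6_1 lc_b_rc_6_1 lc_b_Cert_tree lc_b_rc_10_2 lc_b_rc_1_3 lc_b_rc_1_3 lc_b_rc_8_2 lc_b_rc_9_2 lc_b_Cert_tree lc_b_Cert_tree lc_b_rc_10_2 lc_b_Cert_tree lc_b_Cert_tree lc_b_rc_6_1 lc_b_rc_1_3 lc_b_rc_8_2 lc_b_rc_9_2 lc_b_Cert_tree lc_b_rc_6_1 lc_b_Cert_tree) (@D3.rec (fun _ => (Cert rels S Gen.b)) lc_b_rc_1_3 lc_b_rc_9_2 lc_b_Cert_tree lc_b_Cert_tree lc_b_rc_1_3 lc_b_rc_9_2 lc_b_rc_6_1 lc_b_Cert_tree lc_b_rc_9_2 lc_b_rc_6_1 lc_b_rc_9_2 lc_b_rc_8_2 lc_b_Cert_tree lc_b_rc_6_1 lc_b_rc_9_2 lc_b_rc_9_2 lc_b_rc_8_2 lc_b_rc_6_1 lc_b_rc_6_1 lc_b_rc_9_2 lc_b_rc_1_3 lc_b_Cert_tree lc_b_rc_8_2 lc_b_rc_6_1 lc_b_rc_26_1 lc_b_rc_6_1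 lc_b_rc_26_5 lc_b_rc_7_2 lc_b_rc_26_1 lc_b_rc_6_1 lc_b_rc_26_5 lc_b_rc_8_0 lc_b_rc_9_2 lc_b_rc_9_0 lc_b_rc_6_1 lc_b_rc_8_2 lc_b_rc_6_1 lc_b_rc_9_2 lc_b_Cert_tree lc_b_Cert_tree lc_b_rc_6_1 lc_b_rc_8_2 lc_b_rc_9_2 lc_b_rc_8_2 lc_b_rc_26_1 lc_b_rc_10_2 lc_b_rc_26_1 lc_b_rc_10_2 lc_b_rc_8_2 lc_b_rc_9_2 lc_b_rc_8_2 lc_b_rc_9_2 lc_b_rc_6_1 lc_b_rc_6_1 lc_b_rc_9_2 lc_b_rc_6_1 lc_b_rc_10_2 lc_b_rc_8_0 lc_b_rc_6_1 lc_b_rc_8_2 lc_b_Cert_tree lc_b_rc_10_2) (@D3.rec (fun _ => (Cert rels S Gen.b)) lc_b_rc_6_1 lc_b_rc_6_1 lc_b_rc_1_3 lc_b_rc_8_2 lc_b_rc_9_2 lc_b_rc_9_2 lc_b_rc_8_2 lc_b_rc_6_1 lc_b_rc_10_2 lc_b_rc_1_3 lc_b_rc_8_2 lc_b_rc_9_2 lc_b_rc_9_2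 lc_b_Cert_tree lc_b_rc_8_2 lc_b_Cert_tree lc_b_Cert_tree lc_b_rc_1_3 lc_b_rc_9_2 lc_b_rc_8_2 lc_b_Cert_tree lc_b_rc_9_0 lc_b_rc_1_3 lc_b_rc_9_2 lc_b_rc_8_2 lc_b_rc_10_2 lc_b_rc_6_1 lc_b_rc_26_5 lc_b_rc_9_2 lc_b_rc_6_1 lc_b_rc_9_2 lc_b_rc_9_0 lc_b_rc_1_3 lc_b_rc_26_7 lc_b_Cert_tree lc_b_rc_7_4 lc_b_rc_9_2 lc_b_rc_8_0 lc_b_Cert_tree lc_b_rc_6_1 lc_b_rc_9_2 lc_b_rc_6_1 lc_b_rc_6_1 lc_b_rc_9_2 lc_b_rc_6_1 lc_b_rc_9_2 lc_b_rc_6_1 lc_b_rc_7_0 lc_b_rc_6_1 lc_b_rc_6_1 lc_b_rc_9_2 lc_b_rc_6_1 lc_b_rc_26_1 lc_b_rc_10_0 lc_b_rc_10_2 lc_b_rc_9_2 lc_b_rc_6_1 lc_b_rc_1_1 lc_b_rc_9_2 lc_b_rc_9_2 lc_b_rc_8_2 lc_b_rc_10_2) (@D3.rec (fun _ => (Cert rels S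 Gen.b)) lc_b_Cert_tree lc_b_rc_9_2 lc_b_rc_8_2 lc_b_Cert_tree lc_b_rc_8_0 lc_b_rc_6_1 lc_b_rc_26_5 lc_b_rc_9_2 lc_b_rc_6_1 lc_b_Cert_tree lc_b_rc_8_2 lc_b_rc_6_1 lc_b_rc_6_1 lc_b_rc_26_1 lc_b_rc_9_2 lc_b_rc_6_1 lc_b_rc_26_5 lc_b_rc_8_2 lc_b_rc_26_5 lc_b_rc_7_4 lc_b_rc_1_3 lc_b_rc_8_2 lc_b_rc_9_2 lc_b_rc_1_5 lc_b_rc_1_3 lc_b_rc_9_2 lc_b_rc_1_3 lc_b_Cert_tree lc_b_Cert_tree lc_b_rc_1_3 lc_b_rc_6_1 lc_b_rc_26_1 lc_b_rc_9_2 lc_b_rc_8_2 lc_b_rc_1_1 lc_b_rc_26_7 lc_b_rc_8_2 lc_b_rc_10_2 lc_b_Cert_tree lc_b_rc_26_5 lc_b_rc_10_0 lc_b_rc_6_1 lc_b_rc_26_5 lc_b_rc_8_2 lc_b_rc_6_1 lc_b_rc_9_2 lc_b_rc_9_2 lc_b_Cert_tree lc_b_rc_8_0 lc_b_rc_10_2 lc_b_rc_6_1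 lc_b_rc_8_2 lc_b_rc_8_2 lc_b_rc_7_2 lc_b_rc_8_2 lc_b_rc_9_2 lc_b_rc_6_1 lc_b_rc_8_2 lc_b_rc_7_2 lc_b_rc_9_2 lc_b_rc_6_1 lc_b_rc_6_1) (@D3.rec (fun _ => (Cert rels S Gen.b)) lc_b_rc_8_2 lc_b_rc_7_2 lc_b_rc_7_0 lc_b_rc_8_2 lc_b_Cert_tree lc_b_rc_9_2 lc_b_rc_26_7 lc_b_rc_8_2 lc_b_rc_10_2 lc_b_rc_1_5 lc_b_rc_7_2 lc_b_rc_8_2 lc_b_rc_9_2 lc_b_rc_6_1 lc_b_rc_26_1 lc_b_rc_6_1 lc_b_rc_26_5 lc_b_Cert_tree lc_b_rc_26_1 lc_b_rc_10_2 lc_b_rc_7_0 lc_b_rc_7_2 lc_b_rc_9_2 lc_b_rc_6_1 lc_b_rc_1_3 lc_b_rc_9_2 lc_b_rc_6_1 lc_b_Cert_tree lc_b_Cert_tree lc_b_rc_6_1 lc_b_rc_6_1 lc_b_rc_9_2 lc_b_rc_10_2 lc_b_rc_9_2 lc_b_rc_6_1 lc_b_rc_9_2 lc_b_rc_9_2 lc_b_Cert_tree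 lc_b_rc_8_2 lc_b_rc_8_2 lc_b_Cert_tree lc_b_rc_6_1 lc_b_rc_9_2 lc_b_rc_6_1 lc_b_rc_8_2 lc_b_Cert_tree lc_b_rc_8_2 lc_b_Cert_tree lc_b_rc_8_2 lc_b_rc_9_2 lc_b_rc_6_1 lc_b_rc_8_2 lc_b_rc_9_2 lc_b_rc_6_1 lc_b_rc_26_7 lc_b_rc_6_1 lc_b_rc_8_2 lc_b_rc_9_2 lc_b_rc_8_2 lc_b_rc_9_2 lc_b_rc_10_0 lc_b_rc_9_0) (@D3.rec (fun _ => (Cert rels S Gen.b)) lc_b_Cert_tree lc_b_rc_7_0 lc_b_Cert_tree lc_b_rc_8_2 lc_b_rc_6_1 lc_b_Cert_tree lc_b_rc_9_2 lc_b_rc_6_1 lc_b_Cert_tree lc_b_rc_1_5 lc_b_rc_9_2 lc_b_rc_6_1 lc_b_rc_9_2 lc_b_rc_6_1 lc_b_rc_9_2 lc_b_rc_8_0 lc_b_rc_7_2 lc_b_rc_8_2 lc_b_rc_7_2 lc_b_rc_9_2 lc_b_rc_8_2 lc_b_rc_9_2 lc_b_rc_8_2 lc_b_rc_26_7 lc_b_rc_10_2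 lc_b_rc_9_2 lc_b_rc_26_5 lc_b_rc_10_2 lc_b_rc_6_1 lc_b_Cert_tree lc_b_rc_9_2 lc_b_rc_9_0 lc_b_Cert_tree lc_b_rc_10_2 lc_b_rc_6_1 lc_b_rc_6_1 lc_b_rc_6_1 lc_b_rc_6_1 lc_b_rc_9_0 lc_b_rc_10_0 lc_b_rc_6_1 lc_b_rc_6_1 lc_b_Cert_tree lc_b_rc_10_0 lc_b_rc_6_1 lc_b_rc_26_5 lc_b_rc_10_0 lc_b_rc_26_5 lc_b_rc_8_0 lc_b_rc_8_2 lc_b_rc_6_1 lc_b_rc_1_3 lc_b_rc_6_1 lc_b_rc_8_2 lc_b_rc_9_2 lc_b_rc_6_1 lc_b_Cert_tree lc_b_Cert_tree lc_b_Cert_tree lc_b_rc_9_2 lc_b_rc_6_1 lc_b_rc_26_5) (@D3.rec (fun _ => (Cert rels S Gen.b)) lc_b_rc_8_2 lc_b_rc_8_2 lc_b_rc_7_2 lc_b_rc_6_1 lc_b_rc_10_0 lc_b_rc_8_2 lc_b_rc_9_2 lc_b_rc_8_2 lc_b_rc_26_7 lc_b_rc_25_4 lc_b_rc_10_2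 lc_b_rc_10_2 lc_b_rc_9_2 lc_b_Cert_tree lc_b_rc_6_1 lc_b_rc_9_0 lc_b_rc_9_0 lc_b_Cert_tree lc_b_rc_1_5 lc_b_rc_26_1 lc_b_rc_1_3 lc_b_rc_6_1 lc_b_rc_8_2 lc_b_rc_9_2 lc_b_rc_26_1 lc_b_rc_10_2 lc_b_rc_9_2 lc_b_rc_8_0 lc_b_rc_8_0 lc_b_rc_9_2 lc_b_rc_26_7 lc_b_Cert_tree lc_b_rc_8_2 lc_b_rc_6_1 lc_b_rc_9_2 lc_b_rc_9_0 lc_b_rc_10_2 lc_b_rc_1_5 lc_b_rc_6_1 lc_b_rc_8_0 lc_b_rc_26_1 lc_b_rc_26_1 lc_b_rc_6_1 lc_b_rc_7_0 lc_b_rc_6_1 lc_b_rc_6_1 lc_b_rc_8_2 lc_b_rc_26_1 lc_b_rc_9_2 lc_b_Cert_tree lc_b_rc_25_4 lc_b_rc_8_2 lc_b_rc_10_2 lc_b_Cert_tree lc_b_rc_6_1 lc_b_rc_26_5 lc_b_rc_26_5 lc_b_rc_8_0 lc_b_rc_7_2 lc_b_rc_26_7 lc_b_rc_6_1 lc_b_rc_9_2) (@D3.rec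 (fun _ => (Cert rels S Gen.b)) lc_b_rc_8_0 lc_b_rc_9_2 lc_b_rc_9_0 lc_b_rc_9_2 lc_b_rc_7_4 lc_b_rc_9_2 lc_b_rc_6_1 lc_b_rc_6_1 lc_b_rc_10_2 lc_b_rc_7_2 lc_b_rc_9_2 lc_b_rc_6_1 lc_b_rc_6_1 lc_b_rc_6_1 lc_b_rc_6_1 lc_b_rc_6_1 lc_b_rc_26_7 lc_b_rc_8_2 lc_b_rc_9_2 lc_b_rc_6_1 lc_b_rc_6_1 lc_b_rc_8_2 lc_b_rc_9_2 lc_b_rc_9_0 lc_b_rc_10_2 lc_b_rc_26_1 lc_b_rc_26_5 lc_b_rc_7_2 lc_b_rc_9_2 lc_b_rc_9_2 lc_b_rc_8_2 lc_b_rc_8_2 lc_b_rc_10_2 lc_b_rc_8_2 lc_b_rc_9_2 lc_b_rc_9_2 lc_b_rc_9_2 lc_b_rc_6_1 lc_b_rc_8_0 lc_b_rc_9_2 lc_b_rc_6_1 lc_b_rc_9_2 lc_b_rc_6_1 lc_b_rc_6_1 lc_b_rc_9_2 lc_b_rc_6_1 lc_b_rc_6_1 lc_b_rc_9_2 lc_b_rc_8_2 lc_b_rc_9_2 lc_b_rc_6_1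 lc_b_rc_9_2 lc_b_rc_1_3 lc_b_rc_8_2 lc_b_rc_9_2 lc_b_rc_9_0 lc_b_rc_6_1 lc_b_rc_8_0 lc_b_rc_1_3 lc_b_rc_8_2 lc_b_rc_9_2 lc_b_rc_10_2) (@D3.rec (fun _ => (Cert rels S Gen.b)) lc_b_rc_8_2 lc_b_rc_26_1 lc_b_rc_26_1 lc_b_rc_10_2 lc_b_rc_8_2 lc_b_rc_26_1 lc_b_rc_1_3 lc_b_rc_8_2 lc_b_rc_9_2 lc_b_rc_9_2 lc_b_Cert_tree lc_b_rc_9_2 lc_b_rc_8_2 lc_b_rc_10_2 lc_b_Cert_tree lc_b_rc_8_2 lc_b_rc_6_1 lc_b_rc_1_5 lc_b_rc_1_3 lc_b_rc_8_2 lc_b_rc_9_2 lc_b_rc_6_1 lc_b_rc_8_2 lc_b_Cert_tree lc_b_rc_9_0 lc_b_rc_1_3 lc_b_rc_8_2 lc_b_rc_9_2 lc_b_rc_7_4 lc_b_rc_8_2 lc_b_rc_10_2 lc_b_rc_6_1 lc_b_rc_9_2 lc_b_rc_6_1 lc_b_rc_9_2 lc_b_rc_1_1 lc_b_rc_7_4 lc_b_Cert_tree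 lc_b_rc_7_2 lc_b_rc_6_1 lc_b_rc_9_2 lc_b_rc_1_5 lc_b_rc_6_1 lc_b_rc_8_2 lc_b_rc_25_16 lc_b_Cert_tree lc_b_rc_8_2 lc_b_rc_7_4 lc_b_rc_6_1 lc_b_rc_9_2 lc_b_rc_6_1 lc_b_rc_26_5 lc_b_rc_6_1 lc_b_rc_9_2 lc_b_Cert_tree lc_b_rc_6_1 lc_b_rc_6_1 lc_b_rc_8_2 lc_b_rc_9_2 lc_b_rc_8_2 lc_b_rc_6_1 lc_b_rc_8_2) (@D3.rec (fun _ => (Cert rels S Gen.b)) lc_b_rc_9_2 lc_b_rc_8_2 lc_b_rc_8_0 lc_b_rc_8_0 lc_b_rc_10_2 lc_b_rc_6_1 lc_b_rc_26_1 lc_b_rc_8_2 lc_b_rc_8_2 lc_b_rc_7_4 lc_b_Cert_tree lc_b_rc_6_1 lc_b_rc_8_2 lc_b_rc_8_0 lc_b_rc_9_2 lc_b_rc_10_2 lc_b_rc_26_7 lc_b_rc_8_2 lc_b_rc_9_2 lc_b_rc_9_2 lc_b_rc_6_1 lc_b_rc_8_2 lc_b_rc_8_0 lc_b_rc_9_2 lc_b_rc_6_1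 lc_b_rc_8_2 lc_b_rc_9_2 lc_b_rc_6_1 lc_b_rc_1_5 lc_b_rc_6_1 lc_b_rc_8_2 lc_b_rc_9_2 lc_b_rc_8_2 lc_b_rc_10_2 lc_b_rc_6_1 lc_b_rc_9_2 lc_b_rc_6_1 lc_b_rc_9_0 lc_b_rc_10_2 lc_b_rc_6_1 lc_b_rc_25_4 lc_b_rc_7_0 lc_b_rc_9_0 lc_b_rc_6_1 lc_b_rc_26_7 lc_b_rc_6_1 lc_b_Cert_tree lc_b_rc_8_2 lc_b_Cert_tree lc_b_rc_10_2 lc_b_rc_26_5 lc_b_rc_1_3 lc_b_rc_7_4 lc_b_rc_6_1 lc_b_rc_9_2 lc_b_rc_7_0 lc_b_rc_6_1 lc_b_rc_8_2 lc_b_rc_26_7 lc_b_rc_9_2 lc_b_rc_6_1 lc_b_rc_10_2) (@D3.rec (fun _ => (Cert rels S Gen.b)) lc_b_rc_9_2 lc_b_rc_6_1 lc_b_rc_8_2 lc_b_rc_8_0 lc_b_rc_8_2 lc_b_rc_8_0 lc_b_rc_1_3 lc_b_rc_6_1 lc_b_rc_26_7 lc_b_rc_7_4 lc_b_rc_10_2 lc_b_rc_1_5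 lc_b_rc_10_2 lc_b_rc_6_1 lc_b_rc_7_2 lc_b_rc_9_0 lc_b_Cert_tree lc_b_rc_1_3 lc_b_rc_1_5 lc_b_rc_1_5 lc_b_rc_8_2 lc_b_rc_10_2 lc_b_Cert_tree lc_b_rc_8_2 lc_b_rc_10_2 lc_b_rc_8_2 lc_b_rc_10_2 lc_b_rc_1_5 lc_b_rc_10_2 lc_b_rc_9_0 lc_b_rc_9_0 lc_b_rc_8_2 lc_b_rc_9_2 lc_b_rc_9_2 lc_b_rc_8_2 lc_b_rc_9_2 lc_b_rc_8_0 lc_b_Cert_tree lc_b_rc_8_2 lc_b_rc_8_2 lc_b_rc_8_2 lc_b_rc_9_2 lc_b_rc_9_2 lc_b_rc_9_0 lc_b_rc_8_2 lc_b_rc_9_2 lc_b_rc_26_5 lc_b_rc_9_2 lc_b_rc_9_2 lc_b_rc_26_7 lc_b_Cert_tree lc_b_rc_6_1 lc_b_rc_8_2 lc_b_rc_9_2 lc_b_rc_10_2 lc_b_rc_6_1 lc_b_rc_1_3 lc_b_rc_8_0 lc_b_rc_6_1 lc_b_Cert_tree lc_b_rc_9_2 lc_b_rc_7_4) (@D3.rec (fun _ => (Cert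 rels S Gen.b)) lc_b_rc_7_4 lc_b_rc_6_1 lc_b_rc_7_4 lc_b_rc_8_0 lc_b_Cert_tree lc_b_rc_6_1 lc_b_rc_10_2 lc_b_rc_7_4 lc_b_rc_9_0 lc_b_rc_6_1 lc_b_rc_1_5 lc_b_rc_26_5 lc_b_rc_6_1 lc_b_rc_26_1 lc_b_rc_10_2 lc_b_rc_1_5 lc_b_Cert_tree lc_b_rc_9_2 lc_b_rc_9_2 lc_b_rc_6_1 lc_b_rc_10_0 lc_b_rc_6_1 lc_b_rc_7_4 lc_b_rc_8_2 lc_b_rc_6_1 lc_b_rc_8_2 lc_b_rc_9_2 lc_b_rc_10_2 lc_b_rc_6_1 lc_b_rc_9_2 lc_b_rc_1_3 lc_b_rc_25_4 lc_b_rc_6_1 lc_b_rc_6_1 lc_b_rc_6_1 lc_b_rc_1_3 lc_b_rc_6_1 lc_b_rc_9_2 lc_b_rc_9_2 lc_b_rc_8_0 lc_b_rc_10_2 lc_b_rc_9_2 lc_b_Cert_tree lc_b_rc_9_2 lc_b_rc_6_1 lc_b_rc_8_2 lc_b_rc_9_2 lc_b_rc_7_2 lc_b_rc_6_1 lc_b_rc_10_2 lc_b_rc_6_1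 lc_b_rc_9_2 lc_b_rc_6_1 lc_b_rc_10_2 lc_b_rc_8_2 lc_b_Cert_tree lc_b_rc_7_2 lc_b_rc_8_2 lc_b_rc_9_2 lc_b_rc_10_2 lc_b_rc_8_0 lc_b_rc_7_2) (@D3.rec (fun _ => (Cert rels S Gen.b)) lc_b_rc_25_8 lc_b_rc_9_0 lc_b_rc_8_2 lc_b_rc_1_5 lc_b_rc_8_0 lc_b_Cert_tree lc_b_rc_6_1 lc_b_rc_7_4 lc_b_rc_9_2 lc_b_rc_8_0 lc_b_rc_9_0 lc_b_rc_8_0 lc_b_rc_8_2 lc_b_rc_8_2 lc_b_rc_1_5 lc_b_Cert_tree lc_b_rc_9_0 lc_b_rc_26_1 lc_b_rc_9_2 lc_b_rc_6_1 lc_b_rc_26_7 lc_b_rc_6_1 lc_b_rc_8_2 lc_b_rc_7_2 lc_b_Cert_tree lc_b_rc_6_1 lc_b_rc_8_2 lc_b_rc_6_1 lc_b_rc_10_2 lc_b_rc_7_2 lc_b_rc_6_1 lc_b_rc_8_2 lc_b_rc_26_1 lc_b_rc_6_1 lc_b_rc_6_1 lc_b_rc_1_3 lc_b_rc_9_2 lc_b_rc_1_5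 lc_b_rc_9_0 lc_b_rc_8_2 lc_b_rc_10_2 lc_b_rc_10_2 lc_b_rc_8_2 lc_b_rc_6_1 lc_b_Cert_tree lc_b_rc_9_2 lc_b_rc_6_1 lc_b_rc_6_1 lc_b_rc_9_2 lc_b_rc_6_1 lc_b_rc_26_1 lc_b_rc_7_0 lc_b_Cert_tree lc_b_rc_1_1 lc_b_rc_8_2 lc_b_Cert_tree lc_b_Cert_tree lc_b_rc_8_2 lc_b_rc_10_2 lc_b_rc_9_2 lc_b_Cert_tree lc_b_rc_26_5) (@D3.rec (fun _ => (Cert rels S Gen.b)) lc_b_rc_9_2 lc_b_rc_6_1 lc_b_rc_6_1 lc_b_rc_8_2 lc_b_rc_9_2 lc_b_rc_26_5 lc_b_rc_10_0 lc_b_rc_7_2 lc_b_rc_8_2 lc_b_rc_9_2 lc_b_rc_9_2 lc_b_rc_8_2 lc_b_rc_7_0 lc_b_rc_6_1 lc_b_rc_8_2 lc_b_rc_6_1 lc_b_rc_8_2 lc_b_rc_1_3 lc_b_rc_9_2 lc_b_rc_6_1 lc_b_rc_1_5 lc_b_rc_9_2 lc_b_Cert_tree lc_b_Cert_tree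 lc_b_rc_8_2 lc_b_rc_10_2 lc_b_rc_26_5 lc_b_rc_9_0 lc_b_rc_8_0 lc_b_rc_26_5 lc_b_rc_8_0 lc_b_Cert_tree lc_b_Cert_tree lc_b_rc_10_2 lc_b_rc_10_2 lc_b_Cert_tree lc_b_Cert_tree lc_b_rc_8_2 lc_b_rc_6_1 lc_b_Cert_tree lc_b_rc_8_2 lc_b_Cert_tree lc_b_rc_6_1 lc_b_rc_8_2 lc_b_rc_9_2 lc_b_rc_26_5 lc_b_rc_6_1 lc_b_rc_8_2 lc_b_rc_1_5 lc_b_rc_6_1 lc_b_Cert_tree lc_b_rc_1_5 lc_b_rc_8_2 lc_b_rc_7_4 lc_b_rc_9_2 lc_b_rc_1_3 lc_b_rc_9_2 lc_b_Cert_tree lc_b_Cert_tree lc_b_Cert_tree lc_b_rc_8_2 lc_b_rc_6_1) (@D3.rec (fun _ => (Cert rels S Gen.b)) lc_b_rc_8_2 lc_b_rc_1_5 lc_b_rc_6_1 lc_b_rc_6_1 lc_b_rc_10_2 lc_b_rc_6_1 lc_b_rc_10_2 lc_b_rc_6_1 lc_b_rc_9_2 lc_b_Cert_tree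 lc_b_rc_9_2 lc_b_rc_9_2 lc_b_rc_26_5 lc_b_rc_8_2 lc_b_rc_9_2 lc_b_rc_26_5 lc_b_rc_8_2 lc_b_rc_6_1 lc_b_rc_8_2 lc_b_rc_9_2 lc_b_rc_9_0 lc_b_rc_8_2 lc_b_rc_9_2 lc_b_rc_6_1 lc_b_rc_7_2 lc_b_Cert_tree lc_b_rc_6_1 lc_b_rc_9_2 lc_b_rc_6_1 lc_b_rc_26_7 lc_b_rc_10_2 lc_b_rc_10_2 lc_b_rc_10_2 lc_b_rc_6_1 lc_b_rc_7_4 lc_b_rc_26_5 lc_b_rc_8_2 lc_b_rc_8_0 lc_b_rc_8_2 lc_b_rc_10_2 lc_b_rc_6_1 lc_b_rc_10_2 lc_b_rc_9_2 lc_b_rc_6_1 lc_b_rc_9_0 lc_b_rc_9_0 lc_b_Cert_tree lc_b_rc_8_0 lc_b_rc_1_3 lc_b_rc_7_4 lc_b_rc_8_2 lc_b_rc_9_2 lc_b_rc_9_0 lc_b_rc_6_1 lc_b_Cert_tree lc_b_Cert_tree lc_b_rc_1_3 lc_b_rc_9_2 lc_b_rc_6_1 lc_b_rc_8_2 lc_b_rc_7_2 lc_b_rc_9_0)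 (@D3.rec (fun _ => (Cert rels S Gen.b)) lc_b_rc_1_3 lc_b_rc_9_2 lc_b_rc_8_0 lc_b_rc_8_0 lc_b_rc_1_3 lc_b_rc_6_1 lc_b_rc_7_4 lc_b_rc_7_2 lc_b_rc_9_0 lc_b_rc_9_2 lc_b_rc_8_2 lc_b_rc_9_0 lc_b_rc_1_3 lc_b_rc_6_1 lc_b_rc_9_2 lc_b_Cert_tree lc_b_rc_1_1 lc_b_rc_7_4 lc_b_rc_8_2 lc_b_rc_9_2 lc_b_rc_10_2 lc_b_rc_7_2 lc_b_rc_6_1 lc_b_rc_8_0 lc_b_rc_25_8 lc_b_rc_9_2 lc_b_rc_10_2 lc_b_Cert_tree lc_b_rc_6_1 lc_b_rc_6_1 lc_b_rc_6_1 lc_b_rc_7_4 lc_b_rc_9_2 lc_b_rc_6_1 lc_b_rc_7_2 lc_b_rc_8_0 lc_b_Cert_tree lc_b_rc_8_2 lc_b_rc_10_2 lc_b_rc_9_2 lc_b_rc_8_2 lc_b_rc_10_2 lc_b_rc_6_1 lc_b_rc_7_4 lc_b_rc_6_1 lc_b_Cert_tree lc_b_rc_10_2 lc_b_rc_8_2 lc_b_rc_9_2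 lc_b_rc_26_5 lc_b_rc_6_1 lc_b_rc_9_2 lc_b_rc_9_2 lc_b_rc_6_1 lc_b_rc_10_2 lc_b_rc_9_2 lc_b_rc_8_0 lc_b_Cert_tree lc_b_rc_8_2 lc_b_rc_9_2 lc_b_rc_9_2 lc_b_rc_10_2) (@D3.rec (fun _ => (Cert rels S Gen.b)) lc_b_rc_8_2 lc_b_rc_7_2 lc_b_rc_9_2 lc_b_rc_26_1 lc_b_Cert_tree lc_b_rc_10_2 lc_b_Cert_tree lc_b_Cert_tree lc_b_rc_6_1 lc_b_rc_8_2 lc_b_rc_8_2 lc_b_rc_10_2 lc_b_rc_6_1 lc_b_rc_8_2 lc_b_rc_26_7 lc_b_rc_8_2 lc_b_rc_7_4 lc_b_Cert_tree lc_b_rc_6_1 lc_b_Cert_tree lc_b_rc_8_2 lc_b_rc_9_2 lc_b_rc_26_1 lc_b_rc_9_2 lc_b_rc_7_4 lc_b_rc_8_2 lc_b_rc_9_2 lc_b_rc_6_1 lc_b_rc_8_2 lc_b_rc_9_2 lc_b_rc_7_4 lc_b_rc_10_2 lc_b_rc_6_1 lc_b_rc_10_2 lc_b_rc_26_7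 lc_b_rc_6_1 lc_b_Cert_tree lc_b_rc_1_3 lc_b_rc_7_4 lc_b_rc_8_2 lc_b_rc_7_4 lc_b_rc_9_2 lc_b_rc_6_1 lc_b_rc_9_2 lc_b_rc_6_1 lc_b_rc_8_2 lc_b_rc_9_2 lc_b_rc_9_2 lc_b_rc_6_1 lc_b_rc_8_2 lc_b_rc_9_2 lc_b_rc_6_1 lc_b_rc_8_2 lc_b_rc_6_1 lc_b_rc_8_2 lc_b_rc_9_2 lc_b_rc_6_1 lc_b_rc_8_2 lc_b_Cert_tree lc_b_Cert_tree lc_b_rc_9_2 lc_b_rc_8_2) (@D3.rec (fun _ => (Cert rels S Gen.b)) lc_b_rc_9_2 lc_b_rc_26_5 lc_b_Cert_tree lc_b_rc_8_2 lc_b_rc_9_2 lc_b_rc_26_5 lc_b_rc_9_2 lc_b_rc_8_2 lc_b_rc_25_8 lc_b_rc_9_2 lc_b_rc_26_7 lc_b_rc_1_5 lc_b_rc_6_1 lc_b_rc_8_2 lc_b_rc_26_1 lc_b_rc_9_2 lc_b_Cert_tree lc_b_rc_6_1 lc_b_Cert_tree lc_b_Cert_tree lc_b_rc_8_2 lc_b_rc_10_0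 lc_b_rc_10_2 lc_b_rc_6_1 lc_b_rc_10_2 lc_b_rc_7_4 lc_b_rc_26_7 lc_b_rc_8_2 lc_b_rc_8_0 lc_b_rc_1_3 lc_b_rc_10_2 lc_b_rc_26_5 lc_b_rc_6_1 lc_b_rc_8_2 lc_b_rc_26_1 lc_b_rc_9_2 lc_b_rc_9_0 lc_b_rc_10_2 lc_b_rc_6_1 lc_b_rc_9_2 lc_b_rc_8_0 lc_b_rc_9_2 lc_b_rc_9_2 lc_b_rc_9_2 lc_b_rc_9_0 lc_b_rc_26_5 lc_b_rc_9_2 lc_b_rc_7_2 lc_b_rc_9_2 lc_b_rc_1_1 lc_b_rc_10_2 lc_b_rc_6_1 lc_b_rc_10_2 lc_b_rc_8_2 lc_b_rc_9_2 lc_b_rc_10_2 lc_b_rc_10_2 lc_b_rc_8_2 lc_b_rc_10_2 lc_b_rc_6_1 lc_b_rc_7_2 lc_b_rc_26_5)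
def ce_b_17 : D2 → D3 → (Cert rels S Gen.b) := @D2.rec (fun _ => D3 → (Cert rels S Gen.b)) (@D3.rec (fun _ => (Cert rels S Gen.b)) lc_b_rc_6_1 lc_b_rc_7_0 lc_b_rc_26_1 lc_b_rc_6_1 lc_b_rc_1_3 lc_b_rc_8_2 lc_b_Cert_tree lc_b_rc_8_2 lc_b_rc_8_2 lc_b_rc_9_2 lc_b_rc_6_1 lc_b_rc_26_5 lc_b_rc_8_2 lc_b_rc_7_4 lc_b_rc_6_1 lc_b_rc_26_5 lc_b_rc_9_2 lc_b_rc_9_2 lc_b_rc_9_2 lc_b_rc_8_0 lc_b_rc_6_1 lc_b_rc_6_1 lc_b_rc_6_1 lc_b_rc_10_2 lc_b_rc_8_2 lc_b_rc_6_1 lc_b_rc_7_4 lc_b_rc_6_1 lc_b_rc_8_2 lc_b_rc_8_0 lc_b_rc_8_0 lc_b_rc_1_5 lc_b_rc_7_4 lc_b_rc_9_2 lc_b_rc_6_1 lc_b_rc_26_1 lc_b_rc_6_1 lc_b_rc_10_2 lc_b_rc_9_2 lc_b_rc_6_1 lc_b_rc_9_2 lc_b_rc_10_2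 lc_b_rc_6_1 lc_b_Cert_tree lc_b_rc_8_2 lc_b_rc_9_2 lc_b_rc_8_2 lc_b_rc_1_5 lc_b_rc_8_2 lc_b_Cert_tree lc_b_rc_26_5 lc_b_rc_9_0 lc_b_rc_6_1 lc_b_rc_10_2 lc_b_rc_10_2 lc_b_rc_9_2 lc_b_rc_10_0 lc_b_rc_7_0 lc_b_rc_9_0 lc_b_rc_8_2 lc_b_rc_10_2 lc_b_rc_6_1) (@D3.rec (fun _ => (Cert rels S Gen.b)) lc_b_rc_6_1 lc_b_rc_8_2 lc_b_rc_6_1 lc_b_rc_9_0 lc_b_rc_8_2 lc_b_rc_9_2 lc_b_Cert_tree lc_b_rc_6_1 lc_b_rc_10_0 lc_b_rc_10_2 lc_b_Cert_tree lc_b_rc_7_4 lc_b_rc_9_2 lc_b_rc_6_1 lc_b_Cert_tree lc_b_rc_9_2 lc_b_Cert_tree lc_b_rc_7_2 lc_b_Cert_tree lc_b_rc_6_1 lc_b_rc_8_2 lc_b_rc_7_2 lc_b_rc_9_2 lc_b_rc_9_2 lc_b_rc_10_0 lc_b_rc_8_2 lc_b_rc_7_4 lc_b_rc_9_2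 lc_b_rc_8_2 lc_b_rc_8_0 lc_b_rc_8_0 lc_b_rc_1_1 lc_b_rc_9_2 lc_b_rc_6_1 lc_b_rc_8_0 lc_b_rc_6_1 lc_b_rc_26_5 lc_b_rc_9_2 lc_b_rc_26_5 lc_b_rc_26_1 lc_b_rc_7_2 lc_b_rc_9_2 lc_b_Cert_tree lc_b_rc_9_2 lc_b_rc_6_1 lc_b_rc_8_2 lc_b_Cert_tree lc_b_rc_9_2 lc_b_rc_6_1 lc_b_rc_8_2 lc_b_rc_9_2 lc_b_rc_9_2 lc_b_rc_6_1 lc_b_rc_8_2 lc_b_rc_9_2 lc_b_rc_9_0 lc_b_rc_6_1 lc_b_rc_8_2 lc_b_rc_6_1 lc_b_rc_8_2 lc_b_rc_9_2 lc_b_rc_6_1) (@D3.rec (fun _ => (Cert rels S Gen.b)) lc_b_rc_8_2 lc_b_Cert_tree lc_b_Cert_tree lc_b_Cert_tree lc_b_rc_9_2 lc_b_rc_8_2 lc_b_rc_9_2 lc_b_Cert_tree lc_b_rc_8_2 lc_b_rc_10_0 lc_b_rc_1_3 lc_b_rc_8_2 lc_b_rc_9_2 lc_b_rc_9_2 lc_b_rc_8_2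 lc_b_rc_1_3 lc_b_rc_1_3 lc_b_rc_8_2 lc_b_rc_6_1 lc_b_rc_6_1 lc_b_rc_8_2 lc_b_rc_9_2 lc_b_rc_9_2 lc_b_rc_6_1 lc_b_rc_9_2 lc_b_rc_8_0 lc_b_rc_25_4 lc_b_rc_9_2 lc_b_rc_26_5 lc_b_rc_26_7 lc_b_rc_8_2 lc_b_rc_10_2 lc_b_rc_26_5 lc_b_rc_6_1 lc_b_rc_10_2 lc_b_rc_9_2 lc_b_rc_7_0 lc_b_rc_8_2 lc_b_rc_10_2 lc_b_rc_9_2 lc_b_Cert_tree lc_b_rc_9_2 lc_b_rc_6_1 lc_b_rc_8_0 lc_b_rc_10_2 lc_b_rc_6_1 lc_b_rc_26_7 lc_b_rc_7_0 lc_b_rc_10_2 lc_b_rc_1_3 lc_b_rc_8_0 lc_b_rc_26_5 lc_b_rc_8_2 lc_b_rc_1_3 lc_b_rc_26_7 lc_b_rc_9_2 lc_b_rc_6_1 lc_b_Cert_tree lc_b_rc_9_2 lc_b_rc_6_1 lc_b_rc_8_2 lc_b_rc_9_0) (@D3.rec (fun _ => (Cert rels S Gen.b)) lc_b_rc_9_2 lc_b_rc_7_4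 lc_b_rc_7_2 lc_b_rc_8_2 lc_b_rc_10_2 lc_b_rc_7_4 lc_b_rc_8_2 lc_b_rc_8_2 lc_b_rc_26_7 lc_b_rc_6_1 lc_b_rc_8_2 lc_b_rc_9_2 lc_b_rc_6_1 lc_b_rc_26_7 lc_b_rc_8_2 lc_b_rc_26_7 lc_b_rc_9_2 lc_b_rc_6_1 lc_b_rc_6_1 lc_b_rc_9_2 lc_b_rc_26_5 lc_b_rc_7_4 lc_b_rc_10_0 lc_b_rc_9_2 lc_b_rc_6_1 lc_b_rc_10_2 lc_b_rc_10_2 lc_b_rc_8_2 lc_b_rc_9_2 lc_b_rc_8_2 lc_b_rc_8_2 lc_b_rc_26_1 lc_b_rc_9_0 lc_b_rc_1_3 lc_b_rc_8_2 lc_b_rc_10_2 lc_b_rc_8_2 lc_b_rc_6_1 lc_b_rc_8_2 lc_b_rc_9_2 lc_b_rc_25_0 lc_b_Cert_tree lc_b_rc_9_2 lc_b_rc_10_2 lc_b_rc_10_2 lc_b_rc_9_2 lc_b_rc_25_8 lc_b_rc_9_2 lc_b_rc_26_5 lc_b_rc_6_1 lc_b_rc_9_2 lc_b_rc_25_4 lc_b_rc_6_1 lc_b_rc_6_1 lc_b_rc_6_1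 lc_b_rc_9_2 lc_b_rc_6_1 lc_b_rc_8_2 lc_b_rc_9_2 lc_b_rc_1_5 lc_b_rc_6_1 lc_b_rc_26_5) (@D3.rec (fun _ => (Cert rels S Gen.b)) lc_b_rc_9_2 lc_b_rc_1_5 lc_b_Cert_tree lc_b_rc_26_5 lc_b_rc_26_5 lc_b_rc_10_2 lc_b_rc_10_0 lc_b_rc_6_1 lc_b_rc_6_1 lc_b_rc_8_2 lc_b_rc_6_1 lc_b_rc_6_1 lc_b_rc_9_2 lc_b_rc_10_2 lc_b_rc_6_1 lc_b_rc_6_1 lc_b_rc_8_2 lc_b_rc_10_2 lc_b_rc_1_5 lc_b_rc_1_5 lc_b_rc_10_2 lc_b_rc_6_1 lc_b_rc_10_2 lc_b_rc_9_2 lc_b_Cert_tree lc_b_rc_8_2 lc_b_rc_10_2 lc_b_rc_1_5 lc_b_rc_10_2 lc_b_rc_8_2 lc_b_rc_26_7 lc_b_rc_8_2 lc_b_rc_8_0 lc_b_rc_7_4 lc_b_rc_8_0 lc_b_rc_8_2 lc_b_rc_9_0 lc_b_rc_8_2 lc_b_rc_7_4 lc_b_rc_10_2 lc_b_rc_6_1 lc_b_rc_26_1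 lc_b_rc_6_1 lc_b_rc_9_0 lc_b_rc_10_2 lc_b_rc_9_2 lc_b_rc_26_5 lc_b_rc_8_2 lc_b_rc_6_1 lc_b_rc_10_2 lc_b_rc_26_1 lc_b_rc_8_2 lc_b_rc_8_2 lc_b_rc_7_4 lc_b_rc_8_2 lc_b_rc_1_3 lc_b_rc_1_5 lc_b_rc_8_2 lc_b_rc_7_2 lc_b_rc_26_5 lc_b_rc_9_0 lc_b_rc_6_1) (@D3.rec (fun _ => (Cert rels S Gen.b)) lc_b_rc_8_2 lc_b_rc_10_2 lc_b_rc_1_5 lc_b_rc_8_2 lc_b_rc_10_2 lc_b_rc_6_1 lc_b_rc_26_5 lc_b_rc_1_3 lc_b_rc_6_1 lc_b_rc_6_1 lc_b_rc_6_1 lc_b_rc_26_5 lc_b_rc_8_2 lc_b_rc_1_5 lc_b_rc_9_0 lc_b_rc_6_1 lc_b_rc_7_0 lc_b_rc_8_2 lc_b_rc_8_2 lc_b_rc_8_0 lc_b_rc_9_2 lc_b_rc_6_1 lc_b_rc_9_2 lc_b_rc_9_2 lc_b_rc_26_1 lc_b_rc_26_7 lc_b_rc_26_5 lc_b_rc_9_2 lc_b_rc_10_2 lc_b_Cert_tree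 lc_b_rc_8_2 lc_b_rc_9_0 lc_b_rc_8_2 lc_b_rc_6_1 lc_b_rc_9_2 lc_b_rc_9_2 lc_b_rc_9_2 lc_b_rc_6_1 lc_b_rc_26_5 lc_b_rc_8_2 lc_b_rc_10_2 lc_b_rc_9_2 lc_b_rc_10_2 lc_b_rc_26_5 lc_b_rc_9_2 lc_b_rc_6_1 lc_b_rc_6_1 lc_b_rc_9_2 lc_b_rc_10_2 lc_b_rc_9_0 lc_b_rc_8_2 lc_b_rc_25_4 lc_b_rc_6_1 lc_b_rc_26_1 lc_b_rc_9_2 lc_b_rc_8_0 lc_b_rc_10_2 lc_b_rc_9_2 lc_b_rc_10_2 lc_b_rc_8_2 lc_b_rc_26_1 lc_b_rc_8_2) (@D3.rec (fun _ => (Cert rels S Gen.b)) lc_b_rc_26_1 lc_b_Cert_tree lc_b_rc_10_2 lc_b_Cert_tree lc_b_rc_9_2 lc_b_rc_7_2 lc_b_rc_8_2 lc_b_rc_26_7 lc_b_rc_8_2 lc_b_rc_26_7 lc_b_rc_6_1 lc_b_rc_10_2 lc_b_rc_9_2 lc_b_rc_25_16 lc_b_rc_9_2 lc_b_rc_8_2 lc_b_rc_9_2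 lc_b_rc_8_0 lc_b_rc_8_2 lc_b_rc_6_1 lc_b_rc_10_2 lc_b_rc_10_2 lc_b_rc_6_1 lc_b_rc_8_2 lc_b_rc_8_2 lc_b_Cert_tree lc_b_rc_26_5 lc_b_rc_10_2 lc_b_rc_9_2 lc_b_rc_26_5 lc_b_rc_9_2 lc_b_rc_6_1 lc_b_rc_9_2 lc_b_Cert_tree lc_b_rc_26_5 lc_b_rc_9_0 lc_b_rc_6_1 lc_b_rc_8_2 lc_b_rc_7_2 lc_b_rc_8_2 lc_b_rc_10_2 lc_b_rc_6_1 lc_b_rc_6_1 lc_b_rc_10_2 lc_b_rc_8_2 lc_b_Cert_tree lc_b_rc_9_2 lc_b_rc_26_5 lc_b_rc_6_1 lc_b_rc_8_2 lc_b_rc_9_2 lc_b_rc_26_1 lc_b_rc_8_2 lc_b_rc_6_1 lc_b_rc_8_2 lc_b_rc_9_2 lc_b_rc_9_2 lc_b_rc_8_2 lc_b_rc_10_0 lc_b_rc_9_0 lc_b_rc_6_1 lc_b_rc_8_2) (@D3.rec (fun _ => (Cert rels S Gen.b)) lc_b_rc_9_2 lc_b_Cert_tree lc_b_rc_8_0 lc_b_rc_8_2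 lc_b_rc_8_2 lc_b_rc_6_1 lc_b_rc_8_2 lc_b_rc_9_2 lc_b_rc_6_1 lc_b_rc_8_2 lc_b_rc_6_1 lc_b_rc_1_3 lc_b_rc_8_2 lc_b_Cert_tree lc_b_Cert_tree lc_b_Cert_tree lc_b_rc_9_2 lc_b_rc_7_2 lc_b_rc_8_2 lc_b_rc_1_3 lc_b_rc_9_2 lc_b_rc_6_1 lc_b_rc_7_4 lc_b_rc_8_2 lc_b_rc_6_1 lc_b_rc_9_0 lc_b_rc_8_2 lc_b_rc_9_2 lc_b_Cert_tree lc_b_rc_6_1 lc_b_Cert_tree lc_b_rc_9_2 lc_b_rc_6_1 lc_b_rc_8_2 lc_b_rc_6_1 lc_b_rc_1_1 lc_b_rc_7_4 lc_b_rc_26_1 lc_b_rc_7_2 lc_b_rc_8_2 lc_b_rc_7_4 lc_b_rc_7_2 lc_b_rc_6_1 lc_b_rc_8_2 lc_b_rc_9_2 lc_b_rc_10_2 lc_b_rc_6_1 lc_b_rc_8_2 lc_b_rc_6_1 lc_b_rc_8_2 lc_b_rc_9_2 lc_b_rc_6_1 lc_b_rc_9_2 lc_b_rc_1_5 lc_b_rc_6_1 lc_b_rc_9_2 lc_b_rc_8_2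 lc_b_rc_26_5 lc_b_rc_26_5 lc_b_rc_8_2 lc_b_rc_9_2 lc_b_rc_8_2) (@D3.rec (fun _ => (Cert rels S Gen.b)) lc_b_rc_26_7 lc_b_rc_26_7 lc_b_rc_8_2 lc_b_rc_7_2 lc_b_rc_1_5 lc_b_rc_9_0 lc_b_rc_6_1 lc_b_rc_10_2 lc_b_rc_6_1 lc_b_rc_8_2 lc_b_rc_1_3 lc_b_rc_9_2 lc_b_rc_26_7 lc_b_rc_6_1 lc_b_rc_8_2 lc_b_Cert_tree lc_b_rc_7_4 lc_b_rc_6_1 lc_b_rc_8_2 lc_b_rc_1_5 lc_b_rc_6_1 lc_b_rc_6_1 lc_b_rc_10_0 lc_b_rc_6_1 lc_b_rc_7_0 lc_b_rc_7_4 lc_b_rc_8_0 lc_b_rc_26_5 lc_b_rc_1_3 lc_b_rc_6_1 lc_b_rc_1_5 lc_b_rc_9_2 lc_b_rc_9_2 lc_b_rc_6_1 lc_b_rc_10_2 lc_b_rc_9_2 lc_b_rc_9_2 lc_b_rc_9_2 lc_b_rc_26_7 lc_b_rc_9_2 lc_b_rc_6_1 lc_b_rc_9_2 lc_b_rc_8_2 lc_b_rc_8_0 lc_b_rc_8_2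 lc_b_rc_26_7 lc_b_rc_10_2 lc_b_rc_9_2 lc_b_rc_9_0 lc_b_rc_6_1 lc_b_rc_6_1 lc_b_rc_7_0 lc_b_rc_1_3 lc_b_rc_9_2 lc_b_rc_8_2 lc_b_rc_7_4 lc_b_rc_26_5 lc_b_rc_1_3 lc_b_rc_6_1 lc_b_rc_9_2 lc_b_Cert_tree lc_b_rc_6_1) (@D3.rec (fun _ => (Cert rels S Gen.b)) lc_b_rc_6_1 lc_b_rc_6_1 lc_b_rc_10_2 lc_b_rc_9_2 lc_b_rc_6_1 lc_b_rc_1_1 lc_b_rc_8_2 lc_b_rc_10_2 lc_b_rc_6_1 lc_b_rc_26_7 lc_b_rc_8_2 lc_b_rc_9_2 lc_b_rc_7_4 lc_b_rc_8_2 lc_b_rc_8_2 lc_b_rc_26_5 lc_b_rc_8_2 lc_b_rc_9_2 lc_b_rc_6_1 lc_b_rc_9_2 lc_b_Cert_tree lc_b_Cert_tree lc_b_rc_9_2 lc_b_rc_8_2 lc_b_rc_7_2 lc_b_rc_26_7 lc_b_rc_8_2 lc_b_rc_7_4 lc_b_rc_9_2 lc_b_Cert_tree lc_b_rc_9_2 lc_b_rc_6_1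 lc_b_rc_26_7 lc_b_rc_1_1 lc_b_rc_1_1 lc_b_rc_10_2 lc_b_rc_7_4 lc_b_rc_26_7 lc_b_rc_6_1 lc_b_rc_8_2 lc_b_rc_8_0 lc_b_rc_9_0 lc_b_rc_7_4 lc_b_rc_7_0 lc_b_rc_7_4 lc_b_rc_6_1 lc_b_rc_10_0 lc_b_rc_9_2 lc_b_rc_26_5 lc_b_rc_26_1 lc_b_rc_9_2 lc_b_rc_8_2 lc_b_rc_6_1 lc_b_rc_8_2 lc_b_rc_6_1 lc_b_rc_8_2 lc_b_rc_8_2 lc_b_rc_10_2 lc_b_rc_6_1 lc_b_rc_6_1 lc_b_rc_9_2 lc_b_rc_6_1) (@D3.rec (fun _ => (Cert rels S Gen.b)) lc_b_rc_8_2 lc_b_rc_8_2 lc_b_rc_26_5 lc_b_rc_9_2 lc_b_rc_8_2 lc_b_Cert_tree lc_b_rc_7_2 lc_b_rc_8_2 lc_b_rc_26_1 lc_b_rc_9_2 lc_b_rc_8_2 lc_b_rc_8_2 lc_b_rc_6_1 lc_b_rc_8_2 lc_b_rc_9_2 lc_b_Cert_tree lc_b_rc_7_2 lc_b_rc_1_3 lc_b_rc_8_2 lc_b_rc_8_2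 lc_b_rc_8_2 lc_b_rc_8_2 lc_b_rc_7_2 lc_b_rc_6_1 lc_b_rc_6_1 lc_b_rc_7_0 lc_b_rc_1_3 lc_b_rc_8_2 lc_b_Cert_tree lc_b_rc_9_2 lc_b_rc_1_3 lc_b_rc_9_2 lc_b_rc_9_2 lc_b_rc_8_2 lc_b_rc_10_2 lc_b_rc_6_1 lc_b_rc_8_2 lc_b_rc_9_2 lc_b_rc_6_1 lc_b_rc_26_5 lc_b_rc_9_2 lc_b_rc_6_1 lc_b_rc_8_2 lc_b_rc_10_2 lc_b_rc_26_5 lc_b_rc_10_0 lc_b_rc_8_2 lc_b_rc_9_2 lc_b_rc_6_1 lc_b_rc_9_2 lc_b_rc_9_2 lc_b_rc_9_2 lc_b_rc_26_7 lc_b_rc_6_1 lc_b_Cert_tree lc_b_rc_6_1 lc_b_rc_8_2 lc_b_rc_10_2 lc_b_rc_9_2 lc_b_rc_9_2 lc_b_rc_6_1 lc_b_rc_8_0) (@D3.rec (fun _ => (Cert rels S Gen.b)) lc_b_rc_9_2 lc_b_rc_8_0 lc_b_rc_10_2 lc_b_rc_9_2 lc_b_rc_9_2 lc_b_rc_8_2 lc_b_rc_7_2 lc_b_rc_8_2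 lc_b_rc_9_2 lc_b_Cert_tree lc_b_Cert_tree lc_b_rc_9_2 lc_b_rc_8_2 lc_b_rc_7_4 lc_b_rc_8_2 lc_b_rc_26_1 lc_b_rc_6_1 lc_b_rc_26_5 lc_b_rc_8_0 lc_b_rc_1_1 lc_b_rc_8_2 lc_b_rc_10_2 lc_b_rc_9_2 lc_b_rc_25_4 lc_b_rc_10_2 lc_b_rc_25_0 lc_b_rc_26_5 lc_b_rc_9_2 lc_b_rc_7_0 lc_b_rc_26_5 lc_b_rc_8_2 lc_b_rc_26_7 lc_b_rc_10_2 lc_b_rc_26_7 lc_b_rc_6_1 lc_b_rc_26_7 lc_b_rc_6_1 lc_b_rc_8_0 lc_b_Cert_tree lc_b_rc_6_1 lc_b_rc_10_2 lc_b_rc_7_0 lc_b_rc_1_3 lc_b_rc_8_2 lc_b_rc_9_2 lc_b_Cert_tree lc_b_rc_9_2 lc_b_rc_8_2 lc_b_rc_10_2 lc_b_rc_6_1 lc_b_rc_1_3 lc_b_rc_26_1 lc_b_rc_8_2 lc_b_rc_7_4 lc_b_rc_6_1 lc_b_Cert_tree lc_b_rc_9_2 lc_b_Cert_tree lc_b_rc_9_2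 lc_b_rc_6_1 lc_b_rc_8_2 lc_b_rc_6_1) (@D3.rec (fun _ => (Cert rels S Gen.b)) lc_b_rc_8_2 lc_b_rc_9_2 lc_b_rc_8_2 lc_b_rc_6_1 lc_b_rc_1_3 lc_b_rc_9_2 lc_b_Cert_tree lc_b_rc_8_2 lc_b_rc_8_2 lc_b_rc_9_2 lc_b_rc_26_5 lc_b_rc_10_2 lc_b_rc_7_2 lc_b_rc_10_2 lc_b_Cert_tree lc_b_rc_9_2 lc_b_rc_7_4 lc_b_rc_6_1 lc_b_rc_9_2 lc_b_rc_9_2 lc_b_rc_6_1 lc_b_Cert_tree lc_b_rc_9_2 lc_b_rc_9_2 lc_b_Cert_tree lc_b_rc_6_1 lc_b_rc_8_2 lc_b_rc_10_2 lc_b_rc_10_2 lc_b_rc_6_1 lc_b_rc_10_2 lc_b_rc_9_2 lc_b_rc_6_1 lc_b_rc_6_1 lc_b_rc_9_2 lc_b_Cert_tree lc_b_rc_1_3 lc_b_rc_8_2 lc_b_rc_9_2 lc_b_Cert_tree lc_b_rc_9_2 lc_b_rc_10_2 lc_b_Cert_tree lc_b_rc_9_2 lc_b_rc_8_2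 lc_b_rc_8_0 lc_b_rc_7_4 lc_b_rc_6_1 lc_b_rc_10_2 lc_b_rc_6_1 lc_b_rc_8_2 lc_b_Cert_tree lc_b_rc_8_2 lc_b_rc_6_1 lc_b_rc_1_5 lc_b_rc_8_0 lc_b_rc_7_4 lc_b_rc_7_0 lc_b_rc_9_2 lc_b_rc_6_1 lc_b_rc_10_2 lc_b_rc_9_2) (@D3.rec (fun _ => (Cert rels S Gen.b)) lc_b_rc_6_1 lc_b_rc_9_2 lc_b_rc_6_1 lc_b_rc_8_0 lc_b_rc_1_1 lc_b_rc_10_2 lc_b_rc_8_0 lc_b_rc_10_2 lc_b_rc_7_2 lc_b_rc_9_2 lc_b_rc_6_1 lc_b_rc_6_1 lc_b_Cert_tree lc_b_rc_1_3 lc_b_rc_6_1 lc_b_rc_25_4 lc_b_rc_9_2 lc_b_rc_9_2 lc_b_rc_7_2 lc_b_rc_8_2 lc_b_rc_7_2 lc_b_Cert_tree lc_b_rc_1_3 lc_b_rc_1_3 lc_b_rc_8_0 lc_b_rc_1_3 lc_b_rc_9_2 lc_b_rc_6_1 lc_b_Cert_tree lc_b_rc_7_2 lc_b_Cert_tree lc_b_Cert_tree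 lc_b_rc_8_2 lc_b_rc_6_1 lc_b_rc_26_7 lc_b_rc_9_2 lc_b_rc_6_1 lc_b_rc_26_5 lc_b_rc_25_4 lc_b_Cert_tree lc_b_rc_25_12 lc_b_rc_6_1 lc_b_rc_8_2 lc_b_rc_6_1 lc_b_Cert_tree lc_b_rc_6_1 lc_b_rc_1_3 lc_b_rc_26_5 lc_b_rc_9_2 lc_b_Cert_tree lc_b_rc_10_2 lc_b_rc_6_1 lc_b_rc_8_2 lc_b_rc_8_0 lc_b_Cert_tree lc_b_rc_1_3 lc_b_rc_8_2 lc_b_rc_6_1 lc_b_Cert_tree lc_b_rc_1_3 lc_b_rc_8_2 lc_b_rc_1_3) (@D3.rec (fun _ => (Cert rels S Gen.b)) lc_b_rc_26_5 lc_b_rc_6_1 lc_b_Cert_tree lc_b_rc_7_2 lc_b_rc_9_2 lc_b_rc_6_1 lc_b_rc_8_2 lc_b_rc_6_1 lc_b_rc_6_1 lc_b_rc_10_0 lc_b_rc_6_1 lc_b_rc_6_1 lc_b_rc_6_1 lc_b_rc_6_1 lc_b_rc_9_2 lc_b_Cert_tree lc_b_rc_1_3 lc_b_rc_8_2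 lc_b_rc_9_2 lc_b_rc_9_2 lc_b_rc_7_4 lc_b_Cert_tree lc_b_rc_9_2 lc_b_rc_9_2 lc_b_rc_6_1 lc_b_rc_9_0 lc_b_rc_26_5 lc_b_rc_9_2 lc_b_rc_8_0 lc_b_rc_6_1 lc_b_rc_6_1 lc_b_rc_7_4 lc_b_rc_7_0 lc_b_rc_6_1 lc_b_rc_6_1 lc_b_rc_1_5 lc_b_Cert_tree lc_b_rc_9_2 lc_b_rc_6_1 lc_b_rc_8_2 lc_b_rc_25_0 lc_b_rc_6_1 lc_b_rc_25_16 lc_b_rc_6_1 lc_b_rc_7_2 lc_b_rc_1_3 lc_b_rc_8_2 lc_b_rc_9_2 lc_b_rc_9_2 lc_b_rc_10_2 lc_b_Cert_tree lc_b_rc_8_2 lc_b_rc_1_3 lc_b_rc_26_5 lc_b_rc_7_4 lc_b_rc_9_2 lc_b_rc_9_2 lc_b_rc_8_0 lc_b_rc_10_2 lc_b_Cert_tree lc_b_rc_6_1 lc_b_rc_1_5) (@D3.rec (fun _ => (Cert rels S Gen.b)) lc_b_rc_6_1 lc_b_rc_1_1 lc_b_rc_8_2 lc_b_rc_6_1 lc_b_rc_9_0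 lc_b_rc_8_2 lc_b_rc_10_2 lc_b_rc_6_1 lc_b_rc_26_5 lc_b_rc_8_2 lc_b_rc_9_2 lc_b_rc_7_2 lc_b_rc_9_2 lc_b_rc_8_2 lc_b_Cert_tree lc_b_rc_26_5 lc_b_Cert_tree lc_b_rc_10_0 lc_b_rc_8_2 lc_b_rc_8_2 lc_b_rc_1_3 lc_b_rc_8_2 lc_b_rc_26_7 lc_b_rc_6_1 lc_b_rc_6_1 lc_b_rc_26_5 lc_b_rc_26_5 lc_b_rc_26_5 lc_b_rc_9_0 lc_b_rc_10_2 lc_b_rc_10_2 lc_b_rc_26_7 lc_b_rc_26_5 lc_b_rc_1_3 lc_b_rc_26_5 lc_b_rc_9_2 lc_b_rc_10_2 lc_b_rc_6_1 lc_b_rc_26_7 lc_b_rc_26_1 lc_b_rc_8_2 lc_b_rc_10_2 lc_b_rc_7_4 lc_b_rc_10_2 lc_b_rc_6_1 lc_b_rc_8_2 lc_b_rc_9_2 lc_b_rc_26_5 lc_b_rc_26_5 lc_b_rc_6_1 lc_b_rc_7_0 lc_b_rc_10_0 lc_b_rc_10_2 lc_b_rc_8_2 lc_b_rc_26_1 lc_b_rc_8_2 lc_b_rc_7_2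 lc_b_rc_6_1 lc_b_rc_8_2 lc_b_rc_6_1 lc_b_rc_6_1 lc_b_rc_9_2) (@D3.rec (fun _ => (Cert rels S Gen.b)) lc_b_rc_9_2 lc_b_rc_25_12 lc_b_rc_6_1 lc_b_rc_6_1 lc_b_Cert_tree lc_b_rc_6_1 lc_b_rc_8_2 lc_b_rc_6_1 lc_b_rc_6_1 lc_b_rc_1_3 lc_b_rc_8_2 lc_b_rc_6_1 lc_b_rc_1_3 lc_b_rc_26_5 lc_b_rc_9_2 lc_b_rc_7_4 lc_b_rc_8_2 lc_b_rc_9_2 lc_b_rc_9_2 lc_b_rc_8_2 lc_b_rc_8_2 lc_b_rc_6_1 lc_b_rc_6_1 lc_b_rc_7_4 lc_b_rc_9_2 lc_b_rc_6_1 lc_b_rc_10_0 lc_b_rc_10_2 lc_b_rc_26_1 lc_b_rc_6_1 lc_b_rc_9_2 lc_b_rc_8_2 lc_b_rc_6_1 lc_b_rc_1_3 lc_b_rc_1_3 lc_b_rc_6_1 lc_b_rc_8_2 lc_b_rc_9_2 lc_b_rc_1_3 lc_b_rc_9_2 lc_b_rc_9_2 lc_b_rc_1_5 lc_b_rc_10_2 lc_b_rc_6_1 lc_b_rc_8_2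 lc_b_Cert_tree lc_b_Cert_tree lc_b_rc_6_1 lc_b_rc_8_2 lc_b_Cert_tree lc_b_Cert_tree lc_b_rc_7_2 lc_b_rc_6_1 lc_b_rc_6_1 lc_b_rc_8_2 lc_b_rc_8_2 lc_b_Cert_tree lc_b_Cert_tree lc_b_rc_9_2 lc_b_rc_6_1 lc_b_rc_8_2 lc_b_Cert_tree) (@D3.rec (fun _ => (Cert rels S Gen.b)) lc_b_rc_7_0 lc_b_rc_9_2 lc_b_rc_26_5 lc_b_rc_26_5 lc_b_rc_8_2 lc_b_Cert_tree lc_b_rc_9_2 lc_b_rc_6_1 lc_b_rc_9_2 lc_b_rc_9_2 lc_b_Cert_tree lc_b_rc_6_1 lc_b_rc_8_2 lc_b_rc_10_2 lc_b_rc_6_1 lc_b_rc_8_2 lc_b_rc_1_5 lc_b_rc_6_1 lc_b_Cert_tree lc_b_rc_7_4 lc_b_rc_8_2 lc_b_rc_9_2 lc_b_rc_8_2 lc_b_rc_10_2 lc_b_Cert_tree lc_b_rc_26_1 lc_b_rc_8_2 lc_b_rc_9_2 lc_b_rc_8_2 lc_b_rc_10_2 lc_b_Cert_tree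 lc_b_rc_9_2 lc_b_rc_6_1 lc_b_Cert_tree lc_b_rc_9_2 lc_b_rc_6_1 lc_b_rc_9_2 lc_b_Cert_tree lc_b_Cert_tree lc_b_rc_6_1 lc_b_Cert_tree lc_b_Cert_tree lc_b_rc_9_2 lc_b_rc_1_3 lc_b_rc_8_2 lc_b_rc_9_2 lc_b_Cert_tree lc_b_rc_9_2 lc_b_rc_26_5 lc_b_rc_7_0 lc_b_rc_6_1 lc_b_rc_6_1 lc_b_rc_6_1 lc_b_rc_6_1 lc_b_rc_8_2 lc_b_rc_8_2 lc_b_rc_26_5 lc_b_Cert_tree lc_b_rc_7_4 lc_b_Cert_tree lc_b_Cert_tree lc_b_rc_6_1) (@D3.rec (fun _ => (Cert rels S Gen.b)) lc_b_rc_8_2 lc_b_Cert_tree lc_b_Cert_tree lc_b_rc_1_3 lc_b_rc_8_2 lc_b_rc_9_2 lc_b_rc_9_2 lc_b_rc_26_5 lc_b_rc_26_1 lc_b_rc_8_2 lc_b_rc_8_2 lc_b_rc_1_3 lc_b_rc_9_2 lc_b_rc_9_2 lc_b_rc_6_1 lc_b_rc_6_1 lc_b_rc_8_2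 lc_b_Cert_tree lc_b_rc_9_2 lc_b_rc_8_0 lc_b_rc_6_1 lc_b_rc_10_2 lc_b_Cert_tree lc_b_rc_8_2 lc_b_rc_10_2 lc_b_rc_26_1 lc_b_rc_7_0 lc_b_rc_8_2 lc_b_Cert_tree lc_b_rc_26_5 lc_b_rc_9_2 lc_b_rc_8_2 lc_b_rc_8_2 lc_b_rc_26_7 lc_b_rc_8_2 lc_b_rc_10_2 lc_b_rc_8_0 lc_b_rc_8_2 lc_b_rc_9_2 lc_b_rc_9_0 lc_b_rc_8_2 lc_b_rc_9_2 lc_b_Cert_tree lc_b_rc_26_5 lc_b_rc_9_2 lc_b_rc_9_2 lc_b_rc_8_2 lc_b_rc_10_2 lc_b_rc_9_2 lc_b_rc_10_2 lc_b_rc_6_1 lc_b_rc_10_2 lc_b_rc_6_1 lc_b_rc_8_2 lc_b_rc_6_1 lc_b_rc_8_2 lc_b_rc_9_2 lc_b_Cert_tree lc_b_rc_25_8 lc_b_Cert_tree lc_b_rc_10_2 lc_b_rc_6_1) (@D3.rec (fun _ => (Cert rels S Gen.b)) lc_b_rc_26_1 lc_b_rc_9_2 lc_b_rc_8_2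 lc_b_rc_9_2 lc_b_rc_1_1 lc_b_rc_9_2 lc_b_rc_6_1 lc_b_rc_7_4 lc_b_rc_9_2 lc_b_rc_6_1 lc_b_rc_6_1 lc_b_rc_9_2 lc_b_rc_9_2 lc_b_rc_9_2 lc_b_rc_6_1 lc_b_rc_6_1 lc_b_rc_8_2 lc_b_rc_8_2 lc_b_rc_6_1 lc_b_rc_9_2 lc_b_Cert_tree lc_b_rc_26_5 lc_b_rc_8_2 lc_b_rc_6_1 lc_b_rc_8_2 lc_b_Cert_tree lc_b_Cert_tree lc_b_rc_9_2 lc_b_rc_6_1 lc_b_rc_6_1 lc_b_rc_9_2 lc_b_rc_9_2 lc_b_rc_6_1 lc_b_rc_6_1 lc_b_rc_9_2 lc_b_rc_10_2 lc_b_rc_9_2 lc_b_rc_7_4 lc_b_rc_8_2 lc_b_Cert_tree lc_b_rc_9_2 lc_b_rc_1_5 lc_b_rc_6_1 lc_b_rc_10_2 lc_b_rc_26_1 lc_b_rc_8_2 lc_b_rc_9_2 lc_b_rc_8_2 lc_b_rc_6_1 lc_b_rc_8_2 lc_b_rc_9_2 lc_b_rc_6_1 lc_b_rc_6_1 lc_b_rc_8_2 lc_b_rc_10_2 lc_b_rc_9_2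 lc_b_rc_7_4 lc_b_rc_9_2 lc_b_rc_6_1 lc_b_Cert_tree lc_b_rc_8_2 lc_b_rc_10_2) (@D3.rec (fun _ => (Cert rels S Gen.b)) lc_b_rc_26_5 lc_b_rc_8_2 lc_b_rc_6_1 lc_b_Cert_tree lc_b_rc_8_2 lc_b_rc_8_2 lc_b_Cert_tree lc_b_rc_1_5 lc_b_Cert_tree lc_b_rc_10_2 lc_b_rc_6_1 lc_b_rc_8_2 lc_b_rc_9_2 lc_b_Cert_tree lc_b_rc_1_3 lc_b_Cert_tree lc_b_rc_10_2 lc_b_rc_6_1 lc_b_rc_8_2 lc_b_Cert_tree lc_b_rc_9_2 lc_b_Cert_tree lc_b_rc_9_2 lc_b_rc_6_1 lc_b_Cert_tree lc_b_rc_9_2 lc_b_rc_8_2 lc_b_rc_9_2 lc_b_rc_1_3 lc_b_rc_6_1 lc_b_rc_9_2 lc_b_Cert_tree lc_b_rc_1_3 lc_b_rc_8_2 lc_b_rc_9_2 lc_b_rc_9_2 lc_b_rc_8_2 lc_b_rc_9_2 lc_b_rc_9_2 lc_b_rc_7_4 lc_b_Cert_tree lc_b_rc_6_1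 lc_b_rc_8_2 lc_b_rc_6_1 lc_b_rc_9_2 lc_b_rc_8_2 lc_b_Cert_tree lc_b_Cert_tree lc_b_rc_9_2 lc_b_rc_7_0 lc_b_rc_7_0 lc_b_rc_8_2 lc_b_Cert_tree lc_b_rc_9_2 lc_b_rc_1_5 lc_b_rc_9_2 lc_b_rc_6_1 lc_b_rc_9_2 lc_b_rc_26_1 lc_b_rc_7_0 lc_b_rc_6_1 lc_b_rc_6_1) (@D3.rec (fun _ => (Cert rels S Gen.b)) lc_b_rc_1_3 lc_b_rc_9_2 lc_b_rc_6_1 lc_b_rc_10_2 lc_b_rc_6_1 lc_b_rc_6_1 lc_b_rc_8_2 lc_b_rc_9_2 lc_b_rc_6_1 lc_b_rc_26_5 lc_b_rc_9_2 lc_b_Cert_tree lc_b_rc_8_0 lc_b_rc_7_4 lc_b_rc_9_2 lc_b_rc_1_5 lc_b_rc_10_2 lc_b_rc_10_0 lc_b_rc_6_1 lc_b_rc_8_2 lc_b_rc_6_1 lc_b_rc_1_1 lc_b_rc_9_2 lc_b_rc_9_2 lc_b_rc_7_4 lc_b_rc_1_1 lc_b_rc_7_2 lc_b_rc_8_2 lc_b_rc_8_2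 lc_b_rc_8_2 lc_b_rc_9_2 lc_b_rc_8_0 lc_b_rc_9_2 lc_b_Cert_tree lc_b_Cert_tree lc_b_rc_6_1 lc_b_rc_26_7 lc_b_rc_9_2 lc_b_rc_6_1 lc_b_rc_6_1 lc_b_Cert_tree lc_b_rc_26_5 lc_b_rc_1_1 lc_b_rc_8_2 lc_b_rc_10_2 lc_b_rc_6_1 lc_b_rc_26_1 lc_b_rc_8_2 lc_b_rc_8_2 lc_b_rc_9_2 lc_b_rc_8_2 lc_b_rc_6_1 lc_b_rc_9_2 lc_b_rc_10_2 lc_b_Cert_tree lc_b_rc_6_1 lc_b_rc_8_2 lc_b_rc_8_2 lc_b_rc_6_1 lc_b_rc_26_5 lc_b_rc_8_2 lc_b_rc_9_2) (@D3.rec (fun _ => (Cert rels S Gen.b)) lc_b_rc_6_1 lc_b_rc_26_5 lc_b_rc_9_2 lc_b_rc_8_2 lc_b_rc_6_1 lc_b_rc_9_2 lc_b_rc_7_4 lc_b_rc_6_1 lc_b_rc_8_2 lc_b_rc_9_2 lc_b_rc_6_1 lc_b_rc_8_2 lc_b_rc_8_2 lc_b_rc_26_7 lc_b_Cert_tree lc_b_rc_1_3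 lc_b_rc_8_2 lc_b_rc_10_2 lc_b_rc_1_5 lc_b_rc_6_1 lc_b_rc_1_3 lc_b_rc_10_0 lc_b_rc_9_2 lc_b_rc_26_1 lc_b_rc_8_2 lc_b_rc_10_2 lc_b_rc_9_2 lc_b_rc_7_2 lc_b_rc_9_2 lc_b_rc_26_5 lc_b_rc_6_1 lc_b_rc_6_1 lc_b_rc_1_1 lc_b_rc_9_2 lc_b_rc_1_1 lc_b_rc_10_2 lc_b_rc_1_5 lc_b_rc_9_2 lc_b_rc_1_3 lc_b_rc_6_1 lc_b_rc_10_2 lc_b_rc_6_1 lc_b_rc_9_2 lc_b_rc_8_2 lc_b_rc_8_2 lc_b_rc_6_1 lc_b_rc_26_5 lc_b_rc_8_2 lc_b_rc_26_7 lc_b_rc_8_0 lc_b_rc_9_2 lc_b_rc_7_4 lc_b_rc_10_2 lc_b_rc_9_2 lc_b_rc_6_1 lc_b_rc_26_1 lc_b_rc_9_2 lc_b_rc_8_2 lc_b_rc_6_1 lc_b_rc_9_2 lc_b_rc_6_1 lc_b_rc_8_2) (@D3.rec (fun _ => (Cert rels S Gen.b)) lc_b_rc_7_2 lc_b_rc_9_2 lc_b_rc_7_2 lc_b_Cert_tree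 lc_b_rc_8_2 lc_b_rc_10_2 lc_b_rc_6_1 lc_b_rc_8_2 lc_b_rc_9_0 lc_b_rc_6_1 lc_b_rc_6_1 lc_b_rc_6_1 lc_b_rc_9_2 lc_b_rc_9_0 lc_b_rc_9_0 lc_b_rc_6_1 lc_b_rc_9_0 lc_b_rc_9_2 lc_b_rc_9_2 lc_b_rc_8_2 lc_b_rc_9_2 lc_b_rc_10_2 lc_b_rc_8_2 lc_b_rc_25_4 lc_b_rc_9_2 lc_b_rc_8_2 lc_b_rc_9_2 lc_b_rc_6_1 lc_b_rc_9_2 lc_b_rc_10_2 lc_b_rc_1_1 lc_b_rc_9_0 lc_b_rc_6_1 lc_b_rc_6_1 lc_b_rc_8_2 lc_b_rc_10_2 lc_b_Cert_tree lc_b_rc_10_2 lc_b_rc_9_2 lc_b_rc_10_2 lc_b_rc_6_1 lc_b_rc_9_2 lc_b_rc_1_3 lc_b_rc_26_1 lc_b_rc_9_2 lc_b_rc_6_1 lc_b_rc_8_0 lc_b_rc_1_1 lc_b_rc_10_2 lc_b_rc_6_1 lc_b_Cert_tree lc_b_rc_8_2 lc_b_rc_6_1 lc_b_rc_6_1 lc_b_rc_9_0 lc_b_rc_8_2 lc_b_rc_6_1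 lc_b_Cert_tree lc_b_Cert_tree lc_b_rc_10_2 lc_b_rc_6_1 lc_b_rc_6_1) (@D3.rec (fun _ => (Cert rels S Gen.b)) lc_b_Cert_tree lc_b_rc_8_2 lc_b_rc_9_2 lc_b_rc_9_2 lc_b_rc_1_1 lc_b_rc_9_2 lc_b_rc_8_2 lc_b_rc_9_0 lc_b_rc_9_2 lc_b_rc_6_1 lc_b_rc_10_2 lc_b_rc_10_2 lc_b_rc_7_0 lc_b_rc_25_8 lc_b_rc_6_1 lc_b_rc_8_2 lc_b_rc_10_2 lc_b_rc_9_2 lc_b_rc_9_2 lc_b_rc_1_1 lc_b_rc_9_2 lc_b_rc_6_1 lc_b_rc_8_2 lc_b_rc_10_2 lc_b_rc_6_1 lc_b_rc_10_2 lc_b_rc_8_2 lc_b_rc_9_2 lc_b_Cert_tree lc_b_rc_8_2 lc_b_Cert_tree lc_b_rc_10_2 lc_b_rc_6_1 lc_b_rc_7_0 lc_b_rc_9_2 lc_b_rc_9_2 lc_b_rc_6_1 lc_b_rc_7_2 lc_b_rc_9_2 lc_b_rc_6_1 lc_b_rc_6_1 lc_b_rc_8_2 lc_b_rc_10_2 lc_b_rc_10_2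 lc_b_rc_1_5 lc_b_rc_6_1 lc_b_rc_8_2 lc_b_rc_8_0 lc_b_Cert_tree lc_b_rc_26_5 lc_b_rc_10_2 lc_b_rc_26_5 lc_b_rc_8_2 lc_b_rc_9_2 lc_b_rc_6_1 lc_b_rc_6_1 lc_b_rc_10_2 lc_b_Cert_tree lc_b_rc_6_1 lc_b_Cert_tree lc_b_rc_9_2 lc_b_rc_10_0) (@D3.rec (fun _ => (Cert rels S Gen.b)) lc_b_rc_26_5 lc_b_rc_7_0 lc_b_rc_8_2 lc_b_rc_1_5 lc_b_Cert_tree lc_b_rc_6_1 lc_b_rc_9_2 lc_b_rc_7_4 lc_b_rc_26_1 lc_b_rc_6_1 lc_b_rc_1_3 lc_b_rc_8_2 lc_b_rc_9_2 lc_b_rc_7_4 lc_b_rc_9_0 lc_b_rc_6_1 lc_b_rc_6_1 lc_b_rc_10_2 lc_b_rc_9_2 lc_b_rc_10_2 lc_b_rc_7_4 lc_b_rc_8_2 lc_b_rc_1_3 lc_b_rc_9_2 lc_b_Cert_tree lc_b_rc_6_1 lc_b_Cert_tree lc_b_rc_6_1 lc_b_rc_8_0 lc_b_Cert_tree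 lc_b_rc_8_2 lc_b_rc_9_2 lc_b_rc_7_0 lc_b_rc_7_0 lc_b_rc_8_2 lc_b_rc_6_1 lc_b_rc_26_5 lc_b_rc_8_2 lc_b_rc_10_2 lc_b_Cert_tree lc_b_rc_26_5 lc_b_rc_26_5 lc_b_rc_8_2 lc_b_rc_7_2 lc_b_rc_26_1 lc_b_Cert_tree lc_b_rc_9_2 lc_b_rc_8_2 lc_b_rc_6_1 lc_b_rc_9_2 lc_b_rc_9_0 lc_b_Cert_tree lc_b_rc_8_2 lc_b_rc_10_2 lc_b_rc_9_2 lc_b_rc_26_7 lc_b_rc_9_2 lc_b_Cert_tree lc_b_rc_25_16 lc_b_rc_6_1 lc_b_rc_9_2 lc_b_rc_10_2) (@D3.rec (fun _ => (Cert rels S Gen.b)) lc_b_rc_1_3 lc_b_Cert_tree lc_b_rc_9_2 lc_b_rc_6_1 lc_b_rc_9_2 lc_b_rc_6_1 lc_b_Cert_tree lc_b_rc_10_0 lc_b_rc_6_1 lc_b_rc_6_1 lc_b_rc_6_1 lc_b_rc_9_2 lc_b_rc_6_1 lc_b_Cert_tree lc_b_rc_1_3 lc_b_rc_8_2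 lc_b_rc_10_2 lc_b_rc_9_2 lc_b_rc_9_2 lc_b_Cert_tree lc_b_rc_9_2 lc_b_Cert_tree lc_b_rc_8_2 lc_b_rc_9_2 lc_b_Cert_tree lc_b_rc_6_1 lc_b_Cert_tree lc_b_rc_9_2 lc_b_rc_8_2 lc_b_rc_8_0 lc_b_rc_6_1 lc_b_Cert_tree lc_b_rc_9_2 lc_b_rc_6_1 lc_b_Cert_tree lc_b_rc_9_2 lc_b_rc_26_1 lc_b_Cert_tree lc_b_rc_6_1 lc_b_rc_7_4 lc_b_rc_8_2 lc_b_rc_6_1 lc_b_rc_6_1 lc_b_Cert_tree lc_b_rc_9_2 lc_b_rc_6_1 lc_b_rc_26_7 lc_b_rc_8_2 lc_b_rc_8_2 lc_b_Cert_tree lc_b_Cert_tree lc_b_rc_6_1 lc_b_rc_8_2 lc_b_rc_6_1 lc_b_Cert_tree lc_b_rc_6_1 lc_b_rc_8_2 lc_b_rc_26_1 lc_b_rc_8_0 lc_b_Cert_tree lc_b_rc_9_2 lc_b_rc_7_2) (@D3.rec (fun _ => (Cert rels S Gen.b)) lc_b_rc_8_2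 lc_b_rc_6_1 lc_b_rc_1_5 lc_b_Cert_tree lc_b_Cert_tree lc_b_rc_8_2 lc_b_rc_10_2 lc_b_rc_6_1 lc_b_Cert_tree lc_b_rc_6_1 lc_b_rc_10_2 lc_b_rc_6_1 lc_b_rc_8_2 lc_b_Cert_tree lc_b_rc_8_2 lc_b_rc_9_2 lc_b_Cert_tree lc_b_rc_1_5 lc_b_rc_1_3 lc_b_rc_6_1 lc_b_rc_8_2 lc_b_Cert_tree lc_b_rc_7_4 lc_b_rc_6_1 lc_b_rc_8_2 lc_b_rc_8_0 lc_b_rc_6_1 lc_b_rc_8_2 lc_b_rc_6_1 lc_b_rc_26_1 lc_b_rc_6_1 lc_b_rc_26_5 lc_b_rc_6_1 lc_b_Cert_tree lc_b_rc_1_3 lc_b_rc_8_2 lc_b_rc_8_2 lc_b_rc_6_1 lc_b_Cert_tree lc_b_rc_9_2 lc_b_rc_6_1 lc_b_rc_8_2 lc_b_Cert_tree lc_b_Cert_tree lc_b_rc_1_3 lc_b_rc_8_2 lc_b_rc_9_2 lc_b_Cert_tree lc_b_rc_7_0 lc_b_rc_1_3 lc_b_rc_8_2 lc_b_rc_9_2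 lc_b_rc_9_2 lc_b_rc_25_0 lc_b_rc_6_1 lc_b_rc_1_3 lc_b_rc_8_2 lc_b_rc_9_2 lc_b_rc_8_2 lc_b_Cert_tree lc_b_rc_1_3 lc_b_rc_8_2) (@D3.rec (fun _ => (Cert rels S Gen.b)) lc_b_rc_9_2 lc_b_rc_9_2 lc_b_Cert_tree lc_b_rc_7_0 lc_b_rc_1_3 lc_b_rc_8_2 lc_b_rc_9_2 lc_b_rc_26_7 lc_b_rc_6_1 lc_b_rc_6_1 lc_b_rc_6_1 lc_b_rc_8_2 lc_b_rc_8_2 lc_b_rc_8_2 lc_b_rc_6_1 lc_b_Cert_tree lc_b_rc_9_2 lc_b_rc_6_1 lc_b_rc_8_0 lc_b_rc_6_1 lc_b_rc_26_7 lc_b_rc_6_1 lc_b_rc_9_2 lc_b_Cert_tree lc_b_rc_9_2 lc_b_rc_10_2 lc_b_rc_6_1 lc_b_rc_8_2 lc_b_rc_6_1 lc_b_rc_7_4 lc_b_rc_26_5 lc_b_rc_6_1 lc_b_rc_9_0 lc_b_rc_9_2 lc_b_rc_1_5 lc_b_rc_6_1 lc_b_rc_26_1 lc_b_rc_6_1 lc_b_rc_6_1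 lc_b_rc_8_2 lc_b_Cert_tree lc_b_rc_9_2 lc_b_rc_8_2 lc_b_rc_25_8 lc_b_rc_6_1 lc_b_rc_6_1 lc_b_Cert_tree lc_b_rc_9_2 lc_b_rc_6_1 lc_b_rc_25_12 lc_b_rc_10_2 lc_b_Cert_tree lc_b_rc_6_1 lc_b_rc_8_2 lc_b_rc_7_4 lc_b_rc_9_2 lc_b_Cert_tree lc_b_rc_8_2 lc_b_Cert_tree lc_b_Cert_tree lc_b_rc_6_1 lc_b_rc_8_2) (@D3.rec (fun _ => (Cert rels S Gen.b)) lc_b_rc_6_1 lc_b_rc_6_1 lc_b_rc_8_2 lc_b_rc_25_4 lc_b_rc_9_2 lc_b_rc_6_1 lc_b_rc_8_2 lc_b_rc_6_1 lc_b_rc_8_2 lc_b_rc_6_1 lc_b_rc_26_5 lc_b_rc_9_2 lc_b_rc_8_2 lc_b_rc_8_2 lc_b_rc_6_1 lc_b_rc_1_1 lc_b_rc_8_2 lc_b_rc_8_2 lc_b_rc_10_2 lc_b_rc_26_5 lc_b_rc_25_4 lc_b_rc_7_4 lc_b_rc_6_1 lc_b_rc_9_0 lc_b_Cert_tree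 lc_b_rc_6_1 lc_b_rc_1_3 lc_b_Cert_tree lc_b_rc_7_4 lc_b_rc_1_3 lc_b_rc_6_1 lc_b_rc_1_5 lc_b_rc_10_2 lc_b_rc_25_0 lc_b_rc_26_1 lc_b_rc_8_2 lc_b_rc_9_2 lc_b_rc_10_2 lc_b_rc_6_1 lc_b_rc_26_5 lc_b_rc_9_2 lc_b_rc_8_2 lc_b_rc_6_1 lc_b_rc_7_0 lc_b_rc_10_0 lc_b_rc_9_2 lc_b_rc_10_2 lc_b_rc_26_5 lc_b_rc_7_4 lc_b_rc_8_2 lc_b_rc_6_1 lc_b_rc_10_2 lc_b_rc_10_2 lc_b_rc_26_5 lc_b_rc_25_4 lc_b_rc_8_0 lc_b_rc_6_1 lc_b_rc_8_2 lc_b_rc_6_1 lc_b_rc_10_0 lc_b_Cert_tree lc_b_rc_9_0) (@D3.rec (fun _ => (Cert rels S Gen.b)) lc_b_rc_1_5 lc_b_rc_26_5 lc_b_rc_8_2 lc_b_rc_7_0 lc_b_Cert_tree lc_b_rc_9_0 lc_b_rc_6_1 lc_b_rc_7_2 lc_b_rc_9_2 lc_b_rc_7_4 lc_b_rc_9_2 lc_b_rc_10_2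 lc_b_rc_7_2 lc_b_rc_6_1 lc_b_rc_1_5 lc_b_rc_8_2 lc_b_rc_7_4 lc_b_rc_6_1 lc_b_rc_10_2 lc_b_rc_6_1 lc_b_rc_7_4 lc_b_rc_8_2 lc_b_rc_6_1 lc_b_rc_6_1 lc_b_rc_7_0 lc_b_rc_7_4 lc_b_rc_6_1 lc_b_rc_8_2 lc_b_rc_7_0 lc_b_rc_1_3 lc_b_rc_8_2 lc_b_rc_10_2 lc_b_rc_7_0 lc_b_rc_9_0 lc_b_Cert_tree lc_b_rc_9_2 lc_b_rc_26_1 lc_b_rc_6_1 lc_b_rc_8_0 lc_b_rc_1_3 lc_b_rc_10_2 lc_b_rc_8_2 lc_b_rc_6_1 lc_b_rc_7_0 lc_b_rc_9_2 lc_b_Cert_tree lc_b_rc_8_2 lc_b_Cert_tree lc_b_rc_6_1 lc_b_rc_1_3 lc_b_rc_8_2 lc_b_rc_9_2 lc_b_rc_10_2 lc_b_rc_1_1 lc_b_rc_6_1 lc_b_rc_26_1 lc_b_rc_26_1 lc_b_rc_9_2 lc_b_rc_10_2 lc_b_rc_6_1 lc_b_rc_26_5 lc_b_rc_8_2) (@D3.rec (fun _ => (Cert rels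 S Gen.b)) lc_b_rc_8_2 lc_b_rc_8_2 lc_b_rc_6_1 lc_b_rc_7_4 lc_b_rc_10_2 lc_b_rc_9_2 lc_b_rc_25_12 lc_b_rc_10_2 lc_b_rc_8_2 lc_b_rc_9_2 lc_b_rc_6_1 lc_b_rc_8_2 lc_b_rc_7_4 lc_b_rc_8_2 lc_b_rc_9_2 lc_b_rc_9_2 lc_b_rc_6_1 lc_b_rc_8_2 lc_b_rc_10_2 lc_b_rc_9_2 lc_b_rc_9_2 lc_b_rc_10_2 lc_b_rc_6_1 lc_b_rc_26_5 lc_b_rc_7_4 lc_b_rc_10_2 lc_b_rc_8_2 lc_b_rc_8_2 lc_b_rc_10_2 lc_b_rc_9_2 lc_b_rc_8_2 lc_b_rc_8_2 lc_b_rc_26_1 lc_b_rc_26_5 lc_b_rc_7_4 lc_b_rc_10_2 lc_b_rc_9_2 lc_b_rc_8_2 lc_b_rc_7_2 lc_b_rc_7_0 lc_b_Cert_tree lc_b_rc_25_0 lc_b_rc_26_7 lc_b_Cert_tree lc_b_Cert_tree lc_b_rc_6_1 lc_b_rc_8_0 lc_b_rc_8_2 lc_b_rc_9_2 lc_b_rc_26_1 lc_b_rc_9_2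 lc_b_rc_9_2 lc_b_rc_6_1 lc_b_rc_9_2 lc_b_rc_26_1 lc_b_rc_6_1 lc_b_rc_8_2 lc_b_rc_7_4 lc_b_rc_10_2 lc_b_rc_8_2 lc_b_rc_6_1 lc_b_rc_8_0) (@D3.rec (fun _ => (Cert rels S Gen.b)) lc_b_rc_10_2 lc_b_rc_8_2 lc_b_rc_1_1 lc_b_rc_8_2 lc_b_rc_8_2 lc_b_rc_9_2 lc_b_rc_9_2 lc_b_rc_6_1 lc_b_rc_6_1 lc_b_rc_8_2 lc_b_rc_9_2 lc_b_rc_1_5 lc_b_rc_9_0 lc_b_rc_26_5 lc_b_rc_8_2 lc_b_rc_10_2 lc_b_rc_6_1 lc_b_rc_8_2 lc_b_rc_9_2 lc_b_rc_26_1 lc_b_rc_6_1 lc_b_rc_26_7 lc_b_rc_9_2 lc_b_rc_26_1 lc_b_rc_8_2 lc_b_rc_10_2 lc_b_rc_8_2 lc_b_rc_9_2 lc_b_rc_8_2 lc_b_rc_9_2 lc_b_rc_10_2 lc_b_rc_8_2 lc_b_rc_6_1 lc_b_rc_8_2 lc_b_rc_9_2 lc_b_rc_8_2 lc_b_rc_8_2 lc_b_rc_9_0 lc_b_rc_6_1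 lc_b_rc_6_1 lc_b_rc_9_2 lc_b_rc_26_5 lc_b_rc_8_2 lc_b_rc_9_2 lc_b_rc_6_1 lc_b_rc_8_2 lc_b_rc_9_2 lc_b_rc_8_2 lc_b_rc_26_7 lc_b_rc_8_2 lc_b_rc_6_1 lc_b_rc_8_2 lc_b_rc_9_0 lc_b_rc_7_2 lc_b_rc_26_1 lc_b_rc_1_5 lc_b_Cert_tree lc_b_rc_9_2 lc_b_rc_26_7 lc_b_rc_9_2 lc_b_Cert_tree lc_b_rc_1_1) (@D3.rec (fun _ => (Cert rels S Gen.b)) lc_b_rc_26_7 lc_b_rc_9_2 lc_b_rc_26_7 lc_b_rc_8_2 lc_b_Cert_tree lc_b_rc_6_1 lc_b_rc_10_0 lc_b_rc_9_2 lc_b_Cert_tree lc_b_rc_26_7 lc_b_rc_25_0 lc_b_rc_6_1 lc_b_rc_8_0 lc_b_rc_9_2 lc_b_rc_6_1 lc_b_rc_1_5 lc_b_rc_1_3 lc_b_rc_9_2 lc_b_rc_6_1 lc_b_rc_6_1 lc_b_rc_8_2 lc_b_rc_6_1 lc_b_rc_8_2 lc_b_rc_25_4 lc_b_rc_8_2 lc_b_Cert_tree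 lc_b_rc_8_2 lc_b_rc_7_4 lc_b_Cert_tree lc_b_rc_7_4 lc_b_rc_8_2 lc_b_rc_7_2 lc_b_rc_26_7 lc_b_rc_26_5 lc_b_rc_8_2 lc_b_rc_26_5 lc_b_rc_8_0 lc_b_rc_8_2 lc_b_rc_1_3 lc_b_rc_9_2 lc_b_rc_6_1 lc_b_rc_8_2 lc_b_rc_9_2 lc_b_rc_6_1 lc_b_rc_26_5 lc_b_rc_7_4 lc_b_rc_6_1 lc_b_rc_1_3 lc_b_Cert_tree lc_b_rc_6_1 lc_b_rc_10_2 lc_b_rc_6_1 lc_b_Cert_tree lc_b_rc_8_2 lc_b_rc_7_4 lc_b_rc_7_4 lc_b_rc_6_1 lc_b_rc_26_5 lc_b_rc_7_0 lc_b_rc_9_2 lc_b_rc_8_2 lc_b_Cert_tree) (@D3.rec (fun _ => (Cert rels S Gen.b)) lc_b_rc_7_0 lc_b_rc_7_4 lc_b_rc_9_2 lc_b_rc_9_2 lc_b_rc_7_4 lc_b_rc_10_2 lc_b_rc_8_2 lc_b_rc_6_1 lc_b_rc_8_2 lc_b_rc_1_1 lc_b_Cert_tree lc_b_rc_1_5 lc_b_rc_6_1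 lc_b_rc_7_4 lc_b_rc_6_1 lc_b_Cert_tree lc_b_rc_8_2 lc_b_rc_8_2 lc_b_rc_10_2 lc_b_rc_8_2 lc_b_rc_26_5 lc_b_rc_8_2 lc_b_rc_6_1 lc_b_rc_7_4 lc_b_rc_9_2 lc_b_rc_6_1 lc_b_rc_26_5 lc_b_rc_26_5 lc_b_rc_6_1 lc_b_Cert_tree lc_b_rc_25_4 lc_b_rc_6_1 lc_b_rc_8_2 lc_b_rc_7_2 lc_b_rc_10_2 lc_b_rc_1_3 lc_b_rc_6_1 lc_b_rc_9_2 lc_b_rc_1_3 lc_b_rc_7_2 lc_b_Cert_tree lc_b_rc_1_5 lc_b_rc_9_2 lc_b_rc_6_1 lc_b_rc_26_7 lc_b_rc_7_2 lc_b_rc_9_2 lc_b_rc_9_2 lc_b_rc_6_1 lc_b_rc_6_1 lc_b_Cert_tree lc_b_rc_10_2 lc_b_rc_6_1 lc_b_rc_1_3 lc_b_rc_8_2 lc_b_rc_26_7 lc_b_rc_6_1 lc_b_rc_6_1 lc_b_Cert_tree lc_b_rc_6_1 lc_b_rc_8_2 lc_b_rc_6_1) (@D3.rec (fun _ => (Cert rels S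 Gen.b)) lc_b_rc_6_1 lc_b_Cert_tree lc_b_rc_1_5 lc_b_rc_8_0 lc_b_rc_6_1 lc_b_Cert_tree lc_b_rc_26_1 lc_b_rc_8_2 lc_b_rc_6_1 lc_b_rc_7_4 lc_b_rc_8_0 lc_b_rc_6_1 lc_b_rc_26_5 lc_b_rc_9_2 lc_b_rc_6_1 lc_b_rc_8_2 lc_b_rc_8_2 lc_b_rc_8_2 lc_b_rc_7_4 lc_b_rc_6_1 lc_b_rc_26_5 lc_b_rc_26_7 lc_b_rc_6_1 lc_b_rc_9_2 lc_b_rc_26_5 lc_b_rc_7_0 lc_b_rc_6_1 lc_b_rc_8_2 lc_b_rc_9_2 lc_b_rc_8_2 lc_b_rc_26_1 lc_b_rc_9_0 lc_b_rc_8_2 lc_b_rc_9_2 lc_b_rc_25_4 lc_b_rc_8_0 lc_b_rc_1_5 lc_b_rc_10_2 lc_b_rc_6_1 lc_b_rc_10_2 lc_b_rc_9_2 lc_b_rc_10_2 lc_b_rc_6_1 lc_b_rc_9_2 lc_b_rc_6_1 lc_b_rc_6_1 lc_b_rc_10_2 lc_b_rc_7_4 lc_b_Cert_tree lc_b_rc_1_3 lc_b_rc_8_2 lc_b_rc_9_2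 lc_b_rc_9_2 lc_b_rc_6_1 lc_b_Cert_tree lc_b_rc_1_3 lc_b_rc_9_2 lc_b_rc_8_2 lc_b_Cert_tree lc_b_rc_1_1 lc_b_rc_6_1 lc_b_rc_6_1) (@D3.rec (fun _ => (Cert rels S Gen.b)) lc_b_rc_26_1 lc_b_rc_9_2 lc_b_rc_9_0 lc_b_rc_9_2 lc_b_rc_26_7 lc_b_rc_10_2 lc_b_rc_1_3 lc_b_Cert_tree lc_b_rc_6_1 lc_b_Cert_tree lc_b_rc_9_0 lc_b_rc_9_2 lc_b_rc_6_1 lc_b_rc_6_1 lc_b_rc_1_5 lc_b_rc_8_2 lc_b_rc_9_2 lc_b_rc_8_2 lc_b_Cert_tree lc_b_rc_26_5 lc_b_rc_1_3 lc_b_rc_10_2 lc_b_rc_6_1 lc_b_rc_9_2 lc_b_rc_6_1 lc_b_rc_9_2 lc_b_Cert_tree lc_b_rc_7_4 lc_b_rc_1_3 lc_b_rc_8_2 lc_b_rc_9_2 lc_b_rc_8_2 lc_b_rc_9_2 lc_b_rc_26_5 lc_b_rc_6_1 lc_b_Cert_tree lc_b_rc_1_3 lc_b_rc_8_2 lc_b_rc_9_2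 lc_b_rc_9_2 lc_b_Cert_tree lc_b_rc_7_0 lc_b_Cert_tree lc_b_rc_6_1 lc_b_rc_1_3 lc_b_rc_8_2 lc_b_rc_9_2 lc_b_rc_9_2 lc_b_rc_26_7 lc_b_rc_8_2 lc_b_rc_25_0 lc_b_rc_8_2 lc_b_rc_10_2 lc_b_rc_10_2 lc_b_Cert_tree lc_b_rc_6_1 lc_b_Cert_tree lc_b_rc_8_2 lc_b_rc_9_2 lc_b_rc_6_1 lc_b_rc_6_1 lc_b_rc_10_0) (@D3.rec (fun _ => (Cert rels S Gen.b)) lc_b_rc_8_2 lc_b_rc_7_4 lc_b_rc_8_2 lc_b_Cert_tree lc_b_Cert_tree lc_b_rc_7_4 lc_b_rc_9_2 lc_b_Cert_tree lc_b_Cert_tree lc_b_rc_7_4 lc_b_rc_10_2 lc_b_rc_8_2 lc_b_rc_1_3 lc_b_rc_9_2 lc_b_rc_8_2 lc_b_rc_6_1 lc_b_rc_9_2 lc_b_Cert_tree lc_b_rc_9_0 lc_b_rc_1_3 lc_b_rc_8_2 lc_b_rc_8_2 lc_b_Cert_tree lc_b_rc_1_3 lc_b_rc_8_2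 lc_b_rc_9_2 lc_b_rc_8_0 lc_b_Cert_tree lc_b_rc_6_1 lc_b_rc_6_1 lc_b_rc_26_5 lc_b_rc_26_1 lc_b_rc_6_1 lc_b_rc_9_0 lc_b_rc_1_1 lc_b_rc_8_2 lc_b_rc_9_2 lc_b_rc_7_4 lc_b_rc_10_2 lc_b_rc_6_1 lc_b_rc_9_0 lc_b_rc_7_4 lc_b_rc_8_2 lc_b_rc_9_2 lc_b_rc_9_2 lc_b_rc_26_7 lc_b_rc_6_1 lc_b_rc_7_2 lc_b_rc_7_4 lc_b_rc_9_2 lc_b_rc_6_1 lc_b_rc_26_5 lc_b_rc_8_2 lc_b_rc_9_2 lc_b_rc_8_2 lc_b_rc_26_7 lc_b_rc_6_1 lc_b_Cert_tree lc_b_rc_7_2 lc_b_rc_9_2 lc_b_rc_26_5 lc_b_rc_26_1) (@D3.rec (fun _ => (Cert rels S Gen.b)) lc_b_rc_8_2 lc_b_rc_10_2 lc_b_rc_6_1 lc_b_rc_9_2 lc_b_rc_8_2 lc_b_Cert_tree lc_b_rc_8_2 lc_b_rc_10_2 lc_b_rc_6_1 lc_b_rc_6_1 lc_b_rc_8_2 lc_b_rc_8_2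 lc_b_Cert_tree lc_b_rc_9_2 lc_b_rc_10_2 lc_b_rc_6_1 lc_b_rc_9_0 lc_b_Cert_tree lc_b_rc_6_1 lc_b_Cert_tree lc_b_rc_8_2 lc_b_rc_9_2 lc_b_rc_6_1 lc_b_Cert_tree lc_b_rc_1_3 lc_b_rc_1_5 lc_b_rc_8_2 lc_b_rc_10_0 lc_b_Cert_tree lc_b_Cert_tree lc_b_rc_1_3 lc_b_rc_9_2 lc_b_rc_7_0 lc_b_rc_6_1 lc_b_rc_26_5 lc_b_rc_8_2 lc_b_rc_9_2 lc_b_rc_6_1 lc_b_rc_8_2 lc_b_rc_1_3 lc_b_Cert_tree lc_b_Cert_tree lc_b_rc_7_4 lc_b_rc_9_2 lc_b_rc_7_0 lc_b_rc_7_0 lc_b_rc_8_2 lc_b_rc_10_2 lc_b_rc_8_0 lc_b_rc_10_2 lc_b_rc_26_5 lc_b_rc_6_1 lc_b_rc_26_1 lc_b_rc_26_5 lc_b_Cert_tree lc_b_rc_10_2 lc_b_rc_6_1 lc_b_rc_9_2 lc_b_rc_6_1 lc_b_Cert_tree lc_b_rc_1_3 lc_b_rc_9_2) (@D3.rec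 (fun _ => (Cert rels S Gen.b)) lc_b_rc_26_7 lc_b_rc_6_1 lc_b_rc_7_2 lc_b_rc_9_2 lc_b_rc_6_1 lc_b_rc_26_5 lc_b_rc_6_1 lc_b_rc_1_3 lc_b_rc_8_0 lc_b_rc_8_2 lc_b_rc_7_4 lc_b_rc_9_2 lc_b_Cert_tree lc_b_rc_8_2 lc_b_rc_10_2 lc_b_rc_6_1 lc_b_rc_9_2 lc_b_rc_6_1 lc_b_rc_9_0 lc_b_Cert_tree lc_b_rc_7_0 lc_b_rc_26_1 lc_b_rc_26_5 lc_b_rc_6_1 lc_b_rc_9_0 lc_b_rc_26_7 lc_b_Cert_tree lc_b_Cert_tree lc_b_rc_10_2 lc_b_rc_6_1 lc_b_rc_6_1 lc_b_Cert_tree lc_b_rc_8_2 lc_b_rc_7_4 lc_b_rc_9_0 lc_b_rc_10_2 lc_b_rc_6_1 lc_b_rc_1_3 lc_b_rc_9_2 lc_b_rc_6_1 lc_b_rc_6_1 lc_b_rc_26_5 lc_b_rc_9_2 lc_b_rc_10_2 lc_b_rc_6_1 lc_b_rc_26_1 lc_b_rc_6_1 lc_b_rc_26_5 lc_b_rc_1_3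 lc_b_rc_6_1 lc_b_rc_7_4 lc_b_rc_9_2 lc_b_rc_8_2 lc_b_Cert_tree lc_b_rc_8_2 lc_b_rc_10_2 lc_b_rc_26_7 lc_b_rc_6_1 lc_b_rc_6_1 lc_b_rc_6_1 lc_b_rc_25_4 lc_b_rc_8_2) (@D3.rec (fun _ => (Cert rels S Gen.b)) lc_b_rc_9_2 lc_b_rc_6_1 lc_b_rc_26_5 lc_b_rc_8_2 lc_b_rc_8_2 lc_b_Cert_tree lc_b_Cert_tree lc_b_rc_7_4 lc_b_rc_9_2 lc_b_rc_6_1 lc_b_rc_10_2 lc_b_rc_6_1 lc_b_rc_10_2 lc_b_rc_8_2 lc_b_rc_7_2 lc_b_rc_9_2 lc_b_rc_6_1 lc_b_rc_8_2 lc_b_rc_6_1 lc_b_rc_26_1 lc_b_rc_9_2 lc_b_rc_1_3 lc_b_rc_6_1 lc_b_Cert_tree lc_b_rc_9_2 lc_b_Cert_tree lc_b_rc_26_5 lc_b_rc_8_2 lc_b_rc_10_2 lc_b_rc_9_2 lc_b_rc_7_0 lc_b_rc_8_2 lc_b_rc_1_3 lc_b_rc_6_1 lc_b_rc_26_5 lc_b_rc_10_2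 lc_b_rc_8_2 lc_b_rc_9_2 lc_b_rc_10_2 lc_b_rc_26_5 lc_b_Cert_tree lc_b_rc_10_2 lc_b_rc_8_2 lc_b_rc_1_1 lc_b_rc_8_2 lc_b_rc_8_2 lc_b_rc_9_2 lc_b_Cert_tree lc_b_rc_6_1 lc_b_rc_8_2 lc_b_rc_8_2 lc_b_rc_6_1 lc_b_Cert_tree lc_b_rc_9_2 lc_b_rc_6_1 lc_b_rc_26_7 lc_b_rc_8_0 lc_b_Cert_tree lc_b_Cert_tree lc_b_rc_6_1 lc_b_rc_8_2 lc_b_rc_26_7) (@D3.rec (fun _ => (Cert rels S Gen.b)) lc_b_rc_7_4 lc_b_rc_8_0 lc_b_rc_8_2 lc_b_rc_10_2 lc_b_rc_9_2 lc_b_Cert_tree lc_b_Cert_tree lc_b_rc_8_2 lc_b_rc_8_2 lc_b_rc_7_4 lc_b_rc_9_2 lc_b_rc_8_2 lc_b_rc_26_7 lc_b_rc_8_2 lc_b_rc_10_2 lc_b_rc_26_7 lc_b_rc_8_2 lc_b_rc_26_1 lc_b_Cert_tree lc_b_rc_9_2 lc_b_rc_1_3 lc_b_rc_9_2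 lc_b_rc_8_2 lc_b_Cert_tree lc_b_rc_1_3 lc_b_rc_8_0 lc_b_rc_6_1 lc_b_rc_26_1 lc_b_rc_6_1 lc_b_rc_9_2 lc_b_rc_8_2 lc_b_rc_9_2 lc_b_rc_9_2 lc_b_Cert_tree lc_b_rc_9_2 lc_b_rc_9_2 lc_b_rc_7_4 lc_b_rc_7_4 lc_b_rc_9_0 lc_b_rc_8_2 lc_b_rc_9_2 lc_b_rc_6_1 lc_b_rc_7_0 lc_b_rc_9_2 lc_b_rc_7_4 lc_b_rc_8_2 lc_b_rc_9_2 lc_b_rc_6_1 lc_b_rc_8_2 lc_b_rc_26_5 lc_b_rc_1_5 lc_b_rc_8_2 lc_b_rc_10_2 lc_b_rc_8_2 lc_b_rc_25_12 lc_b_Cert_tree lc_b_rc_1_3 lc_b_rc_9_2 lc_b_rc_8_2 lc_b_rc_8_2 lc_b_rc_1_5 lc_b_rc_9_2) (@D3.rec (fun _ => (Cert rels S Gen.b)) lc_b_rc_8_2 lc_b_rc_7_4 lc_b_rc_6_1 lc_b_rc_6_1 lc_b_rc_6_1 lc_b_rc_7_4 lc_b_Cert_tree lc_b_rc_7_4 lc_b_rc_8_2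 lc_b_rc_26_5 lc_b_rc_6_1 lc_b_rc_6_1 lc_b_Cert_tree lc_b_rc_8_2 lc_b_rc_9_2 lc_b_rc_8_2 lc_b_rc_9_2 lc_b_rc_9_2 lc_b_rc_26_7 lc_b_rc_6_1 lc_b_rc_6_1 lc_b_rc_9_0 lc_b_rc_8_2 lc_b_rc_1_5 lc_b_rc_8_2 lc_b_Cert_tree lc_b_rc_8_0 lc_b_rc_1_3 lc_b_rc_9_2 lc_b_rc_26_1 lc_b_rc_6_1 lc_b_rc_6_1 lc_b_rc_9_2 lc_b_rc_6_1 lc_b_Cert_tree lc_b_rc_10_0 lc_b_rc_9_2 lc_b_rc_6_1 lc_b_rc_8_2 lc_b_rc_26_7 lc_b_rc_6_1 lc_b_rc_8_2 lc_b_rc_8_2 lc_b_rc_6_1 lc_b_rc_7_4 lc_b_rc_7_2 lc_b_rc_7_0 lc_b_rc_10_0 lc_b_rc_8_2 lc_b_rc_9_2 lc_b_Cert_tree lc_b_rc_8_0 lc_b_rc_6_1 lc_b_rc_8_2 lc_b_rc_26_5 lc_b_rc_6_1 lc_b_rc_8_2 lc_b_rc_8_2 lc_b_Cert_tree lc_b_rc_9_2 lc_b_rc_26_1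 lc_b_rc_8_2) (@D3.rec (fun _ => (Cert rels S Gen.b)) lc_b_Cert_tree lc_b_rc_8_0 lc_b_rc_8_2 lc_b_rc_7_4 lc_b_rc_26_5 lc_b_rc_26_1 lc_b_rc_7_4 lc_b_rc_9_2 lc_b_rc_6_1 lc_b_rc_26_5 lc_b_rc_9_2 lc_b_rc_9_2 lc_b_Cert_tree lc_b_rc_8_2 lc_b_rc_10_2 lc_b_Cert_tree lc_b_Cert_tree lc_b_rc_6_1 lc_b_rc_9_2 lc_b_rc_9_0 lc_b_rc_6_1 lc_b_rc_8_2 lc_b_rc_9_2 lc_b_rc_6_1 lc_b_Cert_tree lc_b_rc_8_2 lc_b_rc_8_2 lc_b_rc_7_2 lc_b_rc_6_1 lc_b_rc_8_2 lc_b_rc_8_2 lc_b_rc_10_2 lc_b_rc_8_2 lc_b_rc_8_2 lc_b_rc_8_2 lc_b_rc_8_2 lc_b_rc_6_1 lc_b_rc_6_1 lc_b_rc_25_4 lc_b_rc_8_2 lc_b_rc_9_2 lc_b_rc_6_1 lc_b_rc_26_5 lc_b_rc_25_4 lc_b_rc_1_3 lc_b_rc_1_3 lc_b_rc_9_2 lc_b_rc_7_2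 lc_b_rc_8_2 lc_b_rc_9_2 lc_b_rc_8_0 lc_b_rc_6_1 lc_b_rc_8_2 lc_b_rc_10_2 lc_b_rc_8_2 lc_b_rc_10_2 lc_b_rc_8_2 lc_b_rc_25_16 lc_b_rc_7_4 lc_b_rc_6_1 lc_b_rc_8_2 lc_b_rc_6_1) (@D3.rec (fun _ => (Cert rels S Gen.b)) lc_b_rc_8_2 lc_b_rc_9_2 lc_b_rc_1_3 lc_b_rc_7_0 lc_b_rc_7_4 lc_b_Cert_tree lc_b_rc_26_5 lc_b_rc_8_2 lc_b_rc_10_2 lc_b_rc_9_2 lc_b_rc_7_2 lc_b_rc_10_2 lc_b_rc_6_1 lc_b_rc_26_5 lc_b_rc_9_2 lc_b_rc_10_0 lc_b_rc_26_1 lc_b_rc_9_2 lc_b_rc_8_2 lc_b_rc_26_5 lc_b_rc_8_2 lc_b_Cert_tree lc_b_rc_9_2 lc_b_rc_1_3 lc_b_rc_6_1 lc_b_rc_1_3 lc_b_rc_6_1 lc_b_rc_6_1 lc_b_Cert_tree lc_b_rc_9_2 lc_b_rc_6_1 lc_b_rc_6_1 lc_b_rc_9_2 lc_b_rc_10_2 lc_b_rc_8_2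 lc_b_rc_7_4 lc_b_rc_9_2 lc_b_rc_10_2 lc_b_rc_1_3 lc_b_rc_9_2 lc_b_rc_8_2 lc_b_rc_25_4 lc_b_rc_8_2 lc_b_rc_9_2 lc_b_rc_6_1 lc_b_rc_9_2 lc_b_rc_26_5 lc_b_rc_6_1 lc_b_rc_1_5 lc_b_rc_26_5 lc_b_rc_9_2 lc_b_rc_26_5 lc_b_rc_6_1 lc_b_rc_9_2 lc_b_rc_8_2 lc_b_rc_9_2 lc_b_rc_10_2 lc_b_rc_8_2 lc_b_rc_9_2 lc_b_Cert_tree lc_b_rc_8_2 lc_b_rc_8_0) (@D3.rec (fun _ => (Cert rels S Gen.b)) lc_b_rc_6_1 lc_b_Cert_tree lc_b_rc_8_2 lc_b_Cert_tree lc_b_rc_6_1 lc_b_rc_26_5 lc_b_rc_9_2 lc_b_rc_9_2 lc_b_rc_7_2 lc_b_rc_25_4 lc_b_Cert_tree lc_b_rc_6_1 lc_b_rc_6_1 lc_b_rc_9_0 lc_b_rc_9_2 lc_b_rc_6_1 lc_b_rc_26_1 lc_b_rc_6_1 lc_b_rc_8_2 lc_b_rc_9_2 lc_b_rc_8_2 lc_b_rc_8_2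 lc_b_rc_9_2 lc_b_Cert_tree lc_b_rc_6_1 lc_b_rc_7_4 lc_b_rc_9_2 lc_b_rc_8_2 lc_b_rc_6_1 lc_b_rc_8_2 lc_b_Cert_tree lc_b_rc_26_7 lc_b_rc_25_0 lc_b_rc_9_2 lc_b_rc_26_5 lc_b_rc_26_1 lc_b_rc_26_1 lc_b_rc_10_2 lc_b_rc_9_2 lc_b_rc_9_2 lc_b_rc_10_0 lc_b_rc_8_0 lc_b_rc_9_2 lc_b_rc_6_1 lc_b_rc_9_2 lc_b_rc_8_2 lc_b_rc_10_2 lc_b_rc_10_2 lc_b_rc_1_5 lc_b_rc_1_3 lc_b_rc_9_2 lc_b_rc_6_1 lc_b_rc_26_5 lc_b_rc_1_3 lc_b_rc_8_2 lc_b_rc_9_2 lc_b_rc_26_1 lc_b_Cert_tree lc_b_Cert_tree lc_b_rc_7_0 lc_b_rc_8_0 lc_b_rc_6_1) (@D3.rec (fun _ => (Cert rels S Gen.b)) lc_b_rc_26_5 lc_b_rc_1_3 lc_b_rc_8_2 lc_b_rc_9_2 lc_b_rc_9_2 lc_b_rc_6_1 lc_b_Cert_tree lc_b_rc_8_2 lc_b_rc_10_2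 lc_b_Cert_tree lc_b_rc_8_2 lc_b_Cert_tree lc_b_rc_8_2 lc_b_Cert_tree lc_b_Cert_tree lc_b_rc_7_2 lc_b_rc_8_2 lc_b_rc_9_2 lc_b_rc_9_2 lc_b_rc_1_3 lc_b_rc_1_3 lc_b_rc_6_1 lc_b_rc_6_1 lc_b_rc_1_3 lc_b_rc_9_2 lc_b_rc_8_2 lc_b_rc_10_2 lc_b_rc_10_2 lc_b_Cert_tree lc_b_rc_7_4 lc_b_rc_9_2 lc_b_rc_10_2 lc_b_rc_6_1 lc_b_rc_26_5 lc_b_rc_8_2 lc_b_rc_9_2 lc_b_rc_26_5 lc_b_rc_9_2 lc_b_rc_9_2 lc_b_rc_6_1 lc_b_rc_9_2 lc_b_rc_9_2 lc_b_rc_6_1 lc_b_rc_26_5 lc_b_rc_26_5 lc_b_rc_9_2 lc_b_Cert_tree lc_b_Cert_tree lc_b_rc_8_2 lc_b_Cert_tree lc_b_rc_9_2 lc_b_rc_8_2 lc_b_rc_6_1 lc_b_rc_9_2 lc_b_rc_10_2 lc_b_rc_9_0 lc_b_rc_10_2 lc_b_Cert_tree lc_b_rc_26_5 lc_b_rc_1_3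 lc_b_rc_6_1 lc_b_rc_6_1) (@D3.rec (fun _ => (Cert rels S Gen.b)) lc_b_rc_26_5 lc_b_rc_1_3 lc_b_rc_8_2 lc_b_rc_9_2 lc_b_rc_9_2 lc_b_Cert_tree lc_b_rc_8_2 lc_b_rc_9_2 lc_b_Cert_tree lc_b_rc_6_1 lc_b_rc_26_5 lc_b_rc_1_3 lc_b_rc_8_2 lc_b_rc_9_2 lc_b_rc_9_2 lc_b_rc_8_2 lc_b_Cert_tree lc_b_rc_7_2 lc_b_rc_7_2 lc_b_Cert_tree lc_b_rc_8_2 lc_b_Cert_tree lc_b_rc_6_1 lc_b_rc_1_3 lc_b_rc_8_2 lc_b_rc_9_2 lc_b_rc_9_2 lc_b_rc_8_2 lc_b_rc_10_2 lc_b_Cert_tree lc_b_Cert_tree lc_b_rc_1_3 lc_b_rc_8_2 lc_b_rc_9_2 lc_b_rc_9_2 lc_b_rc_1_3 lc_b_rc_9_2 lc_b_rc_10_2 lc_b_rc_10_2 lc_b_rc_6_1 lc_b_rc_8_0 lc_b_rc_25_8 lc_b_rc_9_2 lc_b_rc_1_1 lc_b_rc_6_1 lc_b_rc_7_2 lc_b_rc_6_1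 lc_b_rc_9_2 lc_b_rc_6_1 lc_b_rc_9_2 lc_b_rc_9_2 lc_b_rc_6_1 lc_b_rc_9_2 lc_b_rc_9_2 lc_b_rc_8_0 lc_b_rc_6_1 lc_b_rc_9_2 lc_b_rc_9_2 lc_b_Cert_tree lc_b_Cert_tree lc_b_rc_8_2 lc_b_Cert_tree) (@D3.rec (fun _ => (Cert rels S Gen.b)) lc_b_rc_9_2 lc_b_rc_8_2 lc_b_Cert_tree lc_b_rc_10_2 lc_b_rc_1_3 lc_b_rc_8_2 lc_b_rc_9_2 lc_b_rc_6_1 lc_b_rc_6_1 lc_b_Cert_tree lc_b_rc_1_3 lc_b_rc_8_2 lc_b_rc_9_2 lc_b_rc_6_1 lc_b_Cert_tree lc_b_rc_1_3 lc_b_rc_8_2 lc_b_rc_9_2 lc_b_rc_26_5 lc_b_rc_1_5 lc_b_rc_8_2 lc_b_rc_26_1 lc_b_Cert_tree lc_b_rc_8_2 lc_b_rc_25_12 lc_b_Cert_tree lc_b_rc_26_7 lc_b_rc_6_1 lc_b_rc_1_3 lc_b_rc_8_2 lc_b_rc_9_2 lc_b_rc_7_2 lc_b_rc_10_2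 lc_b_Cert_tree lc_b_rc_7_4 lc_b_rc_9_2 lc_b_rc_7_4 lc_b_rc_6_1 lc_b_rc_26_5 lc_b_rc_9_2 lc_b_rc_8_2 lc_b_rc_9_0 lc_b_rc_7_4 lc_b_rc_9_2 lc_b_rc_9_2 lc_b_rc_6_1 lc_b_rc_26_1 lc_b_rc_8_2 lc_b_rc_6_1 lc_b_Cert_tree lc_b_rc_7_2 lc_b_rc_9_2 lc_b_rc_8_2 lc_b_rc_8_2 lc_b_rc_26_7 lc_b_rc_10_2 lc_b_rc_6_1 lc_b_Cert_tree lc_b_rc_1_3 lc_b_rc_9_2 lc_b_rc_8_2 lc_b_rc_26_1) (@D3.rec (fun _ => (Cert rels S Gen.b)) lc_b_rc_10_2 lc_b_rc_6_1 lc_b_rc_26_5 lc_b_rc_26_5 lc_b_rc_8_2 lc_b_rc_9_2 lc_b_rc_9_2 lc_b_Cert_tree lc_b_rc_9_2 lc_b_rc_7_2 lc_b_rc_10_2 lc_b_rc_9_0 lc_b_rc_7_2 lc_b_rc_6_1 lc_b_rc_7_2 lc_b_rc_8_2 lc_b_rc_9_2 lc_b_rc_9_2 lc_b_rc_8_2 lc_b_rc_9_2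 lc_b_rc_7_2 lc_b_rc_25_4 lc_b_rc_6_1 lc_b_Cert_tree lc_b_rc_7_2 lc_b_rc_9_2 lc_b_rc_6_1 lc_b_rc_26_5 lc_b_rc_8_2 lc_b_rc_9_2 lc_b_rc_1_1 lc_b_rc_8_0 lc_b_rc_8_2 lc_b_rc_8_2 lc_b_rc_7_4 lc_b_rc_9_2 lc_b_rc_26_5 lc_b_rc_6_1 lc_b_rc_8_2 lc_b_rc_10_2 lc_b_rc_6_1 lc_b_rc_6_1 lc_b_rc_26_5 lc_b_rc_26_7 lc_b_rc_1_1 lc_b_rc_26_7 lc_b_rc_6_1 lc_b_rc_8_2 lc_b_rc_6_1 lc_b_rc_26_7 lc_b_rc_26_7 lc_b_rc_26_5 lc_b_rc_8_0 lc_b_Cert_tree lc_b_rc_10_2 lc_b_rc_1_5 lc_b_rc_26_7 lc_b_Cert_tree lc_b_rc_7_2 lc_b_rc_6_1 lc_b_rc_8_2 lc_b_rc_10_2) (@D3.rec (fun _ => (Cert rels S Gen.b)) lc_b_rc_6_1 lc_b_Cert_tree lc_b_rc_1_3 lc_b_rc_1_5 lc_b_rc_1_1 lc_b_Cert_tree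 lc_b_rc_1_3 lc_b_rc_8_2 lc_b_rc_9_2 lc_b_Cert_tree lc_b_rc_26_5 lc_b_rc_1_3 lc_b_rc_9_2 lc_b_rc_8_2 lc_b_rc_6_1 lc_b_rc_8_2 lc_b_rc_1_5 lc_b_rc_9_2 lc_b_rc_1_3 lc_b_rc_8_2 lc_b_Cert_tree lc_b_rc_6_1 lc_b_Cert_tree lc_b_rc_8_2 lc_b_rc_9_0 lc_b_rc_8_0 lc_b_rc_10_2 lc_b_rc_6_1 lc_b_rc_10_0 lc_b_rc_9_2 lc_b_rc_6_1 lc_b_rc_1_5 lc_b_rc_26_7 lc_b_rc_6_1 lc_b_rc_1_5 lc_b_rc_6_1 lc_b_rc_7_4 lc_b_rc_26_5 lc_b_rc_6_1 lc_b_Cert_tree lc_b_rc_1_3 lc_b_rc_6_1 lc_b_rc_26_1 lc_b_rc_9_2 lc_b_rc_6_1 lc_b_rc_26_5 lc_b_rc_7_2 lc_b_rc_9_0 lc_b_Cert_tree lc_b_rc_7_4 lc_b_rc_6_1 lc_b_rc_8_0 lc_b_rc_6_1 lc_b_rc_9_2 lc_b_rc_6_1 lc_b_rc_7_0 lc_b_rc_6_1 lc_b_rc_6_1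 lc_b_rc_6_1 lc_b_rc_8_2 lc_b_rc_6_1 lc_b_rc_8_2) (@D3.rec (fun _ => (Cert rels S Gen.b)) lc_b_rc_8_2 lc_b_Cert_tree lc_b_rc_7_2 lc_b_Cert_tree lc_b_rc_26_5 lc_b_rc_6_1 lc_b_rc_8_2 lc_b_rc_6_1 lc_b_rc_26_1 lc_b_rc_1_3 lc_b_rc_8_2 lc_b_rc_9_2 lc_b_rc_9_2 lc_b_rc_6_1 lc_b_rc_8_2 lc_b_rc_6_1 lc_b_rc_1_3 lc_b_rc_26_5 lc_b_rc_8_0 lc_b_rc_7_2 lc_b_rc_8_0 lc_b_rc_8_0 lc_b_rc_10_2 lc_b_rc_8_0 lc_b_rc_26_5 lc_b_rc_8_0 lc_b_rc_6_1 lc_b_rc_1_5 lc_b_rc_8_2 lc_b_Cert_tree lc_b_rc_26_1 lc_b_rc_6_1 lc_b_rc_6_1 lc_b_rc_7_0 lc_b_Cert_tree lc_b_rc_1_1 lc_b_Cert_tree lc_b_Cert_tree lc_b_rc_6_1 lc_b_rc_8_2 lc_b_rc_10_2 lc_b_rc_7_4 lc_b_rc_8_2 lc_b_rc_9_2 lc_b_rc_6_1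 lc_b_rc_26_5 lc_b_rc_8_2 lc_b_rc_1_5 lc_b_rc_8_2 lc_b_rc_9_2 lc_b_rc_7_2 lc_b_rc_8_2 lc_b_rc_9_2 lc_b_rc_1_5 lc_b_Cert_tree lc_b_rc_7_4 lc_b_rc_9_2 lc_b_rc_9_0 lc_b_rc_10_2 lc_b_rc_1_5 lc_b_rc_9_2 lc_b_rc_10_2) (@D3.rec (fun _ => (Cert rels S Gen.b)) lc_b_rc_26_7 lc_b_rc_26_7 lc_b_rc_6_1 lc_b_rc_6_1 lc_b_rc_25_4 lc_b_rc_8_2 lc_b_rc_9_0 lc_b_rc_8_2 lc_b_rc_1_1 lc_b_rc_7_4 lc_b_rc_10_2 lc_b_rc_6_1 lc_b_rc_1_3 lc_b_rc_9_2 lc_b_rc_1_3 lc_b_rc_25_4 lc_b_rc_6_1 lc_b_rc_6_1 lc_b_rc_8_2 lc_b_rc_7_4 lc_b_rc_9_2 lc_b_rc_9_2 lc_b_Cert_tree lc_b_rc_25_4 lc_b_rc_1_3 lc_b_rc_10_0 lc_b_rc_8_2 lc_b_rc_6_1 lc_b_Cert_tree lc_b_rc_6_1 lc_b_rc_25_8 lc_b_rc_6_1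 lc_b_rc_26_7 lc_b_rc_8_2 lc_b_rc_9_2 lc_b_rc_6_1 lc_b_rc_8_2 lc_b_rc_25_4 lc_b_rc_9_0 lc_b_rc_9_2 lc_b_rc_8_2 lc_b_rc_6_1 lc_b_rc_6_1 lc_b_rc_26_5 lc_b_rc_8_2 lc_b_rc_6_1 lc_b_rc_7_0 lc_b_rc_6_1 lc_b_rc_8_2 lc_b_rc_9_2 lc_b_rc_6_1 lc_b_rc_26_5 lc_b_rc_10_2 lc_b_Cert_tree lc_b_rc_6_1 lc_b_rc_6_1 lc_b_rc_7_0 lc_b_rc_26_7 lc_b_Cert_tree lc_b_rc_26_5 lc_b_rc_1_3 lc_b_rc_9_2) (@D3.rec (fun _ => (Cert rels S Gen.b)) lc_b_rc_6_1 lc_b_rc_9_0 lc_b_Cert_tree lc_b_rc_8_2 lc_b_rc_10_2 lc_b_rc_6_1 lc_b_rc_26_5 lc_b_rc_9_2 lc_b_rc_6_1 lc_b_rc_26_5 lc_b_rc_9_2 lc_b_rc_6_1 lc_b_rc_8_2 lc_b_rc_9_2 lc_b_rc_6_1 lc_b_rc_8_2 lc_b_rc_8_2 lc_b_rc_8_2 lc_b_rc_9_2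 lc_b_rc_1_3 lc_b_rc_7_4 lc_b_rc_9_2 lc_b_rc_9_0 lc_b_Cert_tree lc_b_rc_8_2 lc_b_rc_10_2 lc_b_rc_6_1 lc_b_rc_9_2 lc_b_rc_1_1 lc_b_rc_9_2 lc_b_rc_8_2 lc_b_rc_8_0 lc_b_rc_6_1 lc_b_rc_8_2 lc_b_rc_9_2 lc_b_rc_26_5 lc_b_rc_7_4 lc_b_rc_8_2 lc_b_rc_8_0 lc_b_rc_9_2 lc_b_rc_8_2 lc_b_rc_6_1 lc_b_rc_8_0 lc_b_rc_7_4 lc_b_rc_9_2 lc_b_rc_6_1 lc_b_rc_1_1 lc_b_rc_7_4 lc_b_rc_6_1 lc_b_rc_7_4 lc_b_rc_9_0 lc_b_rc_7_4 lc_b_rc_10_0 lc_b_rc_6_1 lc_b_rc_1_3 lc_b_rc_8_2 lc_b_rc_6_1 lc_b_Cert_tree lc_b_rc_1_3 lc_b_rc_7_2 lc_b_rc_9_2 lc_b_rc_6_1) (@D3.rec (fun _ => (Cert rels S Gen.b)) lc_b_rc_9_2 lc_b_rc_8_2 lc_b_rc_9_2 lc_b_rc_6_1 lc_b_Cert_tree lc_b_rc_7_4 lc_b_rc_9_2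 lc_b_Cert_tree lc_b_rc_8_2 lc_b_rc_10_2 lc_b_rc_6_1 lc_b_rc_10_2 lc_b_rc_10_2 lc_b_rc_6_1 lc_b_rc_8_2 lc_b_Cert_tree lc_b_rc_9_2 lc_b_Cert_tree lc_b_rc_26_5 lc_b_Cert_tree lc_b_rc_1_3 lc_b_rc_6_1 lc_b_rc_8_2 lc_b_rc_9_2 lc_b_rc_9_0 lc_b_Cert_tree lc_b_rc_10_2 lc_b_Cert_tree lc_b_rc_8_2 lc_b_rc_1_3 lc_b_rc_9_2 lc_b_rc_10_2 lc_b_rc_6_1 lc_b_rc_26_1 lc_b_rc_6_1 lc_b_rc_9_2 lc_b_rc_8_2 lc_b_rc_9_2 lc_b_rc_1_3 lc_b_rc_7_2 lc_b_rc_9_2 lc_b_rc_6_1 lc_b_rc_25_12 lc_b_rc_6_1 lc_b_rc_8_2 lc_b_rc_9_2 lc_b_rc_6_1 lc_b_rc_10_0 lc_b_rc_9_2 lc_b_rc_10_2 lc_b_rc_10_2 lc_b_rc_6_1 lc_b_rc_26_5 lc_b_rc_9_2 lc_b_rc_9_2 lc_b_rc_9_2 lc_b_rc_6_1 lc_b_rc_8_2 lc_b_rc_1_1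 lc_b_rc_6_1 lc_b_rc_26_5 lc_b_rc_6_1) (@D3.rec (fun _ => (Cert rels S Gen.b)) lc_b_rc_6_1 lc_b_rc_10_2 lc_b_rc_6_1 lc_b_rc_6_1 lc_b_rc_9_2 lc_b_rc_26_7 lc_b_Cert_tree lc_b_rc_8_0 lc_b_rc_1_1 lc_b_rc_6_1 lc_b_rc_8_2 lc_b_rc_10_0 lc_b_rc_7_0 lc_b_rc_9_0 lc_b_rc_10_2 lc_b_rc_26_7 lc_b_rc_7_4 lc_b_rc_9_2 lc_b_rc_7_0 lc_b_rc_6_1 lc_b_rc_1_1 lc_b_rc_8_2 lc_b_rc_9_2 lc_b_rc_9_2 lc_b_rc_7_2 lc_b_rc_8_2 lc_b_rc_10_2 lc_b_rc_1_3 lc_b_rc_6_1 lc_b_Cert_tree lc_b_rc_8_2 lc_b_rc_6_1 lc_b_rc_9_2 lc_b_rc_9_0 lc_b_rc_26_5 lc_b_rc_7_4 lc_b_rc_8_2 lc_b_rc_8_2 lc_b_rc_9_2 lc_b_rc_7_2 lc_b_rc_9_2 lc_b_rc_6_1 lc_b_rc_1_5 lc_b_rc_8_2 lc_b_rc_9_2 lc_b_rc_7_0 lc_b_rc_9_2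 lc_b_Cert_tree lc_b_rc_7_2 lc_b_rc_8_2 lc_b_rc_10_2 lc_b_rc_6_1 lc_b_rc_7_0 lc_b_rc_7_0 lc_b_rc_8_2 lc_b_rc_9_2 lc_b_rc_6_1 lc_b_rc_8_2 lc_b_Cert_tree lc_b_rc_7_2 lc_b_rc_8_0 lc_b_rc_26_7) (@D3.rec (fun _ => (Cert rels S Gen.b)) lc_b_rc_8_2 lc_b_rc_9_0 lc_b_rc_6_1 lc_b_rc_8_2 lc_b_rc_10_2 lc_b_Cert_tree lc_b_rc_9_2 lc_b_rc_6_1 lc_b_rc_9_0 lc_b_rc_8_2 lc_b_rc_9_2 lc_b_rc_6_1 lc_b_rc_8_2 lc_b_rc_10_0 lc_b_rc_26_5 lc_b_Cert_tree lc_b_rc_6_1 lc_b_Cert_tree lc_b_rc_9_2 lc_b_Cert_tree lc_b_Cert_tree lc_b_rc_9_2 lc_b_rc_8_2 lc_b_rc_9_2 lc_b_rc_6_1 lc_b_rc_8_2 lc_b_rc_6_1 lc_b_rc_10_2 lc_b_rc_26_7 lc_b_rc_8_0 lc_b_rc_10_0 lc_b_rc_6_1 lc_b_Cert_tree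 lc_b_rc_1_3 lc_b_rc_1_1 lc_b_rc_6_1 lc_b_rc_26_5 lc_b_rc_1_5 lc_b_rc_6_1 lc_b_Cert_tree lc_b_Cert_tree lc_b_rc_6_1 lc_b_rc_8_2 lc_b_Cert_tree lc_b_rc_8_0 lc_b_rc_9_0 lc_b_rc_9_2 lc_b_rc_26_1 lc_b_rc_8_2 lc_b_rc_6_1 lc_b_rc_7_4 lc_b_rc_9_2 lc_b_rc_6_1 lc_b_rc_6_1 lc_b_rc_7_0 lc_b_rc_1_3 lc_b_rc_8_2 lc_b_rc_9_2 lc_b_Cert_tree lc_b_rc_26_7 lc_b_Cert_tree lc_b_rc_9_2) (@D3.rec (fun _ => (Cert rels S Gen.b)) lc_b_rc_8_0 lc_b_rc_7_4 lc_b_rc_8_2 lc_b_rc_9_2 lc_b_Cert_tree lc_b_rc_6_1 lc_b_rc_9_0 lc_b_rc_6_1 lc_b_rc_9_2 lc_b_rc_6_1 lc_b_rc_9_2 lc_b_rc_26_5 lc_b_rc_26_1 lc_b_rc_10_2 lc_b_rc_9_2 lc_b_rc_8_2 lc_b_rc_6_1 lc_b_rc_26_5 lc_b_Cert_tree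 lc_b_rc_9_2 lc_b_rc_6_1 lc_b_rc_9_2 lc_b_rc_1_5 lc_b_rc_10_2 lc_b_rc_6_1 lc_b_rc_10_2 lc_b_rc_9_2 lc_b_rc_9_2 lc_b_rc_10_0 lc_b_rc_1_5 lc_b_rc_6_1 lc_b_rc_10_2 lc_b_rc_26_7 lc_b_rc_25_0 lc_b_rc_1_1 lc_b_rc_9_2 lc_b_rc_6_1 lc_b_Cert_tree lc_b_rc_1_3 lc_b_Cert_tree lc_b_rc_26_7 lc_b_rc_10_2 lc_b_rc_10_2 lc_b_rc_26_5 lc_b_rc_6_1 lc_b_rc_8_2 lc_b_rc_8_2 lc_b_rc_10_2 lc_b_rc_6_1 lc_b_rc_9_2 lc_b_rc_8_2 lc_b_rc_9_2 lc_b_rc_9_2 lc_b_rc_9_2 lc_b_rc_9_2 lc_b_rc_26_1 lc_b_rc_10_2 lc_b_rc_9_2 lc_b_rc_10_2 lc_b_rc_10_0 lc_b_rc_8_0 lc_b_rc_26_5) (@D3.rec (fun _ => (Cert rels S Gen.b)) lc_b_rc_25_4 lc_b_rc_9_2 lc_b_rc_8_2 lc_b_rc_26_1 lc_b_rc_8_2 lc_b_rc_10_2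 lc_b_rc_9_2 lc_b_rc_8_0 lc_b_rc_9_2 lc_b_rc_26_7 lc_b_rc_8_0 lc_b_rc_10_2 lc_b_rc_1_5 lc_b_rc_26_1 lc_b_rc_8_0 lc_b_rc_9_2 lc_b_rc_7_2 lc_b_rc_7_2 lc_b_rc_8_2 lc_b_rc_6_1 lc_b_rc_10_2 lc_b_rc_1_5 lc_b_rc_6_1 lc_b_rc_8_2 lc_b_rc_8_2 lc_b_rc_26_7 lc_b_rc_6_1 lc_b_rc_10_2 lc_b_rc_9_2 lc_b_rc_8_2 lc_b_rc_9_2 lc_b_rc_8_2 lc_b_rc_9_2 lc_b_rc_8_2 lc_b_rc_10_2 lc_b_rc_8_2 lc_b_rc_9_2 lc_b_Cert_tree lc_b_Cert_tree lc_b_rc_6_1 lc_b_rc_8_2 lc_b_rc_8_2 lc_b_rc_8_2 lc_b_rc_9_2 lc_b_rc_6_1 lc_b_rc_1_5 lc_b_rc_9_2 lc_b_rc_1_5 lc_b_rc_8_2 lc_b_rc_1_5 lc_b_Cert_tree lc_b_rc_26_5 lc_b_Cert_tree lc_b_rc_10_2 lc_b_rc_10_2 lc_b_rc_1_5 lc_b_rc_6_1 lc_b_rc_8_2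 lc_b_rc_6_1 lc_b_rc_6_1 lc_b_rc_8_2 lc_b_rc_26_5) (@D3.rec (fun _ => (Cert rels S Gen.b)) lc_b_rc_6_1 lc_b_rc_8_2 lc_b_rc_10_2 lc_b_rc_8_2 lc_b_rc_6_1 lc_b_rc_7_0 lc_b_rc_10_2 lc_b_rc_25_4 lc_b_rc_1_1 lc_b_rc_8_2 lc_b_rc_8_2 lc_b_rc_9_0 lc_b_rc_6_1 lc_b_rc_1_3 lc_b_rc_7_0 lc_b_rc_7_2 lc_b_rc_6_1 lc_b_rc_8_2 lc_b_rc_10_2 lc_b_rc_8_2 lc_b_rc_10_2 lc_b_rc_6_1 lc_b_Cert_tree lc_b_rc_10_2 lc_b_rc_10_2 lc_b_rc_8_2 lc_b_rc_8_2 lc_b_rc_6_1 lc_b_rc_8_2 lc_b_rc_1_1 lc_b_rc_26_1 lc_b_Cert_tree lc_b_rc_9_2 lc_b_rc_10_2 lc_b_rc_6_1 lc_b_rc_9_2 lc_b_rc_8_2 lc_b_rc_10_2 lc_b_rc_6_1 lc_b_rc_9_2 lc_b_rc_6_1 lc_b_rc_9_2 lc_b_rc_26_5 lc_b_rc_6_1 lc_b_rc_1_5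 lc_b_rc_8_2 lc_b_rc_7_4 lc_b_rc_8_2 lc_b_rc_8_2 lc_b_Cert_tree lc_b_rc_26_1 lc_b_rc_1_5 lc_b_rc_26_7 lc_b_rc_26_5 lc_b_rc_6_1 lc_b_rc_10_2 lc_b_rc_10_2 lc_b_rc_9_2 lc_b_rc_8_2 lc_b_rc_1_1 lc_b_rc_9_2 lc_b_rc_7_0)
def ce_b_18 : D2 → D3 → (Cert rels S Gen.b) := @D2.rec (fun _ => D3 → (Cert rels S Gen.b)) (@D3.rec (fun _ => (Cert rels S Gen.b)) lc_b_rc_9_0 lc_b_rc_8_0 lc_b_rc_10_2 lc_b_rc_8_2 lc_b_rc_26_7 lc_b_rc_6_1 lc_b_rc_26_1 lc_b_rc_9_0 lc_b_rc_26_7 lc_b_rc_8_2 lc_b_rc_6_1 lc_b_rc_10_2 lc_b_rc_9_2 lc_b_rc_6_1 lc_b_rc_1_3 lc_b_rc_1_1 lc_b_rc_9_2 lc_b_rc_6_1 lc_b_rc_7_4 lc_b_rc_8_2 lc_b_rc_10_2 lc_b_rc_7_2 lc_b_rc_26_5 lc_b_rc_8_2 lc_b_rc_7_4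 lc_b_rc_26_1 lc_b_rc_8_0 lc_b_Cert_tree lc_b_rc_8_2 lc_b_rc_26_1 lc_b_rc_10_2 lc_b_rc_7_4 lc_b_rc_6_1 lc_b_rc_26_1 lc_b_rc_9_2 lc_b_rc_10_2 lc_b_rc_26_5 lc_b_rc_9_2 lc_b_rc_6_1 lc_b_rc_7_4 lc_b_rc_9_2 lc_b_rc_26_5 lc_b_rc_8_2 lc_b_Cert_tree lc_b_rc_10_2 lc_b_rc_10_2 lc_b_rc_7_2 lc_b_rc_8_0 lc_b_rc_8_2 lc_b_rc_6_1 lc_b_rc_1_3 lc_b_rc_9_2 lc_b_rc_9_0 lc_b_rc_8_2 lc_b_rc_10_2 lc_b_rc_26_5 lc_b_rc_1_5 lc_b_rc_1_3 lc_b_rc_8_2 lc_b_rc_8_2 lc_b_rc_9_2 lc_b_rc_6_1) (@D3.rec (fun _ => (Cert rels S Gen.b)) lc_b_rc_7_4 lc_b_rc_9_0 lc_b_rc_6_1 lc_b_rc_1_5 lc_b_rc_8_2 lc_b_rc_9_2 lc_b_rc_8_0 lc_b_rc_6_1 lc_b_rc_8_2 lc_b_rc_26_5 lc_b_rc_6_1 lc_b_rc_7_0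 lc_b_rc_1_1 lc_b_rc_26_5 lc_b_rc_26_1 lc_b_rc_26_7 lc_b_rc_26_7 lc_b_rc_6_1 lc_b_rc_7_4 lc_b_rc_6_1 lc_b_rc_10_2 lc_b_rc_6_1 lc_b_rc_8_2 lc_b_rc_8_2 lc_b_rc_9_2 lc_b_Cert_tree lc_b_Cert_tree lc_b_rc_9_2 lc_b_rc_8_2 lc_b_rc_9_2 lc_b_rc_8_2 lc_b_rc_10_2 lc_b_Cert_tree lc_b_rc_9_2 lc_b_Cert_tree lc_b_rc_9_2 lc_b_rc_9_2 lc_b_rc_8_2 lc_b_rc_9_2 lc_b_rc_9_2 lc_b_rc_6_1 lc_b_rc_9_2 lc_b_rc_6_1 lc_b_rc_8_2 lc_b_rc_26_7 lc_b_rc_6_1 lc_b_rc_9_2 lc_b_rc_6_1 lc_b_rc_8_2 lc_b_rc_9_2 lc_b_rc_8_0 lc_b_rc_8_0 lc_b_rc_8_2 lc_b_rc_6_1 lc_b_rc_8_2 lc_b_rc_9_2 lc_b_rc_9_0 lc_b_rc_9_0 lc_b_rc_8_2 lc_b_rc_6_1 lc_b_rc_26_5 lc_b_rc_9_2) (@D3.rec (fun _ => (Cert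 rels S Gen.b)) lc_b_rc_6_1 lc_b_rc_6_1 lc_b_rc_6_1 lc_b_rc_8_0 lc_b_rc_9_0 lc_b_rc_8_2 lc_b_rc_9_2 lc_b_rc_6_1 lc_b_rc_8_2 lc_b_rc_6_1 lc_b_rc_8_2 lc_b_rc_25_12 lc_b_rc_9_2 lc_b_rc_6_1 lc_b_rc_10_0 lc_b_rc_8_2 lc_b_rc_7_2 lc_b_rc_6_1 lc_b_rc_9_2 lc_b_rc_26_5 lc_b_rc_8_2 lc_b_rc_7_2 lc_b_rc_6_1 lc_b_rc_26_1 lc_b_rc_6_1 lc_b_rc_6_1 lc_b_rc_26_5 lc_b_rc_8_2 lc_b_rc_9_2 lc_b_rc_1_3 lc_b_rc_8_2 lc_b_rc_26_5 lc_b_rc_7_4 lc_b_rc_9_2 lc_b_Cert_tree lc_b_rc_6_1 lc_b_rc_6_1 lc_b_rc_10_2 lc_b_rc_10_2 lc_b_rc_10_2 lc_b_rc_8_2 lc_b_rc_1_3 lc_b_rc_8_2 lc_b_rc_25_4 lc_b_rc_9_2 lc_b_rc_7_2 lc_b_rc_1_3 lc_b_rc_8_2 lc_b_rc_9_2 lc_b_rc_1_1 lc_b_rc_6_1 lc_b_rc_1_5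 lc_b_rc_6_1 lc_b_Cert_tree lc_b_rc_8_0 lc_b_rc_6_1 lc_b_rc_10_0 lc_b_rc_8_0 lc_b_rc_6_1 lc_b_rc_7_0 lc_b_Cert_tree lc_b_rc_9_2) (@D3.rec (fun _ => (Cert rels S Gen.b)) lc_b_rc_26_5 lc_b_rc_1_3 lc_b_rc_8_2 lc_b_rc_1_3 lc_b_rc_25_0 lc_b_rc_8_2 lc_b_rc_9_2 lc_b_rc_6_1 lc_b_rc_6_1 lc_b_rc_26_7 lc_b_rc_1_1 lc_b_rc_6_1 lc_b_rc_9_0 lc_b_rc_7_2 lc_b_rc_9_2 lc_b_Cert_tree lc_b_Cert_tree lc_b_rc_7_4 lc_b_rc_6_1 lc_b_rc_6_1 lc_b_Cert_tree lc_b_rc_10_2 lc_b_rc_8_2 lc_b_rc_8_2 lc_b_rc_6_1 lc_b_Cert_tree lc_b_rc_1_3 lc_b_rc_8_2 lc_b_rc_9_2 lc_b_rc_9_2 lc_b_rc_6_1 lc_b_rc_1_3 lc_b_rc_8_2 lc_b_rc_9_2 lc_b_rc_1_5 lc_b_rc_26_7 lc_b_rc_7_4 lc_b_rc_26_5 lc_b_rc_7_2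 lc_b_Cert_tree lc_b_rc_9_2 lc_b_rc_6_1 lc_b_rc_6_1 lc_b_rc_1_3 lc_b_rc_8_2 lc_b_rc_9_2 lc_b_rc_26_5 lc_b_rc_8_2 lc_b_rc_10_2 lc_b_Cert_tree lc_b_rc_7_2 lc_b_rc_1_3 lc_b_rc_8_2 lc_b_rc_9_2 lc_b_rc_6_1 lc_b_rc_10_2 lc_b_rc_10_2 lc_b_rc_10_2 lc_b_rc_26_1 lc_b_rc_9_2 lc_b_rc_10_2 lc_b_rc_6_1) (@D3.rec (fun _ => (Cert rels S Gen.b)) lc_b_rc_1_5 lc_b_rc_8_2 lc_b_rc_9_2 lc_b_rc_8_2 lc_b_rc_7_4 lc_b_rc_10_2 lc_b_rc_7_4 lc_b_rc_9_2 lc_b_rc_6_1 lc_b_rc_6_1 lc_b_rc_26_5 lc_b_rc_26_1 lc_b_rc_8_2 lc_b_rc_6_1 lc_b_rc_8_2 lc_b_rc_26_5 lc_b_rc_6_1 lc_b_rc_10_2 lc_b_rc_6_1 lc_b_Cert_tree lc_b_rc_9_0 lc_b_rc_1_3 lc_b_rc_8_2 lc_b_rc_1_1 lc_b_rc_8_0 lc_b_rc_9_2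 lc_b_rc_8_0 lc_b_rc_8_0 lc_b_rc_1_3 lc_b_rc_9_2 lc_b_rc_1_5 lc_b_rc_10_2 lc_b_rc_6_1 lc_b_rc_1_3 lc_b_rc_8_2 lc_b_rc_9_2 lc_b_rc_9_2 lc_b_rc_7_4 lc_b_rc_8_2 lc_b_rc_6_1 lc_b_rc_9_2 lc_b_rc_6_1 lc_b_Cert_tree lc_b_Cert_tree lc_b_Cert_tree lc_b_Cert_tree lc_b_rc_8_2 lc_b_rc_8_2 lc_b_rc_9_2 lc_b_rc_7_4 lc_b_rc_8_2 lc_b_Cert_tree lc_b_Cert_tree lc_b_rc_9_2 lc_b_rc_8_2 lc_b_rc_26_1 lc_b_rc_6_1 lc_b_Cert_tree lc_b_rc_8_2 lc_b_rc_9_2 lc_b_rc_6_1 lc_b_rc_26_5) (@D3.rec (fun _ => (Cert rels S Gen.b)) lc_b_rc_8_2 lc_b_rc_7_0 lc_b_rc_1_3 lc_b_rc_9_2 lc_b_Cert_tree lc_b_Cert_tree lc_b_rc_7_4 lc_b_rc_9_2 lc_b_rc_8_0 lc_b_rc_10_2 lc_b_rc_8_2 lc_b_rc_6_1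 lc_b_rc_1_5 lc_b_rc_6_1 lc_b_rc_9_2 lc_b_rc_6_1 lc_b_rc_10_2 lc_b_rc_6_1 lc_b_rc_8_0 lc_b_rc_1_3 lc_b_rc_25_8 lc_b_rc_6_1 lc_b_rc_8_2 lc_b_rc_9_2 lc_b_rc_9_0 lc_b_rc_9_2 lc_b_rc_1_3 lc_b_Cert_tree lc_b_Cert_tree lc_b_rc_7_4 lc_b_rc_7_0 lc_b_rc_7_0 lc_b_rc_7_4 lc_b_rc_6_1 lc_b_rc_9_2 lc_b_rc_6_1 lc_b_rc_7_2 lc_b_rc_7_4 lc_b_rc_8_2 lc_b_Cert_tree lc_b_rc_8_0 lc_b_rc_6_1 lc_b_rc_6_1 lc_b_rc_8_0 lc_b_rc_1_3 lc_b_rc_8_2 lc_b_rc_9_2 lc_b_rc_6_1 lc_b_Cert_tree lc_b_rc_1_3 lc_b_rc_8_2 lc_b_rc_9_2 lc_b_rc_6_1 lc_b_Cert_tree lc_b_rc_9_2 lc_b_rc_1_5 lc_b_rc_6_1 lc_b_Cert_tree lc_b_rc_9_2 lc_b_rc_6_1 lc_b_rc_26_5 lc_b_rc_7_4) (@D3.rec (fun _ => (Cert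 rels S Gen.b)) lc_b_rc_9_0 lc_b_Cert_tree lc_b_rc_1_5 lc_b_rc_9_0 lc_b_rc_8_2 lc_b_rc_6_1 lc_b_rc_26_7 lc_b_rc_9_2 lc_b_rc_9_2 lc_b_rc_6_1 lc_b_rc_26_1 lc_b_rc_6_1 lc_b_rc_8_2 lc_b_rc_9_2 lc_b_rc_7_2 lc_b_Cert_tree lc_b_rc_6_1 lc_b_rc_8_2 lc_b_rc_6_1 lc_b_rc_26_7 lc_b_rc_9_2 lc_b_rc_7_4 lc_b_rc_6_1 lc_b_rc_26_5 lc_b_rc_6_1 lc_b_rc_1_1 lc_b_Cert_tree lc_b_rc_9_2 lc_b_rc_7_4 lc_b_rc_9_2 lc_b_rc_8_0 lc_b_rc_1_5 lc_b_rc_9_2 lc_b_rc_6_1 lc_b_rc_8_2 lc_b_rc_6_1 lc_b_rc_8_2 lc_b_rc_6_1 lc_b_rc_8_2 lc_b_rc_7_2 lc_b_rc_6_1 lc_b_rc_8_2 lc_b_rc_6_1 lc_b_Cert_tree lc_b_rc_6_1 lc_b_rc_9_2 lc_b_rc_6_1 lc_b_rc_26_5 lc_b_rc_8_2 lc_b_rc_1_3 lc_b_rc_8_2 lc_b_rc_9_2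 lc_b_rc_7_0 lc_b_rc_8_2 lc_b_rc_9_2 lc_b_rc_6_1 lc_b_rc_7_4 lc_b_rc_9_2 lc_b_rc_8_2 lc_b_rc_10_2 lc_b_rc_6_1 lc_b_rc_7_4) (@D3.rec (fun _ => (Cert rels S Gen.b)) lc_b_rc_6_1 lc_b_rc_1_5 lc_b_rc_8_2 lc_b_rc_26_5 lc_b_rc_9_2 lc_b_rc_9_2 lc_b_rc_1_5 lc_b_rc_7_0 lc_b_rc_9_0 lc_b_rc_10_2 lc_b_rc_6_1 lc_b_rc_7_2 lc_b_rc_8_2 lc_b_rc_6_1 lc_b_rc_26_5 lc_b_rc_8_2 lc_b_rc_9_2 lc_b_rc_10_2 lc_b_rc_9_2 lc_b_rc_7_0 lc_b_rc_7_4 lc_b_rc_8_0 lc_b_rc_9_2 lc_b_Cert_tree lc_b_rc_8_2 lc_b_rc_10_2 lc_b_Cert_tree lc_b_rc_8_2 lc_b_rc_10_2 lc_b_rc_1_3 lc_b_rc_9_2 lc_b_rc_6_1 lc_b_rc_6_1 lc_b_rc_7_2 lc_b_rc_8_0 lc_b_rc_9_2 lc_b_rc_6_1 lc_b_rc_9_2 lc_b_rc_9_0 lc_b_rc_25_4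 lc_b_rc_1_5 lc_b_rc_6_1 lc_b_rc_1_5 lc_b_rc_9_2 lc_b_rc_25_12 lc_b_rc_1_3 lc_b_rc_9_2 lc_b_Cert_tree lc_b_rc_10_0 lc_b_rc_26_7 lc_b_rc_8_2 lc_b_Cert_tree lc_b_rc_1_3 lc_b_rc_26_5 lc_b_rc_6_1 lc_b_rc_1_3 lc_b_rc_10_0 lc_b_rc_6_1 lc_b_rc_7_4 lc_b_rc_9_2 lc_b_rc_6_1 lc_b_rc_8_2) (@D3.rec (fun _ => (Cert rels S Gen.b)) lc_b_rc_6_1 lc_b_rc_26_1 lc_b_rc_7_4 lc_b_rc_8_0 lc_b_rc_10_2 lc_b_rc_9_2 lc_b_rc_26_5 lc_b_Cert_tree lc_b_rc_8_2 lc_b_rc_1_1 lc_b_rc_7_4 lc_b_rc_9_2 lc_b_rc_10_0 lc_b_rc_1_5 lc_b_rc_8_2 lc_b_rc_6_1 lc_b_rc_9_2 lc_b_rc_25_16 lc_b_rc_8_0 lc_b_rc_9_2 lc_b_rc_26_5 lc_b_rc_10_2 lc_b_Cert_tree lc_b_rc_1_3 lc_b_rc_26_5 lc_b_rc_26_5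 lc_b_rc_10_0 lc_b_rc_8_0 lc_b_rc_6_1 lc_b_Cert_tree lc_b_rc_10_2 lc_b_rc_6_1 lc_b_rc_6_1 lc_b_rc_1_5 lc_b_rc_1_1 lc_b_rc_26_7 lc_b_rc_9_0 lc_b_rc_26_5 lc_b_rc_25_0 lc_b_rc_6_1 lc_b_rc_8_2 lc_b_rc_9_2 lc_b_rc_6_1 lc_b_rc_26_5 lc_b_rc_26_5 lc_b_Cert_tree lc_b_rc_8_2 lc_b_rc_9_2 lc_b_rc_6_1 lc_b_rc_8_2 lc_b_rc_1_5 lc_b_Cert_tree lc_b_rc_10_2 lc_b_rc_6_1 lc_b_rc_8_0 lc_b_rc_8_2 lc_b_rc_9_2 lc_b_Cert_tree lc_b_rc_10_2 lc_b_rc_8_2 lc_b_rc_10_2 lc_b_Cert_tree) (@D3.rec (fun _ => (Cert rels S Gen.b)) lc_b_rc_8_2 lc_b_Cert_tree lc_b_rc_6_1 lc_b_rc_8_2 lc_b_rc_8_0 lc_b_rc_1_3 lc_b_rc_9_2 lc_b_rc_9_2 lc_b_Cert_tree lc_b_rc_8_2 lc_b_rc_10_2 lc_b_Cert_tree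 lc_b_rc_8_2 lc_b_Cert_tree lc_b_rc_9_2 lc_b_rc_9_0 lc_b_rc_7_2 lc_b_rc_9_2 lc_b_rc_9_2 lc_b_rc_8_2 lc_b_rc_10_2 lc_b_rc_6_1 lc_b_rc_1_5 lc_b_rc_6_1 lc_b_rc_9_2 lc_b_rc_6_1 lc_b_rc_6_1 lc_b_rc_9_2 lc_b_rc_8_2 lc_b_rc_9_2 lc_b_rc_6_1 lc_b_rc_6_1 lc_b_rc_7_4 lc_b_rc_9_2 lc_b_Cert_tree lc_b_Cert_tree lc_b_rc_8_2 lc_b_rc_6_1 lc_b_rc_9_0 lc_b_rc_8_2 lc_b_rc_10_2 lc_b_rc_6_1 lc_b_rc_8_2 lc_b_rc_6_1 lc_b_rc_8_2 lc_b_rc_9_2 lc_b_Cert_tree lc_b_Cert_tree lc_b_rc_8_2 lc_b_rc_10_2 lc_b_rc_8_0 lc_b_rc_6_1 lc_b_rc_8_2 lc_b_rc_9_2 lc_b_rc_6_1 lc_b_rc_8_2 lc_b_rc_9_2 lc_b_Cert_tree lc_b_rc_7_2 lc_b_rc_1_3 lc_b_Cert_tree lc_b_rc_7_0) (@D3.rec (fun _ => (Cert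 rels S Gen.b)) lc_b_rc_7_4 lc_b_rc_6_1 lc_b_rc_26_5 lc_b_rc_6_1 lc_b_Cert_tree lc_b_rc_9_2 lc_b_rc_6_1 lc_b_rc_26_5 lc_b_rc_6_1 lc_b_rc_1_3 lc_b_rc_26_7 lc_b_rc_26_5 lc_b_rc_10_2 lc_b_rc_6_1 lc_b_Cert_tree lc_b_rc_6_1 lc_b_rc_6_1 lc_b_rc_8_2 lc_b_rc_10_2 lc_b_rc_26_5 lc_b_rc_9_2 lc_b_rc_8_0 lc_b_rc_8_2 lc_b_rc_6_1 lc_b_rc_9_2 lc_b_rc_9_2 lc_b_rc_26_5 lc_b_rc_26_1 lc_b_rc_10_2 lc_b_rc_7_2 lc_b_rc_6_1 lc_b_rc_6_1 lc_b_rc_9_2 lc_b_rc_6_1 lc_b_Cert_tree lc_b_rc_1_3 lc_b_Cert_tree lc_b_Cert_tree lc_b_rc_8_2 lc_b_rc_7_4 lc_b_rc_7_2 lc_b_rc_1_3 lc_b_rc_8_2 lc_b_rc_8_0 lc_b_rc_9_2 lc_b_rc_1_1 lc_b_rc_1_1 lc_b_rc_6_1 lc_b_rc_9_2 lc_b_rc_6_1 lc_b_rc_8_2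 lc_b_rc_1_5 lc_b_rc_10_0 lc_b_rc_9_0 lc_b_rc_8_2 lc_b_rc_6_1 lc_b_rc_26_7 lc_b_Cert_tree lc_b_rc_6_1 lc_b_rc_26_7 lc_b_rc_6_1 lc_b_Cert_tree) (@D3.rec (fun _ => (Cert rels S Gen.b)) lc_b_rc_9_2 lc_b_rc_6_1 lc_b_rc_6_1 lc_b_rc_6_1 lc_b_rc_1_3 lc_b_rc_25_4 lc_b_rc_7_4 lc_b_rc_7_4 lc_b_rc_6_1 lc_b_Cert_tree lc_b_rc_1_3 lc_b_rc_6_1 lc_b_rc_1_3 lc_b_rc_9_2 lc_b_rc_6_1 lc_b_rc_10_2 lc_b_rc_1_3 lc_b_rc_8_2 lc_b_rc_9_2 lc_b_rc_9_2 lc_b_rc_8_2 lc_b_rc_6_1 lc_b_Cert_tree lc_b_rc_1_3 lc_b_rc_8_2 lc_b_rc_9_2 lc_b_rc_9_2 lc_b_rc_8_2 lc_b_Cert_tree lc_b_rc_6_1 lc_b_rc_1_3 lc_b_rc_8_2 lc_b_rc_9_2 lc_b_Cert_tree lc_b_rc_10_2 lc_b_Cert_tree lc_b_rc_6_1 lc_b_rc_8_2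 lc_b_rc_8_2 lc_b_rc_9_2 lc_b_rc_9_2 lc_b_Cert_tree lc_b_rc_7_4 lc_b_rc_8_2 lc_b_rc_10_2 lc_b_Cert_tree lc_b_rc_8_2 lc_b_rc_7_2 lc_b_Cert_tree lc_b_rc_1_3 lc_b_rc_8_2 lc_b_rc_9_2 lc_b_rc_9_2 lc_b_rc_8_2 lc_b_Cert_tree lc_b_Cert_tree lc_b_rc_1_3 lc_b_rc_8_2 lc_b_rc_9_2 lc_b_rc_6_1 lc_b_rc_8_2 lc_b_rc_10_2) (@D3.rec (fun _ => (Cert rels S Gen.b)) lc_b_rc_6_1 lc_b_rc_1_3 lc_b_rc_26_5 lc_b_rc_1_5 lc_b_rc_6_1 lc_b_rc_26_7 lc_b_rc_6_1 lc_b_rc_8_2 lc_b_rc_9_2 lc_b_Cert_tree lc_b_Cert_tree lc_b_rc_7_4 lc_b_rc_9_2 lc_b_rc_7_0 lc_b_rc_8_2 lc_b_rc_10_2 lc_b_Cert_tree lc_b_Cert_tree lc_b_rc_8_2 lc_b_rc_10_2 lc_b_rc_6_1 lc_b_rc_1_5 lc_b_Cert_tree lc_b_rc_10_2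 lc_b_rc_25_4 lc_b_rc_26_5 lc_b_rc_6_1 lc_b_rc_8_2 lc_b_rc_6_1 lc_b_rc_26_1 lc_b_rc_6_1 lc_b_rc_9_2 lc_b_rc_26_7 lc_b_rc_6_1 lc_b_rc_9_2 lc_b_rc_9_2 lc_b_Cert_tree lc_b_rc_6_1 lc_b_rc_6_1 lc_b_rc_8_2 lc_b_rc_26_1 lc_b_rc_8_2 lc_b_rc_26_1 lc_b_rc_9_2 lc_b_rc_6_1 lc_b_rc_8_2 lc_b_rc_10_2 lc_b_rc_26_5 lc_b_rc_10_2 lc_b_rc_1_3 lc_b_rc_9_2 lc_b_rc_1_3 lc_b_rc_6_1 lc_b_rc_8_2 lc_b_rc_9_2 lc_b_rc_1_5 lc_b_rc_8_2 lc_b_rc_10_2 lc_b_rc_26_1 lc_b_rc_8_2 lc_b_rc_6_1 lc_b_rc_6_1) (@D3.rec (fun _ => (Cert rels S Gen.b)) lc_b_rc_6_1 lc_b_rc_6_1 lc_b_rc_7_4 lc_b_rc_7_4 lc_b_rc_6_1 lc_b_rc_8_2 lc_b_rc_9_2 lc_b_rc_10_2 lc_b_rc_6_1 lc_b_rc_9_2 lc_b_rc_6_1 lc_b_rc_1_3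 lc_b_rc_1_3 lc_b_rc_6_1 lc_b_rc_6_1 lc_b_rc_7_4 lc_b_rc_9_2 lc_b_rc_26_1 lc_b_rc_7_0 lc_b_rc_8_2 lc_b_rc_10_2 lc_b_rc_7_4 lc_b_rc_1_5 lc_b_rc_7_4 lc_b_rc_9_2 lc_b_rc_6_1 lc_b_rc_7_0 lc_b_rc_9_2 lc_b_rc_7_0 lc_b_rc_7_4 lc_b_Cert_tree lc_b_rc_26_5 lc_b_rc_26_1 lc_b_rc_8_2 lc_b_rc_8_2 lc_b_rc_6_1 lc_b_rc_8_2 lc_b_rc_9_2 lc_b_rc_25_4 lc_b_Cert_tree lc_b_rc_9_2 lc_b_rc_6_1 lc_b_rc_8_2 lc_b_rc_9_2 lc_b_rc_26_5 lc_b_rc_26_1 lc_b_rc_9_2 lc_b_rc_6_1 lc_b_rc_9_2 lc_b_rc_8_2 lc_b_rc_7_2 lc_b_rc_8_0 lc_b_Cert_tree lc_b_rc_8_2 lc_b_rc_10_2 lc_b_rc_6_1 lc_b_rc_26_5 lc_b_rc_6_1 lc_b_rc_26_1 lc_b_rc_8_2 lc_b_rc_6_1 lc_b_Cert_tree) (@D3.rec (fun _ => (Cert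 rels S Gen.b)) lc_b_rc_8_2 lc_b_rc_8_0 lc_b_rc_9_0 lc_b_rc_7_0 lc_b_rc_10_0 lc_b_rc_10_2 lc_b_rc_9_2 lc_b_rc_26_1 lc_b_rc_7_4 lc_b_rc_6_1 lc_b_rc_6_1 lc_b_rc_9_2 lc_b_rc_7_2 lc_b_rc_8_2 lc_b_rc_6_1 lc_b_Cert_tree lc_b_rc_1_3 lc_b_rc_9_2 lc_b_rc_6_1 lc_b_Cert_tree lc_b_rc_1_3 lc_b_rc_8_2 lc_b_rc_9_2 lc_b_rc_10_0 lc_b_rc_7_4 lc_b_rc_7_0 lc_b_rc_26_5 lc_b_rc_7_2 lc_b_rc_6_1 lc_b_Cert_tree lc_b_rc_1_3 lc_b_rc_9_2 lc_b_rc_8_2 lc_b_rc_6_1 lc_b_rc_6_1 lc_b_rc_9_2 lc_b_rc_8_2 lc_b_rc_9_2 lc_b_Cert_tree lc_b_rc_8_2 lc_b_rc_7_4 lc_b_rc_9_2 lc_b_Cert_tree lc_b_Cert_tree lc_b_rc_8_2 lc_b_rc_6_1 lc_b_rc_7_0 lc_b_rc_6_1 lc_b_rc_9_2 lc_b_Cert_tree lc_b_rc_9_0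 lc_b_rc_8_2 lc_b_rc_10_2 lc_b_rc_6_1 lc_b_rc_9_2 lc_b_rc_6_1 lc_b_Cert_tree lc_b_Cert_tree lc_b_rc_8_0 lc_b_rc_8_2 lc_b_rc_9_2 lc_b_Cert_tree) (@D3.rec (fun _ => (Cert rels S Gen.b)) lc_b_rc_6_1 lc_b_rc_8_2 lc_b_rc_9_2 lc_b_rc_6_1 lc_b_rc_8_2 lc_b_rc_7_2 lc_b_rc_1_5 lc_b_rc_6_1 lc_b_rc_9_2 lc_b_rc_8_2 lc_b_rc_9_2 lc_b_rc_1_3 lc_b_rc_9_2 lc_b_rc_26_1 lc_b_rc_8_2 lc_b_rc_6_1 lc_b_rc_7_0 lc_b_rc_6_1 lc_b_rc_6_1 lc_b_rc_9_2 lc_b_rc_6_1 lc_b_Cert_tree lc_b_rc_6_1 lc_b_rc_1_3 lc_b_rc_6_1 lc_b_rc_7_4 lc_b_rc_6_1 lc_b_rc_8_2 lc_b_rc_25_16 lc_b_rc_6_1 lc_b_rc_9_2 lc_b_rc_1_5 lc_b_rc_6_1 lc_b_rc_6_1 lc_b_rc_9_2 lc_b_rc_8_2 lc_b_rc_6_1 lc_b_rc_10_2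 lc_b_rc_6_1 lc_b_rc_10_0 lc_b_rc_8_2 lc_b_rc_7_2 lc_b_rc_26_7 lc_b_rc_1_5 lc_b_rc_10_2 lc_b_rc_8_2 lc_b_rc_26_5 lc_b_rc_8_2 lc_b_rc_9_2 lc_b_rc_9_0 lc_b_rc_8_2 lc_b_rc_1_1 lc_b_rc_6_1 lc_b_rc_10_0 lc_b_rc_9_2 lc_b_rc_7_4 lc_b_rc_9_2 lc_b_rc_9_0 lc_b_rc_8_2 lc_b_rc_10_2 lc_b_rc_6_1 lc_b_rc_6_1) (@D3.rec (fun _ => (Cert rels S Gen.b)) lc_b_rc_26_5 lc_b_rc_9_2 lc_b_rc_6_1 lc_b_rc_1_3 lc_b_rc_8_0 lc_b_rc_9_2 lc_b_rc_6_1 lc_b_rc_1_5 lc_b_rc_8_2 lc_b_rc_9_2 lc_b_rc_1_3 lc_b_rc_9_2 lc_b_rc_9_0 lc_b_rc_8_2 lc_b_rc_6_1 lc_b_rc_9_2 lc_b_rc_6_1 lc_b_rc_8_2 lc_b_rc_6_1 lc_b_rc_9_2 lc_b_rc_6_1 lc_b_rc_8_2 lc_b_rc_8_2 lc_b_rc_10_2 lc_b_rc_9_2 lc_b_rc_6_1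 lc_b_rc_8_2 lc_b_rc_7_2 lc_b_rc_8_2 lc_b_rc_1_5 lc_b_rc_1_1 lc_b_rc_8_2 lc_b_rc_9_2 lc_b_rc_10_2 lc_b_rc_26_7 lc_b_rc_6_1 lc_b_rc_25_4 lc_b_rc_8_2 lc_b_rc_7_4 lc_b_rc_26_1 lc_b_rc_9_2 lc_b_rc_1_5 lc_b_rc_8_2 lc_b_rc_7_2 lc_b_rc_9_2 lc_b_rc_8_2 lc_b_rc_1_3 lc_b_rc_7_4 lc_b_rc_6_1 lc_b_rc_8_2 lc_b_rc_9_2 lc_b_rc_7_0 lc_b_rc_7_4 lc_b_rc_9_2 lc_b_rc_10_2 lc_b_rc_9_2 lc_b_rc_9_2 lc_b_rc_1_1 lc_b_rc_8_2 lc_b_rc_26_5 lc_b_rc_26_1 lc_b_rc_6_1) (@D3.rec (fun _ => (Cert rels S Gen.b)) lc_b_rc_9_0 lc_b_rc_26_1 lc_b_rc_26_5 lc_b_rc_9_0 lc_b_rc_9_2 lc_b_rc_6_1 lc_b_rc_25_4 lc_b_rc_10_2 lc_b_rc_6_1 lc_b_rc_9_2 lc_b_rc_6_1 lc_b_rc_10_0 lc_b_rc_9_0 lc_b_Cert_tree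 lc_b_rc_9_2 lc_b_rc_8_0 lc_b_rc_6_1 lc_b_rc_26_5 lc_b_rc_26_1 lc_b_rc_6_1 lc_b_rc_26_5 lc_b_rc_6_1 lc_b_rc_9_2 lc_b_rc_8_2 lc_b_rc_9_2 lc_b_rc_26_5 lc_b_rc_10_2 lc_b_rc_6_1 lc_b_rc_6_1 lc_b_rc_8_2 lc_b_rc_9_2 lc_b_rc_9_2 lc_b_rc_1_5 lc_b_rc_7_4 lc_b_rc_6_1 lc_b_rc_8_2 lc_b_Cert_tree lc_b_rc_6_1 lc_b_rc_6_1 lc_b_rc_26_7 lc_b_rc_8_2 lc_b_rc_9_2 lc_b_rc_6_1 lc_b_rc_1_5 lc_b_rc_25_4 lc_b_rc_10_0 lc_b_rc_9_2 lc_b_rc_8_2 lc_b_rc_6_1 lc_b_rc_26_7 lc_b_Cert_tree lc_b_rc_8_2 lc_b_Cert_tree lc_b_rc_26_5 lc_b_rc_1_3 lc_b_rc_8_2 lc_b_rc_9_2 lc_b_rc_26_5 lc_b_rc_7_4 lc_b_rc_8_2 lc_b_rc_9_2 lc_b_rc_7_2) (@D3.rec (fun _ => (Cert rels S Gen.b)) lc_b_Cert_tree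 lc_b_rc_6_1 lc_b_rc_6_1 lc_b_rc_1_3 lc_b_rc_8_2 lc_b_rc_9_2 lc_b_rc_26_7 lc_b_rc_8_2 lc_b_Cert_tree lc_b_Cert_tree lc_b_rc_8_2 lc_b_rc_8_2 lc_b_rc_9_2 lc_b_rc_9_2 lc_b_rc_8_2 lc_b_rc_8_2 lc_b_rc_7_2 lc_b_rc_1_3 lc_b_rc_6_1 lc_b_rc_8_2 lc_b_rc_9_2 lc_b_rc_8_2 lc_b_rc_9_2 lc_b_rc_6_1 lc_b_rc_8_2 lc_b_rc_6_1 lc_b_rc_9_2 lc_b_rc_6_1 lc_b_Cert_tree lc_b_rc_7_2 lc_b_rc_9_2 lc_b_rc_8_0 lc_b_rc_8_2 lc_b_rc_10_2 lc_b_Cert_tree lc_b_Cert_tree lc_b_rc_10_2 lc_b_rc_8_2 lc_b_rc_6_1 lc_b_rc_8_2 lc_b_rc_9_2 lc_b_rc_9_0 lc_b_rc_10_2 lc_b_rc_6_1 lc_b_rc_9_2 lc_b_rc_6_1 lc_b_rc_1_1 lc_b_Cert_tree lc_b_rc_9_2 lc_b_rc_26_1 lc_b_rc_9_2 lc_b_rc_6_1 lc_b_Cert_tree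 lc_b_rc_10_2 lc_b_rc_25_4 lc_b_rc_9_2 lc_b_rc_10_2 lc_b_Cert_tree lc_b_rc_10_2 lc_b_rc_7_4 lc_b_rc_9_2 lc_b_rc_9_2) (@D3.rec (fun _ => (Cert rels S Gen.b)) lc_b_rc_26_7 lc_b_rc_10_2 lc_b_rc_8_2 lc_b_Cert_tree lc_b_rc_9_2 lc_b_rc_9_0 lc_b_rc_9_2 lc_b_rc_6_1 lc_b_rc_26_7 lc_b_rc_9_2 lc_b_rc_9_0 lc_b_rc_6_1 lc_b_rc_10_2 lc_b_rc_6_1 lc_b_rc_6_1 lc_b_rc_1_3 lc_b_rc_9_2 lc_b_Cert_tree lc_b_Cert_tree lc_b_rc_8_2 lc_b_rc_10_2 lc_b_rc_6_1 lc_b_rc_10_2 lc_b_rc_8_2 lc_b_Cert_tree lc_b_rc_8_2 lc_b_rc_9_2 lc_b_rc_9_0 lc_b_rc_6_1 lc_b_rc_10_2 lc_b_rc_6_1 lc_b_rc_1_3 lc_b_rc_9_2 lc_b_rc_1_3 lc_b_Cert_tree lc_b_rc_8_2 lc_b_rc_10_2 lc_b_rc_7_4 lc_b_rc_7_2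 lc_b_rc_10_0 lc_b_rc_6_1 lc_b_rc_1_3 lc_b_rc_8_2 lc_b_rc_9_2 lc_b_rc_6_1 lc_b_rc_10_2 lc_b_rc_8_2 lc_b_rc_25_0 lc_b_rc_7_2 lc_b_rc_8_2 lc_b_rc_8_2 lc_b_rc_1_3 lc_b_rc_9_2 lc_b_rc_9_2 lc_b_rc_8_2 lc_b_rc_9_2 lc_b_rc_6_1 lc_b_rc_9_2 lc_b_rc_9_2 lc_b_rc_6_1 lc_b_rc_9_2 lc_b_rc_9_2) (@D3.rec (fun _ => (Cert rels S Gen.b)) lc_b_rc_8_2 lc_b_rc_6_1 lc_b_rc_8_2 lc_b_rc_6_1 lc_b_rc_8_2 lc_b_rc_26_5 lc_b_rc_8_2 lc_b_rc_9_0 lc_b_Cert_tree lc_b_rc_8_2 lc_b_Cert_tree lc_b_rc_6_1 lc_b_rc_10_2 lc_b_rc_6_1 lc_b_Cert_tree lc_b_Cert_tree lc_b_rc_1_3 lc_b_rc_8_2 lc_b_rc_9_2 lc_b_rc_9_2 lc_b_Cert_tree lc_b_rc_8_2 lc_b_rc_9_2 lc_b_Cert_tree lc_b_rc_6_1 lc_b_rc_7_2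 lc_b_rc_6_1 lc_b_rc_26_5 lc_b_rc_9_2 lc_b_rc_9_2 lc_b_rc_6_1 lc_b_rc_8_0 lc_b_rc_6_1 lc_b_rc_6_1 lc_b_rc_6_1 lc_b_rc_8_2 lc_b_rc_1_3 lc_b_rc_6_1 lc_b_rc_25_8 lc_b_rc_9_2 lc_b_rc_9_2 lc_b_rc_9_2 lc_b_rc_10_2 lc_b_rc_6_1 lc_b_rc_6_1 lc_b_rc_26_5 lc_b_rc_1_3 lc_b_rc_1_5 lc_b_rc_7_4 lc_b_rc_6_1 lc_b_rc_8_2 lc_b_rc_10_2 lc_b_rc_6_1 lc_b_rc_26_5 lc_b_rc_6_1 lc_b_rc_26_5 lc_b_rc_8_2 lc_b_rc_9_2 lc_b_rc_6_1 lc_b_rc_6_1 lc_b_Cert_tree lc_b_rc_1_3) (@D3.rec (fun _ => (Cert rels S Gen.b)) lc_b_rc_6_1 lc_b_rc_9_2 lc_b_rc_9_2 lc_b_rc_6_1 lc_b_rc_6_1 lc_b_rc_6_1 lc_b_rc_7_0 lc_b_rc_8_2 lc_b_rc_9_2 lc_b_rc_26_5 lc_b_rc_26_5 lc_b_rc_10_2 lc_b_rc_6_1 lc_b_rc_9_2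 lc_b_Cert_tree lc_b_rc_8_2 lc_b_Cert_tree lc_b_rc_9_2 lc_b_Cert_tree lc_b_Cert_tree lc_b_rc_6_1 lc_b_rc_10_2 lc_b_rc_6_1 lc_b_rc_26_5 lc_b_rc_8_2 lc_b_rc_26_1 lc_b_rc_8_2 lc_b_rc_9_2 lc_b_rc_7_2 lc_b_rc_8_2 lc_b_rc_9_2 lc_b_rc_6_1 lc_b_rc_1_3 lc_b_Cert_tree lc_b_rc_9_2 lc_b_rc_6_1 lc_b_rc_10_2 lc_b_rc_26_1 lc_b_rc_26_5 lc_b_rc_8_2 lc_b_rc_8_2 lc_b_rc_1_1 lc_b_rc_9_2 lc_b_rc_8_0 lc_b_rc_9_0 lc_b_rc_1_5 lc_b_rc_8_2 lc_b_Cert_tree lc_b_rc_6_1 lc_b_rc_26_5 lc_b_rc_9_2 lc_b_rc_1_5 lc_b_rc_8_2 lc_b_rc_26_1 lc_b_rc_7_4 lc_b_rc_9_2 lc_b_Cert_tree lc_b_rc_8_2 lc_b_rc_10_2 lc_b_rc_1_3 lc_b_rc_8_2 lc_b_rc_10_2) (@D3.rec (fun _ => (Cert rels S Gen.b))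 lc_b_rc_6_1 lc_b_rc_6_1 lc_b_rc_8_2 lc_b_Cert_tree lc_b_rc_26_7 lc_b_rc_8_2 lc_b_rc_6_1 lc_b_rc_26_7 lc_b_rc_6_1 lc_b_rc_26_7 lc_b_Cert_tree lc_b_rc_1_5 lc_b_rc_6_1 lc_b_rc_6_1 lc_b_rc_9_2 lc_b_rc_7_2 lc_b_rc_8_2 lc_b_rc_6_1 lc_b_rc_8_0 lc_b_rc_6_1 lc_b_rc_6_1 lc_b_rc_8_0 lc_b_rc_7_0 lc_b_rc_9_2 lc_b_rc_26_7 lc_b_rc_9_0 lc_b_rc_7_4 lc_b_rc_7_2 lc_b_rc_8_0 lc_b_rc_26_5 lc_b_rc_9_2 lc_b_rc_7_0 lc_b_rc_8_2 lc_b_rc_9_2 lc_b_rc_6_1 lc_b_rc_9_2 lc_b_rc_10_2 lc_b_rc_9_2 lc_b_rc_6_1 lc_b_Cert_tree lc_b_rc_10_2 lc_b_rc_9_2 lc_b_Cert_tree lc_b_rc_9_2 lc_b_rc_8_2 lc_b_rc_9_2 lc_b_rc_9_0 lc_b_rc_9_2 lc_b_rc_9_2 lc_b_rc_10_2 lc_b_rc_10_2 lc_b_rc_6_1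 lc_b_rc_26_1 lc_b_Cert_tree lc_b_rc_8_0 lc_b_rc_10_2 lc_b_rc_6_1 lc_b_rc_9_2 lc_b_rc_6_1 lc_b_rc_10_2 lc_b_rc_6_1 lc_b_rc_1_3) (@D3.rec (fun _ => (Cert rels S Gen.b)) lc_b_rc_6_1 lc_b_rc_9_2 lc_b_rc_6_1 lc_b_rc_1_3 lc_b_rc_9_2 lc_b_rc_26_7 lc_b_rc_6_1 lc_b_rc_8_2 lc_b_Cert_tree lc_b_rc_9_2 lc_b_Cert_tree lc_b_rc_8_2 lc_b_rc_9_2 lc_b_rc_6_1 lc_b_rc_7_4 lc_b_rc_7_4 lc_b_rc_8_2 lc_b_rc_9_2 lc_b_rc_8_2 lc_b_rc_6_1 lc_b_rc_10_2 lc_b_rc_7_4 lc_b_rc_6_1 lc_b_rc_10_2 lc_b_rc_7_4 lc_b_Cert_tree lc_b_rc_8_2 lc_b_rc_1_3 lc_b_rc_7_4 lc_b_rc_6_1 lc_b_rc_1_5 lc_b_rc_6_1 lc_b_rc_8_2 lc_b_rc_6_1 lc_b_rc_1_1 lc_b_rc_8_2 lc_b_rc_26_5 lc_b_rc_7_2 lc_b_rc_9_2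 lc_b_rc_8_2 lc_b_rc_9_2 lc_b_rc_8_2 lc_b_rc_25_8 lc_b_rc_9_2 lc_b_rc_7_2 lc_b_rc_9_2 lc_b_rc_8_2 lc_b_rc_9_2 lc_b_rc_8_0 lc_b_Cert_tree lc_b_rc_6_1 lc_b_rc_1_5 lc_b_rc_10_0 lc_b_rc_9_0 lc_b_rc_9_0 lc_b_rc_10_2 lc_b_rc_8_2 lc_b_Cert_tree lc_b_rc_8_2 lc_b_rc_6_1 lc_b_rc_1_1 lc_b_rc_26_1) (@D3.rec (fun _ => (Cert rels S Gen.b)) lc_b_rc_9_2 lc_b_rc_6_1 lc_b_rc_9_2 lc_b_rc_9_2 lc_b_rc_7_2 lc_b_rc_7_4 lc_b_rc_6_1 lc_b_rc_9_0 lc_b_rc_8_2 lc_b_rc_10_2 lc_b_rc_9_2 lc_b_rc_9_0 lc_b_rc_6_1 lc_b_rc_9_2 lc_b_rc_6_1 lc_b_rc_26_7 lc_b_rc_26_5 lc_b_rc_10_2 lc_b_rc_8_2 lc_b_rc_9_2 lc_b_rc_10_2 lc_b_rc_7_0 lc_b_rc_8_2 lc_b_rc_7_4 lc_b_rc_9_2 lc_b_rc_7_2 lc_b_rc_9_2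 lc_b_rc_8_2 lc_b_Cert_tree lc_b_rc_9_2 lc_b_rc_8_2 lc_b_rc_8_2 lc_b_rc_6_1 lc_b_rc_10_2 lc_b_rc_26_5 lc_b_rc_10_2 lc_b_rc_26_1 lc_b_rc_9_0 lc_b_rc_8_2 lc_b_rc_8_2 lc_b_rc_9_2 lc_b_rc_10_2 lc_b_rc_6_1 lc_b_rc_6_1 lc_b_rc_8_2 lc_b_rc_7_4 lc_b_rc_6_1 lc_b_rc_8_2 lc_b_rc_8_2 lc_b_rc_8_2 lc_b_rc_8_0 lc_b_rc_26_5 lc_b_rc_9_2 lc_b_rc_6_1 lc_b_rc_10_2 lc_b_rc_9_2 lc_b_rc_6_1 lc_b_rc_6_1 lc_b_rc_10_2 lc_b_rc_10_2 lc_b_rc_1_5 lc_b_rc_8_2) (@D3.rec (fun _ => (Cert rels S Gen.b)) lc_b_rc_9_2 lc_b_rc_6_1 lc_b_rc_7_0 lc_b_Cert_tree lc_b_rc_7_0 lc_b_rc_8_0 lc_b_rc_7_4 lc_b_rc_25_12 lc_b_rc_26_5 lc_b_rc_7_4 lc_b_rc_8_2 lc_b_rc_9_2 lc_b_rc_8_2 lc_b_rc_9_2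 lc_b_Cert_tree lc_b_rc_10_0 lc_b_rc_10_2 lc_b_rc_8_2 lc_b_rc_8_2 lc_b_rc_8_2 lc_b_rc_9_2 lc_b_rc_9_2 lc_b_rc_9_2 lc_b_rc_8_2 lc_b_rc_8_2 lc_b_rc_7_0 lc_b_rc_8_2 lc_b_rc_8_2 lc_b_rc_9_2 lc_b_rc_6_1 lc_b_rc_8_2 lc_b_rc_1_5 lc_b_rc_7_2 lc_b_rc_9_2 lc_b_rc_6_1 lc_b_rc_6_1 lc_b_rc_9_2 lc_b_rc_8_0 lc_b_rc_8_2 lc_b_rc_26_7 lc_b_rc_8_2 lc_b_rc_26_7 lc_b_rc_10_2 lc_b_rc_7_0 lc_b_rc_7_0 lc_b_rc_26_1 lc_b_rc_8_2 lc_b_rc_10_2 lc_b_rc_6_1 lc_b_rc_9_2 lc_b_rc_6_1 lc_b_rc_8_0 lc_b_rc_7_4 lc_b_rc_8_2 lc_b_rc_26_7 lc_b_rc_6_1 lc_b_rc_26_5 lc_b_rc_9_2 lc_b_rc_6_1 lc_b_Cert_tree lc_b_rc_8_2 lc_b_rc_9_2) (@D3.rec (fun _ => (Cert rels S Gen.b)) lc_b_rc_8_2 lc_b_rc_1_5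 lc_b_rc_1_1 lc_b_rc_1_3 lc_b_rc_10_2 lc_b_rc_6_1 lc_b_rc_9_2 lc_b_rc_6_1 lc_b_rc_6_1 lc_b_rc_8_2 lc_b_rc_10_0 lc_b_rc_26_1 lc_b_rc_10_2 lc_b_rc_26_1 lc_b_rc_1_3 lc_b_rc_26_7 lc_b_rc_9_2 lc_b_rc_9_2 lc_b_rc_8_2 lc_b_rc_10_2 lc_b_rc_9_2 lc_b_rc_26_7 lc_b_rc_10_2 lc_b_rc_9_2 lc_b_rc_10_2 lc_b_Cert_tree lc_b_rc_8_2 lc_b_rc_9_2 lc_b_rc_6_1 lc_b_rc_8_2 lc_b_rc_1_3 lc_b_rc_8_2 lc_b_rc_9_2 lc_b_rc_9_2 lc_b_rc_26_7 lc_b_rc_9_2 lc_b_rc_9_2 lc_b_rc_6_1 lc_b_rc_9_2 lc_b_rc_7_2 lc_b_rc_26_1 lc_b_Cert_tree lc_b_rc_8_2 lc_b_rc_8_2 lc_b_rc_9_2 lc_b_rc_25_4 lc_b_rc_26_5 lc_b_rc_1_3 lc_b_rc_8_2 lc_b_rc_9_2 lc_b_rc_7_4 lc_b_rc_10_2 lc_b_rc_6_1 lc_b_Cert_tree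 lc_b_rc_1_3 lc_b_rc_8_2 lc_b_rc_9_2 lc_b_rc_7_2 lc_b_rc_6_1 lc_b_rc_25_4 lc_b_rc_8_2 lc_b_rc_9_2) (@D3.rec (fun _ => (Cert rels S Gen.b)) lc_b_rc_26_5 lc_b_rc_26_5 lc_b_rc_9_0 lc_b_Cert_tree lc_b_Cert_tree lc_b_rc_7_4 lc_b_rc_9_0 lc_b_rc_26_1 lc_b_rc_9_2 lc_b_rc_6_1 lc_b_rc_6_1 lc_b_rc_9_2 lc_b_Cert_tree lc_b_Cert_tree lc_b_rc_6_1 lc_b_rc_6_1 lc_b_rc_9_2 lc_b_rc_26_5 lc_b_rc_8_2 lc_b_rc_9_2 lc_b_rc_8_2 lc_b_rc_10_2 lc_b_rc_6_1 lc_b_rc_6_1 lc_b_rc_9_2 lc_b_rc_9_2 lc_b_rc_8_2 lc_b_Cert_tree lc_b_rc_8_2 lc_b_rc_10_2 lc_b_rc_6_1 lc_b_Cert_tree lc_b_rc_7_0 lc_b_rc_6_1 lc_b_rc_1_5 lc_b_rc_26_5 lc_b_rc_8_2 lc_b_rc_6_1 lc_b_rc_8_2 lc_b_rc_9_2 lc_b_rc_6_1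 lc_b_rc_8_2 lc_b_rc_1_3 lc_b_rc_7_2 lc_b_rc_6_1 lc_b_rc_9_0 lc_b_rc_7_2 lc_b_rc_6_1 lc_b_rc_7_0 lc_b_rc_8_2 lc_b_Cert_tree lc_b_rc_1_3 lc_b_rc_1_3 lc_b_rc_8_2 lc_b_rc_9_2 lc_b_Cert_tree lc_b_rc_8_2 lc_b_rc_10_2 lc_b_rc_8_2 lc_b_rc_6_1 lc_b_rc_8_2 lc_b_rc_9_2) (@D3.rec (fun _ => (Cert rels S Gen.b)) lc_b_rc_6_1 lc_b_Cert_tree lc_b_rc_9_2 lc_b_rc_6_1 lc_b_rc_26_5 lc_b_rc_8_2 lc_b_rc_26_5 lc_b_rc_25_12 lc_b_rc_26_1 lc_b_rc_7_4 lc_b_rc_9_2 lc_b_Cert_tree lc_b_rc_8_2 lc_b_rc_10_2 lc_b_rc_6_1 lc_b_rc_25_16 lc_b_rc_6_1 lc_b_rc_7_4 lc_b_rc_26_5 lc_b_rc_9_0 lc_b_rc_10_0 lc_b_rc_10_2 lc_b_rc_6_1 lc_b_rc_8_2 lc_b_rc_6_1 lc_b_rc_26_5 lc_b_rc_8_2 lc_b_Cert_tree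 lc_b_rc_10_2 lc_b_rc_6_1 lc_b_rc_8_2 lc_b_Cert_tree lc_b_rc_6_1 lc_b_rc_8_2 lc_b_rc_26_1 lc_b_rc_8_2 lc_b_rc_6_1 lc_b_rc_1_3 lc_b_rc_1_1 lc_b_rc_8_2 lc_b_Cert_tree lc_b_rc_7_4 lc_b_rc_9_2 lc_b_rc_8_0 lc_b_rc_25_4 lc_b_rc_10_2 lc_b_rc_26_1 lc_b_rc_8_2 lc_b_rc_6_1 lc_b_rc_6_1 lc_b_rc_7_2 lc_b_rc_6_1 lc_b_rc_6_1 lc_b_rc_26_7 lc_b_rc_1_5 lc_b_rc_1_5 lc_b_rc_6_1 lc_b_rc_26_5 lc_b_rc_7_4 lc_b_rc_6_1 lc_b_rc_8_2 lc_b_rc_10_2) (@D3.rec (fun _ => (Cert rels S Gen.b)) lc_b_Cert_tree lc_b_rc_7_4 lc_b_rc_10_2 lc_b_rc_6_1 lc_b_Cert_tree lc_b_rc_6_1 lc_b_rc_6_1 lc_b_rc_26_5 lc_b_rc_8_2 lc_b_rc_8_0 lc_b_rc_8_2 lc_b_rc_8_0 lc_b_rc_6_1 lc_b_rc_7_4 lc_b_rc_10_2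 lc_b_rc_6_1 lc_b_rc_8_2 lc_b_rc_26_5 lc_b_rc_8_2 lc_b_rc_9_2 lc_b_rc_6_1 lc_b_rc_9_2 lc_b_rc_1_5 lc_b_rc_1_3 lc_b_rc_7_4 lc_b_rc_9_2 lc_b_rc_8_2 lc_b_rc_8_2 lc_b_rc_8_2 lc_b_rc_10_2 lc_b_rc_9_2 lc_b_rc_26_1 lc_b_rc_26_7 lc_b_rc_10_0 lc_b_rc_8_2 lc_b_rc_9_2 lc_b_rc_8_2 lc_b_rc_9_2 lc_b_rc_26_5 lc_b_rc_9_2 lc_b_rc_26_1 lc_b_rc_8_2 lc_b_rc_10_2 lc_b_Cert_tree lc_b_rc_1_3 lc_b_rc_26_1 lc_b_rc_6_1 lc_b_rc_25_4 lc_b_rc_9_2 lc_b_rc_1_1 lc_b_rc_8_2 lc_b_rc_9_2 lc_b_rc_8_0 lc_b_rc_10_2 lc_b_rc_25_0 lc_b_rc_25_4 lc_b_rc_8_2 lc_b_rc_25_16 lc_b_rc_6_1 lc_b_rc_26_5 lc_b_rc_10_2 lc_b_rc_1_3) (@D3.rec (fun _ => (Cert rels S Gen.b)) lc_b_rc_7_2 lc_b_rc_9_2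 lc_b_rc_9_0 lc_b_rc_8_2 lc_b_rc_1_5 lc_b_rc_6_1 lc_b_rc_8_2 lc_b_rc_10_2 lc_b_rc_6_1 lc_b_rc_8_2 lc_b_rc_1_1 lc_b_rc_6_1 lc_b_rc_26_1 lc_b_rc_9_2 lc_b_rc_6_1 lc_b_rc_8_2 lc_b_rc_8_0 lc_b_rc_26_5 lc_b_rc_25_4 lc_b_rc_9_2 lc_b_rc_8_2 lc_b_rc_6_1 lc_b_rc_8_2 lc_b_rc_26_7 lc_b_rc_8_2 lc_b_rc_9_2 lc_b_rc_8_2 lc_b_rc_9_2 lc_b_rc_7_4 lc_b_rc_6_1 lc_b_rc_7_4 lc_b_rc_1_3 lc_b_rc_8_2 lc_b_rc_9_2 lc_b_rc_9_2 lc_b_rc_8_2 lc_b_Cert_tree lc_b_Cert_tree lc_b_rc_1_3 lc_b_rc_8_2 lc_b_rc_9_2 lc_b_rc_9_2 lc_b_rc_7_4 lc_b_rc_7_2 lc_b_rc_7_2 lc_b_rc_6_1 lc_b_rc_6_1 lc_b_rc_6_1 lc_b_rc_1_3 lc_b_rc_7_0 lc_b_rc_1_3 lc_b_rc_8_2 lc_b_rc_9_2 lc_b_rc_9_2 lc_b_Cert_tree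 lc_b_Cert_tree lc_b_rc_8_2 lc_b_rc_9_2 lc_b_Cert_tree lc_b_rc_7_4 lc_b_rc_6_1 lc_b_Cert_tree) (@D3.rec (fun _ => (Cert rels S Gen.b)) lc_b_rc_26_1 lc_b_rc_1_3 lc_b_rc_8_2 lc_b_rc_9_2 lc_b_rc_25_0 lc_b_Cert_tree lc_b_rc_1_1 lc_b_rc_26_1 lc_b_Cert_tree lc_b_rc_1_3 lc_b_rc_9_2 lc_b_rc_10_2 lc_b_Cert_tree lc_b_Cert_tree lc_b_rc_1_3 lc_b_rc_9_2 lc_b_rc_8_2 lc_b_rc_6_1 lc_b_rc_26_7 lc_b_rc_25_12 lc_b_rc_6_1 lc_b_rc_25_0 lc_b_rc_8_2 lc_b_Cert_tree lc_b_Cert_tree lc_b_rc_26_1 lc_b_rc_9_2 lc_b_rc_6_1 lc_b_rc_9_2 lc_b_rc_6_1 lc_b_rc_9_2 lc_b_Cert_tree lc_b_Cert_tree lc_b_rc_9_2 lc_b_rc_10_2 lc_b_rc_6_1 lc_b_rc_8_2 lc_b_rc_6_1 lc_b_rc_10_2 lc_b_rc_7_4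 lc_b_Cert_tree lc_b_rc_6_1 lc_b_rc_26_1 lc_b_rc_7_2 lc_b_rc_6_1 lc_b_rc_8_2 lc_b_rc_9_2 lc_b_rc_6_1 lc_b_rc_8_2 lc_b_rc_9_2 lc_b_rc_7_2 lc_b_rc_25_4 lc_b_rc_1_3 lc_b_rc_9_2 lc_b_rc_26_5 lc_b_rc_7_4 lc_b_rc_8_2 lc_b_rc_6_1 lc_b_Cert_tree lc_b_rc_6_1 lc_b_rc_9_2 lc_b_rc_6_1) (@D3.rec (fun _ => (Cert rels S Gen.b)) lc_b_rc_6_1 lc_b_rc_25_8 lc_b_rc_1_5 lc_b_rc_1_3 lc_b_rc_9_0 lc_b_Cert_tree lc_b_rc_10_2 lc_b_rc_6_1 lc_b_rc_8_2 lc_b_rc_6_1 lc_b_rc_6_1 lc_b_rc_26_1 lc_b_rc_9_2 lc_b_rc_6_1 lc_b_rc_26_5 lc_b_rc_26_7 lc_b_rc_9_2 lc_b_Cert_tree lc_b_rc_26_1 lc_b_rc_6_1 lc_b_rc_8_2 lc_b_rc_9_2 lc_b_rc_9_0 lc_b_rc_10_2 lc_b_rc_7_2 lc_b_rc_6_1 lc_b_rc_26_5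 lc_b_rc_9_2 lc_b_rc_10_0 lc_b_rc_9_2 lc_b_rc_8_0 lc_b_rc_1_3 lc_b_rc_9_2 lc_b_rc_6_1 lc_b_rc_26_5 lc_b_rc_6_1 lc_b_rc_10_2 lc_b_rc_6_1 lc_b_Cert_tree lc_b_rc_6_1 lc_b_Cert_tree lc_b_rc_6_1 lc_b_rc_6_1 lc_b_rc_1_3 lc_b_rc_6_1 lc_b_rc_1_3 lc_b_rc_9_2 lc_b_rc_1_3 lc_b_rc_8_2 lc_b_rc_7_2 lc_b_rc_8_2 lc_b_rc_9_2 lc_b_rc_26_7 lc_b_Cert_tree lc_b_rc_8_2 lc_b_rc_10_2 lc_b_Cert_tree lc_b_rc_6_1 lc_b_Cert_tree lc_b_rc_9_2 lc_b_rc_8_2 lc_b_rc_8_2) (@D3.rec (fun _ => (Cert rels S Gen.b)) lc_b_rc_10_2 lc_b_rc_6_1 lc_b_rc_9_0 lc_b_rc_1_1 lc_b_rc_6_1 lc_b_rc_9_2 lc_b_rc_8_2 lc_b_rc_9_2 lc_b_rc_6_1 lc_b_rc_6_1 lc_b_rc_9_2 lc_b_Cert_tree lc_b_rc_8_2 lc_b_rc_10_2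 lc_b_Cert_tree lc_b_rc_8_0 lc_b_rc_8_2 lc_b_rc_10_2 lc_b_rc_6_1 lc_b_rc_8_2 lc_b_rc_8_2 lc_b_Cert_tree lc_b_rc_25_16 lc_b_rc_8_2 lc_b_rc_8_2 lc_b_rc_6_1 lc_b_rc_7_4 lc_b_rc_8_2 lc_b_rc_6_1 lc_b_Cert_tree lc_b_rc_26_5 lc_b_rc_25_12 lc_b_rc_6_1 lc_b_rc_8_2 lc_b_rc_8_2 lc_b_rc_6_1 lc_b_rc_7_4 lc_b_rc_9_2 lc_b_rc_26_5 lc_b_rc_1_3 lc_b_rc_10_2 lc_b_rc_9_2 lc_b_rc_6_1 lc_b_rc_7_2 lc_b_rc_1_5 lc_b_rc_10_2 lc_b_rc_6_1 lc_b_rc_25_4 lc_b_rc_6_1 lc_b_rc_26_1 lc_b_rc_10_2 lc_b_Cert_tree lc_b_rc_9_2 lc_b_rc_8_2 lc_b_rc_7_4 lc_b_Cert_tree lc_b_rc_7_0 lc_b_rc_6_1 lc_b_rc_26_5 lc_b_rc_1_3 lc_b_rc_8_2 lc_b_rc_9_2) (@D3.rec (fun _ => (Cert rels S Gen.b))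 lc_b_rc_26_1 lc_b_rc_7_2 lc_b_rc_7_4 lc_b_rc_10_0 lc_b_rc_9_2 lc_b_Cert_tree lc_b_rc_8_2 lc_b_rc_9_0 lc_b_rc_6_1 lc_b_rc_26_1 lc_b_rc_1_3 lc_b_rc_8_2 lc_b_rc_6_1 lc_b_rc_6_1 lc_b_rc_9_2 lc_b_rc_6_1 lc_b_rc_8_2 lc_b_rc_9_2 lc_b_rc_8_2 lc_b_rc_9_2 lc_b_Cert_tree lc_b_rc_7_4 lc_b_rc_8_2 lc_b_rc_10_2 lc_b_rc_25_16 lc_b_rc_6_1 lc_b_rc_8_2 lc_b_rc_10_2 lc_b_rc_6_1 lc_b_rc_8_2 lc_b_rc_6_1 lc_b_rc_8_2 lc_b_rc_9_2 lc_b_Cert_tree lc_b_rc_25_16 lc_b_rc_10_2 lc_b_rc_8_2 lc_b_Cert_tree lc_b_rc_6_1 lc_b_rc_8_2 lc_b_Cert_tree lc_b_rc_8_2 lc_b_rc_9_2 lc_b_rc_6_1 lc_b_rc_10_2 lc_b_rc_1_3 lc_b_rc_9_2 lc_b_rc_1_5 lc_b_rc_6_1 lc_b_rc_10_0 lc_b_rc_1_1 lc_b_rc_6_1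 lc_b_rc_26_1 lc_b_rc_6_1 lc_b_rc_6_1 lc_b_rc_1_3 lc_b_rc_10_2 lc_b_rc_7_4 lc_b_rc_8_2 lc_b_rc_9_2 lc_b_rc_6_1 lc_b_rc_26_5) (@D3.rec (fun _ => (Cert rels S Gen.b)) lc_b_rc_7_0 lc_b_rc_9_2 lc_b_rc_6_1 lc_b_rc_7_2 lc_b_rc_6_1 lc_b_rc_26_1 lc_b_rc_6_1 lc_b_rc_8_2 lc_b_Cert_tree lc_b_rc_8_2 lc_b_rc_6_1 lc_b_Cert_tree lc_b_rc_1_3 lc_b_rc_8_2 lc_b_rc_9_2 lc_b_rc_8_2 lc_b_rc_6_1 lc_b_rc_6_1 lc_b_rc_9_2 lc_b_rc_8_2 lc_b_rc_6_1 lc_b_rc_9_2 lc_b_rc_26_5 lc_b_rc_9_2 lc_b_rc_8_0 lc_b_rc_6_1 lc_b_rc_7_4 lc_b_Cert_tree lc_b_rc_6_1 lc_b_rc_7_4 lc_b_rc_6_1 lc_b_rc_8_2 lc_b_rc_25_12 lc_b_rc_6_1 lc_b_rc_8_2 lc_b_rc_9_2 lc_b_rc_9_2 lc_b_rc_9_0 lc_b_rc_6_1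 lc_b_rc_9_2 lc_b_rc_6_1 lc_b_rc_6_1 lc_b_rc_1_3 lc_b_rc_9_2 lc_b_rc_6_1 lc_b_rc_1_5 lc_b_rc_8_2 lc_b_rc_9_2 lc_b_rc_7_2 lc_b_rc_6_1 lc_b_rc_7_0 lc_b_rc_25_0 lc_b_rc_7_2 lc_b_rc_7_2 lc_b_rc_7_2 lc_b_rc_8_2 lc_b_rc_8_2 lc_b_rc_26_5 lc_b_rc_26_1 lc_b_rc_9_2 lc_b_rc_25_0 lc_b_rc_6_1) (@D3.rec (fun _ => (Cert rels S Gen.b)) lc_b_rc_7_4 lc_b_rc_9_2 lc_b_rc_9_0 lc_b_rc_9_0 lc_b_rc_8_2 lc_b_rc_10_2 lc_b_rc_8_2 lc_b_rc_6_1 lc_b_rc_26_5 lc_b_rc_8_2 lc_b_rc_6_1 lc_b_rc_6_1 lc_b_rc_26_5 lc_b_rc_8_2 lc_b_rc_7_2 lc_b_rc_6_1 lc_b_rc_7_4 lc_b_rc_10_2 lc_b_rc_6_1 lc_b_rc_6_1 lc_b_rc_26_7 lc_b_rc_1_5 lc_b_rc_26_1 lc_b_rc_9_2 lc_b_rc_26_5 lc_b_Cert_tree lc_b_rc_8_2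 lc_b_rc_6_1 lc_b_rc_6_1 lc_b_rc_1_1 lc_b_rc_9_2 lc_b_rc_8_2 lc_b_rc_6_1 lc_b_rc_8_2 lc_b_rc_6_1 lc_b_rc_6_1 lc_b_rc_8_2 lc_b_rc_6_1 lc_b_rc_8_2 lc_b_rc_8_2 lc_b_rc_9_2 lc_b_rc_8_2 lc_b_rc_9_2 lc_b_rc_9_0 lc_b_rc_7_0 lc_b_rc_8_2 lc_b_rc_26_1 lc_b_rc_9_2 lc_b_rc_6_1 lc_b_rc_9_0 lc_b_rc_26_1 lc_b_Cert_tree lc_b_rc_10_2 lc_b_rc_9_2 lc_b_rc_6_1 lc_b_rc_6_1 lc_b_rc_9_2 lc_b_rc_6_1 lc_b_Cert_tree lc_b_rc_6_1 lc_b_rc_8_2 lc_b_rc_9_2) (@D3.rec (fun _ => (Cert rels S Gen.b)) lc_b_rc_10_2 lc_b_rc_8_2 lc_b_rc_8_0 lc_b_rc_9_0 lc_b_rc_6_1 lc_b_rc_7_4 lc_b_rc_25_0 lc_b_rc_6_1 lc_b_rc_26_7 lc_b_rc_8_2 lc_b_rc_9_2 lc_b_rc_1_1 lc_b_rc_8_2 lc_b_rc_9_2 lc_b_rc_8_2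 lc_b_rc_6_1 lc_b_rc_8_2 lc_b_rc_10_0 lc_b_rc_9_2 lc_b_rc_6_1 lc_b_rc_8_2 lc_b_rc_9_2 lc_b_rc_26_5 lc_b_rc_9_2 lc_b_rc_9_0 lc_b_rc_8_0 lc_b_rc_8_2 lc_b_rc_10_2 lc_b_rc_8_2 lc_b_rc_9_2 lc_b_rc_8_0 lc_b_rc_8_2 lc_b_rc_9_0 lc_b_rc_26_5 lc_b_rc_10_2 lc_b_rc_25_4 lc_b_rc_7_4 lc_b_rc_9_2 lc_b_rc_6_1 lc_b_rc_9_2 lc_b_rc_26_5 lc_b_rc_6_1 lc_b_rc_8_2 lc_b_rc_10_2 lc_b_rc_1_3 lc_b_rc_1_5 lc_b_rc_8_2 lc_b_rc_6_1 lc_b_rc_9_0 lc_b_rc_7_0 lc_b_rc_26_5 lc_b_rc_9_2 lc_b_rc_6_1 lc_b_rc_26_1 lc_b_rc_8_2 lc_b_rc_10_2 lc_b_rc_8_2 lc_b_rc_6_1 lc_b_rc_9_2 lc_b_rc_1_5 lc_b_rc_26_5 lc_b_rc_26_5) (@D3.rec (fun _ => (Cert rels S Gen.b)) lc_b_rc_6_1 lc_b_rc_10_2 lc_b_rc_6_1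 lc_b_rc_6_1 lc_b_rc_10_0 lc_b_rc_7_4 lc_b_rc_26_5 lc_b_rc_6_1 lc_b_rc_26_5 lc_b_rc_6_1 lc_b_rc_9_2 lc_b_rc_1_1 lc_b_rc_6_1 lc_b_rc_9_2 lc_b_rc_6_1 lc_b_rc_9_0 lc_b_rc_10_2 lc_b_rc_6_1 lc_b_rc_10_0 lc_b_Cert_tree lc_b_rc_6_1 lc_b_rc_6_1 lc_b_rc_26_1 lc_b_rc_8_2 lc_b_rc_9_2 lc_b_rc_26_5 lc_b_rc_8_2 lc_b_rc_10_2 lc_b_rc_8_2 lc_b_rc_9_0 lc_b_rc_6_1 lc_b_rc_6_1 lc_b_rc_6_1 lc_b_rc_8_2 lc_b_rc_7_4 lc_b_rc_7_4 lc_b_rc_8_2 lc_b_rc_8_0 lc_b_rc_6_1 lc_b_rc_10_2 lc_b_rc_9_2 lc_b_rc_9_0 lc_b_rc_7_2 lc_b_rc_10_2 lc_b_rc_7_4 lc_b_rc_9_2 lc_b_rc_7_4 lc_b_rc_9_2 lc_b_rc_6_1 lc_b_rc_8_2 lc_b_rc_8_2 lc_b_rc_10_2 lc_b_rc_1_5 lc_b_rc_9_0 lc_b_rc_8_2 lc_b_rc_10_2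 lc_b_rc_6_1 lc_b_rc_8_2 lc_b_rc_6_1 lc_b_rc_6_1 lc_b_rc_8_0 lc_b_rc_6_1) (@D3.rec (fun _ => (Cert rels S Gen.b)) lc_b_Cert_tree lc_b_rc_10_2 lc_b_rc_7_2 lc_b_rc_6_1 lc_b_rc_8_2 lc_b_rc_6_1 lc_b_rc_8_2 lc_b_rc_6_1 lc_b_rc_9_2 lc_b_rc_1_3 lc_b_rc_26_7 lc_b_rc_9_2 lc_b_rc_8_2 lc_b_rc_8_0 lc_b_rc_6_1 lc_b_rc_26_1 lc_b_rc_1_3 lc_b_rc_9_0 lc_b_rc_9_2 lc_b_rc_1_5 lc_b_rc_8_2 lc_b_rc_6_1 lc_b_rc_6_1 lc_b_rc_8_2 lc_b_rc_10_2 lc_b_Cert_tree lc_b_rc_6_1 lc_b_Cert_tree lc_b_rc_1_5 lc_b_rc_8_0 lc_b_rc_8_2 lc_b_rc_7_2 lc_b_rc_7_4 lc_b_rc_9_2 lc_b_rc_8_2 lc_b_rc_6_1 lc_b_rc_26_7 lc_b_rc_9_2 lc_b_rc_8_2 lc_b_rc_1_5 lc_b_rc_1_3 lc_b_rc_7_2 lc_b_rc_9_2 lc_b_rc_26_5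 lc_b_rc_8_2 lc_b_Cert_tree lc_b_rc_8_2 lc_b_rc_8_2 lc_b_rc_10_0 lc_b_Cert_tree lc_b_rc_8_2 lc_b_rc_8_2 lc_b_rc_10_2 lc_b_rc_6_1 lc_b_rc_26_5 lc_b_rc_1_3 lc_b_rc_26_5 lc_b_rc_8_0 lc_b_rc_6_1 lc_b_rc_1_3 lc_b_Cert_tree lc_b_rc_9_2) (@D3.rec (fun _ => (Cert rels S Gen.b)) lc_b_Cert_tree lc_b_Cert_tree lc_b_rc_1_3 lc_b_rc_8_2 lc_b_rc_7_2 lc_b_rc_6_1 lc_b_rc_8_2 lc_b_rc_9_2 lc_b_rc_1_3 lc_b_rc_6_1 lc_b_Cert_tree lc_b_rc_7_4 lc_b_rc_9_2 lc_b_rc_10_0 lc_b_Cert_tree lc_b_rc_8_2 lc_b_Cert_tree lc_b_Cert_tree lc_b_rc_8_2 lc_b_rc_7_4 lc_b_rc_6_1 lc_b_rc_8_2 lc_b_Cert_tree lc_b_Cert_tree lc_b_rc_9_0 lc_b_rc_9_0 lc_b_rc_6_1 lc_b_rc_8_2 lc_b_rc_9_2 lc_b_rc_6_1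 lc_b_rc_8_2 lc_b_rc_6_1 lc_b_Cert_tree lc_b_rc_1_3 lc_b_rc_6_1 lc_b_rc_26_7 lc_b_rc_25_0 lc_b_rc_8_2 lc_b_rc_7_2 lc_b_rc_9_2 lc_b_rc_9_2 lc_b_rc_10_2 lc_b_rc_26_5 lc_b_rc_26_5 lc_b_rc_6_1 lc_b_rc_7_2 lc_b_rc_8_2 lc_b_rc_8_0 lc_b_rc_10_2 lc_b_rc_7_4 lc_b_rc_9_2 lc_b_rc_6_1 lc_b_rc_26_5 lc_b_rc_9_2 lc_b_rc_6_1 lc_b_Cert_tree lc_b_rc_9_2 lc_b_Cert_tree lc_b_Cert_tree lc_b_rc_9_2 lc_b_rc_6_1 lc_b_rc_26_5) (@D3.rec (fun _ => (Cert rels S Gen.b)) lc_b_rc_6_1 lc_b_rc_9_2 lc_b_rc_6_1 lc_b_rc_6_1 lc_b_rc_9_2 lc_b_rc_26_5 lc_b_rc_26_5 lc_b_rc_10_2 lc_b_rc_1_3 lc_b_rc_9_2 lc_b_rc_8_0 lc_b_rc_6_1 lc_b_rc_1_3 lc_b_rc_8_2 lc_b_rc_9_2 lc_b_Cert_tree lc_b_rc_10_2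 lc_b_rc_8_2 lc_b_rc_10_2 lc_b_rc_26_7 lc_b_rc_6_1 lc_b_rc_7_2 lc_b_rc_8_2 lc_b_rc_9_2 lc_b_rc_9_2 lc_b_rc_1_5 lc_b_rc_9_2 lc_b_rc_8_2 lc_b_rc_10_2 lc_b_rc_9_2 lc_b_rc_6_1 lc_b_rc_9_2 lc_b_rc_8_2 lc_b_rc_9_2 lc_b_rc_6_1 lc_b_rc_6_1 lc_b_Cert_tree lc_b_rc_8_2 lc_b_rc_8_0 lc_b_rc_8_2 lc_b_rc_9_2 lc_b_Cert_tree lc_b_Cert_tree lc_b_rc_9_2 lc_b_rc_26_1 lc_b_rc_1_1 lc_b_Cert_tree lc_b_rc_9_2 lc_b_rc_6_1 lc_b_rc_9_2 lc_b_rc_1_5 lc_b_rc_7_0 lc_b_rc_7_0 lc_b_rc_8_2 lc_b_rc_8_2 lc_b_rc_7_2 lc_b_rc_7_4 lc_b_rc_8_0 lc_b_rc_8_2 lc_b_rc_6_1 lc_b_Cert_tree lc_b_rc_26_5) (@D3.rec (fun _ => (Cert rels S Gen.b)) lc_b_rc_7_0 lc_b_rc_6_1 lc_b_rc_6_1 lc_b_rc_6_1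 lc_b_rc_10_0 lc_b_Cert_tree lc_b_rc_9_2 lc_b_Cert_tree lc_b_rc_8_2 lc_b_rc_26_5 lc_b_rc_7_2 lc_b_rc_1_3 lc_b_rc_7_4 lc_b_rc_26_5 lc_b_rc_10_2 lc_b_rc_26_1 lc_b_rc_6_1 lc_b_rc_7_4 lc_b_rc_9_2 lc_b_Cert_tree lc_b_rc_9_2 lc_b_rc_6_1 lc_b_rc_8_2 lc_b_rc_8_0 lc_b_rc_8_0 lc_b_Cert_tree lc_b_rc_8_2 lc_b_rc_10_2 lc_b_rc_25_4 lc_b_rc_8_0 lc_b_rc_10_2 lc_b_rc_9_2 lc_b_Cert_tree lc_b_rc_6_1 lc_b_rc_8_2 lc_b_rc_7_4 lc_b_rc_6_1 lc_b_rc_26_7 lc_b_rc_8_2 lc_b_rc_9_2 lc_b_rc_6_1 lc_b_Cert_tree lc_b_rc_6_1 lc_b_rc_8_2 lc_b_rc_10_2 lc_b_rc_10_2 lc_b_rc_9_0 lc_b_rc_6_1 lc_b_rc_10_0 lc_b_Cert_tree lc_b_rc_9_2 lc_b_rc_1_5 lc_b_rc_26_5 lc_b_rc_9_2 lc_b_rc_7_2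 lc_b_rc_8_2 lc_b_rc_7_2 lc_b_rc_9_2 lc_b_Cert_tree lc_b_rc_9_2 lc_b_rc_6_1 lc_b_rc_26_5) (@D3.rec (fun _ => (Cert rels S Gen.b)) lc_b_rc_9_2 lc_b_rc_10_2 lc_b_rc_1_5 lc_b_rc_1_1 lc_b_rc_10_2 lc_b_rc_8_0 lc_b_rc_8_0 lc_b_rc_10_2 lc_b_rc_25_0 lc_b_rc_9_2 lc_b_rc_1_5 lc_b_rc_9_2 lc_b_rc_6_1 lc_b_rc_8_2 lc_b_rc_26_5 lc_b_rc_6_1 lc_b_rc_9_2 lc_b_rc_9_2 lc_b_rc_9_2 lc_b_rc_9_0 lc_b_rc_26_7 lc_b_rc_9_2 lc_b_rc_8_2 lc_b_rc_1_5 lc_b_rc_9_2 lc_b_Cert_tree lc_b_rc_10_2 lc_b_rc_8_2 lc_b_rc_9_2 lc_b_rc_6_1 lc_b_rc_8_0 lc_b_rc_26_5 lc_b_rc_7_0 lc_b_rc_10_2 lc_b_rc_6_1 lc_b_rc_9_2 lc_b_rc_26_1 lc_b_rc_6_1 lc_b_rc_9_0 lc_b_rc_7_2 lc_b_rc_6_1 lc_b_rc_8_2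 lc_b_rc_9_2 lc_b_rc_26_7 lc_b_rc_6_1 lc_b_rc_7_4 lc_b_rc_7_2 lc_b_rc_6_1 lc_b_rc_9_2 lc_b_rc_26_5 lc_b_rc_25_12 lc_b_rc_9_2 lc_b_rc_8_2 lc_b_rc_25_0 lc_b_rc_9_2 lc_b_Cert_tree lc_b_rc_6_1 lc_b_rc_9_2 lc_b_rc_6_1 lc_b_rc_8_2 lc_b_rc_1_3 lc_b_rc_8_2) (@D3.rec (fun _ => (Cert rels S Gen.b)) lc_b_rc_26_1 lc_b_rc_1_1 lc_b_rc_8_2 lc_b_rc_9_2 lc_b_rc_6_1 lc_b_rc_26_5 lc_b_rc_8_2 lc_b_rc_7_2 lc_b_rc_8_2 lc_b_rc_9_0 lc_b_rc_10_2 lc_b_Cert_tree lc_b_rc_6_1 lc_b_rc_10_0 lc_b_rc_26_1 lc_b_rc_9_2 lc_b_rc_8_2 lc_b_rc_8_2 lc_b_rc_10_2 lc_b_rc_9_2 lc_b_rc_6_1 lc_b_rc_8_0 lc_b_rc_8_2 lc_b_rc_1_3 lc_b_rc_26_5 lc_b_rc_6_1 lc_b_rc_9_2 lc_b_rc_8_2 lc_b_rc_8_0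 lc_b_rc_25_8 lc_b_rc_9_2 lc_b_rc_6_1 lc_b_rc_9_2 lc_b_Cert_tree lc_b_Cert_tree lc_b_rc_6_1 lc_b_rc_9_2 lc_b_rc_26_5 lc_b_rc_10_2 lc_b_Cert_tree lc_b_rc_7_2 lc_b_rc_1_3 lc_b_rc_8_2 lc_b_rc_6_1 lc_b_rc_7_2 lc_b_rc_8_2 lc_b_rc_9_2 lc_b_rc_10_2 lc_b_rc_6_1 lc_b_rc_26_1 lc_b_rc_1_3 lc_b_rc_8_2 lc_b_rc_9_2 lc_b_rc_7_2 lc_b_rc_10_2 lc_b_rc_8_2 lc_b_rc_10_2 lc_b_rc_9_2 lc_b_rc_6_1 lc_b_rc_8_0 lc_b_rc_1_3 lc_b_rc_8_2) (@D3.rec (fun _ => (Cert rels S Gen.b)) lc_b_rc_9_2 lc_b_rc_9_2 lc_b_rc_10_2 lc_b_rc_10_2 lc_b_rc_10_2 lc_b_Cert_tree lc_b_rc_6_1 lc_b_Cert_tree lc_b_rc_9_2 lc_b_rc_10_2 lc_b_rc_6_1 lc_b_rc_26_5 lc_b_rc_8_2 lc_b_rc_9_2 lc_b_rc_8_2 lc_b_rc_26_1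 lc_b_rc_7_4 lc_b_rc_9_2 lc_b_rc_9_2 lc_b_rc_6_1 lc_b_rc_7_4 lc_b_rc_8_2 lc_b_rc_8_2 lc_b_rc_6_1 lc_b_rc_9_0 lc_b_rc_1_3 lc_b_rc_9_2 lc_b_rc_8_2 lc_b_rc_1_5 lc_b_rc_1_1 lc_b_rc_8_2 lc_b_rc_26_7 lc_b_rc_9_2 lc_b_rc_6_1 lc_b_Cert_tree lc_b_rc_25_4 lc_b_rc_9_0 lc_b_rc_1_3 lc_b_rc_9_2 lc_b_rc_25_0 lc_b_rc_1_3 lc_b_rc_9_2 lc_b_Cert_tree lc_b_rc_6_1 lc_b_rc_26_5 lc_b_rc_10_2 lc_b_rc_6_1 lc_b_Cert_tree lc_b_rc_8_2 lc_b_rc_6_1 lc_b_rc_6_1 lc_b_rc_6_1 lc_b_rc_9_2 lc_b_rc_6_1 lc_b_rc_6_1 lc_b_Cert_tree lc_b_rc_1_3 lc_b_rc_8_2 lc_b_rc_9_2 lc_b_rc_9_2 lc_b_rc_26_1 lc_b_rc_9_2) (@D3.rec (fun _ => (Cert rels S Gen.b)) lc_b_rc_6_1 lc_b_Cert_tree lc_b_rc_10_2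 lc_b_rc_9_2 lc_b_rc_8_2 lc_b_rc_26_7 lc_b_rc_10_0 lc_b_rc_7_0 lc_b_rc_6_1 lc_b_rc_10_2 lc_b_rc_8_2 lc_b_rc_26_5 lc_b_rc_6_1 lc_b_rc_8_2 lc_b_rc_9_2 lc_b_rc_8_2 lc_b_rc_8_2 lc_b_rc_9_2 lc_b_rc_6_1 lc_b_rc_10_2 lc_b_rc_9_2 lc_b_rc_6_1 lc_b_rc_9_2 lc_b_rc_6_1 lc_b_rc_6_1 lc_b_rc_6_1 lc_b_rc_8_2 lc_b_rc_9_2 lc_b_Cert_tree lc_b_rc_6_1 lc_b_rc_8_2 lc_b_rc_10_2 lc_b_rc_1_3 lc_b_rc_7_0 lc_b_rc_1_3 lc_b_rc_8_2 lc_b_rc_9_2 lc_b_rc_6_1 lc_b_rc_7_2 lc_b_rc_9_2 lc_b_rc_8_2 lc_b_rc_6_1 lc_b_rc_26_1 lc_b_rc_9_2 lc_b_rc_6_1 lc_b_rc_26_5 lc_b_rc_9_2 lc_b_rc_7_2 lc_b_rc_9_2 lc_b_rc_6_1 lc_b_rc_8_2 lc_b_rc_10_2 lc_b_rc_6_1 lc_b_rc_8_2 lc_b_rc_7_4 lc_b_rc_10_2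 lc_b_rc_6_1 lc_b_rc_8_2 lc_b_rc_9_2 lc_b_rc_8_2 lc_b_Cert_tree lc_b_rc_25_16) (@D3.rec (fun _ => (Cert rels S Gen.b)) lc_b_Cert_tree lc_b_rc_10_2 lc_b_rc_6_1 lc_b_rc_8_2 lc_b_rc_8_2 lc_b_rc_6_1 lc_b_rc_7_2 lc_b_rc_1_3 lc_b_rc_8_2 lc_b_rc_9_2 lc_b_rc_9_2 lc_b_rc_26_7 lc_b_rc_8_2 lc_b_rc_6_1 lc_b_rc_10_2 lc_b_rc_6_1 lc_b_rc_7_2 lc_b_rc_25_4 lc_b_rc_9_2 lc_b_rc_6_1 lc_b_rc_8_2 lc_b_rc_6_1 lc_b_rc_9_2 lc_b_Cert_tree lc_b_rc_9_0 lc_b_rc_8_2 lc_b_rc_10_2 lc_b_rc_9_0 lc_b_rc_10_2 lc_b_rc_6_1 lc_b_rc_8_2 lc_b_rc_26_7 lc_b_rc_6_1 lc_b_Cert_tree lc_b_rc_9_2 lc_b_Cert_tree lc_b_rc_10_2 lc_b_rc_6_1 lc_b_rc_7_4 lc_b_rc_26_5 lc_b_rc_9_2 lc_b_rc_6_1 lc_b_rc_26_5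 lc_b_rc_9_0 lc_b_rc_8_2 lc_b_rc_6_1 lc_b_rc_26_5 lc_b_rc_7_0 lc_b_rc_9_0 lc_b_rc_6_1 lc_b_rc_8_2 lc_b_rc_10_2 lc_b_rc_6_1 lc_b_rc_9_2 lc_b_Cert_tree lc_b_rc_7_4 lc_b_Cert_tree lc_b_rc_1_3 lc_b_Cert_tree lc_b_rc_10_2 lc_b_rc_6_1 lc_b_rc_6_1) (@D3.rec (fun _ => (Cert rels S Gen.b)) lc_b_rc_6_1 lc_b_rc_6_1 lc_b_rc_9_2 lc_b_rc_8_2 lc_b_rc_9_2 lc_b_rc_1_5 lc_b_rc_6_1 lc_b_rc_7_4 lc_b_rc_9_2 lc_b_Cert_tree lc_b_rc_8_2 lc_b_rc_10_2 lc_b_Cert_tree lc_b_rc_7_0 lc_b_rc_26_5 lc_b_Cert_tree lc_b_rc_7_2 lc_b_rc_1_5 lc_b_rc_9_2 lc_b_rc_8_2 lc_b_rc_9_2 lc_b_rc_1_1 lc_b_rc_7_4 lc_b_rc_9_2 lc_b_rc_8_2 lc_b_rc_26_5 lc_b_rc_8_2 lc_b_rc_10_2 lc_b_rc_26_7 lc_b_rc_9_2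 lc_b_rc_25_12 lc_b_rc_9_2 lc_b_rc_6_1 lc_b_rc_25_12 lc_b_rc_9_2 lc_b_rc_26_5 lc_b_rc_6_1 lc_b_rc_6_1 lc_b_rc_8_2 lc_b_rc_1_5 lc_b_rc_7_4 lc_b_rc_9_0 lc_b_Cert_tree lc_b_rc_10_2 lc_b_Cert_tree lc_b_rc_8_2 lc_b_rc_1_3 lc_b_rc_10_2 lc_b_rc_7_4 lc_b_rc_9_2 lc_b_Cert_tree lc_b_rc_1_3 lc_b_rc_9_2 lc_b_rc_9_0 lc_b_rc_8_2 lc_b_rc_6_1 lc_b_rc_6_1 lc_b_rc_6_1 lc_b_rc_8_2 lc_b_rc_8_2 lc_b_rc_6_1 lc_b_rc_8_2) (@D3.rec (fun _ => (Cert rels S Gen.b)) lc_b_rc_9_2 lc_b_rc_6_1 lc_b_rc_26_1 lc_b_rc_9_0 lc_b_Cert_tree lc_b_Cert_tree lc_b_rc_6_1 lc_b_rc_7_4 lc_b_rc_26_5 lc_b_rc_10_2 lc_b_rc_8_2 lc_b_rc_6_1 lc_b_rc_8_2 lc_b_Cert_tree lc_b_rc_7_2 lc_b_rc_1_1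 lc_b_rc_9_2 lc_b_rc_26_1 lc_b_rc_6_1 lc_b_rc_8_2 lc_b_rc_1_5 lc_b_rc_8_2 lc_b_rc_6_1 lc_b_rc_8_2 lc_b_Cert_tree lc_b_rc_6_1 lc_b_rc_26_1 lc_b_rc_9_2 lc_b_Cert_tree lc_b_rc_7_2 lc_b_rc_1_1 lc_b_rc_9_2 lc_b_rc_7_0 lc_b_rc_8_0 lc_b_rc_9_0 lc_b_rc_8_2 lc_b_rc_10_2 lc_b_rc_6_1 lc_b_rc_26_5 lc_b_rc_6_1 lc_b_Cert_tree lc_b_Cert_tree lc_b_rc_9_2 lc_b_rc_6_1 lc_b_rc_26_5 lc_b_rc_6_1 lc_b_rc_26_1 lc_b_rc_8_2 lc_b_rc_26_1 lc_b_rc_1_3 lc_b_rc_7_0 lc_b_rc_9_0 lc_b_rc_10_2 lc_b_rc_6_1 lc_b_rc_7_2 lc_b_rc_6_1 lc_b_rc_6_1 lc_b_rc_26_5 lc_b_rc_8_2 lc_b_rc_9_2 lc_b_rc_6_1 lc_b_rc_9_0) (@D3.rec (fun _ => (Cert rels S Gen.b)) lc_b_rc_8_2 lc_b_Cert_tree lc_b_rc_25_0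 lc_b_rc_10_2 lc_b_rc_25_4 lc_b_rc_9_2 lc_b_rc_9_2 lc_b_rc_7_2 lc_b_rc_6_1 lc_b_rc_26_7 lc_b_rc_26_7 lc_b_rc_9_2 lc_b_rc_7_0 lc_b_rc_8_2 lc_b_rc_8_2 lc_b_rc_9_2 lc_b_rc_7_4 lc_b_rc_9_2 lc_b_Cert_tree lc_b_rc_6_1 lc_b_rc_10_2 lc_b_rc_26_1 lc_b_rc_9_2 lc_b_rc_8_2 lc_b_rc_26_5 lc_b_rc_6_1 lc_b_rc_8_2 lc_b_rc_26_5 lc_b_rc_9_2 lc_b_rc_1_5 lc_b_rc_7_0 lc_b_rc_6_1 lc_b_rc_9_0 lc_b_rc_1_1 lc_b_rc_10_2 lc_b_rc_8_2 lc_b_rc_6_1 lc_b_rc_9_2 lc_b_rc_6_1 lc_b_rc_8_2 lc_b_rc_26_5 lc_b_rc_8_0 lc_b_rc_7_0 lc_b_rc_9_0 lc_b_rc_6_1 lc_b_rc_6_1 lc_b_rc_6_1 lc_b_rc_9_2 lc_b_rc_9_2 lc_b_rc_6_1 lc_b_Cert_tree lc_b_rc_9_2 lc_b_rc_9_0 lc_b_rc_9_0 lc_b_rc_1_1 lc_b_rc_10_2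 lc_b_rc_1_5 lc_b_Cert_tree lc_b_rc_26_1 lc_b_rc_7_4 lc_b_rc_8_2 lc_b_rc_9_2) (@D3.rec (fun _ => (Cert rels S Gen.b)) lc_b_rc_8_2 lc_b_rc_9_0 lc_b_rc_6_1 lc_b_rc_6_1 lc_b_rc_26_5 lc_b_rc_8_2 lc_b_rc_9_2 lc_b_rc_9_2 lc_b_rc_8_2 lc_b_rc_6_1 lc_b_rc_8_2 lc_b_rc_1_1 lc_b_rc_8_2 lc_b_rc_9_2 lc_b_rc_8_2 lc_b_rc_6_1 lc_b_rc_1_5 lc_b_rc_7_4 lc_b_rc_9_2 lc_b_rc_6_1 lc_b_rc_9_2 lc_b_rc_6_1 lc_b_rc_9_2 lc_b_rc_6_1 lc_b_rc_1_5 lc_b_rc_8_2 lc_b_rc_26_7 lc_b_rc_10_2 lc_b_Cert_tree lc_b_rc_1_3 lc_b_rc_10_0 lc_b_Cert_tree lc_b_rc_26_5 lc_b_rc_1_3 lc_b_rc_8_2 lc_b_rc_6_1 lc_b_Cert_tree lc_b_rc_1_3 lc_b_rc_8_2 lc_b_rc_9_2 lc_b_rc_10_2 lc_b_Cert_tree lc_b_rc_6_1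 lc_b_rc_26_1 lc_b_rc_1_3 lc_b_rc_8_2 lc_b_rc_9_2 lc_b_rc_8_2 lc_b_rc_7_4 lc_b_rc_1_3 lc_b_rc_8_2 lc_b_rc_9_2 lc_b_rc_10_2 lc_b_Cert_tree lc_b_rc_6_1 lc_b_Cert_tree lc_b_rc_7_2 lc_b_rc_9_2 lc_b_rc_1_1 lc_b_rc_6_1 lc_b_rc_26_5 lc_b_rc_8_2) (@D3.rec (fun _ => (Cert rels S Gen.b)) lc_b_rc_26_1 lc_b_rc_1_3 lc_b_rc_6_1 lc_b_Cert_tree lc_b_rc_7_2 lc_b_rc_9_2 lc_b_rc_10_2 lc_b_rc_9_2 lc_b_rc_6_1 lc_b_rc_6_1 lc_b_rc_9_2 lc_b_Cert_tree lc_b_rc_10_2 lc_b_rc_9_2 lc_b_rc_8_2 lc_b_rc_6_1 lc_b_rc_6_1 lc_b_rc_1_3 lc_b_rc_8_2 lc_b_rc_9_2 lc_b_rc_10_2 lc_b_rc_1_1 lc_b_rc_10_2 lc_b_rc_6_1 lc_b_rc_7_0 lc_b_rc_1_3 lc_b_rc_9_2 lc_b_rc_6_1 lc_b_rc_1_5 lc_b_rc_9_2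 lc_b_rc_1_1 lc_b_rc_10_2 lc_b_rc_6_1 lc_b_rc_26_1 lc_b_rc_1_3 lc_b_rc_9_2 lc_b_rc_8_2 lc_b_rc_8_2 lc_b_rc_26_5 lc_b_rc_10_2 lc_b_rc_9_2 lc_b_rc_8_0 lc_b_Cert_tree lc_b_rc_6_1 lc_b_rc_8_0 lc_b_rc_8_2 lc_b_rc_9_2 lc_b_rc_6_1 lc_b_rc_6_1 lc_b_rc_7_2 lc_b_rc_10_2 lc_b_rc_26_7 lc_b_Cert_tree lc_b_rc_6_1 lc_b_rc_9_2 lc_b_rc_26_5 lc_b_rc_6_1 lc_b_rc_8_2 lc_b_rc_6_1 lc_b_rc_8_2 lc_b_rc_6_1 lc_b_Cert_tree) (@D3.rec (fun _ => (Cert rels S Gen.b)) lc_b_rc_1_3 lc_b_rc_8_2 lc_b_rc_9_2 lc_b_rc_7_4 lc_b_rc_8_2 lc_b_rc_26_5 lc_b_rc_9_2 lc_b_Cert_tree lc_b_rc_9_0 lc_b_rc_9_0 lc_b_Cert_tree lc_b_rc_8_2 lc_b_rc_8_2 lc_b_rc_9_2 lc_b_rc_9_2 lc_b_rc_8_2 lc_b_rc_6_1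 lc_b_Cert_tree lc_b_rc_1_3 lc_b_rc_8_2 lc_b_rc_9_2 lc_b_rc_8_2 lc_b_rc_6_1 lc_b_Cert_tree lc_b_rc_10_0 lc_b_rc_9_2 lc_b_rc_6_1 lc_b_rc_26_5 lc_b_rc_8_2 lc_b_rc_1_5 lc_b_rc_8_2 lc_b_rc_1_3 lc_b_rc_26_5 lc_b_Cert_tree lc_b_rc_26_5 lc_b_rc_9_2 lc_b_rc_7_0 lc_b_rc_8_2 lc_b_rc_10_2 lc_b_Cert_tree lc_b_rc_6_1 lc_b_rc_6_1 lc_b_rc_9_2 lc_b_rc_6_1 lc_b_rc_26_5 lc_b_rc_26_1 lc_b_rc_10_2 lc_b_rc_9_2 lc_b_rc_8_2 lc_b_rc_6_1 lc_b_rc_10_2 lc_b_rc_6_1 lc_b_rc_10_2 lc_b_rc_8_2 lc_b_rc_7_2 lc_b_rc_6_1 lc_b_rc_6_1 lc_b_rc_10_0 lc_b_rc_1_3 lc_b_rc_1_1 lc_b_Cert_tree lc_b_Cert_tree) (@D3.rec (fun _ => (Cert rels S Gen.b)) lc_b_rc_7_4 lc_b_rc_9_2 lc_b_rc_9_2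 lc_b_rc_7_2 lc_b_rc_8_2 lc_b_rc_10_2 lc_b_rc_8_0 lc_b_Cert_tree lc_b_rc_6_1 lc_b_rc_6_1 lc_b_rc_6_1 lc_b_rc_9_2 lc_b_rc_25_4 lc_b_Cert_tree lc_b_rc_6_1 lc_b_Cert_tree lc_b_rc_1_3 lc_b_rc_6_1 lc_b_Cert_tree lc_b_rc_1_3 lc_b_rc_9_2 lc_b_rc_8_2 lc_b_rc_6_1 lc_b_rc_26_1 lc_b_rc_9_2 lc_b_rc_6_1 lc_b_rc_26_5 lc_b_rc_1_3 lc_b_rc_6_1 lc_b_Cert_tree lc_b_rc_26_5 lc_b_rc_6_1 lc_b_rc_9_2 lc_b_rc_6_1 lc_b_rc_9_2 lc_b_rc_6_1 lc_b_rc_9_2 lc_b_rc_6_1 lc_b_rc_8_2 lc_b_rc_6_1 lc_b_rc_8_2 lc_b_rc_6_1 lc_b_rc_7_2 lc_b_rc_1_3 lc_b_Cert_tree lc_b_rc_10_2 lc_b_rc_7_4 lc_b_rc_9_2 lc_b_Cert_tree lc_b_rc_8_0 lc_b_rc_10_2 lc_b_rc_6_1 lc_b_rc_6_1 lc_b_rc_6_1 lc_b_rc_10_0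 lc_b_rc_8_2 lc_b_rc_25_0 lc_b_rc_6_1 lc_b_rc_26_5 lc_b_rc_8_2 lc_b_rc_1_3 lc_b_rc_1_3) (@D3.rec (fun _ => (Cert rels S Gen.b)) lc_b_rc_26_1 lc_b_rc_26_1 lc_b_rc_9_0 lc_b_rc_6_1 lc_b_Cert_tree lc_b_rc_6_1 lc_b_rc_9_2 lc_b_rc_6_1 lc_b_rc_8_2 lc_b_rc_6_1 lc_b_rc_8_2 lc_b_rc_9_2 lc_b_rc_1_3 lc_b_rc_6_1 lc_b_rc_7_2 lc_b_rc_8_2 lc_b_rc_9_2 lc_b_rc_10_2 lc_b_rc_26_5 lc_b_Cert_tree lc_b_rc_10_2 lc_b_rc_10_0 lc_b_Cert_tree lc_b_Cert_tree lc_b_Cert_tree lc_b_Cert_tree lc_b_rc_7_0 lc_b_rc_6_1 lc_b_Cert_tree lc_b_rc_9_2 lc_b_rc_6_1 lc_b_Cert_tree lc_b_rc_7_2 lc_b_rc_6_1 lc_b_rc_6_1 lc_b_rc_8_2 lc_b_rc_1_3 lc_b_rc_8_0 lc_b_rc_10_2 lc_b_rc_9_2 lc_b_rc_8_2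 lc_b_rc_10_2 lc_b_rc_7_4 lc_b_rc_9_2 lc_b_rc_1_3 lc_b_rc_9_2 lc_b_Cert_tree lc_b_Cert_tree lc_b_rc_6_1 lc_b_rc_26_5 lc_b_rc_9_2 lc_b_rc_6_1 lc_b_rc_26_5 lc_b_rc_9_2 lc_b_Cert_tree lc_b_rc_8_2 lc_b_rc_6_1 lc_b_rc_8_2 lc_b_rc_6_1 lc_b_rc_26_1 lc_b_rc_26_5 lc_b_rc_8_2) (@D3.rec (fun _ => (Cert rels S Gen.b)) lc_b_Cert_tree lc_b_rc_6_1 lc_b_rc_7_4 lc_b_rc_7_2 lc_b_rc_8_2 lc_b_rc_6_1 lc_b_rc_8_2 lc_b_Cert_tree lc_b_rc_9_2 lc_b_rc_7_0 lc_b_rc_25_0 lc_b_rc_6_1 lc_b_rc_6_1 lc_b_rc_26_5 lc_b_rc_6_1 lc_b_rc_26_1 lc_b_rc_9_0 lc_b_Cert_tree lc_b_rc_10_0 lc_b_rc_10_2 lc_b_rc_8_2 lc_b_rc_6_1 lc_b_rc_10_2 lc_b_rc_9_2 lc_b_rc_9_2 lc_b_rc_9_0 lc_b_rc_6_1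 lc_b_rc_6_1 lc_b_Cert_tree lc_b_rc_8_0 lc_b_rc_6_1 lc_b_rc_8_2 lc_b_rc_6_1 lc_b_rc_9_2 lc_b_rc_6_1 lc_b_rc_6_1 lc_b_rc_6_1 lc_b_rc_26_7 lc_b_rc_10_2 lc_b_Cert_tree lc_b_rc_8_2 lc_b_rc_6_1 lc_b_rc_8_2 lc_b_rc_8_2 lc_b_rc_9_2 lc_b_rc_8_2 lc_b_rc_1_1 lc_b_rc_26_7 lc_b_rc_8_2 lc_b_rc_8_2 lc_b_rc_10_2 lc_b_rc_6_1 lc_b_rc_8_2 lc_b_rc_8_2 lc_b_rc_7_0 lc_b_Cert_tree lc_b_rc_26_7 lc_b_rc_25_8 lc_b_rc_8_0 lc_b_rc_8_2 lc_b_rc_10_2 lc_b_rc_9_2) (@D3.rec (fun _ => (Cert rels S Gen.b)) lc_b_rc_9_2 lc_b_rc_7_0 lc_b_rc_8_0 lc_b_rc_10_2 lc_b_rc_8_2 lc_b_rc_9_2 lc_b_rc_6_1 lc_b_rc_7_0 lc_b_rc_9_2 lc_b_rc_26_1 lc_b_rc_9_2 lc_b_rc_6_1 lc_b_rc_9_2 lc_b_rc_8_2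 lc_b_rc_10_2 lc_b_rc_8_2 lc_b_rc_9_2 lc_b_rc_7_4 lc_b_rc_6_1 lc_b_rc_6_1 lc_b_rc_9_2 lc_b_rc_7_0 lc_b_rc_8_2 lc_b_rc_26_1 lc_b_rc_26_5 lc_b_rc_6_1 lc_b_rc_8_2 lc_b_rc_9_2 lc_b_rc_8_0 lc_b_rc_6_1 lc_b_rc_7_4 lc_b_rc_6_1 lc_b_rc_8_2 lc_b_rc_26_5 lc_b_rc_10_2 lc_b_rc_8_0 lc_b_rc_9_2 lc_b_rc_8_2 lc_b_rc_9_2 lc_b_rc_1_1 lc_b_rc_6_1 lc_b_rc_10_2 lc_b_rc_6_1 lc_b_rc_8_2 lc_b_rc_10_0 lc_b_rc_9_2 lc_b_rc_8_0 lc_b_rc_7_2 lc_b_rc_9_2 lc_b_rc_26_5 lc_b_rc_8_2 lc_b_rc_6_1 lc_b_rc_26_1 lc_b_rc_8_2 lc_b_rc_9_2 lc_b_rc_9_2 lc_b_rc_6_1 lc_b_rc_6_1 lc_b_rc_6_1 lc_b_rc_1_1 lc_b_rc_8_2 lc_b_rc_9_2) (@D3.rec (fun _ => (Cert rels S Gen.b)) lc_b_rc_8_2 lc_b_rc_8_2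 lc_b_rc_6_1 lc_b_rc_7_4 lc_b_rc_8_2 lc_b_rc_10_2 lc_b_rc_7_2 lc_b_rc_8_2 lc_b_rc_26_5 lc_b_rc_7_4 lc_b_rc_1_3 lc_b_rc_9_2 lc_b_rc_10_0 lc_b_rc_9_2 lc_b_rc_9_2 lc_b_rc_8_2 lc_b_rc_8_2 lc_b_rc_9_2 lc_b_rc_8_2 lc_b_rc_1_3 lc_b_rc_9_2 lc_b_rc_8_2 lc_b_rc_10_2 lc_b_rc_8_0 lc_b_rc_8_2 lc_b_rc_9_2 lc_b_rc_6_1 lc_b_rc_9_2 lc_b_rc_6_1 lc_b_rc_9_2 lc_b_rc_9_2 lc_b_rc_6_1 lc_b_rc_26_7 lc_b_rc_6_1 lc_b_rc_26_5 lc_b_rc_9_0 lc_b_rc_10_2 lc_b_rc_1_3 lc_b_rc_6_1 lc_b_rc_9_2 lc_b_rc_6_1 lc_b_Cert_tree lc_b_rc_8_2 lc_b_rc_10_2 lc_b_rc_6_1 lc_b_rc_8_0 lc_b_rc_8_2 lc_b_rc_10_2 lc_b_rc_6_1 lc_b_rc_6_1 lc_b_rc_25_4 lc_b_Cert_tree lc_b_rc_26_5 lc_b_rc_10_2 lc_b_rc_7_4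 lc_b_rc_6_1 lc_b_rc_9_0 lc_b_rc_6_1 lc_b_rc_9_0 lc_b_rc_6_1 lc_b_rc_9_2 lc_b_rc_9_2) (@D3.rec (fun _ => (Cert rels S Gen.b)) lc_b_rc_6_1 lc_b_rc_26_5 lc_b_rc_10_2 lc_b_rc_9_2 lc_b_rc_9_0 lc_b_rc_7_4 lc_b_rc_9_2 lc_b_Cert_tree lc_b_rc_8_0 lc_b_rc_8_2 lc_b_rc_10_2 lc_b_rc_8_0 lc_b_rc_9_0 lc_b_rc_8_2 lc_b_rc_10_2 lc_b_rc_6_1 lc_b_rc_8_2 lc_b_rc_6_1 lc_b_rc_8_2 lc_b_Cert_tree lc_b_Cert_tree lc_b_rc_10_2 lc_b_rc_6_1 lc_b_rc_8_2 lc_b_rc_8_2 lc_b_rc_6_1 lc_b_rc_9_0 lc_b_rc_9_2 lc_b_rc_6_1 lc_b_rc_1_3 lc_b_rc_10_2 lc_b_rc_6_1 lc_b_rc_10_2 lc_b_rc_6_1 lc_b_rc_26_1 lc_b_rc_9_2 lc_b_rc_8_2 lc_b_Cert_tree lc_b_rc_6_1 lc_b_rc_10_2 lc_b_Cert_tree lc_b_rc_10_0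 lc_b_rc_9_0 lc_b_rc_7_4 lc_b_rc_8_2 lc_b_rc_6_1 lc_b_rc_26_5 lc_b_rc_26_5 lc_b_rc_9_2 lc_b_rc_26_7 lc_b_rc_9_2 lc_b_rc_8_2 lc_b_rc_7_2 lc_b_rc_9_2 lc_b_rc_8_0 lc_b_rc_9_0 lc_b_rc_8_2 lc_b_rc_10_2 lc_b_rc_9_0 lc_b_rc_26_5 lc_b_rc_7_4 lc_b_rc_8_2)
def ce_b_19 : D2 → D3 → (Cert rels S Gen.b) := @D2.rec (fun _ => D3 → (Cert rels S Gen.b)) (@D3.rec (fun _ => (Cert rels S Gen.b)) lc_b_rc_1_5 lc_b_Cert_tree lc_b_rc_10_2 lc_b_rc_1_3 lc_b_rc_9_2 lc_b_rc_1_1 lc_b_rc_8_2 lc_b_rc_25_0 lc_b_rc_8_0 lc_b_rc_26_7 lc_b_rc_7_2 lc_b_rc_9_2 lc_b_rc_8_2 lc_b_rc_8_2 lc_b_rc_10_2 lc_b_rc_9_2 lc_b_Cert_tree lc_b_rc_8_0 lc_b_rc_8_2 lc_b_rc_10_2 lc_b_rc_1_3 lc_b_rc_7_2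 lc_b_rc_9_0 lc_b_rc_8_2 lc_b_rc_10_2 lc_b_Cert_tree lc_b_Cert_tree lc_b_rc_8_2 lc_b_Cert_tree lc_b_rc_26_7 lc_b_rc_9_2 lc_b_rc_6_1 lc_b_rc_9_2 lc_b_rc_6_1 lc_b_Cert_tree lc_b_rc_8_2 lc_b_rc_6_1 lc_b_rc_26_7 lc_b_rc_9_2 lc_b_rc_6_1 lc_b_rc_26_1 lc_b_rc_9_2 lc_b_rc_9_0 lc_b_Cert_tree lc_b_Cert_tree lc_b_Cert_tree lc_b_Cert_tree lc_b_rc_1_5 lc_b_Cert_tree lc_b_rc_6_1 lc_b_rc_26_5 lc_b_rc_8_0 lc_b_rc_1_3 lc_b_rc_7_2 lc_b_rc_7_4 lc_b_rc_9_2 lc_b_rc_8_2 lc_b_rc_8_2 lc_b_rc_6_1 lc_b_rc_10_2 lc_b_rc_8_2 lc_b_rc_8_2) (@D3.rec (fun _ => (Cert rels S Gen.b)) lc_b_rc_8_0 lc_b_rc_8_2 lc_b_rc_6_1 lc_b_rc_9_0 lc_b_rc_9_2 lc_b_rc_26_5 lc_b_rc_6_1 lc_b_rc_6_1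 lc_b_Cert_tree lc_b_rc_8_2 lc_b_rc_10_2 lc_b_rc_9_2 lc_b_rc_9_0 lc_b_rc_6_1 lc_b_rc_8_2 lc_b_rc_9_2 lc_b_rc_7_4 lc_b_rc_9_2 lc_b_rc_8_2 lc_b_Cert_tree lc_b_rc_8_2 lc_b_rc_10_2 lc_b_rc_26_1 lc_b_rc_9_0 lc_b_rc_7_0 lc_b_rc_10_2 lc_b_rc_6_1 lc_b_rc_6_1 lc_b_rc_26_5 lc_b_rc_8_2 lc_b_rc_10_2 lc_b_rc_6_1 lc_b_rc_8_2 lc_b_rc_10_0 lc_b_rc_8_2 lc_b_rc_8_2 lc_b_rc_10_2 lc_b_rc_9_0 lc_b_rc_1_3 lc_b_rc_7_0 lc_b_rc_10_2 lc_b_Cert_tree lc_b_rc_10_2 lc_b_rc_8_0 lc_b_rc_9_2 lc_b_rc_9_2 lc_b_rc_7_0 lc_b_rc_8_2 lc_b_rc_8_0 lc_b_rc_7_0 lc_b_rc_1_1 lc_b_rc_9_0 lc_b_rc_9_0 lc_b_rc_9_2 lc_b_rc_1_1 lc_b_rc_10_2 lc_b_rc_9_2 lc_b_rc_10_2 lc_b_rc_7_4 lc_b_rc_6_1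 lc_b_rc_9_2 lc_b_rc_6_1) (@D3.rec (fun _ => (Cert rels S Gen.b)) lc_b_rc_7_4 lc_b_rc_8_2 lc_b_rc_1_1 lc_b_rc_8_2 lc_b_rc_10_2 lc_b_rc_9_2 lc_b_rc_8_2 lc_b_rc_9_2 lc_b_rc_9_2 lc_b_Cert_tree lc_b_rc_9_2 lc_b_rc_8_2 lc_b_rc_8_2 lc_b_rc_10_2 lc_b_rc_6_1 lc_b_rc_1_3 lc_b_rc_9_2 lc_b_rc_8_0 lc_b_rc_10_2 lc_b_rc_9_0 lc_b_rc_8_0 lc_b_rc_9_2 lc_b_Cert_tree lc_b_Cert_tree lc_b_rc_25_0 lc_b_rc_1_3 lc_b_rc_26_5 lc_b_rc_6_1 lc_b_Cert_tree lc_b_rc_9_2 lc_b_rc_8_0 lc_b_rc_6_1 lc_b_rc_7_4 lc_b_rc_26_5 lc_b_rc_9_2 lc_b_rc_8_2 lc_b_rc_8_0 lc_b_rc_26_1 lc_b_rc_1_3 lc_b_rc_8_2 lc_b_rc_9_2 lc_b_rc_6_1 lc_b_Cert_tree lc_b_Cert_tree lc_b_rc_8_2 lc_b_rc_26_1 lc_b_rc_9_2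 lc_b_rc_8_0 lc_b_rc_6_1 lc_b_rc_1_3 lc_b_rc_8_2 lc_b_rc_9_2 lc_b_rc_9_2 lc_b_rc_8_2 lc_b_rc_10_2 lc_b_rc_6_1 lc_b_rc_26_1 lc_b_rc_1_3 lc_b_rc_8_2 lc_b_rc_9_2 lc_b_rc_1_1 lc_b_rc_1_1) (@D3.rec (fun _ => (Cert rels S Gen.b)) lc_b_rc_10_2 lc_b_rc_10_2 lc_b_rc_9_0 lc_b_rc_6_1 lc_b_rc_26_1 lc_b_rc_7_2 lc_b_rc_10_2 lc_b_rc_6_1 lc_b_rc_26_5 lc_b_rc_1_1 lc_b_rc_8_2 lc_b_rc_9_2 lc_b_Cert_tree lc_b_rc_7_4 lc_b_rc_6_1 lc_b_rc_6_1 lc_b_rc_6_1 lc_b_rc_10_0 lc_b_Cert_tree lc_b_Cert_tree lc_b_rc_9_0 lc_b_rc_6_1 lc_b_Cert_tree lc_b_rc_1_1 lc_b_rc_6_1 lc_b_Cert_tree lc_b_rc_1_3 lc_b_rc_6_1 lc_b_rc_6_1 lc_b_rc_1_3 lc_b_rc_9_2 lc_b_rc_8_2 lc_b_rc_10_2 lc_b_rc_6_1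 lc_b_Cert_tree lc_b_rc_7_4 lc_b_rc_9_2 lc_b_rc_8_2 lc_b_rc_6_1 lc_b_rc_26_1 lc_b_rc_6_1 lc_b_rc_8_2 lc_b_rc_9_0 lc_b_rc_6_1 lc_b_rc_6_1 lc_b_rc_9_2 lc_b_rc_6_1 lc_b_rc_9_2 lc_b_rc_9_0 lc_b_rc_9_2 lc_b_rc_6_1 lc_b_rc_8_2 lc_b_rc_6_1 lc_b_rc_8_2 lc_b_Cert_tree lc_b_Cert_tree lc_b_Cert_tree lc_b_rc_8_2 lc_b_rc_8_2 lc_b_rc_9_0 lc_b_rc_10_2 lc_b_rc_1_3) (@D3.rec (fun _ => (Cert rels S Gen.b)) lc_b_rc_9_2 lc_b_rc_6_1 lc_b_rc_9_2 lc_b_rc_8_0 lc_b_rc_7_2 lc_b_rc_9_0 lc_b_rc_9_2 lc_b_Cert_tree lc_b_rc_25_0 lc_b_rc_8_2 lc_b_Cert_tree lc_b_rc_6_1 lc_b_rc_8_2 lc_b_rc_10_2 lc_b_rc_6_1 lc_b_rc_1_3 lc_b_rc_10_2 lc_b_Cert_tree lc_b_rc_8_2 lc_b_Cert_tree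 lc_b_rc_8_2 lc_b_rc_6_1 lc_b_rc_9_0 lc_b_rc_1_5 lc_b_rc_1_3 lc_b_rc_9_2 lc_b_rc_7_0 lc_b_rc_6_1 lc_b_rc_6_1 lc_b_rc_8_2 lc_b_rc_7_4 lc_b_rc_9_2 lc_b_rc_26_5 lc_b_rc_6_1 lc_b_rc_9_2 lc_b_rc_26_5 lc_b_rc_8_0 lc_b_rc_6_1 lc_b_rc_6_1 lc_b_rc_1_3 lc_b_rc_9_2 lc_b_rc_8_0 lc_b_rc_6_1 lc_b_rc_9_2 lc_b_rc_6_1 lc_b_rc_10_2 lc_b_rc_10_2 lc_b_rc_26_5 lc_b_rc_8_2 lc_b_rc_10_0 lc_b_rc_6_1 lc_b_rc_8_2 lc_b_rc_1_3 lc_b_rc_9_2 lc_b_rc_8_2 lc_b_Cert_tree lc_b_rc_7_4 lc_b_rc_9_2 lc_b_rc_8_2 lc_b_rc_9_0 lc_b_rc_26_5 lc_b_rc_7_2) (@D3.rec (fun _ => (Cert rels S Gen.b)) lc_b_rc_26_1 lc_b_rc_8_0 lc_b_rc_9_2 lc_b_rc_7_4 lc_b_rc_8_2 lc_b_rc_9_2 lc_b_rc_6_1 lc_b_rc_9_2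 lc_b_rc_10_2 lc_b_rc_8_2 lc_b_rc_6_1 lc_b_rc_26_5 lc_b_rc_6_1 lc_b_rc_26_5 lc_b_rc_1_5 lc_b_rc_8_2 lc_b_rc_7_4 lc_b_rc_9_2 lc_b_rc_8_2 lc_b_rc_1_3 lc_b_rc_26_5 lc_b_rc_9_2 lc_b_rc_9_0 lc_b_rc_8_2 lc_b_rc_10_2 lc_b_rc_6_1 lc_b_rc_26_1 lc_b_rc_8_2 lc_b_rc_6_1 lc_b_rc_9_2 lc_b_rc_6_1 lc_b_rc_9_2 lc_b_rc_7_0 lc_b_rc_8_2 lc_b_rc_9_2 lc_b_rc_6_1 lc_b_rc_7_2 lc_b_rc_26_5 lc_b_rc_8_0 lc_b_rc_1_3 lc_b_rc_9_2 lc_b_rc_9_0 lc_b_rc_26_1 lc_b_rc_1_3 lc_b_rc_8_2 lc_b_rc_1_5 lc_b_rc_25_16 lc_b_Cert_tree lc_b_rc_10_0 lc_b_rc_6_1 lc_b_rc_26_5 lc_b_rc_9_2 lc_b_rc_8_2 lc_b_rc_6_1 lc_b_rc_7_2 lc_b_rc_9_2 lc_b_rc_6_1 lc_b_rc_8_2 lc_b_rc_7_2 lc_b_rc_9_2 lc_b_rc_8_2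 lc_b_rc_10_2) (@D3.rec (fun _ => (Cert rels S Gen.b)) lc_b_rc_6_1 lc_b_rc_1_5 lc_b_rc_8_2 lc_b_rc_8_2 lc_b_rc_7_0 lc_b_rc_6_1 lc_b_rc_9_2 lc_b_rc_6_1 lc_b_rc_9_2 lc_b_rc_6_1 lc_b_rc_9_2 lc_b_rc_6_1 lc_b_rc_10_2 lc_b_rc_1_5 lc_b_rc_9_2 lc_b_rc_8_2 lc_b_rc_7_4 lc_b_rc_1_5 lc_b_rc_1_3 lc_b_rc_8_2 lc_b_rc_9_2 lc_b_rc_9_2 lc_b_rc_8_2 lc_b_rc_10_2 lc_b_rc_9_2 lc_b_rc_9_2 lc_b_rc_8_2 lc_b_rc_10_2 lc_b_rc_8_2 lc_b_rc_9_2 lc_b_rc_6_1 lc_b_rc_6_1 lc_b_rc_8_2 lc_b_rc_9_2 lc_b_rc_6_1 lc_b_rc_8_2 lc_b_rc_8_2 lc_b_rc_9_2 lc_b_rc_1_1 lc_b_rc_25_4 lc_b_rc_6_1 lc_b_rc_7_2 lc_b_Cert_tree lc_b_Cert_tree lc_b_rc_10_2 lc_b_Cert_tree lc_b_rc_6_1 lc_b_Cert_tree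 lc_b_rc_8_2 lc_b_Cert_tree lc_b_rc_8_0 lc_b_rc_1_1 lc_b_rc_8_2 lc_b_rc_9_2 lc_b_rc_10_0 lc_b_rc_6_1 lc_b_rc_26_5 lc_b_rc_8_2 lc_b_rc_10_0 lc_b_Cert_tree lc_b_rc_1_3 lc_b_rc_8_2) (@D3.rec (fun _ => (Cert rels S Gen.b)) lc_b_rc_9_2 lc_b_rc_9_2 lc_b_rc_6_1 lc_b_Cert_tree lc_b_rc_25_12 lc_b_rc_8_2 lc_b_rc_9_2 lc_b_rc_6_1 lc_b_Cert_tree lc_b_rc_8_2 lc_b_rc_9_2 lc_b_rc_6_1 lc_b_rc_26_1 lc_b_rc_8_2 lc_b_rc_9_0 lc_b_rc_26_1 lc_b_rc_6_1 lc_b_rc_9_2 lc_b_rc_6_1 lc_b_rc_6_1 lc_b_rc_9_2 lc_b_rc_1_5 lc_b_rc_26_5 lc_b_rc_6_1 lc_b_rc_7_4 lc_b_rc_9_2 lc_b_Cert_tree lc_b_rc_9_2 lc_b_rc_9_2 lc_b_rc_9_0 lc_b_rc_6_1 lc_b_rc_8_2 lc_b_rc_9_0 lc_b_Cert_tree lc_b_Cert_tree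 lc_b_rc_6_1 lc_b_rc_8_2 lc_b_rc_6_1 lc_b_rc_1_3 lc_b_rc_9_2 lc_b_Cert_tree lc_b_rc_9_0 lc_b_rc_25_4 lc_b_rc_8_2 lc_b_rc_9_2 lc_b_rc_6_1 lc_b_Cert_tree lc_b_rc_1_3 lc_b_rc_9_2 lc_b_rc_6_1 lc_b_Cert_tree lc_b_rc_1_3 lc_b_rc_6_1 lc_b_rc_8_0 lc_b_rc_6_1 lc_b_rc_26_7 lc_b_rc_9_2 lc_b_Cert_tree lc_b_rc_25_4 lc_b_rc_7_4 lc_b_rc_9_2 lc_b_Cert_tree) (@D3.rec (fun _ => (Cert rels S Gen.b)) lc_b_Cert_tree lc_b_rc_8_2 lc_b_rc_10_2 lc_b_rc_6_1 lc_b_rc_1_5 lc_b_rc_6_1 lc_b_rc_9_2 lc_b_Cert_tree lc_b_rc_9_0 lc_b_rc_1_3 lc_b_rc_10_2 lc_b_rc_6_1 lc_b_rc_8_2 lc_b_rc_6_1 lc_b_rc_8_2 lc_b_rc_9_2 lc_b_Cert_tree lc_b_Cert_tree lc_b_rc_10_2 lc_b_rc_9_0 lc_b_rc_1_5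 lc_b_rc_6_1 lc_b_rc_8_2 lc_b_rc_9_2 lc_b_rc_6_1 lc_b_rc_26_7 lc_b_rc_26_5 lc_b_rc_8_2 lc_b_rc_9_2 lc_b_rc_7_2 lc_b_rc_6_1 lc_b_rc_7_4 lc_b_Cert_tree lc_b_rc_7_0 lc_b_rc_8_2 lc_b_rc_10_2 lc_b_rc_1_5 lc_b_rc_9_2 lc_b_rc_7_0 lc_b_rc_6_1 lc_b_rc_10_2 lc_b_rc_6_1 lc_b_Cert_tree lc_b_rc_8_2 lc_b_rc_8_2 lc_b_rc_7_4 lc_b_rc_6_1 lc_b_rc_8_2 lc_b_rc_6_1 lc_b_rc_10_0 lc_b_rc_8_2 lc_b_rc_6_1 lc_b_rc_26_5 lc_b_rc_6_1 lc_b_rc_1_3 lc_b_rc_9_2 lc_b_Cert_tree lc_b_rc_7_0 lc_b_rc_7_4 lc_b_rc_9_2 lc_b_rc_7_2 lc_b_rc_8_2) (@D3.rec (fun _ => (Cert rels S Gen.b)) lc_b_rc_10_2 lc_b_rc_9_0 lc_b_rc_7_2 lc_b_rc_26_1 lc_b_rc_8_2 lc_b_Cert_tree lc_b_rc_9_0 lc_b_rc_10_2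 lc_b_rc_9_0 lc_b_rc_7_2 lc_b_rc_6_1 lc_b_rc_26_5 lc_b_rc_8_2 lc_b_rc_9_2 lc_b_rc_1_3 lc_b_rc_9_2 lc_b_Cert_tree lc_b_Cert_tree lc_b_rc_7_4 lc_b_rc_9_2 lc_b_rc_26_1 lc_b_Cert_tree lc_b_rc_8_2 lc_b_rc_10_2 lc_b_rc_9_2 lc_b_rc_6_1 lc_b_rc_8_2 lc_b_rc_10_2 lc_b_Cert_tree lc_b_rc_10_2 lc_b_rc_9_0 lc_b_rc_1_3 lc_b_rc_6_1 lc_b_rc_8_2 lc_b_rc_9_2 lc_b_rc_26_7 lc_b_rc_8_2 lc_b_rc_9_2 lc_b_rc_8_2 lc_b_rc_25_4 lc_b_rc_9_2 lc_b_rc_8_2 lc_b_rc_1_5 lc_b_rc_8_2 lc_b_rc_26_5 lc_b_rc_8_2 lc_b_rc_10_0 lc_b_rc_8_2 lc_b_Cert_tree lc_b_Cert_tree lc_b_rc_1_3 lc_b_rc_10_0 lc_b_rc_6_1 lc_b_rc_25_4 lc_b_rc_6_1 lc_b_rc_6_1 lc_b_Cert_tree lc_b_rc_9_2 lc_b_Cert_tree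 lc_b_rc_8_0 lc_b_rc_6_1 lc_b_rc_8_2) (@D3.rec (fun _ => (Cert rels S Gen.b)) lc_b_rc_7_2 lc_b_rc_7_2 lc_b_Cert_tree lc_b_rc_7_4 lc_b_rc_6_1 lc_b_Cert_tree lc_b_rc_8_2 lc_b_rc_7_4 lc_b_rc_1_1 lc_b_rc_10_0 lc_b_rc_9_2 lc_b_rc_6_1 lc_b_rc_9_0 lc_b_rc_8_2 lc_b_rc_8_2 lc_b_rc_9_2 lc_b_Cert_tree lc_b_Cert_tree lc_b_rc_8_2 lc_b_rc_6_1 lc_b_Cert_tree lc_b_rc_7_0 lc_b_rc_1_5 lc_b_rc_6_1 lc_b_Cert_tree lc_b_rc_8_2 lc_b_rc_9_2 lc_b_rc_8_0 lc_b_rc_8_2 lc_b_rc_8_2 lc_b_rc_8_2 lc_b_rc_6_1 lc_b_Cert_tree lc_b_rc_9_2 lc_b_rc_6_1 lc_b_Cert_tree lc_b_rc_8_0 lc_b_rc_8_0 lc_b_rc_8_2 lc_b_rc_8_2 lc_b_rc_9_2 lc_b_rc_6_1 lc_b_rc_26_5 lc_b_rc_9_2 lc_b_Cert_tree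 lc_b_rc_6_1 lc_b_rc_6_1 lc_b_rc_7_2 lc_b_rc_8_0 lc_b_rc_6_1 lc_b_rc_25_8 lc_b_rc_9_2 lc_b_rc_8_2 lc_b_rc_9_2 lc_b_rc_8_2 lc_b_rc_1_5 lc_b_rc_7_2 lc_b_rc_7_2 lc_b_rc_9_2 lc_b_rc_7_2 lc_b_rc_6_1 lc_b_Cert_tree) (@D3.rec (fun _ => (Cert rels S Gen.b)) lc_b_rc_9_0 lc_b_rc_8_0 lc_b_rc_26_5 lc_b_rc_9_0 lc_b_rc_7_4 lc_b_rc_6_1 lc_b_rc_26_7 lc_b_rc_6_1 lc_b_rc_8_2 lc_b_rc_25_12 lc_b_rc_8_2 lc_b_rc_6_1 lc_b_rc_8_2 lc_b_rc_10_2 lc_b_rc_6_1 lc_b_rc_7_2 lc_b_Cert_tree lc_b_rc_10_2 lc_b_rc_9_2 lc_b_rc_6_1 lc_b_rc_26_1 lc_b_rc_9_2 lc_b_rc_6_1 lc_b_rc_26_5 lc_b_rc_9_2 lc_b_rc_9_2 lc_b_Cert_tree lc_b_rc_10_2 lc_b_rc_6_1 lc_b_rc_8_2 lc_b_rc_6_1 lc_b_rc_10_2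 lc_b_Cert_tree lc_b_rc_6_1 lc_b_rc_1_3 lc_b_rc_9_0 lc_b_rc_6_1 lc_b_rc_8_2 lc_b_rc_6_1 lc_b_rc_1_3 lc_b_rc_7_4 lc_b_rc_9_2 lc_b_Cert_tree lc_b_Cert_tree lc_b_rc_8_2 lc_b_rc_8_0 lc_b_Cert_tree lc_b_rc_8_2 lc_b_rc_9_0 lc_b_rc_6_1 lc_b_rc_10_0 lc_b_rc_6_1 lc_b_rc_8_2 lc_b_Cert_tree lc_b_rc_26_1 lc_b_Cert_tree lc_b_rc_6_1 lc_b_rc_26_1 lc_b_rc_6_1 lc_b_rc_9_2 lc_b_rc_6_1 lc_b_rc_26_5) (@D3.rec (fun _ => (Cert rels S Gen.b)) lc_b_rc_7_4 lc_b_rc_7_4 lc_b_rc_1_3 lc_b_rc_8_2 lc_b_rc_1_5 lc_b_Cert_tree lc_b_rc_8_0 lc_b_rc_8_2 lc_b_rc_10_2 lc_b_rc_26_1 lc_b_rc_7_4 lc_b_Cert_tree lc_b_rc_10_2 lc_b_rc_26_1 lc_b_rc_8_2 lc_b_rc_6_1 lc_b_rc_26_5 lc_b_rc_8_2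 lc_b_rc_9_2 lc_b_rc_26_5 lc_b_rc_7_4 lc_b_rc_1_5 lc_b_rc_7_4 lc_b_rc_9_2 lc_b_rc_10_0 lc_b_Cert_tree lc_b_rc_8_2 lc_b_rc_8_2 lc_b_Cert_tree lc_b_rc_8_2 lc_b_rc_10_2 lc_b_Cert_tree lc_b_rc_10_2 lc_b_rc_26_7 lc_b_rc_6_1 lc_b_rc_1_3 lc_b_Cert_tree lc_b_rc_8_2 lc_b_rc_9_2 lc_b_rc_6_1 lc_b_rc_6_1 lc_b_rc_8_0 lc_b_rc_8_2 lc_b_rc_10_2 lc_b_rc_8_2 lc_b_rc_1_3 lc_b_rc_7_2 lc_b_rc_9_2 lc_b_rc_9_2 lc_b_rc_9_2 lc_b_rc_8_2 lc_b_rc_9_2 lc_b_rc_8_2 lc_b_rc_8_2 lc_b_rc_6_1 lc_b_rc_1_5 lc_b_rc_8_0 lc_b_rc_8_0 lc_b_rc_10_2 lc_b_rc_6_1 lc_b_rc_26_1 lc_b_rc_8_2) (@D3.rec (fun _ => (Cert rels S Gen.b)) lc_b_rc_6_1 lc_b_rc_26_5 lc_b_rc_9_0 lc_b_Cert_tree lc_b_rc_9_0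 lc_b_rc_10_2 lc_b_rc_1_3 lc_b_rc_8_0 lc_b_rc_9_2 lc_b_rc_9_2 lc_b_rc_8_0 lc_b_rc_1_3 lc_b_rc_7_2 lc_b_rc_9_2 lc_b_rc_26_1 lc_b_rc_8_2 lc_b_rc_6_1 lc_b_rc_8_2 lc_b_Cert_tree lc_b_Cert_tree lc_b_rc_7_4 lc_b_rc_6_1 lc_b_rc_26_7 lc_b_rc_10_2 lc_b_rc_8_2 lc_b_rc_26_1 lc_b_Cert_tree lc_b_rc_1_3 lc_b_rc_7_2 lc_b_rc_8_2 lc_b_rc_9_2 lc_b_rc_26_1 lc_b_rc_7_2 lc_b_rc_9_2 lc_b_rc_6_1 lc_b_Cert_tree lc_b_rc_26_5 lc_b_rc_6_1 lc_b_rc_8_2 lc_b_Cert_tree lc_b_Cert_tree lc_b_rc_6_1 lc_b_rc_8_2 lc_b_rc_10_2 lc_b_rc_9_2 lc_b_rc_6_1 lc_b_rc_8_2 lc_b_rc_7_4 lc_b_rc_8_2 lc_b_rc_26_7 lc_b_Cert_tree lc_b_rc_6_1 lc_b_rc_8_2 lc_b_rc_7_4 lc_b_Cert_tree lc_b_rc_9_2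 lc_b_rc_6_1 lc_b_rc_8_2 lc_b_rc_9_2 lc_b_rc_8_2 lc_b_rc_6_1 lc_b_rc_9_2) (@D3.rec (fun _ => (Cert rels S Gen.b)) lc_b_rc_6_1 lc_b_rc_26_5 lc_b_Cert_tree lc_b_rc_9_2 lc_b_rc_8_2 lc_b_rc_10_2 lc_b_Cert_tree lc_b_Cert_tree lc_b_Cert_tree lc_b_rc_8_2 lc_b_rc_10_2 lc_b_rc_9_2 lc_b_rc_8_0 lc_b_rc_1_3 lc_b_rc_8_2 lc_b_rc_9_2 lc_b_rc_9_2 lc_b_rc_7_0 lc_b_rc_6_1 lc_b_rc_9_2 lc_b_rc_6_1 lc_b_rc_8_2 lc_b_rc_6_1 lc_b_rc_9_2 lc_b_Cert_tree lc_b_Cert_tree lc_b_rc_10_2 lc_b_rc_7_2 lc_b_rc_1_3 lc_b_rc_9_2 lc_b_rc_9_0 lc_b_rc_7_4 lc_b_rc_8_2 lc_b_rc_6_1 lc_b_rc_26_5 lc_b_rc_8_2 lc_b_rc_6_1 lc_b_rc_1_3 lc_b_rc_1_1 lc_b_rc_26_5 lc_b_Cert_tree lc_b_rc_6_1 lc_b_rc_9_2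 lc_b_Cert_tree lc_b_rc_8_0 lc_b_rc_8_2 lc_b_rc_10_2 lc_b_rc_7_0 lc_b_Cert_tree lc_b_rc_8_2 lc_b_rc_9_0 lc_b_rc_6_1 lc_b_rc_8_2 lc_b_rc_6_1 lc_b_Cert_tree lc_b_rc_9_2 lc_b_rc_10_2 lc_b_rc_6_1 lc_b_Cert_tree lc_b_rc_8_0 lc_b_rc_26_5 lc_b_rc_9_2) (@D3.rec (fun _ => (Cert rels S Gen.b)) lc_b_rc_6_1 lc_b_rc_8_0 lc_b_rc_6_1 lc_b_rc_7_0 lc_b_rc_9_2 lc_b_rc_6_1 lc_b_rc_8_2 lc_b_rc_6_1 lc_b_rc_8_0 lc_b_rc_1_3 lc_b_rc_8_2 lc_b_rc_8_2 lc_b_rc_6_1 lc_b_rc_6_1 lc_b_rc_26_1 lc_b_rc_7_4 lc_b_rc_10_0 lc_b_rc_9_2 lc_b_rc_8_2 lc_b_rc_9_2 lc_b_rc_6_1 lc_b_rc_9_2 lc_b_rc_8_2 lc_b_rc_7_4 lc_b_rc_9_2 lc_b_rc_26_5 lc_b_rc_8_2 lc_b_rc_6_1 lc_b_rc_8_0 lc_b_rc_6_1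 lc_b_rc_26_1 lc_b_rc_26_5 lc_b_rc_8_2 lc_b_rc_7_2 lc_b_rc_8_2 lc_b_rc_10_2 lc_b_rc_6_1 lc_b_rc_26_1 lc_b_rc_6_1 lc_b_rc_6_1 lc_b_rc_26_5 lc_b_rc_8_2 lc_b_rc_1_5 lc_b_Cert_tree lc_b_rc_10_2 lc_b_rc_7_4 lc_b_rc_7_0 lc_b_rc_9_2 lc_b_rc_6_1 lc_b_rc_26_7 lc_b_rc_10_2 lc_b_rc_9_0 lc_b_rc_9_0 lc_b_Cert_tree lc_b_rc_10_2 lc_b_rc_6_1 lc_b_rc_1_3 lc_b_rc_8_2 lc_b_rc_9_2 lc_b_rc_10_0 lc_b_rc_9_2 lc_b_rc_1_1) (@D3.rec (fun _ => (Cert rels S Gen.b)) lc_b_rc_10_2 lc_b_rc_7_4 lc_b_rc_9_2 lc_b_rc_7_4 lc_b_rc_10_2 lc_b_rc_8_2 lc_b_rc_25_16 lc_b_rc_7_0 lc_b_rc_6_1 lc_b_rc_7_4 lc_b_rc_9_2 lc_b_rc_6_1 lc_b_rc_25_16 lc_b_rc_8_0 lc_b_Cert_tree lc_b_rc_7_0 lc_b_rc_6_1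 lc_b_rc_8_2 lc_b_rc_10_2 lc_b_rc_9_2 lc_b_rc_6_1 lc_b_rc_26_7 lc_b_rc_8_0 lc_b_rc_8_2 lc_b_rc_9_2 lc_b_rc_9_0 lc_b_Cert_tree lc_b_rc_26_7 lc_b_rc_8_0 lc_b_rc_8_2 lc_b_rc_8_2 lc_b_rc_8_2 lc_b_rc_26_7 lc_b_rc_9_2 lc_b_rc_6_1 lc_b_rc_7_2 lc_b_rc_7_2 lc_b_rc_6_1 lc_b_rc_9_2 lc_b_rc_8_2 lc_b_rc_10_2 lc_b_rc_10_2 lc_b_rc_7_4 lc_b_rc_8_2 lc_b_rc_8_2 lc_b_rc_1_1 lc_b_rc_1_3 lc_b_rc_8_2 lc_b_rc_9_2 lc_b_rc_10_2 lc_b_rc_8_2 lc_b_rc_8_0 lc_b_rc_8_0 lc_b_rc_1_3 lc_b_rc_8_2 lc_b_rc_9_2 lc_b_rc_9_2 lc_b_rc_26_1 lc_b_rc_6_1 lc_b_Cert_tree lc_b_rc_6_1 lc_b_rc_26_5) (@D3.rec (fun _ => (Cert rels S Gen.b)) lc_b_rc_7_4 lc_b_rc_9_0 lc_b_rc_9_2 lc_b_rc_8_2 lc_b_rc_6_1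 lc_b_rc_9_2 lc_b_rc_9_2 lc_b_rc_9_2 lc_b_rc_9_2 lc_b_rc_7_0 lc_b_rc_9_0 lc_b_rc_8_2 lc_b_rc_10_2 lc_b_rc_6_1 lc_b_rc_26_7 lc_b_rc_6_1 lc_b_rc_9_0 lc_b_rc_10_2 lc_b_rc_1_5 lc_b_rc_8_0 lc_b_rc_10_0 lc_b_rc_1_5 lc_b_rc_6_1 lc_b_rc_7_2 lc_b_rc_9_2 lc_b_rc_8_0 lc_b_rc_8_0 lc_b_rc_26_5 lc_b_rc_7_4 lc_b_rc_8_2 lc_b_rc_6_1 lc_b_rc_26_5 lc_b_rc_1_3 lc_b_rc_10_0 lc_b_rc_7_0 lc_b_rc_9_2 lc_b_rc_6_1 lc_b_rc_7_2 lc_b_rc_1_5 lc_b_rc_26_7 lc_b_rc_8_2 lc_b_rc_8_0 lc_b_Cert_tree lc_b_rc_1_3 lc_b_rc_6_1 lc_b_rc_9_2 lc_b_rc_8_2 lc_b_rc_6_1 lc_b_rc_26_5 lc_b_rc_9_2 lc_b_rc_9_2 lc_b_rc_6_1 lc_b_rc_26_5 lc_b_rc_9_2 lc_b_rc_8_2 lc_b_rc_6_1 lc_b_rc_7_2 lc_b_rc_10_2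 lc_b_rc_26_5 lc_b_rc_9_2 lc_b_rc_9_0 lc_b_rc_8_2) (@D3.rec (fun _ => (Cert rels S Gen.b)) lc_b_rc_8_2 lc_b_rc_9_0 lc_b_rc_7_4 lc_b_rc_1_5 lc_b_rc_9_2 lc_b_rc_25_0 lc_b_rc_9_2 lc_b_rc_6_1 lc_b_rc_6_1 lc_b_rc_9_0 lc_b_rc_7_0 lc_b_rc_1_3 lc_b_rc_9_2 lc_b_rc_6_1 lc_b_rc_26_5 lc_b_Cert_tree lc_b_rc_1_3 lc_b_rc_9_2 lc_b_Cert_tree lc_b_rc_8_2 lc_b_rc_25_4 lc_b_rc_6_1 lc_b_rc_9_2 lc_b_rc_8_2 lc_b_rc_8_0 lc_b_rc_8_2 lc_b_rc_7_4 lc_b_rc_9_2 lc_b_Cert_tree lc_b_Cert_tree lc_b_rc_9_2 lc_b_rc_10_2 lc_b_rc_6_1 lc_b_rc_10_2 lc_b_rc_9_2 lc_b_rc_6_1 lc_b_rc_8_2 lc_b_rc_6_1 lc_b_rc_1_3 lc_b_rc_6_1 lc_b_rc_6_1 lc_b_rc_26_1 lc_b_rc_9_2 lc_b_rc_8_2 lc_b_rc_9_2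 lc_b_Cert_tree lc_b_rc_6_1 lc_b_rc_6_1 lc_b_Cert_tree lc_b_rc_9_2 lc_b_rc_6_1 lc_b_rc_26_5 lc_b_rc_8_2 lc_b_rc_6_1 lc_b_rc_9_2 lc_b_rc_6_1 lc_b_rc_25_0 lc_b_rc_9_2 lc_b_rc_6_1 lc_b_rc_1_1 lc_b_rc_8_2 lc_b_rc_9_2) (@D3.rec (fun _ => (Cert rels S Gen.b)) lc_b_rc_8_2 lc_b_Cert_tree lc_b_rc_10_2 lc_b_rc_1_3 lc_b_rc_8_2 lc_b_rc_6_1 lc_b_rc_8_2 lc_b_rc_9_2 lc_b_rc_9_0 lc_b_rc_26_1 lc_b_rc_9_2 lc_b_rc_26_7 lc_b_rc_8_2 lc_b_rc_7_4 lc_b_Cert_tree lc_b_rc_8_2 lc_b_rc_8_2 lc_b_rc_6_1 lc_b_rc_8_2 lc_b_rc_6_1 lc_b_rc_6_1 lc_b_rc_9_2 lc_b_Cert_tree lc_b_Cert_tree lc_b_rc_9_2 lc_b_rc_8_2 lc_b_rc_10_2 lc_b_rc_8_2 lc_b_rc_10_2 lc_b_rc_6_1 lc_b_rc_9_2 lc_b_rc_6_1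 lc_b_rc_1_1 lc_b_rc_6_1 lc_b_rc_8_2 lc_b_rc_7_2 lc_b_rc_9_2 lc_b_rc_8_0 lc_b_rc_7_2 lc_b_rc_8_2 lc_b_rc_6_1 lc_b_rc_8_2 lc_b_rc_1_3 lc_b_rc_9_2 lc_b_rc_1_1 lc_b_rc_8_2 lc_b_rc_9_2 lc_b_rc_6_1 lc_b_rc_8_2 lc_b_rc_9_2 lc_b_rc_6_1 lc_b_rc_26_7 lc_b_rc_8_2 lc_b_rc_6_1 lc_b_rc_8_2 lc_b_rc_1_5 lc_b_rc_1_5 lc_b_rc_8_0 lc_b_rc_9_2 lc_b_rc_6_1 lc_b_Cert_tree lc_b_rc_6_1) (@D3.rec (fun _ => (Cert rels S Gen.b)) lc_b_rc_6_1 lc_b_rc_26_5 lc_b_rc_9_2 lc_b_rc_10_2 lc_b_Cert_tree lc_b_rc_26_7 lc_b_rc_1_3 lc_b_rc_26_1 lc_b_rc_9_2 lc_b_rc_10_0 lc_b_rc_7_2 lc_b_rc_8_2 lc_b_rc_9_2 lc_b_rc_9_2 lc_b_rc_26_1 lc_b_rc_8_0 lc_b_rc_1_5 lc_b_rc_1_3 lc_b_rc_6_1 lc_b_rc_8_2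 lc_b_rc_9_2 lc_b_rc_26_5 lc_b_Cert_tree lc_b_Cert_tree lc_b_Cert_tree lc_b_rc_8_2 lc_b_rc_10_2 lc_b_rc_6_1 lc_b_rc_9_2 lc_b_rc_6_1 lc_b_rc_8_2 lc_b_rc_9_2 lc_b_rc_7_4 lc_b_rc_7_2 lc_b_Cert_tree lc_b_rc_8_2 lc_b_rc_9_2 lc_b_rc_6_1 lc_b_rc_6_1 lc_b_rc_9_2 lc_b_rc_8_2 lc_b_rc_1_3 lc_b_rc_10_0 lc_b_rc_8_2 lc_b_rc_9_2 lc_b_rc_7_4 lc_b_rc_8_2 lc_b_rc_10_0 lc_b_rc_1_1 lc_b_rc_9_2 lc_b_rc_26_7 lc_b_Cert_tree lc_b_rc_9_2 lc_b_rc_10_2 lc_b_rc_6_1 lc_b_rc_8_2 lc_b_rc_10_2 lc_b_rc_9_2 lc_b_rc_8_2 lc_b_rc_8_2 lc_b_rc_7_2 lc_b_rc_10_0) (@D3.rec (fun _ => (Cert rels S Gen.b)) lc_b_rc_8_2 lc_b_rc_9_0 lc_b_rc_1_3 lc_b_rc_26_1 lc_b_rc_9_2 lc_b_rc_26_7 lc_b_rc_6_1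 lc_b_rc_6_1 lc_b_rc_10_2 lc_b_rc_7_4 lc_b_rc_10_2 lc_b_rc_8_0 lc_b_rc_1_5 lc_b_rc_26_5 lc_b_rc_26_1 lc_b_rc_10_2 lc_b_rc_8_2 lc_b_rc_25_0 lc_b_rc_6_1 lc_b_rc_9_2 lc_b_rc_10_2 lc_b_rc_7_4 lc_b_rc_6_1 lc_b_rc_6_1 lc_b_rc_25_4 lc_b_rc_9_2 lc_b_rc_8_2 lc_b_rc_10_2 lc_b_rc_8_2 lc_b_rc_1_1 lc_b_rc_1_1 lc_b_rc_6_1 lc_b_Cert_tree lc_b_rc_9_2 lc_b_Cert_tree lc_b_rc_7_0 lc_b_rc_7_0 lc_b_Cert_tree lc_b_rc_9_2 lc_b_rc_9_2 lc_b_rc_26_5 lc_b_rc_6_1 lc_b_rc_8_2 lc_b_rc_26_5 lc_b_rc_9_0 lc_b_rc_8_2 lc_b_rc_10_2 lc_b_rc_9_2 lc_b_rc_6_1 lc_b_rc_8_2 lc_b_rc_7_2 lc_b_rc_8_2 lc_b_rc_6_1 lc_b_rc_8_0 lc_b_rc_8_2 lc_b_rc_8_2 lc_b_rc_9_2 lc_b_rc_26_5 lc_b_Cert_tree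 lc_b_rc_25_0 lc_b_rc_1_5 lc_b_rc_8_0) (@D3.rec (fun _ => (Cert rels S Gen.b)) lc_b_rc_8_0 lc_b_rc_26_1 lc_b_rc_8_0 lc_b_rc_9_2 lc_b_rc_6_1 lc_b_rc_26_5 lc_b_rc_8_2 lc_b_rc_7_0 lc_b_rc_6_1 lc_b_Cert_tree lc_b_rc_8_2 lc_b_rc_9_2 lc_b_rc_8_0 lc_b_rc_8_0 lc_b_rc_8_2 lc_b_rc_6_1 lc_b_rc_26_7 lc_b_rc_9_2 lc_b_rc_6_1 lc_b_rc_26_5 lc_b_rc_26_5 lc_b_rc_7_0 lc_b_rc_26_1 lc_b_rc_9_2 lc_b_rc_10_2 lc_b_rc_7_2 lc_b_rc_7_0 lc_b_rc_6_1 lc_b_rc_8_2 lc_b_rc_10_2 lc_b_rc_7_0 lc_b_rc_6_1 lc_b_rc_26_1 lc_b_rc_7_4 lc_b_rc_10_2 lc_b_Cert_tree lc_b_rc_9_2 lc_b_rc_6_1 lc_b_rc_8_2 lc_b_rc_9_2 lc_b_rc_6_1 lc_b_rc_8_2 lc_b_rc_10_2 lc_b_rc_9_2 lc_b_rc_9_0 lc_b_rc_9_0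 lc_b_rc_10_2 lc_b_rc_6_1 lc_b_rc_8_2 lc_b_rc_7_0 lc_b_Cert_tree lc_b_rc_9_0 lc_b_rc_26_1 lc_b_rc_10_2 lc_b_rc_25_4 lc_b_rc_8_2 lc_b_rc_9_2 lc_b_rc_8_2 lc_b_rc_9_0 lc_b_rc_1_1 lc_b_Cert_tree lc_b_rc_8_2) (@D3.rec (fun _ => (Cert rels S Gen.b)) lc_b_rc_8_2 lc_b_rc_1_1 lc_b_rc_1_3 lc_b_rc_8_2 lc_b_rc_8_2 lc_b_rc_9_0 lc_b_rc_6_1 lc_b_rc_8_2 lc_b_rc_6_1 lc_b_Cert_tree lc_b_rc_1_5 lc_b_rc_7_0 lc_b_rc_9_2 lc_b_rc_10_0 lc_b_rc_6_1 lc_b_rc_9_2 lc_b_rc_8_2 lc_b_rc_9_2 lc_b_rc_9_0 lc_b_rc_7_2 lc_b_rc_9_2 lc_b_rc_8_2 lc_b_rc_9_2 lc_b_rc_9_2 lc_b_rc_8_2 lc_b_rc_6_1 lc_b_rc_9_2 lc_b_Cert_tree lc_b_rc_9_2 lc_b_rc_8_2 lc_b_rc_26_7 lc_b_rc_6_1 lc_b_rc_1_5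 lc_b_rc_8_2 lc_b_rc_9_2 lc_b_rc_10_0 lc_b_rc_9_0 lc_b_rc_6_1 lc_b_Cert_tree lc_b_Cert_tree lc_b_rc_1_3 lc_b_rc_8_2 lc_b_rc_9_2 lc_b_rc_9_2 lc_b_Cert_tree lc_b_rc_1_5 lc_b_Cert_tree lc_b_rc_7_4 lc_b_rc_1_3 lc_b_rc_6_1 lc_b_Cert_tree lc_b_rc_1_3 lc_b_rc_9_2 lc_b_Cert_tree lc_b_rc_8_2 lc_b_rc_1_3 lc_b_rc_6_1 lc_b_rc_7_0 lc_b_rc_8_2 lc_b_rc_7_2 lc_b_Cert_tree lc_b_rc_8_2) (@D3.rec (fun _ => (Cert rels S Gen.b)) lc_b_rc_26_5 lc_b_rc_8_2 lc_b_rc_6_1 lc_b_rc_6_1 lc_b_rc_25_0 lc_b_rc_6_1 lc_b_rc_8_2 lc_b_rc_9_2 lc_b_rc_9_0 lc_b_rc_8_2 lc_b_rc_6_1 lc_b_rc_9_2 lc_b_rc_6_1 lc_b_rc_9_2 lc_b_rc_26_5 lc_b_rc_9_2 lc_b_rc_6_1 lc_b_rc_8_2 lc_b_rc_6_1 lc_b_Cert_tree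 lc_b_rc_25_12 lc_b_rc_10_2 lc_b_rc_9_2 lc_b_rc_6_1 lc_b_rc_9_2 lc_b_rc_10_0 lc_b_rc_6_1 lc_b_Cert_tree lc_b_rc_9_2 lc_b_rc_6_1 lc_b_Cert_tree lc_b_rc_1_3 lc_b_rc_8_2 lc_b_rc_9_2 lc_b_rc_26_5 lc_b_rc_1_3 lc_b_rc_8_2 lc_b_rc_9_2 lc_b_rc_26_5 lc_b_rc_1_5 lc_b_Cert_tree lc_b_rc_6_1 lc_b_rc_1_3 lc_b_rc_8_2 lc_b_rc_9_2 lc_b_rc_8_2 lc_b_rc_1_5 lc_b_rc_6_1 lc_b_rc_7_4 lc_b_Cert_tree lc_b_rc_8_2 lc_b_rc_6_1 lc_b_rc_6_1 lc_b_rc_6_1 lc_b_rc_9_2 lc_b_Cert_tree lc_b_rc_6_1 lc_b_rc_8_2 lc_b_rc_26_1 lc_b_rc_26_5 lc_b_rc_8_2 lc_b_rc_6_1) (@D3.rec (fun _ => (Cert rels S Gen.b)) lc_b_rc_26_5 lc_b_rc_9_2 lc_b_rc_9_0 lc_b_rc_10_2 lc_b_rc_6_1 lc_b_rc_26_1 lc_b_rc_6_1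 lc_b_Cert_tree lc_b_rc_9_2 lc_b_rc_7_4 lc_b_rc_1_3 lc_b_rc_8_2 lc_b_rc_6_1 lc_b_rc_7_2 lc_b_rc_8_2 lc_b_rc_9_2 lc_b_rc_8_2 lc_b_rc_6_1 lc_b_rc_10_0 lc_b_rc_1_1 lc_b_Cert_tree lc_b_rc_8_2 lc_b_rc_9_2 lc_b_Cert_tree lc_b_Cert_tree lc_b_rc_8_2 lc_b_rc_6_1 lc_b_Cert_tree lc_b_rc_10_2 lc_b_rc_8_2 lc_b_rc_9_2 lc_b_rc_6_1 lc_b_rc_8_2 lc_b_rc_6_1 lc_b_rc_8_2 lc_b_Cert_tree lc_b_Cert_tree lc_b_rc_26_7 lc_b_rc_6_1 lc_b_rc_8_2 lc_b_Cert_tree lc_b_Cert_tree lc_b_rc_9_2 lc_b_rc_6_1 lc_b_rc_6_1 lc_b_rc_26_5 lc_b_rc_10_2 lc_b_Cert_tree lc_b_rc_6_1 lc_b_Cert_tree lc_b_rc_9_2 lc_b_rc_26_7 lc_b_rc_10_0 lc_b_rc_7_4 lc_b_rc_6_1 lc_b_rc_1_3 lc_b_rc_9_2 lc_b_rc_6_1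 lc_b_rc_6_1 lc_b_rc_9_2 lc_b_rc_1_3 lc_b_rc_6_1) (@D3.rec (fun _ => (Cert rels S Gen.b)) lc_b_rc_7_0 lc_b_rc_7_4 lc_b_rc_9_2 lc_b_rc_6_1 lc_b_rc_7_2 lc_b_rc_6_1 lc_b_rc_9_2 lc_b_rc_6_1 lc_b_rc_7_2 lc_b_rc_6_1 lc_b_Cert_tree lc_b_Cert_tree lc_b_rc_6_1 lc_b_rc_7_4 lc_b_rc_9_2 lc_b_rc_6_1 lc_b_rc_8_2 lc_b_rc_9_2 lc_b_rc_9_0 lc_b_rc_6_1 lc_b_rc_8_2 lc_b_rc_25_0 lc_b_rc_26_1 lc_b_rc_1_3 lc_b_rc_9_2 lc_b_rc_26_5 lc_b_rc_1_5 lc_b_rc_6_1 lc_b_rc_6_1 lc_b_rc_6_1 lc_b_Cert_tree lc_b_rc_1_5 lc_b_rc_9_2 lc_b_rc_8_0 lc_b_Cert_tree lc_b_rc_8_2 lc_b_rc_6_1 lc_b_Cert_tree lc_b_rc_26_5 lc_b_rc_8_2 lc_b_rc_8_0 lc_b_rc_6_1 lc_b_rc_6_1 lc_b_rc_10_2 lc_b_rc_9_2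 lc_b_rc_1_3 lc_b_rc_25_12 lc_b_rc_6_1 lc_b_rc_8_2 lc_b_rc_6_1 lc_b_rc_25_4 lc_b_rc_9_2 lc_b_rc_9_0 lc_b_rc_10_2 lc_b_rc_9_2 lc_b_rc_8_2 lc_b_rc_6_1 lc_b_rc_9_2 lc_b_rc_6_1 lc_b_rc_8_2 lc_b_rc_9_2 lc_b_rc_8_2) (@D3.rec (fun _ => (Cert rels S Gen.b)) lc_b_rc_1_5 lc_b_rc_8_2 lc_b_rc_6_1 lc_b_rc_26_7 lc_b_rc_25_0 lc_b_rc_7_2 lc_b_rc_1_1 lc_b_rc_7_0 lc_b_rc_8_2 lc_b_rc_9_2 lc_b_rc_10_2 lc_b_Cert_tree lc_b_rc_25_4 lc_b_rc_25_8 lc_b_rc_10_2 lc_b_rc_8_0 lc_b_rc_6_1 lc_b_rc_8_2 lc_b_rc_10_2 lc_b_rc_8_2 lc_b_rc_9_2 lc_b_rc_8_2 lc_b_rc_1_5 lc_b_rc_1_3 lc_b_rc_7_2 lc_b_rc_6_1 lc_b_rc_6_1 lc_b_rc_8_2 lc_b_rc_9_2 lc_b_rc_9_2 lc_b_rc_26_7 lc_b_rc_7_0 lc_b_rc_8_2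 lc_b_rc_9_2 lc_b_rc_7_0 lc_b_rc_9_0 lc_b_rc_9_0 lc_b_rc_26_1 lc_b_rc_26_5 lc_b_rc_6_1 lc_b_rc_7_4 lc_b_Cert_tree lc_b_rc_7_0 lc_b_rc_6_1 lc_b_rc_7_4 lc_b_rc_26_5 lc_b_rc_6_1 lc_b_rc_10_0 lc_b_rc_6_1 lc_b_rc_26_7 lc_b_rc_9_2 lc_b_rc_26_5 lc_b_rc_26_7 lc_b_rc_9_0 lc_b_rc_26_1 lc_b_rc_26_7 lc_b_rc_1_3 lc_b_rc_9_2 lc_b_rc_6_1 lc_b_rc_8_2 lc_b_rc_9_2 lc_b_rc_7_4) (@D3.rec (fun _ => (Cert rels S Gen.b)) lc_b_rc_8_2 lc_b_rc_9_2 lc_b_rc_6_1 lc_b_rc_8_2 lc_b_rc_10_0 lc_b_rc_26_5 lc_b_rc_9_2 lc_b_rc_1_1 lc_b_rc_8_2 lc_b_rc_7_4 lc_b_rc_8_2 lc_b_rc_9_2 lc_b_Cert_tree lc_b_rc_26_5 lc_b_rc_6_1 lc_b_rc_6_1 lc_b_rc_10_0 lc_b_rc_10_2 lc_b_rc_6_1 lc_b_rc_9_0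 lc_b_rc_8_2 lc_b_rc_10_2 lc_b_rc_6_1 lc_b_rc_9_2 lc_b_rc_6_1 lc_b_rc_26_1 lc_b_rc_6_1 lc_b_Cert_tree lc_b_rc_8_2 lc_b_rc_9_2 lc_b_rc_6_1 lc_b_rc_26_5 lc_b_rc_8_2 lc_b_rc_9_2 lc_b_rc_7_2 lc_b_Cert_tree lc_b_rc_8_0 lc_b_rc_8_0 lc_b_rc_6_1 lc_b_rc_8_2 lc_b_rc_7_0 lc_b_rc_6_1 lc_b_rc_26_5 lc_b_rc_9_2 lc_b_rc_7_2 lc_b_rc_9_0 lc_b_rc_9_2 lc_b_rc_6_1 lc_b_rc_6_1 lc_b_rc_10_0 lc_b_rc_26_5 lc_b_rc_1_3 lc_b_rc_9_2 lc_b_rc_7_4 lc_b_rc_9_2 lc_b_rc_8_0 lc_b_rc_26_1 lc_b_rc_8_2 lc_b_rc_10_2 lc_b_rc_8_2 lc_b_rc_26_7 lc_b_rc_26_5) (@D3.rec (fun _ => (Cert rels S Gen.b)) lc_b_rc_6_1 lc_b_rc_10_2 lc_b_rc_8_2 lc_b_Cert_tree lc_b_rc_26_5 lc_b_rc_6_1 lc_b_rc_8_2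 lc_b_rc_26_1 lc_b_Cert_tree lc_b_rc_6_1 lc_b_rc_8_2 lc_b_rc_6_1 lc_b_rc_6_1 lc_b_rc_1_3 lc_b_rc_8_2 lc_b_rc_9_2 lc_b_rc_7_4 lc_b_rc_7_4 lc_b_rc_8_2 lc_b_rc_10_2 lc_b_rc_6_1 lc_b_rc_26_1 lc_b_rc_9_2 lc_b_rc_26_5 lc_b_rc_6_1 lc_b_rc_8_2 lc_b_rc_9_2 lc_b_rc_1_5 lc_b_rc_8_0 lc_b_rc_26_7 lc_b_rc_9_2 lc_b_Cert_tree lc_b_rc_7_4 lc_b_rc_8_2 lc_b_rc_10_2 lc_b_Cert_tree lc_b_rc_9_0 lc_b_rc_7_2 lc_b_rc_10_2 lc_b_rc_6_1 lc_b_rc_25_16 lc_b_Cert_tree lc_b_Cert_tree lc_b_Cert_tree lc_b_rc_10_2 lc_b_rc_6_1 lc_b_rc_8_2 lc_b_rc_6_1 lc_b_rc_8_0 lc_b_rc_6_1 lc_b_rc_26_5 lc_b_rc_10_0 lc_b_rc_8_2 lc_b_rc_9_2 lc_b_Cert_tree lc_b_rc_6_1 lc_b_rc_7_2 lc_b_rc_9_2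 lc_b_Cert_tree lc_b_Cert_tree lc_b_rc_8_2 lc_b_rc_10_2) (@D3.rec (fun _ => (Cert rels S Gen.b)) lc_b_Cert_tree lc_b_Cert_tree lc_b_rc_8_2 lc_b_rc_10_2 lc_b_rc_8_2 lc_b_Cert_tree lc_b_rc_10_2 lc_b_rc_6_1 lc_b_rc_8_2 lc_b_rc_10_0 lc_b_rc_6_1 lc_b_rc_1_5 lc_b_rc_1_3 lc_b_rc_9_2 lc_b_Cert_tree lc_b_rc_7_4 lc_b_Cert_tree lc_b_Cert_tree lc_b_rc_8_2 lc_b_rc_10_2 lc_b_Cert_tree lc_b_rc_9_0 lc_b_rc_9_2 lc_b_rc_6_1 lc_b_rc_7_0 lc_b_Cert_tree lc_b_rc_10_2 lc_b_rc_8_2 lc_b_rc_8_2 lc_b_rc_9_2 lc_b_rc_6_1 lc_b_rc_9_2 lc_b_rc_25_0 lc_b_rc_6_1 lc_b_rc_7_0 lc_b_rc_26_1 lc_b_rc_1_3 lc_b_rc_8_2 lc_b_rc_9_2 lc_b_rc_25_4 lc_b_rc_9_2 lc_b_rc_25_0 lc_b_rc_8_2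 lc_b_rc_10_2 lc_b_Cert_tree lc_b_rc_6_1 lc_b_rc_6_1 lc_b_rc_10_2 lc_b_rc_9_2 lc_b_Cert_tree lc_b_Cert_tree lc_b_rc_7_4 lc_b_rc_9_2 lc_b_rc_6_1 lc_b_rc_9_2 lc_b_rc_6_1 lc_b_rc_9_2 lc_b_rc_1_1 lc_b_rc_8_2 lc_b_rc_7_0 lc_b_rc_1_1 lc_b_rc_9_2) (@D3.rec (fun _ => (Cert rels S Gen.b)) lc_b_Cert_tree lc_b_rc_9_2 lc_b_rc_6_1 lc_b_rc_26_5 lc_b_rc_26_5 lc_b_rc_26_5 lc_b_rc_6_1 lc_b_rc_9_2 lc_b_rc_6_1 lc_b_rc_8_2 lc_b_rc_9_2 lc_b_rc_8_0 lc_b_rc_8_0 lc_b_rc_8_2 lc_b_rc_26_1 lc_b_rc_8_2 lc_b_rc_9_2 lc_b_rc_6_1 lc_b_rc_9_2 lc_b_rc_8_2 lc_b_rc_1_5 lc_b_rc_6_1 lc_b_rc_6_1 lc_b_Cert_tree lc_b_rc_1_3 lc_b_rc_8_2 lc_b_rc_9_2 lc_b_rc_7_4 lc_b_Cert_tree lc_b_rc_7_2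 lc_b_rc_26_1 lc_b_Cert_tree lc_b_rc_8_0 lc_b_rc_7_0 lc_b_rc_9_2 lc_b_rc_8_2 lc_b_rc_9_2 lc_b_Cert_tree lc_b_rc_8_2 lc_b_rc_9_2 lc_b_rc_8_2 lc_b_rc_6_1 lc_b_rc_26_7 lc_b_rc_6_1 lc_b_rc_8_2 lc_b_rc_9_2 lc_b_rc_26_5 lc_b_rc_9_2 lc_b_Cert_tree lc_b_Cert_tree lc_b_rc_8_2 lc_b_rc_10_2 lc_b_rc_26_5 lc_b_Cert_tree lc_b_rc_8_2 lc_b_rc_10_2 lc_b_rc_6_1 lc_b_rc_10_0 lc_b_rc_9_2 lc_b_rc_8_2 lc_b_Cert_tree lc_b_Cert_tree) (@D3.rec (fun _ => (Cert rels S Gen.b)) lc_b_rc_8_0 lc_b_rc_10_2 lc_b_Cert_tree lc_b_rc_8_2 lc_b_rc_6_1 lc_b_rc_8_2 lc_b_rc_9_2 lc_b_rc_6_1 lc_b_rc_10_2 lc_b_rc_8_0 lc_b_rc_6_1 lc_b_rc_8_2 lc_b_rc_8_2 lc_b_rc_9_0 lc_b_rc_8_2 lc_b_rc_8_0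 lc_b_rc_1_5 lc_b_rc_9_2 lc_b_rc_7_2 lc_b_rc_6_1 lc_b_rc_25_0 lc_b_rc_1_5 lc_b_rc_6_1 lc_b_rc_6_1 lc_b_rc_7_4 lc_b_rc_7_2 lc_b_rc_8_2 lc_b_rc_6_1 lc_b_rc_8_2 lc_b_rc_8_2 lc_b_rc_8_2 lc_b_rc_9_2 lc_b_rc_26_5 lc_b_rc_6_1 lc_b_rc_8_2 lc_b_rc_9_2 lc_b_rc_8_2 lc_b_rc_6_1 lc_b_Cert_tree lc_b_rc_6_1 lc_b_Cert_tree lc_b_Cert_tree lc_b_rc_7_4 lc_b_rc_6_1 lc_b_rc_9_2 lc_b_rc_6_1 lc_b_rc_6_1 lc_b_rc_26_7 lc_b_rc_8_2 lc_b_rc_6_1 lc_b_rc_7_2 lc_b_rc_6_1 lc_b_rc_8_2 lc_b_rc_9_2 lc_b_rc_1_1 lc_b_rc_8_2 lc_b_rc_26_7 lc_b_rc_1_3 lc_b_rc_10_2 lc_b_rc_9_2 lc_b_rc_6_1 lc_b_rc_6_1) (@D3.rec (fun _ => (Cert rels S Gen.b)) lc_b_rc_6_1 lc_b_rc_9_2 lc_b_Cert_tree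 lc_b_Cert_tree lc_b_rc_8_2 lc_b_rc_10_2 lc_b_rc_26_7 lc_b_rc_9_0 lc_b_rc_8_2 lc_b_rc_9_2 lc_b_rc_8_2 lc_b_rc_10_2 lc_b_rc_6_1 lc_b_Cert_tree lc_b_rc_6_1 lc_b_rc_9_0 lc_b_rc_8_2 lc_b_rc_7_4 lc_b_rc_6_1 lc_b_rc_7_4 lc_b_rc_6_1 lc_b_rc_6_1 lc_b_rc_6_1 lc_b_rc_6_1 lc_b_rc_6_1 lc_b_rc_6_1 lc_b_rc_8_2 lc_b_rc_7_2 lc_b_rc_8_2 lc_b_rc_1_3 lc_b_rc_1_1 lc_b_rc_8_2 lc_b_rc_9_2 lc_b_rc_8_0 lc_b_rc_8_0 lc_b_Cert_tree lc_b_rc_9_2 lc_b_Cert_tree lc_b_rc_26_7 lc_b_rc_8_2 lc_b_rc_9_2 lc_b_rc_26_7 lc_b_rc_6_1 lc_b_rc_26_7 lc_b_rc_9_2 lc_b_rc_8_0 lc_b_rc_9_2 lc_b_rc_1_5 lc_b_rc_8_0 lc_b_rc_26_1 lc_b_rc_9_0 lc_b_rc_8_0 lc_b_rc_7_4 lc_b_rc_10_2 lc_b_rc_9_2 lc_b_rc_9_2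 lc_b_rc_26_1 lc_b_rc_9_2 lc_b_rc_9_0 lc_b_rc_8_0 lc_b_rc_8_2 lc_b_rc_10_2) (@D3.rec (fun _ => (Cert rels S Gen.b)) lc_b_rc_8_2 lc_b_rc_9_2 lc_b_Cert_tree lc_b_rc_9_2 lc_b_rc_9_0 lc_b_Cert_tree lc_b_rc_8_2 lc_b_rc_26_5 lc_b_rc_6_1 lc_b_rc_8_2 lc_b_rc_1_5 lc_b_rc_8_2 lc_b_Cert_tree lc_b_rc_10_2 lc_b_rc_6_1 lc_b_rc_6_1 lc_b_rc_6_1 lc_b_rc_8_2 lc_b_rc_7_4 lc_b_rc_8_2 lc_b_rc_9_2 lc_b_rc_6_1 lc_b_rc_8_2 lc_b_rc_8_0 lc_b_rc_8_2 lc_b_rc_9_2 lc_b_rc_6_1 lc_b_rc_6_1 lc_b_rc_26_1 lc_b_rc_8_2 lc_b_Cert_tree lc_b_rc_6_1 lc_b_rc_9_2 lc_b_rc_6_1 lc_b_rc_7_0 lc_b_rc_9_2 lc_b_rc_6_1 lc_b_rc_8_2 lc_b_rc_9_2 lc_b_rc_6_1 lc_b_rc_8_2 lc_b_Cert_tree lc_b_Cert_tree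 lc_b_Cert_tree lc_b_rc_9_2 lc_b_rc_6_1 lc_b_rc_8_2 lc_b_rc_9_2 lc_b_rc_6_1 lc_b_rc_9_2 lc_b_rc_9_2 lc_b_rc_26_1 lc_b_rc_6_1 lc_b_rc_8_2 lc_b_rc_8_2 lc_b_rc_9_2 lc_b_rc_6_1 lc_b_rc_1_5 lc_b_rc_9_2 lc_b_rc_8_2 lc_b_rc_26_5 lc_b_rc_6_1) (@D3.rec (fun _ => (Cert rels S Gen.b)) lc_b_rc_6_1 lc_b_rc_8_2 lc_b_rc_9_2 lc_b_rc_26_7 lc_b_rc_6_1 lc_b_Cert_tree lc_b_rc_1_3 lc_b_rc_9_2 lc_b_rc_8_2 lc_b_rc_6_1 lc_b_rc_6_1 lc_b_rc_26_7 lc_b_rc_6_1 lc_b_rc_9_2 lc_b_rc_6_1 lc_b_rc_26_5 lc_b_rc_8_2 lc_b_rc_9_2 lc_b_rc_8_2 lc_b_rc_9_2 lc_b_Cert_tree lc_b_rc_26_5 lc_b_rc_9_2 lc_b_Cert_tree lc_b_Cert_tree lc_b_rc_8_2 lc_b_Cert_tree lc_b_rc_9_2 lc_b_rc_8_2 lc_b_rc_10_2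 lc_b_rc_6_1 lc_b_Cert_tree lc_b_Cert_tree lc_b_rc_8_2 lc_b_rc_6_1 lc_b_rc_8_2 lc_b_rc_6_1 lc_b_rc_1_3 lc_b_rc_8_2 lc_b_rc_9_2 lc_b_rc_9_2 lc_b_rc_6_1 lc_b_rc_6_1 lc_b_Cert_tree lc_b_rc_1_3 lc_b_rc_26_5 lc_b_rc_6_1 lc_b_rc_6_1 lc_b_rc_1_3 lc_b_rc_9_2 lc_b_rc_9_2 lc_b_rc_6_1 lc_b_rc_6_1 lc_b_rc_8_2 lc_b_rc_26_1 lc_b_rc_6_1 lc_b_rc_26_5 lc_b_rc_8_2 lc_b_rc_9_2 lc_b_rc_9_2 lc_b_rc_6_1 lc_b_rc_6_1) (@D3.rec (fun _ => (Cert rels S Gen.b)) lc_b_rc_8_2 lc_b_rc_10_2 lc_b_rc_9_0 lc_b_rc_7_2 lc_b_rc_8_2 lc_b_rc_6_1 lc_b_rc_8_2 lc_b_rc_8_2 lc_b_rc_6_1 lc_b_rc_8_2 lc_b_rc_9_2 lc_b_rc_6_1 lc_b_rc_8_0 lc_b_rc_9_2 lc_b_rc_6_1 lc_b_rc_26_5 lc_b_rc_9_2 lc_b_rc_1_3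 lc_b_rc_1_3 lc_b_rc_8_2 lc_b_rc_6_1 lc_b_rc_26_5 lc_b_Cert_tree lc_b_Cert_tree lc_b_rc_6_1 lc_b_rc_6_1 lc_b_rc_7_2 lc_b_rc_6_1 lc_b_rc_9_2 lc_b_rc_9_2 lc_b_rc_6_1 lc_b_rc_1_3 lc_b_rc_1_3 lc_b_rc_7_4 lc_b_rc_6_1 lc_b_rc_6_1 lc_b_rc_10_2 lc_b_rc_6_1 lc_b_rc_8_2 lc_b_rc_7_2 lc_b_rc_6_1 lc_b_rc_6_1 lc_b_rc_9_2 lc_b_rc_6_1 lc_b_rc_6_1 lc_b_rc_6_1 lc_b_rc_6_1 lc_b_rc_26_5 lc_b_rc_8_2 lc_b_rc_9_2 lc_b_rc_8_2 lc_b_rc_6_1 lc_b_rc_1_5 lc_b_rc_7_2 lc_b_rc_6_1 lc_b_rc_26_1 lc_b_rc_6_1 lc_b_rc_26_5 lc_b_rc_9_2 lc_b_rc_1_3 lc_b_rc_9_2 lc_b_Cert_tree) (@D3.rec (fun _ => (Cert rels S Gen.b)) lc_b_Cert_tree lc_b_rc_10_2 lc_b_rc_6_1 lc_b_rc_1_3 lc_b_rc_7_2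 lc_b_rc_8_2 lc_b_rc_9_2 lc_b_rc_26_1 lc_b_rc_9_2 lc_b_rc_8_2 lc_b_rc_9_2 lc_b_rc_7_4 lc_b_rc_7_0 lc_b_rc_1_3 lc_b_rc_8_2 lc_b_rc_9_2 lc_b_Cert_tree lc_b_rc_25_0 lc_b_rc_6_1 lc_b_rc_10_2 lc_b_rc_26_7 lc_b_rc_9_2 lc_b_Cert_tree lc_b_rc_8_2 lc_b_rc_1_3 lc_b_rc_6_1 lc_b_rc_8_2 lc_b_rc_9_2 lc_b_rc_6_1 lc_b_Cert_tree lc_b_rc_9_2 lc_b_rc_7_4 lc_b_rc_7_2 lc_b_rc_7_2 lc_b_rc_10_0 lc_b_Cert_tree lc_b_Cert_tree lc_b_rc_10_2 lc_b_rc_6_1 lc_b_rc_9_0 lc_b_rc_26_7 lc_b_rc_6_1 lc_b_rc_7_0 lc_b_rc_9_0 lc_b_rc_6_1 lc_b_rc_10_2 lc_b_rc_8_2 lc_b_rc_9_2 lc_b_rc_1_5 lc_b_rc_10_2 lc_b_rc_9_0 lc_b_rc_9_2 lc_b_rc_8_2 lc_b_rc_10_2 lc_b_rc_6_1 lc_b_Cert_tree lc_b_rc_8_2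 lc_b_rc_10_2 lc_b_rc_6_1 lc_b_Cert_tree lc_b_rc_9_0 lc_b_rc_9_0) (@D3.rec (fun _ => (Cert rels S Gen.b)) lc_b_rc_26_1 lc_b_rc_8_2 lc_b_rc_8_2 lc_b_rc_9_2 lc_b_Cert_tree lc_b_rc_6_1 lc_b_rc_26_5 lc_b_rc_7_4 lc_b_rc_6_1 lc_b_Cert_tree lc_b_rc_9_2 lc_b_rc_6_1 lc_b_Cert_tree lc_b_rc_26_7 lc_b_rc_10_2 lc_b_rc_10_2 lc_b_Cert_tree lc_b_rc_6_1 lc_b_rc_7_4 lc_b_rc_8_2 lc_b_rc_9_2 lc_b_rc_6_1 lc_b_rc_8_2 lc_b_rc_6_1 lc_b_rc_6_1 lc_b_rc_8_2 lc_b_rc_9_2 lc_b_Cert_tree lc_b_rc_26_5 lc_b_Cert_tree lc_b_rc_9_2 lc_b_rc_8_2 lc_b_rc_7_0 lc_b_rc_1_3 lc_b_rc_8_2 lc_b_rc_7_4 lc_b_rc_9_2 lc_b_rc_6_1 lc_b_rc_9_0 lc_b_rc_7_4 lc_b_rc_6_1 lc_b_rc_8_2 lc_b_Cert_tree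 lc_b_rc_6_1 lc_b_rc_9_2 lc_b_rc_6_1 lc_b_rc_6_1 lc_b_rc_9_2 lc_b_Cert_tree lc_b_rc_8_2 lc_b_rc_6_1 lc_b_Cert_tree lc_b_rc_1_3 lc_b_rc_9_2 lc_b_rc_6_1 lc_b_rc_6_1 lc_b_rc_8_2 lc_b_rc_6_1 lc_b_rc_9_2 lc_b_rc_6_1 lc_b_rc_9_2 lc_b_rc_9_2) (@D3.rec (fun _ => (Cert rels S Gen.b)) lc_b_rc_6_1 lc_b_rc_9_2 lc_b_rc_8_2 lc_b_rc_1_1 lc_b_rc_8_0 lc_b_rc_9_2 lc_b_rc_8_0 lc_b_rc_8_2 lc_b_rc_8_2 lc_b_rc_6_1 lc_b_rc_7_0 lc_b_rc_8_2 lc_b_rc_10_0 lc_b_rc_1_3 lc_b_rc_8_2 lc_b_rc_9_2 lc_b_rc_8_0 lc_b_rc_9_2 lc_b_rc_25_0 lc_b_rc_8_2 lc_b_rc_7_0 lc_b_rc_6_1 lc_b_rc_8_2 lc_b_rc_26_1 lc_b_rc_9_2 lc_b_rc_6_1 lc_b_rc_26_5 lc_b_rc_9_2 lc_b_Cert_tree lc_b_rc_9_0 lc_b_rc_8_2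 lc_b_rc_10_2 lc_b_rc_8_2 lc_b_rc_9_2 lc_b_rc_1_5 lc_b_rc_7_0 lc_b_rc_6_1 lc_b_rc_1_5 lc_b_rc_26_5 lc_b_rc_6_1 lc_b_rc_6_1 lc_b_rc_9_2 lc_b_rc_8_2 lc_b_rc_10_0 lc_b_rc_1_5 lc_b_rc_9_0 lc_b_rc_9_0 lc_b_rc_6_1 lc_b_rc_8_2 lc_b_rc_10_0 lc_b_rc_26_5 lc_b_rc_9_2 lc_b_rc_9_0 lc_b_rc_8_2 lc_b_rc_26_7 lc_b_rc_9_2 lc_b_rc_8_2 lc_b_rc_26_1 lc_b_rc_10_2 lc_b_rc_9_2 lc_b_rc_8_2 lc_b_rc_8_2) (@D3.rec (fun _ => (Cert rels S Gen.b)) lc_b_rc_9_2 lc_b_rc_6_1 lc_b_rc_7_2 lc_b_rc_9_2 lc_b_rc_8_2 lc_b_rc_9_0 lc_b_rc_10_0 lc_b_rc_7_2 lc_b_rc_8_2 lc_b_rc_9_2 lc_b_Cert_tree lc_b_rc_9_0 lc_b_rc_8_0 lc_b_Cert_tree lc_b_Cert_tree lc_b_rc_6_1 lc_b_rc_8_2 lc_b_Cert_tree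 lc_b_rc_6_1 lc_b_rc_8_2 lc_b_rc_8_2 lc_b_rc_8_2 lc_b_rc_26_5 lc_b_rc_7_4 lc_b_rc_6_1 lc_b_rc_6_1 lc_b_rc_9_2 lc_b_Cert_tree lc_b_rc_6_1 lc_b_rc_8_2 lc_b_rc_7_4 lc_b_rc_6_1 lc_b_rc_1_1 lc_b_rc_8_2 lc_b_rc_10_0 lc_b_Cert_tree lc_b_rc_25_0 lc_b_rc_10_0 lc_b_rc_6_1 lc_b_rc_6_1 lc_b_rc_6_1 lc_b_rc_25_0 lc_b_rc_26_5 lc_b_rc_7_4 lc_b_rc_25_4 lc_b_rc_26_5 lc_b_rc_26_5 lc_b_rc_9_2 lc_b_rc_6_1 lc_b_rc_7_4 lc_b_rc_7_4 lc_b_rc_6_1 lc_b_rc_6_1 lc_b_rc_9_2 lc_b_rc_6_1 lc_b_rc_26_5 lc_b_rc_8_2 lc_b_rc_9_2 lc_b_Cert_tree lc_b_rc_7_0 lc_b_rc_9_2 lc_b_Cert_tree) (@D3.rec (fun _ => (Cert rels S Gen.b)) lc_b_rc_8_2 lc_b_rc_10_2 lc_b_rc_10_2 lc_b_rc_6_1 lc_b_rc_9_2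 lc_b_rc_9_2 lc_b_rc_6_1 lc_b_rc_26_5 lc_b_rc_26_7 lc_b_rc_6_1 lc_b_rc_9_2 lc_b_rc_6_1 lc_b_rc_8_2 lc_b_rc_6_1 lc_b_rc_6_1 lc_b_rc_9_2 lc_b_rc_8_0 lc_b_Cert_tree lc_b_Cert_tree lc_b_rc_8_2 lc_b_Cert_tree lc_b_rc_6_1 lc_b_rc_7_4 lc_b_rc_1_5 lc_b_rc_1_3 lc_b_rc_9_2 lc_b_rc_8_0 lc_b_rc_8_2 lc_b_rc_8_2 lc_b_rc_1_3 lc_b_rc_7_2 lc_b_Cert_tree lc_b_rc_8_2 lc_b_rc_1_1 lc_b_rc_6_1 lc_b_rc_25_4 lc_b_rc_9_2 lc_b_rc_6_1 lc_b_rc_25_8 lc_b_rc_9_2 lc_b_Cert_tree lc_b_rc_25_4 lc_b_rc_8_2 lc_b_rc_26_5 lc_b_rc_8_2 lc_b_rc_6_1 lc_b_rc_9_2 lc_b_rc_7_0 lc_b_Cert_tree lc_b_rc_1_3 lc_b_rc_7_4 lc_b_rc_9_2 lc_b_rc_8_2 lc_b_rc_9_0 lc_b_rc_10_2 lc_b_rc_10_2 lc_b_rc_8_2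 lc_b_rc_7_4 lc_b_rc_9_2 lc_b_rc_10_2 lc_b_rc_8_2 lc_b_rc_10_2) (@D3.rec (fun _ => (Cert rels S Gen.b)) lc_b_rc_6_1 lc_b_rc_26_1 lc_b_rc_9_2 lc_b_rc_26_5 lc_b_rc_9_2 lc_b_rc_1_3 lc_b_rc_9_2 lc_b_rc_8_2 lc_b_rc_10_2 lc_b_rc_6_1 lc_b_rc_26_5 lc_b_rc_6_1 lc_b_rc_26_5 lc_b_rc_1_1 lc_b_rc_8_2 lc_b_rc_1_5 lc_b_rc_6_1 lc_b_rc_8_2 lc_b_rc_9_2 lc_b_Cert_tree lc_b_rc_6_1 lc_b_rc_6_1 lc_b_rc_9_2 lc_b_rc_8_2 lc_b_rc_9_2 lc_b_rc_8_2 lc_b_rc_10_2 lc_b_rc_6_1 lc_b_Cert_tree lc_b_Cert_tree lc_b_rc_6_1 lc_b_rc_26_7 lc_b_rc_8_2 lc_b_rc_8_2 lc_b_rc_9_2 lc_b_rc_9_0 lc_b_rc_26_5 lc_b_rc_8_2 lc_b_rc_10_2 lc_b_rc_6_1 lc_b_rc_1_5 lc_b_rc_7_4 lc_b_rc_9_2 lc_b_rc_9_2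 lc_b_rc_7_4 lc_b_rc_9_2 lc_b_Cert_tree lc_b_Cert_tree lc_b_rc_8_2 lc_b_rc_6_1 lc_b_Cert_tree lc_b_rc_26_5 lc_b_rc_6_1 lc_b_Cert_tree lc_b_rc_26_1 lc_b_Cert_tree lc_b_rc_6_1 lc_b_rc_6_1 lc_b_rc_8_2 lc_b_rc_9_2 lc_b_Cert_tree lc_b_rc_7_0) (@D3.rec (fun _ => (Cert rels S Gen.b)) lc_b_rc_6_1 lc_b_rc_6_1 lc_b_rc_8_2 lc_b_rc_8_2 lc_b_rc_9_2 lc_b_rc_6_1 lc_b_rc_8_2 lc_b_rc_9_2 lc_b_Cert_tree lc_b_rc_7_2 lc_b_rc_9_0 lc_b_rc_6_1 lc_b_rc_26_5 lc_b_rc_26_1 lc_b_rc_6_1 lc_b_rc_1_3 lc_b_rc_26_5 lc_b_rc_6_1 lc_b_rc_26_1 lc_b_rc_26_1 lc_b_rc_1_5 lc_b_rc_7_2 lc_b_rc_7_0 lc_b_rc_9_0 lc_b_rc_9_2 lc_b_rc_6_1 lc_b_rc_8_2 lc_b_rc_26_5 lc_b_rc_9_0 lc_b_rc_26_5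 lc_b_rc_1_5 lc_b_rc_6_1 lc_b_rc_26_1 lc_b_rc_8_2 lc_b_rc_7_0 lc_b_rc_6_1 lc_b_rc_26_5 lc_b_rc_6_1 lc_b_rc_10_0 lc_b_rc_9_2 lc_b_rc_10_2 lc_b_Cert_tree lc_b_rc_6_1 lc_b_rc_26_5 lc_b_rc_8_0 lc_b_rc_9_0 lc_b_rc_8_0 lc_b_rc_9_2 lc_b_rc_6_1 lc_b_rc_9_2 lc_b_rc_6_1 lc_b_rc_9_2 lc_b_rc_1_3 lc_b_rc_6_1 lc_b_rc_8_2 lc_b_rc_6_1 lc_b_rc_26_1 lc_b_rc_7_4 lc_b_Cert_tree lc_b_rc_26_1 lc_b_rc_6_1 lc_b_rc_1_5) (@D3.rec (fun _ => (Cert rels S Gen.b)) lc_b_rc_6_1 lc_b_rc_8_2 lc_b_rc_26_1 lc_b_rc_25_4 lc_b_rc_9_2 lc_b_rc_6_1 lc_b_rc_1_3 lc_b_rc_6_1 lc_b_rc_26_5 lc_b_rc_8_0 lc_b_rc_6_1 lc_b_rc_6_1 lc_b_rc_9_2 lc_b_rc_6_1 lc_b_rc_26_5 lc_b_rc_7_4 lc_b_rc_9_2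 lc_b_rc_6_1 lc_b_rc_6_1 lc_b_rc_8_0 lc_b_rc_7_4 lc_b_rc_6_1 lc_b_rc_26_5 lc_b_rc_8_2 lc_b_rc_8_2 lc_b_rc_9_2 lc_b_rc_7_0 lc_b_Cert_tree lc_b_rc_7_4 lc_b_rc_9_2 lc_b_rc_26_1 lc_b_Cert_tree lc_b_rc_8_2 lc_b_rc_10_2 lc_b_Cert_tree lc_b_rc_6_1 lc_b_rc_8_2 lc_b_rc_10_2 lc_b_rc_6_1 lc_b_rc_8_2 lc_b_rc_6_1 lc_b_rc_9_2 lc_b_Cert_tree lc_b_rc_26_5 lc_b_Cert_tree lc_b_rc_10_2 lc_b_rc_6_1 lc_b_rc_8_2 lc_b_rc_6_1 lc_b_rc_8_2 lc_b_rc_7_4 lc_b_rc_8_2 lc_b_rc_9_2 lc_b_rc_26_5 lc_b_rc_25_0 lc_b_rc_6_1 lc_b_rc_8_0 lc_b_rc_9_2 lc_b_rc_6_1 lc_b_rc_1_3 lc_b_rc_10_0 lc_b_Cert_tree) (@D3.rec (fun _ => (Cert rels S Gen.b)) lc_b_Cert_tree lc_b_rc_8_2 lc_b_rc_10_2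 lc_b_Cert_tree lc_b_rc_1_3 lc_b_rc_6_1 lc_b_rc_26_1 lc_b_rc_7_2 lc_b_rc_9_2 lc_b_rc_8_2 lc_b_rc_8_2 lc_b_Cert_tree lc_b_rc_9_2 lc_b_rc_25_0 lc_b_Cert_tree lc_b_rc_8_2 lc_b_rc_6_1 lc_b_rc_25_4 lc_b_rc_6_1 lc_b_rc_26_5 lc_b_rc_9_2 lc_b_Cert_tree lc_b_rc_7_0 lc_b_Cert_tree lc_b_rc_9_0 lc_b_rc_8_2 lc_b_rc_6_1 lc_b_rc_8_2 lc_b_rc_9_2 lc_b_rc_6_1 lc_b_rc_8_2 lc_b_rc_26_5 lc_b_Cert_tree lc_b_Cert_tree lc_b_rc_8_0 lc_b_rc_10_2 lc_b_rc_8_2 lc_b_rc_7_4 lc_b_rc_8_2 lc_b_rc_9_2 lc_b_rc_6_1 lc_b_Cert_tree lc_b_rc_9_0 lc_b_rc_8_0 lc_b_rc_6_1 lc_b_rc_26_5 lc_b_rc_8_2 lc_b_rc_6_1 lc_b_rc_8_2 lc_b_Cert_tree lc_b_Cert_tree lc_b_rc_8_2 lc_b_rc_1_5 lc_b_rc_1_3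 lc_b_rc_8_2 lc_b_rc_9_2 lc_b_rc_9_2 lc_b_rc_10_2 lc_b_rc_7_4 lc_b_rc_26_5 lc_b_rc_9_0 lc_b_rc_8_2) (@D3.rec (fun _ => (Cert rels S Gen.b)) lc_b_rc_9_2 lc_b_Cert_tree lc_b_rc_9_2 lc_b_rc_6_1 lc_b_rc_10_2 lc_b_rc_6_1 lc_b_Cert_tree lc_b_rc_9_2 lc_b_Cert_tree lc_b_Cert_tree lc_b_rc_6_1 lc_b_rc_25_4 lc_b_rc_25_8 lc_b_rc_9_2 lc_b_rc_6_1 lc_b_rc_7_4 lc_b_rc_6_1 lc_b_rc_7_4 lc_b_rc_8_2 lc_b_rc_9_2 lc_b_Cert_tree lc_b_rc_6_1 lc_b_rc_7_4 lc_b_rc_9_2 lc_b_Cert_tree lc_b_rc_6_1 lc_b_rc_7_0 lc_b_rc_26_5 lc_b_rc_8_2 lc_b_rc_9_2 lc_b_Cert_tree lc_b_rc_26_5 lc_b_rc_6_1 lc_b_rc_9_2 lc_b_rc_6_1 lc_b_rc_8_2 lc_b_rc_9_2 lc_b_rc_8_2 lc_b_rc_9_2 lc_b_rc_6_1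 lc_b_rc_9_2 lc_b_rc_7_2 lc_b_rc_8_0 lc_b_rc_1_5 lc_b_rc_10_2 lc_b_rc_26_1 lc_b_rc_6_1 lc_b_rc_26_5 lc_b_rc_6_1 lc_b_Cert_tree lc_b_rc_1_3 lc_b_rc_9_2 lc_b_rc_26_7 lc_b_rc_26_5 lc_b_rc_6_1 lc_b_rc_8_2 lc_b_rc_26_1 lc_b_rc_9_2 lc_b_rc_9_2 lc_b_rc_6_1 lc_b_rc_1_1 lc_b_rc_6_1) (@D3.rec (fun _ => (Cert rels S Gen.b)) lc_b_rc_10_2 lc_b_rc_8_0 lc_b_rc_6_1 lc_b_rc_1_5 lc_b_rc_8_0 lc_b_rc_8_0 lc_b_rc_8_2 lc_b_rc_9_2 lc_b_Cert_tree lc_b_rc_6_1 lc_b_rc_8_2 lc_b_rc_25_16 lc_b_rc_8_2 lc_b_rc_9_2 lc_b_rc_8_2 lc_b_rc_9_2 lc_b_rc_9_0 lc_b_rc_26_5 lc_b_rc_6_1 lc_b_rc_8_2 lc_b_rc_9_2 lc_b_rc_6_1 lc_b_rc_8_2 lc_b_Cert_tree lc_b_rc_26_5 lc_b_rc_8_2 lc_b_rc_9_2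 lc_b_rc_8_2 lc_b_rc_6_1 lc_b_rc_26_7 lc_b_rc_26_5 lc_b_rc_26_5 lc_b_rc_1_3 lc_b_rc_8_2 lc_b_rc_9_2 lc_b_Cert_tree lc_b_rc_26_7 lc_b_rc_10_0 lc_b_rc_26_7 lc_b_Cert_tree lc_b_rc_26_5 lc_b_rc_7_4 lc_b_rc_7_2 lc_b_rc_6_1 lc_b_rc_9_2 lc_b_Cert_tree lc_b_rc_8_0 lc_b_rc_26_1 lc_b_rc_8_2 lc_b_rc_8_0 lc_b_rc_7_0 lc_b_rc_9_2 lc_b_rc_8_2 lc_b_rc_9_2 lc_b_rc_8_0 lc_b_rc_9_2 lc_b_rc_6_1 lc_b_rc_6_1 lc_b_rc_8_2 lc_b_rc_1_1 lc_b_rc_6_1 lc_b_rc_1_5) (@D3.rec (fun _ => (Cert rels S Gen.b)) lc_b_rc_9_2 lc_b_rc_8_0 lc_b_Cert_tree lc_b_rc_9_2 lc_b_rc_9_0 lc_b_rc_10_2 lc_b_rc_9_2 lc_b_Cert_tree lc_b_rc_8_2 lc_b_Cert_tree lc_b_rc_26_5 lc_b_rc_7_4 lc_b_rc_9_2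 lc_b_rc_6_1 lc_b_rc_25_4 lc_b_rc_9_2 lc_b_rc_6_1 lc_b_rc_7_2 lc_b_rc_9_2 lc_b_rc_26_1 lc_b_rc_26_5 lc_b_rc_6_1 lc_b_rc_1_5 lc_b_rc_7_4 lc_b_rc_8_0 lc_b_rc_6_1 lc_b_rc_8_2 lc_b_rc_10_2 lc_b_rc_6_1 lc_b_rc_26_1 lc_b_rc_9_2 lc_b_rc_26_7 lc_b_rc_26_1 lc_b_rc_9_2 lc_b_rc_26_1 lc_b_rc_10_2 lc_b_rc_9_2 lc_b_rc_10_2 lc_b_rc_6_1 lc_b_rc_10_0 lc_b_rc_8_2 lc_b_rc_7_4 lc_b_rc_6_1 lc_b_rc_9_2 lc_b_rc_26_5 lc_b_rc_9_2 lc_b_rc_1_5 lc_b_rc_10_2 lc_b_rc_6_1 lc_b_rc_6_1 lc_b_rc_6_1 lc_b_rc_7_2 lc_b_rc_9_2 lc_b_rc_7_4 lc_b_rc_9_0 lc_b_rc_8_2 lc_b_rc_6_1 lc_b_rc_9_2 lc_b_rc_1_3 lc_b_rc_9_0 lc_b_rc_8_2 lc_b_rc_10_2) (@D3.rec (fun _ => (Cert rels S Gen.b)) lc_b_rc_6_1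 lc_b_rc_6_1 lc_b_rc_1_1 lc_b_rc_6_1 lc_b_rc_8_2 lc_b_rc_7_4 lc_b_rc_10_2 lc_b_rc_26_1 lc_b_rc_6_1 lc_b_rc_8_2 lc_b_rc_9_2 lc_b_rc_9_2 lc_b_rc_1_5 lc_b_rc_1_1 lc_b_rc_8_2 lc_b_rc_9_2 lc_b_rc_8_2 lc_b_rc_9_2 lc_b_rc_8_2 lc_b_rc_8_0 lc_b_rc_6_1 lc_b_rc_8_2 lc_b_rc_9_2 lc_b_rc_10_2 lc_b_rc_9_2 lc_b_rc_6_1 lc_b_rc_9_2 lc_b_rc_26_1 lc_b_rc_26_7 lc_b_rc_7_0 lc_b_rc_9_2 lc_b_rc_8_2 lc_b_rc_26_7 lc_b_rc_26_7 lc_b_Cert_tree lc_b_rc_26_7 lc_b_rc_9_2 lc_b_rc_6_1 lc_b_rc_7_0 lc_b_Cert_tree lc_b_rc_7_2 lc_b_rc_1_3 lc_b_rc_9_2 lc_b_rc_8_2 lc_b_rc_6_1 lc_b_rc_10_0 lc_b_rc_9_2 lc_b_rc_6_1 lc_b_rc_1_5 lc_b_rc_9_2 lc_b_rc_9_0 lc_b_Cert_tree lc_b_rc_10_2 lc_b_rc_26_7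 lc_b_rc_9_2 lc_b_rc_6_1 lc_b_rc_7_0 lc_b_rc_6_1 lc_b_Cert_tree lc_b_rc_9_2 lc_b_rc_6_1 lc_b_rc_25_4) (@D3.rec (fun _ => (Cert rels S Gen.b)) lc_b_rc_6_1 lc_b_rc_26_1 lc_b_rc_8_2 lc_b_rc_8_2 lc_b_rc_9_2 lc_b_rc_26_5 lc_b_rc_6_1 lc_b_rc_8_2 lc_b_rc_9_2 lc_b_Cert_tree lc_b_rc_6_1 lc_b_rc_9_0 lc_b_rc_8_0 lc_b_rc_7_2 lc_b_rc_26_5 lc_b_rc_8_0 lc_b_rc_1_3 lc_b_Cert_tree lc_b_rc_26_1 lc_b_rc_9_2 lc_b_rc_25_8 lc_b_rc_26_1 lc_b_rc_26_7 lc_b_rc_8_2 lc_b_rc_26_7 lc_b_rc_7_2 lc_b_rc_8_2 lc_b_rc_8_0 lc_b_rc_9_2 lc_b_rc_7_4 lc_b_rc_7_0 lc_b_rc_25_0 lc_b_rc_8_0 lc_b_rc_26_7 lc_b_rc_7_2 lc_b_rc_9_2 lc_b_rc_9_0 lc_b_rc_10_2 lc_b_Cert_tree lc_b_Cert_tree lc_b_rc_8_0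 lc_b_rc_6_1 lc_b_rc_7_2 lc_b_rc_10_2 lc_b_rc_8_2 lc_b_rc_6_1 lc_b_rc_1_5 lc_b_rc_8_0 lc_b_rc_8_0 lc_b_rc_26_1 lc_b_rc_1_1 lc_b_rc_9_2 lc_b_rc_9_0 lc_b_rc_8_2 lc_b_rc_10_2 lc_b_rc_9_2 lc_b_rc_6_1 lc_b_rc_7_2 lc_b_rc_9_2 lc_b_rc_26_7 lc_b_rc_9_2 lc_b_rc_6_1) (@D3.rec (fun _ => (Cert rels S Gen.b)) lc_b_rc_9_2 lc_b_rc_7_4 lc_b_rc_8_0 lc_b_rc_26_1 lc_b_rc_9_0 lc_b_rc_6_1 lc_b_rc_10_0 lc_b_rc_7_0 lc_b_rc_26_7 lc_b_rc_8_2 lc_b_rc_26_5 lc_b_rc_6_1 lc_b_rc_6_1 lc_b_rc_9_0 lc_b_rc_26_5 lc_b_rc_1_3 lc_b_rc_8_0 lc_b_rc_6_1 lc_b_rc_8_2 lc_b_rc_9_2 lc_b_rc_8_2 lc_b_rc_8_2 lc_b_rc_8_2 lc_b_rc_7_0 lc_b_rc_26_5 lc_b_rc_9_0 lc_b_rc_9_2 lc_b_rc_8_0 lc_b_rc_10_2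 lc_b_rc_6_1 lc_b_rc_8_2 lc_b_rc_9_2 lc_b_Cert_tree lc_b_rc_26_5 lc_b_rc_26_5 lc_b_rc_26_1 lc_b_rc_8_2 lc_b_rc_26_7 lc_b_rc_8_2 lc_b_rc_26_1 lc_b_rc_26_1 lc_b_rc_9_2 lc_b_rc_6_1 lc_b_rc_9_2 lc_b_rc_8_2 lc_b_rc_9_2 lc_b_rc_8_0 lc_b_rc_8_2 lc_b_rc_26_5 lc_b_rc_8_2 lc_b_rc_9_2 lc_b_rc_9_2 lc_b_Cert_tree lc_b_rc_8_2 lc_b_rc_9_2 lc_b_rc_7_2 lc_b_rc_6_1 lc_b_Cert_tree lc_b_rc_9_2 lc_b_rc_9_2 lc_b_rc_8_2 lc_b_rc_8_2) (@D3.rec (fun _ => (Cert rels S Gen.b)) lc_b_rc_25_0 lc_b_rc_8_0 lc_b_rc_8_2 lc_b_rc_10_0 lc_b_rc_26_5 lc_b_rc_7_0 lc_b_rc_1_1 lc_b_rc_8_2 lc_b_Cert_tree lc_b_rc_8_0 lc_b_rc_8_0 lc_b_rc_6_1 lc_b_rc_8_0 lc_b_rc_9_2 lc_b_Cert_tree lc_b_Cert_tree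 lc_b_rc_9_2 lc_b_rc_10_2 lc_b_rc_6_1 lc_b_rc_8_2 lc_b_rc_9_2 lc_b_rc_6_1 lc_b_rc_6_1 lc_b_rc_7_0 lc_b_Cert_tree lc_b_rc_10_2 lc_b_Cert_tree lc_b_rc_10_2 lc_b_rc_1_1 lc_b_rc_1_5 lc_b_rc_9_2 lc_b_rc_25_4 lc_b_rc_6_1 lc_b_rc_26_7 lc_b_rc_26_7 lc_b_rc_8_0 lc_b_rc_10_2 lc_b_rc_8_2 lc_b_rc_9_0 lc_b_rc_7_2 lc_b_rc_8_2 lc_b_rc_9_2 lc_b_rc_6_1 lc_b_rc_9_2 lc_b_rc_9_0 lc_b_Cert_tree lc_b_rc_8_2 lc_b_rc_6_1 lc_b_rc_26_5 lc_b_rc_6_1 lc_b_rc_26_7 lc_b_rc_6_1 lc_b_rc_6_1 lc_b_rc_9_2 lc_b_rc_9_2 lc_b_Cert_tree lc_b_rc_9_2 lc_b_rc_9_2 lc_b_rc_6_1 lc_b_rc_1_5 lc_b_rc_10_0 lc_b_rc_7_2) (@D3.rec (fun _ => (Cert rels S Gen.b)) lc_b_rc_9_2 lc_b_rc_8_2 lc_b_rc_9_2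 lc_b_rc_25_12 lc_b_rc_7_4 lc_b_Cert_tree lc_b_rc_7_2 lc_b_rc_8_2 lc_b_rc_6_1 lc_b_rc_9_0 lc_b_rc_10_0 lc_b_rc_10_0 lc_b_Cert_tree lc_b_rc_6_1 lc_b_rc_6_1 lc_b_rc_8_2 lc_b_rc_8_2 lc_b_rc_7_2 lc_b_rc_7_4 lc_b_rc_9_2 lc_b_rc_8_2 lc_b_rc_8_2 lc_b_rc_7_2 lc_b_rc_8_2 lc_b_rc_1_1 lc_b_rc_8_2 lc_b_rc_8_2 lc_b_rc_9_2 lc_b_rc_26_1 lc_b_Cert_tree lc_b_rc_9_2 lc_b_rc_8_2 lc_b_rc_25_8 lc_b_Cert_tree lc_b_rc_6_1 lc_b_rc_8_2 lc_b_rc_7_4 lc_b_rc_1_3 lc_b_rc_9_2 lc_b_rc_10_2 lc_b_Cert_tree lc_b_rc_7_4 lc_b_rc_9_2 lc_b_rc_26_5 lc_b_rc_1_3 lc_b_Cert_tree lc_b_rc_6_1 lc_b_rc_6_1 lc_b_rc_8_2 lc_b_rc_8_2 lc_b_rc_9_2 lc_b_rc_6_1 lc_b_rc_1_3 lc_b_rc_9_2 lc_b_rc_9_2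 lc_b_rc_8_2 lc_b_rc_9_2 lc_b_rc_6_1 lc_b_rc_8_2 lc_b_rc_26_7 lc_b_rc_8_2 lc_b_Cert_tree) (@D3.rec (fun _ => (Cert rels S Gen.b)) lc_b_rc_8_2 lc_b_rc_9_2 lc_b_rc_6_1 lc_b_rc_8_2 lc_b_rc_26_5 lc_b_Cert_tree lc_b_rc_6_1 lc_b_rc_26_5 lc_b_rc_26_7 lc_b_rc_26_7 lc_b_rc_8_2 lc_b_rc_9_2 lc_b_rc_6_1 lc_b_rc_8_2 lc_b_rc_9_2 lc_b_rc_26_5 lc_b_Cert_tree lc_b_rc_7_4 lc_b_rc_7_2 lc_b_rc_8_0 lc_b_rc_9_2 lc_b_Cert_tree lc_b_rc_26_5 lc_b_rc_6_1 lc_b_rc_9_2 lc_b_rc_8_2 lc_b_rc_6_1 lc_b_rc_6_1 lc_b_rc_8_0 lc_b_rc_1_3 lc_b_rc_9_2 lc_b_rc_9_2 lc_b_Cert_tree lc_b_Cert_tree lc_b_rc_8_2 lc_b_rc_10_2 lc_b_Cert_tree lc_b_Cert_tree lc_b_rc_10_2 lc_b_rc_10_2 lc_b_rc_6_1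 lc_b_rc_8_2 lc_b_rc_6_1 lc_b_rc_8_2 lc_b_Cert_tree lc_b_rc_10_2 lc_b_rc_10_2 lc_b_rc_6_1 lc_b_rc_8_2 lc_b_rc_9_2 lc_b_rc_6_1 lc_b_rc_6_1 lc_b_rc_8_2 lc_b_rc_1_3 lc_b_rc_9_2 lc_b_Cert_tree lc_b_rc_8_2 lc_b_rc_10_2 lc_b_rc_6_1 lc_b_rc_1_5 lc_b_rc_1_5 lc_b_rc_6_1) (@D3.rec (fun _ => (Cert rels S Gen.b)) lc_b_rc_1_1 lc_b_rc_1_3 lc_b_rc_7_0 lc_b_rc_6_1 lc_b_rc_7_4 lc_b_rc_9_2 lc_b_Cert_tree lc_b_rc_7_2 lc_b_rc_8_2 lc_b_rc_10_2 lc_b_rc_6_1 lc_b_Cert_tree lc_b_rc_8_2 lc_b_rc_10_2 lc_b_rc_9_2 lc_b_rc_6_1 lc_b_rc_10_2 lc_b_Cert_tree lc_b_rc_10_2 lc_b_rc_6_1 lc_b_rc_9_2 lc_b_rc_6_1 lc_b_Cert_tree lc_b_rc_6_1 lc_b_rc_9_2 lc_b_rc_26_5 lc_b_rc_1_3 lc_b_rc_1_3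 lc_b_rc_9_2 lc_b_rc_6_1 lc_b_rc_1_1 lc_b_rc_8_2 lc_b_rc_9_2 lc_b_rc_6_1 lc_b_rc_1_5 lc_b_rc_7_4 lc_b_rc_9_2 lc_b_rc_9_0 lc_b_rc_8_2 lc_b_rc_10_2 lc_b_rc_10_2 lc_b_rc_7_2 lc_b_rc_8_2 lc_b_rc_10_2 lc_b_rc_9_0 lc_b_rc_9_2 lc_b_rc_10_2 lc_b_rc_6_1 lc_b_rc_9_2 lc_b_rc_10_0 lc_b_rc_9_2 lc_b_rc_1_3 lc_b_rc_1_3 lc_b_Cert_tree lc_b_rc_25_4 lc_b_rc_7_2 lc_b_rc_9_2 lc_b_Cert_tree lc_b_rc_8_2 lc_b_rc_9_0 lc_b_rc_8_2 lc_b_rc_8_2) (@D3.rec (fun _ => (Cert rels S Gen.b)) lc_b_rc_10_2 lc_b_Cert_tree lc_b_Cert_tree lc_b_rc_9_2 lc_b_rc_9_2 lc_b_rc_8_2 lc_b_rc_8_2 lc_b_rc_8_0 lc_b_rc_8_2 lc_b_rc_9_2 lc_b_rc_9_2 lc_b_rc_26_5 lc_b_rc_8_2 lc_b_rc_8_2 lc_b_rc_1_5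 lc_b_rc_7_2 lc_b_Cert_tree lc_b_rc_6_1 lc_b_rc_10_2 lc_b_rc_9_2 lc_b_rc_6_1 lc_b_rc_6_1 lc_b_rc_9_2 lc_b_Cert_tree lc_b_rc_26_5 lc_b_rc_7_0 lc_b_rc_26_7 lc_b_rc_26_7 lc_b_rc_26_5 lc_b_rc_9_2 lc_b_rc_1_5 lc_b_rc_9_2 lc_b_rc_6_1 lc_b_rc_9_2 lc_b_rc_7_2 lc_b_rc_9_2 lc_b_rc_26_1 lc_b_rc_1_3 lc_b_rc_26_7 lc_b_rc_6_1 lc_b_rc_10_0 lc_b_rc_8_0 lc_b_rc_26_1 lc_b_rc_26_5 lc_b_rc_6_1 lc_b_rc_6_1 lc_b_rc_7_0 lc_b_rc_6_1 lc_b_rc_10_2 lc_b_rc_6_1 lc_b_rc_8_0 lc_b_rc_8_2 lc_b_rc_1_3 lc_b_rc_8_2 lc_b_rc_9_2 lc_b_Cert_tree lc_b_rc_9_0 lc_b_rc_9_2 lc_b_rc_6_1 lc_b_rc_9_2 lc_b_rc_6_1 lc_b_rc_6_1) (@D3.rec (fun _ => (Cert rels S Gen.b)) lc_b_rc_25_16 lc_b_rc_6_1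 lc_b_rc_8_2 lc_b_rc_10_2 lc_b_rc_8_2 lc_b_rc_6_1 lc_b_rc_8_2 lc_b_rc_1_3 lc_b_rc_8_2 lc_b_rc_9_2 lc_b_rc_9_2 lc_b_rc_10_2 lc_b_Cert_tree lc_b_rc_8_2 lc_b_Cert_tree lc_b_Cert_tree lc_b_rc_7_2 lc_b_rc_1_3 lc_b_rc_8_2 lc_b_rc_1_3 lc_b_rc_6_1 lc_b_rc_26_5 lc_b_rc_6_1 lc_b_rc_9_2 lc_b_rc_8_2 lc_b_rc_26_5 lc_b_rc_9_2 lc_b_rc_9_0 lc_b_rc_6_1 lc_b_rc_8_2 lc_b_rc_9_2 lc_b_rc_6_1 lc_b_rc_7_2 lc_b_rc_26_5 lc_b_rc_8_2 lc_b_rc_6_1 lc_b_rc_9_2 lc_b_rc_8_0 lc_b_rc_8_2 lc_b_rc_26_5 lc_b_rc_6_1 lc_b_Cert_tree lc_b_rc_7_2 lc_b_rc_8_2 lc_b_rc_7_4 lc_b_rc_8_2 lc_b_rc_8_2 lc_b_rc_6_1 lc_b_rc_6_1 lc_b_rc_8_2 lc_b_rc_9_2 lc_b_rc_9_2 lc_b_Cert_tree lc_b_rc_6_1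 lc_b_rc_1_3 lc_b_rc_6_1 lc_b_Cert_tree lc_b_rc_1_3 lc_b_rc_9_2 lc_b_rc_8_2 lc_b_rc_6_1 lc_b_rc_6_1) (@D3.rec (fun _ => (Cert rels S Gen.b)) lc_b_rc_9_2 lc_b_rc_8_2 lc_b_rc_7_2 lc_b_rc_7_2 lc_b_rc_9_2 lc_b_Cert_tree lc_b_rc_8_0 lc_b_rc_8_2 lc_b_rc_10_2 lc_b_rc_7_0 lc_b_Cert_tree lc_b_rc_8_2 lc_b_rc_10_2 lc_b_rc_6_1 lc_b_rc_8_2 lc_b_rc_6_1 lc_b_rc_6_1 lc_b_rc_10_2 lc_b_Cert_tree lc_b_rc_26_7 lc_b_rc_8_0 lc_b_rc_8_2 lc_b_rc_6_1 lc_b_rc_8_2 lc_b_rc_6_1 lc_b_rc_8_2 lc_b_rc_26_1 lc_b_rc_6_1 lc_b_rc_26_7 lc_b_rc_9_2 lc_b_rc_7_0 lc_b_rc_26_7 lc_b_rc_8_2 lc_b_rc_1_1 lc_b_rc_6_1 lc_b_rc_6_1 lc_b_rc_6_1 lc_b_Cert_tree lc_b_rc_9_0 lc_b_rc_9_0 lc_b_rc_7_2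 lc_b_rc_10_2 lc_b_rc_7_4 lc_b_rc_26_5 lc_b_rc_8_0 lc_b_rc_9_0 lc_b_rc_10_2 lc_b_rc_6_1 lc_b_rc_1_3 lc_b_rc_7_4 lc_b_rc_8_2 lc_b_rc_9_2 lc_b_rc_8_2 lc_b_rc_8_0 lc_b_rc_26_5 lc_b_rc_9_2 lc_b_rc_10_0 lc_b_rc_26_5 lc_b_rc_8_2 lc_b_rc_10_2 lc_b_rc_8_0 lc_b_rc_6_1) (@D3.rec (fun _ => (Cert rels S Gen.b)) lc_b_rc_6_1 lc_b_rc_8_2 lc_b_rc_26_5 lc_b_rc_26_5 lc_b_rc_1_5 lc_b_rc_26_5 lc_b_rc_8_2 lc_b_rc_9_2 lc_b_rc_26_1 lc_b_rc_6_1 lc_b_rc_9_0 lc_b_Cert_tree lc_b_rc_8_2 lc_b_rc_26_5 lc_b_rc_6_1 lc_b_rc_8_2 lc_b_rc_9_2 lc_b_rc_8_2 lc_b_rc_7_2 lc_b_rc_6_1 lc_b_rc_8_2 lc_b_rc_6_1 lc_b_rc_8_2 lc_b_rc_25_4 lc_b_rc_6_1 lc_b_rc_8_2 lc_b_Cert_tree lc_b_rc_7_2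 lc_b_rc_7_2 lc_b_Cert_tree lc_b_rc_7_4 lc_b_rc_6_1 lc_b_Cert_tree lc_b_rc_26_7 lc_b_rc_8_2 lc_b_rc_7_4 lc_b_rc_9_2 lc_b_rc_6_1 lc_b_rc_8_0 lc_b_rc_26_1 lc_b_rc_8_2 lc_b_rc_6_1 lc_b_Cert_tree lc_b_rc_8_2 lc_b_rc_6_1 lc_b_rc_7_4 lc_b_rc_8_2 lc_b_rc_9_2 lc_b_rc_10_2 lc_b_rc_7_0 lc_b_rc_9_0 lc_b_rc_26_5 lc_b_rc_7_4 lc_b_rc_7_2 lc_b_rc_6_1 lc_b_rc_1_5 lc_b_rc_26_5 lc_b_rc_6_1 lc_b_rc_10_2 lc_b_rc_9_0 lc_b_rc_6_1 lc_b_rc_8_2)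
def ce_b_20 : D2 → D3 → (Cert rels S Gen.b) := @D2.rec (fun _ => D3 → (Cert rels S Gen.b)) (@D3.rec (fun _ => (Cert rels S Gen.b)) lc_b_rc_9_2 lc_b_rc_26_5 lc_b_rc_6_1 lc_b_rc_9_2 lc_b_rc_9_2 lc_b_rc_9_2 lc_b_rc_6_1 lc_b_rc_10_2 lc_b_rc_9_2 lc_b_rc_6_1 lc_b_rc_26_5 lc_b_rc_8_0 lc_b_rc_10_2 lc_b_rc_9_2 lc_b_rc_8_2 lc_b_rc_26_5 lc_b_rc_6_1 lc_b_rc_25_4 lc_b_rc_8_0 lc_b_rc_6_1 lc_b_rc_9_2 lc_b_rc_9_2 lc_b_rc_9_2 lc_b_rc_6_1 lc_b_rc_9_0 lc_b_rc_10_2 lc_b_rc_1_3 lc_b_rc_26_7 lc_b_rc_6_1 lc_b_rc_8_2 lc_b_rc_26_1 lc_b_rc_6_1 lc_b_rc_26_5 lc_b_rc_8_0 lc_b_rc_26_5 lc_b_rc_8_2 lc_b_rc_9_0 lc_b_rc_1_1 lc_b_rc_26_7 lc_b_rc_26_5 lc_b_rc_10_2 lc_b_rc_6_1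 lc_b_rc_10_2 lc_b_rc_7_2 lc_b_rc_1_3 lc_b_rc_8_2 lc_b_rc_9_2 lc_b_rc_9_2 lc_b_rc_9_0 lc_b_rc_25_4 lc_b_rc_7_0 lc_b_rc_10_2 lc_b_rc_8_2 lc_b_rc_6_1 lc_b_rc_8_2 lc_b_rc_9_2 lc_b_rc_7_0 lc_b_rc_26_5 lc_b_rc_10_2 lc_b_rc_6_1 lc_b_rc_26_1 lc_b_rc_8_2) (@D3.rec (fun _ => (Cert rels S Gen.b)) lc_b_rc_9_2 lc_b_Cert_tree lc_b_rc_9_2 lc_b_rc_9_0 lc_b_rc_8_0 lc_b_rc_8_2 lc_b_rc_26_5 lc_b_rc_7_4 lc_b_rc_8_0 lc_b_rc_26_5 lc_b_rc_7_0 lc_b_rc_1_1 lc_b_rc_8_2 lc_b_rc_9_2 lc_b_rc_6_1 lc_b_rc_7_4 lc_b_rc_8_2 lc_b_rc_9_2 lc_b_rc_7_4 lc_b_rc_26_5 lc_b_rc_9_2 lc_b_rc_9_2 lc_b_rc_6_1 lc_b_rc_8_0 lc_b_rc_9_2 lc_b_rc_6_1 lc_b_rc_8_2 lc_b_rc_9_0 lc_b_rc_26_5 lc_b_rc_8_2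 lc_b_rc_9_2 lc_b_rc_9_2 lc_b_rc_26_7 lc_b_rc_26_1 lc_b_rc_8_2 lc_b_rc_9_2 lc_b_rc_6_1 lc_b_rc_8_2 lc_b_rc_8_0 lc_b_rc_6_1 lc_b_rc_8_2 lc_b_Cert_tree lc_b_rc_6_1 lc_b_rc_8_2 lc_b_rc_6_1 lc_b_rc_8_2 lc_b_rc_6_1 lc_b_rc_6_1 lc_b_rc_9_2 lc_b_rc_8_2 lc_b_rc_6_1 lc_b_Cert_tree lc_b_rc_8_0 lc_b_rc_9_2 lc_b_rc_8_2 lc_b_rc_7_4 lc_b_rc_6_1 lc_b_rc_7_4 lc_b_rc_9_2 lc_b_rc_9_2 lc_b_rc_8_2 lc_b_rc_10_2) (@D3.rec (fun _ => (Cert rels S Gen.b)) lc_b_rc_9_2 lc_b_rc_6_1 lc_b_rc_7_4 lc_b_rc_9_2 lc_b_rc_8_2 lc_b_rc_6_1 lc_b_rc_26_5 lc_b_rc_9_2 lc_b_rc_7_4 lc_b_rc_7_2 lc_b_rc_6_1 lc_b_rc_9_2 lc_b_rc_6_1 lc_b_rc_9_2 lc_b_rc_1_3 lc_b_Cert_tree lc_b_Cert_tree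 lc_b_rc_8_2 lc_b_rc_10_2 lc_b_rc_6_1 lc_b_rc_1_3 lc_b_rc_6_1 lc_b_rc_26_1 lc_b_rc_8_0 lc_b_Cert_tree lc_b_rc_9_0 lc_b_Cert_tree lc_b_rc_10_2 lc_b_rc_9_0 lc_b_rc_9_2 lc_b_rc_1_3 lc_b_Cert_tree lc_b_rc_6_1 lc_b_rc_8_2 lc_b_rc_10_2 lc_b_rc_6_1 lc_b_rc_6_1 lc_b_rc_6_1 lc_b_rc_9_0 lc_b_rc_9_0 lc_b_Cert_tree lc_b_rc_10_2 lc_b_rc_6_1 lc_b_rc_8_2 lc_b_rc_6_1 lc_b_rc_8_2 lc_b_rc_7_0 lc_b_rc_26_5 lc_b_Cert_tree lc_b_Cert_tree lc_b_rc_8_2 lc_b_rc_10_2 lc_b_rc_1_3 lc_b_rc_8_2 lc_b_rc_6_1 lc_b_rc_8_2 lc_b_rc_6_1 lc_b_rc_9_2 lc_b_rc_6_1 lc_b_rc_26_1 lc_b_rc_1_3 lc_b_Cert_tree) (@D3.rec (fun _ => (Cert rels S Gen.b)) lc_b_rc_8_0 lc_b_rc_8_2 lc_b_rc_10_2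 lc_b_rc_8_2 lc_b_rc_7_4 lc_b_rc_6_1 lc_b_rc_6_1 lc_b_rc_9_2 lc_b_rc_9_2 lc_b_rc_9_0 lc_b_rc_26_5 lc_b_rc_10_2 lc_b_rc_26_1 lc_b_rc_1_3 lc_b_rc_9_2 lc_b_rc_26_7 lc_b_rc_8_2 lc_b_rc_10_2 lc_b_rc_7_2 lc_b_rc_9_0 lc_b_rc_6_1 lc_b_rc_9_2 lc_b_rc_9_2 lc_b_rc_6_1 lc_b_rc_8_2 lc_b_rc_6_1 lc_b_rc_10_2 lc_b_rc_8_2 lc_b_rc_9_2 lc_b_Cert_tree lc_b_rc_6_1 lc_b_Cert_tree lc_b_rc_26_5 lc_b_rc_26_5 lc_b_rc_1_3 lc_b_rc_8_2 lc_b_rc_26_7 lc_b_rc_6_1 lc_b_rc_9_0 lc_b_rc_26_7 lc_b_rc_8_0 lc_b_rc_9_0 lc_b_rc_7_4 lc_b_rc_26_1 lc_b_rc_6_1 lc_b_rc_8_0 lc_b_rc_1_3 lc_b_rc_8_2 lc_b_rc_9_2 lc_b_Cert_tree lc_b_rc_10_2 lc_b_Cert_tree lc_b_rc_9_2 lc_b_rc_7_0 lc_b_rc_9_2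 lc_b_rc_8_2 lc_b_Cert_tree lc_b_rc_9_2 lc_b_rc_6_1 lc_b_rc_8_2 lc_b_Cert_tree lc_b_rc_6_1) (@D3.rec (fun _ => (Cert rels S Gen.b)) lc_b_rc_26_1 lc_b_Cert_tree lc_b_rc_6_1 lc_b_rc_7_0 lc_b_rc_6_1 lc_b_rc_1_5 lc_b_rc_7_0 lc_b_Cert_tree lc_b_rc_8_2 lc_b_Cert_tree lc_b_rc_7_4 lc_b_rc_6_1 lc_b_rc_6_1 lc_b_rc_8_2 lc_b_rc_7_4 lc_b_rc_9_2 lc_b_rc_7_4 lc_b_rc_26_1 lc_b_rc_25_16 lc_b_rc_10_2 lc_b_rc_6_1 lc_b_rc_26_1 lc_b_rc_8_2 lc_b_rc_9_2 lc_b_rc_7_4 lc_b_rc_9_0 lc_b_rc_26_7 lc_b_rc_8_2 lc_b_rc_10_2 lc_b_rc_26_7 lc_b_rc_10_2 lc_b_rc_7_0 lc_b_rc_10_0 lc_b_rc_9_2 lc_b_rc_8_2 lc_b_rc_9_2 lc_b_Cert_tree lc_b_rc_9_2 lc_b_rc_9_0 lc_b_rc_8_2 lc_b_rc_10_2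 lc_b_rc_9_2 lc_b_Cert_tree lc_b_rc_8_2 lc_b_rc_10_2 lc_b_rc_6_1 lc_b_rc_26_5 lc_b_rc_1_5 lc_b_rc_9_0 lc_b_rc_8_0 lc_b_rc_7_0 lc_b_rc_6_1 lc_b_rc_9_0 lc_b_rc_9_2 lc_b_Cert_tree lc_b_rc_6_1 lc_b_rc_8_2 lc_b_rc_9_2 lc_b_rc_9_2 lc_b_Cert_tree lc_b_rc_9_0 lc_b_rc_7_2) (@D3.rec (fun _ => (Cert rels S Gen.b)) lc_b_rc_8_2 lc_b_rc_8_2 lc_b_rc_6_1 lc_b_rc_8_0 lc_b_rc_10_0 lc_b_rc_10_2 lc_b_rc_6_1 lc_b_rc_8_2 lc_b_rc_6_1 lc_b_rc_8_2 lc_b_rc_25_16 lc_b_rc_8_2 lc_b_rc_10_0 lc_b_rc_9_2 lc_b_Cert_tree lc_b_rc_6_1 lc_b_rc_26_1 lc_b_rc_9_2 lc_b_rc_26_5 lc_b_rc_26_1 lc_b_rc_8_2 lc_b_rc_6_1 lc_b_rc_10_0 lc_b_Cert_tree lc_b_Cert_tree lc_b_rc_7_2 lc_b_rc_9_2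 lc_b_rc_6_1 lc_b_rc_26_7 lc_b_rc_8_2 lc_b_rc_8_2 lc_b_rc_9_0 lc_b_rc_6_1 lc_b_rc_26_5 lc_b_rc_6_1 lc_b_rc_1_3 lc_b_rc_9_2 lc_b_rc_9_0 lc_b_rc_25_16 lc_b_rc_7_4 lc_b_rc_6_1 lc_b_rc_6_1 lc_b_rc_1_3 lc_b_rc_10_2 lc_b_rc_9_0 lc_b_rc_9_2 lc_b_rc_1_3 lc_b_rc_9_2 lc_b_rc_1_5 lc_b_rc_10_0 lc_b_rc_10_2 lc_b_rc_9_2 lc_b_rc_9_2 lc_b_rc_7_0 lc_b_rc_10_2 lc_b_rc_7_2 lc_b_rc_6_1 lc_b_rc_6_1 lc_b_Cert_tree lc_b_rc_8_0 lc_b_rc_10_2 lc_b_rc_6_1) (@D3.rec (fun _ => (Cert rels S Gen.b)) lc_b_rc_8_2 lc_b_rc_1_5 lc_b_rc_1_3 lc_b_rc_8_2 lc_b_rc_9_2 lc_b_rc_10_0 lc_b_rc_25_4 lc_b_rc_26_5 lc_b_rc_7_0 lc_b_rc_9_0 lc_b_rc_7_2 lc_b_rc_6_1 lc_b_rc_10_2 lc_b_rc_1_1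 lc_b_rc_10_2 lc_b_rc_9_2 lc_b_rc_6_1 lc_b_rc_9_0 lc_b_rc_8_2 lc_b_rc_9_2 lc_b_rc_26_1 lc_b_rc_8_0 lc_b_rc_9_2 lc_b_rc_6_1 lc_b_rc_8_2 lc_b_rc_9_2 lc_b_rc_9_2 lc_b_rc_7_4 lc_b_rc_9_2 lc_b_rc_7_0 lc_b_rc_6_1 lc_b_rc_9_0 lc_b_rc_8_2 lc_b_Cert_tree lc_b_rc_8_2 lc_b_Cert_tree lc_b_rc_8_0 lc_b_rc_9_2 lc_b_rc_7_0 lc_b_rc_6_1 lc_b_rc_9_2 lc_b_rc_9_2 lc_b_rc_8_2 lc_b_rc_6_1 lc_b_rc_6_1 lc_b_rc_6_1 lc_b_rc_10_0 lc_b_rc_9_2 lc_b_rc_10_2 lc_b_rc_7_4 lc_b_rc_8_2 lc_b_rc_26_1 lc_b_rc_6_1 lc_b_rc_25_16 lc_b_rc_6_1 lc_b_rc_6_1 lc_b_rc_1_1 lc_b_rc_10_2 lc_b_rc_9_2 lc_b_rc_1_3 lc_b_rc_9_0 lc_b_rc_26_7) (@D3.rec (fun _ => (Cert rels S Gen.b)) lc_b_rc_8_0 lc_b_rc_1_3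 lc_b_rc_9_2 lc_b_rc_6_1 lc_b_rc_6_1 lc_b_rc_6_1 lc_b_rc_9_2 lc_b_rc_26_5 lc_b_rc_9_0 lc_b_rc_8_2 lc_b_Cert_tree lc_b_rc_10_2 lc_b_rc_26_1 lc_b_rc_6_1 lc_b_rc_7_4 lc_b_rc_8_2 lc_b_rc_10_0 lc_b_rc_8_2 lc_b_rc_9_0 lc_b_rc_8_2 lc_b_rc_10_2 lc_b_rc_8_2 lc_b_rc_26_5 lc_b_rc_9_2 lc_b_rc_8_0 lc_b_Cert_tree lc_b_rc_10_2 lc_b_Cert_tree lc_b_rc_10_0 lc_b_rc_1_1 lc_b_rc_6_1 lc_b_rc_8_0 lc_b_rc_6_1 lc_b_rc_8_2 lc_b_rc_26_1 lc_b_rc_26_1 lc_b_rc_1_5 lc_b_rc_6_1 lc_b_rc_26_7 lc_b_rc_6_1 lc_b_rc_8_2 lc_b_rc_1_5 lc_b_rc_9_2 lc_b_rc_6_1 lc_b_rc_8_0 lc_b_rc_6_1 lc_b_rc_6_1 lc_b_rc_26_7 lc_b_rc_8_2 lc_b_rc_9_2 lc_b_rc_6_1 lc_b_rc_10_0 lc_b_rc_9_0 lc_b_rc_8_2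 lc_b_rc_9_2 lc_b_rc_10_2 lc_b_rc_8_2 lc_b_rc_26_1 lc_b_rc_8_2 lc_b_rc_9_2 lc_b_rc_8_0 lc_b_rc_8_2) (@D3.rec (fun _ => (Cert rels S Gen.b)) lc_b_rc_26_1 lc_b_rc_9_2 lc_b_rc_9_0 lc_b_rc_8_0 lc_b_rc_8_2 lc_b_rc_26_5 lc_b_Cert_tree lc_b_rc_6_1 lc_b_rc_26_7 lc_b_rc_8_2 lc_b_rc_8_2 lc_b_rc_7_2 lc_b_rc_1_5 lc_b_rc_10_2 lc_b_rc_6_1 lc_b_rc_6_1 lc_b_rc_7_4 lc_b_rc_1_1 lc_b_rc_8_2 lc_b_rc_26_1 lc_b_rc_8_2 lc_b_rc_9_2 lc_b_rc_8_0 lc_b_rc_10_2 lc_b_rc_9_2 lc_b_rc_9_2 lc_b_Cert_tree lc_b_rc_6_1 lc_b_rc_10_0 lc_b_rc_8_2 lc_b_rc_6_1 lc_b_rc_6_1 lc_b_rc_26_7 lc_b_Cert_tree lc_b_rc_9_0 lc_b_rc_10_2 lc_b_rc_8_2 lc_b_rc_9_2 lc_b_rc_8_2 lc_b_rc_9_2 lc_b_rc_1_5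 lc_b_rc_1_3 lc_b_rc_7_2 lc_b_rc_8_2 lc_b_rc_9_2 lc_b_rc_9_2 lc_b_rc_7_2 lc_b_rc_26_1 lc_b_rc_7_2 lc_b_rc_26_5 lc_b_rc_8_2 lc_b_rc_9_2 lc_b_rc_8_2 lc_b_rc_26_5 lc_b_rc_9_2 lc_b_rc_6_1 lc_b_rc_1_5 lc_b_Cert_tree lc_b_Cert_tree lc_b_rc_8_0 lc_b_rc_26_5 lc_b_rc_6_1) (@D3.rec (fun _ => (Cert rels S Gen.b)) lc_b_rc_10_0 lc_b_rc_10_2 lc_b_rc_8_2 lc_b_rc_8_2 lc_b_rc_8_2 lc_b_rc_8_0 lc_b_rc_6_1 lc_b_rc_7_2 lc_b_rc_9_2 lc_b_rc_8_2 lc_b_rc_8_2 lc_b_rc_7_4 lc_b_rc_6_1 lc_b_rc_26_7 lc_b_Cert_tree lc_b_rc_9_2 lc_b_rc_6_1 lc_b_rc_8_2 lc_b_rc_1_3 lc_b_rc_8_2 lc_b_rc_8_2 lc_b_rc_25_8 lc_b_rc_26_5 lc_b_Cert_tree lc_b_rc_25_4 lc_b_rc_10_2 lc_b_rc_9_2 lc_b_rc_8_0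 lc_b_rc_9_2 lc_b_rc_6_1 lc_b_rc_10_0 lc_b_rc_10_2 lc_b_rc_26_7 lc_b_rc_9_0 lc_b_rc_26_1 lc_b_rc_6_1 lc_b_rc_9_2 lc_b_rc_9_2 lc_b_rc_26_7 lc_b_rc_8_2 lc_b_rc_8_2 lc_b_rc_9_2 lc_b_rc_8_0 lc_b_rc_10_0 lc_b_rc_1_5 lc_b_rc_8_2 lc_b_rc_1_1 lc_b_rc_8_2 lc_b_rc_8_2 lc_b_rc_26_5 lc_b_rc_9_2 lc_b_rc_6_1 lc_b_rc_26_1 lc_b_rc_6_1 lc_b_rc_9_2 lc_b_rc_9_2 lc_b_rc_8_0 lc_b_rc_1_3 lc_b_rc_8_2 lc_b_rc_6_1 lc_b_rc_6_1 lc_b_rc_6_1) (@D3.rec (fun _ => (Cert rels S Gen.b)) lc_b_rc_26_7 lc_b_Cert_tree lc_b_rc_6_1 lc_b_rc_8_2 lc_b_rc_8_2 lc_b_rc_8_2 lc_b_rc_6_1 lc_b_rc_1_5 lc_b_rc_26_1 lc_b_rc_8_2 lc_b_rc_9_2 lc_b_Cert_tree lc_b_rc_26_5 lc_b_rc_6_1 lc_b_rc_9_2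 lc_b_rc_7_2 lc_b_Cert_tree lc_b_rc_8_2 lc_b_rc_6_1 lc_b_rc_7_4 lc_b_rc_6_1 lc_b_Cert_tree lc_b_rc_7_2 lc_b_rc_8_0 lc_b_rc_8_0 lc_b_rc_9_2 lc_b_Cert_tree lc_b_rc_8_2 lc_b_rc_9_2 lc_b_rc_9_2 lc_b_rc_26_5 lc_b_rc_7_4 lc_b_rc_26_5 lc_b_rc_10_2 lc_b_rc_6_1 lc_b_rc_7_2 lc_b_rc_9_2 lc_b_rc_9_2 lc_b_rc_7_4 lc_b_Cert_tree lc_b_rc_6_1 lc_b_rc_8_2 lc_b_rc_9_0 lc_b_rc_8_2 lc_b_rc_6_1 lc_b_rc_8_2 lc_b_rc_7_2 lc_b_rc_10_0 lc_b_rc_9_0 lc_b_rc_10_2 lc_b_rc_9_2 lc_b_rc_1_5 lc_b_rc_6_1 lc_b_rc_26_7 lc_b_rc_9_2 lc_b_rc_7_2 lc_b_rc_26_1 lc_b_rc_8_0 lc_b_rc_6_1 lc_b_rc_8_2 lc_b_rc_8_0 lc_b_rc_10_2) (@D3.rec (fun _ => (Cert rels S Gen.b)) lc_b_rc_6_1 lc_b_rc_8_2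 lc_b_rc_7_2 lc_b_rc_6_1 lc_b_rc_8_2 lc_b_rc_26_5 lc_b_rc_6_1 lc_b_rc_1_5 lc_b_rc_7_2 lc_b_rc_8_2 lc_b_rc_9_2 lc_b_rc_9_2 lc_b_Cert_tree lc_b_rc_26_1 lc_b_rc_8_2 lc_b_Cert_tree lc_b_rc_9_2 lc_b_rc_6_1 lc_b_Cert_tree lc_b_rc_9_2 lc_b_rc_6_1 lc_b_rc_9_2 lc_b_rc_6_1 lc_b_rc_9_2 lc_b_rc_6_1 lc_b_Cert_tree lc_b_rc_1_3 lc_b_rc_8_2 lc_b_rc_9_2 lc_b_rc_8_2 lc_b_rc_8_2 lc_b_rc_9_2 lc_b_rc_7_4 lc_b_rc_9_0 lc_b_rc_8_2 lc_b_rc_26_5 lc_b_rc_26_1 lc_b_rc_1_3 lc_b_rc_6_1 lc_b_rc_6_1 lc_b_rc_1_3 lc_b_rc_8_2 lc_b_rc_9_2 lc_b_rc_9_0 lc_b_rc_6_1 lc_b_rc_1_3 lc_b_rc_25_16 lc_b_rc_6_1 lc_b_rc_8_2 lc_b_rc_10_0 lc_b_rc_9_2 lc_b_rc_7_2 lc_b_rc_26_5 lc_b_rc_1_3 lc_b_rc_8_2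 lc_b_rc_9_2 lc_b_rc_8_0 lc_b_rc_7_2 lc_b_rc_8_2 lc_b_rc_6_1 lc_b_rc_1_5 lc_b_rc_6_1) (@D3.rec (fun _ => (Cert rels S Gen.b)) lc_b_rc_9_0 lc_b_Cert_tree lc_b_rc_9_2 lc_b_rc_10_2 lc_b_rc_6_1 lc_b_rc_26_5 lc_b_rc_10_2 lc_b_rc_6_1 lc_b_rc_7_0 lc_b_rc_6_1 lc_b_rc_26_5 lc_b_rc_7_4 lc_b_rc_8_2 lc_b_rc_6_1 lc_b_rc_8_2 lc_b_rc_26_7 lc_b_rc_26_7 lc_b_rc_6_1 lc_b_rc_8_2 lc_b_rc_9_2 lc_b_rc_1_3 lc_b_rc_8_0 lc_b_rc_26_7 lc_b_Cert_tree lc_b_rc_25_8 lc_b_rc_26_1 lc_b_rc_6_1 lc_b_rc_1_5 lc_b_rc_9_2 lc_b_rc_6_1 lc_b_rc_9_2 lc_b_rc_9_2 lc_b_rc_7_4 lc_b_rc_8_2 lc_b_rc_9_2 lc_b_rc_8_2 lc_b_rc_26_7 lc_b_rc_10_2 lc_b_rc_6_1 lc_b_rc_8_0 lc_b_rc_6_1 lc_b_rc_9_2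 lc_b_rc_9_0 lc_b_rc_10_2 lc_b_rc_6_1 lc_b_rc_6_1 lc_b_rc_10_2 lc_b_rc_9_0 lc_b_rc_6_1 lc_b_rc_9_2 lc_b_rc_8_2 lc_b_rc_8_0 lc_b_rc_8_0 lc_b_rc_8_2 lc_b_rc_8_0 lc_b_rc_7_0 lc_b_rc_26_7 lc_b_rc_8_0 lc_b_rc_8_2 lc_b_rc_1_1 lc_b_rc_8_2 lc_b_rc_9_2) (@D3.rec (fun _ => (Cert rels S Gen.b)) lc_b_rc_9_2 lc_b_rc_7_0 lc_b_rc_1_3 lc_b_rc_8_2 lc_b_rc_9_2 lc_b_rc_7_0 lc_b_rc_8_2 lc_b_rc_6_1 lc_b_rc_9_2 lc_b_rc_6_1 lc_b_rc_6_1 lc_b_rc_26_1 lc_b_rc_8_2 lc_b_rc_6_1 lc_b_rc_9_2 lc_b_rc_1_5 lc_b_rc_6_1 lc_b_rc_8_2 lc_b_rc_7_2 lc_b_rc_26_5 lc_b_Cert_tree lc_b_rc_9_2 lc_b_rc_1_5 lc_b_rc_8_2 lc_b_rc_9_2 lc_b_rc_8_2 lc_b_rc_10_2 lc_b_rc_7_2 lc_b_rc_8_2 lc_b_rc_9_2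 lc_b_rc_6_1 lc_b_rc_7_4 lc_b_rc_9_0 lc_b_rc_8_2 lc_b_rc_10_2 lc_b_rc_9_2 lc_b_rc_9_2 lc_b_rc_10_2 lc_b_rc_9_2 lc_b_rc_26_7 lc_b_rc_6_1 lc_b_rc_26_5 lc_b_rc_6_1 lc_b_rc_26_5 lc_b_rc_8_2 lc_b_rc_25_0 lc_b_rc_8_2 lc_b_rc_10_2 lc_b_rc_8_2 lc_b_rc_26_1 lc_b_rc_6_1 lc_b_rc_26_5 lc_b_rc_7_4 lc_b_rc_25_16 lc_b_rc_6_1 lc_b_rc_7_2 lc_b_rc_9_2 lc_b_rc_26_5 lc_b_rc_26_7 lc_b_rc_10_2 lc_b_rc_10_2 lc_b_rc_10_2) (@D3.rec (fun _ => (Cert rels S Gen.b)) lc_b_rc_10_2 lc_b_rc_9_2 lc_b_rc_9_2 lc_b_rc_9_2 lc_b_rc_6_1 lc_b_rc_6_1 lc_b_rc_9_2 lc_b_rc_7_2 lc_b_rc_26_1 lc_b_rc_26_5 lc_b_rc_9_2 lc_b_rc_1_5 lc_b_rc_8_2 lc_b_rc_9_2 lc_b_rc_26_5 lc_b_rc_6_1 lc_b_rc_8_0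 lc_b_rc_6_1 lc_b_rc_26_1 lc_b_rc_8_2 lc_b_rc_9_2 lc_b_rc_6_1 lc_b_rc_26_5 lc_b_rc_8_2 lc_b_rc_9_2 lc_b_rc_8_2 lc_b_rc_9_2 lc_b_rc_26_5 lc_b_rc_6_1 lc_b_rc_9_2 lc_b_Cert_tree lc_b_rc_7_0 lc_b_rc_8_2 lc_b_rc_10_2 lc_b_rc_1_5 lc_b_rc_10_0 lc_b_rc_6_1 lc_b_rc_8_2 lc_b_rc_8_0 lc_b_rc_6_1 lc_b_rc_26_1 lc_b_rc_26_1 lc_b_rc_9_2 lc_b_rc_8_2 lc_b_Cert_tree lc_b_Cert_tree lc_b_rc_9_0 lc_b_rc_7_2 lc_b_rc_8_2 lc_b_rc_9_2 lc_b_rc_7_2 lc_b_rc_8_2 lc_b_rc_8_0 lc_b_rc_8_2 lc_b_rc_26_1 lc_b_rc_8_2 lc_b_rc_8_2 lc_b_rc_1_1 lc_b_rc_9_2 lc_b_rc_9_0 lc_b_Cert_tree lc_b_rc_9_2) (@D3.rec (fun _ => (Cert rels S Gen.b)) lc_b_rc_8_2 lc_b_rc_10_2 lc_b_rc_9_2 lc_b_rc_8_2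 lc_b_rc_6_1 lc_b_rc_9_2 lc_b_rc_6_1 lc_b_rc_26_5 lc_b_rc_6_1 lc_b_Cert_tree lc_b_rc_8_2 lc_b_rc_7_4 lc_b_rc_26_7 lc_b_rc_26_5 lc_b_rc_1_5 lc_b_rc_8_2 lc_b_rc_6_1 lc_b_rc_6_1 lc_b_rc_7_2 lc_b_rc_8_0 lc_b_rc_8_2 lc_b_rc_9_2 lc_b_rc_7_4 lc_b_rc_7_4 lc_b_rc_7_2 lc_b_rc_9_0 lc_b_rc_6_1 lc_b_rc_9_0 lc_b_rc_26_7 lc_b_rc_6_1 lc_b_rc_9_2 lc_b_rc_7_4 lc_b_rc_1_5 lc_b_rc_9_2 lc_b_rc_8_0 lc_b_rc_8_0 lc_b_rc_10_2 lc_b_rc_25_0 lc_b_rc_9_2 lc_b_rc_6_1 lc_b_rc_26_5 lc_b_rc_6_1 lc_b_rc_26_5 lc_b_rc_9_2 lc_b_rc_10_0 lc_b_rc_8_0 lc_b_rc_8_2 lc_b_rc_1_5 lc_b_rc_1_5 lc_b_rc_1_5 lc_b_rc_6_1 lc_b_rc_7_4 lc_b_rc_8_2 lc_b_rc_6_1 lc_b_rc_26_5 lc_b_rc_8_0 lc_b_rc_8_2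 lc_b_rc_8_0 lc_b_rc_6_1 lc_b_rc_1_3 lc_b_rc_8_2 lc_b_rc_9_2) (@D3.rec (fun _ => (Cert rels S Gen.b)) lc_b_rc_9_0 lc_b_Cert_tree lc_b_rc_9_2 lc_b_rc_7_2 lc_b_rc_6_1 lc_b_rc_6_1 lc_b_rc_7_2 lc_b_rc_8_0 lc_b_rc_10_2 lc_b_rc_6_1 lc_b_Cert_tree lc_b_rc_26_7 lc_b_rc_1_5 lc_b_rc_6_1 lc_b_rc_26_5 lc_b_rc_8_2 lc_b_rc_26_7 lc_b_rc_26_5 lc_b_rc_9_2 lc_b_rc_8_0 lc_b_rc_8_0 lc_b_rc_26_1 lc_b_rc_8_2 lc_b_Cert_tree lc_b_rc_9_2 lc_b_rc_8_2 lc_b_Cert_tree lc_b_rc_1_5 lc_b_rc_1_5 lc_b_rc_26_1 lc_b_rc_10_2 lc_b_rc_25_0 lc_b_rc_1_1 lc_b_rc_6_1 lc_b_rc_8_2 lc_b_rc_6_1 lc_b_rc_6_1 lc_b_rc_8_2 lc_b_rc_9_2 lc_b_rc_26_5 lc_b_rc_8_2 lc_b_Cert_tree lc_b_rc_8_2 lc_b_rc_10_0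 lc_b_rc_9_2 lc_b_rc_1_3 lc_b_rc_8_2 lc_b_rc_7_4 lc_b_rc_8_2 lc_b_rc_9_0 lc_b_rc_6_1 lc_b_Cert_tree lc_b_rc_9_0 lc_b_rc_8_0 lc_b_rc_10_2 lc_b_Cert_tree lc_b_Cert_tree lc_b_rc_8_2 lc_b_rc_10_2 lc_b_rc_9_2 lc_b_rc_6_1 lc_b_rc_26_1) (@D3.rec (fun _ => (Cert rels S Gen.b)) lc_b_rc_8_2 lc_b_rc_6_1 lc_b_rc_8_2 lc_b_Cert_tree lc_b_rc_10_2 lc_b_rc_6_1 lc_b_rc_8_2 lc_b_rc_8_2 lc_b_rc_9_2 lc_b_rc_8_2 lc_b_rc_6_1 lc_b_rc_8_2 lc_b_rc_8_0 lc_b_rc_8_2 lc_b_rc_7_4 lc_b_rc_26_5 lc_b_rc_26_7 lc_b_rc_6_1 lc_b_rc_6_1 lc_b_rc_10_2 lc_b_rc_8_2 lc_b_rc_9_2 lc_b_rc_6_1 lc_b_rc_1_1 lc_b_rc_9_0 lc_b_rc_9_0 lc_b_rc_10_2 lc_b_rc_25_4 lc_b_rc_9_2 lc_b_rc_8_2 lc_b_rc_9_2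 lc_b_Cert_tree lc_b_rc_10_0 lc_b_rc_9_0 lc_b_rc_6_1 lc_b_rc_6_1 lc_b_rc_9_0 lc_b_rc_9_2 lc_b_rc_6_1 lc_b_rc_8_2 lc_b_rc_9_2 lc_b_Cert_tree lc_b_rc_8_0 lc_b_rc_6_1 lc_b_rc_8_2 lc_b_rc_26_5 lc_b_rc_25_0 lc_b_Cert_tree lc_b_rc_6_1 lc_b_Cert_tree lc_b_rc_8_2 lc_b_Cert_tree lc_b_rc_6_1 lc_b_rc_8_2 lc_b_rc_9_2 lc_b_rc_6_1 lc_b_rc_9_2 lc_b_rc_10_0 lc_b_rc_1_1 lc_b_rc_6_1 lc_b_rc_7_2 lc_b_rc_9_2) (@D3.rec (fun _ => (Cert rels S Gen.b)) lc_b_rc_6_1 lc_b_rc_8_2 lc_b_rc_9_2 lc_b_rc_6_1 lc_b_rc_25_4 lc_b_rc_6_1 lc_b_rc_8_2 lc_b_rc_7_2 lc_b_rc_1_3 lc_b_rc_8_2 lc_b_rc_9_2 lc_b_rc_26_1 lc_b_rc_8_2 lc_b_rc_8_0 lc_b_rc_9_2 lc_b_rc_26_1 lc_b_rc_26_7 lc_b_rc_26_1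 lc_b_rc_8_2 lc_b_rc_8_2 lc_b_rc_10_2 lc_b_rc_7_0 lc_b_rc_8_2 lc_b_rc_9_2 lc_b_rc_6_1 lc_b_rc_7_2 lc_b_rc_9_2 lc_b_rc_7_2 lc_b_rc_8_2 lc_b_rc_6_1 lc_b_rc_9_2 lc_b_rc_26_7 lc_b_Cert_tree lc_b_rc_9_2 lc_b_rc_6_1 lc_b_rc_1_1 lc_b_rc_9_2 lc_b_rc_6_1 lc_b_Cert_tree lc_b_rc_8_2 lc_b_rc_26_7 lc_b_rc_8_2 lc_b_rc_26_1 lc_b_rc_7_4 lc_b_rc_8_2 lc_b_rc_8_2 lc_b_rc_9_2 lc_b_rc_8_0 lc_b_rc_6_1 lc_b_rc_8_2 lc_b_rc_8_2 lc_b_rc_7_2 lc_b_rc_9_2 lc_b_rc_10_2 lc_b_rc_8_2 lc_b_rc_7_4 lc_b_rc_8_2 lc_b_rc_8_0 lc_b_rc_10_2 lc_b_rc_25_0 lc_b_rc_26_1 lc_b_rc_7_0) (@D3.rec (fun _ => (Cert rels S Gen.b)) lc_b_rc_8_0 lc_b_Cert_tree lc_b_rc_6_1 lc_b_rc_26_7 lc_b_rc_9_2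 lc_b_rc_7_4 lc_b_Cert_tree lc_b_rc_6_1 lc_b_rc_10_2 lc_b_rc_9_2 lc_b_rc_8_0 lc_b_rc_7_4 lc_b_rc_26_1 lc_b_rc_9_2 lc_b_rc_6_1 lc_b_rc_6_1 lc_b_rc_7_4 lc_b_rc_7_2 lc_b_rc_6_1 lc_b_rc_26_1 lc_b_rc_1_5 lc_b_rc_8_2 lc_b_rc_26_1 lc_b_rc_8_0 lc_b_Cert_tree lc_b_rc_6_1 lc_b_rc_26_7 lc_b_rc_9_0 lc_b_rc_6_1 lc_b_rc_9_0 lc_b_rc_8_0 lc_b_Cert_tree lc_b_rc_8_2 lc_b_rc_6_1 lc_b_rc_6_1 lc_b_rc_26_1 lc_b_rc_7_4 lc_b_rc_6_1 lc_b_rc_26_5 lc_b_rc_7_4 lc_b_rc_8_0 lc_b_rc_9_0 lc_b_rc_7_4 lc_b_rc_6_1 lc_b_rc_26_1 lc_b_rc_9_0 lc_b_rc_26_5 lc_b_rc_8_2 lc_b_rc_26_1 lc_b_rc_7_2 lc_b_rc_7_4 lc_b_rc_8_2 lc_b_rc_7_2 lc_b_rc_6_1 lc_b_rc_1_3 lc_b_rc_1_1 lc_b_rc_6_1 lc_b_rc_8_2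 lc_b_rc_8_2 lc_b_rc_6_1 lc_b_rc_10_2 lc_b_rc_9_0) (@D3.rec (fun _ => (Cert rels S Gen.b)) lc_b_rc_6_1 lc_b_rc_8_2 lc_b_rc_1_5 lc_b_rc_8_2 lc_b_rc_1_1 lc_b_rc_6_1 lc_b_rc_26_5 lc_b_rc_9_2 lc_b_rc_26_5 lc_b_rc_8_2 lc_b_rc_8_2 lc_b_rc_8_0 lc_b_rc_9_2 lc_b_rc_6_1 lc_b_rc_9_2 lc_b_rc_25_8 lc_b_rc_7_4 lc_b_Cert_tree lc_b_rc_1_5 lc_b_rc_8_2 lc_b_rc_7_2 lc_b_rc_6_1 lc_b_Cert_tree lc_b_Cert_tree lc_b_rc_10_0 lc_b_rc_6_1 lc_b_rc_10_0 lc_b_rc_6_1 lc_b_rc_8_2 lc_b_rc_7_2 lc_b_rc_9_2 lc_b_rc_6_1 lc_b_rc_8_2 lc_b_rc_6_1 lc_b_rc_25_16 lc_b_rc_26_5 lc_b_rc_6_1 lc_b_rc_1_5 lc_b_rc_6_1 lc_b_rc_9_0 lc_b_rc_8_0 lc_b_rc_9_2 lc_b_rc_6_1 lc_b_rc_25_4 lc_b_rc_8_2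 lc_b_rc_26_5 lc_b_rc_9_2 lc_b_rc_7_0 lc_b_rc_10_2 lc_b_rc_8_0 lc_b_rc_1_1 lc_b_rc_9_2 lc_b_Cert_tree lc_b_rc_6_1 lc_b_rc_8_0 lc_b_rc_6_1 lc_b_rc_9_2 lc_b_rc_9_2 lc_b_rc_8_0 lc_b_rc_9_2 lc_b_rc_9_2 lc_b_rc_10_2) (@D3.rec (fun _ => (Cert rels S Gen.b)) lc_b_rc_8_0 lc_b_rc_10_2 lc_b_rc_9_2 lc_b_rc_6_1 lc_b_rc_9_2 lc_b_rc_6_1 lc_b_rc_9_2 lc_b_rc_9_0 lc_b_rc_25_0 lc_b_rc_10_2 lc_b_rc_6_1 lc_b_rc_26_7 lc_b_rc_10_2 lc_b_rc_10_2 lc_b_rc_10_2 lc_b_rc_6_1 lc_b_rc_7_2 lc_b_rc_26_5 lc_b_rc_26_5 lc_b_rc_10_2 lc_b_rc_9_2 lc_b_rc_6_1 lc_b_Cert_tree lc_b_rc_9_0 lc_b_rc_9_0 lc_b_rc_8_2 lc_b_rc_10_2 lc_b_rc_10_0 lc_b_rc_8_0 lc_b_rc_9_2 lc_b_rc_6_1 lc_b_rc_6_1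 lc_b_rc_9_2 lc_b_rc_8_2 lc_b_rc_9_2 lc_b_rc_9_2 lc_b_rc_1_5 lc_b_rc_6_1 lc_b_rc_8_2 lc_b_rc_7_4 lc_b_rc_6_1 lc_b_rc_8_2 lc_b_rc_26_1 lc_b_rc_8_2 lc_b_rc_1_3 lc_b_rc_1_3 lc_b_rc_8_2 lc_b_rc_9_2 lc_b_rc_8_0 lc_b_rc_9_2 lc_b_rc_6_1 lc_b_rc_9_2 lc_b_rc_1_3 lc_b_rc_10_2 lc_b_rc_6_1 lc_b_Cert_tree lc_b_rc_8_2 lc_b_rc_8_2 lc_b_rc_26_5 lc_b_rc_9_2 lc_b_rc_8_2 lc_b_rc_8_0) (@D3.rec (fun _ => (Cert rels S Gen.b)) lc_b_rc_10_2 lc_b_rc_26_5 lc_b_rc_8_2 lc_b_rc_10_2 lc_b_rc_8_2 lc_b_rc_10_2 lc_b_rc_6_1 lc_b_rc_8_2 lc_b_rc_6_1 lc_b_rc_8_0 lc_b_rc_8_2 lc_b_rc_9_2 lc_b_rc_26_7 lc_b_rc_9_2 lc_b_rc_1_1 lc_b_rc_6_1 lc_b_rc_6_1 lc_b_rc_26_5 lc_b_rc_6_1 lc_b_rc_9_0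 lc_b_rc_1_3 lc_b_rc_6_1 lc_b_rc_8_0 lc_b_rc_26_5 lc_b_rc_9_2 lc_b_rc_10_0 lc_b_rc_10_2 lc_b_rc_9_2 lc_b_rc_26_5 lc_b_rc_8_2 lc_b_rc_8_2 lc_b_rc_9_2 lc_b_Cert_tree lc_b_rc_8_2 lc_b_rc_8_2 lc_b_rc_9_2 lc_b_rc_6_1 lc_b_rc_6_1 lc_b_rc_8_2 lc_b_rc_9_2 lc_b_rc_8_2 lc_b_rc_10_2 lc_b_rc_6_1 lc_b_rc_10_2 lc_b_rc_26_1 lc_b_rc_8_2 lc_b_rc_8_2 lc_b_rc_10_2 lc_b_rc_6_1 lc_b_rc_26_1 lc_b_rc_9_2 lc_b_rc_9_2 lc_b_rc_8_2 lc_b_rc_6_1 lc_b_rc_10_0 lc_b_rc_7_4 lc_b_rc_9_2 lc_b_rc_8_0 lc_b_rc_10_2 lc_b_rc_1_3 lc_b_rc_8_2 lc_b_rc_1_1) (@D3.rec (fun _ => (Cert rels S Gen.b)) lc_b_rc_6_1 lc_b_rc_10_2 lc_b_rc_8_2 lc_b_rc_6_1 lc_b_rc_8_2 lc_b_rc_9_2 lc_b_rc_10_2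 lc_b_rc_6_1 lc_b_rc_9_2 lc_b_rc_9_0 lc_b_rc_8_2 lc_b_rc_9_2 lc_b_rc_7_4 lc_b_rc_8_0 lc_b_rc_8_2 lc_b_rc_8_2 lc_b_rc_10_0 lc_b_rc_6_1 lc_b_rc_26_5 lc_b_rc_8_2 lc_b_rc_8_2 lc_b_rc_8_2 lc_b_rc_6_1 lc_b_Cert_tree lc_b_Cert_tree lc_b_rc_8_2 lc_b_rc_26_5 lc_b_rc_8_2 lc_b_Cert_tree lc_b_rc_9_2 lc_b_rc_26_5 lc_b_rc_6_1 lc_b_rc_9_0 lc_b_rc_8_2 lc_b_rc_8_2 lc_b_rc_9_2 lc_b_rc_8_2 lc_b_Cert_tree lc_b_rc_8_2 lc_b_Cert_tree lc_b_rc_9_2 lc_b_rc_8_0 lc_b_rc_6_1 lc_b_rc_8_2 lc_b_rc_8_2 lc_b_Cert_tree lc_b_Cert_tree lc_b_rc_8_2 lc_b_Cert_tree lc_b_rc_1_1 lc_b_rc_6_1 lc_b_rc_8_0 lc_b_rc_8_2 lc_b_rc_9_2 lc_b_Cert_tree lc_b_rc_6_1 lc_b_Cert_tree lc_b_Cert_tree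 lc_b_rc_6_1 lc_b_rc_8_2 lc_b_rc_10_2 lc_b_rc_8_2) (@D3.rec (fun _ => (Cert rels S Gen.b)) lc_b_rc_8_2 lc_b_rc_6_1 lc_b_rc_8_0 lc_b_rc_6_1 lc_b_rc_26_1 lc_b_rc_26_5 lc_b_rc_7_2 lc_b_rc_9_2 lc_b_rc_26_7 lc_b_rc_7_2 lc_b_Cert_tree lc_b_rc_6_1 lc_b_rc_6_1 lc_b_rc_26_1 lc_b_rc_26_5 lc_b_rc_8_2 lc_b_rc_9_2 lc_b_rc_8_2 lc_b_rc_8_2 lc_b_Cert_tree lc_b_rc_9_2 lc_b_rc_8_2 lc_b_rc_26_5 lc_b_rc_26_5 lc_b_rc_8_2 lc_b_rc_6_1 lc_b_rc_1_1 lc_b_rc_10_2 lc_b_rc_8_2 lc_b_rc_9_2 lc_b_rc_7_0 lc_b_rc_7_0 lc_b_rc_6_1 lc_b_rc_26_7 lc_b_rc_10_0 lc_b_rc_26_7 lc_b_rc_8_2 lc_b_rc_6_1 lc_b_rc_8_2 lc_b_rc_9_2 lc_b_rc_6_1 lc_b_rc_8_2 lc_b_rc_9_2 lc_b_rc_8_2 lc_b_rc_26_7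 lc_b_rc_10_2 lc_b_rc_9_2 lc_b_rc_9_2 lc_b_rc_9_2 lc_b_rc_6_1 lc_b_rc_7_2 lc_b_rc_6_1 lc_b_rc_10_2 lc_b_rc_1_5 lc_b_rc_7_0 lc_b_rc_8_2 lc_b_rc_26_5 lc_b_rc_9_2 lc_b_rc_8_2 lc_b_rc_10_2 lc_b_rc_10_2 lc_b_rc_9_0) (@D3.rec (fun _ => (Cert rels S Gen.b)) lc_b_rc_10_2 lc_b_rc_8_0 lc_b_Cert_tree lc_b_rc_26_5 lc_b_rc_8_2 lc_b_rc_6_1 lc_b_rc_10_0 lc_b_rc_10_0 lc_b_rc_1_1 lc_b_rc_8_2 lc_b_rc_8_0 lc_b_Cert_tree lc_b_Cert_tree lc_b_rc_9_2 lc_b_Cert_tree lc_b_rc_1_3 lc_b_rc_10_2 lc_b_rc_8_2 lc_b_rc_8_2 lc_b_rc_1_5 lc_b_rc_8_2 lc_b_rc_7_4 lc_b_rc_10_2 lc_b_rc_10_0 lc_b_rc_8_2 lc_b_rc_26_7 lc_b_rc_9_2 lc_b_rc_1_5 lc_b_rc_10_2 lc_b_rc_9_2 lc_b_rc_10_2 lc_b_rc_1_3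 lc_b_rc_7_4 lc_b_rc_8_2 lc_b_rc_6_1 lc_b_rc_26_1 lc_b_rc_26_1 lc_b_rc_7_4 lc_b_rc_7_0 lc_b_rc_10_2 lc_b_rc_8_2 lc_b_rc_9_2 lc_b_rc_1_3 lc_b_rc_10_2 lc_b_rc_9_2 lc_b_rc_10_2 lc_b_rc_9_2 lc_b_rc_7_2 lc_b_rc_9_2 lc_b_rc_9_2 lc_b_rc_10_2 lc_b_rc_8_2 lc_b_rc_8_0 lc_b_rc_8_2 lc_b_rc_9_2 lc_b_rc_1_3 lc_b_rc_10_2 lc_b_rc_9_2 lc_b_rc_10_2 lc_b_rc_9_2 lc_b_rc_8_2 lc_b_rc_9_2) (@D3.rec (fun _ => (Cert rels S Gen.b)) lc_b_rc_10_0 lc_b_rc_8_2 lc_b_rc_6_1 lc_b_rc_9_2 lc_b_rc_6_1 lc_b_rc_9_2 lc_b_rc_26_5 lc_b_rc_6_1 lc_b_rc_6_1 lc_b_rc_9_2 lc_b_rc_6_1 lc_b_rc_6_1 lc_b_rc_26_7 lc_b_rc_6_1 lc_b_rc_8_0 lc_b_rc_26_1 lc_b_rc_8_2 lc_b_rc_9_2 lc_b_rc_10_2 lc_b_rc_10_2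 lc_b_rc_9_2 lc_b_rc_9_2 lc_b_rc_10_2 lc_b_rc_26_1 lc_b_rc_26_1 lc_b_rc_6_1 lc_b_rc_26_7 lc_b_rc_26_1 lc_b_rc_7_4 lc_b_rc_8_0 lc_b_rc_9_2 lc_b_rc_1_5 lc_b_rc_9_2 lc_b_rc_6_1 lc_b_rc_8_2 lc_b_rc_6_1 lc_b_rc_8_2 lc_b_rc_26_7 lc_b_rc_6_1 lc_b_rc_8_2 lc_b_rc_6_1 lc_b_rc_1_3 lc_b_rc_8_2 lc_b_rc_9_0 lc_b_Cert_tree lc_b_rc_9_2 lc_b_rc_6_1 lc_b_rc_10_2 lc_b_rc_8_2 lc_b_rc_6_1 lc_b_rc_8_2 lc_b_rc_26_5 lc_b_rc_6_1 lc_b_rc_8_2 lc_b_rc_7_2 lc_b_rc_8_2 lc_b_rc_9_2 lc_b_rc_9_2 lc_b_Cert_tree lc_b_rc_10_2 lc_b_rc_8_2 lc_b_rc_10_2) (@D3.rec (fun _ => (Cert rels S Gen.b)) lc_b_rc_26_7 lc_b_rc_8_2 lc_b_rc_9_2 lc_b_rc_1_1 lc_b_rc_8_2 lc_b_rc_6_1 lc_b_rc_6_1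 lc_b_rc_8_2 lc_b_rc_8_2 lc_b_rc_9_2 lc_b_rc_6_1 lc_b_rc_8_2 lc_b_rc_7_2 lc_b_rc_8_0 lc_b_rc_6_1 lc_b_Cert_tree lc_b_rc_26_5 lc_b_rc_6_1 lc_b_rc_8_2 lc_b_rc_8_0 lc_b_rc_8_2 lc_b_rc_8_2 lc_b_Cert_tree lc_b_rc_10_2 lc_b_rc_8_2 lc_b_rc_26_1 lc_b_rc_8_2 lc_b_rc_9_2 lc_b_rc_9_2 lc_b_rc_9_0 lc_b_rc_6_1 lc_b_rc_10_2 lc_b_rc_7_4 lc_b_rc_26_5 lc_b_rc_26_5 lc_b_rc_9_2 lc_b_rc_26_5 lc_b_rc_7_0 lc_b_rc_26_5 lc_b_rc_8_2 lc_b_rc_10_2 lc_b_rc_26_5 lc_b_rc_6_1 lc_b_rc_26_7 lc_b_rc_9_2 lc_b_rc_8_2 lc_b_rc_8_2 lc_b_rc_9_0 lc_b_rc_6_1 lc_b_rc_9_2 lc_b_rc_8_2 lc_b_rc_6_1 lc_b_rc_6_1 lc_b_rc_6_1 lc_b_rc_6_1 lc_b_rc_7_2 lc_b_rc_25_16 lc_b_rc_6_1 lc_b_rc_1_3 lc_b_rc_6_1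 lc_b_rc_7_4 lc_b_rc_26_1) (@D3.rec (fun _ => (Cert rels S Gen.b)) lc_b_rc_8_2 lc_b_rc_8_2 lc_b_rc_9_2 lc_b_rc_10_2 lc_b_rc_8_2 lc_b_rc_9_2 lc_b_rc_6_1 lc_b_rc_25_8 lc_b_rc_10_2 lc_b_rc_6_1 lc_b_rc_7_2 lc_b_rc_6_1 lc_b_rc_6_1 lc_b_rc_6_1 lc_b_rc_8_2 lc_b_rc_7_2 lc_b_rc_9_2 lc_b_rc_1_5 lc_b_rc_1_3 lc_b_rc_26_5 lc_b_rc_7_0 lc_b_rc_26_7 lc_b_rc_1_3 lc_b_rc_7_4 lc_b_rc_6_1 lc_b_rc_6_1 lc_b_rc_9_0 lc_b_rc_6_1 lc_b_rc_1_1 lc_b_rc_26_7 lc_b_rc_6_1 lc_b_rc_6_1 lc_b_Cert_tree lc_b_rc_9_0 lc_b_rc_7_2 lc_b_rc_26_5 lc_b_rc_10_2 lc_b_Cert_tree lc_b_rc_8_2 lc_b_rc_26_7 lc_b_rc_8_2 lc_b_Cert_tree lc_b_rc_8_2 lc_b_rc_9_2 lc_b_rc_8_0 lc_b_rc_9_2 lc_b_rc_25_8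 lc_b_rc_6_1 lc_b_rc_10_2 lc_b_rc_1_5 lc_b_rc_10_2 lc_b_rc_6_1 lc_b_rc_7_0 lc_b_rc_9_2 lc_b_rc_6_1 lc_b_rc_7_0 lc_b_rc_6_1 lc_b_rc_9_0 lc_b_rc_8_2 lc_b_Cert_tree lc_b_rc_8_2 lc_b_rc_6_1) (@D3.rec (fun _ => (Cert rels S Gen.b)) lc_b_rc_8_2 lc_b_rc_6_1 lc_b_Cert_tree lc_b_rc_26_5 lc_b_rc_9_0 lc_b_rc_6_1 lc_b_rc_26_5 lc_b_rc_8_2 lc_b_rc_7_4 lc_b_rc_8_0 lc_b_rc_6_1 lc_b_rc_10_2 lc_b_rc_26_7 lc_b_rc_9_2 lc_b_rc_6_1 lc_b_rc_6_1 lc_b_rc_9_2 lc_b_rc_6_1 lc_b_rc_26_5 lc_b_rc_8_0 lc_b_Cert_tree lc_b_rc_8_2 lc_b_rc_7_4 lc_b_rc_8_2 lc_b_rc_6_1 lc_b_Cert_tree lc_b_rc_26_5 lc_b_rc_9_2 lc_b_Cert_tree lc_b_rc_8_0 lc_b_rc_10_2 lc_b_rc_26_5 lc_b_rc_9_2 lc_b_rc_8_0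 lc_b_rc_6_1 lc_b_rc_26_7 lc_b_rc_10_2 lc_b_rc_6_1 lc_b_rc_9_2 lc_b_rc_8_0 lc_b_rc_8_0 lc_b_rc_10_2 lc_b_rc_6_1 lc_b_rc_26_5 lc_b_rc_6_1 lc_b_rc_9_2 lc_b_rc_6_1 lc_b_rc_9_2 lc_b_rc_6_1 lc_b_rc_6_1 lc_b_rc_8_2 lc_b_rc_6_1 lc_b_rc_25_4 lc_b_rc_8_2 lc_b_rc_25_0 lc_b_rc_10_2 lc_b_rc_8_0 lc_b_rc_7_4 lc_b_rc_9_2 lc_b_rc_7_4 lc_b_rc_8_0 lc_b_rc_9_2) (@D3.rec (fun _ => (Cert rels S Gen.b)) lc_b_rc_10_2 lc_b_rc_9_0 lc_b_rc_9_2 lc_b_rc_7_4 lc_b_rc_10_2 lc_b_rc_9_2 lc_b_rc_26_7 lc_b_rc_9_2 lc_b_Cert_tree lc_b_rc_8_2 lc_b_rc_7_4 lc_b_rc_26_5 lc_b_rc_8_2 lc_b_rc_6_1 lc_b_rc_10_0 lc_b_rc_8_2 lc_b_rc_1_3 lc_b_rc_8_2 lc_b_rc_25_8 lc_b_rc_8_2 lc_b_rc_9_2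 lc_b_rc_9_2 lc_b_rc_25_12 lc_b_rc_6_1 lc_b_rc_9_2 lc_b_rc_9_0 lc_b_rc_26_5 lc_b_rc_9_2 lc_b_rc_6_1 lc_b_rc_9_2 lc_b_rc_9_0 lc_b_rc_6_1 lc_b_rc_8_2 lc_b_rc_6_1 lc_b_rc_6_1 lc_b_rc_9_2 lc_b_rc_8_2 lc_b_rc_8_0 lc_b_rc_1_5 lc_b_rc_8_0 lc_b_rc_10_2 lc_b_rc_7_4 lc_b_rc_8_2 lc_b_rc_9_2 lc_b_rc_8_2 lc_b_rc_9_2 lc_b_rc_6_1 lc_b_rc_10_2 lc_b_Cert_tree lc_b_rc_1_3 lc_b_rc_6_1 lc_b_rc_8_2 lc_b_rc_26_5 lc_b_rc_8_2 lc_b_rc_6_1 lc_b_rc_8_2 lc_b_rc_8_2 lc_b_rc_10_2 lc_b_rc_6_1 lc_b_rc_8_2 lc_b_rc_8_2 lc_b_rc_10_2) (@D3.rec (fun _ => (Cert rels S Gen.b)) lc_b_rc_9_0 lc_b_rc_6_1 lc_b_rc_26_5 lc_b_rc_26_5 lc_b_rc_8_2 lc_b_rc_9_2 lc_b_Cert_tree lc_b_rc_9_2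 lc_b_rc_8_2 lc_b_rc_9_2 lc_b_rc_8_2 lc_b_rc_6_1 lc_b_rc_7_0 lc_b_rc_8_2 lc_b_rc_8_2 lc_b_rc_9_2 lc_b_rc_9_2 lc_b_rc_7_0 lc_b_rc_26_7 lc_b_rc_8_2 lc_b_rc_10_2 lc_b_rc_8_2 lc_b_rc_9_2 lc_b_rc_9_0 lc_b_rc_26_7 lc_b_rc_10_2 lc_b_rc_8_2 lc_b_rc_9_2 lc_b_rc_10_2 lc_b_rc_1_5 lc_b_rc_8_2 lc_b_rc_9_2 lc_b_rc_9_0 lc_b_rc_26_5 lc_b_rc_9_0 lc_b_rc_10_2 lc_b_rc_6_1 lc_b_Cert_tree lc_b_rc_10_0 lc_b_rc_9_2 lc_b_rc_7_4 lc_b_rc_8_2 lc_b_rc_9_2 lc_b_rc_1_5 lc_b_Cert_tree lc_b_rc_25_4 lc_b_rc_1_1 lc_b_rc_10_0 lc_b_rc_1_3 lc_b_rc_10_2 lc_b_rc_9_2 lc_b_rc_26_5 lc_b_rc_6_1 lc_b_rc_7_0 lc_b_rc_9_2 lc_b_rc_1_5 lc_b_rc_10_2 lc_b_rc_1_3 lc_b_rc_26_5 lc_b_rc_8_2 lc_b_rc_6_1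 lc_b_rc_26_7) (@D3.rec (fun _ => (Cert rels S Gen.b)) lc_b_rc_8_2 lc_b_rc_6_1 lc_b_rc_6_1 lc_b_rc_8_2 lc_b_rc_9_2 lc_b_rc_7_2 lc_b_rc_10_0 lc_b_rc_9_2 lc_b_rc_6_1 lc_b_rc_8_2 lc_b_rc_9_0 lc_b_rc_7_2 lc_b_rc_8_2 lc_b_rc_10_2 lc_b_rc_26_5 lc_b_rc_9_2 lc_b_rc_9_2 lc_b_rc_7_2 lc_b_rc_10_2 lc_b_rc_7_2 lc_b_rc_9_2 lc_b_rc_9_2 lc_b_rc_9_2 lc_b_rc_25_8 lc_b_rc_9_2 lc_b_rc_10_2 lc_b_rc_7_2 lc_b_rc_7_2 lc_b_rc_26_5 lc_b_rc_8_2 lc_b_rc_10_2 lc_b_rc_6_1 lc_b_rc_26_5 lc_b_rc_8_2 lc_b_rc_8_2 lc_b_rc_8_2 lc_b_rc_9_2 lc_b_rc_6_1 lc_b_rc_10_0 lc_b_rc_9_0 lc_b_rc_1_5 lc_b_rc_10_2 lc_b_rc_6_1 lc_b_rc_10_0 lc_b_rc_10_0 lc_b_rc_8_2 lc_b_rc_8_2 lc_b_rc_9_0 lc_b_rc_1_3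 lc_b_rc_8_2 lc_b_rc_25_8 lc_b_rc_7_2 lc_b_rc_8_0 lc_b_rc_26_7 lc_b_rc_26_5 lc_b_rc_26_5 lc_b_rc_1_5 lc_b_rc_26_5 lc_b_rc_26_7 lc_b_rc_9_0 lc_b_rc_8_2 lc_b_rc_26_5) (@D3.rec (fun _ => (Cert rels S Gen.b)) lc_b_rc_9_2 lc_b_rc_26_5 lc_b_rc_26_5 lc_b_rc_26_1 lc_b_rc_6_1 lc_b_rc_10_2 lc_b_rc_25_4 lc_b_rc_9_2 lc_b_rc_6_1 lc_b_rc_26_7 lc_b_rc_8_2 lc_b_rc_6_1 lc_b_rc_10_2 lc_b_rc_8_2 lc_b_rc_8_2 lc_b_rc_1_5 lc_b_rc_9_2 lc_b_rc_8_2 lc_b_Cert_tree lc_b_rc_8_2 lc_b_rc_10_2 lc_b_rc_9_2 lc_b_rc_10_2 lc_b_rc_10_0 lc_b_rc_9_2 lc_b_rc_9_2 lc_b_rc_6_1 lc_b_rc_1_5 lc_b_rc_1_5 lc_b_rc_7_0 lc_b_rc_10_2 lc_b_rc_7_0 lc_b_rc_26_5 lc_b_rc_6_1 lc_b_rc_1_5 lc_b_rc_10_2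 lc_b_rc_6_1 lc_b_rc_6_1 lc_b_rc_9_2 lc_b_rc_8_2 lc_b_rc_9_2 lc_b_rc_26_1 lc_b_Cert_tree lc_b_rc_1_3 lc_b_rc_1_5 lc_b_Cert_tree lc_b_rc_8_2 lc_b_rc_9_2 lc_b_rc_8_2 lc_b_rc_8_2 lc_b_rc_9_2 lc_b_rc_8_2 lc_b_rc_6_1 lc_b_rc_6_1 lc_b_rc_26_5 lc_b_rc_9_2 lc_b_rc_8_2 lc_b_rc_6_1 lc_b_rc_26_1 lc_b_Cert_tree lc_b_rc_9_2 lc_b_rc_9_2) (@D3.rec (fun _ => (Cert rels S Gen.b)) lc_b_rc_26_1 lc_b_rc_6_1 lc_b_rc_26_5 lc_b_rc_26_5 lc_b_rc_1_5 lc_b_rc_9_2 lc_b_rc_8_2 lc_b_rc_6_1 lc_b_rc_26_7 lc_b_rc_9_2 lc_b_rc_7_4 lc_b_rc_9_2 lc_b_rc_6_1 lc_b_rc_9_2 lc_b_rc_9_2 lc_b_rc_8_2 lc_b_rc_8_0 lc_b_rc_8_0 lc_b_rc_10_2 lc_b_rc_1_1 lc_b_rc_26_1 lc_b_rc_9_2 lc_b_rc_6_1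 lc_b_rc_6_1 lc_b_rc_9_0 lc_b_rc_26_5 lc_b_rc_9_2 lc_b_rc_9_2 lc_b_rc_9_2 lc_b_rc_8_0 lc_b_rc_9_2 lc_b_rc_9_2 lc_b_rc_9_2 lc_b_rc_26_1 lc_b_rc_7_2 lc_b_rc_7_4 lc_b_rc_8_2 lc_b_rc_9_2 lc_b_rc_8_2 lc_b_rc_8_0 lc_b_rc_1_5 lc_b_rc_26_5 lc_b_rc_8_2 lc_b_rc_8_0 lc_b_rc_8_2 lc_b_rc_6_1 lc_b_rc_1_1 lc_b_rc_8_2 lc_b_rc_1_3 lc_b_rc_9_2 lc_b_rc_8_2 lc_b_rc_7_2 lc_b_rc_10_2 lc_b_rc_9_2 lc_b_rc_26_7 lc_b_rc_6_1 lc_b_rc_8_2 lc_b_rc_7_2 lc_b_rc_8_2 lc_b_rc_6_1 lc_b_rc_10_2 lc_b_rc_8_2) (@D3.rec (fun _ => (Cert rels S Gen.b)) lc_b_rc_6_1 lc_b_rc_10_2 lc_b_rc_1_3 lc_b_rc_9_0 lc_b_rc_6_1 lc_b_rc_1_1 lc_b_rc_8_2 lc_b_rc_7_2 lc_b_rc_26_7 lc_b_rc_9_2 lc_b_rc_9_0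 lc_b_Cert_tree lc_b_rc_9_0 lc_b_rc_6_1 lc_b_rc_8_2 lc_b_rc_8_2 lc_b_rc_9_2 lc_b_rc_6_1 lc_b_rc_8_2 lc_b_rc_8_2 lc_b_rc_9_2 lc_b_rc_6_1 lc_b_rc_8_2 lc_b_rc_7_4 lc_b_rc_26_5 lc_b_rc_7_2 lc_b_rc_10_2 lc_b_rc_6_1 lc_b_rc_6_1 lc_b_rc_8_2 lc_b_rc_1_3 lc_b_rc_6_1 lc_b_rc_8_2 lc_b_rc_8_2 lc_b_rc_6_1 lc_b_rc_8_2 lc_b_rc_6_1 lc_b_rc_8_2 lc_b_Cert_tree lc_b_Cert_tree lc_b_rc_8_2 lc_b_rc_8_0 lc_b_Cert_tree lc_b_rc_8_2 lc_b_rc_9_2 lc_b_rc_9_2 lc_b_rc_6_1 lc_b_rc_10_2 lc_b_rc_9_2 lc_b_rc_1_5 lc_b_rc_8_2 lc_b_rc_6_1 lc_b_rc_10_2 lc_b_rc_8_2 lc_b_rc_8_2 lc_b_rc_9_0 lc_b_rc_6_1 lc_b_rc_10_2 lc_b_rc_9_2 lc_b_rc_8_0 lc_b_rc_26_7 lc_b_rc_10_2) (@D3.rec (fun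 _ => (Cert rels S Gen.b)) lc_b_rc_9_2 lc_b_rc_9_2 lc_b_rc_6_1 lc_b_rc_8_2 lc_b_rc_8_2 lc_b_rc_1_5 lc_b_rc_26_5 lc_b_rc_8_2 lc_b_rc_6_1 lc_b_rc_26_5 lc_b_rc_7_4 lc_b_rc_6_1 lc_b_rc_9_2 lc_b_rc_7_2 lc_b_rc_8_2 lc_b_rc_10_2 lc_b_rc_6_1 lc_b_rc_9_2 lc_b_rc_9_2 lc_b_rc_9_0 lc_b_rc_26_5 lc_b_rc_10_2 lc_b_rc_8_0 lc_b_rc_9_0 lc_b_rc_6_1 lc_b_rc_9_2 lc_b_rc_9_2 lc_b_rc_6_1 lc_b_rc_7_2 lc_b_rc_8_2 lc_b_rc_9_2 lc_b_rc_7_4 lc_b_rc_9_2 lc_b_rc_9_0 lc_b_rc_8_2 lc_b_rc_10_2 lc_b_rc_6_1 lc_b_rc_9_0 lc_b_rc_9_2 lc_b_rc_7_2 lc_b_rc_9_2 lc_b_rc_9_0 lc_b_rc_7_4 lc_b_rc_8_2 lc_b_rc_25_4 lc_b_rc_9_2 lc_b_rc_8_2 lc_b_rc_9_2 lc_b_rc_7_2 lc_b_Cert_tree lc_b_rc_6_1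 lc_b_rc_8_2 lc_b_rc_9_2 lc_b_rc_1_1 lc_b_rc_10_2 lc_b_rc_9_2 lc_b_rc_6_1 lc_b_rc_8_2 lc_b_rc_7_4 lc_b_rc_9_2 lc_b_rc_10_2 lc_b_rc_9_2) (@D3.rec (fun _ => (Cert rels S Gen.b)) lc_b_rc_7_2 lc_b_Cert_tree lc_b_rc_6_1 lc_b_rc_8_2 lc_b_rc_10_0 lc_b_rc_6_1 lc_b_rc_6_1 lc_b_rc_10_2 lc_b_rc_9_2 lc_b_rc_6_1 lc_b_rc_8_2 lc_b_rc_26_5 lc_b_rc_1_1 lc_b_rc_8_0 lc_b_rc_8_0 lc_b_rc_8_2 lc_b_rc_10_0 lc_b_rc_6_1 lc_b_rc_8_2 lc_b_rc_8_0 lc_b_rc_7_0 lc_b_rc_1_1 lc_b_rc_8_2 lc_b_rc_10_2 lc_b_rc_9_2 lc_b_rc_9_2 lc_b_Cert_tree lc_b_rc_9_0 lc_b_rc_8_2 lc_b_rc_8_0 lc_b_rc_7_4 lc_b_rc_10_2 lc_b_rc_6_1 lc_b_rc_8_2 lc_b_rc_9_2 lc_b_rc_9_2 lc_b_rc_8_2 lc_b_rc_10_2 lc_b_rc_6_1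 lc_b_rc_8_2 lc_b_rc_6_1 lc_b_rc_8_2 lc_b_rc_8_2 lc_b_rc_9_2 lc_b_rc_1_5 lc_b_Cert_tree lc_b_rc_26_5 lc_b_rc_1_3 lc_b_Cert_tree lc_b_rc_8_2 lc_b_rc_26_5 lc_b_rc_8_2 lc_b_rc_6_1 lc_b_rc_8_2 lc_b_rc_8_2 lc_b_rc_7_2 lc_b_rc_10_2 lc_b_rc_1_5 lc_b_rc_26_1 lc_b_rc_8_2 lc_b_rc_9_2 lc_b_rc_6_1) (@D3.rec (fun _ => (Cert rels S Gen.b)) lc_b_rc_9_2 lc_b_rc_26_7 lc_b_rc_26_1 lc_b_rc_7_2 lc_b_rc_26_7 lc_b_rc_8_2 lc_b_rc_9_2 lc_b_rc_8_2 lc_b_rc_9_2 lc_b_rc_9_2 lc_b_rc_6_1 lc_b_rc_8_2 lc_b_rc_6_1 lc_b_rc_6_1 lc_b_Cert_tree lc_b_rc_6_1 lc_b_rc_26_7 lc_b_rc_7_4 lc_b_rc_7_4 lc_b_rc_8_2 lc_b_Cert_tree lc_b_rc_26_7 lc_b_rc_6_1 lc_b_rc_8_2 lc_b_rc_25_12 lc_b_rc_8_2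 lc_b_rc_9_2 lc_b_rc_9_0 lc_b_rc_6_1 lc_b_rc_7_2 lc_b_rc_8_2 lc_b_rc_6_1 lc_b_rc_8_2 lc_b_rc_8_0 lc_b_Cert_tree lc_b_rc_9_2 lc_b_rc_9_2 lc_b_rc_6_1 lc_b_rc_8_2 lc_b_rc_6_1 lc_b_rc_6_1 lc_b_rc_6_1 lc_b_Cert_tree lc_b_rc_8_2 lc_b_rc_6_1 lc_b_rc_1_5 lc_b_rc_9_2 lc_b_rc_8_2 lc_b_rc_7_4 lc_b_rc_7_2 lc_b_rc_9_2 lc_b_rc_6_1 lc_b_rc_1_5 lc_b_rc_9_2 lc_b_Cert_tree lc_b_rc_7_0 lc_b_rc_1_3 lc_b_rc_8_2 lc_b_rc_9_2 lc_b_rc_9_2 lc_b_Cert_tree lc_b_rc_6_1) (@D3.rec (fun _ => (Cert rels S Gen.b)) lc_b_rc_26_5 lc_b_rc_10_2 lc_b_Cert_tree lc_b_rc_6_1 lc_b_rc_9_2 lc_b_rc_6_1 lc_b_rc_26_5 lc_b_Cert_tree lc_b_rc_10_2 lc_b_rc_8_2 lc_b_rc_9_2 lc_b_Cert_tree lc_b_Cert_tree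 lc_b_rc_9_2 lc_b_rc_9_0 lc_b_rc_7_4 lc_b_rc_1_5 lc_b_rc_1_3 lc_b_rc_8_2 lc_b_rc_9_2 lc_b_rc_7_2 lc_b_rc_9_2 lc_b_rc_8_2 lc_b_rc_9_2 lc_b_rc_26_1 lc_b_Cert_tree lc_b_rc_8_2 lc_b_rc_9_2 lc_b_rc_8_2 lc_b_Cert_tree lc_b_rc_6_1 lc_b_rc_7_2 lc_b_rc_8_2 lc_b_rc_9_2 lc_b_rc_6_1 lc_b_rc_9_2 lc_b_rc_6_1 lc_b_rc_9_2 lc_b_rc_6_1 lc_b_rc_9_2 lc_b_rc_6_1 lc_b_Cert_tree lc_b_rc_10_2 lc_b_rc_9_2 lc_b_rc_6_1 lc_b_Cert_tree lc_b_rc_8_2 lc_b_rc_7_2 lc_b_rc_7_2 lc_b_Cert_tree lc_b_rc_8_2 lc_b_rc_1_3 lc_b_rc_10_0 lc_b_rc_8_2 lc_b_Cert_tree lc_b_rc_9_2 lc_b_rc_6_1 lc_b_rc_10_2 lc_b_Cert_tree lc_b_rc_6_1 lc_b_rc_7_0 lc_b_rc_8_0) (@D3.rec (fun _ => (Cert rels S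 Gen.b)) lc_b_rc_9_2 lc_b_rc_8_2 lc_b_Cert_tree lc_b_rc_1_5 lc_b_rc_8_0 lc_b_rc_8_2 lc_b_rc_8_2 lc_b_Cert_tree lc_b_rc_7_4 lc_b_rc_7_4 lc_b_rc_6_1 lc_b_rc_1_5 lc_b_rc_1_3 lc_b_rc_8_2 lc_b_rc_10_2 lc_b_rc_9_0 lc_b_rc_26_1 lc_b_rc_8_0 lc_b_rc_26_5 lc_b_rc_8_2 lc_b_rc_7_2 lc_b_rc_8_0 lc_b_rc_1_5 lc_b_rc_26_5 lc_b_rc_10_2 lc_b_rc_6_1 lc_b_rc_8_2 lc_b_rc_9_2 lc_b_rc_9_2 lc_b_rc_8_2 lc_b_rc_9_2 lc_b_rc_8_2 lc_b_rc_6_1 lc_b_rc_6_1 lc_b_rc_9_0 lc_b_rc_6_1 lc_b_rc_8_2 lc_b_rc_10_2 lc_b_rc_26_1 lc_b_rc_8_2 lc_b_rc_26_7 lc_b_Cert_tree lc_b_rc_8_2 lc_b_rc_6_1 lc_b_rc_10_0 lc_b_rc_9_2 lc_b_rc_26_7 lc_b_rc_8_2 lc_b_rc_7_2 lc_b_rc_6_1 lc_b_rc_8_2 lc_b_rc_26_5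 lc_b_rc_1_1 lc_b_Cert_tree lc_b_rc_8_0 lc_b_rc_26_1 lc_b_rc_8_2 lc_b_rc_9_2 lc_b_rc_9_2 lc_b_rc_6_1 lc_b_rc_9_2 lc_b_rc_9_2) (@D3.rec (fun _ => (Cert rels S Gen.b)) lc_b_rc_10_2 lc_b_rc_8_2 lc_b_rc_10_0 lc_b_rc_8_2 lc_b_rc_8_2 lc_b_rc_1_3 lc_b_rc_6_1 lc_b_rc_26_1 lc_b_rc_10_2 lc_b_rc_9_2 lc_b_rc_8_2 lc_b_rc_8_2 lc_b_rc_9_2 lc_b_rc_8_2 lc_b_rc_10_2 lc_b_rc_1_5 lc_b_rc_8_2 lc_b_rc_1_1 lc_b_rc_25_0 lc_b_rc_26_7 lc_b_rc_8_2 lc_b_rc_6_1 lc_b_rc_8_2 lc_b_rc_10_2 lc_b_rc_8_2 lc_b_Cert_tree lc_b_rc_8_2 lc_b_Cert_tree lc_b_Cert_tree lc_b_rc_9_0 lc_b_rc_6_1 lc_b_rc_8_2 lc_b_rc_6_1 lc_b_rc_8_2 lc_b_rc_8_2 lc_b_rc_26_5 lc_b_rc_6_1 lc_b_rc_1_3 lc_b_rc_1_5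 lc_b_rc_8_2 lc_b_Cert_tree lc_b_rc_10_2 lc_b_rc_6_1 lc_b_rc_8_2 lc_b_rc_9_2 lc_b_rc_9_2 lc_b_rc_9_2 lc_b_rc_6_1 lc_b_rc_7_0 lc_b_rc_8_2 lc_b_rc_8_2 lc_b_rc_6_1 lc_b_rc_8_2 lc_b_rc_8_2 lc_b_rc_9_2 lc_b_Cert_tree lc_b_rc_26_5 lc_b_rc_7_2 lc_b_rc_8_2 lc_b_rc_8_2 lc_b_rc_26_1 lc_b_rc_26_1) (@D3.rec (fun _ => (Cert rels S Gen.b)) lc_b_rc_10_0 lc_b_Cert_tree lc_b_rc_9_0 lc_b_rc_6_1 lc_b_rc_8_2 lc_b_rc_10_2 lc_b_rc_9_2 lc_b_rc_6_1 lc_b_rc_6_1 lc_b_rc_6_1 lc_b_rc_1_3 lc_b_rc_8_2 lc_b_rc_10_2 lc_b_Cert_tree lc_b_rc_8_0 lc_b_rc_9_2 lc_b_rc_9_2 lc_b_rc_26_5 lc_b_rc_26_1 lc_b_rc_9_2 lc_b_rc_26_5 lc_b_rc_26_5 lc_b_rc_8_2 lc_b_rc_8_2 lc_b_rc_25_4 lc_b_rc_6_1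 lc_b_rc_1_5 lc_b_rc_26_7 lc_b_rc_6_1 lc_b_Cert_tree lc_b_rc_8_2 lc_b_rc_9_2 lc_b_rc_6_1 lc_b_rc_6_1 lc_b_rc_8_2 lc_b_rc_25_16 lc_b_rc_8_2 lc_b_rc_1_3 lc_b_rc_9_2 lc_b_rc_8_2 lc_b_rc_26_7 lc_b_rc_8_2 lc_b_rc_8_2 lc_b_rc_9_2 lc_b_rc_6_1 lc_b_Cert_tree lc_b_rc_6_1 lc_b_rc_8_0 lc_b_rc_8_2 lc_b_rc_9_2 lc_b_rc_26_7 lc_b_rc_8_2 lc_b_Cert_tree lc_b_Cert_tree lc_b_Cert_tree lc_b_rc_8_2 lc_b_rc_9_2 lc_b_Cert_tree lc_b_rc_26_5 lc_b_rc_26_1 lc_b_rc_9_2 lc_b_rc_25_4) (@D3.rec (fun _ => (Cert rels S Gen.b)) lc_b_rc_8_2 lc_b_rc_9_2 lc_b_rc_1_5 lc_b_rc_9_2 lc_b_Cert_tree lc_b_rc_9_2 lc_b_rc_6_1 lc_b_Cert_tree lc_b_rc_9_2 lc_b_rc_26_5 lc_b_Cert_tree lc_b_rc_6_1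 lc_b_rc_8_2 lc_b_rc_10_2 lc_b_rc_8_2 lc_b_rc_9_2 lc_b_Cert_tree lc_b_rc_9_2 lc_b_rc_6_1 lc_b_rc_10_2 lc_b_rc_6_1 lc_b_rc_8_2 lc_b_rc_6_1 lc_b_rc_26_7 lc_b_rc_6_1 lc_b_rc_9_2 lc_b_rc_8_2 lc_b_rc_10_2 lc_b_rc_8_0 lc_b_Cert_tree lc_b_rc_6_1 lc_b_rc_1_1 lc_b_rc_9_0 lc_b_rc_26_5 lc_b_rc_9_2 lc_b_rc_9_2 lc_b_Cert_tree lc_b_Cert_tree lc_b_rc_8_2 lc_b_rc_9_0 lc_b_rc_8_0 lc_b_rc_9_2 lc_b_Cert_tree lc_b_rc_9_2 lc_b_rc_7_0 lc_b_rc_1_1 lc_b_rc_8_2 lc_b_rc_26_1 lc_b_rc_1_3 lc_b_rc_8_2 lc_b_rc_6_1 lc_b_rc_6_1 lc_b_rc_26_7 lc_b_rc_1_3 lc_b_rc_6_1 lc_b_Cert_tree lc_b_rc_10_2 lc_b_rc_9_2 lc_b_rc_6_1 lc_b_rc_7_2 lc_b_rc_6_1 lc_b_rc_6_1) (@D3.rec (fun _ =>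 (Cert rels S Gen.b)) lc_b_rc_6_1 lc_b_rc_1_5 lc_b_rc_26_5 lc_b_rc_1_3 lc_b_Cert_tree lc_b_rc_10_0 lc_b_rc_26_5 lc_b_rc_9_2 lc_b_rc_7_0 lc_b_rc_6_1 lc_b_rc_8_2 lc_b_rc_10_2 lc_b_rc_8_2 lc_b_rc_6_1 lc_b_rc_8_2 lc_b_rc_8_2 lc_b_rc_8_2 lc_b_Cert_tree lc_b_rc_10_2 lc_b_rc_8_2 lc_b_rc_9_2 lc_b_rc_6_1 lc_b_rc_26_7 lc_b_Cert_tree lc_b_rc_8_2 lc_b_rc_7_2 lc_b_rc_10_2 lc_b_rc_8_2 lc_b_Cert_tree lc_b_rc_8_2 lc_b_rc_6_1 lc_b_Cert_tree lc_b_rc_26_7 lc_b_rc_8_0 lc_b_Cert_tree lc_b_rc_6_1 lc_b_rc_1_1 lc_b_rc_6_1 lc_b_rc_7_0 lc_b_rc_8_2 lc_b_rc_26_5 lc_b_rc_9_0 lc_b_rc_10_2 lc_b_rc_6_1 lc_b_rc_1_3 lc_b_rc_8_2 lc_b_rc_10_2 lc_b_rc_8_2 lc_b_rc_9_2 lc_b_rc_10_2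 lc_b_rc_6_1 lc_b_rc_10_2 lc_b_rc_26_1 lc_b_rc_1_3 lc_b_rc_8_2 lc_b_rc_6_1 lc_b_rc_10_2 lc_b_rc_9_2 lc_b_rc_8_2 lc_b_rc_7_2 lc_b_rc_7_0 lc_b_rc_6_1) (@D3.rec (fun _ => (Cert rels S Gen.b)) lc_b_rc_10_2 lc_b_rc_6_1 lc_b_rc_6_1 lc_b_rc_26_1 lc_b_Cert_tree lc_b_rc_9_0 lc_b_rc_8_2 lc_b_rc_9_2 lc_b_Cert_tree lc_b_rc_25_4 lc_b_rc_6_1 lc_b_rc_8_2 lc_b_rc_9_2 lc_b_rc_26_5 lc_b_rc_8_2 lc_b_rc_10_2 lc_b_rc_26_1 lc_b_rc_7_0 lc_b_rc_8_2 lc_b_rc_10_2 lc_b_rc_6_1 lc_b_rc_6_1 lc_b_rc_6_1 lc_b_rc_26_5 lc_b_Cert_tree lc_b_rc_7_2 lc_b_rc_10_2 lc_b_rc_8_2 lc_b_rc_6_1 lc_b_rc_9_2 lc_b_rc_8_2 lc_b_rc_6_1 lc_b_rc_9_2 lc_b_rc_6_1 lc_b_rc_9_2 lc_b_rc_26_5 lc_b_rc_9_2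 lc_b_rc_6_1 lc_b_rc_8_0 lc_b_rc_7_0 lc_b_rc_9_2 lc_b_Cert_tree lc_b_rc_6_1 lc_b_rc_8_2 lc_b_rc_7_4 lc_b_rc_6_1 lc_b_rc_7_2 lc_b_rc_10_2 lc_b_rc_10_2 lc_b_rc_6_1 lc_b_Cert_tree lc_b_rc_8_2 lc_b_rc_9_0 lc_b_rc_8_2 lc_b_rc_8_2 lc_b_Cert_tree lc_b_rc_9_2 lc_b_rc_26_7 lc_b_rc_9_2 lc_b_rc_6_1 lc_b_rc_6_1 lc_b_rc_8_2) (@D3.rec (fun _ => (Cert rels S Gen.b)) lc_b_rc_10_2 lc_b_rc_26_1 lc_b_rc_6_1 lc_b_rc_9_0 lc_b_rc_8_2 lc_b_rc_26_1 lc_b_rc_6_1 lc_b_rc_6_1 lc_b_rc_1_5 lc_b_rc_6_1 lc_b_rc_1_5 lc_b_rc_6_1 lc_b_Cert_tree lc_b_rc_8_2 lc_b_rc_6_1 lc_b_rc_6_1 lc_b_rc_9_2 lc_b_rc_8_2 lc_b_rc_8_0 lc_b_rc_9_2 lc_b_rc_10_2 lc_b_rc_26_1 lc_b_rc_8_2 lc_b_rc_8_0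 lc_b_rc_8_2 lc_b_rc_8_2 lc_b_rc_10_2 lc_b_rc_26_1 lc_b_rc_10_2 lc_b_rc_6_1 lc_b_rc_6_1 lc_b_rc_26_5 lc_b_rc_7_0 lc_b_rc_8_2 lc_b_rc_9_2 lc_b_rc_7_2 lc_b_rc_9_2 lc_b_rc_7_0 lc_b_rc_8_0 lc_b_rc_10_2 lc_b_rc_9_2 lc_b_rc_8_2 lc_b_rc_10_2 lc_b_rc_6_1 lc_b_rc_26_7 lc_b_rc_9_2 lc_b_rc_6_1 lc_b_rc_9_2 lc_b_rc_9_2 lc_b_rc_6_1 lc_b_rc_8_0 lc_b_rc_6_1 lc_b_rc_26_1 lc_b_rc_26_1 lc_b_rc_6_1 lc_b_rc_9_2 lc_b_rc_7_0 lc_b_rc_8_2 lc_b_rc_26_1 lc_b_rc_10_0 lc_b_rc_8_2 lc_b_rc_10_2) (@D3.rec (fun _ => (Cert rels S Gen.b)) lc_b_rc_6_1 lc_b_rc_6_1 lc_b_rc_9_2 lc_b_rc_26_5 lc_b_rc_7_0 lc_b_rc_7_2 lc_b_rc_10_2 lc_b_rc_6_1 lc_b_rc_9_2 lc_b_rc_26_5 lc_b_rc_25_8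 lc_b_rc_10_2 lc_b_rc_25_16 lc_b_rc_26_5 lc_b_rc_9_2 lc_b_rc_8_2 lc_b_rc_6_1 lc_b_rc_8_2 lc_b_rc_1_3 lc_b_rc_26_1 lc_b_Cert_tree lc_b_rc_25_4 lc_b_rc_10_2 lc_b_rc_8_2 lc_b_rc_8_2 lc_b_rc_1_5 lc_b_rc_9_2 lc_b_rc_8_2 lc_b_rc_25_16 lc_b_rc_10_2 lc_b_rc_7_0 lc_b_rc_10_0 lc_b_rc_26_1 lc_b_rc_9_2 lc_b_rc_6_1 lc_b_rc_25_16 lc_b_Cert_tree lc_b_rc_7_4 lc_b_rc_8_0 lc_b_rc_9_0 lc_b_rc_6_1 lc_b_rc_10_2 lc_b_rc_9_0 lc_b_rc_8_2 lc_b_rc_9_2 lc_b_rc_26_1 lc_b_rc_9_2 lc_b_rc_6_1 lc_b_rc_8_0 lc_b_rc_26_5 lc_b_rc_6_1 lc_b_Cert_tree lc_b_rc_6_1 lc_b_rc_26_1 lc_b_rc_8_0 lc_b_rc_6_1 lc_b_rc_26_5 lc_b_rc_10_2 lc_b_rc_8_0 lc_b_rc_8_2 lc_b_rc_6_1 lc_b_rc_7_0) (@D3.rec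 (fun _ => (Cert rels S Gen.b)) lc_b_rc_6_1 lc_b_rc_7_2 lc_b_rc_9_2 lc_b_Cert_tree lc_b_Cert_tree lc_b_rc_7_2 lc_b_rc_25_0 lc_b_rc_26_5 lc_b_rc_8_2 lc_b_rc_6_1 lc_b_rc_6_1 lc_b_rc_8_2 lc_b_rc_6_1 lc_b_Cert_tree lc_b_rc_9_2 lc_b_Cert_tree lc_b_Cert_tree lc_b_rc_6_1 lc_b_rc_7_2 lc_b_rc_9_0 lc_b_rc_26_5 lc_b_rc_9_2 lc_b_rc_6_1 lc_b_rc_9_2 lc_b_rc_1_1 lc_b_rc_10_2 lc_b_rc_6_1 lc_b_rc_6_1 lc_b_Cert_tree lc_b_Cert_tree lc_b_rc_26_1 lc_b_rc_8_2 lc_b_rc_10_2 lc_b_rc_7_0 lc_b_rc_9_2 lc_b_rc_1_5 lc_b_rc_1_3 lc_b_rc_8_2 lc_b_rc_8_2 lc_b_rc_6_1 lc_b_rc_10_2 lc_b_rc_9_2 lc_b_rc_8_2 lc_b_Cert_tree lc_b_rc_9_2 lc_b_rc_8_2 lc_b_rc_9_2 lc_b_rc_9_2 lc_b_rc_6_1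 lc_b_Cert_tree lc_b_Cert_tree lc_b_rc_9_2 lc_b_rc_8_2 lc_b_rc_6_1 lc_b_rc_9_2 lc_b_rc_9_2 lc_b_rc_6_1 lc_b_rc_9_2 lc_b_Cert_tree lc_b_rc_8_0 lc_b_rc_26_7 lc_b_rc_26_7) (@D3.rec (fun _ => (Cert rels S Gen.b)) lc_b_rc_7_2 lc_b_rc_6_1 lc_b_rc_7_0 lc_b_rc_6_1 lc_b_rc_8_2 lc_b_rc_8_2 lc_b_rc_9_2 lc_b_rc_9_2 lc_b_rc_10_0 lc_b_rc_1_1 lc_b_rc_8_2 lc_b_rc_8_0 lc_b_rc_7_4 lc_b_rc_8_2 lc_b_rc_7_2 lc_b_rc_6_1 lc_b_rc_8_2 lc_b_rc_26_5 lc_b_rc_8_2 lc_b_rc_6_1 lc_b_rc_8_2 lc_b_rc_1_1 lc_b_rc_8_0 lc_b_rc_6_1 lc_b_rc_8_0 lc_b_rc_7_2 lc_b_rc_6_1 lc_b_Cert_tree lc_b_rc_6_1 lc_b_rc_1_3 lc_b_rc_9_2 lc_b_rc_7_4 lc_b_rc_7_0 lc_b_Cert_tree lc_b_rc_8_2 lc_b_rc_10_2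 lc_b_rc_8_0 lc_b_rc_10_0 lc_b_rc_7_2 lc_b_rc_6_1 lc_b_rc_6_1 lc_b_rc_1_3 lc_b_rc_8_2 lc_b_rc_9_2 lc_b_rc_1_3 lc_b_Cert_tree lc_b_rc_8_2 lc_b_rc_10_2 lc_b_rc_26_5 lc_b_rc_1_3 lc_b_rc_8_2 lc_b_rc_9_2 lc_b_rc_26_5 lc_b_rc_7_4 lc_b_rc_1_1 lc_b_rc_9_0 lc_b_rc_25_8 lc_b_rc_7_2 lc_b_rc_6_1 lc_b_rc_8_2 lc_b_rc_9_2 lc_b_rc_6_1) (@D3.rec (fun _ => (Cert rels S Gen.b)) lc_b_rc_26_5 lc_b_rc_1_1 lc_b_rc_8_2 lc_b_rc_9_2 lc_b_rc_9_2 lc_b_rc_1_5 lc_b_rc_25_4 lc_b_rc_10_2 lc_b_rc_26_7 lc_b_rc_8_2 lc_b_rc_6_1 lc_b_rc_6_1 lc_b_rc_1_3 lc_b_rc_8_2 lc_b_rc_9_2 lc_b_rc_1_5 lc_b_rc_6_1 lc_b_rc_1_1 lc_b_rc_6_1 lc_b_rc_8_2 lc_b_rc_26_5 lc_b_rc_25_0 lc_b_rc_26_1 lc_b_rc_8_2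 lc_b_rc_9_2 lc_b_rc_6_1 lc_b_rc_26_5 lc_b_rc_6_1 lc_b_rc_1_5 lc_b_rc_8_2 lc_b_rc_1_3 lc_b_rc_6_1 lc_b_Cert_tree lc_b_rc_9_2 lc_b_rc_6_1 lc_b_rc_1_5 lc_b_rc_6_1 lc_b_rc_8_0 lc_b_rc_8_0 lc_b_rc_8_0 lc_b_rc_10_2 lc_b_rc_1_3 lc_b_rc_1_5 lc_b_rc_7_4 lc_b_rc_7_2 lc_b_rc_8_2 lc_b_rc_8_0 lc_b_rc_7_4 lc_b_rc_8_2 lc_b_rc_26_7 lc_b_rc_26_1 lc_b_rc_9_2 lc_b_rc_26_7 lc_b_rc_6_1 lc_b_rc_10_2 lc_b_rc_9_2 lc_b_rc_8_2 lc_b_rc_26_7 lc_b_rc_8_2 lc_b_rc_8_2 lc_b_rc_6_1 lc_b_rc_8_2) (@D3.rec (fun _ => (Cert rels S Gen.b)) lc_b_rc_9_2 lc_b_rc_6_1 lc_b_rc_8_2 lc_b_rc_26_1 lc_b_rc_10_2 lc_b_rc_7_4 lc_b_rc_8_2 lc_b_rc_6_1 lc_b_rc_1_5 lc_b_rc_9_2 lc_b_rc_26_1 lc_b_rc_7_4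 lc_b_rc_1_5 lc_b_rc_7_2 lc_b_rc_6_1 lc_b_rc_7_4 lc_b_rc_10_2 lc_b_rc_8_2 lc_b_rc_6_1 lc_b_rc_26_1 lc_b_rc_8_2 lc_b_rc_8_2 lc_b_rc_10_2 lc_b_rc_26_7 lc_b_rc_9_2 lc_b_rc_6_1 lc_b_Cert_tree lc_b_rc_1_3 lc_b_rc_25_4 lc_b_rc_9_0 lc_b_rc_8_2 lc_b_rc_10_2 lc_b_rc_9_2 lc_b_rc_9_2 lc_b_rc_10_0 lc_b_rc_6_1 lc_b_rc_6_1 lc_b_rc_9_2 lc_b_rc_6_1 lc_b_rc_8_2 lc_b_rc_9_2 lc_b_rc_26_5 lc_b_rc_8_2 lc_b_rc_6_1 lc_b_rc_26_5 lc_b_rc_6_1 lc_b_rc_1_5 lc_b_rc_6_1 lc_b_rc_6_1 lc_b_rc_9_2 lc_b_rc_7_4 lc_b_rc_9_2 lc_b_rc_9_2 lc_b_rc_8_2 lc_b_rc_7_4 lc_b_rc_6_1 lc_b_rc_10_2 lc_b_rc_26_7 lc_b_rc_26_5 lc_b_rc_10_2 lc_b_rc_9_2 lc_b_rc_8_0) (@D3.rec (fun _ => (Cert rels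 S Gen.b)) lc_b_rc_26_5 lc_b_rc_7_0 lc_b_rc_26_1 lc_b_rc_7_0 lc_b_rc_9_2 lc_b_rc_9_2 lc_b_rc_8_2 lc_b_rc_7_4 lc_b_rc_8_2 lc_b_rc_6_1 lc_b_rc_10_0 lc_b_rc_7_4 lc_b_rc_6_1 lc_b_rc_10_2 lc_b_rc_8_2 lc_b_rc_6_1 lc_b_rc_26_5 lc_b_rc_6_1 lc_b_rc_9_2 lc_b_rc_1_5 lc_b_rc_26_5 lc_b_rc_26_5 lc_b_rc_26_1 lc_b_rc_1_5 lc_b_rc_10_0 lc_b_rc_8_2 lc_b_rc_10_2 lc_b_rc_6_1 lc_b_rc_8_2 lc_b_rc_7_2 lc_b_rc_26_1 lc_b_rc_6_1 lc_b_Cert_tree lc_b_rc_7_4 lc_b_rc_8_2 lc_b_rc_7_0 lc_b_rc_1_1 lc_b_rc_8_2 lc_b_rc_9_2 lc_b_rc_26_5 lc_b_rc_26_5 lc_b_rc_10_2 lc_b_rc_8_2 lc_b_rc_26_1 lc_b_rc_6_1 lc_b_rc_26_5 lc_b_rc_6_1 lc_b_rc_9_2 lc_b_rc_6_1 lc_b_rc_9_0 lc_b_rc_10_2 lc_b_rc_6_1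 lc_b_rc_7_2 lc_b_rc_26_1 lc_b_rc_7_0 lc_b_rc_9_0 lc_b_rc_7_4 lc_b_Cert_tree lc_b_rc_10_2 lc_b_rc_1_5 lc_b_rc_9_0 lc_b_rc_1_1) (@D3.rec (fun _ => (Cert rels S Gen.b)) lc_b_rc_10_2 lc_b_rc_6_1 lc_b_rc_10_0 lc_b_rc_10_2 lc_b_rc_7_0 lc_b_rc_9_0 lc_b_rc_6_1 lc_b_rc_6_1 lc_b_rc_26_7 lc_b_rc_9_0 lc_b_rc_8_2 lc_b_rc_9_2 lc_b_rc_6_1 lc_b_rc_9_2 lc_b_rc_6_1 lc_b_rc_25_0 lc_b_rc_8_2 lc_b_rc_10_2 lc_b_rc_6_1 lc_b_rc_25_8 lc_b_rc_8_2 lc_b_rc_6_1 lc_b_rc_6_1 lc_b_rc_9_2 lc_b_rc_9_2 lc_b_rc_1_1 lc_b_rc_10_2 lc_b_rc_9_2 lc_b_rc_1_5 lc_b_rc_7_0 lc_b_rc_9_0 lc_b_rc_10_2 lc_b_rc_6_1 lc_b_rc_26_5 lc_b_rc_9_2 lc_b_rc_6_1 lc_b_rc_26_5 lc_b_rc_1_3 lc_b_rc_9_2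 lc_b_rc_6_1 lc_b_rc_7_0 lc_b_rc_8_2 lc_b_rc_9_2 lc_b_rc_1_5 lc_b_rc_8_2 lc_b_rc_10_2 lc_b_rc_6_1 lc_b_rc_6_1 lc_b_rc_26_5 lc_b_rc_9_2 lc_b_rc_7_0 lc_b_rc_26_5 lc_b_rc_6_1 lc_b_rc_8_2 lc_b_rc_9_2 lc_b_rc_6_1 lc_b_Cert_tree lc_b_rc_8_0 lc_b_rc_8_2 lc_b_rc_8_2 lc_b_rc_9_2 lc_b_rc_26_5) (@D3.rec (fun _ => (Cert rels S Gen.b)) lc_b_rc_10_2 lc_b_rc_8_2 lc_b_rc_9_2 lc_b_rc_6_1 lc_b_rc_6_1 lc_b_rc_9_2 lc_b_Cert_tree lc_b_rc_8_2 lc_b_rc_9_2 lc_b_Cert_tree lc_b_rc_9_0 lc_b_rc_6_1 lc_b_rc_9_0 lc_b_rc_7_0 lc_b_rc_8_2 lc_b_rc_9_2 lc_b_rc_9_2 lc_b_Cert_tree lc_b_Cert_tree lc_b_rc_8_2 lc_b_rc_7_4 lc_b_rc_6_1 lc_b_rc_7_4 lc_b_rc_9_2 lc_b_rc_6_1 lc_b_Cert_tree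 lc_b_rc_6_1 lc_b_rc_6_1 lc_b_rc_26_5 lc_b_rc_9_2 lc_b_Cert_tree lc_b_rc_7_4 lc_b_rc_9_2 lc_b_Cert_tree lc_b_Cert_tree lc_b_rc_10_2 lc_b_rc_6_1 lc_b_rc_8_2 lc_b_rc_8_2 lc_b_rc_7_2 lc_b_rc_9_2 lc_b_rc_9_2 lc_b_rc_8_2 lc_b_rc_1_5 lc_b_rc_1_3 lc_b_rc_8_2 lc_b_rc_9_2 lc_b_rc_9_2 lc_b_rc_8_2 lc_b_rc_10_2 lc_b_rc_8_0 lc_b_rc_9_2 lc_b_rc_10_2 lc_b_rc_6_1 lc_b_rc_26_5 lc_b_Cert_tree lc_b_rc_9_2 lc_b_rc_6_1 lc_b_rc_6_1 lc_b_rc_6_1 lc_b_rc_6_1 lc_b_rc_8_2) (@D3.rec (fun _ => (Cert rels S Gen.b)) lc_b_rc_10_2 lc_b_rc_1_1 lc_b_rc_9_2 lc_b_rc_9_2 lc_b_rc_7_0 lc_b_Cert_tree lc_b_rc_6_1 lc_b_rc_6_1 lc_b_rc_9_2 lc_b_rc_26_7 lc_b_Cert_tree lc_b_rc_9_2 lc_b_rc_10_2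 lc_b_Cert_tree lc_b_rc_6_1 lc_b_rc_7_0 lc_b_rc_1_3 lc_b_rc_8_2 lc_b_rc_9_2 lc_b_rc_9_2 lc_b_rc_10_2 lc_b_rc_9_2 lc_b_rc_9_2 lc_b_rc_10_2 lc_b_rc_10_2 lc_b_Cert_tree lc_b_rc_6_1 lc_b_Cert_tree lc_b_rc_8_2 lc_b_rc_9_2 lc_b_rc_10_2 lc_b_rc_6_1 lc_b_rc_26_5 lc_b_rc_7_0 lc_b_rc_9_2 lc_b_rc_8_2 lc_b_rc_26_7 lc_b_Cert_tree lc_b_rc_6_1 lc_b_rc_9_2 lc_b_rc_9_2 lc_b_rc_6_1 lc_b_rc_9_2 lc_b_rc_9_2 lc_b_rc_25_0 lc_b_rc_8_0 lc_b_rc_10_2 lc_b_rc_8_2 lc_b_rc_6_1 lc_b_rc_9_2 lc_b_rc_8_2 lc_b_Cert_tree lc_b_rc_26_5 lc_b_rc_6_1 lc_b_rc_9_2 lc_b_rc_8_2 lc_b_rc_10_2 lc_b_Cert_tree lc_b_rc_6_1 lc_b_rc_9_0 lc_b_rc_6_1 lc_b_rc_6_1) (@D3.rec (fun _ => (Cert rels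 S Gen.b)) lc_b_rc_6_1 lc_b_rc_1_3 lc_b_rc_9_2 lc_b_rc_6_1 lc_b_rc_9_2 lc_b_Cert_tree lc_b_rc_7_4 lc_b_rc_8_2 lc_b_rc_10_2 lc_b_rc_6_1 lc_b_rc_6_1 lc_b_rc_7_2 lc_b_rc_25_4 lc_b_Cert_tree lc_b_rc_10_2 lc_b_rc_1_3 lc_b_rc_8_2 lc_b_rc_6_1 lc_b_rc_9_2 lc_b_rc_6_1 lc_b_rc_9_2 lc_b_rc_9_2 lc_b_Cert_tree lc_b_rc_7_0 lc_b_rc_8_2 lc_b_rc_10_2 lc_b_Cert_tree lc_b_rc_26_5 lc_b_rc_8_2 lc_b_rc_10_2 lc_b_rc_6_1 lc_b_rc_8_2 lc_b_rc_7_2 lc_b_rc_7_0 lc_b_Cert_tree lc_b_rc_10_2 lc_b_rc_6_1 lc_b_rc_6_1 lc_b_rc_8_2 lc_b_rc_6_1 lc_b_rc_8_2 lc_b_Cert_tree lc_b_rc_8_2 lc_b_rc_10_2 lc_b_rc_9_2 lc_b_rc_8_2 lc_b_rc_8_2 lc_b_rc_6_1 lc_b_rc_1_3 lc_b_rc_10_0 lc_b_rc_10_2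 lc_b_rc_1_3 lc_b_rc_6_1 lc_b_rc_6_1 lc_b_rc_6_1 lc_b_rc_7_0 lc_b_rc_9_2 lc_b_rc_7_4 lc_b_rc_8_0 lc_b_rc_10_2 lc_b_rc_6_1 lc_b_rc_8_2) (@D3.rec (fun _ => (Cert rels S Gen.b)) lc_b_rc_8_2 lc_b_rc_9_2 lc_b_rc_8_2 lc_b_rc_1_1 lc_b_rc_26_5 lc_b_rc_9_2 lc_b_rc_9_2 lc_b_rc_9_2 lc_b_rc_1_5 lc_b_rc_8_2 lc_b_rc_10_2 lc_b_rc_7_2 lc_b_rc_6_1 lc_b_rc_9_2 lc_b_rc_10_2 lc_b_rc_8_2 lc_b_rc_1_3 lc_b_rc_6_1 lc_b_rc_8_2 lc_b_Cert_tree lc_b_rc_10_2 lc_b_rc_10_2 lc_b_rc_7_4 lc_b_rc_6_1 lc_b_rc_8_2 lc_b_rc_6_1 lc_b_rc_9_2 lc_b_rc_6_1 lc_b_rc_26_5 lc_b_rc_9_2 lc_b_rc_26_5 lc_b_rc_7_4 lc_b_rc_8_2 lc_b_rc_10_2 lc_b_rc_6_1 lc_b_Cert_tree lc_b_rc_6_1 lc_b_rc_8_2 lc_b_rc_10_2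 lc_b_rc_8_0 lc_b_rc_6_1 lc_b_rc_6_1 lc_b_rc_1_3 lc_b_rc_9_2 lc_b_rc_26_5 lc_b_Cert_tree lc_b_rc_8_2 lc_b_rc_9_2 lc_b_rc_7_0 lc_b_rc_26_5 lc_b_rc_9_2 lc_b_rc_8_2 lc_b_rc_10_2 lc_b_rc_26_5 lc_b_rc_6_1 lc_b_rc_8_2 lc_b_rc_10_2 lc_b_Cert_tree lc_b_rc_1_3 lc_b_rc_7_2 lc_b_rc_9_2 lc_b_rc_8_2) (@D3.rec (fun _ => (Cert rels S Gen.b)) lc_b_rc_9_2 lc_b_rc_6_1 lc_b_rc_9_2 lc_b_rc_9_2 lc_b_rc_8_2 lc_b_rc_10_2 lc_b_rc_1_5 lc_b_rc_9_0 lc_b_rc_9_2 lc_b_rc_1_5 lc_b_rc_9_2 lc_b_rc_9_2 lc_b_rc_6_1 lc_b_rc_26_1 lc_b_rc_6_1 lc_b_rc_8_2 lc_b_rc_8_0 lc_b_rc_7_4 lc_b_rc_9_0 lc_b_rc_10_2 lc_b_rc_25_0 lc_b_rc_25_4 lc_b_Cert_tree lc_b_rc_26_1 lc_b_rc_8_2 lc_b_rc_10_2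 lc_b_rc_26_5 lc_b_rc_9_2 lc_b_rc_8_0 lc_b_rc_8_2 lc_b_rc_8_2 lc_b_rc_10_2 lc_b_Cert_tree lc_b_rc_26_5 lc_b_rc_1_3 lc_b_rc_9_2 lc_b_rc_8_0 lc_b_rc_10_2 lc_b_rc_8_2 lc_b_rc_6_1 lc_b_rc_9_2 lc_b_rc_7_0 lc_b_rc_9_2 lc_b_rc_25_16 lc_b_rc_8_2 lc_b_rc_6_1 lc_b_rc_8_2 lc_b_rc_8_2 lc_b_rc_6_1 lc_b_rc_6_1 lc_b_rc_25_4 lc_b_rc_8_2 lc_b_rc_10_2 lc_b_rc_9_0 lc_b_rc_9_2 lc_b_rc_6_1 lc_b_rc_8_2 lc_b_rc_9_2 lc_b_rc_6_1 lc_b_rc_7_0 lc_b_rc_8_2 lc_b_Cert_tree) (@D3.rec (fun _ => (Cert rels S Gen.b)) lc_b_rc_6_1 lc_b_rc_1_3 lc_b_rc_9_2 lc_b_Cert_tree lc_b_Cert_tree lc_b_rc_1_3 lc_b_rc_6_1 lc_b_rc_9_2 lc_b_rc_6_1 lc_b_rc_6_1 lc_b_rc_7_4 lc_b_rc_9_2 lc_b_rc_9_2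 lc_b_Cert_tree lc_b_rc_8_2 lc_b_rc_10_2 lc_b_rc_6_1 lc_b_rc_6_1 lc_b_Cert_tree lc_b_rc_6_1 lc_b_rc_8_2 lc_b_rc_6_1 lc_b_rc_8_2 lc_b_rc_8_2 lc_b_rc_6_1 lc_b_rc_9_2 lc_b_rc_6_1 lc_b_rc_25_0 lc_b_rc_9_0 lc_b_rc_25_4 lc_b_rc_6_1 lc_b_rc_9_2 lc_b_rc_25_12 lc_b_Cert_tree lc_b_rc_26_5 lc_b_rc_9_2 lc_b_rc_6_1 lc_b_rc_26_1 lc_b_rc_1_3 lc_b_rc_6_1 lc_b_rc_6_1 lc_b_rc_1_3 lc_b_rc_8_2 lc_b_rc_26_5 lc_b_rc_7_2 lc_b_rc_6_1 lc_b_rc_9_2 lc_b_rc_8_2 lc_b_rc_1_3 lc_b_rc_8_0 lc_b_rc_9_2 lc_b_rc_7_0 lc_b_rc_8_2 lc_b_rc_6_1 lc_b_rc_6_1 lc_b_rc_9_2 lc_b_rc_8_2 lc_b_rc_6_1 lc_b_rc_8_2 lc_b_rc_8_2 lc_b_Cert_tree lc_b_Cert_tree)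
def ce_b_21 : D2 → D3 → (Cert rels S Gen.b) := @D2.rec (fun _ => D3 → (Cert rels S Gen.b)) (@D3.rec (fun _ => (Cert rels S Gen.b)) lc_b_rc_8_2 lc_b_rc_6_1 lc_b_rc_8_2 lc_b_rc_6_1 lc_b_rc_26_1 lc_b_rc_6_1 lc_b_rc_9_2 lc_b_rc_6_1 lc_b_rc_6_1 lc_b_rc_6_1 lc_b_Cert_tree lc_b_rc_6_1 lc_b_rc_1_3 lc_b_rc_6_1 lc_b_rc_26_1 lc_b_rc_8_2 lc_b_rc_9_2 lc_b_rc_7_4 lc_b_rc_9_2 lc_b_rc_8_2 lc_b_rc_26_5 lc_b_rc_6_1 lc_b_rc_6_1 lc_b_rc_9_2 lc_b_rc_26_7 lc_b_rc_8_2 lc_b_rc_6_1 lc_b_rc_8_2 lc_b_rc_6_1 lc_b_rc_9_2 lc_b_rc_9_2 lc_b_rc_6_1 lc_b_rc_8_2 lc_b_rc_9_2 lc_b_rc_6_1 lc_b_rc_8_2 lc_b_rc_6_1 lc_b_Cert_tree lc_b_Cert_tree lc_b_rc_9_2 lc_b_rc_7_2 lc_b_rc_6_1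 lc_b_rc_8_2 lc_b_rc_10_2 lc_b_rc_10_0 lc_b_rc_7_2 lc_b_rc_1_3 lc_b_rc_9_0 lc_b_rc_8_2 lc_b_rc_6_1 lc_b_rc_9_2 lc_b_rc_26_7 lc_b_rc_9_2 lc_b_rc_6_1 lc_b_rc_6_1 lc_b_rc_8_2 lc_b_rc_9_2 lc_b_rc_1_1 lc_b_rc_9_2 lc_b_rc_8_2 lc_b_rc_6_1 lc_b_rc_6_1) (@D3.rec (fun _ => (Cert rels S Gen.b)) lc_b_rc_7_2 lc_b_rc_9_2 lc_b_rc_6_1 lc_b_rc_6_1 lc_b_rc_7_2 lc_b_rc_8_2 lc_b_Cert_tree lc_b_rc_6_1 lc_b_rc_6_1 lc_b_rc_8_2 lc_b_rc_6_1 lc_b_rc_8_2 lc_b_rc_9_2 lc_b_rc_1_3 lc_b_rc_26_1 lc_b_rc_8_0 lc_b_rc_9_2 lc_b_rc_10_2 lc_b_rc_7_0 lc_b_rc_9_2 lc_b_rc_6_1 lc_b_rc_8_2 lc_b_rc_9_2 lc_b_rc_26_5 lc_b_Cert_tree lc_b_rc_7_0 lc_b_rc_8_2 lc_b_rc_7_4 lc_b_rc_9_2 lc_b_rc_8_2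 lc_b_rc_9_2 lc_b_rc_6_1 lc_b_rc_1_3 lc_b_rc_8_0 lc_b_rc_25_16 lc_b_rc_7_2 lc_b_rc_8_2 lc_b_rc_26_7 lc_b_rc_7_4 lc_b_rc_9_2 lc_b_rc_7_4 lc_b_rc_6_1 lc_b_rc_1_5 lc_b_rc_1_3 lc_b_rc_9_2 lc_b_rc_6_1 lc_b_rc_7_2 lc_b_rc_9_2 lc_b_rc_9_2 lc_b_rc_6_1 lc_b_Cert_tree lc_b_rc_7_2 lc_b_rc_8_2 lc_b_rc_26_5 lc_b_rc_8_2 lc_b_rc_8_2 lc_b_rc_6_1 lc_b_rc_6_1 lc_b_rc_6_1 lc_b_rc_9_2 lc_b_Cert_tree lc_b_rc_8_2) (@D3.rec (fun _ => (Cert rels S Gen.b)) lc_b_rc_6_1 lc_b_rc_9_2 lc_b_rc_6_1 lc_b_rc_8_2 lc_b_rc_9_2 lc_b_rc_6_1 lc_b_rc_6_1 lc_b_rc_9_2 lc_b_rc_7_2 lc_b_rc_8_2 lc_b_rc_10_2 lc_b_rc_6_1 lc_b_rc_7_4 lc_b_rc_6_1 lc_b_rc_26_5 lc_b_rc_8_2 lc_b_rc_9_2 lc_b_rc_7_4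 lc_b_rc_9_2 lc_b_rc_6_1 lc_b_rc_8_2 lc_b_rc_10_2 lc_b_rc_8_2 lc_b_rc_10_2 lc_b_rc_6_1 lc_b_rc_8_2 lc_b_rc_8_2 lc_b_Cert_tree lc_b_Cert_tree lc_b_rc_10_2 lc_b_rc_6_1 lc_b_rc_8_2 lc_b_rc_7_4 lc_b_rc_6_1 lc_b_Cert_tree lc_b_rc_1_5 lc_b_rc_7_4 lc_b_rc_9_2 lc_b_rc_8_2 lc_b_rc_9_2 lc_b_rc_8_0 lc_b_Cert_tree lc_b_rc_9_2 lc_b_rc_8_2 lc_b_rc_8_0 lc_b_rc_10_2 lc_b_rc_10_0 lc_b_rc_25_4 lc_b_rc_6_1 lc_b_rc_9_0 lc_b_rc_26_7 lc_b_rc_9_2 lc_b_rc_10_2 lc_b_rc_9_0 lc_b_rc_6_1 lc_b_rc_8_2 lc_b_rc_26_5 lc_b_rc_10_2 lc_b_rc_8_0 lc_b_rc_7_4 lc_b_rc_8_0 lc_b_rc_7_4) (@D3.rec (fun _ => (Cert rels S Gen.b)) lc_b_Cert_tree lc_b_rc_26_5 lc_b_rc_7_2 lc_b_rc_1_1 lc_b_rc_8_2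 lc_b_rc_26_7 lc_b_rc_7_0 lc_b_rc_10_2 lc_b_rc_9_2 lc_b_rc_8_0 lc_b_rc_26_5 lc_b_rc_9_2 lc_b_rc_6_1 lc_b_rc_8_2 lc_b_Cert_tree lc_b_rc_10_2 lc_b_rc_8_2 lc_b_rc_9_2 lc_b_rc_26_1 lc_b_rc_9_2 lc_b_rc_8_2 lc_b_rc_6_1 lc_b_rc_9_2 lc_b_Cert_tree lc_b_rc_9_2 lc_b_rc_10_2 lc_b_rc_7_2 lc_b_rc_9_2 lc_b_rc_10_0 lc_b_rc_8_2 lc_b_rc_8_2 lc_b_rc_10_2 lc_b_rc_26_5 lc_b_rc_7_2 lc_b_rc_8_2 lc_b_rc_9_2 lc_b_rc_9_2 lc_b_rc_10_2 lc_b_rc_7_2 lc_b_rc_9_2 lc_b_rc_9_2 lc_b_rc_6_1 lc_b_rc_7_4 lc_b_rc_9_2 lc_b_rc_6_1 lc_b_rc_26_7 lc_b_rc_9_2 lc_b_rc_6_1 lc_b_rc_8_2 lc_b_rc_8_2 lc_b_rc_6_1 lc_b_rc_1_5 lc_b_rc_8_2 lc_b_rc_9_2 lc_b_rc_8_0 lc_b_rc_6_1 lc_b_rc_1_3 lc_b_rc_9_2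 lc_b_rc_6_1 lc_b_rc_7_4 lc_b_rc_26_7 lc_b_rc_26_5) (@D3.rec (fun _ => (Cert rels S Gen.b)) lc_b_rc_8_2 lc_b_rc_9_2 lc_b_rc_6_1 lc_b_rc_26_7 lc_b_rc_8_0 lc_b_rc_6_1 lc_b_rc_26_5 lc_b_rc_9_2 lc_b_rc_9_0 lc_b_rc_9_2 lc_b_rc_6_1 lc_b_rc_26_5 lc_b_rc_1_1 lc_b_rc_8_2 lc_b_rc_8_0 lc_b_rc_9_2 lc_b_rc_9_2 lc_b_rc_6_1 lc_b_rc_9_2 lc_b_rc_7_0 lc_b_rc_9_2 lc_b_rc_26_5 lc_b_rc_6_1 lc_b_rc_8_0 lc_b_rc_7_2 lc_b_rc_8_2 lc_b_rc_8_2 lc_b_rc_9_0 lc_b_rc_1_3 lc_b_rc_8_2 lc_b_Cert_tree lc_b_rc_1_3 lc_b_rc_6_1 lc_b_rc_1_3 lc_b_rc_1_5 lc_b_rc_10_0 lc_b_rc_7_4 lc_b_rc_6_1 lc_b_rc_7_4 lc_b_rc_26_7 lc_b_rc_10_2 lc_b_rc_6_1 lc_b_rc_26_7 lc_b_rc_6_1 lc_b_rc_7_4 lc_b_rc_26_1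 lc_b_rc_8_0 lc_b_rc_6_1 lc_b_rc_26_5 lc_b_rc_9_2 lc_b_rc_6_1 lc_b_rc_10_2 lc_b_rc_9_2 lc_b_rc_9_2 lc_b_rc_6_1 lc_b_rc_9_0 lc_b_rc_8_2 lc_b_rc_6_1 lc_b_rc_1_3 lc_b_rc_8_2 lc_b_Cert_tree lc_b_Cert_tree) (@D3.rec (fun _ => (Cert rels S Gen.b)) lc_b_rc_1_3 lc_b_rc_8_2 lc_b_rc_8_0 lc_b_Cert_tree lc_b_rc_1_3 lc_b_rc_8_2 lc_b_rc_6_1 lc_b_rc_1_5 lc_b_rc_1_3 lc_b_rc_8_2 lc_b_rc_9_2 lc_b_rc_9_2 lc_b_rc_6_1 lc_b_Cert_tree lc_b_rc_8_2 lc_b_rc_9_2 lc_b_rc_6_1 lc_b_rc_8_2 lc_b_rc_8_2 lc_b_rc_10_2 lc_b_rc_1_3 lc_b_rc_8_2 lc_b_rc_6_1 lc_b_Cert_tree lc_b_rc_8_2 lc_b_rc_6_1 lc_b_rc_26_5 lc_b_rc_9_2 lc_b_rc_6_1 lc_b_rc_8_2 lc_b_rc_1_1 lc_b_rc_8_2 lc_b_rc_6_1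 lc_b_rc_6_1 lc_b_rc_6_1 lc_b_rc_1_5 lc_b_rc_10_2 lc_b_rc_8_2 lc_b_rc_26_7 lc_b_rc_7_4 lc_b_rc_9_2 lc_b_rc_10_2 lc_b_rc_8_0 lc_b_rc_7_2 lc_b_rc_9_2 lc_b_rc_6_1 lc_b_rc_8_2 lc_b_rc_1_1 lc_b_rc_6_1 lc_b_rc_9_2 lc_b_rc_6_1 lc_b_rc_8_2 lc_b_rc_10_2 lc_b_rc_9_0 lc_b_rc_6_1 lc_b_rc_6_1 lc_b_rc_6_1 lc_b_rc_1_3 lc_b_rc_8_2 lc_b_rc_6_1 lc_b_rc_8_2 lc_b_Cert_tree) (@D3.rec (fun _ => (Cert rels S Gen.b)) lc_b_rc_1_3 lc_b_rc_8_2 lc_b_rc_8_2 lc_b_Cert_tree lc_b_rc_6_1 lc_b_rc_1_3 lc_b_rc_6_1 lc_b_rc_26_5 lc_b_rc_1_3 lc_b_rc_6_1 lc_b_Cert_tree lc_b_rc_6_1 lc_b_Cert_tree lc_b_rc_8_2 lc_b_rc_9_2 lc_b_rc_10_2 lc_b_rc_6_1 lc_b_rc_1_3 lc_b_rc_6_1 lc_b_Cert_tree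 lc_b_rc_7_4 lc_b_rc_9_2 lc_b_rc_6_1 lc_b_rc_9_2 lc_b_rc_6_1 lc_b_rc_9_2 lc_b_rc_7_4 lc_b_rc_6_1 lc_b_rc_7_2 lc_b_rc_6_1 lc_b_rc_1_1 lc_b_rc_1_3 lc_b_rc_9_2 lc_b_rc_10_2 lc_b_Cert_tree lc_b_rc_1_3 lc_b_rc_6_1 lc_b_rc_7_2 lc_b_rc_6_1 lc_b_rc_8_2 lc_b_Cert_tree lc_b_rc_8_2 lc_b_rc_6_1 lc_b_rc_9_2 lc_b_rc_6_1 lc_b_rc_26_5 lc_b_Cert_tree lc_b_Cert_tree lc_b_rc_7_4 lc_b_rc_6_1 lc_b_rc_26_1 lc_b_rc_9_2 lc_b_rc_6_1 lc_b_rc_6_1 lc_b_rc_9_2 lc_b_rc_8_2 lc_b_rc_1_5 lc_b_rc_9_2 lc_b_rc_9_2 lc_b_rc_10_2 lc_b_rc_26_1 lc_b_rc_8_2) (@D3.rec (fun _ => (Cert rels S Gen.b)) lc_b_rc_6_1 lc_b_rc_1_3 lc_b_rc_10_2 lc_b_rc_8_2 lc_b_rc_9_2 lc_b_rc_1_1 lc_b_rc_9_2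 lc_b_rc_8_0 lc_b_rc_10_2 lc_b_rc_8_2 lc_b_rc_6_1 lc_b_rc_8_2 lc_b_rc_9_2 lc_b_rc_9_2 lc_b_rc_8_2 lc_b_rc_9_2 lc_b_Cert_tree lc_b_rc_9_2 lc_b_rc_6_1 lc_b_rc_8_2 lc_b_rc_8_2 lc_b_rc_6_1 lc_b_rc_1_3 lc_b_rc_8_2 lc_b_rc_9_2 lc_b_rc_6_1 lc_b_rc_6_1 lc_b_rc_8_2 lc_b_rc_7_2 lc_b_rc_8_0 lc_b_rc_8_0 lc_b_rc_8_2 lc_b_rc_6_1 lc_b_rc_7_2 lc_b_rc_26_5 lc_b_rc_8_2 lc_b_rc_9_0 lc_b_rc_1_1 lc_b_rc_1_5 lc_b_rc_26_1 lc_b_rc_10_2 lc_b_rc_1_5 lc_b_rc_10_2 lc_b_rc_8_2 lc_b_rc_8_2 lc_b_rc_9_0 lc_b_rc_1_5 lc_b_rc_8_2 lc_b_rc_9_2 lc_b_rc_9_0 lc_b_rc_9_0 lc_b_rc_7_4 lc_b_rc_26_5 lc_b_rc_8_0 lc_b_rc_26_1 lc_b_rc_1_1 lc_b_rc_1_5 lc_b_rc_7_4 lc_b_rc_26_7 lc_b_rc_8_2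 lc_b_rc_7_2 lc_b_rc_8_0) (@D3.rec (fun _ => (Cert rels S Gen.b)) lc_b_rc_7_2 lc_b_rc_8_2 lc_b_rc_10_2 lc_b_rc_26_7 lc_b_rc_9_0 lc_b_rc_8_2 lc_b_rc_6_1 lc_b_rc_7_4 lc_b_rc_26_5 lc_b_rc_6_1 lc_b_rc_9_2 lc_b_rc_7_0 lc_b_rc_9_0 lc_b_rc_8_2 lc_b_rc_10_2 lc_b_rc_9_2 lc_b_rc_26_1 lc_b_rc_8_2 lc_b_rc_9_0 lc_b_rc_26_7 lc_b_rc_8_2 lc_b_rc_26_7 lc_b_rc_7_0 lc_b_rc_6_1 lc_b_rc_9_0 lc_b_rc_6_1 lc_b_rc_10_2 lc_b_rc_9_2 lc_b_rc_7_0 lc_b_rc_9_2 lc_b_rc_6_1 lc_b_rc_8_2 lc_b_rc_7_0 lc_b_rc_9_0 lc_b_rc_25_4 lc_b_rc_1_3 lc_b_rc_8_2 lc_b_rc_9_0 lc_b_rc_8_2 lc_b_Cert_tree lc_b_Cert_tree lc_b_rc_8_2 lc_b_rc_9_2 lc_b_rc_6_1 lc_b_rc_1_3 lc_b_rc_8_0 lc_b_rc_1_3 lc_b_rc_9_2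 lc_b_rc_8_2 lc_b_rc_6_1 lc_b_rc_8_2 lc_b_rc_8_2 lc_b_rc_9_2 lc_b_rc_6_1 lc_b_rc_9_2 lc_b_rc_1_3 lc_b_rc_6_1 lc_b_rc_6_1 lc_b_rc_7_4 lc_b_rc_9_2 lc_b_rc_7_2 lc_b_rc_26_5) (@D3.rec (fun _ => (Cert rels S Gen.b)) lc_b_rc_25_16 lc_b_rc_10_2 lc_b_rc_9_2 lc_b_rc_1_5 lc_b_rc_6_1 lc_b_rc_9_2 lc_b_rc_6_1 lc_b_rc_6_1 lc_b_rc_9_2 lc_b_rc_1_5 lc_b_Cert_tree lc_b_rc_6_1 lc_b_rc_7_4 lc_b_rc_7_0 lc_b_rc_6_1 lc_b_rc_10_0 lc_b_rc_7_4 lc_b_rc_7_0 lc_b_rc_8_2 lc_b_rc_8_0 lc_b_rc_8_2 lc_b_rc_26_1 lc_b_rc_8_2 lc_b_rc_8_2 lc_b_rc_6_1 lc_b_rc_25_4 lc_b_rc_9_2 lc_b_rc_7_2 lc_b_rc_7_4 lc_b_rc_6_1 lc_b_rc_6_1 lc_b_rc_8_0 lc_b_rc_10_2 lc_b_rc_9_0 lc_b_rc_26_1 lc_b_rc_9_0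 lc_b_rc_1_5 lc_b_rc_6_1 lc_b_rc_6_1 lc_b_rc_8_2 lc_b_rc_6_1 lc_b_rc_1_5 lc_b_rc_25_4 lc_b_rc_1_5 lc_b_rc_6_1 lc_b_rc_8_2 lc_b_rc_26_1 lc_b_rc_26_7 lc_b_rc_6_1 lc_b_rc_10_2 lc_b_rc_7_2 lc_b_rc_8_2 lc_b_rc_7_0 lc_b_rc_8_2 lc_b_rc_1_5 lc_b_Cert_tree lc_b_rc_9_0 lc_b_rc_6_1 lc_b_rc_8_2 lc_b_rc_6_1 lc_b_rc_8_0 lc_b_rc_6_1) (@D3.rec (fun _ => (Cert rels S Gen.b)) lc_b_rc_8_0 lc_b_rc_6_1 lc_b_rc_26_5 lc_b_rc_10_2 lc_b_rc_10_2 lc_b_rc_8_0 lc_b_rc_25_8 lc_b_rc_26_5 lc_b_rc_6_1 lc_b_rc_7_4 lc_b_rc_25_4 lc_b_rc_10_0 lc_b_rc_9_2 lc_b_rc_1_5 lc_b_rc_6_1 lc_b_rc_7_4 lc_b_rc_1_5 lc_b_rc_8_0 lc_b_rc_7_2 lc_b_rc_9_2 lc_b_rc_8_2 lc_b_rc_26_5 lc_b_Cert_tree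 lc_b_rc_9_2 lc_b_rc_1_5 lc_b_Cert_tree lc_b_rc_6_1 lc_b_rc_8_2 lc_b_rc_6_1 lc_b_rc_8_0 lc_b_rc_26_5 lc_b_rc_8_2 lc_b_rc_10_2 lc_b_rc_6_1 lc_b_rc_9_2 lc_b_rc_8_2 lc_b_Cert_tree lc_b_rc_10_2 lc_b_Cert_tree lc_b_rc_9_2 lc_b_rc_6_1 lc_b_rc_25_16 lc_b_rc_26_1 lc_b_rc_9_2 lc_b_rc_10_2 lc_b_rc_6_1 lc_b_rc_7_4 lc_b_rc_9_0 lc_b_Cert_tree lc_b_rc_10_2 lc_b_rc_6_1 lc_b_rc_10_0 lc_b_rc_6_1 lc_b_rc_9_2 lc_b_Cert_tree lc_b_Cert_tree lc_b_rc_1_3 lc_b_Cert_tree lc_b_rc_26_5 lc_b_rc_8_2 lc_b_rc_26_1 lc_b_rc_7_2) (@D3.rec (fun _ => (Cert rels S Gen.b)) lc_b_rc_9_2 lc_b_rc_6_1 lc_b_rc_9_2 lc_b_rc_6_1 lc_b_rc_7_0 lc_b_rc_10_2 lc_b_rc_8_0 lc_b_rc_8_0 lc_b_rc_8_2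 lc_b_rc_6_1 lc_b_rc_1_3 lc_b_rc_8_0 lc_b_rc_26_7 lc_b_rc_9_2 lc_b_rc_8_2 lc_b_rc_9_2 lc_b_rc_10_2 lc_b_rc_25_8 lc_b_rc_8_0 lc_b_rc_26_7 lc_b_rc_6_1 lc_b_rc_6_1 lc_b_rc_7_4 lc_b_rc_8_2 lc_b_rc_9_0 lc_b_rc_6_1 lc_b_rc_8_2 lc_b_rc_6_1 lc_b_rc_26_1 lc_b_rc_1_3 lc_b_rc_8_2 lc_b_Cert_tree lc_b_rc_9_2 lc_b_rc_9_2 lc_b_rc_6_1 lc_b_rc_6_1 lc_b_Cert_tree lc_b_rc_6_1 lc_b_rc_1_1 lc_b_rc_10_2 lc_b_rc_8_2 lc_b_rc_7_4 lc_b_rc_6_1 lc_b_rc_8_2 lc_b_rc_6_1 lc_b_rc_8_2 lc_b_rc_8_2 lc_b_rc_8_2 lc_b_rc_8_0 lc_b_rc_9_2 lc_b_rc_8_2 lc_b_rc_9_2 lc_b_Cert_tree lc_b_rc_6_1 lc_b_rc_8_2 lc_b_rc_6_1 lc_b_rc_10_0 lc_b_rc_6_1 lc_b_rc_10_2 lc_b_rc_8_2 lc_b_rc_10_2 lc_b_rc_9_0)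 (@D3.rec (fun _ => (Cert rels S Gen.b)) lc_b_rc_26_7 lc_b_rc_7_0 lc_b_rc_7_4 lc_b_rc_9_2 lc_b_rc_9_0 lc_b_Cert_tree lc_b_rc_10_2 lc_b_rc_1_5 lc_b_rc_6_1 lc_b_rc_1_3 lc_b_rc_8_2 lc_b_rc_10_2 lc_b_rc_10_2 lc_b_rc_7_2 lc_b_rc_26_5 lc_b_rc_8_2 lc_b_rc_9_2 lc_b_rc_1_5 lc_b_rc_9_2 lc_b_Cert_tree lc_b_rc_6_1 lc_b_rc_8_2 lc_b_rc_9_2 lc_b_rc_8_2 lc_b_rc_9_2 lc_b_rc_26_7 lc_b_rc_6_1 lc_b_rc_8_2 lc_b_rc_10_2 lc_b_rc_6_1 lc_b_rc_9_2 lc_b_rc_7_2 lc_b_rc_9_2 lc_b_rc_9_2 lc_b_rc_10_2 lc_b_rc_6_1 lc_b_rc_1_5 lc_b_rc_26_5 lc_b_rc_10_2 lc_b_rc_26_1 lc_b_rc_6_1 lc_b_rc_6_1 lc_b_rc_1_3 lc_b_rc_8_2 lc_b_rc_10_2 lc_b_rc_8_0 lc_b_rc_26_5 lc_b_rc_6_1 lc_b_rc_9_2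 lc_b_rc_6_1 lc_b_rc_7_4 lc_b_rc_6_1 lc_b_rc_26_7 lc_b_rc_6_1 lc_b_rc_7_4 lc_b_rc_6_1 lc_b_rc_9_0 lc_b_rc_6_1 lc_b_rc_9_2 lc_b_rc_9_2 lc_b_rc_8_2 lc_b_rc_9_2) (@D3.rec (fun _ => (Cert rels S Gen.b)) lc_b_rc_10_2 lc_b_rc_8_2 lc_b_rc_7_2 lc_b_rc_8_2 lc_b_rc_9_2 lc_b_rc_8_2 lc_b_rc_6_1 lc_b_rc_7_2 lc_b_rc_26_5 lc_b_rc_6_1 lc_b_rc_10_2 lc_b_rc_8_2 lc_b_rc_10_2 lc_b_rc_6_1 lc_b_rc_7_4 lc_b_rc_9_2 lc_b_rc_7_0 lc_b_rc_7_2 lc_b_rc_9_2 lc_b_rc_26_5 lc_b_rc_26_5 lc_b_rc_6_1 lc_b_rc_9_2 lc_b_rc_10_2 lc_b_Cert_tree lc_b_rc_9_0 lc_b_rc_7_2 lc_b_Cert_tree lc_b_rc_26_7 lc_b_rc_26_5 lc_b_rc_7_0 lc_b_rc_1_5 lc_b_rc_10_2 lc_b_rc_9_2 lc_b_rc_1_5 lc_b_rc_7_4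 lc_b_rc_10_2 lc_b_rc_9_2 lc_b_rc_10_2 lc_b_rc_7_4 lc_b_rc_8_2 lc_b_rc_26_7 lc_b_rc_26_5 lc_b_rc_8_2 lc_b_rc_6_1 lc_b_rc_8_2 lc_b_rc_8_2 lc_b_rc_1_5 lc_b_rc_10_2 lc_b_Cert_tree lc_b_rc_10_2 lc_b_rc_26_7 lc_b_rc_1_3 lc_b_rc_10_2 lc_b_rc_8_2 lc_b_rc_1_5 lc_b_rc_26_7 lc_b_rc_1_5 lc_b_rc_8_2 lc_b_rc_9_0 lc_b_Cert_tree lc_b_rc_9_2) (@D3.rec (fun _ => (Cert rels S Gen.b)) lc_b_rc_6_1 lc_b_rc_8_2 lc_b_rc_9_2 lc_b_rc_9_0 lc_b_rc_6_1 lc_b_rc_10_2 lc_b_rc_6_1 lc_b_rc_26_1 lc_b_rc_1_1 lc_b_rc_9_2 lc_b_rc_26_5 lc_b_rc_8_2 lc_b_rc_9_2 lc_b_rc_7_2 lc_b_rc_8_2 lc_b_rc_26_7 lc_b_rc_8_2 lc_b_rc_7_2 lc_b_rc_7_0 lc_b_rc_6_1 lc_b_rc_6_1 lc_b_rc_8_2 lc_b_rc_8_2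 lc_b_rc_1_5 lc_b_rc_26_5 lc_b_rc_9_2 lc_b_rc_6_1 lc_b_rc_8_2 lc_b_rc_9_0 lc_b_rc_6_1 lc_b_rc_8_2 lc_b_rc_9_2 lc_b_rc_8_2 lc_b_Cert_tree lc_b_rc_8_0 lc_b_rc_10_2 lc_b_rc_8_2 lc_b_rc_1_5 lc_b_rc_9_2 lc_b_rc_8_2 lc_b_rc_8_2 lc_b_rc_1_5 lc_b_rc_26_1 lc_b_rc_8_2 lc_b_rc_6_1 lc_b_rc_26_5 lc_b_rc_10_2 lc_b_rc_8_2 lc_b_rc_9_2 lc_b_rc_26_1 lc_b_rc_26_7 lc_b_rc_8_2 lc_b_rc_6_1 lc_b_rc_8_2 lc_b_rc_9_2 lc_b_rc_8_2 lc_b_rc_10_2 lc_b_Cert_tree lc_b_rc_6_1 lc_b_rc_1_3 lc_b_rc_8_2 lc_b_rc_1_3) (@D3.rec (fun _ => (Cert rels S Gen.b)) lc_b_rc_6_1 lc_b_rc_6_1 lc_b_rc_9_2 lc_b_rc_9_2 lc_b_rc_8_2 lc_b_Cert_tree lc_b_rc_1_5 lc_b_rc_9_2 lc_b_rc_10_2 lc_b_rc_9_2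 lc_b_rc_8_2 lc_b_rc_6_1 lc_b_rc_9_2 lc_b_rc_8_2 lc_b_rc_8_0 lc_b_rc_1_3 lc_b_rc_6_1 lc_b_Cert_tree lc_b_rc_8_2 lc_b_rc_26_7 lc_b_rc_10_2 lc_b_rc_7_0 lc_b_rc_10_2 lc_b_rc_9_0 lc_b_rc_1_1 lc_b_rc_6_1 lc_b_rc_26_7 lc_b_rc_9_2 lc_b_rc_6_1 lc_b_rc_8_2 lc_b_rc_8_0 lc_b_rc_10_2 lc_b_rc_6_1 lc_b_rc_26_7 lc_b_rc_26_7 lc_b_rc_9_2 lc_b_rc_8_2 lc_b_rc_9_2 lc_b_rc_9_2 lc_b_rc_10_2 lc_b_rc_6_1 lc_b_rc_9_2 lc_b_rc_10_2 lc_b_rc_6_1 lc_b_rc_6_1 lc_b_rc_6_1 lc_b_rc_1_5 lc_b_rc_9_2 lc_b_Cert_tree lc_b_rc_26_5 lc_b_rc_10_2 lc_b_rc_6_1 lc_b_rc_8_2 lc_b_rc_8_2 lc_b_rc_6_1 lc_b_rc_26_1 lc_b_rc_10_2 lc_b_rc_9_2 lc_b_rc_6_1 lc_b_rc_26_5 lc_b_rc_8_2 lc_b_rc_10_2)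 (@D3.rec (fun _ => (Cert rels S Gen.b)) lc_b_rc_26_5 lc_b_rc_9_2 lc_b_rc_6_1 lc_b_rc_9_2 lc_b_rc_8_2 lc_b_rc_9_2 lc_b_rc_10_2 lc_b_rc_9_2 lc_b_rc_9_2 lc_b_rc_9_2 lc_b_rc_6_1 lc_b_rc_8_2 lc_b_rc_7_0 lc_b_rc_26_5 lc_b_rc_9_2 lc_b_rc_10_2 lc_b_rc_10_2 lc_b_rc_9_2 lc_b_rc_9_0 lc_b_rc_10_2 lc_b_rc_6_1 lc_b_rc_25_0 lc_b_rc_7_2 lc_b_rc_1_3 lc_b_rc_8_2 lc_b_rc_9_2 lc_b_rc_9_2 lc_b_rc_8_2 lc_b_rc_10_2 lc_b_rc_6_1 lc_b_rc_6_1 lc_b_rc_8_2 lc_b_rc_1_3 lc_b_rc_9_2 lc_b_Cert_tree lc_b_rc_26_7 lc_b_rc_1_3 lc_b_rc_6_1 lc_b_rc_10_2 lc_b_rc_9_2 lc_b_rc_9_2 lc_b_rc_8_2 lc_b_rc_9_2 lc_b_rc_10_2 lc_b_rc_9_0 lc_b_rc_7_0 lc_b_rc_7_2 lc_b_rc_9_2 lc_b_rc_25_4 lc_b_rc_6_1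 lc_b_rc_9_2 lc_b_rc_25_4 lc_b_rc_8_2 lc_b_rc_9_2 lc_b_rc_6_1 lc_b_rc_7_4 lc_b_rc_25_8 lc_b_rc_6_1 lc_b_rc_8_2 lc_b_rc_6_1 lc_b_rc_8_2 lc_b_rc_6_1) (@D3.rec (fun _ => (Cert rels S Gen.b)) lc_b_rc_7_4 lc_b_rc_6_1 lc_b_rc_26_1 lc_b_rc_7_0 lc_b_rc_26_5 lc_b_rc_8_2 lc_b_rc_8_2 lc_b_rc_8_2 lc_b_rc_6_1 lc_b_rc_6_1 lc_b_rc_9_2 lc_b_Cert_tree lc_b_Cert_tree lc_b_rc_1_3 lc_b_rc_8_2 lc_b_rc_9_2 lc_b_rc_9_2 lc_b_Cert_tree lc_b_rc_26_5 lc_b_rc_1_3 lc_b_rc_8_2 lc_b_rc_6_1 lc_b_rc_26_5 lc_b_rc_6_1 lc_b_rc_1_3 lc_b_rc_8_2 lc_b_rc_25_4 lc_b_rc_1_5 lc_b_rc_1_3 lc_b_rc_8_2 lc_b_rc_9_2 lc_b_rc_6_1 lc_b_rc_8_2 lc_b_rc_1_5 lc_b_rc_1_3 lc_b_rc_6_1 lc_b_Cert_tree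 lc_b_rc_1_5 lc_b_rc_9_2 lc_b_rc_6_1 lc_b_rc_9_2 lc_b_rc_6_1 lc_b_rc_26_7 lc_b_rc_9_2 lc_b_rc_10_2 lc_b_rc_6_1 lc_b_rc_26_1 lc_b_rc_6_1 lc_b_rc_8_0 lc_b_rc_8_0 lc_b_rc_1_1 lc_b_rc_10_2 lc_b_rc_6_1 lc_b_Cert_tree lc_b_rc_8_0 lc_b_rc_8_0 lc_b_rc_1_5 lc_b_rc_7_0 lc_b_rc_6_1 lc_b_rc_8_2 lc_b_rc_26_7 lc_b_Cert_tree) (@D3.rec (fun _ => (Cert rels S Gen.b)) lc_b_rc_9_2 lc_b_rc_6_1 lc_b_rc_8_2 lc_b_rc_9_2 lc_b_rc_9_2 lc_b_rc_7_0 lc_b_rc_8_0 lc_b_rc_8_2 lc_b_Cert_tree lc_b_rc_25_8 lc_b_rc_8_2 lc_b_rc_6_1 lc_b_rc_8_2 lc_b_rc_9_2 lc_b_rc_26_5 lc_b_Cert_tree lc_b_rc_1_3 lc_b_rc_8_2 lc_b_rc_9_2 lc_b_rc_8_2 lc_b_rc_6_1 lc_b_rc_7_0 lc_b_rc_8_2 lc_b_rc_7_0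 lc_b_rc_1_3 lc_b_rc_8_2 lc_b_rc_8_0 lc_b_rc_9_2 lc_b_rc_26_7 lc_b_rc_9_0 lc_b_Cert_tree lc_b_rc_1_3 lc_b_rc_8_2 lc_b_rc_9_2 lc_b_rc_9_2 lc_b_rc_7_4 lc_b_rc_9_2 lc_b_rc_10_2 lc_b_rc_7_4 lc_b_rc_7_4 lc_b_rc_9_2 lc_b_rc_9_2 lc_b_rc_7_2 lc_b_rc_9_2 lc_b_rc_7_0 lc_b_rc_10_2 lc_b_rc_8_2 lc_b_rc_9_2 lc_b_rc_26_7 lc_b_rc_7_0 lc_b_rc_8_2 lc_b_Cert_tree lc_b_rc_8_0 lc_b_rc_6_1 lc_b_rc_26_5 lc_b_rc_1_5 lc_b_rc_6_1 lc_b_rc_8_2 lc_b_rc_6_1 lc_b_rc_26_5 lc_b_rc_25_16 lc_b_rc_8_0) (@D3.rec (fun _ => (Cert rels S Gen.b)) lc_b_rc_1_3 lc_b_rc_6_1 lc_b_rc_6_1 lc_b_Cert_tree lc_b_rc_1_3 lc_b_rc_8_2 lc_b_rc_9_2 lc_b_rc_26_5 lc_b_rc_6_1 lc_b_rc_1_3 lc_b_rc_8_2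 lc_b_rc_9_2 lc_b_rc_9_2 lc_b_rc_7_2 lc_b_rc_26_7 lc_b_rc_1_3 lc_b_rc_8_2 lc_b_rc_1_5 lc_b_rc_9_2 lc_b_rc_6_1 lc_b_rc_8_2 lc_b_rc_6_1 lc_b_rc_8_2 lc_b_rc_25_4 lc_b_rc_8_2 lc_b_Cert_tree lc_b_rc_9_2 lc_b_rc_6_1 lc_b_rc_6_1 lc_b_Cert_tree lc_b_rc_9_0 lc_b_rc_10_2 lc_b_rc_1_3 lc_b_rc_10_2 lc_b_rc_6_1 lc_b_rc_26_1 lc_b_rc_8_2 lc_b_rc_6_1 lc_b_rc_1_1 lc_b_rc_6_1 lc_b_rc_6_1 lc_b_rc_7_4 lc_b_rc_10_2 lc_b_rc_6_1 lc_b_rc_7_0 lc_b_rc_6_1 lc_b_rc_9_0 lc_b_Cert_tree lc_b_rc_9_2 lc_b_rc_6_1 lc_b_rc_8_2 lc_b_rc_6_1 lc_b_rc_8_2 lc_b_rc_6_1 lc_b_rc_26_7 lc_b_rc_8_2 lc_b_rc_1_3 lc_b_rc_8_2 lc_b_rc_1_5 lc_b_rc_6_1 lc_b_rc_26_5 lc_b_rc_7_4) (@D3.rec (fun _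 => (Cert rels S Gen.b)) lc_b_rc_1_3 lc_b_rc_8_2 lc_b_rc_8_2 lc_b_rc_26_1 lc_b_rc_9_2 lc_b_Cert_tree lc_b_rc_1_5 lc_b_rc_1_3 lc_b_rc_9_2 lc_b_rc_6_1 lc_b_rc_6_1 lc_b_rc_7_4 lc_b_rc_6_1 lc_b_rc_8_2 lc_b_rc_9_2 lc_b_rc_7_2 lc_b_rc_8_2 lc_b_rc_9_2 lc_b_rc_8_2 lc_b_rc_6_1 lc_b_rc_26_1 lc_b_rc_8_2 lc_b_rc_7_4 lc_b_rc_6_1 lc_b_rc_1_3 lc_b_rc_9_0 lc_b_rc_1_3 lc_b_rc_6_1 lc_b_rc_6_1 lc_b_rc_1_3 lc_b_rc_9_2 lc_b_rc_8_2 lc_b_rc_26_7 lc_b_rc_26_5 lc_b_rc_9_2 lc_b_rc_1_5 lc_b_rc_25_4 lc_b_rc_6_1 lc_b_rc_6_1 lc_b_rc_8_2 lc_b_rc_9_2 lc_b_rc_7_4 lc_b_rc_8_2 lc_b_rc_9_0 lc_b_rc_9_2 lc_b_rc_6_1 lc_b_rc_6_1 lc_b_rc_8_2 lc_b_rc_6_1 lc_b_rc_8_2 lc_b_rc_26_1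 lc_b_rc_7_0 lc_b_rc_1_1 lc_b_rc_10_2 lc_b_rc_8_2 lc_b_rc_6_1 lc_b_rc_10_2 lc_b_rc_7_4 lc_b_rc_1_3 lc_b_rc_26_1 lc_b_rc_26_5 lc_b_rc_8_2) (@D3.rec (fun _ => (Cert rels S Gen.b)) lc_b_rc_8_2 lc_b_rc_1_3 lc_b_rc_6_1 lc_b_rc_8_2 lc_b_rc_6_1 lc_b_rc_9_0 lc_b_rc_8_2 lc_b_rc_6_1 lc_b_rc_9_2 lc_b_rc_9_0 lc_b_rc_1_3 lc_b_rc_9_2 lc_b_Cert_tree lc_b_rc_9_0 lc_b_rc_7_2 lc_b_rc_6_1 lc_b_rc_6_1 lc_b_rc_9_0 lc_b_rc_26_5 lc_b_rc_8_2 lc_b_rc_9_2 lc_b_rc_8_2 lc_b_rc_8_0 lc_b_rc_8_0 lc_b_Cert_tree lc_b_rc_10_2 lc_b_rc_6_1 lc_b_rc_26_1 lc_b_rc_9_2 lc_b_rc_6_1 lc_b_Cert_tree lc_b_rc_8_2 lc_b_Cert_tree lc_b_rc_26_1 lc_b_rc_6_1 lc_b_rc_8_2 lc_b_rc_7_2 lc_b_rc_1_3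 lc_b_rc_8_2 lc_b_rc_9_0 lc_b_rc_9_2 lc_b_rc_6_1 lc_b_rc_8_2 lc_b_rc_6_1 lc_b_rc_8_2 lc_b_rc_25_4 lc_b_rc_7_2 lc_b_rc_6_1 lc_b_rc_6_1 lc_b_rc_8_2 lc_b_rc_9_0 lc_b_rc_25_16 lc_b_rc_8_2 lc_b_rc_8_2 lc_b_rc_10_2 lc_b_rc_26_5 lc_b_rc_9_2 lc_b_rc_8_2 lc_b_rc_9_0 lc_b_rc_1_3 lc_b_rc_6_1 lc_b_rc_25_4) (@D3.rec (fun _ => (Cert rels S Gen.b)) lc_b_rc_26_1 lc_b_rc_6_1 lc_b_rc_7_4 lc_b_rc_9_2 lc_b_rc_9_0 lc_b_rc_6_1 lc_b_rc_9_2 lc_b_rc_9_2 lc_b_rc_6_1 lc_b_rc_6_1 lc_b_rc_26_1 lc_b_rc_1_5 lc_b_rc_8_2 lc_b_rc_9_0 lc_b_rc_6_1 lc_b_rc_6_1 lc_b_rc_6_1 lc_b_rc_6_1 lc_b_rc_26_7 lc_b_rc_8_0 lc_b_rc_26_5 lc_b_rc_1_3 lc_b_rc_8_2 lc_b_rc_8_0 lc_b_rc_9_2 lc_b_rc_6_1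 lc_b_Cert_tree lc_b_rc_25_4 lc_b_rc_7_4 lc_b_rc_8_2 lc_b_rc_6_1 lc_b_rc_9_0 lc_b_rc_7_4 lc_b_rc_8_2 lc_b_rc_6_1 lc_b_rc_1_5 lc_b_rc_1_3 lc_b_rc_8_2 lc_b_rc_6_1 lc_b_rc_8_2 lc_b_rc_9_0 lc_b_rc_9_2 lc_b_rc_26_5 lc_b_rc_8_2 lc_b_rc_8_2 lc_b_rc_7_4 lc_b_rc_7_0 lc_b_rc_1_5 lc_b_rc_6_1 lc_b_rc_10_0 lc_b_rc_10_0 lc_b_rc_1_3 lc_b_rc_6_1 lc_b_rc_9_0 lc_b_rc_6_1 lc_b_rc_7_0 lc_b_rc_6_1 lc_b_rc_8_2 lc_b_rc_26_1 lc_b_rc_1_3 lc_b_rc_8_2 lc_b_rc_9_2) (@D3.rec (fun _ => (Cert rels S Gen.b)) lc_b_rc_8_2 lc_b_rc_8_2 lc_b_rc_6_1 lc_b_rc_6_1 lc_b_rc_6_1 lc_b_rc_26_5 lc_b_rc_9_0 lc_b_rc_8_0 lc_b_rc_26_5 lc_b_rc_8_2 lc_b_rc_9_2 lc_b_rc_7_0 lc_b_rc_1_3 lc_b_rc_8_2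 lc_b_rc_8_0 lc_b_rc_6_1 lc_b_rc_8_0 lc_b_rc_6_1 lc_b_rc_9_2 lc_b_rc_9_0 lc_b_rc_8_2 lc_b_rc_8_2 lc_b_rc_26_5 lc_b_rc_7_4 lc_b_rc_6_1 lc_b_rc_9_0 lc_b_rc_8_0 lc_b_rc_8_2 lc_b_rc_26_1 lc_b_rc_6_1 lc_b_rc_7_2 lc_b_rc_9_2 lc_b_rc_9_2 lc_b_rc_10_2 lc_b_Cert_tree lc_b_rc_26_5 lc_b_rc_8_0 lc_b_rc_1_3 lc_b_rc_8_2 lc_b_rc_9_0 lc_b_rc_9_0 lc_b_rc_7_4 lc_b_rc_6_1 lc_b_rc_6_1 lc_b_rc_6_1 lc_b_Cert_tree lc_b_rc_8_2 lc_b_rc_8_0 lc_b_rc_8_2 lc_b_rc_7_2 lc_b_rc_1_3 lc_b_rc_8_2 lc_b_rc_9_2 lc_b_rc_26_1 lc_b_rc_8_0 lc_b_rc_25_4 lc_b_rc_1_5 lc_b_rc_26_1 lc_b_rc_1_3 lc_b_rc_8_2 lc_b_rc_26_7 lc_b_rc_1_3) (@D3.rec (fun _ => (Cert rels S Gen.b)) lc_b_rc_6_1 lc_b_rc_26_1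 lc_b_rc_9_2 lc_b_rc_6_1 lc_b_rc_26_5 lc_b_rc_6_1 lc_b_rc_25_4 lc_b_rc_6_1 lc_b_rc_26_5 lc_b_rc_9_2 lc_b_rc_9_0 lc_b_rc_8_0 lc_b_rc_10_2 lc_b_rc_8_2 lc_b_rc_7_4 lc_b_rc_9_2 lc_b_rc_6_1 lc_b_rc_6_1 lc_b_rc_6_1 lc_b_Cert_tree lc_b_rc_1_3 lc_b_rc_8_2 lc_b_rc_9_2 lc_b_rc_7_0 lc_b_rc_9_0 lc_b_rc_1_3 lc_b_rc_8_2 lc_b_rc_9_2 lc_b_rc_8_2 lc_b_Cert_tree lc_b_Cert_tree lc_b_rc_8_2 lc_b_rc_10_0 lc_b_rc_6_1 lc_b_rc_6_1 lc_b_rc_8_2 lc_b_rc_7_0 lc_b_rc_8_2 lc_b_Cert_tree lc_b_rc_9_2 lc_b_rc_6_1 lc_b_rc_9_2 lc_b_rc_9_0 lc_b_rc_8_0 lc_b_rc_25_0 lc_b_rc_9_2 lc_b_rc_7_0 lc_b_rc_7_0 lc_b_rc_9_2 lc_b_rc_8_0 lc_b_rc_9_2 lc_b_rc_6_1 lc_b_rc_8_2 lc_b_rc_10_2 lc_b_rc_8_2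 lc_b_rc_10_2 lc_b_rc_6_1 lc_b_rc_9_0 lc_b_rc_6_1 lc_b_rc_7_4 lc_b_rc_6_1 lc_b_rc_1_3) (@D3.rec (fun _ => (Cert rels S Gen.b)) lc_b_rc_8_2 lc_b_rc_1_5 lc_b_rc_7_0 lc_b_rc_6_1 lc_b_rc_1_3 lc_b_rc_9_2 lc_b_rc_6_1 lc_b_rc_9_0 lc_b_rc_1_3 lc_b_rc_8_2 lc_b_rc_9_2 lc_b_rc_6_1 lc_b_rc_1_3 lc_b_rc_8_2 lc_b_rc_9_2 lc_b_rc_8_2 lc_b_rc_9_2 lc_b_rc_10_0 lc_b_rc_6_1 lc_b_rc_9_2 lc_b_rc_6_1 lc_b_rc_8_2 lc_b_rc_9_2 lc_b_rc_1_3 lc_b_rc_6_1 lc_b_rc_6_1 lc_b_rc_7_4 lc_b_rc_9_2 lc_b_rc_6_1 lc_b_rc_9_2 lc_b_rc_6_1 lc_b_rc_7_2 lc_b_Cert_tree lc_b_rc_26_5 lc_b_rc_25_0 lc_b_rc_8_0 lc_b_rc_6_1 lc_b_rc_25_16 lc_b_rc_6_1 lc_b_rc_8_2 lc_b_rc_6_1 lc_b_rc_6_1 lc_b_rc_10_2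 lc_b_rc_9_2 lc_b_rc_7_0 lc_b_rc_6_1 lc_b_rc_26_1 lc_b_rc_1_5 lc_b_rc_8_2 lc_b_rc_9_2 lc_b_rc_9_0 lc_b_rc_1_3 lc_b_rc_1_1 lc_b_rc_6_1 lc_b_rc_26_5 lc_b_rc_1_5 lc_b_rc_26_1 lc_b_rc_6_1 lc_b_rc_7_2 lc_b_rc_10_0 lc_b_Cert_tree lc_b_rc_26_5) (@D3.rec (fun _ => (Cert rels S Gen.b)) lc_b_rc_8_2 lc_b_rc_6_1 lc_b_rc_9_0 lc_b_rc_7_2 lc_b_rc_10_2 lc_b_rc_6_1 lc_b_rc_9_2 lc_b_rc_6_1 lc_b_rc_8_2 lc_b_rc_10_2 lc_b_rc_6_1 lc_b_rc_8_2 lc_b_rc_6_1 lc_b_rc_6_1 lc_b_rc_8_2 lc_b_rc_6_1 lc_b_rc_6_1 lc_b_rc_8_2 lc_b_rc_7_0 lc_b_rc_8_0 lc_b_rc_8_2 lc_b_rc_10_2 lc_b_rc_1_5 lc_b_rc_6_1 lc_b_rc_6_1 lc_b_rc_26_5 lc_b_rc_1_5 lc_b_rc_26_1 lc_b_rc_9_2 lc_b_rc_8_2 lc_b_rc_9_2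 lc_b_rc_9_2 lc_b_rc_8_0 lc_b_rc_6_1 lc_b_rc_7_0 lc_b_rc_26_7 lc_b_rc_6_1 lc_b_rc_7_2 lc_b_rc_26_1 lc_b_rc_8_2 lc_b_rc_9_2 lc_b_rc_8_2 lc_b_rc_9_0 lc_b_rc_26_5 lc_b_rc_6_1 lc_b_rc_9_2 lc_b_rc_8_2 lc_b_rc_6_1 lc_b_rc_26_1 lc_b_rc_1_3 lc_b_rc_6_1 lc_b_rc_9_2 lc_b_rc_26_5 lc_b_rc_6_1 lc_b_rc_8_2 lc_b_rc_6_1 lc_b_rc_26_1 lc_b_rc_6_1 lc_b_rc_26_1 lc_b_rc_26_1 lc_b_rc_8_0 lc_b_rc_6_1) (@D3.rec (fun _ => (Cert rels S Gen.b)) lc_b_rc_8_2 lc_b_rc_26_5 lc_b_rc_26_1 lc_b_rc_1_3 lc_b_rc_8_2 lc_b_rc_10_2 lc_b_rc_26_5 lc_b_rc_7_2 lc_b_rc_10_2 lc_b_rc_9_2 lc_b_rc_1_5 lc_b_rc_1_3 lc_b_rc_26_1 lc_b_rc_8_2 lc_b_rc_1_3 lc_b_rc_9_0 lc_b_rc_9_2 lc_b_rc_8_2 lc_b_rc_8_2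 lc_b_rc_8_2 lc_b_rc_6_1 lc_b_rc_7_4 lc_b_Cert_tree lc_b_Cert_tree lc_b_rc_10_2 lc_b_Cert_tree lc_b_rc_26_5 lc_b_rc_6_1 lc_b_rc_8_2 lc_b_rc_26_1 lc_b_rc_9_2 lc_b_rc_6_1 lc_b_rc_8_2 lc_b_rc_9_2 lc_b_rc_8_2 lc_b_rc_6_1 lc_b_Cert_tree lc_b_rc_8_0 lc_b_rc_6_1 lc_b_rc_26_5 lc_b_rc_26_7 lc_b_rc_25_4 lc_b_rc_9_2 lc_b_rc_1_5 lc_b_rc_7_0 lc_b_rc_1_3 lc_b_rc_9_2 lc_b_rc_9_0 lc_b_rc_9_2 lc_b_Cert_tree lc_b_rc_26_1 lc_b_rc_1_3 lc_b_rc_9_2 lc_b_rc_8_2 lc_b_rc_8_2 lc_b_rc_6_1 lc_b_rc_7_4 lc_b_rc_1_3 lc_b_rc_9_2 lc_b_rc_7_4 lc_b_rc_9_2 lc_b_rc_6_1) (@D3.rec (fun _ => (Cert rels S Gen.b)) lc_b_rc_8_0 lc_b_rc_8_2 lc_b_Cert_tree lc_b_rc_8_2 lc_b_rc_10_2 lc_b_rc_6_1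 lc_b_rc_26_7 lc_b_rc_6_1 lc_b_rc_10_2 lc_b_Cert_tree lc_b_Cert_tree lc_b_Cert_tree lc_b_rc_8_2 lc_b_rc_6_1 lc_b_rc_9_0 lc_b_rc_9_2 lc_b_rc_8_2 lc_b_rc_9_2 lc_b_rc_6_1 lc_b_rc_8_2 lc_b_rc_8_2 lc_b_Cert_tree lc_b_rc_9_2 lc_b_rc_6_1 lc_b_rc_26_5 lc_b_rc_9_2 lc_b_rc_7_0 lc_b_rc_6_1 lc_b_rc_8_0 lc_b_rc_6_1 lc_b_rc_6_1 lc_b_Cert_tree lc_b_rc_26_5 lc_b_rc_6_1 lc_b_rc_6_1 lc_b_rc_7_2 lc_b_rc_9_2 lc_b_rc_25_16 lc_b_rc_10_0 lc_b_rc_26_7 lc_b_rc_26_7 lc_b_rc_8_2 lc_b_rc_26_7 lc_b_rc_10_2 lc_b_rc_8_2 lc_b_rc_1_5 lc_b_rc_9_2 lc_b_rc_8_2 lc_b_rc_7_4 lc_b_rc_9_0 lc_b_rc_9_2 lc_b_rc_26_7 lc_b_Cert_tree lc_b_rc_8_2 lc_b_rc_10_2 lc_b_rc_9_2 lc_b_rc_6_1 lc_b_rc_9_2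 lc_b_rc_8_2 lc_b_rc_9_0 lc_b_rc_26_5 lc_b_rc_9_0) (@D3.rec (fun _ => (Cert rels S Gen.b)) lc_b_rc_8_2 lc_b_rc_7_2 lc_b_rc_7_0 lc_b_rc_8_2 lc_b_rc_9_2 lc_b_rc_9_2 lc_b_rc_26_5 lc_b_rc_26_5 lc_b_rc_8_2 lc_b_rc_9_0 lc_b_Cert_tree lc_b_rc_6_1 lc_b_rc_1_3 lc_b_rc_6_1 lc_b_rc_7_2 lc_b_Cert_tree lc_b_rc_6_1 lc_b_rc_8_2 lc_b_rc_26_7 lc_b_rc_6_1 lc_b_rc_26_5 lc_b_rc_8_2 lc_b_rc_7_4 lc_b_rc_8_2 lc_b_rc_8_2 lc_b_rc_8_2 lc_b_rc_10_2 lc_b_rc_6_1 lc_b_rc_8_2 lc_b_rc_8_2 lc_b_rc_6_1 lc_b_rc_10_2 lc_b_rc_6_1 lc_b_rc_8_2 lc_b_rc_7_4 lc_b_rc_7_4 lc_b_rc_6_1 lc_b_rc_8_2 lc_b_rc_1_5 lc_b_rc_6_1 lc_b_rc_8_2 lc_b_rc_26_5 lc_b_Cert_tree lc_b_Cert_tree lc_b_rc_26_7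 lc_b_rc_8_2 lc_b_rc_10_2 lc_b_rc_1_3 lc_b_rc_10_0 lc_b_rc_1_5 lc_b_Cert_tree lc_b_rc_7_2 lc_b_rc_26_1 lc_b_rc_8_2 lc_b_rc_6_1 lc_b_rc_6_1 lc_b_rc_8_2 lc_b_rc_6_1 lc_b_Cert_tree lc_b_rc_10_2 lc_b_rc_8_2 lc_b_rc_9_2) (@D3.rec (fun _ => (Cert rels S Gen.b)) lc_b_rc_8_2 lc_b_rc_10_2 lc_b_rc_6_1 lc_b_rc_6_1 lc_b_rc_26_1 lc_b_rc_6_1 lc_b_rc_1_3 lc_b_Cert_tree lc_b_rc_9_2 lc_b_rc_10_2 lc_b_rc_9_2 lc_b_rc_8_2 lc_b_rc_6_1 lc_b_rc_9_0 lc_b_rc_8_2 lc_b_rc_8_2 lc_b_rc_6_1 lc_b_rc_9_0 lc_b_rc_8_2 lc_b_rc_9_2 lc_b_Cert_tree lc_b_rc_8_2 lc_b_rc_6_1 lc_b_rc_8_2 lc_b_rc_8_2 lc_b_rc_8_0 lc_b_rc_8_2 lc_b_rc_8_0 lc_b_rc_6_1 lc_b_rc_25_16 lc_b_rc_8_2 lc_b_rc_8_2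 lc_b_rc_7_4 lc_b_rc_9_2 lc_b_rc_26_5 lc_b_rc_6_1 lc_b_rc_26_7 lc_b_rc_6_1 lc_b_rc_9_0 lc_b_rc_1_3 lc_b_rc_8_2 lc_b_rc_9_2 lc_b_rc_9_2 lc_b_rc_9_2 lc_b_rc_9_2 lc_b_rc_6_1 lc_b_rc_9_2 lc_b_rc_1_3 lc_b_rc_8_2 lc_b_rc_10_2 lc_b_rc_6_1 lc_b_rc_8_2 lc_b_rc_6_1 lc_b_rc_6_1 lc_b_rc_6_1 lc_b_rc_9_2 lc_b_rc_10_0 lc_b_rc_26_1 lc_b_rc_6_1 lc_b_rc_7_4 lc_b_rc_8_2 lc_b_rc_1_1) (@D3.rec (fun _ => (Cert rels S Gen.b)) lc_b_rc_1_5 lc_b_rc_7_4 lc_b_Cert_tree lc_b_rc_1_1 lc_b_rc_7_4 lc_b_rc_6_1 lc_b_rc_25_4 lc_b_rc_10_0 lc_b_Cert_tree lc_b_rc_26_1 lc_b_rc_1_3 lc_b_rc_6_1 lc_b_rc_1_1 lc_b_rc_6_1 lc_b_rc_26_1 lc_b_rc_9_2 lc_b_rc_6_1 lc_b_rc_26_5 lc_b_rc_6_1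 lc_b_rc_9_0 lc_b_rc_1_3 lc_b_rc_6_1 lc_b_rc_26_5 lc_b_rc_6_1 lc_b_Cert_tree lc_b_rc_1_3 lc_b_rc_6_1 lc_b_rc_7_2 lc_b_rc_25_0 lc_b_rc_6_1 lc_b_Cert_tree lc_b_rc_7_4 lc_b_rc_9_0 lc_b_rc_8_2 lc_b_rc_6_1 lc_b_rc_1_3 lc_b_rc_8_2 lc_b_rc_9_2 lc_b_rc_9_2 lc_b_rc_26_1 lc_b_rc_26_5 lc_b_rc_8_2 lc_b_rc_26_7 lc_b_rc_8_2 lc_b_rc_1_5 lc_b_rc_9_0 lc_b_rc_10_2 lc_b_Cert_tree lc_b_rc_6_1 lc_b_rc_8_2 lc_b_rc_6_1 lc_b_rc_8_2 lc_b_rc_6_1 lc_b_rc_6_1 lc_b_rc_6_1 lc_b_rc_8_0 lc_b_rc_1_3 lc_b_rc_10_2 lc_b_rc_8_2 lc_b_rc_6_1 lc_b_rc_8_2 lc_b_rc_7_4) (@D3.rec (fun _ => (Cert rels S Gen.b)) lc_b_rc_6_1 lc_b_rc_7_2 lc_b_rc_8_2 lc_b_Cert_tree lc_b_rc_25_16 lc_b_rc_26_5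 lc_b_rc_8_2 lc_b_rc_7_0 lc_b_rc_7_4 lc_b_rc_1_1 lc_b_rc_7_2 lc_b_rc_6_1 lc_b_rc_25_0 lc_b_rc_7_2 lc_b_rc_6_1 lc_b_rc_25_0 lc_b_rc_8_0 lc_b_rc_6_1 lc_b_rc_26_5 lc_b_rc_26_5 lc_b_rc_7_4 lc_b_rc_8_0 lc_b_rc_10_2 lc_b_rc_8_2 lc_b_rc_1_1 lc_b_rc_6_1 lc_b_rc_9_0 lc_b_rc_9_0 lc_b_rc_26_5 lc_b_rc_7_2 lc_b_rc_6_1 lc_b_rc_6_1 lc_b_rc_9_2 lc_b_rc_8_0 lc_b_rc_6_1 lc_b_rc_8_2 lc_b_rc_10_0 lc_b_rc_9_2 lc_b_rc_6_1 lc_b_rc_7_4 lc_b_rc_7_4 lc_b_rc_6_1 lc_b_rc_10_2 lc_b_rc_8_2 lc_b_rc_6_1 lc_b_rc_10_2 lc_b_rc_9_0 lc_b_rc_6_1 lc_b_rc_10_2 lc_b_rc_8_0 lc_b_rc_7_4 lc_b_rc_8_2 lc_b_rc_9_2 lc_b_rc_7_4 lc_b_rc_6_1 lc_b_rc_26_1 lc_b_rc_6_1 lc_b_rc_6_1 lc_b_rc_9_2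 lc_b_rc_9_2 lc_b_rc_6_1 lc_b_rc_26_1) (@D3.rec (fun _ => (Cert rels S Gen.b)) lc_b_rc_7_0 lc_b_rc_10_2 lc_b_rc_6_1 lc_b_rc_8_2 lc_b_rc_6_1 lc_b_rc_6_1 lc_b_rc_7_0 lc_b_rc_1_3 lc_b_rc_8_2 lc_b_rc_26_5 lc_b_rc_8_2 lc_b_rc_6_1 lc_b_rc_6_1 lc_b_rc_7_0 lc_b_Cert_tree lc_b_rc_8_2 lc_b_rc_9_2 lc_b_rc_10_2 lc_b_rc_6_1 lc_b_rc_8_2 lc_b_rc_7_2 lc_b_rc_7_0 lc_b_rc_9_0 lc_b_rc_26_1 lc_b_rc_8_0 lc_b_rc_7_4 lc_b_rc_8_2 lc_b_rc_9_2 lc_b_rc_7_0 lc_b_rc_7_0 lc_b_rc_26_5 lc_b_rc_26_7 lc_b_rc_6_1 lc_b_rc_6_1 lc_b_rc_9_0 lc_b_Cert_tree lc_b_rc_7_2 lc_b_rc_1_3 lc_b_Cert_tree lc_b_rc_1_3 lc_b_rc_9_2 lc_b_rc_1_5 lc_b_rc_6_1 lc_b_Cert_tree lc_b_rc_1_3 lc_b_rc_6_1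 lc_b_rc_26_5 lc_b_rc_1_3 lc_b_rc_6_1 lc_b_rc_7_4 lc_b_rc_26_1 lc_b_rc_26_1 lc_b_rc_10_0 lc_b_rc_9_2 lc_b_rc_6_1 lc_b_rc_8_2 lc_b_rc_9_2 lc_b_rc_8_2 lc_b_rc_1_5 lc_b_Cert_tree lc_b_rc_26_5 lc_b_rc_10_0) (@D3.rec (fun _ => (Cert rels S Gen.b)) lc_b_rc_6_1 lc_b_rc_6_1 lc_b_rc_8_2 lc_b_rc_6_1 lc_b_rc_6_1 lc_b_rc_26_7 lc_b_rc_8_2 lc_b_rc_9_2 lc_b_rc_8_2 lc_b_rc_8_2 lc_b_rc_1_3 lc_b_rc_6_1 lc_b_rc_26_7 lc_b_Cert_tree lc_b_rc_1_3 lc_b_rc_10_2 lc_b_Cert_tree lc_b_rc_1_3 lc_b_rc_8_2 lc_b_rc_9_2 lc_b_rc_6_1 lc_b_rc_6_1 lc_b_rc_1_3 lc_b_rc_8_2 lc_b_rc_7_4 lc_b_rc_8_2 lc_b_rc_8_0 lc_b_rc_25_12 lc_b_rc_9_0 lc_b_rc_8_2 lc_b_rc_8_0 lc_b_rc_6_1 lc_b_rc_8_2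 lc_b_rc_10_2 lc_b_rc_6_1 lc_b_rc_8_2 lc_b_rc_1_3 lc_b_rc_7_2 lc_b_rc_9_2 lc_b_Cert_tree lc_b_Cert_tree lc_b_rc_9_2 lc_b_rc_6_1 lc_b_rc_8_2 lc_b_rc_8_0 lc_b_rc_8_0 lc_b_rc_6_1 lc_b_rc_6_1 lc_b_rc_26_5 lc_b_rc_8_0 lc_b_rc_6_1 lc_b_rc_8_2 lc_b_rc_26_5 lc_b_rc_7_4 lc_b_rc_8_0 lc_b_rc_1_5 lc_b_rc_26_7 lc_b_rc_9_2 lc_b_rc_7_4 lc_b_rc_6_1 lc_b_rc_26_5 lc_b_rc_9_2) (@D3.rec (fun _ => (Cert rels S Gen.b)) lc_b_rc_9_2 lc_b_rc_7_0 lc_b_rc_1_5 lc_b_rc_1_3 lc_b_rc_26_1 lc_b_rc_9_2 lc_b_rc_6_1 lc_b_rc_26_5 lc_b_rc_10_2 lc_b_rc_8_2 lc_b_rc_9_2 lc_b_rc_26_7 lc_b_rc_8_2 lc_b_rc_1_3 lc_b_rc_9_2 lc_b_rc_6_1 lc_b_rc_8_0 lc_b_rc_8_0 lc_b_rc_1_3 lc_b_rc_9_2 lc_b_rc_8_2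 lc_b_rc_8_2 lc_b_rc_7_4 lc_b_rc_6_1 lc_b_rc_10_2 lc_b_rc_26_1 lc_b_Cert_tree lc_b_rc_9_2 lc_b_rc_9_2 lc_b_rc_8_2 lc_b_rc_7_2 lc_b_rc_10_2 lc_b_rc_6_1 lc_b_rc_26_1 lc_b_rc_8_0 lc_b_rc_8_0 lc_b_rc_10_2 lc_b_rc_7_0 lc_b_rc_7_4 lc_b_rc_26_5 lc_b_rc_9_2 lc_b_rc_7_4 lc_b_rc_8_2 lc_b_rc_6_1 lc_b_rc_6_1 lc_b_rc_6_1 lc_b_rc_1_1 lc_b_rc_9_2 lc_b_rc_10_0 lc_b_rc_6_1 lc_b_rc_8_2 lc_b_rc_9_2 lc_b_rc_10_0 lc_b_rc_9_2 lc_b_rc_26_5 lc_b_rc_6_1 lc_b_rc_8_2 lc_b_rc_8_0 lc_b_rc_7_2 lc_b_rc_8_2 lc_b_rc_9_2 lc_b_rc_7_4) (@D3.rec (fun _ => (Cert rels S Gen.b)) lc_b_rc_9_2 lc_b_rc_10_0 lc_b_rc_7_4 lc_b_rc_6_1 lc_b_rc_8_2 lc_b_rc_10_2 lc_b_rc_6_1 lc_b_rc_9_2 lc_b_rc_6_1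 lc_b_rc_8_2 lc_b_rc_1_3 lc_b_rc_8_2 lc_b_rc_7_2 lc_b_rc_9_2 lc_b_rc_9_2 lc_b_rc_9_0 lc_b_rc_6_1 lc_b_rc_7_2 lc_b_rc_7_2 lc_b_rc_6_1 lc_b_rc_26_7 lc_b_rc_25_12 lc_b_rc_9_2 lc_b_rc_9_0 lc_b_rc_8_0 lc_b_rc_9_2 lc_b_rc_10_2 lc_b_rc_6_1 lc_b_rc_10_2 lc_b_rc_26_5 lc_b_rc_8_2 lc_b_rc_8_2 lc_b_rc_8_2 lc_b_rc_6_1 lc_b_rc_10_2 lc_b_rc_8_2 lc_b_rc_9_2 lc_b_rc_1_3 lc_b_rc_25_12 lc_b_rc_1_5 lc_b_rc_8_2 lc_b_rc_6_1 lc_b_rc_7_4 lc_b_rc_6_1 lc_b_rc_25_8 lc_b_rc_8_2 lc_b_rc_6_1 lc_b_rc_1_1 lc_b_rc_6_1 lc_b_rc_6_1 lc_b_rc_7_0 lc_b_rc_8_2 lc_b_rc_8_2 lc_b_rc_8_2 lc_b_rc_26_5 lc_b_rc_8_0 lc_b_rc_6_1 lc_b_rc_7_4 lc_b_rc_8_0 lc_b_rc_6_1 lc_b_rc_10_0 lc_b_rc_10_2)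 (@D3.rec (fun _ => (Cert rels S Gen.b)) lc_b_rc_8_2 lc_b_rc_26_5 lc_b_rc_26_5 lc_b_rc_26_1 lc_b_rc_1_3 lc_b_rc_6_1 lc_b_rc_7_0 lc_b_rc_1_3 lc_b_rc_8_2 lc_b_rc_7_4 lc_b_rc_9_2 lc_b_rc_1_3 lc_b_rc_8_2 lc_b_rc_1_5 lc_b_rc_6_1 lc_b_rc_9_2 lc_b_rc_7_4 lc_b_rc_1_1 lc_b_rc_8_2 lc_b_rc_9_2 lc_b_rc_6_1 lc_b_rc_26_5 lc_b_rc_26_5 lc_b_rc_26_5 lc_b_rc_6_1 lc_b_rc_1_3 lc_b_rc_8_2 lc_b_rc_8_0 lc_b_rc_9_2 lc_b_rc_6_1 lc_b_rc_6_1 lc_b_rc_8_2 lc_b_rc_8_0 lc_b_rc_26_7 lc_b_rc_9_2 lc_b_rc_9_2 lc_b_rc_9_2 lc_b_rc_9_2 lc_b_rc_9_0 lc_b_rc_8_2 lc_b_rc_6_1 lc_b_rc_6_1 lc_b_rc_6_1 lc_b_rc_26_1 lc_b_rc_6_1 lc_b_rc_9_2 lc_b_rc_9_2 lc_b_rc_7_2 lc_b_rc_1_5 lc_b_rc_26_1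 lc_b_rc_6_1 lc_b_rc_10_2 lc_b_rc_8_2 lc_b_rc_9_2 lc_b_rc_6_1 lc_b_rc_8_2 lc_b_rc_26_1 lc_b_rc_9_2 lc_b_rc_8_2 lc_b_rc_9_2 lc_b_rc_8_0 lc_b_rc_26_7) (@D3.rec (fun _ => (Cert rels S Gen.b)) lc_b_rc_26_5 lc_b_rc_8_2 lc_b_rc_9_2 lc_b_rc_8_2 lc_b_rc_9_2 lc_b_rc_6_1 lc_b_rc_1_5 lc_b_rc_6_1 lc_b_rc_6_1 lc_b_rc_25_4 lc_b_rc_26_1 lc_b_rc_8_2 lc_b_rc_8_2 lc_b_rc_6_1 lc_b_rc_8_2 lc_b_rc_6_1 lc_b_rc_9_2 lc_b_rc_6_1 lc_b_rc_8_2 lc_b_rc_6_1 lc_b_rc_9_2 lc_b_rc_7_4 lc_b_rc_8_2 lc_b_rc_6_1 lc_b_rc_10_2 lc_b_rc_6_1 lc_b_rc_6_1 lc_b_rc_8_2 lc_b_rc_7_4 lc_b_rc_6_1 lc_b_rc_10_2 lc_b_rc_6_1 lc_b_rc_6_1 lc_b_rc_8_2 lc_b_rc_9_2 lc_b_Cert_tree lc_b_rc_6_1 lc_b_rc_8_2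 lc_b_rc_9_2 lc_b_Cert_tree lc_b_rc_10_2 lc_b_rc_10_2 lc_b_rc_6_1 lc_b_rc_6_1 lc_b_Cert_tree lc_b_rc_9_2 lc_b_rc_6_1 lc_b_rc_6_1 lc_b_Cert_tree lc_b_rc_8_2 lc_b_rc_9_2 lc_b_rc_1_5 lc_b_rc_8_2 lc_b_rc_7_4 lc_b_rc_9_2 lc_b_rc_6_1 lc_b_rc_9_2 lc_b_rc_9_2 lc_b_rc_26_5 lc_b_rc_7_0 lc_b_rc_9_2 lc_b_rc_25_0) (@D3.rec (fun _ => (Cert rels S Gen.b)) lc_b_rc_6_1 lc_b_rc_8_2 lc_b_rc_6_1 lc_b_rc_1_1 lc_b_rc_8_2 lc_b_rc_9_2 lc_b_rc_8_2 lc_b_rc_6_1 lc_b_rc_1_3 lc_b_Cert_tree lc_b_rc_8_2 lc_b_rc_6_1 lc_b_rc_9_2 lc_b_rc_6_1 lc_b_rc_6_1 lc_b_rc_8_2 lc_b_rc_6_1 lc_b_rc_6_1 lc_b_rc_7_0 lc_b_rc_9_2 lc_b_rc_6_1 lc_b_Cert_tree lc_b_rc_1_3 lc_b_rc_6_1 lc_b_rc_25_4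 lc_b_rc_1_3 lc_b_rc_8_2 lc_b_rc_6_1 lc_b_rc_1_3 lc_b_rc_8_2 lc_b_rc_9_2 lc_b_rc_9_2 lc_b_rc_1_5 lc_b_rc_6_1 lc_b_Cert_tree lc_b_rc_9_0 lc_b_rc_8_2 lc_b_rc_6_1 lc_b_rc_1_5 lc_b_rc_10_0 lc_b_rc_8_0 lc_b_rc_6_1 lc_b_rc_6_1 lc_b_rc_8_0 lc_b_rc_1_1 lc_b_Cert_tree lc_b_Cert_tree lc_b_rc_7_2 lc_b_rc_6_1 lc_b_rc_9_2 lc_b_rc_6_1 lc_b_rc_9_2 lc_b_rc_8_2 lc_b_rc_10_2 lc_b_rc_9_2 lc_b_rc_9_0 lc_b_rc_10_2 lc_b_rc_9_2 lc_b_rc_8_2 lc_b_rc_8_2 lc_b_rc_9_2 lc_b_rc_8_2) (@D3.rec (fun _ => (Cert rels S Gen.b)) lc_b_rc_6_1 lc_b_rc_6_1 lc_b_rc_9_0 lc_b_rc_1_3 lc_b_rc_8_2 lc_b_rc_6_1 lc_b_rc_1_1 lc_b_rc_9_2 lc_b_Cert_tree lc_b_rc_6_1 lc_b_rc_1_5 lc_b_rc_8_2 lc_b_rc_6_1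 lc_b_rc_9_2 lc_b_rc_8_2 lc_b_rc_26_1 lc_b_rc_7_4 lc_b_rc_8_2 lc_b_rc_6_1 lc_b_rc_26_5 lc_b_rc_8_2 lc_b_rc_1_5 lc_b_rc_6_1 lc_b_rc_9_2 lc_b_rc_8_2 lc_b_rc_8_0 lc_b_rc_6_1 lc_b_rc_26_7 lc_b_rc_1_3 lc_b_rc_9_2 lc_b_rc_9_2 lc_b_rc_9_2 lc_b_rc_1_1 lc_b_rc_8_2 lc_b_rc_26_5 lc_b_rc_6_1 lc_b_rc_26_1 lc_b_rc_8_2 lc_b_rc_9_2 lc_b_rc_6_1 lc_b_rc_8_2 lc_b_Cert_tree lc_b_rc_8_2 lc_b_rc_7_4 lc_b_rc_10_2 lc_b_rc_6_1 lc_b_rc_9_2 lc_b_rc_9_0 lc_b_rc_8_2 lc_b_rc_10_0 lc_b_rc_6_1 lc_b_rc_8_0 lc_b_rc_1_3 lc_b_rc_8_2 lc_b_rc_10_2 lc_b_rc_10_2 lc_b_rc_6_1 lc_b_rc_26_5 lc_b_rc_8_2 lc_b_rc_26_1 lc_b_rc_8_2 lc_b_rc_7_2) (@D3.rec (fun _ => (Cert rels S Gen.b)) lc_b_rc_9_2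 lc_b_rc_26_5 lc_b_rc_10_2 lc_b_rc_1_1 lc_b_rc_6_1 lc_b_rc_6_1 lc_b_rc_26_5 lc_b_rc_8_2 lc_b_rc_8_2 lc_b_rc_8_0 lc_b_rc_8_2 lc_b_rc_26_7 lc_b_rc_9_2 lc_b_rc_9_2 lc_b_rc_26_5 lc_b_rc_8_2 lc_b_rc_10_2 lc_b_rc_8_2 lc_b_rc_6_1 lc_b_rc_8_2 lc_b_rc_6_1 lc_b_rc_6_1 lc_b_rc_8_2 lc_b_rc_7_2 lc_b_rc_8_2 lc_b_Cert_tree lc_b_rc_7_2 lc_b_rc_9_2 lc_b_rc_9_2 lc_b_rc_8_2 lc_b_rc_8_2 lc_b_rc_26_5 lc_b_rc_6_1 lc_b_rc_9_0 lc_b_rc_26_7 lc_b_rc_9_2 lc_b_rc_7_4 lc_b_rc_7_2 lc_b_rc_8_2 lc_b_rc_9_2 lc_b_rc_7_0 lc_b_rc_9_2 lc_b_rc_9_2 lc_b_rc_10_2 lc_b_rc_10_2 lc_b_rc_9_2 lc_b_rc_26_7 lc_b_rc_6_1 lc_b_rc_8_2 lc_b_rc_26_1 lc_b_rc_26_5 lc_b_Cert_tree lc_b_rc_9_2 lc_b_rc_8_2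 lc_b_rc_8_2 lc_b_rc_8_0 lc_b_rc_10_2 lc_b_rc_26_1 lc_b_rc_9_0 lc_b_rc_26_5 lc_b_rc_9_0 lc_b_rc_26_5) (@D3.rec (fun _ => (Cert rels S Gen.b)) lc_b_rc_6_1 lc_b_rc_1_5 lc_b_rc_25_12 lc_b_rc_6_1 lc_b_rc_1_3 lc_b_rc_7_2 lc_b_rc_9_2 lc_b_rc_8_0 lc_b_rc_9_0 lc_b_rc_9_2 lc_b_rc_9_2 lc_b_rc_6_1 lc_b_rc_25_4 lc_b_rc_6_1 lc_b_rc_26_5 lc_b_rc_1_3 lc_b_rc_10_2 lc_b_rc_6_1 lc_b_rc_8_2 lc_b_rc_9_2 lc_b_rc_8_0 lc_b_rc_25_4 lc_b_rc_8_0 lc_b_rc_10_2 lc_b_rc_6_1 lc_b_rc_26_5 lc_b_rc_26_5 lc_b_rc_10_2 lc_b_rc_7_2 lc_b_rc_1_3 lc_b_rc_8_2 lc_b_rc_8_2 lc_b_rc_8_2 lc_b_rc_26_7 lc_b_Cert_tree lc_b_rc_7_0 lc_b_rc_7_0 lc_b_rc_25_12 lc_b_rc_9_2 lc_b_rc_6_1 lc_b_rc_26_1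 lc_b_rc_26_5 lc_b_rc_7_2 lc_b_rc_9_2 lc_b_rc_9_2 lc_b_rc_6_1 lc_b_rc_7_0 lc_b_rc_9_0 lc_b_rc_8_2 lc_b_rc_8_2 lc_b_rc_9_2 lc_b_rc_9_2 lc_b_rc_26_1 lc_b_rc_26_7 lc_b_rc_6_1 lc_b_rc_7_4 lc_b_rc_6_1 lc_b_rc_8_2 lc_b_rc_10_2 lc_b_rc_9_2 lc_b_rc_8_2 lc_b_rc_1_5) (@D3.rec (fun _ => (Cert rels S Gen.b)) lc_b_rc_6_1 lc_b_rc_6_1 lc_b_rc_8_2 lc_b_rc_8_2 lc_b_rc_8_2 lc_b_rc_1_1 lc_b_rc_1_3 lc_b_rc_6_1 lc_b_rc_1_5 lc_b_Cert_tree lc_b_rc_10_2 lc_b_rc_26_5 lc_b_rc_8_0 lc_b_rc_10_2 lc_b_rc_8_2 lc_b_rc_9_0 lc_b_rc_9_2 lc_b_rc_9_2 lc_b_rc_6_1 lc_b_Cert_tree lc_b_rc_6_1 lc_b_rc_9_0 lc_b_rc_9_0 lc_b_rc_8_2 lc_b_rc_6_1 lc_b_rc_8_2 lc_b_rc_6_1 lc_b_rc_26_5 lc_b_rc_6_1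 lc_b_rc_25_12 lc_b_rc_26_5 lc_b_rc_7_4 lc_b_rc_9_2 lc_b_rc_10_2 lc_b_rc_6_1 lc_b_rc_8_2 lc_b_rc_9_2 lc_b_rc_8_2 lc_b_rc_8_2 lc_b_rc_8_2 lc_b_rc_6_1 lc_b_rc_26_5 lc_b_rc_9_0 lc_b_Cert_tree lc_b_rc_9_2 lc_b_rc_8_2 lc_b_Cert_tree lc_b_rc_26_7 lc_b_rc_6_1 lc_b_rc_9_2 lc_b_rc_6_1 lc_b_rc_8_2 lc_b_rc_10_2 lc_b_rc_1_5 lc_b_rc_9_0 lc_b_rc_9_2 lc_b_rc_8_0 lc_b_rc_26_5 lc_b_rc_10_2 lc_b_rc_9_2 lc_b_rc_9_2 lc_b_rc_8_2) (@D3.rec (fun _ => (Cert rels S Gen.b)) lc_b_rc_10_2 lc_b_rc_1_1 lc_b_rc_7_0 lc_b_rc_8_2 lc_b_rc_8_2 lc_b_rc_9_2 lc_b_rc_7_0 lc_b_rc_8_2 lc_b_rc_26_5 lc_b_rc_8_2 lc_b_rc_9_2 lc_b_rc_8_2 lc_b_Cert_tree lc_b_rc_10_2 lc_b_rc_8_2 lc_b_rc_9_2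 lc_b_rc_26_1 lc_b_rc_8_2 lc_b_rc_9_2 lc_b_rc_1_5 lc_b_rc_6_1 lc_b_rc_9_0 lc_b_rc_10_2 lc_b_rc_8_2 lc_b_rc_8_2 lc_b_rc_9_2 lc_b_rc_8_2 lc_b_rc_9_2 lc_b_rc_8_2 lc_b_rc_9_0 lc_b_rc_9_2 lc_b_rc_26_1 lc_b_rc_8_2 lc_b_rc_9_2 lc_b_rc_8_2 lc_b_rc_7_4 lc_b_rc_6_1 lc_b_rc_8_0 lc_b_rc_10_2 lc_b_rc_6_1 lc_b_rc_6_1 lc_b_rc_26_5 lc_b_rc_8_2 lc_b_rc_8_2 lc_b_rc_26_7 lc_b_rc_9_2 lc_b_rc_7_0 lc_b_rc_26_7 lc_b_rc_26_1 lc_b_rc_7_0 lc_b_rc_6_1 lc_b_rc_10_0 lc_b_rc_9_2 lc_b_rc_6_1 lc_b_rc_7_0 lc_b_rc_9_0 lc_b_rc_26_5 lc_b_rc_6_1 lc_b_rc_8_2 lc_b_rc_8_2 lc_b_rc_6_1 lc_b_rc_8_2) (@D3.rec (fun _ => (Cert rels S Gen.b)) lc_b_rc_1_5 lc_b_rc_6_1 lc_b_rc_9_2 lc_b_rc_7_0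 lc_b_rc_1_5 lc_b_rc_8_2 lc_b_rc_9_2 lc_b_rc_10_2 lc_b_rc_8_2 lc_b_rc_10_2 lc_b_rc_6_1 lc_b_rc_26_7 lc_b_rc_9_2 lc_b_rc_6_1 lc_b_rc_8_2 lc_b_rc_6_1 lc_b_rc_8_2 lc_b_rc_6_1 lc_b_rc_9_0 lc_b_rc_6_1 lc_b_rc_9_0 lc_b_rc_1_3 lc_b_rc_8_2 lc_b_rc_10_2 lc_b_rc_7_2 lc_b_rc_10_0 lc_b_rc_26_7 lc_b_rc_10_2 lc_b_rc_9_2 lc_b_rc_26_5 lc_b_rc_26_5 lc_b_rc_9_2 lc_b_rc_26_5 lc_b_rc_7_4 lc_b_rc_9_0 lc_b_rc_8_2 lc_b_rc_26_7 lc_b_rc_26_5 lc_b_rc_1_5 lc_b_rc_26_1 lc_b_rc_7_4 lc_b_rc_10_2 lc_b_rc_8_2 lc_b_rc_9_2 lc_b_rc_6_1 lc_b_rc_8_2 lc_b_rc_9_2 lc_b_rc_6_1 lc_b_rc_8_2 lc_b_rc_9_2 lc_b_rc_8_2 lc_b_rc_8_0 lc_b_rc_8_2 lc_b_rc_7_0 lc_b_rc_26_7 lc_b_rc_9_2 lc_b_rc_7_4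 lc_b_rc_26_1 lc_b_rc_26_7 lc_b_rc_10_2 lc_b_rc_6_1 lc_b_Cert_tree) (@D3.rec (fun _ => (Cert rels S Gen.b)) lc_b_Cert_tree lc_b_rc_26_1 lc_b_rc_6_1 lc_b_rc_8_2 lc_b_rc_1_5 lc_b_Cert_tree lc_b_rc_8_2 lc_b_Cert_tree lc_b_rc_6_1 lc_b_rc_8_2 lc_b_rc_9_2 lc_b_rc_8_0 lc_b_rc_6_1 lc_b_rc_6_1 lc_b_rc_25_4 lc_b_rc_26_5 lc_b_rc_6_1 lc_b_rc_8_2 lc_b_rc_1_5 lc_b_rc_8_0 lc_b_rc_6_1 lc_b_rc_26_5 lc_b_Cert_tree lc_b_rc_9_0 lc_b_rc_8_2 lc_b_rc_10_2 lc_b_rc_1_3 lc_b_rc_8_0 lc_b_rc_10_0 lc_b_rc_26_5 lc_b_rc_9_2 lc_b_rc_7_0 lc_b_rc_8_2 lc_b_rc_26_5 lc_b_rc_1_5 lc_b_rc_6_1 lc_b_rc_1_5 lc_b_rc_10_0 lc_b_rc_9_2 lc_b_rc_9_2 lc_b_rc_6_1 lc_b_rc_26_1 lc_b_rc_1_1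 lc_b_rc_1_5 lc_b_rc_25_0 lc_b_rc_26_5 lc_b_rc_1_3 lc_b_rc_8_2 lc_b_rc_8_2 lc_b_rc_10_0 lc_b_rc_9_0 lc_b_rc_7_4 lc_b_rc_1_3 lc_b_rc_8_2 lc_b_rc_8_2 lc_b_rc_6_1 lc_b_rc_10_2 lc_b_rc_10_2 lc_b_rc_9_2 lc_b_rc_10_2 lc_b_rc_6_1 lc_b_rc_9_2) (@D3.rec (fun _ => (Cert rels S Gen.b)) lc_b_rc_9_2 lc_b_rc_8_0 lc_b_rc_26_5 lc_b_rc_10_2 lc_b_rc_26_5 lc_b_rc_9_2 lc_b_rc_26_7 lc_b_rc_8_2 lc_b_rc_1_3 lc_b_rc_26_1 lc_b_rc_6_1 lc_b_Cert_tree lc_b_rc_7_2 lc_b_rc_10_2 lc_b_rc_6_1 lc_b_rc_26_7 lc_b_rc_8_0 lc_b_rc_25_16 lc_b_rc_9_2 lc_b_rc_10_2 lc_b_rc_6_1 lc_b_rc_8_2 lc_b_Cert_tree lc_b_rc_1_1 lc_b_rc_9_0 lc_b_rc_9_2 lc_b_rc_25_0 lc_b_rc_10_2 lc_b_rc_8_2 lc_b_rc_8_0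 lc_b_rc_8_0 lc_b_Cert_tree lc_b_rc_9_0 lc_b_rc_8_0 lc_b_rc_6_1 lc_b_rc_7_0 lc_b_rc_6_1 lc_b_rc_7_0 lc_b_rc_7_0 lc_b_rc_6_1 lc_b_rc_8_2 lc_b_rc_25_16 lc_b_rc_9_2 lc_b_rc_8_2 lc_b_rc_26_7 lc_b_rc_26_5 lc_b_rc_26_1 lc_b_rc_6_1 lc_b_rc_7_4 lc_b_rc_8_2 lc_b_rc_9_2 lc_b_Cert_tree lc_b_rc_6_1 lc_b_rc_26_7 lc_b_rc_8_2 lc_b_rc_10_2 lc_b_Cert_tree lc_b_rc_9_2 lc_b_rc_6_1 lc_b_Cert_tree lc_b_rc_6_1 lc_b_Cert_tree) (@D3.rec (fun _ => (Cert rels S Gen.b)) lc_b_rc_6_1 lc_b_rc_6_1 lc_b_rc_8_2 lc_b_rc_10_2 lc_b_rc_9_2 lc_b_rc_8_2 lc_b_rc_8_0 lc_b_rc_8_2 lc_b_Cert_tree lc_b_rc_9_2 lc_b_rc_6_1 lc_b_rc_8_2 lc_b_rc_10_0 lc_b_rc_26_1 lc_b_rc_26_5 lc_b_rc_6_1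 lc_b_rc_8_2 lc_b_rc_9_2 lc_b_Cert_tree lc_b_rc_8_2 lc_b_rc_26_5 lc_b_rc_8_2 lc_b_rc_10_2 lc_b_Cert_tree lc_b_rc_8_2 lc_b_rc_6_1 lc_b_rc_8_2 lc_b_rc_25_0 lc_b_rc_8_0 lc_b_rc_8_0 lc_b_rc_9_2 lc_b_rc_8_0 lc_b_rc_6_1 lc_b_rc_8_2 lc_b_rc_7_4 lc_b_rc_10_2 lc_b_rc_6_1 lc_b_rc_8_2 lc_b_rc_7_2 lc_b_rc_6_1 lc_b_Cert_tree lc_b_rc_1_3 lc_b_rc_8_2 lc_b_rc_10_2 lc_b_Cert_tree lc_b_rc_9_2 lc_b_rc_9_2 lc_b_rc_9_0 lc_b_rc_6_1 lc_b_rc_10_0 lc_b_rc_6_1 lc_b_rc_7_0 lc_b_rc_10_2 lc_b_rc_8_2 lc_b_rc_10_2 lc_b_rc_8_2 lc_b_rc_9_2 lc_b_rc_6_1 lc_b_rc_6_1 lc_b_rc_8_2 lc_b_rc_9_2 lc_b_rc_26_7) (@D3.rec (fun _ => (Cert rels S Gen.b)) lc_b_Cert_tree lc_b_rc_9_2 lc_b_rc_26_5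 lc_b_rc_1_3 lc_b_rc_8_2 lc_b_rc_9_2 lc_b_rc_26_1 lc_b_rc_8_0 lc_b_rc_1_1 lc_b_rc_8_2 lc_b_rc_26_1 lc_b_rc_26_1 lc_b_rc_26_5 lc_b_rc_6_1 lc_b_rc_8_2 lc_b_rc_9_2 lc_b_rc_6_1 lc_b_rc_8_2 lc_b_rc_1_3 lc_b_Cert_tree lc_b_Cert_tree lc_b_Cert_tree lc_b_rc_9_2 lc_b_rc_6_1 lc_b_rc_9_2 lc_b_rc_6_1 lc_b_rc_6_1 lc_b_rc_6_1 lc_b_rc_10_0 lc_b_rc_9_0 lc_b_rc_8_0 lc_b_rc_10_2 lc_b_rc_9_2 lc_b_rc_8_2 lc_b_rc_10_2 lc_b_rc_6_1 lc_b_rc_8_2 lc_b_rc_26_5 lc_b_Cert_tree lc_b_rc_26_1 lc_b_rc_9_2 lc_b_rc_8_2 lc_b_rc_10_2 lc_b_rc_8_2 lc_b_rc_9_2 lc_b_rc_6_1 lc_b_rc_6_1 lc_b_rc_26_7 lc_b_rc_25_12 lc_b_rc_8_2 lc_b_rc_26_5 lc_b_rc_25_4 lc_b_rc_6_1 lc_b_rc_9_0 lc_b_rc_8_0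 lc_b_rc_7_0 lc_b_rc_7_0 lc_b_rc_8_2 lc_b_rc_10_2 lc_b_rc_6_1 lc_b_rc_10_2 lc_b_rc_6_1) (@D3.rec (fun _ => (Cert rels S Gen.b)) lc_b_rc_6_1 lc_b_rc_10_2 lc_b_rc_26_1 lc_b_rc_6_1 lc_b_rc_6_1 lc_b_Cert_tree lc_b_rc_1_3 lc_b_rc_8_2 lc_b_rc_10_2 lc_b_Cert_tree lc_b_rc_26_5 lc_b_rc_9_2 lc_b_rc_26_7 lc_b_rc_1_5 lc_b_rc_8_2 lc_b_rc_8_2 lc_b_rc_8_2 lc_b_rc_6_1 lc_b_rc_9_2 lc_b_rc_6_1 lc_b_rc_6_1 lc_b_rc_9_2 lc_b_rc_7_2 lc_b_rc_26_5 lc_b_rc_7_4 lc_b_rc_25_16 lc_b_rc_6_1 lc_b_rc_9_0 lc_b_rc_9_0 lc_b_rc_6_1 lc_b_rc_8_2 lc_b_rc_6_1 lc_b_rc_25_4 lc_b_rc_7_0 lc_b_Cert_tree lc_b_rc_1_3 lc_b_rc_8_2 lc_b_rc_10_2 lc_b_rc_25_0 lc_b_rc_6_1 lc_b_rc_7_4 lc_b_rc_9_2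 lc_b_rc_6_1 lc_b_rc_8_2 lc_b_rc_9_2 lc_b_rc_9_2 lc_b_rc_8_0 lc_b_rc_1_5 lc_b_rc_8_2 lc_b_rc_8_2 lc_b_rc_8_2 lc_b_rc_8_0 lc_b_rc_8_0 lc_b_rc_10_2 lc_b_rc_8_0 lc_b_rc_8_0 lc_b_rc_8_2 lc_b_rc_9_2 lc_b_rc_7_0 lc_b_rc_25_4 lc_b_rc_6_1 lc_b_rc_26_1) (@D3.rec (fun _ => (Cert rels S Gen.b)) lc_b_rc_25_4 lc_b_rc_9_2 lc_b_rc_8_2 lc_b_rc_8_2 lc_b_rc_8_0 lc_b_rc_7_4 lc_b_rc_10_2 lc_b_rc_8_2 lc_b_rc_8_2 lc_b_rc_8_0 lc_b_rc_1_5 lc_b_rc_26_1 lc_b_rc_8_2 lc_b_rc_26_5 lc_b_rc_9_2 lc_b_rc_7_4 lc_b_rc_6_1 lc_b_rc_7_2 lc_b_rc_26_5 lc_b_rc_6_1 lc_b_rc_8_2 lc_b_rc_6_1 lc_b_rc_8_2 lc_b_rc_9_2 lc_b_rc_8_2 lc_b_rc_6_1 lc_b_rc_8_2 lc_b_rc_6_1 lc_b_rc_1_5 lc_b_rc_26_1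 lc_b_rc_8_2 lc_b_rc_26_5 lc_b_rc_7_0 lc_b_rc_26_5 lc_b_rc_8_2 lc_b_rc_26_5 lc_b_rc_9_2 lc_b_rc_26_1 lc_b_rc_26_5 lc_b_rc_8_0 lc_b_rc_9_2 lc_b_rc_1_3 lc_b_rc_6_1 lc_b_Cert_tree lc_b_rc_26_1 lc_b_rc_9_0 lc_b_rc_9_2 lc_b_rc_1_5 lc_b_rc_8_2 lc_b_rc_10_2 lc_b_rc_1_5 lc_b_rc_26_5 lc_b_rc_9_2 lc_b_rc_8_2 lc_b_rc_8_2 lc_b_rc_10_2 lc_b_rc_26_5 lc_b_rc_6_1 lc_b_rc_1_5 lc_b_rc_6_1 lc_b_rc_6_1 lc_b_rc_8_2) (@D3.rec (fun _ => (Cert rels S Gen.b)) lc_b_rc_10_2 lc_b_rc_8_2 lc_b_rc_8_0 lc_b_rc_6_1 lc_b_rc_9_2 lc_b_rc_9_2 lc_b_rc_8_2 lc_b_rc_9_2 lc_b_rc_1_5 lc_b_rc_6_1 lc_b_rc_7_0 lc_b_rc_26_1 lc_b_rc_26_7 lc_b_rc_9_2 lc_b_rc_6_1 lc_b_rc_7_2 lc_b_rc_6_1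 lc_b_Cert_tree lc_b_rc_8_0 lc_b_rc_1_5 lc_b_rc_9_2 lc_b_rc_8_2 lc_b_rc_6_1 lc_b_rc_6_1 lc_b_rc_8_2 lc_b_rc_6_1 lc_b_rc_6_1 lc_b_rc_7_0 lc_b_Cert_tree lc_b_Cert_tree lc_b_rc_10_2 lc_b_rc_1_5 lc_b_rc_8_0 lc_b_rc_9_2 lc_b_rc_6_1 lc_b_rc_8_2 lc_b_rc_8_2 lc_b_rc_9_2 lc_b_rc_6_1 lc_b_Cert_tree lc_b_rc_6_1 lc_b_rc_8_2 lc_b_rc_6_1 lc_b_rc_9_0 lc_b_rc_9_2 lc_b_rc_7_4 lc_b_Cert_tree lc_b_rc_8_2 lc_b_rc_7_2 lc_b_rc_10_2 lc_b_rc_8_2 lc_b_rc_8_2 lc_b_rc_7_4 lc_b_rc_9_2 lc_b_rc_8_0 lc_b_Cert_tree lc_b_rc_8_2 lc_b_rc_8_2 lc_b_rc_26_7 lc_b_rc_26_7 lc_b_rc_9_2 lc_b_rc_8_2) (@D3.rec (fun _ => (Cert rels S Gen.b)) lc_b_rc_10_2 lc_b_rc_25_0 lc_b_rc_10_2 lc_b_rc_26_1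 lc_b_rc_9_2 lc_b_rc_1_5 lc_b_rc_1_5 lc_b_rc_9_2 lc_b_rc_26_7 lc_b_rc_8_2 lc_b_rc_8_0 lc_b_rc_8_0 lc_b_rc_10_2 lc_b_rc_9_0 lc_b_rc_26_7 lc_b_rc_7_4 lc_b_Cert_tree lc_b_rc_10_2 lc_b_rc_26_7 lc_b_rc_25_8 lc_b_rc_6_1 lc_b_rc_8_2 lc_b_rc_26_1 lc_b_rc_8_2 lc_b_rc_6_1 lc_b_rc_6_1 lc_b_rc_9_2 lc_b_rc_6_1 lc_b_rc_9_0 lc_b_rc_26_5 lc_b_rc_9_2 lc_b_rc_9_2 lc_b_rc_6_1 lc_b_rc_9_2 lc_b_rc_9_2 lc_b_rc_9_2 lc_b_rc_26_1 lc_b_rc_26_1 lc_b_rc_26_7 lc_b_rc_6_1 lc_b_rc_6_1 lc_b_rc_9_2 lc_b_rc_8_2 lc_b_rc_1_5 lc_b_rc_6_1 lc_b_rc_6_1 lc_b_rc_8_2 lc_b_rc_26_1 lc_b_rc_26_5 lc_b_rc_1_5 lc_b_rc_26_5 lc_b_rc_8_2 lc_b_rc_26_5 lc_b_rc_8_0 lc_b_rc_9_2 lc_b_rc_8_2 lc_b_rc_26_5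 lc_b_rc_7_4 lc_b_rc_8_0 lc_b_rc_8_2 lc_b_rc_6_1 lc_b_rc_8_2) (@D3.rec (fun _ => (Cert rels S Gen.b)) lc_b_rc_26_5 lc_b_rc_7_4 lc_b_rc_26_1 lc_b_rc_8_2 lc_b_rc_1_5 lc_b_rc_8_2 lc_b_rc_7_0 lc_b_Cert_tree lc_b_rc_1_5 lc_b_rc_6_1 lc_b_rc_9_2 lc_b_rc_26_7 lc_b_rc_6_1 lc_b_rc_7_4 lc_b_rc_9_2 lc_b_rc_8_0 lc_b_rc_1_1 lc_b_rc_8_0 lc_b_rc_6_1 lc_b_rc_7_4 lc_b_rc_8_2 lc_b_rc_9_0 lc_b_rc_26_5 lc_b_rc_9_2 lc_b_rc_9_2 lc_b_rc_1_1 lc_b_rc_8_2 lc_b_rc_25_4 lc_b_rc_7_4 lc_b_Cert_tree lc_b_rc_7_2 lc_b_rc_26_5 lc_b_rc_6_1 lc_b_rc_26_1 lc_b_rc_25_4 lc_b_rc_6_1 lc_b_rc_10_2 lc_b_rc_8_2 lc_b_rc_6_1 lc_b_rc_1_5 lc_b_rc_26_5 lc_b_rc_6_1 lc_b_rc_8_2 lc_b_rc_6_1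 lc_b_rc_8_2 lc_b_rc_26_7 lc_b_rc_7_4 lc_b_rc_9_2 lc_b_rc_7_2 lc_b_rc_26_5 lc_b_rc_1_3 lc_b_rc_6_1 lc_b_rc_6_1 lc_b_rc_9_2 lc_b_rc_6_1 lc_b_rc_8_0 lc_b_rc_8_2 lc_b_rc_10_0 lc_b_Cert_tree lc_b_rc_8_0 lc_b_rc_10_2 lc_b_rc_26_5) (@D3.rec (fun _ => (Cert rels S Gen.b)) lc_b_rc_8_0 lc_b_rc_1_1 lc_b_rc_26_7 lc_b_rc_6_1 lc_b_rc_6_1 lc_b_rc_26_5 lc_b_rc_8_2 lc_b_rc_8_0 lc_b_rc_6_1 lc_b_rc_10_0 lc_b_rc_8_0 lc_b_rc_1_5 lc_b_rc_8_0 lc_b_rc_26_5 lc_b_rc_9_2 lc_b_rc_8_2 lc_b_rc_8_2 lc_b_rc_9_2 lc_b_rc_9_2 lc_b_rc_9_0 lc_b_rc_8_0 lc_b_rc_1_3 lc_b_rc_6_1 lc_b_rc_7_0 lc_b_rc_6_1 lc_b_rc_26_1 lc_b_rc_6_1 lc_b_rc_26_1 lc_b_rc_6_1 lc_b_rc_8_2 lc_b_Cert_tree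 lc_b_Cert_tree lc_b_rc_6_1 lc_b_rc_26_5 lc_b_rc_1_3 lc_b_rc_9_2 lc_b_rc_8_2 lc_b_rc_7_0 lc_b_rc_1_3 lc_b_rc_8_2 lc_b_rc_10_2 lc_b_rc_6_1 lc_b_Cert_tree lc_b_rc_7_4 lc_b_rc_8_2 lc_b_rc_6_1 lc_b_rc_26_5 lc_b_rc_8_2 lc_b_rc_8_2 lc_b_rc_7_4 lc_b_rc_9_2 lc_b_Cert_tree lc_b_rc_9_2 lc_b_rc_7_0 lc_b_rc_25_16 lc_b_rc_26_7 lc_b_rc_26_7 lc_b_rc_1_5 lc_b_rc_9_2 lc_b_rc_6_1 lc_b_rc_26_5 lc_b_rc_6_1) (@D3.rec (fun _ => (Cert rels S Gen.b)) lc_b_rc_1_3 lc_b_rc_9_2 lc_b_rc_6_1 lc_b_rc_6_1 lc_b_rc_7_4 lc_b_rc_9_2 lc_b_rc_10_2 lc_b_rc_9_2 lc_b_rc_26_7 lc_b_rc_9_2 lc_b_rc_26_7 lc_b_rc_10_2 lc_b_rc_7_4 lc_b_rc_26_1 lc_b_rc_6_1 lc_b_rc_26_7 lc_b_rc_1_3 lc_b_Cert_tree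 lc_b_rc_9_2 lc_b_Cert_tree lc_b_rc_8_0 lc_b_rc_8_2 lc_b_rc_10_2 lc_b_rc_26_5 lc_b_rc_7_4 lc_b_rc_8_2 lc_b_rc_9_2 lc_b_rc_7_2 lc_b_rc_1_5 lc_b_rc_8_2 lc_b_rc_10_2 lc_b_rc_8_2 lc_b_rc_9_2 lc_b_rc_26_7 lc_b_rc_9_2 lc_b_rc_9_0 lc_b_rc_8_2 lc_b_Cert_tree lc_b_rc_6_1 lc_b_Cert_tree lc_b_rc_9_2 lc_b_rc_8_2 lc_b_rc_9_2 lc_b_Cert_tree lc_b_rc_7_2 lc_b_rc_6_1 lc_b_rc_8_2 lc_b_rc_9_2 lc_b_rc_6_1 lc_b_rc_1_1 lc_b_rc_7_4 lc_b_rc_9_2 lc_b_Cert_tree lc_b_rc_26_7 lc_b_rc_8_2 lc_b_rc_7_4 lc_b_rc_9_2 lc_b_rc_8_0 lc_b_rc_8_0 lc_b_rc_6_1 lc_b_rc_10_2 lc_b_rc_9_2) (@D3.rec (fun _ => (Cert rels S Gen.b)) lc_b_rc_8_0 lc_b_rc_8_2 lc_b_rc_9_2 lc_b_rc_25_0 lc_b_rc_26_1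 lc_b_rc_9_2 lc_b_rc_26_7 lc_b_rc_7_0 lc_b_rc_9_2 lc_b_rc_9_2 lc_b_rc_6_1 lc_b_rc_6_1 lc_b_rc_7_2 lc_b_rc_1_5 lc_b_rc_6_1 lc_b_rc_26_5 lc_b_rc_7_4 lc_b_rc_1_3 lc_b_rc_8_2 lc_b_rc_8_2 lc_b_rc_8_2 lc_b_rc_26_5 lc_b_rc_9_2 lc_b_rc_8_2 lc_b_rc_9_2 lc_b_rc_9_2 lc_b_rc_8_2 lc_b_rc_26_5 lc_b_rc_6_1 lc_b_rc_8_2 lc_b_rc_26_5 lc_b_rc_9_2 lc_b_rc_6_1 lc_b_rc_26_5 lc_b_rc_6_1 lc_b_rc_8_0 lc_b_Cert_tree lc_b_rc_10_2 lc_b_rc_6_1 lc_b_rc_1_5 lc_b_rc_10_2 lc_b_rc_7_2 lc_b_rc_6_1 lc_b_rc_10_2 lc_b_rc_8_2 lc_b_rc_9_0 lc_b_rc_1_3 lc_b_rc_26_1 lc_b_rc_8_2 lc_b_rc_8_2 lc_b_rc_9_2 lc_b_rc_8_2 lc_b_rc_9_2 lc_b_rc_6_1 lc_b_Cert_tree lc_b_rc_10_0 lc_b_rc_6_1 lc_b_rc_8_2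 lc_b_rc_9_0 lc_b_rc_26_1 lc_b_rc_8_2 lc_b_rc_9_0) (@D3.rec (fun _ => (Cert rels S Gen.b)) lc_b_Cert_tree lc_b_rc_10_2 lc_b_rc_1_5 lc_b_rc_6_1 lc_b_rc_7_2 lc_b_rc_8_2 lc_b_rc_25_12 lc_b_rc_6_1 lc_b_rc_9_0 lc_b_rc_1_5 lc_b_rc_9_0 lc_b_rc_26_5 lc_b_rc_8_2 lc_b_rc_8_2 lc_b_rc_8_2 lc_b_rc_7_2 lc_b_rc_6_1 lc_b_rc_26_5 lc_b_rc_6_1 lc_b_rc_6_1 lc_b_rc_8_2 lc_b_rc_26_5 lc_b_rc_8_2 lc_b_rc_6_1 lc_b_rc_6_1 lc_b_rc_6_1 lc_b_rc_6_1 lc_b_rc_8_2 lc_b_Cert_tree lc_b_rc_9_2 lc_b_rc_25_0 lc_b_rc_8_0 lc_b_rc_8_2 lc_b_rc_8_2 lc_b_rc_8_2 lc_b_rc_9_0 lc_b_rc_6_1 lc_b_rc_26_5 lc_b_rc_1_5 lc_b_rc_1_3 lc_b_rc_8_2 lc_b_rc_26_5 lc_b_rc_7_0 lc_b_rc_6_1 lc_b_rc_10_2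 lc_b_rc_6_1 lc_b_rc_9_2 lc_b_rc_6_1 lc_b_rc_8_2 lc_b_rc_6_1 lc_b_rc_8_2 lc_b_rc_9_2 lc_b_rc_9_2 lc_b_rc_6_1 lc_b_rc_6_1 lc_b_rc_7_0 lc_b_rc_6_1 lc_b_rc_1_3 lc_b_rc_26_7 lc_b_rc_10_2 lc_b_rc_1_3 lc_b_rc_6_1) (@D3.rec (fun _ => (Cert rels S Gen.b)) lc_b_Cert_tree lc_b_rc_6_1 lc_b_rc_26_5 lc_b_rc_6_1 lc_b_rc_6_1 lc_b_rc_25_4 lc_b_Cert_tree lc_b_rc_8_0 lc_b_rc_6_1 lc_b_rc_8_2 lc_b_rc_26_5 lc_b_rc_8_2 lc_b_rc_6_1 lc_b_rc_8_2 lc_b_rc_7_4 lc_b_rc_9_0 lc_b_rc_8_2 lc_b_rc_10_2 lc_b_rc_1_1 lc_b_rc_6_1 lc_b_rc_1_3 lc_b_rc_8_2 lc_b_rc_7_0 lc_b_rc_8_2 lc_b_rc_9_2 lc_b_Cert_tree lc_b_rc_8_2 lc_b_rc_9_2 lc_b_rc_10_2 lc_b_rc_26_1 lc_b_rc_9_0 lc_b_rc_26_1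 lc_b_rc_6_1 lc_b_rc_10_2 lc_b_rc_26_1 lc_b_rc_8_2 lc_b_rc_9_2 lc_b_rc_6_1 lc_b_rc_6_1 lc_b_rc_25_0 lc_b_rc_25_4 lc_b_rc_6_1 lc_b_rc_9_2 lc_b_rc_6_1 lc_b_rc_6_1 lc_b_rc_26_1 lc_b_rc_8_0 lc_b_rc_7_4 lc_b_rc_8_0 lc_b_rc_10_2 lc_b_rc_26_1 lc_b_rc_8_2 lc_b_rc_8_2 lc_b_rc_7_4 lc_b_rc_6_1 lc_b_rc_8_2 lc_b_rc_8_2 lc_b_rc_6_1 lc_b_rc_8_2 lc_b_rc_8_2 lc_b_Cert_tree lc_b_rc_10_0)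
def ce_b_22 : D2 → D3 → (Cert rels S Gen.b) := @D2.rec (fun _ => D3 → (Cert rels S Gen.b)) (@D3.rec (fun _ => (Cert rels S Gen.b)) lc_b_rc_8_2 lc_b_rc_26_1 lc_b_rc_8_0 lc_b_rc_7_2 lc_b_rc_9_2 lc_b_rc_6_1 lc_b_Cert_tree lc_b_rc_8_0 lc_b_rc_8_2 lc_b_rc_26_5 lc_b_rc_7_4 lc_b_rc_6_1 lc_b_rc_8_2 lc_b_rc_6_1 lc_b_rc_10_2 lc_b_rc_26_7 lc_b_rc_6_1 lc_b_rc_10_2 lc_b_Cert_tree lc_b_rc_26_5 lc_b_rc_1_3 lc_b_rc_8_2 lc_b_rc_1_1 lc_b_rc_9_0 lc_b_rc_6_1 lc_b_rc_9_0 lc_b_rc_26_1 lc_b_rc_8_2 lc_b_rc_6_1 lc_b_rc_26_7 lc_b_rc_8_2 lc_b_rc_9_2 lc_b_rc_8_2 lc_b_rc_6_1 lc_b_rc_8_0 lc_b_rc_10_2 lc_b_Cert_tree lc_b_rc_6_1 lc_b_rc_8_2 lc_b_rc_9_2 lc_b_rc_8_2 lc_b_rc_26_5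 lc_b_Cert_tree lc_b_rc_9_2 lc_b_rc_9_0 lc_b_rc_9_2 lc_b_rc_6_1 lc_b_Cert_tree lc_b_Cert_tree lc_b_rc_9_2 lc_b_rc_25_4 lc_b_Cert_tree lc_b_rc_6_1 lc_b_rc_6_1 lc_b_rc_25_16 lc_b_rc_7_0 lc_b_rc_6_1 lc_b_rc_1_5 lc_b_rc_6_1 lc_b_rc_9_2 lc_b_rc_9_2 lc_b_Cert_tree) (@D3.rec (fun _ => (Cert rels S Gen.b)) lc_b_rc_9_0 lc_b_rc_9_2 lc_b_rc_26_7 lc_b_rc_8_2 lc_b_rc_10_2 lc_b_rc_6_1 lc_b_rc_1_5 lc_b_rc_9_2 lc_b_rc_1_1 lc_b_Cert_tree lc_b_rc_10_2 lc_b_rc_1_5 lc_b_rc_8_2 lc_b_rc_9_2 lc_b_rc_25_4 lc_b_Cert_tree lc_b_rc_25_4 lc_b_rc_9_2 lc_b_rc_26_1 lc_b_rc_9_2 lc_b_rc_6_1 lc_b_rc_7_4 lc_b_rc_7_2 lc_b_rc_26_5 lc_b_Cert_tree lc_b_rc_10_2 lc_b_rc_6_1 lc_b_rc_8_2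 lc_b_rc_9_2 lc_b_rc_6_1 lc_b_rc_8_2 lc_b_rc_9_2 lc_b_Cert_tree lc_b_rc_7_0 lc_b_rc_9_0 lc_b_rc_8_2 lc_b_rc_10_2 lc_b_rc_26_7 lc_b_rc_9_2 lc_b_Cert_tree lc_b_Cert_tree lc_b_rc_9_2 lc_b_rc_9_2 lc_b_rc_6_1 lc_b_rc_7_2 lc_b_rc_6_1 lc_b_Cert_tree lc_b_rc_10_2 lc_b_rc_6_1 lc_b_Cert_tree lc_b_rc_1_3 lc_b_rc_8_2 lc_b_rc_9_2 lc_b_rc_9_2 lc_b_rc_7_4 lc_b_rc_6_1 lc_b_rc_6_1 lc_b_rc_1_5 lc_b_rc_8_2 lc_b_rc_26_1 lc_b_rc_8_2 lc_b_rc_10_0) (@D3.rec (fun _ => (Cert rels S Gen.b)) lc_b_rc_25_0 lc_b_Cert_tree lc_b_Cert_tree lc_b_rc_26_5 lc_b_rc_8_2 lc_b_rc_8_2 lc_b_rc_6_1 lc_b_rc_6_1 lc_b_Cert_tree lc_b_rc_9_2 lc_b_rc_9_2 lc_b_rc_26_7 lc_b_rc_1_3 lc_b_rc_6_1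 lc_b_rc_6_1 lc_b_rc_8_2 lc_b_rc_8_2 lc_b_rc_7_0 lc_b_Cert_tree lc_b_rc_9_2 lc_b_rc_9_2 lc_b_rc_10_2 lc_b_rc_6_1 lc_b_rc_9_2 lc_b_rc_9_2 lc_b_rc_6_1 lc_b_rc_8_0 lc_b_rc_26_1 lc_b_rc_6_1 lc_b_rc_26_5 lc_b_rc_8_0 lc_b_rc_6_1 lc_b_rc_26_7 lc_b_rc_1_5 lc_b_rc_26_5 lc_b_rc_6_1 lc_b_rc_6_1 lc_b_rc_1_3 lc_b_rc_8_2 lc_b_rc_7_4 lc_b_rc_26_1 lc_b_rc_6_1 lc_b_rc_26_5 lc_b_rc_7_0 lc_b_rc_8_0 lc_b_rc_6_1 lc_b_Cert_tree lc_b_rc_9_2 lc_b_rc_6_1 lc_b_rc_7_2 lc_b_rc_26_5 lc_b_rc_6_1 lc_b_rc_7_2 lc_b_rc_1_1 lc_b_rc_9_2 lc_b_rc_9_0 lc_b_rc_25_0 lc_b_rc_8_2 lc_b_rc_7_4 lc_b_Cert_tree lc_b_rc_8_0 lc_b_rc_10_2) (@D3.rec (fun _ => (Cert rels S Gen.b)) lc_b_rc_8_0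 lc_b_rc_26_1 lc_b_rc_6_1 lc_b_rc_10_0 lc_b_rc_26_5 lc_b_rc_1_1 lc_b_rc_6_1 lc_b_rc_26_7 lc_b_rc_6_1 lc_b_rc_6_1 lc_b_rc_8_2 lc_b_rc_7_4 lc_b_rc_8_2 lc_b_rc_9_2 lc_b_rc_9_2 lc_b_rc_26_7 lc_b_rc_8_2 lc_b_rc_6_1 lc_b_Cert_tree lc_b_rc_25_16 lc_b_rc_7_0 lc_b_rc_8_2 lc_b_rc_8_2 lc_b_rc_9_0 lc_b_rc_25_8 lc_b_rc_26_5 lc_b_rc_7_4 lc_b_rc_8_2 lc_b_rc_6_1 lc_b_rc_8_2 lc_b_rc_7_2 lc_b_rc_26_5 lc_b_rc_6_1 lc_b_rc_26_5 lc_b_rc_1_5 lc_b_rc_1_1 lc_b_rc_1_5 lc_b_rc_6_1 lc_b_rc_6_1 lc_b_rc_26_7 lc_b_rc_6_1 lc_b_rc_6_1 lc_b_rc_6_1 lc_b_rc_26_5 lc_b_rc_25_8 lc_b_rc_9_2 lc_b_rc_6_1 lc_b_rc_9_2 lc_b_rc_9_2 lc_b_rc_6_1 lc_b_rc_8_0 lc_b_rc_6_1 lc_b_rc_6_1 lc_b_rc_7_2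 lc_b_rc_6_1 lc_b_rc_26_1 lc_b_rc_9_2 lc_b_rc_6_1 lc_b_Cert_tree lc_b_rc_6_1 lc_b_rc_8_2 lc_b_rc_9_2) (@D3.rec (fun _ => (Cert rels S Gen.b)) lc_b_rc_7_4 lc_b_rc_25_12 lc_b_rc_6_1 lc_b_rc_26_1 lc_b_rc_7_2 lc_b_rc_25_12 lc_b_rc_10_2 lc_b_rc_6_1 lc_b_rc_26_5 lc_b_rc_26_1 lc_b_rc_8_2 lc_b_rc_25_12 lc_b_rc_8_0 lc_b_rc_8_2 lc_b_rc_6_1 lc_b_rc_7_2 lc_b_rc_8_2 lc_b_rc_6_1 lc_b_rc_8_0 lc_b_rc_9_2 lc_b_rc_9_2 lc_b_rc_9_2 lc_b_rc_7_0 lc_b_rc_6_1 lc_b_rc_10_2 lc_b_rc_7_2 lc_b_rc_9_2 lc_b_rc_6_1 lc_b_rc_8_2 lc_b_rc_9_2 lc_b_rc_8_2 lc_b_rc_7_4 lc_b_rc_9_0 lc_b_rc_8_2 lc_b_rc_8_2 lc_b_rc_6_1 lc_b_rc_8_2 lc_b_rc_8_2 lc_b_Cert_tree lc_b_rc_10_2 lc_b_rc_9_2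 lc_b_rc_1_5 lc_b_rc_10_2 lc_b_rc_7_4 lc_b_rc_1_3 lc_b_rc_9_2 lc_b_rc_10_2 lc_b_rc_1_5 lc_b_rc_6_1 lc_b_rc_26_5 lc_b_rc_8_0 lc_b_rc_7_2 lc_b_rc_8_2 lc_b_rc_9_2 lc_b_rc_8_0 lc_b_rc_8_2 lc_b_rc_8_2 lc_b_rc_6_1 lc_b_rc_7_4 lc_b_rc_6_1 lc_b_rc_26_1 lc_b_rc_7_0) (@D3.rec (fun _ => (Cert rels S Gen.b)) lc_b_rc_9_2 lc_b_rc_6_1 lc_b_rc_9_0 lc_b_rc_7_2 lc_b_rc_26_5 lc_b_Cert_tree lc_b_rc_9_0 lc_b_rc_6_1 lc_b_rc_6_1 lc_b_rc_26_1 lc_b_rc_1_1 lc_b_rc_6_1 lc_b_rc_10_0 lc_b_rc_9_2 lc_b_rc_9_2 lc_b_rc_6_1 lc_b_rc_10_2 lc_b_rc_9_2 lc_b_rc_26_1 lc_b_rc_6_1 lc_b_rc_10_0 lc_b_rc_10_0 lc_b_rc_9_2 lc_b_rc_6_1 lc_b_rc_26_7 lc_b_rc_9_2 lc_b_rc_7_4 lc_b_rc_9_2 lc_b_rc_1_3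 lc_b_rc_6_1 lc_b_rc_9_2 lc_b_rc_6_1 lc_b_rc_9_2 lc_b_rc_6_1 lc_b_rc_6_1 lc_b_rc_26_1 lc_b_rc_8_2 lc_b_rc_9_0 lc_b_rc_26_7 lc_b_rc_6_1 lc_b_rc_9_2 lc_b_rc_6_1 lc_b_rc_26_1 lc_b_rc_6_1 lc_b_Cert_tree lc_b_rc_8_2 lc_b_rc_9_2 lc_b_rc_6_1 lc_b_rc_26_5 lc_b_rc_6_1 lc_b_rc_26_1 lc_b_rc_7_4 lc_b_rc_8_2 lc_b_rc_9_2 lc_b_rc_10_2 lc_b_rc_8_2 lc_b_rc_25_4 lc_b_rc_7_4 lc_b_rc_26_1 lc_b_rc_9_0 lc_b_rc_1_1 lc_b_rc_8_0) (@D3.rec (fun _ => (Cert rels S Gen.b)) lc_b_rc_8_2 lc_b_rc_9_2 lc_b_rc_9_0 lc_b_rc_7_4 lc_b_rc_7_2 lc_b_rc_8_2 lc_b_rc_8_2 lc_b_Cert_tree lc_b_rc_9_2 lc_b_rc_9_2 lc_b_rc_8_2 lc_b_Cert_tree lc_b_rc_1_3 lc_b_rc_6_1 lc_b_rc_9_2 lc_b_rc_8_2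 lc_b_rc_9_0 lc_b_rc_9_2 lc_b_rc_6_1 lc_b_rc_8_2 lc_b_rc_10_2 lc_b_rc_10_2 lc_b_rc_1_3 lc_b_rc_7_2 lc_b_rc_6_1 lc_b_rc_6_1 lc_b_rc_6_1 lc_b_rc_26_7 lc_b_rc_1_3 lc_b_rc_6_1 lc_b_rc_9_0 lc_b_rc_8_2 lc_b_rc_10_2 lc_b_rc_8_2 lc_b_rc_6_1 lc_b_rc_8_2 lc_b_rc_1_1 lc_b_rc_9_2 lc_b_rc_7_0 lc_b_Cert_tree lc_b_rc_25_16 lc_b_rc_10_2 lc_b_rc_9_2 lc_b_rc_8_2 lc_b_rc_6_1 lc_b_Cert_tree lc_b_rc_25_0 lc_b_rc_8_0 lc_b_rc_1_5 lc_b_Cert_tree lc_b_rc_7_0 lc_b_rc_8_2 lc_b_rc_10_2 lc_b_rc_6_1 lc_b_rc_8_2 lc_b_rc_8_2 lc_b_Cert_tree lc_b_rc_10_2 lc_b_rc_8_2 lc_b_rc_9_2 lc_b_rc_9_2 lc_b_rc_8_2) (@D3.rec (fun _ => (Cert rels S Gen.b)) lc_b_rc_8_2 lc_b_rc_7_2 lc_b_rc_6_1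 lc_b_rc_9_2 lc_b_rc_6_1 lc_b_rc_7_2 lc_b_rc_8_2 lc_b_rc_6_1 lc_b_rc_26_1 lc_b_rc_8_2 lc_b_Cert_tree lc_b_rc_10_2 lc_b_Cert_tree lc_b_Cert_tree lc_b_Cert_tree lc_b_rc_10_2 lc_b_rc_9_0 lc_b_rc_6_1 lc_b_rc_9_2 lc_b_rc_9_2 lc_b_Cert_tree lc_b_rc_6_1 lc_b_rc_8_2 lc_b_rc_8_0 lc_b_rc_9_2 lc_b_rc_6_1 lc_b_rc_8_0 lc_b_rc_8_0 lc_b_rc_10_2 lc_b_rc_8_2 lc_b_rc_9_2 lc_b_rc_8_0 lc_b_rc_1_5 lc_b_rc_7_4 lc_b_rc_8_0 lc_b_rc_6_1 lc_b_rc_6_1 lc_b_rc_26_1 lc_b_rc_26_5 lc_b_rc_6_1 lc_b_rc_26_5 lc_b_rc_8_2 lc_b_rc_9_2 lc_b_rc_7_4 lc_b_rc_8_2 lc_b_rc_9_2 lc_b_rc_26_1 lc_b_rc_6_1 lc_b_Cert_tree lc_b_rc_8_0 lc_b_rc_8_2 lc_b_rc_26_5 lc_b_Cert_tree lc_b_rc_26_1 lc_b_rc_8_2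 lc_b_rc_6_1 lc_b_rc_26_5 lc_b_rc_8_2 lc_b_rc_26_5 lc_b_rc_8_2 lc_b_rc_8_2 lc_b_rc_9_2) (@D3.rec (fun _ => (Cert rels S Gen.b)) lc_b_rc_10_2 lc_b_rc_6_1 lc_b_rc_6_1 lc_b_rc_25_8 lc_b_rc_7_2 lc_b_Cert_tree lc_b_rc_6_1 lc_b_rc_1_3 lc_b_rc_6_1 lc_b_rc_8_2 lc_b_Cert_tree lc_b_rc_6_1 lc_b_rc_9_2 lc_b_rc_26_1 lc_b_rc_6_1 lc_b_rc_26_1 lc_b_rc_6_1 lc_b_rc_7_4 lc_b_rc_9_2 lc_b_rc_8_0 lc_b_rc_9_2 lc_b_rc_6_1 lc_b_Cert_tree lc_b_rc_7_4 lc_b_rc_8_2 lc_b_rc_26_1 lc_b_rc_6_1 lc_b_Cert_tree lc_b_rc_6_1 lc_b_rc_6_1 lc_b_rc_8_0 lc_b_rc_6_1 lc_b_rc_9_2 lc_b_rc_25_0 lc_b_rc_6_1 lc_b_rc_9_2 lc_b_rc_26_5 lc_b_rc_6_1 lc_b_rc_1_5 lc_b_rc_1_3 lc_b_rc_8_2 lc_b_rc_6_1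 lc_b_rc_6_1 lc_b_rc_8_2 lc_b_rc_6_1 lc_b_rc_1_3 lc_b_rc_9_2 lc_b_rc_9_0 lc_b_rc_9_0 lc_b_rc_6_1 lc_b_rc_7_4 lc_b_rc_9_2 lc_b_rc_9_2 lc_b_rc_6_1 lc_b_rc_9_0 lc_b_rc_10_2 lc_b_rc_7_2 lc_b_rc_26_7 lc_b_rc_6_1 lc_b_rc_26_1 lc_b_rc_10_2 lc_b_rc_26_5) (@D3.rec (fun _ => (Cert rels S Gen.b)) lc_b_rc_9_2 lc_b_rc_6_1 lc_b_rc_8_2 lc_b_rc_26_5 lc_b_rc_26_5 lc_b_rc_7_2 lc_b_rc_1_3 lc_b_rc_8_2 lc_b_rc_9_2 lc_b_rc_9_2 lc_b_rc_26_1 lc_b_rc_6_1 lc_b_Cert_tree lc_b_rc_8_2 lc_b_rc_9_2 lc_b_rc_8_2 lc_b_rc_6_1 lc_b_rc_26_7 lc_b_rc_26_1 lc_b_rc_8_0 lc_b_rc_26_7 lc_b_rc_6_1 lc_b_rc_10_2 lc_b_rc_9_2 lc_b_rc_25_0 lc_b_rc_6_1 lc_b_rc_8_0 lc_b_rc_6_1 lc_b_rc_26_7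 lc_b_rc_6_1 lc_b_rc_7_2 lc_b_rc_10_0 lc_b_rc_7_2 lc_b_rc_6_1 lc_b_rc_8_2 lc_b_rc_7_4 lc_b_rc_1_3 lc_b_rc_7_4 lc_b_rc_8_2 lc_b_Cert_tree lc_b_Cert_tree lc_b_rc_1_3 lc_b_rc_6_1 lc_b_rc_6_1 lc_b_rc_8_2 lc_b_rc_8_2 lc_b_rc_25_0 lc_b_rc_8_2 lc_b_rc_8_2 lc_b_rc_1_5 lc_b_rc_25_4 lc_b_rc_26_7 lc_b_rc_9_2 lc_b_rc_9_2 lc_b_rc_8_2 lc_b_rc_8_2 lc_b_rc_6_1 lc_b_rc_6_1 lc_b_rc_6_1 lc_b_rc_26_1 lc_b_rc_26_1 lc_b_rc_26_1) (@D3.rec (fun _ => (Cert rels S Gen.b)) lc_b_rc_7_0 lc_b_rc_9_2 lc_b_rc_10_2 lc_b_rc_8_2 lc_b_rc_8_2 lc_b_rc_7_2 lc_b_rc_6_1 lc_b_rc_9_2 lc_b_rc_8_0 lc_b_rc_8_2 lc_b_rc_10_2 lc_b_rc_6_1 lc_b_rc_6_1 lc_b_rc_8_2 lc_b_rc_1_5 lc_b_rc_1_1 lc_b_rc_8_2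 lc_b_rc_9_2 lc_b_rc_9_0 lc_b_rc_26_1 lc_b_rc_6_1 lc_b_rc_9_2 lc_b_rc_26_7 lc_b_rc_6_1 lc_b_rc_8_2 lc_b_rc_10_2 lc_b_rc_6_1 lc_b_rc_6_1 lc_b_rc_8_2 lc_b_rc_26_7 lc_b_rc_10_2 lc_b_rc_9_0 lc_b_rc_26_7 lc_b_rc_6_1 lc_b_rc_8_2 lc_b_rc_7_2 lc_b_rc_9_2 lc_b_rc_7_4 lc_b_rc_6_1 lc_b_rc_8_2 lc_b_rc_26_7 lc_b_rc_8_2 lc_b_rc_1_5 lc_b_rc_1_5 lc_b_rc_26_7 lc_b_rc_8_2 lc_b_rc_6_1 lc_b_rc_26_5 lc_b_rc_1_3 lc_b_rc_26_1 lc_b_rc_6_1 lc_b_rc_8_2 lc_b_rc_1_3 lc_b_rc_10_0 lc_b_rc_9_2 lc_b_rc_9_2 lc_b_rc_10_2 lc_b_rc_7_0 lc_b_rc_26_7 lc_b_rc_9_2 lc_b_rc_6_1 lc_b_rc_8_2) (@D3.rec (fun _ => (Cert rels S Gen.b)) lc_b_rc_9_2 lc_b_rc_6_1 lc_b_rc_8_2 lc_b_rc_26_5 lc_b_rc_9_2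 lc_b_rc_9_2 lc_b_rc_7_2 lc_b_rc_6_1 lc_b_rc_8_2 lc_b_rc_6_1 lc_b_rc_6_1 lc_b_rc_8_2 lc_b_rc_7_0 lc_b_rc_6_1 lc_b_rc_1_3 lc_b_rc_8_2 lc_b_rc_7_2 lc_b_rc_8_0 lc_b_rc_9_2 lc_b_rc_8_2 lc_b_rc_1_3 lc_b_rc_6_1 lc_b_rc_1_5 lc_b_rc_6_1 lc_b_rc_8_0 lc_b_rc_8_2 lc_b_rc_26_1 lc_b_rc_1_1 lc_b_rc_10_2 lc_b_rc_6_1 lc_b_rc_1_5 lc_b_rc_26_5 lc_b_rc_6_1 lc_b_rc_9_2 lc_b_rc_6_1 lc_b_rc_6_1 lc_b_rc_1_5 lc_b_rc_9_2 lc_b_rc_6_1 lc_b_rc_6_1 lc_b_rc_26_5 lc_b_rc_8_2 lc_b_rc_7_2 lc_b_rc_6_1 lc_b_rc_6_1 lc_b_rc_26_7 lc_b_Cert_tree lc_b_rc_1_3 lc_b_rc_26_1 lc_b_rc_10_2 lc_b_rc_1_3 lc_b_rc_9_2 lc_b_rc_9_0 lc_b_rc_25_8 lc_b_rc_9_2 lc_b_rc_25_4 lc_b_rc_9_2 lc_b_rc_26_7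 lc_b_rc_6_1 lc_b_rc_26_7 lc_b_rc_9_2 lc_b_rc_7_2) (@D3.rec (fun _ => (Cert rels S Gen.b)) lc_b_rc_6_1 lc_b_rc_8_2 lc_b_rc_1_5 lc_b_rc_9_0 lc_b_rc_7_2 lc_b_rc_9_2 lc_b_rc_6_1 lc_b_rc_6_1 lc_b_rc_1_3 lc_b_rc_9_0 lc_b_rc_1_3 lc_b_rc_6_1 lc_b_rc_8_2 lc_b_Cert_tree lc_b_rc_7_4 lc_b_rc_1_5 lc_b_rc_26_5 lc_b_rc_10_2 lc_b_rc_1_5 lc_b_rc_8_2 lc_b_rc_8_2 lc_b_rc_6_1 lc_b_rc_7_4 lc_b_rc_9_2 lc_b_rc_9_2 lc_b_rc_1_1 lc_b_rc_1_5 lc_b_rc_8_2 lc_b_rc_26_7 lc_b_rc_26_5 lc_b_rc_8_2 lc_b_rc_6_1 lc_b_Cert_tree lc_b_rc_25_8 lc_b_rc_10_2 lc_b_Cert_tree lc_b_rc_6_1 lc_b_rc_1_3 lc_b_rc_8_2 lc_b_Cert_tree lc_b_rc_6_1 lc_b_Cert_tree lc_b_rc_9_2 lc_b_Cert_tree lc_b_rc_26_5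 lc_b_rc_26_5 lc_b_rc_8_2 lc_b_Cert_tree lc_b_rc_8_2 lc_b_rc_8_2 lc_b_rc_26_5 lc_b_rc_10_2 lc_b_rc_26_5 lc_b_rc_9_2 lc_b_rc_26_5 lc_b_rc_10_2 lc_b_rc_6_1 lc_b_Cert_tree lc_b_rc_9_2 lc_b_rc_6_1 lc_b_rc_8_2 lc_b_rc_6_1) (@D3.rec (fun _ => (Cert rels S Gen.b)) lc_b_rc_6_1 lc_b_rc_6_1 lc_b_rc_1_3 lc_b_rc_9_2 lc_b_rc_7_4 lc_b_rc_8_2 lc_b_rc_6_1 lc_b_rc_9_2 lc_b_rc_9_2 lc_b_rc_7_4 lc_b_rc_7_2 lc_b_rc_6_1 lc_b_rc_8_2 lc_b_rc_8_2 lc_b_rc_8_2 lc_b_rc_8_2 lc_b_rc_1_1 lc_b_rc_26_7 lc_b_Cert_tree lc_b_Cert_tree lc_b_rc_9_2 lc_b_rc_1_3 lc_b_rc_6_1 lc_b_rc_7_2 lc_b_rc_9_2 lc_b_Cert_tree lc_b_rc_7_2 lc_b_rc_6_1 lc_b_rc_9_2 lc_b_rc_6_1 lc_b_rc_7_0 lc_b_rc_10_2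 lc_b_rc_8_2 lc_b_rc_8_2 lc_b_rc_6_1 lc_b_rc_8_0 lc_b_rc_26_5 lc_b_rc_9_2 lc_b_rc_10_0 lc_b_Cert_tree lc_b_rc_1_1 lc_b_Cert_tree lc_b_rc_9_2 lc_b_Cert_tree lc_b_rc_6_1 lc_b_rc_10_0 lc_b_Cert_tree lc_b_rc_8_0 lc_b_rc_8_2 lc_b_Cert_tree lc_b_rc_1_1 lc_b_rc_6_1 lc_b_rc_9_2 lc_b_rc_6_1 lc_b_Cert_tree lc_b_Cert_tree lc_b_rc_1_3 lc_b_rc_8_2 lc_b_rc_10_2 lc_b_rc_9_2 lc_b_rc_9_2 lc_b_rc_8_2) (@D3.rec (fun _ => (Cert rels S Gen.b)) lc_b_rc_25_12 lc_b_rc_1_3 lc_b_rc_8_2 lc_b_rc_8_2 lc_b_rc_1_1 lc_b_rc_8_0 lc_b_Cert_tree lc_b_rc_8_0 lc_b_rc_9_2 lc_b_rc_6_1 lc_b_Cert_tree lc_b_rc_9_2 lc_b_rc_6_1 lc_b_Cert_tree lc_b_rc_9_2 lc_b_rc_6_1 lc_b_rc_9_2 lc_b_Cert_tree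 lc_b_Cert_tree lc_b_rc_9_2 lc_b_rc_10_2 lc_b_rc_6_1 lc_b_rc_6_1 lc_b_rc_8_2 lc_b_Cert_tree lc_b_Cert_tree lc_b_rc_9_2 lc_b_rc_1_3 lc_b_rc_6_1 lc_b_Cert_tree lc_b_Cert_tree lc_b_rc_9_2 lc_b_rc_9_2 lc_b_rc_6_1 lc_b_rc_8_2 lc_b_rc_6_1 lc_b_rc_6_1 lc_b_rc_6_1 lc_b_Cert_tree lc_b_rc_7_2 lc_b_rc_6_1 lc_b_rc_7_4 lc_b_rc_6_1 lc_b_rc_26_5 lc_b_rc_8_2 lc_b_rc_6_1 lc_b_rc_26_5 lc_b_rc_10_2 lc_b_rc_7_0 lc_b_rc_1_5 lc_b_rc_8_0 lc_b_rc_9_0 lc_b_rc_9_2 lc_b_rc_9_2 lc_b_rc_7_0 lc_b_rc_26_5 lc_b_rc_7_4 lc_b_rc_9_2 lc_b_rc_6_1 lc_b_rc_8_2 lc_b_rc_8_0 lc_b_Cert_tree) (@D3.rec (fun _ => (Cert rels S Gen.b)) lc_b_rc_7_4 lc_b_rc_9_0 lc_b_rc_6_1 lc_b_rc_1_3 lc_b_rc_26_1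 lc_b_rc_8_2 lc_b_Cert_tree lc_b_rc_10_2 lc_b_rc_7_0 lc_b_rc_6_1 lc_b_rc_9_2 lc_b_rc_9_2 lc_b_rc_26_5 lc_b_rc_9_0 lc_b_rc_8_2 lc_b_rc_25_12 lc_b_rc_6_1 lc_b_Cert_tree lc_b_rc_26_5 lc_b_rc_26_1 lc_b_rc_8_0 lc_b_rc_6_1 lc_b_rc_8_0 lc_b_rc_7_4 lc_b_rc_6_1 lc_b_rc_9_2 lc_b_rc_6_1 lc_b_rc_9_2 lc_b_rc_6_1 lc_b_rc_8_0 lc_b_Cert_tree lc_b_rc_1_5 lc_b_rc_6_1 lc_b_rc_26_1 lc_b_rc_26_5 lc_b_Cert_tree lc_b_rc_8_2 lc_b_rc_9_2 lc_b_rc_6_1 lc_b_rc_26_1 lc_b_rc_10_2 lc_b_rc_8_2 lc_b_rc_6_1 lc_b_Cert_tree lc_b_rc_8_2 lc_b_rc_1_3 lc_b_rc_7_4 lc_b_rc_6_1 lc_b_rc_26_5 lc_b_rc_1_5 lc_b_rc_7_0 lc_b_rc_9_2 lc_b_rc_8_2 lc_b_rc_8_2 lc_b_rc_26_5 lc_b_rc_26_1 lc_b_rc_8_2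 lc_b_rc_26_1 lc_b_rc_8_2 lc_b_rc_9_2 lc_b_rc_26_5 lc_b_rc_8_2) (@D3.rec (fun _ => (Cert rels S Gen.b)) lc_b_rc_9_2 lc_b_rc_8_2 lc_b_rc_8_0 lc_b_Cert_tree lc_b_Cert_tree lc_b_rc_9_2 lc_b_rc_6_1 lc_b_rc_6_1 lc_b_rc_7_4 lc_b_rc_1_5 lc_b_rc_25_4 lc_b_rc_26_1 lc_b_rc_10_2 lc_b_rc_26_1 lc_b_rc_6_1 lc_b_rc_8_2 lc_b_rc_8_2 lc_b_Cert_tree lc_b_rc_26_5 lc_b_Cert_tree lc_b_rc_8_2 lc_b_rc_8_0 lc_b_rc_26_7 lc_b_Cert_tree lc_b_rc_8_0 lc_b_rc_8_0 lc_b_rc_8_2 lc_b_rc_9_2 lc_b_rc_1_5 lc_b_rc_7_0 lc_b_rc_6_1 lc_b_rc_1_5 lc_b_rc_9_2 lc_b_rc_25_0 lc_b_rc_8_0 lc_b_rc_6_1 lc_b_rc_7_2 lc_b_rc_8_2 lc_b_rc_8_2 lc_b_rc_8_2 lc_b_rc_9_2 lc_b_rc_25_4 lc_b_rc_9_2 lc_b_rc_6_1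 lc_b_Cert_tree lc_b_rc_9_2 lc_b_rc_25_4 lc_b_rc_9_2 lc_b_rc_7_4 lc_b_rc_8_0 lc_b_rc_6_1 lc_b_rc_8_2 lc_b_rc_25_16 lc_b_rc_9_2 lc_b_rc_26_7 lc_b_rc_8_2 lc_b_rc_8_0 lc_b_rc_8_2 lc_b_rc_26_7 lc_b_rc_9_2 lc_b_rc_7_4 lc_b_rc_9_2) (@D3.rec (fun _ => (Cert rels S Gen.b)) lc_b_rc_6_1 lc_b_rc_26_5 lc_b_rc_26_5 lc_b_rc_26_1 lc_b_rc_10_2 lc_b_rc_6_1 lc_b_rc_9_2 lc_b_rc_9_2 lc_b_Cert_tree lc_b_rc_8_2 lc_b_rc_10_2 lc_b_Cert_tree lc_b_rc_9_2 lc_b_rc_6_1 lc_b_rc_7_2 lc_b_rc_8_0 lc_b_rc_26_5 lc_b_rc_10_2 lc_b_rc_6_1 lc_b_rc_6_1 lc_b_rc_8_0 lc_b_Cert_tree lc_b_rc_10_2 lc_b_rc_25_16 lc_b_Cert_tree lc_b_Cert_tree lc_b_rc_1_3 lc_b_rc_8_2 lc_b_rc_10_2 lc_b_rc_9_2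 lc_b_rc_9_2 lc_b_Cert_tree lc_b_rc_8_2 lc_b_Cert_tree lc_b_rc_9_2 lc_b_rc_6_1 lc_b_rc_6_1 lc_b_rc_10_0 lc_b_rc_8_0 lc_b_rc_10_2 lc_b_rc_8_2 lc_b_rc_9_2 lc_b_rc_9_2 lc_b_rc_8_2 lc_b_rc_9_2 lc_b_rc_8_2 lc_b_rc_8_2 lc_b_rc_26_5 lc_b_rc_26_5 lc_b_rc_26_1 lc_b_rc_8_2 lc_b_rc_8_2 lc_b_rc_9_2 lc_b_rc_7_0 lc_b_rc_8_2 lc_b_Cert_tree lc_b_rc_9_0 lc_b_rc_9_2 lc_b_rc_8_2 lc_b_rc_8_2 lc_b_Cert_tree lc_b_rc_8_2) (@D3.rec (fun _ => (Cert rels S Gen.b)) lc_b_rc_6_1 lc_b_rc_26_1 lc_b_rc_8_2 lc_b_rc_10_0 lc_b_rc_7_2 lc_b_rc_10_2 lc_b_rc_25_8 lc_b_rc_9_2 lc_b_rc_8_2 lc_b_rc_10_2 lc_b_rc_9_2 lc_b_Cert_tree lc_b_rc_7_0 lc_b_rc_6_1 lc_b_rc_8_2 lc_b_rc_8_2 lc_b_Cert_tree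 lc_b_rc_7_4 lc_b_rc_6_1 lc_b_rc_7_2 lc_b_rc_6_1 lc_b_rc_10_0 lc_b_rc_9_0 lc_b_rc_9_0 lc_b_rc_10_2 lc_b_rc_8_2 lc_b_rc_8_0 lc_b_rc_9_2 lc_b_rc_8_0 lc_b_rc_26_5 lc_b_rc_10_2 lc_b_rc_26_5 lc_b_rc_8_2 lc_b_rc_8_2 lc_b_rc_1_1 lc_b_rc_10_0 lc_b_rc_8_2 lc_b_rc_7_2 lc_b_rc_6_1 lc_b_rc_10_2 lc_b_rc_9_2 lc_b_rc_10_2 lc_b_rc_26_7 lc_b_rc_6_1 lc_b_rc_26_7 lc_b_rc_9_2 lc_b_rc_8_2 lc_b_rc_6_1 lc_b_rc_9_0 lc_b_rc_9_2 lc_b_rc_6_1 lc_b_rc_7_4 lc_b_rc_1_5 lc_b_rc_9_2 lc_b_rc_6_1 lc_b_Cert_tree lc_b_rc_8_2 lc_b_rc_7_2 lc_b_rc_9_2 lc_b_Cert_tree lc_b_rc_6_1 lc_b_rc_10_2) (@D3.rec (fun _ => (Cert rels S Gen.b)) lc_b_rc_26_7 lc_b_rc_8_2 lc_b_rc_9_2 lc_b_rc_8_2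 lc_b_rc_9_2 lc_b_rc_25_4 lc_b_rc_9_2 lc_b_rc_8_2 lc_b_rc_7_0 lc_b_rc_8_2 lc_b_rc_8_2 lc_b_rc_9_2 lc_b_rc_6_1 lc_b_rc_25_4 lc_b_rc_9_2 lc_b_rc_6_1 lc_b_Cert_tree lc_b_rc_9_2 lc_b_Cert_tree lc_b_Cert_tree lc_b_rc_6_1 lc_b_rc_9_0 lc_b_rc_26_7 lc_b_rc_8_2 lc_b_rc_8_2 lc_b_rc_6_1 lc_b_rc_6_1 lc_b_rc_9_2 lc_b_rc_6_1 lc_b_rc_8_2 lc_b_rc_6_1 lc_b_rc_8_2 lc_b_Cert_tree lc_b_rc_9_2 lc_b_rc_6_1 lc_b_rc_10_0 lc_b_rc_6_1 lc_b_rc_6_1 lc_b_rc_25_16 lc_b_Cert_tree lc_b_Cert_tree lc_b_rc_1_3 lc_b_rc_9_2 lc_b_rc_8_2 lc_b_rc_1_1 lc_b_rc_1_3 lc_b_rc_6_1 lc_b_rc_9_2 lc_b_rc_1_3 lc_b_rc_6_1 lc_b_rc_9_2 lc_b_rc_9_2 lc_b_rc_8_2 lc_b_rc_9_0 lc_b_rc_9_2 lc_b_rc_9_2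 lc_b_rc_6_1 lc_b_rc_6_1 lc_b_rc_8_2 lc_b_rc_6_1 lc_b_rc_8_2 lc_b_rc_8_2) (@D3.rec (fun _ => (Cert rels S Gen.b)) lc_b_Cert_tree lc_b_rc_8_0 lc_b_rc_8_2 lc_b_rc_8_0 lc_b_rc_9_2 lc_b_rc_6_1 lc_b_rc_8_2 lc_b_rc_9_2 lc_b_rc_8_2 lc_b_rc_1_3 lc_b_rc_26_7 lc_b_rc_26_5 lc_b_rc_9_2 lc_b_rc_6_1 lc_b_rc_26_1 lc_b_rc_9_2 lc_b_rc_6_1 lc_b_rc_7_0 lc_b_rc_26_5 lc_b_rc_9_2 lc_b_rc_8_2 lc_b_rc_9_2 lc_b_rc_9_2 lc_b_rc_9_2 lc_b_rc_6_1 lc_b_rc_7_4 lc_b_rc_9_2 lc_b_rc_25_4 lc_b_rc_9_2 lc_b_rc_6_1 lc_b_rc_10_2 lc_b_rc_9_2 lc_b_rc_26_7 lc_b_rc_8_2 lc_b_rc_8_0 lc_b_rc_8_0 lc_b_Cert_tree lc_b_rc_9_2 lc_b_rc_7_0 lc_b_rc_6_1 lc_b_rc_6_1 lc_b_rc_10_2 lc_b_rc_6_1 lc_b_rc_7_4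 lc_b_rc_10_0 lc_b_rc_9_2 lc_b_rc_10_2 lc_b_rc_26_5 lc_b_Cert_tree lc_b_rc_9_2 lc_b_rc_6_1 lc_b_rc_9_0 lc_b_rc_9_0 lc_b_rc_10_2 lc_b_rc_6_1 lc_b_rc_7_4 lc_b_rc_26_7 lc_b_Cert_tree lc_b_rc_10_2 lc_b_rc_6_1 lc_b_rc_25_16 lc_b_rc_7_0) (@D3.rec (fun _ => (Cert rels S Gen.b)) lc_b_rc_10_2 lc_b_rc_9_2 lc_b_Cert_tree lc_b_rc_8_0 lc_b_Cert_tree lc_b_rc_9_2 lc_b_rc_6_1 lc_b_rc_9_2 lc_b_rc_8_2 lc_b_rc_9_2 lc_b_rc_8_2 lc_b_rc_10_2 lc_b_rc_8_2 lc_b_rc_9_2 lc_b_rc_1_5 lc_b_Cert_tree lc_b_rc_26_7 lc_b_rc_8_2 lc_b_rc_6_1 lc_b_rc_8_2 lc_b_rc_6_1 lc_b_rc_6_1 lc_b_rc_6_1 lc_b_rc_1_3 lc_b_rc_26_5 lc_b_rc_9_2 lc_b_rc_9_2 lc_b_rc_8_2 lc_b_rc_26_1 lc_b_rc_8_2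 lc_b_rc_8_2 lc_b_Cert_tree lc_b_rc_10_2 lc_b_rc_9_2 lc_b_rc_26_7 lc_b_rc_1_3 lc_b_rc_9_2 lc_b_rc_26_5 lc_b_rc_7_0 lc_b_rc_6_1 lc_b_rc_8_2 lc_b_rc_7_2 lc_b_rc_9_2 lc_b_rc_9_2 lc_b_rc_25_4 lc_b_rc_9_2 lc_b_rc_6_1 lc_b_rc_9_2 lc_b_rc_6_1 lc_b_rc_26_5 lc_b_rc_9_2 lc_b_rc_26_1 lc_b_rc_9_2 lc_b_rc_8_2 lc_b_rc_8_2 lc_b_rc_1_3 lc_b_rc_6_1 lc_b_rc_8_0 lc_b_rc_9_2 lc_b_rc_6_1 lc_b_rc_7_0 lc_b_rc_26_5) (@D3.rec (fun _ => (Cert rels S Gen.b)) lc_b_rc_10_2 lc_b_rc_6_1 lc_b_rc_9_2 lc_b_rc_9_2 lc_b_rc_26_5 lc_b_rc_10_2 lc_b_rc_8_2 lc_b_rc_26_5 lc_b_rc_9_2 lc_b_rc_6_1 lc_b_Cert_tree lc_b_rc_10_2 lc_b_rc_8_2 lc_b_rc_10_0 lc_b_rc_7_0 lc_b_rc_1_3 lc_b_rc_6_1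 lc_b_rc_7_2 lc_b_rc_6_1 lc_b_rc_7_4 lc_b_rc_8_2 lc_b_rc_26_1 lc_b_rc_9_2 lc_b_rc_8_2 lc_b_rc_8_2 lc_b_rc_9_0 lc_b_rc_9_2 lc_b_rc_7_0 lc_b_rc_9_2 lc_b_rc_8_2 lc_b_rc_9_2 lc_b_rc_6_1 lc_b_rc_8_2 lc_b_rc_9_2 lc_b_rc_10_2 lc_b_rc_8_2 lc_b_rc_8_2 lc_b_rc_26_5 lc_b_rc_9_2 lc_b_rc_8_2 lc_b_rc_8_2 lc_b_rc_9_2 lc_b_rc_8_2 lc_b_rc_25_16 lc_b_rc_9_2 lc_b_rc_6_1 lc_b_rc_26_5 lc_b_rc_9_2 lc_b_rc_9_2 lc_b_rc_7_4 lc_b_rc_8_2 lc_b_rc_9_2 lc_b_rc_1_5 lc_b_rc_9_2 lc_b_rc_8_0 lc_b_rc_6_1 lc_b_rc_6_1 lc_b_rc_8_2 lc_b_rc_10_2 lc_b_rc_10_2 lc_b_rc_7_2 lc_b_rc_9_2) (@D3.rec (fun _ => (Cert rels S Gen.b)) lc_b_rc_26_1 lc_b_rc_6_1 lc_b_rc_1_5 lc_b_rc_9_2 lc_b_rc_1_3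 lc_b_rc_8_0 lc_b_rc_8_2 lc_b_Cert_tree lc_b_rc_8_2 lc_b_rc_25_4 lc_b_rc_9_2 lc_b_rc_8_2 lc_b_rc_9_2 lc_b_rc_7_0 lc_b_rc_1_1 lc_b_rc_26_5 lc_b_rc_9_2 lc_b_rc_6_1 lc_b_rc_9_0 lc_b_rc_1_3 lc_b_Cert_tree lc_b_rc_6_1 lc_b_rc_25_4 lc_b_rc_8_2 lc_b_rc_8_2 lc_b_rc_8_2 lc_b_rc_7_0 lc_b_Cert_tree lc_b_rc_6_1 lc_b_rc_8_2 lc_b_rc_26_1 lc_b_rc_9_2 lc_b_rc_6_1 lc_b_rc_1_3 lc_b_rc_8_2 lc_b_rc_8_2 lc_b_rc_26_5 lc_b_rc_6_1 lc_b_rc_1_3 lc_b_rc_26_1 lc_b_rc_8_2 lc_b_rc_9_2 lc_b_rc_8_2 lc_b_rc_6_1 lc_b_rc_9_0 lc_b_rc_7_4 lc_b_rc_6_1 lc_b_rc_6_1 lc_b_rc_9_0 lc_b_rc_1_3 lc_b_rc_26_7 lc_b_Cert_tree lc_b_rc_26_5 lc_b_rc_1_3 lc_b_rc_8_2 lc_b_rc_1_3 lc_b_rc_1_3 lc_b_Cert_tree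 lc_b_rc_9_2 lc_b_rc_6_1 lc_b_rc_8_2 lc_b_Cert_tree) (@D3.rec (fun _ => (Cert rels S Gen.b)) lc_b_rc_6_1 lc_b_rc_7_4 lc_b_rc_9_0 lc_b_Cert_tree lc_b_rc_8_2 lc_b_rc_9_0 lc_b_rc_6_1 lc_b_rc_26_5 lc_b_rc_8_0 lc_b_Cert_tree lc_b_rc_7_4 lc_b_rc_10_2 lc_b_rc_9_2 lc_b_rc_6_1 lc_b_rc_10_2 lc_b_rc_7_2 lc_b_rc_10_2 lc_b_rc_6_1 lc_b_rc_8_2 lc_b_rc_9_2 lc_b_rc_6_1 lc_b_rc_6_1 lc_b_rc_26_1 lc_b_Cert_tree lc_b_Cert_tree lc_b_rc_1_3 lc_b_rc_6_1 lc_b_rc_1_5 lc_b_Cert_tree lc_b_rc_9_2 lc_b_Cert_tree lc_b_rc_9_2 lc_b_rc_6_1 lc_b_rc_9_2 lc_b_rc_26_1 lc_b_Cert_tree lc_b_rc_9_2 lc_b_Cert_tree lc_b_Cert_tree lc_b_rc_6_1 lc_b_rc_8_2 lc_b_rc_7_2 lc_b_Cert_tree lc_b_rc_8_2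 lc_b_rc_10_2 lc_b_rc_6_1 lc_b_Cert_tree lc_b_rc_8_0 lc_b_rc_7_2 lc_b_Cert_tree lc_b_rc_8_2 lc_b_rc_9_2 lc_b_rc_10_0 lc_b_rc_9_0 lc_b_rc_6_1 lc_b_Cert_tree lc_b_rc_1_3 lc_b_rc_9_2 lc_b_rc_8_2 lc_b_rc_8_0 lc_b_rc_6_1 lc_b_rc_8_2) (@D3.rec (fun _ => (Cert rels S Gen.b)) lc_b_rc_7_4 lc_b_rc_6_1 lc_b_Cert_tree lc_b_rc_8_0 lc_b_rc_8_2 lc_b_rc_10_2 lc_b_rc_6_1 lc_b_rc_9_2 lc_b_rc_6_1 lc_b_Cert_tree lc_b_Cert_tree lc_b_rc_1_3 lc_b_rc_6_1 lc_b_rc_8_2 lc_b_rc_9_2 lc_b_rc_9_2 lc_b_rc_10_2 lc_b_rc_1_3 lc_b_rc_9_2 lc_b_rc_6_1 lc_b_rc_8_2 lc_b_rc_9_2 lc_b_rc_8_2 lc_b_rc_8_2 lc_b_rc_10_2 lc_b_Cert_tree lc_b_Cert_tree lc_b_rc_8_2 lc_b_rc_9_2 lc_b_rc_7_0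 lc_b_rc_26_5 lc_b_rc_26_1 lc_b_rc_9_2 lc_b_rc_8_2 lc_b_rc_6_1 lc_b_Cert_tree lc_b_rc_1_3 lc_b_rc_6_1 lc_b_Cert_tree lc_b_Cert_tree lc_b_rc_1_3 lc_b_rc_9_2 lc_b_rc_10_2 lc_b_rc_1_3 lc_b_rc_7_0 lc_b_rc_6_1 lc_b_rc_26_1 lc_b_rc_1_5 lc_b_rc_9_2 lc_b_rc_6_1 lc_b_rc_6_1 lc_b_Cert_tree lc_b_rc_26_7 lc_b_rc_1_3 lc_b_rc_6_1 lc_b_rc_8_2 lc_b_rc_7_4 lc_b_rc_9_2 lc_b_rc_9_2 lc_b_rc_26_7 lc_b_rc_9_0 lc_b_Cert_tree) (@D3.rec (fun _ => (Cert rels S Gen.b)) lc_b_rc_26_1 lc_b_rc_6_1 lc_b_rc_1_5 lc_b_rc_9_0 lc_b_rc_8_0 lc_b_rc_6_1 lc_b_rc_8_2 lc_b_rc_9_2 lc_b_rc_6_1 lc_b_rc_1_3 lc_b_rc_8_2 lc_b_rc_8_2 lc_b_rc_1_1 lc_b_rc_6_1 lc_b_rc_8_2 lc_b_rc_7_2 lc_b_rc_9_2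 lc_b_rc_6_1 lc_b_rc_8_0 lc_b_rc_8_0 lc_b_rc_8_0 lc_b_rc_9_2 lc_b_rc_1_1 lc_b_Cert_tree lc_b_rc_9_2 lc_b_rc_6_1 lc_b_rc_8_2 lc_b_rc_9_2 lc_b_rc_9_2 lc_b_rc_9_0 lc_b_rc_6_1 lc_b_rc_1_1 lc_b_Cert_tree lc_b_rc_6_1 lc_b_rc_1_3 lc_b_rc_9_2 lc_b_Cert_tree lc_b_rc_7_0 lc_b_rc_8_2 lc_b_rc_9_2 lc_b_rc_9_0 lc_b_rc_6_1 lc_b_rc_10_2 lc_b_rc_6_1 lc_b_rc_6_1 lc_b_rc_26_5 lc_b_rc_8_2 lc_b_rc_9_2 lc_b_rc_7_4 lc_b_rc_26_7 lc_b_rc_26_5 lc_b_rc_8_2 lc_b_rc_9_2 lc_b_rc_1_3 lc_b_rc_8_2 lc_b_rc_9_2 lc_b_rc_8_2 lc_b_rc_6_1 lc_b_rc_6_1 lc_b_rc_6_1 lc_b_rc_6_1 lc_b_rc_9_2) (@D3.rec (fun _ => (Cert rels S Gen.b)) lc_b_Cert_tree lc_b_Cert_tree lc_b_rc_10_2 lc_b_rc_6_1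 lc_b_rc_6_1 lc_b_rc_7_0 lc_b_rc_6_1 lc_b_rc_6_1 lc_b_rc_6_1 lc_b_rc_6_1 lc_b_rc_9_2 lc_b_Cert_tree lc_b_Cert_tree lc_b_rc_7_0 lc_b_rc_6_1 lc_b_rc_9_2 lc_b_rc_8_0 lc_b_rc_9_2 lc_b_rc_6_1 lc_b_rc_6_1 lc_b_Cert_tree lc_b_rc_26_5 lc_b_rc_8_0 lc_b_rc_7_2 lc_b_rc_9_2 lc_b_Cert_tree lc_b_rc_26_1 lc_b_rc_6_1 lc_b_rc_9_2 lc_b_Cert_tree lc_b_rc_6_1 lc_b_rc_8_2 lc_b_rc_1_3 lc_b_rc_1_5 lc_b_Cert_tree lc_b_Cert_tree lc_b_rc_6_1 lc_b_rc_1_3 lc_b_rc_26_1 lc_b_rc_6_1 lc_b_rc_8_2 lc_b_rc_6_1 lc_b_rc_9_2 lc_b_rc_7_0 lc_b_Cert_tree lc_b_rc_10_0 lc_b_rc_6_1 lc_b_rc_6_1 lc_b_rc_1_5 lc_b_rc_8_2 lc_b_rc_10_0 lc_b_rc_6_1 lc_b_rc_6_1 lc_b_rc_1_1 lc_b_rc_26_5 lc_b_rc_1_3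 lc_b_rc_9_2 lc_b_rc_7_0 lc_b_rc_6_1 lc_b_rc_1_5 lc_b_rc_1_3 lc_b_rc_6_1) (@D3.rec (fun _ => (Cert rels S Gen.b)) lc_b_rc_9_2 lc_b_Cert_tree lc_b_rc_6_1 lc_b_rc_10_2 lc_b_rc_7_2 lc_b_rc_26_5 lc_b_rc_1_3 lc_b_rc_7_2 lc_b_rc_7_2 lc_b_rc_7_0 lc_b_rc_1_5 lc_b_rc_6_1 lc_b_rc_1_3 lc_b_rc_9_2 lc_b_rc_9_0 lc_b_Cert_tree lc_b_rc_10_2 lc_b_rc_1_3 lc_b_rc_9_0 lc_b_rc_1_3 lc_b_rc_6_1 lc_b_rc_1_5 lc_b_rc_9_2 lc_b_rc_8_2 lc_b_rc_10_2 lc_b_rc_6_1 lc_b_rc_9_2 lc_b_rc_1_1 lc_b_rc_9_2 lc_b_rc_9_0 lc_b_rc_9_0 lc_b_rc_9_0 lc_b_rc_26_5 lc_b_rc_8_2 lc_b_rc_8_2 lc_b_rc_6_1 lc_b_rc_26_7 lc_b_rc_26_5 lc_b_rc_6_1 lc_b_rc_26_5 lc_b_rc_6_1 lc_b_rc_8_0 lc_b_rc_6_1 lc_b_rc_26_1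 lc_b_rc_8_2 lc_b_rc_10_2 lc_b_rc_7_0 lc_b_rc_1_3 lc_b_rc_26_5 lc_b_rc_9_2 lc_b_rc_7_4 lc_b_rc_8_2 lc_b_rc_1_3 lc_b_rc_6_1 lc_b_rc_6_1 lc_b_rc_8_0 lc_b_rc_9_2 lc_b_rc_6_1 lc_b_rc_8_2 lc_b_rc_6_1 lc_b_rc_26_1 lc_b_rc_9_2) (@D3.rec (fun _ => (Cert rels S Gen.b)) lc_b_rc_1_3 lc_b_rc_8_2 lc_b_rc_1_3 lc_b_rc_8_2 lc_b_rc_7_4 lc_b_rc_8_2 lc_b_rc_9_2 lc_b_rc_8_2 lc_b_rc_6_1 lc_b_rc_26_5 lc_b_rc_8_2 lc_b_rc_8_2 lc_b_rc_10_0 lc_b_rc_9_2 lc_b_rc_9_2 lc_b_rc_6_1 lc_b_rc_8_2 lc_b_rc_9_0 lc_b_rc_6_1 lc_b_rc_1_1 lc_b_rc_9_2 lc_b_rc_8_2 lc_b_rc_7_4 lc_b_rc_1_3 lc_b_rc_9_0 lc_b_rc_9_2 lc_b_rc_6_1 lc_b_rc_6_1 lc_b_rc_7_0 lc_b_rc_10_2 lc_b_rc_6_1 lc_b_rc_9_2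 lc_b_rc_6_1 lc_b_rc_8_0 lc_b_rc_26_1 lc_b_rc_10_2 lc_b_rc_6_1 lc_b_rc_10_0 lc_b_rc_26_5 lc_b_Cert_tree lc_b_rc_9_0 lc_b_rc_7_4 lc_b_rc_10_2 lc_b_rc_6_1 lc_b_rc_8_2 lc_b_rc_9_2 lc_b_rc_6_1 lc_b_rc_8_2 lc_b_rc_26_7 lc_b_rc_8_2 lc_b_Cert_tree lc_b_rc_25_4 lc_b_rc_10_2 lc_b_rc_8_2 lc_b_Cert_tree lc_b_rc_8_2 lc_b_rc_9_2 lc_b_rc_9_2 lc_b_rc_6_1 lc_b_rc_9_2 lc_b_rc_8_2 lc_b_Cert_tree) (@D3.rec (fun _ => (Cert rels S Gen.b)) lc_b_rc_9_2 lc_b_rc_9_2 lc_b_rc_9_2 lc_b_rc_6_1 lc_b_rc_26_5 lc_b_rc_6_1 lc_b_rc_26_5 lc_b_rc_8_2 lc_b_rc_7_4 lc_b_rc_9_2 lc_b_rc_6_1 lc_b_rc_10_2 lc_b_rc_6_1 lc_b_rc_8_2 lc_b_rc_26_7 lc_b_rc_1_5 lc_b_rc_1_3 lc_b_rc_25_4 lc_b_rc_6_1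 lc_b_rc_7_2 lc_b_rc_1_3 lc_b_rc_8_0 lc_b_rc_8_0 lc_b_rc_10_2 lc_b_rc_9_2 lc_b_rc_25_0 lc_b_rc_8_2 lc_b_rc_1_5 lc_b_rc_6_1 lc_b_rc_8_2 lc_b_rc_6_1 lc_b_rc_8_2 lc_b_rc_8_0 lc_b_rc_9_2 lc_b_rc_1_5 lc_b_rc_1_3 lc_b_rc_8_2 lc_b_rc_6_1 lc_b_rc_8_2 lc_b_Cert_tree lc_b_rc_9_2 lc_b_rc_6_1 lc_b_rc_9_2 lc_b_rc_26_7 lc_b_rc_26_5 lc_b_rc_10_2 lc_b_rc_9_2 lc_b_rc_1_1 lc_b_rc_8_0 lc_b_rc_6_1 lc_b_rc_10_0 lc_b_rc_6_1 lc_b_rc_6_1 lc_b_rc_9_2 lc_b_rc_8_2 lc_b_rc_9_2 lc_b_rc_10_2 lc_b_rc_6_1 lc_b_rc_9_0 lc_b_rc_26_1 lc_b_rc_8_2 lc_b_rc_8_2) (@D3.rec (fun _ => (Cert rels S Gen.b)) lc_b_rc_1_3 lc_b_Cert_tree lc_b_rc_8_2 lc_b_rc_7_4 lc_b_rc_9_2 lc_b_rc_8_0 lc_b_rc_10_2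 lc_b_rc_6_1 lc_b_rc_7_4 lc_b_rc_1_3 lc_b_rc_10_2 lc_b_rc_7_4 lc_b_rc_8_2 lc_b_rc_10_2 lc_b_rc_26_5 lc_b_rc_9_2 lc_b_rc_6_1 lc_b_rc_26_5 lc_b_rc_8_0 lc_b_rc_9_2 lc_b_rc_9_2 lc_b_Cert_tree lc_b_rc_10_2 lc_b_rc_8_2 lc_b_rc_8_2 lc_b_Cert_tree lc_b_rc_26_5 lc_b_Cert_tree lc_b_rc_26_7 lc_b_rc_9_2 lc_b_rc_6_1 lc_b_rc_6_1 lc_b_rc_9_2 lc_b_Cert_tree lc_b_rc_6_1 lc_b_rc_8_2 lc_b_rc_8_0 lc_b_rc_7_0 lc_b_rc_8_2 lc_b_rc_10_2 lc_b_rc_1_3 lc_b_rc_6_1 lc_b_rc_9_2 lc_b_rc_7_0 lc_b_rc_9_0 lc_b_rc_9_0 lc_b_rc_26_5 lc_b_rc_7_2 lc_b_rc_9_2 lc_b_rc_9_0 lc_b_rc_6_1 lc_b_rc_8_2 lc_b_rc_9_2 lc_b_Cert_tree lc_b_rc_8_0 lc_b_rc_25_4 lc_b_rc_10_2 lc_b_rc_6_1 lc_b_rc_6_1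 lc_b_rc_7_2 lc_b_rc_26_1 lc_b_rc_26_1) (@D3.rec (fun _ => (Cert rels S Gen.b)) lc_b_rc_8_2 lc_b_rc_8_2 lc_b_rc_26_1 lc_b_rc_26_5 lc_b_rc_8_2 lc_b_rc_8_2 lc_b_rc_9_2 lc_b_rc_1_1 lc_b_rc_9_2 lc_b_rc_7_0 lc_b_rc_8_2 lc_b_rc_9_2 lc_b_rc_8_2 lc_b_rc_9_2 lc_b_rc_8_0 lc_b_rc_1_5 lc_b_rc_9_2 lc_b_rc_10_2 lc_b_rc_26_5 lc_b_rc_8_2 lc_b_rc_9_2 lc_b_rc_9_2 lc_b_rc_10_2 lc_b_rc_1_3 lc_b_rc_9_2 lc_b_rc_8_2 lc_b_rc_6_1 lc_b_rc_26_5 lc_b_rc_6_1 lc_b_rc_26_5 lc_b_rc_6_1 lc_b_rc_26_1 lc_b_rc_9_2 lc_b_rc_6_1 lc_b_rc_7_0 lc_b_rc_26_5 lc_b_rc_8_2 lc_b_rc_6_1 lc_b_rc_8_2 lc_b_rc_8_0 lc_b_rc_9_2 lc_b_rc_7_0 lc_b_rc_10_2 lc_b_rc_9_2 lc_b_rc_26_5 lc_b_rc_26_1 lc_b_rc_26_1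 lc_b_rc_9_2 lc_b_rc_7_0 lc_b_rc_6_1 lc_b_rc_6_1 lc_b_rc_6_1 lc_b_rc_1_5 lc_b_rc_8_2 lc_b_rc_7_2 lc_b_rc_9_2 lc_b_Cert_tree lc_b_rc_25_16 lc_b_rc_10_2 lc_b_rc_6_1 lc_b_rc_1_3 lc_b_rc_8_2) (@D3.rec (fun _ => (Cert rels S Gen.b)) lc_b_rc_8_2 lc_b_rc_6_1 lc_b_rc_7_4 lc_b_rc_6_1 lc_b_rc_9_0 lc_b_rc_9_2 lc_b_rc_8_2 lc_b_rc_9_2 lc_b_rc_6_1 lc_b_rc_26_5 lc_b_rc_8_2 lc_b_rc_10_2 lc_b_rc_8_2 lc_b_rc_7_0 lc_b_rc_8_2 lc_b_rc_9_2 lc_b_Cert_tree lc_b_rc_8_2 lc_b_Cert_tree lc_b_rc_10_2 lc_b_rc_6_1 lc_b_rc_10_2 lc_b_rc_9_2 lc_b_rc_1_3 lc_b_rc_8_2 lc_b_rc_8_2 lc_b_rc_6_1 lc_b_rc_10_0 lc_b_rc_9_2 lc_b_rc_7_0 lc_b_rc_8_2 lc_b_rc_10_2 lc_b_rc_1_5 lc_b_rc_10_2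 lc_b_rc_8_2 lc_b_rc_25_8 lc_b_rc_9_2 lc_b_rc_8_2 lc_b_rc_9_2 lc_b_rc_8_2 lc_b_rc_9_2 lc_b_rc_6_1 lc_b_rc_9_2 lc_b_rc_8_2 lc_b_rc_7_4 lc_b_rc_9_2 lc_b_rc_7_0 lc_b_rc_10_0 lc_b_rc_9_0 lc_b_rc_10_2 lc_b_rc_1_3 lc_b_rc_7_4 lc_b_rc_9_2 lc_b_rc_7_2 lc_b_rc_1_3 lc_b_rc_7_4 lc_b_rc_9_2 lc_b_rc_7_0 lc_b_rc_6_1 lc_b_rc_8_2 lc_b_rc_8_2 lc_b_rc_9_2) (@D3.rec (fun _ => (Cert rels S Gen.b)) lc_b_rc_8_2 lc_b_rc_9_2 lc_b_rc_26_5 lc_b_rc_6_1 lc_b_rc_1_1 lc_b_Cert_tree lc_b_rc_6_1 lc_b_rc_26_7 lc_b_rc_26_5 lc_b_rc_8_2 lc_b_rc_1_3 lc_b_rc_8_0 lc_b_Cert_tree lc_b_Cert_tree lc_b_rc_7_2 lc_b_rc_26_7 lc_b_rc_8_2 lc_b_rc_8_2 lc_b_rc_26_5 lc_b_rc_10_0 lc_b_rc_8_0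 lc_b_rc_9_2 lc_b_rc_6_1 lc_b_rc_7_2 lc_b_rc_9_2 lc_b_rc_26_1 lc_b_rc_8_2 lc_b_rc_26_5 lc_b_rc_8_2 lc_b_rc_10_0 lc_b_rc_26_1 lc_b_rc_9_2 lc_b_Cert_tree lc_b_rc_6_1 lc_b_rc_9_2 lc_b_rc_6_1 lc_b_rc_9_2 lc_b_rc_6_1 lc_b_rc_9_0 lc_b_Cert_tree lc_b_rc_9_2 lc_b_rc_6_1 lc_b_rc_25_16 lc_b_rc_8_2 lc_b_rc_10_2 lc_b_rc_10_2 lc_b_rc_8_2 lc_b_rc_8_2 lc_b_rc_9_2 lc_b_rc_8_2 lc_b_rc_8_2 lc_b_Cert_tree lc_b_rc_9_2 lc_b_rc_8_2 lc_b_rc_7_2 lc_b_rc_6_1 lc_b_rc_26_1 lc_b_rc_10_2 lc_b_rc_9_2 lc_b_rc_10_2 lc_b_Cert_tree lc_b_rc_9_2) (@D3.rec (fun _ => (Cert rels S Gen.b)) lc_b_rc_6_1 lc_b_rc_25_4 lc_b_rc_7_0 lc_b_rc_9_0 lc_b_rc_9_0 lc_b_rc_10_2 lc_b_rc_10_2 lc_b_Cert_tree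 lc_b_rc_9_2 lc_b_rc_6_1 lc_b_rc_26_1 lc_b_rc_6_1 lc_b_rc_8_0 lc_b_rc_6_1 lc_b_rc_10_2 lc_b_rc_9_2 lc_b_rc_6_1 lc_b_rc_6_1 lc_b_rc_6_1 lc_b_rc_6_1 lc_b_rc_9_2 lc_b_rc_9_2 lc_b_rc_8_2 lc_b_rc_1_1 lc_b_rc_8_2 lc_b_rc_1_3 lc_b_rc_9_2 lc_b_rc_8_2 lc_b_rc_8_2 lc_b_rc_9_2 lc_b_rc_26_1 lc_b_rc_8_2 lc_b_rc_8_2 lc_b_rc_10_2 lc_b_rc_6_1 lc_b_rc_9_2 lc_b_rc_10_2 lc_b_rc_7_2 lc_b_rc_8_2 lc_b_rc_8_2 lc_b_rc_9_2 lc_b_rc_6_1 lc_b_rc_6_1 lc_b_rc_9_2 lc_b_rc_10_2 lc_b_rc_9_2 lc_b_rc_25_4 lc_b_rc_8_2 lc_b_rc_8_2 lc_b_rc_8_0 lc_b_rc_1_1 lc_b_rc_6_1 lc_b_rc_25_4 lc_b_rc_9_2 lc_b_rc_6_1 lc_b_rc_26_5 lc_b_rc_9_2 lc_b_rc_7_2 lc_b_rc_8_2 lc_b_rc_10_2 lc_b_rc_8_0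 lc_b_rc_9_2) (@D3.rec (fun _ => (Cert rels S Gen.b)) lc_b_Cert_tree lc_b_rc_8_2 lc_b_rc_9_2 lc_b_rc_8_2 lc_b_rc_8_2 lc_b_rc_7_4 lc_b_rc_8_0 lc_b_rc_8_2 lc_b_rc_8_2 lc_b_rc_1_1 lc_b_rc_8_2 lc_b_rc_9_2 lc_b_rc_9_2 lc_b_rc_9_2 lc_b_rc_6_1 lc_b_rc_25_16 lc_b_rc_6_1 lc_b_rc_8_2 lc_b_rc_6_1 lc_b_rc_8_2 lc_b_rc_6_1 lc_b_rc_7_4 lc_b_rc_8_0 lc_b_rc_8_2 lc_b_rc_10_2 lc_b_rc_9_0 lc_b_rc_1_1 lc_b_rc_8_2 lc_b_rc_1_5 lc_b_rc_7_4 lc_b_rc_8_2 lc_b_Cert_tree lc_b_rc_26_7 lc_b_rc_6_1 lc_b_rc_6_1 lc_b_rc_8_2 lc_b_rc_9_2 lc_b_rc_26_5 lc_b_rc_6_1 lc_b_Cert_tree lc_b_rc_6_1 lc_b_rc_8_2 lc_b_rc_25_12 lc_b_rc_8_2 lc_b_rc_7_4 lc_b_rc_8_2 lc_b_rc_10_0 lc_b_rc_1_3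 lc_b_rc_6_1 lc_b_rc_26_1 lc_b_rc_9_2 lc_b_rc_1_1 lc_b_rc_9_2 lc_b_rc_6_1 lc_b_rc_8_2 lc_b_rc_8_0 lc_b_rc_8_2 lc_b_rc_26_1 lc_b_rc_1_5 lc_b_rc_9_2 lc_b_rc_7_2 lc_b_rc_10_2) (@D3.rec (fun _ => (Cert rels S Gen.b)) lc_b_rc_6_1 lc_b_rc_7_4 lc_b_rc_8_2 lc_b_rc_10_2 lc_b_rc_26_5 lc_b_rc_26_7 lc_b_rc_8_2 lc_b_rc_6_1 lc_b_rc_7_2 lc_b_rc_10_2 lc_b_rc_26_1 lc_b_rc_8_2 lc_b_rc_8_2 lc_b_rc_26_5 lc_b_rc_10_2 lc_b_rc_1_1 lc_b_rc_10_2 lc_b_rc_7_0 lc_b_rc_26_5 lc_b_rc_10_2 lc_b_rc_7_0 lc_b_rc_10_2 lc_b_rc_9_2 lc_b_rc_7_4 lc_b_rc_9_2 lc_b_rc_25_16 lc_b_rc_8_2 lc_b_rc_9_2 lc_b_rc_25_4 lc_b_rc_9_2 lc_b_rc_25_4 lc_b_rc_9_2 lc_b_rc_6_1 lc_b_rc_8_0 lc_b_rc_9_2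 lc_b_rc_8_0 lc_b_rc_25_8 lc_b_rc_7_2 lc_b_rc_9_0 lc_b_rc_6_1 lc_b_rc_8_2 lc_b_rc_26_5 lc_b_rc_9_2 lc_b_rc_26_5 lc_b_rc_7_4 lc_b_rc_6_1 lc_b_rc_1_1 lc_b_rc_1_3 lc_b_rc_8_2 lc_b_rc_7_2 lc_b_rc_9_2 lc_b_rc_1_5 lc_b_rc_26_5 lc_b_rc_8_2 lc_b_rc_26_5 lc_b_rc_26_1 lc_b_rc_6_1 lc_b_rc_10_2 lc_b_rc_6_1 lc_b_rc_26_7 lc_b_rc_1_3 lc_b_rc_26_1) (@D3.rec (fun _ => (Cert rels S Gen.b)) lc_b_rc_9_0 lc_b_rc_9_2 lc_b_rc_6_1 lc_b_rc_6_1 lc_b_Cert_tree lc_b_rc_9_0 lc_b_rc_7_4 lc_b_rc_6_1 lc_b_rc_7_4 lc_b_rc_6_1 lc_b_rc_8_0 lc_b_rc_9_2 lc_b_rc_6_1 lc_b_rc_26_5 lc_b_rc_8_2 lc_b_rc_7_4 lc_b_rc_6_1 lc_b_rc_26_1 lc_b_rc_6_1 lc_b_Cert_tree lc_b_rc_10_2 lc_b_rc_6_1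 lc_b_rc_6_1 lc_b_rc_7_4 lc_b_rc_8_2 lc_b_rc_9_2 lc_b_rc_8_2 lc_b_rc_26_1 lc_b_rc_10_2 lc_b_rc_6_1 lc_b_rc_6_1 lc_b_rc_8_0 lc_b_rc_8_2 lc_b_rc_9_2 lc_b_rc_26_5 lc_b_rc_8_0 lc_b_rc_1_5 lc_b_rc_8_2 lc_b_rc_10_2 lc_b_rc_8_0 lc_b_rc_25_12 lc_b_rc_7_0 lc_b_rc_6_1 lc_b_rc_8_2 lc_b_rc_10_2 lc_b_rc_10_0 lc_b_rc_1_1 lc_b_rc_26_1 lc_b_rc_26_5 lc_b_rc_6_1 lc_b_rc_26_7 lc_b_rc_9_2 lc_b_rc_26_5 lc_b_rc_8_0 lc_b_rc_8_2 lc_b_rc_9_2 lc_b_rc_6_1 lc_b_rc_8_2 lc_b_rc_10_2 lc_b_rc_6_1 lc_b_rc_26_5 lc_b_rc_8_2) (@D3.rec (fun _ => (Cert rels S Gen.b)) lc_b_rc_6_1 lc_b_rc_26_1 lc_b_rc_25_0 lc_b_rc_10_0 lc_b_rc_1_1 lc_b_rc_10_2 lc_b_rc_8_2 lc_b_rc_6_1 lc_b_rc_26_1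 lc_b_rc_9_2 lc_b_rc_8_2 lc_b_rc_9_2 lc_b_rc_1_3 lc_b_rc_8_2 lc_b_rc_8_0 lc_b_rc_26_5 lc_b_rc_1_5 lc_b_rc_6_1 lc_b_rc_6_1 lc_b_rc_26_5 lc_b_rc_8_2 lc_b_rc_9_2 lc_b_Cert_tree lc_b_Cert_tree lc_b_rc_6_1 lc_b_rc_6_1 lc_b_Cert_tree lc_b_rc_9_2 lc_b_rc_6_1 lc_b_rc_9_0 lc_b_rc_9_2 lc_b_Cert_tree lc_b_rc_7_0 lc_b_rc_26_5 lc_b_rc_10_2 lc_b_Cert_tree lc_b_rc_6_1 lc_b_rc_8_2 lc_b_rc_9_2 lc_b_rc_6_1 lc_b_rc_10_2 lc_b_rc_10_2 lc_b_rc_9_2 lc_b_rc_8_0 lc_b_Cert_tree lc_b_rc_9_2 lc_b_rc_6_1 lc_b_rc_8_2 lc_b_Cert_tree lc_b_rc_25_16 lc_b_rc_10_2 lc_b_rc_8_2 lc_b_rc_9_2 lc_b_rc_6_1 lc_b_rc_9_2 lc_b_Cert_tree lc_b_rc_10_2 lc_b_rc_6_1 lc_b_rc_9_2 lc_b_rc_6_1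 lc_b_rc_9_2 lc_b_Cert_tree) (@D3.rec (fun _ => (Cert rels S Gen.b)) lc_b_Cert_tree lc_b_rc_8_0 lc_b_rc_8_2 lc_b_rc_9_2 lc_b_rc_6_1 lc_b_rc_8_2 lc_b_Cert_tree lc_b_rc_10_2 lc_b_Cert_tree lc_b_rc_9_2 lc_b_rc_1_3 lc_b_rc_6_1 lc_b_rc_10_0 lc_b_rc_6_1 lc_b_rc_7_0 lc_b_rc_10_2 lc_b_rc_1_3 lc_b_rc_1_1 lc_b_rc_8_2 lc_b_rc_6_1 lc_b_rc_1_5 lc_b_rc_8_2 lc_b_rc_9_2 lc_b_rc_6_1 lc_b_rc_9_2 lc_b_rc_1_5 lc_b_rc_9_0 lc_b_rc_6_1 lc_b_rc_25_4 lc_b_rc_6_1 lc_b_rc_6_1 lc_b_rc_6_1 lc_b_rc_8_2 lc_b_rc_1_5 lc_b_rc_9_2 lc_b_rc_6_1 lc_b_rc_9_2 lc_b_rc_7_0 lc_b_rc_1_5 lc_b_rc_6_1 lc_b_rc_9_0 lc_b_rc_1_1 lc_b_rc_9_2 lc_b_rc_8_2 lc_b_rc_7_4 lc_b_rc_6_1 lc_b_rc_8_2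 lc_b_rc_6_1 lc_b_rc_26_1 lc_b_rc_9_2 lc_b_rc_7_0 lc_b_rc_26_5 lc_b_Cert_tree lc_b_rc_8_0 lc_b_rc_8_2 lc_b_rc_26_5 lc_b_rc_8_2 lc_b_rc_6_1 lc_b_rc_7_4 lc_b_rc_8_2 lc_b_Cert_tree lc_b_rc_8_2) (@D3.rec (fun _ => (Cert rels S Gen.b)) lc_b_rc_1_3 lc_b_rc_1_3 lc_b_rc_6_1 lc_b_rc_8_2 lc_b_Cert_tree lc_b_rc_26_1 lc_b_rc_6_1 lc_b_rc_26_5 lc_b_rc_7_2 lc_b_rc_9_2 lc_b_rc_6_1 lc_b_rc_6_1 lc_b_Cert_tree lc_b_rc_10_2 lc_b_rc_9_2 lc_b_rc_6_1 lc_b_rc_6_1 lc_b_rc_1_3 lc_b_rc_8_2 lc_b_rc_6_1 lc_b_rc_6_1 lc_b_rc_1_5 lc_b_rc_26_5 lc_b_rc_8_2 lc_b_rc_6_1 lc_b_rc_9_2 lc_b_rc_25_4 lc_b_Cert_tree lc_b_rc_10_2 lc_b_rc_6_1 lc_b_rc_26_1 lc_b_rc_8_2 lc_b_rc_1_1 lc_b_rc_26_5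 lc_b_rc_9_2 lc_b_rc_6_1 lc_b_Cert_tree lc_b_rc_9_2 lc_b_Cert_tree lc_b_rc_10_0 lc_b_Cert_tree lc_b_rc_7_4 lc_b_rc_10_2 lc_b_Cert_tree lc_b_rc_8_0 lc_b_rc_8_2 lc_b_rc_8_0 lc_b_rc_10_2 lc_b_rc_8_2 lc_b_rc_9_2 lc_b_rc_8_2 lc_b_rc_6_1 lc_b_rc_9_2 lc_b_rc_26_7 lc_b_Cert_tree lc_b_rc_6_1 lc_b_rc_10_2 lc_b_rc_6_1 lc_b_rc_1_3 lc_b_rc_10_2 lc_b_rc_8_2 lc_b_rc_9_0) (@D3.rec (fun _ => (Cert rels S Gen.b)) lc_b_rc_9_0 lc_b_rc_6_1 lc_b_rc_6_1 lc_b_rc_10_2 lc_b_rc_6_1 lc_b_rc_8_2 lc_b_rc_6_1 lc_b_rc_8_0 lc_b_rc_1_3 lc_b_rc_7_4 lc_b_rc_9_2 lc_b_Cert_tree lc_b_rc_9_0 lc_b_rc_26_7 lc_b_rc_1_3 lc_b_rc_6_1 lc_b_rc_9_2 lc_b_rc_26_5 lc_b_rc_8_2 lc_b_rc_8_0 lc_b_rc_6_1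 lc_b_rc_26_1 lc_b_rc_9_2 lc_b_rc_6_1 lc_b_rc_10_2 lc_b_rc_8_2 lc_b_rc_6_1 lc_b_rc_9_0 lc_b_rc_6_1 lc_b_rc_7_4 lc_b_rc_6_1 lc_b_rc_6_1 lc_b_rc_8_2 lc_b_rc_10_2 lc_b_rc_6_1 lc_b_rc_9_2 lc_b_rc_8_2 lc_b_rc_9_2 lc_b_rc_8_2 lc_b_rc_8_2 lc_b_rc_6_1 lc_b_rc_6_1 lc_b_rc_9_2 lc_b_rc_6_1 lc_b_rc_26_7 lc_b_rc_26_1 lc_b_rc_8_2 lc_b_rc_7_4 lc_b_rc_26_5 lc_b_rc_10_2 lc_b_rc_9_2 lc_b_rc_6_1 lc_b_rc_7_4 lc_b_Cert_tree lc_b_rc_25_4 lc_b_rc_10_2 lc_b_rc_26_5 lc_b_rc_8_2 lc_b_Cert_tree lc_b_rc_26_7 lc_b_Cert_tree lc_b_rc_9_2) (@D3.rec (fun _ => (Cert rels S Gen.b)) lc_b_rc_6_1 lc_b_rc_9_2 lc_b_rc_9_0 lc_b_rc_8_2 lc_b_rc_8_2 lc_b_rc_26_7 lc_b_rc_8_2 lc_b_rc_6_1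 lc_b_rc_6_1 lc_b_rc_10_2 lc_b_rc_9_2 lc_b_rc_6_1 lc_b_rc_7_2 lc_b_Cert_tree lc_b_rc_6_1 lc_b_rc_10_2 lc_b_rc_6_1 lc_b_rc_25_8 lc_b_rc_9_2 lc_b_rc_6_1 lc_b_rc_26_5 lc_b_rc_9_2 lc_b_Cert_tree lc_b_rc_25_4 lc_b_rc_9_2 lc_b_rc_9_2 lc_b_Cert_tree lc_b_rc_10_2 lc_b_rc_8_2 lc_b_rc_9_2 lc_b_rc_6_1 lc_b_rc_9_2 lc_b_Cert_tree lc_b_rc_26_5 lc_b_rc_1_5 lc_b_rc_1_3 lc_b_rc_8_0 lc_b_rc_9_2 lc_b_rc_9_2 lc_b_rc_6_1 lc_b_rc_9_2 lc_b_rc_6_1 lc_b_rc_6_1 lc_b_rc_8_2 lc_b_rc_1_3 lc_b_rc_8_2 lc_b_rc_9_2 lc_b_rc_9_2 lc_b_rc_9_0 lc_b_rc_6_1 lc_b_rc_6_1 lc_b_Cert_tree lc_b_rc_9_2 lc_b_rc_1_3 lc_b_rc_8_0 lc_b_Cert_tree lc_b_rc_10_2 lc_b_rc_8_2 lc_b_rc_1_3 lc_b_rc_6_1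 lc_b_rc_9_0 lc_b_rc_10_2) (@D3.rec (fun _ => (Cert rels S Gen.b)) lc_b_rc_26_5 lc_b_rc_9_2 lc_b_rc_8_2 lc_b_rc_8_2 lc_b_rc_8_2 lc_b_rc_8_2 lc_b_rc_6_1 lc_b_rc_9_2 lc_b_rc_6_1 lc_b_rc_6_1 lc_b_Cert_tree lc_b_Cert_tree lc_b_rc_10_2 lc_b_rc_6_1 lc_b_rc_26_5 lc_b_rc_8_2 lc_b_rc_26_5 lc_b_rc_8_0 lc_b_Cert_tree lc_b_rc_9_2 lc_b_rc_8_2 lc_b_rc_6_1 lc_b_Cert_tree lc_b_Cert_tree lc_b_rc_10_2 lc_b_rc_6_1 lc_b_rc_1_1 lc_b_rc_9_2 lc_b_rc_8_2 lc_b_rc_8_2 lc_b_Cert_tree lc_b_rc_26_5 lc_b_Cert_tree lc_b_rc_9_2 lc_b_rc_6_1 lc_b_rc_25_8 lc_b_rc_9_2 lc_b_Cert_tree lc_b_rc_10_2 lc_b_rc_6_1 lc_b_rc_6_1 lc_b_rc_9_2 lc_b_rc_1_5 lc_b_rc_9_2 lc_b_rc_10_2 lc_b_rc_1_3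 lc_b_rc_9_2 lc_b_rc_6_1 lc_b_Cert_tree lc_b_rc_10_2 lc_b_rc_8_2 lc_b_rc_10_2 lc_b_rc_1_3 lc_b_rc_8_2 lc_b_Cert_tree lc_b_rc_10_2 lc_b_rc_6_1 lc_b_rc_6_1 lc_b_rc_9_2 lc_b_rc_6_1 lc_b_rc_6_1 lc_b_rc_8_0) (@D3.rec (fun _ => (Cert rels S Gen.b)) lc_b_rc_8_2 lc_b_rc_8_0 lc_b_rc_6_1 lc_b_Cert_tree lc_b_rc_9_0 lc_b_rc_9_2 lc_b_rc_6_1 lc_b_rc_7_2 lc_b_rc_8_2 lc_b_rc_6_1 lc_b_rc_1_3 lc_b_rc_26_7 lc_b_rc_1_3 lc_b_rc_6_1 lc_b_rc_6_1 lc_b_rc_1_3 lc_b_rc_8_2 lc_b_rc_8_2 lc_b_rc_1_3 lc_b_rc_8_2 lc_b_rc_1_3 lc_b_rc_26_1 lc_b_Cert_tree lc_b_rc_6_1 lc_b_rc_7_2 lc_b_rc_9_2 lc_b_rc_8_2 lc_b_rc_7_4 lc_b_rc_9_2 lc_b_rc_9_0 lc_b_Cert_tree lc_b_rc_8_2 lc_b_rc_6_1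 lc_b_rc_26_5 lc_b_rc_6_1 lc_b_rc_26_5 lc_b_rc_7_2 lc_b_rc_9_2 lc_b_rc_25_4 lc_b_Cert_tree lc_b_rc_7_2 lc_b_rc_6_1 lc_b_rc_8_2 lc_b_Cert_tree lc_b_rc_9_0 lc_b_rc_7_0 lc_b_rc_6_1 lc_b_rc_1_3 lc_b_rc_26_5 lc_b_rc_9_2 lc_b_rc_9_0 lc_b_rc_26_5 lc_b_rc_10_2 lc_b_rc_7_2 lc_b_rc_26_7 lc_b_rc_1_5 lc_b_rc_6_1 lc_b_rc_26_5 lc_b_rc_8_2 lc_b_rc_7_4 lc_b_rc_26_1 lc_b_rc_26_5) (@D3.rec (fun _ => (Cert rels S Gen.b)) lc_b_rc_26_5 lc_b_rc_26_5 lc_b_Cert_tree lc_b_rc_10_2 lc_b_rc_9_2 lc_b_rc_26_1 lc_b_rc_6_1 lc_b_rc_10_0 lc_b_rc_9_2 lc_b_rc_6_1 lc_b_rc_6_1 lc_b_rc_9_2 lc_b_rc_6_1 lc_b_rc_8_0 lc_b_rc_7_2 lc_b_rc_7_0 lc_b_rc_9_2 lc_b_rc_26_7 lc_b_rc_8_2 lc_b_rc_1_5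 lc_b_rc_9_0 lc_b_rc_9_2 lc_b_rc_6_1 lc_b_rc_7_2 lc_b_rc_1_5 lc_b_rc_6_1 lc_b_rc_9_2 lc_b_rc_1_5 lc_b_rc_6_1 lc_b_rc_8_2 lc_b_rc_1_5 lc_b_rc_6_1 lc_b_rc_1_5 lc_b_rc_6_1 lc_b_rc_6_1 lc_b_rc_10_0 lc_b_rc_9_2 lc_b_rc_26_5 lc_b_rc_8_2 lc_b_rc_9_0 lc_b_rc_6_1 lc_b_rc_6_1 lc_b_rc_7_4 lc_b_rc_8_0 lc_b_rc_9_0 lc_b_rc_10_2 lc_b_rc_8_2 lc_b_rc_8_2 lc_b_rc_6_1 lc_b_rc_8_2 lc_b_rc_6_1 lc_b_rc_26_1 lc_b_Cert_tree lc_b_rc_9_0 lc_b_rc_9_0 lc_b_rc_26_1 lc_b_rc_6_1 lc_b_rc_26_5 lc_b_rc_26_7 lc_b_rc_9_2 lc_b_rc_6_1 lc_b_rc_6_1) (@D3.rec (fun _ => (Cert rels S Gen.b)) lc_b_rc_9_0 lc_b_rc_9_2 lc_b_rc_8_2 lc_b_rc_6_1 lc_b_rc_10_2 lc_b_rc_6_1 lc_b_rc_8_2 lc_b_rc_6_1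 lc_b_rc_8_2 lc_b_rc_26_1 lc_b_rc_9_2 lc_b_rc_1_5 lc_b_rc_9_2 lc_b_rc_1_1 lc_b_rc_6_1 lc_b_rc_7_0 lc_b_rc_26_5 lc_b_rc_6_1 lc_b_rc_26_5 lc_b_rc_26_1 lc_b_rc_10_0 lc_b_rc_8_0 lc_b_rc_8_0 lc_b_rc_7_2 lc_b_rc_10_2 lc_b_rc_7_0 lc_b_rc_8_2 lc_b_rc_6_1 lc_b_rc_8_2 lc_b_rc_8_2 lc_b_rc_9_2 lc_b_rc_8_2 lc_b_rc_9_2 lc_b_rc_6_1 lc_b_rc_6_1 lc_b_rc_9_2 lc_b_rc_6_1 lc_b_rc_9_2 lc_b_rc_25_4 lc_b_rc_7_0 lc_b_rc_6_1 lc_b_rc_8_2 lc_b_Cert_tree lc_b_rc_9_2 lc_b_rc_26_7 lc_b_rc_9_2 lc_b_rc_26_1 lc_b_rc_26_5 lc_b_rc_1_3 lc_b_rc_26_1 lc_b_rc_9_2 lc_b_rc_7_2 lc_b_rc_26_1 lc_b_rc_9_0 lc_b_rc_9_2 lc_b_rc_6_1 lc_b_rc_8_2 lc_b_rc_6_1 lc_b_rc_8_2 lc_b_rc_9_0 lc_b_rc_9_2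 lc_b_rc_6_1) (@D3.rec (fun _ => (Cert rels S Gen.b)) lc_b_rc_10_2 lc_b_rc_26_7 lc_b_rc_10_2 lc_b_rc_9_2 lc_b_rc_7_4 lc_b_rc_9_0 lc_b_rc_10_2 lc_b_rc_8_2 lc_b_rc_7_2 lc_b_rc_9_2 lc_b_rc_6_1 lc_b_rc_10_2 lc_b_rc_7_0 lc_b_rc_8_2 lc_b_rc_25_0 lc_b_rc_6_1 lc_b_rc_25_0 lc_b_rc_6_1 lc_b_rc_9_2 lc_b_rc_9_2 lc_b_rc_8_2 lc_b_rc_9_0 lc_b_rc_10_0 lc_b_rc_8_2 lc_b_rc_8_2 lc_b_rc_6_1 lc_b_rc_7_4 lc_b_Cert_tree lc_b_Cert_tree lc_b_rc_9_2 lc_b_rc_10_2 lc_b_Cert_tree lc_b_Cert_tree lc_b_rc_6_1 lc_b_rc_9_2 lc_b_rc_1_5 lc_b_rc_8_2 lc_b_Cert_tree lc_b_rc_7_2 lc_b_rc_9_2 lc_b_rc_6_1 lc_b_rc_7_2 lc_b_Cert_tree lc_b_rc_9_0 lc_b_rc_10_2 lc_b_rc_6_1 lc_b_rc_8_2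 lc_b_rc_8_0 lc_b_rc_6_1 lc_b_rc_7_4 lc_b_rc_9_2 lc_b_rc_26_5 lc_b_rc_6_1 lc_b_rc_10_2 lc_b_rc_26_1 lc_b_rc_6_1 lc_b_rc_1_3 lc_b_rc_9_2 lc_b_rc_7_4 lc_b_rc_9_2 lc_b_rc_26_5 lc_b_rc_7_4) (@D3.rec (fun _ => (Cert rels S Gen.b)) lc_b_rc_10_2 lc_b_rc_6_1 lc_b_rc_8_2 lc_b_rc_7_2 lc_b_rc_6_1 lc_b_rc_25_4 lc_b_rc_26_5 lc_b_rc_26_1 lc_b_rc_26_1 lc_b_rc_8_2 lc_b_rc_8_2 lc_b_rc_9_2 lc_b_rc_26_5 lc_b_rc_6_1 lc_b_rc_8_2 lc_b_rc_9_2 lc_b_rc_6_1 lc_b_Cert_tree lc_b_rc_9_2 lc_b_Cert_tree lc_b_Cert_tree lc_b_rc_8_2 lc_b_rc_9_2 lc_b_Cert_tree lc_b_rc_9_0 lc_b_rc_10_2 lc_b_rc_6_1 lc_b_rc_9_0 lc_b_rc_8_0 lc_b_rc_6_1 lc_b_rc_8_2 lc_b_rc_26_5 lc_b_rc_9_2 lc_b_rc_6_1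 lc_b_rc_8_2 lc_b_rc_1_3 lc_b_rc_9_0 lc_b_rc_8_2 lc_b_rc_7_4 lc_b_Cert_tree lc_b_rc_8_2 lc_b_rc_9_2 lc_b_rc_6_1 lc_b_Cert_tree lc_b_rc_8_2 lc_b_rc_8_0 lc_b_Cert_tree lc_b_Cert_tree lc_b_rc_6_1 lc_b_rc_8_2 lc_b_rc_7_2 lc_b_Cert_tree lc_b_rc_9_2 lc_b_rc_9_2 lc_b_rc_8_2 lc_b_rc_8_2 lc_b_rc_8_2 lc_b_rc_9_2 lc_b_rc_8_2 lc_b_rc_8_2 lc_b_rc_8_0 lc_b_rc_9_2) (@D3.rec (fun _ => (Cert rels S Gen.b)) lc_b_rc_6_1 lc_b_rc_6_1 lc_b_rc_1_1 lc_b_Cert_tree lc_b_rc_6_1 lc_b_rc_1_3 lc_b_rc_8_0 lc_b_rc_10_2 lc_b_rc_10_0 lc_b_rc_26_5 lc_b_rc_9_2 lc_b_rc_6_1 lc_b_rc_26_7 lc_b_rc_8_2 lc_b_rc_10_2 lc_b_Cert_tree lc_b_rc_9_2 lc_b_rc_6_1 lc_b_rc_9_2 lc_b_rc_26_5 lc_b_rc_8_2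 lc_b_rc_6_1 lc_b_rc_26_5 lc_b_rc_8_2 lc_b_Cert_tree lc_b_rc_7_4 lc_b_rc_8_2 lc_b_rc_10_2 lc_b_rc_8_0 lc_b_rc_26_7 lc_b_rc_9_0 lc_b_rc_8_0 lc_b_rc_10_2 lc_b_rc_8_2 lc_b_rc_9_2 lc_b_rc_6_1 lc_b_rc_8_0 lc_b_rc_8_2 lc_b_rc_8_2 lc_b_rc_7_2 lc_b_Cert_tree lc_b_Cert_tree lc_b_rc_9_0 lc_b_rc_8_2 lc_b_rc_9_2 lc_b_rc_8_2 lc_b_rc_26_5 lc_b_rc_8_2 lc_b_rc_6_1 lc_b_rc_1_5 lc_b_rc_6_1 lc_b_rc_6_1 lc_b_Cert_tree lc_b_Cert_tree lc_b_rc_9_2 lc_b_Cert_tree lc_b_rc_9_2 lc_b_Cert_tree lc_b_Cert_tree lc_b_rc_6_1 lc_b_rc_8_2 lc_b_rc_1_5) (@D3.rec (fun _ => (Cert rels S Gen.b)) lc_b_rc_9_2 lc_b_rc_26_5 lc_b_rc_1_3 lc_b_rc_1_1 lc_b_rc_9_2 lc_b_rc_9_2 lc_b_rc_26_1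 lc_b_rc_6_1 lc_b_rc_8_2 lc_b_rc_7_2 lc_b_rc_8_2 lc_b_rc_8_2 lc_b_rc_9_0 lc_b_rc_1_1 lc_b_rc_8_2 lc_b_rc_9_2 lc_b_rc_26_7 lc_b_rc_8_2 lc_b_rc_9_2 lc_b_rc_6_1 lc_b_rc_8_2 lc_b_rc_9_2 lc_b_rc_10_2 lc_b_rc_9_0 lc_b_rc_6_1 lc_b_rc_8_2 lc_b_rc_10_2 lc_b_rc_8_2 lc_b_rc_9_2 lc_b_rc_6_1 lc_b_rc_9_2 lc_b_rc_6_1 lc_b_rc_6_1 lc_b_rc_9_2 lc_b_rc_7_0 lc_b_rc_26_5 lc_b_rc_1_5 lc_b_rc_10_2 lc_b_rc_6_1 lc_b_rc_6_1 lc_b_rc_8_0 lc_b_rc_6_1 lc_b_rc_10_2 lc_b_rc_1_3 lc_b_rc_10_2 lc_b_rc_25_0 lc_b_rc_26_5 lc_b_Cert_tree lc_b_Cert_tree lc_b_rc_25_8 lc_b_rc_6_1 lc_b_rc_9_2 lc_b_rc_8_2 lc_b_Cert_tree lc_b_rc_26_5 lc_b_rc_6_1 lc_b_rc_8_2 lc_b_rc_9_2 lc_b_rc_8_2 lc_b_rc_9_2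 lc_b_rc_6_1 lc_b_rc_8_2) (@D3.rec (fun _ => (Cert rels S Gen.b)) lc_b_rc_10_2 lc_b_rc_26_5 lc_b_rc_9_2 lc_b_rc_8_2 lc_b_rc_8_0 lc_b_rc_10_2 lc_b_rc_6_1 lc_b_rc_9_0 lc_b_rc_1_3 lc_b_rc_26_5 lc_b_rc_26_1 lc_b_Cert_tree lc_b_rc_10_2 lc_b_rc_7_4 lc_b_rc_9_2 lc_b_rc_7_4 lc_b_rc_9_2 lc_b_rc_6_1 lc_b_rc_6_1 lc_b_rc_1_5 lc_b_rc_9_2 lc_b_rc_7_2 lc_b_rc_9_2 lc_b_Cert_tree lc_b_rc_25_8 lc_b_rc_6_1 lc_b_rc_8_2 lc_b_rc_7_4 lc_b_rc_9_2 lc_b_rc_26_5 lc_b_rc_9_2 lc_b_rc_1_3 lc_b_rc_8_2 lc_b_Cert_tree lc_b_rc_9_2 lc_b_rc_6_1 lc_b_rc_7_4 lc_b_rc_10_2 lc_b_rc_10_2 lc_b_rc_25_8 lc_b_rc_6_1 lc_b_rc_8_2 lc_b_rc_10_0 lc_b_rc_8_0 lc_b_rc_6_1 lc_b_rc_10_2 lc_b_rc_6_1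 lc_b_rc_8_2 lc_b_rc_10_0 lc_b_rc_26_1 lc_b_rc_6_1 lc_b_rc_9_0 lc_b_rc_6_1 lc_b_rc_10_2 lc_b_rc_9_2 lc_b_rc_26_1 lc_b_rc_9_2 lc_b_rc_9_2 lc_b_rc_6_1 lc_b_Cert_tree lc_b_rc_9_2 lc_b_rc_7_2) (@D3.rec (fun _ => (Cert rels S Gen.b)) lc_b_rc_9_2 lc_b_rc_6_1 lc_b_rc_6_1 lc_b_rc_9_2 lc_b_rc_9_0 lc_b_rc_8_2 lc_b_rc_7_4 lc_b_rc_10_2 lc_b_Cert_tree lc_b_Cert_tree lc_b_rc_6_1 lc_b_rc_25_4 lc_b_rc_8_0 lc_b_rc_26_7 lc_b_Cert_tree lc_b_rc_8_2 lc_b_rc_10_2 lc_b_rc_7_4 lc_b_rc_26_1 lc_b_rc_7_2 lc_b_rc_9_2 lc_b_rc_8_0 lc_b_rc_10_2 lc_b_rc_6_1 lc_b_rc_8_0 lc_b_rc_9_2 lc_b_rc_9_2 lc_b_rc_6_1 lc_b_rc_26_7 lc_b_rc_1_3 lc_b_rc_8_2 lc_b_rc_9_2 lc_b_rc_7_4 lc_b_rc_9_0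 lc_b_rc_9_2 lc_b_rc_8_2 lc_b_rc_7_4 lc_b_rc_6_1 lc_b_rc_6_1 lc_b_rc_7_4 lc_b_Cert_tree lc_b_rc_9_2 lc_b_rc_8_2 lc_b_Cert_tree lc_b_rc_8_2 lc_b_Cert_tree lc_b_rc_9_2 lc_b_rc_6_1 lc_b_rc_9_2 lc_b_rc_8_2 lc_b_rc_8_2 lc_b_rc_8_2 lc_b_rc_6_1 lc_b_rc_6_1 lc_b_rc_6_1 lc_b_rc_8_2 lc_b_rc_9_2 lc_b_rc_9_2 lc_b_rc_9_2 lc_b_rc_26_7 lc_b_rc_8_2 lc_b_rc_10_2) (@D3.rec (fun _ => (Cert rels S Gen.b)) lc_b_Cert_tree lc_b_rc_8_2 lc_b_rc_6_1 lc_b_rc_26_5 lc_b_rc_26_1 lc_b_rc_9_2 lc_b_rc_8_2 lc_b_rc_9_0 lc_b_Cert_tree lc_b_rc_6_1 lc_b_rc_8_2 lc_b_rc_1_5 lc_b_rc_8_0 lc_b_rc_8_0 lc_b_rc_8_0 lc_b_rc_10_2 lc_b_rc_26_1 lc_b_rc_6_1 lc_b_rc_26_1 lc_b_rc_8_2 lc_b_rc_10_2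 lc_b_rc_6_1 lc_b_rc_26_7 lc_b_rc_7_0 lc_b_rc_26_1 lc_b_rc_9_2 lc_b_rc_9_2 lc_b_rc_26_7 lc_b_rc_1_3 lc_b_rc_7_0 lc_b_rc_10_0 lc_b_rc_6_1 lc_b_rc_6_1 lc_b_rc_10_2 lc_b_rc_9_2 lc_b_rc_9_2 lc_b_rc_6_1 lc_b_rc_6_1 lc_b_rc_1_5 lc_b_rc_9_0 lc_b_rc_25_16 lc_b_rc_9_2 lc_b_rc_9_2 lc_b_rc_10_2 lc_b_rc_1_3 lc_b_rc_9_0 lc_b_rc_7_2 lc_b_rc_9_2 lc_b_rc_1_5 lc_b_rc_10_2 lc_b_rc_26_5 lc_b_rc_10_2 lc_b_rc_7_4 lc_b_rc_9_2 lc_b_rc_9_0 lc_b_rc_26_1 lc_b_Cert_tree lc_b_rc_10_2 lc_b_rc_7_4 lc_b_rc_9_2 lc_b_rc_6_1 lc_b_rc_7_2) (@D3.rec (fun _ => (Cert rels S Gen.b)) lc_b_rc_6_1 lc_b_rc_9_2 lc_b_rc_8_0 lc_b_rc_9_0 lc_b_rc_8_0 lc_b_Cert_tree lc_b_rc_8_0 lc_b_rc_9_0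 lc_b_rc_6_1 lc_b_rc_6_1 lc_b_rc_8_2 lc_b_rc_9_2 lc_b_rc_9_2 lc_b_rc_6_1 lc_b_rc_6_1 lc_b_rc_10_0 lc_b_rc_8_2 lc_b_rc_8_2 lc_b_rc_8_2 lc_b_rc_26_1 lc_b_rc_9_2 lc_b_rc_6_1 lc_b_rc_9_0 lc_b_rc_8_2 lc_b_rc_8_2 lc_b_rc_9_2 lc_b_rc_9_2 lc_b_rc_8_2 lc_b_rc_9_0 lc_b_rc_9_2 lc_b_rc_6_1 lc_b_rc_1_5 lc_b_rc_25_4 lc_b_rc_10_0 lc_b_rc_26_7 lc_b_rc_10_2 lc_b_rc_1_1 lc_b_rc_25_8 lc_b_rc_6_1 lc_b_rc_26_7 lc_b_rc_7_4 lc_b_rc_10_2 lc_b_rc_6_1 lc_b_rc_8_2 lc_b_rc_9_2 lc_b_rc_6_1 lc_b_rc_9_0 lc_b_rc_8_2 lc_b_rc_8_2 lc_b_rc_26_7 lc_b_rc_10_0 lc_b_rc_7_2 lc_b_rc_6_1 lc_b_rc_8_0 lc_b_rc_9_2 lc_b_rc_9_2 lc_b_rc_6_1 lc_b_rc_6_1 lc_b_rc_1_5 lc_b_rc_1_1 lc_b_rc_9_2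 lc_b_rc_8_2) (@D3.rec (fun _ => (Cert rels S Gen.b)) lc_b_rc_10_2 lc_b_rc_6_1 lc_b_Cert_tree lc_b_rc_6_1 lc_b_rc_6_1 lc_b_rc_26_1 lc_b_rc_26_5 lc_b_rc_9_2 lc_b_rc_26_1 lc_b_rc_26_5 lc_b_Cert_tree lc_b_rc_8_2 lc_b_rc_6_1 lc_b_rc_6_1 lc_b_rc_1_3 lc_b_rc_6_1 lc_b_rc_8_2 lc_b_rc_26_7 lc_b_rc_7_4 lc_b_rc_8_2 lc_b_rc_8_2 lc_b_rc_8_2 lc_b_rc_8_2 lc_b_rc_6_1 lc_b_rc_6_1 lc_b_rc_6_1 lc_b_rc_9_2 lc_b_rc_6_1 lc_b_rc_26_1 lc_b_rc_8_2 lc_b_rc_6_1 lc_b_rc_10_2 lc_b_rc_26_1 lc_b_rc_6_1 lc_b_rc_8_2 lc_b_rc_1_1 lc_b_Cert_tree lc_b_rc_9_2 lc_b_rc_26_5 lc_b_rc_6_1 lc_b_Cert_tree lc_b_rc_9_2 lc_b_rc_9_0 lc_b_rc_7_0 lc_b_rc_9_2 lc_b_rc_6_1 lc_b_rc_10_2 lc_b_rc_10_2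 lc_b_rc_8_2 lc_b_rc_26_5 lc_b_rc_8_2 lc_b_rc_26_1 lc_b_rc_6_1 lc_b_rc_9_2 lc_b_rc_10_2 lc_b_rc_7_4 lc_b_rc_8_2 lc_b_rc_1_5 lc_b_rc_8_2 lc_b_rc_6_1 lc_b_rc_7_4 lc_b_rc_9_2) (@D3.rec (fun _ => (Cert rels S Gen.b)) lc_b_rc_9_2 lc_b_rc_6_1 lc_b_rc_26_5 lc_b_rc_26_1 lc_b_rc_1_3 lc_b_rc_26_1 lc_b_rc_8_2 lc_b_rc_6_1 lc_b_rc_10_2 lc_b_rc_1_3 lc_b_rc_26_5 lc_b_rc_1_3 lc_b_rc_10_2 lc_b_rc_9_0 lc_b_rc_10_2 lc_b_rc_1_3 lc_b_rc_6_1 lc_b_rc_9_2 lc_b_Cert_tree lc_b_rc_8_0 lc_b_rc_10_2 lc_b_rc_9_0 lc_b_rc_7_2 lc_b_rc_25_0 lc_b_Cert_tree lc_b_Cert_tree lc_b_rc_6_1 lc_b_rc_9_2 lc_b_rc_6_1 lc_b_rc_6_1 lc_b_rc_6_1 lc_b_rc_8_0 lc_b_rc_7_2 lc_b_rc_1_5 lc_b_rc_9_0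 lc_b_rc_6_1 lc_b_rc_6_1 lc_b_rc_8_2 lc_b_rc_8_2 lc_b_rc_25_4 lc_b_rc_8_2 lc_b_rc_9_0 lc_b_rc_9_2 lc_b_rc_7_4 lc_b_rc_6_1 lc_b_rc_6_1 lc_b_rc_9_2 lc_b_rc_26_7 lc_b_rc_7_2 lc_b_rc_8_2 lc_b_rc_9_2 lc_b_rc_6_1 lc_b_rc_1_1 lc_b_rc_9_2 lc_b_rc_6_1 lc_b_rc_6_1 lc_b_rc_9_2 lc_b_rc_6_1 lc_b_rc_1_1 lc_b_rc_1_3 lc_b_rc_1_5 lc_b_rc_6_1) (@D3.rec (fun _ => (Cert rels S Gen.b)) lc_b_rc_25_12 lc_b_rc_7_2 lc_b_Cert_tree lc_b_rc_7_0 lc_b_rc_8_2 lc_b_Cert_tree lc_b_rc_6_1 lc_b_rc_8_2 lc_b_rc_6_1 lc_b_rc_8_2 lc_b_rc_9_2 lc_b_Cert_tree lc_b_Cert_tree lc_b_Cert_tree lc_b_rc_8_2 lc_b_rc_6_1 lc_b_rc_9_2 lc_b_rc_9_2 lc_b_rc_6_1 lc_b_rc_8_2 lc_b_rc_26_1 lc_b_rc_7_2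 lc_b_rc_6_1 lc_b_rc_1_3 lc_b_rc_1_3 lc_b_rc_7_0 lc_b_rc_8_2 lc_b_rc_8_0 lc_b_rc_9_2 lc_b_rc_25_4 lc_b_rc_8_0 lc_b_rc_6_1 lc_b_rc_25_4 lc_b_rc_9_2 lc_b_rc_26_7 lc_b_rc_25_4 lc_b_rc_8_2 lc_b_rc_26_5 lc_b_rc_9_0 lc_b_rc_8_2 lc_b_rc_10_2 lc_b_rc_6_1 lc_b_rc_6_1 lc_b_rc_25_4 lc_b_Cert_tree lc_b_rc_6_1 lc_b_rc_8_2 lc_b_rc_25_0 lc_b_rc_26_5 lc_b_rc_10_2 lc_b_rc_8_2 lc_b_rc_10_0 lc_b_rc_10_2 lc_b_rc_6_1 lc_b_rc_8_2 lc_b_rc_6_1 lc_b_rc_25_12 lc_b_rc_7_0 lc_b_rc_1_1 lc_b_rc_7_2 lc_b_rc_9_2 lc_b_rc_9_2) (@D3.rec (fun _ => (Cert rels S Gen.b)) lc_b_rc_26_5 lc_b_rc_9_2 lc_b_rc_10_2 lc_b_rc_9_2 lc_b_rc_9_2 lc_b_rc_1_3 lc_b_rc_1_3 lc_b_rc_6_1 lc_b_rc_25_0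 lc_b_rc_10_2 lc_b_rc_6_1 lc_b_rc_26_5 lc_b_rc_26_7 lc_b_rc_9_2 lc_b_Cert_tree lc_b_rc_8_2 lc_b_rc_10_2 lc_b_rc_6_1 lc_b_Cert_tree lc_b_rc_10_2 lc_b_rc_6_1 lc_b_rc_6_1 lc_b_rc_8_2 lc_b_rc_9_2 lc_b_rc_26_5 lc_b_Cert_tree lc_b_Cert_tree lc_b_rc_10_2 lc_b_rc_6_1 lc_b_rc_8_2 lc_b_rc_8_0 lc_b_rc_10_2 lc_b_rc_9_2 lc_b_rc_8_2 lc_b_rc_1_3 lc_b_rc_7_2 lc_b_rc_9_2 lc_b_rc_26_7 lc_b_rc_8_0 lc_b_rc_8_0 lc_b_rc_10_2 lc_b_rc_6_1 lc_b_rc_9_2 lc_b_rc_7_4 lc_b_Cert_tree lc_b_rc_9_0 lc_b_rc_9_2 lc_b_rc_8_0 lc_b_rc_10_2 lc_b_rc_9_2 lc_b_rc_6_1 lc_b_rc_26_5 lc_b_rc_7_0 lc_b_rc_9_2 lc_b_rc_8_2 lc_b_rc_9_2 lc_b_rc_9_2 lc_b_rc_8_2 lc_b_rc_1_3 lc_b_rc_9_2 lc_b_rc_6_1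 lc_b_rc_7_4)
def ce_b_23 : D2 → D3 → (Cert rels S Gen.b) := @D2.rec (fun _ => D3 → (Cert rels S Gen.b)) (@D3.rec (fun _ => (Cert rels S Gen.b)) lc_b_rc_6_1 lc_b_rc_6_1 lc_b_Cert_tree lc_b_rc_10_2 lc_b_rc_6_1 lc_b_rc_26_5 lc_b_rc_9_2 lc_b_rc_8_0 lc_b_rc_10_2 lc_b_rc_6_1 lc_b_rc_7_2 lc_b_rc_9_2 lc_b_rc_6_1 lc_b_rc_9_2 lc_b_rc_1_1 lc_b_rc_9_2 lc_b_rc_9_2 lc_b_rc_6_1 lc_b_rc_1_3 lc_b_rc_6_1 lc_b_rc_8_2 lc_b_rc_9_2 lc_b_rc_6_1 lc_b_rc_7_0 lc_b_rc_26_5 lc_b_Cert_tree lc_b_rc_9_2 lc_b_rc_8_0 lc_b_rc_6_1 lc_b_rc_9_2 lc_b_rc_8_0 lc_b_rc_6_1 lc_b_rc_6_1 lc_b_rc_8_2 lc_b_rc_9_2 lc_b_rc_26_5 lc_b_rc_9_0 lc_b_rc_26_5 lc_b_rc_10_2 lc_b_rc_8_2 lc_b_rc_7_2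 lc_b_rc_6_1 lc_b_rc_9_2 lc_b_rc_9_2 lc_b_rc_6_1 lc_b_rc_9_2 lc_b_rc_9_2 lc_b_rc_9_2 lc_b_rc_10_2 lc_b_rc_1_3 lc_b_rc_9_2 lc_b_rc_9_2 lc_b_rc_1_5 lc_b_rc_10_2 lc_b_rc_6_1 lc_b_rc_6_1 lc_b_rc_26_5 lc_b_rc_6_1 lc_b_rc_8_2 lc_b_rc_9_2 lc_b_rc_1_3 lc_b_rc_26_5) (@D3.rec (fun _ => (Cert rels S Gen.b)) lc_b_rc_26_5 lc_b_rc_8_2 lc_b_rc_9_2 lc_b_rc_8_2 lc_b_rc_7_4 lc_b_rc_7_4 lc_b_rc_6_1 lc_b_rc_10_2 lc_b_rc_9_2 lc_b_rc_9_2 lc_b_rc_9_2 lc_b_Cert_tree lc_b_rc_9_2 lc_b_rc_6_1 lc_b_rc_9_2 lc_b_rc_8_2 lc_b_rc_6_1 lc_b_rc_8_0 lc_b_Cert_tree lc_b_rc_1_3 lc_b_rc_7_2 lc_b_rc_9_2 lc_b_rc_9_2 lc_b_rc_6_1 lc_b_rc_10_2 lc_b_rc_7_0 lc_b_rc_6_1 lc_b_rc_8_0 lc_b_rc_10_2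 lc_b_rc_6_1 lc_b_rc_6_1 lc_b_rc_9_2 lc_b_rc_26_5 lc_b_rc_10_2 lc_b_rc_8_2 lc_b_rc_1_5 lc_b_Cert_tree lc_b_rc_6_1 lc_b_rc_8_2 lc_b_rc_6_1 lc_b_rc_7_4 lc_b_rc_10_2 lc_b_rc_9_2 lc_b_rc_10_2 lc_b_rc_1_3 lc_b_rc_6_1 lc_b_rc_25_12 lc_b_rc_6_1 lc_b_rc_10_2 lc_b_rc_1_5 lc_b_rc_10_2 lc_b_rc_6_1 lc_b_rc_7_4 lc_b_rc_1_3 lc_b_rc_6_1 lc_b_rc_9_2 lc_b_rc_7_4 lc_b_rc_26_1 lc_b_rc_26_1 lc_b_rc_7_4 lc_b_rc_9_2 lc_b_rc_8_2) (@D3.rec (fun _ => (Cert rels S Gen.b)) lc_b_Cert_tree lc_b_rc_10_2 lc_b_rc_9_0 lc_b_rc_8_2 lc_b_rc_26_1 lc_b_rc_9_0 lc_b_rc_9_2 lc_b_rc_6_1 lc_b_Cert_tree lc_b_rc_26_5 lc_b_rc_8_2 lc_b_rc_6_1 lc_b_rc_8_0 lc_b_rc_26_7 lc_b_rc_7_2 lc_b_rc_26_7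 lc_b_rc_9_2 lc_b_rc_9_2 lc_b_rc_7_0 lc_b_rc_25_0 lc_b_rc_10_2 lc_b_rc_7_4 lc_b_rc_8_2 lc_b_rc_7_0 lc_b_rc_25_4 lc_b_rc_9_2 lc_b_Cert_tree lc_b_rc_26_7 lc_b_rc_6_1 lc_b_rc_25_0 lc_b_rc_1_3 lc_b_rc_7_2 lc_b_rc_9_2 lc_b_rc_9_0 lc_b_rc_7_0 lc_b_rc_8_2 lc_b_rc_1_5 lc_b_rc_7_0 lc_b_rc_8_2 lc_b_rc_25_16 lc_b_rc_9_2 lc_b_rc_6_1 lc_b_rc_26_1 lc_b_rc_26_1 lc_b_Cert_tree lc_b_rc_6_1 lc_b_rc_8_2 lc_b_rc_7_0 lc_b_rc_26_5 lc_b_rc_7_0 lc_b_rc_6_1 lc_b_rc_1_3 lc_b_rc_26_5 lc_b_rc_1_5 lc_b_rc_8_2 lc_b_rc_8_2 lc_b_rc_6_1 lc_b_rc_6_1 lc_b_rc_1_3 lc_b_rc_6_1 lc_b_rc_6_1 lc_b_rc_9_0) (@D3.rec (fun _ => (Cert rels S Gen.b)) lc_b_rc_26_5 lc_b_rc_8_2 lc_b_rc_9_2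 lc_b_rc_7_4 lc_b_rc_7_4 lc_b_rc_8_2 lc_b_rc_10_2 lc_b_rc_9_0 lc_b_rc_9_0 lc_b_rc_7_0 lc_b_rc_6_1 lc_b_rc_7_2 lc_b_rc_8_2 lc_b_rc_8_2 lc_b_rc_6_1 lc_b_rc_8_2 lc_b_rc_10_2 lc_b_rc_8_2 lc_b_rc_9_2 lc_b_rc_6_1 lc_b_rc_8_2 lc_b_rc_6_1 lc_b_rc_8_2 lc_b_rc_10_2 lc_b_rc_7_4 lc_b_rc_10_0 lc_b_rc_8_2 lc_b_rc_9_2 lc_b_rc_8_2 lc_b_rc_9_2 lc_b_rc_9_2 lc_b_rc_6_1 lc_b_rc_9_2 lc_b_rc_26_7 lc_b_rc_8_2 lc_b_rc_10_2 lc_b_rc_9_2 lc_b_rc_7_2 lc_b_rc_9_2 lc_b_rc_7_0 lc_b_rc_9_2 lc_b_rc_6_1 lc_b_rc_9_2 lc_b_rc_6_1 lc_b_rc_6_1 lc_b_rc_6_1 lc_b_rc_10_0 lc_b_rc_1_1 lc_b_rc_9_2 lc_b_rc_26_5 lc_b_rc_25_8 lc_b_rc_26_5 lc_b_rc_7_4 lc_b_rc_26_5 lc_b_rc_9_2 lc_b_rc_9_0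 lc_b_rc_6_1 lc_b_rc_26_7 lc_b_rc_26_5 lc_b_rc_6_1 lc_b_rc_8_0 lc_b_rc_9_2) (@D3.rec (fun _ => (Cert rels S Gen.b)) lc_b_rc_6_1 lc_b_rc_1_1 lc_b_rc_6_1 lc_b_rc_10_2 lc_b_rc_10_0 lc_b_rc_8_2 lc_b_rc_8_2 lc_b_rc_8_2 lc_b_rc_8_2 lc_b_rc_9_2 lc_b_rc_26_5 lc_b_rc_26_7 lc_b_rc_6_1 lc_b_rc_26_7 lc_b_rc_9_2 lc_b_rc_10_2 lc_b_rc_6_1 lc_b_rc_6_1 lc_b_rc_1_3 lc_b_rc_10_2 lc_b_rc_9_2 lc_b_rc_6_1 lc_b_rc_10_2 lc_b_rc_26_5 lc_b_rc_9_2 lc_b_rc_10_0 lc_b_rc_9_2 lc_b_rc_25_12 lc_b_rc_7_2 lc_b_rc_8_2 lc_b_rc_9_2 lc_b_Cert_tree lc_b_rc_9_2 lc_b_rc_10_2 lc_b_rc_6_1 lc_b_rc_8_2 lc_b_rc_6_1 lc_b_rc_8_2 lc_b_rc_26_5 lc_b_rc_8_2 lc_b_rc_1_3 lc_b_rc_8_2 lc_b_rc_8_2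 lc_b_rc_6_1 lc_b_rc_9_0 lc_b_rc_8_2 lc_b_Cert_tree lc_b_Cert_tree lc_b_rc_6_1 lc_b_rc_6_1 lc_b_rc_6_1 lc_b_rc_6_1 lc_b_rc_9_2 lc_b_rc_6_1 lc_b_rc_6_1 lc_b_rc_26_5 lc_b_rc_1_5 lc_b_rc_9_2 lc_b_rc_9_2 lc_b_rc_6_1 lc_b_rc_9_2 lc_b_rc_9_2) (@D3.rec (fun _ => (Cert rels S Gen.b)) lc_b_rc_9_2 lc_b_rc_8_2 lc_b_rc_7_4 lc_b_rc_10_0 lc_b_rc_1_1 lc_b_rc_1_5 lc_b_rc_6_1 lc_b_rc_9_2 lc_b_rc_26_5 lc_b_rc_25_0 lc_b_rc_9_2 lc_b_rc_9_2 lc_b_rc_9_2 lc_b_rc_8_2 lc_b_rc_8_2 lc_b_rc_6_1 lc_b_rc_9_2 lc_b_rc_8_0 lc_b_rc_6_1 lc_b_rc_1_3 lc_b_rc_8_2 lc_b_rc_10_2 lc_b_rc_6_1 lc_b_rc_7_4 lc_b_rc_6_1 lc_b_Cert_tree lc_b_rc_9_2 lc_b_rc_9_2 lc_b_rc_9_2 lc_b_rc_9_2 lc_b_rc_6_1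 lc_b_rc_6_1 lc_b_rc_10_2 lc_b_rc_6_1 lc_b_rc_7_4 lc_b_rc_10_2 lc_b_rc_9_0 lc_b_rc_26_7 lc_b_rc_1_5 lc_b_rc_1_3 lc_b_rc_6_1 lc_b_rc_26_5 lc_b_rc_6_1 lc_b_Cert_tree lc_b_rc_6_1 lc_b_rc_9_2 lc_b_rc_9_2 lc_b_rc_7_2 lc_b_rc_9_2 lc_b_rc_8_2 lc_b_rc_8_2 lc_b_rc_10_2 lc_b_rc_6_1 lc_b_rc_9_2 lc_b_rc_25_0 lc_b_rc_8_2 lc_b_rc_10_2 lc_b_rc_6_1 lc_b_rc_9_0 lc_b_rc_6_1 lc_b_rc_9_2 lc_b_rc_26_7) (@D3.rec (fun _ => (Cert rels S Gen.b)) lc_b_rc_7_0 lc_b_rc_6_1 lc_b_rc_9_2 lc_b_rc_9_2 lc_b_rc_1_3 lc_b_rc_6_1 lc_b_rc_26_7 lc_b_rc_10_2 lc_b_rc_1_5 lc_b_rc_8_0 lc_b_rc_8_2 lc_b_rc_6_1 lc_b_rc_8_2 lc_b_rc_9_2 lc_b_rc_8_2 lc_b_rc_8_2 lc_b_rc_26_1 lc_b_rc_8_2 lc_b_rc_10_2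 lc_b_rc_8_2 lc_b_rc_8_2 lc_b_rc_1_1 lc_b_rc_8_2 lc_b_rc_9_2 lc_b_rc_1_5 lc_b_rc_6_1 lc_b_rc_10_2 lc_b_rc_10_0 lc_b_rc_9_2 lc_b_rc_1_1 lc_b_Cert_tree lc_b_rc_9_2 lc_b_rc_6_1 lc_b_rc_8_2 lc_b_rc_7_4 lc_b_rc_6_1 lc_b_rc_7_4 lc_b_rc_26_5 lc_b_rc_8_2 lc_b_rc_8_2 lc_b_rc_8_2 lc_b_rc_8_2 lc_b_rc_7_2 lc_b_rc_9_2 lc_b_rc_6_1 lc_b_rc_7_2 lc_b_rc_6_1 lc_b_rc_10_2 lc_b_rc_8_0 lc_b_rc_1_3 lc_b_rc_10_2 lc_b_rc_26_5 lc_b_rc_9_2 lc_b_rc_26_1 lc_b_rc_8_0 lc_b_rc_10_2 lc_b_rc_1_5 lc_b_rc_6_1 lc_b_rc_25_16 lc_b_rc_26_5 lc_b_rc_9_2 lc_b_rc_8_0) (@D3.rec (fun _ => (Cert rels S Gen.b)) lc_b_rc_8_2 lc_b_Cert_tree lc_b_rc_9_2 lc_b_rc_1_5 lc_b_rc_8_2 lc_b_rc_8_2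 lc_b_rc_6_1 lc_b_rc_25_8 lc_b_rc_9_2 lc_b_rc_7_0 lc_b_Cert_tree lc_b_rc_9_2 lc_b_rc_6_1 lc_b_rc_25_4 lc_b_rc_9_2 lc_b_rc_9_0 lc_b_rc_10_2 lc_b_rc_8_0 lc_b_rc_26_1 lc_b_rc_10_2 lc_b_rc_25_8 lc_b_rc_1_3 lc_b_rc_9_2 lc_b_rc_8_0 lc_b_rc_26_1 lc_b_rc_6_1 lc_b_rc_10_2 lc_b_rc_7_2 lc_b_rc_9_2 lc_b_Cert_tree lc_b_rc_6_1 lc_b_rc_1_3 lc_b_rc_8_2 lc_b_rc_10_2 lc_b_rc_1_1 lc_b_rc_6_1 lc_b_rc_26_1 lc_b_rc_9_2 lc_b_rc_9_2 lc_b_rc_6_1 lc_b_Cert_tree lc_b_rc_9_2 lc_b_rc_10_0 lc_b_rc_8_2 lc_b_rc_9_2 lc_b_rc_6_1 lc_b_rc_9_2 lc_b_rc_9_2 lc_b_rc_10_2 lc_b_rc_8_0 lc_b_rc_6_1 lc_b_rc_8_2 lc_b_rc_10_2 lc_b_rc_6_1 lc_b_rc_10_2 lc_b_rc_7_2 lc_b_rc_7_4 lc_b_rc_7_4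 lc_b_rc_8_0 lc_b_rc_8_0 lc_b_rc_10_2 lc_b_rc_6_1) (@D3.rec (fun _ => (Cert rels S Gen.b)) lc_b_rc_7_0 lc_b_rc_7_2 lc_b_rc_26_5 lc_b_rc_8_2 lc_b_rc_9_0 lc_b_rc_9_2 lc_b_rc_8_2 lc_b_rc_1_1 lc_b_rc_26_1 lc_b_rc_26_1 lc_b_rc_10_2 lc_b_rc_9_0 lc_b_rc_6_1 lc_b_rc_7_4 lc_b_Cert_tree lc_b_rc_6_1 lc_b_rc_6_1 lc_b_rc_6_1 lc_b_rc_7_2 lc_b_rc_6_1 lc_b_rc_9_2 lc_b_rc_1_3 lc_b_rc_26_1 lc_b_Cert_tree lc_b_rc_9_0 lc_b_rc_26_5 lc_b_rc_25_12 lc_b_rc_6_1 lc_b_rc_26_7 lc_b_rc_26_5 lc_b_rc_10_2 lc_b_Cert_tree lc_b_rc_9_2 lc_b_rc_8_2 lc_b_rc_6_1 lc_b_Cert_tree lc_b_rc_9_2 lc_b_rc_6_1 lc_b_rc_7_4 lc_b_rc_9_2 lc_b_rc_9_0 lc_b_rc_8_2 lc_b_rc_6_1 lc_b_rc_6_1 lc_b_rc_25_16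 lc_b_Cert_tree lc_b_rc_9_2 lc_b_rc_26_5 lc_b_rc_9_2 lc_b_rc_9_2 lc_b_rc_25_8 lc_b_rc_26_7 lc_b_rc_8_2 lc_b_Cert_tree lc_b_rc_6_1 lc_b_rc_9_2 lc_b_rc_6_1 lc_b_rc_9_2 lc_b_rc_9_0 lc_b_rc_10_2 lc_b_rc_6_1 lc_b_rc_10_2) (@D3.rec (fun _ => (Cert rels S Gen.b)) lc_b_rc_9_2 lc_b_rc_7_4 lc_b_rc_26_1 lc_b_rc_8_2 lc_b_rc_26_1 lc_b_rc_6_1 lc_b_rc_10_2 lc_b_rc_9_2 lc_b_rc_8_2 lc_b_rc_10_2 lc_b_rc_7_4 lc_b_rc_6_1 lc_b_rc_9_2 lc_b_rc_26_7 lc_b_rc_8_2 lc_b_rc_8_2 lc_b_rc_7_0 lc_b_rc_8_2 lc_b_rc_10_2 lc_b_rc_8_2 lc_b_rc_9_2 lc_b_rc_26_1 lc_b_rc_26_1 lc_b_rc_9_0 lc_b_rc_7_4 lc_b_rc_10_0 lc_b_rc_9_2 lc_b_rc_9_2 lc_b_rc_6_1 lc_b_Cert_tree lc_b_rc_8_2 lc_b_rc_6_1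 lc_b_rc_8_2 lc_b_rc_7_4 lc_b_rc_9_2 lc_b_rc_9_2 lc_b_rc_1_3 lc_b_rc_26_5 lc_b_rc_9_0 lc_b_rc_25_0 lc_b_rc_10_0 lc_b_rc_26_1 lc_b_rc_8_0 lc_b_rc_6_1 lc_b_rc_7_4 lc_b_rc_9_2 lc_b_rc_6_1 lc_b_rc_6_1 lc_b_rc_8_2 lc_b_rc_26_5 lc_b_rc_26_5 lc_b_rc_8_2 lc_b_rc_6_1 lc_b_rc_7_4 lc_b_rc_7_0 lc_b_rc_9_2 lc_b_rc_9_2 lc_b_rc_8_2 lc_b_rc_8_2 lc_b_rc_8_2 lc_b_rc_8_2 lc_b_rc_6_1) (@D3.rec (fun _ => (Cert rels S Gen.b)) lc_b_rc_8_2 lc_b_rc_6_1 lc_b_rc_7_4 lc_b_rc_7_0 lc_b_rc_26_7 lc_b_rc_9_2 lc_b_rc_6_1 lc_b_rc_9_2 lc_b_rc_8_0 lc_b_rc_26_7 lc_b_rc_10_2 lc_b_rc_26_7 lc_b_rc_9_2 lc_b_rc_6_1 lc_b_rc_7_2 lc_b_rc_9_2 lc_b_rc_6_1 lc_b_rc_7_2 lc_b_rc_26_7 lc_b_rc_9_2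 lc_b_rc_6_1 lc_b_rc_9_2 lc_b_rc_6_1 lc_b_rc_8_2 lc_b_rc_9_2 lc_b_rc_1_1 lc_b_rc_7_2 lc_b_rc_6_1 lc_b_rc_26_5 lc_b_rc_8_2 lc_b_rc_8_2 lc_b_rc_9_2 lc_b_rc_9_2 lc_b_rc_10_2 lc_b_rc_7_2 lc_b_rc_8_0 lc_b_rc_10_2 lc_b_rc_9_2 lc_b_rc_1_1 lc_b_rc_10_2 lc_b_rc_6_1 lc_b_rc_10_2 lc_b_rc_10_0 lc_b_rc_9_2 lc_b_rc_6_1 lc_b_rc_10_2 lc_b_rc_9_2 lc_b_rc_9_2 lc_b_rc_8_2 lc_b_rc_6_1 lc_b_rc_1_3 lc_b_rc_1_3 lc_b_rc_6_1 lc_b_rc_26_5 lc_b_rc_1_5 lc_b_rc_7_2 lc_b_rc_6_1 lc_b_rc_7_4 lc_b_rc_25_8 lc_b_rc_8_0 lc_b_rc_26_1 lc_b_rc_1_5) (@D3.rec (fun _ => (Cert rels S Gen.b)) lc_b_rc_6_1 lc_b_rc_26_5 lc_b_rc_1_3 lc_b_rc_6_1 lc_b_rc_1_3 lc_b_Cert_tree lc_b_rc_26_5 lc_b_rc_9_2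 lc_b_rc_9_2 lc_b_rc_9_2 lc_b_rc_26_1 lc_b_Cert_tree lc_b_rc_10_2 lc_b_rc_1_3 lc_b_rc_10_2 lc_b_rc_26_1 lc_b_rc_6_1 lc_b_rc_1_1 lc_b_rc_9_2 lc_b_rc_26_1 lc_b_rc_6_1 lc_b_rc_9_2 lc_b_rc_26_5 lc_b_rc_6_1 lc_b_rc_26_5 lc_b_rc_8_2 lc_b_rc_26_7 lc_b_rc_6_1 lc_b_rc_26_1 lc_b_rc_26_5 lc_b_rc_9_2 lc_b_rc_6_1 lc_b_rc_8_2 lc_b_rc_6_1 lc_b_rc_9_2 lc_b_rc_6_1 lc_b_rc_9_2 lc_b_rc_6_1 lc_b_rc_1_3 lc_b_rc_1_1 lc_b_rc_6_1 lc_b_rc_25_4 lc_b_rc_9_2 lc_b_rc_26_5 lc_b_Cert_tree lc_b_rc_6_1 lc_b_rc_8_2 lc_b_rc_9_2 lc_b_rc_7_0 lc_b_rc_10_2 lc_b_rc_1_5 lc_b_rc_8_2 lc_b_rc_1_5 lc_b_rc_9_0 lc_b_rc_6_1 lc_b_rc_1_3 lc_b_rc_9_2 lc_b_rc_26_5 lc_b_Cert_tree lc_b_rc_6_1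 lc_b_rc_1_5 lc_b_rc_1_5) (@D3.rec (fun _ => (Cert rels S Gen.b)) lc_b_rc_6_1 lc_b_Cert_tree lc_b_rc_6_1 lc_b_rc_9_2 lc_b_rc_1_5 lc_b_rc_10_2 lc_b_rc_1_3 lc_b_rc_8_0 lc_b_rc_8_0 lc_b_rc_6_1 lc_b_rc_8_2 lc_b_rc_1_5 lc_b_rc_9_2 lc_b_rc_8_0 lc_b_rc_8_2 lc_b_rc_6_1 lc_b_rc_6_1 lc_b_rc_9_2 lc_b_rc_9_0 lc_b_Cert_tree lc_b_rc_10_2 lc_b_rc_6_1 lc_b_rc_9_2 lc_b_rc_8_2 lc_b_rc_6_1 lc_b_rc_6_1 lc_b_rc_8_0 lc_b_Cert_tree lc_b_rc_9_2 lc_b_rc_6_1 lc_b_rc_8_2 lc_b_rc_10_0 lc_b_rc_9_2 lc_b_rc_6_1 lc_b_rc_8_0 lc_b_rc_9_0 lc_b_rc_7_2 lc_b_rc_8_2 lc_b_rc_9_2 lc_b_rc_9_2 lc_b_rc_26_7 lc_b_rc_7_0 lc_b_rc_9_0 lc_b_rc_6_1 lc_b_rc_10_2 lc_b_rc_9_0 lc_b_Cert_tree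 lc_b_rc_6_1 lc_b_rc_9_0 lc_b_rc_6_1 lc_b_rc_9_2 lc_b_rc_1_5 lc_b_rc_26_5 lc_b_rc_9_2 lc_b_rc_6_1 lc_b_rc_26_5 lc_b_rc_1_1 lc_b_rc_10_2 lc_b_rc_8_2 lc_b_rc_26_7 lc_b_rc_1_5 lc_b_Cert_tree) (@D3.rec (fun _ => (Cert rels S Gen.b)) lc_b_rc_26_1 lc_b_rc_9_2 lc_b_rc_9_0 lc_b_rc_9_0 lc_b_rc_8_2 lc_b_rc_10_2 lc_b_rc_7_0 lc_b_rc_8_2 lc_b_rc_1_1 lc_b_rc_25_4 lc_b_rc_6_1 lc_b_rc_6_1 lc_b_rc_8_2 lc_b_rc_6_1 lc_b_rc_25_0 lc_b_rc_8_2 lc_b_rc_9_2 lc_b_rc_6_1 lc_b_Cert_tree lc_b_rc_6_1 lc_b_rc_25_8 lc_b_rc_10_2 lc_b_rc_6_1 lc_b_rc_9_2 lc_b_rc_1_3 lc_b_rc_6_1 lc_b_rc_10_2 lc_b_rc_9_0 lc_b_rc_10_2 lc_b_rc_6_1 lc_b_rc_7_4 lc_b_Cert_tree lc_b_rc_7_2 lc_b_rc_6_1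 lc_b_rc_8_2 lc_b_rc_6_1 lc_b_rc_8_2 lc_b_rc_9_2 lc_b_rc_8_2 lc_b_rc_25_8 lc_b_rc_10_2 lc_b_rc_8_2 lc_b_rc_9_2 lc_b_rc_8_2 lc_b_rc_9_2 lc_b_rc_25_8 lc_b_rc_9_2 lc_b_rc_8_2 lc_b_rc_9_2 lc_b_rc_8_2 lc_b_rc_9_2 lc_b_rc_26_1 lc_b_rc_6_1 lc_b_rc_6_1 lc_b_rc_8_2 lc_b_rc_6_1 lc_b_rc_9_2 lc_b_rc_9_2 lc_b_rc_6_1 lc_b_rc_10_0 lc_b_rc_7_2 lc_b_rc_6_1) (@D3.rec (fun _ => (Cert rels S Gen.b)) lc_b_rc_8_2 lc_b_rc_10_2 lc_b_rc_9_2 lc_b_rc_10_2 lc_b_rc_6_1 lc_b_Cert_tree lc_b_rc_6_1 lc_b_rc_9_2 lc_b_rc_1_1 lc_b_rc_1_1 lc_b_rc_10_2 lc_b_rc_9_2 lc_b_rc_6_1 lc_b_rc_9_2 lc_b_rc_26_5 lc_b_rc_6_1 lc_b_rc_10_2 lc_b_rc_6_1 lc_b_rc_9_2 lc_b_Cert_tree lc_b_rc_6_1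 lc_b_rc_1_3 lc_b_rc_6_1 lc_b_rc_9_2 lc_b_rc_9_2 lc_b_rc_6_1 lc_b_rc_6_1 lc_b_rc_9_2 lc_b_rc_25_0 lc_b_rc_6_1 lc_b_rc_26_5 lc_b_rc_9_0 lc_b_rc_26_5 lc_b_rc_6_1 lc_b_rc_26_5 lc_b_rc_10_2 lc_b_rc_8_0 lc_b_rc_26_7 lc_b_rc_9_2 lc_b_rc_8_2 lc_b_rc_8_2 lc_b_rc_9_2 lc_b_rc_8_0 lc_b_rc_8_2 lc_b_rc_9_2 lc_b_rc_8_2 lc_b_rc_26_5 lc_b_rc_1_5 lc_b_rc_8_2 lc_b_rc_9_2 lc_b_rc_10_2 lc_b_rc_6_1 lc_b_rc_10_2 lc_b_rc_9_2 lc_b_rc_26_5 lc_b_rc_25_8 lc_b_rc_9_2 lc_b_rc_1_3 lc_b_rc_9_2 lc_b_rc_6_1 lc_b_rc_7_2 lc_b_rc_1_1) (@D3.rec (fun _ => (Cert rels S Gen.b)) lc_b_rc_25_4 lc_b_Cert_tree lc_b_rc_7_4 lc_b_rc_6_1 lc_b_rc_7_4 lc_b_rc_7_2 lc_b_rc_8_2 lc_b_rc_8_2 lc_b_rc_10_2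 lc_b_rc_6_1 lc_b_rc_6_1 lc_b_rc_9_2 lc_b_Cert_tree lc_b_rc_6_1 lc_b_rc_7_4 lc_b_rc_9_2 lc_b_Cert_tree lc_b_rc_8_2 lc_b_rc_6_1 lc_b_rc_8_2 lc_b_rc_9_2 lc_b_rc_9_0 lc_b_rc_6_1 lc_b_rc_8_2 lc_b_rc_7_2 lc_b_rc_6_1 lc_b_rc_26_7 lc_b_rc_7_4 lc_b_rc_6_1 lc_b_rc_26_1 lc_b_rc_1_3 lc_b_rc_10_2 lc_b_rc_6_1 lc_b_Cert_tree lc_b_rc_7_2 lc_b_rc_9_2 lc_b_rc_6_1 lc_b_rc_9_2 lc_b_rc_8_2 lc_b_rc_1_5 lc_b_rc_7_4 lc_b_rc_9_2 lc_b_rc_6_1 lc_b_rc_6_1 lc_b_rc_8_2 lc_b_rc_8_2 lc_b_rc_6_1 lc_b_rc_8_2 lc_b_rc_26_1 lc_b_rc_7_2 lc_b_rc_9_2 lc_b_rc_10_2 lc_b_rc_6_1 lc_b_rc_8_2 lc_b_Cert_tree lc_b_rc_9_2 lc_b_rc_6_1 lc_b_rc_9_2 lc_b_rc_6_1 lc_b_rc_9_0 lc_b_rc_9_2 lc_b_rc_6_1)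 (@D3.rec (fun _ => (Cert rels S Gen.b)) lc_b_rc_9_2 lc_b_rc_6_1 lc_b_rc_9_2 lc_b_rc_6_1 lc_b_Cert_tree lc_b_rc_1_1 lc_b_rc_9_2 lc_b_rc_26_1 lc_b_rc_9_2 lc_b_rc_7_2 lc_b_rc_6_1 lc_b_rc_26_1 lc_b_rc_9_0 lc_b_Cert_tree lc_b_rc_6_1 lc_b_rc_9_2 lc_b_rc_1_3 lc_b_rc_6_1 lc_b_rc_9_2 lc_b_rc_9_2 lc_b_rc_6_1 lc_b_rc_9_2 lc_b_rc_6_1 lc_b_rc_7_2 lc_b_Cert_tree lc_b_rc_1_3 lc_b_rc_9_2 lc_b_rc_7_4 lc_b_rc_8_2 lc_b_rc_10_2 lc_b_rc_10_0 lc_b_rc_8_2 lc_b_rc_8_2 lc_b_rc_6_1 lc_b_rc_10_0 lc_b_rc_9_0 lc_b_rc_8_2 lc_b_rc_6_1 lc_b_rc_26_7 lc_b_rc_6_1 lc_b_rc_8_0 lc_b_rc_8_2 lc_b_rc_7_4 lc_b_rc_6_1 lc_b_Cert_tree lc_b_rc_6_1 lc_b_Cert_tree lc_b_rc_9_2 lc_b_rc_9_2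 lc_b_rc_10_2 lc_b_rc_6_1 lc_b_rc_9_2 lc_b_rc_6_1 lc_b_rc_8_0 lc_b_rc_7_0 lc_b_rc_8_2 lc_b_rc_10_2 lc_b_Cert_tree lc_b_rc_7_4 lc_b_rc_9_2 lc_b_rc_6_1 lc_b_rc_8_2) (@D3.rec (fun _ => (Cert rels S Gen.b)) lc_b_rc_7_2 lc_b_Cert_tree lc_b_rc_26_7 lc_b_rc_6_1 lc_b_Cert_tree lc_b_rc_7_0 lc_b_Cert_tree lc_b_rc_8_2 lc_b_rc_7_4 lc_b_rc_9_2 lc_b_rc_8_2 lc_b_rc_10_2 lc_b_rc_6_1 lc_b_Cert_tree lc_b_rc_7_2 lc_b_rc_1_3 lc_b_rc_8_2 lc_b_rc_6_1 lc_b_Cert_tree lc_b_rc_10_0 lc_b_rc_6_1 lc_b_rc_8_0 lc_b_rc_6_1 lc_b_rc_9_0 lc_b_rc_1_3 lc_b_rc_9_2 lc_b_rc_1_3 lc_b_rc_6_1 lc_b_rc_6_1 lc_b_rc_7_2 lc_b_rc_9_2 lc_b_Cert_tree lc_b_rc_26_1 lc_b_rc_10_2 lc_b_rc_7_4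 lc_b_Cert_tree lc_b_rc_1_5 lc_b_rc_7_0 lc_b_rc_9_2 lc_b_rc_8_2 lc_b_rc_6_1 lc_b_rc_7_0 lc_b_rc_6_1 lc_b_rc_8_2 lc_b_rc_6_1 lc_b_rc_8_2 lc_b_rc_8_2 lc_b_rc_7_2 lc_b_rc_9_2 lc_b_rc_6_1 lc_b_rc_7_4 lc_b_rc_9_0 lc_b_rc_26_5 lc_b_rc_10_2 lc_b_rc_10_0 lc_b_rc_7_4 lc_b_rc_8_2 lc_b_rc_6_1 lc_b_rc_1_3 lc_b_rc_26_7 lc_b_rc_1_3 lc_b_rc_6_1) (@D3.rec (fun _ => (Cert rels S Gen.b)) lc_b_rc_8_2 lc_b_rc_9_2 lc_b_rc_9_2 lc_b_rc_8_2 lc_b_rc_8_2 lc_b_rc_10_2 lc_b_rc_6_1 lc_b_rc_26_1 lc_b_rc_9_2 lc_b_rc_6_1 lc_b_rc_25_16 lc_b_rc_7_0 lc_b_rc_8_0 lc_b_rc_8_2 lc_b_rc_6_1 lc_b_rc_7_4 lc_b_rc_8_2 lc_b_rc_26_5 lc_b_rc_8_0 lc_b_rc_7_4 lc_b_rc_1_3 lc_b_rc_9_2 lc_b_rc_7_2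 lc_b_rc_26_5 lc_b_rc_6_1 lc_b_rc_9_2 lc_b_Cert_tree lc_b_rc_9_2 lc_b_rc_8_0 lc_b_rc_6_1 lc_b_rc_8_2 lc_b_rc_10_2 lc_b_rc_6_1 lc_b_rc_8_2 lc_b_rc_9_0 lc_b_rc_26_1 lc_b_rc_9_2 lc_b_rc_6_1 lc_b_rc_6_1 lc_b_rc_1_3 lc_b_rc_9_2 lc_b_rc_26_7 lc_b_rc_10_2 lc_b_rc_6_1 lc_b_rc_10_2 lc_b_rc_10_0 lc_b_rc_10_0 lc_b_rc_8_0 lc_b_rc_26_5 lc_b_rc_8_2 lc_b_rc_8_2 lc_b_rc_7_4 lc_b_rc_9_2 lc_b_rc_8_0 lc_b_rc_9_0 lc_b_rc_26_7 lc_b_rc_9_2 lc_b_rc_9_0 lc_b_Cert_tree lc_b_rc_10_2 lc_b_rc_1_3 lc_b_rc_7_2) (@D3.rec (fun _ => (Cert rels S Gen.b)) lc_b_rc_9_2 lc_b_rc_9_2 lc_b_rc_26_1 lc_b_rc_26_1 lc_b_rc_8_2 lc_b_rc_9_0 lc_b_rc_6_1 lc_b_rc_8_0 lc_b_rc_10_2 lc_b_rc_9_2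 lc_b_rc_9_2 lc_b_Cert_tree lc_b_rc_9_0 lc_b_Cert_tree lc_b_rc_9_2 lc_b_rc_6_1 lc_b_rc_1_3 lc_b_rc_6_1 lc_b_rc_8_2 lc_b_rc_1_5 lc_b_rc_8_2 lc_b_rc_9_2 lc_b_rc_1_1 lc_b_rc_9_2 lc_b_rc_25_4 lc_b_rc_8_2 lc_b_rc_8_2 lc_b_rc_9_2 lc_b_rc_8_2 lc_b_rc_6_1 lc_b_rc_7_4 lc_b_rc_6_1 lc_b_rc_9_2 lc_b_rc_1_3 lc_b_rc_6_1 lc_b_rc_1_5 lc_b_rc_7_4 lc_b_rc_8_2 lc_b_rc_8_2 lc_b_rc_26_5 lc_b_rc_6_1 lc_b_rc_9_2 lc_b_rc_9_2 lc_b_rc_6_1 lc_b_rc_26_5 lc_b_rc_10_2 lc_b_rc_7_0 lc_b_rc_8_0 lc_b_rc_7_2 lc_b_rc_9_2 lc_b_Cert_tree lc_b_rc_9_2 lc_b_rc_25_4 lc_b_rc_6_1 lc_b_rc_8_2 lc_b_rc_8_0 lc_b_rc_8_2 lc_b_rc_10_2 lc_b_rc_26_7 lc_b_rc_8_0 lc_b_rc_6_1 lc_b_rc_8_2) (@D3.rec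 (fun _ => (Cert rels S Gen.b)) lc_b_Cert_tree lc_b_rc_8_0 lc_b_rc_10_2 lc_b_rc_6_1 lc_b_rc_7_4 lc_b_rc_7_2 lc_b_rc_10_2 lc_b_rc_6_1 lc_b_rc_8_2 lc_b_rc_7_2 lc_b_rc_6_1 lc_b_rc_7_4 lc_b_rc_26_1 lc_b_rc_6_1 lc_b_rc_10_2 lc_b_rc_8_2 lc_b_rc_8_2 lc_b_rc_8_2 lc_b_rc_9_2 lc_b_rc_7_4 lc_b_rc_7_2 lc_b_rc_6_1 lc_b_rc_6_1 lc_b_rc_7_0 lc_b_rc_6_1 lc_b_rc_6_1 lc_b_rc_26_5 lc_b_rc_9_2 lc_b_rc_6_1 lc_b_rc_8_0 lc_b_rc_1_3 lc_b_rc_6_1 lc_b_rc_25_0 lc_b_rc_7_2 lc_b_rc_8_2 lc_b_rc_6_1 lc_b_rc_8_2 lc_b_rc_6_1 lc_b_rc_6_1 lc_b_rc_8_2 lc_b_rc_9_0 lc_b_rc_6_1 lc_b_rc_8_2 lc_b_rc_26_5 lc_b_rc_6_1 lc_b_rc_1_1 lc_b_rc_1_3 lc_b_rc_9_2 lc_b_rc_26_5 lc_b_rc_7_4 lc_b_rc_10_2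 lc_b_rc_6_1 lc_b_rc_26_7 lc_b_rc_8_2 lc_b_rc_8_0 lc_b_rc_9_2 lc_b_rc_9_2 lc_b_Cert_tree lc_b_rc_1_3 lc_b_rc_6_1 lc_b_rc_7_2 lc_b_Cert_tree) (@D3.rec (fun _ => (Cert rels S Gen.b)) lc_b_rc_26_1 lc_b_rc_1_3 lc_b_rc_26_7 lc_b_rc_8_2 lc_b_rc_6_1 lc_b_rc_9_0 lc_b_rc_8_2 lc_b_rc_26_5 lc_b_rc_1_3 lc_b_rc_9_2 lc_b_rc_8_2 lc_b_rc_10_2 lc_b_rc_9_0 lc_b_rc_6_1 lc_b_rc_1_3 lc_b_rc_7_4 lc_b_rc_26_1 lc_b_rc_6_1 lc_b_Cert_tree lc_b_rc_26_5 lc_b_rc_10_2 lc_b_rc_9_2 lc_b_rc_9_2 lc_b_rc_26_5 lc_b_rc_8_2 lc_b_rc_8_2 lc_b_rc_10_2 lc_b_rc_6_1 lc_b_rc_6_1 lc_b_rc_6_1 lc_b_rc_8_2 lc_b_rc_8_2 lc_b_rc_6_1 lc_b_rc_26_1 lc_b_rc_7_0 lc_b_rc_26_1 lc_b_rc_26_1 lc_b_rc_9_0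 lc_b_rc_10_2 lc_b_rc_26_7 lc_b_rc_10_2 lc_b_Cert_tree lc_b_rc_10_2 lc_b_rc_6_1 lc_b_rc_7_4 lc_b_rc_26_7 lc_b_rc_26_5 lc_b_rc_8_2 lc_b_rc_10_2 lc_b_rc_10_2 lc_b_rc_6_1 lc_b_rc_7_2 lc_b_rc_6_1 lc_b_rc_7_0 lc_b_rc_8_2 lc_b_rc_1_5 lc_b_Cert_tree lc_b_rc_8_2 lc_b_rc_26_7 lc_b_rc_9_2 lc_b_rc_8_0 lc_b_rc_9_2) (@D3.rec (fun _ => (Cert rels S Gen.b)) lc_b_rc_1_3 lc_b_rc_9_2 lc_b_rc_6_1 lc_b_rc_1_3 lc_b_rc_10_2 lc_b_rc_7_4 lc_b_rc_1_1 lc_b_rc_6_1 lc_b_rc_6_1 lc_b_rc_7_4 lc_b_rc_6_1 lc_b_rc_8_2 lc_b_rc_6_1 lc_b_rc_25_4 lc_b_rc_1_3 lc_b_rc_8_2 lc_b_rc_9_0 lc_b_rc_26_1 lc_b_rc_6_1 lc_b_rc_26_5 lc_b_rc_1_3 lc_b_rc_8_2 lc_b_rc_26_1 lc_b_rc_9_0 lc_b_Cert_tree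 lc_b_rc_1_3 lc_b_rc_9_2 lc_b_rc_9_2 lc_b_rc_6_1 lc_b_rc_26_5 lc_b_rc_1_3 lc_b_rc_7_2 lc_b_rc_6_1 lc_b_rc_1_3 lc_b_rc_26_1 lc_b_rc_9_2 lc_b_rc_6_1 lc_b_rc_26_5 lc_b_rc_1_3 lc_b_rc_1_5 lc_b_rc_7_4 lc_b_rc_9_2 lc_b_rc_9_2 lc_b_rc_10_2 lc_b_rc_1_3 lc_b_rc_26_5 lc_b_rc_26_5 lc_b_rc_8_2 lc_b_rc_8_2 lc_b_rc_9_2 lc_b_rc_8_2 lc_b_rc_8_2 lc_b_rc_10_2 lc_b_rc_7_2 lc_b_rc_9_2 lc_b_rc_6_1 lc_b_rc_6_1 lc_b_rc_1_5 lc_b_rc_9_2 lc_b_rc_6_1 lc_b_rc_25_16 lc_b_rc_8_2) (@D3.rec (fun _ => (Cert rels S Gen.b)) lc_b_rc_9_2 lc_b_rc_9_2 lc_b_rc_6_1 lc_b_rc_8_2 lc_b_rc_10_2 lc_b_rc_25_4 lc_b_rc_26_1 lc_b_rc_6_1 lc_b_rc_7_2 lc_b_rc_8_2 lc_b_rc_7_2 lc_b_rc_9_2 lc_b_rc_10_2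 lc_b_rc_6_1 lc_b_rc_8_2 lc_b_rc_26_1 lc_b_rc_6_1 lc_b_rc_26_1 lc_b_rc_9_2 lc_b_rc_8_2 lc_b_rc_8_2 lc_b_rc_9_2 lc_b_rc_26_1 lc_b_rc_6_1 lc_b_rc_7_2 lc_b_rc_9_2 lc_b_rc_7_0 lc_b_rc_26_1 lc_b_rc_1_5 lc_b_rc_10_2 lc_b_rc_8_2 lc_b_rc_9_2 lc_b_rc_6_1 lc_b_rc_10_2 lc_b_rc_9_0 lc_b_rc_10_2 lc_b_rc_1_1 lc_b_rc_7_2 lc_b_rc_6_1 lc_b_rc_26_7 lc_b_rc_6_1 lc_b_rc_7_2 lc_b_rc_26_7 lc_b_rc_6_1 lc_b_rc_7_2 lc_b_rc_8_2 lc_b_rc_26_5 lc_b_rc_8_2 lc_b_rc_8_2 lc_b_rc_8_2 lc_b_rc_26_1 lc_b_rc_26_5 lc_b_rc_9_2 lc_b_rc_26_5 lc_b_rc_8_0 lc_b_rc_7_0 lc_b_rc_8_0 lc_b_rc_10_2 lc_b_rc_7_2 lc_b_rc_6_1 lc_b_rc_1_3 lc_b_rc_7_2) (@D3.rec (fun _ => (Cert rels S Gen.b)) lc_b_rc_6_1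 lc_b_rc_8_2 lc_b_rc_8_2 lc_b_rc_8_2 lc_b_rc_8_2 lc_b_rc_26_1 lc_b_rc_8_2 lc_b_rc_8_2 lc_b_rc_26_7 lc_b_rc_6_1 lc_b_rc_8_2 lc_b_rc_8_2 lc_b_rc_26_7 lc_b_rc_8_2 lc_b_rc_26_7 lc_b_rc_8_2 lc_b_rc_9_2 lc_b_rc_1_5 lc_b_Cert_tree lc_b_rc_10_2 lc_b_rc_9_2 lc_b_Cert_tree lc_b_rc_6_1 lc_b_rc_25_8 lc_b_rc_6_1 lc_b_rc_8_0 lc_b_rc_6_1 lc_b_rc_26_7 lc_b_rc_26_7 lc_b_rc_7_0 lc_b_rc_6_1 lc_b_rc_8_2 lc_b_rc_26_5 lc_b_rc_1_1 lc_b_rc_1_3 lc_b_rc_8_2 lc_b_rc_8_2 lc_b_rc_10_2 lc_b_Cert_tree lc_b_rc_9_2 lc_b_rc_1_5 lc_b_rc_6_1 lc_b_Cert_tree lc_b_rc_8_2 lc_b_rc_8_2 lc_b_rc_6_1 lc_b_rc_9_2 lc_b_Cert_tree lc_b_rc_8_2 lc_b_rc_25_16 lc_b_rc_10_2 lc_b_rc_6_1 lc_b_rc_8_2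 lc_b_rc_9_2 lc_b_rc_8_2 lc_b_rc_26_1 lc_b_rc_1_3 lc_b_rc_9_2 lc_b_rc_8_2 lc_b_rc_6_1 lc_b_Cert_tree lc_b_rc_9_2) (@D3.rec (fun _ => (Cert rels S Gen.b)) lc_b_Cert_tree lc_b_rc_9_2 lc_b_Cert_tree lc_b_rc_6_1 lc_b_rc_8_2 lc_b_rc_7_4 lc_b_rc_9_2 lc_b_rc_8_2 lc_b_rc_9_2 lc_b_rc_8_2 lc_b_rc_1_1 lc_b_rc_6_1 lc_b_rc_7_4 lc_b_rc_9_2 lc_b_rc_26_7 lc_b_rc_1_3 lc_b_rc_8_2 lc_b_rc_6_1 lc_b_rc_10_2 lc_b_rc_6_1 lc_b_Cert_tree lc_b_rc_9_2 lc_b_rc_1_3 lc_b_rc_25_8 lc_b_rc_1_3 lc_b_rc_8_2 lc_b_rc_8_2 lc_b_rc_1_3 lc_b_rc_6_1 lc_b_rc_9_2 lc_b_rc_6_1 lc_b_rc_6_1 lc_b_rc_10_2 lc_b_rc_1_3 lc_b_rc_26_1 lc_b_rc_6_1 lc_b_rc_26_5 lc_b_rc_9_0 lc_b_rc_1_3 lc_b_rc_6_1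 lc_b_rc_26_5 lc_b_rc_26_5 lc_b_rc_6_1 lc_b_rc_1_3 lc_b_rc_9_2 lc_b_Cert_tree lc_b_rc_9_2 lc_b_rc_9_2 lc_b_rc_9_2 lc_b_rc_6_1 lc_b_rc_26_7 lc_b_rc_26_5 lc_b_Cert_tree lc_b_rc_1_3 lc_b_rc_26_7 lc_b_Cert_tree lc_b_rc_26_5 lc_b_rc_10_2 lc_b_rc_26_7 lc_b_rc_6_1 lc_b_rc_8_2 lc_b_rc_10_2) (@D3.rec (fun _ => (Cert rels S Gen.b)) lc_b_rc_26_5 lc_b_rc_6_1 lc_b_rc_8_2 lc_b_rc_26_1 lc_b_rc_8_2 lc_b_Cert_tree lc_b_Cert_tree lc_b_rc_10_2 lc_b_rc_26_7 lc_b_rc_9_2 lc_b_rc_8_2 lc_b_rc_9_2 lc_b_rc_9_2 lc_b_rc_6_1 lc_b_rc_9_2 lc_b_rc_6_1 lc_b_rc_9_2 lc_b_rc_6_1 lc_b_rc_9_0 lc_b_rc_10_2 lc_b_rc_9_2 lc_b_rc_8_2 lc_b_rc_7_4 lc_b_rc_6_1 lc_b_rc_8_2 lc_b_rc_8_0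 lc_b_rc_26_7 lc_b_Cert_tree lc_b_rc_10_0 lc_b_rc_6_1 lc_b_rc_8_2 lc_b_rc_9_0 lc_b_rc_6_1 lc_b_rc_10_0 lc_b_rc_7_2 lc_b_rc_8_2 lc_b_rc_9_2 lc_b_rc_8_0 lc_b_rc_1_5 lc_b_rc_26_5 lc_b_rc_6_1 lc_b_Cert_tree lc_b_rc_9_2 lc_b_rc_6_1 lc_b_rc_8_0 lc_b_Cert_tree lc_b_Cert_tree lc_b_rc_6_1 lc_b_rc_26_5 lc_b_rc_10_2 lc_b_rc_26_1 lc_b_rc_8_2 lc_b_rc_8_2 lc_b_rc_9_2 lc_b_rc_8_2 lc_b_rc_10_2 lc_b_rc_25_16 lc_b_rc_9_2 lc_b_rc_7_0 lc_b_rc_8_2 lc_b_rc_9_2 lc_b_rc_8_2) (@D3.rec (fun _ => (Cert rels S Gen.b)) lc_b_rc_8_2 lc_b_rc_10_0 lc_b_rc_8_2 lc_b_rc_26_5 lc_b_rc_9_2 lc_b_rc_8_0 lc_b_rc_10_2 lc_b_rc_1_1 lc_b_rc_7_2 lc_b_rc_9_2 lc_b_rc_8_2 lc_b_rc_1_3 lc_b_rc_26_5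 lc_b_rc_6_1 lc_b_Cert_tree lc_b_rc_6_1 lc_b_rc_1_3 lc_b_rc_8_2 lc_b_rc_8_2 lc_b_rc_8_2 lc_b_rc_9_2 lc_b_rc_8_2 lc_b_rc_9_2 lc_b_rc_8_2 lc_b_rc_7_4 lc_b_rc_8_0 lc_b_rc_9_2 lc_b_rc_7_2 lc_b_Cert_tree lc_b_rc_1_5 lc_b_Cert_tree lc_b_rc_10_2 lc_b_rc_9_2 lc_b_rc_9_2 lc_b_rc_26_5 lc_b_rc_8_2 lc_b_rc_25_8 lc_b_Cert_tree lc_b_rc_6_1 lc_b_rc_9_2 lc_b_rc_7_2 lc_b_rc_9_2 lc_b_rc_7_4 lc_b_rc_8_2 lc_b_rc_6_1 lc_b_rc_25_0 lc_b_Cert_tree lc_b_rc_26_5 lc_b_rc_26_1 lc_b_rc_1_3 lc_b_rc_8_2 lc_b_rc_25_12 lc_b_rc_9_2 lc_b_rc_26_1 lc_b_rc_8_2 lc_b_rc_6_1 lc_b_Cert_tree lc_b_rc_1_3 lc_b_rc_6_1 lc_b_rc_25_16 lc_b_rc_8_0 lc_b_Cert_tree) (@D3.rec (fun _ => (Cert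 rels S Gen.b)) lc_b_rc_6_1 lc_b_rc_6_1 lc_b_rc_6_1 lc_b_rc_10_2 lc_b_rc_9_2 lc_b_rc_1_5 lc_b_rc_9_2 lc_b_rc_7_0 lc_b_rc_6_1 lc_b_rc_7_4 lc_b_rc_9_0 lc_b_rc_1_5 lc_b_rc_7_4 lc_b_rc_8_2 lc_b_rc_8_2 lc_b_rc_10_0 lc_b_rc_6_1 lc_b_Cert_tree lc_b_rc_9_2 lc_b_rc_6_1 lc_b_rc_26_5 lc_b_rc_6_1 lc_b_rc_9_2 lc_b_rc_26_1 lc_b_Cert_tree lc_b_rc_1_5 lc_b_rc_26_5 lc_b_rc_6_1 lc_b_rc_9_2 lc_b_rc_8_0 lc_b_rc_7_0 lc_b_rc_10_2 lc_b_rc_8_2 lc_b_rc_7_2 lc_b_rc_9_2 lc_b_rc_6_1 lc_b_rc_26_7 lc_b_rc_25_0 lc_b_rc_10_2 lc_b_rc_9_2 lc_b_Cert_tree lc_b_Cert_tree lc_b_Cert_tree lc_b_rc_9_2 lc_b_rc_6_1 lc_b_rc_26_5 lc_b_rc_8_0 lc_b_rc_26_5 lc_b_rc_10_2 lc_b_rc_8_2 lc_b_rc_6_1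 lc_b_rc_25_0 lc_b_rc_8_2 lc_b_rc_6_1 lc_b_rc_7_0 lc_b_rc_6_1 lc_b_rc_9_2 lc_b_rc_10_2 lc_b_rc_7_4 lc_b_rc_7_4 lc_b_rc_8_2 lc_b_rc_9_2) (@D3.rec (fun _ => (Cert rels S Gen.b)) lc_b_rc_6_1 lc_b_rc_7_2 lc_b_rc_8_2 lc_b_rc_9_2 lc_b_rc_6_1 lc_b_Cert_tree lc_b_rc_9_2 lc_b_rc_10_2 lc_b_rc_9_2 lc_b_rc_9_2 lc_b_rc_8_2 lc_b_rc_9_2 lc_b_rc_26_5 lc_b_rc_9_2 lc_b_rc_10_2 lc_b_rc_8_2 lc_b_rc_9_2 lc_b_rc_6_1 lc_b_rc_8_2 lc_b_rc_26_1 lc_b_Cert_tree lc_b_rc_8_2 lc_b_rc_6_1 lc_b_rc_8_2 lc_b_rc_6_1 lc_b_rc_9_2 lc_b_rc_10_2 lc_b_rc_25_4 lc_b_rc_8_2 lc_b_rc_10_2 lc_b_rc_7_4 lc_b_rc_9_2 lc_b_Cert_tree lc_b_rc_8_0 lc_b_rc_6_1 lc_b_rc_9_0 lc_b_rc_1_3 lc_b_rc_8_2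 lc_b_rc_10_0 lc_b_rc_8_2 lc_b_rc_10_0 lc_b_rc_10_2 lc_b_rc_6_1 lc_b_rc_9_2 lc_b_rc_8_2 lc_b_rc_26_5 lc_b_rc_8_2 lc_b_rc_26_7 lc_b_Cert_tree lc_b_rc_10_2 lc_b_rc_8_2 lc_b_rc_9_2 lc_b_rc_8_0 lc_b_rc_26_5 lc_b_rc_9_2 lc_b_rc_6_1 lc_b_rc_9_2 lc_b_rc_26_5 lc_b_rc_10_2 lc_b_rc_8_2 lc_b_rc_6_1 lc_b_rc_9_2) (@D3.rec (fun _ => (Cert rels S Gen.b)) lc_b_Cert_tree lc_b_rc_8_2 lc_b_rc_7_4 lc_b_rc_8_2 lc_b_rc_9_2 lc_b_rc_8_0 lc_b_rc_9_2 lc_b_rc_9_2 lc_b_rc_6_1 lc_b_rc_25_16 lc_b_rc_7_2 lc_b_Cert_tree lc_b_rc_6_1 lc_b_rc_10_2 lc_b_rc_9_2 lc_b_rc_7_4 lc_b_rc_9_2 lc_b_rc_6_1 lc_b_rc_8_2 lc_b_rc_6_1 lc_b_rc_8_0 lc_b_rc_6_1 lc_b_Cert_tree lc_b_rc_10_2 lc_b_rc_1_3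 lc_b_rc_10_2 lc_b_rc_7_4 lc_b_rc_9_2 lc_b_Cert_tree lc_b_rc_8_2 lc_b_rc_9_0 lc_b_rc_6_1 lc_b_rc_9_2 lc_b_rc_9_2 lc_b_rc_6_1 lc_b_rc_8_2 lc_b_rc_25_16 lc_b_rc_9_2 lc_b_rc_6_1 lc_b_rc_6_1 lc_b_rc_8_2 lc_b_rc_1_3 lc_b_rc_7_4 lc_b_rc_9_2 lc_b_rc_25_16 lc_b_rc_8_0 lc_b_rc_8_0 lc_b_rc_8_2 lc_b_rc_9_2 lc_b_rc_26_7 lc_b_rc_9_2 lc_b_rc_9_0 lc_b_rc_6_1 lc_b_rc_26_5 lc_b_rc_8_2 lc_b_rc_10_2 lc_b_rc_6_1 lc_b_rc_26_1 lc_b_rc_7_2 lc_b_rc_26_5 lc_b_rc_26_5 lc_b_rc_9_2) (@D3.rec (fun _ => (Cert rels S Gen.b)) lc_b_Cert_tree lc_b_rc_26_5 lc_b_rc_25_0 lc_b_rc_26_7 lc_b_rc_8_0 lc_b_rc_8_2 lc_b_rc_10_2 lc_b_rc_6_1 lc_b_rc_26_5 lc_b_Cert_tree lc_b_rc_9_2 lc_b_rc_8_2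 lc_b_rc_10_2 lc_b_rc_26_5 lc_b_rc_6_1 lc_b_rc_6_1 lc_b_rc_26_5 lc_b_rc_10_2 lc_b_rc_8_2 lc_b_rc_9_2 lc_b_rc_26_5 lc_b_rc_26_5 lc_b_rc_8_2 lc_b_rc_6_1 lc_b_rc_8_2 lc_b_rc_26_1 lc_b_rc_9_2 lc_b_rc_8_2 lc_b_rc_9_2 lc_b_rc_7_4 lc_b_rc_9_2 lc_b_rc_6_1 lc_b_rc_26_7 lc_b_rc_9_2 lc_b_rc_7_4 lc_b_rc_26_5 lc_b_rc_7_0 lc_b_rc_26_7 lc_b_rc_26_7 lc_b_rc_6_1 lc_b_rc_6_1 lc_b_rc_8_2 lc_b_rc_9_2 lc_b_rc_7_2 lc_b_rc_9_2 lc_b_rc_6_1 lc_b_rc_25_12 lc_b_rc_10_2 lc_b_rc_9_2 lc_b_rc_26_1 lc_b_rc_6_1 lc_b_rc_7_4 lc_b_rc_6_1 lc_b_rc_10_2 lc_b_Cert_tree lc_b_rc_1_5 lc_b_rc_26_7 lc_b_rc_8_2 lc_b_rc_26_1 lc_b_rc_26_5 lc_b_rc_8_2 lc_b_rc_10_2) (@D3.rec (fun _ => (Cert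 rels S Gen.b)) lc_b_rc_6_1 lc_b_rc_26_7 lc_b_rc_6_1 lc_b_rc_6_1 lc_b_rc_7_0 lc_b_rc_1_1 lc_b_rc_9_2 lc_b_rc_9_2 lc_b_rc_9_2 lc_b_rc_9_2 lc_b_rc_6_1 lc_b_rc_9_0 lc_b_rc_8_2 lc_b_rc_9_0 lc_b_rc_8_2 lc_b_rc_9_2 lc_b_rc_25_12 lc_b_rc_10_2 lc_b_rc_9_2 lc_b_rc_7_2 lc_b_rc_26_1 lc_b_rc_10_2 lc_b_rc_9_2 lc_b_rc_1_1 lc_b_rc_26_7 lc_b_rc_8_0 lc_b_rc_10_2 lc_b_rc_9_2 lc_b_rc_6_1 lc_b_rc_8_2 lc_b_rc_10_2 lc_b_rc_1_1 lc_b_rc_1_3 lc_b_rc_9_2 lc_b_rc_8_2 lc_b_rc_10_2 lc_b_Cert_tree lc_b_rc_9_0 lc_b_rc_1_3 lc_b_rc_7_4 lc_b_rc_9_0 lc_b_rc_1_3 lc_b_rc_10_2 lc_b_rc_6_1 lc_b_Cert_tree lc_b_rc_8_2 lc_b_rc_6_1 lc_b_rc_26_5 lc_b_rc_1_3 lc_b_rc_8_0 lc_b_rc_6_1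 lc_b_rc_7_4 lc_b_rc_26_5 lc_b_rc_9_2 lc_b_rc_9_0 lc_b_rc_6_1 lc_b_rc_9_2 lc_b_rc_6_1 lc_b_rc_6_1 lc_b_rc_6_1 lc_b_Cert_tree lc_b_rc_9_2) (@D3.rec (fun _ => (Cert rels S Gen.b)) lc_b_rc_6_1 lc_b_rc_8_2 lc_b_rc_8_2 lc_b_rc_8_2 lc_b_rc_9_0 lc_b_rc_8_0 lc_b_rc_7_2 lc_b_rc_9_2 lc_b_rc_6_1 lc_b_rc_7_2 lc_b_rc_9_2 lc_b_rc_6_1 lc_b_rc_8_2 lc_b_rc_1_1 lc_b_rc_6_1 lc_b_rc_6_1 lc_b_rc_6_1 lc_b_rc_26_5 lc_b_rc_6_1 lc_b_rc_9_2 lc_b_rc_9_2 lc_b_rc_10_2 lc_b_rc_6_1 lc_b_rc_25_0 lc_b_rc_6_1 lc_b_rc_9_2 lc_b_rc_9_2 lc_b_rc_26_5 lc_b_rc_26_1 lc_b_rc_10_2 lc_b_rc_8_2 lc_b_rc_8_2 lc_b_rc_8_0 lc_b_rc_9_2 lc_b_rc_6_1 lc_b_rc_26_7 lc_b_rc_9_0 lc_b_rc_8_0 lc_b_rc_10_2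 lc_b_rc_6_1 lc_b_rc_9_2 lc_b_rc_1_5 lc_b_rc_8_2 lc_b_rc_8_2 lc_b_rc_7_4 lc_b_rc_6_1 lc_b_rc_26_7 lc_b_rc_9_2 lc_b_rc_6_1 lc_b_rc_26_5 lc_b_rc_6_1 lc_b_rc_10_2 lc_b_rc_6_1 lc_b_rc_6_1 lc_b_rc_7_4 lc_b_rc_8_2 lc_b_rc_9_2 lc_b_Cert_tree lc_b_Cert_tree lc_b_rc_6_1 lc_b_rc_10_0 lc_b_rc_8_2) (@D3.rec (fun _ => (Cert rels S Gen.b)) lc_b_rc_6_1 lc_b_rc_26_7 lc_b_rc_8_0 lc_b_rc_6_1 lc_b_Cert_tree lc_b_rc_9_0 lc_b_rc_9_2 lc_b_rc_10_0 lc_b_rc_1_1 lc_b_rc_6_1 lc_b_Cert_tree lc_b_rc_8_2 lc_b_rc_1_1 lc_b_rc_9_2 lc_b_rc_7_0 lc_b_rc_6_1 lc_b_rc_7_0 lc_b_rc_8_0 lc_b_rc_7_4 lc_b_rc_8_2 lc_b_rc_6_1 lc_b_rc_7_2 lc_b_rc_8_2 lc_b_rc_7_2 lc_b_rc_1_5 lc_b_rc_10_2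 lc_b_rc_6_1 lc_b_rc_6_1 lc_b_rc_9_0 lc_b_rc_9_2 lc_b_rc_1_5 lc_b_rc_9_2 lc_b_rc_7_0 lc_b_rc_9_2 lc_b_rc_9_2 lc_b_rc_8_2 lc_b_rc_9_2 lc_b_rc_6_1 lc_b_rc_8_2 lc_b_rc_1_5 lc_b_rc_26_1 lc_b_rc_9_2 lc_b_rc_26_7 lc_b_rc_26_7 lc_b_rc_8_2 lc_b_rc_10_2 lc_b_rc_9_2 lc_b_rc_10_2 lc_b_rc_8_2 lc_b_rc_8_2 lc_b_rc_26_1 lc_b_rc_8_0 lc_b_rc_6_1 lc_b_rc_10_2 lc_b_rc_1_5 lc_b_rc_25_4 lc_b_rc_9_2 lc_b_rc_26_7 lc_b_rc_9_2 lc_b_rc_25_12 lc_b_rc_9_2 lc_b_rc_6_1) (@D3.rec (fun _ => (Cert rels S Gen.b)) lc_b_rc_26_7 lc_b_rc_1_1 lc_b_rc_1_1 lc_b_rc_9_2 lc_b_rc_6_1 lc_b_rc_6_1 lc_b_rc_8_2 lc_b_rc_10_2 lc_b_rc_8_2 lc_b_rc_26_1 lc_b_rc_6_1 lc_b_rc_26_1 lc_b_rc_26_5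 lc_b_rc_8_2 lc_b_rc_6_1 lc_b_rc_8_2 lc_b_rc_25_4 lc_b_rc_9_0 lc_b_rc_1_1 lc_b_rc_1_5 lc_b_rc_7_0 lc_b_rc_10_2 lc_b_rc_26_5 lc_b_rc_9_2 lc_b_rc_26_5 lc_b_rc_9_0 lc_b_rc_26_1 lc_b_rc_26_1 lc_b_rc_9_2 lc_b_rc_8_2 lc_b_rc_6_1 lc_b_rc_1_3 lc_b_rc_7_0 lc_b_rc_1_3 lc_b_rc_26_1 lc_b_rc_8_2 lc_b_rc_6_1 lc_b_rc_9_2 lc_b_rc_6_1 lc_b_rc_8_2 lc_b_rc_26_1 lc_b_rc_6_1 lc_b_rc_10_2 lc_b_rc_8_2 lc_b_rc_6_1 lc_b_Cert_tree lc_b_rc_1_3 lc_b_rc_26_5 lc_b_rc_1_3 lc_b_Cert_tree lc_b_rc_9_0 lc_b_rc_6_1 lc_b_rc_10_0 lc_b_rc_6_1 lc_b_Cert_tree lc_b_rc_26_1 lc_b_rc_1_3 lc_b_rc_8_0 lc_b_rc_6_1 lc_b_rc_7_4 lc_b_rc_6_1 lc_b_rc_10_2) (@D3.rec (fun _ => (Cert rels S Gen.b))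 lc_b_rc_10_2 lc_b_rc_8_2 lc_b_rc_9_2 lc_b_rc_26_5 lc_b_rc_9_2 lc_b_rc_1_5 lc_b_rc_6_1 lc_b_rc_1_1 lc_b_Cert_tree lc_b_rc_9_2 lc_b_rc_6_1 lc_b_rc_10_0 lc_b_rc_8_2 lc_b_rc_7_0 lc_b_rc_8_2 lc_b_rc_7_2 lc_b_rc_9_2 lc_b_rc_8_0 lc_b_rc_7_4 lc_b_rc_26_5 lc_b_rc_9_2 lc_b_rc_6_1 lc_b_rc_6_1 lc_b_rc_10_2 lc_b_rc_8_2 lc_b_rc_7_2 lc_b_rc_9_2 lc_b_rc_1_5 lc_b_rc_7_0 lc_b_rc_7_2 lc_b_rc_7_0 lc_b_rc_9_0 lc_b_rc_10_0 lc_b_rc_7_0 lc_b_rc_26_5 lc_b_rc_7_2 lc_b_rc_9_2 lc_b_rc_25_0 lc_b_rc_6_1 lc_b_rc_7_4 lc_b_rc_9_2 lc_b_rc_6_1 lc_b_rc_9_0 lc_b_rc_1_5 lc_b_rc_26_7 lc_b_rc_26_1 lc_b_rc_26_5 lc_b_rc_7_0 lc_b_rc_8_2 lc_b_rc_7_0 lc_b_rc_25_8 lc_b_rc_8_0 lc_b_rc_9_0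 lc_b_rc_1_5 lc_b_rc_6_1 lc_b_rc_8_2 lc_b_Cert_tree lc_b_rc_8_0 lc_b_rc_7_2 lc_b_Cert_tree lc_b_rc_8_2 lc_b_rc_26_7) (@D3.rec (fun _ => (Cert rels S Gen.b)) lc_b_rc_7_2 lc_b_rc_6_1 lc_b_rc_6_1 lc_b_rc_9_2 lc_b_rc_8_2 lc_b_rc_8_2 lc_b_Cert_tree lc_b_rc_6_1 lc_b_rc_6_1 lc_b_rc_8_2 lc_b_rc_9_0 lc_b_rc_8_2 lc_b_rc_25_4 lc_b_rc_10_2 lc_b_rc_8_2 lc_b_rc_9_2 lc_b_rc_26_5 lc_b_rc_9_2 lc_b_rc_8_2 lc_b_rc_9_2 lc_b_rc_8_2 lc_b_rc_26_1 lc_b_Cert_tree lc_b_rc_6_1 lc_b_rc_26_5 lc_b_rc_9_2 lc_b_rc_6_1 lc_b_Cert_tree lc_b_rc_9_2 lc_b_rc_7_2 lc_b_rc_7_4 lc_b_rc_8_2 lc_b_rc_6_1 lc_b_rc_8_2 lc_b_rc_10_2 lc_b_rc_8_2 lc_b_rc_9_2 lc_b_rc_6_1 lc_b_rc_6_1 lc_b_rc_1_5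 lc_b_rc_10_2 lc_b_rc_6_1 lc_b_rc_9_2 lc_b_rc_6_1 lc_b_rc_1_1 lc_b_rc_6_1 lc_b_rc_7_0 lc_b_rc_26_7 lc_b_rc_9_0 lc_b_rc_8_2 lc_b_rc_6_1 lc_b_rc_26_5 lc_b_rc_8_2 lc_b_rc_8_2 lc_b_rc_6_1 lc_b_rc_8_2 lc_b_rc_8_2 lc_b_rc_1_1 lc_b_Cert_tree lc_b_rc_6_1 lc_b_rc_7_4 lc_b_rc_9_2) (@D3.rec (fun _ => (Cert rels S Gen.b)) lc_b_rc_10_0 lc_b_rc_6_1 lc_b_rc_10_2 lc_b_rc_9_2 lc_b_rc_8_2 lc_b_rc_10_0 lc_b_rc_9_2 lc_b_rc_9_2 lc_b_rc_6_1 lc_b_rc_8_2 lc_b_rc_9_2 lc_b_rc_8_2 lc_b_rc_8_2 lc_b_rc_8_2 lc_b_rc_8_2 lc_b_rc_9_2 lc_b_rc_8_2 lc_b_rc_9_2 lc_b_rc_8_2 lc_b_rc_6_1 lc_b_rc_26_7 lc_b_rc_8_2 lc_b_rc_6_1 lc_b_rc_8_2 lc_b_rc_10_0 lc_b_rc_8_2 lc_b_rc_7_2 lc_b_rc_1_5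 lc_b_Cert_tree lc_b_rc_9_2 lc_b_rc_8_2 lc_b_rc_9_2 lc_b_Cert_tree lc_b_rc_9_2 lc_b_rc_8_0 lc_b_rc_9_2 lc_b_rc_6_1 lc_b_Cert_tree lc_b_rc_8_2 lc_b_rc_26_7 lc_b_Cert_tree lc_b_rc_6_1 lc_b_rc_9_0 lc_b_rc_10_2 lc_b_rc_9_2 lc_b_rc_6_1 lc_b_rc_7_2 lc_b_rc_8_2 lc_b_Cert_tree lc_b_rc_6_1 lc_b_rc_9_2 lc_b_rc_6_1 lc_b_rc_1_3 lc_b_rc_7_4 lc_b_rc_8_2 lc_b_Cert_tree lc_b_rc_9_2 lc_b_rc_26_5 lc_b_rc_6_1 lc_b_rc_8_2 lc_b_rc_6_1 lc_b_Cert_tree) (@D3.rec (fun _ => (Cert rels S Gen.b)) lc_b_rc_6_1 lc_b_rc_10_2 lc_b_rc_7_4 lc_b_rc_9_2 lc_b_rc_8_2 lc_b_rc_8_2 lc_b_rc_8_2 lc_b_rc_6_1 lc_b_rc_9_2 lc_b_rc_6_1 lc_b_rc_9_2 lc_b_rc_9_0 lc_b_rc_8_2 lc_b_rc_1_5 lc_b_rc_6_1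 lc_b_rc_26_5 lc_b_rc_9_2 lc_b_rc_6_1 lc_b_rc_9_2 lc_b_rc_8_2 lc_b_Cert_tree lc_b_rc_25_0 lc_b_rc_10_2 lc_b_rc_1_1 lc_b_rc_9_2 lc_b_Cert_tree lc_b_rc_8_2 lc_b_rc_7_4 lc_b_rc_8_2 lc_b_rc_9_2 lc_b_rc_26_1 lc_b_rc_8_0 lc_b_rc_26_7 lc_b_rc_6_1 lc_b_rc_9_2 lc_b_rc_6_1 lc_b_Cert_tree lc_b_Cert_tree lc_b_rc_1_1 lc_b_rc_8_2 lc_b_rc_10_2 lc_b_rc_9_2 lc_b_rc_9_2 lc_b_Cert_tree lc_b_rc_26_1 lc_b_Cert_tree lc_b_rc_9_2 lc_b_rc_6_1 lc_b_rc_9_2 lc_b_rc_6_1 lc_b_rc_9_2 lc_b_rc_9_2 lc_b_rc_9_2 lc_b_rc_9_2 lc_b_rc_9_2 lc_b_rc_25_8 lc_b_rc_8_2 lc_b_rc_7_4 lc_b_rc_26_7 lc_b_rc_7_2 lc_b_rc_9_2 lc_b_rc_9_2) (@D3.rec (fun _ => (Cert rels S Gen.b)) lc_b_rc_25_0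 lc_b_rc_10_2 lc_b_Cert_tree lc_b_rc_9_2 lc_b_Cert_tree lc_b_Cert_tree lc_b_rc_7_4 lc_b_rc_8_2 lc_b_rc_26_5 lc_b_rc_8_2 lc_b_rc_9_2 lc_b_rc_8_0 lc_b_rc_26_1 lc_b_rc_6_1 lc_b_rc_9_2 lc_b_rc_6_1 lc_b_rc_6_1 lc_b_rc_6_1 lc_b_rc_9_2 lc_b_rc_8_2 lc_b_rc_8_2 lc_b_rc_1_3 lc_b_rc_6_1 lc_b_rc_8_0 lc_b_rc_9_2 lc_b_rc_9_2 lc_b_rc_8_2 lc_b_rc_9_2 lc_b_Cert_tree lc_b_rc_8_2 lc_b_rc_1_3 lc_b_rc_25_16 lc_b_rc_6_1 lc_b_rc_9_0 lc_b_rc_1_3 lc_b_rc_8_2 lc_b_rc_8_2 lc_b_rc_9_0 lc_b_rc_9_2 lc_b_rc_8_2 lc_b_rc_9_2 lc_b_rc_9_2 lc_b_rc_1_3 lc_b_rc_8_2 lc_b_rc_10_2 lc_b_rc_9_0 lc_b_rc_6_1 lc_b_rc_8_2 lc_b_rc_26_5 lc_b_rc_6_1 lc_b_rc_7_2 lc_b_rc_10_2 lc_b_rc_10_2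 lc_b_rc_8_2 lc_b_rc_8_2 lc_b_rc_6_1 lc_b_rc_26_5 lc_b_rc_1_1 lc_b_rc_7_2 lc_b_rc_6_1 lc_b_rc_1_3 lc_b_rc_26_5) (@D3.rec (fun _ => (Cert rels S Gen.b)) lc_b_rc_10_2 lc_b_rc_8_2 lc_b_rc_9_2 lc_b_rc_1_1 lc_b_Cert_tree lc_b_rc_9_2 lc_b_rc_8_2 lc_b_rc_9_2 lc_b_rc_8_2 lc_b_Cert_tree lc_b_rc_9_0 lc_b_rc_8_2 lc_b_Cert_tree lc_b_rc_9_2 lc_b_rc_6_1 lc_b_Cert_tree lc_b_rc_6_1 lc_b_rc_26_7 lc_b_rc_7_2 lc_b_rc_6_1 lc_b_rc_10_2 lc_b_rc_9_2 lc_b_rc_9_2 lc_b_rc_8_2 lc_b_rc_26_7 lc_b_rc_8_2 lc_b_rc_7_4 lc_b_rc_9_2 lc_b_rc_6_1 lc_b_rc_9_2 lc_b_rc_25_0 lc_b_rc_6_1 lc_b_rc_8_2 lc_b_rc_9_2 lc_b_rc_9_2 lc_b_rc_6_1 lc_b_rc_9_2 lc_b_Cert_tree lc_b_rc_6_1 lc_b_rc_8_2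 lc_b_rc_8_0 lc_b_rc_26_7 lc_b_rc_6_1 lc_b_Cert_tree lc_b_rc_1_3 lc_b_rc_8_2 lc_b_rc_10_2 lc_b_rc_9_2 lc_b_rc_1_1 lc_b_Cert_tree lc_b_rc_26_5 lc_b_rc_8_2 lc_b_rc_7_4 lc_b_Cert_tree lc_b_rc_26_7 lc_b_rc_6_1 lc_b_rc_6_1 lc_b_Cert_tree lc_b_rc_7_2 lc_b_rc_6_1 lc_b_rc_9_0 lc_b_rc_8_2) (@D3.rec (fun _ => (Cert rels S Gen.b)) lc_b_rc_9_2 lc_b_rc_6_1 lc_b_rc_7_4 lc_b_rc_7_4 lc_b_Cert_tree lc_b_rc_1_3 lc_b_rc_8_0 lc_b_rc_6_1 lc_b_rc_8_2 lc_b_rc_1_5 lc_b_rc_26_1 lc_b_rc_8_2 lc_b_rc_6_1 lc_b_rc_6_1 lc_b_rc_26_5 lc_b_rc_7_0 lc_b_rc_9_2 lc_b_rc_26_5 lc_b_rc_25_8 lc_b_rc_6_1 lc_b_rc_10_2 lc_b_rc_9_2 lc_b_rc_8_2 lc_b_rc_6_1 lc_b_rc_8_2 lc_b_rc_7_4 lc_b_rc_9_2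 lc_b_rc_6_1 lc_b_rc_1_5 lc_b_rc_1_5 lc_b_rc_9_0 lc_b_rc_9_2 lc_b_rc_8_0 lc_b_rc_6_1 lc_b_rc_7_0 lc_b_rc_1_5 lc_b_rc_7_4 lc_b_rc_7_4 lc_b_rc_8_2 lc_b_rc_8_2 lc_b_rc_6_1 lc_b_rc_25_0 lc_b_rc_8_0 lc_b_rc_10_2 lc_b_rc_10_2 lc_b_rc_6_1 lc_b_rc_26_7 lc_b_rc_6_1 lc_b_rc_26_5 lc_b_rc_1_1 lc_b_rc_6_1 lc_b_rc_1_1 lc_b_rc_10_2 lc_b_rc_1_5 lc_b_rc_10_2 lc_b_rc_8_2 lc_b_rc_9_2 lc_b_rc_9_2 lc_b_rc_7_4 lc_b_rc_9_0 lc_b_rc_8_2 lc_b_rc_10_2) (@D3.rec (fun _ => (Cert rels S Gen.b)) lc_b_rc_6_1 lc_b_rc_1_1 lc_b_rc_1_5 lc_b_rc_9_2 lc_b_rc_8_2 lc_b_Cert_tree lc_b_rc_6_1 lc_b_rc_26_7 lc_b_rc_6_1 lc_b_rc_7_2 lc_b_rc_9_2 lc_b_rc_7_2 lc_b_rc_10_2 lc_b_rc_8_0 lc_b_rc_8_2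 lc_b_rc_9_2 lc_b_rc_8_2 lc_b_rc_9_2 lc_b_rc_6_1 lc_b_Cert_tree lc_b_rc_8_2 lc_b_rc_10_2 lc_b_rc_26_1 lc_b_rc_6_1 lc_b_rc_26_1 lc_b_rc_9_2 lc_b_rc_6_1 lc_b_rc_8_0 lc_b_rc_10_2 lc_b_rc_6_1 lc_b_rc_7_4 lc_b_rc_10_2 lc_b_rc_8_2 lc_b_rc_10_2 lc_b_rc_9_2 lc_b_rc_7_4 lc_b_rc_9_2 lc_b_rc_1_3 lc_b_rc_25_0 lc_b_rc_9_2 lc_b_rc_8_2 lc_b_rc_9_2 lc_b_rc_9_0 lc_b_rc_6_1 lc_b_rc_26_5 lc_b_rc_8_0 lc_b_rc_1_5 lc_b_rc_10_2 lc_b_rc_6_1 lc_b_rc_26_7 lc_b_rc_6_1 lc_b_rc_1_5 lc_b_rc_6_1 lc_b_rc_9_0 lc_b_rc_6_1 lc_b_rc_1_1 lc_b_rc_9_2 lc_b_rc_26_1 lc_b_Cert_tree lc_b_rc_8_2 lc_b_rc_7_2 lc_b_rc_6_1) (@D3.rec (fun _ => (Cert rels S Gen.b)) lc_b_rc_9_0 lc_b_rc_7_2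 lc_b_rc_9_2 lc_b_rc_9_2 lc_b_rc_26_5 lc_b_rc_9_2 lc_b_rc_9_2 lc_b_rc_9_2 lc_b_rc_6_1 lc_b_rc_9_0 lc_b_rc_10_2 lc_b_rc_6_1 lc_b_rc_7_4 lc_b_rc_1_3 lc_b_rc_9_2 lc_b_rc_9_0 lc_b_rc_7_0 lc_b_rc_9_2 lc_b_rc_10_2 lc_b_rc_7_2 lc_b_rc_26_5 lc_b_rc_1_5 lc_b_rc_1_1 lc_b_rc_7_0 lc_b_rc_9_0 lc_b_rc_26_1 lc_b_rc_6_1 lc_b_rc_8_2 lc_b_rc_8_2 lc_b_rc_9_2 lc_b_rc_26_7 lc_b_rc_26_7 lc_b_rc_25_4 lc_b_rc_9_2 lc_b_rc_6_1 lc_b_rc_10_0 lc_b_rc_26_7 lc_b_rc_6_1 lc_b_rc_7_4 lc_b_rc_26_7 lc_b_rc_6_1 lc_b_rc_8_2 lc_b_rc_8_2 lc_b_rc_1_3 lc_b_rc_9_2 lc_b_rc_6_1 lc_b_rc_9_0 lc_b_rc_9_0 lc_b_rc_9_2 lc_b_rc_9_2 lc_b_rc_6_1 lc_b_rc_6_1 lc_b_rc_26_7 lc_b_rc_6_1 lc_b_rc_6_1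 lc_b_rc_1_3 lc_b_rc_9_2 lc_b_rc_26_5 lc_b_rc_7_0 lc_b_rc_10_2 lc_b_rc_9_2 lc_b_rc_10_0) (@D3.rec (fun _ => (Cert rels S Gen.b)) lc_b_rc_8_0 lc_b_rc_26_1 lc_b_rc_10_2 lc_b_rc_1_3 lc_b_rc_9_2 lc_b_rc_8_2 lc_b_rc_7_2 lc_b_rc_9_2 lc_b_rc_7_4 lc_b_rc_9_2 lc_b_rc_9_2 lc_b_rc_6_1 lc_b_rc_9_0 lc_b_rc_1_3 lc_b_rc_7_2 lc_b_rc_6_1 lc_b_rc_7_2 lc_b_rc_26_5 lc_b_rc_26_5 lc_b_rc_10_2 lc_b_rc_6_1 lc_b_rc_7_4 lc_b_rc_6_1 lc_b_rc_6_1 lc_b_rc_1_1 lc_b_rc_9_0 lc_b_rc_26_1 lc_b_rc_8_2 lc_b_rc_26_5 lc_b_rc_7_4 lc_b_rc_8_2 lc_b_rc_7_2 lc_b_rc_7_4 lc_b_rc_8_2 lc_b_rc_9_2 lc_b_rc_8_2 lc_b_rc_7_2 lc_b_Cert_tree lc_b_rc_9_2 lc_b_rc_8_2 lc_b_rc_7_4 lc_b_rc_9_2 lc_b_rc_6_1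 lc_b_Cert_tree lc_b_rc_9_2 lc_b_rc_6_1 lc_b_rc_25_4 lc_b_rc_6_1 lc_b_rc_7_0 lc_b_Cert_tree lc_b_rc_7_4 lc_b_rc_7_2 lc_b_rc_8_2 lc_b_rc_8_2 lc_b_rc_7_4 lc_b_rc_8_0 lc_b_rc_7_2 lc_b_rc_9_2 lc_b_rc_7_2 lc_b_rc_10_2 lc_b_rc_1_3 lc_b_rc_9_2) (@D3.rec (fun _ => (Cert rels S Gen.b)) lc_b_rc_6_1 lc_b_rc_10_2 lc_b_rc_6_1 lc_b_rc_1_3 lc_b_rc_10_2 lc_b_rc_9_2 lc_b_Cert_tree lc_b_rc_8_2 lc_b_rc_8_0 lc_b_rc_10_2 lc_b_rc_9_2 lc_b_rc_25_16 lc_b_Cert_tree lc_b_rc_25_4 lc_b_rc_6_1 lc_b_rc_6_1 lc_b_rc_9_0 lc_b_rc_8_2 lc_b_rc_8_2 lc_b_rc_9_0 lc_b_rc_7_4 lc_b_rc_25_8 lc_b_rc_8_2 lc_b_rc_26_1 lc_b_rc_6_1 lc_b_rc_10_0 lc_b_rc_8_2 lc_b_rc_8_2 lc_b_rc_6_1 lc_b_rc_8_2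 lc_b_rc_1_5 lc_b_rc_10_2 lc_b_rc_8_2 lc_b_rc_9_2 lc_b_rc_9_2 lc_b_rc_9_2 lc_b_rc_6_1 lc_b_rc_8_0 lc_b_rc_9_2 lc_b_rc_6_1 lc_b_Cert_tree lc_b_rc_9_2 lc_b_rc_8_0 lc_b_rc_9_0 lc_b_rc_9_2 lc_b_rc_9_0 lc_b_rc_9_2 lc_b_rc_6_1 lc_b_rc_8_2 lc_b_rc_8_2 lc_b_rc_9_0 lc_b_rc_8_2 lc_b_rc_25_12 lc_b_rc_26_5 lc_b_rc_9_2 lc_b_rc_7_4 lc_b_rc_8_2 lc_b_rc_6_1 lc_b_rc_7_4 lc_b_rc_6_1 lc_b_rc_6_1 lc_b_rc_7_4) (@D3.rec (fun _ => (Cert rels S Gen.b)) lc_b_rc_9_0 lc_b_rc_6_1 lc_b_rc_26_1 lc_b_rc_8_2 lc_b_rc_26_1 lc_b_rc_8_2 lc_b_rc_9_2 lc_b_rc_26_5 lc_b_rc_8_2 lc_b_rc_9_2 lc_b_rc_6_1 lc_b_rc_7_2 lc_b_rc_26_7 lc_b_rc_10_2 lc_b_rc_1_5 lc_b_rc_6_1 lc_b_rc_9_2 lc_b_rc_7_4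 lc_b_rc_9_2 lc_b_rc_8_2 lc_b_rc_26_1 lc_b_rc_8_2 lc_b_rc_9_2 lc_b_rc_26_1 lc_b_rc_6_1 lc_b_rc_1_1 lc_b_rc_9_2 lc_b_rc_8_2 lc_b_rc_9_2 lc_b_rc_8_2 lc_b_rc_6_1 lc_b_rc_8_2 lc_b_rc_8_2 lc_b_rc_26_5 lc_b_rc_9_2 lc_b_rc_9_2 lc_b_rc_1_3 lc_b_rc_6_1 lc_b_rc_7_2 lc_b_rc_8_2 lc_b_Cert_tree lc_b_rc_6_1 lc_b_rc_6_1 lc_b_rc_26_5 lc_b_rc_8_2 lc_b_rc_8_2 lc_b_rc_9_2 lc_b_rc_8_2 lc_b_rc_26_7 lc_b_rc_9_2 lc_b_rc_26_5 lc_b_rc_26_5 lc_b_rc_9_2 lc_b_rc_26_5 lc_b_rc_7_4 lc_b_rc_26_5 lc_b_rc_25_4 lc_b_Cert_tree lc_b_rc_1_3 lc_b_rc_1_1 lc_b_Cert_tree lc_b_rc_10_2) (@D3.rec (fun _ => (Cert rels S Gen.b)) lc_b_rc_26_5 lc_b_rc_9_0 lc_b_rc_10_2 lc_b_rc_8_2 lc_b_rc_8_0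 lc_b_Cert_tree lc_b_rc_10_2 lc_b_Cert_tree lc_b_rc_9_2 lc_b_rc_8_2 lc_b_rc_9_2 lc_b_rc_8_2 lc_b_Cert_tree lc_b_rc_9_2 lc_b_rc_9_0 lc_b_rc_1_5 lc_b_Cert_tree lc_b_rc_25_4 lc_b_rc_6_1 lc_b_rc_10_2 lc_b_rc_25_4 lc_b_rc_9_2 lc_b_rc_8_2 lc_b_rc_26_1 lc_b_rc_9_2 lc_b_rc_8_2 lc_b_rc_9_2 lc_b_rc_8_2 lc_b_rc_9_2 lc_b_rc_8_0 lc_b_rc_6_1 lc_b_rc_7_0 lc_b_rc_26_5 lc_b_rc_8_0 lc_b_rc_8_2 lc_b_rc_26_7 lc_b_Cert_tree lc_b_rc_25_0 lc_b_rc_8_2 lc_b_rc_10_0 lc_b_rc_1_3 lc_b_rc_10_2 lc_b_rc_7_4 lc_b_rc_8_0 lc_b_rc_6_1 lc_b_rc_8_2 lc_b_rc_1_3 lc_b_rc_8_2 lc_b_rc_9_2 lc_b_rc_8_2 lc_b_rc_9_2 lc_b_rc_8_2 lc_b_rc_8_0 lc_b_rc_10_2 lc_b_Cert_tree lc_b_rc_9_2 lc_b_rc_6_1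 lc_b_rc_25_0 lc_b_Cert_tree lc_b_rc_26_7 lc_b_rc_9_2 lc_b_rc_7_2) (@D3.rec (fun _ => (Cert rels S Gen.b)) lc_b_rc_7_4 lc_b_rc_9_2 lc_b_rc_26_1 lc_b_rc_8_2 lc_b_rc_10_0 lc_b_rc_7_4 lc_b_rc_7_0 lc_b_rc_1_3 lc_b_rc_8_2 lc_b_rc_8_2 lc_b_rc_10_0 lc_b_rc_8_2 lc_b_rc_26_7 lc_b_rc_8_2 lc_b_rc_10_2 lc_b_rc_25_4 lc_b_rc_6_1 lc_b_rc_10_2 lc_b_rc_9_2 lc_b_rc_9_2 lc_b_rc_8_2 lc_b_rc_9_2 lc_b_rc_8_0 lc_b_rc_10_2 lc_b_rc_6_1 lc_b_rc_8_0 lc_b_rc_7_2 lc_b_rc_10_2 lc_b_rc_8_2 lc_b_rc_25_4 lc_b_rc_8_2 lc_b_rc_8_2 lc_b_rc_25_4 lc_b_rc_26_7 lc_b_rc_6_1 lc_b_rc_6_1 lc_b_rc_26_5 lc_b_rc_6_1 lc_b_rc_8_2 lc_b_rc_8_2 lc_b_rc_26_5 lc_b_rc_9_2 lc_b_rc_8_2 lc_b_rc_7_2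 lc_b_rc_8_2 lc_b_rc_1_5 lc_b_rc_26_5 lc_b_rc_8_2 lc_b_rc_7_4 lc_b_rc_6_1 lc_b_rc_7_4 lc_b_rc_10_2 lc_b_rc_7_4 lc_b_rc_7_2 lc_b_rc_6_1 lc_b_rc_26_5 lc_b_rc_8_2 lc_b_rc_8_0 lc_b_rc_8_2 lc_b_rc_26_1 lc_b_rc_1_1 lc_b_rc_8_2) (@D3.rec (fun _ => (Cert rels S Gen.b)) lc_b_rc_26_5 lc_b_rc_7_2 lc_b_rc_9_2 lc_b_rc_8_2 lc_b_rc_7_4 lc_b_rc_8_2 lc_b_rc_7_4 lc_b_rc_25_0 lc_b_rc_8_2 lc_b_rc_9_2 lc_b_rc_6_1 lc_b_rc_9_2 lc_b_rc_8_2 lc_b_rc_26_1 lc_b_rc_26_1 lc_b_rc_8_2 lc_b_rc_9_2 lc_b_rc_25_4 lc_b_rc_25_0 lc_b_rc_10_2 lc_b_rc_8_2 lc_b_rc_6_1 lc_b_rc_10_2 lc_b_Cert_tree lc_b_rc_7_4 lc_b_rc_10_2 lc_b_rc_6_1 lc_b_rc_8_2 lc_b_rc_9_2 lc_b_Cert_tree lc_b_rc_7_4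 lc_b_rc_9_2 lc_b_rc_7_4 lc_b_rc_6_1 lc_b_rc_8_2 lc_b_rc_6_1 lc_b_rc_6_1 lc_b_rc_7_0 lc_b_rc_10_2 lc_b_rc_10_2 lc_b_rc_6_1 lc_b_rc_8_2 lc_b_rc_26_5 lc_b_rc_6_1 lc_b_rc_1_3 lc_b_rc_9_2 lc_b_rc_10_2 lc_b_rc_6_1 lc_b_rc_7_4 lc_b_rc_26_7 lc_b_rc_10_0 lc_b_rc_9_0 lc_b_rc_10_2 lc_b_rc_9_2 lc_b_rc_6_1 lc_b_rc_8_2 lc_b_rc_9_2 lc_b_rc_6_1 lc_b_rc_8_0 lc_b_rc_10_2 lc_b_rc_8_2 lc_b_rc_1_5) (@D3.rec (fun _ => (Cert rels S Gen.b)) lc_b_rc_6_1 lc_b_rc_1_3 lc_b_rc_9_2 lc_b_rc_6_1 lc_b_rc_6_1 lc_b_rc_10_0 lc_b_rc_8_0 lc_b_rc_8_2 lc_b_rc_8_2 lc_b_rc_6_1 lc_b_rc_6_1 lc_b_rc_26_1 lc_b_rc_9_2 lc_b_rc_10_2 lc_b_rc_8_2 lc_b_rc_9_2 lc_b_rc_6_1 lc_b_rc_9_2 lc_b_rc_7_4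 lc_b_rc_8_2 lc_b_rc_10_2 lc_b_rc_1_5 lc_b_rc_26_1 lc_b_rc_1_1 lc_b_rc_9_2 lc_b_rc_7_0 lc_b_rc_8_0 lc_b_rc_1_5 lc_b_rc_1_1 lc_b_rc_6_1 lc_b_rc_26_5 lc_b_rc_10_0 lc_b_rc_8_2 lc_b_rc_10_2 lc_b_Cert_tree lc_b_rc_10_2 lc_b_rc_7_4 lc_b_Cert_tree lc_b_rc_6_1 lc_b_rc_26_5 lc_b_rc_9_2 lc_b_rc_25_0 lc_b_rc_8_2 lc_b_rc_10_2 lc_b_rc_6_1 lc_b_rc_9_0 lc_b_rc_9_2 lc_b_rc_7_0 lc_b_rc_9_0 lc_b_rc_9_2 lc_b_rc_10_2 lc_b_rc_8_2 lc_b_rc_26_5 lc_b_rc_1_5 lc_b_rc_1_1 lc_b_Cert_tree lc_b_rc_6_1 lc_b_rc_8_2 lc_b_rc_6_1 lc_b_rc_26_5 lc_b_rc_6_1 lc_b_rc_25_4) (@D3.rec (fun _ => (Cert rels S Gen.b)) lc_b_rc_8_2 lc_b_Cert_tree lc_b_rc_8_2 lc_b_rc_26_5 lc_b_rc_6_1 lc_b_rc_26_5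 lc_b_rc_26_5 lc_b_rc_26_7 lc_b_rc_8_2 lc_b_rc_6_1 lc_b_rc_26_7 lc_b_rc_9_0 lc_b_rc_8_2 lc_b_rc_6_1 lc_b_rc_9_0 lc_b_rc_6_1 lc_b_rc_26_5 lc_b_rc_1_3 lc_b_rc_9_2 lc_b_rc_10_0 lc_b_rc_9_0 lc_b_rc_8_2 lc_b_rc_8_2 lc_b_rc_25_4 lc_b_rc_1_1 lc_b_rc_8_2 lc_b_rc_26_5 lc_b_rc_9_2 lc_b_rc_8_0 lc_b_rc_9_2 lc_b_rc_6_1 lc_b_rc_8_2 lc_b_rc_9_2 lc_b_rc_6_1 lc_b_rc_26_7 lc_b_rc_10_2 lc_b_rc_9_0 lc_b_rc_8_2 lc_b_rc_9_2 lc_b_rc_8_2 lc_b_rc_8_2 lc_b_rc_26_5 lc_b_rc_6_1 lc_b_rc_8_0 lc_b_rc_25_8 lc_b_rc_10_2 lc_b_rc_8_2 lc_b_rc_8_0 lc_b_rc_9_2 lc_b_rc_8_2 lc_b_rc_9_2 lc_b_rc_7_4 lc_b_rc_9_0 lc_b_rc_6_1 lc_b_rc_9_2 lc_b_rc_7_2 lc_b_rc_9_2 lc_b_rc_6_1 lc_b_rc_26_7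 lc_b_rc_7_0 lc_b_rc_6_1 lc_b_rc_10_2) (@D3.rec (fun _ => (Cert rels S Gen.b)) lc_b_rc_10_0 lc_b_rc_8_2 lc_b_Cert_tree lc_b_rc_8_2 lc_b_rc_1_3 lc_b_rc_8_2 lc_b_rc_6_1 lc_b_rc_8_2 lc_b_rc_8_2 lc_b_rc_26_5 lc_b_rc_9_2 lc_b_rc_8_2 lc_b_rc_9_2 lc_b_rc_25_8 lc_b_rc_9_2 lc_b_rc_6_1 lc_b_rc_6_1 lc_b_rc_26_5 lc_b_rc_9_2 lc_b_rc_26_7 lc_b_rc_9_2 lc_b_rc_25_8 lc_b_rc_9_2 lc_b_rc_7_0 lc_b_rc_26_5 lc_b_rc_9_0 lc_b_rc_6_1 lc_b_rc_26_1 lc_b_rc_9_2 lc_b_rc_9_0 lc_b_rc_10_2 lc_b_rc_6_1 lc_b_rc_10_0 lc_b_rc_7_2 lc_b_rc_10_2 lc_b_rc_9_2 lc_b_rc_7_2 lc_b_rc_9_0 lc_b_rc_6_1 lc_b_rc_26_7 lc_b_rc_7_4 lc_b_rc_9_0 lc_b_rc_8_2 lc_b_rc_6_1 lc_b_rc_8_2 lc_b_rc_10_2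 lc_b_rc_26_7 lc_b_rc_8_2 lc_b_rc_7_0 lc_b_rc_8_2 lc_b_rc_8_2 lc_b_rc_8_2 lc_b_rc_10_0 lc_b_rc_8_2 lc_b_rc_6_1 lc_b_rc_8_0 lc_b_rc_9_2 lc_b_rc_26_1 lc_b_rc_26_7 lc_b_rc_7_4 lc_b_rc_9_2 lc_b_rc_8_2) (@D3.rec (fun _ => (Cert rels S Gen.b)) lc_b_rc_9_2 lc_b_rc_25_16 lc_b_rc_6_1 lc_b_rc_8_2 lc_b_rc_8_2 lc_b_rc_9_2 lc_b_rc_8_0 lc_b_rc_7_2 lc_b_rc_8_2 lc_b_rc_6_1 lc_b_Cert_tree lc_b_rc_8_2 lc_b_rc_8_0 lc_b_rc_26_1 lc_b_rc_8_2 lc_b_rc_9_2 lc_b_rc_26_5 lc_b_rc_8_2 lc_b_rc_10_2 lc_b_rc_6_1 lc_b_rc_9_2 lc_b_rc_8_2 lc_b_rc_8_0 lc_b_rc_10_2 lc_b_Cert_tree lc_b_rc_9_2 lc_b_rc_6_1 lc_b_Cert_tree lc_b_rc_6_1 lc_b_Cert_tree lc_b_rc_10_2 lc_b_rc_8_2 lc_b_rc_9_2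 lc_b_rc_26_1 lc_b_rc_26_5 lc_b_rc_10_2 lc_b_rc_6_1 lc_b_rc_10_2 lc_b_rc_1_3 lc_b_rc_10_2 lc_b_rc_26_5 lc_b_rc_9_2 lc_b_rc_25_8 lc_b_rc_8_2 lc_b_rc_7_2 lc_b_rc_9_2 lc_b_rc_7_2 lc_b_rc_6_1 lc_b_rc_1_5 lc_b_rc_8_2 lc_b_rc_9_2 lc_b_rc_9_0 lc_b_rc_9_2 lc_b_rc_10_2 lc_b_rc_6_1 lc_b_rc_26_1 lc_b_Cert_tree lc_b_rc_9_0 lc_b_Cert_tree lc_b_rc_8_2 lc_b_rc_6_1 lc_b_rc_7_4) (@D3.rec (fun _ => (Cert rels S Gen.b)) lc_b_rc_9_0 lc_b_rc_10_0 lc_b_rc_26_5 lc_b_rc_8_2 lc_b_rc_9_2 lc_b_rc_8_0 lc_b_Cert_tree lc_b_rc_10_2 lc_b_rc_8_2 lc_b_rc_9_2 lc_b_rc_25_0 lc_b_rc_6_1 lc_b_rc_9_0 lc_b_rc_9_2 lc_b_rc_10_2 lc_b_rc_8_2 lc_b_rc_6_1 lc_b_rc_25_8 lc_b_rc_6_1 lc_b_rc_7_2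 lc_b_rc_9_2 lc_b_rc_9_0 lc_b_rc_7_2 lc_b_rc_26_7 lc_b_rc_8_2 lc_b_rc_8_2 lc_b_rc_26_1 lc_b_rc_9_2 lc_b_rc_8_2 lc_b_rc_9_2 lc_b_rc_6_1 lc_b_Cert_tree lc_b_rc_9_2 lc_b_rc_6_1 lc_b_rc_10_0 lc_b_rc_6_1 lc_b_rc_8_2 lc_b_rc_9_2 lc_b_rc_9_0 lc_b_rc_6_1 lc_b_rc_8_2 lc_b_rc_9_2 lc_b_rc_6_1 lc_b_rc_8_2 lc_b_Cert_tree lc_b_rc_6_1 lc_b_rc_7_4 lc_b_rc_9_2 lc_b_rc_26_1 lc_b_rc_8_2 lc_b_rc_10_2 lc_b_rc_1_3 lc_b_rc_6_1 lc_b_rc_9_2 lc_b_rc_26_1 lc_b_rc_10_2 lc_b_rc_10_2 lc_b_rc_9_2 lc_b_rc_6_1 lc_b_rc_26_7 lc_b_rc_10_2 lc_b_Cert_tree) (@D3.rec (fun _ => (Cert rels S Gen.b)) lc_b_rc_10_2 lc_b_Cert_tree lc_b_rc_9_2 lc_b_rc_8_2 lc_b_rc_26_7 lc_b_rc_8_2 lc_b_rc_6_1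 lc_b_rc_10_2 lc_b_rc_1_3 lc_b_rc_8_2 lc_b_rc_9_2 lc_b_rc_8_0 lc_b_rc_7_2 lc_b_rc_9_2 lc_b_rc_8_2 lc_b_rc_8_2 lc_b_rc_7_4 lc_b_rc_8_0 lc_b_rc_7_4 lc_b_rc_25_8 lc_b_rc_8_2 lc_b_rc_8_2 lc_b_rc_9_2 lc_b_rc_6_1 lc_b_rc_8_0 lc_b_rc_9_2 lc_b_rc_26_1 lc_b_rc_26_5 lc_b_rc_9_2 lc_b_rc_7_0 lc_b_rc_6_1 lc_b_rc_8_2 lc_b_rc_10_0 lc_b_rc_1_5 lc_b_rc_9_2 lc_b_rc_26_7 lc_b_Cert_tree lc_b_rc_9_2 lc_b_rc_1_5 lc_b_rc_6_1 lc_b_rc_25_4 lc_b_rc_9_2 lc_b_rc_8_2 lc_b_Cert_tree lc_b_rc_9_2 lc_b_rc_9_2 lc_b_rc_6_1 lc_b_rc_9_2 lc_b_rc_6_1 lc_b_rc_8_2 lc_b_rc_9_0 lc_b_rc_8_2 lc_b_rc_8_2 lc_b_rc_8_2 lc_b_Cert_tree lc_b_rc_9_2 lc_b_rc_10_2 lc_b_rc_8_2 lc_b_rc_7_2 lc_b_rc_6_1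 lc_b_rc_9_2 lc_b_rc_8_2) (@D3.rec (fun _ => (Cert rels S Gen.b)) lc_b_rc_9_2 lc_b_rc_7_4 lc_b_rc_9_2 lc_b_rc_1_5 lc_b_rc_9_2 lc_b_rc_7_4 lc_b_rc_9_2 lc_b_rc_8_2 lc_b_rc_26_5 lc_b_rc_8_2 lc_b_rc_9_2 lc_b_rc_7_2 lc_b_rc_8_0 lc_b_rc_26_7 lc_b_rc_10_2 lc_b_rc_6_1 lc_b_rc_9_2 lc_b_rc_9_0 lc_b_rc_7_0 lc_b_rc_8_2 lc_b_rc_8_2 lc_b_rc_26_5 lc_b_Cert_tree lc_b_rc_1_5 lc_b_rc_25_4 lc_b_rc_8_2 lc_b_Cert_tree lc_b_rc_6_1 lc_b_rc_26_5 lc_b_rc_9_2 lc_b_rc_1_5 lc_b_rc_6_1 lc_b_rc_8_2 lc_b_rc_1_5 lc_b_rc_8_2 lc_b_rc_8_2 lc_b_rc_10_2 lc_b_rc_8_2 lc_b_rc_8_2 lc_b_rc_9_2 lc_b_rc_26_1 lc_b_rc_26_5 lc_b_rc_10_2 lc_b_rc_8_2 lc_b_rc_26_7 lc_b_rc_7_2 lc_b_rc_8_2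 lc_b_rc_7_4 lc_b_rc_7_2 lc_b_rc_1_1 lc_b_Cert_tree lc_b_rc_6_1 lc_b_rc_8_2 lc_b_rc_10_0 lc_b_rc_6_1 lc_b_rc_8_2 lc_b_rc_8_2 lc_b_rc_9_2 lc_b_Cert_tree lc_b_rc_6_1 lc_b_rc_6_1 lc_b_rc_9_2) (@D3.rec (fun _ => (Cert rels S Gen.b)) lc_b_rc_9_2 lc_b_rc_8_2 lc_b_rc_10_2 lc_b_rc_8_2 lc_b_rc_8_2 lc_b_rc_8_2 lc_b_rc_7_4 lc_b_rc_7_0 lc_b_rc_9_2 lc_b_rc_26_5 lc_b_rc_26_1 lc_b_rc_6_1 lc_b_rc_9_2 lc_b_rc_6_1 lc_b_rc_10_2 lc_b_rc_8_2 lc_b_rc_9_2 lc_b_rc_26_5 lc_b_rc_6_1 lc_b_rc_26_7 lc_b_rc_26_5 lc_b_rc_8_2 lc_b_rc_10_2 lc_b_rc_8_2 lc_b_rc_26_1 lc_b_rc_1_1 lc_b_rc_26_7 lc_b_rc_9_2 lc_b_rc_26_7 lc_b_rc_8_0 lc_b_rc_26_1 lc_b_rc_9_2 lc_b_rc_6_1 lc_b_rc_26_7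 lc_b_rc_25_4 lc_b_rc_6_1 lc_b_rc_9_0 lc_b_rc_8_0 lc_b_rc_6_1 lc_b_rc_26_7 lc_b_rc_25_8 lc_b_rc_9_0 lc_b_rc_8_2 lc_b_rc_9_2 lc_b_rc_8_2 lc_b_rc_8_2 lc_b_rc_10_2 lc_b_rc_9_0 lc_b_rc_8_2 lc_b_rc_7_4 lc_b_rc_1_5 lc_b_rc_10_2 lc_b_rc_6_1 lc_b_rc_26_7 lc_b_rc_7_2 lc_b_rc_8_2 lc_b_rc_9_2 lc_b_rc_6_1 lc_b_rc_10_0 lc_b_rc_9_0 lc_b_rc_8_2 lc_b_rc_7_4) (@D3.rec (fun _ => (Cert rels S Gen.b)) lc_b_rc_25_4 lc_b_rc_9_2 lc_b_rc_6_1 lc_b_rc_8_2 lc_b_rc_26_5 lc_b_rc_8_2 lc_b_rc_6_1 lc_b_rc_8_2 lc_b_rc_9_2 lc_b_rc_6_1 lc_b_rc_25_8 lc_b_rc_7_2 lc_b_rc_7_0 lc_b_rc_1_3 lc_b_rc_8_2 lc_b_rc_10_2 lc_b_rc_8_2 lc_b_Cert_tree lc_b_rc_1_1 lc_b_rc_9_2 lc_b_rc_6_1 lc_b_rc_8_2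 lc_b_rc_6_1 lc_b_rc_7_0 lc_b_rc_10_2 lc_b_rc_9_2 lc_b_Cert_tree lc_b_Cert_tree lc_b_rc_6_1 lc_b_rc_9_2 lc_b_rc_26_7 lc_b_rc_7_0 lc_b_rc_6_1 lc_b_Cert_tree lc_b_rc_1_3 lc_b_rc_9_0 lc_b_rc_8_2 lc_b_rc_7_4 lc_b_rc_7_2 lc_b_rc_9_2 lc_b_rc_6_1 lc_b_rc_10_2 lc_b_rc_8_2 lc_b_rc_8_2 lc_b_rc_1_3 lc_b_rc_8_2 lc_b_rc_7_4 lc_b_rc_9_2 lc_b_rc_26_1 lc_b_rc_7_0 lc_b_Cert_tree lc_b_rc_7_4 lc_b_rc_9_2 lc_b_rc_25_12 lc_b_rc_26_7 lc_b_rc_6_1 lc_b_rc_8_2 lc_b_Cert_tree lc_b_rc_9_2 lc_b_rc_7_4 lc_b_rc_9_2 lc_b_Cert_tree)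
def ce_b_24 : D2 → D3 → (Cert rels S Gen.b) := @D2.rec (fun _ => D3 → (Cert rels S Gen.b)) (@D3.rec (fun _ => (Cert rels S Gen.b)) lc_b_rc_26_7 lc_b_rc_10_2 lc_b_rc_8_2 lc_b_rc_7_4 lc_b_rc_9_2 lc_b_rc_9_2 lc_b_rc_10_2 lc_b_rc_8_2 lc_b_rc_1_3 lc_b_rc_9_2 lc_b_rc_6_1 lc_b_rc_8_2 lc_b_rc_6_1 lc_b_rc_26_1 lc_b_Cert_tree lc_b_rc_8_2 lc_b_rc_26_7 lc_b_rc_10_2 lc_b_Cert_tree lc_b_rc_7_4 lc_b_rc_6_1 lc_b_rc_8_2 lc_b_rc_6_1 lc_b_rc_8_2 lc_b_rc_9_2 lc_b_rc_8_2 lc_b_rc_8_2 lc_b_rc_1_5 lc_b_rc_26_5 lc_b_rc_1_5 lc_b_rc_7_2 lc_b_rc_8_2 lc_b_rc_9_2 lc_b_rc_8_2 lc_b_rc_9_2 lc_b_rc_9_2 lc_b_rc_26_5 lc_b_rc_9_2 lc_b_rc_1_5 lc_b_rc_9_2 lc_b_rc_10_2 lc_b_rc_9_2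 lc_b_rc_7_2 lc_b_rc_10_2 lc_b_rc_6_1 lc_b_rc_1_5 lc_b_rc_8_0 lc_b_Cert_tree lc_b_rc_7_0 lc_b_rc_9_2 lc_b_rc_26_7 lc_b_rc_6_1 lc_b_rc_25_4 lc_b_rc_8_2 lc_b_rc_8_2 lc_b_rc_8_2 lc_b_rc_8_2 lc_b_rc_9_2 lc_b_rc_8_0 lc_b_Cert_tree lc_b_rc_9_2 lc_b_rc_6_1) (@D3.rec (fun _ => (Cert rels S Gen.b)) lc_b_rc_9_2 lc_b_rc_6_1 lc_b_Cert_tree lc_b_rc_9_2 lc_b_rc_7_4 lc_b_rc_6_1 lc_b_rc_9_2 lc_b_rc_25_8 lc_b_rc_9_2 lc_b_rc_7_4 lc_b_rc_26_5 lc_b_rc_8_0 lc_b_rc_26_1 lc_b_rc_8_0 lc_b_rc_10_2 lc_b_rc_9_2 lc_b_Cert_tree lc_b_rc_26_5 lc_b_Cert_tree lc_b_rc_7_4 lc_b_rc_9_2 lc_b_rc_10_2 lc_b_rc_9_2 lc_b_rc_7_4 lc_b_rc_6_1 lc_b_rc_7_4 lc_b_rc_6_1 lc_b_rc_8_2 lc_b_rc_6_1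 lc_b_rc_6_1 lc_b_rc_8_0 lc_b_Cert_tree lc_b_rc_8_2 lc_b_Cert_tree lc_b_rc_8_2 lc_b_rc_8_2 lc_b_rc_9_0 lc_b_rc_1_5 lc_b_rc_6_1 lc_b_rc_25_4 lc_b_Cert_tree lc_b_rc_8_2 lc_b_Cert_tree lc_b_rc_8_0 lc_b_rc_9_2 lc_b_rc_26_5 lc_b_rc_8_2 lc_b_rc_10_2 lc_b_rc_9_2 lc_b_rc_9_2 lc_b_rc_8_2 lc_b_rc_7_4 lc_b_rc_6_1 lc_b_rc_8_2 lc_b_rc_10_2 lc_b_rc_8_2 lc_b_rc_9_2 lc_b_rc_8_2 lc_b_rc_9_2 lc_b_rc_6_1 lc_b_rc_26_5 lc_b_rc_25_16) (@D3.rec (fun _ => (Cert rels S Gen.b)) lc_b_rc_10_2 lc_b_rc_8_2 lc_b_rc_9_2 lc_b_rc_7_4 lc_b_rc_26_5 lc_b_rc_7_2 lc_b_rc_9_2 lc_b_rc_6_1 lc_b_rc_7_4 lc_b_rc_9_2 lc_b_rc_9_0 lc_b_rc_9_2 lc_b_rc_6_1 lc_b_rc_26_1 lc_b_rc_10_2 lc_b_rc_9_2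 lc_b_rc_9_2 lc_b_rc_26_1 lc_b_rc_9_2 lc_b_rc_8_2 lc_b_rc_1_5 lc_b_rc_8_2 lc_b_rc_8_0 lc_b_Cert_tree lc_b_Cert_tree lc_b_rc_9_2 lc_b_rc_6_1 lc_b_rc_8_2 lc_b_rc_8_2 lc_b_rc_6_1 lc_b_rc_9_2 lc_b_rc_6_1 lc_b_rc_8_0 lc_b_rc_1_1 lc_b_rc_7_4 lc_b_rc_26_7 lc_b_rc_6_1 lc_b_rc_8_2 lc_b_rc_9_2 lc_b_rc_10_2 lc_b_rc_8_2 lc_b_rc_26_5 lc_b_rc_8_2 lc_b_rc_10_0 lc_b_rc_26_7 lc_b_rc_8_0 lc_b_rc_8_2 lc_b_Cert_tree lc_b_rc_9_2 lc_b_rc_1_5 lc_b_rc_6_1 lc_b_rc_8_2 lc_b_rc_10_2 lc_b_rc_26_1 lc_b_rc_10_0 lc_b_rc_9_2 lc_b_rc_1_5 lc_b_rc_9_2 lc_b_rc_6_1 lc_b_rc_8_2 lc_b_rc_26_5 lc_b_rc_8_2) (@D3.rec (fun _ => (Cert rels S Gen.b)) lc_b_rc_10_2 lc_b_rc_10_0 lc_b_rc_8_2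 lc_b_rc_6_1 lc_b_rc_7_4 lc_b_rc_10_2 lc_b_Cert_tree lc_b_rc_9_2 lc_b_rc_6_1 lc_b_rc_9_2 lc_b_rc_10_2 lc_b_rc_6_1 lc_b_rc_1_5 lc_b_rc_6_1 lc_b_rc_8_2 lc_b_rc_9_2 lc_b_Cert_tree lc_b_rc_10_2 lc_b_Cert_tree lc_b_rc_8_2 lc_b_Cert_tree lc_b_rc_26_7 lc_b_rc_9_2 lc_b_Cert_tree lc_b_rc_6_1 lc_b_rc_25_4 lc_b_rc_9_2 lc_b_rc_6_1 lc_b_rc_8_2 lc_b_rc_8_0 lc_b_rc_6_1 lc_b_rc_9_0 lc_b_rc_10_2 lc_b_rc_9_2 lc_b_rc_9_2 lc_b_rc_26_7 lc_b_rc_1_5 lc_b_rc_8_2 lc_b_rc_9_0 lc_b_rc_7_2 lc_b_rc_8_2 lc_b_rc_26_7 lc_b_rc_8_2 lc_b_rc_26_7 lc_b_rc_9_2 lc_b_rc_6_1 lc_b_rc_7_2 lc_b_rc_9_2 lc_b_rc_25_4 lc_b_rc_9_2 lc_b_Cert_tree lc_b_rc_9_2 lc_b_rc_7_0 lc_b_rc_1_5 lc_b_rc_6_1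 lc_b_rc_8_2 lc_b_rc_9_2 lc_b_rc_7_0 lc_b_rc_8_0 lc_b_rc_8_2 lc_b_rc_10_2 lc_b_rc_25_4) (@D3.rec (fun _ => (Cert rels S Gen.b)) lc_b_rc_26_5 lc_b_rc_8_0 lc_b_rc_9_2 lc_b_rc_7_0 lc_b_rc_9_0 lc_b_rc_10_2 lc_b_rc_6_1 lc_b_rc_9_0 lc_b_rc_8_2 lc_b_rc_10_2 lc_b_rc_6_1 lc_b_rc_26_7 lc_b_rc_9_2 lc_b_rc_7_0 lc_b_rc_6_1 lc_b_rc_8_2 lc_b_rc_9_2 lc_b_rc_6_1 lc_b_rc_6_1 lc_b_rc_10_2 lc_b_rc_6_1 lc_b_rc_1_3 lc_b_rc_9_2 lc_b_rc_7_2 lc_b_Cert_tree lc_b_rc_9_0 lc_b_rc_10_2 lc_b_rc_8_2 lc_b_rc_26_7 lc_b_rc_26_7 lc_b_rc_9_2 lc_b_rc_1_5 lc_b_rc_6_1 lc_b_rc_8_2 lc_b_rc_9_2 lc_b_rc_26_1 lc_b_rc_9_0 lc_b_rc_10_2 lc_b_rc_7_2 lc_b_rc_1_3 lc_b_rc_9_2 lc_b_rc_7_2 lc_b_rc_26_5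 lc_b_rc_8_2 lc_b_rc_26_5 lc_b_rc_25_16 lc_b_rc_9_0 lc_b_rc_1_5 lc_b_rc_9_2 lc_b_rc_7_4 lc_b_rc_26_7 lc_b_rc_6_1 lc_b_rc_6_1 lc_b_rc_10_2 lc_b_rc_9_2 lc_b_rc_6_1 lc_b_rc_9_2 lc_b_rc_8_0 lc_b_rc_9_2 lc_b_rc_8_0 lc_b_rc_6_1 lc_b_rc_26_1) (@D3.rec (fun _ => (Cert rels S Gen.b)) lc_b_rc_9_2 lc_b_rc_7_0 lc_b_rc_6_1 lc_b_rc_6_1 lc_b_Cert_tree lc_b_rc_9_2 lc_b_rc_10_2 lc_b_rc_1_3 lc_b_rc_6_1 lc_b_rc_26_5 lc_b_rc_6_1 lc_b_rc_6_1 lc_b_rc_8_2 lc_b_rc_6_1 lc_b_rc_6_1 lc_b_rc_26_7 lc_b_rc_8_2 lc_b_rc_8_2 lc_b_rc_6_1 lc_b_Cert_tree lc_b_rc_9_2 lc_b_Cert_tree lc_b_rc_25_0 lc_b_rc_10_2 lc_b_rc_6_1 lc_b_Cert_tree lc_b_rc_8_2 lc_b_rc_7_4 lc_b_rc_8_2 lc_b_rc_7_4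 lc_b_rc_8_2 lc_b_rc_6_1 lc_b_rc_26_7 lc_b_rc_9_0 lc_b_rc_6_1 lc_b_rc_6_1 lc_b_rc_8_2 lc_b_rc_6_1 lc_b_rc_1_5 lc_b_rc_9_2 lc_b_rc_26_5 lc_b_rc_6_1 lc_b_rc_6_1 lc_b_rc_9_2 lc_b_rc_10_2 lc_b_rc_1_5 lc_b_Cert_tree lc_b_rc_9_2 lc_b_rc_26_1 lc_b_rc_26_5 lc_b_rc_8_2 lc_b_rc_1_3 lc_b_rc_9_2 lc_b_rc_26_1 lc_b_rc_6_1 lc_b_rc_9_0 lc_b_rc_9_2 lc_b_rc_6_1 lc_b_rc_7_2 lc_b_rc_9_2 lc_b_rc_8_0 lc_b_rc_8_2) (@D3.rec (fun _ => (Cert rels S Gen.b)) lc_b_rc_6_1 lc_b_rc_6_1 lc_b_rc_9_2 lc_b_Cert_tree lc_b_rc_9_0 lc_b_rc_6_1 lc_b_rc_8_2 lc_b_rc_26_5 lc_b_rc_26_7 lc_b_rc_8_2 lc_b_rc_6_1 lc_b_rc_1_3 lc_b_rc_9_2 lc_b_rc_9_2 lc_b_rc_7_0 lc_b_rc_26_1 lc_b_rc_9_2 lc_b_rc_9_2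 lc_b_rc_8_2 lc_b_rc_8_2 lc_b_rc_6_1 lc_b_rc_7_4 lc_b_rc_9_2 lc_b_rc_8_0 lc_b_rc_26_1 lc_b_rc_8_2 lc_b_rc_8_2 lc_b_rc_8_2 lc_b_rc_26_5 lc_b_rc_9_2 lc_b_Cert_tree lc_b_rc_6_1 lc_b_Cert_tree lc_b_rc_7_4 lc_b_rc_9_2 lc_b_rc_9_2 lc_b_rc_7_0 lc_b_rc_6_1 lc_b_rc_8_2 lc_b_rc_10_2 lc_b_rc_9_0 lc_b_rc_10_2 lc_b_rc_8_2 lc_b_rc_9_2 lc_b_Cert_tree lc_b_rc_1_5 lc_b_rc_26_5 lc_b_rc_9_2 lc_b_rc_1_1 lc_b_rc_8_2 lc_b_rc_9_2 lc_b_rc_6_1 lc_b_rc_8_2 lc_b_rc_1_5 lc_b_rc_1_5 lc_b_rc_7_2 lc_b_rc_8_2 lc_b_rc_10_2 lc_b_Cert_tree lc_b_Cert_tree lc_b_rc_8_2 lc_b_rc_8_0) (@D3.rec (fun _ => (Cert rels S Gen.b)) lc_b_rc_10_2 lc_b_rc_1_3 lc_b_rc_1_3 lc_b_rc_9_2 lc_b_rc_26_1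 lc_b_rc_26_1 lc_b_rc_10_2 lc_b_rc_26_7 lc_b_rc_8_2 lc_b_rc_7_2 lc_b_rc_26_1 lc_b_rc_25_4 lc_b_rc_7_2 lc_b_rc_9_2 lc_b_rc_26_7 lc_b_rc_25_16 lc_b_rc_6_1 lc_b_rc_9_2 lc_b_rc_9_2 lc_b_rc_26_7 lc_b_rc_8_2 lc_b_rc_8_2 lc_b_rc_9_2 lc_b_rc_6_1 lc_b_rc_7_2 lc_b_rc_8_0 lc_b_rc_8_0 lc_b_rc_25_8 lc_b_rc_9_2 lc_b_rc_8_2 lc_b_rc_10_2 lc_b_rc_8_2 lc_b_rc_6_1 lc_b_rc_9_2 lc_b_rc_6_1 lc_b_rc_6_1 lc_b_rc_7_4 lc_b_rc_6_1 lc_b_rc_9_2 lc_b_rc_6_1 lc_b_rc_9_2 lc_b_rc_9_0 lc_b_rc_8_2 lc_b_rc_26_7 lc_b_rc_10_2 lc_b_rc_8_0 lc_b_rc_10_2 lc_b_rc_26_5 lc_b_rc_9_2 lc_b_rc_6_1 lc_b_rc_7_4 lc_b_rc_10_0 lc_b_rc_1_3 lc_b_rc_8_2 lc_b_rc_10_2 lc_b_rc_26_1 lc_b_rc_6_1 lc_b_rc_1_5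 lc_b_rc_9_2 lc_b_rc_9_2 lc_b_rc_6_1 lc_b_rc_8_2) (@D3.rec (fun _ => (Cert rels S Gen.b)) lc_b_rc_10_2 lc_b_rc_6_1 lc_b_rc_9_2 lc_b_rc_6_1 lc_b_rc_26_5 lc_b_rc_26_1 lc_b_rc_8_2 lc_b_rc_7_4 lc_b_rc_6_1 lc_b_rc_26_7 lc_b_rc_7_0 lc_b_rc_26_5 lc_b_rc_8_2 lc_b_rc_9_2 lc_b_rc_9_2 lc_b_rc_9_2 lc_b_rc_1_5 lc_b_rc_8_0 lc_b_rc_10_2 lc_b_rc_6_1 lc_b_rc_25_0 lc_b_rc_1_5 lc_b_rc_10_2 lc_b_rc_10_0 lc_b_rc_9_2 lc_b_rc_9_2 lc_b_rc_8_2 lc_b_rc_10_2 lc_b_rc_6_1 lc_b_rc_6_1 lc_b_rc_10_2 lc_b_rc_6_1 lc_b_rc_25_0 lc_b_rc_1_5 lc_b_rc_26_5 lc_b_rc_8_2 lc_b_rc_10_2 lc_b_rc_10_2 lc_b_rc_26_1 lc_b_rc_8_0 lc_b_rc_7_0 lc_b_rc_7_4 lc_b_rc_25_0 lc_b_rc_8_2 lc_b_rc_10_0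 lc_b_rc_7_2 lc_b_rc_8_2 lc_b_rc_9_2 lc_b_rc_1_3 lc_b_rc_1_1 lc_b_rc_6_1 lc_b_rc_8_2 lc_b_rc_9_2 lc_b_rc_1_1 lc_b_rc_9_2 lc_b_rc_9_2 lc_b_rc_6_1 lc_b_rc_26_1 lc_b_rc_9_2 lc_b_rc_25_0 lc_b_rc_9_2 lc_b_rc_7_4) (@D3.rec (fun _ => (Cert rels S Gen.b)) lc_b_rc_6_1 lc_b_rc_9_0 lc_b_rc_26_7 lc_b_rc_26_7 lc_b_rc_9_2 lc_b_rc_8_2 lc_b_rc_25_16 lc_b_rc_10_0 lc_b_rc_8_0 lc_b_rc_10_2 lc_b_rc_6_1 lc_b_Cert_tree lc_b_rc_9_2 lc_b_rc_6_1 lc_b_rc_9_0 lc_b_rc_1_1 lc_b_rc_6_1 lc_b_rc_9_0 lc_b_rc_26_5 lc_b_rc_9_2 lc_b_rc_1_1 lc_b_rc_9_2 lc_b_rc_9_0 lc_b_rc_7_0 lc_b_rc_10_2 lc_b_rc_6_1 lc_b_rc_9_2 lc_b_rc_6_1 lc_b_rc_9_2 lc_b_rc_8_0 lc_b_rc_7_2 lc_b_rc_7_2 lc_b_rc_8_2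 lc_b_rc_8_0 lc_b_rc_10_2 lc_b_rc_9_2 lc_b_rc_6_1 lc_b_rc_26_7 lc_b_rc_9_0 lc_b_rc_8_0 lc_b_rc_9_0 lc_b_rc_9_2 lc_b_rc_26_7 lc_b_rc_8_0 lc_b_rc_26_1 lc_b_rc_26_1 lc_b_rc_8_2 lc_b_rc_9_2 lc_b_rc_8_2 lc_b_rc_26_1 lc_b_rc_26_7 lc_b_rc_6_1 lc_b_rc_26_7 lc_b_rc_8_2 lc_b_Cert_tree lc_b_rc_9_2 lc_b_rc_10_2 lc_b_rc_9_2 lc_b_rc_10_0 lc_b_rc_6_1 lc_b_rc_8_2 lc_b_rc_26_7) (@D3.rec (fun _ => (Cert rels S Gen.b)) lc_b_rc_9_2 lc_b_rc_8_2 lc_b_rc_7_4 lc_b_rc_26_1 lc_b_rc_9_2 lc_b_rc_8_2 lc_b_rc_8_0 lc_b_rc_8_2 lc_b_rc_26_5 lc_b_rc_8_2 lc_b_rc_6_1 lc_b_rc_7_4 lc_b_rc_9_2 lc_b_rc_9_2 lc_b_rc_8_2 lc_b_rc_9_2 lc_b_rc_8_2 lc_b_rc_9_2 lc_b_rc_26_1 lc_b_rc_6_1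 lc_b_rc_10_2 lc_b_rc_10_2 lc_b_rc_9_2 lc_b_rc_9_2 lc_b_rc_9_2 lc_b_rc_1_5 lc_b_rc_26_5 lc_b_rc_8_2 lc_b_rc_9_2 lc_b_rc_9_2 lc_b_rc_6_1 lc_b_rc_1_1 lc_b_rc_10_2 lc_b_rc_6_1 lc_b_rc_7_0 lc_b_rc_6_1 lc_b_rc_25_4 lc_b_rc_8_2 lc_b_rc_26_5 lc_b_rc_9_2 lc_b_rc_6_1 lc_b_rc_8_2 lc_b_rc_10_2 lc_b_rc_9_2 lc_b_rc_26_7 lc_b_rc_6_1 lc_b_rc_26_5 lc_b_rc_10_0 lc_b_rc_6_1 lc_b_rc_8_2 lc_b_rc_10_2 lc_b_Cert_tree lc_b_rc_7_0 lc_b_rc_7_2 lc_b_rc_9_2 lc_b_rc_26_5 lc_b_rc_10_2 lc_b_rc_9_2 lc_b_rc_8_2 lc_b_rc_26_5 lc_b_rc_6_1 lc_b_Cert_tree) (@D3.rec (fun _ => (Cert rels S Gen.b)) lc_b_rc_10_2 lc_b_rc_25_4 lc_b_rc_9_2 lc_b_rc_7_4 lc_b_rc_6_1 lc_b_rc_6_1 lc_b_rc_7_2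 lc_b_rc_10_2 lc_b_rc_6_1 lc_b_rc_10_2 lc_b_rc_6_1 lc_b_rc_9_2 lc_b_rc_6_1 lc_b_rc_10_2 lc_b_rc_8_2 lc_b_rc_9_2 lc_b_rc_10_2 lc_b_rc_9_2 lc_b_rc_6_1 lc_b_rc_6_1 lc_b_rc_26_1 lc_b_rc_6_1 lc_b_rc_8_2 lc_b_rc_9_2 lc_b_rc_8_2 lc_b_Cert_tree lc_b_rc_8_2 lc_b_rc_7_4 lc_b_rc_8_2 lc_b_rc_10_2 lc_b_rc_26_1 lc_b_rc_7_2 lc_b_rc_8_2 lc_b_rc_9_2 lc_b_rc_26_5 lc_b_rc_26_1 lc_b_rc_10_2 lc_b_rc_26_5 lc_b_rc_8_2 lc_b_rc_26_5 lc_b_rc_6_1 lc_b_rc_1_3 lc_b_rc_7_4 lc_b_rc_9_2 lc_b_rc_1_3 lc_b_rc_10_2 lc_b_rc_26_5 lc_b_rc_1_3 lc_b_rc_7_4 lc_b_rc_9_2 lc_b_rc_8_2 lc_b_rc_10_2 lc_b_rc_10_2 lc_b_rc_9_2 lc_b_rc_9_2 lc_b_rc_26_1 lc_b_rc_8_0 lc_b_rc_6_1 lc_b_rc_26_1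 lc_b_rc_9_2 lc_b_rc_1_5 lc_b_rc_7_2) (@D3.rec (fun _ => (Cert rels S Gen.b)) lc_b_rc_8_2 lc_b_rc_1_3 lc_b_Cert_tree lc_b_rc_8_2 lc_b_Cert_tree lc_b_rc_9_2 lc_b_rc_7_0 lc_b_rc_6_1 lc_b_rc_9_0 lc_b_rc_7_2 lc_b_rc_9_2 lc_b_Cert_tree lc_b_rc_6_1 lc_b_rc_7_4 lc_b_rc_9_2 lc_b_rc_7_4 lc_b_rc_1_1 lc_b_rc_6_1 lc_b_rc_8_2 lc_b_rc_1_3 lc_b_rc_1_3 lc_b_rc_1_5 lc_b_rc_26_5 lc_b_Cert_tree lc_b_rc_9_2 lc_b_rc_26_7 lc_b_rc_9_2 lc_b_rc_6_1 lc_b_rc_6_1 lc_b_Cert_tree lc_b_rc_8_2 lc_b_rc_8_2 lc_b_rc_9_2 lc_b_rc_26_1 lc_b_rc_26_1 lc_b_rc_9_2 lc_b_rc_26_7 lc_b_rc_25_16 lc_b_rc_25_16 lc_b_rc_9_2 lc_b_rc_26_7 lc_b_rc_6_1 lc_b_rc_6_1 lc_b_rc_10_2 lc_b_rc_9_2 lc_b_rc_26_5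 lc_b_rc_1_3 lc_b_rc_9_2 lc_b_rc_9_2 lc_b_rc_6_1 lc_b_rc_8_2 lc_b_rc_1_5 lc_b_rc_26_5 lc_b_rc_10_2 lc_b_rc_8_2 lc_b_rc_6_1 lc_b_rc_9_2 lc_b_rc_7_0 lc_b_rc_9_2 lc_b_rc_8_0 lc_b_rc_10_2 lc_b_rc_8_2) (@D3.rec (fun _ => (Cert rels S Gen.b)) lc_b_rc_9_2 lc_b_rc_6_1 lc_b_rc_8_2 lc_b_rc_9_2 lc_b_rc_26_1 lc_b_rc_8_2 lc_b_rc_10_2 lc_b_rc_9_2 lc_b_rc_6_1 lc_b_rc_8_2 lc_b_rc_9_2 lc_b_rc_8_0 lc_b_rc_6_1 lc_b_rc_10_2 lc_b_rc_6_1 lc_b_rc_26_5 lc_b_rc_6_1 lc_b_rc_7_0 lc_b_rc_9_2 lc_b_rc_7_0 lc_b_rc_1_1 lc_b_rc_1_3 lc_b_rc_8_2 lc_b_rc_10_2 lc_b_Cert_tree lc_b_rc_6_1 lc_b_rc_26_1 lc_b_rc_9_2 lc_b_rc_8_2 lc_b_rc_9_2 lc_b_rc_8_0 lc_b_rc_9_2 lc_b_rc_7_4 lc_b_rc_7_0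 lc_b_rc_6_1 lc_b_rc_10_2 lc_b_rc_9_0 lc_b_rc_26_7 lc_b_rc_9_2 lc_b_rc_10_2 lc_b_rc_9_2 lc_b_rc_9_2 lc_b_rc_6_1 lc_b_rc_9_2 lc_b_rc_6_1 lc_b_rc_10_2 lc_b_rc_26_5 lc_b_rc_6_1 lc_b_rc_9_0 lc_b_rc_8_2 lc_b_Cert_tree lc_b_rc_6_1 lc_b_rc_10_0 lc_b_rc_9_2 lc_b_rc_10_2 lc_b_rc_8_2 lc_b_rc_9_0 lc_b_rc_7_2 lc_b_Cert_tree lc_b_rc_6_1 lc_b_rc_10_2 lc_b_rc_9_0) (@D3.rec (fun _ => (Cert rels S Gen.b)) lc_b_rc_8_2 lc_b_rc_8_2 lc_b_rc_8_2 lc_b_rc_10_2 lc_b_rc_9_2 lc_b_rc_10_2 lc_b_rc_10_2 lc_b_rc_26_1 lc_b_rc_8_2 lc_b_rc_9_2 lc_b_rc_1_3 lc_b_rc_26_7 lc_b_rc_6_1 lc_b_rc_8_0 lc_b_rc_9_2 lc_b_rc_25_0 lc_b_rc_25_0 lc_b_rc_6_1 lc_b_rc_6_1 lc_b_rc_8_2 lc_b_rc_6_1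 lc_b_rc_1_5 lc_b_rc_7_2 lc_b_rc_8_2 lc_b_rc_26_5 lc_b_rc_1_3 lc_b_rc_8_2 lc_b_rc_6_1 lc_b_rc_6_1 lc_b_rc_10_0 lc_b_rc_10_0 lc_b_rc_6_1 lc_b_rc_7_2 lc_b_rc_10_2 lc_b_rc_8_2 lc_b_rc_26_5 lc_b_rc_9_2 lc_b_rc_9_2 lc_b_rc_9_2 lc_b_rc_8_2 lc_b_Cert_tree lc_b_rc_26_1 lc_b_rc_9_2 lc_b_rc_25_8 lc_b_rc_6_1 lc_b_rc_8_2 lc_b_rc_6_1 lc_b_rc_6_1 lc_b_rc_10_0 lc_b_rc_8_2 lc_b_rc_26_5 lc_b_rc_10_2 lc_b_rc_8_2 lc_b_rc_26_7 lc_b_rc_8_0 lc_b_rc_8_2 lc_b_rc_8_2 lc_b_rc_9_2 lc_b_Cert_tree lc_b_rc_10_2 lc_b_rc_6_1 lc_b_rc_26_7) (@D3.rec (fun _ => (Cert rels S Gen.b)) lc_b_rc_7_4 lc_b_rc_9_2 lc_b_rc_7_0 lc_b_rc_9_0 lc_b_rc_6_1 lc_b_rc_9_0 lc_b_rc_9_2 lc_b_rc_6_1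 lc_b_rc_25_16 lc_b_rc_7_0 lc_b_rc_10_2 lc_b_Cert_tree lc_b_rc_9_2 lc_b_rc_6_1 lc_b_rc_9_2 lc_b_rc_6_1 lc_b_rc_10_2 lc_b_rc_6_1 lc_b_rc_10_0 lc_b_Cert_tree lc_b_rc_9_0 lc_b_rc_7_2 lc_b_rc_8_2 lc_b_rc_8_2 lc_b_rc_8_2 lc_b_rc_8_2 lc_b_rc_10_2 lc_b_rc_10_2 lc_b_rc_6_1 lc_b_rc_9_0 lc_b_rc_26_5 lc_b_rc_9_2 lc_b_rc_1_5 lc_b_rc_8_2 lc_b_rc_10_2 lc_b_rc_26_5 lc_b_rc_9_2 lc_b_rc_6_1 lc_b_rc_9_0 lc_b_rc_8_2 lc_b_rc_10_2 lc_b_rc_8_2 lc_b_rc_10_2 lc_b_rc_6_1 lc_b_rc_6_1 lc_b_rc_9_2 lc_b_rc_8_2 lc_b_rc_8_2 lc_b_rc_10_2 lc_b_Cert_tree lc_b_rc_7_2 lc_b_rc_9_2 lc_b_rc_9_2 lc_b_rc_10_2 lc_b_rc_9_2 lc_b_rc_10_2 lc_b_rc_7_2 lc_b_rc_1_3 lc_b_rc_26_1 lc_b_rc_9_2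 lc_b_rc_6_1 lc_b_rc_8_2) (@D3.rec (fun _ => (Cert rels S Gen.b)) lc_b_rc_9_2 lc_b_rc_8_2 lc_b_rc_8_2 lc_b_rc_6_1 lc_b_rc_26_7 lc_b_rc_9_2 lc_b_rc_6_1 lc_b_rc_26_5 lc_b_rc_1_1 lc_b_rc_10_2 lc_b_rc_10_2 lc_b_rc_9_2 lc_b_rc_7_2 lc_b_rc_26_1 lc_b_rc_8_0 lc_b_rc_1_5 lc_b_rc_1_1 lc_b_rc_6_1 lc_b_rc_6_1 lc_b_rc_7_0 lc_b_rc_10_0 lc_b_rc_9_2 lc_b_rc_6_1 lc_b_rc_9_0 lc_b_rc_8_2 lc_b_rc_6_1 lc_b_rc_25_16 lc_b_rc_6_1 lc_b_rc_26_1 lc_b_rc_9_2 lc_b_Cert_tree lc_b_rc_6_1 lc_b_rc_1_1 lc_b_rc_9_2 lc_b_rc_26_1 lc_b_rc_25_16 lc_b_rc_26_5 lc_b_rc_25_8 lc_b_rc_1_5 lc_b_rc_26_7 lc_b_rc_9_2 lc_b_rc_9_2 lc_b_rc_6_1 lc_b_rc_8_2 lc_b_rc_8_2 lc_b_rc_1_1 lc_b_Cert_tree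 lc_b_rc_9_2 lc_b_rc_9_0 lc_b_rc_6_1 lc_b_rc_6_1 lc_b_rc_26_1 lc_b_rc_9_0 lc_b_rc_10_2 lc_b_rc_1_5 lc_b_rc_6_1 lc_b_rc_9_0 lc_b_rc_8_2 lc_b_rc_9_2 lc_b_rc_9_2 lc_b_rc_26_1 lc_b_rc_7_0) (@D3.rec (fun _ => (Cert rels S Gen.b)) lc_b_rc_6_1 lc_b_rc_26_5 lc_b_rc_9_2 lc_b_rc_26_5 lc_b_rc_9_2 lc_b_rc_8_2 lc_b_Cert_tree lc_b_rc_9_2 lc_b_rc_6_1 lc_b_rc_8_2 lc_b_rc_6_1 lc_b_Cert_tree lc_b_rc_8_2 lc_b_rc_10_2 lc_b_rc_7_0 lc_b_rc_6_1 lc_b_rc_1_3 lc_b_rc_8_2 lc_b_rc_7_0 lc_b_rc_26_1 lc_b_rc_1_5 lc_b_rc_8_2 lc_b_rc_7_4 lc_b_rc_6_1 lc_b_rc_9_2 lc_b_Cert_tree lc_b_rc_1_3 lc_b_rc_7_4 lc_b_rc_8_2 lc_b_rc_9_2 lc_b_rc_1_5 lc_b_rc_1_1 lc_b_rc_1_5 lc_b_rc_7_4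 lc_b_rc_9_0 lc_b_rc_26_1 lc_b_rc_8_2 lc_b_rc_8_0 lc_b_rc_26_1 lc_b_rc_6_1 lc_b_rc_26_5 lc_b_rc_26_5 lc_b_rc_26_5 lc_b_rc_9_0 lc_b_rc_9_0 lc_b_Cert_tree lc_b_rc_7_4 lc_b_Cert_tree lc_b_rc_8_0 lc_b_rc_10_2 lc_b_rc_6_1 lc_b_rc_9_0 lc_b_rc_8_2 lc_b_rc_6_1 lc_b_rc_26_1 lc_b_rc_6_1 lc_b_rc_10_2 lc_b_rc_1_5 lc_b_rc_8_2 lc_b_rc_6_1 lc_b_rc_6_1 lc_b_rc_8_2) (@D3.rec (fun _ => (Cert rels S Gen.b)) lc_b_rc_6_1 lc_b_rc_8_2 lc_b_rc_8_0 lc_b_rc_8_0 lc_b_rc_7_2 lc_b_rc_8_2 lc_b_rc_6_1 lc_b_rc_8_2 lc_b_rc_1_3 lc_b_rc_8_0 lc_b_rc_9_2 lc_b_rc_7_0 lc_b_rc_8_2 lc_b_rc_10_2 lc_b_rc_26_5 lc_b_rc_6_1 lc_b_rc_6_1 lc_b_rc_26_7 lc_b_rc_6_1 lc_b_rc_1_5 lc_b_rc_6_1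 lc_b_rc_26_7 lc_b_rc_8_2 lc_b_rc_1_5 lc_b_rc_8_2 lc_b_rc_6_1 lc_b_rc_7_4 lc_b_rc_8_0 lc_b_rc_6_1 lc_b_rc_6_1 lc_b_rc_1_3 lc_b_rc_6_1 lc_b_rc_7_4 lc_b_rc_8_2 lc_b_rc_8_2 lc_b_rc_8_2 lc_b_rc_1_5 lc_b_rc_8_0 lc_b_rc_9_2 lc_b_rc_8_2 lc_b_rc_26_7 lc_b_rc_6_1 lc_b_rc_26_1 lc_b_rc_9_2 lc_b_rc_26_5 lc_b_rc_9_2 lc_b_rc_10_2 lc_b_rc_8_2 lc_b_rc_6_1 lc_b_rc_25_8 lc_b_rc_8_2 lc_b_rc_6_1 lc_b_rc_26_5 lc_b_rc_7_2 lc_b_rc_7_4 lc_b_rc_8_2 lc_b_rc_26_5 lc_b_rc_7_2 lc_b_rc_9_2 lc_b_rc_26_5 lc_b_rc_8_2 lc_b_rc_9_2) (@D3.rec (fun _ => (Cert rels S Gen.b)) lc_b_rc_9_2 lc_b_rc_25_16 lc_b_rc_8_2 lc_b_rc_26_5 lc_b_rc_9_2 lc_b_rc_8_2 lc_b_rc_8_0 lc_b_rc_8_2 lc_b_Cert_tree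 lc_b_rc_7_0 lc_b_rc_7_0 lc_b_rc_8_2 lc_b_rc_7_4 lc_b_Cert_tree lc_b_rc_10_2 lc_b_rc_10_2 lc_b_rc_26_1 lc_b_rc_6_1 lc_b_rc_8_2 lc_b_rc_10_2 lc_b_rc_9_2 lc_b_rc_25_12 lc_b_Cert_tree lc_b_rc_25_4 lc_b_rc_26_5 lc_b_rc_6_1 lc_b_rc_25_4 lc_b_rc_6_1 lc_b_rc_26_7 lc_b_rc_1_5 lc_b_rc_10_2 lc_b_rc_26_5 lc_b_rc_6_1 lc_b_rc_8_2 lc_b_rc_9_2 lc_b_rc_6_1 lc_b_Cert_tree lc_b_rc_1_1 lc_b_rc_8_2 lc_b_rc_10_2 lc_b_rc_1_5 lc_b_rc_10_0 lc_b_rc_9_2 lc_b_rc_1_3 lc_b_rc_1_3 lc_b_rc_8_2 lc_b_rc_8_0 lc_b_rc_7_0 lc_b_rc_26_1 lc_b_rc_7_4 lc_b_rc_8_2 lc_b_rc_10_2 lc_b_rc_8_2 lc_b_rc_1_5 lc_b_rc_26_5 lc_b_rc_10_2 lc_b_rc_10_2 lc_b_rc_8_2 lc_b_rc_1_5 lc_b_rc_10_0 lc_b_rc_8_2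 lc_b_Cert_tree) (@D3.rec (fun _ => (Cert rels S Gen.b)) lc_b_rc_26_7 lc_b_rc_7_4 lc_b_rc_26_5 lc_b_rc_8_2 lc_b_rc_6_1 lc_b_rc_26_5 lc_b_rc_9_0 lc_b_rc_1_3 lc_b_rc_8_2 lc_b_rc_10_2 lc_b_rc_9_2 lc_b_rc_9_2 lc_b_rc_9_0 lc_b_rc_8_0 lc_b_rc_9_2 lc_b_rc_9_0 lc_b_rc_25_4 lc_b_rc_10_0 lc_b_rc_9_0 lc_b_rc_8_2 lc_b_rc_26_5 lc_b_rc_25_16 lc_b_rc_10_2 lc_b_rc_8_0 lc_b_rc_9_2 lc_b_rc_9_2 lc_b_rc_8_2 lc_b_rc_10_2 lc_b_rc_26_5 lc_b_rc_9_0 lc_b_rc_9_0 lc_b_rc_8_2 lc_b_rc_10_2 lc_b_rc_6_1 lc_b_rc_1_5 lc_b_rc_8_0 lc_b_rc_6_1 lc_b_rc_9_2 lc_b_rc_6_1 lc_b_rc_6_1 lc_b_rc_8_2 lc_b_rc_26_1 lc_b_rc_7_2 lc_b_rc_1_3 lc_b_rc_10_2 lc_b_rc_6_1 lc_b_rc_6_1 lc_b_rc_1_3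 lc_b_rc_8_2 lc_b_rc_9_2 lc_b_rc_6_1 lc_b_rc_9_0 lc_b_rc_25_0 lc_b_rc_26_1 lc_b_rc_9_0 lc_b_rc_25_4 lc_b_rc_1_5 lc_b_rc_6_1 lc_b_rc_10_0 lc_b_rc_7_2 lc_b_Cert_tree lc_b_rc_6_1) (@D3.rec (fun _ => (Cert rels S Gen.b)) lc_b_rc_26_5 lc_b_rc_25_4 lc_b_rc_1_1 lc_b_rc_8_2 lc_b_rc_9_2 lc_b_rc_1_5 lc_b_rc_9_2 lc_b_rc_8_2 lc_b_rc_10_2 lc_b_rc_9_2 lc_b_rc_9_2 lc_b_rc_9_0 lc_b_Cert_tree lc_b_rc_26_5 lc_b_rc_6_1 lc_b_Cert_tree lc_b_rc_1_5 lc_b_rc_9_2 lc_b_rc_7_4 lc_b_rc_8_0 lc_b_rc_6_1 lc_b_rc_6_1 lc_b_Cert_tree lc_b_rc_6_1 lc_b_Cert_tree lc_b_Cert_tree lc_b_rc_6_1 lc_b_rc_8_2 lc_b_rc_7_4 lc_b_rc_8_2 lc_b_rc_8_2 lc_b_rc_7_0 lc_b_rc_26_7 lc_b_rc_10_2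 lc_b_rc_9_2 lc_b_rc_7_2 lc_b_rc_25_12 lc_b_rc_7_4 lc_b_rc_8_0 lc_b_rc_26_5 lc_b_rc_9_2 lc_b_rc_6_1 lc_b_rc_7_0 lc_b_rc_10_0 lc_b_rc_10_2 lc_b_rc_6_1 lc_b_rc_26_5 lc_b_rc_6_1 lc_b_rc_9_0 lc_b_rc_7_4 lc_b_rc_8_2 lc_b_Cert_tree lc_b_rc_9_0 lc_b_rc_8_2 lc_b_rc_7_4 lc_b_rc_8_2 lc_b_rc_8_0 lc_b_rc_7_4 lc_b_rc_9_2 lc_b_rc_9_0 lc_b_rc_9_2 lc_b_rc_6_1) (@D3.rec (fun _ => (Cert rels S Gen.b)) lc_b_rc_8_2 lc_b_rc_26_5 lc_b_rc_6_1 lc_b_rc_10_2 lc_b_rc_26_5 lc_b_rc_6_1 lc_b_rc_10_2 lc_b_rc_9_0 lc_b_Cert_tree lc_b_rc_7_0 lc_b_rc_26_1 lc_b_rc_26_1 lc_b_rc_8_2 lc_b_rc_26_5 lc_b_rc_8_0 lc_b_rc_8_2 lc_b_rc_8_2 lc_b_rc_9_2 lc_b_Cert_tree lc_b_rc_8_0 lc_b_rc_7_2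 lc_b_rc_7_0 lc_b_rc_1_3 lc_b_rc_6_1 lc_b_rc_9_2 lc_b_rc_8_2 lc_b_rc_10_2 lc_b_rc_7_4 lc_b_rc_9_2 lc_b_rc_9_2 lc_b_rc_6_1 lc_b_rc_8_2 lc_b_rc_25_0 lc_b_rc_26_5 lc_b_rc_8_0 lc_b_rc_9_2 lc_b_Cert_tree lc_b_rc_10_2 lc_b_rc_25_4 lc_b_rc_26_5 lc_b_rc_25_0 lc_b_rc_26_1 lc_b_rc_26_5 lc_b_rc_6_1 lc_b_rc_9_2 lc_b_rc_9_2 lc_b_rc_6_1 lc_b_rc_6_1 lc_b_rc_9_2 lc_b_rc_6_1 lc_b_rc_9_2 lc_b_rc_10_2 lc_b_rc_1_5 lc_b_rc_1_3 lc_b_rc_6_1 lc_b_rc_8_0 lc_b_rc_6_1 lc_b_rc_7_2 lc_b_rc_10_2 lc_b_rc_25_4 lc_b_rc_26_1 lc_b_rc_6_1) (@D3.rec (fun _ => (Cert rels S Gen.b)) lc_b_rc_7_4 lc_b_rc_26_5 lc_b_rc_6_1 lc_b_Cert_tree lc_b_rc_9_2 lc_b_rc_26_1 lc_b_rc_8_2 lc_b_rc_6_1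 lc_b_rc_9_2 lc_b_rc_9_2 lc_b_rc_6_1 lc_b_rc_26_5 lc_b_rc_8_2 lc_b_rc_6_1 lc_b_rc_8_2 lc_b_rc_10_2 lc_b_Cert_tree lc_b_rc_7_2 lc_b_rc_6_1 lc_b_Cert_tree lc_b_rc_6_1 lc_b_Cert_tree lc_b_rc_10_2 lc_b_rc_6_1 lc_b_rc_1_5 lc_b_rc_8_2 lc_b_rc_7_0 lc_b_rc_6_1 lc_b_rc_8_0 lc_b_rc_8_2 lc_b_rc_1_5 lc_b_rc_26_7 lc_b_rc_9_2 lc_b_rc_1_5 lc_b_rc_6_1 lc_b_rc_7_0 lc_b_rc_7_0 lc_b_rc_8_2 lc_b_rc_10_2 lc_b_rc_26_5 lc_b_rc_8_0 lc_b_rc_10_2 lc_b_Cert_tree lc_b_rc_9_2 lc_b_rc_1_3 lc_b_rc_8_2 lc_b_rc_26_5 lc_b_rc_1_5 lc_b_rc_8_2 lc_b_rc_10_2 lc_b_rc_8_0 lc_b_rc_8_0 lc_b_rc_10_2 lc_b_rc_26_5 lc_b_rc_9_2 lc_b_rc_9_0 lc_b_rc_10_2 lc_b_rc_7_0 lc_b_rc_7_2 lc_b_rc_6_1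 lc_b_rc_8_2 lc_b_rc_26_5) (@D3.rec (fun _ => (Cert rels S Gen.b)) lc_b_rc_10_2 lc_b_rc_10_2 lc_b_rc_8_2 lc_b_rc_26_5 lc_b_rc_8_0 lc_b_rc_6_1 lc_b_rc_9_0 lc_b_rc_7_4 lc_b_rc_9_2 lc_b_rc_8_2 lc_b_rc_10_2 lc_b_rc_8_2 lc_b_rc_9_2 lc_b_rc_8_0 lc_b_rc_9_2 lc_b_rc_26_1 lc_b_rc_9_2 lc_b_rc_6_1 lc_b_rc_6_1 lc_b_rc_9_2 lc_b_rc_8_2 lc_b_rc_9_2 lc_b_rc_8_0 lc_b_rc_9_2 lc_b_rc_1_5 lc_b_rc_9_2 lc_b_rc_6_1 lc_b_rc_7_2 lc_b_rc_9_2 lc_b_Cert_tree lc_b_rc_9_2 lc_b_Cert_tree lc_b_rc_8_2 lc_b_rc_6_1 lc_b_rc_9_0 lc_b_rc_6_1 lc_b_rc_8_0 lc_b_rc_1_1 lc_b_rc_6_1 lc_b_Cert_tree lc_b_rc_10_2 lc_b_rc_25_0 lc_b_Cert_tree lc_b_rc_8_2 lc_b_rc_10_2 lc_b_rc_8_2 lc_b_rc_9_2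 lc_b_rc_6_1 lc_b_rc_6_1 lc_b_rc_9_2 lc_b_rc_6_1 lc_b_rc_26_5 lc_b_rc_8_2 lc_b_rc_26_7 lc_b_Cert_tree lc_b_rc_8_0 lc_b_rc_10_2 lc_b_rc_6_1 lc_b_rc_9_2 lc_b_rc_6_1 lc_b_rc_9_2 lc_b_Cert_tree) (@D3.rec (fun _ => (Cert rels S Gen.b)) lc_b_rc_26_5 lc_b_rc_10_2 lc_b_rc_9_2 lc_b_rc_26_1 lc_b_rc_8_2 lc_b_rc_9_0 lc_b_rc_9_0 lc_b_rc_6_1 lc_b_rc_6_1 lc_b_rc_6_1 lc_b_Cert_tree lc_b_rc_1_1 lc_b_rc_6_1 lc_b_rc_8_2 lc_b_rc_9_0 lc_b_rc_9_2 lc_b_rc_8_2 lc_b_rc_10_2 lc_b_rc_9_2 lc_b_rc_8_0 lc_b_rc_8_0 lc_b_rc_8_0 lc_b_rc_8_2 lc_b_rc_7_2 lc_b_rc_25_0 lc_b_rc_8_2 lc_b_rc_8_0 lc_b_rc_8_2 lc_b_rc_9_2 lc_b_rc_7_4 lc_b_rc_8_2 lc_b_rc_10_2 lc_b_rc_6_1 lc_b_Cert_tree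 lc_b_rc_6_1 lc_b_rc_26_5 lc_b_rc_26_7 lc_b_rc_7_2 lc_b_rc_9_2 lc_b_rc_8_0 lc_b_rc_9_0 lc_b_rc_7_0 lc_b_rc_8_2 lc_b_Cert_tree lc_b_rc_9_2 lc_b_Cert_tree lc_b_rc_6_1 lc_b_Cert_tree lc_b_rc_9_2 lc_b_Cert_tree lc_b_rc_10_0 lc_b_rc_25_12 lc_b_rc_7_2 lc_b_rc_9_0 lc_b_rc_9_2 lc_b_rc_6_1 lc_b_rc_7_2 lc_b_rc_9_0 lc_b_rc_9_2 lc_b_rc_6_1 lc_b_Cert_tree lc_b_rc_9_2) (@D3.rec (fun _ => (Cert rels S Gen.b)) lc_b_rc_6_1 lc_b_rc_10_0 lc_b_rc_6_1 lc_b_Cert_tree lc_b_rc_7_4 lc_b_rc_9_2 lc_b_Cert_tree lc_b_rc_26_5 lc_b_rc_9_2 lc_b_rc_7_4 lc_b_rc_9_2 lc_b_Cert_tree lc_b_rc_8_2 lc_b_rc_1_5 lc_b_rc_10_2 lc_b_rc_8_2 lc_b_rc_9_2 lc_b_rc_9_2 lc_b_rc_8_2 lc_b_rc_7_4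 lc_b_rc_1_5 lc_b_rc_7_2 lc_b_rc_6_1 lc_b_rc_8_2 lc_b_rc_6_1 lc_b_rc_1_5 lc_b_Cert_tree lc_b_rc_8_2 lc_b_rc_26_5 lc_b_rc_6_1 lc_b_rc_10_2 lc_b_rc_8_2 lc_b_rc_9_2 lc_b_rc_6_1 lc_b_rc_7_2 lc_b_rc_10_2 lc_b_rc_6_1 lc_b_rc_6_1 lc_b_rc_7_4 lc_b_rc_6_1 lc_b_rc_9_2 lc_b_rc_26_5 lc_b_rc_7_0 lc_b_rc_1_3 lc_b_Cert_tree lc_b_rc_6_1 lc_b_rc_7_4 lc_b_rc_7_4 lc_b_rc_7_4 lc_b_rc_8_0 lc_b_rc_7_4 lc_b_rc_8_2 lc_b_rc_26_5 lc_b_rc_8_2 lc_b_rc_6_1 lc_b_rc_6_1 lc_b_rc_8_2 lc_b_Cert_tree lc_b_rc_9_2 lc_b_rc_9_0 lc_b_rc_8_2 lc_b_rc_9_2) (@D3.rec (fun _ => (Cert rels S Gen.b)) lc_b_rc_26_5 lc_b_Cert_tree lc_b_rc_10_2 lc_b_rc_1_3 lc_b_rc_9_2 lc_b_rc_8_2 lc_b_rc_26_7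 lc_b_rc_6_1 lc_b_rc_8_2 lc_b_rc_26_1 lc_b_rc_25_4 lc_b_rc_9_2 lc_b_rc_26_5 lc_b_rc_1_3 lc_b_rc_9_2 lc_b_rc_1_3 lc_b_rc_10_2 lc_b_rc_6_1 lc_b_rc_8_2 lc_b_rc_9_2 lc_b_rc_7_2 lc_b_rc_8_0 lc_b_rc_6_1 lc_b_rc_10_2 lc_b_rc_6_1 lc_b_rc_1_1 lc_b_rc_9_2 lc_b_rc_7_4 lc_b_rc_9_0 lc_b_rc_10_2 lc_b_rc_6_1 lc_b_rc_6_1 lc_b_rc_1_5 lc_b_rc_9_2 lc_b_rc_6_1 lc_b_rc_26_7 lc_b_rc_9_2 lc_b_Cert_tree lc_b_rc_9_2 lc_b_rc_9_2 lc_b_rc_9_0 lc_b_rc_10_2 lc_b_rc_1_1 lc_b_rc_26_5 lc_b_rc_8_2 lc_b_rc_9_2 lc_b_rc_6_1 lc_b_rc_8_0 lc_b_rc_1_5 lc_b_rc_8_2 lc_b_rc_8_2 lc_b_rc_10_2 lc_b_rc_8_2 lc_b_rc_9_2 lc_b_rc_1_5 lc_b_rc_8_2 lc_b_rc_26_5 lc_b_rc_8_2 lc_b_rc_6_1 lc_b_rc_7_0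 lc_b_rc_26_7 lc_b_rc_9_2) (@D3.rec (fun _ => (Cert rels S Gen.b)) lc_b_rc_10_2 lc_b_rc_1_5 lc_b_rc_9_2 lc_b_rc_6_1 lc_b_rc_9_0 lc_b_rc_9_0 lc_b_rc_10_2 lc_b_rc_8_2 lc_b_rc_9_2 lc_b_rc_6_1 lc_b_rc_6_1 lc_b_rc_9_2 lc_b_rc_7_4 lc_b_rc_8_2 lc_b_rc_9_2 lc_b_rc_6_1 lc_b_rc_9_0 lc_b_rc_26_1 lc_b_rc_9_2 lc_b_rc_6_1 lc_b_rc_8_2 lc_b_rc_7_2 lc_b_rc_26_7 lc_b_rc_10_2 lc_b_rc_7_2 lc_b_rc_10_2 lc_b_rc_25_4 lc_b_rc_9_2 lc_b_rc_6_1 lc_b_rc_8_2 lc_b_rc_8_2 lc_b_rc_26_5 lc_b_rc_26_5 lc_b_rc_6_1 lc_b_rc_26_5 lc_b_rc_1_5 lc_b_rc_9_2 lc_b_rc_7_4 lc_b_rc_7_4 lc_b_rc_9_0 lc_b_rc_10_2 lc_b_rc_9_0 lc_b_rc_7_0 lc_b_rc_8_2 lc_b_rc_9_2 lc_b_rc_6_1 lc_b_rc_26_7 lc_b_rc_6_1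 lc_b_rc_8_2 lc_b_rc_7_4 lc_b_rc_7_2 lc_b_rc_26_1 lc_b_rc_8_2 lc_b_rc_26_1 lc_b_rc_6_1 lc_b_rc_9_2 lc_b_rc_26_1 lc_b_rc_26_1 lc_b_rc_9_2 lc_b_rc_7_4 lc_b_rc_7_4 lc_b_rc_9_0) (@D3.rec (fun _ => (Cert rels S Gen.b)) lc_b_rc_8_0 lc_b_Cert_tree lc_b_rc_10_2 lc_b_rc_26_5 lc_b_rc_9_2 lc_b_Cert_tree lc_b_rc_6_1 lc_b_rc_6_1 lc_b_rc_8_2 lc_b_rc_7_2 lc_b_rc_9_2 lc_b_rc_8_2 lc_b_rc_1_5 lc_b_rc_1_3 lc_b_rc_26_5 lc_b_rc_8_2 lc_b_rc_26_1 lc_b_Cert_tree lc_b_rc_8_2 lc_b_rc_6_1 lc_b_rc_1_1 lc_b_rc_9_0 lc_b_rc_26_5 lc_b_rc_8_2 lc_b_rc_8_2 lc_b_rc_9_2 lc_b_rc_8_2 lc_b_Cert_tree lc_b_rc_6_1 lc_b_Cert_tree lc_b_rc_9_2 lc_b_rc_6_1 lc_b_rc_8_2 lc_b_rc_9_0 lc_b_rc_1_3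 lc_b_rc_8_2 lc_b_rc_9_2 lc_b_rc_1_5 lc_b_rc_6_1 lc_b_rc_8_2 lc_b_rc_9_2 lc_b_rc_6_1 lc_b_rc_6_1 lc_b_rc_8_2 lc_b_rc_7_2 lc_b_rc_9_2 lc_b_Cert_tree lc_b_rc_8_2 lc_b_rc_10_2 lc_b_rc_7_2 lc_b_rc_9_2 lc_b_rc_6_1 lc_b_rc_9_2 lc_b_Cert_tree lc_b_rc_9_0 lc_b_rc_10_2 lc_b_rc_26_5 lc_b_Cert_tree lc_b_rc_1_3 lc_b_rc_9_2 lc_b_rc_8_2 lc_b_rc_6_1) (@D3.rec (fun _ => (Cert rels S Gen.b)) lc_b_rc_8_2 lc_b_rc_26_7 lc_b_rc_6_1 lc_b_rc_26_7 lc_b_rc_8_2 lc_b_Cert_tree lc_b_rc_26_7 lc_b_rc_10_2 lc_b_rc_6_1 lc_b_rc_25_8 lc_b_rc_7_4 lc_b_rc_9_2 lc_b_rc_26_5 lc_b_rc_6_1 lc_b_rc_9_2 lc_b_rc_6_1 lc_b_rc_9_0 lc_b_rc_10_2 lc_b_rc_8_2 lc_b_rc_10_0 lc_b_rc_1_3 lc_b_rc_9_2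 lc_b_rc_8_2 lc_b_rc_10_2 lc_b_rc_6_1 lc_b_rc_9_0 lc_b_rc_9_2 lc_b_rc_6_1 lc_b_rc_26_1 lc_b_rc_1_3 lc_b_rc_1_3 lc_b_rc_6_1 lc_b_rc_1_3 lc_b_rc_9_2 lc_b_rc_7_0 lc_b_rc_26_1 lc_b_rc_25_0 lc_b_rc_26_7 lc_b_rc_8_2 lc_b_rc_6_1 lc_b_rc_9_2 lc_b_rc_8_0 lc_b_rc_6_1 lc_b_rc_1_3 lc_b_rc_6_1 lc_b_rc_25_4 lc_b_rc_26_7 lc_b_rc_6_1 lc_b_rc_26_5 lc_b_rc_1_3 lc_b_rc_1_5 lc_b_rc_8_2 lc_b_rc_6_1 lc_b_rc_26_5 lc_b_rc_1_3 lc_b_rc_7_4 lc_b_rc_1_1 lc_b_rc_7_0 lc_b_rc_8_2 lc_b_rc_9_2 lc_b_rc_9_0 lc_b_rc_6_1) (@D3.rec (fun _ => (Cert rels S Gen.b)) lc_b_rc_10_2 lc_b_rc_6_1 lc_b_rc_7_0 lc_b_rc_1_5 lc_b_rc_9_2 lc_b_rc_9_2 lc_b_rc_7_2 lc_b_rc_6_1 lc_b_rc_6_1 lc_b_rc_7_2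 lc_b_rc_1_3 lc_b_rc_8_0 lc_b_rc_10_2 lc_b_rc_8_2 lc_b_rc_10_0 lc_b_rc_1_5 lc_b_rc_10_2 lc_b_rc_6_1 lc_b_rc_9_2 lc_b_rc_9_2 lc_b_rc_9_2 lc_b_rc_9_2 lc_b_rc_26_7 lc_b_rc_8_2 lc_b_rc_9_2 lc_b_rc_6_1 lc_b_rc_26_1 lc_b_rc_6_1 lc_b_rc_8_0 lc_b_rc_8_0 lc_b_rc_26_1 lc_b_Cert_tree lc_b_rc_8_2 lc_b_rc_10_2 lc_b_rc_9_2 lc_b_Cert_tree lc_b_rc_7_4 lc_b_rc_8_2 lc_b_rc_10_2 lc_b_Cert_tree lc_b_rc_7_2 lc_b_rc_9_2 lc_b_rc_6_1 lc_b_rc_7_2 lc_b_rc_9_2 lc_b_rc_6_1 lc_b_rc_7_4 lc_b_rc_9_2 lc_b_rc_9_2 lc_b_rc_10_2 lc_b_rc_7_0 lc_b_rc_26_5 lc_b_rc_1_3 lc_b_rc_8_2 lc_b_rc_7_2 lc_b_rc_9_2 lc_b_rc_8_2 lc_b_rc_6_1 lc_b_Cert_tree lc_b_rc_6_1 lc_b_rc_6_1 lc_b_rc_6_1)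 (@D3.rec (fun _ => (Cert rels S Gen.b)) lc_b_rc_9_2 lc_b_rc_6_1 lc_b_rc_9_2 lc_b_rc_6_1 lc_b_rc_9_2 lc_b_rc_26_7 lc_b_rc_26_1 lc_b_rc_9_2 lc_b_rc_9_2 lc_b_rc_25_4 lc_b_rc_8_2 lc_b_rc_9_2 lc_b_rc_26_7 lc_b_rc_9_2 lc_b_rc_9_0 lc_b_rc_9_2 lc_b_rc_6_1 lc_b_rc_7_4 lc_b_rc_6_1 lc_b_rc_1_1 lc_b_rc_8_2 lc_b_rc_7_4 lc_b_rc_26_7 lc_b_rc_8_2 lc_b_rc_8_2 lc_b_rc_6_1 lc_b_rc_26_7 lc_b_rc_9_2 lc_b_rc_26_1 lc_b_rc_26_7 lc_b_rc_9_2 lc_b_rc_10_0 lc_b_rc_26_5 lc_b_rc_25_0 lc_b_rc_26_5 lc_b_rc_9_2 lc_b_rc_9_2 lc_b_rc_6_1 lc_b_rc_26_7 lc_b_rc_6_1 lc_b_rc_26_5 lc_b_rc_26_7 lc_b_rc_7_0 lc_b_rc_1_3 lc_b_rc_10_2 lc_b_rc_6_1 lc_b_rc_8_2 lc_b_rc_1_3 lc_b_rc_9_2 lc_b_rc_7_0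 lc_b_rc_8_2 lc_b_rc_10_0 lc_b_rc_6_1 lc_b_rc_7_0 lc_b_rc_8_2 lc_b_rc_26_5 lc_b_rc_8_0 lc_b_rc_9_2 lc_b_rc_26_5 lc_b_rc_8_2 lc_b_rc_9_0 lc_b_rc_26_5) (@D3.rec (fun _ => (Cert rels S Gen.b)) lc_b_rc_6_1 lc_b_rc_26_7 lc_b_rc_8_0 lc_b_rc_9_2 lc_b_rc_25_0 lc_b_rc_6_1 lc_b_rc_1_3 lc_b_rc_26_5 lc_b_rc_6_1 lc_b_rc_8_2 lc_b_rc_25_4 lc_b_rc_8_2 lc_b_rc_10_2 lc_b_rc_9_0 lc_b_rc_6_1 lc_b_rc_7_2 lc_b_rc_9_2 lc_b_rc_7_4 lc_b_rc_9_2 lc_b_rc_9_0 lc_b_rc_7_4 lc_b_rc_9_2 lc_b_rc_7_2 lc_b_Cert_tree lc_b_rc_10_2 lc_b_rc_26_5 lc_b_rc_9_2 lc_b_Cert_tree lc_b_rc_9_0 lc_b_rc_26_5 lc_b_rc_6_1 lc_b_rc_9_2 lc_b_rc_6_1 lc_b_rc_10_2 lc_b_rc_9_2 lc_b_rc_8_2 lc_b_rc_26_5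 lc_b_rc_10_0 lc_b_rc_25_4 lc_b_rc_9_2 lc_b_rc_7_4 lc_b_rc_7_4 lc_b_rc_8_2 lc_b_rc_9_2 lc_b_rc_26_1 lc_b_rc_9_0 lc_b_rc_8_2 lc_b_rc_10_2 lc_b_rc_25_4 lc_b_rc_6_1 lc_b_rc_6_1 lc_b_rc_9_2 lc_b_rc_8_0 lc_b_rc_7_0 lc_b_rc_10_2 lc_b_rc_9_0 lc_b_rc_8_2 lc_b_rc_9_2 lc_b_rc_1_1 lc_b_rc_8_2 lc_b_rc_8_2 lc_b_rc_10_2) (@D3.rec (fun _ => (Cert rels S Gen.b)) lc_b_rc_26_1 lc_b_rc_10_2 lc_b_rc_6_1 lc_b_rc_26_5 lc_b_rc_10_2 lc_b_rc_7_2 lc_b_rc_10_2 lc_b_rc_1_5 lc_b_rc_9_0 lc_b_rc_6_1 lc_b_rc_9_0 lc_b_rc_26_7 lc_b_rc_9_2 lc_b_rc_26_7 lc_b_rc_6_1 lc_b_rc_26_5 lc_b_rc_8_2 lc_b_rc_7_4 lc_b_rc_8_2 lc_b_rc_6_1 lc_b_rc_26_5 lc_b_rc_9_2 lc_b_rc_10_2 lc_b_rc_6_1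 lc_b_rc_8_2 lc_b_rc_9_2 lc_b_rc_6_1 lc_b_rc_6_1 lc_b_rc_7_0 lc_b_rc_9_2 lc_b_rc_6_1 lc_b_rc_6_1 lc_b_rc_8_2 lc_b_rc_1_5 lc_b_rc_8_2 lc_b_rc_9_0 lc_b_rc_9_2 lc_b_rc_6_1 lc_b_rc_7_4 lc_b_rc_6_1 lc_b_rc_9_2 lc_b_rc_10_2 lc_b_rc_26_5 lc_b_Cert_tree lc_b_rc_6_1 lc_b_rc_8_2 lc_b_rc_6_1 lc_b_rc_7_2 lc_b_rc_9_2 lc_b_rc_26_5 lc_b_rc_8_2 lc_b_rc_7_2 lc_b_rc_8_0 lc_b_rc_8_2 lc_b_rc_26_5 lc_b_rc_9_2 lc_b_rc_7_0 lc_b_rc_9_0 lc_b_rc_8_2 lc_b_rc_10_2 lc_b_rc_6_1 lc_b_rc_6_1) (@D3.rec (fun _ => (Cert rels S Gen.b)) lc_b_rc_7_2 lc_b_rc_8_0 lc_b_rc_6_1 lc_b_rc_9_2 lc_b_rc_8_2 lc_b_rc_9_2 lc_b_Cert_tree lc_b_rc_8_2 lc_b_rc_1_1 lc_b_rc_1_5 lc_b_rc_26_7 lc_b_rc_9_2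 lc_b_rc_7_4 lc_b_rc_9_2 lc_b_Cert_tree lc_b_rc_9_2 lc_b_rc_6_1 lc_b_rc_1_5 lc_b_rc_6_1 lc_b_rc_8_2 lc_b_rc_10_2 lc_b_rc_9_2 lc_b_rc_6_1 lc_b_rc_8_2 lc_b_rc_6_1 lc_b_rc_10_2 lc_b_rc_26_5 lc_b_rc_25_0 lc_b_rc_6_1 lc_b_rc_26_5 lc_b_rc_10_2 lc_b_rc_7_2 lc_b_rc_26_5 lc_b_rc_8_2 lc_b_rc_9_2 lc_b_rc_9_2 lc_b_rc_26_5 lc_b_rc_9_2 lc_b_rc_1_3 lc_b_rc_10_2 lc_b_rc_9_2 lc_b_rc_8_0 lc_b_rc_7_4 lc_b_rc_9_0 lc_b_Cert_tree lc_b_rc_10_2 lc_b_rc_9_2 lc_b_Cert_tree lc_b_rc_9_2 lc_b_rc_6_1 lc_b_rc_1_3 lc_b_Cert_tree lc_b_rc_8_0 lc_b_rc_7_4 lc_b_rc_9_2 lc_b_rc_6_1 lc_b_rc_26_1 lc_b_rc_9_2 lc_b_rc_7_4 lc_b_rc_7_4 lc_b_rc_6_1 lc_b_rc_8_2) (@D3.rec (fun _ => (Cert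 rels S Gen.b)) lc_b_rc_25_4 lc_b_rc_9_2 lc_b_rc_9_0 lc_b_rc_6_1 lc_b_rc_1_3 lc_b_rc_1_3 lc_b_rc_10_2 lc_b_rc_9_2 lc_b_rc_26_7 lc_b_rc_10_2 lc_b_rc_7_2 lc_b_rc_9_2 lc_b_rc_26_7 lc_b_rc_1_5 lc_b_rc_6_1 lc_b_rc_26_1 lc_b_rc_26_5 lc_b_rc_9_2 lc_b_rc_6_1 lc_b_rc_10_0 lc_b_rc_9_0 lc_b_rc_10_2 lc_b_rc_9_2 lc_b_rc_1_3 lc_b_rc_8_2 lc_b_rc_7_0 lc_b_rc_1_3 lc_b_rc_26_5 lc_b_rc_8_2 lc_b_rc_9_2 lc_b_Cert_tree lc_b_rc_6_1 lc_b_Cert_tree lc_b_rc_6_1 lc_b_rc_8_2 lc_b_rc_26_7 lc_b_rc_7_4 lc_b_rc_6_1 lc_b_rc_26_5 lc_b_rc_9_2 lc_b_rc_26_5 lc_b_Cert_tree lc_b_rc_9_2 lc_b_rc_6_1 lc_b_rc_7_2 lc_b_rc_26_7 lc_b_rc_10_2 lc_b_rc_7_4 lc_b_rc_8_2 lc_b_rc_8_2 lc_b_rc_8_2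 lc_b_rc_8_2 lc_b_rc_8_2 lc_b_rc_26_5 lc_b_rc_9_0 lc_b_rc_8_2 lc_b_rc_6_1 lc_b_rc_8_2 lc_b_rc_25_4 lc_b_rc_6_1 lc_b_rc_8_2 lc_b_rc_26_7) (@D3.rec (fun _ => (Cert rels S Gen.b)) lc_b_rc_1_3 lc_b_rc_10_2 lc_b_rc_10_0 lc_b_rc_7_4 lc_b_rc_10_2 lc_b_rc_26_5 lc_b_rc_7_4 lc_b_rc_9_2 lc_b_rc_6_1 lc_b_rc_6_1 lc_b_rc_10_2 lc_b_rc_6_1 lc_b_rc_9_2 lc_b_rc_6_1 lc_b_rc_9_0 lc_b_rc_6_1 lc_b_rc_10_2 lc_b_rc_26_5 lc_b_rc_9_2 lc_b_rc_10_2 lc_b_rc_9_2 lc_b_rc_6_1 lc_b_Cert_tree lc_b_rc_7_0 lc_b_rc_8_2 lc_b_rc_10_2 lc_b_rc_8_2 lc_b_rc_9_2 lc_b_rc_6_1 lc_b_rc_26_5 lc_b_rc_6_1 lc_b_rc_7_4 lc_b_rc_6_1 lc_b_rc_25_8 lc_b_rc_26_1 lc_b_rc_7_4 lc_b_rc_1_3 lc_b_rc_9_2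 lc_b_rc_1_5 lc_b_rc_26_5 lc_b_rc_26_1 lc_b_rc_1_5 lc_b_rc_6_1 lc_b_rc_25_8 lc_b_rc_26_5 lc_b_rc_26_5 lc_b_rc_8_0 lc_b_rc_7_0 lc_b_rc_1_3 lc_b_rc_8_2 lc_b_rc_9_2 lc_b_rc_6_1 lc_b_rc_8_0 lc_b_rc_9_0 lc_b_rc_6_1 lc_b_rc_8_2 lc_b_rc_9_2 lc_b_rc_9_2 lc_b_rc_6_1 lc_b_rc_26_5 lc_b_rc_9_2 lc_b_rc_6_1) (@D3.rec (fun _ => (Cert rels S Gen.b)) lc_b_rc_9_2 lc_b_rc_9_0 lc_b_rc_9_0 lc_b_rc_9_0 lc_b_rc_6_1 lc_b_rc_6_1 lc_b_rc_9_2 lc_b_rc_6_1 lc_b_rc_26_7 lc_b_rc_9_2 lc_b_rc_7_4 lc_b_rc_6_1 lc_b_rc_8_2 lc_b_rc_26_5 lc_b_rc_9_2 lc_b_rc_8_2 lc_b_rc_9_2 lc_b_rc_7_4 lc_b_rc_1_5 lc_b_rc_8_2 lc_b_rc_10_2 lc_b_rc_9_2 lc_b_rc_9_0 lc_b_rc_1_3 lc_b_rc_7_4 lc_b_rc_8_2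 lc_b_rc_9_2 lc_b_rc_6_1 lc_b_Cert_tree lc_b_Cert_tree lc_b_Cert_tree lc_b_rc_10_2 lc_b_rc_6_1 lc_b_rc_6_1 lc_b_rc_7_2 lc_b_rc_9_2 lc_b_Cert_tree lc_b_rc_26_5 lc_b_rc_10_2 lc_b_rc_9_2 lc_b_rc_8_2 lc_b_rc_10_2 lc_b_rc_7_4 lc_b_rc_6_1 lc_b_rc_6_1 lc_b_rc_1_3 lc_b_rc_8_0 lc_b_rc_26_5 lc_b_rc_6_1 lc_b_rc_26_1 lc_b_rc_8_2 lc_b_rc_9_2 lc_b_rc_6_1 lc_b_rc_26_5 lc_b_rc_8_2 lc_b_rc_1_3 lc_b_rc_1_5 lc_b_rc_26_7 lc_b_rc_9_0 lc_b_rc_6_1 lc_b_rc_6_1 lc_b_rc_1_1) (@D3.rec (fun _ => (Cert rels S Gen.b)) lc_b_rc_6_1 lc_b_rc_8_2 lc_b_rc_9_0 lc_b_Cert_tree lc_b_rc_9_0 lc_b_rc_6_1 lc_b_rc_10_0 lc_b_rc_6_1 lc_b_rc_8_0 lc_b_rc_6_1 lc_b_rc_8_2 lc_b_rc_1_5 lc_b_rc_8_2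 lc_b_rc_8_2 lc_b_rc_9_2 lc_b_rc_6_1 lc_b_rc_26_5 lc_b_rc_9_0 lc_b_rc_8_2 lc_b_rc_9_2 lc_b_rc_8_2 lc_b_rc_8_0 lc_b_rc_9_2 lc_b_rc_26_5 lc_b_rc_10_2 lc_b_rc_9_2 lc_b_rc_8_0 lc_b_rc_8_2 lc_b_rc_8_0 lc_b_rc_7_4 lc_b_rc_26_5 lc_b_rc_6_1 lc_b_rc_10_2 lc_b_rc_26_5 lc_b_rc_9_2 lc_b_rc_9_0 lc_b_rc_10_2 lc_b_rc_26_1 lc_b_rc_9_2 lc_b_rc_6_1 lc_b_rc_8_0 lc_b_rc_1_5 lc_b_rc_9_2 lc_b_rc_6_1 lc_b_rc_9_2 lc_b_rc_1_1 lc_b_rc_10_2 lc_b_rc_9_0 lc_b_rc_10_2 lc_b_rc_10_2 lc_b_rc_9_2 lc_b_rc_6_1 lc_b_rc_25_4 lc_b_rc_8_2 lc_b_Cert_tree lc_b_rc_6_1 lc_b_rc_10_0 lc_b_rc_6_1 lc_b_rc_25_16 lc_b_rc_8_0 lc_b_Cert_tree lc_b_rc_26_5) (@D3.rec (fun _ => (Cert rels S Gen.b))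 lc_b_rc_6_1 lc_b_rc_1_3 lc_b_rc_7_4 lc_b_rc_9_2 lc_b_Cert_tree lc_b_rc_8_2 lc_b_rc_7_4 lc_b_rc_1_3 lc_b_rc_9_2 lc_b_rc_9_2 lc_b_rc_8_2 lc_b_rc_6_1 lc_b_rc_9_0 lc_b_rc_6_1 lc_b_rc_7_4 lc_b_rc_8_2 lc_b_rc_9_2 lc_b_rc_6_1 lc_b_rc_26_1 lc_b_rc_8_2 lc_b_rc_25_0 lc_b_rc_9_2 lc_b_rc_26_1 lc_b_rc_8_2 lc_b_rc_1_3 lc_b_rc_9_2 lc_b_rc_6_1 lc_b_rc_8_2 lc_b_rc_6_1 lc_b_rc_8_0 lc_b_rc_8_2 lc_b_rc_6_1 lc_b_rc_26_1 lc_b_rc_26_5 lc_b_rc_1_3 lc_b_rc_6_1 lc_b_rc_26_5 lc_b_rc_8_2 lc_b_rc_9_2 lc_b_rc_6_1 lc_b_rc_6_1 lc_b_rc_10_0 lc_b_rc_7_2 lc_b_rc_10_2 lc_b_rc_1_5 lc_b_rc_25_4 lc_b_rc_8_2 lc_b_rc_9_2 lc_b_rc_26_7 lc_b_rc_6_1 lc_b_rc_6_1 lc_b_rc_1_3 lc_b_rc_6_1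 lc_b_rc_6_1 lc_b_rc_26_1 lc_b_rc_25_8 lc_b_rc_6_1 lc_b_rc_6_1 lc_b_rc_7_2 lc_b_rc_9_2 lc_b_rc_6_1 lc_b_rc_10_2) (@D3.rec (fun _ => (Cert rels S Gen.b)) lc_b_rc_26_5 lc_b_rc_10_2 lc_b_rc_9_2 lc_b_rc_7_0 lc_b_rc_8_0 lc_b_rc_7_4 lc_b_rc_9_2 lc_b_rc_8_2 lc_b_rc_6_1 lc_b_rc_26_7 lc_b_rc_26_5 lc_b_rc_8_2 lc_b_Cert_tree lc_b_rc_9_2 lc_b_rc_7_4 lc_b_rc_9_2 lc_b_rc_8_0 lc_b_rc_26_5 lc_b_rc_26_5 lc_b_rc_6_1 lc_b_rc_10_2 lc_b_rc_7_0 lc_b_rc_9_0 lc_b_rc_1_3 lc_b_rc_9_2 lc_b_rc_26_1 lc_b_rc_9_2 lc_b_rc_26_7 lc_b_rc_8_2 lc_b_rc_9_2 lc_b_rc_7_4 lc_b_rc_10_2 lc_b_rc_1_1 lc_b_rc_8_2 lc_b_rc_9_2 lc_b_rc_6_1 lc_b_rc_1_3 lc_b_rc_10_2 lc_b_rc_6_1 lc_b_rc_6_1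 lc_b_rc_6_1 lc_b_rc_1_5 lc_b_rc_26_5 lc_b_rc_25_4 lc_b_rc_6_1 lc_b_rc_8_2 lc_b_rc_9_2 lc_b_Cert_tree lc_b_rc_1_3 lc_b_rc_9_2 lc_b_rc_25_0 lc_b_rc_9_2 lc_b_rc_9_2 lc_b_rc_6_1 lc_b_rc_8_2 lc_b_rc_26_5 lc_b_rc_26_1 lc_b_rc_10_2 lc_b_rc_6_1 lc_b_rc_26_1 lc_b_rc_7_4 lc_b_rc_9_2) (@D3.rec (fun _ => (Cert rels S Gen.b)) lc_b_rc_6_1 lc_b_rc_26_1 lc_b_rc_8_2 lc_b_rc_26_7 lc_b_rc_26_5 lc_b_rc_1_3 lc_b_rc_9_2 lc_b_rc_1_3 lc_b_rc_26_1 lc_b_rc_26_1 lc_b_rc_7_2 lc_b_rc_6_1 lc_b_Cert_tree lc_b_rc_7_4 lc_b_rc_1_1 lc_b_rc_1_3 lc_b_rc_7_4 lc_b_rc_10_2 lc_b_rc_7_0 lc_b_rc_1_3 lc_b_rc_9_2 lc_b_rc_8_0 lc_b_rc_26_5 lc_b_rc_26_1 lc_b_rc_7_4 lc_b_rc_6_1 lc_b_rc_10_2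 lc_b_rc_7_4 lc_b_rc_9_2 lc_b_rc_10_2 lc_b_rc_6_1 lc_b_rc_6_1 lc_b_rc_8_0 lc_b_rc_6_1 lc_b_rc_6_1 lc_b_rc_7_4 lc_b_rc_9_2 lc_b_Cert_tree lc_b_rc_8_2 lc_b_rc_9_2 lc_b_rc_9_2 lc_b_rc_10_0 lc_b_rc_1_1 lc_b_rc_7_2 lc_b_rc_8_2 lc_b_rc_10_0 lc_b_rc_8_2 lc_b_rc_6_1 lc_b_rc_8_2 lc_b_rc_9_2 lc_b_rc_6_1 lc_b_rc_8_2 lc_b_rc_6_1 lc_b_rc_9_2 lc_b_rc_8_2 lc_b_rc_8_2 lc_b_rc_9_2 lc_b_rc_8_0 lc_b_rc_7_0 lc_b_rc_9_0 lc_b_rc_6_1 lc_b_rc_6_1) (@D3.rec (fun _ => (Cert rels S Gen.b)) lc_b_rc_8_0 lc_b_rc_6_1 lc_b_rc_25_4 lc_b_rc_9_2 lc_b_rc_25_12 lc_b_rc_8_0 lc_b_rc_6_1 lc_b_rc_10_0 lc_b_rc_1_1 lc_b_rc_6_1 lc_b_rc_7_4 lc_b_rc_26_1 lc_b_rc_6_1 lc_b_rc_6_1 lc_b_rc_10_2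 lc_b_rc_26_1 lc_b_rc_6_1 lc_b_rc_1_3 lc_b_rc_9_2 lc_b_rc_9_2 lc_b_rc_10_2 lc_b_rc_8_2 lc_b_rc_8_0 lc_b_rc_6_1 lc_b_rc_6_1 lc_b_rc_6_1 lc_b_rc_8_0 lc_b_rc_9_2 lc_b_rc_9_0 lc_b_rc_6_1 lc_b_rc_1_1 lc_b_rc_25_16 lc_b_rc_9_0 lc_b_rc_6_1 lc_b_rc_25_4 lc_b_rc_26_1 lc_b_rc_10_2 lc_b_rc_26_5 lc_b_rc_1_3 lc_b_rc_9_2 lc_b_rc_8_2 lc_b_rc_6_1 lc_b_rc_8_2 lc_b_rc_1_5 lc_b_rc_8_2 lc_b_rc_1_5 lc_b_rc_7_4 lc_b_rc_9_2 lc_b_rc_25_8 lc_b_rc_8_0 lc_b_rc_9_2 lc_b_rc_26_7 lc_b_rc_8_2 lc_b_rc_6_1 lc_b_rc_26_1 lc_b_rc_8_2 lc_b_rc_6_1 lc_b_rc_8_2 lc_b_rc_6_1 lc_b_rc_6_1 lc_b_rc_8_2 lc_b_rc_7_0) (@D3.rec (fun _ => (Cert rels S Gen.b)) lc_b_rc_6_1 lc_b_rc_8_2 lc_b_rc_9_2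 lc_b_rc_9_2 lc_b_rc_26_1 lc_b_rc_9_0 lc_b_rc_6_1 lc_b_rc_1_5 lc_b_rc_26_5 lc_b_rc_7_0 lc_b_rc_6_1 lc_b_rc_1_3 lc_b_rc_9_2 lc_b_rc_6_1 lc_b_rc_7_4 lc_b_rc_9_2 lc_b_rc_6_1 lc_b_rc_26_5 lc_b_rc_8_2 lc_b_rc_9_2 lc_b_Cert_tree lc_b_rc_9_0 lc_b_rc_6_1 lc_b_rc_25_4 lc_b_rc_8_2 lc_b_rc_26_7 lc_b_rc_10_2 lc_b_rc_8_0 lc_b_rc_6_1 lc_b_rc_26_1 lc_b_rc_6_1 lc_b_rc_9_2 lc_b_rc_26_5 lc_b_rc_25_4 lc_b_rc_9_2 lc_b_rc_26_7 lc_b_Cert_tree lc_b_rc_26_7 lc_b_rc_9_2 lc_b_rc_6_1 lc_b_rc_26_5 lc_b_rc_10_0 lc_b_rc_6_1 lc_b_rc_6_1 lc_b_rc_25_4 lc_b_rc_6_1 lc_b_rc_9_2 lc_b_rc_26_5 lc_b_rc_9_2 lc_b_rc_9_2 lc_b_rc_9_0 lc_b_rc_6_1 lc_b_rc_8_2 lc_b_rc_10_2 lc_b_rc_8_2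 lc_b_rc_10_2 lc_b_Cert_tree lc_b_rc_26_7 lc_b_rc_9_2 lc_b_rc_8_2 lc_b_rc_9_2 lc_b_rc_6_1) (@D3.rec (fun _ => (Cert rels S Gen.b)) lc_b_rc_8_2 lc_b_rc_8_0 lc_b_rc_7_2 lc_b_rc_7_2 lc_b_rc_1_5 lc_b_rc_1_3 lc_b_rc_9_2 lc_b_rc_7_4 lc_b_rc_9_2 lc_b_rc_26_5 lc_b_rc_25_0 lc_b_rc_8_2 lc_b_rc_9_2 lc_b_rc_6_1 lc_b_rc_26_7 lc_b_rc_25_0 lc_b_rc_6_1 lc_b_rc_9_2 lc_b_rc_7_4 lc_b_rc_1_1 lc_b_rc_6_1 lc_b_rc_26_7 lc_b_rc_26_1 lc_b_rc_1_1 lc_b_rc_10_2 lc_b_rc_9_2 lc_b_rc_9_2 lc_b_rc_6_1 lc_b_rc_8_2 lc_b_rc_9_2 lc_b_rc_6_1 lc_b_rc_6_1 lc_b_rc_6_1 lc_b_rc_7_4 lc_b_rc_8_2 lc_b_rc_6_1 lc_b_rc_25_4 lc_b_rc_6_1 lc_b_rc_9_0 lc_b_rc_25_4 lc_b_rc_10_2 lc_b_rc_8_2 lc_b_rc_10_2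 lc_b_rc_8_2 lc_b_rc_6_1 lc_b_rc_25_16 lc_b_rc_10_2 lc_b_rc_9_2 lc_b_rc_6_1 lc_b_rc_7_0 lc_b_rc_26_1 lc_b_rc_9_2 lc_b_rc_26_7 lc_b_rc_6_1 lc_b_rc_6_1 lc_b_rc_26_5 lc_b_Cert_tree lc_b_rc_26_1 lc_b_rc_6_1 lc_b_rc_8_2 lc_b_rc_6_1 lc_b_rc_26_5) (@D3.rec (fun _ => (Cert rels S Gen.b)) lc_b_rc_26_5 lc_b_rc_9_2 lc_b_rc_8_2 lc_b_rc_9_2 lc_b_rc_6_1 lc_b_rc_1_3 lc_b_rc_7_2 lc_b_rc_7_4 lc_b_rc_6_1 lc_b_rc_6_1 lc_b_rc_9_2 lc_b_rc_9_2 lc_b_rc_10_2 lc_b_rc_26_5 lc_b_rc_8_2 lc_b_rc_9_2 lc_b_rc_8_2 lc_b_rc_9_2 lc_b_rc_8_2 lc_b_rc_9_2 lc_b_rc_8_2 lc_b_rc_26_7 lc_b_rc_9_2 lc_b_rc_7_2 lc_b_rc_7_2 lc_b_rc_9_2 lc_b_rc_6_1 lc_b_rc_7_2 lc_b_rc_9_2 lc_b_rc_9_2 lc_b_rc_9_0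 lc_b_rc_10_2 lc_b_rc_9_2 lc_b_rc_8_2 lc_b_rc_10_2 lc_b_rc_10_2 lc_b_rc_9_2 lc_b_rc_6_1 lc_b_rc_10_2 lc_b_rc_6_1 lc_b_rc_6_1 lc_b_rc_8_2 lc_b_rc_10_2 lc_b_rc_6_1 lc_b_rc_10_2 lc_b_rc_6_1 lc_b_rc_8_2 lc_b_rc_7_0 lc_b_rc_7_4 lc_b_rc_9_2 lc_b_rc_9_0 lc_b_rc_6_1 lc_b_rc_26_7 lc_b_rc_26_1 lc_b_rc_6_1 lc_b_rc_10_2 lc_b_rc_9_0 lc_b_rc_9_2 lc_b_rc_9_2 lc_b_rc_8_0 lc_b_rc_8_2 lc_b_rc_9_2) (@D3.rec (fun _ => (Cert rels S Gen.b)) lc_b_rc_9_2 lc_b_rc_9_2 lc_b_rc_8_2 lc_b_rc_10_2 lc_b_rc_26_1 lc_b_rc_8_2 lc_b_rc_7_0 lc_b_rc_26_5 lc_b_rc_8_2 lc_b_rc_6_1 lc_b_rc_26_5 lc_b_rc_9_2 lc_b_rc_9_2 lc_b_rc_6_1 lc_b_rc_7_0 lc_b_rc_6_1 lc_b_rc_8_2 lc_b_rc_26_7 lc_b_rc_1_3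 lc_b_rc_10_2 lc_b_rc_6_1 lc_b_rc_6_1 lc_b_rc_9_2 lc_b_rc_8_2 lc_b_rc_1_5 lc_b_rc_9_2 lc_b_rc_26_1 lc_b_rc_26_5 lc_b_Cert_tree lc_b_rc_8_2 lc_b_rc_9_2 lc_b_rc_8_2 lc_b_rc_6_1 lc_b_rc_7_2 lc_b_rc_6_1 lc_b_rc_1_3 lc_b_rc_26_5 lc_b_rc_26_5 lc_b_rc_25_4 lc_b_rc_6_1 lc_b_rc_8_2 lc_b_rc_1_3 lc_b_rc_26_1 lc_b_rc_10_2 lc_b_rc_10_2 lc_b_rc_9_2 lc_b_rc_25_4 lc_b_Cert_tree lc_b_rc_6_1 lc_b_rc_6_1 lc_b_rc_26_5 lc_b_rc_7_4 lc_b_rc_10_2 lc_b_rc_8_2 lc_b_rc_6_1 lc_b_rc_8_2 lc_b_rc_6_1 lc_b_rc_6_1 lc_b_rc_1_3 lc_b_rc_8_2 lc_b_rc_9_2 lc_b_rc_9_2) (@D3.rec (fun _ => (Cert rels S Gen.b)) lc_b_rc_26_5 lc_b_rc_1_3 lc_b_rc_1_3 lc_b_rc_8_2 lc_b_rc_9_2 lc_b_rc_9_2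 lc_b_rc_26_5 lc_b_rc_10_2 lc_b_rc_9_2 lc_b_rc_6_1 lc_b_rc_8_2 lc_b_rc_8_0 lc_b_rc_8_2 lc_b_rc_8_2 lc_b_rc_7_4 lc_b_rc_9_2 lc_b_rc_6_1 lc_b_rc_7_2 lc_b_Cert_tree lc_b_rc_25_0 lc_b_rc_26_5 lc_b_rc_6_1 lc_b_rc_8_2 lc_b_rc_10_0 lc_b_rc_8_2 lc_b_rc_8_2 lc_b_Cert_tree lc_b_rc_7_0 lc_b_Cert_tree lc_b_rc_6_1 lc_b_rc_26_5 lc_b_Cert_tree lc_b_rc_6_1 lc_b_rc_1_3 lc_b_rc_8_2 lc_b_rc_9_2 lc_b_rc_8_2 lc_b_rc_6_1 lc_b_rc_9_2 lc_b_rc_7_4 lc_b_rc_7_4 lc_b_rc_8_2 lc_b_rc_6_1 lc_b_rc_7_2 lc_b_rc_8_2 lc_b_rc_9_2 lc_b_rc_26_1 lc_b_rc_7_0 lc_b_rc_25_8 lc_b_rc_6_1 lc_b_rc_8_2 lc_b_rc_10_2 lc_b_Cert_tree lc_b_rc_26_5 lc_b_rc_10_2 lc_b_rc_6_1 lc_b_rc_26_5 lc_b_rc_8_2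 lc_b_rc_9_2 lc_b_rc_8_2 lc_b_rc_26_5 lc_b_Cert_tree) (@D3.rec (fun _ => (Cert rels S Gen.b)) lc_b_rc_7_2 lc_b_rc_9_2 lc_b_rc_9_2 lc_b_rc_25_12 lc_b_rc_7_0 lc_b_rc_7_0 lc_b_rc_8_2 lc_b_rc_1_3 lc_b_rc_9_2 lc_b_rc_8_2 lc_b_rc_1_5 lc_b_rc_8_0 lc_b_rc_9_2 lc_b_rc_26_7 lc_b_rc_9_2 lc_b_rc_6_1 lc_b_Cert_tree lc_b_rc_8_2 lc_b_rc_9_2 lc_b_rc_9_2 lc_b_Cert_tree lc_b_rc_7_0 lc_b_rc_26_7 lc_b_Cert_tree lc_b_Cert_tree lc_b_rc_6_1 lc_b_rc_6_1 lc_b_rc_1_3 lc_b_rc_8_2 lc_b_rc_9_2 lc_b_rc_9_2 lc_b_rc_8_2 lc_b_rc_10_2 lc_b_rc_1_5 lc_b_rc_1_3 lc_b_rc_8_2 lc_b_rc_9_2 lc_b_rc_9_2 lc_b_rc_8_2 lc_b_rc_6_1 lc_b_rc_9_2 lc_b_rc_6_1 lc_b_rc_10_2 lc_b_rc_26_5 lc_b_rc_6_1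 lc_b_rc_8_2 lc_b_rc_10_2 lc_b_rc_6_1 lc_b_rc_8_2 lc_b_rc_26_7 lc_b_rc_8_2 lc_b_rc_8_2 lc_b_rc_8_2 lc_b_rc_26_7 lc_b_rc_8_2 lc_b_rc_8_2 lc_b_rc_10_2 lc_b_rc_26_5 lc_b_rc_6_1 lc_b_rc_1_5 lc_b_rc_6_1 lc_b_rc_1_5) (@D3.rec (fun _ => (Cert rels S Gen.b)) lc_b_rc_25_4 lc_b_rc_6_1 lc_b_rc_9_0 lc_b_rc_1_3 lc_b_rc_9_2 lc_b_rc_7_4 lc_b_rc_8_2 lc_b_rc_9_2 lc_b_rc_8_2 lc_b_rc_9_2 lc_b_rc_9_2 lc_b_Cert_tree lc_b_rc_8_0 lc_b_rc_9_2 lc_b_rc_6_1 lc_b_rc_9_2 lc_b_rc_8_2 lc_b_rc_10_2 lc_b_Cert_tree lc_b_rc_6_1 lc_b_rc_8_2 lc_b_rc_7_4 lc_b_rc_8_2 lc_b_rc_8_2 lc_b_rc_26_5 lc_b_rc_8_2 lc_b_rc_25_12 lc_b_rc_10_2 lc_b_rc_6_1 lc_b_rc_8_2 lc_b_rc_6_1 lc_b_rc_10_2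 lc_b_rc_1_3 lc_b_rc_9_2 lc_b_rc_6_1 lc_b_rc_6_1 lc_b_rc_9_2 lc_b_rc_6_1 lc_b_rc_9_2 lc_b_rc_6_1 lc_b_rc_6_1 lc_b_rc_10_2 lc_b_rc_9_2 lc_b_rc_6_1 lc_b_rc_6_1 lc_b_rc_6_1 lc_b_rc_9_2 lc_b_rc_26_5 lc_b_rc_26_7 lc_b_rc_9_2 lc_b_rc_6_1 lc_b_rc_1_3 lc_b_rc_6_1 lc_b_rc_6_1 lc_b_rc_7_2 lc_b_rc_9_2 lc_b_rc_6_1 lc_b_rc_7_2 lc_b_rc_8_2 lc_b_rc_10_2 lc_b_rc_8_0 lc_b_rc_6_1) (@D3.rec (fun _ => (Cert rels S Gen.b)) lc_b_rc_8_2 lc_b_rc_10_2 lc_b_rc_6_1 lc_b_rc_7_0 lc_b_rc_9_2 lc_b_rc_6_1 lc_b_rc_1_5 lc_b_rc_9_2 lc_b_rc_1_5 lc_b_rc_26_5 lc_b_rc_8_2 lc_b_rc_7_4 lc_b_rc_6_1 lc_b_rc_25_8 lc_b_rc_7_4 lc_b_rc_8_2 lc_b_rc_9_2 lc_b_rc_6_1 lc_b_rc_8_2 lc_b_rc_8_2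 lc_b_rc_6_1 lc_b_rc_7_2 lc_b_rc_9_2 lc_b_rc_1_5 lc_b_rc_8_0 lc_b_rc_7_0 lc_b_rc_9_2 lc_b_rc_9_2 lc_b_rc_6_1 lc_b_rc_8_2 lc_b_rc_6_1 lc_b_rc_8_2 lc_b_rc_9_2 lc_b_rc_1_3 lc_b_rc_9_2 lc_b_Cert_tree lc_b_rc_6_1 lc_b_rc_7_4 lc_b_rc_9_2 lc_b_rc_6_1 lc_b_rc_6_1 lc_b_rc_8_2 lc_b_rc_10_2 lc_b_Cert_tree lc_b_rc_26_5 lc_b_rc_10_2 lc_b_rc_8_2 lc_b_Cert_tree lc_b_rc_10_2 lc_b_rc_7_2 lc_b_rc_9_2 lc_b_rc_7_4 lc_b_rc_1_3 lc_b_rc_1_3 lc_b_rc_9_2 lc_b_rc_25_4 lc_b_rc_6_1 lc_b_rc_6_1 lc_b_rc_9_2 lc_b_rc_8_2 lc_b_rc_1_3 lc_b_rc_9_2) (@D3.rec (fun _ => (Cert rels S Gen.b)) lc_b_rc_26_1 lc_b_rc_26_5 lc_b_rc_9_2 lc_b_rc_25_16 lc_b_rc_8_2 lc_b_rc_26_1 lc_b_rc_8_2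 lc_b_rc_9_2 lc_b_rc_8_2 lc_b_rc_26_7 lc_b_rc_8_2 lc_b_rc_6_1 lc_b_rc_8_2 lc_b_rc_9_2 lc_b_rc_6_1 lc_b_rc_7_0 lc_b_rc_9_2 lc_b_Cert_tree lc_b_rc_9_2 lc_b_rc_6_1 lc_b_rc_25_16 lc_b_rc_26_7 lc_b_rc_7_0 lc_b_rc_8_2 lc_b_rc_10_2 lc_b_rc_6_1 lc_b_rc_8_2 lc_b_rc_9_2 lc_b_rc_26_5 lc_b_rc_6_1 lc_b_rc_9_2 lc_b_rc_6_1 lc_b_rc_1_5 lc_b_rc_9_2 lc_b_rc_7_4 lc_b_rc_9_2 lc_b_rc_8_2 lc_b_rc_7_0 lc_b_rc_26_5 lc_b_rc_8_2 lc_b_rc_9_2 lc_b_rc_8_0 lc_b_rc_8_2 lc_b_rc_10_2 lc_b_rc_6_1 lc_b_rc_9_2 lc_b_Cert_tree lc_b_rc_8_2 lc_b_rc_9_2 lc_b_rc_9_2 lc_b_rc_26_7 lc_b_rc_7_0 lc_b_rc_6_1 lc_b_rc_10_2 lc_b_rc_9_2 lc_b_rc_9_2 lc_b_rc_8_0 lc_b_rc_26_1 lc_b_rc_10_2 lc_b_rc_9_2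 lc_b_rc_7_2 lc_b_rc_9_2) (@D3.rec (fun _ => (Cert rels S Gen.b)) lc_b_rc_6_1 lc_b_rc_9_2 lc_b_rc_8_2 lc_b_rc_6_1 lc_b_rc_8_2 lc_b_rc_10_2 lc_b_rc_9_0 lc_b_rc_10_2 lc_b_rc_6_1 lc_b_rc_8_0 lc_b_rc_8_0 lc_b_rc_9_2 lc_b_rc_7_0 lc_b_rc_1_1 lc_b_rc_6_1 lc_b_rc_8_0 lc_b_rc_7_2 lc_b_rc_9_2 lc_b_rc_6_1 lc_b_rc_8_0 lc_b_rc_7_4 lc_b_rc_7_2 lc_b_rc_26_1 lc_b_rc_9_2 lc_b_rc_9_2 lc_b_rc_8_2 lc_b_rc_10_0 lc_b_rc_9_2 lc_b_rc_26_7 lc_b_rc_7_4 lc_b_rc_8_2 lc_b_rc_9_2 lc_b_rc_10_2 lc_b_rc_26_7 lc_b_rc_6_1 lc_b_rc_8_2 lc_b_rc_8_2 lc_b_rc_9_2 lc_b_rc_10_2 lc_b_rc_10_2 lc_b_rc_1_5 lc_b_rc_8_2 lc_b_rc_6_1 lc_b_rc_6_1 lc_b_rc_6_1 lc_b_rc_6_1 lc_b_rc_6_1 lc_b_rc_7_4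 lc_b_rc_1_3 lc_b_rc_9_2 lc_b_rc_9_0 lc_b_Cert_tree lc_b_rc_8_2 lc_b_rc_26_5 lc_b_rc_9_2 lc_b_rc_6_1 lc_b_rc_10_0 lc_b_rc_9_2 lc_b_rc_1_3 lc_b_rc_9_0 lc_b_rc_6_1 lc_b_rc_8_0) (@D3.rec (fun _ => (Cert rels S Gen.b)) lc_b_rc_1_5 lc_b_rc_6_1 lc_b_rc_26_5 lc_b_rc_9_2 lc_b_rc_6_1 lc_b_rc_6_1 lc_b_rc_9_2 lc_b_rc_6_1 lc_b_rc_6_1 lc_b_rc_8_2 lc_b_rc_9_2 lc_b_rc_8_2 lc_b_rc_8_0 lc_b_rc_8_2 lc_b_rc_26_7 lc_b_rc_8_2 lc_b_rc_8_2 lc_b_rc_9_2 lc_b_rc_7_4 lc_b_rc_8_2 lc_b_rc_10_2 lc_b_rc_9_2 lc_b_rc_10_2 lc_b_rc_6_1 lc_b_rc_7_4 lc_b_rc_9_0 lc_b_Cert_tree lc_b_rc_1_1 lc_b_rc_6_1 lc_b_rc_10_2 lc_b_rc_7_0 lc_b_rc_8_2 lc_b_Cert_tree lc_b_rc_6_1 lc_b_rc_9_2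 lc_b_rc_6_1 lc_b_rc_26_7 lc_b_rc_8_2 lc_b_rc_1_3 lc_b_rc_8_2 lc_b_rc_9_2 lc_b_rc_6_1 lc_b_rc_26_7 lc_b_rc_26_5 lc_b_rc_10_2 lc_b_rc_6_1 lc_b_rc_8_2 lc_b_rc_8_0 lc_b_rc_6_1 lc_b_rc_8_2 lc_b_rc_26_1 lc_b_rc_6_1 lc_b_rc_6_1 lc_b_rc_7_4 lc_b_rc_10_2 lc_b_rc_7_4 lc_b_rc_8_2 lc_b_rc_26_5 lc_b_rc_26_1 lc_b_rc_10_0 lc_b_rc_8_2 lc_b_rc_9_2) (@D3.rec (fun _ => (Cert rels S Gen.b)) lc_b_rc_8_2 lc_b_rc_9_2 lc_b_rc_26_5 lc_b_rc_9_2 lc_b_Cert_tree lc_b_rc_1_3 lc_b_rc_8_2 lc_b_rc_6_1 lc_b_Cert_tree lc_b_rc_8_2 lc_b_rc_26_5 lc_b_rc_26_5 lc_b_rc_8_2 lc_b_rc_9_2 lc_b_rc_26_5 lc_b_rc_8_0 lc_b_rc_10_2 lc_b_rc_8_2 lc_b_rc_6_1 lc_b_rc_8_2 lc_b_rc_26_5 lc_b_rc_9_0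 lc_b_rc_1_1 lc_b_rc_7_2 lc_b_rc_9_0 lc_b_rc_7_4 lc_b_rc_7_4 lc_b_rc_6_1 lc_b_rc_1_3 lc_b_rc_7_4 lc_b_rc_26_1 lc_b_rc_9_2 lc_b_rc_9_2 lc_b_rc_9_2 lc_b_rc_8_2 lc_b_rc_1_1 lc_b_rc_1_3 lc_b_rc_9_2 lc_b_rc_26_1 lc_b_rc_6_1 lc_b_rc_1_3 lc_b_rc_26_5 lc_b_rc_6_1 lc_b_rc_8_0 lc_b_rc_10_2 lc_b_rc_9_2 lc_b_rc_7_2 lc_b_rc_9_2 lc_b_rc_6_1 lc_b_rc_7_4 lc_b_rc_26_7 lc_b_rc_9_0 lc_b_rc_9_2 lc_b_rc_8_2 lc_b_rc_8_2 lc_b_rc_9_2 lc_b_rc_1_1 lc_b_rc_8_2 lc_b_rc_7_4 lc_b_rc_6_1 lc_b_rc_8_2 lc_b_rc_1_5) (@D3.rec (fun _ => (Cert rels S Gen.b)) lc_b_rc_6_1 lc_b_rc_26_7 lc_b_rc_7_4 lc_b_rc_26_5 lc_b_rc_26_7 lc_b_rc_8_2 lc_b_rc_9_2 lc_b_rc_10_2 lc_b_rc_7_2 lc_b_rc_10_2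 lc_b_rc_8_2 lc_b_rc_8_0 lc_b_rc_9_0 lc_b_rc_9_2 lc_b_rc_9_0 lc_b_rc_8_2 lc_b_rc_9_2 lc_b_rc_26_5 lc_b_rc_8_2 lc_b_rc_9_0 lc_b_rc_6_1 lc_b_rc_25_4 lc_b_rc_9_2 lc_b_rc_6_1 lc_b_Cert_tree lc_b_rc_1_1 lc_b_rc_8_0 lc_b_rc_1_5 lc_b_rc_8_2 lc_b_rc_10_2 lc_b_rc_7_2 lc_b_rc_10_2 lc_b_rc_8_2 lc_b_rc_8_0 lc_b_rc_7_0 lc_b_rc_7_2 lc_b_rc_6_1 lc_b_rc_10_0 lc_b_rc_8_2 lc_b_rc_6_1 lc_b_rc_8_2 lc_b_rc_1_5 lc_b_rc_26_1 lc_b_rc_6_1 lc_b_rc_26_5 lc_b_rc_8_2 lc_b_rc_9_2 lc_b_rc_26_1 lc_b_rc_26_7 lc_b_rc_26_7 lc_b_rc_26_7 lc_b_rc_10_2 lc_b_rc_8_2 lc_b_rc_8_2 lc_b_rc_9_2 lc_b_rc_8_2 lc_b_rc_8_2 lc_b_rc_26_5 lc_b_rc_26_1 lc_b_rc_10_2 lc_b_rc_8_2 lc_b_rc_6_1) (@D3.rec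 (fun _ => (Cert rels S Gen.b)) lc_b_rc_1_5 lc_b_rc_7_4 lc_b_rc_8_2 lc_b_rc_6_1 lc_b_rc_10_2 lc_b_rc_9_2 lc_b_rc_10_2 lc_b_rc_8_2 lc_b_rc_7_2 lc_b_rc_7_4 lc_b_rc_8_2 lc_b_rc_7_2 lc_b_rc_7_2 lc_b_Cert_tree lc_b_rc_6_1 lc_b_rc_8_2 lc_b_rc_6_1 lc_b_rc_9_2 lc_b_rc_6_1 lc_b_rc_7_4 lc_b_rc_9_2 lc_b_rc_26_5 lc_b_rc_8_2 lc_b_rc_6_1 lc_b_rc_8_2 lc_b_rc_7_4 lc_b_rc_9_2 lc_b_rc_1_3 lc_b_rc_10_2 lc_b_rc_6_1 lc_b_rc_8_2 lc_b_rc_6_1 lc_b_rc_26_7 lc_b_rc_26_1 lc_b_rc_10_2 lc_b_rc_1_1 lc_b_rc_1_1 lc_b_Cert_tree lc_b_rc_9_2 lc_b_rc_8_2 lc_b_rc_10_2 lc_b_rc_6_1 lc_b_rc_8_2 lc_b_rc_26_5 lc_b_rc_9_2 lc_b_rc_26_7 lc_b_rc_9_0 lc_b_rc_10_2 lc_b_rc_9_2 lc_b_rc_8_2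 lc_b_rc_1_3 lc_b_rc_9_0 lc_b_rc_1_3 lc_b_rc_6_1 lc_b_rc_10_2 lc_b_rc_10_2 lc_b_rc_25_4 lc_b_rc_6_1 lc_b_rc_26_1 lc_b_rc_8_2 lc_b_rc_9_2 lc_b_rc_6_1) (@D3.rec (fun _ => (Cert rels S Gen.b)) lc_b_rc_6_1 lc_b_rc_26_5 lc_b_rc_8_2 lc_b_rc_26_5 lc_b_rc_8_2 lc_b_rc_26_5 lc_b_rc_7_0 lc_b_rc_7_4 lc_b_rc_8_2 lc_b_rc_9_2 lc_b_rc_6_1 lc_b_Cert_tree lc_b_rc_8_2 lc_b_rc_10_2 lc_b_Cert_tree lc_b_rc_8_0 lc_b_rc_7_0 lc_b_rc_26_5 lc_b_rc_26_7 lc_b_rc_6_1 lc_b_rc_26_5 lc_b_rc_9_2 lc_b_rc_6_1 lc_b_rc_6_1 lc_b_rc_8_2 lc_b_rc_10_2 lc_b_rc_6_1 lc_b_rc_8_2 lc_b_rc_6_1 lc_b_rc_9_0 lc_b_rc_9_0 lc_b_rc_6_1 lc_b_rc_9_2 lc_b_rc_26_5 lc_b_rc_6_1 lc_b_rc_8_2 lc_b_rc_8_0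 lc_b_rc_6_1 lc_b_rc_26_1 lc_b_rc_26_5 lc_b_rc_26_7 lc_b_rc_9_2 lc_b_rc_26_7 lc_b_rc_26_1 lc_b_rc_26_7 lc_b_rc_8_2 lc_b_rc_8_2 lc_b_rc_1_3 lc_b_rc_26_1 lc_b_rc_26_5 lc_b_rc_9_2 lc_b_rc_26_7 lc_b_rc_6_1 lc_b_rc_6_1 lc_b_rc_7_4 lc_b_rc_26_5 lc_b_rc_6_1 lc_b_rc_6_1 lc_b_rc_25_0 lc_b_rc_10_2 lc_b_rc_9_2 lc_b_rc_26_5) (@D3.rec (fun _ => (Cert rels S Gen.b)) lc_b_rc_6_1 lc_b_rc_26_5 lc_b_rc_9_2 lc_b_rc_9_2 lc_b_rc_9_0 lc_b_rc_8_2 lc_b_rc_10_2 lc_b_Cert_tree lc_b_rc_8_2 lc_b_rc_9_2 lc_b_rc_9_0 lc_b_rc_26_1 lc_b_rc_10_2 lc_b_rc_6_1 lc_b_rc_26_1 lc_b_rc_25_0 lc_b_rc_26_7 lc_b_rc_6_1 lc_b_rc_26_5 lc_b_rc_26_1 lc_b_rc_8_0 lc_b_rc_6_1 lc_b_rc_26_5 lc_b_rc_6_1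 lc_b_rc_9_2 lc_b_rc_10_2 lc_b_rc_9_2 lc_b_rc_6_1 lc_b_rc_26_5 lc_b_rc_9_2 lc_b_rc_6_1 lc_b_rc_8_0 lc_b_rc_6_1 lc_b_rc_6_1 lc_b_rc_9_0 lc_b_rc_10_2 lc_b_rc_6_1 lc_b_rc_7_4 lc_b_rc_9_2 lc_b_Cert_tree lc_b_rc_9_2 lc_b_rc_9_2 lc_b_rc_1_5 lc_b_rc_9_2 lc_b_rc_8_2 lc_b_rc_10_2 lc_b_rc_6_1 lc_b_rc_10_2 lc_b_rc_6_1 lc_b_rc_26_5 lc_b_rc_6_1 lc_b_rc_10_2 lc_b_rc_7_2 lc_b_rc_7_4 lc_b_rc_6_1 lc_b_rc_6_1 lc_b_rc_6_1 lc_b_rc_9_0 lc_b_rc_7_2 lc_b_rc_26_5 lc_b_rc_10_2 lc_b_rc_8_2)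
def ce_b_25 : D2 → D3 → (Cert rels S Gen.b) := @D2.rec (fun _ => D3 → (Cert rels S Gen.b)) (@D3.rec (fun _ => (Cert rels S Gen.b)) lc_b_rc_26_5 lc_b_rc_1_5 lc_b_rc_7_0 lc_b_rc_26_5 lc_b_rc_26_5 lc_b_rc_26_1 lc_b_rc_6_1 lc_b_rc_10_2 lc_b_rc_26_1 lc_b_rc_6_1 lc_b_rc_8_2 lc_b_rc_10_2 lc_b_rc_9_2 lc_b_rc_9_2 lc_b_rc_6_1 lc_b_rc_6_1 lc_b_rc_6_1 lc_b_rc_9_2 lc_b_rc_6_1 lc_b_rc_8_2 lc_b_rc_8_0 lc_b_rc_26_1 lc_b_rc_7_4 lc_b_rc_9_2 lc_b_rc_8_2 lc_b_rc_8_2 lc_b_rc_6_1 lc_b_rc_25_0 lc_b_Cert_tree lc_b_rc_8_2 lc_b_rc_8_2 lc_b_rc_8_2 lc_b_rc_6_1 lc_b_rc_1_3 lc_b_rc_9_2 lc_b_rc_8_2 lc_b_rc_8_2 lc_b_rc_7_4 lc_b_rc_6_1 lc_b_rc_26_5 lc_b_rc_6_1 lc_b_rc_8_2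 lc_b_rc_26_5 lc_b_Cert_tree lc_b_rc_8_2 lc_b_rc_6_1 lc_b_rc_8_0 lc_b_rc_6_1 lc_b_rc_1_3 lc_b_rc_8_2 lc_b_rc_8_2 lc_b_rc_6_1 lc_b_rc_1_5 lc_b_rc_1_5 lc_b_rc_6_1 lc_b_rc_26_7 lc_b_rc_7_0 lc_b_rc_26_5 lc_b_rc_10_2 lc_b_rc_6_1 lc_b_rc_1_5 lc_b_rc_6_1) (@D3.rec (fun _ => (Cert rels S Gen.b)) lc_b_rc_8_2 lc_b_rc_6_1 lc_b_rc_6_1 lc_b_rc_8_2 lc_b_rc_9_2 lc_b_rc_10_2 lc_b_rc_26_5 lc_b_rc_7_0 lc_b_rc_10_2 lc_b_rc_9_2 lc_b_rc_8_0 lc_b_rc_9_2 lc_b_rc_25_0 lc_b_rc_9_0 lc_b_rc_8_2 lc_b_rc_10_2 lc_b_rc_1_3 lc_b_rc_9_2 lc_b_rc_8_2 lc_b_rc_6_1 lc_b_rc_1_3 lc_b_rc_9_2 lc_b_rc_10_2 lc_b_rc_7_2 lc_b_rc_6_1 lc_b_rc_10_2 lc_b_rc_9_0 lc_b_rc_9_2 lc_b_rc_9_2 lc_b_rc_26_5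 lc_b_rc_9_2 lc_b_rc_6_1 lc_b_rc_26_5 lc_b_rc_7_2 lc_b_rc_8_2 lc_b_rc_10_2 lc_b_rc_6_1 lc_b_rc_26_5 lc_b_rc_6_1 lc_b_rc_26_7 lc_b_rc_9_2 lc_b_rc_6_1 lc_b_rc_26_5 lc_b_rc_9_2 lc_b_rc_26_5 lc_b_rc_25_4 lc_b_rc_8_2 lc_b_rc_10_2 lc_b_rc_25_16 lc_b_rc_9_0 lc_b_rc_7_2 lc_b_rc_6_1 lc_b_rc_6_1 lc_b_rc_7_0 lc_b_rc_9_2 lc_b_rc_8_2 lc_b_rc_9_2 lc_b_rc_8_0 lc_b_rc_6_1 lc_b_rc_10_2 lc_b_Cert_tree lc_b_rc_9_2) (@D3.rec (fun _ => (Cert rels S Gen.b)) lc_b_rc_10_2 lc_b_rc_25_16 lc_b_rc_6_1 lc_b_rc_26_5 lc_b_rc_6_1 lc_b_rc_7_0 lc_b_rc_8_2 lc_b_rc_9_2 lc_b_rc_26_5 lc_b_rc_7_4 lc_b_rc_10_2 lc_b_rc_6_1 lc_b_rc_10_2 lc_b_rc_9_2 lc_b_rc_9_2 lc_b_rc_8_2 lc_b_rc_6_1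 lc_b_rc_8_2 lc_b_rc_9_2 lc_b_rc_1_1 lc_b_rc_9_0 lc_b_rc_8_2 lc_b_rc_9_2 lc_b_rc_9_2 lc_b_rc_6_1 lc_b_rc_8_2 lc_b_rc_9_2 lc_b_rc_8_2 lc_b_rc_10_2 lc_b_rc_26_7 lc_b_rc_6_1 lc_b_rc_8_2 lc_b_rc_10_2 lc_b_rc_26_7 lc_b_rc_9_2 lc_b_rc_6_1 lc_b_rc_26_7 lc_b_rc_7_0 lc_b_rc_8_2 lc_b_rc_8_2 lc_b_Cert_tree lc_b_rc_8_2 lc_b_rc_9_2 lc_b_rc_6_1 lc_b_rc_26_1 lc_b_rc_9_2 lc_b_rc_7_2 lc_b_rc_8_2 lc_b_rc_7_4 lc_b_rc_8_2 lc_b_rc_25_4 lc_b_rc_8_2 lc_b_rc_10_2 lc_b_rc_9_2 lc_b_rc_26_7 lc_b_rc_9_2 lc_b_rc_6_1 lc_b_rc_8_0 lc_b_rc_26_1 lc_b_rc_26_1 lc_b_rc_26_5 lc_b_rc_10_2) (@D3.rec (fun _ => (Cert rels S Gen.b)) lc_b_rc_8_0 lc_b_rc_1_1 lc_b_rc_26_1 lc_b_rc_9_2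 lc_b_rc_6_1 lc_b_rc_6_1 lc_b_rc_9_0 lc_b_rc_9_2 lc_b_rc_6_1 lc_b_rc_6_1 lc_b_rc_8_2 lc_b_rc_8_2 lc_b_rc_10_2 lc_b_rc_26_1 lc_b_rc_9_0 lc_b_rc_7_4 lc_b_rc_6_1 lc_b_rc_9_2 lc_b_rc_8_0 lc_b_rc_1_3 lc_b_rc_25_0 lc_b_rc_10_2 lc_b_rc_26_5 lc_b_rc_7_2 lc_b_rc_9_2 lc_b_rc_26_5 lc_b_rc_8_2 lc_b_rc_10_2 lc_b_rc_6_1 lc_b_rc_26_1 lc_b_rc_6_1 lc_b_rc_26_7 lc_b_rc_8_2 lc_b_rc_10_2 lc_b_rc_9_0 lc_b_rc_26_1 lc_b_rc_7_2 lc_b_rc_6_1 lc_b_rc_1_3 lc_b_rc_9_2 lc_b_rc_9_2 lc_b_rc_26_5 lc_b_rc_9_2 lc_b_rc_6_1 lc_b_rc_1_5 lc_b_rc_9_2 lc_b_rc_26_1 lc_b_rc_9_0 lc_b_rc_26_5 lc_b_rc_8_2 lc_b_rc_6_1 lc_b_rc_7_0 lc_b_rc_8_2 lc_b_rc_9_2 lc_b_rc_8_2 lc_b_rc_8_2 lc_b_rc_10_0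 lc_b_rc_25_0 lc_b_rc_6_1 lc_b_rc_9_2 lc_b_rc_6_1 lc_b_rc_10_0) (@D3.rec (fun _ => (Cert rels S Gen.b)) lc_b_rc_6_1 lc_b_rc_8_2 lc_b_rc_7_2 lc_b_rc_7_2 lc_b_rc_6_1 lc_b_rc_1_3 lc_b_rc_9_2 lc_b_rc_8_2 lc_b_rc_6_1 lc_b_rc_9_2 lc_b_rc_6_1 lc_b_rc_9_2 lc_b_rc_8_2 lc_b_rc_6_1 lc_b_rc_6_1 lc_b_rc_7_2 lc_b_rc_8_0 lc_b_rc_6_1 lc_b_rc_26_5 lc_b_rc_8_2 lc_b_rc_6_1 lc_b_rc_9_2 lc_b_rc_8_2 lc_b_rc_6_1 lc_b_rc_6_1 lc_b_rc_8_2 lc_b_rc_6_1 lc_b_rc_9_2 lc_b_rc_6_1 lc_b_rc_8_2 lc_b_rc_26_5 lc_b_rc_6_1 lc_b_rc_8_2 lc_b_rc_6_1 lc_b_rc_6_1 lc_b_rc_6_1 lc_b_rc_9_2 lc_b_rc_6_1 lc_b_rc_8_2 lc_b_rc_1_3 lc_b_rc_9_2 lc_b_rc_6_1 lc_b_rc_6_1 lc_b_rc_7_4 lc_b_rc_9_2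 lc_b_rc_9_0 lc_b_rc_25_4 lc_b_rc_8_2 lc_b_rc_10_2 lc_b_rc_26_5 lc_b_rc_26_1 lc_b_rc_26_1 lc_b_rc_25_0 lc_b_rc_9_0 lc_b_rc_8_2 lc_b_rc_8_2 lc_b_rc_6_1 lc_b_rc_8_2 lc_b_rc_8_2 lc_b_rc_9_2 lc_b_rc_9_2 lc_b_rc_8_0) (@D3.rec (fun _ => (Cert rels S Gen.b)) lc_b_rc_9_2 lc_b_rc_10_2 lc_b_rc_8_2 lc_b_Cert_tree lc_b_rc_7_4 lc_b_rc_9_2 lc_b_rc_6_1 lc_b_rc_10_2 lc_b_rc_6_1 lc_b_rc_7_0 lc_b_rc_26_1 lc_b_rc_10_2 lc_b_rc_9_2 lc_b_rc_1_1 lc_b_rc_10_2 lc_b_rc_9_2 lc_b_rc_7_4 lc_b_rc_10_2 lc_b_rc_10_0 lc_b_rc_8_2 lc_b_rc_9_2 lc_b_rc_26_5 lc_b_rc_9_2 lc_b_rc_1_5 lc_b_rc_8_2 lc_b_rc_6_1 lc_b_rc_25_4 lc_b_rc_9_2 lc_b_rc_9_2 lc_b_rc_6_1 lc_b_rc_8_0 lc_b_rc_8_2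 lc_b_rc_1_1 lc_b_rc_6_1 lc_b_rc_9_2 lc_b_rc_1_5 lc_b_rc_10_2 lc_b_rc_10_2 lc_b_rc_8_2 lc_b_rc_9_2 lc_b_rc_26_5 lc_b_rc_8_2 lc_b_rc_10_2 lc_b_rc_6_1 lc_b_rc_8_2 lc_b_rc_1_3 lc_b_rc_6_1 lc_b_rc_26_7 lc_b_rc_26_5 lc_b_rc_26_1 lc_b_rc_1_5 lc_b_rc_10_2 lc_b_rc_6_1 lc_b_rc_8_2 lc_b_rc_7_2 lc_b_rc_26_5 lc_b_rc_26_5 lc_b_rc_9_0 lc_b_rc_6_1 lc_b_rc_10_2 lc_b_rc_8_2 lc_b_rc_6_1) (@D3.rec (fun _ => (Cert rels S Gen.b)) lc_b_rc_10_2 lc_b_rc_1_3 lc_b_rc_8_2 lc_b_rc_6_1 lc_b_rc_6_1 lc_b_rc_9_0 lc_b_rc_8_0 lc_b_rc_6_1 lc_b_rc_26_5 lc_b_rc_9_2 lc_b_rc_6_1 lc_b_rc_10_2 lc_b_rc_8_2 lc_b_rc_10_2 lc_b_rc_10_0 lc_b_rc_6_1 lc_b_rc_26_1 lc_b_rc_8_2 lc_b_rc_6_1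 lc_b_rc_8_2 lc_b_rc_9_2 lc_b_rc_7_4 lc_b_rc_6_1 lc_b_rc_26_5 lc_b_rc_9_2 lc_b_rc_1_1 lc_b_rc_6_1 lc_b_rc_8_2 lc_b_rc_26_7 lc_b_rc_8_2 lc_b_rc_8_2 lc_b_Cert_tree lc_b_Cert_tree lc_b_rc_6_1 lc_b_rc_8_2 lc_b_rc_6_1 lc_b_rc_6_1 lc_b_rc_1_3 lc_b_rc_10_2 lc_b_rc_6_1 lc_b_rc_8_2 lc_b_rc_6_1 lc_b_rc_8_2 lc_b_Cert_tree lc_b_rc_7_4 lc_b_rc_9_0 lc_b_rc_6_1 lc_b_rc_1_3 lc_b_rc_6_1 lc_b_rc_7_4 lc_b_rc_6_1 lc_b_rc_26_5 lc_b_rc_9_2 lc_b_rc_8_0 lc_b_rc_7_0 lc_b_rc_8_2 lc_b_rc_10_2 lc_b_rc_6_1 lc_b_rc_6_1 lc_b_rc_6_1 lc_b_rc_26_5 lc_b_rc_6_1) (@D3.rec (fun _ => (Cert rels S Gen.b)) lc_b_rc_7_4 lc_b_rc_6_1 lc_b_rc_26_5 lc_b_rc_8_2 lc_b_Cert_tree lc_b_rc_6_1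 lc_b_rc_8_2 lc_b_rc_6_1 lc_b_rc_8_2 lc_b_rc_7_4 lc_b_rc_6_1 lc_b_rc_6_1 lc_b_rc_9_2 lc_b_rc_10_2 lc_b_rc_1_3 lc_b_rc_6_1 lc_b_rc_1_3 lc_b_rc_8_2 lc_b_rc_9_2 lc_b_rc_10_2 lc_b_rc_6_1 lc_b_rc_25_16 lc_b_rc_26_5 lc_b_rc_7_2 lc_b_rc_10_2 lc_b_rc_7_2 lc_b_rc_9_2 lc_b_rc_8_2 lc_b_rc_1_3 lc_b_rc_6_1 lc_b_rc_6_1 lc_b_rc_9_2 lc_b_rc_1_1 lc_b_rc_6_1 lc_b_rc_7_0 lc_b_rc_9_2 lc_b_rc_9_0 lc_b_rc_26_5 lc_b_rc_26_7 lc_b_rc_26_1 lc_b_rc_26_5 lc_b_rc_26_1 lc_b_rc_1_3 lc_b_rc_7_4 lc_b_rc_26_5 lc_b_rc_9_2 lc_b_rc_6_1 lc_b_rc_6_1 lc_b_rc_8_2 lc_b_rc_10_2 lc_b_rc_6_1 lc_b_rc_9_0 lc_b_rc_26_7 lc_b_rc_6_1 lc_b_rc_10_2 lc_b_rc_1_3 lc_b_rc_6_1 lc_b_rc_10_0 lc_b_rc_1_3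 lc_b_rc_9_2 lc_b_rc_7_4 lc_b_rc_1_3) (@D3.rec (fun _ => (Cert rels S Gen.b)) lc_b_rc_9_2 lc_b_rc_8_2 lc_b_rc_9_2 lc_b_rc_8_2 lc_b_rc_8_2 lc_b_rc_7_4 lc_b_rc_9_2 lc_b_rc_7_0 lc_b_rc_6_1 lc_b_rc_8_2 lc_b_rc_10_2 lc_b_rc_6_1 lc_b_rc_26_1 lc_b_Cert_tree lc_b_rc_26_7 lc_b_rc_9_2 lc_b_rc_7_2 lc_b_rc_6_1 lc_b_rc_25_8 lc_b_rc_26_5 lc_b_rc_9_2 lc_b_Cert_tree lc_b_Cert_tree lc_b_rc_8_2 lc_b_rc_10_2 lc_b_rc_6_1 lc_b_rc_9_0 lc_b_rc_6_1 lc_b_rc_8_2 lc_b_rc_8_2 lc_b_rc_9_2 lc_b_rc_10_2 lc_b_rc_7_4 lc_b_rc_9_2 lc_b_rc_6_1 lc_b_rc_26_5 lc_b_rc_7_4 lc_b_Cert_tree lc_b_Cert_tree lc_b_rc_8_2 lc_b_rc_6_1 lc_b_rc_8_2 lc_b_rc_8_2 lc_b_rc_1_3 lc_b_rc_1_5 lc_b_rc_7_2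 lc_b_rc_7_0 lc_b_rc_6_1 lc_b_rc_6_1 lc_b_rc_6_1 lc_b_rc_9_0 lc_b_rc_8_2 lc_b_rc_10_2 lc_b_rc_6_1 lc_b_rc_8_2 lc_b_rc_26_5 lc_b_rc_10_0 lc_b_rc_8_2 lc_b_rc_9_2 lc_b_rc_8_2 lc_b_rc_8_2 lc_b_rc_9_2) (@D3.rec (fun _ => (Cert rels S Gen.b)) lc_b_rc_8_2 lc_b_rc_6_1 lc_b_rc_6_1 lc_b_rc_6_1 lc_b_rc_26_5 lc_b_rc_26_5 lc_b_rc_26_1 lc_b_rc_9_2 lc_b_rc_9_2 lc_b_rc_8_2 lc_b_rc_6_1 lc_b_rc_9_2 lc_b_rc_6_1 lc_b_rc_6_1 lc_b_rc_8_2 lc_b_rc_9_2 lc_b_rc_6_1 lc_b_rc_6_1 lc_b_rc_1_3 lc_b_rc_8_2 lc_b_rc_7_4 lc_b_rc_9_2 lc_b_rc_9_0 lc_b_rc_26_5 lc_b_rc_7_0 lc_b_rc_9_2 lc_b_rc_10_2 lc_b_rc_10_2 lc_b_rc_1_3 lc_b_rc_7_4 lc_b_rc_8_2 lc_b_rc_7_2 lc_b_rc_7_0 lc_b_rc_8_2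 lc_b_rc_9_2 lc_b_rc_8_2 lc_b_rc_9_2 lc_b_rc_26_5 lc_b_rc_9_2 lc_b_rc_9_0 lc_b_rc_8_2 lc_b_rc_9_2 lc_b_rc_26_1 lc_b_rc_9_2 lc_b_rc_6_1 lc_b_rc_26_5 lc_b_rc_6_1 lc_b_rc_6_1 lc_b_rc_8_0 lc_b_rc_25_8 lc_b_rc_9_2 lc_b_rc_6_1 lc_b_rc_7_0 lc_b_rc_7_4 lc_b_rc_9_2 lc_b_rc_6_1 lc_b_rc_1_5 lc_b_rc_1_3 lc_b_rc_8_2 lc_b_rc_1_5 lc_b_rc_9_2 lc_b_rc_6_1) (@D3.rec (fun _ => (Cert rels S Gen.b)) lc_b_rc_26_1 lc_b_rc_9_2 lc_b_Cert_tree lc_b_rc_6_1 lc_b_rc_1_3 lc_b_rc_1_3 lc_b_rc_9_2 lc_b_rc_8_2 lc_b_rc_6_1 lc_b_rc_10_0 lc_b_rc_9_2 lc_b_rc_1_3 lc_b_rc_9_2 lc_b_rc_7_2 lc_b_rc_7_2 lc_b_rc_10_2 lc_b_rc_9_2 lc_b_rc_7_0 lc_b_rc_6_1 lc_b_rc_26_1 lc_b_rc_9_2 lc_b_rc_10_2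 lc_b_rc_9_2 lc_b_rc_10_0 lc_b_rc_6_1 lc_b_rc_8_2 lc_b_rc_8_0 lc_b_rc_10_2 lc_b_rc_8_2 lc_b_rc_7_0 lc_b_rc_1_1 lc_b_rc_8_2 lc_b_rc_7_2 lc_b_rc_10_0 lc_b_rc_25_4 lc_b_rc_1_1 lc_b_rc_8_2 lc_b_rc_9_2 lc_b_rc_6_1 lc_b_rc_8_0 lc_b_rc_9_2 lc_b_rc_6_1 lc_b_rc_26_1 lc_b_rc_10_2 lc_b_rc_26_7 lc_b_rc_26_5 lc_b_rc_6_1 lc_b_rc_26_7 lc_b_rc_6_1 lc_b_rc_9_2 lc_b_rc_6_1 lc_b_rc_1_1 lc_b_rc_9_2 lc_b_rc_9_0 lc_b_rc_26_5 lc_b_rc_8_2 lc_b_rc_26_1 lc_b_rc_7_0 lc_b_rc_1_3 lc_b_rc_10_2 lc_b_rc_9_2 lc_b_rc_1_3) (@D3.rec (fun _ => (Cert rels S Gen.b)) lc_b_rc_9_2 lc_b_rc_8_2 lc_b_rc_25_0 lc_b_rc_8_2 lc_b_rc_9_2 lc_b_rc_6_1 lc_b_rc_1_1 lc_b_rc_8_2 lc_b_rc_10_2 lc_b_Cert_tree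 lc_b_rc_9_0 lc_b_rc_25_0 lc_b_rc_26_1 lc_b_rc_6_1 lc_b_rc_7_2 lc_b_rc_7_4 lc_b_Cert_tree lc_b_rc_9_0 lc_b_rc_7_2 lc_b_rc_6_1 lc_b_rc_8_2 lc_b_rc_9_2 lc_b_rc_26_5 lc_b_rc_25_0 lc_b_rc_6_1 lc_b_rc_6_1 lc_b_rc_9_2 lc_b_rc_7_2 lc_b_rc_1_1 lc_b_rc_7_2 lc_b_rc_8_2 lc_b_rc_9_2 lc_b_rc_6_1 lc_b_rc_26_7 lc_b_rc_8_2 lc_b_rc_8_0 lc_b_rc_26_5 lc_b_rc_6_1 lc_b_rc_6_1 lc_b_rc_25_4 lc_b_rc_1_1 lc_b_rc_8_2 lc_b_rc_8_2 lc_b_rc_7_2 lc_b_rc_8_2 lc_b_rc_8_0 lc_b_rc_26_5 lc_b_rc_7_2 lc_b_rc_1_5 lc_b_rc_1_3 lc_b_rc_6_1 lc_b_rc_9_0 lc_b_rc_10_2 lc_b_rc_6_1 lc_b_rc_26_5 lc_b_rc_6_1 lc_b_rc_26_7 lc_b_rc_7_0 lc_b_rc_6_1 lc_b_rc_9_2 lc_b_rc_8_0 lc_b_rc_9_2) (@D3.rec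 (fun _ => (Cert rels S Gen.b)) lc_b_rc_6_1 lc_b_rc_9_2 lc_b_rc_9_2 lc_b_rc_8_2 lc_b_rc_8_0 lc_b_rc_7_2 lc_b_rc_6_1 lc_b_rc_9_0 lc_b_rc_26_1 lc_b_rc_1_3 lc_b_rc_7_2 lc_b_rc_8_2 lc_b_rc_9_2 lc_b_rc_8_0 lc_b_rc_9_2 lc_b_rc_8_0 lc_b_rc_8_0 lc_b_rc_8_2 lc_b_rc_6_1 lc_b_rc_9_2 lc_b_rc_8_2 lc_b_rc_10_2 lc_b_rc_1_1 lc_b_rc_9_2 lc_b_rc_8_2 lc_b_rc_9_0 lc_b_rc_9_0 lc_b_rc_6_1 lc_b_rc_8_2 lc_b_rc_8_2 lc_b_rc_7_2 lc_b_rc_10_2 lc_b_rc_8_2 lc_b_rc_9_2 lc_b_rc_6_1 lc_b_rc_1_1 lc_b_rc_7_2 lc_b_rc_8_2 lc_b_rc_9_2 lc_b_Cert_tree lc_b_rc_6_1 lc_b_rc_8_2 lc_b_rc_10_2 lc_b_Cert_tree lc_b_rc_7_0 lc_b_rc_1_5 lc_b_rc_6_1 lc_b_rc_25_0 lc_b_rc_6_1 lc_b_rc_8_0 lc_b_rc_6_1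 lc_b_rc_10_2 lc_b_rc_9_2 lc_b_rc_26_7 lc_b_rc_6_1 lc_b_rc_8_2 lc_b_rc_26_7 lc_b_rc_1_5 lc_b_rc_8_2 lc_b_rc_25_4 lc_b_rc_1_3 lc_b_rc_9_2) (@D3.rec (fun _ => (Cert rels S Gen.b)) lc_b_rc_9_2 lc_b_rc_9_2 lc_b_rc_26_1 lc_b_rc_1_5 lc_b_rc_10_2 lc_b_rc_6_1 lc_b_rc_6_1 lc_b_rc_26_5 lc_b_rc_1_5 lc_b_rc_8_2 lc_b_rc_9_2 lc_b_rc_26_7 lc_b_rc_1_5 lc_b_rc_9_2 lc_b_rc_26_5 lc_b_rc_1_1 lc_b_rc_8_2 lc_b_rc_9_2 lc_b_rc_26_5 lc_b_rc_8_2 lc_b_rc_6_1 lc_b_rc_26_7 lc_b_rc_9_2 lc_b_rc_8_2 lc_b_rc_9_2 lc_b_rc_26_5 lc_b_rc_10_2 lc_b_rc_26_7 lc_b_rc_26_5 lc_b_rc_7_4 lc_b_rc_9_2 lc_b_rc_10_2 lc_b_rc_9_2 lc_b_rc_6_1 lc_b_rc_9_2 lc_b_rc_6_1 lc_b_rc_7_0 lc_b_rc_26_1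 lc_b_rc_6_1 lc_b_rc_9_2 lc_b_rc_8_2 lc_b_rc_9_0 lc_b_Cert_tree lc_b_rc_6_1 lc_b_rc_7_2 lc_b_rc_10_2 lc_b_rc_8_2 lc_b_rc_8_0 lc_b_rc_26_5 lc_b_rc_10_2 lc_b_rc_25_0 lc_b_rc_26_5 lc_b_rc_1_3 lc_b_Cert_tree lc_b_rc_7_2 lc_b_rc_8_2 lc_b_rc_10_2 lc_b_rc_6_1 lc_b_rc_9_2 lc_b_rc_6_1 lc_b_rc_10_2 lc_b_rc_26_5) (@D3.rec (fun _ => (Cert rels S Gen.b)) lc_b_rc_25_4 lc_b_rc_7_2 lc_b_rc_1_5 lc_b_rc_26_5 lc_b_rc_9_2 lc_b_rc_1_3 lc_b_rc_6_1 lc_b_rc_7_0 lc_b_rc_8_2 lc_b_rc_10_2 lc_b_rc_6_1 lc_b_rc_6_1 lc_b_rc_10_2 lc_b_Cert_tree lc_b_rc_10_2 lc_b_rc_6_1 lc_b_rc_9_2 lc_b_rc_6_1 lc_b_rc_6_1 lc_b_rc_1_3 lc_b_rc_9_2 lc_b_rc_1_5 lc_b_rc_26_5 lc_b_rc_10_2 lc_b_rc_6_1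 lc_b_rc_6_1 lc_b_rc_8_2 lc_b_rc_6_1 lc_b_rc_26_1 lc_b_rc_1_1 lc_b_rc_8_2 lc_b_rc_9_2 lc_b_rc_26_7 lc_b_Cert_tree lc_b_rc_9_0 lc_b_rc_7_0 lc_b_rc_6_1 lc_b_rc_8_2 lc_b_rc_8_2 lc_b_rc_6_1 lc_b_rc_6_1 lc_b_rc_7_0 lc_b_rc_25_16 lc_b_rc_6_1 lc_b_rc_10_2 lc_b_rc_1_5 lc_b_rc_6_1 lc_b_rc_9_2 lc_b_rc_6_1 lc_b_rc_9_2 lc_b_rc_9_2 lc_b_rc_9_2 lc_b_rc_6_1 lc_b_rc_10_2 lc_b_rc_1_3 lc_b_rc_7_2 lc_b_rc_9_2 lc_b_rc_8_2 lc_b_rc_6_1 lc_b_rc_7_4 lc_b_rc_8_2 lc_b_rc_10_2) (@D3.rec (fun _ => (Cert rels S Gen.b)) lc_b_Cert_tree lc_b_rc_6_1 lc_b_rc_8_2 lc_b_rc_6_1 lc_b_rc_25_4 lc_b_rc_6_1 lc_b_rc_8_0 lc_b_rc_6_1 lc_b_rc_9_0 lc_b_rc_26_5 lc_b_rc_6_1 lc_b_rc_9_0 lc_b_rc_10_2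 lc_b_rc_6_1 lc_b_rc_26_1 lc_b_rc_10_2 lc_b_rc_9_0 lc_b_rc_8_2 lc_b_rc_8_2 lc_b_rc_26_7 lc_b_rc_9_0 lc_b_rc_6_1 lc_b_rc_1_3 lc_b_rc_8_2 lc_b_rc_9_2 lc_b_rc_1_5 lc_b_Cert_tree lc_b_rc_7_0 lc_b_rc_1_3 lc_b_rc_8_2 lc_b_rc_7_2 lc_b_rc_9_2 lc_b_rc_8_2 lc_b_rc_6_1 lc_b_rc_26_1 lc_b_Cert_tree lc_b_rc_6_1 lc_b_rc_8_2 lc_b_rc_10_2 lc_b_rc_10_2 lc_b_rc_26_1 lc_b_rc_6_1 lc_b_rc_6_1 lc_b_rc_26_1 lc_b_rc_8_0 lc_b_rc_6_1 lc_b_rc_8_2 lc_b_rc_26_5 lc_b_rc_7_4 lc_b_rc_25_8 lc_b_rc_6_1 lc_b_rc_8_2 lc_b_rc_26_7 lc_b_rc_8_0 lc_b_rc_10_2 lc_b_rc_10_2 lc_b_rc_9_2 lc_b_rc_25_16 lc_b_rc_8_0 lc_b_rc_6_1 lc_b_rc_9_0 lc_b_rc_8_2) (@D3.rec (fun _ => (Cert rels S Gen.b))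 lc_b_rc_8_0 lc_b_rc_10_2 lc_b_rc_26_7 lc_b_rc_26_7 lc_b_rc_9_2 lc_b_rc_9_2 lc_b_rc_6_1 lc_b_rc_8_0 lc_b_rc_8_2 lc_b_rc_10_2 lc_b_rc_7_4 lc_b_rc_25_4 lc_b_rc_7_2 lc_b_rc_9_2 lc_b_rc_26_1 lc_b_rc_6_1 lc_b_rc_26_5 lc_b_rc_6_1 lc_b_rc_6_1 lc_b_rc_10_0 lc_b_rc_6_1 lc_b_rc_7_4 lc_b_rc_10_2 lc_b_rc_7_2 lc_b_rc_9_2 lc_b_rc_6_1 lc_b_rc_8_2 lc_b_rc_26_5 lc_b_rc_9_2 lc_b_rc_1_3 lc_b_rc_10_2 lc_b_rc_9_2 lc_b_rc_6_1 lc_b_rc_6_1 lc_b_rc_1_3 lc_b_rc_9_2 lc_b_rc_1_5 lc_b_rc_8_2 lc_b_rc_26_7 lc_b_rc_6_1 lc_b_rc_7_4 lc_b_Cert_tree lc_b_rc_9_2 lc_b_rc_9_2 lc_b_rc_6_1 lc_b_rc_9_2 lc_b_rc_1_5 lc_b_rc_9_2 lc_b_rc_7_0 lc_b_rc_8_0 lc_b_rc_9_2 lc_b_rc_9_0 lc_b_rc_6_1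 lc_b_rc_9_2 lc_b_rc_1_5 lc_b_rc_9_2 lc_b_rc_7_4 lc_b_rc_26_7 lc_b_rc_8_2 lc_b_rc_8_0 lc_b_rc_8_2 lc_b_rc_10_2) (@D3.rec (fun _ => (Cert rels S Gen.b)) lc_b_rc_8_2 lc_b_rc_9_2 lc_b_rc_26_5 lc_b_rc_6_1 lc_b_rc_8_2 lc_b_rc_6_1 lc_b_rc_6_1 lc_b_rc_7_0 lc_b_rc_6_1 lc_b_rc_9_2 lc_b_rc_6_1 lc_b_rc_6_1 lc_b_rc_6_1 lc_b_rc_9_2 lc_b_rc_7_4 lc_b_rc_9_2 lc_b_rc_6_1 lc_b_rc_8_2 lc_b_rc_10_2 lc_b_rc_6_1 lc_b_rc_9_0 lc_b_rc_8_2 lc_b_rc_6_1 lc_b_rc_26_7 lc_b_rc_26_5 lc_b_rc_9_2 lc_b_rc_6_1 lc_b_rc_1_1 lc_b_rc_6_1 lc_b_rc_26_5 lc_b_rc_7_4 lc_b_rc_9_2 lc_b_rc_6_1 lc_b_rc_8_2 lc_b_rc_10_2 lc_b_rc_6_1 lc_b_rc_26_1 lc_b_rc_9_0 lc_b_rc_6_1 lc_b_rc_26_1 lc_b_rc_6_1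 lc_b_rc_9_2 lc_b_rc_26_7 lc_b_rc_26_5 lc_b_rc_7_4 lc_b_rc_6_1 lc_b_rc_6_1 lc_b_rc_7_2 lc_b_rc_8_2 lc_b_Cert_tree lc_b_rc_8_0 lc_b_rc_9_2 lc_b_rc_26_1 lc_b_rc_6_1 lc_b_rc_10_2 lc_b_rc_6_1 lc_b_rc_6_1 lc_b_rc_9_0 lc_b_rc_1_1 lc_b_rc_10_2 lc_b_rc_8_2 lc_b_rc_6_1) (@D3.rec (fun _ => (Cert rels S Gen.b)) lc_b_rc_8_2 lc_b_Cert_tree lc_b_rc_6_1 lc_b_rc_8_2 lc_b_rc_8_2 lc_b_rc_1_1 lc_b_rc_9_2 lc_b_rc_25_0 lc_b_rc_9_2 lc_b_rc_9_0 lc_b_rc_8_0 lc_b_rc_9_2 lc_b_rc_6_1 lc_b_rc_8_0 lc_b_rc_9_2 lc_b_rc_10_2 lc_b_rc_9_2 lc_b_rc_8_2 lc_b_rc_9_2 lc_b_rc_26_1 lc_b_rc_8_2 lc_b_rc_6_1 lc_b_rc_9_2 lc_b_rc_9_0 lc_b_rc_9_2 lc_b_rc_9_2 lc_b_rc_26_1 lc_b_rc_26_1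 lc_b_rc_8_2 lc_b_rc_9_2 lc_b_rc_9_2 lc_b_rc_10_2 lc_b_rc_26_5 lc_b_rc_9_2 lc_b_rc_9_2 lc_b_rc_8_2 lc_b_rc_9_2 lc_b_rc_6_1 lc_b_rc_6_1 lc_b_rc_9_2 lc_b_rc_6_1 lc_b_rc_1_5 lc_b_rc_26_5 lc_b_rc_8_2 lc_b_rc_10_2 lc_b_rc_8_2 lc_b_rc_1_5 lc_b_rc_8_2 lc_b_rc_1_5 lc_b_rc_26_5 lc_b_rc_8_2 lc_b_rc_6_1 lc_b_rc_26_5 lc_b_rc_1_3 lc_b_rc_6_1 lc_b_rc_8_0 lc_b_rc_1_3 lc_b_rc_9_2 lc_b_rc_9_2 lc_b_rc_8_2 lc_b_rc_6_1 lc_b_rc_9_2) (@D3.rec (fun _ => (Cert rels S Gen.b)) lc_b_rc_7_0 lc_b_rc_1_1 lc_b_rc_26_7 lc_b_rc_8_2 lc_b_rc_6_1 lc_b_rc_6_1 lc_b_rc_1_3 lc_b_rc_9_2 lc_b_rc_6_1 lc_b_rc_9_0 lc_b_rc_1_3 lc_b_rc_7_2 lc_b_rc_6_1 lc_b_rc_1_5 lc_b_rc_1_3 lc_b_rc_9_2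 lc_b_rc_9_2 lc_b_Cert_tree lc_b_rc_8_2 lc_b_rc_7_4 lc_b_rc_1_3 lc_b_rc_6_1 lc_b_rc_9_2 lc_b_rc_10_2 lc_b_rc_6_1 lc_b_rc_26_5 lc_b_rc_26_1 lc_b_rc_8_2 lc_b_rc_7_2 lc_b_rc_7_4 lc_b_rc_9_2 lc_b_rc_9_2 lc_b_rc_8_0 lc_b_rc_8_0 lc_b_rc_10_2 lc_b_rc_8_2 lc_b_rc_6_1 lc_b_rc_26_5 lc_b_rc_9_0 lc_b_rc_10_2 lc_b_rc_9_2 lc_b_rc_8_2 lc_b_rc_9_2 lc_b_rc_6_1 lc_b_rc_7_2 lc_b_rc_7_2 lc_b_rc_8_2 lc_b_rc_9_2 lc_b_rc_1_3 lc_b_rc_9_2 lc_b_rc_9_2 lc_b_rc_26_7 lc_b_rc_7_2 lc_b_rc_9_2 lc_b_rc_6_1 lc_b_rc_1_5 lc_b_rc_9_2 lc_b_rc_26_5 lc_b_rc_9_2 lc_b_rc_26_5 lc_b_rc_8_2 lc_b_rc_6_1) (@D3.rec (fun _ => (Cert rels S Gen.b)) lc_b_rc_7_2 lc_b_rc_25_0 lc_b_rc_8_0 lc_b_rc_8_2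 lc_b_rc_10_2 lc_b_rc_6_1 lc_b_rc_6_1 lc_b_rc_7_2 lc_b_rc_7_2 lc_b_rc_10_2 lc_b_rc_9_0 lc_b_rc_6_1 lc_b_rc_7_2 lc_b_rc_1_3 lc_b_rc_6_1 lc_b_rc_1_1 lc_b_rc_9_2 lc_b_rc_6_1 lc_b_rc_1_5 lc_b_rc_6_1 lc_b_rc_7_2 lc_b_rc_8_0 lc_b_rc_6_1 lc_b_Cert_tree lc_b_rc_8_2 lc_b_rc_26_5 lc_b_Cert_tree lc_b_rc_8_2 lc_b_rc_10_2 lc_b_rc_6_1 lc_b_rc_6_1 lc_b_rc_10_0 lc_b_rc_8_2 lc_b_rc_26_1 lc_b_rc_7_2 lc_b_rc_8_2 lc_b_rc_9_2 lc_b_rc_7_4 lc_b_rc_6_1 lc_b_Cert_tree lc_b_rc_1_1 lc_b_rc_9_2 lc_b_rc_8_2 lc_b_rc_26_5 lc_b_rc_9_2 lc_b_rc_6_1 lc_b_rc_26_5 lc_b_rc_9_2 lc_b_rc_9_2 lc_b_rc_6_1 lc_b_rc_7_0 lc_b_rc_8_2 lc_b_rc_10_2 lc_b_rc_6_1 lc_b_rc_6_1 lc_b_Cert_tree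 lc_b_rc_26_5 lc_b_rc_8_2 lc_b_rc_9_2 lc_b_rc_6_1 lc_b_rc_8_2 lc_b_rc_6_1) (@D3.rec (fun _ => (Cert rels S Gen.b)) lc_b_rc_8_2 lc_b_rc_9_2 lc_b_Cert_tree lc_b_rc_8_0 lc_b_rc_10_2 lc_b_rc_6_1 lc_b_rc_6_1 lc_b_rc_8_2 lc_b_rc_9_2 lc_b_rc_6_1 lc_b_rc_9_2 lc_b_rc_9_2 lc_b_Cert_tree lc_b_rc_8_2 lc_b_rc_10_2 lc_b_rc_6_1 lc_b_rc_6_1 lc_b_rc_8_2 lc_b_rc_10_2 lc_b_rc_8_2 lc_b_rc_7_4 lc_b_rc_6_1 lc_b_rc_8_2 lc_b_Cert_tree lc_b_rc_10_2 lc_b_rc_6_1 lc_b_rc_7_0 lc_b_rc_7_4 lc_b_rc_9_2 lc_b_rc_6_1 lc_b_rc_9_2 lc_b_rc_6_1 lc_b_Cert_tree lc_b_rc_8_2 lc_b_rc_10_2 lc_b_rc_6_1 lc_b_rc_9_2 lc_b_Cert_tree lc_b_Cert_tree lc_b_rc_8_2 lc_b_rc_10_2 lc_b_rc_8_0 lc_b_rc_10_2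 lc_b_rc_10_2 lc_b_rc_6_1 lc_b_rc_6_1 lc_b_rc_8_2 lc_b_rc_10_2 lc_b_rc_8_0 lc_b_rc_10_2 lc_b_rc_1_3 lc_b_rc_7_4 lc_b_rc_8_0 lc_b_rc_9_2 lc_b_rc_1_1 lc_b_rc_9_2 lc_b_rc_7_0 lc_b_rc_8_2 lc_b_rc_9_2 lc_b_rc_1_3 lc_b_rc_8_2 lc_b_rc_9_2) (@D3.rec (fun _ => (Cert rels S Gen.b)) lc_b_rc_9_2 lc_b_rc_6_1 lc_b_rc_6_1 lc_b_rc_8_0 lc_b_rc_6_1 lc_b_rc_26_7 lc_b_rc_9_2 lc_b_rc_6_1 lc_b_rc_25_0 lc_b_rc_8_0 lc_b_rc_10_2 lc_b_rc_9_2 lc_b_Cert_tree lc_b_rc_8_2 lc_b_rc_9_2 lc_b_rc_26_1 lc_b_rc_8_0 lc_b_rc_26_5 lc_b_rc_10_2 lc_b_rc_26_7 lc_b_rc_7_2 lc_b_rc_8_2 lc_b_rc_10_2 lc_b_Cert_tree lc_b_Cert_tree lc_b_rc_1_3 lc_b_rc_26_5 lc_b_rc_6_1 lc_b_rc_8_0 lc_b_rc_26_1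 lc_b_rc_26_1 lc_b_rc_9_2 lc_b_rc_25_12 lc_b_rc_26_1 lc_b_rc_9_2 lc_b_rc_9_2 lc_b_rc_6_1 lc_b_rc_6_1 lc_b_rc_8_2 lc_b_rc_6_1 lc_b_rc_7_0 lc_b_rc_9_2 lc_b_rc_26_7 lc_b_Cert_tree lc_b_rc_9_2 lc_b_Cert_tree lc_b_rc_1_3 lc_b_rc_7_2 lc_b_rc_6_1 lc_b_rc_7_4 lc_b_rc_6_1 lc_b_rc_1_5 lc_b_rc_9_2 lc_b_rc_6_1 lc_b_rc_25_12 lc_b_rc_1_3 lc_b_rc_9_2 lc_b_rc_6_1 lc_b_rc_26_1 lc_b_rc_26_5 lc_b_rc_26_5 lc_b_rc_8_2) (@D3.rec (fun _ => (Cert rels S Gen.b)) lc_b_rc_9_2 lc_b_rc_7_4 lc_b_Cert_tree lc_b_rc_7_4 lc_b_rc_7_0 lc_b_rc_6_1 lc_b_rc_7_4 lc_b_rc_9_2 lc_b_rc_26_7 lc_b_rc_9_2 lc_b_rc_8_2 lc_b_rc_1_5 lc_b_rc_6_1 lc_b_rc_6_1 lc_b_rc_6_1 lc_b_rc_8_2 lc_b_rc_7_2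 lc_b_rc_6_1 lc_b_rc_8_2 lc_b_rc_8_2 lc_b_rc_6_1 lc_b_rc_9_0 lc_b_rc_25_12 lc_b_rc_9_2 lc_b_rc_6_1 lc_b_rc_8_2 lc_b_rc_8_2 lc_b_rc_9_2 lc_b_rc_9_2 lc_b_rc_8_2 lc_b_rc_8_2 lc_b_rc_6_1 lc_b_rc_7_2 lc_b_Cert_tree lc_b_rc_26_7 lc_b_rc_8_2 lc_b_rc_10_2 lc_b_rc_9_2 lc_b_rc_26_7 lc_b_rc_6_1 lc_b_rc_26_7 lc_b_rc_1_1 lc_b_rc_8_2 lc_b_rc_6_1 lc_b_rc_6_1 lc_b_rc_9_2 lc_b_rc_7_0 lc_b_rc_9_2 lc_b_rc_6_1 lc_b_rc_8_2 lc_b_rc_7_2 lc_b_rc_6_1 lc_b_rc_26_7 lc_b_rc_1_3 lc_b_rc_1_1 lc_b_rc_10_2 lc_b_rc_8_2 lc_b_rc_9_2 lc_b_rc_6_1 lc_b_rc_8_0 lc_b_rc_9_0 lc_b_rc_1_5) (@D3.rec (fun _ => (Cert rels S Gen.b)) lc_b_rc_6_1 lc_b_rc_26_5 lc_b_rc_6_1 lc_b_rc_26_5 lc_b_rc_7_0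 lc_b_rc_7_4 lc_b_Cert_tree lc_b_rc_8_2 lc_b_rc_1_5 lc_b_rc_10_0 lc_b_rc_6_1 lc_b_rc_9_0 lc_b_rc_9_2 lc_b_rc_8_2 lc_b_Cert_tree lc_b_rc_10_0 lc_b_rc_7_0 lc_b_rc_10_2 lc_b_rc_9_0 lc_b_rc_6_1 lc_b_rc_6_1 lc_b_rc_10_2 lc_b_rc_6_1 lc_b_rc_8_0 lc_b_rc_6_1 lc_b_rc_8_2 lc_b_rc_9_2 lc_b_rc_7_4 lc_b_Cert_tree lc_b_rc_9_2 lc_b_rc_10_2 lc_b_rc_6_1 lc_b_rc_9_2 lc_b_rc_6_1 lc_b_rc_8_2 lc_b_rc_25_16 lc_b_rc_6_1 lc_b_rc_9_2 lc_b_rc_6_1 lc_b_rc_1_5 lc_b_rc_8_2 lc_b_rc_6_1 lc_b_rc_10_2 lc_b_rc_10_2 lc_b_rc_26_1 lc_b_rc_9_2 lc_b_rc_6_1 lc_b_rc_7_2 lc_b_rc_9_2 lc_b_rc_9_2 lc_b_rc_10_0 lc_b_rc_9_2 lc_b_rc_10_2 lc_b_rc_9_2 lc_b_rc_6_1 lc_b_rc_9_2 lc_b_rc_8_2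 lc_b_rc_1_3 lc_b_rc_9_2 lc_b_Cert_tree lc_b_rc_26_7 lc_b_rc_7_4) (@D3.rec (fun _ => (Cert rels S Gen.b)) lc_b_rc_8_2 lc_b_rc_7_4 lc_b_rc_9_2 lc_b_rc_26_5 lc_b_rc_8_2 lc_b_rc_26_1 lc_b_rc_6_1 lc_b_rc_7_4 lc_b_rc_1_3 lc_b_rc_8_0 lc_b_rc_8_2 lc_b_rc_10_2 lc_b_rc_7_2 lc_b_rc_10_2 lc_b_rc_26_1 lc_b_rc_26_5 lc_b_rc_8_2 lc_b_rc_7_4 lc_b_rc_1_5 lc_b_rc_6_1 lc_b_rc_6_1 lc_b_rc_1_5 lc_b_rc_8_2 lc_b_rc_9_2 lc_b_rc_26_7 lc_b_rc_8_2 lc_b_rc_6_1 lc_b_rc_26_5 lc_b_rc_9_2 lc_b_rc_9_0 lc_b_rc_7_0 lc_b_rc_10_2 lc_b_rc_9_0 lc_b_rc_7_2 lc_b_rc_1_3 lc_b_rc_8_2 lc_b_rc_8_2 lc_b_rc_8_0 lc_b_rc_26_1 lc_b_rc_9_2 lc_b_rc_10_2 lc_b_rc_8_2 lc_b_rc_6_1 lc_b_rc_6_1 lc_b_rc_6_1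 lc_b_rc_1_3 lc_b_rc_6_1 lc_b_rc_9_2 lc_b_rc_25_12 lc_b_rc_6_1 lc_b_rc_9_2 lc_b_rc_8_2 lc_b_rc_8_2 lc_b_rc_7_2 lc_b_rc_6_1 lc_b_rc_8_2 lc_b_rc_6_1 lc_b_rc_8_2 lc_b_rc_6_1 lc_b_rc_8_2 lc_b_rc_1_3 lc_b_rc_9_2) (@D3.rec (fun _ => (Cert rels S Gen.b)) lc_b_rc_6_1 lc_b_rc_9_2 lc_b_rc_7_0 lc_b_rc_8_2 lc_b_rc_10_2 lc_b_rc_6_1 lc_b_rc_26_5 lc_b_rc_8_0 lc_b_rc_8_2 lc_b_rc_10_2 lc_b_rc_1_3 lc_b_rc_10_2 lc_b_rc_9_2 lc_b_rc_1_1 lc_b_rc_7_2 lc_b_rc_10_2 lc_b_rc_9_2 lc_b_rc_6_1 lc_b_Cert_tree lc_b_rc_8_2 lc_b_rc_1_5 lc_b_rc_10_2 lc_b_rc_8_0 lc_b_rc_9_2 lc_b_Cert_tree lc_b_rc_9_2 lc_b_rc_26_7 lc_b_rc_6_1 lc_b_rc_8_0 lc_b_rc_6_1 lc_b_rc_6_1 lc_b_rc_6_1 lc_b_rc_9_2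 lc_b_rc_6_1 lc_b_rc_9_2 lc_b_rc_8_2 lc_b_rc_1_3 lc_b_rc_9_2 lc_b_rc_9_2 lc_b_rc_26_7 lc_b_rc_9_2 lc_b_rc_8_2 lc_b_rc_7_0 lc_b_rc_1_3 lc_b_rc_9_2 lc_b_rc_1_1 lc_b_rc_8_2 lc_b_rc_10_2 lc_b_rc_7_0 lc_b_rc_8_0 lc_b_rc_8_2 lc_b_rc_10_2 lc_b_rc_9_2 lc_b_rc_1_3 lc_b_rc_8_2 lc_b_rc_9_2 lc_b_rc_6_1 lc_b_rc_7_2 lc_b_rc_6_1 lc_b_rc_9_2 lc_b_rc_8_2 lc_b_rc_8_0) (@D3.rec (fun _ => (Cert rels S Gen.b)) lc_b_rc_7_4 lc_b_rc_9_2 lc_b_rc_9_2 lc_b_rc_9_2 lc_b_rc_6_1 lc_b_rc_26_7 lc_b_rc_8_2 lc_b_rc_7_4 lc_b_rc_26_5 lc_b_rc_26_5 lc_b_rc_7_4 lc_b_rc_1_3 lc_b_rc_6_1 lc_b_rc_9_2 lc_b_rc_8_2 lc_b_rc_1_3 lc_b_rc_8_0 lc_b_rc_7_2 lc_b_rc_9_2 lc_b_rc_10_2 lc_b_rc_9_2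 lc_b_rc_6_1 lc_b_rc_7_4 lc_b_rc_8_2 lc_b_rc_6_1 lc_b_rc_10_2 lc_b_rc_6_1 lc_b_rc_9_2 lc_b_rc_8_2 lc_b_rc_9_2 lc_b_rc_8_2 lc_b_rc_9_2 lc_b_rc_25_4 lc_b_rc_6_1 lc_b_rc_10_2 lc_b_rc_26_5 lc_b_Cert_tree lc_b_rc_6_1 lc_b_rc_8_2 lc_b_rc_1_3 lc_b_rc_9_2 lc_b_rc_10_2 lc_b_rc_9_2 lc_b_rc_26_5 lc_b_rc_6_1 lc_b_rc_8_2 lc_b_rc_10_2 lc_b_rc_1_5 lc_b_rc_6_1 lc_b_rc_6_1 lc_b_rc_1_1 lc_b_rc_6_1 lc_b_rc_26_1 lc_b_rc_8_0 lc_b_rc_6_1 lc_b_rc_8_2 lc_b_rc_7_4 lc_b_rc_7_2 lc_b_rc_8_2 lc_b_rc_9_0 lc_b_rc_8_2 lc_b_rc_26_1) (@D3.rec (fun _ => (Cert rels S Gen.b)) lc_b_rc_6_1 lc_b_rc_26_5 lc_b_rc_1_1 lc_b_rc_6_1 lc_b_rc_26_5 lc_b_rc_8_2 lc_b_rc_8_0 lc_b_rc_26_5 lc_b_rc_6_1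 lc_b_rc_10_2 lc_b_rc_6_1 lc_b_rc_9_2 lc_b_rc_8_2 lc_b_rc_6_1 lc_b_rc_10_2 lc_b_rc_8_2 lc_b_rc_9_2 lc_b_rc_10_2 lc_b_rc_6_1 lc_b_rc_8_2 lc_b_rc_26_5 lc_b_rc_1_5 lc_b_rc_26_1 lc_b_rc_8_2 lc_b_rc_9_2 lc_b_rc_8_2 lc_b_rc_9_2 lc_b_rc_10_0 lc_b_rc_9_2 lc_b_rc_6_1 lc_b_rc_8_2 lc_b_rc_9_2 lc_b_rc_6_1 lc_b_rc_26_5 lc_b_rc_6_1 lc_b_rc_8_0 lc_b_rc_7_4 lc_b_rc_8_2 lc_b_rc_1_5 lc_b_rc_1_3 lc_b_rc_9_2 lc_b_rc_8_2 lc_b_rc_10_2 lc_b_rc_6_1 lc_b_rc_10_0 lc_b_rc_6_1 lc_b_rc_7_2 lc_b_rc_1_3 lc_b_Cert_tree lc_b_rc_6_1 lc_b_rc_26_5 lc_b_rc_8_2 lc_b_rc_6_1 lc_b_rc_8_2 lc_b_rc_8_0 lc_b_rc_9_2 lc_b_Cert_tree lc_b_rc_7_0 lc_b_rc_6_1 lc_b_rc_10_2 lc_b_rc_9_0 lc_b_rc_10_2)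 (@D3.rec (fun _ => (Cert rels S Gen.b)) lc_b_rc_8_2 lc_b_rc_26_1 lc_b_rc_26_5 lc_b_rc_9_2 lc_b_rc_6_1 lc_b_rc_26_5 lc_b_rc_10_2 lc_b_rc_9_2 lc_b_rc_8_2 lc_b_rc_26_7 lc_b_rc_6_1 lc_b_rc_6_1 lc_b_rc_26_1 lc_b_rc_6_1 lc_b_rc_26_5 lc_b_rc_6_1 lc_b_rc_6_1 lc_b_rc_6_1 lc_b_rc_6_1 lc_b_rc_7_4 lc_b_rc_6_1 lc_b_rc_6_1 lc_b_rc_9_2 lc_b_rc_6_1 lc_b_rc_10_2 lc_b_rc_6_1 lc_b_rc_1_3 lc_b_rc_8_2 lc_b_rc_8_2 lc_b_rc_6_1 lc_b_rc_25_4 lc_b_rc_1_3 lc_b_rc_1_3 lc_b_rc_6_1 lc_b_rc_7_4 lc_b_rc_8_2 lc_b_rc_8_2 lc_b_rc_6_1 lc_b_rc_8_2 lc_b_rc_9_2 lc_b_rc_8_2 lc_b_rc_6_1 lc_b_rc_26_1 lc_b_rc_7_2 lc_b_rc_7_2 lc_b_rc_26_7 lc_b_rc_8_2 lc_b_rc_10_2 lc_b_rc_9_0 lc_b_rc_7_0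 lc_b_rc_7_2 lc_b_rc_9_2 lc_b_rc_6_1 lc_b_rc_9_2 lc_b_rc_8_0 lc_b_rc_10_2 lc_b_rc_8_2 lc_b_rc_10_2 lc_b_rc_8_2 lc_b_rc_9_2 lc_b_rc_8_2 lc_b_rc_25_0) (@D3.rec (fun _ => (Cert rels S Gen.b)) lc_b_rc_9_2 lc_b_rc_6_1 lc_b_rc_1_5 lc_b_rc_9_2 lc_b_rc_8_0 lc_b_rc_9_2 lc_b_Cert_tree lc_b_Cert_tree lc_b_rc_8_2 lc_b_rc_10_2 lc_b_rc_6_1 lc_b_rc_25_0 lc_b_rc_8_2 lc_b_rc_6_1 lc_b_rc_10_2 lc_b_rc_1_3 lc_b_rc_6_1 lc_b_rc_6_1 lc_b_rc_6_1 lc_b_rc_10_0 lc_b_rc_9_2 lc_b_Cert_tree lc_b_rc_10_2 lc_b_rc_6_1 lc_b_rc_8_2 lc_b_rc_26_7 lc_b_rc_1_5 lc_b_rc_6_1 lc_b_rc_7_2 lc_b_rc_8_2 lc_b_rc_9_2 lc_b_rc_8_2 lc_b_rc_9_2 lc_b_rc_7_0 lc_b_rc_6_1 lc_b_rc_8_2 lc_b_rc_6_1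 lc_b_rc_25_4 lc_b_rc_10_2 lc_b_Cert_tree lc_b_rc_8_2 lc_b_rc_6_1 lc_b_rc_26_1 lc_b_rc_9_0 lc_b_rc_8_2 lc_b_rc_6_1 lc_b_rc_8_2 lc_b_rc_8_2 lc_b_rc_8_2 lc_b_rc_1_5 lc_b_rc_9_2 lc_b_rc_6_1 lc_b_rc_8_2 lc_b_rc_6_1 lc_b_rc_8_0 lc_b_rc_10_2 lc_b_rc_26_5 lc_b_rc_9_2 lc_b_rc_6_1 lc_b_rc_6_1 lc_b_rc_9_2 lc_b_rc_10_2) (@D3.rec (fun _ => (Cert rels S Gen.b)) lc_b_rc_26_7 lc_b_rc_1_5 lc_b_rc_8_2 lc_b_rc_26_7 lc_b_rc_26_5 lc_b_rc_10_0 lc_b_rc_6_1 lc_b_rc_1_5 lc_b_rc_10_2 lc_b_rc_8_0 lc_b_rc_9_2 lc_b_rc_7_4 lc_b_rc_8_2 lc_b_rc_7_4 lc_b_rc_10_2 lc_b_rc_1_3 lc_b_rc_9_2 lc_b_rc_26_5 lc_b_rc_9_2 lc_b_rc_6_1 lc_b_rc_8_2 lc_b_rc_1_5 lc_b_Cert_tree lc_b_rc_8_2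 lc_b_rc_6_1 lc_b_rc_6_1 lc_b_rc_1_5 lc_b_rc_1_3 lc_b_rc_6_1 lc_b_rc_10_2 lc_b_rc_26_5 lc_b_rc_9_2 lc_b_rc_8_2 lc_b_rc_7_4 lc_b_Cert_tree lc_b_rc_6_1 lc_b_rc_1_5 lc_b_rc_8_2 lc_b_Cert_tree lc_b_rc_8_2 lc_b_rc_1_1 lc_b_rc_6_1 lc_b_rc_10_0 lc_b_rc_26_7 lc_b_rc_8_0 lc_b_rc_9_2 lc_b_rc_6_1 lc_b_rc_8_2 lc_b_rc_26_5 lc_b_rc_10_2 lc_b_rc_6_1 lc_b_rc_8_2 lc_b_rc_8_2 lc_b_rc_8_2 lc_b_rc_9_2 lc_b_rc_10_2 lc_b_rc_1_5 lc_b_rc_6_1 lc_b_rc_7_0 lc_b_rc_26_5 lc_b_rc_26_7 lc_b_rc_6_1) (@D3.rec (fun _ => (Cert rels S Gen.b)) lc_b_rc_26_5 lc_b_rc_6_1 lc_b_rc_25_4 lc_b_rc_8_2 lc_b_rc_7_4 lc_b_rc_6_1 lc_b_rc_8_2 lc_b_rc_1_5 lc_b_rc_1_5 lc_b_rc_6_1 lc_b_rc_6_1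 lc_b_rc_26_7 lc_b_rc_9_2 lc_b_rc_10_2 lc_b_rc_26_1 lc_b_rc_8_2 lc_b_Cert_tree lc_b_rc_9_2 lc_b_rc_8_2 lc_b_rc_6_1 lc_b_rc_26_1 lc_b_rc_6_1 lc_b_rc_1_5 lc_b_rc_9_2 lc_b_Cert_tree lc_b_rc_7_2 lc_b_rc_9_2 lc_b_rc_8_2 lc_b_rc_10_2 lc_b_rc_1_5 lc_b_Cert_tree lc_b_rc_8_2 lc_b_rc_10_2 lc_b_rc_7_2 lc_b_rc_9_0 lc_b_rc_8_2 lc_b_rc_8_2 lc_b_rc_10_2 lc_b_rc_7_0 lc_b_rc_8_2 lc_b_rc_8_0 lc_b_rc_6_1 lc_b_rc_8_2 lc_b_rc_8_2 lc_b_rc_6_1 lc_b_rc_9_2 lc_b_Cert_tree lc_b_rc_8_0 lc_b_rc_7_4 lc_b_Cert_tree lc_b_rc_6_1 lc_b_rc_7_0 lc_b_rc_6_1 lc_b_rc_7_4 lc_b_rc_8_2 lc_b_rc_6_1 lc_b_rc_26_7 lc_b_rc_8_2 lc_b_rc_1_3 lc_b_rc_26_1 lc_b_rc_6_1 lc_b_rc_6_1) (@D3.rec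 (fun _ => (Cert rels S Gen.b)) lc_b_rc_8_2 lc_b_rc_10_2 lc_b_rc_6_1 lc_b_rc_1_1 lc_b_rc_1_1 lc_b_rc_6_1 lc_b_rc_1_1 lc_b_rc_26_7 lc_b_rc_8_0 lc_b_rc_9_2 lc_b_rc_1_5 lc_b_rc_8_2 lc_b_rc_10_2 lc_b_rc_6_1 lc_b_rc_9_2 lc_b_rc_9_2 lc_b_rc_8_2 lc_b_rc_6_1 lc_b_rc_8_2 lc_b_rc_1_3 lc_b_rc_6_1 lc_b_rc_8_2 lc_b_rc_8_2 lc_b_rc_6_1 lc_b_rc_9_0 lc_b_rc_9_2 lc_b_Cert_tree lc_b_rc_10_2 lc_b_rc_8_2 lc_b_rc_6_1 lc_b_rc_7_2 lc_b_rc_9_2 lc_b_rc_6_1 lc_b_rc_1_3 lc_b_rc_8_2 lc_b_rc_9_2 lc_b_rc_6_1 lc_b_rc_9_2 lc_b_rc_6_1 lc_b_rc_6_1 lc_b_rc_26_1 lc_b_rc_6_1 lc_b_rc_8_2 lc_b_rc_9_2 lc_b_rc_26_1 lc_b_rc_9_2 lc_b_rc_26_7 lc_b_rc_8_2 lc_b_rc_9_2 lc_b_rc_26_1 lc_b_rc_6_1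 lc_b_rc_1_3 lc_b_rc_1_3 lc_b_rc_7_4 lc_b_rc_8_2 lc_b_rc_6_1 lc_b_rc_10_2 lc_b_rc_26_5 lc_b_rc_6_1 lc_b_rc_26_7 lc_b_rc_8_0 lc_b_rc_6_1) (@D3.rec (fun _ => (Cert rels S Gen.b)) lc_b_rc_8_2 lc_b_rc_26_5 lc_b_rc_6_1 lc_b_rc_9_2 lc_b_rc_25_0 lc_b_rc_1_5 lc_b_rc_9_2 lc_b_rc_26_5 lc_b_rc_9_2 lc_b_rc_6_1 lc_b_rc_6_1 lc_b_rc_7_0 lc_b_rc_7_2 lc_b_rc_7_4 lc_b_rc_10_2 lc_b_rc_9_2 lc_b_rc_6_1 lc_b_rc_1_5 lc_b_rc_9_2 lc_b_rc_8_2 lc_b_rc_9_2 lc_b_rc_7_4 lc_b_rc_26_5 lc_b_rc_9_2 lc_b_rc_6_1 lc_b_rc_10_2 lc_b_Cert_tree lc_b_rc_8_2 lc_b_rc_6_1 lc_b_rc_9_2 lc_b_rc_1_5 lc_b_rc_7_0 lc_b_rc_6_1 lc_b_rc_8_2 lc_b_rc_9_2 lc_b_rc_26_7 lc_b_rc_26_1 lc_b_rc_8_2 lc_b_rc_8_2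 lc_b_rc_6_1 lc_b_rc_8_0 lc_b_rc_26_5 lc_b_rc_10_2 lc_b_rc_8_2 lc_b_rc_9_2 lc_b_rc_8_0 lc_b_rc_10_2 lc_b_rc_6_1 lc_b_rc_6_1 lc_b_rc_8_2 lc_b_rc_6_1 lc_b_rc_26_7 lc_b_rc_7_0 lc_b_rc_6_1 lc_b_rc_26_5 lc_b_rc_9_0 lc_b_rc_7_0 lc_b_rc_25_0 lc_b_rc_7_2 lc_b_rc_10_2 lc_b_rc_8_2 lc_b_rc_9_2) (@D3.rec (fun _ => (Cert rels S Gen.b)) lc_b_rc_6_1 lc_b_rc_9_2 lc_b_rc_9_2 lc_b_Cert_tree lc_b_rc_25_4 lc_b_rc_26_7 lc_b_rc_8_2 lc_b_rc_7_0 lc_b_rc_8_2 lc_b_rc_8_2 lc_b_rc_9_2 lc_b_rc_7_2 lc_b_rc_9_0 lc_b_rc_7_4 lc_b_rc_1_1 lc_b_rc_6_1 lc_b_rc_8_2 lc_b_rc_9_2 lc_b_rc_6_1 lc_b_Cert_tree lc_b_rc_8_0 lc_b_rc_9_2 lc_b_rc_6_1 lc_b_rc_8_2 lc_b_rc_9_2 lc_b_rc_7_4 lc_b_rc_6_1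 lc_b_rc_6_1 lc_b_rc_7_2 lc_b_rc_6_1 lc_b_rc_9_2 lc_b_rc_6_1 lc_b_rc_7_4 lc_b_rc_8_2 lc_b_rc_9_2 lc_b_rc_1_5 lc_b_rc_1_1 lc_b_rc_10_0 lc_b_rc_8_2 lc_b_rc_9_0 lc_b_rc_10_0 lc_b_rc_26_5 lc_b_rc_9_2 lc_b_rc_8_0 lc_b_Cert_tree lc_b_rc_8_0 lc_b_rc_8_0 lc_b_rc_7_0 lc_b_rc_9_2 lc_b_rc_10_2 lc_b_rc_8_2 lc_b_rc_8_2 lc_b_rc_8_2 lc_b_rc_26_5 lc_b_rc_8_2 lc_b_rc_7_4 lc_b_rc_25_4 lc_b_rc_9_2 lc_b_rc_6_1 lc_b_rc_25_4 lc_b_rc_8_2 lc_b_rc_1_5) (@D3.rec (fun _ => (Cert rels S Gen.b)) lc_b_rc_6_1 lc_b_rc_6_1 lc_b_rc_7_4 lc_b_rc_6_1 lc_b_rc_1_3 lc_b_rc_9_2 lc_b_Cert_tree lc_b_rc_26_1 lc_b_rc_6_1 lc_b_rc_25_4 lc_b_rc_6_1 lc_b_rc_26_5 lc_b_rc_7_0 lc_b_rc_7_2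 lc_b_rc_1_5 lc_b_rc_1_1 lc_b_rc_6_1 lc_b_Cert_tree lc_b_rc_8_2 lc_b_rc_6_1 lc_b_Cert_tree lc_b_rc_10_0 lc_b_rc_6_1 lc_b_rc_8_2 lc_b_rc_1_5 lc_b_rc_8_2 lc_b_rc_10_2 lc_b_rc_7_2 lc_b_rc_26_1 lc_b_rc_6_1 lc_b_rc_7_4 lc_b_rc_9_2 lc_b_rc_9_0 lc_b_rc_8_2 lc_b_rc_10_2 lc_b_rc_8_2 lc_b_rc_6_1 lc_b_rc_7_2 lc_b_rc_8_2 lc_b_rc_9_2 lc_b_rc_9_0 lc_b_rc_8_2 lc_b_rc_26_1 lc_b_rc_7_0 lc_b_rc_8_2 lc_b_rc_9_2 lc_b_rc_26_1 lc_b_rc_9_2 lc_b_rc_8_2 lc_b_rc_9_2 lc_b_rc_6_1 lc_b_rc_7_4 lc_b_rc_9_2 lc_b_rc_9_2 lc_b_rc_10_0 lc_b_rc_9_0 lc_b_rc_10_0 lc_b_rc_8_2 lc_b_rc_26_5 lc_b_rc_6_1 lc_b_rc_26_1 lc_b_rc_7_4) (@D3.rec (fun _ => (Cert rels S Gen.b)) lc_b_rc_10_0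 lc_b_rc_26_7 lc_b_rc_8_2 lc_b_rc_6_1 lc_b_rc_6_1 lc_b_rc_8_2 lc_b_rc_8_2 lc_b_rc_9_2 lc_b_rc_6_1 lc_b_rc_7_4 lc_b_rc_7_4 lc_b_Cert_tree lc_b_rc_9_0 lc_b_rc_1_3 lc_b_rc_6_1 lc_b_rc_9_2 lc_b_Cert_tree lc_b_rc_26_5 lc_b_Cert_tree lc_b_rc_6_1 lc_b_rc_8_2 lc_b_rc_26_1 lc_b_rc_1_3 lc_b_rc_8_2 lc_b_rc_9_2 lc_b_rc_9_2 lc_b_rc_7_0 lc_b_rc_8_2 lc_b_rc_6_1 lc_b_rc_9_2 lc_b_rc_8_0 lc_b_rc_9_2 lc_b_Cert_tree lc_b_rc_7_0 lc_b_rc_8_2 lc_b_rc_10_2 lc_b_rc_7_2 lc_b_rc_26_5 lc_b_rc_10_2 lc_b_rc_8_2 lc_b_rc_8_2 lc_b_rc_9_2 lc_b_rc_8_2 lc_b_rc_10_2 lc_b_rc_9_0 lc_b_rc_9_0 lc_b_rc_9_2 lc_b_rc_25_0 lc_b_rc_1_5 lc_b_rc_6_1 lc_b_rc_8_2 lc_b_rc_1_5 lc_b_rc_10_2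 lc_b_rc_1_5 lc_b_rc_7_2 lc_b_rc_26_1 lc_b_rc_1_1 lc_b_rc_6_1 lc_b_rc_9_2 lc_b_rc_8_2 lc_b_rc_10_2 lc_b_rc_8_2) (@D3.rec (fun _ => (Cert rels S Gen.b)) lc_b_rc_10_2 lc_b_rc_9_0 lc_b_rc_8_2 lc_b_rc_8_2 lc_b_rc_26_7 lc_b_rc_6_1 lc_b_rc_26_5 lc_b_rc_10_2 lc_b_rc_9_2 lc_b_rc_9_2 lc_b_rc_26_1 lc_b_rc_8_2 lc_b_rc_10_2 lc_b_rc_9_0 lc_b_rc_8_2 lc_b_rc_10_2 lc_b_rc_6_1 lc_b_rc_25_16 lc_b_rc_8_2 lc_b_rc_6_1 lc_b_rc_6_1 lc_b_rc_6_1 lc_b_rc_6_1 lc_b_rc_9_2 lc_b_rc_8_2 lc_b_rc_1_3 lc_b_rc_6_1 lc_b_rc_26_1 lc_b_rc_9_2 lc_b_rc_8_2 lc_b_rc_8_0 lc_b_rc_6_1 lc_b_rc_8_2 lc_b_rc_26_5 lc_b_rc_10_2 lc_b_rc_8_2 lc_b_rc_6_1 lc_b_rc_26_1 lc_b_rc_8_2 lc_b_rc_1_5 lc_b_rc_10_2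 lc_b_rc_8_2 lc_b_rc_9_2 lc_b_rc_6_1 lc_b_rc_26_1 lc_b_rc_6_1 lc_b_rc_8_0 lc_b_rc_6_1 lc_b_rc_26_5 lc_b_rc_8_2 lc_b_rc_26_5 lc_b_rc_8_0 lc_b_rc_9_0 lc_b_rc_7_2 lc_b_rc_10_2 lc_b_rc_26_1 lc_b_rc_8_2 lc_b_rc_25_16 lc_b_rc_7_2 lc_b_rc_7_2 lc_b_rc_8_2 lc_b_rc_9_2) (@D3.rec (fun _ => (Cert rels S Gen.b)) lc_b_rc_9_2 lc_b_Cert_tree lc_b_rc_9_2 lc_b_rc_8_2 lc_b_rc_6_1 lc_b_rc_25_16 lc_b_rc_9_2 lc_b_rc_6_1 lc_b_Cert_tree lc_b_rc_9_2 lc_b_rc_26_7 lc_b_rc_8_0 lc_b_rc_6_1 lc_b_rc_6_1 lc_b_rc_26_5 lc_b_rc_7_0 lc_b_rc_8_2 lc_b_rc_8_2 lc_b_rc_9_2 lc_b_rc_26_7 lc_b_rc_9_2 lc_b_rc_1_5 lc_b_rc_6_1 lc_b_rc_7_4 lc_b_rc_9_2 lc_b_rc_6_1 lc_b_rc_26_5 lc_b_rc_9_0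 lc_b_rc_1_3 lc_b_rc_8_2 lc_b_rc_7_2 lc_b_rc_6_1 lc_b_rc_6_1 lc_b_rc_1_5 lc_b_rc_9_2 lc_b_rc_8_2 lc_b_rc_8_2 lc_b_rc_9_2 lc_b_rc_10_0 lc_b_rc_6_1 lc_b_rc_9_2 lc_b_rc_6_1 lc_b_rc_26_5 lc_b_rc_9_2 lc_b_rc_9_2 lc_b_rc_26_5 lc_b_rc_6_1 lc_b_rc_10_0 lc_b_rc_10_2 lc_b_rc_26_5 lc_b_rc_6_1 lc_b_rc_9_2 lc_b_rc_26_5 lc_b_rc_26_5 lc_b_rc_8_2 lc_b_rc_10_2 lc_b_rc_9_2 lc_b_rc_26_7 lc_b_rc_8_2 lc_b_rc_26_5 lc_b_rc_8_2 lc_b_rc_8_0) (@D3.rec (fun _ => (Cert rels S Gen.b)) lc_b_rc_8_0 lc_b_rc_7_4 lc_b_rc_10_2 lc_b_rc_6_1 lc_b_rc_1_1 lc_b_rc_8_2 lc_b_rc_8_2 lc_b_rc_9_2 lc_b_rc_6_1 lc_b_rc_26_5 lc_b_rc_9_2 lc_b_rc_8_0 lc_b_rc_6_1 lc_b_rc_8_2 lc_b_rc_26_7 lc_b_rc_7_0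 lc_b_rc_6_1 lc_b_rc_10_2 lc_b_rc_8_2 lc_b_rc_7_0 lc_b_rc_8_2 lc_b_rc_9_2 lc_b_rc_1_1 lc_b_rc_26_1 lc_b_rc_26_5 lc_b_rc_6_1 lc_b_rc_8_2 lc_b_rc_6_1 lc_b_rc_6_1 lc_b_rc_9_0 lc_b_Cert_tree lc_b_rc_9_2 lc_b_rc_8_2 lc_b_rc_10_2 lc_b_rc_7_4 lc_b_rc_8_2 lc_b_rc_6_1 lc_b_rc_6_1 lc_b_rc_7_4 lc_b_rc_9_2 lc_b_rc_1_1 lc_b_rc_6_1 lc_b_rc_8_0 lc_b_rc_9_2 lc_b_rc_6_1 lc_b_rc_8_2 lc_b_rc_9_2 lc_b_rc_8_2 lc_b_rc_6_1 lc_b_rc_8_2 lc_b_rc_26_5 lc_b_rc_8_2 lc_b_rc_8_0 lc_b_rc_9_2 lc_b_rc_26_1 lc_b_rc_7_2 lc_b_rc_9_0 lc_b_rc_6_1 lc_b_rc_8_2 lc_b_rc_6_1 lc_b_rc_25_4 lc_b_rc_6_1) (@D3.rec (fun _ => (Cert rels S Gen.b)) lc_b_rc_10_2 lc_b_rc_6_1 lc_b_rc_26_1 lc_b_rc_8_2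 lc_b_rc_6_1 lc_b_rc_10_0 lc_b_rc_7_2 lc_b_rc_9_2 lc_b_rc_6_1 lc_b_rc_9_0 lc_b_rc_8_2 lc_b_rc_26_1 lc_b_rc_8_2 lc_b_rc_8_2 lc_b_rc_8_2 lc_b_rc_9_2 lc_b_rc_1_5 lc_b_rc_26_5 lc_b_rc_6_1 lc_b_rc_9_2 lc_b_rc_6_1 lc_b_rc_10_2 lc_b_rc_26_5 lc_b_rc_8_2 lc_b_rc_8_2 lc_b_rc_7_2 lc_b_rc_9_2 lc_b_rc_9_0 lc_b_rc_6_1 lc_b_rc_9_2 lc_b_rc_10_2 lc_b_rc_9_2 lc_b_rc_10_2 lc_b_rc_6_1 lc_b_rc_6_1 lc_b_rc_9_0 lc_b_rc_6_1 lc_b_rc_25_16 lc_b_rc_1_5 lc_b_rc_10_0 lc_b_rc_7_0 lc_b_rc_9_2 lc_b_rc_9_0 lc_b_rc_6_1 lc_b_rc_9_2 lc_b_rc_8_2 lc_b_rc_26_5 lc_b_rc_8_2 lc_b_rc_9_2 lc_b_rc_6_1 lc_b_rc_1_1 lc_b_rc_1_5 lc_b_rc_6_1 lc_b_rc_26_5 lc_b_rc_26_7 lc_b_rc_9_0 lc_b_rc_6_1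 lc_b_rc_26_7 lc_b_rc_8_2 lc_b_rc_9_0 lc_b_rc_8_2 lc_b_rc_9_2) (@D3.rec (fun _ => (Cert rels S Gen.b)) lc_b_rc_26_5 lc_b_rc_26_7 lc_b_rc_26_5 lc_b_rc_6_1 lc_b_rc_26_7 lc_b_rc_8_2 lc_b_rc_1_3 lc_b_rc_6_1 lc_b_rc_6_1 lc_b_rc_9_0 lc_b_rc_26_5 lc_b_rc_7_0 lc_b_rc_6_1 lc_b_rc_6_1 lc_b_rc_9_0 lc_b_rc_10_2 lc_b_rc_6_1 lc_b_rc_8_2 lc_b_rc_8_2 lc_b_rc_26_5 lc_b_rc_1_1 lc_b_rc_8_2 lc_b_rc_8_2 lc_b_rc_9_2 lc_b_rc_6_1 lc_b_rc_8_2 lc_b_rc_9_2 lc_b_rc_7_0 lc_b_rc_8_2 lc_b_rc_6_1 lc_b_rc_8_2 lc_b_rc_6_1 lc_b_rc_9_2 lc_b_rc_9_2 lc_b_rc_1_3 lc_b_rc_1_3 lc_b_rc_6_1 lc_b_rc_1_3 lc_b_rc_26_7 lc_b_rc_8_2 lc_b_rc_8_0 lc_b_Cert_tree lc_b_rc_8_2 lc_b_rc_1_3 lc_b_rc_9_2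 lc_b_rc_6_1 lc_b_rc_25_4 lc_b_rc_6_1 lc_b_rc_10_2 lc_b_rc_9_2 lc_b_rc_6_1 lc_b_rc_6_1 lc_b_rc_8_2 lc_b_rc_6_1 lc_b_rc_26_1 lc_b_rc_6_1 lc_b_rc_8_2 lc_b_rc_9_2 lc_b_rc_26_5 lc_b_rc_8_2 lc_b_rc_9_2 lc_b_rc_8_2) (@D3.rec (fun _ => (Cert rels S Gen.b)) lc_b_rc_9_2 lc_b_rc_1_1 lc_b_rc_6_1 lc_b_rc_9_0 lc_b_Cert_tree lc_b_rc_6_1 lc_b_rc_7_4 lc_b_rc_9_2 lc_b_rc_26_5 lc_b_rc_8_2 lc_b_Cert_tree lc_b_rc_9_2 lc_b_rc_8_2 lc_b_rc_6_1 lc_b_rc_6_1 lc_b_rc_26_7 lc_b_rc_1_1 lc_b_rc_10_2 lc_b_rc_26_5 lc_b_rc_7_0 lc_b_rc_1_5 lc_b_rc_9_2 lc_b_rc_7_4 lc_b_rc_6_1 lc_b_rc_8_2 lc_b_rc_10_2 lc_b_rc_6_1 lc_b_rc_8_2 lc_b_rc_6_1 lc_b_rc_7_0 lc_b_rc_8_2 lc_b_rc_10_2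 lc_b_rc_9_2 lc_b_rc_26_1 lc_b_rc_9_2 lc_b_rc_26_1 lc_b_rc_8_2 lc_b_rc_9_2 lc_b_rc_8_2 lc_b_rc_9_2 lc_b_rc_26_1 lc_b_rc_8_2 lc_b_rc_6_1 lc_b_rc_9_2 lc_b_rc_6_1 lc_b_rc_10_2 lc_b_rc_8_2 lc_b_rc_6_1 lc_b_rc_1_1 lc_b_rc_7_0 lc_b_rc_8_2 lc_b_rc_9_2 lc_b_rc_7_2 lc_b_rc_8_2 lc_b_rc_6_1 lc_b_rc_9_2 lc_b_rc_6_1 lc_b_rc_6_1 lc_b_rc_7_2 lc_b_rc_25_4 lc_b_rc_8_2 lc_b_rc_6_1) (@D3.rec (fun _ => (Cert rels S Gen.b)) lc_b_rc_25_0 lc_b_rc_6_1 lc_b_rc_8_2 lc_b_rc_8_2 lc_b_rc_6_1 lc_b_rc_26_1 lc_b_rc_8_2 lc_b_rc_26_7 lc_b_rc_10_2 lc_b_rc_25_16 lc_b_rc_1_5 lc_b_rc_8_2 lc_b_rc_26_1 lc_b_rc_8_2 lc_b_rc_8_2 lc_b_rc_1_5 lc_b_rc_10_0 lc_b_rc_8_2 lc_b_rc_9_2 lc_b_rc_6_1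 lc_b_rc_8_2 lc_b_rc_6_1 lc_b_rc_1_3 lc_b_rc_7_4 lc_b_rc_8_2 lc_b_rc_6_1 lc_b_rc_26_5 lc_b_rc_26_5 lc_b_rc_6_1 lc_b_rc_9_0 lc_b_rc_9_0 lc_b_rc_7_4 lc_b_rc_9_0 lc_b_rc_8_2 lc_b_rc_1_5 lc_b_rc_25_16 lc_b_rc_6_1 lc_b_rc_26_7 lc_b_rc_10_2 lc_b_rc_10_2 lc_b_rc_6_1 lc_b_rc_10_0 lc_b_rc_8_2 lc_b_rc_8_2 lc_b_rc_7_4 lc_b_rc_6_1 lc_b_rc_6_1 lc_b_rc_8_0 lc_b_rc_7_4 lc_b_rc_6_1 lc_b_rc_8_0 lc_b_rc_8_0 lc_b_rc_26_5 lc_b_rc_9_2 lc_b_rc_8_2 lc_b_rc_6_1 lc_b_rc_7_0 lc_b_rc_6_1 lc_b_rc_8_2 lc_b_rc_7_0 lc_b_rc_6_1 lc_b_rc_26_5) (@D3.rec (fun _ => (Cert rels S Gen.b)) lc_b_rc_8_2 lc_b_rc_26_5 lc_b_rc_6_1 lc_b_rc_7_4 lc_b_rc_10_2 lc_b_rc_8_2 lc_b_rc_7_4 lc_b_rc_8_0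 lc_b_rc_9_0 lc_b_Cert_tree lc_b_rc_8_0 lc_b_rc_10_2 lc_b_rc_6_1 lc_b_rc_8_2 lc_b_rc_9_0 lc_b_rc_9_2 lc_b_rc_9_2 lc_b_rc_6_1 lc_b_rc_7_2 lc_b_rc_6_1 lc_b_rc_8_2 lc_b_rc_1_3 lc_b_rc_9_2 lc_b_rc_8_0 lc_b_rc_1_5 lc_b_rc_26_7 lc_b_rc_6_1 lc_b_rc_6_1 lc_b_rc_7_2 lc_b_rc_8_2 lc_b_rc_6_1 lc_b_rc_8_2 lc_b_rc_8_2 lc_b_rc_8_2 lc_b_rc_8_2 lc_b_rc_26_5 lc_b_rc_25_4 lc_b_rc_9_2 lc_b_rc_8_2 lc_b_rc_9_0 lc_b_rc_6_1 lc_b_rc_8_2 lc_b_rc_10_2 lc_b_rc_26_5 lc_b_rc_25_16 lc_b_rc_9_0 lc_b_rc_6_1 lc_b_rc_26_5 lc_b_rc_7_2 lc_b_rc_9_2 lc_b_rc_8_0 lc_b_rc_26_5 lc_b_rc_1_5 lc_b_rc_9_0 lc_b_rc_8_2 lc_b_rc_8_2 lc_b_rc_8_0 lc_b_rc_9_0 lc_b_rc_6_1 lc_b_rc_26_5 lc_b_rc_26_5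 lc_b_rc_8_2) (@D3.rec (fun _ => (Cert rels S Gen.b)) lc_b_rc_8_2 lc_b_rc_6_1 lc_b_rc_9_2 lc_b_rc_1_3 lc_b_rc_10_2 lc_b_rc_6_1 lc_b_rc_6_1 lc_b_rc_9_2 lc_b_rc_1_5 lc_b_rc_6_1 lc_b_rc_9_2 lc_b_rc_9_0 lc_b_rc_8_2 lc_b_rc_9_2 lc_b_rc_9_2 lc_b_rc_25_0 lc_b_rc_9_2 lc_b_rc_9_2 lc_b_rc_10_2 lc_b_rc_10_0 lc_b_Cert_tree lc_b_rc_6_1 lc_b_rc_26_5 lc_b_rc_7_4 lc_b_rc_8_2 lc_b_rc_1_3 lc_b_rc_6_1 lc_b_rc_9_0 lc_b_rc_6_1 lc_b_rc_1_5 lc_b_rc_26_5 lc_b_rc_9_0 lc_b_rc_9_2 lc_b_rc_7_2 lc_b_rc_8_2 lc_b_rc_7_4 lc_b_rc_6_1 lc_b_rc_9_2 lc_b_rc_26_5 lc_b_rc_9_2 lc_b_rc_1_5 lc_b_rc_1_1 lc_b_rc_6_1 lc_b_rc_1_1 lc_b_rc_8_2 lc_b_rc_10_0 lc_b_rc_8_2 lc_b_rc_6_1 lc_b_rc_6_1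 lc_b_rc_9_2 lc_b_rc_8_2 lc_b_rc_26_1 lc_b_rc_6_1 lc_b_rc_1_3 lc_b_rc_9_2 lc_b_rc_6_1 lc_b_rc_6_1 lc_b_rc_8_2 lc_b_rc_9_0 lc_b_rc_6_1 lc_b_rc_8_2 lc_b_rc_9_2) (@D3.rec (fun _ => (Cert rels S Gen.b)) lc_b_rc_10_2 lc_b_rc_8_2 lc_b_rc_8_2 lc_b_rc_6_1 lc_b_rc_8_2 lc_b_rc_9_2 lc_b_rc_10_0 lc_b_rc_8_0 lc_b_rc_9_2 lc_b_rc_6_1 lc_b_rc_9_0 lc_b_rc_1_3 lc_b_rc_9_2 lc_b_rc_10_0 lc_b_rc_6_1 lc_b_rc_6_1 lc_b_rc_9_2 lc_b_rc_6_1 lc_b_rc_1_3 lc_b_rc_8_2 lc_b_rc_1_1 lc_b_rc_1_1 lc_b_rc_1_3 lc_b_rc_26_1 lc_b_rc_9_2 lc_b_rc_9_2 lc_b_rc_6_1 lc_b_rc_9_2 lc_b_rc_1_3 lc_b_rc_9_2 lc_b_rc_8_2 lc_b_rc_9_2 lc_b_rc_7_2 lc_b_Cert_tree lc_b_rc_8_2 lc_b_rc_10_2 lc_b_rc_9_0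 lc_b_rc_9_2 lc_b_rc_26_5 lc_b_rc_8_2 lc_b_rc_26_5 lc_b_rc_6_1 lc_b_rc_9_2 lc_b_rc_9_2 lc_b_rc_6_1 lc_b_rc_10_2 lc_b_rc_6_1 lc_b_rc_26_5 lc_b_rc_6_1 lc_b_rc_1_1 lc_b_rc_8_2 lc_b_rc_9_2 lc_b_rc_10_2 lc_b_rc_25_4 lc_b_Cert_tree lc_b_rc_8_2 lc_b_rc_8_2 lc_b_rc_9_2 lc_b_rc_1_1 lc_b_rc_8_2 lc_b_rc_9_2 lc_b_rc_6_1) (@D3.rec (fun _ => (Cert rels S Gen.b)) lc_b_rc_9_2 lc_b_rc_6_1 lc_b_rc_8_2 lc_b_rc_10_2 lc_b_rc_9_0 lc_b_rc_26_5 lc_b_rc_8_2 lc_b_rc_25_4 lc_b_rc_26_5 lc_b_rc_6_1 lc_b_rc_6_1 lc_b_rc_6_1 lc_b_rc_7_2 lc_b_rc_8_2 lc_b_rc_8_2 lc_b_rc_6_1 lc_b_Cert_tree lc_b_rc_8_2 lc_b_rc_9_2 lc_b_rc_6_1 lc_b_Cert_tree lc_b_rc_9_2 lc_b_rc_9_2 lc_b_rc_6_1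 lc_b_rc_25_4 lc_b_Cert_tree lc_b_rc_8_2 lc_b_rc_9_2 lc_b_rc_8_2 lc_b_rc_8_2 lc_b_rc_26_5 lc_b_rc_6_1 lc_b_rc_26_5 lc_b_Cert_tree lc_b_rc_9_2 lc_b_rc_8_2 lc_b_rc_6_1 lc_b_rc_8_2 lc_b_rc_26_1 lc_b_rc_6_1 lc_b_rc_6_1 lc_b_rc_10_2 lc_b_rc_6_1 lc_b_rc_6_1 lc_b_rc_1_1 lc_b_rc_7_2 lc_b_rc_6_1 lc_b_rc_8_2 lc_b_rc_8_2 lc_b_rc_6_1 lc_b_rc_6_1 lc_b_rc_6_1 lc_b_rc_9_0 lc_b_Cert_tree lc_b_rc_6_1 lc_b_rc_9_0 lc_b_rc_9_2 lc_b_rc_9_2 lc_b_rc_8_0 lc_b_rc_9_2 lc_b_rc_25_4 lc_b_rc_26_1) (@D3.rec (fun _ => (Cert rels S Gen.b)) lc_b_rc_7_0 lc_b_rc_1_1 lc_b_rc_8_2 lc_b_rc_26_5 lc_b_rc_26_7 lc_b_rc_10_0 lc_b_rc_6_1 lc_b_rc_26_5 lc_b_rc_7_4 lc_b_rc_9_2 lc_b_rc_7_0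 lc_b_rc_6_1 lc_b_rc_25_4 lc_b_rc_8_0 lc_b_rc_9_2 lc_b_rc_10_2 lc_b_rc_26_1 lc_b_rc_1_3 lc_b_rc_7_2 lc_b_rc_9_2 lc_b_rc_8_2 lc_b_rc_8_2 lc_b_rc_10_2 lc_b_rc_8_0 lc_b_rc_9_2 lc_b_rc_10_2 lc_b_rc_10_2 lc_b_rc_6_1 lc_b_rc_9_2 lc_b_rc_9_2 lc_b_rc_9_2 lc_b_rc_6_1 lc_b_rc_7_0 lc_b_rc_9_2 lc_b_rc_6_1 lc_b_rc_1_3 lc_b_rc_6_1 lc_b_rc_1_3 lc_b_rc_25_8 lc_b_rc_9_2 lc_b_rc_6_1 lc_b_rc_10_0 lc_b_rc_8_0 lc_b_rc_1_3 lc_b_rc_7_2 lc_b_rc_9_2 lc_b_rc_9_0 lc_b_rc_6_1 lc_b_rc_6_1 lc_b_rc_6_1 lc_b_rc_6_1 lc_b_rc_6_1 lc_b_rc_8_0 lc_b_rc_9_2 lc_b_rc_6_1 lc_b_rc_9_2 lc_b_rc_7_2 lc_b_rc_6_1 lc_b_rc_6_1 lc_b_rc_9_0 lc_b_rc_1_5 lc_b_rc_8_2) (@D3.rec (fun _ => (Cert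 rels S Gen.b)) lc_b_rc_9_2 lc_b_rc_8_2 lc_b_rc_8_2 lc_b_rc_9_2 lc_b_rc_6_1 lc_b_rc_8_2 lc_b_rc_26_5 lc_b_rc_9_2 lc_b_rc_9_2 lc_b_rc_10_2 lc_b_rc_9_2 lc_b_rc_8_2 lc_b_rc_8_0 lc_b_rc_9_2 lc_b_rc_1_5 lc_b_rc_6_1 lc_b_rc_8_2 lc_b_rc_10_2 lc_b_rc_8_2 lc_b_rc_8_0 lc_b_rc_8_0 lc_b_rc_7_2 lc_b_rc_9_2 lc_b_rc_8_2 lc_b_rc_8_2 lc_b_rc_9_2 lc_b_rc_6_1 lc_b_rc_6_1 lc_b_rc_26_7 lc_b_rc_9_2 lc_b_rc_8_2 lc_b_rc_8_2 lc_b_rc_8_0 lc_b_rc_25_0 lc_b_rc_10_2 lc_b_rc_1_1 lc_b_rc_9_2 lc_b_rc_8_2 lc_b_rc_7_0 lc_b_rc_26_5 lc_b_rc_8_2 lc_b_rc_10_2 lc_b_rc_8_0 lc_b_rc_9_2 lc_b_rc_9_0 lc_b_rc_9_0 lc_b_rc_8_2 lc_b_rc_7_4 lc_b_rc_6_1 lc_b_rc_9_2 lc_b_rc_8_2 lc_b_rc_8_2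 lc_b_rc_26_5 lc_b_rc_9_0 lc_b_rc_7_2 lc_b_rc_6_1 lc_b_rc_1_1 lc_b_rc_9_2 lc_b_rc_8_2 lc_b_rc_1_1 lc_b_rc_7_0 lc_b_rc_8_2) (@D3.rec (fun _ => (Cert rels S Gen.b)) lc_b_rc_7_2 lc_b_rc_6_1 lc_b_rc_26_7 lc_b_rc_26_7 lc_b_rc_9_2 lc_b_rc_26_5 lc_b_rc_8_2 lc_b_rc_6_1 lc_b_rc_6_1 lc_b_rc_26_1 lc_b_rc_9_2 lc_b_rc_6_1 lc_b_rc_26_5 lc_b_rc_9_2 lc_b_rc_25_4 lc_b_rc_9_2 lc_b_rc_8_2 lc_b_rc_9_2 lc_b_rc_9_2 lc_b_rc_6_1 lc_b_rc_26_7 lc_b_rc_9_2 lc_b_rc_6_1 lc_b_rc_1_3 lc_b_rc_7_4 lc_b_rc_6_1 lc_b_rc_25_4 lc_b_rc_6_1 lc_b_Cert_tree lc_b_rc_6_1 lc_b_rc_8_0 lc_b_rc_9_2 lc_b_rc_6_1 lc_b_rc_6_1 lc_b_rc_26_7 lc_b_rc_10_0 lc_b_rc_6_1 lc_b_rc_8_2 lc_b_rc_6_1 lc_b_rc_8_2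 lc_b_rc_6_1 lc_b_rc_8_2 lc_b_rc_6_1 lc_b_rc_9_2 lc_b_rc_8_2 lc_b_rc_9_2 lc_b_rc_6_1 lc_b_rc_9_2 lc_b_rc_8_2 lc_b_rc_1_3 lc_b_rc_9_2 lc_b_rc_26_5 lc_b_rc_1_5 lc_b_rc_1_3 lc_b_rc_9_2 lc_b_rc_1_3 lc_b_rc_9_2 lc_b_rc_9_2 lc_b_rc_1_5 lc_b_rc_8_2 lc_b_rc_7_0 lc_b_rc_1_1) (@D3.rec (fun _ => (Cert rels S Gen.b)) lc_b_rc_8_2 lc_b_rc_26_1 lc_b_rc_6_1 lc_b_rc_25_4 lc_b_rc_26_5 lc_b_rc_6_1 lc_b_rc_8_0 lc_b_rc_26_7 lc_b_rc_8_2 lc_b_rc_6_1 lc_b_rc_7_4 lc_b_rc_9_2 lc_b_rc_1_5 lc_b_rc_8_2 lc_b_rc_8_2 lc_b_rc_8_2 lc_b_rc_9_0 lc_b_rc_8_2 lc_b_rc_7_0 lc_b_rc_6_1 lc_b_rc_26_5 lc_b_rc_10_2 lc_b_rc_8_2 lc_b_rc_6_1 lc_b_rc_9_0 lc_b_rc_8_2 lc_b_rc_6_1 lc_b_rc_26_1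 lc_b_rc_7_2 lc_b_rc_6_1 lc_b_rc_7_0 lc_b_rc_26_5 lc_b_rc_26_5 lc_b_rc_6_1 lc_b_rc_6_1 lc_b_rc_26_5 lc_b_rc_1_3 lc_b_rc_1_3 lc_b_rc_6_1 lc_b_Cert_tree lc_b_rc_26_5 lc_b_rc_6_1 lc_b_rc_9_2 lc_b_rc_9_2 lc_b_rc_10_0 lc_b_rc_9_2 lc_b_rc_6_1 lc_b_rc_9_0 lc_b_rc_8_2 lc_b_rc_10_2 lc_b_rc_8_2 lc_b_rc_8_0 lc_b_Cert_tree lc_b_rc_6_1 lc_b_rc_9_2 lc_b_rc_6_1 lc_b_rc_26_5 lc_b_rc_10_2 lc_b_rc_9_2 lc_b_rc_9_2 lc_b_rc_9_2 lc_b_rc_7_2) (@D3.rec (fun _ => (Cert rels S Gen.b)) lc_b_rc_1_5 lc_b_rc_9_2 lc_b_rc_6_1 lc_b_rc_9_2 lc_b_rc_10_2 lc_b_rc_26_5 lc_b_rc_9_2 lc_b_rc_1_1 lc_b_rc_10_0 lc_b_rc_10_2 lc_b_rc_7_4 lc_b_rc_9_2 lc_b_rc_7_4 lc_b_rc_8_2 lc_b_rc_9_2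 lc_b_rc_8_2 lc_b_rc_1_1 lc_b_rc_6_1 lc_b_rc_8_2 lc_b_rc_10_2 lc_b_rc_6_1 lc_b_rc_1_1 lc_b_rc_6_1 lc_b_rc_1_3 lc_b_rc_10_2 lc_b_rc_8_2 lc_b_rc_7_4 lc_b_rc_9_2 lc_b_rc_1_3 lc_b_rc_9_2 lc_b_rc_6_1 lc_b_rc_8_2 lc_b_rc_10_0 lc_b_rc_6_1 lc_b_rc_9_2 lc_b_rc_6_1 lc_b_rc_6_1 lc_b_rc_9_2 lc_b_rc_8_2 lc_b_rc_7_4 lc_b_rc_9_2 lc_b_rc_1_3 lc_b_rc_7_2 lc_b_rc_9_2 lc_b_rc_26_5 lc_b_rc_26_1 lc_b_rc_8_2 lc_b_rc_10_2 lc_b_rc_6_1 lc_b_rc_6_1 lc_b_rc_6_1 lc_b_Cert_tree lc_b_rc_6_1 lc_b_rc_6_1 lc_b_rc_6_1 lc_b_rc_8_2 lc_b_rc_6_1 lc_b_rc_26_5 lc_b_rc_8_2 lc_b_rc_1_3 lc_b_rc_7_2 lc_b_rc_7_0) (@D3.rec (fun _ => (Cert rels S Gen.b)) lc_b_rc_6_1 lc_b_rc_7_4 lc_b_rc_8_2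 lc_b_rc_6_1 lc_b_rc_8_2 lc_b_rc_9_2 lc_b_rc_1_3 lc_b_rc_9_2 lc_b_rc_7_2 lc_b_rc_9_2 lc_b_rc_7_2 lc_b_rc_9_2 lc_b_rc_26_7 lc_b_rc_6_1 lc_b_rc_8_2 lc_b_rc_10_2 lc_b_Cert_tree lc_b_rc_7_4 lc_b_rc_6_1 lc_b_rc_8_2 lc_b_rc_6_1 lc_b_rc_6_1 lc_b_rc_8_2 lc_b_rc_9_2 lc_b_rc_6_1 lc_b_rc_8_2 lc_b_rc_25_4 lc_b_rc_7_4 lc_b_rc_8_2 lc_b_rc_26_7 lc_b_rc_26_1 lc_b_rc_8_2 lc_b_rc_8_2 lc_b_Cert_tree lc_b_rc_9_2 lc_b_rc_7_4 lc_b_rc_1_5 lc_b_rc_6_1 lc_b_rc_6_1 lc_b_rc_8_2 lc_b_rc_6_1 lc_b_Cert_tree lc_b_rc_26_1 lc_b_rc_7_0 lc_b_rc_8_2 lc_b_rc_8_2 lc_b_rc_7_0 lc_b_rc_10_2 lc_b_rc_9_2 lc_b_rc_6_1 lc_b_rc_10_0 lc_b_rc_10_2 lc_b_rc_6_1 lc_b_rc_26_1 lc_b_rc_26_1 lc_b_rc_6_1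 lc_b_rc_26_5 lc_b_rc_1_3 lc_b_rc_7_4 lc_b_rc_9_2 lc_b_rc_8_2 lc_b_rc_6_1) (@D3.rec (fun _ => (Cert rels S Gen.b)) lc_b_rc_6_1 lc_b_rc_8_2 lc_b_rc_6_1 lc_b_rc_26_5 lc_b_rc_6_1 lc_b_rc_6_1 lc_b_rc_10_2 lc_b_rc_26_7 lc_b_rc_1_3 lc_b_rc_6_1 lc_b_rc_26_7 lc_b_rc_8_2 lc_b_rc_6_1 lc_b_rc_10_0 lc_b_rc_8_2 lc_b_rc_9_2 lc_b_rc_6_1 lc_b_Cert_tree lc_b_rc_9_2 lc_b_rc_10_0 lc_b_rc_10_2 lc_b_Cert_tree lc_b_rc_9_2 lc_b_rc_26_5 lc_b_rc_9_0 lc_b_rc_10_2 lc_b_rc_7_4 lc_b_rc_7_0 lc_b_rc_6_1 lc_b_rc_7_4 lc_b_rc_9_2 lc_b_rc_8_2 lc_b_rc_26_1 lc_b_Cert_tree lc_b_rc_8_2 lc_b_rc_26_7 lc_b_rc_9_2 lc_b_rc_7_2 lc_b_rc_9_2 lc_b_rc_6_1 lc_b_rc_9_2 lc_b_rc_9_2 lc_b_rc_10_2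 lc_b_rc_9_2 lc_b_rc_8_2 lc_b_rc_9_2 lc_b_rc_8_0 lc_b_rc_26_5 lc_b_rc_6_1 lc_b_rc_1_3 lc_b_rc_1_3 lc_b_rc_9_2 lc_b_rc_6_1 lc_b_rc_10_0 lc_b_rc_9_2 lc_b_rc_6_1 lc_b_rc_8_2 lc_b_rc_6_1 lc_b_rc_6_1 lc_b_rc_8_2 lc_b_rc_8_2 lc_b_rc_10_2) (@D3.rec (fun _ => (Cert rels S Gen.b)) lc_b_rc_9_0 lc_b_rc_1_3 lc_b_rc_9_2 lc_b_rc_9_2 lc_b_rc_7_2 lc_b_rc_7_4 lc_b_rc_26_5 lc_b_rc_26_5 lc_b_rc_9_2 lc_b_rc_9_2 lc_b_rc_6_1 lc_b_rc_9_2 lc_b_rc_6_1 lc_b_rc_8_2 lc_b_rc_6_1 lc_b_rc_8_2 lc_b_rc_7_2 lc_b_rc_26_7 lc_b_rc_7_2 lc_b_rc_7_4 lc_b_rc_9_0 lc_b_rc_6_1 lc_b_rc_9_2 lc_b_rc_6_1 lc_b_rc_9_2 lc_b_rc_6_1 lc_b_rc_8_2 lc_b_rc_9_2 lc_b_rc_25_4 lc_b_rc_9_2 lc_b_Cert_tree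 lc_b_rc_1_3 lc_b_rc_7_0 lc_b_rc_8_2 lc_b_rc_7_2 lc_b_rc_26_5 lc_b_rc_6_1 lc_b_rc_26_5 lc_b_rc_9_2 lc_b_Cert_tree lc_b_rc_9_2 lc_b_rc_7_2 lc_b_rc_7_0 lc_b_rc_9_2 lc_b_rc_8_2 lc_b_rc_6_1 lc_b_rc_7_4 lc_b_rc_6_1 lc_b_rc_26_7 lc_b_rc_9_2 lc_b_rc_8_2 lc_b_rc_9_2 lc_b_rc_6_1 lc_b_rc_8_2 lc_b_rc_7_0 lc_b_rc_7_2 lc_b_rc_26_7 lc_b_rc_6_1 lc_b_rc_6_1 lc_b_rc_7_4 lc_b_rc_6_1 lc_b_rc_1_3) (@D3.rec (fun _ => (Cert rels S Gen.b)) lc_b_rc_10_2 lc_b_rc_6_1 lc_b_rc_9_2 lc_b_rc_26_5 lc_b_rc_8_0 lc_b_rc_7_4 lc_b_rc_8_2 lc_b_rc_26_5 lc_b_rc_8_2 lc_b_rc_9_2 lc_b_rc_10_2 lc_b_rc_26_5 lc_b_rc_8_0 lc_b_rc_1_3 lc_b_rc_6_1 lc_b_rc_9_2 lc_b_rc_26_1 lc_b_Cert_tree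 lc_b_rc_6_1 lc_b_rc_10_2 lc_b_rc_6_1 lc_b_rc_6_1 lc_b_rc_8_2 lc_b_rc_8_0 lc_b_rc_1_3 lc_b_rc_9_2 lc_b_rc_7_2 lc_b_rc_6_1 lc_b_rc_9_2 lc_b_rc_26_1 lc_b_rc_8_0 lc_b_rc_6_1 lc_b_rc_9_2 lc_b_rc_26_5 lc_b_rc_1_3 lc_b_rc_9_2 lc_b_rc_6_1 lc_b_rc_6_1 lc_b_rc_8_2 lc_b_rc_8_2 lc_b_rc_10_2 lc_b_rc_1_5 lc_b_rc_25_4 lc_b_rc_6_1 lc_b_rc_9_2 lc_b_rc_8_2 lc_b_Cert_tree lc_b_rc_8_2 lc_b_rc_9_2 lc_b_Cert_tree lc_b_rc_6_1 lc_b_rc_25_12 lc_b_rc_8_2 lc_b_rc_6_1 lc_b_Cert_tree lc_b_rc_8_2 lc_b_rc_8_2 lc_b_Cert_tree lc_b_rc_8_2 lc_b_rc_6_1 lc_b_rc_6_1 lc_b_rc_9_2) (@D3.rec (fun _ => (Cert rels S Gen.b)) lc_b_rc_8_0 lc_b_rc_8_0 lc_b_rc_1_3 lc_b_rc_8_2 lc_b_rc_10_2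 lc_b_rc_8_2 lc_b_rc_9_2 lc_b_rc_6_1 lc_b_rc_8_2 lc_b_rc_26_1 lc_b_rc_26_7 lc_b_rc_25_0 lc_b_rc_26_5 lc_b_rc_8_2 lc_b_rc_26_5 lc_b_rc_9_2 lc_b_rc_9_0 lc_b_rc_7_2 lc_b_rc_7_2 lc_b_rc_1_3 lc_b_rc_8_2 lc_b_rc_9_2 lc_b_rc_9_0 lc_b_rc_6_1 lc_b_rc_7_4 lc_b_rc_6_1 lc_b_rc_8_2 lc_b_rc_8_0 lc_b_rc_9_0 lc_b_rc_9_2 lc_b_rc_25_0 lc_b_rc_6_1 lc_b_rc_6_1 lc_b_rc_9_2 lc_b_rc_8_2 lc_b_rc_7_4 lc_b_rc_10_2 lc_b_rc_8_2 lc_b_rc_10_2 lc_b_rc_6_1 lc_b_rc_1_1 lc_b_rc_8_2 lc_b_rc_8_2 lc_b_rc_9_2 lc_b_rc_1_3 lc_b_rc_25_0 lc_b_rc_8_0 lc_b_rc_1_3 lc_b_rc_9_2 lc_b_rc_26_5 lc_b_rc_6_1 lc_b_rc_8_2 lc_b_rc_1_1 lc_b_rc_8_2 lc_b_rc_9_0 lc_b_Cert_tree lc_b_rc_10_2 lc_b_rc_6_1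 lc_b_rc_6_1 lc_b_rc_26_5 lc_b_rc_10_2 lc_b_rc_8_2) (@D3.rec (fun _ => (Cert rels S Gen.b)) lc_b_rc_9_2 lc_b_rc_26_5 lc_b_rc_8_0 lc_b_rc_6_1 lc_b_rc_8_0 lc_b_rc_10_2 lc_b_rc_10_2 lc_b_rc_6_1 lc_b_rc_26_7 lc_b_rc_8_2 lc_b_rc_8_2 lc_b_rc_7_2 lc_b_rc_8_2 lc_b_rc_1_3 lc_b_rc_1_5 lc_b_rc_26_5 lc_b_rc_6_1 lc_b_rc_7_0 lc_b_rc_7_4 lc_b_rc_9_0 lc_b_rc_9_2 lc_b_rc_8_2 lc_b_rc_6_1 lc_b_rc_6_1 lc_b_rc_8_2 lc_b_Cert_tree lc_b_rc_6_1 lc_b_rc_25_4 lc_b_rc_7_4 lc_b_rc_9_2 lc_b_rc_8_0 lc_b_rc_8_2 lc_b_rc_7_0 lc_b_rc_9_2 lc_b_rc_6_1 lc_b_rc_1_5 lc_b_rc_7_2 lc_b_rc_6_1 lc_b_rc_6_1 lc_b_rc_7_2 lc_b_rc_8_0 lc_b_rc_6_1 lc_b_rc_9_0 lc_b_rc_6_1 lc_b_rc_6_1 lc_b_rc_6_1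 lc_b_rc_7_4 lc_b_rc_8_2 lc_b_rc_9_0 lc_b_rc_8_2 lc_b_rc_6_1 lc_b_rc_7_4 lc_b_rc_8_0 lc_b_rc_7_0 lc_b_rc_7_4 lc_b_rc_9_2 lc_b_rc_1_3 lc_b_rc_6_1 lc_b_rc_8_2 lc_b_rc_6_1 lc_b_rc_6_1 lc_b_Cert_tree)
def ce_b_26 : D2 → D3 → (Cert rels S Gen.b) := @D2.rec (fun _ => D3 → (Cert rels S Gen.b)) (@D3.rec (fun _ => (Cert rels S Gen.b)) lc_b_rc_6_1 lc_b_rc_7_2 lc_b_rc_9_2 lc_b_rc_9_2 lc_b_rc_6_1 lc_b_rc_26_5 lc_b_rc_26_1 lc_b_rc_9_2 lc_b_rc_7_0 lc_b_rc_9_2 lc_b_rc_8_2 lc_b_rc_9_2 lc_b_rc_8_2 lc_b_rc_26_7 lc_b_rc_26_1 lc_b_rc_9_2 lc_b_rc_25_16 lc_b_rc_8_2 lc_b_rc_6_1 lc_b_rc_25_16 lc_b_rc_1_3 lc_b_rc_8_2 lc_b_rc_8_2 lc_b_rc_6_1 lc_b_rc_8_2 lc_b_rc_9_2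 lc_b_rc_6_1 lc_b_rc_6_1 lc_b_rc_10_0 lc_b_rc_9_2 lc_b_rc_26_5 lc_b_rc_9_2 lc_b_rc_6_1 lc_b_rc_26_7 lc_b_rc_26_5 lc_b_rc_9_2 lc_b_rc_9_2 lc_b_rc_8_2 lc_b_rc_7_0 lc_b_rc_10_2 lc_b_rc_9_2 lc_b_rc_6_1 lc_b_rc_6_1 lc_b_rc_26_1 lc_b_rc_8_2 lc_b_rc_26_7 lc_b_rc_8_0 lc_b_rc_9_2 lc_b_rc_8_0 lc_b_rc_6_1 lc_b_rc_6_1 lc_b_rc_26_5 lc_b_rc_6_1 lc_b_rc_6_1 lc_b_rc_9_2 lc_b_rc_8_2 lc_b_rc_26_7 lc_b_rc_1_5 lc_b_rc_1_5 lc_b_rc_8_0 lc_b_rc_8_2 lc_b_rc_8_2) (@D3.rec (fun _ => (Cert rels S Gen.b)) lc_b_rc_6_1 lc_b_rc_6_1 lc_b_rc_6_1 lc_b_rc_6_1 lc_b_rc_6_1 lc_b_rc_8_2 lc_b_rc_8_2 lc_b_rc_10_2 lc_b_rc_9_0 lc_b_rc_8_2 lc_b_rc_6_1 lc_b_rc_9_0 lc_b_rc_8_2 lc_b_rc_9_0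 lc_b_rc_6_1 lc_b_rc_6_1 lc_b_rc_7_4 lc_b_rc_9_2 lc_b_rc_6_1 lc_b_rc_8_0 lc_b_rc_9_2 lc_b_rc_6_1 lc_b_rc_6_1 lc_b_rc_1_3 lc_b_rc_6_1 lc_b_rc_8_2 lc_b_rc_7_4 lc_b_rc_9_2 lc_b_rc_10_2 lc_b_rc_9_2 lc_b_rc_8_2 lc_b_rc_6_1 lc_b_rc_8_2 lc_b_rc_26_7 lc_b_rc_8_2 lc_b_rc_26_1 lc_b_rc_9_2 lc_b_rc_10_2 lc_b_rc_6_1 lc_b_rc_10_2 lc_b_rc_8_2 lc_b_rc_6_1 lc_b_rc_9_2 lc_b_rc_1_3 lc_b_rc_1_3 lc_b_rc_26_5 lc_b_rc_8_2 lc_b_Cert_tree lc_b_rc_1_5 lc_b_rc_9_2 lc_b_rc_26_1 lc_b_rc_7_0 lc_b_rc_8_2 lc_b_rc_10_2 lc_b_rc_7_4 lc_b_rc_26_5 lc_b_rc_9_2 lc_b_rc_8_2 lc_b_rc_10_2 lc_b_Cert_tree lc_b_rc_8_2 lc_b_rc_9_2) (@D3.rec (fun _ => (Cert rels S Gen.b)) lc_b_rc_26_5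 lc_b_rc_8_2 lc_b_rc_26_5 lc_b_rc_9_2 lc_b_rc_26_7 lc_b_rc_26_1 lc_b_rc_1_1 lc_b_rc_8_2 lc_b_rc_6_1 lc_b_rc_9_2 lc_b_rc_6_1 lc_b_rc_6_1 lc_b_rc_8_2 lc_b_Cert_tree lc_b_rc_6_1 lc_b_rc_9_2 lc_b_rc_9_2 lc_b_rc_25_4 lc_b_rc_10_2 lc_b_rc_9_2 lc_b_rc_6_1 lc_b_rc_6_1 lc_b_rc_6_1 lc_b_rc_9_2 lc_b_rc_8_2 lc_b_rc_9_0 lc_b_rc_7_0 lc_b_rc_8_2 lc_b_rc_10_2 lc_b_rc_6_1 lc_b_rc_6_1 lc_b_rc_7_0 lc_b_rc_25_0 lc_b_rc_8_2 lc_b_rc_8_0 lc_b_rc_26_1 lc_b_rc_9_2 lc_b_rc_25_4 lc_b_rc_1_3 lc_b_rc_7_2 lc_b_rc_8_2 lc_b_rc_9_0 lc_b_rc_6_1 lc_b_rc_7_4 lc_b_rc_9_2 lc_b_Cert_tree lc_b_rc_1_5 lc_b_rc_9_2 lc_b_rc_6_1 lc_b_rc_6_1 lc_b_rc_9_0 lc_b_rc_7_2 lc_b_rc_6_1 lc_b_rc_6_1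 lc_b_rc_26_5 lc_b_rc_9_2 lc_b_rc_8_2 lc_b_rc_9_2 lc_b_rc_1_3 lc_b_rc_8_2 lc_b_rc_8_2 lc_b_rc_9_0) (@D3.rec (fun _ => (Cert rels S Gen.b)) lc_b_rc_9_2 lc_b_rc_6_1 lc_b_rc_8_2 lc_b_rc_9_2 lc_b_rc_10_2 lc_b_rc_6_1 lc_b_rc_6_1 lc_b_rc_7_0 lc_b_rc_6_1 lc_b_rc_9_2 lc_b_rc_8_2 lc_b_rc_26_1 lc_b_rc_8_0 lc_b_rc_6_1 lc_b_rc_6_1 lc_b_rc_8_2 lc_b_rc_6_1 lc_b_rc_8_2 lc_b_rc_9_2 lc_b_rc_26_1 lc_b_rc_10_2 lc_b_rc_7_0 lc_b_rc_26_1 lc_b_rc_1_5 lc_b_rc_9_2 lc_b_rc_9_2 lc_b_rc_9_2 lc_b_rc_10_2 lc_b_rc_9_2 lc_b_rc_7_0 lc_b_rc_6_1 lc_b_rc_25_0 lc_b_rc_26_5 lc_b_rc_6_1 lc_b_rc_7_2 lc_b_rc_9_2 lc_b_rc_8_2 lc_b_rc_8_2 lc_b_rc_6_1 lc_b_rc_8_2 lc_b_rc_25_8 lc_b_rc_8_2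 lc_b_rc_8_2 lc_b_rc_9_2 lc_b_rc_9_2 lc_b_rc_26_1 lc_b_rc_8_2 lc_b_rc_9_2 lc_b_rc_7_0 lc_b_rc_26_1 lc_b_rc_25_4 lc_b_rc_8_2 lc_b_Cert_tree lc_b_rc_25_16 lc_b_rc_8_2 lc_b_rc_8_0 lc_b_rc_10_2 lc_b_rc_6_1 lc_b_rc_26_7 lc_b_rc_26_5 lc_b_rc_7_4 lc_b_rc_1_3) (@D3.rec (fun _ => (Cert rels S Gen.b)) lc_b_rc_6_1 lc_b_rc_7_2 lc_b_rc_10_2 lc_b_rc_9_2 lc_b_rc_7_0 lc_b_rc_25_16 lc_b_rc_9_0 lc_b_rc_6_1 lc_b_rc_26_5 lc_b_rc_26_5 lc_b_rc_6_1 lc_b_rc_9_2 lc_b_rc_7_0 lc_b_rc_7_4 lc_b_rc_26_1 lc_b_rc_1_3 lc_b_rc_1_1 lc_b_rc_25_16 lc_b_rc_6_1 lc_b_rc_26_5 lc_b_rc_6_1 lc_b_rc_9_2 lc_b_rc_6_1 lc_b_rc_8_2 lc_b_rc_8_2 lc_b_rc_1_5 lc_b_rc_6_1 lc_b_rc_26_1 lc_b_rc_10_2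 lc_b_rc_9_2 lc_b_rc_6_1 lc_b_rc_26_5 lc_b_rc_7_0 lc_b_rc_9_2 lc_b_rc_9_2 lc_b_rc_10_2 lc_b_rc_6_1 lc_b_rc_8_2 lc_b_rc_7_4 lc_b_rc_26_5 lc_b_rc_9_2 lc_b_rc_7_4 lc_b_rc_7_0 lc_b_rc_6_1 lc_b_rc_8_2 lc_b_rc_9_2 lc_b_rc_1_5 lc_b_rc_9_2 lc_b_rc_10_2 lc_b_rc_26_5 lc_b_rc_9_2 lc_b_rc_1_3 lc_b_rc_26_5 lc_b_rc_26_5 lc_b_rc_10_2 lc_b_rc_6_1 lc_b_rc_6_1 lc_b_rc_6_1 lc_b_rc_26_1 lc_b_rc_9_0 lc_b_rc_6_1 lc_b_rc_9_2) (@D3.rec (fun _ => (Cert rels S Gen.b)) lc_b_rc_8_2 lc_b_Cert_tree lc_b_rc_6_1 lc_b_rc_1_1 lc_b_rc_10_2 lc_b_rc_6_1 lc_b_rc_26_5 lc_b_rc_6_1 lc_b_rc_6_1 lc_b_rc_26_1 lc_b_rc_9_0 lc_b_rc_7_0 lc_b_rc_9_2 lc_b_rc_10_2 lc_b_rc_6_1 lc_b_rc_8_2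 lc_b_rc_6_1 lc_b_rc_6_1 lc_b_rc_8_0 lc_b_rc_9_2 lc_b_rc_6_1 lc_b_rc_10_2 lc_b_rc_8_2 lc_b_rc_9_0 lc_b_rc_6_1 lc_b_rc_6_1 lc_b_rc_6_1 lc_b_rc_8_2 lc_b_rc_8_2 lc_b_rc_7_2 lc_b_rc_10_2 lc_b_rc_7_4 lc_b_rc_9_2 lc_b_rc_8_0 lc_b_rc_1_5 lc_b_rc_1_5 lc_b_rc_26_1 lc_b_rc_6_1 lc_b_rc_9_2 lc_b_rc_8_2 lc_b_rc_9_2 lc_b_rc_9_0 lc_b_rc_8_0 lc_b_rc_8_2 lc_b_rc_8_2 lc_b_rc_26_1 lc_b_rc_8_2 lc_b_rc_6_1 lc_b_rc_8_2 lc_b_rc_6_1 lc_b_rc_8_0 lc_b_rc_26_5 lc_b_rc_6_1 lc_b_rc_6_1 lc_b_rc_6_1 lc_b_rc_10_0 lc_b_rc_26_1 lc_b_rc_10_2 lc_b_rc_26_1 lc_b_rc_9_0 lc_b_rc_7_0 lc_b_rc_9_2) (@D3.rec (fun _ => (Cert rels S Gen.b)) lc_b_rc_10_2 lc_b_rc_26_1 lc_b_rc_7_4 lc_b_rc_9_2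 lc_b_rc_26_5 lc_b_rc_9_2 lc_b_rc_6_1 lc_b_Cert_tree lc_b_rc_8_2 lc_b_rc_1_5 lc_b_rc_6_1 lc_b_rc_8_2 lc_b_rc_26_1 lc_b_rc_6_1 lc_b_rc_6_1 lc_b_rc_6_1 lc_b_rc_8_2 lc_b_rc_25_0 lc_b_rc_26_5 lc_b_rc_8_2 lc_b_rc_9_0 lc_b_Cert_tree lc_b_rc_10_2 lc_b_rc_6_1 lc_b_rc_8_2 lc_b_rc_1_5 lc_b_rc_1_5 lc_b_rc_10_2 lc_b_rc_7_4 lc_b_rc_9_2 lc_b_rc_26_7 lc_b_rc_8_2 lc_b_rc_6_1 lc_b_rc_10_2 lc_b_rc_6_1 lc_b_rc_10_2 lc_b_rc_6_1 lc_b_rc_8_2 lc_b_rc_9_2 lc_b_rc_9_0 lc_b_rc_6_1 lc_b_rc_8_2 lc_b_rc_7_4 lc_b_rc_6_1 lc_b_rc_8_2 lc_b_rc_6_1 lc_b_rc_8_2 lc_b_rc_26_7 lc_b_rc_10_2 lc_b_rc_10_0 lc_b_rc_8_2 lc_b_rc_9_2 lc_b_rc_6_1 lc_b_rc_8_2 lc_b_rc_26_5 lc_b_rc_6_1 lc_b_rc_1_5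 lc_b_rc_25_4 lc_b_rc_9_2 lc_b_rc_8_2 lc_b_rc_26_7 lc_b_rc_8_2) (@D3.rec (fun _ => (Cert rels S Gen.b)) lc_b_rc_9_0 lc_b_rc_8_2 lc_b_rc_6_1 lc_b_rc_9_2 lc_b_rc_6_1 lc_b_rc_8_2 lc_b_rc_6_1 lc_b_rc_26_1 lc_b_rc_26_5 lc_b_rc_26_1 lc_b_rc_26_7 lc_b_rc_10_0 lc_b_rc_9_2 lc_b_rc_6_1 lc_b_rc_26_5 lc_b_rc_1_1 lc_b_rc_25_4 lc_b_rc_10_2 lc_b_rc_6_1 lc_b_rc_10_2 lc_b_rc_26_5 lc_b_rc_9_2 lc_b_rc_6_1 lc_b_rc_8_0 lc_b_rc_9_2 lc_b_rc_6_1 lc_b_rc_9_2 lc_b_rc_10_2 lc_b_rc_6_1 lc_b_rc_6_1 lc_b_rc_26_7 lc_b_rc_10_2 lc_b_rc_10_2 lc_b_rc_8_0 lc_b_rc_9_2 lc_b_rc_9_2 lc_b_rc_9_2 lc_b_rc_26_5 lc_b_rc_6_1 lc_b_rc_6_1 lc_b_rc_8_0 lc_b_rc_10_2 lc_b_rc_10_2 lc_b_rc_6_1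 lc_b_rc_9_2 lc_b_rc_10_0 lc_b_rc_26_5 lc_b_rc_25_0 lc_b_rc_10_2 lc_b_rc_9_2 lc_b_rc_8_2 lc_b_rc_6_1 lc_b_rc_26_1 lc_b_rc_9_2 lc_b_rc_1_1 lc_b_rc_26_1 lc_b_rc_6_1 lc_b_rc_9_2 lc_b_rc_7_0 lc_b_rc_8_0 lc_b_rc_1_5 lc_b_rc_26_5) (@D3.rec (fun _ => (Cert rels S Gen.b)) lc_b_rc_6_1 lc_b_rc_8_0 lc_b_rc_8_2 lc_b_Cert_tree lc_b_rc_6_1 lc_b_rc_8_2 lc_b_Cert_tree lc_b_rc_6_1 lc_b_rc_9_0 lc_b_rc_9_2 lc_b_rc_8_2 lc_b_rc_9_2 lc_b_rc_26_1 lc_b_rc_9_2 lc_b_rc_10_2 lc_b_rc_1_1 lc_b_rc_26_1 lc_b_rc_9_0 lc_b_rc_8_2 lc_b_rc_9_0 lc_b_rc_8_2 lc_b_rc_9_2 lc_b_rc_9_2 lc_b_rc_8_2 lc_b_rc_6_1 lc_b_rc_6_1 lc_b_rc_7_4 lc_b_rc_6_1 lc_b_Cert_tree lc_b_rc_1_1 lc_b_rc_7_2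 lc_b_rc_8_2 lc_b_rc_6_1 lc_b_rc_1_5 lc_b_rc_9_2 lc_b_Cert_tree lc_b_rc_8_0 lc_b_rc_6_1 lc_b_rc_6_1 lc_b_rc_9_2 lc_b_rc_9_2 lc_b_rc_9_2 lc_b_rc_6_1 lc_b_rc_6_1 lc_b_rc_7_2 lc_b_rc_26_5 lc_b_rc_8_2 lc_b_rc_6_1 lc_b_rc_6_1 lc_b_rc_26_7 lc_b_rc_8_2 lc_b_rc_9_2 lc_b_rc_6_1 lc_b_rc_8_0 lc_b_rc_6_1 lc_b_rc_10_2 lc_b_rc_8_0 lc_b_rc_6_1 lc_b_rc_9_2 lc_b_rc_6_1 lc_b_rc_1_5 lc_b_rc_6_1) (@D3.rec (fun _ => (Cert rels S Gen.b)) lc_b_rc_25_0 lc_b_rc_6_1 lc_b_rc_26_7 lc_b_rc_6_1 lc_b_rc_8_2 lc_b_rc_7_2 lc_b_rc_25_4 lc_b_rc_8_2 lc_b_rc_6_1 lc_b_rc_26_7 lc_b_rc_26_5 lc_b_rc_6_1 lc_b_rc_6_1 lc_b_rc_10_2 lc_b_rc_6_1 lc_b_rc_10_2 lc_b_rc_8_2 lc_b_rc_9_2 lc_b_rc_6_1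 lc_b_rc_1_5 lc_b_rc_9_2 lc_b_rc_6_1 lc_b_rc_8_0 lc_b_rc_8_2 lc_b_rc_10_0 lc_b_rc_8_2 lc_b_rc_8_2 lc_b_rc_1_3 lc_b_rc_26_5 lc_b_rc_1_3 lc_b_rc_6_1 lc_b_rc_10_2 lc_b_rc_9_2 lc_b_rc_6_1 lc_b_rc_6_1 lc_b_rc_9_2 lc_b_rc_6_1 lc_b_rc_6_1 lc_b_rc_6_1 lc_b_rc_26_5 lc_b_rc_6_1 lc_b_rc_25_4 lc_b_rc_9_2 lc_b_rc_26_5 lc_b_rc_9_2 lc_b_rc_10_2 lc_b_rc_9_2 lc_b_rc_9_2 lc_b_rc_8_0 lc_b_rc_10_2 lc_b_rc_8_0 lc_b_rc_6_1 lc_b_rc_9_2 lc_b_rc_1_3 lc_b_rc_9_2 lc_b_rc_6_1 lc_b_rc_8_2 lc_b_rc_9_2 lc_b_rc_6_1 lc_b_rc_9_2 lc_b_rc_8_2 lc_b_rc_25_4) (@D3.rec (fun _ => (Cert rels S Gen.b)) lc_b_rc_9_2 lc_b_rc_1_5 lc_b_rc_1_5 lc_b_rc_8_2 lc_b_rc_10_2 lc_b_rc_9_2 lc_b_rc_1_1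 lc_b_rc_1_3 lc_b_rc_9_2 lc_b_rc_9_0 lc_b_rc_8_2 lc_b_rc_6_1 lc_b_rc_7_2 lc_b_rc_6_1 lc_b_rc_7_4 lc_b_rc_26_5 lc_b_rc_26_5 lc_b_rc_9_0 lc_b_rc_26_5 lc_b_rc_9_0 lc_b_rc_1_5 lc_b_rc_26_5 lc_b_rc_8_2 lc_b_Cert_tree lc_b_rc_8_0 lc_b_rc_8_2 lc_b_rc_6_1 lc_b_rc_9_2 lc_b_rc_26_1 lc_b_rc_6_1 lc_b_rc_26_5 lc_b_rc_7_2 lc_b_rc_8_2 lc_b_rc_9_0 lc_b_rc_7_4 lc_b_Cert_tree lc_b_rc_8_2 lc_b_rc_10_2 lc_b_rc_1_3 lc_b_rc_6_1 lc_b_rc_7_2 lc_b_rc_6_1 lc_b_rc_8_0 lc_b_rc_26_5 lc_b_rc_26_5 lc_b_rc_6_1 lc_b_rc_8_2 lc_b_rc_6_1 lc_b_rc_6_1 lc_b_rc_8_2 lc_b_rc_9_2 lc_b_rc_6_1 lc_b_rc_8_0 lc_b_rc_9_0 lc_b_rc_26_5 lc_b_rc_26_5 lc_b_rc_10_2 lc_b_rc_7_2 lc_b_rc_8_2 lc_b_rc_9_2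 lc_b_rc_8_2 lc_b_rc_9_2) (@D3.rec (fun _ => (Cert rels S Gen.b)) lc_b_rc_9_0 lc_b_rc_26_1 lc_b_rc_9_0 lc_b_rc_1_3 lc_b_rc_26_1 lc_b_rc_9_2 lc_b_rc_6_1 lc_b_rc_8_0 lc_b_rc_7_0 lc_b_rc_8_2 lc_b_rc_8_0 lc_b_rc_6_1 lc_b_rc_25_0 lc_b_rc_1_3 lc_b_rc_26_7 lc_b_rc_7_0 lc_b_rc_1_5 lc_b_rc_6_1 lc_b_rc_9_0 lc_b_rc_9_2 lc_b_rc_6_1 lc_b_rc_9_2 lc_b_rc_8_2 lc_b_rc_6_1 lc_b_Cert_tree lc_b_rc_7_4 lc_b_rc_9_2 lc_b_rc_26_7 lc_b_rc_8_2 lc_b_rc_7_0 lc_b_rc_25_0 lc_b_rc_25_0 lc_b_rc_6_1 lc_b_rc_26_1 lc_b_rc_1_3 lc_b_rc_9_0 lc_b_Cert_tree lc_b_rc_9_2 lc_b_rc_1_5 lc_b_rc_8_2 lc_b_rc_10_2 lc_b_rc_1_5 lc_b_Cert_tree lc_b_rc_7_4 lc_b_rc_8_2 lc_b_rc_10_2 lc_b_rc_9_2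 lc_b_rc_8_2 lc_b_rc_6_1 lc_b_rc_7_0 lc_b_Cert_tree lc_b_rc_9_2 lc_b_Cert_tree lc_b_rc_9_2 lc_b_rc_6_1 lc_b_Cert_tree lc_b_rc_6_1 lc_b_Cert_tree lc_b_rc_6_1 lc_b_rc_8_2 lc_b_rc_9_2 lc_b_rc_26_5) (@D3.rec (fun _ => (Cert rels S Gen.b)) lc_b_rc_10_2 lc_b_rc_10_2 lc_b_rc_9_2 lc_b_rc_6_1 lc_b_rc_8_2 lc_b_rc_8_0 lc_b_rc_7_4 lc_b_rc_26_7 lc_b_rc_1_5 lc_b_rc_6_1 lc_b_rc_1_5 lc_b_rc_7_0 lc_b_rc_6_1 lc_b_rc_25_12 lc_b_rc_7_4 lc_b_rc_6_1 lc_b_rc_6_1 lc_b_rc_26_7 lc_b_rc_9_2 lc_b_rc_7_4 lc_b_rc_9_0 lc_b_rc_6_1 lc_b_rc_26_5 lc_b_rc_9_2 lc_b_rc_9_2 lc_b_rc_6_1 lc_b_rc_9_2 lc_b_rc_9_0 lc_b_rc_26_5 lc_b_rc_8_2 lc_b_rc_9_2 lc_b_rc_6_1 lc_b_rc_6_1 lc_b_rc_9_2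 lc_b_rc_9_0 lc_b_rc_10_2 lc_b_rc_7_2 lc_b_rc_9_2 lc_b_rc_9_0 lc_b_rc_1_3 lc_b_rc_7_4 lc_b_rc_6_1 lc_b_rc_7_2 lc_b_rc_9_2 lc_b_rc_9_2 lc_b_rc_26_5 lc_b_rc_10_2 lc_b_rc_6_1 lc_b_rc_26_5 lc_b_rc_6_1 lc_b_rc_10_2 lc_b_rc_6_1 lc_b_rc_26_1 lc_b_rc_9_2 lc_b_rc_6_1 lc_b_rc_6_1 lc_b_rc_7_4 lc_b_rc_10_2 lc_b_rc_10_2 lc_b_rc_9_2 lc_b_rc_6_1 lc_b_rc_8_2) (@D3.rec (fun _ => (Cert rels S Gen.b)) lc_b_rc_9_2 lc_b_rc_7_2 lc_b_rc_8_2 lc_b_rc_25_4 lc_b_rc_26_5 lc_b_rc_8_2 lc_b_rc_1_3 lc_b_rc_8_2 lc_b_rc_9_2 lc_b_rc_26_5 lc_b_rc_26_1 lc_b_rc_7_0 lc_b_rc_7_2 lc_b_rc_1_1 lc_b_rc_10_2 lc_b_rc_6_1 lc_b_rc_25_4 lc_b_rc_9_2 lc_b_rc_6_1 lc_b_rc_26_5 lc_b_rc_8_0 lc_b_rc_7_2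 lc_b_rc_8_2 lc_b_rc_8_2 lc_b_rc_10_2 lc_b_rc_8_2 lc_b_rc_25_16 lc_b_rc_10_2 lc_b_rc_26_5 lc_b_rc_6_1 lc_b_rc_7_0 lc_b_rc_10_0 lc_b_rc_7_2 lc_b_rc_1_3 lc_b_rc_26_7 lc_b_rc_25_0 lc_b_rc_8_2 lc_b_rc_25_16 lc_b_rc_9_2 lc_b_rc_8_2 lc_b_rc_26_1 lc_b_rc_9_0 lc_b_rc_6_1 lc_b_rc_7_4 lc_b_rc_8_2 lc_b_rc_26_7 lc_b_rc_1_1 lc_b_rc_8_2 lc_b_rc_6_1 lc_b_rc_6_1 lc_b_rc_8_2 lc_b_rc_26_5 lc_b_rc_26_1 lc_b_rc_26_1 lc_b_rc_6_1 lc_b_rc_8_2 lc_b_rc_9_2 lc_b_rc_7_2 lc_b_rc_8_2 lc_b_rc_9_2 lc_b_rc_26_7 lc_b_rc_26_1) (@D3.rec (fun _ => (Cert rels S Gen.b)) lc_b_rc_26_5 lc_b_rc_7_4 lc_b_rc_6_1 lc_b_rc_7_0 lc_b_rc_8_2 lc_b_Cert_tree lc_b_rc_9_2 lc_b_rc_26_5 lc_b_rc_6_1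 lc_b_rc_26_5 lc_b_rc_10_2 lc_b_rc_6_1 lc_b_rc_8_2 lc_b_rc_25_8 lc_b_rc_6_1 lc_b_rc_6_1 lc_b_rc_6_1 lc_b_rc_8_2 lc_b_rc_6_1 lc_b_rc_8_2 lc_b_rc_6_1 lc_b_rc_6_1 lc_b_rc_8_2 lc_b_rc_26_5 lc_b_rc_6_1 lc_b_rc_9_0 lc_b_rc_26_7 lc_b_rc_6_1 lc_b_rc_8_2 lc_b_rc_26_1 lc_b_rc_8_2 lc_b_rc_8_2 lc_b_rc_6_1 lc_b_rc_6_1 lc_b_rc_26_5 lc_b_rc_8_2 lc_b_rc_1_3 lc_b_rc_7_2 lc_b_rc_9_2 lc_b_rc_6_1 lc_b_rc_9_2 lc_b_rc_25_12 lc_b_rc_6_1 lc_b_rc_8_0 lc_b_rc_6_1 lc_b_rc_6_1 lc_b_rc_26_5 lc_b_rc_10_0 lc_b_rc_8_2 lc_b_rc_10_2 lc_b_rc_9_2 lc_b_rc_6_1 lc_b_rc_26_5 lc_b_rc_9_0 lc_b_rc_6_1 lc_b_rc_8_2 lc_b_rc_6_1 lc_b_rc_26_1 lc_b_rc_26_5 lc_b_rc_8_2 lc_b_rc_9_2 lc_b_rc_10_2)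 (@D3.rec (fun _ => (Cert rels S Gen.b)) lc_b_rc_1_1 lc_b_rc_7_2 lc_b_rc_8_2 lc_b_rc_6_1 lc_b_rc_8_0 lc_b_rc_9_2 lc_b_rc_9_2 lc_b_rc_6_1 lc_b_rc_10_0 lc_b_rc_8_0 lc_b_rc_6_1 lc_b_rc_9_2 lc_b_rc_26_5 lc_b_rc_9_2 lc_b_rc_8_2 lc_b_rc_9_2 lc_b_rc_6_1 lc_b_rc_6_1 lc_b_rc_8_2 lc_b_rc_10_2 lc_b_rc_9_2 lc_b_rc_9_2 lc_b_Cert_tree lc_b_rc_9_2 lc_b_rc_8_0 lc_b_rc_9_2 lc_b_rc_1_3 lc_b_rc_6_1 lc_b_rc_6_1 lc_b_rc_8_2 lc_b_rc_6_1 lc_b_rc_26_1 lc_b_rc_26_5 lc_b_rc_6_1 lc_b_rc_26_7 lc_b_rc_9_2 lc_b_rc_10_0 lc_b_rc_1_1 lc_b_rc_8_2 lc_b_rc_26_5 lc_b_rc_8_0 lc_b_rc_6_1 lc_b_rc_26_5 lc_b_rc_26_1 lc_b_rc_9_2 lc_b_rc_7_0 lc_b_rc_26_7 lc_b_rc_9_2 lc_b_rc_8_2 lc_b_rc_7_4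 lc_b_rc_25_4 lc_b_rc_9_0 lc_b_rc_9_0 lc_b_rc_8_2 lc_b_rc_8_2 lc_b_rc_8_0 lc_b_Cert_tree lc_b_rc_10_2 lc_b_rc_1_3 lc_b_rc_1_5 lc_b_rc_26_5 lc_b_rc_1_3) (@D3.rec (fun _ => (Cert rels S Gen.b)) lc_b_rc_8_0 lc_b_rc_6_1 lc_b_rc_7_2 lc_b_rc_8_2 lc_b_rc_6_1 lc_b_rc_6_1 lc_b_rc_7_4 lc_b_rc_6_1 lc_b_rc_7_0 lc_b_rc_26_7 lc_b_rc_9_2 lc_b_rc_10_0 lc_b_rc_6_1 lc_b_rc_9_2 lc_b_rc_7_0 lc_b_rc_10_2 lc_b_rc_9_0 lc_b_rc_10_2 lc_b_rc_6_1 lc_b_rc_8_2 lc_b_rc_9_2 lc_b_rc_8_2 lc_b_rc_26_1 lc_b_rc_8_2 lc_b_rc_8_2 lc_b_rc_26_5 lc_b_rc_1_3 lc_b_rc_10_0 lc_b_rc_8_2 lc_b_rc_8_0 lc_b_Cert_tree lc_b_rc_6_1 lc_b_rc_6_1 lc_b_rc_9_2 lc_b_rc_7_2 lc_b_rc_9_2 lc_b_rc_26_1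 lc_b_rc_6_1 lc_b_rc_9_2 lc_b_rc_26_7 lc_b_rc_9_2 lc_b_rc_26_5 lc_b_rc_8_0 lc_b_rc_6_1 lc_b_rc_6_1 lc_b_rc_9_2 lc_b_rc_1_3 lc_b_rc_1_5 lc_b_rc_1_1 lc_b_rc_7_0 lc_b_rc_26_5 lc_b_rc_8_2 lc_b_Cert_tree lc_b_rc_9_2 lc_b_rc_26_7 lc_b_rc_6_1 lc_b_rc_6_1 lc_b_rc_1_1 lc_b_rc_6_1 lc_b_rc_9_0 lc_b_rc_8_2 lc_b_rc_7_2) (@D3.rec (fun _ => (Cert rels S Gen.b)) lc_b_rc_7_2 lc_b_rc_8_2 lc_b_rc_9_2 lc_b_rc_1_5 lc_b_rc_26_5 lc_b_rc_6_1 lc_b_rc_25_0 lc_b_rc_26_1 lc_b_rc_6_1 lc_b_Cert_tree lc_b_rc_9_0 lc_b_rc_8_2 lc_b_rc_6_1 lc_b_rc_9_2 lc_b_rc_6_1 lc_b_rc_10_2 lc_b_rc_9_2 lc_b_rc_9_2 lc_b_rc_6_1 lc_b_rc_7_4 lc_b_rc_8_2 lc_b_rc_10_2 lc_b_rc_6_1 lc_b_rc_8_2 lc_b_rc_26_7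 lc_b_rc_1_1 lc_b_rc_9_2 lc_b_rc_10_2 lc_b_rc_6_1 lc_b_rc_6_1 lc_b_rc_6_1 lc_b_rc_8_2 lc_b_rc_1_5 lc_b_rc_6_1 lc_b_rc_10_0 lc_b_rc_9_0 lc_b_rc_25_4 lc_b_rc_6_1 lc_b_rc_8_2 lc_b_rc_10_0 lc_b_rc_10_2 lc_b_rc_10_2 lc_b_rc_1_5 lc_b_rc_8_2 lc_b_rc_9_2 lc_b_rc_7_2 lc_b_rc_8_2 lc_b_rc_9_2 lc_b_rc_9_2 lc_b_Cert_tree lc_b_rc_7_2 lc_b_rc_9_0 lc_b_rc_6_1 lc_b_rc_9_2 lc_b_Cert_tree lc_b_rc_7_4 lc_b_rc_8_2 lc_b_rc_10_2 lc_b_rc_6_1 lc_b_rc_26_5 lc_b_rc_1_3 lc_b_rc_8_2) (@D3.rec (fun _ => (Cert rels S Gen.b)) lc_b_rc_7_4 lc_b_rc_6_1 lc_b_Cert_tree lc_b_rc_9_2 lc_b_rc_25_4 lc_b_rc_9_2 lc_b_rc_7_0 lc_b_rc_8_2 lc_b_rc_10_2 lc_b_rc_10_2 lc_b_rc_6_1 lc_b_rc_26_1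 lc_b_rc_10_2 lc_b_rc_6_1 lc_b_rc_7_4 lc_b_rc_8_2 lc_b_rc_8_2 lc_b_rc_26_5 lc_b_rc_8_0 lc_b_rc_1_3 lc_b_rc_10_2 lc_b_rc_26_5 lc_b_rc_26_5 lc_b_rc_1_3 lc_b_rc_6_1 lc_b_rc_26_5 lc_b_rc_26_7 lc_b_rc_8_2 lc_b_rc_9_0 lc_b_rc_6_1 lc_b_rc_8_2 lc_b_rc_26_5 lc_b_rc_6_1 lc_b_rc_9_2 lc_b_rc_7_0 lc_b_rc_10_2 lc_b_rc_6_1 lc_b_rc_26_5 lc_b_rc_9_2 lc_b_rc_10_2 lc_b_rc_10_2 lc_b_rc_1_3 lc_b_rc_10_2 lc_b_rc_9_2 lc_b_rc_6_1 lc_b_rc_6_1 lc_b_rc_9_2 lc_b_rc_26_5 lc_b_rc_9_2 lc_b_rc_7_2 lc_b_rc_9_2 lc_b_rc_6_1 lc_b_rc_9_2 lc_b_rc_8_2 lc_b_rc_26_5 lc_b_rc_26_1 lc_b_Cert_tree lc_b_rc_26_7 lc_b_rc_10_0 lc_b_rc_10_2 lc_b_rc_1_3 lc_b_rc_7_0) (@D3.rec (fun _ => (Cert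 rels S Gen.b)) lc_b_rc_9_0 lc_b_rc_8_2 lc_b_rc_6_1 lc_b_rc_8_0 lc_b_rc_6_1 lc_b_rc_6_1 lc_b_rc_10_2 lc_b_rc_7_2 lc_b_rc_1_5 lc_b_rc_8_2 lc_b_rc_26_5 lc_b_rc_8_2 lc_b_rc_6_1 lc_b_rc_8_2 lc_b_rc_6_1 lc_b_rc_8_2 lc_b_rc_8_2 lc_b_rc_6_1 lc_b_rc_9_2 lc_b_rc_9_2 lc_b_rc_10_0 lc_b_rc_8_2 lc_b_rc_10_2 lc_b_rc_9_2 lc_b_rc_26_5 lc_b_rc_25_8 lc_b_rc_8_2 lc_b_rc_1_5 lc_b_rc_6_1 lc_b_rc_8_2 lc_b_rc_1_3 lc_b_rc_9_2 lc_b_rc_9_2 lc_b_rc_8_2 lc_b_rc_8_2 lc_b_rc_10_2 lc_b_rc_9_2 lc_b_rc_9_2 lc_b_rc_25_0 lc_b_rc_25_8 lc_b_rc_26_5 lc_b_rc_9_2 lc_b_rc_8_2 lc_b_rc_9_2 lc_b_rc_6_1 lc_b_rc_6_1 lc_b_rc_6_1 lc_b_rc_10_0 lc_b_rc_10_0 lc_b_rc_9_2 lc_b_rc_8_2 lc_b_rc_6_1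 lc_b_rc_8_2 lc_b_rc_7_4 lc_b_rc_7_0 lc_b_rc_8_2 lc_b_rc_9_2 lc_b_rc_9_0 lc_b_Cert_tree lc_b_rc_1_1 lc_b_rc_6_1 lc_b_rc_25_12) (@D3.rec (fun _ => (Cert rels S Gen.b)) lc_b_rc_7_4 lc_b_rc_1_5 lc_b_rc_10_2 lc_b_rc_6_1 lc_b_rc_26_1 lc_b_rc_9_0 lc_b_rc_10_2 lc_b_rc_10_2 lc_b_rc_8_0 lc_b_rc_8_2 lc_b_rc_6_1 lc_b_rc_26_7 lc_b_rc_6_1 lc_b_rc_6_1 lc_b_rc_9_2 lc_b_rc_9_2 lc_b_rc_6_1 lc_b_rc_8_2 lc_b_rc_6_1 lc_b_rc_9_2 lc_b_rc_10_2 lc_b_rc_8_2 lc_b_rc_26_5 lc_b_rc_26_5 lc_b_rc_9_2 lc_b_rc_8_0 lc_b_rc_10_2 lc_b_rc_8_2 lc_b_rc_8_2 lc_b_rc_9_2 lc_b_Cert_tree lc_b_rc_6_1 lc_b_rc_9_0 lc_b_rc_9_2 lc_b_Cert_tree lc_b_rc_6_1 lc_b_rc_26_5 lc_b_rc_7_4 lc_b_rc_25_4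 lc_b_rc_9_2 lc_b_Cert_tree lc_b_rc_7_2 lc_b_rc_6_1 lc_b_rc_8_2 lc_b_rc_10_0 lc_b_rc_6_1 lc_b_rc_1_3 lc_b_rc_8_0 lc_b_rc_1_3 lc_b_rc_9_2 lc_b_rc_6_1 lc_b_rc_6_1 lc_b_rc_9_0 lc_b_rc_6_1 lc_b_rc_7_4 lc_b_rc_9_2 lc_b_rc_8_2 lc_b_rc_26_1 lc_b_rc_9_2 lc_b_rc_8_2 lc_b_rc_26_7 lc_b_rc_6_1) (@D3.rec (fun _ => (Cert rels S Gen.b)) lc_b_Cert_tree lc_b_rc_6_1 lc_b_rc_8_2 lc_b_rc_8_2 lc_b_rc_7_2 lc_b_rc_26_1 lc_b_rc_6_1 lc_b_rc_26_7 lc_b_rc_26_1 lc_b_rc_9_0 lc_b_rc_7_4 lc_b_rc_10_0 lc_b_rc_26_1 lc_b_rc_6_1 lc_b_rc_26_7 lc_b_rc_10_2 lc_b_rc_8_2 lc_b_rc_9_2 lc_b_rc_26_5 lc_b_rc_7_0 lc_b_rc_7_4 lc_b_rc_9_2 lc_b_rc_7_2 lc_b_rc_6_1 lc_b_rc_26_1 lc_b_rc_9_2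 lc_b_rc_6_1 lc_b_rc_6_1 lc_b_rc_26_1 lc_b_rc_6_1 lc_b_Cert_tree lc_b_rc_6_1 lc_b_rc_7_0 lc_b_Cert_tree lc_b_rc_6_1 lc_b_rc_1_3 lc_b_rc_8_2 lc_b_rc_10_2 lc_b_rc_6_1 lc_b_rc_9_0 lc_b_rc_9_2 lc_b_rc_6_1 lc_b_rc_26_1 lc_b_rc_26_5 lc_b_rc_8_2 lc_b_rc_1_3 lc_b_rc_8_2 lc_b_rc_8_2 lc_b_rc_26_5 lc_b_rc_8_2 lc_b_rc_9_2 lc_b_rc_8_2 lc_b_rc_9_0 lc_b_Cert_tree lc_b_rc_8_0 lc_b_rc_9_0 lc_b_rc_8_2 lc_b_rc_10_2 lc_b_rc_8_2 lc_b_rc_7_4 lc_b_rc_10_2 lc_b_rc_8_2) (@D3.rec (fun _ => (Cert rels S Gen.b)) lc_b_rc_9_2 lc_b_rc_26_7 lc_b_rc_10_0 lc_b_rc_1_1 lc_b_rc_9_2 lc_b_rc_9_2 lc_b_rc_26_7 lc_b_rc_6_1 lc_b_rc_26_1 lc_b_rc_9_2 lc_b_rc_7_4 lc_b_rc_9_2 lc_b_rc_10_2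 lc_b_rc_8_2 lc_b_rc_10_2 lc_b_rc_10_0 lc_b_rc_8_2 lc_b_rc_9_2 lc_b_rc_8_0 lc_b_rc_6_1 lc_b_Cert_tree lc_b_rc_10_2 lc_b_rc_26_1 lc_b_rc_8_2 lc_b_rc_9_2 lc_b_rc_8_2 lc_b_rc_9_2 lc_b_rc_9_0 lc_b_rc_26_5 lc_b_rc_10_2 lc_b_rc_8_2 lc_b_rc_8_2 lc_b_rc_8_2 lc_b_rc_9_2 lc_b_rc_8_2 lc_b_rc_26_1 lc_b_rc_26_1 lc_b_rc_10_2 lc_b_rc_6_1 lc_b_rc_6_1 lc_b_rc_8_2 lc_b_rc_6_1 lc_b_rc_6_1 lc_b_rc_6_1 lc_b_rc_8_2 lc_b_rc_6_1 lc_b_rc_8_2 lc_b_rc_7_4 lc_b_rc_26_7 lc_b_rc_7_2 lc_b_rc_8_2 lc_b_rc_26_5 lc_b_rc_25_8 lc_b_rc_9_2 lc_b_rc_9_2 lc_b_rc_26_5 lc_b_rc_9_0 lc_b_rc_6_1 lc_b_rc_1_5 lc_b_rc_26_5 lc_b_rc_26_1 lc_b_rc_8_2) (@D3.rec (fun _ => (Cert rels S Gen.b))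 lc_b_rc_26_7 lc_b_rc_26_7 lc_b_rc_8_0 lc_b_rc_1_5 lc_b_rc_25_4 lc_b_rc_7_0 lc_b_rc_7_0 lc_b_rc_9_2 lc_b_rc_9_2 lc_b_rc_8_0 lc_b_rc_6_1 lc_b_rc_26_5 lc_b_rc_6_1 lc_b_rc_10_2 lc_b_rc_10_0 lc_b_rc_7_4 lc_b_rc_9_2 lc_b_rc_6_1 lc_b_rc_6_1 lc_b_rc_9_2 lc_b_rc_10_2 lc_b_rc_8_2 lc_b_rc_6_1 lc_b_rc_26_1 lc_b_rc_26_5 lc_b_rc_9_2 lc_b_rc_9_2 lc_b_rc_8_2 lc_b_rc_26_5 lc_b_rc_26_5 lc_b_rc_10_2 lc_b_rc_10_0 lc_b_rc_8_2 lc_b_rc_9_0 lc_b_rc_9_0 lc_b_rc_10_2 lc_b_rc_8_2 lc_b_rc_9_2 lc_b_rc_6_1 lc_b_rc_9_0 lc_b_rc_10_2 lc_b_rc_10_2 lc_b_rc_9_2 lc_b_rc_7_4 lc_b_rc_9_2 lc_b_rc_9_2 lc_b_rc_8_0 lc_b_rc_7_2 lc_b_rc_9_2 lc_b_rc_26_5 lc_b_rc_6_1 lc_b_rc_6_1 lc_b_rc_7_4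 lc_b_rc_1_5 lc_b_rc_26_7 lc_b_rc_9_2 lc_b_rc_8_2 lc_b_rc_26_7 lc_b_rc_7_0 lc_b_rc_25_0 lc_b_rc_9_2 lc_b_rc_6_1) (@D3.rec (fun _ => (Cert rels S Gen.b)) lc_b_rc_26_7 lc_b_rc_6_1 lc_b_rc_10_2 lc_b_rc_6_1 lc_b_Cert_tree lc_b_rc_9_2 lc_b_rc_6_1 lc_b_rc_9_2 lc_b_rc_9_2 lc_b_rc_6_1 lc_b_rc_6_1 lc_b_rc_6_1 lc_b_rc_8_2 lc_b_rc_26_7 lc_b_rc_8_0 lc_b_rc_25_0 lc_b_rc_6_1 lc_b_rc_8_2 lc_b_rc_9_0 lc_b_rc_10_2 lc_b_rc_6_1 lc_b_rc_1_1 lc_b_rc_9_2 lc_b_rc_10_2 lc_b_rc_9_0 lc_b_rc_6_1 lc_b_rc_9_2 lc_b_rc_10_2 lc_b_rc_9_2 lc_b_rc_6_1 lc_b_rc_8_2 lc_b_rc_26_7 lc_b_rc_8_2 lc_b_rc_9_2 lc_b_rc_6_1 lc_b_rc_8_2 lc_b_rc_8_0 lc_b_rc_9_2 lc_b_rc_1_3 lc_b_rc_7_2 lc_b_rc_9_0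 lc_b_rc_7_2 lc_b_rc_1_3 lc_b_rc_7_0 lc_b_rc_26_5 lc_b_rc_10_2 lc_b_rc_9_2 lc_b_rc_25_0 lc_b_rc_7_0 lc_b_rc_8_2 lc_b_rc_10_2 lc_b_rc_8_2 lc_b_rc_9_2 lc_b_rc_26_1 lc_b_rc_10_2 lc_b_rc_8_2 lc_b_rc_9_2 lc_b_rc_6_1 lc_b_rc_26_5 lc_b_rc_9_2 lc_b_rc_6_1 lc_b_rc_8_2) (@D3.rec (fun _ => (Cert rels S Gen.b)) lc_b_rc_10_2 lc_b_rc_6_1 lc_b_rc_6_1 lc_b_rc_26_7 lc_b_rc_9_2 lc_b_rc_8_2 lc_b_rc_10_2 lc_b_rc_6_1 lc_b_rc_26_7 lc_b_Cert_tree lc_b_rc_10_0 lc_b_rc_9_2 lc_b_rc_10_2 lc_b_rc_6_1 lc_b_rc_10_0 lc_b_rc_9_2 lc_b_rc_8_2 lc_b_rc_8_2 lc_b_rc_26_7 lc_b_rc_6_1 lc_b_rc_26_7 lc_b_Cert_tree lc_b_rc_8_2 lc_b_rc_8_2 lc_b_rc_9_2 lc_b_rc_6_1 lc_b_rc_9_2 lc_b_rc_8_0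 lc_b_rc_26_7 lc_b_rc_9_2 lc_b_rc_26_5 lc_b_rc_8_2 lc_b_rc_26_1 lc_b_rc_8_2 lc_b_rc_7_2 lc_b_rc_6_1 lc_b_rc_6_1 lc_b_rc_10_2 lc_b_rc_9_2 lc_b_rc_9_2 lc_b_rc_26_1 lc_b_rc_9_2 lc_b_rc_6_1 lc_b_rc_10_2 lc_b_rc_26_7 lc_b_rc_8_2 lc_b_rc_8_0 lc_b_rc_7_2 lc_b_rc_9_2 lc_b_rc_1_5 lc_b_rc_8_2 lc_b_rc_6_1 lc_b_rc_26_1 lc_b_rc_6_1 lc_b_rc_1_3 lc_b_rc_9_2 lc_b_rc_9_2 lc_b_rc_8_2 lc_b_rc_6_1 lc_b_rc_6_1 lc_b_rc_9_2 lc_b_rc_26_5) (@D3.rec (fun _ => (Cert rels S Gen.b)) lc_b_rc_26_7 lc_b_rc_8_2 lc_b_rc_10_2 lc_b_rc_6_1 lc_b_rc_9_0 lc_b_rc_26_5 lc_b_rc_9_2 lc_b_rc_10_2 lc_b_rc_26_7 lc_b_rc_26_7 lc_b_rc_1_5 lc_b_rc_6_1 lc_b_rc_8_2 lc_b_rc_1_1 lc_b_rc_7_2 lc_b_rc_9_2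 lc_b_rc_26_7 lc_b_rc_10_0 lc_b_rc_8_2 lc_b_rc_6_1 lc_b_rc_8_2 lc_b_rc_6_1 lc_b_rc_9_2 lc_b_rc_10_0 lc_b_rc_8_2 lc_b_rc_9_2 lc_b_rc_1_5 lc_b_rc_6_1 lc_b_rc_7_2 lc_b_rc_9_2 lc_b_rc_6_1 lc_b_rc_7_4 lc_b_rc_8_2 lc_b_rc_7_2 lc_b_rc_8_2 lc_b_rc_26_7 lc_b_rc_26_1 lc_b_rc_8_2 lc_b_rc_6_1 lc_b_rc_8_2 lc_b_rc_1_5 lc_b_rc_8_0 lc_b_rc_26_1 lc_b_rc_10_2 lc_b_rc_6_1 lc_b_rc_8_2 lc_b_rc_8_2 lc_b_rc_26_1 lc_b_rc_9_2 lc_b_rc_8_2 lc_b_rc_8_2 lc_b_rc_7_2 lc_b_rc_26_5 lc_b_rc_8_2 lc_b_rc_26_5 lc_b_rc_6_1 lc_b_rc_26_1 lc_b_rc_9_0 lc_b_rc_9_2 lc_b_rc_8_2 lc_b_rc_26_5 lc_b_rc_9_2) (@D3.rec (fun _ => (Cert rels S Gen.b)) lc_b_rc_26_1 lc_b_rc_26_7 lc_b_rc_8_2 lc_b_rc_8_2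 lc_b_rc_9_2 lc_b_rc_9_2 lc_b_rc_9_2 lc_b_rc_26_5 lc_b_rc_9_2 lc_b_rc_9_0 lc_b_rc_7_0 lc_b_rc_8_2 lc_b_rc_6_1 lc_b_rc_8_2 lc_b_rc_8_2 lc_b_rc_26_7 lc_b_rc_7_4 lc_b_rc_8_2 lc_b_rc_10_2 lc_b_rc_8_2 lc_b_rc_6_1 lc_b_rc_6_1 lc_b_rc_7_4 lc_b_rc_26_7 lc_b_rc_8_2 lc_b_rc_8_0 lc_b_rc_8_2 lc_b_rc_8_2 lc_b_rc_8_2 lc_b_rc_9_2 lc_b_rc_25_4 lc_b_rc_6_1 lc_b_rc_8_2 lc_b_rc_7_2 lc_b_rc_9_2 lc_b_rc_10_0 lc_b_rc_6_1 lc_b_rc_8_2 lc_b_Cert_tree lc_b_rc_9_2 lc_b_rc_6_1 lc_b_rc_8_2 lc_b_rc_8_0 lc_b_rc_8_0 lc_b_rc_25_16 lc_b_rc_8_0 lc_b_rc_7_2 lc_b_rc_9_2 lc_b_rc_6_1 lc_b_rc_10_2 lc_b_rc_7_0 lc_b_rc_8_0 lc_b_rc_26_1 lc_b_rc_6_1 lc_b_rc_26_7 lc_b_rc_9_2 lc_b_rc_8_0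 lc_b_rc_10_2 lc_b_rc_9_0 lc_b_rc_6_1 lc_b_rc_10_0 lc_b_rc_8_2) (@D3.rec (fun _ => (Cert rels S Gen.b)) lc_b_rc_9_2 lc_b_rc_9_2 lc_b_rc_7_4 lc_b_rc_6_1 lc_b_rc_8_2 lc_b_rc_8_2 lc_b_rc_8_2 lc_b_rc_26_7 lc_b_rc_8_2 lc_b_rc_9_2 lc_b_rc_1_5 lc_b_rc_8_0 lc_b_rc_9_0 lc_b_rc_8_2 lc_b_rc_7_2 lc_b_rc_8_2 lc_b_rc_9_2 lc_b_rc_6_1 lc_b_rc_26_5 lc_b_rc_6_1 lc_b_rc_9_2 lc_b_rc_10_2 lc_b_rc_8_2 lc_b_rc_1_3 lc_b_rc_7_0 lc_b_rc_8_2 lc_b_rc_8_2 lc_b_rc_26_5 lc_b_rc_8_2 lc_b_rc_6_1 lc_b_Cert_tree lc_b_rc_8_2 lc_b_rc_8_0 lc_b_rc_6_1 lc_b_rc_8_0 lc_b_rc_8_2 lc_b_rc_8_2 lc_b_rc_8_0 lc_b_rc_6_1 lc_b_rc_10_0 lc_b_rc_8_2 lc_b_rc_8_2 lc_b_rc_9_2 lc_b_rc_8_0 lc_b_rc_6_1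 lc_b_rc_9_2 lc_b_rc_10_0 lc_b_rc_8_2 lc_b_rc_8_0 lc_b_rc_9_2 lc_b_rc_9_2 lc_b_rc_8_0 lc_b_Cert_tree lc_b_rc_25_8 lc_b_rc_7_0 lc_b_rc_26_5 lc_b_rc_9_2 lc_b_rc_8_2 lc_b_rc_9_2 lc_b_rc_8_2 lc_b_rc_6_1 lc_b_rc_1_5) (@D3.rec (fun _ => (Cert rels S Gen.b)) lc_b_rc_9_2 lc_b_rc_26_1 lc_b_rc_6_1 lc_b_rc_10_2 lc_b_rc_6_1 lc_b_rc_26_5 lc_b_rc_10_2 lc_b_rc_6_1 lc_b_rc_10_0 lc_b_rc_9_2 lc_b_rc_6_1 lc_b_rc_10_0 lc_b_rc_9_0 lc_b_rc_6_1 lc_b_rc_6_1 lc_b_rc_6_1 lc_b_rc_9_0 lc_b_rc_1_3 lc_b_rc_8_2 lc_b_rc_10_2 lc_b_rc_9_2 lc_b_rc_9_2 lc_b_rc_8_2 lc_b_rc_8_2 lc_b_rc_8_2 lc_b_rc_26_7 lc_b_rc_6_1 lc_b_rc_25_8 lc_b_rc_8_2 lc_b_rc_6_1 lc_b_rc_26_5 lc_b_rc_9_2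 lc_b_rc_9_0 lc_b_rc_10_2 lc_b_rc_8_0 lc_b_rc_9_2 lc_b_rc_8_2 lc_b_rc_10_0 lc_b_rc_8_2 lc_b_Cert_tree lc_b_rc_9_2 lc_b_rc_6_1 lc_b_rc_8_0 lc_b_rc_6_1 lc_b_rc_8_0 lc_b_rc_9_2 lc_b_rc_9_2 lc_b_rc_10_0 lc_b_rc_9_2 lc_b_rc_10_2 lc_b_rc_6_1 lc_b_rc_6_1 lc_b_Cert_tree lc_b_rc_26_1 lc_b_rc_26_7 lc_b_rc_9_2 lc_b_rc_9_0 lc_b_rc_8_2 lc_b_rc_25_4 lc_b_rc_25_4 lc_b_rc_8_2 lc_b_rc_8_2) (@D3.rec (fun _ => (Cert rels S Gen.b)) lc_b_rc_8_2 lc_b_rc_10_2 lc_b_rc_10_2 lc_b_rc_26_7 lc_b_rc_25_12 lc_b_rc_9_2 lc_b_rc_6_1 lc_b_rc_7_4 lc_b_rc_26_7 lc_b_rc_8_2 lc_b_rc_25_16 lc_b_rc_8_0 lc_b_rc_26_5 lc_b_rc_6_1 lc_b_rc_8_2 lc_b_rc_7_4 lc_b_rc_6_1 lc_b_rc_10_2 lc_b_rc_6_1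 lc_b_rc_10_2 lc_b_rc_7_0 lc_b_Cert_tree lc_b_rc_6_1 lc_b_rc_6_1 lc_b_rc_8_2 lc_b_rc_8_0 lc_b_rc_9_2 lc_b_rc_6_1 lc_b_rc_8_2 lc_b_rc_25_8 lc_b_rc_9_2 lc_b_rc_8_2 lc_b_rc_6_1 lc_b_rc_8_2 lc_b_rc_26_5 lc_b_rc_6_1 lc_b_rc_9_0 lc_b_rc_26_7 lc_b_rc_6_1 lc_b_rc_8_2 lc_b_rc_9_2 lc_b_rc_6_1 lc_b_rc_1_3 lc_b_rc_8_2 lc_b_Cert_tree lc_b_rc_26_5 lc_b_rc_7_4 lc_b_rc_6_1 lc_b_rc_6_1 lc_b_rc_6_1 lc_b_rc_6_1 lc_b_rc_7_4 lc_b_rc_9_2 lc_b_rc_6_1 lc_b_rc_8_2 lc_b_rc_9_2 lc_b_rc_6_1 lc_b_rc_26_7 lc_b_rc_7_0 lc_b_rc_6_1 lc_b_rc_8_2 lc_b_rc_8_0) (@D3.rec (fun _ => (Cert rels S Gen.b)) lc_b_rc_10_2 lc_b_rc_9_0 lc_b_rc_1_1 lc_b_rc_26_7 lc_b_rc_6_1 lc_b_rc_8_2 lc_b_rc_1_1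 lc_b_rc_7_0 lc_b_rc_25_0 lc_b_rc_6_1 lc_b_rc_6_1 lc_b_rc_10_2 lc_b_rc_9_2 lc_b_rc_26_5 lc_b_rc_7_0 lc_b_rc_26_1 lc_b_rc_7_4 lc_b_rc_6_1 lc_b_rc_26_5 lc_b_rc_6_1 lc_b_rc_7_2 lc_b_rc_9_2 lc_b_rc_9_2 lc_b_rc_6_1 lc_b_rc_7_0 lc_b_rc_9_2 lc_b_Cert_tree lc_b_rc_25_0 lc_b_rc_8_2 lc_b_rc_7_2 lc_b_rc_10_0 lc_b_rc_26_1 lc_b_rc_8_2 lc_b_rc_1_3 lc_b_rc_9_2 lc_b_rc_6_1 lc_b_rc_7_0 lc_b_rc_7_4 lc_b_rc_9_2 lc_b_rc_9_2 lc_b_rc_6_1 lc_b_rc_8_2 lc_b_rc_6_1 lc_b_rc_26_5 lc_b_rc_8_2 lc_b_rc_1_3 lc_b_rc_6_1 lc_b_rc_6_1 lc_b_rc_7_2 lc_b_rc_9_2 lc_b_rc_6_1 lc_b_rc_26_5 lc_b_rc_10_2 lc_b_rc_9_2 lc_b_rc_7_4 lc_b_rc_6_1 lc_b_rc_26_1 lc_b_rc_10_2 lc_b_rc_9_2 lc_b_rc_8_0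 lc_b_rc_6_1 lc_b_rc_26_5) (@D3.rec (fun _ => (Cert rels S Gen.b)) lc_b_rc_10_2 lc_b_rc_10_0 lc_b_rc_9_2 lc_b_rc_8_2 lc_b_rc_9_2 lc_b_rc_6_1 lc_b_Cert_tree lc_b_rc_1_3 lc_b_rc_1_5 lc_b_rc_1_3 lc_b_rc_9_2 lc_b_rc_6_1 lc_b_rc_6_1 lc_b_rc_9_2 lc_b_Cert_tree lc_b_rc_6_1 lc_b_rc_6_1 lc_b_rc_8_2 lc_b_rc_9_2 lc_b_rc_6_1 lc_b_rc_8_2 lc_b_rc_6_1 lc_b_rc_26_1 lc_b_rc_6_1 lc_b_rc_9_2 lc_b_rc_7_2 lc_b_rc_7_2 lc_b_Cert_tree lc_b_rc_6_1 lc_b_rc_8_2 lc_b_rc_26_5 lc_b_rc_7_2 lc_b_rc_8_2 lc_b_rc_6_1 lc_b_rc_8_0 lc_b_rc_6_1 lc_b_rc_8_2 lc_b_rc_26_5 lc_b_rc_10_2 lc_b_rc_9_2 lc_b_rc_9_2 lc_b_rc_7_2 lc_b_rc_9_2 lc_b_rc_10_2 lc_b_rc_9_0 lc_b_rc_6_1 lc_b_rc_8_2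 lc_b_rc_26_5 lc_b_rc_6_1 lc_b_rc_8_0 lc_b_rc_10_2 lc_b_rc_9_2 lc_b_rc_8_2 lc_b_rc_6_1 lc_b_rc_7_2 lc_b_rc_7_4 lc_b_rc_9_0 lc_b_rc_10_2 lc_b_rc_7_4 lc_b_rc_6_1 lc_b_rc_9_0 lc_b_rc_26_1) (@D3.rec (fun _ => (Cert rels S Gen.b)) lc_b_rc_8_2 lc_b_rc_9_2 lc_b_rc_26_5 lc_b_rc_6_1 lc_b_rc_1_3 lc_b_rc_26_1 lc_b_rc_8_2 lc_b_rc_9_0 lc_b_rc_7_4 lc_b_rc_6_1 lc_b_rc_9_2 lc_b_rc_8_2 lc_b_rc_6_1 lc_b_rc_6_1 lc_b_rc_26_7 lc_b_rc_6_1 lc_b_rc_6_1 lc_b_rc_6_1 lc_b_rc_7_2 lc_b_rc_9_2 lc_b_rc_1_1 lc_b_rc_8_2 lc_b_rc_10_2 lc_b_rc_8_0 lc_b_rc_10_0 lc_b_rc_6_1 lc_b_rc_8_2 lc_b_rc_9_2 lc_b_rc_6_1 lc_b_rc_8_2 lc_b_Cert_tree lc_b_rc_8_0 lc_b_rc_26_1 lc_b_rc_6_1 lc_b_rc_8_0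 lc_b_rc_9_2 lc_b_Cert_tree lc_b_Cert_tree lc_b_rc_8_2 lc_b_rc_10_2 lc_b_rc_6_1 lc_b_rc_6_1 lc_b_rc_7_0 lc_b_rc_10_2 lc_b_rc_9_2 lc_b_rc_8_2 lc_b_rc_26_7 lc_b_rc_6_1 lc_b_rc_9_2 lc_b_rc_7_2 lc_b_rc_7_2 lc_b_rc_1_5 lc_b_rc_8_2 lc_b_rc_25_0 lc_b_rc_8_2 lc_b_rc_9_2 lc_b_rc_1_5 lc_b_rc_6_1 lc_b_rc_6_1 lc_b_rc_7_0 lc_b_rc_6_1 lc_b_rc_26_1) (@D3.rec (fun _ => (Cert rels S Gen.b)) lc_b_rc_26_5 lc_b_rc_7_0 lc_b_rc_8_2 lc_b_rc_1_3 lc_b_rc_7_2 lc_b_rc_9_2 lc_b_Cert_tree lc_b_rc_7_0 lc_b_rc_26_7 lc_b_rc_1_5 lc_b_rc_9_2 lc_b_rc_9_2 lc_b_rc_8_2 lc_b_rc_7_2 lc_b_rc_7_2 lc_b_rc_6_1 lc_b_rc_26_5 lc_b_rc_1_1 lc_b_rc_6_1 lc_b_rc_9_2 lc_b_rc_9_2 lc_b_rc_6_1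 lc_b_rc_6_1 lc_b_rc_8_2 lc_b_rc_8_0 lc_b_rc_26_1 lc_b_rc_9_2 lc_b_rc_26_5 lc_b_rc_9_2 lc_b_rc_8_2 lc_b_rc_9_2 lc_b_rc_9_2 lc_b_rc_6_1 lc_b_rc_7_2 lc_b_rc_10_2 lc_b_Cert_tree lc_b_rc_6_1 lc_b_rc_9_2 lc_b_rc_10_0 lc_b_rc_6_1 lc_b_Cert_tree lc_b_rc_10_2 lc_b_rc_6_1 lc_b_rc_6_1 lc_b_rc_6_1 lc_b_rc_1_3 lc_b_rc_26_5 lc_b_rc_9_2 lc_b_rc_6_1 lc_b_rc_6_1 lc_b_rc_8_2 lc_b_rc_6_1 lc_b_rc_6_1 lc_b_rc_6_1 lc_b_rc_6_1 lc_b_rc_26_1 lc_b_rc_8_0 lc_b_rc_6_1 lc_b_rc_1_1 lc_b_rc_8_0 lc_b_rc_9_2 lc_b_Cert_tree) (@D3.rec (fun _ => (Cert rels S Gen.b)) lc_b_Cert_tree lc_b_rc_8_2 lc_b_rc_10_2 lc_b_rc_6_1 lc_b_rc_7_0 lc_b_rc_7_4 lc_b_rc_10_2 lc_b_rc_8_2 lc_b_rc_6_1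 lc_b_rc_8_2 lc_b_rc_26_1 lc_b_rc_1_1 lc_b_rc_6_1 lc_b_rc_9_2 lc_b_rc_8_2 lc_b_rc_8_2 lc_b_rc_6_1 lc_b_rc_8_2 lc_b_rc_1_5 lc_b_rc_6_1 lc_b_rc_26_7 lc_b_rc_9_2 lc_b_rc_9_2 lc_b_rc_9_2 lc_b_rc_26_7 lc_b_rc_9_2 lc_b_rc_26_1 lc_b_rc_8_2 lc_b_rc_9_2 lc_b_rc_7_4 lc_b_rc_8_0 lc_b_rc_9_0 lc_b_Cert_tree lc_b_rc_26_5 lc_b_rc_1_1 lc_b_rc_26_7 lc_b_rc_6_1 lc_b_rc_6_1 lc_b_rc_26_5 lc_b_rc_7_2 lc_b_rc_10_0 lc_b_rc_8_2 lc_b_rc_6_1 lc_b_rc_26_7 lc_b_rc_8_2 lc_b_rc_6_1 lc_b_rc_26_5 lc_b_rc_9_0 lc_b_rc_9_2 lc_b_rc_6_1 lc_b_Cert_tree lc_b_Cert_tree lc_b_rc_10_2 lc_b_rc_1_3 lc_b_rc_7_0 lc_b_rc_25_0 lc_b_rc_26_1 lc_b_rc_7_4 lc_b_rc_6_1 lc_b_rc_26_5 lc_b_rc_8_2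 lc_b_rc_8_2) (@D3.rec (fun _ => (Cert rels S Gen.b)) lc_b_rc_26_5 lc_b_Cert_tree lc_b_rc_26_7 lc_b_rc_8_2 lc_b_rc_26_5 lc_b_rc_8_2 lc_b_rc_7_4 lc_b_rc_1_5 lc_b_rc_1_3 lc_b_rc_8_2 lc_b_rc_9_2 lc_b_Cert_tree lc_b_rc_8_0 lc_b_rc_7_2 lc_b_rc_6_1 lc_b_rc_7_4 lc_b_rc_9_2 lc_b_rc_6_1 lc_b_Cert_tree lc_b_rc_8_0 lc_b_Cert_tree lc_b_rc_7_4 lc_b_rc_6_1 lc_b_rc_26_5 lc_b_rc_10_2 lc_b_rc_9_2 lc_b_rc_26_7 lc_b_rc_6_1 lc_b_rc_8_2 lc_b_rc_8_2 lc_b_Cert_tree lc_b_rc_9_2 lc_b_rc_9_2 lc_b_rc_8_2 lc_b_rc_6_1 lc_b_rc_8_2 lc_b_rc_10_2 lc_b_rc_6_1 lc_b_rc_9_2 lc_b_rc_26_5 lc_b_rc_8_2 lc_b_rc_1_3 lc_b_rc_8_2 lc_b_rc_10_2 lc_b_Cert_tree lc_b_rc_9_2 lc_b_rc_1_3 lc_b_rc_9_2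 lc_b_rc_8_2 lc_b_rc_9_2 lc_b_rc_6_1 lc_b_rc_9_2 lc_b_rc_9_2 lc_b_rc_8_2 lc_b_rc_9_2 lc_b_rc_7_2 lc_b_rc_9_2 lc_b_rc_25_12 lc_b_rc_8_2 lc_b_rc_10_2 lc_b_rc_7_4 lc_b_rc_9_2) (@D3.rec (fun _ => (Cert rels S Gen.b)) lc_b_rc_26_1 lc_b_rc_7_0 lc_b_rc_25_16 lc_b_rc_6_1 lc_b_rc_7_2 lc_b_rc_9_2 lc_b_rc_7_4 lc_b_rc_7_4 lc_b_rc_8_2 lc_b_rc_26_1 lc_b_rc_9_0 lc_b_rc_8_2 lc_b_rc_10_2 lc_b_rc_6_1 lc_b_rc_26_1 lc_b_rc_6_1 lc_b_rc_9_2 lc_b_Cert_tree lc_b_rc_6_1 lc_b_rc_8_0 lc_b_rc_10_2 lc_b_rc_8_2 lc_b_rc_9_2 lc_b_rc_6_1 lc_b_rc_1_5 lc_b_rc_6_1 lc_b_rc_26_7 lc_b_rc_8_0 lc_b_rc_8_2 lc_b_rc_6_1 lc_b_rc_6_1 lc_b_rc_10_0 lc_b_rc_6_1 lc_b_rc_25_16 lc_b_rc_10_0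 lc_b_rc_8_2 lc_b_rc_26_5 lc_b_rc_8_2 lc_b_rc_6_1 lc_b_rc_9_2 lc_b_rc_26_1 lc_b_rc_26_5 lc_b_Cert_tree lc_b_rc_10_2 lc_b_rc_9_2 lc_b_Cert_tree lc_b_rc_8_2 lc_b_rc_6_1 lc_b_Cert_tree lc_b_rc_6_1 lc_b_rc_26_7 lc_b_rc_7_2 lc_b_rc_9_2 lc_b_rc_6_1 lc_b_rc_8_2 lc_b_rc_26_1 lc_b_rc_26_1 lc_b_rc_1_5 lc_b_rc_6_1 lc_b_rc_9_2 lc_b_rc_7_4 lc_b_rc_9_2) (@D3.rec (fun _ => (Cert rels S Gen.b)) lc_b_rc_6_1 lc_b_rc_9_2 lc_b_rc_26_7 lc_b_rc_9_2 lc_b_rc_26_1 lc_b_rc_26_1 lc_b_rc_9_2 lc_b_rc_10_2 lc_b_rc_6_1 lc_b_rc_6_1 lc_b_rc_7_0 lc_b_rc_1_3 lc_b_rc_7_0 lc_b_rc_7_0 lc_b_rc_9_2 lc_b_rc_9_2 lc_b_rc_9_2 lc_b_rc_26_1 lc_b_rc_26_7 lc_b_rc_9_2 lc_b_rc_8_2 lc_b_rc_9_2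 lc_b_Cert_tree lc_b_rc_7_2 lc_b_rc_8_2 lc_b_rc_9_2 lc_b_rc_26_5 lc_b_rc_9_2 lc_b_Cert_tree lc_b_rc_10_2 lc_b_rc_6_1 lc_b_rc_7_0 lc_b_rc_25_12 lc_b_rc_6_1 lc_b_rc_25_4 lc_b_rc_8_2 lc_b_rc_7_2 lc_b_rc_7_2 lc_b_rc_6_1 lc_b_rc_8_2 lc_b_rc_10_2 lc_b_rc_26_1 lc_b_rc_25_8 lc_b_rc_7_2 lc_b_rc_6_1 lc_b_rc_8_2 lc_b_rc_6_1 lc_b_rc_8_2 lc_b_rc_9_2 lc_b_rc_8_2 lc_b_rc_9_2 lc_b_Cert_tree lc_b_rc_8_0 lc_b_rc_10_2 lc_b_rc_8_2 lc_b_rc_9_2 lc_b_rc_26_5 lc_b_rc_26_5 lc_b_rc_26_1 lc_b_rc_26_5 lc_b_rc_9_2 lc_b_rc_26_5) (@D3.rec (fun _ => (Cert rels S Gen.b)) lc_b_rc_8_2 lc_b_rc_25_4 lc_b_rc_8_2 lc_b_rc_9_2 lc_b_rc_6_1 lc_b_rc_7_0 lc_b_rc_25_8 lc_b_rc_7_2 lc_b_rc_8_2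 lc_b_rc_9_2 lc_b_rc_7_2 lc_b_rc_9_2 lc_b_rc_6_1 lc_b_rc_9_2 lc_b_rc_6_1 lc_b_rc_26_5 lc_b_rc_9_2 lc_b_rc_25_0 lc_b_rc_7_2 lc_b_rc_8_2 lc_b_rc_1_1 lc_b_rc_8_2 lc_b_rc_9_2 lc_b_rc_1_1 lc_b_rc_9_2 lc_b_rc_6_1 lc_b_rc_7_2 lc_b_rc_6_1 lc_b_rc_10_2 lc_b_rc_9_2 lc_b_rc_7_4 lc_b_rc_25_4 lc_b_rc_10_2 lc_b_rc_1_5 lc_b_rc_7_2 lc_b_rc_8_2 lc_b_rc_26_1 lc_b_rc_8_0 lc_b_rc_8_2 lc_b_rc_8_2 lc_b_rc_6_1 lc_b_rc_26_1 lc_b_rc_1_5 lc_b_rc_7_4 lc_b_rc_7_2 lc_b_rc_8_2 lc_b_rc_6_1 lc_b_rc_8_2 lc_b_rc_9_2 lc_b_rc_8_2 lc_b_rc_9_2 lc_b_rc_8_0 lc_b_rc_6_1 lc_b_rc_9_2 lc_b_rc_8_2 lc_b_rc_9_2 lc_b_rc_8_0 lc_b_rc_10_2 lc_b_rc_9_2 lc_b_rc_9_2 lc_b_rc_7_4 lc_b_rc_1_3)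 (@D3.rec (fun _ => (Cert rels S Gen.b)) lc_b_rc_8_0 lc_b_rc_9_2 lc_b_rc_9_2 lc_b_rc_8_2 lc_b_rc_1_1 lc_b_rc_8_0 lc_b_rc_8_2 lc_b_rc_1_1 lc_b_Cert_tree lc_b_rc_7_0 lc_b_rc_8_2 lc_b_rc_10_2 lc_b_rc_26_5 lc_b_rc_8_2 lc_b_rc_8_0 lc_b_rc_8_2 lc_b_rc_25_16 lc_b_rc_6_1 lc_b_rc_26_5 lc_b_rc_8_2 lc_b_rc_9_0 lc_b_rc_9_2 lc_b_rc_9_0 lc_b_rc_6_1 lc_b_rc_6_1 lc_b_rc_10_2 lc_b_rc_8_2 lc_b_rc_6_1 lc_b_rc_8_2 lc_b_rc_8_0 lc_b_rc_6_1 lc_b_rc_26_1 lc_b_rc_9_2 lc_b_rc_7_2 lc_b_rc_8_0 lc_b_rc_8_2 lc_b_rc_8_2 lc_b_rc_10_2 lc_b_rc_8_2 lc_b_rc_9_2 lc_b_rc_26_5 lc_b_rc_9_2 lc_b_rc_6_1 lc_b_rc_10_2 lc_b_rc_8_2 lc_b_rc_7_2 lc_b_rc_8_2 lc_b_rc_6_1 lc_b_rc_26_5 lc_b_rc_9_2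 lc_b_rc_10_2 lc_b_rc_7_4 lc_b_rc_9_2 lc_b_rc_1_5 lc_b_rc_6_1 lc_b_rc_26_7 lc_b_rc_7_2 lc_b_rc_9_2 lc_b_rc_9_0 lc_b_rc_10_2 lc_b_rc_6_1 lc_b_rc_9_2) (@D3.rec (fun _ => (Cert rels S Gen.b)) lc_b_rc_6_1 lc_b_rc_7_4 lc_b_rc_7_4 lc_b_rc_9_2 lc_b_Cert_tree lc_b_rc_6_1 lc_b_rc_26_1 lc_b_rc_25_0 lc_b_rc_8_2 lc_b_rc_1_5 lc_b_rc_8_0 lc_b_rc_9_2 lc_b_rc_8_2 lc_b_rc_8_2 lc_b_rc_9_2 lc_b_rc_25_4 lc_b_rc_8_2 lc_b_rc_9_2 lc_b_rc_6_1 lc_b_rc_6_1 lc_b_rc_6_1 lc_b_rc_9_0 lc_b_rc_26_7 lc_b_rc_8_2 lc_b_rc_9_2 lc_b_rc_10_0 lc_b_rc_6_1 lc_b_rc_8_2 lc_b_rc_8_2 lc_b_rc_6_1 lc_b_rc_6_1 lc_b_rc_1_3 lc_b_rc_9_2 lc_b_rc_25_4 lc_b_rc_25_0 lc_b_rc_10_2 lc_b_rc_6_1 lc_b_rc_10_2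 lc_b_rc_6_1 lc_b_rc_6_1 lc_b_rc_6_1 lc_b_rc_26_5 lc_b_rc_26_5 lc_b_rc_8_2 lc_b_rc_9_2 lc_b_rc_9_0 lc_b_rc_26_1 lc_b_rc_6_1 lc_b_rc_7_4 lc_b_rc_6_1 lc_b_rc_26_5 lc_b_rc_8_2 lc_b_rc_6_1 lc_b_rc_6_1 lc_b_rc_1_1 lc_b_rc_26_1 lc_b_rc_26_5 lc_b_rc_6_1 lc_b_rc_1_3 lc_b_rc_9_2 lc_b_rc_9_0 lc_b_rc_10_2) (@D3.rec (fun _ => (Cert rels S Gen.b)) lc_b_rc_1_3 lc_b_rc_9_2 lc_b_rc_7_4 lc_b_rc_6_1 lc_b_rc_7_2 lc_b_rc_1_5 lc_b_rc_26_7 lc_b_rc_1_1 lc_b_rc_9_0 lc_b_rc_9_2 lc_b_rc_6_1 lc_b_rc_9_2 lc_b_rc_9_2 lc_b_rc_26_5 lc_b_rc_9_2 lc_b_rc_7_4 lc_b_rc_1_5 lc_b_rc_8_2 lc_b_rc_7_2 lc_b_rc_26_5 lc_b_rc_26_5 lc_b_rc_8_0 lc_b_rc_10_2 lc_b_rc_6_1 lc_b_rc_10_2 lc_b_rc_8_2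 lc_b_rc_9_2 lc_b_rc_9_2 lc_b_rc_25_0 lc_b_rc_25_8 lc_b_rc_8_2 lc_b_rc_10_2 lc_b_rc_9_0 lc_b_rc_25_4 lc_b_rc_7_2 lc_b_rc_9_2 lc_b_rc_1_5 lc_b_rc_6_1 lc_b_rc_10_2 lc_b_rc_9_2 lc_b_rc_8_0 lc_b_rc_1_1 lc_b_rc_9_2 lc_b_rc_9_2 lc_b_rc_9_2 lc_b_Cert_tree lc_b_rc_7_2 lc_b_rc_8_2 lc_b_rc_26_7 lc_b_rc_9_0 lc_b_rc_8_2 lc_b_rc_9_2 lc_b_rc_7_4 lc_b_rc_9_2 lc_b_Cert_tree lc_b_rc_26_5 lc_b_rc_8_2 lc_b_rc_9_2 lc_b_rc_9_2 lc_b_rc_6_1 lc_b_rc_10_2 lc_b_rc_6_1) (@D3.rec (fun _ => (Cert rels S Gen.b)) lc_b_rc_8_2 lc_b_Cert_tree lc_b_Cert_tree lc_b_rc_6_1 lc_b_rc_1_3 lc_b_rc_6_1 lc_b_rc_9_2 lc_b_rc_7_0 lc_b_Cert_tree lc_b_rc_8_2 lc_b_rc_9_2 lc_b_rc_26_5 lc_b_rc_6_1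 lc_b_rc_9_2 lc_b_Cert_tree lc_b_rc_6_1 lc_b_rc_8_2 lc_b_rc_10_2 lc_b_Cert_tree lc_b_rc_9_2 lc_b_rc_8_0 lc_b_rc_9_2 lc_b_rc_26_7 lc_b_rc_1_3 lc_b_rc_9_2 lc_b_rc_6_1 lc_b_rc_10_2 lc_b_rc_9_2 lc_b_rc_8_2 lc_b_rc_6_1 lc_b_rc_7_2 lc_b_rc_9_2 lc_b_Cert_tree lc_b_Cert_tree lc_b_rc_9_0 lc_b_rc_25_16 lc_b_rc_6_1 lc_b_rc_1_1 lc_b_rc_9_2 lc_b_rc_9_2 lc_b_rc_6_1 lc_b_rc_10_2 lc_b_rc_6_1 lc_b_rc_7_4 lc_b_rc_9_2 lc_b_rc_26_1 lc_b_rc_7_0 lc_b_rc_8_2 lc_b_rc_26_1 lc_b_rc_9_2 lc_b_rc_8_2 lc_b_rc_9_0 lc_b_rc_8_2 lc_b_rc_10_2 lc_b_rc_9_2 lc_b_Cert_tree lc_b_rc_6_1 lc_b_rc_26_7 lc_b_rc_6_1 lc_b_rc_8_2 lc_b_rc_6_1 lc_b_rc_9_2) (@D3.rec (fun _ => (Cert rels S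 Gen.b)) lc_b_rc_8_2 lc_b_rc_9_2 lc_b_rc_8_2 lc_b_rc_6_1 lc_b_rc_6_1 lc_b_rc_9_2 lc_b_rc_8_2 lc_b_rc_9_2 lc_b_rc_9_2 lc_b_rc_8_2 lc_b_rc_26_7 lc_b_rc_8_2 lc_b_rc_8_2 lc_b_rc_6_1 lc_b_rc_25_0 lc_b_rc_9_2 lc_b_rc_6_1 lc_b_rc_6_1 lc_b_rc_6_1 lc_b_rc_9_2 lc_b_rc_6_1 lc_b_rc_9_2 lc_b_rc_10_2 lc_b_rc_26_7 lc_b_rc_9_0 lc_b_rc_10_2 lc_b_rc_6_1 lc_b_rc_8_2 lc_b_rc_9_2 lc_b_rc_1_5 lc_b_rc_8_2 lc_b_rc_26_5 lc_b_rc_7_4 lc_b_rc_9_2 lc_b_rc_9_2 lc_b_rc_6_1 lc_b_rc_6_1 lc_b_rc_7_0 lc_b_rc_8_2 lc_b_rc_8_2 lc_b_rc_6_1 lc_b_rc_6_1 lc_b_rc_6_1 lc_b_rc_1_3 lc_b_rc_8_2 lc_b_rc_8_0 lc_b_rc_9_2 lc_b_rc_6_1 lc_b_rc_26_7 lc_b_rc_7_2 lc_b_rc_8_2 lc_b_rc_6_1 lc_b_rc_6_1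 lc_b_rc_9_2 lc_b_rc_6_1 lc_b_rc_6_1 lc_b_rc_6_1 lc_b_rc_10_2 lc_b_rc_26_5 lc_b_rc_1_3 lc_b_rc_9_2 lc_b_rc_26_5) (@D3.rec (fun _ => (Cert rels S Gen.b)) lc_b_rc_8_2 lc_b_rc_8_2 lc_b_rc_6_1 lc_b_rc_26_5 lc_b_rc_7_0 lc_b_rc_1_5 lc_b_rc_6_1 lc_b_rc_9_2 lc_b_rc_7_4 lc_b_rc_8_2 lc_b_rc_26_7 lc_b_rc_10_2 lc_b_rc_6_1 lc_b_rc_1_1 lc_b_rc_6_1 lc_b_rc_7_4 lc_b_rc_8_2 lc_b_rc_8_2 lc_b_rc_8_2 lc_b_Cert_tree lc_b_rc_9_2 lc_b_rc_7_0 lc_b_rc_1_1 lc_b_rc_8_2 lc_b_rc_9_2 lc_b_rc_8_2 lc_b_rc_10_0 lc_b_rc_1_5 lc_b_rc_26_5 lc_b_rc_10_0 lc_b_rc_6_1 lc_b_rc_1_1 lc_b_rc_10_0 lc_b_rc_6_1 lc_b_rc_26_5 lc_b_rc_6_1 lc_b_rc_9_0 lc_b_rc_26_7 lc_b_rc_6_1 lc_b_rc_8_2 lc_b_rc_26_1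 lc_b_rc_9_2 lc_b_rc_1_5 lc_b_rc_8_2 lc_b_rc_7_2 lc_b_rc_25_16 lc_b_rc_6_1 lc_b_rc_6_1 lc_b_rc_8_0 lc_b_rc_1_5 lc_b_rc_7_4 lc_b_rc_26_5 lc_b_rc_9_0 lc_b_rc_1_3 lc_b_rc_9_0 lc_b_rc_9_2 lc_b_rc_6_1 lc_b_rc_26_5 lc_b_rc_10_2 lc_b_rc_9_2 lc_b_rc_26_1 lc_b_rc_8_2) (@D3.rec (fun _ => (Cert rels S Gen.b)) lc_b_rc_7_4 lc_b_rc_8_2 lc_b_rc_1_5 lc_b_rc_6_1 lc_b_rc_8_2 lc_b_rc_6_1 lc_b_rc_6_1 lc_b_rc_26_5 lc_b_rc_8_2 lc_b_rc_1_5 lc_b_rc_9_2 lc_b_rc_26_1 lc_b_rc_6_1 lc_b_rc_6_1 lc_b_rc_8_2 lc_b_rc_8_2 lc_b_rc_9_2 lc_b_rc_9_2 lc_b_rc_8_2 lc_b_rc_10_2 lc_b_rc_26_5 lc_b_rc_6_1 lc_b_rc_8_2 lc_b_rc_25_4 lc_b_rc_26_7 lc_b_rc_1_5 lc_b_rc_7_0 lc_b_rc_7_0 lc_b_rc_26_5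 lc_b_rc_26_1 lc_b_rc_26_5 lc_b_rc_26_7 lc_b_rc_10_2 lc_b_rc_8_2 lc_b_rc_6_1 lc_b_rc_8_0 lc_b_rc_26_5 lc_b_rc_6_1 lc_b_rc_9_2 lc_b_rc_8_2 lc_b_rc_1_3 lc_b_rc_1_1 lc_b_rc_26_5 lc_b_rc_1_3 lc_b_rc_7_2 lc_b_rc_10_2 lc_b_rc_8_0 lc_b_rc_9_2 lc_b_rc_7_4 lc_b_rc_8_2 lc_b_rc_9_2 lc_b_rc_9_2 lc_b_rc_8_2 lc_b_rc_10_2 lc_b_rc_26_7 lc_b_rc_7_0 lc_b_rc_8_2 lc_b_rc_26_5 lc_b_rc_7_4 lc_b_rc_9_2 lc_b_rc_1_3 lc_b_rc_9_2) (@D3.rec (fun _ => (Cert rels S Gen.b)) lc_b_rc_10_2 lc_b_rc_1_3 lc_b_rc_9_2 lc_b_rc_7_4 lc_b_rc_6_1 lc_b_rc_26_5 lc_b_rc_25_4 lc_b_rc_7_0 lc_b_rc_9_2 lc_b_Cert_tree lc_b_rc_9_0 lc_b_rc_8_2 lc_b_rc_9_2 lc_b_rc_8_0 lc_b_rc_1_5 lc_b_rc_10_2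 lc_b_rc_7_2 lc_b_rc_9_0 lc_b_rc_25_8 lc_b_rc_9_2 lc_b_rc_8_2 lc_b_rc_9_2 lc_b_rc_26_5 lc_b_rc_9_2 lc_b_rc_9_2 lc_b_rc_6_1 lc_b_rc_8_2 lc_b_rc_10_2 lc_b_rc_9_2 lc_b_Cert_tree lc_b_rc_8_2 lc_b_rc_26_7 lc_b_rc_6_1 lc_b_rc_25_0 lc_b_rc_8_2 lc_b_rc_8_2 lc_b_rc_6_1 lc_b_rc_1_5 lc_b_rc_7_4 lc_b_rc_26_5 lc_b_rc_1_3 lc_b_rc_1_3 lc_b_rc_8_2 lc_b_rc_8_2 lc_b_rc_6_1 lc_b_rc_8_2 lc_b_rc_8_2 lc_b_rc_26_5 lc_b_rc_8_2 lc_b_rc_8_0 lc_b_rc_6_1 lc_b_rc_1_3 lc_b_rc_9_2 lc_b_rc_7_2 lc_b_rc_9_0 lc_b_rc_8_2 lc_b_rc_10_2 lc_b_rc_9_2 lc_b_rc_7_4 lc_b_rc_8_2 lc_b_rc_6_1 lc_b_rc_26_5) (@D3.rec (fun _ => (Cert rels S Gen.b)) lc_b_rc_6_1 lc_b_rc_8_2 lc_b_rc_9_2 lc_b_rc_25_12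 lc_b_rc_6_1 lc_b_rc_8_2 lc_b_rc_6_1 lc_b_rc_9_2 lc_b_rc_9_2 lc_b_rc_9_0 lc_b_rc_1_5 lc_b_rc_9_2 lc_b_rc_8_2 lc_b_rc_9_2 lc_b_rc_6_1 lc_b_rc_1_5 lc_b_rc_1_5 lc_b_rc_8_2 lc_b_rc_1_1 lc_b_rc_8_2 lc_b_rc_8_2 lc_b_rc_6_1 lc_b_rc_7_4 lc_b_rc_8_2 lc_b_rc_9_2 lc_b_rc_26_5 lc_b_rc_26_5 lc_b_rc_8_2 lc_b_rc_8_2 lc_b_rc_9_2 lc_b_rc_26_7 lc_b_rc_6_1 lc_b_rc_7_2 lc_b_rc_8_2 lc_b_rc_7_4 lc_b_rc_6_1 lc_b_rc_10_2 lc_b_rc_6_1 lc_b_rc_9_2 lc_b_rc_8_2 lc_b_rc_26_7 lc_b_rc_26_1 lc_b_rc_8_2 lc_b_rc_9_2 lc_b_rc_1_1 lc_b_rc_9_0 lc_b_rc_1_3 lc_b_rc_6_1 lc_b_rc_7_4 lc_b_rc_9_2 lc_b_rc_9_2 lc_b_rc_8_2 lc_b_rc_8_2 lc_b_rc_8_2 lc_b_rc_6_1 lc_b_rc_9_0 lc_b_rc_8_0 lc_b_rc_6_1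 lc_b_rc_25_16 lc_b_rc_26_7 lc_b_rc_6_1 lc_b_rc_6_1) (@D3.rec (fun _ => (Cert rels S Gen.b)) lc_b_rc_1_3 lc_b_rc_8_2 lc_b_rc_8_2 lc_b_rc_10_0 lc_b_rc_7_0 lc_b_rc_10_2 lc_b_rc_9_0 lc_b_rc_9_2 lc_b_rc_8_2 lc_b_rc_9_2 lc_b_rc_7_4 lc_b_rc_1_3 lc_b_rc_26_5 lc_b_rc_6_1 lc_b_rc_7_4 lc_b_rc_8_2 lc_b_rc_7_2 lc_b_rc_6_1 lc_b_rc_10_0 lc_b_rc_6_1 lc_b_rc_9_2 lc_b_rc_9_2 lc_b_rc_10_2 lc_b_rc_8_2 lc_b_rc_7_0 lc_b_rc_7_4 lc_b_rc_8_2 lc_b_rc_9_2 lc_b_rc_6_1 lc_b_rc_8_2 lc_b_rc_6_1 lc_b_rc_26_5 lc_b_rc_7_4 lc_b_rc_7_4 lc_b_rc_6_1 lc_b_rc_6_1 lc_b_rc_9_0 lc_b_rc_10_2 lc_b_rc_9_2 lc_b_rc_26_5 lc_b_rc_26_5 lc_b_rc_9_2 lc_b_rc_6_1 lc_b_rc_7_2 lc_b_rc_8_2 lc_b_rc_9_2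 lc_b_rc_6_1 lc_b_rc_8_2 lc_b_rc_10_2 lc_b_rc_10_2 lc_b_rc_6_1 lc_b_rc_8_0 lc_b_rc_7_4 lc_b_rc_6_1 lc_b_rc_26_5 lc_b_rc_6_1 lc_b_rc_8_2 lc_b_rc_9_2 lc_b_rc_6_1 lc_b_rc_7_0 lc_b_rc_25_16 lc_b_rc_9_2) (@D3.rec (fun _ => (Cert rels S Gen.b)) lc_b_rc_6_1 lc_b_rc_9_2 lc_b_rc_26_5 lc_b_rc_26_5 lc_b_rc_8_2 lc_b_rc_26_1 lc_b_rc_7_2 lc_b_rc_6_1 lc_b_rc_7_4 lc_b_rc_9_0 lc_b_rc_1_3 lc_b_rc_8_2 lc_b_rc_9_2 lc_b_rc_8_2 lc_b_rc_1_1 lc_b_rc_9_2 lc_b_rc_6_1 lc_b_rc_8_2 lc_b_rc_9_2 lc_b_rc_26_7 lc_b_rc_9_2 lc_b_rc_6_1 lc_b_rc_26_5 lc_b_rc_26_1 lc_b_rc_26_7 lc_b_rc_8_2 lc_b_rc_26_5 lc_b_rc_26_1 lc_b_rc_1_5 lc_b_rc_8_0 lc_b_rc_6_1 lc_b_rc_10_2 lc_b_rc_9_2 lc_b_rc_8_2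 lc_b_rc_9_0 lc_b_rc_8_2 lc_b_rc_26_5 lc_b_rc_9_2 lc_b_rc_8_2 lc_b_rc_8_2 lc_b_rc_8_2 lc_b_rc_8_2 lc_b_rc_9_2 lc_b_rc_8_2 lc_b_rc_9_2 lc_b_rc_8_2 lc_b_rc_10_2 lc_b_Cert_tree lc_b_rc_26_7 lc_b_rc_9_0 lc_b_rc_7_0 lc_b_rc_9_2 lc_b_rc_6_1 lc_b_rc_9_2 lc_b_rc_6_1 lc_b_rc_10_2 lc_b_rc_8_2 lc_b_rc_6_1 lc_b_rc_1_3 lc_b_rc_1_1 lc_b_rc_26_5 lc_b_rc_6_1) (@D3.rec (fun _ => (Cert rels S Gen.b)) lc_b_rc_6_1 lc_b_rc_8_2 lc_b_rc_8_0 lc_b_rc_8_2 lc_b_rc_7_2 lc_b_rc_8_2 lc_b_rc_6_1 lc_b_rc_10_2 lc_b_rc_9_2 lc_b_rc_9_2 lc_b_rc_1_1 lc_b_rc_6_1 lc_b_rc_9_2 lc_b_rc_10_0 lc_b_rc_7_4 lc_b_rc_8_2 lc_b_rc_6_1 lc_b_rc_8_0 lc_b_rc_8_2 lc_b_rc_1_3 lc_b_rc_8_2 lc_b_rc_8_2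 lc_b_rc_8_2 lc_b_rc_8_2 lc_b_rc_26_5 lc_b_rc_9_2 lc_b_rc_8_0 lc_b_rc_9_0 lc_b_rc_6_1 lc_b_rc_8_2 lc_b_rc_26_5 lc_b_rc_25_4 lc_b_rc_9_0 lc_b_Cert_tree lc_b_rc_6_1 lc_b_rc_6_1 lc_b_rc_6_1 lc_b_rc_8_2 lc_b_rc_8_2 lc_b_rc_6_1 lc_b_rc_26_5 lc_b_rc_10_2 lc_b_rc_26_1 lc_b_rc_26_5 lc_b_rc_7_4 lc_b_rc_6_1 lc_b_rc_7_4 lc_b_rc_7_2 lc_b_rc_9_2 lc_b_rc_26_7 lc_b_rc_6_1 lc_b_rc_6_1 lc_b_rc_8_2 lc_b_rc_10_2 lc_b_rc_6_1 lc_b_rc_26_1 lc_b_rc_26_5 lc_b_rc_6_1 lc_b_rc_8_2 lc_b_rc_6_1 lc_b_rc_8_2 lc_b_rc_25_16) (@D3.rec (fun _ => (Cert rels S Gen.b)) lc_b_rc_6_1 lc_b_rc_1_5 lc_b_rc_6_1 lc_b_rc_26_5 lc_b_rc_1_1 lc_b_rc_8_2 lc_b_rc_9_2 lc_b_rc_8_2 lc_b_rc_10_2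 lc_b_rc_9_2 lc_b_rc_7_2 lc_b_rc_26_7 lc_b_rc_9_2 lc_b_rc_6_1 lc_b_rc_8_2 lc_b_rc_7_4 lc_b_rc_7_2 lc_b_rc_8_2 lc_b_rc_26_5 lc_b_rc_6_1 lc_b_rc_9_2 lc_b_rc_8_2 lc_b_rc_6_1 lc_b_rc_6_1 lc_b_rc_6_1 lc_b_rc_9_2 lc_b_rc_8_2 lc_b_rc_9_2 lc_b_rc_9_0 lc_b_rc_10_0 lc_b_rc_8_2 lc_b_rc_10_2 lc_b_rc_10_2 lc_b_rc_9_2 lc_b_rc_8_0 lc_b_rc_9_2 lc_b_rc_25_4 lc_b_rc_6_1 lc_b_rc_9_2 lc_b_rc_9_0 lc_b_rc_9_0 lc_b_rc_8_2 lc_b_rc_10_2 lc_b_rc_6_1 lc_b_rc_8_0 lc_b_rc_8_2 lc_b_rc_26_1 lc_b_rc_26_1 lc_b_rc_9_2 lc_b_rc_7_4 lc_b_rc_8_2 lc_b_rc_6_1 lc_b_rc_8_2 lc_b_rc_9_2 lc_b_rc_6_1 lc_b_rc_8_0 lc_b_rc_10_2 lc_b_rc_9_2 lc_b_rc_6_1 lc_b_rc_9_0 lc_b_rc_7_0 lc_b_rc_6_1)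 (@D3.rec (fun _ => (Cert rels S Gen.b)) lc_b_rc_26_5 lc_b_rc_9_0 lc_b_rc_1_5 lc_b_rc_6_1 lc_b_rc_6_1 lc_b_rc_8_2 lc_b_rc_1_5 lc_b_rc_7_0 lc_b_rc_9_2 lc_b_rc_8_2 lc_b_rc_26_1 lc_b_rc_1_5 lc_b_rc_1_3 lc_b_rc_9_0 lc_b_rc_26_1 lc_b_rc_6_1 lc_b_rc_6_1 lc_b_rc_10_2 lc_b_rc_6_1 lc_b_rc_8_2 lc_b_rc_10_2 lc_b_rc_6_1 lc_b_rc_8_2 lc_b_rc_6_1 lc_b_rc_9_0 lc_b_rc_6_1 lc_b_rc_8_2 lc_b_rc_25_12 lc_b_rc_8_2 lc_b_rc_8_0 lc_b_rc_25_4 lc_b_rc_8_2 lc_b_rc_6_1 lc_b_rc_25_12 lc_b_rc_6_1 lc_b_rc_9_0 lc_b_rc_9_2 lc_b_rc_6_1 lc_b_rc_6_1 lc_b_rc_26_7 lc_b_rc_7_0 lc_b_rc_8_2 lc_b_rc_6_1 lc_b_rc_8_2 lc_b_Cert_tree lc_b_rc_1_1 lc_b_rc_8_0 lc_b_rc_9_2 lc_b_rc_6_1 lc_b_rc_26_7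 lc_b_rc_9_0 lc_b_rc_25_4 lc_b_rc_6_1 lc_b_rc_8_2 lc_b_rc_7_2 lc_b_rc_9_2 lc_b_rc_1_3 lc_b_rc_8_2 lc_b_rc_26_7 lc_b_Cert_tree lc_b_rc_9_2 lc_b_rc_8_2) (@D3.rec (fun _ => (Cert rels S Gen.b)) lc_b_rc_9_0 lc_b_rc_7_0 lc_b_rc_8_2 lc_b_rc_10_2 lc_b_rc_8_2 lc_b_rc_9_2 lc_b_rc_25_8 lc_b_rc_9_2 lc_b_rc_8_2 lc_b_rc_9_2 lc_b_rc_6_1 lc_b_rc_8_2 lc_b_rc_10_0 lc_b_rc_6_1 lc_b_rc_8_2 lc_b_rc_6_1 lc_b_rc_7_2 lc_b_rc_6_1 lc_b_rc_8_0 lc_b_rc_26_5 lc_b_rc_9_2 lc_b_rc_8_2 lc_b_rc_7_4 lc_b_rc_6_1 lc_b_rc_8_2 lc_b_rc_9_2 lc_b_rc_9_2 lc_b_rc_8_2 lc_b_rc_1_3 lc_b_rc_8_2 lc_b_rc_9_2 lc_b_rc_1_3 lc_b_rc_8_2 lc_b_rc_6_1 lc_b_rc_8_2 lc_b_rc_9_2 lc_b_rc_26_1 lc_b_rc_26_1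 lc_b_rc_26_7 lc_b_rc_8_2 lc_b_rc_6_1 lc_b_rc_9_2 lc_b_rc_6_1 lc_b_rc_9_2 lc_b_rc_6_1 lc_b_Cert_tree lc_b_rc_10_2 lc_b_Cert_tree lc_b_rc_7_0 lc_b_rc_9_2 lc_b_rc_6_1 lc_b_rc_10_0 lc_b_rc_9_0 lc_b_rc_9_2 lc_b_rc_26_5 lc_b_rc_9_2 lc_b_rc_26_1 lc_b_rc_9_2 lc_b_rc_1_1 lc_b_rc_6_1 lc_b_rc_7_2 lc_b_rc_6_1) (@D3.rec (fun _ => (Cert rels S Gen.b)) lc_b_rc_6_1 lc_b_rc_8_2 lc_b_rc_9_2 lc_b_rc_8_2 lc_b_rc_8_0 lc_b_rc_8_2 lc_b_rc_26_5 lc_b_rc_26_7 lc_b_rc_9_2 lc_b_rc_26_1 lc_b_rc_6_1 lc_b_rc_10_0 lc_b_rc_8_2 lc_b_rc_8_2 lc_b_rc_26_5 lc_b_rc_6_1 lc_b_rc_9_2 lc_b_rc_7_4 lc_b_rc_6_1 lc_b_rc_6_1 lc_b_rc_8_0 lc_b_rc_10_2 lc_b_rc_7_0 lc_b_rc_10_2 lc_b_rc_9_2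 lc_b_rc_10_2 lc_b_rc_7_2 lc_b_rc_8_2 lc_b_rc_8_2 lc_b_rc_8_2 lc_b_rc_9_2 lc_b_rc_8_2 lc_b_rc_10_2 lc_b_rc_8_2 lc_b_rc_10_2 lc_b_rc_10_2 lc_b_rc_9_2 lc_b_rc_1_1 lc_b_rc_7_4 lc_b_rc_8_2 lc_b_rc_8_2 lc_b_rc_6_1 lc_b_rc_10_2 lc_b_rc_6_1 lc_b_rc_8_2 lc_b_rc_9_0 lc_b_rc_8_2 lc_b_rc_26_5 lc_b_rc_10_2 lc_b_rc_9_2 lc_b_rc_6_1 lc_b_rc_6_1 lc_b_rc_26_5 lc_b_rc_8_2 lc_b_rc_7_0 lc_b_rc_7_0 lc_b_rc_10_2 lc_b_Cert_tree lc_b_rc_8_2 lc_b_rc_1_3 lc_b_rc_1_5 lc_b_rc_1_3) (@D3.rec (fun _ => (Cert rels S Gen.b)) lc_b_rc_8_2 lc_b_rc_10_2 lc_b_rc_8_2 lc_b_rc_26_5 lc_b_rc_26_7 lc_b_rc_8_2 lc_b_rc_8_2 lc_b_rc_8_2 lc_b_rc_8_0 lc_b_rc_8_0 lc_b_rc_8_2 lc_b_rc_9_2 lc_b_rc_10_0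 lc_b_rc_6_1 lc_b_rc_25_12 lc_b_rc_7_0 lc_b_rc_8_2 lc_b_rc_10_2 lc_b_rc_6_1 lc_b_rc_8_2 lc_b_rc_8_2 lc_b_rc_25_8 lc_b_rc_1_5 lc_b_rc_9_2 lc_b_rc_6_1 lc_b_rc_26_1 lc_b_rc_9_0 lc_b_rc_6_1 lc_b_rc_8_2 lc_b_rc_6_1 lc_b_rc_6_1 lc_b_rc_8_2 lc_b_rc_8_2 lc_b_rc_10_2 lc_b_rc_9_0 lc_b_rc_8_2 lc_b_rc_26_5 lc_b_rc_9_0 lc_b_rc_9_2 lc_b_rc_9_2 lc_b_rc_9_2 lc_b_rc_9_2 lc_b_rc_8_0 lc_b_rc_10_2 lc_b_rc_6_1 lc_b_rc_26_5 lc_b_rc_10_2 lc_b_rc_6_1 lc_b_rc_8_2 lc_b_rc_9_2 lc_b_rc_8_2 lc_b_rc_9_2 lc_b_rc_6_1 lc_b_rc_8_0 lc_b_rc_26_1 lc_b_rc_8_2 lc_b_rc_9_2 lc_b_rc_8_2 lc_b_rc_26_5 lc_b_rc_7_2 lc_b_rc_8_2 lc_b_rc_9_2) (@D3.rec (fun _ => (Cert rels S Gen.b)) lc_b_rc_7_2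 lc_b_rc_8_2 lc_b_rc_9_2 lc_b_rc_26_5 lc_b_rc_26_7 lc_b_rc_8_2 lc_b_rc_9_2 lc_b_rc_6_1 lc_b_rc_1_1 lc_b_rc_8_2 lc_b_rc_9_2 lc_b_rc_9_2 lc_b_rc_26_5 lc_b_rc_6_1 lc_b_rc_6_1 lc_b_rc_26_7 lc_b_rc_8_2 lc_b_rc_6_1 lc_b_rc_8_2 lc_b_rc_6_1 lc_b_rc_6_1 lc_b_rc_10_2 lc_b_rc_26_1 lc_b_rc_6_1 lc_b_rc_9_2 lc_b_rc_6_1 lc_b_rc_10_2 lc_b_rc_6_1 lc_b_rc_8_2 lc_b_rc_7_0 lc_b_rc_1_3 lc_b_rc_8_2 lc_b_rc_9_2 lc_b_rc_8_2 lc_b_rc_26_5 lc_b_rc_9_2 lc_b_rc_9_2 lc_b_rc_8_2 lc_b_rc_8_2 lc_b_rc_7_2 lc_b_rc_6_1 lc_b_rc_8_2 lc_b_rc_8_2 lc_b_rc_6_1 lc_b_rc_9_2 lc_b_rc_26_5 lc_b_rc_9_2 lc_b_rc_6_1 lc_b_rc_8_2 lc_b_rc_8_2 lc_b_rc_8_0 lc_b_rc_10_2 lc_b_rc_7_0 lc_b_rc_8_2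 lc_b_rc_7_2 lc_b_rc_9_2 lc_b_rc_8_2 lc_b_rc_9_2 lc_b_rc_9_2 lc_b_rc_6_1 lc_b_rc_25_4 lc_b_rc_8_2) (@D3.rec (fun _ => (Cert rels S Gen.b)) lc_b_rc_9_2 lc_b_rc_10_2 lc_b_rc_8_0 lc_b_rc_26_1 lc_b_rc_8_2 lc_b_rc_8_2 lc_b_rc_9_2 lc_b_rc_8_2 lc_b_rc_6_1 lc_b_rc_26_5 lc_b_rc_8_0 lc_b_rc_9_2 lc_b_rc_6_1 lc_b_rc_8_2 lc_b_rc_8_2 lc_b_rc_9_2 lc_b_rc_9_2 lc_b_rc_6_1 lc_b_rc_26_5 lc_b_rc_9_2 lc_b_rc_8_2 lc_b_rc_9_2 lc_b_rc_26_5 lc_b_rc_26_1 lc_b_rc_9_2 lc_b_rc_7_4 lc_b_rc_8_2 lc_b_rc_6_1 lc_b_rc_26_5 lc_b_rc_7_4 lc_b_rc_1_3 lc_b_rc_8_2 lc_b_rc_26_7 lc_b_rc_10_0 lc_b_rc_8_2 lc_b_rc_6_1 lc_b_rc_1_1 lc_b_rc_1_1 lc_b_rc_10_2 lc_b_rc_8_0 lc_b_rc_10_2 lc_b_rc_9_2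 lc_b_rc_9_0 lc_b_rc_8_0 lc_b_rc_9_2 lc_b_rc_8_2 lc_b_rc_1_1 lc_b_rc_6_1 lc_b_rc_10_2 lc_b_rc_8_2 lc_b_rc_7_4 lc_b_rc_8_2 lc_b_rc_8_2 lc_b_rc_8_0 lc_b_rc_8_2 lc_b_rc_26_5 lc_b_rc_8_0 lc_b_rc_25_4 lc_b_rc_7_4 lc_b_rc_10_2 lc_b_rc_8_2 lc_b_rc_9_2) (@D3.rec (fun _ => (Cert rels S Gen.b)) lc_b_rc_8_2 lc_b_rc_26_7 lc_b_rc_26_1 lc_b_rc_9_2 lc_b_rc_8_2 lc_b_rc_6_1 lc_b_rc_8_2 lc_b_rc_26_7 lc_b_rc_8_0 lc_b_rc_8_2 lc_b_rc_10_2 lc_b_rc_6_1 lc_b_rc_9_2 lc_b_rc_26_5 lc_b_rc_9_2 lc_b_rc_8_2 lc_b_rc_7_2 lc_b_rc_8_2 lc_b_rc_8_0 lc_b_rc_7_0 lc_b_rc_8_2 lc_b_rc_7_4 lc_b_rc_8_2 lc_b_rc_7_4 lc_b_rc_6_1 lc_b_rc_8_2 lc_b_rc_25_8 lc_b_rc_9_2 lc_b_rc_9_2 lc_b_rc_7_0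 lc_b_rc_6_1 lc_b_rc_26_5 lc_b_rc_7_4 lc_b_Cert_tree lc_b_rc_6_1 lc_b_rc_6_1 lc_b_rc_8_0 lc_b_rc_9_2 lc_b_rc_10_2 lc_b_rc_9_2 lc_b_rc_6_1 lc_b_rc_8_2 lc_b_rc_6_1 lc_b_rc_26_5 lc_b_rc_26_5 lc_b_rc_9_2 lc_b_rc_8_2 lc_b_rc_8_2 lc_b_rc_6_1 lc_b_rc_8_2 lc_b_rc_8_2 lc_b_rc_9_2 lc_b_rc_8_2 lc_b_rc_8_2 lc_b_rc_8_0 lc_b_rc_10_2 lc_b_rc_9_2 lc_b_rc_6_1 lc_b_rc_8_2 lc_b_rc_9_2 lc_b_rc_10_2 lc_b_rc_10_0)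
def ce_b_27 : D2 → D3 → (Cert rels S Gen.b) := @D2.rec (fun _ => D3 → (Cert rels S Gen.b)) (@D3.rec (fun _ => (Cert rels S Gen.b)) lc_b_rc_8_2 lc_b_rc_8_2 lc_b_rc_1_1 lc_b_rc_8_2 lc_b_rc_9_2 lc_b_rc_9_2 lc_b_rc_9_2 lc_b_rc_25_12 lc_b_rc_7_4 lc_b_rc_9_2 lc_b_rc_7_4 lc_b_rc_10_0 lc_b_rc_9_0 lc_b_rc_8_2 lc_b_rc_9_2 lc_b_rc_26_5 lc_b_rc_10_2 lc_b_rc_8_2 lc_b_rc_8_2 lc_b_rc_9_2 lc_b_rc_26_5 lc_b_rc_26_1 lc_b_rc_26_7 lc_b_rc_26_5 lc_b_rc_8_2 lc_b_rc_9_2 lc_b_rc_9_2 lc_b_rc_6_1 lc_b_rc_1_5 lc_b_rc_1_1 lc_b_rc_8_2 lc_b_rc_26_7 lc_b_rc_10_2 lc_b_rc_8_2 lc_b_rc_8_2 lc_b_Cert_tree lc_b_rc_9_2 lc_b_rc_6_1 lc_b_rc_6_1 lc_b_rc_9_2 lc_b_rc_6_1 lc_b_rc_8_2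 lc_b_rc_6_1 lc_b_rc_26_5 lc_b_rc_7_4 lc_b_rc_6_1 lc_b_rc_7_2 lc_b_rc_6_1 lc_b_rc_9_2 lc_b_rc_8_2 lc_b_rc_9_0 lc_b_rc_6_1 lc_b_rc_6_1 lc_b_rc_8_2 lc_b_rc_8_2 lc_b_rc_9_0 lc_b_rc_10_0 lc_b_rc_9_0 lc_b_rc_8_2 lc_b_rc_7_4 lc_b_rc_6_1 lc_b_rc_9_2) (@D3.rec (fun _ => (Cert rels S Gen.b)) lc_b_rc_8_2 lc_b_rc_9_2 lc_b_rc_1_3 lc_b_rc_26_5 lc_b_rc_8_2 lc_b_rc_9_2 lc_b_rc_8_2 lc_b_rc_26_5 lc_b_rc_8_2 lc_b_rc_1_1 lc_b_rc_6_1 lc_b_rc_8_2 lc_b_rc_6_1 lc_b_rc_8_0 lc_b_rc_6_1 lc_b_rc_8_2 lc_b_rc_1_5 lc_b_rc_9_2 lc_b_rc_7_2 lc_b_rc_9_2 lc_b_rc_9_2 lc_b_rc_6_1 lc_b_rc_6_1 lc_b_rc_1_5 lc_b_rc_26_5 lc_b_rc_7_4 lc_b_rc_6_1 lc_b_rc_7_2 lc_b_rc_6_1 lc_b_rc_1_3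 lc_b_rc_1_5 lc_b_rc_8_0 lc_b_rc_9_2 lc_b_rc_10_2 lc_b_rc_9_2 lc_b_rc_8_2 lc_b_rc_9_2 lc_b_rc_1_5 lc_b_rc_6_1 lc_b_rc_26_1 lc_b_rc_6_1 lc_b_rc_9_2 lc_b_rc_26_5 lc_b_rc_9_2 lc_b_rc_8_2 lc_b_rc_8_0 lc_b_rc_8_0 lc_b_rc_7_4 lc_b_rc_7_2 lc_b_rc_8_2 lc_b_rc_8_2 lc_b_rc_26_5 lc_b_rc_6_1 lc_b_rc_9_2 lc_b_rc_6_1 lc_b_rc_9_2 lc_b_rc_8_2 lc_b_rc_8_2 lc_b_rc_8_2 lc_b_rc_6_1 lc_b_rc_10_2 lc_b_rc_8_2) (@D3.rec (fun _ => (Cert rels S Gen.b)) lc_b_rc_1_3 lc_b_rc_9_2 lc_b_rc_1_1 lc_b_rc_1_1 lc_b_rc_1_3 lc_b_rc_8_2 lc_b_rc_9_2 lc_b_rc_9_2 lc_b_rc_8_2 lc_b_rc_6_1 lc_b_rc_8_2 lc_b_rc_8_2 lc_b_rc_26_7 lc_b_rc_9_0 lc_b_rc_9_2 lc_b_rc_6_1 lc_b_rc_8_2 lc_b_rc_9_2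 lc_b_rc_8_2 lc_b_rc_9_2 lc_b_rc_10_2 lc_b_rc_8_2 lc_b_rc_7_2 lc_b_Cert_tree lc_b_rc_26_7 lc_b_rc_8_2 lc_b_rc_6_1 lc_b_rc_6_1 lc_b_rc_8_2 lc_b_rc_8_0 lc_b_rc_1_1 lc_b_rc_26_1 lc_b_rc_9_2 lc_b_rc_9_2 lc_b_rc_10_2 lc_b_rc_8_0 lc_b_rc_7_4 lc_b_rc_8_2 lc_b_rc_26_1 lc_b_rc_26_5 lc_b_rc_8_2 lc_b_rc_26_7 lc_b_rc_26_1 lc_b_rc_6_1 lc_b_rc_6_1 lc_b_rc_8_2 lc_b_rc_1_1 lc_b_rc_26_5 lc_b_rc_8_2 lc_b_rc_9_2 lc_b_rc_6_1 lc_b_Cert_tree lc_b_rc_8_2 lc_b_rc_10_2 lc_b_rc_6_1 lc_b_rc_25_16 lc_b_rc_26_5 lc_b_rc_8_2 lc_b_Cert_tree lc_b_rc_9_2 lc_b_rc_6_1 lc_b_rc_10_2) (@D3.rec (fun _ => (Cert rels S Gen.b)) lc_b_rc_8_2 lc_b_rc_10_2 lc_b_rc_6_1 lc_b_Cert_tree lc_b_rc_25_4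 lc_b_rc_8_2 lc_b_rc_6_1 lc_b_rc_8_0 lc_b_Cert_tree lc_b_rc_9_2 lc_b_rc_8_2 lc_b_rc_7_2 lc_b_rc_6_1 lc_b_rc_9_2 lc_b_rc_6_1 lc_b_rc_9_2 lc_b_rc_9_0 lc_b_rc_6_1 lc_b_rc_8_2 lc_b_rc_9_2 lc_b_rc_9_2 lc_b_rc_6_1 lc_b_rc_6_1 lc_b_rc_8_2 lc_b_rc_8_2 lc_b_rc_8_0 lc_b_rc_6_1 lc_b_rc_6_1 lc_b_rc_6_1 lc_b_rc_6_1 lc_b_rc_10_2 lc_b_rc_1_3 lc_b_rc_9_2 lc_b_rc_6_1 lc_b_rc_26_1 lc_b_rc_26_7 lc_b_rc_6_1 lc_b_rc_9_2 lc_b_rc_10_2 lc_b_rc_9_2 lc_b_rc_8_0 lc_b_rc_6_1 lc_b_rc_9_2 lc_b_rc_7_0 lc_b_rc_6_1 lc_b_rc_7_2 lc_b_rc_6_1 lc_b_rc_7_2 lc_b_rc_8_2 lc_b_rc_6_1 lc_b_rc_26_5 lc_b_rc_6_1 lc_b_rc_1_3 lc_b_rc_9_2 lc_b_rc_26_1 lc_b_rc_1_1 lc_b_rc_7_2 lc_b_rc_6_1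 lc_b_rc_6_1 lc_b_rc_1_3 lc_b_rc_8_2 lc_b_rc_9_2) (@D3.rec (fun _ => (Cert rels S Gen.b)) lc_b_rc_6_1 lc_b_rc_8_0 lc_b_rc_9_0 lc_b_rc_9_0 lc_b_rc_6_1 lc_b_rc_26_1 lc_b_rc_9_0 lc_b_rc_7_2 lc_b_rc_8_2 lc_b_rc_26_1 lc_b_rc_6_1 lc_b_rc_26_5 lc_b_rc_6_1 lc_b_rc_26_7 lc_b_rc_7_4 lc_b_rc_6_1 lc_b_rc_1_1 lc_b_rc_9_2 lc_b_rc_7_0 lc_b_rc_8_0 lc_b_rc_6_1 lc_b_rc_8_0 lc_b_rc_9_0 lc_b_rc_8_2 lc_b_rc_8_2 lc_b_rc_6_1 lc_b_rc_8_0 lc_b_rc_1_3 lc_b_rc_9_2 lc_b_rc_8_2 lc_b_rc_6_1 lc_b_rc_1_3 lc_b_rc_9_2 lc_b_rc_7_4 lc_b_rc_9_2 lc_b_rc_8_2 lc_b_rc_26_7 lc_b_rc_25_4 lc_b_rc_9_2 lc_b_rc_9_2 lc_b_rc_6_1 lc_b_rc_26_1 lc_b_rc_6_1 lc_b_rc_6_1 lc_b_rc_9_0 lc_b_rc_8_2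 lc_b_rc_25_4 lc_b_rc_6_1 lc_b_rc_7_2 lc_b_rc_25_0 lc_b_rc_7_0 lc_b_rc_26_5 lc_b_rc_26_5 lc_b_rc_1_3 lc_b_rc_8_2 lc_b_rc_1_3 lc_b_rc_26_5 lc_b_rc_8_2 lc_b_rc_9_2 lc_b_rc_25_0 lc_b_rc_8_2 lc_b_rc_26_7) (@D3.rec (fun _ => (Cert rels S Gen.b)) lc_b_rc_9_2 lc_b_rc_7_4 lc_b_rc_6_1 lc_b_rc_7_4 lc_b_rc_6_1 lc_b_rc_26_5 lc_b_rc_1_3 lc_b_rc_10_2 lc_b_rc_7_2 lc_b_rc_8_2 lc_b_rc_9_2 lc_b_rc_26_1 lc_b_rc_6_1 lc_b_rc_9_2 lc_b_rc_7_2 lc_b_rc_8_2 lc_b_rc_9_2 lc_b_rc_26_5 lc_b_rc_6_1 lc_b_rc_8_2 lc_b_rc_6_1 lc_b_rc_1_1 lc_b_rc_9_2 lc_b_rc_26_7 lc_b_rc_26_7 lc_b_rc_8_2 lc_b_rc_8_2 lc_b_rc_26_7 lc_b_rc_9_0 lc_b_rc_6_1 lc_b_rc_8_2 lc_b_rc_9_2 lc_b_rc_9_2 lc_b_rc_10_2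 lc_b_rc_9_2 lc_b_rc_10_2 lc_b_rc_8_2 lc_b_rc_8_0 lc_b_rc_6_1 lc_b_rc_6_1 lc_b_rc_10_2 lc_b_rc_8_2 lc_b_rc_1_1 lc_b_rc_9_2 lc_b_rc_6_1 lc_b_rc_6_1 lc_b_rc_7_2 lc_b_rc_7_2 lc_b_rc_8_2 lc_b_rc_10_0 lc_b_rc_7_2 lc_b_rc_26_5 lc_b_rc_7_4 lc_b_rc_1_3 lc_b_rc_1_3 lc_b_rc_9_2 lc_b_rc_9_2 lc_b_rc_6_1 lc_b_rc_8_0 lc_b_rc_26_5 lc_b_rc_26_1 lc_b_rc_7_4) (@D3.rec (fun _ => (Cert rels S Gen.b)) lc_b_rc_8_0 lc_b_rc_26_5 lc_b_rc_8_2 lc_b_rc_1_3 lc_b_rc_26_1 lc_b_rc_8_2 lc_b_rc_26_5 lc_b_rc_8_2 lc_b_rc_6_1 lc_b_rc_8_2 lc_b_rc_6_1 lc_b_rc_8_2 lc_b_rc_6_1 lc_b_rc_6_1 lc_b_rc_26_5 lc_b_Cert_tree lc_b_rc_1_3 lc_b_rc_8_2 lc_b_rc_26_7 lc_b_rc_6_1 lc_b_rc_8_0 lc_b_rc_6_1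 lc_b_rc_9_2 lc_b_rc_8_2 lc_b_rc_26_5 lc_b_rc_6_1 lc_b_rc_8_2 lc_b_rc_8_2 lc_b_rc_9_2 lc_b_rc_6_1 lc_b_rc_10_2 lc_b_rc_6_1 lc_b_rc_6_1 lc_b_rc_8_2 lc_b_rc_8_2 lc_b_rc_9_2 lc_b_rc_6_1 lc_b_rc_8_2 lc_b_rc_6_1 lc_b_rc_25_4 lc_b_rc_1_3 lc_b_rc_6_1 lc_b_rc_9_2 lc_b_rc_9_2 lc_b_rc_9_2 lc_b_rc_9_2 lc_b_Cert_tree lc_b_rc_9_2 lc_b_Cert_tree lc_b_rc_6_1 lc_b_rc_6_1 lc_b_rc_10_2 lc_b_rc_25_8 lc_b_Cert_tree lc_b_rc_7_4 lc_b_rc_9_2 lc_b_rc_6_1 lc_b_rc_26_5 lc_b_rc_10_2 lc_b_rc_8_0 lc_b_rc_9_2 lc_b_rc_6_1) (@D3.rec (fun _ => (Cert rels S Gen.b)) lc_b_rc_1_5 lc_b_rc_9_2 lc_b_rc_10_0 lc_b_Cert_tree lc_b_rc_9_2 lc_b_rc_6_1 lc_b_rc_8_2 lc_b_rc_6_1 lc_b_rc_9_2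 lc_b_rc_1_3 lc_b_rc_7_0 lc_b_rc_8_2 lc_b_rc_6_1 lc_b_rc_7_4 lc_b_rc_6_1 lc_b_rc_9_2 lc_b_rc_9_2 lc_b_rc_8_2 lc_b_rc_1_3 lc_b_rc_1_3 lc_b_rc_8_2 lc_b_rc_6_1 lc_b_Cert_tree lc_b_rc_9_2 lc_b_rc_6_1 lc_b_rc_6_1 lc_b_rc_9_2 lc_b_rc_10_2 lc_b_rc_26_5 lc_b_rc_8_2 lc_b_rc_1_1 lc_b_rc_6_1 lc_b_Cert_tree lc_b_rc_9_2 lc_b_rc_7_2 lc_b_rc_6_1 lc_b_rc_26_5 lc_b_rc_6_1 lc_b_rc_6_1 lc_b_rc_1_3 lc_b_rc_8_2 lc_b_rc_10_2 lc_b_rc_26_7 lc_b_rc_9_2 lc_b_rc_6_1 lc_b_rc_9_2 lc_b_rc_8_2 lc_b_rc_6_1 lc_b_rc_26_5 lc_b_rc_8_2 lc_b_rc_6_1 lc_b_rc_8_2 lc_b_rc_8_2 lc_b_rc_8_2 lc_b_rc_7_4 lc_b_rc_9_2 lc_b_rc_8_2 lc_b_rc_10_2 lc_b_rc_8_2 lc_b_rc_10_0 lc_b_rc_8_2 lc_b_rc_8_2)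 (@D3.rec (fun _ => (Cert rels S Gen.b)) lc_b_rc_9_2 lc_b_rc_6_1 lc_b_rc_6_1 lc_b_rc_9_2 lc_b_rc_6_1 lc_b_rc_8_0 lc_b_rc_6_1 lc_b_rc_1_3 lc_b_rc_26_5 lc_b_rc_8_2 lc_b_rc_1_5 lc_b_rc_7_2 lc_b_rc_6_1 lc_b_rc_8_2 lc_b_rc_9_2 lc_b_rc_10_2 lc_b_rc_26_7 lc_b_rc_6_1 lc_b_rc_9_0 lc_b_rc_7_2 lc_b_rc_10_2 lc_b_rc_8_0 lc_b_rc_7_4 lc_b_rc_8_2 lc_b_rc_9_2 lc_b_rc_26_7 lc_b_rc_9_2 lc_b_rc_6_1 lc_b_rc_9_0 lc_b_rc_8_0 lc_b_rc_25_8 lc_b_rc_9_2 lc_b_rc_7_0 lc_b_rc_26_1 lc_b_rc_8_2 lc_b_rc_10_2 lc_b_rc_8_2 lc_b_rc_26_7 lc_b_rc_8_2 lc_b_rc_10_2 lc_b_rc_10_2 lc_b_rc_26_5 lc_b_rc_8_2 lc_b_rc_8_2 lc_b_rc_6_1 lc_b_rc_7_2 lc_b_rc_26_7 lc_b_rc_8_2 lc_b_rc_6_1 lc_b_rc_8_2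 lc_b_rc_6_1 lc_b_rc_6_1 lc_b_rc_7_0 lc_b_Cert_tree lc_b_Cert_tree lc_b_rc_26_1 lc_b_rc_6_1 lc_b_rc_9_2 lc_b_rc_6_1 lc_b_rc_6_1 lc_b_rc_9_0 lc_b_rc_1_3) (@D3.rec (fun _ => (Cert rels S Gen.b)) lc_b_rc_9_2 lc_b_rc_8_2 lc_b_rc_8_2 lc_b_rc_8_2 lc_b_rc_8_2 lc_b_rc_10_0 lc_b_rc_8_2 lc_b_rc_9_2 lc_b_rc_6_1 lc_b_rc_6_1 lc_b_rc_1_3 lc_b_rc_8_2 lc_b_rc_8_2 lc_b_rc_9_2 lc_b_rc_26_5 lc_b_rc_8_2 lc_b_rc_8_2 lc_b_rc_6_1 lc_b_rc_6_1 lc_b_rc_26_1 lc_b_rc_8_2 lc_b_rc_8_2 lc_b_rc_8_0 lc_b_rc_6_1 lc_b_rc_26_7 lc_b_rc_8_2 lc_b_rc_10_2 lc_b_rc_10_0 lc_b_rc_10_2 lc_b_rc_8_2 lc_b_rc_10_2 lc_b_rc_7_4 lc_b_rc_1_1 lc_b_rc_6_1 lc_b_rc_9_2 lc_b_rc_6_1 lc_b_rc_26_1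 lc_b_rc_10_2 lc_b_rc_8_2 lc_b_rc_25_4 lc_b_rc_9_2 lc_b_rc_6_1 lc_b_rc_9_0 lc_b_rc_9_2 lc_b_rc_6_1 lc_b_rc_6_1 lc_b_rc_8_0 lc_b_rc_9_2 lc_b_rc_7_2 lc_b_rc_26_7 lc_b_rc_6_1 lc_b_rc_8_2 lc_b_rc_8_2 lc_b_rc_9_2 lc_b_rc_6_1 lc_b_rc_10_2 lc_b_rc_10_2 lc_b_rc_6_1 lc_b_rc_26_1 lc_b_rc_8_2 lc_b_rc_26_1 lc_b_rc_9_2) (@D3.rec (fun _ => (Cert rels S Gen.b)) lc_b_rc_6_1 lc_b_rc_6_1 lc_b_rc_9_2 lc_b_rc_6_1 lc_b_rc_8_2 lc_b_rc_10_2 lc_b_rc_9_0 lc_b_rc_9_2 lc_b_rc_6_1 lc_b_rc_1_3 lc_b_rc_7_2 lc_b_rc_8_2 lc_b_rc_6_1 lc_b_rc_1_3 lc_b_rc_6_1 lc_b_rc_8_2 lc_b_rc_9_2 lc_b_rc_8_2 lc_b_rc_6_1 lc_b_rc_26_1 lc_b_rc_7_0 lc_b_rc_6_1 lc_b_rc_8_0 lc_b_rc_8_2 lc_b_rc_9_2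 lc_b_rc_26_7 lc_b_rc_6_1 lc_b_rc_6_1 lc_b_rc_26_1 lc_b_rc_8_2 lc_b_rc_9_2 lc_b_rc_8_0 lc_b_rc_6_1 lc_b_rc_8_0 lc_b_rc_8_0 lc_b_rc_8_2 lc_b_rc_26_5 lc_b_rc_8_2 lc_b_rc_8_2 lc_b_rc_8_0 lc_b_rc_9_2 lc_b_rc_26_5 lc_b_rc_8_2 lc_b_rc_9_2 lc_b_rc_9_2 lc_b_rc_9_2 lc_b_rc_6_1 lc_b_rc_26_1 lc_b_rc_25_8 lc_b_rc_6_1 lc_b_rc_10_0 lc_b_rc_7_4 lc_b_rc_10_2 lc_b_rc_10_2 lc_b_rc_10_0 lc_b_rc_8_2 lc_b_rc_26_5 lc_b_rc_9_2 lc_b_rc_9_2 lc_b_rc_6_1 lc_b_rc_6_1 lc_b_rc_1_3) (@D3.rec (fun _ => (Cert rels S Gen.b)) lc_b_rc_8_2 lc_b_rc_6_1 lc_b_rc_6_1 lc_b_rc_9_0 lc_b_rc_1_1 lc_b_rc_6_1 lc_b_rc_8_2 lc_b_rc_7_0 lc_b_rc_1_3 lc_b_rc_8_2 lc_b_Cert_tree lc_b_rc_8_2 lc_b_rc_6_1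 lc_b_rc_7_4 lc_b_rc_6_1 lc_b_rc_8_2 lc_b_rc_9_2 lc_b_rc_26_1 lc_b_rc_9_2 lc_b_rc_9_2 lc_b_rc_9_0 lc_b_rc_8_2 lc_b_rc_1_3 lc_b_rc_6_1 lc_b_rc_6_1 lc_b_rc_8_2 lc_b_rc_9_2 lc_b_rc_8_2 lc_b_rc_7_0 lc_b_rc_7_4 lc_b_rc_8_2 lc_b_rc_10_2 lc_b_rc_26_5 lc_b_rc_8_0 lc_b_rc_7_2 lc_b_rc_6_1 lc_b_rc_26_5 lc_b_rc_8_2 lc_b_rc_6_1 lc_b_rc_8_2 lc_b_rc_8_2 lc_b_rc_8_2 lc_b_rc_8_0 lc_b_rc_7_4 lc_b_rc_8_2 lc_b_rc_6_1 lc_b_rc_10_2 lc_b_rc_8_2 lc_b_rc_26_5 lc_b_rc_8_2 lc_b_rc_10_0 lc_b_rc_9_2 lc_b_rc_25_0 lc_b_rc_26_5 lc_b_rc_8_2 lc_b_rc_26_7 lc_b_rc_26_7 lc_b_rc_8_2 lc_b_rc_9_2 lc_b_rc_26_1 lc_b_rc_8_0 lc_b_Cert_tree) (@D3.rec (fun _ => (Cert rels S Gen.b)) lc_b_rc_9_2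 lc_b_rc_6_1 lc_b_rc_8_2 lc_b_rc_8_0 lc_b_rc_8_2 lc_b_rc_9_2 lc_b_rc_7_2 lc_b_rc_7_4 lc_b_rc_8_2 lc_b_rc_7_4 lc_b_rc_9_2 lc_b_rc_8_2 lc_b_rc_9_2 lc_b_rc_1_5 lc_b_rc_7_0 lc_b_rc_7_2 lc_b_rc_8_2 lc_b_rc_6_1 lc_b_rc_9_2 lc_b_rc_8_2 lc_b_rc_8_2 lc_b_rc_10_2 lc_b_rc_6_1 lc_b_rc_7_4 lc_b_rc_9_2 lc_b_rc_26_5 lc_b_rc_25_0 lc_b_rc_26_5 lc_b_rc_9_0 lc_b_rc_9_2 lc_b_rc_26_7 lc_b_rc_1_1 lc_b_rc_7_4 lc_b_rc_8_2 lc_b_rc_6_1 lc_b_rc_7_4 lc_b_rc_6_1 lc_b_rc_8_2 lc_b_rc_7_4 lc_b_rc_8_2 lc_b_rc_1_3 lc_b_rc_8_2 lc_b_rc_9_2 lc_b_rc_8_2 lc_b_rc_8_0 lc_b_Cert_tree lc_b_rc_10_0 lc_b_rc_10_2 lc_b_rc_26_5 lc_b_rc_6_1 lc_b_rc_26_5 lc_b_rc_26_1 lc_b_rc_8_2 lc_b_rc_7_0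 lc_b_rc_6_1 lc_b_rc_8_0 lc_b_rc_7_4 lc_b_rc_7_2 lc_b_rc_7_2 lc_b_rc_8_2 lc_b_rc_9_0 lc_b_rc_6_1) (@D3.rec (fun _ => (Cert rels S Gen.b)) lc_b_rc_1_1 lc_b_rc_6_1 lc_b_rc_8_2 lc_b_rc_10_2 lc_b_rc_9_2 lc_b_rc_9_2 lc_b_rc_8_2 lc_b_rc_26_1 lc_b_rc_7_2 lc_b_rc_7_0 lc_b_rc_8_0 lc_b_rc_26_5 lc_b_rc_1_5 lc_b_rc_10_2 lc_b_rc_8_0 lc_b_rc_8_2 lc_b_rc_10_0 lc_b_rc_8_2 lc_b_rc_10_2 lc_b_rc_10_0 lc_b_rc_6_1 lc_b_rc_8_2 lc_b_rc_7_0 lc_b_rc_6_1 lc_b_rc_1_5 lc_b_rc_7_4 lc_b_rc_26_1 lc_b_rc_26_7 lc_b_rc_8_2 lc_b_rc_25_16 lc_b_rc_10_2 lc_b_rc_7_0 lc_b_rc_7_2 lc_b_rc_7_4 lc_b_rc_26_5 lc_b_rc_8_2 lc_b_rc_8_2 lc_b_rc_6_1 lc_b_rc_26_5 lc_b_rc_1_5 lc_b_rc_8_2 lc_b_Cert_tree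 lc_b_rc_6_1 lc_b_rc_9_2 lc_b_rc_26_5 lc_b_rc_9_2 lc_b_rc_26_5 lc_b_rc_9_0 lc_b_rc_8_2 lc_b_rc_7_4 lc_b_rc_8_2 lc_b_rc_8_2 lc_b_rc_6_1 lc_b_rc_10_2 lc_b_rc_1_5 lc_b_rc_7_4 lc_b_rc_26_7 lc_b_rc_10_2 lc_b_rc_7_4 lc_b_rc_9_2 lc_b_rc_6_1 lc_b_Cert_tree) (@D3.rec (fun _ => (Cert rels S Gen.b)) lc_b_rc_9_2 lc_b_Cert_tree lc_b_rc_7_4 lc_b_rc_26_5 lc_b_rc_25_4 lc_b_rc_26_1 lc_b_rc_7_4 lc_b_rc_1_5 lc_b_rc_9_2 lc_b_rc_6_1 lc_b_rc_7_2 lc_b_rc_10_2 lc_b_rc_6_1 lc_b_Cert_tree lc_b_rc_25_0 lc_b_rc_6_1 lc_b_rc_10_2 lc_b_rc_8_2 lc_b_rc_7_0 lc_b_rc_9_0 lc_b_rc_26_1 lc_b_rc_8_2 lc_b_rc_6_1 lc_b_rc_6_1 lc_b_rc_9_2 lc_b_Cert_tree lc_b_rc_9_2 lc_b_rc_10_2 lc_b_rc_9_0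 lc_b_rc_8_2 lc_b_rc_9_2 lc_b_rc_9_2 lc_b_rc_6_1 lc_b_rc_1_1 lc_b_rc_10_2 lc_b_rc_26_5 lc_b_rc_9_2 lc_b_rc_9_2 lc_b_rc_26_7 lc_b_rc_9_0 lc_b_rc_8_2 lc_b_rc_8_0 lc_b_rc_6_1 lc_b_rc_9_2 lc_b_rc_7_4 lc_b_rc_7_4 lc_b_rc_7_4 lc_b_rc_10_2 lc_b_rc_6_1 lc_b_rc_26_1 lc_b_rc_7_4 lc_b_rc_9_2 lc_b_rc_6_1 lc_b_rc_9_2 lc_b_rc_9_0 lc_b_rc_8_0 lc_b_rc_8_2 lc_b_rc_10_2 lc_b_rc_8_0 lc_b_rc_26_1 lc_b_rc_6_1 lc_b_rc_9_2) (@D3.rec (fun _ => (Cert rels S Gen.b)) lc_b_rc_26_5 lc_b_rc_9_2 lc_b_rc_26_5 lc_b_rc_8_0 lc_b_rc_6_1 lc_b_rc_9_2 lc_b_rc_8_2 lc_b_rc_8_0 lc_b_rc_8_2 lc_b_rc_10_2 lc_b_rc_25_4 lc_b_rc_8_0 lc_b_rc_9_2 lc_b_rc_26_5 lc_b_rc_26_5 lc_b_rc_8_2 lc_b_rc_9_0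 lc_b_rc_7_0 lc_b_rc_6_1 lc_b_Cert_tree lc_b_rc_6_1 lc_b_rc_10_2 lc_b_rc_9_2 lc_b_rc_6_1 lc_b_rc_10_2 lc_b_rc_6_1 lc_b_rc_9_2 lc_b_rc_7_4 lc_b_rc_26_1 lc_b_rc_25_0 lc_b_rc_6_1 lc_b_rc_6_1 lc_b_rc_26_5 lc_b_rc_26_5 lc_b_rc_9_2 lc_b_rc_26_7 lc_b_rc_10_0 lc_b_rc_26_7 lc_b_rc_8_2 lc_b_rc_6_1 lc_b_rc_1_5 lc_b_rc_8_2 lc_b_rc_26_1 lc_b_Cert_tree lc_b_rc_7_4 lc_b_rc_25_0 lc_b_rc_26_1 lc_b_rc_8_2 lc_b_rc_10_2 lc_b_rc_6_1 lc_b_rc_9_0 lc_b_rc_26_7 lc_b_rc_7_2 lc_b_rc_1_3 lc_b_rc_6_1 lc_b_rc_7_2 lc_b_rc_9_2 lc_b_rc_9_2 lc_b_rc_8_0 lc_b_rc_9_2 lc_b_rc_6_1 lc_b_rc_26_5) (@D3.rec (fun _ => (Cert rels S Gen.b)) lc_b_rc_6_1 lc_b_rc_26_5 lc_b_rc_6_1 lc_b_rc_26_5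 lc_b_rc_6_1 lc_b_Cert_tree lc_b_rc_9_2 lc_b_rc_8_2 lc_b_rc_6_1 lc_b_rc_6_1 lc_b_rc_7_4 lc_b_rc_10_2 lc_b_rc_26_1 lc_b_rc_6_1 lc_b_rc_8_2 lc_b_Cert_tree lc_b_rc_9_2 lc_b_rc_6_1 lc_b_rc_1_3 lc_b_rc_8_2 lc_b_rc_9_2 lc_b_rc_6_1 lc_b_rc_6_1 lc_b_rc_8_0 lc_b_rc_1_3 lc_b_rc_6_1 lc_b_rc_6_1 lc_b_rc_26_5 lc_b_rc_6_1 lc_b_rc_26_7 lc_b_rc_9_2 lc_b_rc_25_16 lc_b_rc_25_0 lc_b_rc_1_3 lc_b_rc_9_2 lc_b_rc_6_1 lc_b_rc_8_2 lc_b_rc_26_5 lc_b_rc_6_1 lc_b_rc_6_1 lc_b_rc_6_1 lc_b_rc_1_5 lc_b_rc_7_2 lc_b_rc_1_1 lc_b_rc_6_1 lc_b_rc_7_2 lc_b_rc_6_1 lc_b_rc_6_1 lc_b_rc_8_2 lc_b_rc_10_2 lc_b_rc_9_0 lc_b_rc_6_1 lc_b_Cert_tree lc_b_rc_8_2 lc_b_rc_6_1 lc_b_rc_6_1 lc_b_rc_9_2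 lc_b_rc_6_1 lc_b_rc_6_1 lc_b_rc_10_2 lc_b_rc_9_2 lc_b_rc_6_1) (@D3.rec (fun _ => (Cert rels S Gen.b)) lc_b_rc_6_1 lc_b_rc_9_0 lc_b_rc_1_3 lc_b_rc_1_5 lc_b_rc_8_2 lc_b_rc_6_1 lc_b_rc_8_2 lc_b_Cert_tree lc_b_rc_6_1 lc_b_rc_6_1 lc_b_rc_7_4 lc_b_rc_6_1 lc_b_rc_8_2 lc_b_rc_6_1 lc_b_rc_8_0 lc_b_rc_1_3 lc_b_rc_8_2 lc_b_rc_6_1 lc_b_rc_7_4 lc_b_rc_1_3 lc_b_rc_8_2 lc_b_rc_10_2 lc_b_rc_26_5 lc_b_rc_7_0 lc_b_rc_9_2 lc_b_rc_8_2 lc_b_rc_7_0 lc_b_rc_8_2 lc_b_rc_26_1 lc_b_rc_9_2 lc_b_rc_6_1 lc_b_rc_25_4 lc_b_rc_26_1 lc_b_rc_6_1 lc_b_rc_25_4 lc_b_rc_26_5 lc_b_rc_9_2 lc_b_rc_6_1 lc_b_rc_25_4 lc_b_rc_8_2 lc_b_rc_26_1 lc_b_rc_8_2 lc_b_rc_9_2 lc_b_rc_6_1 lc_b_Cert_tree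 lc_b_rc_6_1 lc_b_rc_8_0 lc_b_rc_6_1 lc_b_rc_26_5 lc_b_rc_8_2 lc_b_rc_8_2 lc_b_rc_6_1 lc_b_rc_7_2 lc_b_rc_8_2 lc_b_rc_8_2 lc_b_rc_1_3 lc_b_rc_9_0 lc_b_rc_8_0 lc_b_rc_7_2 lc_b_rc_9_2 lc_b_rc_6_1 lc_b_rc_1_5) (@D3.rec (fun _ => (Cert rels S Gen.b)) lc_b_rc_1_3 lc_b_rc_7_4 lc_b_rc_9_2 lc_b_rc_7_0 lc_b_rc_6_1 lc_b_rc_8_2 lc_b_rc_8_2 lc_b_rc_25_0 lc_b_rc_8_0 lc_b_rc_6_1 lc_b_rc_7_4 lc_b_rc_9_2 lc_b_rc_8_2 lc_b_rc_6_1 lc_b_rc_7_2 lc_b_rc_1_3 lc_b_Cert_tree lc_b_rc_6_1 lc_b_rc_7_4 lc_b_rc_9_2 lc_b_rc_26_1 lc_b_rc_8_2 lc_b_rc_8_2 lc_b_rc_25_8 lc_b_rc_9_2 lc_b_rc_8_0 lc_b_rc_9_2 lc_b_rc_8_0 lc_b_rc_9_2 lc_b_rc_8_2 lc_b_rc_10_2 lc_b_rc_6_1 lc_b_rc_26_7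 lc_b_rc_9_0 lc_b_rc_10_2 lc_b_rc_1_3 lc_b_rc_7_2 lc_b_rc_10_2 lc_b_rc_7_4 lc_b_rc_8_2 lc_b_rc_25_8 lc_b_rc_1_3 lc_b_rc_9_2 lc_b_rc_8_2 lc_b_rc_1_5 lc_b_rc_7_0 lc_b_rc_10_2 lc_b_rc_6_1 lc_b_rc_10_0 lc_b_rc_10_0 lc_b_rc_25_16 lc_b_rc_9_2 lc_b_rc_8_2 lc_b_rc_25_4 lc_b_rc_9_2 lc_b_rc_6_1 lc_b_rc_26_1 lc_b_rc_9_0 lc_b_rc_9_2 lc_b_rc_7_4 lc_b_rc_9_2 lc_b_rc_26_1) (@D3.rec (fun _ => (Cert rels S Gen.b)) lc_b_rc_8_2 lc_b_Cert_tree lc_b_rc_9_2 lc_b_rc_7_4 lc_b_rc_6_1 lc_b_rc_8_2 lc_b_rc_9_2 lc_b_rc_8_2 lc_b_rc_10_2 lc_b_rc_7_2 lc_b_rc_10_0 lc_b_rc_9_2 lc_b_rc_8_2 lc_b_rc_9_2 lc_b_rc_6_1 lc_b_rc_26_7 lc_b_rc_9_2 lc_b_rc_8_2 lc_b_rc_10_2 lc_b_rc_8_2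 lc_b_rc_6_1 lc_b_rc_8_2 lc_b_rc_8_2 lc_b_rc_8_2 lc_b_rc_8_0 lc_b_rc_6_1 lc_b_rc_7_2 lc_b_rc_8_0 lc_b_rc_1_1 lc_b_rc_10_2 lc_b_rc_6_1 lc_b_rc_6_1 lc_b_rc_9_0 lc_b_rc_8_2 lc_b_rc_7_2 lc_b_rc_9_2 lc_b_rc_9_2 lc_b_rc_8_2 lc_b_rc_10_0 lc_b_rc_1_1 lc_b_rc_8_2 lc_b_rc_8_2 lc_b_rc_1_5 lc_b_rc_6_1 lc_b_rc_9_2 lc_b_rc_9_0 lc_b_rc_8_2 lc_b_rc_26_1 lc_b_rc_9_2 lc_b_rc_25_4 lc_b_rc_26_5 lc_b_rc_6_1 lc_b_rc_25_0 lc_b_rc_6_1 lc_b_rc_26_5 lc_b_rc_26_1 lc_b_rc_1_5 lc_b_rc_10_2 lc_b_rc_6_1 lc_b_rc_6_1 lc_b_rc_9_0 lc_b_rc_9_2) (@D3.rec (fun _ => (Cert rels S Gen.b)) lc_b_rc_9_2 lc_b_rc_7_0 lc_b_rc_7_2 lc_b_rc_9_2 lc_b_rc_25_0 lc_b_rc_6_1 lc_b_rc_8_2 lc_b_rc_26_5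 lc_b_rc_25_0 lc_b_rc_1_3 lc_b_rc_8_2 lc_b_rc_10_2 lc_b_rc_6_1 lc_b_rc_8_0 lc_b_rc_26_7 lc_b_rc_8_2 lc_b_rc_6_1 lc_b_rc_1_5 lc_b_rc_1_5 lc_b_rc_9_2 lc_b_rc_8_2 lc_b_rc_7_0 lc_b_rc_7_2 lc_b_rc_26_5 lc_b_rc_9_0 lc_b_rc_1_3 lc_b_rc_8_0 lc_b_rc_10_0 lc_b_rc_9_2 lc_b_rc_9_2 lc_b_rc_9_2 lc_b_rc_26_7 lc_b_rc_25_0 lc_b_rc_6_1 lc_b_rc_8_2 lc_b_rc_9_2 lc_b_rc_6_1 lc_b_rc_10_0 lc_b_rc_8_2 lc_b_rc_9_2 lc_b_rc_26_1 lc_b_rc_8_2 lc_b_rc_6_1 lc_b_rc_8_0 lc_b_rc_1_5 lc_b_rc_6_1 lc_b_rc_26_7 lc_b_rc_7_4 lc_b_rc_8_2 lc_b_rc_9_2 lc_b_rc_26_1 lc_b_rc_7_2 lc_b_rc_10_0 lc_b_rc_6_1 lc_b_rc_26_1 lc_b_rc_26_5 lc_b_rc_9_0 lc_b_rc_26_1 lc_b_rc_8_2 lc_b_rc_8_2 lc_b_rc_8_0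 lc_b_rc_8_2) (@D3.rec (fun _ => (Cert rels S Gen.b)) lc_b_rc_8_2 lc_b_rc_8_0 lc_b_rc_8_0 lc_b_rc_8_2 lc_b_rc_7_0 lc_b_rc_9_2 lc_b_rc_8_2 lc_b_rc_7_0 lc_b_rc_8_2 lc_b_rc_26_5 lc_b_rc_10_0 lc_b_rc_8_2 lc_b_rc_8_2 lc_b_rc_6_1 lc_b_rc_6_1 lc_b_rc_6_1 lc_b_rc_8_2 lc_b_rc_9_2 lc_b_rc_9_2 lc_b_rc_8_2 lc_b_rc_6_1 lc_b_rc_7_2 lc_b_rc_8_2 lc_b_rc_8_2 lc_b_rc_8_0 lc_b_rc_9_2 lc_b_rc_10_2 lc_b_rc_26_5 lc_b_rc_7_0 lc_b_rc_8_2 lc_b_rc_9_2 lc_b_rc_6_1 lc_b_rc_10_0 lc_b_rc_10_2 lc_b_rc_25_4 lc_b_rc_1_3 lc_b_rc_6_1 lc_b_rc_9_2 lc_b_rc_8_2 lc_b_rc_9_2 lc_b_rc_8_2 lc_b_rc_9_2 lc_b_rc_26_5 lc_b_rc_8_2 lc_b_rc_26_5 lc_b_rc_8_2 lc_b_rc_9_2 lc_b_rc_1_1 lc_b_rc_26_7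 lc_b_rc_9_2 lc_b_rc_25_0 lc_b_rc_8_2 lc_b_rc_9_2 lc_b_rc_10_0 lc_b_rc_6_1 lc_b_rc_8_0 lc_b_rc_9_2 lc_b_rc_8_2 lc_b_rc_9_2 lc_b_rc_6_1 lc_b_rc_9_2 lc_b_rc_6_1) (@D3.rec (fun _ => (Cert rels S Gen.b)) lc_b_rc_26_7 lc_b_rc_8_0 lc_b_rc_6_1 lc_b_rc_6_1 lc_b_rc_1_5 lc_b_rc_6_1 lc_b_rc_8_0 lc_b_rc_7_4 lc_b_rc_6_1 lc_b_rc_8_0 lc_b_rc_10_0 lc_b_rc_6_1 lc_b_rc_7_4 lc_b_rc_8_2 lc_b_rc_7_4 lc_b_rc_8_0 lc_b_rc_8_2 lc_b_rc_26_7 lc_b_rc_7_4 lc_b_rc_8_2 lc_b_rc_6_1 lc_b_rc_9_2 lc_b_rc_6_1 lc_b_rc_6_1 lc_b_rc_26_5 lc_b_rc_9_2 lc_b_rc_6_1 lc_b_rc_1_5 lc_b_rc_9_2 lc_b_rc_8_2 lc_b_rc_9_2 lc_b_rc_25_0 lc_b_rc_9_2 lc_b_rc_6_1 lc_b_rc_26_5 lc_b_rc_8_2 lc_b_rc_9_0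 lc_b_rc_7_0 lc_b_rc_8_2 lc_b_rc_10_2 lc_b_rc_6_1 lc_b_rc_6_1 lc_b_rc_8_2 lc_b_rc_6_1 lc_b_rc_7_4 lc_b_rc_10_2 lc_b_rc_26_7 lc_b_rc_9_2 lc_b_rc_26_5 lc_b_rc_6_1 lc_b_rc_8_0 lc_b_rc_26_1 lc_b_rc_26_1 lc_b_rc_26_7 lc_b_rc_25_12 lc_b_rc_9_2 lc_b_rc_8_2 lc_b_rc_6_1 lc_b_rc_9_2 lc_b_rc_26_5 lc_b_rc_1_3 lc_b_rc_1_3) (@D3.rec (fun _ => (Cert rels S Gen.b)) lc_b_rc_7_4 lc_b_rc_6_1 lc_b_rc_26_5 lc_b_rc_26_5 lc_b_rc_6_1 lc_b_rc_26_5 lc_b_rc_8_2 lc_b_rc_26_1 lc_b_rc_26_1 lc_b_rc_6_1 lc_b_rc_8_2 lc_b_rc_1_5 lc_b_rc_26_7 lc_b_rc_6_1 lc_b_rc_8_2 lc_b_rc_26_7 lc_b_rc_6_1 lc_b_rc_26_7 lc_b_rc_26_5 lc_b_rc_26_1 lc_b_rc_9_0 lc_b_rc_9_0 lc_b_rc_9_0 lc_b_rc_26_5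 lc_b_rc_8_2 lc_b_rc_26_5 lc_b_rc_26_5 lc_b_rc_26_7 lc_b_Cert_tree lc_b_rc_7_4 lc_b_rc_8_2 lc_b_rc_9_2 lc_b_rc_26_5 lc_b_rc_8_2 lc_b_rc_6_1 lc_b_rc_7_0 lc_b_rc_9_0 lc_b_rc_7_4 lc_b_rc_10_2 lc_b_rc_8_2 lc_b_rc_9_2 lc_b_rc_6_1 lc_b_rc_6_1 lc_b_rc_8_2 lc_b_Cert_tree lc_b_rc_7_2 lc_b_rc_9_2 lc_b_rc_10_2 lc_b_rc_8_2 lc_b_rc_26_7 lc_b_rc_9_2 lc_b_rc_6_1 lc_b_rc_9_2 lc_b_rc_1_3 lc_b_rc_6_1 lc_b_rc_26_1 lc_b_rc_9_2 lc_b_rc_26_1 lc_b_rc_8_2 lc_b_rc_8_0 lc_b_rc_26_5 lc_b_rc_6_1) (@D3.rec (fun _ => (Cert rels S Gen.b)) lc_b_rc_25_0 lc_b_rc_8_2 lc_b_rc_7_2 lc_b_Cert_tree lc_b_rc_6_1 lc_b_rc_7_2 lc_b_rc_8_0 lc_b_rc_7_2 lc_b_rc_1_3 lc_b_rc_25_4 lc_b_rc_9_2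 lc_b_rc_6_1 lc_b_rc_9_2 lc_b_rc_26_1 lc_b_rc_26_5 lc_b_rc_6_1 lc_b_rc_8_2 lc_b_rc_6_1 lc_b_rc_1_5 lc_b_rc_1_1 lc_b_rc_8_2 lc_b_rc_10_2 lc_b_rc_1_5 lc_b_rc_8_2 lc_b_rc_8_2 lc_b_rc_10_0 lc_b_rc_10_2 lc_b_rc_6_1 lc_b_rc_6_1 lc_b_rc_7_4 lc_b_rc_6_1 lc_b_rc_26_5 lc_b_rc_26_5 lc_b_rc_7_4 lc_b_rc_7_4 lc_b_rc_8_2 lc_b_rc_8_0 lc_b_rc_6_1 lc_b_rc_8_2 lc_b_rc_8_0 lc_b_rc_7_4 lc_b_Cert_tree lc_b_rc_7_0 lc_b_rc_9_2 lc_b_rc_7_4 lc_b_rc_9_2 lc_b_rc_6_1 lc_b_rc_1_3 lc_b_rc_9_2 lc_b_rc_9_2 lc_b_rc_26_5 lc_b_rc_9_2 lc_b_rc_6_1 lc_b_rc_1_5 lc_b_rc_6_1 lc_b_rc_9_2 lc_b_rc_9_2 lc_b_rc_9_2 lc_b_rc_8_2 lc_b_rc_26_7 lc_b_rc_26_1 lc_b_rc_26_1) (@D3.rec (fun _ =>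 (Cert rels S Gen.b)) lc_b_rc_8_2 lc_b_rc_8_2 lc_b_rc_1_3 lc_b_rc_6_1 lc_b_rc_8_2 lc_b_rc_9_2 lc_b_rc_6_1 lc_b_rc_10_0 lc_b_rc_26_1 lc_b_rc_8_2 lc_b_rc_6_1 lc_b_rc_8_2 lc_b_rc_26_1 lc_b_rc_26_5 lc_b_rc_25_4 lc_b_rc_8_2 lc_b_rc_1_3 lc_b_rc_6_1 lc_b_rc_7_2 lc_b_rc_6_1 lc_b_rc_25_4 lc_b_rc_7_0 lc_b_rc_6_1 lc_b_rc_25_4 lc_b_rc_6_1 lc_b_rc_7_4 lc_b_rc_1_3 lc_b_rc_26_1 lc_b_rc_8_2 lc_b_rc_9_2 lc_b_rc_6_1 lc_b_rc_26_1 lc_b_rc_9_2 lc_b_rc_26_1 lc_b_rc_6_1 lc_b_rc_26_5 lc_b_rc_8_2 lc_b_rc_6_1 lc_b_rc_8_0 lc_b_rc_8_0 lc_b_rc_6_1 lc_b_rc_26_1 lc_b_rc_1_3 lc_b_rc_26_5 lc_b_rc_9_0 lc_b_rc_26_7 lc_b_rc_10_2 lc_b_rc_7_4 lc_b_rc_9_2 lc_b_rc_8_0 lc_b_rc_26_5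 lc_b_rc_8_0 lc_b_rc_10_2 lc_b_rc_9_2 lc_b_rc_1_1 lc_b_rc_9_2 lc_b_rc_26_5 lc_b_rc_9_2 lc_b_rc_1_5 lc_b_rc_8_2 lc_b_rc_7_0 lc_b_rc_25_0) (@D3.rec (fun _ => (Cert rels S Gen.b)) lc_b_rc_26_1 lc_b_rc_6_1 lc_b_rc_1_3 lc_b_rc_26_5 lc_b_rc_6_1 lc_b_rc_8_2 lc_b_rc_8_0 lc_b_rc_8_2 lc_b_rc_8_2 lc_b_rc_8_2 lc_b_rc_10_2 lc_b_rc_26_7 lc_b_rc_26_5 lc_b_rc_6_1 lc_b_rc_9_0 lc_b_rc_9_2 lc_b_rc_10_2 lc_b_rc_9_2 lc_b_rc_26_7 lc_b_rc_6_1 lc_b_rc_7_2 lc_b_rc_25_0 lc_b_rc_6_1 lc_b_rc_8_2 lc_b_rc_1_3 lc_b_rc_6_1 lc_b_rc_6_1 lc_b_rc_6_1 lc_b_rc_10_2 lc_b_rc_26_1 lc_b_rc_6_1 lc_b_rc_7_2 lc_b_rc_6_1 lc_b_rc_26_1 lc_b_rc_6_1 lc_b_rc_6_1 lc_b_rc_26_5 lc_b_rc_26_5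 lc_b_rc_6_1 lc_b_rc_6_1 lc_b_rc_8_2 lc_b_rc_9_2 lc_b_rc_7_2 lc_b_rc_9_2 lc_b_rc_6_1 lc_b_rc_6_1 lc_b_rc_26_5 lc_b_rc_6_1 lc_b_rc_8_0 lc_b_rc_10_2 lc_b_rc_9_2 lc_b_rc_1_5 lc_b_rc_10_2 lc_b_rc_9_2 lc_b_rc_9_2 lc_b_rc_8_2 lc_b_rc_9_2 lc_b_rc_6_1 lc_b_rc_7_4 lc_b_rc_8_2 lc_b_rc_9_2 lc_b_rc_6_1) (@D3.rec (fun _ => (Cert rels S Gen.b)) lc_b_rc_26_5 lc_b_rc_8_2 lc_b_rc_7_2 lc_b_rc_8_0 lc_b_rc_6_1 lc_b_rc_9_2 lc_b_rc_10_2 lc_b_rc_1_1 lc_b_rc_7_2 lc_b_rc_9_2 lc_b_rc_9_2 lc_b_rc_8_0 lc_b_rc_1_3 lc_b_rc_7_4 lc_b_rc_6_1 lc_b_rc_26_5 lc_b_rc_26_5 lc_b_rc_26_1 lc_b_rc_25_16 lc_b_rc_26_1 lc_b_rc_6_1 lc_b_rc_6_1 lc_b_rc_26_5 lc_b_rc_6_1 lc_b_rc_26_7 lc_b_rc_6_1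 lc_b_rc_8_0 lc_b_rc_26_7 lc_b_rc_25_0 lc_b_rc_26_1 lc_b_rc_9_2 lc_b_rc_8_2 lc_b_rc_10_2 lc_b_rc_6_1 lc_b_rc_8_0 lc_b_rc_8_2 lc_b_rc_25_16 lc_b_rc_8_2 lc_b_rc_8_2 lc_b_rc_26_5 lc_b_rc_6_1 lc_b_rc_8_0 lc_b_rc_6_1 lc_b_rc_26_7 lc_b_rc_6_1 lc_b_rc_7_2 lc_b_rc_8_0 lc_b_rc_9_2 lc_b_rc_9_2 lc_b_rc_10_2 lc_b_rc_6_1 lc_b_rc_8_2 lc_b_rc_9_2 lc_b_rc_7_4 lc_b_rc_9_2 lc_b_rc_26_1 lc_b_rc_9_2 lc_b_rc_7_4 lc_b_rc_1_3 lc_b_rc_1_1 lc_b_rc_6_1 lc_b_rc_7_2) (@D3.rec (fun _ => (Cert rels S Gen.b)) lc_b_rc_26_1 lc_b_rc_6_1 lc_b_rc_26_5 lc_b_rc_10_2 lc_b_rc_1_5 lc_b_rc_9_2 lc_b_rc_26_1 lc_b_rc_10_2 lc_b_rc_10_2 lc_b_rc_8_0 lc_b_rc_6_1 lc_b_rc_1_3 lc_b_rc_25_12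 lc_b_rc_6_1 lc_b_rc_6_1 lc_b_rc_8_2 lc_b_rc_7_2 lc_b_rc_9_2 lc_b_rc_6_1 lc_b_rc_7_2 lc_b_rc_6_1 lc_b_rc_1_3 lc_b_rc_6_1 lc_b_rc_7_2 lc_b_rc_6_1 lc_b_rc_6_1 lc_b_rc_25_4 lc_b_rc_6_1 lc_b_rc_7_2 lc_b_rc_9_2 lc_b_rc_6_1 lc_b_rc_8_2 lc_b_rc_8_2 lc_b_rc_9_2 lc_b_rc_9_2 lc_b_rc_6_1 lc_b_rc_6_1 lc_b_rc_7_2 lc_b_rc_1_1 lc_b_rc_8_2 lc_b_rc_26_1 lc_b_rc_8_2 lc_b_rc_8_2 lc_b_rc_10_2 lc_b_rc_26_1 lc_b_rc_26_1 lc_b_rc_1_3 lc_b_rc_1_3 lc_b_rc_6_1 lc_b_rc_7_2 lc_b_rc_9_2 lc_b_rc_6_1 lc_b_rc_9_0 lc_b_rc_6_1 lc_b_rc_6_1 lc_b_rc_9_0 lc_b_rc_7_2 lc_b_rc_8_2 lc_b_rc_8_0 lc_b_rc_8_2 lc_b_rc_7_0 lc_b_rc_1_1) (@D3.rec (fun _ => (Cert rels S Gen.b)) lc_b_rc_25_0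 lc_b_rc_8_2 lc_b_rc_9_2 lc_b_rc_9_2 lc_b_rc_9_2 lc_b_rc_6_1 lc_b_rc_26_7 lc_b_rc_8_0 lc_b_rc_9_0 lc_b_Cert_tree lc_b_rc_10_2 lc_b_rc_9_2 lc_b_rc_8_2 lc_b_rc_8_2 lc_b_rc_26_1 lc_b_rc_1_5 lc_b_rc_8_2 lc_b_rc_6_1 lc_b_rc_9_2 lc_b_rc_26_1 lc_b_rc_6_1 lc_b_rc_6_1 lc_b_rc_7_2 lc_b_rc_8_2 lc_b_rc_1_3 lc_b_rc_7_4 lc_b_rc_6_1 lc_b_rc_7_4 lc_b_rc_8_0 lc_b_rc_1_3 lc_b_rc_25_8 lc_b_rc_9_2 lc_b_rc_6_1 lc_b_rc_8_2 lc_b_rc_9_0 lc_b_rc_7_4 lc_b_rc_6_1 lc_b_rc_8_0 lc_b_rc_1_5 lc_b_rc_9_0 lc_b_rc_1_3 lc_b_rc_9_2 lc_b_rc_25_4 lc_b_rc_6_1 lc_b_rc_25_4 lc_b_rc_6_1 lc_b_rc_8_2 lc_b_rc_8_2 lc_b_rc_1_1 lc_b_rc_8_2 lc_b_rc_7_4 lc_b_rc_9_2 lc_b_rc_7_2 lc_b_rc_8_2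 lc_b_rc_9_2 lc_b_rc_6_1 lc_b_rc_8_0 lc_b_rc_9_2 lc_b_Cert_tree lc_b_rc_9_2 lc_b_rc_6_1 lc_b_rc_9_0) (@D3.rec (fun _ => (Cert rels S Gen.b)) lc_b_rc_9_0 lc_b_rc_26_5 lc_b_rc_6_1 lc_b_rc_6_1 lc_b_rc_10_0 lc_b_rc_7_0 lc_b_rc_8_2 lc_b_rc_9_2 lc_b_rc_8_2 lc_b_rc_10_2 lc_b_rc_9_2 lc_b_rc_8_2 lc_b_rc_9_2 lc_b_rc_25_0 lc_b_rc_8_2 lc_b_rc_10_2 lc_b_rc_6_1 lc_b_rc_26_5 lc_b_rc_6_1 lc_b_rc_7_4 lc_b_rc_6_1 lc_b_rc_6_1 lc_b_Cert_tree lc_b_rc_6_1 lc_b_rc_10_0 lc_b_rc_7_0 lc_b_rc_10_2 lc_b_rc_26_1 lc_b_rc_26_1 lc_b_rc_25_4 lc_b_rc_6_1 lc_b_rc_9_2 lc_b_rc_6_1 lc_b_rc_9_2 lc_b_rc_6_1 lc_b_rc_8_2 lc_b_rc_10_2 lc_b_rc_9_2 lc_b_rc_8_2 lc_b_rc_9_2 lc_b_rc_10_2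 lc_b_rc_26_5 lc_b_rc_9_0 lc_b_rc_25_16 lc_b_rc_8_2 lc_b_rc_8_2 lc_b_rc_25_12 lc_b_rc_6_1 lc_b_rc_9_2 lc_b_rc_1_3 lc_b_rc_8_2 lc_b_rc_6_1 lc_b_rc_8_0 lc_b_rc_9_2 lc_b_rc_8_2 lc_b_rc_10_2 lc_b_rc_8_2 lc_b_rc_25_0 lc_b_rc_7_0 lc_b_rc_6_1 lc_b_rc_1_1 lc_b_rc_9_0) (@D3.rec (fun _ => (Cert rels S Gen.b)) lc_b_rc_26_7 lc_b_rc_9_2 lc_b_rc_26_5 lc_b_rc_8_2 lc_b_rc_26_1 lc_b_rc_6_1 lc_b_rc_10_2 lc_b_rc_26_5 lc_b_rc_8_2 lc_b_rc_9_2 lc_b_rc_6_1 lc_b_rc_9_2 lc_b_rc_8_2 lc_b_rc_9_2 lc_b_rc_9_2 lc_b_rc_6_1 lc_b_rc_9_2 lc_b_rc_8_2 lc_b_rc_10_2 lc_b_rc_8_2 lc_b_rc_1_5 lc_b_rc_7_4 lc_b_rc_6_1 lc_b_rc_7_0 lc_b_rc_7_4 lc_b_rc_7_0 lc_b_rc_1_5 lc_b_rc_26_1 lc_b_rc_1_3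 lc_b_rc_26_5 lc_b_rc_25_16 lc_b_rc_1_5 lc_b_rc_25_0 lc_b_rc_6_1 lc_b_rc_6_1 lc_b_rc_6_1 lc_b_rc_26_5 lc_b_rc_6_1 lc_b_rc_26_1 lc_b_rc_26_5 lc_b_rc_9_2 lc_b_rc_9_2 lc_b_rc_8_2 lc_b_rc_9_2 lc_b_rc_8_2 lc_b_rc_6_1 lc_b_rc_26_7 lc_b_rc_1_5 lc_b_rc_9_2 lc_b_rc_9_2 lc_b_Cert_tree lc_b_rc_26_1 lc_b_rc_10_2 lc_b_rc_8_2 lc_b_rc_6_1 lc_b_rc_25_0 lc_b_rc_26_1 lc_b_rc_9_0 lc_b_rc_9_2 lc_b_rc_8_2 lc_b_rc_26_1 lc_b_rc_26_5) (@D3.rec (fun _ => (Cert rels S Gen.b)) lc_b_rc_9_2 lc_b_rc_9_2 lc_b_rc_10_0 lc_b_rc_9_2 lc_b_rc_7_4 lc_b_rc_9_2 lc_b_rc_26_5 lc_b_rc_9_2 lc_b_rc_1_3 lc_b_rc_9_2 lc_b_rc_1_1 lc_b_rc_7_4 lc_b_rc_9_0 lc_b_rc_8_0 lc_b_rc_6_1 lc_b_rc_6_1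 lc_b_rc_9_2 lc_b_rc_6_1 lc_b_rc_1_3 lc_b_rc_26_1 lc_b_rc_9_2 lc_b_rc_26_5 lc_b_rc_1_3 lc_b_rc_9_2 lc_b_rc_8_2 lc_b_rc_6_1 lc_b_rc_9_2 lc_b_rc_6_1 lc_b_Cert_tree lc_b_rc_8_2 lc_b_rc_10_2 lc_b_rc_7_4 lc_b_rc_8_2 lc_b_rc_8_2 lc_b_rc_7_0 lc_b_rc_6_1 lc_b_rc_7_0 lc_b_rc_26_5 lc_b_rc_7_0 lc_b_rc_26_7 lc_b_rc_1_5 lc_b_rc_6_1 lc_b_rc_8_2 lc_b_rc_6_1 lc_b_rc_8_2 lc_b_rc_8_0 lc_b_rc_6_1 lc_b_rc_25_4 lc_b_rc_9_2 lc_b_rc_6_1 lc_b_rc_6_1 lc_b_rc_26_7 lc_b_rc_9_2 lc_b_rc_26_1 lc_b_rc_25_4 lc_b_rc_6_1 lc_b_rc_9_2 lc_b_Cert_tree lc_b_rc_6_1 lc_b_rc_26_7 lc_b_rc_9_2 lc_b_rc_1_5) (@D3.rec (fun _ => (Cert rels S Gen.b)) lc_b_rc_8_2 lc_b_rc_9_2 lc_b_rc_9_2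 lc_b_rc_8_0 lc_b_rc_26_5 lc_b_rc_10_2 lc_b_rc_7_4 lc_b_rc_10_2 lc_b_rc_9_2 lc_b_rc_6_1 lc_b_rc_26_5 lc_b_rc_9_0 lc_b_rc_9_2 lc_b_rc_25_4 lc_b_rc_9_2 lc_b_rc_9_2 lc_b_rc_25_4 lc_b_rc_1_1 lc_b_rc_8_2 lc_b_rc_6_1 lc_b_rc_8_2 lc_b_rc_7_4 lc_b_rc_9_2 lc_b_rc_9_2 lc_b_rc_26_1 lc_b_rc_10_2 lc_b_rc_8_0 lc_b_rc_8_0 lc_b_rc_8_2 lc_b_rc_6_1 lc_b_rc_8_2 lc_b_rc_6_1 lc_b_rc_8_2 lc_b_Cert_tree lc_b_rc_6_1 lc_b_rc_7_2 lc_b_rc_6_1 lc_b_rc_10_2 lc_b_rc_9_2 lc_b_Cert_tree lc_b_rc_9_2 lc_b_rc_25_0 lc_b_rc_6_1 lc_b_rc_26_5 lc_b_rc_9_2 lc_b_rc_8_2 lc_b_rc_7_2 lc_b_rc_9_2 lc_b_rc_26_5 lc_b_rc_9_2 lc_b_rc_1_3 lc_b_rc_9_2 lc_b_rc_6_1 lc_b_rc_9_2 lc_b_rc_26_5 lc_b_rc_25_0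 lc_b_rc_7_0 lc_b_rc_9_2 lc_b_rc_7_4 lc_b_rc_6_1 lc_b_rc_8_2 lc_b_rc_26_7) (@D3.rec (fun _ => (Cert rels S Gen.b)) lc_b_rc_25_0 lc_b_rc_25_16 lc_b_rc_6_1 lc_b_rc_7_4 lc_b_rc_26_5 lc_b_rc_9_2 lc_b_rc_8_2 lc_b_rc_7_4 lc_b_rc_9_2 lc_b_rc_26_1 lc_b_rc_26_5 lc_b_rc_9_0 lc_b_rc_25_16 lc_b_rc_8_0 lc_b_rc_10_2 lc_b_rc_6_1 lc_b_rc_6_1 lc_b_rc_1_5 lc_b_rc_6_1 lc_b_rc_9_0 lc_b_rc_26_5 lc_b_rc_6_1 lc_b_rc_6_1 lc_b_rc_9_2 lc_b_rc_9_2 lc_b_rc_6_1 lc_b_rc_8_2 lc_b_rc_10_2 lc_b_rc_6_1 lc_b_rc_10_2 lc_b_rc_6_1 lc_b_rc_26_1 lc_b_rc_6_1 lc_b_rc_26_5 lc_b_rc_26_1 lc_b_rc_9_2 lc_b_rc_26_1 lc_b_rc_8_2 lc_b_rc_26_7 lc_b_rc_7_2 lc_b_rc_6_1 lc_b_rc_8_2 lc_b_rc_1_5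 lc_b_rc_1_5 lc_b_rc_25_4 lc_b_rc_9_2 lc_b_rc_9_2 lc_b_rc_7_0 lc_b_rc_9_2 lc_b_rc_9_2 lc_b_rc_1_5 lc_b_rc_7_0 lc_b_rc_8_2 lc_b_rc_8_0 lc_b_rc_9_2 lc_b_rc_9_2 lc_b_rc_8_2 lc_b_rc_7_0 lc_b_rc_8_2 lc_b_rc_10_2 lc_b_rc_25_16 lc_b_rc_6_1) (@D3.rec (fun _ => (Cert rels S Gen.b)) lc_b_rc_6_1 lc_b_rc_8_2 lc_b_rc_8_2 lc_b_rc_9_2 lc_b_rc_6_1 lc_b_rc_26_5 lc_b_rc_8_2 lc_b_rc_9_2 lc_b_rc_8_2 lc_b_rc_26_1 lc_b_rc_10_2 lc_b_rc_8_2 lc_b_rc_6_1 lc_b_rc_8_2 lc_b_rc_6_1 lc_b_rc_8_2 lc_b_Cert_tree lc_b_Cert_tree lc_b_Cert_tree lc_b_rc_6_1 lc_b_rc_7_0 lc_b_rc_9_2 lc_b_Cert_tree lc_b_rc_6_1 lc_b_rc_1_5 lc_b_rc_9_2 lc_b_rc_9_2 lc_b_rc_9_2 lc_b_rc_7_4 lc_b_rc_9_2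 lc_b_rc_6_1 lc_b_rc_1_3 lc_b_rc_6_1 lc_b_rc_6_1 lc_b_rc_6_1 lc_b_rc_8_2 lc_b_rc_10_2 lc_b_rc_6_1 lc_b_rc_26_5 lc_b_rc_6_1 lc_b_rc_8_2 lc_b_rc_7_4 lc_b_rc_6_1 lc_b_rc_10_2 lc_b_rc_26_1 lc_b_rc_1_5 lc_b_rc_26_5 lc_b_rc_26_1 lc_b_rc_8_2 lc_b_rc_25_0 lc_b_rc_9_0 lc_b_rc_10_2 lc_b_rc_9_2 lc_b_rc_7_4 lc_b_rc_6_1 lc_b_rc_25_0 lc_b_rc_1_3 lc_b_rc_8_2 lc_b_rc_1_5 lc_b_rc_7_2 lc_b_rc_9_2 lc_b_rc_6_1) (@D3.rec (fun _ => (Cert rels S Gen.b)) lc_b_rc_9_2 lc_b_rc_1_3 lc_b_rc_8_2 lc_b_rc_25_4 lc_b_rc_9_2 lc_b_rc_10_2 lc_b_rc_26_5 lc_b_rc_7_2 lc_b_rc_7_4 lc_b_rc_9_2 lc_b_rc_8_2 lc_b_rc_6_1 lc_b_rc_10_2 lc_b_rc_6_1 lc_b_rc_26_1 lc_b_rc_6_1 lc_b_rc_8_2 lc_b_rc_10_0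 lc_b_rc_26_5 lc_b_rc_6_1 lc_b_rc_9_2 lc_b_rc_26_5 lc_b_rc_26_5 lc_b_rc_8_2 lc_b_rc_9_0 lc_b_rc_26_5 lc_b_rc_10_2 lc_b_rc_26_5 lc_b_rc_9_2 lc_b_rc_1_5 lc_b_rc_6_1 lc_b_rc_9_2 lc_b_rc_8_0 lc_b_rc_7_2 lc_b_rc_8_2 lc_b_rc_9_2 lc_b_rc_26_5 lc_b_rc_26_5 lc_b_rc_10_2 lc_b_rc_7_2 lc_b_rc_6_1 lc_b_rc_6_1 lc_b_rc_8_2 lc_b_rc_26_1 lc_b_rc_6_1 lc_b_rc_8_2 lc_b_rc_8_2 lc_b_rc_9_2 lc_b_rc_26_5 lc_b_rc_26_1 lc_b_rc_10_2 lc_b_rc_7_4 lc_b_rc_6_1 lc_b_rc_26_5 lc_b_rc_26_7 lc_b_rc_6_1 lc_b_rc_9_2 lc_b_rc_26_5 lc_b_rc_6_1 lc_b_rc_8_2 lc_b_rc_1_1 lc_b_rc_6_1) (@D3.rec (fun _ => (Cert rels S Gen.b)) lc_b_rc_25_8 lc_b_rc_26_5 lc_b_rc_6_1 lc_b_rc_9_2 lc_b_rc_8_2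 lc_b_rc_10_2 lc_b_rc_10_2 lc_b_rc_8_2 lc_b_rc_10_2 lc_b_rc_6_1 lc_b_rc_7_2 lc_b_rc_26_1 lc_b_rc_26_7 lc_b_rc_26_5 lc_b_rc_6_1 lc_b_rc_6_1 lc_b_rc_6_1 lc_b_rc_10_2 lc_b_rc_9_2 lc_b_rc_9_2 lc_b_rc_8_2 lc_b_rc_8_2 lc_b_rc_8_2 lc_b_rc_26_5 lc_b_rc_6_1 lc_b_rc_1_3 lc_b_rc_9_2 lc_b_rc_6_1 lc_b_rc_7_4 lc_b_rc_6_1 lc_b_rc_9_2 lc_b_rc_9_2 lc_b_rc_7_2 lc_b_rc_9_2 lc_b_rc_26_1 lc_b_rc_6_1 lc_b_rc_8_0 lc_b_rc_6_1 lc_b_rc_8_2 lc_b_rc_7_2 lc_b_rc_9_0 lc_b_rc_6_1 lc_b_rc_8_2 lc_b_rc_26_1 lc_b_rc_6_1 lc_b_rc_6_1 lc_b_rc_7_4 lc_b_rc_9_2 lc_b_rc_26_1 lc_b_rc_9_2 lc_b_rc_26_7 lc_b_rc_6_1 lc_b_rc_26_1 lc_b_rc_8_0 lc_b_rc_9_2 lc_b_rc_8_2 lc_b_rc_6_1 lc_b_rc_8_2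 lc_b_rc_6_1 lc_b_rc_1_5 lc_b_rc_1_3 lc_b_rc_8_2) (@D3.rec (fun _ => (Cert rels S Gen.b)) lc_b_rc_9_2 lc_b_rc_7_2 lc_b_rc_1_3 lc_b_rc_26_5 lc_b_rc_1_3 lc_b_rc_6_1 lc_b_rc_7_0 lc_b_rc_7_4 lc_b_rc_26_1 lc_b_rc_25_16 lc_b_rc_6_1 lc_b_rc_1_5 lc_b_rc_6_1 lc_b_rc_6_1 lc_b_rc_9_2 lc_b_rc_9_0 lc_b_rc_1_1 lc_b_rc_8_2 lc_b_rc_10_2 lc_b_rc_26_5 lc_b_rc_8_2 lc_b_rc_8_2 lc_b_rc_8_2 lc_b_rc_9_2 lc_b_rc_8_2 lc_b_rc_7_2 lc_b_rc_9_2 lc_b_rc_1_3 lc_b_rc_26_5 lc_b_rc_6_1 lc_b_rc_26_1 lc_b_rc_10_0 lc_b_rc_6_1 lc_b_rc_8_2 lc_b_rc_8_0 lc_b_rc_10_2 lc_b_rc_9_2 lc_b_rc_26_5 lc_b_rc_25_0 lc_b_rc_7_2 lc_b_rc_26_5 lc_b_rc_9_2 lc_b_rc_1_3 lc_b_rc_7_4 lc_b_rc_1_3 lc_b_rc_7_4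 lc_b_rc_7_2 lc_b_rc_7_0 lc_b_rc_8_2 lc_b_rc_6_1 lc_b_rc_7_4 lc_b_rc_6_1 lc_b_rc_8_2 lc_b_rc_9_2 lc_b_rc_25_16 lc_b_rc_8_0 lc_b_rc_8_2 lc_b_rc_9_2 lc_b_rc_8_2 lc_b_rc_8_2 lc_b_rc_26_5 lc_b_rc_6_1) (@D3.rec (fun _ => (Cert rels S Gen.b)) lc_b_rc_8_2 lc_b_rc_1_3 lc_b_rc_1_3 lc_b_rc_6_1 lc_b_rc_7_4 lc_b_rc_6_1 lc_b_rc_6_1 lc_b_rc_9_0 lc_b_rc_7_0 lc_b_rc_8_0 lc_b_rc_10_2 lc_b_rc_9_2 lc_b_rc_8_0 lc_b_rc_1_3 lc_b_rc_8_2 lc_b_rc_9_2 lc_b_rc_10_2 lc_b_rc_8_2 lc_b_rc_8_2 lc_b_rc_6_1 lc_b_rc_9_2 lc_b_rc_26_7 lc_b_rc_9_2 lc_b_rc_6_1 lc_b_rc_9_0 lc_b_rc_26_1 lc_b_rc_6_1 lc_b_rc_6_1 lc_b_rc_10_2 lc_b_rc_8_2 lc_b_rc_1_1 lc_b_rc_6_1 lc_b_rc_6_1 lc_b_rc_8_0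 lc_b_rc_6_1 lc_b_rc_10_2 lc_b_rc_6_1 lc_b_rc_9_0 lc_b_rc_26_5 lc_b_rc_26_1 lc_b_rc_8_2 lc_b_rc_1_1 lc_b_rc_9_2 lc_b_rc_8_2 lc_b_rc_26_5 lc_b_rc_6_1 lc_b_rc_8_0 lc_b_rc_8_0 lc_b_rc_9_2 lc_b_rc_6_1 lc_b_rc_8_2 lc_b_rc_10_2 lc_b_rc_6_1 lc_b_rc_7_4 lc_b_rc_1_1 lc_b_rc_6_1 lc_b_rc_6_1 lc_b_rc_7_0 lc_b_rc_6_1 lc_b_rc_9_2 lc_b_rc_9_2 lc_b_rc_8_0) (@D3.rec (fun _ => (Cert rels S Gen.b)) lc_b_rc_26_7 lc_b_Cert_tree lc_b_rc_6_1 lc_b_rc_9_0 lc_b_rc_6_1 lc_b_rc_25_0 lc_b_rc_7_4 lc_b_rc_1_5 lc_b_rc_9_2 lc_b_rc_8_0 lc_b_rc_26_1 lc_b_rc_10_2 lc_b_rc_10_2 lc_b_rc_9_0 lc_b_rc_6_1 lc_b_rc_9_0 lc_b_rc_8_0 lc_b_rc_10_2 lc_b_rc_9_2 lc_b_rc_8_0 lc_b_rc_6_1 lc_b_rc_6_1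 lc_b_rc_8_2 lc_b_rc_9_2 lc_b_rc_9_2 lc_b_rc_26_7 lc_b_rc_7_0 lc_b_rc_8_2 lc_b_rc_8_2 lc_b_rc_8_2 lc_b_rc_1_5 lc_b_rc_1_3 lc_b_rc_26_5 lc_b_rc_6_1 lc_b_rc_26_1 lc_b_rc_26_5 lc_b_rc_8_2 lc_b_rc_6_1 lc_b_rc_9_2 lc_b_rc_10_0 lc_b_rc_9_2 lc_b_rc_26_5 lc_b_rc_8_2 lc_b_rc_10_2 lc_b_rc_9_2 lc_b_rc_6_1 lc_b_rc_26_5 lc_b_rc_9_2 lc_b_rc_10_0 lc_b_rc_9_2 lc_b_rc_26_5 lc_b_rc_7_4 lc_b_rc_8_2 lc_b_rc_6_1 lc_b_rc_8_2 lc_b_rc_8_2 lc_b_rc_25_4 lc_b_Cert_tree lc_b_rc_8_2 lc_b_rc_1_5 lc_b_rc_1_3 lc_b_rc_8_2) (@D3.rec (fun _ => (Cert rels S Gen.b)) lc_b_rc_6_1 lc_b_rc_9_2 lc_b_rc_8_2 lc_b_rc_9_2 lc_b_rc_9_2 lc_b_rc_9_2 lc_b_rc_6_1 lc_b_rc_8_2 lc_b_rc_8_0 lc_b_rc_8_2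 lc_b_rc_9_2 lc_b_rc_6_1 lc_b_rc_6_1 lc_b_rc_6_1 lc_b_rc_8_2 lc_b_rc_1_3 lc_b_rc_1_3 lc_b_rc_8_2 lc_b_rc_8_2 lc_b_rc_26_5 lc_b_rc_9_2 lc_b_rc_9_2 lc_b_rc_6_1 lc_b_rc_26_5 lc_b_rc_26_1 lc_b_rc_26_5 lc_b_rc_9_2 lc_b_rc_6_1 lc_b_rc_25_12 lc_b_rc_6_1 lc_b_rc_6_1 lc_b_rc_9_0 lc_b_rc_7_2 lc_b_rc_1_1 lc_b_rc_25_0 lc_b_rc_7_2 lc_b_rc_9_2 lc_b_rc_6_1 lc_b_rc_8_0 lc_b_rc_9_2 lc_b_rc_6_1 lc_b_rc_8_2 lc_b_rc_6_1 lc_b_Cert_tree lc_b_rc_6_1 lc_b_rc_7_2 lc_b_rc_9_2 lc_b_rc_7_2 lc_b_rc_9_2 lc_b_rc_7_2 lc_b_rc_9_2 lc_b_rc_10_2 lc_b_rc_9_2 lc_b_rc_7_2 lc_b_rc_6_1 lc_b_rc_25_16 lc_b_rc_25_12 lc_b_rc_10_2 lc_b_rc_10_2 lc_b_rc_1_1 lc_b_rc_8_0 lc_b_rc_9_2) (@D3.rec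 (fun _ => (Cert rels S Gen.b)) lc_b_rc_9_2 lc_b_rc_9_2 lc_b_rc_8_2 lc_b_rc_7_4 lc_b_rc_10_2 lc_b_rc_7_2 lc_b_rc_8_2 lc_b_rc_6_1 lc_b_rc_8_2 lc_b_rc_6_1 lc_b_rc_25_0 lc_b_rc_9_2 lc_b_rc_7_0 lc_b_rc_26_5 lc_b_rc_6_1 lc_b_rc_10_2 lc_b_rc_9_0 lc_b_rc_1_5 lc_b_rc_26_5 lc_b_rc_9_0 lc_b_rc_26_5 lc_b_rc_8_2 lc_b_rc_8_2 lc_b_rc_9_2 lc_b_rc_8_2 lc_b_rc_9_2 lc_b_rc_10_2 lc_b_rc_6_1 lc_b_rc_9_2 lc_b_rc_1_5 lc_b_rc_6_1 lc_b_rc_8_2 lc_b_rc_9_2 lc_b_rc_6_1 lc_b_rc_26_7 lc_b_rc_8_2 lc_b_rc_10_2 lc_b_rc_6_1 lc_b_rc_8_2 lc_b_rc_26_7 lc_b_rc_8_2 lc_b_rc_8_2 lc_b_rc_9_2 lc_b_rc_8_2 lc_b_rc_10_2 lc_b_rc_6_1 lc_b_rc_7_4 lc_b_rc_6_1 lc_b_rc_10_2 lc_b_rc_8_0 lc_b_rc_6_1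 lc_b_rc_8_2 lc_b_rc_8_2 lc_b_rc_1_1 lc_b_rc_26_7 lc_b_rc_9_2 lc_b_rc_6_1 lc_b_rc_6_1 lc_b_rc_7_2 lc_b_rc_6_1 lc_b_rc_8_2 lc_b_rc_10_2) (@D3.rec (fun _ => (Cert rels S Gen.b)) lc_b_rc_8_2 lc_b_Cert_tree lc_b_rc_10_2 lc_b_rc_8_0 lc_b_rc_9_2 lc_b_rc_25_12 lc_b_rc_26_7 lc_b_rc_26_1 lc_b_rc_9_2 lc_b_rc_6_1 lc_b_rc_7_2 lc_b_rc_9_2 lc_b_rc_8_2 lc_b_rc_26_5 lc_b_rc_9_2 lc_b_rc_8_2 lc_b_rc_9_2 lc_b_rc_26_5 lc_b_rc_8_0 lc_b_rc_26_1 lc_b_rc_7_0 lc_b_rc_6_1 lc_b_rc_9_0 lc_b_rc_9_2 lc_b_rc_1_3 lc_b_rc_8_2 lc_b_rc_6_1 lc_b_rc_8_2 lc_b_rc_10_2 lc_b_Cert_tree lc_b_rc_8_2 lc_b_rc_9_0 lc_b_rc_26_5 lc_b_rc_8_2 lc_b_rc_9_2 lc_b_rc_9_2 lc_b_rc_9_2 lc_b_rc_6_1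 lc_b_rc_9_2 lc_b_rc_8_2 lc_b_rc_6_1 lc_b_rc_26_1 lc_b_rc_9_2 lc_b_rc_6_1 lc_b_rc_7_4 lc_b_rc_6_1 lc_b_rc_6_1 lc_b_rc_10_2 lc_b_rc_9_2 lc_b_rc_9_2 lc_b_rc_7_0 lc_b_rc_6_1 lc_b_rc_1_1 lc_b_rc_9_0 lc_b_rc_26_1 lc_b_rc_6_1 lc_b_rc_26_5 lc_b_rc_1_1 lc_b_rc_8_2 lc_b_rc_9_2 lc_b_rc_9_2 lc_b_rc_6_1) (@D3.rec (fun _ => (Cert rels S Gen.b)) lc_b_rc_7_0 lc_b_rc_7_4 lc_b_rc_26_1 lc_b_rc_26_5 lc_b_rc_8_0 lc_b_rc_8_2 lc_b_rc_9_2 lc_b_rc_26_5 lc_b_rc_1_3 lc_b_rc_9_2 lc_b_rc_8_2 lc_b_rc_26_1 lc_b_rc_8_2 lc_b_rc_26_7 lc_b_rc_7_4 lc_b_rc_25_0 lc_b_rc_26_1 lc_b_rc_26_5 lc_b_rc_8_0 lc_b_Cert_tree lc_b_rc_8_0 lc_b_rc_9_2 lc_b_rc_6_1 lc_b_rc_7_4 lc_b_rc_6_1 lc_b_rc_7_4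 lc_b_rc_9_2 lc_b_rc_8_2 lc_b_rc_7_4 lc_b_rc_6_1 lc_b_rc_25_16 lc_b_rc_8_2 lc_b_rc_8_2 lc_b_rc_9_2 lc_b_Cert_tree lc_b_rc_6_1 lc_b_rc_9_2 lc_b_rc_1_5 lc_b_rc_7_4 lc_b_rc_9_2 lc_b_rc_6_1 lc_b_rc_25_4 lc_b_rc_7_4 lc_b_rc_26_1 lc_b_rc_9_2 lc_b_rc_1_3 lc_b_rc_6_1 lc_b_rc_6_1 lc_b_rc_7_0 lc_b_rc_9_2 lc_b_rc_8_0 lc_b_rc_8_2 lc_b_rc_9_2 lc_b_rc_8_0 lc_b_rc_7_0 lc_b_rc_6_1 lc_b_rc_26_5 lc_b_rc_26_1 lc_b_rc_6_1 lc_b_rc_26_5 lc_b_rc_10_0 lc_b_rc_8_2) (@D3.rec (fun _ => (Cert rels S Gen.b)) lc_b_rc_6_1 lc_b_rc_8_0 lc_b_rc_1_3 lc_b_rc_8_0 lc_b_rc_7_4 lc_b_rc_6_1 lc_b_rc_26_5 lc_b_rc_1_3 lc_b_rc_9_2 lc_b_rc_7_2 lc_b_rc_7_4 lc_b_rc_26_5 lc_b_rc_8_2 lc_b_rc_6_1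 lc_b_rc_8_2 lc_b_rc_8_2 lc_b_rc_26_5 lc_b_rc_8_2 lc_b_rc_9_2 lc_b_rc_8_2 lc_b_rc_7_2 lc_b_rc_7_4 lc_b_rc_8_2 lc_b_rc_10_2 lc_b_rc_26_5 lc_b_rc_8_2 lc_b_rc_9_2 lc_b_rc_6_1 lc_b_rc_26_5 lc_b_rc_8_2 lc_b_rc_26_5 lc_b_rc_8_2 lc_b_rc_9_2 lc_b_rc_1_5 lc_b_rc_10_2 lc_b_rc_9_2 lc_b_rc_9_2 lc_b_rc_6_1 lc_b_rc_10_2 lc_b_rc_10_2 lc_b_rc_1_1 lc_b_rc_26_5 lc_b_rc_9_2 lc_b_rc_1_5 lc_b_rc_26_5 lc_b_rc_8_0 lc_b_rc_6_1 lc_b_rc_8_2 lc_b_rc_8_2 lc_b_rc_8_2 lc_b_rc_7_4 lc_b_rc_25_0 lc_b_rc_7_4 lc_b_rc_7_4 lc_b_rc_25_8 lc_b_rc_7_4 lc_b_rc_7_4 lc_b_rc_6_1 lc_b_rc_6_1 lc_b_rc_26_5 lc_b_rc_26_5 lc_b_Cert_tree) (@D3.rec (fun _ => (Cert rels S Gen.b)) lc_b_rc_26_5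 lc_b_rc_26_1 lc_b_rc_7_4 lc_b_rc_1_3 lc_b_rc_6_1 lc_b_rc_10_2 lc_b_rc_1_3 lc_b_rc_7_4 lc_b_rc_6_1 lc_b_rc_6_1 lc_b_rc_6_1 lc_b_rc_26_7 lc_b_rc_6_1 lc_b_rc_9_2 lc_b_rc_6_1 lc_b_rc_7_0 lc_b_rc_8_2 lc_b_rc_26_5 lc_b_rc_26_1 lc_b_rc_6_1 lc_b_rc_6_1 lc_b_rc_26_1 lc_b_Cert_tree lc_b_rc_6_1 lc_b_rc_9_2 lc_b_rc_8_2 lc_b_rc_10_2 lc_b_rc_26_1 lc_b_rc_8_2 lc_b_rc_6_1 lc_b_rc_6_1 lc_b_rc_26_7 lc_b_rc_6_1 lc_b_rc_1_3 lc_b_rc_9_2 lc_b_rc_8_2 lc_b_rc_25_16 lc_b_rc_26_1 lc_b_rc_8_2 lc_b_rc_9_2 lc_b_rc_8_2 lc_b_rc_10_2 lc_b_rc_7_4 lc_b_rc_6_1 lc_b_rc_8_0 lc_b_rc_9_2 lc_b_rc_6_1 lc_b_rc_26_5 lc_b_rc_7_0 lc_b_rc_8_0 lc_b_rc_9_2 lc_b_rc_6_1 lc_b_rc_26_5 lc_b_rc_7_2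 lc_b_rc_9_2 lc_b_rc_7_4 lc_b_rc_26_5 lc_b_rc_6_1 lc_b_rc_8_2 lc_b_rc_9_2 lc_b_rc_10_2 lc_b_rc_9_2) (@D3.rec (fun _ => (Cert rels S Gen.b)) lc_b_rc_25_8 lc_b_rc_26_1 lc_b_rc_6_1 lc_b_rc_26_5 lc_b_rc_25_0 lc_b_rc_6_1 lc_b_rc_9_2 lc_b_rc_9_2 lc_b_rc_6_1 lc_b_rc_9_2 lc_b_rc_9_2 lc_b_rc_10_0 lc_b_rc_6_1 lc_b_rc_8_2 lc_b_rc_26_5 lc_b_rc_6_1 lc_b_rc_8_2 lc_b_rc_8_2 lc_b_rc_6_1 lc_b_rc_1_3 lc_b_rc_9_2 lc_b_rc_6_1 lc_b_rc_8_2 lc_b_rc_7_2 lc_b_rc_10_0 lc_b_rc_1_3 lc_b_rc_26_1 lc_b_rc_6_1 lc_b_rc_8_2 lc_b_rc_8_2 lc_b_rc_6_1 lc_b_rc_10_2 lc_b_rc_8_2 lc_b_rc_1_1 lc_b_rc_8_2 lc_b_rc_8_2 lc_b_rc_8_2 lc_b_rc_9_2 lc_b_rc_6_1 lc_b_rc_6_1 lc_b_rc_6_1 lc_b_rc_9_2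 lc_b_rc_25_4 lc_b_rc_26_7 lc_b_rc_8_2 lc_b_rc_26_7 lc_b_rc_7_4 lc_b_rc_8_2 lc_b_rc_9_2 lc_b_rc_6_1 lc_b_rc_6_1 lc_b_rc_7_4 lc_b_rc_9_2 lc_b_rc_8_2 lc_b_rc_10_2 lc_b_rc_8_2 lc_b_rc_8_2 lc_b_rc_8_2 lc_b_rc_9_2 lc_b_rc_8_2 lc_b_rc_7_2 lc_b_rc_9_2) (@D3.rec (fun _ => (Cert rels S Gen.b)) lc_b_rc_8_2 lc_b_rc_10_2 lc_b_rc_6_1 lc_b_rc_26_5 lc_b_rc_10_0 lc_b_rc_6_1 lc_b_rc_6_1 lc_b_rc_1_1 lc_b_rc_9_2 lc_b_rc_26_1 lc_b_rc_7_0 lc_b_rc_6_1 lc_b_rc_9_0 lc_b_rc_26_1 lc_b_rc_7_4 lc_b_rc_6_1 lc_b_rc_9_2 lc_b_rc_26_7 lc_b_rc_8_0 lc_b_rc_1_5 lc_b_rc_8_2 lc_b_rc_10_2 lc_b_rc_7_2 lc_b_rc_8_2 lc_b_rc_10_0 lc_b_rc_7_0 lc_b_rc_6_1 lc_b_rc_1_3 lc_b_rc_26_5 lc_b_rc_8_2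 lc_b_rc_6_1 lc_b_rc_8_0 lc_b_rc_26_5 lc_b_rc_6_1 lc_b_rc_26_7 lc_b_rc_1_5 lc_b_rc_26_7 lc_b_rc_25_4 lc_b_rc_6_1 lc_b_rc_7_4 lc_b_rc_7_2 lc_b_rc_8_2 lc_b_rc_26_5 lc_b_rc_7_2 lc_b_rc_26_1 lc_b_rc_6_1 lc_b_rc_6_1 lc_b_rc_9_2 lc_b_rc_10_2 lc_b_rc_26_1 lc_b_rc_8_2 lc_b_rc_8_2 lc_b_rc_26_5 lc_b_rc_8_2 lc_b_rc_8_2 lc_b_rc_26_5 lc_b_rc_10_0 lc_b_rc_8_2 lc_b_rc_9_2 lc_b_rc_10_2 lc_b_rc_26_7 lc_b_rc_8_2) (@D3.rec (fun _ => (Cert rels S Gen.b)) lc_b_rc_9_2 lc_b_rc_8_0 lc_b_rc_9_2 lc_b_rc_10_2 lc_b_rc_26_1 lc_b_rc_26_5 lc_b_rc_6_1 lc_b_rc_8_2 lc_b_rc_8_2 lc_b_rc_8_2 lc_b_rc_6_1 lc_b_rc_10_2 lc_b_rc_9_2 lc_b_rc_6_1 lc_b_rc_26_7 lc_b_rc_8_2 lc_b_rc_10_2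 lc_b_rc_6_1 lc_b_rc_9_2 lc_b_rc_8_2 lc_b_rc_9_2 lc_b_rc_1_5 lc_b_rc_6_1 lc_b_rc_8_2 lc_b_rc_6_1 lc_b_rc_8_2 lc_b_rc_1_3 lc_b_rc_1_3 lc_b_rc_9_2 lc_b_rc_10_2 lc_b_rc_8_2 lc_b_rc_10_2 lc_b_rc_8_2 lc_b_rc_6_1 lc_b_rc_8_2 lc_b_rc_8_2 lc_b_rc_7_2 lc_b_rc_6_1 lc_b_rc_1_5 lc_b_rc_6_1 lc_b_rc_9_2 lc_b_rc_7_4 lc_b_rc_8_2 lc_b_rc_8_2 lc_b_rc_9_2 lc_b_rc_6_1 lc_b_rc_9_2 lc_b_rc_26_1 lc_b_rc_7_4 lc_b_rc_9_2 lc_b_rc_26_5 lc_b_rc_8_2 lc_b_rc_9_2 lc_b_rc_9_2 lc_b_rc_8_2 lc_b_rc_10_2 lc_b_rc_26_1 lc_b_rc_9_2 lc_b_rc_26_5 lc_b_rc_9_2 lc_b_rc_9_0 lc_b_rc_6_1) (@D3.rec (fun _ => (Cert rels S Gen.b)) lc_b_rc_8_2 lc_b_rc_10_2 lc_b_rc_6_1 lc_b_rc_26_5 lc_b_rc_6_1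 lc_b_rc_6_1 lc_b_rc_9_2 lc_b_rc_9_2 lc_b_rc_7_0 lc_b_rc_1_1 lc_b_rc_8_2 lc_b_rc_8_2 lc_b_rc_9_2 lc_b_rc_9_2 lc_b_rc_8_2 lc_b_rc_6_1 lc_b_rc_9_2 lc_b_rc_6_1 lc_b_rc_25_8 lc_b_rc_1_1 lc_b_rc_8_2 lc_b_Cert_tree lc_b_rc_25_16 lc_b_rc_8_2 lc_b_rc_9_2 lc_b_rc_7_0 lc_b_rc_10_2 lc_b_rc_8_2 lc_b_rc_6_1 lc_b_rc_6_1 lc_b_rc_9_2 lc_b_rc_6_1 lc_b_rc_26_5 lc_b_rc_26_5 lc_b_rc_9_2 lc_b_rc_26_5 lc_b_rc_7_2 lc_b_rc_9_2 lc_b_rc_8_2 lc_b_rc_6_1 lc_b_rc_8_2 lc_b_rc_10_2 lc_b_rc_26_7 lc_b_rc_9_2 lc_b_rc_7_4 lc_b_rc_6_1 lc_b_rc_26_5 lc_b_Cert_tree lc_b_rc_6_1 lc_b_rc_6_1 lc_b_rc_26_5 lc_b_rc_7_4 lc_b_rc_8_2 lc_b_rc_9_2 lc_b_rc_7_4 lc_b_rc_9_2 lc_b_rc_6_1 lc_b_rc_6_1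 lc_b_rc_8_2 lc_b_rc_9_2 lc_b_rc_9_2 lc_b_rc_9_0) (@D3.rec (fun _ => (Cert rels S Gen.b)) lc_b_rc_6_1 lc_b_rc_8_2 lc_b_rc_10_2 lc_b_rc_10_2 lc_b_rc_6_1 lc_b_rc_8_0 lc_b_rc_8_2 lc_b_rc_8_0 lc_b_rc_1_5 lc_b_rc_7_0 lc_b_rc_8_2 lc_b_rc_1_5 lc_b_rc_9_2 lc_b_rc_6_1 lc_b_rc_8_2 lc_b_rc_26_5 lc_b_rc_6_1 lc_b_rc_26_5 lc_b_rc_1_1 lc_b_rc_8_2 lc_b_rc_6_1 lc_b_rc_26_7 lc_b_rc_9_2 lc_b_rc_8_2 lc_b_rc_8_2 lc_b_rc_1_1 lc_b_rc_9_2 lc_b_rc_8_2 lc_b_rc_10_2 lc_b_Cert_tree lc_b_rc_8_2 lc_b_rc_6_1 lc_b_rc_7_2 lc_b_rc_8_2 lc_b_rc_6_1 lc_b_Cert_tree lc_b_rc_9_2 lc_b_rc_10_2 lc_b_rc_9_0 lc_b_rc_7_0 lc_b_rc_9_2 lc_b_rc_6_1 lc_b_rc_6_1 lc_b_rc_26_1 lc_b_rc_8_2 lc_b_rc_9_2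 lc_b_rc_8_2 lc_b_Cert_tree lc_b_rc_9_0 lc_b_rc_9_2 lc_b_rc_26_1 lc_b_rc_8_2 lc_b_Cert_tree lc_b_rc_26_5 lc_b_rc_10_2 lc_b_rc_6_1 lc_b_rc_6_1 lc_b_rc_6_1 lc_b_rc_25_4 lc_b_rc_8_0 lc_b_rc_9_2 lc_b_Cert_tree) (@D3.rec (fun _ => (Cert rels S Gen.b)) lc_b_rc_7_0 lc_b_rc_9_2 lc_b_rc_9_2 lc_b_rc_6_1 lc_b_rc_26_7 lc_b_rc_6_1 lc_b_rc_6_1 lc_b_rc_26_5 lc_b_rc_7_0 lc_b_rc_1_3 lc_b_rc_10_0 lc_b_rc_9_2 lc_b_Cert_tree lc_b_rc_6_1 lc_b_rc_8_2 lc_b_rc_10_2 lc_b_rc_7_0 lc_b_rc_8_0 lc_b_rc_26_5 lc_b_rc_10_2 lc_b_rc_6_1 lc_b_rc_7_2 lc_b_rc_6_1 lc_b_rc_8_2 lc_b_rc_9_2 lc_b_rc_6_1 lc_b_rc_26_5 lc_b_rc_9_2 lc_b_rc_9_2 lc_b_rc_8_2 lc_b_rc_8_2 lc_b_rc_9_2 lc_b_rc_1_5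 lc_b_rc_8_2 lc_b_rc_8_0 lc_b_Cert_tree lc_b_rc_7_2 lc_b_rc_7_0 lc_b_rc_7_0 lc_b_rc_6_1 lc_b_rc_6_1 lc_b_rc_7_4 lc_b_rc_9_2 lc_b_Cert_tree lc_b_rc_8_0 lc_b_rc_8_2 lc_b_rc_10_2 lc_b_rc_6_1 lc_b_rc_9_2 lc_b_rc_8_2 lc_b_rc_26_7 lc_b_rc_26_1 lc_b_rc_26_5 lc_b_rc_6_1 lc_b_rc_26_5 lc_b_rc_6_1 lc_b_rc_26_1 lc_b_rc_9_2 lc_b_rc_6_1 lc_b_rc_6_1 lc_b_rc_8_2 lc_b_rc_10_2) (@D3.rec (fun _ => (Cert rels S Gen.b)) lc_b_rc_8_2 lc_b_rc_6_1 lc_b_rc_26_5 lc_b_rc_7_2 lc_b_rc_6_1 lc_b_rc_26_5 lc_b_rc_26_7 lc_b_rc_26_7 lc_b_rc_6_1 lc_b_rc_6_1 lc_b_rc_1_3 lc_b_rc_6_1 lc_b_rc_7_4 lc_b_rc_9_2 lc_b_rc_1_3 lc_b_rc_8_2 lc_b_rc_10_0 lc_b_rc_6_1 lc_b_rc_8_2 lc_b_rc_1_1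 lc_b_rc_8_0 lc_b_rc_9_2 lc_b_rc_8_2 lc_b_rc_1_5 lc_b_rc_8_2 lc_b_rc_25_4 lc_b_rc_7_2 lc_b_rc_8_2 lc_b_rc_9_0 lc_b_rc_8_2 lc_b_rc_7_4 lc_b_rc_9_2 lc_b_rc_8_2 lc_b_rc_26_1 lc_b_rc_9_2 lc_b_rc_8_2 lc_b_rc_9_2 lc_b_rc_9_2 lc_b_rc_6_1 lc_b_rc_6_1 lc_b_rc_8_2 lc_b_rc_9_0 lc_b_rc_9_2 lc_b_rc_8_2 lc_b_rc_8_2 lc_b_rc_9_2 lc_b_rc_7_0 lc_b_rc_9_2 lc_b_rc_9_2 lc_b_rc_9_2 lc_b_rc_9_2 lc_b_rc_7_0 lc_b_rc_10_2 lc_b_rc_1_5 lc_b_rc_8_0 lc_b_rc_26_1 lc_b_rc_1_1 lc_b_rc_9_2 lc_b_rc_6_1 lc_b_rc_26_5 lc_b_rc_9_2 lc_b_rc_6_1) (@D3.rec (fun _ => (Cert rels S Gen.b)) lc_b_rc_26_5 lc_b_rc_7_2 lc_b_rc_8_2 lc_b_rc_9_2 lc_b_rc_7_2 lc_b_rc_8_2 lc_b_rc_6_1 lc_b_rc_7_0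 lc_b_rc_7_0 lc_b_rc_8_2 lc_b_rc_9_2 lc_b_rc_10_0 lc_b_rc_9_2 lc_b_rc_7_2 lc_b_rc_26_7 lc_b_rc_8_2 lc_b_rc_26_5 lc_b_rc_6_1 lc_b_rc_25_4 lc_b_rc_7_0 lc_b_rc_9_2 lc_b_rc_1_3 lc_b_rc_8_2 lc_b_rc_25_4 lc_b_rc_8_2 lc_b_rc_6_1 lc_b_rc_8_2 lc_b_rc_26_7 lc_b_rc_6_1 lc_b_rc_8_2 lc_b_Cert_tree lc_b_rc_8_0 lc_b_Cert_tree lc_b_rc_6_1 lc_b_rc_6_1 lc_b_rc_9_2 lc_b_rc_8_2 lc_b_rc_9_2 lc_b_rc_26_1 lc_b_rc_10_2 lc_b_rc_26_1 lc_b_rc_1_3 lc_b_rc_8_2 lc_b_rc_8_2 lc_b_rc_6_1 lc_b_rc_8_2 lc_b_rc_9_2 lc_b_rc_6_1 lc_b_rc_1_3 lc_b_rc_9_2 lc_b_rc_8_2 lc_b_rc_1_3 lc_b_rc_6_1 lc_b_rc_25_12 lc_b_rc_8_2 lc_b_rc_8_0 lc_b_rc_9_2 lc_b_Cert_tree lc_b_rc_6_1 lc_b_rc_8_2 lc_b_rc_10_2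 lc_b_rc_6_1) (@D3.rec (fun _ => (Cert rels S Gen.b)) lc_b_rc_6_1 lc_b_Cert_tree lc_b_rc_6_1 lc_b_rc_8_2 lc_b_rc_7_2 lc_b_rc_9_2 lc_b_rc_9_2 lc_b_rc_6_1 lc_b_rc_7_4 lc_b_rc_26_7 lc_b_rc_8_2 lc_b_rc_6_1 lc_b_rc_8_2 lc_b_rc_26_1 lc_b_rc_8_2 lc_b_rc_9_2 lc_b_rc_1_3 lc_b_rc_9_2 lc_b_rc_6_1 lc_b_rc_7_0 lc_b_rc_6_1 lc_b_rc_6_1 lc_b_rc_26_1 lc_b_rc_6_1 lc_b_rc_1_3 lc_b_rc_8_2 lc_b_rc_9_2 lc_b_rc_8_0 lc_b_rc_7_0 lc_b_rc_8_2 lc_b_rc_9_2 lc_b_rc_7_2 lc_b_rc_8_2 lc_b_rc_7_2 lc_b_rc_8_2 lc_b_rc_6_1 lc_b_rc_8_2 lc_b_rc_8_2 lc_b_rc_8_2 lc_b_rc_6_1 lc_b_rc_9_2 lc_b_rc_1_1 lc_b_rc_8_2 lc_b_rc_26_7 lc_b_rc_9_2 lc_b_rc_8_2 lc_b_rc_26_1 lc_b_rc_26_7 lc_b_rc_7_0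 lc_b_rc_8_2 lc_b_rc_10_2 lc_b_rc_8_0 lc_b_rc_6_1 lc_b_rc_7_4 lc_b_rc_8_2 lc_b_rc_1_1 lc_b_rc_26_7 lc_b_rc_7_4 lc_b_rc_7_4 lc_b_rc_6_1 lc_b_rc_1_3 lc_b_rc_10_2) (@D3.rec (fun _ => (Cert rels S Gen.b)) lc_b_rc_26_7 lc_b_rc_7_0 lc_b_rc_8_2 lc_b_rc_9_0 lc_b_rc_9_2 lc_b_rc_25_8 lc_b_rc_7_4 lc_b_rc_25_8 lc_b_rc_9_2 lc_b_rc_9_2 lc_b_rc_26_1 lc_b_rc_6_1 lc_b_rc_8_2 lc_b_rc_10_2 lc_b_rc_7_0 lc_b_rc_7_0 lc_b_rc_26_5 lc_b_rc_6_1 lc_b_rc_10_0 lc_b_rc_7_2 lc_b_rc_9_2 lc_b_rc_1_3 lc_b_rc_9_2 lc_b_rc_8_2 lc_b_rc_9_2 lc_b_rc_10_2 lc_b_rc_25_4 lc_b_rc_7_2 lc_b_rc_8_2 lc_b_rc_8_2 lc_b_rc_6_1 lc_b_rc_10_2 lc_b_rc_25_4 lc_b_Cert_tree lc_b_rc_6_1 lc_b_rc_8_2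 lc_b_rc_1_3 lc_b_rc_6_1 lc_b_rc_26_5 lc_b_rc_26_5 lc_b_rc_6_1 lc_b_rc_6_1 lc_b_rc_26_1 lc_b_rc_26_5 lc_b_rc_7_4 lc_b_rc_26_5 lc_b_rc_7_4 lc_b_rc_6_1 lc_b_rc_9_2 lc_b_rc_1_3 lc_b_rc_8_2 lc_b_rc_8_2 lc_b_rc_26_1 lc_b_rc_6_1 lc_b_rc_8_2 lc_b_rc_6_1 lc_b_rc_26_5 lc_b_rc_1_3 lc_b_rc_9_2 lc_b_rc_1_5 lc_b_rc_10_2 lc_b_rc_25_16) (@D3.rec (fun _ => (Cert rels S Gen.b)) lc_b_rc_6_1 lc_b_rc_1_3 lc_b_rc_8_2 lc_b_rc_9_2 lc_b_rc_26_5 lc_b_rc_1_5 lc_b_rc_10_2 lc_b_rc_26_1 lc_b_rc_8_2 lc_b_rc_10_2 lc_b_rc_1_1 lc_b_rc_6_1 lc_b_rc_1_3 lc_b_rc_25_8 lc_b_rc_7_2 lc_b_rc_9_2 lc_b_rc_6_1 lc_b_rc_8_2 lc_b_rc_6_1 lc_b_rc_1_5 lc_b_rc_1_3 lc_b_rc_8_2 lc_b_rc_9_2 lc_b_rc_1_1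 lc_b_rc_1_3 lc_b_rc_6_1 lc_b_rc_8_2 lc_b_rc_9_0 lc_b_rc_10_0 lc_b_rc_10_2 lc_b_rc_26_1 lc_b_rc_8_2 lc_b_rc_6_1 lc_b_rc_26_5 lc_b_rc_26_1 lc_b_rc_25_4 lc_b_rc_7_2 lc_b_rc_9_2 lc_b_rc_10_2 lc_b_rc_6_1 lc_b_rc_10_2 lc_b_rc_8_2 lc_b_rc_7_2 lc_b_rc_9_2 lc_b_rc_9_2 lc_b_rc_10_2 lc_b_rc_8_2 lc_b_rc_6_1 lc_b_rc_9_2 lc_b_rc_6_1 lc_b_rc_9_0 lc_b_rc_6_1 lc_b_rc_7_2 lc_b_rc_10_2 lc_b_rc_1_5 lc_b_rc_9_2 lc_b_rc_9_2 lc_b_rc_6_1 lc_b_rc_9_0 lc_b_rc_9_2 lc_b_rc_9_2 lc_b_rc_7_2) (@D3.rec (fun _ => (Cert rels S Gen.b)) lc_b_rc_8_2 lc_b_rc_10_2 lc_b_rc_6_1 lc_b_rc_8_2 lc_b_rc_6_1 lc_b_rc_10_0 lc_b_Cert_tree lc_b_rc_9_2 lc_b_rc_6_1 lc_b_rc_10_2 lc_b_rc_8_2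 lc_b_rc_9_0 lc_b_rc_6_1 lc_b_rc_10_2 lc_b_rc_26_1 lc_b_rc_1_1 lc_b_rc_9_2 lc_b_rc_8_0 lc_b_rc_9_0 lc_b_rc_8_2 lc_b_rc_10_2 lc_b_rc_9_0 lc_b_rc_6_1 lc_b_rc_1_5 lc_b_rc_25_16 lc_b_rc_26_1 lc_b_rc_1_5 lc_b_rc_1_1 lc_b_rc_8_2 lc_b_rc_8_2 lc_b_rc_26_7 lc_b_rc_26_7 lc_b_rc_26_5 lc_b_rc_9_2 lc_b_rc_6_1 lc_b_rc_8_2 lc_b_rc_26_7 lc_b_rc_8_2 lc_b_rc_8_2 lc_b_rc_26_7 lc_b_rc_10_2 lc_b_rc_10_2 lc_b_rc_8_2 lc_b_rc_9_0 lc_b_rc_10_2 lc_b_rc_10_2 lc_b_rc_25_8 lc_b_rc_8_2 lc_b_rc_8_2 lc_b_rc_8_2 lc_b_rc_9_2 lc_b_rc_10_0 lc_b_rc_6_1 lc_b_rc_9_0 lc_b_rc_6_1 lc_b_rc_9_2 lc_b_rc_1_3 lc_b_rc_6_1 lc_b_rc_6_1 lc_b_rc_25_0 lc_b_rc_8_2 lc_b_rc_10_2) (@D3.rec (fun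 _ => (Cert rels S Gen.b)) lc_b_rc_9_2 lc_b_rc_8_2 lc_b_rc_10_0 lc_b_rc_1_3 lc_b_rc_8_2 lc_b_rc_1_3 lc_b_rc_6_1 lc_b_rc_7_0 lc_b_rc_7_4 lc_b_rc_6_1 lc_b_rc_9_2 lc_b_rc_6_1 lc_b_rc_9_2 lc_b_rc_7_4 lc_b_rc_7_2 lc_b_rc_1_3 lc_b_rc_9_2 lc_b_rc_6_1 lc_b_rc_10_2 lc_b_rc_1_1 lc_b_rc_8_2 lc_b_rc_8_0 lc_b_rc_26_7 lc_b_rc_26_5 lc_b_rc_1_3 lc_b_rc_7_2 lc_b_rc_8_2 lc_b_rc_9_2 lc_b_rc_8_2 lc_b_rc_26_1 lc_b_rc_8_2 lc_b_rc_1_3 lc_b_Cert_tree lc_b_rc_6_1 lc_b_rc_9_2 lc_b_rc_1_5 lc_b_rc_8_2 lc_b_rc_8_2 lc_b_rc_9_2 lc_b_rc_6_1 lc_b_rc_26_5 lc_b_rc_6_1 lc_b_rc_6_1 lc_b_rc_6_1 lc_b_rc_9_0 lc_b_rc_9_2 lc_b_rc_10_2 lc_b_rc_6_1 lc_b_rc_6_1 lc_b_rc_9_2 lc_b_rc_1_3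 lc_b_rc_1_5 lc_b_rc_8_2 lc_b_rc_7_4 lc_b_rc_6_1 lc_b_rc_10_2 lc_b_rc_9_2 lc_b_rc_6_1 lc_b_rc_26_5 lc_b_rc_10_2 lc_b_rc_9_2 lc_b_rc_26_5)
def ce_b_28 : D2 → D3 → (Cert rels S Gen.b) := @D2.rec (fun _ => D3 → (Cert rels S Gen.b)) (@D3.rec (fun _ => (Cert rels S Gen.b)) lc_b_rc_9_2 lc_b_rc_6_1 lc_b_rc_9_2 lc_b_rc_9_2 lc_b_rc_8_2 lc_b_rc_10_2 lc_b_rc_6_1 lc_b_rc_7_0 lc_b_rc_8_0 lc_b_rc_8_2 lc_b_rc_8_2 lc_b_rc_8_2 lc_b_rc_6_1 lc_b_rc_10_2 lc_b_rc_9_2 lc_b_rc_6_1 lc_b_rc_26_1 lc_b_rc_6_1 lc_b_rc_26_1 lc_b_rc_26_7 lc_b_rc_9_2 lc_b_rc_6_1 lc_b_rc_25_4 lc_b_rc_8_0 lc_b_rc_9_2 lc_b_rc_9_2 lc_b_rc_6_1 lc_b_rc_10_2 lc_b_rc_26_1 lc_b_rc_10_2 lc_b_rc_8_2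 lc_b_rc_26_7 lc_b_rc_6_1 lc_b_rc_1_5 lc_b_rc_9_0 lc_b_rc_10_2 lc_b_rc_7_4 lc_b_rc_1_3 lc_b_rc_7_4 lc_b_rc_9_2 lc_b_rc_9_2 lc_b_rc_6_1 lc_b_rc_1_3 lc_b_rc_6_1 lc_b_rc_8_2 lc_b_rc_8_2 lc_b_rc_8_2 lc_b_rc_26_1 lc_b_rc_26_7 lc_b_rc_9_2 lc_b_rc_26_7 lc_b_rc_8_0 lc_b_rc_10_2 lc_b_rc_8_0 lc_b_rc_6_1 lc_b_rc_10_0 lc_b_rc_9_2 lc_b_rc_7_2 lc_b_rc_6_1 lc_b_rc_9_2 lc_b_rc_7_4 lc_b_rc_8_2) (@D3.rec (fun _ => (Cert rels S Gen.b)) lc_b_rc_8_2 lc_b_rc_26_5 lc_b_rc_8_2 lc_b_rc_9_0 lc_b_rc_26_5 lc_b_rc_6_1 lc_b_rc_6_1 lc_b_rc_8_0 lc_b_rc_1_5 lc_b_rc_8_2 lc_b_rc_8_0 lc_b_rc_10_2 lc_b_rc_9_2 lc_b_rc_7_2 lc_b_rc_26_5 lc_b_rc_9_2 lc_b_rc_7_0 lc_b_rc_6_1 lc_b_rc_6_1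 lc_b_rc_7_4 lc_b_rc_26_7 lc_b_rc_9_2 lc_b_rc_8_2 lc_b_rc_6_1 lc_b_Cert_tree lc_b_rc_8_2 lc_b_rc_9_2 lc_b_rc_26_7 lc_b_rc_8_2 lc_b_rc_25_4 lc_b_rc_6_1 lc_b_rc_1_5 lc_b_rc_10_2 lc_b_rc_9_2 lc_b_rc_6_1 lc_b_rc_9_2 lc_b_rc_6_1 lc_b_rc_8_2 lc_b_rc_6_1 lc_b_rc_7_0 lc_b_rc_10_2 lc_b_rc_8_2 lc_b_rc_1_3 lc_b_rc_6_1 lc_b_rc_26_5 lc_b_rc_9_2 lc_b_rc_26_5 lc_b_rc_1_5 lc_b_rc_9_0 lc_b_rc_9_0 lc_b_rc_1_5 lc_b_rc_6_1 lc_b_rc_9_2 lc_b_rc_1_3 lc_b_rc_1_5 lc_b_rc_25_12 lc_b_rc_10_2 lc_b_rc_26_5 lc_b_rc_6_1 lc_b_rc_6_1 lc_b_rc_9_2 lc_b_rc_6_1) (@D3.rec (fun _ => (Cert rels S Gen.b)) lc_b_rc_1_3 lc_b_rc_6_1 lc_b_rc_9_2 lc_b_rc_25_4 lc_b_rc_26_1 lc_b_rc_8_2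 lc_b_rc_7_4 lc_b_rc_6_1 lc_b_rc_7_2 lc_b_rc_9_2 lc_b_rc_6_1 lc_b_rc_26_5 lc_b_rc_6_1 lc_b_rc_7_0 lc_b_rc_8_2 lc_b_rc_9_2 lc_b_rc_26_5 lc_b_rc_7_2 lc_b_rc_26_1 lc_b_rc_7_2 lc_b_rc_9_2 lc_b_rc_6_1 lc_b_rc_6_1 lc_b_rc_26_5 lc_b_rc_26_7 lc_b_rc_7_2 lc_b_rc_9_2 lc_b_rc_6_1 lc_b_rc_26_7 lc_b_rc_9_0 lc_b_rc_8_2 lc_b_rc_6_1 lc_b_rc_6_1 lc_b_rc_8_0 lc_b_rc_8_2 lc_b_rc_8_2 lc_b_rc_9_2 lc_b_rc_6_1 lc_b_rc_10_2 lc_b_rc_9_2 lc_b_rc_8_2 lc_b_rc_10_2 lc_b_rc_7_2 lc_b_rc_9_2 lc_b_rc_10_2 lc_b_rc_6_1 lc_b_rc_8_2 lc_b_rc_10_2 lc_b_Cert_tree lc_b_rc_8_2 lc_b_rc_9_2 lc_b_rc_6_1 lc_b_rc_9_2 lc_b_rc_7_4 lc_b_rc_1_1 lc_b_rc_1_1 lc_b_rc_26_1 lc_b_rc_1_1 lc_b_rc_26_1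 lc_b_rc_6_1 lc_b_rc_6_1 lc_b_rc_8_2) (@D3.rec (fun _ => (Cert rels S Gen.b)) lc_b_rc_10_2 lc_b_rc_6_1 lc_b_rc_6_1 lc_b_rc_10_2 lc_b_rc_10_0 lc_b_rc_1_1 lc_b_rc_8_2 lc_b_rc_7_4 lc_b_rc_8_2 lc_b_rc_25_16 lc_b_rc_7_4 lc_b_rc_26_5 lc_b_rc_8_2 lc_b_rc_8_2 lc_b_rc_10_2 lc_b_rc_1_5 lc_b_rc_7_2 lc_b_rc_7_4 lc_b_rc_26_5 lc_b_rc_6_1 lc_b_rc_1_1 lc_b_rc_9_0 lc_b_rc_8_2 lc_b_rc_8_2 lc_b_rc_8_2 lc_b_rc_6_1 lc_b_rc_25_0 lc_b_rc_7_2 lc_b_rc_8_0 lc_b_rc_25_12 lc_b_rc_6_1 lc_b_rc_8_2 lc_b_rc_1_3 lc_b_rc_9_2 lc_b_rc_7_2 lc_b_rc_7_4 lc_b_rc_26_5 lc_b_rc_6_1 lc_b_rc_9_0 lc_b_rc_8_2 lc_b_rc_6_1 lc_b_rc_8_2 lc_b_rc_8_2 lc_b_rc_8_2 lc_b_rc_9_2 lc_b_rc_6_1 lc_b_rc_6_1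 lc_b_rc_9_2 lc_b_rc_26_5 lc_b_rc_8_2 lc_b_rc_1_3 lc_b_rc_9_2 lc_b_rc_25_8 lc_b_rc_7_0 lc_b_rc_26_5 lc_b_rc_6_1 lc_b_rc_8_2 lc_b_rc_8_2 lc_b_rc_1_1 lc_b_rc_26_1 lc_b_rc_9_2 lc_b_rc_9_0) (@D3.rec (fun _ => (Cert rels S Gen.b)) lc_b_rc_9_2 lc_b_rc_9_0 lc_b_rc_6_1 lc_b_rc_9_0 lc_b_rc_26_5 lc_b_rc_9_2 lc_b_rc_8_2 lc_b_rc_26_5 lc_b_rc_26_7 lc_b_rc_6_1 lc_b_rc_7_2 lc_b_rc_6_1 lc_b_rc_8_2 lc_b_rc_7_4 lc_b_rc_8_2 lc_b_rc_8_2 lc_b_rc_8_2 lc_b_rc_8_2 lc_b_rc_7_2 lc_b_rc_9_2 lc_b_rc_9_2 lc_b_rc_8_0 lc_b_rc_8_2 lc_b_rc_8_2 lc_b_rc_6_1 lc_b_rc_6_1 lc_b_rc_8_2 lc_b_rc_8_2 lc_b_Cert_tree lc_b_rc_7_4 lc_b_rc_25_0 lc_b_rc_9_2 lc_b_rc_9_2 lc_b_rc_1_3 lc_b_rc_8_2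 lc_b_rc_9_2 lc_b_rc_6_1 lc_b_rc_8_2 lc_b_rc_8_2 lc_b_rc_9_2 lc_b_rc_25_4 lc_b_rc_6_1 lc_b_rc_9_2 lc_b_rc_6_1 lc_b_rc_8_2 lc_b_rc_6_1 lc_b_rc_7_2 lc_b_rc_7_4 lc_b_rc_9_2 lc_b_rc_7_0 lc_b_rc_9_0 lc_b_rc_1_5 lc_b_rc_25_12 lc_b_rc_8_2 lc_b_rc_6_1 lc_b_rc_1_3 lc_b_rc_1_3 lc_b_rc_9_2 lc_b_rc_1_3 lc_b_rc_9_2 lc_b_rc_8_2 lc_b_rc_8_2) (@D3.rec (fun _ => (Cert rels S Gen.b)) lc_b_rc_26_5 lc_b_rc_6_1 lc_b_rc_9_2 lc_b_rc_6_1 lc_b_rc_7_0 lc_b_rc_6_1 lc_b_rc_6_1 lc_b_rc_7_0 lc_b_rc_6_1 lc_b_rc_8_2 lc_b_rc_1_3 lc_b_rc_6_1 lc_b_rc_8_2 lc_b_rc_26_1 lc_b_rc_6_1 lc_b_rc_26_5 lc_b_rc_26_5 lc_b_rc_8_0 lc_b_rc_6_1 lc_b_rc_8_0 lc_b_rc_7_0 lc_b_rc_6_1 lc_b_rc_6_1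 lc_b_rc_26_5 lc_b_rc_6_1 lc_b_rc_9_2 lc_b_rc_1_3 lc_b_rc_6_1 lc_b_rc_6_1 lc_b_rc_10_2 lc_b_rc_6_1 lc_b_rc_9_2 lc_b_rc_6_1 lc_b_rc_8_2 lc_b_rc_26_5 lc_b_rc_6_1 lc_b_rc_1_1 lc_b_rc_8_0 lc_b_rc_26_5 lc_b_rc_25_12 lc_b_rc_1_3 lc_b_rc_6_1 lc_b_rc_6_1 lc_b_rc_8_2 lc_b_rc_9_2 lc_b_rc_10_2 lc_b_rc_6_1 lc_b_rc_9_2 lc_b_Cert_tree lc_b_rc_8_2 lc_b_rc_8_2 lc_b_rc_1_5 lc_b_rc_9_2 lc_b_rc_9_0 lc_b_rc_8_2 lc_b_rc_6_1 lc_b_rc_26_5 lc_b_rc_8_2 lc_b_rc_9_2 lc_b_rc_6_1 lc_b_rc_9_0 lc_b_rc_1_5) (@D3.rec (fun _ => (Cert rels S Gen.b)) lc_b_rc_6_1 lc_b_rc_6_1 lc_b_rc_26_5 lc_b_rc_9_2 lc_b_rc_8_2 lc_b_rc_7_4 lc_b_rc_26_1 lc_b_rc_9_2 lc_b_rc_6_1 lc_b_rc_7_2 lc_b_rc_7_4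 lc_b_rc_7_0 lc_b_rc_7_4 lc_b_rc_26_5 lc_b_rc_8_2 lc_b_rc_6_1 lc_b_rc_9_2 lc_b_rc_8_2 lc_b_rc_6_1 lc_b_rc_1_3 lc_b_rc_8_2 lc_b_rc_9_2 lc_b_rc_9_2 lc_b_rc_8_2 lc_b_rc_8_2 lc_b_rc_7_4 lc_b_rc_1_3 lc_b_rc_6_1 lc_b_rc_8_2 lc_b_rc_26_1 lc_b_rc_6_1 lc_b_rc_8_2 lc_b_rc_26_7 lc_b_rc_9_2 lc_b_rc_7_0 lc_b_rc_10_2 lc_b_rc_26_1 lc_b_rc_6_1 lc_b_rc_6_1 lc_b_rc_8_2 lc_b_rc_8_2 lc_b_rc_26_7 lc_b_rc_9_2 lc_b_rc_26_1 lc_b_rc_9_2 lc_b_rc_9_0 lc_b_rc_10_2 lc_b_rc_6_1 lc_b_rc_6_1 lc_b_rc_9_2 lc_b_rc_8_2 lc_b_rc_6_1 lc_b_rc_1_1 lc_b_rc_8_2 lc_b_rc_9_2 lc_b_rc_7_2 lc_b_rc_26_7 lc_b_rc_25_4 lc_b_rc_9_0 lc_b_rc_9_2 lc_b_rc_7_4 lc_b_rc_8_2) (@D3.rec (fun _ => (Cert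 rels S Gen.b)) lc_b_rc_6_1 lc_b_rc_9_2 lc_b_rc_6_1 lc_b_rc_26_7 lc_b_rc_1_3 lc_b_rc_26_5 lc_b_rc_1_3 lc_b_rc_8_2 lc_b_rc_7_0 lc_b_rc_26_7 lc_b_rc_8_2 lc_b_rc_10_2 lc_b_rc_8_2 lc_b_rc_6_1 lc_b_rc_7_2 lc_b_rc_10_2 lc_b_rc_8_2 lc_b_rc_6_1 lc_b_rc_26_7 lc_b_rc_9_2 lc_b_rc_6_1 lc_b_rc_6_1 lc_b_rc_8_2 lc_b_rc_25_16 lc_b_rc_26_5 lc_b_rc_8_2 lc_b_rc_9_2 lc_b_rc_26_7 lc_b_rc_8_2 lc_b_rc_7_2 lc_b_rc_26_1 lc_b_rc_26_5 lc_b_rc_9_2 lc_b_rc_8_2 lc_b_rc_6_1 lc_b_rc_8_2 lc_b_rc_10_2 lc_b_rc_6_1 lc_b_rc_8_2 lc_b_rc_7_2 lc_b_rc_6_1 lc_b_rc_7_0 lc_b_rc_9_2 lc_b_rc_8_2 lc_b_rc_8_2 lc_b_rc_7_4 lc_b_rc_6_1 lc_b_rc_6_1 lc_b_rc_9_2 lc_b_rc_7_0 lc_b_rc_7_4 lc_b_rc_9_2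 lc_b_rc_6_1 lc_b_rc_7_0 lc_b_Cert_tree lc_b_rc_26_5 lc_b_rc_26_7 lc_b_rc_7_4 lc_b_rc_9_0 lc_b_rc_7_0 lc_b_rc_9_2 lc_b_rc_7_4) (@D3.rec (fun _ => (Cert rels S Gen.b)) lc_b_rc_1_5 lc_b_rc_8_2 lc_b_rc_6_1 lc_b_rc_6_1 lc_b_rc_6_1 lc_b_rc_26_5 lc_b_rc_7_4 lc_b_rc_8_2 lc_b_rc_9_2 lc_b_rc_7_4 lc_b_rc_6_1 lc_b_rc_25_16 lc_b_rc_26_5 lc_b_rc_1_1 lc_b_rc_8_2 lc_b_rc_6_1 lc_b_rc_8_2 lc_b_rc_10_2 lc_b_rc_1_5 lc_b_rc_8_2 lc_b_rc_9_2 lc_b_Cert_tree lc_b_rc_10_2 lc_b_rc_1_3 lc_b_rc_9_2 lc_b_rc_6_1 lc_b_rc_26_1 lc_b_rc_8_2 lc_b_rc_1_1 lc_b_rc_26_5 lc_b_rc_9_0 lc_b_rc_9_0 lc_b_rc_1_3 lc_b_rc_9_2 lc_b_rc_1_1 lc_b_rc_8_2 lc_b_rc_10_2 lc_b_rc_6_1 lc_b_rc_26_7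 lc_b_rc_26_5 lc_b_rc_8_2 lc_b_rc_6_1 lc_b_rc_26_5 lc_b_rc_10_2 lc_b_rc_9_0 lc_b_rc_7_4 lc_b_rc_8_2 lc_b_rc_9_2 lc_b_rc_10_0 lc_b_rc_8_0 lc_b_rc_9_2 lc_b_rc_1_1 lc_b_rc_8_2 lc_b_rc_9_2 lc_b_rc_10_0 lc_b_rc_6_1 lc_b_rc_7_2 lc_b_rc_9_2 lc_b_rc_6_1 lc_b_rc_6_1 lc_b_rc_1_1 lc_b_rc_8_2) (@D3.rec (fun _ => (Cert rels S Gen.b)) lc_b_rc_25_4 lc_b_rc_8_2 lc_b_rc_6_1 lc_b_rc_8_2 lc_b_rc_7_2 lc_b_Cert_tree lc_b_rc_8_0 lc_b_rc_9_0 lc_b_rc_9_2 lc_b_rc_7_2 lc_b_rc_7_4 lc_b_rc_10_0 lc_b_rc_8_2 lc_b_rc_7_4 lc_b_rc_6_1 lc_b_rc_8_2 lc_b_rc_8_2 lc_b_rc_8_2 lc_b_rc_8_2 lc_b_rc_6_1 lc_b_rc_6_1 lc_b_rc_1_3 lc_b_Cert_tree lc_b_rc_6_1 lc_b_rc_8_2 lc_b_rc_8_2 lc_b_rc_9_2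 lc_b_rc_7_4 lc_b_rc_6_1 lc_b_rc_25_0 lc_b_rc_6_1 lc_b_rc_8_2 lc_b_rc_8_0 lc_b_rc_8_2 lc_b_rc_9_2 lc_b_rc_8_2 lc_b_rc_9_2 lc_b_rc_10_0 lc_b_rc_9_2 lc_b_rc_9_2 lc_b_rc_8_0 lc_b_rc_6_1 lc_b_rc_8_2 lc_b_rc_8_2 lc_b_rc_6_1 lc_b_rc_1_5 lc_b_rc_9_0 lc_b_rc_8_2 lc_b_rc_10_2 lc_b_rc_9_0 lc_b_rc_10_2 lc_b_rc_26_5 lc_b_rc_9_2 lc_b_rc_8_2 lc_b_rc_8_2 lc_b_rc_8_2 lc_b_rc_9_2 lc_b_rc_6_1 lc_b_Cert_tree lc_b_rc_10_0 lc_b_rc_8_2 lc_b_rc_26_5) (@D3.rec (fun _ => (Cert rels S Gen.b)) lc_b_rc_26_1 lc_b_rc_26_5 lc_b_rc_25_12 lc_b_rc_6_1 lc_b_rc_7_4 lc_b_rc_1_5 lc_b_rc_7_4 lc_b_rc_6_1 lc_b_rc_26_1 lc_b_rc_8_2 lc_b_rc_8_2 lc_b_rc_9_2 lc_b_rc_6_1 lc_b_rc_7_4 lc_b_rc_26_1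 lc_b_rc_6_1 lc_b_rc_9_2 lc_b_rc_26_1 lc_b_rc_8_2 lc_b_rc_10_2 lc_b_rc_26_5 lc_b_rc_8_2 lc_b_rc_9_2 lc_b_rc_9_2 lc_b_rc_8_2 lc_b_rc_9_2 lc_b_rc_26_1 lc_b_rc_26_5 lc_b_rc_9_2 lc_b_rc_9_2 lc_b_rc_6_1 lc_b_rc_7_0 lc_b_rc_10_2 lc_b_rc_8_2 lc_b_rc_8_2 lc_b_rc_7_4 lc_b_rc_9_2 lc_b_rc_26_5 lc_b_rc_8_2 lc_b_rc_8_2 lc_b_rc_1_3 lc_b_rc_7_4 lc_b_rc_6_1 lc_b_rc_8_2 lc_b_rc_10_2 lc_b_rc_8_2 lc_b_rc_1_5 lc_b_rc_9_0 lc_b_rc_10_2 lc_b_rc_9_0 lc_b_rc_8_2 lc_b_rc_7_0 lc_b_rc_1_3 lc_b_rc_7_4 lc_b_rc_7_4 lc_b_rc_6_1 lc_b_rc_8_2 lc_b_rc_26_5 lc_b_rc_6_1 lc_b_rc_8_2 lc_b_rc_8_0 lc_b_rc_1_1) (@D3.rec (fun _ => (Cert rels S Gen.b)) lc_b_rc_8_2 lc_b_rc_9_2 lc_b_rc_9_0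 lc_b_Cert_tree lc_b_rc_8_0 lc_b_rc_8_0 lc_b_rc_8_2 lc_b_rc_26_5 lc_b_rc_9_2 lc_b_rc_9_2 lc_b_rc_26_5 lc_b_rc_9_0 lc_b_rc_1_5 lc_b_rc_6_1 lc_b_rc_6_1 lc_b_Cert_tree lc_b_rc_10_2 lc_b_rc_8_2 lc_b_rc_7_2 lc_b_rc_9_2 lc_b_rc_6_1 lc_b_rc_8_2 lc_b_rc_26_5 lc_b_rc_26_5 lc_b_rc_6_1 lc_b_rc_6_1 lc_b_rc_6_1 lc_b_rc_26_5 lc_b_rc_9_2 lc_b_rc_25_12 lc_b_rc_26_1 lc_b_rc_8_0 lc_b_rc_8_2 lc_b_rc_9_2 lc_b_rc_26_1 lc_b_rc_6_1 lc_b_rc_10_2 lc_b_rc_9_2 lc_b_rc_6_1 lc_b_rc_26_5 lc_b_rc_6_1 lc_b_rc_8_2 lc_b_rc_10_0 lc_b_rc_6_1 lc_b_rc_6_1 lc_b_rc_6_1 lc_b_rc_8_2 lc_b_rc_7_4 lc_b_rc_10_0 lc_b_Cert_tree lc_b_rc_10_2 lc_b_rc_6_1 lc_b_rc_1_3 lc_b_rc_8_2 lc_b_rc_9_0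 lc_b_rc_6_1 lc_b_rc_10_2 lc_b_rc_10_0 lc_b_rc_6_1 lc_b_rc_9_2 lc_b_rc_26_1 lc_b_Cert_tree) (@D3.rec (fun _ => (Cert rels S Gen.b)) lc_b_rc_1_5 lc_b_rc_8_2 lc_b_rc_6_1 lc_b_rc_9_0 lc_b_rc_1_3 lc_b_rc_8_2 lc_b_rc_6_1 lc_b_rc_8_0 lc_b_rc_9_0 lc_b_rc_9_2 lc_b_rc_1_1 lc_b_rc_8_2 lc_b_rc_6_1 lc_b_rc_10_2 lc_b_rc_8_0 lc_b_rc_25_8 lc_b_rc_7_0 lc_b_rc_8_0 lc_b_rc_9_2 lc_b_rc_26_5 lc_b_rc_7_2 lc_b_rc_8_2 lc_b_rc_26_5 lc_b_rc_10_2 lc_b_rc_6_1 lc_b_rc_8_0 lc_b_rc_6_1 lc_b_rc_26_5 lc_b_rc_6_1 lc_b_rc_26_5 lc_b_rc_9_2 lc_b_rc_9_2 lc_b_rc_10_2 lc_b_rc_1_3 lc_b_rc_8_2 lc_b_rc_25_4 lc_b_rc_9_2 lc_b_rc_26_7 lc_b_rc_9_2 lc_b_rc_6_1 lc_b_rc_9_2 lc_b_rc_1_3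 lc_b_rc_9_0 lc_b_rc_8_2 lc_b_rc_10_2 lc_b_rc_6_1 lc_b_rc_9_0 lc_b_rc_9_2 lc_b_rc_9_2 lc_b_rc_26_5 lc_b_rc_8_2 lc_b_rc_1_1 lc_b_rc_10_2 lc_b_rc_9_2 lc_b_rc_8_2 lc_b_rc_9_2 lc_b_rc_6_1 lc_b_rc_10_2 lc_b_rc_6_1 lc_b_rc_8_0 lc_b_rc_1_3 lc_b_rc_6_1) (@D3.rec (fun _ => (Cert rels S Gen.b)) lc_b_rc_6_1 lc_b_rc_6_1 lc_b_rc_9_2 lc_b_rc_8_2 lc_b_rc_9_0 lc_b_rc_6_1 lc_b_rc_6_1 lc_b_rc_7_4 lc_b_rc_6_1 lc_b_rc_6_1 lc_b_rc_10_2 lc_b_rc_6_1 lc_b_rc_26_7 lc_b_rc_6_1 lc_b_rc_8_2 lc_b_rc_6_1 lc_b_rc_10_2 lc_b_rc_1_3 lc_b_rc_1_5 lc_b_rc_6_1 lc_b_rc_8_2 lc_b_rc_6_1 lc_b_rc_9_2 lc_b_rc_6_1 lc_b_rc_8_2 lc_b_Cert_tree lc_b_rc_9_0 lc_b_rc_26_7 lc_b_rc_6_1 lc_b_rc_8_2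 lc_b_rc_9_2 lc_b_rc_9_2 lc_b_rc_9_2 lc_b_rc_1_5 lc_b_rc_6_1 lc_b_rc_7_4 lc_b_rc_8_2 lc_b_rc_9_2 lc_b_rc_26_5 lc_b_rc_10_2 lc_b_rc_6_1 lc_b_rc_26_7 lc_b_rc_9_0 lc_b_rc_9_2 lc_b_rc_8_2 lc_b_rc_6_1 lc_b_rc_26_1 lc_b_rc_26_7 lc_b_rc_10_2 lc_b_rc_9_2 lc_b_rc_26_1 lc_b_rc_8_0 lc_b_rc_6_1 lc_b_rc_25_8 lc_b_rc_25_12 lc_b_rc_6_1 lc_b_rc_8_2 lc_b_rc_6_1 lc_b_rc_9_2 lc_b_rc_9_2 lc_b_rc_6_1 lc_b_rc_6_1) (@D3.rec (fun _ => (Cert rels S Gen.b)) lc_b_rc_7_2 lc_b_rc_25_4 lc_b_rc_26_1 lc_b_rc_26_1 lc_b_rc_6_1 lc_b_rc_8_2 lc_b_rc_8_2 lc_b_rc_9_2 lc_b_rc_8_0 lc_b_rc_9_2 lc_b_rc_10_2 lc_b_rc_10_0 lc_b_rc_6_1 lc_b_rc_6_1 lc_b_rc_8_2 lc_b_rc_8_2 lc_b_rc_10_2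 lc_b_rc_1_3 lc_b_rc_6_1 lc_b_rc_9_2 lc_b_rc_8_2 lc_b_rc_26_7 lc_b_rc_8_2 lc_b_rc_7_4 lc_b_rc_7_4 lc_b_rc_9_0 lc_b_rc_1_5 lc_b_rc_8_0 lc_b_rc_9_2 lc_b_rc_8_0 lc_b_rc_9_2 lc_b_rc_8_2 lc_b_rc_6_1 lc_b_rc_6_1 lc_b_rc_8_2 lc_b_rc_9_2 lc_b_rc_6_1 lc_b_rc_6_1 lc_b_rc_8_0 lc_b_rc_1_5 lc_b_rc_9_2 lc_b_rc_9_2 lc_b_rc_9_0 lc_b_rc_8_2 lc_b_rc_8_2 lc_b_rc_10_2 lc_b_rc_6_1 lc_b_Cert_tree lc_b_rc_10_2 lc_b_rc_8_2 lc_b_rc_9_2 lc_b_rc_26_5 lc_b_rc_9_2 lc_b_rc_1_5 lc_b_rc_10_2 lc_b_rc_7_4 lc_b_rc_9_2 lc_b_rc_6_1 lc_b_rc_9_2 lc_b_rc_10_2 lc_b_rc_6_1 lc_b_rc_26_1) (@D3.rec (fun _ => (Cert rels S Gen.b)) lc_b_rc_9_0 lc_b_rc_6_1 lc_b_rc_8_2 lc_b_rc_9_2 lc_b_rc_7_2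 lc_b_rc_26_1 lc_b_rc_26_7 lc_b_rc_9_2 lc_b_rc_9_0 lc_b_rc_6_1 lc_b_rc_8_2 lc_b_rc_25_8 lc_b_rc_9_2 lc_b_rc_25_16 lc_b_rc_26_7 lc_b_rc_6_1 lc_b_rc_26_5 lc_b_rc_8_0 lc_b_rc_9_2 lc_b_rc_6_1 lc_b_rc_8_2 lc_b_rc_6_1 lc_b_rc_8_2 lc_b_rc_26_5 lc_b_rc_8_2 lc_b_rc_6_1 lc_b_rc_9_2 lc_b_rc_1_3 lc_b_rc_9_2 lc_b_rc_26_7 lc_b_rc_7_2 lc_b_rc_10_2 lc_b_rc_6_1 lc_b_rc_1_3 lc_b_rc_26_1 lc_b_rc_6_1 lc_b_rc_6_1 lc_b_rc_6_1 lc_b_rc_9_2 lc_b_rc_26_5 lc_b_rc_26_1 lc_b_rc_26_5 lc_b_rc_6_1 lc_b_rc_6_1 lc_b_rc_9_2 lc_b_rc_6_1 lc_b_rc_9_0 lc_b_rc_8_2 lc_b_rc_8_2 lc_b_Cert_tree lc_b_rc_8_2 lc_b_rc_8_0 lc_b_rc_8_2 lc_b_rc_8_2 lc_b_rc_1_3 lc_b_rc_26_1 lc_b_rc_9_2 lc_b_rc_8_2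 lc_b_rc_1_5 lc_b_rc_6_1 lc_b_rc_7_0 lc_b_rc_10_0) (@D3.rec (fun _ => (Cert rels S Gen.b)) lc_b_rc_8_2 lc_b_rc_10_2 lc_b_rc_8_2 lc_b_rc_6_1 lc_b_rc_9_2 lc_b_rc_7_2 lc_b_rc_7_4 lc_b_rc_9_2 lc_b_rc_9_2 lc_b_rc_8_2 lc_b_rc_6_1 lc_b_rc_9_2 lc_b_rc_8_2 lc_b_rc_1_5 lc_b_Cert_tree lc_b_rc_9_2 lc_b_rc_25_4 lc_b_rc_10_2 lc_b_rc_6_1 lc_b_rc_8_2 lc_b_rc_8_2 lc_b_rc_8_0 lc_b_rc_6_1 lc_b_Cert_tree lc_b_rc_10_2 lc_b_rc_8_2 lc_b_rc_8_0 lc_b_rc_6_1 lc_b_rc_7_2 lc_b_rc_10_2 lc_b_rc_7_0 lc_b_rc_7_0 lc_b_rc_6_1 lc_b_rc_8_2 lc_b_rc_9_0 lc_b_rc_9_2 lc_b_rc_6_1 lc_b_rc_26_7 lc_b_rc_9_2 lc_b_rc_7_4 lc_b_rc_9_2 lc_b_rc_7_4 lc_b_rc_10_2 lc_b_rc_6_1 lc_b_rc_9_2 lc_b_rc_9_0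 lc_b_rc_8_2 lc_b_rc_1_1 lc_b_rc_9_0 lc_b_rc_1_3 lc_b_rc_9_2 lc_b_rc_26_1 lc_b_rc_7_4 lc_b_rc_9_2 lc_b_rc_7_2 lc_b_rc_9_2 lc_b_rc_7_4 lc_b_rc_6_1 lc_b_rc_7_2 lc_b_rc_9_2 lc_b_rc_9_0 lc_b_rc_9_2) (@D3.rec (fun _ => (Cert rels S Gen.b)) lc_b_rc_6_1 lc_b_rc_1_1 lc_b_rc_6_1 lc_b_rc_6_1 lc_b_rc_10_2 lc_b_rc_6_1 lc_b_rc_7_2 lc_b_rc_26_1 lc_b_rc_8_2 lc_b_rc_6_1 lc_b_rc_6_1 lc_b_rc_10_2 lc_b_rc_1_3 lc_b_rc_8_2 lc_b_rc_8_0 lc_b_rc_6_1 lc_b_rc_1_5 lc_b_rc_10_0 lc_b_rc_6_1 lc_b_rc_8_0 lc_b_rc_8_2 lc_b_rc_8_0 lc_b_rc_26_7 lc_b_rc_8_2 lc_b_rc_26_1 lc_b_rc_10_2 lc_b_rc_7_0 lc_b_rc_6_1 lc_b_rc_8_2 lc_b_rc_6_1 lc_b_rc_8_2 lc_b_rc_10_2 lc_b_rc_1_3 lc_b_rc_6_1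 lc_b_rc_26_5 lc_b_rc_6_1 lc_b_rc_9_2 lc_b_rc_9_0 lc_b_rc_26_7 lc_b_rc_7_0 lc_b_rc_8_2 lc_b_rc_7_2 lc_b_rc_6_1 lc_b_rc_8_2 lc_b_rc_6_1 lc_b_rc_1_5 lc_b_rc_6_1 lc_b_rc_10_2 lc_b_rc_8_2 lc_b_rc_25_8 lc_b_rc_7_4 lc_b_rc_9_2 lc_b_rc_10_2 lc_b_rc_8_2 lc_b_rc_10_2 lc_b_rc_8_2 lc_b_rc_8_2 lc_b_rc_26_5 lc_b_rc_10_2 lc_b_rc_9_2 lc_b_rc_1_5 lc_b_Cert_tree) (@D3.rec (fun _ => (Cert rels S Gen.b)) lc_b_rc_6_1 lc_b_rc_9_2 lc_b_rc_26_1 lc_b_rc_7_4 lc_b_rc_7_4 lc_b_rc_8_2 lc_b_rc_6_1 lc_b_rc_7_0 lc_b_rc_6_1 lc_b_rc_25_8 lc_b_rc_9_0 lc_b_rc_6_1 lc_b_rc_1_5 lc_b_rc_26_5 lc_b_rc_26_5 lc_b_rc_26_7 lc_b_rc_6_1 lc_b_rc_26_5 lc_b_rc_8_2 lc_b_rc_26_1 lc_b_rc_9_2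 lc_b_rc_9_2 lc_b_rc_8_2 lc_b_Cert_tree lc_b_Cert_tree lc_b_rc_9_2 lc_b_Cert_tree lc_b_rc_6_1 lc_b_rc_26_5 lc_b_rc_7_4 lc_b_Cert_tree lc_b_rc_6_1 lc_b_rc_25_12 lc_b_rc_26_1 lc_b_rc_6_1 lc_b_rc_10_2 lc_b_rc_8_2 lc_b_rc_1_5 lc_b_rc_9_2 lc_b_rc_6_1 lc_b_rc_9_0 lc_b_rc_26_1 lc_b_rc_9_2 lc_b_rc_9_0 lc_b_rc_26_1 lc_b_Cert_tree lc_b_rc_8_2 lc_b_rc_6_1 lc_b_rc_9_2 lc_b_rc_9_2 lc_b_rc_6_1 lc_b_rc_6_1 lc_b_rc_6_1 lc_b_rc_8_2 lc_b_rc_9_2 lc_b_rc_6_1 lc_b_rc_7_0 lc_b_rc_26_1 lc_b_rc_1_5 lc_b_rc_26_7 lc_b_rc_1_5 lc_b_rc_26_5) (@D3.rec (fun _ => (Cert rels S Gen.b)) lc_b_rc_9_2 lc_b_rc_9_2 lc_b_rc_9_2 lc_b_rc_6_1 lc_b_rc_7_4 lc_b_rc_6_1 lc_b_rc_8_2 lc_b_rc_10_2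 lc_b_rc_9_2 lc_b_rc_8_2 lc_b_rc_9_2 lc_b_rc_8_2 lc_b_rc_6_1 lc_b_rc_9_0 lc_b_rc_6_1 lc_b_rc_26_1 lc_b_rc_1_5 lc_b_rc_8_2 lc_b_rc_26_5 lc_b_rc_8_2 lc_b_rc_9_2 lc_b_rc_6_1 lc_b_rc_8_2 lc_b_rc_9_0 lc_b_rc_8_2 lc_b_rc_1_5 lc_b_rc_9_2 lc_b_rc_26_1 lc_b_rc_8_2 lc_b_rc_1_3 lc_b_rc_7_4 lc_b_rc_26_5 lc_b_rc_9_2 lc_b_rc_7_0 lc_b_rc_9_2 lc_b_rc_10_2 lc_b_rc_26_5 lc_b_rc_26_5 lc_b_rc_8_2 lc_b_rc_7_4 lc_b_rc_9_2 lc_b_rc_26_7 lc_b_rc_7_0 lc_b_rc_26_7 lc_b_rc_26_1 lc_b_rc_6_1 lc_b_rc_8_0 lc_b_rc_6_1 lc_b_rc_9_2 lc_b_rc_8_2 lc_b_rc_8_0 lc_b_rc_6_1 lc_b_rc_7_4 lc_b_rc_26_1 lc_b_rc_6_1 lc_b_rc_1_3 lc_b_rc_8_2 lc_b_rc_7_2 lc_b_rc_6_1 lc_b_rc_7_4 lc_b_rc_1_3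 lc_b_rc_7_4) (@D3.rec (fun _ => (Cert rels S Gen.b)) lc_b_rc_6_1 lc_b_rc_8_2 lc_b_rc_26_7 lc_b_rc_7_2 lc_b_rc_7_2 lc_b_rc_1_3 lc_b_rc_6_1 lc_b_rc_9_2 lc_b_rc_6_1 lc_b_rc_9_2 lc_b_rc_26_1 lc_b_rc_6_1 lc_b_rc_8_2 lc_b_rc_8_2 lc_b_rc_9_2 lc_b_rc_26_5 lc_b_rc_9_2 lc_b_rc_6_1 lc_b_rc_1_5 lc_b_rc_9_2 lc_b_rc_6_1 lc_b_rc_26_5 lc_b_rc_9_2 lc_b_rc_26_5 lc_b_rc_8_2 lc_b_rc_1_3 lc_b_rc_6_1 lc_b_rc_6_1 lc_b_rc_8_2 lc_b_rc_1_3 lc_b_rc_6_1 lc_b_rc_9_2 lc_b_rc_9_2 lc_b_rc_9_2 lc_b_rc_9_2 lc_b_rc_6_1 lc_b_rc_6_1 lc_b_rc_9_2 lc_b_rc_8_2 lc_b_rc_9_2 lc_b_rc_9_2 lc_b_rc_8_2 lc_b_rc_26_7 lc_b_rc_26_1 lc_b_rc_26_5 lc_b_rc_6_1 lc_b_rc_26_5 lc_b_rc_26_5 lc_b_rc_6_1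 lc_b_rc_25_0 lc_b_rc_1_1 lc_b_rc_8_0 lc_b_rc_6_1 lc_b_rc_26_1 lc_b_rc_6_1 lc_b_rc_7_2 lc_b_rc_1_3 lc_b_rc_7_4 lc_b_rc_9_2 lc_b_Cert_tree lc_b_rc_9_2 lc_b_rc_26_5) (@D3.rec (fun _ => (Cert rels S Gen.b)) lc_b_rc_9_2 lc_b_rc_6_1 lc_b_rc_8_0 lc_b_rc_9_2 lc_b_rc_7_0 lc_b_rc_26_5 lc_b_rc_8_2 lc_b_rc_10_2 lc_b_rc_9_2 lc_b_rc_6_1 lc_b_rc_10_0 lc_b_rc_10_2 lc_b_rc_26_5 lc_b_rc_8_2 lc_b_rc_26_7 lc_b_rc_7_0 lc_b_rc_7_4 lc_b_rc_6_1 lc_b_rc_25_0 lc_b_rc_26_5 lc_b_Cert_tree lc_b_rc_8_2 lc_b_rc_6_1 lc_b_rc_10_2 lc_b_rc_7_2 lc_b_rc_9_2 lc_b_rc_1_3 lc_b_rc_9_2 lc_b_rc_1_3 lc_b_rc_8_2 lc_b_rc_8_0 lc_b_rc_9_2 lc_b_rc_9_2 lc_b_rc_1_5 lc_b_rc_6_1 lc_b_rc_8_2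 lc_b_rc_9_2 lc_b_rc_9_2 lc_b_rc_9_2 lc_b_rc_9_0 lc_b_rc_9_2 lc_b_rc_25_4 lc_b_rc_10_0 lc_b_rc_10_2 lc_b_rc_1_3 lc_b_rc_6_1 lc_b_rc_26_1 lc_b_rc_6_1 lc_b_rc_1_1 lc_b_rc_7_0 lc_b_rc_9_2 lc_b_rc_8_0 lc_b_rc_10_0 lc_b_rc_8_2 lc_b_rc_6_1 lc_b_rc_10_2 lc_b_rc_8_2 lc_b_rc_6_1 lc_b_rc_9_2 lc_b_rc_6_1 lc_b_rc_6_1 lc_b_rc_8_0) (@D3.rec (fun _ => (Cert rels S Gen.b)) lc_b_rc_9_2 lc_b_rc_6_1 lc_b_rc_26_1 lc_b_rc_10_2 lc_b_rc_6_1 lc_b_rc_8_0 lc_b_rc_9_2 lc_b_rc_6_1 lc_b_rc_8_2 lc_b_rc_9_0 lc_b_rc_9_2 lc_b_rc_26_1 lc_b_rc_6_1 lc_b_rc_26_7 lc_b_rc_7_4 lc_b_rc_9_2 lc_b_rc_6_1 lc_b_rc_6_1 lc_b_rc_9_0 lc_b_rc_10_2 lc_b_rc_6_1 lc_b_rc_9_2 lc_b_rc_26_5 lc_b_rc_8_2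 lc_b_rc_1_3 lc_b_rc_9_2 lc_b_rc_7_0 lc_b_rc_7_0 lc_b_rc_9_0 lc_b_rc_10_2 lc_b_rc_6_1 lc_b_rc_1_1 lc_b_rc_8_2 lc_b_rc_25_4 lc_b_rc_6_1 lc_b_rc_10_2 lc_b_rc_1_3 lc_b_rc_7_4 lc_b_rc_6_1 lc_b_rc_7_0 lc_b_rc_8_2 lc_b_rc_9_2 lc_b_rc_6_1 lc_b_rc_7_4 lc_b_rc_8_0 lc_b_rc_25_8 lc_b_rc_8_2 lc_b_rc_1_3 lc_b_rc_7_2 lc_b_rc_25_4 lc_b_rc_7_2 lc_b_rc_7_2 lc_b_rc_8_2 lc_b_rc_8_0 lc_b_rc_7_4 lc_b_rc_26_5 lc_b_rc_1_1 lc_b_rc_26_1 lc_b_rc_9_2 lc_b_rc_9_0 lc_b_rc_26_5 lc_b_rc_6_1) (@D3.rec (fun _ => (Cert rels S Gen.b)) lc_b_rc_6_1 lc_b_rc_26_7 lc_b_rc_7_2 lc_b_rc_9_2 lc_b_rc_8_0 lc_b_rc_10_2 lc_b_rc_8_2 lc_b_rc_8_0 lc_b_rc_26_1 lc_b_rc_8_2 lc_b_rc_9_2 lc_b_rc_8_2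 lc_b_rc_7_4 lc_b_rc_1_3 lc_b_rc_9_0 lc_b_rc_1_5 lc_b_rc_10_2 lc_b_rc_7_4 lc_b_rc_8_2 lc_b_rc_7_4 lc_b_rc_6_1 lc_b_rc_7_4 lc_b_rc_6_1 lc_b_rc_26_7 lc_b_rc_6_1 lc_b_rc_1_1 lc_b_rc_6_1 lc_b_rc_6_1 lc_b_rc_7_0 lc_b_rc_6_1 lc_b_rc_26_5 lc_b_rc_8_0 lc_b_rc_9_2 lc_b_rc_8_2 lc_b_rc_26_7 lc_b_rc_6_1 lc_b_rc_10_0 lc_b_rc_1_1 lc_b_rc_25_0 lc_b_rc_7_2 lc_b_rc_6_1 lc_b_rc_7_4 lc_b_rc_9_2 lc_b_rc_9_0 lc_b_rc_25_16 lc_b_rc_9_2 lc_b_rc_1_5 lc_b_rc_8_2 lc_b_rc_9_2 lc_b_rc_26_5 lc_b_rc_9_2 lc_b_rc_26_7 lc_b_rc_8_2 lc_b_rc_6_1 lc_b_rc_8_2 lc_b_rc_8_2 lc_b_rc_9_0 lc_b_Cert_tree lc_b_rc_6_1 lc_b_rc_9_2 lc_b_rc_6_1 lc_b_rc_10_2) (@D3.rec (fun _ => (Cert rels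 S Gen.b)) lc_b_rc_9_2 lc_b_rc_10_2 lc_b_rc_1_3 lc_b_rc_6_1 lc_b_rc_1_5 lc_b_Cert_tree lc_b_rc_26_1 lc_b_Cert_tree lc_b_rc_8_2 lc_b_rc_7_2 lc_b_Cert_tree lc_b_rc_9_2 lc_b_rc_9_0 lc_b_rc_26_5 lc_b_rc_8_2 lc_b_rc_6_1 lc_b_Cert_tree lc_b_rc_10_2 lc_b_rc_9_2 lc_b_rc_8_2 lc_b_Cert_tree lc_b_rc_6_1 lc_b_rc_26_1 lc_b_rc_6_1 lc_b_rc_9_0 lc_b_rc_8_0 lc_b_rc_25_12 lc_b_rc_10_0 lc_b_rc_8_0 lc_b_rc_6_1 lc_b_rc_26_7 lc_b_rc_6_1 lc_b_rc_25_16 lc_b_rc_10_0 lc_b_rc_6_1 lc_b_rc_7_0 lc_b_rc_7_0 lc_b_rc_9_2 lc_b_rc_8_2 lc_b_rc_9_2 lc_b_rc_26_7 lc_b_rc_6_1 lc_b_rc_10_2 lc_b_rc_6_1 lc_b_rc_8_2 lc_b_rc_26_7 lc_b_rc_8_2 lc_b_rc_8_2 lc_b_rc_8_2 lc_b_rc_26_5 lc_b_rc_9_2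 lc_b_rc_26_5 lc_b_rc_10_0 lc_b_rc_6_1 lc_b_rc_26_5 lc_b_rc_26_5 lc_b_rc_9_2 lc_b_rc_26_7 lc_b_rc_9_2 lc_b_rc_9_0 lc_b_rc_10_2 lc_b_rc_9_2) (@D3.rec (fun _ => (Cert rels S Gen.b)) lc_b_rc_8_2 lc_b_rc_9_2 lc_b_rc_8_2 lc_b_rc_10_0 lc_b_rc_9_2 lc_b_rc_8_2 lc_b_rc_26_5 lc_b_rc_6_1 lc_b_rc_8_2 lc_b_rc_9_2 lc_b_rc_6_1 lc_b_rc_9_2 lc_b_rc_1_1 lc_b_rc_26_5 lc_b_rc_6_1 lc_b_rc_10_2 lc_b_rc_9_2 lc_b_rc_6_1 lc_b_rc_26_1 lc_b_rc_9_2 lc_b_rc_9_0 lc_b_rc_8_2 lc_b_rc_8_2 lc_b_rc_6_1 lc_b_rc_1_1 lc_b_rc_9_2 lc_b_rc_1_5 lc_b_rc_9_2 lc_b_rc_7_2 lc_b_rc_9_2 lc_b_rc_9_2 lc_b_rc_1_5 lc_b_rc_9_2 lc_b_rc_6_1 lc_b_rc_7_4 lc_b_rc_1_5 lc_b_rc_8_0 lc_b_rc_1_3 lc_b_rc_1_3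 lc_b_rc_25_16 lc_b_rc_26_1 lc_b_rc_9_0 lc_b_rc_8_2 lc_b_rc_1_3 lc_b_rc_6_1 lc_b_rc_7_2 lc_b_rc_8_2 lc_b_rc_10_2 lc_b_rc_8_2 lc_b_rc_9_2 lc_b_rc_9_0 lc_b_rc_8_2 lc_b_rc_10_2 lc_b_rc_7_2 lc_b_rc_9_2 lc_b_rc_7_2 lc_b_rc_6_1 lc_b_rc_1_3 lc_b_rc_9_2 lc_b_rc_1_5 lc_b_rc_8_0 lc_b_rc_8_2) (@D3.rec (fun _ => (Cert rels S Gen.b)) lc_b_rc_10_2 lc_b_rc_8_2 lc_b_rc_6_1 lc_b_rc_8_2 lc_b_rc_7_0 lc_b_rc_10_2 lc_b_rc_8_0 lc_b_rc_26_7 lc_b_rc_8_0 lc_b_rc_8_0 lc_b_rc_1_3 lc_b_rc_6_1 lc_b_rc_7_4 lc_b_rc_10_0 lc_b_rc_8_0 lc_b_rc_9_2 lc_b_rc_9_2 lc_b_rc_26_7 lc_b_rc_8_2 lc_b_rc_9_0 lc_b_rc_8_2 lc_b_rc_10_2 lc_b_rc_6_1 lc_b_rc_26_1 lc_b_rc_26_1 lc_b_rc_7_0 lc_b_rc_10_2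 lc_b_rc_9_2 lc_b_rc_8_0 lc_b_rc_8_0 lc_b_rc_25_0 lc_b_rc_6_1 lc_b_rc_25_12 lc_b_rc_9_2 lc_b_Cert_tree lc_b_rc_6_1 lc_b_rc_8_2 lc_b_rc_8_2 lc_b_rc_26_5 lc_b_rc_6_1 lc_b_rc_6_1 lc_b_rc_25_4 lc_b_Cert_tree lc_b_rc_1_3 lc_b_rc_10_2 lc_b_rc_7_0 lc_b_rc_26_5 lc_b_rc_26_5 lc_b_rc_10_2 lc_b_rc_9_0 lc_b_rc_10_0 lc_b_rc_6_1 lc_b_rc_26_7 lc_b_rc_8_0 lc_b_rc_8_2 lc_b_rc_25_8 lc_b_rc_10_2 lc_b_rc_6_1 lc_b_rc_26_1 lc_b_rc_8_2 lc_b_rc_9_2 lc_b_rc_9_2) (@D3.rec (fun _ => (Cert rels S Gen.b)) lc_b_rc_8_0 lc_b_rc_25_0 lc_b_rc_8_2 lc_b_rc_1_5 lc_b_rc_26_5 lc_b_rc_10_2 lc_b_rc_6_1 lc_b_rc_6_1 lc_b_rc_26_5 lc_b_rc_9_0 lc_b_rc_7_2 lc_b_rc_6_1 lc_b_rc_8_2 lc_b_rc_10_2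 lc_b_rc_10_2 lc_b_rc_10_2 lc_b_rc_6_1 lc_b_rc_26_7 lc_b_rc_1_3 lc_b_rc_9_0 lc_b_rc_8_2 lc_b_rc_6_1 lc_b_rc_10_0 lc_b_rc_6_1 lc_b_rc_8_2 lc_b_rc_26_7 lc_b_rc_7_0 lc_b_rc_8_2 lc_b_rc_6_1 lc_b_rc_8_2 lc_b_rc_9_2 lc_b_rc_9_2 lc_b_rc_6_1 lc_b_rc_8_2 lc_b_rc_9_2 lc_b_rc_9_2 lc_b_rc_9_2 lc_b_rc_9_2 lc_b_rc_6_1 lc_b_rc_6_1 lc_b_rc_6_1 lc_b_rc_26_7 lc_b_rc_6_1 lc_b_rc_6_1 lc_b_rc_7_4 lc_b_rc_6_1 lc_b_rc_7_2 lc_b_rc_9_2 lc_b_rc_9_2 lc_b_rc_9_2 lc_b_rc_8_2 lc_b_rc_8_0 lc_b_rc_8_2 lc_b_rc_26_7 lc_b_rc_9_2 lc_b_rc_9_2 lc_b_rc_25_0 lc_b_rc_7_4 lc_b_rc_6_1 lc_b_rc_6_1 lc_b_rc_10_2 lc_b_rc_8_0) (@D3.rec (fun _ => (Cert rels S Gen.b)) lc_b_rc_9_2 lc_b_rc_8_2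 lc_b_rc_8_2 lc_b_rc_9_2 lc_b_rc_10_2 lc_b_rc_26_1 lc_b_rc_6_1 lc_b_rc_26_5 lc_b_rc_8_2 lc_b_rc_6_1 lc_b_rc_10_2 lc_b_rc_8_2 lc_b_rc_8_2 lc_b_rc_1_5 lc_b_rc_8_0 lc_b_rc_9_2 lc_b_rc_1_5 lc_b_rc_9_0 lc_b_rc_10_2 lc_b_rc_9_0 lc_b_rc_8_2 lc_b_rc_7_4 lc_b_rc_8_2 lc_b_rc_6_1 lc_b_rc_26_5 lc_b_rc_9_0 lc_b_rc_9_0 lc_b_rc_9_0 lc_b_rc_8_2 lc_b_rc_6_1 lc_b_rc_6_1 lc_b_rc_26_1 lc_b_rc_8_2 lc_b_rc_9_2 lc_b_rc_8_2 lc_b_rc_6_1 lc_b_rc_9_2 lc_b_rc_6_1 lc_b_rc_7_2 lc_b_rc_6_1 lc_b_rc_8_2 lc_b_rc_6_1 lc_b_rc_6_1 lc_b_rc_10_0 lc_b_rc_8_0 lc_b_Cert_tree lc_b_rc_8_2 lc_b_rc_8_2 lc_b_rc_6_1 lc_b_rc_7_4 lc_b_rc_8_2 lc_b_rc_7_2 lc_b_rc_10_2 lc_b_rc_25_4 lc_b_rc_7_0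 lc_b_rc_6_1 lc_b_rc_9_0 lc_b_rc_6_1 lc_b_rc_26_7 lc_b_rc_9_2 lc_b_rc_6_1 lc_b_rc_10_2) (@D3.rec (fun _ => (Cert rels S Gen.b)) lc_b_rc_26_5 lc_b_rc_8_2 lc_b_rc_1_3 lc_b_rc_9_2 lc_b_rc_9_0 lc_b_rc_6_1 lc_b_rc_7_4 lc_b_rc_9_2 lc_b_rc_26_7 lc_b_rc_8_2 lc_b_rc_10_2 lc_b_rc_10_2 lc_b_rc_26_1 lc_b_rc_26_5 lc_b_rc_6_1 lc_b_rc_1_3 lc_b_rc_9_2 lc_b_Cert_tree lc_b_rc_7_0 lc_b_rc_10_2 lc_b_rc_8_2 lc_b_rc_10_2 lc_b_rc_7_2 lc_b_rc_26_7 lc_b_rc_10_2 lc_b_rc_9_2 lc_b_rc_10_2 lc_b_rc_9_2 lc_b_rc_26_5 lc_b_rc_10_2 lc_b_rc_6_1 lc_b_rc_6_1 lc_b_rc_8_2 lc_b_rc_6_1 lc_b_rc_6_1 lc_b_rc_9_2 lc_b_rc_7_4 lc_b_rc_6_1 lc_b_rc_6_1 lc_b_rc_7_0 lc_b_rc_8_2 lc_b_rc_9_2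 lc_b_rc_8_0 lc_b_rc_8_2 lc_b_rc_10_2 lc_b_rc_6_1 lc_b_rc_8_0 lc_b_rc_6_1 lc_b_rc_9_2 lc_b_rc_1_3 lc_b_rc_1_5 lc_b_rc_8_2 lc_b_Cert_tree lc_b_rc_7_4 lc_b_rc_9_2 lc_b_rc_7_4 lc_b_rc_1_3 lc_b_rc_9_2 lc_b_rc_25_0 lc_b_rc_10_0 lc_b_rc_8_2 lc_b_rc_1_3) (@D3.rec (fun _ => (Cert rels S Gen.b)) lc_b_rc_8_2 lc_b_Cert_tree lc_b_rc_6_1 lc_b_rc_8_2 lc_b_rc_7_0 lc_b_rc_6_1 lc_b_Cert_tree lc_b_rc_26_5 lc_b_Cert_tree lc_b_rc_6_1 lc_b_rc_26_5 lc_b_rc_7_4 lc_b_rc_8_2 lc_b_Cert_tree lc_b_rc_1_3 lc_b_rc_9_2 lc_b_rc_9_2 lc_b_rc_8_2 lc_b_rc_10_2 lc_b_rc_6_1 lc_b_rc_1_1 lc_b_rc_6_1 lc_b_rc_6_1 lc_b_rc_8_2 lc_b_rc_1_1 lc_b_rc_9_0 lc_b_rc_8_0 lc_b_rc_8_2 lc_b_rc_6_1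 lc_b_rc_1_3 lc_b_rc_25_16 lc_b_rc_6_1 lc_b_rc_25_16 lc_b_rc_10_2 lc_b_rc_7_4 lc_b_rc_10_2 lc_b_rc_26_7 lc_b_rc_6_1 lc_b_rc_26_5 lc_b_rc_6_1 lc_b_rc_9_2 lc_b_rc_6_1 lc_b_rc_8_0 lc_b_rc_7_4 lc_b_rc_8_2 lc_b_rc_9_2 lc_b_rc_26_5 lc_b_rc_9_2 lc_b_rc_1_3 lc_b_rc_10_2 lc_b_rc_7_2 lc_b_rc_8_2 lc_b_rc_9_2 lc_b_rc_9_2 lc_b_rc_6_1 lc_b_rc_9_2 lc_b_rc_1_5 lc_b_rc_1_3 lc_b_rc_9_0 lc_b_rc_7_0 lc_b_rc_9_2 lc_b_rc_6_1) (@D3.rec (fun _ => (Cert rels S Gen.b)) lc_b_rc_8_2 lc_b_rc_1_3 lc_b_rc_26_7 lc_b_rc_8_2 lc_b_rc_8_0 lc_b_rc_26_5 lc_b_rc_10_2 lc_b_rc_1_3 lc_b_rc_8_2 lc_b_rc_25_8 lc_b_rc_9_2 lc_b_rc_1_1 lc_b_rc_9_2 lc_b_rc_8_0 lc_b_rc_8_2 lc_b_rc_6_1 lc_b_rc_9_0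 lc_b_rc_6_1 lc_b_rc_6_1 lc_b_rc_9_2 lc_b_rc_26_7 lc_b_rc_26_1 lc_b_rc_9_2 lc_b_rc_7_2 lc_b_rc_8_0 lc_b_rc_9_0 lc_b_rc_9_2 lc_b_rc_7_0 lc_b_rc_10_2 lc_b_rc_9_0 lc_b_rc_9_2 lc_b_rc_9_0 lc_b_rc_8_0 lc_b_rc_10_2 lc_b_rc_10_2 lc_b_rc_26_5 lc_b_rc_6_1 lc_b_rc_1_3 lc_b_rc_9_2 lc_b_rc_6_1 lc_b_rc_7_4 lc_b_rc_8_2 lc_b_rc_7_2 lc_b_rc_9_2 lc_b_rc_8_2 lc_b_rc_1_3 lc_b_rc_1_1 lc_b_rc_9_2 lc_b_rc_6_1 lc_b_rc_8_2 lc_b_rc_10_2 lc_b_rc_1_5 lc_b_rc_8_2 lc_b_rc_9_0 lc_b_rc_8_2 lc_b_rc_8_2 lc_b_rc_6_1 lc_b_rc_26_7 lc_b_rc_10_2 lc_b_rc_9_2 lc_b_rc_25_0 lc_b_rc_25_4) (@D3.rec (fun _ => (Cert rels S Gen.b)) lc_b_rc_8_2 lc_b_rc_9_2 lc_b_rc_25_0 lc_b_rc_25_4 lc_b_rc_7_4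 lc_b_rc_26_5 lc_b_rc_7_0 lc_b_rc_9_0 lc_b_rc_8_0 lc_b_rc_7_4 lc_b_rc_7_4 lc_b_rc_26_5 lc_b_rc_6_1 lc_b_rc_26_7 lc_b_rc_6_1 lc_b_rc_26_5 lc_b_rc_6_1 lc_b_rc_25_4 lc_b_rc_8_0 lc_b_rc_26_5 lc_b_rc_6_1 lc_b_rc_6_1 lc_b_rc_26_1 lc_b_rc_26_5 lc_b_Cert_tree lc_b_rc_6_1 lc_b_rc_26_1 lc_b_rc_7_0 lc_b_rc_1_3 lc_b_rc_6_1 lc_b_rc_7_2 lc_b_rc_9_2 lc_b_rc_6_1 lc_b_rc_26_5 lc_b_rc_26_5 lc_b_rc_9_2 lc_b_rc_6_1 lc_b_rc_9_2 lc_b_rc_8_0 lc_b_rc_7_2 lc_b_rc_9_2 lc_b_rc_8_2 lc_b_rc_9_2 lc_b_rc_6_1 lc_b_rc_7_2 lc_b_rc_8_0 lc_b_rc_26_5 lc_b_rc_9_2 lc_b_rc_1_3 lc_b_rc_7_4 lc_b_rc_1_3 lc_b_rc_7_2 lc_b_rc_9_2 lc_b_rc_9_0 lc_b_rc_8_0 lc_b_rc_9_2 lc_b_rc_6_1 lc_b_rc_8_2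 lc_b_rc_8_2 lc_b_rc_1_5 lc_b_Cert_tree lc_b_Cert_tree) (@D3.rec (fun _ => (Cert rels S Gen.b)) lc_b_Cert_tree lc_b_rc_26_7 lc_b_rc_8_2 lc_b_rc_8_2 lc_b_rc_10_2 lc_b_rc_6_1 lc_b_Cert_tree lc_b_rc_26_5 lc_b_rc_7_2 lc_b_rc_7_4 lc_b_rc_6_1 lc_b_rc_10_2 lc_b_rc_8_2 lc_b_rc_8_2 lc_b_rc_25_4 lc_b_rc_9_2 lc_b_rc_6_1 lc_b_rc_9_0 lc_b_rc_26_1 lc_b_rc_9_2 lc_b_rc_6_1 lc_b_rc_8_2 lc_b_rc_7_2 lc_b_rc_9_2 lc_b_rc_6_1 lc_b_rc_26_7 lc_b_rc_6_1 lc_b_rc_6_1 lc_b_rc_26_5 lc_b_rc_9_2 lc_b_rc_7_0 lc_b_rc_10_2 lc_b_rc_6_1 lc_b_rc_6_1 lc_b_rc_8_2 lc_b_rc_6_1 lc_b_rc_10_2 lc_b_rc_1_1 lc_b_rc_1_3 lc_b_rc_10_2 lc_b_rc_9_2 lc_b_rc_6_1 lc_b_rc_10_2 lc_b_rc_6_1 lc_b_rc_26_7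 lc_b_rc_26_7 lc_b_rc_10_0 lc_b_rc_8_2 lc_b_rc_1_3 lc_b_rc_8_2 lc_b_rc_26_5 lc_b_rc_1_1 lc_b_rc_1_3 lc_b_rc_8_2 lc_b_rc_9_2 lc_b_rc_26_1 lc_b_rc_8_2 lc_b_rc_6_1 lc_b_rc_8_2 lc_b_rc_9_2 lc_b_rc_7_4 lc_b_rc_6_1) (@D3.rec (fun _ => (Cert rels S Gen.b)) lc_b_rc_9_0 lc_b_rc_26_7 lc_b_rc_9_2 lc_b_rc_1_3 lc_b_rc_8_2 lc_b_rc_9_2 lc_b_rc_7_4 lc_b_rc_26_1 lc_b_rc_6_1 lc_b_rc_7_4 lc_b_rc_7_0 lc_b_rc_6_1 lc_b_rc_6_1 lc_b_rc_8_2 lc_b_rc_6_1 lc_b_rc_8_0 lc_b_rc_25_4 lc_b_rc_8_2 lc_b_rc_8_0 lc_b_rc_25_16 lc_b_rc_8_2 lc_b_rc_1_3 lc_b_rc_6_1 lc_b_rc_8_2 lc_b_rc_6_1 lc_b_rc_9_2 lc_b_rc_8_2 lc_b_rc_8_2 lc_b_rc_8_2 lc_b_rc_7_4 lc_b_rc_6_1 lc_b_rc_7_4 lc_b_rc_8_2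 lc_b_rc_6_1 lc_b_rc_26_5 lc_b_rc_8_2 lc_b_rc_7_2 lc_b_rc_10_2 lc_b_rc_7_0 lc_b_rc_6_1 lc_b_rc_9_2 lc_b_rc_26_7 lc_b_rc_8_2 lc_b_rc_26_1 lc_b_rc_26_7 lc_b_rc_25_4 lc_b_rc_9_2 lc_b_rc_7_2 lc_b_rc_8_2 lc_b_rc_9_2 lc_b_rc_9_2 lc_b_rc_26_5 lc_b_rc_26_1 lc_b_rc_6_1 lc_b_rc_10_2 lc_b_rc_6_1 lc_b_rc_26_1 lc_b_rc_6_1 lc_b_rc_26_1 lc_b_rc_1_5 lc_b_rc_8_0 lc_b_rc_7_0) (@D3.rec (fun _ => (Cert rels S Gen.b)) lc_b_rc_8_2 lc_b_rc_10_2 lc_b_rc_26_1 lc_b_rc_8_2 lc_b_rc_9_2 lc_b_rc_6_1 lc_b_rc_26_1 lc_b_rc_8_2 lc_b_rc_6_1 lc_b_rc_9_0 lc_b_Cert_tree lc_b_rc_10_2 lc_b_rc_8_2 lc_b_rc_8_2 lc_b_rc_9_2 lc_b_Cert_tree lc_b_rc_10_2 lc_b_rc_6_1 lc_b_rc_26_1 lc_b_rc_10_2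 lc_b_rc_9_2 lc_b_rc_8_2 lc_b_rc_9_2 lc_b_rc_25_4 lc_b_rc_26_7 lc_b_rc_26_1 lc_b_rc_9_2 lc_b_rc_8_2 lc_b_rc_9_2 lc_b_rc_25_4 lc_b_rc_8_2 lc_b_rc_8_2 lc_b_rc_7_4 lc_b_rc_26_1 lc_b_rc_8_0 lc_b_rc_6_1 lc_b_rc_6_1 lc_b_rc_6_1 lc_b_rc_7_4 lc_b_rc_7_0 lc_b_Cert_tree lc_b_rc_1_1 lc_b_rc_7_2 lc_b_rc_9_2 lc_b_rc_10_2 lc_b_rc_8_0 lc_b_rc_26_5 lc_b_rc_9_2 lc_b_rc_6_1 lc_b_rc_26_7 lc_b_rc_8_2 lc_b_rc_10_2 lc_b_rc_6_1 lc_b_rc_26_5 lc_b_rc_8_0 lc_b_rc_6_1 lc_b_rc_26_5 lc_b_rc_26_1 lc_b_rc_9_2 lc_b_rc_26_5 lc_b_rc_6_1 lc_b_rc_8_2) (@D3.rec (fun _ => (Cert rels S Gen.b)) lc_b_rc_7_0 lc_b_rc_26_1 lc_b_rc_9_0 lc_b_rc_8_2 lc_b_rc_8_2 lc_b_rc_9_2 lc_b_rc_8_2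 lc_b_rc_8_2 lc_b_rc_8_0 lc_b_rc_7_4 lc_b_rc_9_0 lc_b_rc_8_2 lc_b_rc_6_1 lc_b_rc_9_0 lc_b_rc_1_5 lc_b_rc_6_1 lc_b_rc_6_1 lc_b_rc_26_1 lc_b_rc_6_1 lc_b_rc_8_0 lc_b_rc_8_0 lc_b_rc_1_3 lc_b_rc_6_1 lc_b_rc_9_0 lc_b_rc_8_2 lc_b_rc_9_2 lc_b_rc_1_3 lc_b_rc_8_0 lc_b_rc_8_2 lc_b_rc_9_2 lc_b_rc_6_1 lc_b_rc_8_2 lc_b_rc_26_1 lc_b_rc_9_0 lc_b_rc_9_0 lc_b_rc_9_2 lc_b_rc_9_2 lc_b_rc_7_4 lc_b_rc_6_1 lc_b_rc_26_5 lc_b_rc_6_1 lc_b_rc_26_5 lc_b_rc_9_0 lc_b_rc_26_1 lc_b_rc_6_1 lc_b_rc_8_2 lc_b_rc_26_1 lc_b_rc_8_0 lc_b_rc_6_1 lc_b_rc_8_2 lc_b_rc_9_2 lc_b_rc_26_5 lc_b_rc_8_2 lc_b_rc_26_7 lc_b_rc_7_2 lc_b_rc_10_2 lc_b_rc_9_0 lc_b_rc_26_1 lc_b_rc_26_7 lc_b_rc_6_1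 lc_b_rc_9_2 lc_b_rc_8_2) (@D3.rec (fun _ => (Cert rels S Gen.b)) lc_b_rc_10_2 lc_b_rc_8_0 lc_b_rc_1_5 lc_b_rc_6_1 lc_b_rc_7_4 lc_b_rc_1_3 lc_b_rc_26_1 lc_b_rc_6_1 lc_b_rc_10_2 lc_b_rc_6_1 lc_b_rc_8_2 lc_b_rc_7_2 lc_b_rc_9_2 lc_b_rc_7_2 lc_b_rc_1_3 lc_b_rc_26_5 lc_b_rc_6_1 lc_b_rc_26_5 lc_b_rc_6_1 lc_b_rc_1_1 lc_b_rc_8_2 lc_b_Cert_tree lc_b_rc_26_7 lc_b_rc_1_3 lc_b_rc_10_2 lc_b_rc_6_1 lc_b_Cert_tree lc_b_rc_1_1 lc_b_rc_10_2 lc_b_rc_1_1 lc_b_rc_8_2 lc_b_rc_10_0 lc_b_rc_9_0 lc_b_rc_9_0 lc_b_rc_8_0 lc_b_rc_8_2 lc_b_rc_6_1 lc_b_rc_8_2 lc_b_rc_6_1 lc_b_rc_9_0 lc_b_Cert_tree lc_b_rc_8_2 lc_b_rc_6_1 lc_b_rc_8_2 lc_b_rc_6_1 lc_b_rc_1_3 lc_b_rc_9_2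 lc_b_rc_26_5 lc_b_rc_1_3 lc_b_rc_7_2 lc_b_rc_8_2 lc_b_rc_7_4 lc_b_rc_6_1 lc_b_rc_1_3 lc_b_Cert_tree lc_b_rc_7_4 lc_b_rc_6_1 lc_b_rc_9_2 lc_b_rc_7_4 lc_b_rc_9_2 lc_b_rc_8_2 lc_b_rc_7_2) (@D3.rec (fun _ => (Cert rels S Gen.b)) lc_b_rc_9_2 lc_b_rc_26_7 lc_b_rc_8_2 lc_b_rc_6_1 lc_b_rc_7_2 lc_b_rc_26_1 lc_b_rc_1_5 lc_b_rc_6_1 lc_b_rc_26_7 lc_b_rc_1_5 lc_b_rc_26_5 lc_b_rc_7_0 lc_b_rc_9_0 lc_b_rc_7_2 lc_b_rc_10_2 lc_b_rc_8_2 lc_b_rc_6_1 lc_b_rc_8_2 lc_b_rc_10_0 lc_b_rc_10_2 lc_b_rc_25_0 lc_b_rc_8_2 lc_b_rc_9_2 lc_b_rc_25_4 lc_b_rc_9_2 lc_b_rc_8_2 lc_b_rc_8_2 lc_b_rc_6_1 lc_b_rc_26_1 lc_b_rc_9_0 lc_b_rc_8_2 lc_b_rc_10_2 lc_b_rc_9_0 lc_b_rc_9_2 lc_b_rc_6_1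 lc_b_rc_26_5 lc_b_rc_10_0 lc_b_rc_6_1 lc_b_rc_6_1 lc_b_rc_26_5 lc_b_rc_6_1 lc_b_rc_7_2 lc_b_rc_10_0 lc_b_rc_6_1 lc_b_rc_9_2 lc_b_rc_8_2 lc_b_rc_8_0 lc_b_rc_6_1 lc_b_rc_7_2 lc_b_rc_8_0 lc_b_rc_9_2 lc_b_rc_8_2 lc_b_rc_10_2 lc_b_rc_7_4 lc_b_rc_8_0 lc_b_rc_26_5 lc_b_rc_1_1 lc_b_rc_10_2 lc_b_rc_9_0 lc_b_rc_6_1 lc_b_rc_25_4 lc_b_rc_26_1) (@D3.rec (fun _ => (Cert rels S Gen.b)) lc_b_rc_8_2 lc_b_rc_8_0 lc_b_rc_25_12 lc_b_rc_7_0 lc_b_rc_6_1 lc_b_rc_9_0 lc_b_rc_6_1 lc_b_rc_26_1 lc_b_rc_9_2 lc_b_rc_9_2 lc_b_rc_6_1 lc_b_rc_10_2 lc_b_rc_7_0 lc_b_rc_8_2 lc_b_rc_9_2 lc_b_rc_6_1 lc_b_rc_8_2 lc_b_rc_26_7 lc_b_rc_6_1 lc_b_Cert_tree lc_b_rc_7_4 lc_b_rc_9_2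 lc_b_rc_26_1 lc_b_rc_9_2 lc_b_rc_8_2 lc_b_rc_8_2 lc_b_Cert_tree lc_b_rc_6_1 lc_b_rc_7_0 lc_b_rc_6_1 lc_b_rc_8_2 lc_b_rc_9_0 lc_b_rc_1_3 lc_b_rc_8_2 lc_b_rc_9_2 lc_b_rc_6_1 lc_b_rc_9_2 lc_b_rc_6_1 lc_b_rc_7_4 lc_b_rc_10_2 lc_b_Cert_tree lc_b_rc_7_4 lc_b_Cert_tree lc_b_rc_6_1 lc_b_rc_26_5 lc_b_rc_1_5 lc_b_rc_26_5 lc_b_rc_1_3 lc_b_rc_6_1 lc_b_rc_9_2 lc_b_rc_6_1 lc_b_rc_7_0 lc_b_rc_7_0 lc_b_rc_8_2 lc_b_rc_10_2 lc_b_rc_10_0 lc_b_rc_7_4 lc_b_rc_25_4 lc_b_rc_10_0 lc_b_rc_9_0 lc_b_rc_6_1 lc_b_rc_26_5) (@D3.rec (fun _ => (Cert rels S Gen.b)) lc_b_rc_10_2 lc_b_rc_8_2 lc_b_Cert_tree lc_b_rc_9_2 lc_b_rc_26_1 lc_b_rc_8_2 lc_b_rc_9_0 lc_b_Cert_tree lc_b_rc_9_2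 lc_b_rc_6_1 lc_b_rc_8_2 lc_b_rc_26_1 lc_b_rc_6_1 lc_b_rc_26_7 lc_b_rc_7_2 lc_b_rc_8_2 lc_b_rc_9_2 lc_b_rc_1_3 lc_b_rc_9_2 lc_b_rc_26_5 lc_b_rc_9_2 lc_b_rc_10_2 lc_b_rc_10_2 lc_b_rc_9_2 lc_b_rc_6_1 lc_b_rc_8_2 lc_b_rc_26_5 lc_b_rc_6_1 lc_b_rc_10_2 lc_b_rc_6_1 lc_b_rc_6_1 lc_b_rc_6_1 lc_b_rc_7_2 lc_b_rc_26_1 lc_b_rc_10_2 lc_b_rc_9_2 lc_b_rc_9_0 lc_b_rc_8_0 lc_b_rc_9_0 lc_b_rc_1_5 lc_b_rc_7_0 lc_b_rc_26_5 lc_b_rc_8_2 lc_b_rc_10_2 lc_b_rc_6_1 lc_b_rc_6_1 lc_b_rc_8_0 lc_b_rc_6_1 lc_b_rc_8_2 lc_b_rc_9_2 lc_b_rc_9_2 lc_b_rc_8_2 lc_b_rc_9_2 lc_b_rc_8_2 lc_b_rc_25_4 lc_b_rc_6_1 lc_b_rc_8_2 lc_b_rc_9_2 lc_b_rc_1_5 lc_b_rc_1_5 lc_b_rc_1_1 lc_b_Cert_tree)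 (@D3.rec (fun _ => (Cert rels S Gen.b)) lc_b_rc_26_7 lc_b_rc_25_4 lc_b_rc_6_1 lc_b_rc_26_7 lc_b_rc_1_5 lc_b_rc_7_4 lc_b_rc_6_1 lc_b_rc_8_2 lc_b_rc_7_4 lc_b_rc_8_2 lc_b_rc_6_1 lc_b_rc_26_5 lc_b_rc_26_5 lc_b_rc_26_5 lc_b_rc_10_2 lc_b_rc_9_2 lc_b_rc_6_1 lc_b_rc_1_5 lc_b_rc_26_1 lc_b_rc_8_2 lc_b_rc_6_1 lc_b_rc_7_4 lc_b_rc_9_2 lc_b_rc_6_1 lc_b_rc_26_5 lc_b_rc_6_1 lc_b_rc_26_5 lc_b_rc_9_2 lc_b_rc_1_3 lc_b_rc_8_2 lc_b_rc_9_2 lc_b_rc_6_1 lc_b_rc_9_0 lc_b_rc_9_2 lc_b_rc_7_4 lc_b_rc_9_2 lc_b_rc_7_4 lc_b_rc_8_2 lc_b_rc_9_0 lc_b_rc_9_2 lc_b_rc_1_3 lc_b_rc_26_1 lc_b_rc_25_0 lc_b_rc_7_4 lc_b_Cert_tree lc_b_rc_9_2 lc_b_rc_25_8 lc_b_rc_10_2 lc_b_rc_26_1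 lc_b_rc_8_2 lc_b_rc_8_2 lc_b_rc_8_0 lc_b_rc_6_1 lc_b_rc_9_2 lc_b_rc_8_0 lc_b_rc_8_0 lc_b_rc_8_2 lc_b_rc_7_2 lc_b_rc_25_12 lc_b_rc_9_0 lc_b_rc_6_1 lc_b_rc_26_1) (@D3.rec (fun _ => (Cert rels S Gen.b)) lc_b_rc_8_2 lc_b_rc_10_2 lc_b_rc_10_0 lc_b_rc_26_5 lc_b_rc_1_5 lc_b_rc_9_0 lc_b_rc_1_3 lc_b_rc_26_1 lc_b_rc_1_5 lc_b_rc_8_2 lc_b_rc_7_2 lc_b_rc_9_2 lc_b_rc_26_1 lc_b_rc_10_2 lc_b_rc_9_0 lc_b_rc_1_5 lc_b_rc_1_3 lc_b_rc_6_1 lc_b_rc_8_2 lc_b_rc_7_4 lc_b_rc_8_2 lc_b_rc_6_1 lc_b_rc_25_0 lc_b_rc_8_2 lc_b_rc_10_2 lc_b_rc_6_1 lc_b_rc_9_0 lc_b_rc_6_1 lc_b_rc_6_1 lc_b_rc_1_3 lc_b_rc_8_2 lc_b_rc_9_2 lc_b_rc_1_3 lc_b_rc_25_4 lc_b_rc_6_1 lc_b_rc_26_7 lc_b_rc_6_1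 lc_b_rc_10_0 lc_b_rc_26_7 lc_b_rc_25_4 lc_b_rc_9_2 lc_b_rc_1_5 lc_b_rc_1_1 lc_b_rc_9_2 lc_b_rc_6_1 lc_b_rc_1_5 lc_b_rc_8_2 lc_b_rc_8_2 lc_b_rc_26_5 lc_b_rc_26_5 lc_b_Cert_tree lc_b_rc_8_0 lc_b_rc_9_2 lc_b_rc_7_0 lc_b_rc_6_1 lc_b_rc_6_1 lc_b_rc_9_2 lc_b_rc_9_2 lc_b_rc_1_3 lc_b_rc_26_5 lc_b_rc_6_1 lc_b_rc_6_1) (@D3.rec (fun _ => (Cert rels S Gen.b)) lc_b_rc_7_0 lc_b_rc_9_2 lc_b_rc_26_5 lc_b_rc_9_2 lc_b_rc_8_2 lc_b_rc_10_2 lc_b_rc_1_3 lc_b_rc_8_0 lc_b_rc_6_1 lc_b_rc_6_1 lc_b_rc_8_0 lc_b_rc_9_0 lc_b_rc_1_5 lc_b_rc_10_2 lc_b_rc_26_1 lc_b_rc_9_2 lc_b_rc_9_2 lc_b_rc_9_2 lc_b_rc_26_1 lc_b_rc_7_0 lc_b_rc_7_2 lc_b_rc_8_2 lc_b_rc_26_5 lc_b_rc_1_5 lc_b_rc_8_2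 lc_b_rc_1_5 lc_b_rc_26_1 lc_b_rc_9_2 lc_b_rc_26_1 lc_b_rc_26_7 lc_b_rc_26_7 lc_b_rc_8_2 lc_b_rc_26_1 lc_b_rc_26_7 lc_b_rc_9_0 lc_b_rc_6_1 lc_b_rc_8_2 lc_b_rc_26_5 lc_b_rc_8_2 lc_b_rc_6_1 lc_b_rc_9_2 lc_b_Cert_tree lc_b_rc_6_1 lc_b_rc_25_4 lc_b_rc_9_2 lc_b_rc_10_2 lc_b_rc_1_3 lc_b_rc_10_2 lc_b_rc_7_2 lc_b_rc_8_2 lc_b_rc_26_7 lc_b_rc_6_1 lc_b_rc_10_2 lc_b_rc_6_1 lc_b_rc_6_1 lc_b_rc_10_0 lc_b_rc_1_3 lc_b_rc_9_2 lc_b_rc_8_2 lc_b_rc_8_2 lc_b_rc_26_5 lc_b_rc_6_1) (@D3.rec (fun _ => (Cert rels S Gen.b)) lc_b_rc_8_2 lc_b_rc_9_2 lc_b_rc_6_1 lc_b_rc_6_1 lc_b_rc_8_2 lc_b_rc_6_1 lc_b_rc_8_2 lc_b_rc_1_3 lc_b_rc_9_2 lc_b_rc_1_5 lc_b_rc_9_2 lc_b_rc_6_1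 lc_b_rc_1_3 lc_b_rc_26_5 lc_b_rc_6_1 lc_b_rc_10_2 lc_b_rc_6_1 lc_b_rc_9_2 lc_b_rc_7_0 lc_b_rc_8_2 lc_b_rc_6_1 lc_b_rc_6_1 lc_b_rc_1_1 lc_b_rc_8_2 lc_b_Cert_tree lc_b_rc_1_3 lc_b_rc_9_2 lc_b_rc_10_2 lc_b_rc_10_2 lc_b_rc_6_1 lc_b_rc_6_1 lc_b_rc_8_2 lc_b_rc_10_2 lc_b_rc_6_1 lc_b_rc_8_2 lc_b_rc_1_1 lc_b_rc_7_2 lc_b_rc_10_2 lc_b_rc_1_1 lc_b_rc_9_2 lc_b_rc_9_2 lc_b_rc_8_0 lc_b_rc_9_2 lc_b_rc_8_2 lc_b_rc_6_1 lc_b_rc_7_4 lc_b_rc_9_2 lc_b_rc_7_2 lc_b_rc_10_0 lc_b_rc_7_4 lc_b_rc_9_2 lc_b_rc_7_2 lc_b_rc_9_2 lc_b_rc_8_2 lc_b_rc_9_2 lc_b_rc_9_0 lc_b_rc_8_2 lc_b_rc_6_1 lc_b_rc_7_0 lc_b_rc_9_2 lc_b_rc_9_2 lc_b_rc_7_2) (@D3.rec (fun _ => (Cert rels S Gen.b))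 lc_b_rc_10_2 lc_b_rc_6_1 lc_b_rc_9_0 lc_b_rc_9_0 lc_b_rc_8_0 lc_b_rc_8_2 lc_b_rc_9_2 lc_b_rc_26_7 lc_b_rc_25_4 lc_b_rc_9_2 lc_b_rc_26_5 lc_b_rc_8_2 lc_b_rc_9_2 lc_b_rc_6_1 lc_b_rc_6_1 lc_b_rc_26_1 lc_b_rc_1_1 lc_b_rc_6_1 lc_b_rc_26_5 lc_b_rc_9_2 lc_b_rc_7_0 lc_b_rc_1_5 lc_b_rc_7_4 lc_b_rc_8_2 lc_b_rc_9_2 lc_b_rc_10_2 lc_b_rc_8_2 lc_b_rc_9_2 lc_b_rc_26_5 lc_b_rc_7_0 lc_b_rc_6_1 lc_b_rc_9_2 lc_b_rc_6_1 lc_b_rc_26_7 lc_b_rc_8_2 lc_b_rc_1_5 lc_b_rc_9_2 lc_b_rc_1_5 lc_b_rc_8_2 lc_b_rc_6_1 lc_b_rc_9_2 lc_b_rc_9_2 lc_b_rc_6_1 lc_b_rc_10_2 lc_b_rc_9_2 lc_b_rc_1_5 lc_b_rc_25_4 lc_b_rc_9_0 lc_b_rc_8_2 lc_b_rc_9_0 lc_b_rc_1_5 lc_b_rc_9_2 lc_b_rc_8_2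 lc_b_rc_8_0 lc_b_rc_26_1 lc_b_rc_9_2 lc_b_rc_9_2 lc_b_rc_1_3 lc_b_rc_9_2 lc_b_rc_6_1 lc_b_rc_6_1 lc_b_rc_26_1) (@D3.rec (fun _ => (Cert rels S Gen.b)) lc_b_rc_9_2 lc_b_rc_6_1 lc_b_rc_26_5 lc_b_rc_9_0 lc_b_rc_9_0 lc_b_rc_8_2 lc_b_rc_10_2 lc_b_rc_6_1 lc_b_rc_6_1 lc_b_rc_7_0 lc_b_rc_8_2 lc_b_rc_9_0 lc_b_rc_9_0 lc_b_rc_1_5 lc_b_rc_1_5 lc_b_rc_7_2 lc_b_rc_9_0 lc_b_rc_9_2 lc_b_rc_9_0 lc_b_rc_7_0 lc_b_rc_8_2 lc_b_rc_8_2 lc_b_rc_25_4 lc_b_rc_26_7 lc_b_rc_26_5 lc_b_rc_8_0 lc_b_rc_8_2 lc_b_rc_6_1 lc_b_rc_9_2 lc_b_rc_26_5 lc_b_rc_26_1 lc_b_rc_8_2 lc_b_rc_1_5 lc_b_rc_1_3 lc_b_rc_7_2 lc_b_rc_8_2 lc_b_rc_26_7 lc_b_rc_6_1 lc_b_rc_9_2 lc_b_rc_8_2 lc_b_rc_6_1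 lc_b_rc_9_2 lc_b_rc_26_5 lc_b_rc_26_1 lc_b_rc_9_2 lc_b_rc_8_2 lc_b_rc_8_2 lc_b_rc_1_1 lc_b_rc_9_2 lc_b_rc_8_0 lc_b_rc_6_1 lc_b_rc_6_1 lc_b_rc_9_2 lc_b_rc_8_2 lc_b_rc_9_0 lc_b_rc_7_0 lc_b_rc_7_0 lc_b_rc_10_2 lc_b_rc_8_2 lc_b_rc_10_0 lc_b_rc_7_0 lc_b_rc_10_2) (@D3.rec (fun _ => (Cert rels S Gen.b)) lc_b_rc_26_1 lc_b_rc_7_0 lc_b_rc_7_4 lc_b_rc_9_2 lc_b_rc_6_1 lc_b_rc_9_0 lc_b_rc_1_3 lc_b_rc_10_2 lc_b_Cert_tree lc_b_rc_8_2 lc_b_rc_26_1 lc_b_rc_7_0 lc_b_rc_6_1 lc_b_rc_8_2 lc_b_rc_26_1 lc_b_rc_6_1 lc_b_rc_26_5 lc_b_rc_26_5 lc_b_rc_9_0 lc_b_rc_9_0 lc_b_rc_8_2 lc_b_rc_6_1 lc_b_rc_8_0 lc_b_rc_8_0 lc_b_rc_9_2 lc_b_rc_9_2 lc_b_rc_8_2 lc_b_rc_26_5 lc_b_rc_9_2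 lc_b_rc_6_1 lc_b_rc_8_2 lc_b_Cert_tree lc_b_rc_6_1 lc_b_rc_6_1 lc_b_rc_9_2 lc_b_rc_1_1 lc_b_rc_6_1 lc_b_rc_6_1 lc_b_rc_6_1 lc_b_rc_6_1 lc_b_rc_8_2 lc_b_rc_6_1 lc_b_rc_8_2 lc_b_rc_6_1 lc_b_rc_6_1 lc_b_rc_6_1 lc_b_rc_26_5 lc_b_rc_6_1 lc_b_rc_8_2 lc_b_rc_6_1 lc_b_rc_26_5 lc_b_rc_8_2 lc_b_rc_1_1 lc_b_rc_9_2 lc_b_rc_26_5 lc_b_rc_1_3 lc_b_rc_8_2 lc_b_rc_9_2 lc_b_rc_8_2 lc_b_rc_9_0 lc_b_rc_26_1 lc_b_rc_6_1) (@D3.rec (fun _ => (Cert rels S Gen.b)) lc_b_rc_10_0 lc_b_rc_9_2 lc_b_rc_1_5 lc_b_rc_26_5 lc_b_rc_26_7 lc_b_rc_26_5 lc_b_rc_9_2 lc_b_rc_7_0 lc_b_rc_9_0 lc_b_rc_9_2 lc_b_rc_6_1 lc_b_rc_10_2 lc_b_rc_1_1 lc_b_rc_9_2 lc_b_rc_6_1 lc_b_rc_26_5 lc_b_rc_9_2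 lc_b_rc_9_2 lc_b_rc_9_2 lc_b_rc_26_1 lc_b_rc_6_1 lc_b_rc_26_7 lc_b_rc_6_1 lc_b_rc_8_0 lc_b_rc_6_1 lc_b_rc_26_5 lc_b_rc_25_0 lc_b_rc_6_1 lc_b_rc_1_3 lc_b_rc_6_1 lc_b_rc_1_1 lc_b_rc_8_2 lc_b_rc_6_1 lc_b_rc_9_2 lc_b_rc_1_1 lc_b_rc_6_1 lc_b_rc_1_3 lc_b_rc_7_2 lc_b_rc_8_0 lc_b_rc_9_2 lc_b_rc_26_5 lc_b_rc_6_1 lc_b_rc_26_7 lc_b_rc_26_7 lc_b_rc_6_1 lc_b_rc_8_2 lc_b_rc_6_1 lc_b_rc_7_4 lc_b_rc_26_5 lc_b_rc_6_1 lc_b_rc_9_0 lc_b_rc_1_1 lc_b_rc_8_2 lc_b_rc_26_1 lc_b_rc_26_1 lc_b_rc_9_0 lc_b_rc_9_2 lc_b_rc_8_2 lc_b_Cert_tree lc_b_rc_6_1 lc_b_Cert_tree lc_b_rc_8_2) (@D3.rec (fun _ => (Cert rels S Gen.b)) lc_b_rc_8_2 lc_b_rc_6_1 lc_b_rc_10_2 lc_b_rc_8_2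 lc_b_rc_6_1 lc_b_rc_6_1 lc_b_rc_6_1 lc_b_rc_8_2 lc_b_rc_7_4 lc_b_rc_9_0 lc_b_rc_1_1 lc_b_rc_6_1 lc_b_rc_8_2 lc_b_rc_9_2 lc_b_rc_6_1 lc_b_rc_8_2 lc_b_rc_9_2 lc_b_rc_8_2 lc_b_rc_8_0 lc_b_rc_9_2 lc_b_rc_6_1 lc_b_rc_6_1 lc_b_rc_8_0 lc_b_rc_6_1 lc_b_rc_6_1 lc_b_rc_6_1 lc_b_rc_6_1 lc_b_rc_26_7 lc_b_rc_9_2 lc_b_rc_8_2 lc_b_rc_26_5 lc_b_rc_1_3 lc_b_rc_9_0 lc_b_rc_1_5 lc_b_rc_9_2 lc_b_rc_26_5 lc_b_rc_6_1 lc_b_rc_26_5 lc_b_rc_8_2 lc_b_rc_26_7 lc_b_rc_6_1 lc_b_rc_8_2 lc_b_Cert_tree lc_b_rc_6_1 lc_b_rc_10_2 lc_b_rc_10_0 lc_b_rc_9_2 lc_b_rc_7_2 lc_b_rc_8_0 lc_b_rc_7_4 lc_b_rc_9_2 lc_b_rc_9_2 lc_b_rc_7_0 lc_b_rc_8_2 lc_b_rc_9_2 lc_b_rc_9_2 lc_b_rc_8_2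 lc_b_rc_6_1 lc_b_rc_9_2 lc_b_rc_7_4 lc_b_rc_10_2 lc_b_rc_9_0) (@D3.rec (fun _ => (Cert rels S Gen.b)) lc_b_rc_8_2 lc_b_rc_10_2 lc_b_rc_6_1 lc_b_rc_26_5 lc_b_rc_6_1 lc_b_rc_7_0 lc_b_rc_9_2 lc_b_rc_1_5 lc_b_rc_7_2 lc_b_rc_9_2 lc_b_rc_8_2 lc_b_rc_6_1 lc_b_rc_26_7 lc_b_rc_8_2 lc_b_rc_8_2 lc_b_rc_6_1 lc_b_rc_9_2 lc_b_rc_1_3 lc_b_rc_26_5 lc_b_rc_8_2 lc_b_rc_9_2 lc_b_rc_8_2 lc_b_rc_25_0 lc_b_rc_6_1 lc_b_rc_9_2 lc_b_rc_6_1 lc_b_rc_26_5 lc_b_rc_25_4 lc_b_rc_9_0 lc_b_rc_7_4 lc_b_Cert_tree lc_b_rc_8_2 lc_b_rc_6_1 lc_b_rc_8_2 lc_b_rc_9_2 lc_b_rc_6_1 lc_b_rc_9_2 lc_b_rc_10_0 lc_b_rc_25_8 lc_b_rc_9_2 lc_b_rc_26_5 lc_b_rc_10_2 lc_b_rc_7_4 lc_b_rc_7_2 lc_b_rc_8_2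 lc_b_rc_9_2 lc_b_rc_26_5 lc_b_rc_9_2 lc_b_rc_8_2 lc_b_rc_9_2 lc_b_rc_7_0 lc_b_rc_8_2 lc_b_rc_10_2 lc_b_rc_6_1 lc_b_rc_6_1 lc_b_rc_9_2 lc_b_rc_7_0 lc_b_rc_8_0 lc_b_rc_9_2 lc_b_rc_8_0 lc_b_rc_6_1 lc_b_rc_10_2) (@D3.rec (fun _ => (Cert rels S Gen.b)) lc_b_rc_8_0 lc_b_rc_26_5 lc_b_rc_9_2 lc_b_rc_8_2 lc_b_rc_26_5 lc_b_rc_8_0 lc_b_rc_8_2 lc_b_Cert_tree lc_b_rc_7_4 lc_b_rc_9_2 lc_b_rc_7_4 lc_b_Cert_tree lc_b_rc_7_4 lc_b_rc_7_2 lc_b_rc_6_1 lc_b_rc_8_2 lc_b_rc_8_0 lc_b_rc_6_1 lc_b_rc_8_2 lc_b_Cert_tree lc_b_rc_7_4 lc_b_rc_1_3 lc_b_rc_8_0 lc_b_rc_8_0 lc_b_rc_6_1 lc_b_rc_8_2 lc_b_rc_8_2 lc_b_rc_10_2 lc_b_Cert_tree lc_b_rc_7_0 lc_b_rc_8_2 lc_b_rc_10_2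 lc_b_rc_8_2 lc_b_rc_1_5 lc_b_rc_1_5 lc_b_rc_26_7 lc_b_rc_6_1 lc_b_rc_6_1 lc_b_rc_9_2 lc_b_rc_9_2 lc_b_rc_6_1 lc_b_rc_8_2 lc_b_rc_1_3 lc_b_rc_7_2 lc_b_rc_26_1 lc_b_rc_26_5 lc_b_rc_10_2 lc_b_rc_6_1 lc_b_rc_8_0 lc_b_rc_8_2 lc_b_rc_26_5 lc_b_rc_8_2 lc_b_rc_8_0 lc_b_rc_8_0 lc_b_rc_6_1 lc_b_rc_10_2 lc_b_rc_6_1 lc_b_Cert_tree lc_b_rc_9_2 lc_b_Cert_tree lc_b_rc_10_2 lc_b_rc_1_3) (@D3.rec (fun _ => (Cert rels S Gen.b)) lc_b_rc_10_2 lc_b_rc_9_2 lc_b_rc_6_1 lc_b_rc_26_7 lc_b_rc_6_1 lc_b_rc_8_2 lc_b_rc_26_7 lc_b_rc_6_1 lc_b_rc_9_2 lc_b_rc_8_2 lc_b_rc_8_2 lc_b_rc_8_0 lc_b_rc_9_2 lc_b_rc_26_5 lc_b_rc_25_0 lc_b_rc_8_2 lc_b_rc_10_2 lc_b_rc_6_1 lc_b_rc_9_0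 lc_b_rc_7_2 lc_b_rc_9_2 lc_b_rc_10_2 lc_b_rc_8_2 lc_b_rc_10_2 lc_b_rc_6_1 lc_b_rc_8_0 lc_b_rc_8_2 lc_b_rc_6_1 lc_b_rc_6_1 lc_b_rc_8_2 lc_b_rc_6_1 lc_b_rc_6_1 lc_b_rc_26_7 lc_b_rc_10_2 lc_b_rc_6_1 lc_b_rc_10_2 lc_b_rc_6_1 lc_b_rc_8_0 lc_b_Cert_tree lc_b_Cert_tree lc_b_rc_6_1 lc_b_Cert_tree lc_b_rc_6_1 lc_b_rc_26_5 lc_b_rc_7_4 lc_b_rc_26_1 lc_b_rc_26_7 lc_b_rc_8_2 lc_b_rc_1_3 lc_b_rc_6_1 lc_b_rc_25_0 lc_b_rc_6_1 lc_b_rc_6_1 lc_b_rc_9_0 lc_b_rc_6_1 lc_b_rc_26_5 lc_b_rc_7_0 lc_b_rc_7_2 lc_b_rc_10_2 lc_b_rc_6_1 lc_b_rc_8_2 lc_b_rc_9_2) (@D3.rec (fun _ => (Cert rels S Gen.b)) lc_b_rc_8_2 lc_b_rc_8_2 lc_b_rc_6_1 lc_b_rc_9_2 lc_b_rc_1_3 lc_b_rc_9_2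 lc_b_rc_9_2 lc_b_rc_26_7 lc_b_Cert_tree lc_b_rc_9_2 lc_b_rc_26_5 lc_b_rc_7_4 lc_b_rc_9_2 lc_b_rc_8_2 lc_b_rc_9_2 lc_b_rc_9_0 lc_b_rc_1_3 lc_b_rc_9_2 lc_b_rc_8_2 lc_b_rc_9_2 lc_b_Cert_tree lc_b_rc_8_2 lc_b_rc_10_2 lc_b_rc_25_4 lc_b_rc_9_2 lc_b_rc_9_0 lc_b_rc_6_1 lc_b_rc_26_5 lc_b_rc_10_2 lc_b_rc_10_2 lc_b_rc_26_7 lc_b_rc_10_2 lc_b_rc_6_1 lc_b_rc_26_1 lc_b_rc_10_2 lc_b_rc_9_2 lc_b_rc_8_2 lc_b_rc_10_2 lc_b_rc_6_1 lc_b_rc_7_4 lc_b_rc_6_1 lc_b_rc_7_4 lc_b_rc_7_4 lc_b_rc_9_2 lc_b_rc_8_2 lc_b_rc_9_2 lc_b_rc_9_0 lc_b_rc_6_1 lc_b_rc_10_2 lc_b_rc_1_5 lc_b_rc_8_2 lc_b_rc_9_2 lc_b_rc_10_0 lc_b_rc_25_0 lc_b_rc_9_2 lc_b_rc_6_1 lc_b_rc_6_1 lc_b_rc_8_0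 lc_b_rc_26_1 lc_b_rc_6_1 lc_b_rc_26_5 lc_b_rc_6_1) (@D3.rec (fun _ => (Cert rels S Gen.b)) lc_b_rc_8_0 lc_b_rc_6_1 lc_b_rc_8_2 lc_b_rc_6_1 lc_b_rc_6_1 lc_b_rc_9_2 lc_b_rc_26_7 lc_b_rc_26_1 lc_b_rc_6_1 lc_b_rc_8_0 lc_b_rc_8_2 lc_b_rc_7_4 lc_b_rc_1_1 lc_b_rc_1_3 lc_b_rc_9_2 lc_b_Cert_tree lc_b_rc_8_0 lc_b_rc_7_2 lc_b_rc_9_2 lc_b_rc_8_2 lc_b_rc_8_2 lc_b_rc_10_2 lc_b_rc_6_1 lc_b_rc_6_1 lc_b_rc_6_1 lc_b_rc_26_7 lc_b_Cert_tree lc_b_rc_8_0 lc_b_rc_10_2 lc_b_rc_26_1 lc_b_rc_6_1 lc_b_rc_8_2 lc_b_rc_7_0 lc_b_Cert_tree lc_b_rc_9_2 lc_b_rc_10_2 lc_b_rc_9_0 lc_b_rc_10_0 lc_b_rc_9_2 lc_b_rc_25_12 lc_b_rc_9_2 lc_b_rc_8_0 lc_b_rc_6_1 lc_b_rc_9_2 lc_b_rc_6_1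 lc_b_rc_1_5 lc_b_rc_1_5 lc_b_rc_6_1 lc_b_rc_8_2 lc_b_rc_8_2 lc_b_rc_9_2 lc_b_rc_9_2 lc_b_rc_9_2 lc_b_rc_8_2 lc_b_rc_7_4 lc_b_rc_25_0 lc_b_rc_9_2 lc_b_Cert_tree lc_b_rc_8_2 lc_b_rc_8_2 lc_b_rc_8_2 lc_b_rc_6_1) (@D3.rec (fun _ => (Cert rels S Gen.b)) lc_b_rc_7_4 lc_b_rc_6_1 lc_b_rc_6_1 lc_b_rc_9_2 lc_b_rc_1_1 lc_b_rc_25_0 lc_b_rc_8_2 lc_b_rc_9_2 lc_b_rc_8_2 lc_b_Cert_tree lc_b_rc_6_1 lc_b_rc_1_3 lc_b_rc_7_2 lc_b_rc_26_5 lc_b_rc_9_2 lc_b_rc_9_2 lc_b_rc_8_0 lc_b_rc_8_2 lc_b_rc_10_2 lc_b_rc_6_1 lc_b_rc_8_2 lc_b_rc_6_1 lc_b_rc_8_2 lc_b_Cert_tree lc_b_rc_8_0 lc_b_rc_6_1 lc_b_rc_26_5 lc_b_rc_8_2 lc_b_rc_7_0 lc_b_rc_6_1 lc_b_rc_8_2 lc_b_rc_8_2 lc_b_rc_8_2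 lc_b_rc_8_2 lc_b_rc_8_2 lc_b_rc_26_7 lc_b_rc_1_5 lc_b_rc_9_2 lc_b_rc_8_2 lc_b_rc_9_2 lc_b_rc_6_1 lc_b_rc_7_4 lc_b_rc_9_2 lc_b_rc_6_1 lc_b_rc_8_2 lc_b_rc_10_2 lc_b_rc_6_1 lc_b_rc_8_2 lc_b_rc_25_4 lc_b_rc_8_2 lc_b_rc_8_0 lc_b_rc_26_5 lc_b_rc_26_7 lc_b_rc_9_2 lc_b_rc_1_3 lc_b_rc_9_0 lc_b_rc_8_2 lc_b_rc_10_2 lc_b_rc_26_1 lc_b_rc_26_1 lc_b_rc_9_0 lc_b_rc_10_2) (@D3.rec (fun _ => (Cert rels S Gen.b)) lc_b_rc_9_2 lc_b_rc_8_2 lc_b_rc_6_1 lc_b_rc_7_2 lc_b_rc_1_5 lc_b_rc_9_0 lc_b_rc_8_2 lc_b_rc_10_2 lc_b_rc_8_2 lc_b_rc_6_1 lc_b_rc_8_2 lc_b_rc_25_0 lc_b_Cert_tree lc_b_Cert_tree lc_b_rc_8_2 lc_b_rc_8_2 lc_b_rc_6_1 lc_b_rc_6_1 lc_b_rc_26_5 lc_b_rc_1_3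 lc_b_rc_1_1 lc_b_rc_26_5 lc_b_rc_26_5 lc_b_rc_8_0 lc_b_rc_6_1 lc_b_rc_6_1 lc_b_rc_25_0 lc_b_rc_10_2 lc_b_rc_26_5 lc_b_rc_8_2 lc_b_rc_9_2 lc_b_rc_6_1 lc_b_Cert_tree lc_b_rc_1_1 lc_b_rc_6_1 lc_b_Cert_tree lc_b_rc_9_2 lc_b_rc_6_1 lc_b_rc_8_2 lc_b_rc_9_2 lc_b_rc_26_5 lc_b_rc_8_2 lc_b_rc_7_0 lc_b_rc_8_2 lc_b_rc_26_5 lc_b_rc_7_4 lc_b_rc_9_2 lc_b_rc_26_5 lc_b_rc_10_2 lc_b_rc_8_0 lc_b_rc_8_2 lc_b_rc_9_2 lc_b_rc_8_2 lc_b_rc_9_2 lc_b_rc_6_1 lc_b_rc_9_2 lc_b_rc_6_1 lc_b_rc_8_2 lc_b_rc_26_5 lc_b_rc_6_1 lc_b_rc_9_2 lc_b_rc_6_1) (@D3.rec (fun _ => (Cert rels S Gen.b)) lc_b_rc_9_2 lc_b_rc_8_2 lc_b_rc_9_2 lc_b_rc_7_0 lc_b_rc_9_2 lc_b_rc_8_2 lc_b_rc_6_1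 lc_b_rc_9_2 lc_b_rc_9_0 lc_b_rc_9_0 lc_b_rc_8_2 lc_b_rc_10_2 lc_b_rc_6_1 lc_b_rc_9_0 lc_b_rc_25_16 lc_b_rc_6_1 lc_b_rc_7_0 lc_b_Cert_tree lc_b_rc_8_2 lc_b_rc_26_5 lc_b_rc_6_1 lc_b_rc_10_2 lc_b_rc_9_2 lc_b_rc_26_7 lc_b_rc_7_4 lc_b_rc_6_1 lc_b_rc_8_0 lc_b_rc_10_2 lc_b_rc_7_2 lc_b_rc_7_4 lc_b_rc_6_1 lc_b_rc_26_5 lc_b_rc_6_1 lc_b_rc_8_2 lc_b_rc_8_2 lc_b_rc_26_5 lc_b_rc_9_2 lc_b_rc_26_5 lc_b_rc_7_4 lc_b_rc_9_2 lc_b_rc_6_1 lc_b_rc_25_8 lc_b_rc_1_3 lc_b_rc_1_5 lc_b_rc_6_1 lc_b_rc_8_2 lc_b_rc_6_1 lc_b_rc_7_0 lc_b_rc_8_2 lc_b_rc_8_0 lc_b_rc_8_0 lc_b_rc_9_2 lc_b_rc_26_5 lc_b_rc_25_0 lc_b_rc_8_2 lc_b_rc_10_2 lc_b_rc_8_2 lc_b_rc_26_5 lc_b_rc_8_2 lc_b_rc_6_1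 lc_b_rc_25_4 lc_b_rc_26_5) (@D3.rec (fun _ => (Cert rels S Gen.b)) lc_b_rc_26_7 lc_b_rc_8_2 lc_b_rc_7_4 lc_b_rc_9_2 lc_b_rc_8_0 lc_b_rc_25_4 lc_b_rc_6_1 lc_b_rc_26_5 lc_b_rc_8_2 lc_b_rc_6_1 lc_b_rc_26_5 lc_b_rc_7_0 lc_b_rc_9_2 lc_b_rc_26_5 lc_b_rc_1_1 lc_b_rc_10_0 lc_b_rc_9_2 lc_b_rc_26_5 lc_b_rc_8_2 lc_b_rc_9_0 lc_b_rc_8_0 lc_b_rc_10_2 lc_b_rc_25_12 lc_b_rc_7_0 lc_b_rc_6_1 lc_b_rc_26_7 lc_b_rc_8_2 lc_b_rc_6_1 lc_b_rc_1_1 lc_b_rc_6_1 lc_b_rc_8_2 lc_b_rc_9_2 lc_b_rc_9_2 lc_b_rc_9_2 lc_b_rc_6_1 lc_b_rc_7_2 lc_b_rc_9_2 lc_b_rc_26_5 lc_b_rc_26_5 lc_b_rc_1_3 lc_b_rc_6_1 lc_b_rc_26_1 lc_b_rc_26_5 lc_b_rc_6_1 lc_b_rc_26_1 lc_b_rc_6_1 lc_b_rc_9_2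 lc_b_rc_8_2 lc_b_rc_1_5 lc_b_rc_25_4 lc_b_rc_9_2 lc_b_rc_6_1 lc_b_rc_8_2 lc_b_rc_1_5 lc_b_rc_9_2 lc_b_rc_1_3 lc_b_rc_9_2 lc_b_rc_9_0 lc_b_rc_25_0 lc_b_rc_10_2 lc_b_rc_6_1 lc_b_rc_26_5) (@D3.rec (fun _ => (Cert rels S Gen.b)) lc_b_rc_7_0 lc_b_rc_8_0 lc_b_rc_9_0 lc_b_rc_7_0 lc_b_rc_26_1 lc_b_rc_6_1 lc_b_rc_6_1 lc_b_rc_9_2 lc_b_rc_8_2 lc_b_rc_7_2 lc_b_rc_7_4 lc_b_rc_6_1 lc_b_rc_25_8 lc_b_rc_6_1 lc_b_rc_26_5 lc_b_rc_9_2 lc_b_rc_6_1 lc_b_rc_25_8 lc_b_rc_6_1 lc_b_rc_26_5 lc_b_rc_9_0 lc_b_rc_7_2 lc_b_rc_26_5 lc_b_rc_8_2 lc_b_rc_8_2 lc_b_rc_6_1 lc_b_rc_7_4 lc_b_rc_10_2 lc_b_rc_6_1 lc_b_rc_26_5 lc_b_rc_6_1 lc_b_rc_6_1 lc_b_rc_7_4 lc_b_rc_26_5 lc_b_rc_6_1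 lc_b_rc_8_0 lc_b_rc_6_1 lc_b_rc_26_5 lc_b_rc_7_0 lc_b_rc_7_4 lc_b_rc_6_1 lc_b_rc_7_2 lc_b_Cert_tree lc_b_rc_6_1 lc_b_rc_6_1 lc_b_rc_7_4 lc_b_rc_6_1 lc_b_rc_9_2 lc_b_Cert_tree lc_b_rc_10_2 lc_b_rc_9_2 lc_b_rc_6_1 lc_b_rc_9_2 lc_b_rc_7_4 lc_b_rc_1_5 lc_b_rc_9_2 lc_b_rc_8_2 lc_b_Cert_tree lc_b_rc_26_1 lc_b_rc_7_0 lc_b_rc_6_1 lc_b_rc_6_1)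
def ce_b_29 : D2 → D3 → (Cert rels S Gen.b) := @D2.rec (fun _ => D3 → (Cert rels S Gen.b)) (@D3.rec (fun _ => (Cert rels S Gen.b)) lc_b_rc_26_1 lc_b_rc_7_0 lc_b_rc_7_0 lc_b_rc_9_2 lc_b_rc_8_2 lc_b_rc_8_2 lc_b_rc_8_2 lc_b_rc_6_1 lc_b_rc_26_1 lc_b_rc_6_1 lc_b_rc_1_3 lc_b_rc_9_2 lc_b_rc_6_1 lc_b_rc_8_2 lc_b_rc_7_4 lc_b_rc_9_2 lc_b_rc_6_1 lc_b_rc_6_1 lc_b_rc_1_3 lc_b_rc_7_0 lc_b_rc_9_2 lc_b_rc_9_2 lc_b_rc_9_2 lc_b_rc_26_5 lc_b_rc_8_2 lc_b_rc_8_2 lc_b_rc_8_0 lc_b_rc_8_2 lc_b_rc_9_2 lc_b_rc_9_2 lc_b_rc_9_0 lc_b_rc_25_8 lc_b_rc_26_7 lc_b_rc_6_1 lc_b_rc_26_5 lc_b_rc_7_0 lc_b_rc_10_2 lc_b_rc_7_4 lc_b_rc_8_2 lc_b_rc_8_2 lc_b_rc_9_2 lc_b_rc_9_2 lc_b_rc_26_5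 lc_b_rc_1_3 lc_b_rc_26_1 lc_b_rc_6_1 lc_b_rc_26_5 lc_b_rc_6_1 lc_b_rc_6_1 lc_b_rc_26_7 lc_b_rc_6_1 lc_b_rc_8_2 lc_b_rc_25_12 lc_b_rc_9_2 lc_b_rc_9_2 lc_b_rc_9_0 lc_b_rc_6_1 lc_b_rc_6_1 lc_b_rc_26_7 lc_b_rc_26_5 lc_b_rc_7_4 lc_b_rc_7_2) (@D3.rec (fun _ => (Cert rels S Gen.b)) lc_b_rc_6_1 lc_b_rc_1_3 lc_b_rc_9_2 lc_b_rc_8_2 lc_b_rc_6_1 lc_b_rc_9_2 lc_b_rc_6_1 lc_b_rc_26_7 lc_b_rc_9_2 lc_b_rc_8_2 lc_b_rc_25_4 lc_b_rc_26_5 lc_b_rc_9_2 lc_b_rc_26_5 lc_b_rc_6_1 lc_b_rc_26_5 lc_b_rc_6_1 lc_b_rc_6_1 lc_b_rc_7_4 lc_b_rc_26_7 lc_b_rc_1_1 lc_b_rc_9_0 lc_b_rc_8_2 lc_b_rc_6_1 lc_b_rc_26_1 lc_b_rc_6_1 lc_b_rc_9_2 lc_b_rc_8_2 lc_b_rc_9_2 lc_b_rc_6_1 lc_b_rc_8_2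 lc_b_rc_10_2 lc_b_rc_1_3 lc_b_rc_9_2 lc_b_rc_25_4 lc_b_rc_26_7 lc_b_rc_6_1 lc_b_rc_26_5 lc_b_rc_9_2 lc_b_rc_6_1 lc_b_rc_6_1 lc_b_rc_26_1 lc_b_rc_26_5 lc_b_rc_9_0 lc_b_rc_7_0 lc_b_rc_8_2 lc_b_rc_7_0 lc_b_rc_8_0 lc_b_rc_6_1 lc_b_rc_9_2 lc_b_rc_7_4 lc_b_rc_6_1 lc_b_rc_26_5 lc_b_rc_8_2 lc_b_rc_6_1 lc_b_rc_25_4 lc_b_rc_6_1 lc_b_rc_6_1 lc_b_rc_10_2 lc_b_rc_25_4 lc_b_rc_6_1 lc_b_rc_1_5) (@D3.rec (fun _ => (Cert rels S Gen.b)) lc_b_rc_6_1 lc_b_rc_9_2 lc_b_rc_7_2 lc_b_rc_8_2 lc_b_rc_10_2 lc_b_rc_26_1 lc_b_rc_6_1 lc_b_rc_8_2 lc_b_Cert_tree lc_b_rc_25_0 lc_b_rc_26_1 lc_b_rc_10_0 lc_b_rc_9_2 lc_b_rc_25_16 lc_b_rc_6_1 lc_b_rc_8_2 lc_b_rc_10_2 lc_b_rc_10_2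 lc_b_rc_8_0 lc_b_rc_9_2 lc_b_rc_9_2 lc_b_rc_8_2 lc_b_rc_6_1 lc_b_rc_7_2 lc_b_rc_26_5 lc_b_rc_10_0 lc_b_rc_6_1 lc_b_rc_8_2 lc_b_rc_10_2 lc_b_Cert_tree lc_b_rc_6_1 lc_b_rc_6_1 lc_b_rc_25_8 lc_b_rc_10_2 lc_b_rc_7_0 lc_b_rc_26_5 lc_b_rc_9_2 lc_b_rc_8_2 lc_b_rc_1_5 lc_b_rc_8_2 lc_b_rc_10_2 lc_b_rc_6_1 lc_b_rc_8_2 lc_b_rc_7_2 lc_b_rc_6_1 lc_b_rc_1_1 lc_b_rc_6_1 lc_b_rc_6_1 lc_b_rc_8_2 lc_b_rc_26_1 lc_b_rc_6_1 lc_b_rc_6_1 lc_b_rc_6_1 lc_b_rc_6_1 lc_b_rc_26_5 lc_b_rc_26_5 lc_b_rc_8_2 lc_b_rc_8_2 lc_b_rc_9_2 lc_b_rc_8_2 lc_b_rc_6_1 lc_b_rc_25_4) (@D3.rec (fun _ => (Cert rels S Gen.b)) lc_b_rc_26_5 lc_b_rc_9_2 lc_b_rc_26_1 lc_b_rc_9_0 lc_b_rc_8_2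 lc_b_rc_26_5 lc_b_rc_9_2 lc_b_rc_8_2 lc_b_rc_7_0 lc_b_rc_8_2 lc_b_rc_7_4 lc_b_rc_10_2 lc_b_rc_6_1 lc_b_rc_9_2 lc_b_rc_26_5 lc_b_rc_26_5 lc_b_rc_6_1 lc_b_rc_6_1 lc_b_rc_9_2 lc_b_rc_7_0 lc_b_rc_9_2 lc_b_rc_9_0 lc_b_rc_8_0 lc_b_rc_8_2 lc_b_rc_7_2 lc_b_rc_6_1 lc_b_rc_9_2 lc_b_rc_9_2 lc_b_rc_8_2 lc_b_rc_6_1 lc_b_rc_26_5 lc_b_rc_8_2 lc_b_rc_10_2 lc_b_rc_6_1 lc_b_rc_1_5 lc_b_rc_7_0 lc_b_rc_10_2 lc_b_rc_6_1 lc_b_rc_8_0 lc_b_rc_8_2 lc_b_rc_1_3 lc_b_rc_8_2 lc_b_rc_8_0 lc_b_rc_9_2 lc_b_rc_6_1 lc_b_rc_9_0 lc_b_Cert_tree lc_b_rc_26_1 lc_b_rc_6_1 lc_b_rc_7_2 lc_b_rc_8_2 lc_b_rc_1_5 lc_b_rc_8_2 lc_b_rc_7_0 lc_b_rc_26_1 lc_b_rc_8_2 lc_b_rc_8_2 lc_b_rc_9_2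 lc_b_rc_9_2 lc_b_rc_26_5 lc_b_rc_6_1 lc_b_rc_10_0) (@D3.rec (fun _ => (Cert rels S Gen.b)) lc_b_rc_6_1 lc_b_rc_6_1 lc_b_rc_25_16 lc_b_rc_7_2 lc_b_rc_1_5 lc_b_rc_1_1 lc_b_rc_6_1 lc_b_rc_8_2 lc_b_rc_9_0 lc_b_rc_6_1 lc_b_rc_8_2 lc_b_rc_8_2 lc_b_rc_26_1 lc_b_rc_9_2 lc_b_rc_25_4 lc_b_rc_1_3 lc_b_rc_9_0 lc_b_rc_6_1 lc_b_rc_6_1 lc_b_rc_7_0 lc_b_rc_8_2 lc_b_rc_6_1 lc_b_rc_6_1 lc_b_rc_9_2 lc_b_rc_7_0 lc_b_rc_1_1 lc_b_rc_7_4 lc_b_rc_8_2 lc_b_rc_9_2 lc_b_rc_1_5 lc_b_rc_6_1 lc_b_rc_8_2 lc_b_rc_26_5 lc_b_rc_8_0 lc_b_rc_6_1 lc_b_rc_6_1 lc_b_rc_6_1 lc_b_rc_9_2 lc_b_rc_9_2 lc_b_rc_1_1 lc_b_Cert_tree lc_b_rc_6_1 lc_b_rc_6_1 lc_b_rc_8_2 lc_b_rc_25_0 lc_b_rc_8_2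 lc_b_rc_6_1 lc_b_rc_9_0 lc_b_rc_7_2 lc_b_rc_6_1 lc_b_rc_8_2 lc_b_rc_10_2 lc_b_rc_9_2 lc_b_rc_1_1 lc_b_rc_10_0 lc_b_rc_9_2 lc_b_rc_26_7 lc_b_rc_6_1 lc_b_rc_10_0 lc_b_rc_6_1 lc_b_rc_9_0 lc_b_rc_8_2) (@D3.rec (fun _ => (Cert rels S Gen.b)) lc_b_rc_1_3 lc_b_rc_26_5 lc_b_rc_26_5 lc_b_rc_8_2 lc_b_rc_9_2 lc_b_rc_6_1 lc_b_rc_7_2 lc_b_rc_6_1 lc_b_Cert_tree lc_b_rc_9_2 lc_b_rc_6_1 lc_b_rc_10_2 lc_b_rc_6_1 lc_b_rc_26_7 lc_b_rc_6_1 lc_b_rc_6_1 lc_b_rc_8_0 lc_b_rc_8_0 lc_b_rc_1_5 lc_b_rc_9_2 lc_b_rc_7_4 lc_b_rc_8_2 lc_b_rc_6_1 lc_b_rc_8_0 lc_b_rc_6_1 lc_b_rc_6_1 lc_b_Cert_tree lc_b_rc_26_1 lc_b_rc_6_1 lc_b_rc_8_2 lc_b_rc_1_1 lc_b_rc_8_2 lc_b_rc_26_1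 lc_b_Cert_tree lc_b_rc_6_1 lc_b_rc_8_2 lc_b_rc_9_2 lc_b_rc_26_1 lc_b_rc_1_1 lc_b_rc_6_1 lc_b_rc_8_2 lc_b_rc_9_2 lc_b_rc_8_2 lc_b_rc_6_1 lc_b_rc_8_2 lc_b_rc_8_0 lc_b_rc_8_0 lc_b_rc_9_2 lc_b_rc_8_2 lc_b_rc_6_1 lc_b_rc_8_2 lc_b_rc_25_4 lc_b_rc_9_2 lc_b_rc_26_5 lc_b_rc_6_1 lc_b_rc_26_7 lc_b_rc_6_1 lc_b_rc_9_2 lc_b_rc_6_1 lc_b_rc_26_5 lc_b_rc_8_0 lc_b_rc_8_2) (@D3.rec (fun _ => (Cert rels S Gen.b)) lc_b_rc_26_5 lc_b_rc_1_3 lc_b_rc_9_2 lc_b_rc_6_1 lc_b_rc_7_2 lc_b_rc_8_2 lc_b_rc_25_4 lc_b_rc_6_1 lc_b_rc_26_5 lc_b_rc_26_5 lc_b_rc_6_1 lc_b_rc_7_4 lc_b_rc_9_2 lc_b_rc_7_2 lc_b_rc_26_1 lc_b_rc_6_1 lc_b_rc_1_3 lc_b_rc_6_1 lc_b_rc_1_5 lc_b_rc_6_1 lc_b_rc_6_1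 lc_b_rc_26_1 lc_b_rc_9_2 lc_b_rc_8_2 lc_b_rc_9_2 lc_b_rc_26_5 lc_b_rc_7_4 lc_b_rc_8_2 lc_b_rc_7_0 lc_b_rc_10_2 lc_b_rc_8_2 lc_b_rc_9_0 lc_b_rc_7_2 lc_b_rc_8_0 lc_b_rc_26_1 lc_b_rc_26_5 lc_b_rc_9_2 lc_b_rc_26_5 lc_b_rc_26_5 lc_b_rc_26_1 lc_b_rc_26_1 lc_b_rc_8_0 lc_b_rc_10_2 lc_b_rc_26_5 lc_b_rc_9_2 lc_b_rc_8_2 lc_b_rc_9_2 lc_b_rc_9_2 lc_b_rc_7_0 lc_b_rc_8_2 lc_b_rc_1_5 lc_b_rc_8_2 lc_b_rc_9_2 lc_b_rc_26_1 lc_b_rc_8_2 lc_b_rc_7_4 lc_b_rc_6_1 lc_b_rc_9_0 lc_b_rc_10_0 lc_b_rc_25_0 lc_b_rc_8_2 lc_b_rc_9_2) (@D3.rec (fun _ => (Cert rels S Gen.b)) lc_b_rc_1_5 lc_b_rc_6_1 lc_b_rc_8_0 lc_b_rc_9_2 lc_b_rc_9_0 lc_b_rc_6_1 lc_b_rc_6_1 lc_b_rc_9_2 lc_b_rc_1_5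 lc_b_rc_7_4 lc_b_rc_6_1 lc_b_rc_26_5 lc_b_rc_26_5 lc_b_rc_1_5 lc_b_rc_6_1 lc_b_rc_9_2 lc_b_rc_7_2 lc_b_rc_9_2 lc_b_rc_1_3 lc_b_rc_10_0 lc_b_rc_9_2 lc_b_rc_26_7 lc_b_rc_6_1 lc_b_rc_6_1 lc_b_rc_26_5 lc_b_rc_7_4 lc_b_rc_8_2 lc_b_rc_25_4 lc_b_rc_26_5 lc_b_rc_6_1 lc_b_rc_9_2 lc_b_rc_9_0 lc_b_rc_26_5 lc_b_rc_26_1 lc_b_rc_7_0 lc_b_rc_26_1 lc_b_rc_7_0 lc_b_rc_1_1 lc_b_rc_9_2 lc_b_rc_26_5 lc_b_rc_26_7 lc_b_rc_9_2 lc_b_rc_26_5 lc_b_rc_9_2 lc_b_rc_9_0 lc_b_rc_8_2 lc_b_rc_9_2 lc_b_rc_7_0 lc_b_rc_8_2 lc_b_rc_26_7 lc_b_rc_10_2 lc_b_rc_8_0 lc_b_rc_8_2 lc_b_rc_6_1 lc_b_rc_6_1 lc_b_rc_8_0 lc_b_rc_6_1 lc_b_rc_8_2 lc_b_rc_8_2 lc_b_rc_26_1 lc_b_rc_8_0 lc_b_rc_8_2)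 (@D3.rec (fun _ => (Cert rels S Gen.b)) lc_b_rc_9_2 lc_b_rc_9_2 lc_b_rc_8_2 lc_b_Cert_tree lc_b_rc_9_0 lc_b_rc_26_7 lc_b_rc_7_2 lc_b_rc_6_1 lc_b_rc_8_2 lc_b_rc_6_1 lc_b_rc_26_5 lc_b_rc_8_2 lc_b_rc_6_1 lc_b_rc_26_7 lc_b_rc_8_2 lc_b_rc_8_0 lc_b_rc_26_7 lc_b_rc_26_1 lc_b_rc_8_2 lc_b_rc_8_2 lc_b_rc_9_2 lc_b_rc_6_1 lc_b_rc_8_0 lc_b_rc_10_2 lc_b_rc_7_0 lc_b_rc_6_1 lc_b_rc_26_5 lc_b_rc_9_0 lc_b_rc_6_1 lc_b_rc_26_1 lc_b_rc_6_1 lc_b_rc_26_5 lc_b_rc_26_5 lc_b_rc_8_0 lc_b_rc_6_1 lc_b_rc_26_1 lc_b_rc_10_2 lc_b_rc_6_1 lc_b_rc_1_3 lc_b_rc_8_2 lc_b_rc_9_2 lc_b_rc_1_5 lc_b_rc_26_7 lc_b_rc_9_2 lc_b_rc_8_2 lc_b_rc_7_4 lc_b_rc_6_1 lc_b_rc_6_1 lc_b_rc_25_4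 lc_b_rc_7_2 lc_b_rc_6_1 lc_b_rc_7_4 lc_b_rc_6_1 lc_b_rc_8_2 lc_b_rc_9_2 lc_b_rc_26_7 lc_b_rc_26_7 lc_b_rc_26_7 lc_b_rc_9_0 lc_b_rc_7_2 lc_b_rc_9_2 lc_b_rc_8_2) (@D3.rec (fun _ => (Cert rels S Gen.b)) lc_b_rc_6_1 lc_b_rc_26_5 lc_b_rc_7_0 lc_b_rc_9_2 lc_b_rc_7_0 lc_b_rc_6_1 lc_b_rc_8_2 lc_b_rc_9_2 lc_b_rc_8_2 lc_b_rc_6_1 lc_b_rc_1_5 lc_b_rc_6_1 lc_b_rc_25_16 lc_b_rc_8_0 lc_b_rc_8_2 lc_b_rc_26_7 lc_b_rc_9_2 lc_b_rc_9_2 lc_b_rc_8_2 lc_b_rc_7_4 lc_b_rc_8_2 lc_b_rc_6_1 lc_b_rc_9_2 lc_b_rc_10_2 lc_b_rc_7_2 lc_b_rc_1_1 lc_b_rc_6_1 lc_b_rc_6_1 lc_b_rc_9_2 lc_b_rc_26_5 lc_b_rc_8_0 lc_b_rc_8_2 lc_b_rc_9_2 lc_b_rc_6_1 lc_b_rc_7_4 lc_b_rc_26_7 lc_b_rc_26_5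 lc_b_rc_7_4 lc_b_rc_9_2 lc_b_rc_6_1 lc_b_rc_10_0 lc_b_rc_8_2 lc_b_rc_6_1 lc_b_rc_26_5 lc_b_rc_9_2 lc_b_rc_6_1 lc_b_rc_8_0 lc_b_rc_8_2 lc_b_rc_9_2 lc_b_rc_1_5 lc_b_rc_6_1 lc_b_rc_7_4 lc_b_rc_9_2 lc_b_rc_6_1 lc_b_rc_6_1 lc_b_rc_10_2 lc_b_rc_9_2 lc_b_rc_6_1 lc_b_rc_1_1 lc_b_rc_10_2 lc_b_rc_6_1 lc_b_rc_6_1) (@D3.rec (fun _ => (Cert rels S Gen.b)) lc_b_rc_10_2 lc_b_rc_6_1 lc_b_rc_25_16 lc_b_rc_9_2 lc_b_rc_6_1 lc_b_rc_7_4 lc_b_rc_9_0 lc_b_rc_9_2 lc_b_rc_10_2 lc_b_rc_6_1 lc_b_rc_25_0 lc_b_rc_6_1 lc_b_rc_25_4 lc_b_rc_25_16 lc_b_rc_8_2 lc_b_rc_10_0 lc_b_rc_9_0 lc_b_rc_9_0 lc_b_rc_8_2 lc_b_rc_26_7 lc_b_rc_9_2 lc_b_rc_1_5 lc_b_rc_1_1 lc_b_rc_8_2 lc_b_rc_8_0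 lc_b_rc_26_7 lc_b_rc_6_1 lc_b_rc_26_1 lc_b_rc_9_2 lc_b_rc_8_0 lc_b_rc_8_2 lc_b_rc_26_5 lc_b_rc_25_12 lc_b_rc_9_2 lc_b_rc_26_1 lc_b_rc_26_5 lc_b_rc_7_2 lc_b_rc_25_4 lc_b_rc_8_2 lc_b_rc_10_2 lc_b_rc_6_1 lc_b_rc_10_2 lc_b_Cert_tree lc_b_rc_10_0 lc_b_rc_9_2 lc_b_rc_8_2 lc_b_rc_1_3 lc_b_rc_9_2 lc_b_rc_25_0 lc_b_rc_9_2 lc_b_rc_9_0 lc_b_rc_8_2 lc_b_rc_10_2 lc_b_rc_6_1 lc_b_rc_26_7 lc_b_rc_26_1 lc_b_rc_26_1 lc_b_rc_25_4 lc_b_rc_26_5 lc_b_rc_7_2 lc_b_rc_10_2 lc_b_rc_8_2) (@D3.rec (fun _ => (Cert rels S Gen.b)) lc_b_rc_6_1 lc_b_rc_1_5 lc_b_rc_1_5 lc_b_rc_8_2 lc_b_Cert_tree lc_b_rc_10_2 lc_b_rc_6_1 lc_b_rc_6_1 lc_b_rc_6_1 lc_b_rc_8_0 lc_b_rc_7_0 lc_b_rc_6_1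 lc_b_rc_8_2 lc_b_rc_9_2 lc_b_rc_1_1 lc_b_rc_7_0 lc_b_rc_8_2 lc_b_rc_9_2 lc_b_rc_6_1 lc_b_rc_8_2 lc_b_rc_10_2 lc_b_rc_6_1 lc_b_rc_26_5 lc_b_rc_8_2 lc_b_rc_10_2 lc_b_rc_9_0 lc_b_rc_8_2 lc_b_rc_8_0 lc_b_rc_8_0 lc_b_rc_7_2 lc_b_rc_10_2 lc_b_rc_26_1 lc_b_rc_9_0 lc_b_rc_26_1 lc_b_rc_8_0 lc_b_rc_8_2 lc_b_rc_10_2 lc_b_rc_10_2 lc_b_rc_9_2 lc_b_rc_6_1 lc_b_rc_9_2 lc_b_rc_10_2 lc_b_rc_6_1 lc_b_rc_25_4 lc_b_rc_26_1 lc_b_rc_10_2 lc_b_rc_9_2 lc_b_rc_26_5 lc_b_rc_8_2 lc_b_rc_10_2 lc_b_rc_6_1 lc_b_rc_9_0 lc_b_rc_6_1 lc_b_rc_10_2 lc_b_rc_8_2 lc_b_rc_6_1 lc_b_Cert_tree lc_b_rc_8_2 lc_b_rc_10_0 lc_b_rc_7_4 lc_b_rc_6_1 lc_b_rc_6_1) (@D3.rec (fun _ => (Cert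 rels S Gen.b)) lc_b_rc_25_4 lc_b_rc_26_1 lc_b_rc_10_2 lc_b_rc_7_0 lc_b_rc_8_2 lc_b_rc_8_2 lc_b_rc_7_0 lc_b_rc_8_2 lc_b_rc_9_2 lc_b_rc_9_0 lc_b_rc_1_5 lc_b_rc_6_1 lc_b_rc_9_2 lc_b_rc_7_4 lc_b_rc_6_1 lc_b_rc_8_2 lc_b_rc_1_5 lc_b_rc_7_2 lc_b_rc_7_4 lc_b_rc_6_1 lc_b_rc_7_4 lc_b_rc_10_2 lc_b_rc_9_2 lc_b_rc_9_2 lc_b_rc_10_2 lc_b_rc_8_2 lc_b_rc_1_3 lc_b_rc_9_2 lc_b_rc_25_4 lc_b_rc_6_1 lc_b_rc_9_2 lc_b_rc_8_2 lc_b_rc_7_0 lc_b_rc_9_0 lc_b_rc_26_5 lc_b_rc_9_2 lc_b_rc_26_1 lc_b_rc_26_5 lc_b_rc_9_2 lc_b_rc_6_1 lc_b_rc_8_2 lc_b_rc_6_1 lc_b_rc_6_1 lc_b_rc_6_1 lc_b_rc_7_2 lc_b_rc_9_0 lc_b_rc_6_1 lc_b_rc_8_2 lc_b_rc_8_0 lc_b_rc_26_5 lc_b_rc_9_2 lc_b_rc_10_0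 lc_b_rc_26_5 lc_b_rc_8_2 lc_b_rc_8_2 lc_b_rc_9_2 lc_b_rc_9_2 lc_b_rc_25_0 lc_b_rc_6_1 lc_b_rc_8_2 lc_b_rc_7_4 lc_b_rc_9_0) (@D3.rec (fun _ => (Cert rels S Gen.b)) lc_b_rc_8_2 lc_b_rc_7_0 lc_b_rc_8_2 lc_b_rc_9_2 lc_b_rc_6_1 lc_b_rc_26_7 lc_b_rc_26_5 lc_b_rc_6_1 lc_b_rc_9_2 lc_b_rc_8_2 lc_b_rc_1_5 lc_b_rc_8_2 lc_b_rc_25_16 lc_b_rc_9_2 lc_b_rc_1_3 lc_b_rc_7_4 lc_b_rc_9_2 lc_b_rc_8_0 lc_b_rc_8_2 lc_b_rc_10_2 lc_b_rc_6_1 lc_b_rc_1_5 lc_b_rc_1_5 lc_b_rc_6_1 lc_b_rc_9_2 lc_b_rc_26_5 lc_b_rc_7_0 lc_b_rc_10_2 lc_b_rc_6_1 lc_b_rc_8_2 lc_b_rc_8_2 lc_b_rc_26_5 lc_b_rc_6_1 lc_b_rc_26_7 lc_b_rc_26_1 lc_b_rc_1_5 lc_b_rc_7_4 lc_b_rc_9_2 lc_b_rc_7_2 lc_b_rc_1_5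 lc_b_rc_6_1 lc_b_rc_6_1 lc_b_rc_6_1 lc_b_rc_8_2 lc_b_rc_7_4 lc_b_rc_8_2 lc_b_rc_7_4 lc_b_rc_9_2 lc_b_rc_1_1 lc_b_rc_9_2 lc_b_rc_9_0 lc_b_rc_8_2 lc_b_rc_10_2 lc_b_rc_8_2 lc_b_rc_26_1 lc_b_rc_10_2 lc_b_rc_9_2 lc_b_rc_8_0 lc_b_rc_8_0 lc_b_rc_7_2 lc_b_rc_10_0 lc_b_rc_26_5) (@D3.rec (fun _ => (Cert rels S Gen.b)) lc_b_rc_7_4 lc_b_rc_8_2 lc_b_rc_8_2 lc_b_rc_6_1 lc_b_rc_8_2 lc_b_rc_9_2 lc_b_rc_26_7 lc_b_rc_7_4 lc_b_rc_10_2 lc_b_rc_26_1 lc_b_rc_6_1 lc_b_rc_1_3 lc_b_rc_8_2 lc_b_rc_10_2 lc_b_rc_26_7 lc_b_rc_8_2 lc_b_rc_6_1 lc_b_rc_6_1 lc_b_rc_26_7 lc_b_rc_8_2 lc_b_rc_26_5 lc_b_rc_9_2 lc_b_rc_6_1 lc_b_rc_9_2 lc_b_rc_25_16 lc_b_rc_6_1 lc_b_rc_6_1 lc_b_rc_7_0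 lc_b_rc_9_2 lc_b_rc_8_2 lc_b_rc_8_2 lc_b_rc_6_1 lc_b_rc_6_1 lc_b_rc_1_1 lc_b_rc_9_2 lc_b_Cert_tree lc_b_rc_8_2 lc_b_rc_7_2 lc_b_rc_10_0 lc_b_rc_9_0 lc_b_rc_6_1 lc_b_rc_8_2 lc_b_rc_26_1 lc_b_rc_26_7 lc_b_rc_9_2 lc_b_rc_7_0 lc_b_rc_10_2 lc_b_rc_1_1 lc_b_rc_8_0 lc_b_rc_6_1 lc_b_rc_7_2 lc_b_rc_10_2 lc_b_rc_8_2 lc_b_rc_9_2 lc_b_rc_26_5 lc_b_rc_1_5 lc_b_rc_26_1 lc_b_rc_25_4 lc_b_rc_26_5 lc_b_rc_10_2 lc_b_rc_8_0 lc_b_rc_10_2) (@D3.rec (fun _ => (Cert rels S Gen.b)) lc_b_rc_1_1 lc_b_rc_8_2 lc_b_rc_8_2 lc_b_rc_6_1 lc_b_rc_10_0 lc_b_rc_26_5 lc_b_rc_7_4 lc_b_rc_1_3 lc_b_rc_8_2 lc_b_rc_6_1 lc_b_rc_1_3 lc_b_rc_8_2 lc_b_rc_26_5 lc_b_rc_1_1 lc_b_rc_9_2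 lc_b_rc_8_2 lc_b_rc_1_3 lc_b_rc_9_2 lc_b_rc_6_1 lc_b_rc_8_0 lc_b_rc_10_2 lc_b_rc_9_2 lc_b_rc_25_0 lc_b_rc_8_2 lc_b_rc_8_2 lc_b_rc_8_2 lc_b_rc_10_2 lc_b_rc_8_2 lc_b_rc_8_2 lc_b_rc_9_2 lc_b_rc_9_2 lc_b_rc_25_0 lc_b_rc_6_1 lc_b_rc_1_3 lc_b_rc_10_2 lc_b_rc_6_1 lc_b_rc_9_2 lc_b_rc_6_1 lc_b_rc_26_5 lc_b_rc_10_2 lc_b_Cert_tree lc_b_rc_10_0 lc_b_rc_10_2 lc_b_rc_26_1 lc_b_rc_7_4 lc_b_rc_6_1 lc_b_Cert_tree lc_b_rc_1_5 lc_b_rc_1_3 lc_b_rc_1_5 lc_b_rc_7_4 lc_b_rc_6_1 lc_b_rc_9_0 lc_b_rc_7_4 lc_b_rc_9_2 lc_b_rc_26_5 lc_b_rc_8_2 lc_b_rc_10_2 lc_b_rc_6_1 lc_b_rc_26_1 lc_b_rc_1_5 lc_b_rc_1_5) (@D3.rec (fun _ => (Cert rels S Gen.b)) lc_b_rc_26_5 lc_b_rc_8_2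 lc_b_Cert_tree lc_b_rc_8_2 lc_b_rc_25_4 lc_b_rc_10_2 lc_b_rc_6_1 lc_b_rc_10_2 lc_b_rc_1_5 lc_b_rc_26_1 lc_b_rc_6_1 lc_b_rc_6_1 lc_b_rc_8_2 lc_b_rc_8_2 lc_b_rc_8_2 lc_b_rc_6_1 lc_b_rc_8_2 lc_b_rc_6_1 lc_b_rc_7_0 lc_b_rc_26_5 lc_b_rc_25_4 lc_b_rc_7_4 lc_b_rc_8_2 lc_b_rc_10_2 lc_b_rc_9_2 lc_b_rc_9_2 lc_b_rc_8_0 lc_b_rc_6_1 lc_b_rc_8_2 lc_b_rc_1_1 lc_b_rc_6_1 lc_b_rc_26_1 lc_b_rc_7_0 lc_b_rc_6_1 lc_b_rc_9_2 lc_b_rc_9_2 lc_b_rc_9_0 lc_b_rc_1_5 lc_b_rc_10_2 lc_b_rc_26_1 lc_b_rc_9_2 lc_b_rc_9_0 lc_b_rc_7_2 lc_b_rc_8_2 lc_b_rc_10_2 lc_b_rc_9_0 lc_b_rc_9_2 lc_b_rc_9_2 lc_b_rc_7_0 lc_b_rc_26_7 lc_b_rc_9_2 lc_b_rc_26_5 lc_b_rc_7_0 lc_b_rc_6_1 lc_b_rc_6_1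 lc_b_rc_26_5 lc_b_rc_26_7 lc_b_rc_8_0 lc_b_rc_9_0 lc_b_rc_8_2 lc_b_rc_6_1 lc_b_rc_9_2) (@D3.rec (fun _ => (Cert rels S Gen.b)) lc_b_rc_9_2 lc_b_rc_9_2 lc_b_rc_9_0 lc_b_rc_8_2 lc_b_rc_8_2 lc_b_rc_9_2 lc_b_rc_9_2 lc_b_rc_6_1 lc_b_rc_25_4 lc_b_rc_1_5 lc_b_rc_6_1 lc_b_rc_8_2 lc_b_rc_6_1 lc_b_rc_6_1 lc_b_rc_7_2 lc_b_rc_9_2 lc_b_rc_6_1 lc_b_rc_26_5 lc_b_rc_8_0 lc_b_rc_8_2 lc_b_rc_8_2 lc_b_rc_6_1 lc_b_rc_6_1 lc_b_rc_6_1 lc_b_rc_7_0 lc_b_rc_6_1 lc_b_rc_6_1 lc_b_rc_10_2 lc_b_rc_7_0 lc_b_rc_25_4 lc_b_rc_26_5 lc_b_rc_8_2 lc_b_rc_10_2 lc_b_rc_9_0 lc_b_rc_7_0 lc_b_rc_7_0 lc_b_rc_8_2 lc_b_rc_6_1 lc_b_rc_7_2 lc_b_rc_8_0 lc_b_rc_8_2 lc_b_rc_8_2 lc_b_rc_10_2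 lc_b_rc_6_1 lc_b_rc_9_0 lc_b_rc_7_0 lc_b_rc_10_2 lc_b_rc_9_2 lc_b_rc_6_1 lc_b_rc_9_2 lc_b_rc_25_4 lc_b_rc_26_1 lc_b_rc_6_1 lc_b_rc_8_2 lc_b_rc_7_2 lc_b_rc_1_3 lc_b_rc_8_2 lc_b_rc_8_2 lc_b_rc_9_2 lc_b_rc_26_5 lc_b_rc_6_1 lc_b_rc_7_4) (@D3.rec (fun _ => (Cert rels S Gen.b)) lc_b_rc_8_0 lc_b_rc_8_2 lc_b_rc_8_0 lc_b_rc_9_2 lc_b_rc_10_2 lc_b_rc_6_1 lc_b_rc_6_1 lc_b_rc_9_0 lc_b_rc_26_7 lc_b_rc_26_5 lc_b_rc_1_3 lc_b_rc_1_1 lc_b_rc_6_1 lc_b_rc_9_2 lc_b_rc_7_4 lc_b_rc_9_2 lc_b_rc_26_5 lc_b_rc_9_2 lc_b_rc_10_2 lc_b_rc_10_2 lc_b_rc_6_1 lc_b_rc_7_4 lc_b_rc_9_2 lc_b_rc_6_1 lc_b_rc_8_2 lc_b_rc_9_2 lc_b_rc_9_2 lc_b_rc_26_1 lc_b_rc_6_1 lc_b_rc_8_2 lc_b_rc_1_3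 lc_b_rc_9_2 lc_b_rc_25_4 lc_b_rc_9_0 lc_b_rc_8_0 lc_b_rc_26_5 lc_b_rc_9_2 lc_b_rc_6_1 lc_b_rc_6_1 lc_b_rc_8_0 lc_b_rc_1_1 lc_b_rc_9_0 lc_b_rc_1_5 lc_b_rc_9_2 lc_b_rc_26_1 lc_b_rc_8_2 lc_b_rc_7_2 lc_b_rc_9_2 lc_b_rc_10_2 lc_b_rc_26_7 lc_b_rc_7_2 lc_b_rc_26_5 lc_b_rc_8_0 lc_b_rc_8_0 lc_b_rc_8_2 lc_b_rc_8_2 lc_b_rc_9_0 lc_b_rc_6_1 lc_b_rc_1_1 lc_b_rc_8_2 lc_b_rc_9_2 lc_b_rc_8_2) (@D3.rec (fun _ => (Cert rels S Gen.b)) lc_b_rc_25_12 lc_b_rc_6_1 lc_b_rc_9_2 lc_b_rc_7_2 lc_b_rc_6_1 lc_b_rc_8_0 lc_b_rc_10_2 lc_b_rc_6_1 lc_b_rc_26_1 lc_b_rc_9_0 lc_b_rc_26_5 lc_b_rc_1_1 lc_b_rc_7_2 lc_b_rc_9_2 lc_b_rc_9_0 lc_b_rc_6_1 lc_b_rc_1_1 lc_b_rc_9_2 lc_b_rc_9_2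 lc_b_rc_10_2 lc_b_rc_7_2 lc_b_rc_8_2 lc_b_rc_6_1 lc_b_Cert_tree lc_b_rc_25_4 lc_b_rc_6_1 lc_b_rc_26_1 lc_b_rc_1_5 lc_b_rc_6_1 lc_b_rc_9_2 lc_b_rc_9_2 lc_b_rc_9_2 lc_b_rc_6_1 lc_b_rc_6_1 lc_b_rc_10_2 lc_b_rc_26_1 lc_b_rc_6_1 lc_b_rc_7_4 lc_b_rc_8_2 lc_b_rc_10_0 lc_b_rc_8_2 lc_b_rc_9_2 lc_b_rc_26_1 lc_b_rc_9_2 lc_b_rc_7_4 lc_b_rc_6_1 lc_b_rc_8_0 lc_b_Cert_tree lc_b_rc_1_1 lc_b_rc_8_2 lc_b_rc_9_2 lc_b_rc_8_2 lc_b_rc_8_0 lc_b_rc_6_1 lc_b_rc_9_2 lc_b_rc_9_2 lc_b_rc_7_0 lc_b_rc_8_2 lc_b_rc_6_1 lc_b_rc_1_5 lc_b_rc_9_2 lc_b_rc_6_1) (@D3.rec (fun _ => (Cert rels S Gen.b)) lc_b_rc_6_1 lc_b_rc_7_2 lc_b_rc_9_0 lc_b_rc_6_1 lc_b_rc_8_2 lc_b_rc_26_5 lc_b_rc_8_2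 lc_b_rc_7_0 lc_b_rc_7_2 lc_b_rc_26_1 lc_b_rc_6_1 lc_b_rc_26_5 lc_b_rc_6_1 lc_b_rc_9_2 lc_b_rc_6_1 lc_b_rc_10_2 lc_b_rc_9_2 lc_b_rc_25_4 lc_b_rc_9_0 lc_b_rc_8_2 lc_b_rc_6_1 lc_b_rc_26_1 lc_b_rc_9_2 lc_b_rc_6_1 lc_b_rc_8_2 lc_b_rc_1_5 lc_b_rc_10_2 lc_b_rc_9_0 lc_b_rc_8_0 lc_b_rc_1_3 lc_b_rc_8_2 lc_b_rc_25_4 lc_b_rc_8_2 lc_b_rc_26_7 lc_b_rc_9_2 lc_b_rc_1_5 lc_b_rc_9_2 lc_b_rc_1_5 lc_b_rc_9_0 lc_b_rc_8_2 lc_b_rc_7_4 lc_b_rc_26_5 lc_b_rc_7_4 lc_b_rc_1_1 lc_b_rc_8_2 lc_b_rc_10_2 lc_b_rc_8_2 lc_b_rc_6_1 lc_b_rc_7_0 lc_b_rc_26_5 lc_b_rc_6_1 lc_b_rc_8_2 lc_b_rc_26_5 lc_b_rc_26_1 lc_b_rc_8_2 lc_b_rc_10_2 lc_b_rc_6_1 lc_b_rc_26_5 lc_b_rc_25_4 lc_b_rc_7_4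 lc_b_rc_7_0 lc_b_rc_26_5) (@D3.rec (fun _ => (Cert rels S Gen.b)) lc_b_rc_9_0 lc_b_rc_6_1 lc_b_rc_6_1 lc_b_rc_10_2 lc_b_rc_9_2 lc_b_rc_6_1 lc_b_rc_8_2 lc_b_rc_9_2 lc_b_rc_9_2 lc_b_rc_9_2 lc_b_rc_26_5 lc_b_rc_6_1 lc_b_rc_6_1 lc_b_rc_10_2 lc_b_rc_1_3 lc_b_rc_26_5 lc_b_rc_9_2 lc_b_rc_8_2 lc_b_rc_10_2 lc_b_rc_9_0 lc_b_rc_6_1 lc_b_rc_7_0 lc_b_rc_9_2 lc_b_rc_8_2 lc_b_rc_8_2 lc_b_rc_25_12 lc_b_rc_8_2 lc_b_rc_8_2 lc_b_rc_9_0 lc_b_rc_1_5 lc_b_rc_8_2 lc_b_rc_7_2 lc_b_rc_26_5 lc_b_rc_9_0 lc_b_rc_10_0 lc_b_rc_8_0 lc_b_rc_6_1 lc_b_rc_6_1 lc_b_rc_6_1 lc_b_rc_10_2 lc_b_rc_8_2 lc_b_rc_1_5 lc_b_rc_9_2 lc_b_rc_6_1 lc_b_Cert_tree lc_b_rc_6_1 lc_b_rc_26_5 lc_b_rc_8_2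 lc_b_rc_8_2 lc_b_rc_1_3 lc_b_rc_7_2 lc_b_rc_26_7 lc_b_rc_9_2 lc_b_rc_9_2 lc_b_rc_6_1 lc_b_rc_26_1 lc_b_rc_7_4 lc_b_rc_1_5 lc_b_rc_26_5 lc_b_rc_6_1 lc_b_rc_8_2 lc_b_rc_1_3) (@D3.rec (fun _ => (Cert rels S Gen.b)) lc_b_rc_6_1 lc_b_rc_8_2 lc_b_rc_10_2 lc_b_rc_26_5 lc_b_rc_26_5 lc_b_rc_9_0 lc_b_rc_10_2 lc_b_rc_6_1 lc_b_rc_7_2 lc_b_rc_8_0 lc_b_rc_10_2 lc_b_rc_8_2 lc_b_rc_8_2 lc_b_rc_9_2 lc_b_rc_25_4 lc_b_rc_7_4 lc_b_rc_6_1 lc_b_rc_8_2 lc_b_rc_9_2 lc_b_rc_6_1 lc_b_rc_6_1 lc_b_rc_26_1 lc_b_rc_9_2 lc_b_rc_1_3 lc_b_rc_9_2 lc_b_rc_6_1 lc_b_rc_6_1 lc_b_rc_10_2 lc_b_rc_6_1 lc_b_rc_26_7 lc_b_rc_10_2 lc_b_rc_8_2 lc_b_rc_6_1 lc_b_rc_8_2 lc_b_rc_9_2 lc_b_rc_10_0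 lc_b_rc_10_0 lc_b_rc_9_2 lc_b_rc_9_2 lc_b_rc_10_2 lc_b_rc_8_2 lc_b_rc_7_0 lc_b_rc_7_0 lc_b_rc_8_0 lc_b_rc_8_2 lc_b_rc_10_2 lc_b_rc_9_2 lc_b_rc_9_2 lc_b_rc_8_2 lc_b_rc_8_2 lc_b_rc_6_1 lc_b_rc_6_1 lc_b_rc_8_2 lc_b_rc_9_0 lc_b_rc_9_2 lc_b_rc_6_1 lc_b_rc_26_1 lc_b_rc_26_5 lc_b_rc_6_1 lc_b_rc_9_0 lc_b_rc_9_0 lc_b_rc_8_2) (@D3.rec (fun _ => (Cert rels S Gen.b)) lc_b_rc_6_1 lc_b_rc_7_4 lc_b_rc_6_1 lc_b_rc_7_0 lc_b_rc_8_2 lc_b_rc_26_5 lc_b_rc_8_2 lc_b_rc_8_2 lc_b_rc_6_1 lc_b_rc_7_4 lc_b_rc_6_1 lc_b_rc_26_1 lc_b_rc_6_1 lc_b_rc_6_1 lc_b_rc_6_1 lc_b_rc_9_2 lc_b_rc_8_2 lc_b_rc_8_2 lc_b_rc_9_0 lc_b_rc_1_3 lc_b_rc_7_2 lc_b_rc_10_0 lc_b_rc_6_1 lc_b_rc_1_1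 lc_b_rc_10_0 lc_b_rc_6_1 lc_b_rc_8_0 lc_b_rc_8_2 lc_b_rc_26_1 lc_b_rc_9_2 lc_b_rc_6_1 lc_b_rc_9_0 lc_b_rc_7_2 lc_b_rc_6_1 lc_b_rc_6_1 lc_b_rc_7_2 lc_b_rc_7_0 lc_b_rc_1_3 lc_b_rc_9_2 lc_b_rc_26_5 lc_b_rc_7_4 lc_b_rc_7_4 lc_b_rc_8_0 lc_b_rc_6_1 lc_b_rc_26_5 lc_b_rc_1_3 lc_b_rc_8_2 lc_b_rc_9_2 lc_b_rc_9_2 lc_b_rc_6_1 lc_b_rc_1_3 lc_b_rc_8_2 lc_b_rc_26_5 lc_b_rc_7_4 lc_b_rc_10_2 lc_b_rc_26_5 lc_b_rc_8_0 lc_b_rc_25_4 lc_b_rc_9_2 lc_b_rc_8_2 lc_b_rc_8_2 lc_b_rc_1_5) (@D3.rec (fun _ => (Cert rels S Gen.b)) lc_b_Cert_tree lc_b_rc_8_2 lc_b_rc_9_2 lc_b_rc_8_0 lc_b_rc_26_5 lc_b_rc_6_1 lc_b_rc_9_2 lc_b_rc_6_1 lc_b_rc_9_0 lc_b_rc_1_1 lc_b_rc_25_4 lc_b_rc_6_1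 lc_b_rc_7_0 lc_b_rc_26_5 lc_b_rc_8_2 lc_b_rc_9_2 lc_b_rc_10_0 lc_b_rc_6_1 lc_b_rc_8_2 lc_b_rc_26_5 lc_b_rc_8_2 lc_b_rc_6_1 lc_b_rc_10_0 lc_b_rc_9_0 lc_b_rc_9_0 lc_b_rc_1_5 lc_b_rc_6_1 lc_b_Cert_tree lc_b_rc_9_2 lc_b_rc_6_1 lc_b_rc_8_2 lc_b_rc_1_3 lc_b_rc_26_5 lc_b_rc_1_3 lc_b_rc_8_2 lc_b_rc_7_0 lc_b_rc_6_1 lc_b_rc_9_2 lc_b_rc_26_5 lc_b_rc_26_1 lc_b_rc_9_2 lc_b_rc_9_2 lc_b_rc_26_7 lc_b_rc_8_2 lc_b_rc_6_1 lc_b_rc_6_1 lc_b_rc_9_2 lc_b_rc_10_2 lc_b_rc_7_2 lc_b_rc_7_4 lc_b_rc_8_2 lc_b_rc_6_1 lc_b_rc_6_1 lc_b_rc_6_1 lc_b_rc_9_0 lc_b_rc_10_2 lc_b_rc_9_2 lc_b_rc_8_2 lc_b_rc_6_1 lc_b_rc_6_1 lc_b_rc_9_2 lc_b_rc_26_1) (@D3.rec (fun _ => (Cert rels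 S Gen.b)) lc_b_rc_8_2 lc_b_rc_9_2 lc_b_rc_8_0 lc_b_rc_25_0 lc_b_rc_26_1 lc_b_rc_7_2 lc_b_rc_9_0 lc_b_rc_26_5 lc_b_rc_26_5 lc_b_rc_8_2 lc_b_rc_9_0 lc_b_rc_6_1 lc_b_rc_9_2 lc_b_rc_6_1 lc_b_rc_1_5 lc_b_Cert_tree lc_b_rc_26_1 lc_b_rc_8_2 lc_b_rc_7_4 lc_b_rc_9_0 lc_b_rc_8_2 lc_b_rc_9_2 lc_b_rc_8_2 lc_b_rc_26_1 lc_b_rc_6_1 lc_b_rc_8_2 lc_b_rc_9_2 lc_b_rc_7_2 lc_b_rc_1_5 lc_b_rc_9_2 lc_b_rc_9_0 lc_b_rc_6_1 lc_b_rc_26_1 lc_b_rc_1_3 lc_b_rc_7_0 lc_b_rc_10_2 lc_b_rc_1_5 lc_b_rc_9_2 lc_b_rc_8_2 lc_b_rc_8_0 lc_b_rc_9_2 lc_b_rc_8_2 lc_b_rc_8_2 lc_b_rc_9_2 lc_b_rc_6_1 lc_b_Cert_tree lc_b_rc_7_4 lc_b_rc_9_2 lc_b_rc_1_5 lc_b_Cert_tree lc_b_rc_8_2 lc_b_rc_8_0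 lc_b_rc_9_2 lc_b_rc_7_4 lc_b_rc_6_1 lc_b_rc_8_0 lc_b_rc_7_4 lc_b_rc_6_1 lc_b_rc_8_2 lc_b_rc_9_0 lc_b_rc_9_2 lc_b_rc_6_1) (@D3.rec (fun _ => (Cert rels S Gen.b)) lc_b_rc_9_2 lc_b_rc_26_5 lc_b_rc_9_2 lc_b_rc_7_4 lc_b_rc_6_1 lc_b_rc_8_2 lc_b_rc_8_2 lc_b_rc_8_0 lc_b_rc_25_12 lc_b_rc_26_7 lc_b_rc_1_1 lc_b_rc_6_1 lc_b_rc_9_2 lc_b_rc_25_4 lc_b_rc_6_1 lc_b_rc_6_1 lc_b_rc_7_2 lc_b_rc_1_3 lc_b_rc_7_2 lc_b_rc_8_2 lc_b_rc_9_2 lc_b_rc_1_5 lc_b_rc_6_1 lc_b_rc_6_1 lc_b_rc_6_1 lc_b_rc_1_5 lc_b_rc_25_16 lc_b_rc_26_5 lc_b_rc_8_0 lc_b_rc_8_2 lc_b_rc_10_2 lc_b_rc_26_5 lc_b_rc_8_2 lc_b_rc_10_0 lc_b_Cert_tree lc_b_rc_1_5 lc_b_rc_6_1 lc_b_rc_10_0 lc_b_rc_8_2 lc_b_rc_10_0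 lc_b_rc_8_2 lc_b_rc_6_1 lc_b_rc_9_2 lc_b_rc_26_7 lc_b_rc_9_2 lc_b_rc_9_2 lc_b_rc_9_2 lc_b_rc_8_2 lc_b_rc_8_2 lc_b_rc_1_5 lc_b_rc_6_1 lc_b_Cert_tree lc_b_rc_8_2 lc_b_rc_8_2 lc_b_rc_10_2 lc_b_Cert_tree lc_b_rc_25_8 lc_b_rc_8_0 lc_b_rc_6_1 lc_b_rc_10_0 lc_b_rc_8_2 lc_b_rc_6_1) (@D3.rec (fun _ => (Cert rels S Gen.b)) lc_b_rc_6_1 lc_b_rc_10_2 lc_b_rc_6_1 lc_b_rc_25_0 lc_b_rc_8_0 lc_b_rc_9_2 lc_b_rc_9_0 lc_b_rc_10_0 lc_b_rc_8_2 lc_b_rc_10_2 lc_b_rc_26_5 lc_b_rc_6_1 lc_b_rc_8_2 lc_b_rc_8_2 lc_b_rc_26_5 lc_b_rc_7_2 lc_b_rc_8_2 lc_b_rc_8_2 lc_b_rc_8_2 lc_b_rc_10_2 lc_b_rc_6_1 lc_b_rc_6_1 lc_b_rc_1_3 lc_b_rc_8_2 lc_b_rc_8_2 lc_b_rc_6_1 lc_b_rc_8_2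 lc_b_rc_6_1 lc_b_rc_7_2 lc_b_rc_9_2 lc_b_rc_6_1 lc_b_rc_26_7 lc_b_rc_8_0 lc_b_rc_10_2 lc_b_rc_1_3 lc_b_rc_6_1 lc_b_rc_6_1 lc_b_rc_9_2 lc_b_rc_9_2 lc_b_rc_8_2 lc_b_rc_8_0 lc_b_rc_9_2 lc_b_rc_6_1 lc_b_rc_6_1 lc_b_rc_8_2 lc_b_rc_9_2 lc_b_rc_6_1 lc_b_rc_26_5 lc_b_rc_6_1 lc_b_rc_8_2 lc_b_rc_8_2 lc_b_rc_6_1 lc_b_rc_1_3 lc_b_rc_7_0 lc_b_rc_8_2 lc_b_rc_8_2 lc_b_rc_6_1 lc_b_rc_9_2 lc_b_rc_6_1 lc_b_rc_8_0 lc_b_rc_7_0 lc_b_rc_8_0) (@D3.rec (fun _ => (Cert rels S Gen.b)) lc_b_rc_6_1 lc_b_rc_7_4 lc_b_rc_26_7 lc_b_rc_7_4 lc_b_rc_9_2 lc_b_rc_26_1 lc_b_rc_7_0 lc_b_rc_6_1 lc_b_rc_7_0 lc_b_rc_8_2 lc_b_rc_6_1 lc_b_rc_8_2 lc_b_rc_8_0 lc_b_rc_9_2 lc_b_rc_10_2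 lc_b_rc_26_5 lc_b_rc_1_3 lc_b_rc_9_2 lc_b_rc_9_2 lc_b_rc_6_1 lc_b_rc_1_3 lc_b_rc_6_1 lc_b_rc_6_1 lc_b_rc_9_0 lc_b_rc_6_1 lc_b_rc_6_1 lc_b_rc_25_0 lc_b_rc_9_2 lc_b_rc_7_2 lc_b_rc_10_2 lc_b_rc_26_7 lc_b_rc_8_2 lc_b_rc_9_2 lc_b_rc_8_2 lc_b_rc_26_1 lc_b_rc_26_7 lc_b_rc_1_1 lc_b_rc_7_4 lc_b_rc_9_2 lc_b_rc_8_2 lc_b_rc_10_2 lc_b_rc_26_5 lc_b_rc_9_2 lc_b_rc_6_1 lc_b_rc_8_2 lc_b_rc_9_2 lc_b_rc_6_1 lc_b_rc_8_2 lc_b_rc_9_2 lc_b_rc_9_2 lc_b_rc_10_2 lc_b_rc_8_2 lc_b_rc_8_2 lc_b_rc_6_1 lc_b_rc_8_2 lc_b_rc_8_2 lc_b_rc_7_4 lc_b_rc_1_5 lc_b_rc_1_3 lc_b_rc_8_2 lc_b_rc_9_2 lc_b_rc_8_2) (@D3.rec (fun _ => (Cert rels S Gen.b)) lc_b_rc_8_0 lc_b_rc_1_3 lc_b_rc_1_5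 lc_b_rc_26_5 lc_b_rc_25_0 lc_b_rc_10_2 lc_b_rc_10_2 lc_b_rc_26_1 lc_b_rc_9_2 lc_b_rc_9_2 lc_b_rc_7_4 lc_b_rc_9_2 lc_b_rc_6_1 lc_b_rc_6_1 lc_b_rc_10_2 lc_b_rc_9_2 lc_b_rc_6_1 lc_b_rc_6_1 lc_b_rc_6_1 lc_b_rc_1_3 lc_b_rc_26_7 lc_b_rc_8_2 lc_b_rc_6_1 lc_b_rc_6_1 lc_b_rc_9_2 lc_b_rc_9_2 lc_b_rc_8_2 lc_b_rc_8_2 lc_b_rc_8_2 lc_b_rc_10_2 lc_b_rc_10_2 lc_b_rc_1_5 lc_b_rc_7_2 lc_b_rc_10_2 lc_b_rc_10_2 lc_b_rc_9_2 lc_b_rc_26_7 lc_b_rc_10_2 lc_b_rc_9_2 lc_b_rc_9_2 lc_b_rc_6_1 lc_b_rc_26_7 lc_b_rc_6_1 lc_b_rc_9_2 lc_b_rc_26_7 lc_b_rc_1_1 lc_b_rc_26_5 lc_b_rc_6_1 lc_b_rc_8_2 lc_b_rc_10_2 lc_b_rc_7_0 lc_b_rc_9_2 lc_b_rc_10_2 lc_b_rc_9_2 lc_b_rc_26_7 lc_b_rc_10_0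 lc_b_rc_8_2 lc_b_rc_6_1 lc_b_rc_9_2 lc_b_rc_10_2 lc_b_rc_7_0 lc_b_rc_9_2) (@D3.rec (fun _ => (Cert rels S Gen.b)) lc_b_rc_7_2 lc_b_rc_10_2 lc_b_rc_9_0 lc_b_rc_8_0 lc_b_rc_26_5 lc_b_rc_7_2 lc_b_rc_9_2 lc_b_rc_10_2 lc_b_rc_9_2 lc_b_rc_10_2 lc_b_rc_26_5 lc_b_rc_10_2 lc_b_rc_6_1 lc_b_rc_8_2 lc_b_rc_9_0 lc_b_rc_10_0 lc_b_rc_9_2 lc_b_rc_8_2 lc_b_rc_6_1 lc_b_rc_6_1 lc_b_rc_6_1 lc_b_rc_7_2 lc_b_rc_10_2 lc_b_rc_9_2 lc_b_rc_8_2 lc_b_rc_7_2 lc_b_rc_7_4 lc_b_rc_9_2 lc_b_rc_1_3 lc_b_rc_9_2 lc_b_rc_9_2 lc_b_rc_6_1 lc_b_rc_6_1 lc_b_rc_8_2 lc_b_rc_10_2 lc_b_rc_8_2 lc_b_rc_9_2 lc_b_rc_26_7 lc_b_rc_9_2 lc_b_rc_9_0 lc_b_rc_6_1 lc_b_rc_26_5 lc_b_rc_26_5 lc_b_rc_9_2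 lc_b_rc_26_7 lc_b_rc_9_2 lc_b_rc_6_1 lc_b_rc_6_1 lc_b_rc_9_0 lc_b_rc_7_0 lc_b_rc_26_5 lc_b_rc_9_2 lc_b_rc_25_8 lc_b_rc_7_0 lc_b_rc_8_2 lc_b_rc_9_2 lc_b_rc_6_1 lc_b_rc_1_5 lc_b_rc_7_4 lc_b_rc_7_0 lc_b_rc_26_1 lc_b_rc_8_2) (@D3.rec (fun _ => (Cert rels S Gen.b)) lc_b_rc_26_5 lc_b_rc_10_0 lc_b_rc_25_4 lc_b_rc_7_4 lc_b_rc_25_4 lc_b_rc_1_5 lc_b_rc_10_2 lc_b_rc_25_8 lc_b_rc_9_2 lc_b_rc_6_1 lc_b_rc_10_2 lc_b_rc_26_1 lc_b_rc_8_2 lc_b_rc_8_2 lc_b_rc_6_1 lc_b_rc_26_5 lc_b_rc_8_2 lc_b_rc_8_2 lc_b_rc_6_1 lc_b_rc_8_2 lc_b_rc_10_2 lc_b_rc_8_2 lc_b_rc_1_5 lc_b_rc_8_2 lc_b_rc_10_2 lc_b_rc_7_0 lc_b_rc_7_0 lc_b_rc_8_2 lc_b_rc_25_4 lc_b_rc_8_2 lc_b_rc_6_1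 lc_b_rc_8_2 lc_b_rc_6_1 lc_b_rc_8_2 lc_b_rc_9_2 lc_b_rc_6_1 lc_b_rc_9_2 lc_b_rc_6_1 lc_b_rc_8_2 lc_b_rc_6_1 lc_b_rc_8_2 lc_b_rc_25_4 lc_b_rc_8_2 lc_b_rc_8_0 lc_b_rc_8_2 lc_b_rc_9_2 lc_b_rc_9_0 lc_b_rc_9_0 lc_b_rc_26_1 lc_b_rc_10_2 lc_b_rc_26_1 lc_b_rc_26_7 lc_b_rc_1_5 lc_b_rc_26_1 lc_b_rc_9_2 lc_b_rc_7_4 lc_b_rc_8_2 lc_b_rc_6_1 lc_b_rc_26_7 lc_b_rc_8_2 lc_b_rc_26_5 lc_b_rc_26_1) (@D3.rec (fun _ => (Cert rels S Gen.b)) lc_b_rc_26_7 lc_b_rc_9_2 lc_b_rc_26_5 lc_b_rc_7_0 lc_b_rc_26_7 lc_b_rc_1_5 lc_b_rc_6_1 lc_b_rc_6_1 lc_b_rc_10_2 lc_b_rc_6_1 lc_b_rc_7_2 lc_b_rc_8_2 lc_b_rc_9_2 lc_b_rc_8_2 lc_b_Cert_tree lc_b_rc_9_2 lc_b_rc_26_7 lc_b_rc_1_3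 lc_b_rc_8_2 lc_b_rc_7_2 lc_b_rc_9_2 lc_b_rc_8_2 lc_b_rc_9_2 lc_b_rc_7_2 lc_b_rc_6_1 lc_b_rc_10_0 lc_b_rc_6_1 lc_b_rc_8_2 lc_b_rc_10_0 lc_b_rc_9_0 lc_b_rc_7_0 lc_b_rc_8_2 lc_b_rc_8_2 lc_b_rc_9_2 lc_b_rc_9_2 lc_b_rc_9_2 lc_b_rc_8_0 lc_b_rc_6_1 lc_b_rc_6_1 lc_b_rc_7_2 lc_b_rc_1_5 lc_b_rc_7_4 lc_b_rc_25_16 lc_b_rc_26_7 lc_b_rc_10_2 lc_b_rc_6_1 lc_b_rc_10_2 lc_b_rc_9_2 lc_b_rc_7_4 lc_b_rc_8_2 lc_b_rc_8_0 lc_b_rc_25_4 lc_b_rc_8_0 lc_b_rc_6_1 lc_b_rc_6_1 lc_b_rc_7_0 lc_b_rc_1_5 lc_b_rc_6_1 lc_b_rc_8_2 lc_b_rc_26_7 lc_b_rc_26_1 lc_b_rc_26_1) (@D3.rec (fun _ => (Cert rels S Gen.b)) lc_b_rc_8_2 lc_b_rc_1_5 lc_b_rc_8_2 lc_b_rc_8_0 lc_b_rc_6_1 lc_b_rc_26_7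 lc_b_rc_26_1 lc_b_rc_8_2 lc_b_rc_8_2 lc_b_rc_25_0 lc_b_rc_6_1 lc_b_rc_9_2 lc_b_rc_8_2 lc_b_rc_6_1 lc_b_rc_6_1 lc_b_rc_26_1 lc_b_rc_8_2 lc_b_rc_8_2 lc_b_rc_1_3 lc_b_rc_9_2 lc_b_rc_1_5 lc_b_rc_6_1 lc_b_rc_9_2 lc_b_rc_6_1 lc_b_rc_10_2 lc_b_rc_7_0 lc_b_rc_9_0 lc_b_rc_9_2 lc_b_rc_10_2 lc_b_rc_6_1 lc_b_rc_10_0 lc_b_rc_8_2 lc_b_rc_6_1 lc_b_rc_8_2 lc_b_rc_8_2 lc_b_rc_8_2 lc_b_rc_6_1 lc_b_rc_8_2 lc_b_rc_9_2 lc_b_rc_6_1 lc_b_rc_8_2 lc_b_rc_6_1 lc_b_rc_7_2 lc_b_rc_9_2 lc_b_rc_6_1 lc_b_rc_9_2 lc_b_rc_6_1 lc_b_rc_9_2 lc_b_rc_8_2 lc_b_rc_1_5 lc_b_rc_7_2 lc_b_rc_9_2 lc_b_rc_8_0 lc_b_rc_10_2 lc_b_rc_9_0 lc_b_rc_8_0 lc_b_rc_8_0 lc_b_rc_7_2 lc_b_rc_9_2 lc_b_rc_6_1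 lc_b_rc_26_1 lc_b_rc_9_2) (@D3.rec (fun _ => (Cert rels S Gen.b)) lc_b_rc_6_1 lc_b_rc_8_2 lc_b_rc_8_2 lc_b_rc_6_1 lc_b_rc_8_2 lc_b_Cert_tree lc_b_rc_6_1 lc_b_rc_9_2 lc_b_rc_25_4 lc_b_rc_8_0 lc_b_rc_9_2 lc_b_rc_1_3 lc_b_rc_7_2 lc_b_rc_9_2 lc_b_rc_7_2 lc_b_rc_8_2 lc_b_rc_1_1 lc_b_rc_7_2 lc_b_rc_9_2 lc_b_rc_6_1 lc_b_rc_7_0 lc_b_rc_8_2 lc_b_rc_9_0 lc_b_rc_7_0 lc_b_rc_1_1 lc_b_rc_9_2 lc_b_rc_1_5 lc_b_rc_26_5 lc_b_rc_7_2 lc_b_rc_9_2 lc_b_rc_6_1 lc_b_rc_9_2 lc_b_rc_6_1 lc_b_rc_6_1 lc_b_rc_7_2 lc_b_rc_1_1 lc_b_rc_6_1 lc_b_rc_10_0 lc_b_rc_8_0 lc_b_rc_9_2 lc_b_rc_8_2 lc_b_rc_7_4 lc_b_rc_6_1 lc_b_rc_6_1 lc_b_rc_6_1 lc_b_rc_9_2 lc_b_rc_6_1 lc_b_rc_6_1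 lc_b_rc_26_7 lc_b_rc_26_5 lc_b_rc_8_0 lc_b_rc_8_2 lc_b_rc_9_0 lc_b_rc_9_0 lc_b_rc_9_0 lc_b_rc_26_5 lc_b_rc_8_2 lc_b_rc_9_2 lc_b_rc_1_5 lc_b_rc_26_5 lc_b_rc_8_2 lc_b_rc_26_7) (@D3.rec (fun _ => (Cert rels S Gen.b)) lc_b_rc_6_1 lc_b_rc_8_2 lc_b_rc_8_2 lc_b_rc_8_2 lc_b_rc_26_1 lc_b_rc_9_2 lc_b_rc_1_5 lc_b_rc_6_1 lc_b_rc_8_2 lc_b_rc_8_2 lc_b_rc_26_1 lc_b_rc_6_1 lc_b_rc_8_2 lc_b_rc_7_0 lc_b_rc_8_2 lc_b_rc_6_1 lc_b_rc_8_0 lc_b_rc_7_4 lc_b_rc_8_2 lc_b_rc_6_1 lc_b_rc_8_0 lc_b_rc_9_2 lc_b_rc_6_1 lc_b_rc_8_2 lc_b_rc_7_2 lc_b_rc_6_1 lc_b_rc_6_1 lc_b_rc_6_1 lc_b_rc_6_1 lc_b_rc_26_7 lc_b_rc_8_2 lc_b_rc_6_1 lc_b_rc_10_0 lc_b_rc_9_0 lc_b_rc_26_5 lc_b_rc_1_3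 lc_b_rc_8_2 lc_b_rc_9_2 lc_b_rc_9_0 lc_b_rc_8_2 lc_b_rc_9_2 lc_b_rc_8_2 lc_b_rc_8_0 lc_b_rc_8_0 lc_b_rc_26_5 lc_b_rc_26_1 lc_b_rc_25_8 lc_b_rc_9_2 lc_b_rc_8_0 lc_b_rc_9_2 lc_b_rc_9_2 lc_b_rc_7_2 lc_b_rc_8_2 lc_b_rc_7_4 lc_b_rc_8_0 lc_b_rc_6_1 lc_b_rc_8_2 lc_b_rc_8_2 lc_b_rc_8_0 lc_b_rc_7_4 lc_b_rc_26_7 lc_b_rc_8_2) (@D3.rec (fun _ => (Cert rels S Gen.b)) lc_b_rc_10_2 lc_b_rc_8_2 lc_b_Cert_tree lc_b_rc_1_5 lc_b_rc_7_2 lc_b_rc_7_2 lc_b_rc_9_2 lc_b_rc_8_2 lc_b_rc_8_2 lc_b_rc_8_2 lc_b_rc_6_1 lc_b_Cert_tree lc_b_Cert_tree lc_b_rc_9_2 lc_b_rc_6_1 lc_b_rc_9_2 lc_b_rc_6_1 lc_b_rc_9_2 lc_b_rc_9_2 lc_b_rc_10_2 lc_b_rc_9_2 lc_b_rc_26_7 lc_b_rc_8_2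 lc_b_rc_6_1 lc_b_rc_9_2 lc_b_rc_9_2 lc_b_rc_6_1 lc_b_rc_7_0 lc_b_rc_8_0 lc_b_rc_9_2 lc_b_rc_25_16 lc_b_rc_9_2 lc_b_rc_6_1 lc_b_rc_8_2 lc_b_rc_6_1 lc_b_rc_26_5 lc_b_rc_26_5 lc_b_rc_9_2 lc_b_rc_7_2 lc_b_rc_9_2 lc_b_rc_6_1 lc_b_rc_7_0 lc_b_rc_6_1 lc_b_rc_9_2 lc_b_rc_6_1 lc_b_rc_9_2 lc_b_rc_6_1 lc_b_rc_9_2 lc_b_rc_7_2 lc_b_rc_7_4 lc_b_rc_7_4 lc_b_rc_9_2 lc_b_rc_26_5 lc_b_rc_8_0 lc_b_rc_9_2 lc_b_rc_6_1 lc_b_rc_7_4 lc_b_rc_8_0 lc_b_rc_9_2 lc_b_rc_9_2 lc_b_rc_6_1 lc_b_rc_9_0) (@D3.rec (fun _ => (Cert rels S Gen.b)) lc_b_rc_6_1 lc_b_rc_10_0 lc_b_rc_7_0 lc_b_rc_8_0 lc_b_rc_8_2 lc_b_rc_10_2 lc_b_rc_25_8 lc_b_rc_9_2 lc_b_rc_6_1 lc_b_rc_8_2 lc_b_rc_7_0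 lc_b_rc_1_1 lc_b_rc_26_7 lc_b_rc_6_1 lc_b_rc_25_0 lc_b_rc_8_2 lc_b_rc_1_5 lc_b_rc_8_2 lc_b_rc_9_0 lc_b_rc_9_0 lc_b_rc_6_1 lc_b_rc_6_1 lc_b_rc_6_1 lc_b_rc_7_4 lc_b_rc_9_0 lc_b_rc_6_1 lc_b_rc_7_0 lc_b_rc_1_1 lc_b_rc_6_1 lc_b_rc_9_0 lc_b_rc_1_3 lc_b_rc_1_5 lc_b_rc_7_2 lc_b_rc_25_4 lc_b_rc_7_4 lc_b_rc_6_1 lc_b_rc_8_2 lc_b_rc_6_1 lc_b_rc_10_2 lc_b_rc_7_4 lc_b_rc_26_1 lc_b_rc_25_0 lc_b_rc_26_5 lc_b_rc_8_0 lc_b_rc_8_2 lc_b_rc_26_5 lc_b_rc_9_2 lc_b_rc_26_5 lc_b_rc_6_1 lc_b_rc_8_2 lc_b_rc_8_2 lc_b_rc_7_2 lc_b_rc_8_2 lc_b_rc_6_1 lc_b_rc_8_0 lc_b_rc_25_16 lc_b_rc_10_2 lc_b_Cert_tree lc_b_rc_8_2 lc_b_rc_7_2 lc_b_Cert_tree lc_b_rc_9_2) (@D3.rec (fun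 _ => (Cert rels S Gen.b)) lc_b_rc_25_4 lc_b_rc_6_1 lc_b_rc_6_1 lc_b_rc_7_4 lc_b_rc_8_2 lc_b_rc_26_5 lc_b_rc_6_1 lc_b_rc_9_0 lc_b_rc_26_5 lc_b_rc_26_5 lc_b_rc_6_1 lc_b_rc_9_2 lc_b_rc_26_5 lc_b_rc_6_1 lc_b_rc_6_1 lc_b_rc_8_2 lc_b_rc_8_2 lc_b_rc_7_2 lc_b_rc_26_7 lc_b_rc_10_2 lc_b_rc_6_1 lc_b_rc_7_4 lc_b_rc_6_1 lc_b_rc_7_4 lc_b_rc_26_1 lc_b_rc_8_2 lc_b_rc_26_5 lc_b_rc_26_1 lc_b_rc_6_1 lc_b_rc_9_2 lc_b_rc_8_2 lc_b_rc_8_2 lc_b_rc_9_2 lc_b_rc_8_0 lc_b_rc_1_1 lc_b_rc_9_2 lc_b_rc_7_2 lc_b_rc_10_2 lc_b_rc_8_2 lc_b_rc_10_2 lc_b_rc_9_2 lc_b_rc_6_1 lc_b_rc_26_1 lc_b_rc_9_2 lc_b_rc_8_2 lc_b_rc_1_5 lc_b_rc_1_1 lc_b_rc_10_2 lc_b_Cert_tree lc_b_rc_6_1 lc_b_rc_6_1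 lc_b_rc_8_2 lc_b_rc_6_1 lc_b_rc_8_2 lc_b_rc_6_1 lc_b_rc_8_0 lc_b_rc_8_2 lc_b_rc_6_1 lc_b_rc_26_5 lc_b_rc_7_2 lc_b_rc_9_2 lc_b_rc_25_8) (@D3.rec (fun _ => (Cert rels S Gen.b)) lc_b_rc_8_0 lc_b_rc_1_1 lc_b_rc_26_5 lc_b_rc_8_0 lc_b_rc_8_2 lc_b_rc_7_2 lc_b_rc_10_2 lc_b_rc_8_0 lc_b_rc_6_1 lc_b_rc_8_2 lc_b_rc_10_2 lc_b_rc_9_2 lc_b_rc_6_1 lc_b_rc_10_2 lc_b_rc_9_2 lc_b_rc_6_1 lc_b_rc_6_1 lc_b_rc_6_1 lc_b_rc_26_7 lc_b_rc_9_2 lc_b_rc_9_2 lc_b_rc_10_2 lc_b_rc_9_2 lc_b_rc_6_1 lc_b_rc_26_5 lc_b_rc_9_2 lc_b_rc_9_2 lc_b_rc_9_2 lc_b_rc_8_0 lc_b_rc_8_0 lc_b_rc_7_2 lc_b_rc_8_2 lc_b_Cert_tree lc_b_rc_9_2 lc_b_rc_8_2 lc_b_rc_6_1 lc_b_rc_9_2 lc_b_rc_1_5 lc_b_rc_7_0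 lc_b_rc_10_0 lc_b_rc_8_2 lc_b_rc_26_1 lc_b_rc_6_1 lc_b_rc_7_4 lc_b_rc_10_0 lc_b_rc_8_0 lc_b_rc_10_2 lc_b_rc_8_2 lc_b_rc_26_5 lc_b_rc_8_2 lc_b_rc_8_0 lc_b_rc_25_0 lc_b_Cert_tree lc_b_rc_6_1 lc_b_rc_26_5 lc_b_Cert_tree lc_b_rc_10_2 lc_b_rc_7_2 lc_b_rc_7_4 lc_b_rc_6_1 lc_b_rc_6_1 lc_b_rc_7_2) (@D3.rec (fun _ => (Cert rels S Gen.b)) lc_b_rc_9_0 lc_b_rc_26_5 lc_b_rc_6_1 lc_b_rc_7_4 lc_b_rc_9_2 lc_b_rc_26_5 lc_b_rc_7_0 lc_b_rc_1_3 lc_b_rc_6_1 lc_b_rc_6_1 lc_b_rc_10_0 lc_b_rc_6_1 lc_b_rc_10_0 lc_b_rc_10_2 lc_b_rc_6_1 lc_b_Cert_tree lc_b_rc_9_2 lc_b_rc_9_2 lc_b_rc_7_0 lc_b_rc_10_2 lc_b_rc_9_0 lc_b_Cert_tree lc_b_rc_1_3 lc_b_rc_9_2 lc_b_rc_7_0 lc_b_rc_1_3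 lc_b_rc_8_0 lc_b_rc_6_1 lc_b_rc_7_4 lc_b_rc_1_3 lc_b_rc_6_1 lc_b_rc_10_2 lc_b_rc_9_2 lc_b_rc_6_1 lc_b_rc_9_2 lc_b_rc_8_0 lc_b_rc_26_5 lc_b_rc_6_1 lc_b_Cert_tree lc_b_rc_9_2 lc_b_rc_6_1 lc_b_rc_26_5 lc_b_rc_1_3 lc_b_rc_8_2 lc_b_rc_8_2 lc_b_rc_6_1 lc_b_rc_8_2 lc_b_rc_6_1 lc_b_rc_7_2 lc_b_rc_1_5 lc_b_rc_8_0 lc_b_rc_25_8 lc_b_rc_8_0 lc_b_rc_7_0 lc_b_rc_9_2 lc_b_rc_7_0 lc_b_rc_6_1 lc_b_rc_7_0 lc_b_rc_9_2 lc_b_rc_6_1 lc_b_rc_7_0 lc_b_rc_8_0) (@D3.rec (fun _ => (Cert rels S Gen.b)) lc_b_rc_8_2 lc_b_rc_8_2 lc_b_rc_8_2 lc_b_rc_8_0 lc_b_rc_8_0 lc_b_rc_9_2 lc_b_rc_1_5 lc_b_rc_8_0 lc_b_rc_6_1 lc_b_rc_10_2 lc_b_rc_8_2 lc_b_rc_1_5 lc_b_rc_10_2 lc_b_rc_9_2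 lc_b_rc_6_1 lc_b_rc_7_4 lc_b_rc_8_2 lc_b_rc_26_1 lc_b_rc_1_1 lc_b_rc_6_1 lc_b_rc_7_2 lc_b_rc_7_4 lc_b_rc_6_1 lc_b_rc_6_1 lc_b_rc_8_2 lc_b_rc_10_2 lc_b_rc_26_1 lc_b_rc_8_2 lc_b_rc_8_2 lc_b_rc_6_1 lc_b_rc_8_0 lc_b_rc_9_0 lc_b_rc_6_1 lc_b_rc_26_5 lc_b_rc_1_5 lc_b_rc_1_3 lc_b_rc_8_2 lc_b_rc_9_2 lc_b_rc_8_0 lc_b_rc_26_5 lc_b_rc_9_2 lc_b_rc_1_1 lc_b_rc_8_0 lc_b_rc_26_5 lc_b_rc_26_7 lc_b_rc_9_2 lc_b_rc_10_2 lc_b_rc_9_0 lc_b_rc_7_4 lc_b_rc_10_2 lc_b_rc_7_0 lc_b_rc_1_3 lc_b_rc_8_2 lc_b_rc_8_2 lc_b_rc_10_0 lc_b_rc_7_0 lc_b_rc_7_2 lc_b_rc_9_0 lc_b_rc_8_2 lc_b_rc_26_5 lc_b_rc_6_1 lc_b_rc_7_2) (@D3.rec (fun _ => (Cert rels S Gen.b)) lc_b_rc_9_0 lc_b_rc_7_0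 lc_b_rc_6_1 lc_b_rc_7_4 lc_b_rc_7_4 lc_b_rc_9_2 lc_b_rc_8_2 lc_b_rc_8_2 lc_b_rc_9_2 lc_b_rc_7_4 lc_b_rc_7_4 lc_b_rc_9_2 lc_b_rc_7_0 lc_b_rc_6_1 lc_b_rc_8_2 lc_b_rc_10_2 lc_b_rc_8_0 lc_b_rc_26_5 lc_b_rc_1_5 lc_b_rc_1_1 lc_b_rc_9_2 lc_b_rc_10_2 lc_b_rc_26_5 lc_b_rc_7_0 lc_b_rc_26_1 lc_b_rc_6_1 lc_b_rc_9_2 lc_b_rc_7_4 lc_b_rc_1_1 lc_b_rc_7_2 lc_b_rc_8_0 lc_b_rc_9_2 lc_b_rc_9_2 lc_b_rc_26_1 lc_b_rc_7_0 lc_b_rc_8_2 lc_b_rc_8_2 lc_b_rc_9_2 lc_b_rc_9_2 lc_b_rc_8_2 lc_b_rc_9_2 lc_b_rc_9_0 lc_b_rc_8_2 lc_b_rc_26_1 lc_b_rc_26_7 lc_b_rc_6_1 lc_b_rc_9_2 lc_b_Cert_tree lc_b_rc_8_2 lc_b_rc_6_1 lc_b_rc_8_2 lc_b_rc_7_4 lc_b_rc_6_1 lc_b_rc_8_2 lc_b_rc_9_2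 lc_b_rc_7_0 lc_b_rc_9_2 lc_b_rc_8_2 lc_b_rc_26_5 lc_b_rc_26_7 lc_b_rc_8_2 lc_b_rc_8_2) (@D3.rec (fun _ => (Cert rels S Gen.b)) lc_b_rc_9_2 lc_b_rc_26_5 lc_b_rc_8_2 lc_b_rc_9_2 lc_b_rc_8_0 lc_b_rc_8_0 lc_b_rc_9_0 lc_b_rc_1_5 lc_b_rc_26_1 lc_b_rc_6_1 lc_b_rc_8_2 lc_b_rc_7_2 lc_b_rc_9_2 lc_b_rc_6_1 lc_b_rc_8_2 lc_b_rc_10_2 lc_b_rc_1_3 lc_b_rc_9_2 lc_b_rc_8_2 lc_b_rc_6_1 lc_b_rc_6_1 lc_b_rc_6_1 lc_b_rc_7_2 lc_b_rc_9_2 lc_b_rc_26_5 lc_b_rc_8_2 lc_b_rc_6_1 lc_b_rc_26_5 lc_b_rc_8_0 lc_b_rc_7_2 lc_b_rc_9_2 lc_b_rc_9_0 lc_b_rc_9_0 lc_b_rc_10_2 lc_b_rc_6_1 lc_b_rc_8_2 lc_b_rc_6_1 lc_b_rc_1_1 lc_b_rc_26_7 lc_b_rc_8_2 lc_b_rc_6_1 lc_b_rc_8_2 lc_b_rc_6_1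 lc_b_rc_26_1 lc_b_Cert_tree lc_b_rc_6_1 lc_b_rc_26_5 lc_b_rc_6_1 lc_b_rc_6_1 lc_b_rc_9_2 lc_b_rc_9_2 lc_b_rc_8_2 lc_b_rc_10_2 lc_b_rc_8_0 lc_b_rc_6_1 lc_b_rc_8_2 lc_b_rc_1_5 lc_b_rc_8_2 lc_b_rc_6_1 lc_b_rc_6_1 lc_b_rc_10_2 lc_b_rc_7_2) (@D3.rec (fun _ => (Cert rels S Gen.b)) lc_b_rc_6_1 lc_b_rc_9_2 lc_b_rc_25_0 lc_b_rc_10_2 lc_b_rc_7_4 lc_b_rc_6_1 lc_b_rc_1_5 lc_b_rc_9_2 lc_b_rc_6_1 lc_b_rc_7_0 lc_b_rc_9_2 lc_b_rc_9_2 lc_b_rc_6_1 lc_b_rc_26_5 lc_b_rc_10_2 lc_b_rc_6_1 lc_b_rc_6_1 lc_b_rc_1_1 lc_b_rc_26_7 lc_b_rc_10_2 lc_b_rc_26_5 lc_b_rc_7_2 lc_b_rc_6_1 lc_b_rc_7_0 lc_b_rc_1_5 lc_b_rc_6_1 lc_b_rc_8_2 lc_b_rc_26_5 lc_b_rc_9_2 lc_b_rc_9_2 lc_b_rc_9_0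 lc_b_rc_9_2 lc_b_rc_9_2 lc_b_rc_6_1 lc_b_rc_8_2 lc_b_rc_9_2 lc_b_rc_10_2 lc_b_rc_9_2 lc_b_rc_26_5 lc_b_rc_25_4 lc_b_rc_9_2 lc_b_rc_26_1 lc_b_rc_8_2 lc_b_rc_10_2 lc_b_rc_7_0 lc_b_rc_8_2 lc_b_rc_6_1 lc_b_rc_9_2 lc_b_rc_6_1 lc_b_rc_8_2 lc_b_rc_10_2 lc_b_rc_26_5 lc_b_rc_6_1 lc_b_rc_8_2 lc_b_rc_6_1 lc_b_rc_26_5 lc_b_rc_7_4 lc_b_rc_10_2 lc_b_rc_6_1 lc_b_rc_7_4 lc_b_rc_8_2 lc_b_rc_26_5) (@D3.rec (fun _ => (Cert rels S Gen.b)) lc_b_rc_8_2 lc_b_rc_9_2 lc_b_rc_6_1 lc_b_rc_6_1 lc_b_rc_1_3 lc_b_rc_6_1 lc_b_rc_7_0 lc_b_rc_10_2 lc_b_rc_9_2 lc_b_rc_7_2 lc_b_rc_8_2 lc_b_rc_10_2 lc_b_rc_6_1 lc_b_rc_26_1 lc_b_rc_10_0 lc_b_rc_10_0 lc_b_rc_10_2 lc_b_rc_6_1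 lc_b_rc_8_0 lc_b_rc_10_2 lc_b_rc_6_1 lc_b_rc_26_5 lc_b_rc_7_0 lc_b_rc_7_0 lc_b_rc_7_4 lc_b_rc_7_0 lc_b_rc_26_5 lc_b_rc_6_1 lc_b_rc_1_3 lc_b_rc_8_2 lc_b_rc_9_2 lc_b_rc_8_2 lc_b_rc_6_1 lc_b_rc_9_2 lc_b_rc_7_0 lc_b_rc_7_2 lc_b_rc_8_2 lc_b_rc_1_5 lc_b_rc_26_1 lc_b_rc_1_3 lc_b_rc_8_2 lc_b_rc_6_1 lc_b_rc_8_2 lc_b_rc_7_4 lc_b_rc_1_5 lc_b_rc_10_2 lc_b_rc_26_7 lc_b_rc_1_1 lc_b_rc_7_2 lc_b_rc_9_2 lc_b_rc_10_2 lc_b_rc_9_2 lc_b_rc_10_0 lc_b_rc_8_2 lc_b_rc_9_2 lc_b_rc_8_2 lc_b_rc_25_0 lc_b_rc_10_2 lc_b_rc_8_2 lc_b_rc_9_2 lc_b_rc_1_5 lc_b_rc_10_2) (@D3.rec (fun _ => (Cert rels S Gen.b)) lc_b_rc_26_5 lc_b_rc_8_2 lc_b_rc_7_2 lc_b_rc_8_2 lc_b_rc_9_2 lc_b_Cert_tree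 lc_b_rc_26_5 lc_b_rc_7_4 lc_b_rc_10_2 lc_b_Cert_tree lc_b_rc_9_2 lc_b_rc_8_2 lc_b_rc_7_4 lc_b_rc_8_2 lc_b_rc_6_1 lc_b_rc_9_2 lc_b_rc_7_4 lc_b_rc_8_2 lc_b_rc_8_2 lc_b_rc_8_2 lc_b_rc_6_1 lc_b_rc_1_3 lc_b_rc_9_2 lc_b_rc_26_1 lc_b_rc_6_1 lc_b_rc_26_5 lc_b_rc_9_2 lc_b_Cert_tree lc_b_rc_8_2 lc_b_rc_26_1 lc_b_rc_26_5 lc_b_rc_9_2 lc_b_rc_7_2 lc_b_rc_7_2 lc_b_rc_6_1 lc_b_rc_7_4 lc_b_rc_26_1 lc_b_rc_8_2 lc_b_rc_8_2 lc_b_rc_6_1 lc_b_rc_7_2 lc_b_rc_6_1 lc_b_rc_9_2 lc_b_rc_6_1 lc_b_rc_6_1 lc_b_rc_8_2 lc_b_rc_10_2 lc_b_rc_10_2 lc_b_rc_8_2 lc_b_rc_9_2 lc_b_rc_8_0 lc_b_rc_26_5 lc_b_rc_25_12 lc_b_rc_10_2 lc_b_rc_6_1 lc_b_rc_9_0 lc_b_rc_6_1 lc_b_rc_8_2 lc_b_rc_10_2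 lc_b_rc_9_2 lc_b_rc_8_2 lc_b_rc_26_7) (@D3.rec (fun _ => (Cert rels S Gen.b)) lc_b_rc_26_1 lc_b_rc_6_1 lc_b_rc_9_2 lc_b_rc_9_0 lc_b_rc_26_1 lc_b_rc_1_1 lc_b_rc_8_2 lc_b_rc_26_5 lc_b_rc_9_2 lc_b_rc_1_5 lc_b_rc_10_2 lc_b_rc_8_2 lc_b_rc_6_1 lc_b_rc_8_2 lc_b_rc_8_2 lc_b_rc_9_2 lc_b_Cert_tree lc_b_rc_26_5 lc_b_rc_9_0 lc_b_rc_8_2 lc_b_rc_26_5 lc_b_rc_6_1 lc_b_rc_7_0 lc_b_rc_8_2 lc_b_rc_10_2 lc_b_rc_8_2 lc_b_rc_26_1 lc_b_rc_7_2 lc_b_rc_6_1 lc_b_rc_7_0 lc_b_rc_10_2 lc_b_rc_8_2 lc_b_rc_25_4 lc_b_rc_9_2 lc_b_rc_9_2 lc_b_rc_8_2 lc_b_rc_8_2 lc_b_rc_7_4 lc_b_rc_8_2 lc_b_rc_9_2 lc_b_rc_26_5 lc_b_rc_6_1 lc_b_rc_6_1 lc_b_rc_6_1 lc_b_rc_8_2 lc_b_rc_8_2 lc_b_rc_1_3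 lc_b_rc_9_2 lc_b_rc_7_0 lc_b_rc_1_1 lc_b_rc_9_2 lc_b_rc_6_1 lc_b_rc_26_5 lc_b_rc_10_2 lc_b_rc_6_1 lc_b_rc_6_1 lc_b_rc_1_3 lc_b_rc_8_2 lc_b_rc_1_1 lc_b_rc_8_2 lc_b_rc_1_3 lc_b_rc_8_0) (@D3.rec (fun _ => (Cert rels S Gen.b)) lc_b_rc_6_1 lc_b_rc_25_4 lc_b_rc_1_1 lc_b_rc_8_0 lc_b_rc_6_1 lc_b_rc_26_5 lc_b_rc_9_2 lc_b_rc_26_5 lc_b_rc_9_2 lc_b_rc_8_2 lc_b_rc_1_1 lc_b_Cert_tree lc_b_rc_9_0 lc_b_rc_1_3 lc_b_rc_8_2 lc_b_rc_26_5 lc_b_rc_9_2 lc_b_rc_9_2 lc_b_rc_6_1 lc_b_rc_9_2 lc_b_rc_7_4 lc_b_rc_8_2 lc_b_rc_6_1 lc_b_rc_26_1 lc_b_rc_7_2 lc_b_rc_6_1 lc_b_rc_1_3 lc_b_rc_8_2 lc_b_rc_1_5 lc_b_rc_9_2 lc_b_rc_6_1 lc_b_rc_7_0 lc_b_rc_9_2 lc_b_rc_9_2 lc_b_rc_6_1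 lc_b_rc_6_1 lc_b_rc_26_5 lc_b_rc_8_2 lc_b_rc_1_3 lc_b_rc_9_2 lc_b_rc_6_1 lc_b_rc_6_1 lc_b_rc_8_2 lc_b_rc_10_2 lc_b_rc_8_0 lc_b_rc_9_2 lc_b_rc_9_2 lc_b_rc_9_0 lc_b_rc_1_1 lc_b_rc_8_0 lc_b_rc_6_1 lc_b_rc_1_1 lc_b_rc_8_2 lc_b_rc_25_4 lc_b_rc_9_2 lc_b_rc_8_2 lc_b_rc_9_0 lc_b_rc_1_5 lc_b_rc_7_4 lc_b_rc_26_5 lc_b_rc_9_2 lc_b_rc_7_2) (@D3.rec (fun _ => (Cert rels S Gen.b)) lc_b_rc_7_4 lc_b_rc_8_2 lc_b_rc_9_2 lc_b_rc_8_2 lc_b_rc_9_0 lc_b_rc_9_2 lc_b_rc_6_1 lc_b_rc_7_0 lc_b_rc_7_2 lc_b_rc_9_2 lc_b_rc_9_2 lc_b_rc_9_2 lc_b_rc_6_1 lc_b_rc_26_5 lc_b_rc_6_1 lc_b_rc_7_2 lc_b_rc_8_2 lc_b_rc_26_1 lc_b_rc_8_0 lc_b_rc_26_1 lc_b_rc_8_0 lc_b_rc_26_5 lc_b_rc_1_1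 lc_b_rc_9_2 lc_b_rc_6_1 lc_b_rc_9_2 lc_b_rc_26_5 lc_b_rc_10_2 lc_b_rc_8_2 lc_b_rc_9_2 lc_b_rc_9_2 lc_b_rc_8_2 lc_b_rc_1_3 lc_b_rc_1_3 lc_b_rc_6_1 lc_b_rc_8_2 lc_b_rc_10_2 lc_b_rc_8_2 lc_b_rc_6_1 lc_b_rc_10_2 lc_b_rc_6_1 lc_b_Cert_tree lc_b_rc_8_2 lc_b_rc_8_2 lc_b_rc_6_1 lc_b_rc_10_2 lc_b_rc_8_2 lc_b_rc_8_2 lc_b_rc_9_2 lc_b_rc_9_2 lc_b_rc_10_2 lc_b_rc_6_1 lc_b_rc_6_1 lc_b_rc_10_2 lc_b_rc_10_2 lc_b_rc_26_5 lc_b_rc_8_2 lc_b_rc_6_1 lc_b_rc_8_2 lc_b_rc_9_2 lc_b_rc_6_1 lc_b_rc_8_2) (@D3.rec (fun _ => (Cert rels S Gen.b)) lc_b_rc_26_5 lc_b_rc_8_2 lc_b_rc_7_2 lc_b_rc_8_2 lc_b_rc_8_2 lc_b_rc_6_1 lc_b_rc_8_2 lc_b_rc_26_1 lc_b_rc_8_2 lc_b_rc_6_1 lc_b_rc_9_2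 lc_b_rc_6_1 lc_b_rc_8_2 lc_b_rc_10_2 lc_b_rc_9_2 lc_b_rc_9_2 lc_b_rc_26_5 lc_b_rc_7_4 lc_b_rc_26_5 lc_b_rc_10_2 lc_b_rc_9_2 lc_b_rc_6_1 lc_b_rc_26_5 lc_b_rc_10_2 lc_b_rc_8_2 lc_b_rc_26_5 lc_b_rc_10_2 lc_b_rc_7_4 lc_b_rc_6_1 lc_b_rc_1_5 lc_b_rc_8_2 lc_b_rc_7_0 lc_b_rc_9_2 lc_b_rc_8_2 lc_b_rc_10_2 lc_b_rc_9_2 lc_b_rc_9_0 lc_b_rc_6_1 lc_b_rc_10_2 lc_b_rc_8_2 lc_b_rc_6_1 lc_b_rc_6_1 lc_b_rc_6_1 lc_b_rc_8_2 lc_b_rc_6_1 lc_b_rc_1_3 lc_b_rc_1_3 lc_b_rc_9_2 lc_b_rc_8_2 lc_b_rc_6_1 lc_b_rc_7_4 lc_b_rc_1_5 lc_b_rc_7_4 lc_b_rc_8_2 lc_b_rc_1_1 lc_b_rc_6_1 lc_b_rc_6_1 lc_b_rc_1_5 lc_b_rc_1_1 lc_b_rc_9_2 lc_b_rc_25_4 lc_b_rc_8_2) (@D3.rec (fun _ => (Cert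 rels S Gen.b)) lc_b_rc_6_1 lc_b_rc_26_7 lc_b_rc_6_1 lc_b_rc_8_2 lc_b_rc_26_5 lc_b_rc_26_5 lc_b_rc_8_2 lc_b_rc_6_1 lc_b_rc_1_3 lc_b_rc_9_2 lc_b_rc_9_2 lc_b_rc_6_1 lc_b_rc_8_2 lc_b_rc_8_0 lc_b_rc_6_1 lc_b_rc_8_2 lc_b_rc_7_0 lc_b_rc_1_5 lc_b_rc_6_1 lc_b_rc_26_5 lc_b_rc_9_2 lc_b_rc_6_1 lc_b_rc_10_2 lc_b_rc_6_1 lc_b_rc_1_1 lc_b_rc_6_1 lc_b_rc_6_1 lc_b_rc_1_1 lc_b_rc_9_2 lc_b_rc_26_1 lc_b_rc_7_4 lc_b_rc_26_5 lc_b_rc_26_5 lc_b_rc_6_1 lc_b_rc_6_1 lc_b_rc_7_0 lc_b_rc_10_0 lc_b_rc_6_1 lc_b_rc_26_5 lc_b_rc_7_0 lc_b_rc_6_1 lc_b_rc_10_2 lc_b_rc_1_5 lc_b_rc_6_1 lc_b_rc_7_0 lc_b_rc_9_2 lc_b_rc_26_5 lc_b_rc_8_2 lc_b_rc_9_2 lc_b_rc_9_2 lc_b_rc_6_1 lc_b_rc_25_4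 lc_b_rc_9_2 lc_b_rc_6_1 lc_b_rc_26_5 lc_b_rc_8_2 lc_b_rc_8_2 lc_b_rc_7_4 lc_b_rc_1_5 lc_b_rc_10_2 lc_b_rc_8_2 lc_b_rc_6_1) (@D3.rec (fun _ => (Cert rels S Gen.b)) lc_b_rc_8_2 lc_b_rc_9_0 lc_b_rc_9_2 lc_b_rc_8_2 lc_b_rc_8_2 lc_b_rc_1_5 lc_b_rc_8_2 lc_b_rc_8_2 lc_b_rc_6_1 lc_b_rc_6_1 lc_b_rc_26_7 lc_b_rc_8_2 lc_b_rc_8_2 lc_b_rc_6_1 lc_b_rc_1_3 lc_b_rc_9_2 lc_b_rc_8_2 lc_b_rc_6_1 lc_b_rc_25_4 lc_b_rc_8_2 lc_b_rc_9_2 lc_b_rc_1_3 lc_b_rc_8_0 lc_b_rc_26_5 lc_b_rc_7_4 lc_b_rc_25_4 lc_b_rc_26_1 lc_b_rc_6_1 lc_b_rc_26_5 lc_b_rc_8_2 lc_b_rc_1_5 lc_b_rc_8_2 lc_b_rc_8_2 lc_b_rc_8_2 lc_b_rc_1_1 lc_b_rc_26_5 lc_b_rc_10_2 lc_b_rc_7_2 lc_b_rc_7_2 lc_b_rc_10_0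 lc_b_rc_6_1 lc_b_rc_6_1 lc_b_rc_10_0 lc_b_rc_1_3 lc_b_rc_8_2 lc_b_rc_9_2 lc_b_rc_9_2 lc_b_rc_6_1 lc_b_rc_26_1 lc_b_rc_8_2 lc_b_rc_8_2 lc_b_rc_9_2 lc_b_rc_7_4 lc_b_rc_6_1 lc_b_rc_6_1 lc_b_rc_8_0 lc_b_rc_10_2 lc_b_rc_7_2 lc_b_rc_1_1 lc_b_rc_25_4 lc_b_rc_25_16 lc_b_rc_25_16) (@D3.rec (fun _ => (Cert rels S Gen.b)) lc_b_rc_6_1 lc_b_rc_7_0 lc_b_rc_25_4 lc_b_rc_25_4 lc_b_rc_9_0 lc_b_rc_10_2 lc_b_rc_6_1 lc_b_rc_9_2 lc_b_rc_6_1 lc_b_rc_26_1 lc_b_rc_6_1 lc_b_rc_26_5 lc_b_rc_6_1 lc_b_rc_26_5 lc_b_rc_9_2 lc_b_rc_7_2 lc_b_rc_9_2 lc_b_rc_9_2 lc_b_rc_9_2 lc_b_rc_10_2 lc_b_rc_6_1 lc_b_rc_6_1 lc_b_rc_9_2 lc_b_rc_7_4 lc_b_rc_9_2 lc_b_rc_1_3 lc_b_rc_8_2 lc_b_rc_7_2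 lc_b_rc_1_3 lc_b_rc_26_7 lc_b_rc_6_1 lc_b_rc_8_2 lc_b_rc_8_2 lc_b_rc_9_2 lc_b_rc_9_0 lc_b_rc_26_5 lc_b_rc_9_2 lc_b_rc_6_1 lc_b_rc_26_7 lc_b_rc_26_5 lc_b_rc_8_0 lc_b_rc_9_2 lc_b_rc_6_1 lc_b_rc_8_2 lc_b_rc_8_2 lc_b_rc_9_2 lc_b_rc_9_0 lc_b_rc_7_4 lc_b_Cert_tree lc_b_rc_6_1 lc_b_rc_9_2 lc_b_rc_6_1 lc_b_rc_6_1 lc_b_rc_8_0 lc_b_rc_1_5 lc_b_rc_8_2 lc_b_rc_6_1 lc_b_rc_9_2 lc_b_rc_1_3 lc_b_rc_1_3 lc_b_rc_6_1 lc_b_rc_8_0) (@D3.rec (fun _ => (Cert rels S Gen.b)) lc_b_rc_26_7 lc_b_rc_6_1 lc_b_rc_7_2 lc_b_rc_26_7 lc_b_rc_8_2 lc_b_rc_9_2 lc_b_rc_10_2 lc_b_rc_8_2 lc_b_rc_9_2 lc_b_rc_9_2 lc_b_rc_8_2 lc_b_rc_9_2 lc_b_rc_10_2 lc_b_rc_9_0 lc_b_rc_8_2 lc_b_rc_7_4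 lc_b_rc_26_5 lc_b_rc_6_1 lc_b_rc_9_2 lc_b_rc_8_2 lc_b_rc_10_2 lc_b_rc_8_2 lc_b_rc_8_2 lc_b_rc_26_7 lc_b_rc_1_5 lc_b_rc_6_1 lc_b_rc_7_2 lc_b_rc_8_0 lc_b_rc_9_2 lc_b_rc_26_7 lc_b_rc_9_2 lc_b_rc_9_2 lc_b_rc_6_1 lc_b_rc_26_5 lc_b_rc_1_1 lc_b_rc_6_1 lc_b_rc_26_7 lc_b_rc_9_2 lc_b_rc_26_5 lc_b_rc_8_2 lc_b_rc_8_2 lc_b_rc_8_2 lc_b_rc_10_2 lc_b_rc_8_2 lc_b_rc_8_2 lc_b_rc_10_2 lc_b_rc_6_1 lc_b_rc_9_0 lc_b_rc_26_1 lc_b_rc_8_2 lc_b_rc_25_12 lc_b_rc_7_4 lc_b_rc_7_4 lc_b_rc_8_2 lc_b_rc_26_1 lc_b_rc_6_1 lc_b_rc_8_2 lc_b_rc_9_0 lc_b_rc_10_2 lc_b_rc_1_5 lc_b_rc_6_1 lc_b_rc_1_5) (@D3.rec (fun _ => (Cert rels S Gen.b)) lc_b_rc_26_5 lc_b_rc_6_1 lc_b_rc_8_2 lc_b_rc_8_0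 lc_b_rc_9_2 lc_b_rc_8_2 lc_b_rc_8_2 lc_b_rc_9_2 lc_b_rc_9_0 lc_b_rc_8_2 lc_b_rc_7_2 lc_b_rc_8_2 lc_b_rc_25_16 lc_b_rc_1_3 lc_b_rc_9_2 lc_b_rc_6_1 lc_b_rc_8_2 lc_b_rc_8_2 lc_b_rc_9_2 lc_b_rc_8_0 lc_b_rc_6_1 lc_b_rc_6_1 lc_b_rc_10_0 lc_b_rc_1_1 lc_b_rc_10_2 lc_b_rc_10_2 lc_b_rc_6_1 lc_b_rc_9_2 lc_b_rc_8_2 lc_b_rc_6_1 lc_b_rc_9_2 lc_b_rc_6_1 lc_b_rc_7_4 lc_b_rc_6_1 lc_b_rc_9_2 lc_b_rc_6_1 lc_b_rc_9_2 lc_b_rc_9_2 lc_b_rc_26_5 lc_b_rc_26_5 lc_b_rc_9_2 lc_b_rc_9_2 lc_b_rc_6_1 lc_b_rc_26_5 lc_b_rc_8_0 lc_b_rc_1_1 lc_b_rc_8_2 lc_b_rc_9_0 lc_b_rc_9_2 lc_b_rc_9_0 lc_b_rc_1_5 lc_b_rc_9_2 lc_b_rc_10_2 lc_b_rc_8_2 lc_b_rc_8_2 lc_b_rc_9_0 lc_b_rc_9_0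 lc_b_rc_10_2 lc_b_rc_10_2 lc_b_rc_7_2 lc_b_rc_7_0 lc_b_rc_8_2) (@D3.rec (fun _ => (Cert rels S Gen.b)) lc_b_rc_9_2 lc_b_rc_8_2 lc_b_rc_6_1 lc_b_rc_7_2 lc_b_rc_8_2 lc_b_rc_26_5 lc_b_rc_26_7 lc_b_rc_9_2 lc_b_rc_26_5 lc_b_rc_26_5 lc_b_rc_9_2 lc_b_rc_9_2 lc_b_rc_25_12 lc_b_rc_25_16 lc_b_rc_9_0 lc_b_rc_9_2 lc_b_rc_10_2 lc_b_rc_26_1 lc_b_rc_1_1 lc_b_rc_8_2 lc_b_rc_7_2 lc_b_rc_9_0 lc_b_rc_8_2 lc_b_rc_9_2 lc_b_rc_8_2 lc_b_rc_1_5 lc_b_rc_9_2 lc_b_rc_7_2 lc_b_rc_8_0 lc_b_rc_1_5 lc_b_rc_10_2 lc_b_rc_6_1 lc_b_rc_6_1 lc_b_rc_1_3 lc_b_rc_26_5 lc_b_rc_26_5 lc_b_rc_9_2 lc_b_rc_6_1 lc_b_rc_1_5 lc_b_rc_1_3 lc_b_rc_6_1 lc_b_rc_8_2 lc_b_rc_1_3 lc_b_rc_8_2 lc_b_rc_6_1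 lc_b_rc_7_2 lc_b_rc_6_1 lc_b_rc_8_2 lc_b_rc_8_2 lc_b_rc_9_0 lc_b_rc_8_2 lc_b_rc_8_2 lc_b_rc_8_0 lc_b_rc_8_2 lc_b_rc_9_2 lc_b_rc_6_1 lc_b_rc_6_1 lc_b_rc_8_2 lc_b_rc_1_5 lc_b_rc_8_2 lc_b_rc_9_2 lc_b_rc_10_2) (@D3.rec (fun _ => (Cert rels S Gen.b)) lc_b_rc_1_3 lc_b_rc_26_5 lc_b_rc_9_2 lc_b_rc_1_1 lc_b_rc_9_2 lc_b_rc_26_7 lc_b_rc_25_4 lc_b_rc_6_1 lc_b_rc_7_2 lc_b_rc_6_1 lc_b_rc_1_5 lc_b_rc_25_4 lc_b_rc_26_1 lc_b_rc_26_7 lc_b_rc_6_1 lc_b_rc_8_2 lc_b_rc_26_5 lc_b_rc_25_4 lc_b_rc_10_2 lc_b_rc_6_1 lc_b_rc_8_2 lc_b_Cert_tree lc_b_rc_9_2 lc_b_rc_8_2 lc_b_rc_26_5 lc_b_rc_9_2 lc_b_rc_6_1 lc_b_rc_7_4 lc_b_rc_6_1 lc_b_rc_7_2 lc_b_rc_7_2 lc_b_rc_8_2 lc_b_rc_9_2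 lc_b_rc_8_0 lc_b_rc_10_0 lc_b_rc_26_7 lc_b_rc_8_2 lc_b_rc_6_1 lc_b_rc_8_2 lc_b_rc_6_1 lc_b_rc_7_2 lc_b_rc_8_0 lc_b_rc_7_4 lc_b_rc_8_2 lc_b_rc_26_5 lc_b_rc_9_0 lc_b_Cert_tree lc_b_rc_9_0 lc_b_rc_10_2 lc_b_rc_6_1 lc_b_rc_25_12 lc_b_rc_6_1 lc_b_rc_6_1 lc_b_rc_8_2 lc_b_rc_8_0 lc_b_rc_6_1 lc_b_rc_6_1 lc_b_rc_9_2 lc_b_rc_9_2 lc_b_rc_7_0 lc_b_rc_6_1 lc_b_rc_8_2) (@D3.rec (fun _ => (Cert rels S Gen.b)) lc_b_rc_7_4 lc_b_rc_6_1 lc_b_rc_26_1 lc_b_rc_8_2 lc_b_rc_6_1 lc_b_rc_7_2 lc_b_rc_26_7 lc_b_rc_10_0 lc_b_rc_8_2 lc_b_rc_1_1 lc_b_rc_8_0 lc_b_rc_10_2 lc_b_rc_8_2 lc_b_rc_26_5 lc_b_rc_9_0 lc_b_rc_26_5 lc_b_rc_1_5 lc_b_rc_6_1 lc_b_rc_8_2 lc_b_rc_8_0 lc_b_rc_1_1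 lc_b_rc_8_2 lc_b_rc_8_2 lc_b_rc_26_1 lc_b_rc_7_2 lc_b_rc_6_1 lc_b_rc_7_0 lc_b_rc_10_2 lc_b_rc_1_3 lc_b_rc_26_7 lc_b_rc_6_1 lc_b_rc_10_2 lc_b_rc_6_1 lc_b_rc_26_1 lc_b_rc_9_2 lc_b_rc_7_4 lc_b_rc_8_2 lc_b_rc_8_2 lc_b_rc_8_2 lc_b_rc_8_0 lc_b_rc_6_1 lc_b_rc_8_0 lc_b_rc_8_2 lc_b_Cert_tree lc_b_rc_9_2 lc_b_rc_8_2 lc_b_rc_1_3 lc_b_rc_1_3 lc_b_rc_8_2 lc_b_rc_6_1 lc_b_rc_6_1 lc_b_rc_1_1 lc_b_rc_25_8 lc_b_rc_7_4 lc_b_rc_7_4 lc_b_rc_26_7 lc_b_rc_6_1 lc_b_rc_1_1 lc_b_rc_25_4 lc_b_rc_26_5 lc_b_rc_8_0 lc_b_rc_9_2) (@D3.rec (fun _ => (Cert rels S Gen.b)) lc_b_rc_8_2 lc_b_rc_1_3 lc_b_rc_26_5 lc_b_rc_26_5 lc_b_rc_7_4 lc_b_rc_8_2 lc_b_rc_8_2 lc_b_rc_8_2 lc_b_rc_8_0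 lc_b_rc_26_5 lc_b_rc_8_0 lc_b_rc_7_0 lc_b_rc_6_1 lc_b_rc_7_4 lc_b_rc_7_4 lc_b_rc_6_1 lc_b_rc_6_1 lc_b_rc_7_4 lc_b_rc_6_1 lc_b_rc_8_2 lc_b_rc_6_1 lc_b_rc_6_1 lc_b_rc_1_1 lc_b_rc_8_2 lc_b_rc_7_4 lc_b_rc_25_4 lc_b_rc_9_2 lc_b_rc_8_2 lc_b_rc_1_5 lc_b_rc_8_2 lc_b_rc_9_2 lc_b_rc_9_2 lc_b_rc_9_2 lc_b_rc_1_1 lc_b_rc_9_2 lc_b_rc_1_5 lc_b_rc_26_5 lc_b_rc_8_2 lc_b_rc_8_2 lc_b_rc_1_3 lc_b_rc_9_2 lc_b_rc_7_0 lc_b_rc_6_1 lc_b_rc_10_2 lc_b_rc_26_1 lc_b_rc_1_3 lc_b_rc_7_2 lc_b_rc_9_2 lc_b_rc_9_0 lc_b_rc_7_0 lc_b_rc_6_1 lc_b_rc_9_2 lc_b_rc_1_5 lc_b_rc_6_1 lc_b_rc_8_2 lc_b_rc_9_0 lc_b_rc_8_2 lc_b_rc_8_0 lc_b_rc_8_2 lc_b_rc_9_2 lc_b_rc_26_5 lc_b_rc_8_2)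
def ce_b_30 : D2 → D3 → (Cert rels S Gen.b) := @D2.rec (fun _ => D3 → (Cert rels S Gen.b)) (@D3.rec (fun _ => (Cert rels S Gen.b)) lc_b_rc_6_1 lc_b_Cert_tree lc_b_rc_25_4 lc_b_rc_26_1 lc_b_rc_6_1 lc_b_rc_8_2 lc_b_rc_6_1 lc_b_rc_7_2 lc_b_rc_26_1 lc_b_rc_6_1 lc_b_rc_26_7 lc_b_rc_25_4 lc_b_rc_8_2 lc_b_rc_26_7 lc_b_rc_1_3 lc_b_rc_7_2 lc_b_rc_9_2 lc_b_rc_9_0 lc_b_rc_26_5 lc_b_rc_6_1 lc_b_rc_8_2 lc_b_rc_7_4 lc_b_rc_9_2 lc_b_rc_26_7 lc_b_rc_8_2 lc_b_rc_1_3 lc_b_rc_26_5 lc_b_rc_9_2 lc_b_rc_8_2 lc_b_rc_6_1 lc_b_rc_6_1 lc_b_rc_6_1 lc_b_rc_1_5 lc_b_rc_6_1 lc_b_rc_8_2 lc_b_rc_8_2 lc_b_rc_6_1 lc_b_rc_9_0 lc_b_rc_8_2 lc_b_rc_9_0 lc_b_rc_1_3 lc_b_rc_9_2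 lc_b_rc_9_0 lc_b_rc_8_2 lc_b_rc_9_2 lc_b_rc_8_2 lc_b_rc_26_1 lc_b_rc_9_0 lc_b_rc_8_2 lc_b_rc_10_2 lc_b_rc_8_2 lc_b_rc_9_2 lc_b_rc_7_2 lc_b_rc_10_2 lc_b_rc_1_3 lc_b_rc_7_4 lc_b_rc_9_2 lc_b_rc_7_2 lc_b_rc_10_0 lc_b_rc_1_5 lc_b_rc_6_1 lc_b_rc_26_7) (@D3.rec (fun _ => (Cert rels S Gen.b)) lc_b_rc_9_2 lc_b_rc_1_1 lc_b_rc_6_1 lc_b_rc_25_0 lc_b_rc_7_4 lc_b_rc_9_2 lc_b_rc_26_5 lc_b_rc_6_1 lc_b_rc_8_2 lc_b_rc_1_1 lc_b_rc_7_0 lc_b_rc_9_0 lc_b_rc_26_1 lc_b_rc_6_1 lc_b_rc_8_2 lc_b_rc_8_2 lc_b_rc_8_2 lc_b_rc_8_0 lc_b_rc_6_1 lc_b_rc_8_2 lc_b_rc_9_2 lc_b_rc_8_2 lc_b_rc_9_2 lc_b_rc_26_1 lc_b_rc_1_3 lc_b_rc_6_1 lc_b_rc_7_4 lc_b_rc_26_7 lc_b_rc_26_5 lc_b_rc_8_2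 lc_b_rc_6_1 lc_b_rc_8_2 lc_b_rc_1_3 lc_b_rc_10_2 lc_b_rc_8_2 lc_b_rc_6_1 lc_b_rc_10_0 lc_b_rc_6_1 lc_b_rc_6_1 lc_b_rc_6_1 lc_b_rc_8_2 lc_b_rc_9_2 lc_b_rc_25_0 lc_b_rc_8_2 lc_b_rc_8_2 lc_b_rc_9_2 lc_b_rc_8_2 lc_b_rc_1_5 lc_b_rc_6_1 lc_b_rc_26_5 lc_b_rc_26_5 lc_b_rc_9_2 lc_b_rc_10_0 lc_b_rc_10_2 lc_b_rc_7_4 lc_b_rc_1_5 lc_b_rc_6_1 lc_b_rc_26_1 lc_b_rc_9_2 lc_b_rc_8_2 lc_b_rc_26_5 lc_b_rc_7_0) (@D3.rec (fun _ => (Cert rels S Gen.b)) lc_b_rc_8_2 lc_b_rc_10_2 lc_b_rc_8_2 lc_b_rc_6_1 lc_b_rc_1_5 lc_b_rc_1_5 lc_b_rc_1_5 lc_b_rc_1_3 lc_b_rc_26_7 lc_b_rc_25_4 lc_b_rc_8_2 lc_b_rc_6_1 lc_b_rc_26_5 lc_b_rc_1_3 lc_b_rc_6_1 lc_b_rc_6_1 lc_b_rc_8_0 lc_b_rc_6_1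 lc_b_rc_6_1 lc_b_rc_10_2 lc_b_rc_8_2 lc_b_rc_26_5 lc_b_rc_1_3 lc_b_rc_8_0 lc_b_rc_8_2 lc_b_rc_1_3 lc_b_rc_9_2 lc_b_rc_6_1 lc_b_rc_26_5 lc_b_rc_9_2 lc_b_rc_9_2 lc_b_rc_10_0 lc_b_rc_7_0 lc_b_rc_6_1 lc_b_rc_26_5 lc_b_rc_9_2 lc_b_rc_10_2 lc_b_rc_6_1 lc_b_rc_1_5 lc_b_rc_7_2 lc_b_rc_9_0 lc_b_rc_6_1 lc_b_rc_25_12 lc_b_rc_26_5 lc_b_rc_6_1 lc_b_rc_26_5 lc_b_rc_8_2 lc_b_rc_8_2 lc_b_rc_9_2 lc_b_rc_8_2 lc_b_rc_6_1 lc_b_rc_7_4 lc_b_rc_25_16 lc_b_rc_8_2 lc_b_rc_9_2 lc_b_rc_8_2 lc_b_rc_8_2 lc_b_rc_8_2 lc_b_rc_25_4 lc_b_rc_8_2 lc_b_rc_9_2 lc_b_rc_6_1) (@D3.rec (fun _ => (Cert rels S Gen.b)) lc_b_rc_6_1 lc_b_rc_1_5 lc_b_rc_6_1 lc_b_rc_26_7 lc_b_rc_9_2 lc_b_rc_26_7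 lc_b_rc_1_5 lc_b_rc_1_5 lc_b_rc_7_4 lc_b_rc_6_1 lc_b_rc_8_2 lc_b_rc_9_0 lc_b_rc_8_2 lc_b_rc_10_2 lc_b_rc_10_2 lc_b_rc_9_2 lc_b_rc_8_2 lc_b_rc_8_2 lc_b_rc_9_0 lc_b_rc_6_1 lc_b_rc_6_1 lc_b_rc_8_2 lc_b_rc_8_2 lc_b_rc_10_2 lc_b_rc_8_2 lc_b_rc_6_1 lc_b_rc_6_1 lc_b_Cert_tree lc_b_rc_9_0 lc_b_rc_6_1 lc_b_rc_9_2 lc_b_rc_6_1 lc_b_rc_6_1 lc_b_rc_8_2 lc_b_rc_8_2 lc_b_rc_6_1 lc_b_rc_7_4 lc_b_rc_9_2 lc_b_rc_9_2 lc_b_rc_1_1 lc_b_rc_25_4 lc_b_rc_26_7 lc_b_rc_6_1 lc_b_rc_1_5 lc_b_rc_8_2 lc_b_rc_8_0 lc_b_rc_1_1 lc_b_rc_8_2 lc_b_rc_7_2 lc_b_rc_9_2 lc_b_rc_7_4 lc_b_rc_6_1 lc_b_rc_26_5 lc_b_rc_1_5 lc_b_rc_26_5 lc_b_rc_8_2 lc_b_rc_9_2 lc_b_rc_25_4 lc_b_rc_10_0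 lc_b_rc_10_0 lc_b_rc_26_5 lc_b_rc_8_2) (@D3.rec (fun _ => (Cert rels S Gen.b)) lc_b_rc_8_2 lc_b_rc_1_5 lc_b_rc_6_1 lc_b_rc_8_2 lc_b_rc_8_2 lc_b_rc_26_1 lc_b_rc_9_2 lc_b_rc_26_5 lc_b_rc_26_1 lc_b_rc_6_1 lc_b_rc_6_1 lc_b_rc_9_2 lc_b_rc_6_1 lc_b_rc_26_5 lc_b_rc_26_1 lc_b_rc_6_1 lc_b_rc_9_2 lc_b_rc_8_0 lc_b_rc_9_2 lc_b_rc_7_2 lc_b_rc_6_1 lc_b_rc_8_2 lc_b_rc_10_0 lc_b_rc_1_1 lc_b_rc_8_2 lc_b_rc_9_0 lc_b_rc_8_2 lc_b_rc_6_1 lc_b_rc_6_1 lc_b_rc_8_2 lc_b_rc_7_2 lc_b_rc_9_2 lc_b_rc_8_0 lc_b_rc_7_2 lc_b_rc_7_0 lc_b_Cert_tree lc_b_rc_7_4 lc_b_rc_10_2 lc_b_rc_26_7 lc_b_Cert_tree lc_b_Cert_tree lc_b_rc_8_0 lc_b_rc_6_1 lc_b_rc_8_2 lc_b_rc_25_4 lc_b_rc_8_2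 lc_b_rc_25_12 lc_b_rc_1_3 lc_b_rc_25_0 lc_b_Cert_tree lc_b_rc_6_1 lc_b_rc_26_5 lc_b_rc_6_1 lc_b_rc_7_2 lc_b_rc_6_1 lc_b_rc_26_1 lc_b_rc_26_1 lc_b_rc_8_2 lc_b_rc_9_2 lc_b_rc_6_1 lc_b_rc_7_4 lc_b_rc_26_5) (@D3.rec (fun _ => (Cert rels S Gen.b)) lc_b_rc_26_7 lc_b_rc_6_1 lc_b_Cert_tree lc_b_rc_8_2 lc_b_rc_6_1 lc_b_rc_1_5 lc_b_rc_7_0 lc_b_Cert_tree lc_b_rc_9_2 lc_b_rc_9_2 lc_b_rc_9_2 lc_b_rc_9_0 lc_b_rc_9_2 lc_b_rc_9_2 lc_b_rc_7_0 lc_b_rc_6_1 lc_b_rc_1_3 lc_b_rc_26_5 lc_b_rc_26_5 lc_b_rc_10_2 lc_b_rc_9_0 lc_b_rc_7_2 lc_b_rc_25_0 lc_b_rc_9_2 lc_b_rc_26_1 lc_b_rc_1_5 lc_b_rc_6_1 lc_b_rc_1_3 lc_b_rc_9_2 lc_b_rc_6_1 lc_b_rc_8_2 lc_b_rc_6_1 lc_b_rc_8_2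 lc_b_rc_6_1 lc_b_rc_8_0 lc_b_rc_1_3 lc_b_rc_7_2 lc_b_rc_8_2 lc_b_rc_9_2 lc_b_rc_9_0 lc_b_rc_26_7 lc_b_rc_8_2 lc_b_rc_9_2 lc_b_rc_9_2 lc_b_rc_8_2 lc_b_rc_10_2 lc_b_rc_6_1 lc_b_rc_26_5 lc_b_rc_6_1 lc_b_rc_8_2 lc_b_rc_8_2 lc_b_rc_9_2 lc_b_rc_1_5 lc_b_rc_6_1 lc_b_rc_6_1 lc_b_rc_26_7 lc_b_rc_6_1 lc_b_rc_6_1 lc_b_rc_9_2 lc_b_rc_7_0 lc_b_rc_10_0 lc_b_rc_6_1) (@D3.rec (fun _ => (Cert rels S Gen.b)) lc_b_rc_1_1 lc_b_rc_9_2 lc_b_rc_26_5 lc_b_rc_9_0 lc_b_rc_26_5 lc_b_rc_6_1 lc_b_rc_8_2 lc_b_rc_9_2 lc_b_rc_26_1 lc_b_rc_8_2 lc_b_rc_26_7 lc_b_rc_6_1 lc_b_rc_6_1 lc_b_rc_8_2 lc_b_rc_9_2 lc_b_rc_9_0 lc_b_rc_6_1 lc_b_rc_9_2 lc_b_rc_7_2 lc_b_rc_6_1 lc_b_rc_8_2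 lc_b_rc_26_5 lc_b_rc_26_7 lc_b_rc_7_2 lc_b_rc_8_2 lc_b_rc_7_2 lc_b_rc_6_1 lc_b_rc_8_2 lc_b_rc_9_2 lc_b_rc_9_2 lc_b_rc_7_4 lc_b_rc_26_1 lc_b_rc_6_1 lc_b_rc_1_3 lc_b_rc_6_1 lc_b_rc_6_1 lc_b_rc_8_0 lc_b_rc_8_2 lc_b_rc_26_7 lc_b_rc_26_5 lc_b_rc_10_2 lc_b_rc_6_1 lc_b_rc_9_2 lc_b_rc_6_1 lc_b_rc_1_5 lc_b_rc_8_2 lc_b_rc_6_1 lc_b_rc_1_5 lc_b_rc_26_5 lc_b_rc_7_2 lc_b_rc_9_2 lc_b_rc_7_0 lc_b_rc_6_1 lc_b_rc_1_3 lc_b_rc_9_2 lc_b_rc_9_2 lc_b_rc_6_1 lc_b_rc_8_0 lc_b_rc_1_3 lc_b_rc_9_2 lc_b_rc_9_2 lc_b_rc_26_7) (@D3.rec (fun _ => (Cert rels S Gen.b)) lc_b_rc_26_7 lc_b_Cert_tree lc_b_rc_8_0 lc_b_rc_6_1 lc_b_rc_25_4 lc_b_rc_8_2 lc_b_rc_8_2 lc_b_rc_25_8 lc_b_rc_6_1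 lc_b_rc_9_2 lc_b_rc_9_2 lc_b_rc_25_0 lc_b_rc_9_2 lc_b_rc_26_5 lc_b_rc_7_0 lc_b_rc_10_2 lc_b_rc_8_2 lc_b_rc_1_5 lc_b_rc_25_4 lc_b_rc_9_2 lc_b_rc_6_1 lc_b_rc_9_2 lc_b_Cert_tree lc_b_Cert_tree lc_b_rc_7_2 lc_b_rc_10_2 lc_b_rc_9_2 lc_b_rc_8_2 lc_b_rc_8_2 lc_b_rc_10_2 lc_b_rc_8_2 lc_b_rc_9_2 lc_b_rc_6_1 lc_b_rc_7_0 lc_b_rc_8_2 lc_b_rc_8_2 lc_b_rc_26_5 lc_b_rc_6_1 lc_b_rc_9_2 lc_b_rc_9_2 lc_b_rc_6_1 lc_b_rc_9_0 lc_b_rc_9_2 lc_b_rc_1_3 lc_b_rc_8_2 lc_b_rc_8_2 lc_b_rc_8_2 lc_b_rc_6_1 lc_b_rc_6_1 lc_b_rc_7_2 lc_b_rc_6_1 lc_b_rc_8_2 lc_b_rc_7_2 lc_b_rc_1_3 lc_b_rc_9_0 lc_b_rc_26_5 lc_b_rc_8_2 lc_b_rc_6_1 lc_b_rc_7_2 lc_b_rc_26_5 lc_b_rc_9_2 lc_b_rc_7_2)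 (@D3.rec (fun _ => (Cert rels S Gen.b)) lc_b_rc_9_0 lc_b_rc_8_0 lc_b_rc_6_1 lc_b_rc_8_2 lc_b_rc_6_1 lc_b_rc_8_2 lc_b_rc_6_1 lc_b_rc_1_3 lc_b_rc_8_2 lc_b_rc_1_3 lc_b_rc_1_5 lc_b_rc_26_5 lc_b_rc_26_5 lc_b_rc_6_1 lc_b_rc_8_2 lc_b_rc_7_4 lc_b_rc_1_1 lc_b_rc_26_5 lc_b_rc_1_3 lc_b_rc_26_5 lc_b_rc_7_0 lc_b_rc_1_1 lc_b_rc_7_2 lc_b_rc_8_2 lc_b_rc_8_2 lc_b_rc_7_2 lc_b_rc_10_2 lc_b_rc_9_2 lc_b_rc_26_1 lc_b_rc_8_2 lc_b_rc_26_7 lc_b_rc_8_2 lc_b_rc_7_0 lc_b_rc_6_1 lc_b_rc_6_1 lc_b_rc_6_1 lc_b_rc_8_2 lc_b_rc_6_1 lc_b_rc_6_1 lc_b_rc_8_2 lc_b_rc_9_2 lc_b_rc_26_7 lc_b_rc_6_1 lc_b_rc_25_16 lc_b_rc_1_3 lc_b_rc_8_2 lc_b_rc_6_1 lc_b_rc_26_7 lc_b_rc_8_2 lc_b_rc_9_2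 lc_b_rc_7_4 lc_b_rc_8_2 lc_b_rc_8_2 lc_b_rc_10_2 lc_b_rc_10_2 lc_b_rc_7_2 lc_b_rc_9_2 lc_b_rc_26_5 lc_b_rc_8_0 lc_b_rc_7_0 lc_b_rc_25_4 lc_b_rc_8_0) (@D3.rec (fun _ => (Cert rels S Gen.b)) lc_b_rc_9_0 lc_b_rc_6_1 lc_b_rc_26_5 lc_b_rc_6_1 lc_b_rc_9_2 lc_b_rc_9_2 lc_b_rc_9_2 lc_b_rc_9_2 lc_b_rc_25_16 lc_b_rc_6_1 lc_b_rc_8_2 lc_b_rc_8_2 lc_b_rc_9_0 lc_b_rc_26_5 lc_b_rc_6_1 lc_b_rc_26_7 lc_b_rc_7_4 lc_b_rc_6_1 lc_b_rc_26_7 lc_b_rc_8_2 lc_b_rc_6_1 lc_b_rc_7_4 lc_b_rc_9_2 lc_b_rc_6_1 lc_b_rc_25_12 lc_b_rc_10_2 lc_b_rc_7_4 lc_b_rc_7_4 lc_b_rc_6_1 lc_b_rc_8_2 lc_b_rc_7_4 lc_b_rc_8_2 lc_b_rc_8_2 lc_b_rc_26_1 lc_b_rc_25_0 lc_b_rc_6_1 lc_b_rc_8_2 lc_b_rc_6_1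 lc_b_rc_7_2 lc_b_rc_26_5 lc_b_rc_1_1 lc_b_rc_8_2 lc_b_rc_10_0 lc_b_rc_8_2 lc_b_rc_7_0 lc_b_rc_6_1 lc_b_rc_7_0 lc_b_rc_8_2 lc_b_rc_8_0 lc_b_rc_7_4 lc_b_rc_26_5 lc_b_Cert_tree lc_b_rc_1_3 lc_b_rc_7_4 lc_b_rc_8_2 lc_b_rc_1_5 lc_b_rc_9_2 lc_b_rc_9_2 lc_b_rc_10_2 lc_b_rc_6_1 lc_b_rc_1_3 lc_b_rc_6_1) (@D3.rec (fun _ => (Cert rels S Gen.b)) lc_b_rc_26_1 lc_b_rc_9_2 lc_b_rc_6_1 lc_b_rc_7_4 lc_b_rc_26_1 lc_b_rc_25_0 lc_b_rc_25_4 lc_b_rc_8_2 lc_b_rc_25_12 lc_b_rc_9_2 lc_b_rc_8_0 lc_b_rc_6_1 lc_b_rc_10_2 lc_b_rc_7_2 lc_b_rc_8_2 lc_b_rc_8_2 lc_b_rc_9_0 lc_b_rc_9_0 lc_b_rc_6_1 lc_b_rc_10_0 lc_b_rc_9_0 lc_b_rc_9_0 lc_b_rc_7_2 lc_b_rc_8_2 lc_b_rc_26_1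 lc_b_rc_6_1 lc_b_rc_7_2 lc_b_rc_9_2 lc_b_rc_8_0 lc_b_rc_26_1 lc_b_rc_9_2 lc_b_rc_8_0 lc_b_rc_8_0 lc_b_rc_8_2 lc_b_rc_8_2 lc_b_rc_7_4 lc_b_rc_9_2 lc_b_rc_6_1 lc_b_Cert_tree lc_b_rc_26_1 lc_b_rc_6_1 lc_b_rc_25_4 lc_b_rc_7_4 lc_b_rc_1_5 lc_b_rc_6_1 lc_b_rc_8_2 lc_b_rc_26_1 lc_b_rc_10_2 lc_b_rc_9_2 lc_b_rc_8_2 lc_b_rc_9_0 lc_b_rc_10_2 lc_b_rc_26_1 lc_b_rc_8_0 lc_b_rc_26_5 lc_b_rc_9_0 lc_b_rc_26_7 lc_b_rc_1_5 lc_b_rc_9_2 lc_b_rc_8_0 lc_b_rc_6_1 lc_b_rc_8_2) (@D3.rec (fun _ => (Cert rels S Gen.b)) lc_b_rc_1_5 lc_b_rc_26_1 lc_b_rc_7_2 lc_b_rc_8_2 lc_b_rc_25_4 lc_b_rc_7_0 lc_b_rc_7_2 lc_b_rc_26_7 lc_b_rc_26_5 lc_b_rc_6_1 lc_b_rc_6_1 lc_b_rc_6_1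 lc_b_rc_1_5 lc_b_rc_10_2 lc_b_rc_1_5 lc_b_rc_26_5 lc_b_rc_26_5 lc_b_rc_26_5 lc_b_rc_26_7 lc_b_rc_6_1 lc_b_rc_8_2 lc_b_rc_26_7 lc_b_rc_6_1 lc_b_rc_6_1 lc_b_rc_9_2 lc_b_rc_26_1 lc_b_rc_26_5 lc_b_rc_9_2 lc_b_rc_7_4 lc_b_rc_10_2 lc_b_rc_8_2 lc_b_rc_9_2 lc_b_rc_6_1 lc_b_rc_6_1 lc_b_rc_9_2 lc_b_rc_8_2 lc_b_rc_6_1 lc_b_rc_7_0 lc_b_rc_6_1 lc_b_rc_8_0 lc_b_rc_6_1 lc_b_rc_8_2 lc_b_rc_9_2 lc_b_rc_6_1 lc_b_rc_9_2 lc_b_rc_8_2 lc_b_rc_9_2 lc_b_rc_8_2 lc_b_rc_10_2 lc_b_rc_6_1 lc_b_rc_7_4 lc_b_rc_8_2 lc_b_rc_9_2 lc_b_rc_8_0 lc_b_rc_1_3 lc_b_rc_9_2 lc_b_rc_9_2 lc_b_rc_9_2 lc_b_rc_6_1 lc_b_rc_26_5 lc_b_rc_8_2 lc_b_rc_8_2) (@D3.rec (fun _ => (Cert rels S Gen.b))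 lc_b_rc_26_5 lc_b_rc_10_2 lc_b_rc_6_1 lc_b_rc_8_2 lc_b_rc_10_2 lc_b_rc_10_0 lc_b_rc_9_2 lc_b_rc_26_7 lc_b_rc_8_2 lc_b_rc_6_1 lc_b_rc_26_1 lc_b_rc_6_1 lc_b_rc_9_0 lc_b_rc_8_2 lc_b_rc_8_2 lc_b_rc_1_5 lc_b_rc_26_1 lc_b_rc_7_2 lc_b_rc_7_4 lc_b_rc_26_5 lc_b_rc_6_1 lc_b_rc_26_7 lc_b_rc_6_1 lc_b_rc_1_3 lc_b_rc_7_4 lc_b_rc_9_2 lc_b_rc_9_2 lc_b_rc_8_2 lc_b_rc_6_1 lc_b_rc_25_4 lc_b_rc_8_2 lc_b_rc_8_2 lc_b_rc_6_1 lc_b_rc_7_0 lc_b_rc_8_2 lc_b_rc_7_2 lc_b_rc_6_1 lc_b_rc_6_1 lc_b_rc_6_1 lc_b_rc_7_4 lc_b_rc_9_0 lc_b_rc_26_5 lc_b_rc_6_1 lc_b_rc_26_5 lc_b_rc_9_2 lc_b_rc_7_4 lc_b_rc_7_4 lc_b_rc_26_5 lc_b_rc_26_1 lc_b_rc_1_5 lc_b_rc_7_0 lc_b_rc_7_0 lc_b_rc_6_1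 lc_b_rc_6_1 lc_b_rc_1_3 lc_b_rc_6_1 lc_b_rc_6_1 lc_b_rc_10_2 lc_b_rc_9_2 lc_b_rc_26_5 lc_b_rc_6_1 lc_b_rc_26_5) (@D3.rec (fun _ => (Cert rels S Gen.b)) lc_b_rc_7_0 lc_b_rc_7_2 lc_b_rc_8_2 lc_b_rc_1_1 lc_b_rc_6_1 lc_b_rc_8_2 lc_b_rc_6_1 lc_b_rc_7_0 lc_b_rc_8_2 lc_b_rc_9_2 lc_b_rc_9_0 lc_b_rc_6_1 lc_b_rc_8_2 lc_b_rc_26_7 lc_b_rc_7_4 lc_b_rc_7_2 lc_b_rc_9_2 lc_b_rc_6_1 lc_b_rc_7_2 lc_b_rc_8_2 lc_b_rc_9_2 lc_b_rc_26_5 lc_b_rc_1_3 lc_b_rc_9_2 lc_b_rc_7_0 lc_b_rc_6_1 lc_b_rc_10_2 lc_b_rc_6_1 lc_b_rc_9_2 lc_b_rc_6_1 lc_b_rc_9_0 lc_b_rc_6_1 lc_b_rc_26_1 lc_b_rc_9_2 lc_b_rc_6_1 lc_b_rc_9_0 lc_b_rc_9_0 lc_b_rc_6_1 lc_b_rc_6_1 lc_b_rc_6_1 lc_b_rc_7_0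 lc_b_rc_1_1 lc_b_rc_8_2 lc_b_rc_9_2 lc_b_rc_26_5 lc_b_rc_7_0 lc_b_rc_7_0 lc_b_rc_8_2 lc_b_rc_26_5 lc_b_rc_8_2 lc_b_rc_7_2 lc_b_rc_8_2 lc_b_rc_6_1 lc_b_rc_8_2 lc_b_rc_10_2 lc_b_rc_8_2 lc_b_rc_9_2 lc_b_rc_10_0 lc_b_rc_1_3 lc_b_rc_10_2 lc_b_rc_1_5 lc_b_rc_10_2) (@D3.rec (fun _ => (Cert rels S Gen.b)) lc_b_rc_6_1 lc_b_rc_7_4 lc_b_rc_6_1 lc_b_rc_9_0 lc_b_rc_26_1 lc_b_rc_10_2 lc_b_rc_9_2 lc_b_rc_6_1 lc_b_rc_8_2 lc_b_rc_6_1 lc_b_rc_8_2 lc_b_rc_6_1 lc_b_rc_26_7 lc_b_rc_6_1 lc_b_rc_26_7 lc_b_rc_8_2 lc_b_rc_6_1 lc_b_rc_1_1 lc_b_rc_9_0 lc_b_rc_1_5 lc_b_rc_1_1 lc_b_rc_6_1 lc_b_rc_9_2 lc_b_rc_8_2 lc_b_rc_9_2 lc_b_rc_26_7 lc_b_rc_6_1 lc_b_rc_9_0 lc_b_rc_9_2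 lc_b_rc_6_1 lc_b_rc_8_2 lc_b_rc_26_1 lc_b_rc_7_2 lc_b_rc_9_2 lc_b_rc_1_5 lc_b_rc_8_2 lc_b_rc_6_1 lc_b_rc_8_2 lc_b_rc_1_3 lc_b_rc_26_7 lc_b_rc_7_4 lc_b_rc_10_0 lc_b_rc_7_2 lc_b_rc_9_0 lc_b_rc_26_5 lc_b_rc_8_2 lc_b_rc_10_2 lc_b_rc_6_1 lc_b_rc_26_5 lc_b_rc_10_2 lc_b_rc_9_2 lc_b_rc_7_4 lc_b_rc_25_4 lc_b_rc_9_2 lc_b_rc_6_1 lc_b_rc_6_1 lc_b_rc_9_0 lc_b_rc_9_2 lc_b_rc_6_1 lc_b_rc_10_2 lc_b_rc_9_2 lc_b_rc_7_0) (@D3.rec (fun _ => (Cert rels S Gen.b)) lc_b_rc_8_2 lc_b_rc_26_1 lc_b_rc_6_1 lc_b_rc_9_0 lc_b_rc_26_5 lc_b_rc_8_2 lc_b_rc_1_3 lc_b_rc_9_2 lc_b_rc_26_7 lc_b_rc_26_5 lc_b_rc_9_2 lc_b_rc_6_1 lc_b_rc_7_4 lc_b_rc_6_1 lc_b_rc_8_2 lc_b_rc_9_2 lc_b_rc_9_2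 lc_b_rc_8_2 lc_b_rc_10_2 lc_b_rc_9_2 lc_b_rc_10_2 lc_b_rc_9_2 lc_b_rc_26_1 lc_b_rc_6_1 lc_b_rc_8_2 lc_b_rc_6_1 lc_b_rc_26_5 lc_b_rc_26_1 lc_b_rc_8_2 lc_b_rc_6_1 lc_b_rc_10_2 lc_b_rc_7_4 lc_b_rc_9_2 lc_b_rc_8_2 lc_b_rc_26_1 lc_b_rc_9_2 lc_b_rc_6_1 lc_b_rc_6_1 lc_b_rc_26_5 lc_b_rc_25_4 lc_b_rc_9_2 lc_b_rc_26_5 lc_b_rc_7_4 lc_b_rc_25_4 lc_b_rc_26_1 lc_b_Cert_tree lc_b_rc_6_1 lc_b_rc_9_2 lc_b_rc_1_5 lc_b_rc_9_2 lc_b_rc_6_1 lc_b_rc_7_4 lc_b_rc_9_0 lc_b_rc_10_2 lc_b_rc_6_1 lc_b_rc_7_4 lc_b_rc_7_4 lc_b_rc_26_5 lc_b_rc_7_2 lc_b_rc_7_2 lc_b_Cert_tree lc_b_rc_26_5) (@D3.rec (fun _ => (Cert rels S Gen.b)) lc_b_rc_6_1 lc_b_rc_25_16 lc_b_rc_8_2 lc_b_rc_9_2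 lc_b_rc_25_8 lc_b_rc_26_5 lc_b_rc_7_4 lc_b_rc_8_2 lc_b_rc_9_2 lc_b_rc_26_1 lc_b_rc_26_7 lc_b_rc_1_1 lc_b_rc_10_2 lc_b_rc_6_1 lc_b_rc_26_5 lc_b_rc_8_2 lc_b_rc_1_5 lc_b_rc_26_5 lc_b_rc_1_1 lc_b_rc_6_1 lc_b_rc_26_7 lc_b_rc_9_2 lc_b_rc_6_1 lc_b_rc_25_0 lc_b_rc_26_5 lc_b_rc_6_1 lc_b_rc_25_0 lc_b_rc_9_0 lc_b_rc_6_1 lc_b_rc_10_2 lc_b_rc_7_4 lc_b_rc_6_1 lc_b_rc_26_5 lc_b_rc_8_2 lc_b_rc_6_1 lc_b_rc_26_7 lc_b_rc_6_1 lc_b_rc_8_2 lc_b_rc_9_2 lc_b_rc_9_0 lc_b_rc_6_1 lc_b_rc_6_1 lc_b_rc_8_2 lc_b_rc_26_7 lc_b_rc_26_7 lc_b_rc_26_5 lc_b_rc_6_1 lc_b_Cert_tree lc_b_rc_8_2 lc_b_rc_9_0 lc_b_rc_7_2 lc_b_rc_26_5 lc_b_rc_6_1 lc_b_rc_8_2 lc_b_rc_10_2 lc_b_rc_26_5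 lc_b_rc_1_3 lc_b_rc_26_5 lc_b_rc_26_5 lc_b_rc_7_0 lc_b_rc_8_2 lc_b_rc_8_2) (@D3.rec (fun _ => (Cert rels S Gen.b)) lc_b_rc_9_0 lc_b_rc_7_2 lc_b_rc_6_1 lc_b_rc_9_2 lc_b_rc_6_1 lc_b_rc_26_5 lc_b_rc_8_2 lc_b_rc_1_5 lc_b_rc_8_2 lc_b_rc_6_1 lc_b_rc_25_4 lc_b_rc_26_5 lc_b_rc_10_2 lc_b_rc_8_0 lc_b_rc_1_1 lc_b_rc_7_2 lc_b_rc_8_2 lc_b_rc_7_4 lc_b_rc_8_2 lc_b_rc_6_1 lc_b_rc_26_1 lc_b_rc_8_2 lc_b_rc_9_2 lc_b_rc_9_2 lc_b_rc_7_0 lc_b_rc_7_2 lc_b_rc_7_0 lc_b_rc_26_1 lc_b_rc_7_0 lc_b_rc_10_2 lc_b_rc_7_0 lc_b_rc_7_0 lc_b_rc_26_1 lc_b_rc_9_0 lc_b_rc_8_2 lc_b_rc_8_2 lc_b_rc_8_2 lc_b_rc_9_2 lc_b_rc_8_2 lc_b_rc_9_2 lc_b_rc_9_2 lc_b_rc_26_5 lc_b_rc_7_4 lc_b_rc_6_1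 lc_b_rc_6_1 lc_b_rc_9_2 lc_b_rc_9_2 lc_b_rc_10_2 lc_b_rc_8_2 lc_b_rc_1_1 lc_b_rc_8_2 lc_b_rc_8_0 lc_b_rc_9_2 lc_b_rc_6_1 lc_b_rc_8_2 lc_b_rc_7_0 lc_b_rc_9_2 lc_b_rc_8_2 lc_b_rc_8_2 lc_b_rc_26_1 lc_b_rc_9_2 lc_b_rc_7_0) (@D3.rec (fun _ => (Cert rels S Gen.b)) lc_b_rc_6_1 lc_b_rc_8_2 lc_b_rc_8_2 lc_b_rc_6_1 lc_b_rc_9_2 lc_b_rc_10_2 lc_b_rc_26_5 lc_b_rc_9_2 lc_b_rc_1_5 lc_b_rc_6_1 lc_b_rc_26_5 lc_b_rc_8_2 lc_b_rc_9_2 lc_b_rc_25_0 lc_b_rc_8_2 lc_b_rc_7_0 lc_b_rc_6_1 lc_b_rc_26_5 lc_b_rc_6_1 lc_b_rc_9_2 lc_b_rc_8_2 lc_b_rc_25_4 lc_b_rc_26_1 lc_b_rc_9_2 lc_b_rc_9_2 lc_b_rc_26_7 lc_b_rc_7_4 lc_b_rc_6_1 lc_b_rc_9_0 lc_b_rc_9_2 lc_b_rc_8_2 lc_b_rc_6_1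 lc_b_rc_6_1 lc_b_rc_8_2 lc_b_rc_9_0 lc_b_rc_9_0 lc_b_rc_8_2 lc_b_rc_10_2 lc_b_rc_1_5 lc_b_rc_9_0 lc_b_rc_6_1 lc_b_rc_1_1 lc_b_rc_9_2 lc_b_rc_8_2 lc_b_rc_9_0 lc_b_rc_26_7 lc_b_rc_6_1 lc_b_rc_1_3 lc_b_rc_7_4 lc_b_rc_9_2 lc_b_rc_7_4 lc_b_rc_9_2 lc_b_rc_8_2 lc_b_rc_7_4 lc_b_rc_8_2 lc_b_rc_9_0 lc_b_rc_26_5 lc_b_rc_7_0 lc_b_rc_6_1 lc_b_rc_8_2 lc_b_rc_9_2 lc_b_rc_6_1) (@D3.rec (fun _ => (Cert rels S Gen.b)) lc_b_Cert_tree lc_b_rc_6_1 lc_b_rc_9_2 lc_b_rc_9_2 lc_b_Cert_tree lc_b_rc_6_1 lc_b_rc_7_0 lc_b_rc_1_5 lc_b_rc_9_2 lc_b_rc_8_0 lc_b_rc_6_1 lc_b_rc_9_2 lc_b_rc_6_1 lc_b_rc_6_1 lc_b_rc_1_3 lc_b_rc_9_2 lc_b_rc_7_2 lc_b_rc_7_4 lc_b_rc_9_2 lc_b_rc_9_2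 lc_b_rc_8_2 lc_b_rc_25_0 lc_b_rc_8_0 lc_b_rc_9_2 lc_b_rc_9_2 lc_b_rc_9_2 lc_b_rc_8_0 lc_b_rc_6_1 lc_b_rc_6_1 lc_b_rc_8_2 lc_b_rc_6_1 lc_b_rc_6_1 lc_b_rc_8_2 lc_b_rc_7_4 lc_b_rc_8_2 lc_b_rc_6_1 lc_b_rc_7_0 lc_b_rc_8_2 lc_b_rc_25_0 lc_b_rc_9_2 lc_b_rc_8_2 lc_b_rc_8_2 lc_b_rc_8_2 lc_b_rc_6_1 lc_b_rc_9_0 lc_b_rc_9_2 lc_b_rc_9_2 lc_b_rc_8_2 lc_b_rc_6_1 lc_b_rc_9_2 lc_b_rc_9_2 lc_b_rc_9_2 lc_b_rc_1_3 lc_b_rc_7_4 lc_b_rc_10_2 lc_b_rc_25_0 lc_b_rc_7_4 lc_b_rc_9_2 lc_b_rc_8_2 lc_b_rc_25_16 lc_b_rc_6_1 lc_b_rc_26_5) (@D3.rec (fun _ => (Cert rels S Gen.b)) lc_b_rc_6_1 lc_b_rc_26_1 lc_b_rc_8_0 lc_b_rc_26_5 lc_b_rc_7_4 lc_b_rc_9_2 lc_b_rc_1_3 lc_b_rc_1_3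 lc_b_rc_26_5 lc_b_rc_9_2 lc_b_rc_8_2 lc_b_rc_26_7 lc_b_rc_7_2 lc_b_rc_9_2 lc_b_rc_1_1 lc_b_rc_8_2 lc_b_rc_1_3 lc_b_rc_26_7 lc_b_rc_8_2 lc_b_rc_8_2 lc_b_rc_26_5 lc_b_rc_8_2 lc_b_rc_9_2 lc_b_rc_6_1 lc_b_rc_7_4 lc_b_rc_26_7 lc_b_rc_26_5 lc_b_rc_25_16 lc_b_rc_6_1 lc_b_rc_8_0 lc_b_rc_9_2 lc_b_rc_9_2 lc_b_rc_8_0 lc_b_rc_26_7 lc_b_rc_6_1 lc_b_rc_10_2 lc_b_rc_25_4 lc_b_rc_7_4 lc_b_rc_1_5 lc_b_rc_1_5 lc_b_rc_10_2 lc_b_rc_9_2 lc_b_rc_9_2 lc_b_rc_8_2 lc_b_rc_8_2 lc_b_rc_6_1 lc_b_rc_7_4 lc_b_rc_25_12 lc_b_rc_25_8 lc_b_rc_7_4 lc_b_rc_6_1 lc_b_rc_8_2 lc_b_rc_10_2 lc_b_rc_7_4 lc_b_rc_6_1 lc_b_rc_25_16 lc_b_rc_7_2 lc_b_rc_1_3 lc_b_rc_6_1 lc_b_rc_26_5 lc_b_rc_9_2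 lc_b_rc_6_1) (@D3.rec (fun _ => (Cert rels S Gen.b)) lc_b_rc_26_5 lc_b_rc_6_1 lc_b_rc_8_2 lc_b_rc_26_1 lc_b_rc_26_5 lc_b_rc_1_1 lc_b_rc_9_2 lc_b_rc_9_2 lc_b_rc_6_1 lc_b_rc_1_3 lc_b_rc_1_3 lc_b_rc_10_2 lc_b_rc_26_1 lc_b_rc_9_2 lc_b_rc_1_5 lc_b_rc_10_2 lc_b_rc_7_2 lc_b_rc_9_2 lc_b_rc_9_0 lc_b_rc_7_0 lc_b_rc_9_2 lc_b_rc_8_2 lc_b_rc_26_1 lc_b_rc_25_8 lc_b_rc_9_2 lc_b_Cert_tree lc_b_rc_8_2 lc_b_rc_25_8 lc_b_rc_9_2 lc_b_rc_6_1 lc_b_rc_9_0 lc_b_rc_6_1 lc_b_rc_8_0 lc_b_rc_8_2 lc_b_rc_6_1 lc_b_rc_26_1 lc_b_rc_9_2 lc_b_rc_9_0 lc_b_rc_10_2 lc_b_rc_26_7 lc_b_rc_25_8 lc_b_rc_9_2 lc_b_rc_6_1 lc_b_rc_6_1 lc_b_rc_9_0 lc_b_rc_6_1 lc_b_rc_1_3 lc_b_rc_9_2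 lc_b_rc_8_2 lc_b_rc_7_4 lc_b_Cert_tree lc_b_rc_7_2 lc_b_rc_25_4 lc_b_rc_6_1 lc_b_Cert_tree lc_b_rc_9_2 lc_b_rc_26_7 lc_b_rc_25_8 lc_b_rc_6_1 lc_b_rc_9_2 lc_b_rc_8_0 lc_b_rc_8_2) (@D3.rec (fun _ => (Cert rels S Gen.b)) lc_b_rc_10_2 lc_b_rc_6_1 lc_b_rc_7_2 lc_b_rc_6_1 lc_b_rc_1_3 lc_b_rc_6_1 lc_b_rc_9_2 lc_b_rc_6_1 lc_b_Cert_tree lc_b_Cert_tree lc_b_rc_26_7 lc_b_rc_7_4 lc_b_rc_9_2 lc_b_rc_7_2 lc_b_Cert_tree lc_b_rc_1_1 lc_b_rc_7_4 lc_b_rc_1_3 lc_b_Cert_tree lc_b_rc_6_1 lc_b_rc_26_1 lc_b_rc_9_0 lc_b_rc_10_0 lc_b_rc_10_2 lc_b_rc_6_1 lc_b_Cert_tree lc_b_rc_7_0 lc_b_rc_1_3 lc_b_rc_8_0 lc_b_rc_9_2 lc_b_rc_9_2 lc_b_rc_7_4 lc_b_rc_9_2 lc_b_rc_26_5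 lc_b_rc_6_1 lc_b_rc_9_2 lc_b_rc_26_5 lc_b_rc_9_2 lc_b_rc_6_1 lc_b_rc_7_2 lc_b_rc_10_2 lc_b_rc_25_12 lc_b_rc_6_1 lc_b_rc_1_5 lc_b_rc_26_7 lc_b_rc_6_1 lc_b_rc_1_1 lc_b_rc_9_2 lc_b_rc_26_7 lc_b_rc_6_1 lc_b_rc_9_2 lc_b_rc_6_1 lc_b_rc_1_5 lc_b_rc_26_1 lc_b_rc_26_5 lc_b_rc_26_5 lc_b_rc_6_1 lc_b_rc_26_5 lc_b_rc_1_5 lc_b_rc_6_1 lc_b_rc_9_0 lc_b_rc_6_1) (@D3.rec (fun _ => (Cert rels S Gen.b)) lc_b_rc_25_4 lc_b_rc_6_1 lc_b_rc_1_5 lc_b_rc_26_7 lc_b_rc_26_1 lc_b_rc_1_3 lc_b_rc_6_1 lc_b_rc_1_5 lc_b_rc_9_2 lc_b_rc_26_1 lc_b_rc_9_2 lc_b_rc_6_1 lc_b_rc_6_1 lc_b_rc_6_1 lc_b_rc_8_2 lc_b_rc_6_1 lc_b_rc_9_2 lc_b_rc_8_2 lc_b_rc_26_1 lc_b_rc_6_1 lc_b_rc_6_1 lc_b_rc_26_1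 lc_b_rc_6_1 lc_b_rc_26_5 lc_b_rc_7_0 lc_b_rc_8_0 lc_b_rc_25_0 lc_b_rc_1_5 lc_b_rc_10_0 lc_b_rc_8_2 lc_b_rc_6_1 lc_b_rc_1_5 lc_b_rc_10_2 lc_b_rc_8_2 lc_b_rc_8_2 lc_b_rc_8_0 lc_b_rc_7_4 lc_b_rc_9_2 lc_b_rc_9_2 lc_b_rc_8_2 lc_b_rc_7_4 lc_b_rc_9_2 lc_b_Cert_tree lc_b_rc_6_1 lc_b_rc_6_1 lc_b_rc_8_0 lc_b_rc_9_0 lc_b_rc_9_2 lc_b_rc_8_2 lc_b_rc_6_1 lc_b_rc_6_1 lc_b_rc_6_1 lc_b_rc_9_0 lc_b_rc_9_2 lc_b_rc_1_5 lc_b_rc_1_1 lc_b_rc_8_2 lc_b_rc_9_0 lc_b_rc_9_2 lc_b_rc_8_2 lc_b_rc_25_12 lc_b_rc_1_5) (@D3.rec (fun _ => (Cert rels S Gen.b)) lc_b_rc_9_2 lc_b_rc_1_5 lc_b_rc_9_2 lc_b_rc_6_1 lc_b_rc_26_5 lc_b_rc_7_0 lc_b_rc_7_2 lc_b_rc_26_1 lc_b_rc_9_2 lc_b_rc_9_2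 lc_b_rc_10_2 lc_b_rc_6_1 lc_b_rc_9_2 lc_b_rc_6_1 lc_b_rc_6_1 lc_b_rc_26_1 lc_b_rc_8_2 lc_b_rc_10_2 lc_b_rc_6_1 lc_b_rc_7_2 lc_b_rc_9_0 lc_b_rc_26_7 lc_b_rc_8_0 lc_b_rc_6_1 lc_b_rc_7_2 lc_b_rc_6_1 lc_b_rc_8_2 lc_b_rc_6_1 lc_b_rc_7_4 lc_b_rc_6_1 lc_b_rc_7_4 lc_b_rc_6_1 lc_b_rc_26_5 lc_b_rc_1_1 lc_b_rc_6_1 lc_b_rc_9_0 lc_b_rc_26_5 lc_b_rc_8_2 lc_b_rc_1_3 lc_b_rc_9_2 lc_b_rc_6_1 lc_b_rc_8_2 lc_b_rc_6_1 lc_b_rc_6_1 lc_b_rc_8_2 lc_b_rc_10_0 lc_b_rc_26_5 lc_b_rc_7_2 lc_b_rc_9_0 lc_b_rc_26_1 lc_b_rc_9_0 lc_b_rc_6_1 lc_b_rc_8_0 lc_b_rc_8_2 lc_b_rc_6_1 lc_b_rc_9_2 lc_b_rc_6_1 lc_b_rc_7_2 lc_b_rc_10_0 lc_b_rc_26_5 lc_b_rc_7_2 lc_b_rc_8_0) (@D3.rec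 (fun _ => (Cert rels S Gen.b)) lc_b_rc_26_5 lc_b_rc_9_2 lc_b_rc_26_1 lc_b_rc_1_1 lc_b_rc_9_2 lc_b_rc_1_5 lc_b_rc_6_1 lc_b_rc_7_0 lc_b_rc_9_2 lc_b_rc_10_2 lc_b_rc_9_0 lc_b_rc_10_2 lc_b_rc_6_1 lc_b_rc_8_0 lc_b_rc_7_4 lc_b_rc_8_2 lc_b_rc_8_0 lc_b_rc_9_2 lc_b_rc_8_2 lc_b_rc_9_2 lc_b_rc_26_5 lc_b_rc_9_2 lc_b_rc_10_2 lc_b_rc_10_2 lc_b_rc_9_2 lc_b_rc_7_4 lc_b_rc_9_2 lc_b_rc_10_2 lc_b_rc_9_2 lc_b_rc_6_1 lc_b_rc_8_2 lc_b_rc_6_1 lc_b_rc_26_5 lc_b_rc_6_1 lc_b_rc_6_1 lc_b_rc_26_5 lc_b_rc_8_2 lc_b_rc_8_0 lc_b_rc_9_0 lc_b_rc_9_2 lc_b_rc_8_2 lc_b_rc_8_0 lc_b_rc_8_2 lc_b_rc_1_3 lc_b_rc_6_1 lc_b_rc_1_3 lc_b_rc_9_2 lc_b_rc_6_1 lc_b_rc_25_8 lc_b_Cert_tree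 lc_b_rc_8_0 lc_b_rc_1_3 lc_b_rc_1_3 lc_b_rc_8_0 lc_b_rc_6_1 lc_b_rc_1_3 lc_b_rc_6_1 lc_b_rc_26_1 lc_b_rc_26_1 lc_b_rc_6_1 lc_b_rc_9_2 lc_b_rc_9_2) (@D3.rec (fun _ => (Cert rels S Gen.b)) lc_b_rc_9_2 lc_b_rc_9_2 lc_b_rc_6_1 lc_b_rc_26_5 lc_b_rc_9_0 lc_b_rc_1_3 lc_b_rc_26_5 lc_b_rc_6_1 lc_b_rc_9_2 lc_b_rc_1_1 lc_b_rc_7_2 lc_b_rc_8_2 lc_b_rc_9_2 lc_b_rc_6_1 lc_b_rc_1_5 lc_b_rc_8_2 lc_b_rc_26_1 lc_b_rc_26_5 lc_b_rc_8_2 lc_b_rc_10_2 lc_b_rc_10_2 lc_b_rc_7_2 lc_b_rc_9_2 lc_b_rc_8_2 lc_b_rc_9_2 lc_b_rc_10_2 lc_b_rc_9_2 lc_b_rc_1_5 lc_b_rc_6_1 lc_b_rc_9_2 lc_b_rc_10_2 lc_b_rc_9_2 lc_b_rc_10_0 lc_b_rc_10_0 lc_b_rc_7_2 lc_b_rc_6_1 lc_b_rc_7_2 lc_b_rc_9_2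 lc_b_rc_8_0 lc_b_rc_10_2 lc_b_rc_7_0 lc_b_rc_7_0 lc_b_rc_6_1 lc_b_rc_1_1 lc_b_rc_7_0 lc_b_rc_10_2 lc_b_rc_6_1 lc_b_rc_7_0 lc_b_rc_6_1 lc_b_rc_6_1 lc_b_rc_6_1 lc_b_rc_1_3 lc_b_rc_6_1 lc_b_rc_26_7 lc_b_rc_7_2 lc_b_rc_9_2 lc_b_rc_6_1 lc_b_rc_7_4 lc_b_rc_1_1 lc_b_rc_6_1 lc_b_rc_25_16 lc_b_rc_9_2) (@D3.rec (fun _ => (Cert rels S Gen.b)) lc_b_rc_8_2 lc_b_rc_8_2 lc_b_rc_6_1 lc_b_rc_9_2 lc_b_rc_26_1 lc_b_rc_9_2 lc_b_rc_8_2 lc_b_rc_9_2 lc_b_rc_8_2 lc_b_rc_10_2 lc_b_rc_26_5 lc_b_rc_25_4 lc_b_rc_8_2 lc_b_rc_26_5 lc_b_rc_8_0 lc_b_rc_7_4 lc_b_rc_26_1 lc_b_rc_9_2 lc_b_rc_9_2 lc_b_rc_10_2 lc_b_rc_26_5 lc_b_rc_9_0 lc_b_rc_10_2 lc_b_rc_9_0 lc_b_rc_10_2 lc_b_rc_7_2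 lc_b_rc_9_2 lc_b_rc_6_1 lc_b_rc_9_0 lc_b_rc_10_2 lc_b_rc_6_1 lc_b_rc_26_1 lc_b_rc_9_2 lc_b_rc_8_2 lc_b_rc_26_7 lc_b_rc_7_2 lc_b_rc_7_2 lc_b_rc_9_2 lc_b_rc_9_2 lc_b_rc_9_2 lc_b_rc_10_0 lc_b_rc_8_2 lc_b_rc_10_2 lc_b_rc_8_2 lc_b_rc_26_1 lc_b_rc_10_2 lc_b_rc_8_2 lc_b_rc_6_1 lc_b_rc_7_4 lc_b_rc_1_5 lc_b_rc_1_5 lc_b_rc_9_0 lc_b_rc_8_2 lc_b_rc_8_2 lc_b_rc_6_1 lc_b_rc_26_5 lc_b_rc_9_2 lc_b_rc_6_1 lc_b_rc_10_2 lc_b_rc_7_0 lc_b_rc_1_1 lc_b_rc_26_1) (@D3.rec (fun _ => (Cert rels S Gen.b)) lc_b_rc_25_8 lc_b_rc_8_2 lc_b_rc_26_1 lc_b_rc_7_2 lc_b_rc_1_1 lc_b_rc_6_1 lc_b_rc_26_1 lc_b_rc_26_5 lc_b_rc_6_1 lc_b_rc_9_2 lc_b_Cert_tree lc_b_rc_6_1 lc_b_rc_8_2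 lc_b_rc_6_1 lc_b_rc_6_1 lc_b_Cert_tree lc_b_rc_9_0 lc_b_rc_7_0 lc_b_rc_7_4 lc_b_rc_8_2 lc_b_rc_26_1 lc_b_rc_6_1 lc_b_rc_26_5 lc_b_Cert_tree lc_b_rc_6_1 lc_b_rc_7_4 lc_b_rc_25_8 lc_b_rc_6_1 lc_b_rc_25_12 lc_b_rc_8_0 lc_b_rc_7_4 lc_b_rc_7_0 lc_b_rc_10_2 lc_b_rc_10_2 lc_b_rc_9_0 lc_b_rc_7_4 lc_b_rc_10_0 lc_b_rc_1_1 lc_b_rc_8_2 lc_b_rc_9_2 lc_b_rc_26_1 lc_b_rc_10_0 lc_b_rc_7_2 lc_b_rc_6_1 lc_b_rc_7_0 lc_b_rc_7_2 lc_b_rc_6_1 lc_b_rc_25_0 lc_b_rc_8_2 lc_b_rc_6_1 lc_b_rc_26_5 lc_b_rc_7_0 lc_b_rc_8_0 lc_b_rc_6_1 lc_b_rc_10_0 lc_b_rc_7_4 lc_b_rc_6_1 lc_b_rc_26_1 lc_b_rc_26_7 lc_b_rc_6_1 lc_b_rc_7_2 lc_b_rc_26_7) (@D3.rec (fun _ => (Cert rels S Gen.b))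 lc_b_rc_6_1 lc_b_rc_10_2 lc_b_rc_6_1 lc_b_rc_9_2 lc_b_rc_6_1 lc_b_rc_7_0 lc_b_rc_1_3 lc_b_rc_8_2 lc_b_rc_9_2 lc_b_rc_26_7 lc_b_rc_7_4 lc_b_rc_6_1 lc_b_rc_25_0 lc_b_rc_6_1 lc_b_rc_26_1 lc_b_rc_26_5 lc_b_rc_6_1 lc_b_rc_26_5 lc_b_rc_8_2 lc_b_rc_1_3 lc_b_rc_6_1 lc_b_rc_6_1 lc_b_rc_6_1 lc_b_rc_8_2 lc_b_rc_26_5 lc_b_rc_8_2 lc_b_rc_6_1 lc_b_rc_7_4 lc_b_rc_9_2 lc_b_rc_10_2 lc_b_rc_6_1 lc_b_rc_6_1 lc_b_rc_8_2 lc_b_rc_8_2 lc_b_rc_9_2 lc_b_rc_9_0 lc_b_rc_6_1 lc_b_rc_8_2 lc_b_rc_26_1 lc_b_rc_25_8 lc_b_rc_6_1 lc_b_rc_6_1 lc_b_rc_1_3 lc_b_rc_7_0 lc_b_rc_9_2 lc_b_rc_6_1 lc_b_rc_6_1 lc_b_rc_6_1 lc_b_rc_6_1 lc_b_rc_9_2 lc_b_rc_1_1 lc_b_rc_26_5 lc_b_rc_9_0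 lc_b_rc_10_2 lc_b_rc_9_2 lc_b_rc_7_0 lc_b_rc_1_5 lc_b_rc_8_0 lc_b_rc_7_0 lc_b_rc_7_2 lc_b_rc_6_1 lc_b_rc_9_0) (@D3.rec (fun _ => (Cert rels S Gen.b)) lc_b_rc_7_2 lc_b_rc_7_0 lc_b_rc_25_0 lc_b_rc_6_1 lc_b_rc_25_0 lc_b_rc_1_1 lc_b_rc_8_2 lc_b_rc_9_2 lc_b_rc_9_2 lc_b_rc_25_16 lc_b_rc_8_0 lc_b_rc_1_1 lc_b_rc_7_2 lc_b_rc_25_0 lc_b_rc_6_1 lc_b_rc_9_2 lc_b_rc_8_2 lc_b_rc_6_1 lc_b_rc_10_2 lc_b_rc_8_2 lc_b_rc_9_2 lc_b_rc_6_1 lc_b_rc_10_2 lc_b_rc_9_0 lc_b_rc_1_5 lc_b_rc_8_2 lc_b_rc_7_4 lc_b_rc_1_5 lc_b_rc_6_1 lc_b_rc_6_1 lc_b_rc_9_0 lc_b_rc_8_2 lc_b_rc_10_2 lc_b_Cert_tree lc_b_rc_7_2 lc_b_rc_9_2 lc_b_rc_26_1 lc_b_rc_1_1 lc_b_Cert_tree lc_b_rc_9_2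 lc_b_rc_25_4 lc_b_rc_6_1 lc_b_rc_26_1 lc_b_rc_8_0 lc_b_rc_10_2 lc_b_rc_6_1 lc_b_rc_8_2 lc_b_rc_6_1 lc_b_rc_26_1 lc_b_rc_6_1 lc_b_rc_6_1 lc_b_rc_9_0 lc_b_rc_10_2 lc_b_rc_1_3 lc_b_rc_6_1 lc_b_rc_7_4 lc_b_rc_9_0 lc_b_rc_10_2 lc_b_rc_9_2 lc_b_rc_26_5 lc_b_rc_10_2 lc_b_rc_6_1) (@D3.rec (fun _ => (Cert rels S Gen.b)) lc_b_rc_26_5 lc_b_rc_25_0 lc_b_rc_26_7 lc_b_rc_9_2 lc_b_rc_8_2 lc_b_rc_6_1 lc_b_rc_6_1 lc_b_rc_6_1 lc_b_rc_6_1 lc_b_rc_7_2 lc_b_rc_8_0 lc_b_rc_7_2 lc_b_rc_26_1 lc_b_rc_7_2 lc_b_Cert_tree lc_b_rc_6_1 lc_b_rc_8_2 lc_b_rc_6_1 lc_b_rc_8_2 lc_b_rc_8_2 lc_b_rc_9_2 lc_b_rc_6_1 lc_b_rc_8_2 lc_b_rc_8_2 lc_b_rc_8_0 lc_b_rc_8_0 lc_b_rc_9_2 lc_b_rc_6_1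 lc_b_rc_1_5 lc_b_rc_8_2 lc_b_rc_25_4 lc_b_rc_9_2 lc_b_rc_8_0 lc_b_rc_6_1 lc_b_rc_26_5 lc_b_rc_6_1 lc_b_rc_26_5 lc_b_rc_10_2 lc_b_rc_10_2 lc_b_rc_6_1 lc_b_rc_9_2 lc_b_rc_8_2 lc_b_rc_7_4 lc_b_rc_7_0 lc_b_rc_8_2 lc_b_rc_6_1 lc_b_rc_10_2 lc_b_rc_6_1 lc_b_rc_8_0 lc_b_rc_25_8 lc_b_rc_7_2 lc_b_rc_25_8 lc_b_rc_26_7 lc_b_rc_26_1 lc_b_rc_7_2 lc_b_rc_6_1 lc_b_rc_10_0 lc_b_rc_9_0 lc_b_rc_9_2 lc_b_rc_10_2 lc_b_rc_8_2 lc_b_rc_6_1) (@D3.rec (fun _ => (Cert rels S Gen.b)) lc_b_rc_6_1 lc_b_rc_7_2 lc_b_rc_25_16 lc_b_rc_9_2 lc_b_rc_7_2 lc_b_rc_6_1 lc_b_rc_26_1 lc_b_rc_8_2 lc_b_rc_7_4 lc_b_rc_7_4 lc_b_rc_9_2 lc_b_rc_9_0 lc_b_rc_1_5 lc_b_rc_8_2 lc_b_rc_7_0 lc_b_rc_6_1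 lc_b_rc_9_2 lc_b_rc_26_5 lc_b_rc_9_2 lc_b_rc_6_1 lc_b_rc_8_0 lc_b_rc_6_1 lc_b_rc_9_2 lc_b_rc_10_0 lc_b_rc_10_2 lc_b_rc_10_2 lc_b_rc_8_0 lc_b_rc_6_1 lc_b_rc_26_5 lc_b_rc_9_2 lc_b_rc_6_1 lc_b_rc_10_0 lc_b_rc_26_1 lc_b_rc_10_2 lc_b_rc_9_2 lc_b_rc_8_2 lc_b_rc_7_2 lc_b_rc_6_1 lc_b_rc_10_2 lc_b_rc_8_2 lc_b_rc_9_2 lc_b_rc_8_2 lc_b_rc_8_2 lc_b_rc_8_2 lc_b_rc_8_2 lc_b_rc_7_2 lc_b_rc_6_1 lc_b_rc_6_1 lc_b_rc_9_2 lc_b_rc_9_0 lc_b_rc_26_1 lc_b_rc_8_2 lc_b_rc_9_2 lc_b_rc_26_7 lc_b_rc_26_5 lc_b_rc_9_2 lc_b_rc_1_5 lc_b_rc_1_1 lc_b_rc_7_2 lc_b_rc_26_5 lc_b_rc_6_1 lc_b_rc_9_2) (@D3.rec (fun _ => (Cert rels S Gen.b)) lc_b_rc_6_1 lc_b_rc_1_3 lc_b_rc_9_2 lc_b_rc_7_4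 lc_b_rc_8_2 lc_b_rc_9_2 lc_b_rc_6_1 lc_b_rc_6_1 lc_b_rc_10_2 lc_b_rc_8_2 lc_b_rc_9_0 lc_b_Cert_tree lc_b_rc_8_2 lc_b_rc_10_0 lc_b_rc_10_2 lc_b_rc_7_4 lc_b_rc_10_2 lc_b_rc_1_5 lc_b_rc_6_1 lc_b_rc_8_2 lc_b_rc_7_4 lc_b_rc_26_5 lc_b_rc_6_1 lc_b_rc_6_1 lc_b_rc_6_1 lc_b_rc_8_2 lc_b_rc_8_2 lc_b_rc_26_5 lc_b_rc_10_2 lc_b_rc_9_2 lc_b_rc_8_2 lc_b_rc_6_1 lc_b_rc_26_7 lc_b_rc_26_7 lc_b_rc_8_2 lc_b_rc_8_2 lc_b_rc_26_5 lc_b_rc_8_0 lc_b_rc_26_5 lc_b_rc_9_0 lc_b_rc_9_2 lc_b_rc_10_2 lc_b_rc_6_1 lc_b_rc_9_2 lc_b_rc_7_0 lc_b_rc_9_0 lc_b_rc_9_2 lc_b_rc_7_4 lc_b_rc_9_2 lc_b_rc_10_2 lc_b_rc_7_4 lc_b_rc_8_0 lc_b_rc_8_2 lc_b_rc_9_2 lc_b_rc_1_5 lc_b_rc_8_0 lc_b_rc_6_1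 lc_b_rc_26_5 lc_b_rc_9_2 lc_b_rc_10_2 lc_b_rc_9_0 lc_b_rc_26_5) (@D3.rec (fun _ => (Cert rels S Gen.b)) lc_b_rc_7_0 lc_b_rc_26_5 lc_b_rc_8_2 lc_b_rc_1_5 lc_b_rc_26_5 lc_b_rc_8_2 lc_b_rc_8_2 lc_b_rc_6_1 lc_b_rc_8_2 lc_b_rc_9_2 lc_b_rc_8_2 lc_b_rc_6_1 lc_b_rc_8_2 lc_b_rc_26_5 lc_b_rc_8_2 lc_b_rc_1_3 lc_b_rc_10_2 lc_b_rc_8_2 lc_b_rc_8_2 lc_b_rc_26_5 lc_b_rc_10_2 lc_b_rc_7_2 lc_b_rc_9_2 lc_b_rc_6_1 lc_b_rc_7_2 lc_b_rc_9_2 lc_b_Cert_tree lc_b_rc_6_1 lc_b_rc_7_4 lc_b_rc_9_2 lc_b_rc_9_0 lc_b_rc_8_0 lc_b_rc_1_3 lc_b_rc_10_2 lc_b_rc_6_1 lc_b_rc_26_1 lc_b_rc_9_2 lc_b_rc_8_2 lc_b_rc_10_2 lc_b_rc_9_2 lc_b_rc_7_2 lc_b_rc_8_2 lc_b_rc_9_2 lc_b_rc_26_1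 lc_b_rc_9_2 lc_b_rc_9_2 lc_b_rc_8_2 lc_b_rc_9_0 lc_b_rc_26_5 lc_b_rc_7_2 lc_b_rc_8_2 lc_b_rc_9_2 lc_b_rc_10_2 lc_b_rc_9_0 lc_b_rc_8_2 lc_b_rc_9_2 lc_b_rc_9_0 lc_b_rc_9_0 lc_b_rc_8_2 lc_b_rc_8_2 lc_b_rc_9_2 lc_b_rc_6_1) (@D3.rec (fun _ => (Cert rels S Gen.b)) lc_b_rc_26_7 lc_b_rc_6_1 lc_b_rc_9_0 lc_b_rc_1_3 lc_b_rc_8_0 lc_b_rc_9_2 lc_b_rc_7_2 lc_b_rc_7_2 lc_b_rc_6_1 lc_b_rc_8_2 lc_b_rc_8_2 lc_b_rc_26_5 lc_b_rc_9_2 lc_b_rc_10_2 lc_b_rc_10_0 lc_b_rc_9_2 lc_b_rc_6_1 lc_b_rc_9_2 lc_b_rc_6_1 lc_b_rc_7_2 lc_b_rc_26_5 lc_b_rc_10_2 lc_b_rc_1_3 lc_b_rc_7_2 lc_b_rc_9_2 lc_b_rc_26_7 lc_b_rc_6_1 lc_b_rc_10_2 lc_b_rc_6_1 lc_b_rc_6_1 lc_b_rc_10_2 lc_b_rc_6_1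 lc_b_rc_6_1 lc_b_rc_1_3 lc_b_rc_8_0 lc_b_rc_10_2 lc_b_rc_7_4 lc_b_rc_6_1 lc_b_rc_7_2 lc_b_rc_8_0 lc_b_rc_10_2 lc_b_rc_6_1 lc_b_rc_26_5 lc_b_rc_8_2 lc_b_rc_9_2 lc_b_rc_1_3 lc_b_rc_8_2 lc_b_rc_6_1 lc_b_rc_8_2 lc_b_rc_6_1 lc_b_rc_8_0 lc_b_rc_9_0 lc_b_rc_26_5 lc_b_rc_8_2 lc_b_rc_25_12 lc_b_rc_6_1 lc_b_rc_9_2 lc_b_Cert_tree lc_b_rc_7_2 lc_b_rc_8_2 lc_b_rc_8_2 lc_b_rc_10_2) (@D3.rec (fun _ => (Cert rels S Gen.b)) lc_b_rc_8_2 lc_b_rc_26_1 lc_b_rc_9_0 lc_b_rc_26_5 lc_b_rc_6_1 lc_b_rc_9_2 lc_b_rc_9_2 lc_b_rc_7_2 lc_b_rc_8_0 lc_b_rc_26_7 lc_b_rc_6_1 lc_b_rc_8_2 lc_b_rc_1_5 lc_b_rc_9_0 lc_b_rc_10_2 lc_b_rc_1_5 lc_b_rc_8_2 lc_b_rc_8_2 lc_b_rc_9_2 lc_b_rc_8_2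 lc_b_rc_9_2 lc_b_rc_8_2 lc_b_rc_6_1 lc_b_rc_9_2 lc_b_rc_6_1 lc_b_rc_25_4 lc_b_rc_6_1 lc_b_rc_10_2 lc_b_rc_9_2 lc_b_rc_9_2 lc_b_rc_9_2 lc_b_rc_9_2 lc_b_rc_7_2 lc_b_rc_8_0 lc_b_rc_26_5 lc_b_rc_1_1 lc_b_rc_6_1 lc_b_rc_9_2 lc_b_rc_8_2 lc_b_rc_9_2 lc_b_rc_7_2 lc_b_rc_10_2 lc_b_rc_9_0 lc_b_rc_9_2 lc_b_rc_6_1 lc_b_rc_26_7 lc_b_rc_6_1 lc_b_rc_8_0 lc_b_rc_1_1 lc_b_rc_9_2 lc_b_rc_6_1 lc_b_rc_26_5 lc_b_rc_26_1 lc_b_rc_26_5 lc_b_rc_8_2 lc_b_rc_10_2 lc_b_rc_9_2 lc_b_rc_9_2 lc_b_rc_1_5 lc_b_rc_26_5 lc_b_rc_9_2 lc_b_rc_10_2) (@D3.rec (fun _ => (Cert rels S Gen.b)) lc_b_rc_1_1 lc_b_rc_26_5 lc_b_rc_9_2 lc_b_rc_7_2 lc_b_rc_8_2 lc_b_rc_7_0 lc_b_rc_10_2 lc_b_rc_8_2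 lc_b_rc_8_0 lc_b_rc_7_4 lc_b_rc_7_2 lc_b_Cert_tree lc_b_rc_10_2 lc_b_rc_8_2 lc_b_rc_26_5 lc_b_rc_6_1 lc_b_rc_8_2 lc_b_rc_10_2 lc_b_rc_6_1 lc_b_rc_26_1 lc_b_rc_25_4 lc_b_rc_6_1 lc_b_rc_8_2 lc_b_rc_8_0 lc_b_rc_8_2 lc_b_rc_6_1 lc_b_rc_25_4 lc_b_rc_9_2 lc_b_Cert_tree lc_b_rc_9_0 lc_b_rc_26_7 lc_b_rc_26_7 lc_b_rc_9_2 lc_b_rc_8_2 lc_b_rc_8_2 lc_b_rc_8_2 lc_b_rc_7_4 lc_b_rc_26_7 lc_b_rc_8_2 lc_b_rc_7_4 lc_b_rc_7_0 lc_b_rc_8_2 lc_b_rc_8_2 lc_b_rc_7_4 lc_b_rc_9_2 lc_b_rc_26_5 lc_b_rc_25_0 lc_b_rc_6_1 lc_b_rc_6_1 lc_b_rc_26_7 lc_b_rc_9_2 lc_b_rc_6_1 lc_b_rc_7_0 lc_b_rc_6_1 lc_b_rc_8_2 lc_b_rc_1_1 lc_b_rc_9_2 lc_b_rc_6_1 lc_b_rc_7_0 lc_b_rc_9_2 lc_b_rc_10_2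 lc_b_rc_9_2) (@D3.rec (fun _ => (Cert rels S Gen.b)) lc_b_rc_26_7 lc_b_rc_10_2 lc_b_rc_6_1 lc_b_rc_6_1 lc_b_rc_9_2 lc_b_rc_9_2 lc_b_rc_9_0 lc_b_rc_9_2 lc_b_rc_1_3 lc_b_Cert_tree lc_b_rc_26_5 lc_b_rc_9_2 lc_b_rc_7_4 lc_b_rc_10_2 lc_b_rc_9_2 lc_b_rc_6_1 lc_b_rc_9_0 lc_b_rc_10_2 lc_b_rc_7_0 lc_b_Cert_tree lc_b_rc_7_0 lc_b_rc_6_1 lc_b_rc_1_5 lc_b_rc_7_0 lc_b_rc_7_0 lc_b_rc_10_2 lc_b_rc_10_2 lc_b_rc_1_3 lc_b_rc_9_2 lc_b_rc_8_0 lc_b_rc_10_2 lc_b_rc_6_1 lc_b_rc_8_0 lc_b_rc_1_3 lc_b_rc_9_2 lc_b_rc_8_2 lc_b_rc_6_1 lc_b_rc_8_2 lc_b_rc_6_1 lc_b_rc_8_2 lc_b_rc_6_1 lc_b_rc_25_4 lc_b_rc_9_2 lc_b_rc_6_1 lc_b_rc_26_7 lc_b_rc_26_7 lc_b_rc_25_4 lc_b_rc_10_2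 lc_b_rc_1_3 lc_b_rc_9_2 lc_b_rc_9_2 lc_b_rc_8_2 lc_b_rc_8_2 lc_b_rc_9_2 lc_b_rc_26_5 lc_b_rc_9_0 lc_b_rc_8_2 lc_b_rc_8_2 lc_b_rc_8_0 lc_b_rc_1_5 lc_b_rc_8_2 lc_b_rc_1_3) (@D3.rec (fun _ => (Cert rels S Gen.b)) lc_b_rc_8_2 lc_b_rc_6_1 lc_b_rc_8_0 lc_b_rc_25_4 lc_b_rc_25_8 lc_b_rc_7_0 lc_b_rc_6_1 lc_b_rc_8_2 lc_b_rc_8_0 lc_b_rc_6_1 lc_b_rc_26_7 lc_b_rc_6_1 lc_b_rc_25_0 lc_b_rc_26_5 lc_b_rc_8_2 lc_b_rc_1_5 lc_b_rc_8_2 lc_b_rc_6_1 lc_b_rc_8_2 lc_b_rc_10_2 lc_b_rc_6_1 lc_b_rc_8_2 lc_b_rc_7_2 lc_b_rc_10_2 lc_b_rc_1_5 lc_b_rc_10_2 lc_b_rc_9_2 lc_b_rc_6_1 lc_b_rc_8_0 lc_b_rc_10_2 lc_b_rc_6_1 lc_b_rc_6_1 lc_b_rc_9_2 lc_b_rc_9_2 lc_b_rc_6_1 lc_b_rc_7_2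 lc_b_rc_8_0 lc_b_rc_10_2 lc_b_rc_8_2 lc_b_rc_7_4 lc_b_rc_9_2 lc_b_rc_26_5 lc_b_rc_6_1 lc_b_rc_10_2 lc_b_rc_7_2 lc_b_rc_6_1 lc_b_rc_6_1 lc_b_rc_9_2 lc_b_rc_26_7 lc_b_rc_6_1 lc_b_Cert_tree lc_b_rc_8_2 lc_b_rc_9_2 lc_b_rc_8_2 lc_b_rc_6_1 lc_b_rc_26_1 lc_b_rc_1_3 lc_b_rc_9_2 lc_b_rc_26_5 lc_b_rc_8_2 lc_b_rc_10_0 lc_b_rc_8_2) (@D3.rec (fun _ => (Cert rels S Gen.b)) lc_b_rc_6_1 lc_b_rc_1_3 lc_b_rc_26_5 lc_b_rc_10_2 lc_b_rc_6_1 lc_b_rc_1_1 lc_b_rc_7_2 lc_b_rc_6_1 lc_b_rc_6_1 lc_b_rc_8_2 lc_b_Cert_tree lc_b_rc_9_2 lc_b_rc_6_1 lc_b_Cert_tree lc_b_rc_9_2 lc_b_Cert_tree lc_b_rc_9_2 lc_b_rc_25_4 lc_b_rc_7_4 lc_b_rc_6_1 lc_b_rc_1_5 lc_b_rc_1_3 lc_b_rc_9_2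 lc_b_rc_9_2 lc_b_rc_6_1 lc_b_rc_9_2 lc_b_rc_9_2 lc_b_rc_6_1 lc_b_rc_9_2 lc_b_rc_10_2 lc_b_rc_8_0 lc_b_rc_9_2 lc_b_rc_6_1 lc_b_rc_8_2 lc_b_rc_8_2 lc_b_rc_9_2 lc_b_rc_10_0 lc_b_rc_26_1 lc_b_rc_6_1 lc_b_rc_1_1 lc_b_rc_8_0 lc_b_rc_10_2 lc_b_rc_10_2 lc_b_rc_6_1 lc_b_rc_7_2 lc_b_rc_7_4 lc_b_rc_6_1 lc_b_rc_1_5 lc_b_rc_9_2 lc_b_rc_8_2 lc_b_rc_6_1 lc_b_rc_26_1 lc_b_rc_8_2 lc_b_rc_8_2 lc_b_rc_26_7 lc_b_rc_8_2 lc_b_rc_9_2 lc_b_rc_8_2 lc_b_rc_8_2 lc_b_Cert_tree lc_b_rc_26_7 lc_b_rc_1_1) (@D3.rec (fun _ => (Cert rels S Gen.b)) lc_b_rc_1_1 lc_b_rc_7_4 lc_b_rc_9_2 lc_b_rc_7_0 lc_b_rc_9_2 lc_b_rc_7_4 lc_b_rc_9_2 lc_b_rc_6_1 lc_b_rc_6_1 lc_b_rc_6_1 lc_b_rc_26_5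 lc_b_rc_8_2 lc_b_rc_8_2 lc_b_rc_25_4 lc_b_rc_6_1 lc_b_rc_7_0 lc_b_rc_10_2 lc_b_rc_6_1 lc_b_rc_7_0 lc_b_rc_6_1 lc_b_rc_9_2 lc_b_rc_8_2 lc_b_rc_8_2 lc_b_rc_25_8 lc_b_rc_8_2 lc_b_Cert_tree lc_b_rc_6_1 lc_b_rc_7_2 lc_b_rc_9_2 lc_b_Cert_tree lc_b_rc_6_1 lc_b_rc_8_2 lc_b_rc_7_4 lc_b_rc_9_2 lc_b_rc_8_0 lc_b_rc_10_2 lc_b_rc_26_5 lc_b_rc_6_1 lc_b_rc_6_1 lc_b_rc_10_2 lc_b_rc_6_1 lc_b_rc_26_7 lc_b_rc_6_1 lc_b_rc_8_2 lc_b_rc_9_2 lc_b_rc_6_1 lc_b_rc_6_1 lc_b_rc_26_7 lc_b_rc_7_4 lc_b_rc_10_2 lc_b_rc_9_2 lc_b_rc_8_2 lc_b_rc_9_2 lc_b_rc_6_1 lc_b_rc_8_2 lc_b_rc_9_2 lc_b_rc_26_1 lc_b_rc_8_2 lc_b_rc_7_4 lc_b_rc_10_2 lc_b_rc_9_2 lc_b_rc_9_2) (@D3.rec (fun _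 => (Cert rels S Gen.b)) lc_b_rc_10_2 lc_b_rc_8_0 lc_b_rc_6_1 lc_b_rc_10_0 lc_b_rc_26_7 lc_b_rc_7_4 lc_b_rc_8_2 lc_b_rc_10_2 lc_b_rc_6_1 lc_b_rc_26_1 lc_b_rc_8_0 lc_b_rc_1_5 lc_b_rc_6_1 lc_b_rc_9_2 lc_b_rc_1_1 lc_b_rc_8_0 lc_b_rc_9_2 lc_b_rc_6_1 lc_b_rc_10_0 lc_b_rc_8_2 lc_b_rc_10_2 lc_b_rc_26_5 lc_b_rc_6_1 lc_b_rc_8_2 lc_b_rc_7_4 lc_b_rc_8_0 lc_b_rc_6_1 lc_b_rc_26_5 lc_b_rc_8_2 lc_b_rc_26_5 lc_b_rc_1_5 lc_b_rc_6_1 lc_b_rc_6_1 lc_b_rc_8_2 lc_b_rc_26_1 lc_b_rc_7_4 lc_b_rc_1_3 lc_b_rc_6_1 lc_b_rc_1_1 lc_b_rc_26_5 lc_b_rc_6_1 lc_b_rc_1_3 lc_b_rc_7_0 lc_b_rc_9_2 lc_b_rc_9_2 lc_b_rc_6_1 lc_b_rc_10_0 lc_b_rc_7_4 lc_b_rc_9_2 lc_b_rc_7_2 lc_b_rc_26_5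 lc_b_rc_7_4 lc_b_rc_9_2 lc_b_rc_8_0 lc_b_rc_1_3 lc_b_rc_7_4 lc_b_rc_26_1 lc_b_rc_6_1 lc_b_rc_10_0 lc_b_rc_8_2 lc_b_rc_25_16 lc_b_rc_7_2) (@D3.rec (fun _ => (Cert rels S Gen.b)) lc_b_rc_26_5 lc_b_rc_26_5 lc_b_rc_25_0 lc_b_rc_8_2 lc_b_rc_26_5 lc_b_rc_26_1 lc_b_rc_10_2 lc_b_rc_6_1 lc_b_rc_25_0 lc_b_rc_9_2 lc_b_rc_26_5 lc_b_rc_9_2 lc_b_rc_6_1 lc_b_rc_7_4 lc_b_rc_9_2 lc_b_rc_1_3 lc_b_rc_10_2 lc_b_rc_1_3 lc_b_rc_1_1 lc_b_rc_9_0 lc_b_rc_7_4 lc_b_rc_10_2 lc_b_rc_7_4 lc_b_rc_7_0 lc_b_rc_1_3 lc_b_rc_8_2 lc_b_rc_26_1 lc_b_rc_6_1 lc_b_rc_8_2 lc_b_rc_26_7 lc_b_rc_6_1 lc_b_rc_7_4 lc_b_rc_9_2 lc_b_rc_26_5 lc_b_rc_26_5 lc_b_rc_9_2 lc_b_rc_6_1 lc_b_rc_9_2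 lc_b_rc_8_2 lc_b_rc_9_2 lc_b_rc_1_3 lc_b_rc_6_1 lc_b_rc_6_1 lc_b_rc_25_4 lc_b_rc_6_1 lc_b_rc_6_1 lc_b_rc_8_2 lc_b_rc_9_2 lc_b_rc_7_0 lc_b_rc_6_1 lc_b_rc_26_1 lc_b_rc_9_2 lc_b_rc_10_2 lc_b_rc_6_1 lc_b_rc_26_5 lc_b_rc_9_2 lc_b_rc_10_2 lc_b_rc_10_2 lc_b_rc_10_2 lc_b_rc_9_2 lc_b_rc_8_2 lc_b_rc_9_2) (@D3.rec (fun _ => (Cert rels S Gen.b)) lc_b_rc_10_2 lc_b_rc_10_2 lc_b_rc_6_1 lc_b_rc_1_5 lc_b_rc_7_0 lc_b_rc_10_2 lc_b_rc_9_2 lc_b_rc_6_1 lc_b_rc_6_1 lc_b_rc_6_1 lc_b_rc_9_2 lc_b_rc_6_1 lc_b_rc_8_2 lc_b_rc_10_2 lc_b_rc_6_1 lc_b_rc_8_2 lc_b_rc_7_0 lc_b_rc_8_2 lc_b_rc_8_2 lc_b_rc_8_0 lc_b_rc_8_2 lc_b_rc_6_1 lc_b_rc_6_1 lc_b_rc_26_1 lc_b_rc_26_1 lc_b_rc_8_2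 lc_b_rc_6_1 lc_b_rc_25_12 lc_b_rc_10_2 lc_b_rc_6_1 lc_b_rc_26_5 lc_b_rc_6_1 lc_b_rc_26_1 lc_b_rc_26_7 lc_b_rc_10_0 lc_b_rc_6_1 lc_b_rc_26_1 lc_b_rc_6_1 lc_b_rc_6_1 lc_b_rc_9_2 lc_b_rc_7_4 lc_b_rc_8_2 lc_b_rc_6_1 lc_b_rc_6_1 lc_b_rc_10_2 lc_b_rc_6_1 lc_b_rc_6_1 lc_b_rc_6_1 lc_b_rc_9_2 lc_b_rc_7_2 lc_b_rc_9_0 lc_b_rc_1_1 lc_b_rc_9_2 lc_b_Cert_tree lc_b_rc_7_4 lc_b_rc_26_5 lc_b_rc_9_0 lc_b_rc_6_1 lc_b_rc_26_5 lc_b_rc_8_2 lc_b_rc_10_2 lc_b_rc_26_1) (@D3.rec (fun _ => (Cert rels S Gen.b)) lc_b_rc_6_1 lc_b_rc_7_2 lc_b_rc_26_5 lc_b_rc_25_8 lc_b_rc_9_2 lc_b_rc_26_1 lc_b_rc_8_2 lc_b_rc_6_1 lc_b_rc_9_0 lc_b_rc_26_7 lc_b_rc_6_1 lc_b_rc_6_1 lc_b_rc_8_2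 lc_b_rc_26_5 lc_b_rc_7_4 lc_b_rc_6_1 lc_b_rc_9_0 lc_b_rc_6_1 lc_b_rc_7_0 lc_b_rc_6_1 lc_b_rc_8_2 lc_b_rc_7_4 lc_b_rc_9_0 lc_b_rc_6_1 lc_b_rc_8_2 lc_b_rc_9_2 lc_b_rc_6_1 lc_b_rc_6_1 lc_b_rc_6_1 lc_b_rc_8_2 lc_b_rc_7_4 lc_b_rc_26_1 lc_b_rc_8_0 lc_b_rc_8_2 lc_b_rc_8_2 lc_b_rc_26_5 lc_b_rc_1_5 lc_b_rc_8_2 lc_b_rc_26_1 lc_b_rc_10_2 lc_b_rc_7_4 lc_b_rc_9_2 lc_b_rc_1_5 lc_b_rc_8_2 lc_b_rc_7_4 lc_b_rc_10_2 lc_b_rc_6_1 lc_b_rc_1_1 lc_b_rc_10_2 lc_b_rc_1_5 lc_b_rc_26_5 lc_b_rc_6_1 lc_b_rc_6_1 lc_b_rc_6_1 lc_b_rc_9_2 lc_b_rc_10_2 lc_b_rc_6_1 lc_b_rc_26_1 lc_b_rc_7_2 lc_b_rc_1_5 lc_b_rc_26_5 lc_b_rc_9_2) (@D3.rec (fun _ => (Cert rels S Gen.b)) lc_b_rc_9_0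 lc_b_rc_8_2 lc_b_rc_9_2 lc_b_rc_6_1 lc_b_rc_7_4 lc_b_rc_9_2 lc_b_rc_9_2 lc_b_rc_9_2 lc_b_rc_6_1 lc_b_rc_6_1 lc_b_rc_9_0 lc_b_rc_8_2 lc_b_rc_26_1 lc_b_rc_6_1 lc_b_rc_6_1 lc_b_rc_26_5 lc_b_rc_8_2 lc_b_rc_10_2 lc_b_rc_8_2 lc_b_rc_7_4 lc_b_rc_9_2 lc_b_rc_8_2 lc_b_rc_10_2 lc_b_rc_9_2 lc_b_rc_9_2 lc_b_rc_6_1 lc_b_rc_8_2 lc_b_rc_9_0 lc_b_rc_9_0 lc_b_rc_9_0 lc_b_rc_7_0 lc_b_rc_10_2 lc_b_rc_10_2 lc_b_rc_8_2 lc_b_rc_6_1 lc_b_rc_8_2 lc_b_rc_6_1 lc_b_rc_8_2 lc_b_rc_25_16 lc_b_rc_6_1 lc_b_rc_6_1 lc_b_rc_1_5 lc_b_rc_9_0 lc_b_rc_8_2 lc_b_rc_8_2 lc_b_rc_6_1 lc_b_rc_8_2 lc_b_rc_9_2 lc_b_rc_25_0 lc_b_rc_1_1 lc_b_rc_26_1 lc_b_rc_26_5 lc_b_rc_9_2 lc_b_rc_8_2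 lc_b_rc_6_1 lc_b_rc_6_1 lc_b_rc_8_2 lc_b_rc_26_5 lc_b_rc_6_1 lc_b_rc_26_5 lc_b_rc_26_1 lc_b_rc_1_1) (@D3.rec (fun _ => (Cert rels S Gen.b)) lc_b_rc_6_1 lc_b_rc_8_0 lc_b_rc_8_0 lc_b_rc_6_1 lc_b_rc_8_2 lc_b_rc_6_1 lc_b_rc_9_2 lc_b_rc_9_2 lc_b_rc_7_4 lc_b_rc_9_2 lc_b_rc_8_2 lc_b_rc_9_0 lc_b_rc_9_0 lc_b_rc_8_2 lc_b_rc_9_2 lc_b_rc_6_1 lc_b_rc_9_2 lc_b_rc_7_4 lc_b_rc_7_2 lc_b_rc_6_1 lc_b_rc_10_2 lc_b_rc_6_1 lc_b_rc_8_2 lc_b_Cert_tree lc_b_rc_6_1 lc_b_rc_6_1 lc_b_rc_26_1 lc_b_rc_6_1 lc_b_rc_25_16 lc_b_rc_9_2 lc_b_rc_8_2 lc_b_rc_9_2 lc_b_rc_8_2 lc_b_rc_6_1 lc_b_rc_25_16 lc_b_rc_7_0 lc_b_rc_9_2 lc_b_rc_6_1 lc_b_rc_8_0 lc_b_rc_9_2 lc_b_rc_1_1 lc_b_rc_10_2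 lc_b_rc_6_1 lc_b_rc_6_1 lc_b_rc_9_2 lc_b_rc_8_2 lc_b_rc_6_1 lc_b_rc_6_1 lc_b_rc_25_0 lc_b_rc_26_1 lc_b_rc_9_0 lc_b_rc_8_2 lc_b_rc_9_2 lc_b_rc_9_2 lc_b_rc_7_2 lc_b_rc_7_0 lc_b_rc_7_2 lc_b_rc_6_1 lc_b_rc_9_0 lc_b_rc_26_7 lc_b_rc_9_2 lc_b_rc_6_1) (@D3.rec (fun _ => (Cert rels S Gen.b)) lc_b_rc_9_2 lc_b_rc_25_4 lc_b_rc_7_2 lc_b_rc_26_5 lc_b_rc_8_2 lc_b_rc_8_2 lc_b_rc_9_2 lc_b_rc_6_1 lc_b_rc_7_4 lc_b_rc_8_2 lc_b_rc_7_0 lc_b_rc_10_2 lc_b_rc_1_3 lc_b_rc_25_0 lc_b_rc_8_2 lc_b_rc_10_2 lc_b_rc_7_0 lc_b_rc_1_3 lc_b_rc_1_3 lc_b_rc_6_1 lc_b_rc_26_5 lc_b_rc_8_0 lc_b_rc_9_2 lc_b_rc_7_0 lc_b_rc_6_1 lc_b_rc_8_2 lc_b_rc_7_0 lc_b_rc_6_1 lc_b_rc_7_0 lc_b_rc_7_4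 lc_b_rc_6_1 lc_b_rc_1_5 lc_b_rc_9_0 lc_b_rc_26_1 lc_b_rc_8_2 lc_b_rc_26_1 lc_b_rc_10_2 lc_b_rc_26_7 lc_b_rc_9_2 lc_b_rc_6_1 lc_b_rc_8_2 lc_b_rc_6_1 lc_b_rc_8_2 lc_b_rc_1_1 lc_b_rc_10_2 lc_b_rc_25_0 lc_b_rc_6_1 lc_b_rc_26_1 lc_b_rc_10_2 lc_b_rc_26_7 lc_b_rc_9_2 lc_b_rc_6_1 lc_b_rc_6_1 lc_b_rc_10_0 lc_b_rc_8_2 lc_b_rc_8_2 lc_b_rc_9_2 lc_b_rc_8_2 lc_b_rc_6_1 lc_b_rc_6_1 lc_b_rc_26_7 lc_b_rc_8_2) (@D3.rec (fun _ => (Cert rels S Gen.b)) lc_b_rc_8_2 lc_b_rc_26_7 lc_b_rc_8_2 lc_b_rc_7_2 lc_b_rc_10_2 lc_b_rc_9_2 lc_b_rc_26_5 lc_b_rc_8_2 lc_b_rc_25_4 lc_b_rc_10_2 lc_b_rc_8_0 lc_b_rc_9_2 lc_b_rc_8_2 lc_b_rc_7_2 lc_b_rc_8_2 lc_b_rc_10_2 lc_b_rc_6_1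 lc_b_rc_8_2 lc_b_rc_1_5 lc_b_rc_6_1 lc_b_rc_6_1 lc_b_rc_6_1 lc_b_rc_8_2 lc_b_rc_26_5 lc_b_rc_8_2 lc_b_rc_9_0 lc_b_rc_9_2 lc_b_rc_9_2 lc_b_rc_26_5 lc_b_rc_7_0 lc_b_rc_9_2 lc_b_rc_9_2 lc_b_rc_26_5 lc_b_rc_26_7 lc_b_rc_1_3 lc_b_rc_9_2 lc_b_rc_7_0 lc_b_rc_25_0 lc_b_rc_25_0 lc_b_rc_26_5 lc_b_rc_6_1 lc_b_rc_8_2 lc_b_rc_10_0 lc_b_rc_7_0 lc_b_rc_8_2 lc_b_rc_9_2 lc_b_rc_6_1 lc_b_rc_10_2 lc_b_rc_9_0 lc_b_rc_7_4 lc_b_rc_8_2 lc_b_rc_9_0 lc_b_rc_26_7 lc_b_rc_25_16 lc_b_rc_6_1 lc_b_rc_1_3 lc_b_rc_8_2 lc_b_rc_9_2 lc_b_Cert_tree lc_b_rc_6_1 lc_b_rc_6_1 lc_b_rc_6_1) (@D3.rec (fun _ => (Cert rels S Gen.b)) lc_b_rc_8_2 lc_b_rc_6_1 lc_b_rc_9_2 lc_b_rc_9_2 lc_b_rc_7_0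 lc_b_rc_8_2 lc_b_rc_10_2 lc_b_rc_9_2 lc_b_rc_9_2 lc_b_rc_6_1 lc_b_rc_9_2 lc_b_rc_9_2 lc_b_rc_10_2 lc_b_rc_26_1 lc_b_rc_7_2 lc_b_rc_8_0 lc_b_rc_10_2 lc_b_rc_6_1 lc_b_rc_6_1 lc_b_rc_8_2 lc_b_rc_8_0 lc_b_rc_8_2 lc_b_rc_7_4 lc_b_rc_8_0 lc_b_rc_1_5 lc_b_rc_9_2 lc_b_rc_6_1 lc_b_rc_25_8 lc_b_rc_9_2 lc_b_rc_6_1 lc_b_rc_8_2 lc_b_rc_8_0 lc_b_rc_8_2 lc_b_rc_10_2 lc_b_rc_6_1 lc_b_rc_10_2 lc_b_rc_25_16 lc_b_rc_9_2 lc_b_rc_8_2 lc_b_rc_9_2 lc_b_rc_7_4 lc_b_rc_10_2 lc_b_rc_6_1 lc_b_rc_6_1 lc_b_rc_9_2 lc_b_rc_26_5 lc_b_rc_1_1 lc_b_rc_10_2 lc_b_rc_8_2 lc_b_rc_9_0 lc_b_rc_9_0 lc_b_rc_9_2 lc_b_rc_6_1 lc_b_rc_10_2 lc_b_rc_25_4 lc_b_rc_1_3 lc_b_rc_6_1 lc_b_rc_26_7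 lc_b_rc_26_5 lc_b_rc_9_0 lc_b_rc_26_7 lc_b_rc_6_1) (@D3.rec (fun _ => (Cert rels S Gen.b)) lc_b_rc_26_7 lc_b_rc_6_1 lc_b_rc_8_2 lc_b_rc_26_5 lc_b_rc_9_2 lc_b_rc_9_2 lc_b_rc_10_2 lc_b_rc_7_2 lc_b_rc_6_1 lc_b_rc_6_1 lc_b_rc_7_0 lc_b_rc_6_1 lc_b_rc_26_5 lc_b_rc_1_3 lc_b_rc_8_2 lc_b_rc_6_1 lc_b_rc_7_2 lc_b_rc_9_0 lc_b_rc_9_2 lc_b_rc_6_1 lc_b_rc_9_2 lc_b_rc_8_2 lc_b_rc_7_4 lc_b_rc_26_7 lc_b_rc_9_2 lc_b_rc_26_1 lc_b_rc_8_2 lc_b_rc_8_2 lc_b_rc_6_1 lc_b_rc_7_0 lc_b_rc_9_2 lc_b_rc_9_0 lc_b_rc_6_1 lc_b_rc_9_2 lc_b_rc_26_7 lc_b_rc_9_2 lc_b_rc_7_4 lc_b_rc_9_2 lc_b_rc_6_1 lc_b_rc_6_1 lc_b_rc_8_2 lc_b_Cert_tree lc_b_rc_6_1 lc_b_rc_25_12 lc_b_rc_8_2 lc_b_rc_26_7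 lc_b_rc_26_5 lc_b_rc_26_5 lc_b_rc_8_2 lc_b_rc_8_2 lc_b_rc_8_2 lc_b_rc_6_1 lc_b_rc_6_1 lc_b_rc_9_2 lc_b_rc_9_0 lc_b_rc_8_0 lc_b_rc_6_1 lc_b_rc_9_2 lc_b_rc_26_1 lc_b_rc_8_0 lc_b_rc_9_0 lc_b_rc_6_1) (@D3.rec (fun _ => (Cert rels S Gen.b)) lc_b_rc_26_1 lc_b_rc_10_2 lc_b_rc_7_0 lc_b_rc_8_2 lc_b_rc_7_4 lc_b_rc_8_2 lc_b_rc_6_1 lc_b_rc_7_0 lc_b_rc_10_2 lc_b_rc_8_2 lc_b_rc_8_2 lc_b_rc_6_1 lc_b_rc_7_4 lc_b_rc_8_2 lc_b_rc_8_2 lc_b_rc_6_1 lc_b_rc_26_1 lc_b_rc_8_2 lc_b_rc_8_2 lc_b_rc_8_2 lc_b_rc_8_2 lc_b_rc_6_1 lc_b_rc_9_2 lc_b_rc_7_4 lc_b_rc_26_5 lc_b_rc_10_2 lc_b_rc_6_1 lc_b_rc_6_1 lc_b_rc_8_2 lc_b_rc_10_2 lc_b_rc_8_2 lc_b_rc_8_2 lc_b_rc_1_1 lc_b_rc_26_5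 lc_b_rc_25_4 lc_b_rc_8_2 lc_b_rc_8_2 lc_b_rc_7_2 lc_b_rc_25_4 lc_b_rc_10_2 lc_b_rc_8_0 lc_b_rc_26_1 lc_b_rc_1_3 lc_b_rc_8_2 lc_b_rc_1_1 lc_b_rc_9_2 lc_b_rc_8_2 lc_b_rc_26_7 lc_b_rc_6_1 lc_b_rc_9_0 lc_b_rc_10_2 lc_b_rc_26_5 lc_b_rc_1_5 lc_b_rc_9_2 lc_b_rc_26_5 lc_b_rc_26_7 lc_b_rc_10_2 lc_b_rc_9_0 lc_b_rc_9_2 lc_b_rc_26_5 lc_b_rc_9_2 lc_b_rc_7_0) (@D3.rec (fun _ => (Cert rels S Gen.b)) lc_b_rc_6_1 lc_b_rc_6_1 lc_b_rc_6_1 lc_b_rc_8_2 lc_b_rc_8_2 lc_b_rc_7_4 lc_b_rc_8_2 lc_b_rc_8_2 lc_b_rc_25_16 lc_b_rc_26_5 lc_b_rc_8_2 lc_b_rc_25_16 lc_b_rc_9_2 lc_b_rc_26_5 lc_b_rc_6_1 lc_b_rc_8_2 lc_b_rc_6_1 lc_b_rc_8_0 lc_b_rc_9_2 lc_b_rc_8_2 lc_b_rc_10_2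 lc_b_rc_7_2 lc_b_rc_8_0 lc_b_rc_9_2 lc_b_rc_9_2 lc_b_rc_10_2 lc_b_rc_9_2 lc_b_rc_26_5 lc_b_rc_8_2 lc_b_rc_8_2 lc_b_rc_9_2 lc_b_rc_9_2 lc_b_rc_10_2 lc_b_rc_26_1 lc_b_rc_9_2 lc_b_rc_6_1 lc_b_rc_6_1 lc_b_rc_26_7 lc_b_rc_8_2 lc_b_rc_10_2 lc_b_rc_6_1 lc_b_rc_7_4 lc_b_rc_1_3 lc_b_rc_10_2 lc_b_rc_8_0 lc_b_rc_8_2 lc_b_rc_6_1 lc_b_rc_6_1 lc_b_rc_8_2 lc_b_rc_8_2 lc_b_rc_9_2 lc_b_rc_8_0 lc_b_rc_8_0 lc_b_rc_7_2 lc_b_rc_26_7 lc_b_rc_7_4 lc_b_rc_8_2 lc_b_rc_8_0 lc_b_rc_8_2 lc_b_rc_8_2 lc_b_rc_8_2 lc_b_rc_8_2) (@D3.rec (fun _ => (Cert rels S Gen.b)) lc_b_rc_9_2 lc_b_rc_7_2 lc_b_rc_6_1 lc_b_rc_8_0 lc_b_rc_1_3 lc_b_rc_6_1 lc_b_rc_25_4 lc_b_rc_26_7 lc_b_rc_6_1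 lc_b_rc_8_2 lc_b_rc_9_2 lc_b_rc_8_2 lc_b_rc_6_1 lc_b_rc_7_0 lc_b_rc_9_2 lc_b_rc_6_1 lc_b_rc_9_0 lc_b_rc_10_2 lc_b_rc_26_5 lc_b_rc_9_2 lc_b_rc_10_2 lc_b_rc_6_1 lc_b_rc_1_3 lc_b_rc_1_5 lc_b_rc_26_7 lc_b_rc_26_5 lc_b_rc_9_2 lc_b_rc_6_1 lc_b_rc_6_1 lc_b_rc_26_7 lc_b_rc_9_0 lc_b_rc_1_3 lc_b_rc_9_2 lc_b_rc_9_2 lc_b_rc_26_5 lc_b_rc_8_0 lc_b_rc_8_2 lc_b_rc_1_5 lc_b_rc_7_0 lc_b_rc_8_2 lc_b_rc_6_1 lc_b_rc_6_1 lc_b_rc_6_1 lc_b_rc_8_2 lc_b_rc_6_1 lc_b_rc_6_1 lc_b_rc_1_1 lc_b_rc_7_2 lc_b_rc_9_2 lc_b_rc_6_1 lc_b_rc_9_2 lc_b_rc_26_1 lc_b_rc_7_4 lc_b_rc_6_1 lc_b_rc_26_5 lc_b_rc_7_4 lc_b_rc_6_1 lc_b_rc_9_2 lc_b_rc_8_2 lc_b_rc_6_1 lc_b_rc_8_0 lc_b_rc_8_2)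 (@D3.rec (fun _ => (Cert rels S Gen.b)) lc_b_rc_6_1 lc_b_rc_8_2 lc_b_rc_10_0 lc_b_rc_26_5 lc_b_rc_26_7 lc_b_rc_9_2 lc_b_rc_6_1 lc_b_rc_26_1 lc_b_rc_7_0 lc_b_rc_9_2 lc_b_rc_9_0 lc_b_rc_9_2 lc_b_rc_6_1 lc_b_rc_8_2 lc_b_rc_6_1 lc_b_rc_7_2 lc_b_rc_25_12 lc_b_rc_10_2 lc_b_rc_9_2 lc_b_rc_8_2 lc_b_rc_9_2 lc_b_rc_26_1 lc_b_rc_7_2 lc_b_rc_9_2 lc_b_rc_8_2 lc_b_rc_1_3 lc_b_rc_10_2 lc_b_rc_9_2 lc_b_rc_10_2 lc_b_rc_7_0 lc_b_rc_26_5 lc_b_rc_8_2 lc_b_rc_9_2 lc_b_rc_8_2 lc_b_rc_8_2 lc_b_rc_6_1 lc_b_rc_26_1 lc_b_rc_26_1 lc_b_rc_6_1 lc_b_rc_8_2 lc_b_rc_6_1 lc_b_rc_26_7 lc_b_rc_1_5 lc_b_rc_8_2 lc_b_rc_9_2 lc_b_rc_26_1 lc_b_rc_10_2 lc_b_rc_26_5 lc_b_rc_7_2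 lc_b_rc_9_2 lc_b_rc_6_1 lc_b_rc_1_1 lc_b_rc_6_1 lc_b_rc_26_5 lc_b_rc_8_2 lc_b_rc_7_4 lc_b_rc_8_2 lc_b_rc_7_2 lc_b_rc_8_2 lc_b_rc_8_2 lc_b_rc_26_7 lc_b_rc_9_0) (@D3.rec (fun _ => (Cert rels S Gen.b)) lc_b_rc_1_5 lc_b_rc_7_2 lc_b_rc_25_0 lc_b_rc_26_7 lc_b_rc_1_1 lc_b_rc_10_2 lc_b_rc_9_2 lc_b_rc_1_3 lc_b_rc_9_2 lc_b_rc_25_4 lc_b_rc_6_1 lc_b_rc_6_1 lc_b_rc_6_1 lc_b_rc_7_2 lc_b_rc_9_2 lc_b_rc_6_1 lc_b_rc_6_1 lc_b_rc_6_1 lc_b_rc_7_2 lc_b_rc_1_5 lc_b_rc_9_2 lc_b_rc_9_0 lc_b_rc_10_2 lc_b_rc_6_1 lc_b_rc_7_4 lc_b_rc_25_0 lc_b_rc_8_0 lc_b_rc_6_1 lc_b_rc_26_7 lc_b_rc_7_2 lc_b_rc_26_5 lc_b_rc_9_0 lc_b_rc_8_2 lc_b_rc_26_5 lc_b_rc_6_1 lc_b_rc_8_2 lc_b_rc_26_5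 lc_b_rc_9_0 lc_b_rc_6_1 lc_b_rc_6_1 lc_b_rc_8_2 lc_b_rc_9_2 lc_b_rc_9_0 lc_b_rc_26_1 lc_b_rc_7_0 lc_b_rc_9_2 lc_b_rc_6_1 lc_b_rc_9_2 lc_b_rc_6_1 lc_b_rc_8_2 lc_b_rc_8_2 lc_b_rc_10_2 lc_b_rc_9_0 lc_b_rc_8_2 lc_b_rc_9_2 lc_b_rc_9_2 lc_b_rc_1_1 lc_b_rc_6_1 lc_b_rc_9_2 lc_b_rc_6_1 lc_b_rc_8_2 lc_b_rc_9_2) (@D3.rec (fun _ => (Cert rels S Gen.b)) lc_b_rc_25_4 lc_b_rc_1_3 lc_b_rc_7_2 lc_b_rc_8_2 lc_b_rc_9_2 lc_b_rc_25_16 lc_b_rc_6_1 lc_b_rc_1_5 lc_b_rc_26_1 lc_b_rc_9_0 lc_b_rc_9_0 lc_b_rc_1_3 lc_b_rc_7_4 lc_b_rc_6_1 lc_b_Cert_tree lc_b_rc_1_3 lc_b_rc_9_2 lc_b_rc_9_0 lc_b_rc_9_2 lc_b_rc_7_4 lc_b_rc_26_5 lc_b_rc_1_1 lc_b_rc_7_2 lc_b_rc_8_2 lc_b_rc_7_4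 lc_b_rc_6_1 lc_b_rc_6_1 lc_b_rc_1_3 lc_b_rc_9_2 lc_b_rc_7_4 lc_b_rc_6_1 lc_b_rc_6_1 lc_b_rc_6_1 lc_b_rc_8_0 lc_b_rc_1_3 lc_b_rc_9_2 lc_b_rc_6_1 lc_b_rc_26_5 lc_b_rc_26_5 lc_b_Cert_tree lc_b_rc_6_1 lc_b_rc_1_3 lc_b_rc_26_5 lc_b_rc_26_5 lc_b_rc_26_5 lc_b_rc_9_0 lc_b_rc_8_2 lc_b_rc_26_5 lc_b_rc_1_1 lc_b_rc_6_1 lc_b_rc_6_1 lc_b_rc_26_7 lc_b_rc_8_2 lc_b_rc_1_3 lc_b_rc_7_4 lc_b_rc_8_0 lc_b_rc_26_5 lc_b_rc_26_1 lc_b_rc_6_1 lc_b_rc_6_1 lc_b_rc_1_3 lc_b_rc_9_2) (@D3.rec (fun _ => (Cert rels S Gen.b)) lc_b_rc_9_2 lc_b_rc_8_2 lc_b_rc_6_1 lc_b_rc_26_7 lc_b_rc_6_1 lc_b_rc_1_5 lc_b_rc_9_0 lc_b_rc_9_2 lc_b_rc_6_1 lc_b_rc_8_2 lc_b_rc_6_1 lc_b_rc_26_7 lc_b_rc_8_2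 lc_b_rc_9_2 lc_b_rc_7_0 lc_b_rc_8_2 lc_b_rc_7_0 lc_b_rc_10_0 lc_b_rc_9_2 lc_b_rc_26_5 lc_b_rc_6_1 lc_b_rc_6_1 lc_b_rc_26_7 lc_b_rc_6_1 lc_b_rc_8_2 lc_b_rc_26_5 lc_b_rc_7_0 lc_b_rc_26_1 lc_b_rc_26_1 lc_b_rc_6_1 lc_b_rc_8_0 lc_b_rc_6_1 lc_b_rc_7_0 lc_b_rc_1_3 lc_b_rc_9_2 lc_b_rc_7_4 lc_b_rc_7_4 lc_b_rc_8_0 lc_b_rc_8_0 lc_b_rc_7_0 lc_b_rc_7_2 lc_b_rc_9_2 lc_b_rc_26_1 lc_b_rc_9_2 lc_b_rc_6_1 lc_b_rc_25_0 lc_b_rc_6_1 lc_b_rc_26_5 lc_b_rc_9_2 lc_b_rc_10_0 lc_b_rc_6_1 lc_b_rc_1_1 lc_b_rc_26_1 lc_b_rc_9_2 lc_b_rc_8_2 lc_b_rc_10_2 lc_b_rc_9_2 lc_b_rc_8_2 lc_b_rc_26_5 lc_b_rc_6_1 lc_b_rc_9_2 lc_b_rc_6_1) (@D3.rec (fun _ => (Cert rels S Gen.b)) lc_b_rc_6_1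 lc_b_rc_8_2 lc_b_rc_6_1 lc_b_rc_9_2 lc_b_rc_1_3 lc_b_rc_8_2 lc_b_rc_6_1 lc_b_rc_6_1 lc_b_rc_9_2 lc_b_rc_6_1 lc_b_rc_7_2 lc_b_rc_6_1 lc_b_rc_26_5 lc_b_rc_10_2 lc_b_rc_9_2 lc_b_rc_1_1 lc_b_rc_8_2 lc_b_rc_10_2 lc_b_rc_6_1 lc_b_rc_26_1 lc_b_rc_9_2 lc_b_rc_26_5 lc_b_rc_8_0 lc_b_rc_6_1 lc_b_rc_26_1 lc_b_rc_8_0 lc_b_rc_6_1 lc_b_rc_25_4 lc_b_rc_1_5 lc_b_rc_26_1 lc_b_rc_10_2 lc_b_rc_9_2 lc_b_rc_9_2 lc_b_rc_1_5 lc_b_rc_7_0 lc_b_rc_1_3 lc_b_rc_6_1 lc_b_rc_9_2 lc_b_rc_6_1 lc_b_rc_9_0 lc_b_rc_26_7 lc_b_rc_10_2 lc_b_rc_6_1 lc_b_rc_8_2 lc_b_rc_25_0 lc_b_rc_8_2 lc_b_rc_9_2 lc_b_rc_6_1 lc_b_rc_10_2 lc_b_rc_6_1 lc_b_rc_6_1 lc_b_rc_7_2 lc_b_rc_9_2 lc_b_rc_25_16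 lc_b_rc_9_0 lc_b_rc_1_5 lc_b_rc_25_16 lc_b_rc_9_2 lc_b_rc_1_1 lc_b_rc_9_2 lc_b_rc_8_2 lc_b_rc_7_4)
def ce_b_31 : D2 → D3 → (Cert rels S Gen.b) := @D2.rec (fun _ => D3 → (Cert rels S Gen.b)) (@D3.rec (fun _ => (Cert rels S Gen.b)) lc_b_rc_26_5 lc_b_rc_26_5 lc_b_rc_9_2 lc_b_rc_6_1 lc_b_rc_6_1 lc_b_rc_10_2 lc_b_rc_10_2 lc_b_rc_8_0 lc_b_rc_6_1 lc_b_rc_10_2 lc_b_rc_26_5 lc_b_rc_6_1 lc_b_rc_7_4 lc_b_rc_6_1 lc_b_rc_7_2 lc_b_rc_9_2 lc_b_rc_9_0 lc_b_rc_1_5 lc_b_rc_9_0 lc_b_rc_6_1 lc_b_rc_9_0 lc_b_rc_1_5 lc_b_rc_26_1 lc_b_rc_8_0 lc_b_rc_10_2 lc_b_rc_1_5 lc_b_rc_1_3 lc_b_rc_9_2 lc_b_rc_8_0 lc_b_rc_6_1 lc_b_rc_9_0 lc_b_rc_6_1 lc_b_rc_6_1 lc_b_rc_6_1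 lc_b_rc_7_0 lc_b_rc_8_2 lc_b_rc_6_1 lc_b_rc_8_2 lc_b_rc_8_2 lc_b_rc_8_2 lc_b_rc_6_1 lc_b_rc_8_2 lc_b_rc_8_2 lc_b_rc_6_1 lc_b_rc_26_7 lc_b_rc_6_1 lc_b_rc_1_5 lc_b_rc_9_0 lc_b_rc_6_1 lc_b_rc_9_0 lc_b_rc_1_1 lc_b_rc_10_2 lc_b_rc_6_1 lc_b_rc_26_5 lc_b_rc_6_1 lc_b_rc_7_0 lc_b_rc_9_2 lc_b_rc_8_2 lc_b_rc_25_4 lc_b_rc_7_4 lc_b_rc_6_1 lc_b_rc_8_2) (@D3.rec (fun _ => (Cert rels S Gen.b)) lc_b_rc_10_0 lc_b_rc_6_1 lc_b_rc_8_2 lc_b_rc_9_0 lc_b_rc_10_2 lc_b_rc_8_2 lc_b_rc_6_1 lc_b_rc_1_3 lc_b_rc_9_2 lc_b_rc_9_2 lc_b_rc_6_1 lc_b_rc_25_8 lc_b_rc_7_4 lc_b_rc_6_1 lc_b_rc_9_2 lc_b_rc_8_2 lc_b_rc_8_2 lc_b_rc_26_5 lc_b_rc_6_1 lc_b_rc_26_5 lc_b_rc_8_0 lc_b_rc_7_0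 lc_b_rc_1_3 lc_b_rc_6_1 lc_b_rc_7_0 lc_b_rc_10_2 lc_b_rc_26_1 lc_b_rc_6_1 lc_b_rc_7_0 lc_b_rc_26_1 lc_b_rc_8_0 lc_b_rc_7_0 lc_b_rc_26_5 lc_b_rc_9_2 lc_b_rc_26_1 lc_b_rc_9_0 lc_b_rc_8_2 lc_b_rc_6_1 lc_b_rc_9_2 lc_b_rc_6_1 lc_b_rc_10_2 lc_b_rc_9_2 lc_b_rc_7_2 lc_b_rc_6_1 lc_b_rc_10_2 lc_b_rc_9_0 lc_b_rc_10_2 lc_b_rc_8_2 lc_b_rc_9_2 lc_b_rc_25_4 lc_b_rc_9_2 lc_b_rc_9_2 lc_b_rc_1_5 lc_b_rc_9_2 lc_b_rc_9_2 lc_b_rc_6_1 lc_b_rc_6_1 lc_b_rc_10_2 lc_b_rc_7_0 lc_b_rc_26_5 lc_b_Cert_tree lc_b_rc_25_0) (@D3.rec (fun _ => (Cert rels S Gen.b)) lc_b_rc_6_1 lc_b_rc_7_2 lc_b_rc_7_2 lc_b_rc_6_1 lc_b_rc_8_2 lc_b_rc_25_12 lc_b_rc_8_2 lc_b_rc_6_1 lc_b_rc_9_2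 lc_b_rc_8_0 lc_b_rc_8_2 lc_b_rc_9_2 lc_b_rc_7_2 lc_b_rc_7_4 lc_b_rc_6_1 lc_b_rc_9_0 lc_b_rc_7_4 lc_b_rc_10_2 lc_b_rc_6_1 lc_b_rc_26_5 lc_b_rc_6_1 lc_b_rc_1_1 lc_b_rc_8_2 lc_b_rc_6_1 lc_b_rc_6_1 lc_b_rc_26_5 lc_b_rc_7_4 lc_b_rc_9_2 lc_b_rc_6_1 lc_b_rc_10_0 lc_b_rc_10_2 lc_b_rc_8_2 lc_b_rc_10_2 lc_b_rc_8_2 lc_b_rc_26_5 lc_b_rc_1_3 lc_b_rc_7_4 lc_b_rc_9_2 lc_b_rc_26_1 lc_b_rc_6_1 lc_b_rc_9_0 lc_b_rc_6_1 lc_b_rc_10_0 lc_b_rc_7_4 lc_b_rc_6_1 lc_b_rc_8_0 lc_b_rc_26_5 lc_b_rc_26_5 lc_b_rc_7_2 lc_b_rc_8_2 lc_b_rc_6_1 lc_b_rc_7_2 lc_b_rc_8_2 lc_b_rc_1_3 lc_b_rc_26_5 lc_b_rc_26_5 lc_b_rc_7_4 lc_b_rc_7_4 lc_b_rc_9_2 lc_b_rc_6_1 lc_b_rc_10_2 lc_b_rc_6_1)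 (@D3.rec (fun _ => (Cert rels S Gen.b)) lc_b_rc_10_0 lc_b_rc_8_0 lc_b_rc_25_8 lc_b_rc_1_1 lc_b_rc_7_2 lc_b_rc_9_2 lc_b_rc_8_2 lc_b_rc_6_1 lc_b_rc_6_1 lc_b_rc_8_2 lc_b_rc_8_2 lc_b_rc_8_0 lc_b_rc_7_0 lc_b_rc_7_4 lc_b_rc_1_1 lc_b_Cert_tree lc_b_rc_9_2 lc_b_rc_6_1 lc_b_rc_7_2 lc_b_rc_6_1 lc_b_rc_6_1 lc_b_rc_8_0 lc_b_rc_1_3 lc_b_rc_10_2 lc_b_rc_8_2 lc_b_rc_8_0 lc_b_rc_9_2 lc_b_rc_10_2 lc_b_rc_9_2 lc_b_rc_10_0 lc_b_rc_7_2 lc_b_rc_25_4 lc_b_rc_7_4 lc_b_rc_9_2 lc_b_rc_9_2 lc_b_rc_1_3 lc_b_rc_8_2 lc_b_rc_25_4 lc_b_rc_7_4 lc_b_rc_7_0 lc_b_rc_9_0 lc_b_rc_10_2 lc_b_rc_9_2 lc_b_rc_26_1 lc_b_rc_7_4 lc_b_rc_6_1 lc_b_rc_6_1 lc_b_rc_25_4 lc_b_rc_6_1 lc_b_rc_8_2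 lc_b_rc_26_5 lc_b_rc_6_1 lc_b_rc_9_2 lc_b_rc_1_5 lc_b_rc_8_0 lc_b_rc_8_2 lc_b_rc_6_1 lc_b_rc_6_1 lc_b_rc_9_2 lc_b_rc_7_2 lc_b_rc_26_5 lc_b_rc_9_2) (@D3.rec (fun _ => (Cert rels S Gen.b)) lc_b_rc_6_1 lc_b_rc_26_5 lc_b_rc_8_2 lc_b_rc_26_1 lc_b_rc_10_2 lc_b_rc_6_1 lc_b_rc_8_0 lc_b_rc_6_1 lc_b_rc_25_16 lc_b_rc_26_5 lc_b_rc_9_2 lc_b_rc_6_1 lc_b_rc_1_1 lc_b_rc_8_0 lc_b_rc_10_2 lc_b_rc_9_2 lc_b_rc_10_2 lc_b_rc_6_1 lc_b_rc_8_2 lc_b_rc_8_0 lc_b_rc_1_3 lc_b_rc_9_2 lc_b_rc_25_16 lc_b_rc_26_5 lc_b_rc_26_5 lc_b_rc_10_0 lc_b_rc_6_1 lc_b_rc_26_7 lc_b_rc_6_1 lc_b_rc_25_0 lc_b_rc_9_2 lc_b_rc_8_2 lc_b_rc_9_2 lc_b_rc_8_2 lc_b_rc_7_2 lc_b_rc_26_1 lc_b_rc_10_2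 lc_b_rc_7_0 lc_b_rc_26_5 lc_b_rc_6_1 lc_b_rc_26_1 lc_b_rc_8_2 lc_b_rc_6_1 lc_b_rc_25_0 lc_b_rc_26_5 lc_b_rc_6_1 lc_b_rc_10_2 lc_b_rc_1_5 lc_b_rc_8_0 lc_b_rc_8_2 lc_b_rc_10_2 lc_b_rc_8_0 lc_b_rc_26_5 lc_b_rc_1_5 lc_b_rc_9_0 lc_b_rc_10_2 lc_b_rc_8_2 lc_b_rc_10_2 lc_b_rc_8_2 lc_b_rc_26_5 lc_b_rc_8_2 lc_b_rc_26_5) (@D3.rec (fun _ => (Cert rels S Gen.b)) lc_b_rc_1_3 lc_b_rc_6_1 lc_b_rc_9_2 lc_b_rc_9_2 lc_b_rc_9_0 lc_b_rc_6_1 lc_b_rc_7_4 lc_b_rc_8_2 lc_b_rc_9_2 lc_b_Cert_tree lc_b_rc_7_2 lc_b_rc_7_0 lc_b_rc_8_0 lc_b_rc_6_1 lc_b_rc_8_2 lc_b_rc_6_1 lc_b_rc_9_2 lc_b_rc_7_2 lc_b_rc_7_4 lc_b_rc_8_2 lc_b_rc_6_1 lc_b_rc_9_2 lc_b_rc_26_5 lc_b_rc_1_1 lc_b_rc_26_7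 lc_b_rc_26_5 lc_b_rc_9_2 lc_b_rc_9_0 lc_b_rc_9_2 lc_b_rc_6_1 lc_b_rc_7_2 lc_b_rc_9_2 lc_b_rc_6_1 lc_b_rc_7_2 lc_b_rc_25_16 lc_b_rc_6_1 lc_b_rc_7_0 lc_b_rc_26_1 lc_b_rc_7_4 lc_b_rc_10_2 lc_b_rc_7_4 lc_b_rc_6_1 lc_b_rc_6_1 lc_b_rc_26_1 lc_b_rc_1_1 lc_b_rc_6_1 lc_b_rc_26_1 lc_b_rc_6_1 lc_b_rc_1_5 lc_b_rc_26_7 lc_b_rc_8_0 lc_b_rc_26_1 lc_b_rc_6_1 lc_b_rc_1_5 lc_b_rc_9_2 lc_b_rc_7_2 lc_b_rc_7_0 lc_b_rc_9_2 lc_b_rc_6_1 lc_b_rc_9_2 lc_b_rc_26_5 lc_b_rc_26_1) (@D3.rec (fun _ => (Cert rels S Gen.b)) lc_b_rc_10_2 lc_b_rc_6_1 lc_b_rc_26_7 lc_b_rc_6_1 lc_b_rc_25_0 lc_b_rc_7_0 lc_b_rc_6_1 lc_b_rc_10_2 lc_b_rc_9_2 lc_b_rc_6_1 lc_b_rc_8_2 lc_b_rc_9_2 lc_b_rc_8_2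 lc_b_rc_10_2 lc_b_rc_7_2 lc_b_rc_8_2 lc_b_rc_8_2 lc_b_rc_9_2 lc_b_rc_6_1 lc_b_rc_8_2 lc_b_rc_8_2 lc_b_rc_6_1 lc_b_rc_7_4 lc_b_rc_26_5 lc_b_rc_6_1 lc_b_rc_9_0 lc_b_rc_25_8 lc_b_rc_7_2 lc_b_rc_26_5 lc_b_rc_8_2 lc_b_rc_9_2 lc_b_rc_6_1 lc_b_rc_26_1 lc_b_rc_9_2 lc_b_rc_26_7 lc_b_rc_6_1 lc_b_rc_9_2 lc_b_rc_7_0 lc_b_rc_7_2 lc_b_rc_8_2 lc_b_rc_26_5 lc_b_rc_8_2 lc_b_rc_9_2 lc_b_rc_9_2 lc_b_rc_9_2 lc_b_rc_10_2 lc_b_rc_6_1 lc_b_rc_26_7 lc_b_rc_9_2 lc_b_rc_9_2 lc_b_rc_9_2 lc_b_rc_8_2 lc_b_rc_1_1 lc_b_rc_26_1 lc_b_rc_1_3 lc_b_rc_8_2 lc_b_rc_6_1 lc_b_rc_6_1 lc_b_rc_6_1 lc_b_rc_26_1 lc_b_rc_1_1 lc_b_rc_6_1) (@D3.rec (fun _ => (Cert rels S Gen.b)) lc_b_rc_1_3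 lc_b_Cert_tree lc_b_rc_1_5 lc_b_rc_26_7 lc_b_rc_26_5 lc_b_rc_26_1 lc_b_rc_10_2 lc_b_rc_6_1 lc_b_rc_8_2 lc_b_rc_7_4 lc_b_rc_10_2 lc_b_rc_6_1 lc_b_rc_10_2 lc_b_rc_10_0 lc_b_rc_9_2 lc_b_rc_10_2 lc_b_rc_8_2 lc_b_rc_6_1 lc_b_rc_10_2 lc_b_rc_8_2 lc_b_rc_8_2 lc_b_rc_8_2 lc_b_rc_6_1 lc_b_rc_6_1 lc_b_rc_8_0 lc_b_rc_9_0 lc_b_rc_25_0 lc_b_rc_8_2 lc_b_rc_9_2 lc_b_rc_10_2 lc_b_rc_6_1 lc_b_rc_8_2 lc_b_rc_1_5 lc_b_rc_8_0 lc_b_rc_10_2 lc_b_rc_8_2 lc_b_rc_9_0 lc_b_rc_8_2 lc_b_rc_9_2 lc_b_rc_7_0 lc_b_rc_6_1 lc_b_rc_1_3 lc_b_rc_6_1 lc_b_rc_9_2 lc_b_rc_6_1 lc_b_rc_7_4 lc_b_rc_9_0 lc_b_rc_9_2 lc_b_rc_6_1 lc_b_rc_7_2 lc_b_rc_6_1 lc_b_rc_8_2 lc_b_rc_8_2 lc_b_rc_8_0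 lc_b_rc_8_2 lc_b_rc_9_2 lc_b_rc_6_1 lc_b_rc_26_7 lc_b_rc_9_2 lc_b_rc_7_4 lc_b_rc_26_5 lc_b_rc_6_1) (@D3.rec (fun _ => (Cert rels S Gen.b)) lc_b_rc_6_1 lc_b_rc_8_2 lc_b_rc_8_0 lc_b_rc_6_1 lc_b_rc_9_0 lc_b_rc_10_2 lc_b_rc_8_2 lc_b_rc_1_5 lc_b_rc_9_2 lc_b_rc_6_1 lc_b_rc_26_1 lc_b_rc_6_1 lc_b_rc_6_1 lc_b_rc_6_1 lc_b_rc_8_2 lc_b_rc_7_4 lc_b_rc_8_0 lc_b_rc_9_2 lc_b_rc_6_1 lc_b_rc_26_5 lc_b_rc_7_4 lc_b_rc_8_0 lc_b_rc_8_0 lc_b_rc_26_7 lc_b_rc_25_8 lc_b_rc_26_7 lc_b_rc_9_2 lc_b_rc_9_2 lc_b_rc_9_2 lc_b_rc_26_5 lc_b_rc_6_1 lc_b_rc_9_2 lc_b_rc_8_2 lc_b_rc_10_2 lc_b_rc_26_5 lc_b_rc_26_5 lc_b_rc_25_16 lc_b_rc_9_2 lc_b_rc_6_1 lc_b_rc_9_2 lc_b_rc_26_5 lc_b_rc_26_7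 lc_b_rc_1_1 lc_b_rc_9_2 lc_b_rc_25_0 lc_b_rc_25_4 lc_b_rc_10_2 lc_b_rc_6_1 lc_b_rc_10_2 lc_b_rc_6_1 lc_b_rc_8_2 lc_b_rc_25_16 lc_b_rc_6_1 lc_b_rc_26_7 lc_b_rc_6_1 lc_b_rc_6_1 lc_b_rc_10_2 lc_b_rc_26_7 lc_b_rc_9_0 lc_b_rc_8_2 lc_b_rc_8_0 lc_b_rc_26_7) (@D3.rec (fun _ => (Cert rels S Gen.b)) lc_b_rc_9_2 lc_b_rc_6_1 lc_b_rc_7_2 lc_b_rc_25_8 lc_b_rc_9_2 lc_b_rc_6_1 lc_b_rc_9_0 lc_b_rc_6_1 lc_b_rc_10_2 lc_b_rc_9_2 lc_b_rc_6_1 lc_b_rc_9_2 lc_b_Cert_tree lc_b_rc_6_1 lc_b_rc_8_2 lc_b_rc_1_5 lc_b_rc_8_2 lc_b_rc_9_2 lc_b_rc_1_1 lc_b_rc_7_4 lc_b_rc_26_1 lc_b_rc_1_3 lc_b_rc_7_4 lc_b_rc_6_1 lc_b_rc_6_1 lc_b_rc_9_0 lc_b_rc_8_2 lc_b_rc_9_2 lc_b_rc_6_1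 lc_b_rc_26_1 lc_b_rc_26_5 lc_b_rc_6_1 lc_b_rc_8_0 lc_b_rc_9_2 lc_b_rc_9_2 lc_b_rc_9_2 lc_b_rc_8_2 lc_b_rc_8_2 lc_b_rc_8_2 lc_b_rc_7_4 lc_b_rc_9_2 lc_b_rc_9_2 lc_b_rc_10_2 lc_b_rc_10_2 lc_b_rc_6_1 lc_b_rc_26_5 lc_b_rc_1_5 lc_b_rc_1_5 lc_b_rc_1_3 lc_b_rc_6_1 lc_b_rc_8_2 lc_b_rc_9_2 lc_b_rc_7_4 lc_b_rc_9_2 lc_b_rc_9_2 lc_b_Cert_tree lc_b_rc_7_4 lc_b_rc_8_2 lc_b_rc_6_1 lc_b_rc_6_1 lc_b_rc_8_0 lc_b_rc_6_1) (@D3.rec (fun _ => (Cert rels S Gen.b)) lc_b_rc_6_1 lc_b_rc_9_2 lc_b_rc_7_0 lc_b_rc_8_0 lc_b_rc_9_2 lc_b_rc_8_2 lc_b_rc_10_2 lc_b_rc_10_2 lc_b_rc_25_8 lc_b_rc_6_1 lc_b_rc_9_2 lc_b_rc_6_1 lc_b_rc_6_1 lc_b_rc_9_2 lc_b_rc_6_1 lc_b_rc_10_2 lc_b_rc_8_2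 lc_b_rc_8_2 lc_b_rc_1_5 lc_b_rc_6_1 lc_b_rc_1_3 lc_b_rc_26_7 lc_b_rc_9_2 lc_b_rc_9_2 lc_b_rc_8_2 lc_b_rc_10_2 lc_b_rc_9_0 lc_b_rc_6_1 lc_b_rc_9_2 lc_b_rc_25_0 lc_b_rc_1_3 lc_b_rc_10_2 lc_b_rc_9_2 lc_b_rc_10_2 lc_b_rc_8_2 lc_b_rc_9_2 lc_b_rc_9_2 lc_b_rc_6_1 lc_b_rc_8_0 lc_b_rc_6_1 lc_b_rc_7_2 lc_b_rc_25_4 lc_b_rc_9_2 lc_b_rc_26_5 lc_b_rc_6_1 lc_b_rc_9_0 lc_b_rc_9_2 lc_b_rc_8_2 lc_b_rc_6_1 lc_b_rc_25_12 lc_b_rc_6_1 lc_b_rc_26_1 lc_b_rc_6_1 lc_b_rc_10_2 lc_b_rc_6_1 lc_b_rc_26_7 lc_b_rc_26_1 lc_b_rc_6_1 lc_b_rc_9_2 lc_b_rc_8_2 lc_b_rc_7_2 lc_b_rc_7_4) (@D3.rec (fun _ => (Cert rels S Gen.b)) lc_b_rc_9_2 lc_b_rc_9_0 lc_b_rc_8_2 lc_b_rc_8_2 lc_b_rc_1_3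 lc_b_rc_7_2 lc_b_rc_10_2 lc_b_rc_9_2 lc_b_rc_7_0 lc_b_rc_6_1 lc_b_rc_8_2 lc_b_rc_8_2 lc_b_rc_1_5 lc_b_rc_6_1 lc_b_rc_26_5 lc_b_rc_26_1 lc_b_rc_7_4 lc_b_rc_9_2 lc_b_rc_9_2 lc_b_rc_6_1 lc_b_rc_6_1 lc_b_rc_7_4 lc_b_rc_6_1 lc_b_rc_26_7 lc_b_rc_6_1 lc_b_rc_26_1 lc_b_rc_8_0 lc_b_rc_25_4 lc_b_rc_9_2 lc_b_rc_8_2 lc_b_rc_8_2 lc_b_rc_25_4 lc_b_rc_8_2 lc_b_rc_8_2 lc_b_rc_9_0 lc_b_rc_1_5 lc_b_rc_6_1 lc_b_rc_10_0 lc_b_rc_26_5 lc_b_rc_26_1 lc_b_rc_9_2 lc_b_rc_8_2 lc_b_rc_9_0 lc_b_rc_7_4 lc_b_rc_6_1 lc_b_rc_7_4 lc_b_rc_9_2 lc_b_rc_8_2 lc_b_rc_10_2 lc_b_rc_7_2 lc_b_rc_8_2 lc_b_rc_25_0 lc_b_rc_26_5 lc_b_rc_8_2 lc_b_rc_7_2 lc_b_rc_1_3 lc_b_rc_6_1 lc_b_Cert_tree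 lc_b_rc_8_0 lc_b_rc_6_1 lc_b_rc_8_2 lc_b_rc_8_2) (@D3.rec (fun _ => (Cert rels S Gen.b)) lc_b_rc_6_1 lc_b_rc_8_2 lc_b_rc_8_2 lc_b_rc_8_2 lc_b_rc_9_2 lc_b_rc_8_2 lc_b_rc_9_0 lc_b_rc_7_2 lc_b_rc_26_1 lc_b_rc_25_4 lc_b_rc_6_1 lc_b_rc_10_2 lc_b_rc_26_5 lc_b_rc_9_2 lc_b_rc_6_1 lc_b_rc_8_0 lc_b_rc_10_2 lc_b_rc_10_2 lc_b_rc_10_0 lc_b_rc_8_2 lc_b_rc_8_2 lc_b_rc_1_3 lc_b_rc_7_0 lc_b_rc_8_0 lc_b_rc_7_2 lc_b_rc_9_2 lc_b_rc_8_2 lc_b_rc_7_2 lc_b_rc_8_2 lc_b_rc_9_2 lc_b_rc_9_2 lc_b_rc_6_1 lc_b_rc_7_2 lc_b_rc_6_1 lc_b_rc_9_2 lc_b_rc_6_1 lc_b_rc_26_5 lc_b_rc_26_5 lc_b_rc_26_1 lc_b_rc_6_1 lc_b_rc_8_2 lc_b_rc_10_2 lc_b_rc_9_2 lc_b_rc_8_2 lc_b_rc_9_0 lc_b_rc_10_2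 lc_b_rc_8_0 lc_b_rc_1_3 lc_b_rc_6_1 lc_b_rc_8_2 lc_b_rc_26_7 lc_b_rc_10_0 lc_b_rc_8_2 lc_b_rc_6_1 lc_b_rc_26_1 lc_b_rc_7_0 lc_b_rc_25_4 lc_b_rc_8_2 lc_b_rc_9_2 lc_b_rc_9_2 lc_b_rc_8_0 lc_b_rc_6_1) (@D3.rec (fun _ => (Cert rels S Gen.b)) lc_b_rc_7_2 lc_b_rc_1_1 lc_b_rc_6_1 lc_b_rc_9_0 lc_b_rc_8_2 lc_b_rc_8_2 lc_b_rc_9_2 lc_b_rc_8_2 lc_b_rc_9_2 lc_b_Cert_tree lc_b_rc_7_2 lc_b_rc_26_7 lc_b_rc_26_5 lc_b_rc_8_0 lc_b_rc_8_0 lc_b_rc_9_2 lc_b_rc_8_2 lc_b_rc_7_0 lc_b_rc_1_5 lc_b_rc_25_4 lc_b_rc_26_1 lc_b_rc_8_2 lc_b_rc_6_1 lc_b_rc_7_0 lc_b_rc_7_2 lc_b_rc_9_2 lc_b_rc_6_1 lc_b_rc_8_2 lc_b_rc_9_2 lc_b_rc_26_1 lc_b_rc_8_2 lc_b_rc_6_1 lc_b_rc_9_2 lc_b_rc_6_1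 lc_b_rc_1_5 lc_b_rc_6_1 lc_b_rc_26_5 lc_b_rc_10_2 lc_b_rc_6_1 lc_b_rc_9_2 lc_b_rc_26_5 lc_b_rc_6_1 lc_b_rc_1_5 lc_b_rc_26_1 lc_b_rc_26_5 lc_b_rc_9_2 lc_b_rc_7_4 lc_b_Cert_tree lc_b_rc_10_2 lc_b_rc_6_1 lc_b_rc_9_2 lc_b_rc_9_2 lc_b_rc_6_1 lc_b_rc_26_5 lc_b_rc_10_2 lc_b_rc_8_2 lc_b_rc_6_1 lc_b_rc_10_2 lc_b_rc_9_2 lc_b_rc_8_2 lc_b_rc_7_2 lc_b_rc_1_5) (@D3.rec (fun _ => (Cert rels S Gen.b)) lc_b_rc_26_1 lc_b_rc_7_4 lc_b_rc_7_4 lc_b_rc_7_4 lc_b_rc_6_1 lc_b_rc_9_2 lc_b_rc_6_1 lc_b_rc_10_2 lc_b_rc_10_2 lc_b_rc_25_12 lc_b_rc_8_2 lc_b_rc_25_12 lc_b_rc_25_4 lc_b_rc_8_2 lc_b_rc_9_2 lc_b_rc_7_4 lc_b_rc_9_2 lc_b_rc_8_2 lc_b_rc_8_2 lc_b_rc_9_2 lc_b_rc_6_1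 lc_b_rc_6_1 lc_b_rc_26_1 lc_b_rc_8_2 lc_b_rc_6_1 lc_b_rc_6_1 lc_b_rc_9_2 lc_b_rc_8_2 lc_b_rc_25_8 lc_b_rc_7_0 lc_b_rc_1_5 lc_b_rc_8_0 lc_b_rc_9_2 lc_b_rc_6_1 lc_b_rc_6_1 lc_b_rc_8_0 lc_b_rc_7_2 lc_b_rc_10_2 lc_b_rc_6_1 lc_b_rc_7_0 lc_b_rc_6_1 lc_b_rc_9_0 lc_b_rc_7_4 lc_b_rc_8_2 lc_b_rc_25_0 lc_b_rc_9_2 lc_b_rc_7_0 lc_b_rc_26_5 lc_b_rc_10_2 lc_b_rc_9_2 lc_b_rc_10_2 lc_b_rc_8_0 lc_b_rc_8_0 lc_b_rc_8_2 lc_b_rc_9_2 lc_b_rc_7_2 lc_b_rc_7_0 lc_b_rc_26_1 lc_b_rc_8_2 lc_b_rc_7_2 lc_b_rc_10_0 lc_b_rc_6_1) (@D3.rec (fun _ => (Cert rels S Gen.b)) lc_b_rc_9_2 lc_b_rc_10_2 lc_b_rc_8_2 lc_b_rc_9_2 lc_b_rc_6_1 lc_b_rc_8_0 lc_b_rc_7_4 lc_b_rc_9_2 lc_b_rc_9_0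 lc_b_rc_25_4 lc_b_rc_26_1 lc_b_rc_9_0 lc_b_rc_1_5 lc_b_Cert_tree lc_b_rc_10_2 lc_b_rc_9_2 lc_b_Cert_tree lc_b_rc_8_0 lc_b_rc_7_4 lc_b_rc_9_2 lc_b_rc_10_0 lc_b_rc_6_1 lc_b_rc_6_1 lc_b_rc_6_1 lc_b_rc_6_1 lc_b_rc_9_2 lc_b_rc_9_0 lc_b_rc_26_7 lc_b_rc_10_0 lc_b_rc_10_0 lc_b_rc_26_1 lc_b_rc_25_16 lc_b_rc_1_5 lc_b_rc_10_2 lc_b_rc_6_1 lc_b_rc_8_0 lc_b_rc_6_1 lc_b_rc_1_5 lc_b_rc_26_7 lc_b_rc_26_1 lc_b_rc_1_1 lc_b_rc_9_2 lc_b_rc_8_2 lc_b_rc_7_4 lc_b_rc_9_2 lc_b_rc_6_1 lc_b_rc_9_2 lc_b_rc_10_2 lc_b_rc_8_0 lc_b_rc_9_2 lc_b_rc_9_2 lc_b_rc_9_2 lc_b_rc_6_1 lc_b_rc_9_2 lc_b_rc_9_2 lc_b_rc_9_2 lc_b_rc_9_2 lc_b_rc_26_7 lc_b_rc_10_2 lc_b_rc_8_2 lc_b_rc_6_1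 lc_b_rc_10_2) (@D3.rec (fun _ => (Cert rels S Gen.b)) lc_b_rc_9_2 lc_b_rc_6_1 lc_b_rc_1_1 lc_b_rc_10_0 lc_b_rc_7_0 lc_b_rc_7_0 lc_b_rc_7_0 lc_b_rc_8_2 lc_b_rc_7_4 lc_b_rc_8_2 lc_b_rc_9_2 lc_b_rc_6_1 lc_b_rc_6_1 lc_b_rc_7_0 lc_b_rc_9_0 lc_b_rc_6_1 lc_b_rc_25_16 lc_b_rc_26_5 lc_b_rc_8_0 lc_b_rc_1_1 lc_b_rc_6_1 lc_b_rc_9_2 lc_b_rc_6_1 lc_b_rc_7_0 lc_b_rc_10_2 lc_b_rc_8_0 lc_b_rc_7_0 lc_b_rc_9_0 lc_b_rc_10_2 lc_b_rc_6_1 lc_b_rc_8_2 lc_b_rc_26_5 lc_b_rc_26_1 lc_b_rc_10_2 lc_b_rc_1_5 lc_b_rc_6_1 lc_b_rc_8_2 lc_b_rc_1_5 lc_b_rc_6_1 lc_b_rc_7_4 lc_b_rc_26_1 lc_b_rc_8_2 lc_b_rc_9_0 lc_b_rc_7_4 lc_b_rc_8_2 lc_b_rc_26_1 lc_b_rc_9_2 lc_b_rc_8_2 lc_b_rc_9_0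 lc_b_rc_7_2 lc_b_rc_6_1 lc_b_rc_8_2 lc_b_rc_8_2 lc_b_rc_7_4 lc_b_rc_7_4 lc_b_rc_9_0 lc_b_rc_6_1 lc_b_rc_8_2 lc_b_rc_6_1 lc_b_rc_10_2 lc_b_rc_8_2 lc_b_rc_9_0) (@D3.rec (fun _ => (Cert rels S Gen.b)) lc_b_rc_8_0 lc_b_rc_6_1 lc_b_rc_7_2 lc_b_rc_7_2 lc_b_rc_8_2 lc_b_rc_26_5 lc_b_rc_9_2 lc_b_rc_6_1 lc_b_rc_8_2 lc_b_rc_8_2 lc_b_rc_1_5 lc_b_rc_6_1 lc_b_rc_8_2 lc_b_rc_8_2 lc_b_rc_9_0 lc_b_rc_6_1 lc_b_rc_10_2 lc_b_rc_9_2 lc_b_rc_8_2 lc_b_rc_6_1 lc_b_rc_10_2 lc_b_rc_10_0 lc_b_rc_10_2 lc_b_rc_6_1 lc_b_rc_6_1 lc_b_rc_8_2 lc_b_rc_9_2 lc_b_rc_9_2 lc_b_rc_6_1 lc_b_rc_9_0 lc_b_rc_7_2 lc_b_rc_10_0 lc_b_rc_8_2 lc_b_rc_6_1 lc_b_rc_8_2 lc_b_rc_6_1 lc_b_rc_26_1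 lc_b_rc_26_1 lc_b_rc_25_0 lc_b_rc_9_2 lc_b_rc_6_1 lc_b_rc_6_1 lc_b_rc_6_1 lc_b_rc_7_2 lc_b_rc_10_2 lc_b_rc_9_2 lc_b_rc_26_7 lc_b_rc_6_1 lc_b_rc_8_0 lc_b_rc_8_0 lc_b_rc_6_1 lc_b_rc_6_1 lc_b_rc_26_5 lc_b_rc_6_1 lc_b_rc_7_2 lc_b_rc_6_1 lc_b_rc_1_5 lc_b_rc_8_2 lc_b_rc_8_2 lc_b_rc_1_5 lc_b_rc_9_0 lc_b_rc_9_2) (@D3.rec (fun _ => (Cert rels S Gen.b)) lc_b_rc_6_1 lc_b_rc_1_5 lc_b_rc_8_2 lc_b_rc_6_1 lc_b_rc_10_2 lc_b_rc_25_4 lc_b_rc_9_2 lc_b_rc_6_1 lc_b_rc_9_0 lc_b_rc_26_7 lc_b_rc_9_2 lc_b_rc_26_5 lc_b_rc_8_2 lc_b_rc_1_3 lc_b_rc_6_1 lc_b_rc_9_0 lc_b_rc_8_0 lc_b_rc_8_0 lc_b_rc_10_2 lc_b_rc_9_2 lc_b_rc_9_2 lc_b_rc_26_1 lc_b_rc_7_4 lc_b_rc_8_2 lc_b_rc_9_2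 lc_b_rc_8_0 lc_b_rc_6_1 lc_b_rc_6_1 lc_b_rc_8_0 lc_b_rc_6_1 lc_b_rc_6_1 lc_b_rc_6_1 lc_b_rc_9_2 lc_b_rc_7_2 lc_b_rc_6_1 lc_b_rc_8_2 lc_b_rc_10_2 lc_b_rc_26_5 lc_b_rc_7_0 lc_b_rc_8_2 lc_b_rc_6_1 lc_b_rc_26_5 lc_b_rc_8_2 lc_b_rc_10_2 lc_b_rc_25_4 lc_b_rc_9_0 lc_b_rc_9_0 lc_b_rc_6_1 lc_b_rc_8_2 lc_b_rc_9_2 lc_b_rc_26_5 lc_b_rc_10_2 lc_b_rc_6_1 lc_b_rc_6_1 lc_b_rc_9_2 lc_b_rc_8_2 lc_b_rc_9_2 lc_b_rc_9_0 lc_b_rc_10_2 lc_b_rc_6_1 lc_b_rc_6_1 lc_b_rc_26_5) (@D3.rec (fun _ => (Cert rels S Gen.b)) lc_b_rc_1_5 lc_b_rc_6_1 lc_b_rc_9_0 lc_b_rc_25_4 lc_b_rc_9_2 lc_b_rc_26_7 lc_b_rc_8_2 lc_b_rc_8_2 lc_b_rc_25_0 lc_b_rc_26_7 lc_b_rc_6_1 lc_b_rc_26_5 lc_b_rc_9_2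 lc_b_rc_26_5 lc_b_rc_9_2 lc_b_rc_8_2 lc_b_rc_6_1 lc_b_rc_26_1 lc_b_rc_8_2 lc_b_rc_26_7 lc_b_rc_9_2 lc_b_rc_26_7 lc_b_rc_1_1 lc_b_rc_9_2 lc_b_rc_6_1 lc_b_rc_26_1 lc_b_rc_9_0 lc_b_rc_9_2 lc_b_rc_10_2 lc_b_rc_10_2 lc_b_rc_10_2 lc_b_rc_8_2 lc_b_rc_9_2 lc_b_rc_6_1 lc_b_rc_26_5 lc_b_rc_10_2 lc_b_rc_6_1 lc_b_rc_26_5 lc_b_rc_6_1 lc_b_rc_6_1 lc_b_rc_25_4 lc_b_rc_8_2 lc_b_rc_25_8 lc_b_rc_9_2 lc_b_rc_6_1 lc_b_rc_6_1 lc_b_rc_26_1 lc_b_rc_6_1 lc_b_rc_8_2 lc_b_rc_26_7 lc_b_rc_9_2 lc_b_rc_9_2 lc_b_rc_8_2 lc_b_rc_26_5 lc_b_rc_8_0 lc_b_rc_26_5 lc_b_Cert_tree lc_b_rc_8_2 lc_b_rc_6_1 lc_b_rc_9_2 lc_b_rc_26_5 lc_b_rc_6_1) (@D3.rec (fun _ => (Cert rels S Gen.b))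 lc_b_rc_9_2 lc_b_rc_8_2 lc_b_rc_9_2 lc_b_rc_7_0 lc_b_rc_7_2 lc_b_rc_25_16 lc_b_rc_9_2 lc_b_rc_9_2 lc_b_rc_9_2 lc_b_rc_6_1 lc_b_rc_9_2 lc_b_rc_10_2 lc_b_rc_7_4 lc_b_rc_7_2 lc_b_rc_8_2 lc_b_rc_7_4 lc_b_rc_6_1 lc_b_rc_8_2 lc_b_rc_6_1 lc_b_rc_6_1 lc_b_rc_26_5 lc_b_rc_6_1 lc_b_rc_10_2 lc_b_rc_9_2 lc_b_rc_6_1 lc_b_rc_7_0 lc_b_rc_1_1 lc_b_rc_8_2 lc_b_rc_9_2 lc_b_rc_8_0 lc_b_rc_26_1 lc_b_rc_25_4 lc_b_rc_1_1 lc_b_rc_6_1 lc_b_rc_26_5 lc_b_rc_7_2 lc_b_rc_6_1 lc_b_rc_8_2 lc_b_rc_7_2 lc_b_rc_9_0 lc_b_rc_8_2 lc_b_rc_10_2 lc_b_rc_10_0 lc_b_rc_8_0 lc_b_rc_9_0 lc_b_rc_8_2 lc_b_rc_7_2 lc_b_rc_6_1 lc_b_rc_25_0 lc_b_rc_8_0 lc_b_rc_10_2 lc_b_rc_9_2 lc_b_rc_8_0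 lc_b_rc_7_4 lc_b_rc_1_1 lc_b_rc_6_1 lc_b_rc_26_1 lc_b_rc_6_1 lc_b_rc_1_1 lc_b_rc_6_1 lc_b_rc_6_1 lc_b_rc_9_2) (@D3.rec (fun _ => (Cert rels S Gen.b)) lc_b_rc_6_1 lc_b_rc_9_2 lc_b_rc_9_2 lc_b_rc_7_0 lc_b_rc_26_5 lc_b_rc_8_2 lc_b_rc_8_2 lc_b_rc_26_7 lc_b_rc_8_2 lc_b_rc_8_2 lc_b_rc_7_4 lc_b_rc_9_2 lc_b_rc_8_0 lc_b_rc_10_2 lc_b_rc_8_2 lc_b_rc_9_2 lc_b_rc_8_2 lc_b_rc_9_2 lc_b_rc_6_1 lc_b_rc_25_4 lc_b_rc_9_2 lc_b_rc_8_2 lc_b_rc_7_2 lc_b_rc_25_4 lc_b_rc_26_5 lc_b_rc_8_2 lc_b_rc_9_2 lc_b_rc_1_3 lc_b_rc_7_0 lc_b_rc_8_0 lc_b_rc_9_2 lc_b_rc_7_2 lc_b_rc_1_5 lc_b_rc_26_1 lc_b_rc_1_1 lc_b_rc_9_2 lc_b_rc_6_1 lc_b_rc_10_2 lc_b_rc_9_0 lc_b_rc_10_2 lc_b_rc_26_5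 lc_b_rc_1_1 lc_b_rc_8_2 lc_b_rc_8_0 lc_b_rc_8_0 lc_b_rc_10_2 lc_b_rc_26_5 lc_b_rc_7_2 lc_b_rc_8_2 lc_b_rc_9_2 lc_b_rc_10_0 lc_b_rc_8_2 lc_b_rc_8_2 lc_b_rc_9_2 lc_b_rc_9_2 lc_b_rc_10_2 lc_b_rc_6_1 lc_b_rc_8_2 lc_b_rc_9_0 lc_b_rc_26_7 lc_b_rc_6_1 lc_b_rc_26_5) (@D3.rec (fun _ => (Cert rels S Gen.b)) lc_b_rc_8_2 lc_b_rc_9_2 lc_b_rc_1_5 lc_b_rc_8_2 lc_b_rc_8_2 lc_b_rc_9_2 lc_b_rc_8_2 lc_b_rc_8_2 lc_b_rc_8_0 lc_b_rc_8_2 lc_b_rc_8_2 lc_b_rc_9_2 lc_b_rc_9_2 lc_b_rc_6_1 lc_b_rc_9_2 lc_b_rc_8_2 lc_b_rc_10_2 lc_b_rc_9_2 lc_b_rc_6_1 lc_b_rc_6_1 lc_b_rc_26_5 lc_b_rc_6_1 lc_b_rc_9_2 lc_b_rc_8_2 lc_b_rc_8_2 lc_b_rc_8_2 lc_b_rc_6_1 lc_b_rc_26_5 lc_b_rc_8_2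 lc_b_rc_26_5 lc_b_rc_9_2 lc_b_rc_10_2 lc_b_rc_6_1 lc_b_rc_7_4 lc_b_rc_26_7 lc_b_rc_9_2 lc_b_rc_6_1 lc_b_rc_8_2 lc_b_rc_26_7 lc_b_rc_8_2 lc_b_rc_8_2 lc_b_rc_8_2 lc_b_rc_9_2 lc_b_rc_9_2 lc_b_rc_10_2 lc_b_rc_25_16 lc_b_rc_8_2 lc_b_rc_9_2 lc_b_rc_9_2 lc_b_rc_8_2 lc_b_rc_6_1 lc_b_rc_6_1 lc_b_rc_10_0 lc_b_rc_6_1 lc_b_rc_7_0 lc_b_rc_6_1 lc_b_rc_1_5 lc_b_rc_6_1 lc_b_rc_26_5 lc_b_rc_10_2 lc_b_rc_8_2 lc_b_rc_8_2) (@D3.rec (fun _ => (Cert rels S Gen.b)) lc_b_rc_10_0 lc_b_rc_8_2 lc_b_rc_8_2 lc_b_rc_7_2 lc_b_rc_8_2 lc_b_rc_7_4 lc_b_rc_8_2 lc_b_rc_9_0 lc_b_rc_6_1 lc_b_rc_10_2 lc_b_rc_6_1 lc_b_rc_6_1 lc_b_rc_8_0 lc_b_rc_10_0 lc_b_rc_25_4 lc_b_rc_10_0 lc_b_rc_8_2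 lc_b_rc_7_2 lc_b_rc_8_2 lc_b_rc_26_1 lc_b_rc_8_2 lc_b_rc_10_2 lc_b_rc_26_1 lc_b_rc_26_1 lc_b_rc_10_2 lc_b_rc_8_2 lc_b_rc_8_0 lc_b_rc_8_2 lc_b_rc_26_1 lc_b_rc_25_16 lc_b_rc_1_1 lc_b_rc_9_2 lc_b_rc_7_0 lc_b_rc_8_2 lc_b_rc_8_0 lc_b_rc_9_2 lc_b_rc_26_7 lc_b_rc_1_3 lc_b_rc_1_1 lc_b_rc_1_1 lc_b_rc_9_2 lc_b_rc_8_2 lc_b_rc_6_1 lc_b_rc_26_1 lc_b_rc_7_2 lc_b_rc_9_2 lc_b_rc_6_1 lc_b_rc_26_5 lc_b_rc_6_1 lc_b_rc_9_2 lc_b_rc_8_2 lc_b_rc_9_2 lc_b_rc_6_1 lc_b_rc_10_0 lc_b_rc_9_2 lc_b_rc_8_2 lc_b_rc_26_1 lc_b_rc_8_2 lc_b_rc_6_1 lc_b_rc_9_2 lc_b_rc_9_2 lc_b_rc_9_2) (@D3.rec (fun _ => (Cert rels S Gen.b)) lc_b_rc_7_2 lc_b_rc_8_2 lc_b_rc_9_2 lc_b_rc_26_5 lc_b_rc_6_1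 lc_b_rc_26_1 lc_b_rc_9_2 lc_b_rc_6_1 lc_b_rc_26_5 lc_b_rc_26_5 lc_b_rc_8_0 lc_b_rc_6_1 lc_b_rc_6_1 lc_b_rc_9_2 lc_b_rc_10_2 lc_b_rc_1_5 lc_b_rc_9_2 lc_b_rc_7_0 lc_b_rc_9_2 lc_b_rc_25_4 lc_b_rc_10_2 lc_b_rc_7_2 lc_b_rc_26_5 lc_b_rc_1_1 lc_b_rc_9_0 lc_b_rc_8_2 lc_b_rc_9_2 lc_b_rc_1_3 lc_b_rc_6_1 lc_b_rc_26_1 lc_b_rc_26_7 lc_b_rc_26_5 lc_b_rc_9_2 lc_b_rc_6_1 lc_b_rc_6_1 lc_b_rc_8_2 lc_b_rc_10_2 lc_b_rc_8_2 lc_b_rc_9_2 lc_b_rc_1_5 lc_b_rc_9_2 lc_b_rc_26_5 lc_b_rc_8_2 lc_b_rc_6_1 lc_b_rc_8_2 lc_b_rc_10_2 lc_b_rc_26_5 lc_b_rc_9_2 lc_b_rc_9_2 lc_b_rc_9_2 lc_b_rc_9_2 lc_b_rc_6_1 lc_b_rc_6_1 lc_b_rc_7_4 lc_b_rc_26_5 lc_b_rc_26_7 lc_b_rc_1_1 lc_b_rc_6_1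 lc_b_rc_7_2 lc_b_rc_6_1 lc_b_rc_8_0 lc_b_rc_9_2) (@D3.rec (fun _ => (Cert rels S Gen.b)) lc_b_rc_6_1 lc_b_rc_1_3 lc_b_rc_8_2 lc_b_rc_6_1 lc_b_rc_6_1 lc_b_rc_26_5 lc_b_rc_6_1 lc_b_rc_9_2 lc_b_rc_8_0 lc_b_rc_9_0 lc_b_rc_7_2 lc_b_rc_9_2 lc_b_rc_10_2 lc_b_rc_9_2 lc_b_rc_6_1 lc_b_rc_9_0 lc_b_rc_7_4 lc_b_rc_8_0 lc_b_rc_1_5 lc_b_rc_1_5 lc_b_rc_10_2 lc_b_rc_7_4 lc_b_rc_6_1 lc_b_rc_6_1 lc_b_rc_8_2 lc_b_rc_10_2 lc_b_rc_9_2 lc_b_rc_1_1 lc_b_rc_8_2 lc_b_rc_9_2 lc_b_rc_9_2 lc_b_rc_8_2 lc_b_rc_26_5 lc_b_rc_26_5 lc_b_rc_8_2 lc_b_rc_9_2 lc_b_rc_9_2 lc_b_rc_8_2 lc_b_rc_7_2 lc_b_rc_10_2 lc_b_rc_9_2 lc_b_rc_9_2 lc_b_rc_6_1 lc_b_rc_8_2 lc_b_rc_9_2 lc_b_rc_26_1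 lc_b_rc_26_5 lc_b_rc_8_2 lc_b_rc_10_2 lc_b_rc_9_2 lc_b_rc_26_1 lc_b_rc_8_2 lc_b_rc_6_1 lc_b_rc_7_0 lc_b_rc_6_1 lc_b_rc_8_0 lc_b_rc_9_2 lc_b_rc_25_8 lc_b_rc_1_3 lc_b_rc_9_2 lc_b_rc_9_2 lc_b_rc_1_5) (@D3.rec (fun _ => (Cert rels S Gen.b)) lc_b_rc_9_0 lc_b_rc_6_1 lc_b_rc_25_12 lc_b_rc_8_2 lc_b_rc_1_5 lc_b_rc_26_5 lc_b_rc_8_2 lc_b_rc_9_2 lc_b_rc_8_2 lc_b_rc_6_1 lc_b_rc_26_5 lc_b_rc_26_1 lc_b_rc_26_1 lc_b_rc_10_2 lc_b_rc_26_5 lc_b_rc_8_2 lc_b_rc_26_7 lc_b_rc_26_1 lc_b_rc_26_1 lc_b_rc_8_2 lc_b_rc_9_2 lc_b_rc_10_2 lc_b_rc_6_1 lc_b_rc_6_1 lc_b_rc_26_7 lc_b_rc_8_2 lc_b_rc_1_5 lc_b_rc_8_2 lc_b_rc_26_5 lc_b_rc_6_1 lc_b_rc_8_2 lc_b_rc_26_5 lc_b_rc_6_1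 lc_b_rc_10_2 lc_b_rc_7_0 lc_b_rc_1_3 lc_b_rc_9_2 lc_b_rc_8_2 lc_b_rc_6_1 lc_b_rc_9_2 lc_b_rc_7_0 lc_b_rc_8_2 lc_b_rc_10_2 lc_b_rc_7_0 lc_b_rc_25_16 lc_b_rc_7_2 lc_b_rc_6_1 lc_b_rc_7_2 lc_b_rc_7_0 lc_b_rc_26_7 lc_b_rc_7_2 lc_b_rc_1_5 lc_b_rc_1_3 lc_b_rc_9_2 lc_b_rc_26_7 lc_b_rc_8_2 lc_b_rc_8_2 lc_b_rc_9_2 lc_b_rc_6_1 lc_b_rc_1_1 lc_b_rc_9_2 lc_b_rc_8_0) (@D3.rec (fun _ => (Cert rels S Gen.b)) lc_b_rc_8_2 lc_b_rc_6_1 lc_b_rc_6_1 lc_b_rc_1_1 lc_b_rc_8_0 lc_b_rc_9_0 lc_b_rc_9_2 lc_b_rc_7_0 lc_b_rc_1_3 lc_b_rc_8_2 lc_b_rc_6_1 lc_b_rc_6_1 lc_b_rc_1_3 lc_b_rc_26_1 lc_b_rc_26_5 lc_b_rc_6_1 lc_b_rc_8_0 lc_b_rc_25_4 lc_b_rc_9_2 lc_b_rc_9_2 lc_b_rc_8_0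 lc_b_rc_6_1 lc_b_rc_8_2 lc_b_rc_1_5 lc_b_rc_1_1 lc_b_rc_10_2 lc_b_rc_1_3 lc_b_rc_8_2 lc_b_rc_7_0 lc_b_rc_6_1 lc_b_rc_8_0 lc_b_rc_10_2 lc_b_rc_7_0 lc_b_rc_8_2 lc_b_rc_8_2 lc_b_rc_7_2 lc_b_rc_8_0 lc_b_rc_6_1 lc_b_rc_6_1 lc_b_rc_7_0 lc_b_rc_6_1 lc_b_rc_1_5 lc_b_rc_1_1 lc_b_rc_1_1 lc_b_rc_8_0 lc_b_rc_1_5 lc_b_rc_8_0 lc_b_rc_25_16 lc_b_rc_8_2 lc_b_rc_9_0 lc_b_rc_6_1 lc_b_rc_25_0 lc_b_rc_8_0 lc_b_rc_10_2 lc_b_Cert_tree lc_b_rc_6_1 lc_b_rc_7_2 lc_b_rc_9_2 lc_b_rc_7_4 lc_b_rc_26_5 lc_b_rc_9_2 lc_b_rc_8_2) (@D3.rec (fun _ => (Cert rels S Gen.b)) lc_b_rc_8_2 lc_b_rc_9_2 lc_b_rc_26_7 lc_b_rc_9_2 lc_b_rc_6_1 lc_b_rc_9_2 lc_b_rc_9_0 lc_b_rc_26_5 lc_b_rc_26_5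 lc_b_rc_25_4 lc_b_rc_10_0 lc_b_rc_26_1 lc_b_rc_26_1 lc_b_rc_26_5 lc_b_rc_1_1 lc_b_rc_6_1 lc_b_rc_7_4 lc_b_rc_6_1 lc_b_rc_8_0 lc_b_rc_8_2 lc_b_rc_10_2 lc_b_rc_26_7 lc_b_rc_6_1 lc_b_rc_1_5 lc_b_rc_9_2 lc_b_rc_26_1 lc_b_rc_9_2 lc_b_rc_8_2 lc_b_rc_6_1 lc_b_rc_1_5 lc_b_rc_1_1 lc_b_rc_8_2 lc_b_rc_26_7 lc_b_rc_1_3 lc_b_rc_1_1 lc_b_rc_7_4 lc_b_rc_10_2 lc_b_rc_6_1 lc_b_rc_26_5 lc_b_rc_9_2 lc_b_rc_8_0 lc_b_rc_9_2 lc_b_rc_9_2 lc_b_rc_9_2 lc_b_rc_9_0 lc_b_rc_10_0 lc_b_rc_7_0 lc_b_rc_6_1 lc_b_rc_9_2 lc_b_rc_9_2 lc_b_rc_26_7 lc_b_rc_8_2 lc_b_rc_10_2 lc_b_rc_7_2 lc_b_rc_9_0 lc_b_rc_25_4 lc_b_rc_7_0 lc_b_rc_26_5 lc_b_rc_26_5 lc_b_rc_8_2 lc_b_rc_6_1 lc_b_rc_26_5)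 (@D3.rec (fun _ => (Cert rels S Gen.b)) lc_b_rc_9_2 lc_b_rc_9_2 lc_b_rc_6_1 lc_b_rc_9_0 lc_b_rc_8_2 lc_b_rc_10_2 lc_b_rc_26_5 lc_b_rc_25_0 lc_b_rc_6_1 lc_b_rc_7_0 lc_b_rc_8_2 lc_b_rc_6_1 lc_b_rc_10_0 lc_b_rc_9_0 lc_b_rc_6_1 lc_b_rc_6_1 lc_b_rc_6_1 lc_b_rc_8_2 lc_b_Cert_tree lc_b_rc_9_0 lc_b_rc_6_1 lc_b_rc_7_4 lc_b_rc_9_2 lc_b_rc_10_2 lc_b_rc_6_1 lc_b_rc_9_0 lc_b_rc_6_1 lc_b_rc_1_5 lc_b_rc_8_2 lc_b_rc_9_2 lc_b_rc_1_1 lc_b_rc_6_1 lc_b_rc_10_0 lc_b_rc_6_1 lc_b_rc_1_5 lc_b_rc_9_2 lc_b_rc_8_2 lc_b_rc_10_2 lc_b_rc_9_2 lc_b_rc_6_1 lc_b_rc_26_5 lc_b_rc_1_5 lc_b_rc_10_2 lc_b_rc_9_2 lc_b_rc_6_1 lc_b_rc_9_2 lc_b_rc_8_2 lc_b_rc_25_16 lc_b_rc_8_2 lc_b_rc_9_2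 lc_b_rc_1_5 lc_b_rc_6_1 lc_b_rc_6_1 lc_b_rc_7_4 lc_b_rc_8_2 lc_b_rc_25_12 lc_b_rc_8_2 lc_b_rc_26_5 lc_b_rc_8_2 lc_b_rc_6_1 lc_b_rc_6_1 lc_b_rc_25_16) (@D3.rec (fun _ => (Cert rels S Gen.b)) lc_b_rc_26_1 lc_b_rc_10_2 lc_b_rc_6_1 lc_b_rc_1_1 lc_b_rc_8_2 lc_b_rc_6_1 lc_b_rc_8_0 lc_b_rc_25_8 lc_b_rc_9_2 lc_b_rc_6_1 lc_b_rc_26_5 lc_b_rc_9_2 lc_b_rc_8_2 lc_b_rc_6_1 lc_b_rc_6_1 lc_b_rc_6_1 lc_b_rc_26_5 lc_b_rc_1_5 lc_b_rc_8_0 lc_b_rc_10_2 lc_b_rc_8_0 lc_b_rc_8_2 lc_b_rc_8_2 lc_b_rc_1_5 lc_b_rc_10_0 lc_b_rc_9_2 lc_b_rc_6_1 lc_b_rc_8_2 lc_b_rc_6_1 lc_b_rc_9_2 lc_b_rc_6_1 lc_b_rc_8_0 lc_b_rc_8_2 lc_b_rc_26_5 lc_b_rc_6_1 lc_b_rc_6_1 lc_b_rc_10_0 lc_b_rc_10_2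 lc_b_rc_6_1 lc_b_rc_9_2 lc_b_rc_8_2 lc_b_rc_6_1 lc_b_rc_8_2 lc_b_Cert_tree lc_b_rc_7_4 lc_b_rc_9_2 lc_b_rc_26_7 lc_b_rc_26_1 lc_b_rc_7_2 lc_b_rc_6_1 lc_b_rc_6_1 lc_b_rc_10_2 lc_b_rc_9_0 lc_b_rc_6_1 lc_b_rc_8_2 lc_b_rc_8_2 lc_b_rc_26_5 lc_b_rc_26_1 lc_b_rc_25_0 lc_b_rc_25_0 lc_b_rc_6_1 lc_b_rc_26_5) (@D3.rec (fun _ => (Cert rels S Gen.b)) lc_b_rc_25_0 lc_b_rc_26_5 lc_b_rc_25_4 lc_b_rc_6_1 lc_b_rc_6_1 lc_b_rc_9_2 lc_b_rc_9_2 lc_b_rc_6_1 lc_b_rc_26_7 lc_b_rc_7_2 lc_b_rc_6_1 lc_b_rc_9_2 lc_b_rc_6_1 lc_b_rc_26_7 lc_b_rc_8_2 lc_b_rc_6_1 lc_b_rc_6_1 lc_b_rc_9_2 lc_b_rc_6_1 lc_b_rc_9_2 lc_b_rc_7_0 lc_b_rc_10_2 lc_b_rc_7_2 lc_b_rc_1_3 lc_b_rc_6_1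 lc_b_rc_25_0 lc_b_rc_8_2 lc_b_rc_6_1 lc_b_rc_1_5 lc_b_rc_8_2 lc_b_rc_26_5 lc_b_rc_6_1 lc_b_rc_26_1 lc_b_rc_25_4 lc_b_rc_8_2 lc_b_rc_7_4 lc_b_rc_26_5 lc_b_rc_1_3 lc_b_rc_8_2 lc_b_rc_7_4 lc_b_rc_6_1 lc_b_rc_9_2 lc_b_rc_26_7 lc_b_rc_26_5 lc_b_rc_1_5 lc_b_rc_10_2 lc_b_rc_7_4 lc_b_rc_1_5 lc_b_rc_26_5 lc_b_rc_8_2 lc_b_rc_8_2 lc_b_rc_10_2 lc_b_rc_9_2 lc_b_rc_6_1 lc_b_rc_9_2 lc_b_rc_6_1 lc_b_rc_7_2 lc_b_rc_8_2 lc_b_rc_6_1 lc_b_rc_7_2 lc_b_rc_6_1 lc_b_rc_10_2) (@D3.rec (fun _ => (Cert rels S Gen.b)) lc_b_rc_7_4 lc_b_rc_6_1 lc_b_rc_9_0 lc_b_rc_7_2 lc_b_rc_7_4 lc_b_rc_8_2 lc_b_rc_6_1 lc_b_rc_8_2 lc_b_rc_8_2 lc_b_rc_8_2 lc_b_rc_26_5 lc_b_rc_26_5 lc_b_rc_10_2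 lc_b_rc_9_2 lc_b_rc_7_4 lc_b_rc_26_7 lc_b_rc_1_3 lc_b_rc_9_2 lc_b_rc_9_2 lc_b_rc_6_1 lc_b_rc_10_2 lc_b_rc_9_2 lc_b_rc_10_2 lc_b_rc_6_1 lc_b_rc_8_0 lc_b_rc_8_0 lc_b_rc_9_2 lc_b_rc_6_1 lc_b_rc_9_0 lc_b_rc_8_2 lc_b_rc_10_2 lc_b_rc_7_4 lc_b_rc_8_2 lc_b_rc_8_2 lc_b_rc_8_2 lc_b_rc_8_2 lc_b_rc_8_2 lc_b_rc_9_2 lc_b_rc_8_2 lc_b_rc_7_4 lc_b_rc_8_0 lc_b_rc_26_5 lc_b_rc_26_7 lc_b_rc_8_2 lc_b_rc_9_2 lc_b_rc_10_2 lc_b_rc_6_1 lc_b_rc_7_4 lc_b_rc_6_1 lc_b_rc_6_1 lc_b_rc_8_2 lc_b_rc_25_0 lc_b_rc_26_1 lc_b_rc_6_1 lc_b_rc_25_0 lc_b_rc_6_1 lc_b_rc_26_1 lc_b_rc_6_1 lc_b_rc_9_2 lc_b_rc_8_0 lc_b_rc_8_2 lc_b_rc_9_2) (@D3.rec (fun _ => (Cert rels S Gen.b)) lc_b_rc_8_2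 lc_b_rc_6_1 lc_b_rc_6_1 lc_b_rc_7_4 lc_b_rc_8_2 lc_b_rc_25_0 lc_b_rc_9_2 lc_b_rc_26_1 lc_b_rc_6_1 lc_b_rc_25_8 lc_b_rc_1_5 lc_b_rc_1_5 lc_b_rc_10_2 lc_b_rc_26_5 lc_b_rc_6_1 lc_b_rc_9_2 lc_b_rc_6_1 lc_b_rc_9_2 lc_b_rc_6_1 lc_b_rc_9_0 lc_b_rc_9_2 lc_b_rc_8_2 lc_b_rc_26_7 lc_b_rc_6_1 lc_b_rc_6_1 lc_b_rc_6_1 lc_b_rc_9_2 lc_b_rc_7_0 lc_b_rc_9_2 lc_b_rc_6_1 lc_b_rc_6_1 lc_b_rc_9_2 lc_b_rc_9_2 lc_b_rc_26_1 lc_b_rc_10_2 lc_b_rc_26_7 lc_b_rc_26_7 lc_b_rc_8_2 lc_b_rc_7_2 lc_b_rc_9_2 lc_b_rc_8_2 lc_b_rc_8_0 lc_b_rc_7_0 lc_b_rc_8_2 lc_b_rc_26_5 lc_b_rc_25_4 lc_b_rc_26_5 lc_b_rc_7_4 lc_b_rc_26_5 lc_b_rc_26_1 lc_b_rc_9_2 lc_b_rc_9_0 lc_b_rc_8_2 lc_b_rc_7_2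 lc_b_rc_10_2 lc_b_rc_6_1 lc_b_rc_8_0 lc_b_rc_1_3 lc_b_rc_8_2 lc_b_rc_10_2 lc_b_rc_6_1 lc_b_rc_8_2) (@D3.rec (fun _ => (Cert rels S Gen.b)) lc_b_rc_9_0 lc_b_rc_6_1 lc_b_rc_8_2 lc_b_rc_6_1 lc_b_rc_7_2 lc_b_rc_1_5 lc_b_rc_9_2 lc_b_rc_8_2 lc_b_rc_9_2 lc_b_rc_6_1 lc_b_rc_7_0 lc_b_rc_8_2 lc_b_rc_1_3 lc_b_rc_8_2 lc_b_rc_9_2 lc_b_rc_9_2 lc_b_rc_9_2 lc_b_rc_26_5 lc_b_rc_9_2 lc_b_rc_26_5 lc_b_rc_9_2 lc_b_rc_8_2 lc_b_rc_8_2 lc_b_rc_7_4 lc_b_rc_25_0 lc_b_rc_6_1 lc_b_rc_9_2 lc_b_rc_8_0 lc_b_rc_8_0 lc_b_rc_1_3 lc_b_rc_8_2 lc_b_rc_26_1 lc_b_rc_6_1 lc_b_rc_10_0 lc_b_rc_7_2 lc_b_rc_8_0 lc_b_rc_10_2 lc_b_rc_9_2 lc_b_rc_25_0 lc_b_rc_10_2 lc_b_rc_7_4 lc_b_rc_25_4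 lc_b_rc_9_2 lc_b_rc_25_8 lc_b_rc_9_2 lc_b_rc_26_1 lc_b_rc_8_2 lc_b_rc_6_1 lc_b_rc_9_2 lc_b_rc_10_0 lc_b_rc_7_0 lc_b_rc_9_2 lc_b_rc_26_5 lc_b_rc_8_2 lc_b_rc_7_2 lc_b_rc_6_1 lc_b_rc_10_2 lc_b_rc_26_5 lc_b_rc_6_1 lc_b_rc_8_2 lc_b_rc_8_2 lc_b_rc_1_5) (@D3.rec (fun _ => (Cert rels S Gen.b)) lc_b_rc_6_1 lc_b_rc_7_0 lc_b_rc_8_2 lc_b_rc_10_2 lc_b_rc_1_5 lc_b_rc_10_2 lc_b_rc_6_1 lc_b_rc_7_0 lc_b_rc_1_3 lc_b_rc_10_2 lc_b_rc_8_2 lc_b_rc_10_2 lc_b_rc_26_5 lc_b_rc_9_2 lc_b_rc_8_2 lc_b_rc_6_1 lc_b_rc_9_2 lc_b_rc_9_2 lc_b_rc_6_1 lc_b_rc_6_1 lc_b_rc_8_2 lc_b_rc_1_5 lc_b_rc_1_1 lc_b_rc_7_2 lc_b_rc_26_1 lc_b_rc_8_2 lc_b_rc_6_1 lc_b_rc_26_1 lc_b_rc_7_4 lc_b_rc_8_2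 lc_b_rc_6_1 lc_b_rc_6_1 lc_b_rc_7_0 lc_b_rc_8_2 lc_b_rc_6_1 lc_b_rc_8_0 lc_b_rc_6_1 lc_b_rc_8_0 lc_b_rc_8_2 lc_b_rc_6_1 lc_b_rc_8_0 lc_b_rc_6_1 lc_b_rc_8_2 lc_b_rc_8_2 lc_b_rc_7_4 lc_b_rc_10_2 lc_b_rc_9_2 lc_b_rc_10_2 lc_b_rc_7_2 lc_b_rc_7_0 lc_b_rc_8_0 lc_b_rc_10_2 lc_b_rc_26_1 lc_b_rc_1_3 lc_b_rc_9_2 lc_b_rc_6_1 lc_b_rc_8_0 lc_b_rc_6_1 lc_b_rc_1_3 lc_b_rc_26_1 lc_b_rc_6_1 lc_b_rc_9_0) (@D3.rec (fun _ => (Cert rels S Gen.b)) lc_b_rc_8_2 lc_b_rc_9_2 lc_b_rc_10_2 lc_b_rc_9_2 lc_b_rc_26_1 lc_b_rc_8_0 lc_b_rc_9_2 lc_b_rc_9_0 lc_b_rc_26_5 lc_b_rc_9_2 lc_b_rc_9_2 lc_b_rc_10_2 lc_b_rc_7_0 lc_b_rc_6_1 lc_b_rc_1_3 lc_b_rc_9_2 lc_b_rc_8_2 lc_b_rc_25_16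 lc_b_rc_8_2 lc_b_rc_1_5 lc_b_rc_6_1 lc_b_rc_1_3 lc_b_rc_8_2 lc_b_rc_9_2 lc_b_rc_7_2 lc_b_rc_8_0 lc_b_rc_10_2 lc_b_rc_8_0 lc_b_rc_8_2 lc_b_rc_7_2 lc_b_rc_6_1 lc_b_rc_1_1 lc_b_rc_6_1 lc_b_rc_6_1 lc_b_rc_8_2 lc_b_rc_6_1 lc_b_rc_6_1 lc_b_rc_8_0 lc_b_rc_9_2 lc_b_rc_9_2 lc_b_rc_26_5 lc_b_rc_9_2 lc_b_rc_26_1 lc_b_rc_6_1 lc_b_rc_26_7 lc_b_rc_1_5 lc_b_rc_26_1 lc_b_rc_1_1 lc_b_rc_9_2 lc_b_rc_7_2 lc_b_rc_1_5 lc_b_rc_10_2 lc_b_rc_6_1 lc_b_rc_26_5 lc_b_rc_7_4 lc_b_rc_26_5 lc_b_rc_8_2 lc_b_rc_26_5 lc_b_rc_1_5 lc_b_rc_6_1 lc_b_rc_26_1 lc_b_rc_8_2) (@D3.rec (fun _ => (Cert rels S Gen.b)) lc_b_rc_26_5 lc_b_rc_26_7 lc_b_rc_6_1 lc_b_rc_6_1 lc_b_rc_1_5 lc_b_rc_9_0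 lc_b_rc_7_0 lc_b_rc_6_1 lc_b_rc_26_1 lc_b_rc_1_3 lc_b_rc_26_1 lc_b_rc_8_2 lc_b_rc_25_0 lc_b_rc_6_1 lc_b_rc_9_2 lc_b_rc_7_0 lc_b_rc_7_0 lc_b_rc_9_0 lc_b_rc_9_0 lc_b_rc_26_1 lc_b_rc_9_2 lc_b_rc_7_4 lc_b_rc_6_1 lc_b_rc_1_1 lc_b_rc_26_5 lc_b_rc_26_5 lc_b_rc_9_2 lc_b_rc_7_4 lc_b_rc_8_2 lc_b_rc_9_0 lc_b_rc_8_2 lc_b_rc_6_1 lc_b_rc_26_1 lc_b_rc_8_2 lc_b_rc_8_2 lc_b_rc_1_1 lc_b_rc_8_2 lc_b_rc_26_1 lc_b_rc_9_2 lc_b_rc_6_1 lc_b_rc_8_0 lc_b_rc_7_2 lc_b_rc_8_2 lc_b_Cert_tree lc_b_rc_1_3 lc_b_rc_7_4 lc_b_rc_6_1 lc_b_rc_26_5 lc_b_rc_1_3 lc_b_rc_6_1 lc_b_rc_26_1 lc_b_rc_7_0 lc_b_rc_8_0 lc_b_rc_6_1 lc_b_rc_1_1 lc_b_rc_8_2 lc_b_rc_10_0 lc_b_rc_7_2 lc_b_rc_9_2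 lc_b_rc_8_2 lc_b_rc_7_0 lc_b_rc_7_2) (@D3.rec (fun _ => (Cert rels S Gen.b)) lc_b_rc_8_2 lc_b_rc_26_5 lc_b_rc_8_2 lc_b_rc_6_1 lc_b_rc_7_0 lc_b_rc_26_7 lc_b_rc_9_2 lc_b_rc_9_2 lc_b_rc_1_5 lc_b_rc_8_2 lc_b_rc_6_1 lc_b_rc_7_4 lc_b_rc_6_1 lc_b_rc_26_5 lc_b_rc_7_4 lc_b_rc_10_2 lc_b_rc_6_1 lc_b_rc_10_2 lc_b_rc_1_5 lc_b_rc_8_2 lc_b_rc_8_2 lc_b_rc_8_0 lc_b_rc_7_0 lc_b_rc_26_5 lc_b_rc_8_2 lc_b_rc_7_0 lc_b_rc_8_2 lc_b_rc_1_3 lc_b_rc_1_3 lc_b_rc_1_3 lc_b_rc_7_2 lc_b_rc_26_5 lc_b_rc_9_2 lc_b_rc_26_7 lc_b_rc_9_0 lc_b_rc_8_2 lc_b_rc_6_1 lc_b_rc_6_1 lc_b_rc_9_0 lc_b_rc_10_2 lc_b_rc_6_1 lc_b_rc_26_7 lc_b_rc_1_5 lc_b_rc_8_2 lc_b_rc_1_3 lc_b_rc_7_0 lc_b_rc_10_2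 lc_b_rc_9_2 lc_b_rc_6_1 lc_b_rc_26_5 lc_b_rc_26_5 lc_b_rc_10_2 lc_b_rc_10_2 lc_b_rc_9_2 lc_b_rc_6_1 lc_b_rc_26_5 lc_b_rc_26_5 lc_b_rc_8_2 lc_b_rc_8_2 lc_b_rc_25_16 lc_b_rc_6_1 lc_b_rc_8_2) (@D3.rec (fun _ => (Cert rels S Gen.b)) lc_b_rc_6_1 lc_b_rc_7_2 lc_b_rc_7_2 lc_b_rc_6_1 lc_b_rc_9_2 lc_b_rc_26_5 lc_b_rc_8_2 lc_b_rc_6_1 lc_b_rc_6_1 lc_b_rc_26_5 lc_b_rc_10_0 lc_b_rc_6_1 lc_b_rc_9_2 lc_b_rc_8_2 lc_b_rc_9_2 lc_b_rc_26_7 lc_b_rc_8_2 lc_b_rc_9_2 lc_b_rc_7_4 lc_b_rc_9_2 lc_b_rc_6_1 lc_b_rc_7_0 lc_b_rc_10_2 lc_b_rc_10_2 lc_b_rc_8_2 lc_b_rc_1_3 lc_b_rc_7_4 lc_b_rc_9_2 lc_b_rc_6_1 lc_b_rc_1_5 lc_b_rc_8_2 lc_b_rc_6_1 lc_b_rc_6_1 lc_b_rc_6_1 lc_b_rc_1_3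 lc_b_rc_6_1 lc_b_rc_9_2 lc_b_rc_8_2 lc_b_rc_9_0 lc_b_rc_26_1 lc_b_rc_8_2 lc_b_rc_8_2 lc_b_rc_8_2 lc_b_rc_8_2 lc_b_rc_9_2 lc_b_rc_8_0 lc_b_rc_8_2 lc_b_rc_6_1 lc_b_rc_26_7 lc_b_rc_9_2 lc_b_rc_25_4 lc_b_rc_8_2 lc_b_rc_9_2 lc_b_rc_6_1 lc_b_rc_26_5 lc_b_rc_8_2 lc_b_rc_9_2 lc_b_rc_1_3 lc_b_rc_26_5 lc_b_rc_8_2 lc_b_rc_8_0 lc_b_rc_6_1) (@D3.rec (fun _ => (Cert rels S Gen.b)) lc_b_rc_9_2 lc_b_rc_9_2 lc_b_rc_8_2 lc_b_rc_9_2 lc_b_rc_6_1 lc_b_rc_8_2 lc_b_rc_6_1 lc_b_rc_10_2 lc_b_rc_6_1 lc_b_rc_8_2 lc_b_rc_9_2 lc_b_rc_6_1 lc_b_rc_9_0 lc_b_rc_8_2 lc_b_rc_10_2 lc_b_rc_8_2 lc_b_rc_8_2 lc_b_rc_8_0 lc_b_rc_26_7 lc_b_rc_1_3 lc_b_rc_9_2 lc_b_rc_6_1 lc_b_rc_9_2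 lc_b_rc_8_2 lc_b_rc_26_5 lc_b_rc_9_0 lc_b_rc_9_2 lc_b_rc_1_5 lc_b_rc_8_2 lc_b_rc_26_5 lc_b_rc_6_1 lc_b_rc_1_3 lc_b_rc_8_2 lc_b_rc_9_0 lc_b_rc_7_2 lc_b_rc_26_7 lc_b_rc_9_2 lc_b_rc_26_7 lc_b_rc_25_16 lc_b_rc_26_7 lc_b_rc_7_4 lc_b_rc_9_2 lc_b_rc_26_5 lc_b_rc_9_2 lc_b_rc_8_0 lc_b_rc_10_2 lc_b_rc_1_1 lc_b_rc_1_3 lc_b_rc_6_1 lc_b_rc_8_2 lc_b_rc_8_2 lc_b_rc_7_0 lc_b_rc_7_2 lc_b_rc_10_2 lc_b_rc_6_1 lc_b_rc_1_5 lc_b_rc_8_0 lc_b_rc_8_2 lc_b_rc_9_2 lc_b_rc_9_0 lc_b_rc_8_2 lc_b_rc_9_0) (@D3.rec (fun _ => (Cert rels S Gen.b)) lc_b_rc_26_1 lc_b_rc_9_2 lc_b_rc_26_1 lc_b_rc_8_2 lc_b_rc_6_1 lc_b_rc_1_1 lc_b_rc_1_5 lc_b_rc_9_2 lc_b_rc_6_1 lc_b_rc_7_0 lc_b_rc_9_2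 lc_b_rc_26_1 lc_b_rc_26_5 lc_b_rc_9_0 lc_b_rc_1_5 lc_b_rc_9_2 lc_b_rc_8_2 lc_b_rc_8_2 lc_b_rc_7_0 lc_b_rc_26_1 lc_b_rc_9_2 lc_b_rc_8_2 lc_b_rc_9_2 lc_b_rc_26_7 lc_b_rc_7_4 lc_b_rc_8_2 lc_b_rc_9_2 lc_b_rc_8_2 lc_b_rc_9_2 lc_b_rc_9_0 lc_b_rc_8_2 lc_b_rc_26_5 lc_b_rc_9_0 lc_b_rc_8_2 lc_b_rc_7_2 lc_b_rc_6_1 lc_b_rc_9_2 lc_b_rc_26_5 lc_b_rc_10_2 lc_b_rc_8_2 lc_b_rc_6_1 lc_b_rc_10_2 lc_b_rc_6_1 lc_b_rc_6_1 lc_b_rc_7_0 lc_b_rc_9_0 lc_b_rc_6_1 lc_b_rc_25_4 lc_b_rc_25_4 lc_b_rc_8_2 lc_b_rc_9_2 lc_b_rc_9_2 lc_b_rc_7_4 lc_b_rc_10_2 lc_b_rc_9_2 lc_b_rc_9_2 lc_b_rc_6_1 lc_b_rc_9_2 lc_b_rc_6_1 lc_b_rc_9_2 lc_b_rc_9_2 lc_b_rc_8_2) (@D3.rec (fun _ => (Cert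 rels S Gen.b)) lc_b_rc_6_1 lc_b_rc_7_2 lc_b_rc_8_2 lc_b_rc_8_0 lc_b_rc_8_2 lc_b_rc_7_2 lc_b_rc_8_0 lc_b_rc_1_3 lc_b_rc_1_5 lc_b_rc_8_2 lc_b_rc_8_2 lc_b_rc_6_1 lc_b_rc_8_2 lc_b_rc_26_5 lc_b_rc_7_4 lc_b_rc_6_1 lc_b_rc_10_2 lc_b_rc_10_2 lc_b_rc_26_7 lc_b_rc_1_5 lc_b_rc_26_7 lc_b_rc_10_0 lc_b_rc_9_0 lc_b_rc_26_5 lc_b_rc_8_2 lc_b_rc_9_2 lc_b_rc_9_2 lc_b_rc_26_5 lc_b_rc_26_5 lc_b_rc_7_4 lc_b_rc_7_2 lc_b_rc_8_0 lc_b_rc_6_1 lc_b_rc_25_4 lc_b_rc_9_0 lc_b_rc_7_4 lc_b_rc_6_1 lc_b_rc_9_2 lc_b_rc_6_1 lc_b_rc_7_0 lc_b_rc_9_2 lc_b_rc_25_4 lc_b_rc_26_1 lc_b_rc_9_0 lc_b_rc_8_0 lc_b_rc_9_2 lc_b_rc_6_1 lc_b_rc_1_3 lc_b_rc_1_5 lc_b_rc_7_4 lc_b_rc_9_2 lc_b_rc_6_1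 lc_b_rc_26_5 lc_b_rc_7_0 lc_b_rc_10_2 lc_b_rc_26_1 lc_b_rc_26_5 lc_b_rc_6_1 lc_b_rc_26_5 lc_b_rc_8_2 lc_b_rc_10_2 lc_b_rc_8_2) (@D3.rec (fun _ => (Cert rels S Gen.b)) lc_b_rc_26_7 lc_b_rc_26_7 lc_b_rc_9_2 lc_b_rc_26_7 lc_b_rc_9_0 lc_b_rc_8_0 lc_b_rc_8_2 lc_b_rc_10_2 lc_b_rc_10_2 lc_b_rc_8_2 lc_b_rc_10_2 lc_b_rc_9_2 lc_b_rc_1_5 lc_b_rc_6_1 lc_b_rc_10_2 lc_b_rc_7_4 lc_b_rc_26_5 lc_b_rc_10_2 lc_b_Cert_tree lc_b_rc_8_2 lc_b_rc_25_12 lc_b_rc_6_1 lc_b_rc_6_1 lc_b_rc_7_2 lc_b_rc_26_5 lc_b_rc_6_1 lc_b_rc_1_1 lc_b_rc_8_2 lc_b_rc_26_1 lc_b_rc_8_2 lc_b_rc_7_2 lc_b_rc_25_4 lc_b_rc_1_1 lc_b_rc_7_2 lc_b_rc_7_0 lc_b_rc_6_1 lc_b_rc_26_7 lc_b_rc_26_5 lc_b_rc_9_2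 lc_b_rc_9_2 lc_b_rc_9_2 lc_b_rc_8_0 lc_b_rc_8_2 lc_b_rc_1_5 lc_b_rc_10_2 lc_b_rc_26_5 lc_b_rc_26_7 lc_b_rc_6_1 lc_b_rc_26_5 lc_b_rc_6_1 lc_b_rc_8_2 lc_b_rc_8_2 lc_b_rc_8_0 lc_b_rc_26_5 lc_b_rc_8_2 lc_b_rc_6_1 lc_b_rc_7_4 lc_b_rc_7_0 lc_b_rc_6_1 lc_b_rc_26_5 lc_b_rc_9_2 lc_b_rc_9_2) (@D3.rec (fun _ => (Cert rels S Gen.b)) lc_b_rc_1_1 lc_b_rc_6_1 lc_b_rc_9_2 lc_b_rc_9_2 lc_b_rc_26_5 lc_b_rc_26_5 lc_b_rc_25_8 lc_b_rc_6_1 lc_b_rc_25_16 lc_b_rc_26_1 lc_b_rc_6_1 lc_b_rc_7_2 lc_b_rc_1_5 lc_b_rc_26_1 lc_b_rc_26_5 lc_b_rc_26_5 lc_b_rc_9_2 lc_b_rc_10_0 lc_b_rc_26_1 lc_b_rc_1_3 lc_b_rc_26_5 lc_b_rc_9_2 lc_b_rc_8_2 lc_b_rc_8_2 lc_b_rc_8_2 lc_b_rc_7_2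 lc_b_rc_6_1 lc_b_rc_9_0 lc_b_rc_10_2 lc_b_rc_8_2 lc_b_rc_1_3 lc_b_rc_7_2 lc_b_rc_6_1 lc_b_rc_7_4 lc_b_rc_8_2 lc_b_rc_10_2 lc_b_rc_8_2 lc_b_rc_25_4 lc_b_rc_25_16 lc_b_rc_8_2 lc_b_rc_6_1 lc_b_rc_9_2 lc_b_rc_8_0 lc_b_rc_9_2 lc_b_rc_7_2 lc_b_rc_1_1 lc_b_rc_9_2 lc_b_rc_9_2 lc_b_rc_10_2 lc_b_rc_9_2 lc_b_rc_8_2 lc_b_rc_6_1 lc_b_rc_10_2 lc_b_rc_8_0 lc_b_rc_26_5 lc_b_rc_1_5 lc_b_rc_10_2 lc_b_rc_1_3 lc_b_rc_8_2 lc_b_rc_9_2 lc_b_rc_8_2 lc_b_rc_1_5) (@D3.rec (fun _ => (Cert rels S Gen.b)) lc_b_rc_10_2 lc_b_rc_26_5 lc_b_rc_6_1 lc_b_rc_8_2 lc_b_rc_7_2 lc_b_rc_8_2 lc_b_rc_7_2 lc_b_rc_1_3 lc_b_rc_7_2 lc_b_rc_25_4 lc_b_rc_8_0 lc_b_rc_9_2 lc_b_rc_1_5 lc_b_rc_10_2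 lc_b_rc_8_2 lc_b_rc_8_2 lc_b_rc_26_5 lc_b_rc_6_1 lc_b_rc_7_0 lc_b_rc_8_2 lc_b_rc_8_2 lc_b_rc_6_1 lc_b_rc_8_2 lc_b_rc_9_2 lc_b_rc_9_2 lc_b_rc_26_5 lc_b_rc_26_5 lc_b_rc_8_2 lc_b_rc_6_1 lc_b_rc_1_3 lc_b_rc_8_2 lc_b_rc_9_2 lc_b_rc_7_4 lc_b_rc_7_4 lc_b_rc_26_1 lc_b_rc_7_0 lc_b_rc_6_1 lc_b_rc_8_2 lc_b_rc_25_4 lc_b_rc_1_3 lc_b_rc_9_2 lc_b_rc_10_2 lc_b_rc_9_2 lc_b_rc_9_2 lc_b_rc_6_1 lc_b_rc_8_2 lc_b_rc_26_1 lc_b_rc_8_2 lc_b_rc_8_2 lc_b_rc_6_1 lc_b_rc_9_2 lc_b_rc_7_4 lc_b_rc_9_2 lc_b_rc_7_0 lc_b_rc_9_2 lc_b_rc_10_2 lc_b_rc_8_2 lc_b_rc_25_16 lc_b_rc_25_4 lc_b_rc_26_7 lc_b_rc_26_5 lc_b_rc_9_2) (@D3.rec (fun _ => (Cert rels S Gen.b)) lc_b_rc_7_4 lc_b_rc_9_2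 lc_b_rc_9_2 lc_b_rc_26_1 lc_b_rc_8_2 lc_b_rc_26_5 lc_b_rc_1_5 lc_b_rc_8_2 lc_b_rc_7_4 lc_b_rc_6_1 lc_b_rc_26_7 lc_b_rc_8_2 lc_b_rc_8_0 lc_b_rc_6_1 lc_b_rc_6_1 lc_b_rc_7_0 lc_b_rc_8_2 lc_b_rc_8_2 lc_b_rc_8_2 lc_b_rc_26_7 lc_b_rc_1_3 lc_b_rc_8_2 lc_b_rc_6_1 lc_b_rc_9_2 lc_b_rc_7_4 lc_b_rc_9_2 lc_b_rc_26_7 lc_b_rc_26_5 lc_b_rc_8_0 lc_b_rc_1_5 lc_b_rc_26_5 lc_b_rc_26_5 lc_b_rc_26_5 lc_b_rc_7_4 lc_b_rc_6_1 lc_b_rc_8_2 lc_b_rc_1_5 lc_b_rc_1_1 lc_b_rc_26_5 lc_b_rc_8_2 lc_b_rc_10_2 lc_b_rc_9_2 lc_b_rc_6_1 lc_b_rc_10_2 lc_b_rc_26_5 lc_b_rc_8_0 lc_b_rc_8_2 lc_b_rc_8_2 lc_b_rc_26_5 lc_b_rc_9_2 lc_b_rc_8_0 lc_b_rc_7_4 lc_b_rc_25_0 lc_b_rc_7_2 lc_b_rc_9_2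 lc_b_rc_26_5 lc_b_rc_8_2 lc_b_rc_7_4 lc_b_rc_6_1 lc_b_rc_8_2 lc_b_rc_6_1 lc_b_rc_7_0) (@D3.rec (fun _ => (Cert rels S Gen.b)) lc_b_rc_26_5 lc_b_rc_8_0 lc_b_Cert_tree lc_b_rc_9_2 lc_b_rc_7_4 lc_b_rc_8_2 lc_b_rc_9_2 lc_b_rc_1_3 lc_b_rc_6_1 lc_b_rc_9_2 lc_b_rc_6_1 lc_b_rc_9_0 lc_b_rc_10_2 lc_b_rc_9_2 lc_b_rc_8_2 lc_b_rc_8_2 lc_b_rc_10_2 lc_b_rc_8_2 lc_b_rc_6_1 lc_b_rc_8_2 lc_b_rc_6_1 lc_b_rc_26_5 lc_b_rc_26_5 lc_b_rc_25_4 lc_b_rc_8_2 lc_b_rc_9_0 lc_b_rc_6_1 lc_b_rc_7_4 lc_b_rc_25_4 lc_b_rc_26_7 lc_b_rc_8_2 lc_b_rc_1_1 lc_b_rc_9_0 lc_b_rc_26_5 lc_b_rc_6_1 lc_b_rc_8_2 lc_b_rc_9_0 lc_b_rc_9_2 lc_b_rc_7_2 lc_b_rc_6_1 lc_b_rc_9_2 lc_b_rc_9_2 lc_b_rc_9_2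 lc_b_rc_8_2 lc_b_rc_26_7 lc_b_rc_8_0 lc_b_rc_8_2 lc_b_rc_8_0 lc_b_rc_10_2 lc_b_rc_26_7 lc_b_rc_9_2 lc_b_rc_26_5 lc_b_rc_25_4 lc_b_rc_8_2 lc_b_rc_8_2 lc_b_rc_6_1 lc_b_rc_6_1 lc_b_rc_7_2 lc_b_rc_9_0 lc_b_rc_8_2 lc_b_rc_6_1 lc_b_rc_26_7) (@D3.rec (fun _ => (Cert rels S Gen.b)) lc_b_rc_9_0 lc_b_rc_1_3 lc_b_rc_9_0 lc_b_rc_26_1 lc_b_rc_6_1 lc_b_rc_9_2 lc_b_rc_9_2 lc_b_rc_7_2 lc_b_rc_7_0 lc_b_rc_8_2 lc_b_rc_26_5 lc_b_rc_9_2 lc_b_rc_26_7 lc_b_rc_1_1 lc_b_rc_9_2 lc_b_rc_9_2 lc_b_rc_25_0 lc_b_rc_9_2 lc_b_rc_8_2 lc_b_rc_10_2 lc_b_rc_9_2 lc_b_rc_8_2 lc_b_rc_9_2 lc_b_rc_8_0 lc_b_rc_6_1 lc_b_rc_6_1 lc_b_rc_10_0 lc_b_rc_8_2 lc_b_rc_9_0 lc_b_rc_6_1 lc_b_rc_26_1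 lc_b_rc_8_0 lc_b_rc_8_2 lc_b_rc_1_3 lc_b_rc_26_5 lc_b_rc_7_4 lc_b_rc_8_2 lc_b_rc_8_2 lc_b_rc_7_2 lc_b_rc_1_1 lc_b_rc_7_4 lc_b_rc_6_1 lc_b_rc_7_2 lc_b_rc_9_0 lc_b_rc_6_1 lc_b_rc_7_2 lc_b_rc_7_2 lc_b_rc_8_2 lc_b_rc_8_0 lc_b_rc_9_2 lc_b_rc_8_2 lc_b_rc_8_2 lc_b_rc_1_5 lc_b_rc_9_0 lc_b_rc_9_2 lc_b_rc_7_0 lc_b_rc_1_5 lc_b_rc_9_2 lc_b_rc_6_1 lc_b_rc_26_1 lc_b_rc_9_2 lc_b_rc_6_1) (@D3.rec (fun _ => (Cert rels S Gen.b)) lc_b_rc_9_2 lc_b_rc_8_2 lc_b_rc_26_5 lc_b_rc_8_2 lc_b_rc_26_1 lc_b_rc_6_1 lc_b_rc_26_7 lc_b_rc_26_5 lc_b_rc_8_0 lc_b_rc_26_7 lc_b_rc_6_1 lc_b_rc_8_2 lc_b_rc_6_1 lc_b_rc_1_3 lc_b_rc_10_2 lc_b_rc_6_1 lc_b_rc_8_2 lc_b_rc_26_5 lc_b_rc_6_1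 lc_b_rc_8_2 lc_b_rc_1_5 lc_b_rc_8_2 lc_b_rc_8_2 lc_b_rc_1_3 lc_b_rc_1_3 lc_b_rc_26_1 lc_b_rc_8_2 lc_b_rc_10_2 lc_b_rc_1_5 lc_b_rc_6_1 lc_b_rc_8_2 lc_b_rc_9_2 lc_b_rc_10_2 lc_b_rc_1_5 lc_b_rc_9_2 lc_b_rc_6_1 lc_b_rc_8_2 lc_b_rc_8_2 lc_b_rc_6_1 lc_b_rc_6_1 lc_b_rc_10_2 lc_b_rc_9_2 lc_b_rc_9_2 lc_b_rc_1_5 lc_b_rc_9_2 lc_b_rc_7_2 lc_b_rc_8_2 lc_b_rc_10_2 lc_b_rc_26_1 lc_b_rc_26_7 lc_b_rc_6_1 lc_b_rc_9_0 lc_b_rc_7_0 lc_b_rc_1_3 lc_b_rc_1_5 lc_b_rc_8_2 lc_b_rc_9_2 lc_b_rc_25_4 lc_b_rc_6_1 lc_b_rc_6_1 lc_b_rc_8_2 lc_b_rc_8_2) (@D3.rec (fun _ => (Cert rels S Gen.b)) lc_b_rc_25_4 lc_b_rc_26_1 lc_b_rc_7_4 lc_b_rc_8_2 lc_b_rc_6_1 lc_b_rc_26_1 lc_b_rc_10_0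 lc_b_rc_6_1 lc_b_rc_9_2 lc_b_rc_6_1 lc_b_rc_9_2 lc_b_rc_8_2 lc_b_rc_9_0 lc_b_rc_9_2 lc_b_Cert_tree lc_b_rc_6_1 lc_b_rc_26_5 lc_b_rc_8_2 lc_b_rc_10_0 lc_b_rc_6_1 lc_b_rc_1_3 lc_b_rc_8_2 lc_b_rc_10_2 lc_b_rc_8_2 lc_b_rc_6_1 lc_b_rc_1_1 lc_b_rc_9_2 lc_b_rc_8_2 lc_b_rc_9_2 lc_b_rc_26_5 lc_b_rc_6_1 lc_b_rc_9_0 lc_b_rc_10_2 lc_b_rc_8_0 lc_b_rc_1_1 lc_b_rc_9_2 lc_b_rc_8_2 lc_b_rc_10_2 lc_b_rc_6_1 lc_b_rc_10_2 lc_b_rc_8_0 lc_b_rc_9_2 lc_b_rc_8_2 lc_b_rc_7_2 lc_b_rc_8_2 lc_b_rc_8_2 lc_b_rc_10_2 lc_b_rc_6_1 lc_b_rc_25_8 lc_b_rc_26_5 lc_b_rc_9_2 lc_b_rc_9_2 lc_b_rc_9_2 lc_b_rc_9_2 lc_b_rc_8_0 lc_b_rc_10_2 lc_b_rc_8_2 lc_b_rc_9_2 lc_b_rc_6_1 lc_b_rc_8_0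 lc_b_rc_26_7 lc_b_rc_26_5) (@D3.rec (fun _ => (Cert rels S Gen.b)) lc_b_rc_10_2 lc_b_rc_8_2 lc_b_rc_8_2 lc_b_rc_9_2 lc_b_rc_10_2 lc_b_rc_7_0 lc_b_rc_1_1 lc_b_rc_6_1 lc_b_rc_6_1 lc_b_rc_9_2 lc_b_rc_6_1 lc_b_rc_8_2 lc_b_rc_9_2 lc_b_rc_26_5 lc_b_rc_6_1 lc_b_rc_1_3 lc_b_rc_26_5 lc_b_rc_7_0 lc_b_rc_6_1 lc_b_rc_9_2 lc_b_rc_1_1 lc_b_rc_6_1 lc_b_rc_7_2 lc_b_rc_8_2 lc_b_rc_26_5 lc_b_rc_1_1 lc_b_rc_1_3 lc_b_rc_6_1 lc_b_rc_8_2 lc_b_rc_6_1 lc_b_rc_8_2 lc_b_rc_8_2 lc_b_rc_6_1 lc_b_rc_25_16 lc_b_rc_10_2 lc_b_rc_8_0 lc_b_rc_25_16 lc_b_rc_6_1 lc_b_rc_7_0 lc_b_rc_7_0 lc_b_rc_8_2 lc_b_rc_6_1 lc_b_rc_7_0 lc_b_rc_8_2 lc_b_rc_8_2 lc_b_rc_8_2 lc_b_rc_8_2 lc_b_rc_9_2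 lc_b_rc_7_0 lc_b_rc_6_1 lc_b_rc_6_1 lc_b_rc_9_2 lc_b_rc_26_5 lc_b_rc_26_1 lc_b_rc_7_0 lc_b_rc_6_1 lc_b_rc_8_2 lc_b_rc_8_0 lc_b_rc_10_2 lc_b_rc_9_2 lc_b_rc_26_5 lc_b_rc_6_1) (@D3.rec (fun _ => (Cert rels S Gen.b)) lc_b_rc_26_1 lc_b_rc_26_5 lc_b_rc_8_2 lc_b_rc_26_1 lc_b_rc_6_1 lc_b_rc_9_2 lc_b_rc_6_1 lc_b_rc_8_2 lc_b_rc_10_2 lc_b_rc_7_4 lc_b_rc_7_0 lc_b_rc_6_1 lc_b_rc_9_2 lc_b_rc_8_2 lc_b_rc_7_0 lc_b_rc_7_2 lc_b_rc_10_2 lc_b_rc_9_2 lc_b_rc_6_1 lc_b_rc_8_2 lc_b_rc_6_1 lc_b_rc_7_0 lc_b_rc_8_0 lc_b_rc_7_0 lc_b_rc_10_2 lc_b_rc_9_2 lc_b_rc_1_5 lc_b_rc_25_16 lc_b_rc_9_2 lc_b_rc_8_2 lc_b_rc_1_1 lc_b_rc_8_2 lc_b_rc_9_2 lc_b_rc_9_0 lc_b_rc_6_1 lc_b_rc_7_2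 lc_b_rc_10_2 lc_b_rc_7_0 lc_b_rc_8_2 lc_b_rc_9_2 lc_b_rc_26_5 lc_b_rc_7_0 lc_b_rc_8_2 lc_b_rc_8_2 lc_b_rc_9_0 lc_b_rc_6_1 lc_b_rc_8_2 lc_b_rc_7_2 lc_b_rc_9_2 lc_b_rc_6_1 lc_b_rc_10_2 lc_b_rc_7_2 lc_b_rc_10_0 lc_b_rc_26_1 lc_b_rc_7_0 lc_b_rc_6_1 lc_b_rc_26_1 lc_b_rc_9_2 lc_b_rc_7_0 lc_b_rc_9_2 lc_b_rc_6_1 lc_b_rc_6_1) (@D3.rec (fun _ => (Cert rels S Gen.b)) lc_b_rc_8_2 lc_b_rc_8_2 lc_b_rc_8_0 lc_b_rc_26_5 lc_b_rc_8_0 lc_b_rc_10_2 lc_b_rc_6_1 lc_b_rc_6_1 lc_b_rc_8_0 lc_b_rc_8_2 lc_b_rc_1_3 lc_b_rc_8_2 lc_b_rc_26_5 lc_b_rc_8_2 lc_b_rc_6_1 lc_b_rc_8_2 lc_b_rc_7_0 lc_b_rc_6_1 lc_b_rc_10_2 lc_b_rc_9_0 lc_b_rc_25_0 lc_b_rc_26_1 lc_b_rc_6_1 lc_b_rc_1_5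 lc_b_rc_6_1 lc_b_rc_6_1 lc_b_rc_1_3 lc_b_rc_9_2 lc_b_rc_6_1 lc_b_rc_9_0 lc_b_rc_1_3 lc_b_rc_7_0 lc_b_rc_25_0 lc_b_rc_9_2 lc_b_rc_6_1 lc_b_rc_26_1 lc_b_rc_8_2 lc_b_rc_26_7 lc_b_rc_7_2 lc_b_rc_9_2 lc_b_rc_8_2 lc_b_rc_10_2 lc_b_rc_7_4 lc_b_rc_7_4 lc_b_rc_26_5 lc_b_rc_1_3 lc_b_rc_6_1 lc_b_rc_26_7 lc_b_rc_6_1 lc_b_rc_10_2 lc_b_rc_7_2 lc_b_rc_8_2 lc_b_rc_6_1 lc_b_rc_7_2 lc_b_rc_9_0 lc_b_rc_6_1 lc_b_rc_8_2 lc_b_rc_9_2 lc_b_rc_26_5 lc_b_rc_8_2 lc_b_rc_1_1 lc_b_rc_9_2) (@D3.rec (fun _ => (Cert rels S Gen.b)) lc_b_rc_26_5 lc_b_rc_9_2 lc_b_rc_8_2 lc_b_rc_7_0 lc_b_rc_9_2 lc_b_rc_6_1 lc_b_rc_9_2 lc_b_rc_8_2 lc_b_rc_26_7 lc_b_rc_8_2 lc_b_rc_26_1 lc_b_rc_6_1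 lc_b_rc_9_2 lc_b_rc_26_5 lc_b_rc_26_7 lc_b_rc_8_2 lc_b_rc_8_2 lc_b_rc_1_3 lc_b_rc_8_2 lc_b_rc_7_0 lc_b_rc_6_1 lc_b_rc_25_4 lc_b_rc_9_2 lc_b_rc_8_2 lc_b_rc_9_2 lc_b_rc_7_0 lc_b_rc_8_2 lc_b_rc_10_2 lc_b_rc_6_1 lc_b_rc_9_2 lc_b_rc_6_1 lc_b_rc_9_2 lc_b_rc_25_4 lc_b_rc_25_8 lc_b_rc_9_2 lc_b_rc_10_2 lc_b_rc_8_2 lc_b_rc_1_1 lc_b_rc_10_2 lc_b_rc_26_7 lc_b_rc_9_2 lc_b_rc_8_0 lc_b_rc_8_2 lc_b_rc_9_0 lc_b_rc_1_5 lc_b_rc_10_2 lc_b_rc_26_1 lc_b_rc_7_0 lc_b_rc_7_2 lc_b_rc_6_1 lc_b_rc_7_2 lc_b_rc_9_2 lc_b_rc_6_1 lc_b_rc_6_1 lc_b_rc_8_0 lc_b_rc_6_1 lc_b_rc_10_2 lc_b_rc_6_1 lc_b_rc_8_2 lc_b_rc_6_1 lc_b_rc_25_0 lc_b_rc_7_2) (@D3.rec (fun _ => (Cert rels S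 Gen.b)) lc_b_rc_9_2 lc_b_rc_8_0 lc_b_rc_9_2 lc_b_rc_6_1 lc_b_rc_7_0 lc_b_rc_6_1 lc_b_rc_26_1 lc_b_rc_9_0 lc_b_rc_1_3 lc_b_rc_7_4 lc_b_rc_26_7 lc_b_rc_7_4 lc_b_rc_6_1 lc_b_rc_1_3 lc_b_rc_10_0 lc_b_rc_7_0 lc_b_rc_6_1 lc_b_rc_6_1 lc_b_rc_7_4 lc_b_rc_6_1 lc_b_rc_7_0 lc_b_rc_8_2 lc_b_rc_10_2 lc_b_rc_25_4 lc_b_rc_25_4 lc_b_rc_26_7 lc_b_rc_26_7 lc_b_rc_1_5 lc_b_rc_9_0 lc_b_rc_8_2 lc_b_rc_26_1 lc_b_rc_26_1 lc_b_rc_7_4 lc_b_rc_6_1 lc_b_rc_9_2 lc_b_rc_9_2 lc_b_rc_10_2 lc_b_rc_6_1 lc_b_rc_6_1 lc_b_rc_8_2 lc_b_rc_1_1 lc_b_rc_26_5 lc_b_rc_8_2 lc_b_rc_6_1 lc_b_rc_7_2 lc_b_rc_10_2 lc_b_rc_6_1 lc_b_rc_7_4 lc_b_rc_6_1 lc_b_rc_6_1 lc_b_rc_6_1 lc_b_rc_9_2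 lc_b_rc_6_1 lc_b_rc_9_2 lc_b_rc_8_2 lc_b_rc_9_2 lc_b_rc_26_5 lc_b_rc_26_7 lc_b_rc_8_0 lc_b_rc_6_1 lc_b_rc_9_0 lc_b_rc_1_5) (@D3.rec (fun _ => (Cert rels S Gen.b)) lc_b_rc_9_0 lc_b_rc_6_1 lc_b_rc_9_2 lc_b_rc_8_0 lc_b_rc_26_5 lc_b_rc_7_0 lc_b_rc_7_4 lc_b_rc_6_1 lc_b_rc_9_2 lc_b_rc_26_5 lc_b_rc_7_4 lc_b_rc_7_4 lc_b_rc_6_1 lc_b_rc_9_2 lc_b_rc_9_2 lc_b_rc_25_4 lc_b_rc_6_1 lc_b_rc_6_1 lc_b_rc_7_0 lc_b_rc_9_2 lc_b_rc_6_1 lc_b_rc_9_2 lc_b_rc_10_2 lc_b_rc_9_2 lc_b_rc_6_1 lc_b_rc_26_5 lc_b_rc_25_0 lc_b_rc_9_2 lc_b_rc_26_5 lc_b_rc_6_1 lc_b_rc_26_1 lc_b_rc_8_2 lc_b_rc_8_2 lc_b_rc_6_1 lc_b_rc_26_5 lc_b_rc_6_1 lc_b_rc_9_0 lc_b_rc_8_0 lc_b_rc_8_2 lc_b_rc_26_1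 lc_b_rc_7_2 lc_b_rc_25_8 lc_b_rc_6_1 lc_b_rc_6_1 lc_b_rc_8_2 lc_b_rc_8_0 lc_b_rc_9_2 lc_b_rc_8_2 lc_b_rc_6_1 lc_b_rc_8_2 lc_b_rc_9_2 lc_b_rc_25_16 lc_b_rc_6_1 lc_b_rc_9_2 lc_b_rc_9_2 lc_b_rc_8_0 lc_b_rc_9_2 lc_b_rc_25_8 lc_b_rc_26_1 lc_b_rc_8_2 lc_b_rc_6_1 lc_b_rc_25_0) (@D3.rec (fun _ => (Cert rels S Gen.b)) lc_b_rc_8_2 lc_b_rc_7_2 lc_b_rc_10_2 lc_b_rc_8_0 lc_b_rc_8_2 lc_b_rc_26_7 lc_b_rc_10_2 lc_b_rc_10_2 lc_b_rc_6_1 lc_b_rc_7_2 lc_b_rc_10_0 lc_b_rc_8_2 lc_b_rc_9_2 lc_b_rc_26_1 lc_b_rc_9_2 lc_b_rc_8_2 lc_b_rc_8_2 lc_b_rc_9_0 lc_b_rc_9_0 lc_b_rc_9_0 lc_b_rc_25_16 lc_b_rc_26_1 lc_b_rc_6_1 lc_b_rc_25_4 lc_b_rc_7_0 lc_b_rc_8_2 lc_b_rc_26_1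 lc_b_rc_10_2 lc_b_rc_26_5 lc_b_rc_6_1 lc_b_rc_9_0 lc_b_rc_1_3 lc_b_rc_1_3 lc_b_rc_6_1 lc_b_rc_8_0 lc_b_rc_10_2 lc_b_rc_9_2 lc_b_rc_6_1 lc_b_rc_1_5 lc_b_rc_9_0 lc_b_rc_1_1 lc_b_rc_9_2 lc_b_rc_9_0 lc_b_rc_26_5 lc_b_rc_9_0 lc_b_rc_9_0 lc_b_rc_1_3 lc_b_rc_7_2 lc_b_rc_9_2 lc_b_rc_6_1 lc_b_rc_7_0 lc_b_rc_7_0 lc_b_rc_8_0 lc_b_rc_9_2 lc_b_rc_26_5 lc_b_rc_10_2 lc_b_rc_25_4 lc_b_rc_6_1 lc_b_rc_8_2 lc_b_rc_26_1 lc_b_rc_26_1 lc_b_rc_6_1) (@D3.rec (fun _ => (Cert rels S Gen.b)) lc_b_rc_7_4 lc_b_rc_26_5 lc_b_rc_8_2 lc_b_rc_9_0 lc_b_rc_25_0 lc_b_rc_7_4 lc_b_rc_1_1 lc_b_rc_9_2 lc_b_rc_8_0 lc_b_rc_10_2 lc_b_rc_8_2 lc_b_rc_26_5 lc_b_rc_1_3 lc_b_rc_6_1 lc_b_rc_8_2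 lc_b_rc_9_2 lc_b_rc_7_2 lc_b_rc_7_4 lc_b_rc_25_4 lc_b_rc_8_2 lc_b_rc_8_0 lc_b_rc_7_4 lc_b_rc_10_2 lc_b_rc_9_0 lc_b_rc_6_1 lc_b_rc_7_0 lc_b_rc_1_1 lc_b_rc_9_2 lc_b_rc_6_1 lc_b_rc_9_2 lc_b_rc_1_3 lc_b_rc_26_1 lc_b_rc_1_3 lc_b_rc_8_2 lc_b_rc_10_0 lc_b_rc_9_2 lc_b_rc_9_0 lc_b_rc_26_5 lc_b_rc_7_4 lc_b_rc_8_0 lc_b_rc_6_1 lc_b_rc_9_2 lc_b_rc_8_2 lc_b_rc_1_3 lc_b_rc_9_2 lc_b_rc_9_2 lc_b_rc_1_3 lc_b_rc_7_2 lc_b_rc_8_2 lc_b_rc_9_2 lc_b_rc_26_1 lc_b_rc_6_1 lc_b_rc_9_2 lc_b_rc_9_0 lc_b_rc_8_2 lc_b_rc_26_5 lc_b_rc_25_12 lc_b_rc_8_2 lc_b_rc_8_2 lc_b_rc_9_2 lc_b_rc_6_1 lc_b_rc_8_2) (@D3.rec (fun _ => (Cert rels S Gen.b)) lc_b_rc_26_1 lc_b_rc_26_5 lc_b_rc_25_16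 lc_b_rc_6_1 lc_b_rc_1_5 lc_b_rc_10_2 lc_b_rc_7_0 lc_b_rc_26_5 lc_b_rc_8_2 lc_b_rc_26_1 lc_b_rc_8_2 lc_b_rc_6_1 lc_b_rc_8_2 lc_b_rc_9_2 lc_b_rc_26_1 lc_b_rc_8_0 lc_b_rc_8_0 lc_b_rc_25_16 lc_b_rc_26_1 lc_b_rc_6_1 lc_b_rc_26_1 lc_b_rc_6_1 lc_b_rc_6_1 lc_b_rc_9_2 lc_b_rc_26_5 lc_b_rc_8_2 lc_b_rc_6_1 lc_b_rc_26_1 lc_b_rc_7_2 lc_b_rc_8_2 lc_b_rc_10_2 lc_b_rc_9_2 lc_b_rc_26_1 lc_b_rc_9_2 lc_b_rc_9_2 lc_b_rc_1_5 lc_b_rc_9_0 lc_b_rc_1_3 lc_b_rc_9_2 lc_b_rc_6_1 lc_b_rc_10_2 lc_b_rc_10_0 lc_b_rc_10_0 lc_b_rc_9_2 lc_b_rc_8_2 lc_b_rc_8_2 lc_b_rc_9_2 lc_b_rc_10_0 lc_b_rc_6_1 lc_b_rc_7_0 lc_b_rc_8_0 lc_b_rc_9_2 lc_b_rc_6_1 lc_b_rc_26_5 lc_b_rc_9_2 lc_b_rc_6_1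 lc_b_rc_6_1 lc_b_rc_25_4 lc_b_rc_6_1 lc_b_rc_26_1 lc_b_rc_26_5 lc_b_rc_8_0)
def ce_b_32 : D2 → D3 → (Cert rels S Gen.b) := @D2.rec (fun _ => D3 → (Cert rels S Gen.b)) (@D3.rec (fun _ => (Cert rels S Gen.b)) lc_b_rc_6_1 lc_b_rc_10_2 lc_b_rc_26_1 lc_b_rc_6_1 lc_b_rc_8_2 lc_b_rc_7_2 lc_b_rc_6_1 lc_b_rc_10_2 lc_b_rc_9_2 lc_b_rc_9_0 lc_b_rc_8_2 lc_b_rc_10_2 lc_b_rc_9_2 lc_b_rc_26_7 lc_b_rc_9_2 lc_b_rc_10_0 lc_b_rc_26_5 lc_b_rc_8_2 lc_b_rc_26_1 lc_b_rc_9_2 lc_b_rc_8_2 lc_b_rc_8_2 lc_b_rc_8_0 lc_b_rc_25_4 lc_b_rc_10_2 lc_b_rc_6_1 lc_b_rc_9_2 lc_b_rc_7_0 lc_b_rc_8_2 lc_b_rc_26_1 lc_b_rc_25_4 lc_b_rc_9_2 lc_b_rc_8_2 lc_b_rc_8_0 lc_b_rc_7_4 lc_b_rc_7_4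 lc_b_rc_7_0 lc_b_rc_7_4 lc_b_rc_6_1 lc_b_rc_9_2 lc_b_rc_8_2 lc_b_rc_9_0 lc_b_rc_9_2 lc_b_rc_9_2 lc_b_rc_9_2 lc_b_rc_6_1 lc_b_rc_9_2 lc_b_rc_6_1 lc_b_rc_6_1 lc_b_rc_6_1 lc_b_Cert_tree lc_b_rc_8_0 lc_b_rc_8_2 lc_b_rc_9_2 lc_b_rc_8_2 lc_b_Cert_tree lc_b_rc_26_5 lc_b_rc_9_2 lc_b_rc_6_1 lc_b_rc_9_2 lc_b_rc_9_2 lc_b_rc_8_2) (@D3.rec (fun _ => (Cert rels S Gen.b)) lc_b_rc_9_2 lc_b_rc_6_1 lc_b_rc_9_2 lc_b_rc_9_2 lc_b_rc_9_2 lc_b_rc_7_0 lc_b_rc_8_2 lc_b_rc_10_2 lc_b_rc_8_2 lc_b_rc_25_4 lc_b_rc_8_2 lc_b_rc_8_0 lc_b_rc_9_2 lc_b_rc_26_7 lc_b_rc_8_2 lc_b_Cert_tree lc_b_rc_6_1 lc_b_rc_6_1 lc_b_rc_8_2 lc_b_rc_26_5 lc_b_rc_8_2 lc_b_rc_26_5 lc_b_rc_9_2 lc_b_rc_8_2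 lc_b_rc_1_1 lc_b_rc_7_0 lc_b_rc_6_1 lc_b_rc_6_1 lc_b_rc_6_1 lc_b_rc_8_2 lc_b_rc_8_2 lc_b_rc_8_0 lc_b_rc_7_4 lc_b_rc_8_2 lc_b_rc_10_2 lc_b_rc_9_2 lc_b_rc_8_2 lc_b_rc_6_1 lc_b_rc_9_2 lc_b_rc_9_2 lc_b_rc_10_2 lc_b_rc_9_0 lc_b_rc_6_1 lc_b_rc_7_2 lc_b_rc_26_5 lc_b_rc_6_1 lc_b_rc_6_1 lc_b_rc_1_3 lc_b_rc_8_0 lc_b_rc_7_4 lc_b_rc_6_1 lc_b_rc_9_2 lc_b_rc_6_1 lc_b_rc_26_5 lc_b_rc_1_1 lc_b_rc_9_2 lc_b_rc_25_0 lc_b_rc_6_1 lc_b_rc_1_5 lc_b_rc_9_2 lc_b_rc_9_2 lc_b_rc_8_2) (@D3.rec (fun _ => (Cert rels S Gen.b)) lc_b_rc_7_0 lc_b_rc_1_3 lc_b_rc_6_1 lc_b_rc_9_2 lc_b_rc_9_2 lc_b_rc_6_1 lc_b_rc_26_5 lc_b_rc_6_1 lc_b_rc_9_0 lc_b_rc_1_5 lc_b_rc_26_5 lc_b_rc_6_1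 lc_b_rc_25_0 lc_b_rc_9_2 lc_b_rc_8_2 lc_b_rc_7_4 lc_b_rc_7_4 lc_b_rc_6_1 lc_b_rc_7_4 lc_b_rc_8_2 lc_b_rc_8_0 lc_b_rc_9_2 lc_b_rc_9_0 lc_b_rc_9_0 lc_b_rc_10_2 lc_b_rc_6_1 lc_b_rc_6_1 lc_b_rc_6_1 lc_b_rc_7_4 lc_b_rc_26_5 lc_b_rc_9_2 lc_b_rc_6_1 lc_b_rc_6_1 lc_b_rc_6_1 lc_b_rc_26_1 lc_b_Cert_tree lc_b_rc_6_1 lc_b_rc_1_3 lc_b_rc_9_2 lc_b_rc_26_1 lc_b_rc_9_2 lc_b_rc_26_5 lc_b_rc_26_7 lc_b_rc_6_1 lc_b_rc_26_1 lc_b_rc_26_1 lc_b_rc_7_2 lc_b_rc_6_1 lc_b_rc_8_0 lc_b_rc_9_2 lc_b_rc_7_0 lc_b_rc_7_2 lc_b_rc_26_5 lc_b_rc_6_1 lc_b_rc_8_2 lc_b_rc_6_1 lc_b_rc_8_2 lc_b_rc_7_2 lc_b_rc_7_4 lc_b_rc_9_2 lc_b_rc_7_4 lc_b_rc_7_0) (@D3.rec (fun _ => (Cert rels S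 Gen.b)) lc_b_rc_6_1 lc_b_rc_26_7 lc_b_rc_26_5 lc_b_rc_26_1 lc_b_rc_7_0 lc_b_rc_10_0 lc_b_rc_6_1 lc_b_rc_8_2 lc_b_rc_9_2 lc_b_rc_9_0 lc_b_rc_7_2 lc_b_rc_10_0 lc_b_rc_8_0 lc_b_rc_9_2 lc_b_rc_10_0 lc_b_rc_9_0 lc_b_rc_8_2 lc_b_rc_10_2 lc_b_rc_8_2 lc_b_rc_8_2 lc_b_rc_6_1 lc_b_rc_8_2 lc_b_rc_7_4 lc_b_rc_6_1 lc_b_rc_8_2 lc_b_rc_1_3 lc_b_rc_25_4 lc_b_rc_8_0 lc_b_rc_6_1 lc_b_rc_1_5 lc_b_rc_7_4 lc_b_rc_1_5 lc_b_rc_9_2 lc_b_rc_6_1 lc_b_rc_7_0 lc_b_rc_7_0 lc_b_rc_9_0 lc_b_rc_7_0 lc_b_rc_7_4 lc_b_rc_10_2 lc_b_rc_9_2 lc_b_rc_7_0 lc_b_rc_9_2 lc_b_rc_7_0 lc_b_rc_7_2 lc_b_rc_9_2 lc_b_rc_6_1 lc_b_rc_9_0 lc_b_rc_26_5 lc_b_rc_7_0 lc_b_rc_1_3 lc_b_rc_1_3 lc_b_rc_8_2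 lc_b_rc_6_1 lc_b_rc_1_5 lc_b_rc_25_4 lc_b_rc_25_4 lc_b_rc_26_1 lc_b_rc_8_2 lc_b_rc_9_2 lc_b_rc_26_1 lc_b_rc_8_2) (@D3.rec (fun _ => (Cert rels S Gen.b)) lc_b_rc_9_2 lc_b_rc_7_0 lc_b_rc_9_0 lc_b_rc_26_1 lc_b_rc_26_1 lc_b_rc_7_2 lc_b_rc_8_0 lc_b_rc_26_5 lc_b_rc_26_1 lc_b_rc_25_8 lc_b_rc_26_1 lc_b_rc_6_1 lc_b_rc_26_5 lc_b_rc_26_1 lc_b_rc_8_0 lc_b_rc_8_2 lc_b_rc_6_1 lc_b_rc_26_1 lc_b_rc_9_2 lc_b_rc_8_2 lc_b_rc_9_2 lc_b_rc_8_2 lc_b_rc_9_2 lc_b_rc_8_2 lc_b_rc_26_1 lc_b_rc_8_0 lc_b_rc_10_2 lc_b_rc_8_2 lc_b_rc_6_1 lc_b_rc_7_0 lc_b_rc_9_2 lc_b_rc_1_1 lc_b_rc_9_2 lc_b_rc_8_2 lc_b_rc_1_3 lc_b_rc_8_2 lc_b_rc_9_2 lc_b_rc_9_2 lc_b_rc_8_2 lc_b_rc_1_3 lc_b_rc_8_2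 lc_b_rc_26_1 lc_b_rc_8_2 lc_b_rc_9_2 lc_b_rc_10_2 lc_b_rc_6_1 lc_b_rc_26_7 lc_b_rc_8_2 lc_b_rc_6_1 lc_b_rc_8_0 lc_b_rc_7_2 lc_b_rc_6_1 lc_b_rc_6_1 lc_b_rc_8_2 lc_b_rc_1_5 lc_b_rc_1_5 lc_b_rc_10_2 lc_b_rc_1_5 lc_b_rc_6_1 lc_b_rc_8_2 lc_b_rc_6_1 lc_b_rc_1_5) (@D3.rec (fun _ => (Cert rels S Gen.b)) lc_b_rc_1_3 lc_b_rc_9_2 lc_b_rc_9_2 lc_b_rc_9_2 lc_b_rc_8_2 lc_b_rc_26_7 lc_b_rc_26_7 lc_b_rc_9_2 lc_b_rc_1_1 lc_b_rc_8_2 lc_b_rc_9_2 lc_b_rc_8_0 lc_b_rc_7_2 lc_b_rc_9_2 lc_b_rc_9_0 lc_b_rc_10_0 lc_b_rc_26_5 lc_b_rc_1_1 lc_b_rc_8_2 lc_b_rc_9_2 lc_b_rc_8_2 lc_b_rc_9_2 lc_b_rc_8_2 lc_b_rc_6_1 lc_b_rc_8_2 lc_b_rc_6_1 lc_b_rc_6_1 lc_b_rc_9_2 lc_b_rc_8_2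 lc_b_rc_25_0 lc_b_rc_1_1 lc_b_rc_6_1 lc_b_rc_26_1 lc_b_rc_6_1 lc_b_rc_8_0 lc_b_rc_7_4 lc_b_rc_8_0 lc_b_rc_10_2 lc_b_rc_6_1 lc_b_rc_8_2 lc_b_rc_26_1 lc_b_rc_26_7 lc_b_rc_9_2 lc_b_rc_6_1 lc_b_rc_6_1 lc_b_rc_9_0 lc_b_rc_25_16 lc_b_rc_8_2 lc_b_rc_26_5 lc_b_rc_8_0 lc_b_rc_6_1 lc_b_rc_25_0 lc_b_rc_6_1 lc_b_rc_6_1 lc_b_rc_9_2 lc_b_rc_6_1 lc_b_rc_1_5 lc_b_rc_1_5 lc_b_rc_8_0 lc_b_rc_9_2 lc_b_rc_8_2 lc_b_rc_26_1) (@D3.rec (fun _ => (Cert rels S Gen.b)) lc_b_rc_25_4 lc_b_rc_1_3 lc_b_rc_9_2 lc_b_rc_9_2 lc_b_rc_1_1 lc_b_rc_26_7 lc_b_rc_26_5 lc_b_rc_7_0 lc_b_rc_1_5 lc_b_rc_9_2 lc_b_rc_9_2 lc_b_rc_26_7 lc_b_rc_26_1 lc_b_rc_7_0 lc_b_rc_8_2 lc_b_rc_6_1 lc_b_rc_9_2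 lc_b_rc_9_2 lc_b_rc_6_1 lc_b_rc_7_4 lc_b_rc_9_2 lc_b_rc_7_4 lc_b_rc_6_1 lc_b_rc_7_2 lc_b_rc_8_0 lc_b_rc_8_2 lc_b_rc_6_1 lc_b_rc_6_1 lc_b_rc_1_3 lc_b_rc_8_2 lc_b_rc_10_2 lc_b_rc_6_1 lc_b_rc_7_0 lc_b_rc_26_5 lc_b_rc_26_7 lc_b_rc_8_2 lc_b_rc_9_2 lc_b_rc_9_2 lc_b_rc_7_0 lc_b_rc_8_0 lc_b_rc_6_1 lc_b_rc_7_4 lc_b_rc_25_4 lc_b_rc_9_2 lc_b_rc_1_1 lc_b_rc_7_2 lc_b_rc_6_1 lc_b_rc_25_8 lc_b_rc_10_2 lc_b_rc_8_2 lc_b_rc_6_1 lc_b_rc_7_0 lc_b_rc_26_5 lc_b_rc_8_2 lc_b_rc_6_1 lc_b_rc_6_1 lc_b_rc_8_0 lc_b_rc_7_0 lc_b_rc_9_2 lc_b_rc_10_2 lc_b_rc_26_7 lc_b_rc_6_1) (@D3.rec (fun _ => (Cert rels S Gen.b)) lc_b_rc_8_2 lc_b_rc_8_2 lc_b_rc_26_1 lc_b_rc_9_2 lc_b_rc_26_5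 lc_b_rc_6_1 lc_b_rc_7_2 lc_b_rc_8_2 lc_b_rc_6_1 lc_b_rc_7_2 lc_b_rc_8_2 lc_b_rc_8_2 lc_b_rc_9_0 lc_b_rc_8_2 lc_b_rc_6_1 lc_b_rc_26_1 lc_b_rc_9_2 lc_b_rc_7_0 lc_b_rc_9_0 lc_b_rc_9_0 lc_b_rc_1_1 lc_b_rc_9_2 lc_b_rc_9_2 lc_b_rc_26_5 lc_b_rc_9_2 lc_b_rc_26_1 lc_b_rc_6_1 lc_b_rc_26_5 lc_b_rc_8_2 lc_b_rc_7_2 lc_b_rc_6_1 lc_b_rc_26_5 lc_b_rc_7_4 lc_b_rc_9_2 lc_b_rc_26_5 lc_b_rc_1_5 lc_b_rc_6_1 lc_b_rc_9_2 lc_b_rc_9_2 lc_b_rc_8_2 lc_b_rc_6_1 lc_b_rc_6_1 lc_b_rc_25_4 lc_b_rc_9_0 lc_b_rc_25_8 lc_b_rc_6_1 lc_b_rc_6_1 lc_b_rc_6_1 lc_b_rc_8_2 lc_b_rc_10_2 lc_b_rc_6_1 lc_b_rc_8_2 lc_b_rc_8_2 lc_b_rc_1_3 lc_b_rc_8_0 lc_b_rc_6_1 lc_b_rc_9_2 lc_b_rc_9_2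 lc_b_rc_9_2 lc_b_rc_26_5 lc_b_rc_6_1 lc_b_rc_6_1) (@D3.rec (fun _ => (Cert rels S Gen.b)) lc_b_rc_26_1 lc_b_rc_26_7 lc_b_rc_6_1 lc_b_rc_7_2 lc_b_rc_9_2 lc_b_rc_6_1 lc_b_rc_9_2 lc_b_rc_8_0 lc_b_rc_8_2 lc_b_rc_6_1 lc_b_rc_8_2 lc_b_rc_9_2 lc_b_rc_6_1 lc_b_rc_6_1 lc_b_rc_9_0 lc_b_rc_8_2 lc_b_rc_26_5 lc_b_rc_8_2 lc_b_rc_9_2 lc_b_rc_7_2 lc_b_rc_8_2 lc_b_rc_10_2 lc_b_rc_8_2 lc_b_rc_7_2 lc_b_rc_6_1 lc_b_rc_26_5 lc_b_rc_1_1 lc_b_rc_6_1 lc_b_rc_9_2 lc_b_rc_1_3 lc_b_rc_8_2 lc_b_rc_6_1 lc_b_rc_9_2 lc_b_rc_8_2 lc_b_rc_25_4 lc_b_rc_9_2 lc_b_rc_8_2 lc_b_rc_26_7 lc_b_rc_26_1 lc_b_rc_10_0 lc_b_rc_26_7 lc_b_rc_1_5 lc_b_rc_6_1 lc_b_rc_9_2 lc_b_rc_9_2 lc_b_rc_6_1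 lc_b_rc_1_3 lc_b_rc_9_2 lc_b_rc_9_0 lc_b_rc_9_0 lc_b_rc_26_1 lc_b_rc_8_2 lc_b_rc_26_1 lc_b_rc_25_4 lc_b_rc_10_2 lc_b_rc_8_2 lc_b_rc_8_2 lc_b_rc_9_2 lc_b_rc_7_4 lc_b_rc_9_2 lc_b_rc_7_4 lc_b_rc_9_2) (@D3.rec (fun _ => (Cert rels S Gen.b)) lc_b_rc_9_2 lc_b_rc_7_2 lc_b_rc_7_4 lc_b_rc_25_16 lc_b_rc_8_2 lc_b_rc_6_1 lc_b_rc_8_2 lc_b_rc_8_2 lc_b_rc_8_2 lc_b_rc_1_3 lc_b_rc_6_1 lc_b_rc_8_2 lc_b_rc_8_2 lc_b_rc_9_2 lc_b_rc_26_1 lc_b_rc_26_5 lc_b_rc_8_2 lc_b_rc_7_4 lc_b_rc_9_2 lc_b_rc_9_2 lc_b_rc_26_1 lc_b_rc_8_0 lc_b_rc_6_1 lc_b_rc_6_1 lc_b_rc_25_4 lc_b_rc_6_1 lc_b_rc_25_0 lc_b_rc_10_2 lc_b_rc_26_5 lc_b_rc_25_4 lc_b_rc_8_2 lc_b_rc_8_2 lc_b_rc_7_0 lc_b_rc_1_1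 lc_b_rc_10_2 lc_b_rc_1_5 lc_b_rc_26_1 lc_b_rc_10_2 lc_b_rc_26_5 lc_b_rc_8_2 lc_b_rc_9_2 lc_b_rc_6_1 lc_b_rc_1_1 lc_b_rc_7_2 lc_b_rc_9_0 lc_b_rc_7_2 lc_b_rc_7_2 lc_b_rc_6_1 lc_b_rc_1_1 lc_b_rc_9_0 lc_b_rc_7_2 lc_b_rc_8_2 lc_b_rc_6_1 lc_b_rc_26_5 lc_b_rc_7_0 lc_b_rc_8_0 lc_b_rc_26_1 lc_b_rc_6_1 lc_b_rc_9_2 lc_b_rc_25_4 lc_b_rc_6_1 lc_b_rc_1_1) (@D3.rec (fun _ => (Cert rels S Gen.b)) lc_b_rc_7_4 lc_b_rc_9_2 lc_b_rc_8_2 lc_b_rc_1_3 lc_b_rc_6_1 lc_b_rc_7_2 lc_b_rc_6_1 lc_b_rc_25_8 lc_b_rc_9_0 lc_b_rc_8_0 lc_b_rc_8_2 lc_b_rc_26_1 lc_b_rc_8_2 lc_b_rc_9_2 lc_b_rc_6_1 lc_b_rc_26_7 lc_b_rc_26_7 lc_b_rc_26_5 lc_b_rc_7_4 lc_b_rc_1_1 lc_b_rc_8_2 lc_b_rc_8_2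 lc_b_rc_1_1 lc_b_rc_6_1 lc_b_rc_9_2 lc_b_rc_6_1 lc_b_rc_8_2 lc_b_rc_6_1 lc_b_rc_8_2 lc_b_rc_26_5 lc_b_rc_9_2 lc_b_rc_9_0 lc_b_rc_9_0 lc_b_rc_7_4 lc_b_rc_6_1 lc_b_rc_7_4 lc_b_rc_6_1 lc_b_rc_6_1 lc_b_rc_8_2 lc_b_rc_6_1 lc_b_rc_6_1 lc_b_rc_6_1 lc_b_rc_7_2 lc_b_rc_8_2 lc_b_rc_8_2 lc_b_rc_10_2 lc_b_rc_6_1 lc_b_rc_8_2 lc_b_rc_6_1 lc_b_rc_6_1 lc_b_rc_8_2 lc_b_rc_26_1 lc_b_rc_7_0 lc_b_rc_9_0 lc_b_rc_8_2 lc_b_rc_25_0 lc_b_rc_7_0 lc_b_rc_9_2 lc_b_rc_8_0 lc_b_rc_8_2 lc_b_rc_10_2 lc_b_rc_9_2) (@D3.rec (fun _ => (Cert rels S Gen.b)) lc_b_rc_8_2 lc_b_rc_26_7 lc_b_rc_8_2 lc_b_rc_9_2 lc_b_rc_7_0 lc_b_rc_9_2 lc_b_rc_9_0 lc_b_rc_6_1 lc_b_rc_9_0 lc_b_rc_6_1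 lc_b_rc_8_2 lc_b_rc_26_5 lc_b_rc_8_2 lc_b_rc_6_1 lc_b_rc_26_5 lc_b_rc_6_1 lc_b_rc_8_2 lc_b_rc_10_0 lc_b_rc_9_2 lc_b_rc_6_1 lc_b_rc_8_2 lc_b_rc_9_2 lc_b_rc_1_3 lc_b_rc_25_0 lc_b_rc_6_1 lc_b_rc_6_1 lc_b_rc_7_0 lc_b_rc_10_2 lc_b_rc_8_2 lc_b_rc_25_4 lc_b_rc_26_7 lc_b_rc_8_2 lc_b_rc_8_2 lc_b_rc_8_2 lc_b_rc_8_2 lc_b_rc_6_1 lc_b_rc_9_2 lc_b_rc_9_2 lc_b_rc_25_4 lc_b_rc_26_1 lc_b_rc_9_2 lc_b_rc_8_0 lc_b_rc_26_7 lc_b_rc_8_0 lc_b_rc_7_0 lc_b_rc_6_1 lc_b_rc_6_1 lc_b_rc_8_0 lc_b_rc_1_1 lc_b_rc_26_7 lc_b_rc_6_1 lc_b_rc_25_12 lc_b_rc_26_1 lc_b_rc_9_2 lc_b_rc_25_16 lc_b_rc_9_2 lc_b_rc_6_1 lc_b_rc_7_4 lc_b_rc_9_2 lc_b_rc_8_0 lc_b_rc_6_1 lc_b_rc_9_2) (@D3.rec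 (fun _ => (Cert rels S Gen.b)) lc_b_rc_8_2 lc_b_rc_25_4 lc_b_rc_7_4 lc_b_rc_25_0 lc_b_rc_8_2 lc_b_rc_25_16 lc_b_rc_6_1 lc_b_rc_9_0 lc_b_rc_10_2 lc_b_Cert_tree lc_b_rc_6_1 lc_b_rc_9_0 lc_b_rc_26_5 lc_b_rc_25_16 lc_b_rc_1_1 lc_b_rc_8_2 lc_b_rc_8_2 lc_b_rc_1_5 lc_b_Cert_tree lc_b_rc_6_1 lc_b_rc_8_2 lc_b_rc_9_2 lc_b_rc_9_2 lc_b_rc_26_5 lc_b_rc_6_1 lc_b_rc_9_0 lc_b_rc_6_1 lc_b_rc_10_2 lc_b_rc_6_1 lc_b_rc_6_1 lc_b_rc_1_1 lc_b_rc_10_2 lc_b_rc_7_4 lc_b_rc_6_1 lc_b_rc_9_0 lc_b_rc_25_8 lc_b_rc_1_3 lc_b_rc_8_2 lc_b_rc_9_0 lc_b_rc_7_0 lc_b_rc_6_1 lc_b_rc_8_2 lc_b_rc_6_1 lc_b_rc_1_3 lc_b_rc_9_2 lc_b_rc_6_1 lc_b_rc_26_5 lc_b_rc_6_1 lc_b_rc_26_5 lc_b_rc_8_0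 lc_b_rc_8_2 lc_b_rc_26_5 lc_b_rc_8_2 lc_b_rc_1_3 lc_b_rc_6_1 lc_b_rc_7_2 lc_b_rc_7_0 lc_b_rc_8_2 lc_b_rc_26_5 lc_b_rc_6_1 lc_b_rc_9_2 lc_b_rc_6_1) (@D3.rec (fun _ => (Cert rels S Gen.b)) lc_b_rc_9_2 lc_b_rc_6_1 lc_b_rc_1_5 lc_b_rc_9_2 lc_b_rc_9_2 lc_b_rc_8_2 lc_b_rc_9_2 lc_b_rc_26_1 lc_b_rc_9_2 lc_b_rc_10_2 lc_b_rc_1_5 lc_b_rc_6_1 lc_b_rc_10_2 lc_b_rc_8_2 lc_b_rc_7_0 lc_b_rc_9_2 lc_b_rc_7_0 lc_b_rc_10_2 lc_b_rc_9_0 lc_b_rc_7_0 lc_b_rc_26_5 lc_b_rc_8_0 lc_b_rc_9_0 lc_b_rc_6_1 lc_b_rc_9_2 lc_b_rc_9_2 lc_b_rc_6_1 lc_b_rc_25_4 lc_b_rc_8_2 lc_b_rc_8_2 lc_b_rc_8_2 lc_b_rc_8_2 lc_b_rc_8_2 lc_b_rc_8_0 lc_b_rc_7_4 lc_b_rc_6_1 lc_b_rc_26_7 lc_b_rc_26_5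 lc_b_rc_9_2 lc_b_rc_26_1 lc_b_rc_26_7 lc_b_rc_7_4 lc_b_rc_6_1 lc_b_rc_6_1 lc_b_rc_9_2 lc_b_rc_7_0 lc_b_rc_9_0 lc_b_rc_25_4 lc_b_rc_6_1 lc_b_rc_10_2 lc_b_rc_9_2 lc_b_rc_7_0 lc_b_rc_7_0 lc_b_rc_6_1 lc_b_rc_26_5 lc_b_rc_8_2 lc_b_rc_8_2 lc_b_rc_9_2 lc_b_rc_9_2 lc_b_rc_9_2 lc_b_rc_9_2 lc_b_rc_6_1) (@D3.rec (fun _ => (Cert rels S Gen.b)) lc_b_rc_8_2 lc_b_rc_6_1 lc_b_Cert_tree lc_b_rc_8_0 lc_b_rc_7_2 lc_b_rc_9_2 lc_b_rc_6_1 lc_b_rc_10_2 lc_b_rc_9_2 lc_b_rc_8_2 lc_b_rc_7_0 lc_b_rc_9_0 lc_b_rc_26_5 lc_b_rc_1_3 lc_b_rc_25_4 lc_b_rc_8_2 lc_b_rc_8_2 lc_b_rc_7_4 lc_b_rc_25_16 lc_b_rc_26_5 lc_b_rc_26_7 lc_b_rc_6_1 lc_b_rc_9_0 lc_b_rc_8_2 lc_b_rc_6_1 lc_b_rc_26_5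 lc_b_rc_9_0 lc_b_rc_10_2 lc_b_rc_26_5 lc_b_rc_6_1 lc_b_rc_8_0 lc_b_rc_8_2 lc_b_rc_8_0 lc_b_rc_7_0 lc_b_rc_8_2 lc_b_rc_7_4 lc_b_rc_7_2 lc_b_rc_9_2 lc_b_rc_10_2 lc_b_rc_8_2 lc_b_rc_25_8 lc_b_rc_8_2 lc_b_rc_10_2 lc_b_rc_6_1 lc_b_rc_7_2 lc_b_rc_9_2 lc_b_rc_9_2 lc_b_rc_8_2 lc_b_rc_6_1 lc_b_rc_10_2 lc_b_rc_6_1 lc_b_rc_9_2 lc_b_rc_26_5 lc_b_rc_26_1 lc_b_rc_25_12 lc_b_rc_8_2 lc_b_rc_1_5 lc_b_rc_1_3 lc_b_rc_8_2 lc_b_rc_26_7 lc_b_rc_6_1 lc_b_rc_6_1) (@D3.rec (fun _ => (Cert rels S Gen.b)) lc_b_rc_26_5 lc_b_rc_8_2 lc_b_rc_6_1 lc_b_rc_9_0 lc_b_rc_8_0 lc_b_rc_25_0 lc_b_rc_1_3 lc_b_rc_8_2 lc_b_rc_1_3 lc_b_rc_6_1 lc_b_rc_6_1 lc_b_rc_7_4 lc_b_rc_9_2 lc_b_rc_8_0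 lc_b_rc_10_2 lc_b_rc_6_1 lc_b_rc_6_1 lc_b_rc_25_4 lc_b_rc_6_1 lc_b_rc_1_1 lc_b_rc_26_1 lc_b_rc_8_2 lc_b_rc_6_1 lc_b_rc_10_2 lc_b_rc_8_2 lc_b_rc_6_1 lc_b_rc_9_2 lc_b_rc_9_0 lc_b_rc_10_2 lc_b_rc_26_1 lc_b_rc_9_2 lc_b_rc_26_5 lc_b_rc_6_1 lc_b_rc_8_0 lc_b_rc_26_1 lc_b_rc_26_7 lc_b_rc_7_2 lc_b_rc_9_2 lc_b_rc_9_0 lc_b_rc_10_2 lc_b_rc_26_1 lc_b_rc_6_1 lc_b_rc_26_5 lc_b_rc_8_2 lc_b_rc_6_1 lc_b_rc_7_2 lc_b_rc_8_2 lc_b_rc_8_2 lc_b_rc_8_2 lc_b_rc_8_2 lc_b_rc_7_4 lc_b_rc_9_2 lc_b_rc_7_4 lc_b_rc_25_0 lc_b_rc_8_2 lc_b_rc_8_0 lc_b_rc_7_2 lc_b_rc_8_2 lc_b_rc_6_1 lc_b_rc_9_2 lc_b_rc_7_2 lc_b_rc_9_2) (@D3.rec (fun _ => (Cert rels S Gen.b)) lc_b_rc_9_2 lc_b_rc_9_2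 lc_b_rc_9_2 lc_b_rc_7_2 lc_b_rc_10_2 lc_b_rc_8_2 lc_b_rc_9_2 lc_b_rc_8_2 lc_b_rc_26_7 lc_b_rc_6_1 lc_b_rc_9_2 lc_b_rc_26_1 lc_b_rc_25_8 lc_b_rc_8_2 lc_b_rc_1_5 lc_b_rc_8_0 lc_b_rc_8_2 lc_b_rc_6_1 lc_b_rc_8_2 lc_b_rc_8_2 lc_b_rc_8_2 lc_b_rc_9_2 lc_b_rc_6_1 lc_b_rc_9_2 lc_b_rc_9_2 lc_b_rc_8_0 lc_b_rc_6_1 lc_b_rc_10_2 lc_b_rc_6_1 lc_b_rc_9_2 lc_b_rc_10_0 lc_b_rc_26_1 lc_b_rc_8_2 lc_b_rc_7_2 lc_b_rc_8_2 lc_b_rc_8_2 lc_b_rc_10_2 lc_b_rc_6_1 lc_b_rc_8_2 lc_b_rc_6_1 lc_b_rc_8_2 lc_b_rc_10_0 lc_b_rc_10_2 lc_b_rc_8_0 lc_b_rc_7_4 lc_b_rc_6_1 lc_b_rc_8_2 lc_b_rc_10_2 lc_b_rc_8_2 lc_b_rc_6_1 lc_b_rc_6_1 lc_b_rc_9_2 lc_b_rc_8_2 lc_b_rc_8_2 lc_b_rc_9_2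 lc_b_rc_25_8 lc_b_rc_9_2 lc_b_rc_25_8 lc_b_rc_7_4 lc_b_rc_26_7 lc_b_rc_9_2 lc_b_rc_10_0) (@D3.rec (fun _ => (Cert rels S Gen.b)) lc_b_rc_9_2 lc_b_rc_8_0 lc_b_rc_26_5 lc_b_rc_6_1 lc_b_rc_8_2 lc_b_rc_9_2 lc_b_rc_6_1 lc_b_rc_9_0 lc_b_rc_26_5 lc_b_rc_1_5 lc_b_rc_6_1 lc_b_rc_9_0 lc_b_rc_9_0 lc_b_rc_9_2 lc_b_rc_26_5 lc_b_rc_26_1 lc_b_rc_8_2 lc_b_rc_25_16 lc_b_rc_8_0 lc_b_rc_7_0 lc_b_rc_10_0 lc_b_rc_26_1 lc_b_rc_8_2 lc_b_rc_8_2 lc_b_rc_26_5 lc_b_rc_8_2 lc_b_rc_9_0 lc_b_rc_8_2 lc_b_rc_9_2 lc_b_rc_9_2 lc_b_rc_7_4 lc_b_rc_6_1 lc_b_rc_6_1 lc_b_rc_1_5 lc_b_rc_26_7 lc_b_rc_9_2 lc_b_rc_7_4 lc_b_rc_9_0 lc_b_rc_6_1 lc_b_rc_8_2 lc_b_rc_8_2 lc_b_rc_10_2 lc_b_rc_26_1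 lc_b_rc_26_1 lc_b_rc_9_2 lc_b_rc_8_2 lc_b_rc_9_0 lc_b_rc_9_0 lc_b_rc_25_0 lc_b_rc_7_4 lc_b_rc_26_5 lc_b_rc_26_5 lc_b_rc_6_1 lc_b_rc_10_0 lc_b_rc_10_2 lc_b_rc_26_1 lc_b_rc_9_2 lc_b_rc_9_0 lc_b_rc_10_2 lc_b_rc_1_1 lc_b_rc_9_2 lc_b_rc_9_0) (@D3.rec (fun _ => (Cert rels S Gen.b)) lc_b_rc_9_0 lc_b_rc_26_7 lc_b_rc_7_2 lc_b_rc_6_1 lc_b_rc_6_1 lc_b_rc_8_2 lc_b_rc_26_7 lc_b_rc_6_1 lc_b_rc_8_0 lc_b_rc_8_2 lc_b_rc_9_2 lc_b_rc_9_2 lc_b_rc_6_1 lc_b_rc_1_5 lc_b_rc_8_0 lc_b_rc_26_5 lc_b_rc_9_2 lc_b_rc_8_2 lc_b_rc_1_3 lc_b_rc_8_2 lc_b_rc_6_1 lc_b_rc_6_1 lc_b_rc_8_2 lc_b_rc_8_2 lc_b_rc_10_0 lc_b_rc_7_2 lc_b_rc_9_0 lc_b_rc_10_2 lc_b_rc_1_5 lc_b_rc_9_2 lc_b_rc_6_1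 lc_b_rc_9_2 lc_b_rc_9_2 lc_b_rc_8_2 lc_b_rc_6_1 lc_b_rc_9_0 lc_b_rc_9_2 lc_b_rc_9_0 lc_b_rc_26_5 lc_b_rc_8_0 lc_b_rc_6_1 lc_b_rc_9_2 lc_b_rc_25_0 lc_b_rc_7_2 lc_b_rc_25_4 lc_b_rc_8_2 lc_b_rc_9_2 lc_b_rc_9_2 lc_b_rc_26_5 lc_b_rc_9_2 lc_b_rc_26_5 lc_b_rc_6_1 lc_b_rc_9_2 lc_b_rc_25_16 lc_b_rc_25_0 lc_b_rc_8_2 lc_b_rc_26_5 lc_b_rc_26_5 lc_b_rc_26_5 lc_b_rc_6_1 lc_b_rc_25_0 lc_b_rc_8_2) (@D3.rec (fun _ => (Cert rels S Gen.b)) lc_b_rc_7_4 lc_b_rc_8_2 lc_b_rc_9_2 lc_b_rc_1_5 lc_b_rc_7_2 lc_b_rc_9_2 lc_b_rc_8_2 lc_b_rc_9_0 lc_b_rc_6_1 lc_b_rc_6_1 lc_b_rc_1_1 lc_b_rc_1_5 lc_b_rc_9_2 lc_b_rc_9_2 lc_b_rc_7_0 lc_b_rc_6_1 lc_b_rc_9_2 lc_b_rc_9_0 lc_b_rc_9_2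 lc_b_rc_6_1 lc_b_rc_8_0 lc_b_rc_7_2 lc_b_rc_10_2 lc_b_rc_25_8 lc_b_rc_6_1 lc_b_rc_26_1 lc_b_rc_26_5 lc_b_rc_9_2 lc_b_rc_6_1 lc_b_rc_6_1 lc_b_rc_1_3 lc_b_rc_26_5 lc_b_rc_9_2 lc_b_rc_26_5 lc_b_rc_9_2 lc_b_rc_6_1 lc_b_rc_8_2 lc_b_rc_6_1 lc_b_rc_7_2 lc_b_rc_8_2 lc_b_rc_10_2 lc_b_rc_9_2 lc_b_rc_26_5 lc_b_rc_6_1 lc_b_rc_6_1 lc_b_rc_26_5 lc_b_rc_6_1 lc_b_rc_26_1 lc_b_rc_9_2 lc_b_rc_8_2 lc_b_rc_6_1 lc_b_rc_1_1 lc_b_rc_8_2 lc_b_rc_10_2 lc_b_rc_25_4 lc_b_rc_9_2 lc_b_rc_9_2 lc_b_rc_7_2 lc_b_Cert_tree lc_b_rc_25_4 lc_b_rc_8_2 lc_b_rc_8_2) (@D3.rec (fun _ => (Cert rels S Gen.b)) lc_b_rc_8_2 lc_b_rc_6_1 lc_b_rc_7_4 lc_b_rc_9_2 lc_b_rc_6_1 lc_b_rc_10_0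 lc_b_rc_26_5 lc_b_rc_8_0 lc_b_rc_26_7 lc_b_rc_6_1 lc_b_rc_9_0 lc_b_rc_7_4 lc_b_rc_10_2 lc_b_rc_10_2 lc_b_rc_7_2 lc_b_rc_6_1 lc_b_rc_26_1 lc_b_rc_7_0 lc_b_rc_6_1 lc_b_rc_8_2 lc_b_rc_10_2 lc_b_rc_6_1 lc_b_rc_10_0 lc_b_rc_26_5 lc_b_rc_26_5 lc_b_rc_9_2 lc_b_rc_6_1 lc_b_rc_26_5 lc_b_rc_1_5 lc_b_rc_6_1 lc_b_rc_1_3 lc_b_rc_6_1 lc_b_rc_6_1 lc_b_rc_10_2 lc_b_rc_6_1 lc_b_rc_9_2 lc_b_rc_26_1 lc_b_rc_1_5 lc_b_rc_8_2 lc_b_rc_9_2 lc_b_rc_1_3 lc_b_rc_8_2 lc_b_rc_25_12 lc_b_rc_26_5 lc_b_rc_8_2 lc_b_rc_26_7 lc_b_rc_6_1 lc_b_rc_8_2 lc_b_rc_6_1 lc_b_rc_9_2 lc_b_rc_10_2 lc_b_rc_6_1 lc_b_rc_8_2 lc_b_rc_9_2 lc_b_rc_8_2 lc_b_rc_25_8 lc_b_rc_7_2 lc_b_rc_25_0 lc_b_rc_9_0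 lc_b_rc_6_1 lc_b_rc_6_1 lc_b_rc_9_2) (@D3.rec (fun _ => (Cert rels S Gen.b)) lc_b_rc_1_3 lc_b_rc_9_2 lc_b_rc_25_4 lc_b_rc_9_2 lc_b_rc_8_2 lc_b_rc_26_1 lc_b_rc_6_1 lc_b_rc_9_2 lc_b_rc_8_0 lc_b_rc_9_2 lc_b_rc_6_1 lc_b_rc_26_5 lc_b_rc_8_2 lc_b_rc_26_5 lc_b_rc_26_1 lc_b_rc_9_2 lc_b_rc_7_2 lc_b_rc_6_1 lc_b_rc_10_0 lc_b_rc_26_1 lc_b_rc_1_5 lc_b_rc_1_5 lc_b_rc_10_2 lc_b_rc_7_2 lc_b_rc_26_1 lc_b_rc_8_2 lc_b_rc_26_7 lc_b_rc_6_1 lc_b_rc_6_1 lc_b_rc_8_2 lc_b_rc_7_4 lc_b_rc_26_1 lc_b_rc_6_1 lc_b_rc_8_2 lc_b_rc_9_0 lc_b_rc_8_2 lc_b_rc_26_5 lc_b_rc_25_4 lc_b_rc_9_2 lc_b_rc_8_2 lc_b_rc_8_0 lc_b_rc_7_0 lc_b_rc_1_3 lc_b_rc_9_2 lc_b_rc_6_1 lc_b_rc_26_5 lc_b_rc_8_2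 lc_b_rc_7_2 lc_b_rc_26_5 lc_b_rc_9_2 lc_b_rc_1_3 lc_b_rc_9_2 lc_b_rc_6_1 lc_b_rc_9_2 lc_b_rc_6_1 lc_b_rc_8_0 lc_b_rc_8_2 lc_b_rc_8_2 lc_b_rc_8_2 lc_b_rc_9_2 lc_b_rc_6_1 lc_b_rc_9_0) (@D3.rec (fun _ => (Cert rels S Gen.b)) lc_b_rc_1_5 lc_b_rc_7_2 lc_b_rc_1_3 lc_b_rc_10_2 lc_b_rc_8_2 lc_b_rc_9_0 lc_b_rc_26_1 lc_b_rc_26_5 lc_b_rc_6_1 lc_b_rc_6_1 lc_b_rc_9_2 lc_b_rc_10_0 lc_b_rc_6_1 lc_b_rc_9_2 lc_b_rc_6_1 lc_b_rc_1_5 lc_b_rc_25_0 lc_b_rc_6_1 lc_b_rc_8_2 lc_b_rc_9_2 lc_b_rc_1_5 lc_b_rc_6_1 lc_b_rc_6_1 lc_b_rc_1_5 lc_b_rc_9_2 lc_b_rc_6_1 lc_b_rc_7_0 lc_b_rc_6_1 lc_b_rc_9_2 lc_b_rc_6_1 lc_b_rc_9_2 lc_b_rc_1_5 lc_b_rc_7_2 lc_b_rc_8_2 lc_b_rc_8_0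 lc_b_rc_10_2 lc_b_rc_26_5 lc_b_rc_8_2 lc_b_rc_1_5 lc_b_rc_8_2 lc_b_rc_6_1 lc_b_rc_9_2 lc_b_rc_1_5 lc_b_rc_10_2 lc_b_rc_9_2 lc_b_rc_26_1 lc_b_rc_6_1 lc_b_rc_26_1 lc_b_rc_9_0 lc_b_rc_6_1 lc_b_rc_26_5 lc_b_rc_7_2 lc_b_rc_7_4 lc_b_rc_10_2 lc_b_rc_1_5 lc_b_rc_9_0 lc_b_rc_7_4 lc_b_rc_8_0 lc_b_rc_25_4 lc_b_rc_9_2 lc_b_rc_6_1 lc_b_rc_6_1) (@D3.rec (fun _ => (Cert rels S Gen.b)) lc_b_rc_8_2 lc_b_rc_9_0 lc_b_rc_7_4 lc_b_rc_6_1 lc_b_rc_7_2 lc_b_rc_25_4 lc_b_rc_1_5 lc_b_rc_7_4 lc_b_rc_9_2 lc_b_rc_26_5 lc_b_rc_26_1 lc_b_rc_26_5 lc_b_rc_6_1 lc_b_rc_10_2 lc_b_rc_26_5 lc_b_rc_26_5 lc_b_rc_7_2 lc_b_rc_8_2 lc_b_rc_7_4 lc_b_rc_9_0 lc_b_rc_8_2 lc_b_rc_6_1 lc_b_rc_9_0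 lc_b_rc_8_2 lc_b_rc_7_0 lc_b_rc_8_2 lc_b_rc_25_0 lc_b_rc_26_7 lc_b_rc_26_1 lc_b_rc_9_0 lc_b_rc_26_5 lc_b_rc_9_0 lc_b_rc_9_0 lc_b_rc_7_2 lc_b_rc_9_2 lc_b_rc_6_1 lc_b_rc_26_5 lc_b_rc_6_1 lc_b_rc_26_1 lc_b_rc_26_5 lc_b_rc_8_0 lc_b_rc_7_0 lc_b_rc_25_0 lc_b_rc_8_2 lc_b_rc_7_0 lc_b_rc_6_1 lc_b_rc_1_5 lc_b_rc_7_4 lc_b_rc_8_0 lc_b_rc_8_2 lc_b_rc_6_1 lc_b_rc_8_2 lc_b_rc_7_2 lc_b_rc_26_1 lc_b_rc_9_2 lc_b_rc_25_12 lc_b_rc_10_2 lc_b_rc_9_0 lc_b_rc_8_2 lc_b_rc_10_2 lc_b_rc_8_2 lc_b_rc_6_1) (@D3.rec (fun _ => (Cert rels S Gen.b)) lc_b_rc_10_0 lc_b_rc_6_1 lc_b_rc_9_2 lc_b_rc_8_0 lc_b_rc_26_1 lc_b_rc_9_2 lc_b_rc_9_0 lc_b_rc_7_2 lc_b_rc_9_2 lc_b_rc_9_0 lc_b_rc_7_0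 lc_b_rc_25_0 lc_b_rc_9_2 lc_b_rc_9_2 lc_b_rc_7_2 lc_b_rc_9_2 lc_b_rc_7_2 lc_b_rc_10_2 lc_b_rc_8_0 lc_b_rc_8_2 lc_b_rc_7_0 lc_b_rc_8_2 lc_b_rc_26_5 lc_b_rc_7_4 lc_b_rc_8_2 lc_b_rc_8_2 lc_b_rc_9_0 lc_b_rc_8_2 lc_b_rc_9_0 lc_b_rc_26_7 lc_b_rc_10_0 lc_b_rc_9_2 lc_b_rc_8_2 lc_b_rc_25_0 lc_b_rc_10_2 lc_b_rc_6_1 lc_b_rc_1_3 lc_b_rc_7_2 lc_b_rc_9_2 lc_b_rc_7_4 lc_b_rc_6_1 lc_b_rc_6_1 lc_b_rc_26_5 lc_b_rc_8_2 lc_b_rc_10_2 lc_b_rc_8_2 lc_b_rc_8_2 lc_b_rc_10_0 lc_b_rc_6_1 lc_b_rc_26_5 lc_b_rc_7_2 lc_b_rc_7_0 lc_b_rc_9_2 lc_b_rc_26_1 lc_b_rc_7_4 lc_b_rc_9_2 lc_b_rc_26_5 lc_b_rc_8_0 lc_b_rc_1_1 lc_b_rc_8_2 lc_b_rc_8_0 lc_b_rc_7_0) (@D3.rec (fun _ =>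 (Cert rels S Gen.b)) lc_b_rc_9_0 lc_b_rc_26_5 lc_b_rc_6_1 lc_b_rc_7_2 lc_b_rc_8_2 lc_b_rc_9_2 lc_b_rc_1_1 lc_b_rc_8_0 lc_b_rc_25_0 lc_b_rc_8_0 lc_b_rc_6_1 lc_b_rc_6_1 lc_b_rc_8_0 lc_b_rc_25_4 lc_b_rc_8_2 lc_b_rc_26_1 lc_b_rc_6_1 lc_b_rc_8_2 lc_b_rc_6_1 lc_b_rc_8_0 lc_b_rc_8_2 lc_b_rc_7_2 lc_b_rc_10_2 lc_b_rc_8_2 lc_b_rc_6_1 lc_b_rc_7_0 lc_b_rc_9_0 lc_b_rc_7_4 lc_b_rc_8_2 lc_b_rc_7_4 lc_b_rc_6_1 lc_b_rc_6_1 lc_b_rc_8_2 lc_b_rc_9_2 lc_b_rc_1_5 lc_b_rc_8_2 lc_b_rc_9_2 lc_b_rc_9_2 lc_b_rc_26_7 lc_b_rc_9_2 lc_b_rc_8_2 lc_b_rc_1_5 lc_b_rc_10_2 lc_b_rc_9_2 lc_b_rc_26_5 lc_b_rc_6_1 lc_b_rc_9_2 lc_b_rc_8_2 lc_b_rc_26_1 lc_b_rc_8_2 lc_b_rc_6_1 lc_b_rc_26_5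 lc_b_rc_26_7 lc_b_rc_26_1 lc_b_rc_9_2 lc_b_rc_8_2 lc_b_rc_8_2 lc_b_rc_9_2 lc_b_rc_26_1 lc_b_rc_1_5 lc_b_rc_6_1 lc_b_rc_26_7) (@D3.rec (fun _ => (Cert rels S Gen.b)) lc_b_rc_9_2 lc_b_rc_6_1 lc_b_rc_8_0 lc_b_rc_26_7 lc_b_rc_8_2 lc_b_rc_8_0 lc_b_rc_10_2 lc_b_rc_8_2 lc_b_rc_9_0 lc_b_rc_25_4 lc_b_rc_7_2 lc_b_rc_8_2 lc_b_rc_26_5 lc_b_rc_9_2 lc_b_rc_7_0 lc_b_rc_10_2 lc_b_rc_8_0 lc_b_rc_8_2 lc_b_rc_9_2 lc_b_rc_8_2 lc_b_rc_9_2 lc_b_rc_6_1 lc_b_rc_10_2 lc_b_rc_8_0 lc_b_rc_7_4 lc_b_rc_9_2 lc_b_rc_9_2 lc_b_rc_6_1 lc_b_rc_9_2 lc_b_rc_25_0 lc_b_rc_1_3 lc_b_rc_6_1 lc_b_rc_10_2 lc_b_rc_8_2 lc_b_rc_9_2 lc_b_rc_8_0 lc_b_rc_8_2 lc_b_rc_9_2 lc_b_rc_1_1 lc_b_rc_8_2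 lc_b_rc_9_2 lc_b_rc_26_1 lc_b_rc_8_2 lc_b_rc_7_2 lc_b_rc_8_2 lc_b_rc_8_2 lc_b_rc_6_1 lc_b_rc_9_2 lc_b_rc_8_2 lc_b_rc_1_5 lc_b_rc_8_2 lc_b_rc_9_2 lc_b_rc_8_2 lc_b_rc_6_1 lc_b_rc_8_0 lc_b_rc_8_2 lc_b_rc_6_1 lc_b_rc_6_1 lc_b_rc_7_2 lc_b_rc_8_2 lc_b_rc_6_1 lc_b_rc_9_2) (@D3.rec (fun _ => (Cert rels S Gen.b)) lc_b_rc_25_16 lc_b_rc_6_1 lc_b_rc_7_4 lc_b_rc_8_2 lc_b_rc_8_2 lc_b_rc_9_0 lc_b_rc_9_2 lc_b_rc_9_2 lc_b_rc_6_1 lc_b_rc_26_5 lc_b_rc_8_0 lc_b_rc_9_0 lc_b_rc_26_5 lc_b_rc_26_7 lc_b_rc_8_2 lc_b_rc_26_1 lc_b_rc_10_2 lc_b_rc_6_1 lc_b_rc_10_2 lc_b_rc_6_1 lc_b_rc_26_7 lc_b_rc_9_2 lc_b_rc_26_5 lc_b_rc_1_3 lc_b_rc_9_2 lc_b_rc_8_2 lc_b_rc_26_1 lc_b_rc_1_5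 lc_b_rc_8_2 lc_b_rc_25_16 lc_b_rc_1_1 lc_b_rc_9_2 lc_b_rc_8_2 lc_b_rc_10_2 lc_b_rc_25_0 lc_b_rc_6_1 lc_b_rc_8_0 lc_b_rc_25_0 lc_b_rc_6_1 lc_b_rc_9_2 lc_b_rc_9_2 lc_b_rc_7_4 lc_b_rc_8_2 lc_b_rc_8_2 lc_b_rc_8_2 lc_b_rc_9_2 lc_b_rc_26_5 lc_b_rc_26_5 lc_b_rc_6_1 lc_b_rc_6_1 lc_b_rc_1_1 lc_b_rc_9_2 lc_b_rc_26_5 lc_b_rc_9_2 lc_b_rc_26_5 lc_b_rc_6_1 lc_b_rc_10_2 lc_b_rc_9_2 lc_b_rc_9_2 lc_b_rc_6_1 lc_b_rc_1_5 lc_b_rc_7_2) (@D3.rec (fun _ => (Cert rels S Gen.b)) lc_b_rc_8_2 lc_b_rc_7_0 lc_b_rc_6_1 lc_b_rc_6_1 lc_b_rc_10_0 lc_b_rc_6_1 lc_b_rc_6_1 lc_b_rc_6_1 lc_b_rc_8_2 lc_b_rc_7_4 lc_b_rc_8_2 lc_b_rc_8_2 lc_b_rc_6_1 lc_b_rc_8_2 lc_b_rc_8_0 lc_b_rc_9_0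 lc_b_rc_8_2 lc_b_rc_1_5 lc_b_rc_26_5 lc_b_rc_26_5 lc_b_rc_6_1 lc_b_rc_7_4 lc_b_rc_8_2 lc_b_rc_7_4 lc_b_rc_6_1 lc_b_rc_8_2 lc_b_Cert_tree lc_b_rc_8_2 lc_b_rc_25_0 lc_b_rc_10_0 lc_b_rc_9_2 lc_b_rc_7_0 lc_b_rc_9_2 lc_b_rc_9_2 lc_b_rc_9_2 lc_b_rc_8_2 lc_b_rc_8_0 lc_b_rc_25_0 lc_b_rc_7_4 lc_b_rc_25_8 lc_b_rc_7_2 lc_b_rc_10_2 lc_b_rc_9_2 lc_b_rc_8_2 lc_b_rc_8_2 lc_b_rc_8_0 lc_b_rc_1_1 lc_b_rc_1_3 lc_b_rc_26_7 lc_b_rc_9_2 lc_b_rc_9_0 lc_b_rc_6_1 lc_b_rc_8_2 lc_b_rc_8_2 lc_b_rc_8_2 lc_b_rc_26_5 lc_b_rc_25_0 lc_b_rc_9_0 lc_b_rc_26_5 lc_b_rc_10_2 lc_b_rc_7_0 lc_b_rc_9_2) (@D3.rec (fun _ => (Cert rels S Gen.b)) lc_b_rc_10_2 lc_b_rc_26_1 lc_b_rc_9_2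 lc_b_rc_8_2 lc_b_rc_6_1 lc_b_rc_8_2 lc_b_rc_7_0 lc_b_rc_8_2 lc_b_rc_9_0 lc_b_rc_8_2 lc_b_rc_9_2 lc_b_rc_1_5 lc_b_rc_8_2 lc_b_rc_1_5 lc_b_rc_8_2 lc_b_rc_6_1 lc_b_rc_8_0 lc_b_rc_8_2 lc_b_rc_6_1 lc_b_rc_8_2 lc_b_rc_7_2 lc_b_rc_25_4 lc_b_rc_7_0 lc_b_rc_25_4 lc_b_rc_6_1 lc_b_rc_6_1 lc_b_rc_1_3 lc_b_rc_26_1 lc_b_rc_6_1 lc_b_rc_26_5 lc_b_rc_25_4 lc_b_rc_6_1 lc_b_rc_9_2 lc_b_rc_9_2 lc_b_rc_7_2 lc_b_rc_9_0 lc_b_rc_10_2 lc_b_rc_6_1 lc_b_rc_8_2 lc_b_rc_8_2 lc_b_rc_9_0 lc_b_rc_1_5 lc_b_rc_8_2 lc_b_rc_9_2 lc_b_rc_26_5 lc_b_rc_6_1 lc_b_rc_26_1 lc_b_rc_6_1 lc_b_rc_26_5 lc_b_rc_6_1 lc_b_rc_6_1 lc_b_rc_6_1 lc_b_rc_26_5 lc_b_rc_9_2 lc_b_rc_7_4 lc_b_rc_9_2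 lc_b_rc_9_2 lc_b_rc_9_0 lc_b_rc_9_2 lc_b_rc_9_0 lc_b_rc_7_0 lc_b_rc_8_2) (@D3.rec (fun _ => (Cert rels S Gen.b)) lc_b_rc_6_1 lc_b_rc_9_0 lc_b_rc_9_2 lc_b_rc_9_2 lc_b_rc_9_2 lc_b_rc_6_1 lc_b_rc_8_2 lc_b_rc_7_0 lc_b_rc_26_1 lc_b_rc_9_2 lc_b_rc_9_0 lc_b_rc_6_1 lc_b_rc_6_1 lc_b_rc_10_0 lc_b_rc_8_2 lc_b_rc_9_0 lc_b_rc_9_2 lc_b_rc_10_2 lc_b_rc_6_1 lc_b_rc_8_2 lc_b_rc_6_1 lc_b_rc_26_5 lc_b_rc_1_1 lc_b_rc_8_2 lc_b_rc_9_2 lc_b_rc_1_1 lc_b_rc_7_0 lc_b_rc_8_0 lc_b_rc_9_2 lc_b_rc_7_4 lc_b_rc_26_5 lc_b_rc_9_0 lc_b_rc_9_2 lc_b_rc_9_0 lc_b_rc_7_0 lc_b_rc_8_0 lc_b_rc_6_1 lc_b_rc_8_2 lc_b_rc_7_2 lc_b_rc_8_2 lc_b_rc_9_2 lc_b_rc_8_2 lc_b_rc_26_1 lc_b_rc_10_2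 lc_b_rc_8_2 lc_b_rc_8_2 lc_b_rc_6_1 lc_b_rc_8_0 lc_b_rc_25_16 lc_b_rc_9_0 lc_b_rc_8_2 lc_b_rc_9_2 lc_b_rc_6_1 lc_b_rc_25_12 lc_b_rc_9_2 lc_b_rc_26_5 lc_b_rc_8_0 lc_b_rc_9_2 lc_b_rc_8_2 lc_b_rc_9_0 lc_b_rc_8_2 lc_b_rc_6_1) (@D3.rec (fun _ => (Cert rels S Gen.b)) lc_b_rc_9_2 lc_b_rc_10_2 lc_b_rc_7_4 lc_b_rc_26_1 lc_b_rc_6_1 lc_b_rc_8_2 lc_b_rc_26_1 lc_b_rc_26_5 lc_b_rc_8_0 lc_b_rc_9_2 lc_b_rc_8_2 lc_b_rc_8_2 lc_b_rc_6_1 lc_b_rc_8_2 lc_b_rc_6_1 lc_b_rc_7_0 lc_b_rc_7_0 lc_b_rc_9_0 lc_b_rc_26_7 lc_b_rc_26_5 lc_b_rc_7_2 lc_b_rc_8_2 lc_b_rc_7_4 lc_b_rc_9_2 lc_b_rc_1_5 lc_b_rc_7_0 lc_b_rc_6_1 lc_b_rc_6_1 lc_b_rc_8_2 lc_b_rc_8_0 lc_b_rc_6_1 lc_b_rc_9_2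 lc_b_rc_8_2 lc_b_rc_8_2 lc_b_rc_1_5 lc_b_rc_8_2 lc_b_rc_6_1 lc_b_rc_26_1 lc_b_rc_9_2 lc_b_rc_9_2 lc_b_rc_9_2 lc_b_rc_8_2 lc_b_rc_9_2 lc_b_rc_9_2 lc_b_rc_9_2 lc_b_rc_9_2 lc_b_rc_8_2 lc_b_rc_26_7 lc_b_rc_1_1 lc_b_rc_9_0 lc_b_rc_6_1 lc_b_rc_8_2 lc_b_rc_6_1 lc_b_Cert_tree lc_b_rc_8_0 lc_b_rc_9_2 lc_b_rc_8_2 lc_b_rc_9_0 lc_b_rc_8_2 lc_b_rc_7_0 lc_b_rc_9_2 lc_b_rc_6_1) (@D3.rec (fun _ => (Cert rels S Gen.b)) lc_b_rc_1_3 lc_b_rc_9_2 lc_b_rc_7_0 lc_b_rc_8_2 lc_b_rc_8_0 lc_b_rc_8_2 lc_b_rc_1_5 lc_b_rc_9_2 lc_b_rc_6_1 lc_b_rc_8_0 lc_b_rc_6_1 lc_b_rc_25_0 lc_b_rc_8_2 lc_b_rc_26_7 lc_b_rc_6_1 lc_b_rc_7_0 lc_b_rc_7_4 lc_b_rc_6_1 lc_b_rc_7_0 lc_b_rc_6_1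 lc_b_rc_6_1 lc_b_rc_26_5 lc_b_rc_9_0 lc_b_rc_9_2 lc_b_rc_6_1 lc_b_rc_26_1 lc_b_rc_6_1 lc_b_rc_6_1 lc_b_rc_9_2 lc_b_rc_9_0 lc_b_rc_9_2 lc_b_rc_25_0 lc_b_rc_8_2 lc_b_rc_26_5 lc_b_rc_8_2 lc_b_rc_6_1 lc_b_rc_6_1 lc_b_rc_8_0 lc_b_rc_9_2 lc_b_rc_8_2 lc_b_rc_6_1 lc_b_rc_9_2 lc_b_rc_9_2 lc_b_rc_26_5 lc_b_rc_6_1 lc_b_rc_9_2 lc_b_rc_9_2 lc_b_rc_8_2 lc_b_rc_10_2 lc_b_rc_6_1 lc_b_rc_9_2 lc_b_rc_7_4 lc_b_rc_8_2 lc_b_rc_8_2 lc_b_rc_6_1 lc_b_rc_6_1 lc_b_rc_8_2 lc_b_rc_9_0 lc_b_rc_6_1 lc_b_rc_8_0 lc_b_rc_10_2 lc_b_rc_6_1) (@D3.rec (fun _ => (Cert rels S Gen.b)) lc_b_rc_8_2 lc_b_rc_26_1 lc_b_rc_8_2 lc_b_rc_6_1 lc_b_rc_6_1 lc_b_rc_6_1 lc_b_rc_9_2 lc_b_rc_6_1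 lc_b_rc_8_2 lc_b_rc_8_2 lc_b_rc_7_2 lc_b_rc_6_1 lc_b_rc_6_1 lc_b_rc_9_2 lc_b_rc_1_3 lc_b_rc_9_2 lc_b_rc_8_2 lc_b_rc_8_2 lc_b_rc_8_2 lc_b_rc_9_2 lc_b_rc_9_2 lc_b_rc_8_2 lc_b_rc_8_2 lc_b_rc_10_0 lc_b_rc_6_1 lc_b_rc_10_2 lc_b_rc_6_1 lc_b_rc_1_5 lc_b_rc_9_2 lc_b_rc_6_1 lc_b_rc_6_1 lc_b_rc_25_0 lc_b_rc_6_1 lc_b_rc_6_1 lc_b_rc_7_2 lc_b_rc_26_7 lc_b_rc_9_2 lc_b_rc_6_1 lc_b_rc_9_0 lc_b_rc_9_2 lc_b_rc_26_1 lc_b_rc_7_2 lc_b_rc_9_2 lc_b_rc_6_1 lc_b_rc_9_2 lc_b_rc_8_2 lc_b_rc_9_2 lc_b_rc_1_5 lc_b_rc_26_1 lc_b_rc_26_1 lc_b_rc_9_2 lc_b_rc_9_2 lc_b_rc_6_1 lc_b_rc_6_1 lc_b_rc_10_0 lc_b_rc_9_2 lc_b_rc_7_2 lc_b_rc_10_2 lc_b_rc_6_1 lc_b_rc_6_1 lc_b_rc_25_4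 lc_b_rc_7_0) (@D3.rec (fun _ => (Cert rels S Gen.b)) lc_b_rc_6_1 lc_b_rc_8_2 lc_b_rc_7_2 lc_b_rc_26_5 lc_b_rc_1_5 lc_b_rc_26_1 lc_b_rc_6_1 lc_b_rc_9_0 lc_b_rc_10_2 lc_b_rc_8_2 lc_b_rc_6_1 lc_b_rc_8_2 lc_b_rc_25_16 lc_b_rc_26_1 lc_b_rc_8_2 lc_b_rc_25_0 lc_b_rc_6_1 lc_b_rc_6_1 lc_b_rc_25_0 lc_b_rc_6_1 lc_b_rc_9_2 lc_b_rc_6_1 lc_b_rc_26_5 lc_b_rc_8_2 lc_b_rc_6_1 lc_b_rc_6_1 lc_b_rc_25_0 lc_b_rc_6_1 lc_b_rc_6_1 lc_b_rc_6_1 lc_b_rc_8_2 lc_b_rc_6_1 lc_b_rc_26_7 lc_b_rc_7_4 lc_b_rc_8_0 lc_b_rc_8_2 lc_b_rc_6_1 lc_b_rc_9_0 lc_b_rc_6_1 lc_b_rc_6_1 lc_b_rc_6_1 lc_b_rc_7_0 lc_b_rc_6_1 lc_b_rc_9_0 lc_b_rc_6_1 lc_b_rc_26_1 lc_b_rc_10_2 lc_b_rc_6_1 lc_b_rc_8_2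 lc_b_rc_1_5 lc_b_rc_6_1 lc_b_rc_9_0 lc_b_rc_26_7 lc_b_rc_10_2 lc_b_rc_8_2 lc_b_rc_8_2 lc_b_rc_9_2 lc_b_rc_1_5 lc_b_rc_26_1 lc_b_rc_7_0 lc_b_rc_1_5 lc_b_rc_8_2) (@D3.rec (fun _ => (Cert rels S Gen.b)) lc_b_rc_25_0 lc_b_rc_6_1 lc_b_rc_8_2 lc_b_rc_1_3 lc_b_rc_1_3 lc_b_rc_9_2 lc_b_rc_6_1 lc_b_rc_7_0 lc_b_rc_8_2 lc_b_rc_8_2 lc_b_rc_26_5 lc_b_rc_10_2 lc_b_rc_26_5 lc_b_rc_6_1 lc_b_rc_26_1 lc_b_rc_26_7 lc_b_rc_6_1 lc_b_rc_10_0 lc_b_rc_1_3 lc_b_rc_8_2 lc_b_rc_1_5 lc_b_rc_1_3 lc_b_rc_6_1 lc_b_rc_25_4 lc_b_rc_6_1 lc_b_rc_6_1 lc_b_Cert_tree lc_b_rc_6_1 lc_b_rc_1_3 lc_b_rc_9_0 lc_b_rc_6_1 lc_b_rc_6_1 lc_b_rc_6_1 lc_b_rc_1_3 lc_b_rc_9_2 lc_b_rc_26_1 lc_b_rc_26_7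 lc_b_rc_7_4 lc_b_rc_8_0 lc_b_rc_8_0 lc_b_rc_9_2 lc_b_rc_10_2 lc_b_rc_7_2 lc_b_rc_7_0 lc_b_rc_8_0 lc_b_rc_9_0 lc_b_rc_6_1 lc_b_rc_6_1 lc_b_rc_8_2 lc_b_rc_10_2 lc_b_rc_1_5 lc_b_rc_8_2 lc_b_rc_25_16 lc_b_rc_6_1 lc_b_rc_6_1 lc_b_rc_7_4 lc_b_rc_6_1 lc_b_rc_9_0 lc_b_rc_6_1 lc_b_rc_6_1 lc_b_rc_8_2 lc_b_rc_1_1) (@D3.rec (fun _ => (Cert rels S Gen.b)) lc_b_rc_8_0 lc_b_rc_6_1 lc_b_rc_8_0 lc_b_rc_1_5 lc_b_rc_7_2 lc_b_rc_8_2 lc_b_rc_7_4 lc_b_rc_7_2 lc_b_rc_26_5 lc_b_Cert_tree lc_b_rc_7_2 lc_b_rc_9_0 lc_b_rc_10_2 lc_b_rc_8_0 lc_b_rc_7_4 lc_b_rc_6_1 lc_b_rc_9_2 lc_b_rc_7_0 lc_b_rc_9_2 lc_b_rc_6_1 lc_b_rc_7_4 lc_b_rc_10_2 lc_b_rc_9_2 lc_b_rc_26_5 lc_b_rc_6_1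 lc_b_rc_6_1 lc_b_rc_6_1 lc_b_rc_1_3 lc_b_rc_1_5 lc_b_rc_8_2 lc_b_rc_26_1 lc_b_rc_9_2 lc_b_Cert_tree lc_b_rc_26_1 lc_b_rc_8_2 lc_b_rc_1_5 lc_b_rc_9_2 lc_b_rc_8_2 lc_b_rc_26_5 lc_b_rc_8_0 lc_b_rc_10_2 lc_b_rc_9_2 lc_b_rc_9_2 lc_b_rc_9_0 lc_b_rc_6_1 lc_b_rc_10_2 lc_b_rc_9_0 lc_b_rc_6_1 lc_b_rc_26_1 lc_b_rc_26_5 lc_b_rc_8_2 lc_b_rc_6_1 lc_b_rc_8_2 lc_b_rc_6_1 lc_b_rc_25_4 lc_b_rc_26_7 lc_b_rc_1_5 lc_b_rc_9_2 lc_b_rc_8_2 lc_b_rc_7_2 lc_b_rc_10_0 lc_b_rc_26_5) (@D3.rec (fun _ => (Cert rels S Gen.b)) lc_b_rc_7_0 lc_b_rc_8_0 lc_b_rc_7_0 lc_b_rc_1_5 lc_b_rc_8_2 lc_b_rc_9_0 lc_b_rc_8_0 lc_b_rc_8_2 lc_b_rc_1_5 lc_b_rc_26_7 lc_b_rc_7_0 lc_b_rc_9_2 lc_b_rc_10_2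 lc_b_rc_7_4 lc_b_rc_7_2 lc_b_rc_26_5 lc_b_rc_9_0 lc_b_rc_26_5 lc_b_rc_9_2 lc_b_rc_6_1 lc_b_rc_25_4 lc_b_rc_7_2 lc_b_rc_6_1 lc_b_rc_9_2 lc_b_rc_8_2 lc_b_rc_8_0 lc_b_rc_7_4 lc_b_rc_6_1 lc_b_rc_7_2 lc_b_rc_6_1 lc_b_rc_26_1 lc_b_rc_6_1 lc_b_rc_6_1 lc_b_rc_8_2 lc_b_rc_7_2 lc_b_rc_25_4 lc_b_rc_26_5 lc_b_Cert_tree lc_b_rc_26_7 lc_b_rc_9_2 lc_b_rc_6_1 lc_b_rc_25_0 lc_b_rc_1_5 lc_b_rc_8_2 lc_b_rc_6_1 lc_b_rc_26_1 lc_b_rc_7_0 lc_b_rc_6_1 lc_b_rc_1_3 lc_b_rc_7_0 lc_b_rc_1_3 lc_b_rc_26_5 lc_b_rc_7_0 lc_b_rc_25_4 lc_b_rc_9_2 lc_b_rc_9_2 lc_b_rc_26_5 lc_b_rc_10_2 lc_b_rc_25_0 lc_b_rc_8_2 lc_b_rc_8_2 lc_b_rc_6_1) (@D3.rec (fun _ => (Cert rels S Gen.b))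 lc_b_rc_10_2 lc_b_rc_6_1 lc_b_rc_8_2 lc_b_rc_6_1 lc_b_rc_26_7 lc_b_rc_1_1 lc_b_rc_9_0 lc_b_rc_6_1 lc_b_rc_8_2 lc_b_rc_6_1 lc_b_rc_6_1 lc_b_rc_6_1 lc_b_rc_26_5 lc_b_rc_25_8 lc_b_rc_9_2 lc_b_rc_6_1 lc_b_rc_8_0 lc_b_rc_6_1 lc_b_rc_1_5 lc_b_rc_6_1 lc_b_rc_7_4 lc_b_rc_8_2 lc_b_rc_7_2 lc_b_rc_9_2 lc_b_rc_8_2 lc_b_rc_1_1 lc_b_rc_6_1 lc_b_rc_8_2 lc_b_rc_10_2 lc_b_rc_26_5 lc_b_rc_9_2 lc_b_rc_26_5 lc_b_rc_6_1 lc_b_rc_26_5 lc_b_rc_9_2 lc_b_rc_10_0 lc_b_rc_8_2 lc_b_rc_1_5 lc_b_rc_1_3 lc_b_rc_8_0 lc_b_rc_1_3 lc_b_rc_25_12 lc_b_rc_9_2 lc_b_rc_26_1 lc_b_rc_8_2 lc_b_rc_6_1 lc_b_rc_9_2 lc_b_rc_26_1 lc_b_rc_6_1 lc_b_rc_26_1 lc_b_rc_7_0 lc_b_rc_10_0 lc_b_rc_8_2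 lc_b_rc_6_1 lc_b_rc_9_2 lc_b_rc_10_2 lc_b_rc_1_1 lc_b_rc_8_2 lc_b_rc_6_1 lc_b_rc_26_5 lc_b_rc_6_1 lc_b_rc_9_2) (@D3.rec (fun _ => (Cert rels S Gen.b)) lc_b_rc_6_1 lc_b_rc_9_0 lc_b_rc_10_2 lc_b_rc_26_5 lc_b_rc_26_5 lc_b_rc_8_2 lc_b_rc_9_2 lc_b_rc_7_4 lc_b_rc_8_2 lc_b_rc_26_7 lc_b_rc_8_2 lc_b_rc_6_1 lc_b_rc_8_2 lc_b_rc_1_1 lc_b_rc_7_4 lc_b_rc_6_1 lc_b_rc_26_1 lc_b_rc_6_1 lc_b_rc_10_2 lc_b_rc_9_2 lc_b_rc_8_2 lc_b_rc_26_1 lc_b_rc_8_2 lc_b_rc_10_2 lc_b_rc_8_2 lc_b_rc_1_3 lc_b_rc_25_0 lc_b_rc_8_2 lc_b_rc_6_1 lc_b_rc_7_2 lc_b_rc_6_1 lc_b_rc_6_1 lc_b_rc_1_3 lc_b_rc_6_1 lc_b_rc_9_2 lc_b_rc_9_2 lc_b_rc_8_2 lc_b_rc_8_2 lc_b_rc_8_2 lc_b_rc_25_0 lc_b_rc_9_2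 lc_b_rc_6_1 lc_b_rc_10_0 lc_b_rc_6_1 lc_b_rc_9_0 lc_b_rc_9_2 lc_b_rc_9_2 lc_b_rc_7_2 lc_b_rc_26_7 lc_b_rc_10_2 lc_b_rc_8_2 lc_b_rc_8_2 lc_b_rc_26_7 lc_b_rc_6_1 lc_b_rc_6_1 lc_b_rc_1_1 lc_b_rc_6_1 lc_b_rc_9_2 lc_b_rc_8_2 lc_b_rc_8_2 lc_b_rc_6_1 lc_b_rc_26_5) (@D3.rec (fun _ => (Cert rels S Gen.b)) lc_b_rc_6_1 lc_b_rc_8_0 lc_b_rc_8_2 lc_b_rc_10_2 lc_b_rc_26_5 lc_b_rc_9_0 lc_b_rc_10_2 lc_b_rc_7_4 lc_b_rc_26_5 lc_b_rc_7_0 lc_b_rc_8_2 lc_b_rc_6_1 lc_b_rc_8_2 lc_b_rc_6_1 lc_b_rc_8_0 lc_b_rc_10_2 lc_b_rc_26_5 lc_b_rc_6_1 lc_b_rc_25_4 lc_b_rc_8_2 lc_b_rc_7_0 lc_b_rc_8_2 lc_b_rc_6_1 lc_b_rc_9_2 lc_b_rc_8_2 lc_b_rc_9_2 lc_b_rc_6_1 lc_b_rc_8_2 lc_b_rc_9_2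 lc_b_rc_6_1 lc_b_rc_6_1 lc_b_rc_7_0 lc_b_rc_8_0 lc_b_rc_9_2 lc_b_rc_6_1 lc_b_rc_10_0 lc_b_rc_7_0 lc_b_rc_9_0 lc_b_rc_10_2 lc_b_rc_26_1 lc_b_rc_8_2 lc_b_rc_8_0 lc_b_rc_9_0 lc_b_rc_8_2 lc_b_rc_25_0 lc_b_rc_6_1 lc_b_rc_8_2 lc_b_rc_7_0 lc_b_rc_26_5 lc_b_rc_10_2 lc_b_rc_9_2 lc_b_rc_6_1 lc_b_rc_6_1 lc_b_rc_1_1 lc_b_rc_8_2 lc_b_rc_8_0 lc_b_rc_8_2 lc_b_rc_8_0 lc_b_rc_8_2 lc_b_rc_8_2 lc_b_rc_25_4 lc_b_rc_6_1) (@D3.rec (fun _ => (Cert rels S Gen.b)) lc_b_rc_6_1 lc_b_rc_10_0 lc_b_rc_9_2 lc_b_rc_9_2 lc_b_rc_6_1 lc_b_rc_7_2 lc_b_rc_7_0 lc_b_rc_8_2 lc_b_rc_8_0 lc_b_rc_9_2 lc_b_rc_6_1 lc_b_rc_8_0 lc_b_rc_8_2 lc_b_rc_9_2 lc_b_rc_9_2 lc_b_rc_9_0 lc_b_rc_26_5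 lc_b_rc_6_1 lc_b_rc_9_2 lc_b_rc_7_2 lc_b_rc_9_2 lc_b_rc_25_0 lc_b_rc_26_5 lc_b_rc_9_2 lc_b_rc_7_0 lc_b_rc_8_0 lc_b_rc_1_3 lc_b_rc_9_2 lc_b_rc_7_0 lc_b_rc_6_1 lc_b_rc_6_1 lc_b_rc_6_1 lc_b_rc_9_0 lc_b_rc_8_2 lc_b_rc_6_1 lc_b_rc_8_2 lc_b_rc_7_0 lc_b_rc_1_3 lc_b_rc_6_1 lc_b_rc_8_2 lc_b_rc_9_0 lc_b_rc_8_0 lc_b_rc_7_4 lc_b_rc_9_2 lc_b_Cert_tree lc_b_rc_26_5 lc_b_rc_7_2 lc_b_rc_8_2 lc_b_rc_6_1 lc_b_rc_1_5 lc_b_rc_1_5 lc_b_rc_6_1 lc_b_rc_8_2 lc_b_rc_9_2 lc_b_rc_8_2 lc_b_rc_25_4 lc_b_rc_8_2 lc_b_rc_8_0 lc_b_rc_8_2 lc_b_rc_6_1 lc_b_rc_6_1 lc_b_rc_9_0) (@D3.rec (fun _ => (Cert rels S Gen.b)) lc_b_rc_10_2 lc_b_rc_8_2 lc_b_rc_9_2 lc_b_rc_1_5 lc_b_rc_8_2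 lc_b_rc_1_3 lc_b_rc_8_2 lc_b_rc_6_1 lc_b_rc_8_0 lc_b_rc_7_2 lc_b_rc_8_0 lc_b_rc_1_3 lc_b_rc_8_0 lc_b_rc_6_1 lc_b_rc_8_2 lc_b_rc_8_0 lc_b_rc_26_1 lc_b_rc_6_1 lc_b_rc_8_2 lc_b_rc_10_2 lc_b_rc_26_1 lc_b_rc_26_5 lc_b_rc_7_4 lc_b_rc_10_0 lc_b_rc_6_1 lc_b_rc_7_4 lc_b_rc_10_0 lc_b_rc_8_0 lc_b_rc_1_1 lc_b_rc_25_4 lc_b_rc_7_2 lc_b_rc_6_1 lc_b_rc_7_0 lc_b_rc_9_2 lc_b_rc_6_1 lc_b_rc_7_0 lc_b_rc_9_2 lc_b_rc_1_3 lc_b_rc_6_1 lc_b_rc_1_3 lc_b_rc_6_1 lc_b_rc_9_2 lc_b_rc_8_2 lc_b_rc_7_4 lc_b_rc_8_2 lc_b_rc_7_0 lc_b_rc_7_4 lc_b_rc_8_2 lc_b_rc_9_2 lc_b_rc_10_2 lc_b_rc_8_2 lc_b_rc_9_2 lc_b_rc_8_2 lc_b_rc_9_2 lc_b_rc_26_7 lc_b_rc_26_5 lc_b_rc_10_0 lc_b_rc_1_5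 lc_b_rc_8_2 lc_b_rc_9_2 lc_b_rc_9_2 lc_b_rc_9_2) (@D3.rec (fun _ => (Cert rels S Gen.b)) lc_b_rc_25_4 lc_b_rc_1_3 lc_b_rc_6_1 lc_b_rc_6_1 lc_b_rc_9_2 lc_b_rc_8_2 lc_b_rc_8_2 lc_b_rc_7_2 lc_b_rc_10_2 lc_b_rc_1_5 lc_b_rc_6_1 lc_b_rc_6_1 lc_b_rc_26_5 lc_b_rc_9_2 lc_b_rc_9_0 lc_b_rc_9_2 lc_b_rc_8_0 lc_b_rc_6_1 lc_b_rc_26_7 lc_b_rc_10_2 lc_b_rc_26_5 lc_b_rc_26_1 lc_b_rc_9_2 lc_b_rc_1_1 lc_b_rc_10_2 lc_b_rc_9_2 lc_b_rc_25_0 lc_b_rc_9_2 lc_b_rc_8_2 lc_b_rc_7_2 lc_b_rc_9_2 lc_b_rc_1_1 lc_b_rc_8_2 lc_b_rc_9_2 lc_b_rc_7_0 lc_b_rc_7_0 lc_b_rc_9_2 lc_b_rc_9_2 lc_b_rc_6_1 lc_b_rc_6_1 lc_b_rc_10_0 lc_b_rc_7_2 lc_b_rc_8_2 lc_b_rc_10_2 lc_b_rc_26_1 lc_b_rc_6_1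 lc_b_rc_6_1 lc_b_rc_9_2 lc_b_rc_9_2 lc_b_rc_26_1 lc_b_rc_7_0 lc_b_rc_6_1 lc_b_rc_8_0 lc_b_rc_7_0 lc_b_rc_10_2 lc_b_rc_1_1 lc_b_rc_8_2 lc_b_rc_26_1 lc_b_rc_25_4 lc_b_rc_6_1 lc_b_rc_8_2 lc_b_rc_26_7) (@D3.rec (fun _ => (Cert rels S Gen.b)) lc_b_rc_26_1 lc_b_rc_6_1 lc_b_rc_8_2 lc_b_rc_6_1 lc_b_rc_8_2 lc_b_rc_9_2 lc_b_rc_7_2 lc_b_rc_8_2 lc_b_rc_10_2 lc_b_rc_6_1 lc_b_rc_8_2 lc_b_rc_10_0 lc_b_rc_8_0 lc_b_rc_8_2 lc_b_rc_8_2 lc_b_rc_8_0 lc_b_rc_8_2 lc_b_rc_7_0 lc_b_rc_8_0 lc_b_rc_9_2 lc_b_rc_6_1 lc_b_rc_8_2 lc_b_rc_1_1 lc_b_rc_8_2 lc_b_rc_6_1 lc_b_rc_6_1 lc_b_rc_7_2 lc_b_rc_9_2 lc_b_rc_8_2 lc_b_rc_6_1 lc_b_rc_7_2 lc_b_rc_7_2 lc_b_rc_26_5 lc_b_rc_26_5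 lc_b_rc_9_2 lc_b_rc_26_5 lc_b_rc_26_5 lc_b_rc_25_16 lc_b_rc_6_1 lc_b_rc_9_2 lc_b_rc_6_1 lc_b_rc_6_1 lc_b_rc_8_0 lc_b_rc_10_2 lc_b_rc_9_0 lc_b_rc_1_1 lc_b_rc_8_0 lc_b_rc_10_2 lc_b_rc_25_8 lc_b_rc_9_2 lc_b_rc_26_7 lc_b_rc_8_2 lc_b_rc_8_2 lc_b_rc_8_2 lc_b_rc_26_1 lc_b_rc_6_1 lc_b_rc_9_2 lc_b_rc_7_2 lc_b_rc_26_5 lc_b_rc_26_7 lc_b_rc_1_3 lc_b_rc_8_2) (@D3.rec (fun _ => (Cert rels S Gen.b)) lc_b_rc_9_2 lc_b_rc_9_0 lc_b_rc_9_0 lc_b_rc_7_4 lc_b_rc_7_2 lc_b_rc_8_0 lc_b_rc_6_1 lc_b_rc_8_2 lc_b_rc_9_2 lc_b_rc_6_1 lc_b_rc_10_2 lc_b_rc_26_7 lc_b_rc_6_1 lc_b_rc_1_5 lc_b_rc_6_1 lc_b_rc_26_1 lc_b_rc_8_2 lc_b_rc_9_2 lc_b_rc_26_7 lc_b_rc_6_1 lc_b_rc_10_2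 lc_b_rc_9_0 lc_b_rc_26_5 lc_b_rc_8_2 lc_b_rc_9_2 lc_b_rc_25_4 lc_b_rc_8_2 lc_b_Cert_tree lc_b_rc_9_2 lc_b_rc_7_4 lc_b_rc_26_7 lc_b_rc_7_4 lc_b_rc_8_0 lc_b_rc_26_5 lc_b_rc_25_4 lc_b_rc_26_1 lc_b_rc_9_2 lc_b_rc_26_7 lc_b_rc_8_2 lc_b_rc_26_1 lc_b_rc_7_4 lc_b_rc_7_0 lc_b_rc_26_5 lc_b_rc_1_3 lc_b_rc_7_0 lc_b_rc_10_2 lc_b_rc_9_2 lc_b_rc_8_2 lc_b_rc_6_1 lc_b_rc_7_0 lc_b_rc_9_2 lc_b_rc_1_5 lc_b_rc_7_2 lc_b_rc_8_2 lc_b_rc_9_2 lc_b_rc_8_2 lc_b_rc_8_2 lc_b_rc_9_2 lc_b_rc_26_5 lc_b_rc_25_4 lc_b_rc_6_1 lc_b_rc_7_2) (@D3.rec (fun _ => (Cert rels S Gen.b)) lc_b_rc_8_0 lc_b_rc_8_0 lc_b_rc_6_1 lc_b_Cert_tree lc_b_rc_9_2 lc_b_rc_7_4 lc_b_rc_6_1 lc_b_rc_25_0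 lc_b_rc_9_2 lc_b_rc_8_0 lc_b_rc_6_1 lc_b_rc_9_2 lc_b_rc_10_2 lc_b_rc_9_2 lc_b_rc_9_0 lc_b_rc_25_0 lc_b_rc_9_0 lc_b_rc_8_2 lc_b_rc_9_2 lc_b_rc_25_0 lc_b_rc_8_2 lc_b_rc_26_5 lc_b_rc_8_2 lc_b_rc_7_4 lc_b_rc_8_2 lc_b_rc_8_2 lc_b_Cert_tree lc_b_rc_7_2 lc_b_rc_10_0 lc_b_rc_6_1 lc_b_rc_6_1 lc_b_rc_9_2 lc_b_rc_9_0 lc_b_rc_10_2 lc_b_rc_6_1 lc_b_rc_9_2 lc_b_rc_6_1 lc_b_rc_26_5 lc_b_rc_6_1 lc_b_rc_6_1 lc_b_rc_1_1 lc_b_rc_7_2 lc_b_rc_6_1 lc_b_rc_6_1 lc_b_rc_6_1 lc_b_rc_7_4 lc_b_rc_6_1 lc_b_rc_7_4 lc_b_rc_26_1 lc_b_rc_9_2 lc_b_rc_6_1 lc_b_rc_8_2 lc_b_rc_1_3 lc_b_rc_9_2 lc_b_rc_9_2 lc_b_rc_8_2 lc_b_rc_25_4 lc_b_rc_6_1 lc_b_rc_26_1 lc_b_rc_7_2 lc_b_rc_6_1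 lc_b_rc_9_2) (@D3.rec (fun _ => (Cert rels S Gen.b)) lc_b_rc_8_2 lc_b_rc_10_2 lc_b_rc_8_2 lc_b_rc_25_0 lc_b_rc_6_1 lc_b_rc_26_1 lc_b_rc_8_2 lc_b_rc_1_5 lc_b_rc_8_2 lc_b_rc_6_1 lc_b_rc_8_2 lc_b_rc_8_0 lc_b_rc_9_2 lc_b_rc_9_2 lc_b_rc_26_7 lc_b_rc_26_1 lc_b_rc_8_2 lc_b_rc_9_0 lc_b_rc_8_2 lc_b_rc_9_2 lc_b_rc_7_0 lc_b_rc_26_1 lc_b_rc_8_2 lc_b_rc_8_2 lc_b_rc_6_1 lc_b_rc_26_1 lc_b_rc_9_2 lc_b_rc_8_2 lc_b_rc_8_2 lc_b_rc_25_4 lc_b_rc_8_2 lc_b_rc_6_1 lc_b_rc_9_2 lc_b_rc_7_0 lc_b_rc_1_5 lc_b_rc_8_2 lc_b_rc_8_2 lc_b_rc_25_4 lc_b_rc_6_1 lc_b_rc_26_5 lc_b_rc_7_4 lc_b_rc_6_1 lc_b_rc_26_5 lc_b_rc_7_0 lc_b_rc_9_0 lc_b_rc_8_0 lc_b_rc_9_2 lc_b_rc_6_1 lc_b_rc_26_5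 lc_b_rc_6_1 lc_b_rc_25_4 lc_b_rc_10_2 lc_b_rc_25_0 lc_b_rc_26_5 lc_b_rc_1_1 lc_b_rc_8_0 lc_b_rc_7_0 lc_b_rc_26_1 lc_b_rc_8_2 lc_b_rc_6_1 lc_b_rc_7_2 lc_b_rc_6_1) (@D3.rec (fun _ => (Cert rels S Gen.b)) lc_b_rc_10_2 lc_b_rc_9_2 lc_b_rc_1_1 lc_b_rc_9_2 lc_b_rc_8_2 lc_b_rc_9_2 lc_b_rc_10_0 lc_b_rc_8_0 lc_b_rc_9_2 lc_b_rc_1_5 lc_b_rc_8_2 lc_b_rc_6_1 lc_b_rc_1_1 lc_b_rc_9_0 lc_b_rc_9_2 lc_b_rc_9_2 lc_b_rc_8_2 lc_b_rc_9_0 lc_b_rc_9_0 lc_b_rc_25_4 lc_b_rc_26_1 lc_b_rc_10_2 lc_b_rc_1_5 lc_b_rc_6_1 lc_b_rc_7_4 lc_b_rc_26_1 lc_b_rc_25_0 lc_b_rc_1_3 lc_b_rc_9_0 lc_b_rc_8_2 lc_b_rc_9_2 lc_b_rc_7_0 lc_b_rc_9_2 lc_b_rc_9_2 lc_b_rc_10_2 lc_b_rc_8_2 lc_b_rc_1_1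 lc_b_rc_25_4 lc_b_rc_6_1 lc_b_rc_9_2 lc_b_rc_8_2 lc_b_rc_9_2 lc_b_rc_1_5 lc_b_rc_7_2 lc_b_rc_8_2 lc_b_rc_25_4 lc_b_rc_26_7 lc_b_rc_7_4 lc_b_rc_9_2 lc_b_rc_26_1 lc_b_rc_10_2 lc_b_rc_9_0 lc_b_rc_10_2 lc_b_rc_26_1 lc_b_rc_7_0 lc_b_rc_1_3 lc_b_rc_26_7 lc_b_rc_6_1 lc_b_rc_8_2 lc_b_rc_9_0 lc_b_rc_8_0 lc_b_rc_1_5) (@D3.rec (fun _ => (Cert rels S Gen.b)) lc_b_rc_9_2 lc_b_rc_6_1 lc_b_rc_8_0 lc_b_rc_10_0 lc_b_rc_9_2 lc_b_rc_9_2 lc_b_rc_26_7 lc_b_rc_7_4 lc_b_rc_8_2 lc_b_rc_8_2 lc_b_rc_8_2 lc_b_rc_9_2 lc_b_rc_6_1 lc_b_rc_8_2 lc_b_rc_8_2 lc_b_rc_26_5 lc_b_rc_9_2 lc_b_rc_6_1 lc_b_rc_7_0 lc_b_rc_26_7 lc_b_rc_1_5 lc_b_rc_8_2 lc_b_rc_1_1 lc_b_rc_8_0 lc_b_rc_9_2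 lc_b_rc_9_2 lc_b_rc_7_2 lc_b_rc_9_0 lc_b_rc_9_2 lc_b_rc_7_2 lc_b_rc_8_2 lc_b_rc_6_1 lc_b_rc_9_0 lc_b_rc_7_4 lc_b_rc_8_0 lc_b_rc_26_7 lc_b_rc_8_2 lc_b_rc_8_2 lc_b_rc_7_0 lc_b_rc_1_3 lc_b_rc_10_2 lc_b_rc_9_2 lc_b_rc_7_2 lc_b_rc_9_0 lc_b_rc_8_2 lc_b_rc_6_1 lc_b_rc_7_0 lc_b_rc_6_1 lc_b_rc_6_1 lc_b_rc_6_1 lc_b_rc_25_16 lc_b_rc_8_2 lc_b_rc_6_1 lc_b_rc_9_2 lc_b_rc_6_1 lc_b_rc_9_2 lc_b_rc_8_2 lc_b_rc_26_1 lc_b_rc_1_1 lc_b_rc_26_1 lc_b_rc_10_2 lc_b_rc_9_2) (@D3.rec (fun _ => (Cert rels S Gen.b)) lc_b_rc_8_2 lc_b_rc_10_2 lc_b_rc_1_3 lc_b_rc_1_1 lc_b_rc_6_1 lc_b_rc_1_5 lc_b_rc_25_4 lc_b_rc_7_4 lc_b_rc_25_4 lc_b_rc_8_2 lc_b_rc_9_0 lc_b_rc_8_2 lc_b_rc_7_0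 lc_b_rc_9_0 lc_b_rc_6_1 lc_b_rc_26_5 lc_b_rc_26_5 lc_b_rc_26_5 lc_b_rc_10_2 lc_b_rc_8_2 lc_b_rc_6_1 lc_b_rc_6_1 lc_b_rc_9_2 lc_b_rc_25_8 lc_b_rc_9_2 lc_b_rc_8_2 lc_b_rc_8_2 lc_b_rc_9_2 lc_b_rc_9_2 lc_b_rc_9_2 lc_b_rc_8_2 lc_b_rc_6_1 lc_b_rc_7_4 lc_b_rc_26_5 lc_b_rc_6_1 lc_b_rc_9_2 lc_b_rc_8_0 lc_b_rc_6_1 lc_b_rc_25_4 lc_b_rc_9_0 lc_b_rc_9_0 lc_b_rc_8_2 lc_b_rc_8_2 lc_b_rc_8_2 lc_b_rc_8_2 lc_b_rc_8_2 lc_b_rc_25_4 lc_b_rc_8_2 lc_b_rc_10_0 lc_b_rc_10_0 lc_b_rc_8_2 lc_b_rc_9_0 lc_b_rc_6_1 lc_b_rc_9_0 lc_b_rc_6_1 lc_b_rc_7_4 lc_b_rc_26_5 lc_b_rc_6_1 lc_b_rc_6_1 lc_b_rc_8_2 lc_b_rc_6_1 lc_b_rc_6_1) (@D3.rec (fun _ => (Cert rels S Gen.b)) lc_b_rc_6_1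 lc_b_rc_7_2 lc_b_rc_1_1 lc_b_rc_9_2 lc_b_rc_8_2 lc_b_rc_9_2 lc_b_rc_1_1 lc_b_rc_25_16 lc_b_rc_8_2 lc_b_rc_1_5 lc_b_Cert_tree lc_b_rc_10_2 lc_b_rc_1_3 lc_b_rc_7_4 lc_b_rc_8_2 lc_b_rc_8_0 lc_b_rc_8_0 lc_b_rc_8_0 lc_b_rc_10_2 lc_b_rc_8_2 lc_b_rc_7_0 lc_b_rc_7_2 lc_b_rc_6_1 lc_b_rc_8_2 lc_b_rc_7_0 lc_b_rc_6_1 lc_b_rc_7_4 lc_b_rc_1_3 lc_b_rc_6_1 lc_b_rc_1_3 lc_b_rc_8_2 lc_b_rc_26_1 lc_b_rc_25_8 lc_b_rc_26_5 lc_b_rc_7_2 lc_b_rc_7_2 lc_b_rc_9_2 lc_b_rc_1_3 lc_b_rc_8_2 lc_b_rc_9_2 lc_b_rc_26_1 lc_b_rc_6_1 lc_b_rc_26_1 lc_b_rc_6_1 lc_b_rc_7_4 lc_b_rc_8_0 lc_b_rc_25_0 lc_b_rc_9_2 lc_b_rc_8_2 lc_b_rc_26_7 lc_b_rc_26_5 lc_b_rc_6_1 lc_b_rc_6_1 lc_b_rc_9_2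 lc_b_rc_26_5 lc_b_rc_7_2 lc_b_rc_7_2 lc_b_rc_9_2 lc_b_rc_7_0 lc_b_rc_9_0 lc_b_rc_25_4 lc_b_rc_25_0) (@D3.rec (fun _ => (Cert rels S Gen.b)) lc_b_rc_26_7 lc_b_rc_26_5 lc_b_rc_6_1 lc_b_rc_6_1 lc_b_rc_6_1 lc_b_rc_1_5 lc_b_rc_6_1 lc_b_rc_6_1 lc_b_rc_10_2 lc_b_rc_6_1 lc_b_rc_9_2 lc_b_rc_10_0 lc_b_rc_6_1 lc_b_rc_6_1 lc_b_rc_9_0 lc_b_rc_9_2 lc_b_rc_7_2 lc_b_rc_10_2 lc_b_rc_26_7 lc_b_rc_10_2 lc_b_rc_8_2 lc_b_rc_6_1 lc_b_rc_9_2 lc_b_rc_10_0 lc_b_rc_1_3 lc_b_rc_7_0 lc_b_rc_8_2 lc_b_rc_8_2 lc_b_rc_9_2 lc_b_rc_1_1 lc_b_rc_1_1 lc_b_rc_6_1 lc_b_rc_6_1 lc_b_rc_8_2 lc_b_rc_6_1 lc_b_rc_8_2 lc_b_rc_6_1 lc_b_rc_26_5 lc_b_rc_7_0 lc_b_rc_7_4 lc_b_rc_8_0 lc_b_rc_1_1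 lc_b_rc_7_0 lc_b_rc_1_3 lc_b_rc_9_2 lc_b_rc_6_1 lc_b_rc_1_1 lc_b_rc_25_0 lc_b_rc_8_2 lc_b_rc_7_0 lc_b_rc_25_4 lc_b_rc_9_2 lc_b_rc_7_0 lc_b_rc_7_4 lc_b_rc_26_5 lc_b_rc_6_1 lc_b_rc_25_4 lc_b_rc_6_1 lc_b_rc_10_2 lc_b_rc_26_1 lc_b_rc_26_7 lc_b_rc_6_1) (@D3.rec (fun _ => (Cert rels S Gen.b)) lc_b_rc_8_2 lc_b_rc_8_2 lc_b_rc_9_2 lc_b_rc_8_2 lc_b_rc_8_2 lc_b_rc_26_1 lc_b_rc_9_2 lc_b_rc_1_5 lc_b_rc_25_16 lc_b_rc_6_1 lc_b_rc_9_2 lc_b_rc_6_1 lc_b_rc_10_0 lc_b_rc_8_2 lc_b_rc_1_1 lc_b_rc_10_2 lc_b_rc_25_4 lc_b_rc_8_2 lc_b_rc_9_2 lc_b_rc_6_1 lc_b_rc_9_2 lc_b_rc_1_1 lc_b_rc_6_1 lc_b_rc_7_0 lc_b_rc_1_5 lc_b_rc_9_2 lc_b_rc_1_3 lc_b_rc_6_1 lc_b_rc_26_1 lc_b_rc_7_2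 lc_b_rc_9_2 lc_b_rc_10_2 lc_b_rc_8_2 lc_b_rc_26_7 lc_b_rc_7_4 lc_b_rc_6_1 lc_b_rc_25_0 lc_b_rc_25_16 lc_b_rc_9_2 lc_b_rc_8_0 lc_b_rc_7_2 lc_b_rc_25_0 lc_b_rc_6_1 lc_b_rc_6_1 lc_b_rc_9_2 lc_b_rc_9_2 lc_b_rc_9_2 lc_b_rc_10_2 lc_b_rc_10_2 lc_b_rc_6_1 lc_b_rc_6_1 lc_b_rc_9_2 lc_b_rc_10_2 lc_b_rc_10_0 lc_b_rc_10_2 lc_b_rc_9_2 lc_b_rc_6_1 lc_b_rc_6_1 lc_b_rc_6_1 lc_b_rc_9_2 lc_b_rc_6_1 lc_b_rc_1_5) (@D3.rec (fun _ => (Cert rels S Gen.b)) lc_b_rc_1_5 lc_b_rc_8_0 lc_b_rc_6_1 lc_b_rc_1_5 lc_b_rc_8_2 lc_b_rc_6_1 lc_b_rc_8_2 lc_b_rc_7_4 lc_b_rc_26_5 lc_b_rc_8_2 lc_b_rc_8_2 lc_b_rc_6_1 lc_b_rc_1_3 lc_b_rc_26_1 lc_b_rc_7_0 lc_b_rc_6_1 lc_b_rc_9_2 lc_b_rc_6_1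 lc_b_rc_9_2 lc_b_rc_9_2 lc_b_rc_26_1 lc_b_rc_26_5 lc_b_rc_8_0 lc_b_rc_10_2 lc_b_rc_8_2 lc_b_rc_9_0 lc_b_rc_8_2 lc_b_rc_10_2 lc_b_rc_10_2 lc_b_rc_7_0 lc_b_rc_9_2 lc_b_rc_6_1 lc_b_rc_9_2 lc_b_rc_26_5 lc_b_rc_8_2 lc_b_rc_8_2 lc_b_rc_6_1 lc_b_rc_8_2 lc_b_rc_8_2 lc_b_rc_9_2 lc_b_rc_9_0 lc_b_rc_10_2 lc_b_rc_6_1 lc_b_rc_8_2 lc_b_rc_25_16 lc_b_rc_8_2 lc_b_rc_26_7 lc_b_rc_9_2 lc_b_rc_1_3 lc_b_rc_8_0 lc_b_rc_6_1 lc_b_rc_1_1 lc_b_rc_7_2 lc_b_rc_6_1 lc_b_rc_8_2 lc_b_rc_10_2 lc_b_rc_8_2 lc_b_rc_6_1 lc_b_rc_26_1 lc_b_rc_9_0 lc_b_rc_8_2 lc_b_rc_7_4) (@D3.rec (fun _ => (Cert rels S Gen.b)) lc_b_rc_7_0 lc_b_rc_9_0 lc_b_rc_9_2 lc_b_rc_9_2 lc_b_rc_10_0 lc_b_rc_26_7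 lc_b_rc_9_2 lc_b_rc_25_0 lc_b_rc_9_2 lc_b_rc_25_4 lc_b_rc_6_1 lc_b_rc_6_1 lc_b_rc_9_2 lc_b_rc_7_2 lc_b_rc_9_0 lc_b_rc_9_2 lc_b_rc_1_5 lc_b_rc_26_5 lc_b_rc_8_2 lc_b_rc_9_2 lc_b_rc_6_1 lc_b_rc_25_16 lc_b_rc_25_4 lc_b_rc_6_1 lc_b_rc_26_5 lc_b_rc_26_5 lc_b_rc_1_1 lc_b_rc_8_0 lc_b_rc_9_2 lc_b_rc_8_0 lc_b_rc_6_1 lc_b_rc_7_4 lc_b_rc_25_16 lc_b_rc_8_2 lc_b_rc_6_1 lc_b_rc_9_2 lc_b_rc_26_5 lc_b_rc_25_0 lc_b_rc_25_0 lc_b_rc_6_1 lc_b_rc_8_2 lc_b_rc_9_2 lc_b_rc_9_2 lc_b_rc_9_2 lc_b_rc_9_2 lc_b_rc_9_2 lc_b_rc_6_1 lc_b_rc_10_0 lc_b_rc_9_2 lc_b_rc_9_0 lc_b_rc_6_1 lc_b_rc_9_2 lc_b_rc_26_5 lc_b_rc_9_2 lc_b_rc_8_2 lc_b_rc_26_1 lc_b_rc_7_0 lc_b_rc_8_2 lc_b_rc_6_1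 lc_b_rc_7_0 lc_b_rc_7_4 lc_b_rc_9_2) (@D3.rec (fun _ => (Cert rels S Gen.b)) lc_b_rc_6_1 lc_b_rc_1_3 lc_b_rc_8_2 lc_b_rc_6_1 lc_b_rc_1_5 lc_b_rc_6_1 lc_b_rc_8_0 lc_b_rc_1_3 lc_b_rc_9_2 lc_b_rc_7_4 lc_b_rc_8_2 lc_b_rc_9_2 lc_b_rc_26_5 lc_b_rc_6_1 lc_b_rc_7_4 lc_b_rc_6_1 lc_b_rc_1_1 lc_b_rc_7_2 lc_b_rc_6_1 lc_b_rc_8_2 lc_b_rc_8_2 lc_b_rc_7_0 lc_b_rc_8_2 lc_b_rc_8_0 lc_b_rc_9_2 lc_b_rc_26_5 lc_b_rc_6_1 lc_b_rc_10_2 lc_b_rc_7_2 lc_b_rc_8_2 lc_b_rc_8_0 lc_b_rc_8_2 lc_b_rc_6_1 lc_b_rc_7_2 lc_b_rc_10_0 lc_b_rc_26_5 lc_b_rc_26_5 lc_b_rc_6_1 lc_b_rc_8_2 lc_b_rc_6_1 lc_b_rc_8_2 lc_b_rc_8_2 lc_b_rc_7_2 lc_b_rc_25_0 lc_b_rc_8_2 lc_b_rc_9_2 lc_b_rc_10_2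 lc_b_rc_7_2 lc_b_rc_25_0 lc_b_rc_7_2 lc_b_rc_6_1 lc_b_rc_8_2 lc_b_rc_8_2 lc_b_rc_8_2 lc_b_rc_7_0 lc_b_rc_8_2 lc_b_rc_8_2 lc_b_rc_26_5 lc_b_rc_8_0 lc_b_rc_26_5 lc_b_rc_9_2 lc_b_rc_8_2) (@D3.rec (fun _ => (Cert rels S Gen.b)) lc_b_rc_6_1 lc_b_rc_1_3 lc_b_rc_8_2 lc_b_rc_26_5 lc_b_rc_7_0 lc_b_rc_1_1 lc_b_rc_6_1 lc_b_rc_26_5 lc_b_rc_26_1 lc_b_rc_7_4 lc_b_rc_6_1 lc_b_rc_26_5 lc_b_rc_9_2 lc_b_rc_6_1 lc_b_rc_8_2 lc_b_rc_1_3 lc_b_rc_9_2 lc_b_rc_7_0 lc_b_rc_7_4 lc_b_rc_9_2 lc_b_rc_7_0 lc_b_rc_6_1 lc_b_rc_25_0 lc_b_rc_7_0 lc_b_rc_8_2 lc_b_rc_6_1 lc_b_rc_6_1 lc_b_rc_8_2 lc_b_rc_26_5 lc_b_rc_8_2 lc_b_rc_25_4 lc_b_rc_26_1 lc_b_rc_26_1 lc_b_rc_9_2 lc_b_rc_6_1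 lc_b_rc_9_0 lc_b_rc_7_2 lc_b_rc_7_0 lc_b_rc_8_2 lc_b_rc_8_2 lc_b_rc_6_1 lc_b_rc_10_2 lc_b_rc_9_0 lc_b_rc_7_0 lc_b_rc_6_1 lc_b_rc_9_2 lc_b_rc_8_2 lc_b_rc_6_1 lc_b_rc_9_2 lc_b_rc_1_5 lc_b_rc_10_2 lc_b_rc_8_2 lc_b_rc_9_2 lc_b_rc_8_2 lc_b_rc_25_4 lc_b_rc_10_2 lc_b_rc_6_1 lc_b_rc_8_2 lc_b_rc_6_1 lc_b_rc_6_1 lc_b_rc_7_0 lc_b_rc_9_0) (@D3.rec (fun _ => (Cert rels S Gen.b)) lc_b_rc_8_2 lc_b_rc_6_1 lc_b_rc_26_7 lc_b_rc_7_0 lc_b_rc_7_0 lc_b_rc_26_7 lc_b_rc_7_2 lc_b_rc_8_2 lc_b_rc_6_1 lc_b_rc_10_2 lc_b_rc_8_2 lc_b_rc_7_2 lc_b_rc_9_2 lc_b_rc_8_2 lc_b_rc_8_2 lc_b_rc_1_5 lc_b_rc_25_12 lc_b_rc_10_2 lc_b_rc_8_2 lc_b_rc_7_0 lc_b_rc_25_4 lc_b_rc_10_2 lc_b_rc_26_5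 lc_b_rc_9_2 lc_b_rc_10_2 lc_b_rc_8_0 lc_b_rc_9_2 lc_b_rc_8_2 lc_b_rc_8_2 lc_b_rc_8_2 lc_b_rc_8_2 lc_b_rc_7_0 lc_b_rc_8_2 lc_b_rc_9_0 lc_b_rc_7_4 lc_b_rc_26_1 lc_b_rc_8_2 lc_b_rc_6_1 lc_b_rc_7_2 lc_b_rc_7_2 lc_b_rc_6_1 lc_b_rc_6_1 lc_b_rc_8_2 lc_b_rc_8_2 lc_b_rc_6_1 lc_b_rc_26_1 lc_b_rc_8_0 lc_b_rc_6_1 lc_b_rc_7_0 lc_b_rc_7_2 lc_b_rc_26_1 lc_b_rc_8_2 lc_b_rc_7_2 lc_b_rc_7_2 lc_b_rc_26_5 lc_b_rc_6_1 lc_b_rc_6_1 lc_b_rc_1_5 lc_b_rc_7_2 lc_b_rc_9_0 lc_b_rc_6_1 lc_b_rc_9_2) (@D3.rec (fun _ => (Cert rels S Gen.b)) lc_b_rc_1_5 lc_b_rc_26_7 lc_b_rc_9_0 lc_b_rc_9_2 lc_b_rc_7_2 lc_b_rc_8_0 lc_b_rc_8_2 lc_b_rc_25_0 lc_b_rc_10_2 lc_b_rc_6_1 lc_b_rc_8_2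 lc_b_rc_7_0 lc_b_rc_25_0 lc_b_rc_26_5 lc_b_Cert_tree lc_b_rc_9_2 lc_b_rc_8_2 lc_b_rc_9_2 lc_b_rc_9_2 lc_b_rc_7_4 lc_b_rc_6_1 lc_b_rc_8_2 lc_b_rc_25_4 lc_b_rc_8_0 lc_b_rc_6_1 lc_b_rc_9_0 lc_b_rc_7_4 lc_b_rc_1_3 lc_b_rc_6_1 lc_b_rc_26_1 lc_b_rc_6_1 lc_b_rc_6_1 lc_b_rc_8_2 lc_b_rc_7_4 lc_b_rc_6_1 lc_b_rc_8_2 lc_b_rc_8_0 lc_b_rc_6_1 lc_b_rc_1_1 lc_b_rc_8_2 lc_b_rc_8_2 lc_b_rc_10_0 lc_b_rc_25_16 lc_b_rc_9_2 lc_b_rc_7_0 lc_b_rc_6_1 lc_b_rc_8_0 lc_b_rc_8_2 lc_b_rc_7_4 lc_b_rc_8_2 lc_b_rc_6_1 lc_b_rc_8_2 lc_b_rc_6_1 lc_b_rc_7_4 lc_b_rc_9_2 lc_b_rc_6_1 lc_b_rc_1_3 lc_b_rc_10_0 lc_b_rc_9_2 lc_b_rc_26_5 lc_b_rc_6_1 lc_b_rc_7_4)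
def ce_b : Pt → (Cert rels S Gen.b) := @Pt.rec (fun _ => (Cert rels S Gen.b)) (@D1.rec (fun _ => D2 → D3 → (Cert rels S Gen.b)) ce_b_0 ce_b_1 ce_b_2 ce_b_3 ce_b_4 ce_b_5 ce_b_6 ce_b_7 ce_b_8 ce_b_9 ce_b_10 ce_b_11 ce_b_12 ce_b_13 ce_b_14 ce_b_15 ce_b_16 ce_b_17 ce_b_18 ce_b_19 ce_b_20 ce_b_21 ce_b_22 ce_b_23 ce_b_24 ce_b_25 ce_b_26 ce_b_27 ce_b_28 ce_b_29 ce_b_30 ce_b_31 ce_b_32)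
def z3_b : D3 → Nat := fun _ => 0
def z2_b : D2 → D3 → Nat := fun _ _ => 0
def sd_b_0 : D2 → D3 → Nat := @D2.rec (fun _ => D3 → Nat) z3_b z3_b z3_b z3_b z3_b z3_b z3_b z3_b z3_b z3_b z3_b z3_b z3_b z3_b z3_b z3_b z3_b z3_b z3_b z3_b z3_b z3_b z3_b z3_b z3_b z3_b z3_b z3_b z3_b z3_b z3_b z3_b z3_b z3_b z3_b z3_b z3_b z3_b z3_b z3_b z3_b z3_b z3_b z3_b z3_b z3_b z3_b z3_b z3_b z3_b z3_b z3_b z3_b (@D3.rec (fun _ => Nat) 0 0 0 0 0 0 0 0 0 0 0 0 0 0 0 0 0 0 0 0 0 0 0 0 0 0 0 0 0 0 0 0 0 0 0 0 0 0 0 0 0 0 0 0 0 0 0 0 79 0 0 0 0 0 0 0 0 0 0 0 0 0) z3_b z3_b z3_b z3_b z3_b z3_b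
def sd_b_1 : D2 → D3 → Nat := @D2.rec (fun _ => D3 → Nat) z3_b z3_b z3_b z3_b z3_b z3_b z3_b z3_b z3_b z3_b z3_b z3_b z3_b z3_b z3_b z3_b z3_b z3_b z3_b z3_b z3_b z3_b z3_b z3_b z3_b z3_b z3_b z3_b z3_b z3_b z3_b z3_b z3_b z3_b z3_b z3_b z3_b z3_b z3_b (@D3.rec (fun _ => Nat) 0 0 0 0 0 0 0 0 0 0 0 0 0 0 0 0 0 0 0 0 0 0 0 0 0 0 0 0 0 0 0 0 0 0 0 0 0 0 0 18 0 0 0 0 0 0 0 0 0 0 0 0 0 0 0 0 0 0 0 0 0 0) z3_b z3_b (@D3.rec (fun _ => Nat) 0 0 0 0 0 0 0 0 0 0 0 0 0 0 0 0 0 0 0 0 0 0 0 57 0 0 0 0 0 0 0 0 0 0 0 0 0 0 0 0 0 0 0 0 0 0 0 0 0 0 0 0 0 0 0 0 0 0 0 0 0 0) z3_b z3_b z3_b (@D3.rec (fun _ => Nat) 0 0 0 0 0 0 0 0 0 0 0 0 0 0 0 0 0 0 0 0 0 0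 0 0 0 0 0 0 0 0 0 0 0 99 0 0 0 0 0 0 0 0 0 0 0 0 0 0 0 0 0 0 0 0 0 0 0 0 0 0 0 0) z3_b z3_b z3_b z3_b z3_b z3_b z3_b z3_b z3_b z3_b z3_b z3_b z3_b
def sd_b_3 : D2 → D3 → Nat := @D2.rec (fun _ => D3 → Nat) z3_b z3_b z3_b z3_b (@D3.rec (fun _ => Nat) 0 0 0 0 0 0 0 118 0 0 0 0 0 0 0 0 0 0 0 0 0 0 0 0 0 0 0 0 0 0 0 0 0 0 0 0 0 0 0 0 0 0 0 0 0 0 0 0 0 0 0 0 0 0 0 0 0 0 0 0 0 0) z3_b z3_b z3_b z3_b z3_b z3_b z3_b z3_b z3_b z3_b z3_b z3_b z3_b (@D3.rec (fun _ => Nat) 0 0 0 0 0 0 0 0 0 0 0 0 0 0 0 0 0 0 0 0 0 0 0 0 0 0 0 0 0 0 357 0 0 0 0 0 0 0 0 0 0 0 0 0 0 0 0 0 0 0 0 0 0 0 0 0 0 0 0 0 0 0) z3_b z3_b z3_b z3_b z3_b z3_b z3_b z3_b z3_b z3_b z3_b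 z3_b z3_b z3_b z3_b z3_b z3_b z3_b z3_b z3_b z3_b z3_b z3_b z3_b z3_b (@D3.rec (fun _ => Nat) 0 0 0 0 0 0 0 0 0 0 0 0 0 0 0 0 0 0 0 0 0 0 0 0 0 0 0 0 0 0 0 0 0 0 0 0 0 0 0 0 0 0 0 0 68 0 0 0 0 0 0 0 0 0 0 0 0 0 0 0 0 0) (@D3.rec (fun _ => Nat) 0 0 0 0 0 0 0 0 0 0 0 0 0 0 0 0 0 0 0 0 311 0 0 0 0 0 0 0 0 0 0 0 0 0 0 0 0 0 0 0 0 0 0 0 0 0 0 0 0 0 0 0 0 0 0 0 0 0 0 0 0 0) z3_b z3_b z3_b z3_b z3_b (@D3.rec (fun _ => Nat) 0 0 0 0 0 0 0 0 0 0 0 0 0 0 0 0 0 0 0 0 0 0 0 0 0 0 0 0 0 0 0 0 0 0 0 0 0 0 0 0 0 0 0 0 0 0 0 0 0 0 0 235 0 0 0 0 0 0 0 0 0 0) z3_b z3_b z3_b z3_b z3_b z3_b z3_b z3_b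
def sd_b_4 : D2 → D3 → Nat := @D2.rec (fun _ => D3 → Nat) z3_b z3_b z3_b z3_b z3_b z3_b z3_b z3_b z3_b z3_b z3_b z3_b z3_b z3_b z3_b z3_b z3_b z3_b z3_b z3_b z3_b z3_b z3_b z3_b z3_b z3_b z3_b z3_b z3_b z3_b z3_b z3_b z3_b z3_b z3_b z3_b z3_b z3_b z3_b z3_b z3_b z3_b z3_b (@D3.rec (fun _ => Nat) 0 0 0 0 0 0 0 0 0 0 0 0 0 0 0 0 0 0 0 0 0 0 0 0 0 0 0 0 0 0 0 0 0 0 0 0 0 0 0 0 0 0 0 0 0 0 0 0 0 0 0 0 0 0 0 0 0 0 0 0 0 1168) z3_b z3_b z3_b (@D3.rec (fun _ => Nat) 0 0 0 0 0 0 0 0 0 0 0 0 0 0 0 0 0 0 0 0 0 0 0 0 0 0 0 0 0 0 0 0 0 0 0 0 0 0 0 0 0 0 0 0 0 1332 0 0 0 0 0 0 0 0 0 0 0 0 0 0 0 0) (@D3.rec (fun _ => Nat) 0 0 0 0 0 0 0 0 0 0 0 0 0 0 1245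 0 0 0 0 0 0 0 0 0 0 0 0 0 0 0 0 0 0 0 0 0 0 0 0 0 0 0 0 0 0 0 0 0 0 0 0 0 0 0 0 0 0 0 0 0 0 0) z3_b z3_b z3_b z3_b z3_b z3_b z3_b z3_b z3_b z3_b z3_b
def sd_b_5 : D2 → D3 → Nat := @D2.rec (fun _ => D3 → Nat) z3_b z3_b z3_b z3_b z3_b z3_b z3_b z3_b (@D3.rec (fun _ => Nat) 0 0 0 0 0 0 0 0 2585 0 0 0 0 0 0 0 0 0 0 0 0 0 0 0 0 0 0 0 0 0 0 0 0 0 0 0 0 0 0 0 0 0 0 0 0 0 0 0 0 0 0 0 0 0 0 0 0 0 0 0 0 0) z3_b z3_b z3_b z3_b z3_b z3_b z3_b z3_b z3_b z3_b z3_b z3_b z3_b z3_b z3_b z3_b z3_b z3_b z3_b z3_b z3_b z3_b z3_b z3_b z3_b z3_b z3_b z3_b (@D3.rec (fun _ => Nat) 0 0 0 0 0 0 0 0 0 0 0 0 0 0 0 0 0 0 0 0 0 0 0 0 0 0 0 0 0 0 0 0 0 0 0 0 0 0 0 0 0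 0 0 0 0 0 0 0 381 0 0 0 0 0 0 0 0 0 0 0 0 0) z3_b z3_b z3_b z3_b z3_b z3_b (@D3.rec (fun _ => Nat) 0 0 0 0 0 0 0 0 0 0 0 0 0 0 0 0 0 0 0 0 0 0 0 0 0 0 0 0 0 0 0 0 0 0 0 623 0 0 0 0 0 0 0 0 0 0 0 0 0 0 0 0 0 0 0 0 0 0 0 0 0 0) z3_b z3_b z3_b z3_b (@D3.rec (fun _ => Nat) 0 0 0 0 0 0 0 0 0 0 0 0 0 0 0 0 0 0 0 0 0 0 0 0 0 0 0 0 0 0 0 0 2584 0 0 0 0 0 0 0 0 0 0 0 0 0 0 0 0 0 0 0 0 0 0 0 0 0 0 0 0 0) (@D3.rec (fun _ => Nat) 0 0 0 0 0 0 0 0 0 0 0 0 0 0 0 0 0 0 0 0 0 0 0 0 0 0 0 0 0 0 0 0 0 0 0 0 0 0 0 0 0 0 0 0 0 0 1080 0 0 0 0 0 0 0 0 0 0 0 0 0 0 0) z3_b z3_b z3_b z3_b z3_b z3_b z3_b z3_b z3_b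
def sd_b_6 : D2 → D3 → Nat := @D2.rec (fun _ => D3 → Nat) z3_b (@D3.rec (fun _ => Nat) 0 0 0 0 0 0 0 0 0 0 0 0 0 0 0 0 0 0 0 0 0 0 0 0 0 0 0 0 0 0 0 0 0 0 0 0 0 0 0 0 0 0 2036 0 0 0 0 0 0 0 0 0 0 0 0 0 0 0 0 0 0 0) z3_b z3_b z3_b z3_b z3_b z3_b (@D3.rec (fun _ => Nat) 0 0 0 0 0 0 0 0 0 0 0 1056 0 0 0 0 0 0 0 0 0 0 0 0 0 0 0 0 0 0 0 0 0 0 0 0 0 0 0 0 0 0 0 0 0 0 0 0 0 0 0 0 0 0 0 0 0 0 0 0 0 0) (@D3.rec (fun _ => Nat) 0 0 0 0 0 0 0 0 0 0 0 0 0 0 0 0 0 0 0 0 0 0 0 0 0 0 0 0 0 0 0 0 0 0 0 0 0 0 0 0 0 0 0 0 0 0 0 0 0 0 469 736 0 0 0 0 0 0 0 0 0 0) z3_b (@D3.rec (fun _ => Nat) 0 0 0 0 0 0 0 0 0 0 0 0 0 0 0 0 547 0 0 0 0 0 0 0 0 0 0 0 0 0 0 0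 0 0 0 0 0 0 0 0 0 0 0 0 0 0 0 0 0 0 0 0 0 0 0 0 0 0 0 0 0 0) z3_b z3_b z3_b z3_b z3_b z3_b z3_b z3_b (@D3.rec (fun _ => Nat) 0 0 0 0 0 0 0 0 0 0 0 0 0 0 0 0 0 0 0 0 0 0 0 0 0 0 0 0 0 0 0 0 0 0 0 0 1194 0 0 0 0 0 0 0 1162 0 0 0 0 0 0 0 0 0 0 0 0 0 724 0 0 0) z3_b z3_b z3_b z3_b z3_b z3_b z3_b z3_b z3_b z3_b z3_b z3_b z3_b z3_b (@D3.rec (fun _ => Nat) 0 0 0 0 0 0 0 1175 0 0 0 0 0 0 0 0 0 0 0 0 0 0 0 0 0 0 0 0 0 0 0 0 0 0 0 0 0 0 0 0 0 0 0 0 0 0 0 0 0 0 0 0 0 0 0 0 0 0 0 0 0 0) (@D3.rec (fun _ => Nat) 0 0 0 0 0 0 0 0 0 0 0 0 0 0 0 0 0 0 0 0 0 0 0 0 0 0 0 0 0 0 0 0 0 0 1262 0 0 0 0 0 0 0 0 0 0 0 0 0 0 0 0 0 0 0 0 0 0 0 0 0 0 0) z3_b z3_b z3_b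 z3_b (@D3.rec (fun _ => Nat) 0 0 0 0 0 0 0 0 0 0 0 0 0 0 0 0 0 0 0 0 0 0 0 0 0 0 0 0 0 0 0 0 0 0 0 0 0 0 0 0 0 0 0 0 0 0 0 0 0 0 0 0 0 0 0 0 0 0 0 0 316 0) z3_b z3_b (@D3.rec (fun _ => Nat) 0 0 0 0 0 0 0 0 0 0 0 0 0 0 0 0 0 0 0 0 0 0 0 0 0 0 0 0 0 0 0 0 0 0 0 0 0 0 0 1241 0 0 0 0 0 0 0 0 0 0 0 0 0 0 0 0 0 1001 0 0 0 0) z3_b z3_b z3_b z3_b (@D3.rec (fun _ => Nat) 0 0 0 0 0 0 0 0 0 0 0 0 0 0 0 0 0 1188 0 0 0 0 0 0 0 0 0 0 0 0 0 0 0 0 0 0 0 0 0 0 0 0 0 0 0 0 0 0 0 0 0 0 0 0 0 0 0 0 0 0 0 0) z3_b z3_b z3_b z3_b z3_b (@D3.rec (fun _ => Nat) 0 0 0 0 0 0 0 178 0 0 0 0 0 0 0 0 0 0 0 70 0 0 0 0 0 0 0 0 0 0 0 0 0 0 0 0 0 0 0 0 0 0 0 0 0 0 0 0 0 0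 0 0 0 0 0 0 0 0 0 0 0 0) z3_b (@D3.rec (fun _ => Nat) 0 0 0 0 0 0 0 0 0 0 0 0 0 0 0 0 0 0 0 0 0 0 0 0 0 0 0 0 0 0 0 0 0 0 0 0 0 0 0 0 0 0 0 66 0 0 0 0 0 0 0 0 0 0 0 0 0 0 0 0 0 0) (@D3.rec (fun _ => Nat) 0 0 0 0 0 0 0 0 0 0 0 0 0 0 0 0 0 0 0 0 0 0 0 0 0 0 0 0 0 0 0 0 0 0 0 0 0 0 0 0 0 0 0 0 0 0 0 0 0 0 0 0 0 0 168 0 0 0 0 0 0 0) z3_b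
def sd_b_7 : D2 → D3 → Nat := @D2.rec (fun _ => D3 → Nat) (@D3.rec (fun _ => Nat) 0 0 0 0 0 0 0 0 0 0 0 0 0 0 0 0 0 0 0 0 0 0 0 0 0 0 0 0 0 0 0 0 0 0 0 0 0 0 0 0 0 0 0 0 0 0 0 0 102 0 0 0 0 0 0 0 0 0 0 0 0 0) z3_b z3_b z3_b z3_b z3_b z3_b z3_b z3_b z3_b z3_b (@D3.rec (fun _ => Nat) 0 0 0 0 0 0 0 0 0 0 0 0 0 0 0 0 0 0 0 0 0 0 0 0 0 0 0 0 0 0 0 0 1814 0 0 0 0 0 0 0 0 0 0 0 0 0 0 0 0 0 0 0 0 0 0 0 0 0 0 0 0 0) z3_b z3_b z3_b z3_b (@D3.rec (fun _ => Nat) 0 0 0 0 0 0 0 0 0 0 0 0 0 0 0 0 0 0 0 0 0 0 0 0 0 0 0 0 0 0 0 0 0 0 0 0 0 0 412 0 0 0 0 0 0 0 0 0 0 0 0 0 0 0 0 0 0 0 0 0 0 0) z3_b z3_b z3_b (@D3.rec (fun _ => Nat) 0 0 0 1224 0 0 0 0 0 0 0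 0 0 0 0 0 0 0 0 0 0 0 0 0 0 0 0 0 0 0 0 0 0 0 0 0 0 0 0 0 0 0 0 0 0 0 0 0 0 0 0 0 0 0 0 0 0 0 0 0 0 0) z3_b z3_b z3_b z3_b z3_b z3_b z3_b z3_b z3_b z3_b z3_b z3_b z3_b (@D3.rec (fun _ => Nat) 0 0 0 0 0 0 0 0 0 0 0 0 0 0 0 0 0 0 0 1578 0 0 0 0 0 0 0 0 0 0 0 0 0 0 0 0 0 0 0 0 0 0 0 0 0 0 0 0 0 0 0 0 0 0 0 0 0 0 0 0 0 0) z3_b z3_b z3_b z3_b (@D3.rec (fun _ => Nat) 0 0 0 0 0 0 0 0 0 0 0 0 0 0 0 0 0 0 0 0 0 0 405 0 0 0 0 0 0 0 0 0 0 0 0 0 0 0 0 0 0 0 0 0 0 0 0 0 0 0 0 0 0 0 0 0 0 0 0 0 0 0) z3_b z3_b z3_b z3_b z3_b z3_b z3_b z3_b z3_b z3_b z3_b z3_b z3_b z3_b z3_b z3_b z3_b z3_b z3_b z3_b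
def sd_b_8 : D2 → D3 → Nat := @D2.rec (fun _ => D3 → Nat) z3_b z3_b z3_b z3_b z3_b z3_b z3_b z3_b z3_b z3_b z3_b z3_b (@D3.rec (fun _ => Nat) 0 0 1068 0 0 0 0 0 0 0 0 0 0 0 0 0 0 0 0 0 0 0 0 0 0 0 0 0 0 0 0 0 0 0 0 0 0 0 0 0 0 0 0 0 0 0 0 0 0 0 0 0 0 0 0 0 0 0 0 0 0 0) z3_b z3_b z3_b z3_b z3_b z3_b z3_b z3_b z3_b z3_b z3_b z3_b z3_b z3_b z3_b z3_b z3_b z3_b z3_b z3_b z3_b z3_b z3_b z3_b z3_b z3_b z3_b z3_b z3_b z3_b z3_b z3_b z3_b z3_b z3_b z3_b (@D3.rec (fun _ => Nat) 0 0 0 0 0 0 0 0 0 0 0 0 0 0 0 0 0 0 0 0 0 0 0 0 0 0 0 0 0 0 0 0 0 0 0 0 0 0 0 0 0 0 0 0 0 0 0 0 1139 0 0 0 0 0 0 0 0 0 0 0 0 0) z3_b z3_b z3_b z3_b z3_b z3_b z3_b z3_b z3_b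 z3_b
def sd_b_9 : D2 → D3 → Nat := @D2.rec (fun _ => D3 → Nat) z3_b z3_b z3_b z3_b z3_b z3_b z3_b z3_b z3_b z3_b (@D3.rec (fun _ => Nat) 0 0 0 0 0 0 0 2221 0 0 0 0 0 0 0 0 0 0 0 0 0 0 0 0 0 0 0 0 0 0 0 0 0 0 0 0 0 0 0 0 0 0 0 0 0 0 0 0 0 0 0 0 0 0 0 0 0 0 0 0 0 0) (@D3.rec (fun _ => Nat) 0 0 1191 0 0 0 0 0 0 0 0 0 0 0 0 0 0 0 0 0 0 0 0 0 0 0 0 0 0 0 0 0 0 0 0 0 0 0 0 0 0 0 0 0 0 0 0 0 0 0 0 0 0 0 0 0 0 0 0 0 0 0) (@D3.rec (fun _ => Nat) 0 0 0 0 0 0 0 0 0 0 0 0 0 0 0 0 0 0 0 0 0 0 0 0 0 379 0 0 778 0 0 0 0 0 0 0 0 0 0 0 0 0 0 0 0 0 0 0 0 0 0 0 0 0 0 0 0 0 0 0 0 0) (@D3.rec (fun _ => Nat) 0 0 0 0 0 0 0 0 0 0 0 0 0 0 0 0 0 1460 0 0 0 0 0 0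 0 0 0 0 0 0 0 0 0 0 0 0 0 0 0 0 0 0 0 0 0 0 0 0 0 0 0 0 2246 0 0 0 0 0 0 0 0 0) z3_b z3_b z3_b z3_b (@D3.rec (fun _ => Nat) 0 0 0 0 0 0 998 0 0 0 0 0 0 0 0 0 0 0 0 0 0 0 0 0 0 0 0 0 0 0 0 0 0 0 0 0 0 0 0 0 0 0 0 0 0 0 0 0 0 0 0 0 0 0 0 0 0 0 0 0 0 0) z3_b z3_b z3_b z3_b z3_b (@D3.rec (fun _ => Nat) 0 0 0 0 0 0 0 0 0 0 0 0 0 0 0 0 0 0 0 0 0 1290 0 0 0 0 0 0 0 0 0 0 0 0 0 0 0 0 0 0 0 0 1370 0 0 0 0 0 0 0 0 0 0 0 0 0 0 0 0 0 0 0) z3_b z3_b (@D3.rec (fun _ => Nat) 0 0 0 0 0 0 0 1280 0 0 0 0 0 0 0 0 0 0 0 0 0 0 0 0 0 0 0 0 0 0 0 0 0 0 0 0 0 0 0 0 0 0 0 0 0 0 0 0 0 0 0 0 0 0 0 0 0 0 0 0 0 0) z3_b z3_b z3_b z3_b z3_b z3_b z3_b z3_b z3_b z3_b z3_b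 z3_b z3_b z3_b z3_b z3_b z3_b z3_b z3_b z3_b z3_b z3_b z3_b z3_b z3_b z3_b z3_b z3_b z3_b z3_b z3_b z3_b
def sd_b_10 : D2 → D3 → Nat := @D2.rec (fun _ => D3 → Nat) z3_b z3_b z3_b z3_b (@D3.rec (fun _ => Nat) 0 0 0 0 0 0 0 0 0 0 0 0 0 0 0 0 0 0 0 0 0 0 0 0 0 0 0 0 0 0 0 0 0 0 0 0 0 0 0 0 0 0 833 0 0 0 0 0 0 0 0 0 0 0 0 0 0 0 0 0 0 0) z3_b z3_b z3_b z3_b z3_b z3_b z3_b z3_b z3_b z3_b z3_b z3_b z3_b z3_b z3_b z3_b z3_b z3_b (@D3.rec (fun _ => Nat) 0 0 0 0 0 0 0 0 0 0 0 0 0 0 0 0 0 0 0 2495 0 0 0 0 0 0 0 0 0 0 0 0 0 0 0 0 0 0 0 0 0 0 0 0 0 0 0 0 0 0 0 0 0 0 0 0 0 0 0 0 0 0) z3_b z3_b z3_b z3_b z3_b z3_b z3_b z3_b z3_b z3_b z3_b z3_b z3_b z3_b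 z3_b z3_b z3_b z3_b z3_b z3_b z3_b (@D3.rec (fun _ => Nat) 0 0 0 0 0 0 0 0 0 0 0 0 0 0 0 0 0 0 0 0 0 0 0 0 0 2492 0 0 0 0 0 0 0 0 2491 0 0 0 0 0 0 0 0 0 0 0 0 0 0 0 0 0 0 0 0 0 0 0 0 0 0 0) z3_b z3_b z3_b z3_b z3_b z3_b (@D3.rec (fun _ => Nat) 0 0 0 0 0 0 0 0 0 0 0 0 901 0 0 0 0 0 0 0 0 0 0 0 0 0 0 0 0 0 0 0 0 0 0 0 0 0 0 0 0 0 0 0 0 0 0 0 0 0 0 0 0 0 0 0 0 0 0 0 0 0) z3_b z3_b z3_b (@D3.rec (fun _ => Nat) 0 0 0 0 0 0 0 0 0 0 0 0 0 0 0 0 0 0 0 0 0 0 0 0 0 0 0 0 0 0 0 0 0 0 0 0 0 0 0 0 0 0 0 0 0 0 0 0 0 0 0 0 0 0 0 0 889 0 0 0 0 0) z3_b z3_b z3_b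
def sd_b_11 : D2 → D3 → Nat := @D2.rec (fun _ => D3 → Nat) (@D3.rec (fun _ => Nat) 0 0 0 0 0 0 0 0 0 0 0 0 0 0 0 0 0 0 0 0 0 0 0 0 0 0 0 0 0 0 0 0 0 0 0 0 0 0 0 0 0 0 0 0 0 0 0 0 0 0 0 0 0 0 0 0 0 0 0 0 2402 0) z3_b z3_b z3_b z3_b z3_b z3_b z3_b z3_b (@D3.rec (fun _ => Nat) 0 0 0 0 0 0 0 0 0 872 0 0 0 0 0 0 0 0 0 0 0 0 0 0 0 0 0 0 0 0 0 0 0 0 0 0 0 0 0 0 0 0 0 0 0 0 0 0 0 0 0 0 0 0 0 0 0 0 0 0 0 0) z3_b (@D3.rec (fun _ => Nat) 0 0 0 0 0 0 0 0 0 0 0 0 0 0 0 0 0 0 0 0 0 0 0 0 0 0 0 0 0 0 0 0 0 0 0 0 0 0 0 0 0 0 0 0 0 0 0 0 0 0 0 0 0 0 0 0 0 0 1502 0 0 0) z3_b z3_b z3_b (@D3.rec (fun _ => Nat) 0 0 0 0 0 0 0 0 0 0 0 0 0 0 0 0 0 0 0 0 0 0 0 0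 2247 0 0 0 0 0 0 0 0 0 0 0 0 0 0 0 0 0 0 0 0 0 0 0 0 0 0 0 0 0 0 0 0 0 0 0 0 0) (@D3.rec (fun _ => Nat) 0 0 0 0 0 0 0 0 0 0 0 0 0 0 0 0 0 0 0 0 0 0 0 0 0 0 0 0 0 0 0 0 0 0 0 0 0 0 0 0 0 0 0 0 0 0 0 0 0 0 0 0 2856 0 0 0 0 0 0 0 0 0) z3_b z3_b z3_b (@D3.rec (fun _ => Nat) 0 0 0 0 0 953 0 0 0 0 0 0 0 0 0 0 0 0 0 0 0 0 0 0 0 0 0 0 0 0 0 0 0 0 0 0 0 0 0 0 0 0 0 0 0 0 0 0 0 0 0 0 0 0 0 0 0 0 0 0 0 0) z3_b (@D3.rec (fun _ => Nat) 0 0 0 0 0 0 0 0 0 0 1036 0 0 0 0 0 0 0 0 0 0 0 0 0 0 0 0 0 0 0 0 0 0 0 0 0 0 0 0 0 0 0 0 0 0 0 0 0 0 0 0 0 0 0 0 0 0 0 0 0 0 0) z3_b z3_b (@D3.rec (fun _ => Nat) 0 0 0 0 0 0 0 0 0 0 0 0 0 0 0 997 0 0 0 0 0 0 0 0 0 0 0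 0 0 0 0 0 0 0 0 0 0 0 0 0 0 0 0 0 0 0 0 0 0 0 0 0 0 0 0 0 0 0 0 0 0 0) (@D3.rec (fun _ => Nat) 0 1479 0 1230 0 0 0 0 0 0 0 0 0 0 0 0 0 0 0 0 0 0 0 0 0 0 0 0 0 0 0 0 0 0 0 0 0 0 0 0 0 0 0 0 0 0 0 0 0 0 0 0 0 0 0 0 0 0 0 0 0 0) z3_b z3_b (@D3.rec (fun _ => Nat) 0 0 0 1894 0 0 0 0 0 0 969 0 0 0 0 0 0 0 0 0 0 0 0 0 0 0 0 0 0 0 0 0 0 0 0 0 0 0 0 648 0 0 0 0 0 0 0 0 0 0 0 0 0 0 0 0 0 0 0 0 0 0) (@D3.rec (fun _ => Nat) 0 0 0 0 0 0 0 0 0 0 0 0 0 0 0 2031 0 0 0 0 0 947 0 0 0 0 0 0 0 0 0 0 0 0 0 0 0 0 0 0 0 0 0 0 0 0 0 0 0 0 0 0 0 0 0 0 0 0 0 0 0 0) (@D3.rec (fun _ => Nat) 0 0 0 0 0 0 0 0 1142 0 0 0 0 0 0 1083 0 0 0 0 0 0 0 0 0 0 0 0 0 0 0 0 0 0 0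 0 0 0 0 0 0 0 0 0 0 0 0 0 0 0 0 0 0 0 0 0 0 0 0 0 0 0) (@D3.rec (fun _ => Nat) 0 0 0 0 0 0 0 0 0 0 0 0 0 0 0 0 0 0 0 0 0 0 0 0 0 0 0 0 0 0 0 0 0 0 0 0 0 0 0 0 0 0 0 0 0 0 0 0 0 0 2211 0 0 0 0 0 0 0 0 0 0 0) z3_b z3_b z3_b (@D3.rec (fun _ => Nat) 0 0 993 0 0 0 0 0 0 0 0 0 0 0 0 0 0 0 0 0 0 0 0 0 0 0 0 0 0 0 0 0 0 0 0 0 0 0 0 0 0 0 0 0 0 0 0 0 0 0 0 0 0 0 0 0 0 0 0 0 0 0) z3_b z3_b z3_b (@D3.rec (fun _ => Nat) 0 0 0 0 0 0 0 0 0 0 766 0 0 0 0 0 0 0 0 0 0 0 0 1067 0 0 0 0 0 0 0 0 0 0 0 0 0 0 0 0 0 0 0 0 0 0 0 0 0 0 0 0 0 0 0 0 0 0 0 0 2640 0) z3_b z3_b z3_b (@D3.rec (fun _ => Nat) 0 0 0 0 0 0 0 0 0 0 0 0 0 0 0 0 0 0 0 0 2332 0 0 0 0 0 0 0 0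 0 0 0 1461 0 0 0 0 0 0 0 0 0 0 0 0 0 0 0 0 0 0 0 0 0 0 0 0 0 0 0 0 0) z3_b (@D3.rec (fun _ => Nat) 0 0 0 0 0 0 0 0 0 0 0 0 0 0 0 0 0 2271 0 0 0 0 0 0 0 0 0 0 0 0 0 0 0 0 0 0 0 0 0 0 0 0 0 0 0 0 0 0 0 0 0 0 0 0 0 0 0 0 0 0 0 0) (@D3.rec (fun _ => Nat) 0 0 0 0 0 0 0 0 0 0 0 0 0 0 0 0 0 0 0 0 0 0 0 0 0 0 0 0 0 0 0 2848 0 0 0 0 0 0 0 0 0 0 0 2498 0 0 0 0 0 0 0 0 0 0 0 0 0 0 0 0 0 0) z3_b z3_b z3_b z3_b z3_b z3_b z3_b z3_b z3_b z3_b (@D3.rec (fun _ => Nat) 0 0 0 0 0 0 0 0 0 0 0 0 0 0 0 0 0 0 0 3046 0 0 0 0 0 0 0 0 0 0 2482 0 0 0 0 0 0 0 0 0 0 0 0 0 0 0 0 0 0 0 0 0 0 0 0 0 0 0 0 0 0 0) z3_b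
def sd_b_12 : D2 → D3 → Nat := @D2.rec (fun _ => D3 → Nat) z3_b (@D3.rec (fun _ => Nat) 0 0 0 0 0 0 0 0 0 0 0 0 0 0 0 0 0 0 0 0 0 0 0 0 0 0 0 0 0 0 0 0 0 0 0 0 0 0 0 0 0 0 0 0 0 0 0 0 0 0 0 0 0 0 0 0 0 0 0 1427 0 0) z3_b z3_b z3_b z3_b z3_b z3_b z3_b (@D3.rec (fun _ => Nat) 0 0 0 0 0 0 0 0 0 0 0 0 0 0 0 0 0 0 0 0 0 0 0 0 0 0 0 0 0 0 0 0 2284 0 0 0 0 0 0 0 0 0 0 0 0 0 0 0 0 0 0 0 0 0 0 0 0 0 0 0 0 0) (@D3.rec (fun _ => Nat) 0 0 0 0 0 0 0 0 0 0 0 0 3052 0 0 0 2940 0 0 0 0 0 0 0 0 0 0 0 0 0 0 0 0 0 0 0 0 0 0 0 0 0 0 0 0 0 0 0 0 0 0 0 0 0 0 0 0 0 0 0 0 0) z3_b (@D3.rec (fun _ => Nat) 0 0 0 0 0 0 0 0 0 0 0 0 0 0 0 0 0 0 0 0 0 0 0 0 0 0 0 0 0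 0 0 0 0 0 0 0 0 0 0 0 0 0 0 0 0 0 0 1632 0 0 0 0 0 0 0 0 0 0 0 0 0 0) (@D3.rec (fun _ => Nat) 0 0 0 1287 0 0 0 0 0 0 0 0 0 0 0 0 0 0 0 0 0 0 0 0 0 0 0 0 0 0 0 0 0 0 0 0 0 0 0 0 0 0 0 0 0 0 0 0 0 0 0 0 0 0 0 0 0 0 0 0 0 0) z3_b (@D3.rec (fun _ => Nat) 0 0 0 0 0 0 0 0 0 0 0 0 0 0 0 0 0 0 0 0 0 0 0 0 0 0 0 0 0 0 0 0 0 0 0 0 0 0 0 0 1325 0 0 0 0 0 0 0 0 1285 0 0 0 0 0 0 0 0 0 0 0 0) z3_b z3_b z3_b z3_b (@D3.rec (fun _ => Nat) 0 0 0 0 0 0 0 0 0 0 0 1490 0 0 0 0 0 0 0 0 0 0 0 0 0 0 0 0 0 0 0 0 0 0 0 0 0 0 0 0 0 0 0 0 0 0 0 0 0 0 0 0 0 0 0 0 0 0 0 0 0 0) z3_b z3_b z3_b (@D3.rec (fun _ => Nat) 0 0 0 0 0 0 0 0 0 0 0 0 0 0 0 1352 0 0 0 0 0 0 0 0 0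 0 0 0 0 0 0 0 0 0 0 0 0 0 0 0 0 0 0 0 0 0 0 0 0 0 0 0 0 0 0 0 0 0 0 0 0 0) z3_b (@D3.rec (fun _ => Nat) 0 0 0 0 0 0 0 0 0 0 0 0 0 0 0 0 0 0 0 0 0 0 0 0 0 0 0 0 0 0 0 0 1098 0 0 0 0 0 0 0 0 0 0 0 0 0 0 0 0 0 0 0 0 0 0 0 0 0 0 0 0 0) z3_b (@D3.rec (fun _ => Nat) 0 0 0 0 0 0 0 0 0 0 0 0 0 0 0 0 0 0 0 0 0 0 0 0 0 0 1385 0 0 0 0 0 0 0 0 0 0 0 0 0 0 0 0 0 0 0 0 0 0 0 0 0 0 0 0 0 0 0 0 0 0 0) (@D3.rec (fun _ => Nat) 0 0 0 0 0 0 0 0 0 0 0 0 0 0 0 0 0 0 0 0 0 0 0 0 0 0 0 0 0 0 0 0 0 0 0 0 0 0 0 0 0 0 0 0 0 0 0 0 0 0 0 2009 0 0 0 0 0 0 0 0 0 0) z3_b z3_b z3_b z3_b z3_b z3_b z3_b z3_b z3_b z3_b z3_b z3_b z3_b (@D3.rec (fun _ => Nat) 0 0 0 0 0 0 0 0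 0 0 0 0 0 0 0 0 0 0 0 0 0 0 0 0 0 536 0 0 0 0 0 0 0 0 0 0 0 0 0 0 0 0 0 0 0 0 0 0 0 0 0 0 0 0 0 0 0 0 0 0 0 0) (@D3.rec (fun _ => Nat) 0 0 0 0 0 0 0 0 0 0 0 0 0 0 0 0 0 0 0 0 0 0 0 0 0 0 0 1498 0 0 0 0 0 0 0 0 0 0 0 0 0 0 0 0 0 0 0 0 0 0 0 0 0 0 0 0 0 0 0 0 0 0) z3_b z3_b z3_b z3_b z3_b z3_b z3_b z3_b (@D3.rec (fun _ => Nat) 0 0 0 0 0 0 0 0 0 0 0 0 0 0 0 0 0 0 0 0 0 0 0 0 0 0 0 0 0 0 0 0 0 0 0 0 0 0 0 0 948 0 0 0 0 0 0 0 0 0 0 0 0 0 0 0 0 0 0 0 0 0) z3_b z3_b z3_b z3_b z3_b z3_b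
def sd_b_13 : D2 → D3 → Nat := @D2.rec (fun _ => D3 → Nat) z3_b z3_b z3_b (@D3.rec (fun _ => Nat) 0 0 0 0 0 0 0 2885 0 0 0 0 0 0 0 0 0 0 0 0 0 0 0 0 0 0 0 0 0 0 0 0 0 0 0 0 0 0 0 0 0 0 0 0 0 0 0 0 0 0 0 0 0 0 0 0 0 0 0 0 0 0) (@D3.rec (fun _ => Nat) 0 0 0 65 0 0 0 0 0 0 0 0 0 0 0 0 0 0 0 0 0 0 0 0 0 0 0 0 0 0 0 0 0 0 0 0 0 0 0 0 0 0 0 0 0 0 0 0 0 0 0 0 0 0 0 0 0 0 0 0 0 0) z3_b (@D3.rec (fun _ => Nat) 0 0 0 0 0 0 0 0 0 0 0 0 0 0 0 0 0 0 0 0 0 0 0 0 0 0 0 0 0 0 0 0 0 0 0 0 0 0 0 0 0 0 0 0 1689 0 0 0 0 0 0 0 0 0 0 0 0 0 0 0 0 0) z3_b (@D3.rec (fun _ => Nat) 0 0 0 0 0 0 0 0 0 0 0 0 0 0 0 0 0 0 0 0 0 0 0 0 0 0 0 0 0 0 0 0 1553 0 0 0 0 0 0 0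 0 0 0 0 0 0 0 0 0 0 0 0 0 0 0 0 0 0 0 0 0 0) (@D3.rec (fun _ => Nat) 0 0 0 1737 0 0 0 0 0 0 0 0 0 0 0 0 0 0 0 0 0 0 0 0 0 0 0 0 0 0 0 0 0 0 0 0 0 0 0 0 0 0 0 0 0 0 0 0 0 0 0 0 0 0 0 0 0 0 0 0 0 0) z3_b (@D3.rec (fun _ => Nat) 0 0 0 0 0 0 0 0 0 0 0 0 0 0 0 0 0 0 0 0 0 0 0 0 0 0 0 0 0 0 0 0 0 0 0 0 0 0 0 0 0 0 0 1679 0 0 0 0 0 0 0 0 0 0 0 0 0 0 0 0 0 0) z3_b z3_b z3_b z3_b z3_b (@D3.rec (fun _ => Nat) 0 0 0 0 0 0 0 0 0 0 0 0 0 0 0 0 0 0 0 0 0 0 0 0 0 0 0 0 0 0 0 0 0 0 0 0 0 0 0 1958 0 0 0 0 0 0 0 0 0 0 0 0 0 0 0 0 0 0 0 0 0 0) z3_b z3_b z3_b z3_b z3_b (@D3.rec (fun _ => Nat) 0 0 0 0 0 0 0 0 0 0 0 0 0 0 0 0 0 0 0 0 0 0 0 0 0 0 0 0 0 0 0 0 0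 0 0 0 0 0 0 0 0 0 0 0 0 0 0 0 0 0 0 0 0 0 0 0 1898 0 0 0 0 0) z3_b z3_b z3_b z3_b z3_b z3_b z3_b z3_b z3_b z3_b z3_b z3_b z3_b z3_b z3_b (@D3.rec (fun _ => Nat) 0 0 0 0 0 0 0 0 0 0 0 0 0 0 0 0 0 1817 0 0 0 0 0 0 0 0 0 0 0 0 0 0 0 0 0 0 0 0 0 0 0 0 0 0 0 0 0 0 0 0 0 0 0 0 0 0 0 0 0 0 0 0) z3_b z3_b z3_b z3_b z3_b z3_b (@D3.rec (fun _ => Nat) 0 0 0 0 0 0 0 0 0 0 0 0 0 0 0 0 0 0 0 0 0 0 0 0 0 0 0 0 0 0 0 440 0 0 0 0 0 0 0 0 0 0 0 0 0 0 0 0 0 0 0 0 0 0 0 0 0 0 0 0 0 0) (@D3.rec (fun _ => Nat) 0 0 0 0 0 0 0 0 0 0 0 0 0 0 0 0 0 0 0 0 0 0 0 0 0 0 0 0 0 0 0 0 0 0 0 0 0 0 0 0 0 0 0 0 0 0 0 0 0 0 0 0 0 1601 0 0 0 0 0 0 0 0) z3_b z3_b z3_b (@D3.rec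 (fun _ => Nat) 0 0 1926 0 0 0 0 0 0 0 0 0 0 0 0 0 0 0 0 0 0 0 0 0 0 0 0 0 0 0 0 0 0 0 0 0 0 0 0 0 0 0 0 0 0 0 0 0 0 0 0 0 0 0 0 0 0 0 0 0 0 0) (@D3.rec (fun _ => Nat) 0 0 0 1600 0 0 0 0 0 0 0 0 0 0 0 0 0 0 0 0 0 0 0 0 0 0 0 0 0 0 0 0 0 0 0 0 0 0 0 0 0 0 0 0 0 0 0 0 0 0 0 0 0 0 0 0 0 0 0 0 0 0) z3_b z3_b z3_b z3_b z3_b z3_b z3_b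
def sd_b_14 : D2 → D3 → Nat := @D2.rec (fun _ => D3 → Nat) (@D3.rec (fun _ => Nat) 0 0 0 0 0 0 0 0 0 0 0 0 0 0 0 0 0 0 0 0 0 0 0 0 399 0 0 0 0 0 0 0 0 0 0 0 0 0 0 0 0 0 0 0 0 0 0 0 0 0 0 0 0 0 0 0 0 0 0 0 0 0) z3_b z3_b z3_b (@D3.rec (fun _ => Nat) 0 0 0 0 191 0 0 0 0 0 0 0 0 0 0 0 0 0 0 0 0 0 0 0 0 0 0 0 0 0 0 0 0 0 0 0 0 0 0 0 0 0 0 0 0 0 0 0 0 0 0 0 0 0 0 0 0 0 0 0 0 0) z3_b z3_b z3_b z3_b (@D3.rec (fun _ => Nat) 0 0 0 0 0 0 0 0 1840 0 0 0 0 0 0 0 0 0 0 0 0 0 0 0 0 0 0 0 0 0 0 0 0 0 0 0 0 0 0 0 0 0 0 0 0 0 0 0 0 0 0 0 0 0 0 0 0 0 0 0 0 0) (@D3.rec (fun _ => Nat) 0 0 0 0 1638 0 0 0 0 0 0 0 0 0 0 0 0 0 0 0 0 0 0 0 0 0 0 0 0 0 0 0 0 0 0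 0 0 0 0 0 0 0 0 0 0 0 0 0 0 0 0 0 0 0 0 0 0 0 0 0 0 0) z3_b z3_b z3_b z3_b z3_b z3_b z3_b z3_b z3_b z3_b z3_b z3_b z3_b z3_b z3_b z3_b z3_b z3_b (@D3.rec (fun _ => Nat) 0 0 0 0 0 0 0 0 0 0 0 0 0 0 0 0 0 0 0 0 0 0 0 0 0 0 0 0 0 0 1963 0 0 0 0 0 0 0 0 0 0 0 0 0 0 0 0 0 0 0 0 0 0 0 0 0 0 0 0 0 0 0) z3_b z3_b (@D3.rec (fun _ => Nat) 0 0 0 0 0 0 0 0 0 0 0 0 0 0 0 0 0 0 0 0 0 0 0 0 0 0 0 0 0 0 0 0 0 0 0 0 0 0 0 0 0 0 0 0 0 0 0 0 0 0 0 0 0 0 0 0 0 0 1231 0 0 0) (@D3.rec (fun _ => Nat) 0 0 0 0 0 0 0 0 0 0 0 0 0 0 0 0 0 0 0 0 0 0 0 0 0 0 0 1974 0 0 0 0 0 0 0 0 0 0 0 0 0 0 0 0 0 0 0 0 0 0 0 0 0 0 0 0 0 0 0 0 0 0) z3_b z3_b z3_b z3_b z3_b z3_b z3_b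 z3_b z3_b (@D3.rec (fun _ => Nat) 0 0 0 0 0 0 0 0 0 0 0 451 0 0 0 0 0 0 0 0 0 0 0 0 0 0 0 0 0 0 0 0 0 0 0 0 0 0 0 0 0 0 0 0 0 0 0 0 0 0 0 0 0 0 0 524 0 0 0 0 0 0) z3_b z3_b (@D3.rec (fun _ => Nat) 0 0 0 0 0 0 0 0 0 0 0 0 0 0 0 0 0 0 0 0 0 0 0 0 0 0 0 0 0 0 0 0 0 0 0 0 0 0 0 0 1885 0 0 0 0 0 0 0 0 0 0 0 0 0 0 0 0 0 0 0 0 0) z3_b z3_b z3_b (@D3.rec (fun _ => Nat) 0 0 0 0 0 0 0 0 0 0 0 0 0 0 0 0 0 0 0 0 0 0 0 0 0 0 0 0 0 0 0 0 0 0 0 0 0 0 0 0 0 0 0 0 0 0 0 0 0 0 0 0 0 0 0 0 0 0 0 0 1631 0) (@D3.rec (fun _ => Nat) 0 0 0 0 0 0 0 0 0 0 0 0 0 0 0 0 0 0 0 0 0 0 0 0 0 0 0 0 0 0 0 0 1830 0 0 0 0 0 0 0 0 0 0 0 0 0 0 0 0 0 0 0 0 0 0 0 0 0 0 0 0 0) z3_b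 z3_b z3_b z3_b z3_b z3_b z3_b z3_b
def sd_b_15 : D2 → D3 → Nat := @D2.rec (fun _ => D3 → Nat) z3_b z3_b z3_b z3_b z3_b z3_b z3_b z3_b (@D3.rec (fun _ => Nat) 0 0 0 0 2910 0 0 0 0 0 0 0 0 0 0 0 0 0 0 3079 0 0 0 0 0 0 0 0 0 0 0 0 0 0 0 0 0 0 0 0 0 0 0 0 0 0 0 0 0 0 0 0 0 0 0 0 0 0 0 0 0 0) z3_b z3_b z3_b z3_b z3_b z3_b z3_b z3_b z3_b z3_b z3_b z3_b z3_b z3_b z3_b z3_b z3_b z3_b z3_b z3_b z3_b z3_b z3_b z3_b z3_b z3_b z3_b z3_b z3_b z3_b z3_b z3_b z3_b (@D3.rec (fun _ => Nat) 0 0 0 0 0 0 0 0 0 0 0 0 0 2117 0 0 0 0 0 0 0 0 0 0 0 0 0 0 0 0 0 0 0 0 0 0 0 0 0 0 0 0 0 0 0 0 0 0 0 0 0 0 0 0 0 0 0 0 0 0 0 0) (@D3.rec (fun _ => Nat) 0 0 0 0 0 0 0 0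 0 0 0 0 0 0 0 0 0 0 0 0 2095 0 0 0 0 0 0 0 0 0 0 0 0 0 0 0 0 0 0 0 0 0 0 0 0 0 0 0 0 0 0 0 0 0 0 0 0 0 0 0 0 0) z3_b z3_b z3_b z3_b z3_b z3_b z3_b z3_b z3_b z3_b z3_b z3_b z3_b z3_b z3_b z3_b
def sd_b_16 : D2 → D3 → Nat := @D2.rec (fun _ => D3 → Nat) (@D3.rec (fun _ => Nat) 0 0 0 0 0 0 0 0 0 0 0 0 0 0 0 0 0 0 0 0 0 2399 0 0 0 0 0 0 0 0 0 0 0 0 0 0 0 0 0 0 0 0 0 0 0 0 0 0 0 0 0 0 0 0 0 0 0 0 0 0 0 0) z3_b z3_b z3_b z3_b z3_b z3_b z3_b z3_b z3_b z3_b z3_b z3_b z3_b z3_b z3_b z3_b z3_b (@D3.rec (fun _ => Nat) 0 0 0 0 0 0 0 0 2756 0 0 0 0 0 0 0 0 0 0 0 0 0 0 0 0 0 0 0 0 0 0 0 0 0 0 0 0 0 0 0 0 0 0 0 0 0 0 0 0 0 0 0 0 0 0 0 0 0 0 0 0 0) z3_b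 (@D3.rec (fun _ => Nat) 0 0 2142 0 0 0 0 0 0 0 0 0 0 0 0 0 0 0 0 0 0 0 0 0 0 0 0 0 0 0 0 0 0 0 0 0 0 0 0 0 0 0 0 0 0 0 0 0 0 0 0 0 0 0 0 0 0 0 0 0 0 0) z3_b z3_b z3_b z3_b z3_b z3_b z3_b z3_b z3_b (@D3.rec (fun _ => Nat) 0 0 0 0 0 0 0 0 0 0 0 0 0 0 0 0 0 0 0 0 0 0 0 0 0 0 0 0 0 0 0 0 0 0 0 0 0 0 0 0 0 0 0 0 0 0 0 0 0 0 0 0 0 0 0 0 0 0 0 0 0 1883) z3_b z3_b z3_b z3_b z3_b z3_b z3_b z3_b z3_b z3_b z3_b z3_b (@D3.rec (fun _ => Nat) 0 0 0 0 0 0 0 903 0 0 0 0 0 0 0 0 0 0 0 0 0 0 0 0 0 0 0 0 0 0 0 0 0 0 0 0 0 0 0 2178 0 0 0 0 0 0 0 0 0 0 0 0 0 0 0 0 0 0 0 0 0 0) z3_b z3_b z3_b z3_b z3_b z3_b z3_b z3_b z3_b z3_b (@D3.rec (fun _ => Nat) 0 0 0 0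 0 0 0 0 0 0 0 0 0 0 0 0 0 0 0 0 0 0 0 0 2845 0 0 0 0 0 0 0 0 0 0 0 0 0 0 0 0 0 0 0 0 0 0 0 0 0 0 0 0 0 0 0 0 0 0 0 0 0) z3_b z3_b (@D3.rec (fun _ => Nat) 0 0 0 0 0 0 0 0 0 0 0 0 0 0 0 0 0 0 0 0 0 0 0 0 0 0 0 0 0 0 0 0 0 0 0 0 972 0 0 0 0 0 0 0 0 0 0 0 0 0 0 0 0 0 0 0 0 0 0 0 0 0) z3_b z3_b
def sd_b_17 : D2 → D3 → Nat := @D2.rec (fun _ => D3 → Nat) z3_b z3_b z3_b z3_b (@D3.rec (fun _ => Nat) 0 0 0 0 0 0 0 0 0 0 0 0 0 0 0 0 0 0 0 0 0 0 0 0 810 0 0 0 0 0 0 0 0 0 0 0 0 0 0 0 0 0 0 0 0 0 0 0 0 0 0 0 0 0 0 0 0 0 0 0 0 0) z3_b z3_b (@D3.rec (fun _ => Nat) 0 2504 0 0 0 0 0 0 0 0 0 0 0 0 0 0 0 0 0 0 0 0 0 0 0 0 0 0 0 0 0 0 0 0 0 0 0 0 0 0 0 0 0 0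 0 0 0 0 0 0 0 0 0 0 0 0 0 0 0 0 0 0) z3_b z3_b (@D3.rec (fun _ => Nat) 0 0 0 0 0 1399 0 0 0 0 0 0 0 0 0 0 0 0 0 0 0 0 0 0 0 0 0 0 0 0 0 0 0 0 0 0 0 0 0 0 0 0 0 0 0 0 0 0 0 0 0 0 0 0 0 0 0 0 0 0 0 0) z3_b z3_b z3_b z3_b z3_b (@D3.rec (fun _ => Nat) 0 0 0 0 0 0 0 0 0 0 0 0 0 0 0 0 0 0 0 0 0 0 0 0 0 0 0 0 0 0 0 0 0 0 0 0 0 0 0 0 0 0 0 0 0 0 1234 0 0 0 0 0 0 0 0 0 0 0 0 0 0 0) z3_b z3_b (@D3.rec (fun _ => Nat) 0 0 0 0 0 0 0 0 0 0 0 0 0 0 0 0 0 0 0 0 2974 0 0 0 0 0 0 0 0 0 0 0 0 0 0 0 0 0 0 0 0 0 0 0 0 0 0 0 0 0 0 0 0 0 0 0 0 0 0 0 0 0) (@D3.rec (fun _ => Nat) 0 0 0 350 0 0 0 0 0 0 0 0 0 0 0 0 0 0 0 0 0 0 0 0 0 0 0 0 0 0 0 0 0 0 0 0 0 0 0 0 0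 0 0 0 0 0 0 0 0 0 0 0 0 0 0 0 0 0 0 0 0 0) z3_b z3_b z3_b (@D3.rec (fun _ => Nat) 2335 0 0 0 0 0 0 0 0 0 0 0 0 0 0 0 0 0 0 0 0 0 0 0 0 0 0 0 0 0 0 0 0 0 0 0 0 0 0 0 0 0 0 0 0 0 0 0 0 0 0 0 0 0 0 0 0 0 0 0 0 0) z3_b (@D3.rec (fun _ => Nat) 0 0 0 0 0 0 0 0 0 0 0 0 0 0 0 0 0 0 0 0 0 0 0 0 0 0 0 0 0 0 0 0 0 0 0 0 0 0 0 0 0 0 0 0 0 0 0 0 0 0 0 0 0 0 688 0 0 0 0 0 0 0) z3_b z3_b z3_b z3_b z3_b (@D3.rec (fun _ => Nat) 0 0 0 0 0 0 0 0 0 0 0 0 0 0 0 0 0 0 0 0 0 0 0 0 0 0 0 0 0 0 0 0 0 0 0 0 0 0 0 0 0 0 0 0 0 0 0 0 0 0 0 0 0 0 0 0 0 0 0 0 2755 0) z3_b z3_b z3_b (@D3.rec (fun _ => Nat) 0 0 0 0 0 0 0 3028 0 0 0 0 0 0 0 0 0 0 0 0 0 0 0 0 0 0 0 0 0 0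 0 0 0 0 0 0 0 0 0 0 0 0 0 0 0 0 0 0 0 0 0 0 0 0 0 0 0 0 0 0 0 0) z3_b z3_b z3_b z3_b z3_b z3_b z3_b z3_b z3_b z3_b z3_b z3_b z3_b z3_b z3_b z3_b z3_b z3_b z3_b (@D3.rec (fun _ => Nat) 0 0 0 0 0 0 0 0 0 0 0 0 0 0 0 2787 0 0 0 0 0 0 0 0 0 0 0 0 0 0 0 0 0 0 0 0 0 0 0 0 0 0 0 0 0 0 0 0 0 0 0 0 0 0 0 0 0 0 0 0 0 0) z3_b (@D3.rec (fun _ => Nat) 0 0 0 0 0 0 0 0 0 0 0 0 0 0 0 0 0 0 0 0 0 0 0 0 0 0 0 0 0 0 0 0 0 0 0 0 0 2432 0 0 0 0 0 0 0 0 0 0 0 0 0 0 0 0 0 0 0 0 0 0 0 0) z3_b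
def sd_b_18 : D2 → D3 → Nat := @D2.rec (fun _ => D3 → Nat) z3_b (@D3.rec (fun _ => Nat) 0 0 0 0 0 0 0 0 0 0 0 0 0 0 0 0 0 0 0 0 0 0 0 0 0 0 0 0 0 0 0 0 2994 0 0 0 0 0 0 0 0 0 0 0 0 0 0 0 0 0 0 0 0 0 0 0 0 0 0 0 0 0) z3_b z3_b z3_b z3_b z3_b z3_b z3_b z3_b z3_b z3_b z3_b z3_b z3_b z3_b z3_b z3_b z3_b z3_b z3_b z3_b (@D3.rec (fun _ => Nat) 0 0 0 0 0 0 0 0 0 0 0 0 0 0 0 0 0 0 0 0 0 0 0 0 0 0 0 0 0 0 0 0 0 0 0 0 0 0 0 2626 0 0 0 0 0 0 0 0 0 0 0 0 0 0 0 0 0 0 0 0 0 0) (@D3.rec (fun _ => Nat) 0 0 0 0 0 0 0 0 0 0 0 0 0 0 0 0 0 0 0 0 0 0 0 0 0 2833 0 0 0 0 0 0 0 0 0 0 0 0 0 0 0 0 0 0 0 0 0 0 0 0 0 0 0 0 0 0 0 0 0 0 0 0) z3_b (@D3.rec (fun _ => Nat)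 0 0 0 0 0 0 0 0 0 0 0 0 0 0 2060 0 0 0 0 0 0 0 0 0 0 0 0 0 0 0 0 0 0 0 0 0 0 0 0 0 0 0 0 0 0 0 0 0 0 0 0 0 0 0 0 0 0 0 0 0 0 0) z3_b z3_b z3_b z3_b z3_b z3_b z3_b z3_b z3_b z3_b (@D3.rec (fun _ => Nat) 0 0 0 0 0 0 0 0 0 0 0 0 0 0 0 0 0 0 0 0 0 0 0 0 0 0 0 0 0 0 0 0 0 0 0 0 0 0 0 0 0 0 0 0 0 0 0 0 0 0 0 0 0 0 0 0 0 0 2444 0 0 0) z3_b z3_b (@D3.rec (fun _ => Nat) 0 0 0 0 0 0 0 0 0 0 0 0 0 0 0 0 0 0 0 0 0 0 0 0 0 0 0 0 0 0 0 0 0 0 0 0 0 0 0 0 0 0 0 0 0 828 0 0 0 0 0 0 0 0 0 0 0 0 0 0 0 0) z3_b (@D3.rec (fun _ => Nat) 0 0 0 0 0 0 0 0 0 0 0 0 0 0 0 0 0 0 0 0 0 0 0 0 0 0 0 0 0 0 0 0 0 0 0 0 0 0 0 0 0 0 2548 0 0 0 0 0 0 0 0 0 0 0 0 0 0 0 0 0 0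 0) z3_b z3_b z3_b z3_b z3_b z3_b z3_b z3_b z3_b z3_b z3_b z3_b z3_b z3_b z3_b z3_b z3_b z3_b
def sd_b_19 : D2 → D3 → Nat := @D2.rec (fun _ => D3 → Nat) z3_b z3_b z3_b z3_b z3_b z3_b z3_b z3_b z3_b z3_b z3_b z3_b z3_b z3_b z3_b z3_b z3_b z3_b z3_b z3_b z3_b z3_b z3_b z3_b (@D3.rec (fun _ => Nat) 0 0 0 0 0 0 0 0 0 0 0 0 0 0 0 0 0 0 0 3011 0 0 0 0 0 0 0 0 0 0 0 0 0 0 0 0 0 0 0 0 0 0 0 0 0 0 0 0 0 0 0 0 0 0 0 0 0 0 0 0 0 0) z3_b z3_b z3_b z3_b z3_b z3_b z3_b z3_b z3_b z3_b z3_b z3_b z3_b z3_b z3_b z3_b z3_b z3_b z3_b z3_b z3_b z3_b z3_b (@D3.rec (fun _ => Nat) 0 0 2730 0 0 0 0 0 0 0 0 0 0 0 0 0 0 0 0 0 0 0 0 0 0 0 0 0 0 0 0 0 0 0 0 0 0 0 0 0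 0 0 0 0 0 0 0 0 0 0 0 0 0 0 0 0 0 0 0 0 0 0) (@D3.rec (fun _ => Nat) 0 0 0 0 0 0 0 0 0 0 0 0 0 0 0 0 0 0 0 0 0 0 0 0 0 0 0 0 0 0 0 0 0 0 0 0 0 0 0 2735 0 0 0 0 0 0 0 0 0 0 0 0 0 0 0 0 0 0 0 0 0 0) z3_b z3_b z3_b z3_b z3_b z3_b z3_b z3_b z3_b z3_b
def sd_b_20 : D2 → D3 → Nat := @D2.rec (fun _ => D3 → Nat) z3_b z3_b z3_b z3_b z3_b (@D3.rec (fun _ => Nat) 0 0 0 0 0 0 0 0 0 0 0 0 0 0 0 0 0 0 0 0 0 0 0 0 0 0 0 0 0 0 0 0 0 0 0 0 0 0 0 0 0 0 0 0 0 0 0 0 0 0 0 0 0 0 0 0 0 0 866 0 0 0) (@D3.rec (fun _ => Nat) 0 0 0 0 0 0 0 0 0 0 0 0 0 0 0 0 0 0 0 0 0 0 0 0 0 0 0 0 0 0 0 0 0 2864 0 0 0 0 0 0 0 0 0 0 0 0 0 0 0 0 0 0 0 0 0 0 0 0 0 0 0 0) (@D3.rec (fun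 _ => Nat) 0 0 0 0 0 0 0 0 0 0 922 0 0 0 0 0 0 0 0 0 0 0 0 0 0 0 0 0 0 0 0 0 0 0 0 0 0 0 0 0 0 0 0 0 0 0 0 0 0 0 0 0 0 0 0 0 0 0 0 0 0 0) (@D3.rec (fun _ => Nat) 0 0 0 0 0 0 0 0 0 0 0 0 0 0 0 0 0 0 0 0 0 0 0 0 0 0 2782 0 0 0 0 0 0 2752 0 0 0 0 0 0 0 0 0 0 0 0 0 0 0 0 0 0 0 0 0 0 0 0 0 0 0 0) z3_b z3_b z3_b z3_b z3_b z3_b (@D3.rec (fun _ => Nat) 0 0 0 0 0 0 0 0 0 2861 0 0 0 0 0 0 0 0 0 0 0 0 0 0 0 0 0 0 0 0 0 0 0 0 0 0 0 0 0 0 0 0 0 0 0 0 0 0 0 0 0 0 0 0 0 0 0 0 0 0 0 0) z3_b (@D3.rec (fun _ => Nat) 0 0 0 2257 0 0 0 0 0 0 0 0 0 0 0 0 0 0 0 0 0 0 0 0 0 0 0 0 0 0 0 0 0 0 0 0 0 0 0 0 0 2854 0 0 0 0 0 0 0 0 0 0 0 0 0 0 0 0 0 0 0 0) (@D3.rec (fun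 _ => Nat) 0 0 0 0 0 0 0 0 0 0 0 0 0 0 0 0 0 0 0 0 0 0 0 0 0 0 0 0 0 0 0 0 0 0 0 0 0 0 1044 0 0 0 0 0 0 0 0 0 0 0 0 0 0 0 0 0 0 0 0 0 0 0) (@D3.rec (fun _ => Nat) 0 0 0 0 0 0 0 0 0 0 0 0 0 0 0 0 0 0 0 0 0 0 0 0 2801 0 0 0 0 0 0 0 0 0 0 0 0 0 0 0 0 0 0 0 0 0 0 0 0 0 0 0 0 0 0 0 0 0 0 0 0 0) (@D3.rec (fun _ => Nat) 0 0 0 0 0 0 0 0 0 0 0 0 0 0 0 0 0 0 0 0 0 0 0 2846 0 0 0 0 0 0 0 0 0 0 0 0 0 0 0 0 0 0 0 0 0 0 0 0 0 0 0 0 0 0 0 0 0 0 0 0 0 0) z3_b (@D3.rec (fun _ => Nat) 0 0 0 0 0 0 0 0 0 0 0 0 0 0 0 0 0 0 0 0 0 0 0 0 0 0 0 0 0 0 0 0 2902 0 0 0 0 0 0 0 0 0 0 0 0 0 0 0 0 0 0 0 0 0 0 0 0 0 0 0 0 0) (@D3.rec (fun _ => Nat) 0 0 0 0 0 0 0 0 0 0 0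 0 0 0 0 0 0 0 0 0 0 0 0 0 0 0 0 0 0 0 0 0 0 0 0 0 0 1701 0 0 0 0 0 0 0 2887 0 0 0 0 0 0 0 0 0 0 0 0 0 0 0 0) z3_b z3_b (@D3.rec (fun _ => Nat) 0 0 0 0 0 0 0 0 0 0 0 0 0 0 0 0 0 0 0 0 0 0 0 0 0 0 0 0 0 0 0 0 0 0 0 0 0 0 0 0 0 0 0 0 0 0 0 0 0 0 0 0 0 0 0 0 0 0 2884 0 0 0) z3_b z3_b z3_b z3_b z3_b z3_b z3_b z3_b z3_b z3_b (@D3.rec (fun _ => Nat) 0 0 0 0 0 0 0 0 0 0 0 0 0 0 0 0 0 0 0 0 0 0 0 0 0 0 0 0 0 0 0 0 0 0 0 0 0 0 0 0 0 0 0 0 0 0 0 0 3042 0 0 0 0 0 0 0 0 0 0 0 0 0) (@D3.rec (fun _ => Nat) 0 0 0 0 0 0 0 0 0 0 0 0 0 0 0 0 0 0 0 0 0 0 0 0 0 0 0 0 0 0 0 0 0 0 0 0 0 0 0 0 0 0 531 0 0 0 0 0 0 0 0 0 0 0 0 0 0 0 0 0 0 0) z3_b z3_b (@D3.rec (fun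 _ => Nat) 0 0 0 0 0 0 0 0 0 0 0 0 0 0 0 0 0 0 0 0 0 0 0 0 0 0 0 0 0 0 0 0 0 0 0 0 0 0 0 0 0 0 0 0 0 0 0 0 0 0 0 0 0 0 0 2299 0 0 0 0 0 0) z3_b z3_b z3_b z3_b z3_b z3_b z3_b z3_b z3_b (@D3.rec (fun _ => Nat) 0 0 0 0 0 0 0 0 0 0 0 0 0 0 0 0 0 0 0 0 0 0 0 0 0 0 1892 0 0 0 0 0 0 0 0 0 0 0 0 0 0 0 0 0 0 0 0 0 0 0 0 0 0 0 0 0 0 0 0 0 0 0) (@D3.rec (fun _ => Nat) 0 0 0 0 0 0 0 0 0 0 0 0 0 0 0 0 0 0 0 0 0 0 0 0 0 0 0 0 0 0 0 0 600 0 0 0 0 0 0 0 0 0 0 0 0 0 0 0 0 0 0 0 0 0 0 0 0 0 0 0 0 0) z3_b z3_b z3_b z3_b z3_b z3_b z3_b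
def sd_b_21 : D2 → D3 → Nat := @D2.rec (fun _ => D3 → Nat) z3_b (@D3.rec (fun _ => Nat) 0 0 0 0 0 0 0 0 0 0 0 0 0 0 0 0 0 0 0 0 0 0 0 0 3033 0 0 0 0 0 0 0 0 0 0 0 0 0 0 0 0 0 0 0 0 0 0 0 0 0 0 0 0 0 0 0 0 0 0 0 0 0) z3_b z3_b z3_b z3_b z3_b z3_b z3_b (@D3.rec (fun _ => Nat) 0 0 0 0 0 0 0 0 0 0 2963 0 0 0 0 0 0 0 0 0 0 0 0 0 0 0 0 0 0 0 0 0 0 0 0 0 0 0 0 0 0 0 0 0 0 0 0 0 0 0 0 0 0 0 0 0 0 0 0 0 0 0) z3_b z3_b z3_b z3_b z3_b z3_b z3_b z3_b z3_b z3_b (@D3.rec (fun _ => Nat) 0 0 0 0 0 1441 0 0 0 0 0 0 0 0 0 0 0 0 0 0 0 0 0 0 0 0 0 0 0 0 0 0 0 0 0 0 0 0 0 0 0 0 0 0 0 0 0 0 0 0 0 0 0 0 0 0 0 0 0 0 0 0) (@D3.rec (fun _ => Nat) 0 0 0 0 0 0 0 0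 0 0 0 0 3057 0 0 0 0 0 0 0 0 0 0 0 0 0 0 0 0 0 0 0 0 0 0 0 0 0 0 0 0 0 0 0 0 0 0 0 0 0 0 0 0 0 0 0 0 0 0 0 0 0) z3_b z3_b z3_b z3_b z3_b z3_b z3_b (@D3.rec (fun _ => Nat) 0 0 0 0 0 0 0 0 0 0 0 0 0 0 0 0 0 0 0 0 0 0 0 0 0 0 0 0 0 0 0 0 0 0 0 0 0 0 0 0 0 0 0 0 0 0 0 0 0 0 1579 0 0 0 0 0 0 0 0 0 0 0) (@D3.rec (fun _ => Nat) 0 0 0 0 0 0 0 2947 0 0 0 0 0 0 0 0 0 0 0 0 0 0 0 0 0 0 0 0 0 0 0 0 0 0 0 0 0 0 0 0 0 0 0 0 0 0 0 0 0 0 0 0 0 0 0 0 0 0 0 0 0 0) z3_b z3_b z3_b z3_b z3_b z3_b z3_b z3_b z3_b z3_b z3_b z3_b z3_b z3_b z3_b z3_b z3_b z3_b (@D3.rec (fun _ => Nat) 0 0 0 0 0 0 0 0 0 0 0 0 0 0 0 0 0 0 0 0 0 0 0 0 0 0 0 0 0 0 0 0 0 0 0 0 0 0 1424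 0 0 0 0 0 0 0 0 0 0 0 0 0 0 0 0 0 0 0 0 0 0 0) z3_b z3_b z3_b z3_b z3_b z3_b z3_b z3_b z3_b z3_b
def sd_b_22 : D2 → D3 → Nat := @D2.rec (fun _ => D3 → Nat) z3_b z3_b z3_b z3_b z3_b z3_b z3_b z3_b (@D3.rec (fun _ => Nat) 0 0 0 0 0 0 0 0 0 0 0 0 0 0 0 0 0 0 0 0 0 0 0 0 0 0 0 2297 0 0 0 0 0 0 0 0 0 0 0 0 0 0 0 0 0 0 0 0 0 0 0 0 0 0 0 0 0 0 0 0 0 0) z3_b z3_b z3_b z3_b z3_b z3_b z3_b (@D3.rec (fun _ => Nat) 0 0 0 0 0 0 0 0 0 0 0 0 0 0 0 0 0 0 0 0 0 0 0 1798 0 0 0 0 0 0 0 0 0 0 0 0 0 0 0 0 0 0 0 0 0 0 0 0 0 0 0 0 0 0 0 0 0 0 0 0 0 0) z3_b z3_b z3_b z3_b z3_b z3_b z3_b z3_b z3_b z3_b z3_b z3_b z3_b z3_b z3_b z3_b z3_b (@D3.rec (fun _ => Nat) 0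 0 0 0 0 0 0 0 0 0 0 0 0 1708 0 0 0 0 0 0 0 0 0 0 0 0 0 0 0 0 0 0 0 0 0 0 0 0 0 0 0 0 0 0 0 0 0 0 0 0 0 0 0 0 0 0 0 0 0 0 0 0) z3_b (@D3.rec (fun _ => Nat) 0 0 0 0 0 0 0 0 0 0 0 0 0 0 0 0 0 0 0 0 0 0 0 0 0 0 0 0 0 0 0 421 0 0 0 0 0 0 0 0 0 0 0 0 0 0 0 0 0 0 0 0 0 0 0 0 0 0 0 0 0 0) z3_b z3_b z3_b z3_b (@D3.rec (fun _ => Nat) 0 0 0 0 0 0 0 0 0 0 0 0 1696 0 0 0 0 0 0 0 0 0 0 0 0 0 0 0 0 0 0 0 0 0 0 0 0 0 0 0 0 0 0 0 0 0 0 0 0 0 0 0 0 0 0 0 0 0 0 0 0 0) z3_b z3_b z3_b z3_b z3_b z3_b z3_b z3_b z3_b z3_b z3_b z3_b z3_b z3_b z3_b z3_b z3_b z3_b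
def sd_b_23 : D2 → D3 → Nat := @D2.rec (fun _ => D3 → Nat) z3_b z3_b (@D3.rec (fun _ => Nat) 0 0 0 0 0 0 0 0 0 0 0 0 0 0 0 0 0 0 0 0 0 0 0 0 0 0 0 0 0 0 0 0 0 0 0 0 0 0 0 0 0 0 0 0 2289 0 0 0 0 0 0 0 0 0 0 0 0 0 0 0 0 0) z3_b (@D3.rec (fun _ => Nat) 0 0 0 0 0 0 0 0 0 0 0 0 0 0 0 0 0 0 0 0 0 0 0 0 0 0 0 0 0 0 0 0 0 0 0 0 0 0 0 0 0 0 0 0 0 0 975 0 0 0 0 0 0 0 0 0 0 0 0 0 0 0) (@D3.rec (fun _ => Nat) 0 0 0 0 0 0 0 0 0 0 0 0 0 0 0 0 0 0 0 0 0 0 0 0 0 0 0 0 0 0 0 0 0 0 0 0 0 0 0 0 0 0 0 427 0 0 0 0 0 0 0 0 0 0 0 0 0 0 0 0 0 0) z3_b z3_b z3_b z3_b z3_b z3_b z3_b z3_b z3_b z3_b z3_b z3_b z3_b z3_b z3_b z3_b z3_b z3_b (@D3.rec (fun _ => Nat) 0 0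 0 0 0 0 0 0 0 0 0 0 0 0 0 0 0 0 0 0 0 0 0 0 0 0 0 0 0 0 0 0 0 0 0 0 0 0 0 0 0 0 1046 0 0 0 0 0 0 0 0 0 0 0 0 0 0 0 0 0 0 0) z3_b z3_b z3_b z3_b z3_b z3_b z3_b z3_b z3_b z3_b (@D3.rec (fun _ => Nat) 0 0 0 0 0 0 0 0 0 0 0 0 0 0 0 0 0 0 0 0 0 0 0 0 0 0 0 0 0 0 0 0 0 0 0 0 0 0 0 0 0 0 0 0 0 0 0 0 0 0 0 0 0 0 322 0 0 0 0 0 0 0) z3_b z3_b z3_b z3_b z3_b (@D3.rec (fun _ => Nat) 0 0 0 0 0 0 0 0 0 1853 0 0 0 0 0 0 0 0 0 0 0 0 0 0 0 0 0 0 0 0 0 0 0 0 0 0 0 0 0 0 0 0 0 0 0 0 0 0 0 0 0 0 0 0 0 0 0 0 0 0 0 0) z3_b z3_b z3_b z3_b z3_b z3_b z3_b z3_b z3_b z3_b z3_b (@D3.rec (fun _ => Nat) 0 0 1484 0 0 0 0 0 0 0 0 0 0 0 0 0 0 0 0 0 0 0 0 0 0 0 0 0 0 0 0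 0 0 0 0 0 0 0 0 0 0 0 0 0 0 0 0 0 0 0 0 0 0 0 0 0 0 0 0 0 0 0) z3_b z3_b z3_b (@D3.rec (fun _ => Nat) 0 0 0 0 0 0 0 0 0 0 0 0 0 0 0 0 0 0 0 0 0 0 0 0 0 0 0 0 0 0 0 0 0 0 0 0 0 0 0 0 0 0 0 0 0 0 0 0 0 0 0 0 0 0 0 0 0 0 1138 0 0 0) z3_b z3_b
def sd_b_24 : D2 → D3 → Nat := @D2.rec (fun _ => D3 → Nat) z3_b (@D3.rec (fun _ => Nat) 0 0 0 0 0 0 0 0 0 0 0 0 0 0 0 0 0 0 0 0 0 0 0 0 0 0 0 0 0 0 0 0 0 0 0 0 0 0 0 0 1739 0 1525 0 0 0 0 0 0 0 0 0 0 0 0 0 0 0 0 0 0 0) z3_b z3_b z3_b z3_b z3_b z3_b z3_b z3_b z3_b z3_b z3_b z3_b z3_b z3_b z3_b z3_b z3_b z3_b z3_b z3_b z3_b z3_b z3_b z3_b z3_b z3_b z3_b z3_b z3_b z3_b z3_b z3_b z3_b (@D3.rec (fun _ => Nat)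 0 0 0 0 0 0 0 0 0 0 0 0 0 0 0 0 0 0 0 0 0 0 0 0 0 0 0 0 0 0 0 0 0 0 0 0 0 0 0 0 0 0 0 0 0 0 0 0 0 0 0 428 0 0 0 0 0 0 0 0 0 0) z3_b z3_b z3_b z3_b z3_b z3_b z3_b z3_b z3_b z3_b z3_b z3_b z3_b z3_b z3_b z3_b z3_b z3_b z3_b z3_b z3_b z3_b z3_b z3_b
def sd_b_25 : D2 → D3 → Nat := @D2.rec (fun _ => D3 → Nat) z3_b z3_b z3_b z3_b z3_b z3_b z3_b z3_b z3_b z3_b z3_b z3_b z3_b z3_b z3_b z3_b z3_b z3_b z3_b z3_b z3_b z3_b (@D3.rec (fun _ => Nat) 0 0 0 0 0 0 0 0 0 0 0 0 0 0 0 0 0 0 0 0 0 0 0 2698 0 0 0 0 0 0 0 0 0 0 0 0 0 0 0 0 0 0 0 0 0 0 0 0 0 0 0 0 0 0 0 0 0 0 0 0 0 0) z3_b z3_b z3_b z3_b z3_b z3_b z3_b z3_b z3_b z3_b z3_b z3_b z3_b z3_b z3_b z3_b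 z3_b z3_b z3_b z3_b (@D3.rec (fun _ => Nat) 0 0 0 0 0 0 0 0 0 0 2686 0 0 0 0 0 0 0 0 0 0 0 0 0 0 0 0 0 0 0 0 0 0 0 0 0 0 0 0 0 0 0 0 0 0 0 0 0 0 0 0 0 0 0 0 0 0 0 0 0 0 0) z3_b z3_b z3_b z3_b z3_b z3_b z3_b z3_b z3_b z3_b z3_b z3_b z3_b z3_b z3_b z3_b
def sd_b_26 : D2 → D3 → Nat := @D2.rec (fun _ => D3 → Nat) z3_b z3_b z3_b z3_b z3_b z3_b z3_b z3_b z3_b z3_b z3_b z3_b z3_b z3_b z3_b z3_b z3_b z3_b z3_b z3_b z3_b z3_b z3_b z3_b z3_b z3_b z3_b z3_b z3_b z3_b z3_b z3_b z3_b z3_b z3_b z3_b z3_b z3_b z3_b z3_b z3_b z3_b z3_b z3_b z3_b z3_b z3_b z3_b z3_b z3_b (@D3.rec (fun _ => Nat) 0 0 0 0 0 0 0 0 0 0 0 0 0 0 0 0 0 0 0 0 0 0 0 0 0 0 0 0 0 0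 0 0 0 0 0 0 0 0 0 0 0 0 0 0 0 0 0 2414 0 0 0 0 0 0 0 0 0 0 0 0 0 0) z3_b z3_b z3_b z3_b z3_b z3_b z3_b z3_b z3_b
def sd_b_27 : D2 → D3 → Nat := @D2.rec (fun _ => D3 → Nat) z3_b z3_b (@D3.rec (fun _ => Nat) 0 0 0 0 0 0 0 0 0 0 0 0 0 0 0 0 0 0 0 0 0 0 0 0 0 0 0 0 0 0 0 0 0 0 0 0 0 0 0 0 0 0 0 0 0 0 0 0 0 0 0 0 0 0 0 0 0 0 1217 0 0 0) z3_b z3_b z3_b z3_b z3_b z3_b z3_b z3_b z3_b z3_b z3_b z3_b z3_b z3_b (@D3.rec (fun _ => Nat) 0 0 0 0 0 0 0 2982 0 0 0 0 0 0 0 0 0 0 0 0 0 0 0 0 0 0 0 0 0 0 0 0 0 0 0 0 0 0 0 0 0 0 0 0 0 0 0 0 0 0 0 0 0 0 0 0 0 0 0 0 0 0) z3_b z3_b z3_b z3_b z3_b (@D3.rec (fun _ => Nat) 0 0 0 0 0 0 0 0 0 0 0 0 0 0 0 0 0 0 0 0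 0 0 0 0 0 0 0 0 3060 0 0 0 0 0 0 0 0 0 0 0 0 0 0 0 0 0 0 0 0 0 0 0 0 0 0 0 0 0 0 0 0 0) z3_b z3_b z3_b z3_b z3_b z3_b z3_b z3_b z3_b z3_b z3_b z3_b z3_b z3_b z3_b z3_b z3_b z3_b z3_b z3_b z3_b z3_b z3_b z3_b z3_b z3_b (@D3.rec (fun _ => Nat) 0 0 0 0 0 0 0 0 0 0 0 0 0 0 0 0 0 0 0 0 0 0 0 0 0 0 0 0 0 0 0 0 0 0 0 0 0 0 0 0 0 0 0 0 0 0 0 2623 0 0 0 0 0 0 0 0 0 0 0 0 0 0) z3_b z3_b z3_b z3_b z3_b z3_b z3_b z3_b z3_b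
def sd_b_29 : D2 → D3 → Nat := @D2.rec (fun _ => D3 → Nat) z3_b z3_b z3_b z3_b z3_b z3_b z3_b z3_b z3_b z3_b z3_b z3_b z3_b z3_b z3_b z3_b z3_b z3_b z3_b z3_b z3_b (@D3.rec (fun _ => Nat) 0 0 0 0 0 0 0 0 0 0 0 0 0 0 0 0 0 0 0 0 0 0 0 0 0 0 0 0 0 0 0 0 0 0 0 0 0 0 0 0 0 0 0 0 1867 0 0 0 0 0 0 0 0 0 0 0 0 0 0 0 0 0) z3_b z3_b z3_b (@D3.rec (fun _ => Nat) 0 0 0 0 0 0 0 0 0 0 0 0 0 0 0 0 0 0 0 0 0 0 0 0 0 0 0 0 0 0 0 0 0 0 0 0 0 0 0 0 0 0 0 0 0 2303 0 0 0 0 0 0 0 0 0 0 0 0 0 0 0 0) z3_b z3_b z3_b z3_b z3_b z3_b z3_b z3_b z3_b z3_b z3_b z3_b z3_b z3_b z3_b z3_b z3_b z3_b z3_b z3_b z3_b z3_b z3_b z3_b z3_b z3_b z3_b z3_b z3_b z3_b z3_b z3_b z3_b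 z3_b
def sd_b_30 : D2 → D3 → Nat := @D2.rec (fun _ => D3 → Nat) z3_b z3_b z3_b (@D3.rec (fun _ => Nat) 0 0 0 0 0 0 0 0 0 0 0 0 0 0 0 0 0 0 0 0 0 0 0 0 0 0 0 1458 0 0 0 0 0 0 0 0 0 0 0 0 0 0 0 0 0 0 0 0 0 0 0 0 0 0 0 0 0 0 0 0 0 0) z3_b z3_b z3_b z3_b z3_b z3_b z3_b z3_b z3_b z3_b z3_b z3_b (@D3.rec (fun _ => Nat) 0 0 0 0 0 0 0 0 0 0 0 0 0 0 0 0 0 0 0 0 0 0 0 0 0 0 0 0 0 0 0 0 0 0 0 0 0 0 0 0 0 0 0 0 0 0 0 2331 0 0 0 0 0 0 0 0 0 0 0 0 0 0) z3_b z3_b z3_b z3_b z3_b z3_b z3_b z3_b z3_b z3_b z3_b z3_b z3_b z3_b z3_b z3_b z3_b z3_b z3_b z3_b z3_b z3_b z3_b z3_b z3_b z3_b z3_b z3_b z3_b z3_b z3_b z3_b z3_b z3_b z3_b z3_b z3_b z3_b z3_b z3_b z3_b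 z3_b z3_b
def sd_b_32 : D2 → D3 → Nat := @D2.rec (fun _ => D3 → Nat) z3_b z3_b z3_b z3_b z3_b z3_b z3_b z3_b z3_b z3_b z3_b z3_b z3_b z3_b z3_b z3_b z3_b z3_b z3_b z3_b z3_b z3_b z3_b z3_b z3_b z3_b z3_b z3_b (@D3.rec (fun _ => Nat) 0 0 0 0 0 0 0 0 0 0 0 0 0 0 0 0 0 0 0 0 0 0 0 0 0 0 2671 0 0 0 0 0 0 0 0 0 0 0 0 0 0 0 0 0 0 0 0 0 0 0 0 0 0 0 0 0 0 0 0 0 0 0) z3_b z3_b z3_b z3_b z3_b z3_b z3_b z3_b z3_b z3_b z3_b z3_b z3_b z3_b z3_b z3_b z3_b z3_b z3_b z3_b z3_b z3_b z3_b z3_b z3_b z3_b z3_b z3_b z3_b z3_b z3_b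
def sd_b : Pt → Nat := @Pt.rec (fun _ => Nat) (@D1.rec (fun _ => D2 → D3 → Nat) sd_b_0 sd_b_1 z2_b sd_b_3 sd_b_4 sd_b_5 sd_b_6 sd_b_7 sd_b_8 sd_b_9 sd_b_10 sd_b_11 sd_b_12 sd_b_13 sd_b_14 sd_b_15 sd_b_16 sd_b_17 sd_b_18 sd_b_19 sd_b_20 sd_b_21 sd_b_22 sd_b_23 sd_b_24 sd_b_25 sd_b_26 sd_b_27 z2_b sd_b_29 sd_b_30 z2_b sd_b_32)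

end

end Cfsg.Agent.Helper28.S1692
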