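import Cfsg.Agent.Lib.Helper28.S1692.Tree

set_option autoImplicit false
set_option maxRecDepth 100000
set_option linter.all false

namespace Cfsg.Agent.Helper28.S1692

open Cfsg.Agent.Helper28
open Cfsg.Spor.ON (Gen)

noncomputable section

abbrev lc_c_Cert_tree : Cert rels S Gen.c := Cert.tree
abbrev lc_c_rc_11_1 : Cert rels S Gen.c := rc_11_1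
abbrev lc_c_rc_12_0 : Cert rels S Gen.c := rc_12_0
abbrev lc_c_rc_12_10 : Cert rels S Gen.c := rc_12_10
abbrev lc_c_rc_12_12 : Cert rels S Gen.c := rc_12_12
abbrev lc_c_rc_12_14 : Cert rels S Gen.c := rc_12_14
abbrev lc_c_rc_12_2 : Cert rels S Gen.c := rc_12_2
abbrev lc_c_rc_12_4 : Cert rels S Gen.c := rc_12_4
abbrev lc_c_rc_12_6 : Cert rels S Gen.c := rc_12_6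
abbrev lc_c_rc_12_8 : Cert rels S Gen.c := rc_12_8
abbrev lc_c_rc_13_0 : Cert rels S Gen.c := rc_13_0
abbrev lc_c_rc_13_2 : Cert rels S Gen.c := rc_13_2
abbrev lc_c_rc_14_0 : Cert rels S Gen.c := rc_14_0
abbrev lc_c_rc_14_2 : Cert rels S Gen.c := rc_14_2
abbrev lc_c_rc_22_3 : Cert rels S Gen.c := rc_22_3
abbrev lc_c_rc_22_5 : Cert rels S Gen.c := rc_22_5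
abbrev lc_c_rc_22_7 : Cert rels S Gen.c := rc_22_7
abbrev lc_c_rc_22_9 : Cert rels S Gen.c := rc_22_9
abbrev lc_c_rc_23_0 : Cert rels S Gen.c := rc_23_0
abbrev lc_c_rc_23_5 : Cert rels S Gen.c := rc_23_5
abbrev lc_c_rc_24_2 : Cert rels S Gen.c := rc_24_2
abbrev lc_c_rc_24_4 : Cert rels S Gen.c := rc_24_4
abbrev lc_c_rc_24_6 : Cert rels S Gen.c := rc_24_6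
abbrev lc_c_rc_24_8 : Cert rels S Gen.c := rc_24_8
abbrev lc_c_rc_25_1 : Cert rels S Gen.c := rc_25_1
abbrev lc_c_rc_25_13 : Cert rels S Gen.c := rc_25_13
abbrev lc_c_rc_25_17 : Cert rels S Gen.c := rc_25_17
abbrev lc_c_rc_25_5 : Cert rels S Gen.c := rc_25_5
abbrev lc_c_rc_25_9 : Cert rels S Gen.c := rc_25_9
abbrev lc_c_rc_26_10 : Cert rels S Gen.c := rc_26_10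
abbrev lc_c_rc_26_2 : Cert rels S Gen.c := rc_26_2
abbrev lc_c_rc_26_4 : Cert rels S Gen.c := rc_26_4
abbrev lc_c_rc_26_8 : Cert rels S Gen.c := rc_26_8
abbrev lc_c_rc_2_1 : Cert rels S Gen.c := rc_2_1
abbrev lc_c_rc_2_3 : Cert rels S Gen.c := rc_2_3
abbrev lc_c_rc_7_1 : Cert rels S Gen.c := rc_7_1
abbrev lc_c_rc_7_3 : Cert rels S Gen.c := rc_7_3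
abbrev lc_c_rc_7_5 : Cert rels S Gen.c := rc_7_5
abbrev lc_c_sc_2_0 : Cert rels S Gen.c := sc_2_0
def ce_c_0 : D2 → D3 → (Cert rels S Gen.c) := @D2.rec (fun _ => D3 → (Cert rels S Gen.c)) (@D3.rec (fun _ => (Cert rels S Gen.c)) lc_c_sc_2_0 lc_c_Cert_tree lc_c_Cert_tree lc_c_rc_11_1 lc_c_rc_23_5 lc_c_rc_13_2 lc_c_Cert_tree lc_c_Cert_tree lc_c_Cert_tree lc_c_rc_11_1 lc_c_Cert_tree lc_c_rc_13_2 lc_c_rc_26_8 lc_c_rc_7_1 lc_c_rc_23_5 lc_c_rc_13_2 lc_c_rc_23_0 lc_c_rc_13_2 lc_c_Cert_tree lc_c_rc_23_0 lc_c_Cert_tree lc_c_rc_14_2 lc_c_rc_11_1 lc_c_rc_11_1 lc_c_rc_11_1 lc_c_Cert_tree lc_c_rc_13_2 lc_c_rc_11_1 lc_c_rc_11_1 lc_c_rc_7_1 lc_c_Cert_tree lc_c_rc_13_2 lc_c_Cert_tree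 lc_c_Cert_tree lc_c_rc_11_1 lc_c_rc_13_2 lc_c_Cert_tree lc_c_Cert_tree lc_c_Cert_tree lc_c_rc_14_2 lc_c_rc_26_2 lc_c_rc_26_10 lc_c_rc_2_1 lc_c_rc_7_5 lc_c_rc_13_2 lc_c_rc_23_0 lc_c_rc_13_2 lc_c_rc_23_5 lc_c_rc_23_0 lc_c_Cert_tree lc_c_rc_14_2 lc_c_rc_13_2 lc_c_rc_14_2 lc_c_Cert_tree lc_c_rc_14_2 lc_c_Cert_tree lc_c_Cert_tree lc_c_Cert_tree lc_c_Cert_tree lc_c_rc_11_1 lc_c_rc_14_2 lc_c_rc_2_3) (@D3.rec (fun _ => (Cert rels S Gen.c)) lc_c_rc_7_3 lc_c_Cert_tree lc_c_rc_7_3 lc_c_Cert_tree lc_c_rc_2_3 lc_c_Cert_tree lc_c_rc_13_2 lc_c_rc_11_1 lc_c_rc_13_2 lc_c_Cert_tree lc_c_Cert_tree lc_c_Cert_tree lc_c_rc_14_2 lc_c_Cert_tree lc_c_rc_7_3 lc_c_Cert_tree lc_c_Cert_tree lc_c_rc_13_2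 lc_c_Cert_tree lc_c_Cert_tree lc_c_rc_11_1 lc_c_rc_13_2 lc_c_rc_11_1 lc_c_Cert_tree lc_c_Cert_tree lc_c_rc_14_2 lc_c_rc_11_1 lc_c_rc_13_2 lc_c_rc_11_1 lc_c_rc_13_2 lc_c_rc_11_1 lc_c_rc_11_1 lc_c_rc_7_3 lc_c_Cert_tree lc_c_rc_13_2 lc_c_Cert_tree lc_c_Cert_tree lc_c_rc_14_2 lc_c_rc_11_1 lc_c_Cert_tree lc_c_rc_11_1 lc_c_Cert_tree lc_c_Cert_tree lc_c_Cert_tree lc_c_rc_11_1 lc_c_rc_14_2 lc_c_rc_11_1 lc_c_rc_22_9 lc_c_rc_24_8 lc_c_rc_26_2 lc_c_rc_13_2 lc_c_rc_24_8 lc_c_rc_23_0 lc_c_Cert_tree lc_c_rc_14_2 lc_c_rc_13_2 lc_c_rc_24_6 lc_c_Cert_tree lc_c_rc_14_2 lc_c_rc_26_4 lc_c_Cert_tree lc_c_Cert_tree) (@D3.rec (fun _ => (Cert rels S Gen.c)) lc_c_rc_11_1 lc_c_rc_24_2 lc_c_rc_11_1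 lc_c_rc_14_2 lc_c_rc_11_1 lc_c_rc_14_2 lc_c_rc_11_1 lc_c_rc_13_2 lc_c_rc_11_1 lc_c_rc_13_2 lc_c_rc_11_1 lc_c_rc_11_1 lc_c_rc_13_2 lc_c_rc_24_6 lc_c_rc_11_1 lc_c_rc_7_3 lc_c_Cert_tree lc_c_rc_14_2 lc_c_rc_13_2 lc_c_rc_7_3 lc_c_Cert_tree lc_c_rc_13_2 lc_c_rc_26_4 lc_c_rc_11_1 lc_c_rc_2_3 lc_c_Cert_tree lc_c_Cert_tree lc_c_Cert_tree lc_c_rc_11_1 lc_c_rc_13_2 lc_c_rc_2_3 lc_c_Cert_tree lc_c_rc_11_1 lc_c_rc_13_2 lc_c_Cert_tree lc_c_rc_13_2 lc_c_rc_11_1 lc_c_rc_13_2 lc_c_rc_23_5 lc_c_rc_23_0 lc_c_Cert_tree lc_c_rc_14_2 lc_c_rc_2_3 lc_c_rc_11_1 lc_c_rc_13_2 lc_c_Cert_tree lc_c_Cert_tree lc_c_rc_14_2 lc_c_rc_11_1 lc_c_Cert_tree lc_c_rc_11_1 lc_c_Cert_tree lc_c_Cert_tree lc_c_Cert_tree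 lc_c_rc_11_1 lc_c_rc_14_2 lc_c_rc_11_1 lc_c_rc_13_2 lc_c_rc_26_10 lc_c_rc_11_1 lc_c_rc_11_1 lc_c_rc_13_2) (@D3.rec (fun _ => (Cert rels S Gen.c)) lc_c_rc_23_0 lc_c_rc_24_2 lc_c_rc_11_1 lc_c_rc_13_2 lc_c_Cert_tree lc_c_rc_14_2 lc_c_rc_11_1 lc_c_rc_13_2 lc_c_rc_26_2 lc_c_rc_11_1 lc_c_rc_13_2 lc_c_rc_23_0 lc_c_rc_11_1 lc_c_rc_7_3 lc_c_rc_22_5 lc_c_rc_13_2 lc_c_Cert_tree lc_c_Cert_tree lc_c_Cert_tree lc_c_rc_14_2 lc_c_Cert_tree lc_c_rc_7_3 lc_c_rc_11_1 lc_c_Cert_tree lc_c_Cert_tree lc_c_Cert_tree lc_c_rc_11_1 lc_c_rc_14_2 lc_c_rc_24_6 lc_c_rc_26_2 lc_c_rc_13_2 lc_c_rc_7_3 lc_c_rc_13_2 lc_c_rc_13_2 lc_c_rc_7_3 lc_c_rc_13_2 lc_c_rc_13_2 lc_c_rc_11_1 lc_c_rc_13_2 lc_c_rc_11_1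 lc_c_Cert_tree lc_c_rc_14_2 lc_c_rc_11_1 lc_c_rc_11_1 lc_c_rc_14_2 lc_c_rc_24_6 lc_c_rc_26_2 lc_c_Cert_tree lc_c_Cert_tree lc_c_rc_11_1 lc_c_rc_13_2 lc_c_rc_7_3 lc_c_Cert_tree lc_c_rc_11_1 lc_c_rc_13_2 lc_c_rc_11_1 lc_c_rc_11_1 lc_c_rc_13_2 lc_c_rc_24_6 lc_c_Cert_tree lc_c_rc_7_3 lc_c_Cert_tree) (@D3.rec (fun _ => (Cert rels S Gen.c)) lc_c_rc_14_2 lc_c_rc_13_2 lc_c_rc_13_2 lc_c_Cert_tree lc_c_rc_26_8 lc_c_rc_13_2 lc_c_rc_13_2 lc_c_rc_26_10 lc_c_rc_24_8 lc_c_rc_26_4 lc_c_Cert_tree lc_c_Cert_tree lc_c_rc_26_10 lc_c_rc_24_8 lc_c_rc_11_1 lc_c_rc_14_2 lc_c_rc_26_2 lc_c_rc_11_1 lc_c_rc_11_1 lc_c_rc_26_2 lc_c_rc_11_1 lc_c_rc_13_2 lc_c_rc_11_1 lc_c_rc_13_2 lc_c_rc_11_1 lc_c_rc_13_2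 lc_c_rc_7_3 lc_c_rc_22_5 lc_c_rc_14_2 lc_c_rc_13_2 lc_c_rc_7_3 lc_c_Cert_tree lc_c_rc_14_2 lc_c_rc_13_2 lc_c_rc_24_4 lc_c_rc_7_3 lc_c_rc_11_1 lc_c_rc_13_2 lc_c_Cert_tree lc_c_Cert_tree lc_c_rc_14_2 lc_c_rc_7_3 lc_c_Cert_tree lc_c_rc_13_2 lc_c_rc_14_2 lc_c_rc_7_3 lc_c_rc_22_7 lc_c_rc_7_3 lc_c_rc_22_3 lc_c_rc_13_2 lc_c_rc_26_2 lc_c_rc_7_5 lc_c_rc_23_5 lc_c_Cert_tree lc_c_rc_23_5 lc_c_rc_13_2 lc_c_Cert_tree lc_c_Cert_tree lc_c_rc_2_3 lc_c_Cert_tree lc_c_rc_14_2 lc_c_rc_24_8) (@D3.rec (fun _ => (Cert rels S Gen.c)) lc_c_rc_24_2 lc_c_rc_11_1 lc_c_rc_13_2 lc_c_rc_22_5 lc_c_rc_13_2 lc_c_Cert_tree lc_c_rc_13_2 lc_c_rc_11_1 lc_c_rc_13_2 lc_c_Cert_tree lc_c_rc_11_1 lc_c_rc_13_2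 lc_c_Cert_tree lc_c_rc_13_2 lc_c_Cert_tree lc_c_rc_11_1 lc_c_Cert_tree lc_c_rc_11_1 lc_c_rc_13_2 lc_c_rc_26_2 lc_c_rc_11_1 lc_c_rc_13_2 lc_c_rc_11_1 lc_c_rc_13_2 lc_c_rc_7_3 lc_c_rc_13_2 lc_c_Cert_tree lc_c_Cert_tree lc_c_rc_14_2 lc_c_Cert_tree lc_c_rc_26_4 lc_c_rc_11_1 lc_c_rc_13_2 lc_c_rc_7_3 lc_c_rc_13_2 lc_c_Cert_tree lc_c_Cert_tree lc_c_rc_14_2 lc_c_Cert_tree lc_c_Cert_tree lc_c_rc_11_1 lc_c_rc_13_2 lc_c_rc_7_3 lc_c_rc_24_8 lc_c_Cert_tree lc_c_rc_14_2 lc_c_rc_7_3 lc_c_rc_13_2 lc_c_Cert_tree lc_c_Cert_tree lc_c_Cert_tree lc_c_rc_14_2 lc_c_rc_13_2 lc_c_Cert_tree lc_c_Cert_tree lc_c_Cert_tree lc_c_Cert_tree lc_c_rc_11_1 lc_c_rc_14_2 lc_c_rc_2_3 lc_c_rc_7_3 lc_c_rc_13_2)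 (@D3.rec (fun _ => (Cert rels S Gen.c)) lc_c_rc_13_2 lc_c_rc_23_0 lc_c_Cert_tree lc_c_rc_14_2 lc_c_rc_11_1 lc_c_rc_11_1 lc_c_Cert_tree lc_c_rc_11_1 lc_c_rc_13_2 lc_c_rc_7_3 lc_c_Cert_tree lc_c_rc_11_1 lc_c_rc_13_2 lc_c_rc_11_1 lc_c_rc_11_1 lc_c_rc_13_2 lc_c_rc_24_6 lc_c_rc_11_1 lc_c_rc_7_3 lc_c_Cert_tree lc_c_rc_14_2 lc_c_rc_13_2 lc_c_rc_7_3 lc_c_rc_13_2 lc_c_rc_11_1 lc_c_rc_13_2 lc_c_rc_14_2 lc_c_rc_25_5 lc_c_rc_13_2 lc_c_rc_23_0 lc_c_rc_13_2 lc_c_rc_7_3 lc_c_rc_13_2 lc_c_rc_11_1 lc_c_rc_13_2 lc_c_rc_14_2 lc_c_rc_26_2 lc_c_rc_13_2 lc_c_rc_13_2 lc_c_rc_7_3 lc_c_rc_13_2 lc_c_rc_24_8 lc_c_rc_13_2 lc_c_Cert_tree lc_c_rc_14_2 lc_c_rc_11_1 lc_c_rc_23_0 lc_c_rc_11_1 lc_c_rc_14_2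 lc_c_rc_7_3 lc_c_rc_13_2 lc_c_Cert_tree lc_c_Cert_tree lc_c_Cert_tree lc_c_rc_14_2 lc_c_rc_13_2 lc_c_rc_26_2 lc_c_rc_13_2 lc_c_Cert_tree lc_c_Cert_tree lc_c_Cert_tree lc_c_rc_14_2) (@D3.rec (fun _ => (Cert rels S Gen.c)) lc_c_rc_7_1 lc_c_rc_13_2 lc_c_Cert_tree lc_c_rc_13_2 lc_c_Cert_tree lc_c_rc_11_1 lc_c_rc_2_3 lc_c_Cert_tree lc_c_rc_13_2 lc_c_rc_13_2 lc_c_rc_11_1 lc_c_rc_13_2 lc_c_Cert_tree lc_c_rc_14_2 lc_c_rc_11_1 lc_c_Cert_tree lc_c_rc_13_2 lc_c_rc_26_4 lc_c_rc_11_1 lc_c_Cert_tree lc_c_rc_13_2 lc_c_Cert_tree lc_c_Cert_tree lc_c_rc_11_1 lc_c_rc_14_2 lc_c_Cert_tree lc_c_rc_11_1 lc_c_rc_13_2 lc_c_rc_23_0 lc_c_Cert_tree lc_c_rc_23_0 lc_c_rc_11_1 lc_c_rc_7_5 lc_c_rc_11_1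 lc_c_Cert_tree lc_c_rc_11_1 lc_c_rc_13_2 lc_c_rc_24_4 lc_c_rc_23_0 lc_c_rc_7_3 lc_c_rc_11_1 lc_c_rc_14_2 lc_c_rc_13_2 lc_c_rc_13_2 lc_c_rc_26_10 lc_c_rc_11_1 lc_c_rc_2_1 lc_c_rc_13_2 lc_c_rc_11_1 lc_c_rc_13_2 lc_c_rc_11_1 lc_c_rc_11_1 lc_c_rc_7_1 lc_c_rc_13_2 lc_c_Cert_tree lc_c_rc_7_3 lc_c_rc_13_2 lc_c_Cert_tree lc_c_Cert_tree lc_c_Cert_tree lc_c_rc_14_2 lc_c_rc_11_1) (@D3.rec (fun _ => (Cert rels S Gen.c)) lc_c_rc_14_2 lc_c_rc_26_2 lc_c_rc_11_1 lc_c_rc_24_6 lc_c_rc_23_0 lc_c_rc_7_3 lc_c_Cert_tree lc_c_rc_14_2 lc_c_rc_13_2 lc_c_rc_7_3 lc_c_Cert_tree lc_c_rc_24_2 lc_c_rc_12_12 lc_c_Cert_tree lc_c_Cert_tree lc_c_rc_11_1 lc_c_rc_13_2 lc_c_rc_11_1 lc_c_rc_13_2 lc_c_rc_24_6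 lc_c_rc_11_1 lc_c_rc_7_3 lc_c_rc_24_8 lc_c_rc_13_2 lc_c_Cert_tree lc_c_Cert_tree lc_c_rc_14_2 lc_c_Cert_tree lc_c_rc_11_1 lc_c_rc_13_2 lc_c_rc_7_3 lc_c_rc_12_10 lc_c_rc_13_2 lc_c_rc_14_2 lc_c_rc_11_1 lc_c_rc_7_3 lc_c_rc_11_1 lc_c_rc_7_3 lc_c_rc_11_1 lc_c_rc_13_2 lc_c_Cert_tree lc_c_Cert_tree lc_c_rc_7_5 lc_c_rc_24_4 lc_c_rc_7_3 lc_c_rc_11_1 lc_c_rc_24_4 lc_c_rc_13_2 lc_c_Cert_tree lc_c_Cert_tree lc_c_rc_2_3 lc_c_Cert_tree lc_c_rc_14_2 lc_c_rc_24_2 lc_c_rc_24_2 lc_c_rc_11_1 lc_c_rc_13_2 lc_c_rc_22_5 lc_c_rc_13_2 lc_c_rc_24_8 lc_c_rc_26_10 lc_c_rc_11_1) (@D3.rec (fun _ => (Cert rels S Gen.c)) lc_c_rc_26_8 lc_c_rc_11_1 lc_c_rc_26_8 lc_c_rc_11_1 lc_c_rc_13_2 lc_c_rc_11_1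 lc_c_rc_11_1 lc_c_rc_13_2 lc_c_rc_7_3 lc_c_Cert_tree lc_c_rc_14_2 lc_c_rc_13_2 lc_c_rc_11_1 lc_c_rc_22_5 lc_c_rc_13_2 lc_c_rc_13_2 lc_c_rc_7_3 lc_c_rc_13_2 lc_c_rc_24_2 lc_c_rc_23_0 lc_c_rc_14_2 lc_c_rc_7_3 lc_c_rc_13_2 lc_c_rc_14_2 lc_c_rc_26_8 lc_c_Cert_tree lc_c_Cert_tree lc_c_rc_2_3 lc_c_Cert_tree lc_c_rc_14_2 lc_c_rc_13_2 lc_c_rc_13_2 lc_c_Cert_tree lc_c_Cert_tree lc_c_rc_2_3 lc_c_Cert_tree lc_c_rc_14_2 lc_c_rc_11_1 lc_c_rc_13_2 lc_c_rc_22_5 lc_c_rc_13_2 lc_c_Cert_tree lc_c_rc_13_2 lc_c_Cert_tree lc_c_Cert_tree lc_c_rc_2_3 lc_c_Cert_tree lc_c_rc_13_2 lc_c_rc_13_2 lc_c_rc_24_6 lc_c_rc_23_0 lc_c_Cert_tree lc_c_rc_14_2 lc_c_Cert_tree lc_c_rc_11_1 lc_c_rc_11_1 lc_c_Cert_tree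 lc_c_Cert_tree lc_c_rc_2_3 lc_c_Cert_tree lc_c_rc_7_3 lc_c_rc_13_2) (@D3.rec (fun _ => (Cert rels S Gen.c)) lc_c_Cert_tree lc_c_rc_14_2 lc_c_Cert_tree lc_c_Cert_tree lc_c_rc_2_3 lc_c_Cert_tree lc_c_rc_13_2 lc_c_Cert_tree lc_c_Cert_tree lc_c_rc_2_3 lc_c_Cert_tree lc_c_rc_13_2 lc_c_rc_13_2 lc_c_rc_11_1 lc_c_rc_26_10 lc_c_Cert_tree lc_c_Cert_tree lc_c_rc_2_3 lc_c_Cert_tree lc_c_rc_13_2 lc_c_Cert_tree lc_c_Cert_tree lc_c_Cert_tree lc_c_rc_11_1 lc_c_Cert_tree lc_c_rc_13_2 lc_c_rc_13_2 lc_c_rc_14_2 lc_c_Cert_tree lc_c_Cert_tree lc_c_rc_11_1 lc_c_Cert_tree lc_c_rc_14_2 lc_c_rc_7_3 lc_c_rc_11_1 lc_c_Cert_tree lc_c_rc_13_2 lc_c_Cert_tree lc_c_Cert_tree lc_c_Cert_tree lc_c_rc_11_1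 lc_c_rc_13_2 lc_c_rc_14_2 lc_c_rc_13_2 lc_c_Cert_tree lc_c_rc_13_2 lc_c_Cert_tree lc_c_rc_13_2 lc_c_rc_7_3 lc_c_rc_13_2 lc_c_Cert_tree lc_c_Cert_tree lc_c_rc_14_2 lc_c_rc_13_2 lc_c_rc_7_3 lc_c_Cert_tree lc_c_rc_11_1 lc_c_rc_13_2 lc_c_rc_22_7 lc_c_Cert_tree lc_c_rc_7_1 lc_c_rc_13_2) (@D3.rec (fun _ => (Cert rels S Gen.c)) lc_c_rc_24_8 lc_c_rc_13_2 lc_c_Cert_tree lc_c_rc_14_2 lc_c_rc_11_1 lc_c_rc_26_10 lc_c_rc_13_2 lc_c_Cert_tree lc_c_rc_11_1 lc_c_rc_13_2 lc_c_rc_11_1 lc_c_Cert_tree lc_c_rc_26_2 lc_c_rc_11_1 lc_c_rc_13_2 lc_c_rc_13_2 lc_c_rc_11_1 lc_c_rc_13_2 lc_c_rc_11_1 lc_c_rc_11_1 lc_c_rc_7_3 lc_c_rc_26_4 lc_c_rc_13_2 lc_c_Cert_tree lc_c_Cert_tree lc_c_rc_14_2 lc_c_rc_13_2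 lc_c_rc_26_4 lc_c_rc_13_2 lc_c_rc_23_0 lc_c_rc_26_10 lc_c_Cert_tree lc_c_rc_14_2 lc_c_rc_7_3 lc_c_rc_13_2 lc_c_rc_24_8 lc_c_rc_24_8 lc_c_Cert_tree lc_c_rc_14_2 lc_c_Cert_tree lc_c_Cert_tree lc_c_rc_26_10 lc_c_rc_13_2 lc_c_rc_24_6 lc_c_rc_13_2 lc_c_Cert_tree lc_c_rc_14_2 lc_c_rc_26_2 lc_c_rc_11_1 lc_c_Cert_tree lc_c_rc_13_2 lc_c_rc_11_1 lc_c_Cert_tree lc_c_rc_13_2 lc_c_rc_11_1 lc_c_rc_13_2 lc_c_rc_13_2 lc_c_rc_7_3 lc_c_rc_22_7 lc_c_rc_13_2 lc_c_rc_26_4 lc_c_rc_14_2) (@D3.rec (fun _ => (Cert rels S Gen.c)) lc_c_rc_7_5 lc_c_rc_22_9 lc_c_rc_2_3 lc_c_rc_13_2 lc_c_rc_26_10 lc_c_rc_13_2 lc_c_Cert_tree lc_c_rc_14_2 lc_c_rc_11_1 lc_c_Cert_tree lc_c_rc_13_2 lc_c_Cert_tree lc_c_rc_11_1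 lc_c_Cert_tree lc_c_rc_13_2 lc_c_rc_11_1 lc_c_rc_13_2 lc_c_rc_11_1 lc_c_rc_13_2 lc_c_rc_11_1 lc_c_rc_11_1 lc_c_rc_7_3 lc_c_rc_22_3 lc_c_rc_13_2 lc_c_Cert_tree lc_c_Cert_tree lc_c_Cert_tree lc_c_rc_14_2 lc_c_Cert_tree lc_c_Cert_tree lc_c_Cert_tree lc_c_Cert_tree lc_c_rc_11_1 lc_c_rc_14_2 lc_c_rc_2_3 lc_c_rc_11_1 lc_c_rc_2_3 lc_c_rc_13_2 lc_c_rc_11_1 lc_c_rc_13_2 lc_c_Cert_tree lc_c_rc_14_2 lc_c_rc_26_8 lc_c_rc_11_1 lc_c_Cert_tree lc_c_rc_13_2 lc_c_rc_11_1 lc_c_Cert_tree lc_c_rc_13_2 lc_c_Cert_tree lc_c_Cert_tree lc_c_rc_11_1 lc_c_rc_14_2 lc_c_Cert_tree lc_c_rc_11_1 lc_c_rc_13_2 lc_c_rc_11_1 lc_c_rc_13_2 lc_c_Cert_tree lc_c_rc_11_1 lc_c_rc_11_1 lc_c_rc_13_2) (@D3.rec (fun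 _ => (Cert rels S Gen.c)) lc_c_rc_24_6 lc_c_rc_24_6 lc_c_rc_7_3 lc_c_rc_11_1 lc_c_rc_14_2 lc_c_rc_13_2 lc_c_rc_2_3 lc_c_rc_13_2 lc_c_rc_7_3 lc_c_Cert_tree lc_c_rc_14_2 lc_c_rc_24_8 lc_c_rc_13_2 lc_c_Cert_tree lc_c_rc_14_2 lc_c_rc_7_3 lc_c_rc_11_1 lc_c_rc_7_3 lc_c_Cert_tree lc_c_rc_26_2 lc_c_rc_23_0 lc_c_rc_11_1 lc_c_rc_13_2 lc_c_rc_24_4 lc_c_rc_23_5 lc_c_rc_7_3 lc_c_rc_24_2 lc_c_rc_13_2 lc_c_Cert_tree lc_c_rc_14_2 lc_c_Cert_tree lc_c_rc_11_1 lc_c_rc_13_2 lc_c_rc_7_3 lc_c_rc_11_1 lc_c_rc_13_2 lc_c_rc_14_2 lc_c_rc_7_3 lc_c_rc_23_5 lc_c_rc_7_3 lc_c_rc_11_1 lc_c_rc_13_2 lc_c_rc_7_3 lc_c_rc_24_4 lc_c_rc_24_4 lc_c_rc_13_2 lc_c_Cert_tree lc_c_Cert_tree lc_c_rc_2_3 lc_c_Cert_tree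 lc_c_rc_14_2 lc_c_rc_12_12 lc_c_rc_24_2 lc_c_rc_11_1 lc_c_rc_13_2 lc_c_rc_22_5 lc_c_rc_13_2 lc_c_rc_11_1 lc_c_rc_2_3 lc_c_rc_13_2 lc_c_Cert_tree lc_c_rc_14_2) (@D3.rec (fun _ => (Cert rels S Gen.c)) lc_c_Cert_tree lc_c_Cert_tree lc_c_rc_13_2 lc_c_Cert_tree lc_c_rc_23_5 lc_c_rc_13_2 lc_c_Cert_tree lc_c_rc_13_2 lc_c_rc_11_1 lc_c_rc_11_1 lc_c_rc_14_2 lc_c_rc_13_2 lc_c_Cert_tree lc_c_rc_14_2 lc_c_Cert_tree lc_c_rc_13_2 lc_c_Cert_tree lc_c_rc_23_5 lc_c_rc_13_2 lc_c_rc_26_10 lc_c_rc_13_2 lc_c_rc_13_2 lc_c_rc_14_2 lc_c_rc_26_10 lc_c_rc_13_2 lc_c_rc_13_2 lc_c_rc_14_2 lc_c_Cert_tree lc_c_Cert_tree lc_c_rc_2_3 lc_c_rc_13_2 lc_c_Cert_tree lc_c_rc_14_2 lc_c_rc_26_4 lc_c_Cert_tree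 lc_c_rc_13_2 lc_c_Cert_tree lc_c_Cert_tree lc_c_rc_23_5 lc_c_rc_23_0 lc_c_rc_24_8 lc_c_rc_11_1 lc_c_rc_14_2 lc_c_rc_26_2 lc_c_Cert_tree lc_c_rc_13_2 lc_c_rc_7_3 lc_c_rc_22_9 lc_c_rc_14_2 lc_c_rc_13_2 lc_c_rc_23_5 lc_c_rc_11_1 lc_c_rc_2_3 lc_c_rc_13_2 lc_c_rc_11_1 lc_c_rc_13_2 lc_c_Cert_tree lc_c_rc_14_2 lc_c_Cert_tree lc_c_rc_11_1 lc_c_Cert_tree lc_c_rc_11_1) (@D3.rec (fun _ => (Cert rels S Gen.c)) lc_c_Cert_tree lc_c_rc_13_2 lc_c_Cert_tree lc_c_Cert_tree lc_c_rc_11_1 lc_c_rc_14_2 lc_c_rc_23_0 lc_c_rc_11_1 lc_c_Cert_tree lc_c_rc_14_2 lc_c_rc_13_2 lc_c_rc_7_1 lc_c_rc_13_2 lc_c_Cert_tree lc_c_rc_14_2 lc_c_rc_11_1 lc_c_Cert_tree lc_c_Cert_tree lc_c_rc_11_1 lc_c_Cert_tree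 lc_c_rc_13_2 lc_c_Cert_tree lc_c_Cert_tree lc_c_rc_11_1 lc_c_rc_14_2 lc_c_Cert_tree lc_c_Cert_tree lc_c_rc_24_2 lc_c_rc_13_2 lc_c_Cert_tree lc_c_rc_14_2 lc_c_rc_11_1 lc_c_Cert_tree lc_c_rc_11_1 lc_c_rc_13_2 lc_c_Cert_tree lc_c_rc_14_2 lc_c_rc_26_4 lc_c_rc_11_1 lc_c_rc_13_2 lc_c_rc_26_8 lc_c_rc_13_2 lc_c_rc_11_1 lc_c_rc_13_2 lc_c_rc_7_5 lc_c_rc_7_5 lc_c_rc_11_1 lc_c_rc_13_2 lc_c_Cert_tree lc_c_Cert_tree lc_c_Cert_tree lc_c_rc_14_2 lc_c_rc_23_0 lc_c_rc_11_1 lc_c_Cert_tree lc_c_rc_14_2 lc_c_rc_7_1 lc_c_Cert_tree lc_c_rc_13_2 lc_c_Cert_tree lc_c_Cert_tree lc_c_rc_23_5) (@D3.rec (fun _ => (Cert rels S Gen.c)) lc_c_Cert_tree lc_c_Cert_tree lc_c_rc_11_1 lc_c_rc_14_2 lc_c_rc_13_2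 lc_c_Cert_tree lc_c_rc_13_2 lc_c_Cert_tree lc_c_Cert_tree lc_c_rc_11_1 lc_c_rc_13_2 lc_c_rc_23_0 lc_c_Cert_tree lc_c_rc_14_2 lc_c_rc_7_5 lc_c_Cert_tree lc_c_rc_13_2 lc_c_rc_26_2 lc_c_Cert_tree lc_c_rc_13_2 lc_c_rc_11_1 lc_c_rc_13_2 lc_c_rc_11_1 lc_c_rc_11_1 lc_c_Cert_tree lc_c_rc_13_2 lc_c_Cert_tree lc_c_rc_11_1 lc_c_Cert_tree lc_c_rc_13_2 lc_c_rc_23_0 lc_c_rc_11_1 lc_c_rc_7_3 lc_c_Cert_tree lc_c_rc_14_2 lc_c_rc_13_2 lc_c_Cert_tree lc_c_rc_11_1 lc_c_rc_13_2 lc_c_rc_24_4 lc_c_rc_23_0 lc_c_rc_7_3 lc_c_rc_23_0 lc_c_rc_13_2 lc_c_Cert_tree lc_c_Cert_tree lc_c_rc_14_2 lc_c_Cert_tree lc_c_Cert_tree lc_c_Cert_tree lc_c_rc_11_1 lc_c_rc_13_2 lc_c_rc_7_1 lc_c_rc_24_8 lc_c_Cert_tree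 lc_c_Cert_tree lc_c_rc_7_5 lc_c_rc_7_3 lc_c_rc_11_1 lc_c_rc_11_1 lc_c_rc_13_2 lc_c_rc_7_1) (@D3.rec (fun _ => (Cert rels S Gen.c)) lc_c_rc_11_1 lc_c_rc_13_2 lc_c_Cert_tree lc_c_Cert_tree lc_c_rc_14_2 lc_c_Cert_tree lc_c_rc_24_4 lc_c_rc_13_2 lc_c_Cert_tree lc_c_rc_24_4 lc_c_rc_13_2 lc_c_Cert_tree lc_c_Cert_tree lc_c_rc_2_3 lc_c_Cert_tree lc_c_rc_14_2 lc_c_rc_24_6 lc_c_rc_11_1 lc_c_rc_13_2 lc_c_rc_13_2 lc_c_Cert_tree lc_c_rc_7_5 lc_c_rc_13_2 lc_c_rc_13_2 lc_c_rc_2_1 lc_c_rc_11_1 lc_c_rc_7_3 lc_c_rc_13_2 lc_c_rc_14_0 lc_c_rc_11_1 lc_c_rc_11_1 lc_c_rc_11_1 lc_c_rc_2_3 lc_c_rc_13_2 lc_c_rc_26_10 lc_c_rc_11_1 lc_c_Cert_tree lc_c_rc_14_2 lc_c_rc_11_1 lc_c_Cert_tree lc_c_rc_13_2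 lc_c_rc_26_4 lc_c_rc_11_1 lc_c_Cert_tree lc_c_rc_13_2 lc_c_Cert_tree lc_c_Cert_tree lc_c_rc_11_1 lc_c_rc_14_2 lc_c_rc_7_3 lc_c_rc_12_4 lc_c_rc_14_2 lc_c_rc_13_2 lc_c_rc_26_10 lc_c_rc_26_10 lc_c_Cert_tree lc_c_rc_13_2 lc_c_rc_7_5 lc_c_rc_13_2 lc_c_rc_7_3 lc_c_rc_13_2 lc_c_Cert_tree) (@D3.rec (fun _ => (Cert rels S Gen.c)) lc_c_Cert_tree lc_c_rc_2_3 lc_c_Cert_tree lc_c_rc_14_2 lc_c_rc_11_1 lc_c_rc_13_2 lc_c_rc_22_5 lc_c_rc_13_2 lc_c_Cert_tree lc_c_rc_11_1 lc_c_rc_13_2 lc_c_Cert_tree lc_c_Cert_tree lc_c_Cert_tree lc_c_Cert_tree lc_c_rc_11_1 lc_c_rc_13_2 lc_c_rc_26_2 lc_c_rc_11_1 lc_c_rc_13_2 lc_c_rc_7_3 lc_c_rc_13_2 lc_c_Cert_tree lc_c_Cert_tree lc_c_rc_14_2 lc_c_rc_7_3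 lc_c_rc_22_5 lc_c_rc_13_2 lc_c_rc_7_5 lc_c_rc_22_5 lc_c_rc_13_2 lc_c_rc_7_5 lc_c_rc_23_0 lc_c_Cert_tree lc_c_Cert_tree lc_c_rc_2_3 lc_c_Cert_tree lc_c_rc_13_2 lc_c_rc_2_3 lc_c_rc_13_2 lc_c_rc_11_1 lc_c_rc_23_0 lc_c_Cert_tree lc_c_rc_14_2 lc_c_rc_11_1 lc_c_rc_11_1 lc_c_Cert_tree lc_c_rc_11_1 lc_c_rc_13_2 lc_c_rc_7_3 lc_c_rc_13_2 lc_c_Cert_tree lc_c_Cert_tree lc_c_rc_14_2 lc_c_Cert_tree lc_c_Cert_tree lc_c_rc_2_3 lc_c_Cert_tree lc_c_rc_13_2 lc_c_rc_13_2 lc_c_rc_13_0 lc_c_rc_13_0) (@D3.rec (fun _ => (Cert rels S Gen.c)) lc_c_Cert_tree lc_c_rc_14_2 lc_c_rc_7_3 lc_c_Cert_tree lc_c_Cert_tree lc_c_rc_2_3 lc_c_Cert_tree lc_c_rc_23_0 lc_c_rc_24_4 lc_c_rc_13_2 lc_c_Cert_tree lc_c_Cert_tree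 lc_c_rc_2_3 lc_c_rc_13_0 lc_c_rc_13_2 lc_c_rc_13_2 lc_c_rc_13_2 lc_c_rc_11_1 lc_c_rc_11_1 lc_c_Cert_tree lc_c_rc_11_1 lc_c_rc_2_3 lc_c_Cert_tree lc_c_rc_13_2 lc_c_Cert_tree lc_c_rc_11_1 lc_c_rc_2_3 lc_c_Cert_tree lc_c_rc_13_2 lc_c_rc_13_2 lc_c_rc_13_2 lc_c_Cert_tree lc_c_rc_14_2 lc_c_rc_26_8 lc_c_rc_26_4 lc_c_rc_11_1 lc_c_Cert_tree lc_c_rc_14_2 lc_c_Cert_tree lc_c_rc_11_1 lc_c_Cert_tree lc_c_rc_13_2 lc_c_Cert_tree lc_c_Cert_tree lc_c_Cert_tree lc_c_rc_11_1 lc_c_rc_13_2 lc_c_rc_14_2 lc_c_rc_13_2 lc_c_Cert_tree lc_c_rc_13_2 lc_c_Cert_tree lc_c_rc_13_2 lc_c_rc_7_3 lc_c_rc_13_2 lc_c_Cert_tree lc_c_Cert_tree lc_c_rc_14_2 lc_c_rc_13_2 lc_c_rc_13_0 lc_c_rc_22_9 lc_c_Cert_tree)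 (@D3.rec (fun _ => (Cert rels S Gen.c)) lc_c_rc_7_3 lc_c_rc_22_5 lc_c_rc_2_1 lc_c_rc_2_1 lc_c_rc_13_2 lc_c_rc_7_3 lc_c_rc_13_2 lc_c_rc_24_2 lc_c_rc_23_0 lc_c_rc_22_3 lc_c_rc_7_3 lc_c_rc_22_3 lc_c_rc_13_2 lc_c_rc_13_2 lc_c_rc_11_1 lc_c_rc_2_3 lc_c_rc_2_3 lc_c_Cert_tree lc_c_rc_14_2 lc_c_rc_11_1 lc_c_rc_13_2 lc_c_rc_12_4 lc_c_rc_13_2 lc_c_Cert_tree lc_c_Cert_tree lc_c_rc_2_3 lc_c_Cert_tree lc_c_rc_13_2 lc_c_rc_24_2 lc_c_rc_23_0 lc_c_rc_14_2 lc_c_Cert_tree lc_c_rc_11_1 lc_c_rc_2_3 lc_c_rc_13_2 lc_c_Cert_tree lc_c_rc_14_2 lc_c_Cert_tree lc_c_Cert_tree lc_c_rc_2_3 lc_c_rc_13_2 lc_c_rc_26_8 lc_c_rc_14_2 lc_c_rc_2_1 lc_c_rc_7_3 lc_c_rc_11_1 lc_c_Cert_tree lc_c_rc_14_2 lc_c_Cert_tree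 lc_c_rc_11_1 lc_c_Cert_tree lc_c_rc_13_2 lc_c_Cert_tree lc_c_Cert_tree lc_c_Cert_tree lc_c_rc_11_1 lc_c_rc_13_2 lc_c_rc_13_2 lc_c_rc_14_2 lc_c_Cert_tree lc_c_rc_14_2 lc_c_Cert_tree) (@D3.rec (fun _ => (Cert rels S Gen.c)) lc_c_rc_14_2 lc_c_Cert_tree lc_c_Cert_tree lc_c_rc_11_1 lc_c_rc_13_2 lc_c_rc_14_2 lc_c_rc_7_1 lc_c_rc_11_1 lc_c_rc_13_2 lc_c_Cert_tree lc_c_Cert_tree lc_c_Cert_tree lc_c_rc_11_1 lc_c_rc_13_2 lc_c_rc_14_2 lc_c_rc_13_2 lc_c_rc_7_3 lc_c_rc_13_2 lc_c_Cert_tree lc_c_Cert_tree lc_c_rc_14_2 lc_c_rc_13_2 lc_c_rc_13_0 lc_c_Cert_tree lc_c_Cert_tree lc_c_Cert_tree lc_c_rc_11_1 lc_c_rc_13_2 lc_c_rc_13_0 lc_c_rc_26_4 lc_c_rc_11_1 lc_c_Cert_tree lc_c_rc_13_2 lc_c_Cert_tree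 lc_c_rc_11_1 lc_c_Cert_tree lc_c_Cert_tree lc_c_rc_13_2 lc_c_Cert_tree lc_c_Cert_tree lc_c_rc_11_1 lc_c_rc_13_2 lc_c_Cert_tree lc_c_Cert_tree lc_c_Cert_tree lc_c_rc_14_2 lc_c_rc_26_2 lc_c_rc_26_10 lc_c_rc_26_10 lc_c_rc_14_2 lc_c_Cert_tree lc_c_rc_7_3 lc_c_rc_22_9 lc_c_rc_11_1 lc_c_rc_14_2 lc_c_rc_11_1 lc_c_rc_7_1 lc_c_rc_7_3 lc_c_rc_22_9 lc_c_rc_26_4 lc_c_rc_11_1 lc_c_Cert_tree) (@D3.rec (fun _ => (Cert rels S Gen.c)) lc_c_rc_26_8 lc_c_rc_11_1 lc_c_Cert_tree lc_c_rc_13_2 lc_c_Cert_tree lc_c_rc_2_3 lc_c_Cert_tree lc_c_Cert_tree lc_c_rc_11_1 lc_c_rc_13_2 lc_c_Cert_tree lc_c_Cert_tree lc_c_rc_14_2 lc_c_Cert_tree lc_c_Cert_tree lc_c_Cert_tree lc_c_rc_14_2 lc_c_rc_11_1 lc_c_rc_13_2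 lc_c_rc_26_4 lc_c_rc_11_1 lc_c_rc_13_2 lc_c_Cert_tree lc_c_rc_11_1 lc_c_Cert_tree lc_c_rc_11_1 lc_c_rc_13_2 lc_c_rc_26_4 lc_c_rc_26_4 lc_c_rc_26_4 lc_c_rc_11_1 lc_c_rc_26_8 lc_c_rc_11_1 lc_c_Cert_tree lc_c_rc_13_2 lc_c_rc_11_1 lc_c_rc_13_2 lc_c_Cert_tree lc_c_Cert_tree lc_c_rc_26_4 lc_c_Cert_tree lc_c_rc_7_5 lc_c_rc_11_1 lc_c_Cert_tree lc_c_rc_13_2 lc_c_Cert_tree lc_c_rc_11_1 lc_c_Cert_tree lc_c_Cert_tree lc_c_Cert_tree lc_c_Cert_tree lc_c_rc_11_1 lc_c_rc_13_2 lc_c_rc_24_4 lc_c_rc_11_1 lc_c_rc_22_3 lc_c_rc_11_1 lc_c_Cert_tree lc_c_rc_26_8 lc_c_rc_11_1 lc_c_Cert_tree lc_c_rc_13_2) (@D3.rec (fun _ => (Cert rels S Gen.c)) lc_c_rc_11_1 lc_c_Cert_tree lc_c_rc_13_2 lc_c_rc_11_1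 lc_c_rc_11_1 lc_c_Cert_tree lc_c_rc_13_2 lc_c_Cert_tree lc_c_Cert_tree lc_c_rc_11_1 lc_c_rc_13_2 lc_c_Cert_tree lc_c_Cert_tree lc_c_Cert_tree lc_c_rc_13_2 lc_c_rc_14_2 lc_c_rc_11_1 lc_c_rc_11_1 lc_c_rc_26_4 lc_c_rc_11_1 lc_c_Cert_tree lc_c_rc_26_10 lc_c_rc_11_1 lc_c_rc_23_0 lc_c_rc_7_1 lc_c_Cert_tree lc_c_rc_14_2 lc_c_rc_11_1 lc_c_rc_13_2 lc_c_rc_13_2 lc_c_rc_7_5 lc_c_Cert_tree lc_c_rc_13_2 lc_c_rc_23_0 lc_c_Cert_tree lc_c_rc_13_2 lc_c_rc_11_1 lc_c_rc_13_2 lc_c_rc_11_1 lc_c_Cert_tree lc_c_Cert_tree lc_c_rc_11_1 lc_c_rc_13_2 lc_c_Cert_tree lc_c_rc_11_1 lc_c_rc_13_2 lc_c_Cert_tree lc_c_rc_11_1 lc_c_rc_13_2 lc_c_Cert_tree lc_c_Cert_tree lc_c_rc_7_3 lc_c_Cert_tree lc_c_rc_13_2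 lc_c_rc_14_2 lc_c_Cert_tree lc_c_Cert_tree lc_c_rc_14_2 lc_c_rc_13_2 lc_c_Cert_tree lc_c_Cert_tree lc_c_Cert_tree) (@D3.rec (fun _ => (Cert rels S Gen.c)) lc_c_Cert_tree lc_c_rc_11_1 lc_c_rc_13_2 lc_c_rc_11_1 lc_c_rc_11_1 lc_c_rc_14_2 lc_c_Cert_tree lc_c_rc_11_1 lc_c_rc_13_2 lc_c_rc_11_1 lc_c_rc_13_2 lc_c_rc_14_2 lc_c_Cert_tree lc_c_Cert_tree lc_c_rc_2_3 lc_c_rc_13_2 lc_c_rc_14_2 lc_c_rc_2_3 lc_c_rc_23_5 lc_c_rc_14_2 lc_c_Cert_tree lc_c_rc_11_1 lc_c_rc_23_5 lc_c_rc_23_5 lc_c_Cert_tree lc_c_rc_11_1 lc_c_rc_23_0 lc_c_rc_14_2 lc_c_rc_22_7 lc_c_Cert_tree lc_c_rc_23_5 lc_c_rc_11_1 lc_c_rc_22_7 lc_c_rc_13_2 lc_c_Cert_tree lc_c_Cert_tree lc_c_rc_14_2 lc_c_Cert_tree lc_c_Cert_tree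 lc_c_rc_11_1 lc_c_Cert_tree lc_c_rc_7_5 lc_c_rc_2_1 lc_c_rc_13_2 lc_c_Cert_tree lc_c_rc_14_2 lc_c_Cert_tree lc_c_rc_13_2 lc_c_rc_26_4 lc_c_Cert_tree lc_c_rc_23_5 lc_c_rc_23_0 lc_c_rc_24_8 lc_c_rc_11_1 lc_c_rc_14_2 lc_c_rc_7_3 lc_c_rc_12_12 lc_c_rc_13_2 lc_c_rc_13_2 lc_c_Cert_tree lc_c_rc_14_2 lc_c_rc_23_0) (@D3.rec (fun _ => (Cert rels S Gen.c)) lc_c_rc_11_1 lc_c_rc_13_2 lc_c_rc_13_2 lc_c_Cert_tree lc_c_rc_14_2 lc_c_Cert_tree lc_c_rc_23_0 lc_c_rc_11_1 lc_c_rc_14_2 lc_c_rc_13_2 lc_c_rc_22_7 lc_c_rc_13_2 lc_c_rc_23_0 lc_c_rc_7_5 lc_c_rc_14_2 lc_c_Cert_tree lc_c_Cert_tree lc_c_Cert_tree lc_c_rc_14_2 lc_c_rc_13_2 lc_c_Cert_tree lc_c_Cert_tree lc_c_Cert_tree lc_c_rc_14_2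 lc_c_rc_13_2 lc_c_rc_11_1 lc_c_rc_13_2 lc_c_rc_13_2 lc_c_rc_13_2 lc_c_rc_11_1 lc_c_rc_13_2 lc_c_Cert_tree lc_c_rc_14_2 lc_c_rc_11_1 lc_c_Cert_tree lc_c_rc_13_2 lc_c_rc_11_1 lc_c_Cert_tree lc_c_rc_13_2 lc_c_rc_26_4 lc_c_rc_26_8 lc_c_Cert_tree lc_c_rc_14_2 lc_c_Cert_tree lc_c_rc_11_1 lc_c_rc_7_3 lc_c_rc_13_2 lc_c_Cert_tree lc_c_rc_14_2 lc_c_rc_24_8 lc_c_Cert_tree lc_c_rc_23_5 lc_c_Cert_tree lc_c_rc_13_2 lc_c_Cert_tree lc_c_Cert_tree lc_c_rc_11_1 lc_c_rc_14_2 lc_c_Cert_tree lc_c_rc_11_1 lc_c_rc_2_3 lc_c_rc_13_2) (@D3.rec (fun _ => (Cert rels S Gen.c)) lc_c_rc_24_8 lc_c_rc_13_2 lc_c_Cert_tree lc_c_rc_14_2 lc_c_Cert_tree lc_c_rc_23_5 lc_c_Cert_tree lc_c_rc_13_2 lc_c_rc_13_2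 lc_c_rc_26_4 lc_c_rc_11_1 lc_c_rc_14_2 lc_c_rc_11_1 lc_c_rc_13_2 lc_c_rc_7_3 lc_c_rc_11_1 lc_c_rc_13_2 lc_c_rc_13_2 lc_c_Cert_tree lc_c_Cert_tree lc_c_Cert_tree lc_c_rc_14_2 lc_c_Cert_tree lc_c_Cert_tree lc_c_rc_13_2 lc_c_rc_7_3 lc_c_Cert_tree lc_c_rc_23_5 lc_c_Cert_tree lc_c_Cert_tree lc_c_rc_11_1 lc_c_rc_14_2 lc_c_rc_2_3 lc_c_Cert_tree lc_c_rc_13_2 lc_c_rc_11_1 lc_c_Cert_tree lc_c_rc_13_2 lc_c_rc_23_0 lc_c_rc_11_1 lc_c_rc_23_0 lc_c_rc_23_0 lc_c_rc_23_0 lc_c_rc_14_2 lc_c_rc_7_3 lc_c_Cert_tree lc_c_rc_13_2 lc_c_rc_11_1 lc_c_rc_24_4 lc_c_rc_11_1 lc_c_rc_14_2 lc_c_rc_13_2 lc_c_rc_13_2 lc_c_rc_26_10 lc_c_Cert_tree lc_c_rc_14_2 lc_c_Cert_tree lc_c_rc_11_1 lc_c_rc_2_3 lc_c_rc_26_4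 lc_c_rc_13_2 lc_c_rc_13_2) (@D3.rec (fun _ => (Cert rels S Gen.c)) lc_c_rc_23_0 lc_c_Cert_tree lc_c_rc_14_2 lc_c_Cert_tree lc_c_rc_23_5 lc_c_rc_13_2 lc_c_Cert_tree lc_c_rc_13_2 lc_c_rc_13_2 lc_c_rc_7_5 lc_c_Cert_tree lc_c_Cert_tree lc_c_rc_14_2 lc_c_rc_7_3 lc_c_Cert_tree lc_c_rc_13_2 lc_c_rc_11_1 lc_c_Cert_tree lc_c_rc_23_5 lc_c_Cert_tree lc_c_Cert_tree lc_c_rc_11_1 lc_c_rc_22_3 lc_c_rc_7_3 lc_c_Cert_tree lc_c_rc_13_2 lc_c_Cert_tree lc_c_rc_11_1 lc_c_rc_13_2 lc_c_rc_23_0 lc_c_rc_23_0 lc_c_rc_14_2 lc_c_rc_11_1 lc_c_Cert_tree lc_c_rc_13_2 lc_c_rc_26_4 lc_c_Cert_tree lc_c_rc_13_2 lc_c_rc_11_1 lc_c_rc_11_1 lc_c_Cert_tree lc_c_rc_14_2 lc_c_rc_13_2 lc_c_Cert_tree lc_c_Cert_tree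 lc_c_rc_14_2 lc_c_rc_7_3 lc_c_rc_13_2 lc_c_Cert_tree lc_c_Cert_tree lc_c_rc_14_2 lc_c_rc_26_4 lc_c_rc_13_2 lc_c_rc_7_3 lc_c_rc_23_5 lc_c_rc_13_2 lc_c_rc_11_1 lc_c_rc_2_3 lc_c_rc_26_2 lc_c_rc_13_2 lc_c_rc_13_2 lc_c_rc_11_1) (@D3.rec (fun _ => (Cert rels S Gen.c)) lc_c_rc_13_2 lc_c_Cert_tree lc_c_rc_14_2 lc_c_rc_11_1 lc_c_Cert_tree lc_c_rc_13_2 lc_c_rc_11_1 lc_c_Cert_tree lc_c_rc_13_2 lc_c_Cert_tree lc_c_Cert_tree lc_c_rc_11_1 lc_c_rc_14_2 lc_c_rc_11_1 lc_c_rc_13_2 lc_c_rc_11_1 lc_c_rc_13_2 lc_c_rc_11_1 lc_c_rc_11_1 lc_c_rc_22_9 lc_c_rc_13_2 lc_c_rc_24_6 lc_c_rc_23_0 lc_c_rc_7_3 lc_c_Cert_tree lc_c_rc_14_2 lc_c_rc_13_2 lc_c_rc_26_4 lc_c_rc_13_2 lc_c_rc_13_2 lc_c_rc_13_2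 lc_c_rc_2_3 lc_c_rc_11_1 lc_c_Cert_tree lc_c_rc_14_2 lc_c_rc_7_3 lc_c_Cert_tree lc_c_rc_13_2 lc_c_rc_26_8 lc_c_Cert_tree lc_c_rc_23_5 lc_c_Cert_tree lc_c_Cert_tree lc_c_rc_11_1 lc_c_rc_14_2 lc_c_Cert_tree lc_c_rc_13_2 lc_c_Cert_tree lc_c_rc_13_2 lc_c_Cert_tree lc_c_Cert_tree lc_c_rc_11_1 lc_c_rc_13_2 lc_c_rc_23_0 lc_c_rc_14_2 lc_c_rc_7_3 lc_c_Cert_tree lc_c_rc_13_2 lc_c_rc_11_1 lc_c_rc_11_1 lc_c_Cert_tree lc_c_rc_11_1) (@D3.rec (fun _ => (Cert rels S Gen.c)) lc_c_rc_11_1 lc_c_rc_7_5 lc_c_rc_11_1 lc_c_rc_13_2 lc_c_rc_23_0 lc_c_rc_11_1 lc_c_rc_7_3 lc_c_Cert_tree lc_c_rc_14_2 lc_c_rc_13_2 lc_c_rc_11_1 lc_c_rc_2_3 lc_c_rc_7_1 lc_c_rc_11_1 lc_c_rc_13_2 lc_c_Cert_tree lc_c_Cert_tree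 lc_c_rc_7_5 lc_c_rc_7_3 lc_c_rc_12_8 lc_c_rc_13_2 lc_c_Cert_tree lc_c_Cert_tree lc_c_rc_23_5 lc_c_rc_11_1 lc_c_rc_26_4 lc_c_rc_11_1 lc_c_rc_7_3 lc_c_rc_23_5 lc_c_rc_13_2 lc_c_Cert_tree lc_c_Cert_tree lc_c_rc_14_2 lc_c_rc_7_3 lc_c_rc_24_4 lc_c_rc_13_2 lc_c_Cert_tree lc_c_rc_12_8 lc_c_rc_13_2 lc_c_Cert_tree lc_c_Cert_tree lc_c_rc_2_3 lc_c_Cert_tree lc_c_rc_14_2 lc_c_rc_24_6 lc_c_rc_24_6 lc_c_rc_13_2 lc_c_rc_13_2 lc_c_Cert_tree lc_c_Cert_tree lc_c_rc_11_1 lc_c_rc_26_8 lc_c_rc_13_2 lc_c_Cert_tree lc_c_rc_23_5 lc_c_rc_11_1 lc_c_rc_14_2 lc_c_rc_7_3 lc_c_rc_11_1 lc_c_Cert_tree lc_c_Cert_tree lc_c_rc_2_3) (@D3.rec (fun _ => (Cert rels S Gen.c)) lc_c_Cert_tree lc_c_rc_11_1 lc_c_rc_13_2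 lc_c_rc_13_2 lc_c_rc_7_3 lc_c_rc_13_2 lc_c_rc_13_2 lc_c_rc_13_2 lc_c_rc_14_2 lc_c_rc_7_3 lc_c_Cert_tree lc_c_Cert_tree lc_c_rc_2_3 lc_c_Cert_tree lc_c_rc_7_3 lc_c_rc_13_2 lc_c_rc_24_6 lc_c_rc_23_0 lc_c_Cert_tree lc_c_rc_14_2 lc_c_rc_11_1 lc_c_rc_26_10 lc_c_rc_11_1 lc_c_rc_11_1 lc_c_rc_13_2 lc_c_rc_7_3 lc_c_rc_13_2 lc_c_rc_26_8 lc_c_rc_26_4 lc_c_rc_14_2 lc_c_Cert_tree lc_c_Cert_tree lc_c_rc_2_3 lc_c_Cert_tree lc_c_rc_13_2 lc_c_rc_13_2 lc_c_Cert_tree lc_c_rc_14_2 lc_c_Cert_tree lc_c_rc_11_1 lc_c_rc_2_3 lc_c_Cert_tree lc_c_rc_13_2 lc_c_Cert_tree lc_c_Cert_tree lc_c_rc_2_3 lc_c_Cert_tree lc_c_rc_13_2 lc_c_rc_13_2 lc_c_rc_24_2 lc_c_Cert_tree lc_c_rc_11_1 lc_c_rc_2_3 lc_c_Cert_tree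 lc_c_rc_13_2 lc_c_rc_13_2 lc_c_rc_26_4 lc_c_rc_14_2 lc_c_Cert_tree lc_c_rc_2_3 lc_c_rc_11_1 lc_c_Cert_tree) (@D3.rec (fun _ => (Cert rels S Gen.c)) lc_c_rc_14_2 lc_c_rc_7_1 lc_c_rc_11_1 lc_c_Cert_tree lc_c_rc_13_2 lc_c_Cert_tree lc_c_Cert_tree lc_c_Cert_tree lc_c_rc_11_1 lc_c_rc_13_2 lc_c_rc_14_2 lc_c_rc_13_2 lc_c_Cert_tree lc_c_rc_13_2 lc_c_Cert_tree lc_c_rc_13_2 lc_c_rc_7_3 lc_c_rc_13_2 lc_c_Cert_tree lc_c_Cert_tree lc_c_rc_14_2 lc_c_rc_13_2 lc_c_rc_22_7 lc_c_Cert_tree lc_c_rc_26_4 lc_c_rc_13_2 lc_c_rc_13_2 lc_c_Cert_tree lc_c_Cert_tree lc_c_Cert_tree lc_c_rc_14_2 lc_c_rc_11_1 lc_c_rc_24_8 lc_c_rc_11_1 lc_c_rc_14_2 lc_c_rc_11_1 lc_c_Cert_tree lc_c_rc_13_2 lc_c_rc_11_1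 lc_c_rc_23_0 lc_c_rc_14_2 lc_c_rc_11_1 lc_c_rc_14_2 lc_c_Cert_tree lc_c_rc_11_1 lc_c_rc_13_2 lc_c_rc_14_2 lc_c_rc_23_5 lc_c_rc_13_2 lc_c_rc_23_5 lc_c_rc_13_2 lc_c_Cert_tree lc_c_rc_14_2 lc_c_rc_24_2 lc_c_rc_24_8 lc_c_rc_11_1 lc_c_rc_22_5 lc_c_rc_11_1 lc_c_rc_23_0 lc_c_rc_14_2 lc_c_rc_11_1 lc_c_rc_14_2) (@D3.rec (fun _ => (Cert rels S Gen.c)) lc_c_rc_11_1 lc_c_rc_13_2 lc_c_rc_13_2 lc_c_rc_14_2 lc_c_Cert_tree lc_c_Cert_tree lc_c_rc_23_5 lc_c_rc_24_8 lc_c_rc_14_2 lc_c_Cert_tree lc_c_Cert_tree lc_c_rc_23_5 lc_c_rc_24_8 lc_c_rc_14_2 lc_c_rc_7_3 lc_c_rc_11_1 lc_c_rc_13_2 lc_c_rc_11_1 lc_c_rc_13_2 lc_c_rc_13_2 lc_c_Cert_tree lc_c_Cert_tree lc_c_Cert_tree lc_c_rc_14_2 lc_c_rc_26_10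 lc_c_rc_24_8 lc_c_rc_11_1 lc_c_rc_14_2 lc_c_Cert_tree lc_c_rc_13_2 lc_c_rc_23_0 lc_c_rc_11_1 lc_c_rc_13_2 lc_c_rc_14_2 lc_c_rc_11_1 lc_c_Cert_tree lc_c_rc_13_2 lc_c_rc_11_1 lc_c_rc_26_4 lc_c_rc_13_2 lc_c_Cert_tree lc_c_rc_13_2 lc_c_rc_7_3 lc_c_Cert_tree lc_c_rc_14_2 lc_c_rc_13_2 lc_c_rc_11_1 lc_c_rc_13_2 lc_c_rc_26_8 lc_c_rc_23_0 lc_c_rc_14_2 lc_c_Cert_tree lc_c_Cert_tree lc_c_rc_2_3 lc_c_Cert_tree lc_c_rc_14_2 lc_c_rc_13_2 lc_c_rc_22_7 lc_c_rc_13_2 lc_c_rc_11_1 lc_c_rc_23_0 lc_c_rc_26_4) (@D3.rec (fun _ => (Cert rels S Gen.c)) lc_c_rc_13_2 lc_c_rc_7_5 lc_c_rc_13_2 lc_c_rc_13_2 lc_c_Cert_tree lc_c_Cert_tree lc_c_Cert_tree lc_c_rc_14_2 lc_c_rc_7_3 lc_c_Cert_tree lc_c_rc_26_8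 lc_c_Cert_tree lc_c_rc_23_5 lc_c_Cert_tree lc_c_Cert_tree lc_c_rc_11_1 lc_c_rc_14_2 lc_c_rc_11_1 lc_c_Cert_tree lc_c_rc_7_1 lc_c_Cert_tree lc_c_Cert_tree lc_c_Cert_tree lc_c_rc_11_1 lc_c_rc_13_2 lc_c_Cert_tree lc_c_rc_13_2 lc_c_rc_11_1 lc_c_Cert_tree lc_c_Cert_tree lc_c_rc_11_1 lc_c_rc_13_2 lc_c_rc_11_1 lc_c_rc_13_2 lc_c_rc_11_1 lc_c_rc_23_0 lc_c_rc_7_3 lc_c_Cert_tree lc_c_rc_14_2 lc_c_rc_22_7 lc_c_rc_7_5 lc_c_rc_22_3 lc_c_rc_13_2 lc_c_rc_13_2 lc_c_Cert_tree lc_c_rc_11_1 lc_c_rc_14_2 lc_c_rc_11_1 lc_c_rc_26_10 lc_c_Cert_tree lc_c_rc_14_2 lc_c_Cert_tree lc_c_Cert_tree lc_c_rc_13_2 lc_c_Cert_tree lc_c_rc_23_5 lc_c_Cert_tree lc_c_Cert_tree lc_c_rc_11_1 lc_c_rc_14_2 lc_c_rc_7_3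 lc_c_Cert_tree) (@D3.rec (fun _ => (Cert rels S Gen.c)) lc_c_Cert_tree lc_c_Cert_tree lc_c_rc_11_1 lc_c_rc_11_1 lc_c_Cert_tree lc_c_rc_13_2 lc_c_rc_7_1 lc_c_Cert_tree lc_c_rc_13_2 lc_c_rc_11_1 lc_c_Cert_tree lc_c_rc_11_1 lc_c_rc_13_2 lc_c_Cert_tree lc_c_rc_11_1 lc_c_rc_13_2 lc_c_rc_11_1 lc_c_rc_23_0 lc_c_rc_13_2 lc_c_Cert_tree lc_c_rc_14_2 lc_c_rc_11_1 lc_c_rc_13_2 lc_c_rc_7_3 lc_c_rc_11_1 lc_c_rc_13_2 lc_c_rc_13_2 lc_c_Cert_tree lc_c_Cert_tree lc_c_Cert_tree lc_c_rc_14_2 lc_c_rc_26_10 lc_c_rc_24_8 lc_c_rc_11_1 lc_c_rc_14_2 lc_c_rc_7_5 lc_c_rc_13_2 lc_c_rc_11_1 lc_c_rc_13_2 lc_c_rc_26_2 lc_c_rc_11_1 lc_c_rc_13_2 lc_c_rc_7_3 lc_c_rc_13_2 lc_c_Cert_tree lc_c_rc_14_2 lc_c_rc_23_0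 lc_c_rc_26_4 lc_c_rc_11_1 lc_c_rc_14_2 lc_c_rc_13_2 lc_c_rc_13_2 lc_c_rc_26_2 lc_c_Cert_tree lc_c_rc_14_2 lc_c_rc_13_2 lc_c_rc_13_2 lc_c_Cert_tree lc_c_rc_14_2 lc_c_rc_13_2 lc_c_rc_11_1 lc_c_Cert_tree) (@D3.rec (fun _ => (Cert rels S Gen.c)) lc_c_Cert_tree lc_c_rc_14_2 lc_c_rc_13_2 lc_c_rc_13_2 lc_c_rc_11_1 lc_c_rc_13_2 lc_c_rc_22_9 lc_c_rc_11_1 lc_c_Cert_tree lc_c_rc_14_2 lc_c_rc_26_4 lc_c_rc_11_1 lc_c_Cert_tree lc_c_rc_13_2 lc_c_rc_7_1 lc_c_rc_11_1 lc_c_Cert_tree lc_c_rc_13_2 lc_c_Cert_tree lc_c_Cert_tree lc_c_rc_11_1 lc_c_rc_14_2 lc_c_rc_11_1 lc_c_Cert_tree lc_c_rc_23_5 lc_c_rc_26_2 lc_c_Cert_tree lc_c_rc_13_2 lc_c_Cert_tree lc_c_Cert_tree lc_c_rc_11_1 lc_c_rc_14_2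 lc_c_Cert_tree lc_c_rc_23_0 lc_c_Cert_tree lc_c_rc_13_2 lc_c_Cert_tree lc_c_Cert_tree lc_c_rc_11_1 lc_c_rc_13_2 lc_c_rc_23_0 lc_c_rc_14_2 lc_c_rc_11_1 lc_c_Cert_tree lc_c_rc_11_1 lc_c_Cert_tree lc_c_rc_13_2 lc_c_rc_11_1 lc_c_rc_13_2 lc_c_Cert_tree lc_c_rc_26_8 lc_c_Cert_tree lc_c_rc_11_1 lc_c_rc_12_2 lc_c_rc_13_2 lc_c_Cert_tree lc_c_rc_11_1 lc_c_rc_13_2 lc_c_rc_24_8 lc_c_rc_11_1 lc_c_rc_7_3 lc_c_rc_11_1) (@D3.rec (fun _ => (Cert rels S Gen.c)) lc_c_rc_14_2 lc_c_rc_13_2 lc_c_Cert_tree lc_c_rc_13_2 lc_c_Cert_tree lc_c_rc_7_3 lc_c_Cert_tree lc_c_Cert_tree lc_c_rc_11_1 lc_c_rc_13_2 lc_c_rc_23_0 lc_c_rc_24_2 lc_c_rc_14_2 lc_c_Cert_tree lc_c_rc_11_1 lc_c_rc_11_1 lc_c_rc_24_8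 lc_c_rc_23_0 lc_c_rc_7_3 lc_c_rc_26_10 lc_c_rc_13_2 lc_c_Cert_tree lc_c_Cert_tree lc_c_rc_2_3 lc_c_rc_11_1 lc_c_Cert_tree lc_c_rc_13_0 lc_c_Cert_tree lc_c_rc_11_1 lc_c_rc_23_5 lc_c_rc_22_9 lc_c_rc_22_9 lc_c_Cert_tree lc_c_rc_13_2 lc_c_rc_11_1 lc_c_rc_13_2 lc_c_Cert_tree lc_c_rc_26_4 lc_c_rc_7_1 lc_c_rc_24_2 lc_c_rc_13_2 lc_c_rc_7_3 lc_c_rc_23_5 lc_c_rc_13_2 lc_c_rc_11_1 lc_c_Cert_tree lc_c_Cert_tree lc_c_rc_23_5 lc_c_rc_14_2 lc_c_rc_11_1 lc_c_rc_23_5 lc_c_rc_23_0 lc_c_rc_14_2 lc_c_rc_23_5 lc_c_rc_13_2 lc_c_rc_11_1 lc_c_Cert_tree lc_c_rc_7_5 lc_c_rc_7_5 lc_c_Cert_tree lc_c_rc_23_5 lc_c_rc_13_2) (@D3.rec (fun _ => (Cert rels S Gen.c)) lc_c_Cert_tree lc_c_rc_23_5 lc_c_rc_13_2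 lc_c_Cert_tree lc_c_Cert_tree lc_c_rc_2_3 lc_c_Cert_tree lc_c_rc_14_2 lc_c_rc_12_12 lc_c_rc_24_2 lc_c_rc_11_1 lc_c_rc_13_2 lc_c_rc_22_5 lc_c_rc_13_2 lc_c_rc_11_1 lc_c_rc_13_2 lc_c_rc_7_1 lc_c_rc_13_2 lc_c_rc_7_5 lc_c_rc_14_2 lc_c_rc_7_5 lc_c_rc_23_0 lc_c_rc_13_2 lc_c_Cert_tree lc_c_rc_22_5 lc_c_Cert_tree lc_c_Cert_tree lc_c_rc_2_3 lc_c_Cert_tree lc_c_rc_7_3 lc_c_rc_13_2 lc_c_rc_13_2 lc_c_rc_13_2 lc_c_Cert_tree lc_c_rc_14_2 lc_c_Cert_tree lc_c_rc_11_1 lc_c_Cert_tree lc_c_rc_11_1 lc_c_Cert_tree lc_c_rc_13_2 lc_c_rc_11_1 lc_c_rc_26_8 lc_c_rc_11_1 lc_c_rc_11_1 lc_c_rc_23_5 lc_c_rc_14_2 lc_c_rc_24_4 lc_c_rc_23_0 lc_c_Cert_tree lc_c_rc_13_2 lc_c_rc_11_1 lc_c_Cert_tree lc_c_rc_11_1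 lc_c_Cert_tree lc_c_Cert_tree lc_c_rc_2_3 lc_c_Cert_tree lc_c_rc_24_6 lc_c_rc_23_0 lc_c_rc_13_2 lc_c_rc_7_1) (@D3.rec (fun _ => (Cert rels S Gen.c)) lc_c_rc_22_3 lc_c_rc_13_2 lc_c_rc_13_0 lc_c_rc_13_0 lc_c_rc_26_2 lc_c_rc_11_1 lc_c_rc_7_3 lc_c_rc_23_0 lc_c_Cert_tree lc_c_rc_13_2 lc_c_rc_13_2 lc_c_rc_11_1 lc_c_rc_24_6 lc_c_rc_14_2 lc_c_rc_14_2 lc_c_rc_11_1 lc_c_Cert_tree lc_c_rc_11_1 lc_c_Cert_tree lc_c_Cert_tree lc_c_Cert_tree lc_c_rc_11_1 lc_c_Cert_tree lc_c_rc_13_2 lc_c_rc_13_2 lc_c_Cert_tree lc_c_rc_14_2 lc_c_Cert_tree lc_c_Cert_tree lc_c_Cert_tree lc_c_rc_11_1 lc_c_Cert_tree lc_c_rc_13_2 lc_c_rc_13_2 lc_c_rc_26_8 lc_c_rc_14_2 lc_c_rc_14_2 lc_c_rc_2_1 lc_c_rc_22_7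 lc_c_rc_11_1 lc_c_Cert_tree lc_c_rc_13_2 lc_c_rc_14_2 lc_c_rc_14_2 lc_c_rc_11_1 lc_c_Cert_tree lc_c_rc_13_2 lc_c_Cert_tree lc_c_Cert_tree lc_c_Cert_tree lc_c_rc_11_1 lc_c_rc_13_2 lc_c_rc_13_2 lc_c_Cert_tree lc_c_rc_13_2 lc_c_Cert_tree lc_c_rc_13_2 lc_c_Cert_tree lc_c_Cert_tree lc_c_rc_14_2 lc_c_rc_13_0 lc_c_rc_24_6) (@D3.rec (fun _ => (Cert rels S Gen.c)) lc_c_Cert_tree lc_c_rc_11_1 lc_c_Cert_tree lc_c_Cert_tree lc_c_rc_7_3 lc_c_rc_26_4 lc_c_rc_13_2 lc_c_rc_13_2 lc_c_rc_13_2 lc_c_Cert_tree lc_c_Cert_tree lc_c_Cert_tree lc_c_rc_14_2 lc_c_rc_7_3 lc_c_Cert_tree lc_c_rc_23_5 lc_c_Cert_tree lc_c_Cert_tree lc_c_rc_13_2 lc_c_Cert_tree lc_c_Cert_tree lc_c_rc_11_1 lc_c_rc_14_2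 lc_c_rc_7_3 lc_c_Cert_tree lc_c_rc_13_2 lc_c_rc_11_1 lc_c_rc_23_0 lc_c_rc_24_2 lc_c_rc_13_2 lc_c_rc_11_1 lc_c_Cert_tree lc_c_rc_13_2 lc_c_rc_11_1 lc_c_rc_11_1 lc_c_rc_23_0 lc_c_rc_11_1 lc_c_rc_13_2 lc_c_rc_13_2 lc_c_rc_11_1 lc_c_rc_7_3 lc_c_Cert_tree lc_c_rc_14_2 lc_c_rc_13_2 lc_c_Cert_tree lc_c_Cert_tree lc_c_rc_2_3 lc_c_Cert_tree lc_c_rc_7_3 lc_c_rc_13_2 lc_c_rc_13_2 lc_c_Cert_tree lc_c_rc_7_5 lc_c_rc_11_1 lc_c_rc_13_2 lc_c_rc_26_10 lc_c_rc_11_1 lc_c_rc_14_2 lc_c_rc_22_9 lc_c_rc_11_1 lc_c_rc_2_3 lc_c_rc_13_2) (@D3.rec (fun _ => (Cert rels S Gen.c)) lc_c_Cert_tree lc_c_rc_14_2 lc_c_Cert_tree lc_c_rc_11_1 lc_c_rc_2_3 lc_c_rc_13_2 lc_c_Cert_tree lc_c_rc_14_2 lc_c_rc_23_5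 lc_c_rc_26_4 lc_c_rc_11_1 lc_c_rc_13_2 lc_c_rc_11_1 lc_c_Cert_tree lc_c_rc_11_1 lc_c_rc_13_2 lc_c_Cert_tree lc_c_Cert_tree lc_c_Cert_tree lc_c_rc_11_1 lc_c_rc_13_2 lc_c_rc_14_2 lc_c_rc_13_2 lc_c_rc_7_3 lc_c_rc_13_2 lc_c_Cert_tree lc_c_Cert_tree lc_c_rc_14_2 lc_c_rc_13_2 lc_c_Cert_tree lc_c_rc_11_1 lc_c_rc_13_2 lc_c_rc_7_3 lc_c_rc_13_2 lc_c_rc_11_1 lc_c_rc_23_0 lc_c_rc_14_2 lc_c_rc_11_1 lc_c_rc_13_2 lc_c_rc_11_1 lc_c_rc_13_2 lc_c_rc_11_1 lc_c_rc_13_2 lc_c_rc_11_1 lc_c_rc_11_1 lc_c_rc_7_3 lc_c_rc_24_6 lc_c_rc_13_2 lc_c_Cert_tree lc_c_Cert_tree lc_c_rc_14_2 lc_c_rc_13_2 lc_c_rc_11_1 lc_c_rc_13_2 lc_c_rc_23_0 lc_c_rc_26_10 lc_c_rc_14_2 lc_c_Cert_tree lc_c_Cert_tree lc_c_rc_2_3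 lc_c_rc_13_2 lc_c_Cert_tree) (@D3.rec (fun _ => (Cert rels S Gen.c)) lc_c_rc_14_2 lc_c_rc_13_2 lc_c_rc_11_1 lc_c_rc_26_2 lc_c_rc_13_2 lc_c_rc_11_1 lc_c_rc_26_4 lc_c_rc_13_2 lc_c_Cert_tree lc_c_Cert_tree lc_c_rc_2_3 lc_c_Cert_tree lc_c_rc_13_2 lc_c_rc_13_2 lc_c_Cert_tree lc_c_Cert_tree lc_c_rc_11_1 lc_c_rc_2_3 lc_c_Cert_tree lc_c_rc_13_2 lc_c_rc_13_2 lc_c_Cert_tree lc_c_rc_26_10 lc_c_rc_11_1 lc_c_rc_11_1 lc_c_Cert_tree lc_c_rc_13_2 lc_c_rc_26_4 lc_c_rc_11_1 lc_c_Cert_tree lc_c_rc_13_2 lc_c_rc_7_1 lc_c_rc_11_1 lc_c_Cert_tree lc_c_Cert_tree lc_c_rc_2_3 lc_c_Cert_tree lc_c_Cert_tree lc_c_rc_11_1 lc_c_rc_13_2 lc_c_Cert_tree lc_c_Cert_tree lc_c_Cert_tree lc_c_rc_14_2 lc_c_Cert_tree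 lc_c_rc_13_2 lc_c_Cert_tree lc_c_Cert_tree lc_c_Cert_tree lc_c_rc_14_2 lc_c_rc_7_3 lc_c_Cert_tree lc_c_rc_7_3 lc_c_Cert_tree lc_c_Cert_tree lc_c_rc_11_1 lc_c_rc_14_2 lc_c_rc_14_0 lc_c_rc_7_3 lc_c_Cert_tree lc_c_rc_7_3 lc_c_Cert_tree) (@D3.rec (fun _ => (Cert rels S Gen.c)) lc_c_rc_11_1 lc_c_rc_7_3 lc_c_rc_14_0 lc_c_rc_13_2 lc_c_Cert_tree lc_c_rc_14_2 lc_c_Cert_tree lc_c_Cert_tree lc_c_rc_2_3 lc_c_rc_13_2 lc_c_Cert_tree lc_c_rc_14_2 lc_c_rc_11_1 lc_c_Cert_tree lc_c_Cert_tree lc_c_rc_11_1 lc_c_rc_13_2 lc_c_rc_13_2 lc_c_rc_26_4 lc_c_rc_11_1 lc_c_rc_26_8 lc_c_rc_22_9 lc_c_rc_11_1 lc_c_rc_26_4 lc_c_rc_13_2 lc_c_rc_13_0 lc_c_rc_13_2 lc_c_Cert_tree lc_c_Cert_tree lc_c_rc_11_1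 lc_c_rc_24_2 lc_c_Cert_tree lc_c_Cert_tree lc_c_Cert_tree lc_c_rc_14_2 lc_c_Cert_tree lc_c_Cert_tree lc_c_Cert_tree lc_c_rc_14_2 lc_c_rc_7_5 lc_c_Cert_tree lc_c_rc_7_5 lc_c_Cert_tree lc_c_rc_11_1 lc_c_rc_22_3 lc_c_Cert_tree lc_c_rc_11_1 lc_c_rc_2_3 lc_c_rc_26_4 lc_c_rc_11_1 lc_c_rc_13_2 lc_c_rc_13_2 lc_c_rc_11_1 lc_c_Cert_tree lc_c_Cert_tree lc_c_Cert_tree lc_c_rc_11_1 lc_c_rc_13_2 lc_c_Cert_tree lc_c_rc_13_2 lc_c_Cert_tree lc_c_rc_13_2) (@D3.rec (fun _ => (Cert rels S Gen.c)) lc_c_Cert_tree lc_c_Cert_tree lc_c_rc_14_2 lc_c_rc_11_1 lc_c_rc_26_8 lc_c_rc_11_1 lc_c_Cert_tree lc_c_Cert_tree lc_c_Cert_tree lc_c_Cert_tree lc_c_rc_11_1 lc_c_rc_13_2 lc_c_rc_24_4 lc_c_rc_25_17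 lc_c_rc_13_2 lc_c_rc_26_10 lc_c_rc_11_1 lc_c_Cert_tree lc_c_rc_13_2 lc_c_rc_7_5 lc_c_Cert_tree lc_c_Cert_tree lc_c_Cert_tree lc_c_Cert_tree lc_c_rc_11_1 lc_c_rc_13_2 lc_c_rc_23_0 lc_c_rc_13_2 lc_c_rc_14_2 lc_c_rc_11_1 lc_c_Cert_tree lc_c_rc_7_5 lc_c_Cert_tree lc_c_rc_13_2 lc_c_Cert_tree lc_c_rc_13_2 lc_c_Cert_tree lc_c_Cert_tree lc_c_rc_11_1 lc_c_Cert_tree lc_c_Cert_tree lc_c_rc_13_2 lc_c_rc_13_2 lc_c_rc_14_2 lc_c_rc_11_1 lc_c_Cert_tree lc_c_rc_13_2 lc_c_rc_14_2 lc_c_rc_7_5 lc_c_rc_26_10 lc_c_Cert_tree lc_c_rc_26_4 lc_c_rc_11_1 lc_c_rc_7_1 lc_c_Cert_tree lc_c_rc_14_2 lc_c_rc_11_1 lc_c_rc_13_2 lc_c_rc_13_2 lc_c_rc_7_5 lc_c_rc_11_1 lc_c_Cert_tree) (@D3.rec (fun _ => (Cert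 rels S Gen.c)) lc_c_rc_7_3 lc_c_Cert_tree lc_c_rc_13_2 lc_c_rc_11_1 lc_c_rc_13_2 lc_c_rc_26_2 lc_c_rc_22_9 lc_c_Cert_tree lc_c_Cert_tree lc_c_rc_11_1 lc_c_rc_13_2 lc_c_Cert_tree lc_c_rc_11_1 lc_c_rc_13_2 lc_c_Cert_tree lc_c_rc_11_1 lc_c_rc_13_2 lc_c_rc_24_4 lc_c_rc_24_6 lc_c_rc_7_3 lc_c_Cert_tree lc_c_rc_13_2 lc_c_rc_14_2 lc_c_Cert_tree lc_c_Cert_tree lc_c_rc_14_2 lc_c_rc_13_2 lc_c_Cert_tree lc_c_Cert_tree lc_c_Cert_tree lc_c_Cert_tree lc_c_rc_11_1 lc_c_rc_13_2 lc_c_rc_24_8 lc_c_rc_13_2 lc_c_Cert_tree lc_c_rc_14_2 lc_c_Cert_tree lc_c_rc_11_1 lc_c_rc_13_2 lc_c_rc_24_8 lc_c_rc_13_2 lc_c_Cert_tree lc_c_rc_14_2 lc_c_Cert_tree lc_c_Cert_tree lc_c_rc_2_3 lc_c_rc_13_2 lc_c_rc_13_2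 lc_c_rc_26_10 lc_c_Cert_tree lc_c_rc_14_2 lc_c_Cert_tree lc_c_rc_11_1 lc_c_Cert_tree lc_c_rc_13_2 lc_c_Cert_tree lc_c_rc_11_1 lc_c_Cert_tree lc_c_rc_13_2 lc_c_rc_14_2 lc_c_rc_23_0) (@D3.rec (fun _ => (Cert rels S Gen.c)) lc_c_rc_11_1 lc_c_Cert_tree lc_c_rc_11_1 lc_c_Cert_tree lc_c_rc_2_3 lc_c_Cert_tree lc_c_Cert_tree lc_c_rc_11_1 lc_c_rc_7_5 lc_c_rc_24_4 lc_c_rc_2_3 lc_c_Cert_tree lc_c_rc_13_2 lc_c_rc_22_9 lc_c_rc_11_1 lc_c_rc_2_3 lc_c_rc_7_3 lc_c_Cert_tree lc_c_rc_22_9 lc_c_rc_11_1 lc_c_rc_2_3 lc_c_rc_14_2 lc_c_Cert_tree lc_c_rc_7_5 lc_c_Cert_tree lc_c_rc_13_2 lc_c_Cert_tree lc_c_Cert_tree lc_c_Cert_tree lc_c_rc_11_1 lc_c_rc_13_2 lc_c_rc_14_2 lc_c_rc_13_2 lc_c_rc_7_3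 lc_c_rc_13_2 lc_c_rc_13_2 lc_c_rc_11_1 lc_c_rc_11_1 lc_c_rc_13_2 lc_c_rc_23_5 lc_c_rc_11_1 lc_c_rc_13_2 lc_c_rc_7_3 lc_c_rc_11_1 lc_c_rc_13_2 lc_c_Cert_tree lc_c_Cert_tree lc_c_Cert_tree lc_c_rc_11_1 lc_c_rc_13_2 lc_c_rc_24_8 lc_c_rc_24_8 lc_c_rc_14_2 lc_c_rc_11_1 lc_c_rc_13_2 lc_c_rc_7_5 lc_c_rc_13_2 lc_c_Cert_tree lc_c_Cert_tree lc_c_Cert_tree lc_c_rc_14_2 lc_c_rc_11_1) (@D3.rec (fun _ => (Cert rels S Gen.c)) lc_c_rc_11_1 lc_c_rc_26_8 lc_c_rc_11_1 lc_c_rc_7_5 lc_c_rc_2_1 lc_c_Cert_tree lc_c_rc_13_2 lc_c_rc_26_2 lc_c_rc_23_0 lc_c_rc_26_4 lc_c_rc_11_1 lc_c_rc_11_1 lc_c_Cert_tree lc_c_rc_14_2 lc_c_rc_11_1 lc_c_rc_13_2 lc_c_rc_26_2 lc_c_rc_26_10 lc_c_rc_26_4 lc_c_rc_11_1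 lc_c_Cert_tree lc_c_rc_23_5 lc_c_Cert_tree lc_c_rc_13_2 lc_c_rc_11_1 lc_c_rc_13_2 lc_c_rc_2_3 lc_c_rc_11_1 lc_c_rc_13_2 lc_c_rc_26_4 lc_c_rc_11_1 lc_c_rc_13_2 lc_c_Cert_tree lc_c_rc_11_1 lc_c_rc_13_2 lc_c_rc_24_6 lc_c_rc_11_1 lc_c_Cert_tree lc_c_rc_13_2 lc_c_Cert_tree lc_c_Cert_tree lc_c_rc_14_2 lc_c_Cert_tree lc_c_Cert_tree lc_c_Cert_tree lc_c_Cert_tree lc_c_rc_22_3 lc_c_rc_13_2 lc_c_Cert_tree lc_c_rc_13_2 lc_c_rc_11_1 lc_c_Cert_tree lc_c_rc_13_2 lc_c_rc_26_8 lc_c_rc_11_1 lc_c_rc_13_2 lc_c_rc_7_3 lc_c_rc_14_2 lc_c_rc_11_1 lc_c_rc_13_2 lc_c_rc_26_10 lc_c_rc_11_1) (@D3.rec (fun _ => (Cert rels S Gen.c)) lc_c_rc_22_9 lc_c_rc_7_1 lc_c_rc_26_2 lc_c_rc_13_2 lc_c_rc_14_2 lc_c_rc_11_1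 lc_c_Cert_tree lc_c_rc_14_2 lc_c_rc_7_5 lc_c_rc_13_2 lc_c_rc_11_1 lc_c_rc_24_2 lc_c_rc_13_2 lc_c_Cert_tree lc_c_rc_11_1 lc_c_rc_13_2 lc_c_Cert_tree lc_c_rc_11_1 lc_c_rc_13_2 lc_c_Cert_tree lc_c_rc_11_1 lc_c_rc_13_2 lc_c_rc_12_12 lc_c_rc_11_1 lc_c_rc_7_3 lc_c_Cert_tree lc_c_rc_13_2 lc_c_rc_14_2 lc_c_Cert_tree lc_c_Cert_tree lc_c_rc_14_2 lc_c_rc_13_2 lc_c_Cert_tree lc_c_Cert_tree lc_c_rc_2_3 lc_c_rc_13_2 lc_c_rc_11_1 lc_c_rc_11_1 lc_c_rc_14_2 lc_c_Cert_tree lc_c_rc_11_1 lc_c_Cert_tree lc_c_rc_13_2 lc_c_Cert_tree lc_c_rc_11_1 lc_c_rc_11_1 lc_c_rc_13_2 lc_c_rc_14_2 lc_c_rc_11_1 lc_c_rc_26_8 lc_c_rc_11_1 lc_c_rc_13_2 lc_c_rc_11_1 lc_c_rc_22_9 lc_c_Cert_tree lc_c_Cert_tree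 lc_c_rc_7_3 lc_c_rc_24_2 lc_c_rc_26_4 lc_c_rc_13_2 lc_c_rc_11_1 lc_c_rc_26_2) (@D3.rec (fun _ => (Cert rels S Gen.c)) lc_c_rc_13_2 lc_c_rc_11_1 lc_c_rc_13_2 lc_c_rc_2_1 lc_c_Cert_tree lc_c_rc_24_2 lc_c_rc_11_1 lc_c_rc_11_1 lc_c_rc_26_4 lc_c_rc_11_1 lc_c_rc_13_2 lc_c_rc_11_1 lc_c_rc_13_2 lc_c_rc_11_1 lc_c_Cert_tree lc_c_Cert_tree lc_c_rc_14_2 lc_c_rc_26_4 lc_c_rc_11_1 lc_c_rc_13_2 lc_c_Cert_tree lc_c_rc_11_1 lc_c_rc_13_2 lc_c_rc_11_1 lc_c_rc_11_1 lc_c_Cert_tree lc_c_rc_13_2 lc_c_Cert_tree lc_c_Cert_tree lc_c_Cert_tree lc_c_rc_14_2 lc_c_Cert_tree lc_c_rc_11_1 lc_c_Cert_tree lc_c_rc_11_1 lc_c_Cert_tree lc_c_Cert_tree lc_c_rc_11_1 lc_c_rc_14_2 lc_c_Cert_tree lc_c_rc_23_5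 lc_c_Cert_tree lc_c_rc_14_2 lc_c_rc_13_2 lc_c_Cert_tree lc_c_Cert_tree lc_c_rc_11_1 lc_c_Cert_tree lc_c_rc_2_3 lc_c_Cert_tree lc_c_rc_7_3 lc_c_rc_14_2 lc_c_rc_23_0 lc_c_rc_7_1 lc_c_Cert_tree lc_c_Cert_tree lc_c_rc_2_3 lc_c_Cert_tree lc_c_rc_26_4 lc_c_rc_24_2 lc_c_rc_26_4 lc_c_rc_11_1) (@D3.rec (fun _ => (Cert rels S Gen.c)) lc_c_rc_11_1 lc_c_rc_11_1 lc_c_rc_13_2 lc_c_rc_22_9 lc_c_rc_26_4 lc_c_rc_11_1 lc_c_rc_13_2 lc_c_rc_24_2 lc_c_rc_13_2 lc_c_rc_11_1 lc_c_rc_13_2 lc_c_Cert_tree lc_c_rc_11_1 lc_c_rc_13_2 lc_c_Cert_tree lc_c_rc_26_4 lc_c_rc_11_1 lc_c_rc_13_2 lc_c_rc_26_8 lc_c_rc_11_1 lc_c_rc_13_2 lc_c_rc_11_1 lc_c_rc_11_1 lc_c_rc_22_7 lc_c_rc_13_2 lc_c_Cert_tree lc_c_Cert_tree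 lc_c_Cert_tree lc_c_rc_14_2 lc_c_rc_26_2 lc_c_rc_11_1 lc_c_Cert_tree lc_c_rc_11_1 lc_c_rc_14_2 lc_c_Cert_tree lc_c_Cert_tree lc_c_rc_13_2 lc_c_rc_13_0 lc_c_rc_11_1 lc_c_rc_22_7 lc_c_rc_7_3 lc_c_rc_24_2 lc_c_rc_13_2 lc_c_rc_11_1 lc_c_rc_26_2 lc_c_rc_13_2 lc_c_Cert_tree lc_c_rc_11_1 lc_c_rc_24_2 lc_c_rc_11_1 lc_c_rc_13_2 lc_c_rc_24_4 lc_c_rc_11_1 lc_c_Cert_tree lc_c_rc_13_2 lc_c_Cert_tree lc_c_Cert_tree lc_c_rc_14_2 lc_c_Cert_tree lc_c_rc_26_2 lc_c_rc_14_2 lc_c_rc_26_2) (@D3.rec (fun _ => (Cert rels S Gen.c)) lc_c_rc_24_2 lc_c_rc_11_1 lc_c_rc_13_2 lc_c_rc_24_4 lc_c_rc_11_1 lc_c_rc_22_5 lc_c_rc_13_2 lc_c_Cert_tree lc_c_Cert_tree lc_c_rc_26_8 lc_c_rc_11_1 lc_c_rc_7_1 lc_c_rc_11_1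 lc_c_Cert_tree lc_c_rc_13_2 lc_c_rc_7_5 lc_c_rc_26_2 lc_c_rc_13_2 lc_c_rc_11_1 lc_c_rc_13_2 lc_c_Cert_tree lc_c_rc_11_1 lc_c_Cert_tree lc_c_rc_26_4 lc_c_rc_11_1 lc_c_rc_13_2 lc_c_rc_11_1 lc_c_rc_13_2 lc_c_rc_11_1 lc_c_rc_13_2 lc_c_Cert_tree lc_c_rc_11_1 lc_c_rc_13_2 lc_c_rc_23_5 lc_c_rc_11_1 lc_c_Cert_tree lc_c_rc_13_2 lc_c_Cert_tree lc_c_Cert_tree lc_c_rc_14_2 lc_c_Cert_tree lc_c_rc_26_2 lc_c_rc_13_2 lc_c_Cert_tree lc_c_rc_13_2 lc_c_rc_7_5 lc_c_rc_11_1 lc_c_Cert_tree lc_c_rc_11_1 lc_c_rc_13_2 lc_c_rc_23_0 lc_c_rc_11_1 lc_c_rc_13_2 lc_c_Cert_tree lc_c_rc_13_2 lc_c_rc_11_1 lc_c_rc_13_2 lc_c_Cert_tree lc_c_Cert_tree lc_c_Cert_tree lc_c_rc_13_2 lc_c_rc_11_1) (@D3.rec (fun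 _ => (Cert rels S Gen.c)) lc_c_rc_13_2 lc_c_rc_26_4 lc_c_Cert_tree lc_c_rc_7_5 lc_c_Cert_tree lc_c_rc_13_2 lc_c_Cert_tree lc_c_Cert_tree lc_c_rc_11_1 lc_c_rc_13_2 lc_c_rc_11_1 lc_c_rc_11_1 lc_c_rc_24_4 lc_c_rc_11_1 lc_c_rc_13_2 lc_c_rc_26_8 lc_c_rc_11_1 lc_c_rc_13_2 lc_c_rc_11_1 lc_c_rc_11_1 lc_c_Cert_tree lc_c_rc_13_2 lc_c_Cert_tree lc_c_Cert_tree lc_c_rc_11_1 lc_c_rc_7_1 lc_c_rc_11_1 lc_c_rc_13_2 lc_c_rc_11_1 lc_c_rc_13_2 lc_c_Cert_tree lc_c_rc_23_5 lc_c_rc_24_8 lc_c_rc_24_2 lc_c_rc_7_1 lc_c_Cert_tree lc_c_rc_23_0 lc_c_rc_11_1 lc_c_rc_13_2 lc_c_rc_13_2 lc_c_Cert_tree lc_c_rc_11_1 lc_c_Cert_tree lc_c_Cert_tree lc_c_rc_7_3 lc_c_Cert_tree lc_c_Cert_tree lc_c_rc_11_1 lc_c_rc_13_2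 lc_c_rc_22_3 lc_c_rc_13_2 lc_c_rc_24_6 lc_c_rc_23_0 lc_c_rc_7_3 lc_c_rc_22_5 lc_c_rc_13_2 lc_c_Cert_tree lc_c_rc_14_2 lc_c_rc_24_2 lc_c_rc_13_2 lc_c_rc_11_1 lc_c_rc_13_2) (@D3.rec (fun _ => (Cert rels S Gen.c)) lc_c_Cert_tree lc_c_rc_13_2 lc_c_rc_11_1 lc_c_rc_13_2 lc_c_rc_11_1 lc_c_rc_7_5 lc_c_rc_7_5 lc_c_rc_7_3 lc_c_rc_11_1 lc_c_rc_13_2 lc_c_Cert_tree lc_c_rc_26_8 lc_c_rc_11_1 lc_c_rc_13_2 lc_c_rc_26_4 lc_c_rc_11_1 lc_c_rc_13_2 lc_c_rc_11_1 lc_c_rc_23_0 lc_c_rc_7_3 lc_c_rc_2_1 lc_c_rc_13_2 lc_c_Cert_tree lc_c_Cert_tree lc_c_rc_14_2 lc_c_rc_22_3 lc_c_rc_11_1 lc_c_rc_13_2 lc_c_rc_11_1 lc_c_rc_24_6 lc_c_rc_7_1 lc_c_rc_12_2 lc_c_rc_13_2 lc_c_Cert_tree lc_c_Cert_tree lc_c_rc_14_2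 lc_c_rc_24_8 lc_c_rc_11_1 lc_c_rc_13_2 lc_c_rc_7_1 lc_c_rc_22_5 lc_c_rc_13_2 lc_c_Cert_tree lc_c_Cert_tree lc_c_rc_14_2 lc_c_Cert_tree lc_c_rc_11_1 lc_c_rc_11_1 lc_c_rc_13_2 lc_c_Cert_tree lc_c_rc_11_1 lc_c_rc_11_1 lc_c_rc_13_2 lc_c_rc_24_6 lc_c_rc_2_3 lc_c_Cert_tree lc_c_rc_13_2 lc_c_rc_22_5 lc_c_rc_24_6 lc_c_rc_11_1 lc_c_rc_13_2 lc_c_rc_22_3) (@D3.rec (fun _ => (Cert rels S Gen.c)) lc_c_Cert_tree lc_c_Cert_tree lc_c_Cert_tree lc_c_rc_14_2 lc_c_rc_13_2 lc_c_Cert_tree lc_c_rc_11_1 lc_c_Cert_tree lc_c_rc_13_2 lc_c_Cert_tree lc_c_rc_11_1 lc_c_Cert_tree lc_c_rc_13_2 lc_c_rc_13_2 lc_c_Cert_tree lc_c_Cert_tree lc_c_Cert_tree lc_c_rc_26_2 lc_c_rc_11_1 lc_c_rc_7_1 lc_c_rc_11_1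 lc_c_Cert_tree lc_c_rc_11_1 lc_c_rc_11_1 lc_c_rc_13_2 lc_c_rc_11_1 lc_c_rc_11_1 lc_c_Cert_tree lc_c_rc_13_2 lc_c_Cert_tree lc_c_Cert_tree lc_c_rc_14_2 lc_c_Cert_tree lc_c_rc_13_0 lc_c_rc_13_2 lc_c_rc_13_2 lc_c_rc_11_1 lc_c_rc_13_2 lc_c_rc_24_6 lc_c_rc_11_1 lc_c_Cert_tree lc_c_rc_13_2 lc_c_Cert_tree lc_c_Cert_tree lc_c_Cert_tree lc_c_rc_14_2 lc_c_Cert_tree lc_c_rc_13_2 lc_c_rc_26_4 lc_c_rc_13_2 lc_c_rc_26_8 lc_c_rc_11_1 lc_c_rc_13_2 lc_c_rc_26_2 lc_c_rc_11_1 lc_c_rc_13_2 lc_c_rc_13_2 lc_c_Cert_tree lc_c_Cert_tree lc_c_Cert_tree lc_c_rc_14_2 lc_c_Cert_tree) (@D3.rec (fun _ => (Cert rels S Gen.c)) lc_c_rc_13_2 lc_c_Cert_tree lc_c_rc_12_2 lc_c_rc_23_5 lc_c_Cert_tree lc_c_Cert_tree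 lc_c_rc_11_1 lc_c_Cert_tree lc_c_rc_13_2 lc_c_rc_7_1 lc_c_Cert_tree lc_c_Cert_tree lc_c_rc_11_1 lc_c_rc_13_2 lc_c_rc_7_1 lc_c_rc_23_0 lc_c_rc_11_1 lc_c_Cert_tree lc_c_rc_13_2 lc_c_rc_7_3 lc_c_rc_13_2 lc_c_rc_13_2 lc_c_rc_11_1 lc_c_Cert_tree lc_c_rc_14_2 lc_c_rc_11_1 lc_c_Cert_tree lc_c_rc_13_2 lc_c_Cert_tree lc_c_rc_11_1 lc_c_rc_14_2 lc_c_rc_11_1 lc_c_rc_13_2 lc_c_rc_11_1 lc_c_rc_23_0 lc_c_rc_7_3 lc_c_rc_11_1 lc_c_rc_11_1 lc_c_rc_13_2 lc_c_rc_13_2 lc_c_rc_13_2 lc_c_Cert_tree lc_c_rc_11_1 lc_c_Cert_tree lc_c_rc_7_1 lc_c_rc_24_8 lc_c_rc_24_8 lc_c_rc_11_1 lc_c_rc_22_9 lc_c_rc_11_1 lc_c_rc_13_2 lc_c_rc_14_2 lc_c_Cert_tree lc_c_rc_13_2 lc_c_rc_11_1 lc_c_rc_13_2 lc_c_rc_26_4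 lc_c_rc_13_2 lc_c_rc_7_3 lc_c_Cert_tree lc_c_rc_14_2 lc_c_Cert_tree) (@D3.rec (fun _ => (Cert rels S Gen.c)) lc_c_Cert_tree lc_c_rc_2_3 lc_c_Cert_tree lc_c_rc_13_2 lc_c_rc_26_10 lc_c_rc_13_0 lc_c_rc_14_2 lc_c_Cert_tree lc_c_rc_23_5 lc_c_rc_24_8 lc_c_rc_11_1 lc_c_rc_14_2 lc_c_rc_7_3 lc_c_rc_12_4 lc_c_Cert_tree lc_c_rc_14_2 lc_c_Cert_tree lc_c_rc_23_5 lc_c_rc_24_8 lc_c_rc_11_1 lc_c_rc_14_2 lc_c_rc_11_1 lc_c_rc_13_2 lc_c_rc_13_2 lc_c_rc_7_3 lc_c_Cert_tree lc_c_rc_14_2 lc_c_rc_13_2 lc_c_rc_7_3 lc_c_rc_13_2 lc_c_Cert_tree lc_c_rc_14_2 lc_c_Cert_tree lc_c_rc_13_2 lc_c_rc_7_5 lc_c_rc_13_2 lc_c_rc_11_1 lc_c_Cert_tree lc_c_rc_13_2 lc_c_rc_11_1 lc_c_Cert_tree lc_c_rc_13_2 lc_c_Cert_tree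 lc_c_Cert_tree lc_c_rc_11_1 lc_c_rc_14_2 lc_c_rc_11_1 lc_c_rc_11_1 lc_c_Cert_tree lc_c_rc_14_2 lc_c_rc_11_1 lc_c_Cert_tree lc_c_rc_13_2 lc_c_rc_11_1 lc_c_Cert_tree lc_c_rc_13_2 lc_c_Cert_tree lc_c_Cert_tree lc_c_rc_11_1 lc_c_rc_14_2 lc_c_Cert_tree lc_c_rc_14_2) (@D3.rec (fun _ => (Cert rels S Gen.c)) lc_c_rc_13_2 lc_c_Cert_tree lc_c_rc_14_2 lc_c_Cert_tree lc_c_Cert_tree lc_c_rc_14_2 lc_c_rc_11_1 lc_c_rc_24_8 lc_c_Cert_tree lc_c_rc_14_2 lc_c_rc_7_5 lc_c_Cert_tree lc_c_rc_13_2 lc_c_rc_26_8 lc_c_Cert_tree lc_c_rc_23_5 lc_c_Cert_tree lc_c_Cert_tree lc_c_rc_11_1 lc_c_rc_14_2 lc_c_Cert_tree lc_c_rc_13_2 lc_c_Cert_tree lc_c_rc_11_1 lc_c_rc_13_2 lc_c_rc_23_0 lc_c_Cert_tree lc_c_rc_14_2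 lc_c_rc_13_2 lc_c_Cert_tree lc_c_rc_13_2 lc_c_rc_11_1 lc_c_rc_12_0 lc_c_Cert_tree lc_c_rc_14_2 lc_c_Cert_tree lc_c_rc_23_0 lc_c_Cert_tree lc_c_rc_13_2 lc_c_rc_26_10 lc_c_rc_13_2 lc_c_rc_11_1 lc_c_rc_14_2 lc_c_rc_26_4 lc_c_rc_11_1 lc_c_rc_13_2 lc_c_rc_13_2 lc_c_rc_13_2 lc_c_Cert_tree lc_c_rc_11_1 lc_c_Cert_tree lc_c_rc_14_2 lc_c_rc_24_8 lc_c_rc_24_2 lc_c_rc_11_1 lc_c_rc_14_2 lc_c_Cert_tree lc_c_rc_23_5 lc_c_rc_11_1 lc_c_rc_13_0 lc_c_rc_11_1 lc_c_rc_13_2) (@D3.rec (fun _ => (Cert rels S Gen.c)) lc_c_rc_11_1 lc_c_rc_11_1 lc_c_rc_26_8 lc_c_rc_11_1 lc_c_rc_11_1 lc_c_rc_13_2 lc_c_rc_7_3 lc_c_Cert_tree lc_c_rc_14_2 lc_c_rc_7_3 lc_c_rc_11_1 lc_c_rc_13_2 lc_c_rc_13_2 lc_c_rc_13_2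 lc_c_Cert_tree lc_c_Cert_tree lc_c_Cert_tree lc_c_rc_14_2 lc_c_rc_26_2 lc_c_Cert_tree lc_c_rc_7_3 lc_c_Cert_tree lc_c_rc_23_5 lc_c_rc_11_1 lc_c_rc_11_1 lc_c_rc_14_2 lc_c_rc_26_2 lc_c_rc_13_0 lc_c_rc_11_1 lc_c_rc_13_2 lc_c_rc_11_1 lc_c_rc_13_2 lc_c_rc_13_2 lc_c_rc_7_3 lc_c_Cert_tree lc_c_rc_14_2 lc_c_rc_26_4 lc_c_rc_24_6 lc_c_rc_13_2 lc_c_rc_11_1 lc_c_Cert_tree lc_c_rc_14_2 lc_c_rc_13_2 lc_c_rc_13_2 lc_c_rc_13_2 lc_c_Cert_tree lc_c_rc_14_2 lc_c_Cert_tree lc_c_rc_7_5 lc_c_Cert_tree lc_c_rc_26_10 lc_c_rc_26_4 lc_c_rc_11_1 lc_c_Cert_tree lc_c_rc_13_2 lc_c_Cert_tree lc_c_rc_11_1 lc_c_Cert_tree lc_c_rc_13_2 lc_c_Cert_tree lc_c_Cert_tree lc_c_rc_11_1) (@D3.rec (fun _ => (Cert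 rels S Gen.c)) lc_c_rc_14_2 lc_c_rc_26_10 lc_c_rc_14_0 lc_c_rc_11_1 lc_c_Cert_tree lc_c_rc_13_2 lc_c_Cert_tree lc_c_rc_11_1 lc_c_rc_13_2 lc_c_rc_23_0 lc_c_rc_14_2 lc_c_Cert_tree lc_c_rc_2_3 lc_c_Cert_tree lc_c_rc_7_3 lc_c_rc_11_1 lc_c_rc_13_2 lc_c_Cert_tree lc_c_rc_14_2 lc_c_Cert_tree lc_c_rc_11_1 lc_c_rc_13_2 lc_c_Cert_tree lc_c_rc_11_1 lc_c_rc_13_2 lc_c_rc_24_8 lc_c_rc_11_1 lc_c_rc_7_3 lc_c_rc_22_5 lc_c_rc_14_2 lc_c_rc_13_2 lc_c_Cert_tree lc_c_rc_11_1 lc_c_rc_13_2 lc_c_rc_13_0 lc_c_Cert_tree lc_c_Cert_tree lc_c_rc_14_2 lc_c_Cert_tree lc_c_rc_2_1 lc_c_Cert_tree lc_c_rc_13_2 lc_c_Cert_tree lc_c_Cert_tree lc_c_rc_11_1 lc_c_rc_13_2 lc_c_rc_23_0 lc_c_rc_14_2 lc_c_rc_26_2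 lc_c_rc_24_8 lc_c_rc_7_3 lc_c_rc_23_0 lc_c_rc_11_1 lc_c_rc_2_3 lc_c_Cert_tree lc_c_rc_7_3 lc_c_rc_11_1 lc_c_rc_13_2 lc_c_rc_24_4 lc_c_rc_14_2 lc_c_rc_7_3 lc_c_rc_25_1) (@D3.rec (fun _ => (Cert rels S Gen.c)) lc_c_rc_7_3 lc_c_Cert_tree lc_c_Cert_tree lc_c_rc_24_8 lc_c_rc_11_1 lc_c_rc_14_2 lc_c_rc_11_1 lc_c_rc_13_2 lc_c_rc_26_8 lc_c_rc_13_2 lc_c_rc_13_2 lc_c_rc_13_2 lc_c_Cert_tree lc_c_Cert_tree lc_c_Cert_tree lc_c_rc_14_2 lc_c_rc_7_1 lc_c_Cert_tree lc_c_rc_14_2 lc_c_Cert_tree lc_c_rc_13_2 lc_c_Cert_tree lc_c_Cert_tree lc_c_rc_11_1 lc_c_rc_14_2 lc_c_rc_11_1 lc_c_rc_24_6 lc_c_rc_14_2 lc_c_rc_23_0 lc_c_Cert_tree lc_c_rc_14_2 lc_c_rc_11_1 lc_c_rc_13_2 lc_c_rc_13_2 lc_c_Cert_tree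 lc_c_rc_14_2 lc_c_rc_23_0 lc_c_rc_7_5 lc_c_Cert_tree lc_c_rc_14_2 lc_c_Cert_tree lc_c_rc_13_2 lc_c_Cert_tree lc_c_rc_11_1 lc_c_Cert_tree lc_c_rc_13_2 lc_c_Cert_tree lc_c_Cert_tree lc_c_rc_11_1 lc_c_rc_14_2 lc_c_Cert_tree lc_c_rc_2_3 lc_c_Cert_tree lc_c_rc_7_3 lc_c_Cert_tree lc_c_Cert_tree lc_c_rc_11_1 lc_c_rc_13_2 lc_c_rc_23_0 lc_c_rc_14_2 lc_c_rc_7_5 lc_c_rc_2_3)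
def ce_c_1 : D2 → D3 → (Cert rels S Gen.c) := @D2.rec (fun _ => D3 → (Cert rels S Gen.c)) (@D3.rec (fun _ => (Cert rels S Gen.c)) lc_c_Cert_tree lc_c_rc_7_3 lc_c_rc_11_1 lc_c_rc_13_2 lc_c_rc_24_6 lc_c_rc_14_2 lc_c_Cert_tree lc_c_rc_11_1 lc_c_rc_13_2 lc_c_Cert_tree lc_c_rc_11_1 lc_c_rc_13_2 lc_c_rc_24_6 lc_c_rc_11_1 lc_c_rc_7_3 lc_c_rc_13_2 lc_c_Cert_tree lc_c_rc_2_3 lc_c_Cert_tree lc_c_rc_7_3 lc_c_rc_24_2 lc_c_rc_11_1 lc_c_rc_13_2 lc_c_rc_23_0 lc_c_rc_14_2 lc_c_Cert_tree lc_c_rc_11_1 lc_c_rc_7_3 lc_c_rc_13_2 lc_c_rc_23_0 lc_c_Cert_tree lc_c_rc_13_2 lc_c_rc_11_1 lc_c_rc_24_6 lc_c_Cert_tree lc_c_rc_14_2 lc_c_Cert_tree lc_c_rc_2_1 lc_c_Cert_tree lc_c_rc_13_2 lc_c_rc_11_1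 lc_c_rc_13_2 lc_c_rc_11_1 lc_c_rc_14_2 lc_c_rc_7_1 lc_c_rc_11_1 lc_c_rc_13_2 lc_c_Cert_tree lc_c_rc_14_2 lc_c_rc_11_1 lc_c_Cert_tree lc_c_Cert_tree lc_c_rc_11_1 lc_c_rc_14_2 lc_c_rc_13_2 lc_c_rc_13_2 lc_c_Cert_tree lc_c_rc_14_2 lc_c_rc_11_1 lc_c_Cert_tree lc_c_rc_13_2 lc_c_rc_11_1) (@D3.rec (fun _ => (Cert rels S Gen.c)) lc_c_rc_14_2 lc_c_rc_13_2 lc_c_Cert_tree lc_c_rc_14_2 lc_c_rc_13_2 lc_c_rc_13_2 lc_c_Cert_tree lc_c_rc_14_2 lc_c_rc_13_2 lc_c_rc_13_2 lc_c_rc_13_2 lc_c_Cert_tree lc_c_Cert_tree lc_c_rc_14_2 lc_c_rc_11_1 lc_c_Cert_tree lc_c_rc_14_2 lc_c_Cert_tree lc_c_rc_13_2 lc_c_rc_7_3 lc_c_Cert_tree lc_c_rc_23_5 lc_c_Cert_tree lc_c_Cert_tree lc_c_rc_11_1 lc_c_rc_14_2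 lc_c_rc_7_3 lc_c_Cert_tree lc_c_rc_13_2 lc_c_Cert_tree lc_c_rc_11_1 lc_c_rc_13_2 lc_c_rc_23_0 lc_c_rc_14_2 lc_c_rc_7_3 lc_c_Cert_tree lc_c_rc_13_2 lc_c_rc_11_1 lc_c_rc_11_1 lc_c_rc_13_2 lc_c_rc_11_1 lc_c_rc_13_2 lc_c_rc_11_1 lc_c_rc_11_1 lc_c_rc_7_3 lc_c_Cert_tree lc_c_rc_14_2 lc_c_rc_13_2 lc_c_rc_24_6 lc_c_rc_11_1 lc_c_rc_7_3 lc_c_rc_24_2 lc_c_rc_13_2 lc_c_rc_13_2 lc_c_rc_14_2 lc_c_rc_7_3 lc_c_rc_11_1 lc_c_rc_13_2 lc_c_Cert_tree lc_c_rc_14_2 lc_c_rc_7_3 lc_c_rc_11_1) (@D3.rec (fun _ => (Cert rels S Gen.c)) lc_c_rc_7_3 lc_c_rc_11_1 lc_c_rc_13_2 lc_c_Cert_tree lc_c_Cert_tree lc_c_rc_14_2 lc_c_rc_24_4 lc_c_rc_13_2 lc_c_rc_7_3 lc_c_rc_24_4 lc_c_rc_13_2 lc_c_Cert_tree lc_c_Cert_tree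 lc_c_rc_2_3 lc_c_Cert_tree lc_c_rc_14_2 lc_c_rc_11_1 lc_c_rc_11_1 lc_c_rc_13_2 lc_c_rc_22_3 lc_c_rc_13_2 lc_c_Cert_tree lc_c_Cert_tree lc_c_rc_13_2 lc_c_rc_11_1 lc_c_Cert_tree lc_c_rc_14_2 lc_c_rc_13_2 lc_c_Cert_tree lc_c_rc_14_2 lc_c_rc_26_2 lc_c_Cert_tree lc_c_rc_26_4 lc_c_rc_14_2 lc_c_Cert_tree lc_c_rc_14_2 lc_c_Cert_tree lc_c_rc_13_2 lc_c_Cert_tree lc_c_Cert_tree lc_c_rc_11_1 lc_c_rc_14_2 lc_c_Cert_tree lc_c_rc_13_2 lc_c_Cert_tree lc_c_rc_11_1 lc_c_rc_13_2 lc_c_rc_23_0 lc_c_rc_14_2 lc_c_Cert_tree lc_c_Cert_tree lc_c_rc_13_2 lc_c_rc_11_1 lc_c_rc_13_2 lc_c_Cert_tree lc_c_rc_11_1 lc_c_rc_13_2 lc_c_Cert_tree lc_c_rc_11_1 lc_c_rc_13_2 lc_c_rc_11_1 lc_c_rc_11_1) (@D3.rec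 (fun _ => (Cert rels S Gen.c)) lc_c_rc_7_3 lc_c_rc_11_1 lc_c_rc_14_2 lc_c_rc_13_2 lc_c_rc_11_1 lc_c_rc_23_5 lc_c_rc_23_0 lc_c_rc_14_2 lc_c_rc_23_0 lc_c_rc_11_1 lc_c_rc_13_2 lc_c_rc_14_2 lc_c_rc_11_1 lc_c_rc_11_1 lc_c_rc_23_0 lc_c_rc_22_3 lc_c_rc_24_2 lc_c_rc_13_2 lc_c_Cert_tree lc_c_Cert_tree lc_c_rc_14_2 lc_c_Cert_tree lc_c_rc_13_2 lc_c_rc_11_1 lc_c_rc_13_2 lc_c_rc_13_2 lc_c_rc_11_1 lc_c_rc_11_1 lc_c_rc_23_5 lc_c_rc_7_1 lc_c_rc_23_5 lc_c_Cert_tree lc_c_Cert_tree lc_c_rc_7_5 lc_c_rc_7_3 lc_c_rc_12_4 lc_c_rc_13_2 lc_c_Cert_tree lc_c_rc_14_2 lc_c_rc_7_3 lc_c_rc_23_5 lc_c_rc_13_2 lc_c_Cert_tree lc_c_rc_23_5 lc_c_rc_13_2 lc_c_Cert_tree lc_c_Cert_tree lc_c_rc_2_3 lc_c_Cert_tree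 lc_c_rc_14_2 lc_c_rc_12_12 lc_c_rc_24_2 lc_c_rc_11_1 lc_c_rc_13_2 lc_c_rc_22_5 lc_c_rc_13_2 lc_c_rc_22_9 lc_c_rc_22_3 lc_c_rc_24_8 lc_c_rc_2_3 lc_c_Cert_tree lc_c_rc_7_3) (@D3.rec (fun _ => (Cert rels S Gen.c)) lc_c_rc_13_2 lc_c_Cert_tree lc_c_rc_11_1 lc_c_Cert_tree lc_c_rc_11_1 lc_c_Cert_tree lc_c_rc_13_2 lc_c_Cert_tree lc_c_rc_11_1 lc_c_rc_2_3 lc_c_Cert_tree lc_c_rc_13_2 lc_c_Cert_tree lc_c_rc_11_1 lc_c_rc_11_1 lc_c_rc_25_5 lc_c_rc_2_3 lc_c_rc_23_0 lc_c_rc_7_5 lc_c_rc_13_2 lc_c_rc_11_1 lc_c_rc_11_1 lc_c_rc_2_3 lc_c_Cert_tree lc_c_rc_13_2 lc_c_rc_13_2 lc_c_rc_11_1 lc_c_rc_23_0 lc_c_rc_22_3 lc_c_rc_14_2 lc_c_rc_11_1 lc_c_rc_11_1 lc_c_Cert_tree lc_c_Cert_tree lc_c_rc_2_3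 lc_c_Cert_tree lc_c_rc_7_5 lc_c_rc_13_2 lc_c_Cert_tree lc_c_rc_14_2 lc_c_Cert_tree lc_c_Cert_tree lc_c_Cert_tree lc_c_rc_11_1 lc_c_Cert_tree lc_c_rc_13_2 lc_c_rc_13_2 lc_c_rc_23_0 lc_c_rc_14_2 lc_c_rc_14_2 lc_c_Cert_tree lc_c_Cert_tree lc_c_rc_11_1 lc_c_Cert_tree lc_c_rc_13_2 lc_c_rc_14_2 lc_c_rc_7_3 lc_c_rc_11_1 lc_c_Cert_tree lc_c_rc_13_2 lc_c_Cert_tree lc_c_Cert_tree) (@D3.rec (fun _ => (Cert rels S Gen.c)) lc_c_Cert_tree lc_c_rc_11_1 lc_c_rc_13_2 lc_c_rc_13_2 lc_c_Cert_tree lc_c_rc_13_2 lc_c_Cert_tree lc_c_rc_13_2 lc_c_rc_23_0 lc_c_rc_2_1 lc_c_rc_14_2 lc_c_rc_13_0 lc_c_rc_24_6 lc_c_Cert_tree lc_c_rc_26_4 lc_c_rc_11_1 lc_c_Cert_tree lc_c_rc_11_1 lc_c_Cert_tree lc_c_rc_23_0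 lc_c_rc_7_3 lc_c_rc_22_5 lc_c_rc_11_1 lc_c_rc_7_3 lc_c_Cert_tree lc_c_rc_14_2 lc_c_Cert_tree lc_c_rc_2_3 lc_c_Cert_tree lc_c_rc_13_2 lc_c_rc_11_1 lc_c_rc_13_2 lc_c_rc_7_1 lc_c_rc_11_1 lc_c_rc_13_2 lc_c_Cert_tree lc_c_Cert_tree lc_c_Cert_tree lc_c_rc_11_1 lc_c_rc_13_2 lc_c_rc_7_3 lc_c_rc_13_2 lc_c_Cert_tree lc_c_Cert_tree lc_c_rc_14_2 lc_c_rc_23_0 lc_c_rc_26_4 lc_c_Cert_tree lc_c_Cert_tree lc_c_rc_2_3 lc_c_rc_13_2 lc_c_Cert_tree lc_c_rc_14_2 lc_c_rc_26_4 lc_c_rc_23_5 lc_c_Cert_tree lc_c_rc_26_2 lc_c_rc_23_5 lc_c_rc_14_0 lc_c_rc_26_10 lc_c_rc_2_3 lc_c_rc_11_1) (@D3.rec (fun _ => (Cert rels S Gen.c)) lc_c_rc_11_1 lc_c_Cert_tree lc_c_rc_13_2 lc_c_Cert_tree lc_c_Cert_tree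 lc_c_rc_11_1 lc_c_rc_13_2 lc_c_Cert_tree lc_c_Cert_tree lc_c_Cert_tree lc_c_rc_14_2 lc_c_rc_13_2 lc_c_rc_11_1 lc_c_Cert_tree lc_c_rc_14_2 lc_c_Cert_tree lc_c_rc_7_3 lc_c_Cert_tree lc_c_rc_11_1 lc_c_rc_24_2 lc_c_rc_7_3 lc_c_Cert_tree lc_c_rc_13_2 lc_c_rc_7_3 lc_c_rc_24_4 lc_c_rc_13_2 lc_c_rc_7_5 lc_c_rc_24_2 lc_c_rc_14_2 lc_c_Cert_tree lc_c_Cert_tree lc_c_rc_2_3 lc_c_rc_13_2 lc_c_Cert_tree lc_c_rc_14_2 lc_c_rc_2_1 lc_c_rc_13_2 lc_c_rc_26_4 lc_c_rc_11_1 lc_c_rc_26_8 lc_c_rc_11_1 lc_c_rc_13_2 lc_c_Cert_tree lc_c_rc_13_2 lc_c_Cert_tree lc_c_Cert_tree lc_c_rc_11_1 lc_c_rc_13_2 lc_c_Cert_tree lc_c_rc_24_4 lc_c_rc_14_2 lc_c_rc_24_8 lc_c_rc_13_2 lc_c_Cert_tree lc_c_rc_14_2 lc_c_rc_11_1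 lc_c_rc_22_3 lc_c_rc_11_1 lc_c_rc_13_2 lc_c_rc_26_8 lc_c_rc_11_1 lc_c_rc_23_5) (@D3.rec (fun _ => (Cert rels S Gen.c)) lc_c_rc_13_2 lc_c_rc_13_2 lc_c_rc_26_4 lc_c_rc_11_1 lc_c_rc_26_8 lc_c_rc_11_1 lc_c_Cert_tree lc_c_rc_13_2 lc_c_rc_11_1 lc_c_rc_26_4 lc_c_rc_26_2 lc_c_rc_11_1 lc_c_Cert_tree lc_c_rc_13_2 lc_c_rc_7_1 lc_c_Cert_tree lc_c_Cert_tree lc_c_Cert_tree lc_c_Cert_tree lc_c_rc_11_1 lc_c_rc_13_2 lc_c_rc_11_1 lc_c_rc_13_2 lc_c_rc_14_2 lc_c_rc_13_2 lc_c_rc_13_2 lc_c_rc_14_2 lc_c_Cert_tree lc_c_rc_13_2 lc_c_rc_2_1 lc_c_rc_11_1 lc_c_Cert_tree lc_c_rc_11_1 lc_c_Cert_tree lc_c_rc_14_2 lc_c_rc_11_1 lc_c_rc_13_2 lc_c_rc_13_2 lc_c_Cert_tree lc_c_rc_13_2 lc_c_rc_11_1 lc_c_rc_2_1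 lc_c_Cert_tree lc_c_Cert_tree lc_c_rc_11_1 lc_c_rc_13_2 lc_c_Cert_tree lc_c_rc_11_1 lc_c_rc_13_2 lc_c_Cert_tree lc_c_rc_11_1 lc_c_rc_13_2 lc_c_rc_24_4 lc_c_rc_24_6 lc_c_rc_7_3 lc_c_Cert_tree lc_c_rc_13_2 lc_c_rc_14_2 lc_c_Cert_tree lc_c_Cert_tree lc_c_rc_14_2 lc_c_rc_13_2) (@D3.rec (fun _ => (Cert rels S Gen.c)) lc_c_Cert_tree lc_c_Cert_tree lc_c_Cert_tree lc_c_Cert_tree lc_c_rc_11_1 lc_c_rc_13_2 lc_c_rc_24_8 lc_c_rc_13_2 lc_c_Cert_tree lc_c_rc_14_2 lc_c_Cert_tree lc_c_rc_11_1 lc_c_rc_13_2 lc_c_rc_24_8 lc_c_rc_11_1 lc_c_Cert_tree lc_c_rc_14_2 lc_c_Cert_tree lc_c_Cert_tree lc_c_rc_2_3 lc_c_rc_13_2 lc_c_rc_11_1 lc_c_rc_11_1 lc_c_Cert_tree lc_c_rc_14_2 lc_c_Cert_tree lc_c_rc_11_1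 lc_c_Cert_tree lc_c_Cert_tree lc_c_rc_11_1 lc_c_rc_13_2 lc_c_rc_14_2 lc_c_rc_23_0 lc_c_rc_11_1 lc_c_Cert_tree lc_c_Cert_tree lc_c_Cert_tree lc_c_rc_11_1 lc_c_rc_26_10 lc_c_rc_13_2 lc_c_rc_13_2 lc_c_Cert_tree lc_c_rc_14_2 lc_c_rc_11_1 lc_c_rc_26_10 lc_c_Cert_tree lc_c_rc_14_2 lc_c_rc_26_4 lc_c_rc_11_1 lc_c_Cert_tree lc_c_rc_13_2 lc_c_rc_26_4 lc_c_rc_11_1 lc_c_Cert_tree lc_c_rc_13_2 lc_c_Cert_tree lc_c_Cert_tree lc_c_rc_11_1 lc_c_rc_14_2 lc_c_Cert_tree lc_c_rc_13_2 lc_c_Cert_tree) (@D3.rec (fun _ => (Cert rels S Gen.c)) lc_c_rc_13_2 lc_c_rc_7_3 lc_c_rc_22_7 lc_c_rc_14_2 lc_c_rc_13_2 lc_c_Cert_tree lc_c_rc_13_2 lc_c_rc_11_1 lc_c_rc_23_0 lc_c_rc_14_2 lc_c_rc_7_3 lc_c_rc_7_3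 lc_c_rc_11_1 lc_c_rc_7_3 lc_c_rc_23_5 lc_c_rc_23_0 lc_c_rc_14_2 lc_c_rc_26_4 lc_c_rc_24_8 lc_c_rc_24_8 lc_c_rc_11_1 lc_c_rc_14_2 lc_c_Cert_tree lc_c_rc_13_2 lc_c_Cert_tree lc_c_rc_22_5 lc_c_rc_7_3 lc_c_rc_13_2 lc_c_rc_7_3 lc_c_rc_7_3 lc_c_Cert_tree lc_c_Cert_tree lc_c_rc_23_5 lc_c_rc_24_2 lc_c_rc_24_2 lc_c_rc_14_2 lc_c_rc_11_1 lc_c_rc_11_1 lc_c_rc_11_1 lc_c_rc_11_1 lc_c_rc_13_2 lc_c_rc_13_2 lc_c_rc_23_0 lc_c_Cert_tree lc_c_rc_14_2 lc_c_rc_13_2 lc_c_rc_13_2 lc_c_Cert_tree lc_c_rc_14_2 lc_c_rc_11_1 lc_c_rc_11_1 lc_c_Cert_tree lc_c_rc_14_2 lc_c_rc_7_3 lc_c_rc_11_1 lc_c_Cert_tree lc_c_rc_13_2 lc_c_Cert_tree lc_c_rc_11_1 lc_c_Cert_tree lc_c_rc_13_2 lc_c_Cert_tree) (@D3.rec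 (fun _ => (Cert rels S Gen.c)) lc_c_Cert_tree lc_c_rc_11_1 lc_c_rc_14_2 lc_c_rc_26_4 lc_c_rc_13_2 lc_c_Cert_tree lc_c_rc_13_2 lc_c_rc_7_3 lc_c_rc_11_1 lc_c_rc_14_2 lc_c_rc_13_2 lc_c_Cert_tree lc_c_Cert_tree lc_c_rc_11_1 lc_c_rc_13_2 lc_c_rc_24_4 lc_c_Cert_tree lc_c_rc_14_2 lc_c_rc_7_3 lc_c_rc_13_2 lc_c_rc_11_1 lc_c_Cert_tree lc_c_rc_13_2 lc_c_Cert_tree lc_c_rc_11_1 lc_c_rc_7_3 lc_c_rc_13_2 lc_c_rc_26_2 lc_c_rc_26_4 lc_c_rc_14_2 lc_c_rc_11_1 lc_c_rc_13_2 lc_c_rc_14_2 lc_c_Cert_tree lc_c_Cert_tree lc_c_rc_2_3 lc_c_Cert_tree lc_c_rc_14_2 lc_c_rc_11_1 lc_c_rc_13_2 lc_c_rc_22_5 lc_c_rc_13_2 lc_c_rc_11_1 lc_c_rc_13_2 lc_c_Cert_tree lc_c_rc_14_2 lc_c_rc_14_2 lc_c_rc_24_4 lc_c_rc_2_3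 lc_c_rc_11_1 lc_c_Cert_tree lc_c_rc_13_2 lc_c_rc_14_2 lc_c_Cert_tree lc_c_rc_11_1 lc_c_Cert_tree lc_c_rc_13_2 lc_c_Cert_tree lc_c_Cert_tree lc_c_Cert_tree lc_c_rc_11_1 lc_c_rc_13_2) (@D3.rec (fun _ => (Cert rels S Gen.c)) lc_c_rc_14_2 lc_c_rc_13_2 lc_c_rc_26_10 lc_c_rc_26_10 lc_c_rc_14_2 lc_c_rc_13_2 lc_c_Cert_tree lc_c_rc_26_2 lc_c_Cert_tree lc_c_Cert_tree lc_c_Cert_tree lc_c_rc_7_5 lc_c_rc_13_2 lc_c_Cert_tree lc_c_rc_13_2 lc_c_Cert_tree lc_c_rc_11_1 lc_c_rc_26_10 lc_c_Cert_tree lc_c_rc_14_2 lc_c_Cert_tree lc_c_rc_11_1 lc_c_Cert_tree lc_c_rc_13_2 lc_c_rc_26_4 lc_c_rc_11_1 lc_c_Cert_tree lc_c_rc_13_2 lc_c_Cert_tree lc_c_Cert_tree lc_c_rc_11_1 lc_c_rc_14_2 lc_c_Cert_tree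 lc_c_Cert_tree lc_c_Cert_tree lc_c_rc_11_1 lc_c_rc_13_2 lc_c_rc_7_5 lc_c_rc_2_1 lc_c_Cert_tree lc_c_rc_13_2 lc_c_rc_11_1 lc_c_rc_13_2 lc_c_Cert_tree lc_c_Cert_tree lc_c_rc_11_1 lc_c_rc_13_2 lc_c_Cert_tree lc_c_rc_11_1 lc_c_rc_13_2 lc_c_rc_11_1 lc_c_rc_11_1 lc_c_rc_7_3 lc_c_rc_22_5 lc_c_rc_14_2 lc_c_rc_13_2 lc_c_rc_7_1 lc_c_Cert_tree lc_c_Cert_tree lc_c_Cert_tree lc_c_rc_11_1 lc_c_Cert_tree) (@D3.rec (fun _ => (Cert rels S Gen.c)) lc_c_Cert_tree lc_c_Cert_tree lc_c_rc_11_1 lc_c_rc_13_2 lc_c_rc_23_0 lc_c_rc_11_1 lc_c_rc_11_1 lc_c_rc_13_2 lc_c_rc_23_0 lc_c_rc_7_3 lc_c_rc_24_8 lc_c_Cert_tree lc_c_rc_7_3 lc_c_rc_11_1 lc_c_rc_13_2 lc_c_Cert_tree lc_c_rc_7_3 lc_c_rc_11_1 lc_c_rc_11_1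 lc_c_rc_11_1 lc_c_rc_13_2 lc_c_rc_7_1 lc_c_rc_23_5 lc_c_rc_13_2 lc_c_rc_13_2 lc_c_rc_23_5 lc_c_rc_13_2 lc_c_rc_7_3 lc_c_rc_23_5 lc_c_rc_13_2 lc_c_Cert_tree lc_c_rc_23_5 lc_c_rc_11_1 lc_c_Cert_tree lc_c_Cert_tree lc_c_rc_2_3 lc_c_Cert_tree lc_c_rc_14_2 lc_c_rc_24_4 lc_c_rc_24_2 lc_c_rc_11_1 lc_c_rc_13_2 lc_c_rc_22_5 lc_c_rc_23_5 lc_c_rc_13_2 lc_c_rc_13_2 lc_c_rc_22_3 lc_c_rc_11_1 lc_c_rc_7_5 lc_c_Cert_tree lc_c_rc_13_2 lc_c_rc_26_2 lc_c_Cert_tree lc_c_rc_13_2 lc_c_Cert_tree lc_c_Cert_tree lc_c_rc_11_1 lc_c_rc_14_2 lc_c_Cert_tree lc_c_rc_13_2 lc_c_rc_11_1 lc_c_Cert_tree) (@D3.rec (fun _ => (Cert rels S Gen.c)) lc_c_Cert_tree lc_c_Cert_tree lc_c_rc_11_1 lc_c_rc_13_2 lc_c_Cert_tree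 lc_c_rc_7_3 lc_c_rc_11_1 lc_c_rc_13_2 lc_c_Cert_tree lc_c_Cert_tree lc_c_rc_11_1 lc_c_rc_13_2 lc_c_Cert_tree lc_c_rc_11_1 lc_c_rc_13_2 lc_c_rc_23_0 lc_c_rc_11_1 lc_c_rc_7_3 lc_c_rc_22_5 lc_c_rc_14_2 lc_c_rc_13_2 lc_c_Cert_tree lc_c_rc_11_1 lc_c_rc_23_0 lc_c_rc_11_1 lc_c_rc_13_2 lc_c_rc_11_1 lc_c_rc_11_1 lc_c_rc_13_0 lc_c_rc_23_0 lc_c_rc_13_2 lc_c_rc_24_8 lc_c_rc_7_1 lc_c_Cert_tree lc_c_rc_13_2 lc_c_Cert_tree lc_c_Cert_tree lc_c_rc_11_1 lc_c_Cert_tree lc_c_Cert_tree lc_c_rc_13_2 lc_c_rc_11_1 lc_c_rc_13_2 lc_c_Cert_tree lc_c_rc_7_3 lc_c_rc_11_1 lc_c_rc_11_1 lc_c_rc_7_3 lc_c_rc_23_5 lc_c_rc_13_2 lc_c_rc_11_1 lc_c_rc_13_2 lc_c_rc_7_1 lc_c_rc_23_5 lc_c_rc_13_2 lc_c_Cert_tree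 lc_c_rc_23_5 lc_c_rc_13_2 lc_c_rc_13_2 lc_c_rc_23_5 lc_c_rc_11_1 lc_c_rc_24_4) (@D3.rec (fun _ => (Cert rels S Gen.c)) lc_c_Cert_tree lc_c_rc_12_8 lc_c_rc_24_2 lc_c_rc_11_1 lc_c_rc_13_2 lc_c_rc_22_5 lc_c_rc_13_2 lc_c_Cert_tree lc_c_rc_13_2 lc_c_rc_13_2 lc_c_Cert_tree lc_c_Cert_tree lc_c_rc_7_5 lc_c_Cert_tree lc_c_rc_14_2 lc_c_rc_26_4 lc_c_rc_11_1 lc_c_Cert_tree lc_c_rc_13_2 lc_c_rc_26_4 lc_c_rc_11_1 lc_c_Cert_tree lc_c_rc_13_2 lc_c_Cert_tree lc_c_Cert_tree lc_c_rc_11_1 lc_c_rc_14_2 lc_c_Cert_tree lc_c_rc_13_2 lc_c_Cert_tree lc_c_rc_13_2 lc_c_rc_7_3 lc_c_rc_22_3 lc_c_rc_14_2 lc_c_rc_13_2 lc_c_rc_13_2 lc_c_Cert_tree lc_c_rc_13_2 lc_c_rc_26_10 lc_c_rc_7_5 lc_c_Cert_tree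 lc_c_rc_14_2 lc_c_rc_13_2 lc_c_rc_13_2 lc_c_rc_26_10 lc_c_rc_11_1 lc_c_Cert_tree lc_c_rc_14_2 lc_c_Cert_tree lc_c_rc_13_2 lc_c_rc_26_8 lc_c_Cert_tree lc_c_rc_23_5 lc_c_Cert_tree lc_c_Cert_tree lc_c_rc_11_1 lc_c_rc_14_2 lc_c_Cert_tree lc_c_rc_13_2 lc_c_Cert_tree lc_c_rc_13_2 lc_c_rc_7_3) (@D3.rec (fun _ => (Cert rels S Gen.c)) lc_c_rc_22_3 lc_c_rc_14_2 lc_c_rc_13_2 lc_c_rc_23_0 lc_c_rc_11_1 lc_c_Cert_tree lc_c_rc_14_2 lc_c_rc_7_5 lc_c_Cert_tree lc_c_rc_14_2 lc_c_Cert_tree lc_c_rc_7_3 lc_c_Cert_tree lc_c_rc_11_1 lc_c_rc_14_2 lc_c_Cert_tree lc_c_rc_14_2 lc_c_Cert_tree lc_c_rc_23_5 lc_c_Cert_tree lc_c_rc_11_1 lc_c_rc_14_2 lc_c_rc_2_3 lc_c_Cert_tree lc_c_rc_14_2 lc_c_rc_7_5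 lc_c_Cert_tree lc_c_rc_13_2 lc_c_rc_11_1 lc_c_Cert_tree lc_c_rc_13_2 lc_c_Cert_tree lc_c_Cert_tree lc_c_rc_11_1 lc_c_rc_14_2 lc_c_Cert_tree lc_c_Cert_tree lc_c_rc_13_2 lc_c_rc_26_2 lc_c_Cert_tree lc_c_rc_14_2 lc_c_rc_26_8 lc_c_Cert_tree lc_c_rc_2_3 lc_c_Cert_tree lc_c_rc_13_2 lc_c_Cert_tree lc_c_Cert_tree lc_c_rc_11_1 lc_c_rc_14_2 lc_c_rc_2_1 lc_c_Cert_tree lc_c_rc_13_2 lc_c_rc_11_1 lc_c_rc_11_1 lc_c_Cert_tree lc_c_rc_13_2 lc_c_Cert_tree lc_c_Cert_tree lc_c_rc_11_1 lc_c_rc_13_2 lc_c_rc_23_0) (@D3.rec (fun _ => (Cert rels S Gen.c)) lc_c_Cert_tree lc_c_rc_14_2 lc_c_rc_11_1 lc_c_rc_13_2 lc_c_Cert_tree lc_c_rc_14_2 lc_c_Cert_tree lc_c_rc_13_2 lc_c_rc_11_1 lc_c_rc_13_2 lc_c_Cert_tree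 lc_c_rc_14_2 lc_c_Cert_tree lc_c_rc_11_1 lc_c_Cert_tree lc_c_rc_13_2 lc_c_Cert_tree lc_c_rc_11_1 lc_c_Cert_tree lc_c_rc_13_2 lc_c_Cert_tree lc_c_Cert_tree lc_c_rc_7_3 lc_c_Cert_tree lc_c_rc_14_2 lc_c_rc_13_2 lc_c_Cert_tree lc_c_rc_13_2 lc_c_Cert_tree lc_c_rc_11_1 lc_c_rc_13_2 lc_c_Cert_tree lc_c_rc_26_4 lc_c_rc_11_1 lc_c_rc_13_2 lc_c_Cert_tree lc_c_rc_11_1 lc_c_rc_13_2 lc_c_Cert_tree lc_c_rc_11_1 lc_c_rc_22_5 lc_c_rc_24_8 lc_c_rc_11_1 lc_c_rc_7_3 lc_c_rc_12_12 lc_c_rc_14_2 lc_c_rc_13_2 lc_c_rc_11_1 lc_c_Cert_tree lc_c_Cert_tree lc_c_rc_22_3 lc_c_Cert_tree lc_c_Cert_tree lc_c_rc_11_1 lc_c_rc_13_2 lc_c_Cert_tree lc_c_Cert_tree lc_c_rc_14_2 lc_c_Cert_tree lc_c_rc_11_1 lc_c_rc_13_2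 lc_c_rc_11_1) (@D3.rec (fun _ => (Cert rels S Gen.c)) lc_c_rc_13_2 lc_c_rc_24_8 lc_c_rc_23_0 lc_c_rc_7_3 lc_c_rc_11_1 lc_c_rc_13_2 lc_c_rc_24_4 lc_c_rc_11_1 lc_c_rc_14_2 lc_c_Cert_tree lc_c_Cert_tree lc_c_rc_11_1 lc_c_Cert_tree lc_c_rc_13_2 lc_c_rc_11_1 lc_c_Cert_tree lc_c_rc_13_2 lc_c_Cert_tree lc_c_Cert_tree lc_c_rc_11_1 lc_c_rc_13_2 lc_c_rc_24_4 lc_c_rc_13_2 lc_c_Cert_tree lc_c_rc_14_2 lc_c_rc_7_3 lc_c_rc_12_4 lc_c_rc_13_2 lc_c_Cert_tree lc_c_Cert_tree lc_c_Cert_tree lc_c_rc_14_2 lc_c_rc_11_1 lc_c_Cert_tree lc_c_rc_11_1 lc_c_rc_7_3 lc_c_rc_13_2 lc_c_rc_24_6 lc_c_rc_7_1 lc_c_rc_23_5 lc_c_rc_13_2 lc_c_Cert_tree lc_c_Cert_tree lc_c_Cert_tree lc_c_rc_14_2 lc_c_Cert_tree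 lc_c_rc_11_1 lc_c_rc_13_2 lc_c_rc_7_1 lc_c_rc_23_5 lc_c_rc_13_2 lc_c_Cert_tree lc_c_Cert_tree lc_c_rc_14_2 lc_c_Cert_tree lc_c_rc_23_5 lc_c_rc_13_2 lc_c_Cert_tree lc_c_rc_23_5 lc_c_rc_13_2 lc_c_Cert_tree lc_c_Cert_tree) (@D3.rec (fun _ => (Cert rels S Gen.c)) lc_c_rc_2_3 lc_c_Cert_tree lc_c_rc_14_2 lc_c_rc_11_1 lc_c_rc_11_1 lc_c_rc_13_2 lc_c_rc_13_2 lc_c_Cert_tree lc_c_Cert_tree lc_c_rc_26_4 lc_c_rc_11_1 lc_c_Cert_tree lc_c_Cert_tree lc_c_rc_2_3 lc_c_Cert_tree lc_c_Cert_tree lc_c_rc_11_1 lc_c_rc_13_2 lc_c_Cert_tree lc_c_Cert_tree lc_c_Cert_tree lc_c_rc_14_2 lc_c_Cert_tree lc_c_rc_11_1 lc_c_rc_13_2 lc_c_Cert_tree lc_c_rc_11_1 lc_c_rc_13_2 lc_c_rc_7_3 lc_c_rc_13_2 lc_c_rc_26_2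 lc_c_rc_26_4 lc_c_rc_13_2 lc_c_rc_22_3 lc_c_rc_7_1 lc_c_rc_23_0 lc_c_rc_11_1 lc_c_rc_7_1 lc_c_rc_23_5 lc_c_rc_7_3 lc_c_rc_24_4 lc_c_rc_7_3 lc_c_rc_23_5 lc_c_Cert_tree lc_c_rc_23_0 lc_c_Cert_tree lc_c_Cert_tree lc_c_rc_2_3 lc_c_Cert_tree lc_c_rc_7_3 lc_c_rc_13_2 lc_c_rc_23_5 lc_c_rc_11_1 lc_c_Cert_tree lc_c_rc_2_1 lc_c_Cert_tree lc_c_rc_11_1 lc_c_rc_11_1 lc_c_rc_13_2 lc_c_rc_7_3 lc_c_rc_11_1 lc_c_rc_11_1) (@D3.rec (fun _ => (Cert rels S Gen.c)) lc_c_rc_13_2 lc_c_rc_26_4 lc_c_rc_11_1 lc_c_rc_26_8 lc_c_rc_22_3 lc_c_Cert_tree lc_c_Cert_tree lc_c_rc_11_1 lc_c_rc_13_2 lc_c_rc_24_6 lc_c_rc_23_0 lc_c_Cert_tree lc_c_rc_14_2 lc_c_rc_7_3 lc_c_rc_13_2 lc_c_Cert_tree lc_c_Cert_tree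 lc_c_Cert_tree lc_c_rc_14_2 lc_c_rc_11_1 lc_c_rc_11_1 lc_c_rc_23_5 lc_c_Cert_tree lc_c_rc_14_2 lc_c_rc_23_5 lc_c_Cert_tree lc_c_Cert_tree lc_c_rc_2_3 lc_c_Cert_tree lc_c_rc_24_2 lc_c_rc_11_1 lc_c_rc_13_2 lc_c_rc_24_8 lc_c_rc_23_0 lc_c_Cert_tree lc_c_rc_14_2 lc_c_rc_7_3 lc_c_Cert_tree lc_c_rc_11_1 lc_c_rc_11_1 lc_c_rc_22_3 lc_c_Cert_tree lc_c_rc_7_1 lc_c_rc_13_2 lc_c_rc_2_3 lc_c_rc_7_5 lc_c_rc_7_1 lc_c_rc_11_1 lc_c_Cert_tree lc_c_Cert_tree lc_c_Cert_tree lc_c_rc_11_1 lc_c_Cert_tree lc_c_rc_13_2 lc_c_rc_24_2 lc_c_rc_11_1 lc_c_rc_13_2 lc_c_Cert_tree lc_c_rc_14_2 lc_c_Cert_tree lc_c_Cert_tree lc_c_Cert_tree) (@D3.rec (fun _ => (Cert rels S Gen.c)) lc_c_rc_11_1 lc_c_Cert_tree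 lc_c_rc_13_2 lc_c_rc_13_2 lc_c_Cert_tree lc_c_rc_14_2 lc_c_rc_14_2 lc_c_rc_22_3 lc_c_rc_22_5 lc_c_rc_11_1 lc_c_Cert_tree lc_c_rc_14_2 lc_c_rc_7_3 lc_c_rc_11_1 lc_c_Cert_tree lc_c_rc_13_2 lc_c_Cert_tree lc_c_Cert_tree lc_c_Cert_tree lc_c_rc_11_1 lc_c_rc_13_2 lc_c_rc_14_2 lc_c_rc_13_2 lc_c_Cert_tree lc_c_rc_13_2 lc_c_Cert_tree lc_c_rc_26_4 lc_c_rc_7_3 lc_c_rc_13_2 lc_c_Cert_tree lc_c_Cert_tree lc_c_rc_14_2 lc_c_rc_13_2 lc_c_Cert_tree lc_c_rc_7_1 lc_c_rc_22_7 lc_c_rc_13_2 lc_c_Cert_tree lc_c_Cert_tree lc_c_rc_14_2 lc_c_Cert_tree lc_c_Cert_tree lc_c_rc_2_3 lc_c_rc_13_2 lc_c_rc_23_0 lc_c_rc_11_1 lc_c_Cert_tree lc_c_rc_14_2 lc_c_Cert_tree lc_c_Cert_tree lc_c_rc_2_3 lc_c_Cert_tree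 lc_c_rc_13_2 lc_c_rc_13_2 lc_c_Cert_tree lc_c_Cert_tree lc_c_Cert_tree lc_c_Cert_tree lc_c_rc_11_1 lc_c_Cert_tree lc_c_rc_13_2 lc_c_rc_26_4) (@D3.rec (fun _ => (Cert rels S Gen.c)) lc_c_rc_11_1 lc_c_rc_25_5 lc_c_Cert_tree lc_c_rc_11_1 lc_c_Cert_tree lc_c_rc_13_2 lc_c_Cert_tree lc_c_rc_2_3 lc_c_rc_25_1 lc_c_Cert_tree lc_c_rc_11_1 lc_c_rc_13_2 lc_c_Cert_tree lc_c_Cert_tree lc_c_rc_11_1 lc_c_rc_13_2 lc_c_rc_13_2 lc_c_rc_14_2 lc_c_rc_7_3 lc_c_rc_2_3 lc_c_Cert_tree lc_c_rc_14_2 lc_c_rc_23_5 lc_c_Cert_tree lc_c_Cert_tree lc_c_rc_11_1 lc_c_rc_14_2 lc_c_rc_11_1 lc_c_Cert_tree lc_c_rc_7_1 lc_c_rc_14_2 lc_c_rc_11_1 lc_c_rc_13_2 lc_c_Cert_tree lc_c_rc_13_2 lc_c_rc_11_1 lc_c_rc_7_3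 lc_c_rc_7_3 lc_c_rc_26_4 lc_c_Cert_tree lc_c_rc_7_5 lc_c_Cert_tree lc_c_Cert_tree lc_c_rc_12_2 lc_c_rc_11_1 lc_c_rc_13_2 lc_c_rc_13_2 lc_c_Cert_tree lc_c_rc_14_2 lc_c_rc_13_2 lc_c_Cert_tree lc_c_rc_11_1 lc_c_Cert_tree lc_c_rc_26_4 lc_c_rc_11_1 lc_c_rc_13_2 lc_c_Cert_tree lc_c_rc_11_1 lc_c_Cert_tree lc_c_Cert_tree lc_c_Cert_tree lc_c_rc_11_1) (@D3.rec (fun _ => (Cert rels S Gen.c)) lc_c_rc_7_3 lc_c_Cert_tree lc_c_rc_13_2 lc_c_Cert_tree lc_c_rc_13_2 lc_c_rc_2_3 lc_c_rc_11_1 lc_c_rc_14_2 lc_c_rc_13_0 lc_c_rc_26_8 lc_c_rc_26_2 lc_c_rc_26_8 lc_c_rc_13_2 lc_c_rc_26_4 lc_c_rc_26_8 lc_c_Cert_tree lc_c_Cert_tree lc_c_Cert_tree lc_c_rc_11_1 lc_c_rc_13_2 lc_c_Cert_tree lc_c_rc_13_2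 lc_c_rc_13_2 lc_c_rc_26_2 lc_c_rc_14_2 lc_c_Cert_tree lc_c_rc_22_3 lc_c_rc_7_5 lc_c_rc_23_0 lc_c_rc_14_0 lc_c_rc_13_0 lc_c_rc_24_2 lc_c_rc_11_1 lc_c_rc_13_0 lc_c_rc_11_1 lc_c_rc_7_1 lc_c_Cert_tree lc_c_rc_26_4 lc_c_rc_11_1 lc_c_Cert_tree lc_c_rc_13_2 lc_c_Cert_tree lc_c_rc_11_1 lc_c_Cert_tree lc_c_rc_11_1 lc_c_Cert_tree lc_c_rc_13_2 lc_c_Cert_tree lc_c_rc_11_1 lc_c_Cert_tree lc_c_rc_13_2 lc_c_Cert_tree lc_c_Cert_tree lc_c_rc_11_1 lc_c_Cert_tree lc_c_Cert_tree lc_c_Cert_tree lc_c_rc_14_2 lc_c_rc_13_2 lc_c_rc_13_2 lc_c_Cert_tree lc_c_rc_11_1) (@D3.rec (fun _ => (Cert rels S Gen.c)) lc_c_rc_22_7 lc_c_rc_11_1 lc_c_Cert_tree lc_c_rc_26_8 lc_c_rc_11_1 lc_c_Cert_tree lc_c_rc_13_2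 lc_c_rc_11_1 lc_c_Cert_tree lc_c_rc_13_2 lc_c_Cert_tree lc_c_rc_11_1 lc_c_Cert_tree lc_c_rc_13_2 lc_c_Cert_tree lc_c_Cert_tree lc_c_rc_11_1 lc_c_rc_13_2 lc_c_Cert_tree lc_c_Cert_tree lc_c_rc_14_2 lc_c_rc_23_0 lc_c_rc_13_2 lc_c_rc_13_2 lc_c_rc_14_2 lc_c_rc_22_9 lc_c_rc_24_2 lc_c_rc_13_2 lc_c_rc_7_5 lc_c_Cert_tree lc_c_rc_13_2 lc_c_rc_11_1 lc_c_Cert_tree lc_c_rc_13_2 lc_c_rc_11_1 lc_c_Cert_tree lc_c_rc_7_3 lc_c_Cert_tree lc_c_rc_13_2 lc_c_rc_14_2 lc_c_Cert_tree lc_c_rc_11_1 lc_c_rc_13_2 lc_c_rc_14_2 lc_c_rc_2_1 lc_c_Cert_tree lc_c_rc_14_2 lc_c_rc_26_8 lc_c_rc_26_10 lc_c_rc_7_3 lc_c_Cert_tree lc_c_rc_13_2 lc_c_Cert_tree lc_c_rc_13_2 lc_c_rc_11_1 lc_c_rc_13_2 lc_c_rc_13_2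 lc_c_Cert_tree lc_c_rc_11_1 lc_c_rc_11_1 lc_c_rc_13_2 lc_c_Cert_tree) (@D3.rec (fun _ => (Cert rels S Gen.c)) lc_c_rc_11_1 lc_c_rc_13_2 lc_c_Cert_tree lc_c_rc_11_1 lc_c_rc_13_2 lc_c_Cert_tree lc_c_Cert_tree lc_c_Cert_tree lc_c_rc_13_2 lc_c_Cert_tree lc_c_Cert_tree lc_c_rc_14_2 lc_c_rc_26_10 lc_c_rc_13_0 lc_c_Cert_tree lc_c_Cert_tree lc_c_rc_11_1 lc_c_rc_7_3 lc_c_rc_11_1 lc_c_rc_13_2 lc_c_rc_26_8 lc_c_rc_14_2 lc_c_Cert_tree lc_c_rc_11_1 lc_c_rc_13_2 lc_c_rc_11_1 lc_c_rc_13_2 lc_c_Cert_tree lc_c_rc_14_2 lc_c_rc_7_3 lc_c_rc_11_1 lc_c_Cert_tree lc_c_rc_23_0 lc_c_Cert_tree lc_c_rc_11_1 lc_c_Cert_tree lc_c_rc_11_1 lc_c_Cert_tree lc_c_Cert_tree lc_c_Cert_tree lc_c_Cert_tree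 lc_c_Cert_tree lc_c_rc_11_1 lc_c_rc_13_2 lc_c_Cert_tree lc_c_Cert_tree lc_c_rc_11_1 lc_c_rc_11_1 lc_c_Cert_tree lc_c_Cert_tree lc_c_rc_2_3 lc_c_rc_13_2 lc_c_Cert_tree lc_c_Cert_tree lc_c_rc_11_1 lc_c_rc_11_1 lc_c_Cert_tree lc_c_rc_14_2 lc_c_rc_26_4 lc_c_rc_11_1 lc_c_Cert_tree lc_c_rc_13_2) (@D3.rec (fun _ => (Cert rels S Gen.c)) lc_c_rc_26_8 lc_c_rc_11_1 lc_c_Cert_tree lc_c_rc_13_2 lc_c_Cert_tree lc_c_Cert_tree lc_c_rc_11_1 lc_c_rc_14_2 lc_c_Cert_tree lc_c_rc_13_2 lc_c_rc_11_1 lc_c_rc_13_2 lc_c_rc_11_1 lc_c_Cert_tree lc_c_rc_13_2 lc_c_rc_11_1 lc_c_rc_13_2 lc_c_Cert_tree lc_c_rc_11_1 lc_c_rc_13_2 lc_c_Cert_tree lc_c_rc_11_1 lc_c_rc_14_2 lc_c_rc_11_1 lc_c_rc_11_1 lc_c_rc_7_3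 lc_c_rc_11_1 lc_c_rc_14_2 lc_c_rc_13_2 lc_c_Cert_tree lc_c_rc_13_2 lc_c_rc_11_1 lc_c_rc_13_2 lc_c_rc_24_8 lc_c_rc_11_1 lc_c_Cert_tree lc_c_rc_11_1 lc_c_rc_11_1 lc_c_rc_13_2 lc_c_rc_24_2 lc_c_rc_7_3 lc_c_rc_23_5 lc_c_rc_26_2 lc_c_rc_23_5 lc_c_rc_13_2 lc_c_Cert_tree lc_c_rc_23_5 lc_c_Cert_tree lc_c_rc_23_5 lc_c_rc_13_2 lc_c_rc_26_10 lc_c_rc_11_1 lc_c_rc_2_3 lc_c_Cert_tree lc_c_rc_14_2 lc_c_rc_24_2 lc_c_rc_12_12 lc_c_rc_11_1 lc_c_rc_13_2 lc_c_rc_12_4 lc_c_rc_13_2 lc_c_rc_2_3) (@D3.rec (fun _ => (Cert rels S Gen.c)) lc_c_rc_2_1 lc_c_rc_2_3 lc_c_rc_11_1 lc_c_rc_26_10 lc_c_rc_26_10 lc_c_rc_26_8 lc_c_rc_11_1 lc_c_rc_7_5 lc_c_rc_11_1 lc_c_rc_13_2 lc_c_rc_13_2 lc_c_rc_23_0 lc_c_rc_13_2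 lc_c_rc_14_2 lc_c_rc_23_0 lc_c_rc_11_1 lc_c_Cert_tree lc_c_rc_11_1 lc_c_rc_24_4 lc_c_rc_13_2 lc_c_rc_13_2 lc_c_rc_14_2 lc_c_rc_26_4 lc_c_rc_13_2 lc_c_rc_2_3 lc_c_rc_7_1 lc_c_rc_13_2 lc_c_rc_13_2 lc_c_rc_11_1 lc_c_Cert_tree lc_c_rc_14_2 lc_c_rc_11_1 lc_c_rc_11_1 lc_c_rc_7_5 lc_c_rc_13_2 lc_c_rc_13_2 lc_c_Cert_tree lc_c_Cert_tree lc_c_rc_11_1 lc_c_Cert_tree lc_c_rc_13_2 lc_c_rc_23_5 lc_c_rc_13_2 lc_c_rc_7_5 lc_c_rc_7_5 lc_c_rc_13_2 lc_c_rc_26_2 lc_c_rc_13_2 lc_c_rc_24_2 lc_c_Cert_tree lc_c_rc_14_2 lc_c_rc_7_5 lc_c_rc_11_1 lc_c_rc_13_2 lc_c_rc_13_2 lc_c_Cert_tree lc_c_rc_11_1 lc_c_rc_13_2 lc_c_Cert_tree lc_c_rc_11_1 lc_c_Cert_tree lc_c_rc_11_1) (@D3.rec (fun _ => (Cert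 rels S Gen.c)) lc_c_rc_13_2 lc_c_rc_22_7 lc_c_rc_23_5 lc_c_rc_7_3 lc_c_rc_12_2 lc_c_rc_13_2 lc_c_rc_14_2 lc_c_Cert_tree lc_c_Cert_tree lc_c_rc_14_2 lc_c_rc_13_2 lc_c_rc_11_1 lc_c_Cert_tree lc_c_rc_2_3 lc_c_rc_13_2 lc_c_rc_11_1 lc_c_rc_24_8 lc_c_Cert_tree lc_c_rc_14_2 lc_c_Cert_tree lc_c_rc_11_1 lc_c_Cert_tree lc_c_rc_13_2 lc_c_Cert_tree lc_c_rc_11_1 lc_c_Cert_tree lc_c_rc_13_2 lc_c_rc_14_2 lc_c_rc_23_0 lc_c_rc_13_2 lc_c_Cert_tree lc_c_rc_11_1 lc_c_rc_7_3 lc_c_rc_13_2 lc_c_Cert_tree lc_c_rc_14_2 lc_c_Cert_tree lc_c_Cert_tree lc_c_rc_2_3 lc_c_rc_13_2 lc_c_Cert_tree lc_c_rc_14_2 lc_c_rc_11_1 lc_c_rc_26_4 lc_c_rc_23_5 lc_c_rc_7_5 lc_c_rc_7_3 lc_c_rc_12_12 lc_c_rc_13_2 lc_c_rc_11_1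 lc_c_rc_14_2 lc_c_rc_22_3 lc_c_rc_14_2 lc_c_rc_13_2 lc_c_rc_26_10 lc_c_rc_13_2 lc_c_rc_14_2 lc_c_rc_7_3 lc_c_rc_11_1 lc_c_rc_13_2 lc_c_Cert_tree lc_c_Cert_tree) (@D3.rec (fun _ => (Cert rels S Gen.c)) lc_c_rc_14_2 lc_c_rc_7_3 lc_c_rc_11_1 lc_c_rc_7_5 lc_c_rc_22_5 lc_c_rc_13_2 lc_c_Cert_tree lc_c_rc_11_1 lc_c_rc_2_3 lc_c_Cert_tree lc_c_rc_13_2 lc_c_rc_13_2 lc_c_rc_13_2 lc_c_rc_13_2 lc_c_Cert_tree lc_c_rc_14_2 lc_c_rc_11_1 lc_c_rc_13_2 lc_c_rc_11_1 lc_c_rc_22_9 lc_c_rc_13_2 lc_c_Cert_tree lc_c_Cert_tree lc_c_rc_14_2 lc_c_Cert_tree lc_c_Cert_tree lc_c_rc_2_3 lc_c_rc_13_2 lc_c_Cert_tree lc_c_rc_14_2 lc_c_rc_14_0 lc_c_rc_26_4 lc_c_rc_11_1 lc_c_Cert_tree lc_c_rc_13_2 lc_c_Cert_tree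 lc_c_rc_11_1 lc_c_Cert_tree lc_c_rc_13_2 lc_c_rc_13_2 lc_c_Cert_tree lc_c_Cert_tree lc_c_Cert_tree lc_c_rc_14_2 lc_c_rc_11_1 lc_c_rc_24_2 lc_c_rc_11_1 lc_c_rc_14_2 lc_c_Cert_tree lc_c_rc_26_2 lc_c_rc_26_2 lc_c_rc_26_4 lc_c_rc_11_1 lc_c_rc_13_2 lc_c_rc_23_0 lc_c_rc_13_2 lc_c_Cert_tree lc_c_rc_13_2 lc_c_rc_11_1 lc_c_rc_11_1 lc_c_rc_26_8 lc_c_rc_11_1) (@D3.rec (fun _ => (Cert rels S Gen.c)) lc_c_rc_13_2 lc_c_Cert_tree lc_c_rc_13_2 lc_c_rc_11_1 lc_c_rc_13_2 lc_c_Cert_tree lc_c_Cert_tree lc_c_rc_11_1 lc_c_rc_13_2 lc_c_Cert_tree lc_c_rc_14_2 lc_c_rc_11_1 lc_c_rc_11_1 lc_c_Cert_tree lc_c_rc_13_2 lc_c_rc_7_1 lc_c_Cert_tree lc_c_rc_13_2 lc_c_Cert_tree lc_c_rc_13_2 lc_c_Cert_tree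 lc_c_rc_11_1 lc_c_rc_13_2 lc_c_Cert_tree lc_c_rc_11_1 lc_c_Cert_tree lc_c_rc_23_0 lc_c_rc_13_2 lc_c_Cert_tree lc_c_rc_14_2 lc_c_rc_11_1 lc_c_rc_13_2 lc_c_rc_7_5 lc_c_rc_11_1 lc_c_Cert_tree lc_c_rc_11_1 lc_c_rc_13_2 lc_c_rc_24_8 lc_c_rc_24_8 lc_c_rc_14_2 lc_c_rc_14_2 lc_c_rc_7_3 lc_c_rc_13_2 lc_c_rc_11_1 lc_c_rc_13_2 lc_c_rc_11_1 lc_c_rc_13_2 lc_c_rc_2_3 lc_c_rc_23_5 lc_c_rc_26_2 lc_c_rc_24_6 lc_c_rc_11_1 lc_c_rc_13_2 lc_c_rc_11_1 lc_c_rc_13_2 lc_c_rc_13_2 lc_c_Cert_tree lc_c_rc_22_7 lc_c_rc_14_2 lc_c_rc_26_4 lc_c_rc_11_1 lc_c_rc_13_2) (@D3.rec (fun _ => (Cert rels S Gen.c)) lc_c_Cert_tree lc_c_rc_11_1 lc_c_rc_13_2 lc_c_rc_11_1 lc_c_rc_11_1 lc_c_rc_24_6 lc_c_rc_13_2 lc_c_Cert_tree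 lc_c_Cert_tree lc_c_rc_2_3 lc_c_rc_14_2 lc_c_rc_13_0 lc_c_rc_11_1 lc_c_rc_25_5 lc_c_rc_14_0 lc_c_rc_11_1 lc_c_rc_14_2 lc_c_rc_23_0 lc_c_rc_11_1 lc_c_rc_22_3 lc_c_Cert_tree lc_c_rc_11_1 lc_c_rc_13_2 lc_c_Cert_tree lc_c_rc_14_2 lc_c_Cert_tree lc_c_rc_11_1 lc_c_Cert_tree lc_c_rc_13_2 lc_c_Cert_tree lc_c_rc_11_1 lc_c_Cert_tree lc_c_rc_13_2 lc_c_Cert_tree lc_c_Cert_tree lc_c_rc_11_1 lc_c_rc_14_2 lc_c_Cert_tree lc_c_rc_2_3 lc_c_Cert_tree lc_c_rc_11_1 lc_c_rc_13_2 lc_c_rc_11_1 lc_c_rc_2_3 lc_c_Cert_tree lc_c_rc_11_1 lc_c_rc_13_2 lc_c_Cert_tree lc_c_rc_11_1 lc_c_rc_13_2 lc_c_rc_7_3 lc_c_rc_11_1 lc_c_rc_14_2 lc_c_rc_13_2 lc_c_rc_2_3 lc_c_Cert_tree lc_c_rc_2_3 lc_c_Cert_tree lc_c_rc_11_1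 lc_c_rc_13_2 lc_c_rc_12_0 lc_c_rc_2_3) (@D3.rec (fun _ => (Cert rels S Gen.c)) lc_c_Cert_tree lc_c_rc_11_1 lc_c_rc_13_2 lc_c_rc_22_5 lc_c_Cert_tree lc_c_rc_11_1 lc_c_rc_2_3 lc_c_Cert_tree lc_c_rc_13_2 lc_c_rc_13_2 lc_c_rc_13_0 lc_c_Cert_tree lc_c_rc_14_2 lc_c_rc_11_1 lc_c_Cert_tree lc_c_rc_11_1 lc_c_Cert_tree lc_c_rc_7_1 lc_c_rc_11_1 lc_c_Cert_tree lc_c_rc_13_2 lc_c_rc_24_8 lc_c_rc_24_8 lc_c_rc_11_1 lc_c_rc_22_3 lc_c_rc_13_2 lc_c_rc_14_0 lc_c_rc_11_1 lc_c_rc_11_1 lc_c_Cert_tree lc_c_rc_26_4 lc_c_rc_7_3 lc_c_rc_26_4 lc_c_rc_11_1 lc_c_rc_11_1 lc_c_rc_11_1 lc_c_rc_13_2 lc_c_rc_2_3 lc_c_rc_24_2 lc_c_rc_13_2 lc_c_rc_23_5 lc_c_Cert_tree lc_c_Cert_tree lc_c_rc_2_1 lc_c_rc_11_1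 lc_c_rc_13_2 lc_c_rc_26_8 lc_c_rc_11_1 lc_c_rc_11_1 lc_c_rc_11_1 lc_c_rc_11_1 lc_c_Cert_tree lc_c_rc_11_1 lc_c_rc_11_1 lc_c_Cert_tree lc_c_rc_13_0 lc_c_rc_11_1 lc_c_Cert_tree lc_c_Cert_tree lc_c_rc_11_1 lc_c_rc_14_2 lc_c_Cert_tree) (@D3.rec (fun _ => (Cert rels S Gen.c)) lc_c_rc_11_1 lc_c_Cert_tree lc_c_Cert_tree lc_c_rc_11_1 lc_c_Cert_tree lc_c_rc_13_2 lc_c_Cert_tree lc_c_Cert_tree lc_c_rc_11_1 lc_c_rc_14_2 lc_c_Cert_tree lc_c_rc_13_0 lc_c_Cert_tree lc_c_rc_11_1 lc_c_rc_13_2 lc_c_rc_11_1 lc_c_rc_7_1 lc_c_Cert_tree lc_c_rc_11_1 lc_c_rc_7_3 lc_c_rc_13_2 lc_c_rc_11_1 lc_c_rc_2_3 lc_c_rc_24_4 lc_c_Cert_tree lc_c_rc_13_2 lc_c_rc_11_1 lc_c_rc_26_2 lc_c_rc_13_2 lc_c_rc_23_0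 lc_c_rc_7_5 lc_c_rc_24_2 lc_c_rc_11_1 lc_c_rc_13_2 lc_c_rc_26_4 lc_c_rc_11_1 lc_c_rc_13_2 lc_c_Cert_tree lc_c_rc_11_1 lc_c_rc_13_2 lc_c_rc_24_6 lc_c_rc_23_5 lc_c_rc_23_0 lc_c_rc_13_2 lc_c_Cert_tree lc_c_Cert_tree lc_c_rc_11_1 lc_c_rc_13_2 lc_c_rc_26_10 lc_c_rc_13_2 lc_c_rc_14_2 lc_c_Cert_tree lc_c_rc_11_1 lc_c_rc_13_2 lc_c_rc_13_2 lc_c_rc_13_2 lc_c_rc_14_2 lc_c_Cert_tree lc_c_rc_11_1 lc_c_Cert_tree lc_c_rc_13_2 lc_c_Cert_tree) (@D3.rec (fun _ => (Cert rels S Gen.c)) lc_c_rc_11_1 lc_c_rc_11_1 lc_c_rc_13_2 lc_c_rc_2_3 lc_c_rc_11_1 lc_c_rc_7_1 lc_c_rc_26_4 lc_c_rc_11_1 lc_c_rc_13_2 lc_c_rc_26_8 lc_c_rc_11_1 lc_c_rc_13_2 lc_c_rc_11_1 lc_c_rc_11_1 lc_c_rc_11_1 lc_c_rc_26_10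 lc_c_rc_13_2 lc_c_rc_26_2 lc_c_rc_13_2 lc_c_rc_26_2 lc_c_rc_13_2 lc_c_rc_11_1 lc_c_rc_13_2 lc_c_rc_13_0 lc_c_Cert_tree lc_c_Cert_tree lc_c_rc_11_1 lc_c_rc_13_2 lc_c_rc_11_1 lc_c_rc_13_2 lc_c_rc_26_4 lc_c_rc_11_1 lc_c_rc_13_2 lc_c_Cert_tree lc_c_rc_11_1 lc_c_rc_13_2 lc_c_rc_11_1 lc_c_rc_11_1 lc_c_rc_22_5 lc_c_rc_13_2 lc_c_Cert_tree lc_c_Cert_tree lc_c_rc_14_2 lc_c_Cert_tree lc_c_Cert_tree lc_c_rc_13_2 lc_c_Cert_tree lc_c_Cert_tree lc_c_rc_23_5 lc_c_rc_23_5 lc_c_rc_11_1 lc_c_rc_13_2 lc_c_Cert_tree lc_c_rc_13_2 lc_c_rc_11_1 lc_c_rc_13_2 lc_c_rc_23_0 lc_c_Cert_tree lc_c_rc_11_1 lc_c_rc_11_1 lc_c_rc_13_2 lc_c_Cert_tree) (@D3.rec (fun _ => (Cert rels S Gen.c)) lc_c_rc_11_1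 lc_c_rc_13_2 lc_c_rc_23_0 lc_c_rc_11_1 lc_c_rc_14_0 lc_c_rc_11_1 lc_c_rc_13_2 lc_c_rc_24_4 lc_c_rc_11_1 lc_c_rc_13_2 lc_c_Cert_tree lc_c_rc_23_5 lc_c_rc_23_5 lc_c_rc_11_1 lc_c_rc_13_2 lc_c_Cert_tree lc_c_Cert_tree lc_c_rc_24_2 lc_c_rc_11_1 lc_c_rc_13_2 lc_c_rc_7_1 lc_c_rc_23_0 lc_c_rc_13_2 lc_c_rc_26_4 lc_c_rc_24_8 lc_c_rc_11_1 lc_c_rc_13_2 lc_c_rc_22_3 lc_c_rc_13_2 lc_c_rc_11_1 lc_c_rc_23_5 lc_c_rc_7_3 lc_c_rc_11_1 lc_c_rc_13_2 lc_c_Cert_tree lc_c_rc_24_2 lc_c_rc_23_5 lc_c_rc_11_1 lc_c_rc_11_1 lc_c_rc_23_0 lc_c_rc_26_2 lc_c_rc_7_3 lc_c_rc_22_5 lc_c_rc_13_2 lc_c_Cert_tree lc_c_rc_11_1 lc_c_rc_13_2 lc_c_Cert_tree lc_c_rc_11_1 lc_c_rc_13_2 lc_c_rc_11_1 lc_c_rc_22_7 lc_c_rc_7_3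 lc_c_rc_22_7 lc_c_rc_13_2 lc_c_Cert_tree lc_c_Cert_tree lc_c_rc_14_2 lc_c_Cert_tree lc_c_rc_11_1 lc_c_rc_13_2 lc_c_rc_11_1) (@D3.rec (fun _ => (Cert rels S Gen.c)) lc_c_rc_11_1 lc_c_rc_7_1 lc_c_rc_22_5 lc_c_rc_13_2 lc_c_Cert_tree lc_c_Cert_tree lc_c_Cert_tree lc_c_rc_14_2 lc_c_Cert_tree lc_c_rc_11_1 lc_c_rc_13_2 lc_c_rc_7_1 lc_c_rc_22_5 lc_c_rc_13_2 lc_c_Cert_tree lc_c_Cert_tree lc_c_Cert_tree lc_c_rc_14_2 lc_c_Cert_tree lc_c_rc_22_5 lc_c_rc_13_2 lc_c_rc_22_7 lc_c_rc_24_4 lc_c_rc_13_2 lc_c_Cert_tree lc_c_rc_11_1 lc_c_rc_2_3 lc_c_Cert_tree lc_c_rc_13_2 lc_c_rc_24_4 lc_c_rc_22_5 lc_c_rc_11_1 lc_c_rc_13_2 lc_c_rc_22_3 lc_c_Cert_tree lc_c_Cert_tree lc_c_Cert_tree lc_c_rc_14_2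 lc_c_rc_13_2 lc_c_Cert_tree lc_c_rc_11_1 lc_c_Cert_tree lc_c_Cert_tree lc_c_rc_11_1 lc_c_Cert_tree lc_c_rc_13_2 lc_c_rc_13_2 lc_c_Cert_tree lc_c_Cert_tree lc_c_Cert_tree lc_c_rc_26_8 lc_c_rc_11_1 lc_c_Cert_tree lc_c_rc_26_2 lc_c_rc_11_1 lc_c_Cert_tree lc_c_Cert_tree lc_c_rc_11_1 lc_c_rc_11_1 lc_c_rc_13_2 lc_c_rc_11_1 lc_c_rc_11_1) (@D3.rec (fun _ => (Cert rels S Gen.c)) lc_c_rc_24_6 lc_c_rc_13_2 lc_c_Cert_tree lc_c_Cert_tree lc_c_Cert_tree lc_c_rc_14_2 lc_c_Cert_tree lc_c_Cert_tree lc_c_rc_13_2 lc_c_Cert_tree lc_c_rc_23_5 lc_c_rc_13_2 lc_c_rc_24_2 lc_c_rc_11_1 lc_c_rc_14_2 lc_c_rc_11_1 lc_c_rc_13_2 lc_c_rc_24_4 lc_c_rc_11_1 lc_c_rc_26_4 lc_c_rc_13_2 lc_c_Cert_tree lc_c_Cert_tree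 lc_c_rc_14_2 lc_c_Cert_tree lc_c_Cert_tree lc_c_Cert_tree lc_c_rc_23_5 lc_c_rc_23_0 lc_c_rc_24_2 lc_c_rc_11_1 lc_c_rc_14_2 lc_c_Cert_tree lc_c_rc_11_1 lc_c_rc_13_2 lc_c_rc_11_1 lc_c_rc_13_2 lc_c_rc_13_2 lc_c_Cert_tree lc_c_Cert_tree lc_c_Cert_tree lc_c_rc_14_2 lc_c_Cert_tree lc_c_Cert_tree lc_c_rc_23_5 lc_c_Cert_tree lc_c_Cert_tree lc_c_rc_13_2 lc_c_Cert_tree lc_c_Cert_tree lc_c_rc_11_1 lc_c_rc_14_2 lc_c_Cert_tree lc_c_Cert_tree lc_c_rc_11_1 lc_c_Cert_tree lc_c_rc_13_2 lc_c_rc_24_6 lc_c_rc_26_8 lc_c_Cert_tree lc_c_rc_13_2 lc_c_Cert_tree) (@D3.rec (fun _ => (Cert rels S Gen.c)) lc_c_Cert_tree lc_c_rc_11_1 lc_c_rc_13_2 lc_c_rc_13_0 lc_c_Cert_tree lc_c_Cert_tree lc_c_rc_11_1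 lc_c_Cert_tree lc_c_rc_13_2 lc_c_rc_7_1 lc_c_Cert_tree lc_c_rc_13_2 lc_c_rc_11_1 lc_c_rc_23_5 lc_c_rc_14_0 lc_c_Cert_tree lc_c_Cert_tree lc_c_Cert_tree lc_c_rc_13_2 lc_c_Cert_tree lc_c_Cert_tree lc_c_Cert_tree lc_c_rc_11_1 lc_c_Cert_tree lc_c_rc_11_1 lc_c_Cert_tree lc_c_rc_11_1 lc_c_rc_13_2 lc_c_Cert_tree lc_c_rc_11_1 lc_c_rc_13_2 lc_c_rc_24_2 lc_c_rc_7_3 lc_c_rc_14_2 lc_c_Cert_tree lc_c_Cert_tree lc_c_rc_11_1 lc_c_rc_13_2 lc_c_rc_24_8 lc_c_rc_24_8 lc_c_rc_11_1 lc_c_rc_7_1 lc_c_rc_2_3 lc_c_rc_11_1 lc_c_Cert_tree lc_c_rc_11_1 lc_c_rc_7_5 lc_c_rc_13_2 lc_c_Cert_tree lc_c_rc_13_2 lc_c_rc_11_1 lc_c_rc_13_2 lc_c_Cert_tree lc_c_rc_13_2 lc_c_rc_11_1 lc_c_rc_13_2 lc_c_rc_2_3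 lc_c_Cert_tree lc_c_Cert_tree lc_c_rc_11_1 lc_c_rc_13_2 lc_c_rc_26_4) (@D3.rec (fun _ => (Cert rels S Gen.c)) lc_c_rc_11_1 lc_c_rc_13_2 lc_c_Cert_tree lc_c_rc_11_1 lc_c_rc_13_2 lc_c_rc_24_4 lc_c_rc_24_6 lc_c_rc_7_3 lc_c_rc_22_7 lc_c_rc_13_2 lc_c_rc_14_2 lc_c_Cert_tree lc_c_Cert_tree lc_c_rc_14_2 lc_c_rc_13_2 lc_c_rc_2_1 lc_c_rc_11_1 lc_c_Cert_tree lc_c_Cert_tree lc_c_rc_2_3 lc_c_rc_13_2 lc_c_Cert_tree lc_c_Cert_tree lc_c_rc_14_0 lc_c_rc_23_5 lc_c_Cert_tree lc_c_rc_13_2 lc_c_rc_13_2 lc_c_rc_14_2 lc_c_rc_23_0 lc_c_rc_13_2 lc_c_rc_11_1 lc_c_rc_23_5 lc_c_rc_11_1 lc_c_rc_13_2 lc_c_Cert_tree lc_c_rc_26_2 lc_c_rc_11_1 lc_c_rc_13_2 lc_c_Cert_tree lc_c_rc_11_1 lc_c_rc_13_2 lc_c_rc_11_1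 lc_c_rc_13_2 lc_c_rc_26_8 lc_c_rc_11_1 lc_c_rc_13_2 lc_c_rc_22_9 lc_c_Cert_tree lc_c_rc_13_2 lc_c_Cert_tree lc_c_Cert_tree lc_c_rc_14_2 lc_c_Cert_tree lc_c_rc_23_5 lc_c_rc_13_2 lc_c_Cert_tree lc_c_rc_13_2 lc_c_rc_26_2 lc_c_rc_13_2 lc_c_Cert_tree lc_c_Cert_tree) (@D3.rec (fun _ => (Cert rels S Gen.c)) lc_c_Cert_tree lc_c_rc_14_2 lc_c_rc_26_4 lc_c_rc_11_1 lc_c_Cert_tree lc_c_rc_11_1 lc_c_Cert_tree lc_c_rc_11_1 lc_c_rc_7_3 lc_c_rc_11_1 lc_c_rc_7_5 lc_c_rc_26_2 lc_c_rc_26_10 lc_c_rc_11_1 lc_c_Cert_tree lc_c_Cert_tree lc_c_Cert_tree lc_c_rc_11_1 lc_c_Cert_tree lc_c_rc_11_1 lc_c_rc_26_4 lc_c_rc_13_2 lc_c_Cert_tree lc_c_rc_13_2 lc_c_Cert_tree lc_c_rc_11_1 lc_c_rc_11_1 lc_c_rc_23_0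 lc_c_rc_11_1 lc_c_rc_11_1 lc_c_rc_13_2 lc_c_Cert_tree lc_c_rc_14_2 lc_c_rc_11_1 lc_c_rc_26_4 lc_c_rc_13_2 lc_c_rc_26_10 lc_c_rc_11_1 lc_c_rc_13_2 lc_c_rc_26_10 lc_c_rc_11_1 lc_c_rc_26_10 lc_c_rc_7_5 lc_c_rc_7_3 lc_c_rc_22_5 lc_c_rc_13_2 lc_c_Cert_tree lc_c_rc_7_3 lc_c_rc_2_1 lc_c_rc_13_2 lc_c_Cert_tree lc_c_Cert_tree lc_c_rc_14_2 lc_c_rc_13_2 lc_c_rc_24_6 lc_c_rc_24_6 lc_c_rc_11_1 lc_c_rc_12_10 lc_c_rc_13_2 lc_c_Cert_tree lc_c_rc_14_2 lc_c_rc_26_4) (@D3.rec (fun _ => (Cert rels S Gen.c)) lc_c_rc_11_1 lc_c_rc_13_2 lc_c_rc_7_1 lc_c_rc_11_1 lc_c_rc_13_2 lc_c_Cert_tree lc_c_Cert_tree lc_c_rc_14_2 lc_c_Cert_tree lc_c_rc_24_4 lc_c_rc_13_2 lc_c_rc_7_5 lc_c_rc_24_4 lc_c_rc_13_2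 lc_c_rc_24_4 lc_c_rc_11_1 lc_c_rc_11_1 lc_c_rc_13_2 lc_c_rc_7_1 lc_c_rc_11_1 lc_c_Cert_tree lc_c_rc_14_2 lc_c_rc_26_8 lc_c_rc_11_1 lc_c_Cert_tree lc_c_rc_13_2 lc_c_Cert_tree lc_c_rc_11_1 lc_c_Cert_tree lc_c_rc_13_2 lc_c_rc_11_1 lc_c_rc_7_1 lc_c_rc_11_1 lc_c_Cert_tree lc_c_rc_11_1 lc_c_Cert_tree lc_c_Cert_tree lc_c_rc_11_1 lc_c_Cert_tree lc_c_rc_13_2 lc_c_Cert_tree lc_c_Cert_tree lc_c_rc_11_1 lc_c_rc_13_2 lc_c_rc_7_3 lc_c_rc_11_1 lc_c_rc_13_2 lc_c_Cert_tree lc_c_rc_13_2 lc_c_rc_13_2 lc_c_Cert_tree lc_c_rc_26_4 lc_c_rc_13_2 lc_c_rc_7_1 lc_c_rc_13_2 lc_c_rc_26_8 lc_c_rc_11_1 lc_c_Cert_tree lc_c_rc_26_10 lc_c_rc_23_5 lc_c_rc_13_2 lc_c_Cert_tree) (@D3.rec (fun _ => (Cert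 rels S Gen.c)) lc_c_rc_13_2 lc_c_rc_11_1 lc_c_rc_13_2 lc_c_rc_22_3 lc_c_rc_7_5 lc_c_rc_23_0 lc_c_rc_24_2 lc_c_rc_14_2 lc_c_rc_11_1 lc_c_rc_14_2 lc_c_rc_13_2 lc_c_Cert_tree lc_c_rc_13_2 lc_c_Cert_tree lc_c_rc_11_1 lc_c_rc_7_3 lc_c_rc_22_7 lc_c_rc_13_2 lc_c_Cert_tree lc_c_Cert_tree lc_c_rc_14_2 lc_c_rc_24_2 lc_c_rc_11_1 lc_c_rc_24_2 lc_c_rc_24_6 lc_c_rc_23_0 lc_c_rc_7_1 lc_c_rc_11_1 lc_c_rc_13_2 lc_c_rc_24_2 lc_c_rc_11_1 lc_c_rc_13_2 lc_c_rc_7_1 lc_c_rc_23_5 lc_c_rc_13_2 lc_c_Cert_tree lc_c_rc_14_2 lc_c_Cert_tree lc_c_rc_24_4 lc_c_rc_23_0 lc_c_rc_7_5 lc_c_rc_24_4 lc_c_rc_13_2 lc_c_rc_24_6 lc_c_rc_2_3 lc_c_Cert_tree lc_c_rc_13_2 lc_c_rc_11_1 lc_c_rc_13_2 lc_c_rc_22_3 lc_c_Cert_tree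 lc_c_Cert_tree lc_c_Cert_tree lc_c_rc_14_2 lc_c_rc_13_2 lc_c_Cert_tree lc_c_rc_11_1 lc_c_Cert_tree lc_c_rc_13_2 lc_c_Cert_tree lc_c_rc_11_1 lc_c_Cert_tree) (@D3.rec (fun _ => (Cert rels S Gen.c)) lc_c_rc_13_2 lc_c_rc_13_2 lc_c_Cert_tree lc_c_Cert_tree lc_c_rc_26_4 lc_c_rc_11_1 lc_c_Cert_tree lc_c_rc_11_1 lc_c_rc_13_2 lc_c_Cert_tree lc_c_Cert_tree lc_c_rc_14_2 lc_c_Cert_tree lc_c_rc_23_5 lc_c_Cert_tree lc_c_Cert_tree lc_c_Cert_tree lc_c_rc_11_1 lc_c_Cert_tree lc_c_rc_13_2 lc_c_rc_7_1 lc_c_rc_23_5 lc_c_rc_23_5 lc_c_rc_11_1 lc_c_Cert_tree lc_c_Cert_tree lc_c_rc_11_1 lc_c_Cert_tree lc_c_rc_13_2 lc_c_rc_7_1 lc_c_rc_22_7 lc_c_rc_11_1 lc_c_rc_13_2 lc_c_rc_13_2 lc_c_Cert_tree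 lc_c_Cert_tree lc_c_rc_11_1 lc_c_Cert_tree lc_c_Cert_tree lc_c_rc_11_1 lc_c_rc_24_2 lc_c_rc_13_2 lc_c_rc_26_4 lc_c_rc_13_2 lc_c_rc_2_1 lc_c_Cert_tree lc_c_rc_13_2 lc_c_rc_13_2 lc_c_rc_7_5 lc_c_rc_26_2 lc_c_rc_11_1 lc_c_rc_11_1 lc_c_rc_23_5 lc_c_rc_13_2 lc_c_Cert_tree lc_c_Cert_tree lc_c_rc_14_2 lc_c_Cert_tree lc_c_rc_11_1 lc_c_rc_13_2 lc_c_rc_13_2 lc_c_rc_7_3) (@D3.rec (fun _ => (Cert rels S Gen.c)) lc_c_rc_23_5 lc_c_rc_13_2 lc_c_Cert_tree lc_c_rc_14_2 lc_c_rc_7_3 lc_c_rc_22_7 lc_c_rc_13_2 lc_c_Cert_tree lc_c_Cert_tree lc_c_Cert_tree lc_c_rc_14_2 lc_c_rc_7_1 lc_c_rc_26_4 lc_c_rc_11_1 lc_c_rc_11_1 lc_c_rc_13_2 lc_c_rc_11_1 lc_c_rc_11_1 lc_c_rc_12_8 lc_c_rc_13_2 lc_c_Cert_tree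 lc_c_Cert_tree lc_c_rc_14_2 lc_c_rc_11_1 lc_c_rc_13_2 lc_c_rc_7_1 lc_c_rc_24_2 lc_c_rc_13_2 lc_c_Cert_tree lc_c_rc_11_1 lc_c_rc_13_2 lc_c_rc_7_5 lc_c_rc_24_2 lc_c_rc_13_2 lc_c_rc_12_0 lc_c_rc_23_5 lc_c_rc_11_1 lc_c_rc_13_2 lc_c_Cert_tree lc_c_Cert_tree lc_c_Cert_tree lc_c_rc_14_2 lc_c_Cert_tree lc_c_rc_11_1 lc_c_Cert_tree lc_c_rc_13_2 lc_c_Cert_tree lc_c_rc_11_1 lc_c_Cert_tree lc_c_rc_13_2 lc_c_Cert_tree lc_c_rc_11_1 lc_c_rc_24_4 lc_c_rc_13_0 lc_c_rc_11_1 lc_c_rc_11_1 lc_c_rc_13_2 lc_c_rc_13_0 lc_c_rc_14_2 lc_c_rc_23_0 lc_c_rc_11_1 lc_c_Cert_tree) (@D3.rec (fun _ => (Cert rels S Gen.c)) lc_c_Cert_tree lc_c_rc_11_1 lc_c_Cert_tree lc_c_rc_11_1 lc_c_rc_13_2 lc_c_rc_11_1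 lc_c_rc_11_1 lc_c_rc_7_3 lc_c_Cert_tree lc_c_rc_14_2 lc_c_rc_13_2 lc_c_rc_11_1 lc_c_Cert_tree lc_c_rc_24_4 lc_c_Cert_tree lc_c_Cert_tree lc_c_rc_11_1 lc_c_Cert_tree lc_c_rc_13_2 lc_c_rc_11_1 lc_c_rc_11_1 lc_c_rc_11_1 lc_c_Cert_tree lc_c_rc_11_1 lc_c_Cert_tree lc_c_rc_11_1 lc_c_Cert_tree lc_c_Cert_tree lc_c_rc_2_3 lc_c_rc_14_2 lc_c_Cert_tree lc_c_rc_11_1 lc_c_rc_13_2 lc_c_rc_26_8 lc_c_rc_11_1 lc_c_Cert_tree lc_c_rc_11_1 lc_c_rc_22_3 lc_c_rc_13_2 lc_c_rc_24_8 lc_c_rc_13_2 lc_c_rc_13_2 lc_c_rc_11_1 lc_c_rc_11_1 lc_c_rc_23_0 lc_c_rc_13_2 lc_c_Cert_tree lc_c_rc_14_2 lc_c_rc_23_0 lc_c_rc_24_4 lc_c_rc_13_2 lc_c_rc_26_10 lc_c_rc_11_1 lc_c_rc_13_2 lc_c_rc_11_1 lc_c_rc_7_3 lc_c_rc_23_5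 lc_c_rc_13_2 lc_c_Cert_tree lc_c_rc_14_2 lc_c_rc_11_1 lc_c_rc_7_3) (@D3.rec (fun _ => (Cert rels S Gen.c)) lc_c_rc_13_2 lc_c_Cert_tree lc_c_Cert_tree lc_c_Cert_tree lc_c_rc_14_2 lc_c_rc_11_1 lc_c_rc_13_2 lc_c_rc_11_1 lc_c_rc_11_1 lc_c_rc_11_1 lc_c_rc_12_2 lc_c_rc_13_2 lc_c_rc_13_2 lc_c_rc_11_1 lc_c_rc_24_2 lc_c_rc_13_2 lc_c_Cert_tree lc_c_rc_14_2 lc_c_rc_7_1 lc_c_rc_11_1 lc_c_rc_13_2 lc_c_rc_7_5 lc_c_rc_24_2 lc_c_rc_13_2 lc_c_rc_12_0 lc_c_rc_23_0 lc_c_rc_13_2 lc_c_rc_23_0 lc_c_rc_13_2 lc_c_Cert_tree lc_c_rc_14_2 lc_c_Cert_tree lc_c_rc_11_1 lc_c_rc_26_4 lc_c_rc_11_1 lc_c_Cert_tree lc_c_rc_13_2 lc_c_Cert_tree lc_c_Cert_tree lc_c_rc_11_1 lc_c_rc_14_2 lc_c_rc_26_10 lc_c_Cert_tree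 lc_c_rc_11_1 lc_c_rc_23_5 lc_c_rc_23_0 lc_c_rc_7_3 lc_c_Cert_tree lc_c_rc_14_2 lc_c_rc_13_2 lc_c_Cert_tree lc_c_Cert_tree lc_c_rc_11_1 lc_c_rc_11_1 lc_c_rc_13_2 lc_c_rc_23_5 lc_c_Cert_tree lc_c_rc_7_3 lc_c_rc_26_4 lc_c_rc_11_1 lc_c_rc_23_0 lc_c_rc_13_2) (@D3.rec (fun _ => (Cert rels S Gen.c)) lc_c_rc_13_2 lc_c_rc_26_2 lc_c_rc_11_1 lc_c_rc_24_2 lc_c_rc_13_2 lc_c_rc_7_3 lc_c_rc_11_1 lc_c_rc_13_2 lc_c_Cert_tree lc_c_Cert_tree lc_c_rc_14_2 lc_c_rc_26_4 lc_c_rc_13_2 lc_c_rc_7_3 lc_c_rc_13_2 lc_c_rc_11_1 lc_c_rc_13_2 lc_c_rc_13_2 lc_c_rc_11_1 lc_c_Cert_tree lc_c_rc_14_2 lc_c_Cert_tree lc_c_rc_11_1 lc_c_Cert_tree lc_c_rc_13_2 lc_c_rc_26_4 lc_c_rc_11_1 lc_c_Cert_tree lc_c_rc_13_2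 lc_c_Cert_tree lc_c_Cert_tree lc_c_rc_11_1 lc_c_rc_13_2 lc_c_rc_23_5 lc_c_rc_13_2 lc_c_rc_13_2 lc_c_rc_7_3 lc_c_rc_13_2 lc_c_rc_26_4 lc_c_rc_13_2 lc_c_rc_7_5 lc_c_rc_13_2 lc_c_rc_13_2 lc_c_rc_11_1 lc_c_rc_13_2 lc_c_Cert_tree lc_c_rc_11_1 lc_c_rc_11_1 lc_c_rc_13_2 lc_c_rc_13_2 lc_c_rc_11_1 lc_c_rc_13_2 lc_c_rc_11_1 lc_c_rc_11_1 lc_c_rc_13_2 lc_c_Cert_tree lc_c_Cert_tree lc_c_Cert_tree lc_c_rc_13_2 lc_c_rc_13_0 lc_c_rc_11_1 lc_c_Cert_tree) (@D3.rec (fun _ => (Cert rels S Gen.c)) lc_c_rc_11_1 lc_c_rc_11_1 lc_c_rc_24_8 lc_c_rc_13_2 lc_c_Cert_tree lc_c_Cert_tree lc_c_rc_14_2 lc_c_rc_11_1 lc_c_rc_24_2 lc_c_rc_11_1 lc_c_rc_13_2 lc_c_rc_13_2 lc_c_rc_7_3 lc_c_rc_24_8 lc_c_rc_13_2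 lc_c_rc_7_3 lc_c_rc_11_1 lc_c_rc_13_2 lc_c_Cert_tree lc_c_Cert_tree lc_c_rc_14_2 lc_c_rc_11_1 lc_c_rc_11_1 lc_c_rc_23_5 lc_c_rc_13_2 lc_c_rc_11_1 lc_c_rc_13_2 lc_c_rc_7_1 lc_c_rc_23_5 lc_c_rc_13_2 lc_c_Cert_tree lc_c_rc_14_2 lc_c_rc_26_4 lc_c_rc_23_5 lc_c_rc_13_2 lc_c_rc_7_5 lc_c_rc_23_0 lc_c_rc_13_2 lc_c_rc_12_8 lc_c_rc_7_5 lc_c_rc_11_1 lc_c_rc_13_2 lc_c_rc_23_0 lc_c_rc_11_1 lc_c_Cert_tree lc_c_rc_14_2 lc_c_rc_26_8 lc_c_rc_11_1 lc_c_Cert_tree lc_c_rc_13_2 lc_c_Cert_tree lc_c_rc_11_1 lc_c_Cert_tree lc_c_rc_13_2 lc_c_rc_11_1 lc_c_Cert_tree lc_c_rc_13_2 lc_c_rc_11_1 lc_c_rc_13_2 lc_c_rc_26_2 lc_c_rc_11_1 lc_c_rc_13_2) (@D3.rec (fun _ => (Cert rels S Gen.c)) lc_c_rc_24_8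 lc_c_rc_26_2 lc_c_rc_11_1 lc_c_rc_13_2 lc_c_rc_11_1 lc_c_rc_11_1 lc_c_rc_11_1 lc_c_Cert_tree lc_c_rc_13_2 lc_c_rc_13_2 lc_c_rc_11_1 lc_c_rc_13_2 lc_c_rc_2_3 lc_c_Cert_tree lc_c_rc_11_1 lc_c_rc_2_3 lc_c_rc_7_5 lc_c_Cert_tree lc_c_rc_7_3 lc_c_rc_23_0 lc_c_rc_13_2 lc_c_Cert_tree lc_c_Cert_tree lc_c_rc_14_2 lc_c_rc_11_1 lc_c_Cert_tree lc_c_rc_11_1 lc_c_rc_11_1 lc_c_rc_2_3 lc_c_rc_11_1 lc_c_rc_13_2 lc_c_rc_26_4 lc_c_rc_11_1 lc_c_rc_13_2 lc_c_rc_26_8 lc_c_rc_13_2 lc_c_rc_11_1 lc_c_rc_13_2 lc_c_Cert_tree lc_c_rc_11_1 lc_c_rc_13_2 lc_c_rc_11_1 lc_c_rc_11_1 lc_c_rc_13_2 lc_c_rc_11_1 lc_c_rc_11_1 lc_c_rc_11_1 lc_c_rc_22_5 lc_c_rc_13_2 lc_c_rc_24_8 lc_c_rc_11_1 lc_c_rc_11_1 lc_c_rc_7_3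 lc_c_rc_23_0 lc_c_rc_13_2 lc_c_Cert_tree lc_c_Cert_tree lc_c_rc_14_2 lc_c_rc_13_2 lc_c_rc_11_1 lc_c_rc_12_2 lc_c_rc_13_2) (@D3.rec (fun _ => (Cert rels S Gen.c)) lc_c_rc_7_3 lc_c_rc_23_5 lc_c_rc_13_2 lc_c_rc_7_5 lc_c_rc_23_0 lc_c_rc_13_2 lc_c_rc_11_1 lc_c_rc_24_2 lc_c_rc_11_1 lc_c_rc_13_2 lc_c_Cert_tree lc_c_rc_13_2 lc_c_Cert_tree lc_c_rc_26_4 lc_c_rc_11_1 lc_c_rc_13_2 lc_c_rc_13_2 lc_c_rc_11_1 lc_c_rc_13_2 lc_c_rc_13_2 lc_c_rc_7_3 lc_c_rc_13_2 lc_c_Cert_tree lc_c_Cert_tree lc_c_rc_14_2 lc_c_rc_11_1 lc_c_rc_13_2 lc_c_rc_13_2 lc_c_rc_13_2 lc_c_rc_11_1 lc_c_rc_11_1 lc_c_rc_13_2 lc_c_rc_13_2 lc_c_rc_7_3 lc_c_Cert_tree lc_c_rc_13_2 lc_c_rc_26_10 lc_c_rc_26_4 lc_c_rc_14_2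 lc_c_rc_11_1 lc_c_rc_13_2 lc_c_Cert_tree lc_c_rc_11_1 lc_c_rc_13_2 lc_c_rc_23_0 lc_c_rc_11_1 lc_c_rc_13_2 lc_c_rc_26_8 lc_c_rc_13_2 lc_c_rc_11_1 lc_c_rc_13_2 lc_c_rc_11_1 lc_c_rc_13_2 lc_c_rc_7_3 lc_c_rc_13_2 lc_c_Cert_tree lc_c_rc_14_2 lc_c_rc_11_1 lc_c_rc_11_1 lc_c_rc_13_2 lc_c_rc_7_5 lc_c_rc_24_4) (@D3.rec (fun _ => (Cert rels S Gen.c)) lc_c_rc_13_2 lc_c_rc_14_2 lc_c_rc_2_3 lc_c_rc_13_2 lc_c_rc_24_6 lc_c_rc_24_4 lc_c_rc_13_2 lc_c_rc_11_1 lc_c_rc_24_6 lc_c_Cert_tree lc_c_rc_14_2 lc_c_rc_11_1 lc_c_Cert_tree lc_c_rc_13_2 lc_c_rc_13_2 lc_c_rc_7_3 lc_c_rc_22_5 lc_c_rc_13_2 lc_c_Cert_tree lc_c_rc_13_2 lc_c_rc_11_1 lc_c_rc_7_3 lc_c_rc_13_2 lc_c_rc_26_2 lc_c_rc_25_9 lc_c_rc_11_1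 lc_c_rc_2_3 lc_c_Cert_tree lc_c_rc_13_2 lc_c_rc_13_2 lc_c_rc_24_4 lc_c_rc_13_2 lc_c_rc_22_5 lc_c_rc_11_1 lc_c_rc_13_2 lc_c_rc_13_2 lc_c_rc_24_8 lc_c_rc_11_1 lc_c_rc_11_1 lc_c_rc_13_2 lc_c_Cert_tree lc_c_rc_13_2 lc_c_rc_11_1 lc_c_rc_7_5 lc_c_rc_13_2 lc_c_rc_7_5 lc_c_rc_24_4 lc_c_rc_13_2 lc_c_rc_11_1 lc_c_rc_24_4 lc_c_rc_13_2 lc_c_Cert_tree lc_c_Cert_tree lc_c_rc_2_3 lc_c_Cert_tree lc_c_rc_13_2 lc_c_rc_13_2 lc_c_rc_11_1 lc_c_Cert_tree lc_c_Cert_tree lc_c_rc_14_2 lc_c_rc_26_8) (@D3.rec (fun _ => (Cert rels S Gen.c)) lc_c_rc_11_1 lc_c_Cert_tree lc_c_rc_26_4 lc_c_rc_11_1 lc_c_rc_13_2 lc_c_rc_13_2 lc_c_rc_7_1 lc_c_rc_7_3 lc_c_rc_13_2 lc_c_rc_7_5 lc_c_rc_26_10 lc_c_rc_26_10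 lc_c_rc_7_5 lc_c_rc_13_2 lc_c_rc_7_5 lc_c_rc_13_2 lc_c_rc_11_1 lc_c_rc_11_1 lc_c_rc_7_5 lc_c_rc_13_2 lc_c_rc_23_5 lc_c_rc_24_6 lc_c_rc_13_2 lc_c_rc_7_1 lc_c_rc_11_1 lc_c_Cert_tree lc_c_rc_14_2 lc_c_rc_11_1 lc_c_Cert_tree lc_c_rc_13_2 lc_c_rc_11_1 lc_c_Cert_tree lc_c_rc_13_2 lc_c_rc_13_2 lc_c_rc_7_1 lc_c_rc_22_5 lc_c_rc_13_2 lc_c_rc_23_0 lc_c_rc_13_2 lc_c_Cert_tree lc_c_rc_26_8 lc_c_rc_26_2 lc_c_rc_7_5 lc_c_rc_2_3 lc_c_Cert_tree lc_c_rc_13_2 lc_c_rc_13_2 lc_c_Cert_tree lc_c_rc_11_1 lc_c_Cert_tree lc_c_rc_14_2 lc_c_rc_11_1 lc_c_rc_13_2 lc_c_Cert_tree lc_c_Cert_tree lc_c_rc_11_1 lc_c_rc_14_2 lc_c_Cert_tree lc_c_Cert_tree lc_c_rc_26_2 lc_c_rc_11_1 lc_c_Cert_tree) (@D3.rec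 (fun _ => (Cert rels S Gen.c)) lc_c_rc_13_2 lc_c_rc_13_2 lc_c_rc_2_3 lc_c_rc_13_2 lc_c_Cert_tree lc_c_rc_14_2 lc_c_rc_24_6 lc_c_rc_23_0 lc_c_Cert_tree lc_c_rc_11_1 lc_c_rc_11_1 lc_c_rc_13_2 lc_c_rc_13_2 lc_c_rc_13_2 lc_c_Cert_tree lc_c_rc_14_2 lc_c_rc_11_1 lc_c_rc_7_3 lc_c_rc_13_2 lc_c_rc_12_14 lc_c_rc_13_2 lc_c_rc_11_1 lc_c_rc_11_1 lc_c_rc_13_2 lc_c_rc_11_1 lc_c_rc_22_5 lc_c_Cert_tree lc_c_rc_14_2 lc_c_Cert_tree lc_c_rc_13_2 lc_c_rc_26_8 lc_c_rc_13_2 lc_c_rc_7_3 lc_c_rc_13_2 lc_c_Cert_tree lc_c_Cert_tree lc_c_Cert_tree lc_c_rc_14_2 lc_c_rc_13_2 lc_c_Cert_tree lc_c_rc_11_1 lc_c_Cert_tree lc_c_rc_13_2 lc_c_Cert_tree lc_c_rc_11_1 lc_c_Cert_tree lc_c_rc_11_1 lc_c_Cert_tree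 lc_c_Cert_tree lc_c_rc_11_1 lc_c_rc_14_2 lc_c_rc_13_2 lc_c_rc_11_1 lc_c_rc_24_4 lc_c_Cert_tree lc_c_rc_26_2 lc_c_rc_7_5 lc_c_rc_11_1 lc_c_Cert_tree lc_c_rc_13_2 lc_c_rc_12_2 lc_c_rc_7_1) (@D3.rec (fun _ => (Cert rels S Gen.c)) lc_c_Cert_tree lc_c_rc_13_2 lc_c_Cert_tree lc_c_Cert_tree lc_c_rc_11_1 lc_c_rc_13_2 lc_c_rc_26_2 lc_c_rc_26_2 lc_c_rc_11_1 lc_c_Cert_tree lc_c_rc_13_2 lc_c_rc_7_1 lc_c_Cert_tree lc_c_rc_13_2 lc_c_rc_11_1 lc_c_rc_14_0 lc_c_Cert_tree lc_c_rc_26_4 lc_c_rc_11_1 lc_c_rc_13_2 lc_c_rc_26_8 lc_c_rc_11_1 lc_c_Cert_tree lc_c_rc_11_1 lc_c_rc_11_1 lc_c_Cert_tree lc_c_Cert_tree lc_c_rc_26_2 lc_c_rc_11_1 lc_c_rc_13_2 lc_c_rc_11_1 lc_c_rc_11_1 lc_c_rc_7_3 lc_c_Cert_tree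 lc_c_rc_7_3 lc_c_rc_22_5 lc_c_rc_13_2 lc_c_Cert_tree lc_c_Cert_tree lc_c_rc_14_2 lc_c_rc_7_3 lc_c_rc_13_2 lc_c_rc_7_5 lc_c_rc_13_2 lc_c_rc_11_1 lc_c_rc_13_2 lc_c_rc_7_1 lc_c_rc_11_1 lc_c_Cert_tree lc_c_rc_14_2 lc_c_rc_26_8 lc_c_rc_11_1 lc_c_Cert_tree lc_c_rc_13_2 lc_c_Cert_tree lc_c_rc_11_1 lc_c_Cert_tree lc_c_rc_13_2 lc_c_rc_11_1 lc_c_Cert_tree lc_c_rc_7_3 lc_c_rc_22_3) (@D3.rec (fun _ => (Cert rels S Gen.c)) lc_c_rc_13_2 lc_c_Cert_tree lc_c_Cert_tree lc_c_Cert_tree lc_c_rc_14_2 lc_c_rc_7_5 lc_c_rc_13_2 lc_c_rc_7_5 lc_c_rc_13_2 lc_c_rc_11_1 lc_c_rc_13_2 lc_c_rc_11_1 lc_c_rc_11_1 lc_c_Cert_tree lc_c_rc_14_2 lc_c_rc_26_4 lc_c_rc_11_1 lc_c_rc_26_8 lc_c_rc_11_1 lc_c_rc_13_2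 lc_c_Cert_tree lc_c_Cert_tree lc_c_rc_11_1 lc_c_rc_14_2 lc_c_rc_11_1 lc_c_Cert_tree lc_c_rc_23_0 lc_c_Cert_tree lc_c_rc_13_2 lc_c_rc_13_2 lc_c_rc_11_1 lc_c_Cert_tree lc_c_rc_13_2 lc_c_Cert_tree lc_c_Cert_tree lc_c_rc_14_2 lc_c_rc_26_4 lc_c_rc_11_1 lc_c_rc_13_2 lc_c_rc_26_8 lc_c_rc_11_1 lc_c_Cert_tree lc_c_rc_11_1 lc_c_rc_14_2 lc_c_rc_11_1 lc_c_rc_11_1 lc_c_Cert_tree lc_c_rc_11_1 lc_c_rc_11_1 lc_c_Cert_tree lc_c_rc_13_2 lc_c_Cert_tree lc_c_rc_7_1 lc_c_Cert_tree lc_c_rc_13_2 lc_c_Cert_tree lc_c_rc_11_1 lc_c_Cert_tree lc_c_Cert_tree lc_c_rc_11_1 lc_c_rc_11_1 lc_c_rc_13_2) (@D3.rec (fun _ => (Cert rels S Gen.c)) lc_c_rc_24_4 lc_c_rc_7_1 lc_c_Cert_tree lc_c_rc_13_2 lc_c_Cert_tree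 lc_c_Cert_tree lc_c_rc_11_1 lc_c_rc_13_2 lc_c_Cert_tree lc_c_rc_2_3 lc_c_Cert_tree lc_c_rc_14_2 lc_c_rc_7_3 lc_c_Cert_tree lc_c_rc_23_5 lc_c_Cert_tree lc_c_rc_13_2 lc_c_rc_24_8 lc_c_rc_24_8 lc_c_rc_11_1 lc_c_rc_14_2 lc_c_rc_7_3 lc_c_Cert_tree lc_c_rc_13_2 lc_c_rc_11_1 lc_c_rc_13_2 lc_c_rc_14_2 lc_c_rc_11_1 lc_c_rc_13_2 lc_c_rc_11_1 lc_c_rc_11_1 lc_c_rc_7_3 lc_c_Cert_tree lc_c_rc_14_2 lc_c_rc_14_0 lc_c_rc_11_1 lc_c_rc_13_2 lc_c_rc_7_3 lc_c_rc_11_1 lc_c_rc_7_3 lc_c_rc_24_4 lc_c_rc_13_2 lc_c_rc_14_0 lc_c_rc_24_2 lc_c_rc_2_3 lc_c_Cert_tree lc_c_rc_13_2 lc_c_rc_13_2 lc_c_Cert_tree lc_c_Cert_tree lc_c_rc_11_1 lc_c_rc_13_2 lc_c_Cert_tree lc_c_rc_11_1 lc_c_rc_26_4 lc_c_rc_11_1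 lc_c_Cert_tree lc_c_rc_13_2 lc_c_rc_26_8 lc_c_Cert_tree lc_c_rc_13_2 lc_c_Cert_tree) (@D3.rec (fun _ => (Cert rels S Gen.c)) lc_c_Cert_tree lc_c_rc_11_1 lc_c_rc_14_2 lc_c_Cert_tree lc_c_rc_13_2 lc_c_rc_13_2 lc_c_rc_7_3 lc_c_rc_11_1 lc_c_rc_13_2 lc_c_rc_7_3 lc_c_rc_13_2 lc_c_rc_11_1 lc_c_rc_7_3 lc_c_rc_13_2 lc_c_Cert_tree lc_c_Cert_tree lc_c_rc_2_3 lc_c_Cert_tree lc_c_rc_14_2 lc_c_rc_11_1 lc_c_rc_13_2 lc_c_rc_22_5 lc_c_rc_26_8 lc_c_rc_11_1 lc_c_Cert_tree lc_c_rc_13_2 lc_c_Cert_tree lc_c_rc_11_1 lc_c_Cert_tree lc_c_rc_13_2 lc_c_Cert_tree lc_c_Cert_tree lc_c_Cert_tree lc_c_rc_11_1 lc_c_rc_13_2 lc_c_rc_23_0 lc_c_rc_26_10 lc_c_rc_14_2 lc_c_Cert_tree lc_c_rc_24_8 lc_c_rc_26_4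 lc_c_rc_11_1 lc_c_rc_13_2 lc_c_rc_14_2 lc_c_rc_11_1 lc_c_rc_13_2 lc_c_rc_7_3 lc_c_Cert_tree lc_c_rc_14_2 lc_c_rc_2_3 lc_c_rc_14_2 lc_c_rc_2_3 lc_c_Cert_tree lc_c_rc_13_2 lc_c_rc_24_8 lc_c_rc_24_8 lc_c_rc_11_1 lc_c_rc_14_2 lc_c_rc_11_1 lc_c_rc_13_2 lc_c_rc_7_3 lc_c_Cert_tree) (@D3.rec (fun _ => (Cert rels S Gen.c)) lc_c_rc_14_2 lc_c_rc_13_2 lc_c_rc_7_3 lc_c_rc_13_2 lc_c_rc_11_1 lc_c_rc_14_2 lc_c_rc_26_2 lc_c_rc_14_2 lc_c_Cert_tree lc_c_Cert_tree lc_c_rc_2_3 lc_c_rc_24_2 lc_c_rc_14_2 lc_c_rc_11_1 lc_c_rc_13_2 lc_c_rc_13_2 lc_c_rc_26_2 lc_c_Cert_tree lc_c_rc_26_10 lc_c_Cert_tree lc_c_rc_14_2 lc_c_Cert_tree lc_c_Cert_tree lc_c_rc_11_1 lc_c_rc_22_3 lc_c_rc_11_1 lc_c_rc_23_0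 lc_c_rc_14_2 lc_c_rc_14_2 lc_c_Cert_tree lc_c_rc_13_2 lc_c_Cert_tree lc_c_Cert_tree lc_c_rc_11_1 lc_c_rc_13_2 lc_c_Cert_tree lc_c_rc_13_2 lc_c_rc_11_1 lc_c_rc_26_2 lc_c_rc_11_1 lc_c_rc_11_1 lc_c_rc_13_2 lc_c_rc_11_1 lc_c_rc_11_1 lc_c_rc_7_3 lc_c_Cert_tree lc_c_rc_14_2 lc_c_rc_7_1 lc_c_Cert_tree lc_c_Cert_tree lc_c_rc_13_2 lc_c_Cert_tree lc_c_Cert_tree lc_c_rc_11_1 lc_c_rc_14_2 lc_c_Cert_tree lc_c_rc_13_2 lc_c_Cert_tree lc_c_Cert_tree lc_c_rc_11_1 lc_c_rc_11_1 lc_c_Cert_tree) (@D3.rec (fun _ => (Cert rels S Gen.c)) lc_c_rc_13_2 lc_c_rc_11_1 lc_c_rc_26_4 lc_c_rc_11_1 lc_c_rc_11_1 lc_c_rc_13_2 lc_c_rc_13_0 lc_c_rc_13_2 lc_c_rc_7_3 lc_c_Cert_tree lc_c_rc_14_2 lc_c_rc_13_2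 lc_c_rc_24_8 lc_c_rc_24_8 lc_c_rc_11_1 lc_c_rc_14_2 lc_c_rc_26_10 lc_c_Cert_tree lc_c_rc_14_2 lc_c_rc_24_8 lc_c_rc_24_8 lc_c_rc_11_1 lc_c_rc_14_2 lc_c_rc_11_1 lc_c_Cert_tree lc_c_rc_13_2 lc_c_Cert_tree lc_c_rc_11_1 lc_c_rc_14_2 lc_c_Cert_tree lc_c_rc_13_2 lc_c_rc_26_8 lc_c_Cert_tree lc_c_rc_13_2 lc_c_Cert_tree lc_c_Cert_tree lc_c_rc_11_1 lc_c_rc_14_2 lc_c_Cert_tree lc_c_rc_13_2 lc_c_Cert_tree lc_c_Cert_tree lc_c_rc_11_1 lc_c_rc_13_2 lc_c_rc_23_0 lc_c_Cert_tree lc_c_rc_14_2 lc_c_rc_11_1 lc_c_rc_11_1 lc_c_Cert_tree lc_c_rc_7_5 lc_c_rc_11_1 lc_c_rc_13_2 lc_c_rc_24_6 lc_c_Cert_tree lc_c_rc_14_2 lc_c_Cert_tree lc_c_rc_11_1 lc_c_rc_13_2 lc_c_Cert_tree lc_c_rc_11_1 lc_c_rc_13_2)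 (@D3.rec (fun _ => (Cert rels S Gen.c)) lc_c_rc_24_4 lc_c_rc_24_6 lc_c_rc_7_3 lc_c_rc_22_7 lc_c_rc_14_2 lc_c_rc_13_2 lc_c_Cert_tree lc_c_Cert_tree lc_c_rc_11_1 lc_c_rc_13_2 lc_c_rc_23_0 lc_c_Cert_tree lc_c_rc_14_2 lc_c_rc_11_1 lc_c_rc_11_1 lc_c_rc_13_2 lc_c_rc_26_2 lc_c_rc_11_1 lc_c_Cert_tree lc_c_rc_7_3 lc_c_rc_11_1 lc_c_rc_13_2 lc_c_rc_24_6 lc_c_Cert_tree lc_c_rc_14_2 lc_c_rc_7_3 lc_c_rc_24_8 lc_c_rc_11_1 lc_c_rc_23_0 lc_c_rc_11_1 lc_c_rc_24_8 lc_c_rc_11_1 lc_c_rc_23_5 lc_c_rc_7_3 lc_c_Cert_tree lc_c_rc_14_2 lc_c_rc_13_2 lc_c_rc_13_2 lc_c_Cert_tree lc_c_Cert_tree lc_c_rc_23_0 lc_c_rc_26_8 lc_c_Cert_tree lc_c_rc_14_2 lc_c_rc_26_4 lc_c_rc_11_1 lc_c_Cert_tree lc_c_rc_13_2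 lc_c_rc_26_8 lc_c_Cert_tree lc_c_rc_13_2 lc_c_Cert_tree lc_c_Cert_tree lc_c_rc_11_1 lc_c_rc_14_2 lc_c_rc_26_2 lc_c_rc_13_2 lc_c_rc_22_5 lc_c_rc_7_1 lc_c_rc_11_1 lc_c_rc_14_2 lc_c_rc_13_2)
def ce_c_2 : D2 → D3 → (Cert rels S Gen.c) := @D2.rec (fun _ => D3 → (Cert rels S Gen.c)) (@D3.rec (fun _ => (Cert rels S Gen.c)) lc_c_rc_11_1 lc_c_rc_11_1 lc_c_rc_22_5 lc_c_rc_7_3 lc_c_rc_24_2 lc_c_rc_13_2 lc_c_rc_11_1 lc_c_rc_12_8 lc_c_rc_11_1 lc_c_rc_23_5 lc_c_rc_7_3 lc_c_rc_23_5 lc_c_rc_13_2 lc_c_Cert_tree lc_c_Cert_tree lc_c_rc_2_3 lc_c_Cert_tree lc_c_rc_14_2 lc_c_rc_11_1 lc_c_rc_13_2 lc_c_rc_22_5 lc_c_rc_13_2 lc_c_rc_13_2 lc_c_Cert_tree lc_c_Cert_tree lc_c_rc_11_1 lc_c_rc_11_1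 lc_c_Cert_tree lc_c_rc_14_2 lc_c_rc_26_2 lc_c_rc_11_1 lc_c_Cert_tree lc_c_rc_13_2 lc_c_rc_26_8 lc_c_rc_11_1 lc_c_Cert_tree lc_c_rc_13_2 lc_c_Cert_tree lc_c_Cert_tree lc_c_rc_11_1 lc_c_rc_14_2 lc_c_Cert_tree lc_c_rc_23_0 lc_c_rc_11_1 lc_c_rc_13_2 lc_c_Cert_tree lc_c_rc_13_2 lc_c_rc_11_1 lc_c_rc_13_2 lc_c_Cert_tree lc_c_rc_13_2 lc_c_rc_7_3 lc_c_rc_11_1 lc_c_rc_14_2 lc_c_rc_13_2 lc_c_rc_13_0 lc_c_rc_13_2 lc_c_rc_7_3 lc_c_Cert_tree lc_c_Cert_tree lc_c_rc_2_3 lc_c_Cert_tree) (@D3.rec (fun _ => (Cert rels S Gen.c)) lc_c_rc_14_2 lc_c_rc_24_8 lc_c_rc_11_1 lc_c_rc_13_2 lc_c_rc_22_5 lc_c_rc_13_2 lc_c_rc_11_1 lc_c_rc_26_10 lc_c_Cert_tree lc_c_rc_14_2 lc_c_Cert_tree lc_c_rc_13_2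 lc_c_Cert_tree lc_c_rc_11_1 lc_c_rc_14_2 lc_c_rc_26_10 lc_c_Cert_tree lc_c_rc_14_2 lc_c_rc_26_10 lc_c_Cert_tree lc_c_rc_14_2 lc_c_Cert_tree lc_c_rc_23_5 lc_c_Cert_tree lc_c_rc_11_1 lc_c_rc_14_2 lc_c_rc_26_4 lc_c_rc_11_1 lc_c_Cert_tree lc_c_rc_13_2 lc_c_Cert_tree lc_c_rc_13_2 lc_c_Cert_tree lc_c_Cert_tree lc_c_rc_11_1 lc_c_rc_14_2 lc_c_Cert_tree lc_c_rc_13_2 lc_c_rc_11_1 lc_c_Cert_tree lc_c_rc_13_2 lc_c_Cert_tree lc_c_Cert_tree lc_c_rc_11_1 lc_c_rc_13_2 lc_c_rc_23_0 lc_c_Cert_tree lc_c_rc_14_2 lc_c_rc_11_1 lc_c_rc_22_3 lc_c_rc_11_1 lc_c_Cert_tree lc_c_rc_13_2 lc_c_rc_26_10 lc_c_Cert_tree lc_c_rc_13_2 lc_c_rc_11_1 lc_c_rc_13_2 lc_c_Cert_tree lc_c_rc_14_2 lc_c_Cert_tree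 lc_c_rc_11_1) (@D3.rec (fun _ => (Cert rels S Gen.c)) lc_c_Cert_tree lc_c_rc_13_2 lc_c_Cert_tree lc_c_rc_11_1 lc_c_Cert_tree lc_c_rc_13_2 lc_c_Cert_tree lc_c_rc_11_1 lc_c_rc_7_3 lc_c_Cert_tree lc_c_rc_14_2 lc_c_rc_13_2 lc_c_Cert_tree lc_c_Cert_tree lc_c_rc_14_2 lc_c_rc_11_1 lc_c_Cert_tree lc_c_rc_13_2 lc_c_Cert_tree lc_c_Cert_tree lc_c_rc_11_1 lc_c_rc_13_2 lc_c_rc_22_9 lc_c_rc_13_0 lc_c_rc_14_2 lc_c_rc_11_1 lc_c_rc_13_2 lc_c_rc_23_0 lc_c_rc_7_3 lc_c_rc_13_2 lc_c_rc_11_1 lc_c_rc_2_3 lc_c_rc_14_2 lc_c_rc_11_1 lc_c_Cert_tree lc_c_Cert_tree lc_c_rc_2_3 lc_c_Cert_tree lc_c_rc_11_1 lc_c_rc_13_2 lc_c_Cert_tree lc_c_rc_14_2 lc_c_rc_7_3 lc_c_rc_13_2 lc_c_Cert_tree lc_c_Cert_tree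 lc_c_rc_22_3 lc_c_rc_11_1 lc_c_Cert_tree lc_c_rc_11_1 lc_c_rc_13_2 lc_c_rc_7_1 lc_c_rc_13_2 lc_c_rc_22_7 lc_c_rc_22_3 lc_c_Cert_tree lc_c_rc_14_2 lc_c_Cert_tree lc_c_rc_11_1 lc_c_rc_13_2 lc_c_rc_7_1 lc_c_rc_13_2) (@D3.rec (fun _ => (Cert rels S Gen.c)) lc_c_rc_26_2 lc_c_rc_23_5 lc_c_rc_14_2 lc_c_Cert_tree lc_c_rc_13_2 lc_c_Cert_tree lc_c_Cert_tree lc_c_rc_2_3 lc_c_Cert_tree lc_c_rc_14_2 lc_c_rc_13_2 lc_c_rc_13_2 lc_c_Cert_tree lc_c_rc_11_1 lc_c_rc_7_3 lc_c_rc_13_2 lc_c_rc_11_1 lc_c_rc_11_1 lc_c_rc_26_4 lc_c_rc_11_1 lc_c_Cert_tree lc_c_Cert_tree lc_c_rc_13_2 lc_c_Cert_tree lc_c_Cert_tree lc_c_rc_11_1 lc_c_rc_13_2 lc_c_Cert_tree lc_c_rc_23_0 lc_c_rc_14_2 lc_c_Cert_tree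 lc_c_rc_11_1 lc_c_rc_13_2 lc_c_Cert_tree lc_c_rc_11_1 lc_c_rc_13_2 lc_c_rc_7_3 lc_c_rc_13_2 lc_c_Cert_tree lc_c_Cert_tree lc_c_rc_24_2 lc_c_rc_7_5 lc_c_Cert_tree lc_c_rc_24_4 lc_c_rc_26_8 lc_c_Cert_tree lc_c_Cert_tree lc_c_rc_2_3 lc_c_Cert_tree lc_c_Cert_tree lc_c_rc_11_1 lc_c_rc_13_2 lc_c_Cert_tree lc_c_rc_7_5 lc_c_rc_14_2 lc_c_rc_7_3 lc_c_rc_13_2 lc_c_Cert_tree lc_c_rc_14_2 lc_c_rc_23_5 lc_c_rc_11_1 lc_c_rc_7_5) (@D3.rec (fun _ => (Cert rels S Gen.c)) lc_c_rc_13_2 lc_c_Cert_tree lc_c_rc_11_1 lc_c_rc_11_1 lc_c_rc_23_5 lc_c_rc_7_3 lc_c_Cert_tree lc_c_rc_14_2 lc_c_rc_13_2 lc_c_rc_23_0 lc_c_Cert_tree lc_c_rc_26_10 lc_c_rc_13_2 lc_c_rc_13_2 lc_c_Cert_tree lc_c_rc_14_2 lc_c_rc_11_1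 lc_c_Cert_tree lc_c_rc_14_2 lc_c_Cert_tree lc_c_rc_14_2 lc_c_rc_11_1 lc_c_Cert_tree lc_c_rc_13_2 lc_c_rc_22_9 lc_c_rc_11_1 lc_c_Cert_tree lc_c_rc_13_2 lc_c_Cert_tree lc_c_Cert_tree lc_c_rc_11_1 lc_c_rc_14_2 lc_c_Cert_tree lc_c_Cert_tree lc_c_rc_11_1 lc_c_rc_14_2 lc_c_rc_11_1 lc_c_rc_13_2 lc_c_Cert_tree lc_c_rc_14_2 lc_c_Cert_tree lc_c_rc_11_1 lc_c_rc_13_2 lc_c_rc_11_1 lc_c_rc_13_2 lc_c_rc_7_3 lc_c_rc_11_1 lc_c_rc_14_2 lc_c_rc_13_2 lc_c_rc_7_3 lc_c_Cert_tree lc_c_rc_13_2 lc_c_Cert_tree lc_c_rc_11_1 lc_c_rc_14_2 lc_c_rc_13_2 lc_c_Cert_tree lc_c_rc_26_8 lc_c_Cert_tree lc_c_rc_23_5 lc_c_Cert_tree lc_c_rc_11_1) (@D3.rec (fun _ => (Cert rels S Gen.c)) lc_c_rc_14_2 lc_c_rc_23_0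 lc_c_Cert_tree lc_c_rc_23_5 lc_c_Cert_tree lc_c_rc_13_2 lc_c_Cert_tree lc_c_Cert_tree lc_c_rc_11_1 lc_c_rc_14_2 lc_c_Cert_tree lc_c_Cert_tree lc_c_rc_11_1 lc_c_rc_13_2 lc_c_rc_23_0 lc_c_Cert_tree lc_c_rc_14_2 lc_c_rc_11_1 lc_c_Cert_tree lc_c_rc_13_2 lc_c_Cert_tree lc_c_rc_13_2 lc_c_rc_11_1 lc_c_rc_13_2 lc_c_rc_24_4 lc_c_rc_2_3 lc_c_rc_11_1 lc_c_rc_13_2 lc_c_Cert_tree lc_c_rc_11_1 lc_c_rc_13_2 lc_c_Cert_tree lc_c_Cert_tree lc_c_rc_7_3 lc_c_Cert_tree lc_c_rc_14_2 lc_c_rc_13_2 lc_c_rc_11_1 lc_c_Cert_tree lc_c_Cert_tree lc_c_rc_2_3 lc_c_Cert_tree lc_c_Cert_tree lc_c_rc_11_1 lc_c_rc_13_2 lc_c_rc_11_1 lc_c_Cert_tree lc_c_rc_14_2 lc_c_Cert_tree lc_c_rc_11_1 lc_c_rc_7_3 lc_c_rc_11_1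 lc_c_rc_13_2 lc_c_rc_7_3 lc_c_rc_13_2 lc_c_rc_2_3 lc_c_rc_14_2 lc_c_rc_25_17 lc_c_Cert_tree lc_c_Cert_tree lc_c_rc_2_3 lc_c_Cert_tree) (@D3.rec (fun _ => (Cert rels S Gen.c)) lc_c_Cert_tree lc_c_rc_11_1 lc_c_rc_13_2 lc_c_rc_2_3 lc_c_rc_7_5 lc_c_rc_14_2 lc_c_rc_7_3 lc_c_rc_13_2 lc_c_Cert_tree lc_c_rc_14_2 lc_c_Cert_tree lc_c_rc_11_1 lc_c_rc_13_2 lc_c_rc_7_1 lc_c_rc_13_2 lc_c_rc_13_2 lc_c_Cert_tree lc_c_rc_14_2 lc_c_Cert_tree lc_c_rc_11_1 lc_c_rc_13_2 lc_c_rc_7_1 lc_c_rc_13_2 lc_c_rc_23_0 lc_c_rc_7_3 lc_c_rc_14_2 lc_c_Cert_tree lc_c_rc_13_2 lc_c_Cert_tree lc_c_rc_13_2 lc_c_Cert_tree lc_c_Cert_tree lc_c_rc_2_3 lc_c_Cert_tree lc_c_rc_26_4 lc_c_rc_11_1 lc_c_Cert_tree lc_c_Cert_tree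 lc_c_rc_2_3 lc_c_Cert_tree lc_c_Cert_tree lc_c_rc_11_1 lc_c_rc_13_2 lc_c_Cert_tree lc_c_Cert_tree lc_c_rc_14_2 lc_c_Cert_tree lc_c_rc_13_2 lc_c_rc_7_3 lc_c_rc_13_2 lc_c_rc_26_2 lc_c_rc_24_8 lc_c_rc_7_5 lc_c_rc_7_5 lc_c_rc_11_1 lc_c_rc_7_1 lc_c_Cert_tree lc_c_rc_2_3 lc_c_rc_23_0 lc_c_rc_24_6 lc_c_rc_23_0 lc_c_rc_11_1) (@D3.rec (fun _ => (Cert rels S Gen.c)) lc_c_rc_13_2 lc_c_rc_24_4 lc_c_Cert_tree lc_c_rc_14_2 lc_c_rc_11_1 lc_c_rc_11_1 lc_c_Cert_tree lc_c_Cert_tree lc_c_rc_7_1 lc_c_Cert_tree lc_c_Cert_tree lc_c_rc_11_1 lc_c_rc_13_2 lc_c_Cert_tree lc_c_Cert_tree lc_c_Cert_tree lc_c_rc_14_2 lc_c_rc_7_3 lc_c_rc_13_2 lc_c_rc_2_1 lc_c_rc_13_2 lc_c_rc_22_3 lc_c_Cert_tree lc_c_Cert_tree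 lc_c_rc_2_1 lc_c_rc_7_3 lc_c_Cert_tree lc_c_Cert_tree lc_c_rc_11_1 lc_c_rc_14_2 lc_c_Cert_tree lc_c_rc_11_1 lc_c_rc_11_1 lc_c_rc_11_1 lc_c_rc_7_3 lc_c_Cert_tree lc_c_rc_14_2 lc_c_Cert_tree lc_c_rc_14_2 lc_c_Cert_tree lc_c_rc_23_5 lc_c_rc_11_1 lc_c_rc_14_2 lc_c_Cert_tree lc_c_rc_13_2 lc_c_rc_11_1 lc_c_rc_11_1 lc_c_rc_23_0 lc_c_rc_2_1 lc_c_Cert_tree lc_c_rc_14_2 lc_c_Cert_tree lc_c_rc_24_2 lc_c_rc_24_2 lc_c_rc_11_1 lc_c_rc_14_2 lc_c_Cert_tree lc_c_rc_14_2 lc_c_Cert_tree lc_c_rc_24_2 lc_c_rc_11_1 lc_c_rc_14_2) (@D3.rec (fun _ => (Cert rels S Gen.c)) lc_c_Cert_tree lc_c_rc_14_2 lc_c_Cert_tree lc_c_Cert_tree lc_c_rc_11_1 lc_c_Cert_tree lc_c_rc_13_2 lc_c_Cert_tree lc_c_rc_11_1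 lc_c_rc_14_2 lc_c_Cert_tree lc_c_rc_13_2 lc_c_Cert_tree lc_c_rc_11_1 lc_c_rc_14_2 lc_c_Cert_tree lc_c_rc_11_1 lc_c_rc_13_2 lc_c_rc_23_0 lc_c_rc_14_2 lc_c_Cert_tree lc_c_rc_13_2 lc_c_rc_11_1 lc_c_rc_13_2 lc_c_rc_11_1 lc_c_rc_13_2 lc_c_Cert_tree lc_c_rc_11_1 lc_c_rc_13_2 lc_c_rc_11_1 lc_c_rc_11_1 lc_c_rc_7_3 lc_c_rc_11_1 lc_c_rc_14_2 lc_c_rc_13_2 lc_c_Cert_tree lc_c_rc_13_2 lc_c_rc_11_1 lc_c_rc_13_2 lc_c_rc_14_2 lc_c_rc_11_1 lc_c_rc_11_1 lc_c_rc_7_3 lc_c_rc_11_1 lc_c_rc_13_2 lc_c_Cert_tree lc_c_Cert_tree lc_c_rc_13_2 lc_c_rc_11_1 lc_c_rc_13_2 lc_c_rc_7_3 lc_c_rc_11_1 lc_c_rc_7_3 lc_c_rc_23_5 lc_c_rc_13_2 lc_c_Cert_tree lc_c_Cert_tree lc_c_rc_14_2 lc_c_rc_7_3 lc_c_rc_23_5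 lc_c_rc_13_2 lc_c_Cert_tree) (@D3.rec (fun _ => (Cert rels S Gen.c)) lc_c_rc_26_2 lc_c_rc_23_5 lc_c_rc_13_2 lc_c_rc_7_3 lc_c_rc_23_5 lc_c_rc_13_2 lc_c_Cert_tree lc_c_Cert_tree lc_c_rc_2_3 lc_c_Cert_tree lc_c_rc_14_2 lc_c_rc_11_1 lc_c_rc_24_2 lc_c_rc_11_1 lc_c_rc_13_2 lc_c_rc_22_5 lc_c_rc_13_2 lc_c_rc_7_5 lc_c_rc_22_5 lc_c_rc_13_2 lc_c_rc_14_2 lc_c_rc_24_4 lc_c_rc_22_9 lc_c_rc_11_1 lc_c_rc_2_3 lc_c_Cert_tree lc_c_rc_13_2 lc_c_rc_13_2 lc_c_rc_11_1 lc_c_rc_13_2 lc_c_rc_22_9 lc_c_rc_14_2 lc_c_Cert_tree lc_c_rc_23_5 lc_c_Cert_tree lc_c_rc_11_1 lc_c_rc_2_3 lc_c_Cert_tree lc_c_rc_13_2 lc_c_rc_13_2 lc_c_rc_11_1 lc_c_Cert_tree lc_c_rc_14_2 lc_c_rc_11_1 lc_c_rc_22_9 lc_c_rc_11_1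 lc_c_rc_2_3 lc_c_Cert_tree lc_c_rc_13_2 lc_c_Cert_tree lc_c_rc_11_1 lc_c_rc_2_3 lc_c_Cert_tree lc_c_rc_13_2 lc_c_rc_13_2 lc_c_rc_11_1 lc_c_rc_13_2 lc_c_Cert_tree lc_c_rc_14_2 lc_c_rc_11_1 lc_c_rc_11_1 lc_c_rc_13_2) (@D3.rec (fun _ => (Cert rels S Gen.c)) lc_c_Cert_tree lc_c_rc_14_2 lc_c_Cert_tree lc_c_Cert_tree lc_c_rc_2_3 lc_c_Cert_tree lc_c_rc_13_2 lc_c_rc_13_2 lc_c_Cert_tree lc_c_rc_14_2 lc_c_rc_14_2 lc_c_rc_2_1 lc_c_rc_2_3 lc_c_rc_11_1 lc_c_Cert_tree lc_c_rc_13_2 lc_c_rc_14_2 lc_c_rc_7_3 lc_c_rc_11_1 lc_c_Cert_tree lc_c_rc_13_2 lc_c_Cert_tree lc_c_Cert_tree lc_c_Cert_tree lc_c_rc_11_1 lc_c_rc_13_2 lc_c_rc_14_2 lc_c_rc_13_2 lc_c_Cert_tree lc_c_rc_13_2 lc_c_rc_7_3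 lc_c_rc_13_2 lc_c_Cert_tree lc_c_Cert_tree lc_c_rc_14_2 lc_c_rc_13_2 lc_c_rc_11_1 lc_c_rc_24_6 lc_c_Cert_tree lc_c_rc_11_1 lc_c_Cert_tree lc_c_rc_11_1 lc_c_Cert_tree lc_c_rc_24_2 lc_c_rc_11_1 lc_c_rc_11_1 lc_c_Cert_tree lc_c_rc_14_2 lc_c_Cert_tree lc_c_rc_13_2 lc_c_Cert_tree lc_c_rc_11_1 lc_c_rc_14_2 lc_c_Cert_tree lc_c_rc_23_5 lc_c_Cert_tree lc_c_rc_11_1 lc_c_rc_14_2 lc_c_Cert_tree lc_c_rc_24_2 lc_c_Cert_tree lc_c_rc_11_1) (@D3.rec (fun _ => (Cert rels S Gen.c)) lc_c_rc_14_2 lc_c_Cert_tree lc_c_rc_13_2 lc_c_Cert_tree lc_c_Cert_tree lc_c_rc_11_1 lc_c_rc_13_2 lc_c_rc_23_0 lc_c_Cert_tree lc_c_rc_26_10 lc_c_rc_11_1 lc_c_rc_13_2 lc_c_rc_14_2 lc_c_Cert_tree lc_c_rc_11_1 lc_c_rc_13_2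 lc_c_rc_11_1 lc_c_rc_13_2 lc_c_Cert_tree lc_c_Cert_tree lc_c_rc_7_3 lc_c_Cert_tree lc_c_rc_14_2 lc_c_rc_13_2 lc_c_Cert_tree lc_c_Cert_tree lc_c_rc_11_1 lc_c_rc_13_2 lc_c_rc_13_0 lc_c_rc_23_0 lc_c_rc_14_2 lc_c_rc_11_1 lc_c_rc_13_2 lc_c_rc_7_3 lc_c_rc_11_1 lc_c_rc_14_2 lc_c_rc_2_3 lc_c_rc_22_5 lc_c_rc_11_1 lc_c_Cert_tree lc_c_Cert_tree lc_c_rc_11_1 lc_c_rc_13_2 lc_c_rc_7_3 lc_c_rc_12_4 lc_c_rc_13_2 lc_c_Cert_tree lc_c_rc_23_0 lc_c_rc_11_1 lc_c_rc_13_2 lc_c_rc_7_1 lc_c_rc_23_5 lc_c_rc_13_2 lc_c_rc_23_5 lc_c_Cert_tree lc_c_Cert_tree lc_c_rc_14_2 lc_c_rc_11_1 lc_c_rc_11_1 lc_c_rc_13_2 lc_c_rc_7_1 lc_c_rc_23_5) (@D3.rec (fun _ => (Cert rels S Gen.c)) lc_c_rc_13_2 lc_c_Cert_tree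 lc_c_Cert_tree lc_c_rc_22_3 lc_c_rc_7_3 lc_c_rc_23_5 lc_c_rc_13_2 lc_c_Cert_tree lc_c_rc_23_5 lc_c_rc_13_2 lc_c_Cert_tree lc_c_Cert_tree lc_c_rc_2_3 lc_c_Cert_tree lc_c_rc_14_2 lc_c_rc_24_2 lc_c_rc_24_2 lc_c_rc_13_2 lc_c_rc_13_2 lc_c_Cert_tree lc_c_Cert_tree lc_c_Cert_tree lc_c_rc_13_2 lc_c_rc_7_3 lc_c_rc_13_2 lc_c_rc_26_2 lc_c_rc_26_4 lc_c_rc_13_2 lc_c_rc_7_3 lc_c_rc_7_3 lc_c_rc_7_3 lc_c_Cert_tree lc_c_rc_13_2 lc_c_rc_13_0 lc_c_rc_24_2 lc_c_rc_11_1 lc_c_rc_11_1 lc_c_Cert_tree lc_c_Cert_tree lc_c_Cert_tree lc_c_rc_11_1 lc_c_rc_13_2 lc_c_rc_24_6 lc_c_rc_7_3 lc_c_rc_7_3 lc_c_rc_13_2 lc_c_rc_13_2 lc_c_rc_26_10 lc_c_rc_14_2 lc_c_rc_23_5 lc_c_Cert_tree lc_c_rc_2_3 lc_c_rc_13_0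 lc_c_rc_7_5 lc_c_rc_7_3 lc_c_rc_11_1 lc_c_Cert_tree lc_c_rc_13_2 lc_c_rc_11_1 lc_c_rc_11_1 lc_c_rc_26_10 lc_c_rc_7_3) (@D3.rec (fun _ => (Cert rels S Gen.c)) lc_c_rc_2_3 lc_c_Cert_tree lc_c_rc_7_3 lc_c_rc_13_2 lc_c_rc_22_7 lc_c_rc_14_2 lc_c_rc_11_1 lc_c_Cert_tree lc_c_Cert_tree lc_c_rc_2_3 lc_c_Cert_tree lc_c_rc_13_2 lc_c_rc_26_2 lc_c_Cert_tree lc_c_rc_14_2 lc_c_Cert_tree lc_c_Cert_tree lc_c_Cert_tree lc_c_rc_11_1 lc_c_Cert_tree lc_c_rc_13_2 lc_c_rc_13_2 lc_c_Cert_tree lc_c_rc_14_2 lc_c_rc_14_2 lc_c_Cert_tree lc_c_rc_11_1 lc_c_Cert_tree lc_c_rc_14_2 lc_c_rc_11_1 lc_c_Cert_tree lc_c_rc_13_2 lc_c_Cert_tree lc_c_Cert_tree lc_c_Cert_tree lc_c_rc_11_1 lc_c_rc_13_2 lc_c_rc_14_2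 lc_c_rc_13_2 lc_c_Cert_tree lc_c_rc_13_2 lc_c_Cert_tree lc_c_rc_11_1 lc_c_rc_7_3 lc_c_rc_13_2 lc_c_Cert_tree lc_c_Cert_tree lc_c_rc_14_2 lc_c_rc_13_2 lc_c_rc_22_3 lc_c_rc_13_2 lc_c_Cert_tree lc_c_rc_7_3 lc_c_rc_11_1 lc_c_rc_11_1 lc_c_rc_13_2 lc_c_Cert_tree lc_c_rc_11_1 lc_c_rc_14_2 lc_c_rc_24_2 lc_c_rc_23_0 lc_c_rc_11_1) (@D3.rec (fun _ => (Cert rels S Gen.c)) lc_c_rc_13_2 lc_c_rc_22_9 lc_c_rc_11_1 lc_c_rc_13_2 lc_c_rc_26_2 lc_c_rc_13_2 lc_c_rc_11_1 lc_c_rc_26_4 lc_c_rc_11_1 lc_c_rc_13_2 lc_c_rc_7_5 lc_c_Cert_tree lc_c_rc_7_3 lc_c_rc_22_7 lc_c_rc_11_1 lc_c_rc_13_2 lc_c_Cert_tree lc_c_rc_14_2 lc_c_rc_11_1 lc_c_rc_24_8 lc_c_rc_26_2 lc_c_rc_11_1 lc_c_rc_26_4 lc_c_rc_26_8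 lc_c_rc_11_1 lc_c_rc_13_2 lc_c_rc_14_2 lc_c_rc_26_4 lc_c_rc_26_8 lc_c_rc_13_2 lc_c_Cert_tree lc_c_rc_13_2 lc_c_rc_11_1 lc_c_rc_13_2 lc_c_rc_26_10 lc_c_Cert_tree lc_c_rc_14_2 lc_c_rc_26_2 lc_c_rc_14_2 lc_c_rc_7_5 lc_c_rc_22_3 lc_c_rc_7_3 lc_c_rc_22_9 lc_c_rc_26_4 lc_c_rc_24_2 lc_c_rc_7_3 lc_c_rc_13_0 lc_c_rc_7_3 lc_c_rc_14_2 lc_c_rc_11_1 lc_c_Cert_tree lc_c_rc_11_1 lc_c_Cert_tree lc_c_Cert_tree lc_c_rc_2_3 lc_c_rc_11_1 lc_c_rc_13_2 lc_c_Cert_tree lc_c_Cert_tree lc_c_Cert_tree lc_c_rc_14_2 lc_c_rc_13_2) (@D3.rec (fun _ => (Cert rels S Gen.c)) lc_c_rc_13_2 lc_c_rc_12_14 lc_c_rc_24_6 lc_c_rc_11_1 lc_c_rc_22_7 lc_c_rc_11_1 lc_c_Cert_tree lc_c_rc_26_8 lc_c_rc_11_1 lc_c_Cert_tree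 lc_c_rc_13_2 lc_c_rc_11_1 lc_c_Cert_tree lc_c_rc_13_2 lc_c_rc_11_1 lc_c_rc_11_1 lc_c_Cert_tree lc_c_rc_13_2 lc_c_rc_11_1 lc_c_rc_13_2 lc_c_Cert_tree lc_c_Cert_tree lc_c_Cert_tree lc_c_rc_14_2 lc_c_rc_24_6 lc_c_rc_13_2 lc_c_rc_23_5 lc_c_rc_23_5 lc_c_rc_23_5 lc_c_rc_24_8 lc_c_rc_13_2 lc_c_rc_11_1 lc_c_Cert_tree lc_c_rc_14_2 lc_c_rc_14_2 lc_c_rc_11_1 lc_c_Cert_tree lc_c_rc_13_2 lc_c_rc_26_4 lc_c_rc_11_1 lc_c_rc_24_6 lc_c_rc_7_1 lc_c_Cert_tree lc_c_rc_13_2 lc_c_rc_14_2 lc_c_Cert_tree lc_c_rc_11_1 lc_c_rc_13_2 lc_c_rc_14_2 lc_c_rc_26_10 lc_c_Cert_tree lc_c_rc_14_2 lc_c_rc_13_2 lc_c_rc_26_2 lc_c_Cert_tree lc_c_rc_24_4 lc_c_Cert_tree lc_c_rc_13_2 lc_c_rc_11_1 lc_c_rc_13_2 lc_c_rc_26_4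 lc_c_Cert_tree) (@D3.rec (fun _ => (Cert rels S Gen.c)) lc_c_rc_13_0 lc_c_rc_11_1 lc_c_rc_13_2 lc_c_rc_26_2 lc_c_rc_11_1 lc_c_rc_13_2 lc_c_rc_11_1 lc_c_rc_13_2 lc_c_Cert_tree lc_c_Cert_tree lc_c_Cert_tree lc_c_rc_13_2 lc_c_Cert_tree lc_c_Cert_tree lc_c_rc_14_2 lc_c_Cert_tree lc_c_Cert_tree lc_c_Cert_tree lc_c_rc_11_1 lc_c_rc_13_2 lc_c_rc_11_1 lc_c_rc_13_0 lc_c_rc_7_3 lc_c_rc_14_2 lc_c_Cert_tree lc_c_rc_11_1 lc_c_rc_13_2 lc_c_rc_11_1 lc_c_rc_13_2 lc_c_Cert_tree lc_c_rc_14_2 lc_c_Cert_tree lc_c_rc_13_0 lc_c_rc_13_2 lc_c_rc_7_5 lc_c_Cert_tree lc_c_Cert_tree lc_c_Cert_tree lc_c_Cert_tree lc_c_Cert_tree lc_c_Cert_tree lc_c_rc_11_1 lc_c_rc_26_2 lc_c_Cert_tree lc_c_rc_11_1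 lc_c_Cert_tree lc_c_rc_11_1 lc_c_rc_11_1 lc_c_rc_11_1 lc_c_rc_2_3 lc_c_Cert_tree lc_c_rc_13_2 lc_c_rc_7_3 lc_c_Cert_tree lc_c_Cert_tree lc_c_rc_2_3 lc_c_Cert_tree lc_c_rc_14_2 lc_c_rc_11_1 lc_c_rc_13_2 lc_c_rc_22_5 lc_c_rc_26_4) (@D3.rec (fun _ => (Cert rels S Gen.c)) lc_c_rc_11_1 lc_c_rc_2_3 lc_c_rc_11_1 lc_c_rc_13_2 lc_c_rc_13_2 lc_c_rc_13_2 lc_c_rc_14_2 lc_c_rc_11_1 lc_c_rc_11_1 lc_c_rc_13_2 lc_c_Cert_tree lc_c_rc_13_2 lc_c_rc_26_2 lc_c_rc_13_2 lc_c_Cert_tree lc_c_rc_11_1 lc_c_rc_13_2 lc_c_rc_11_1 lc_c_rc_11_1 lc_c_rc_13_2 lc_c_rc_24_4 lc_c_rc_22_7 lc_c_rc_7_3 lc_c_Cert_tree lc_c_rc_13_2 lc_c_Cert_tree lc_c_Cert_tree lc_c_rc_14_2 lc_c_rc_2_3 lc_c_rc_13_2 lc_c_rc_11_1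 lc_c_rc_13_2 lc_c_Cert_tree lc_c_rc_14_2 lc_c_Cert_tree lc_c_rc_11_1 lc_c_Cert_tree lc_c_rc_13_2 lc_c_Cert_tree lc_c_rc_11_1 lc_c_rc_23_0 lc_c_rc_13_2 lc_c_rc_26_4 lc_c_rc_11_1 lc_c_rc_2_3 lc_c_rc_11_1 lc_c_rc_13_2 lc_c_rc_7_3 lc_c_Cert_tree lc_c_Cert_tree lc_c_rc_14_2 lc_c_rc_11_1 lc_c_rc_24_2 lc_c_rc_11_1 lc_c_rc_14_2 lc_c_rc_11_1 lc_c_rc_7_5 lc_c_rc_13_2 lc_c_rc_13_2 lc_c_rc_13_2 lc_c_rc_11_1 lc_c_rc_24_2) (@D3.rec (fun _ => (Cert rels S Gen.c)) lc_c_Cert_tree lc_c_Cert_tree lc_c_rc_14_2 lc_c_rc_11_1 lc_c_rc_11_1 lc_c_rc_2_1 lc_c_rc_24_4 lc_c_rc_11_1 lc_c_Cert_tree lc_c_rc_13_2 lc_c_Cert_tree lc_c_rc_23_0 lc_c_Cert_tree lc_c_rc_26_8 lc_c_rc_11_1 lc_c_Cert_tree lc_c_rc_11_1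 lc_c_Cert_tree lc_c_rc_11_1 lc_c_rc_14_2 lc_c_Cert_tree lc_c_Cert_tree lc_c_Cert_tree lc_c_Cert_tree lc_c_rc_24_8 lc_c_rc_24_8 lc_c_rc_11_1 lc_c_rc_14_2 lc_c_rc_11_1 lc_c_rc_11_1 lc_c_rc_2_3 lc_c_Cert_tree lc_c_rc_11_1 lc_c_rc_13_2 lc_c_rc_7_3 lc_c_rc_11_1 lc_c_rc_13_2 lc_c_rc_2_1 lc_c_rc_2_3 lc_c_Cert_tree lc_c_rc_11_1 lc_c_rc_13_2 lc_c_rc_26_2 lc_c_rc_11_1 lc_c_rc_11_1 lc_c_rc_2_3 lc_c_Cert_tree lc_c_rc_13_2 lc_c_rc_13_2 lc_c_rc_23_5 lc_c_rc_14_2 lc_c_rc_11_1 lc_c_rc_11_1 lc_c_rc_11_1 lc_c_rc_13_2 lc_c_Cert_tree lc_c_rc_11_1 lc_c_rc_13_2 lc_c_rc_2_1 lc_c_rc_26_10 lc_c_rc_26_2 lc_c_rc_26_2) (@D3.rec (fun _ => (Cert rels S Gen.c)) lc_c_rc_24_8 lc_c_rc_23_0 lc_c_rc_11_1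 lc_c_rc_22_3 lc_c_rc_13_2 lc_c_rc_13_2 lc_c_rc_23_5 lc_c_rc_11_1 lc_c_rc_13_2 lc_c_rc_24_4 lc_c_rc_26_4 lc_c_rc_11_1 lc_c_rc_13_2 lc_c_rc_26_8 lc_c_rc_11_1 lc_c_rc_13_2 lc_c_rc_24_4 lc_c_rc_7_5 lc_c_rc_12_8 lc_c_rc_13_2 lc_c_Cert_tree lc_c_rc_22_7 lc_c_rc_14_2 lc_c_rc_26_2 lc_c_rc_11_1 lc_c_rc_25_5 lc_c_rc_11_1 lc_c_rc_2_3 lc_c_Cert_tree lc_c_Cert_tree lc_c_Cert_tree lc_c_rc_23_0 lc_c_rc_23_0 lc_c_rc_24_8 lc_c_rc_11_1 lc_c_rc_14_2 lc_c_rc_11_1 lc_c_rc_26_2 lc_c_rc_13_2 lc_c_Cert_tree lc_c_Cert_tree lc_c_rc_26_10 lc_c_Cert_tree lc_c_rc_11_1 lc_c_rc_26_2 lc_c_rc_23_5 lc_c_rc_26_2 lc_c_rc_26_4 lc_c_rc_11_1 lc_c_rc_24_6 lc_c_rc_11_1 lc_c_rc_22_3 lc_c_rc_26_8 lc_c_rc_26_2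 lc_c_rc_13_2 lc_c_rc_11_1 lc_c_rc_13_2 lc_c_Cert_tree lc_c_Cert_tree lc_c_rc_11_1 lc_c_rc_13_2 lc_c_rc_11_1) (@D3.rec (fun _ => (Cert rels S Gen.c)) lc_c_rc_13_2 lc_c_rc_11_1 lc_c_rc_13_2 lc_c_Cert_tree lc_c_rc_11_1 lc_c_rc_13_2 lc_c_rc_24_4 lc_c_rc_22_5 lc_c_rc_13_2 lc_c_Cert_tree lc_c_Cert_tree lc_c_Cert_tree lc_c_rc_13_2 lc_c_rc_23_5 lc_c_rc_23_5 lc_c_Cert_tree lc_c_rc_23_5 lc_c_rc_11_1 lc_c_rc_13_2 lc_c_Cert_tree lc_c_rc_22_3 lc_c_rc_11_1 lc_c_rc_13_2 lc_c_Cert_tree lc_c_rc_11_1 lc_c_rc_24_8 lc_c_rc_11_1 lc_c_rc_13_2 lc_c_rc_22_5 lc_c_rc_13_2 lc_c_rc_11_1 lc_c_rc_11_1 lc_c_rc_7_3 lc_c_rc_22_5 lc_c_rc_13_2 lc_c_rc_11_1 lc_c_rc_11_1 lc_c_rc_7_3 lc_c_rc_22_9 lc_c_rc_26_8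 lc_c_rc_11_1 lc_c_rc_13_2 lc_c_rc_11_1 lc_c_rc_13_2 lc_c_rc_24_4 lc_c_rc_24_4 lc_c_rc_7_3 lc_c_rc_22_7 lc_c_rc_13_2 lc_c_Cert_tree lc_c_rc_14_2 lc_c_rc_11_1 lc_c_rc_13_2 lc_c_rc_11_1 lc_c_rc_23_0 lc_c_rc_7_1 lc_c_rc_12_8 lc_c_rc_13_2 lc_c_Cert_tree lc_c_Cert_tree lc_c_Cert_tree lc_c_rc_14_2) (@D3.rec (fun _ => (Cert rels S Gen.c)) lc_c_rc_24_2 lc_c_rc_11_1 lc_c_rc_7_1 lc_c_rc_11_1 lc_c_rc_13_2 lc_c_Cert_tree lc_c_Cert_tree lc_c_rc_14_2 lc_c_Cert_tree lc_c_rc_24_4 lc_c_rc_13_2 lc_c_Cert_tree lc_c_rc_24_4 lc_c_rc_13_2 lc_c_Cert_tree lc_c_rc_11_1 lc_c_rc_2_3 lc_c_Cert_tree lc_c_rc_13_2 lc_c_rc_12_0 lc_c_rc_24_4 lc_c_rc_11_1 lc_c_rc_13_2 lc_c_rc_22_3 lc_c_Cert_tree lc_c_Cert_tree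 lc_c_Cert_tree lc_c_rc_14_2 lc_c_rc_13_2 lc_c_Cert_tree lc_c_rc_11_1 lc_c_rc_13_2 lc_c_rc_11_1 lc_c_rc_13_2 lc_c_rc_13_2 lc_c_Cert_tree lc_c_Cert_tree lc_c_rc_11_1 lc_c_Cert_tree lc_c_rc_26_8 lc_c_rc_11_1 lc_c_Cert_tree lc_c_Cert_tree lc_c_rc_11_1 lc_c_rc_11_1 lc_c_rc_13_2 lc_c_rc_24_4 lc_c_rc_11_1 lc_c_rc_22_7 lc_c_rc_13_2 lc_c_Cert_tree lc_c_Cert_tree lc_c_Cert_tree lc_c_rc_14_2 lc_c_Cert_tree lc_c_Cert_tree lc_c_Cert_tree lc_c_rc_23_5 lc_c_rc_11_1 lc_c_rc_24_2 lc_c_rc_11_1 lc_c_rc_14_2) (@D3.rec (fun _ => (Cert rels S Gen.c)) lc_c_rc_11_1 lc_c_rc_13_2 lc_c_rc_22_9 lc_c_rc_13_2 lc_c_Cert_tree lc_c_Cert_tree lc_c_Cert_tree lc_c_rc_14_2 lc_c_Cert_tree lc_c_Cert_tree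 lc_c_Cert_tree lc_c_rc_23_0 lc_c_rc_24_8 lc_c_rc_11_1 lc_c_rc_14_2 lc_c_rc_26_4 lc_c_rc_11_1 lc_c_rc_13_2 lc_c_Cert_tree lc_c_rc_11_1 lc_c_rc_13_2 lc_c_rc_13_2 lc_c_Cert_tree lc_c_Cert_tree lc_c_Cert_tree lc_c_rc_14_2 lc_c_Cert_tree lc_c_Cert_tree lc_c_rc_13_2 lc_c_Cert_tree lc_c_Cert_tree lc_c_rc_13_2 lc_c_Cert_tree lc_c_Cert_tree lc_c_rc_11_1 lc_c_rc_14_2 lc_c_Cert_tree lc_c_rc_11_1 lc_c_rc_13_0 lc_c_rc_7_1 lc_c_Cert_tree lc_c_rc_11_1 lc_c_Cert_tree lc_c_Cert_tree lc_c_rc_11_1 lc_c_rc_13_2 lc_c_rc_7_1 lc_c_Cert_tree lc_c_rc_13_2 lc_c_Cert_tree lc_c_Cert_tree lc_c_rc_13_2 lc_c_Cert_tree lc_c_Cert_tree lc_c_Cert_tree lc_c_Cert_tree lc_c_rc_11_1 lc_c_rc_11_1 lc_c_rc_13_2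 lc_c_Cert_tree lc_c_rc_11_1 lc_c_rc_13_2) (@D3.rec (fun _ => (Cert rels S Gen.c)) lc_c_rc_7_3 lc_c_rc_13_2 lc_c_rc_26_10 lc_c_rc_11_1 lc_c_Cert_tree lc_c_rc_14_2 lc_c_Cert_tree lc_c_rc_23_5 lc_c_rc_24_8 lc_c_rc_11_1 lc_c_rc_14_2 lc_c_rc_26_4 lc_c_Cert_tree lc_c_rc_13_2 lc_c_Cert_tree lc_c_rc_13_2 lc_c_Cert_tree lc_c_Cert_tree lc_c_rc_11_1 lc_c_rc_14_2 lc_c_Cert_tree lc_c_rc_13_2 lc_c_Cert_tree lc_c_rc_13_2 lc_c_Cert_tree lc_c_rc_11_1 lc_c_rc_13_2 lc_c_Cert_tree lc_c_rc_14_2 lc_c_rc_14_2 lc_c_Cert_tree lc_c_rc_13_2 lc_c_Cert_tree lc_c_rc_13_2 lc_c_rc_11_1 lc_c_rc_13_2 lc_c_rc_7_5 lc_c_rc_26_4 lc_c_rc_11_1 lc_c_rc_13_2 lc_c_Cert_tree lc_c_rc_11_1 lc_c_rc_13_2 lc_c_rc_11_1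 lc_c_rc_11_1 lc_c_rc_7_3 lc_c_Cert_tree lc_c_rc_14_2 lc_c_rc_13_2 lc_c_Cert_tree lc_c_rc_11_1 lc_c_rc_13_2 lc_c_rc_26_4 lc_c_rc_23_0 lc_c_rc_2_3 lc_c_Cert_tree lc_c_rc_11_1 lc_c_rc_13_2 lc_c_rc_24_2 lc_c_rc_23_5 lc_c_rc_22_3 lc_c_Cert_tree) (@D3.rec (fun _ => (Cert rels S Gen.c)) lc_c_Cert_tree lc_c_rc_2_3 lc_c_Cert_tree lc_c_rc_14_2 lc_c_rc_13_2 lc_c_rc_13_2 lc_c_rc_26_4 lc_c_rc_11_1 lc_c_rc_13_2 lc_c_rc_23_0 lc_c_rc_14_2 lc_c_rc_7_3 lc_c_rc_2_3 lc_c_rc_24_4 lc_c_rc_7_3 lc_c_Cert_tree lc_c_rc_2_3 lc_c_rc_26_4 lc_c_rc_13_2 lc_c_Cert_tree lc_c_rc_13_2 lc_c_rc_11_1 lc_c_rc_11_1 lc_c_rc_7_3 lc_c_rc_22_5 lc_c_rc_14_2 lc_c_rc_13_2 lc_c_rc_22_3 lc_c_rc_11_1 lc_c_rc_13_2 lc_c_rc_24_8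 lc_c_rc_23_0 lc_c_rc_13_2 lc_c_Cert_tree lc_c_rc_11_1 lc_c_rc_25_17 lc_c_rc_26_4 lc_c_rc_24_4 lc_c_Cert_tree lc_c_Cert_tree lc_c_rc_2_3 lc_c_rc_26_10 lc_c_Cert_tree lc_c_rc_2_3 lc_c_rc_11_1 lc_c_rc_11_1 lc_c_rc_13_2 lc_c_rc_7_3 lc_c_rc_7_3 lc_c_rc_13_2 lc_c_rc_7_1 lc_c_rc_23_0 lc_c_rc_26_10 lc_c_Cert_tree lc_c_rc_14_2 lc_c_rc_26_2 lc_c_Cert_tree lc_c_rc_14_2 lc_c_Cert_tree lc_c_Cert_tree lc_c_rc_11_1 lc_c_rc_14_2) (@D3.rec (fun _ => (Cert rels S Gen.c)) lc_c_rc_7_3 lc_c_Cert_tree lc_c_rc_14_2 lc_c_Cert_tree lc_c_rc_23_5 lc_c_Cert_tree lc_c_rc_11_1 lc_c_rc_14_2 lc_c_Cert_tree lc_c_rc_13_2 lc_c_Cert_tree lc_c_Cert_tree lc_c_Cert_tree lc_c_rc_11_1 lc_c_rc_14_2 lc_c_Cert_tree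 lc_c_rc_13_2 lc_c_rc_2_1 lc_c_Cert_tree lc_c_rc_13_2 lc_c_Cert_tree lc_c_rc_11_1 lc_c_rc_13_2 lc_c_Cert_tree lc_c_rc_14_2 lc_c_rc_11_1 lc_c_Cert_tree lc_c_rc_13_2 lc_c_Cert_tree lc_c_rc_13_2 lc_c_rc_11_1 lc_c_rc_13_2 lc_c_rc_26_4 lc_c_rc_11_1 lc_c_rc_13_2 lc_c_Cert_tree lc_c_rc_11_1 lc_c_rc_13_2 lc_c_rc_12_2 lc_c_rc_11_1 lc_c_rc_7_3 lc_c_Cert_tree lc_c_rc_14_2 lc_c_rc_13_2 lc_c_rc_13_2 lc_c_rc_24_8 lc_c_rc_23_0 lc_c_Cert_tree lc_c_rc_14_2 lc_c_Cert_tree lc_c_rc_11_1 lc_c_rc_13_2 lc_c_rc_26_2 lc_c_rc_26_10 lc_c_rc_22_3 lc_c_Cert_tree lc_c_Cert_tree lc_c_rc_2_3 lc_c_rc_13_2 lc_c_rc_14_2 lc_c_rc_13_2 lc_c_rc_13_2) (@D3.rec (fun _ => (Cert rels S Gen.c)) lc_c_rc_13_2 lc_c_rc_26_10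 lc_c_rc_11_1 lc_c_rc_11_1 lc_c_rc_7_3 lc_c_rc_13_2 lc_c_Cert_tree lc_c_rc_11_1 lc_c_Cert_tree lc_c_Cert_tree lc_c_rc_2_3 lc_c_rc_13_2 lc_c_rc_26_2 lc_c_rc_24_8 lc_c_rc_11_1 lc_c_rc_13_2 lc_c_rc_11_1 lc_c_rc_7_3 lc_c_Cert_tree lc_c_Cert_tree lc_c_rc_2_3 lc_c_rc_7_5 lc_c_rc_13_0 lc_c_rc_14_2 lc_c_Cert_tree lc_c_rc_13_2 lc_c_rc_14_2 lc_c_rc_14_2 lc_c_rc_24_4 lc_c_rc_14_0 lc_c_rc_11_1 lc_c_Cert_tree lc_c_rc_14_2 lc_c_Cert_tree lc_c_rc_11_1 lc_c_Cert_tree lc_c_rc_13_2 lc_c_Cert_tree lc_c_Cert_tree lc_c_rc_11_1 lc_c_rc_11_1 lc_c_rc_13_2 lc_c_rc_14_2 lc_c_rc_13_2 lc_c_rc_7_3 lc_c_rc_13_2 lc_c_rc_24_8 lc_c_rc_24_8 lc_c_rc_14_2 lc_c_rc_13_2 lc_c_Cert_tree lc_c_rc_13_2 lc_c_rc_24_6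 lc_c_rc_11_1 lc_c_Cert_tree lc_c_rc_14_2 lc_c_rc_11_1 lc_c_Cert_tree lc_c_Cert_tree lc_c_rc_13_2 lc_c_rc_26_4 lc_c_Cert_tree) (@D3.rec (fun _ => (Cert rels S Gen.c)) lc_c_rc_13_2 lc_c_rc_11_1 lc_c_rc_26_4 lc_c_rc_13_2 lc_c_rc_11_1 lc_c_rc_7_3 lc_c_rc_13_0 lc_c_rc_13_2 lc_c_rc_14_2 lc_c_Cert_tree lc_c_rc_11_1 lc_c_rc_13_2 lc_c_rc_14_2 lc_c_rc_2_3 lc_c_Cert_tree lc_c_rc_14_2 lc_c_rc_2_1 lc_c_rc_26_10 lc_c_rc_26_2 lc_c_rc_11_1 lc_c_Cert_tree lc_c_rc_13_2 lc_c_rc_22_5 lc_c_rc_13_2 lc_c_rc_11_1 lc_c_rc_13_2 lc_c_rc_13_2 lc_c_Cert_tree lc_c_rc_26_10 lc_c_Cert_tree lc_c_Cert_tree lc_c_rc_11_1 lc_c_rc_13_2 lc_c_rc_26_2 lc_c_rc_11_1 lc_c_rc_13_2 lc_c_Cert_tree lc_c_rc_11_1 lc_c_rc_13_2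 lc_c_rc_12_2 lc_c_rc_11_1 lc_c_rc_22_7 lc_c_rc_13_2 lc_c_rc_14_2 lc_c_Cert_tree lc_c_Cert_tree lc_c_rc_14_2 lc_c_rc_13_2 lc_c_rc_11_1 lc_c_Cert_tree lc_c_Cert_tree lc_c_rc_13_0 lc_c_rc_13_2 lc_c_rc_7_3 lc_c_Cert_tree lc_c_Cert_tree lc_c_rc_24_8 lc_c_rc_11_1 lc_c_rc_11_1 lc_c_Cert_tree lc_c_rc_11_1 lc_c_rc_11_1) (@D3.rec (fun _ => (Cert rels S Gen.c)) lc_c_Cert_tree lc_c_rc_26_8 lc_c_rc_11_1 lc_c_rc_26_10 lc_c_rc_11_1 lc_c_Cert_tree lc_c_rc_11_1 lc_c_Cert_tree lc_c_Cert_tree lc_c_Cert_tree lc_c_rc_11_1 lc_c_rc_14_2 lc_c_rc_11_1 lc_c_Cert_tree lc_c_rc_11_1 lc_c_Cert_tree lc_c_rc_13_2 lc_c_Cert_tree lc_c_Cert_tree lc_c_rc_11_1 lc_c_rc_13_2 lc_c_Cert_tree lc_c_rc_13_2 lc_c_Cert_tree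 lc_c_rc_13_2 lc_c_rc_11_1 lc_c_rc_13_2 lc_c_Cert_tree lc_c_Cert_tree lc_c_rc_11_1 lc_c_rc_13_2 lc_c_rc_26_4 lc_c_rc_11_1 lc_c_rc_13_2 lc_c_rc_11_1 lc_c_rc_11_1 lc_c_rc_7_3 lc_c_Cert_tree lc_c_rc_14_2 lc_c_rc_13_2 lc_c_Cert_tree lc_c_Cert_tree lc_c_rc_11_1 lc_c_rc_13_2 lc_c_Cert_tree lc_c_rc_11_1 lc_c_rc_13_2 lc_c_rc_11_1 lc_c_rc_13_2 lc_c_rc_24_6 lc_c_rc_23_0 lc_c_rc_7_3 lc_c_rc_24_4 lc_c_rc_13_2 lc_c_Cert_tree lc_c_Cert_tree lc_c_rc_14_2 lc_c_Cert_tree lc_c_Cert_tree lc_c_rc_13_2 lc_c_Cert_tree lc_c_Cert_tree) (@D3.rec (fun _ => (Cert rels S Gen.c)) lc_c_rc_11_1 lc_c_rc_13_2 lc_c_Cert_tree lc_c_rc_7_5 lc_c_Cert_tree lc_c_rc_7_3 lc_c_rc_24_2 lc_c_rc_13_2 lc_c_Cert_tree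 lc_c_Cert_tree lc_c_rc_14_2 lc_c_rc_11_1 lc_c_rc_11_1 lc_c_rc_13_2 lc_c_rc_7_1 lc_c_rc_23_5 lc_c_rc_13_2 lc_c_Cert_tree lc_c_Cert_tree lc_c_rc_14_2 lc_c_Cert_tree lc_c_rc_11_1 lc_c_rc_13_2 lc_c_rc_7_1 lc_c_rc_23_5 lc_c_rc_13_2 lc_c_Cert_tree lc_c_Cert_tree lc_c_rc_14_2 lc_c_Cert_tree lc_c_rc_23_5 lc_c_rc_13_2 lc_c_Cert_tree lc_c_rc_23_5 lc_c_rc_13_2 lc_c_Cert_tree lc_c_Cert_tree lc_c_rc_2_3 lc_c_Cert_tree lc_c_rc_14_2 lc_c_rc_24_6 lc_c_rc_24_8 lc_c_rc_13_2 lc_c_rc_13_2 lc_c_Cert_tree lc_c_Cert_tree lc_c_Cert_tree lc_c_Cert_tree lc_c_rc_11_1 lc_c_rc_13_2 lc_c_rc_11_1 lc_c_rc_26_4 lc_c_rc_11_1 lc_c_rc_13_0 lc_c_rc_23_0 lc_c_rc_7_3 lc_c_Cert_tree lc_c_Cert_tree lc_c_Cert_tree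 lc_c_rc_11_1 lc_c_rc_13_2 lc_c_Cert_tree) (@D3.rec (fun _ => (Cert rels S Gen.c)) lc_c_rc_11_1 lc_c_rc_13_2 lc_c_Cert_tree lc_c_rc_11_1 lc_c_rc_7_3 lc_c_rc_13_2 lc_c_Cert_tree lc_c_Cert_tree lc_c_rc_14_2 lc_c_rc_23_5 lc_c_rc_7_3 lc_c_rc_23_5 lc_c_rc_11_1 lc_c_rc_24_6 lc_c_rc_26_2 lc_c_rc_23_0 lc_c_Cert_tree lc_c_rc_2_3 lc_c_Cert_tree lc_c_rc_13_2 lc_c_Cert_tree lc_c_Cert_tree lc_c_rc_11_1 lc_c_rc_13_2 lc_c_Cert_tree lc_c_rc_7_3 lc_c_rc_13_2 lc_c_Cert_tree lc_c_Cert_tree lc_c_rc_14_2 lc_c_rc_11_1 lc_c_rc_26_10 lc_c_rc_11_1 lc_c_rc_2_3 lc_c_Cert_tree lc_c_rc_13_2 lc_c_rc_7_3 lc_c_Cert_tree lc_c_rc_7_1 lc_c_Cert_tree lc_c_rc_13_2 lc_c_Cert_tree lc_c_rc_13_2 lc_c_rc_23_5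 lc_c_rc_23_0 lc_c_rc_13_2 lc_c_rc_14_0 lc_c_rc_2_3 lc_c_rc_24_4 lc_c_rc_7_3 lc_c_rc_13_2 lc_c_Cert_tree lc_c_Cert_tree lc_c_rc_13_2 lc_c_rc_24_2 lc_c_rc_11_1 lc_c_rc_13_2 lc_c_Cert_tree lc_c_Cert_tree lc_c_rc_11_1 lc_c_Cert_tree lc_c_rc_26_4) (@D3.rec (fun _ => (Cert rels S Gen.c)) lc_c_rc_13_2 lc_c_rc_2_3 lc_c_rc_2_1 lc_c_Cert_tree lc_c_rc_11_1 lc_c_Cert_tree lc_c_rc_13_2 lc_c_rc_14_2 lc_c_Cert_tree lc_c_rc_11_1 lc_c_Cert_tree lc_c_Cert_tree lc_c_Cert_tree lc_c_Cert_tree lc_c_rc_11_1 lc_c_rc_13_2 lc_c_rc_14_2 lc_c_Cert_tree lc_c_rc_13_2 lc_c_Cert_tree lc_c_rc_13_2 lc_c_rc_7_3 lc_c_rc_13_2 lc_c_rc_23_0 lc_c_rc_22_3 lc_c_rc_22_3 lc_c_rc_13_2 lc_c_Cert_tree lc_c_rc_7_5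 lc_c_Cert_tree lc_c_Cert_tree lc_c_rc_11_1 lc_c_rc_13_2 lc_c_Cert_tree lc_c_rc_13_2 lc_c_rc_11_1 lc_c_rc_13_2 lc_c_Cert_tree lc_c_Cert_tree lc_c_rc_11_1 lc_c_rc_13_2 lc_c_rc_26_2 lc_c_rc_11_1 lc_c_rc_13_2 lc_c_rc_11_1 lc_c_rc_24_8 lc_c_rc_7_3 lc_c_rc_22_5 lc_c_rc_14_2 lc_c_rc_13_2 lc_c_rc_11_1 lc_c_Cert_tree lc_c_Cert_tree lc_c_Cert_tree lc_c_Cert_tree lc_c_Cert_tree lc_c_rc_11_1 lc_c_rc_13_2 lc_c_Cert_tree lc_c_rc_11_1 lc_c_rc_13_2 lc_c_rc_11_1) (@D3.rec (fun _ => (Cert rels S Gen.c)) lc_c_rc_7_3 lc_c_rc_24_4 lc_c_rc_13_2 lc_c_Cert_tree lc_c_Cert_tree lc_c_rc_14_2 lc_c_Cert_tree lc_c_Cert_tree lc_c_rc_11_1 lc_c_rc_13_2 lc_c_Cert_tree lc_c_rc_7_3 lc_c_rc_12_8 lc_c_rc_13_2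 lc_c_Cert_tree lc_c_Cert_tree lc_c_rc_14_2 lc_c_rc_11_1 lc_c_Cert_tree lc_c_rc_11_1 lc_c_rc_13_2 lc_c_rc_7_1 lc_c_rc_23_5 lc_c_rc_13_2 lc_c_Cert_tree lc_c_Cert_tree lc_c_rc_14_2 lc_c_rc_11_1 lc_c_rc_13_2 lc_c_rc_7_1 lc_c_rc_23_5 lc_c_rc_13_2 lc_c_Cert_tree lc_c_Cert_tree lc_c_rc_14_2 lc_c_Cert_tree lc_c_rc_23_5 lc_c_rc_13_2 lc_c_Cert_tree lc_c_rc_23_5 lc_c_rc_13_2 lc_c_Cert_tree lc_c_Cert_tree lc_c_rc_2_3 lc_c_Cert_tree lc_c_rc_14_2 lc_c_rc_24_6 lc_c_rc_24_8 lc_c_rc_13_2 lc_c_rc_13_2 lc_c_Cert_tree lc_c_Cert_tree lc_c_Cert_tree lc_c_rc_11_1 lc_c_rc_13_2 lc_c_Cert_tree lc_c_rc_13_2 lc_c_Cert_tree lc_c_rc_7_3 lc_c_rc_13_2 lc_c_rc_26_10 lc_c_rc_26_4) (@D3.rec (fun _ =>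 (Cert rels S Gen.c)) lc_c_rc_14_2 lc_c_rc_7_3 lc_c_rc_13_2 lc_c_Cert_tree lc_c_rc_26_10 lc_c_rc_11_1 lc_c_rc_13_2 lc_c_rc_26_2 lc_c_rc_13_2 lc_c_Cert_tree lc_c_rc_13_2 lc_c_Cert_tree lc_c_Cert_tree lc_c_rc_11_1 lc_c_rc_13_2 lc_c_Cert_tree lc_c_rc_11_1 lc_c_rc_11_1 lc_c_rc_13_2 lc_c_rc_24_8 lc_c_rc_11_1 lc_c_rc_7_3 lc_c_Cert_tree lc_c_rc_11_1 lc_c_Cert_tree lc_c_Cert_tree lc_c_rc_11_1 lc_c_rc_13_2 lc_c_Cert_tree lc_c_rc_7_3 lc_c_rc_13_2 lc_c_rc_2_1 lc_c_Cert_tree lc_c_rc_14_2 lc_c_rc_11_1 lc_c_Cert_tree lc_c_Cert_tree lc_c_rc_13_2 lc_c_rc_13_2 lc_c_rc_14_2 lc_c_rc_13_2 lc_c_rc_13_2 lc_c_rc_11_1 lc_c_rc_7_1 lc_c_Cert_tree lc_c_rc_13_2 lc_c_rc_2_3 lc_c_Cert_tree lc_c_rc_13_2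 lc_c_rc_13_2 lc_c_rc_23_5 lc_c_Cert_tree lc_c_Cert_tree lc_c_Cert_tree lc_c_rc_11_1 lc_c_Cert_tree lc_c_rc_13_2 lc_c_rc_13_2 lc_c_rc_11_1 lc_c_rc_2_3 lc_c_Cert_tree lc_c_rc_7_3) (@D3.rec (fun _ => (Cert rels S Gen.c)) lc_c_rc_13_2 lc_c_rc_7_5 lc_c_Cert_tree lc_c_rc_2_3 lc_c_rc_11_1 lc_c_rc_13_2 lc_c_Cert_tree lc_c_rc_13_2 lc_c_Cert_tree lc_c_rc_13_2 lc_c_rc_7_3 lc_c_rc_13_2 lc_c_rc_2_3 lc_c_rc_24_4 lc_c_rc_14_2 lc_c_rc_13_2 lc_c_Cert_tree lc_c_rc_11_1 lc_c_Cert_tree lc_c_rc_26_4 lc_c_rc_11_1 lc_c_rc_11_1 lc_c_Cert_tree lc_c_Cert_tree lc_c_Cert_tree lc_c_rc_11_1 lc_c_rc_14_2 lc_c_Cert_tree lc_c_rc_13_2 lc_c_rc_14_0 lc_c_Cert_tree lc_c_rc_13_2 lc_c_Cert_tree lc_c_rc_11_1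 lc_c_rc_13_2 lc_c_Cert_tree lc_c_rc_13_2 lc_c_rc_26_10 lc_c_Cert_tree lc_c_rc_13_2 lc_c_rc_11_1 lc_c_rc_13_2 lc_c_Cert_tree lc_c_rc_26_4 lc_c_rc_11_1 lc_c_rc_13_2 lc_c_Cert_tree lc_c_rc_11_1 lc_c_rc_13_2 lc_c_rc_11_1 lc_c_rc_11_1 lc_c_rc_7_3 lc_c_Cert_tree lc_c_rc_14_2 lc_c_rc_13_2 lc_c_rc_11_1 lc_c_rc_13_2 lc_c_rc_23_0 lc_c_rc_23_0 lc_c_rc_14_2 lc_c_rc_11_1 lc_c_rc_13_2) (@D3.rec (fun _ => (Cert rels S Gen.c)) lc_c_rc_26_8 lc_c_rc_26_10 lc_c_rc_14_2 lc_c_Cert_tree lc_c_Cert_tree lc_c_rc_2_3 lc_c_Cert_tree lc_c_rc_14_2 lc_c_rc_13_2 lc_c_rc_13_2 lc_c_rc_26_4 lc_c_Cert_tree lc_c_rc_11_1 lc_c_Cert_tree lc_c_rc_14_2 lc_c_Cert_tree lc_c_Cert_tree lc_c_Cert_tree lc_c_rc_11_1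 lc_c_rc_14_2 lc_c_Cert_tree lc_c_rc_14_2 lc_c_Cert_tree lc_c_rc_13_2 lc_c_rc_26_2 lc_c_Cert_tree lc_c_rc_13_2 lc_c_rc_24_2 lc_c_rc_24_8 lc_c_rc_11_1 lc_c_rc_14_2 lc_c_Cert_tree lc_c_rc_11_1 lc_c_rc_13_2 lc_c_Cert_tree lc_c_rc_13_2 lc_c_rc_11_1 lc_c_rc_13_2 lc_c_Cert_tree lc_c_rc_11_1 lc_c_rc_13_2 lc_c_rc_26_4 lc_c_rc_11_1 lc_c_rc_13_2 lc_c_rc_11_1 lc_c_rc_11_1 lc_c_rc_7_3 lc_c_Cert_tree lc_c_rc_14_2 lc_c_rc_13_2 lc_c_rc_11_1 lc_c_rc_13_2 lc_c_rc_24_2 lc_c_rc_24_2 lc_c_rc_14_2 lc_c_rc_11_1 lc_c_rc_13_2 lc_c_rc_26_10 lc_c_rc_26_10 lc_c_rc_14_2 lc_c_Cert_tree lc_c_Cert_tree) (@D3.rec (fun _ => (Cert rels S Gen.c)) lc_c_rc_2_3 lc_c_Cert_tree lc_c_rc_14_2 lc_c_rc_13_2 lc_c_rc_13_2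 lc_c_rc_11_1 lc_c_Cert_tree lc_c_rc_13_2 lc_c_Cert_tree lc_c_rc_13_2 lc_c_rc_24_8 lc_c_rc_24_8 lc_c_rc_11_1 lc_c_rc_26_10 lc_c_Cert_tree lc_c_rc_13_2 lc_c_rc_26_2 lc_c_rc_11_1 lc_c_rc_26_2 lc_c_rc_11_1 lc_c_rc_13_2 lc_c_rc_11_1 lc_c_rc_23_5 lc_c_rc_13_2 lc_c_rc_11_1 lc_c_rc_11_1 lc_c_rc_7_3 lc_c_Cert_tree lc_c_rc_14_2 lc_c_rc_13_2 lc_c_rc_26_10 lc_c_rc_24_8 lc_c_rc_11_1 lc_c_rc_11_1 lc_c_rc_11_1 lc_c_rc_13_2 lc_c_rc_2_1 lc_c_Cert_tree lc_c_rc_2_3 lc_c_rc_11_1 lc_c_rc_13_2 lc_c_rc_11_1 lc_c_rc_11_1 lc_c_rc_7_3 lc_c_Cert_tree lc_c_rc_14_2 lc_c_rc_13_2 lc_c_Cert_tree lc_c_Cert_tree lc_c_rc_11_1 lc_c_rc_14_2 lc_c_Cert_tree lc_c_rc_13_2 lc_c_Cert_tree lc_c_rc_11_1 lc_c_rc_13_2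 lc_c_Cert_tree lc_c_rc_13_2 lc_c_rc_11_1 lc_c_rc_13_2 lc_c_rc_26_2 lc_c_rc_11_1) (@D3.rec (fun _ => (Cert rels S Gen.c)) lc_c_rc_23_5 lc_c_rc_13_2 lc_c_rc_26_8 lc_c_rc_11_1 lc_c_rc_13_2 lc_c_rc_11_1 lc_c_Cert_tree lc_c_rc_7_3 lc_c_rc_22_7 lc_c_rc_14_2 lc_c_rc_13_2 lc_c_rc_11_1 lc_c_rc_11_1 lc_c_Cert_tree lc_c_Cert_tree lc_c_rc_13_2 lc_c_Cert_tree lc_c_rc_11_1 lc_c_rc_26_2 lc_c_Cert_tree lc_c_rc_13_2 lc_c_Cert_tree lc_c_Cert_tree lc_c_rc_11_1 lc_c_rc_13_2 lc_c_rc_11_1 lc_c_rc_13_2 lc_c_Cert_tree lc_c_rc_11_1 lc_c_rc_13_2 lc_c_rc_11_1 lc_c_rc_13_2 lc_c_rc_11_1 lc_c_rc_11_1 lc_c_rc_7_3 lc_c_Cert_tree lc_c_rc_14_2 lc_c_rc_13_2 lc_c_rc_26_8 lc_c_rc_26_8 lc_c_rc_23_0 lc_c_rc_11_1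 lc_c_rc_13_2 lc_c_rc_13_0 lc_c_rc_26_4 lc_c_rc_2_3 lc_c_Cert_tree lc_c_Cert_tree lc_c_rc_13_2 lc_c_Cert_tree lc_c_Cert_tree lc_c_rc_11_1 lc_c_rc_13_2 lc_c_Cert_tree lc_c_Cert_tree lc_c_rc_14_2 lc_c_rc_11_1 lc_c_rc_13_2 lc_c_rc_11_1 lc_c_rc_13_2 lc_c_rc_11_1 lc_c_Cert_tree) (@D3.rec (fun _ => (Cert rels S Gen.c)) lc_c_rc_7_3 lc_c_rc_24_8 lc_c_rc_13_2 lc_c_Cert_tree lc_c_Cert_tree lc_c_Cert_tree lc_c_rc_14_2 lc_c_Cert_tree lc_c_rc_11_1 lc_c_rc_26_4 lc_c_Cert_tree lc_c_rc_14_2 lc_c_rc_26_8 lc_c_rc_24_2 lc_c_rc_11_1 lc_c_rc_13_2 lc_c_rc_12_0 lc_c_rc_24_2 lc_c_rc_7_3 lc_c_rc_11_1 lc_c_rc_13_2 lc_c_Cert_tree lc_c_rc_24_2 lc_c_rc_14_2 lc_c_rc_7_3 lc_c_rc_12_8 lc_c_rc_13_2 lc_c_Cert_tree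 lc_c_Cert_tree lc_c_Cert_tree lc_c_rc_14_2 lc_c_rc_11_1 lc_c_rc_26_2 lc_c_rc_11_1 lc_c_rc_23_5 lc_c_rc_13_2 lc_c_rc_24_6 lc_c_rc_2_3 lc_c_rc_7_1 lc_c_rc_23_5 lc_c_rc_13_2 lc_c_rc_24_2 lc_c_rc_11_1 lc_c_rc_13_2 lc_c_Cert_tree lc_c_Cert_tree lc_c_Cert_tree lc_c_rc_14_2 lc_c_rc_26_2 lc_c_rc_11_1 lc_c_rc_13_2 lc_c_rc_7_1 lc_c_rc_23_5 lc_c_rc_13_2 lc_c_rc_11_1 lc_c_Cert_tree lc_c_Cert_tree lc_c_Cert_tree lc_c_rc_14_2 lc_c_Cert_tree lc_c_rc_11_1 lc_c_rc_23_5) (@D3.rec (fun _ => (Cert rels S Gen.c)) lc_c_rc_13_2 lc_c_Cert_tree lc_c_rc_11_1 lc_c_rc_23_5 lc_c_rc_13_2 lc_c_Cert_tree lc_c_Cert_tree lc_c_rc_2_3 lc_c_Cert_tree lc_c_rc_14_2 lc_c_rc_12_0 lc_c_rc_24_2 lc_c_rc_11_1 lc_c_rc_13_2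 lc_c_rc_22_3 lc_c_rc_13_2 lc_c_Cert_tree lc_c_Cert_tree lc_c_Cert_tree lc_c_Cert_tree lc_c_rc_11_1 lc_c_rc_13_2 lc_c_rc_11_1 lc_c_rc_23_0 lc_c_rc_7_3 lc_c_rc_24_2 lc_c_rc_13_2 lc_c_rc_26_2 lc_c_rc_26_10 lc_c_rc_22_3 lc_c_Cert_tree lc_c_rc_11_1 lc_c_rc_13_2 lc_c_rc_7_3 lc_c_rc_24_2 lc_c_rc_13_2 lc_c_Cert_tree lc_c_rc_14_2 lc_c_rc_11_1 lc_c_rc_13_2 lc_c_rc_7_1 lc_c_rc_23_5 lc_c_rc_13_2 lc_c_Cert_tree lc_c_Cert_tree lc_c_rc_13_2 lc_c_rc_11_1 lc_c_rc_13_2 lc_c_rc_7_1 lc_c_rc_23_5 lc_c_rc_24_4 lc_c_rc_24_4 lc_c_rc_23_0 lc_c_Cert_tree lc_c_rc_24_4 lc_c_rc_13_2 lc_c_Cert_tree lc_c_rc_23_5 lc_c_Cert_tree lc_c_Cert_tree lc_c_rc_2_3 lc_c_Cert_tree) (@D3.rec (fun _ => (Cert rels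 S Gen.c)) lc_c_rc_14_2 lc_c_rc_11_1 lc_c_rc_22_9 lc_c_rc_13_2 lc_c_rc_11_1 lc_c_rc_11_1 lc_c_rc_13_2 lc_c_rc_11_1 lc_c_rc_13_2 lc_c_rc_13_0 lc_c_rc_23_5 lc_c_rc_11_1 lc_c_rc_13_2 lc_c_Cert_tree lc_c_rc_11_1 lc_c_rc_13_2 lc_c_rc_22_7 lc_c_rc_11_1 lc_c_rc_7_3 lc_c_rc_11_1 lc_c_rc_13_2 lc_c_Cert_tree lc_c_Cert_tree lc_c_rc_14_2 lc_c_rc_11_1 lc_c_Cert_tree lc_c_Cert_tree lc_c_rc_11_1 lc_c_Cert_tree lc_c_rc_13_2 lc_c_rc_11_1 lc_c_rc_13_2 lc_c_rc_7_1 lc_c_rc_23_5 lc_c_rc_13_2 lc_c_Cert_tree lc_c_Cert_tree lc_c_rc_14_2 lc_c_rc_7_3 lc_c_rc_23_5 lc_c_rc_13_2 lc_c_Cert_tree lc_c_rc_11_1 lc_c_rc_13_2 lc_c_Cert_tree lc_c_rc_24_2 lc_c_rc_13_2 lc_c_Cert_tree lc_c_Cert_tree lc_c_rc_2_3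 lc_c_Cert_tree lc_c_rc_13_2 lc_c_Cert_tree lc_c_rc_13_2 lc_c_rc_11_1 lc_c_rc_11_1 lc_c_rc_13_2 lc_c_Cert_tree lc_c_rc_13_2 lc_c_rc_11_1 lc_c_rc_13_2 lc_c_rc_24_4) (@D3.rec (fun _ => (Cert rels S Gen.c)) lc_c_rc_14_2 lc_c_rc_26_8 lc_c_Cert_tree lc_c_Cert_tree lc_c_Cert_tree lc_c_rc_11_1 lc_c_rc_13_2 lc_c_Cert_tree lc_c_rc_24_4 lc_c_rc_24_2 lc_c_rc_14_2 lc_c_rc_11_1 lc_c_rc_7_5 lc_c_rc_13_2 lc_c_rc_11_1 lc_c_rc_13_2 lc_c_Cert_tree lc_c_rc_11_1 lc_c_rc_7_3 lc_c_rc_24_8 lc_c_rc_13_2 lc_c_Cert_tree lc_c_Cert_tree lc_c_Cert_tree lc_c_rc_14_2 lc_c_rc_23_0 lc_c_rc_11_1 lc_c_Cert_tree lc_c_Cert_tree lc_c_rc_2_3 lc_c_Cert_tree lc_c_rc_13_2 lc_c_rc_13_2 lc_c_rc_2_3 lc_c_rc_11_1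 lc_c_Cert_tree lc_c_rc_14_2 lc_c_rc_11_1 lc_c_rc_13_2 lc_c_Cert_tree lc_c_rc_11_1 lc_c_Cert_tree lc_c_Cert_tree lc_c_rc_11_1 lc_c_rc_23_5 lc_c_rc_7_3 lc_c_rc_11_1 lc_c_rc_12_2 lc_c_rc_13_2 lc_c_rc_2_3 lc_c_rc_7_1 lc_c_rc_12_6 lc_c_rc_13_2 lc_c_rc_11_1 lc_c_Cert_tree lc_c_Cert_tree lc_c_Cert_tree lc_c_rc_14_2 lc_c_Cert_tree lc_c_rc_13_2 lc_c_Cert_tree lc_c_Cert_tree) (@D3.rec (fun _ => (Cert rels S Gen.c)) lc_c_rc_2_3 lc_c_Cert_tree lc_c_rc_13_2 lc_c_rc_24_2 lc_c_rc_23_0 lc_c_rc_13_2 lc_c_rc_11_1 lc_c_rc_23_0 lc_c_rc_23_0 lc_c_rc_14_2 lc_c_Cert_tree lc_c_rc_11_1 lc_c_Cert_tree lc_c_rc_11_1 lc_c_Cert_tree lc_c_rc_13_2 lc_c_rc_11_1 lc_c_rc_11_1 lc_c_rc_13_2 lc_c_rc_24_6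 lc_c_rc_24_4 lc_c_rc_7_1 lc_c_rc_23_5 lc_c_rc_13_2 lc_c_Cert_tree lc_c_Cert_tree lc_c_rc_14_2 lc_c_Cert_tree lc_c_Cert_tree lc_c_rc_2_3 lc_c_Cert_tree lc_c_rc_13_2 lc_c_rc_13_2 lc_c_rc_11_1 lc_c_rc_11_1 lc_c_rc_14_2 lc_c_rc_11_1 lc_c_rc_13_2 lc_c_Cert_tree lc_c_rc_11_1 lc_c_Cert_tree lc_c_Cert_tree lc_c_Cert_tree lc_c_rc_11_1 lc_c_Cert_tree lc_c_rc_13_2 lc_c_rc_24_2 lc_c_rc_11_1 lc_c_rc_13_2 lc_c_Cert_tree lc_c_rc_14_2 lc_c_Cert_tree lc_c_Cert_tree lc_c_Cert_tree lc_c_rc_11_1 lc_c_Cert_tree lc_c_rc_13_2 lc_c_rc_13_2 lc_c_rc_14_2 lc_c_rc_14_2 lc_c_Cert_tree lc_c_Cert_tree) (@D3.rec (fun _ => (Cert rels S Gen.c)) lc_c_rc_11_1 lc_c_Cert_tree lc_c_rc_13_2 lc_c_rc_14_2 lc_c_Cert_tree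 lc_c_rc_11_1 lc_c_Cert_tree lc_c_rc_13_2 lc_c_Cert_tree lc_c_Cert_tree lc_c_Cert_tree lc_c_rc_11_1 lc_c_rc_13_2 lc_c_rc_13_2 lc_c_Cert_tree lc_c_Cert_tree lc_c_rc_13_2 lc_c_rc_11_1 lc_c_rc_24_8 lc_c_rc_14_2 lc_c_rc_13_2 lc_c_rc_13_2 lc_c_Cert_tree lc_c_Cert_tree lc_c_rc_11_1 lc_c_Cert_tree lc_c_rc_13_2 lc_c_Cert_tree lc_c_rc_11_1 lc_c_Cert_tree lc_c_rc_13_2 lc_c_rc_11_1 lc_c_Cert_tree lc_c_rc_11_1 lc_c_rc_13_2 lc_c_rc_11_1 lc_c_rc_13_2 lc_c_rc_24_2 lc_c_rc_14_2 lc_c_rc_26_4 lc_c_rc_11_1 lc_c_rc_13_2 lc_c_Cert_tree lc_c_rc_11_1 lc_c_rc_13_2 lc_c_rc_11_1 lc_c_rc_11_1 lc_c_rc_7_3 lc_c_Cert_tree lc_c_rc_13_2 lc_c_Cert_tree lc_c_Cert_tree lc_c_Cert_tree lc_c_rc_14_2 lc_c_rc_26_2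 lc_c_rc_11_1 lc_c_Cert_tree lc_c_rc_23_0 lc_c_rc_11_1 lc_c_Cert_tree lc_c_rc_23_5 lc_c_rc_11_1) (@D3.rec (fun _ => (Cert rels S Gen.c)) lc_c_rc_11_1 lc_c_rc_13_2 lc_c_rc_7_1 lc_c_rc_13_2 lc_c_rc_23_0 lc_c_rc_24_8 lc_c_rc_14_2 lc_c_Cert_tree lc_c_rc_11_1 lc_c_rc_13_2 lc_c_rc_7_1 lc_c_rc_13_2 lc_c_rc_24_8 lc_c_rc_14_2 lc_c_Cert_tree lc_c_Cert_tree lc_c_rc_2_3 lc_c_rc_13_2 lc_c_Cert_tree lc_c_rc_14_2 lc_c_Cert_tree lc_c_rc_13_2 lc_c_rc_24_4 lc_c_rc_13_2 lc_c_rc_22_3 lc_c_Cert_tree lc_c_rc_13_2 lc_c_Cert_tree lc_c_rc_7_1 lc_c_Cert_tree lc_c_Cert_tree lc_c_Cert_tree lc_c_rc_2_3 lc_c_Cert_tree lc_c_rc_13_2 lc_c_Cert_tree lc_c_rc_13_2 lc_c_rc_2_3 lc_c_Cert_tree lc_c_rc_13_2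 lc_c_Cert_tree lc_c_Cert_tree lc_c_rc_2_3 lc_c_Cert_tree lc_c_rc_13_2 lc_c_Cert_tree lc_c_Cert_tree lc_c_rc_13_0 lc_c_rc_11_1 lc_c_rc_13_2 lc_c_rc_13_2 lc_c_rc_26_4 lc_c_rc_11_1 lc_c_Cert_tree lc_c_rc_13_2 lc_c_rc_26_8 lc_c_rc_11_1 lc_c_Cert_tree lc_c_Cert_tree lc_c_rc_2_3 lc_c_Cert_tree lc_c_Cert_tree) (@D3.rec (fun _ => (Cert rels S Gen.c)) lc_c_rc_11_1 lc_c_rc_13_2 lc_c_Cert_tree lc_c_Cert_tree lc_c_Cert_tree lc_c_rc_14_2 lc_c_rc_13_2 lc_c_rc_7_5 lc_c_rc_2_3 lc_c_rc_7_3 lc_c_Cert_tree lc_c_rc_13_2 lc_c_rc_11_1 lc_c_rc_26_2 lc_c_rc_11_1 lc_c_rc_7_1 lc_c_rc_13_2 lc_c_rc_13_2 lc_c_Cert_tree lc_c_rc_7_5 lc_c_rc_13_2 lc_c_rc_11_1 lc_c_rc_13_2 lc_c_rc_26_4 lc_c_rc_11_1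 lc_c_rc_13_2 lc_c_rc_26_8 lc_c_rc_11_1 lc_c_rc_13_2 lc_c_rc_24_6 lc_c_rc_23_0 lc_c_rc_7_3 lc_c_rc_13_2 lc_c_Cert_tree lc_c_Cert_tree lc_c_Cert_tree lc_c_rc_14_2 lc_c_rc_22_9 lc_c_rc_13_2 lc_c_rc_11_1 lc_c_Cert_tree lc_c_Cert_tree lc_c_rc_2_3 lc_c_rc_13_2 lc_c_Cert_tree lc_c_rc_14_2 lc_c_Cert_tree lc_c_rc_11_1 lc_c_rc_13_2 lc_c_Cert_tree lc_c_rc_11_1 lc_c_Cert_tree lc_c_Cert_tree lc_c_rc_11_1 lc_c_rc_14_2 lc_c_rc_7_3 lc_c_rc_7_5 lc_c_Cert_tree lc_c_Cert_tree lc_c_Cert_tree lc_c_Cert_tree lc_c_rc_11_1) (@D3.rec (fun _ => (Cert rels S Gen.c)) lc_c_rc_13_2 lc_c_rc_14_2 lc_c_rc_23_0 lc_c_rc_23_0 lc_c_rc_24_4 lc_c_rc_26_4 lc_c_rc_11_1 lc_c_Cert_tree lc_c_rc_11_1 lc_c_Cert_tree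 lc_c_Cert_tree lc_c_Cert_tree lc_c_rc_11_1 lc_c_rc_13_2 lc_c_Cert_tree lc_c_rc_13_2 lc_c_Cert_tree lc_c_rc_13_2 lc_c_rc_13_0 lc_c_rc_13_2 lc_c_Cert_tree lc_c_rc_24_6 lc_c_rc_26_2 lc_c_rc_26_4 lc_c_Cert_tree lc_c_rc_11_1 lc_c_rc_22_5 lc_c_rc_2_3 lc_c_rc_2_3 lc_c_rc_11_1 lc_c_rc_24_8 lc_c_rc_24_4 lc_c_rc_26_2 lc_c_rc_11_1 lc_c_rc_13_2 lc_c_rc_22_9 lc_c_Cert_tree lc_c_Cert_tree lc_c_rc_13_2 lc_c_rc_14_2 lc_c_Cert_tree lc_c_rc_7_3 lc_c_rc_7_3 lc_c_rc_11_1 lc_c_Cert_tree lc_c_rc_13_2 lc_c_Cert_tree lc_c_rc_11_1 lc_c_Cert_tree lc_c_rc_11_1 lc_c_Cert_tree lc_c_Cert_tree lc_c_rc_11_1 lc_c_Cert_tree lc_c_rc_13_2 lc_c_Cert_tree lc_c_Cert_tree lc_c_rc_11_1 lc_c_rc_13_2 lc_c_Cert_tree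 lc_c_Cert_tree lc_c_rc_14_2) (@D3.rec (fun _ => (Cert rels S Gen.c)) lc_c_Cert_tree lc_c_rc_13_2 lc_c_Cert_tree lc_c_rc_13_2 lc_c_rc_13_0 lc_c_rc_14_2 lc_c_Cert_tree lc_c_rc_23_5 lc_c_rc_24_2 lc_c_rc_11_1 lc_c_rc_14_2 lc_c_rc_11_1 lc_c_Cert_tree lc_c_rc_26_8 lc_c_rc_11_1 lc_c_Cert_tree lc_c_rc_11_1 lc_c_Cert_tree lc_c_rc_2_1 lc_c_Cert_tree lc_c_rc_11_1 lc_c_Cert_tree lc_c_rc_13_2 lc_c_Cert_tree lc_c_Cert_tree lc_c_rc_11_1 lc_c_rc_13_2 lc_c_Cert_tree lc_c_Cert_tree lc_c_rc_26_10 lc_c_rc_11_1 lc_c_Cert_tree lc_c_rc_14_2 lc_c_rc_11_1 lc_c_rc_26_4 lc_c_Cert_tree lc_c_rc_13_2 lc_c_rc_7_5 lc_c_Cert_tree lc_c_Cert_tree lc_c_rc_7_5 lc_c_Cert_tree lc_c_rc_7_3 lc_c_Cert_tree lc_c_rc_14_2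 lc_c_Cert_tree lc_c_rc_11_1 lc_c_rc_13_2 lc_c_rc_14_2 lc_c_rc_14_0 lc_c_rc_11_1 lc_c_rc_14_0 lc_c_Cert_tree lc_c_rc_13_2 lc_c_Cert_tree lc_c_rc_13_2 lc_c_rc_11_1 lc_c_rc_13_2 lc_c_rc_2_3 lc_c_Cert_tree lc_c_rc_22_3 lc_c_Cert_tree) (@D3.rec (fun _ => (Cert rels S Gen.c)) lc_c_Cert_tree lc_c_rc_11_1 lc_c_rc_13_2 lc_c_Cert_tree lc_c_rc_11_1 lc_c_rc_13_2 lc_c_rc_13_0 lc_c_rc_11_1 lc_c_rc_13_2 lc_c_Cert_tree lc_c_Cert_tree lc_c_rc_7_3 lc_c_Cert_tree lc_c_rc_13_2 lc_c_rc_14_2 lc_c_Cert_tree lc_c_Cert_tree lc_c_rc_14_2 lc_c_rc_13_2 lc_c_rc_11_1 lc_c_Cert_tree lc_c_Cert_tree lc_c_rc_11_1 lc_c_rc_13_2 lc_c_rc_11_1 lc_c_rc_11_1 lc_c_rc_23_5 lc_c_rc_13_0 lc_c_Cert_tree lc_c_rc_11_1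 lc_c_rc_13_2 lc_c_rc_12_14 lc_c_rc_22_3 lc_c_rc_14_2 lc_c_Cert_tree lc_c_Cert_tree lc_c_rc_2_3 lc_c_rc_13_2 lc_c_rc_11_1 lc_c_rc_11_1 lc_c_Cert_tree lc_c_rc_14_2 lc_c_Cert_tree lc_c_rc_11_1 lc_c_rc_23_5 lc_c_rc_13_2 lc_c_Cert_tree lc_c_rc_11_1 lc_c_rc_13_2 lc_c_rc_23_5 lc_c_rc_14_2 lc_c_Cert_tree lc_c_Cert_tree lc_c_Cert_tree lc_c_rc_11_1 lc_c_rc_11_1 lc_c_rc_11_1 lc_c_rc_2_3 lc_c_Cert_tree lc_c_rc_13_2 lc_c_rc_13_2 lc_c_rc_11_1) (@D3.rec (fun _ => (Cert rels S Gen.c)) lc_c_rc_11_1 lc_c_Cert_tree lc_c_rc_14_2 lc_c_rc_11_1 lc_c_rc_11_1 lc_c_rc_11_1 lc_c_rc_11_1 lc_c_rc_13_2 lc_c_rc_26_10 lc_c_Cert_tree lc_c_rc_14_2 lc_c_rc_22_5 lc_c_Cert_tree lc_c_Cert_tree lc_c_Cert_tree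 lc_c_rc_11_1 lc_c_rc_14_2 lc_c_rc_26_4 lc_c_rc_11_1 lc_c_rc_26_8 lc_c_rc_11_1 lc_c_rc_12_2 lc_c_Cert_tree lc_c_rc_13_2 lc_c_rc_11_1 lc_c_rc_13_2 lc_c_rc_11_1 lc_c_rc_23_5 lc_c_rc_26_8 lc_c_Cert_tree lc_c_rc_14_2 lc_c_rc_11_1 lc_c_rc_11_1 lc_c_rc_13_2 lc_c_rc_26_8 lc_c_rc_11_1 lc_c_rc_2_3 lc_c_rc_11_1 lc_c_Cert_tree lc_c_rc_7_5 lc_c_rc_2_3 lc_c_Cert_tree lc_c_Cert_tree lc_c_Cert_tree lc_c_rc_11_1 lc_c_rc_13_2 lc_c_rc_13_0 lc_c_rc_13_2 lc_c_rc_14_2 lc_c_rc_23_0 lc_c_rc_2_1 lc_c_rc_7_5 lc_c_rc_11_1 lc_c_rc_23_0 lc_c_rc_11_1 lc_c_rc_11_1 lc_c_rc_13_2 lc_c_rc_24_8 lc_c_rc_26_8 lc_c_rc_11_1 lc_c_rc_11_1 lc_c_rc_13_2) (@D3.rec (fun _ => (Cert rels S Gen.c)) lc_c_rc_24_2 lc_c_rc_13_2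 lc_c_rc_11_1 lc_c_rc_13_2 lc_c_Cert_tree lc_c_rc_11_1 lc_c_rc_13_2 lc_c_rc_11_1 lc_c_rc_7_3 lc_c_rc_26_4 lc_c_rc_13_2 lc_c_rc_26_8 lc_c_rc_11_1 lc_c_rc_13_2 lc_c_rc_11_1 lc_c_rc_7_5 lc_c_rc_26_10 lc_c_rc_13_2 lc_c_Cert_tree lc_c_Cert_tree lc_c_Cert_tree lc_c_rc_14_2 lc_c_Cert_tree lc_c_rc_11_1 lc_c_Cert_tree lc_c_Cert_tree lc_c_rc_11_1 lc_c_Cert_tree lc_c_rc_2_3 lc_c_Cert_tree lc_c_rc_14_2 lc_c_rc_23_0 lc_c_rc_14_0 lc_c_rc_13_0 lc_c_rc_14_2 lc_c_rc_22_5 lc_c_rc_22_9 lc_c_Cert_tree lc_c_rc_23_0 lc_c_Cert_tree lc_c_rc_2_1 lc_c_rc_11_1 lc_c_Cert_tree lc_c_rc_13_2 lc_c_rc_13_2 lc_c_Cert_tree lc_c_Cert_tree lc_c_rc_11_1 lc_c_rc_13_2 lc_c_Cert_tree lc_c_rc_11_1 lc_c_rc_13_2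 lc_c_rc_24_6 lc_c_rc_11_1 lc_c_rc_14_2 lc_c_rc_13_2 lc_c_rc_7_1 lc_c_rc_2_3 lc_c_rc_11_1 lc_c_Cert_tree lc_c_rc_24_2 lc_c_rc_11_1) (@D3.rec (fun _ => (Cert rels S Gen.c)) lc_c_rc_13_2 lc_c_Cert_tree lc_c_rc_7_3 lc_c_rc_11_1 lc_c_rc_2_3 lc_c_Cert_tree lc_c_rc_24_2 lc_c_rc_22_3 lc_c_rc_11_1 lc_c_rc_11_1 lc_c_rc_23_5 lc_c_rc_7_5 lc_c_Cert_tree lc_c_rc_11_1 lc_c_rc_13_2 lc_c_rc_26_4 lc_c_rc_11_1 lc_c_rc_13_2 lc_c_rc_26_8 lc_c_rc_24_6 lc_c_rc_14_2 lc_c_rc_13_2 lc_c_Cert_tree lc_c_Cert_tree lc_c_rc_14_2 lc_c_Cert_tree lc_c_rc_7_3 lc_c_rc_24_4 lc_c_Cert_tree lc_c_Cert_tree lc_c_rc_23_0 lc_c_Cert_tree lc_c_rc_11_1 lc_c_rc_13_2 lc_c_rc_11_1 lc_c_rc_13_2 lc_c_rc_2_3 lc_c_Cert_tree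 lc_c_rc_11_1 lc_c_rc_13_2 lc_c_rc_22_3 lc_c_rc_13_2 lc_c_rc_11_1 lc_c_rc_22_9 lc_c_rc_13_2 lc_c_Cert_tree lc_c_rc_11_1 lc_c_rc_26_4 lc_c_rc_11_1 lc_c_rc_2_3 lc_c_rc_26_4 lc_c_rc_11_1 lc_c_rc_13_2 lc_c_Cert_tree lc_c_rc_11_1 lc_c_rc_13_2 lc_c_rc_24_4 lc_c_rc_7_5 lc_c_Cert_tree lc_c_Cert_tree lc_c_Cert_tree lc_c_rc_7_3) (@D3.rec (fun _ => (Cert rels S Gen.c)) lc_c_rc_11_1 lc_c_rc_13_2 lc_c_rc_23_0 lc_c_rc_13_2 lc_c_rc_14_2 lc_c_Cert_tree lc_c_rc_11_1 lc_c_rc_13_2 lc_c_Cert_tree lc_c_rc_14_2 lc_c_rc_7_5 lc_c_rc_12_14 lc_c_rc_13_2 lc_c_rc_7_5 lc_c_rc_22_5 lc_c_rc_13_2 lc_c_rc_22_7 lc_c_rc_23_5 lc_c_rc_11_1 lc_c_rc_13_2 lc_c_rc_26_4 lc_c_rc_11_1 lc_c_rc_13_2 lc_c_rc_26_8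 lc_c_rc_11_1 lc_c_rc_2_3 lc_c_rc_24_4 lc_c_rc_24_4 lc_c_rc_22_7 lc_c_rc_13_2 lc_c_Cert_tree lc_c_Cert_tree lc_c_Cert_tree lc_c_rc_14_2 lc_c_Cert_tree lc_c_Cert_tree lc_c_rc_11_1 lc_c_Cert_tree lc_c_rc_24_6 lc_c_Cert_tree lc_c_rc_23_5 lc_c_rc_13_0 lc_c_rc_13_0 lc_c_rc_24_2 lc_c_Cert_tree lc_c_rc_7_3 lc_c_rc_11_1 lc_c_Cert_tree lc_c_Cert_tree lc_c_rc_23_5 lc_c_Cert_tree lc_c_rc_13_2 lc_c_Cert_tree lc_c_rc_23_0 lc_c_rc_26_10 lc_c_rc_2_3 lc_c_Cert_tree lc_c_rc_26_10 lc_c_rc_26_2 lc_c_rc_7_1 lc_c_Cert_tree lc_c_Cert_tree) (@D3.rec (fun _ => (Cert rels S Gen.c)) lc_c_rc_11_1 lc_c_rc_24_4 lc_c_rc_11_1 lc_c_rc_13_2 lc_c_rc_23_0 lc_c_Cert_tree lc_c_rc_13_2 lc_c_rc_11_1 lc_c_rc_13_2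 lc_c_Cert_tree lc_c_Cert_tree lc_c_rc_11_1 lc_c_Cert_tree lc_c_Cert_tree lc_c_rc_11_1 lc_c_rc_13_2 lc_c_rc_13_2 lc_c_Cert_tree lc_c_rc_13_2 lc_c_rc_11_1 lc_c_Cert_tree lc_c_Cert_tree lc_c_Cert_tree lc_c_rc_14_2 lc_c_rc_11_1 lc_c_Cert_tree lc_c_rc_7_3 lc_c_rc_26_4 lc_c_Cert_tree lc_c_Cert_tree lc_c_Cert_tree lc_c_rc_11_1 lc_c_rc_13_2 lc_c_rc_13_2 lc_c_rc_7_5 lc_c_Cert_tree lc_c_rc_14_2 lc_c_rc_11_1 lc_c_rc_13_2 lc_c_Cert_tree lc_c_rc_11_1 lc_c_rc_13_2 lc_c_rc_23_0 lc_c_rc_11_1 lc_c_Cert_tree lc_c_rc_7_1 lc_c_rc_11_1 lc_c_Cert_tree lc_c_rc_13_2 lc_c_Cert_tree lc_c_rc_11_1 lc_c_Cert_tree lc_c_Cert_tree lc_c_Cert_tree lc_c_rc_11_1 lc_c_rc_14_2 lc_c_Cert_tree lc_c_rc_22_5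 lc_c_rc_23_5 lc_c_rc_7_3 lc_c_rc_22_3 lc_c_rc_23_5) (@D3.rec (fun _ => (Cert rels S Gen.c)) lc_c_rc_23_0 lc_c_rc_23_0 lc_c_rc_11_1 lc_c_rc_7_3 lc_c_rc_13_2 lc_c_rc_11_1 lc_c_Cert_tree lc_c_rc_11_1 lc_c_rc_13_2 lc_c_rc_11_1 lc_c_Cert_tree lc_c_rc_13_2 lc_c_rc_11_1 lc_c_rc_13_2 lc_c_Cert_tree lc_c_Cert_tree lc_c_rc_13_2 lc_c_rc_11_1 lc_c_rc_13_2 lc_c_Cert_tree lc_c_rc_26_4 lc_c_rc_11_1 lc_c_Cert_tree lc_c_rc_7_5 lc_c_Cert_tree lc_c_rc_13_2 lc_c_Cert_tree lc_c_Cert_tree lc_c_rc_11_1 lc_c_rc_13_2 lc_c_Cert_tree lc_c_Cert_tree lc_c_Cert_tree lc_c_rc_14_2 lc_c_rc_11_1 lc_c_rc_13_2 lc_c_rc_26_8 lc_c_rc_11_1 lc_c_rc_13_2 lc_c_rc_2_3 lc_c_rc_11_1 lc_c_Cert_tree lc_c_rc_13_2 lc_c_Cert_tree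 lc_c_Cert_tree lc_c_Cert_tree lc_c_rc_14_2 lc_c_rc_11_1 lc_c_Cert_tree lc_c_Cert_tree lc_c_Cert_tree lc_c_rc_11_1 lc_c_rc_14_2 lc_c_Cert_tree lc_c_rc_13_2 lc_c_Cert_tree lc_c_rc_22_9 lc_c_rc_23_5 lc_c_rc_23_5 lc_c_rc_13_0 lc_c_rc_23_5 lc_c_Cert_tree) (@D3.rec (fun _ => (Cert rels S Gen.c)) lc_c_rc_13_2 lc_c_Cert_tree lc_c_rc_22_5 lc_c_rc_13_2 lc_c_rc_11_1 lc_c_rc_14_2 lc_c_rc_13_0 lc_c_rc_23_5 lc_c_rc_23_0 lc_c_rc_11_1 lc_c_rc_13_2 lc_c_rc_26_8 lc_c_Cert_tree lc_c_rc_2_1 lc_c_Cert_tree lc_c_rc_11_1 lc_c_Cert_tree lc_c_rc_12_4 lc_c_rc_13_2 lc_c_Cert_tree lc_c_rc_11_1 lc_c_rc_13_2 lc_c_rc_14_2 lc_c_rc_2_3 lc_c_Cert_tree lc_c_rc_14_2 lc_c_rc_11_1 lc_c_rc_13_2 lc_c_rc_11_1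 lc_c_rc_23_5 lc_c_rc_7_3 lc_c_rc_22_3 lc_c_rc_13_2 lc_c_rc_14_2 lc_c_rc_7_3 lc_c_rc_25_17 lc_c_rc_2_3 lc_c_rc_13_2 lc_c_rc_26_4 lc_c_Cert_tree lc_c_rc_11_1 lc_c_rc_14_2 lc_c_Cert_tree lc_c_rc_11_1 lc_c_rc_26_2 lc_c_rc_13_2 lc_c_rc_11_1 lc_c_rc_13_2 lc_c_rc_14_0 lc_c_Cert_tree lc_c_rc_7_5 lc_c_rc_11_1 lc_c_rc_13_2 lc_c_Cert_tree lc_c_rc_7_3 lc_c_rc_11_1 lc_c_rc_13_2 lc_c_Cert_tree lc_c_Cert_tree lc_c_rc_14_2 lc_c_Cert_tree lc_c_Cert_tree) (@D3.rec (fun _ => (Cert rels S Gen.c)) lc_c_rc_11_1 lc_c_rc_14_2 lc_c_rc_7_3 lc_c_rc_2_1 lc_c_rc_13_2 lc_c_Cert_tree lc_c_Cert_tree lc_c_rc_14_2 lc_c_rc_12_0 lc_c_rc_11_1 lc_c_rc_13_2 lc_c_rc_11_1 lc_c_rc_24_6 lc_c_rc_7_1 lc_c_rc_23_5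 lc_c_rc_13_2 lc_c_rc_7_3 lc_c_Cert_tree lc_c_rc_13_2 lc_c_rc_14_2 lc_c_Cert_tree lc_c_rc_11_1 lc_c_rc_13_2 lc_c_rc_7_1 lc_c_rc_23_5 lc_c_rc_13_2 lc_c_Cert_tree lc_c_Cert_tree lc_c_Cert_tree lc_c_rc_14_2 lc_c_Cert_tree lc_c_rc_11_1 lc_c_rc_24_4 lc_c_rc_13_2 lc_c_Cert_tree lc_c_rc_11_1 lc_c_rc_12_8 lc_c_rc_2_1 lc_c_rc_24_6 lc_c_rc_24_6 lc_c_rc_11_1 lc_c_rc_13_2 lc_c_Cert_tree lc_c_Cert_tree lc_c_Cert_tree lc_c_rc_14_2 lc_c_Cert_tree lc_c_rc_11_1 lc_c_Cert_tree lc_c_rc_13_2 lc_c_Cert_tree lc_c_rc_11_1 lc_c_Cert_tree lc_c_rc_26_2 lc_c_Cert_tree lc_c_Cert_tree lc_c_Cert_tree lc_c_Cert_tree lc_c_rc_11_1 lc_c_rc_11_1 lc_c_rc_23_0 lc_c_rc_11_1) (@D3.rec (fun _ => (Cert rels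 S Gen.c)) lc_c_rc_11_1 lc_c_Cert_tree lc_c_Cert_tree lc_c_Cert_tree lc_c_Cert_tree lc_c_rc_7_3 lc_c_Cert_tree lc_c_Cert_tree lc_c_Cert_tree lc_c_rc_23_5 lc_c_rc_26_2 lc_c_rc_13_2 lc_c_rc_11_1 lc_c_rc_13_2 lc_c_rc_24_4 lc_c_rc_11_1 lc_c_Cert_tree lc_c_rc_13_2 lc_c_Cert_tree lc_c_Cert_tree lc_c_rc_14_2 lc_c_rc_2_3 lc_c_rc_13_2 lc_c_Cert_tree lc_c_Cert_tree lc_c_rc_23_5 lc_c_rc_11_1 lc_c_rc_24_2 lc_c_rc_11_1 lc_c_rc_14_2 lc_c_Cert_tree lc_c_rc_2_3 lc_c_Cert_tree lc_c_rc_7_5 lc_c_Cert_tree lc_c_Cert_tree lc_c_Cert_tree lc_c_rc_11_1 lc_c_rc_23_0 lc_c_rc_23_0 lc_c_rc_23_5 lc_c_Cert_tree lc_c_Cert_tree lc_c_rc_11_1 lc_c_Cert_tree lc_c_rc_7_5 lc_c_Cert_tree lc_c_rc_11_1 lc_c_rc_13_2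 lc_c_rc_24_8 lc_c_rc_11_1 lc_c_Cert_tree lc_c_rc_24_8 lc_c_rc_11_1 lc_c_rc_11_1 lc_c_rc_13_2 lc_c_rc_11_1 lc_c_rc_13_2 lc_c_Cert_tree lc_c_rc_11_1 lc_c_rc_13_2 lc_c_Cert_tree) (@D3.rec (fun _ => (Cert rels S Gen.c)) lc_c_rc_11_1 lc_c_rc_13_2 lc_c_rc_24_6 lc_c_rc_24_6 lc_c_rc_7_3 lc_c_rc_22_7 lc_c_Cert_tree lc_c_rc_11_1 lc_c_rc_13_2 lc_c_Cert_tree lc_c_rc_11_1 lc_c_rc_24_8 lc_c_rc_7_3 lc_c_rc_24_2 lc_c_rc_11_1 lc_c_rc_26_4 lc_c_rc_11_1 lc_c_rc_24_8 lc_c_rc_26_8 lc_c_rc_11_1 lc_c_rc_26_4 lc_c_rc_11_1 lc_c_rc_11_1 lc_c_Cert_tree lc_c_Cert_tree lc_c_Cert_tree lc_c_rc_11_1 lc_c_rc_14_2 lc_c_Cert_tree lc_c_Cert_tree lc_c_rc_13_2 lc_c_rc_11_1 lc_c_rc_13_2 lc_c_Cert_tree lc_c_rc_13_2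 lc_c_Cert_tree lc_c_rc_13_2 lc_c_rc_11_1 lc_c_rc_13_2 lc_c_Cert_tree lc_c_rc_11_1 lc_c_rc_13_2 lc_c_rc_24_2 lc_c_rc_11_1 lc_c_rc_13_2 lc_c_rc_11_1 lc_c_rc_11_1 lc_c_rc_7_3 lc_c_Cert_tree lc_c_rc_14_2 lc_c_rc_13_2 lc_c_rc_11_1 lc_c_rc_13_2 lc_c_rc_23_0 lc_c_rc_7_3 lc_c_rc_12_4 lc_c_rc_23_5 lc_c_rc_23_5 lc_c_rc_14_2 lc_c_Cert_tree lc_c_rc_13_2 lc_c_Cert_tree) (@D3.rec (fun _ => (Cert rels S Gen.c)) lc_c_rc_11_1 lc_c_rc_13_2 lc_c_rc_7_3 lc_c_rc_11_1 lc_c_rc_13_2 lc_c_Cert_tree lc_c_rc_14_2 lc_c_rc_11_1 lc_c_rc_13_2 lc_c_rc_7_1 lc_c_rc_23_5 lc_c_rc_13_2 lc_c_rc_26_2 lc_c_rc_26_2 lc_c_rc_23_5 lc_c_rc_11_1 lc_c_rc_13_2 lc_c_rc_7_1 lc_c_rc_23_5 lc_c_rc_14_2 lc_c_rc_24_4 lc_c_rc_22_3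 lc_c_Cert_tree lc_c_rc_23_5 lc_c_rc_13_2 lc_c_Cert_tree lc_c_rc_23_5 lc_c_Cert_tree lc_c_Cert_tree lc_c_rc_2_3 lc_c_Cert_tree lc_c_rc_14_2 lc_c_rc_24_2 lc_c_rc_24_8 lc_c_rc_13_2 lc_c_rc_13_2 lc_c_rc_11_1 lc_c_rc_13_2 lc_c_rc_7_3 lc_c_rc_13_2 lc_c_rc_22_5 lc_c_rc_11_1 lc_c_rc_23_5 lc_c_rc_7_3 lc_c_rc_13_2 lc_c_rc_22_5 lc_c_rc_11_1 lc_c_rc_13_2 lc_c_rc_7_3 lc_c_rc_13_2 lc_c_rc_2_3 lc_c_rc_14_2 lc_c_rc_2_3 lc_c_Cert_tree lc_c_Cert_tree lc_c_rc_13_2 lc_c_rc_26_2 lc_c_Cert_tree lc_c_Cert_tree lc_c_rc_11_1 lc_c_Cert_tree lc_c_rc_22_5)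
def ce_c_3 : D2 → D3 → (Cert rels S Gen.c) := @D2.rec (fun _ => D3 → (Cert rels S Gen.c)) (@D3.rec (fun _ => (Cert rels S Gen.c)) lc_c_rc_11_1 lc_c_Cert_tree lc_c_rc_13_2 lc_c_rc_13_2 lc_c_rc_13_2 lc_c_rc_14_2 lc_c_rc_11_1 lc_c_Cert_tree lc_c_rc_26_10 lc_c_rc_26_10 lc_c_rc_7_3 lc_c_Cert_tree lc_c_rc_13_2 lc_c_Cert_tree lc_c_Cert_tree lc_c_rc_11_1 lc_c_rc_13_2 lc_c_rc_14_2 lc_c_rc_11_1 lc_c_rc_24_4 lc_c_rc_7_5 lc_c_Cert_tree lc_c_rc_7_3 lc_c_rc_7_3 lc_c_rc_13_2 lc_c_rc_14_2 lc_c_rc_2_3 lc_c_rc_14_2 lc_c_rc_13_2 lc_c_rc_13_2 lc_c_rc_13_2 lc_c_rc_13_2 lc_c_rc_23_0 lc_c_rc_2_3 lc_c_rc_26_10 lc_c_rc_12_14 lc_c_rc_24_6 lc_c_rc_11_1 lc_c_Cert_tree lc_c_rc_13_2 lc_c_Cert_tree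 lc_c_Cert_tree lc_c_rc_14_2 lc_c_rc_26_10 lc_c_rc_11_1 lc_c_Cert_tree lc_c_Cert_tree lc_c_Cert_tree lc_c_rc_23_5 lc_c_Cert_tree lc_c_Cert_tree lc_c_rc_23_5 lc_c_rc_26_2 lc_c_Cert_tree lc_c_rc_23_5 lc_c_Cert_tree lc_c_Cert_tree lc_c_rc_11_1 lc_c_Cert_tree lc_c_rc_13_2 lc_c_Cert_tree lc_c_rc_14_2) (@D3.rec (fun _ => (Cert rels S Gen.c)) lc_c_rc_23_5 lc_c_rc_11_1 lc_c_Cert_tree lc_c_rc_23_0 lc_c_Cert_tree lc_c_rc_14_2 lc_c_rc_13_0 lc_c_Cert_tree lc_c_rc_26_8 lc_c_Cert_tree lc_c_rc_11_1 lc_c_rc_7_3 lc_c_rc_24_2 lc_c_rc_13_2 lc_c_Cert_tree lc_c_Cert_tree lc_c_rc_11_1 lc_c_Cert_tree lc_c_Cert_tree lc_c_Cert_tree lc_c_rc_11_1 lc_c_rc_7_3 lc_c_rc_11_1 lc_c_rc_13_2 lc_c_Cert_tree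 lc_c_rc_26_4 lc_c_Cert_tree lc_c_rc_13_2 lc_c_rc_24_2 lc_c_rc_11_1 lc_c_Cert_tree lc_c_rc_26_4 lc_c_rc_23_0 lc_c_rc_26_4 lc_c_rc_14_2 lc_c_Cert_tree lc_c_rc_11_1 lc_c_rc_14_2 lc_c_rc_13_2 lc_c_rc_13_2 lc_c_rc_26_2 lc_c_rc_11_1 lc_c_rc_7_3 lc_c_rc_22_7 lc_c_rc_13_2 lc_c_Cert_tree lc_c_Cert_tree lc_c_rc_14_2 lc_c_rc_11_1 lc_c_rc_7_1 lc_c_rc_11_1 lc_c_rc_24_2 lc_c_rc_11_1 lc_c_rc_13_2 lc_c_rc_7_1 lc_c_rc_11_1 lc_c_rc_13_2 lc_c_Cert_tree lc_c_rc_14_2 lc_c_Cert_tree lc_c_rc_24_4 lc_c_rc_14_0) (@D3.rec (fun _ => (Cert rels S Gen.c)) lc_c_rc_22_9 lc_c_rc_24_4 lc_c_rc_13_2 lc_c_rc_24_4 lc_c_rc_24_4 lc_c_rc_2_3 lc_c_Cert_tree lc_c_rc_13_2 lc_c_rc_13_2 lc_c_rc_22_3 lc_c_Cert_tree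 lc_c_Cert_tree lc_c_Cert_tree lc_c_rc_14_2 lc_c_rc_13_2 lc_c_Cert_tree lc_c_rc_11_1 lc_c_rc_13_2 lc_c_Cert_tree lc_c_rc_11_1 lc_c_Cert_tree lc_c_rc_13_2 lc_c_rc_13_2 lc_c_Cert_tree lc_c_Cert_tree lc_c_Cert_tree lc_c_rc_26_4 lc_c_Cert_tree lc_c_rc_11_1 lc_c_rc_13_2 lc_c_rc_7_5 lc_c_Cert_tree lc_c_Cert_tree lc_c_rc_14_2 lc_c_Cert_tree lc_c_Cert_tree lc_c_rc_7_3 lc_c_Cert_tree lc_c_rc_23_0 lc_c_Cert_tree lc_c_Cert_tree lc_c_rc_11_1 lc_c_rc_22_5 lc_c_Cert_tree lc_c_rc_24_4 lc_c_rc_11_1 lc_c_rc_25_17 lc_c_rc_13_2 lc_c_rc_7_1 lc_c_Cert_tree lc_c_rc_13_2 lc_c_rc_14_0 lc_c_rc_11_1 lc_c_rc_23_0 lc_c_rc_11_1 lc_c_rc_24_4 lc_c_Cert_tree lc_c_Cert_tree lc_c_rc_11_1 lc_c_rc_13_2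 lc_c_rc_7_1 lc_c_Cert_tree) (@D3.rec (fun _ => (Cert rels S Gen.c)) lc_c_rc_13_2 lc_c_rc_11_1 lc_c_rc_2_3 lc_c_Cert_tree lc_c_rc_14_2 lc_c_Cert_tree lc_c_rc_13_0 lc_c_Cert_tree lc_c_Cert_tree lc_c_Cert_tree lc_c_rc_23_5 lc_c_Cert_tree lc_c_Cert_tree lc_c_rc_11_1 lc_c_rc_7_3 lc_c_rc_22_9 lc_c_rc_2_3 lc_c_rc_13_2 lc_c_rc_13_0 lc_c_rc_11_1 lc_c_Cert_tree lc_c_rc_14_2 lc_c_rc_11_1 lc_c_rc_11_1 lc_c_rc_13_2 lc_c_rc_26_8 lc_c_rc_11_1 lc_c_rc_2_1 lc_c_Cert_tree lc_c_Cert_tree lc_c_Cert_tree lc_c_rc_26_4 lc_c_rc_11_1 lc_c_rc_22_3 lc_c_rc_13_2 lc_c_rc_11_1 lc_c_rc_2_1 lc_c_Cert_tree lc_c_rc_13_2 lc_c_Cert_tree lc_c_rc_14_2 lc_c_rc_13_2 lc_c_Cert_tree lc_c_Cert_tree lc_c_rc_13_0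 lc_c_Cert_tree lc_c_rc_13_2 lc_c_rc_14_2 lc_c_rc_23_5 lc_c_Cert_tree lc_c_rc_13_2 lc_c_Cert_tree lc_c_rc_14_2 lc_c_rc_11_1 lc_c_Cert_tree lc_c_rc_13_2 lc_c_rc_11_1 lc_c_Cert_tree lc_c_rc_11_1 lc_c_rc_2_3 lc_c_rc_26_2 lc_c_rc_13_2) (@D3.rec (fun _ => (Cert rels S Gen.c)) lc_c_rc_11_1 lc_c_rc_11_1 lc_c_Cert_tree lc_c_rc_13_2 lc_c_rc_13_2 lc_c_Cert_tree lc_c_rc_14_2 lc_c_rc_11_1 lc_c_rc_25_17 lc_c_rc_13_2 lc_c_Cert_tree lc_c_rc_7_5 lc_c_Cert_tree lc_c_rc_13_2 lc_c_rc_11_1 lc_c_rc_13_2 lc_c_rc_2_3 lc_c_rc_11_1 lc_c_rc_26_2 lc_c_rc_14_2 lc_c_rc_24_8 lc_c_rc_13_2 lc_c_Cert_tree lc_c_rc_14_2 lc_c_rc_11_1 lc_c_rc_11_1 lc_c_rc_13_2 lc_c_rc_11_1 lc_c_rc_23_5 lc_c_rc_24_2 lc_c_rc_11_1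 lc_c_rc_11_1 lc_c_rc_22_3 lc_c_rc_26_10 lc_c_rc_13_2 lc_c_rc_13_2 lc_c_rc_22_3 lc_c_rc_13_2 lc_c_rc_14_0 lc_c_rc_11_1 lc_c_rc_26_4 lc_c_rc_11_1 lc_c_rc_11_1 lc_c_rc_26_8 lc_c_rc_11_1 lc_c_rc_13_2 lc_c_rc_13_2 lc_c_Cert_tree lc_c_Cert_tree lc_c_Cert_tree lc_c_rc_14_2 lc_c_rc_11_1 lc_c_rc_7_1 lc_c_rc_13_2 lc_c_rc_11_1 lc_c_rc_24_2 lc_c_rc_11_1 lc_c_Cert_tree lc_c_rc_13_2 lc_c_rc_11_1 lc_c_rc_13_2 lc_c_rc_26_10) (@D3.rec (fun _ => (Cert rels S Gen.c)) lc_c_Cert_tree lc_c_rc_14_2 lc_c_rc_11_1 lc_c_Cert_tree lc_c_rc_13_2 lc_c_Cert_tree lc_c_rc_13_2 lc_c_rc_11_1 lc_c_rc_13_2 lc_c_rc_23_0 lc_c_Cert_tree lc_c_rc_14_2 lc_c_rc_24_4 lc_c_Cert_tree lc_c_Cert_tree lc_c_rc_2_1 lc_c_Cert_tree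 lc_c_rc_11_1 lc_c_Cert_tree lc_c_rc_13_2 lc_c_rc_11_1 lc_c_Cert_tree lc_c_rc_13_2 lc_c_Cert_tree lc_c_Cert_tree lc_c_rc_11_1 lc_c_rc_14_2 lc_c_Cert_tree lc_c_rc_13_2 lc_c_Cert_tree lc_c_rc_13_2 lc_c_rc_11_1 lc_c_rc_7_3 lc_c_rc_11_1 lc_c_rc_14_2 lc_c_rc_13_2 lc_c_rc_11_1 lc_c_rc_11_1 lc_c_Cert_tree lc_c_rc_22_7 lc_c_Cert_tree lc_c_rc_13_2 lc_c_rc_22_5 lc_c_rc_13_2 lc_c_rc_22_7 lc_c_rc_7_3 lc_c_rc_11_1 lc_c_rc_2_3 lc_c_rc_11_1 lc_c_rc_13_2 lc_c_rc_12_10 lc_c_rc_13_2 lc_c_Cert_tree lc_c_rc_11_1 lc_c_rc_13_2 lc_c_Cert_tree lc_c_rc_22_5 lc_c_rc_13_2 lc_c_Cert_tree lc_c_Cert_tree lc_c_Cert_tree lc_c_rc_14_2) (@D3.rec (fun _ => (Cert rels S Gen.c)) lc_c_rc_11_1 lc_c_Cert_tree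 lc_c_Cert_tree lc_c_rc_11_1 lc_c_Cert_tree lc_c_Cert_tree lc_c_Cert_tree lc_c_Cert_tree lc_c_rc_23_5 lc_c_Cert_tree lc_c_Cert_tree lc_c_rc_11_1 lc_c_rc_14_2 lc_c_rc_7_3 lc_c_rc_14_0 lc_c_rc_13_2 lc_c_rc_11_1 lc_c_rc_13_2 lc_c_Cert_tree lc_c_rc_13_2 lc_c_rc_11_1 lc_c_rc_13_2 lc_c_Cert_tree lc_c_rc_11_1 lc_c_rc_13_2 lc_c_Cert_tree lc_c_rc_11_1 lc_c_rc_2_3 lc_c_Cert_tree lc_c_rc_13_2 lc_c_Cert_tree lc_c_Cert_tree lc_c_Cert_tree lc_c_rc_14_2 lc_c_rc_11_1 lc_c_Cert_tree lc_c_Cert_tree lc_c_Cert_tree lc_c_rc_11_1 lc_c_rc_24_2 lc_c_Cert_tree lc_c_rc_23_5 lc_c_Cert_tree lc_c_Cert_tree lc_c_rc_23_5 lc_c_rc_24_2 lc_c_rc_11_1 lc_c_rc_14_2 lc_c_rc_7_3 lc_c_Cert_tree lc_c_rc_7_5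 lc_c_Cert_tree lc_c_rc_11_1 lc_c_rc_13_2 lc_c_rc_12_2 lc_c_rc_13_2 lc_c_rc_24_4 lc_c_rc_11_1 lc_c_rc_14_2 lc_c_Cert_tree lc_c_rc_23_5 lc_c_rc_13_2) (@D3.rec (fun _ => (Cert rels S Gen.c)) lc_c_rc_13_2 lc_c_rc_26_2 lc_c_Cert_tree lc_c_rc_13_2 lc_c_rc_11_1 lc_c_rc_11_1 lc_c_rc_11_1 lc_c_rc_13_2 lc_c_Cert_tree lc_c_rc_25_9 lc_c_rc_14_2 lc_c_rc_13_2 lc_c_rc_11_1 lc_c_rc_22_3 lc_c_rc_13_2 lc_c_Cert_tree lc_c_rc_14_2 lc_c_rc_7_3 lc_c_rc_7_5 lc_c_rc_13_2 lc_c_Cert_tree lc_c_Cert_tree lc_c_rc_13_2 lc_c_rc_14_2 lc_c_rc_26_8 lc_c_rc_26_4 lc_c_rc_11_1 lc_c_rc_13_2 lc_c_rc_14_2 lc_c_rc_13_2 lc_c_rc_22_7 lc_c_rc_26_2 lc_c_rc_11_1 lc_c_rc_13_2 lc_c_rc_7_1 lc_c_rc_24_2 lc_c_rc_13_2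 lc_c_Cert_tree lc_c_rc_14_2 lc_c_Cert_tree lc_c_rc_23_0 lc_c_rc_13_2 lc_c_rc_7_5 lc_c_rc_24_8 lc_c_rc_13_2 lc_c_rc_11_1 lc_c_rc_7_1 lc_c_rc_13_2 lc_c_Cert_tree lc_c_rc_22_5 lc_c_rc_23_0 lc_c_rc_14_2 lc_c_Cert_tree lc_c_rc_11_1 lc_c_rc_22_3 lc_c_rc_13_2 lc_c_Cert_tree lc_c_rc_11_1 lc_c_rc_26_4 lc_c_rc_22_3 lc_c_rc_26_10 lc_c_rc_13_0) (@D3.rec (fun _ => (Cert rels S Gen.c)) lc_c_rc_24_8 lc_c_rc_11_1 lc_c_rc_11_1 lc_c_rc_26_4 lc_c_rc_22_3 lc_c_Cert_tree lc_c_rc_23_0 lc_c_Cert_tree lc_c_rc_13_2 lc_c_Cert_tree lc_c_rc_13_2 lc_c_rc_7_3 lc_c_rc_11_1 lc_c_rc_24_2 lc_c_rc_24_4 lc_c_Cert_tree lc_c_rc_13_2 lc_c_Cert_tree lc_c_Cert_tree lc_c_rc_23_5 lc_c_rc_24_8 lc_c_rc_24_8 lc_c_rc_11_1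 lc_c_rc_14_2 lc_c_Cert_tree lc_c_Cert_tree lc_c_rc_11_1 lc_c_Cert_tree lc_c_rc_13_2 lc_c_rc_7_1 lc_c_rc_7_3 lc_c_rc_13_2 lc_c_Cert_tree lc_c_Cert_tree lc_c_rc_11_1 lc_c_rc_13_2 lc_c_rc_14_0 lc_c_Cert_tree lc_c_Cert_tree lc_c_rc_11_1 lc_c_Cert_tree lc_c_rc_14_0 lc_c_rc_7_1 lc_c_Cert_tree lc_c_rc_13_2 lc_c_rc_11_1 lc_c_rc_13_2 lc_c_Cert_tree lc_c_Cert_tree lc_c_rc_11_1 lc_c_rc_13_2 lc_c_Cert_tree lc_c_rc_11_1 lc_c_rc_13_2 lc_c_rc_11_1 lc_c_rc_7_3 lc_c_Cert_tree lc_c_rc_14_2 lc_c_rc_11_1 lc_c_Cert_tree lc_c_Cert_tree lc_c_rc_11_1) (@D3.rec (fun _ => (Cert rels S Gen.c)) lc_c_rc_12_0 lc_c_rc_7_3 lc_c_rc_13_2 lc_c_Cert_tree lc_c_Cert_tree lc_c_Cert_tree lc_c_Cert_tree lc_c_rc_11_1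 lc_c_rc_13_2 lc_c_rc_7_3 lc_c_rc_13_2 lc_c_Cert_tree lc_c_Cert_tree lc_c_rc_14_2 lc_c_Cert_tree lc_c_rc_11_1 lc_c_rc_13_2 lc_c_rc_7_1 lc_c_rc_13_2 lc_c_rc_24_8 lc_c_Cert_tree lc_c_rc_14_2 lc_c_Cert_tree lc_c_Cert_tree lc_c_rc_2_3 lc_c_Cert_tree lc_c_rc_7_3 lc_c_rc_13_2 lc_c_rc_13_2 lc_c_Cert_tree lc_c_Cert_tree lc_c_rc_13_2 lc_c_rc_11_1 lc_c_Cert_tree lc_c_rc_11_1 lc_c_rc_13_2 lc_c_rc_7_3 lc_c_rc_13_2 lc_c_rc_13_2 lc_c_Cert_tree lc_c_rc_26_8 lc_c_Cert_tree lc_c_rc_11_1 lc_c_rc_13_2 lc_c_rc_7_3 lc_c_rc_13_2 lc_c_rc_13_2 lc_c_Cert_tree lc_c_rc_14_2 lc_c_rc_13_2 lc_c_rc_26_4 lc_c_rc_11_1 lc_c_Cert_tree lc_c_rc_13_2 lc_c_rc_7_5 lc_c_Cert_tree lc_c_rc_13_2 lc_c_Cert_tree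 lc_c_rc_11_1 lc_c_rc_13_2 lc_c_rc_24_4 lc_c_rc_26_4) (@D3.rec (fun _ => (Cert rels S Gen.c)) lc_c_rc_11_1 lc_c_rc_13_2 lc_c_Cert_tree lc_c_rc_13_0 lc_c_Cert_tree lc_c_Cert_tree lc_c_rc_11_1 lc_c_rc_22_3 lc_c_Cert_tree lc_c_rc_11_1 lc_c_rc_11_1 lc_c_rc_23_0 lc_c_Cert_tree lc_c_rc_11_1 lc_c_rc_13_2 lc_c_Cert_tree lc_c_rc_13_2 lc_c_rc_11_1 lc_c_rc_13_2 lc_c_Cert_tree lc_c_rc_13_2 lc_c_rc_24_8 lc_c_rc_26_2 lc_c_rc_13_2 lc_c_rc_2_1 lc_c_Cert_tree lc_c_rc_7_3 lc_c_Cert_tree lc_c_rc_11_1 lc_c_rc_7_5 lc_c_rc_13_2 lc_c_rc_26_10 lc_c_rc_13_2 lc_c_rc_13_2 lc_c_rc_14_2 lc_c_rc_26_8 lc_c_rc_13_2 lc_c_rc_26_2 lc_c_Cert_tree lc_c_rc_11_1 lc_c_rc_11_1 lc_c_rc_11_1 lc_c_rc_11_1 lc_c_rc_11_1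 lc_c_rc_13_2 lc_c_rc_11_1 lc_c_Cert_tree lc_c_rc_13_2 lc_c_rc_26_8 lc_c_rc_11_1 lc_c_rc_7_1 lc_c_rc_13_2 lc_c_Cert_tree lc_c_rc_11_1 lc_c_Cert_tree lc_c_rc_11_1 lc_c_rc_26_8 lc_c_rc_23_5 lc_c_Cert_tree lc_c_rc_11_1 lc_c_Cert_tree lc_c_rc_13_2) (@D3.rec (fun _ => (Cert rels S Gen.c)) lc_c_rc_11_1 lc_c_Cert_tree lc_c_rc_11_1 lc_c_rc_2_1 lc_c_rc_7_3 lc_c_rc_14_2 lc_c_rc_13_2 lc_c_Cert_tree lc_c_rc_11_1 lc_c_Cert_tree lc_c_rc_7_1 lc_c_rc_23_5 lc_c_Cert_tree lc_c_Cert_tree lc_c_rc_11_1 lc_c_Cert_tree lc_c_Cert_tree lc_c_rc_11_1 lc_c_Cert_tree lc_c_rc_23_0 lc_c_rc_7_1 lc_c_Cert_tree lc_c_rc_13_2 lc_c_rc_11_1 lc_c_Cert_tree lc_c_Cert_tree lc_c_rc_11_1 lc_c_rc_14_0 lc_c_rc_13_2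 lc_c_Cert_tree lc_c_rc_11_1 lc_c_rc_13_2 lc_c_rc_23_0 lc_c_rc_11_1 lc_c_rc_7_3 lc_c_rc_22_9 lc_c_rc_14_2 lc_c_rc_14_2 lc_c_rc_11_1 lc_c_Cert_tree lc_c_Cert_tree lc_c_Cert_tree lc_c_rc_11_1 lc_c_rc_13_2 lc_c_rc_7_3 lc_c_rc_13_2 lc_c_rc_24_8 lc_c_rc_24_2 lc_c_rc_14_2 lc_c_Cert_tree lc_c_Cert_tree lc_c_Cert_tree lc_c_rc_11_1 lc_c_rc_7_3 lc_c_Cert_tree lc_c_Cert_tree lc_c_rc_2_3 lc_c_Cert_tree lc_c_rc_11_1 lc_c_rc_26_4 lc_c_rc_26_2 lc_c_Cert_tree) (@D3.rec (fun _ => (Cert rels S Gen.c)) lc_c_rc_26_4 lc_c_rc_13_2 lc_c_Cert_tree lc_c_rc_7_3 lc_c_rc_13_2 lc_c_Cert_tree lc_c_rc_13_2 lc_c_rc_11_1 lc_c_rc_7_1 lc_c_rc_7_5 lc_c_rc_13_2 lc_c_Cert_tree lc_c_Cert_tree lc_c_rc_14_2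 lc_c_rc_26_8 lc_c_rc_11_1 lc_c_rc_13_2 lc_c_rc_7_1 lc_c_rc_24_2 lc_c_rc_13_2 lc_c_Cert_tree lc_c_Cert_tree lc_c_rc_13_2 lc_c_rc_14_2 lc_c_Cert_tree lc_c_rc_26_4 lc_c_rc_13_2 lc_c_rc_7_5 lc_c_rc_22_3 lc_c_rc_13_2 lc_c_rc_2_1 lc_c_Cert_tree lc_c_rc_11_1 lc_c_Cert_tree lc_c_rc_13_2 lc_c_rc_11_1 lc_c_rc_13_2 lc_c_rc_22_5 lc_c_rc_13_2 lc_c_Cert_tree lc_c_Cert_tree lc_c_rc_14_2 lc_c_rc_13_0 lc_c_rc_13_2 lc_c_rc_23_5 lc_c_rc_23_5 lc_c_rc_11_1 lc_c_rc_13_2 lc_c_rc_22_5 lc_c_rc_13_2 lc_c_Cert_tree lc_c_Cert_tree lc_c_rc_14_2 lc_c_Cert_tree lc_c_rc_23_0 lc_c_Cert_tree lc_c_rc_23_5 lc_c_rc_26_4 lc_c_rc_11_1 lc_c_Cert_tree lc_c_rc_13_2 lc_c_rc_7_1) (@D3.rec (fun _ => (Cert rels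 S Gen.c)) lc_c_rc_13_2 lc_c_rc_14_0 lc_c_rc_13_0 lc_c_rc_11_1 lc_c_rc_11_1 lc_c_rc_24_2 lc_c_rc_24_2 lc_c_Cert_tree lc_c_rc_22_5 lc_c_rc_11_1 lc_c_Cert_tree lc_c_rc_13_2 lc_c_rc_7_1 lc_c_rc_22_9 lc_c_rc_13_2 lc_c_Cert_tree lc_c_Cert_tree lc_c_rc_14_2 lc_c_rc_13_2 lc_c_rc_13_2 lc_c_rc_13_2 lc_c_rc_11_1 lc_c_rc_12_8 lc_c_rc_13_2 lc_c_rc_23_5 lc_c_rc_13_2 lc_c_rc_11_1 lc_c_rc_24_2 lc_c_rc_13_2 lc_c_rc_22_5 lc_c_rc_11_1 lc_c_rc_13_2 lc_c_rc_26_2 lc_c_rc_2_1 lc_c_rc_11_1 lc_c_rc_22_5 lc_c_rc_11_1 lc_c_rc_13_2 lc_c_Cert_tree lc_c_Cert_tree lc_c_rc_14_2 lc_c_Cert_tree lc_c_rc_11_1 lc_c_rc_11_1 lc_c_rc_13_2 lc_c_rc_7_3 lc_c_rc_12_10 lc_c_rc_13_2 lc_c_rc_7_3 lc_c_rc_13_2 lc_c_Cert_tree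 lc_c_Cert_tree lc_c_rc_13_2 lc_c_rc_24_6 lc_c_rc_24_6 lc_c_rc_11_1 lc_c_rc_23_0 lc_c_rc_13_2 lc_c_rc_11_1 lc_c_rc_13_2 lc_c_rc_7_1 lc_c_rc_23_5) (@D3.rec (fun _ => (Cert rels S Gen.c)) lc_c_rc_13_2 lc_c_Cert_tree lc_c_Cert_tree lc_c_rc_14_2 lc_c_rc_7_5 lc_c_rc_23_5 lc_c_rc_13_2 lc_c_rc_7_5 lc_c_rc_23_5 lc_c_rc_13_2 lc_c_rc_11_1 lc_c_rc_12_14 lc_c_rc_13_2 lc_c_rc_24_6 lc_c_rc_22_7 lc_c_Cert_tree lc_c_rc_14_2 lc_c_Cert_tree lc_c_rc_11_1 lc_c_Cert_tree lc_c_rc_13_2 lc_c_rc_11_1 lc_c_Cert_tree lc_c_rc_13_2 lc_c_rc_11_1 lc_c_Cert_tree lc_c_rc_13_2 lc_c_rc_11_1 lc_c_rc_23_0 lc_c_rc_14_2 lc_c_rc_11_1 lc_c_Cert_tree lc_c_rc_13_2 lc_c_rc_11_1 lc_c_Cert_tree lc_c_rc_13_2 lc_c_rc_11_1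 lc_c_rc_23_0 lc_c_rc_13_2 lc_c_rc_11_1 lc_c_rc_13_2 lc_c_Cert_tree lc_c_rc_7_3 lc_c_rc_23_5 lc_c_rc_13_2 lc_c_Cert_tree lc_c_Cert_tree lc_c_Cert_tree lc_c_rc_11_1 lc_c_rc_2_3 lc_c_rc_22_5 lc_c_rc_24_6 lc_c_rc_23_0 lc_c_rc_13_2 lc_c_Cert_tree lc_c_Cert_tree lc_c_rc_14_2 lc_c_rc_11_1 lc_c_rc_13_2 lc_c_rc_7_1 lc_c_rc_22_9 lc_c_rc_13_2) (@D3.rec (fun _ => (Cert rels S Gen.c)) lc_c_rc_11_1 lc_c_rc_13_2 lc_c_rc_13_2 lc_c_rc_23_5 lc_c_rc_13_2 lc_c_rc_11_1 lc_c_rc_13_2 lc_c_rc_7_3 lc_c_rc_13_2 lc_c_Cert_tree lc_c_Cert_tree lc_c_Cert_tree lc_c_rc_14_2 lc_c_rc_11_1 lc_c_rc_11_1 lc_c_rc_13_2 lc_c_rc_7_3 lc_c_rc_2_3 lc_c_rc_13_2 lc_c_rc_13_2 lc_c_rc_11_1 lc_c_rc_13_2 lc_c_rc_13_2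 lc_c_rc_11_1 lc_c_rc_13_2 lc_c_rc_23_0 lc_c_rc_13_0 lc_c_rc_7_5 lc_c_rc_23_5 lc_c_rc_13_2 lc_c_rc_7_3 lc_c_rc_24_8 lc_c_rc_13_2 lc_c_rc_11_1 lc_c_rc_2_3 lc_c_rc_13_2 lc_c_rc_24_6 lc_c_rc_24_4 lc_c_rc_13_2 lc_c_rc_24_2 lc_c_rc_24_2 lc_c_Cert_tree lc_c_rc_11_1 lc_c_Cert_tree lc_c_rc_13_2 lc_c_rc_13_2 lc_c_rc_7_3 lc_c_rc_22_7 lc_c_rc_26_2 lc_c_rc_13_2 lc_c_rc_11_1 lc_c_rc_11_1 lc_c_rc_2_3 lc_c_Cert_tree lc_c_rc_7_3 lc_c_rc_13_2 lc_c_rc_12_14 lc_c_rc_11_1 lc_c_rc_13_2 lc_c_rc_7_1 lc_c_rc_11_1 lc_c_rc_13_2) (@D3.rec (fun _ => (Cert rels S Gen.c)) lc_c_Cert_tree lc_c_Cert_tree lc_c_rc_14_2 lc_c_rc_11_1 lc_c_rc_7_1 lc_c_rc_11_1 lc_c_rc_13_2 lc_c_Cert_tree lc_c_rc_14_2 lc_c_rc_13_2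 lc_c_rc_11_1 lc_c_rc_24_4 lc_c_rc_13_2 lc_c_Cert_tree lc_c_Cert_tree lc_c_rc_7_3 lc_c_rc_7_3 lc_c_rc_13_2 lc_c_rc_13_2 lc_c_rc_11_1 lc_c_rc_2_1 lc_c_Cert_tree lc_c_rc_14_2 lc_c_rc_22_5 lc_c_rc_11_1 lc_c_Cert_tree lc_c_rc_11_1 lc_c_rc_13_2 lc_c_rc_11_1 lc_c_rc_13_2 lc_c_rc_2_3 lc_c_rc_7_1 lc_c_rc_22_5 lc_c_rc_13_2 lc_c_Cert_tree lc_c_Cert_tree lc_c_Cert_tree lc_c_rc_14_2 lc_c_rc_7_5 lc_c_rc_2_1 lc_c_rc_7_5 lc_c_rc_13_2 lc_c_rc_11_1 lc_c_rc_2_3 lc_c_rc_7_5 lc_c_rc_13_2 lc_c_rc_24_6 lc_c_rc_11_1 lc_c_rc_13_2 lc_c_rc_24_2 lc_c_Cert_tree lc_c_Cert_tree lc_c_rc_14_2 lc_c_rc_11_1 lc_c_Cert_tree lc_c_rc_13_2 lc_c_rc_11_1 lc_c_Cert_tree lc_c_Cert_tree lc_c_Cert_tree lc_c_rc_11_1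 lc_c_rc_14_2) (@D3.rec (fun _ => (Cert rels S Gen.c)) lc_c_rc_11_1 lc_c_rc_13_2 lc_c_rc_7_1 lc_c_rc_26_2 lc_c_rc_13_2 lc_c_rc_26_4 lc_c_rc_22_7 lc_c_rc_14_2 lc_c_rc_11_1 lc_c_rc_11_1 lc_c_rc_2_3 lc_c_rc_26_2 lc_c_rc_13_2 lc_c_rc_13_2 lc_c_rc_26_8 lc_c_rc_23_5 lc_c_Cert_tree lc_c_rc_14_2 lc_c_rc_11_1 lc_c_Cert_tree lc_c_rc_11_1 lc_c_Cert_tree lc_c_rc_13_2 lc_c_Cert_tree lc_c_Cert_tree lc_c_rc_11_1 lc_c_rc_14_2 lc_c_Cert_tree lc_c_Cert_tree lc_c_rc_23_5 lc_c_rc_11_1 lc_c_Cert_tree lc_c_rc_13_2 lc_c_rc_13_2 lc_c_Cert_tree lc_c_rc_14_2 lc_c_rc_24_2 lc_c_rc_13_2 lc_c_rc_13_2 lc_c_Cert_tree lc_c_rc_14_2 lc_c_rc_26_4 lc_c_rc_11_1 lc_c_Cert_tree lc_c_rc_13_2 lc_c_rc_7_5 lc_c_rc_11_1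 lc_c_rc_13_2 lc_c_rc_22_5 lc_c_rc_13_2 lc_c_Cert_tree lc_c_Cert_tree lc_c_rc_11_1 lc_c_rc_13_2 lc_c_Cert_tree lc_c_Cert_tree lc_c_Cert_tree lc_c_rc_14_2 lc_c_Cert_tree lc_c_rc_13_2 lc_c_rc_13_2 lc_c_rc_7_3) (@D3.rec (fun _ => (Cert rels S Gen.c)) lc_c_rc_13_2 lc_c_Cert_tree lc_c_Cert_tree lc_c_Cert_tree lc_c_rc_14_2 lc_c_rc_13_2 lc_c_Cert_tree lc_c_rc_11_1 lc_c_Cert_tree lc_c_rc_13_2 lc_c_rc_26_8 lc_c_rc_11_1 lc_c_Cert_tree lc_c_rc_2_3 lc_c_Cert_tree lc_c_Cert_tree lc_c_rc_11_1 lc_c_rc_14_2 lc_c_rc_13_2 lc_c_rc_23_5 lc_c_rc_11_1 lc_c_Cert_tree lc_c_rc_11_1 lc_c_rc_23_0 lc_c_rc_7_1 lc_c_Cert_tree lc_c_Cert_tree lc_c_Cert_tree lc_c_rc_11_1 lc_c_rc_13_2 lc_c_rc_14_0 lc_c_Cert_tree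 lc_c_rc_11_1 lc_c_rc_26_8 lc_c_rc_13_2 lc_c_rc_7_1 lc_c_Cert_tree lc_c_rc_13_2 lc_c_rc_11_1 lc_c_rc_2_1 lc_c_rc_2_3 lc_c_Cert_tree lc_c_rc_11_1 lc_c_Cert_tree lc_c_rc_11_1 lc_c_Cert_tree lc_c_Cert_tree lc_c_Cert_tree lc_c_rc_11_1 lc_c_Cert_tree lc_c_rc_11_1 lc_c_rc_11_1 lc_c_rc_11_1 lc_c_rc_11_1 lc_c_rc_12_4 lc_c_rc_7_3 lc_c_Cert_tree lc_c_rc_7_3 lc_c_rc_13_2 lc_c_Cert_tree lc_c_Cert_tree lc_c_Cert_tree) (@D3.rec (fun _ => (Cert rels S Gen.c)) lc_c_rc_14_2 lc_c_rc_7_5 lc_c_rc_13_2 lc_c_rc_7_5 lc_c_rc_13_2 lc_c_rc_11_1 lc_c_rc_23_0 lc_c_rc_13_2 lc_c_Cert_tree lc_c_rc_13_0 lc_c_Cert_tree lc_c_rc_14_2 lc_c_rc_26_4 lc_c_rc_11_1 lc_c_Cert_tree lc_c_rc_13_2 lc_c_Cert_tree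 lc_c_rc_11_1 lc_c_Cert_tree lc_c_Cert_tree lc_c_Cert_tree lc_c_rc_11_1 lc_c_rc_14_2 lc_c_rc_11_1 lc_c_Cert_tree lc_c_rc_13_2 lc_c_Cert_tree lc_c_rc_11_1 lc_c_rc_24_8 lc_c_rc_11_1 lc_c_rc_11_1 lc_c_rc_11_1 lc_c_Cert_tree lc_c_rc_23_0 lc_c_Cert_tree lc_c_rc_23_5 lc_c_rc_11_1 lc_c_rc_11_1 lc_c_rc_7_3 lc_c_Cert_tree lc_c_rc_14_2 lc_c_rc_13_2 lc_c_rc_7_3 lc_c_rc_14_2 lc_c_rc_13_2 lc_c_Cert_tree lc_c_rc_7_3 lc_c_rc_13_2 lc_c_rc_13_2 lc_c_rc_22_9 lc_c_rc_13_2 lc_c_rc_13_0 lc_c_Cert_tree lc_c_Cert_tree lc_c_rc_14_2 lc_c_rc_11_1 lc_c_Cert_tree lc_c_Cert_tree lc_c_Cert_tree lc_c_rc_11_1 lc_c_rc_14_2 lc_c_Cert_tree) (@D3.rec (fun _ => (Cert rels S Gen.c)) lc_c_Cert_tree lc_c_rc_11_1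 lc_c_rc_11_1 lc_c_Cert_tree lc_c_rc_11_1 lc_c_rc_23_5 lc_c_rc_13_2 lc_c_Cert_tree lc_c_rc_13_2 lc_c_rc_23_0 lc_c_rc_11_1 lc_c_rc_7_3 lc_c_rc_22_9 lc_c_rc_14_2 lc_c_rc_13_2 lc_c_Cert_tree lc_c_rc_11_1 lc_c_rc_13_2 lc_c_rc_11_1 lc_c_Cert_tree lc_c_rc_24_2 lc_c_rc_13_2 lc_c_rc_2_1 lc_c_rc_14_2 lc_c_rc_14_2 lc_c_Cert_tree lc_c_rc_13_2 lc_c_rc_24_8 lc_c_Cert_tree lc_c_rc_14_2 lc_c_Cert_tree lc_c_Cert_tree lc_c_rc_14_2 lc_c_rc_26_2 lc_c_rc_11_1 lc_c_Cert_tree lc_c_rc_25_13 lc_c_rc_23_0 lc_c_rc_11_1 lc_c_Cert_tree lc_c_rc_13_2 lc_c_rc_11_1 lc_c_Cert_tree lc_c_Cert_tree lc_c_rc_11_1 lc_c_Cert_tree lc_c_rc_13_2 lc_c_Cert_tree lc_c_Cert_tree lc_c_rc_11_1 lc_c_rc_13_2 lc_c_Cert_tree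 lc_c_rc_14_2 lc_c_Cert_tree lc_c_Cert_tree lc_c_rc_11_1 lc_c_Cert_tree lc_c_rc_13_2 lc_c_rc_11_1 lc_c_rc_13_2 lc_c_rc_23_5 lc_c_rc_14_2) (@D3.rec (fun _ => (Cert rels S Gen.c)) lc_c_Cert_tree lc_c_rc_11_1 lc_c_rc_23_5 lc_c_rc_13_2 lc_c_Cert_tree lc_c_rc_11_1 lc_c_rc_23_0 lc_c_rc_23_0 lc_c_rc_24_8 lc_c_rc_7_3 lc_c_rc_11_1 lc_c_rc_14_2 lc_c_rc_13_2 lc_c_rc_11_1 lc_c_rc_11_1 lc_c_rc_2_1 lc_c_rc_11_1 lc_c_rc_13_2 lc_c_Cert_tree lc_c_Cert_tree lc_c_rc_11_1 lc_c_rc_13_2 lc_c_Cert_tree lc_c_Cert_tree lc_c_Cert_tree lc_c_rc_26_4 lc_c_rc_26_2 lc_c_Cert_tree lc_c_Cert_tree lc_c_rc_11_1 lc_c_rc_13_2 lc_c_rc_22_9 lc_c_Cert_tree lc_c_rc_11_1 lc_c_rc_11_1 lc_c_rc_23_5 lc_c_rc_7_3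 lc_c_rc_23_0 lc_c_rc_13_2 lc_c_rc_11_1 lc_c_rc_11_1 lc_c_rc_13_2 lc_c_Cert_tree lc_c_rc_7_1 lc_c_Cert_tree lc_c_rc_13_2 lc_c_rc_11_1 lc_c_Cert_tree lc_c_Cert_tree lc_c_rc_2_3 lc_c_Cert_tree lc_c_rc_13_2 lc_c_rc_11_1 lc_c_rc_13_2 lc_c_rc_22_9 lc_c_rc_14_2 lc_c_rc_7_3 lc_c_rc_24_2 lc_c_rc_11_1 lc_c_rc_11_1 lc_c_Cert_tree lc_c_rc_13_2) (@D3.rec (fun _ => (Cert rels S Gen.c)) lc_c_rc_11_1 lc_c_rc_11_1 lc_c_rc_13_2 lc_c_rc_11_1 lc_c_Cert_tree lc_c_rc_11_1 lc_c_rc_13_2 lc_c_Cert_tree lc_c_rc_11_1 lc_c_rc_11_1 lc_c_rc_11_1 lc_c_rc_7_3 lc_c_rc_12_2 lc_c_Cert_tree lc_c_Cert_tree lc_c_rc_11_1 lc_c_rc_7_3 lc_c_Cert_tree lc_c_rc_11_1 lc_c_rc_13_2 lc_c_rc_7_3 lc_c_rc_13_2 lc_c_rc_11_1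 lc_c_rc_11_1 lc_c_rc_13_2 lc_c_rc_7_1 lc_c_rc_13_2 lc_c_Cert_tree lc_c_Cert_tree lc_c_rc_14_2 lc_c_Cert_tree lc_c_rc_13_2 lc_c_Cert_tree lc_c_Cert_tree lc_c_rc_2_3 lc_c_rc_13_2 lc_c_rc_11_1 lc_c_rc_13_2 lc_c_rc_11_1 lc_c_rc_26_4 lc_c_rc_22_7 lc_c_rc_13_2 lc_c_rc_13_0 lc_c_rc_25_17 lc_c_rc_24_2 lc_c_Cert_tree lc_c_Cert_tree lc_c_rc_26_4 lc_c_rc_11_1 lc_c_rc_7_3 lc_c_rc_13_2 lc_c_Cert_tree lc_c_rc_11_1 lc_c_rc_7_5 lc_c_rc_24_6 lc_c_rc_13_2 lc_c_rc_26_10 lc_c_rc_14_2 lc_c_rc_11_1 lc_c_rc_7_3 lc_c_rc_11_1 lc_c_rc_13_2) (@D3.rec (fun _ => (Cert rels S Gen.c)) lc_c_rc_26_2 lc_c_rc_11_1 lc_c_rc_13_2 lc_c_rc_11_1 lc_c_rc_13_2 lc_c_rc_24_6 lc_c_rc_2_1 lc_c_rc_13_2 lc_c_Cert_tree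 lc_c_Cert_tree lc_c_rc_14_2 lc_c_rc_13_2 lc_c_rc_11_1 lc_c_rc_24_6 lc_c_rc_11_1 lc_c_rc_13_2 lc_c_Cert_tree lc_c_Cert_tree lc_c_rc_14_2 lc_c_rc_24_2 lc_c_rc_11_1 lc_c_rc_13_2 lc_c_rc_7_1 lc_c_rc_11_1 lc_c_rc_13_2 lc_c_rc_14_0 lc_c_Cert_tree lc_c_rc_14_2 lc_c_Cert_tree lc_c_rc_24_4 lc_c_rc_13_2 lc_c_rc_7_3 lc_c_rc_24_4 lc_c_rc_13_2 lc_c_rc_24_6 lc_c_rc_11_1 lc_c_rc_2_3 lc_c_Cert_tree lc_c_rc_13_2 lc_c_rc_22_5 lc_c_rc_24_6 lc_c_rc_13_2 lc_c_rc_22_3 lc_c_rc_2_3 lc_c_rc_22_7 lc_c_rc_14_2 lc_c_rc_13_2 lc_c_rc_26_4 lc_c_rc_11_1 lc_c_rc_23_5 lc_c_rc_26_2 lc_c_Cert_tree lc_c_rc_11_1 lc_c_rc_24_4 lc_c_rc_13_2 lc_c_rc_23_0 lc_c_Cert_tree lc_c_Cert_tree lc_c_Cert_tree lc_c_Cert_tree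 lc_c_rc_11_1 lc_c_rc_13_2) (@D3.rec (fun _ => (Cert rels S Gen.c)) lc_c_rc_26_8 lc_c_rc_11_1 lc_c_rc_13_2 lc_c_rc_13_2 lc_c_Cert_tree lc_c_Cert_tree lc_c_rc_22_9 lc_c_rc_24_8 lc_c_rc_24_8 lc_c_rc_11_1 lc_c_rc_26_10 lc_c_Cert_tree lc_c_rc_11_1 lc_c_rc_11_1 lc_c_Cert_tree lc_c_Cert_tree lc_c_rc_13_2 lc_c_rc_26_8 lc_c_rc_24_2 lc_c_rc_13_2 lc_c_rc_24_8 lc_c_rc_24_2 lc_c_rc_11_1 lc_c_Cert_tree lc_c_rc_13_2 lc_c_rc_26_4 lc_c_rc_11_1 lc_c_rc_7_3 lc_c_rc_22_3 lc_c_rc_13_2 lc_c_Cert_tree lc_c_Cert_tree lc_c_rc_14_2 lc_c_rc_24_6 lc_c_rc_7_3 lc_c_rc_11_1 lc_c_rc_13_2 lc_c_rc_13_2 lc_c_rc_11_1 lc_c_rc_12_4 lc_c_rc_13_2 lc_c_rc_7_3 lc_c_rc_13_2 lc_c_rc_11_1 lc_c_rc_13_2 lc_c_rc_7_1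 lc_c_rc_11_1 lc_c_Cert_tree lc_c_rc_14_2 lc_c_rc_26_8 lc_c_rc_11_1 lc_c_Cert_tree lc_c_rc_13_2 lc_c_rc_7_3 lc_c_rc_11_1 lc_c_Cert_tree lc_c_rc_13_2 lc_c_rc_11_1 lc_c_Cert_tree lc_c_rc_13_2 lc_c_rc_11_1 lc_c_Cert_tree) (@D3.rec (fun _ => (Cert rels S Gen.c)) lc_c_rc_13_2 lc_c_rc_11_1 lc_c_rc_11_1 lc_c_rc_11_1 lc_c_rc_11_1 lc_c_rc_22_9 lc_c_Cert_tree lc_c_rc_11_1 lc_c_rc_11_1 lc_c_rc_11_1 lc_c_rc_2_3 lc_c_rc_24_6 lc_c_rc_7_3 lc_c_Cert_tree lc_c_rc_13_2 lc_c_rc_13_2 lc_c_rc_26_2 lc_c_rc_11_1 lc_c_rc_11_1 lc_c_rc_11_1 lc_c_rc_22_7 lc_c_rc_12_2 lc_c_Cert_tree lc_c_rc_11_1 lc_c_rc_13_2 lc_c_rc_13_2 lc_c_rc_24_4 lc_c_rc_11_1 lc_c_rc_14_2 lc_c_rc_11_1 lc_c_Cert_tree lc_c_rc_11_1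 lc_c_rc_13_2 lc_c_rc_25_5 lc_c_rc_7_5 lc_c_rc_2_3 lc_c_rc_13_2 lc_c_rc_14_2 lc_c_rc_13_2 lc_c_rc_26_10 lc_c_rc_11_1 lc_c_rc_2_3 lc_c_rc_7_5 lc_c_rc_13_2 lc_c_rc_24_6 lc_c_rc_24_2 lc_c_rc_13_2 lc_c_rc_11_1 lc_c_rc_11_1 lc_c_Cert_tree lc_c_rc_14_2 lc_c_rc_11_1 lc_c_Cert_tree lc_c_rc_13_2 lc_c_rc_13_2 lc_c_rc_13_2 lc_c_rc_13_2 lc_c_rc_7_3 lc_c_Cert_tree lc_c_rc_13_2 lc_c_rc_11_1 lc_c_rc_13_2) (@D3.rec (fun _ => (Cert rels S Gen.c)) lc_c_rc_7_3 lc_c_rc_13_2 lc_c_rc_22_9 lc_c_rc_2_3 lc_c_Cert_tree lc_c_rc_13_2 lc_c_rc_13_2 lc_c_rc_24_6 lc_c_rc_13_2 lc_c_Cert_tree lc_c_rc_11_1 lc_c_rc_13_2 lc_c_Cert_tree lc_c_rc_13_2 lc_c_rc_11_1 lc_c_Cert_tree lc_c_rc_14_2 lc_c_rc_26_8 lc_c_rc_11_1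 lc_c_Cert_tree lc_c_rc_11_1 lc_c_rc_13_0 lc_c_rc_26_10 lc_c_rc_14_2 lc_c_rc_11_1 lc_c_rc_13_2 lc_c_rc_13_2 lc_c_rc_26_10 lc_c_rc_11_1 lc_c_rc_2_3 lc_c_rc_13_2 lc_c_rc_26_8 lc_c_rc_13_2 lc_c_rc_7_1 lc_c_rc_11_1 lc_c_Cert_tree lc_c_rc_14_2 lc_c_rc_11_1 lc_c_Cert_tree lc_c_rc_13_2 lc_c_rc_7_1 lc_c_rc_22_7 lc_c_rc_13_2 lc_c_rc_26_10 lc_c_rc_26_2 lc_c_Cert_tree lc_c_rc_2_1 lc_c_rc_7_1 lc_c_rc_2_3 lc_c_rc_26_10 lc_c_rc_13_2 lc_c_rc_13_2 lc_c_rc_11_1 lc_c_rc_11_1 lc_c_Cert_tree lc_c_rc_14_2 lc_c_rc_11_1 lc_c_rc_13_2 lc_c_Cert_tree lc_c_rc_11_1 lc_c_rc_14_2 lc_c_Cert_tree) (@D3.rec (fun _ => (Cert rels S Gen.c)) lc_c_Cert_tree lc_c_rc_26_2 lc_c_rc_11_1 lc_c_Cert_tree lc_c_rc_13_2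 lc_c_rc_2_3 lc_c_rc_13_2 lc_c_Cert_tree lc_c_rc_14_2 lc_c_rc_22_5 lc_c_rc_24_8 lc_c_rc_11_1 lc_c_rc_13_2 lc_c_rc_13_2 lc_c_Cert_tree lc_c_rc_11_1 lc_c_Cert_tree lc_c_rc_13_2 lc_c_rc_26_2 lc_c_rc_7_3 lc_c_rc_13_2 lc_c_Cert_tree lc_c_Cert_tree lc_c_Cert_tree lc_c_rc_13_2 lc_c_rc_7_5 lc_c_Cert_tree lc_c_rc_13_2 lc_c_Cert_tree lc_c_Cert_tree lc_c_rc_11_1 lc_c_rc_14_2 lc_c_rc_11_1 lc_c_Cert_tree lc_c_rc_13_2 lc_c_rc_24_6 lc_c_rc_11_1 lc_c_Cert_tree lc_c_rc_13_2 lc_c_Cert_tree lc_c_rc_11_1 lc_c_rc_13_2 lc_c_rc_12_0 lc_c_rc_22_3 lc_c_rc_11_1 lc_c_Cert_tree lc_c_rc_13_2 lc_c_rc_7_1 lc_c_Cert_tree lc_c_rc_13_2 lc_c_rc_11_1 lc_c_Cert_tree lc_c_Cert_tree lc_c_rc_26_4 lc_c_rc_11_1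 lc_c_rc_11_1 lc_c_rc_11_1 lc_c_rc_7_3 lc_c_Cert_tree lc_c_rc_11_1 lc_c_rc_11_1 lc_c_Cert_tree) (@D3.rec (fun _ => (Cert rels S Gen.c)) lc_c_rc_13_2 lc_c_rc_24_4 lc_c_Cert_tree lc_c_rc_13_2 lc_c_Cert_tree lc_c_rc_11_1 lc_c_Cert_tree lc_c_rc_11_1 lc_c_rc_11_1 lc_c_rc_13_2 lc_c_rc_24_6 lc_c_Cert_tree lc_c_rc_13_2 lc_c_Cert_tree lc_c_rc_2_3 lc_c_rc_7_3 lc_c_rc_13_2 lc_c_Cert_tree lc_c_Cert_tree lc_c_rc_14_2 lc_c_rc_11_1 lc_c_rc_26_4 lc_c_rc_26_4 lc_c_rc_11_1 lc_c_rc_13_2 lc_c_rc_24_8 lc_c_rc_26_2 lc_c_rc_13_2 lc_c_rc_23_5 lc_c_rc_26_4 lc_c_rc_11_1 lc_c_rc_24_8 lc_c_rc_13_2 lc_c_Cert_tree lc_c_rc_11_1 lc_c_rc_13_2 lc_c_rc_23_0 lc_c_rc_26_2 lc_c_rc_26_8 lc_c_rc_26_4 lc_c_rc_2_1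 lc_c_rc_13_2 lc_c_rc_14_2 lc_c_rc_13_2 lc_c_rc_24_2 lc_c_rc_23_0 lc_c_rc_24_2 lc_c_rc_24_6 lc_c_rc_24_6 lc_c_rc_7_3 lc_c_rc_11_1 lc_c_rc_14_2 lc_c_rc_14_0 lc_c_rc_23_5 lc_c_rc_11_1 lc_c_rc_11_1 lc_c_Cert_tree lc_c_rc_14_2 lc_c_rc_11_1 lc_c_rc_11_1 lc_c_rc_7_3 lc_c_Cert_tree) (@D3.rec (fun _ => (Cert rels S Gen.c)) lc_c_Cert_tree lc_c_Cert_tree lc_c_rc_7_3 lc_c_Cert_tree lc_c_rc_7_3 lc_c_rc_13_2 lc_c_rc_11_1 lc_c_rc_11_1 lc_c_Cert_tree lc_c_rc_14_2 lc_c_rc_26_8 lc_c_rc_11_1 lc_c_Cert_tree lc_c_rc_13_2 lc_c_rc_26_4 lc_c_rc_11_1 lc_c_Cert_tree lc_c_rc_13_2 lc_c_rc_7_1 lc_c_rc_13_2 lc_c_rc_11_1 lc_c_rc_13_2 lc_c_rc_11_1 lc_c_rc_13_2 lc_c_rc_7_3 lc_c_rc_24_6 lc_c_rc_23_5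 lc_c_rc_13_2 lc_c_rc_13_2 lc_c_rc_23_0 lc_c_rc_13_2 lc_c_rc_7_1 lc_c_rc_22_5 lc_c_rc_13_2 lc_c_rc_13_2 lc_c_rc_26_2 lc_c_rc_11_1 lc_c_rc_26_2 lc_c_rc_7_5 lc_c_rc_2_3 lc_c_rc_26_2 lc_c_rc_13_2 lc_c_rc_13_2 lc_c_rc_23_0 lc_c_rc_11_1 lc_c_Cert_tree lc_c_rc_14_2 lc_c_rc_11_1 lc_c_rc_13_2 lc_c_Cert_tree lc_c_Cert_tree lc_c_rc_11_1 lc_c_rc_11_1 lc_c_rc_11_1 lc_c_rc_13_2 lc_c_rc_13_2 lc_c_rc_22_5 lc_c_rc_26_10 lc_c_rc_26_10 lc_c_rc_11_1 lc_c_rc_26_2 lc_c_rc_13_2) (@D3.rec (fun _ => (Cert rels S Gen.c)) lc_c_rc_13_2 lc_c_Cert_tree lc_c_rc_14_2 lc_c_rc_11_1 lc_c_rc_13_2 lc_c_rc_13_2 lc_c_rc_11_1 lc_c_rc_13_2 lc_c_rc_11_1 lc_c_rc_11_1 lc_c_Cert_tree lc_c_rc_14_2 lc_c_rc_7_3 lc_c_rc_13_2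 lc_c_Cert_tree lc_c_Cert_tree lc_c_Cert_tree lc_c_rc_7_5 lc_c_rc_13_2 lc_c_Cert_tree lc_c_rc_11_1 lc_c_Cert_tree lc_c_rc_13_2 lc_c_Cert_tree lc_c_rc_11_1 lc_c_Cert_tree lc_c_rc_13_2 lc_c_Cert_tree lc_c_Cert_tree lc_c_rc_11_1 lc_c_rc_14_2 lc_c_rc_13_2 lc_c_rc_11_1 lc_c_rc_26_10 lc_c_Cert_tree lc_c_rc_26_2 lc_c_rc_7_5 lc_c_rc_11_1 lc_c_Cert_tree lc_c_rc_13_2 lc_c_rc_2_3 lc_c_rc_7_1 lc_c_Cert_tree lc_c_rc_13_2 lc_c_Cert_tree lc_c_rc_11_1 lc_c_rc_13_2 lc_c_rc_23_0 lc_c_Cert_tree lc_c_rc_14_2 lc_c_rc_7_5 lc_c_rc_26_2 lc_c_rc_11_1 lc_c_Cert_tree lc_c_rc_13_2 lc_c_rc_7_1 lc_c_Cert_tree lc_c_rc_13_2 lc_c_rc_11_1 lc_c_Cert_tree lc_c_rc_26_4 lc_c_rc_11_1) (@D3.rec (fun _ => (Cert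 rels S Gen.c)) lc_c_Cert_tree lc_c_rc_26_8 lc_c_rc_11_1 lc_c_rc_13_2 lc_c_rc_26_2 lc_c_rc_11_1 lc_c_rc_13_2 lc_c_rc_11_1 lc_c_rc_11_1 lc_c_rc_22_7 lc_c_Cert_tree lc_c_Cert_tree lc_c_rc_14_2 lc_c_rc_26_4 lc_c_rc_11_1 lc_c_Cert_tree lc_c_rc_13_2 lc_c_rc_26_8 lc_c_rc_11_1 lc_c_rc_13_2 lc_c_rc_11_1 lc_c_rc_11_1 lc_c_rc_11_1 lc_c_rc_11_1 lc_c_Cert_tree lc_c_rc_13_2 lc_c_Cert_tree lc_c_rc_7_1 lc_c_Cert_tree lc_c_rc_13_2 lc_c_Cert_tree lc_c_rc_11_1 lc_c_Cert_tree lc_c_Cert_tree lc_c_rc_14_2 lc_c_Cert_tree lc_c_Cert_tree lc_c_rc_11_1 lc_c_rc_11_1 lc_c_Cert_tree lc_c_rc_13_2 lc_c_rc_11_1 lc_c_rc_7_1 lc_c_Cert_tree lc_c_rc_13_2 lc_c_Cert_tree lc_c_Cert_tree lc_c_rc_11_1 lc_c_Cert_tree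 lc_c_Cert_tree lc_c_rc_26_2 lc_c_rc_26_4 lc_c_rc_11_1 lc_c_rc_11_1 lc_c_rc_11_1 lc_c_rc_11_1 lc_c_rc_26_8 lc_c_rc_11_1 lc_c_rc_11_1 lc_c_Cert_tree lc_c_rc_13_2 lc_c_rc_23_0) (@D3.rec (fun _ => (Cert rels S Gen.c)) lc_c_rc_11_1 lc_c_rc_11_1 lc_c_rc_26_2 lc_c_rc_7_5 lc_c_rc_26_8 lc_c_rc_14_0 lc_c_rc_14_2 lc_c_rc_2_1 lc_c_rc_11_1 lc_c_rc_11_1 lc_c_rc_26_2 lc_c_rc_13_2 lc_c_rc_14_2 lc_c_rc_26_2 lc_c_rc_7_3 lc_c_rc_23_0 lc_c_rc_13_2 lc_c_rc_26_10 lc_c_rc_11_1 lc_c_rc_13_2 lc_c_rc_23_0 lc_c_rc_11_1 lc_c_rc_11_1 lc_c_Cert_tree lc_c_rc_14_2 lc_c_rc_11_1 lc_c_Cert_tree lc_c_rc_13_2 lc_c_rc_11_1 lc_c_rc_11_1 lc_c_rc_11_1 lc_c_rc_11_1 lc_c_rc_7_3 lc_c_rc_12_8 lc_c_rc_14_2 lc_c_rc_7_5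 lc_c_rc_11_1 lc_c_rc_22_9 lc_c_rc_13_2 lc_c_rc_13_2 lc_c_rc_23_0 lc_c_Cert_tree lc_c_rc_14_2 lc_c_rc_11_1 lc_c_rc_13_2 lc_c_Cert_tree lc_c_rc_7_5 lc_c_rc_13_2 lc_c_rc_13_2 lc_c_rc_11_1 lc_c_rc_11_1 lc_c_Cert_tree lc_c_rc_14_2 lc_c_rc_11_1 lc_c_rc_26_4 lc_c_rc_11_1 lc_c_rc_11_1 lc_c_rc_24_6 lc_c_rc_24_4 lc_c_rc_7_3 lc_c_rc_22_5 lc_c_rc_11_1) (@D3.rec (fun _ => (Cert rels S Gen.c)) lc_c_rc_11_1 lc_c_rc_13_2 lc_c_rc_14_2 lc_c_rc_13_2 lc_c_rc_2_3 lc_c_rc_22_3 lc_c_rc_13_2 lc_c_rc_23_0 lc_c_rc_13_2 lc_c_rc_26_10 lc_c_rc_26_10 lc_c_Cert_tree lc_c_rc_14_2 lc_c_rc_11_1 lc_c_rc_13_2 lc_c_Cert_tree lc_c_rc_11_1 lc_c_rc_7_1 lc_c_rc_13_2 lc_c_rc_11_1 lc_c_rc_2_3 lc_c_rc_2_3 lc_c_rc_13_2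 lc_c_rc_13_2 lc_c_rc_23_0 lc_c_Cert_tree lc_c_Cert_tree lc_c_rc_11_1 lc_c_rc_26_2 lc_c_rc_11_1 lc_c_rc_2_3 lc_c_rc_13_2 lc_c_rc_13_2 lc_c_Cert_tree lc_c_rc_14_2 lc_c_rc_11_1 lc_c_rc_11_1 lc_c_rc_7_3 lc_c_rc_13_2 lc_c_rc_13_2 lc_c_Cert_tree lc_c_rc_2_3 lc_c_rc_13_2 lc_c_rc_7_3 lc_c_rc_13_2 lc_c_Cert_tree lc_c_Cert_tree lc_c_Cert_tree lc_c_rc_14_2 lc_c_Cert_tree lc_c_rc_11_1 lc_c_Cert_tree lc_c_rc_13_2 lc_c_Cert_tree lc_c_rc_11_1 lc_c_Cert_tree lc_c_rc_13_2 lc_c_Cert_tree lc_c_Cert_tree lc_c_rc_11_1 lc_c_rc_14_2 lc_c_rc_26_2) (@D3.rec (fun _ => (Cert rels S Gen.c)) lc_c_rc_26_2 lc_c_rc_11_1 lc_c_rc_23_5 lc_c_rc_26_10 lc_c_rc_11_1 lc_c_rc_7_1 lc_c_Cert_tree lc_c_rc_13_2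 lc_c_Cert_tree lc_c_rc_11_1 lc_c_rc_11_1 lc_c_Cert_tree lc_c_rc_13_2 lc_c_rc_7_1 lc_c_Cert_tree lc_c_rc_13_2 lc_c_rc_11_1 lc_c_rc_14_2 lc_c_rc_26_4 lc_c_rc_11_1 lc_c_Cert_tree lc_c_Cert_tree lc_c_Cert_tree lc_c_rc_22_3 lc_c_rc_23_0 lc_c_rc_11_1 lc_c_rc_11_1 lc_c_rc_11_1 lc_c_rc_7_3 lc_c_rc_23_5 lc_c_rc_11_1 lc_c_rc_13_2 lc_c_rc_7_1 lc_c_rc_22_5 lc_c_rc_13_2 lc_c_Cert_tree lc_c_rc_14_2 lc_c_Cert_tree lc_c_rc_11_1 lc_c_rc_13_2 lc_c_rc_7_5 lc_c_rc_22_5 lc_c_rc_13_2 lc_c_Cert_tree lc_c_rc_2_3 lc_c_rc_2_3 lc_c_Cert_tree lc_c_rc_14_2 lc_c_rc_22_5 lc_c_rc_11_1 lc_c_rc_13_2 lc_c_rc_22_3 lc_c_rc_13_2 lc_c_Cert_tree lc_c_Cert_tree lc_c_Cert_tree lc_c_rc_11_1 lc_c_Cert_tree lc_c_rc_11_1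 lc_c_rc_11_1 lc_c_Cert_tree lc_c_rc_13_2) (@D3.rec (fun _ => (Cert rels S Gen.c)) lc_c_rc_11_1 lc_c_Cert_tree lc_c_rc_13_2 lc_c_Cert_tree lc_c_rc_11_1 lc_c_Cert_tree lc_c_rc_11_1 lc_c_Cert_tree lc_c_rc_11_1 lc_c_rc_12_0 lc_c_rc_24_2 lc_c_rc_11_1 lc_c_rc_24_4 lc_c_rc_12_2 lc_c_Cert_tree lc_c_rc_26_4 lc_c_rc_11_1 lc_c_Cert_tree lc_c_rc_11_1 lc_c_rc_11_1 lc_c_rc_13_2 lc_c_rc_7_3 lc_c_rc_13_2 lc_c_rc_13_2 lc_c_rc_2_1 lc_c_rc_2_3 lc_c_rc_12_14 lc_c_rc_11_1 lc_c_rc_24_6 lc_c_rc_11_1 lc_c_Cert_tree lc_c_rc_13_2 lc_c_rc_24_8 lc_c_rc_26_8 lc_c_rc_26_10 lc_c_rc_13_2 lc_c_rc_26_4 lc_c_rc_23_0 lc_c_rc_14_2 lc_c_rc_7_5 lc_c_rc_13_2 lc_c_rc_26_10 lc_c_rc_11_1 lc_c_rc_2_3 lc_c_rc_13_2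 lc_c_rc_22_5 lc_c_rc_23_0 lc_c_rc_13_2 lc_c_rc_11_1 lc_c_rc_23_0 lc_c_Cert_tree lc_c_rc_14_2 lc_c_rc_11_1 lc_c_Cert_tree lc_c_rc_13_2 lc_c_rc_13_2 lc_c_rc_26_10 lc_c_rc_26_10 lc_c_rc_11_1 lc_c_rc_14_2 lc_c_rc_24_8 lc_c_rc_26_10) (@D3.rec (fun _ => (Cert rels S Gen.c)) lc_c_rc_26_10 lc_c_rc_11_1 lc_c_rc_14_2 lc_c_rc_11_1 lc_c_rc_11_1 lc_c_rc_26_2 lc_c_rc_13_2 lc_c_rc_13_2 lc_c_rc_11_1 lc_c_rc_11_1 lc_c_Cert_tree lc_c_rc_14_2 lc_c_rc_11_1 lc_c_rc_11_1 lc_c_rc_11_1 lc_c_rc_7_3 lc_c_rc_12_8 lc_c_Cert_tree lc_c_rc_7_3 lc_c_rc_11_1 lc_c_rc_26_10 lc_c_Cert_tree lc_c_rc_14_2 lc_c_rc_26_8 lc_c_rc_11_1 lc_c_rc_11_1 lc_c_Cert_tree lc_c_rc_11_1 lc_c_rc_14_2 lc_c_rc_7_3 lc_c_rc_2_1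 lc_c_rc_7_5 lc_c_rc_13_2 lc_c_rc_7_5 lc_c_rc_13_2 lc_c_rc_26_10 lc_c_rc_11_1 lc_c_rc_2_3 lc_c_rc_13_2 lc_c_rc_11_1 lc_c_rc_11_1 lc_c_Cert_tree lc_c_rc_26_10 lc_c_rc_14_2 lc_c_rc_11_1 lc_c_rc_2_3 lc_c_rc_13_0 lc_c_rc_13_2 lc_c_rc_13_2 lc_c_rc_11_1 lc_c_rc_11_1 lc_c_Cert_tree lc_c_rc_14_2 lc_c_rc_11_1 lc_c_Cert_tree lc_c_Cert_tree lc_c_rc_11_1 lc_c_Cert_tree lc_c_rc_13_2 lc_c_rc_13_2 lc_c_Cert_tree lc_c_rc_11_1) (@D3.rec (fun _ => (Cert rels S Gen.c)) lc_c_rc_13_2 lc_c_Cert_tree lc_c_rc_14_2 lc_c_rc_13_2 lc_c_Cert_tree lc_c_Cert_tree lc_c_Cert_tree lc_c_rc_14_2 lc_c_rc_11_1 lc_c_Cert_tree lc_c_Cert_tree lc_c_Cert_tree lc_c_rc_23_5 lc_c_Cert_tree lc_c_Cert_tree lc_c_rc_11_1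 lc_c_rc_14_2 lc_c_rc_11_1 lc_c_rc_11_1 lc_c_rc_7_1 lc_c_Cert_tree lc_c_rc_7_5 lc_c_rc_7_5 lc_c_rc_26_4 lc_c_rc_13_2 lc_c_rc_11_1 lc_c_Cert_tree lc_c_rc_13_2 lc_c_rc_11_1 lc_c_Cert_tree lc_c_rc_23_5 lc_c_rc_11_1 lc_c_Cert_tree lc_c_rc_26_4 lc_c_rc_11_1 lc_c_Cert_tree lc_c_rc_13_2 lc_c_rc_11_1 lc_c_rc_11_1 lc_c_rc_7_3 lc_c_Cert_tree lc_c_rc_14_2 lc_c_rc_13_2 lc_c_rc_22_3 lc_c_rc_11_1 lc_c_rc_7_1 lc_c_rc_11_1 lc_c_Cert_tree lc_c_rc_12_4 lc_c_rc_11_1 lc_c_rc_7_5 lc_c_rc_24_4 lc_c_rc_26_10 lc_c_Cert_tree lc_c_rc_11_1 lc_c_rc_13_2 lc_c_rc_22_3 lc_c_rc_13_2 lc_c_rc_11_1 lc_c_rc_11_1 lc_c_rc_24_6 lc_c_Cert_tree) (@D3.rec (fun _ => (Cert rels S Gen.c)) lc_c_Cert_tree lc_c_rc_13_2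 lc_c_Cert_tree lc_c_rc_11_1 lc_c_rc_26_4 lc_c_rc_13_2 lc_c_rc_26_4 lc_c_rc_13_2 lc_c_rc_14_2 lc_c_rc_7_3 lc_c_rc_22_5 lc_c_rc_13_2 lc_c_Cert_tree lc_c_rc_7_3 lc_c_rc_13_2 lc_c_rc_13_2 lc_c_rc_11_1 lc_c_rc_24_8 lc_c_Cert_tree lc_c_rc_14_2 lc_c_rc_11_1 lc_c_Cert_tree lc_c_rc_11_1 lc_c_rc_13_2 lc_c_Cert_tree lc_c_Cert_tree lc_c_rc_13_2 lc_c_Cert_tree lc_c_rc_14_2 lc_c_rc_13_2 lc_c_Cert_tree lc_c_rc_14_2 lc_c_rc_7_3 lc_c_rc_13_2 lc_c_Cert_tree lc_c_rc_13_0 lc_c_Cert_tree lc_c_rc_14_2 lc_c_rc_26_4 lc_c_Cert_tree lc_c_rc_23_5 lc_c_Cert_tree lc_c_Cert_tree lc_c_rc_13_2 lc_c_Cert_tree lc_c_Cert_tree lc_c_rc_11_1 lc_c_rc_14_2 lc_c_rc_2_1 lc_c_rc_23_0 lc_c_rc_11_1 lc_c_rc_26_4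 lc_c_rc_26_2 lc_c_rc_14_0 lc_c_rc_7_1 lc_c_Cert_tree lc_c_rc_13_2 lc_c_rc_11_1 lc_c_rc_11_1 lc_c_rc_13_2 lc_c_rc_11_1 lc_c_Cert_tree) (@D3.rec (fun _ => (Cert rels S Gen.c)) lc_c_rc_13_2 lc_c_rc_11_1 lc_c_rc_24_4 lc_c_rc_14_2 lc_c_rc_11_1 lc_c_rc_11_1 lc_c_rc_13_2 lc_c_rc_11_1 lc_c_Cert_tree lc_c_rc_13_2 lc_c_Cert_tree lc_c_Cert_tree lc_c_rc_24_8 lc_c_rc_26_2 lc_c_rc_11_1 lc_c_rc_11_1 lc_c_rc_14_2 lc_c_Cert_tree lc_c_rc_13_2 lc_c_rc_24_2 lc_c_Cert_tree lc_c_rc_11_1 lc_c_rc_24_4 lc_c_rc_13_2 lc_c_Cert_tree lc_c_rc_14_2 lc_c_rc_7_3 lc_c_rc_11_1 lc_c_rc_13_2 lc_c_Cert_tree lc_c_rc_7_1 lc_c_Cert_tree lc_c_rc_13_2 lc_c_Cert_tree lc_c_rc_14_2 lc_c_rc_2_1 lc_c_rc_22_5 lc_c_rc_13_2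 lc_c_rc_7_3 lc_c_rc_22_5 lc_c_rc_23_5 lc_c_Cert_tree lc_c_Cert_tree lc_c_rc_11_1 lc_c_Cert_tree lc_c_rc_7_3 lc_c_rc_22_5 lc_c_rc_13_2 lc_c_rc_26_4 lc_c_rc_13_2 lc_c_rc_22_5 lc_c_rc_13_2 lc_c_Cert_tree lc_c_rc_13_2 lc_c_rc_11_1 lc_c_rc_11_1 lc_c_rc_11_1 lc_c_rc_13_2 lc_c_Cert_tree lc_c_Cert_tree lc_c_Cert_tree lc_c_rc_13_2) (@D3.rec (fun _ => (Cert rels S Gen.c)) lc_c_Cert_tree lc_c_Cert_tree lc_c_rc_11_1 lc_c_rc_23_0 lc_c_rc_13_2 lc_c_rc_22_7 lc_c_rc_26_2 lc_c_rc_2_3 lc_c_rc_11_1 lc_c_rc_13_2 lc_c_rc_22_7 lc_c_rc_13_2 lc_c_rc_26_10 lc_c_rc_24_8 lc_c_Cert_tree lc_c_rc_14_2 lc_c_rc_11_1 lc_c_rc_13_2 lc_c_Cert_tree lc_c_rc_11_1 lc_c_rc_11_1 lc_c_rc_11_1 lc_c_rc_11_1 lc_c_Cert_tree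 lc_c_rc_7_3 lc_c_rc_23_0 lc_c_rc_13_2 lc_c_rc_24_2 lc_c_rc_7_3 lc_c_rc_2_3 lc_c_rc_2_3 lc_c_rc_22_7 lc_c_rc_13_2 lc_c_rc_13_2 lc_c_rc_11_1 lc_c_Cert_tree lc_c_Cert_tree lc_c_rc_26_2 lc_c_rc_13_2 lc_c_rc_13_2 lc_c_rc_11_1 lc_c_Cert_tree lc_c_rc_14_2 lc_c_rc_11_1 lc_c_rc_11_1 lc_c_rc_7_5 lc_c_rc_13_2 lc_c_rc_26_10 lc_c_rc_11_1 lc_c_rc_14_2 lc_c_rc_13_2 lc_c_rc_23_5 lc_c_rc_23_0 lc_c_rc_13_2 lc_c_rc_11_1 lc_c_rc_11_1 lc_c_Cert_tree lc_c_rc_7_1 lc_c_rc_13_2 lc_c_rc_26_10 lc_c_rc_26_10 lc_c_rc_26_2) (@D3.rec (fun _ => (Cert rels S Gen.c)) lc_c_rc_26_10 lc_c_rc_26_4 lc_c_Cert_tree lc_c_rc_13_2 lc_c_rc_13_2 lc_c_rc_11_1 lc_c_rc_11_1 lc_c_Cert_tree lc_c_rc_14_2 lc_c_rc_11_1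 lc_c_Cert_tree lc_c_Cert_tree lc_c_rc_23_0 lc_c_Cert_tree lc_c_rc_13_2 lc_c_rc_13_2 lc_c_Cert_tree lc_c_rc_7_3 lc_c_rc_26_4 lc_c_rc_26_2 lc_c_rc_22_5 lc_c_rc_13_2 lc_c_rc_13_2 lc_c_Cert_tree lc_c_rc_14_2 lc_c_Cert_tree lc_c_rc_13_2 lc_c_rc_11_1 lc_c_rc_13_2 lc_c_rc_7_3 lc_c_rc_13_2 lc_c_Cert_tree lc_c_Cert_tree lc_c_Cert_tree lc_c_rc_14_2 lc_c_rc_7_3 lc_c_Cert_tree lc_c_rc_13_2 lc_c_rc_7_5 lc_c_Cert_tree lc_c_rc_13_2 lc_c_Cert_tree lc_c_Cert_tree lc_c_rc_11_1 lc_c_rc_14_2 lc_c_rc_26_4 lc_c_rc_13_2 lc_c_rc_2_3 lc_c_rc_11_1 lc_c_Cert_tree lc_c_rc_13_2 lc_c_rc_11_1 lc_c_Cert_tree lc_c_rc_11_1 lc_c_rc_7_3 lc_c_rc_13_2 lc_c_rc_7_1 lc_c_Cert_tree lc_c_rc_13_2 lc_c_rc_11_1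 lc_c_Cert_tree lc_c_rc_13_2) (@D3.rec (fun _ => (Cert rels S Gen.c)) lc_c_rc_11_1 lc_c_Cert_tree lc_c_rc_13_2 lc_c_rc_13_2 lc_c_rc_13_2 lc_c_rc_11_1 lc_c_rc_23_0 lc_c_rc_13_2 lc_c_rc_14_2 lc_c_rc_7_5 lc_c_rc_13_2 lc_c_rc_7_5 lc_c_rc_13_2 lc_c_rc_26_4 lc_c_rc_11_1 lc_c_rc_2_3 lc_c_rc_14_2 lc_c_rc_13_2 lc_c_rc_24_6 lc_c_rc_22_5 lc_c_rc_11_1 lc_c_rc_13_2 lc_c_rc_11_1 lc_c_rc_12_2 lc_c_Cert_tree lc_c_rc_13_2 lc_c_rc_26_10 lc_c_Cert_tree lc_c_rc_26_2 lc_c_rc_11_1 lc_c_rc_7_3 lc_c_Cert_tree lc_c_Cert_tree lc_c_rc_22_9 lc_c_rc_24_2 lc_c_rc_11_1 lc_c_rc_11_1 lc_c_rc_7_3 lc_c_Cert_tree lc_c_rc_13_2 lc_c_rc_11_1 lc_c_rc_11_1 lc_c_rc_11_1 lc_c_rc_7_5 lc_c_rc_14_2 lc_c_rc_11_1 lc_c_rc_11_1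 lc_c_Cert_tree lc_c_rc_11_1 lc_c_rc_24_6 lc_c_rc_11_1 lc_c_rc_7_3 lc_c_Cert_tree lc_c_rc_2_3 lc_c_Cert_tree lc_c_rc_25_9 lc_c_rc_13_2 lc_c_rc_13_2 lc_c_rc_24_2 lc_c_rc_13_2 lc_c_rc_11_1 lc_c_rc_12_8) (@D3.rec (fun _ => (Cert rels S Gen.c)) lc_c_rc_13_2 lc_c_rc_13_2 lc_c_Cert_tree lc_c_rc_11_1 lc_c_rc_24_4 lc_c_rc_13_2 lc_c_Cert_tree lc_c_rc_24_8 lc_c_rc_14_0 lc_c_rc_11_1 lc_c_rc_7_3 lc_c_rc_24_4 lc_c_rc_13_2 lc_c_Cert_tree lc_c_Cert_tree lc_c_rc_14_2 lc_c_rc_7_3 lc_c_rc_23_5 lc_c_rc_13_2 lc_c_Cert_tree lc_c_rc_14_2 lc_c_rc_7_3 lc_c_rc_13_2 lc_c_rc_11_1 lc_c_rc_13_2 lc_c_rc_2_3 lc_c_rc_13_2 lc_c_rc_13_2 lc_c_rc_12_14 lc_c_rc_13_2 lc_c_rc_7_5 lc_c_rc_13_2 lc_c_rc_13_2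 lc_c_rc_26_10 lc_c_rc_11_1 lc_c_rc_24_4 lc_c_rc_23_5 lc_c_rc_13_2 lc_c_rc_13_2 lc_c_rc_7_1 lc_c_rc_11_1 lc_c_Cert_tree lc_c_rc_14_2 lc_c_rc_11_1 lc_c_Cert_tree lc_c_rc_11_1 lc_c_rc_26_10 lc_c_rc_2_1 lc_c_rc_23_0 lc_c_rc_13_2 lc_c_rc_13_2 lc_c_rc_11_1 lc_c_rc_11_1 lc_c_Cert_tree lc_c_Cert_tree lc_c_rc_11_1 lc_c_rc_2_3 lc_c_Cert_tree lc_c_rc_13_2 lc_c_rc_13_2 lc_c_Cert_tree lc_c_rc_14_2) (@D3.rec (fun _ => (Cert rels S Gen.c)) lc_c_rc_24_6 lc_c_rc_11_1 lc_c_rc_11_1 lc_c_rc_13_2 lc_c_rc_13_2 lc_c_Cert_tree lc_c_Cert_tree lc_c_rc_13_2 lc_c_rc_11_1 lc_c_rc_13_2 lc_c_rc_7_3 lc_c_rc_13_2 lc_c_Cert_tree lc_c_Cert_tree lc_c_Cert_tree lc_c_rc_14_2 lc_c_rc_13_2 lc_c_Cert_tree lc_c_rc_13_2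 lc_c_rc_11_1 lc_c_Cert_tree lc_c_rc_23_5 lc_c_Cert_tree lc_c_Cert_tree lc_c_rc_11_1 lc_c_rc_11_1 lc_c_rc_24_6 lc_c_rc_11_1 lc_c_Cert_tree lc_c_rc_13_2 lc_c_rc_23_5 lc_c_rc_13_2 lc_c_Cert_tree lc_c_rc_13_2 lc_c_Cert_tree lc_c_Cert_tree lc_c_rc_13_2 lc_c_rc_11_1 lc_c_Cert_tree lc_c_rc_14_2 lc_c_rc_11_1 lc_c_rc_11_1 lc_c_rc_7_3 lc_c_rc_22_5 lc_c_rc_26_10 lc_c_rc_11_1 lc_c_rc_23_0 lc_c_rc_11_1 lc_c_rc_14_0 lc_c_rc_7_3 lc_c_rc_24_8 lc_c_rc_13_2 lc_c_rc_11_1 lc_c_rc_14_2 lc_c_rc_24_6 lc_c_rc_22_5 lc_c_rc_2_3 lc_c_rc_13_2 lc_c_rc_11_1 lc_c_rc_7_3 lc_c_Cert_tree lc_c_rc_26_10) (@D3.rec (fun _ => (Cert rels S Gen.c)) lc_c_rc_13_2 lc_c_rc_11_1 lc_c_rc_26_10 lc_c_rc_13_2 lc_c_rc_11_1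 lc_c_rc_11_1 lc_c_rc_13_2 lc_c_Cert_tree lc_c_rc_11_1 lc_c_rc_7_3 lc_c_rc_11_1 lc_c_rc_13_2 lc_c_rc_13_2 lc_c_rc_7_3 lc_c_rc_22_5 lc_c_rc_13_2 lc_c_Cert_tree lc_c_rc_13_0 lc_c_rc_11_1 lc_c_rc_13_2 lc_c_rc_7_5 lc_c_Cert_tree lc_c_rc_14_2 lc_c_rc_7_3 lc_c_rc_13_2 lc_c_Cert_tree lc_c_rc_11_1 lc_c_Cert_tree lc_c_rc_14_2 lc_c_Cert_tree lc_c_Cert_tree lc_c_rc_2_3 lc_c_rc_13_2 lc_c_Cert_tree lc_c_rc_14_2 lc_c_rc_11_1 lc_c_rc_11_1 lc_c_rc_13_2 lc_c_rc_11_1 lc_c_rc_24_4 lc_c_rc_2_3 lc_c_Cert_tree lc_c_rc_13_2 lc_c_rc_13_2 lc_c_Cert_tree lc_c_rc_2_3 lc_c_rc_2_3 lc_c_Cert_tree lc_c_rc_13_2 lc_c_rc_13_2 lc_c_Cert_tree lc_c_rc_14_2 lc_c_rc_7_1 lc_c_rc_13_2 lc_c_rc_13_2 lc_c_rc_26_4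 lc_c_rc_26_8 lc_c_Cert_tree lc_c_rc_11_1 lc_c_Cert_tree lc_c_rc_13_2 lc_c_Cert_tree) (@D3.rec (fun _ => (Cert rels S Gen.c)) lc_c_rc_13_2 lc_c_Cert_tree lc_c_Cert_tree lc_c_Cert_tree lc_c_rc_14_2 lc_c_rc_7_3 lc_c_Cert_tree lc_c_rc_13_2 lc_c_rc_11_1 lc_c_Cert_tree lc_c_rc_13_2 lc_c_Cert_tree lc_c_Cert_tree lc_c_rc_11_1 lc_c_rc_14_2 lc_c_rc_7_3 lc_c_Cert_tree lc_c_rc_13_2 lc_c_rc_11_1 lc_c_Cert_tree lc_c_rc_11_1 lc_c_rc_2_3 lc_c_rc_26_4 lc_c_rc_13_2 lc_c_rc_13_2 lc_c_Cert_tree lc_c_rc_13_2 lc_c_rc_23_5 lc_c_rc_7_3 lc_c_rc_22_3 lc_c_rc_7_3 lc_c_rc_12_14 lc_c_rc_2_3 lc_c_Cert_tree lc_c_rc_13_2 lc_c_rc_22_7 lc_c_rc_13_2 lc_c_rc_13_2 lc_c_Cert_tree lc_c_Cert_tree lc_c_rc_11_1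 lc_c_rc_13_2 lc_c_rc_26_10 lc_c_rc_11_1 lc_c_Cert_tree lc_c_Cert_tree lc_c_Cert_tree lc_c_rc_13_2 lc_c_rc_14_2 lc_c_rc_13_2 lc_c_rc_22_3 lc_c_rc_24_4 lc_c_rc_13_2 lc_c_rc_22_5 lc_c_rc_11_1 lc_c_rc_24_4 lc_c_rc_22_3 lc_c_rc_13_2 lc_c_rc_13_2 lc_c_rc_7_5 lc_c_rc_13_2 lc_c_rc_26_10) (@D3.rec (fun _ => (Cert rels S Gen.c)) lc_c_rc_2_3 lc_c_Cert_tree lc_c_rc_13_2 lc_c_rc_13_2 lc_c_rc_13_2 lc_c_Cert_tree lc_c_rc_11_1 lc_c_Cert_tree lc_c_rc_11_1 lc_c_rc_26_2 lc_c_rc_13_2 lc_c_rc_13_2 lc_c_rc_11_1 lc_c_rc_7_1 lc_c_Cert_tree lc_c_rc_24_2 lc_c_rc_23_0 lc_c_rc_11_1 lc_c_rc_13_2 lc_c_rc_13_2 lc_c_Cert_tree lc_c_rc_14_2 lc_c_Cert_tree lc_c_Cert_tree lc_c_rc_26_2 lc_c_Cert_tree lc_c_rc_13_2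 lc_c_rc_13_2 lc_c_Cert_tree lc_c_rc_26_4 lc_c_rc_11_1 lc_c_rc_26_4 lc_c_rc_13_2 lc_c_rc_26_4 lc_c_rc_11_1 lc_c_rc_24_2 lc_c_rc_13_2 lc_c_Cert_tree lc_c_rc_13_2 lc_c_Cert_tree lc_c_Cert_tree lc_c_rc_11_1 lc_c_rc_13_2 lc_c_Cert_tree lc_c_Cert_tree lc_c_Cert_tree lc_c_rc_14_2 lc_c_Cert_tree lc_c_Cert_tree lc_c_Cert_tree lc_c_rc_14_2 lc_c_rc_7_5 lc_c_Cert_tree lc_c_rc_13_2 lc_c_rc_7_3 lc_c_rc_11_1 lc_c_Cert_tree lc_c_rc_2_3 lc_c_Cert_tree lc_c_Cert_tree lc_c_rc_11_1 lc_c_rc_22_3) (@D3.rec (fun _ => (Cert rels S Gen.c)) lc_c_Cert_tree lc_c_rc_24_6 lc_c_rc_11_1 lc_c_Cert_tree lc_c_rc_11_1 lc_c_rc_13_2 lc_c_rc_11_1 lc_c_Cert_tree lc_c_rc_13_2 lc_c_rc_26_2 lc_c_rc_14_2 lc_c_rc_26_10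 lc_c_rc_24_2 lc_c_rc_13_2 lc_c_rc_13_2 lc_c_Cert_tree lc_c_rc_13_0 lc_c_rc_26_4 lc_c_rc_14_0 lc_c_rc_13_2 lc_c_rc_11_1 lc_c_rc_7_3 lc_c_rc_11_1 lc_c_rc_13_2 lc_c_Cert_tree lc_c_rc_14_2 lc_c_rc_2_3 lc_c_rc_2_3 lc_c_rc_13_2 lc_c_Cert_tree lc_c_rc_7_1 lc_c_rc_13_2 lc_c_rc_13_2 lc_c_rc_13_2 lc_c_Cert_tree lc_c_Cert_tree lc_c_rc_23_0 lc_c_rc_11_1 lc_c_Cert_tree lc_c_rc_13_2 lc_c_Cert_tree lc_c_rc_13_2 lc_c_Cert_tree lc_c_Cert_tree lc_c_Cert_tree lc_c_rc_14_2 lc_c_rc_13_2 lc_c_Cert_tree lc_c_rc_24_4 lc_c_Cert_tree lc_c_Cert_tree lc_c_rc_13_2 lc_c_Cert_tree lc_c_Cert_tree lc_c_rc_11_1 lc_c_rc_14_2 lc_c_rc_7_3 lc_c_Cert_tree lc_c_rc_13_2 lc_c_rc_11_1 lc_c_Cert_tree lc_c_rc_13_2)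 (@D3.rec (fun _ => (Cert rels S Gen.c)) lc_c_rc_11_1 lc_c_rc_11_1 lc_c_rc_14_2 lc_c_rc_2_1 lc_c_rc_11_1 lc_c_rc_11_1 lc_c_rc_2_3 lc_c_rc_26_4 lc_c_rc_13_2 lc_c_rc_13_2 lc_c_Cert_tree lc_c_rc_26_4 lc_c_rc_23_5 lc_c_rc_24_8 lc_c_rc_24_8 lc_c_rc_11_1 lc_c_rc_11_1 lc_c_rc_7_5 lc_c_rc_13_2 lc_c_rc_13_2 lc_c_Cert_tree lc_c_rc_13_2 lc_c_Cert_tree lc_c_Cert_tree lc_c_rc_11_1 lc_c_rc_13_2 lc_c_rc_2_3 lc_c_rc_11_1 lc_c_Cert_tree lc_c_rc_11_1 lc_c_Cert_tree lc_c_Cert_tree lc_c_Cert_tree lc_c_rc_14_2 lc_c_rc_11_1 lc_c_rc_11_1 lc_c_Cert_tree lc_c_rc_7_5 lc_c_Cert_tree lc_c_rc_13_2 lc_c_Cert_tree lc_c_Cert_tree lc_c_rc_11_1 lc_c_rc_14_2 lc_c_rc_13_2 lc_c_rc_2_1 lc_c_rc_13_2 lc_c_rc_11_1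 lc_c_rc_11_1 lc_c_rc_13_2 lc_c_rc_13_0 lc_c_rc_11_1 lc_c_rc_7_3 lc_c_rc_23_0 lc_c_rc_14_2 lc_c_rc_11_1 lc_c_rc_25_13 lc_c_rc_13_2 lc_c_rc_26_2 lc_c_rc_11_1 lc_c_rc_23_5 lc_c_rc_13_2) (@D3.rec (fun _ => (Cert rels S Gen.c)) lc_c_Cert_tree lc_c_rc_13_2 lc_c_Cert_tree lc_c_rc_13_2 lc_c_rc_14_0 lc_c_rc_11_1 lc_c_rc_24_6 lc_c_Cert_tree lc_c_Cert_tree lc_c_Cert_tree lc_c_rc_14_2 lc_c_rc_13_2 lc_c_rc_14_2 lc_c_Cert_tree lc_c_rc_13_2 lc_c_rc_11_1 lc_c_rc_26_10 lc_c_Cert_tree lc_c_rc_14_2 lc_c_rc_24_8 lc_c_rc_11_1 lc_c_rc_14_2 lc_c_rc_26_4 lc_c_rc_13_2 lc_c_Cert_tree lc_c_rc_23_5 lc_c_rc_13_2 lc_c_rc_11_1 lc_c_rc_13_2 lc_c_rc_11_1 lc_c_rc_23_0 lc_c_rc_13_2 lc_c_rc_24_6 lc_c_rc_24_6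 lc_c_rc_13_2 lc_c_rc_11_1 lc_c_rc_11_1 lc_c_Cert_tree lc_c_rc_14_2 lc_c_rc_26_10 lc_c_rc_11_1 lc_c_Cert_tree lc_c_rc_14_2 lc_c_rc_26_2 lc_c_rc_26_4 lc_c_rc_11_1 lc_c_rc_14_2 lc_c_rc_11_1 lc_c_rc_26_2 lc_c_Cert_tree lc_c_rc_13_2 lc_c_rc_23_5 lc_c_Cert_tree lc_c_rc_13_2 lc_c_rc_11_1 lc_c_rc_14_2 lc_c_Cert_tree lc_c_rc_14_2 lc_c_Cert_tree lc_c_rc_26_4 lc_c_rc_24_4 lc_c_rc_7_3) (@D3.rec (fun _ => (Cert rels S Gen.c)) lc_c_rc_13_2 lc_c_Cert_tree lc_c_Cert_tree lc_c_Cert_tree lc_c_rc_14_2 lc_c_rc_11_1 lc_c_Cert_tree lc_c_rc_13_2 lc_c_rc_26_4 lc_c_Cert_tree lc_c_Cert_tree lc_c_Cert_tree lc_c_rc_11_1 lc_c_rc_14_2 lc_c_rc_7_5 lc_c_rc_11_1 lc_c_rc_13_2 lc_c_rc_23_0 lc_c_rc_11_1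 lc_c_Cert_tree lc_c_rc_14_2 lc_c_rc_11_1 lc_c_rc_13_2 lc_c_rc_26_10 lc_c_rc_11_1 lc_c_rc_13_0 lc_c_rc_14_2 lc_c_Cert_tree lc_c_Cert_tree lc_c_rc_2_3 lc_c_rc_13_2 lc_c_rc_24_6 lc_c_Cert_tree lc_c_Cert_tree lc_c_rc_14_2 lc_c_Cert_tree lc_c_rc_11_1 lc_c_Cert_tree lc_c_rc_13_2 lc_c_Cert_tree lc_c_rc_11_1 lc_c_Cert_tree lc_c_rc_13_2 lc_c_Cert_tree lc_c_Cert_tree lc_c_rc_11_1 lc_c_rc_14_2 lc_c_rc_13_2 lc_c_Cert_tree lc_c_Cert_tree lc_c_Cert_tree lc_c_Cert_tree lc_c_rc_2_1 lc_c_rc_11_1 lc_c_Cert_tree lc_c_rc_13_2 lc_c_rc_14_0 lc_c_rc_26_8 lc_c_rc_14_0 lc_c_rc_13_2 lc_c_Cert_tree lc_c_Cert_tree) (@D3.rec (fun _ => (Cert rels S Gen.c)) lc_c_rc_11_1 lc_c_rc_13_2 lc_c_Cert_tree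 lc_c_rc_14_2 lc_c_rc_2_3 lc_c_Cert_tree lc_c_rc_11_1 lc_c_rc_26_8 lc_c_rc_11_1 lc_c_Cert_tree lc_c_rc_2_1 lc_c_rc_7_3 lc_c_rc_11_1 lc_c_rc_23_5 lc_c_rc_13_2 lc_c_Cert_tree lc_c_rc_11_1 lc_c_rc_13_2 lc_c_rc_13_2 lc_c_rc_11_1 lc_c_rc_11_1 lc_c_rc_7_3 lc_c_rc_22_7 lc_c_rc_14_2 lc_c_rc_13_2 lc_c_Cert_tree lc_c_rc_11_1 lc_c_Cert_tree lc_c_rc_13_2 lc_c_rc_11_1 lc_c_Cert_tree lc_c_Cert_tree lc_c_Cert_tree lc_c_rc_11_1 lc_c_rc_2_1 lc_c_rc_13_2 lc_c_rc_7_1 lc_c_rc_23_0 lc_c_rc_13_2 lc_c_rc_26_2 lc_c_rc_23_0 lc_c_rc_11_1 lc_c_rc_26_10 lc_c_rc_24_2 lc_c_rc_23_0 lc_c_rc_7_3 lc_c_Cert_tree lc_c_Cert_tree lc_c_rc_2_3 lc_c_Cert_tree lc_c_rc_13_2 lc_c_Cert_tree lc_c_Cert_tree lc_c_rc_11_1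 lc_c_rc_13_2 lc_c_rc_23_0 lc_c_Cert_tree lc_c_rc_11_1 lc_c_rc_11_1 lc_c_rc_23_5 lc_c_rc_23_0 lc_c_rc_7_3) (@D3.rec (fun _ => (Cert rels S Gen.c)) lc_c_rc_24_8 lc_c_rc_13_2 lc_c_rc_23_5 lc_c_rc_13_2 lc_c_rc_7_1 lc_c_Cert_tree lc_c_rc_13_2 lc_c_rc_24_8 lc_c_rc_13_0 lc_c_rc_11_1 lc_c_rc_23_5 lc_c_rc_23_5 lc_c_rc_2_1 lc_c_rc_11_1 lc_c_rc_2_3 lc_c_Cert_tree lc_c_rc_13_2 lc_c_rc_11_1 lc_c_rc_13_2 lc_c_rc_23_5 lc_c_Cert_tree lc_c_rc_14_2 lc_c_rc_7_3 lc_c_Cert_tree lc_c_rc_11_1 lc_c_Cert_tree lc_c_rc_11_1 lc_c_Cert_tree lc_c_rc_13_2 lc_c_rc_11_1 lc_c_Cert_tree lc_c_Cert_tree lc_c_rc_11_1 lc_c_Cert_tree lc_c_Cert_tree lc_c_Cert_tree lc_c_rc_11_1 lc_c_rc_13_2 lc_c_rc_11_1 lc_c_rc_13_2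 lc_c_rc_12_0 lc_c_rc_11_1 lc_c_rc_22_3 lc_c_rc_13_2 lc_c_rc_7_3 lc_c_rc_22_7 lc_c_rc_7_5 lc_c_rc_22_3 lc_c_rc_13_2 lc_c_rc_13_0 lc_c_rc_2_3 lc_c_Cert_tree lc_c_rc_11_1 lc_c_rc_13_2 lc_c_Cert_tree lc_c_rc_13_2 lc_c_rc_13_2 lc_c_rc_11_1 lc_c_Cert_tree lc_c_rc_14_2 lc_c_rc_11_1 lc_c_rc_11_1) (@D3.rec (fun _ => (Cert rels S Gen.c)) lc_c_Cert_tree lc_c_rc_13_2 lc_c_Cert_tree lc_c_rc_11_1 lc_c_rc_2_1 lc_c_rc_13_2 lc_c_Cert_tree lc_c_rc_14_2 lc_c_rc_24_6 lc_c_rc_24_4 lc_c_rc_11_1 lc_c_rc_13_2 lc_c_Cert_tree lc_c_rc_7_3 lc_c_rc_13_2 lc_c_Cert_tree lc_c_rc_13_0 lc_c_Cert_tree lc_c_rc_14_2 lc_c_rc_26_4 lc_c_Cert_tree lc_c_rc_13_2 lc_c_rc_7_5 lc_c_Cert_tree lc_c_rc_23_0 lc_c_Cert_tree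 lc_c_Cert_tree lc_c_rc_11_1 lc_c_rc_14_2 lc_c_rc_14_2 lc_c_rc_11_1 lc_c_rc_11_1 lc_c_Cert_tree lc_c_rc_13_2 lc_c_Cert_tree lc_c_rc_11_1 lc_c_rc_11_1 lc_c_Cert_tree lc_c_rc_24_2 lc_c_rc_7_1 lc_c_Cert_tree lc_c_rc_13_2 lc_c_rc_11_1 lc_c_rc_13_2 lc_c_rc_14_2 lc_c_Cert_tree lc_c_rc_11_1 lc_c_Cert_tree lc_c_rc_7_1 lc_c_rc_7_3 lc_c_rc_13_2 lc_c_rc_13_0 lc_c_Cert_tree lc_c_rc_14_2 lc_c_rc_11_1 lc_c_rc_11_1 lc_c_rc_11_1 lc_c_rc_14_2 lc_c_rc_14_0 lc_c_rc_11_1 lc_c_rc_2_3 lc_c_rc_13_2) (@D3.rec (fun _ => (Cert rels S Gen.c)) lc_c_Cert_tree lc_c_rc_26_4 lc_c_rc_26_4 lc_c_rc_11_1 lc_c_rc_13_2 lc_c_Cert_tree lc_c_rc_14_2 lc_c_rc_7_3 lc_c_rc_13_2 lc_c_Cert_tree lc_c_Cert_tree lc_c_Cert_tree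 lc_c_rc_14_2 lc_c_rc_7_5 lc_c_Cert_tree lc_c_rc_7_5 lc_c_Cert_tree lc_c_rc_13_2 lc_c_Cert_tree lc_c_Cert_tree lc_c_rc_11_1 lc_c_rc_14_2 lc_c_rc_2_3 lc_c_rc_11_1 lc_c_Cert_tree lc_c_rc_11_1 lc_c_Cert_tree lc_c_rc_13_2 lc_c_rc_13_0 lc_c_rc_11_1 lc_c_rc_26_4 lc_c_rc_11_1 lc_c_rc_13_2 lc_c_rc_11_1 lc_c_rc_11_1 lc_c_Cert_tree lc_c_rc_14_2 lc_c_Cert_tree lc_c_rc_11_1 lc_c_rc_23_0 lc_c_rc_13_2 lc_c_rc_11_1 lc_c_rc_13_2 lc_c_rc_26_8 lc_c_rc_11_1 lc_c_Cert_tree lc_c_rc_11_1 lc_c_rc_13_2 lc_c_rc_11_1 lc_c_rc_7_5 lc_c_rc_11_1 lc_c_Cert_tree lc_c_rc_11_1 lc_c_rc_11_1 lc_c_rc_13_2 lc_c_rc_11_1 lc_c_rc_11_1 lc_c_Cert_tree lc_c_rc_13_2 lc_c_rc_11_1 lc_c_Cert_tree lc_c_rc_23_5) (@D3.rec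 (fun _ => (Cert rels S Gen.c)) lc_c_rc_11_1 lc_c_rc_2_3 lc_c_Cert_tree lc_c_rc_14_2 lc_c_Cert_tree lc_c_Cert_tree lc_c_rc_11_1 lc_c_rc_13_0 lc_c_Cert_tree lc_c_rc_13_2 lc_c_rc_23_0 lc_c_rc_13_2 lc_c_rc_11_1 lc_c_rc_7_3 lc_c_rc_11_1 lc_c_Cert_tree lc_c_Cert_tree lc_c_Cert_tree lc_c_Cert_tree lc_c_rc_11_1 lc_c_rc_23_0 lc_c_rc_11_1 lc_c_rc_23_0 lc_c_rc_7_3 lc_c_rc_11_1 lc_c_Cert_tree lc_c_Cert_tree lc_c_rc_11_1 lc_c_rc_11_1 lc_c_rc_7_3 lc_c_Cert_tree lc_c_rc_13_2 lc_c_rc_22_9 lc_c_rc_13_2 lc_c_rc_14_2 lc_c_Cert_tree lc_c_Cert_tree lc_c_Cert_tree lc_c_Cert_tree lc_c_rc_11_1 lc_c_rc_13_2 lc_c_rc_22_9 lc_c_rc_11_1 lc_c_Cert_tree lc_c_rc_11_1 lc_c_rc_11_1 lc_c_rc_13_2 lc_c_rc_11_1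 lc_c_Cert_tree lc_c_rc_13_2 lc_c_rc_26_2 lc_c_rc_11_1 lc_c_rc_24_8 lc_c_rc_24_8 lc_c_rc_11_1 lc_c_rc_11_1 lc_c_Cert_tree lc_c_rc_13_2 lc_c_rc_11_1 lc_c_rc_11_1 lc_c_rc_13_2 lc_c_rc_14_2) (@D3.rec (fun _ => (Cert rels S Gen.c)) lc_c_rc_11_1 lc_c_rc_13_2 lc_c_Cert_tree lc_c_rc_13_2 lc_c_rc_13_2 lc_c_rc_11_1 lc_c_rc_11_1 lc_c_rc_7_3 lc_c_rc_11_1 lc_c_rc_14_2 lc_c_rc_13_2 lc_c_rc_26_2 lc_c_rc_24_8 lc_c_rc_13_2 lc_c_rc_11_1 lc_c_rc_13_2 lc_c_rc_14_2 lc_c_rc_7_3 lc_c_rc_24_2 lc_c_rc_13_2 lc_c_rc_7_3 lc_c_rc_23_5 lc_c_rc_13_2 lc_c_rc_7_3 lc_c_rc_23_5 lc_c_rc_13_2 lc_c_rc_23_5 lc_c_rc_13_2 lc_c_rc_2_3 lc_c_rc_2_3 lc_c_Cert_tree lc_c_rc_14_2 lc_c_rc_24_8 lc_c_rc_24_8 lc_c_rc_11_1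 lc_c_rc_13_2 lc_c_rc_22_5 lc_c_rc_26_8 lc_c_rc_11_1 lc_c_Cert_tree lc_c_rc_13_2 lc_c_Cert_tree lc_c_rc_11_1 lc_c_rc_13_2 lc_c_Cert_tree lc_c_rc_13_2 lc_c_Cert_tree lc_c_rc_11_1 lc_c_rc_11_1 lc_c_rc_13_2 lc_c_Cert_tree lc_c_rc_26_4 lc_c_rc_25_5 lc_c_rc_13_2 lc_c_rc_11_1 lc_c_Cert_tree lc_c_rc_2_1 lc_c_Cert_tree lc_c_rc_25_1 lc_c_Cert_tree lc_c_rc_11_1 lc_c_rc_13_2) (@D3.rec (fun _ => (Cert rels S Gen.c)) lc_c_rc_24_8 lc_c_rc_13_2 lc_c_rc_14_2 lc_c_rc_26_10 lc_c_rc_11_1 lc_c_rc_11_1 lc_c_Cert_tree lc_c_Cert_tree lc_c_Cert_tree lc_c_Cert_tree lc_c_rc_11_1 lc_c_rc_14_2 lc_c_Cert_tree lc_c_rc_13_2 lc_c_Cert_tree lc_c_rc_13_2 lc_c_Cert_tree lc_c_rc_11_1 lc_c_rc_13_2 lc_c_Cert_tree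 lc_c_Cert_tree lc_c_rc_13_2 lc_c_rc_11_1 lc_c_rc_13_2 lc_c_rc_26_4 lc_c_rc_11_1 lc_c_rc_13_2 lc_c_rc_26_2 lc_c_rc_11_1 lc_c_rc_13_2 lc_c_rc_11_1 lc_c_rc_22_9 lc_c_rc_7_3 lc_c_Cert_tree lc_c_rc_14_2 lc_c_rc_13_2 lc_c_rc_11_1 lc_c_rc_13_2 lc_c_rc_24_8 lc_c_rc_23_0 lc_c_rc_14_2 lc_c_rc_24_6 lc_c_rc_26_10 lc_c_rc_14_2 lc_c_Cert_tree lc_c_Cert_tree lc_c_rc_2_3 lc_c_Cert_tree lc_c_rc_13_2 lc_c_rc_13_2 lc_c_rc_13_2 lc_c_rc_13_2 lc_c_rc_7_3 lc_c_rc_23_5 lc_c_Cert_tree lc_c_rc_26_4 lc_c_rc_11_1 lc_c_Cert_tree lc_c_rc_26_2 lc_c_rc_11_1 lc_c_Cert_tree lc_c_rc_26_10) (@D3.rec (fun _ => (Cert rels S Gen.c)) lc_c_rc_14_2 lc_c_Cert_tree lc_c_rc_11_1 lc_c_Cert_tree lc_c_rc_13_2 lc_c_Cert_tree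 lc_c_Cert_tree lc_c_Cert_tree lc_c_rc_11_1 lc_c_rc_13_2 lc_c_rc_14_2 lc_c_rc_26_4 lc_c_rc_13_2 lc_c_rc_24_8 lc_c_rc_24_8 lc_c_rc_11_1 lc_c_rc_13_2 lc_c_rc_26_4 lc_c_rc_13_2 lc_c_rc_11_1 lc_c_rc_26_8 lc_c_rc_7_3 lc_c_Cert_tree lc_c_rc_13_2 lc_c_rc_11_1 lc_c_rc_13_2 lc_c_rc_13_0 lc_c_rc_7_5 lc_c_rc_11_1 lc_c_rc_11_1 lc_c_rc_13_2 lc_c_rc_7_1 lc_c_rc_24_6 lc_c_rc_13_2 lc_c_rc_11_1 lc_c_rc_13_2 lc_c_rc_13_0 lc_c_Cert_tree lc_c_rc_14_2 lc_c_rc_11_1 lc_c_rc_13_2 lc_c_rc_26_8 lc_c_rc_11_1 lc_c_rc_13_2 lc_c_Cert_tree lc_c_rc_11_1 lc_c_rc_13_2 lc_c_rc_24_2 lc_c_Cert_tree lc_c_rc_13_2 lc_c_Cert_tree lc_c_Cert_tree lc_c_rc_14_2 lc_c_Cert_tree lc_c_rc_13_0 lc_c_rc_13_2 lc_c_rc_13_2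 lc_c_Cert_tree lc_c_rc_11_1 lc_c_rc_7_3 lc_c_rc_13_2 lc_c_rc_11_1)
def ce_c_4 : D2 → D3 → (Cert rels S Gen.c) := @D2.rec (fun _ => D3 → (Cert rels S Gen.c)) (@D3.rec (fun _ => (Cert rels S Gen.c)) lc_c_rc_13_2 lc_c_Cert_tree lc_c_rc_14_2 lc_c_rc_11_1 lc_c_rc_13_2 lc_c_rc_22_5 lc_c_rc_25_17 lc_c_rc_2_3 lc_c_rc_2_3 lc_c_rc_11_1 lc_c_rc_13_2 lc_c_rc_13_2 lc_c_rc_13_2 lc_c_rc_14_2 lc_c_rc_26_8 lc_c_rc_13_2 lc_c_rc_26_8 lc_c_rc_13_2 lc_c_rc_7_3 lc_c_rc_22_5 lc_c_rc_14_2 lc_c_rc_13_2 lc_c_rc_7_3 lc_c_rc_11_1 lc_c_rc_23_5 lc_c_Cert_tree lc_c_Cert_tree lc_c_rc_2_3 lc_c_Cert_tree lc_c_rc_14_2 lc_c_rc_11_1 lc_c_rc_13_2 lc_c_rc_22_7 lc_c_rc_13_2 lc_c_rc_26_4 lc_c_rc_11_1 lc_c_rc_2_3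 lc_c_rc_13_2 lc_c_rc_22_9 lc_c_rc_14_2 lc_c_rc_2_1 lc_c_rc_11_1 lc_c_rc_14_0 lc_c_rc_13_2 lc_c_rc_11_1 lc_c_rc_11_1 lc_c_rc_2_3 lc_c_rc_13_2 lc_c_rc_2_3 lc_c_rc_25_9 lc_c_rc_14_2 lc_c_rc_13_2 lc_c_rc_7_3 lc_c_rc_13_2 lc_c_rc_13_2 lc_c_rc_23_0 lc_c_rc_13_2 lc_c_rc_14_2 lc_c_Cert_tree lc_c_rc_24_2 lc_c_rc_11_1 lc_c_Cert_tree) (@D3.rec (fun _ => (Cert rels S Gen.c)) lc_c_rc_13_2 lc_c_rc_26_10 lc_c_rc_11_1 lc_c_rc_14_2 lc_c_rc_26_4 lc_c_rc_11_1 lc_c_rc_13_2 lc_c_rc_11_1 lc_c_rc_13_2 lc_c_rc_7_3 lc_c_rc_13_2 lc_c_Cert_tree lc_c_rc_11_1 lc_c_rc_13_2 lc_c_rc_11_1 lc_c_rc_11_1 lc_c_rc_23_0 lc_c_rc_24_2 lc_c_rc_13_2 lc_c_rc_11_1 lc_c_rc_13_2 lc_c_rc_13_0 lc_c_rc_11_1 lc_c_rc_13_2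 lc_c_rc_23_5 lc_c_rc_7_3 lc_c_rc_23_5 lc_c_rc_13_2 lc_c_rc_7_5 lc_c_rc_23_5 lc_c_rc_7_3 lc_c_rc_23_5 lc_c_rc_23_5 lc_c_Cert_tree lc_c_rc_12_12 lc_c_rc_24_2 lc_c_rc_11_1 lc_c_rc_13_2 lc_c_rc_22_7 lc_c_Cert_tree lc_c_Cert_tree lc_c_rc_11_1 lc_c_rc_13_2 lc_c_rc_11_1 lc_c_rc_13_2 lc_c_rc_22_5 lc_c_rc_26_8 lc_c_rc_11_1 lc_c_rc_13_2 lc_c_rc_26_8 lc_c_rc_11_1 lc_c_rc_13_2 lc_c_rc_11_1 lc_c_rc_11_1 lc_c_rc_7_3 lc_c_rc_22_5 lc_c_rc_14_2 lc_c_rc_13_2 lc_c_rc_24_6 lc_c_rc_23_0 lc_c_rc_11_1 lc_c_rc_13_2) (@D3.rec (fun _ => (Cert rels S Gen.c)) lc_c_rc_11_1 lc_c_rc_11_1 lc_c_rc_24_8 lc_c_rc_24_2 lc_c_rc_11_1 lc_c_rc_13_2 lc_c_rc_13_2 lc_c_rc_11_1 lc_c_rc_23_5 lc_c_rc_7_3 lc_c_rc_23_5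 lc_c_rc_13_2 lc_c_rc_7_5 lc_c_rc_23_5 lc_c_rc_23_5 lc_c_rc_23_5 lc_c_Cert_tree lc_c_Cert_tree lc_c_rc_2_3 lc_c_Cert_tree lc_c_rc_14_2 lc_c_rc_12_12 lc_c_rc_24_2 lc_c_rc_11_1 lc_c_rc_13_2 lc_c_rc_22_7 lc_c_rc_13_2 lc_c_rc_13_2 lc_c_rc_13_2 lc_c_rc_7_3 lc_c_rc_11_1 lc_c_rc_14_2 lc_c_rc_13_2 lc_c_Cert_tree lc_c_rc_24_8 lc_c_rc_11_1 lc_c_rc_14_2 lc_c_rc_13_2 lc_c_rc_13_2 lc_c_rc_7_3 lc_c_rc_11_1 lc_c_rc_14_2 lc_c_rc_13_2 lc_c_Cert_tree lc_c_rc_13_2 lc_c_rc_11_1 lc_c_rc_13_2 lc_c_rc_14_2 lc_c_rc_11_1 lc_c_rc_12_2 lc_c_rc_13_2 lc_c_rc_23_0 lc_c_rc_11_1 lc_c_rc_7_3 lc_c_Cert_tree lc_c_rc_14_2 lc_c_rc_13_2 lc_c_rc_26_2 lc_c_rc_23_0 lc_c_rc_11_1 lc_c_rc_13_2 lc_c_rc_7_1) (@D3.rec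 (fun _ => (Cert rels S Gen.c)) lc_c_rc_14_2 lc_c_Cert_tree lc_c_rc_26_2 lc_c_rc_11_1 lc_c_rc_13_2 lc_c_rc_24_8 lc_c_Cert_tree lc_c_rc_12_0 lc_c_rc_11_1 lc_c_rc_7_5 lc_c_rc_13_2 lc_c_rc_11_1 lc_c_rc_13_2 lc_c_rc_11_1 lc_c_rc_11_1 lc_c_rc_7_3 lc_c_Cert_tree lc_c_rc_14_2 lc_c_rc_13_2 lc_c_Cert_tree lc_c_rc_11_1 lc_c_rc_13_2 lc_c_Cert_tree lc_c_rc_14_2 lc_c_rc_11_1 lc_c_rc_13_2 lc_c_rc_11_1 lc_c_rc_13_2 lc_c_rc_7_3 lc_c_rc_13_2 lc_c_Cert_tree lc_c_Cert_tree lc_c_Cert_tree lc_c_rc_14_2 lc_c_rc_11_1 lc_c_rc_11_1 lc_c_rc_23_5 lc_c_rc_2_3 lc_c_rc_24_8 lc_c_rc_26_8 lc_c_rc_11_1 lc_c_rc_13_2 lc_c_rc_24_6 lc_c_rc_24_4 lc_c_rc_26_2 lc_c_rc_14_2 lc_c_rc_7_3 lc_c_rc_13_2 lc_c_Cert_tree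 lc_c_Cert_tree lc_c_Cert_tree lc_c_rc_14_2 lc_c_rc_11_1 lc_c_rc_11_1 lc_c_rc_13_2 lc_c_rc_7_1 lc_c_rc_13_2 lc_c_Cert_tree lc_c_Cert_tree lc_c_Cert_tree lc_c_rc_14_2 lc_c_rc_24_2) (@D3.rec (fun _ => (Cert rels S Gen.c)) lc_c_rc_11_1 lc_c_rc_13_2 lc_c_rc_7_1 lc_c_rc_13_2 lc_c_Cert_tree lc_c_Cert_tree lc_c_rc_14_2 lc_c_rc_7_5 lc_c_rc_13_2 lc_c_Cert_tree lc_c_rc_13_2 lc_c_Cert_tree lc_c_Cert_tree lc_c_rc_2_3 lc_c_Cert_tree lc_c_rc_14_2 lc_c_rc_13_2 lc_c_rc_13_2 lc_c_Cert_tree lc_c_Cert_tree lc_c_rc_11_1 lc_c_rc_13_2 lc_c_rc_24_2 lc_c_rc_11_1 lc_c_rc_13_2 lc_c_rc_7_3 lc_c_rc_13_2 lc_c_Cert_tree lc_c_Cert_tree lc_c_Cert_tree lc_c_rc_14_2 lc_c_rc_23_0 lc_c_rc_23_0 lc_c_rc_11_1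 lc_c_rc_7_3 lc_c_Cert_tree lc_c_rc_11_1 lc_c_rc_13_2 lc_c_rc_14_2 lc_c_rc_7_3 lc_c_rc_13_2 lc_c_Cert_tree lc_c_Cert_tree lc_c_Cert_tree lc_c_rc_14_2 lc_c_rc_7_3 lc_c_rc_11_1 lc_c_rc_13_2 lc_c_rc_7_3 lc_c_Cert_tree lc_c_rc_13_2 lc_c_rc_7_3 lc_c_rc_7_5 lc_c_rc_2_3 lc_c_rc_2_3 lc_c_Cert_tree lc_c_rc_14_2 lc_c_rc_11_1 lc_c_rc_13_2 lc_c_rc_22_5 lc_c_rc_26_4 lc_c_rc_26_4) (@D3.rec (fun _ => (Cert rels S Gen.c)) lc_c_rc_11_1 lc_c_rc_11_1 lc_c_Cert_tree lc_c_Cert_tree lc_c_Cert_tree lc_c_rc_11_1 lc_c_rc_14_2 lc_c_Cert_tree lc_c_rc_26_4 lc_c_Cert_tree lc_c_rc_13_2 lc_c_Cert_tree lc_c_rc_11_1 lc_c_rc_13_2 lc_c_Cert_tree lc_c_rc_11_1 lc_c_rc_13_2 lc_c_rc_26_4 lc_c_rc_11_1 lc_c_rc_13_2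 lc_c_rc_26_4 lc_c_rc_11_1 lc_c_rc_13_2 lc_c_rc_11_1 lc_c_rc_11_1 lc_c_Cert_tree lc_c_rc_14_2 lc_c_rc_13_2 lc_c_rc_13_2 lc_c_rc_26_2 lc_c_rc_23_0 lc_c_rc_14_2 lc_c_rc_24_4 lc_c_rc_13_2 lc_c_rc_13_2 lc_c_rc_7_3 lc_c_rc_22_9 lc_c_rc_26_4 lc_c_rc_26_10 lc_c_rc_26_8 lc_c_rc_26_2 lc_c_Cert_tree lc_c_rc_14_0 lc_c_Cert_tree lc_c_Cert_tree lc_c_rc_13_2 lc_c_rc_26_2 lc_c_rc_14_2 lc_c_rc_14_2 lc_c_rc_2_3 lc_c_rc_11_1 lc_c_Cert_tree lc_c_rc_13_2 lc_c_rc_14_2 lc_c_rc_26_8 lc_c_rc_11_1 lc_c_Cert_tree lc_c_rc_13_2 lc_c_Cert_tree lc_c_Cert_tree lc_c_Cert_tree lc_c_rc_11_1) (@D3.rec (fun _ => (Cert rels S Gen.c)) lc_c_rc_13_2 lc_c_rc_14_2 lc_c_rc_7_3 lc_c_rc_13_2 lc_c_rc_11_1 lc_c_rc_13_0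 lc_c_rc_23_0 lc_c_rc_13_2 lc_c_rc_26_4 lc_c_rc_26_2 lc_c_rc_11_1 lc_c_rc_11_1 lc_c_Cert_tree lc_c_Cert_tree lc_c_Cert_tree lc_c_rc_11_1 lc_c_rc_14_2 lc_c_Cert_tree lc_c_rc_11_1 lc_c_rc_7_5 lc_c_Cert_tree lc_c_rc_13_2 lc_c_Cert_tree lc_c_Cert_tree lc_c_rc_11_1 lc_c_rc_13_2 lc_c_Cert_tree lc_c_rc_13_2 lc_c_Cert_tree lc_c_rc_13_2 lc_c_rc_11_1 lc_c_rc_13_2 lc_c_rc_26_2 lc_c_rc_11_1 lc_c_rc_13_2 lc_c_rc_26_2 lc_c_rc_11_1 lc_c_rc_13_2 lc_c_rc_11_1 lc_c_rc_11_1 lc_c_rc_7_3 lc_c_Cert_tree lc_c_rc_14_2 lc_c_rc_13_2 lc_c_rc_11_1 lc_c_rc_13_2 lc_c_rc_7_3 lc_c_rc_2_3 lc_c_rc_14_2 lc_c_rc_24_8 lc_c_rc_11_1 lc_c_rc_13_2 lc_c_rc_7_3 lc_c_rc_13_2 lc_c_rc_11_1 lc_c_rc_13_2 lc_c_rc_26_8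 lc_c_rc_23_0 lc_c_rc_14_2 lc_c_Cert_tree lc_c_Cert_tree lc_c_rc_2_3) (@D3.rec (fun _ => (Cert rels S Gen.c)) lc_c_Cert_tree lc_c_rc_14_2 lc_c_rc_13_2 lc_c_rc_13_2 lc_c_Cert_tree lc_c_rc_24_8 lc_c_rc_14_2 lc_c_rc_2_1 lc_c_Cert_tree lc_c_rc_11_1 lc_c_rc_14_2 lc_c_rc_23_0 lc_c_rc_11_1 lc_c_rc_7_5 lc_c_rc_13_2 lc_c_rc_24_8 lc_c_rc_2_3 lc_c_rc_14_0 lc_c_rc_11_1 lc_c_rc_23_5 lc_c_rc_26_2 lc_c_Cert_tree lc_c_rc_23_5 lc_c_rc_23_0 lc_c_rc_13_2 lc_c_rc_23_5 lc_c_rc_13_0 lc_c_rc_24_2 lc_c_rc_13_2 lc_c_rc_11_1 lc_c_Cert_tree lc_c_rc_13_2 lc_c_Cert_tree lc_c_rc_24_8 lc_c_rc_24_8 lc_c_rc_11_1 lc_c_rc_22_9 lc_c_rc_11_1 lc_c_rc_13_2 lc_c_rc_11_1 lc_c_rc_13_2 lc_c_rc_11_1 lc_c_rc_11_1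 lc_c_rc_7_3 lc_c_Cert_tree lc_c_rc_14_2 lc_c_rc_13_2 lc_c_Cert_tree lc_c_rc_23_5 lc_c_rc_24_8 lc_c_rc_24_8 lc_c_rc_11_1 lc_c_rc_11_1 lc_c_Cert_tree lc_c_rc_13_2 lc_c_rc_24_8 lc_c_rc_11_1 lc_c_rc_14_2 lc_c_rc_11_1 lc_c_rc_13_2 lc_c_rc_12_2 lc_c_rc_23_0) (@D3.rec (fun _ => (Cert rels S Gen.c)) lc_c_rc_11_1 lc_c_rc_13_2 lc_c_rc_11_1 lc_c_rc_11_1 lc_c_rc_7_3 lc_c_Cert_tree lc_c_rc_14_2 lc_c_rc_13_2 lc_c_Cert_tree lc_c_rc_13_2 lc_c_Cert_tree lc_c_rc_13_2 lc_c_Cert_tree lc_c_rc_11_1 lc_c_rc_13_2 lc_c_rc_11_1 lc_c_rc_13_2 lc_c_rc_26_8 lc_c_rc_11_1 lc_c_rc_13_2 lc_c_rc_11_1 lc_c_rc_13_2 lc_c_rc_11_1 lc_c_rc_2_3 lc_c_rc_14_2 lc_c_rc_22_5 lc_c_rc_14_2 lc_c_rc_13_2 lc_c_rc_23_0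 lc_c_rc_11_1 lc_c_rc_13_2 lc_c_rc_11_1 lc_c_rc_23_5 lc_c_rc_23_0 lc_c_rc_11_1 lc_c_rc_13_2 lc_c_rc_23_0 lc_c_rc_14_2 lc_c_rc_11_1 lc_c_rc_13_2 lc_c_rc_11_1 lc_c_rc_13_2 lc_c_rc_11_1 lc_c_rc_11_1 lc_c_rc_7_3 lc_c_rc_12_8 lc_c_rc_13_2 lc_c_Cert_tree lc_c_Cert_tree lc_c_Cert_tree lc_c_rc_14_2 lc_c_rc_11_1 lc_c_rc_12_14 lc_c_Cert_tree lc_c_rc_24_2 lc_c_Cert_tree lc_c_rc_13_2 lc_c_rc_26_2 lc_c_rc_24_2 lc_c_rc_11_1 lc_c_rc_13_2 lc_c_rc_23_0) (@D3.rec (fun _ => (Cert rels S Gen.c)) lc_c_Cert_tree lc_c_rc_26_2 lc_c_rc_11_1 lc_c_rc_13_2 lc_c_rc_24_6 lc_c_Cert_tree lc_c_rc_14_2 lc_c_rc_7_3 lc_c_rc_11_1 lc_c_rc_13_2 lc_c_Cert_tree lc_c_Cert_tree lc_c_Cert_tree lc_c_rc_14_2 lc_c_rc_11_1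 lc_c_rc_11_1 lc_c_rc_23_5 lc_c_rc_13_2 lc_c_rc_24_6 lc_c_rc_2_3 lc_c_rc_7_1 lc_c_rc_23_0 lc_c_rc_13_2 lc_c_rc_2_3 lc_c_rc_11_1 lc_c_Cert_tree lc_c_Cert_tree lc_c_Cert_tree lc_c_rc_14_2 lc_c_rc_23_0 lc_c_rc_11_1 lc_c_rc_13_2 lc_c_rc_7_1 lc_c_rc_23_5 lc_c_rc_13_2 lc_c_rc_11_1 lc_c_Cert_tree lc_c_Cert_tree lc_c_Cert_tree lc_c_rc_14_2 lc_c_Cert_tree lc_c_rc_11_1 lc_c_rc_23_5 lc_c_rc_13_2 lc_c_rc_7_5 lc_c_rc_11_1 lc_c_rc_13_2 lc_c_rc_14_0 lc_c_rc_2_3 lc_c_rc_2_3 lc_c_Cert_tree lc_c_rc_14_2 lc_c_rc_11_1 lc_c_rc_24_2 lc_c_rc_11_1 lc_c_rc_13_2 lc_c_rc_12_4 lc_c_rc_13_2 lc_c_Cert_tree lc_c_Cert_tree lc_c_rc_11_1 lc_c_rc_13_2) (@D3.rec (fun _ => (Cert rels S Gen.c)) lc_c_rc_11_1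 lc_c_rc_13_2 lc_c_rc_2_3 lc_c_rc_11_1 lc_c_Cert_tree lc_c_Cert_tree lc_c_rc_11_1 lc_c_rc_13_2 lc_c_rc_24_2 lc_c_rc_26_2 lc_c_rc_14_2 lc_c_rc_11_1 lc_c_rc_13_2 lc_c_rc_11_1 lc_c_rc_13_2 lc_c_rc_11_1 lc_c_rc_11_1 lc_c_rc_7_3 lc_c_rc_11_1 lc_c_rc_13_2 lc_c_Cert_tree lc_c_Cert_tree lc_c_rc_14_2 lc_c_rc_7_3 lc_c_rc_13_2 lc_c_Cert_tree lc_c_rc_13_2 lc_c_Cert_tree lc_c_Cert_tree lc_c_rc_2_3 lc_c_rc_13_2 lc_c_rc_11_1 lc_c_rc_11_1 lc_c_rc_14_2 lc_c_Cert_tree lc_c_rc_13_2 lc_c_rc_7_1 lc_c_rc_11_1 lc_c_rc_13_2 lc_c_rc_11_1 lc_c_rc_13_2 lc_c_rc_26_4 lc_c_rc_11_1 lc_c_rc_13_2 lc_c_rc_11_1 lc_c_rc_11_1 lc_c_rc_7_3 lc_c_Cert_tree lc_c_rc_13_2 lc_c_Cert_tree lc_c_Cert_tree lc_c_rc_7_5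 lc_c_rc_11_1 lc_c_Cert_tree lc_c_Cert_tree lc_c_rc_2_3 lc_c_rc_2_3 lc_c_rc_11_1 lc_c_rc_23_0 lc_c_rc_24_8 lc_c_rc_11_1 lc_c_rc_14_2) (@D3.rec (fun _ => (Cert rels S Gen.c)) lc_c_rc_7_3 lc_c_rc_11_1 lc_c_rc_13_2 lc_c_rc_24_6 lc_c_rc_11_1 lc_c_rc_7_1 lc_c_rc_23_5 lc_c_rc_13_2 lc_c_Cert_tree lc_c_Cert_tree lc_c_Cert_tree lc_c_rc_14_2 lc_c_Cert_tree lc_c_Cert_tree lc_c_rc_2_3 lc_c_rc_13_2 lc_c_rc_11_1 lc_c_rc_23_0 lc_c_rc_22_3 lc_c_rc_14_2 lc_c_Cert_tree lc_c_Cert_tree lc_c_rc_23_5 lc_c_rc_11_1 lc_c_rc_11_1 lc_c_rc_13_2 lc_c_rc_11_1 lc_c_rc_11_1 lc_c_rc_7_1 lc_c_Cert_tree lc_c_rc_13_2 lc_c_Cert_tree lc_c_Cert_tree lc_c_rc_14_2 lc_c_Cert_tree lc_c_Cert_tree lc_c_rc_2_3 lc_c_rc_26_8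 lc_c_rc_22_3 lc_c_rc_14_2 lc_c_rc_23_0 lc_c_Cert_tree lc_c_Cert_tree lc_c_Cert_tree lc_c_Cert_tree lc_c_rc_11_1 lc_c_rc_14_2 lc_c_Cert_tree lc_c_Cert_tree lc_c_rc_11_1 lc_c_Cert_tree lc_c_rc_13_2 lc_c_rc_14_2 lc_c_Cert_tree lc_c_rc_11_1 lc_c_Cert_tree lc_c_rc_13_2 lc_c_Cert_tree lc_c_Cert_tree lc_c_Cert_tree lc_c_rc_11_1 lc_c_rc_13_2) (@D3.rec (fun _ => (Cert rels S Gen.c)) lc_c_rc_13_2 lc_c_rc_11_1 lc_c_rc_24_8 lc_c_Cert_tree lc_c_rc_11_1 lc_c_Cert_tree lc_c_rc_13_2 lc_c_rc_7_3 lc_c_rc_23_0 lc_c_Cert_tree lc_c_rc_26_4 lc_c_rc_11_1 lc_c_rc_11_1 lc_c_rc_13_2 lc_c_rc_11_1 lc_c_rc_13_2 lc_c_rc_26_10 lc_c_rc_7_5 lc_c_rc_26_4 lc_c_rc_11_1 lc_c_rc_13_2 lc_c_Cert_tree lc_c_rc_11_1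 lc_c_rc_13_2 lc_c_rc_11_1 lc_c_rc_11_1 lc_c_rc_7_3 lc_c_Cert_tree lc_c_rc_13_2 lc_c_Cert_tree lc_c_Cert_tree lc_c_rc_25_17 lc_c_rc_11_1 lc_c_rc_23_0 lc_c_rc_7_5 lc_c_rc_11_1 lc_c_rc_13_2 lc_c_rc_7_1 lc_c_rc_13_2 lc_c_rc_26_8 lc_c_rc_24_8 lc_c_rc_14_2 lc_c_rc_11_1 lc_c_rc_13_2 lc_c_rc_7_1 lc_c_rc_13_2 lc_c_rc_22_7 lc_c_rc_12_0 lc_c_Cert_tree lc_c_rc_11_1 lc_c_Cert_tree lc_c_rc_11_1 lc_c_rc_13_2 lc_c_rc_26_4 lc_c_rc_11_1 lc_c_rc_11_1 lc_c_rc_11_1 lc_c_rc_13_2 lc_c_rc_11_1 lc_c_rc_13_2 lc_c_rc_7_5 lc_c_rc_11_1) (@D3.rec (fun _ => (Cert rels S Gen.c)) lc_c_rc_26_4 lc_c_rc_11_1 lc_c_rc_13_2 lc_c_rc_26_8 lc_c_rc_11_1 lc_c_rc_13_2 lc_c_rc_24_6 lc_c_rc_11_1 lc_c_rc_7_3 lc_c_Cert_tree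 lc_c_rc_13_2 lc_c_Cert_tree lc_c_rc_14_2 lc_c_rc_26_4 lc_c_rc_11_1 lc_c_rc_7_5 lc_c_rc_14_2 lc_c_Cert_tree lc_c_rc_2_3 lc_c_rc_14_2 lc_c_Cert_tree lc_c_rc_11_1 lc_c_rc_26_8 lc_c_rc_11_1 lc_c_rc_14_2 lc_c_rc_11_1 lc_c_rc_7_3 lc_c_rc_13_2 lc_c_rc_11_1 lc_c_rc_23_0 lc_c_rc_2_3 lc_c_Cert_tree lc_c_rc_14_2 lc_c_rc_11_1 lc_c_rc_13_2 lc_c_rc_22_5 lc_c_rc_26_2 lc_c_Cert_tree lc_c_rc_13_2 lc_c_rc_24_8 lc_c_rc_11_1 lc_c_rc_26_8 lc_c_rc_11_1 lc_c_rc_14_2 lc_c_Cert_tree lc_c_rc_23_5 lc_c_rc_24_2 lc_c_rc_11_1 lc_c_rc_14_2 lc_c_rc_12_2 lc_c_rc_13_2 lc_c_rc_26_8 lc_c_rc_11_1 lc_c_rc_22_9 lc_c_rc_26_10 lc_c_rc_26_4 lc_c_rc_11_1 lc_c_rc_14_2 lc_c_Cert_tree lc_c_rc_13_2 lc_c_rc_22_3 lc_c_rc_11_1)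 (@D3.rec (fun _ => (Cert rels S Gen.c)) lc_c_rc_13_2 lc_c_rc_14_2 lc_c_rc_26_2 lc_c_rc_22_9 lc_c_Cert_tree lc_c_rc_13_2 lc_c_rc_11_1 lc_c_rc_13_2 lc_c_rc_2_1 lc_c_rc_11_1 lc_c_rc_13_2 lc_c_rc_26_2 lc_c_rc_11_1 lc_c_rc_13_2 lc_c_rc_22_9 lc_c_rc_7_3 lc_c_Cert_tree lc_c_rc_14_2 lc_c_rc_13_2 lc_c_rc_11_1 lc_c_rc_13_2 lc_c_rc_11_1 lc_c_rc_13_2 lc_c_rc_7_3 lc_c_rc_12_12 lc_c_rc_14_2 lc_c_rc_13_2 lc_c_rc_7_3 lc_c_rc_13_2 lc_c_rc_26_10 lc_c_rc_23_0 lc_c_Cert_tree lc_c_rc_14_2 lc_c_rc_11_1 lc_c_rc_11_1 lc_c_rc_13_2 lc_c_rc_7_1 lc_c_rc_13_2 lc_c_rc_24_8 lc_c_rc_23_0 lc_c_Cert_tree lc_c_rc_14_2 lc_c_rc_13_2 lc_c_rc_13_2 lc_c_rc_13_2 lc_c_rc_14_2 lc_c_Cert_tree lc_c_Cert_tree lc_c_rc_2_3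 lc_c_rc_7_5 lc_c_rc_14_2 lc_c_rc_13_2 lc_c_rc_13_2 lc_c_rc_13_2 lc_c_rc_13_2 lc_c_rc_11_1 lc_c_rc_13_2 lc_c_rc_11_1 lc_c_rc_13_2 lc_c_rc_11_1 lc_c_rc_11_1 lc_c_rc_7_3) (@D3.rec (fun _ => (Cert rels S Gen.c)) lc_c_Cert_tree lc_c_rc_14_2 lc_c_rc_13_2 lc_c_rc_26_10 lc_c_rc_24_8 lc_c_rc_11_1 lc_c_rc_26_8 lc_c_rc_11_1 lc_c_rc_13_2 lc_c_rc_12_0 lc_c_rc_2_3 lc_c_rc_11_1 lc_c_rc_13_2 lc_c_rc_11_1 lc_c_rc_11_1 lc_c_rc_7_3 lc_c_rc_12_12 lc_c_rc_14_2 lc_c_rc_13_2 lc_c_rc_26_8 lc_c_rc_7_5 lc_c_Cert_tree lc_c_rc_11_1 lc_c_rc_13_2 lc_c_rc_11_1 lc_c_rc_13_2 lc_c_rc_26_8 lc_c_rc_11_1 lc_c_rc_13_2 lc_c_rc_11_1 lc_c_rc_13_2 lc_c_rc_11_1 lc_c_rc_11_1 lc_c_rc_14_2 lc_c_rc_22_7 lc_c_rc_14_2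 lc_c_rc_13_2 lc_c_rc_11_1 lc_c_rc_13_2 lc_c_rc_11_1 lc_c_rc_13_2 lc_c_rc_11_1 lc_c_rc_23_0 lc_c_rc_7_3 lc_c_rc_24_8 lc_c_rc_13_2 lc_c_Cert_tree lc_c_Cert_tree lc_c_Cert_tree lc_c_rc_14_2 lc_c_rc_11_1 lc_c_rc_26_2 lc_c_rc_13_2 lc_c_rc_26_2 lc_c_rc_11_1 lc_c_rc_13_2 lc_c_rc_7_5 lc_c_rc_11_1 lc_c_rc_13_2 lc_c_rc_7_3 lc_c_rc_22_7 lc_c_rc_13_2) (@D3.rec (fun _ => (Cert rels S Gen.c)) lc_c_Cert_tree lc_c_Cert_tree lc_c_rc_14_2 lc_c_rc_24_6 lc_c_rc_11_1 lc_c_rc_7_3 lc_c_rc_11_1 lc_c_rc_13_2 lc_c_Cert_tree lc_c_Cert_tree lc_c_Cert_tree lc_c_rc_14_2 lc_c_rc_11_1 lc_c_rc_13_2 lc_c_rc_7_1 lc_c_rc_12_12 lc_c_rc_13_2 lc_c_Cert_tree lc_c_Cert_tree lc_c_Cert_tree lc_c_rc_14_2 lc_c_Cert_tree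 lc_c_rc_11_1 lc_c_rc_12_8 lc_c_rc_13_2 lc_c_Cert_tree lc_c_rc_11_1 lc_c_rc_23_5 lc_c_rc_13_2 lc_c_Cert_tree lc_c_rc_26_4 lc_c_rc_2_3 lc_c_Cert_tree lc_c_rc_11_1 lc_c_rc_11_1 lc_c_rc_11_1 lc_c_rc_13_2 lc_c_rc_22_3 lc_c_rc_13_2 lc_c_Cert_tree lc_c_Cert_tree lc_c_rc_11_1 lc_c_rc_11_1 lc_c_rc_13_2 lc_c_rc_11_1 lc_c_rc_13_2 lc_c_rc_11_1 lc_c_rc_13_2 lc_c_Cert_tree lc_c_rc_11_1 lc_c_rc_13_2 lc_c_rc_11_1 lc_c_rc_11_1 lc_c_rc_7_3 lc_c_rc_22_5 lc_c_rc_13_2 lc_c_Cert_tree lc_c_Cert_tree lc_c_rc_7_5 lc_c_rc_23_5 lc_c_rc_11_1 lc_c_rc_11_1) (@D3.rec (fun _ => (Cert rels S Gen.c)) lc_c_rc_13_2 lc_c_rc_7_1 lc_c_rc_24_8 lc_c_rc_24_2 lc_c_rc_22_7 lc_c_rc_7_3 lc_c_rc_13_2 lc_c_Cert_tree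 lc_c_Cert_tree lc_c_rc_2_3 lc_c_Cert_tree lc_c_rc_13_2 lc_c_rc_11_1 lc_c_rc_13_2 lc_c_rc_11_1 lc_c_rc_13_2 lc_c_rc_11_1 lc_c_rc_26_4 lc_c_rc_11_1 lc_c_rc_13_2 lc_c_rc_11_1 lc_c_rc_13_2 lc_c_rc_11_1 lc_c_rc_11_1 lc_c_rc_7_3 lc_c_Cert_tree lc_c_rc_13_2 lc_c_Cert_tree lc_c_rc_14_2 lc_c_rc_22_9 lc_c_Cert_tree lc_c_Cert_tree lc_c_rc_2_3 lc_c_rc_13_2 lc_c_rc_22_9 lc_c_rc_14_2 lc_c_rc_11_1 lc_c_rc_11_1 lc_c_rc_13_2 lc_c_rc_11_1 lc_c_rc_11_1 lc_c_rc_7_1 lc_c_Cert_tree lc_c_rc_13_2 lc_c_Cert_tree lc_c_Cert_tree lc_c_rc_14_2 lc_c_Cert_tree lc_c_Cert_tree lc_c_rc_2_3 lc_c_rc_13_2 lc_c_rc_11_1 lc_c_rc_23_0 lc_c_Cert_tree lc_c_rc_14_2 lc_c_Cert_tree lc_c_Cert_tree lc_c_rc_11_1 lc_c_Cert_tree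 lc_c_rc_24_4 lc_c_rc_11_1 lc_c_rc_13_2) (@D3.rec (fun _ => (Cert rels S Gen.c)) lc_c_rc_24_6 lc_c_rc_2_3 lc_c_rc_7_1 lc_c_Cert_tree lc_c_rc_13_2 lc_c_Cert_tree lc_c_Cert_tree lc_c_rc_14_2 lc_c_Cert_tree lc_c_Cert_tree lc_c_rc_2_3 lc_c_rc_11_1 lc_c_rc_14_2 lc_c_rc_22_7 lc_c_Cert_tree lc_c_Cert_tree lc_c_Cert_tree lc_c_rc_2_1 lc_c_rc_11_1 lc_c_Cert_tree lc_c_Cert_tree lc_c_Cert_tree lc_c_rc_11_1 lc_c_Cert_tree lc_c_rc_11_1 lc_c_Cert_tree lc_c_rc_24_2 lc_c_Cert_tree lc_c_rc_11_1 lc_c_Cert_tree lc_c_rc_23_0 lc_c_Cert_tree lc_c_rc_11_1 lc_c_rc_23_5 lc_c_rc_13_2 lc_c_rc_14_2 lc_c_rc_26_2 lc_c_rc_11_1 lc_c_rc_13_2 lc_c_rc_11_1 lc_c_rc_13_2 lc_c_rc_23_5 lc_c_rc_26_4 lc_c_rc_11_1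 lc_c_rc_13_2 lc_c_rc_11_1 lc_c_rc_13_2 lc_c_rc_24_4 lc_c_rc_11_1 lc_c_rc_7_3 lc_c_rc_22_5 lc_c_rc_13_2 lc_c_Cert_tree lc_c_Cert_tree lc_c_rc_11_1 lc_c_rc_11_1 lc_c_rc_11_1 lc_c_rc_2_3 lc_c_rc_11_1 lc_c_rc_24_2 lc_c_rc_11_1 lc_c_rc_13_2) (@D3.rec (fun _ => (Cert rels S Gen.c)) lc_c_Cert_tree lc_c_Cert_tree lc_c_Cert_tree lc_c_rc_13_2 lc_c_rc_22_9 lc_c_rc_2_3 lc_c_rc_23_0 lc_c_rc_11_1 lc_c_rc_14_0 lc_c_rc_13_2 lc_c_rc_13_2 lc_c_rc_7_3 lc_c_rc_13_2 lc_c_rc_24_8 lc_c_rc_23_0 lc_c_Cert_tree lc_c_rc_14_2 lc_c_rc_7_3 lc_c_rc_11_1 lc_c_rc_7_3 lc_c_Cert_tree lc_c_rc_26_8 lc_c_rc_11_1 lc_c_rc_13_2 lc_c_rc_11_1 lc_c_rc_13_2 lc_c_rc_2_1 lc_c_rc_26_4 lc_c_rc_11_1 lc_c_rc_13_2 lc_c_rc_26_8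 lc_c_rc_11_1 lc_c_rc_13_2 lc_c_rc_24_4 lc_c_rc_11_1 lc_c_rc_7_3 lc_c_rc_24_6 lc_c_rc_13_2 lc_c_Cert_tree lc_c_Cert_tree lc_c_rc_7_5 lc_c_rc_26_4 lc_c_rc_11_1 lc_c_rc_11_1 lc_c_rc_11_1 lc_c_Cert_tree lc_c_rc_23_0 lc_c_rc_24_8 lc_c_rc_14_2 lc_c_rc_11_1 lc_c_rc_26_8 lc_c_rc_11_1 lc_c_Cert_tree lc_c_rc_14_2 lc_c_rc_11_1 lc_c_rc_13_2 lc_c_rc_11_1 lc_c_rc_13_2 lc_c_rc_11_1 lc_c_rc_11_1 lc_c_rc_7_3 lc_c_rc_11_1) (@D3.rec (fun _ => (Cert rels S Gen.c)) lc_c_rc_14_2 lc_c_rc_13_2 lc_c_rc_11_1 lc_c_rc_13_2 lc_c_rc_7_3 lc_c_rc_12_10 lc_c_rc_23_5 lc_c_rc_7_3 lc_c_rc_24_4 lc_c_rc_13_2 lc_c_rc_2_3 lc_c_rc_14_0 lc_c_rc_2_3 lc_c_Cert_tree lc_c_rc_14_2 lc_c_rc_24_2 lc_c_rc_11_1 lc_c_rc_13_2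 lc_c_rc_22_5 lc_c_rc_24_8 lc_c_rc_26_2 lc_c_rc_11_1 lc_c_rc_26_8 lc_c_rc_11_1 lc_c_rc_13_2 lc_c_rc_11_1 lc_c_rc_7_3 lc_c_rc_11_1 lc_c_rc_14_2 lc_c_rc_13_2 lc_c_rc_11_1 lc_c_rc_13_2 lc_c_rc_24_2 lc_c_rc_23_5 lc_c_rc_13_2 lc_c_rc_7_3 lc_c_rc_23_5 lc_c_rc_14_0 lc_c_rc_7_5 lc_c_Cert_tree lc_c_rc_11_1 lc_c_rc_12_8 lc_c_rc_24_2 lc_c_rc_11_1 lc_c_rc_13_2 lc_c_rc_22_5 lc_c_rc_11_1 lc_c_rc_13_2 lc_c_rc_2_1 lc_c_rc_7_3 lc_c_rc_14_2 lc_c_rc_14_2 lc_c_rc_13_2 lc_c_rc_11_1 lc_c_rc_14_2 lc_c_rc_24_2 lc_c_rc_11_1 lc_c_rc_13_2 lc_c_rc_7_3 lc_c_rc_22_5 lc_c_rc_14_2 lc_c_rc_13_2) (@D3.rec (fun _ => (Cert rels S Gen.c)) lc_c_rc_11_1 lc_c_rc_14_2 lc_c_rc_11_1 lc_c_rc_11_1 lc_c_Cert_tree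 lc_c_rc_13_2 lc_c_rc_11_1 lc_c_rc_13_2 lc_c_rc_23_0 lc_c_rc_24_8 lc_c_rc_13_0 lc_c_rc_11_1 lc_c_rc_13_2 lc_c_rc_22_9 lc_c_rc_7_3 lc_c_Cert_tree lc_c_rc_14_2 lc_c_rc_13_2 lc_c_rc_11_1 lc_c_rc_13_2 lc_c_rc_12_2 lc_c_rc_26_8 lc_c_rc_2_3 lc_c_rc_11_1 lc_c_rc_13_2 lc_c_rc_7_3 lc_c_Cert_tree lc_c_rc_14_2 lc_c_rc_13_2 lc_c_rc_11_1 lc_c_rc_13_2 lc_c_rc_11_1 lc_c_rc_7_3 lc_c_rc_11_1 lc_c_rc_13_2 lc_c_Cert_tree lc_c_Cert_tree lc_c_rc_14_2 lc_c_rc_11_1 lc_c_rc_11_1 lc_c_rc_13_2 lc_c_rc_7_3 lc_c_rc_24_2 lc_c_rc_13_2 lc_c_Cert_tree lc_c_Cert_tree lc_c_rc_14_2 lc_c_rc_7_3 lc_c_rc_23_5 lc_c_rc_13_2 lc_c_Cert_tree lc_c_Cert_tree lc_c_Cert_tree lc_c_rc_14_2 lc_c_rc_11_1 lc_c_rc_13_2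 lc_c_rc_7_1 lc_c_rc_23_5 lc_c_rc_13_2 lc_c_Cert_tree lc_c_Cert_tree lc_c_rc_14_2) (@D3.rec (fun _ => (Cert rels S Gen.c)) lc_c_rc_11_1 lc_c_rc_23_5 lc_c_rc_13_2 lc_c_Cert_tree lc_c_rc_23_5 lc_c_rc_13_2 lc_c_Cert_tree lc_c_Cert_tree lc_c_rc_2_3 lc_c_Cert_tree lc_c_rc_14_2 lc_c_rc_24_6 lc_c_rc_24_6 lc_c_rc_13_2 lc_c_rc_13_2 lc_c_Cert_tree lc_c_Cert_tree lc_c_rc_24_2 lc_c_rc_11_1 lc_c_rc_13_2 lc_c_rc_23_0 lc_c_rc_14_2 lc_c_rc_7_3 lc_c_rc_13_2 lc_c_Cert_tree lc_c_rc_14_2 lc_c_rc_7_3 lc_c_rc_23_5 lc_c_rc_23_5 lc_c_rc_22_9 lc_c_rc_11_1 lc_c_rc_11_1 lc_c_Cert_tree lc_c_rc_13_2 lc_c_rc_13_2 lc_c_rc_13_2 lc_c_rc_23_5 lc_c_Cert_tree lc_c_rc_11_1 lc_c_rc_26_2 lc_c_rc_11_1 lc_c_rc_13_2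 lc_c_rc_7_3 lc_c_rc_13_2 lc_c_Cert_tree lc_c_rc_14_2 lc_c_rc_7_3 lc_c_rc_11_1 lc_c_rc_2_3 lc_c_Cert_tree lc_c_rc_13_2 lc_c_rc_24_6 lc_c_rc_11_1 lc_c_rc_2_3 lc_c_Cert_tree lc_c_rc_13_2 lc_c_rc_24_6 lc_c_rc_23_5 lc_c_rc_13_2 lc_c_rc_24_2 lc_c_Cert_tree lc_c_rc_14_2) (@D3.rec (fun _ => (Cert rels S Gen.c)) lc_c_rc_11_1 lc_c_rc_11_1 lc_c_rc_24_6 lc_c_rc_26_10 lc_c_Cert_tree lc_c_rc_13_2 lc_c_rc_13_0 lc_c_rc_11_1 lc_c_rc_24_2 lc_c_rc_13_2 lc_c_Cert_tree lc_c_rc_14_2 lc_c_rc_26_10 lc_c_rc_22_5 lc_c_Cert_tree lc_c_rc_13_2 lc_c_rc_14_2 lc_c_rc_14_2 lc_c_rc_2_3 lc_c_rc_11_1 lc_c_rc_2_3 lc_c_rc_14_0 lc_c_rc_14_2 lc_c_rc_13_2 lc_c_rc_11_1 lc_c_rc_24_2 lc_c_rc_13_2 lc_c_Cert_tree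 lc_c_Cert_tree lc_c_Cert_tree lc_c_rc_11_1 lc_c_rc_13_2 lc_c_rc_14_2 lc_c_rc_13_2 lc_c_Cert_tree lc_c_rc_13_2 lc_c_Cert_tree lc_c_rc_13_2 lc_c_rc_7_3 lc_c_rc_13_2 lc_c_Cert_tree lc_c_Cert_tree lc_c_rc_14_2 lc_c_rc_13_2 lc_c_Cert_tree lc_c_Cert_tree lc_c_rc_11_1 lc_c_rc_2_3 lc_c_rc_26_2 lc_c_rc_13_2 lc_c_rc_13_2 lc_c_Cert_tree lc_c_rc_11_1 lc_c_rc_13_2 lc_c_rc_26_4 lc_c_rc_2_3 lc_c_rc_26_8 lc_c_rc_13_2 lc_c_Cert_tree lc_c_Cert_tree lc_c_Cert_tree lc_c_rc_11_1) (@D3.rec (fun _ => (Cert rels S Gen.c)) lc_c_rc_13_2 lc_c_rc_2_3 lc_c_rc_7_5 lc_c_rc_14_2 lc_c_rc_24_8 lc_c_rc_13_2 lc_c_rc_13_2 lc_c_rc_14_2 lc_c_rc_7_3 lc_c_rc_23_5 lc_c_rc_11_1 lc_c_rc_11_1 lc_c_Cert_tree lc_c_rc_13_2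 lc_c_rc_7_1 lc_c_Cert_tree lc_c_rc_26_2 lc_c_Cert_tree lc_c_rc_22_5 lc_c_Cert_tree lc_c_Cert_tree lc_c_rc_11_1 lc_c_rc_13_2 lc_c_Cert_tree lc_c_rc_11_1 lc_c_rc_11_1 lc_c_Cert_tree lc_c_rc_14_2 lc_c_rc_23_0 lc_c_rc_12_0 lc_c_rc_11_1 lc_c_rc_11_1 lc_c_rc_24_8 lc_c_rc_26_4 lc_c_rc_13_2 lc_c_Cert_tree lc_c_rc_11_1 lc_c_rc_13_2 lc_c_rc_23_0 lc_c_rc_13_2 lc_c_rc_14_2 lc_c_rc_11_1 lc_c_rc_26_8 lc_c_rc_13_2 lc_c_Cert_tree lc_c_rc_13_2 lc_c_rc_11_1 lc_c_Cert_tree lc_c_rc_11_1 lc_c_rc_13_2 lc_c_rc_7_5 lc_c_rc_11_1 lc_c_Cert_tree lc_c_rc_14_2 lc_c_rc_26_10 lc_c_rc_13_2 lc_c_Cert_tree lc_c_rc_14_2 lc_c_Cert_tree lc_c_rc_7_3 lc_c_Cert_tree lc_c_Cert_tree) (@D3.rec (fun _ => (Cert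 rels S Gen.c)) lc_c_Cert_tree lc_c_rc_11_1 lc_c_rc_14_2 lc_c_rc_7_3 lc_c_Cert_tree lc_c_rc_7_3 lc_c_Cert_tree lc_c_rc_13_2 lc_c_rc_13_2 lc_c_Cert_tree lc_c_rc_14_2 lc_c_rc_11_1 lc_c_rc_22_5 lc_c_rc_26_4 lc_c_rc_11_1 lc_c_Cert_tree lc_c_rc_26_8 lc_c_rc_11_1 lc_c_Cert_tree lc_c_rc_11_1 lc_c_Cert_tree lc_c_rc_13_2 lc_c_Cert_tree lc_c_Cert_tree lc_c_rc_11_1 lc_c_rc_13_2 lc_c_rc_13_0 lc_c_Cert_tree lc_c_Cert_tree lc_c_rc_14_2 lc_c_rc_13_2 lc_c_rc_13_2 lc_c_Cert_tree lc_c_rc_14_2 lc_c_rc_24_2 lc_c_rc_24_2 lc_c_rc_11_1 lc_c_rc_14_2 lc_c_Cert_tree lc_c_rc_13_2 lc_c_rc_7_5 lc_c_Cert_tree lc_c_rc_13_2 lc_c_rc_11_1 lc_c_rc_25_9 lc_c_rc_13_2 lc_c_rc_11_1 lc_c_rc_26_10 lc_c_rc_11_1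 lc_c_rc_13_2 lc_c_rc_14_2 lc_c_Cert_tree lc_c_rc_11_1 lc_c_rc_13_2 lc_c_rc_7_5 lc_c_rc_26_10 lc_c_Cert_tree lc_c_rc_14_2 lc_c_rc_13_2 lc_c_Cert_tree lc_c_rc_13_2 lc_c_rc_11_1) (@D3.rec (fun _ => (Cert rels S Gen.c)) lc_c_rc_13_2 lc_c_rc_11_1 lc_c_rc_13_2 lc_c_rc_11_1 lc_c_Cert_tree lc_c_rc_14_2 lc_c_Cert_tree lc_c_rc_7_5 lc_c_rc_11_1 lc_c_rc_13_2 lc_c_rc_2_3 lc_c_rc_11_1 lc_c_rc_13_2 lc_c_Cert_tree lc_c_rc_11_1 lc_c_rc_13_2 lc_c_rc_11_1 lc_c_rc_11_1 lc_c_rc_7_3 lc_c_rc_22_7 lc_c_rc_13_2 lc_c_rc_14_2 lc_c_rc_26_2 lc_c_rc_13_0 lc_c_rc_14_2 lc_c_rc_13_2 lc_c_rc_7_3 lc_c_Cert_tree lc_c_Cert_tree lc_c_rc_11_1 lc_c_rc_13_2 lc_c_rc_11_1 lc_c_rc_13_2 lc_c_Cert_tree lc_c_rc_14_2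 lc_c_rc_11_1 lc_c_Cert_tree lc_c_rc_2_3 lc_c_rc_26_2 lc_c_rc_13_2 lc_c_rc_13_2 lc_c_Cert_tree lc_c_rc_14_2 lc_c_Cert_tree lc_c_rc_11_1 lc_c_Cert_tree lc_c_rc_13_2 lc_c_Cert_tree lc_c_rc_11_1 lc_c_Cert_tree lc_c_rc_13_2 lc_c_rc_14_2 lc_c_rc_23_0 lc_c_rc_13_2 lc_c_Cert_tree lc_c_Cert_tree lc_c_rc_7_5 lc_c_Cert_tree lc_c_rc_11_1 lc_c_Cert_tree lc_c_Cert_tree lc_c_rc_11_1) (@D3.rec (fun _ => (Cert rels S Gen.c)) lc_c_rc_14_0 lc_c_Cert_tree lc_c_Cert_tree lc_c_rc_11_1 lc_c_rc_7_3 lc_c_Cert_tree lc_c_rc_11_1 lc_c_Cert_tree lc_c_Cert_tree lc_c_rc_26_2 lc_c_rc_11_1 lc_c_rc_26_4 lc_c_rc_11_1 lc_c_rc_13_2 lc_c_rc_11_1 lc_c_rc_13_2 lc_c_rc_11_1 lc_c_rc_11_1 lc_c_rc_7_3 lc_c_rc_12_12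 lc_c_rc_14_2 lc_c_rc_13_2 lc_c_rc_11_1 lc_c_rc_22_5 lc_c_rc_11_1 lc_c_rc_13_2 lc_c_rc_11_1 lc_c_rc_11_1 lc_c_rc_7_3 lc_c_Cert_tree lc_c_rc_14_2 lc_c_rc_26_2 lc_c_rc_11_1 lc_c_rc_13_2 lc_c_rc_11_1 lc_c_rc_13_2 lc_c_rc_11_1 lc_c_rc_11_1 lc_c_rc_7_3 lc_c_rc_22_3 lc_c_rc_14_2 lc_c_rc_13_2 lc_c_rc_11_1 lc_c_rc_13_2 lc_c_rc_23_0 lc_c_rc_13_0 lc_c_rc_11_1 lc_c_rc_13_2 lc_c_rc_11_1 lc_c_rc_13_2 lc_c_rc_11_1 lc_c_rc_11_1 lc_c_rc_7_3 lc_c_rc_24_8 lc_c_rc_13_2 lc_c_Cert_tree lc_c_Cert_tree lc_c_Cert_tree lc_c_rc_14_2 lc_c_rc_11_1 lc_c_rc_7_3 lc_c_rc_22_7) (@D3.rec (fun _ => (Cert rels S Gen.c)) lc_c_rc_13_2 lc_c_Cert_tree lc_c_Cert_tree lc_c_rc_14_2 lc_c_rc_11_1 lc_c_rc_13_2 lc_c_rc_11_1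 lc_c_rc_11_1 lc_c_rc_7_1 lc_c_rc_23_5 lc_c_rc_13_2 lc_c_Cert_tree lc_c_Cert_tree lc_c_Cert_tree lc_c_rc_14_2 lc_c_rc_7_3 lc_c_rc_11_1 lc_c_rc_13_2 lc_c_Cert_tree lc_c_Cert_tree lc_c_rc_23_0 lc_c_rc_14_2 lc_c_Cert_tree lc_c_rc_11_1 lc_c_rc_23_5 lc_c_rc_13_2 lc_c_Cert_tree lc_c_rc_11_1 lc_c_rc_23_5 lc_c_rc_13_2 lc_c_Cert_tree lc_c_Cert_tree lc_c_rc_2_3 lc_c_Cert_tree lc_c_rc_14_2 lc_c_rc_22_7 lc_c_rc_24_2 lc_c_rc_11_1 lc_c_rc_13_2 lc_c_rc_24_8 lc_c_rc_13_2 lc_c_Cert_tree lc_c_Cert_tree lc_c_rc_11_1 lc_c_rc_13_2 lc_c_rc_11_1 lc_c_rc_13_2 lc_c_rc_23_5 lc_c_rc_23_0 lc_c_rc_7_3 lc_c_rc_24_8 lc_c_rc_13_2 lc_c_Cert_tree lc_c_Cert_tree lc_c_rc_14_2 lc_c_rc_7_3 lc_c_rc_13_2 lc_c_Cert_tree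 lc_c_Cert_tree lc_c_rc_2_3 lc_c_Cert_tree lc_c_Cert_tree) (@D3.rec (fun _ => (Cert rels S Gen.c)) lc_c_rc_23_0 lc_c_rc_26_8 lc_c_rc_11_1 lc_c_rc_13_2 lc_c_rc_26_4 lc_c_rc_11_1 lc_c_rc_13_2 lc_c_rc_11_1 lc_c_rc_11_1 lc_c_rc_7_3 lc_c_rc_22_5 lc_c_rc_13_2 lc_c_Cert_tree lc_c_rc_26_2 lc_c_rc_13_2 lc_c_Cert_tree lc_c_Cert_tree lc_c_rc_2_3 lc_c_Cert_tree lc_c_rc_13_2 lc_c_rc_13_2 lc_c_rc_23_5 lc_c_rc_11_1 lc_c_rc_13_2 lc_c_rc_24_6 lc_c_rc_11_1 lc_c_rc_7_1 lc_c_rc_22_3 lc_c_rc_13_2 lc_c_Cert_tree lc_c_Cert_tree lc_c_Cert_tree lc_c_rc_14_2 lc_c_Cert_tree lc_c_Cert_tree lc_c_rc_2_3 lc_c_Cert_tree lc_c_rc_13_2 lc_c_rc_13_2 lc_c_rc_11_1 lc_c_rc_23_0 lc_c_Cert_tree lc_c_rc_14_2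 lc_c_Cert_tree lc_c_Cert_tree lc_c_rc_11_1 lc_c_Cert_tree lc_c_rc_13_2 lc_c_rc_11_1 lc_c_rc_13_2 lc_c_rc_7_1 lc_c_rc_22_7 lc_c_rc_13_2 lc_c_Cert_tree lc_c_Cert_tree lc_c_rc_14_2 lc_c_Cert_tree lc_c_Cert_tree lc_c_rc_2_3 lc_c_Cert_tree lc_c_rc_13_2 lc_c_rc_11_1) (@D3.rec (fun _ => (Cert rels S Gen.c)) lc_c_rc_11_1 lc_c_rc_13_2 lc_c_Cert_tree lc_c_rc_11_1 lc_c_Cert_tree lc_c_Cert_tree lc_c_rc_2_3 lc_c_Cert_tree lc_c_rc_13_2 lc_c_rc_13_2 lc_c_Cert_tree lc_c_rc_14_2 lc_c_Cert_tree lc_c_Cert_tree lc_c_Cert_tree lc_c_rc_11_1 lc_c_Cert_tree lc_c_rc_13_2 lc_c_rc_13_2 lc_c_rc_14_2 lc_c_Cert_tree lc_c_Cert_tree lc_c_rc_11_1 lc_c_Cert_tree lc_c_rc_25_17 lc_c_rc_14_2 lc_c_Cert_tree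 lc_c_rc_11_1 lc_c_Cert_tree lc_c_rc_13_2 lc_c_Cert_tree lc_c_Cert_tree lc_c_Cert_tree lc_c_rc_11_1 lc_c_rc_13_2 lc_c_rc_13_2 lc_c_rc_7_3 lc_c_Cert_tree lc_c_rc_13_2 lc_c_rc_24_8 lc_c_rc_24_8 lc_c_rc_14_2 lc_c_rc_13_2 lc_c_rc_11_1 lc_c_Cert_tree lc_c_Cert_tree lc_c_rc_11_1 lc_c_Cert_tree lc_c_rc_13_2 lc_c_Cert_tree lc_c_rc_11_1 lc_c_Cert_tree lc_c_rc_26_4 lc_c_rc_11_1 lc_c_rc_13_2 lc_c_Cert_tree lc_c_Cert_tree lc_c_rc_2_3 lc_c_rc_13_2 lc_c_Cert_tree lc_c_Cert_tree lc_c_rc_26_2) (@D3.rec (fun _ => (Cert rels S Gen.c)) lc_c_rc_22_3 lc_c_rc_2_3 lc_c_rc_2_1 lc_c_rc_24_6 lc_c_rc_24_6 lc_c_rc_2_3 lc_c_Cert_tree lc_c_Cert_tree lc_c_rc_11_1 lc_c_rc_13_2 lc_c_rc_13_2 lc_c_Cert_tree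 lc_c_rc_13_2 lc_c_rc_13_2 lc_c_rc_7_3 lc_c_rc_7_3 lc_c_rc_11_1 lc_c_rc_13_2 lc_c_rc_11_1 lc_c_rc_13_2 lc_c_rc_26_8 lc_c_rc_11_1 lc_c_rc_13_2 lc_c_rc_11_1 lc_c_rc_11_1 lc_c_rc_7_3 lc_c_rc_22_5 lc_c_rc_13_2 lc_c_Cert_tree lc_c_Cert_tree lc_c_rc_14_2 lc_c_Cert_tree lc_c_Cert_tree lc_c_rc_2_3 lc_c_rc_13_2 lc_c_Cert_tree lc_c_rc_14_2 lc_c_Cert_tree lc_c_rc_23_5 lc_c_Cert_tree lc_c_rc_26_4 lc_c_rc_24_2 lc_c_rc_11_1 lc_c_rc_13_0 lc_c_Cert_tree lc_c_Cert_tree lc_c_rc_26_10 lc_c_rc_26_4 lc_c_rc_7_5 lc_c_rc_11_1 lc_c_rc_13_2 lc_c_rc_13_0 lc_c_rc_13_2 lc_c_rc_26_8 lc_c_rc_24_8 lc_c_rc_24_8 lc_c_rc_26_4 lc_c_rc_26_8 lc_c_rc_13_2 lc_c_Cert_tree lc_c_rc_2_3 lc_c_rc_11_1) (@D3.rec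 (fun _ => (Cert rels S Gen.c)) lc_c_rc_13_2 lc_c_rc_11_1 lc_c_rc_7_5 lc_c_rc_2_1 lc_c_rc_2_1 lc_c_rc_13_2 lc_c_rc_14_2 lc_c_rc_7_3 lc_c_rc_11_1 lc_c_Cert_tree lc_c_rc_11_1 lc_c_Cert_tree lc_c_Cert_tree lc_c_Cert_tree lc_c_rc_11_1 lc_c_rc_13_2 lc_c_Cert_tree lc_c_rc_13_0 lc_c_rc_13_2 lc_c_rc_22_5 lc_c_rc_26_2 lc_c_rc_11_1 lc_c_rc_11_1 lc_c_Cert_tree lc_c_rc_26_8 lc_c_rc_11_1 lc_c_Cert_tree lc_c_rc_14_2 lc_c_rc_11_1 lc_c_Cert_tree lc_c_rc_2_1 lc_c_rc_11_1 lc_c_rc_11_1 lc_c_Cert_tree lc_c_rc_13_2 lc_c_Cert_tree lc_c_Cert_tree lc_c_rc_11_1 lc_c_rc_13_2 lc_c_Cert_tree lc_c_rc_11_1 lc_c_Cert_tree lc_c_rc_26_2 lc_c_rc_14_2 lc_c_rc_26_4 lc_c_Cert_tree lc_c_rc_24_4 lc_c_rc_11_1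 lc_c_Cert_tree lc_c_rc_26_8 lc_c_rc_11_1 lc_c_Cert_tree lc_c_rc_7_3 lc_c_rc_11_1 lc_c_rc_11_1 lc_c_rc_14_0 lc_c_Cert_tree lc_c_rc_14_2 lc_c_rc_11_1 lc_c_rc_13_2 lc_c_rc_14_2 lc_c_rc_7_5) (@D3.rec (fun _ => (Cert rels S Gen.c)) lc_c_Cert_tree lc_c_rc_13_2 lc_c_rc_11_1 lc_c_rc_13_2 lc_c_rc_23_0 lc_c_Cert_tree lc_c_Cert_tree lc_c_Cert_tree lc_c_rc_11_1 lc_c_rc_13_2 lc_c_Cert_tree lc_c_rc_11_1 lc_c_rc_13_2 lc_c_rc_11_1 lc_c_rc_13_2 lc_c_Cert_tree lc_c_Cert_tree lc_c_rc_7_3 lc_c_Cert_tree lc_c_rc_13_2 lc_c_rc_14_2 lc_c_Cert_tree lc_c_Cert_tree lc_c_rc_14_2 lc_c_rc_13_2 lc_c_Cert_tree lc_c_Cert_tree lc_c_rc_11_1 lc_c_rc_13_2 lc_c_rc_26_10 lc_c_rc_26_10 lc_c_rc_13_2 lc_c_Cert_tree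 lc_c_rc_11_1 lc_c_rc_24_8 lc_c_rc_26_8 lc_c_Cert_tree lc_c_Cert_tree lc_c_rc_2_3 lc_c_rc_13_2 lc_c_rc_11_1 lc_c_rc_11_1 lc_c_Cert_tree lc_c_rc_14_2 lc_c_Cert_tree lc_c_rc_11_1 lc_c_rc_11_1 lc_c_rc_13_2 lc_c_Cert_tree lc_c_rc_11_1 lc_c_rc_13_2 lc_c_rc_2_3 lc_c_rc_14_2 lc_c_rc_24_8 lc_c_rc_24_8 lc_c_rc_13_2 lc_c_rc_11_1 lc_c_rc_13_2 lc_c_rc_26_4 lc_c_rc_26_8 lc_c_rc_11_1 lc_c_rc_11_1) (@D3.rec (fun _ => (Cert rels S Gen.c)) lc_c_rc_13_2 lc_c_Cert_tree lc_c_Cert_tree lc_c_Cert_tree lc_c_rc_14_2 lc_c_rc_11_1 lc_c_rc_11_1 lc_c_rc_14_2 lc_c_rc_26_4 lc_c_rc_13_2 lc_c_rc_11_1 lc_c_rc_24_6 lc_c_rc_11_1 lc_c_rc_22_9 lc_c_rc_22_7 lc_c_rc_2_1 lc_c_Cert_tree lc_c_rc_7_3 lc_c_rc_13_2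 lc_c_rc_23_0 lc_c_rc_13_2 lc_c_rc_11_1 lc_c_rc_13_2 lc_c_rc_24_8 lc_c_rc_7_5 lc_c_rc_11_1 lc_c_rc_13_2 lc_c_rc_26_4 lc_c_rc_13_2 lc_c_rc_26_8 lc_c_rc_13_2 lc_c_rc_24_6 lc_c_rc_13_2 lc_c_rc_14_0 lc_c_rc_13_2 lc_c_rc_14_2 lc_c_rc_24_8 lc_c_Cert_tree lc_c_rc_11_1 lc_c_rc_14_2 lc_c_rc_14_0 lc_c_rc_13_2 lc_c_rc_13_2 lc_c_rc_23_5 lc_c_rc_22_9 lc_c_rc_25_17 lc_c_rc_7_3 lc_c_rc_13_2 lc_c_Cert_tree lc_c_rc_11_1 lc_c_rc_13_2 lc_c_Cert_tree lc_c_rc_24_4 lc_c_rc_13_2 lc_c_Cert_tree lc_c_Cert_tree lc_c_Cert_tree lc_c_rc_14_2 lc_c_rc_26_4 lc_c_Cert_tree lc_c_Cert_tree lc_c_Cert_tree) (@D3.rec (fun _ => (Cert rels S Gen.c)) lc_c_rc_11_1 lc_c_rc_14_2 lc_c_rc_22_9 lc_c_rc_24_2 lc_c_rc_26_10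 lc_c_rc_11_1 lc_c_Cert_tree lc_c_Cert_tree lc_c_rc_23_5 lc_c_Cert_tree lc_c_rc_23_5 lc_c_rc_2_1 lc_c_Cert_tree lc_c_Cert_tree lc_c_rc_14_0 lc_c_rc_11_1 lc_c_rc_11_1 lc_c_rc_13_2 lc_c_rc_11_1 lc_c_rc_11_1 lc_c_rc_13_2 lc_c_rc_11_1 lc_c_rc_23_0 lc_c_rc_11_1 lc_c_Cert_tree lc_c_rc_14_2 lc_c_rc_2_3 lc_c_Cert_tree lc_c_rc_13_2 lc_c_rc_26_10 lc_c_rc_23_5 lc_c_Cert_tree lc_c_rc_7_5 lc_c_rc_11_1 lc_c_rc_24_2 lc_c_rc_11_1 lc_c_Cert_tree lc_c_Cert_tree lc_c_Cert_tree lc_c_rc_11_1 lc_c_rc_14_2 lc_c_rc_23_5 lc_c_Cert_tree lc_c_rc_23_5 lc_c_rc_12_0 lc_c_rc_22_3 lc_c_rc_7_3 lc_c_rc_13_2 lc_c_Cert_tree lc_c_rc_11_1 lc_c_rc_13_2 lc_c_rc_11_1 lc_c_rc_11_1 lc_c_rc_13_2 lc_c_rc_25_5 lc_c_rc_13_2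 lc_c_rc_11_1 lc_c_rc_13_2 lc_c_rc_13_0 lc_c_Cert_tree lc_c_Cert_tree lc_c_rc_13_2) (@D3.rec (fun _ => (Cert rels S Gen.c)) lc_c_rc_11_1 lc_c_rc_13_2 lc_c_Cert_tree lc_c_Cert_tree lc_c_rc_14_2 lc_c_Cert_tree lc_c_rc_26_2 lc_c_Cert_tree lc_c_rc_11_1 lc_c_rc_13_2 lc_c_rc_13_0 lc_c_rc_7_5 lc_c_Cert_tree lc_c_rc_14_2 lc_c_rc_11_1 lc_c_rc_24_4 lc_c_rc_26_4 lc_c_rc_13_2 lc_c_Cert_tree lc_c_rc_11_1 lc_c_Cert_tree lc_c_rc_11_1 lc_c_Cert_tree lc_c_rc_11_1 lc_c_Cert_tree lc_c_Cert_tree lc_c_Cert_tree lc_c_rc_11_1 lc_c_rc_14_2 lc_c_Cert_tree lc_c_rc_13_2 lc_c_Cert_tree lc_c_rc_23_5 lc_c_rc_14_2 lc_c_rc_24_8 lc_c_Cert_tree lc_c_rc_23_0 lc_c_Cert_tree lc_c_rc_14_2 lc_c_rc_11_1 lc_c_rc_13_2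 lc_c_rc_14_2 lc_c_rc_22_5 lc_c_rc_7_1 lc_c_Cert_tree lc_c_rc_13_2 lc_c_rc_23_0 lc_c_rc_11_1 lc_c_rc_26_4 lc_c_rc_25_5 lc_c_rc_13_0 lc_c_Cert_tree lc_c_rc_13_2 lc_c_Cert_tree lc_c_rc_12_2 lc_c_Cert_tree lc_c_rc_7_1 lc_c_rc_26_4 lc_c_Cert_tree lc_c_Cert_tree lc_c_rc_11_1 lc_c_rc_13_2) (@D3.rec (fun _ => (Cert rels S Gen.c)) lc_c_rc_14_2 lc_c_rc_26_8 lc_c_rc_26_10 lc_c_Cert_tree lc_c_rc_14_2 lc_c_rc_13_2 lc_c_rc_11_1 lc_c_rc_13_2 lc_c_rc_24_4 lc_c_rc_23_0 lc_c_rc_26_4 lc_c_rc_22_3 lc_c_rc_13_2 lc_c_rc_14_2 lc_c_Cert_tree lc_c_rc_25_17 lc_c_rc_14_2 lc_c_rc_13_2 lc_c_Cert_tree lc_c_Cert_tree lc_c_rc_11_1 lc_c_rc_14_2 lc_c_Cert_tree lc_c_rc_11_1 lc_c_rc_13_2 lc_c_rc_25_1 lc_c_rc_11_1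 lc_c_rc_13_2 lc_c_rc_11_1 lc_c_Cert_tree lc_c_rc_7_3 lc_c_rc_22_9 lc_c_rc_13_2 lc_c_Cert_tree lc_c_Cert_tree lc_c_rc_14_2 lc_c_Cert_tree lc_c_Cert_tree lc_c_rc_11_1 lc_c_rc_14_2 lc_c_rc_7_3 lc_c_rc_12_2 lc_c_rc_13_2 lc_c_Cert_tree lc_c_Cert_tree lc_c_rc_14_2 lc_c_rc_24_2 lc_c_rc_13_2 lc_c_rc_11_1 lc_c_rc_11_1 lc_c_rc_13_2 lc_c_Cert_tree lc_c_Cert_tree lc_c_Cert_tree lc_c_rc_14_2 lc_c_rc_24_6 lc_c_rc_23_5 lc_c_rc_13_2 lc_c_Cert_tree lc_c_Cert_tree lc_c_rc_14_2 lc_c_rc_23_0) (@D3.rec (fun _ => (Cert rels S Gen.c)) lc_c_rc_11_1 lc_c_rc_23_5 lc_c_rc_13_2 lc_c_Cert_tree lc_c_rc_11_1 lc_c_rc_7_3 lc_c_rc_13_2 lc_c_rc_22_5 lc_c_rc_11_1 lc_c_rc_11_1 lc_c_rc_13_2 lc_c_Cert_tree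 lc_c_Cert_tree lc_c_Cert_tree lc_c_rc_14_2 lc_c_Cert_tree lc_c_rc_11_1 lc_c_Cert_tree lc_c_rc_13_2 lc_c_rc_13_2 lc_c_rc_11_1 lc_c_Cert_tree lc_c_rc_13_2 lc_c_rc_11_1 lc_c_Cert_tree lc_c_Cert_tree lc_c_Cert_tree lc_c_rc_11_1 lc_c_rc_11_1 lc_c_rc_13_2 lc_c_rc_2_3 lc_c_rc_11_1 lc_c_Cert_tree lc_c_rc_13_2 lc_c_rc_13_0 lc_c_Cert_tree lc_c_Cert_tree lc_c_rc_14_2 lc_c_rc_23_0 lc_c_rc_23_5 lc_c_Cert_tree lc_c_rc_26_2 lc_c_rc_24_2 lc_c_rc_11_1 lc_c_rc_13_2 lc_c_rc_24_6 lc_c_rc_11_1 lc_c_rc_14_2 lc_c_rc_13_2 lc_c_Cert_tree lc_c_Cert_tree lc_c_rc_13_2 lc_c_rc_7_3 lc_c_rc_23_5 lc_c_rc_23_5 lc_c_rc_13_2 lc_c_rc_23_5 lc_c_rc_24_2 lc_c_rc_24_2 lc_c_rc_11_1 lc_c_rc_14_2 lc_c_Cert_tree)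 (@D3.rec (fun _ => (Cert rels S Gen.c)) lc_c_Cert_tree lc_c_rc_11_1 lc_c_Cert_tree lc_c_rc_13_2 lc_c_Cert_tree lc_c_Cert_tree lc_c_rc_23_0 lc_c_rc_14_2 lc_c_Cert_tree lc_c_rc_2_3 lc_c_Cert_tree lc_c_rc_11_1 lc_c_rc_14_2 lc_c_Cert_tree lc_c_rc_11_1 lc_c_rc_22_3 lc_c_rc_11_1 lc_c_Cert_tree lc_c_rc_11_1 lc_c_rc_13_2 lc_c_Cert_tree lc_c_rc_11_1 lc_c_rc_13_2 lc_c_Cert_tree lc_c_rc_11_1 lc_c_rc_13_2 lc_c_rc_11_1 lc_c_rc_24_8 lc_c_rc_7_3 lc_c_rc_24_2 lc_c_rc_11_1 lc_c_rc_22_3 lc_c_rc_11_1 lc_c_rc_13_2 lc_c_rc_26_4 lc_c_rc_13_2 lc_c_rc_11_1 lc_c_rc_13_2 lc_c_rc_13_2 lc_c_rc_14_2 lc_c_rc_14_2 lc_c_rc_14_2 lc_c_rc_14_2 lc_c_rc_11_1 lc_c_Cert_tree lc_c_rc_14_2 lc_c_rc_11_1 lc_c_Cert_tree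 lc_c_rc_13_2 lc_c_rc_11_1 lc_c_rc_13_2 lc_c_rc_7_3 lc_c_rc_13_2 lc_c_rc_13_2 lc_c_rc_23_5 lc_c_rc_13_2 lc_c_rc_24_2 lc_c_Cert_tree lc_c_rc_11_1 lc_c_rc_11_1 lc_c_rc_14_2 lc_c_rc_13_2) (@D3.rec (fun _ => (Cert rels S Gen.c)) lc_c_Cert_tree lc_c_Cert_tree lc_c_rc_14_2 lc_c_Cert_tree lc_c_rc_26_4 lc_c_rc_23_5 lc_c_Cert_tree lc_c_Cert_tree lc_c_rc_23_5 lc_c_rc_13_2 lc_c_rc_13_2 lc_c_rc_13_2 lc_c_rc_24_2 lc_c_rc_11_1 lc_c_rc_13_2 lc_c_Cert_tree lc_c_rc_11_1 lc_c_rc_7_3 lc_c_rc_22_5 lc_c_rc_13_2 lc_c_Cert_tree lc_c_Cert_tree lc_c_rc_14_2 lc_c_rc_11_1 lc_c_rc_7_3 lc_c_rc_11_1 lc_c_rc_14_2 lc_c_rc_11_1 lc_c_rc_13_2 lc_c_Cert_tree lc_c_rc_7_3 lc_c_rc_24_4 lc_c_rc_7_3 lc_c_rc_24_4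 lc_c_rc_13_2 lc_c_rc_24_4 lc_c_rc_2_3 lc_c_Cert_tree lc_c_rc_13_2 lc_c_rc_11_1 lc_c_rc_13_2 lc_c_rc_11_1 lc_c_rc_11_1 lc_c_Cert_tree lc_c_rc_14_2 lc_c_rc_24_2 lc_c_rc_11_1 lc_c_Cert_tree lc_c_rc_13_2 lc_c_rc_11_1 lc_c_rc_13_2 lc_c_Cert_tree lc_c_Cert_tree lc_c_Cert_tree lc_c_rc_14_2 lc_c_Cert_tree lc_c_Cert_tree lc_c_Cert_tree lc_c_Cert_tree lc_c_rc_23_5 lc_c_Cert_tree lc_c_rc_11_1) (@D3.rec (fun _ => (Cert rels S Gen.c)) lc_c_rc_22_5 lc_c_Cert_tree lc_c_rc_11_1 lc_c_rc_13_2 lc_c_rc_7_1 lc_c_Cert_tree lc_c_rc_13_2 lc_c_rc_11_1 lc_c_rc_14_0 lc_c_rc_23_5 lc_c_rc_23_5 lc_c_rc_11_1 lc_c_rc_26_4 lc_c_rc_7_1 lc_c_Cert_tree lc_c_rc_13_2 lc_c_rc_2_1 lc_c_rc_24_2 lc_c_rc_11_1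 lc_c_rc_23_0 lc_c_rc_11_1 lc_c_rc_24_2 lc_c_rc_13_2 lc_c_Cert_tree lc_c_Cert_tree lc_c_rc_11_1 lc_c_Cert_tree lc_c_rc_13_2 lc_c_Cert_tree lc_c_Cert_tree lc_c_rc_11_1 lc_c_rc_14_2 lc_c_rc_22_7 lc_c_rc_13_2 lc_c_rc_13_2 lc_c_rc_7_3 lc_c_rc_22_5 lc_c_rc_14_2 lc_c_rc_13_2 lc_c_rc_13_2 lc_c_rc_7_3 lc_c_rc_12_8 lc_c_rc_11_1 lc_c_rc_11_1 lc_c_rc_11_1 lc_c_rc_7_3 lc_c_rc_7_3 lc_c_Cert_tree lc_c_rc_11_1 lc_c_rc_13_2 lc_c_rc_26_4 lc_c_rc_11_1 lc_c_rc_13_0 lc_c_Cert_tree lc_c_rc_11_1 lc_c_rc_11_1 lc_c_rc_11_1 lc_c_rc_13_2 lc_c_rc_24_4 lc_c_rc_24_4 lc_c_rc_7_3 lc_c_rc_14_2) (@D3.rec (fun _ => (Cert rels S Gen.c)) lc_c_rc_11_1 lc_c_Cert_tree lc_c_Cert_tree lc_c_Cert_tree lc_c_rc_11_1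 lc_c_Cert_tree lc_c_rc_26_4 lc_c_rc_11_1 lc_c_Cert_tree lc_c_rc_11_1 lc_c_Cert_tree lc_c_rc_13_0 lc_c_rc_11_1 lc_c_rc_7_3 lc_c_rc_12_2 lc_c_rc_14_2 lc_c_rc_7_3 lc_c_Cert_tree lc_c_rc_11_1 lc_c_rc_13_2 lc_c_rc_7_3 lc_c_rc_13_2 lc_c_rc_13_2 lc_c_Cert_tree lc_c_Cert_tree lc_c_Cert_tree lc_c_rc_2_3 lc_c_Cert_tree lc_c_rc_11_1 lc_c_rc_13_2 lc_c_rc_7_3 lc_c_rc_13_2 lc_c_rc_11_1 lc_c_rc_2_1 lc_c_rc_14_2 lc_c_rc_13_2 lc_c_Cert_tree lc_c_rc_11_1 lc_c_rc_13_2 lc_c_rc_11_1 lc_c_rc_11_1 lc_c_rc_13_2 lc_c_rc_14_2 lc_c_rc_26_8 lc_c_rc_24_2 lc_c_rc_25_17 lc_c_rc_11_1 lc_c_rc_22_9 lc_c_rc_26_2 lc_c_rc_13_2 lc_c_rc_24_2 lc_c_rc_11_1 lc_c_rc_24_2 lc_c_rc_13_2 lc_c_rc_23_0 lc_c_Cert_tree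 lc_c_rc_14_2 lc_c_Cert_tree lc_c_rc_26_4 lc_c_rc_26_4 lc_c_rc_7_3 lc_c_rc_13_2) (@D3.rec (fun _ => (Cert rels S Gen.c)) lc_c_rc_26_8 lc_c_rc_11_1 lc_c_rc_11_1 lc_c_rc_13_2 lc_c_rc_26_10 lc_c_rc_13_2 lc_c_rc_13_2 lc_c_rc_13_2 lc_c_rc_11_1 lc_c_rc_13_2 lc_c_rc_7_3 lc_c_rc_26_2 lc_c_rc_13_2 lc_c_rc_13_2 lc_c_rc_2_1 lc_c_rc_11_1 lc_c_rc_13_2 lc_c_rc_14_2 lc_c_Cert_tree lc_c_rc_11_1 lc_c_rc_22_3 lc_c_rc_14_0 lc_c_rc_26_4 lc_c_rc_13_2 lc_c_rc_26_8 lc_c_rc_23_5 lc_c_Cert_tree lc_c_Cert_tree lc_c_Cert_tree lc_c_rc_11_1 lc_c_rc_11_1 lc_c_Cert_tree lc_c_rc_11_1 lc_c_rc_25_13 lc_c_Cert_tree lc_c_rc_23_0 lc_c_rc_11_1 lc_c_rc_13_2 lc_c_rc_22_9 lc_c_rc_14_2 lc_c_rc_24_4 lc_c_rc_26_8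 lc_c_rc_26_4 lc_c_rc_13_2 lc_c_rc_11_1 lc_c_rc_11_1 lc_c_rc_14_0 lc_c_Cert_tree lc_c_rc_26_4 lc_c_rc_11_1 lc_c_rc_24_8 lc_c_rc_22_3 lc_c_rc_23_5 lc_c_rc_14_2 lc_c_rc_14_2 lc_c_rc_13_2 lc_c_rc_13_2 lc_c_rc_13_2 lc_c_rc_26_2 lc_c_rc_26_2 lc_c_rc_13_2 lc_c_Cert_tree) (@D3.rec (fun _ => (Cert rels S Gen.c)) lc_c_Cert_tree lc_c_rc_11_1 lc_c_rc_11_1 lc_c_rc_7_3 lc_c_rc_13_2 lc_c_rc_7_3 lc_c_rc_13_2 lc_c_rc_13_2 lc_c_rc_11_1 lc_c_rc_13_2 lc_c_rc_7_1 lc_c_rc_13_2 lc_c_rc_11_1 lc_c_Cert_tree lc_c_rc_14_2 lc_c_rc_13_2 lc_c_rc_13_2 lc_c_rc_2_3 lc_c_rc_11_1 lc_c_Cert_tree lc_c_rc_11_1 lc_c_rc_13_2 lc_c_rc_11_1 lc_c_rc_13_2 lc_c_rc_11_1 lc_c_rc_13_2 lc_c_rc_11_1 lc_c_rc_13_2 lc_c_rc_7_3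 lc_c_rc_13_2 lc_c_Cert_tree lc_c_rc_11_1 lc_c_rc_7_3 lc_c_rc_13_2 lc_c_rc_11_1 lc_c_rc_2_1 lc_c_rc_26_8 lc_c_rc_13_2 lc_c_rc_7_3 lc_c_rc_13_2 lc_c_rc_7_5 lc_c_rc_11_1 lc_c_rc_13_2 lc_c_rc_26_2 lc_c_rc_24_8 lc_c_rc_13_2 lc_c_rc_22_5 lc_c_rc_11_1 lc_c_rc_22_7 lc_c_rc_11_1 lc_c_rc_13_2 lc_c_rc_23_0 lc_c_rc_11_1 lc_c_rc_13_2 lc_c_Cert_tree lc_c_rc_14_2 lc_c_Cert_tree lc_c_rc_7_5 lc_c_rc_2_3 lc_c_Cert_tree lc_c_rc_13_2 lc_c_rc_2_3) (@D3.rec (fun _ => (Cert rels S Gen.c)) lc_c_rc_11_1 lc_c_rc_11_1 lc_c_rc_13_2 lc_c_Cert_tree lc_c_Cert_tree lc_c_rc_14_2 lc_c_rc_7_3 lc_c_rc_11_1 lc_c_rc_13_2 lc_c_Cert_tree lc_c_rc_7_3 lc_c_rc_24_4 lc_c_rc_13_2 lc_c_rc_7_3 lc_c_rc_24_4 lc_c_rc_13_2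 lc_c_Cert_tree lc_c_Cert_tree lc_c_rc_7_3 lc_c_rc_22_7 lc_c_rc_13_2 lc_c_rc_13_2 lc_c_rc_11_1 lc_c_rc_11_1 lc_c_Cert_tree lc_c_rc_14_2 lc_c_rc_11_1 lc_c_rc_13_2 lc_c_rc_7_1 lc_c_rc_13_2 lc_c_rc_26_10 lc_c_rc_2_3 lc_c_Cert_tree lc_c_rc_26_8 lc_c_rc_7_5 lc_c_rc_13_2 lc_c_rc_26_2 lc_c_rc_13_2 lc_c_rc_22_9 lc_c_rc_2_3 lc_c_rc_24_4 lc_c_rc_11_1 lc_c_rc_13_2 lc_c_rc_24_8 lc_c_rc_11_1 lc_c_rc_13_2 lc_c_rc_11_1 lc_c_rc_11_1 lc_c_rc_24_4 lc_c_rc_14_2 lc_c_rc_11_1 lc_c_Cert_tree lc_c_rc_13_2 lc_c_rc_11_1 lc_c_Cert_tree lc_c_rc_13_2 lc_c_Cert_tree lc_c_rc_11_1 lc_c_rc_14_2 lc_c_rc_7_1 lc_c_rc_11_1 lc_c_Cert_tree) (@D3.rec (fun _ => (Cert rels S Gen.c)) lc_c_rc_11_1 lc_c_rc_2_3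 lc_c_Cert_tree lc_c_rc_7_3 lc_c_rc_13_2 lc_c_rc_13_0 lc_c_rc_11_1 lc_c_rc_23_0 lc_c_rc_14_2 lc_c_rc_11_1 lc_c_Cert_tree lc_c_Cert_tree lc_c_Cert_tree lc_c_rc_11_1 lc_c_rc_14_2 lc_c_Cert_tree lc_c_Cert_tree lc_c_Cert_tree lc_c_rc_11_1 lc_c_Cert_tree lc_c_rc_13_2 lc_c_rc_13_2 lc_c_rc_24_8 lc_c_rc_13_2 lc_c_Cert_tree lc_c_Cert_tree lc_c_Cert_tree lc_c_rc_11_1 lc_c_rc_26_2 lc_c_rc_13_2 lc_c_rc_13_2 lc_c_Cert_tree lc_c_rc_14_2 lc_c_rc_11_1 lc_c_rc_11_1 lc_c_Cert_tree lc_c_rc_13_2 lc_c_rc_26_4 lc_c_Cert_tree lc_c_rc_13_2 lc_c_rc_22_5 lc_c_rc_13_2 lc_c_Cert_tree lc_c_Cert_tree lc_c_rc_11_1 lc_c_rc_13_2 lc_c_Cert_tree lc_c_Cert_tree lc_c_Cert_tree lc_c_rc_14_2 lc_c_Cert_tree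 lc_c_rc_13_2 lc_c_rc_26_2 lc_c_rc_13_2 lc_c_rc_7_3 lc_c_rc_13_2 lc_c_Cert_tree lc_c_Cert_tree lc_c_Cert_tree lc_c_rc_14_2 lc_c_rc_13_2 lc_c_rc_7_3) (@D3.rec (fun _ => (Cert rels S Gen.c)) lc_c_rc_11_1 lc_c_Cert_tree lc_c_rc_23_5 lc_c_Cert_tree lc_c_rc_11_1 lc_c_Cert_tree lc_c_rc_13_2 lc_c_Cert_tree lc_c_Cert_tree lc_c_rc_11_1 lc_c_rc_14_2 lc_c_rc_13_2 lc_c_rc_11_1 lc_c_rc_13_0 lc_c_Cert_tree lc_c_rc_11_1 lc_c_rc_11_1 lc_c_rc_7_1 lc_c_rc_24_6 lc_c_rc_13_2 lc_c_rc_7_3 lc_c_Cert_tree lc_c_rc_13_2 lc_c_Cert_tree lc_c_Cert_tree lc_c_rc_11_1 lc_c_Cert_tree lc_c_rc_13_2 lc_c_Cert_tree lc_c_Cert_tree lc_c_rc_11_1 lc_c_rc_26_2 lc_c_rc_11_1 lc_c_rc_14_2 lc_c_rc_11_1 lc_c_rc_13_2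 lc_c_rc_26_8 lc_c_rc_11_1 lc_c_rc_13_2 lc_c_rc_11_1 lc_c_rc_23_0 lc_c_rc_7_3 lc_c_Cert_tree lc_c_rc_7_3 lc_c_rc_13_2 lc_c_Cert_tree lc_c_Cert_tree lc_c_rc_7_5 lc_c_rc_13_2 lc_c_rc_13_2 lc_c_rc_2_3 lc_c_rc_11_1 lc_c_Cert_tree lc_c_rc_14_2 lc_c_rc_11_1 lc_c_Cert_tree lc_c_Cert_tree lc_c_rc_11_1 lc_c_Cert_tree lc_c_Cert_tree lc_c_Cert_tree lc_c_rc_11_1) (@D3.rec (fun _ => (Cert rels S Gen.c)) lc_c_rc_13_2 lc_c_rc_11_1 lc_c_Cert_tree lc_c_rc_23_0 lc_c_rc_11_1 lc_c_rc_11_1 lc_c_rc_24_4 lc_c_Cert_tree lc_c_Cert_tree lc_c_rc_7_3 lc_c_rc_22_9 lc_c_rc_14_2 lc_c_rc_2_3 lc_c_rc_13_2 lc_c_Cert_tree lc_c_Cert_tree lc_c_rc_13_2 lc_c_rc_13_0 lc_c_rc_23_0 lc_c_Cert_tree lc_c_rc_14_2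 lc_c_rc_11_1 lc_c_Cert_tree lc_c_rc_11_1 lc_c_Cert_tree lc_c_Cert_tree lc_c_Cert_tree lc_c_rc_11_1 lc_c_rc_14_2 lc_c_rc_2_1 lc_c_rc_23_0 lc_c_rc_11_1 lc_c_rc_11_1 lc_c_Cert_tree lc_c_rc_11_1 lc_c_rc_11_1 lc_c_Cert_tree lc_c_rc_13_2 lc_c_rc_7_3 lc_c_rc_22_9 lc_c_rc_14_2 lc_c_rc_13_2 lc_c_rc_13_2 lc_c_rc_11_1 lc_c_rc_11_1 lc_c_rc_11_1 lc_c_rc_26_2 lc_c_rc_13_2 lc_c_rc_26_4 lc_c_rc_14_2 lc_c_rc_23_5 lc_c_rc_11_1 lc_c_rc_13_2 lc_c_rc_7_1 lc_c_Cert_tree lc_c_rc_13_2 lc_c_rc_14_2 lc_c_rc_13_2 lc_c_rc_11_1 lc_c_Cert_tree lc_c_Cert_tree lc_c_Cert_tree) (@D3.rec (fun _ => (Cert rels S Gen.c)) lc_c_rc_14_2 lc_c_Cert_tree lc_c_rc_11_1 lc_c_Cert_tree lc_c_rc_11_1 lc_c_Cert_tree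 lc_c_rc_11_1 lc_c_Cert_tree lc_c_rc_13_2 lc_c_Cert_tree lc_c_Cert_tree lc_c_rc_11_1 lc_c_rc_14_2 lc_c_Cert_tree lc_c_Cert_tree lc_c_rc_11_1 lc_c_Cert_tree lc_c_Cert_tree lc_c_Cert_tree lc_c_rc_11_1 lc_c_rc_13_2 lc_c_Cert_tree lc_c_Cert_tree lc_c_rc_11_1 lc_c_Cert_tree lc_c_rc_13_2 lc_c_rc_11_1 lc_c_rc_13_2 lc_c_rc_11_1 lc_c_Cert_tree lc_c_rc_11_1 lc_c_rc_24_2 lc_c_rc_13_2 lc_c_Cert_tree lc_c_rc_11_1 lc_c_rc_23_0 lc_c_rc_11_1 lc_c_rc_11_1 lc_c_rc_26_4 lc_c_rc_11_1 lc_c_rc_14_2 lc_c_rc_13_2 lc_c_rc_11_1 lc_c_rc_2_3 lc_c_rc_7_1 lc_c_rc_25_9 lc_c_Cert_tree lc_c_rc_11_1 lc_c_rc_14_0 lc_c_rc_2_3 lc_c_Cert_tree lc_c_rc_24_6 lc_c_rc_23_0 lc_c_rc_11_1 lc_c_rc_13_2 lc_c_rc_7_3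 lc_c_rc_24_2 lc_c_rc_11_1 lc_c_rc_11_1 lc_c_rc_13_2 lc_c_rc_13_2 lc_c_rc_26_2) (@D3.rec (fun _ => (Cert rels S Gen.c)) lc_c_rc_7_1 lc_c_rc_11_1 lc_c_rc_13_2 lc_c_rc_11_1 lc_c_Cert_tree lc_c_rc_11_1 lc_c_rc_13_2 lc_c_rc_11_1 lc_c_Cert_tree lc_c_rc_11_1 lc_c_Cert_tree lc_c_rc_11_1 lc_c_rc_22_3 lc_c_Cert_tree lc_c_rc_11_1 lc_c_rc_11_1 lc_c_rc_11_1 lc_c_rc_7_3 lc_c_rc_12_2 lc_c_rc_7_3 lc_c_rc_13_2 lc_c_rc_24_2 lc_c_rc_11_1 lc_c_rc_7_1 lc_c_rc_13_2 lc_c_Cert_tree lc_c_Cert_tree lc_c_Cert_tree lc_c_Cert_tree lc_c_rc_2_3 lc_c_rc_26_2 lc_c_Cert_tree lc_c_rc_13_2 lc_c_Cert_tree lc_c_rc_24_8 lc_c_rc_26_2 lc_c_rc_11_1 lc_c_rc_26_2 lc_c_rc_11_1 lc_c_rc_13_2 lc_c_rc_13_2 lc_c_rc_11_1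 lc_c_rc_11_1 lc_c_rc_7_3 lc_c_Cert_tree lc_c_rc_14_2 lc_c_rc_14_0 lc_c_rc_11_1 lc_c_rc_7_1 lc_c_rc_11_1 lc_c_rc_13_2 lc_c_rc_11_1 lc_c_rc_13_2 lc_c_rc_26_8 lc_c_rc_11_1 lc_c_rc_13_2 lc_c_rc_11_1 lc_c_rc_13_2 lc_c_rc_7_3 lc_c_rc_22_7 lc_c_rc_14_2 lc_c_rc_13_2) (@D3.rec (fun _ => (Cert rels S Gen.c)) lc_c_rc_23_0 lc_c_rc_11_1 lc_c_rc_13_2 lc_c_rc_7_3 lc_c_rc_24_6 lc_c_rc_11_1 lc_c_rc_13_2 lc_c_rc_14_2 lc_c_rc_11_1 lc_c_rc_13_2 lc_c_rc_11_1 lc_c_rc_23_0 lc_c_rc_7_3 lc_c_rc_24_8 lc_c_rc_13_2 lc_c_Cert_tree lc_c_Cert_tree lc_c_rc_14_2 lc_c_rc_11_1 lc_c_rc_12_14 lc_c_rc_24_2 lc_c_rc_11_1 lc_c_rc_13_2 lc_c_rc_23_5 lc_c_rc_11_1 lc_c_rc_13_2 lc_c_rc_7_3 lc_c_rc_12_8 lc_c_rc_13_2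 lc_c_rc_13_0 lc_c_rc_14_2 lc_c_rc_13_2 lc_c_rc_24_6 lc_c_rc_11_1 lc_c_rc_23_5 lc_c_rc_13_2 lc_c_Cert_tree lc_c_Cert_tree lc_c_rc_14_2 lc_c_rc_23_0 lc_c_rc_11_1 lc_c_rc_13_2 lc_c_rc_7_1 lc_c_rc_23_5 lc_c_rc_13_2 lc_c_rc_13_2 lc_c_Cert_tree lc_c_Cert_tree lc_c_rc_14_2 lc_c_rc_26_4 lc_c_rc_23_5 lc_c_rc_13_2 lc_c_rc_7_3 lc_c_rc_23_5 lc_c_rc_13_2 lc_c_rc_2_3 lc_c_rc_26_4 lc_c_rc_2_3 lc_c_Cert_tree lc_c_rc_14_2 lc_c_rc_12_8 lc_c_rc_24_2) (@D3.rec (fun _ => (Cert rels S Gen.c)) lc_c_rc_11_1 lc_c_rc_13_2 lc_c_rc_22_3 lc_c_rc_13_2 lc_c_Cert_tree lc_c_Cert_tree lc_c_rc_11_1 lc_c_rc_13_2 lc_c_rc_24_4 lc_c_rc_11_1 lc_c_rc_22_7 lc_c_rc_13_2 lc_c_Cert_tree lc_c_Cert_tree lc_c_rc_7_5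 lc_c_rc_26_4 lc_c_Cert_tree lc_c_rc_11_1 lc_c_rc_22_7 lc_c_rc_11_1 lc_c_rc_13_2 lc_c_rc_12_2 lc_c_rc_22_7 lc_c_rc_13_2 lc_c_Cert_tree lc_c_Cert_tree lc_c_rc_7_5 lc_c_rc_22_3 lc_c_rc_11_1 lc_c_rc_14_2 lc_c_Cert_tree lc_c_rc_7_3 lc_c_rc_11_1 lc_c_Cert_tree lc_c_rc_13_2 lc_c_rc_14_2 lc_c_rc_11_1 lc_c_Cert_tree lc_c_Cert_tree lc_c_rc_11_1 lc_c_rc_11_1 lc_c_rc_13_2 lc_c_rc_13_2 lc_c_Cert_tree lc_c_rc_23_5 lc_c_rc_23_0 lc_c_rc_7_3 lc_c_rc_13_2 lc_c_rc_13_2 lc_c_rc_13_2 lc_c_rc_14_2 lc_c_rc_24_8 lc_c_rc_26_4 lc_c_rc_11_1 lc_c_rc_13_2 lc_c_Cert_tree lc_c_Cert_tree lc_c_Cert_tree lc_c_rc_14_2 lc_c_rc_26_2 lc_c_rc_11_1 lc_c_rc_13_2) (@D3.rec (fun _ => (Cert rels S Gen.c)) lc_c_Cert_tree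 lc_c_Cert_tree lc_c_rc_14_2 lc_c_Cert_tree lc_c_rc_23_5 lc_c_rc_13_2 lc_c_rc_7_3 lc_c_rc_23_5 lc_c_rc_13_2 lc_c_rc_26_2 lc_c_rc_26_2 lc_c_rc_2_3 lc_c_Cert_tree lc_c_rc_11_1 lc_c_rc_11_1 lc_c_rc_13_2 lc_c_rc_13_2 lc_c_rc_23_0 lc_c_rc_26_4 lc_c_rc_13_2 lc_c_rc_22_5 lc_c_rc_13_2 lc_c_Cert_tree lc_c_Cert_tree lc_c_rc_14_2 lc_c_Cert_tree lc_c_Cert_tree lc_c_rc_23_5 lc_c_rc_13_2 lc_c_rc_11_1 lc_c_rc_2_3 lc_c_rc_7_5 lc_c_rc_22_5 lc_c_Cert_tree lc_c_Cert_tree lc_c_rc_13_2 lc_c_Cert_tree lc_c_rc_26_4 lc_c_rc_11_1 lc_c_Cert_tree lc_c_rc_13_2 lc_c_Cert_tree lc_c_rc_11_1 lc_c_Cert_tree lc_c_Cert_tree lc_c_rc_24_8 lc_c_rc_22_3 lc_c_rc_11_1 lc_c_rc_11_1 lc_c_rc_26_2 lc_c_rc_2_3 lc_c_rc_11_1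 lc_c_rc_13_2 lc_c_rc_26_10 lc_c_rc_11_1 lc_c_rc_13_0 lc_c_Cert_tree lc_c_Cert_tree lc_c_rc_24_8 lc_c_rc_24_8 lc_c_rc_11_1 lc_c_rc_14_2) (@D3.rec (fun _ => (Cert rels S Gen.c)) lc_c_Cert_tree lc_c_rc_13_2 lc_c_rc_26_2 lc_c_rc_11_1 lc_c_rc_26_2 lc_c_rc_11_1 lc_c_rc_13_2 lc_c_rc_11_1 lc_c_rc_13_2 lc_c_rc_11_1 lc_c_rc_11_1 lc_c_rc_7_3 lc_c_Cert_tree lc_c_rc_14_2 lc_c_rc_13_2 lc_c_Cert_tree lc_c_rc_13_2 lc_c_rc_24_8 lc_c_rc_11_1 lc_c_rc_26_10 lc_c_rc_11_1 lc_c_rc_13_2 lc_c_rc_11_1 lc_c_rc_13_2 lc_c_rc_11_1 lc_c_rc_11_1 lc_c_rc_7_3 lc_c_Cert_tree lc_c_rc_14_2 lc_c_rc_13_2 lc_c_rc_11_1 lc_c_rc_13_2 lc_c_rc_11_1 lc_c_rc_13_2 lc_c_rc_11_1 lc_c_rc_13_2 lc_c_rc_11_1 lc_c_rc_13_2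 lc_c_rc_11_1 lc_c_rc_7_3 lc_c_rc_22_7 lc_c_rc_14_2 lc_c_rc_13_2 lc_c_rc_26_4 lc_c_rc_11_1 lc_c_rc_13_2 lc_c_rc_11_1 lc_c_rc_2_3 lc_c_rc_26_8 lc_c_rc_26_2 lc_c_rc_11_1 lc_c_rc_13_2 lc_c_rc_24_2 lc_c_rc_14_2 lc_c_rc_11_1 lc_c_rc_13_2 lc_c_rc_11_1 lc_c_rc_23_0 lc_c_rc_7_3 lc_c_rc_24_8 lc_c_rc_13_2 lc_c_Cert_tree) (@D3.rec (fun _ => (Cert rels S Gen.c)) lc_c_Cert_tree lc_c_rc_14_2 lc_c_rc_11_1 lc_c_rc_11_1 lc_c_rc_13_2 lc_c_rc_26_2 lc_c_rc_11_1 lc_c_rc_13_2 lc_c_rc_2_3 lc_c_rc_11_1 lc_c_rc_13_2 lc_c_rc_7_3 lc_c_rc_24_2 lc_c_rc_13_2 lc_c_Cert_tree lc_c_rc_14_2 lc_c_rc_13_2 lc_c_rc_24_6 lc_c_rc_11_1 lc_c_rc_23_5 lc_c_rc_13_2 lc_c_Cert_tree lc_c_Cert_tree lc_c_Cert_tree lc_c_rc_14_2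 lc_c_rc_11_1 lc_c_rc_13_2 lc_c_rc_7_1 lc_c_rc_23_5 lc_c_rc_13_2 lc_c_Cert_tree lc_c_Cert_tree lc_c_Cert_tree lc_c_rc_14_2 lc_c_Cert_tree lc_c_rc_23_5 lc_c_rc_13_2 lc_c_rc_7_5 lc_c_rc_23_5 lc_c_rc_13_2 lc_c_rc_26_2 lc_c_rc_23_0 lc_c_rc_2_3 lc_c_rc_23_0 lc_c_rc_14_2 lc_c_rc_12_8 lc_c_rc_11_1 lc_c_rc_11_1 lc_c_rc_13_2 lc_c_rc_22_3 lc_c_rc_13_2 lc_c_Cert_tree lc_c_Cert_tree lc_c_Cert_tree lc_c_Cert_tree lc_c_Cert_tree lc_c_rc_14_2 lc_c_Cert_tree lc_c_Cert_tree lc_c_Cert_tree lc_c_rc_13_2 lc_c_rc_11_1) (@D3.rec (fun _ => (Cert rels S Gen.c)) lc_c_rc_11_1 lc_c_rc_13_2 lc_c_rc_11_1 lc_c_rc_11_1 lc_c_rc_13_2 lc_c_Cert_tree lc_c_Cert_tree lc_c_rc_14_2 lc_c_rc_13_2 lc_c_Cert_tree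 lc_c_rc_14_2 lc_c_Cert_tree lc_c_rc_2_3 lc_c_rc_11_1 lc_c_rc_23_5 lc_c_rc_13_2 lc_c_rc_7_3 lc_c_Cert_tree lc_c_rc_11_1 lc_c_rc_13_0 lc_c_rc_13_2 lc_c_rc_7_5 lc_c_rc_23_5 lc_c_rc_14_2 lc_c_rc_11_1 lc_c_rc_24_8 lc_c_rc_14_2 lc_c_Cert_tree lc_c_rc_26_4 lc_c_rc_23_0 lc_c_rc_23_5 lc_c_Cert_tree lc_c_rc_23_0 lc_c_rc_7_3 lc_c_rc_2_3 lc_c_rc_2_3 lc_c_rc_13_2 lc_c_Cert_tree lc_c_rc_11_1 lc_c_rc_11_1 lc_c_rc_13_2 lc_c_rc_11_1 lc_c_rc_13_2 lc_c_Cert_tree lc_c_Cert_tree lc_c_rc_24_8 lc_c_rc_7_3 lc_c_rc_24_2 lc_c_rc_13_2 lc_c_rc_13_2 lc_c_rc_14_2 lc_c_rc_13_2 lc_c_rc_11_1 lc_c_rc_2_3 lc_c_Cert_tree lc_c_rc_11_1 lc_c_rc_13_2 lc_c_rc_7_1 lc_c_rc_11_1 lc_c_rc_11_1 lc_c_rc_13_2 lc_c_rc_24_4)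 (@D3.rec (fun _ => (Cert rels S Gen.c)) lc_c_rc_14_2 lc_c_rc_24_2 lc_c_rc_13_2 lc_c_Cert_tree lc_c_rc_26_4 lc_c_Cert_tree lc_c_rc_24_2 lc_c_rc_11_1 lc_c_Cert_tree lc_c_rc_14_2 lc_c_Cert_tree lc_c_rc_11_1 lc_c_rc_13_2 lc_c_rc_14_2 lc_c_rc_2_1 lc_c_rc_26_10 lc_c_rc_2_1 lc_c_rc_11_1 lc_c_Cert_tree lc_c_rc_13_2 lc_c_Cert_tree lc_c_rc_13_2 lc_c_rc_11_1 lc_c_rc_13_2 lc_c_rc_14_0 lc_c_rc_26_10 lc_c_rc_23_5 lc_c_rc_13_0 lc_c_rc_11_1 lc_c_rc_13_2 lc_c_rc_26_4 lc_c_rc_11_1 lc_c_rc_2_3 lc_c_Cert_tree lc_c_rc_2_3 lc_c_rc_7_3 lc_c_Cert_tree lc_c_rc_13_2 lc_c_rc_14_2 lc_c_Cert_tree lc_c_Cert_tree lc_c_rc_14_2 lc_c_rc_13_2 lc_c_rc_13_0 lc_c_rc_11_1 lc_c_Cert_tree lc_c_Cert_tree lc_c_Cert_tree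 lc_c_rc_2_3 lc_c_rc_13_2 lc_c_Cert_tree lc_c_rc_14_2 lc_c_Cert_tree lc_c_rc_24_6 lc_c_rc_13_2 lc_c_Cert_tree lc_c_rc_23_5 lc_c_rc_14_2 lc_c_rc_24_8 lc_c_rc_11_1 lc_c_Cert_tree lc_c_rc_11_1) (@D3.rec (fun _ => (Cert rels S Gen.c)) lc_c_rc_13_2 lc_c_rc_13_2 lc_c_Cert_tree lc_c_rc_14_2 lc_c_rc_7_5 lc_c_Cert_tree lc_c_Cert_tree lc_c_rc_24_2 lc_c_rc_24_8 lc_c_rc_11_1 lc_c_rc_22_5 lc_c_Cert_tree lc_c_rc_11_1 lc_c_rc_11_1 lc_c_rc_13_2 lc_c_Cert_tree lc_c_rc_26_2 lc_c_rc_13_2 lc_c_rc_11_1 lc_c_rc_7_5 lc_c_Cert_tree lc_c_rc_26_8 lc_c_rc_23_0 lc_c_rc_13_2 lc_c_rc_26_10 lc_c_rc_11_1 lc_c_Cert_tree lc_c_rc_26_4 lc_c_rc_26_10 lc_c_rc_23_0 lc_c_rc_13_2 lc_c_rc_24_8 lc_c_rc_11_1 lc_c_rc_11_1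 lc_c_rc_14_2 lc_c_rc_11_1 lc_c_rc_13_2 lc_c_rc_11_1 lc_c_rc_23_0 lc_c_rc_24_4 lc_c_rc_11_1 lc_c_rc_13_2 lc_c_rc_14_2 lc_c_rc_7_5 lc_c_Cert_tree lc_c_rc_14_2 lc_c_rc_13_2 lc_c_Cert_tree lc_c_Cert_tree lc_c_rc_11_1 lc_c_rc_22_3 lc_c_Cert_tree lc_c_rc_11_1 lc_c_rc_26_4 lc_c_Cert_tree lc_c_rc_13_2 lc_c_rc_26_10 lc_c_rc_11_1 lc_c_rc_13_2 lc_c_Cert_tree lc_c_rc_13_2 lc_c_Cert_tree) (@D3.rec (fun _ => (Cert rels S Gen.c)) lc_c_rc_7_3 lc_c_rc_11_1 lc_c_rc_13_2 lc_c_Cert_tree lc_c_Cert_tree lc_c_rc_14_2 lc_c_Cert_tree lc_c_Cert_tree lc_c_rc_11_1 lc_c_rc_14_2 lc_c_rc_26_8 lc_c_rc_11_1 lc_c_rc_13_2 lc_c_rc_11_1 lc_c_rc_13_2 lc_c_rc_24_6 lc_c_rc_7_3 lc_c_rc_13_2 lc_c_Cert_tree lc_c_Cert_tree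 lc_c_rc_14_2 lc_c_rc_13_2 lc_c_rc_24_6 lc_c_rc_23_5 lc_c_rc_11_1 lc_c_rc_12_8 lc_c_rc_13_2 lc_c_Cert_tree lc_c_Cert_tree lc_c_rc_14_2 lc_c_rc_24_2 lc_c_rc_11_1 lc_c_rc_13_2 lc_c_rc_7_1 lc_c_rc_11_1 lc_c_rc_13_2 lc_c_Cert_tree lc_c_rc_13_0 lc_c_rc_14_2 lc_c_rc_26_4 lc_c_rc_23_5 lc_c_rc_13_2 lc_c_rc_7_5 lc_c_rc_23_5 lc_c_rc_13_2 lc_c_rc_12_0 lc_c_rc_22_7 lc_c_rc_13_2 lc_c_rc_22_3 lc_c_rc_23_0 lc_c_rc_11_1 lc_c_Cert_tree lc_c_rc_14_2 lc_c_rc_13_2 lc_c_rc_26_8 lc_c_rc_11_1 lc_c_rc_13_0 lc_c_rc_13_2 lc_c_Cert_tree lc_c_rc_11_1 lc_c_rc_25_13 lc_c_rc_13_2)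
def ce_c_5 : D2 → D3 → (Cert rels S Gen.c) := @D2.rec (fun _ => D3 → (Cert rels S Gen.c)) (@D3.rec (fun _ => (Cert rels S Gen.c)) lc_c_rc_26_4 lc_c_rc_26_2 lc_c_Cert_tree lc_c_rc_26_4 lc_c_Cert_tree lc_c_Cert_tree lc_c_Cert_tree lc_c_rc_11_1 lc_c_rc_11_1 lc_c_rc_26_4 lc_c_rc_11_1 lc_c_Cert_tree lc_c_rc_13_2 lc_c_rc_11_1 lc_c_rc_24_2 lc_c_rc_13_0 lc_c_rc_14_2 lc_c_Cert_tree lc_c_rc_2_3 lc_c_Cert_tree lc_c_rc_11_1 lc_c_rc_14_2 lc_c_rc_11_1 lc_c_rc_11_1 lc_c_rc_13_2 lc_c_Cert_tree lc_c_rc_13_2 lc_c_rc_7_3 lc_c_rc_22_7 lc_c_rc_14_2 lc_c_rc_11_1 lc_c_rc_7_3 lc_c_Cert_tree lc_c_rc_11_1 lc_c_rc_7_3 lc_c_rc_24_8 lc_c_rc_26_4 lc_c_rc_11_1 lc_c_rc_23_5 lc_c_rc_11_1 lc_c_rc_11_1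 lc_c_rc_11_1 lc_c_rc_11_1 lc_c_rc_7_3 lc_c_rc_22_9 lc_c_Cert_tree lc_c_rc_11_1 lc_c_rc_11_1 lc_c_rc_13_2 lc_c_rc_11_1 lc_c_rc_13_2 lc_c_rc_11_1 lc_c_rc_11_1 lc_c_rc_7_3 lc_c_rc_22_7 lc_c_rc_14_2 lc_c_rc_13_2 lc_c_Cert_tree lc_c_rc_24_2 lc_c_rc_23_0 lc_c_rc_11_1 lc_c_rc_13_2) (@D3.rec (fun _ => (Cert rels S Gen.c)) lc_c_rc_23_0 lc_c_rc_11_1 lc_c_rc_13_2 lc_c_rc_11_1 lc_c_rc_13_2 lc_c_rc_11_1 lc_c_rc_13_2 lc_c_rc_11_1 lc_c_rc_23_0 lc_c_rc_7_3 lc_c_rc_11_1 lc_c_rc_13_2 lc_c_rc_22_3 lc_c_Cert_tree lc_c_rc_14_2 lc_c_rc_11_1 lc_c_rc_23_0 lc_c_rc_11_1 lc_c_rc_13_2 lc_c_rc_13_0 lc_c_rc_26_8 lc_c_rc_11_1 lc_c_rc_13_2 lc_c_rc_24_8 lc_c_rc_14_2 lc_c_rc_12_8 lc_c_rc_13_2 lc_c_Cert_tree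 lc_c_Cert_tree lc_c_rc_14_2 lc_c_rc_11_1 lc_c_rc_11_1 lc_c_rc_13_2 lc_c_rc_24_6 lc_c_rc_7_1 lc_c_rc_23_5 lc_c_rc_13_2 lc_c_Cert_tree lc_c_Cert_tree lc_c_rc_14_2 lc_c_rc_13_2 lc_c_rc_11_1 lc_c_rc_23_5 lc_c_rc_13_2 lc_c_Cert_tree lc_c_Cert_tree lc_c_rc_14_2 lc_c_Cert_tree lc_c_rc_23_5 lc_c_rc_13_2 lc_c_rc_26_2 lc_c_rc_23_5 lc_c_rc_13_2 lc_c_Cert_tree lc_c_Cert_tree lc_c_rc_2_3 lc_c_Cert_tree lc_c_rc_14_2 lc_c_rc_12_8 lc_c_rc_24_2 lc_c_rc_11_1 lc_c_rc_13_2) (@D3.rec (fun _ => (Cert rels S Gen.c)) lc_c_rc_22_3 lc_c_rc_13_2 lc_c_Cert_tree lc_c_rc_7_5 lc_c_rc_11_1 lc_c_rc_13_2 lc_c_Cert_tree lc_c_rc_11_1 lc_c_rc_13_2 lc_c_rc_11_1 lc_c_rc_11_1 lc_c_rc_7_3 lc_c_rc_12_8 lc_c_rc_13_2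 lc_c_Cert_tree lc_c_Cert_tree lc_c_rc_14_2 lc_c_rc_11_1 lc_c_rc_13_2 lc_c_rc_7_1 lc_c_rc_24_4 lc_c_rc_13_2 lc_c_Cert_tree lc_c_Cert_tree lc_c_rc_14_2 lc_c_rc_7_3 lc_c_rc_23_5 lc_c_rc_13_2 lc_c_Cert_tree lc_c_rc_23_5 lc_c_rc_13_2 lc_c_Cert_tree lc_c_rc_23_0 lc_c_Cert_tree lc_c_Cert_tree lc_c_rc_2_3 lc_c_rc_7_1 lc_c_rc_13_2 lc_c_rc_13_2 lc_c_rc_11_1 lc_c_rc_11_1 lc_c_rc_14_2 lc_c_Cert_tree lc_c_rc_11_1 lc_c_rc_11_1 lc_c_rc_13_2 lc_c_rc_11_1 lc_c_rc_13_2 lc_c_rc_11_1 lc_c_rc_13_2 lc_c_rc_26_4 lc_c_rc_11_1 lc_c_rc_13_2 lc_c_rc_11_1 lc_c_rc_13_2 lc_c_rc_11_1 lc_c_rc_11_1 lc_c_rc_7_3 lc_c_rc_11_1 lc_c_rc_13_2 lc_c_Cert_tree lc_c_Cert_tree) (@D3.rec (fun _ => (Cert rels S Gen.c))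 lc_c_rc_14_2 lc_c_rc_26_4 lc_c_rc_11_1 lc_c_rc_11_1 lc_c_Cert_tree lc_c_Cert_tree lc_c_rc_2_3 lc_c_Cert_tree lc_c_rc_13_2 lc_c_rc_13_2 lc_c_rc_2_3 lc_c_rc_13_2 lc_c_rc_14_2 lc_c_rc_11_1 lc_c_rc_26_2 lc_c_rc_22_3 lc_c_rc_11_1 lc_c_rc_11_1 lc_c_rc_7_1 lc_c_rc_12_14 lc_c_rc_13_2 lc_c_Cert_tree lc_c_Cert_tree lc_c_rc_14_2 lc_c_Cert_tree lc_c_Cert_tree lc_c_rc_2_3 lc_c_rc_11_1 lc_c_rc_13_2 lc_c_rc_24_2 lc_c_rc_23_0 lc_c_rc_13_2 lc_c_rc_23_0 lc_c_rc_11_1 lc_c_Cert_tree lc_c_rc_14_2 lc_c_Cert_tree lc_c_rc_11_1 lc_c_Cert_tree lc_c_rc_11_1 lc_c_rc_23_5 lc_c_rc_13_2 lc_c_rc_11_1 lc_c_rc_13_2 lc_c_rc_11_1 lc_c_rc_7_1 lc_c_rc_22_5 lc_c_rc_13_2 lc_c_Cert_tree lc_c_Cert_tree lc_c_rc_14_2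 lc_c_Cert_tree lc_c_Cert_tree lc_c_rc_2_3 lc_c_Cert_tree lc_c_rc_13_2 lc_c_rc_13_2 lc_c_rc_11_1 lc_c_rc_11_1 lc_c_rc_14_2 lc_c_rc_11_1 lc_c_rc_13_2) (@D3.rec (fun _ => (Cert rels S Gen.c)) lc_c_Cert_tree lc_c_rc_11_1 lc_c_rc_22_3 lc_c_Cert_tree lc_c_rc_11_1 lc_c_rc_7_3 lc_c_rc_14_2 lc_c_rc_24_2 lc_c_rc_11_1 lc_c_rc_13_2 lc_c_Cert_tree lc_c_rc_14_2 lc_c_Cert_tree lc_c_Cert_tree lc_c_Cert_tree lc_c_rc_11_1 lc_c_rc_26_2 lc_c_rc_13_2 lc_c_rc_13_2 lc_c_rc_13_0 lc_c_rc_14_2 lc_c_rc_14_2 lc_c_Cert_tree lc_c_Cert_tree lc_c_rc_11_1 lc_c_rc_11_1 lc_c_rc_13_2 lc_c_rc_14_2 lc_c_Cert_tree lc_c_rc_11_1 lc_c_rc_26_10 lc_c_rc_13_2 lc_c_Cert_tree lc_c_Cert_tree lc_c_Cert_tree lc_c_rc_11_1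 lc_c_rc_2_3 lc_c_rc_13_2 lc_c_rc_13_2 lc_c_Cert_tree lc_c_rc_13_2 lc_c_rc_24_2 lc_c_rc_24_4 lc_c_rc_14_2 lc_c_rc_11_1 lc_c_rc_13_0 lc_c_Cert_tree lc_c_rc_11_1 lc_c_Cert_tree lc_c_Cert_tree lc_c_Cert_tree lc_c_rc_11_1 lc_c_rc_13_2 lc_c_rc_11_1 lc_c_rc_13_2 lc_c_rc_24_2 lc_c_rc_11_1 lc_c_rc_13_2 lc_c_rc_24_6 lc_c_rc_23_0 lc_c_rc_7_3 lc_c_rc_24_6) (@D3.rec (fun _ => (Cert rels S Gen.c)) lc_c_rc_13_2 lc_c_Cert_tree lc_c_Cert_tree lc_c_rc_14_2 lc_c_rc_12_2 lc_c_rc_7_3 lc_c_rc_23_5 lc_c_rc_7_5 lc_c_rc_23_5 lc_c_rc_7_5 lc_c_rc_12_8 lc_c_rc_11_1 lc_c_rc_11_1 lc_c_rc_2_3 lc_c_Cert_tree lc_c_rc_11_1 lc_c_rc_13_2 lc_c_rc_26_4 lc_c_rc_11_1 lc_c_rc_13_2 lc_c_rc_11_1 lc_c_rc_13_2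 lc_c_rc_11_1 lc_c_rc_11_1 lc_c_rc_7_3 lc_c_rc_24_2 lc_c_rc_13_2 lc_c_Cert_tree lc_c_Cert_tree lc_c_rc_14_2 lc_c_rc_11_1 lc_c_rc_13_2 lc_c_rc_7_1 lc_c_rc_13_2 lc_c_rc_23_0 lc_c_rc_24_8 lc_c_rc_14_2 lc_c_Cert_tree lc_c_rc_11_1 lc_c_rc_7_1 lc_c_Cert_tree lc_c_Cert_tree lc_c_rc_2_3 lc_c_rc_13_2 lc_c_rc_13_0 lc_c_rc_14_2 lc_c_Cert_tree lc_c_rc_11_1 lc_c_Cert_tree lc_c_rc_11_1 lc_c_rc_13_2 lc_c_rc_2_1 lc_c_rc_13_0 lc_c_rc_13_2 lc_c_rc_13_2 lc_c_Cert_tree lc_c_rc_13_2 lc_c_rc_11_1 lc_c_Cert_tree lc_c_rc_13_2 lc_c_rc_11_1 lc_c_rc_13_2) (@D3.rec (fun _ => (Cert rels S Gen.c)) lc_c_Cert_tree lc_c_Cert_tree lc_c_rc_14_2 lc_c_rc_26_4 lc_c_rc_11_1 lc_c_rc_26_8 lc_c_rc_11_1 lc_c_rc_13_2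 lc_c_rc_11_1 lc_c_rc_23_0 lc_c_rc_7_3 lc_c_rc_24_2 lc_c_rc_13_2 lc_c_Cert_tree lc_c_Cert_tree lc_c_rc_14_2 lc_c_rc_11_1 lc_c_Cert_tree lc_c_Cert_tree lc_c_rc_2_3 lc_c_rc_13_2 lc_c_rc_14_2 lc_c_Cert_tree lc_c_rc_11_1 lc_c_rc_24_4 lc_c_rc_23_5 lc_c_rc_11_1 lc_c_rc_7_3 lc_c_rc_23_5 lc_c_rc_13_2 lc_c_rc_7_3 lc_c_rc_13_2 lc_c_rc_24_8 lc_c_rc_14_2 lc_c_rc_11_1 lc_c_rc_23_5 lc_c_Cert_tree lc_c_Cert_tree lc_c_rc_14_2 lc_c_rc_22_3 lc_c_rc_11_1 lc_c_rc_13_2 lc_c_Cert_tree lc_c_rc_13_2 lc_c_Cert_tree lc_c_Cert_tree lc_c_rc_11_1 lc_c_rc_13_2 lc_c_Cert_tree lc_c_rc_11_1 lc_c_rc_13_2 lc_c_Cert_tree lc_c_rc_13_2 lc_c_Cert_tree lc_c_rc_13_2 lc_c_rc_12_0 lc_c_rc_26_8 lc_c_rc_26_8 lc_c_rc_24_4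 lc_c_rc_22_5 lc_c_Cert_tree lc_c_rc_13_0) (@D3.rec (fun _ => (Cert rels S Gen.c)) lc_c_Cert_tree lc_c_rc_7_5 lc_c_rc_11_1 lc_c_Cert_tree lc_c_rc_23_0 lc_c_rc_11_1 lc_c_rc_13_2 lc_c_rc_13_2 lc_c_Cert_tree lc_c_rc_13_2 lc_c_rc_13_2 lc_c_rc_24_8 lc_c_rc_26_2 lc_c_rc_11_1 lc_c_Cert_tree lc_c_rc_11_1 lc_c_Cert_tree lc_c_rc_23_0 lc_c_rc_11_1 lc_c_Cert_tree lc_c_rc_23_5 lc_c_Cert_tree lc_c_rc_11_1 lc_c_rc_2_3 lc_c_Cert_tree lc_c_Cert_tree lc_c_rc_11_1 lc_c_rc_11_1 lc_c_rc_24_4 lc_c_rc_26_10 lc_c_Cert_tree lc_c_rc_13_2 lc_c_rc_11_1 lc_c_Cert_tree lc_c_rc_13_2 lc_c_rc_14_2 lc_c_rc_11_1 lc_c_Cert_tree lc_c_rc_13_2 lc_c_rc_14_2 lc_c_rc_11_1 lc_c_rc_13_2 lc_c_rc_14_2 lc_c_Cert_tree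 lc_c_rc_11_1 lc_c_Cert_tree lc_c_Cert_tree lc_c_rc_11_1 lc_c_rc_13_2 lc_c_Cert_tree lc_c_rc_11_1 lc_c_rc_13_2 lc_c_Cert_tree lc_c_rc_11_1 lc_c_rc_13_2 lc_c_Cert_tree lc_c_rc_11_1 lc_c_rc_13_2 lc_c_Cert_tree lc_c_rc_11_1 lc_c_rc_7_3 lc_c_Cert_tree) (@D3.rec (fun _ => (Cert rels S Gen.c)) lc_c_rc_13_2 lc_c_rc_14_2 lc_c_rc_2_3 lc_c_rc_22_3 lc_c_rc_14_2 lc_c_rc_13_2 lc_c_rc_11_1 lc_c_rc_13_2 lc_c_rc_11_1 lc_c_rc_11_1 lc_c_rc_14_2 lc_c_Cert_tree lc_c_rc_11_1 lc_c_rc_13_2 lc_c_Cert_tree lc_c_Cert_tree lc_c_rc_14_2 lc_c_Cert_tree lc_c_Cert_tree lc_c_rc_2_3 lc_c_rc_26_10 lc_c_rc_7_5 lc_c_rc_13_2 lc_c_rc_11_1 lc_c_rc_13_2 lc_c_rc_14_2 lc_c_rc_13_2 lc_c_rc_11_1 lc_c_rc_11_1 lc_c_rc_23_0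 lc_c_rc_11_1 lc_c_rc_13_2 lc_c_rc_11_1 lc_c_rc_13_2 lc_c_rc_11_1 lc_c_rc_24_4 lc_c_rc_23_0 lc_c_rc_7_3 lc_c_rc_11_1 lc_c_rc_13_2 lc_c_Cert_tree lc_c_Cert_tree lc_c_rc_14_2 lc_c_rc_26_2 lc_c_rc_23_0 lc_c_rc_11_1 lc_c_rc_13_2 lc_c_rc_26_2 lc_c_rc_26_2 lc_c_rc_12_8 lc_c_rc_13_2 lc_c_Cert_tree lc_c_Cert_tree lc_c_Cert_tree lc_c_rc_14_2 lc_c_rc_11_1 lc_c_rc_11_1 lc_c_rc_13_2 lc_c_rc_7_1 lc_c_rc_23_5 lc_c_rc_13_2 lc_c_Cert_tree) (@D3.rec (fun _ => (Cert rels S Gen.c)) lc_c_Cert_tree lc_c_rc_14_2 lc_c_rc_13_2 lc_c_rc_11_1 lc_c_rc_23_5 lc_c_rc_13_2 lc_c_Cert_tree lc_c_Cert_tree lc_c_rc_14_2 lc_c_rc_11_1 lc_c_rc_23_5 lc_c_rc_13_2 lc_c_rc_7_5 lc_c_rc_23_5 lc_c_rc_13_2 lc_c_Cert_tree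 lc_c_Cert_tree lc_c_rc_2_3 lc_c_Cert_tree lc_c_rc_14_2 lc_c_rc_24_2 lc_c_rc_11_1 lc_c_rc_13_2 lc_c_rc_13_2 lc_c_Cert_tree lc_c_Cert_tree lc_c_rc_26_4 lc_c_rc_11_1 lc_c_rc_13_2 lc_c_rc_11_1 lc_c_rc_13_2 lc_c_Cert_tree lc_c_rc_11_1 lc_c_rc_11_1 lc_c_rc_13_2 lc_c_Cert_tree lc_c_rc_11_1 lc_c_rc_13_2 lc_c_rc_11_1 lc_c_rc_11_1 lc_c_rc_7_3 lc_c_Cert_tree lc_c_rc_13_2 lc_c_Cert_tree lc_c_Cert_tree lc_c_rc_14_2 lc_c_rc_11_1 lc_c_rc_13_2 lc_c_rc_7_1 lc_c_rc_13_2 lc_c_rc_24_8 lc_c_rc_24_2 lc_c_rc_14_2 lc_c_rc_7_3 lc_c_Cert_tree lc_c_Cert_tree lc_c_rc_2_3 lc_c_Cert_tree lc_c_rc_13_2 lc_c_rc_13_2 lc_c_rc_14_2 lc_c_Cert_tree) (@D3.rec (fun _ => (Cert rels S Gen.c)) lc_c_rc_11_1 lc_c_rc_11_1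 lc_c_rc_13_2 lc_c_rc_26_4 lc_c_rc_11_1 lc_c_rc_11_1 lc_c_rc_13_2 lc_c_rc_24_4 lc_c_rc_11_1 lc_c_rc_7_3 lc_c_rc_24_2 lc_c_rc_13_2 lc_c_Cert_tree lc_c_Cert_tree lc_c_rc_14_2 lc_c_rc_11_1 lc_c_Cert_tree lc_c_Cert_tree lc_c_rc_2_3 lc_c_rc_7_1 lc_c_rc_13_2 lc_c_rc_13_2 lc_c_rc_14_2 lc_c_rc_11_1 lc_c_rc_22_9 lc_c_rc_22_3 lc_c_rc_11_1 lc_c_rc_7_3 lc_c_rc_11_1 lc_c_rc_13_2 lc_c_rc_11_1 lc_c_rc_7_1 lc_c_rc_22_5 lc_c_rc_13_2 lc_c_Cert_tree lc_c_Cert_tree lc_c_rc_14_2 lc_c_Cert_tree lc_c_Cert_tree lc_c_rc_2_3 lc_c_rc_7_1 lc_c_rc_13_2 lc_c_rc_13_2 lc_c_rc_23_0 lc_c_rc_23_0 lc_c_Cert_tree lc_c_rc_14_2 lc_c_Cert_tree lc_c_rc_11_1 lc_c_Cert_tree lc_c_rc_11_1 lc_c_rc_13_2 lc_c_rc_11_1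 lc_c_rc_7_1 lc_c_rc_22_5 lc_c_rc_13_2 lc_c_Cert_tree lc_c_Cert_tree lc_c_rc_14_2 lc_c_rc_7_3 lc_c_Cert_tree lc_c_rc_2_3) (@D3.rec (fun _ => (Cert rels S Gen.c)) lc_c_rc_14_2 lc_c_rc_13_2 lc_c_rc_13_2 lc_c_rc_11_1 lc_c_rc_11_1 lc_c_rc_14_2 lc_c_rc_11_1 lc_c_rc_13_2 lc_c_Cert_tree lc_c_rc_11_1 lc_c_Cert_tree lc_c_Cert_tree lc_c_Cert_tree lc_c_rc_11_1 lc_c_Cert_tree lc_c_rc_13_2 lc_c_rc_13_2 lc_c_rc_22_3 lc_c_rc_14_2 lc_c_Cert_tree lc_c_Cert_tree lc_c_Cert_tree lc_c_rc_11_1 lc_c_rc_7_3 lc_c_rc_13_2 lc_c_rc_13_2 lc_c_rc_22_3 lc_c_rc_14_2 lc_c_rc_14_2 lc_c_Cert_tree lc_c_Cert_tree lc_c_rc_11_1 lc_c_Cert_tree lc_c_rc_13_2 lc_c_rc_14_2 lc_c_Cert_tree lc_c_rc_11_1 lc_c_Cert_tree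 lc_c_rc_13_2 lc_c_Cert_tree lc_c_Cert_tree lc_c_Cert_tree lc_c_rc_11_1 lc_c_rc_13_2 lc_c_rc_13_2 lc_c_Cert_tree lc_c_rc_13_2 lc_c_rc_7_3 lc_c_rc_13_2 lc_c_Cert_tree lc_c_Cert_tree lc_c_rc_14_2 lc_c_rc_13_0 lc_c_rc_13_0 lc_c_Cert_tree lc_c_rc_11_1 lc_c_rc_23_5 lc_c_rc_23_5 lc_c_rc_26_4 lc_c_rc_11_1 lc_c_rc_13_2 lc_c_rc_11_1) (@D3.rec (fun _ => (Cert rels S Gen.c)) lc_c_rc_13_2 lc_c_rc_11_1 lc_c_rc_11_1 lc_c_rc_7_3 lc_c_rc_11_1 lc_c_rc_13_2 lc_c_Cert_tree lc_c_Cert_tree lc_c_rc_14_2 lc_c_rc_11_1 lc_c_rc_24_4 lc_c_rc_24_2 lc_c_rc_24_8 lc_c_rc_14_2 lc_c_rc_26_4 lc_c_rc_11_1 lc_c_Cert_tree lc_c_Cert_tree lc_c_rc_2_3 lc_c_rc_13_2 lc_c_rc_13_0 lc_c_rc_14_2 lc_c_rc_13_2 lc_c_Cert_tree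 lc_c_rc_13_2 lc_c_rc_26_10 lc_c_rc_2_1 lc_c_rc_11_1 lc_c_rc_13_2 lc_c_rc_26_8 lc_c_rc_26_2 lc_c_rc_11_1 lc_c_rc_11_1 lc_c_rc_14_2 lc_c_rc_24_8 lc_c_rc_26_8 lc_c_rc_11_1 lc_c_rc_13_2 lc_c_rc_26_2 lc_c_rc_11_1 lc_c_Cert_tree lc_c_rc_11_1 lc_c_rc_13_2 lc_c_rc_22_5 lc_c_rc_7_3 lc_c_rc_24_2 lc_c_rc_13_2 lc_c_Cert_tree lc_c_rc_7_5 lc_c_Cert_tree lc_c_rc_14_2 lc_c_rc_11_1 lc_c_rc_22_3 lc_c_rc_11_1 lc_c_rc_24_2 lc_c_rc_13_2 lc_c_rc_7_5 lc_c_rc_13_2 lc_c_rc_26_8 lc_c_rc_11_1 lc_c_Cert_tree lc_c_rc_12_0) (@D3.rec (fun _ => (Cert rels S Gen.c)) lc_c_rc_11_1 lc_c_rc_13_2 lc_c_rc_11_1 lc_c_rc_26_4 lc_c_rc_11_1 lc_c_rc_11_1 lc_c_rc_13_2 lc_c_rc_24_4 lc_c_rc_23_0 lc_c_rc_7_3 lc_c_Cert_tree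 lc_c_rc_13_2 lc_c_rc_25_13 lc_c_Cert_tree lc_c_rc_22_3 lc_c_rc_11_1 lc_c_Cert_tree lc_c_Cert_tree lc_c_rc_2_3 lc_c_rc_7_1 lc_c_rc_24_8 lc_c_rc_14_2 lc_c_Cert_tree lc_c_rc_26_2 lc_c_rc_23_0 lc_c_rc_11_1 lc_c_rc_7_3 lc_c_rc_11_1 lc_c_rc_11_1 lc_c_rc_13_2 lc_c_rc_11_1 lc_c_rc_11_1 lc_c_rc_14_2 lc_c_rc_11_1 lc_c_rc_13_2 lc_c_rc_12_0 lc_c_rc_7_5 lc_c_rc_7_5 lc_c_rc_11_1 lc_c_rc_2_3 lc_c_Cert_tree lc_c_rc_13_2 lc_c_rc_11_1 lc_c_rc_13_2 lc_c_rc_23_5 lc_c_rc_7_5 lc_c_rc_11_1 lc_c_rc_13_2 lc_c_Cert_tree lc_c_rc_2_1 lc_c_rc_13_2 lc_c_rc_24_8 lc_c_rc_26_4 lc_c_rc_11_1 lc_c_rc_14_2 lc_c_rc_2_3 lc_c_rc_11_1 lc_c_rc_13_0 lc_c_rc_11_1 lc_c_Cert_tree lc_c_rc_2_1 lc_c_Cert_tree) (@D3.rec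 (fun _ => (Cert rels S Gen.c)) lc_c_rc_13_2 lc_c_rc_23_0 lc_c_Cert_tree lc_c_rc_11_1 lc_c_rc_13_2 lc_c_rc_24_4 lc_c_rc_11_1 lc_c_rc_13_2 lc_c_rc_11_1 lc_c_rc_24_2 lc_c_rc_26_8 lc_c_rc_24_8 lc_c_rc_22_3 lc_c_rc_2_1 lc_c_rc_2_3 lc_c_Cert_tree lc_c_rc_11_1 lc_c_rc_11_1 lc_c_rc_26_4 lc_c_rc_13_2 lc_c_rc_24_4 lc_c_rc_14_2 lc_c_rc_7_5 lc_c_rc_13_2 lc_c_rc_11_1 lc_c_Cert_tree lc_c_rc_13_2 lc_c_rc_7_3 lc_c_rc_13_2 lc_c_rc_2_3 lc_c_rc_2_3 lc_c_Cert_tree lc_c_rc_11_1 lc_c_rc_13_2 lc_c_rc_11_1 lc_c_rc_11_1 lc_c_rc_14_2 lc_c_Cert_tree lc_c_rc_11_1 lc_c_rc_13_2 lc_c_rc_2_3 lc_c_rc_2_3 lc_c_rc_14_2 lc_c_Cert_tree lc_c_Cert_tree lc_c_rc_2_3 lc_c_rc_26_4 lc_c_rc_14_2 lc_c_rc_13_2 lc_c_rc_7_5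 lc_c_rc_12_0 lc_c_rc_14_2 lc_c_rc_11_1 lc_c_Cert_tree lc_c_rc_11_1 lc_c_rc_7_3 lc_c_Cert_tree lc_c_rc_11_1 lc_c_rc_24_2 lc_c_rc_11_1 lc_c_rc_7_3 lc_c_rc_12_2) (@D3.rec (fun _ => (Cert rels S Gen.c)) lc_c_Cert_tree lc_c_rc_11_1 lc_c_rc_11_1 lc_c_rc_13_2 lc_c_rc_11_1 lc_c_rc_13_2 lc_c_rc_11_1 lc_c_rc_14_2 lc_c_rc_22_3 lc_c_rc_14_2 lc_c_rc_13_2 lc_c_rc_23_0 lc_c_rc_11_1 lc_c_rc_13_2 lc_c_rc_7_3 lc_c_rc_11_1 lc_c_rc_24_2 lc_c_rc_23_0 lc_c_rc_11_1 lc_c_rc_13_2 lc_c_rc_22_9 lc_c_rc_11_1 lc_c_rc_23_5 lc_c_rc_24_2 lc_c_rc_23_0 lc_c_rc_7_3 lc_c_rc_24_8 lc_c_rc_13_2 lc_c_Cert_tree lc_c_rc_14_2 lc_c_rc_26_2 lc_c_rc_11_1 lc_c_rc_13_2 lc_c_rc_11_1 lc_c_rc_11_1 lc_c_rc_13_2 lc_c_Cert_tree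 lc_c_rc_7_3 lc_c_rc_24_2 lc_c_rc_13_2 lc_c_Cert_tree lc_c_Cert_tree lc_c_rc_14_2 lc_c_rc_11_1 lc_c_rc_13_2 lc_c_rc_11_1 lc_c_rc_11_1 lc_c_rc_23_5 lc_c_rc_13_2 lc_c_Cert_tree lc_c_Cert_tree lc_c_rc_14_2 lc_c_rc_11_1 lc_c_rc_13_2 lc_c_rc_7_1 lc_c_rc_23_5 lc_c_rc_13_2 lc_c_Cert_tree lc_c_Cert_tree lc_c_rc_14_2 lc_c_rc_11_1 lc_c_rc_22_7) (@D3.rec (fun _ => (Cert rels S Gen.c)) lc_c_rc_13_2 lc_c_rc_7_5 lc_c_rc_11_1 lc_c_rc_13_2 lc_c_rc_14_2 lc_c_rc_11_1 lc_c_rc_2_3 lc_c_Cert_tree lc_c_rc_14_2 lc_c_rc_11_1 lc_c_rc_22_5 lc_c_rc_11_1 lc_c_rc_13_2 lc_c_rc_22_7 lc_c_rc_13_2 lc_c_Cert_tree lc_c_Cert_tree lc_c_rc_11_1 lc_c_rc_22_5 lc_c_rc_13_2 lc_c_Cert_tree lc_c_Cert_tree lc_c_rc_14_2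 lc_c_Cert_tree lc_c_Cert_tree lc_c_rc_13_2 lc_c_rc_11_1 lc_c_rc_11_1 lc_c_rc_13_2 lc_c_Cert_tree lc_c_Cert_tree lc_c_rc_14_2 lc_c_rc_24_6 lc_c_rc_24_2 lc_c_rc_14_2 lc_c_Cert_tree lc_c_rc_26_8 lc_c_rc_11_1 lc_c_rc_14_2 lc_c_rc_13_2 lc_c_rc_14_2 lc_c_Cert_tree lc_c_rc_11_1 lc_c_rc_7_5 lc_c_rc_13_2 lc_c_Cert_tree lc_c_Cert_tree lc_c_Cert_tree lc_c_rc_11_1 lc_c_rc_13_2 lc_c_rc_13_2 lc_c_rc_13_2 lc_c_Cert_tree lc_c_Cert_tree lc_c_rc_23_5 lc_c_rc_11_1 lc_c_rc_11_1 lc_c_rc_11_1 lc_c_rc_7_3 lc_c_rc_12_12 lc_c_rc_24_8 lc_c_rc_11_1) (@D3.rec (fun _ => (Cert rels S Gen.c)) lc_c_rc_22_9 lc_c_rc_11_1 lc_c_rc_11_1 lc_c_rc_13_2 lc_c_rc_11_1 lc_c_rc_13_2 lc_c_rc_11_1 lc_c_rc_14_2 lc_c_Cert_tree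 lc_c_rc_14_2 lc_c_rc_13_2 lc_c_rc_11_1 lc_c_rc_26_2 lc_c_rc_24_2 lc_c_rc_23_0 lc_c_rc_11_1 lc_c_rc_13_2 lc_c_rc_11_1 lc_c_rc_26_2 lc_c_rc_11_1 lc_c_rc_13_2 lc_c_rc_23_5 lc_c_rc_13_2 lc_c_rc_26_2 lc_c_rc_13_2 lc_c_rc_7_3 lc_c_rc_11_1 lc_c_rc_14_2 lc_c_rc_13_2 lc_c_rc_11_1 lc_c_rc_13_2 lc_c_rc_24_4 lc_c_rc_23_0 lc_c_rc_7_3 lc_c_rc_24_2 lc_c_rc_13_2 lc_c_Cert_tree lc_c_rc_14_2 lc_c_rc_26_2 lc_c_rc_11_1 lc_c_rc_13_2 lc_c_rc_26_8 lc_c_rc_7_3 lc_c_rc_24_2 lc_c_rc_13_2 lc_c_Cert_tree lc_c_Cert_tree lc_c_rc_14_2 lc_c_rc_11_1 lc_c_rc_2_3 lc_c_rc_7_3 lc_c_rc_23_5 lc_c_rc_13_2 lc_c_Cert_tree lc_c_Cert_tree lc_c_rc_23_5 lc_c_rc_13_2 lc_c_rc_11_1 lc_c_rc_23_5 lc_c_rc_13_2 lc_c_Cert_tree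 lc_c_Cert_tree) (@D3.rec (fun _ => (Cert rels S Gen.c)) lc_c_rc_14_2 lc_c_rc_11_1 lc_c_rc_23_5 lc_c_rc_13_2 lc_c_rc_26_2 lc_c_rc_23_5 lc_c_rc_13_2 lc_c_rc_11_1 lc_c_rc_14_0 lc_c_rc_2_3 lc_c_Cert_tree lc_c_rc_14_2 lc_c_rc_24_8 lc_c_rc_24_8 lc_c_rc_11_1 lc_c_rc_13_2 lc_c_rc_22_5 lc_c_rc_13_2 lc_c_Cert_tree lc_c_Cert_tree lc_c_rc_24_4 lc_c_rc_23_5 lc_c_rc_13_2 lc_c_Cert_tree lc_c_rc_2_1 lc_c_rc_14_2 lc_c_Cert_tree lc_c_Cert_tree lc_c_rc_24_2 lc_c_rc_24_6 lc_c_rc_11_1 lc_c_Cert_tree lc_c_rc_13_2 lc_c_rc_23_5 lc_c_Cert_tree lc_c_rc_14_2 lc_c_rc_13_2 lc_c_Cert_tree lc_c_rc_14_2 lc_c_Cert_tree lc_c_rc_2_3 lc_c_rc_11_1 lc_c_Cert_tree lc_c_rc_13_2 lc_c_rc_14_2 lc_c_Cert_tree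 lc_c_rc_11_1 lc_c_Cert_tree lc_c_rc_13_2 lc_c_Cert_tree lc_c_Cert_tree lc_c_Cert_tree lc_c_rc_11_1 lc_c_rc_13_2 lc_c_rc_13_2 lc_c_rc_24_8 lc_c_rc_11_1 lc_c_rc_13_0 lc_c_Cert_tree lc_c_Cert_tree lc_c_rc_26_2 lc_c_rc_11_1) (@D3.rec (fun _ => (Cert rels S Gen.c)) lc_c_rc_13_2 lc_c_rc_11_1 lc_c_rc_13_2 lc_c_rc_11_1 lc_c_rc_13_2 lc_c_rc_13_2 lc_c_rc_7_3 lc_c_rc_13_2 lc_c_rc_11_1 lc_c_rc_13_2 lc_c_rc_23_5 lc_c_rc_13_2 lc_c_rc_7_3 lc_c_rc_22_9 lc_c_rc_13_2 lc_c_rc_7_3 lc_c_rc_11_1 lc_c_rc_13_2 lc_c_Cert_tree lc_c_Cert_tree lc_c_rc_14_2 lc_c_rc_7_3 lc_c_rc_11_1 lc_c_rc_13_2 lc_c_Cert_tree lc_c_Cert_tree lc_c_Cert_tree lc_c_rc_14_2 lc_c_rc_7_5 lc_c_rc_23_5 lc_c_rc_13_2 lc_c_rc_7_5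 lc_c_rc_12_4 lc_c_rc_13_2 lc_c_rc_24_4 lc_c_rc_22_3 lc_c_rc_2_1 lc_c_rc_24_8 lc_c_rc_11_1 lc_c_rc_11_1 lc_c_rc_13_2 lc_c_rc_13_2 lc_c_Cert_tree lc_c_rc_13_2 lc_c_rc_13_2 lc_c_rc_7_3 lc_c_rc_22_9 lc_c_rc_13_2 lc_c_rc_7_3 lc_c_rc_12_8 lc_c_rc_13_2 lc_c_Cert_tree lc_c_Cert_tree lc_c_rc_14_2 lc_c_rc_11_1 lc_c_rc_14_2 lc_c_rc_7_3 lc_c_rc_24_2 lc_c_rc_13_2 lc_c_Cert_tree lc_c_Cert_tree lc_c_rc_14_2) (@D3.rec (fun _ => (Cert rels S Gen.c)) lc_c_rc_7_5 lc_c_rc_22_3 lc_c_rc_13_2 lc_c_rc_7_5 lc_c_rc_22_3 lc_c_rc_13_2 lc_c_Cert_tree lc_c_Cert_tree lc_c_rc_2_3 lc_c_Cert_tree lc_c_rc_7_3 lc_c_rc_11_1 lc_c_rc_13_2 lc_c_rc_13_2 lc_c_Cert_tree lc_c_rc_11_1 lc_c_rc_13_2 lc_c_rc_11_1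 lc_c_rc_13_2 lc_c_rc_11_1 lc_c_rc_11_1 lc_c_rc_7_3 lc_c_rc_11_1 lc_c_rc_14_2 lc_c_rc_13_2 lc_c_rc_11_1 lc_c_rc_13_2 lc_c_rc_11_1 lc_c_rc_24_2 lc_c_rc_11_1 lc_c_rc_7_3 lc_c_rc_24_8 lc_c_rc_13_2 lc_c_Cert_tree lc_c_rc_14_2 lc_c_rc_11_1 lc_c_rc_13_2 lc_c_rc_7_3 lc_c_rc_12_8 lc_c_rc_13_2 lc_c_Cert_tree lc_c_rc_14_2 lc_c_rc_13_2 lc_c_rc_24_6 lc_c_rc_11_1 lc_c_rc_12_2 lc_c_rc_13_2 lc_c_Cert_tree lc_c_rc_14_2 lc_c_rc_13_2 lc_c_rc_11_1 lc_c_rc_22_7 lc_c_rc_13_2 lc_c_Cert_tree lc_c_rc_14_2 lc_c_rc_7_5 lc_c_rc_23_5 lc_c_rc_13_2 lc_c_rc_11_1 lc_c_rc_11_1 lc_c_rc_23_5 lc_c_rc_13_2) (@D3.rec (fun _ => (Cert rels S Gen.c)) lc_c_Cert_tree lc_c_Cert_tree lc_c_rc_2_3 lc_c_rc_7_3 lc_c_rc_14_2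 lc_c_rc_11_1 lc_c_rc_11_1 lc_c_rc_13_2 lc_c_rc_13_2 lc_c_Cert_tree lc_c_Cert_tree lc_c_rc_11_1 lc_c_rc_12_2 lc_c_rc_7_3 lc_c_rc_22_7 lc_c_rc_11_1 lc_c_rc_7_3 lc_c_Cert_tree lc_c_rc_11_1 lc_c_rc_11_1 lc_c_rc_13_2 lc_c_rc_11_1 lc_c_rc_13_2 lc_c_rc_7_3 lc_c_rc_11_1 lc_c_rc_13_2 lc_c_rc_11_1 lc_c_rc_13_2 lc_c_rc_11_1 lc_c_rc_13_2 lc_c_rc_11_1 lc_c_rc_11_1 lc_c_rc_23_0 lc_c_rc_7_3 lc_c_rc_24_6 lc_c_rc_13_2 lc_c_Cert_tree lc_c_Cert_tree lc_c_rc_23_0 lc_c_rc_7_3 lc_c_rc_12_4 lc_c_rc_13_2 lc_c_Cert_tree lc_c_rc_23_0 lc_c_rc_11_1 lc_c_rc_13_2 lc_c_rc_11_1 lc_c_rc_11_1 lc_c_rc_7_1 lc_c_rc_22_5 lc_c_rc_13_2 lc_c_Cert_tree lc_c_Cert_tree lc_c_rc_14_2 lc_c_rc_7_3 lc_c_rc_22_7 lc_c_rc_13_2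 lc_c_Cert_tree lc_c_Cert_tree lc_c_rc_14_2 lc_c_rc_7_3 lc_c_rc_23_5) (@D3.rec (fun _ => (Cert rels S Gen.c)) lc_c_rc_13_2 lc_c_rc_7_5 lc_c_rc_23_5 lc_c_rc_13_2 lc_c_Cert_tree lc_c_rc_22_3 lc_c_rc_2_3 lc_c_Cert_tree lc_c_rc_14_2 lc_c_rc_11_1 lc_c_rc_11_1 lc_c_rc_11_1 lc_c_rc_13_2 lc_c_rc_22_3 lc_c_rc_13_2 lc_c_rc_13_2 lc_c_rc_13_2 lc_c_rc_13_2 lc_c_rc_23_0 lc_c_rc_7_3 lc_c_rc_12_8 lc_c_rc_13_2 lc_c_rc_26_2 lc_c_rc_24_8 lc_c_rc_13_2 lc_c_rc_14_2 lc_c_rc_11_1 lc_c_rc_13_2 lc_c_rc_11_1 lc_c_rc_13_2 lc_c_rc_11_1 lc_c_rc_7_3 lc_c_rc_11_1 lc_c_rc_13_2 lc_c_rc_11_1 lc_c_rc_13_2 lc_c_rc_7_3 lc_c_rc_13_2 lc_c_Cert_tree lc_c_Cert_tree lc_c_Cert_tree lc_c_rc_14_2 lc_c_rc_11_1 lc_c_Cert_tree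 lc_c_rc_11_1 lc_c_rc_7_3 lc_c_rc_25_5 lc_c_rc_13_2 lc_c_Cert_tree lc_c_Cert_tree lc_c_rc_14_2 lc_c_rc_7_3 lc_c_rc_23_5 lc_c_rc_13_2 lc_c_rc_7_5 lc_c_rc_22_5 lc_c_rc_13_2 lc_c_rc_11_1 lc_c_rc_11_1 lc_c_rc_23_0 lc_c_rc_13_2 lc_c_Cert_tree) (@D3.rec (fun _ => (Cert rels S Gen.c)) lc_c_Cert_tree lc_c_rc_2_3 lc_c_rc_11_1 lc_c_rc_13_2 lc_c_rc_2_3 lc_c_rc_22_3 lc_c_rc_13_2 lc_c_rc_11_1 lc_c_Cert_tree lc_c_Cert_tree lc_c_rc_14_2 lc_c_rc_11_1 lc_c_Cert_tree lc_c_rc_11_1 lc_c_rc_13_2 lc_c_Cert_tree lc_c_Cert_tree lc_c_rc_11_1 lc_c_rc_14_2 lc_c_rc_11_1 lc_c_rc_11_1 lc_c_rc_11_1 lc_c_Cert_tree lc_c_rc_13_2 lc_c_rc_11_1 lc_c_rc_13_2 lc_c_rc_13_2 lc_c_rc_7_3 lc_c_rc_24_2 lc_c_rc_13_2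 lc_c_rc_14_2 lc_c_rc_13_2 lc_c_rc_14_2 lc_c_rc_7_3 lc_c_rc_13_2 lc_c_Cert_tree lc_c_Cert_tree lc_c_rc_13_2 lc_c_rc_14_2 lc_c_rc_11_1 lc_c_Cert_tree lc_c_Cert_tree lc_c_rc_2_3 lc_c_Cert_tree lc_c_rc_13_2 lc_c_rc_13_2 lc_c_Cert_tree lc_c_rc_13_0 lc_c_Cert_tree lc_c_rc_14_2 lc_c_rc_11_1 lc_c_rc_13_2 lc_c_rc_11_1 lc_c_Cert_tree lc_c_Cert_tree lc_c_rc_11_1 lc_c_rc_14_2 lc_c_rc_11_1 lc_c_rc_11_1 lc_c_rc_11_1 lc_c_rc_22_5 lc_c_rc_13_2) (@D3.rec (fun _ => (Cert rels S Gen.c)) lc_c_rc_7_1 lc_c_rc_11_1 lc_c_rc_13_2 lc_c_rc_13_2 lc_c_rc_24_8 lc_c_rc_13_0 lc_c_rc_14_2 lc_c_rc_11_1 lc_c_rc_13_2 lc_c_rc_14_0 lc_c_Cert_tree lc_c_Cert_tree lc_c_rc_2_3 lc_c_Cert_tree lc_c_rc_13_2 lc_c_rc_24_2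 lc_c_rc_23_0 lc_c_rc_13_2 lc_c_rc_11_1 lc_c_Cert_tree lc_c_Cert_tree lc_c_rc_14_2 lc_c_rc_13_2 lc_c_rc_11_1 lc_c_rc_23_5 lc_c_rc_11_1 lc_c_rc_24_8 lc_c_rc_13_2 lc_c_rc_11_1 lc_c_rc_26_8 lc_c_rc_7_1 lc_c_rc_23_5 lc_c_rc_13_2 lc_c_rc_11_1 lc_c_rc_24_8 lc_c_rc_14_2 lc_c_Cert_tree lc_c_Cert_tree lc_c_rc_2_3 lc_c_Cert_tree lc_c_rc_13_2 lc_c_Cert_tree lc_c_rc_24_4 lc_c_rc_14_2 lc_c_rc_11_1 lc_c_rc_13_2 lc_c_rc_11_1 lc_c_Cert_tree lc_c_Cert_tree lc_c_rc_11_1 lc_c_rc_14_2 lc_c_Cert_tree lc_c_Cert_tree lc_c_Cert_tree lc_c_rc_11_1 lc_c_Cert_tree lc_c_rc_13_2 lc_c_rc_26_4 lc_c_rc_13_2 lc_c_rc_22_3 lc_c_rc_11_1 lc_c_rc_13_2) (@D3.rec (fun _ => (Cert rels S Gen.c)) lc_c_rc_14_2 lc_c_Cert_tree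 lc_c_Cert_tree lc_c_Cert_tree lc_c_rc_11_1 lc_c_Cert_tree lc_c_rc_13_2 lc_c_rc_13_2 lc_c_rc_13_2 lc_c_rc_22_7 lc_c_rc_14_2 lc_c_rc_14_2 lc_c_rc_2_1 lc_c_rc_26_8 lc_c_rc_11_1 lc_c_Cert_tree lc_c_rc_13_2 lc_c_rc_14_2 lc_c_rc_11_1 lc_c_rc_11_1 lc_c_Cert_tree lc_c_rc_13_2 lc_c_Cert_tree lc_c_Cert_tree lc_c_Cert_tree lc_c_rc_11_1 lc_c_rc_13_2 lc_c_rc_14_2 lc_c_rc_13_2 lc_c_Cert_tree lc_c_rc_13_2 lc_c_Cert_tree lc_c_rc_13_2 lc_c_rc_7_3 lc_c_rc_13_2 lc_c_Cert_tree lc_c_Cert_tree lc_c_rc_23_0 lc_c_rc_13_2 lc_c_Cert_tree lc_c_Cert_tree lc_c_Cert_tree lc_c_Cert_tree lc_c_rc_11_1 lc_c_Cert_tree lc_c_rc_13_2 lc_c_Cert_tree lc_c_rc_11_1 lc_c_Cert_tree lc_c_rc_13_2 lc_c_rc_11_1 lc_c_rc_13_2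 lc_c_rc_11_1 lc_c_rc_24_4 lc_c_rc_23_0 lc_c_rc_7_3 lc_c_rc_24_8 lc_c_rc_13_2 lc_c_Cert_tree lc_c_Cert_tree lc_c_rc_14_2 lc_c_rc_7_3) (@D3.rec (fun _ => (Cert rels S Gen.c)) lc_c_Cert_tree lc_c_Cert_tree lc_c_rc_2_3 lc_c_rc_7_1 lc_c_rc_13_2 lc_c_rc_23_5 lc_c_rc_11_1 lc_c_rc_22_7 lc_c_rc_11_1 lc_c_rc_7_3 lc_c_rc_24_2 lc_c_rc_13_2 lc_c_Cert_tree lc_c_rc_14_2 lc_c_Cert_tree lc_c_Cert_tree lc_c_rc_2_3 lc_c_rc_7_3 lc_c_rc_13_2 lc_c_rc_2_1 lc_c_rc_22_9 lc_c_rc_14_2 lc_c_rc_11_1 lc_c_rc_24_6 lc_c_rc_7_1 lc_c_rc_11_1 lc_c_rc_13_2 lc_c_Cert_tree lc_c_Cert_tree lc_c_rc_14_2 lc_c_Cert_tree lc_c_Cert_tree lc_c_rc_2_3 lc_c_rc_7_1 lc_c_rc_13_2 lc_c_rc_11_1 lc_c_rc_23_0 lc_c_Cert_tree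 lc_c_Cert_tree lc_c_rc_11_1 lc_c_rc_22_7 lc_c_rc_11_1 lc_c_rc_13_2 lc_c_rc_7_1 lc_c_rc_23_5 lc_c_rc_13_2 lc_c_Cert_tree lc_c_Cert_tree lc_c_rc_14_2 lc_c_rc_26_10 lc_c_rc_24_8 lc_c_rc_2_3 lc_c_rc_26_2 lc_c_rc_26_8 lc_c_Cert_tree lc_c_Cert_tree lc_c_rc_11_1 lc_c_rc_13_2 lc_c_rc_13_2 lc_c_rc_23_0 lc_c_Cert_tree lc_c_Cert_tree) (@D3.rec (fun _ => (Cert rels S Gen.c)) lc_c_Cert_tree lc_c_rc_11_1 lc_c_rc_7_3 lc_c_rc_14_2 lc_c_Cert_tree lc_c_Cert_tree lc_c_rc_11_1 lc_c_Cert_tree lc_c_rc_13_2 lc_c_rc_14_2 lc_c_Cert_tree lc_c_rc_11_1 lc_c_Cert_tree lc_c_rc_13_2 lc_c_Cert_tree lc_c_Cert_tree lc_c_Cert_tree lc_c_rc_11_1 lc_c_rc_13_2 lc_c_rc_13_2 lc_c_Cert_tree lc_c_rc_24_8 lc_c_rc_11_1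 lc_c_rc_14_2 lc_c_Cert_tree lc_c_rc_13_2 lc_c_rc_11_1 lc_c_rc_2_1 lc_c_rc_13_2 lc_c_Cert_tree lc_c_rc_14_2 lc_c_rc_22_5 lc_c_rc_13_2 lc_c_Cert_tree lc_c_Cert_tree lc_c_rc_23_0 lc_c_rc_12_0 lc_c_rc_7_3 lc_c_rc_24_6 lc_c_rc_13_2 lc_c_Cert_tree lc_c_Cert_tree lc_c_rc_14_2 lc_c_rc_11_1 lc_c_rc_13_2 lc_c_rc_7_1 lc_c_rc_23_5 lc_c_rc_13_2 lc_c_Cert_tree lc_c_rc_14_2 lc_c_rc_7_3 lc_c_rc_23_5 lc_c_rc_13_2 lc_c_rc_7_5 lc_c_rc_22_5 lc_c_rc_13_2 lc_c_Cert_tree lc_c_rc_11_1 lc_c_rc_2_3 lc_c_Cert_tree lc_c_rc_13_2 lc_c_rc_13_2) (@D3.rec (fun _ => (Cert rels S Gen.c)) lc_c_rc_13_2 lc_c_rc_11_1 lc_c_Cert_tree lc_c_rc_14_2 lc_c_Cert_tree lc_c_rc_11_1 lc_c_Cert_tree lc_c_Cert_tree lc_c_rc_11_1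 lc_c_Cert_tree lc_c_rc_13_2 lc_c_rc_7_1 lc_c_rc_11_1 lc_c_rc_13_2 lc_c_rc_11_1 lc_c_rc_11_1 lc_c_rc_24_6 lc_c_rc_13_2 lc_c_rc_11_1 lc_c_rc_11_1 lc_c_rc_7_1 lc_c_rc_22_5 lc_c_rc_13_2 lc_c_Cert_tree lc_c_Cert_tree lc_c_rc_14_2 lc_c_Cert_tree lc_c_Cert_tree lc_c_rc_2_3 lc_c_Cert_tree lc_c_rc_13_2 lc_c_rc_13_2 lc_c_rc_23_0 lc_c_rc_11_1 lc_c_rc_13_2 lc_c_rc_14_2 lc_c_Cert_tree lc_c_rc_11_1 lc_c_rc_11_1 lc_c_Cert_tree lc_c_Cert_tree lc_c_rc_2_3 lc_c_Cert_tree lc_c_rc_13_2 lc_c_rc_13_2 lc_c_rc_11_1 lc_c_Cert_tree lc_c_Cert_tree lc_c_Cert_tree lc_c_Cert_tree lc_c_rc_11_1 lc_c_Cert_tree lc_c_rc_13_2 lc_c_rc_13_2 lc_c_rc_13_2 lc_c_rc_14_2 lc_c_Cert_tree lc_c_Cert_tree lc_c_rc_13_2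 lc_c_rc_11_1 lc_c_rc_23_0 lc_c_rc_13_2) (@D3.rec (fun _ => (Cert rels S Gen.c)) lc_c_rc_13_2 lc_c_Cert_tree lc_c_rc_26_4 lc_c_rc_11_1 lc_c_Cert_tree lc_c_rc_13_2 lc_c_Cert_tree lc_c_rc_11_1 lc_c_Cert_tree lc_c_rc_13_2 lc_c_Cert_tree lc_c_rc_13_2 lc_c_Cert_tree lc_c_Cert_tree lc_c_rc_11_1 lc_c_Cert_tree lc_c_Cert_tree lc_c_rc_11_1 lc_c_rc_7_3 lc_c_rc_13_2 lc_c_Cert_tree lc_c_rc_11_1 lc_c_rc_13_2 lc_c_rc_24_4 lc_c_rc_14_2 lc_c_rc_7_3 lc_c_rc_12_2 lc_c_rc_13_2 lc_c_Cert_tree lc_c_rc_14_2 lc_c_rc_26_2 lc_c_rc_11_1 lc_c_rc_13_2 lc_c_rc_11_1 lc_c_rc_11_1 lc_c_rc_26_8 lc_c_rc_11_1 lc_c_rc_13_2 lc_c_rc_7_3 lc_c_rc_13_2 lc_c_Cert_tree lc_c_rc_7_5 lc_c_rc_13_2 lc_c_rc_14_2 lc_c_rc_11_1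 lc_c_rc_7_3 lc_c_rc_12_8 lc_c_rc_13_2 lc_c_rc_11_1 lc_c_rc_23_5 lc_c_rc_13_2 lc_c_Cert_tree lc_c_rc_14_2 lc_c_rc_11_1 lc_c_rc_11_1 lc_c_rc_23_5 lc_c_rc_11_1 lc_c_rc_7_5 lc_c_rc_24_6 lc_c_rc_13_2 lc_c_Cert_tree lc_c_rc_11_1) (@D3.rec (fun _ => (Cert rels S Gen.c)) lc_c_rc_2_3 lc_c_Cert_tree lc_c_rc_13_2 lc_c_rc_24_6 lc_c_rc_22_5 lc_c_rc_13_2 lc_c_Cert_tree lc_c_rc_13_0 lc_c_Cert_tree lc_c_rc_14_2 lc_c_rc_11_1 lc_c_rc_13_2 lc_c_rc_11_1 lc_c_rc_11_1 lc_c_Cert_tree lc_c_Cert_tree lc_c_rc_11_1 lc_c_rc_14_2 lc_c_rc_24_4 lc_c_rc_7_3 lc_c_rc_24_2 lc_c_rc_26_4 lc_c_rc_11_1 lc_c_Cert_tree lc_c_rc_13_2 lc_c_Cert_tree lc_c_rc_11_1 lc_c_Cert_tree lc_c_rc_13_2 lc_c_Cert_tree lc_c_rc_13_2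 lc_c_Cert_tree lc_c_Cert_tree lc_c_rc_11_1 lc_c_rc_13_2 lc_c_Cert_tree lc_c_Cert_tree lc_c_Cert_tree lc_c_rc_14_2 lc_c_rc_11_1 lc_c_Cert_tree lc_c_rc_22_7 lc_c_rc_23_5 lc_c_Cert_tree lc_c_rc_13_2 lc_c_rc_11_1 lc_c_rc_13_0 lc_c_rc_7_3 lc_c_Cert_tree lc_c_rc_13_2 lc_c_rc_11_1 lc_c_rc_7_1 lc_c_Cert_tree lc_c_rc_11_1 lc_c_Cert_tree lc_c_rc_11_1 lc_c_rc_11_1 lc_c_rc_11_1 lc_c_rc_7_3 lc_c_rc_2_3 lc_c_rc_14_2 lc_c_rc_11_1) (@D3.rec (fun _ => (Cert rels S Gen.c)) lc_c_rc_13_2 lc_c_Cert_tree lc_c_Cert_tree lc_c_rc_14_2 lc_c_rc_7_3 lc_c_rc_13_2 lc_c_Cert_tree lc_c_rc_11_1 lc_c_rc_2_3 lc_c_Cert_tree lc_c_rc_13_2 lc_c_rc_11_1 lc_c_rc_11_1 lc_c_rc_13_2 lc_c_rc_11_1 lc_c_rc_13_2 lc_c_Cert_tree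 lc_c_rc_14_2 lc_c_Cert_tree lc_c_rc_11_1 lc_c_Cert_tree lc_c_rc_13_2 lc_c_Cert_tree lc_c_rc_11_1 lc_c_Cert_tree lc_c_rc_13_2 lc_c_rc_11_1 lc_c_Cert_tree lc_c_Cert_tree lc_c_Cert_tree lc_c_rc_11_1 lc_c_rc_13_2 lc_c_Cert_tree lc_c_rc_26_4 lc_c_rc_11_1 lc_c_rc_13_2 lc_c_Cert_tree lc_c_rc_11_1 lc_c_Cert_tree lc_c_rc_13_2 lc_c_Cert_tree lc_c_Cert_tree lc_c_rc_11_1 lc_c_rc_13_2 lc_c_Cert_tree lc_c_Cert_tree lc_c_rc_13_0 lc_c_rc_14_2 lc_c_Cert_tree lc_c_rc_13_2 lc_c_rc_23_0 lc_c_rc_13_2 lc_c_rc_2_3 lc_c_rc_2_3 lc_c_rc_14_2 lc_c_Cert_tree lc_c_Cert_tree lc_c_rc_13_2 lc_c_Cert_tree lc_c_Cert_tree lc_c_rc_23_0 lc_c_rc_11_1) (@D3.rec (fun _ => (Cert rels S Gen.c)) lc_c_Cert_tree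 lc_c_rc_7_1 lc_c_rc_11_1 lc_c_rc_13_2 lc_c_rc_13_2 lc_c_rc_11_1 lc_c_rc_7_3 lc_c_rc_13_2 lc_c_rc_7_3 lc_c_rc_14_2 lc_c_rc_13_2 lc_c_Cert_tree lc_c_Cert_tree lc_c_rc_14_2 lc_c_rc_11_1 lc_c_rc_11_1 lc_c_rc_13_2 lc_c_rc_11_1 lc_c_rc_11_1 lc_c_rc_2_3 lc_c_Cert_tree lc_c_rc_13_2 lc_c_rc_24_4 lc_c_rc_23_0 lc_c_rc_13_2 lc_c_Cert_tree lc_c_Cert_tree lc_c_Cert_tree lc_c_rc_14_2 lc_c_rc_11_1 lc_c_rc_13_2 lc_c_rc_26_10 lc_c_rc_11_1 lc_c_rc_13_2 lc_c_rc_26_4 lc_c_rc_11_1 lc_c_rc_26_8 lc_c_rc_11_1 lc_c_rc_13_2 lc_c_Cert_tree lc_c_rc_13_2 lc_c_Cert_tree lc_c_Cert_tree lc_c_rc_11_1 lc_c_rc_13_2 lc_c_Cert_tree lc_c_Cert_tree lc_c_rc_14_2 lc_c_rc_22_3 lc_c_rc_13_2 lc_c_Cert_tree lc_c_rc_13_2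 lc_c_rc_13_2 lc_c_rc_11_1 lc_c_rc_7_1 lc_c_rc_26_4 lc_c_rc_11_1 lc_c_Cert_tree lc_c_rc_13_2 lc_c_rc_11_1 lc_c_Cert_tree lc_c_rc_11_1) (@D3.rec (fun _ => (Cert rels S Gen.c)) lc_c_Cert_tree lc_c_rc_13_2 lc_c_Cert_tree lc_c_rc_11_1 lc_c_Cert_tree lc_c_rc_13_2 lc_c_Cert_tree lc_c_Cert_tree lc_c_rc_11_1 lc_c_rc_13_2 lc_c_Cert_tree lc_c_Cert_tree lc_c_Cert_tree lc_c_rc_14_2 lc_c_Cert_tree lc_c_rc_13_2 lc_c_Cert_tree lc_c_rc_13_2 lc_c_rc_11_1 lc_c_Cert_tree lc_c_rc_14_2 lc_c_rc_23_5 lc_c_rc_23_5 lc_c_rc_11_1 lc_c_rc_14_2 lc_c_rc_26_4 lc_c_rc_11_1 lc_c_Cert_tree lc_c_Cert_tree lc_c_rc_11_1 lc_c_Cert_tree lc_c_rc_13_2 lc_c_rc_11_1 lc_c_Cert_tree lc_c_rc_13_2 lc_c_rc_24_2 lc_c_rc_11_1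 lc_c_rc_13_2 lc_c_Cert_tree lc_c_Cert_tree lc_c_rc_11_1 lc_c_rc_13_2 lc_c_Cert_tree lc_c_Cert_tree lc_c_rc_14_2 lc_c_rc_13_2 lc_c_Cert_tree lc_c_rc_11_1 lc_c_Cert_tree lc_c_rc_13_2 lc_c_Cert_tree lc_c_rc_26_2 lc_c_rc_11_1 lc_c_Cert_tree lc_c_rc_13_2 lc_c_rc_14_2 lc_c_rc_11_1 lc_c_rc_23_0 lc_c_rc_7_1 lc_c_Cert_tree lc_c_rc_13_2 lc_c_rc_14_2) (@D3.rec (fun _ => (Cert rels S Gen.c)) lc_c_Cert_tree lc_c_rc_11_1 lc_c_rc_13_2 lc_c_rc_14_2 lc_c_rc_22_9 lc_c_Cert_tree lc_c_rc_14_2 lc_c_rc_13_2 lc_c_rc_26_10 lc_c_Cert_tree lc_c_rc_11_1 lc_c_Cert_tree lc_c_rc_13_2 lc_c_rc_7_1 lc_c_Cert_tree lc_c_rc_13_2 lc_c_rc_11_1 lc_c_rc_13_2 lc_c_rc_24_2 lc_c_rc_2_3 lc_c_rc_14_2 lc_c_rc_11_1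 lc_c_rc_13_2 lc_c_rc_26_4 lc_c_rc_11_1 lc_c_Cert_tree lc_c_rc_11_1 lc_c_Cert_tree lc_c_rc_13_0 lc_c_Cert_tree lc_c_rc_13_2 lc_c_Cert_tree lc_c_Cert_tree lc_c_rc_14_2 lc_c_Cert_tree lc_c_Cert_tree lc_c_Cert_tree lc_c_Cert_tree lc_c_rc_11_1 lc_c_Cert_tree lc_c_rc_11_1 lc_c_rc_13_2 lc_c_Cert_tree lc_c_Cert_tree lc_c_rc_22_3 lc_c_Cert_tree lc_c_Cert_tree lc_c_rc_13_2 lc_c_Cert_tree lc_c_Cert_tree lc_c_rc_13_2 lc_c_Cert_tree lc_c_rc_24_6 lc_c_rc_23_5 lc_c_Cert_tree lc_c_rc_24_6 lc_c_rc_24_6 lc_c_rc_23_5 lc_c_rc_24_2 lc_c_rc_11_1 lc_c_rc_11_1 lc_c_Cert_tree) (@D3.rec (fun _ => (Cert rels S Gen.c)) lc_c_rc_13_2 lc_c_rc_7_1 lc_c_rc_13_2 lc_c_rc_24_4 lc_c_rc_11_1 lc_c_rc_11_1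 lc_c_Cert_tree lc_c_rc_13_2 lc_c_rc_7_1 lc_c_rc_13_2 lc_c_rc_11_1 lc_c_rc_13_2 lc_c_rc_11_1 lc_c_rc_13_2 lc_c_rc_7_3 lc_c_rc_24_8 lc_c_rc_13_2 lc_c_Cert_tree lc_c_rc_7_3 lc_c_rc_22_5 lc_c_rc_13_2 lc_c_Cert_tree lc_c_Cert_tree lc_c_rc_14_2 lc_c_rc_13_2 lc_c_rc_11_1 lc_c_rc_23_5 lc_c_rc_13_2 lc_c_Cert_tree lc_c_Cert_tree lc_c_rc_14_2 lc_c_rc_11_1 lc_c_rc_13_2 lc_c_rc_7_1 lc_c_rc_23_5 lc_c_rc_13_2 lc_c_Cert_tree lc_c_rc_14_2 lc_c_Cert_tree lc_c_rc_23_5 lc_c_rc_13_2 lc_c_rc_7_5 lc_c_rc_23_5 lc_c_rc_13_2 lc_c_Cert_tree lc_c_rc_11_1 lc_c_rc_2_3 lc_c_Cert_tree lc_c_rc_13_2 lc_c_rc_2_3 lc_c_rc_11_1 lc_c_rc_11_1 lc_c_rc_13_2 lc_c_rc_24_6 lc_c_rc_24_6 lc_c_Cert_tree lc_c_rc_14_2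 lc_c_Cert_tree lc_c_rc_11_1 lc_c_rc_11_1 lc_c_Cert_tree lc_c_rc_11_1) (@D3.rec (fun _ => (Cert rels S Gen.c)) lc_c_rc_13_2 lc_c_Cert_tree lc_c_Cert_tree lc_c_rc_11_1 lc_c_rc_14_2 lc_c_rc_26_2 lc_c_rc_11_1 lc_c_rc_13_2 lc_c_rc_26_4 lc_c_rc_7_1 lc_c_rc_11_1 lc_c_rc_22_5 lc_c_rc_7_1 lc_c_rc_22_5 lc_c_rc_13_2 lc_c_Cert_tree lc_c_Cert_tree lc_c_rc_14_2 lc_c_rc_26_8 lc_c_rc_24_8 lc_c_rc_26_2 lc_c_rc_13_2 lc_c_rc_23_0 lc_c_rc_11_1 lc_c_rc_13_2 lc_c_rc_14_2 lc_c_Cert_tree lc_c_rc_23_5 lc_c_rc_11_1 lc_c_rc_13_2 lc_c_rc_24_6 lc_c_rc_7_1 lc_c_rc_22_7 lc_c_rc_13_2 lc_c_Cert_tree lc_c_Cert_tree lc_c_rc_14_2 lc_c_Cert_tree lc_c_Cert_tree lc_c_rc_2_3 lc_c_rc_13_2 lc_c_rc_2_3 lc_c_Cert_tree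 lc_c_rc_14_2 lc_c_Cert_tree lc_c_rc_26_4 lc_c_rc_11_1 lc_c_Cert_tree lc_c_rc_13_2 lc_c_rc_26_2 lc_c_rc_11_1 lc_c_Cert_tree lc_c_rc_13_2 lc_c_rc_11_1 lc_c_rc_13_2 lc_c_Cert_tree lc_c_Cert_tree lc_c_rc_11_1 lc_c_rc_13_2 lc_c_rc_26_2 lc_c_rc_23_0 lc_c_Cert_tree) (@D3.rec (fun _ => (Cert rels S Gen.c)) lc_c_rc_22_7 lc_c_rc_7_5 lc_c_rc_11_1 lc_c_rc_23_0 lc_c_rc_11_1 lc_c_rc_11_1 lc_c_rc_11_1 lc_c_rc_2_3 lc_c_rc_11_1 lc_c_rc_11_1 lc_c_rc_13_2 lc_c_rc_11_1 lc_c_rc_11_1 lc_c_rc_23_5 lc_c_rc_11_1 lc_c_rc_13_2 lc_c_rc_13_0 lc_c_rc_26_10 lc_c_rc_11_1 lc_c_rc_23_0 lc_c_rc_26_8 lc_c_rc_11_1 lc_c_rc_13_2 lc_c_rc_14_2 lc_c_rc_23_0 lc_c_rc_14_2 lc_c_rc_26_4 lc_c_rc_11_1 lc_c_rc_11_1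 lc_c_rc_23_0 lc_c_Cert_tree lc_c_rc_11_1 lc_c_rc_26_2 lc_c_rc_14_2 lc_c_rc_13_0 lc_c_rc_24_2 lc_c_rc_11_1 lc_c_rc_13_2 lc_c_rc_26_4 lc_c_rc_11_1 lc_c_rc_13_2 lc_c_rc_7_5 lc_c_rc_23_0 lc_c_Cert_tree lc_c_Cert_tree lc_c_Cert_tree lc_c_rc_2_3 lc_c_rc_11_1 lc_c_rc_14_2 lc_c_rc_14_2 lc_c_rc_7_5 lc_c_rc_13_2 lc_c_rc_11_1 lc_c_rc_13_2 lc_c_rc_11_1 lc_c_rc_26_2 lc_c_rc_24_2 lc_c_rc_13_2 lc_c_rc_11_1 lc_c_rc_13_2 lc_c_rc_26_10 lc_c_rc_13_0) (@D3.rec (fun _ => (Cert rels S Gen.c)) lc_c_rc_26_4 lc_c_rc_26_2 lc_c_rc_11_1 lc_c_rc_13_2 lc_c_rc_11_1 lc_c_rc_14_0 lc_c_rc_13_0 lc_c_Cert_tree lc_c_rc_26_4 lc_c_rc_11_1 lc_c_rc_13_2 lc_c_Cert_tree lc_c_rc_11_1 lc_c_rc_13_2 lc_c_rc_24_6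 lc_c_rc_11_1 lc_c_Cert_tree lc_c_rc_13_2 lc_c_Cert_tree lc_c_Cert_tree lc_c_rc_7_5 lc_c_Cert_tree lc_c_rc_11_1 lc_c_Cert_tree lc_c_Cert_tree lc_c_rc_11_1 lc_c_Cert_tree lc_c_rc_11_1 lc_c_rc_14_2 lc_c_rc_26_2 lc_c_rc_23_0 lc_c_rc_23_5 lc_c_rc_13_0 lc_c_rc_24_4 lc_c_rc_11_1 lc_c_rc_13_2 lc_c_Cert_tree lc_c_rc_11_1 lc_c_rc_26_4 lc_c_rc_7_3 lc_c_rc_22_3 lc_c_rc_7_1 lc_c_rc_24_2 lc_c_Cert_tree lc_c_rc_2_3 lc_c_rc_7_3 lc_c_rc_11_1 lc_c_rc_13_2 lc_c_rc_7_5 lc_c_rc_13_2 lc_c_rc_14_2 lc_c_rc_13_2 lc_c_rc_13_2 lc_c_rc_13_2 lc_c_rc_11_1 lc_c_rc_13_2 lc_c_rc_14_2 lc_c_rc_13_2 lc_c_rc_11_1 lc_c_rc_13_2 lc_c_Cert_tree lc_c_rc_14_2) (@D3.rec (fun _ => (Cert rels S Gen.c)) lc_c_rc_7_3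 lc_c_rc_13_2 lc_c_rc_7_3 lc_c_rc_13_2 lc_c_Cert_tree lc_c_rc_11_1 lc_c_rc_2_3 lc_c_rc_13_2 lc_c_rc_11_1 lc_c_rc_23_0 lc_c_Cert_tree lc_c_rc_14_2 lc_c_Cert_tree lc_c_rc_11_1 lc_c_rc_13_2 lc_c_rc_26_4 lc_c_rc_11_1 lc_c_Cert_tree lc_c_Cert_tree lc_c_rc_11_1 lc_c_rc_14_2 lc_c_rc_7_3 lc_c_rc_11_1 lc_c_rc_26_4 lc_c_rc_11_1 lc_c_Cert_tree lc_c_rc_13_2 lc_c_Cert_tree lc_c_rc_11_1 lc_c_Cert_tree lc_c_rc_13_2 lc_c_rc_13_2 lc_c_Cert_tree lc_c_Cert_tree lc_c_Cert_tree lc_c_rc_14_2 lc_c_rc_11_1 lc_c_rc_11_1 lc_c_rc_14_2 lc_c_Cert_tree lc_c_Cert_tree lc_c_rc_11_1 lc_c_rc_13_2 lc_c_rc_7_1 lc_c_Cert_tree lc_c_rc_13_2 lc_c_rc_11_1 lc_c_rc_23_0 lc_c_Cert_tree lc_c_rc_11_1 lc_c_Cert_tree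 lc_c_Cert_tree lc_c_rc_11_1 lc_c_rc_7_3 lc_c_rc_26_10 lc_c_rc_14_2 lc_c_rc_2_3 lc_c_rc_7_5 lc_c_Cert_tree lc_c_rc_11_1 lc_c_rc_13_2 lc_c_rc_11_1) (@D3.rec (fun _ => (Cert rels S Gen.c)) lc_c_rc_13_2 lc_c_rc_26_4 lc_c_rc_11_1 lc_c_rc_13_2 lc_c_rc_26_8 lc_c_rc_11_1 lc_c_rc_13_2 lc_c_rc_24_6 lc_c_rc_11_1 lc_c_rc_22_7 lc_c_rc_13_2 lc_c_Cert_tree lc_c_Cert_tree lc_c_rc_14_2 lc_c_rc_26_4 lc_c_rc_13_2 lc_c_rc_7_5 lc_c_rc_12_14 lc_c_rc_11_1 lc_c_rc_11_1 lc_c_rc_26_4 lc_c_rc_11_1 lc_c_rc_14_2 lc_c_rc_26_4 lc_c_rc_11_1 lc_c_rc_13_2 lc_c_Cert_tree lc_c_rc_11_1 lc_c_rc_13_2 lc_c_rc_11_1 lc_c_rc_24_6 lc_c_Cert_tree lc_c_rc_13_2 lc_c_rc_13_0 lc_c_Cert_tree lc_c_rc_7_5 lc_c_rc_11_1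 lc_c_rc_13_2 lc_c_rc_23_0 lc_c_rc_14_0 lc_c_rc_14_2 lc_c_Cert_tree lc_c_rc_11_1 lc_c_rc_22_3 lc_c_rc_11_1 lc_c_rc_24_2 lc_c_rc_13_0 lc_c_Cert_tree lc_c_rc_22_3 lc_c_rc_14_0 lc_c_Cert_tree lc_c_Cert_tree lc_c_rc_11_1 lc_c_rc_22_3 lc_c_rc_26_4 lc_c_rc_11_1 lc_c_rc_13_2 lc_c_rc_11_1 lc_c_rc_7_3 lc_c_rc_13_2 lc_c_Cert_tree lc_c_rc_13_2) (@D3.rec (fun _ => (Cert rels S Gen.c)) lc_c_rc_26_2 lc_c_rc_13_2 lc_c_rc_13_2 lc_c_rc_24_4 lc_c_rc_22_5 lc_c_rc_13_2 lc_c_rc_14_2 lc_c_rc_2_3 lc_c_rc_11_1 lc_c_Cert_tree lc_c_rc_11_1 lc_c_rc_13_2 lc_c_rc_13_0 lc_c_rc_22_5 lc_c_rc_23_5 lc_c_rc_22_3 lc_c_rc_11_1 lc_c_rc_2_3 lc_c_rc_11_1 lc_c_rc_13_2 lc_c_rc_22_9 lc_c_Cert_tree lc_c_rc_13_2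 lc_c_rc_11_1 lc_c_rc_13_2 lc_c_Cert_tree lc_c_rc_11_1 lc_c_Cert_tree lc_c_Cert_tree lc_c_rc_11_1 lc_c_rc_13_2 lc_c_rc_14_0 lc_c_Cert_tree lc_c_rc_11_1 lc_c_rc_13_2 lc_c_rc_11_1 lc_c_Cert_tree lc_c_rc_11_1 lc_c_rc_26_8 lc_c_Cert_tree lc_c_Cert_tree lc_c_Cert_tree lc_c_rc_11_1 lc_c_rc_13_2 lc_c_rc_26_10 lc_c_Cert_tree lc_c_rc_14_2 lc_c_rc_11_1 lc_c_rc_13_2 lc_c_Cert_tree lc_c_rc_11_1 lc_c_rc_13_2 lc_c_rc_24_6 lc_c_rc_11_1 lc_c_Cert_tree lc_c_rc_13_2 lc_c_rc_13_0 lc_c_Cert_tree lc_c_Cert_tree lc_c_rc_14_2 lc_c_rc_11_1 lc_c_Cert_tree) (@D3.rec (fun _ => (Cert rels S Gen.c)) lc_c_rc_11_1 lc_c_rc_26_2 lc_c_rc_11_1 lc_c_rc_13_2 lc_c_rc_23_0 lc_c_rc_24_8 lc_c_rc_14_2 lc_c_Cert_tree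 lc_c_rc_11_1 lc_c_rc_13_2 lc_c_rc_13_0 lc_c_rc_26_10 lc_c_Cert_tree lc_c_rc_22_5 lc_c_Cert_tree lc_c_rc_22_3 lc_c_rc_7_3 lc_c_rc_11_1 lc_c_Cert_tree lc_c_rc_11_1 lc_c_rc_22_3 lc_c_rc_26_2 lc_c_rc_13_2 lc_c_rc_7_3 lc_c_rc_11_1 lc_c_rc_14_2 lc_c_rc_13_2 lc_c_Cert_tree lc_c_rc_11_1 lc_c_rc_13_2 lc_c_rc_24_2 lc_c_Cert_tree lc_c_rc_11_1 lc_c_rc_13_2 lc_c_Cert_tree lc_c_rc_11_1 lc_c_rc_13_2 lc_c_Cert_tree lc_c_rc_26_2 lc_c_rc_11_1 lc_c_Cert_tree lc_c_Cert_tree lc_c_Cert_tree lc_c_Cert_tree lc_c_rc_11_1 lc_c_rc_13_2 lc_c_Cert_tree lc_c_rc_22_3 lc_c_rc_11_1 lc_c_rc_13_2 lc_c_rc_26_8 lc_c_rc_11_1 lc_c_rc_13_2 lc_c_rc_24_6 lc_c_rc_11_1 lc_c_Cert_tree lc_c_rc_13_2 lc_c_Cert_tree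 lc_c_Cert_tree lc_c_Cert_tree lc_c_rc_14_2 lc_c_rc_11_1) (@D3.rec (fun _ => (Cert rels S Gen.c)) lc_c_Cert_tree lc_c_rc_11_1 lc_c_Cert_tree lc_c_Cert_tree lc_c_rc_22_7 lc_c_rc_11_1 lc_c_rc_23_5 lc_c_rc_7_3 lc_c_Cert_tree lc_c_rc_13_2 lc_c_rc_11_1 lc_c_rc_13_2 lc_c_Cert_tree lc_c_rc_26_8 lc_c_rc_11_1 lc_c_rc_13_2 lc_c_rc_11_1 lc_c_rc_13_2 lc_c_rc_23_0 lc_c_rc_11_1 lc_c_rc_26_4 lc_c_rc_26_4 lc_c_Cert_tree lc_c_rc_11_1 lc_c_rc_26_10 lc_c_rc_22_9 lc_c_rc_11_1 lc_c_rc_13_2 lc_c_rc_25_5 lc_c_rc_23_5 lc_c_rc_22_5 lc_c_rc_22_3 lc_c_rc_13_2 lc_c_rc_14_2 lc_c_Cert_tree lc_c_rc_14_2 lc_c_rc_13_2 lc_c_rc_24_2 lc_c_rc_26_2 lc_c_rc_24_8 lc_c_rc_13_2 lc_c_rc_11_1 lc_c_rc_13_2 lc_c_rc_26_10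 lc_c_Cert_tree lc_c_rc_11_1 lc_c_rc_13_2 lc_c_rc_24_2 lc_c_rc_7_3 lc_c_rc_14_2 lc_c_rc_13_2 lc_c_Cert_tree lc_c_Cert_tree lc_c_rc_14_2 lc_c_Cert_tree lc_c_rc_23_5 lc_c_rc_11_1 lc_c_rc_23_0 lc_c_rc_14_2 lc_c_rc_11_1 lc_c_rc_13_2 lc_c_rc_11_1) (@D3.rec (fun _ => (Cert rels S Gen.c)) lc_c_rc_11_1 lc_c_rc_13_2 lc_c_rc_11_1 lc_c_rc_24_6 lc_c_rc_7_3 lc_c_rc_22_7 lc_c_rc_13_2 lc_c_Cert_tree lc_c_Cert_tree lc_c_rc_14_2 lc_c_rc_2_1 lc_c_rc_11_1 lc_c_rc_14_0 lc_c_rc_11_1 lc_c_rc_24_6 lc_c_rc_23_0 lc_c_rc_12_2 lc_c_rc_13_2 lc_c_Cert_tree lc_c_Cert_tree lc_c_Cert_tree lc_c_rc_14_2 lc_c_rc_13_0 lc_c_rc_13_0 lc_c_rc_23_5 lc_c_rc_13_2 lc_c_Cert_tree lc_c_Cert_tree lc_c_rc_14_2 lc_c_Cert_tree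 lc_c_rc_11_1 lc_c_rc_12_2 lc_c_rc_13_2 lc_c_Cert_tree lc_c_rc_11_1 lc_c_rc_11_1 lc_c_rc_13_2 lc_c_Cert_tree lc_c_Cert_tree lc_c_rc_2_3 lc_c_Cert_tree lc_c_rc_13_2 lc_c_rc_12_0 lc_c_rc_22_7 lc_c_rc_11_1 lc_c_rc_13_2 lc_c_rc_22_3 lc_c_Cert_tree lc_c_Cert_tree lc_c_Cert_tree lc_c_rc_14_2 lc_c_rc_13_2 lc_c_Cert_tree lc_c_rc_11_1 lc_c_Cert_tree lc_c_rc_13_2 lc_c_Cert_tree lc_c_rc_11_1 lc_c_Cert_tree lc_c_rc_13_2 lc_c_rc_13_2 lc_c_Cert_tree) (@D3.rec (fun _ => (Cert rels S Gen.c)) lc_c_Cert_tree lc_c_Cert_tree lc_c_rc_26_8 lc_c_Cert_tree lc_c_Cert_tree lc_c_Cert_tree lc_c_rc_11_1 lc_c_rc_11_1 lc_c_rc_13_2 lc_c_rc_11_1 lc_c_rc_11_1 lc_c_Cert_tree lc_c_rc_13_2 lc_c_Cert_tree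 lc_c_Cert_tree lc_c_Cert_tree lc_c_rc_14_2 lc_c_Cert_tree lc_c_rc_22_7 lc_c_rc_23_5 lc_c_rc_24_4 lc_c_rc_13_2 lc_c_rc_11_1 lc_c_rc_13_2 lc_c_rc_2_1 lc_c_rc_11_1 lc_c_Cert_tree lc_c_rc_13_2 lc_c_Cert_tree lc_c_Cert_tree lc_c_rc_25_13 lc_c_rc_14_2 lc_c_Cert_tree lc_c_rc_13_2 lc_c_rc_13_2 lc_c_rc_11_1 lc_c_Cert_tree lc_c_rc_11_1 lc_c_rc_13_2 lc_c_Cert_tree lc_c_Cert_tree lc_c_Cert_tree lc_c_rc_14_2 lc_c_Cert_tree lc_c_rc_22_7 lc_c_rc_13_2 lc_c_Cert_tree lc_c_rc_14_2 lc_c_rc_11_1 lc_c_Cert_tree lc_c_Cert_tree lc_c_rc_11_1 lc_c_rc_7_3 lc_c_rc_13_2 lc_c_rc_24_6 lc_c_rc_7_1 lc_c_rc_11_1 lc_c_rc_13_2 lc_c_rc_24_8 lc_c_rc_23_0 lc_c_rc_22_9 lc_c_Cert_tree) (@D3.rec (fun _ => (Cert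 rels S Gen.c)) lc_c_rc_11_1 lc_c_Cert_tree lc_c_Cert_tree lc_c_rc_11_1 lc_c_Cert_tree lc_c_rc_13_2 lc_c_rc_7_1 lc_c_rc_24_4 lc_c_rc_22_5 lc_c_rc_23_0 lc_c_Cert_tree lc_c_rc_11_1 lc_c_Cert_tree lc_c_rc_13_2 lc_c_Cert_tree lc_c_rc_11_1 lc_c_Cert_tree lc_c_rc_13_2 lc_c_Cert_tree lc_c_Cert_tree lc_c_rc_11_1 lc_c_rc_7_3 lc_c_rc_26_4 lc_c_rc_13_2 lc_c_Cert_tree lc_c_rc_13_2 lc_c_rc_11_1 lc_c_rc_13_2 lc_c_rc_11_1 lc_c_rc_11_1 lc_c_Cert_tree lc_c_rc_14_2 lc_c_rc_13_2 lc_c_rc_13_2 lc_c_Cert_tree lc_c_rc_14_2 lc_c_Cert_tree lc_c_rc_13_2 lc_c_rc_7_5 lc_c_Cert_tree lc_c_Cert_tree lc_c_Cert_tree lc_c_rc_11_1 lc_c_rc_14_2 lc_c_Cert_tree lc_c_rc_11_1 lc_c_Cert_tree lc_c_rc_12_6 lc_c_rc_23_5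 lc_c_rc_13_2 lc_c_rc_11_1 lc_c_rc_13_2 lc_c_rc_11_1 lc_c_Cert_tree lc_c_rc_11_1 lc_c_rc_13_2 lc_c_rc_11_1 lc_c_rc_13_2 lc_c_rc_7_3 lc_c_rc_14_2 lc_c_rc_13_2 lc_c_Cert_tree) (@D3.rec (fun _ => (Cert rels S Gen.c)) lc_c_rc_11_1 lc_c_rc_13_2 lc_c_rc_23_5 lc_c_rc_22_7 lc_c_rc_13_2 lc_c_Cert_tree lc_c_Cert_tree lc_c_rc_13_2 lc_c_rc_14_2 lc_c_rc_13_2 lc_c_rc_24_8 lc_c_rc_23_0 lc_c_rc_11_1 lc_c_rc_22_5 lc_c_rc_7_3 lc_c_rc_11_1 lc_c_rc_13_2 lc_c_Cert_tree lc_c_rc_7_5 lc_c_rc_23_5 lc_c_rc_11_1 lc_c_rc_13_2 lc_c_rc_22_5 lc_c_rc_25_1 lc_c_rc_11_1 lc_c_rc_7_1 lc_c_rc_11_1 lc_c_rc_13_2 lc_c_rc_26_8 lc_c_rc_11_1 lc_c_rc_24_4 lc_c_rc_14_2 lc_c_Cert_tree lc_c_rc_13_2 lc_c_Cert_tree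 lc_c_Cert_tree lc_c_rc_14_2 lc_c_Cert_tree lc_c_rc_24_2 lc_c_rc_23_0 lc_c_Cert_tree lc_c_rc_23_5 lc_c_rc_26_8 lc_c_rc_2_3 lc_c_rc_2_1 lc_c_rc_12_0 lc_c_rc_13_2 lc_c_rc_11_1 lc_c_rc_13_2 lc_c_Cert_tree lc_c_rc_14_2 lc_c_rc_13_2 lc_c_rc_23_0 lc_c_rc_13_2 lc_c_rc_13_2 lc_c_rc_26_10 lc_c_rc_13_2 lc_c_rc_26_10 lc_c_rc_23_0 lc_c_rc_26_8 lc_c_rc_13_2 lc_c_rc_13_0) (@D3.rec (fun _ => (Cert rels S Gen.c)) lc_c_rc_26_4 lc_c_rc_13_2 lc_c_Cert_tree lc_c_Cert_tree lc_c_rc_14_2 lc_c_rc_11_1 lc_c_rc_7_3 lc_c_rc_13_2 lc_c_Cert_tree lc_c_rc_7_3 lc_c_rc_13_2 lc_c_rc_14_2 lc_c_rc_26_4 lc_c_Cert_tree lc_c_rc_2_1 lc_c_rc_13_2 lc_c_rc_13_2 lc_c_rc_13_2 lc_c_Cert_tree lc_c_rc_13_2 lc_c_rc_13_2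 lc_c_rc_13_2 lc_c_rc_11_1 lc_c_rc_11_1 lc_c_Cert_tree lc_c_rc_14_2 lc_c_Cert_tree lc_c_rc_11_1 lc_c_Cert_tree lc_c_rc_13_2 lc_c_rc_26_8 lc_c_rc_11_1 lc_c_Cert_tree lc_c_rc_13_2 lc_c_Cert_tree lc_c_Cert_tree lc_c_rc_11_1 lc_c_rc_14_2 lc_c_rc_2_1 lc_c_rc_11_1 lc_c_rc_26_10 lc_c_rc_7_5 lc_c_rc_11_1 lc_c_rc_11_1 lc_c_rc_13_2 lc_c_Cert_tree lc_c_rc_11_1 lc_c_rc_13_2 lc_c_rc_22_3 lc_c_rc_11_1 lc_c_Cert_tree lc_c_Cert_tree lc_c_rc_23_5 lc_c_Cert_tree lc_c_rc_24_2 lc_c_rc_11_1 lc_c_rc_26_8 lc_c_rc_23_5 lc_c_rc_24_4 lc_c_Cert_tree lc_c_Cert_tree lc_c_rc_14_0) (@D3.rec (fun _ => (Cert rels S Gen.c)) lc_c_Cert_tree lc_c_rc_26_2 lc_c_Cert_tree lc_c_rc_22_3 lc_c_Cert_tree lc_c_Cert_tree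 lc_c_rc_11_1 lc_c_rc_13_2 lc_c_rc_11_1 lc_c_Cert_tree lc_c_rc_12_2 lc_c_rc_13_2 lc_c_rc_13_2 lc_c_Cert_tree lc_c_rc_11_1 lc_c_rc_11_1 lc_c_rc_26_4 lc_c_Cert_tree lc_c_Cert_tree lc_c_rc_24_8 lc_c_rc_11_1 lc_c_rc_14_2 lc_c_rc_11_1 lc_c_rc_13_2 lc_c_rc_7_1 lc_c_rc_2_3 lc_c_rc_14_2 lc_c_rc_26_2 lc_c_rc_11_1 lc_c_rc_13_2 lc_c_rc_26_2 lc_c_rc_24_4 lc_c_rc_26_4 lc_c_Cert_tree lc_c_rc_7_1 lc_c_rc_13_2 lc_c_rc_23_0 lc_c_Cert_tree lc_c_rc_11_1 lc_c_rc_26_2 lc_c_rc_13_2 lc_c_rc_24_2 lc_c_Cert_tree lc_c_rc_11_1 lc_c_Cert_tree lc_c_rc_22_7 lc_c_rc_7_5 lc_c_rc_22_7 lc_c_Cert_tree lc_c_rc_2_3 lc_c_rc_11_1 lc_c_rc_13_2 lc_c_rc_23_0 lc_c_Cert_tree lc_c_rc_7_1 lc_c_rc_2_3 lc_c_rc_11_1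 lc_c_rc_13_2 lc_c_rc_11_1 lc_c_rc_23_0 lc_c_rc_26_4 lc_c_rc_13_2) (@D3.rec (fun _ => (Cert rels S Gen.c)) lc_c_rc_24_6 lc_c_rc_7_3 lc_c_rc_14_2 lc_c_rc_26_2 lc_c_rc_11_1 lc_c_rc_13_2 lc_c_rc_7_3 lc_c_rc_13_2 lc_c_Cert_tree lc_c_rc_24_4 lc_c_rc_26_4 lc_c_rc_11_1 lc_c_rc_13_2 lc_c_rc_7_5 lc_c_rc_13_2 lc_c_rc_26_8 lc_c_rc_24_6 lc_c_rc_11_1 lc_c_rc_12_14 lc_c_rc_14_2 lc_c_rc_24_2 lc_c_rc_11_1 lc_c_rc_13_2 lc_c_rc_26_10 lc_c_rc_26_4 lc_c_rc_11_1 lc_c_rc_24_2 lc_c_Cert_tree lc_c_Cert_tree lc_c_rc_11_1 lc_c_rc_26_4 lc_c_rc_13_2 lc_c_rc_2_3 lc_c_rc_14_2 lc_c_rc_11_1 lc_c_rc_2_3 lc_c_rc_13_2 lc_c_rc_11_1 lc_c_rc_26_2 lc_c_rc_13_0 lc_c_rc_11_1 lc_c_rc_13_2 lc_c_rc_26_8 lc_c_rc_13_2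 lc_c_rc_7_3 lc_c_rc_7_3 lc_c_rc_23_0 lc_c_rc_26_4 lc_c_rc_22_3 lc_c_rc_24_8 lc_c_rc_11_1 lc_c_rc_11_1 lc_c_rc_13_2 lc_c_rc_26_4 lc_c_rc_13_2 lc_c_Cert_tree lc_c_rc_14_2 lc_c_rc_13_2 lc_c_rc_2_3 lc_c_Cert_tree lc_c_rc_13_2 lc_c_Cert_tree) (@D3.rec (fun _ => (Cert rels S Gen.c)) lc_c_rc_11_1 lc_c_rc_26_8 lc_c_rc_13_2 lc_c_rc_7_3 lc_c_Cert_tree lc_c_rc_11_1 lc_c_rc_14_2 lc_c_rc_2_1 lc_c_rc_13_2 lc_c_rc_24_6 lc_c_rc_13_2 lc_c_Cert_tree lc_c_Cert_tree lc_c_rc_14_2 lc_c_rc_11_1 lc_c_rc_26_2 lc_c_rc_7_1 lc_c_rc_13_2 lc_c_Cert_tree lc_c_rc_14_2 lc_c_rc_26_4 lc_c_rc_13_2 lc_c_rc_13_2 lc_c_rc_11_1 lc_c_rc_13_2 lc_c_rc_26_4 lc_c_rc_11_1 lc_c_rc_26_10 lc_c_rc_13_2 lc_c_Cert_tree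 lc_c_rc_11_1 lc_c_rc_24_2 lc_c_rc_13_2 lc_c_rc_11_1 lc_c_rc_12_2 lc_c_rc_13_2 lc_c_rc_26_2 lc_c_Cert_tree lc_c_rc_14_2 lc_c_rc_2_3 lc_c_Cert_tree lc_c_rc_23_5 lc_c_rc_11_1 lc_c_rc_13_2 lc_c_rc_24_6 lc_c_rc_24_4 lc_c_rc_11_1 lc_c_Cert_tree lc_c_rc_14_2 lc_c_rc_11_1 lc_c_rc_22_5 lc_c_rc_11_1 lc_c_rc_7_5 lc_c_rc_22_3 lc_c_rc_24_4 lc_c_rc_13_2 lc_c_rc_11_1 lc_c_rc_13_0 lc_c_rc_14_2 lc_c_rc_7_5 lc_c_rc_13_2 lc_c_rc_13_2) (@D3.rec (fun _ => (Cert rels S Gen.c)) lc_c_rc_14_2 lc_c_rc_2_3 lc_c_rc_13_2 lc_c_Cert_tree lc_c_rc_26_8 lc_c_rc_14_2 lc_c_rc_13_2 lc_c_rc_11_1 lc_c_rc_13_2 lc_c_Cert_tree lc_c_rc_24_4 lc_c_rc_13_2 lc_c_rc_11_1 lc_c_rc_23_0 lc_c_rc_23_5 lc_c_rc_26_4 lc_c_rc_13_2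 lc_c_rc_26_4 lc_c_rc_13_2 lc_c_rc_11_1 lc_c_rc_11_1 lc_c_rc_14_0 lc_c_rc_14_2 lc_c_rc_26_4 lc_c_rc_11_1 lc_c_rc_22_7 lc_c_rc_7_3 lc_c_rc_26_4 lc_c_rc_11_1 lc_c_Cert_tree lc_c_rc_23_5 lc_c_Cert_tree lc_c_Cert_tree lc_c_rc_11_1 lc_c_rc_14_2 lc_c_Cert_tree lc_c_rc_11_1 lc_c_rc_13_2 lc_c_rc_24_2 lc_c_rc_11_1 lc_c_rc_24_6 lc_c_rc_23_0 lc_c_Cert_tree lc_c_Cert_tree lc_c_rc_11_1 lc_c_rc_13_2 lc_c_rc_23_0 lc_c_rc_14_2 lc_c_rc_11_1 lc_c_rc_13_2 lc_c_rc_26_8 lc_c_rc_14_2 lc_c_Cert_tree lc_c_Cert_tree lc_c_rc_14_2 lc_c_rc_11_1 lc_c_Cert_tree lc_c_Cert_tree lc_c_Cert_tree lc_c_Cert_tree lc_c_Cert_tree lc_c_rc_11_1) (@D3.rec (fun _ => (Cert rels S Gen.c)) lc_c_rc_24_8 lc_c_rc_23_0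 lc_c_rc_11_1 lc_c_rc_13_2 lc_c_rc_22_7 lc_c_rc_11_1 lc_c_rc_13_2 lc_c_rc_11_1 lc_c_Cert_tree lc_c_Cert_tree lc_c_Cert_tree lc_c_Cert_tree lc_c_rc_11_1 lc_c_Cert_tree lc_c_rc_24_4 lc_c_rc_23_5 lc_c_Cert_tree lc_c_rc_11_1 lc_c_rc_13_2 lc_c_Cert_tree lc_c_rc_11_1 lc_c_rc_13_2 lc_c_rc_7_3 lc_c_rc_23_0 lc_c_rc_11_1 lc_c_rc_13_2 lc_c_rc_26_2 lc_c_Cert_tree lc_c_rc_2_1 lc_c_Cert_tree lc_c_Cert_tree lc_c_rc_11_1 lc_c_rc_13_2 lc_c_Cert_tree lc_c_rc_23_0 lc_c_rc_13_2 lc_c_Cert_tree lc_c_rc_11_1 lc_c_rc_24_2 lc_c_Cert_tree lc_c_rc_11_1 lc_c_Cert_tree lc_c_rc_11_1 lc_c_rc_13_2 lc_c_rc_11_1 lc_c_rc_13_2 lc_c_rc_7_3 lc_c_rc_23_5 lc_c_rc_13_2 lc_c_Cert_tree lc_c_rc_7_1 lc_c_rc_11_1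 lc_c_rc_13_2 lc_c_rc_2_3 lc_c_Cert_tree lc_c_rc_14_2 lc_c_rc_22_5 lc_c_rc_11_1 lc_c_Cert_tree lc_c_rc_11_1 lc_c_Cert_tree lc_c_Cert_tree) (@D3.rec (fun _ => (Cert rels S Gen.c)) lc_c_Cert_tree lc_c_rc_11_1 lc_c_rc_26_4 lc_c_rc_26_2 lc_c_rc_11_1 lc_c_rc_13_2 lc_c_Cert_tree lc_c_rc_11_1 lc_c_rc_24_4 lc_c_rc_11_1 lc_c_rc_13_2 lc_c_rc_11_1 lc_c_rc_13_2 lc_c_rc_11_1 lc_c_rc_22_7 lc_c_rc_13_2 lc_c_Cert_tree lc_c_Cert_tree lc_c_Cert_tree lc_c_rc_14_2 lc_c_rc_26_4 lc_c_Cert_tree lc_c_rc_2_3 lc_c_Cert_tree lc_c_Cert_tree lc_c_rc_11_1 lc_c_rc_14_2 lc_c_rc_23_5 lc_c_rc_13_2 lc_c_Cert_tree lc_c_rc_13_2 lc_c_rc_23_5 lc_c_rc_11_1 lc_c_rc_26_8 lc_c_rc_26_4 lc_c_rc_22_9 lc_c_rc_13_2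 lc_c_rc_2_3 lc_c_Cert_tree lc_c_rc_7_5 lc_c_rc_14_2 lc_c_rc_22_9 lc_c_rc_13_2 lc_c_rc_7_5 lc_c_rc_7_5 lc_c_rc_13_2 lc_c_rc_13_0 lc_c_rc_7_5 lc_c_rc_11_1 lc_c_rc_26_2 lc_c_rc_11_1 lc_c_Cert_tree lc_c_rc_13_2 lc_c_Cert_tree lc_c_rc_11_1 lc_c_rc_13_2 lc_c_Cert_tree lc_c_rc_11_1 lc_c_rc_26_8 lc_c_rc_26_2 lc_c_Cert_tree lc_c_rc_11_1) (@D3.rec (fun _ => (Cert rels S Gen.c)) lc_c_rc_13_2 lc_c_rc_26_8 lc_c_rc_11_1 lc_c_rc_13_2 lc_c_rc_11_1 lc_c_rc_13_2 lc_c_rc_2_3 lc_c_rc_7_3 lc_c_Cert_tree lc_c_rc_14_2 lc_c_rc_13_2 lc_c_rc_11_1 lc_c_rc_12_12 lc_c_rc_13_2 lc_c_rc_13_2 lc_c_rc_2_1 lc_c_rc_24_4 lc_c_rc_7_3 lc_c_rc_13_2 lc_c_rc_11_1 lc_c_rc_11_1 lc_c_rc_13_2 lc_c_rc_13_2 lc_c_rc_26_2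 lc_c_Cert_tree lc_c_Cert_tree lc_c_rc_2_3 lc_c_rc_11_1 lc_c_rc_11_1 lc_c_Cert_tree lc_c_rc_2_1 lc_c_Cert_tree lc_c_rc_11_1 lc_c_rc_13_2 lc_c_rc_11_1 lc_c_rc_7_1 lc_c_rc_11_1 lc_c_rc_13_2 lc_c_rc_13_2 lc_c_rc_11_1 lc_c_rc_13_2 lc_c_Cert_tree lc_c_rc_7_3 lc_c_rc_12_8 lc_c_rc_13_2 lc_c_Cert_tree lc_c_rc_11_1 lc_c_rc_11_1 lc_c_rc_13_2 lc_c_Cert_tree lc_c_Cert_tree lc_c_rc_2_3 lc_c_rc_22_5 lc_c_rc_13_2 lc_c_Cert_tree lc_c_Cert_tree lc_c_Cert_tree lc_c_rc_13_2 lc_c_Cert_tree lc_c_Cert_tree lc_c_rc_11_1 lc_c_Cert_tree) (@D3.rec (fun _ => (Cert rels S Gen.c)) lc_c_rc_11_1 lc_c_rc_11_1 lc_c_rc_13_2 lc_c_Cert_tree lc_c_rc_11_1 lc_c_rc_13_2 lc_c_Cert_tree lc_c_Cert_tree lc_c_rc_11_1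 lc_c_Cert_tree lc_c_rc_11_1 lc_c_rc_13_2 lc_c_rc_24_4 lc_c_rc_24_6 lc_c_rc_7_3 lc_c_rc_26_10 lc_c_rc_13_2 lc_c_Cert_tree lc_c_Cert_tree lc_c_Cert_tree lc_c_rc_14_2 lc_c_rc_11_1 lc_c_Cert_tree lc_c_rc_11_1 lc_c_Cert_tree lc_c_Cert_tree lc_c_Cert_tree lc_c_rc_11_1 lc_c_rc_14_2 lc_c_rc_11_1 lc_c_rc_26_4 lc_c_rc_13_2 lc_c_Cert_tree lc_c_rc_14_2 lc_c_rc_13_2 lc_c_rc_11_1 lc_c_rc_22_9 lc_c_rc_13_2 lc_c_Cert_tree lc_c_Cert_tree lc_c_rc_14_2 lc_c_rc_26_4 lc_c_rc_13_2 lc_c_rc_13_2 lc_c_rc_11_1 lc_c_rc_11_1 lc_c_Cert_tree lc_c_Cert_tree lc_c_rc_14_2 lc_c_rc_26_2 lc_c_rc_11_1 lc_c_Cert_tree lc_c_rc_13_2 lc_c_rc_26_8 lc_c_rc_11_1 lc_c_Cert_tree lc_c_rc_13_2 lc_c_Cert_tree lc_c_Cert_tree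 lc_c_rc_11_1 lc_c_rc_14_2 lc_c_rc_23_0) (@D3.rec (fun _ => (Cert rels S Gen.c)) lc_c_Cert_tree lc_c_rc_11_1 lc_c_rc_13_2 lc_c_rc_11_1 lc_c_Cert_tree lc_c_rc_13_2 lc_c_rc_24_2 lc_c_rc_11_1 lc_c_Cert_tree lc_c_Cert_tree lc_c_rc_24_6 lc_c_Cert_tree lc_c_rc_14_2 lc_c_rc_13_2 lc_c_rc_13_2 lc_c_Cert_tree lc_c_rc_11_1 lc_c_rc_13_2 lc_c_rc_11_1 lc_c_rc_14_2 lc_c_rc_11_1 lc_c_Cert_tree lc_c_rc_13_2 lc_c_Cert_tree lc_c_Cert_tree lc_c_rc_26_8 lc_c_Cert_tree lc_c_rc_11_1 lc_c_rc_23_0 lc_c_rc_23_0 lc_c_rc_11_1 lc_c_rc_13_2 lc_c_rc_13_0 lc_c_rc_11_1 lc_c_rc_7_3 lc_c_rc_11_1 lc_c_rc_13_2 lc_c_rc_13_2 lc_c_rc_7_3 lc_c_rc_11_1 lc_c_rc_13_2 lc_c_Cert_tree lc_c_rc_22_3 lc_c_rc_11_1 lc_c_rc_7_5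 lc_c_rc_22_3 lc_c_rc_24_6 lc_c_rc_11_1 lc_c_rc_26_4 lc_c_rc_11_1 lc_c_rc_11_1 lc_c_rc_11_1 lc_c_rc_13_2 lc_c_rc_13_2 lc_c_rc_24_8 lc_c_rc_11_1 lc_c_rc_13_2 lc_c_rc_26_4 lc_c_rc_13_2 lc_c_rc_26_4 lc_c_rc_11_1 lc_c_rc_2_3) (@D3.rec (fun _ => (Cert rels S Gen.c)) lc_c_rc_24_6 lc_c_rc_13_2 lc_c_rc_13_0 lc_c_rc_11_1 lc_c_rc_7_3 lc_c_rc_22_5 lc_c_rc_13_2 lc_c_Cert_tree lc_c_Cert_tree lc_c_rc_14_2 lc_c_rc_14_2 lc_c_rc_7_5 lc_c_rc_24_6 lc_c_rc_13_2 lc_c_rc_23_0 lc_c_rc_13_2 lc_c_Cert_tree lc_c_rc_22_3 lc_c_rc_2_3 lc_c_rc_7_1 lc_c_rc_13_2 lc_c_rc_7_3 lc_c_rc_24_6 lc_c_rc_12_14 lc_c_rc_13_2 lc_c_rc_22_7 lc_c_rc_13_2 lc_c_rc_13_2 lc_c_Cert_tree lc_c_rc_14_0 lc_c_rc_11_1 lc_c_rc_2_3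 lc_c_rc_11_1 lc_c_rc_14_2 lc_c_rc_14_0 lc_c_rc_11_1 lc_c_rc_13_2 lc_c_rc_13_2 lc_c_Cert_tree lc_c_rc_7_3 lc_c_rc_26_10 lc_c_rc_13_2 lc_c_rc_24_8 lc_c_rc_26_10 lc_c_Cert_tree lc_c_rc_14_2 lc_c_rc_26_2 lc_c_rc_24_2 lc_c_rc_26_2 lc_c_rc_11_1 lc_c_rc_14_2 lc_c_rc_7_3 lc_c_rc_13_2 lc_c_Cert_tree lc_c_Cert_tree lc_c_Cert_tree lc_c_rc_26_4 lc_c_Cert_tree lc_c_rc_11_1 lc_c_rc_2_3 lc_c_rc_24_8 lc_c_rc_13_2) (@D3.rec (fun _ => (Cert rels S Gen.c)) lc_c_rc_13_2 lc_c_Cert_tree lc_c_rc_11_1 lc_c_Cert_tree lc_c_rc_14_2 lc_c_rc_11_1 lc_c_Cert_tree lc_c_rc_13_2 lc_c_Cert_tree lc_c_rc_11_1 lc_c_rc_14_2 lc_c_rc_11_1 lc_c_rc_13_2 lc_c_rc_11_1 lc_c_rc_13_2 lc_c_Cert_tree lc_c_rc_11_1 lc_c_rc_7_3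 lc_c_Cert_tree lc_c_rc_14_2 lc_c_rc_13_2 lc_c_Cert_tree lc_c_rc_13_2 lc_c_rc_13_2 lc_c_rc_11_1 lc_c_Cert_tree lc_c_rc_14_2 lc_c_Cert_tree lc_c_rc_11_1 lc_c_Cert_tree lc_c_rc_13_2 lc_c_rc_26_8 lc_c_rc_11_1 lc_c_Cert_tree lc_c_rc_23_0 lc_c_rc_13_2 lc_c_rc_7_1 lc_c_rc_24_4 lc_c_rc_13_2 lc_c_rc_26_2 lc_c_rc_26_10 lc_c_rc_13_2 lc_c_rc_14_2 lc_c_rc_11_1 lc_c_rc_7_5 lc_c_rc_2_1 lc_c_Cert_tree lc_c_rc_11_1 lc_c_rc_2_3 lc_c_rc_11_1 lc_c_rc_13_2 lc_c_rc_24_6 lc_c_rc_24_4 lc_c_rc_13_2 lc_c_Cert_tree lc_c_Cert_tree lc_c_rc_14_2 lc_c_Cert_tree lc_c_rc_11_1 lc_c_Cert_tree lc_c_rc_26_8 lc_c_Cert_tree)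
def ce_c_6 : D2 → D3 → (Cert rels S Gen.c) := @D2.rec (fun _ => D3 → (Cert rels S Gen.c)) (@D3.rec (fun _ => (Cert rels S Gen.c)) lc_c_rc_14_2 lc_c_rc_11_1 lc_c_rc_13_2 lc_c_rc_7_1 lc_c_rc_13_2 lc_c_rc_13_2 lc_c_rc_26_10 lc_c_rc_14_2 lc_c_rc_11_1 lc_c_rc_2_3 lc_c_rc_26_2 lc_c_rc_13_2 lc_c_rc_13_2 lc_c_Cert_tree lc_c_rc_11_1 lc_c_Cert_tree lc_c_rc_14_2 lc_c_rc_11_1 lc_c_rc_14_2 lc_c_rc_13_2 lc_c_rc_11_1 lc_c_Cert_tree lc_c_rc_24_8 lc_c_rc_26_8 lc_c_rc_26_2 lc_c_rc_11_1 lc_c_rc_14_2 lc_c_Cert_tree lc_c_Cert_tree lc_c_rc_26_2 lc_c_rc_11_1 lc_c_Cert_tree lc_c_rc_13_2 lc_c_rc_24_2 lc_c_rc_13_2 lc_c_Cert_tree lc_c_rc_14_2 lc_c_rc_24_8 lc_c_rc_23_0 lc_c_rc_2_1 lc_c_rc_11_1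 lc_c_rc_11_1 lc_c_rc_13_2 lc_c_rc_13_2 lc_c_Cert_tree lc_c_rc_14_2 lc_c_rc_13_2 lc_c_rc_7_3 lc_c_rc_13_2 lc_c_Cert_tree lc_c_rc_13_2 lc_c_Cert_tree lc_c_rc_14_2 lc_c_rc_11_1 lc_c_Cert_tree lc_c_Cert_tree lc_c_rc_11_1 lc_c_Cert_tree lc_c_Cert_tree lc_c_Cert_tree lc_c_rc_11_1 lc_c_rc_14_2) (@D3.rec (fun _ => (Cert rels S Gen.c)) lc_c_rc_11_1 lc_c_rc_23_0 lc_c_rc_11_1 lc_c_rc_13_0 lc_c_rc_13_2 lc_c_rc_14_2 lc_c_rc_7_1 lc_c_Cert_tree lc_c_rc_13_2 lc_c_Cert_tree lc_c_Cert_tree lc_c_rc_11_1 lc_c_rc_13_2 lc_c_rc_24_8 lc_c_Cert_tree lc_c_rc_13_0 lc_c_rc_26_4 lc_c_Cert_tree lc_c_rc_11_1 lc_c_Cert_tree lc_c_rc_13_2 lc_c_rc_7_1 lc_c_Cert_tree lc_c_rc_11_1 lc_c_rc_13_2 lc_c_rc_23_0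 lc_c_rc_24_2 lc_c_rc_11_1 lc_c_rc_13_2 lc_c_rc_11_1 lc_c_rc_13_2 lc_c_rc_11_1 lc_c_rc_13_2 lc_c_Cert_tree lc_c_rc_11_1 lc_c_rc_13_2 lc_c_rc_11_1 lc_c_rc_11_1 lc_c_rc_7_3 lc_c_Cert_tree lc_c_rc_7_3 lc_c_rc_22_3 lc_c_rc_13_0 lc_c_Cert_tree lc_c_Cert_tree lc_c_rc_2_3 lc_c_rc_26_4 lc_c_rc_13_2 lc_c_rc_7_5 lc_c_rc_2_3 lc_c_rc_11_1 lc_c_rc_13_2 lc_c_rc_26_8 lc_c_rc_11_1 lc_c_Cert_tree lc_c_rc_26_4 lc_c_rc_11_1 lc_c_Cert_tree lc_c_rc_7_5 lc_c_Cert_tree lc_c_rc_11_1 lc_c_rc_14_2) (@D3.rec (fun _ => (Cert rels S Gen.c)) lc_c_rc_11_1 lc_c_Cert_tree lc_c_rc_2_3 lc_c_rc_24_2 lc_c_rc_11_1 lc_c_rc_11_1 lc_c_rc_24_4 lc_c_Cert_tree lc_c_Cert_tree lc_c_rc_23_5 lc_c_rc_23_5 lc_c_rc_7_3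 lc_c_rc_22_3 lc_c_rc_13_2 lc_c_rc_24_2 lc_c_Cert_tree lc_c_rc_14_2 lc_c_rc_26_4 lc_c_rc_13_2 lc_c_rc_13_2 lc_c_Cert_tree lc_c_rc_11_1 lc_c_rc_13_2 lc_c_Cert_tree lc_c_Cert_tree lc_c_rc_24_8 lc_c_rc_14_2 lc_c_rc_11_1 lc_c_Cert_tree lc_c_rc_13_2 lc_c_rc_11_1 lc_c_Cert_tree lc_c_rc_24_8 lc_c_rc_26_2 lc_c_rc_26_4 lc_c_rc_11_1 lc_c_Cert_tree lc_c_rc_13_2 lc_c_rc_11_1 lc_c_rc_26_4 lc_c_rc_13_2 lc_c_rc_23_5 lc_c_rc_26_10 lc_c_rc_24_2 lc_c_rc_11_1 lc_c_rc_11_1 lc_c_rc_13_2 lc_c_rc_22_5 lc_c_rc_14_2 lc_c_rc_13_2 lc_c_rc_11_1 lc_c_rc_22_3 lc_c_rc_2_3 lc_c_rc_22_5 lc_c_Cert_tree lc_c_rc_11_1 lc_c_rc_26_2 lc_c_Cert_tree lc_c_rc_26_4 lc_c_rc_23_0 lc_c_rc_14_2 lc_c_rc_11_1) (@D3.rec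 (fun _ => (Cert rels S Gen.c)) lc_c_Cert_tree lc_c_rc_11_1 lc_c_rc_11_1 lc_c_rc_23_5 lc_c_rc_24_6 lc_c_rc_11_1 lc_c_rc_7_1 lc_c_rc_24_4 lc_c_rc_11_1 lc_c_rc_11_1 lc_c_Cert_tree lc_c_Cert_tree lc_c_Cert_tree lc_c_Cert_tree lc_c_Cert_tree lc_c_rc_11_1 lc_c_rc_13_2 lc_c_rc_25_17 lc_c_rc_25_17 lc_c_rc_7_5 lc_c_rc_11_1 lc_c_rc_7_3 lc_c_rc_13_2 lc_c_rc_13_2 lc_c_Cert_tree lc_c_Cert_tree lc_c_Cert_tree lc_c_rc_11_1 lc_c_rc_13_2 lc_c_rc_22_5 lc_c_rc_23_0 lc_c_rc_12_14 lc_c_rc_13_2 lc_c_rc_22_3 lc_c_rc_22_3 lc_c_rc_22_5 lc_c_rc_26_2 lc_c_rc_13_2 lc_c_rc_26_2 lc_c_rc_2_1 lc_c_rc_14_2 lc_c_rc_11_1 lc_c_rc_13_2 lc_c_rc_7_1 lc_c_rc_13_2 lc_c_Cert_tree lc_c_Cert_tree lc_c_rc_14_2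 lc_c_rc_11_1 lc_c_rc_13_2 lc_c_rc_7_1 lc_c_rc_13_2 lc_c_Cert_tree lc_c_rc_11_1 lc_c_rc_14_2 lc_c_Cert_tree lc_c_rc_13_2 lc_c_rc_7_3 lc_c_rc_13_2 lc_c_Cert_tree lc_c_Cert_tree lc_c_rc_2_3) (@D3.rec (fun _ => (Cert rels S Gen.c)) lc_c_Cert_tree lc_c_rc_13_2 lc_c_rc_11_1 lc_c_rc_13_2 lc_c_rc_7_3 lc_c_rc_13_2 lc_c_rc_12_0 lc_c_rc_22_3 lc_c_rc_22_5 lc_c_rc_11_1 lc_c_rc_7_3 lc_c_Cert_tree lc_c_rc_13_2 lc_c_rc_13_2 lc_c_rc_13_2 lc_c_rc_24_4 lc_c_rc_11_1 lc_c_rc_2_3 lc_c_rc_11_1 lc_c_rc_22_5 lc_c_rc_2_3 lc_c_rc_7_3 lc_c_rc_22_9 lc_c_rc_11_1 lc_c_rc_11_1 lc_c_rc_13_2 lc_c_rc_11_1 lc_c_rc_13_2 lc_c_rc_11_1 lc_c_rc_11_1 lc_c_rc_7_3 lc_c_rc_22_7 lc_c_rc_14_2 lc_c_rc_13_2 lc_c_rc_11_1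 lc_c_rc_13_2 lc_c_rc_11_1 lc_c_rc_13_2 lc_c_rc_11_1 lc_c_rc_11_1 lc_c_rc_23_0 lc_c_rc_13_2 lc_c_Cert_tree lc_c_Cert_tree lc_c_rc_14_2 lc_c_rc_26_2 lc_c_rc_11_1 lc_c_rc_11_1 lc_c_rc_11_1 lc_c_rc_13_2 lc_c_rc_7_3 lc_c_rc_11_1 lc_c_rc_13_2 lc_c_Cert_tree lc_c_Cert_tree lc_c_rc_14_2 lc_c_rc_11_1 lc_c_rc_13_2 lc_c_rc_24_6 lc_c_rc_11_1 lc_c_rc_13_2 lc_c_Cert_tree) (@D3.rec (fun _ => (Cert rels S Gen.c)) lc_c_Cert_tree lc_c_rc_14_2 lc_c_rc_13_2 lc_c_rc_11_1 lc_c_rc_22_5 lc_c_rc_13_2 lc_c_Cert_tree lc_c_Cert_tree lc_c_rc_14_2 lc_c_rc_7_3 lc_c_rc_23_5 lc_c_rc_13_2 lc_c_Cert_tree lc_c_rc_23_5 lc_c_rc_13_2 lc_c_Cert_tree lc_c_Cert_tree lc_c_rc_2_3 lc_c_Cert_tree lc_c_rc_14_2 lc_c_rc_12_8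 lc_c_rc_24_2 lc_c_rc_11_1 lc_c_rc_13_2 lc_c_rc_22_3 lc_c_rc_13_2 lc_c_Cert_tree lc_c_Cert_tree lc_c_rc_24_4 lc_c_rc_23_0 lc_c_rc_7_3 lc_c_rc_24_2 lc_c_rc_13_2 lc_c_Cert_tree lc_c_Cert_tree lc_c_rc_14_2 lc_c_Cert_tree lc_c_Cert_tree lc_c_Cert_tree lc_c_rc_2_3 lc_c_rc_14_2 lc_c_Cert_tree lc_c_rc_11_1 lc_c_rc_13_2 lc_c_rc_26_4 lc_c_rc_11_1 lc_c_rc_11_1 lc_c_rc_24_6 lc_c_rc_7_3 lc_c_rc_22_5 lc_c_rc_13_2 lc_c_Cert_tree lc_c_rc_14_2 lc_c_Cert_tree lc_c_Cert_tree lc_c_rc_2_3 lc_c_rc_13_2 lc_c_rc_13_0 lc_c_rc_11_1 lc_c_rc_2_3 lc_c_rc_7_1 lc_c_rc_23_5) (@D3.rec (fun _ => (Cert rels S Gen.c)) lc_c_rc_13_2 lc_c_Cert_tree lc_c_Cert_tree lc_c_rc_14_2 lc_c_Cert_tree lc_c_Cert_tree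 lc_c_rc_2_3 lc_c_rc_26_10 lc_c_rc_13_2 lc_c_rc_13_2 lc_c_rc_11_1 lc_c_rc_23_0 lc_c_Cert_tree lc_c_Cert_tree lc_c_Cert_tree lc_c_rc_13_2 lc_c_rc_24_4 lc_c_rc_11_1 lc_c_rc_7_1 lc_c_rc_12_8 lc_c_rc_13_2 lc_c_Cert_tree lc_c_Cert_tree lc_c_rc_14_2 lc_c_Cert_tree lc_c_Cert_tree lc_c_rc_2_3 lc_c_rc_7_1 lc_c_rc_22_7 lc_c_Cert_tree lc_c_Cert_tree lc_c_Cert_tree lc_c_Cert_tree lc_c_rc_11_1 lc_c_rc_7_3 lc_c_rc_13_2 lc_c_rc_13_2 lc_c_Cert_tree lc_c_Cert_tree lc_c_rc_11_1 lc_c_rc_14_2 lc_c_Cert_tree lc_c_rc_11_1 lc_c_rc_13_2 lc_c_rc_11_1 lc_c_Cert_tree lc_c_Cert_tree lc_c_Cert_tree lc_c_rc_11_1 lc_c_rc_13_2 lc_c_rc_13_2 lc_c_rc_7_3 lc_c_rc_13_2 lc_c_rc_11_1 lc_c_rc_11_1 lc_c_rc_14_2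 lc_c_rc_22_3 lc_c_rc_11_1 lc_c_rc_23_0 lc_c_rc_7_3 lc_c_rc_24_8 lc_c_rc_13_2) (@D3.rec (fun _ => (Cert rels S Gen.c)) lc_c_Cert_tree lc_c_Cert_tree lc_c_rc_14_2 lc_c_Cert_tree lc_c_Cert_tree lc_c_rc_2_3 lc_c_rc_13_2 lc_c_Cert_tree lc_c_Cert_tree lc_c_rc_13_2 lc_c_rc_2_3 lc_c_rc_25_5 lc_c_rc_7_3 lc_c_rc_24_2 lc_c_rc_13_2 lc_c_rc_22_9 lc_c_rc_14_2 lc_c_Cert_tree lc_c_rc_2_3 lc_c_rc_13_2 lc_c_rc_13_2 lc_c_rc_14_2 lc_c_Cert_tree lc_c_rc_2_3 lc_c_rc_14_2 lc_c_rc_13_2 lc_c_rc_26_4 lc_c_rc_11_1 lc_c_rc_11_1 lc_c_rc_23_5 lc_c_rc_11_1 lc_c_rc_24_2 lc_c_rc_11_1 lc_c_rc_24_8 lc_c_rc_2_3 lc_c_Cert_tree lc_c_rc_26_2 lc_c_rc_26_8 lc_c_rc_11_1 lc_c_rc_23_5 lc_c_rc_11_1 lc_c_Cert_tree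 lc_c_rc_13_2 lc_c_rc_11_1 lc_c_rc_14_2 lc_c_Cert_tree lc_c_rc_26_2 lc_c_rc_26_4 lc_c_rc_24_4 lc_c_rc_26_4 lc_c_rc_11_1 lc_c_rc_11_1 lc_c_rc_22_5 lc_c_rc_13_2 lc_c_rc_26_8 lc_c_rc_13_2 lc_c_rc_11_1 lc_c_rc_13_2 lc_c_rc_24_8 lc_c_rc_13_2 lc_c_rc_11_1 lc_c_rc_26_4) (@D3.rec (fun _ => (Cert rels S Gen.c)) lc_c_rc_11_1 lc_c_rc_14_2 lc_c_rc_11_1 lc_c_rc_7_3 lc_c_rc_23_5 lc_c_rc_13_2 lc_c_rc_14_2 lc_c_rc_11_1 lc_c_rc_2_1 lc_c_rc_14_2 lc_c_rc_13_2 lc_c_rc_7_5 lc_c_rc_2_1 lc_c_rc_2_3 lc_c_rc_7_1 lc_c_rc_11_1 lc_c_rc_13_2 lc_c_rc_13_2 lc_c_rc_24_4 lc_c_Cert_tree lc_c_Cert_tree lc_c_rc_2_3 lc_c_rc_26_2 lc_c_Cert_tree lc_c_Cert_tree lc_c_rc_14_2 lc_c_rc_13_0 lc_c_rc_11_1 lc_c_rc_11_1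 lc_c_rc_22_5 lc_c_rc_7_3 lc_c_rc_24_8 lc_c_rc_2_3 lc_c_rc_7_5 lc_c_rc_22_5 lc_c_rc_13_2 lc_c_rc_7_5 lc_c_rc_11_1 lc_c_rc_13_2 lc_c_rc_11_1 lc_c_rc_11_1 lc_c_Cert_tree lc_c_rc_14_2 lc_c_Cert_tree lc_c_rc_11_1 lc_c_rc_7_5 lc_c_rc_26_10 lc_c_rc_7_3 lc_c_rc_11_1 lc_c_Cert_tree lc_c_rc_13_2 lc_c_rc_13_2 lc_c_rc_13_0 lc_c_rc_11_1 lc_c_rc_11_1 lc_c_rc_11_1 lc_c_rc_7_3 lc_c_rc_11_1 lc_c_rc_11_1 lc_c_Cert_tree lc_c_rc_13_2 lc_c_rc_11_1) (@D3.rec (fun _ => (Cert rels S Gen.c)) lc_c_rc_13_2 lc_c_rc_13_0 lc_c_rc_13_2 lc_c_rc_11_1 lc_c_rc_13_2 lc_c_rc_11_1 lc_c_rc_11_1 lc_c_rc_13_2 lc_c_rc_7_3 lc_c_rc_11_1 lc_c_rc_13_2 lc_c_rc_13_2 lc_c_rc_13_2 lc_c_Cert_tree lc_c_rc_14_2 lc_c_rc_24_2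 lc_c_rc_11_1 lc_c_rc_22_5 lc_c_rc_11_1 lc_c_rc_11_1 lc_c_rc_11_1 lc_c_rc_13_2 lc_c_Cert_tree lc_c_rc_11_1 lc_c_rc_13_2 lc_c_rc_24_6 lc_c_rc_7_3 lc_c_rc_12_4 lc_c_Cert_tree lc_c_Cert_tree lc_c_rc_2_3 lc_c_rc_13_2 lc_c_Cert_tree lc_c_rc_11_1 lc_c_rc_11_1 lc_c_rc_11_1 lc_c_rc_11_1 lc_c_rc_11_1 lc_c_rc_13_2 lc_c_Cert_tree lc_c_rc_11_1 lc_c_rc_24_6 lc_c_rc_11_1 lc_c_rc_7_3 lc_c_Cert_tree lc_c_Cert_tree lc_c_Cert_tree lc_c_rc_2_3 lc_c_rc_7_3 lc_c_rc_13_2 lc_c_rc_11_1 lc_c_rc_26_10 lc_c_Cert_tree lc_c_rc_14_2 lc_c_rc_11_1 lc_c_rc_11_1 lc_c_rc_24_8 lc_c_Cert_tree lc_c_Cert_tree lc_c_rc_11_1 lc_c_rc_26_2 lc_c_rc_11_1) (@D3.rec (fun _ => (Cert rels S Gen.c)) lc_c_rc_11_1 lc_c_rc_7_3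 lc_c_rc_11_1 lc_c_rc_14_2 lc_c_rc_23_0 lc_c_rc_23_5 lc_c_rc_7_3 lc_c_rc_24_8 lc_c_Cert_tree lc_c_Cert_tree lc_c_rc_7_3 lc_c_rc_7_3 lc_c_rc_7_3 lc_c_rc_13_2 lc_c_rc_11_1 lc_c_rc_14_2 lc_c_rc_26_8 lc_c_rc_11_1 lc_c_rc_23_0 lc_c_rc_13_2 lc_c_rc_26_8 lc_c_rc_11_1 lc_c_rc_13_2 lc_c_rc_7_1 lc_c_rc_22_5 lc_c_rc_13_2 lc_c_rc_13_2 lc_c_rc_7_1 lc_c_rc_2_3 lc_c_rc_11_1 lc_c_rc_2_3 lc_c_rc_2_3 lc_c_rc_26_2 lc_c_rc_13_2 lc_c_rc_13_2 lc_c_Cert_tree lc_c_rc_14_2 lc_c_rc_11_1 lc_c_rc_13_2 lc_c_Cert_tree lc_c_Cert_tree lc_c_rc_14_0 lc_c_rc_11_1 lc_c_rc_2_3 lc_c_rc_7_5 lc_c_rc_13_2 lc_c_rc_14_0 lc_c_rc_13_2 lc_c_rc_13_2 lc_c_Cert_tree lc_c_rc_11_1 lc_c_rc_22_9 lc_c_rc_13_2 lc_c_rc_7_3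 lc_c_rc_13_2 lc_c_rc_22_3 lc_c_rc_13_2 lc_c_rc_11_1 lc_c_rc_13_2 lc_c_rc_11_1 lc_c_rc_11_1 lc_c_rc_22_3) (@D3.rec (fun _ => (Cert rels S Gen.c)) lc_c_rc_14_2 lc_c_rc_11_1 lc_c_rc_11_1 lc_c_Cert_tree lc_c_rc_14_2 lc_c_rc_13_2 lc_c_Cert_tree lc_c_rc_11_1 lc_c_rc_13_2 lc_c_rc_11_1 lc_c_rc_23_0 lc_c_rc_11_1 lc_c_rc_13_2 lc_c_rc_11_1 lc_c_Cert_tree lc_c_Cert_tree lc_c_Cert_tree lc_c_rc_11_1 lc_c_rc_13_2 lc_c_rc_24_6 lc_c_Cert_tree lc_c_rc_13_2 lc_c_rc_23_0 lc_c_rc_25_13 lc_c_rc_14_2 lc_c_rc_2_3 lc_c_rc_2_1 lc_c_rc_11_1 lc_c_rc_26_2 lc_c_rc_26_2 lc_c_Cert_tree lc_c_rc_13_2 lc_c_rc_11_1 lc_c_rc_11_1 lc_c_Cert_tree lc_c_rc_14_2 lc_c_Cert_tree lc_c_rc_11_1 lc_c_Cert_tree lc_c_rc_26_8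 lc_c_rc_11_1 lc_c_Cert_tree lc_c_rc_13_2 lc_c_rc_11_1 lc_c_rc_26_4 lc_c_rc_11_1 lc_c_rc_23_0 lc_c_rc_11_1 lc_c_rc_7_3 lc_c_rc_22_7 lc_c_rc_2_3 lc_c_rc_7_5 lc_c_rc_14_2 lc_c_Cert_tree lc_c_rc_13_2 lc_c_Cert_tree lc_c_rc_11_1 lc_c_Cert_tree lc_c_rc_13_2 lc_c_Cert_tree lc_c_Cert_tree lc_c_rc_11_1) (@D3.rec (fun _ => (Cert rels S Gen.c)) lc_c_rc_14_2 lc_c_rc_11_1 lc_c_Cert_tree lc_c_Cert_tree lc_c_rc_11_1 lc_c_Cert_tree lc_c_rc_11_1 lc_c_rc_13_2 lc_c_Cert_tree lc_c_rc_11_1 lc_c_rc_13_2 lc_c_rc_24_2 lc_c_rc_11_1 lc_c_rc_13_2 lc_c_rc_23_0 lc_c_rc_11_1 lc_c_rc_7_3 lc_c_rc_13_2 lc_c_rc_11_1 lc_c_rc_13_2 lc_c_rc_2_3 lc_c_rc_7_1 lc_c_rc_13_2 lc_c_rc_26_4 lc_c_rc_13_2 lc_c_Cert_tree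 lc_c_Cert_tree lc_c_rc_14_2 lc_c_rc_26_2 lc_c_rc_23_5 lc_c_Cert_tree lc_c_rc_11_1 lc_c_rc_24_4 lc_c_rc_11_1 lc_c_rc_11_1 lc_c_rc_11_1 lc_c_rc_7_1 lc_c_rc_12_14 lc_c_rc_13_2 lc_c_Cert_tree lc_c_rc_24_8 lc_c_rc_13_2 lc_c_rc_11_1 lc_c_rc_22_5 lc_c_rc_7_3 lc_c_rc_11_1 lc_c_rc_11_1 lc_c_Cert_tree lc_c_rc_11_1 lc_c_rc_11_1 lc_c_Cert_tree lc_c_rc_13_2 lc_c_rc_11_1 lc_c_Cert_tree lc_c_rc_11_1 lc_c_rc_13_2 lc_c_rc_24_4 lc_c_rc_11_1 lc_c_rc_13_2 lc_c_rc_11_1 lc_c_rc_11_1 lc_c_rc_7_3) (@D3.rec (fun _ => (Cert rels S Gen.c)) lc_c_rc_12_2 lc_c_Cert_tree lc_c_Cert_tree lc_c_rc_2_3 lc_c_Cert_tree lc_c_rc_7_3 lc_c_Cert_tree lc_c_Cert_tree lc_c_Cert_tree lc_c_Cert_tree lc_c_rc_11_1 lc_c_rc_11_1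 lc_c_rc_7_3 lc_c_Cert_tree lc_c_rc_25_5 lc_c_rc_13_2 lc_c_rc_7_5 lc_c_Cert_tree lc_c_Cert_tree lc_c_rc_26_4 lc_c_rc_11_1 lc_c_Cert_tree lc_c_rc_2_3 lc_c_rc_11_1 lc_c_Cert_tree lc_c_Cert_tree lc_c_Cert_tree lc_c_rc_11_1 lc_c_rc_14_2 lc_c_rc_7_3 lc_c_rc_13_2 lc_c_rc_2_3 lc_c_rc_11_1 lc_c_rc_13_2 lc_c_rc_11_1 lc_c_rc_13_2 lc_c_Cert_tree lc_c_rc_14_2 lc_c_rc_24_8 lc_c_rc_24_8 lc_c_rc_11_1 lc_c_rc_14_2 lc_c_rc_26_4 lc_c_rc_11_1 lc_c_rc_23_0 lc_c_rc_26_4 lc_c_rc_11_1 lc_c_rc_11_1 lc_c_Cert_tree lc_c_rc_11_1 lc_c_Cert_tree lc_c_rc_11_1 lc_c_rc_24_8 lc_c_rc_24_8 lc_c_rc_13_2 lc_c_rc_11_1 lc_c_rc_13_2 lc_c_rc_23_0 lc_c_rc_11_1 lc_c_Cert_tree lc_c_rc_14_2 lc_c_rc_24_8) (@D3.rec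 (fun _ => (Cert rels S Gen.c)) lc_c_rc_24_8 lc_c_rc_11_1 lc_c_rc_14_2 lc_c_rc_7_3 lc_c_Cert_tree lc_c_rc_13_2 lc_c_rc_11_1 lc_c_Cert_tree lc_c_rc_11_1 lc_c_rc_26_4 lc_c_rc_22_7 lc_c_rc_13_2 lc_c_rc_13_2 lc_c_rc_13_2 lc_c_rc_14_2 lc_c_Cert_tree lc_c_rc_13_2 lc_c_rc_11_1 lc_c_rc_13_2 lc_c_rc_11_1 lc_c_Cert_tree lc_c_rc_14_2 lc_c_rc_11_1 lc_c_rc_23_5 lc_c_Cert_tree lc_c_rc_14_2 lc_c_rc_24_8 lc_c_rc_11_1 lc_c_rc_22_5 lc_c_rc_13_2 lc_c_rc_11_1 lc_c_Cert_tree lc_c_rc_14_2 lc_c_rc_11_1 lc_c_rc_13_2 lc_c_rc_23_0 lc_c_Cert_tree lc_c_rc_11_1 lc_c_rc_13_2 lc_c_rc_23_0 lc_c_rc_22_7 lc_c_rc_13_2 lc_c_Cert_tree lc_c_Cert_tree lc_c_rc_13_2 lc_c_rc_14_2 lc_c_rc_22_9 lc_c_rc_13_2 lc_c_rc_13_2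 lc_c_rc_14_2 lc_c_Cert_tree lc_c_rc_13_2 lc_c_Cert_tree lc_c_Cert_tree lc_c_rc_23_5 lc_c_Cert_tree lc_c_Cert_tree lc_c_rc_11_1 lc_c_rc_14_2 lc_c_rc_13_2 lc_c_rc_2_3 lc_c_rc_26_2) (@D3.rec (fun _ => (Cert rels S Gen.c)) lc_c_rc_7_5 lc_c_rc_13_2 lc_c_Cert_tree lc_c_rc_13_2 lc_c_rc_26_4 lc_c_rc_13_2 lc_c_rc_11_1 lc_c_rc_13_2 lc_c_rc_13_2 lc_c_rc_7_5 lc_c_rc_7_3 lc_c_rc_13_2 lc_c_Cert_tree lc_c_rc_14_2 lc_c_rc_7_3 lc_c_Cert_tree lc_c_Cert_tree lc_c_rc_26_2 lc_c_rc_26_2 lc_c_rc_25_5 lc_c_rc_13_2 lc_c_rc_22_5 lc_c_rc_26_10 lc_c_rc_26_8 lc_c_rc_24_8 lc_c_rc_2_1 lc_c_rc_11_1 lc_c_Cert_tree lc_c_rc_13_2 lc_c_rc_26_2 lc_c_rc_11_1 lc_c_rc_13_0 lc_c_rc_24_2 lc_c_rc_11_1 lc_c_rc_7_3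 lc_c_rc_13_2 lc_c_rc_11_1 lc_c_rc_26_4 lc_c_rc_11_1 lc_c_rc_26_10 lc_c_rc_11_1 lc_c_rc_11_1 lc_c_rc_13_2 lc_c_Cert_tree lc_c_rc_14_2 lc_c_rc_25_5 lc_c_rc_24_6 lc_c_rc_13_2 lc_c_Cert_tree lc_c_Cert_tree lc_c_rc_2_3 lc_c_rc_23_5 lc_c_rc_26_10 lc_c_rc_11_1 lc_c_rc_14_2 lc_c_Cert_tree lc_c_rc_13_2 lc_c_rc_11_1 lc_c_rc_13_2 lc_c_rc_11_1 lc_c_rc_13_2 lc_c_rc_24_8) (@D3.rec (fun _ => (Cert rels S Gen.c)) lc_c_rc_23_0 lc_c_Cert_tree lc_c_rc_14_2 lc_c_rc_22_9 lc_c_rc_13_2 lc_c_Cert_tree lc_c_Cert_tree lc_c_rc_2_3 lc_c_rc_11_1 lc_c_rc_7_5 lc_c_rc_26_2 lc_c_rc_11_1 lc_c_rc_26_8 lc_c_rc_25_17 lc_c_rc_13_2 lc_c_rc_11_1 lc_c_rc_22_5 lc_c_rc_13_2 lc_c_rc_23_0 lc_c_rc_11_1 lc_c_rc_14_2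 lc_c_rc_26_2 lc_c_rc_26_4 lc_c_rc_13_2 lc_c_Cert_tree lc_c_rc_11_1 lc_c_Cert_tree lc_c_rc_14_2 lc_c_rc_13_2 lc_c_rc_11_1 lc_c_rc_13_2 lc_c_Cert_tree lc_c_rc_14_2 lc_c_rc_26_2 lc_c_rc_11_1 lc_c_rc_13_2 lc_c_rc_11_1 lc_c_rc_13_2 lc_c_rc_22_9 lc_c_rc_11_1 lc_c_rc_7_3 lc_c_rc_22_9 lc_c_rc_14_2 lc_c_rc_13_2 lc_c_rc_11_1 lc_c_rc_13_2 lc_c_rc_24_4 lc_c_rc_14_2 lc_c_rc_11_1 lc_c_rc_13_2 lc_c_rc_11_1 lc_c_rc_26_10 lc_c_rc_24_8 lc_c_rc_2_3 lc_c_rc_26_4 lc_c_rc_14_2 lc_c_rc_13_2 lc_c_rc_13_2 lc_c_rc_23_0 lc_c_rc_14_2 lc_c_rc_11_1 lc_c_Cert_tree) (@D3.rec (fun _ => (Cert rels S Gen.c)) lc_c_Cert_tree lc_c_rc_13_2 lc_c_rc_25_1 lc_c_rc_24_8 lc_c_rc_11_1 lc_c_Cert_tree lc_c_Cert_tree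 lc_c_rc_23_5 lc_c_rc_22_3 lc_c_rc_2_3 lc_c_rc_24_4 lc_c_rc_13_2 lc_c_rc_26_10 lc_c_rc_23_0 lc_c_rc_7_3 lc_c_rc_13_2 lc_c_rc_13_2 lc_c_rc_13_2 lc_c_rc_26_4 lc_c_rc_11_1 lc_c_rc_7_3 lc_c_rc_13_2 lc_c_Cert_tree lc_c_rc_14_2 lc_c_rc_11_1 lc_c_rc_13_2 lc_c_rc_11_1 lc_c_rc_11_1 lc_c_Cert_tree lc_c_rc_14_2 lc_c_Cert_tree lc_c_rc_11_1 lc_c_Cert_tree lc_c_rc_11_1 lc_c_Cert_tree lc_c_rc_13_2 lc_c_rc_11_1 lc_c_rc_11_1 lc_c_rc_11_1 lc_c_rc_13_2 lc_c_rc_11_1 lc_c_rc_2_3 lc_c_rc_11_1 lc_c_rc_11_1 lc_c_rc_7_3 lc_c_rc_22_5 lc_c_rc_11_1 lc_c_Cert_tree lc_c_rc_11_1 lc_c_rc_11_1 lc_c_Cert_tree lc_c_rc_13_2 lc_c_rc_11_1 lc_c_rc_11_1 lc_c_Cert_tree lc_c_rc_11_1 lc_c_rc_13_2 lc_c_rc_11_1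 lc_c_rc_7_3 lc_c_rc_12_2 lc_c_rc_14_2 lc_c_Cert_tree) (@D3.rec (fun _ => (Cert rels S Gen.c)) lc_c_Cert_tree lc_c_rc_2_3 lc_c_rc_23_5 lc_c_rc_11_1 lc_c_rc_11_1 lc_c_rc_13_2 lc_c_Cert_tree lc_c_rc_11_1 lc_c_rc_7_3 lc_c_rc_12_2 lc_c_rc_13_2 lc_c_Cert_tree lc_c_rc_11_1 lc_c_rc_7_3 lc_c_rc_22_5 lc_c_rc_13_2 lc_c_rc_24_8 lc_c_Cert_tree lc_c_rc_24_2 lc_c_rc_23_5 lc_c_rc_11_1 lc_c_rc_7_3 lc_c_rc_22_5 lc_c_rc_7_3 lc_c_rc_26_2 lc_c_rc_12_0 lc_c_rc_11_1 lc_c_rc_13_2 lc_c_rc_11_1 lc_c_Cert_tree lc_c_rc_14_2 lc_c_rc_26_4 lc_c_rc_11_1 lc_c_Cert_tree lc_c_rc_26_8 lc_c_rc_11_1 lc_c_Cert_tree lc_c_rc_13_2 lc_c_Cert_tree lc_c_rc_11_1 lc_c_rc_26_8 lc_c_rc_11_1 lc_c_rc_13_2 lc_c_rc_11_1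 lc_c_rc_13_2 lc_c_rc_11_1 lc_c_rc_22_9 lc_c_rc_7_3 lc_c_Cert_tree lc_c_rc_11_1 lc_c_rc_11_1 lc_c_rc_13_2 lc_c_rc_11_1 lc_c_rc_7_3 lc_c_rc_12_2 lc_c_rc_14_2 lc_c_Cert_tree lc_c_Cert_tree lc_c_rc_2_3 lc_c_rc_11_1 lc_c_Cert_tree lc_c_rc_11_1) (@D3.rec (fun _ => (Cert rels S Gen.c)) lc_c_rc_7_3 lc_c_rc_22_3 lc_c_rc_2_3 lc_c_rc_13_2 lc_c_rc_26_8 lc_c_rc_14_0 lc_c_rc_24_2 lc_c_rc_11_1 lc_c_rc_13_2 lc_c_Cert_tree lc_c_rc_11_1 lc_c_Cert_tree lc_c_rc_14_2 lc_c_rc_11_1 lc_c_rc_24_8 lc_c_rc_11_1 lc_c_rc_11_1 lc_c_rc_26_2 lc_c_rc_7_3 lc_c_rc_11_1 lc_c_rc_2_3 lc_c_rc_23_5 lc_c_rc_14_2 lc_c_rc_11_1 lc_c_rc_26_10 lc_c_rc_26_10 lc_c_rc_14_2 lc_c_rc_14_0 lc_c_rc_13_2 lc_c_rc_13_2 lc_c_rc_2_3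 lc_c_rc_13_0 lc_c_rc_14_2 lc_c_rc_11_1 lc_c_rc_24_8 lc_c_rc_24_2 lc_c_rc_11_1 lc_c_rc_7_3 lc_c_rc_13_2 lc_c_rc_11_1 lc_c_rc_26_4 lc_c_rc_22_7 lc_c_rc_14_2 lc_c_rc_26_8 lc_c_rc_11_1 lc_c_rc_26_4 lc_c_rc_26_4 lc_c_rc_11_1 lc_c_rc_11_1 lc_c_rc_22_3 lc_c_rc_14_2 lc_c_rc_13_2 lc_c_rc_22_3 lc_c_rc_13_2 lc_c_rc_23_0 lc_c_rc_23_0 lc_c_rc_13_2 lc_c_rc_7_1 lc_c_rc_23_0 lc_c_rc_13_2 lc_c_rc_14_2 lc_c_rc_11_1) (@D3.rec (fun _ => (Cert rels S Gen.c)) lc_c_rc_13_2 lc_c_rc_13_2 lc_c_rc_26_8 lc_c_rc_22_9 lc_c_rc_14_2 lc_c_rc_11_1 lc_c_rc_13_2 lc_c_rc_25_5 lc_c_rc_26_4 lc_c_Cert_tree lc_c_rc_11_1 lc_c_Cert_tree lc_c_rc_7_3 lc_c_rc_13_2 lc_c_rc_13_2 lc_c_rc_11_1 lc_c_rc_26_4 lc_c_rc_13_2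 lc_c_rc_13_2 lc_c_rc_22_7 lc_c_rc_11_1 lc_c_rc_2_3 lc_c_rc_13_2 lc_c_rc_13_2 lc_c_Cert_tree lc_c_Cert_tree lc_c_rc_23_5 lc_c_rc_14_2 lc_c_Cert_tree lc_c_rc_11_1 lc_c_rc_13_2 lc_c_Cert_tree lc_c_rc_11_1 lc_c_rc_2_3 lc_c_rc_13_2 lc_c_rc_24_4 lc_c_rc_13_2 lc_c_rc_2_1 lc_c_rc_11_1 lc_c_Cert_tree lc_c_Cert_tree lc_c_rc_14_2 lc_c_rc_24_4 lc_c_rc_13_2 lc_c_rc_14_0 lc_c_rc_26_8 lc_c_rc_11_1 lc_c_Cert_tree lc_c_rc_7_1 lc_c_rc_24_4 lc_c_Cert_tree lc_c_rc_22_3 lc_c_rc_23_0 lc_c_Cert_tree lc_c_rc_22_3 lc_c_rc_11_1 lc_c_rc_13_2 lc_c_rc_11_1 lc_c_rc_26_8 lc_c_rc_11_1 lc_c_rc_13_2 lc_c_rc_24_2) (@D3.rec (fun _ => (Cert rels S Gen.c)) lc_c_rc_24_2 lc_c_Cert_tree lc_c_Cert_tree lc_c_rc_2_3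 lc_c_rc_7_3 lc_c_rc_22_5 lc_c_Cert_tree lc_c_rc_7_5 lc_c_rc_11_1 lc_c_rc_13_2 lc_c_Cert_tree lc_c_rc_26_4 lc_c_rc_11_1 lc_c_Cert_tree lc_c_Cert_tree lc_c_Cert_tree lc_c_rc_11_1 lc_c_rc_14_2 lc_c_rc_22_3 lc_c_rc_7_3 lc_c_rc_13_2 lc_c_rc_14_2 lc_c_rc_11_1 lc_c_Cert_tree lc_c_rc_11_1 lc_c_Cert_tree lc_c_rc_14_2 lc_c_rc_7_1 lc_c_Cert_tree lc_c_rc_13_2 lc_c_Cert_tree lc_c_Cert_tree lc_c_rc_11_1 lc_c_rc_26_8 lc_c_Cert_tree lc_c_rc_26_10 lc_c_Cert_tree lc_c_rc_14_2 lc_c_rc_26_8 lc_c_rc_13_2 lc_c_rc_23_0 lc_c_rc_26_10 lc_c_rc_11_1 lc_c_rc_11_1 lc_c_rc_2_3 lc_c_rc_23_0 lc_c_rc_7_3 lc_c_rc_22_3 lc_c_rc_13_2 lc_c_rc_11_1 lc_c_Cert_tree lc_c_rc_11_1 lc_c_Cert_tree lc_c_rc_24_8 lc_c_rc_11_1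 lc_c_rc_7_1 lc_c_rc_11_1 lc_c_Cert_tree lc_c_Cert_tree lc_c_rc_11_1 lc_c_rc_13_2 lc_c_Cert_tree) (@D3.rec (fun _ => (Cert rels S Gen.c)) lc_c_Cert_tree lc_c_Cert_tree lc_c_rc_2_3 lc_c_rc_13_2 lc_c_rc_11_1 lc_c_rc_2_1 lc_c_rc_13_0 lc_c_rc_7_3 lc_c_rc_22_9 lc_c_rc_13_2 lc_c_rc_11_1 lc_c_Cert_tree lc_c_rc_11_1 lc_c_rc_7_1 lc_c_rc_23_0 lc_c_rc_11_1 lc_c_rc_11_1 lc_c_rc_7_1 lc_c_rc_23_5 lc_c_Cert_tree lc_c_rc_22_3 lc_c_Cert_tree lc_c_rc_22_9 lc_c_Cert_tree lc_c_rc_11_1 lc_c_rc_23_5 lc_c_Cert_tree lc_c_rc_22_3 lc_c_rc_22_9 lc_c_rc_11_1 lc_c_rc_13_2 lc_c_rc_22_3 lc_c_rc_11_1 lc_c_rc_11_1 lc_c_rc_13_2 lc_c_rc_24_6 lc_c_rc_11_1 lc_c_rc_7_3 lc_c_Cert_tree lc_c_Cert_tree lc_c_Cert_tree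 lc_c_rc_2_3 lc_c_rc_7_3 lc_c_rc_2_3 lc_c_rc_11_1 lc_c_rc_11_1 lc_c_rc_24_4 lc_c_rc_11_1 lc_c_rc_13_2 lc_c_rc_11_1 lc_c_rc_13_2 lc_c_rc_24_4 lc_c_rc_11_1 lc_c_rc_7_3 lc_c_rc_12_4 lc_c_rc_13_2 lc_c_Cert_tree lc_c_Cert_tree lc_c_rc_14_2 lc_c_Cert_tree lc_c_Cert_tree lc_c_rc_2_3) (@D3.rec (fun _ => (Cert rels S Gen.c)) lc_c_rc_13_2 lc_c_Cert_tree lc_c_rc_13_0 lc_c_rc_22_3 lc_c_rc_14_2 lc_c_rc_11_1 lc_c_Cert_tree lc_c_rc_11_1 lc_c_rc_11_1 lc_c_rc_13_2 lc_c_rc_11_1 lc_c_rc_14_2 lc_c_rc_7_1 lc_c_rc_22_7 lc_c_rc_13_2 lc_c_Cert_tree lc_c_Cert_tree lc_c_rc_14_2 lc_c_Cert_tree lc_c_rc_7_5 lc_c_rc_2_3 lc_c_rc_13_2 lc_c_rc_13_2 lc_c_rc_14_2 lc_c_rc_13_2 lc_c_rc_2_3 lc_c_rc_26_4 lc_c_Cert_tree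 lc_c_rc_11_1 lc_c_Cert_tree lc_c_rc_13_2 lc_c_rc_24_4 lc_c_Cert_tree lc_c_rc_11_1 lc_c_Cert_tree lc_c_rc_13_2 lc_c_Cert_tree lc_c_Cert_tree lc_c_Cert_tree lc_c_rc_11_1 lc_c_rc_13_2 lc_c_rc_13_0 lc_c_rc_13_0 lc_c_rc_14_2 lc_c_rc_11_1 lc_c_rc_11_1 lc_c_rc_13_2 lc_c_rc_26_4 lc_c_rc_11_1 lc_c_rc_26_8 lc_c_rc_11_1 lc_c_rc_23_0 lc_c_rc_26_2 lc_c_rc_11_1 lc_c_rc_11_1 lc_c_rc_12_0 lc_c_rc_7_3 lc_c_Cert_tree lc_c_rc_13_2 lc_c_Cert_tree lc_c_Cert_tree lc_c_rc_2_3) (@D3.rec (fun _ => (Cert rels S Gen.c)) lc_c_rc_13_2 lc_c_rc_11_1 lc_c_rc_13_2 lc_c_rc_11_1 lc_c_rc_13_2 lc_c_rc_11_1 lc_c_rc_7_3 lc_c_rc_12_4 lc_c_rc_13_2 lc_c_Cert_tree lc_c_Cert_tree lc_c_rc_14_2 lc_c_Cert_tree lc_c_Cert_tree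 lc_c_rc_2_3 lc_c_rc_13_2 lc_c_rc_14_2 lc_c_Cert_tree lc_c_Cert_tree lc_c_Cert_tree lc_c_rc_11_1 lc_c_rc_23_0 lc_c_rc_14_2 lc_c_rc_14_2 lc_c_rc_26_4 lc_c_rc_13_2 lc_c_rc_13_2 lc_c_rc_11_1 lc_c_rc_13_2 lc_c_Cert_tree lc_c_rc_11_1 lc_c_Cert_tree lc_c_rc_13_2 lc_c_rc_11_1 lc_c_rc_23_0 lc_c_rc_26_2 lc_c_rc_11_1 lc_c_rc_11_1 lc_c_rc_13_2 lc_c_rc_26_10 lc_c_rc_13_2 lc_c_Cert_tree lc_c_rc_23_0 lc_c_rc_13_2 lc_c_rc_14_2 lc_c_rc_23_0 lc_c_rc_13_2 lc_c_rc_24_4 lc_c_Cert_tree lc_c_rc_13_2 lc_c_Cert_tree lc_c_Cert_tree lc_c_rc_23_5 lc_c_Cert_tree lc_c_rc_11_1 lc_c_rc_14_2 lc_c_rc_11_1 lc_c_rc_13_2 lc_c_rc_11_1 lc_c_rc_13_2 lc_c_rc_24_8 lc_c_rc_11_1) (@D3.rec (fun _ => (Cert rels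 S Gen.c)) lc_c_rc_13_2 lc_c_rc_11_1 lc_c_rc_13_2 lc_c_rc_24_8 lc_c_rc_23_0 lc_c_rc_11_1 lc_c_rc_13_2 lc_c_rc_24_4 lc_c_rc_23_0 lc_c_rc_13_2 lc_c_Cert_tree lc_c_rc_14_2 lc_c_rc_11_1 lc_c_rc_13_2 lc_c_rc_11_1 lc_c_rc_7_3 lc_c_rc_11_1 lc_c_rc_13_2 lc_c_Cert_tree lc_c_Cert_tree lc_c_rc_14_2 lc_c_rc_11_1 lc_c_rc_14_2 lc_c_rc_26_2 lc_c_Cert_tree lc_c_Cert_tree lc_c_rc_2_3 lc_c_rc_26_10 lc_c_rc_26_10 lc_c_rc_11_1 lc_c_rc_2_3 lc_c_rc_2_3 lc_c_rc_14_2 lc_c_rc_24_8 lc_c_rc_11_1 lc_c_rc_13_2 lc_c_rc_23_0 lc_c_rc_14_2 lc_c_rc_13_2 lc_c_rc_2_1 lc_c_rc_14_2 lc_c_rc_26_10 lc_c_rc_2_1 lc_c_rc_14_2 lc_c_rc_11_1 lc_c_rc_11_1 lc_c_rc_11_1 lc_c_rc_26_8 lc_c_rc_7_5 lc_c_rc_7_5 lc_c_rc_2_3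 lc_c_rc_2_3 lc_c_rc_23_0 lc_c_rc_12_12 lc_c_rc_24_6 lc_c_rc_11_1 lc_c_rc_2_3 lc_c_Cert_tree lc_c_Cert_tree lc_c_rc_11_1 lc_c_rc_13_2 lc_c_Cert_tree) (@D3.rec (fun _ => (Cert rels S Gen.c)) lc_c_rc_13_2 lc_c_rc_13_2 lc_c_Cert_tree lc_c_rc_13_0 lc_c_rc_14_2 lc_c_Cert_tree lc_c_rc_11_1 lc_c_rc_24_4 lc_c_rc_11_1 lc_c_rc_7_3 lc_c_rc_11_1 lc_c_Cert_tree lc_c_rc_11_1 lc_c_rc_11_1 lc_c_rc_7_3 lc_c_rc_11_1 lc_c_rc_22_7 lc_c_rc_7_3 lc_c_rc_26_2 lc_c_rc_11_1 lc_c_rc_7_1 lc_c_Cert_tree lc_c_Cert_tree lc_c_Cert_tree lc_c_rc_2_3 lc_c_rc_13_2 lc_c_rc_11_1 lc_c_Cert_tree lc_c_rc_7_1 lc_c_Cert_tree lc_c_Cert_tree lc_c_Cert_tree lc_c_rc_11_1 lc_c_Cert_tree lc_c_rc_2_3 lc_c_Cert_tree lc_c_rc_23_5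 lc_c_rc_11_1 lc_c_rc_11_1 lc_c_rc_2_3 lc_c_rc_23_0 lc_c_rc_7_3 lc_c_rc_22_9 lc_c_rc_11_1 lc_c_Cert_tree lc_c_rc_11_1 lc_c_Cert_tree lc_c_rc_26_8 lc_c_rc_7_1 lc_c_Cert_tree lc_c_Cert_tree lc_c_Cert_tree lc_c_rc_11_1 lc_c_rc_26_10 lc_c_rc_14_0 lc_c_rc_11_1 lc_c_rc_2_1 lc_c_Cert_tree lc_c_rc_7_3 lc_c_rc_11_1 lc_c_rc_24_4 lc_c_rc_11_1) (@D3.rec (fun _ => (Cert rels S Gen.c)) lc_c_rc_7_3 lc_c_rc_22_3 lc_c_rc_11_1 lc_c_Cert_tree lc_c_rc_11_1 lc_c_rc_23_0 lc_c_rc_13_2 lc_c_rc_7_1 lc_c_rc_13_2 lc_c_Cert_tree lc_c_rc_11_1 lc_c_rc_13_2 lc_c_rc_12_14 lc_c_rc_22_3 lc_c_rc_13_2 lc_c_Cert_tree lc_c_rc_13_2 lc_c_Cert_tree lc_c_rc_13_0 lc_c_rc_13_2 lc_c_Cert_tree lc_c_rc_11_1 lc_c_rc_2_3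 lc_c_Cert_tree lc_c_rc_7_3 lc_c_rc_24_2 lc_c_rc_24_2 lc_c_rc_22_3 lc_c_rc_11_1 lc_c_rc_11_1 lc_c_rc_13_2 lc_c_rc_11_1 lc_c_rc_26_2 lc_c_rc_24_2 lc_c_rc_11_1 lc_c_rc_13_2 lc_c_rc_24_6 lc_c_rc_11_1 lc_c_rc_7_3 lc_c_rc_12_12 lc_c_rc_13_2 lc_c_Cert_tree lc_c_Cert_tree lc_c_rc_14_2 lc_c_Cert_tree lc_c_Cert_tree lc_c_rc_2_3 lc_c_rc_13_2 lc_c_rc_12_2 lc_c_rc_14_2 lc_c_rc_11_1 lc_c_rc_11_1 lc_c_rc_2_1 lc_c_rc_11_1 lc_c_rc_13_2 lc_c_rc_11_1 lc_c_rc_11_1 lc_c_rc_7_3 lc_c_rc_22_5 lc_c_Cert_tree lc_c_rc_13_0 lc_c_rc_2_3) (@D3.rec (fun _ => (Cert rels S Gen.c)) lc_c_Cert_tree lc_c_rc_11_1 lc_c_rc_13_2 lc_c_Cert_tree lc_c_rc_11_1 lc_c_rc_26_4 lc_c_rc_11_1 lc_c_rc_7_3 lc_c_rc_22_7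 lc_c_rc_11_1 lc_c_rc_11_1 lc_c_Cert_tree lc_c_rc_25_5 lc_c_rc_11_1 lc_c_rc_26_4 lc_c_rc_11_1 lc_c_rc_13_2 lc_c_Cert_tree lc_c_rc_26_2 lc_c_rc_26_10 lc_c_rc_7_3 lc_c_rc_13_2 lc_c_rc_22_5 lc_c_rc_24_2 lc_c_rc_13_2 lc_c_rc_11_1 lc_c_rc_2_3 lc_c_rc_14_2 lc_c_rc_11_1 lc_c_rc_13_2 lc_c_rc_11_1 lc_c_rc_13_2 lc_c_rc_7_1 lc_c_rc_13_2 lc_c_rc_26_10 lc_c_rc_26_10 lc_c_rc_22_5 lc_c_rc_26_8 lc_c_rc_25_5 lc_c_rc_26_8 lc_c_rc_26_4 lc_c_rc_13_2 lc_c_rc_13_2 lc_c_rc_11_1 lc_c_rc_11_1 lc_c_rc_2_3 lc_c_rc_14_2 lc_c_rc_11_1 lc_c_rc_11_1 lc_c_rc_13_2 lc_c_rc_26_4 lc_c_rc_11_1 lc_c_rc_22_7 lc_c_rc_11_1 lc_c_rc_2_3 lc_c_rc_26_8 lc_c_rc_13_2 lc_c_rc_13_0 lc_c_rc_14_2 lc_c_rc_11_1 lc_c_rc_22_9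 lc_c_rc_13_2) (@D3.rec (fun _ => (Cert rels S Gen.c)) lc_c_rc_13_2 lc_c_rc_26_2 lc_c_rc_14_2 lc_c_Cert_tree lc_c_rc_23_5 lc_c_rc_12_0 lc_c_rc_2_1 lc_c_rc_11_1 lc_c_rc_26_10 lc_c_rc_13_2 lc_c_rc_24_4 lc_c_rc_22_7 lc_c_rc_13_2 lc_c_Cert_tree lc_c_rc_11_1 lc_c_rc_14_2 lc_c_rc_7_3 lc_c_rc_13_2 lc_c_Cert_tree lc_c_rc_23_0 lc_c_rc_14_2 lc_c_rc_24_4 lc_c_rc_24_6 lc_c_rc_13_2 lc_c_rc_24_6 lc_c_rc_11_1 lc_c_Cert_tree lc_c_rc_14_2 lc_c_rc_26_4 lc_c_rc_11_1 lc_c_rc_13_2 lc_c_rc_26_8 lc_c_rc_11_1 lc_c_rc_7_3 lc_c_rc_7_3 lc_c_rc_13_2 lc_c_Cert_tree lc_c_rc_11_1 lc_c_rc_14_2 lc_c_rc_13_2 lc_c_rc_24_6 lc_c_rc_11_1 lc_c_Cert_tree lc_c_rc_14_2 lc_c_rc_11_1 lc_c_Cert_tree lc_c_rc_26_8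 lc_c_rc_11_1 lc_c_Cert_tree lc_c_rc_13_2 lc_c_rc_11_1 lc_c_rc_11_1 lc_c_Cert_tree lc_c_rc_23_5 lc_c_rc_7_1 lc_c_Cert_tree lc_c_rc_13_2 lc_c_rc_22_5 lc_c_rc_23_0 lc_c_rc_11_1 lc_c_rc_2_3 lc_c_rc_23_5) (@D3.rec (fun _ => (Cert rels S Gen.c)) lc_c_rc_7_5 lc_c_rc_14_2 lc_c_Cert_tree lc_c_rc_2_3 lc_c_rc_13_2 lc_c_rc_2_3 lc_c_rc_7_3 lc_c_rc_11_1 lc_c_rc_14_2 lc_c_rc_14_2 lc_c_rc_7_1 lc_c_Cert_tree lc_c_rc_13_2 lc_c_rc_24_2 lc_c_rc_26_2 lc_c_rc_11_1 lc_c_rc_23_5 lc_c_rc_2_3 lc_c_rc_2_3 lc_c_rc_14_2 lc_c_Cert_tree lc_c_rc_2_3 lc_c_Cert_tree lc_c_rc_24_2 lc_c_rc_24_6 lc_c_rc_14_2 lc_c_rc_11_1 lc_c_rc_14_2 lc_c_rc_26_2 lc_c_rc_23_5 lc_c_rc_26_10 lc_c_rc_14_2 lc_c_rc_2_3 lc_c_rc_13_2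 lc_c_rc_12_0 lc_c_rc_13_2 lc_c_rc_11_1 lc_c_rc_11_1 lc_c_rc_2_3 lc_c_rc_26_2 lc_c_rc_13_2 lc_c_rc_13_2 lc_c_rc_26_4 lc_c_rc_26_8 lc_c_rc_14_2 lc_c_rc_14_0 lc_c_rc_23_5 lc_c_rc_13_2 lc_c_rc_23_0 lc_c_rc_13_2 lc_c_rc_22_5 lc_c_rc_13_2 lc_c_rc_22_9 lc_c_rc_2_1 lc_c_rc_13_2 lc_c_Cert_tree lc_c_rc_14_2 lc_c_rc_11_1 lc_c_Cert_tree lc_c_Cert_tree lc_c_rc_11_1 lc_c_rc_14_2) (@D3.rec (fun _ => (Cert rels S Gen.c)) lc_c_rc_11_1 lc_c_rc_2_3 lc_c_rc_11_1 lc_c_rc_22_5 lc_c_rc_22_7 lc_c_rc_7_3 lc_c_rc_11_1 lc_c_rc_13_2 lc_c_rc_25_5 lc_c_rc_11_1 lc_c_rc_24_2 lc_c_rc_11_1 lc_c_rc_13_2 lc_c_rc_24_6 lc_c_Cert_tree lc_c_rc_11_1 lc_c_rc_7_3 lc_c_rc_23_0 lc_c_rc_11_1 lc_c_rc_7_3 lc_c_rc_7_5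 lc_c_rc_11_1 lc_c_rc_23_5 lc_c_rc_23_5 lc_c_rc_13_2 lc_c_rc_22_7 lc_c_rc_23_0 lc_c_rc_13_2 lc_c_rc_2_1 lc_c_rc_26_8 lc_c_rc_7_1 lc_c_rc_13_2 lc_c_rc_26_2 lc_c_rc_13_0 lc_c_rc_7_3 lc_c_rc_2_3 lc_c_rc_11_1 lc_c_rc_14_2 lc_c_rc_11_1 lc_c_rc_14_2 lc_c_rc_11_1 lc_c_Cert_tree lc_c_rc_13_2 lc_c_rc_11_1 lc_c_rc_14_2 lc_c_Cert_tree lc_c_Cert_tree lc_c_rc_11_1 lc_c_Cert_tree lc_c_rc_13_2 lc_c_rc_13_2 lc_c_rc_23_0 lc_c_rc_22_5 lc_c_rc_14_2 lc_c_rc_11_1 lc_c_rc_11_1 lc_c_rc_13_2 lc_c_rc_13_2 lc_c_Cert_tree lc_c_rc_14_2 lc_c_Cert_tree lc_c_rc_13_2) (@D3.rec (fun _ => (Cert rels S Gen.c)) lc_c_rc_11_1 lc_c_Cert_tree lc_c_Cert_tree lc_c_Cert_tree lc_c_rc_14_2 lc_c_rc_11_1 lc_c_Cert_tree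 lc_c_rc_23_5 lc_c_Cert_tree lc_c_rc_14_2 lc_c_Cert_tree lc_c_Cert_tree lc_c_rc_11_1 lc_c_rc_14_2 lc_c_rc_26_4 lc_c_rc_13_2 lc_c_rc_11_1 lc_c_Cert_tree lc_c_rc_13_2 lc_c_rc_23_0 lc_c_rc_11_1 lc_c_rc_13_2 lc_c_Cert_tree lc_c_rc_23_0 lc_c_rc_7_3 lc_c_rc_2_3 lc_c_rc_13_2 lc_c_rc_11_1 lc_c_Cert_tree lc_c_rc_14_2 lc_c_Cert_tree lc_c_rc_13_2 lc_c_rc_11_1 lc_c_Cert_tree lc_c_rc_14_2 lc_c_rc_7_3 lc_c_Cert_tree lc_c_rc_13_2 lc_c_rc_11_1 lc_c_Cert_tree lc_c_rc_7_3 lc_c_rc_11_1 lc_c_rc_24_8 lc_c_rc_14_2 lc_c_rc_7_5 lc_c_rc_13_2 lc_c_rc_11_1 lc_c_Cert_tree lc_c_rc_7_3 lc_c_rc_24_4 lc_c_rc_13_2 lc_c_Cert_tree lc_c_rc_11_1 lc_c_rc_7_3 lc_c_rc_25_1 lc_c_rc_26_2 lc_c_rc_13_2 lc_c_rc_13_2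 lc_c_rc_11_1 lc_c_Cert_tree lc_c_rc_11_1 lc_c_rc_11_1) (@D3.rec (fun _ => (Cert rels S Gen.c)) lc_c_rc_26_4 lc_c_rc_11_1 lc_c_rc_22_3 lc_c_rc_11_1 lc_c_rc_11_1 lc_c_rc_7_3 lc_c_rc_22_3 lc_c_Cert_tree lc_c_Cert_tree lc_c_rc_11_1 lc_c_rc_13_2 lc_c_rc_11_1 lc_c_rc_11_1 lc_c_rc_26_10 lc_c_rc_13_2 lc_c_rc_14_2 lc_c_rc_11_1 lc_c_Cert_tree lc_c_rc_11_1 lc_c_rc_7_1 lc_c_rc_11_1 lc_c_rc_13_2 lc_c_rc_25_5 lc_c_rc_7_5 lc_c_rc_13_2 lc_c_rc_13_2 lc_c_rc_11_1 lc_c_rc_11_1 lc_c_Cert_tree lc_c_rc_13_2 lc_c_rc_2_3 lc_c_rc_14_2 lc_c_Cert_tree lc_c_rc_13_2 lc_c_Cert_tree lc_c_rc_7_5 lc_c_rc_13_0 lc_c_rc_12_4 lc_c_rc_13_2 lc_c_Cert_tree lc_c_Cert_tree lc_c_rc_13_2 lc_c_rc_24_2 lc_c_rc_14_2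 lc_c_rc_11_1 lc_c_rc_13_2 lc_c_rc_11_1 lc_c_Cert_tree lc_c_Cert_tree lc_c_rc_11_1 lc_c_rc_14_2 lc_c_rc_7_3 lc_c_rc_22_5 lc_c_rc_26_4 lc_c_rc_13_2 lc_c_rc_24_6 lc_c_rc_11_1 lc_c_rc_2_3 lc_c_rc_13_2 lc_c_rc_13_2 lc_c_Cert_tree lc_c_rc_13_2) (@D3.rec (fun _ => (Cert rels S Gen.c)) lc_c_rc_24_8 lc_c_rc_26_2 lc_c_rc_11_1 lc_c_rc_26_10 lc_c_rc_11_1 lc_c_Cert_tree lc_c_rc_11_1 lc_c_rc_11_1 lc_c_rc_13_2 lc_c_Cert_tree lc_c_rc_23_5 lc_c_rc_13_2 lc_c_rc_7_3 lc_c_rc_11_1 lc_c_Cert_tree lc_c_rc_13_2 lc_c_rc_13_2 lc_c_rc_26_4 lc_c_rc_2_3 lc_c_rc_13_2 lc_c_rc_13_2 lc_c_rc_24_2 lc_c_rc_14_2 lc_c_Cert_tree lc_c_rc_13_2 lc_c_rc_13_2 lc_c_Cert_tree lc_c_Cert_tree lc_c_Cert_tree lc_c_Cert_tree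 lc_c_rc_13_2 lc_c_rc_13_2 lc_c_rc_11_1 lc_c_rc_13_2 lc_c_Cert_tree lc_c_rc_14_2 lc_c_Cert_tree lc_c_rc_23_5 lc_c_Cert_tree lc_c_Cert_tree lc_c_rc_23_5 lc_c_Cert_tree lc_c_Cert_tree lc_c_rc_11_1 lc_c_rc_7_3 lc_c_Cert_tree lc_c_rc_13_2 lc_c_rc_11_1 lc_c_rc_14_2 lc_c_rc_14_2 lc_c_Cert_tree lc_c_rc_23_5 lc_c_rc_2_3 lc_c_rc_26_4 lc_c_rc_26_10 lc_c_rc_2_3 lc_c_rc_23_5 lc_c_rc_22_3 lc_c_rc_13_2 lc_c_rc_23_0 lc_c_rc_13_2 lc_c_rc_2_3) (@D3.rec (fun _ => (Cert rels S Gen.c)) lc_c_rc_11_1 lc_c_rc_26_10 lc_c_rc_11_1 lc_c_rc_13_2 lc_c_rc_26_10 lc_c_rc_26_2 lc_c_Cert_tree lc_c_rc_13_2 lc_c_rc_11_1 lc_c_rc_13_2 lc_c_rc_14_2 lc_c_rc_7_1 lc_c_rc_13_2 lc_c_rc_11_1 lc_c_rc_2_3 lc_c_rc_26_2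 lc_c_rc_13_2 lc_c_rc_13_2 lc_c_rc_11_1 lc_c_rc_2_3 lc_c_Cert_tree lc_c_rc_14_2 lc_c_rc_11_1 lc_c_Cert_tree lc_c_Cert_tree lc_c_rc_11_1 lc_c_rc_7_1 lc_c_rc_7_1 lc_c_rc_13_2 lc_c_Cert_tree lc_c_Cert_tree lc_c_rc_14_2 lc_c_Cert_tree lc_c_rc_11_1 lc_c_rc_14_2 lc_c_Cert_tree lc_c_rc_14_2 lc_c_Cert_tree lc_c_Cert_tree lc_c_rc_13_2 lc_c_rc_13_2 lc_c_Cert_tree lc_c_rc_26_4 lc_c_rc_11_1 lc_c_rc_11_1 lc_c_rc_13_2 lc_c_rc_26_8 lc_c_rc_11_1 lc_c_rc_26_4 lc_c_rc_13_2 lc_c_rc_2_3 lc_c_rc_13_2 lc_c_rc_11_1 lc_c_rc_24_2 lc_c_rc_13_2 lc_c_Cert_tree lc_c_Cert_tree lc_c_rc_11_1 lc_c_rc_14_2 lc_c_rc_11_1 lc_c_Cert_tree lc_c_Cert_tree) (@D3.rec (fun _ => (Cert rels S Gen.c)) lc_c_rc_14_2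 lc_c_Cert_tree lc_c_rc_26_4 lc_c_rc_22_3 lc_c_rc_23_5 lc_c_Cert_tree lc_c_rc_22_3 lc_c_rc_11_1 lc_c_rc_7_5 lc_c_rc_7_1 lc_c_rc_7_3 lc_c_Cert_tree lc_c_rc_11_1 lc_c_rc_2_3 lc_c_Cert_tree lc_c_rc_13_2 lc_c_rc_14_2 lc_c_rc_13_2 lc_c_rc_26_10 lc_c_rc_13_2 lc_c_rc_14_0 lc_c_rc_13_2 lc_c_rc_11_1 lc_c_rc_26_10 lc_c_rc_2_3 lc_c_rc_13_2 lc_c_rc_13_2 lc_c_rc_11_1 lc_c_Cert_tree lc_c_rc_14_2 lc_c_rc_11_1 lc_c_Cert_tree lc_c_rc_11_1 lc_c_Cert_tree lc_c_Cert_tree lc_c_rc_11_1 lc_c_rc_14_2 lc_c_Cert_tree lc_c_rc_11_1 lc_c_rc_11_1 lc_c_Cert_tree lc_c_rc_11_1 lc_c_rc_13_2 lc_c_Cert_tree lc_c_Cert_tree lc_c_rc_13_2 lc_c_rc_13_2 lc_c_rc_13_2 lc_c_Cert_tree lc_c_Cert_tree lc_c_Cert_tree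 lc_c_rc_14_2 lc_c_Cert_tree lc_c_rc_13_2 lc_c_rc_22_9 lc_c_rc_13_2 lc_c_rc_13_2 lc_c_rc_11_1 lc_c_Cert_tree lc_c_rc_14_2 lc_c_rc_7_5 lc_c_Cert_tree) (@D3.rec (fun _ => (Cert rels S Gen.c)) lc_c_Cert_tree lc_c_rc_11_1 lc_c_Cert_tree lc_c_Cert_tree lc_c_Cert_tree lc_c_rc_11_1 lc_c_rc_14_2 lc_c_rc_14_2 lc_c_Cert_tree lc_c_rc_13_2 lc_c_Cert_tree lc_c_rc_11_1 lc_c_rc_13_2 lc_c_Cert_tree lc_c_rc_11_1 lc_c_rc_11_1 lc_c_rc_11_1 lc_c_rc_11_1 lc_c_rc_2_1 lc_c_rc_13_0 lc_c_rc_7_3 lc_c_Cert_tree lc_c_rc_14_2 lc_c_rc_7_3 lc_c_rc_13_2 lc_c_rc_26_8 lc_c_rc_11_1 lc_c_rc_2_3 lc_c_rc_26_4 lc_c_rc_13_2 lc_c_rc_13_2 lc_c_rc_11_1 lc_c_rc_13_2 lc_c_rc_14_2 lc_c_rc_22_3 lc_c_rc_26_4 lc_c_rc_13_2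 lc_c_rc_13_2 lc_c_rc_26_2 lc_c_rc_13_2 lc_c_rc_11_1 lc_c_rc_23_0 lc_c_rc_13_2 lc_c_Cert_tree lc_c_Cert_tree lc_c_Cert_tree lc_c_rc_14_2 lc_c_rc_13_2 lc_c_rc_11_1 lc_c_Cert_tree lc_c_rc_14_2 lc_c_rc_11_1 lc_c_Cert_tree lc_c_Cert_tree lc_c_rc_2_3 lc_c_Cert_tree lc_c_Cert_tree lc_c_rc_11_1 lc_c_rc_14_2 lc_c_Cert_tree lc_c_Cert_tree lc_c_Cert_tree) (@D3.rec (fun _ => (Cert rels S Gen.c)) lc_c_rc_11_1 lc_c_rc_7_3 lc_c_rc_14_2 lc_c_rc_13_2 lc_c_rc_11_1 lc_c_rc_11_1 lc_c_Cert_tree lc_c_rc_11_1 lc_c_rc_24_8 lc_c_rc_24_2 lc_c_rc_7_3 lc_c_Cert_tree lc_c_rc_14_2 lc_c_rc_26_4 lc_c_rc_11_1 lc_c_rc_25_9 lc_c_rc_13_2 lc_c_rc_23_5 lc_c_rc_11_1 lc_c_rc_7_1 lc_c_rc_13_2 lc_c_rc_13_2 lc_c_rc_13_2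 lc_c_rc_11_1 lc_c_rc_13_2 lc_c_Cert_tree lc_c_Cert_tree lc_c_Cert_tree lc_c_rc_26_2 lc_c_rc_11_1 lc_c_rc_26_10 lc_c_Cert_tree lc_c_rc_14_2 lc_c_rc_24_8 lc_c_rc_14_2 lc_c_rc_11_1 lc_c_rc_14_2 lc_c_Cert_tree lc_c_rc_13_2 lc_c_rc_24_4 lc_c_rc_13_0 lc_c_rc_23_0 lc_c_rc_14_2 lc_c_rc_26_10 lc_c_rc_11_1 lc_c_Cert_tree lc_c_rc_14_2 lc_c_rc_24_8 lc_c_rc_22_9 lc_c_rc_11_1 lc_c_rc_14_2 lc_c_Cert_tree lc_c_rc_11_1 lc_c_Cert_tree lc_c_rc_13_2 lc_c_rc_13_2 lc_c_rc_12_2 lc_c_rc_11_1 lc_c_rc_13_2 lc_c_rc_2_3 lc_c_Cert_tree lc_c_rc_14_2) (@D3.rec (fun _ => (Cert rels S Gen.c)) lc_c_rc_23_5 lc_c_rc_13_2 lc_c_rc_13_2 lc_c_rc_11_1 lc_c_Cert_tree lc_c_rc_14_2 lc_c_rc_13_2 lc_c_rc_11_1 lc_c_Cert_tree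 lc_c_Cert_tree lc_c_rc_14_2 lc_c_Cert_tree lc_c_rc_11_1 lc_c_rc_13_2 lc_c_rc_11_1 lc_c_rc_14_0 lc_c_rc_7_3 lc_c_rc_13_2 lc_c_Cert_tree lc_c_Cert_tree lc_c_Cert_tree lc_c_rc_14_2 lc_c_rc_26_4 lc_c_rc_11_1 lc_c_Cert_tree lc_c_rc_13_2 lc_c_Cert_tree lc_c_rc_11_1 lc_c_Cert_tree lc_c_rc_13_2 lc_c_Cert_tree lc_c_Cert_tree lc_c_rc_11_1 lc_c_rc_14_2 lc_c_rc_11_1 lc_c_rc_13_2 lc_c_rc_11_1 lc_c_rc_26_10 lc_c_Cert_tree lc_c_rc_14_2 lc_c_rc_23_0 lc_c_Cert_tree lc_c_rc_13_2 lc_c_rc_14_2 lc_c_rc_26_4 lc_c_rc_11_1 lc_c_rc_13_2 lc_c_rc_11_1 lc_c_rc_13_2 lc_c_Cert_tree lc_c_rc_14_2 lc_c_rc_11_1 lc_c_rc_7_5 lc_c_rc_11_1 lc_c_Cert_tree lc_c_rc_13_2 lc_c_Cert_tree lc_c_Cert_tree lc_c_rc_11_1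 lc_c_rc_14_2 lc_c_rc_14_2 lc_c_Cert_tree) (@D3.rec (fun _ => (Cert rels S Gen.c)) lc_c_rc_7_5 lc_c_Cert_tree lc_c_Cert_tree lc_c_Cert_tree lc_c_rc_11_1 lc_c_Cert_tree lc_c_rc_7_5 lc_c_Cert_tree lc_c_Cert_tree lc_c_Cert_tree lc_c_rc_11_1 lc_c_rc_23_5 lc_c_rc_11_1 lc_c_rc_26_4 lc_c_rc_2_3 lc_c_rc_22_9 lc_c_rc_13_2 lc_c_rc_7_5 lc_c_rc_11_1 lc_c_rc_13_2 lc_c_rc_2_3 lc_c_Cert_tree lc_c_rc_23_0 lc_c_Cert_tree lc_c_rc_11_1 lc_c_rc_13_2 lc_c_rc_14_2 lc_c_rc_11_1 lc_c_rc_2_3 lc_c_rc_12_4 lc_c_rc_11_1 lc_c_rc_7_3 lc_c_rc_22_5 lc_c_rc_14_2 lc_c_rc_13_2 lc_c_rc_11_1 lc_c_rc_26_4 lc_c_Cert_tree lc_c_rc_13_2 lc_c_Cert_tree lc_c_Cert_tree lc_c_rc_23_0 lc_c_rc_11_1 lc_c_rc_7_1 lc_c_rc_22_9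 lc_c_rc_7_5 lc_c_Cert_tree lc_c_Cert_tree lc_c_rc_26_2 lc_c_Cert_tree lc_c_Cert_tree lc_c_rc_11_1 lc_c_rc_2_3 lc_c_rc_11_1 lc_c_rc_11_1 lc_c_rc_23_5 lc_c_rc_11_1 lc_c_rc_13_2 lc_c_rc_11_1 lc_c_rc_7_5 lc_c_rc_11_1 lc_c_rc_7_1) (@D3.rec (fun _ => (Cert rels S Gen.c)) lc_c_rc_13_2 lc_c_rc_24_4 lc_c_Cert_tree lc_c_rc_2_3 lc_c_Cert_tree lc_c_rc_13_2 lc_c_rc_11_1 lc_c_rc_13_2 lc_c_rc_24_6 lc_c_Cert_tree lc_c_rc_2_1 lc_c_rc_7_3 lc_c_rc_22_3 lc_c_rc_11_1 lc_c_rc_7_3 lc_c_Cert_tree lc_c_Cert_tree lc_c_rc_11_1 lc_c_rc_7_3 lc_c_rc_2_3 lc_c_rc_11_1 lc_c_rc_11_1 lc_c_rc_13_2 lc_c_rc_22_3 lc_c_rc_11_1 lc_c_rc_24_6 lc_c_rc_11_1 lc_c_rc_7_3 lc_c_Cert_tree lc_c_rc_26_8 lc_c_rc_11_1 lc_c_rc_23_0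 lc_c_rc_11_1 lc_c_rc_7_3 lc_c_rc_24_6 lc_c_rc_24_6 lc_c_rc_22_3 lc_c_rc_11_1 lc_c_rc_22_7 lc_c_rc_13_2 lc_c_rc_14_0 lc_c_rc_22_3 lc_c_rc_13_2 lc_c_Cert_tree lc_c_rc_11_1 lc_c_rc_2_3 lc_c_Cert_tree lc_c_rc_22_3 lc_c_rc_22_3 lc_c_rc_11_1 lc_c_rc_13_2 lc_c_rc_26_10 lc_c_rc_11_1 lc_c_rc_13_2 lc_c_rc_11_1 lc_c_rc_14_2 lc_c_Cert_tree lc_c_rc_14_2 lc_c_rc_11_1 lc_c_Cert_tree lc_c_rc_11_1 lc_c_Cert_tree) (@D3.rec (fun _ => (Cert rels S Gen.c)) lc_c_Cert_tree lc_c_rc_11_1 lc_c_Cert_tree lc_c_rc_11_1 lc_c_rc_11_1 lc_c_rc_13_2 lc_c_Cert_tree lc_c_rc_13_2 lc_c_Cert_tree lc_c_Cert_tree lc_c_rc_11_1 lc_c_rc_26_4 lc_c_rc_26_2 lc_c_rc_13_2 lc_c_Cert_tree lc_c_Cert_tree lc_c_Cert_tree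 lc_c_rc_14_2 lc_c_rc_11_1 lc_c_rc_11_1 lc_c_Cert_tree lc_c_rc_13_2 lc_c_rc_7_5 lc_c_Cert_tree lc_c_Cert_tree lc_c_rc_11_1 lc_c_rc_14_2 lc_c_rc_14_2 lc_c_rc_11_1 lc_c_rc_13_2 lc_c_Cert_tree lc_c_Cert_tree lc_c_rc_11_1 lc_c_rc_13_2 lc_c_rc_11_1 lc_c_Cert_tree lc_c_rc_14_2 lc_c_Cert_tree lc_c_rc_11_1 lc_c_rc_11_1 lc_c_rc_14_2 lc_c_rc_13_2 lc_c_rc_11_1 lc_c_rc_2_3 lc_c_rc_2_3 lc_c_rc_7_3 lc_c_Cert_tree lc_c_rc_14_2 lc_c_Cert_tree lc_c_rc_13_2 lc_c_rc_11_1 lc_c_rc_13_2 lc_c_rc_11_1 lc_c_rc_7_3 lc_c_rc_7_3 lc_c_rc_2_3 lc_c_rc_11_1 lc_c_rc_11_1 lc_c_Cert_tree lc_c_rc_22_3 lc_c_Cert_tree lc_c_rc_22_9) (@D3.rec (fun _ => (Cert rels S Gen.c)) lc_c_Cert_tree lc_c_Cert_tree lc_c_rc_2_3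 lc_c_Cert_tree lc_c_rc_14_2 lc_c_rc_22_3 lc_c_rc_11_1 lc_c_rc_13_2 lc_c_rc_2_1 lc_c_rc_13_2 lc_c_rc_12_2 lc_c_rc_26_10 lc_c_rc_7_5 lc_c_rc_13_2 lc_c_rc_13_2 lc_c_rc_14_2 lc_c_Cert_tree lc_c_Cert_tree lc_c_rc_11_1 lc_c_Cert_tree lc_c_Cert_tree lc_c_rc_13_2 lc_c_Cert_tree lc_c_rc_22_3 lc_c_rc_13_2 lc_c_Cert_tree lc_c_rc_11_1 lc_c_Cert_tree lc_c_rc_14_2 lc_c_Cert_tree lc_c_Cert_tree lc_c_rc_11_1 lc_c_Cert_tree lc_c_Cert_tree lc_c_Cert_tree lc_c_rc_11_1 lc_c_rc_14_2 lc_c_rc_7_3 lc_c_Cert_tree lc_c_rc_11_1 lc_c_rc_13_2 lc_c_rc_11_1 lc_c_Cert_tree lc_c_rc_13_2 lc_c_rc_11_1 lc_c_Cert_tree lc_c_Cert_tree lc_c_rc_14_2 lc_c_rc_7_3 lc_c_Cert_tree lc_c_rc_14_2 lc_c_rc_26_2 lc_c_rc_26_2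 lc_c_rc_11_1 lc_c_rc_11_1 lc_c_rc_7_3 lc_c_rc_11_1 lc_c_rc_7_3 lc_c_rc_11_1 lc_c_rc_14_2 lc_c_rc_14_2 lc_c_rc_14_0) (@D3.rec (fun _ => (Cert rels S Gen.c)) lc_c_Cert_tree lc_c_rc_13_2 lc_c_rc_13_2 lc_c_Cert_tree lc_c_Cert_tree lc_c_rc_2_3 lc_c_Cert_tree lc_c_rc_14_2 lc_c_rc_23_5 lc_c_rc_24_2 lc_c_rc_13_2 lc_c_rc_22_3 lc_c_rc_13_2 lc_c_rc_11_1 lc_c_rc_13_2 lc_c_rc_13_2 lc_c_rc_26_8 lc_c_rc_24_6 lc_c_rc_26_4 lc_c_rc_7_1 lc_c_rc_13_2 lc_c_rc_11_1 lc_c_rc_13_2 lc_c_rc_22_3 lc_c_rc_24_2 lc_c_rc_13_2 lc_c_Cert_tree lc_c_Cert_tree lc_c_rc_22_9 lc_c_rc_14_2 lc_c_Cert_tree lc_c_rc_13_2 lc_c_Cert_tree lc_c_rc_13_2 lc_c_rc_11_1 lc_c_rc_13_2 lc_c_Cert_tree lc_c_rc_11_1 lc_c_Cert_tree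 lc_c_rc_14_2 lc_c_Cert_tree lc_c_rc_13_2 lc_c_Cert_tree lc_c_rc_11_1 lc_c_rc_14_2 lc_c_rc_11_1 lc_c_rc_23_0 lc_c_rc_26_4 lc_c_rc_11_1 lc_c_Cert_tree lc_c_rc_13_2 lc_c_Cert_tree lc_c_rc_11_1 lc_c_Cert_tree lc_c_rc_11_1 lc_c_Cert_tree lc_c_Cert_tree lc_c_Cert_tree lc_c_rc_11_1 lc_c_rc_13_2 lc_c_Cert_tree lc_c_rc_7_5) (@D3.rec (fun _ => (Cert rels S Gen.c)) lc_c_rc_24_8 lc_c_rc_14_0 lc_c_Cert_tree lc_c_rc_13_2 lc_c_rc_11_1 lc_c_rc_2_1 lc_c_Cert_tree lc_c_rc_14_2 lc_c_rc_24_6 lc_c_Cert_tree lc_c_rc_7_3 lc_c_Cert_tree lc_c_rc_11_1 lc_c_rc_11_1 lc_c_Cert_tree lc_c_rc_2_1 lc_c_Cert_tree lc_c_rc_13_2 lc_c_Cert_tree lc_c_rc_11_1 lc_c_rc_13_2 lc_c_Cert_tree lc_c_rc_2_3 lc_c_Cert_tree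 lc_c_rc_7_3 lc_c_Cert_tree lc_c_rc_11_1 lc_c_rc_13_2 lc_c_rc_11_1 lc_c_rc_23_5 lc_c_rc_11_1 lc_c_rc_23_0 lc_c_rc_26_2 lc_c_rc_13_2 lc_c_rc_13_0 lc_c_rc_25_17 lc_c_Cert_tree lc_c_rc_26_8 lc_c_rc_11_1 lc_c_rc_11_1 lc_c_Cert_tree lc_c_rc_11_1 lc_c_rc_24_8 lc_c_rc_26_4 lc_c_rc_26_2 lc_c_rc_13_2 lc_c_Cert_tree lc_c_Cert_tree lc_c_rc_11_1 lc_c_rc_13_2 lc_c_Cert_tree lc_c_Cert_tree lc_c_rc_7_1 lc_c_rc_13_2 lc_c_rc_11_1 lc_c_rc_7_3 lc_c_rc_24_6 lc_c_rc_7_1 lc_c_rc_13_2 lc_c_rc_26_10 lc_c_rc_23_0 lc_c_rc_11_1) (@D3.rec (fun _ => (Cert rels S Gen.c)) lc_c_rc_24_8 lc_c_rc_11_1 lc_c_rc_13_2 lc_c_rc_7_1 lc_c_rc_22_3 lc_c_rc_22_5 lc_c_rc_23_0 lc_c_Cert_tree lc_c_rc_11_1 lc_c_rc_26_10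 lc_c_rc_2_3 lc_c_Cert_tree lc_c_rc_26_8 lc_c_rc_13_2 lc_c_rc_13_2 lc_c_rc_11_1 lc_c_rc_11_1 lc_c_rc_11_1 lc_c_rc_13_2 lc_c_rc_11_1 lc_c_rc_11_1 lc_c_rc_7_3 lc_c_rc_24_8 lc_c_rc_13_2 lc_c_rc_11_1 lc_c_Cert_tree lc_c_rc_13_2 lc_c_Cert_tree lc_c_rc_11_1 lc_c_rc_26_4 lc_c_rc_11_1 lc_c_rc_13_2 lc_c_rc_26_2 lc_c_rc_24_4 lc_c_rc_26_4 lc_c_Cert_tree lc_c_rc_11_1 lc_c_rc_13_2 lc_c_Cert_tree lc_c_rc_11_1 lc_c_rc_13_2 lc_c_rc_13_0 lc_c_Cert_tree lc_c_Cert_tree lc_c_rc_14_2 lc_c_rc_7_5 lc_c_rc_11_1 lc_c_rc_7_3 lc_c_rc_12_8 lc_c_rc_7_3 lc_c_rc_23_5 lc_c_rc_13_2 lc_c_rc_24_2 lc_c_rc_26_10 lc_c_rc_14_2 lc_c_rc_13_2 lc_c_rc_7_3 lc_c_rc_22_3 lc_c_rc_13_2 lc_c_Cert_tree lc_c_rc_13_2 lc_c_rc_7_1)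 (@D3.rec (fun _ => (Cert rels S Gen.c)) lc_c_rc_11_1 lc_c_Cert_tree lc_c_rc_11_1 lc_c_rc_2_3 lc_c_Cert_tree lc_c_rc_13_2 lc_c_Cert_tree lc_c_Cert_tree lc_c_rc_11_1 lc_c_rc_13_2 lc_c_rc_24_6 lc_c_rc_11_1 lc_c_Cert_tree lc_c_rc_24_6 lc_c_rc_7_3 lc_c_Cert_tree lc_c_rc_11_1 lc_c_rc_26_8 lc_c_rc_11_1 lc_c_rc_13_2 lc_c_Cert_tree lc_c_Cert_tree lc_c_rc_11_1 lc_c_rc_13_2 lc_c_Cert_tree lc_c_Cert_tree lc_c_Cert_tree lc_c_rc_13_2 lc_c_rc_7_3 lc_c_rc_13_2 lc_c_rc_23_0 lc_c_rc_22_7 lc_c_Cert_tree lc_c_Cert_tree lc_c_rc_2_3 lc_c_Cert_tree lc_c_rc_13_2 lc_c_rc_7_3 lc_c_Cert_tree lc_c_rc_13_2 lc_c_Cert_tree lc_c_rc_11_1 lc_c_rc_13_2 lc_c_rc_11_1 lc_c_rc_13_2 lc_c_rc_7_3 lc_c_rc_11_1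 lc_c_rc_13_2 lc_c_rc_13_2 lc_c_rc_23_5 lc_c_rc_23_5 lc_c_rc_11_1 lc_c_rc_7_1 lc_c_rc_22_3 lc_c_rc_7_3 lc_c_rc_12_2 lc_c_rc_13_2 lc_c_rc_7_3 lc_c_Cert_tree lc_c_Cert_tree lc_c_Cert_tree lc_c_rc_2_3) (@D3.rec (fun _ => (Cert rels S Gen.c)) lc_c_Cert_tree lc_c_rc_22_9 lc_c_rc_11_1 lc_c_rc_13_2 lc_c_rc_26_4 lc_c_rc_11_1 lc_c_rc_24_4 lc_c_rc_23_5 lc_c_rc_7_3 lc_c_rc_22_7 lc_c_Cert_tree lc_c_Cert_tree lc_c_rc_2_3 lc_c_rc_11_1 lc_c_rc_13_2 lc_c_rc_23_0 lc_c_rc_11_1 lc_c_rc_7_3 lc_c_rc_22_5 lc_c_rc_13_2 lc_c_Cert_tree lc_c_Cert_tree lc_c_Cert_tree lc_c_Cert_tree lc_c_rc_2_3 lc_c_rc_13_2 lc_c_rc_22_5 lc_c_rc_24_2 lc_c_rc_11_1 lc_c_rc_7_1 lc_c_Cert_tree lc_c_rc_13_2 lc_c_rc_11_1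 lc_c_rc_7_5 lc_c_rc_26_2 lc_c_Cert_tree lc_c_Cert_tree lc_c_rc_2_3 lc_c_rc_13_2 lc_c_rc_13_2 lc_c_rc_14_2 lc_c_rc_11_1 lc_c_rc_23_5 lc_c_rc_22_9 lc_c_Cert_tree lc_c_rc_11_1 lc_c_rc_22_3 lc_c_Cert_tree lc_c_rc_11_1 lc_c_rc_13_2 lc_c_rc_13_2 lc_c_rc_25_17 lc_c_rc_26_4 lc_c_rc_11_1 lc_c_Cert_tree lc_c_rc_13_2 lc_c_Cert_tree lc_c_rc_11_1 lc_c_Cert_tree lc_c_rc_13_2 lc_c_rc_24_8 lc_c_rc_7_3) (@D3.rec (fun _ => (Cert rels S Gen.c)) lc_c_rc_11_1 lc_c_rc_13_2 lc_c_rc_7_3 lc_c_rc_12_12 lc_c_rc_13_2 lc_c_rc_26_2 lc_c_rc_26_4 lc_c_rc_11_1 lc_c_rc_11_1 lc_c_rc_24_6 lc_c_rc_7_3 lc_c_rc_11_1 lc_c_Cert_tree lc_c_Cert_tree lc_c_rc_2_3 lc_c_rc_11_1 lc_c_rc_7_3 lc_c_Cert_tree lc_c_rc_24_8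 lc_c_rc_11_1 lc_c_rc_13_2 lc_c_Cert_tree lc_c_rc_14_2 lc_c_rc_13_0 lc_c_rc_26_2 lc_c_rc_7_3 lc_c_rc_12_2 lc_c_rc_11_1 lc_c_rc_7_3 lc_c_rc_13_2 lc_c_rc_12_14 lc_c_rc_13_2 lc_c_rc_11_1 lc_c_rc_13_2 lc_c_rc_13_2 lc_c_Cert_tree lc_c_rc_11_1 lc_c_Cert_tree lc_c_Cert_tree lc_c_rc_7_3 lc_c_rc_26_2 lc_c_rc_22_3 lc_c_rc_11_1 lc_c_rc_11_1 lc_c_rc_13_2 lc_c_rc_14_2 lc_c_rc_7_5 lc_c_rc_13_2 lc_c_rc_7_5 lc_c_rc_13_2 lc_c_rc_11_1 lc_c_rc_2_1 lc_c_Cert_tree lc_c_rc_14_2 lc_c_rc_11_1 lc_c_Cert_tree lc_c_Cert_tree lc_c_rc_11_1 lc_c_rc_14_2 lc_c_rc_26_4 lc_c_rc_7_1 lc_c_rc_13_2) (@D3.rec (fun _ => (Cert rels S Gen.c)) lc_c_Cert_tree lc_c_rc_26_8 lc_c_rc_2_3 lc_c_rc_11_1 lc_c_rc_7_1 lc_c_rc_13_2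 lc_c_rc_13_2 lc_c_rc_11_1 lc_c_Cert_tree lc_c_rc_14_2 lc_c_rc_14_0 lc_c_rc_26_8 lc_c_rc_11_1 lc_c_rc_14_2 lc_c_rc_14_2 lc_c_rc_7_3 lc_c_rc_2_1 lc_c_rc_11_1 lc_c_rc_11_1 lc_c_rc_11_1 lc_c_rc_13_2 lc_c_rc_13_2 lc_c_Cert_tree lc_c_rc_7_5 lc_c_rc_13_2 lc_c_rc_13_2 lc_c_rc_22_3 lc_c_rc_13_2 lc_c_rc_25_5 lc_c_rc_11_1 lc_c_rc_13_2 lc_c_Cert_tree lc_c_rc_11_1 lc_c_Cert_tree lc_c_Cert_tree lc_c_rc_13_2 lc_c_rc_13_2 lc_c_Cert_tree lc_c_Cert_tree lc_c_rc_24_2 lc_c_rc_14_2 lc_c_Cert_tree lc_c_rc_23_5 lc_c_rc_14_0 lc_c_Cert_tree lc_c_rc_23_5 lc_c_rc_13_2 lc_c_rc_24_8 lc_c_rc_11_1 lc_c_rc_14_2 lc_c_rc_7_1 lc_c_rc_13_2 lc_c_rc_11_1 lc_c_Cert_tree lc_c_rc_14_0 lc_c_rc_11_1 lc_c_Cert_tree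 lc_c_rc_11_1 lc_c_rc_11_1 lc_c_rc_13_2 lc_c_rc_11_1 lc_c_rc_13_2) (@D3.rec (fun _ => (Cert rels S Gen.c)) lc_c_rc_13_2 lc_c_rc_11_1 lc_c_rc_2_3 lc_c_rc_13_2 lc_c_rc_13_2 lc_c_rc_26_2 lc_c_rc_26_8 lc_c_rc_11_1 lc_c_Cert_tree lc_c_rc_24_4 lc_c_rc_26_8 lc_c_rc_11_1 lc_c_Cert_tree lc_c_rc_13_2 lc_c_Cert_tree lc_c_Cert_tree lc_c_rc_22_3 lc_c_rc_26_8 lc_c_rc_22_7 lc_c_rc_11_1 lc_c_rc_2_1 lc_c_rc_11_1 lc_c_rc_11_1 lc_c_rc_24_6 lc_c_rc_11_1 lc_c_rc_11_1 lc_c_rc_22_3 lc_c_rc_11_1 lc_c_rc_13_2 lc_c_rc_23_5 lc_c_rc_7_3 lc_c_rc_22_5 lc_c_Cert_tree lc_c_rc_13_2 lc_c_rc_13_2 lc_c_rc_26_10 lc_c_Cert_tree lc_c_rc_14_2 lc_c_rc_11_1 lc_c_rc_11_1 lc_c_rc_13_2 lc_c_rc_2_3 lc_c_rc_7_3 lc_c_rc_13_2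 lc_c_rc_13_2 lc_c_rc_12_14 lc_c_rc_2_1 lc_c_rc_13_2 lc_c_rc_13_2 lc_c_rc_23_0 lc_c_Cert_tree lc_c_rc_22_3 lc_c_rc_11_1 lc_c_rc_13_2 lc_c_rc_22_5 lc_c_rc_7_3 lc_c_rc_13_2 lc_c_Cert_tree lc_c_rc_26_4 lc_c_Cert_tree lc_c_rc_13_2 lc_c_rc_26_8) (@D3.rec (fun _ => (Cert rels S Gen.c)) lc_c_Cert_tree lc_c_rc_23_5 lc_c_Cert_tree lc_c_Cert_tree lc_c_rc_11_1 lc_c_rc_14_2 lc_c_rc_26_8 lc_c_rc_13_2 lc_c_rc_7_1 lc_c_rc_11_1 lc_c_Cert_tree lc_c_rc_13_2 lc_c_Cert_tree lc_c_rc_11_1 lc_c_rc_11_1 lc_c_rc_13_2 lc_c_rc_11_1 lc_c_Cert_tree lc_c_rc_13_2 lc_c_rc_11_1 lc_c_Cert_tree lc_c_rc_13_2 lc_c_Cert_tree lc_c_rc_11_1 lc_c_Cert_tree lc_c_rc_11_1 lc_c_rc_14_2 lc_c_rc_7_3 lc_c_rc_22_5 lc_c_rc_14_2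 lc_c_rc_22_5 lc_c_rc_11_1 lc_c_rc_24_2 lc_c_rc_7_3 lc_c_rc_24_2 lc_c_Cert_tree lc_c_rc_22_3 lc_c_rc_11_1 lc_c_rc_22_5 lc_c_rc_13_2 lc_c_rc_12_14 lc_c_rc_7_5 lc_c_rc_11_1 lc_c_rc_13_2 lc_c_rc_26_10 lc_c_rc_2_1 lc_c_rc_24_8 lc_c_rc_7_3 lc_c_rc_12_10 lc_c_rc_7_3 lc_c_rc_22_5 lc_c_rc_7_3 lc_c_rc_11_1 lc_c_rc_7_5 lc_c_rc_23_5 lc_c_rc_26_8 lc_c_rc_22_3 lc_c_rc_11_1 lc_c_rc_13_2 lc_c_rc_7_3 lc_c_rc_12_4 lc_c_rc_11_1) (@D3.rec (fun _ => (Cert rels S Gen.c)) lc_c_rc_14_2 lc_c_rc_13_2 lc_c_rc_23_5 lc_c_rc_13_2 lc_c_rc_11_1 lc_c_rc_11_1 lc_c_rc_11_1 lc_c_rc_26_2 lc_c_rc_13_2 lc_c_rc_13_2 lc_c_Cert_tree lc_c_Cert_tree lc_c_rc_14_2 lc_c_rc_13_2 lc_c_rc_7_5 lc_c_rc_13_2 lc_c_rc_13_2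 lc_c_rc_13_2 lc_c_rc_26_4 lc_c_rc_11_1 lc_c_Cert_tree lc_c_rc_14_2 lc_c_rc_11_1 lc_c_rc_13_2 lc_c_rc_26_2 lc_c_rc_11_1 lc_c_Cert_tree lc_c_rc_14_2 lc_c_rc_7_5 lc_c_Cert_tree lc_c_rc_13_2 lc_c_Cert_tree lc_c_rc_13_2 lc_c_Cert_tree lc_c_Cert_tree lc_c_rc_11_1 lc_c_rc_14_2 lc_c_rc_7_3 lc_c_Cert_tree lc_c_rc_13_2 lc_c_rc_11_1 lc_c_rc_26_2 lc_c_rc_22_9 lc_c_rc_14_2 lc_c_rc_11_1 lc_c_rc_11_1 lc_c_rc_2_3 lc_c_Cert_tree lc_c_rc_13_2 lc_c_rc_11_1 lc_c_rc_13_2 lc_c_Cert_tree lc_c_rc_13_2 lc_c_rc_23_5 lc_c_rc_11_1 lc_c_rc_24_4 lc_c_rc_2_3 lc_c_Cert_tree lc_c_rc_13_2 lc_c_rc_26_4 lc_c_rc_13_2 lc_c_rc_11_1) (@D3.rec (fun _ => (Cert rels S Gen.c)) lc_c_rc_11_1 lc_c_rc_13_2 lc_c_rc_26_10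 lc_c_Cert_tree lc_c_rc_26_10 lc_c_Cert_tree lc_c_rc_14_2 lc_c_rc_2_3 lc_c_rc_23_0 lc_c_rc_7_1 lc_c_rc_13_2 lc_c_rc_23_0 lc_c_rc_23_5 lc_c_Cert_tree lc_c_Cert_tree lc_c_rc_11_1 lc_c_rc_13_2 lc_c_rc_12_14 lc_c_rc_13_2 lc_c_rc_11_1 lc_c_Cert_tree lc_c_Cert_tree lc_c_Cert_tree lc_c_rc_14_2 lc_c_rc_11_1 lc_c_Cert_tree lc_c_Cert_tree lc_c_Cert_tree lc_c_rc_11_1 lc_c_rc_22_3 lc_c_rc_11_1 lc_c_rc_24_6 lc_c_rc_11_1 lc_c_Cert_tree lc_c_rc_11_1 lc_c_Cert_tree lc_c_rc_23_5 lc_c_rc_26_4 lc_c_rc_23_0 lc_c_rc_13_2 lc_c_rc_26_4 lc_c_rc_11_1 lc_c_rc_13_2 lc_c_Cert_tree lc_c_Cert_tree lc_c_rc_13_2 lc_c_rc_7_3 lc_c_rc_13_2 lc_c_rc_13_2 lc_c_Cert_tree lc_c_Cert_tree lc_c_Cert_tree lc_c_rc_14_2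 lc_c_rc_23_0 lc_c_rc_23_0 lc_c_Cert_tree lc_c_rc_7_3 lc_c_rc_26_2 lc_c_Cert_tree lc_c_rc_7_5 lc_c_Cert_tree lc_c_rc_13_2) (@D3.rec (fun _ => (Cert rels S Gen.c)) lc_c_Cert_tree lc_c_Cert_tree lc_c_rc_11_1 lc_c_rc_14_2 lc_c_rc_7_3 lc_c_Cert_tree lc_c_rc_11_1 lc_c_rc_11_1 lc_c_rc_14_2 lc_c_rc_14_2 lc_c_rc_11_1 lc_c_rc_11_1 lc_c_rc_2_3 lc_c_rc_22_3 lc_c_rc_13_2 lc_c_rc_13_2 lc_c_Cert_tree lc_c_rc_13_2 lc_c_rc_24_8 lc_c_rc_24_8 lc_c_rc_11_1 lc_c_rc_11_1 lc_c_rc_13_2 lc_c_rc_13_2 lc_c_Cert_tree lc_c_rc_7_5 lc_c_rc_2_3 lc_c_Cert_tree lc_c_rc_7_3 lc_c_rc_11_1 lc_c_rc_26_10 lc_c_Cert_tree lc_c_rc_24_4 lc_c_rc_7_5 lc_c_rc_7_5 lc_c_rc_7_5 lc_c_rc_22_9 lc_c_rc_11_1 lc_c_rc_22_7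 lc_c_Cert_tree lc_c_rc_11_1 lc_c_rc_14_2 lc_c_rc_13_2 lc_c_rc_22_5 lc_c_rc_13_2 lc_c_rc_11_1 lc_c_rc_13_2 lc_c_rc_7_1 lc_c_rc_11_1 lc_c_rc_7_3 lc_c_rc_24_2 lc_c_rc_14_2 lc_c_rc_11_1 lc_c_rc_13_2 lc_c_rc_26_2 lc_c_rc_11_1 lc_c_rc_13_2 lc_c_rc_13_2 lc_c_rc_13_2 lc_c_rc_11_1 lc_c_Cert_tree lc_c_rc_11_1) (@D3.rec (fun _ => (Cert rels S Gen.c)) lc_c_rc_13_2 lc_c_Cert_tree lc_c_Cert_tree lc_c_Cert_tree lc_c_rc_7_1 lc_c_Cert_tree lc_c_rc_14_2 lc_c_rc_26_2 lc_c_Cert_tree lc_c_rc_14_2 lc_c_rc_24_4 lc_c_rc_11_1 lc_c_rc_14_2 lc_c_rc_26_4 lc_c_rc_13_2 lc_c_rc_13_2 lc_c_rc_13_2 lc_c_rc_26_2 lc_c_rc_26_10 lc_c_rc_11_1 lc_c_rc_7_5 lc_c_rc_26_2 lc_c_rc_26_10 lc_c_Cert_tree lc_c_rc_7_3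 lc_c_rc_24_2 lc_c_rc_24_2 lc_c_rc_11_1 lc_c_rc_26_8 lc_c_rc_11_1 lc_c_rc_13_2 lc_c_rc_11_1 lc_c_rc_26_10 lc_c_Cert_tree lc_c_rc_2_3 lc_c_Cert_tree lc_c_rc_11_1 lc_c_rc_11_1 lc_c_rc_22_7 lc_c_rc_13_2 lc_c_rc_13_0 lc_c_rc_24_4 lc_c_Cert_tree lc_c_Cert_tree lc_c_rc_13_0 lc_c_rc_11_1 lc_c_Cert_tree lc_c_rc_2_1 lc_c_rc_11_1 lc_c_Cert_tree lc_c_rc_13_2 lc_c_Cert_tree lc_c_Cert_tree lc_c_rc_11_1 lc_c_rc_24_8 lc_c_rc_23_5 lc_c_rc_2_3 lc_c_rc_2_1 lc_c_rc_11_1 lc_c_Cert_tree lc_c_rc_13_2 lc_c_rc_11_1) (@D3.rec (fun _ => (Cert rels S Gen.c)) lc_c_rc_13_2 lc_c_Cert_tree lc_c_Cert_tree lc_c_rc_11_1 lc_c_rc_12_2 lc_c_rc_24_8 lc_c_Cert_tree lc_c_rc_11_1 lc_c_rc_13_2 lc_c_rc_13_2 lc_c_rc_11_1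 lc_c_rc_11_1 lc_c_rc_7_3 lc_c_rc_22_7 lc_c_rc_14_2 lc_c_rc_13_2 lc_c_rc_23_0 lc_c_rc_11_1 lc_c_rc_2_3 lc_c_rc_23_0 lc_c_rc_7_5 lc_c_Cert_tree lc_c_Cert_tree lc_c_rc_2_3 lc_c_rc_24_2 lc_c_rc_13_2 lc_c_rc_22_3 lc_c_rc_23_5 lc_c_rc_11_1 lc_c_rc_23_0 lc_c_Cert_tree lc_c_rc_11_1 lc_c_rc_11_1 lc_c_rc_23_0 lc_c_rc_7_3 lc_c_rc_24_2 lc_c_rc_13_2 lc_c_rc_13_0 lc_c_rc_2_1 lc_c_rc_7_1 lc_c_Cert_tree lc_c_rc_13_2 lc_c_rc_24_8 lc_c_rc_23_0 lc_c_rc_11_1 lc_c_rc_11_1 lc_c_rc_11_1 lc_c_rc_2_3 lc_c_Cert_tree lc_c_rc_13_2 lc_c_rc_11_1 lc_c_rc_13_2 lc_c_rc_23_5 lc_c_Cert_tree lc_c_rc_7_3 lc_c_rc_24_8 lc_c_rc_11_1 lc_c_rc_11_1 lc_c_rc_13_2 lc_c_rc_11_1 lc_c_rc_12_2 lc_c_rc_11_1) (@D3.rec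 (fun _ => (Cert rels S Gen.c)) lc_c_rc_12_4 lc_c_rc_7_5 lc_c_rc_22_5 lc_c_rc_11_1 lc_c_rc_2_3 lc_c_Cert_tree lc_c_rc_11_1 lc_c_rc_13_2 lc_c_rc_14_2 lc_c_Cert_tree lc_c_rc_13_2 lc_c_rc_23_5 lc_c_rc_13_2 lc_c_rc_11_1 lc_c_rc_14_0 lc_c_rc_22_3 lc_c_Cert_tree lc_c_Cert_tree lc_c_rc_11_1 lc_c_rc_2_3 lc_c_rc_11_1 lc_c_rc_23_0 lc_c_rc_11_1 lc_c_rc_23_0 lc_c_Cert_tree lc_c_rc_11_1 lc_c_rc_7_3 lc_c_Cert_tree lc_c_rc_13_2 lc_c_Cert_tree lc_c_rc_13_2 lc_c_rc_7_5 lc_c_rc_11_1 lc_c_rc_23_0 lc_c_rc_22_3 lc_c_rc_11_1 lc_c_rc_13_2 lc_c_rc_23_5 lc_c_rc_23_5 lc_c_Cert_tree lc_c_rc_11_1 lc_c_rc_11_1 lc_c_rc_11_1 lc_c_rc_13_2 lc_c_rc_11_1 lc_c_rc_26_10 lc_c_Cert_tree lc_c_rc_14_2 lc_c_rc_11_1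 lc_c_rc_11_1 lc_c_rc_14_2 lc_c_rc_24_6 lc_c_rc_11_1 lc_c_rc_23_0 lc_c_rc_26_10 lc_c_rc_2_1 lc_c_rc_26_2 lc_c_rc_7_3 lc_c_rc_26_2 lc_c_rc_23_0 lc_c_rc_14_2 lc_c_rc_11_1) (@D3.rec (fun _ => (Cert rels S Gen.c)) lc_c_rc_13_2 lc_c_rc_13_0 lc_c_rc_13_2 lc_c_rc_14_2 lc_c_rc_11_1 lc_c_Cert_tree lc_c_Cert_tree lc_c_rc_24_2 lc_c_rc_14_2 lc_c_rc_13_2 lc_c_rc_11_1 lc_c_rc_11_1 lc_c_rc_11_1 lc_c_rc_11_1 lc_c_rc_13_2 lc_c_Cert_tree lc_c_Cert_tree lc_c_rc_2_3 lc_c_Cert_tree lc_c_rc_11_1 lc_c_rc_23_5 lc_c_rc_13_2 lc_c_rc_22_3 lc_c_rc_7_3 lc_c_rc_22_5 lc_c_Cert_tree lc_c_Cert_tree lc_c_Cert_tree lc_c_rc_11_1 lc_c_rc_14_2 lc_c_rc_7_3 lc_c_rc_11_1 lc_c_rc_7_3 lc_c_rc_23_0 lc_c_Cert_tree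 lc_c_rc_11_1 lc_c_rc_2_3 lc_c_Cert_tree lc_c_rc_24_4 lc_c_rc_22_5 lc_c_rc_11_1 lc_c_rc_13_2 lc_c_rc_26_4 lc_c_rc_11_1 lc_c_rc_13_2 lc_c_rc_26_4 lc_c_rc_11_1 lc_c_rc_13_2 lc_c_rc_2_3 lc_c_rc_11_1 lc_c_rc_13_2 lc_c_Cert_tree lc_c_Cert_tree lc_c_rc_24_8 lc_c_rc_14_2 lc_c_rc_7_5 lc_c_rc_13_2 lc_c_rc_25_17 lc_c_rc_7_5 lc_c_rc_7_5 lc_c_Cert_tree lc_c_rc_13_2)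
def ce_c_7 : D2 → D3 → (Cert rels S Gen.c) := @D2.rec (fun _ => D3 → (Cert rels S Gen.c)) (@D3.rec (fun _ => (Cert rels S Gen.c)) lc_c_rc_11_1 lc_c_Cert_tree lc_c_Cert_tree lc_c_rc_11_1 lc_c_rc_22_3 lc_c_Cert_tree lc_c_rc_13_2 lc_c_rc_14_0 lc_c_rc_11_1 lc_c_Cert_tree lc_c_rc_13_2 lc_c_rc_11_1 lc_c_rc_13_2 lc_c_Cert_tree lc_c_rc_11_1 lc_c_rc_11_1 lc_c_rc_11_1 lc_c_rc_11_1 lc_c_rc_2_3 lc_c_rc_13_2 lc_c_Cert_tree lc_c_rc_14_2 lc_c_rc_13_2 lc_c_Cert_tree lc_c_Cert_tree lc_c_rc_11_1 lc_c_Cert_tree lc_c_rc_26_4 lc_c_rc_13_2 lc_c_rc_22_3 lc_c_rc_13_2 lc_c_rc_26_10 lc_c_rc_13_2 lc_c_rc_13_2 lc_c_rc_26_2 lc_c_rc_24_2 lc_c_rc_23_5 lc_c_rc_24_4 lc_c_rc_22_3 lc_c_rc_23_0 lc_c_rc_11_1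 lc_c_rc_11_1 lc_c_rc_2_3 lc_c_rc_7_1 lc_c_rc_13_2 lc_c_rc_13_2 lc_c_Cert_tree lc_c_rc_23_5 lc_c_rc_13_2 lc_c_rc_11_1 lc_c_rc_13_2 lc_c_rc_13_2 lc_c_rc_13_2 lc_c_rc_13_2 lc_c_rc_13_2 lc_c_rc_26_2 lc_c_Cert_tree lc_c_rc_14_2 lc_c_rc_13_2 lc_c_Cert_tree lc_c_Cert_tree lc_c_rc_14_2) (@D3.rec (fun _ => (Cert rels S Gen.c)) lc_c_rc_7_3 lc_c_Cert_tree lc_c_rc_13_2 lc_c_rc_7_5 lc_c_Cert_tree lc_c_rc_13_2 lc_c_Cert_tree lc_c_Cert_tree lc_c_rc_11_1 lc_c_rc_22_5 lc_c_rc_7_3 lc_c_Cert_tree lc_c_rc_13_2 lc_c_rc_11_1 lc_c_rc_13_2 lc_c_rc_26_2 lc_c_rc_11_1 lc_c_rc_13_2 lc_c_rc_7_5 lc_c_rc_13_2 lc_c_Cert_tree lc_c_rc_13_2 lc_c_rc_2_3 lc_c_rc_13_2 lc_c_Cert_tree lc_c_rc_22_3 lc_c_Cert_tree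 lc_c_rc_11_1 lc_c_rc_26_10 lc_c_rc_13_2 lc_c_rc_14_2 lc_c_rc_26_4 lc_c_rc_13_2 lc_c_rc_26_2 lc_c_rc_13_2 lc_c_rc_13_2 lc_c_rc_13_2 lc_c_rc_11_1 lc_c_rc_11_1 lc_c_Cert_tree lc_c_rc_14_2 lc_c_rc_23_0 lc_c_rc_11_1 lc_c_Cert_tree lc_c_rc_7_5 lc_c_rc_2_3 lc_c_rc_22_3 lc_c_rc_11_1 lc_c_rc_14_2 lc_c_rc_11_1 lc_c_rc_26_2 lc_c_rc_26_4 lc_c_Cert_tree lc_c_rc_11_1 lc_c_rc_26_10 lc_c_Cert_tree lc_c_rc_14_2 lc_c_rc_7_3 lc_c_rc_11_1 lc_c_Cert_tree lc_c_rc_13_2 lc_c_rc_11_1) (@D3.rec (fun _ => (Cert rels S Gen.c)) lc_c_Cert_tree lc_c_rc_24_4 lc_c_Cert_tree lc_c_Cert_tree lc_c_rc_11_1 lc_c_rc_14_2 lc_c_rc_14_2 lc_c_rc_23_0 lc_c_rc_7_3 lc_c_rc_26_4 lc_c_rc_11_1 lc_c_rc_25_17 lc_c_rc_13_2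 lc_c_rc_26_8 lc_c_rc_11_1 lc_c_rc_25_17 lc_c_rc_13_2 lc_c_rc_26_10 lc_c_rc_23_0 lc_c_rc_11_1 lc_c_rc_14_2 lc_c_rc_14_2 lc_c_rc_24_8 lc_c_rc_7_5 lc_c_Cert_tree lc_c_Cert_tree lc_c_rc_2_1 lc_c_rc_11_1 lc_c_Cert_tree lc_c_rc_13_2 lc_c_rc_26_8 lc_c_rc_23_5 lc_c_rc_13_2 lc_c_Cert_tree lc_c_Cert_tree lc_c_rc_11_1 lc_c_rc_13_2 lc_c_rc_23_0 lc_c_Cert_tree lc_c_rc_11_1 lc_c_rc_11_1 lc_c_Cert_tree lc_c_rc_11_1 lc_c_Cert_tree lc_c_rc_7_5 lc_c_rc_13_2 lc_c_rc_11_1 lc_c_rc_13_2 lc_c_Cert_tree lc_c_Cert_tree lc_c_rc_11_1 lc_c_rc_13_2 lc_c_rc_24_2 lc_c_rc_11_1 lc_c_rc_13_2 lc_c_rc_11_1 lc_c_rc_11_1 lc_c_rc_7_3 lc_c_rc_22_7 lc_c_rc_14_2 lc_c_rc_13_2 lc_c_Cert_tree) (@D3.rec (fun _ =>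 (Cert rels S Gen.c)) lc_c_rc_11_1 lc_c_Cert_tree lc_c_rc_13_2 lc_c_rc_7_1 lc_c_Cert_tree lc_c_rc_24_2 lc_c_Cert_tree lc_c_Cert_tree lc_c_rc_11_1 lc_c_rc_26_4 lc_c_rc_13_2 lc_c_rc_7_1 lc_c_Cert_tree lc_c_rc_13_2 lc_c_rc_24_6 lc_c_rc_11_1 lc_c_rc_26_4 lc_c_rc_23_0 lc_c_rc_23_0 lc_c_rc_24_8 lc_c_rc_14_0 lc_c_Cert_tree lc_c_Cert_tree lc_c_rc_13_2 lc_c_Cert_tree lc_c_Cert_tree lc_c_rc_11_1 lc_c_rc_13_2 lc_c_rc_23_5 lc_c_Cert_tree lc_c_rc_14_2 lc_c_rc_11_1 lc_c_rc_11_1 lc_c_rc_7_3 lc_c_rc_24_8 lc_c_rc_13_2 lc_c_rc_11_1 lc_c_rc_26_2 lc_c_rc_2_1 lc_c_rc_7_1 lc_c_Cert_tree lc_c_rc_13_2 lc_c_rc_13_0 lc_c_rc_2_3 lc_c_rc_11_1 lc_c_rc_13_2 lc_c_rc_11_1 lc_c_rc_11_1 lc_c_rc_2_3 lc_c_rc_13_2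 lc_c_rc_13_2 lc_c_rc_11_1 lc_c_rc_13_2 lc_c_rc_23_5 lc_c_Cert_tree lc_c_rc_7_3 lc_c_rc_24_8 lc_c_rc_11_1 lc_c_rc_23_5 lc_c_rc_11_1 lc_c_Cert_tree lc_c_rc_11_1) (@D3.rec (fun _ => (Cert rels S Gen.c)) lc_c_rc_11_1 lc_c_Cert_tree lc_c_rc_13_2 lc_c_rc_13_2 lc_c_rc_26_2 lc_c_rc_22_5 lc_c_rc_13_2 lc_c_rc_11_1 lc_c_rc_7_5 lc_c_rc_11_1 lc_c_rc_24_2 lc_c_rc_13_2 lc_c_rc_11_1 lc_c_rc_11_1 lc_c_rc_23_5 lc_c_rc_11_1 lc_c_rc_11_1 lc_c_rc_7_3 lc_c_rc_13_2 lc_c_rc_11_1 lc_c_rc_11_1 lc_c_Cert_tree lc_c_rc_13_2 lc_c_Cert_tree lc_c_Cert_tree lc_c_rc_11_1 lc_c_Cert_tree lc_c_rc_7_3 lc_c_Cert_tree lc_c_rc_13_2 lc_c_rc_11_1 lc_c_rc_14_0 lc_c_rc_11_1 lc_c_Cert_tree lc_c_Cert_tree lc_c_Cert_tree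 lc_c_Cert_tree lc_c_rc_11_1 lc_c_rc_13_2 lc_c_rc_23_5 lc_c_rc_23_5 lc_c_rc_23_0 lc_c_rc_14_2 lc_c_rc_11_1 lc_c_rc_24_4 lc_c_Cert_tree lc_c_rc_11_1 lc_c_Cert_tree lc_c_rc_11_1 lc_c_rc_11_1 lc_c_rc_11_1 lc_c_rc_13_2 lc_c_Cert_tree lc_c_rc_7_3 lc_c_Cert_tree lc_c_rc_13_2 lc_c_rc_11_1 lc_c_rc_7_5 lc_c_Cert_tree lc_c_Cert_tree lc_c_Cert_tree lc_c_Cert_tree) (@D3.rec (fun _ => (Cert rels S Gen.c)) lc_c_rc_11_1 lc_c_rc_13_2 lc_c_rc_11_1 lc_c_rc_11_1 lc_c_Cert_tree lc_c_rc_11_1 lc_c_rc_11_1 lc_c_rc_23_0 lc_c_rc_24_8 lc_c_Cert_tree lc_c_rc_26_4 lc_c_rc_11_1 lc_c_rc_11_1 lc_c_rc_24_6 lc_c_rc_11_1 lc_c_rc_23_5 lc_c_rc_7_3 lc_c_rc_22_5 lc_c_rc_7_3 lc_c_rc_22_5 lc_c_rc_11_1 lc_c_rc_11_1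 lc_c_rc_11_1 lc_c_rc_11_1 lc_c_rc_24_4 lc_c_rc_11_1 lc_c_rc_13_2 lc_c_rc_14_2 lc_c_rc_13_2 lc_c_rc_11_1 lc_c_rc_7_3 lc_c_rc_11_1 lc_c_rc_23_5 lc_c_rc_13_2 lc_c_rc_13_2 lc_c_rc_22_5 lc_c_rc_13_2 lc_c_rc_7_3 lc_c_rc_13_2 lc_c_rc_26_8 lc_c_rc_11_1 lc_c_rc_14_2 lc_c_rc_13_2 lc_c_rc_7_5 lc_c_Cert_tree lc_c_rc_7_5 lc_c_Cert_tree lc_c_rc_13_2 lc_c_Cert_tree lc_c_Cert_tree lc_c_rc_11_1 lc_c_rc_14_2 lc_c_rc_13_2 lc_c_Cert_tree lc_c_rc_13_2 lc_c_rc_11_1 lc_c_rc_7_5 lc_c_Cert_tree lc_c_rc_7_3 lc_c_rc_7_5 lc_c_rc_7_5 lc_c_Cert_tree) (@D3.rec (fun _ => (Cert rels S Gen.c)) lc_c_rc_11_1 lc_c_rc_2_3 lc_c_rc_23_0 lc_c_rc_13_2 lc_c_rc_13_2 lc_c_rc_13_2 lc_c_rc_2_3 lc_c_rc_2_3 lc_c_rc_7_3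 lc_c_Cert_tree lc_c_rc_11_1 lc_c_Cert_tree lc_c_rc_13_2 lc_c_rc_14_2 lc_c_rc_7_5 lc_c_rc_11_1 lc_c_rc_14_2 lc_c_rc_7_3 lc_c_Cert_tree lc_c_rc_13_2 lc_c_rc_26_4 lc_c_rc_11_1 lc_c_Cert_tree lc_c_rc_13_2 lc_c_rc_24_2 lc_c_rc_13_2 lc_c_Cert_tree lc_c_Cert_tree lc_c_Cert_tree lc_c_rc_14_2 lc_c_rc_7_5 lc_c_Cert_tree lc_c_Cert_tree lc_c_rc_14_2 lc_c_rc_7_5 lc_c_Cert_tree lc_c_rc_26_8 lc_c_Cert_tree lc_c_rc_13_2 lc_c_Cert_tree lc_c_Cert_tree lc_c_rc_11_1 lc_c_rc_14_2 lc_c_rc_13_2 lc_c_rc_13_2 lc_c_Cert_tree lc_c_rc_11_1 lc_c_Cert_tree lc_c_rc_7_3 lc_c_Cert_tree lc_c_rc_11_1 lc_c_rc_11_1 lc_c_rc_7_5 lc_c_rc_22_5 lc_c_rc_13_2 lc_c_Cert_tree lc_c_Cert_tree lc_c_rc_7_3 lc_c_Cert_tree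 lc_c_rc_13_2 lc_c_rc_13_2 lc_c_Cert_tree) (@D3.rec (fun _ => (Cert rels S Gen.c)) lc_c_Cert_tree lc_c_rc_13_2 lc_c_rc_26_10 lc_c_rc_11_1 lc_c_Cert_tree lc_c_rc_14_2 lc_c_rc_2_3 lc_c_rc_13_2 lc_c_rc_26_10 lc_c_rc_26_10 lc_c_rc_26_8 lc_c_rc_14_2 lc_c_rc_26_2 lc_c_Cert_tree lc_c_rc_22_3 lc_c_rc_11_1 lc_c_Cert_tree lc_c_Cert_tree lc_c_Cert_tree lc_c_rc_11_1 lc_c_rc_14_2 lc_c_rc_7_3 lc_c_rc_22_3 lc_c_rc_13_2 lc_c_rc_11_1 lc_c_rc_23_0 lc_c_rc_13_2 lc_c_rc_24_2 lc_c_rc_7_5 lc_c_rc_14_2 lc_c_rc_2_3 lc_c_rc_13_2 lc_c_rc_14_2 lc_c_rc_13_2 lc_c_rc_13_2 lc_c_rc_25_5 lc_c_rc_2_3 lc_c_Cert_tree lc_c_rc_11_1 lc_c_rc_26_10 lc_c_Cert_tree lc_c_rc_2_3 lc_c_rc_14_2 lc_c_rc_23_5 lc_c_Cert_tree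 lc_c_Cert_tree lc_c_rc_11_1 lc_c_rc_11_1 lc_c_rc_13_2 lc_c_rc_7_5 lc_c_rc_13_2 lc_c_rc_13_2 lc_c_rc_13_2 lc_c_Cert_tree lc_c_rc_11_1 lc_c_Cert_tree lc_c_rc_26_4 lc_c_rc_11_1 lc_c_rc_26_10 lc_c_Cert_tree lc_c_rc_24_8 lc_c_rc_26_4) (@D3.rec (fun _ => (Cert rels S Gen.c)) lc_c_rc_11_1 lc_c_rc_14_2 lc_c_rc_13_2 lc_c_rc_13_2 lc_c_rc_11_1 lc_c_rc_26_10 lc_c_Cert_tree lc_c_rc_26_10 lc_c_rc_11_1 lc_c_rc_26_8 lc_c_rc_14_2 lc_c_rc_24_2 lc_c_rc_24_2 lc_c_rc_11_1 lc_c_Cert_tree lc_c_rc_24_2 lc_c_rc_13_2 lc_c_rc_11_1 lc_c_rc_23_0 lc_c_Cert_tree lc_c_rc_14_2 lc_c_rc_7_3 lc_c_rc_11_1 lc_c_Cert_tree lc_c_rc_23_5 lc_c_rc_11_1 lc_c_Cert_tree lc_c_Cert_tree lc_c_Cert_tree lc_c_rc_11_1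 lc_c_rc_14_2 lc_c_Cert_tree lc_c_rc_2_1 lc_c_rc_11_1 lc_c_Cert_tree lc_c_rc_26_4 lc_c_rc_13_2 lc_c_rc_13_0 lc_c_rc_13_2 lc_c_Cert_tree lc_c_Cert_tree lc_c_rc_11_1 lc_c_rc_13_2 lc_c_Cert_tree lc_c_rc_11_1 lc_c_Cert_tree lc_c_rc_11_1 lc_c_rc_22_3 lc_c_rc_13_2 lc_c_rc_22_3 lc_c_rc_13_2 lc_c_rc_11_1 lc_c_rc_13_2 lc_c_rc_23_0 lc_c_rc_26_8 lc_c_Cert_tree lc_c_rc_11_1 lc_c_rc_11_1 lc_c_rc_13_2 lc_c_Cert_tree lc_c_rc_11_1 lc_c_Cert_tree) (@D3.rec (fun _ => (Cert rels S Gen.c)) lc_c_rc_13_2 lc_c_rc_11_1 lc_c_rc_22_7 lc_c_rc_7_3 lc_c_rc_12_4 lc_c_rc_14_2 lc_c_rc_13_2 lc_c_rc_26_2 lc_c_rc_13_2 lc_c_rc_7_1 lc_c_Cert_tree lc_c_rc_24_2 lc_c_rc_24_2 lc_c_rc_23_0 lc_c_rc_7_5 lc_c_Cert_tree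 lc_c_Cert_tree lc_c_rc_2_3 lc_c_Cert_tree lc_c_rc_11_1 lc_c_Cert_tree lc_c_Cert_tree lc_c_rc_11_1 lc_c_rc_13_2 lc_c_rc_23_0 lc_c_Cert_tree lc_c_rc_11_1 lc_c_Cert_tree lc_c_rc_7_3 lc_c_rc_22_5 lc_c_rc_7_1 lc_c_Cert_tree lc_c_rc_13_2 lc_c_Cert_tree lc_c_rc_11_1 lc_c_rc_26_8 lc_c_rc_11_1 lc_c_rc_2_3 lc_c_Cert_tree lc_c_rc_13_2 lc_c_rc_11_1 lc_c_rc_13_2 lc_c_Cert_tree lc_c_rc_14_2 lc_c_rc_7_3 lc_c_rc_11_1 lc_c_rc_23_5 lc_c_rc_26_10 lc_c_rc_26_2 lc_c_rc_11_1 lc_c_rc_11_1 lc_c_rc_26_4 lc_c_rc_11_1 lc_c_rc_22_5 lc_c_rc_24_6 lc_c_Cert_tree lc_c_rc_11_1 lc_c_rc_13_2 lc_c_rc_13_2 lc_c_rc_7_3 lc_c_rc_23_0 lc_c_rc_7_3) (@D3.rec (fun _ => (Cert rels S Gen.c)) lc_c_Cert_tree lc_c_rc_7_5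 lc_c_rc_2_3 lc_c_Cert_tree lc_c_rc_13_2 lc_c_rc_7_1 lc_c_rc_13_2 lc_c_rc_11_1 lc_c_rc_22_7 lc_c_rc_2_3 lc_c_rc_24_4 lc_c_rc_2_3 lc_c_Cert_tree lc_c_rc_13_2 lc_c_rc_13_2 lc_c_rc_11_1 lc_c_Cert_tree lc_c_rc_14_2 lc_c_rc_11_1 lc_c_Cert_tree lc_c_Cert_tree lc_c_Cert_tree lc_c_rc_11_1 lc_c_Cert_tree lc_c_rc_26_4 lc_c_rc_13_2 lc_c_Cert_tree lc_c_Cert_tree lc_c_Cert_tree lc_c_rc_11_1 lc_c_Cert_tree lc_c_rc_13_2 lc_c_rc_13_2 lc_c_Cert_tree lc_c_rc_13_0 lc_c_rc_26_4 lc_c_rc_11_1 lc_c_Cert_tree lc_c_rc_11_1 lc_c_rc_7_5 lc_c_Cert_tree lc_c_Cert_tree lc_c_Cert_tree lc_c_rc_11_1 lc_c_rc_13_2 lc_c_rc_14_2 lc_c_Cert_tree lc_c_rc_13_2 lc_c_rc_7_3 lc_c_rc_13_2 lc_c_Cert_tree lc_c_Cert_tree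 lc_c_rc_14_2 lc_c_rc_13_2 lc_c_Cert_tree lc_c_Cert_tree lc_c_rc_11_1 lc_c_rc_13_2 lc_c_rc_11_1 lc_c_rc_11_1 lc_c_rc_11_1 lc_c_rc_14_2) (@D3.rec (fun _ => (Cert rels S Gen.c)) lc_c_Cert_tree lc_c_rc_11_1 lc_c_rc_11_1 lc_c_Cert_tree lc_c_rc_14_0 lc_c_Cert_tree lc_c_rc_13_2 lc_c_rc_11_1 lc_c_rc_7_5 lc_c_Cert_tree lc_c_Cert_tree lc_c_Cert_tree lc_c_rc_11_1 lc_c_rc_13_2 lc_c_rc_22_3 lc_c_rc_11_1 lc_c_Cert_tree lc_c_rc_11_1 lc_c_rc_11_1 lc_c_Cert_tree lc_c_rc_11_1 lc_c_rc_11_1 lc_c_rc_7_3 lc_c_rc_22_5 lc_c_rc_7_3 lc_c_rc_22_5 lc_c_rc_26_4 lc_c_rc_26_8 lc_c_rc_11_1 lc_c_rc_13_2 lc_c_rc_11_1 lc_c_rc_24_6 lc_c_rc_26_8 lc_c_rc_11_1 lc_c_Cert_tree lc_c_rc_11_1 lc_c_rc_7_1 lc_c_Cert_tree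 lc_c_rc_7_3 lc_c_rc_22_5 lc_c_rc_13_2 lc_c_Cert_tree lc_c_Cert_tree lc_c_rc_2_3 lc_c_rc_13_2 lc_c_rc_13_2 lc_c_rc_13_2 lc_c_rc_7_3 lc_c_rc_22_5 lc_c_rc_7_3 lc_c_rc_13_2 lc_c_rc_7_5 lc_c_rc_11_1 lc_c_rc_13_2 lc_c_rc_11_1 lc_c_rc_13_2 lc_c_rc_11_1 lc_c_rc_7_5 lc_c_rc_11_1 lc_c_rc_13_2 lc_c_Cert_tree lc_c_rc_13_2) (@D3.rec (fun _ => (Cert rels S Gen.c)) lc_c_rc_7_3 lc_c_rc_13_2 lc_c_rc_13_2 lc_c_Cert_tree lc_c_Cert_tree lc_c_Cert_tree lc_c_rc_11_1 lc_c_rc_13_2 lc_c_rc_24_2 lc_c_rc_13_2 lc_c_rc_26_10 lc_c_Cert_tree lc_c_rc_7_5 lc_c_rc_12_2 lc_c_rc_13_2 lc_c_rc_7_5 lc_c_Cert_tree lc_c_Cert_tree lc_c_rc_23_5 lc_c_rc_11_1 lc_c_rc_26_4 lc_c_rc_7_3 lc_c_Cert_tree lc_c_rc_13_2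 lc_c_rc_11_1 lc_c_rc_23_5 lc_c_rc_13_2 lc_c_rc_23_0 lc_c_rc_11_1 lc_c_rc_13_2 lc_c_rc_13_2 lc_c_rc_13_2 lc_c_rc_2_3 lc_c_Cert_tree lc_c_rc_14_2 lc_c_rc_12_14 lc_c_rc_7_5 lc_c_Cert_tree lc_c_rc_7_1 lc_c_rc_7_5 lc_c_Cert_tree lc_c_rc_13_2 lc_c_Cert_tree lc_c_Cert_tree lc_c_rc_11_1 lc_c_rc_14_2 lc_c_rc_7_3 lc_c_Cert_tree lc_c_rc_7_5 lc_c_rc_7_5 lc_c_Cert_tree lc_c_rc_14_2 lc_c_rc_11_1 lc_c_Cert_tree lc_c_rc_13_2 lc_c_rc_11_1 lc_c_rc_23_5 lc_c_rc_13_2 lc_c_Cert_tree lc_c_Cert_tree lc_c_Cert_tree lc_c_rc_14_2) (@D3.rec (fun _ => (Cert rels S Gen.c)) lc_c_rc_7_5 lc_c_Cert_tree lc_c_rc_26_4 lc_c_Cert_tree lc_c_Cert_tree lc_c_Cert_tree lc_c_rc_11_1 lc_c_rc_14_2 lc_c_rc_2_3 lc_c_rc_11_1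 lc_c_Cert_tree lc_c_rc_11_1 lc_c_Cert_tree lc_c_rc_11_1 lc_c_rc_11_1 lc_c_rc_13_2 lc_c_Cert_tree lc_c_rc_14_2 lc_c_Cert_tree lc_c_Cert_tree lc_c_Cert_tree lc_c_rc_13_2 lc_c_rc_11_1 lc_c_rc_11_1 lc_c_rc_11_1 lc_c_rc_13_2 lc_c_rc_14_2 lc_c_rc_13_2 lc_c_Cert_tree lc_c_rc_13_2 lc_c_rc_7_3 lc_c_rc_13_2 lc_c_rc_13_2 lc_c_Cert_tree lc_c_Cert_tree lc_c_rc_7_5 lc_c_rc_26_2 lc_c_rc_7_5 lc_c_rc_23_0 lc_c_rc_13_2 lc_c_rc_11_1 lc_c_rc_24_8 lc_c_rc_11_1 lc_c_rc_13_2 lc_c_rc_13_2 lc_c_rc_13_2 lc_c_rc_2_3 lc_c_Cert_tree lc_c_rc_14_2 lc_c_rc_26_10 lc_c_rc_23_5 lc_c_rc_7_5 lc_c_Cert_tree lc_c_rc_13_2 lc_c_rc_7_5 lc_c_Cert_tree lc_c_rc_24_8 lc_c_rc_24_8 lc_c_rc_11_1 lc_c_rc_14_2 lc_c_rc_7_3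 lc_c_Cert_tree) (@D3.rec (fun _ => (Cert rels S Gen.c)) lc_c_rc_11_1 lc_c_rc_13_2 lc_c_rc_26_2 lc_c_rc_11_1 lc_c_rc_13_2 lc_c_rc_7_5 lc_c_rc_13_2 lc_c_rc_2_3 lc_c_rc_11_1 lc_c_Cert_tree lc_c_Cert_tree lc_c_Cert_tree lc_c_rc_13_2 lc_c_rc_26_10 lc_c_Cert_tree lc_c_rc_14_2 lc_c_rc_24_2 lc_c_rc_24_2 lc_c_rc_11_1 lc_c_rc_13_2 lc_c_rc_26_10 lc_c_rc_26_10 lc_c_rc_14_2 lc_c_rc_24_8 lc_c_rc_24_8 lc_c_rc_11_1 lc_c_rc_14_2 lc_c_rc_7_5 lc_c_rc_26_2 lc_c_rc_26_2 lc_c_rc_11_1 lc_c_Cert_tree lc_c_rc_23_5 lc_c_rc_11_1 lc_c_Cert_tree lc_c_Cert_tree lc_c_Cert_tree lc_c_rc_11_1 lc_c_rc_14_2 lc_c_Cert_tree lc_c_rc_2_1 lc_c_rc_23_0 lc_c_Cert_tree lc_c_Cert_tree lc_c_rc_11_1 lc_c_rc_13_2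 lc_c_rc_26_4 lc_c_Cert_tree lc_c_rc_11_1 lc_c_Cert_tree lc_c_rc_7_3 lc_c_rc_11_1 lc_c_rc_13_2 lc_c_Cert_tree lc_c_rc_13_2 lc_c_rc_11_1 lc_c_rc_23_5 lc_c_rc_13_2 lc_c_Cert_tree lc_c_rc_11_1 lc_c_rc_13_2 lc_c_rc_13_2) (@D3.rec (fun _ => (Cert rels S Gen.c)) lc_c_rc_11_1 lc_c_rc_11_1 lc_c_rc_7_3 lc_c_rc_11_1 lc_c_rc_14_2 lc_c_rc_13_2 lc_c_rc_7_1 lc_c_Cert_tree lc_c_rc_7_5 lc_c_Cert_tree lc_c_rc_26_2 lc_c_rc_2_3 lc_c_Cert_tree lc_c_Cert_tree lc_c_Cert_tree lc_c_rc_11_1 lc_c_rc_13_2 lc_c_rc_24_4 lc_c_rc_7_5 lc_c_rc_2_3 lc_c_Cert_tree lc_c_rc_13_2 lc_c_rc_11_1 lc_c_rc_13_2 lc_c_rc_11_1 lc_c_Cert_tree lc_c_rc_26_2 lc_c_Cert_tree lc_c_rc_11_1 lc_c_rc_24_8 lc_c_rc_24_6 lc_c_rc_7_3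 lc_c_rc_22_7 lc_c_rc_11_1 lc_c_rc_23_0 lc_c_rc_13_2 lc_c_rc_11_1 lc_c_rc_11_1 lc_c_rc_13_2 lc_c_rc_11_1 lc_c_Cert_tree lc_c_rc_22_7 lc_c_Cert_tree lc_c_rc_11_1 lc_c_rc_13_2 lc_c_rc_24_4 lc_c_rc_11_1 lc_c_Cert_tree lc_c_Cert_tree lc_c_rc_11_1 lc_c_rc_13_2 lc_c_rc_22_5 lc_c_rc_7_1 lc_c_rc_7_5 lc_c_rc_26_2 lc_c_rc_22_3 lc_c_Cert_tree lc_c_rc_13_2 lc_c_Cert_tree lc_c_Cert_tree lc_c_Cert_tree lc_c_rc_11_1) (@D3.rec (fun _ => (Cert rels S Gen.c)) lc_c_Cert_tree lc_c_rc_7_5 lc_c_rc_13_2 lc_c_rc_22_5 lc_c_rc_26_10 lc_c_rc_26_10 lc_c_rc_2_3 lc_c_Cert_tree lc_c_rc_26_4 lc_c_Cert_tree lc_c_rc_11_1 lc_c_rc_13_2 lc_c_rc_7_3 lc_c_rc_13_2 lc_c_Cert_tree lc_c_Cert_tree lc_c_rc_14_2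 lc_c_rc_13_2 lc_c_Cert_tree lc_c_rc_11_1 lc_c_Cert_tree lc_c_rc_7_3 lc_c_Cert_tree lc_c_rc_14_2 lc_c_Cert_tree lc_c_rc_26_4 lc_c_rc_26_2 lc_c_rc_11_1 lc_c_rc_13_2 lc_c_Cert_tree lc_c_Cert_tree lc_c_rc_11_1 lc_c_rc_13_2 lc_c_Cert_tree lc_c_rc_11_1 lc_c_rc_11_1 lc_c_Cert_tree lc_c_rc_13_2 lc_c_Cert_tree lc_c_Cert_tree lc_c_Cert_tree lc_c_rc_11_1 lc_c_Cert_tree lc_c_rc_13_2 lc_c_rc_26_4 lc_c_rc_11_1 lc_c_rc_13_2 lc_c_rc_13_2 lc_c_Cert_tree lc_c_Cert_tree lc_c_Cert_tree lc_c_rc_14_2 lc_c_Cert_tree lc_c_rc_14_2 lc_c_rc_7_5 lc_c_Cert_tree lc_c_Cert_tree lc_c_Cert_tree lc_c_rc_13_2 lc_c_Cert_tree lc_c_rc_11_1 lc_c_rc_22_3) (@D3.rec (fun _ => (Cert rels S Gen.c)) lc_c_rc_7_3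 lc_c_Cert_tree lc_c_rc_13_2 lc_c_rc_11_1 lc_c_Cert_tree lc_c_rc_13_2 lc_c_rc_11_1 lc_c_rc_13_2 lc_c_rc_26_2 lc_c_rc_11_1 lc_c_rc_7_3 lc_c_Cert_tree lc_c_Cert_tree lc_c_rc_14_2 lc_c_rc_13_2 lc_c_rc_11_1 lc_c_rc_24_2 lc_c_rc_26_10 lc_c_rc_11_1 lc_c_rc_13_0 lc_c_rc_14_2 lc_c_rc_24_2 lc_c_rc_11_1 lc_c_rc_14_2 lc_c_rc_13_2 lc_c_rc_13_0 lc_c_rc_13_2 lc_c_rc_14_2 lc_c_rc_11_1 lc_c_Cert_tree lc_c_rc_2_3 lc_c_Cert_tree lc_c_Cert_tree lc_c_Cert_tree lc_c_rc_11_1 lc_c_rc_14_2 lc_c_Cert_tree lc_c_rc_11_1 lc_c_Cert_tree lc_c_rc_2_1 lc_c_Cert_tree lc_c_rc_11_1 lc_c_rc_13_2 lc_c_rc_14_2 lc_c_Cert_tree lc_c_rc_11_1 lc_c_Cert_tree lc_c_rc_7_3 lc_c_rc_11_1 lc_c_rc_13_2 lc_c_rc_11_1 lc_c_Cert_tree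 lc_c_rc_23_5 lc_c_Cert_tree lc_c_rc_11_1 lc_c_rc_13_2 lc_c_Cert_tree lc_c_rc_11_1 lc_c_rc_13_2 lc_c_rc_11_1 lc_c_rc_11_1 lc_c_rc_7_3) (@D3.rec (fun _ => (Cert rels S Gen.c)) lc_c_rc_22_7 lc_c_rc_14_2 lc_c_rc_13_2 lc_c_rc_13_2 lc_c_rc_7_1 lc_c_Cert_tree lc_c_rc_11_1 lc_c_Cert_tree lc_c_rc_26_4 lc_c_rc_23_0 lc_c_Cert_tree lc_c_rc_23_5 lc_c_Cert_tree lc_c_Cert_tree lc_c_rc_11_1 lc_c_rc_13_2 lc_c_rc_14_2 lc_c_rc_24_8 lc_c_rc_2_3 lc_c_rc_11_1 lc_c_rc_24_2 lc_c_rc_24_6 lc_c_rc_2_3 lc_c_Cert_tree lc_c_rc_13_2 lc_c_rc_11_1 lc_c_rc_13_2 lc_c_rc_26_10 lc_c_Cert_tree lc_c_rc_14_2 lc_c_rc_7_3 lc_c_rc_24_8 lc_c_rc_7_3 lc_c_rc_22_5 lc_c_rc_14_0 lc_c_Cert_tree lc_c_rc_13_2 lc_c_rc_14_0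 lc_c_Cert_tree lc_c_rc_11_1 lc_c_rc_13_2 lc_c_rc_11_1 lc_c_Cert_tree lc_c_rc_11_1 lc_c_rc_11_1 lc_c_rc_11_1 lc_c_rc_26_2 lc_c_rc_26_4 lc_c_rc_11_1 lc_c_rc_13_2 lc_c_Cert_tree lc_c_Cert_tree lc_c_Cert_tree lc_c_rc_11_1 lc_c_rc_13_2 lc_c_rc_26_2 lc_c_rc_13_2 lc_c_rc_13_2 lc_c_Cert_tree lc_c_rc_11_1 lc_c_Cert_tree lc_c_rc_26_4) (@D3.rec (fun _ => (Cert rels S Gen.c)) lc_c_rc_24_8 lc_c_rc_24_8 lc_c_rc_11_1 lc_c_rc_14_2 lc_c_rc_26_4 lc_c_rc_13_2 lc_c_rc_13_2 lc_c_rc_7_3 lc_c_rc_11_1 lc_c_rc_14_2 lc_c_rc_2_3 lc_c_rc_11_1 lc_c_rc_22_3 lc_c_rc_11_1 lc_c_Cert_tree lc_c_rc_2_3 lc_c_Cert_tree lc_c_rc_2_3 lc_c_Cert_tree lc_c_Cert_tree lc_c_rc_11_1 lc_c_rc_14_2 lc_c_Cert_tree lc_c_rc_13_2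 lc_c_Cert_tree lc_c_rc_22_9 lc_c_rc_13_2 lc_c_rc_11_1 lc_c_rc_2_3 lc_c_Cert_tree lc_c_rc_7_3 lc_c_rc_13_2 lc_c_rc_2_1 lc_c_Cert_tree lc_c_rc_11_1 lc_c_rc_13_2 lc_c_Cert_tree lc_c_rc_11_1 lc_c_rc_13_2 lc_c_rc_24_6 lc_c_rc_23_0 lc_c_rc_7_3 lc_c_rc_23_5 lc_c_rc_26_10 lc_c_rc_2_3 lc_c_Cert_tree lc_c_rc_11_1 lc_c_rc_13_2 lc_c_rc_23_0 lc_c_rc_24_2 lc_c_rc_11_1 lc_c_rc_13_2 lc_c_Cert_tree lc_c_rc_11_1 lc_c_rc_13_2 lc_c_rc_24_4 lc_c_rc_24_2 lc_c_rc_26_10 lc_c_rc_11_1 lc_c_rc_13_2 lc_c_Cert_tree lc_c_rc_7_3) (@D3.rec (fun _ => (Cert rels S Gen.c)) lc_c_rc_7_3 lc_c_rc_7_3 lc_c_rc_13_2 lc_c_Cert_tree lc_c_Cert_tree lc_c_rc_11_1 lc_c_rc_11_1 lc_c_rc_11_1 lc_c_rc_13_2 lc_c_rc_11_1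 lc_c_rc_11_1 lc_c_rc_11_1 lc_c_rc_23_5 lc_c_rc_7_3 lc_c_rc_22_5 lc_c_rc_13_2 lc_c_rc_2_3 lc_c_rc_14_2 lc_c_rc_13_2 lc_c_rc_26_8 lc_c_rc_23_5 lc_c_rc_13_2 lc_c_rc_24_6 lc_c_rc_13_2 lc_c_rc_13_2 lc_c_rc_11_1 lc_c_rc_11_1 lc_c_Cert_tree lc_c_rc_14_2 lc_c_Cert_tree lc_c_rc_13_2 lc_c_rc_24_8 lc_c_rc_23_0 lc_c_rc_23_0 lc_c_rc_23_5 lc_c_rc_26_2 lc_c_Cert_tree lc_c_rc_13_2 lc_c_rc_7_3 lc_c_Cert_tree lc_c_Cert_tree lc_c_Cert_tree lc_c_rc_11_1 lc_c_rc_22_9 lc_c_rc_7_3 lc_c_rc_22_3 lc_c_rc_13_2 lc_c_rc_11_1 lc_c_rc_11_1 lc_c_rc_13_2 lc_c_rc_7_3 lc_c_rc_7_5 lc_c_rc_7_5 lc_c_Cert_tree lc_c_rc_11_1 lc_c_rc_2_3 lc_c_Cert_tree lc_c_rc_22_5 lc_c_rc_11_1 lc_c_rc_11_1 lc_c_rc_13_2 lc_c_rc_11_1)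 (@D3.rec (fun _ => (Cert rels S Gen.c)) lc_c_rc_11_1 lc_c_rc_2_3 lc_c_rc_24_2 lc_c_rc_13_2 lc_c_rc_14_2 lc_c_rc_26_2 lc_c_rc_22_7 lc_c_rc_13_2 lc_c_rc_11_1 lc_c_rc_13_2 lc_c_Cert_tree lc_c_rc_13_2 lc_c_rc_13_2 lc_c_Cert_tree lc_c_Cert_tree lc_c_Cert_tree lc_c_Cert_tree lc_c_rc_14_2 lc_c_Cert_tree lc_c_rc_7_1 lc_c_Cert_tree lc_c_Cert_tree lc_c_rc_11_1 lc_c_rc_11_1 lc_c_rc_25_5 lc_c_rc_13_2 lc_c_rc_7_1 lc_c_rc_13_2 lc_c_Cert_tree lc_c_Cert_tree lc_c_Cert_tree lc_c_rc_14_2 lc_c_Cert_tree lc_c_rc_11_1 lc_c_Cert_tree lc_c_rc_14_2 lc_c_rc_7_5 lc_c_Cert_tree lc_c_Cert_tree lc_c_Cert_tree lc_c_rc_11_1 lc_c_rc_22_3 lc_c_rc_14_0 lc_c_rc_11_1 lc_c_Cert_tree lc_c_Cert_tree lc_c_rc_13_2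 lc_c_Cert_tree lc_c_rc_13_2 lc_c_rc_7_3 lc_c_rc_13_2 lc_c_rc_13_2 lc_c_rc_26_4 lc_c_rc_26_4 lc_c_Cert_tree lc_c_Cert_tree lc_c_rc_13_2 lc_c_rc_25_5 lc_c_rc_13_2 lc_c_Cert_tree lc_c_Cert_tree lc_c_Cert_tree) (@D3.rec (fun _ => (Cert rels S Gen.c)) lc_c_rc_14_2 lc_c_rc_26_2 lc_c_Cert_tree lc_c_rc_13_2 lc_c_rc_7_5 lc_c_Cert_tree lc_c_Cert_tree lc_c_Cert_tree lc_c_rc_11_1 lc_c_rc_11_1 lc_c_rc_11_1 lc_c_rc_13_2 lc_c_rc_26_2 lc_c_rc_13_2 lc_c_rc_13_2 lc_c_rc_24_2 lc_c_rc_13_2 lc_c_Cert_tree lc_c_rc_11_1 lc_c_rc_13_2 lc_c_rc_2_3 lc_c_Cert_tree lc_c_rc_11_1 lc_c_rc_24_2 lc_c_Cert_tree lc_c_Cert_tree lc_c_rc_11_1 lc_c_rc_7_5 lc_c_Cert_tree lc_c_rc_24_6 lc_c_rc_26_2 lc_c_Cert_tree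 lc_c_rc_13_2 lc_c_Cert_tree lc_c_Cert_tree lc_c_rc_11_1 lc_c_rc_14_2 lc_c_rc_7_3 lc_c_Cert_tree lc_c_rc_11_1 lc_c_rc_25_17 lc_c_rc_13_2 lc_c_rc_26_2 lc_c_rc_11_1 lc_c_rc_7_5 lc_c_rc_13_2 lc_c_Cert_tree lc_c_rc_13_2 lc_c_Cert_tree lc_c_rc_2_3 lc_c_rc_11_1 lc_c_rc_7_5 lc_c_Cert_tree lc_c_Cert_tree lc_c_Cert_tree lc_c_rc_11_1 lc_c_rc_26_10 lc_c_Cert_tree lc_c_rc_14_2 lc_c_rc_2_3 lc_c_rc_11_1 lc_c_rc_26_4) (@D3.rec (fun _ => (Cert rels S Gen.c)) lc_c_rc_13_2 lc_c_rc_24_4 lc_c_rc_13_2 lc_c_rc_22_3 lc_c_rc_13_2 lc_c_rc_26_10 lc_c_rc_22_3 lc_c_rc_13_2 lc_c_rc_7_3 lc_c_rc_26_10 lc_c_Cert_tree lc_c_rc_14_2 lc_c_rc_13_0 lc_c_rc_13_2 lc_c_Cert_tree lc_c_rc_14_2 lc_c_rc_24_4 lc_c_rc_11_1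 lc_c_rc_14_2 lc_c_Cert_tree lc_c_rc_11_1 lc_c_rc_11_1 lc_c_rc_23_0 lc_c_rc_23_0 lc_c_rc_2_1 lc_c_rc_13_2 lc_c_rc_26_4 lc_c_rc_24_4 lc_c_Cert_tree lc_c_rc_14_2 lc_c_Cert_tree lc_c_rc_11_1 lc_c_rc_11_1 lc_c_rc_13_2 lc_c_rc_24_2 lc_c_rc_24_6 lc_c_rc_14_2 lc_c_Cert_tree lc_c_rc_11_1 lc_c_Cert_tree lc_c_rc_13_2 lc_c_Cert_tree lc_c_rc_11_1 lc_c_Cert_tree lc_c_rc_23_5 lc_c_Cert_tree lc_c_Cert_tree lc_c_rc_11_1 lc_c_rc_14_2 lc_c_Cert_tree lc_c_rc_11_1 lc_c_Cert_tree lc_c_rc_13_2 lc_c_Cert_tree lc_c_rc_11_1 lc_c_rc_13_2 lc_c_rc_25_9 lc_c_rc_14_2 lc_c_rc_2_1 lc_c_Cert_tree lc_c_rc_13_2 lc_c_rc_11_1) (@D3.rec (fun _ => (Cert rels S Gen.c)) lc_c_rc_13_2 lc_c_Cert_tree lc_c_Cert_tree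 lc_c_rc_11_1 lc_c_rc_13_2 lc_c_Cert_tree lc_c_rc_11_1 lc_c_rc_13_2 lc_c_rc_24_2 lc_c_rc_11_1 lc_c_rc_7_3 lc_c_rc_22_7 lc_c_rc_14_2 lc_c_rc_13_2 lc_c_rc_7_3 lc_c_Cert_tree lc_c_rc_26_4 lc_c_rc_11_1 lc_c_Cert_tree lc_c_rc_13_2 lc_c_Cert_tree lc_c_Cert_tree lc_c_rc_11_1 lc_c_rc_13_2 lc_c_rc_14_2 lc_c_Cert_tree lc_c_rc_13_0 lc_c_rc_13_2 lc_c_rc_24_2 lc_c_rc_11_1 lc_c_rc_7_1 lc_c_Cert_tree lc_c_rc_13_2 lc_c_rc_24_4 lc_c_rc_11_1 lc_c_rc_13_0 lc_c_rc_13_2 lc_c_rc_11_1 lc_c_rc_13_2 lc_c_rc_14_2 lc_c_rc_25_5 lc_c_rc_13_2 lc_c_rc_24_8 lc_c_Cert_tree lc_c_Cert_tree lc_c_rc_11_1 lc_c_rc_13_2 lc_c_rc_13_2 lc_c_rc_24_4 lc_c_Cert_tree lc_c_rc_23_0 lc_c_Cert_tree lc_c_rc_11_1 lc_c_rc_13_2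 lc_c_Cert_tree lc_c_Cert_tree lc_c_rc_22_3 lc_c_rc_11_1 lc_c_rc_2_3 lc_c_rc_13_0 lc_c_rc_13_2 lc_c_rc_11_1) (@D3.rec (fun _ => (Cert rels S Gen.c)) lc_c_rc_11_1 lc_c_rc_2_1 lc_c_rc_13_2 lc_c_rc_25_13 lc_c_rc_13_2 lc_c_Cert_tree lc_c_rc_14_2 lc_c_rc_13_2 lc_c_rc_11_1 lc_c_rc_13_2 lc_c_rc_24_6 lc_c_rc_13_2 lc_c_rc_26_10 lc_c_rc_23_0 lc_c_rc_13_2 lc_c_rc_24_8 lc_c_rc_23_5 lc_c_Cert_tree lc_c_rc_26_2 lc_c_rc_13_2 lc_c_rc_13_2 lc_c_rc_11_1 lc_c_rc_13_2 lc_c_rc_26_10 lc_c_rc_11_1 lc_c_Cert_tree lc_c_rc_13_2 lc_c_rc_7_5 lc_c_Cert_tree lc_c_rc_7_5 lc_c_Cert_tree lc_c_Cert_tree lc_c_rc_7_5 lc_c_rc_11_1 lc_c_rc_13_2 lc_c_rc_2_1 lc_c_rc_11_1 lc_c_rc_7_3 lc_c_Cert_tree lc_c_rc_11_1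 lc_c_rc_11_1 lc_c_rc_14_0 lc_c_rc_11_1 lc_c_rc_11_1 lc_c_rc_26_10 lc_c_rc_25_17 lc_c_rc_14_0 lc_c_rc_7_3 lc_c_rc_11_1 lc_c_rc_13_2 lc_c_rc_11_1 lc_c_rc_13_2 lc_c_Cert_tree lc_c_rc_11_1 lc_c_rc_7_5 lc_c_rc_2_3 lc_c_rc_25_9 lc_c_rc_11_1 lc_c_rc_24_8 lc_c_rc_23_0 lc_c_rc_23_0 lc_c_rc_7_5) (@D3.rec (fun _ => (Cert rels S Gen.c)) lc_c_Cert_tree lc_c_rc_13_2 lc_c_rc_26_2 lc_c_Cert_tree lc_c_Cert_tree lc_c_Cert_tree lc_c_rc_7_5 lc_c_rc_7_3 lc_c_rc_24_8 lc_c_rc_2_1 lc_c_rc_11_1 lc_c_rc_7_3 lc_c_Cert_tree lc_c_rc_11_1 lc_c_rc_13_2 lc_c_rc_7_3 lc_c_rc_22_5 lc_c_rc_11_1 lc_c_rc_22_7 lc_c_rc_7_5 lc_c_rc_22_3 lc_c_Cert_tree lc_c_rc_14_2 lc_c_rc_2_3 lc_c_Cert_tree lc_c_rc_11_1 lc_c_rc_13_2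 lc_c_rc_24_6 lc_c_rc_11_1 lc_c_rc_7_3 lc_c_rc_26_4 lc_c_rc_11_1 lc_c_rc_13_2 lc_c_rc_24_4 lc_c_rc_13_2 lc_c_Cert_tree lc_c_Cert_tree lc_c_Cert_tree lc_c_Cert_tree lc_c_Cert_tree lc_c_rc_13_2 lc_c_rc_14_2 lc_c_rc_2_3 lc_c_rc_14_0 lc_c_rc_22_3 lc_c_rc_13_2 lc_c_Cert_tree lc_c_rc_11_1 lc_c_rc_11_1 lc_c_rc_2_3 lc_c_rc_23_5 lc_c_rc_13_2 lc_c_rc_13_2 lc_c_Cert_tree lc_c_rc_24_8 lc_c_rc_11_1 lc_c_rc_14_2 lc_c_rc_7_3 lc_c_rc_22_5 lc_c_rc_2_3 lc_c_rc_23_0 lc_c_rc_13_2) (@D3.rec (fun _ => (Cert rels S Gen.c)) lc_c_rc_13_2 lc_c_rc_11_1 lc_c_rc_2_3 lc_c_rc_14_2 lc_c_rc_11_1 lc_c_rc_11_1 lc_c_rc_11_1 lc_c_rc_14_2 lc_c_rc_7_3 lc_c_rc_22_9 lc_c_rc_26_8 lc_c_Cert_tree lc_c_rc_13_2 lc_c_rc_11_1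 lc_c_rc_11_1 lc_c_rc_22_3 lc_c_rc_14_2 lc_c_rc_11_1 lc_c_Cert_tree lc_c_rc_11_1 lc_c_rc_2_3 lc_c_rc_13_2 lc_c_rc_14_2 lc_c_rc_2_3 lc_c_rc_11_1 lc_c_rc_2_3 lc_c_rc_13_2 lc_c_rc_22_7 lc_c_rc_14_2 lc_c_rc_7_5 lc_c_rc_23_0 lc_c_rc_24_8 lc_c_rc_13_2 lc_c_rc_14_2 lc_c_rc_26_4 lc_c_rc_11_1 lc_c_rc_11_1 lc_c_rc_2_1 lc_c_rc_13_2 lc_c_rc_22_3 lc_c_Cert_tree lc_c_rc_13_2 lc_c_rc_7_3 lc_c_rc_13_2 lc_c_rc_23_5 lc_c_rc_13_2 lc_c_rc_13_2 lc_c_rc_26_10 lc_c_rc_11_1 lc_c_Cert_tree lc_c_rc_14_2 lc_c_rc_24_2 lc_c_rc_24_4 lc_c_Cert_tree lc_c_rc_14_2 lc_c_rc_26_2 lc_c_Cert_tree lc_c_rc_24_6 lc_c_rc_7_5 lc_c_Cert_tree lc_c_rc_13_2 lc_c_rc_24_8) (@D3.rec (fun _ => (Cert rels S Gen.c)) lc_c_rc_24_8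 lc_c_rc_11_1 lc_c_rc_14_2 lc_c_rc_7_3 lc_c_Cert_tree lc_c_rc_11_1 lc_c_Cert_tree lc_c_rc_7_3 lc_c_Cert_tree lc_c_rc_13_2 lc_c_rc_23_0 lc_c_rc_13_2 lc_c_rc_13_2 lc_c_rc_23_0 lc_c_Cert_tree lc_c_rc_24_4 lc_c_rc_24_2 lc_c_Cert_tree lc_c_rc_22_3 lc_c_Cert_tree lc_c_rc_23_5 lc_c_rc_26_2 lc_c_Cert_tree lc_c_rc_13_2 lc_c_rc_24_8 lc_c_rc_23_5 lc_c_rc_11_1 lc_c_rc_11_1 lc_c_rc_25_17 lc_c_rc_13_2 lc_c_rc_7_5 lc_c_Cert_tree lc_c_rc_13_2 lc_c_Cert_tree lc_c_rc_13_2 lc_c_rc_11_1 lc_c_rc_23_5 lc_c_rc_11_1 lc_c_rc_13_2 lc_c_Cert_tree lc_c_Cert_tree lc_c_Cert_tree lc_c_rc_14_2 lc_c_rc_13_0 lc_c_rc_26_10 lc_c_Cert_tree lc_c_rc_14_2 lc_c_rc_24_8 lc_c_rc_24_8 lc_c_rc_11_1 lc_c_rc_14_2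 lc_c_rc_26_4 lc_c_rc_13_2 lc_c_rc_13_2 lc_c_rc_13_2 lc_c_rc_11_1 lc_c_rc_26_10 lc_c_Cert_tree lc_c_rc_11_1 lc_c_rc_11_1 lc_c_Cert_tree lc_c_rc_14_2) (@D3.rec (fun _ => (Cert rels S Gen.c)) lc_c_rc_22_3 lc_c_rc_11_1 lc_c_Cert_tree lc_c_rc_11_1 lc_c_rc_13_2 lc_c_rc_11_1 lc_c_rc_26_10 lc_c_Cert_tree lc_c_rc_14_2 lc_c_rc_2_1 lc_c_rc_13_2 lc_c_rc_12_14 lc_c_Cert_tree lc_c_Cert_tree lc_c_rc_13_2 lc_c_rc_26_10 lc_c_rc_26_10 lc_c_Cert_tree lc_c_rc_14_2 lc_c_rc_26_4 lc_c_rc_11_1 lc_c_Cert_tree lc_c_rc_13_2 lc_c_rc_26_4 lc_c_rc_11_1 lc_c_Cert_tree lc_c_rc_13_2 lc_c_Cert_tree lc_c_Cert_tree lc_c_rc_11_1 lc_c_rc_14_2 lc_c_Cert_tree lc_c_rc_13_2 lc_c_Cert_tree lc_c_rc_14_0 lc_c_rc_11_1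 lc_c_rc_13_2 lc_c_Cert_tree lc_c_rc_11_1 lc_c_rc_2_3 lc_c_rc_22_9 lc_c_rc_13_2 lc_c_rc_11_1 lc_c_rc_13_2 lc_c_Cert_tree lc_c_rc_11_1 lc_c_rc_13_2 lc_c_rc_22_7 lc_c_rc_11_1 lc_c_rc_13_2 lc_c_rc_24_6 lc_c_rc_22_3 lc_c_rc_7_3 lc_c_rc_11_1 lc_c_Cert_tree lc_c_rc_26_10 lc_c_rc_2_3 lc_c_Cert_tree lc_c_rc_7_3 lc_c_rc_24_8 lc_c_Cert_tree lc_c_rc_11_1) (@D3.rec (fun _ => (Cert rels S Gen.c)) lc_c_rc_13_2 lc_c_rc_23_5 lc_c_rc_7_5 lc_c_rc_11_1 lc_c_rc_13_2 lc_c_Cert_tree lc_c_rc_7_3 lc_c_rc_11_1 lc_c_rc_13_2 lc_c_rc_12_2 lc_c_rc_22_3 lc_c_rc_26_4 lc_c_rc_11_1 lc_c_rc_26_4 lc_c_rc_13_2 lc_c_rc_11_1 lc_c_rc_26_2 lc_c_rc_13_2 lc_c_Cert_tree lc_c_Cert_tree lc_c_Cert_tree lc_c_rc_14_2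 lc_c_rc_7_5 lc_c_rc_12_14 lc_c_Cert_tree lc_c_rc_11_1 lc_c_rc_14_2 lc_c_rc_11_1 lc_c_rc_12_14 lc_c_rc_7_3 lc_c_Cert_tree lc_c_Cert_tree lc_c_rc_2_3 lc_c_Cert_tree lc_c_rc_13_2 lc_c_rc_23_5 lc_c_rc_26_10 lc_c_rc_11_1 lc_c_rc_11_1 lc_c_rc_22_9 lc_c_rc_14_2 lc_c_Cert_tree lc_c_rc_23_5 lc_c_rc_26_4 lc_c_rc_13_2 lc_c_rc_13_2 lc_c_rc_13_2 lc_c_rc_11_1 lc_c_rc_26_10 lc_c_Cert_tree lc_c_rc_26_2 lc_c_rc_24_2 lc_c_Cert_tree lc_c_rc_7_3 lc_c_rc_11_1 lc_c_rc_26_2 lc_c_rc_13_2 lc_c_rc_2_3 lc_c_rc_23_5 lc_c_rc_13_2 lc_c_rc_13_2 lc_c_Cert_tree) (@D3.rec (fun _ => (Cert rels S Gen.c)) lc_c_rc_11_1 lc_c_rc_7_3 lc_c_rc_11_1 lc_c_Cert_tree lc_c_rc_25_5 lc_c_rc_2_3 lc_c_Cert_tree lc_c_rc_7_3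 lc_c_rc_13_2 lc_c_rc_14_2 lc_c_rc_13_0 lc_c_rc_14_2 lc_c_rc_14_2 lc_c_rc_2_3 lc_c_rc_13_2 lc_c_rc_13_2 lc_c_Cert_tree lc_c_rc_11_1 lc_c_rc_23_5 lc_c_rc_13_2 lc_c_rc_13_2 lc_c_rc_11_1 lc_c_rc_2_3 lc_c_rc_13_2 lc_c_rc_24_8 lc_c_rc_14_2 lc_c_rc_22_7 lc_c_rc_7_1 lc_c_rc_13_2 lc_c_rc_13_0 lc_c_rc_11_1 lc_c_rc_13_0 lc_c_rc_14_2 lc_c_rc_13_2 lc_c_rc_26_4 lc_c_rc_11_1 lc_c_rc_26_4 lc_c_rc_11_1 lc_c_rc_13_2 lc_c_Cert_tree lc_c_rc_11_1 lc_c_rc_13_2 lc_c_Cert_tree lc_c_Cert_tree lc_c_Cert_tree lc_c_rc_13_0 lc_c_rc_22_9 lc_c_Cert_tree lc_c_rc_11_1 lc_c_rc_14_2 lc_c_rc_14_2 lc_c_Cert_tree lc_c_rc_13_2 lc_c_rc_14_2 lc_c_rc_26_4 lc_c_Cert_tree lc_c_rc_13_2 lc_c_Cert_tree lc_c_rc_13_2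 lc_c_rc_7_1 lc_c_rc_13_2 lc_c_Cert_tree) (@D3.rec (fun _ => (Cert rels S Gen.c)) lc_c_Cert_tree lc_c_rc_11_1 lc_c_rc_23_0 lc_c_Cert_tree lc_c_rc_11_1 lc_c_Cert_tree lc_c_rc_24_6 lc_c_rc_23_5 lc_c_rc_14_2 lc_c_rc_24_8 lc_c_rc_11_1 lc_c_rc_13_2 lc_c_rc_13_2 lc_c_rc_11_1 lc_c_rc_13_2 lc_c_rc_11_1 lc_c_rc_2_3 lc_c_Cert_tree lc_c_rc_14_2 lc_c_rc_24_2 lc_c_rc_11_1 lc_c_Cert_tree lc_c_rc_14_2 lc_c_rc_24_8 lc_c_rc_11_1 lc_c_rc_14_2 lc_c_rc_26_10 lc_c_rc_7_3 lc_c_rc_13_2 lc_c_rc_2_3 lc_c_Cert_tree lc_c_rc_13_2 lc_c_rc_11_1 lc_c_Cert_tree lc_c_Cert_tree lc_c_rc_14_2 lc_c_rc_26_4 lc_c_rc_24_4 lc_c_rc_26_2 lc_c_rc_26_8 lc_c_rc_24_2 lc_c_rc_13_2 lc_c_rc_24_2 lc_c_rc_23_5 lc_c_rc_11_1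 lc_c_rc_11_1 lc_c_rc_11_1 lc_c_rc_26_2 lc_c_Cert_tree lc_c_rc_14_2 lc_c_Cert_tree lc_c_rc_11_1 lc_c_rc_13_2 lc_c_rc_11_1 lc_c_rc_11_1 lc_c_Cert_tree lc_c_rc_2_1 lc_c_rc_2_1 lc_c_rc_11_1 lc_c_Cert_tree lc_c_rc_13_2 lc_c_Cert_tree) (@D3.rec (fun _ => (Cert rels S Gen.c)) lc_c_rc_11_1 lc_c_Cert_tree lc_c_rc_13_2 lc_c_Cert_tree lc_c_Cert_tree lc_c_rc_11_1 lc_c_rc_13_0 lc_c_Cert_tree lc_c_rc_26_4 lc_c_Cert_tree lc_c_rc_13_2 lc_c_rc_7_5 lc_c_rc_11_1 lc_c_rc_13_2 lc_c_rc_11_1 lc_c_rc_2_3 lc_c_Cert_tree lc_c_rc_11_1 lc_c_rc_11_1 lc_c_rc_13_2 lc_c_Cert_tree lc_c_Cert_tree lc_c_rc_11_1 lc_c_rc_11_1 lc_c_rc_13_2 lc_c_Cert_tree lc_c_rc_11_1 lc_c_rc_23_5 lc_c_rc_13_2 lc_c_rc_24_6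 lc_c_rc_24_6 lc_c_rc_7_1 lc_c_rc_22_7 lc_c_rc_14_2 lc_c_Cert_tree lc_c_Cert_tree lc_c_rc_13_2 lc_c_rc_11_1 lc_c_rc_13_2 lc_c_rc_13_2 lc_c_rc_7_3 lc_c_rc_11_1 lc_c_rc_11_1 lc_c_rc_13_2 lc_c_rc_13_2 lc_c_rc_13_2 lc_c_rc_26_10 lc_c_rc_11_1 lc_c_Cert_tree lc_c_Cert_tree lc_c_Cert_tree lc_c_Cert_tree lc_c_rc_11_1 lc_c_rc_2_1 lc_c_rc_26_10 lc_c_rc_11_1 lc_c_Cert_tree lc_c_Cert_tree lc_c_rc_13_2 lc_c_rc_11_1 lc_c_rc_13_2 lc_c_rc_2_3) (@D3.rec (fun _ => (Cert rels S Gen.c)) lc_c_Cert_tree lc_c_rc_14_2 lc_c_rc_13_0 lc_c_Cert_tree lc_c_rc_26_4 lc_c_rc_11_1 lc_c_rc_13_2 lc_c_rc_11_1 lc_c_rc_13_2 lc_c_Cert_tree lc_c_Cert_tree lc_c_Cert_tree lc_c_rc_14_2 lc_c_rc_26_4 lc_c_Cert_tree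 lc_c_rc_13_2 lc_c_Cert_tree lc_c_rc_13_2 lc_c_Cert_tree lc_c_Cert_tree lc_c_rc_11_1 lc_c_rc_7_3 lc_c_rc_11_1 lc_c_Cert_tree lc_c_rc_13_2 lc_c_Cert_tree lc_c_rc_11_1 lc_c_Cert_tree lc_c_rc_13_2 lc_c_rc_24_2 lc_c_rc_24_2 lc_c_rc_14_2 lc_c_rc_13_2 lc_c_Cert_tree lc_c_rc_14_2 lc_c_rc_13_2 lc_c_Cert_tree lc_c_rc_13_2 lc_c_Cert_tree lc_c_rc_7_5 lc_c_rc_13_2 lc_c_Cert_tree lc_c_rc_13_2 lc_c_Cert_tree lc_c_rc_13_2 lc_c_Cert_tree lc_c_rc_7_3 lc_c_rc_24_4 lc_c_rc_13_2 lc_c_Cert_tree lc_c_rc_13_2 lc_c_rc_13_2 lc_c_rc_11_1 lc_c_rc_13_2 lc_c_rc_2_3 lc_c_rc_11_1 lc_c_rc_22_7 lc_c_rc_13_2 lc_c_Cert_tree lc_c_Cert_tree lc_c_rc_14_2 lc_c_rc_11_1) (@D3.rec (fun _ => (Cert rels S Gen.c))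 lc_c_Cert_tree lc_c_rc_2_1 lc_c_rc_24_8 lc_c_rc_11_1 lc_c_rc_7_3 lc_c_Cert_tree lc_c_rc_11_1 lc_c_rc_26_8 lc_c_rc_11_1 lc_c_Cert_tree lc_c_rc_13_2 lc_c_Cert_tree lc_c_Cert_tree lc_c_rc_14_2 lc_c_rc_7_5 lc_c_Cert_tree lc_c_rc_13_2 lc_c_Cert_tree lc_c_rc_2_1 lc_c_rc_24_8 lc_c_rc_11_1 lc_c_rc_26_4 lc_c_rc_13_2 lc_c_rc_13_2 lc_c_rc_13_2 lc_c_rc_26_10 lc_c_rc_26_10 lc_c_Cert_tree lc_c_rc_14_2 lc_c_rc_23_0 lc_c_rc_11_1 lc_c_Cert_tree lc_c_rc_14_2 lc_c_rc_11_1 lc_c_rc_11_1 lc_c_rc_13_2 lc_c_rc_26_8 lc_c_rc_11_1 lc_c_rc_13_2 lc_c_rc_13_2 lc_c_rc_11_1 lc_c_rc_13_2 lc_c_Cert_tree lc_c_Cert_tree lc_c_Cert_tree lc_c_rc_11_1 lc_c_rc_26_10 lc_c_rc_25_17 lc_c_rc_14_2 lc_c_rc_2_1 lc_c_rc_11_1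 lc_c_rc_26_4 lc_c_rc_14_2 lc_c_rc_24_2 lc_c_rc_13_2 lc_c_rc_13_2 lc_c_rc_13_2 lc_c_Cert_tree lc_c_rc_14_2 lc_c_rc_26_10 lc_c_rc_7_1 lc_c_rc_13_2) (@D3.rec (fun _ => (Cert rels S Gen.c)) lc_c_rc_13_2 lc_c_rc_13_2 lc_c_Cert_tree lc_c_rc_14_2 lc_c_rc_11_1 lc_c_rc_23_5 lc_c_Cert_tree lc_c_rc_22_5 lc_c_Cert_tree lc_c_rc_14_2 lc_c_Cert_tree lc_c_rc_11_1 lc_c_rc_13_2 lc_c_rc_7_3 lc_c_rc_11_1 lc_c_rc_13_2 lc_c_rc_11_1 lc_c_rc_11_1 lc_c_rc_22_5 lc_c_rc_13_2 lc_c_Cert_tree lc_c_Cert_tree lc_c_Cert_tree lc_c_rc_23_5 lc_c_rc_26_4 lc_c_rc_11_1 lc_c_rc_23_5 lc_c_rc_13_2 lc_c_rc_7_3 lc_c_rc_11_1 lc_c_rc_13_2 lc_c_Cert_tree lc_c_Cert_tree lc_c_rc_11_1 lc_c_rc_22_3 lc_c_rc_26_8 lc_c_rc_11_1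 lc_c_Cert_tree lc_c_rc_13_2 lc_c_rc_11_1 lc_c_rc_11_1 lc_c_Cert_tree lc_c_rc_13_2 lc_c_Cert_tree lc_c_Cert_tree lc_c_rc_11_1 lc_c_rc_14_2 lc_c_rc_11_1 lc_c_rc_11_1 lc_c_rc_13_2 lc_c_Cert_tree lc_c_rc_11_1 lc_c_rc_13_2 lc_c_Cert_tree lc_c_rc_2_3 lc_c_rc_11_1 lc_c_rc_26_2 lc_c_rc_11_1 lc_c_rc_7_3 lc_c_rc_11_1 lc_c_rc_13_2 lc_c_rc_23_0) (@D3.rec (fun _ => (Cert rels S Gen.c)) lc_c_rc_11_1 lc_c_rc_13_2 lc_c_rc_23_0 lc_c_rc_23_0 lc_c_rc_7_3 lc_c_rc_13_2 lc_c_rc_11_1 lc_c_rc_7_3 lc_c_rc_11_1 lc_c_rc_26_10 lc_c_rc_2_3 lc_c_Cert_tree lc_c_rc_11_1 lc_c_rc_23_0 lc_c_rc_11_1 lc_c_rc_13_2 lc_c_rc_7_3 lc_c_rc_11_1 lc_c_rc_2_3 lc_c_Cert_tree lc_c_rc_13_2 lc_c_rc_11_1 lc_c_rc_13_2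 lc_c_rc_24_2 lc_c_rc_13_2 lc_c_rc_13_2 lc_c_rc_7_3 lc_c_rc_11_1 lc_c_rc_11_1 lc_c_rc_26_2 lc_c_rc_24_2 lc_c_Cert_tree lc_c_rc_7_3 lc_c_Cert_tree lc_c_Cert_tree lc_c_rc_11_1 lc_c_rc_24_2 lc_c_rc_2_3 lc_c_rc_13_2 lc_c_rc_26_2 lc_c_rc_23_5 lc_c_rc_26_2 lc_c_rc_22_3 lc_c_rc_13_2 lc_c_rc_26_2 lc_c_rc_13_2 lc_c_rc_13_2 lc_c_Cert_tree lc_c_Cert_tree lc_c_Cert_tree lc_c_rc_14_2 lc_c_rc_24_8 lc_c_rc_11_1 lc_c_rc_14_2 lc_c_rc_11_1 lc_c_rc_13_2 lc_c_rc_13_2 lc_c_rc_11_1 lc_c_rc_2_3 lc_c_Cert_tree lc_c_rc_11_1 lc_c_rc_14_2) (@D3.rec (fun _ => (Cert rels S Gen.c)) lc_c_rc_13_2 lc_c_Cert_tree lc_c_rc_11_1 lc_c_rc_26_10 lc_c_Cert_tree lc_c_rc_13_2 lc_c_rc_14_2 lc_c_rc_26_4 lc_c_rc_11_1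 lc_c_Cert_tree lc_c_rc_26_10 lc_c_rc_14_0 lc_c_rc_11_1 lc_c_Cert_tree lc_c_rc_23_5 lc_c_rc_11_1 lc_c_rc_11_1 lc_c_rc_13_2 lc_c_Cert_tree lc_c_rc_24_8 lc_c_Cert_tree lc_c_rc_14_2 lc_c_rc_11_1 lc_c_rc_13_2 lc_c_rc_26_8 lc_c_rc_14_2 lc_c_Cert_tree lc_c_rc_11_1 lc_c_Cert_tree lc_c_rc_13_2 lc_c_Cert_tree lc_c_rc_11_1 lc_c_Cert_tree lc_c_rc_13_2 lc_c_Cert_tree lc_c_Cert_tree lc_c_rc_11_1 lc_c_rc_14_2 lc_c_Cert_tree lc_c_rc_2_3 lc_c_Cert_tree lc_c_rc_11_1 lc_c_Cert_tree lc_c_rc_11_1 lc_c_rc_13_2 lc_c_Cert_tree lc_c_Cert_tree lc_c_rc_11_1 lc_c_Cert_tree lc_c_rc_13_2 lc_c_rc_11_1 lc_c_rc_13_2 lc_c_Cert_tree lc_c_Cert_tree lc_c_rc_11_1 lc_c_rc_13_2 lc_c_Cert_tree lc_c_rc_11_1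 lc_c_rc_13_2 lc_c_rc_11_1 lc_c_rc_14_2 lc_c_Cert_tree) (@D3.rec (fun _ => (Cert rels S Gen.c)) lc_c_rc_13_2 lc_c_Cert_tree lc_c_rc_11_1 lc_c_rc_13_2 lc_c_rc_11_1 lc_c_rc_7_3 lc_c_rc_11_1 lc_c_rc_13_2 lc_c_Cert_tree lc_c_rc_24_8 lc_c_rc_23_5 lc_c_rc_13_2 lc_c_rc_13_2 lc_c_rc_13_2 lc_c_rc_13_2 lc_c_rc_7_1 lc_c_rc_11_1 lc_c_Cert_tree lc_c_Cert_tree lc_c_rc_14_2 lc_c_rc_24_8 lc_c_rc_11_1 lc_c_rc_23_5 lc_c_rc_7_3 lc_c_rc_13_2 lc_c_Cert_tree lc_c_rc_11_1 lc_c_Cert_tree lc_c_rc_14_2 lc_c_rc_11_1 lc_c_rc_13_2 lc_c_rc_2_3 lc_c_Cert_tree lc_c_rc_2_3 lc_c_rc_26_4 lc_c_rc_11_1 lc_c_rc_13_2 lc_c_rc_11_1 lc_c_rc_13_2 lc_c_rc_22_3 lc_c_rc_13_2 lc_c_Cert_tree lc_c_Cert_tree lc_c_Cert_tree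 lc_c_rc_14_2 lc_c_rc_26_2 lc_c_Cert_tree lc_c_Cert_tree lc_c_rc_13_2 lc_c_Cert_tree lc_c_Cert_tree lc_c_rc_11_1 lc_c_rc_14_2 lc_c_rc_24_4 lc_c_rc_11_1 lc_c_Cert_tree lc_c_rc_13_2 lc_c_Cert_tree lc_c_rc_11_1 lc_c_Cert_tree lc_c_rc_13_2 lc_c_Cert_tree) (@D3.rec (fun _ => (Cert rels S Gen.c)) lc_c_Cert_tree lc_c_rc_11_1 lc_c_rc_14_2 lc_c_rc_2_3 lc_c_rc_25_13 lc_c_rc_11_1 lc_c_rc_13_2 lc_c_Cert_tree lc_c_rc_11_1 lc_c_rc_22_7 lc_c_rc_13_2 lc_c_rc_11_1 lc_c_rc_13_2 lc_c_rc_22_3 lc_c_rc_11_1 lc_c_rc_14_0 lc_c_rc_13_2 lc_c_rc_22_3 lc_c_rc_11_1 lc_c_rc_13_2 lc_c_rc_11_1 lc_c_rc_11_1 lc_c_rc_7_3 lc_c_rc_14_2 lc_c_rc_13_2 lc_c_Cert_tree lc_c_rc_7_3 lc_c_rc_13_2 lc_c_rc_22_3 lc_c_rc_7_3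 lc_c_rc_11_1 lc_c_rc_13_2 lc_c_Cert_tree lc_c_rc_23_5 lc_c_rc_7_5 lc_c_rc_24_2 lc_c_rc_13_2 lc_c_Cert_tree lc_c_Cert_tree lc_c_rc_2_3 lc_c_Cert_tree lc_c_rc_7_3 lc_c_rc_13_2 lc_c_rc_22_5 lc_c_rc_26_10 lc_c_rc_11_1 lc_c_rc_22_7 lc_c_rc_13_2 lc_c_rc_13_2 lc_c_rc_13_2 lc_c_Cert_tree lc_c_rc_14_2 lc_c_rc_12_4 lc_c_rc_13_2 lc_c_rc_7_5 lc_c_rc_13_2 lc_c_rc_13_2 lc_c_rc_2_3 lc_c_rc_11_1 lc_c_rc_13_2 lc_c_Cert_tree lc_c_Cert_tree) (@D3.rec (fun _ => (Cert rels S Gen.c)) lc_c_Cert_tree lc_c_rc_14_2 lc_c_rc_11_1 lc_c_rc_13_2 lc_c_rc_11_1 lc_c_rc_2_3 lc_c_rc_22_3 lc_c_rc_14_2 lc_c_rc_25_5 lc_c_rc_13_2 lc_c_rc_11_1 lc_c_rc_11_1 lc_c_Cert_tree lc_c_rc_23_0 lc_c_Cert_tree lc_c_rc_26_8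 lc_c_rc_26_8 lc_c_rc_11_1 lc_c_Cert_tree lc_c_rc_13_2 lc_c_Cert_tree lc_c_rc_11_1 lc_c_Cert_tree lc_c_rc_13_2 lc_c_rc_7_5 lc_c_Cert_tree lc_c_rc_11_1 lc_c_rc_11_1 lc_c_rc_11_1 lc_c_rc_13_2 lc_c_rc_23_0 lc_c_rc_13_2 lc_c_Cert_tree lc_c_rc_14_2 lc_c_rc_14_2 lc_c_Cert_tree lc_c_rc_2_3 lc_c_rc_2_3 lc_c_Cert_tree lc_c_rc_13_2 lc_c_rc_24_2 lc_c_rc_24_8 lc_c_rc_11_1 lc_c_rc_14_2 lc_c_Cert_tree lc_c_rc_13_2 lc_c_rc_2_3 lc_c_rc_11_1 lc_c_rc_7_3 lc_c_rc_14_2 lc_c_rc_13_2 lc_c_rc_13_2 lc_c_Cert_tree lc_c_rc_11_1 lc_c_rc_11_1 lc_c_rc_13_2 lc_c_rc_13_2 lc_c_rc_24_4 lc_c_Cert_tree lc_c_rc_14_2 lc_c_rc_13_2 lc_c_rc_11_1) (@D3.rec (fun _ => (Cert rels S Gen.c)) lc_c_rc_26_10 lc_c_Cert_tree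 lc_c_rc_22_9 lc_c_rc_13_2 lc_c_rc_13_2 lc_c_rc_26_10 lc_c_Cert_tree lc_c_rc_7_5 lc_c_rc_13_2 lc_c_rc_13_2 lc_c_rc_14_2 lc_c_rc_11_1 lc_c_Cert_tree lc_c_rc_14_2 lc_c_rc_26_10 lc_c_Cert_tree lc_c_Cert_tree lc_c_Cert_tree lc_c_rc_26_10 lc_c_Cert_tree lc_c_Cert_tree lc_c_rc_11_1 lc_c_rc_14_2 lc_c_Cert_tree lc_c_rc_13_2 lc_c_Cert_tree lc_c_Cert_tree lc_c_rc_2_3 lc_c_rc_26_10 lc_c_rc_24_8 lc_c_rc_11_1 lc_c_rc_14_2 lc_c_rc_13_2 lc_c_Cert_tree lc_c_rc_13_2 lc_c_rc_2_3 lc_c_rc_11_1 lc_c_rc_7_3 lc_c_rc_14_2 lc_c_rc_13_2 lc_c_Cert_tree lc_c_rc_13_2 lc_c_rc_13_2 lc_c_rc_11_1 lc_c_rc_13_2 lc_c_Cert_tree lc_c_rc_11_1 lc_c_Cert_tree lc_c_rc_14_2 lc_c_Cert_tree lc_c_rc_14_2 lc_c_Cert_tree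 lc_c_rc_11_1 lc_c_rc_23_0 lc_c_rc_11_1 lc_c_Cert_tree lc_c_rc_14_2 lc_c_rc_7_5 lc_c_rc_22_5 lc_c_rc_26_4 lc_c_Cert_tree lc_c_Cert_tree) (@D3.rec (fun _ => (Cert rels S Gen.c)) lc_c_Cert_tree lc_c_rc_11_1 lc_c_rc_14_2 lc_c_rc_11_1 lc_c_rc_13_2 lc_c_rc_11_1 lc_c_Cert_tree lc_c_rc_14_2 lc_c_rc_13_2 lc_c_rc_11_1 lc_c_rc_24_2 lc_c_rc_2_3 lc_c_rc_13_2 lc_c_rc_24_8 lc_c_rc_13_0 lc_c_rc_24_2 lc_c_rc_14_2 lc_c_Cert_tree lc_c_rc_11_1 lc_c_Cert_tree lc_c_rc_23_5 lc_c_rc_13_0 lc_c_rc_11_1 lc_c_Cert_tree lc_c_rc_23_5 lc_c_Cert_tree lc_c_rc_11_1 lc_c_rc_14_2 lc_c_Cert_tree lc_c_rc_2_1 lc_c_Cert_tree lc_c_rc_13_2 lc_c_Cert_tree lc_c_Cert_tree lc_c_rc_11_1 lc_c_rc_13_2 lc_c_Cert_tree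 lc_c_rc_7_5 lc_c_rc_7_1 lc_c_Cert_tree lc_c_rc_11_1 lc_c_rc_13_2 lc_c_Cert_tree lc_c_rc_11_1 lc_c_rc_13_2 lc_c_Cert_tree lc_c_rc_11_1 lc_c_rc_13_2 lc_c_rc_24_6 lc_c_rc_11_1 lc_c_rc_7_3 lc_c_rc_22_9 lc_c_rc_14_2 lc_c_rc_13_2 lc_c_rc_13_2 lc_c_rc_24_4 lc_c_rc_11_1 lc_c_rc_7_5 lc_c_rc_13_2 lc_c_rc_11_1 lc_c_Cert_tree lc_c_Cert_tree) (@D3.rec (fun _ => (Cert rels S Gen.c)) lc_c_rc_14_2 lc_c_Cert_tree lc_c_Cert_tree lc_c_rc_13_2 lc_c_Cert_tree lc_c_rc_11_1 lc_c_rc_24_8 lc_c_rc_11_1 lc_c_rc_14_2 lc_c_rc_13_2 lc_c_rc_24_4 lc_c_rc_2_3 lc_c_Cert_tree lc_c_rc_14_2 lc_c_Cert_tree lc_c_rc_7_5 lc_c_Cert_tree lc_c_rc_13_2 lc_c_rc_26_8 lc_c_rc_24_2 lc_c_rc_14_2 lc_c_rc_22_3 lc_c_rc_11_1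 lc_c_rc_2_3 lc_c_rc_11_1 lc_c_rc_13_2 lc_c_rc_13_2 lc_c_Cert_tree lc_c_rc_23_0 lc_c_Cert_tree lc_c_rc_14_2 lc_c_Cert_tree lc_c_rc_11_1 lc_c_rc_26_8 lc_c_Cert_tree lc_c_Cert_tree lc_c_Cert_tree lc_c_rc_11_1 lc_c_rc_14_2 lc_c_rc_7_5 lc_c_rc_14_2 lc_c_rc_11_1 lc_c_Cert_tree lc_c_rc_13_2 lc_c_rc_2_3 lc_c_rc_2_3 lc_c_Cert_tree lc_c_rc_13_2 lc_c_Cert_tree lc_c_Cert_tree lc_c_rc_11_1 lc_c_rc_13_2 lc_c_rc_11_1 lc_c_Cert_tree lc_c_rc_14_2 lc_c_rc_11_1 lc_c_rc_13_2 lc_c_rc_11_1 lc_c_rc_13_2 lc_c_Cert_tree lc_c_rc_13_2 lc_c_rc_11_1) (@D3.rec (fun _ => (Cert rels S Gen.c)) lc_c_rc_13_2 lc_c_rc_7_5 lc_c_Cert_tree lc_c_rc_14_2 lc_c_Cert_tree lc_c_rc_11_1 lc_c_Cert_tree lc_c_rc_13_2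 lc_c_rc_23_5 lc_c_rc_11_1 lc_c_Cert_tree lc_c_rc_13_2 lc_c_rc_11_1 lc_c_rc_11_1 lc_c_rc_7_3 lc_c_Cert_tree lc_c_rc_14_2 lc_c_rc_13_2 lc_c_Cert_tree lc_c_rc_26_2 lc_c_rc_11_1 lc_c_Cert_tree lc_c_rc_24_4 lc_c_rc_26_8 lc_c_rc_11_1 lc_c_Cert_tree lc_c_rc_13_2 lc_c_Cert_tree lc_c_Cert_tree lc_c_rc_11_1 lc_c_rc_11_1 lc_c_rc_25_9 lc_c_rc_22_5 lc_c_rc_13_2 lc_c_rc_11_1 lc_c_rc_13_2 lc_c_rc_25_9 lc_c_rc_22_5 lc_c_rc_11_1 lc_c_rc_13_2 lc_c_Cert_tree lc_c_Cert_tree lc_c_Cert_tree lc_c_rc_14_2 lc_c_rc_26_2 lc_c_rc_23_0 lc_c_Cert_tree lc_c_rc_11_1 lc_c_rc_13_2 lc_c_rc_11_1 lc_c_rc_13_2 lc_c_rc_24_6 lc_c_rc_23_0 lc_c_rc_7_3 lc_c_rc_13_2 lc_c_Cert_tree lc_c_Cert_tree lc_c_Cert_tree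 lc_c_rc_14_2 lc_c_rc_11_1 lc_c_Cert_tree lc_c_rc_11_1) (@D3.rec (fun _ => (Cert rels S Gen.c)) lc_c_rc_11_1 lc_c_rc_11_1 lc_c_Cert_tree lc_c_rc_26_10 lc_c_rc_13_2 lc_c_rc_7_5 lc_c_rc_11_1 lc_c_rc_23_0 lc_c_rc_12_14 lc_c_rc_13_2 lc_c_rc_24_6 lc_c_rc_11_1 lc_c_rc_22_3 lc_c_rc_13_2 lc_c_Cert_tree lc_c_Cert_tree lc_c_Cert_tree lc_c_rc_14_2 lc_c_rc_23_0 lc_c_rc_11_1 lc_c_rc_13_2 lc_c_rc_23_0 lc_c_rc_12_14 lc_c_rc_13_2 lc_c_Cert_tree lc_c_Cert_tree lc_c_Cert_tree lc_c_rc_14_2 lc_c_Cert_tree lc_c_rc_13_2 lc_c_Cert_tree lc_c_rc_13_2 lc_c_Cert_tree lc_c_Cert_tree lc_c_rc_2_3 lc_c_Cert_tree lc_c_rc_14_2 lc_c_rc_13_2 lc_c_rc_13_2 lc_c_Cert_tree lc_c_Cert_tree lc_c_Cert_tree lc_c_rc_11_1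 lc_c_Cert_tree lc_c_rc_13_2 lc_c_Cert_tree lc_c_Cert_tree lc_c_rc_11_1 lc_c_rc_22_7 lc_c_rc_12_14 lc_c_Cert_tree lc_c_rc_11_1 lc_c_rc_13_2 lc_c_Cert_tree lc_c_rc_11_1 lc_c_rc_13_2 lc_c_rc_22_3 lc_c_rc_11_1 lc_c_rc_13_2 lc_c_rc_11_1 lc_c_rc_11_1 lc_c_rc_7_3) (@D3.rec (fun _ => (Cert rels S Gen.c)) lc_c_rc_12_4 lc_c_rc_14_0 lc_c_rc_2_3 lc_c_Cert_tree lc_c_rc_13_2 lc_c_Cert_tree lc_c_rc_23_5 lc_c_rc_7_3 lc_c_Cert_tree lc_c_rc_11_1 lc_c_rc_11_1 lc_c_rc_2_3 lc_c_Cert_tree lc_c_rc_11_1 lc_c_rc_13_2 lc_c_rc_26_4 lc_c_rc_11_1 lc_c_Cert_tree lc_c_Cert_tree lc_c_rc_13_2 lc_c_Cert_tree lc_c_Cert_tree lc_c_rc_11_1 lc_c_rc_13_2 lc_c_rc_23_5 lc_c_rc_11_1 lc_c_Cert_tree lc_c_Cert_tree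 lc_c_rc_11_1 lc_c_rc_13_2 lc_c_Cert_tree lc_c_rc_11_1 lc_c_rc_24_6 lc_c_rc_13_2 lc_c_rc_7_3 lc_c_rc_13_2 lc_c_Cert_tree lc_c_rc_25_1 lc_c_Cert_tree lc_c_rc_14_2 lc_c_rc_7_3 lc_c_rc_11_1 lc_c_rc_11_1 lc_c_rc_7_3 lc_c_rc_12_4 lc_c_rc_23_5 lc_c_rc_7_5 lc_c_rc_23_5 lc_c_rc_7_3 lc_c_rc_24_6 lc_c_rc_26_10 lc_c_rc_24_4 lc_c_rc_2_3 lc_c_rc_24_2 lc_c_rc_7_3 lc_c_rc_13_2 lc_c_rc_23_0 lc_c_rc_7_1 lc_c_rc_2_3 lc_c_Cert_tree lc_c_rc_13_2 lc_c_rc_24_8) (@D3.rec (fun _ => (Cert rels S Gen.c)) lc_c_rc_24_2 lc_c_rc_11_1 lc_c_rc_13_2 lc_c_rc_26_2 lc_c_rc_7_3 lc_c_Cert_tree lc_c_Cert_tree lc_c_rc_13_2 lc_c_Cert_tree lc_c_Cert_tree lc_c_rc_11_1 lc_c_rc_26_10 lc_c_rc_24_4 lc_c_Cert_tree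 lc_c_rc_7_3 lc_c_rc_7_3 lc_c_rc_13_2 lc_c_Cert_tree lc_c_Cert_tree lc_c_Cert_tree lc_c_rc_14_2 lc_c_rc_11_1 lc_c_rc_24_2 lc_c_Cert_tree lc_c_rc_11_1 lc_c_rc_2_3 lc_c_rc_26_8 lc_c_rc_13_2 lc_c_Cert_tree lc_c_rc_11_1 lc_c_Cert_tree lc_c_Cert_tree lc_c_rc_11_1 lc_c_rc_13_2 lc_c_rc_12_14 lc_c_Cert_tree lc_c_rc_11_1 lc_c_rc_13_2 lc_c_rc_11_1 lc_c_rc_7_1 lc_c_rc_22_5 lc_c_rc_26_4 lc_c_rc_22_5 lc_c_rc_11_1 lc_c_rc_13_2 lc_c_rc_11_1 lc_c_rc_11_1 lc_c_rc_7_3 lc_c_rc_13_2 lc_c_rc_11_1 lc_c_rc_7_3 lc_c_rc_13_2 lc_c_rc_26_4 lc_c_rc_14_2 lc_c_rc_14_2 lc_c_Cert_tree lc_c_rc_11_1 lc_c_rc_2_3 lc_c_Cert_tree lc_c_rc_7_3 lc_c_rc_13_2 lc_c_Cert_tree) (@D3.rec (fun _ => (Cert rels S Gen.c))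 lc_c_Cert_tree lc_c_Cert_tree lc_c_rc_7_1 lc_c_Cert_tree lc_c_rc_13_2 lc_c_Cert_tree lc_c_Cert_tree lc_c_rc_11_1 lc_c_Cert_tree lc_c_rc_7_5 lc_c_rc_13_2 lc_c_Cert_tree lc_c_rc_7_5 lc_c_Cert_tree lc_c_rc_11_1 lc_c_rc_13_2 lc_c_rc_7_3 lc_c_rc_13_2 lc_c_Cert_tree lc_c_Cert_tree lc_c_rc_14_2 lc_c_rc_11_1 lc_c_rc_13_2 lc_c_Cert_tree lc_c_Cert_tree lc_c_Cert_tree lc_c_rc_14_2 lc_c_rc_24_6 lc_c_rc_2_3 lc_c_Cert_tree lc_c_rc_23_0 lc_c_Cert_tree lc_c_rc_13_2 lc_c_rc_11_1 lc_c_rc_11_1 lc_c_rc_22_3 lc_c_rc_11_1 lc_c_Cert_tree lc_c_Cert_tree lc_c_rc_13_2 lc_c_rc_11_1 lc_c_rc_11_1 lc_c_rc_13_2 lc_c_rc_13_2 lc_c_rc_7_1 lc_c_Cert_tree lc_c_rc_11_1 lc_c_rc_13_0 lc_c_rc_26_4 lc_c_rc_23_0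 lc_c_rc_11_1 lc_c_rc_14_2 lc_c_rc_13_2 lc_c_rc_13_2 lc_c_rc_13_2 lc_c_rc_11_1 lc_c_rc_11_1 lc_c_Cert_tree lc_c_rc_12_0 lc_c_rc_11_1 lc_c_rc_26_10 lc_c_rc_11_1) (@D3.rec (fun _ => (Cert rels S Gen.c)) lc_c_rc_13_2 lc_c_rc_7_1 lc_c_Cert_tree lc_c_rc_14_2 lc_c_Cert_tree lc_c_rc_11_1 lc_c_Cert_tree lc_c_rc_23_5 lc_c_rc_11_1 lc_c_Cert_tree lc_c_Cert_tree lc_c_Cert_tree lc_c_rc_11_1 lc_c_rc_14_2 lc_c_Cert_tree lc_c_rc_2_1 lc_c_Cert_tree lc_c_rc_26_4 lc_c_Cert_tree lc_c_rc_11_1 lc_c_rc_13_2 lc_c_rc_11_1 lc_c_rc_26_4 lc_c_Cert_tree lc_c_rc_7_5 lc_c_rc_11_1 lc_c_rc_13_2 lc_c_rc_23_5 lc_c_Cert_tree lc_c_rc_11_1 lc_c_rc_13_2 lc_c_Cert_tree lc_c_rc_11_1 lc_c_rc_13_2 lc_c_rc_24_4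 lc_c_rc_22_3 lc_c_rc_7_3 lc_c_rc_22_7 lc_c_rc_14_2 lc_c_rc_13_2 lc_c_rc_7_5 lc_c_rc_7_5 lc_c_rc_26_10 lc_c_rc_26_8 lc_c_rc_2_3 lc_c_rc_7_3 lc_c_rc_7_5 lc_c_rc_2_3 lc_c_rc_11_1 lc_c_rc_13_2 lc_c_rc_23_0 lc_c_rc_24_8 lc_c_rc_11_1 lc_c_rc_11_1 lc_c_rc_11_1 lc_c_rc_7_3 lc_c_rc_14_2 lc_c_rc_7_1 lc_c_Cert_tree lc_c_rc_11_1 lc_c_rc_7_3 lc_c_rc_2_1) (@D3.rec (fun _ => (Cert rels S Gen.c)) lc_c_Cert_tree lc_c_rc_11_1 lc_c_rc_11_1 lc_c_rc_13_2 lc_c_rc_26_2 lc_c_rc_12_14 lc_c_rc_14_2 lc_c_rc_7_3 lc_c_rc_2_3 lc_c_rc_13_2 lc_c_rc_11_1 lc_c_rc_13_2 lc_c_Cert_tree lc_c_rc_11_1 lc_c_rc_13_2 lc_c_rc_13_2 lc_c_Cert_tree lc_c_Cert_tree lc_c_Cert_tree lc_c_rc_14_2 lc_c_Cert_tree lc_c_Cert_tree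 lc_c_Cert_tree lc_c_rc_14_2 lc_c_rc_13_2 lc_c_rc_7_5 lc_c_Cert_tree lc_c_rc_11_1 lc_c_rc_14_2 lc_c_Cert_tree lc_c_Cert_tree lc_c_rc_11_1 lc_c_rc_13_2 lc_c_rc_14_2 lc_c_rc_13_2 lc_c_rc_26_2 lc_c_rc_13_2 lc_c_rc_13_2 lc_c_rc_13_2 lc_c_rc_11_1 lc_c_Cert_tree lc_c_rc_2_3 lc_c_rc_11_1 lc_c_rc_26_4 lc_c_rc_13_2 lc_c_rc_13_2 lc_c_rc_13_2 lc_c_rc_26_10 lc_c_rc_11_1 lc_c_Cert_tree lc_c_rc_14_2 lc_c_rc_22_3 lc_c_rc_23_0 lc_c_rc_11_1 lc_c_rc_14_2 lc_c_rc_11_1 lc_c_Cert_tree lc_c_rc_24_4 lc_c_rc_13_2 lc_c_rc_13_2 lc_c_rc_26_10 lc_c_Cert_tree) (@D3.rec (fun _ => (Cert rels S Gen.c)) lc_c_rc_14_2 lc_c_rc_22_9 lc_c_rc_11_1 lc_c_Cert_tree lc_c_rc_23_0 lc_c_Cert_tree lc_c_rc_11_1 lc_c_Cert_tree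 lc_c_rc_13_2 lc_c_Cert_tree lc_c_Cert_tree lc_c_rc_11_1 lc_c_rc_14_2 lc_c_Cert_tree lc_c_rc_11_1 lc_c_rc_24_4 lc_c_rc_11_1 lc_c_rc_13_2 lc_c_rc_26_4 lc_c_rc_11_1 lc_c_rc_22_7 lc_c_rc_7_3 lc_c_rc_11_1 lc_c_rc_13_2 lc_c_rc_22_3 lc_c_rc_11_1 lc_c_rc_13_2 lc_c_rc_11_1 lc_c_rc_24_4 lc_c_rc_24_4 lc_c_rc_7_3 lc_c_rc_12_2 lc_c_rc_14_2 lc_c_rc_13_2 lc_c_rc_7_5 lc_c_Cert_tree lc_c_rc_26_4 lc_c_rc_26_8 lc_c_Cert_tree lc_c_Cert_tree lc_c_Cert_tree lc_c_rc_11_1 lc_c_rc_13_2 lc_c_Cert_tree lc_c_rc_13_2 lc_c_rc_11_1 lc_c_rc_13_2 lc_c_rc_11_1 lc_c_rc_24_8 lc_c_rc_24_6 lc_c_rc_7_3 lc_c_rc_11_1 lc_c_rc_13_2 lc_c_rc_22_3 lc_c_rc_24_2 lc_c_rc_13_2 lc_c_rc_11_1 lc_c_rc_7_3 lc_c_rc_11_1 lc_c_rc_11_1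 lc_c_rc_13_2 lc_c_rc_24_8) (@D3.rec (fun _ => (Cert rels S Gen.c)) lc_c_Cert_tree lc_c_rc_11_1 lc_c_rc_13_2 lc_c_rc_23_0 lc_c_rc_23_5 lc_c_Cert_tree lc_c_rc_13_2 lc_c_Cert_tree lc_c_rc_23_0 lc_c_Cert_tree lc_c_rc_7_3 lc_c_rc_26_8 lc_c_Cert_tree lc_c_rc_7_5 lc_c_rc_22_3 lc_c_rc_7_5 lc_c_rc_11_1 lc_c_rc_13_2 lc_c_Cert_tree lc_c_rc_11_1 lc_c_rc_26_10 lc_c_Cert_tree lc_c_rc_14_2 lc_c_Cert_tree lc_c_rc_24_8 lc_c_rc_24_8 lc_c_rc_11_1 lc_c_rc_12_14 lc_c_rc_7_3 lc_c_rc_7_5 lc_c_Cert_tree lc_c_rc_2_3 lc_c_Cert_tree lc_c_rc_13_2 lc_c_Cert_tree lc_c_Cert_tree lc_c_rc_11_1 lc_c_rc_13_2 lc_c_rc_7_3 lc_c_Cert_tree lc_c_rc_11_1 lc_c_rc_13_2 lc_c_rc_23_0 lc_c_rc_11_1 lc_c_rc_26_4 lc_c_rc_22_5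 lc_c_rc_11_1 lc_c_rc_13_2 lc_c_Cert_tree lc_c_Cert_tree lc_c_rc_11_1 lc_c_rc_13_2 lc_c_Cert_tree lc_c_rc_11_1 lc_c_rc_13_2 lc_c_Cert_tree lc_c_rc_24_8 lc_c_rc_11_1 lc_c_rc_2_3 lc_c_Cert_tree lc_c_rc_11_1 lc_c_rc_13_2) (@D3.rec (fun _ => (Cert rels S Gen.c)) lc_c_Cert_tree lc_c_Cert_tree lc_c_rc_7_3 lc_c_rc_7_3 lc_c_Cert_tree lc_c_rc_11_1 lc_c_rc_2_3 lc_c_Cert_tree lc_c_rc_11_1 lc_c_rc_13_2 lc_c_Cert_tree lc_c_Cert_tree lc_c_rc_11_1 lc_c_rc_13_2 lc_c_Cert_tree lc_c_rc_11_1 lc_c_rc_13_2 lc_c_Cert_tree lc_c_rc_11_1 lc_c_rc_26_2 lc_c_rc_24_8 lc_c_rc_11_1 lc_c_rc_7_3 lc_c_rc_22_5 lc_c_rc_26_10 lc_c_rc_11_1 lc_c_rc_7_5 lc_c_rc_2_3 lc_c_rc_7_3 lc_c_rc_7_3 lc_c_rc_7_3 lc_c_rc_11_1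 lc_c_rc_7_3 lc_c_rc_11_1 lc_c_rc_11_1 lc_c_rc_13_2 lc_c_rc_24_6 lc_c_rc_7_3 lc_c_rc_23_0 lc_c_rc_11_1 lc_c_rc_24_2 lc_c_rc_2_3 lc_c_rc_2_3 lc_c_Cert_tree lc_c_rc_11_1 lc_c_rc_13_2 lc_c_Cert_tree lc_c_Cert_tree lc_c_rc_7_3 lc_c_rc_2_1 lc_c_rc_26_10 lc_c_rc_11_1 lc_c_rc_7_5 lc_c_Cert_tree lc_c_rc_11_1 lc_c_rc_13_2 lc_c_Cert_tree lc_c_rc_11_1 lc_c_rc_13_2 lc_c_Cert_tree lc_c_rc_11_1 lc_c_rc_13_2) (@D3.rec (fun _ => (Cert rels S Gen.c)) lc_c_Cert_tree lc_c_rc_11_1 lc_c_rc_13_2 lc_c_rc_7_3 lc_c_rc_22_5 lc_c_rc_13_2 lc_c_Cert_tree lc_c_Cert_tree lc_c_Cert_tree lc_c_rc_22_9 lc_c_rc_26_4 lc_c_rc_7_5 lc_c_rc_11_1 lc_c_Cert_tree lc_c_rc_7_3 lc_c_rc_22_5 lc_c_rc_13_2 lc_c_Cert_tree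 lc_c_rc_14_2 lc_c_rc_7_5 lc_c_rc_11_1 lc_c_rc_13_2 lc_c_Cert_tree lc_c_rc_11_1 lc_c_rc_12_14 lc_c_rc_13_2 lc_c_rc_13_2 lc_c_rc_7_3 lc_c_rc_22_9 lc_c_rc_13_2 lc_c_rc_11_1 lc_c_rc_13_2 lc_c_rc_2_1 lc_c_rc_7_3 lc_c_rc_13_2 lc_c_Cert_tree lc_c_Cert_tree lc_c_rc_14_2 lc_c_rc_7_3 lc_c_rc_13_2 lc_c_rc_26_10 lc_c_rc_13_2 lc_c_rc_14_2 lc_c_rc_11_1 lc_c_rc_13_2 lc_c_Cert_tree lc_c_Cert_tree lc_c_rc_14_2 lc_c_Cert_tree lc_c_Cert_tree lc_c_rc_14_2 lc_c_rc_11_1 lc_c_rc_13_2 lc_c_rc_11_1 lc_c_rc_23_5 lc_c_rc_13_2 lc_c_Cert_tree lc_c_Cert_tree lc_c_rc_2_3 lc_c_rc_14_2 lc_c_rc_7_3 lc_c_rc_13_2) (@D3.rec (fun _ => (Cert rels S Gen.c)) lc_c_rc_13_2 lc_c_rc_13_2 lc_c_rc_13_2 lc_c_rc_14_2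 lc_c_rc_22_3 lc_c_rc_26_2 lc_c_rc_13_2 lc_c_rc_23_5 lc_c_rc_11_1 lc_c_rc_13_2 lc_c_rc_24_8 lc_c_rc_14_2 lc_c_rc_11_1 lc_c_rc_11_1 lc_c_rc_2_3 lc_c_Cert_tree lc_c_rc_13_2 lc_c_Cert_tree lc_c_Cert_tree lc_c_rc_13_2 lc_c_Cert_tree lc_c_rc_13_2 lc_c_rc_13_2 lc_c_Cert_tree lc_c_Cert_tree lc_c_Cert_tree lc_c_Cert_tree lc_c_rc_11_1 lc_c_rc_13_2 lc_c_rc_14_2 lc_c_Cert_tree lc_c_rc_13_2 lc_c_Cert_tree lc_c_rc_13_2 lc_c_rc_7_3 lc_c_rc_13_2 lc_c_Cert_tree lc_c_Cert_tree lc_c_rc_14_2 lc_c_rc_13_2 lc_c_rc_7_3 lc_c_rc_13_2 lc_c_rc_7_5 lc_c_Cert_tree lc_c_rc_11_1 lc_c_rc_26_10 lc_c_rc_24_8 lc_c_rc_14_2 lc_c_rc_11_1 lc_c_rc_7_1 lc_c_rc_22_3 lc_c_rc_11_1 lc_c_rc_13_2 lc_c_rc_23_0 lc_c_rc_13_2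 lc_c_rc_14_2 lc_c_rc_11_1 lc_c_rc_26_8 lc_c_rc_7_5 lc_c_rc_25_5 lc_c_Cert_tree lc_c_rc_13_2) (@D3.rec (fun _ => (Cert rels S Gen.c)) lc_c_rc_23_0 lc_c_rc_13_2 lc_c_Cert_tree lc_c_rc_14_2 lc_c_rc_11_1 lc_c_rc_13_2 lc_c_Cert_tree lc_c_rc_2_1 lc_c_Cert_tree lc_c_rc_11_1 lc_c_rc_11_1 lc_c_rc_13_2 lc_c_rc_2_3 lc_c_rc_11_1 lc_c_rc_13_2 lc_c_rc_13_2 lc_c_rc_11_1 lc_c_rc_11_1 lc_c_rc_13_2 lc_c_rc_24_6 lc_c_rc_22_7 lc_c_rc_13_2 lc_c_rc_11_1 lc_c_Cert_tree lc_c_rc_14_2 lc_c_rc_7_3 lc_c_Cert_tree lc_c_rc_13_2 lc_c_Cert_tree lc_c_Cert_tree lc_c_rc_23_5 lc_c_rc_11_1 lc_c_rc_11_1 lc_c_rc_7_3 lc_c_rc_22_9 lc_c_rc_7_3 lc_c_Cert_tree lc_c_rc_11_1 lc_c_rc_13_2 lc_c_rc_11_1 lc_c_rc_13_2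 lc_c_rc_11_1 lc_c_rc_13_2 lc_c_rc_11_1 lc_c_rc_13_2 lc_c_rc_7_3 lc_c_rc_12_4 lc_c_rc_14_2 lc_c_rc_13_2 lc_c_rc_11_1 lc_c_rc_13_2 lc_c_rc_11_1 lc_c_rc_13_2 lc_c_rc_23_0 lc_c_rc_11_1 lc_c_rc_13_2 lc_c_rc_11_1 lc_c_rc_11_1 lc_c_rc_7_3 lc_c_rc_22_7 lc_c_rc_13_2 lc_c_Cert_tree) (@D3.rec (fun _ => (Cert rels S Gen.c)) lc_c_Cert_tree lc_c_rc_14_2 lc_c_rc_11_1 lc_c_rc_11_1 lc_c_rc_13_2 lc_c_rc_7_3 lc_c_rc_12_8 lc_c_rc_13_2 lc_c_Cert_tree lc_c_rc_14_2 lc_c_rc_13_2 lc_c_rc_24_6 lc_c_rc_11_1 lc_c_rc_22_7 lc_c_rc_13_2 lc_c_Cert_tree lc_c_Cert_tree lc_c_rc_14_2 lc_c_rc_13_2 lc_c_rc_11_1 lc_c_rc_23_5 lc_c_rc_13_2 lc_c_Cert_tree lc_c_Cert_tree lc_c_Cert_tree lc_c_rc_14_2 lc_c_rc_7_5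 lc_c_rc_22_7 lc_c_rc_13_2 lc_c_rc_7_3 lc_c_rc_23_5 lc_c_rc_13_2 lc_c_rc_7_3 lc_c_rc_26_10 lc_c_rc_2_3 lc_c_Cert_tree lc_c_rc_11_1 lc_c_rc_24_6 lc_c_rc_11_1 lc_c_rc_13_2 lc_c_rc_22_3 lc_c_rc_13_2 lc_c_Cert_tree lc_c_Cert_tree lc_c_rc_22_5 lc_c_rc_13_2 lc_c_Cert_tree lc_c_Cert_tree lc_c_rc_14_2 lc_c_rc_26_8 lc_c_rc_22_3 lc_c_rc_13_2 lc_c_rc_23_0 lc_c_Cert_tree lc_c_rc_14_0 lc_c_rc_11_1 lc_c_Cert_tree lc_c_rc_13_2 lc_c_rc_26_8 lc_c_rc_11_1 lc_c_Cert_tree lc_c_rc_13_2) (@D3.rec (fun _ => (Cert rels S Gen.c)) lc_c_rc_11_1 lc_c_Cert_tree lc_c_rc_11_1 lc_c_rc_13_2 lc_c_rc_14_2 lc_c_Cert_tree lc_c_Cert_tree lc_c_rc_11_1 lc_c_Cert_tree lc_c_rc_14_2 lc_c_rc_11_1 lc_c_rc_14_0 lc_c_rc_11_1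 lc_c_rc_11_1 lc_c_rc_26_2 lc_c_Cert_tree lc_c_rc_14_2 lc_c_rc_11_1 lc_c_rc_13_2 lc_c_Cert_tree lc_c_rc_2_1 lc_c_rc_11_1 lc_c_rc_11_1 lc_c_rc_13_2 lc_c_rc_13_0 lc_c_Cert_tree lc_c_rc_13_2 lc_c_rc_11_1 lc_c_rc_23_5 lc_c_rc_13_0 lc_c_Cert_tree lc_c_rc_11_1 lc_c_rc_13_2 lc_c_rc_26_4 lc_c_rc_11_1 lc_c_rc_14_0 lc_c_Cert_tree lc_c_rc_11_1 lc_c_rc_11_1 lc_c_Cert_tree lc_c_rc_13_2 lc_c_rc_14_2 lc_c_Cert_tree lc_c_Cert_tree lc_c_rc_14_2 lc_c_rc_13_2 lc_c_rc_22_7 lc_c_Cert_tree lc_c_rc_13_2 lc_c_rc_23_5 lc_c_rc_14_2 lc_c_rc_11_1 lc_c_rc_11_1 lc_c_rc_11_1 lc_c_rc_13_2 lc_c_rc_22_3 lc_c_rc_13_2 lc_c_rc_11_1 lc_c_rc_13_2 lc_c_rc_26_10 lc_c_rc_11_1 lc_c_Cert_tree)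
def ce_c_8 : D2 → D3 → (Cert rels S Gen.c) := @D2.rec (fun _ => D3 → (Cert rels S Gen.c)) (@D3.rec (fun _ => (Cert rels S Gen.c)) lc_c_rc_23_0 lc_c_rc_11_1 lc_c_rc_23_5 lc_c_rc_13_2 lc_c_rc_13_2 lc_c_rc_7_1 lc_c_rc_13_2 lc_c_rc_13_2 lc_c_Cert_tree lc_c_rc_7_3 lc_c_rc_13_2 lc_c_rc_7_1 lc_c_Cert_tree lc_c_rc_14_2 lc_c_rc_7_3 lc_c_rc_2_3 lc_c_rc_13_2 lc_c_Cert_tree lc_c_rc_22_9 lc_c_rc_11_1 lc_c_rc_7_3 lc_c_rc_13_2 lc_c_Cert_tree lc_c_Cert_tree lc_c_rc_14_2 lc_c_rc_13_2 lc_c_rc_24_6 lc_c_rc_2_3 lc_c_rc_13_2 lc_c_Cert_tree lc_c_rc_26_2 lc_c_rc_11_1 lc_c_rc_13_2 lc_c_rc_7_1 lc_c_rc_22_3 lc_c_rc_13_2 lc_c_Cert_tree lc_c_rc_26_4 lc_c_rc_13_2 lc_c_rc_11_1 lc_c_rc_11_1 lc_c_rc_11_1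 lc_c_Cert_tree lc_c_rc_14_2 lc_c_rc_26_2 lc_c_rc_11_1 lc_c_Cert_tree lc_c_rc_13_2 lc_c_rc_13_0 lc_c_rc_11_1 lc_c_Cert_tree lc_c_rc_26_10 lc_c_Cert_tree lc_c_rc_11_1 lc_c_rc_2_3 lc_c_rc_13_2 lc_c_rc_26_4 lc_c_rc_13_2 lc_c_rc_22_3 lc_c_rc_11_1 lc_c_rc_7_3 lc_c_rc_26_10) (@D3.rec (fun _ => (Cert rels S Gen.c)) lc_c_rc_24_2 lc_c_rc_2_3 lc_c_Cert_tree lc_c_rc_12_14 lc_c_Cert_tree lc_c_rc_11_1 lc_c_rc_13_2 lc_c_rc_14_2 lc_c_rc_7_3 lc_c_rc_13_2 lc_c_rc_24_8 lc_c_rc_24_8 lc_c_rc_14_2 lc_c_rc_13_2 lc_c_rc_13_2 lc_c_Cert_tree lc_c_rc_13_2 lc_c_rc_13_2 lc_c_rc_26_4 lc_c_rc_11_1 lc_c_rc_14_2 lc_c_Cert_tree lc_c_Cert_tree lc_c_rc_23_5 lc_c_Cert_tree lc_c_Cert_tree lc_c_rc_23_5 lc_c_rc_26_10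 lc_c_rc_13_2 lc_c_rc_23_0 lc_c_rc_14_2 lc_c_rc_13_2 lc_c_rc_13_2 lc_c_rc_14_2 lc_c_Cert_tree lc_c_Cert_tree lc_c_rc_2_3 lc_c_Cert_tree lc_c_rc_14_2 lc_c_rc_13_2 lc_c_rc_13_2 lc_c_rc_13_0 lc_c_rc_23_0 lc_c_rc_2_3 lc_c_rc_14_2 lc_c_rc_2_1 lc_c_rc_11_1 lc_c_Cert_tree lc_c_rc_2_3 lc_c_rc_11_1 lc_c_Cert_tree lc_c_rc_23_5 lc_c_Cert_tree lc_c_Cert_tree lc_c_Cert_tree lc_c_rc_11_1 lc_c_rc_13_2 lc_c_rc_14_2 lc_c_rc_13_2 lc_c_rc_7_3 lc_c_rc_13_2 lc_c_rc_24_8) (@D3.rec (fun _ => (Cert rels S Gen.c)) lc_c_rc_24_8 lc_c_rc_14_2 lc_c_rc_13_2 lc_c_rc_22_3 lc_c_rc_11_1 lc_c_rc_7_1 lc_c_rc_11_1 lc_c_rc_25_5 lc_c_rc_26_8 lc_c_rc_24_4 lc_c_rc_13_2 lc_c_rc_11_1 lc_c_rc_23_5 lc_c_rc_13_2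 lc_c_rc_13_2 lc_c_rc_26_10 lc_c_Cert_tree lc_c_rc_26_2 lc_c_rc_13_2 lc_c_rc_13_2 lc_c_Cert_tree lc_c_rc_14_2 lc_c_rc_11_1 lc_c_rc_13_2 lc_c_rc_7_5 lc_c_rc_26_8 lc_c_rc_13_2 lc_c_rc_11_1 lc_c_Cert_tree lc_c_rc_14_2 lc_c_rc_13_2 lc_c_Cert_tree lc_c_Cert_tree lc_c_rc_14_2 lc_c_Cert_tree lc_c_Cert_tree lc_c_rc_23_5 lc_c_Cert_tree lc_c_Cert_tree lc_c_rc_23_5 lc_c_rc_24_8 lc_c_rc_24_8 lc_c_rc_11_1 lc_c_rc_13_2 lc_c_rc_7_3 lc_c_rc_12_2 lc_c_rc_11_1 lc_c_rc_13_2 lc_c_rc_13_2 lc_c_rc_7_3 lc_c_rc_2_1 lc_c_rc_14_2 lc_c_rc_14_2 lc_c_rc_13_2 lc_c_rc_11_1 lc_c_rc_13_2 lc_c_rc_24_8 lc_c_rc_23_0 lc_c_rc_13_0 lc_c_rc_14_2 lc_c_rc_7_3 lc_c_rc_13_2) (@D3.rec (fun _ => (Cert rels S Gen.c))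 lc_c_rc_13_2 lc_c_rc_13_0 lc_c_rc_14_2 lc_c_Cert_tree lc_c_Cert_tree lc_c_rc_2_3 lc_c_rc_13_2 lc_c_rc_26_4 lc_c_rc_11_1 lc_c_rc_7_3 lc_c_rc_13_2 lc_c_Cert_tree lc_c_Cert_tree lc_c_rc_14_2 lc_c_rc_23_5 lc_c_rc_23_5 lc_c_rc_24_2 lc_c_rc_13_2 lc_c_rc_7_3 lc_c_rc_13_2 lc_c_Cert_tree lc_c_rc_11_1 lc_c_rc_14_2 lc_c_Cert_tree lc_c_rc_13_2 lc_c_rc_26_10 lc_c_rc_2_3 lc_c_Cert_tree lc_c_rc_11_1 lc_c_rc_13_2 lc_c_rc_24_6 lc_c_rc_13_2 lc_c_rc_13_2 lc_c_Cert_tree lc_c_Cert_tree lc_c_rc_24_6 lc_c_rc_11_1 lc_c_rc_13_2 lc_c_rc_24_6 lc_c_rc_23_5 lc_c_Cert_tree lc_c_rc_26_8 lc_c_rc_13_2 lc_c_rc_24_8 lc_c_rc_11_1 lc_c_rc_13_2 lc_c_Cert_tree lc_c_rc_13_2 lc_c_Cert_tree lc_c_rc_13_2 lc_c_rc_7_3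 lc_c_rc_13_2 lc_c_Cert_tree lc_c_Cert_tree lc_c_rc_14_2 lc_c_rc_13_2 lc_c_rc_26_2 lc_c_rc_11_1 lc_c_rc_13_2 lc_c_rc_11_1 lc_c_rc_7_1 lc_c_rc_11_1) (@D3.rec (fun _ => (Cert rels S Gen.c)) lc_c_rc_13_2 lc_c_Cert_tree lc_c_rc_14_2 lc_c_rc_7_3 lc_c_rc_12_4 lc_c_rc_13_2 lc_c_Cert_tree lc_c_rc_13_2 lc_c_rc_14_2 lc_c_rc_13_2 lc_c_rc_11_1 lc_c_rc_23_5 lc_c_rc_13_2 lc_c_Cert_tree lc_c_rc_14_2 lc_c_rc_13_2 lc_c_rc_11_1 lc_c_rc_23_5 lc_c_rc_13_2 lc_c_rc_26_2 lc_c_rc_14_2 lc_c_rc_7_3 lc_c_rc_23_5 lc_c_rc_13_2 lc_c_rc_7_3 lc_c_rc_23_5 lc_c_rc_13_2 lc_c_Cert_tree lc_c_Cert_tree lc_c_rc_2_3 lc_c_Cert_tree lc_c_rc_14_2 lc_c_rc_24_8 lc_c_rc_11_1 lc_c_rc_13_2 lc_c_rc_13_2 lc_c_rc_13_2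 lc_c_rc_7_3 lc_c_rc_13_2 lc_c_rc_24_8 lc_c_rc_24_8 lc_c_rc_14_2 lc_c_rc_7_3 lc_c_rc_13_2 lc_c_rc_7_3 lc_c_rc_13_2 lc_c_rc_26_10 lc_c_rc_11_1 lc_c_rc_14_2 lc_c_Cert_tree lc_c_rc_13_2 lc_c_rc_13_2 lc_c_rc_11_1 lc_c_rc_13_2 lc_c_rc_14_0 lc_c_rc_13_0 lc_c_rc_24_2 lc_c_rc_13_2 lc_c_rc_13_2 lc_c_Cert_tree lc_c_rc_2_1 lc_c_rc_2_3) (@D3.rec (fun _ => (Cert rels S Gen.c)) lc_c_rc_11_1 lc_c_Cert_tree lc_c_rc_13_2 lc_c_rc_7_5 lc_c_rc_26_4 lc_c_rc_11_1 lc_c_Cert_tree lc_c_rc_11_1 lc_c_Cert_tree lc_c_Cert_tree lc_c_Cert_tree lc_c_rc_11_1 lc_c_rc_13_2 lc_c_rc_14_2 lc_c_rc_13_2 lc_c_Cert_tree lc_c_rc_13_2 lc_c_Cert_tree lc_c_rc_7_5 lc_c_rc_7_3 lc_c_rc_13_2 lc_c_Cert_tree lc_c_Cert_tree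 lc_c_rc_14_2 lc_c_rc_13_2 lc_c_rc_22_5 lc_c_rc_24_8 lc_c_rc_24_8 lc_c_rc_14_2 lc_c_rc_26_2 lc_c_rc_24_8 lc_c_rc_14_2 lc_c_Cert_tree lc_c_Cert_tree lc_c_rc_2_3 lc_c_rc_24_4 lc_c_rc_14_2 lc_c_rc_13_2 lc_c_rc_13_2 lc_c_rc_13_2 lc_c_rc_26_2 lc_c_rc_11_1 lc_c_rc_13_2 lc_c_rc_13_2 lc_c_rc_7_3 lc_c_Cert_tree lc_c_rc_14_2 lc_c_rc_13_2 lc_c_rc_24_8 lc_c_rc_23_0 lc_c_rc_14_2 lc_c_rc_23_5 lc_c_rc_26_4 lc_c_rc_14_2 lc_c_Cert_tree lc_c_Cert_tree lc_c_rc_2_3 lc_c_rc_14_2 lc_c_rc_11_1 lc_c_rc_13_2 lc_c_rc_13_2 lc_c_rc_26_8) (@D3.rec (fun _ => (Cert rels S Gen.c)) lc_c_rc_26_2 lc_c_rc_11_1 lc_c_rc_13_2 lc_c_rc_14_2 lc_c_rc_14_2 lc_c_rc_11_1 lc_c_rc_13_2 lc_c_rc_25_13 lc_c_rc_7_3 lc_c_rc_22_3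 lc_c_rc_13_2 lc_c_Cert_tree lc_c_Cert_tree lc_c_rc_14_2 lc_c_rc_26_4 lc_c_rc_23_5 lc_c_rc_13_2 lc_c_rc_7_5 lc_c_rc_23_0 lc_c_rc_13_2 lc_c_Cert_tree lc_c_Cert_tree lc_c_rc_2_3 lc_c_rc_7_3 lc_c_rc_14_2 lc_c_rc_24_6 lc_c_rc_12_8 lc_c_rc_11_1 lc_c_rc_13_2 lc_c_rc_22_7 lc_c_rc_13_2 lc_c_Cert_tree lc_c_rc_13_2 lc_c_rc_11_1 lc_c_rc_7_3 lc_c_rc_24_8 lc_c_rc_13_2 lc_c_rc_23_5 lc_c_rc_23_0 lc_c_rc_14_2 lc_c_rc_11_1 lc_c_rc_11_1 lc_c_rc_7_3 lc_c_rc_24_2 lc_c_rc_13_2 lc_c_Cert_tree lc_c_Cert_tree lc_c_rc_23_5 lc_c_rc_11_1 lc_c_rc_7_3 lc_c_rc_23_5 lc_c_rc_13_2 lc_c_Cert_tree lc_c_Cert_tree lc_c_rc_14_2 lc_c_rc_7_3 lc_c_rc_23_5 lc_c_rc_13_2 lc_c_Cert_tree lc_c_Cert_tree lc_c_rc_14_2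 lc_c_rc_23_5) (@D3.rec (fun _ => (Cert rels S Gen.c)) lc_c_rc_13_2 lc_c_rc_7_3 lc_c_rc_23_5 lc_c_rc_13_2 lc_c_Cert_tree lc_c_Cert_tree lc_c_rc_2_3 lc_c_rc_11_1 lc_c_rc_14_2 lc_c_rc_24_2 lc_c_rc_11_1 lc_c_rc_13_2 lc_c_rc_12_4 lc_c_rc_13_2 lc_c_rc_11_1 lc_c_rc_11_1 lc_c_rc_7_3 lc_c_rc_22_5 lc_c_rc_13_2 lc_c_rc_14_2 lc_c_rc_11_1 lc_c_rc_7_3 lc_c_rc_13_2 lc_c_rc_23_0 lc_c_rc_24_2 lc_c_rc_14_2 lc_c_rc_7_3 lc_c_rc_13_2 lc_c_Cert_tree lc_c_Cert_tree lc_c_rc_2_3 lc_c_rc_13_2 lc_c_rc_11_1 lc_c_rc_23_0 lc_c_rc_22_7 lc_c_rc_14_2 lc_c_rc_11_1 lc_c_rc_11_1 lc_c_rc_11_1 lc_c_rc_13_2 lc_c_rc_26_8 lc_c_rc_11_1 lc_c_rc_11_1 lc_c_rc_14_2 lc_c_rc_7_3 lc_c_rc_13_2 lc_c_rc_13_2 lc_c_rc_13_2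 lc_c_rc_13_2 lc_c_rc_7_3 lc_c_rc_12_4 lc_c_rc_13_2 lc_c_rc_26_2 lc_c_rc_23_0 lc_c_rc_13_2 lc_c_rc_26_2 lc_c_Cert_tree lc_c_Cert_tree lc_c_rc_2_3 lc_c_rc_13_2 lc_c_Cert_tree lc_c_rc_14_2) (@D3.rec (fun _ => (Cert rels S Gen.c)) lc_c_rc_11_1 lc_c_Cert_tree lc_c_rc_13_2 lc_c_rc_11_1 lc_c_Cert_tree lc_c_Cert_tree lc_c_rc_11_1 lc_c_rc_14_2 lc_c_rc_11_1 lc_c_rc_11_1 lc_c_rc_24_4 lc_c_rc_7_1 lc_c_rc_22_7 lc_c_rc_13_2 lc_c_Cert_tree lc_c_rc_14_2 lc_c_Cert_tree lc_c_Cert_tree lc_c_rc_2_3 lc_c_rc_13_2 lc_c_rc_11_1 lc_c_rc_23_0 lc_c_Cert_tree lc_c_rc_14_2 lc_c_Cert_tree lc_c_rc_11_1 lc_c_Cert_tree lc_c_rc_11_1 lc_c_Cert_tree lc_c_rc_13_2 lc_c_Cert_tree lc_c_rc_11_1 lc_c_rc_14_2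 lc_c_rc_13_2 lc_c_rc_7_1 lc_c_rc_22_7 lc_c_rc_13_2 lc_c_rc_13_2 lc_c_rc_26_4 lc_c_rc_14_2 lc_c_Cert_tree lc_c_Cert_tree lc_c_rc_2_3 lc_c_rc_13_2 lc_c_rc_24_6 lc_c_rc_13_2 lc_c_rc_13_2 lc_c_rc_14_2 lc_c_rc_11_1 lc_c_Cert_tree lc_c_rc_13_2 lc_c_Cert_tree lc_c_rc_11_1 lc_c_Cert_tree lc_c_rc_7_1 lc_c_rc_11_1 lc_c_rc_2_3 lc_c_rc_13_2 lc_c_Cert_tree lc_c_rc_14_2 lc_c_Cert_tree lc_c_Cert_tree) (@D3.rec (fun _ => (Cert rels S Gen.c)) lc_c_rc_23_0 lc_c_rc_11_1 lc_c_rc_7_1 lc_c_Cert_tree lc_c_rc_14_2 lc_c_rc_14_2 lc_c_Cert_tree lc_c_rc_26_4 lc_c_rc_11_1 lc_c_Cert_tree lc_c_rc_13_2 lc_c_rc_14_2 lc_c_Cert_tree lc_c_rc_11_1 lc_c_Cert_tree lc_c_rc_13_2 lc_c_Cert_tree lc_c_Cert_tree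 lc_c_Cert_tree lc_c_rc_11_1 lc_c_rc_13_2 lc_c_rc_13_2 lc_c_rc_13_2 lc_c_rc_13_2 lc_c_rc_14_2 lc_c_rc_11_1 lc_c_rc_13_2 lc_c_Cert_tree lc_c_rc_11_1 lc_c_Cert_tree lc_c_rc_13_2 lc_c_Cert_tree lc_c_rc_11_1 lc_c_Cert_tree lc_c_rc_13_2 lc_c_rc_7_3 lc_c_rc_13_2 lc_c_rc_24_2 lc_c_rc_24_2 lc_c_rc_14_2 lc_c_rc_13_2 lc_c_rc_11_1 lc_c_rc_13_2 lc_c_rc_24_2 lc_c_rc_14_2 lc_c_rc_14_0 lc_c_rc_11_1 lc_c_rc_2_3 lc_c_rc_13_2 lc_c_rc_22_7 lc_c_rc_14_2 lc_c_rc_26_8 lc_c_rc_11_1 lc_c_rc_26_4 lc_c_rc_11_1 lc_c_rc_13_2 lc_c_rc_26_2 lc_c_rc_26_4 lc_c_rc_11_1 lc_c_rc_24_2 lc_c_rc_24_8 lc_c_rc_11_1) (@D3.rec (fun _ => (Cert rels S Gen.c)) lc_c_rc_13_2 lc_c_rc_7_3 lc_c_rc_13_2 lc_c_rc_14_2 lc_c_rc_14_2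 lc_c_Cert_tree lc_c_Cert_tree lc_c_rc_2_3 lc_c_rc_13_2 lc_c_Cert_tree lc_c_rc_14_2 lc_c_rc_26_8 lc_c_rc_11_1 lc_c_Cert_tree lc_c_rc_13_2 lc_c_rc_26_4 lc_c_rc_11_1 lc_c_Cert_tree lc_c_Cert_tree lc_c_rc_11_1 lc_c_rc_14_2 lc_c_rc_7_3 lc_c_rc_23_5 lc_c_rc_11_1 lc_c_rc_23_0 lc_c_rc_14_2 lc_c_Cert_tree lc_c_Cert_tree lc_c_rc_11_1 lc_c_rc_13_2 lc_c_rc_14_0 lc_c_rc_14_2 lc_c_rc_2_1 lc_c_Cert_tree lc_c_Cert_tree lc_c_Cert_tree lc_c_Cert_tree lc_c_rc_11_1 lc_c_rc_7_3 lc_c_rc_14_2 lc_c_rc_13_0 lc_c_rc_13_2 lc_c_rc_24_8 lc_c_rc_24_8 lc_c_rc_7_5 lc_c_rc_13_2 lc_c_rc_11_1 lc_c_rc_22_9 lc_c_rc_11_1 lc_c_rc_22_3 lc_c_rc_7_3 lc_c_rc_22_9 lc_c_rc_11_1 lc_c_rc_11_1 lc_c_rc_13_2 lc_c_rc_11_1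 lc_c_rc_13_2 lc_c_rc_11_1 lc_c_rc_7_3 lc_c_rc_2_1 lc_c_rc_14_2 lc_c_rc_13_2) (@D3.rec (fun _ => (Cert rels S Gen.c)) lc_c_rc_26_4 lc_c_rc_11_1 lc_c_rc_13_2 lc_c_rc_14_0 lc_c_rc_11_1 lc_c_rc_13_2 lc_c_rc_11_1 lc_c_rc_11_1 lc_c_rc_13_2 lc_c_rc_24_6 lc_c_rc_11_1 lc_c_rc_7_3 lc_c_rc_24_8 lc_c_rc_13_2 lc_c_Cert_tree lc_c_rc_14_2 lc_c_rc_24_2 lc_c_rc_11_1 lc_c_rc_13_2 lc_c_rc_7_3 lc_c_rc_24_8 lc_c_rc_13_2 lc_c_rc_13_2 lc_c_rc_14_2 lc_c_rc_13_2 lc_c_rc_24_6 lc_c_rc_11_1 lc_c_rc_23_5 lc_c_rc_13_2 lc_c_Cert_tree lc_c_Cert_tree lc_c_rc_14_2 lc_c_rc_13_2 lc_c_rc_11_1 lc_c_rc_23_5 lc_c_rc_13_2 lc_c_rc_7_5 lc_c_rc_2_3 lc_c_rc_14_2 lc_c_rc_7_3 lc_c_rc_23_5 lc_c_rc_13_2 lc_c_rc_7_3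 lc_c_rc_22_5 lc_c_rc_13_2 lc_c_rc_23_0 lc_c_rc_11_1 lc_c_rc_11_1 lc_c_rc_13_2 lc_c_rc_12_4 lc_c_rc_13_2 lc_c_Cert_tree lc_c_Cert_tree lc_c_Cert_tree lc_c_Cert_tree lc_c_rc_14_2 lc_c_Cert_tree lc_c_rc_22_7 lc_c_rc_13_2 lc_c_rc_23_5 lc_c_rc_11_1 lc_c_rc_14_2) (@D3.rec (fun _ => (Cert rels S Gen.c)) lc_c_Cert_tree lc_c_rc_26_10 lc_c_rc_2_3 lc_c_Cert_tree lc_c_rc_26_10 lc_c_rc_13_2 lc_c_rc_11_1 lc_c_rc_13_2 lc_c_rc_26_4 lc_c_rc_7_3 lc_c_rc_11_1 lc_c_rc_23_0 lc_c_rc_11_1 lc_c_rc_22_9 lc_c_rc_13_2 lc_c_rc_22_9 lc_c_rc_24_2 lc_c_rc_13_0 lc_c_rc_11_1 lc_c_rc_11_1 lc_c_rc_23_0 lc_c_Cert_tree lc_c_rc_13_2 lc_c_rc_14_2 lc_c_rc_11_1 lc_c_rc_14_2 lc_c_rc_26_2 lc_c_rc_26_2 lc_c_rc_13_2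 lc_c_Cert_tree lc_c_rc_13_2 lc_c_rc_11_1 lc_c_rc_13_2 lc_c_Cert_tree lc_c_rc_26_4 lc_c_rc_26_2 lc_c_rc_11_1 lc_c_rc_7_5 lc_c_rc_11_1 lc_c_rc_26_8 lc_c_rc_11_1 lc_c_rc_13_2 lc_c_rc_11_1 lc_c_rc_7_3 lc_c_Cert_tree lc_c_rc_13_2 lc_c_rc_14_2 lc_c_rc_7_1 lc_c_rc_13_0 lc_c_rc_14_2 lc_c_rc_13_2 lc_c_Cert_tree lc_c_rc_22_5 lc_c_rc_14_2 lc_c_rc_22_7 lc_c_rc_14_2 lc_c_rc_11_1 lc_c_rc_24_8 lc_c_rc_11_1 lc_c_rc_11_1 lc_c_rc_24_8 lc_c_rc_7_3) (@D3.rec (fun _ => (Cert rels S Gen.c)) lc_c_rc_22_5 lc_c_rc_23_0 lc_c_rc_11_1 lc_c_rc_11_1 lc_c_rc_11_1 lc_c_rc_13_2 lc_c_rc_7_3 lc_c_rc_2_1 lc_c_rc_14_2 lc_c_rc_13_2 lc_c_rc_23_0 lc_c_rc_11_1 lc_c_rc_13_2 lc_c_rc_26_10 lc_c_rc_26_2 lc_c_rc_11_1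 lc_c_rc_13_2 lc_c_rc_11_1 lc_c_rc_13_2 lc_c_rc_11_1 lc_c_rc_11_1 lc_c_rc_11_1 lc_c_rc_7_3 lc_c_rc_11_1 lc_c_rc_13_2 lc_c_Cert_tree lc_c_Cert_tree lc_c_rc_14_2 lc_c_rc_22_3 lc_c_rc_11_1 lc_c_rc_11_1 lc_c_rc_11_1 lc_c_rc_13_2 lc_c_rc_7_3 lc_c_rc_24_2 lc_c_rc_13_2 lc_c_rc_13_2 lc_c_rc_24_6 lc_c_rc_11_1 lc_c_rc_23_5 lc_c_rc_13_2 lc_c_Cert_tree lc_c_Cert_tree lc_c_rc_14_2 lc_c_rc_13_2 lc_c_rc_11_1 lc_c_rc_23_5 lc_c_rc_13_2 lc_c_Cert_tree lc_c_rc_14_2 lc_c_rc_11_1 lc_c_rc_22_5 lc_c_rc_13_2 lc_c_rc_7_5 lc_c_rc_13_2 lc_c_rc_2_3 lc_c_rc_11_1 lc_c_rc_2_3 lc_c_Cert_tree lc_c_rc_14_2 lc_c_rc_24_6 lc_c_rc_7_5) (@D3.rec (fun _ => (Cert rels S Gen.c)) lc_c_rc_11_1 lc_c_rc_13_2 lc_c_rc_22_3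 lc_c_rc_13_2 lc_c_Cert_tree lc_c_Cert_tree lc_c_rc_7_3 lc_c_rc_24_8 lc_c_rc_13_2 lc_c_rc_24_8 lc_c_rc_14_2 lc_c_rc_24_2 lc_c_rc_11_1 lc_c_rc_7_3 lc_c_rc_24_2 lc_c_rc_13_2 lc_c_Cert_tree lc_c_Cert_tree lc_c_rc_2_3 lc_c_rc_13_2 lc_c_rc_23_5 lc_c_rc_13_2 lc_c_Cert_tree lc_c_Cert_tree lc_c_rc_14_2 lc_c_Cert_tree lc_c_rc_23_0 lc_c_rc_14_2 lc_c_Cert_tree lc_c_rc_7_3 lc_c_rc_11_1 lc_c_rc_13_2 lc_c_rc_14_2 lc_c_rc_26_4 lc_c_rc_11_1 lc_c_Cert_tree lc_c_Cert_tree lc_c_rc_7_5 lc_c_rc_11_1 lc_c_rc_13_2 lc_c_rc_13_2 lc_c_rc_24_8 lc_c_rc_24_8 lc_c_rc_14_2 lc_c_Cert_tree lc_c_rc_11_1 lc_c_rc_2_3 lc_c_rc_11_1 lc_c_rc_26_4 lc_c_rc_13_2 lc_c_rc_26_10 lc_c_rc_13_0 lc_c_rc_13_2 lc_c_rc_11_1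 lc_c_rc_13_2 lc_c_rc_23_0 lc_c_rc_24_4 lc_c_rc_2_1 lc_c_rc_14_0 lc_c_rc_13_0 lc_c_rc_14_2 lc_c_rc_24_8) (@D3.rec (fun _ => (Cert rels S Gen.c)) lc_c_rc_24_8 lc_c_rc_11_1 lc_c_rc_13_2 lc_c_rc_11_1 lc_c_rc_13_2 lc_c_rc_24_2 lc_c_rc_13_2 lc_c_rc_13_2 lc_c_rc_7_3 lc_c_rc_11_1 lc_c_rc_13_2 lc_c_rc_7_3 lc_c_rc_24_2 lc_c_rc_13_2 lc_c_Cert_tree lc_c_Cert_tree lc_c_rc_14_2 lc_c_rc_7_3 lc_c_rc_22_5 lc_c_rc_13_2 lc_c_Cert_tree lc_c_rc_14_2 lc_c_rc_7_5 lc_c_rc_23_5 lc_c_rc_13_2 lc_c_rc_7_5 lc_c_rc_23_5 lc_c_rc_13_2 lc_c_Cert_tree lc_c_Cert_tree lc_c_rc_2_3 lc_c_rc_7_3 lc_c_rc_14_2 lc_c_rc_24_8 lc_c_rc_24_8 lc_c_rc_11_1 lc_c_rc_13_2 lc_c_rc_22_5 lc_c_rc_13_2 lc_c_rc_11_1 lc_c_rc_13_2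 lc_c_rc_2_3 lc_c_rc_13_2 lc_c_rc_13_2 lc_c_rc_7_3 lc_c_rc_11_1 lc_c_rc_13_2 lc_c_rc_11_1 lc_c_rc_22_3 lc_c_rc_24_4 lc_c_rc_2_1 lc_c_rc_13_2 lc_c_rc_7_3 lc_c_rc_11_1 lc_c_rc_14_2 lc_c_rc_13_2 lc_c_rc_7_3 lc_c_rc_24_2 lc_c_rc_13_2 lc_c_rc_22_3 lc_c_rc_22_5 lc_c_rc_7_3) (@D3.rec (fun _ => (Cert rels S Gen.c)) lc_c_rc_23_5 lc_c_rc_13_2 lc_c_Cert_tree lc_c_Cert_tree lc_c_rc_14_2 lc_c_rc_7_3 lc_c_rc_23_5 lc_c_rc_13_2 lc_c_rc_7_5 lc_c_rc_23_5 lc_c_rc_13_2 lc_c_Cert_tree lc_c_rc_11_1 lc_c_rc_2_3 lc_c_Cert_tree lc_c_rc_7_3 lc_c_rc_24_8 lc_c_rc_24_2 lc_c_rc_11_1 lc_c_rc_13_2 lc_c_rc_22_5 lc_c_rc_13_2 lc_c_rc_11_1 lc_c_rc_13_2 lc_c_rc_11_1 lc_c_rc_13_2 lc_c_rc_11_1 lc_c_rc_7_3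 lc_c_rc_12_8 lc_c_rc_13_2 lc_c_Cert_tree lc_c_rc_14_2 lc_c_rc_7_3 lc_c_rc_11_1 lc_c_rc_13_2 lc_c_Cert_tree lc_c_rc_14_2 lc_c_rc_13_2 lc_c_rc_11_1 lc_c_rc_23_5 lc_c_rc_13_2 lc_c_Cert_tree lc_c_rc_14_2 lc_c_rc_7_3 lc_c_rc_12_8 lc_c_rc_13_2 lc_c_Cert_tree lc_c_rc_14_2 lc_c_rc_7_5 lc_c_rc_14_0 lc_c_rc_13_2 lc_c_rc_7_5 lc_c_rc_22_7 lc_c_rc_13_2 lc_c_Cert_tree lc_c_Cert_tree lc_c_rc_2_3 lc_c_Cert_tree lc_c_rc_7_3 lc_c_rc_2_3 lc_c_rc_11_1 lc_c_rc_13_2) (@D3.rec (fun _ => (Cert rels S Gen.c)) lc_c_rc_13_2 lc_c_rc_23_0 lc_c_rc_7_3 lc_c_rc_24_4 lc_c_rc_13_2 lc_c_rc_11_1 lc_c_rc_24_8 lc_c_rc_14_2 lc_c_rc_13_2 lc_c_rc_26_2 lc_c_rc_13_2 lc_c_rc_13_2 lc_c_rc_7_3 lc_c_rc_13_2 lc_c_rc_13_2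 lc_c_rc_26_10 lc_c_rc_14_2 lc_c_rc_7_3 lc_c_rc_12_8 lc_c_rc_13_2 lc_c_Cert_tree lc_c_Cert_tree lc_c_rc_14_2 lc_c_rc_7_3 lc_c_rc_23_5 lc_c_rc_13_2 lc_c_rc_7_5 lc_c_rc_23_0 lc_c_rc_13_2 lc_c_rc_11_1 lc_c_rc_24_2 lc_c_rc_13_2 lc_c_Cert_tree lc_c_Cert_tree lc_c_rc_2_3 lc_c_Cert_tree lc_c_rc_13_2 lc_c_rc_24_4 lc_c_rc_22_9 lc_c_rc_13_2 lc_c_rc_23_0 lc_c_rc_13_2 lc_c_Cert_tree lc_c_rc_14_2 lc_c_rc_11_1 lc_c_Cert_tree lc_c_rc_11_1 lc_c_rc_13_2 lc_c_Cert_tree lc_c_rc_11_1 lc_c_rc_14_2 lc_c_rc_11_1 lc_c_rc_7_3 lc_c_rc_23_5 lc_c_rc_13_2 lc_c_rc_11_1 lc_c_rc_13_2 lc_c_rc_11_1 lc_c_rc_13_2 lc_c_rc_13_2 lc_c_rc_13_2 lc_c_rc_7_3) (@D3.rec (fun _ => (Cert rels S Gen.c)) lc_c_rc_24_8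 lc_c_rc_13_2 lc_c_rc_26_2 lc_c_rc_13_0 lc_c_rc_14_2 lc_c_rc_11_1 lc_c_rc_13_2 lc_c_rc_7_3 lc_c_rc_13_2 lc_c_rc_26_10 lc_c_rc_13_0 lc_c_Cert_tree lc_c_rc_14_2 lc_c_rc_11_1 lc_c_Cert_tree lc_c_Cert_tree lc_c_rc_2_3 lc_c_Cert_tree lc_c_rc_13_2 lc_c_rc_13_2 lc_c_rc_2_3 lc_c_rc_13_0 lc_c_Cert_tree lc_c_rc_14_2 lc_c_rc_11_1 lc_c_rc_11_1 lc_c_Cert_tree lc_c_Cert_tree lc_c_rc_11_1 lc_c_rc_14_2 lc_c_rc_11_1 lc_c_rc_24_2 lc_c_rc_7_1 lc_c_rc_23_5 lc_c_rc_13_2 lc_c_rc_24_2 lc_c_rc_23_0 lc_c_rc_11_1 lc_c_rc_13_2 lc_c_rc_14_0 lc_c_Cert_tree lc_c_Cert_tree lc_c_rc_2_3 lc_c_Cert_tree lc_c_rc_13_2 lc_c_rc_24_2 lc_c_rc_23_5 lc_c_rc_13_2 lc_c_rc_24_8 lc_c_rc_23_0 lc_c_Cert_tree lc_c_rc_14_2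 lc_c_rc_11_1 lc_c_rc_11_1 lc_c_Cert_tree lc_c_rc_11_1 lc_c_rc_13_2 lc_c_rc_11_1 lc_c_rc_13_2 lc_c_rc_7_1 lc_c_rc_23_5 lc_c_rc_13_2) (@D3.rec (fun _ => (Cert rels S Gen.c)) lc_c_rc_11_1 lc_c_rc_24_8 lc_c_Cert_tree lc_c_rc_14_2 lc_c_Cert_tree lc_c_Cert_tree lc_c_rc_2_3 lc_c_Cert_tree lc_c_rc_13_2 lc_c_rc_13_2 lc_c_Cert_tree lc_c_rc_11_1 lc_c_rc_22_7 lc_c_rc_14_2 lc_c_rc_11_1 lc_c_rc_13_2 lc_c_rc_11_1 lc_c_rc_24_2 lc_c_rc_11_1 lc_c_rc_14_2 lc_c_Cert_tree lc_c_Cert_tree lc_c_Cert_tree lc_c_rc_11_1 lc_c_rc_22_7 lc_c_rc_13_2 lc_c_rc_13_2 lc_c_rc_11_1 lc_c_rc_24_6 lc_c_rc_13_2 lc_c_Cert_tree lc_c_rc_14_2 lc_c_Cert_tree lc_c_Cert_tree lc_c_rc_11_1 lc_c_Cert_tree lc_c_rc_13_2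 lc_c_rc_13_2 lc_c_Cert_tree lc_c_rc_14_2 lc_c_rc_14_2 lc_c_rc_7_5 lc_c_rc_2_1 lc_c_Cert_tree lc_c_rc_13_2 lc_c_Cert_tree lc_c_Cert_tree lc_c_Cert_tree lc_c_Cert_tree lc_c_Cert_tree lc_c_rc_11_1 lc_c_rc_26_4 lc_c_rc_14_2 lc_c_rc_13_2 lc_c_Cert_tree lc_c_rc_13_2 lc_c_Cert_tree lc_c_rc_2_1 lc_c_rc_7_3 lc_c_rc_13_2 lc_c_rc_13_0 lc_c_Cert_tree) (@D3.rec (fun _ => (Cert rels S Gen.c)) lc_c_rc_11_1 lc_c_rc_13_2 lc_c_Cert_tree lc_c_rc_13_2 lc_c_rc_13_2 lc_c_rc_11_1 lc_c_Cert_tree lc_c_rc_13_2 lc_c_Cert_tree lc_c_rc_11_1 lc_c_Cert_tree lc_c_rc_13_2 lc_c_rc_14_0 lc_c_rc_13_2 lc_c_Cert_tree lc_c_rc_7_3 lc_c_rc_22_5 lc_c_rc_13_2 lc_c_Cert_tree lc_c_Cert_tree lc_c_rc_14_2 lc_c_rc_11_1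 lc_c_rc_13_2 lc_c_rc_11_1 lc_c_rc_13_2 lc_c_rc_7_3 lc_c_rc_13_2 lc_c_Cert_tree lc_c_rc_26_8 lc_c_rc_14_2 lc_c_rc_7_3 lc_c_rc_11_1 lc_c_rc_13_2 lc_c_Cert_tree lc_c_rc_14_2 lc_c_rc_7_3 lc_c_rc_23_5 lc_c_rc_13_2 lc_c_rc_2_3 lc_c_rc_14_2 lc_c_rc_7_5 lc_c_rc_23_5 lc_c_rc_13_2 lc_c_rc_7_5 lc_c_rc_23_0 lc_c_rc_13_2 lc_c_rc_2_1 lc_c_rc_13_0 lc_c_rc_2_3 lc_c_rc_26_2 lc_c_rc_13_2 lc_c_rc_12_0 lc_c_rc_24_4 lc_c_rc_13_2 lc_c_Cert_tree lc_c_Cert_tree lc_c_Cert_tree lc_c_rc_14_2 lc_c_rc_26_4 lc_c_rc_11_1 lc_c_rc_11_1 lc_c_rc_13_2) (@D3.rec (fun _ => (Cert rels S Gen.c)) lc_c_Cert_tree lc_c_Cert_tree lc_c_rc_23_0 lc_c_rc_26_4 lc_c_Cert_tree lc_c_rc_11_1 lc_c_Cert_tree lc_c_rc_11_1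 lc_c_rc_11_1 lc_c_rc_13_2 lc_c_rc_11_1 lc_c_rc_13_2 lc_c_rc_7_3 lc_c_rc_11_1 lc_c_rc_13_2 lc_c_rc_7_3 lc_c_rc_22_5 lc_c_rc_13_2 lc_c_rc_7_5 lc_c_rc_24_2 lc_c_rc_13_2 lc_c_rc_7_5 lc_c_rc_12_8 lc_c_rc_13_2 lc_c_rc_14_2 lc_c_rc_7_1 lc_c_rc_2_3 lc_c_rc_26_4 lc_c_rc_2_3 lc_c_rc_23_0 lc_c_rc_11_1 lc_c_rc_13_2 lc_c_rc_24_6 lc_c_Cert_tree lc_c_Cert_tree lc_c_rc_11_1 lc_c_Cert_tree lc_c_Cert_tree lc_c_rc_11_1 lc_c_rc_14_2 lc_c_rc_7_3 lc_c_rc_11_1 lc_c_Cert_tree lc_c_rc_11_1 lc_c_rc_12_2 lc_c_rc_26_8 lc_c_Cert_tree lc_c_rc_23_0 lc_c_rc_11_1 lc_c_rc_7_3 lc_c_rc_13_2 lc_c_rc_14_2 lc_c_Cert_tree lc_c_Cert_tree lc_c_rc_2_3 lc_c_rc_7_3 lc_c_rc_12_12 lc_c_rc_13_2 lc_c_Cert_tree lc_c_Cert_tree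 lc_c_rc_14_2 lc_c_rc_7_5) (@D3.rec (fun _ => (Cert rels S Gen.c)) lc_c_rc_13_2 lc_c_rc_7_5 lc_c_rc_23_0 lc_c_rc_11_1 lc_c_rc_2_3 lc_c_Cert_tree lc_c_rc_13_2 lc_c_rc_24_4 lc_c_rc_23_5 lc_c_rc_13_2 lc_c_Cert_tree lc_c_Cert_tree lc_c_Cert_tree lc_c_rc_14_2 lc_c_rc_13_2 lc_c_rc_11_1 lc_c_Cert_tree lc_c_rc_13_2 lc_c_rc_11_1 lc_c_rc_13_2 lc_c_rc_11_1 lc_c_rc_11_1 lc_c_rc_13_2 lc_c_Cert_tree lc_c_rc_11_1 lc_c_rc_24_8 lc_c_rc_11_1 lc_c_Cert_tree lc_c_rc_11_1 lc_c_rc_7_3 lc_c_rc_13_2 lc_c_rc_7_3 lc_c_rc_11_1 lc_c_rc_13_2 lc_c_Cert_tree lc_c_rc_14_2 lc_c_rc_7_3 lc_c_rc_7_5 lc_c_rc_13_2 lc_c_rc_11_1 lc_c_rc_11_1 lc_c_rc_2_3 lc_c_Cert_tree lc_c_rc_23_5 lc_c_rc_23_0 lc_c_rc_11_1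 lc_c_rc_13_2 lc_c_rc_11_1 lc_c_rc_24_6 lc_c_Cert_tree lc_c_rc_14_2 lc_c_rc_11_1 lc_c_rc_13_2 lc_c_rc_26_4 lc_c_rc_11_1 lc_c_rc_11_1 lc_c_rc_11_1 lc_c_rc_13_2 lc_c_rc_11_1 lc_c_rc_26_4 lc_c_rc_11_1 lc_c_rc_2_3) (@D3.rec (fun _ => (Cert rels S Gen.c)) lc_c_Cert_tree lc_c_rc_11_1 lc_c_rc_11_1 lc_c_rc_24_6 lc_c_rc_24_6 lc_c_rc_14_2 lc_c_rc_13_2 lc_c_Cert_tree lc_c_rc_11_1 lc_c_Cert_tree lc_c_rc_23_0 lc_c_rc_7_1 lc_c_rc_11_1 lc_c_rc_11_1 lc_c_rc_26_4 lc_c_rc_24_6 lc_c_rc_26_8 lc_c_rc_7_1 lc_c_Cert_tree lc_c_rc_13_2 lc_c_rc_14_2 lc_c_Cert_tree lc_c_rc_11_1 lc_c_rc_26_10 lc_c_rc_14_2 lc_c_rc_24_2 lc_c_rc_13_0 lc_c_Cert_tree lc_c_rc_11_1 lc_c_rc_7_1 lc_c_Cert_tree lc_c_rc_13_2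 lc_c_rc_11_1 lc_c_rc_11_1 lc_c_rc_13_2 lc_c_rc_11_1 lc_c_rc_26_8 lc_c_rc_11_1 lc_c_rc_22_3 lc_c_rc_22_7 lc_c_rc_11_1 lc_c_Cert_tree lc_c_rc_13_2 lc_c_Cert_tree lc_c_Cert_tree lc_c_Cert_tree lc_c_Cert_tree lc_c_rc_23_5 lc_c_rc_11_1 lc_c_Cert_tree lc_c_rc_13_2 lc_c_rc_7_1 lc_c_rc_23_5 lc_c_rc_13_2 lc_c_rc_11_1 lc_c_rc_22_9 lc_c_rc_2_1 lc_c_rc_11_1 lc_c_rc_13_2 lc_c_rc_13_2 lc_c_rc_13_2 lc_c_rc_11_1) (@D3.rec (fun _ => (Cert rels S Gen.c)) lc_c_rc_22_5 lc_c_rc_13_2 lc_c_Cert_tree lc_c_rc_7_3 lc_c_rc_12_12 lc_c_rc_13_2 lc_c_rc_7_3 lc_c_Cert_tree lc_c_rc_11_1 lc_c_rc_13_2 lc_c_rc_11_1 lc_c_rc_12_2 lc_c_rc_13_2 lc_c_Cert_tree lc_c_Cert_tree lc_c_rc_14_2 lc_c_rc_11_1 lc_c_rc_11_1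 lc_c_rc_7_1 lc_c_rc_23_5 lc_c_rc_13_2 lc_c_Cert_tree lc_c_rc_14_2 lc_c_rc_7_5 lc_c_rc_12_2 lc_c_rc_13_2 lc_c_rc_7_5 lc_c_rc_22_5 lc_c_rc_13_2 lc_c_rc_13_0 lc_c_rc_11_1 lc_c_rc_11_1 lc_c_rc_23_0 lc_c_rc_11_1 lc_c_rc_11_1 lc_c_rc_13_2 lc_c_rc_11_1 lc_c_rc_11_1 lc_c_rc_23_0 lc_c_rc_11_1 lc_c_Cert_tree lc_c_Cert_tree lc_c_rc_11_1 lc_c_Cert_tree lc_c_rc_13_2 lc_c_rc_26_2 lc_c_rc_7_1 lc_c_rc_11_1 lc_c_rc_13_2 lc_c_Cert_tree lc_c_Cert_tree lc_c_rc_14_2 lc_c_rc_2_3 lc_c_rc_13_2 lc_c_rc_11_1 lc_c_rc_11_1 lc_c_rc_14_2 lc_c_rc_22_3 lc_c_rc_7_1 lc_c_rc_13_2 lc_c_rc_26_4 lc_c_rc_23_5) (@D3.rec (fun _ => (Cert rels S Gen.c)) lc_c_rc_26_4 lc_c_Cert_tree lc_c_rc_11_1 lc_c_rc_11_1 lc_c_rc_13_2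 lc_c_rc_13_2 lc_c_rc_13_2 lc_c_rc_7_3 lc_c_rc_22_3 lc_c_rc_13_2 lc_c_rc_7_3 lc_c_rc_22_5 lc_c_rc_13_2 lc_c_rc_13_2 lc_c_rc_11_1 lc_c_rc_11_1 lc_c_rc_24_4 lc_c_rc_13_2 lc_c_rc_13_2 lc_c_rc_11_1 lc_c_rc_24_4 lc_c_rc_13_2 lc_c_Cert_tree lc_c_rc_14_2 lc_c_rc_7_5 lc_c_rc_23_5 lc_c_rc_13_2 lc_c_rc_7_3 lc_c_rc_7_3 lc_c_rc_13_2 lc_c_rc_26_8 lc_c_rc_2_3 lc_c_rc_2_3 lc_c_rc_22_9 lc_c_rc_24_8 lc_c_rc_11_1 lc_c_rc_13_2 lc_c_rc_11_1 lc_c_Cert_tree lc_c_rc_14_2 lc_c_Cert_tree lc_c_rc_11_1 lc_c_rc_26_4 lc_c_Cert_tree lc_c_rc_11_1 lc_c_rc_11_1 lc_c_rc_7_3 lc_c_rc_22_9 lc_c_rc_2_3 lc_c_rc_11_1 lc_c_rc_2_3 lc_c_rc_26_10 lc_c_rc_14_2 lc_c_rc_2_3 lc_c_Cert_tree lc_c_rc_2_1 lc_c_rc_25_9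 lc_c_rc_26_10 lc_c_Cert_tree lc_c_Cert_tree lc_c_rc_25_17 lc_c_rc_11_1) (@D3.rec (fun _ => (Cert rels S Gen.c)) lc_c_rc_13_2 lc_c_rc_14_2 lc_c_rc_7_3 lc_c_rc_13_2 lc_c_rc_24_8 lc_c_rc_24_8 lc_c_rc_14_2 lc_c_rc_13_2 lc_c_rc_24_2 lc_c_rc_11_1 lc_c_rc_13_2 lc_c_rc_13_2 lc_c_rc_7_3 lc_c_rc_24_4 lc_c_rc_13_2 lc_c_rc_26_2 lc_c_rc_11_1 lc_c_rc_13_2 lc_c_rc_13_2 lc_c_rc_7_3 lc_c_rc_11_1 lc_c_rc_13_2 lc_c_rc_13_2 lc_c_rc_13_2 lc_c_rc_7_3 lc_c_rc_22_7 lc_c_rc_13_2 lc_c_rc_13_2 lc_c_rc_13_2 lc_c_rc_7_3 lc_c_rc_22_9 lc_c_rc_13_2 lc_c_rc_11_1 lc_c_rc_13_2 lc_c_rc_13_2 lc_c_rc_7_3 lc_c_rc_24_8 lc_c_rc_13_2 lc_c_rc_13_2 lc_c_rc_24_8 lc_c_rc_25_17 lc_c_rc_13_2 lc_c_rc_11_1 lc_c_rc_13_2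 lc_c_rc_11_1 lc_c_rc_24_8 lc_c_rc_13_2 lc_c_rc_26_2 lc_c_rc_13_2 lc_c_rc_7_3 lc_c_rc_23_5 lc_c_rc_13_2 lc_c_rc_26_10 lc_c_rc_26_2 lc_c_rc_13_2 lc_c_rc_26_2 lc_c_rc_13_2 lc_c_rc_11_1 lc_c_rc_23_5 lc_c_rc_13_2 lc_c_Cert_tree lc_c_Cert_tree) (@D3.rec (fun _ => (Cert rels S Gen.c)) lc_c_rc_7_3 lc_c_rc_14_2 lc_c_rc_11_1 lc_c_rc_22_3 lc_c_rc_13_2 lc_c_Cert_tree lc_c_rc_11_1 lc_c_rc_2_3 lc_c_Cert_tree lc_c_rc_14_2 lc_c_rc_11_1 lc_c_rc_11_1 lc_c_rc_13_2 lc_c_rc_22_3 lc_c_rc_13_2 lc_c_rc_26_8 lc_c_rc_26_2 lc_c_rc_7_3 lc_c_rc_24_2 lc_c_rc_13_2 lc_c_rc_23_5 lc_c_rc_23_0 lc_c_rc_14_2 lc_c_rc_7_3 lc_c_rc_22_5 lc_c_rc_13_2 lc_c_rc_23_0 lc_c_rc_23_0 lc_c_rc_14_2 lc_c_Cert_tree lc_c_Cert_tree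 lc_c_rc_2_3 lc_c_rc_22_7 lc_c_rc_11_1 lc_c_rc_13_2 lc_c_rc_13_2 lc_c_Cert_tree lc_c_Cert_tree lc_c_rc_2_3 lc_c_rc_13_2 lc_c_rc_13_2 lc_c_Cert_tree lc_c_rc_14_2 lc_c_rc_26_4 lc_c_rc_13_2 lc_c_rc_13_2 lc_c_rc_26_4 lc_c_rc_11_1 lc_c_rc_26_10 lc_c_rc_7_3 lc_c_rc_23_5 lc_c_rc_7_1 lc_c_rc_22_3 lc_c_rc_13_2 lc_c_Cert_tree lc_c_Cert_tree lc_c_rc_14_2 lc_c_Cert_tree lc_c_Cert_tree lc_c_rc_2_1 lc_c_rc_13_2 lc_c_rc_11_1) (@D3.rec (fun _ => (Cert rels S Gen.c)) lc_c_rc_23_0 lc_c_Cert_tree lc_c_rc_14_2 lc_c_rc_26_2 lc_c_rc_14_0 lc_c_rc_2_3 lc_c_rc_23_5 lc_c_rc_24_2 lc_c_rc_11_1 lc_c_rc_14_2 lc_c_rc_13_2 lc_c_rc_23_5 lc_c_Cert_tree lc_c_rc_14_2 lc_c_rc_23_0 lc_c_rc_26_2 lc_c_rc_14_2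 lc_c_Cert_tree lc_c_rc_26_4 lc_c_rc_11_1 lc_c_Cert_tree lc_c_rc_13_2 lc_c_rc_14_2 lc_c_Cert_tree lc_c_rc_11_1 lc_c_Cert_tree lc_c_rc_13_2 lc_c_rc_11_1 lc_c_Cert_tree lc_c_rc_11_1 lc_c_rc_13_2 lc_c_rc_14_2 lc_c_rc_13_2 lc_c_rc_11_1 lc_c_rc_14_2 lc_c_Cert_tree lc_c_Cert_tree lc_c_rc_23_5 lc_c_Cert_tree lc_c_rc_23_5 lc_c_rc_7_3 lc_c_rc_12_8 lc_c_rc_13_2 lc_c_Cert_tree lc_c_Cert_tree lc_c_rc_14_2 lc_c_rc_7_3 lc_c_rc_22_7 lc_c_rc_13_2 lc_c_Cert_tree lc_c_Cert_tree lc_c_rc_14_2 lc_c_rc_7_3 lc_c_rc_23_5 lc_c_rc_13_2 lc_c_rc_7_3 lc_c_rc_23_5 lc_c_rc_13_2 lc_c_Cert_tree lc_c_Cert_tree lc_c_rc_2_3 lc_c_Cert_tree) (@D3.rec (fun _ => (Cert rels S Gen.c)) lc_c_rc_14_2 lc_c_rc_12_8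 lc_c_rc_24_2 lc_c_rc_11_1 lc_c_rc_22_7 lc_c_rc_13_2 lc_c_rc_26_4 lc_c_rc_13_2 lc_c_rc_7_3 lc_c_rc_22_3 lc_c_rc_13_2 lc_c_rc_7_3 lc_c_rc_12_8 lc_c_rc_13_2 lc_c_rc_7_3 lc_c_rc_22_7 lc_c_rc_13_2 lc_c_Cert_tree lc_c_rc_22_3 lc_c_rc_7_3 lc_c_rc_23_5 lc_c_rc_13_2 lc_c_rc_7_5 lc_c_rc_23_5 lc_c_rc_13_2 lc_c_Cert_tree lc_c_Cert_tree lc_c_rc_2_3 lc_c_Cert_tree lc_c_rc_7_3 lc_c_rc_24_6 lc_c_rc_12_0 lc_c_rc_13_2 lc_c_rc_13_2 lc_c_rc_13_2 lc_c_rc_11_1 lc_c_rc_11_1 lc_c_rc_24_6 lc_c_rc_13_2 lc_c_Cert_tree lc_c_rc_14_2 lc_c_rc_7_3 lc_c_rc_12_8 lc_c_rc_13_2 lc_c_Cert_tree lc_c_rc_24_6 lc_c_rc_13_2 lc_c_rc_11_1 lc_c_rc_11_1 lc_c_rc_11_1 lc_c_rc_13_2 lc_c_Cert_tree lc_c_rc_14_2 lc_c_rc_7_3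 lc_c_rc_22_7 lc_c_rc_13_2 lc_c_Cert_tree lc_c_rc_14_2 lc_c_rc_7_5 lc_c_rc_23_0 lc_c_rc_13_2 lc_c_rc_11_1) (@D3.rec (fun _ => (Cert rels S Gen.c)) lc_c_rc_23_5 lc_c_rc_13_2 lc_c_Cert_tree lc_c_Cert_tree lc_c_rc_2_3 lc_c_Cert_tree lc_c_rc_7_3 lc_c_rc_24_2 lc_c_rc_24_2 lc_c_rc_13_2 lc_c_rc_13_2 lc_c_rc_7_3 lc_c_rc_22_5 lc_c_rc_13_2 lc_c_Cert_tree lc_c_Cert_tree lc_c_rc_14_2 lc_c_rc_7_3 lc_c_rc_23_5 lc_c_rc_13_2 lc_c_rc_7_5 lc_c_rc_23_5 lc_c_rc_13_2 lc_c_rc_11_1 lc_c_rc_23_5 lc_c_rc_7_1 lc_c_Cert_tree lc_c_Cert_tree lc_c_rc_2_3 lc_c_Cert_tree lc_c_rc_13_2 lc_c_rc_24_4 lc_c_rc_22_5 lc_c_rc_13_2 lc_c_rc_13_2 lc_c_rc_11_1 lc_c_rc_13_0 lc_c_rc_14_2 lc_c_rc_11_1 lc_c_rc_11_1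 lc_c_rc_13_2 lc_c_rc_23_5 lc_c_rc_11_1 lc_c_rc_22_3 lc_c_rc_7_3 lc_c_rc_23_5 lc_c_rc_13_2 lc_c_rc_13_2 lc_c_rc_7_3 lc_c_rc_12_2 lc_c_rc_13_2 lc_c_rc_26_10 lc_c_rc_13_0 lc_c_rc_26_4 lc_c_rc_7_3 lc_c_rc_13_2 lc_c_rc_26_4 lc_c_rc_13_2 lc_c_Cert_tree lc_c_Cert_tree lc_c_rc_2_3 lc_c_Cert_tree) (@D3.rec (fun _ => (Cert rels S Gen.c)) lc_c_rc_13_2 lc_c_rc_13_2 lc_c_Cert_tree lc_c_rc_13_0 lc_c_rc_13_0 lc_c_rc_14_2 lc_c_rc_11_1 lc_c_rc_13_2 lc_c_rc_11_1 lc_c_rc_7_3 lc_c_rc_13_2 lc_c_rc_7_3 lc_c_Cert_tree lc_c_Cert_tree lc_c_rc_2_3 lc_c_Cert_tree lc_c_rc_13_2 lc_c_rc_11_1 lc_c_rc_24_4 lc_c_rc_13_2 lc_c_rc_11_1 lc_c_rc_13_2 lc_c_rc_2_3 lc_c_rc_14_2 lc_c_rc_11_1 lc_c_rc_23_5 lc_c_rc_11_1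 lc_c_rc_23_0 lc_c_rc_13_2 lc_c_rc_11_1 lc_c_rc_7_1 lc_c_rc_22_7 lc_c_rc_13_2 lc_c_rc_26_2 lc_c_rc_26_4 lc_c_rc_14_2 lc_c_Cert_tree lc_c_rc_11_1 lc_c_rc_2_3 lc_c_Cert_tree lc_c_rc_13_2 lc_c_rc_13_2 lc_c_Cert_tree lc_c_rc_23_0 lc_c_Cert_tree lc_c_rc_14_2 lc_c_rc_11_1 lc_c_rc_13_2 lc_c_rc_11_1 lc_c_rc_11_1 lc_c_rc_14_2 lc_c_Cert_tree lc_c_Cert_tree lc_c_Cert_tree lc_c_rc_11_1 lc_c_Cert_tree lc_c_rc_13_2 lc_c_rc_26_4 lc_c_rc_13_2 lc_c_rc_24_2 lc_c_rc_13_2 lc_c_rc_22_7) (@D3.rec (fun _ => (Cert rels S Gen.c)) lc_c_rc_14_2 lc_c_Cert_tree lc_c_Cert_tree lc_c_Cert_tree lc_c_rc_11_1 lc_c_rc_11_1 lc_c_rc_13_2 lc_c_rc_13_2 lc_c_rc_13_2 lc_c_rc_22_3 lc_c_rc_14_2 lc_c_Cert_tree lc_c_rc_11_1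 lc_c_Cert_tree lc_c_Cert_tree lc_c_rc_22_9 lc_c_Cert_tree lc_c_Cert_tree lc_c_rc_11_1 lc_c_rc_26_4 lc_c_Cert_tree lc_c_rc_13_2 lc_c_rc_11_1 lc_c_rc_13_2 lc_c_rc_7_3 lc_c_rc_13_2 lc_c_Cert_tree lc_c_Cert_tree lc_c_rc_14_2 lc_c_rc_13_2 lc_c_rc_13_2 lc_c_rc_11_1 lc_c_rc_22_3 lc_c_rc_11_1 lc_c_Cert_tree lc_c_rc_13_2 lc_c_rc_26_8 lc_c_rc_11_1 lc_c_Cert_tree lc_c_rc_13_2 lc_c_rc_13_2 lc_c_rc_22_7 lc_c_rc_7_1 lc_c_rc_13_2 lc_c_Cert_tree lc_c_rc_7_3 lc_c_rc_13_2 lc_c_Cert_tree lc_c_Cert_tree lc_c_rc_2_3 lc_c_rc_11_1 lc_c_rc_7_3 lc_c_rc_23_0 lc_c_rc_13_2 lc_c_Cert_tree lc_c_Cert_tree lc_c_rc_14_2 lc_c_rc_11_1 lc_c_rc_7_1 lc_c_rc_23_5 lc_c_rc_13_2 lc_c_rc_24_6) (@D3.rec (fun _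 => (Cert rels S Gen.c)) lc_c_rc_14_2 lc_c_rc_7_5 lc_c_rc_13_2 lc_c_rc_7_5 lc_c_rc_13_2 lc_c_rc_2_3 lc_c_rc_11_1 lc_c_rc_2_3 lc_c_rc_26_2 lc_c_rc_22_5 lc_c_rc_7_3 lc_c_rc_2_1 lc_c_rc_11_1 lc_c_rc_11_1 lc_c_Cert_tree lc_c_rc_13_2 lc_c_rc_11_1 lc_c_Cert_tree lc_c_Cert_tree lc_c_rc_11_1 lc_c_Cert_tree lc_c_rc_13_2 lc_c_rc_7_1 lc_c_rc_13_2 lc_c_Cert_tree lc_c_Cert_tree lc_c_rc_2_3 lc_c_Cert_tree lc_c_rc_13_2 lc_c_Cert_tree lc_c_rc_11_1 lc_c_Cert_tree lc_c_rc_11_1 lc_c_rc_13_2 lc_c_rc_11_1 lc_c_rc_7_3 lc_c_rc_22_5 lc_c_rc_13_2 lc_c_rc_7_3 lc_c_rc_22_5 lc_c_rc_13_2 lc_c_rc_24_6 lc_c_rc_24_6 lc_c_rc_11_1 lc_c_rc_11_1 lc_c_rc_13_2 lc_c_rc_7_3 lc_c_rc_22_5 lc_c_rc_13_2 lc_c_Cert_tree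 lc_c_rc_14_2 lc_c_rc_7_5 lc_c_rc_13_2 lc_c_rc_7_5 lc_c_rc_13_2 lc_c_rc_22_9 lc_c_rc_11_1 lc_c_rc_2_3 lc_c_rc_11_1 lc_c_rc_13_2 lc_c_rc_22_9 lc_c_rc_24_4) (@D3.rec (fun _ => (Cert rels S Gen.c)) lc_c_rc_11_1 lc_c_rc_13_2 lc_c_rc_2_3 lc_c_Cert_tree lc_c_rc_14_2 lc_c_rc_26_4 lc_c_rc_11_1 lc_c_rc_11_1 lc_c_Cert_tree lc_c_rc_11_1 lc_c_rc_13_2 lc_c_rc_24_2 lc_c_rc_7_3 lc_c_rc_12_10 lc_c_rc_13_2 lc_c_Cert_tree lc_c_Cert_tree lc_c_rc_14_2 lc_c_rc_11_1 lc_c_rc_13_2 lc_c_rc_7_5 lc_c_rc_23_0 lc_c_rc_11_1 lc_c_rc_2_3 lc_c_rc_24_8 lc_c_rc_13_2 lc_c_rc_11_1 lc_c_rc_13_2 lc_c_rc_11_1 lc_c_rc_23_0 lc_c_Cert_tree lc_c_rc_14_2 lc_c_rc_24_2 lc_c_rc_11_1 lc_c_Cert_tree lc_c_rc_13_2 lc_c_Cert_tree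 lc_c_rc_11_1 lc_c_Cert_tree lc_c_rc_13_2 lc_c_rc_11_1 lc_c_rc_13_2 lc_c_rc_26_8 lc_c_rc_11_1 lc_c_rc_13_2 lc_c_rc_11_1 lc_c_rc_11_1 lc_c_Cert_tree lc_c_rc_11_1 lc_c_rc_26_2 lc_c_rc_11_1 lc_c_rc_7_3 lc_c_rc_22_5 lc_c_rc_13_2 lc_c_Cert_tree lc_c_rc_14_2 lc_c_rc_7_3 lc_c_rc_7_5 lc_c_rc_13_2 lc_c_rc_11_1 lc_c_rc_11_1 lc_c_rc_2_3) (@D3.rec (fun _ => (Cert rels S Gen.c)) lc_c_Cert_tree lc_c_rc_11_1 lc_c_rc_13_2 lc_c_rc_24_6 lc_c_rc_24_6 lc_c_Cert_tree lc_c_rc_14_2 lc_c_Cert_tree lc_c_rc_11_1 lc_c_rc_23_0 lc_c_rc_11_1 lc_c_rc_11_1 lc_c_rc_26_8 lc_c_rc_11_1 lc_c_rc_13_2 lc_c_rc_13_2 lc_c_rc_11_1 lc_c_rc_26_4 lc_c_rc_11_1 lc_c_rc_13_2 lc_c_Cert_tree lc_c_rc_11_1 lc_c_rc_26_2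 lc_c_rc_26_4 lc_c_rc_11_1 lc_c_rc_26_8 lc_c_rc_11_1 lc_c_rc_24_2 lc_c_rc_11_1 lc_c_rc_24_6 lc_c_rc_23_5 lc_c_rc_24_8 lc_c_rc_2_3 lc_c_rc_2_1 lc_c_rc_11_1 lc_c_rc_26_4 lc_c_rc_11_1 lc_c_rc_11_1 lc_c_rc_7_1 lc_c_rc_11_1 lc_c_rc_13_2 lc_c_rc_13_0 lc_c_rc_13_0 lc_c_rc_26_10 lc_c_rc_11_1 lc_c_rc_7_1 lc_c_Cert_tree lc_c_rc_11_1 lc_c_rc_23_0 lc_c_rc_11_1 lc_c_Cert_tree lc_c_rc_13_2 lc_c_rc_7_1 lc_c_rc_13_2 lc_c_rc_13_2 lc_c_rc_13_2 lc_c_rc_7_3 lc_c_rc_11_1 lc_c_rc_13_2 lc_c_Cert_tree lc_c_rc_7_3 lc_c_rc_13_2) (@D3.rec (fun _ => (Cert rels S Gen.c)) lc_c_Cert_tree lc_c_Cert_tree lc_c_rc_2_3 lc_c_rc_13_2 lc_c_rc_11_1 lc_c_rc_23_0 lc_c_rc_13_2 lc_c_rc_22_3 lc_c_rc_22_3 lc_c_rc_7_3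 lc_c_rc_23_5 lc_c_rc_13_2 lc_c_rc_13_2 lc_c_rc_24_8 lc_c_Cert_tree lc_c_rc_23_5 lc_c_rc_13_2 lc_c_rc_13_2 lc_c_rc_26_8 lc_c_rc_22_9 lc_c_rc_24_2 lc_c_rc_7_5 lc_c_rc_11_1 lc_c_rc_24_6 lc_c_rc_11_1 lc_c_Cert_tree lc_c_rc_23_5 lc_c_rc_11_1 lc_c_Cert_tree lc_c_rc_23_0 lc_c_rc_11_1 lc_c_Cert_tree lc_c_rc_13_2 lc_c_rc_24_6 lc_c_rc_11_1 lc_c_rc_13_2 lc_c_rc_11_1 lc_c_rc_11_1 lc_c_Cert_tree lc_c_rc_26_4 lc_c_rc_11_1 lc_c_rc_13_2 lc_c_rc_23_5 lc_c_rc_14_2 lc_c_rc_23_0 lc_c_rc_24_2 lc_c_rc_14_2 lc_c_Cert_tree lc_c_Cert_tree lc_c_rc_2_3 lc_c_rc_13_2 lc_c_Cert_tree lc_c_rc_14_2 lc_c_rc_26_2 lc_c_rc_14_0 lc_c_rc_13_2 lc_c_rc_23_0 lc_c_rc_24_8 lc_c_rc_11_1 lc_c_rc_14_2 lc_c_rc_7_3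 lc_c_rc_23_5) (@D3.rec (fun _ => (Cert rels S Gen.c)) lc_c_Cert_tree lc_c_rc_11_1 lc_c_rc_13_2 lc_c_rc_13_2 lc_c_rc_7_3 lc_c_rc_2_1 lc_c_rc_13_2 lc_c_rc_7_3 lc_c_rc_22_5 lc_c_rc_13_2 lc_c_rc_13_2 lc_c_rc_11_1 lc_c_rc_12_8 lc_c_rc_13_2 lc_c_rc_13_2 lc_c_rc_11_1 lc_c_rc_23_0 lc_c_rc_13_2 lc_c_Cert_tree lc_c_rc_14_2 lc_c_rc_7_5 lc_c_rc_23_5 lc_c_rc_13_2 lc_c_rc_7_3 lc_c_rc_22_5 lc_c_rc_13_2 lc_c_rc_14_2 lc_c_rc_13_2 lc_c_rc_11_1 lc_c_Cert_tree lc_c_rc_24_2 lc_c_rc_11_1 lc_c_Cert_tree lc_c_Cert_tree lc_c_rc_11_1 lc_c_rc_14_2 lc_c_rc_22_7 lc_c_Cert_tree lc_c_Cert_tree lc_c_rc_11_1 lc_c_Cert_tree lc_c_rc_26_2 lc_c_rc_11_1 lc_c_rc_7_3 lc_c_rc_13_2 lc_c_Cert_tree lc_c_Cert_tree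 lc_c_rc_14_2 lc_c_rc_7_3 lc_c_rc_13_2 lc_c_Cert_tree lc_c_Cert_tree lc_c_rc_24_6 lc_c_rc_7_3 lc_c_rc_13_2 lc_c_rc_23_5 lc_c_Cert_tree lc_c_Cert_tree lc_c_rc_2_3 lc_c_Cert_tree lc_c_rc_14_2 lc_c_rc_13_2) (@D3.rec (fun _ => (Cert rels S Gen.c)) lc_c_rc_13_2 lc_c_Cert_tree lc_c_rc_13_0 lc_c_rc_13_2 lc_c_rc_13_2 lc_c_rc_11_1 lc_c_rc_12_4 lc_c_Cert_tree lc_c_rc_13_2 lc_c_rc_22_5 lc_c_rc_22_3 lc_c_rc_13_2 lc_c_rc_22_9 lc_c_rc_14_2 lc_c_Cert_tree lc_c_rc_11_1 lc_c_Cert_tree lc_c_rc_26_2 lc_c_Cert_tree lc_c_Cert_tree lc_c_rc_11_1 lc_c_rc_13_2 lc_c_rc_26_4 lc_c_Cert_tree lc_c_rc_13_2 lc_c_rc_7_3 lc_c_rc_13_2 lc_c_Cert_tree lc_c_Cert_tree lc_c_rc_14_2 lc_c_rc_13_2 lc_c_rc_13_2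 lc_c_rc_13_2 lc_c_rc_7_3 lc_c_rc_22_9 lc_c_rc_13_2 lc_c_rc_7_3 lc_c_rc_24_2 lc_c_rc_13_2 lc_c_rc_7_3 lc_c_rc_13_2 lc_c_rc_11_1 lc_c_Cert_tree lc_c_rc_2_3 lc_c_Cert_tree lc_c_rc_7_3 lc_c_rc_13_2 lc_c_rc_13_2 lc_c_rc_7_3 lc_c_rc_13_2 lc_c_rc_26_4 lc_c_rc_13_0 lc_c_rc_26_4 lc_c_rc_13_2 lc_c_rc_25_1 lc_c_rc_11_1 lc_c_rc_26_2 lc_c_rc_13_2 lc_c_Cert_tree lc_c_Cert_tree lc_c_Cert_tree lc_c_Cert_tree) (@D3.rec (fun _ => (Cert rels S Gen.c)) lc_c_rc_11_1 lc_c_rc_7_3 lc_c_rc_14_2 lc_c_rc_13_2 lc_c_rc_13_2 lc_c_rc_13_0 lc_c_rc_13_2 lc_c_Cert_tree lc_c_Cert_tree lc_c_rc_14_2 lc_c_rc_13_2 lc_c_rc_7_3 lc_c_rc_11_1 lc_c_rc_23_0 lc_c_rc_14_2 lc_c_rc_13_2 lc_c_rc_24_2 lc_c_rc_22_7 lc_c_Cert_tree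 lc_c_Cert_tree lc_c_rc_2_3 lc_c_Cert_tree lc_c_rc_14_2 lc_c_rc_13_2 lc_c_rc_13_2 lc_c_rc_26_8 lc_c_rc_7_3 lc_c_rc_12_2 lc_c_rc_14_2 lc_c_rc_13_2 lc_c_rc_13_2 lc_c_rc_7_3 lc_c_rc_11_1 lc_c_rc_26_2 lc_c_rc_23_0 lc_c_rc_14_2 lc_c_Cert_tree lc_c_Cert_tree lc_c_rc_2_3 lc_c_Cert_tree lc_c_rc_14_2 lc_c_rc_13_2 lc_c_rc_13_2 lc_c_rc_11_1 lc_c_rc_26_2 lc_c_rc_7_3 lc_c_rc_22_3 lc_c_rc_14_2 lc_c_rc_13_2 lc_c_rc_7_3 lc_c_rc_7_3 lc_c_rc_11_1 lc_c_rc_13_2 lc_c_rc_7_3 lc_c_rc_24_2 lc_c_rc_13_2 lc_c_rc_26_2 lc_c_rc_13_2 lc_c_rc_26_2 lc_c_rc_11_1 lc_c_rc_23_5 lc_c_rc_13_2) (@D3.rec (fun _ => (Cert rels S Gen.c)) lc_c_rc_14_0 lc_c_rc_14_2 lc_c_rc_7_3 lc_c_rc_22_3 lc_c_rc_13_2 lc_c_Cert_tree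 lc_c_Cert_tree lc_c_rc_2_3 lc_c_Cert_tree lc_c_rc_14_2 lc_c_rc_11_1 lc_c_rc_13_2 lc_c_rc_13_2 lc_c_rc_26_2 lc_c_rc_7_3 lc_c_rc_12_8 lc_c_rc_13_2 lc_c_rc_11_1 lc_c_rc_13_2 lc_c_rc_26_2 lc_c_rc_7_3 lc_c_rc_23_5 lc_c_rc_13_2 lc_c_rc_26_8 lc_c_rc_22_3 lc_c_rc_7_3 lc_c_Cert_tree lc_c_rc_2_1 lc_c_Cert_tree lc_c_rc_7_3 lc_c_rc_11_1 lc_c_rc_13_2 lc_c_rc_13_2 lc_c_rc_7_3 lc_c_rc_13_2 lc_c_rc_7_3 lc_c_rc_23_5 lc_c_rc_11_1 lc_c_Cert_tree lc_c_Cert_tree lc_c_rc_2_3 lc_c_Cert_tree lc_c_rc_13_2 lc_c_rc_13_2 lc_c_rc_11_1 lc_c_rc_23_5 lc_c_rc_14_2 lc_c_rc_11_1 lc_c_Cert_tree lc_c_rc_11_1 lc_c_rc_22_5 lc_c_rc_13_2 lc_c_rc_13_2 lc_c_rc_7_3 lc_c_rc_23_0 lc_c_rc_13_2 lc_c_rc_14_2 lc_c_Cert_tree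 lc_c_Cert_tree lc_c_rc_2_3 lc_c_Cert_tree lc_c_rc_13_2) (@D3.rec (fun _ => (Cert rels S Gen.c)) lc_c_rc_13_2 lc_c_rc_14_0 lc_c_Cert_tree lc_c_rc_14_2 lc_c_rc_11_1 lc_c_Cert_tree lc_c_rc_13_2 lc_c_rc_11_1 lc_c_Cert_tree lc_c_Cert_tree lc_c_rc_2_3 lc_c_rc_26_2 lc_c_rc_13_2 lc_c_rc_13_2 lc_c_rc_11_1 lc_c_rc_23_0 lc_c_Cert_tree lc_c_rc_14_2 lc_c_rc_11_1 lc_c_Cert_tree lc_c_rc_11_1 lc_c_Cert_tree lc_c_rc_13_2 lc_c_Cert_tree lc_c_rc_11_1 lc_c_rc_26_8 lc_c_rc_7_1 lc_c_rc_12_2 lc_c_rc_13_2 lc_c_rc_24_2 lc_c_Cert_tree lc_c_Cert_tree lc_c_rc_23_5 lc_c_rc_7_5 lc_c_rc_26_4 lc_c_rc_13_2 lc_c_rc_13_2 lc_c_rc_24_6 lc_c_rc_23_5 lc_c_rc_14_2 lc_c_rc_11_1 lc_c_rc_11_1 lc_c_rc_13_2 lc_c_rc_11_1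 lc_c_rc_11_1 lc_c_Cert_tree lc_c_Cert_tree lc_c_rc_2_3 lc_c_Cert_tree lc_c_rc_13_2 lc_c_rc_13_2 lc_c_Cert_tree lc_c_rc_14_2 lc_c_Cert_tree lc_c_rc_11_1 lc_c_Cert_tree lc_c_rc_11_1 lc_c_Cert_tree lc_c_rc_13_2 lc_c_rc_13_2 lc_c_rc_24_2 lc_c_rc_14_2) (@D3.rec (fun _ => (Cert rels S Gen.c)) lc_c_rc_14_2 lc_c_Cert_tree lc_c_rc_26_4 lc_c_rc_11_1 lc_c_Cert_tree lc_c_rc_13_2 lc_c_rc_14_2 lc_c_rc_2_3 lc_c_rc_11_1 lc_c_Cert_tree lc_c_rc_13_2 lc_c_Cert_tree lc_c_rc_2_3 lc_c_Cert_tree lc_c_rc_11_1 lc_c_rc_13_2 lc_c_rc_26_2 lc_c_Cert_tree lc_c_rc_13_2 lc_c_Cert_tree lc_c_rc_13_2 lc_c_rc_11_1 lc_c_rc_24_6 lc_c_rc_14_2 lc_c_rc_23_0 lc_c_rc_11_1 lc_c_Cert_tree lc_c_rc_11_1 lc_c_Cert_tree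 lc_c_rc_13_2 lc_c_rc_11_1 lc_c_Cert_tree lc_c_rc_13_2 lc_c_rc_13_2 lc_c_rc_7_3 lc_c_rc_13_2 lc_c_rc_26_10 lc_c_rc_24_8 lc_c_rc_13_2 lc_c_Cert_tree lc_c_Cert_tree lc_c_rc_2_3 lc_c_rc_13_2 lc_c_rc_13_0 lc_c_rc_14_2 lc_c_rc_11_1 lc_c_rc_22_5 lc_c_rc_11_1 lc_c_rc_11_1 lc_c_rc_13_0 lc_c_rc_7_5 lc_c_rc_13_2 lc_c_rc_26_4 lc_c_rc_2_3 lc_c_Cert_tree lc_c_rc_13_2 lc_c_Cert_tree lc_c_Cert_tree lc_c_rc_11_1 lc_c_rc_13_2 lc_c_rc_2_3 lc_c_rc_11_1) (@D3.rec (fun _ => (Cert rels S Gen.c)) lc_c_Cert_tree lc_c_Cert_tree lc_c_Cert_tree lc_c_Cert_tree lc_c_rc_14_2 lc_c_rc_13_2 lc_c_rc_7_1 lc_c_rc_11_1 lc_c_rc_7_3 lc_c_rc_13_2 lc_c_rc_7_3 lc_c_rc_22_5 lc_c_rc_13_2 lc_c_rc_26_8 lc_c_rc_14_2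 lc_c_rc_25_5 lc_c_rc_11_1 lc_c_rc_2_3 lc_c_rc_13_2 lc_c_Cert_tree lc_c_rc_14_2 lc_c_rc_11_1 lc_c_rc_26_2 lc_c_rc_2_3 lc_c_rc_2_1 lc_c_rc_7_1 lc_c_Cert_tree lc_c_Cert_tree lc_c_Cert_tree lc_c_rc_11_1 lc_c_rc_13_2 lc_c_Cert_tree lc_c_Cert_tree lc_c_rc_14_2 lc_c_rc_26_10 lc_c_Cert_tree lc_c_Cert_tree lc_c_Cert_tree lc_c_rc_11_1 lc_c_rc_26_2 lc_c_rc_2_3 lc_c_rc_24_4 lc_c_Cert_tree lc_c_rc_13_2 lc_c_rc_13_2 lc_c_Cert_tree lc_c_Cert_tree lc_c_rc_23_5 lc_c_rc_11_1 lc_c_Cert_tree lc_c_rc_11_1 lc_c_Cert_tree lc_c_Cert_tree lc_c_rc_26_2 lc_c_Cert_tree lc_c_rc_13_0 lc_c_rc_11_1 lc_c_Cert_tree lc_c_Cert_tree lc_c_rc_14_2 lc_c_rc_7_3 lc_c_rc_26_10) (@D3.rec (fun _ => (Cert rels S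 Gen.c)) lc_c_rc_11_1 lc_c_rc_7_5 lc_c_Cert_tree lc_c_rc_14_2 lc_c_rc_11_1 lc_c_rc_25_13 lc_c_rc_7_3 lc_c_Cert_tree lc_c_rc_23_0 lc_c_rc_23_5 lc_c_rc_23_5 lc_c_rc_11_1 lc_c_rc_24_2 lc_c_rc_24_2 lc_c_rc_14_2 lc_c_Cert_tree lc_c_rc_14_2 lc_c_rc_7_3 lc_c_Cert_tree lc_c_rc_2_1 lc_c_rc_22_7 lc_c_rc_14_2 lc_c_rc_14_2 lc_c_Cert_tree lc_c_rc_22_3 lc_c_Cert_tree lc_c_rc_26_2 lc_c_rc_22_3 lc_c_rc_13_2 lc_c_rc_13_2 lc_c_rc_23_0 lc_c_rc_23_5 lc_c_rc_23_0 lc_c_rc_11_1 lc_c_rc_13_2 lc_c_Cert_tree lc_c_rc_11_1 lc_c_rc_23_0 lc_c_Cert_tree lc_c_rc_11_1 lc_c_rc_23_5 lc_c_Cert_tree lc_c_rc_11_1 lc_c_rc_7_3 lc_c_rc_12_2 lc_c_rc_13_2 lc_c_rc_14_2 lc_c_rc_2_3 lc_c_rc_2_3 lc_c_rc_13_2 lc_c_rc_11_1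 lc_c_Cert_tree lc_c_Cert_tree lc_c_rc_11_1 lc_c_rc_13_2 lc_c_rc_23_0 lc_c_rc_24_8 lc_c_Cert_tree lc_c_rc_14_2 lc_c_Cert_tree lc_c_rc_11_1 lc_c_rc_13_2) (@D3.rec (fun _ => (Cert rels S Gen.c)) lc_c_rc_26_10 lc_c_rc_22_3 lc_c_rc_14_2 lc_c_rc_26_8 lc_c_Cert_tree lc_c_rc_2_1 lc_c_rc_7_1 lc_c_rc_11_1 lc_c_rc_11_1 lc_c_Cert_tree lc_c_rc_14_2 lc_c_Cert_tree lc_c_rc_11_1 lc_c_Cert_tree lc_c_rc_13_2 lc_c_Cert_tree lc_c_rc_11_1 lc_c_Cert_tree lc_c_rc_13_2 lc_c_rc_14_2 lc_c_rc_23_0 lc_c_rc_14_2 lc_c_Cert_tree lc_c_rc_11_1 lc_c_rc_11_1 lc_c_rc_24_2 lc_c_rc_23_0 lc_c_rc_13_2 lc_c_Cert_tree lc_c_rc_13_2 lc_c_rc_11_1 lc_c_Cert_tree lc_c_rc_14_2 lc_c_rc_11_1 lc_c_rc_13_2 lc_c_rc_13_0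 lc_c_rc_23_5 lc_c_rc_14_2 lc_c_rc_2_1 lc_c_Cert_tree lc_c_rc_11_1 lc_c_rc_26_4 lc_c_rc_11_1 lc_c_rc_13_2 lc_c_rc_11_1 lc_c_rc_13_2 lc_c_rc_24_6 lc_c_rc_24_6 lc_c_rc_22_9 lc_c_rc_13_2 lc_c_Cert_tree lc_c_Cert_tree lc_c_rc_14_2 lc_c_rc_13_2 lc_c_rc_13_0 lc_c_rc_23_5 lc_c_rc_13_2 lc_c_Cert_tree lc_c_rc_11_1 lc_c_rc_23_5 lc_c_rc_13_2 lc_c_rc_24_2) (@D3.rec (fun _ => (Cert rels S Gen.c)) lc_c_rc_13_0 lc_c_Cert_tree lc_c_rc_12_2 lc_c_rc_13_2 lc_c_rc_11_1 lc_c_rc_13_2 lc_c_Cert_tree lc_c_rc_11_1 lc_c_rc_13_2 lc_c_rc_7_5 lc_c_rc_23_0 lc_c_rc_11_1 lc_c_rc_13_2 lc_c_Cert_tree lc_c_rc_11_1 lc_c_rc_13_2 lc_c_rc_26_8 lc_c_rc_11_1 lc_c_rc_13_2 lc_c_rc_24_4 lc_c_rc_13_2 lc_c_Cert_tree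 lc_c_Cert_tree lc_c_Cert_tree lc_c_rc_14_2 lc_c_rc_2_3 lc_c_rc_11_1 lc_c_rc_2_3 lc_c_Cert_tree lc_c_rc_13_2 lc_c_rc_26_4 lc_c_Cert_tree lc_c_rc_13_2 lc_c_rc_11_1 lc_c_rc_11_1 lc_c_rc_14_2 lc_c_rc_13_2 lc_c_rc_2_3 lc_c_rc_13_2 lc_c_rc_13_2 lc_c_rc_2_3 lc_c_Cert_tree lc_c_rc_11_1 lc_c_rc_13_2 lc_c_rc_22_7 lc_c_rc_13_2 lc_c_Cert_tree lc_c_Cert_tree lc_c_rc_14_2 lc_c_rc_11_1 lc_c_Cert_tree lc_c_rc_23_5 lc_c_Cert_tree lc_c_Cert_tree lc_c_rc_23_5 lc_c_rc_13_0 lc_c_Cert_tree lc_c_rc_11_1 lc_c_rc_13_2 lc_c_rc_11_1 lc_c_Cert_tree lc_c_rc_2_1) (@D3.rec (fun _ => (Cert rels S Gen.c)) lc_c_rc_13_2 lc_c_rc_11_1 lc_c_rc_13_2 lc_c_rc_24_4 lc_c_rc_24_6 lc_c_rc_13_2 lc_c_Cert_tree lc_c_Cert_tree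 lc_c_Cert_tree lc_c_rc_14_2 lc_c_Cert_tree lc_c_Cert_tree lc_c_Cert_tree lc_c_Cert_tree lc_c_rc_11_1 lc_c_rc_14_2 lc_c_rc_26_4 lc_c_Cert_tree lc_c_rc_22_7 lc_c_rc_7_3 lc_c_Cert_tree lc_c_rc_23_5 lc_c_Cert_tree lc_c_Cert_tree lc_c_rc_11_1 lc_c_rc_14_2 lc_c_rc_11_1 lc_c_rc_26_4 lc_c_Cert_tree lc_c_rc_11_1 lc_c_rc_13_2 lc_c_Cert_tree lc_c_rc_11_1 lc_c_rc_13_2 lc_c_Cert_tree lc_c_rc_11_1 lc_c_rc_22_5 lc_c_rc_24_8 lc_c_rc_11_1 lc_c_rc_7_3 lc_c_rc_22_7 lc_c_rc_14_2 lc_c_rc_13_2 lc_c_rc_26_8 lc_c_rc_23_0 lc_c_rc_11_1 lc_c_rc_24_4 lc_c_rc_23_5 lc_c_rc_11_1 lc_c_rc_13_2 lc_c_rc_7_1 lc_c_Cert_tree lc_c_rc_23_5 lc_c_rc_26_4 lc_c_Cert_tree lc_c_rc_23_5 lc_c_rc_11_1 lc_c_rc_24_8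 lc_c_rc_11_1 lc_c_rc_14_2 lc_c_rc_7_3 lc_c_rc_13_2) (@D3.rec (fun _ => (Cert rels S Gen.c)) lc_c_rc_26_4 lc_c_rc_11_1 lc_c_rc_11_1 lc_c_rc_7_1 lc_c_rc_26_8 lc_c_rc_13_2 lc_c_rc_26_4 lc_c_rc_11_1 lc_c_rc_13_2 lc_c_Cert_tree lc_c_rc_11_1 lc_c_rc_13_2 lc_c_rc_13_0 lc_c_rc_23_0 lc_c_rc_26_4 lc_c_rc_11_1 lc_c_rc_26_4 lc_c_rc_11_1 lc_c_rc_13_2 lc_c_rc_7_5 lc_c_rc_11_1 lc_c_rc_13_2 lc_c_Cert_tree lc_c_Cert_tree lc_c_rc_14_2 lc_c_rc_14_2 lc_c_Cert_tree lc_c_rc_23_0 lc_c_rc_11_1 lc_c_Cert_tree lc_c_rc_11_1 lc_c_Cert_tree lc_c_Cert_tree lc_c_rc_23_5 lc_c_Cert_tree lc_c_rc_23_5 lc_c_rc_24_8 lc_c_rc_24_2 lc_c_rc_11_1 lc_c_rc_22_7 lc_c_rc_2_3 lc_c_rc_13_2 lc_c_rc_22_7 lc_c_rc_22_5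 lc_c_rc_24_4 lc_c_rc_24_8 lc_c_rc_13_0 lc_c_rc_22_7 lc_c_rc_14_2 lc_c_rc_13_2 lc_c_rc_11_1 lc_c_rc_13_2 lc_c_Cert_tree lc_c_rc_13_2 lc_c_rc_11_1 lc_c_rc_13_2 lc_c_rc_13_0 lc_c_rc_23_5 lc_c_rc_26_2 lc_c_rc_7_5 lc_c_rc_11_1 lc_c_rc_11_1) (@D3.rec (fun _ => (Cert rels S Gen.c)) lc_c_rc_26_4 lc_c_rc_13_2 lc_c_rc_11_1 lc_c_rc_22_9 lc_c_rc_14_2 lc_c_rc_11_1 lc_c_rc_13_2 lc_c_rc_23_0 lc_c_rc_24_4 lc_c_rc_24_4 lc_c_rc_22_5 lc_c_rc_7_3 lc_c_Cert_tree lc_c_Cert_tree lc_c_rc_11_1 lc_c_rc_14_2 lc_c_Cert_tree lc_c_rc_11_1 lc_c_rc_13_2 lc_c_Cert_tree lc_c_rc_13_2 lc_c_rc_26_2 lc_c_rc_22_3 lc_c_rc_14_2 lc_c_rc_7_3 lc_c_rc_22_3 lc_c_rc_13_2 lc_c_Cert_tree lc_c_Cert_tree lc_c_rc_14_2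 lc_c_rc_24_4 lc_c_rc_14_2 lc_c_rc_11_1 lc_c_rc_14_2 lc_c_rc_26_8 lc_c_rc_11_1 lc_c_rc_13_2 lc_c_rc_13_2 lc_c_rc_22_3 lc_c_rc_7_1 lc_c_rc_13_2 lc_c_rc_26_2 lc_c_rc_14_2 lc_c_rc_22_7 lc_c_rc_13_2 lc_c_rc_11_1 lc_c_rc_24_6 lc_c_rc_13_2 lc_c_rc_26_8 lc_c_rc_2_3 lc_c_rc_14_2 lc_c_rc_12_0 lc_c_rc_11_1 lc_c_rc_13_2 lc_c_rc_7_1 lc_c_rc_23_5 lc_c_rc_13_2 lc_c_rc_24_6 lc_c_rc_11_1 lc_c_rc_14_2 lc_c_rc_24_6 lc_c_rc_2_1) (@D3.rec (fun _ => (Cert rels S Gen.c)) lc_c_rc_13_2 lc_c_rc_24_6 lc_c_rc_2_3 lc_c_rc_14_2 lc_c_rc_13_2 lc_c_Cert_tree lc_c_Cert_tree lc_c_Cert_tree lc_c_rc_14_2 lc_c_rc_13_2 lc_c_rc_26_2 lc_c_rc_23_5 lc_c_rc_24_4 lc_c_rc_2_3 lc_c_rc_23_0 lc_c_rc_13_2 lc_c_Cert_tree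 lc_c_Cert_tree lc_c_Cert_tree lc_c_rc_26_4 lc_c_Cert_tree lc_c_rc_13_2 lc_c_Cert_tree lc_c_Cert_tree lc_c_rc_11_1 lc_c_rc_11_1 lc_c_rc_13_2 lc_c_rc_24_6 lc_c_rc_11_1 lc_c_rc_26_4 lc_c_rc_13_2 lc_c_Cert_tree lc_c_Cert_tree lc_c_Cert_tree lc_c_rc_14_2 lc_c_Cert_tree lc_c_rc_13_2 lc_c_Cert_tree lc_c_Cert_tree lc_c_rc_23_5 lc_c_rc_24_8 lc_c_rc_24_2 lc_c_rc_11_1 lc_c_rc_14_2 lc_c_rc_13_2 lc_c_rc_11_1 lc_c_rc_11_1 lc_c_rc_11_1 lc_c_rc_13_0 lc_c_Cert_tree lc_c_rc_26_4 lc_c_rc_7_1 lc_c_Cert_tree lc_c_rc_23_5 lc_c_Cert_tree lc_c_Cert_tree lc_c_rc_23_5 lc_c_Cert_tree lc_c_Cert_tree lc_c_rc_11_1 lc_c_rc_14_2 lc_c_Cert_tree) (@D3.rec (fun _ => (Cert rels S Gen.c)) lc_c_Cert_tree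 lc_c_rc_11_1 lc_c_Cert_tree lc_c_rc_13_2 lc_c_rc_7_1 lc_c_Cert_tree lc_c_rc_13_2 lc_c_Cert_tree lc_c_Cert_tree lc_c_rc_11_1 lc_c_rc_13_2 lc_c_rc_23_0 lc_c_rc_14_2 lc_c_rc_14_2 lc_c_rc_11_1 lc_c_rc_11_1 lc_c_Cert_tree lc_c_rc_24_8 lc_c_rc_7_1 lc_c_Cert_tree lc_c_rc_13_2 lc_c_rc_11_1 lc_c_rc_13_2 lc_c_rc_23_0 lc_c_Cert_tree lc_c_rc_14_2 lc_c_Cert_tree lc_c_Cert_tree lc_c_Cert_tree lc_c_rc_23_5 lc_c_Cert_tree lc_c_Cert_tree lc_c_rc_23_5 lc_c_Cert_tree lc_c_Cert_tree lc_c_rc_11_1 lc_c_Cert_tree lc_c_Cert_tree lc_c_rc_11_1 lc_c_rc_13_2 lc_c_Cert_tree lc_c_rc_11_1 lc_c_rc_13_2 lc_c_rc_11_1 lc_c_rc_11_1 lc_c_rc_13_2 lc_c_rc_11_1 lc_c_rc_13_2 lc_c_rc_11_1 lc_c_rc_24_8 lc_c_rc_7_3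 lc_c_rc_22_7 lc_c_rc_24_2 lc_c_rc_11_1 lc_c_rc_13_2 lc_c_rc_11_1 lc_c_rc_7_1 lc_c_rc_26_8 lc_c_rc_11_1 lc_c_rc_13_2 lc_c_rc_11_1 lc_c_rc_11_1) (@D3.rec (fun _ => (Cert rels S Gen.c)) lc_c_rc_13_2 lc_c_rc_13_2 lc_c_rc_7_3 lc_c_rc_22_7 lc_c_rc_13_2 lc_c_rc_7_3 lc_c_rc_12_10 lc_c_rc_13_2 lc_c_rc_14_2 lc_c_rc_7_3 lc_c_rc_22_5 lc_c_rc_13_2 lc_c_Cert_tree lc_c_Cert_tree lc_c_rc_14_2 lc_c_rc_7_3 lc_c_rc_12_8 lc_c_rc_13_2 lc_c_rc_7_3 lc_c_rc_23_5 lc_c_rc_13_2 lc_c_Cert_tree lc_c_Cert_tree lc_c_rc_13_2 lc_c_rc_7_3 lc_c_rc_11_1 lc_c_rc_11_1 lc_c_rc_13_2 lc_c_rc_13_2 lc_c_rc_7_3 lc_c_rc_14_2 lc_c_rc_22_3 lc_c_rc_7_3 lc_c_rc_23_5 lc_c_rc_13_2 lc_c_rc_2_3 lc_c_rc_25_17 lc_c_rc_14_2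 lc_c_rc_7_5 lc_c_rc_23_5 lc_c_rc_13_2 lc_c_rc_7_5 lc_c_rc_23_5 lc_c_rc_13_2 lc_c_Cert_tree lc_c_Cert_tree lc_c_rc_2_3 lc_c_Cert_tree lc_c_rc_14_2 lc_c_rc_11_1 lc_c_rc_11_1 lc_c_rc_11_1 lc_c_rc_13_2 lc_c_rc_22_7 lc_c_rc_7_3 lc_c_rc_13_2 lc_c_Cert_tree lc_c_rc_14_2 lc_c_rc_7_3 lc_c_rc_24_2 lc_c_rc_13_2 lc_c_Cert_tree) (@D3.rec (fun _ => (Cert rels S Gen.c)) lc_c_rc_14_2 lc_c_rc_7_5 lc_c_rc_23_5 lc_c_rc_13_2 lc_c_rc_7_5 lc_c_rc_23_5 lc_c_rc_13_2 lc_c_Cert_tree lc_c_Cert_tree lc_c_rc_2_3 lc_c_Cert_tree lc_c_rc_14_2 lc_c_rc_24_2 lc_c_rc_24_2 lc_c_rc_13_2 lc_c_rc_13_2 lc_c_rc_7_3 lc_c_rc_13_2 lc_c_rc_23_5 lc_c_rc_26_4 lc_c_rc_14_2 lc_c_rc_7_3 lc_c_rc_22_5 lc_c_rc_13_2 lc_c_Cert_tree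 lc_c_Cert_tree lc_c_rc_14_2 lc_c_rc_7_3 lc_c_rc_22_5 lc_c_rc_13_2 lc_c_rc_7_5 lc_c_rc_22_5 lc_c_rc_13_2 lc_c_rc_7_5 lc_c_rc_23_0 lc_c_rc_13_2 lc_c_Cert_tree lc_c_Cert_tree lc_c_rc_2_3 lc_c_rc_7_3 lc_c_rc_13_2 lc_c_rc_24_4 lc_c_rc_22_3 lc_c_rc_13_2 lc_c_rc_23_5 lc_c_rc_23_5 lc_c_Cert_tree lc_c_rc_14_2 lc_c_rc_11_1 lc_c_rc_11_1 lc_c_rc_13_2 lc_c_Cert_tree lc_c_rc_11_1 lc_c_rc_14_2 lc_c_rc_11_1 lc_c_rc_7_3 lc_c_rc_22_5 lc_c_Cert_tree lc_c_rc_11_1 lc_c_rc_2_3 lc_c_Cert_tree lc_c_rc_13_2) (@D3.rec (fun _ => (Cert rels S Gen.c)) lc_c_rc_13_2 lc_c_rc_24_6 lc_c_rc_23_0 lc_c_Cert_tree lc_c_rc_14_2 lc_c_rc_11_1 lc_c_rc_13_2 lc_c_rc_11_1 lc_c_rc_7_1 lc_c_rc_13_2 lc_c_rc_13_2 lc_c_rc_24_8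 lc_c_rc_13_0 lc_c_rc_14_2 lc_c_rc_7_5 lc_c_rc_13_2 lc_c_rc_7_5 lc_c_Cert_tree lc_c_Cert_tree lc_c_rc_2_3 lc_c_rc_11_1 lc_c_rc_13_2 lc_c_rc_24_2 lc_c_rc_23_5 lc_c_rc_13_2 lc_c_rc_11_1 lc_c_rc_13_2 lc_c_Cert_tree lc_c_rc_14_2 lc_c_rc_11_1 lc_c_Cert_tree lc_c_rc_11_1 lc_c_Cert_tree lc_c_rc_13_2 lc_c_rc_11_1 lc_c_rc_11_1 lc_c_rc_11_1 lc_c_rc_2_3 lc_c_Cert_tree lc_c_rc_13_2 lc_c_rc_13_2 lc_c_rc_13_2 lc_c_rc_11_1 lc_c_Cert_tree lc_c_rc_14_2 lc_c_rc_11_1 lc_c_rc_13_2 lc_c_rc_11_1 lc_c_rc_23_5 lc_c_Cert_tree lc_c_Cert_tree lc_c_Cert_tree lc_c_rc_11_1 lc_c_rc_13_2 lc_c_rc_13_2 lc_c_rc_2_3 lc_c_rc_14_2 lc_c_rc_7_3 lc_c_Cert_tree lc_c_Cert_tree lc_c_rc_11_1 lc_c_Cert_tree) (@D3.rec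 (fun _ => (Cert rels S Gen.c)) lc_c_rc_22_5 lc_c_rc_13_2 lc_c_rc_22_5 lc_c_rc_22_3 lc_c_rc_14_2 lc_c_rc_14_2 lc_c_rc_7_5 lc_c_Cert_tree lc_c_rc_11_1 lc_c_rc_25_9 lc_c_rc_13_2 lc_c_rc_14_2 lc_c_Cert_tree lc_c_rc_11_1 lc_c_Cert_tree lc_c_rc_13_2 lc_c_Cert_tree lc_c_rc_25_1 lc_c_Cert_tree lc_c_rc_11_1 lc_c_rc_13_2 lc_c_rc_14_2 lc_c_rc_13_2 lc_c_Cert_tree lc_c_rc_13_2 lc_c_Cert_tree lc_c_rc_13_2 lc_c_rc_7_3 lc_c_rc_13_2 lc_c_Cert_tree lc_c_Cert_tree lc_c_rc_14_2 lc_c_rc_13_2 lc_c_rc_11_1 lc_c_rc_11_1 lc_c_Cert_tree lc_c_rc_26_8 lc_c_rc_11_1 lc_c_Cert_tree lc_c_rc_13_2 lc_c_rc_11_1 lc_c_Cert_tree lc_c_rc_7_3 lc_c_rc_24_2 lc_c_rc_13_2 lc_c_Cert_tree lc_c_rc_14_2 lc_c_rc_7_3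 lc_c_rc_23_5 lc_c_rc_13_2 lc_c_rc_7_5 lc_c_rc_13_2 lc_c_rc_7_3 lc_c_rc_13_2 lc_c_Cert_tree lc_c_rc_11_1 lc_c_rc_2_3 lc_c_Cert_tree lc_c_rc_2_3 lc_c_rc_11_1 lc_c_rc_13_2 lc_c_rc_13_2) (@D3.rec (fun _ => (Cert rels S Gen.c)) lc_c_rc_11_1 lc_c_rc_25_17 lc_c_rc_14_2 lc_c_rc_11_1 lc_c_rc_11_1 lc_c_rc_13_2 lc_c_Cert_tree lc_c_Cert_tree lc_c_rc_2_3 lc_c_rc_13_2 lc_c_rc_14_2 lc_c_rc_26_4 lc_c_rc_11_1 lc_c_rc_13_2 lc_c_Cert_tree lc_c_rc_11_1 lc_c_rc_13_2 lc_c_rc_2_1 lc_c_Cert_tree lc_c_Cert_tree lc_c_rc_11_1 lc_c_rc_11_1 lc_c_rc_13_2 lc_c_rc_7_3 lc_c_rc_22_5 lc_c_rc_13_2 lc_c_rc_11_1 lc_c_rc_11_1 lc_c_rc_13_2 lc_c_rc_7_5 lc_c_rc_13_2 lc_c_rc_7_3 lc_c_rc_13_2 lc_c_Cert_tree lc_c_rc_11_1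 lc_c_rc_2_3 lc_c_Cert_tree lc_c_rc_13_2 lc_c_rc_13_2 lc_c_rc_11_1 lc_c_rc_11_1 lc_c_rc_11_1 lc_c_rc_13_2 lc_c_rc_26_4 lc_c_rc_11_1 lc_c_rc_13_2 lc_c_Cert_tree lc_c_rc_11_1 lc_c_rc_13_2 lc_c_Cert_tree lc_c_rc_13_2 lc_c_Cert_tree lc_c_Cert_tree lc_c_rc_11_1 lc_c_rc_14_2 lc_c_Cert_tree lc_c_Cert_tree lc_c_Cert_tree lc_c_rc_2_3 lc_c_rc_23_5 lc_c_rc_13_2 lc_c_rc_7_5) (@D3.rec (fun _ => (Cert rels S Gen.c)) lc_c_rc_13_2 lc_c_rc_7_5 lc_c_Cert_tree lc_c_rc_11_1 lc_c_rc_2_3 lc_c_rc_25_9 lc_c_rc_13_2 lc_c_rc_25_17 lc_c_Cert_tree lc_c_rc_11_1 lc_c_Cert_tree lc_c_rc_14_2 lc_c_rc_11_1 lc_c_Cert_tree lc_c_Cert_tree lc_c_rc_11_1 lc_c_Cert_tree lc_c_rc_26_8 lc_c_rc_11_1 lc_c_rc_26_4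 lc_c_rc_11_1 lc_c_rc_13_2 lc_c_rc_26_8 lc_c_rc_11_1 lc_c_Cert_tree lc_c_rc_13_2 lc_c_rc_11_1 lc_c_rc_13_2 lc_c_Cert_tree lc_c_Cert_tree lc_c_Cert_tree lc_c_rc_14_2 lc_c_Cert_tree lc_c_rc_13_2 lc_c_rc_24_4 lc_c_rc_24_2 lc_c_rc_11_1 lc_c_rc_13_2 lc_c_rc_11_1 lc_c_rc_22_5 lc_c_rc_11_1 lc_c_rc_7_3 lc_c_rc_13_2 lc_c_rc_11_1 lc_c_rc_23_0 lc_c_Cert_tree lc_c_Cert_tree lc_c_rc_13_0 lc_c_rc_11_1 lc_c_rc_11_1 lc_c_rc_2_3 lc_c_Cert_tree lc_c_rc_13_2 lc_c_rc_24_4 lc_c_rc_24_4 lc_c_rc_24_4 lc_c_Cert_tree lc_c_rc_14_2 lc_c_rc_11_1 lc_c_rc_13_2 lc_c_rc_11_1 lc_c_rc_26_4) (@D3.rec (fun _ => (Cert rels S Gen.c)) lc_c_rc_11_1 lc_c_rc_26_8 lc_c_rc_11_1 lc_c_rc_13_2 lc_c_Cert_tree lc_c_rc_13_2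 lc_c_rc_11_1 lc_c_Cert_tree lc_c_Cert_tree lc_c_rc_12_0 lc_c_rc_13_2 lc_c_rc_13_2 lc_c_rc_11_1 lc_c_rc_7_1 lc_c_rc_26_4 lc_c_rc_11_1 lc_c_rc_25_5 lc_c_rc_13_2 lc_c_Cert_tree lc_c_rc_11_1 lc_c_Cert_tree lc_c_Cert_tree lc_c_rc_13_2 lc_c_rc_11_1 lc_c_rc_13_2 lc_c_Cert_tree lc_c_rc_13_0 lc_c_rc_14_2 lc_c_rc_2_3 lc_c_rc_11_1 lc_c_rc_14_2 lc_c_rc_24_4 lc_c_rc_23_5 lc_c_rc_11_1 lc_c_rc_13_2 lc_c_rc_26_4 lc_c_rc_11_1 lc_c_Cert_tree lc_c_rc_11_1 lc_c_Cert_tree lc_c_rc_13_2 lc_c_rc_11_1 lc_c_Cert_tree lc_c_rc_13_2 lc_c_rc_7_1 lc_c_rc_11_1 lc_c_rc_12_2 lc_c_rc_13_2 lc_c_rc_11_1 lc_c_rc_13_2 lc_c_rc_25_9 lc_c_Cert_tree lc_c_rc_13_2 lc_c_rc_26_2 lc_c_rc_11_1 lc_c_Cert_tree lc_c_rc_25_17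 lc_c_rc_11_1 lc_c_rc_26_8 lc_c_rc_11_1 lc_c_rc_2_3 lc_c_Cert_tree) (@D3.rec (fun _ => (Cert rels S Gen.c)) lc_c_rc_14_2 lc_c_Cert_tree lc_c_rc_11_1 lc_c_rc_12_0 lc_c_rc_14_2 lc_c_rc_26_8 lc_c_Cert_tree lc_c_rc_25_1 lc_c_rc_26_10 lc_c_rc_26_10 lc_c_rc_11_1 lc_c_Cert_tree lc_c_rc_13_2 lc_c_rc_7_1 lc_c_rc_23_0 lc_c_rc_13_2 lc_c_rc_11_1 lc_c_rc_13_2 lc_c_rc_23_0 lc_c_rc_11_1 lc_c_rc_13_2 lc_c_rc_11_1 lc_c_Cert_tree lc_c_rc_11_1 lc_c_rc_13_2 lc_c_Cert_tree lc_c_rc_11_1 lc_c_rc_13_0 lc_c_rc_13_2 lc_c_rc_14_2 lc_c_Cert_tree lc_c_rc_22_3 lc_c_Cert_tree lc_c_rc_7_3 lc_c_rc_11_1 lc_c_rc_24_6 lc_c_Cert_tree lc_c_rc_13_2 lc_c_rc_22_5 lc_c_rc_24_2 lc_c_rc_11_1 lc_c_rc_23_5 lc_c_Cert_tree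 lc_c_rc_23_5 lc_c_rc_13_0 lc_c_rc_13_0 lc_c_rc_11_1 lc_c_rc_11_1 lc_c_Cert_tree lc_c_rc_13_2 lc_c_rc_7_1 lc_c_rc_13_2 lc_c_rc_11_1 lc_c_rc_11_1 lc_c_Cert_tree lc_c_rc_7_1 lc_c_rc_11_1 lc_c_rc_13_2 lc_c_rc_26_4 lc_c_rc_11_1 lc_c_rc_13_2 lc_c_Cert_tree)
def ce_c_9 : D2 → D3 → (Cert rels S Gen.c) := @D2.rec (fun _ => D3 → (Cert rels S Gen.c)) (@D3.rec (fun _ => (Cert rels S Gen.c)) lc_c_rc_11_1 lc_c_rc_13_2 lc_c_rc_11_1 lc_c_rc_11_1 lc_c_rc_26_2 lc_c_rc_11_1 lc_c_rc_7_5 lc_c_rc_23_5 lc_c_rc_26_4 lc_c_rc_13_2 lc_c_rc_26_4 lc_c_rc_11_1 lc_c_rc_13_2 lc_c_rc_26_8 lc_c_rc_11_1 lc_c_rc_13_2 lc_c_rc_24_6 lc_c_rc_23_0 lc_c_rc_13_2 lc_c_rc_13_2 lc_c_rc_13_2 lc_c_rc_2_3 lc_c_rc_23_5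 lc_c_rc_23_0 lc_c_rc_26_2 lc_c_rc_23_0 lc_c_rc_13_2 lc_c_rc_2_3 lc_c_rc_2_3 lc_c_rc_11_1 lc_c_rc_22_5 lc_c_rc_13_2 lc_c_rc_7_3 lc_c_rc_24_2 lc_c_rc_13_2 lc_c_rc_13_2 lc_c_rc_11_1 lc_c_rc_23_5 lc_c_rc_13_2 lc_c_Cert_tree lc_c_rc_14_2 lc_c_rc_7_5 lc_c_rc_23_5 lc_c_rc_7_1 lc_c_rc_7_3 lc_c_rc_22_7 lc_c_rc_13_2 lc_c_rc_14_0 lc_c_rc_11_1 lc_c_rc_2_3 lc_c_Cert_tree lc_c_rc_13_2 lc_c_rc_12_0 lc_c_rc_13_2 lc_c_rc_11_1 lc_c_Cert_tree lc_c_rc_14_2 lc_c_rc_11_1 lc_c_rc_13_2 lc_c_rc_26_2 lc_c_rc_11_1 lc_c_rc_26_4) (@D3.rec (fun _ => (Cert rels S Gen.c)) lc_c_rc_11_1 lc_c_rc_13_2 lc_c_rc_26_4 lc_c_rc_11_1 lc_c_rc_13_2 lc_c_rc_13_2 lc_c_Cert_tree lc_c_Cert_tree lc_c_Cert_tree lc_c_rc_23_5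 lc_c_rc_23_0 lc_c_rc_11_1 lc_c_rc_13_2 lc_c_Cert_tree lc_c_Cert_tree lc_c_rc_11_1 lc_c_rc_13_2 lc_c_rc_11_1 lc_c_rc_26_4 lc_c_rc_2_1 lc_c_rc_2_1 lc_c_rc_11_1 lc_c_rc_26_4 lc_c_rc_11_1 lc_c_rc_13_2 lc_c_rc_26_8 lc_c_rc_11_1 lc_c_rc_13_2 lc_c_rc_13_2 lc_c_rc_13_2 lc_c_rc_2_1 lc_c_rc_2_1 lc_c_rc_13_2 lc_c_rc_13_0 lc_c_rc_22_5 lc_c_rc_23_0 lc_c_rc_22_3 lc_c_rc_24_4 lc_c_rc_13_2 lc_c_rc_13_2 lc_c_Cert_tree lc_c_rc_11_1 lc_c_rc_13_2 lc_c_rc_24_4 lc_c_rc_11_1 lc_c_rc_22_3 lc_c_rc_13_2 lc_c_Cert_tree lc_c_Cert_tree lc_c_rc_13_2 lc_c_rc_14_2 lc_c_rc_26_8 lc_c_Cert_tree lc_c_rc_14_2 lc_c_rc_13_0 lc_c_rc_24_8 lc_c_rc_14_2 lc_c_rc_11_1 lc_c_rc_11_1 lc_c_rc_13_2 lc_c_rc_26_4 lc_c_rc_11_1)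 (@D3.rec (fun _ => (Cert rels S Gen.c)) lc_c_rc_13_2 lc_c_rc_11_1 lc_c_rc_13_2 lc_c_rc_11_1 lc_c_rc_13_2 lc_c_rc_12_14 lc_c_rc_24_4 lc_c_Cert_tree lc_c_rc_13_2 lc_c_Cert_tree lc_c_Cert_tree lc_c_rc_23_5 lc_c_rc_14_2 lc_c_rc_11_1 lc_c_Cert_tree lc_c_rc_22_5 lc_c_Cert_tree lc_c_rc_22_3 lc_c_rc_23_5 lc_c_rc_22_3 lc_c_rc_22_5 lc_c_rc_22_3 lc_c_rc_22_3 lc_c_Cert_tree lc_c_rc_11_1 lc_c_rc_13_2 lc_c_rc_11_1 lc_c_Cert_tree lc_c_rc_11_1 lc_c_rc_13_2 lc_c_Cert_tree lc_c_Cert_tree lc_c_rc_11_1 lc_c_rc_13_2 lc_c_Cert_tree lc_c_rc_23_5 lc_c_Cert_tree lc_c_rc_11_1 lc_c_rc_13_2 lc_c_rc_11_1 lc_c_rc_26_4 lc_c_rc_11_1 lc_c_rc_13_2 lc_c_rc_11_1 lc_c_Cert_tree lc_c_rc_13_2 lc_c_Cert_tree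 lc_c_Cert_tree lc_c_Cert_tree lc_c_rc_14_2 lc_c_rc_11_1 lc_c_rc_11_1 lc_c_Cert_tree lc_c_Cert_tree lc_c_rc_22_7 lc_c_rc_11_1 lc_c_rc_23_5 lc_c_rc_7_3 lc_c_rc_11_1 lc_c_rc_13_2 lc_c_rc_13_2 lc_c_Cert_tree) (@D3.rec (fun _ => (Cert rels S Gen.c)) lc_c_rc_11_1 lc_c_rc_13_2 lc_c_rc_23_0 lc_c_rc_25_5 lc_c_rc_23_5 lc_c_rc_26_4 lc_c_rc_11_1 lc_c_rc_7_3 lc_c_rc_11_1 lc_c_rc_24_4 lc_c_rc_7_3 lc_c_rc_13_0 lc_c_rc_13_2 lc_c_rc_14_2 lc_c_Cert_tree lc_c_rc_14_2 lc_c_rc_13_2 lc_c_rc_11_1 lc_c_rc_13_2 lc_c_rc_7_3 lc_c_rc_13_2 lc_c_Cert_tree lc_c_Cert_tree lc_c_rc_14_2 lc_c_Cert_tree lc_c_rc_11_1 lc_c_rc_11_1 lc_c_rc_13_2 lc_c_rc_26_2 lc_c_rc_11_1 lc_c_rc_14_0 lc_c_rc_11_1 lc_c_rc_11_1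 lc_c_rc_7_3 lc_c_rc_13_2 lc_c_Cert_tree lc_c_Cert_tree lc_c_rc_14_2 lc_c_rc_11_1 lc_c_rc_13_2 lc_c_rc_11_1 lc_c_rc_24_4 lc_c_rc_7_1 lc_c_rc_22_5 lc_c_rc_13_2 lc_c_Cert_tree lc_c_Cert_tree lc_c_rc_14_2 lc_c_rc_7_3 lc_c_rc_12_4 lc_c_rc_13_2 lc_c_Cert_tree lc_c_rc_26_8 lc_c_Cert_tree lc_c_rc_11_1 lc_c_rc_11_1 lc_c_rc_13_2 lc_c_rc_11_1 lc_c_rc_11_1 lc_c_rc_13_2 lc_c_rc_11_1 lc_c_rc_13_0) (@D3.rec (fun _ => (Cert rels S Gen.c)) lc_c_rc_13_0 lc_c_rc_2_3 lc_c_rc_7_3 lc_c_rc_13_2 lc_c_rc_11_1 lc_c_rc_13_2 lc_c_Cert_tree lc_c_Cert_tree lc_c_Cert_tree lc_c_rc_14_2 lc_c_rc_13_2 lc_c_Cert_tree lc_c_rc_11_1 lc_c_Cert_tree lc_c_rc_13_2 lc_c_rc_14_2 lc_c_rc_11_1 lc_c_Cert_tree lc_c_rc_13_2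 lc_c_rc_13_2 lc_c_Cert_tree lc_c_Cert_tree lc_c_Cert_tree lc_c_Cert_tree lc_c_rc_11_1 lc_c_rc_11_1 lc_c_rc_13_2 lc_c_rc_22_9 lc_c_rc_11_1 lc_c_Cert_tree lc_c_rc_13_2 lc_c_Cert_tree lc_c_Cert_tree lc_c_rc_13_2 lc_c_Cert_tree lc_c_rc_23_0 lc_c_rc_23_0 lc_c_rc_24_2 lc_c_rc_24_2 lc_c_rc_11_1 lc_c_rc_26_8 lc_c_rc_24_6 lc_c_rc_11_1 lc_c_Cert_tree lc_c_rc_12_0 lc_c_rc_2_1 lc_c_rc_13_2 lc_c_rc_26_4 lc_c_rc_11_1 lc_c_rc_13_2 lc_c_rc_11_1 lc_c_rc_13_2 lc_c_Cert_tree lc_c_Cert_tree lc_c_Cert_tree lc_c_rc_14_2 lc_c_Cert_tree lc_c_rc_22_7 lc_c_rc_13_2 lc_c_rc_11_1 lc_c_Cert_tree lc_c_Cert_tree) (@D3.rec (fun _ => (Cert rels S Gen.c)) lc_c_rc_11_1 lc_c_Cert_tree lc_c_rc_7_1 lc_c_rc_11_1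 lc_c_rc_13_2 lc_c_rc_22_9 lc_c_rc_26_8 lc_c_Cert_tree lc_c_Cert_tree lc_c_rc_11_1 lc_c_Cert_tree lc_c_rc_13_2 lc_c_rc_7_1 lc_c_rc_23_0 lc_c_rc_22_5 lc_c_Cert_tree lc_c_Cert_tree lc_c_rc_13_2 lc_c_Cert_tree lc_c_Cert_tree lc_c_rc_13_2 lc_c_Cert_tree lc_c_Cert_tree lc_c_rc_7_3 lc_c_rc_13_2 lc_c_rc_26_10 lc_c_rc_24_8 lc_c_rc_14_2 lc_c_rc_13_2 lc_c_rc_11_1 lc_c_rc_11_1 lc_c_Cert_tree lc_c_rc_14_2 lc_c_rc_11_1 lc_c_rc_14_0 lc_c_rc_11_1 lc_c_rc_2_3 lc_c_rc_14_2 lc_c_rc_11_1 lc_c_rc_23_5 lc_c_Cert_tree lc_c_rc_26_2 lc_c_rc_13_2 lc_c_rc_13_0 lc_c_rc_2_3 lc_c_Cert_tree lc_c_rc_11_1 lc_c_rc_13_2 lc_c_rc_26_4 lc_c_rc_2_1 lc_c_rc_13_2 lc_c_rc_22_3 lc_c_rc_14_2 lc_c_rc_13_2 lc_c_rc_13_2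 lc_c_rc_13_2 lc_c_rc_13_2 lc_c_rc_11_1 lc_c_rc_14_2 lc_c_rc_14_2 lc_c_rc_14_2 lc_c_Cert_tree) (@D3.rec (fun _ => (Cert rels S Gen.c)) lc_c_rc_14_2 lc_c_rc_26_4 lc_c_rc_2_3 lc_c_rc_26_8 lc_c_rc_26_4 lc_c_rc_26_4 lc_c_rc_11_1 lc_c_rc_11_1 lc_c_rc_13_2 lc_c_rc_14_2 lc_c_rc_2_1 lc_c_rc_22_7 lc_c_rc_23_5 lc_c_rc_13_0 lc_c_rc_11_1 lc_c_rc_2_3 lc_c_rc_13_2 lc_c_rc_24_8 lc_c_rc_26_10 lc_c_Cert_tree lc_c_rc_14_2 lc_c_rc_11_1 lc_c_rc_13_2 lc_c_rc_11_1 lc_c_rc_11_1 lc_c_Cert_tree lc_c_rc_14_2 lc_c_rc_26_8 lc_c_rc_11_1 lc_c_Cert_tree lc_c_rc_13_2 lc_c_rc_24_2 lc_c_rc_11_1 lc_c_Cert_tree lc_c_rc_13_2 lc_c_Cert_tree lc_c_Cert_tree lc_c_rc_11_1 lc_c_rc_14_2 lc_c_rc_26_4 lc_c_rc_11_1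 lc_c_rc_13_2 lc_c_rc_26_8 lc_c_rc_11_1 lc_c_rc_13_2 lc_c_rc_26_4 lc_c_rc_11_1 lc_c_rc_11_1 lc_c_rc_11_1 lc_c_rc_22_5 lc_c_rc_14_2 lc_c_rc_13_2 lc_c_Cert_tree lc_c_rc_23_0 lc_c_Cert_tree lc_c_rc_24_8 lc_c_rc_24_8 lc_c_rc_24_2 lc_c_rc_11_1 lc_c_Cert_tree lc_c_rc_11_1 lc_c_rc_13_2) (@D3.rec (fun _ => (Cert rels S Gen.c)) lc_c_rc_24_2 lc_c_rc_11_1 lc_c_Cert_tree lc_c_Cert_tree lc_c_rc_11_1 lc_c_rc_24_8 lc_c_rc_11_1 lc_c_rc_13_2 lc_c_rc_7_3 lc_c_rc_11_1 lc_c_rc_13_2 lc_c_rc_13_2 lc_c_rc_7_3 lc_c_rc_12_10 lc_c_rc_13_2 lc_c_rc_23_0 lc_c_rc_26_4 lc_c_rc_24_4 lc_c_Cert_tree lc_c_rc_2_3 lc_c_rc_26_4 lc_c_Cert_tree lc_c_rc_11_1 lc_c_rc_14_2 lc_c_rc_13_2 lc_c_rc_11_1 lc_c_rc_13_2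 lc_c_Cert_tree lc_c_rc_11_1 lc_c_rc_22_9 lc_c_rc_23_5 lc_c_rc_24_2 lc_c_rc_13_2 lc_c_rc_26_10 lc_c_rc_26_10 lc_c_rc_11_1 lc_c_rc_7_5 lc_c_Cert_tree lc_c_rc_7_5 lc_c_rc_7_5 lc_c_rc_11_1 lc_c_rc_7_5 lc_c_rc_11_1 lc_c_rc_13_2 lc_c_rc_11_1 lc_c_rc_14_2 lc_c_rc_24_4 lc_c_rc_11_1 lc_c_rc_7_3 lc_c_rc_26_4 lc_c_rc_14_2 lc_c_rc_13_2 lc_c_Cert_tree lc_c_rc_11_1 lc_c_rc_13_2 lc_c_rc_13_2 lc_c_Cert_tree lc_c_rc_11_1 lc_c_rc_13_0 lc_c_rc_11_1 lc_c_rc_11_1 lc_c_rc_13_2) (@D3.rec (fun _ => (Cert rels S Gen.c)) lc_c_rc_11_1 lc_c_rc_22_9 lc_c_rc_13_2 lc_c_rc_13_2 lc_c_Cert_tree lc_c_rc_7_3 lc_c_rc_13_2 lc_c_rc_26_10 lc_c_rc_24_2 lc_c_rc_11_1 lc_c_rc_11_1 lc_c_rc_13_2 lc_c_Cert_tree lc_c_rc_14_2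 lc_c_rc_22_5 lc_c_rc_13_2 lc_c_rc_2_3 lc_c_Cert_tree lc_c_rc_11_1 lc_c_Cert_tree lc_c_Cert_tree lc_c_rc_11_1 lc_c_rc_14_2 lc_c_rc_11_1 lc_c_rc_24_6 lc_c_rc_11_1 lc_c_rc_13_2 lc_c_rc_13_2 lc_c_Cert_tree lc_c_Cert_tree lc_c_Cert_tree lc_c_rc_14_2 lc_c_Cert_tree lc_c_Cert_tree lc_c_Cert_tree lc_c_Cert_tree lc_c_rc_11_1 lc_c_rc_14_2 lc_c_rc_7_3 lc_c_rc_13_2 lc_c_rc_13_2 lc_c_rc_14_2 lc_c_rc_13_2 lc_c_Cert_tree lc_c_rc_26_4 lc_c_rc_11_1 lc_c_rc_13_2 lc_c_rc_24_2 lc_c_rc_13_2 lc_c_rc_24_2 lc_c_rc_26_2 lc_c_rc_11_1 lc_c_Cert_tree lc_c_Cert_tree lc_c_rc_11_1 lc_c_Cert_tree lc_c_rc_11_1 lc_c_rc_13_2 lc_c_rc_26_2 lc_c_rc_11_1 lc_c_rc_13_2 lc_c_rc_11_1) (@D3.rec (fun _ => (Cert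 rels S Gen.c)) lc_c_rc_11_1 lc_c_rc_11_1 lc_c_Cert_tree lc_c_rc_14_2 lc_c_rc_13_2 lc_c_rc_24_6 lc_c_Cert_tree lc_c_rc_11_1 lc_c_rc_13_2 lc_c_rc_11_1 lc_c_rc_11_1 lc_c_rc_13_2 lc_c_rc_7_1 lc_c_rc_23_5 lc_c_rc_22_7 lc_c_rc_11_1 lc_c_rc_24_4 lc_c_rc_23_5 lc_c_rc_11_1 lc_c_rc_13_2 lc_c_rc_23_0 lc_c_rc_22_3 lc_c_rc_13_2 lc_c_rc_13_2 lc_c_rc_2_3 lc_c_rc_26_8 lc_c_rc_11_1 lc_c_rc_13_2 lc_c_Cert_tree lc_c_rc_26_4 lc_c_rc_26_4 lc_c_rc_13_2 lc_c_rc_11_1 lc_c_rc_13_2 lc_c_Cert_tree lc_c_rc_11_1 lc_c_rc_11_1 lc_c_rc_11_1 lc_c_rc_22_9 lc_c_rc_11_1 lc_c_rc_13_2 lc_c_rc_26_8 lc_c_Cert_tree lc_c_rc_11_1 lc_c_rc_13_2 lc_c_rc_11_1 lc_c_rc_13_2 lc_c_rc_14_2 lc_c_Cert_tree lc_c_rc_14_2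 lc_c_rc_13_2 lc_c_Cert_tree lc_c_Cert_tree lc_c_Cert_tree lc_c_rc_11_1 lc_c_rc_14_2 lc_c_rc_24_2 lc_c_rc_7_3 lc_c_rc_13_2 lc_c_Cert_tree lc_c_rc_11_1 lc_c_rc_14_2) (@D3.rec (fun _ => (Cert rels S Gen.c)) lc_c_rc_13_2 lc_c_rc_13_2 lc_c_rc_13_2 lc_c_rc_26_10 lc_c_rc_11_1 lc_c_rc_13_2 lc_c_rc_11_1 lc_c_rc_2_1 lc_c_rc_22_7 lc_c_rc_14_2 lc_c_rc_13_2 lc_c_rc_11_1 lc_c_Cert_tree lc_c_rc_11_1 lc_c_rc_13_2 lc_c_rc_11_1 lc_c_rc_13_2 lc_c_rc_11_1 lc_c_rc_13_2 lc_c_rc_14_2 lc_c_rc_14_0 lc_c_rc_11_1 lc_c_rc_7_3 lc_c_rc_13_2 lc_c_rc_26_10 lc_c_rc_24_8 lc_c_rc_13_2 lc_c_rc_13_2 lc_c_rc_13_2 lc_c_rc_26_10 lc_c_rc_26_10 lc_c_Cert_tree lc_c_rc_14_2 lc_c_Cert_tree lc_c_Cert_tree lc_c_Cert_tree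 lc_c_rc_11_1 lc_c_rc_14_2 lc_c_rc_14_2 lc_c_rc_14_0 lc_c_Cert_tree lc_c_rc_11_1 lc_c_Cert_tree lc_c_rc_14_2 lc_c_rc_11_1 lc_c_Cert_tree lc_c_rc_13_2 lc_c_rc_23_0 lc_c_rc_11_1 lc_c_rc_14_2 lc_c_rc_11_1 lc_c_rc_13_2 lc_c_rc_11_1 lc_c_Cert_tree lc_c_rc_11_1 lc_c_rc_14_2 lc_c_rc_13_2 lc_c_rc_13_2 lc_c_rc_13_2 lc_c_rc_11_1 lc_c_Cert_tree lc_c_rc_24_8) (@D3.rec (fun _ => (Cert rels S Gen.c)) lc_c_rc_14_2 lc_c_rc_7_3 lc_c_rc_11_1 lc_c_Cert_tree lc_c_rc_13_2 lc_c_rc_26_4 lc_c_rc_11_1 lc_c_Cert_tree lc_c_rc_13_2 lc_c_rc_13_2 lc_c_rc_26_8 lc_c_rc_22_3 lc_c_Cert_tree lc_c_rc_26_4 lc_c_rc_7_3 lc_c_rc_13_2 lc_c_rc_13_2 lc_c_rc_11_1 lc_c_rc_2_3 lc_c_Cert_tree lc_c_rc_14_2 lc_c_rc_11_1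 lc_c_Cert_tree lc_c_rc_11_1 lc_c_rc_7_3 lc_c_Cert_tree lc_c_rc_11_1 lc_c_rc_14_2 lc_c_rc_13_2 lc_c_rc_13_2 lc_c_rc_11_1 lc_c_rc_11_1 lc_c_rc_26_4 lc_c_rc_14_2 lc_c_rc_11_1 lc_c_Cert_tree lc_c_rc_11_1 lc_c_rc_13_2 lc_c_rc_13_2 lc_c_Cert_tree lc_c_rc_24_6 lc_c_rc_11_1 lc_c_rc_22_3 lc_c_rc_13_2 lc_c_rc_13_2 lc_c_Cert_tree lc_c_rc_14_2 lc_c_rc_26_10 lc_c_rc_11_1 lc_c_rc_11_1 lc_c_rc_13_2 lc_c_rc_13_2 lc_c_rc_13_2 lc_c_rc_22_3 lc_c_rc_11_1 lc_c_Cert_tree lc_c_rc_13_2 lc_c_rc_13_2 lc_c_rc_11_1 lc_c_rc_11_1 lc_c_Cert_tree lc_c_rc_14_2) (@D3.rec (fun _ => (Cert rels S Gen.c)) lc_c_rc_26_4 lc_c_rc_11_1 lc_c_Cert_tree lc_c_rc_13_2 lc_c_rc_7_1 lc_c_rc_11_1 lc_c_Cert_tree lc_c_rc_24_2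 lc_c_rc_22_3 lc_c_rc_13_0 lc_c_rc_11_1 lc_c_rc_11_1 lc_c_Cert_tree lc_c_rc_26_4 lc_c_rc_11_1 lc_c_rc_13_0 lc_c_rc_26_4 lc_c_rc_14_2 lc_c_rc_26_2 lc_c_Cert_tree lc_c_rc_13_2 lc_c_Cert_tree lc_c_Cert_tree lc_c_rc_11_1 lc_c_rc_13_2 lc_c_rc_23_0 lc_c_rc_13_2 lc_c_rc_14_2 lc_c_rc_7_3 lc_c_rc_22_5 lc_c_rc_26_2 lc_c_rc_7_3 lc_c_Cert_tree lc_c_rc_13_2 lc_c_rc_11_1 lc_c_rc_13_2 lc_c_rc_14_2 lc_c_Cert_tree lc_c_rc_11_1 lc_c_rc_13_2 lc_c_rc_11_1 lc_c_rc_13_2 lc_c_rc_11_1 lc_c_rc_24_6 lc_c_rc_24_4 lc_c_rc_7_3 lc_c_Cert_tree lc_c_rc_7_3 lc_c_rc_13_2 lc_c_rc_13_2 lc_c_rc_11_1 lc_c_rc_7_1 lc_c_rc_14_2 lc_c_rc_26_4 lc_c_rc_13_2 lc_c_rc_13_2 lc_c_rc_11_1 lc_c_rc_13_2 lc_c_rc_11_1 lc_c_rc_11_1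 lc_c_rc_22_7 lc_c_rc_14_2) (@D3.rec (fun _ => (Cert rels S Gen.c)) lc_c_Cert_tree lc_c_rc_11_1 lc_c_rc_22_3 lc_c_rc_14_2 lc_c_Cert_tree lc_c_rc_11_1 lc_c_rc_7_1 lc_c_Cert_tree lc_c_rc_23_0 lc_c_rc_23_5 lc_c_rc_11_1 lc_c_rc_24_4 lc_c_rc_11_1 lc_c_rc_24_4 lc_c_rc_7_3 lc_c_rc_22_3 lc_c_rc_13_2 lc_c_Cert_tree lc_c_rc_23_5 lc_c_rc_2_3 lc_c_rc_26_4 lc_c_rc_7_5 lc_c_rc_13_2 lc_c_rc_11_1 lc_c_rc_11_1 lc_c_rc_2_1 lc_c_rc_11_1 lc_c_rc_23_5 lc_c_rc_13_2 lc_c_rc_24_4 lc_c_rc_11_1 lc_c_rc_23_0 lc_c_rc_14_2 lc_c_rc_26_2 lc_c_rc_26_8 lc_c_rc_13_2 lc_c_rc_13_2 lc_c_rc_2_3 lc_c_rc_13_2 lc_c_rc_26_2 lc_c_Cert_tree lc_c_rc_24_2 lc_c_rc_13_2 lc_c_rc_14_2 lc_c_rc_13_2 lc_c_rc_11_1 lc_c_rc_11_1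 lc_c_Cert_tree lc_c_rc_13_2 lc_c_rc_14_2 lc_c_Cert_tree lc_c_rc_13_2 lc_c_Cert_tree lc_c_Cert_tree lc_c_rc_11_1 lc_c_rc_24_2 lc_c_rc_23_0 lc_c_rc_7_5 lc_c_Cert_tree lc_c_rc_11_1 lc_c_rc_11_1 lc_c_rc_14_2) (@D3.rec (fun _ => (Cert rels S Gen.c)) lc_c_rc_11_1 lc_c_Cert_tree lc_c_rc_24_8 lc_c_rc_24_4 lc_c_rc_11_1 lc_c_rc_13_2 lc_c_rc_7_1 lc_c_rc_11_1 lc_c_rc_26_2 lc_c_rc_26_4 lc_c_rc_24_4 lc_c_rc_26_2 lc_c_rc_11_1 lc_c_rc_13_2 lc_c_rc_7_1 lc_c_rc_13_2 lc_c_rc_14_2 lc_c_Cert_tree lc_c_rc_13_2 lc_c_rc_11_1 lc_c_rc_13_2 lc_c_rc_26_8 lc_c_rc_13_2 lc_c_Cert_tree lc_c_rc_22_5 lc_c_rc_23_5 lc_c_rc_11_1 lc_c_rc_11_1 lc_c_rc_22_5 lc_c_rc_13_2 lc_c_rc_14_2 lc_c_rc_13_2 lc_c_rc_22_9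 lc_c_rc_7_3 lc_c_rc_13_2 lc_c_Cert_tree lc_c_rc_13_2 lc_c_Cert_tree lc_c_rc_22_5 lc_c_rc_2_3 lc_c_rc_26_2 lc_c_rc_22_3 lc_c_rc_7_3 lc_c_rc_13_2 lc_c_rc_2_1 lc_c_rc_13_0 lc_c_rc_13_2 lc_c_rc_11_1 lc_c_rc_13_2 lc_c_Cert_tree lc_c_Cert_tree lc_c_rc_14_2 lc_c_Cert_tree lc_c_Cert_tree lc_c_rc_23_5 lc_c_rc_26_4 lc_c_Cert_tree lc_c_rc_13_2 lc_c_rc_11_1 lc_c_rc_2_3 lc_c_Cert_tree lc_c_rc_14_2) (@D3.rec (fun _ => (Cert rels S Gen.c)) lc_c_rc_11_1 lc_c_rc_23_5 lc_c_rc_14_2 lc_c_Cert_tree lc_c_rc_11_1 lc_c_rc_13_2 lc_c_rc_24_6 lc_c_rc_24_4 lc_c_rc_7_3 lc_c_Cert_tree lc_c_rc_13_2 lc_c_Cert_tree lc_c_rc_13_0 lc_c_rc_14_2 lc_c_Cert_tree lc_c_rc_2_3 lc_c_rc_22_5 lc_c_Cert_tree lc_c_rc_2_3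 lc_c_rc_14_2 lc_c_rc_11_1 lc_c_rc_11_1 lc_c_rc_11_1 lc_c_rc_26_4 lc_c_rc_13_2 lc_c_rc_13_2 lc_c_rc_13_2 lc_c_rc_11_1 lc_c_rc_11_1 lc_c_rc_13_0 lc_c_rc_14_2 lc_c_rc_13_0 lc_c_rc_11_1 lc_c_Cert_tree lc_c_rc_11_1 lc_c_Cert_tree lc_c_rc_13_2 lc_c_rc_11_1 lc_c_Cert_tree lc_c_rc_7_3 lc_c_rc_11_1 lc_c_rc_14_2 lc_c_rc_7_3 lc_c_rc_11_1 lc_c_rc_7_5 lc_c_rc_26_8 lc_c_rc_24_2 lc_c_rc_11_1 lc_c_rc_24_6 lc_c_rc_11_1 lc_c_rc_23_5 lc_c_rc_2_3 lc_c_Cert_tree lc_c_rc_14_2 lc_c_rc_11_1 lc_c_rc_11_1 lc_c_rc_24_4 lc_c_rc_13_2 lc_c_rc_24_8 lc_c_rc_11_1 lc_c_rc_11_1 lc_c_rc_7_3) (@D3.rec (fun _ => (Cert rels S Gen.c)) lc_c_rc_7_5 lc_c_rc_7_3 lc_c_rc_13_2 lc_c_rc_11_1 lc_c_rc_11_1 lc_c_rc_24_8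 lc_c_rc_14_2 lc_c_rc_11_1 lc_c_rc_13_2 lc_c_rc_11_1 lc_c_rc_13_2 lc_c_rc_2_3 lc_c_rc_24_2 lc_c_rc_13_2 lc_c_rc_26_10 lc_c_rc_7_5 lc_c_rc_2_3 lc_c_rc_14_2 lc_c_rc_13_2 lc_c_Cert_tree lc_c_rc_11_1 lc_c_Cert_tree lc_c_rc_23_0 lc_c_rc_11_1 lc_c_Cert_tree lc_c_rc_13_2 lc_c_rc_11_1 lc_c_rc_2_3 lc_c_rc_11_1 lc_c_rc_13_2 lc_c_Cert_tree lc_c_rc_7_1 lc_c_rc_13_2 lc_c_rc_13_2 lc_c_rc_11_1 lc_c_rc_13_2 lc_c_rc_11_1 lc_c_rc_11_1 lc_c_Cert_tree lc_c_rc_14_2 lc_c_rc_7_3 lc_c_rc_13_2 lc_c_rc_14_2 lc_c_Cert_tree lc_c_Cert_tree lc_c_rc_14_2 lc_c_rc_11_1 lc_c_Cert_tree lc_c_rc_13_2 lc_c_Cert_tree lc_c_Cert_tree lc_c_rc_13_2 lc_c_Cert_tree lc_c_Cert_tree lc_c_rc_11_1 lc_c_rc_22_3 lc_c_Cert_tree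 lc_c_rc_24_6 lc_c_Cert_tree lc_c_rc_13_2 lc_c_rc_11_1 lc_c_rc_13_2) (@D3.rec (fun _ => (Cert rels S Gen.c)) lc_c_Cert_tree lc_c_rc_23_5 lc_c_rc_7_3 lc_c_Cert_tree lc_c_Cert_tree lc_c_rc_23_5 lc_c_Cert_tree lc_c_rc_14_2 lc_c_Cert_tree lc_c_rc_11_1 lc_c_rc_13_2 lc_c_rc_26_4 lc_c_rc_11_1 lc_c_rc_24_2 lc_c_rc_13_0 lc_c_Cert_tree lc_c_rc_11_1 lc_c_rc_11_1 lc_c_rc_11_1 lc_c_Cert_tree lc_c_rc_11_1 lc_c_rc_11_1 lc_c_Cert_tree lc_c_rc_7_3 lc_c_rc_11_1 lc_c_rc_13_2 lc_c_rc_11_1 lc_c_rc_13_2 lc_c_rc_24_2 lc_c_rc_7_3 lc_c_rc_13_2 lc_c_rc_11_1 lc_c_rc_2_3 lc_c_rc_7_1 lc_c_Cert_tree lc_c_rc_13_2 lc_c_Cert_tree lc_c_rc_7_3 lc_c_rc_13_2 lc_c_rc_11_1 lc_c_rc_24_4 lc_c_rc_7_1 lc_c_rc_22_7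 lc_c_Cert_tree lc_c_rc_11_1 lc_c_rc_13_2 lc_c_Cert_tree lc_c_rc_11_1 lc_c_rc_11_1 lc_c_rc_13_2 lc_c_rc_11_1 lc_c_rc_11_1 lc_c_rc_13_2 lc_c_rc_11_1 lc_c_rc_13_2 lc_c_rc_2_3 lc_c_rc_11_1 lc_c_rc_7_3 lc_c_rc_14_2 lc_c_rc_13_2 lc_c_rc_24_4 lc_c_rc_14_2) (@D3.rec (fun _ => (Cert rels S Gen.c)) lc_c_Cert_tree lc_c_rc_2_3 lc_c_rc_14_2 lc_c_rc_13_2 lc_c_rc_13_2 lc_c_rc_26_8 lc_c_rc_14_2 lc_c_rc_7_5 lc_c_rc_24_6 lc_c_rc_7_3 lc_c_rc_24_6 lc_c_rc_2_3 lc_c_rc_11_1 lc_c_rc_7_3 lc_c_rc_13_2 lc_c_Cert_tree lc_c_rc_22_7 lc_c_rc_14_2 lc_c_rc_11_1 lc_c_rc_7_3 lc_c_rc_11_1 lc_c_rc_7_3 lc_c_rc_13_2 lc_c_Cert_tree lc_c_rc_7_5 lc_c_Cert_tree lc_c_Cert_tree lc_c_rc_2_3 lc_c_Cert_tree lc_c_Cert_tree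 lc_c_rc_11_1 lc_c_rc_11_1 lc_c_rc_11_1 lc_c_rc_7_3 lc_c_rc_11_1 lc_c_rc_22_3 lc_c_Cert_tree lc_c_Cert_tree lc_c_Cert_tree lc_c_rc_11_1 lc_c_rc_7_3 lc_c_rc_11_1 lc_c_Cert_tree lc_c_rc_23_5 lc_c_rc_7_3 lc_c_rc_22_9 lc_c_Cert_tree lc_c_Cert_tree lc_c_rc_2_3 lc_c_rc_7_3 lc_c_rc_24_2 lc_c_rc_22_5 lc_c_Cert_tree lc_c_Cert_tree lc_c_rc_2_3 lc_c_rc_11_1 lc_c_rc_13_2 lc_c_rc_7_3 lc_c_rc_22_5 lc_c_rc_13_2 lc_c_Cert_tree lc_c_Cert_tree) (@D3.rec (fun _ => (Cert rels S Gen.c)) lc_c_Cert_tree lc_c_rc_13_0 lc_c_rc_2_3 lc_c_rc_13_2 lc_c_rc_22_3 lc_c_rc_11_1 lc_c_rc_26_4 lc_c_rc_11_1 lc_c_rc_13_2 lc_c_Cert_tree lc_c_rc_11_1 lc_c_rc_13_2 lc_c_rc_11_1 lc_c_rc_13_2 lc_c_rc_24_4 lc_c_rc_7_3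 lc_c_rc_22_5 lc_c_rc_13_2 lc_c_Cert_tree lc_c_Cert_tree lc_c_rc_2_3 lc_c_rc_13_2 lc_c_rc_14_2 lc_c_rc_22_5 lc_c_rc_26_10 lc_c_Cert_tree lc_c_rc_11_1 lc_c_rc_13_2 lc_c_rc_13_2 lc_c_Cert_tree lc_c_Cert_tree lc_c_rc_14_2 lc_c_rc_7_3 lc_c_Cert_tree lc_c_rc_7_5 lc_c_rc_11_1 lc_c_Cert_tree lc_c_rc_13_2 lc_c_rc_24_8 lc_c_rc_24_8 lc_c_rc_14_2 lc_c_rc_13_2 lc_c_rc_13_2 lc_c_rc_13_2 lc_c_rc_13_2 lc_c_Cert_tree lc_c_rc_23_0 lc_c_rc_13_2 lc_c_Cert_tree lc_c_rc_14_2 lc_c_rc_11_1 lc_c_rc_11_1 lc_c_rc_13_2 lc_c_rc_11_1 lc_c_rc_26_10 lc_c_rc_11_1 lc_c_rc_13_2 lc_c_rc_13_2 lc_c_rc_24_2 lc_c_rc_7_3 lc_c_rc_13_2 lc_c_rc_11_1) (@D3.rec (fun _ => (Cert rels S Gen.c)) lc_c_rc_22_7 lc_c_rc_14_2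 lc_c_rc_7_1 lc_c_rc_14_2 lc_c_rc_23_5 lc_c_rc_24_2 lc_c_rc_23_5 lc_c_rc_2_3 lc_c_rc_24_4 lc_c_rc_13_2 lc_c_Cert_tree lc_c_rc_24_8 lc_c_rc_24_8 lc_c_rc_11_1 lc_c_rc_11_1 lc_c_rc_11_1 lc_c_rc_22_5 lc_c_Cert_tree lc_c_rc_11_1 lc_c_rc_7_3 lc_c_rc_24_8 lc_c_rc_11_1 lc_c_rc_26_4 lc_c_Cert_tree lc_c_rc_22_9 lc_c_rc_13_2 lc_c_rc_11_1 lc_c_rc_2_3 lc_c_Cert_tree lc_c_rc_11_1 lc_c_rc_24_2 lc_c_rc_22_3 lc_c_rc_26_4 lc_c_rc_13_2 lc_c_rc_7_5 lc_c_rc_13_2 lc_c_rc_7_3 lc_c_rc_11_1 lc_c_Cert_tree lc_c_rc_7_5 lc_c_rc_7_3 lc_c_Cert_tree lc_c_Cert_tree lc_c_rc_26_8 lc_c_rc_22_3 lc_c_rc_13_2 lc_c_rc_14_2 lc_c_rc_14_2 lc_c_rc_11_1 lc_c_Cert_tree lc_c_rc_23_5 lc_c_rc_11_1 lc_c_rc_22_3 lc_c_Cert_tree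 lc_c_rc_11_1 lc_c_rc_11_1 lc_c_rc_7_3 lc_c_rc_22_5 lc_c_rc_7_3 lc_c_rc_22_5 lc_c_rc_7_3 lc_c_rc_11_1) (@D3.rec (fun _ => (Cert rels S Gen.c)) lc_c_Cert_tree lc_c_rc_24_8 lc_c_rc_24_8 lc_c_rc_13_2 lc_c_Cert_tree lc_c_rc_11_1 lc_c_rc_11_1 lc_c_Cert_tree lc_c_rc_7_1 lc_c_rc_24_2 lc_c_rc_13_2 lc_c_rc_26_4 lc_c_rc_13_2 lc_c_rc_11_1 lc_c_rc_13_2 lc_c_rc_14_2 lc_c_Cert_tree lc_c_rc_11_1 lc_c_Cert_tree lc_c_Cert_tree lc_c_rc_24_8 lc_c_Cert_tree lc_c_rc_14_2 lc_c_rc_7_3 lc_c_Cert_tree lc_c_rc_13_2 lc_c_Cert_tree lc_c_rc_13_2 lc_c_Cert_tree lc_c_Cert_tree lc_c_rc_11_1 lc_c_Cert_tree lc_c_rc_13_2 lc_c_rc_7_3 lc_c_Cert_tree lc_c_rc_13_2 lc_c_Cert_tree lc_c_rc_13_2 lc_c_rc_2_3 lc_c_rc_13_2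 lc_c_rc_22_3 lc_c_rc_13_2 lc_c_rc_11_1 lc_c_rc_23_0 lc_c_rc_13_2 lc_c_rc_11_1 lc_c_Cert_tree lc_c_Cert_tree lc_c_rc_11_1 lc_c_rc_7_3 lc_c_rc_22_5 lc_c_rc_24_2 lc_c_rc_26_8 lc_c_rc_13_2 lc_c_rc_22_5 lc_c_rc_7_3 lc_c_rc_13_2 lc_c_rc_14_2 lc_c_rc_26_10 lc_c_rc_23_5 lc_c_Cert_tree lc_c_rc_11_1) (@D3.rec (fun _ => (Cert rels S Gen.c)) lc_c_rc_14_2 lc_c_rc_7_3 lc_c_Cert_tree lc_c_rc_22_5 lc_c_rc_13_2 lc_c_rc_13_2 lc_c_rc_24_8 lc_c_rc_13_2 lc_c_rc_13_2 lc_c_Cert_tree lc_c_rc_14_2 lc_c_rc_24_2 lc_c_rc_22_3 lc_c_rc_13_2 lc_c_rc_13_2 lc_c_rc_13_2 lc_c_Cert_tree lc_c_Cert_tree lc_c_Cert_tree lc_c_rc_22_5 lc_c_rc_13_2 lc_c_rc_23_0 lc_c_rc_13_2 lc_c_rc_22_5 lc_c_rc_24_2 lc_c_Cert_tree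 lc_c_rc_14_2 lc_c_rc_11_1 lc_c_rc_26_10 lc_c_rc_2_3 lc_c_rc_26_8 lc_c_rc_11_1 lc_c_rc_2_3 lc_c_rc_13_2 lc_c_rc_25_13 lc_c_rc_13_2 lc_c_rc_7_1 lc_c_rc_7_3 lc_c_rc_26_10 lc_c_rc_11_1 lc_c_rc_13_2 lc_c_rc_24_2 lc_c_rc_14_2 lc_c_rc_11_1 lc_c_rc_11_1 lc_c_rc_2_3 lc_c_rc_14_2 lc_c_rc_7_3 lc_c_rc_13_2 lc_c_rc_11_1 lc_c_rc_14_2 lc_c_rc_11_1 lc_c_rc_22_7 lc_c_rc_11_1 lc_c_rc_24_4 lc_c_rc_13_2 lc_c_rc_13_2 lc_c_rc_2_1 lc_c_rc_23_5 lc_c_Cert_tree lc_c_rc_11_1 lc_c_rc_11_1) (@D3.rec (fun _ => (Cert rels S Gen.c)) lc_c_rc_23_0 lc_c_rc_26_2 lc_c_rc_7_1 lc_c_rc_13_2 lc_c_rc_11_1 lc_c_Cert_tree lc_c_rc_11_1 lc_c_rc_26_2 lc_c_Cert_tree lc_c_rc_7_3 lc_c_rc_13_2 lc_c_rc_13_0 lc_c_rc_11_1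 lc_c_rc_23_5 lc_c_rc_13_2 lc_c_rc_13_0 lc_c_rc_11_1 lc_c_Cert_tree lc_c_rc_13_2 lc_c_rc_2_3 lc_c_rc_13_2 lc_c_rc_7_3 lc_c_Cert_tree lc_c_rc_13_2 lc_c_Cert_tree lc_c_Cert_tree lc_c_Cert_tree lc_c_rc_14_2 lc_c_Cert_tree lc_c_Cert_tree lc_c_rc_14_2 lc_c_rc_7_3 lc_c_Cert_tree lc_c_Cert_tree lc_c_rc_13_2 lc_c_Cert_tree lc_c_Cert_tree lc_c_rc_11_1 lc_c_rc_22_3 lc_c_rc_11_1 lc_c_rc_22_5 lc_c_rc_13_2 lc_c_rc_11_1 lc_c_rc_23_0 lc_c_rc_13_2 lc_c_Cert_tree lc_c_Cert_tree lc_c_rc_11_1 lc_c_rc_11_1 lc_c_rc_11_1 lc_c_rc_2_1 lc_c_rc_26_2 lc_c_Cert_tree lc_c_rc_11_1 lc_c_rc_13_2 lc_c_Cert_tree lc_c_rc_26_4 lc_c_rc_13_2 lc_c_rc_14_0 lc_c_rc_13_2 lc_c_rc_13_2 lc_c_rc_13_2) (@D3.rec (fun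 _ => (Cert rels S Gen.c)) lc_c_Cert_tree lc_c_rc_26_10 lc_c_Cert_tree lc_c_rc_11_1 lc_c_rc_22_5 lc_c_rc_13_2 lc_c_rc_13_2 lc_c_rc_14_2 lc_c_rc_7_5 lc_c_rc_23_5 lc_c_rc_24_4 lc_c_Cert_tree lc_c_rc_23_0 lc_c_rc_13_2 lc_c_rc_14_2 lc_c_Cert_tree lc_c_rc_13_2 lc_c_rc_11_1 lc_c_Cert_tree lc_c_rc_11_1 lc_c_rc_24_8 lc_c_Cert_tree lc_c_rc_11_1 lc_c_rc_7_5 lc_c_rc_14_2 lc_c_rc_7_3 lc_c_rc_22_9 lc_c_rc_14_2 lc_c_rc_11_1 lc_c_rc_11_1 lc_c_rc_2_3 lc_c_rc_7_5 lc_c_rc_13_2 lc_c_rc_26_4 lc_c_rc_11_1 lc_c_rc_13_2 lc_c_rc_26_2 lc_c_rc_7_1 lc_c_rc_2_3 lc_c_rc_24_6 lc_c_rc_11_1 lc_c_rc_13_2 lc_c_rc_26_2 lc_c_rc_22_3 lc_c_rc_14_2 lc_c_rc_11_1 lc_c_rc_14_0 lc_c_rc_13_0 lc_c_Cert_tree lc_c_Cert_tree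 lc_c_rc_24_2 lc_c_rc_7_3 lc_c_rc_14_2 lc_c_rc_11_1 lc_c_rc_11_1 lc_c_rc_13_2 lc_c_rc_11_1 lc_c_rc_13_2 lc_c_rc_22_9 lc_c_rc_23_0 lc_c_rc_7_3 lc_c_rc_22_9) (@D3.rec (fun _ => (Cert rels S Gen.c)) lc_c_rc_14_2 lc_c_rc_13_2 lc_c_rc_26_4 lc_c_rc_11_1 lc_c_rc_22_9 lc_c_rc_13_2 lc_c_rc_7_3 lc_c_rc_11_1 lc_c_rc_25_5 lc_c_rc_13_2 lc_c_rc_11_1 lc_c_rc_2_1 lc_c_rc_23_5 lc_c_rc_11_1 lc_c_rc_23_0 lc_c_rc_13_2 lc_c_rc_26_4 lc_c_rc_11_1 lc_c_rc_13_2 lc_c_Cert_tree lc_c_Cert_tree lc_c_Cert_tree lc_c_rc_14_2 lc_c_rc_14_2 lc_c_rc_24_2 lc_c_rc_26_4 lc_c_rc_11_1 lc_c_rc_25_13 lc_c_rc_13_2 lc_c_rc_11_1 lc_c_rc_24_6 lc_c_rc_11_1 lc_c_rc_26_10 lc_c_rc_11_1 lc_c_rc_13_2 lc_c_rc_24_4 lc_c_rc_14_2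 lc_c_rc_13_2 lc_c_Cert_tree lc_c_rc_12_14 lc_c_rc_14_2 lc_c_rc_23_0 lc_c_rc_23_5 lc_c_rc_11_1 lc_c_rc_14_2 lc_c_rc_7_5 lc_c_rc_26_2 lc_c_rc_26_4 lc_c_rc_13_2 lc_c_rc_11_1 lc_c_rc_13_2 lc_c_rc_11_1 lc_c_Cert_tree lc_c_rc_13_2 lc_c_rc_24_4 lc_c_rc_2_1 lc_c_rc_13_2 lc_c_rc_11_1 lc_c_rc_13_2 lc_c_Cert_tree lc_c_rc_13_2 lc_c_rc_11_1) (@D3.rec (fun _ => (Cert rels S Gen.c)) lc_c_rc_23_5 lc_c_Cert_tree lc_c_rc_14_2 lc_c_rc_11_1 lc_c_rc_13_2 lc_c_rc_11_1 lc_c_rc_24_6 lc_c_rc_7_3 lc_c_rc_13_2 lc_c_Cert_tree lc_c_Cert_tree lc_c_Cert_tree lc_c_rc_14_2 lc_c_rc_11_1 lc_c_rc_14_2 lc_c_rc_7_1 lc_c_rc_11_1 lc_c_Cert_tree lc_c_rc_13_2 lc_c_Cert_tree lc_c_Cert_tree lc_c_rc_11_1 lc_c_rc_14_2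 lc_c_rc_7_5 lc_c_rc_11_1 lc_c_rc_13_2 lc_c_rc_11_1 lc_c_rc_13_2 lc_c_Cert_tree lc_c_rc_14_2 lc_c_rc_13_2 lc_c_Cert_tree lc_c_rc_13_2 lc_c_rc_14_2 lc_c_rc_26_10 lc_c_Cert_tree lc_c_rc_13_2 lc_c_rc_11_1 lc_c_rc_13_0 lc_c_Cert_tree lc_c_rc_14_2 lc_c_Cert_tree lc_c_rc_11_1 lc_c_Cert_tree lc_c_rc_14_0 lc_c_rc_23_0 lc_c_rc_11_1 lc_c_Cert_tree lc_c_Cert_tree lc_c_Cert_tree lc_c_rc_11_1 lc_c_rc_14_2 lc_c_rc_14_2 lc_c_Cert_tree lc_c_Cert_tree lc_c_Cert_tree lc_c_rc_24_4 lc_c_Cert_tree lc_c_rc_26_2 lc_c_rc_14_2 lc_c_rc_13_0 lc_c_rc_11_1) (@D3.rec (fun _ => (Cert rels S Gen.c)) lc_c_rc_13_2 lc_c_Cert_tree lc_c_Cert_tree lc_c_rc_25_17 lc_c_rc_11_1 lc_c_Cert_tree lc_c_rc_13_2 lc_c_rc_13_2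 lc_c_rc_11_1 lc_c_rc_13_2 lc_c_Cert_tree lc_c_rc_14_2 lc_c_Cert_tree lc_c_rc_11_1 lc_c_rc_13_2 lc_c_Cert_tree lc_c_rc_11_1 lc_c_rc_13_2 lc_c_rc_11_1 lc_c_rc_22_7 lc_c_rc_7_3 lc_c_rc_22_7 lc_c_rc_14_2 lc_c_rc_13_2 lc_c_Cert_tree lc_c_rc_7_1 lc_c_Cert_tree lc_c_rc_13_2 lc_c_Cert_tree lc_c_Cert_tree lc_c_Cert_tree lc_c_rc_11_1 lc_c_rc_7_1 lc_c_rc_22_3 lc_c_rc_7_1 lc_c_Cert_tree lc_c_Cert_tree lc_c_rc_7_3 lc_c_rc_7_5 lc_c_rc_13_2 lc_c_rc_25_5 lc_c_Cert_tree lc_c_rc_2_3 lc_c_Cert_tree lc_c_rc_13_2 lc_c_rc_11_1 lc_c_rc_13_2 lc_c_rc_23_5 lc_c_Cert_tree lc_c_rc_11_1 lc_c_rc_11_1 lc_c_Cert_tree lc_c_rc_7_1 lc_c_Cert_tree lc_c_rc_13_2 lc_c_rc_11_1 lc_c_rc_26_10 lc_c_rc_22_9 lc_c_Cert_tree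 lc_c_rc_11_1 lc_c_rc_23_5 lc_c_rc_11_1) (@D3.rec (fun _ => (Cert rels S Gen.c)) lc_c_rc_11_1 lc_c_rc_11_1 lc_c_rc_7_3 lc_c_Cert_tree lc_c_rc_13_2 lc_c_rc_11_1 lc_c_rc_11_1 lc_c_rc_24_2 lc_c_rc_7_3 lc_c_rc_24_8 lc_c_rc_13_2 lc_c_rc_13_2 lc_c_rc_11_1 lc_c_rc_22_3 lc_c_rc_25_13 lc_c_rc_7_5 lc_c_rc_22_7 lc_c_rc_23_0 lc_c_rc_14_0 lc_c_rc_23_5 lc_c_Cert_tree lc_c_rc_11_1 lc_c_rc_2_3 lc_c_Cert_tree lc_c_rc_11_1 lc_c_rc_11_1 lc_c_rc_11_1 lc_c_rc_13_2 lc_c_rc_24_2 lc_c_rc_24_2 lc_c_rc_13_2 lc_c_Cert_tree lc_c_rc_11_1 lc_c_rc_11_1 lc_c_Cert_tree lc_c_Cert_tree lc_c_rc_11_1 lc_c_Cert_tree lc_c_rc_26_2 lc_c_Cert_tree lc_c_Cert_tree lc_c_Cert_tree lc_c_rc_11_1 lc_c_rc_14_2 lc_c_Cert_tree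 lc_c_rc_11_1 lc_c_rc_11_1 lc_c_rc_7_1 lc_c_Cert_tree lc_c_rc_11_1 lc_c_rc_11_1 lc_c_rc_11_1 lc_c_rc_2_3 lc_c_rc_22_7 lc_c_rc_7_3 lc_c_Cert_tree lc_c_rc_25_13 lc_c_Cert_tree lc_c_Cert_tree lc_c_rc_11_1 lc_c_rc_7_3 lc_c_rc_13_0) (@D3.rec (fun _ => (Cert rels S Gen.c)) lc_c_rc_14_2 lc_c_rc_11_1 lc_c_rc_11_1 lc_c_Cert_tree lc_c_Cert_tree lc_c_rc_2_3 lc_c_Cert_tree lc_c_rc_13_2 lc_c_rc_13_2 lc_c_rc_12_4 lc_c_rc_13_2 lc_c_rc_2_3 lc_c_Cert_tree lc_c_rc_11_1 lc_c_Cert_tree lc_c_rc_11_1 lc_c_rc_26_10 lc_c_rc_26_2 lc_c_Cert_tree lc_c_rc_26_4 lc_c_Cert_tree lc_c_Cert_tree lc_c_Cert_tree lc_c_Cert_tree lc_c_rc_11_1 lc_c_rc_14_2 lc_c_rc_7_3 lc_c_Cert_tree lc_c_rc_11_1 lc_c_rc_2_3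 lc_c_Cert_tree lc_c_rc_11_1 lc_c_rc_11_1 lc_c_rc_11_1 lc_c_rc_11_1 lc_c_rc_14_2 lc_c_rc_7_3 lc_c_Cert_tree lc_c_rc_14_2 lc_c_rc_7_3 lc_c_Cert_tree lc_c_rc_24_8 lc_c_rc_11_1 lc_c_rc_11_1 lc_c_rc_26_2 lc_c_rc_11_1 lc_c_rc_13_2 lc_c_Cert_tree lc_c_Cert_tree lc_c_rc_2_3 lc_c_Cert_tree lc_c_rc_14_2 lc_c_rc_22_3 lc_c_rc_13_2 lc_c_Cert_tree lc_c_rc_14_2 lc_c_rc_7_3 lc_c_rc_24_6 lc_c_rc_13_2 lc_c_rc_11_1 lc_c_rc_13_2 lc_c_rc_11_1) (@D3.rec (fun _ => (Cert rels S Gen.c)) lc_c_rc_2_3 lc_c_rc_13_2 lc_c_rc_13_2 lc_c_rc_11_1 lc_c_rc_11_1 lc_c_Cert_tree lc_c_rc_14_2 lc_c_rc_23_5 lc_c_rc_2_1 lc_c_rc_13_2 lc_c_rc_7_1 lc_c_rc_13_2 lc_c_rc_24_8 lc_c_rc_26_10 lc_c_Cert_tree lc_c_rc_11_1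 lc_c_rc_24_8 lc_c_rc_13_2 lc_c_rc_11_1 lc_c_rc_13_2 lc_c_Cert_tree lc_c_rc_13_0 lc_c_rc_2_3 lc_c_Cert_tree lc_c_rc_14_2 lc_c_rc_26_8 lc_c_rc_11_1 lc_c_rc_24_8 lc_c_rc_26_4 lc_c_rc_26_4 lc_c_rc_11_1 lc_c_rc_24_8 lc_c_rc_13_2 lc_c_rc_11_1 lc_c_rc_26_10 lc_c_rc_11_1 lc_c_rc_14_2 lc_c_rc_13_2 lc_c_rc_2_1 lc_c_rc_11_1 lc_c_rc_26_4 lc_c_rc_24_6 lc_c_rc_7_1 lc_c_Cert_tree lc_c_Cert_tree lc_c_Cert_tree lc_c_rc_11_1 lc_c_rc_13_2 lc_c_rc_13_2 lc_c_rc_26_10 lc_c_rc_26_10 lc_c_rc_2_1 lc_c_rc_11_1 lc_c_Cert_tree lc_c_rc_13_2 lc_c_rc_7_1 lc_c_Cert_tree lc_c_rc_13_2 lc_c_rc_11_1 lc_c_rc_13_2 lc_c_Cert_tree lc_c_rc_24_6) (@D3.rec (fun _ => (Cert rels S Gen.c)) lc_c_rc_11_1 lc_c_rc_23_0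 lc_c_Cert_tree lc_c_rc_11_1 lc_c_rc_23_0 lc_c_rc_13_2 lc_c_rc_24_6 lc_c_rc_24_6 lc_c_Cert_tree lc_c_rc_14_2 lc_c_rc_13_2 lc_c_rc_11_1 lc_c_Cert_tree lc_c_rc_11_1 lc_c_rc_24_8 lc_c_rc_23_0 lc_c_Cert_tree lc_c_Cert_tree lc_c_rc_11_1 lc_c_rc_13_2 lc_c_Cert_tree lc_c_rc_11_1 lc_c_rc_13_2 lc_c_rc_11_1 lc_c_rc_7_3 lc_c_rc_13_2 lc_c_rc_25_1 lc_c_rc_14_2 lc_c_rc_22_7 lc_c_rc_11_1 lc_c_rc_11_1 lc_c_rc_13_2 lc_c_rc_11_1 lc_c_Cert_tree lc_c_rc_13_2 lc_c_rc_11_1 lc_c_rc_13_0 lc_c_Cert_tree lc_c_rc_14_2 lc_c_rc_26_2 lc_c_rc_13_2 lc_c_rc_24_8 lc_c_rc_11_1 lc_c_rc_7_1 lc_c_rc_13_2 lc_c_rc_13_2 lc_c_rc_14_2 lc_c_rc_11_1 lc_c_rc_13_2 lc_c_rc_26_2 lc_c_rc_12_2 lc_c_rc_23_0 lc_c_rc_22_3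 lc_c_rc_26_4 lc_c_Cert_tree lc_c_Cert_tree lc_c_rc_11_1 lc_c_Cert_tree lc_c_rc_26_4 lc_c_rc_13_2 lc_c_rc_13_2 lc_c_rc_24_4) (@D3.rec (fun _ => (Cert rels S Gen.c)) lc_c_rc_7_3 lc_c_rc_22_3 lc_c_rc_26_10 lc_c_rc_2_3 lc_c_rc_12_2 lc_c_Cert_tree lc_c_Cert_tree lc_c_rc_26_4 lc_c_rc_26_10 lc_c_Cert_tree lc_c_rc_11_1 lc_c_Cert_tree lc_c_rc_13_2 lc_c_rc_26_4 lc_c_Cert_tree lc_c_rc_26_4 lc_c_rc_11_1 lc_c_rc_13_2 lc_c_Cert_tree lc_c_rc_13_2 lc_c_Cert_tree lc_c_rc_7_3 lc_c_rc_13_2 lc_c_rc_13_2 lc_c_rc_22_3 lc_c_rc_11_1 lc_c_Cert_tree lc_c_rc_2_3 lc_c_Cert_tree lc_c_rc_13_2 lc_c_rc_13_2 lc_c_rc_13_2 lc_c_rc_14_2 lc_c_rc_2_3 lc_c_rc_7_3 lc_c_rc_13_2 lc_c_rc_7_3 lc_c_rc_11_1 lc_c_rc_14_2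 lc_c_rc_22_9 lc_c_rc_13_2 lc_c_rc_11_1 lc_c_rc_7_3 lc_c_rc_11_1 lc_c_rc_26_2 lc_c_rc_7_1 lc_c_rc_23_5 lc_c_rc_23_5 lc_c_rc_11_1 lc_c_rc_23_0 lc_c_rc_22_5 lc_c_rc_7_3 lc_c_rc_7_3 lc_c_Cert_tree lc_c_Cert_tree lc_c_Cert_tree lc_c_rc_2_3 lc_c_Cert_tree lc_c_rc_2_3 lc_c_Cert_tree lc_c_Cert_tree lc_c_rc_2_3) (@D3.rec (fun _ => (Cert rels S Gen.c)) lc_c_rc_13_2 lc_c_rc_7_1 lc_c_rc_22_3 lc_c_Cert_tree lc_c_Cert_tree lc_c_rc_23_0 lc_c_rc_26_2 lc_c_rc_22_3 lc_c_rc_26_4 lc_c_rc_11_1 lc_c_rc_13_2 lc_c_Cert_tree lc_c_rc_11_1 lc_c_rc_7_5 lc_c_rc_11_1 lc_c_rc_13_2 lc_c_rc_11_1 lc_c_rc_13_2 lc_c_rc_13_2 lc_c_rc_13_2 lc_c_rc_7_3 lc_c_rc_22_5 lc_c_rc_13_2 lc_c_rc_7_3 lc_c_rc_13_2 lc_c_Cert_tree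 lc_c_Cert_tree lc_c_rc_7_5 lc_c_rc_7_5 lc_c_rc_23_5 lc_c_rc_13_2 lc_c_rc_7_5 lc_c_rc_23_5 lc_c_rc_13_2 lc_c_Cert_tree lc_c_Cert_tree lc_c_rc_2_3 lc_c_Cert_tree lc_c_rc_11_1 lc_c_rc_24_2 lc_c_rc_24_8 lc_c_rc_11_1 lc_c_rc_22_7 lc_c_rc_13_2 lc_c_rc_11_1 lc_c_rc_7_3 lc_c_rc_24_8 lc_c_rc_13_2 lc_c_rc_7_3 lc_c_rc_24_2 lc_c_rc_13_2 lc_c_rc_13_2 lc_c_rc_11_1 lc_c_rc_23_5 lc_c_rc_13_2 lc_c_rc_23_0 lc_c_rc_23_5 lc_c_rc_13_2 lc_c_rc_2_3 lc_c_rc_14_2 lc_c_Cert_tree lc_c_Cert_tree) (@D3.rec (fun _ => (Cert rels S Gen.c)) lc_c_rc_2_3 lc_c_Cert_tree lc_c_rc_14_2 lc_c_rc_13_2 lc_c_rc_13_2 lc_c_rc_7_3 lc_c_rc_13_2 lc_c_rc_13_0 lc_c_rc_26_4 lc_c_rc_2_1 lc_c_rc_13_2 lc_c_rc_7_3 lc_c_rc_13_2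 lc_c_rc_23_0 lc_c_rc_26_2 lc_c_rc_7_3 lc_c_rc_22_5 lc_c_rc_13_2 lc_c_Cert_tree lc_c_Cert_tree lc_c_rc_2_1 lc_c_rc_7_5 lc_c_rc_11_1 lc_c_rc_13_2 lc_c_rc_7_3 lc_c_rc_24_2 lc_c_rc_13_2 lc_c_Cert_tree lc_c_Cert_tree lc_c_rc_2_3 lc_c_Cert_tree lc_c_rc_13_2 lc_c_rc_2_3 lc_c_rc_13_2 lc_c_rc_24_6 lc_c_rc_11_1 lc_c_Cert_tree lc_c_rc_14_2 lc_c_rc_11_1 lc_c_Cert_tree lc_c_rc_11_1 lc_c_rc_7_5 lc_c_rc_11_1 lc_c_rc_23_5 lc_c_rc_13_2 lc_c_rc_13_2 lc_c_rc_7_3 lc_c_rc_11_1 lc_c_rc_13_2 lc_c_rc_2_1 lc_c_rc_26_10 lc_c_rc_7_3 lc_c_rc_13_2 lc_c_rc_11_1 lc_c_rc_24_2 lc_c_Cert_tree lc_c_rc_11_1 lc_c_rc_2_3 lc_c_Cert_tree lc_c_rc_7_1 lc_c_rc_13_2 lc_c_rc_13_0) (@D3.rec (fun _ => (Cert rels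 S Gen.c)) lc_c_rc_13_0 lc_c_Cert_tree lc_c_rc_14_2 lc_c_Cert_tree lc_c_rc_13_2 lc_c_rc_24_4 lc_c_rc_11_1 lc_c_rc_13_2 lc_c_Cert_tree lc_c_Cert_tree lc_c_rc_2_3 lc_c_Cert_tree lc_c_rc_13_2 lc_c_rc_24_2 lc_c_rc_23_0 lc_c_rc_13_2 lc_c_rc_23_0 lc_c_rc_23_0 lc_c_Cert_tree lc_c_rc_14_2 lc_c_rc_11_1 lc_c_Cert_tree lc_c_rc_11_1 lc_c_rc_13_2 lc_c_rc_23_5 lc_c_rc_7_1 lc_c_rc_11_1 lc_c_rc_13_2 lc_c_rc_24_8 lc_c_rc_11_1 lc_c_Cert_tree lc_c_rc_26_2 lc_c_Cert_tree lc_c_rc_11_1 lc_c_rc_2_3 lc_c_Cert_tree lc_c_rc_13_2 lc_c_rc_13_2 lc_c_rc_11_1 lc_c_rc_11_1 lc_c_rc_22_7 lc_c_rc_14_2 lc_c_rc_23_5 lc_c_rc_11_1 lc_c_rc_11_1 lc_c_rc_14_2 lc_c_Cert_tree lc_c_Cert_tree lc_c_rc_11_1 lc_c_Cert_tree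 lc_c_rc_23_0 lc_c_rc_24_6 lc_c_rc_13_2 lc_c_Cert_tree lc_c_rc_14_2 lc_c_rc_11_1 lc_c_rc_11_1 lc_c_rc_2_3 lc_c_rc_11_1 lc_c_rc_13_2 lc_c_rc_13_2 lc_c_rc_24_2) (@D3.rec (fun _ => (Cert rels S Gen.c)) lc_c_rc_14_2 lc_c_rc_14_2 lc_c_rc_26_4 lc_c_Cert_tree lc_c_rc_7_5 lc_c_rc_23_5 lc_c_rc_26_2 lc_c_Cert_tree lc_c_Cert_tree lc_c_Cert_tree lc_c_Cert_tree lc_c_rc_11_1 lc_c_rc_13_2 lc_c_rc_14_2 lc_c_rc_13_2 lc_c_Cert_tree lc_c_rc_13_2 lc_c_rc_11_1 lc_c_rc_13_2 lc_c_rc_7_3 lc_c_rc_13_2 lc_c_rc_11_1 lc_c_Cert_tree lc_c_rc_14_2 lc_c_rc_13_2 lc_c_Cert_tree lc_c_rc_13_2 lc_c_rc_11_1 lc_c_Cert_tree lc_c_rc_13_2 lc_c_rc_26_4 lc_c_rc_11_1 lc_c_Cert_tree lc_c_rc_13_2 lc_c_rc_7_3 lc_c_rc_13_2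 lc_c_Cert_tree lc_c_Cert_tree lc_c_rc_22_9 lc_c_rc_7_3 lc_c_rc_13_2 lc_c_rc_7_5 lc_c_rc_13_2 lc_c_rc_11_1 lc_c_rc_11_1 lc_c_Cert_tree lc_c_rc_13_0 lc_c_rc_11_1 lc_c_Cert_tree lc_c_rc_11_1 lc_c_rc_24_2 lc_c_rc_11_1 lc_c_Cert_tree lc_c_rc_13_2 lc_c_Cert_tree lc_c_rc_11_1 lc_c_rc_7_3 lc_c_rc_22_5 lc_c_rc_13_2 lc_c_rc_11_1 lc_c_rc_2_3 lc_c_rc_14_2) (@D3.rec (fun _ => (Cert rels S Gen.c)) lc_c_rc_13_2 lc_c_rc_13_2 lc_c_rc_24_6 lc_c_rc_11_1 lc_c_Cert_tree lc_c_rc_11_1 lc_c_rc_11_1 lc_c_rc_13_2 lc_c_rc_26_2 lc_c_rc_11_1 lc_c_rc_13_2 lc_c_rc_11_1 lc_c_rc_11_1 lc_c_rc_26_4 lc_c_rc_14_0 lc_c_Cert_tree lc_c_rc_13_2 lc_c_rc_14_2 lc_c_rc_11_1 lc_c_rc_7_3 lc_c_Cert_tree lc_c_rc_11_1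 lc_c_rc_13_2 lc_c_rc_11_1 lc_c_rc_24_4 lc_c_rc_13_2 lc_c_Cert_tree lc_c_Cert_tree lc_c_Cert_tree lc_c_rc_11_1 lc_c_rc_23_5 lc_c_rc_7_5 lc_c_Cert_tree lc_c_Cert_tree lc_c_rc_2_3 lc_c_rc_13_2 lc_c_rc_22_3 lc_c_rc_14_2 lc_c_rc_11_1 lc_c_rc_23_5 lc_c_rc_11_1 lc_c_rc_23_5 lc_c_rc_13_2 lc_c_rc_23_0 lc_c_rc_2_1 lc_c_rc_14_2 lc_c_rc_11_1 lc_c_Cert_tree lc_c_rc_11_1 lc_c_Cert_tree lc_c_rc_13_2 lc_c_rc_11_1 lc_c_rc_13_2 lc_c_rc_22_7 lc_c_rc_13_2 lc_c_rc_24_8 lc_c_rc_11_1 lc_c_rc_2_1 lc_c_rc_11_1 lc_c_rc_7_3 lc_c_rc_11_1 lc_c_Cert_tree) (@D3.rec (fun _ => (Cert rels S Gen.c)) lc_c_Cert_tree lc_c_Cert_tree lc_c_rc_11_1 lc_c_rc_7_5 lc_c_rc_26_4 lc_c_rc_13_2 lc_c_Cert_tree lc_c_rc_14_2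 lc_c_rc_26_10 lc_c_rc_11_1 lc_c_rc_2_3 lc_c_Cert_tree lc_c_rc_13_2 lc_c_rc_13_2 lc_c_rc_23_0 lc_c_rc_14_2 lc_c_rc_26_4 lc_c_Cert_tree lc_c_rc_13_2 lc_c_rc_14_0 lc_c_Cert_tree lc_c_rc_22_5 lc_c_Cert_tree lc_c_Cert_tree lc_c_rc_11_1 lc_c_rc_13_2 lc_c_Cert_tree lc_c_rc_13_2 lc_c_rc_11_1 lc_c_rc_13_2 lc_c_rc_23_0 lc_c_rc_2_3 lc_c_rc_14_2 lc_c_rc_13_2 lc_c_rc_13_2 lc_c_Cert_tree lc_c_rc_26_2 lc_c_Cert_tree lc_c_rc_23_5 lc_c_rc_26_10 lc_c_Cert_tree lc_c_rc_13_2 lc_c_rc_7_3 lc_c_rc_22_5 lc_c_rc_22_9 lc_c_rc_13_2 lc_c_rc_23_0 lc_c_rc_23_5 lc_c_rc_14_2 lc_c_rc_23_0 lc_c_rc_11_1 lc_c_Cert_tree lc_c_rc_26_10 lc_c_rc_11_1 lc_c_Cert_tree lc_c_rc_13_2 lc_c_rc_11_1 lc_c_Cert_tree lc_c_rc_11_1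 lc_c_rc_7_3 lc_c_rc_13_2 lc_c_rc_11_1) (@D3.rec (fun _ => (Cert rels S Gen.c)) lc_c_rc_11_1 lc_c_rc_13_2 lc_c_rc_26_10 lc_c_rc_11_1 lc_c_rc_11_1 lc_c_rc_26_4 lc_c_rc_11_1 lc_c_rc_7_5 lc_c_rc_11_1 lc_c_Cert_tree lc_c_rc_13_2 lc_c_rc_11_1 lc_c_rc_11_1 lc_c_Cert_tree lc_c_rc_11_1 lc_c_rc_11_1 lc_c_rc_13_2 lc_c_rc_7_5 lc_c_rc_2_3 lc_c_rc_26_4 lc_c_rc_26_2 lc_c_rc_11_1 lc_c_rc_11_1 lc_c_rc_26_2 lc_c_rc_13_2 lc_c_rc_13_2 lc_c_rc_7_3 lc_c_rc_11_1 lc_c_rc_13_2 lc_c_rc_11_1 lc_c_rc_13_2 lc_c_rc_13_2 lc_c_rc_7_3 lc_c_rc_22_5 lc_c_rc_13_2 lc_c_rc_7_3 lc_c_rc_12_8 lc_c_rc_13_2 lc_c_rc_14_2 lc_c_rc_7_3 lc_c_rc_22_5 lc_c_rc_13_2 lc_c_Cert_tree lc_c_Cert_tree lc_c_rc_14_2 lc_c_rc_7_5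 lc_c_rc_22_7 lc_c_rc_13_2 lc_c_rc_7_3 lc_c_rc_22_7 lc_c_rc_13_2 lc_c_Cert_tree lc_c_Cert_tree lc_c_rc_24_4 lc_c_Cert_tree lc_c_rc_11_1 lc_c_rc_22_3 lc_c_rc_24_2 lc_c_rc_11_1 lc_c_rc_13_2 lc_c_rc_22_5 lc_c_rc_13_2) (@D3.rec (fun _ => (Cert rels S Gen.c)) lc_c_Cert_tree lc_c_rc_11_1 lc_c_rc_13_2 lc_c_rc_13_2 lc_c_rc_7_3 lc_c_rc_11_1 lc_c_rc_13_2 lc_c_rc_7_3 lc_c_rc_24_8 lc_c_rc_13_2 lc_c_Cert_tree lc_c_rc_14_2 lc_c_rc_7_3 lc_c_rc_23_5 lc_c_rc_13_2 lc_c_Cert_tree lc_c_Cert_tree lc_c_rc_14_2 lc_c_rc_7_5 lc_c_rc_12_12 lc_c_rc_13_2 lc_c_rc_7_5 lc_c_rc_23_5 lc_c_rc_13_2 lc_c_Cert_tree lc_c_Cert_tree lc_c_rc_2_3 lc_c_rc_26_2 lc_c_rc_11_1 lc_c_rc_24_2 lc_c_rc_11_1 lc_c_rc_11_1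 lc_c_rc_13_2 lc_c_rc_22_5 lc_c_rc_13_2 lc_c_Cert_tree lc_c_rc_7_3 lc_c_rc_24_8 lc_c_rc_13_2 lc_c_rc_7_3 lc_c_rc_24_8 lc_c_rc_13_2 lc_c_rc_7_3 lc_c_rc_23_5 lc_c_rc_13_2 lc_c_rc_26_8 lc_c_rc_14_2 lc_c_rc_23_5 lc_c_rc_13_2 lc_c_Cert_tree lc_c_rc_14_2 lc_c_rc_7_3 lc_c_rc_12_8 lc_c_rc_13_2 lc_c_Cert_tree lc_c_Cert_tree lc_c_rc_2_3 lc_c_Cert_tree lc_c_rc_14_2 lc_c_rc_11_1 lc_c_rc_13_2 lc_c_rc_13_2) (@D3.rec (fun _ => (Cert rels S Gen.c)) lc_c_rc_13_2 lc_c_rc_7_3 lc_c_rc_13_2 lc_c_rc_23_5 lc_c_rc_23_5 lc_c_rc_11_1 lc_c_rc_13_2 lc_c_rc_13_2 lc_c_rc_7_3 lc_c_rc_13_2 lc_c_rc_23_0 lc_c_rc_13_2 lc_c_rc_26_8 lc_c_rc_7_3 lc_c_rc_23_5 lc_c_rc_13_2 lc_c_rc_22_7 lc_c_Cert_tree lc_c_rc_14_2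 lc_c_rc_7_5 lc_c_rc_22_5 lc_c_rc_13_2 lc_c_rc_7_3 lc_c_rc_23_0 lc_c_rc_13_2 lc_c_Cert_tree lc_c_Cert_tree lc_c_rc_2_3 lc_c_Cert_tree lc_c_rc_13_2 lc_c_rc_11_1 lc_c_rc_13_2 lc_c_rc_24_6 lc_c_rc_11_1 lc_c_Cert_tree lc_c_rc_14_2 lc_c_rc_11_1 lc_c_Cert_tree lc_c_rc_11_1 lc_c_rc_14_2 lc_c_rc_11_1 lc_c_rc_23_5 lc_c_rc_13_2 lc_c_rc_13_2 lc_c_rc_7_3 lc_c_rc_24_2 lc_c_rc_13_2 lc_c_rc_26_2 lc_c_rc_13_2 lc_c_rc_7_3 lc_c_rc_13_2 lc_c_rc_11_1 lc_c_rc_26_2 lc_c_Cert_tree lc_c_rc_11_1 lc_c_rc_2_3 lc_c_rc_11_1 lc_c_rc_2_1 lc_c_rc_13_2 lc_c_rc_11_1 lc_c_rc_13_0 lc_c_rc_11_1) (@D3.rec (fun _ => (Cert rels S Gen.c)) lc_c_rc_14_2 lc_c_rc_11_1 lc_c_rc_24_8 lc_c_rc_13_2 lc_c_rc_13_0 lc_c_rc_14_2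 lc_c_rc_7_5 lc_c_rc_13_2 lc_c_Cert_tree lc_c_Cert_tree lc_c_rc_2_3 lc_c_Cert_tree lc_c_rc_24_2 lc_c_rc_23_0 lc_c_rc_13_2 lc_c_rc_13_2 lc_c_rc_11_1 lc_c_rc_14_2 lc_c_rc_11_1 lc_c_Cert_tree lc_c_rc_11_1 lc_c_Cert_tree lc_c_rc_13_2 lc_c_rc_11_1 lc_c_rc_7_1 lc_c_rc_23_0 lc_c_rc_13_2 lc_c_rc_11_1 lc_c_rc_11_1 lc_c_rc_2_3 lc_c_Cert_tree lc_c_rc_11_1 lc_c_rc_2_3 lc_c_rc_11_1 lc_c_rc_13_2 lc_c_rc_13_2 lc_c_rc_11_1 lc_c_rc_11_1 lc_c_Cert_tree lc_c_rc_14_2 lc_c_rc_11_1 lc_c_rc_2_3 lc_c_rc_11_1 lc_c_Cert_tree lc_c_rc_11_1 lc_c_rc_14_2 lc_c_Cert_tree lc_c_Cert_tree lc_c_Cert_tree lc_c_rc_11_1 lc_c_Cert_tree lc_c_rc_13_2 lc_c_rc_24_2 lc_c_rc_13_2 lc_c_Cert_tree lc_c_rc_14_2 lc_c_rc_11_1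 lc_c_rc_11_1 lc_c_rc_11_1 lc_c_rc_23_5 lc_c_rc_13_2 lc_c_rc_13_2) (@D3.rec (fun _ => (Cert rels S Gen.c)) lc_c_Cert_tree lc_c_rc_14_2 lc_c_rc_14_2 lc_c_rc_26_4 lc_c_rc_13_2 lc_c_rc_14_0 lc_c_rc_2_3 lc_c_rc_13_0 lc_c_rc_22_5 lc_c_rc_23_5 lc_c_rc_11_1 lc_c_Cert_tree lc_c_rc_13_2 lc_c_rc_11_1 lc_c_rc_13_2 lc_c_rc_7_3 lc_c_rc_13_2 lc_c_rc_11_1 lc_c_rc_14_2 lc_c_rc_13_2 lc_c_rc_11_1 lc_c_rc_11_1 lc_c_rc_26_8 lc_c_rc_11_1 lc_c_Cert_tree lc_c_rc_13_2 lc_c_rc_26_4 lc_c_rc_11_1 lc_c_Cert_tree lc_c_rc_26_4 lc_c_rc_11_1 lc_c_rc_24_4 lc_c_rc_11_1 lc_c_rc_13_2 lc_c_rc_11_1 lc_c_rc_11_1 lc_c_Cert_tree lc_c_rc_11_1 lc_c_rc_11_1 lc_c_rc_7_3 lc_c_rc_22_3 lc_c_rc_22_5 lc_c_rc_13_2 lc_c_rc_11_1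 lc_c_rc_24_8 lc_c_rc_23_5 lc_c_rc_7_5 lc_c_rc_13_2 lc_c_rc_13_2 lc_c_rc_24_6 lc_c_rc_11_1 lc_c_rc_23_5 lc_c_rc_14_2 lc_c_rc_13_2 lc_c_rc_11_1 lc_c_rc_13_2 lc_c_rc_26_4 lc_c_rc_11_1 lc_c_rc_11_1 lc_c_rc_24_2 lc_c_rc_26_8 lc_c_rc_11_1) (@D3.rec (fun _ => (Cert rels S Gen.c)) lc_c_rc_13_0 lc_c_rc_24_2 lc_c_rc_23_0 lc_c_Cert_tree lc_c_rc_13_2 lc_c_rc_24_6 lc_c_rc_7_3 lc_c_rc_13_2 lc_c_rc_13_0 lc_c_rc_23_0 lc_c_rc_13_0 lc_c_rc_14_0 lc_c_rc_22_5 lc_c_rc_11_1 lc_c_rc_14_2 lc_c_rc_11_1 lc_c_Cert_tree lc_c_rc_13_2 lc_c_rc_7_1 lc_c_rc_13_2 lc_c_rc_23_0 lc_c_rc_23_0 lc_c_rc_23_0 lc_c_Cert_tree lc_c_rc_13_2 lc_c_Cert_tree lc_c_rc_13_0 lc_c_rc_13_0 lc_c_rc_11_1 lc_c_Cert_tree lc_c_rc_12_0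 lc_c_rc_11_1 lc_c_Cert_tree lc_c_rc_11_1 lc_c_rc_11_1 lc_c_rc_13_2 lc_c_rc_7_5 lc_c_Cert_tree lc_c_rc_11_1 lc_c_rc_7_3 lc_c_rc_7_1 lc_c_rc_23_5 lc_c_rc_11_1 lc_c_rc_13_2 lc_c_rc_23_5 lc_c_rc_24_2 lc_c_rc_11_1 lc_c_rc_11_1 lc_c_rc_7_3 lc_c_Cert_tree lc_c_rc_11_1 lc_c_rc_2_3 lc_c_Cert_tree lc_c_rc_13_2 lc_c_rc_13_2 lc_c_rc_11_1 lc_c_Cert_tree lc_c_rc_14_2 lc_c_Cert_tree lc_c_rc_11_1 lc_c_rc_13_2 lc_c_rc_7_3) (@D3.rec (fun _ => (Cert rels S Gen.c)) lc_c_rc_13_2 lc_c_rc_13_2 lc_c_rc_23_0 lc_c_rc_14_2 lc_c_rc_24_2 lc_c_rc_7_3 lc_c_rc_13_2 lc_c_rc_24_8 lc_c_rc_24_2 lc_c_rc_14_2 lc_c_rc_7_5 lc_c_rc_13_2 lc_c_Cert_tree lc_c_rc_11_1 lc_c_rc_14_2 lc_c_rc_26_2 lc_c_rc_11_1 lc_c_rc_26_4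 lc_c_rc_26_2 lc_c_rc_11_1 lc_c_rc_11_1 lc_c_rc_13_2 lc_c_rc_11_1 lc_c_rc_23_0 lc_c_rc_11_1 lc_c_rc_24_6 lc_c_rc_13_0 lc_c_rc_22_3 lc_c_rc_13_2 lc_c_rc_14_2 lc_c_rc_13_2 lc_c_rc_11_1 lc_c_rc_24_2 lc_c_Cert_tree lc_c_rc_13_2 lc_c_rc_24_2 lc_c_rc_11_1 lc_c_rc_13_2 lc_c_rc_11_1 lc_c_rc_7_5 lc_c_rc_7_3 lc_c_rc_11_1 lc_c_rc_13_2 lc_c_rc_23_5 lc_c_rc_13_2 lc_c_rc_14_2 lc_c_rc_14_0 lc_c_rc_2_1 lc_c_rc_13_2 lc_c_Cert_tree lc_c_Cert_tree lc_c_rc_26_8 lc_c_rc_13_2 lc_c_rc_11_1 lc_c_rc_26_2 lc_c_rc_26_10 lc_c_rc_11_1 lc_c_rc_26_2 lc_c_rc_23_5 lc_c_rc_2_3 lc_c_rc_11_1 lc_c_rc_2_3) (@D3.rec (fun _ => (Cert rels S Gen.c)) lc_c_rc_26_4 lc_c_rc_13_2 lc_c_rc_14_2 lc_c_rc_11_1 lc_c_rc_13_2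 lc_c_rc_22_3 lc_c_rc_11_1 lc_c_Cert_tree lc_c_rc_14_2 lc_c_rc_13_2 lc_c_rc_26_4 lc_c_rc_11_1 lc_c_Cert_tree lc_c_Cert_tree lc_c_rc_11_1 lc_c_Cert_tree lc_c_rc_13_2 lc_c_rc_13_2 lc_c_Cert_tree lc_c_Cert_tree lc_c_Cert_tree lc_c_rc_26_2 lc_c_rc_24_8 lc_c_rc_24_8 lc_c_rc_24_8 lc_c_rc_11_1 lc_c_rc_26_4 lc_c_rc_11_1 lc_c_Cert_tree lc_c_rc_11_1 lc_c_rc_13_2 lc_c_Cert_tree lc_c_Cert_tree lc_c_rc_13_2 lc_c_rc_14_2 lc_c_rc_11_1 lc_c_Cert_tree lc_c_rc_11_1 lc_c_rc_22_5 lc_c_Cert_tree lc_c_Cert_tree lc_c_Cert_tree lc_c_rc_11_1 lc_c_rc_13_2 lc_c_rc_23_5 lc_c_rc_14_2 lc_c_Cert_tree lc_c_rc_13_2 lc_c_rc_13_0 lc_c_Cert_tree lc_c_rc_13_2 lc_c_rc_11_1 lc_c_rc_24_8 lc_c_rc_11_1 lc_c_rc_7_3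 lc_c_rc_11_1 lc_c_Cert_tree lc_c_rc_23_5 lc_c_Cert_tree lc_c_Cert_tree lc_c_rc_23_5 lc_c_rc_11_1) (@D3.rec (fun _ => (Cert rels S Gen.c)) lc_c_rc_24_2 lc_c_rc_11_1 lc_c_rc_14_2 lc_c_rc_11_1 lc_c_Cert_tree lc_c_rc_11_1 lc_c_rc_13_2 lc_c_rc_11_1 lc_c_rc_24_6 lc_c_Cert_tree lc_c_rc_13_2 lc_c_rc_22_3 lc_c_rc_24_8 lc_c_rc_11_1 lc_c_rc_7_3 lc_c_rc_13_2 lc_c_rc_11_1 lc_c_rc_11_1 lc_c_rc_7_3 lc_c_rc_13_2 lc_c_rc_26_2 lc_c_rc_11_1 lc_c_Cert_tree lc_c_rc_11_1 lc_c_rc_13_2 lc_c_rc_13_2 lc_c_rc_26_8 lc_c_rc_2_3 lc_c_rc_12_14 lc_c_rc_23_0 lc_c_rc_26_4 lc_c_rc_26_4 lc_c_rc_11_1 lc_c_rc_26_2 lc_c_rc_24_2 lc_c_rc_11_1 lc_c_rc_26_4 lc_c_rc_13_2 lc_c_rc_11_1 lc_c_rc_13_2 lc_c_rc_13_2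 lc_c_rc_7_3 lc_c_rc_13_2 lc_c_Cert_tree lc_c_rc_14_2 lc_c_rc_7_5 lc_c_rc_11_1 lc_c_rc_13_2 lc_c_rc_11_1 lc_c_rc_13_2 lc_c_rc_24_4 lc_c_rc_7_3 lc_c_rc_23_0 lc_c_rc_24_6 lc_c_rc_13_2 lc_c_rc_11_1 lc_c_rc_14_2 lc_c_rc_13_2 lc_c_rc_13_2 lc_c_rc_2_3 lc_c_rc_11_1 lc_c_rc_25_17) (@D3.rec (fun _ => (Cert rels S Gen.c)) lc_c_Cert_tree lc_c_rc_11_1 lc_c_rc_13_2 lc_c_rc_11_1 lc_c_rc_13_2 lc_c_rc_13_0 lc_c_rc_13_2 lc_c_rc_11_1 lc_c_rc_7_3 lc_c_rc_11_1 lc_c_rc_13_2 lc_c_Cert_tree lc_c_rc_13_2 lc_c_rc_7_3 lc_c_rc_13_2 lc_c_rc_26_4 lc_c_rc_26_2 lc_c_rc_25_17 lc_c_rc_14_2 lc_c_rc_24_8 lc_c_rc_11_1 lc_c_rc_24_8 lc_c_rc_2_3 lc_c_Cert_tree lc_c_rc_24_2 lc_c_rc_11_1 lc_c_rc_7_5 lc_c_rc_7_3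 lc_c_rc_24_4 lc_c_rc_13_2 lc_c_rc_11_1 lc_c_rc_11_1 lc_c_rc_13_0 lc_c_rc_14_2 lc_c_rc_11_1 lc_c_Cert_tree lc_c_rc_13_2 lc_c_Cert_tree lc_c_rc_11_1 lc_c_rc_7_5 lc_c_rc_11_1 lc_c_rc_13_2 lc_c_rc_11_1 lc_c_rc_24_8 lc_c_rc_11_1 lc_c_rc_14_2 lc_c_Cert_tree lc_c_rc_14_2 lc_c_rc_13_2 lc_c_rc_26_2 lc_c_rc_11_1 lc_c_rc_13_2 lc_c_Cert_tree lc_c_rc_13_2 lc_c_rc_26_4 lc_c_rc_2_3 lc_c_rc_14_2 lc_c_rc_13_2 lc_c_rc_23_0 lc_c_Cert_tree lc_c_rc_14_2 lc_c_rc_26_2) (@D3.rec (fun _ => (Cert rels S Gen.c)) lc_c_rc_11_1 lc_c_rc_11_1 lc_c_rc_14_2 lc_c_rc_26_2 lc_c_rc_14_2 lc_c_Cert_tree lc_c_rc_14_2 lc_c_rc_11_1 lc_c_rc_13_2 lc_c_rc_7_3 lc_c_rc_13_2 lc_c_rc_24_4 lc_c_rc_13_2 lc_c_rc_24_6 lc_c_rc_23_0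 lc_c_rc_13_2 lc_c_rc_11_1 lc_c_rc_11_1 lc_c_Cert_tree lc_c_rc_14_2 lc_c_rc_11_1 lc_c_Cert_tree lc_c_Cert_tree lc_c_rc_11_1 lc_c_rc_14_2 lc_c_rc_7_1 lc_c_rc_13_2 lc_c_Cert_tree lc_c_rc_26_8 lc_c_rc_2_3 lc_c_rc_7_3 lc_c_rc_7_1 lc_c_rc_13_2 lc_c_rc_13_2 lc_c_rc_11_1 lc_c_rc_2_3 lc_c_Cert_tree lc_c_rc_14_2 lc_c_rc_11_1 lc_c_rc_24_8 lc_c_rc_14_2 lc_c_rc_11_1 lc_c_rc_11_1 lc_c_rc_7_3 lc_c_rc_11_1 lc_c_rc_13_2 lc_c_rc_13_2 lc_c_Cert_tree lc_c_rc_14_2 lc_c_rc_24_8 lc_c_rc_23_0 lc_c_rc_11_1 lc_c_rc_13_2 lc_c_rc_13_2 lc_c_rc_22_9 lc_c_rc_14_2 lc_c_rc_22_3 lc_c_rc_13_2 lc_c_rc_26_4 lc_c_rc_13_2 lc_c_Cert_tree lc_c_Cert_tree) (@D3.rec (fun _ => (Cert rels S Gen.c)) lc_c_Cert_tree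 lc_c_rc_14_2 lc_c_rc_13_2 lc_c_rc_7_1 lc_c_Cert_tree lc_c_rc_24_6 lc_c_rc_7_5 lc_c_Cert_tree lc_c_Cert_tree lc_c_Cert_tree lc_c_rc_11_1 lc_c_rc_14_2 lc_c_rc_2_3 lc_c_rc_11_1 lc_c_Cert_tree lc_c_rc_7_5 lc_c_Cert_tree lc_c_rc_13_2 lc_c_rc_24_6 lc_c_rc_11_1 lc_c_Cert_tree lc_c_rc_13_2 lc_c_rc_24_2 lc_c_rc_24_8 lc_c_rc_7_3 lc_c_rc_13_0 lc_c_rc_7_3 lc_c_rc_11_1 lc_c_rc_22_7 lc_c_Cert_tree lc_c_rc_22_7 lc_c_rc_2_3 lc_c_rc_26_4 lc_c_rc_24_8 lc_c_rc_26_8 lc_c_rc_26_2 lc_c_rc_22_5 lc_c_rc_13_2 lc_c_rc_24_8 lc_c_rc_24_8 lc_c_rc_11_1 lc_c_Cert_tree lc_c_rc_11_1 lc_c_rc_26_4 lc_c_rc_11_1 lc_c_rc_13_2 lc_c_rc_11_1 lc_c_rc_13_2 lc_c_rc_11_1 lc_c_rc_11_1 lc_c_rc_7_3 lc_c_rc_24_2 lc_c_rc_13_2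 lc_c_rc_14_2 lc_c_rc_13_2 lc_c_rc_24_2 lc_c_rc_26_2 lc_c_rc_11_1 lc_c_rc_13_2 lc_c_rc_22_5 lc_c_rc_11_1 lc_c_rc_14_0) (@D3.rec (fun _ => (Cert rels S Gen.c)) lc_c_rc_24_2 lc_c_Cert_tree lc_c_rc_11_1 lc_c_rc_14_0 lc_c_rc_7_3 lc_c_rc_22_3 lc_c_rc_7_3 lc_c_rc_11_1 lc_c_rc_11_1 lc_c_rc_22_3 lc_c_rc_14_2 lc_c_rc_11_1 lc_c_rc_13_2 lc_c_rc_11_1 lc_c_rc_24_4 lc_c_Cert_tree lc_c_Cert_tree lc_c_rc_2_3 lc_c_Cert_tree lc_c_rc_13_2 lc_c_rc_7_3 lc_c_rc_26_8 lc_c_rc_7_3 lc_c_rc_24_8 lc_c_rc_11_1 lc_c_rc_13_2 lc_c_rc_7_3 lc_c_rc_13_2 lc_c_rc_13_2 lc_c_rc_7_5 lc_c_rc_23_5 lc_c_rc_13_2 lc_c_rc_7_5 lc_c_rc_23_5 lc_c_rc_13_2 lc_c_Cert_tree lc_c_Cert_tree lc_c_rc_2_3 lc_c_rc_2_3 lc_c_rc_11_1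 lc_c_rc_11_1 lc_c_rc_13_2 lc_c_rc_7_3 lc_c_rc_11_1 lc_c_rc_23_5 lc_c_rc_13_2 lc_c_rc_22_9 lc_c_rc_11_1 lc_c_rc_2_3 lc_c_Cert_tree lc_c_rc_24_2 lc_c_rc_13_2 lc_c_rc_11_1 lc_c_rc_23_0 lc_c_rc_7_1 lc_c_rc_24_8 lc_c_rc_7_3 lc_c_rc_24_2 lc_c_rc_13_2 lc_c_rc_7_3 lc_c_rc_23_5 lc_c_rc_13_2) (@D3.rec (fun _ => (Cert rels S Gen.c)) lc_c_Cert_tree lc_c_rc_14_2 lc_c_rc_7_5 lc_c_rc_23_5 lc_c_rc_13_2 lc_c_rc_7_3 lc_c_rc_23_5 lc_c_rc_13_2 lc_c_Cert_tree lc_c_Cert_tree lc_c_rc_2_3 lc_c_Cert_tree lc_c_rc_14_2 lc_c_rc_24_2 lc_c_rc_24_2 lc_c_rc_13_2 lc_c_rc_13_2 lc_c_rc_11_1 lc_c_rc_13_2 lc_c_rc_13_2 lc_c_rc_11_1 lc_c_rc_7_3 lc_c_rc_24_8 lc_c_rc_13_2 lc_c_rc_24_8 lc_c_rc_11_1 lc_c_rc_14_2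 lc_c_rc_7_3 lc_c_rc_13_2 lc_c_rc_14_2 lc_c_rc_7_3 lc_c_rc_23_5 lc_c_rc_13_2 lc_c_Cert_tree lc_c_Cert_tree lc_c_rc_14_2 lc_c_rc_7_3 lc_c_rc_23_5 lc_c_rc_13_2 lc_c_rc_7_5 lc_c_rc_11_1 lc_c_rc_13_2 lc_c_rc_7_3 lc_c_rc_23_0 lc_c_rc_13_2 lc_c_Cert_tree lc_c_Cert_tree lc_c_rc_2_3 lc_c_Cert_tree lc_c_rc_14_2 lc_c_rc_2_3 lc_c_rc_13_2 lc_c_rc_11_1 lc_c_rc_24_2 lc_c_rc_14_2 lc_c_rc_11_1 lc_c_rc_13_2 lc_c_rc_13_2 lc_c_rc_13_2 lc_c_rc_26_4 lc_c_rc_26_2 lc_c_rc_13_2) (@D3.rec (fun _ => (Cert rels S Gen.c)) lc_c_rc_26_4 lc_c_rc_7_3 lc_c_rc_13_2 lc_c_rc_13_2 lc_c_rc_26_10 lc_c_rc_7_1 lc_c_rc_2_3 lc_c_Cert_tree lc_c_rc_13_2 lc_c_rc_2_1 lc_c_rc_14_2 lc_c_rc_11_1 lc_c_rc_13_2 lc_c_Cert_tree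 lc_c_Cert_tree lc_c_rc_11_1 lc_c_rc_11_1 lc_c_rc_11_1 lc_c_rc_7_1 lc_c_rc_23_5 lc_c_rc_26_2 lc_c_rc_26_10 lc_c_rc_22_7 lc_c_rc_11_1 lc_c_rc_13_2 lc_c_Cert_tree lc_c_Cert_tree lc_c_rc_2_3 lc_c_rc_14_2 lc_c_rc_13_2 lc_c_rc_24_2 lc_c_rc_23_0 lc_c_rc_13_2 lc_c_rc_11_1 lc_c_rc_23_0 lc_c_Cert_tree lc_c_rc_14_2 lc_c_rc_11_1 lc_c_Cert_tree lc_c_rc_11_1 lc_c_Cert_tree lc_c_rc_13_2 lc_c_rc_26_10 lc_c_rc_7_5 lc_c_rc_26_2 lc_c_Cert_tree lc_c_rc_7_1 lc_c_rc_13_2 lc_c_Cert_tree lc_c_rc_2_3 lc_c_rc_13_2 lc_c_rc_24_6 lc_c_rc_13_0 lc_c_rc_13_2 lc_c_rc_14_2 lc_c_rc_11_1 lc_c_rc_13_2 lc_c_rc_11_1 lc_c_Cert_tree lc_c_Cert_tree lc_c_Cert_tree lc_c_rc_11_1) (@D3.rec (fun _ => (Cert rels S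 Gen.c)) lc_c_Cert_tree lc_c_rc_13_2 lc_c_rc_24_2 lc_c_rc_11_1 lc_c_rc_13_2 lc_c_Cert_tree lc_c_rc_14_2 lc_c_Cert_tree lc_c_Cert_tree lc_c_rc_2_3 lc_c_Cert_tree lc_c_rc_13_2 lc_c_rc_13_2 lc_c_rc_22_3 lc_c_rc_14_2 lc_c_rc_14_2 lc_c_rc_2_1 lc_c_rc_14_0 lc_c_rc_11_1 lc_c_Cert_tree lc_c_rc_13_2 lc_c_rc_22_3 lc_c_rc_24_4 lc_c_rc_11_1 lc_c_Cert_tree lc_c_rc_13_2 lc_c_rc_22_3 lc_c_Cert_tree lc_c_Cert_tree lc_c_rc_11_1 lc_c_rc_13_2 lc_c_rc_14_2 lc_c_rc_13_2 lc_c_Cert_tree lc_c_rc_13_2 lc_c_Cert_tree lc_c_rc_13_2 lc_c_rc_7_3 lc_c_rc_13_2 lc_c_Cert_tree lc_c_Cert_tree lc_c_rc_14_2 lc_c_rc_13_2 lc_c_rc_11_1 lc_c_rc_11_1 lc_c_Cert_tree lc_c_rc_26_4 lc_c_rc_11_1 lc_c_Cert_tree lc_c_rc_13_2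 lc_c_Cert_tree lc_c_rc_7_3 lc_c_rc_2_1 lc_c_rc_13_2 lc_c_Cert_tree lc_c_Cert_tree lc_c_rc_14_2 lc_c_rc_11_1 lc_c_rc_7_1 lc_c_rc_23_5 lc_c_rc_13_2 lc_c_Cert_tree) (@D3.rec (fun _ => (Cert rels S Gen.c)) lc_c_rc_14_2 lc_c_rc_13_2 lc_c_rc_24_2 lc_c_rc_13_2 lc_c_rc_7_5 lc_c_rc_7_5 lc_c_rc_13_2 lc_c_Cert_tree lc_c_rc_11_1 lc_c_rc_2_3 lc_c_Cert_tree lc_c_rc_13_2 lc_c_rc_13_2 lc_c_rc_11_1 lc_c_rc_11_1 lc_c_Cert_tree lc_c_rc_14_2 lc_c_rc_26_2 lc_c_rc_11_1 lc_c_rc_26_4 lc_c_rc_11_1 lc_c_rc_13_2 lc_c_rc_7_1 lc_c_rc_24_6 lc_c_rc_13_2 lc_c_Cert_tree lc_c_Cert_tree lc_c_Cert_tree lc_c_Cert_tree lc_c_rc_2_3 lc_c_rc_13_0 lc_c_rc_12_0 lc_c_rc_13_2 lc_c_rc_23_0 lc_c_rc_11_1 lc_c_rc_13_2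 lc_c_rc_14_2 lc_c_Cert_tree lc_c_rc_11_1 lc_c_rc_11_1 lc_c_Cert_tree lc_c_Cert_tree lc_c_rc_2_3 lc_c_rc_7_3 lc_c_rc_13_2 lc_c_rc_23_0 lc_c_rc_13_0 lc_c_rc_23_5 lc_c_rc_24_8 lc_c_rc_11_1 lc_c_rc_13_0 lc_c_rc_22_7 lc_c_rc_13_2 lc_c_rc_13_0 lc_c_rc_14_2 lc_c_Cert_tree lc_c_Cert_tree lc_c_rc_22_3 lc_c_rc_11_1 lc_c_Cert_tree lc_c_rc_13_2 lc_c_rc_26_4) (@D3.rec (fun _ => (Cert rels S Gen.c)) lc_c_rc_11_1 lc_c_rc_14_2 lc_c_rc_13_2 lc_c_Cert_tree lc_c_rc_11_1 lc_c_rc_23_0 lc_c_rc_13_2 lc_c_rc_13_2 lc_c_rc_24_4 lc_c_rc_2_3 lc_c_rc_13_2 lc_c_Cert_tree lc_c_Cert_tree lc_c_Cert_tree lc_c_Cert_tree lc_c_rc_14_2 lc_c_rc_14_2 lc_c_Cert_tree lc_c_rc_13_2 lc_c_rc_11_1 lc_c_rc_7_1 lc_c_rc_7_3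 lc_c_rc_13_2 lc_c_rc_7_3 lc_c_rc_2_1 lc_c_rc_13_2 lc_c_rc_7_3 lc_c_rc_12_12 lc_c_rc_13_2 lc_c_rc_13_0 lc_c_rc_23_5 lc_c_rc_13_2 lc_c_rc_7_3 lc_c_rc_12_2 lc_c_rc_13_2 lc_c_Cert_tree lc_c_rc_14_2 lc_c_rc_7_5 lc_c_rc_23_5 lc_c_rc_13_2 lc_c_rc_7_5 lc_c_rc_11_1 lc_c_rc_13_2 lc_c_Cert_tree lc_c_rc_11_1 lc_c_rc_2_3 lc_c_Cert_tree lc_c_rc_13_2 lc_c_rc_13_2 lc_c_rc_11_1 lc_c_Cert_tree lc_c_rc_14_2 lc_c_rc_26_2 lc_c_rc_11_1 lc_c_Cert_tree lc_c_Cert_tree lc_c_rc_11_1 lc_c_rc_24_4 lc_c_rc_26_4 lc_c_rc_11_1 lc_c_rc_25_5 lc_c_rc_13_2) (@D3.rec (fun _ => (Cert rels S Gen.c)) lc_c_Cert_tree lc_c_rc_11_1 lc_c_rc_11_1 lc_c_rc_13_2 lc_c_Cert_tree lc_c_rc_13_2 lc_c_rc_25_5 lc_c_rc_22_9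 lc_c_rc_11_1 lc_c_rc_13_2 lc_c_Cert_tree lc_c_rc_26_2 lc_c_rc_14_2 lc_c_Cert_tree lc_c_Cert_tree lc_c_rc_24_8 lc_c_rc_14_2 lc_c_Cert_tree lc_c_rc_2_3 lc_c_rc_7_3 lc_c_rc_22_5 lc_c_Cert_tree lc_c_rc_7_5 lc_c_rc_13_2 lc_c_rc_24_6 lc_c_rc_11_1 lc_c_rc_2_3 lc_c_Cert_tree lc_c_rc_13_2 lc_c_rc_24_2 lc_c_rc_13_2 lc_c_rc_11_1 lc_c_rc_23_0 lc_c_Cert_tree lc_c_rc_14_2 lc_c_rc_26_4 lc_c_rc_11_1 lc_c_Cert_tree lc_c_rc_13_2 lc_c_Cert_tree lc_c_rc_11_1 lc_c_Cert_tree lc_c_rc_13_2 lc_c_rc_26_4 lc_c_rc_11_1 lc_c_rc_13_2 lc_c_Cert_tree lc_c_rc_11_1 lc_c_rc_23_5 lc_c_rc_13_2 lc_c_rc_24_4 lc_c_Cert_tree lc_c_Cert_tree lc_c_Cert_tree lc_c_Cert_tree lc_c_rc_14_2 lc_c_rc_7_3 lc_c_rc_13_2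 lc_c_rc_13_0 lc_c_rc_13_2 lc_c_rc_23_5 lc_c_Cert_tree) (@D3.rec (fun _ => (Cert rels S Gen.c)) lc_c_rc_24_8 lc_c_rc_23_0 lc_c_rc_14_2 lc_c_rc_11_1 lc_c_rc_11_1 lc_c_rc_11_1 lc_c_Cert_tree lc_c_rc_7_1 lc_c_rc_14_2 lc_c_rc_11_1 lc_c_rc_22_5 lc_c_rc_11_1 lc_c_rc_13_2 lc_c_rc_7_3 lc_c_rc_22_5 lc_c_rc_13_2 lc_c_Cert_tree lc_c_rc_14_2 lc_c_rc_7_5 lc_c_rc_13_2 lc_c_rc_11_1 lc_c_rc_11_1 lc_c_rc_2_3 lc_c_Cert_tree lc_c_rc_13_2 lc_c_rc_11_1 lc_c_rc_23_0 lc_c_rc_13_2 lc_c_rc_11_1 lc_c_rc_13_2 lc_c_Cert_tree lc_c_rc_14_2 lc_c_rc_26_8 lc_c_rc_11_1 lc_c_rc_13_2 lc_c_rc_26_4 lc_c_rc_11_1 lc_c_rc_26_4 lc_c_rc_11_1 lc_c_rc_26_8 lc_c_rc_11_1 lc_c_rc_13_2 lc_c_Cert_tree lc_c_rc_13_2 lc_c_rc_24_2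 lc_c_Cert_tree lc_c_rc_11_1 lc_c_rc_2_1 lc_c_Cert_tree lc_c_Cert_tree lc_c_rc_7_1 lc_c_rc_13_2 lc_c_rc_7_1 lc_c_rc_7_3 lc_c_rc_13_2 lc_c_rc_11_1 lc_c_rc_7_1 lc_c_Cert_tree lc_c_rc_11_1 lc_c_rc_24_2 lc_c_rc_24_6 lc_c_rc_11_1) (@D3.rec (fun _ => (Cert rels S Gen.c)) lc_c_rc_22_5 lc_c_rc_23_0 lc_c_rc_26_4 lc_c_rc_23_0 lc_c_Cert_tree lc_c_rc_13_2 lc_c_rc_7_3 lc_c_rc_13_2 lc_c_Cert_tree lc_c_Cert_tree lc_c_rc_22_5 lc_c_rc_2_3 lc_c_rc_14_2 lc_c_rc_11_1 lc_c_rc_22_9 lc_c_rc_26_4 lc_c_rc_11_1 lc_c_Cert_tree lc_c_rc_26_8 lc_c_rc_11_1 lc_c_rc_13_2 lc_c_rc_11_1 lc_c_rc_13_2 lc_c_rc_11_1 lc_c_rc_11_1 lc_c_Cert_tree lc_c_rc_13_2 lc_c_rc_11_1 lc_c_Cert_tree lc_c_rc_2_1 lc_c_Cert_tree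 lc_c_rc_13_0 lc_c_rc_13_0 lc_c_rc_14_2 lc_c_rc_13_2 lc_c_rc_14_2 lc_c_rc_11_1 lc_c_rc_26_10 lc_c_rc_13_2 lc_c_rc_7_5 lc_c_rc_14_2 lc_c_rc_11_1 lc_c_rc_7_5 lc_c_rc_13_2 lc_c_rc_26_2 lc_c_rc_11_1 lc_c_rc_11_1 lc_c_rc_7_1 lc_c_Cert_tree lc_c_rc_13_2 lc_c_rc_14_2 lc_c_rc_11_1 lc_c_rc_13_2 lc_c_rc_24_8 lc_c_rc_24_2 lc_c_rc_13_2 lc_c_rc_14_2 lc_c_rc_13_2 lc_c_rc_26_10 lc_c_Cert_tree lc_c_rc_11_1 lc_c_Cert_tree)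
def ce_c_10 : D2 → D3 → (Cert rels S Gen.c) := @D2.rec (fun _ => D3 → (Cert rels S Gen.c)) (@D3.rec (fun _ => (Cert rels S Gen.c)) lc_c_rc_13_2 lc_c_rc_7_1 lc_c_rc_7_5 lc_c_rc_13_2 lc_c_rc_13_2 lc_c_rc_23_0 lc_c_Cert_tree lc_c_rc_14_2 lc_c_rc_11_1 lc_c_rc_23_5 lc_c_rc_26_4 lc_c_rc_11_1 lc_c_rc_14_0 lc_c_rc_11_1 lc_c_rc_13_2 lc_c_rc_26_10 lc_c_rc_11_1 lc_c_rc_24_4 lc_c_rc_24_4 lc_c_rc_13_2 lc_c_Cert_tree lc_c_Cert_tree lc_c_rc_7_3 lc_c_rc_11_1 lc_c_rc_11_1 lc_c_rc_14_2 lc_c_rc_11_1 lc_c_rc_13_2 lc_c_Cert_tree lc_c_Cert_tree lc_c_rc_14_2 lc_c_rc_23_5 lc_c_rc_13_2 lc_c_rc_13_2 lc_c_rc_26_8 lc_c_rc_26_8 lc_c_Cert_tree lc_c_rc_11_1 lc_c_Cert_tree lc_c_rc_7_1 lc_c_rc_11_1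 lc_c_rc_11_1 lc_c_rc_13_2 lc_c_rc_11_1 lc_c_rc_7_3 lc_c_rc_13_2 lc_c_Cert_tree lc_c_Cert_tree lc_c_rc_14_2 lc_c_rc_7_3 lc_c_rc_22_7 lc_c_rc_13_2 lc_c_Cert_tree lc_c_Cert_tree lc_c_rc_14_2 lc_c_rc_13_2 lc_c_rc_11_1 lc_c_rc_23_5 lc_c_rc_13_2 lc_c_rc_7_5 lc_c_rc_23_5 lc_c_rc_13_2) (@D3.rec (fun _ => (Cert rels S Gen.c)) lc_c_Cert_tree lc_c_rc_12_14 lc_c_rc_7_5 lc_c_rc_11_1 lc_c_rc_2_3 lc_c_Cert_tree lc_c_rc_13_2 lc_c_rc_13_2 lc_c_rc_24_6 lc_c_rc_11_1 lc_c_Cert_tree lc_c_rc_14_2 lc_c_rc_11_1 lc_c_rc_24_2 lc_c_rc_11_1 lc_c_rc_13_2 lc_c_rc_13_2 lc_c_rc_14_0 lc_c_rc_26_8 lc_c_rc_13_2 lc_c_Cert_tree lc_c_rc_13_2 lc_c_rc_26_10 lc_c_rc_13_0 lc_c_rc_2_1 lc_c_Cert_tree lc_c_rc_13_2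 lc_c_rc_26_2 lc_c_Cert_tree lc_c_rc_13_2 lc_c_Cert_tree lc_c_rc_11_1 lc_c_rc_13_2 lc_c_rc_7_3 lc_c_rc_13_2 lc_c_Cert_tree lc_c_Cert_tree lc_c_rc_14_2 lc_c_rc_13_2 lc_c_rc_11_1 lc_c_rc_23_5 lc_c_rc_13_2 lc_c_Cert_tree lc_c_Cert_tree lc_c_rc_14_2 lc_c_rc_7_3 lc_c_rc_23_5 lc_c_rc_13_2 lc_c_rc_7_3 lc_c_rc_11_1 lc_c_rc_13_2 lc_c_rc_7_5 lc_c_rc_24_2 lc_c_rc_11_1 lc_c_rc_24_4 lc_c_rc_11_1 lc_c_rc_2_3 lc_c_rc_13_2 lc_c_rc_24_4 lc_c_rc_13_2 lc_c_rc_13_2 lc_c_rc_11_1) (@D3.rec (fun _ => (Cert rels S Gen.c)) lc_c_Cert_tree lc_c_rc_14_2 lc_c_Cert_tree lc_c_rc_11_1 lc_c_rc_11_1 lc_c_rc_22_7 lc_c_rc_7_1 lc_c_rc_23_5 lc_c_rc_13_2 lc_c_Cert_tree lc_c_rc_13_2 lc_c_rc_14_2 lc_c_Cert_tree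 lc_c_Cert_tree lc_c_rc_2_3 lc_c_rc_13_2 lc_c_rc_11_1 lc_c_rc_11_1 lc_c_rc_14_2 lc_c_rc_7_3 lc_c_rc_11_1 lc_c_rc_7_1 lc_c_Cert_tree lc_c_rc_2_3 lc_c_rc_26_4 lc_c_rc_11_1 lc_c_rc_13_2 lc_c_rc_12_2 lc_c_rc_11_1 lc_c_rc_13_2 lc_c_rc_13_2 lc_c_Cert_tree lc_c_Cert_tree lc_c_rc_13_2 lc_c_rc_14_2 lc_c_rc_11_1 lc_c_rc_7_1 lc_c_rc_11_1 lc_c_rc_13_2 lc_c_rc_7_1 lc_c_rc_13_2 lc_c_rc_14_0 lc_c_rc_11_1 lc_c_rc_11_1 lc_c_rc_12_2 lc_c_rc_14_2 lc_c_rc_14_0 lc_c_rc_14_2 lc_c_rc_11_1 lc_c_rc_23_0 lc_c_rc_25_17 lc_c_Cert_tree lc_c_rc_13_2 lc_c_rc_11_1 lc_c_rc_13_2 lc_c_rc_11_1 lc_c_Cert_tree lc_c_rc_13_2 lc_c_Cert_tree lc_c_Cert_tree lc_c_rc_14_2 lc_c_Cert_tree) (@D3.rec (fun _ => (Cert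 rels S Gen.c)) lc_c_rc_11_1 lc_c_rc_22_5 lc_c_rc_13_2 lc_c_Cert_tree lc_c_rc_11_1 lc_c_rc_22_5 lc_c_rc_11_1 lc_c_rc_13_2 lc_c_rc_11_1 lc_c_rc_11_1 lc_c_rc_13_2 lc_c_rc_26_2 lc_c_rc_13_2 lc_c_rc_7_5 lc_c_rc_23_5 lc_c_rc_7_3 lc_c_rc_24_2 lc_c_rc_13_2 lc_c_Cert_tree lc_c_rc_11_1 lc_c_rc_2_3 lc_c_Cert_tree lc_c_rc_13_2 lc_c_rc_13_2 lc_c_rc_11_1 lc_c_Cert_tree lc_c_rc_14_2 lc_c_rc_26_2 lc_c_rc_11_1 lc_c_Cert_tree lc_c_Cert_tree lc_c_rc_11_1 lc_c_rc_24_4 lc_c_rc_7_3 lc_c_rc_11_1 lc_c_rc_26_4 lc_c_rc_11_1 lc_c_rc_26_2 lc_c_rc_26_4 lc_c_rc_26_4 lc_c_rc_11_1 lc_c_rc_13_0 lc_c_rc_22_5 lc_c_rc_13_2 lc_c_Cert_tree lc_c_rc_14_2 lc_c_Cert_tree lc_c_Cert_tree lc_c_rc_11_1 lc_c_Cert_tree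 lc_c_Cert_tree lc_c_rc_7_3 lc_c_Cert_tree lc_c_rc_13_2 lc_c_rc_13_2 lc_c_rc_26_8 lc_c_rc_14_0 lc_c_rc_26_2 lc_c_rc_11_1 lc_c_rc_13_2 lc_c_rc_13_2 lc_c_rc_11_1) (@D3.rec (fun _ => (Cert rels S Gen.c)) lc_c_rc_26_8 lc_c_rc_26_10 lc_c_rc_13_2 lc_c_rc_13_2 lc_c_rc_13_2 lc_c_rc_14_2 lc_c_rc_13_2 lc_c_Cert_tree lc_c_Cert_tree lc_c_rc_11_1 lc_c_rc_13_2 lc_c_rc_11_1 lc_c_rc_13_2 lc_c_rc_11_1 lc_c_rc_13_2 lc_c_rc_24_2 lc_c_rc_11_1 lc_c_rc_26_4 lc_c_rc_13_2 lc_c_rc_2_3 lc_c_rc_14_2 lc_c_rc_11_1 lc_c_Cert_tree lc_c_rc_13_2 lc_c_Cert_tree lc_c_Cert_tree lc_c_rc_14_2 lc_c_rc_11_1 lc_c_rc_14_2 lc_c_rc_2_3 lc_c_rc_26_8 lc_c_rc_11_1 lc_c_rc_26_10 lc_c_rc_14_2 lc_c_rc_26_10 lc_c_Cert_tree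 lc_c_rc_12_14 lc_c_rc_26_10 lc_c_rc_11_1 lc_c_Cert_tree lc_c_rc_24_2 lc_c_rc_13_0 lc_c_rc_11_1 lc_c_rc_26_4 lc_c_rc_26_4 lc_c_rc_11_1 lc_c_rc_11_1 lc_c_rc_13_2 lc_c_rc_24_6 lc_c_rc_13_2 lc_c_rc_11_1 lc_c_Cert_tree lc_c_rc_14_2 lc_c_rc_2_1 lc_c_rc_7_3 lc_c_rc_11_1 lc_c_rc_14_0 lc_c_rc_14_2 lc_c_rc_11_1 lc_c_rc_24_8 lc_c_rc_24_8 lc_c_rc_26_8) (@D3.rec (fun _ => (Cert rels S Gen.c)) lc_c_Cert_tree lc_c_rc_11_1 lc_c_rc_14_0 lc_c_Cert_tree lc_c_rc_11_1 lc_c_Cert_tree lc_c_Cert_tree lc_c_rc_11_1 lc_c_rc_13_2 lc_c_rc_7_3 lc_c_rc_11_1 lc_c_rc_24_6 lc_c_Cert_tree lc_c_rc_7_5 lc_c_rc_11_1 lc_c_rc_11_1 lc_c_Cert_tree lc_c_rc_13_2 lc_c_rc_13_2 lc_c_rc_14_2 lc_c_rc_23_5 lc_c_rc_11_1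 lc_c_rc_13_2 lc_c_rc_11_1 lc_c_rc_2_3 lc_c_Cert_tree lc_c_rc_11_1 lc_c_rc_24_6 lc_c_rc_11_1 lc_c_Cert_tree lc_c_rc_13_0 lc_c_rc_11_1 lc_c_rc_13_2 lc_c_rc_23_0 lc_c_rc_24_4 lc_c_rc_7_3 lc_c_rc_22_3 lc_c_rc_13_2 lc_c_rc_14_2 lc_c_Cert_tree lc_c_Cert_tree lc_c_rc_14_2 lc_c_rc_13_2 lc_c_rc_11_1 lc_c_Cert_tree lc_c_rc_11_1 lc_c_rc_26_2 lc_c_rc_11_1 lc_c_rc_13_2 lc_c_rc_13_0 lc_c_rc_13_2 lc_c_Cert_tree lc_c_rc_26_8 lc_c_rc_11_1 lc_c_rc_13_2 lc_c_rc_11_1 lc_c_rc_11_1 lc_c_rc_7_3 lc_c_rc_2_1 lc_c_rc_13_2 lc_c_rc_11_1 lc_c_rc_26_10) (@D3.rec (fun _ => (Cert rels S Gen.c)) lc_c_rc_22_3 lc_c_rc_24_2 lc_c_rc_11_1 lc_c_rc_13_2 lc_c_rc_11_1 lc_c_rc_11_1 lc_c_rc_7_1 lc_c_rc_22_3 lc_c_rc_13_2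 lc_c_Cert_tree lc_c_Cert_tree lc_c_rc_14_2 lc_c_rc_11_1 lc_c_rc_13_2 lc_c_rc_22_7 lc_c_rc_13_2 lc_c_rc_14_2 lc_c_rc_24_2 lc_c_rc_7_3 lc_c_rc_11_1 lc_c_rc_22_3 lc_c_rc_13_2 lc_c_rc_2_3 lc_c_rc_22_7 lc_c_rc_13_2 lc_c_rc_11_1 lc_c_rc_11_1 lc_c_rc_2_3 lc_c_Cert_tree lc_c_rc_12_2 lc_c_rc_22_7 lc_c_rc_11_1 lc_c_rc_13_2 lc_c_rc_22_3 lc_c_rc_24_6 lc_c_rc_11_1 lc_c_rc_22_7 lc_c_rc_14_2 lc_c_rc_13_2 lc_c_Cert_tree lc_c_rc_2_3 lc_c_rc_13_2 lc_c_rc_13_2 lc_c_rc_24_2 lc_c_rc_26_2 lc_c_rc_13_2 lc_c_Cert_tree lc_c_Cert_tree lc_c_rc_14_2 lc_c_rc_14_0 lc_c_rc_11_1 lc_c_rc_13_2 lc_c_rc_23_5 lc_c_rc_11_1 lc_c_rc_13_2 lc_c_rc_11_1 lc_c_Cert_tree lc_c_rc_13_2 lc_c_rc_23_0 lc_c_rc_24_8 lc_c_rc_13_2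 lc_c_rc_13_2) (@D3.rec (fun _ => (Cert rels S Gen.c)) lc_c_rc_13_2 lc_c_rc_26_4 lc_c_rc_11_1 lc_c_rc_13_2 lc_c_Cert_tree lc_c_rc_11_1 lc_c_rc_13_2 lc_c_rc_2_3 lc_c_rc_26_10 lc_c_rc_7_5 lc_c_Cert_tree lc_c_rc_23_0 lc_c_rc_14_2 lc_c_rc_13_2 lc_c_rc_22_9 lc_c_rc_2_3 lc_c_rc_11_1 lc_c_rc_14_2 lc_c_rc_13_2 lc_c_rc_13_2 lc_c_rc_13_2 lc_c_rc_7_3 lc_c_rc_12_8 lc_c_rc_13_2 lc_c_rc_26_8 lc_c_rc_26_10 lc_c_rc_24_6 lc_c_rc_7_3 lc_c_rc_23_5 lc_c_rc_13_2 lc_c_Cert_tree lc_c_Cert_tree lc_c_rc_14_2 lc_c_rc_7_3 lc_c_rc_23_5 lc_c_rc_7_3 lc_c_rc_23_5 lc_c_rc_13_2 lc_c_rc_11_1 lc_c_rc_24_2 lc_c_rc_13_2 lc_c_Cert_tree lc_c_Cert_tree lc_c_rc_23_0 lc_c_Cert_tree lc_c_rc_7_1 lc_c_rc_13_2 lc_c_rc_11_1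 lc_c_rc_11_1 lc_c_rc_23_5 lc_c_rc_14_2 lc_c_rc_11_1 lc_c_rc_11_1 lc_c_rc_13_2 lc_c_rc_13_2 lc_c_rc_13_2 lc_c_rc_26_10 lc_c_rc_13_2 lc_c_rc_14_2 lc_c_rc_7_1 lc_c_rc_26_4 lc_c_rc_13_2) (@D3.rec (fun _ => (Cert rels S Gen.c)) lc_c_rc_13_2 lc_c_rc_13_2 lc_c_rc_11_1 lc_c_rc_13_0 lc_c_rc_11_1 lc_c_rc_14_2 lc_c_rc_11_1 lc_c_rc_13_2 lc_c_rc_11_1 lc_c_rc_26_4 lc_c_rc_24_8 lc_c_rc_11_1 lc_c_rc_14_2 lc_c_rc_11_1 lc_c_rc_7_1 lc_c_rc_11_1 lc_c_rc_13_2 lc_c_rc_26_4 lc_c_rc_23_0 lc_c_rc_14_2 lc_c_Cert_tree lc_c_Cert_tree lc_c_rc_2_3 lc_c_Cert_tree lc_c_rc_7_1 lc_c_rc_24_2 lc_c_rc_11_1 lc_c_rc_13_2 lc_c_rc_11_1 lc_c_rc_23_0 lc_c_Cert_tree lc_c_rc_14_2 lc_c_rc_11_1 lc_c_Cert_tree lc_c_rc_11_1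 lc_c_rc_13_2 lc_c_rc_13_2 lc_c_rc_26_2 lc_c_rc_14_2 lc_c_rc_11_1 lc_c_rc_7_1 lc_c_rc_2_3 lc_c_Cert_tree lc_c_rc_13_2 lc_c_rc_13_2 lc_c_rc_13_0 lc_c_rc_14_2 lc_c_rc_11_1 lc_c_rc_13_2 lc_c_rc_11_1 lc_c_Cert_tree lc_c_Cert_tree lc_c_rc_2_3 lc_c_rc_13_2 lc_c_rc_24_2 lc_c_Cert_tree lc_c_rc_14_2 lc_c_Cert_tree lc_c_Cert_tree lc_c_rc_14_2 lc_c_Cert_tree lc_c_rc_7_1) (@D3.rec (fun _ => (Cert rels S Gen.c)) lc_c_rc_13_2 lc_c_rc_14_2 lc_c_rc_14_2 lc_c_rc_11_1 lc_c_rc_2_3 lc_c_rc_11_1 lc_c_Cert_tree lc_c_rc_13_2 lc_c_rc_14_2 lc_c_Cert_tree lc_c_rc_11_1 lc_c_Cert_tree lc_c_rc_13_2 lc_c_Cert_tree lc_c_Cert_tree lc_c_Cert_tree lc_c_rc_11_1 lc_c_rc_13_2 lc_c_rc_13_2 lc_c_Cert_tree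 lc_c_rc_13_2 lc_c_Cert_tree lc_c_rc_13_2 lc_c_rc_11_1 lc_c_rc_11_1 lc_c_rc_14_2 lc_c_rc_13_2 lc_c_rc_11_1 lc_c_Cert_tree lc_c_rc_26_4 lc_c_rc_11_1 lc_c_Cert_tree lc_c_rc_26_4 lc_c_rc_11_1 lc_c_Cert_tree lc_c_rc_13_2 lc_c_rc_13_2 lc_c_rc_7_3 lc_c_rc_22_5 lc_c_rc_13_2 lc_c_rc_7_3 lc_c_rc_22_5 lc_c_rc_13_2 lc_c_rc_14_2 lc_c_rc_11_1 lc_c_rc_24_6 lc_c_rc_11_1 lc_c_rc_22_7 lc_c_rc_7_3 lc_c_rc_11_1 lc_c_rc_13_2 lc_c_Cert_tree lc_c_Cert_tree lc_c_rc_14_2 lc_c_rc_11_1 lc_c_rc_11_1 lc_c_rc_7_1 lc_c_rc_23_5 lc_c_rc_13_2 lc_c_rc_7_5 lc_c_rc_13_2 lc_c_rc_7_5) (@D3.rec (fun _ => (Cert rels S Gen.c)) lc_c_rc_13_2 lc_c_Cert_tree lc_c_rc_11_1 lc_c_rc_2_3 lc_c_Cert_tree lc_c_rc_13_2 lc_c_rc_24_8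 lc_c_rc_11_1 lc_c_rc_13_2 lc_c_rc_11_1 lc_c_rc_23_0 lc_c_Cert_tree lc_c_rc_14_2 lc_c_rc_26_8 lc_c_rc_11_1 lc_c_rc_26_2 lc_c_rc_11_1 lc_c_rc_13_2 lc_c_rc_7_1 lc_c_rc_13_2 lc_c_Cert_tree lc_c_Cert_tree lc_c_Cert_tree lc_c_Cert_tree lc_c_rc_2_3 lc_c_rc_13_2 lc_c_rc_23_0 lc_c_rc_11_1 lc_c_rc_14_2 lc_c_Cert_tree lc_c_Cert_tree lc_c_Cert_tree lc_c_rc_2_3 lc_c_rc_26_4 lc_c_rc_11_1 lc_c_rc_13_2 lc_c_Cert_tree lc_c_rc_11_1 lc_c_rc_13_2 lc_c_Cert_tree lc_c_rc_22_3 lc_c_Cert_tree lc_c_rc_11_1 lc_c_rc_13_2 lc_c_Cert_tree lc_c_Cert_tree lc_c_rc_22_3 lc_c_rc_14_2 lc_c_rc_11_1 lc_c_rc_7_1 lc_c_rc_7_3 lc_c_rc_13_2 lc_c_rc_11_1 lc_c_rc_12_12 lc_c_rc_7_3 lc_c_rc_23_5 lc_c_rc_13_2 lc_c_Cert_tree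 lc_c_rc_14_2 lc_c_rc_7_5 lc_c_rc_13_2 lc_c_rc_13_2) (@D3.rec (fun _ => (Cert rels S Gen.c)) lc_c_Cert_tree lc_c_rc_11_1 lc_c_rc_2_3 lc_c_rc_26_4 lc_c_rc_13_2 lc_c_rc_13_2 lc_c_rc_24_6 lc_c_Cert_tree lc_c_rc_14_2 lc_c_rc_11_1 lc_c_Cert_tree lc_c_Cert_tree lc_c_rc_11_1 lc_c_rc_7_3 lc_c_rc_11_1 lc_c_rc_26_4 lc_c_rc_11_1 lc_c_rc_13_2 lc_c_Cert_tree lc_c_rc_11_1 lc_c_rc_13_2 lc_c_rc_2_3 lc_c_rc_13_2 lc_c_rc_7_3 lc_c_rc_13_2 lc_c_Cert_tree lc_c_rc_14_2 lc_c_rc_14_2 lc_c_rc_7_3 lc_c_rc_25_17 lc_c_Cert_tree lc_c_rc_7_3 lc_c_rc_7_3 lc_c_rc_12_14 lc_c_rc_13_2 lc_c_Cert_tree lc_c_Cert_tree lc_c_rc_14_2 lc_c_rc_7_5 lc_c_rc_13_2 lc_c_Cert_tree lc_c_rc_11_1 lc_c_rc_2_3 lc_c_Cert_tree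 lc_c_rc_13_2 lc_c_rc_13_2 lc_c_rc_11_1 lc_c_rc_23_0 lc_c_Cert_tree lc_c_rc_14_2 lc_c_rc_26_4 lc_c_rc_11_1 lc_c_Cert_tree lc_c_rc_14_2 lc_c_rc_11_1 lc_c_Cert_tree lc_c_rc_13_2 lc_c_rc_11_1 lc_c_rc_13_2 lc_c_rc_26_8 lc_c_rc_11_1 lc_c_rc_2_3) (@D3.rec (fun _ => (Cert rels S Gen.c)) lc_c_rc_13_2 lc_c_Cert_tree lc_c_Cert_tree lc_c_rc_7_3 lc_c_rc_14_2 lc_c_rc_23_5 lc_c_rc_14_2 lc_c_rc_23_0 lc_c_Cert_tree lc_c_rc_24_2 lc_c_rc_11_1 lc_c_rc_14_2 lc_c_rc_11_1 lc_c_Cert_tree lc_c_rc_7_1 lc_c_rc_14_2 lc_c_rc_11_1 lc_c_rc_7_3 lc_c_rc_23_0 lc_c_rc_13_2 lc_c_rc_13_2 lc_c_rc_11_1 lc_c_rc_24_6 lc_c_rc_2_3 lc_c_Cert_tree lc_c_rc_13_2 lc_c_rc_13_2 lc_c_rc_13_2 lc_c_rc_13_0 lc_c_Cert_tree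 lc_c_rc_14_2 lc_c_rc_26_2 lc_c_rc_11_1 lc_c_rc_13_2 lc_c_rc_26_8 lc_c_rc_11_1 lc_c_rc_26_4 lc_c_rc_26_8 lc_c_rc_11_1 lc_c_rc_13_2 lc_c_rc_23_0 lc_c_rc_22_3 lc_c_rc_13_2 lc_c_rc_23_0 lc_c_rc_22_3 lc_c_rc_22_7 lc_c_rc_7_3 lc_c_rc_7_3 lc_c_rc_13_2 lc_c_rc_11_1 lc_c_rc_7_1 lc_c_rc_26_4 lc_c_rc_11_1 lc_c_Cert_tree lc_c_rc_13_2 lc_c_Cert_tree lc_c_rc_11_1 lc_c_Cert_tree lc_c_rc_11_1 lc_c_rc_13_2 lc_c_rc_2_3 lc_c_rc_11_1) (@D3.rec (fun _ => (Cert rels S Gen.c)) lc_c_Cert_tree lc_c_rc_13_2 lc_c_rc_11_1 lc_c_Cert_tree lc_c_Cert_tree lc_c_Cert_tree lc_c_rc_14_2 lc_c_rc_22_5 lc_c_rc_22_3 lc_c_rc_11_1 lc_c_rc_26_4 lc_c_rc_11_1 lc_c_rc_26_8 lc_c_rc_11_1 lc_c_rc_13_2 lc_c_rc_11_1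 lc_c_rc_12_14 lc_c_rc_11_1 lc_c_rc_14_2 lc_c_rc_22_7 lc_c_rc_13_2 lc_c_rc_24_4 lc_c_rc_7_5 lc_c_rc_13_0 lc_c_rc_13_2 lc_c_Cert_tree lc_c_rc_13_2 lc_c_rc_26_8 lc_c_rc_11_1 lc_c_Cert_tree lc_c_rc_13_2 lc_c_rc_7_1 lc_c_rc_26_2 lc_c_rc_11_1 lc_c_rc_7_3 lc_c_rc_23_5 lc_c_rc_14_2 lc_c_rc_11_1 lc_c_rc_7_5 lc_c_rc_7_1 lc_c_rc_24_2 lc_c_rc_13_2 lc_c_rc_14_2 lc_c_rc_13_0 lc_c_rc_11_1 lc_c_rc_13_2 lc_c_rc_24_8 lc_c_rc_26_2 lc_c_rc_26_4 lc_c_rc_14_2 lc_c_rc_13_2 lc_c_rc_26_10 lc_c_rc_26_2 lc_c_rc_11_1 lc_c_Cert_tree lc_c_rc_13_2 lc_c_rc_7_1 lc_c_rc_24_2 lc_c_rc_13_2 lc_c_rc_11_1 lc_c_rc_13_2 lc_c_rc_13_0) (@D3.rec (fun _ => (Cert rels S Gen.c)) lc_c_Cert_tree lc_c_rc_14_2 lc_c_rc_11_1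 lc_c_rc_13_2 lc_c_rc_26_8 lc_c_rc_11_1 lc_c_rc_14_2 lc_c_rc_26_8 lc_c_rc_11_1 lc_c_rc_13_2 lc_c_rc_26_10 lc_c_rc_11_1 lc_c_Cert_tree lc_c_rc_13_2 lc_c_Cert_tree lc_c_rc_14_2 lc_c_Cert_tree lc_c_Cert_tree lc_c_rc_13_0 lc_c_rc_22_9 lc_c_rc_11_1 lc_c_rc_13_2 lc_c_rc_14_2 lc_c_rc_2_1 lc_c_rc_14_2 lc_c_rc_13_2 lc_c_Cert_tree lc_c_Cert_tree lc_c_rc_22_3 lc_c_rc_14_2 lc_c_rc_7_3 lc_c_rc_14_2 lc_c_rc_13_2 lc_c_rc_7_3 lc_c_rc_2_3 lc_c_rc_13_2 lc_c_Cert_tree lc_c_rc_11_1 lc_c_Cert_tree lc_c_rc_13_2 lc_c_rc_7_1 lc_c_rc_23_5 lc_c_rc_13_2 lc_c_rc_7_1 lc_c_rc_13_2 lc_c_rc_13_2 lc_c_rc_7_3 lc_c_rc_14_2 lc_c_rc_7_3 lc_c_rc_23_0 lc_c_Cert_tree lc_c_rc_23_5 lc_c_rc_13_2 lc_c_rc_2_3 lc_c_rc_11_1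 lc_c_rc_2_3 lc_c_Cert_tree lc_c_rc_13_2 lc_c_rc_13_2 lc_c_rc_23_0 lc_c_rc_11_1 lc_c_Cert_tree) (@D3.rec (fun _ => (Cert rels S Gen.c)) lc_c_rc_14_2 lc_c_rc_26_10 lc_c_rc_11_1 lc_c_rc_11_1 lc_c_rc_23_5 lc_c_rc_14_2 lc_c_rc_23_5 lc_c_rc_13_2 lc_c_Cert_tree lc_c_rc_11_1 lc_c_rc_26_4 lc_c_rc_11_1 lc_c_rc_12_0 lc_c_Cert_tree lc_c_rc_11_1 lc_c_rc_14_0 lc_c_rc_13_2 lc_c_Cert_tree lc_c_Cert_tree lc_c_rc_7_5 lc_c_rc_14_2 lc_c_rc_11_1 lc_c_rc_13_2 lc_c_Cert_tree lc_c_rc_2_3 lc_c_rc_23_0 lc_c_rc_23_0 lc_c_rc_23_5 lc_c_rc_26_2 lc_c_rc_14_2 lc_c_rc_24_2 lc_c_Cert_tree lc_c_rc_22_5 lc_c_rc_13_2 lc_c_rc_23_0 lc_c_rc_7_3 lc_c_rc_12_8 lc_c_rc_13_2 lc_c_rc_2_1 lc_c_rc_13_2 lc_c_rc_25_9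 lc_c_rc_7_3 lc_c_rc_11_1 lc_c_rc_22_3 lc_c_rc_13_0 lc_c_rc_13_2 lc_c_rc_24_8 lc_c_rc_24_8 lc_c_rc_13_2 lc_c_rc_7_3 lc_c_rc_11_1 lc_c_rc_11_1 lc_c_rc_22_3 lc_c_Cert_tree lc_c_rc_7_1 lc_c_rc_13_2 lc_c_rc_2_3 lc_c_Cert_tree lc_c_rc_14_2 lc_c_rc_11_1 lc_c_rc_14_0 lc_c_rc_14_0) (@D3.rec (fun _ => (Cert rels S Gen.c)) lc_c_rc_23_0 lc_c_rc_24_8 lc_c_rc_11_1 lc_c_rc_13_2 lc_c_rc_11_1 lc_c_rc_13_2 lc_c_rc_23_5 lc_c_Cert_tree lc_c_rc_26_4 lc_c_rc_13_2 lc_c_rc_26_10 lc_c_rc_11_1 lc_c_rc_7_3 lc_c_rc_23_5 lc_c_rc_14_2 lc_c_rc_11_1 lc_c_rc_13_2 lc_c_Cert_tree lc_c_rc_13_2 lc_c_rc_7_3 lc_c_rc_13_2 lc_c_Cert_tree lc_c_Cert_tree lc_c_rc_14_2 lc_c_rc_13_2 lc_c_rc_11_1 lc_c_rc_24_2 lc_c_rc_7_3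 lc_c_rc_11_1 lc_c_rc_13_2 lc_c_Cert_tree lc_c_rc_14_2 lc_c_rc_7_5 lc_c_rc_23_5 lc_c_rc_13_2 lc_c_rc_7_5 lc_c_rc_24_2 lc_c_rc_13_2 lc_c_rc_24_6 lc_c_rc_11_1 lc_c_rc_2_3 lc_c_rc_22_7 lc_c_rc_2_3 lc_c_rc_22_3 lc_c_rc_11_1 lc_c_rc_26_8 lc_c_rc_2_3 lc_c_rc_14_2 lc_c_rc_11_1 lc_c_rc_24_4 lc_c_rc_7_3 lc_c_rc_23_0 lc_c_rc_26_4 lc_c_rc_11_1 lc_c_rc_13_2 lc_c_Cert_tree lc_c_rc_11_1 lc_c_rc_13_2 lc_c_rc_24_2 lc_c_rc_24_4 lc_c_rc_26_8 lc_c_rc_7_3) (@D3.rec (fun _ => (Cert rels S Gen.c)) lc_c_rc_22_9 lc_c_rc_24_6 lc_c_Cert_tree lc_c_rc_11_1 lc_c_Cert_tree lc_c_Cert_tree lc_c_rc_7_3 lc_c_Cert_tree lc_c_Cert_tree lc_c_rc_2_1 lc_c_rc_2_3 lc_c_rc_11_1 lc_c_Cert_tree lc_c_rc_13_2 lc_c_Cert_tree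 lc_c_rc_14_2 lc_c_Cert_tree lc_c_rc_13_2 lc_c_rc_13_2 lc_c_rc_13_0 lc_c_rc_26_4 lc_c_rc_26_2 lc_c_rc_14_2 lc_c_rc_14_2 lc_c_rc_7_5 lc_c_rc_13_0 lc_c_Cert_tree lc_c_rc_23_0 lc_c_rc_7_5 lc_c_Cert_tree lc_c_rc_11_1 lc_c_rc_13_2 lc_c_Cert_tree lc_c_rc_7_3 lc_c_rc_13_2 lc_c_Cert_tree lc_c_Cert_tree lc_c_rc_13_2 lc_c_rc_14_2 lc_c_rc_7_5 lc_c_rc_24_4 lc_c_rc_11_1 lc_c_Cert_tree lc_c_rc_13_2 lc_c_rc_14_2 lc_c_rc_13_0 lc_c_rc_2_3 lc_c_rc_14_2 lc_c_rc_11_1 lc_c_Cert_tree lc_c_rc_14_2 lc_c_rc_24_2 lc_c_rc_26_2 lc_c_rc_24_2 lc_c_Cert_tree lc_c_rc_14_0 lc_c_rc_11_1 lc_c_Cert_tree lc_c_Cert_tree lc_c_rc_11_1 lc_c_rc_13_2 lc_c_rc_22_3) (@D3.rec (fun _ => (Cert rels S Gen.c)) lc_c_rc_11_1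 lc_c_rc_13_2 lc_c_rc_26_8 lc_c_rc_11_1 lc_c_rc_11_1 lc_c_rc_24_6 lc_c_Cert_tree lc_c_rc_13_2 lc_c_rc_13_0 lc_c_rc_14_2 lc_c_rc_13_0 lc_c_rc_23_5 lc_c_Cert_tree lc_c_rc_23_0 lc_c_rc_13_0 lc_c_rc_7_3 lc_c_rc_26_8 lc_c_rc_13_2 lc_c_rc_11_1 lc_c_rc_11_1 lc_c_rc_13_0 lc_c_rc_14_2 lc_c_Cert_tree lc_c_rc_13_0 lc_c_Cert_tree lc_c_rc_11_1 lc_c_rc_13_2 lc_c_rc_24_8 lc_c_rc_13_2 lc_c_Cert_tree lc_c_rc_11_1 lc_c_rc_2_3 lc_c_rc_11_1 lc_c_rc_22_9 lc_c_rc_11_1 lc_c_rc_13_2 lc_c_Cert_tree lc_c_rc_13_2 lc_c_rc_26_10 lc_c_Cert_tree lc_c_rc_11_1 lc_c_Cert_tree lc_c_rc_14_0 lc_c_rc_23_0 lc_c_rc_24_2 lc_c_rc_11_1 lc_c_rc_2_1 lc_c_rc_11_1 lc_c_rc_13_2 lc_c_Cert_tree lc_c_rc_14_2 lc_c_rc_13_2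 lc_c_rc_13_0 lc_c_rc_14_2 lc_c_rc_26_4 lc_c_rc_11_1 lc_c_rc_13_2 lc_c_rc_26_2 lc_c_rc_11_1 lc_c_rc_24_6 lc_c_rc_25_5 lc_c_rc_14_2) (@D3.rec (fun _ => (Cert rels S Gen.c)) lc_c_Cert_tree lc_c_rc_26_2 lc_c_rc_11_1 lc_c_rc_23_0 lc_c_rc_13_2 lc_c_rc_14_2 lc_c_rc_11_1 lc_c_rc_13_2 lc_c_rc_13_0 lc_c_rc_13_2 lc_c_rc_7_3 lc_c_rc_11_1 lc_c_Cert_tree lc_c_Cert_tree lc_c_rc_2_3 lc_c_Cert_tree lc_c_rc_11_1 lc_c_rc_7_3 lc_c_rc_24_2 lc_c_rc_13_2 lc_c_rc_12_8 lc_c_rc_13_2 lc_c_Cert_tree lc_c_Cert_tree lc_c_rc_2_3 lc_c_Cert_tree lc_c_rc_24_8 lc_c_rc_13_2 lc_c_rc_11_1 lc_c_rc_13_2 lc_c_rc_7_3 lc_c_rc_12_8 lc_c_rc_7_3 lc_c_rc_11_1 lc_c_rc_13_2 lc_c_rc_11_1 lc_c_rc_23_5 lc_c_rc_13_2 lc_c_rc_23_0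 lc_c_rc_14_2 lc_c_rc_11_1 lc_c_rc_22_7 lc_c_rc_13_2 lc_c_Cert_tree lc_c_Cert_tree lc_c_rc_14_2 lc_c_Cert_tree lc_c_rc_7_3 lc_c_rc_11_1 lc_c_rc_13_2 lc_c_rc_13_2 lc_c_rc_7_3 lc_c_rc_13_2 lc_c_rc_22_3 lc_c_rc_26_10 lc_c_rc_7_3 lc_c_rc_13_2 lc_c_rc_13_2 lc_c_rc_7_1 lc_c_rc_13_2 lc_c_rc_11_1 lc_c_rc_23_0) (@D3.rec (fun _ => (Cert rels S Gen.c)) lc_c_rc_14_2 lc_c_rc_7_3 lc_c_rc_23_0 lc_c_rc_2_3 lc_c_rc_23_0 lc_c_rc_7_5 lc_c_rc_7_3 lc_c_rc_13_2 lc_c_Cert_tree lc_c_Cert_tree lc_c_rc_2_3 lc_c_Cert_tree lc_c_rc_11_1 lc_c_rc_24_6 lc_c_rc_11_1 lc_c_rc_14_2 lc_c_rc_11_1 lc_c_rc_13_2 lc_c_rc_7_3 lc_c_rc_24_2 lc_c_rc_13_2 lc_c_rc_26_2 lc_c_rc_14_2 lc_c_rc_11_1 lc_c_rc_7_1 lc_c_rc_13_2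 lc_c_rc_13_0 lc_c_Cert_tree lc_c_rc_22_3 lc_c_rc_11_1 lc_c_Cert_tree lc_c_rc_11_1 lc_c_rc_2_3 lc_c_rc_26_4 lc_c_rc_13_2 lc_c_rc_13_2 lc_c_rc_11_1 lc_c_rc_13_0 lc_c_rc_24_8 lc_c_rc_14_2 lc_c_rc_11_1 lc_c_Cert_tree lc_c_rc_11_1 lc_c_rc_14_2 lc_c_rc_7_3 lc_c_rc_11_1 lc_c_rc_24_8 lc_c_rc_23_0 lc_c_rc_7_5 lc_c_rc_13_2 lc_c_Cert_tree lc_c_Cert_tree lc_c_rc_2_3 lc_c_Cert_tree lc_c_rc_13_2 lc_c_rc_24_2 lc_c_rc_13_2 lc_c_rc_11_1 lc_c_rc_23_0 lc_c_Cert_tree lc_c_rc_14_2 lc_c_rc_11_1) (@D3.rec (fun _ => (Cert rels S Gen.c)) lc_c_rc_23_0 lc_c_rc_11_1 lc_c_rc_23_5 lc_c_rc_7_1 lc_c_rc_23_5 lc_c_rc_13_2 lc_c_rc_26_2 lc_c_rc_26_10 lc_c_rc_26_8 lc_c_Cert_tree lc_c_rc_11_1 lc_c_rc_2_3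 lc_c_Cert_tree lc_c_rc_13_2 lc_c_rc_13_2 lc_c_rc_11_1 lc_c_rc_11_1 lc_c_Cert_tree lc_c_rc_14_2 lc_c_rc_11_1 lc_c_rc_11_1 lc_c_rc_11_1 lc_c_Cert_tree lc_c_Cert_tree lc_c_rc_2_3 lc_c_rc_7_3 lc_c_rc_13_2 lc_c_rc_22_3 lc_c_rc_13_2 lc_c_Cert_tree lc_c_rc_14_2 lc_c_rc_11_1 lc_c_rc_11_1 lc_c_rc_11_1 lc_c_Cert_tree lc_c_rc_13_2 lc_c_rc_13_2 lc_c_Cert_tree lc_c_rc_14_2 lc_c_rc_14_2 lc_c_rc_26_2 lc_c_Cert_tree lc_c_rc_13_2 lc_c_rc_2_3 lc_c_rc_7_5 lc_c_Cert_tree lc_c_rc_13_2 lc_c_Cert_tree lc_c_rc_24_2 lc_c_rc_11_1 lc_c_rc_13_2 lc_c_rc_14_2 lc_c_rc_13_2 lc_c_rc_7_1 lc_c_Cert_tree lc_c_rc_13_2 lc_c_rc_7_3 lc_c_rc_13_2 lc_c_rc_13_0 lc_c_rc_13_0 lc_c_rc_14_2 lc_c_rc_13_2) (@D3.rec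 (fun _ => (Cert rels S Gen.c)) lc_c_rc_11_1 lc_c_rc_11_1 lc_c_Cert_tree lc_c_rc_11_1 lc_c_Cert_tree lc_c_rc_13_2 lc_c_rc_26_8 lc_c_rc_11_1 lc_c_Cert_tree lc_c_rc_14_2 lc_c_rc_13_2 lc_c_rc_13_2 lc_c_rc_11_1 lc_c_rc_11_1 lc_c_rc_14_2 lc_c_rc_26_4 lc_c_rc_11_1 lc_c_Cert_tree lc_c_rc_11_1 lc_c_Cert_tree lc_c_rc_13_2 lc_c_rc_11_1 lc_c_Cert_tree lc_c_rc_11_1 lc_c_rc_7_3 lc_c_rc_13_2 lc_c_rc_13_2 lc_c_rc_13_2 lc_c_rc_13_2 lc_c_rc_23_0 lc_c_rc_14_2 lc_c_rc_26_4 lc_c_rc_11_1 lc_c_rc_13_2 lc_c_rc_11_1 lc_c_rc_13_2 lc_c_rc_11_1 lc_c_rc_25_17 lc_c_rc_14_0 lc_c_Cert_tree lc_c_rc_13_2 lc_c_rc_11_1 lc_c_rc_7_1 lc_c_rc_11_1 lc_c_rc_25_5 lc_c_rc_13_2 lc_c_rc_14_2 lc_c_rc_26_4 lc_c_rc_7_5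 lc_c_rc_12_2 lc_c_Cert_tree lc_c_rc_14_2 lc_c_rc_13_2 lc_c_rc_26_10 lc_c_rc_7_5 lc_c_rc_11_1 lc_c_rc_13_2 lc_c_rc_26_4 lc_c_Cert_tree lc_c_rc_13_2 lc_c_rc_13_2 lc_c_rc_23_0) (@D3.rec (fun _ => (Cert rels S Gen.c)) lc_c_Cert_tree lc_c_rc_14_2 lc_c_rc_11_1 lc_c_rc_13_2 lc_c_rc_26_4 lc_c_rc_11_1 lc_c_rc_7_3 lc_c_rc_11_1 lc_c_rc_11_1 lc_c_rc_11_1 lc_c_Cert_tree lc_c_rc_13_2 lc_c_rc_2_3 lc_c_rc_7_5 lc_c_Cert_tree lc_c_rc_7_3 lc_c_rc_23_5 lc_c_Cert_tree lc_c_rc_22_5 lc_c_rc_13_2 lc_c_rc_11_1 lc_c_Cert_tree lc_c_rc_7_3 lc_c_rc_22_9 lc_c_rc_12_8 lc_c_rc_13_2 lc_c_rc_7_5 lc_c_rc_23_5 lc_c_rc_13_2 lc_c_rc_2_3 lc_c_rc_11_1 lc_c_rc_2_3 lc_c_Cert_tree lc_c_rc_24_2 lc_c_rc_12_8 lc_c_rc_13_2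 lc_c_rc_13_2 lc_c_rc_11_1 lc_c_rc_11_1 lc_c_rc_13_2 lc_c_rc_7_3 lc_c_rc_12_8 lc_c_rc_7_3 lc_c_rc_24_8 lc_c_rc_13_2 lc_c_rc_11_1 lc_c_rc_23_5 lc_c_rc_24_4 lc_c_rc_24_6 lc_c_rc_7_3 lc_c_rc_23_5 lc_c_rc_13_2 lc_c_Cert_tree lc_c_Cert_tree lc_c_rc_14_2 lc_c_Cert_tree lc_c_rc_7_3 lc_c_rc_24_8 lc_c_rc_11_1 lc_c_rc_13_2 lc_c_rc_22_5 lc_c_rc_13_2) (@D3.rec (fun _ => (Cert rels S Gen.c)) lc_c_rc_7_3 lc_c_rc_11_1 lc_c_rc_13_2 lc_c_rc_13_2 lc_c_rc_7_3 lc_c_rc_13_2 lc_c_rc_24_8 lc_c_rc_23_0 lc_c_rc_14_2 lc_c_rc_11_1 lc_c_rc_7_3 lc_c_rc_13_2 lc_c_rc_26_2 lc_c_rc_13_0 lc_c_rc_24_2 lc_c_rc_24_8 lc_c_rc_13_2 lc_c_rc_13_2 lc_c_rc_13_2 lc_c_rc_26_10 lc_c_rc_26_10 lc_c_rc_14_2 lc_c_Cert_tree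 lc_c_Cert_tree lc_c_rc_2_3 lc_c_rc_22_3 lc_c_rc_14_2 lc_c_rc_13_2 lc_c_rc_13_2 lc_c_rc_13_0 lc_c_rc_26_10 lc_c_rc_7_3 lc_c_rc_24_2 lc_c_rc_13_2 lc_c_Cert_tree lc_c_Cert_tree lc_c_rc_14_2 lc_c_rc_7_3 lc_c_rc_11_1 lc_c_rc_13_2 lc_c_rc_11_1 lc_c_rc_23_5 lc_c_rc_13_2 lc_c_Cert_tree lc_c_Cert_tree lc_c_rc_2_3 lc_c_Cert_tree lc_c_rc_13_2 lc_c_rc_13_2 lc_c_rc_11_1 lc_c_rc_24_6 lc_c_rc_14_0 lc_c_rc_14_2 lc_c_rc_11_1 lc_c_rc_13_2 lc_c_rc_7_3 lc_c_rc_13_2 lc_c_rc_26_2 lc_c_rc_13_2 lc_c_rc_14_2 lc_c_Cert_tree lc_c_rc_11_1) (@D3.rec (fun _ => (Cert rels S Gen.c)) lc_c_rc_2_3 lc_c_Cert_tree lc_c_rc_13_2 lc_c_rc_13_2 lc_c_rc_11_1 lc_c_rc_13_2 lc_c_rc_22_7 lc_c_rc_14_2 lc_c_rc_11_1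 lc_c_Cert_tree lc_c_rc_11_1 lc_c_rc_13_2 lc_c_rc_11_1 lc_c_rc_7_5 lc_c_rc_13_2 lc_c_Cert_tree lc_c_Cert_tree lc_c_rc_2_3 lc_c_Cert_tree lc_c_rc_13_2 lc_c_rc_24_2 lc_c_rc_23_0 lc_c_rc_11_1 lc_c_rc_11_1 lc_c_rc_11_1 lc_c_rc_22_3 lc_c_rc_11_1 lc_c_rc_7_5 lc_c_rc_13_2 lc_c_rc_13_0 lc_c_rc_14_2 lc_c_Cert_tree lc_c_rc_11_1 lc_c_rc_2_3 lc_c_Cert_tree lc_c_rc_13_2 lc_c_rc_13_2 lc_c_rc_24_8 lc_c_rc_11_1 lc_c_rc_22_9 lc_c_rc_14_2 lc_c_rc_11_1 lc_c_rc_13_2 lc_c_rc_11_1 lc_c_Cert_tree lc_c_Cert_tree lc_c_rc_2_3 lc_c_Cert_tree lc_c_rc_13_2 lc_c_rc_24_6 lc_c_rc_11_1 lc_c_rc_11_1 lc_c_rc_14_2 lc_c_rc_14_2 lc_c_rc_26_4 lc_c_Cert_tree lc_c_rc_13_2 lc_c_rc_2_1 lc_c_rc_14_0 lc_c_Cert_tree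 lc_c_rc_13_2 lc_c_Cert_tree) (@D3.rec (fun _ => (Cert rels S Gen.c)) lc_c_Cert_tree lc_c_Cert_tree lc_c_rc_11_1 lc_c_rc_7_3 lc_c_rc_14_2 lc_c_rc_13_2 lc_c_Cert_tree lc_c_rc_13_2 lc_c_rc_26_8 lc_c_rc_13_2 lc_c_rc_2_3 lc_c_rc_13_2 lc_c_Cert_tree lc_c_Cert_tree lc_c_rc_13_2 lc_c_rc_13_2 lc_c_rc_11_1 lc_c_rc_11_1 lc_c_Cert_tree lc_c_rc_11_1 lc_c_rc_26_2 lc_c_rc_13_2 lc_c_rc_11_1 lc_c_rc_11_1 lc_c_Cert_tree lc_c_rc_7_5 lc_c_rc_13_2 lc_c_rc_13_2 lc_c_rc_11_1 lc_c_rc_11_1 lc_c_Cert_tree lc_c_rc_14_2 lc_c_rc_26_2 lc_c_rc_11_1 lc_c_Cert_tree lc_c_rc_26_4 lc_c_Cert_tree lc_c_rc_11_1 lc_c_Cert_tree lc_c_rc_11_1 lc_c_rc_11_1 lc_c_rc_14_0 lc_c_rc_13_2 lc_c_rc_11_1 lc_c_rc_13_2 lc_c_rc_24_6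 lc_c_rc_13_2 lc_c_Cert_tree lc_c_rc_14_2 lc_c_rc_26_2 lc_c_rc_11_1 lc_c_rc_11_1 lc_c_rc_23_0 lc_c_rc_26_2 lc_c_rc_11_1 lc_c_rc_11_1 lc_c_rc_2_1 lc_c_rc_26_4 lc_c_rc_13_2 lc_c_rc_11_1 lc_c_rc_7_5 lc_c_rc_7_3) (@D3.rec (fun _ => (Cert rels S Gen.c)) lc_c_Cert_tree lc_c_rc_13_2 lc_c_rc_14_2 lc_c_rc_24_8 lc_c_rc_11_1 lc_c_rc_26_10 lc_c_rc_26_10 lc_c_rc_2_3 lc_c_rc_23_0 lc_c_rc_14_2 lc_c_rc_13_2 lc_c_rc_26_10 lc_c_rc_14_2 lc_c_rc_11_1 lc_c_Cert_tree lc_c_rc_13_2 lc_c_rc_7_1 lc_c_Cert_tree lc_c_rc_13_2 lc_c_rc_11_1 lc_c_rc_13_2 lc_c_rc_11_1 lc_c_Cert_tree lc_c_rc_14_2 lc_c_rc_11_1 lc_c_rc_13_2 lc_c_rc_26_4 lc_c_rc_11_1 lc_c_rc_7_5 lc_c_rc_7_3 lc_c_rc_11_1 lc_c_rc_13_2 lc_c_rc_22_9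 lc_c_rc_11_1 lc_c_Cert_tree lc_c_rc_13_2 lc_c_Cert_tree lc_c_Cert_tree lc_c_rc_7_5 lc_c_rc_13_0 lc_c_rc_14_0 lc_c_rc_7_3 lc_c_rc_22_3 lc_c_rc_13_2 lc_c_rc_7_3 lc_c_rc_22_5 lc_c_rc_13_2 lc_c_rc_11_1 lc_c_Cert_tree lc_c_rc_11_1 lc_c_rc_13_2 lc_c_rc_7_3 lc_c_rc_13_2 lc_c_rc_26_10 lc_c_rc_26_10 lc_c_rc_2_1 lc_c_rc_7_3 lc_c_rc_13_2 lc_c_rc_14_2 lc_c_rc_24_2 lc_c_rc_24_8 lc_c_rc_14_2) (@D3.rec (fun _ => (Cert rels S Gen.c)) lc_c_rc_7_5 lc_c_rc_14_2 lc_c_rc_26_8 lc_c_rc_7_3 lc_c_rc_13_2 lc_c_rc_26_10 lc_c_rc_14_2 lc_c_rc_23_0 lc_c_rc_14_2 lc_c_rc_24_4 lc_c_rc_24_4 lc_c_rc_2_3 lc_c_rc_13_2 lc_c_rc_23_0 lc_c_Cert_tree lc_c_Cert_tree lc_c_rc_2_3 lc_c_Cert_tree lc_c_rc_13_2 lc_c_rc_13_2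 lc_c_rc_23_0 lc_c_rc_11_1 lc_c_Cert_tree lc_c_rc_14_2 lc_c_rc_11_1 lc_c_rc_11_1 lc_c_rc_2_3 lc_c_Cert_tree lc_c_Cert_tree lc_c_rc_2_3 lc_c_Cert_tree lc_c_rc_13_2 lc_c_rc_13_2 lc_c_rc_11_1 lc_c_rc_24_6 lc_c_Cert_tree lc_c_rc_14_2 lc_c_rc_11_1 lc_c_Cert_tree lc_c_rc_11_1 lc_c_rc_23_5 lc_c_rc_2_3 lc_c_rc_11_1 lc_c_rc_14_2 lc_c_Cert_tree lc_c_rc_11_1 lc_c_rc_11_1 lc_c_rc_7_1 lc_c_rc_13_2 lc_c_rc_13_2 lc_c_Cert_tree lc_c_rc_14_2 lc_c_Cert_tree lc_c_Cert_tree lc_c_rc_11_1 lc_c_Cert_tree lc_c_rc_13_2 lc_c_rc_13_2 lc_c_Cert_tree lc_c_rc_14_2 lc_c_rc_26_4 lc_c_rc_13_2) (@D3.rec (fun _ => (Cert rels S Gen.c)) lc_c_Cert_tree lc_c_rc_13_2 lc_c_rc_26_4 lc_c_rc_13_2 lc_c_Cert_tree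 lc_c_rc_13_2 lc_c_rc_13_2 lc_c_Cert_tree lc_c_Cert_tree lc_c_rc_7_5 lc_c_rc_11_1 lc_c_rc_13_2 lc_c_rc_11_1 lc_c_Cert_tree lc_c_rc_22_3 lc_c_rc_24_8 lc_c_rc_14_2 lc_c_rc_13_0 lc_c_rc_11_1 lc_c_rc_14_2 lc_c_Cert_tree lc_c_Cert_tree lc_c_rc_2_3 lc_c_rc_26_2 lc_c_rc_22_7 lc_c_Cert_tree lc_c_Cert_tree lc_c_rc_2_3 lc_c_Cert_tree lc_c_rc_26_8 lc_c_rc_13_2 lc_c_rc_11_1 lc_c_Cert_tree lc_c_rc_14_2 lc_c_rc_11_1 lc_c_Cert_tree lc_c_Cert_tree lc_c_rc_11_1 lc_c_rc_26_10 lc_c_rc_7_3 lc_c_rc_22_3 lc_c_rc_14_2 lc_c_Cert_tree lc_c_rc_23_5 lc_c_rc_2_3 lc_c_Cert_tree lc_c_rc_13_2 lc_c_rc_13_2 lc_c_rc_11_1 lc_c_rc_11_1 lc_c_Cert_tree lc_c_rc_14_2 lc_c_rc_11_1 lc_c_rc_24_2 lc_c_rc_11_1 lc_c_rc_7_5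 lc_c_rc_11_1 lc_c_rc_11_1 lc_c_rc_7_3 lc_c_rc_13_2 lc_c_rc_13_2 lc_c_Cert_tree) (@D3.rec (fun _ => (Cert rels S Gen.c)) lc_c_rc_14_2 lc_c_Cert_tree lc_c_rc_11_1 lc_c_rc_26_4 lc_c_rc_13_2 lc_c_rc_13_2 lc_c_Cert_tree lc_c_rc_14_2 lc_c_rc_14_2 lc_c_Cert_tree lc_c_rc_11_1 lc_c_Cert_tree lc_c_rc_13_2 lc_c_rc_14_2 lc_c_rc_26_8 lc_c_rc_11_1 lc_c_Cert_tree lc_c_rc_13_2 lc_c_rc_11_1 lc_c_rc_13_2 lc_c_rc_13_2 lc_c_rc_7_3 lc_c_rc_13_2 lc_c_Cert_tree lc_c_Cert_tree lc_c_rc_14_2 lc_c_rc_23_5 lc_c_rc_11_1 lc_c_Cert_tree lc_c_rc_13_2 lc_c_rc_7_3 lc_c_rc_13_2 lc_c_rc_7_3 lc_c_rc_22_5 lc_c_rc_13_2 lc_c_Cert_tree lc_c_rc_14_2 lc_c_rc_7_5 lc_c_rc_23_5 lc_c_rc_13_2 lc_c_rc_11_1 lc_c_rc_23_5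 lc_c_rc_13_2 lc_c_Cert_tree lc_c_Cert_tree lc_c_rc_7_3 lc_c_Cert_tree lc_c_rc_7_3 lc_c_rc_11_1 lc_c_rc_12_10 lc_c_rc_13_2 lc_c_rc_22_5 lc_c_rc_13_2 lc_c_rc_7_3 lc_c_rc_13_2 lc_c_rc_11_1 lc_c_rc_7_3 lc_c_rc_7_5 lc_c_rc_13_2 lc_c_rc_7_5 lc_c_rc_13_2 lc_c_Cert_tree) (@D3.rec (fun _ => (Cert rels S Gen.c)) lc_c_rc_11_1 lc_c_rc_2_3 lc_c_Cert_tree lc_c_rc_24_4 lc_c_rc_13_2 lc_c_rc_23_0 lc_c_rc_11_1 lc_c_Cert_tree lc_c_rc_14_2 lc_c_rc_11_1 lc_c_rc_26_2 lc_c_rc_7_3 lc_c_rc_13_2 lc_c_rc_2_3 lc_c_rc_24_6 lc_c_rc_11_1 lc_c_rc_2_3 lc_c_rc_11_1 lc_c_rc_13_2 lc_c_rc_13_2 lc_c_rc_11_1 lc_c_rc_13_0 lc_c_Cert_tree lc_c_rc_14_2 lc_c_rc_11_1 lc_c_rc_22_3 lc_c_rc_24_2 lc_c_rc_24_8 lc_c_rc_14_2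 lc_c_rc_7_5 lc_c_rc_13_2 lc_c_Cert_tree lc_c_rc_11_1 lc_c_rc_2_3 lc_c_Cert_tree lc_c_rc_23_5 lc_c_rc_2_1 lc_c_rc_12_0 lc_c_rc_23_5 lc_c_rc_14_2 lc_c_rc_11_1 lc_c_rc_13_2 lc_c_rc_11_1 lc_c_rc_14_2 lc_c_rc_26_4 lc_c_rc_11_1 lc_c_rc_2_3 lc_c_rc_23_5 lc_c_rc_13_2 lc_c_rc_13_2 lc_c_rc_24_4 lc_c_rc_11_1 lc_c_rc_14_2 lc_c_rc_11_1 lc_c_rc_13_2 lc_c_Cert_tree lc_c_rc_24_4 lc_c_rc_11_1 lc_c_Cert_tree lc_c_rc_13_2 lc_c_rc_13_2 lc_c_Cert_tree) (@D3.rec (fun _ => (Cert rels S Gen.c)) lc_c_Cert_tree lc_c_rc_13_0 lc_c_rc_13_2 lc_c_rc_13_2 lc_c_rc_7_3 lc_c_Cert_tree lc_c_rc_26_4 lc_c_rc_11_1 lc_c_rc_24_4 lc_c_rc_13_2 lc_c_rc_14_2 lc_c_rc_11_1 lc_c_rc_11_1 lc_c_rc_24_4 lc_c_Cert_tree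 lc_c_Cert_tree lc_c_rc_13_2 lc_c_Cert_tree lc_c_rc_13_2 lc_c_Cert_tree lc_c_rc_13_2 lc_c_Cert_tree lc_c_rc_7_5 lc_c_rc_23_0 lc_c_rc_11_1 lc_c_rc_22_3 lc_c_rc_11_1 lc_c_rc_23_5 lc_c_rc_26_4 lc_c_rc_11_1 lc_c_Cert_tree lc_c_rc_13_2 lc_c_rc_7_5 lc_c_rc_23_5 lc_c_rc_13_2 lc_c_rc_26_4 lc_c_rc_23_5 lc_c_rc_23_5 lc_c_Cert_tree lc_c_Cert_tree lc_c_rc_2_1 lc_c_Cert_tree lc_c_rc_11_1 lc_c_rc_11_1 lc_c_rc_13_2 lc_c_rc_23_5 lc_c_rc_13_2 lc_c_rc_2_3 lc_c_rc_2_3 lc_c_rc_2_3 lc_c_rc_26_4 lc_c_rc_22_5 lc_c_rc_11_1 lc_c_rc_13_2 lc_c_rc_7_3 lc_c_rc_12_2 lc_c_rc_7_3 lc_c_rc_24_8 lc_c_rc_13_2 lc_c_rc_23_0 lc_c_rc_14_2 lc_c_rc_23_5) (@D3.rec (fun _ => (Cert rels S Gen.c)) lc_c_rc_13_2 lc_c_rc_23_0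 lc_c_rc_14_2 lc_c_Cert_tree lc_c_Cert_tree lc_c_rc_2_3 lc_c_Cert_tree lc_c_rc_14_2 lc_c_rc_7_3 lc_c_rc_13_2 lc_c_rc_26_2 lc_c_rc_26_4 lc_c_rc_23_5 lc_c_rc_7_3 lc_c_rc_23_5 lc_c_rc_13_2 lc_c_rc_13_2 lc_c_rc_24_4 lc_c_rc_7_3 lc_c_rc_24_4 lc_c_rc_7_5 lc_c_rc_23_5 lc_c_rc_13_2 lc_c_rc_7_5 lc_c_rc_12_12 lc_c_Cert_tree lc_c_Cert_tree lc_c_Cert_tree lc_c_rc_2_3 lc_c_rc_22_5 lc_c_rc_13_2 lc_c_Cert_tree lc_c_rc_11_1 lc_c_rc_11_1 lc_c_rc_26_8 lc_c_Cert_tree lc_c_rc_13_2 lc_c_rc_13_0 lc_c_Cert_tree lc_c_rc_11_1 lc_c_rc_7_1 lc_c_rc_13_2 lc_c_rc_24_8 lc_c_rc_23_0 lc_c_rc_14_2 lc_c_rc_7_5 lc_c_rc_13_2 lc_c_rc_7_5 lc_c_rc_26_4 lc_c_rc_11_1 lc_c_rc_2_3 lc_c_Cert_tree lc_c_rc_13_2 lc_c_rc_24_2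 lc_c_rc_23_5 lc_c_rc_13_2 lc_c_rc_11_1 lc_c_rc_23_0 lc_c_Cert_tree lc_c_rc_14_2 lc_c_rc_11_1 lc_c_Cert_tree) (@D3.rec (fun _ => (Cert rels S Gen.c)) lc_c_rc_11_1 lc_c_rc_13_2 lc_c_Cert_tree lc_c_Cert_tree lc_c_rc_2_3 lc_c_Cert_tree lc_c_rc_13_2 lc_c_rc_13_2 lc_c_rc_13_2 lc_c_rc_13_2 lc_c_Cert_tree lc_c_rc_14_2 lc_c_rc_11_1 lc_c_rc_13_2 lc_c_rc_11_1 lc_c_Cert_tree lc_c_Cert_tree lc_c_rc_2_3 lc_c_Cert_tree lc_c_rc_13_2 lc_c_rc_24_4 lc_c_rc_13_2 lc_c_Cert_tree lc_c_rc_14_2 lc_c_Cert_tree lc_c_Cert_tree lc_c_rc_11_1 lc_c_Cert_tree lc_c_rc_13_2 lc_c_rc_13_2 lc_c_Cert_tree lc_c_rc_14_2 lc_c_rc_14_2 lc_c_rc_24_6 lc_c_rc_2_3 lc_c_rc_11_1 lc_c_Cert_tree lc_c_rc_13_2 lc_c_rc_24_6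 lc_c_rc_7_5 lc_c_rc_22_3 lc_c_Cert_tree lc_c_Cert_tree lc_c_Cert_tree lc_c_rc_11_1 lc_c_rc_13_2 lc_c_rc_14_2 lc_c_rc_13_2 lc_c_Cert_tree lc_c_rc_13_2 lc_c_Cert_tree lc_c_rc_13_2 lc_c_rc_7_3 lc_c_rc_13_2 lc_c_Cert_tree lc_c_Cert_tree lc_c_rc_14_2 lc_c_rc_13_2 lc_c_rc_13_0 lc_c_rc_26_8 lc_c_rc_24_8 lc_c_rc_24_8) (@D3.rec (fun _ => (Cert rels S Gen.c)) lc_c_rc_14_2 lc_c_rc_7_5 lc_c_rc_13_2 lc_c_Cert_tree lc_c_rc_2_3 lc_c_rc_2_3 lc_c_rc_11_1 lc_c_rc_13_2 lc_c_rc_13_2 lc_c_rc_24_4 lc_c_Cert_tree lc_c_rc_14_2 lc_c_rc_13_2 lc_c_rc_13_2 lc_c_rc_26_10 lc_c_rc_14_2 lc_c_rc_24_4 lc_c_rc_13_2 lc_c_rc_26_8 lc_c_rc_7_3 lc_c_rc_13_2 lc_c_rc_14_2 lc_c_rc_7_3 lc_c_rc_13_2 lc_c_rc_24_2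 lc_c_rc_24_2 lc_c_rc_14_2 lc_c_rc_7_3 lc_c_rc_13_2 lc_c_rc_26_10 lc_c_rc_14_2 lc_c_Cert_tree lc_c_Cert_tree lc_c_rc_2_1 lc_c_rc_7_1 lc_c_Cert_tree lc_c_rc_14_2 lc_c_rc_11_1 lc_c_rc_11_1 lc_c_rc_13_2 lc_c_rc_26_10 lc_c_rc_23_5 lc_c_rc_11_1 lc_c_rc_14_2 lc_c_rc_11_1 lc_c_rc_7_3 lc_c_rc_22_9 lc_c_Cert_tree lc_c_Cert_tree lc_c_rc_2_3 lc_c_rc_13_2 lc_c_rc_11_1 lc_c_rc_11_1 lc_c_Cert_tree lc_c_rc_14_2 lc_c_rc_24_2 lc_c_rc_11_1 lc_c_rc_11_1 lc_c_rc_11_1 lc_c_rc_11_1 lc_c_rc_2_3 lc_c_Cert_tree) (@D3.rec (fun _ => (Cert rels S Gen.c)) lc_c_rc_13_2 lc_c_rc_13_2 lc_c_rc_13_0 lc_c_rc_11_1 lc_c_Cert_tree lc_c_Cert_tree lc_c_Cert_tree lc_c_rc_11_1 lc_c_Cert_tree lc_c_rc_13_2 lc_c_rc_13_2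 lc_c_Cert_tree lc_c_rc_14_2 lc_c_Cert_tree lc_c_Cert_tree lc_c_rc_2_3 lc_c_Cert_tree lc_c_rc_13_2 lc_c_rc_13_2 lc_c_rc_13_2 lc_c_Cert_tree lc_c_Cert_tree lc_c_rc_11_1 lc_c_rc_25_9 lc_c_rc_13_2 lc_c_Cert_tree lc_c_rc_11_1 lc_c_rc_23_5 lc_c_rc_13_2 lc_c_rc_2_1 lc_c_rc_2_1 lc_c_rc_25_5 lc_c_rc_23_0 lc_c_rc_13_2 lc_c_Cert_tree lc_c_Cert_tree lc_c_rc_2_3 lc_c_rc_26_2 lc_c_Cert_tree lc_c_rc_23_0 lc_c_Cert_tree lc_c_rc_13_2 lc_c_Cert_tree lc_c_rc_11_1 lc_c_Cert_tree lc_c_rc_26_4 lc_c_rc_11_1 lc_c_Cert_tree lc_c_Cert_tree lc_c_rc_11_1 lc_c_Cert_tree lc_c_rc_13_2 lc_c_Cert_tree lc_c_Cert_tree lc_c_rc_11_1 lc_c_rc_14_2 lc_c_rc_24_6 lc_c_rc_7_3 lc_c_Cert_tree lc_c_rc_11_1 lc_c_rc_13_2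 lc_c_Cert_tree) (@D3.rec (fun _ => (Cert rels S Gen.c)) lc_c_rc_13_2 lc_c_rc_11_1 lc_c_rc_13_2 lc_c_rc_11_1 lc_c_rc_13_2 lc_c_rc_23_0 lc_c_rc_13_2 lc_c_Cert_tree lc_c_rc_14_2 lc_c_rc_23_5 lc_c_rc_7_5 lc_c_rc_12_14 lc_c_rc_13_2 lc_c_rc_24_4 lc_c_rc_22_3 lc_c_rc_2_1 lc_c_rc_12_2 lc_c_rc_23_0 lc_c_rc_11_1 lc_c_rc_13_2 lc_c_rc_7_3 lc_c_rc_13_2 lc_c_rc_23_0 lc_c_Cert_tree lc_c_Cert_tree lc_c_rc_2_3 lc_c_Cert_tree lc_c_rc_13_2 lc_c_rc_13_2 lc_c_rc_14_0 lc_c_Cert_tree lc_c_rc_14_2 lc_c_rc_23_0 lc_c_rc_23_0 lc_c_rc_14_2 lc_c_Cert_tree lc_c_Cert_tree lc_c_rc_2_3 lc_c_rc_13_2 lc_c_rc_7_5 lc_c_rc_14_2 lc_c_rc_11_1 lc_c_rc_11_1 lc_c_rc_13_2 lc_c_rc_11_1 lc_c_rc_24_6 lc_c_rc_22_7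 lc_c_rc_14_2 lc_c_Cert_tree lc_c_rc_11_1 lc_c_Cert_tree lc_c_rc_22_9 lc_c_rc_11_1 lc_c_Cert_tree lc_c_rc_13_2 lc_c_Cert_tree lc_c_rc_13_2 lc_c_rc_11_1 lc_c_rc_24_8 lc_c_rc_11_1 lc_c_rc_13_2 lc_c_Cert_tree) (@D3.rec (fun _ => (Cert rels S Gen.c)) lc_c_Cert_tree lc_c_Cert_tree lc_c_rc_14_2 lc_c_Cert_tree lc_c_Cert_tree lc_c_Cert_tree lc_c_rc_14_2 lc_c_rc_11_1 lc_c_rc_11_1 lc_c_Cert_tree lc_c_rc_13_2 lc_c_rc_7_5 lc_c_Cert_tree lc_c_Cert_tree lc_c_Cert_tree lc_c_rc_11_1 lc_c_rc_14_2 lc_c_rc_11_1 lc_c_rc_7_3 lc_c_Cert_tree lc_c_rc_13_2 lc_c_rc_7_3 lc_c_rc_13_0 lc_c_rc_11_1 lc_c_rc_11_1 lc_c_Cert_tree lc_c_rc_11_1 lc_c_rc_13_2 lc_c_Cert_tree lc_c_rc_14_2 lc_c_rc_7_5 lc_c_rc_22_5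 lc_c_rc_13_2 lc_c_rc_7_5 lc_c_rc_12_14 lc_c_rc_13_2 lc_c_Cert_tree lc_c_Cert_tree lc_c_rc_2_3 lc_c_rc_26_4 lc_c_rc_24_4 lc_c_rc_13_2 lc_c_rc_14_2 lc_c_Cert_tree lc_c_rc_11_1 lc_c_rc_2_3 lc_c_rc_23_5 lc_c_rc_13_2 lc_c_rc_13_2 lc_c_rc_11_1 lc_c_rc_11_1 lc_c_rc_24_8 lc_c_rc_14_2 lc_c_Cert_tree lc_c_rc_23_5 lc_c_Cert_tree lc_c_rc_24_6 lc_c_rc_26_4 lc_c_Cert_tree lc_c_rc_11_1 lc_c_rc_2_3 lc_c_rc_13_2) (@D3.rec (fun _ => (Cert rels S Gen.c)) lc_c_Cert_tree lc_c_Cert_tree lc_c_Cert_tree lc_c_rc_26_4 lc_c_rc_26_4 lc_c_rc_11_1 lc_c_rc_23_5 lc_c_Cert_tree lc_c_rc_11_1 lc_c_rc_24_2 lc_c_rc_13_2 lc_c_rc_24_4 lc_c_rc_23_5 lc_c_rc_11_1 lc_c_rc_13_2 lc_c_Cert_tree lc_c_rc_11_1 lc_c_Cert_tree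 lc_c_rc_14_2 lc_c_Cert_tree lc_c_rc_13_2 lc_c_Cert_tree lc_c_rc_13_2 lc_c_rc_24_4 lc_c_rc_13_0 lc_c_rc_23_0 lc_c_rc_7_5 lc_c_rc_7_5 lc_c_rc_11_1 lc_c_rc_13_2 lc_c_rc_24_2 lc_c_rc_11_1 lc_c_rc_13_0 lc_c_rc_7_3 lc_c_rc_23_0 lc_c_rc_7_3 lc_c_rc_13_2 lc_c_rc_11_1 lc_c_rc_7_3 lc_c_rc_14_2 lc_c_rc_14_0 lc_c_rc_13_2 lc_c_rc_2_3 lc_c_Cert_tree lc_c_rc_13_2 lc_c_rc_24_6 lc_c_rc_13_0 lc_c_Cert_tree lc_c_rc_14_2 lc_c_rc_13_2 lc_c_rc_26_4 lc_c_rc_11_1 lc_c_rc_26_8 lc_c_rc_11_1 lc_c_rc_13_2 lc_c_Cert_tree lc_c_rc_26_4 lc_c_Cert_tree lc_c_rc_11_1 lc_c_rc_25_1 lc_c_Cert_tree lc_c_rc_14_2) (@D3.rec (fun _ => (Cert rels S Gen.c)) lc_c_rc_7_3 lc_c_rc_11_1 lc_c_Cert_tree lc_c_rc_13_2 lc_c_rc_7_5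 lc_c_rc_14_0 lc_c_rc_13_2 lc_c_Cert_tree lc_c_rc_13_2 lc_c_rc_23_0 lc_c_Cert_tree lc_c_rc_11_1 lc_c_rc_11_1 lc_c_rc_7_5 lc_c_rc_11_1 lc_c_rc_11_1 lc_c_rc_13_2 lc_c_rc_14_2 lc_c_rc_14_2 lc_c_rc_26_4 lc_c_rc_11_1 lc_c_rc_25_17 lc_c_rc_13_2 lc_c_Cert_tree lc_c_rc_11_1 lc_c_rc_22_7 lc_c_rc_11_1 lc_c_Cert_tree lc_c_rc_13_2 lc_c_rc_11_1 lc_c_rc_11_1 lc_c_rc_14_2 lc_c_rc_13_2 lc_c_rc_7_5 lc_c_rc_23_0 lc_c_rc_11_1 lc_c_rc_13_2 lc_c_Cert_tree lc_c_Cert_tree lc_c_rc_13_2 lc_c_rc_14_2 lc_c_rc_13_2 lc_c_Cert_tree lc_c_rc_13_2 lc_c_rc_13_0 lc_c_rc_14_2 lc_c_rc_11_1 lc_c_rc_22_3 lc_c_Cert_tree lc_c_rc_11_1 lc_c_rc_22_5 lc_c_rc_13_2 lc_c_rc_11_1 lc_c_rc_23_0 lc_c_rc_26_10 lc_c_rc_11_1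 lc_c_rc_7_3 lc_c_rc_13_2 lc_c_rc_22_3 lc_c_rc_26_4 lc_c_rc_11_1 lc_c_rc_13_2) (@D3.rec (fun _ => (Cert rels S Gen.c)) lc_c_Cert_tree lc_c_rc_14_2 lc_c_rc_13_2 lc_c_rc_26_2 lc_c_rc_14_2 lc_c_rc_11_1 lc_c_rc_22_3 lc_c_rc_24_4 lc_c_rc_14_2 lc_c_Cert_tree lc_c_rc_13_2 lc_c_rc_7_5 lc_c_Cert_tree lc_c_rc_13_2 lc_c_rc_11_1 lc_c_rc_14_2 lc_c_Cert_tree lc_c_rc_13_2 lc_c_rc_26_4 lc_c_rc_11_1 lc_c_rc_11_1 lc_c_Cert_tree lc_c_rc_13_2 lc_c_rc_14_2 lc_c_Cert_tree lc_c_rc_11_1 lc_c_rc_13_2 lc_c_rc_14_2 lc_c_rc_13_0 lc_c_Cert_tree lc_c_rc_14_2 lc_c_rc_2_1 lc_c_rc_26_10 lc_c_rc_2_3 lc_c_rc_23_5 lc_c_rc_13_2 lc_c_Cert_tree lc_c_rc_13_2 lc_c_rc_11_1 lc_c_rc_13_2 lc_c_rc_23_0 lc_c_rc_22_5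 lc_c_rc_7_3 lc_c_Cert_tree lc_c_Cert_tree lc_c_rc_11_1 lc_c_rc_14_2 lc_c_Cert_tree lc_c_rc_11_1 lc_c_rc_13_2 lc_c_rc_11_1 lc_c_rc_11_1 lc_c_rc_13_2 lc_c_Cert_tree lc_c_rc_7_3 lc_c_rc_22_7 lc_c_rc_13_2 lc_c_rc_14_2 lc_c_Cert_tree lc_c_Cert_tree lc_c_rc_14_2 lc_c_rc_13_2) (@D3.rec (fun _ => (Cert rels S Gen.c)) lc_c_Cert_tree lc_c_Cert_tree lc_c_rc_14_2 lc_c_Cert_tree lc_c_rc_11_1 lc_c_rc_13_2 lc_c_rc_23_0 lc_c_Cert_tree lc_c_rc_14_2 lc_c_Cert_tree lc_c_rc_11_1 lc_c_rc_13_2 lc_c_rc_13_0 lc_c_Cert_tree lc_c_rc_14_2 lc_c_rc_11_1 lc_c_rc_26_2 lc_c_rc_13_2 lc_c_Cert_tree lc_c_Cert_tree lc_c_rc_11_1 lc_c_Cert_tree lc_c_rc_24_4 lc_c_rc_13_0 lc_c_rc_11_1 lc_c_Cert_tree lc_c_rc_22_9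 lc_c_rc_23_5 lc_c_Cert_tree lc_c_Cert_tree lc_c_Cert_tree lc_c_rc_11_1 lc_c_rc_2_3 lc_c_rc_13_2 lc_c_Cert_tree lc_c_rc_11_1 lc_c_rc_14_0 lc_c_rc_13_2 lc_c_rc_14_2 lc_c_rc_2_3 lc_c_rc_11_1 lc_c_rc_11_1 lc_c_Cert_tree lc_c_rc_13_2 lc_c_rc_7_1 lc_c_rc_22_9 lc_c_rc_13_2 lc_c_rc_23_5 lc_c_rc_11_1 lc_c_rc_11_1 lc_c_Cert_tree lc_c_rc_13_2 lc_c_rc_13_2 lc_c_rc_11_1 lc_c_rc_7_3 lc_c_rc_24_2 lc_c_rc_13_2 lc_c_Cert_tree lc_c_rc_7_3 lc_c_rc_7_3 lc_c_rc_13_2 lc_c_rc_7_3) (@D3.rec (fun _ => (Cert rels S Gen.c)) lc_c_rc_24_6 lc_c_rc_2_3 lc_c_Cert_tree lc_c_rc_13_2 lc_c_rc_24_4 lc_c_rc_24_6 lc_c_rc_23_0 lc_c_Cert_tree lc_c_rc_14_2 lc_c_rc_11_1 lc_c_rc_26_4 lc_c_rc_11_1 lc_c_rc_13_2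 lc_c_rc_23_5 lc_c_Cert_tree lc_c_rc_2_3 lc_c_rc_26_4 lc_c_rc_11_1 lc_c_rc_23_5 lc_c_rc_13_2 lc_c_Cert_tree lc_c_rc_11_1 lc_c_rc_24_4 lc_c_rc_2_3 lc_c_rc_13_2 lc_c_rc_24_4 lc_c_rc_11_1 lc_c_Cert_tree lc_c_Cert_tree lc_c_rc_7_3 lc_c_rc_23_0 lc_c_rc_11_1 lc_c_rc_23_5 lc_c_rc_13_2 lc_c_rc_7_3 lc_c_rc_12_2 lc_c_rc_13_2 lc_c_rc_2_3 lc_c_Cert_tree lc_c_rc_13_2 lc_c_rc_11_1 lc_c_rc_22_5 lc_c_rc_14_2 lc_c_rc_11_1 lc_c_rc_26_4 lc_c_rc_11_1 lc_c_rc_23_5 lc_c_rc_13_2 lc_c_rc_11_1 lc_c_rc_13_2 lc_c_rc_11_1 lc_c_rc_26_10 lc_c_Cert_tree lc_c_Cert_tree lc_c_rc_11_1 lc_c_rc_7_3 lc_c_rc_13_0 lc_c_rc_11_1 lc_c_rc_13_2 lc_c_rc_24_6 lc_c_rc_2_3 lc_c_Cert_tree) (@D3.rec (fun _ => (Cert rels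 S Gen.c)) lc_c_rc_13_2 lc_c_rc_11_1 lc_c_rc_13_2 lc_c_rc_11_1 lc_c_rc_23_0 lc_c_Cert_tree lc_c_rc_14_2 lc_c_rc_11_1 lc_c_Cert_tree lc_c_Cert_tree lc_c_rc_11_1 lc_c_rc_23_5 lc_c_rc_11_1 lc_c_rc_22_5 lc_c_rc_26_2 lc_c_rc_11_1 lc_c_rc_23_0 lc_c_rc_13_2 lc_c_rc_23_0 lc_c_Cert_tree lc_c_Cert_tree lc_c_Cert_tree lc_c_Cert_tree lc_c_rc_24_2 lc_c_rc_13_2 lc_c_rc_11_1 lc_c_rc_11_1 lc_c_rc_7_5 lc_c_rc_7_1 lc_c_rc_7_3 lc_c_rc_2_3 lc_c_rc_13_2 lc_c_rc_24_6 lc_c_rc_11_1 lc_c_rc_2_3 lc_c_Cert_tree lc_c_rc_24_2 lc_c_rc_11_1 lc_c_rc_22_5 lc_c_rc_11_1 lc_c_rc_11_1 lc_c_rc_25_17 lc_c_rc_14_2 lc_c_rc_11_1 lc_c_rc_13_2 lc_c_rc_11_1 lc_c_rc_26_4 lc_c_rc_26_8 lc_c_rc_13_2 lc_c_rc_11_1 lc_c_Cert_tree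 lc_c_rc_13_2 lc_c_rc_11_1 lc_c_rc_13_2 lc_c_rc_25_9 lc_c_rc_11_1 lc_c_Cert_tree lc_c_rc_13_2 lc_c_Cert_tree lc_c_Cert_tree lc_c_Cert_tree lc_c_rc_23_5) (@D3.rec (fun _ => (Cert rels S Gen.c)) lc_c_rc_14_2 lc_c_rc_11_1 lc_c_rc_26_8 lc_c_rc_11_1 lc_c_rc_13_2 lc_c_rc_11_1 lc_c_rc_11_1 lc_c_rc_22_3 lc_c_rc_22_7 lc_c_rc_26_10 lc_c_rc_13_2 lc_c_rc_11_1 lc_c_rc_13_2 lc_c_rc_2_3 lc_c_rc_2_1 lc_c_rc_11_1 lc_c_rc_7_3 lc_c_rc_13_2 lc_c_rc_26_4 lc_c_rc_11_1 lc_c_rc_11_1 lc_c_rc_7_1 lc_c_rc_11_1 lc_c_rc_13_2 lc_c_rc_14_2 lc_c_rc_11_1 lc_c_rc_13_2 lc_c_rc_24_8 lc_c_Cert_tree lc_c_rc_14_2 lc_c_rc_11_1 lc_c_rc_7_1 lc_c_rc_22_3 lc_c_rc_13_2 lc_c_rc_11_1 lc_c_rc_11_1 lc_c_rc_13_2 lc_c_rc_26_4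 lc_c_rc_11_1 lc_c_rc_11_1 lc_c_Cert_tree lc_c_rc_7_5 lc_c_rc_13_2 lc_c_Cert_tree lc_c_rc_24_6 lc_c_rc_14_2 lc_c_Cert_tree lc_c_Cert_tree lc_c_rc_13_2 lc_c_rc_7_5 lc_c_rc_11_1 lc_c_rc_7_3 lc_c_rc_13_2 lc_c_rc_11_1 lc_c_rc_13_2 lc_c_Cert_tree lc_c_rc_11_1 lc_c_rc_2_3 lc_c_Cert_tree lc_c_rc_13_2 lc_c_rc_13_2 lc_c_rc_13_2) (@D3.rec (fun _ => (Cert rels S Gen.c)) lc_c_rc_24_6 lc_c_Cert_tree lc_c_rc_11_1 lc_c_Cert_tree lc_c_rc_13_2 lc_c_Cert_tree lc_c_Cert_tree lc_c_rc_14_2 lc_c_Cert_tree lc_c_rc_13_2 lc_c_rc_13_2 lc_c_rc_24_6 lc_c_rc_11_1 lc_c_rc_11_1 lc_c_rc_13_2 lc_c_rc_7_5 lc_c_rc_13_2 lc_c_Cert_tree lc_c_Cert_tree lc_c_rc_2_3 lc_c_Cert_tree lc_c_rc_13_2 lc_c_rc_13_2 lc_c_rc_23_0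 lc_c_rc_11_1 lc_c_Cert_tree lc_c_rc_14_2 lc_c_rc_11_1 lc_c_Cert_tree lc_c_rc_13_2 lc_c_rc_11_1 lc_c_rc_7_1 lc_c_rc_23_5 lc_c_rc_13_2 lc_c_rc_26_10 lc_c_rc_14_2 lc_c_Cert_tree lc_c_Cert_tree lc_c_rc_2_3 lc_c_Cert_tree lc_c_rc_13_2 lc_c_rc_13_2 lc_c_rc_23_5 lc_c_Cert_tree lc_c_rc_14_2 lc_c_rc_11_1 lc_c_Cert_tree lc_c_Cert_tree lc_c_rc_2_3 lc_c_Cert_tree lc_c_rc_13_2 lc_c_rc_13_2 lc_c_Cert_tree lc_c_rc_14_2 lc_c_Cert_tree lc_c_rc_11_1 lc_c_rc_11_1 lc_c_Cert_tree lc_c_rc_13_2 lc_c_rc_13_2 lc_c_Cert_tree lc_c_rc_7_1) (@D3.rec (fun _ => (Cert rels S Gen.c)) lc_c_rc_26_4 lc_c_rc_11_1 lc_c_Cert_tree lc_c_rc_23_5 lc_c_rc_7_5 lc_c_Cert_tree lc_c_rc_13_2 lc_c_Cert_tree lc_c_rc_13_2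 lc_c_rc_22_3 lc_c_Cert_tree lc_c_rc_11_1 lc_c_rc_13_2 lc_c_rc_11_1 lc_c_rc_14_0 lc_c_rc_22_3 lc_c_rc_23_0 lc_c_rc_24_2 lc_c_rc_22_5 lc_c_rc_7_3 lc_c_rc_26_2 lc_c_rc_7_3 lc_c_Cert_tree lc_c_rc_13_2 lc_c_rc_11_1 lc_c_rc_11_1 lc_c_rc_7_1 lc_c_Cert_tree lc_c_rc_11_1 lc_c_rc_13_2 lc_c_rc_11_1 lc_c_rc_13_2 lc_c_rc_7_1 lc_c_Cert_tree lc_c_rc_13_2 lc_c_rc_11_1 lc_c_rc_7_3 lc_c_rc_24_2 lc_c_rc_13_2 lc_c_Cert_tree lc_c_rc_7_3 lc_c_rc_24_2 lc_c_rc_7_5 lc_c_rc_13_2 lc_c_rc_11_1 lc_c_rc_11_1 lc_c_rc_2_3 lc_c_Cert_tree lc_c_rc_13_2 lc_c_rc_13_2 lc_c_rc_23_0 lc_c_rc_11_1 lc_c_Cert_tree lc_c_rc_14_2 lc_c_Cert_tree lc_c_rc_11_1 lc_c_rc_23_5 lc_c_rc_13_2 lc_c_rc_11_1 lc_c_Cert_tree lc_c_rc_11_1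 lc_c_rc_26_8) (@D3.rec (fun _ => (Cert rels S Gen.c)) lc_c_rc_11_1 lc_c_Cert_tree lc_c_rc_13_2 lc_c_rc_11_1 lc_c_rc_13_2 lc_c_Cert_tree lc_c_Cert_tree lc_c_rc_14_2 lc_c_Cert_tree lc_c_rc_11_1 lc_c_rc_22_7 lc_c_rc_14_2 lc_c_Cert_tree lc_c_rc_2_3 lc_c_Cert_tree lc_c_rc_13_2 lc_c_rc_14_2 lc_c_rc_11_1 lc_c_rc_7_1 lc_c_rc_24_8 lc_c_rc_7_3 lc_c_rc_24_4 lc_c_rc_26_4 lc_c_rc_11_1 lc_c_rc_26_8 lc_c_rc_11_1 lc_c_rc_13_2 lc_c_rc_13_2 lc_c_rc_11_1 lc_c_rc_13_2 lc_c_Cert_tree lc_c_rc_23_5 lc_c_rc_26_2 lc_c_rc_11_1 lc_c_Cert_tree lc_c_rc_22_3 lc_c_rc_22_9 lc_c_rc_11_1 lc_c_rc_26_4 lc_c_rc_11_1 lc_c_rc_13_2 lc_c_rc_26_8 lc_c_rc_11_1 lc_c_rc_11_1 lc_c_Cert_tree lc_c_rc_13_2 lc_c_rc_11_1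 lc_c_rc_11_1 lc_c_Cert_tree lc_c_rc_13_2 lc_c_rc_11_1 lc_c_rc_13_2 lc_c_Cert_tree lc_c_Cert_tree lc_c_Cert_tree lc_c_rc_14_2 lc_c_rc_11_1 lc_c_rc_22_7 lc_c_rc_14_2 lc_c_rc_14_2 lc_c_rc_26_4 lc_c_rc_11_1) (@D3.rec (fun _ => (Cert rels S Gen.c)) lc_c_rc_26_8 lc_c_rc_11_1 lc_c_rc_24_4 lc_c_rc_11_1 lc_c_rc_12_14 lc_c_rc_13_2 lc_c_rc_23_0 lc_c_rc_26_2 lc_c_rc_26_10 lc_c_rc_24_2 lc_c_rc_23_5 lc_c_rc_11_1 lc_c_rc_7_3 lc_c_rc_7_5 lc_c_rc_11_1 lc_c_rc_13_2 lc_c_rc_11_1 lc_c_rc_7_1 lc_c_rc_11_1 lc_c_Cert_tree lc_c_rc_13_2 lc_c_rc_11_1 lc_c_rc_22_3 lc_c_rc_24_8 lc_c_Cert_tree lc_c_rc_14_2 lc_c_rc_26_10 lc_c_Cert_tree lc_c_rc_11_1 lc_c_rc_11_1 lc_c_rc_13_2 lc_c_rc_22_7 lc_c_Cert_tree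 lc_c_rc_13_2 lc_c_rc_11_1 lc_c_rc_13_2 lc_c_rc_23_0 lc_c_Cert_tree lc_c_rc_14_2 lc_c_rc_11_1 lc_c_rc_26_4 lc_c_rc_11_1 lc_c_rc_13_2 lc_c_rc_26_8 lc_c_rc_11_1 lc_c_rc_23_5 lc_c_rc_11_1 lc_c_rc_26_10 lc_c_Cert_tree lc_c_rc_11_1 lc_c_rc_26_8 lc_c_rc_11_1 lc_c_rc_13_2 lc_c_rc_11_1 lc_c_Cert_tree lc_c_rc_2_3 lc_c_rc_11_1 lc_c_rc_2_3 lc_c_rc_7_1 lc_c_rc_11_1 lc_c_rc_24_6 lc_c_Cert_tree) (@D3.rec (fun _ => (Cert rels S Gen.c)) lc_c_rc_11_1 lc_c_Cert_tree lc_c_rc_13_2 lc_c_rc_11_1 lc_c_rc_13_2 lc_c_rc_2_1 lc_c_rc_22_9 lc_c_Cert_tree lc_c_Cert_tree lc_c_rc_2_3 lc_c_Cert_tree lc_c_rc_7_1 lc_c_rc_13_2 lc_c_rc_11_1 lc_c_Cert_tree lc_c_rc_14_2 lc_c_rc_11_1 lc_c_rc_13_2 lc_c_rc_7_3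 lc_c_rc_11_1 lc_c_rc_13_2 lc_c_rc_7_3 lc_c_rc_22_5 lc_c_rc_2_1 lc_c_rc_13_2 lc_c_rc_11_1 lc_c_rc_13_2 lc_c_rc_26_10 lc_c_rc_26_2 lc_c_rc_22_3 lc_c_Cert_tree lc_c_Cert_tree lc_c_rc_2_3 lc_c_rc_13_2 lc_c_Cert_tree lc_c_rc_14_2 lc_c_rc_11_1 lc_c_rc_14_0 lc_c_rc_14_0 lc_c_rc_7_5 lc_c_rc_24_2 lc_c_rc_24_8 lc_c_rc_14_2 lc_c_Cert_tree lc_c_Cert_tree lc_c_rc_2_3 lc_c_Cert_tree lc_c_rc_13_2 lc_c_rc_13_0 lc_c_rc_11_1 lc_c_Cert_tree lc_c_rc_11_1 lc_c_rc_2_3 lc_c_Cert_tree lc_c_rc_13_2 lc_c_rc_11_1 lc_c_rc_11_1 lc_c_rc_14_2 lc_c_rc_11_1 lc_c_Cert_tree lc_c_Cert_tree lc_c_Cert_tree) (@D3.rec (fun _ => (Cert rels S Gen.c)) lc_c_rc_2_3 lc_c_Cert_tree lc_c_rc_13_2 lc_c_rc_13_2 lc_c_rc_22_7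 lc_c_Cert_tree lc_c_Cert_tree lc_c_rc_11_1 lc_c_rc_22_7 lc_c_rc_13_2 lc_c_rc_14_2 lc_c_Cert_tree lc_c_rc_11_1 lc_c_Cert_tree lc_c_rc_13_2 lc_c_rc_7_5 lc_c_Cert_tree lc_c_rc_13_2 lc_c_Cert_tree lc_c_rc_13_2 lc_c_Cert_tree lc_c_Cert_tree lc_c_rc_11_1 lc_c_rc_13_2 lc_c_rc_11_1 lc_c_rc_11_1 lc_c_rc_26_10 lc_c_rc_14_2 lc_c_rc_26_4 lc_c_rc_13_2 lc_c_rc_22_3 lc_c_rc_13_2 lc_c_Cert_tree lc_c_Cert_tree lc_c_Cert_tree lc_c_rc_14_2 lc_c_rc_7_3 lc_c_rc_11_1 lc_c_Cert_tree lc_c_rc_14_0 lc_c_rc_7_5 lc_c_Cert_tree lc_c_Cert_tree lc_c_Cert_tree lc_c_rc_11_1 lc_c_rc_14_2 lc_c_rc_11_1 lc_c_rc_13_2 lc_c_Cert_tree lc_c_rc_13_2 lc_c_rc_13_2 lc_c_Cert_tree lc_c_rc_11_1 lc_c_Cert_tree lc_c_rc_24_2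 lc_c_rc_11_1 lc_c_Cert_tree lc_c_rc_11_1 lc_c_rc_23_0 lc_c_rc_7_3 lc_c_Cert_tree lc_c_rc_14_2) (@D3.rec (fun _ => (Cert rels S Gen.c)) lc_c_rc_7_3 lc_c_rc_13_2 lc_c_rc_25_5 lc_c_rc_26_2 lc_c_rc_2_3 lc_c_Cert_tree lc_c_rc_13_2 lc_c_rc_2_1 lc_c_rc_14_2 lc_c_rc_26_2 lc_c_rc_13_2 lc_c_rc_11_1 lc_c_rc_14_2 lc_c_rc_11_1 lc_c_rc_7_3 lc_c_rc_13_2 lc_c_rc_11_1 lc_c_rc_13_2 lc_c_rc_24_2 lc_c_rc_26_10 lc_c_rc_2_1 lc_c_rc_11_1 lc_c_Cert_tree lc_c_rc_13_2 lc_c_rc_7_1 lc_c_rc_24_2 lc_c_rc_13_2 lc_c_rc_11_1 lc_c_rc_13_2 lc_c_rc_23_0 lc_c_rc_23_0 lc_c_rc_14_2 lc_c_rc_11_1 lc_c_rc_13_2 lc_c_Cert_tree lc_c_rc_23_5 lc_c_rc_14_2 lc_c_rc_26_4 lc_c_rc_11_1 lc_c_rc_13_2 lc_c_rc_26_8 lc_c_rc_11_1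 lc_c_rc_13_2 lc_c_rc_26_10 lc_c_Cert_tree lc_c_rc_13_2 lc_c_rc_26_10 lc_c_Cert_tree lc_c_rc_11_1 lc_c_Cert_tree lc_c_rc_13_2 lc_c_Cert_tree lc_c_rc_11_1 lc_c_Cert_tree lc_c_rc_11_1 lc_c_rc_13_0 lc_c_rc_11_1 lc_c_rc_13_2 lc_c_rc_13_2 lc_c_rc_11_1 lc_c_rc_14_2 lc_c_rc_2_3) (@D3.rec (fun _ => (Cert rels S Gen.c)) lc_c_Cert_tree lc_c_rc_11_1 lc_c_Cert_tree lc_c_rc_22_7 lc_c_Cert_tree lc_c_rc_7_3 lc_c_rc_2_3 lc_c_Cert_tree lc_c_rc_13_2 lc_c_rc_13_2 lc_c_rc_22_3 lc_c_rc_11_1 lc_c_rc_11_1 lc_c_rc_7_1 lc_c_rc_11_1 lc_c_Cert_tree lc_c_rc_2_3 lc_c_rc_22_3 lc_c_rc_11_1 lc_c_rc_2_3 lc_c_rc_11_1 lc_c_rc_14_0 lc_c_Cert_tree lc_c_Cert_tree lc_c_rc_2_3 lc_c_Cert_tree lc_c_Cert_tree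 lc_c_rc_2_3 lc_c_rc_11_1 lc_c_rc_13_2 lc_c_rc_13_2 lc_c_rc_11_1 lc_c_rc_13_2 lc_c_rc_14_0 lc_c_rc_14_2 lc_c_rc_11_1 lc_c_Cert_tree lc_c_rc_11_1 lc_c_rc_13_2 lc_c_rc_26_8 lc_c_rc_11_1 lc_c_rc_2_3 lc_c_rc_13_2 lc_c_Cert_tree lc_c_rc_26_4 lc_c_rc_11_1 lc_c_rc_2_1 lc_c_rc_7_5 lc_c_Cert_tree lc_c_rc_13_2 lc_c_Cert_tree lc_c_Cert_tree lc_c_rc_11_1 lc_c_rc_13_2 lc_c_rc_24_6 lc_c_rc_24_6 lc_c_rc_22_7 lc_c_rc_14_2 lc_c_Cert_tree lc_c_rc_13_2 lc_c_Cert_tree lc_c_rc_13_2) (@D3.rec (fun _ => (Cert rels S Gen.c)) lc_c_rc_22_3 lc_c_rc_23_0 lc_c_rc_22_5 lc_c_rc_14_2 lc_c_rc_7_3 lc_c_rc_24_2 lc_c_rc_13_2 lc_c_rc_7_5 lc_c_rc_23_5 lc_c_rc_23_5 lc_c_rc_11_1 lc_c_rc_2_3 lc_c_rc_11_1 lc_c_Cert_tree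 lc_c_rc_11_1 lc_c_rc_7_1 lc_c_Cert_tree lc_c_rc_13_2 lc_c_rc_24_6 lc_c_rc_11_1 lc_c_rc_11_1 lc_c_Cert_tree lc_c_rc_13_2 lc_c_rc_7_1 lc_c_rc_22_7 lc_c_rc_13_2 lc_c_rc_11_1 lc_c_rc_14_2 lc_c_rc_7_3 lc_c_rc_22_3 lc_c_rc_11_1 lc_c_rc_25_13 lc_c_rc_26_8 lc_c_rc_11_1 lc_c_Cert_tree lc_c_rc_25_17 lc_c_rc_11_1 lc_c_rc_13_2 lc_c_rc_2_1 lc_c_Cert_tree lc_c_rc_13_2 lc_c_Cert_tree lc_c_Cert_tree lc_c_rc_26_2 lc_c_rc_24_4 lc_c_rc_22_7 lc_c_rc_11_1 lc_c_rc_26_2 lc_c_rc_13_2 lc_c_rc_14_2 lc_c_rc_11_1 lc_c_rc_23_0 lc_c_rc_13_2 lc_c_rc_13_2 lc_c_rc_22_3 lc_c_rc_2_1 lc_c_rc_11_1 lc_c_rc_7_1 lc_c_rc_11_1 lc_c_rc_11_1 lc_c_rc_13_2 lc_c_Cert_tree) (@D3.rec (fun _ => (Cert rels S Gen.c))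 lc_c_Cert_tree lc_c_rc_13_0 lc_c_rc_14_2 lc_c_rc_26_4 lc_c_rc_11_1 lc_c_rc_13_2 lc_c_Cert_tree lc_c_rc_11_1 lc_c_rc_13_2 lc_c_Cert_tree lc_c_rc_24_6 lc_c_Cert_tree lc_c_rc_13_2 lc_c_Cert_tree lc_c_rc_24_2 lc_c_rc_14_2 lc_c_rc_11_1 lc_c_rc_11_1 lc_c_rc_11_1 lc_c_rc_13_2 lc_c_rc_24_4 lc_c_Cert_tree lc_c_rc_11_1 lc_c_rc_13_2 lc_c_rc_23_0 lc_c_rc_11_1 lc_c_rc_22_3 lc_c_rc_14_2 lc_c_Cert_tree lc_c_rc_22_3 lc_c_Cert_tree lc_c_rc_11_1 lc_c_rc_11_1 lc_c_Cert_tree lc_c_rc_11_1 lc_c_rc_23_5 lc_c_rc_11_1 lc_c_rc_14_0 lc_c_rc_7_1 lc_c_Cert_tree lc_c_rc_11_1 lc_c_rc_26_8 lc_c_rc_23_5 lc_c_Cert_tree lc_c_rc_2_3 lc_c_rc_7_3 lc_c_rc_11_1 lc_c_rc_24_4 lc_c_Cert_tree lc_c_Cert_tree lc_c_rc_2_3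 lc_c_Cert_tree lc_c_rc_22_5 lc_c_rc_22_7 lc_c_rc_25_5 lc_c_Cert_tree lc_c_Cert_tree lc_c_rc_7_1 lc_c_Cert_tree lc_c_rc_13_2 lc_c_rc_13_2 lc_c_rc_13_2) (@D3.rec (fun _ => (Cert rels S Gen.c)) lc_c_rc_13_2 lc_c_Cert_tree lc_c_rc_14_2 lc_c_rc_11_1 lc_c_rc_11_1 lc_c_Cert_tree lc_c_Cert_tree lc_c_rc_2_3 lc_c_Cert_tree lc_c_Cert_tree lc_c_rc_2_3 lc_c_rc_13_2 lc_c_Cert_tree lc_c_Cert_tree lc_c_rc_7_5 lc_c_rc_13_2 lc_c_Cert_tree lc_c_rc_13_2 lc_c_Cert_tree lc_c_Cert_tree lc_c_rc_11_1 lc_c_rc_14_0 lc_c_rc_24_6 lc_c_rc_7_1 lc_c_Cert_tree lc_c_rc_14_2 lc_c_Cert_tree lc_c_rc_22_7 lc_c_rc_13_2 lc_c_Cert_tree lc_c_Cert_tree lc_c_Cert_tree lc_c_rc_14_2 lc_c_rc_7_3 lc_c_rc_11_1 lc_c_Cert_tree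 lc_c_rc_13_2 lc_c_rc_13_2 lc_c_rc_11_1 lc_c_Cert_tree lc_c_rc_11_1 lc_c_Cert_tree lc_c_Cert_tree lc_c_rc_11_1 lc_c_rc_14_2 lc_c_rc_23_5 lc_c_rc_7_3 lc_c_Cert_tree lc_c_rc_13_2 lc_c_rc_11_1 lc_c_Cert_tree lc_c_rc_13_2 lc_c_Cert_tree lc_c_rc_14_0 lc_c_rc_26_2 lc_c_rc_11_1 lc_c_rc_26_2 lc_c_rc_11_1 lc_c_rc_11_1 lc_c_rc_13_2 lc_c_rc_24_8 lc_c_rc_13_2) (@D3.rec (fun _ => (Cert rels S Gen.c)) lc_c_rc_23_0 lc_c_rc_24_8 lc_c_rc_11_1 lc_c_rc_23_0 lc_c_Cert_tree lc_c_Cert_tree lc_c_rc_26_4 lc_c_rc_11_1 lc_c_rc_13_2 lc_c_rc_26_8 lc_c_rc_11_1 lc_c_rc_11_1 lc_c_rc_24_6 lc_c_rc_2_3 lc_c_rc_13_2 lc_c_Cert_tree lc_c_Cert_tree lc_c_rc_11_1 lc_c_rc_2_3 lc_c_rc_13_2 lc_c_rc_23_5 lc_c_rc_11_1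 lc_c_rc_26_10 lc_c_rc_13_2 lc_c_rc_12_0 lc_c_Cert_tree lc_c_rc_11_1 lc_c_rc_23_5 lc_c_rc_2_1 lc_c_rc_7_3 lc_c_rc_7_1 lc_c_rc_22_9 lc_c_rc_2_3 lc_c_rc_11_1 lc_c_rc_13_2 lc_c_rc_11_1 lc_c_rc_11_1 lc_c_rc_11_1 lc_c_Cert_tree lc_c_rc_13_2 lc_c_rc_11_1 lc_c_rc_13_2 lc_c_Cert_tree lc_c_Cert_tree lc_c_rc_11_1 lc_c_Cert_tree lc_c_rc_11_1 lc_c_rc_13_2 lc_c_rc_2_3 lc_c_Cert_tree lc_c_rc_13_2 lc_c_rc_11_1 lc_c_rc_13_2 lc_c_Cert_tree lc_c_Cert_tree lc_c_rc_14_2 lc_c_rc_11_1 lc_c_Cert_tree lc_c_rc_13_2 lc_c_rc_7_5 lc_c_Cert_tree lc_c_Cert_tree) (@D3.rec (fun _ => (Cert rels S Gen.c)) lc_c_Cert_tree lc_c_rc_11_1 lc_c_rc_13_2 lc_c_Cert_tree lc_c_Cert_tree lc_c_Cert_tree lc_c_rc_14_2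 lc_c_rc_26_4 lc_c_rc_11_1 lc_c_rc_24_6 lc_c_rc_11_1 lc_c_rc_13_2 lc_c_rc_24_6 lc_c_rc_11_1 lc_c_rc_13_0 lc_c_rc_13_2 lc_c_rc_11_1 lc_c_rc_11_1 lc_c_rc_14_2 lc_c_rc_26_4 lc_c_rc_11_1 lc_c_rc_11_1 lc_c_rc_2_3 lc_c_rc_13_2 lc_c_rc_7_1 lc_c_rc_23_5 lc_c_rc_11_1 lc_c_rc_7_3 lc_c_rc_11_1 lc_c_rc_13_2 lc_c_Cert_tree lc_c_rc_11_1 lc_c_rc_22_3 lc_c_rc_23_0 lc_c_rc_14_0 lc_c_rc_22_7 lc_c_rc_14_2 lc_c_Cert_tree lc_c_rc_22_3 lc_c_Cert_tree lc_c_Cert_tree lc_c_rc_14_0 lc_c_rc_11_1 lc_c_rc_23_0 lc_c_rc_22_5 lc_c_rc_14_2 lc_c_rc_7_3 lc_c_rc_11_1 lc_c_rc_2_3 lc_c_rc_26_8 lc_c_rc_26_2 lc_c_rc_11_1 lc_c_rc_13_2 lc_c_rc_2_3 lc_c_rc_23_0 lc_c_rc_11_1 lc_c_Cert_tree lc_c_rc_13_2 lc_c_rc_7_1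 lc_c_rc_26_4 lc_c_rc_13_2 lc_c_rc_11_1) (@D3.rec (fun _ => (Cert rels S Gen.c)) lc_c_rc_13_2 lc_c_Cert_tree lc_c_rc_13_2 lc_c_rc_11_1 lc_c_Cert_tree lc_c_rc_26_4 lc_c_rc_7_5 lc_c_rc_13_2 lc_c_rc_24_6 lc_c_rc_24_4 lc_c_rc_13_0 lc_c_rc_14_2 lc_c_rc_26_4 lc_c_rc_11_1 lc_c_rc_13_2 lc_c_Cert_tree lc_c_rc_11_1 lc_c_rc_24_4 lc_c_rc_11_1 lc_c_rc_11_1 lc_c_rc_2_1 lc_c_rc_13_2 lc_c_rc_26_4 lc_c_rc_11_1 lc_c_rc_25_1 lc_c_Cert_tree lc_c_rc_11_1 lc_c_rc_13_2 lc_c_rc_26_10 lc_c_rc_11_1 lc_c_rc_24_2 lc_c_rc_13_2 lc_c_rc_11_1 lc_c_Cert_tree lc_c_rc_13_2 lc_c_rc_11_1 lc_c_rc_22_3 lc_c_rc_14_2 lc_c_rc_11_1 lc_c_Cert_tree lc_c_rc_26_2 lc_c_rc_13_2 lc_c_rc_7_1 lc_c_Cert_tree lc_c_rc_13_2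 lc_c_Cert_tree lc_c_rc_11_1 lc_c_rc_13_2 lc_c_rc_14_2 lc_c_Cert_tree lc_c_Cert_tree lc_c_Cert_tree lc_c_rc_14_2 lc_c_rc_13_2 lc_c_rc_26_2 lc_c_Cert_tree lc_c_rc_13_2 lc_c_Cert_tree lc_c_rc_11_1 lc_c_rc_22_5 lc_c_rc_7_1 lc_c_rc_13_2)
def ce_c_11 : D2 → D3 → (Cert rels S Gen.c) := @D2.rec (fun _ => D3 → (Cert rels S Gen.c)) (@D3.rec (fun _ => (Cert rels S Gen.c)) lc_c_rc_7_3 lc_c_Cert_tree lc_c_Cert_tree lc_c_rc_11_1 lc_c_rc_13_2 lc_c_rc_14_2 lc_c_rc_24_4 lc_c_rc_22_3 lc_c_Cert_tree lc_c_rc_14_2 lc_c_rc_13_2 lc_c_rc_11_1 lc_c_rc_13_2 lc_c_rc_11_1 lc_c_rc_23_0 lc_c_rc_7_1 lc_c_rc_22_3 lc_c_rc_13_2 lc_c_rc_14_2 lc_c_rc_22_5 lc_c_rc_22_9 lc_c_rc_24_2 lc_c_Cert_tree lc_c_rc_11_1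 lc_c_rc_13_2 lc_c_rc_11_1 lc_c_rc_11_1 lc_c_rc_24_2 lc_c_rc_13_2 lc_c_rc_7_1 lc_c_Cert_tree lc_c_rc_13_2 lc_c_rc_11_1 lc_c_rc_26_8 lc_c_rc_22_3 lc_c_rc_24_2 lc_c_rc_26_4 lc_c_rc_14_2 lc_c_Cert_tree lc_c_rc_13_2 lc_c_rc_11_1 lc_c_rc_13_2 lc_c_Cert_tree lc_c_rc_7_5 lc_c_rc_14_2 lc_c_rc_23_0 lc_c_rc_12_2 lc_c_rc_13_2 lc_c_Cert_tree lc_c_rc_23_5 lc_c_rc_23_0 lc_c_rc_26_10 lc_c_rc_7_3 lc_c_rc_2_1 lc_c_rc_13_2 lc_c_Cert_tree lc_c_Cert_tree lc_c_rc_14_2 lc_c_rc_13_0 lc_c_rc_11_1 lc_c_rc_24_2 lc_c_rc_13_0) (@D3.rec (fun _ => (Cert rels S Gen.c)) lc_c_rc_22_7 lc_c_rc_11_1 lc_c_rc_14_0 lc_c_rc_11_1 lc_c_rc_13_0 lc_c_rc_11_1 lc_c_rc_23_5 lc_c_rc_2_3 lc_c_rc_2_3 lc_c_rc_12_0 lc_c_rc_22_7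 lc_c_rc_11_1 lc_c_rc_13_2 lc_c_rc_24_4 lc_c_rc_24_6 lc_c_Cert_tree lc_c_rc_14_2 lc_c_Cert_tree lc_c_rc_11_1 lc_c_rc_14_2 lc_c_rc_13_2 lc_c_rc_11_1 lc_c_rc_7_5 lc_c_Cert_tree lc_c_rc_11_1 lc_c_rc_26_10 lc_c_rc_13_2 lc_c_Cert_tree lc_c_rc_11_1 lc_c_rc_26_10 lc_c_rc_13_2 lc_c_rc_23_5 lc_c_rc_13_0 lc_c_rc_11_1 lc_c_rc_11_1 lc_c_rc_24_6 lc_c_rc_11_1 lc_c_rc_11_1 lc_c_rc_11_1 lc_c_rc_26_8 lc_c_rc_11_1 lc_c_Cert_tree lc_c_rc_13_2 lc_c_rc_11_1 lc_c_rc_14_0 lc_c_rc_13_2 lc_c_rc_13_0 lc_c_Cert_tree lc_c_Cert_tree lc_c_rc_11_1 lc_c_rc_13_2 lc_c_rc_11_1 lc_c_rc_13_2 lc_c_rc_11_1 lc_c_rc_13_0 lc_c_rc_11_1 lc_c_Cert_tree lc_c_Cert_tree lc_c_rc_11_1 lc_c_rc_7_3 lc_c_rc_11_1 lc_c_rc_13_2)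 (@D3.rec (fun _ => (Cert rels S Gen.c)) lc_c_rc_23_5 lc_c_rc_11_1 lc_c_Cert_tree lc_c_rc_13_2 lc_c_rc_24_2 lc_c_rc_22_9 lc_c_rc_11_1 lc_c_rc_26_2 lc_c_rc_13_2 lc_c_rc_13_2 lc_c_rc_24_4 lc_c_rc_2_3 lc_c_rc_7_3 lc_c_rc_22_7 lc_c_rc_7_1 lc_c_Cert_tree lc_c_rc_13_2 lc_c_Cert_tree lc_c_rc_11_1 lc_c_rc_13_2 lc_c_rc_23_0 lc_c_Cert_tree lc_c_rc_7_3 lc_c_rc_7_1 lc_c_Cert_tree lc_c_rc_13_2 lc_c_Cert_tree lc_c_rc_11_1 lc_c_rc_13_2 lc_c_rc_24_2 lc_c_rc_7_3 lc_c_rc_26_10 lc_c_rc_26_2 lc_c_rc_7_3 lc_c_rc_13_2 lc_c_rc_26_10 lc_c_rc_11_1 lc_c_rc_11_1 lc_c_rc_13_2 lc_c_rc_13_2 lc_c_rc_13_0 lc_c_rc_13_0 lc_c_rc_11_1 lc_c_Cert_tree lc_c_rc_13_2 lc_c_rc_24_4 lc_c_rc_11_1 lc_c_rc_2_3 lc_c_Cert_tree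 lc_c_rc_13_2 lc_c_rc_24_6 lc_c_rc_24_2 lc_c_rc_14_2 lc_c_rc_11_1 lc_c_rc_11_1 lc_c_rc_13_2 lc_c_rc_26_10 lc_c_rc_24_2 lc_c_rc_14_2 lc_c_rc_26_4 lc_c_rc_11_1 lc_c_rc_2_3) (@D3.rec (fun _ => (Cert rels S Gen.c)) lc_c_rc_13_2 lc_c_rc_13_2 lc_c_rc_13_2 lc_c_rc_11_1 lc_c_rc_23_0 lc_c_Cert_tree lc_c_rc_14_2 lc_c_rc_11_1 lc_c_rc_11_1 lc_c_rc_13_2 lc_c_rc_11_1 lc_c_rc_7_1 lc_c_rc_13_2 lc_c_rc_26_2 lc_c_rc_14_2 lc_c_Cert_tree lc_c_rc_11_1 lc_c_rc_2_3 lc_c_Cert_tree lc_c_rc_13_2 lc_c_rc_13_2 lc_c_rc_11_1 lc_c_Cert_tree lc_c_rc_14_2 lc_c_rc_11_1 lc_c_Cert_tree lc_c_Cert_tree lc_c_Cert_tree lc_c_rc_11_1 lc_c_Cert_tree lc_c_rc_13_2 lc_c_rc_13_2 lc_c_Cert_tree lc_c_rc_14_2 lc_c_rc_26_2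 lc_c_rc_11_1 lc_c_rc_11_1 lc_c_Cert_tree lc_c_rc_13_2 lc_c_rc_13_2 lc_c_Cert_tree lc_c_rc_11_1 lc_c_rc_24_2 lc_c_rc_13_2 lc_c_rc_7_5 lc_c_rc_24_2 lc_c_rc_13_2 lc_c_Cert_tree lc_c_rc_11_1 lc_c_rc_13_2 lc_c_rc_24_4 lc_c_rc_11_1 lc_c_rc_7_3 lc_c_rc_11_1 lc_c_rc_13_2 lc_c_rc_7_3 lc_c_rc_11_1 lc_c_rc_22_5 lc_c_rc_13_2 lc_c_rc_26_2 lc_c_rc_24_2 lc_c_rc_23_0) (@D3.rec (fun _ => (Cert rels S Gen.c)) lc_c_rc_14_2 lc_c_Cert_tree lc_c_rc_13_2 lc_c_rc_26_4 lc_c_rc_24_2 lc_c_rc_13_2 lc_c_rc_2_3 lc_c_Cert_tree lc_c_rc_11_1 lc_c_rc_14_2 lc_c_rc_11_1 lc_c_rc_26_2 lc_c_rc_24_6 lc_c_rc_7_1 lc_c_rc_11_1 lc_c_rc_13_2 lc_c_rc_7_1 lc_c_rc_2_3 lc_c_rc_13_2 lc_c_rc_11_1 lc_c_rc_23_5 lc_c_rc_7_3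 lc_c_rc_11_1 lc_c_rc_13_2 lc_c_rc_24_8 lc_c_rc_11_1 lc_c_rc_13_2 lc_c_rc_23_0 lc_c_rc_24_2 lc_c_rc_14_2 lc_c_rc_22_5 lc_c_rc_7_3 lc_c_rc_24_2 lc_c_rc_13_2 lc_c_Cert_tree lc_c_rc_11_1 lc_c_rc_12_2 lc_c_rc_11_1 lc_c_rc_11_1 lc_c_rc_13_2 lc_c_rc_13_2 lc_c_rc_13_2 lc_c_rc_11_1 lc_c_rc_11_1 lc_c_rc_22_3 lc_c_rc_14_2 lc_c_rc_26_4 lc_c_rc_11_1 lc_c_Cert_tree lc_c_rc_13_2 lc_c_rc_24_2 lc_c_rc_11_1 lc_c_Cert_tree lc_c_rc_26_4 lc_c_rc_26_8 lc_c_rc_13_0 lc_c_Cert_tree lc_c_Cert_tree lc_c_rc_24_8 lc_c_Cert_tree lc_c_rc_23_5 lc_c_rc_11_1) (@D3.rec (fun _ => (Cert rels S Gen.c)) lc_c_rc_7_3 lc_c_rc_22_5 lc_c_rc_13_2 lc_c_rc_24_2 lc_c_rc_14_2 lc_c_rc_7_5 lc_c_rc_13_2 lc_c_rc_11_1 lc_c_rc_11_1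 lc_c_rc_2_3 lc_c_Cert_tree lc_c_rc_13_2 lc_c_rc_13_2 lc_c_rc_13_0 lc_c_rc_11_1 lc_c_Cert_tree lc_c_rc_14_2 lc_c_rc_11_1 lc_c_rc_26_8 lc_c_rc_11_1 lc_c_rc_26_4 lc_c_rc_11_1 lc_c_rc_26_8 lc_c_rc_11_1 lc_c_rc_13_2 lc_c_rc_13_2 lc_c_Cert_tree lc_c_Cert_tree lc_c_Cert_tree lc_c_rc_14_2 lc_c_Cert_tree lc_c_rc_23_0 lc_c_rc_11_1 lc_c_rc_23_0 lc_c_rc_11_1 lc_c_rc_7_5 lc_c_rc_11_1 lc_c_rc_13_2 lc_c_rc_11_1 lc_c_rc_7_1 lc_c_rc_11_1 lc_c_Cert_tree lc_c_rc_13_2 lc_c_rc_11_1 lc_c_rc_13_2 lc_c_rc_12_2 lc_c_Cert_tree lc_c_rc_14_2 lc_c_rc_26_4 lc_c_rc_26_8 lc_c_rc_13_2 lc_c_Cert_tree lc_c_rc_13_2 lc_c_rc_11_1 lc_c_rc_13_2 lc_c_rc_23_0 lc_c_Cert_tree lc_c_rc_14_2 lc_c_rc_13_2 lc_c_rc_11_1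 lc_c_rc_11_1 lc_c_rc_13_2) (@D3.rec (fun _ => (Cert rels S Gen.c)) lc_c_rc_2_3 lc_c_Cert_tree lc_c_rc_13_2 lc_c_Cert_tree lc_c_Cert_tree lc_c_rc_14_0 lc_c_rc_11_1 lc_c_rc_13_2 lc_c_rc_23_5 lc_c_rc_26_4 lc_c_rc_7_3 lc_c_rc_13_2 lc_c_rc_13_2 lc_c_rc_13_2 lc_c_Cert_tree lc_c_Cert_tree lc_c_rc_13_2 lc_c_rc_11_1 lc_c_rc_26_4 lc_c_rc_26_2 lc_c_rc_24_2 lc_c_rc_13_2 lc_c_Cert_tree lc_c_Cert_tree lc_c_rc_14_2 lc_c_rc_13_0 lc_c_rc_11_1 lc_c_rc_23_0 lc_c_rc_26_4 lc_c_rc_13_2 lc_c_Cert_tree lc_c_rc_25_13 lc_c_rc_24_6 lc_c_rc_26_2 lc_c_rc_11_1 lc_c_rc_23_0 lc_c_rc_11_1 lc_c_rc_11_1 lc_c_rc_24_8 lc_c_rc_11_1 lc_c_rc_14_0 lc_c_rc_26_8 lc_c_Cert_tree lc_c_rc_13_2 lc_c_rc_24_2 lc_c_rc_13_2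 lc_c_rc_11_1 lc_c_rc_23_0 lc_c_rc_13_2 lc_c_rc_26_4 lc_c_Cert_tree lc_c_rc_11_1 lc_c_rc_13_2 lc_c_rc_11_1 lc_c_rc_2_3 lc_c_rc_26_8 lc_c_rc_11_1 lc_c_rc_13_2 lc_c_Cert_tree lc_c_rc_26_2 lc_c_rc_26_4 lc_c_rc_13_0) (@D3.rec (fun _ => (Cert rels S Gen.c)) lc_c_rc_11_1 lc_c_rc_26_4 lc_c_rc_26_4 lc_c_rc_22_3 lc_c_rc_2_3 lc_c_rc_26_2 lc_c_rc_13_2 lc_c_rc_7_5 lc_c_rc_24_4 lc_c_rc_24_4 lc_c_rc_11_1 lc_c_rc_7_3 lc_c_rc_22_5 lc_c_rc_13_2 lc_c_rc_24_4 lc_c_rc_26_4 lc_c_rc_13_2 lc_c_rc_11_1 lc_c_rc_13_2 lc_c_rc_13_2 lc_c_rc_11_1 lc_c_rc_12_2 lc_c_rc_13_2 lc_c_rc_14_2 lc_c_rc_7_3 lc_c_rc_22_5 lc_c_rc_26_10 lc_c_rc_11_1 lc_c_rc_7_5 lc_c_rc_26_4 lc_c_rc_11_1 lc_c_rc_2_1 lc_c_rc_13_2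 lc_c_rc_23_0 lc_c_rc_11_1 lc_c_rc_22_5 lc_c_rc_13_2 lc_c_Cert_tree lc_c_rc_14_2 lc_c_rc_11_1 lc_c_rc_13_2 lc_c_rc_26_2 lc_c_rc_12_2 lc_c_rc_13_2 lc_c_rc_26_4 lc_c_rc_12_14 lc_c_rc_13_2 lc_c_rc_11_1 lc_c_rc_13_2 lc_c_rc_11_1 lc_c_rc_22_5 lc_c_rc_11_1 lc_c_rc_13_2 lc_c_rc_23_5 lc_c_Cert_tree lc_c_rc_11_1 lc_c_Cert_tree lc_c_rc_13_2 lc_c_Cert_tree lc_c_rc_11_1 lc_c_rc_7_5 lc_c_rc_13_2) (@D3.rec (fun _ => (Cert rels S Gen.c)) lc_c_rc_13_0 lc_c_rc_11_1 lc_c_rc_26_2 lc_c_rc_26_10 lc_c_rc_11_1 lc_c_rc_26_2 lc_c_rc_26_10 lc_c_rc_11_1 lc_c_rc_26_4 lc_c_rc_11_1 lc_c_rc_11_1 lc_c_rc_24_4 lc_c_rc_7_3 lc_c_Cert_tree lc_c_rc_14_2 lc_c_rc_13_2 lc_c_Cert_tree lc_c_rc_13_2 lc_c_rc_11_1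 lc_c_rc_12_2 lc_c_rc_11_1 lc_c_rc_14_2 lc_c_rc_22_3 lc_c_rc_11_1 lc_c_rc_22_9 lc_c_rc_23_5 lc_c_rc_11_1 lc_c_rc_11_1 lc_c_rc_23_0 lc_c_rc_22_5 lc_c_rc_13_2 lc_c_rc_13_2 lc_c_Cert_tree lc_c_rc_26_2 lc_c_rc_22_7 lc_c_rc_2_3 lc_c_Cert_tree lc_c_Cert_tree lc_c_rc_11_1 lc_c_rc_26_10 lc_c_rc_11_1 lc_c_rc_2_3 lc_c_rc_13_2 lc_c_rc_13_0 lc_c_rc_23_5 lc_c_Cert_tree lc_c_rc_14_2 lc_c_rc_23_0 lc_c_rc_24_2 lc_c_rc_14_2 lc_c_rc_2_3 lc_c_rc_13_2 lc_c_rc_23_0 lc_c_rc_11_1 lc_c_Cert_tree lc_c_rc_14_2 lc_c_rc_11_1 lc_c_rc_23_5 lc_c_Cert_tree lc_c_Cert_tree lc_c_rc_12_4 lc_c_rc_14_2) (@D3.rec (fun _ => (Cert rels S Gen.c)) lc_c_Cert_tree lc_c_rc_14_2 lc_c_rc_26_2 lc_c_rc_11_1 lc_c_rc_2_3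 lc_c_rc_13_2 lc_c_Cert_tree lc_c_rc_14_2 lc_c_rc_26_4 lc_c_rc_11_1 lc_c_rc_13_2 lc_c_rc_7_5 lc_c_rc_13_2 lc_c_rc_13_2 lc_c_rc_24_2 lc_c_rc_13_2 lc_c_rc_14_2 lc_c_rc_7_5 lc_c_Cert_tree lc_c_rc_13_2 lc_c_rc_7_5 lc_c_Cert_tree lc_c_Cert_tree lc_c_rc_13_0 lc_c_rc_11_1 lc_c_rc_14_2 lc_c_rc_11_1 lc_c_rc_23_5 lc_c_rc_7_1 lc_c_Cert_tree lc_c_rc_13_2 lc_c_rc_13_2 lc_c_Cert_tree lc_c_rc_11_1 lc_c_Cert_tree lc_c_rc_26_4 lc_c_rc_11_1 lc_c_Cert_tree lc_c_rc_23_0 lc_c_rc_11_1 lc_c_rc_7_3 lc_c_Cert_tree lc_c_rc_14_2 lc_c_rc_26_2 lc_c_rc_26_2 lc_c_rc_2_3 lc_c_Cert_tree lc_c_rc_13_2 lc_c_rc_11_1 lc_c_rc_13_2 lc_c_rc_11_1 lc_c_rc_7_5 lc_c_rc_11_1 lc_c_rc_11_1 lc_c_rc_13_2 lc_c_rc_11_1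 lc_c_rc_13_2 lc_c_rc_13_2 lc_c_rc_14_0 lc_c_rc_14_2 lc_c_rc_24_8 lc_c_rc_7_5) (@D3.rec (fun _ => (Cert rels S Gen.c)) lc_c_rc_11_1 lc_c_Cert_tree lc_c_rc_13_2 lc_c_rc_24_2 lc_c_rc_13_2 lc_c_rc_11_1 lc_c_rc_13_2 lc_c_rc_24_8 lc_c_rc_26_2 lc_c_rc_14_2 lc_c_rc_11_1 lc_c_rc_26_10 lc_c_Cert_tree lc_c_rc_23_0 lc_c_rc_26_4 lc_c_rc_11_1 lc_c_Cert_tree lc_c_rc_13_2 lc_c_Cert_tree lc_c_rc_11_1 lc_c_rc_13_2 lc_c_rc_11_1 lc_c_rc_13_0 lc_c_rc_26_2 lc_c_rc_24_4 lc_c_rc_7_3 lc_c_rc_14_2 lc_c_rc_11_1 lc_c_rc_11_1 lc_c_rc_13_2 lc_c_rc_11_1 lc_c_rc_7_1 lc_c_Cert_tree lc_c_rc_13_2 lc_c_rc_26_2 lc_c_rc_23_0 lc_c_rc_2_3 lc_c_Cert_tree lc_c_rc_13_2 lc_c_rc_11_1 lc_c_rc_11_1 lc_c_rc_24_2 lc_c_rc_23_5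 lc_c_rc_11_1 lc_c_Cert_tree lc_c_rc_11_1 lc_c_rc_11_1 lc_c_Cert_tree lc_c_rc_23_5 lc_c_rc_11_1 lc_c_rc_13_2 lc_c_rc_7_3 lc_c_rc_13_2 lc_c_rc_2_3 lc_c_rc_12_0 lc_c_rc_13_2 lc_c_rc_7_5 lc_c_rc_13_2 lc_c_rc_11_1 lc_c_rc_13_2 lc_c_rc_13_2 lc_c_rc_11_1) (@D3.rec (fun _ => (Cert rels S Gen.c)) lc_c_rc_13_2 lc_c_rc_7_3 lc_c_rc_13_2 lc_c_rc_7_3 lc_c_rc_13_2 lc_c_rc_13_2 lc_c_rc_2_3 lc_c_rc_2_1 lc_c_rc_22_7 lc_c_rc_14_2 lc_c_rc_23_0 lc_c_rc_11_1 lc_c_rc_24_4 lc_c_Cert_tree lc_c_rc_11_1 lc_c_rc_13_2 lc_c_rc_2_3 lc_c_rc_13_2 lc_c_rc_22_7 lc_c_rc_13_2 lc_c_rc_22_3 lc_c_rc_22_3 lc_c_rc_13_0 lc_c_rc_26_10 lc_c_rc_26_8 lc_c_rc_12_14 lc_c_rc_13_2 lc_c_rc_11_1 lc_c_rc_11_1 lc_c_rc_12_8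 lc_c_rc_13_2 lc_c_Cert_tree lc_c_rc_14_2 lc_c_rc_11_1 lc_c_rc_13_2 lc_c_rc_7_1 lc_c_rc_22_5 lc_c_rc_13_2 lc_c_rc_13_0 lc_c_rc_14_2 lc_c_rc_13_2 lc_c_rc_11_1 lc_c_rc_13_2 lc_c_rc_26_8 lc_c_rc_22_5 lc_c_rc_13_2 lc_c_rc_11_1 lc_c_rc_11_1 lc_c_rc_22_3 lc_c_rc_13_0 lc_c_Cert_tree lc_c_Cert_tree lc_c_rc_11_1 lc_c_rc_24_4 lc_c_rc_2_3 lc_c_rc_22_3 lc_c_rc_13_2 lc_c_rc_26_2 lc_c_rc_26_4 lc_c_rc_23_5 lc_c_rc_2_3 lc_c_rc_11_1) (@D3.rec (fun _ => (Cert rels S Gen.c)) lc_c_rc_24_4 lc_c_rc_11_1 lc_c_rc_13_2 lc_c_rc_26_4 lc_c_rc_26_2 lc_c_rc_24_4 lc_c_rc_13_2 lc_c_rc_14_0 lc_c_rc_11_1 lc_c_Cert_tree lc_c_rc_14_2 lc_c_Cert_tree lc_c_Cert_tree lc_c_rc_11_1 lc_c_rc_23_0 lc_c_Cert_tree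 lc_c_rc_11_1 lc_c_Cert_tree lc_c_rc_11_1 lc_c_rc_13_2 lc_c_rc_12_2 lc_c_rc_13_2 lc_c_rc_11_1 lc_c_rc_13_2 lc_c_rc_24_8 lc_c_rc_13_0 lc_c_rc_7_3 lc_c_rc_13_2 lc_c_rc_12_2 lc_c_rc_11_1 lc_c_rc_2_3 lc_c_rc_24_4 lc_c_rc_22_7 lc_c_rc_11_1 lc_c_rc_13_2 lc_c_rc_13_2 lc_c_rc_26_2 lc_c_rc_11_1 lc_c_rc_22_9 lc_c_rc_14_2 lc_c_rc_7_5 lc_c_rc_26_8 lc_c_rc_14_2 lc_c_rc_24_4 lc_c_rc_23_0 lc_c_rc_23_0 lc_c_rc_11_1 lc_c_Cert_tree lc_c_rc_7_1 lc_c_rc_22_3 lc_c_Cert_tree lc_c_rc_23_0 lc_c_rc_7_3 lc_c_rc_11_1 lc_c_Cert_tree lc_c_Cert_tree lc_c_Cert_tree lc_c_rc_11_1 lc_c_Cert_tree lc_c_rc_23_0 lc_c_Cert_tree lc_c_rc_13_2) (@D3.rec (fun _ => (Cert rels S Gen.c)) lc_c_Cert_tree lc_c_Cert_tree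 lc_c_rc_14_2 lc_c_rc_11_1 lc_c_Cert_tree lc_c_rc_11_1 lc_c_rc_13_2 lc_c_rc_11_1 lc_c_rc_13_2 lc_c_rc_7_3 lc_c_rc_24_8 lc_c_rc_13_2 lc_c_rc_26_8 lc_c_rc_11_1 lc_c_rc_26_2 lc_c_rc_7_3 lc_c_rc_22_5 lc_c_rc_13_2 lc_c_rc_13_0 lc_c_rc_11_1 lc_c_rc_14_2 lc_c_rc_26_2 lc_c_rc_2_3 lc_c_rc_11_1 lc_c_rc_23_5 lc_c_Cert_tree lc_c_Cert_tree lc_c_rc_11_1 lc_c_rc_22_3 lc_c_rc_26_4 lc_c_rc_11_1 lc_c_rc_24_8 lc_c_rc_11_1 lc_c_rc_13_2 lc_c_rc_24_6 lc_c_rc_7_3 lc_c_rc_22_7 lc_c_rc_13_2 lc_c_rc_13_0 lc_c_rc_14_2 lc_c_rc_26_4 lc_c_Cert_tree lc_c_rc_11_1 lc_c_rc_11_1 lc_c_rc_23_0 lc_c_rc_23_5 lc_c_rc_13_2 lc_c_rc_26_2 lc_c_rc_13_0 lc_c_rc_11_1 lc_c_rc_13_2 lc_c_rc_7_1 lc_c_rc_24_6 lc_c_rc_13_2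 lc_c_rc_13_0 lc_c_Cert_tree lc_c_rc_24_2 lc_c_Cert_tree lc_c_rc_12_14 lc_c_rc_13_2 lc_c_rc_7_5 lc_c_rc_22_5) (@D3.rec (fun _ => (Cert rels S Gen.c)) lc_c_rc_13_2 lc_c_rc_24_6 lc_c_rc_14_2 lc_c_rc_11_1 lc_c_rc_13_2 lc_c_Cert_tree lc_c_rc_11_1 lc_c_rc_7_5 lc_c_rc_14_2 lc_c_rc_13_0 lc_c_Cert_tree lc_c_rc_11_1 lc_c_rc_11_1 lc_c_rc_13_2 lc_c_Cert_tree lc_c_rc_11_1 lc_c_rc_26_8 lc_c_Cert_tree lc_c_rc_11_1 lc_c_rc_13_2 lc_c_rc_7_3 lc_c_Cert_tree lc_c_rc_12_2 lc_c_rc_13_2 lc_c_Cert_tree lc_c_rc_14_2 lc_c_Cert_tree lc_c_rc_2_3 lc_c_rc_22_7 lc_c_rc_11_1 lc_c_rc_13_2 lc_c_rc_26_2 lc_c_rc_13_2 lc_c_Cert_tree lc_c_rc_13_0 lc_c_rc_13_2 lc_c_Cert_tree lc_c_rc_11_1 lc_c_Cert_tree lc_c_rc_24_2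 lc_c_rc_14_2 lc_c_Cert_tree lc_c_Cert_tree lc_c_rc_11_1 lc_c_rc_13_0 lc_c_rc_13_2 lc_c_rc_13_2 lc_c_Cert_tree lc_c_rc_13_2 lc_c_rc_26_8 lc_c_rc_24_4 lc_c_rc_2_3 lc_c_rc_2_3 lc_c_rc_7_3 lc_c_rc_22_3 lc_c_rc_11_1 lc_c_rc_22_9 lc_c_Cert_tree lc_c_rc_23_5 lc_c_rc_13_0 lc_c_rc_2_3 lc_c_rc_7_3) (@D3.rec (fun _ => (Cert rels S Gen.c)) lc_c_rc_23_5 lc_c_rc_13_2 lc_c_rc_13_2 lc_c_rc_24_6 lc_c_rc_22_3 lc_c_Cert_tree lc_c_rc_11_1 lc_c_rc_11_1 lc_c_rc_24_6 lc_c_rc_7_3 lc_c_Cert_tree lc_c_rc_13_2 lc_c_rc_13_2 lc_c_rc_11_1 lc_c_rc_13_2 lc_c_rc_11_1 lc_c_rc_12_10 lc_c_rc_13_2 lc_c_rc_22_7 lc_c_rc_11_1 lc_c_rc_7_3 lc_c_rc_11_1 lc_c_rc_13_2 lc_c_Cert_tree lc_c_Cert_tree lc_c_Cert_tree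 lc_c_rc_26_8 lc_c_rc_11_1 lc_c_Cert_tree lc_c_rc_22_3 lc_c_rc_11_1 lc_c_rc_26_4 lc_c_rc_11_1 lc_c_rc_13_2 lc_c_rc_23_5 lc_c_rc_11_1 lc_c_rc_13_2 lc_c_rc_11_1 lc_c_rc_22_5 lc_c_rc_11_1 lc_c_rc_11_1 lc_c_rc_7_3 lc_c_rc_22_5 lc_c_rc_13_2 lc_c_Cert_tree lc_c_Cert_tree lc_c_rc_2_3 lc_c_rc_11_1 lc_c_rc_11_1 lc_c_rc_24_8 lc_c_rc_7_3 lc_c_rc_22_5 lc_c_rc_13_2 lc_c_Cert_tree lc_c_rc_14_2 lc_c_rc_11_1 lc_c_rc_23_5 lc_c_rc_13_2 lc_c_rc_14_2 lc_c_rc_7_3 lc_c_rc_24_4 lc_c_rc_13_2) (@D3.rec (fun _ => (Cert rels S Gen.c)) lc_c_rc_7_5 lc_c_rc_23_5 lc_c_rc_13_2 lc_c_rc_22_3 lc_c_rc_22_5 lc_c_rc_11_1 lc_c_rc_25_1 lc_c_Cert_tree lc_c_Cert_tree lc_c_rc_14_2 lc_c_rc_11_1 lc_c_rc_13_0 lc_c_rc_11_1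 lc_c_Cert_tree lc_c_rc_7_5 lc_c_rc_14_2 lc_c_rc_11_1 lc_c_rc_14_2 lc_c_rc_11_1 lc_c_Cert_tree lc_c_rc_24_4 lc_c_rc_7_3 lc_c_Cert_tree lc_c_Cert_tree lc_c_rc_11_1 lc_c_rc_11_1 lc_c_rc_11_1 lc_c_rc_11_1 lc_c_rc_7_3 lc_c_rc_22_3 lc_c_rc_2_3 lc_c_rc_13_2 lc_c_rc_7_3 lc_c_rc_13_2 lc_c_Cert_tree lc_c_Cert_tree lc_c_Cert_tree lc_c_rc_14_2 lc_c_rc_11_1 lc_c_rc_13_2 lc_c_rc_24_6 lc_c_rc_7_3 lc_c_rc_2_3 lc_c_rc_13_2 lc_c_rc_13_0 lc_c_rc_13_2 lc_c_rc_11_1 lc_c_rc_13_2 lc_c_rc_11_1 lc_c_rc_13_2 lc_c_rc_11_1 lc_c_rc_13_0 lc_c_rc_14_2 lc_c_rc_25_1 lc_c_rc_13_2 lc_c_rc_7_3 lc_c_rc_22_3 lc_c_rc_13_2 lc_c_Cert_tree lc_c_Cert_tree lc_c_rc_24_6 lc_c_rc_7_5) (@D3.rec (fun _ => (Cert rels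 S Gen.c)) lc_c_rc_26_10 lc_c_rc_13_2 lc_c_rc_7_3 lc_c_rc_11_1 lc_c_rc_11_1 lc_c_rc_13_2 lc_c_rc_12_2 lc_c_rc_23_5 lc_c_rc_13_2 lc_c_rc_11_1 lc_c_Cert_tree lc_c_rc_2_3 lc_c_rc_14_2 lc_c_rc_13_2 lc_c_rc_11_1 lc_c_Cert_tree lc_c_rc_13_2 lc_c_rc_26_2 lc_c_rc_13_2 lc_c_rc_24_4 lc_c_rc_7_3 lc_c_rc_22_5 lc_c_rc_13_2 lc_c_rc_26_2 lc_c_rc_11_1 lc_c_Cert_tree lc_c_rc_14_2 lc_c_rc_23_5 lc_c_rc_11_1 lc_c_rc_13_2 lc_c_Cert_tree lc_c_rc_13_2 lc_c_rc_13_2 lc_c_rc_23_5 lc_c_rc_11_1 lc_c_rc_11_1 lc_c_rc_2_3 lc_c_rc_7_3 lc_c_rc_13_2 lc_c_rc_2_3 lc_c_Cert_tree lc_c_rc_11_1 lc_c_Cert_tree lc_c_rc_14_2 lc_c_rc_11_1 lc_c_Cert_tree lc_c_rc_13_2 lc_c_Cert_tree lc_c_rc_11_1 lc_c_rc_14_2 lc_c_rc_11_1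 lc_c_rc_13_2 lc_c_rc_13_2 lc_c_rc_14_0 lc_c_rc_24_6 lc_c_rc_11_1 lc_c_rc_14_2 lc_c_rc_12_2 lc_c_rc_13_2 lc_c_Cert_tree lc_c_Cert_tree lc_c_rc_14_2) (@D3.rec (fun _ => (Cert rels S Gen.c)) lc_c_rc_13_2 lc_c_rc_14_2 lc_c_rc_23_0 lc_c_rc_13_2 lc_c_rc_13_0 lc_c_rc_22_3 lc_c_rc_13_2 lc_c_Cert_tree lc_c_Cert_tree lc_c_rc_7_3 lc_c_Cert_tree lc_c_rc_7_3 lc_c_rc_7_5 lc_c_rc_22_7 lc_c_rc_13_2 lc_c_rc_11_1 lc_c_Cert_tree lc_c_Cert_tree lc_c_rc_14_2 lc_c_Cert_tree lc_c_rc_11_1 lc_c_rc_13_2 lc_c_rc_26_2 lc_c_rc_26_4 lc_c_rc_11_1 lc_c_rc_13_2 lc_c_rc_14_0 lc_c_rc_26_10 lc_c_rc_11_1 lc_c_Cert_tree lc_c_rc_7_5 lc_c_rc_13_2 lc_c_rc_7_1 lc_c_rc_13_2 lc_c_rc_7_3 lc_c_rc_2_1 lc_c_rc_24_2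 lc_c_Cert_tree lc_c_Cert_tree lc_c_rc_13_0 lc_c_rc_14_2 lc_c_rc_11_1 lc_c_Cert_tree lc_c_rc_13_2 lc_c_rc_11_1 lc_c_Cert_tree lc_c_rc_13_2 lc_c_Cert_tree lc_c_rc_11_1 lc_c_rc_14_2 lc_c_rc_23_5 lc_c_rc_11_1 lc_c_rc_13_0 lc_c_Cert_tree lc_c_rc_13_2 lc_c_Cert_tree lc_c_rc_11_1 lc_c_rc_14_2 lc_c_rc_11_1 lc_c_rc_13_2 lc_c_rc_11_1 lc_c_rc_7_3) (@D3.rec (fun _ => (Cert rels S Gen.c)) lc_c_Cert_tree lc_c_Cert_tree lc_c_rc_11_1 lc_c_rc_11_1 lc_c_rc_13_2 lc_c_rc_13_2 lc_c_rc_22_3 lc_c_Cert_tree lc_c_rc_14_2 lc_c_rc_24_6 lc_c_rc_13_0 lc_c_rc_11_1 lc_c_rc_7_1 lc_c_rc_13_2 lc_c_rc_13_2 lc_c_rc_22_9 lc_c_rc_2_3 lc_c_rc_26_4 lc_c_rc_11_1 lc_c_rc_23_5 lc_c_rc_23_0 lc_c_rc_11_1 lc_c_rc_22_5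 lc_c_rc_13_2 lc_c_rc_14_0 lc_c_rc_11_1 lc_c_rc_13_2 lc_c_Cert_tree lc_c_Cert_tree lc_c_rc_26_4 lc_c_rc_14_2 lc_c_Cert_tree lc_c_rc_13_2 lc_c_rc_7_5 lc_c_rc_7_3 lc_c_rc_13_2 lc_c_Cert_tree lc_c_Cert_tree lc_c_rc_14_2 lc_c_Cert_tree lc_c_rc_11_1 lc_c_Cert_tree lc_c_rc_13_2 lc_c_rc_7_1 lc_c_rc_11_1 lc_c_Cert_tree lc_c_rc_13_2 lc_c_Cert_tree lc_c_rc_13_0 lc_c_rc_11_1 lc_c_rc_14_2 lc_c_rc_13_2 lc_c_rc_11_1 lc_c_rc_7_3 lc_c_Cert_tree lc_c_rc_26_8 lc_c_rc_23_5 lc_c_rc_11_1 lc_c_Cert_tree lc_c_rc_26_10 lc_c_rc_23_0 lc_c_rc_7_1) (@D3.rec (fun _ => (Cert rels S Gen.c)) lc_c_Cert_tree lc_c_rc_13_2 lc_c_rc_13_2 lc_c_rc_11_1 lc_c_rc_24_4 lc_c_Cert_tree lc_c_rc_24_8 lc_c_rc_14_2 lc_c_rc_26_4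 lc_c_Cert_tree lc_c_rc_11_1 lc_c_rc_7_3 lc_c_rc_26_8 lc_c_rc_7_1 lc_c_Cert_tree lc_c_rc_13_2 lc_c_rc_11_1 lc_c_rc_23_0 lc_c_rc_13_0 lc_c_rc_14_2 lc_c_rc_24_2 lc_c_rc_11_1 lc_c_rc_14_0 lc_c_rc_13_2 lc_c_Cert_tree lc_c_rc_11_1 lc_c_rc_2_3 lc_c_rc_13_2 lc_c_Cert_tree lc_c_Cert_tree lc_c_rc_11_1 lc_c_rc_24_8 lc_c_rc_11_1 lc_c_rc_13_2 lc_c_rc_11_1 lc_c_rc_26_8 lc_c_rc_11_1 lc_c_rc_13_2 lc_c_rc_11_1 lc_c_rc_23_0 lc_c_rc_7_3 lc_c_rc_22_3 lc_c_rc_7_3 lc_c_Cert_tree lc_c_rc_13_2 lc_c_rc_7_5 lc_c_rc_7_5 lc_c_rc_13_0 lc_c_rc_2_1 lc_c_rc_7_5 lc_c_rc_13_2 lc_c_Cert_tree lc_c_Cert_tree lc_c_rc_11_1 lc_c_rc_13_2 lc_c_Cert_tree lc_c_Cert_tree lc_c_Cert_tree lc_c_rc_14_2 lc_c_rc_26_4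 lc_c_rc_11_1 lc_c_Cert_tree) (@D3.rec (fun _ => (Cert rels S Gen.c)) lc_c_rc_13_2 lc_c_rc_26_2 lc_c_rc_11_1 lc_c_rc_7_5 lc_c_rc_13_2 lc_c_rc_11_1 lc_c_rc_11_1 lc_c_Cert_tree lc_c_rc_22_7 lc_c_rc_11_1 lc_c_rc_22_5 lc_c_rc_13_0 lc_c_rc_11_1 lc_c_rc_13_2 lc_c_Cert_tree lc_c_Cert_tree lc_c_rc_7_5 lc_c_rc_13_2 lc_c_rc_7_5 lc_c_rc_13_2 lc_c_Cert_tree lc_c_Cert_tree lc_c_rc_11_1 lc_c_rc_24_4 lc_c_rc_23_0 lc_c_rc_14_2 lc_c_rc_14_2 lc_c_rc_11_1 lc_c_rc_7_5 lc_c_rc_13_2 lc_c_rc_11_1 lc_c_rc_13_2 lc_c_rc_11_1 lc_c_rc_13_2 lc_c_rc_13_2 lc_c_rc_13_2 lc_c_rc_11_1 lc_c_rc_23_0 lc_c_rc_24_2 lc_c_rc_11_1 lc_c_rc_26_2 lc_c_Cert_tree lc_c_Cert_tree lc_c_Cert_tree lc_c_rc_14_2 lc_c_rc_11_1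 lc_c_rc_7_5 lc_c_Cert_tree lc_c_rc_11_1 lc_c_rc_2_3 lc_c_rc_7_5 lc_c_rc_11_1 lc_c_Cert_tree lc_c_Cert_tree lc_c_rc_11_1 lc_c_rc_13_2 lc_c_rc_11_1 lc_c_rc_22_5 lc_c_Cert_tree lc_c_rc_23_5 lc_c_rc_11_1 lc_c_Cert_tree) (@D3.rec (fun _ => (Cert rels S Gen.c)) lc_c_rc_7_3 lc_c_rc_11_1 lc_c_rc_11_1 lc_c_rc_23_5 lc_c_Cert_tree lc_c_rc_7_1 lc_c_Cert_tree lc_c_rc_13_2 lc_c_Cert_tree lc_c_rc_7_5 lc_c_Cert_tree lc_c_rc_14_2 lc_c_rc_13_0 lc_c_rc_24_4 lc_c_rc_2_3 lc_c_rc_7_3 lc_c_rc_26_4 lc_c_rc_11_1 lc_c_rc_22_9 lc_c_Cert_tree lc_c_rc_11_1 lc_c_rc_11_1 lc_c_rc_11_1 lc_c_Cert_tree lc_c_rc_13_2 lc_c_Cert_tree lc_c_rc_7_1 lc_c_Cert_tree lc_c_rc_13_2 lc_c_Cert_tree lc_c_Cert_tree lc_c_rc_11_1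 lc_c_Cert_tree lc_c_Cert_tree lc_c_rc_7_5 lc_c_Cert_tree lc_c_rc_13_0 lc_c_rc_23_5 lc_c_rc_11_1 lc_c_rc_14_2 lc_c_rc_13_2 lc_c_rc_7_1 lc_c_rc_13_2 lc_c_rc_13_2 lc_c_rc_13_2 lc_c_rc_11_1 lc_c_rc_13_2 lc_c_rc_11_1 lc_c_rc_7_1 lc_c_rc_7_1 lc_c_rc_11_1 lc_c_Cert_tree lc_c_rc_11_1 lc_c_Cert_tree lc_c_rc_11_1 lc_c_rc_24_8 lc_c_rc_22_5 lc_c_rc_24_2 lc_c_rc_7_3 lc_c_Cert_tree lc_c_rc_11_1 lc_c_rc_2_3) (@D3.rec (fun _ => (Cert rels S Gen.c)) lc_c_rc_7_5 lc_c_rc_22_7 lc_c_rc_11_1 lc_c_rc_13_2 lc_c_rc_13_2 lc_c_rc_11_1 lc_c_rc_11_1 lc_c_Cert_tree lc_c_rc_14_2 lc_c_rc_7_5 lc_c_rc_7_5 lc_c_rc_11_1 lc_c_rc_11_1 lc_c_rc_26_2 lc_c_rc_13_2 lc_c_Cert_tree lc_c_rc_23_5 lc_c_rc_7_3 lc_c_rc_22_7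 lc_c_rc_23_0 lc_c_Cert_tree lc_c_rc_2_1 lc_c_rc_11_1 lc_c_rc_11_1 lc_c_rc_11_1 lc_c_rc_13_2 lc_c_rc_11_1 lc_c_rc_22_3 lc_c_rc_11_1 lc_c_rc_13_2 lc_c_rc_11_1 lc_c_rc_13_2 lc_c_rc_22_9 lc_c_rc_11_1 lc_c_rc_13_2 lc_c_rc_11_1 lc_c_rc_24_8 lc_c_rc_7_3 lc_c_rc_22_7 lc_c_rc_14_2 lc_c_rc_13_2 lc_c_rc_11_1 lc_c_rc_13_2 lc_c_rc_11_1 lc_c_rc_11_1 lc_c_rc_13_2 lc_c_rc_13_2 lc_c_rc_13_2 lc_c_rc_24_4 lc_c_rc_11_1 lc_c_rc_7_3 lc_c_rc_22_5 lc_c_rc_13_2 lc_c_rc_13_2 lc_c_Cert_tree lc_c_rc_11_1 lc_c_rc_26_4 lc_c_rc_7_3 lc_c_rc_13_2 lc_c_rc_11_1 lc_c_rc_7_3 lc_c_rc_7_3) (@D3.rec (fun _ => (Cert rels S Gen.c)) lc_c_rc_13_2 lc_c_rc_26_8 lc_c_rc_22_3 lc_c_rc_22_3 lc_c_Cert_tree lc_c_Cert_tree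 lc_c_rc_2_3 lc_c_rc_7_3 lc_c_rc_13_2 lc_c_rc_22_9 lc_c_rc_2_1 lc_c_rc_11_1 lc_c_rc_7_3 lc_c_rc_13_2 lc_c_Cert_tree lc_c_rc_11_1 lc_c_rc_13_2 lc_c_rc_14_2 lc_c_rc_13_2 lc_c_rc_13_2 lc_c_rc_11_1 lc_c_rc_22_3 lc_c_rc_14_2 lc_c_rc_26_4 lc_c_rc_11_1 lc_c_rc_14_0 lc_c_rc_13_2 lc_c_Cert_tree lc_c_rc_11_1 lc_c_rc_13_0 lc_c_rc_26_10 lc_c_rc_26_8 lc_c_rc_22_7 lc_c_rc_14_2 lc_c_rc_13_2 lc_c_rc_13_2 lc_c_rc_13_2 lc_c_rc_11_1 lc_c_Cert_tree lc_c_rc_2_3 lc_c_rc_22_7 lc_c_rc_11_1 lc_c_rc_13_2 lc_c_rc_13_2 lc_c_rc_14_2 lc_c_rc_13_2 lc_c_Cert_tree lc_c_rc_24_6 lc_c_rc_14_2 lc_c_rc_26_2 lc_c_rc_7_1 lc_c_rc_11_1 lc_c_rc_26_2 lc_c_rc_13_2 lc_c_rc_7_5 lc_c_rc_26_2 lc_c_rc_2_3 lc_c_rc_13_2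 lc_c_rc_11_1 lc_c_rc_26_10 lc_c_rc_22_3 lc_c_rc_26_4) (@D3.rec (fun _ => (Cert rels S Gen.c)) lc_c_rc_11_1 lc_c_rc_24_8 lc_c_rc_23_0 lc_c_rc_26_4 lc_c_rc_11_1 lc_c_rc_23_0 lc_c_rc_23_0 lc_c_rc_11_1 lc_c_rc_13_2 lc_c_rc_11_1 lc_c_rc_11_1 lc_c_rc_26_10 lc_c_rc_26_4 lc_c_rc_13_2 lc_c_rc_13_2 lc_c_rc_7_5 lc_c_Cert_tree lc_c_rc_14_2 lc_c_rc_7_5 lc_c_rc_24_8 lc_c_rc_14_2 lc_c_rc_11_1 lc_c_rc_26_8 lc_c_rc_13_2 lc_c_rc_26_2 lc_c_rc_13_2 lc_c_rc_11_1 lc_c_rc_13_2 lc_c_rc_26_10 lc_c_rc_26_10 lc_c_rc_13_2 lc_c_rc_14_2 lc_c_rc_26_2 lc_c_rc_26_8 lc_c_rc_14_2 lc_c_rc_26_2 lc_c_rc_14_2 lc_c_rc_23_0 lc_c_rc_11_1 lc_c_Cert_tree lc_c_rc_14_2 lc_c_rc_11_1 lc_c_Cert_tree lc_c_rc_13_2 lc_c_rc_11_1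 lc_c_rc_26_10 lc_c_rc_11_1 lc_c_rc_11_1 lc_c_rc_22_5 lc_c_rc_13_2 lc_c_rc_11_1 lc_c_Cert_tree lc_c_rc_14_2 lc_c_rc_11_1 lc_c_Cert_tree lc_c_rc_26_4 lc_c_Cert_tree lc_c_Cert_tree lc_c_Cert_tree lc_c_rc_13_2 lc_c_rc_22_5 lc_c_rc_11_1) (@D3.rec (fun _ => (Cert rels S Gen.c)) lc_c_rc_13_2 lc_c_rc_26_8 lc_c_Cert_tree lc_c_rc_14_2 lc_c_rc_26_4 lc_c_rc_11_1 lc_c_rc_13_2 lc_c_Cert_tree lc_c_rc_14_2 lc_c_rc_26_4 lc_c_rc_26_2 lc_c_Cert_tree lc_c_rc_26_8 lc_c_Cert_tree lc_c_Cert_tree lc_c_Cert_tree lc_c_rc_11_1 lc_c_rc_14_2 lc_c_rc_26_8 lc_c_rc_26_2 lc_c_rc_11_1 lc_c_rc_13_0 lc_c_rc_24_6 lc_c_Cert_tree lc_c_rc_13_2 lc_c_Cert_tree lc_c_Cert_tree lc_c_rc_11_1 lc_c_rc_13_2 lc_c_rc_26_4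 lc_c_rc_26_8 lc_c_rc_11_1 lc_c_Cert_tree lc_c_rc_13_2 lc_c_rc_11_1 lc_c_rc_13_2 lc_c_rc_14_2 lc_c_Cert_tree lc_c_rc_11_1 lc_c_Cert_tree lc_c_rc_13_2 lc_c_Cert_tree lc_c_rc_11_1 lc_c_Cert_tree lc_c_rc_11_1 lc_c_rc_11_1 lc_c_Cert_tree lc_c_rc_14_2 lc_c_rc_11_1 lc_c_rc_24_8 lc_c_rc_7_5 lc_c_rc_13_2 lc_c_rc_13_0 lc_c_rc_13_2 lc_c_rc_2_1 lc_c_rc_11_1 lc_c_rc_13_2 lc_c_rc_11_1 lc_c_rc_7_1 lc_c_rc_13_2 lc_c_rc_7_5 lc_c_rc_7_5) (@D3.rec (fun _ => (Cert rels S Gen.c)) lc_c_rc_14_2 lc_c_rc_26_4 lc_c_rc_13_2 lc_c_Cert_tree lc_c_Cert_tree lc_c_Cert_tree lc_c_rc_11_1 lc_c_rc_11_1 lc_c_rc_11_1 lc_c_Cert_tree lc_c_rc_11_1 lc_c_rc_11_1 lc_c_Cert_tree lc_c_Cert_tree lc_c_Cert_tree lc_c_rc_13_2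 lc_c_rc_24_4 lc_c_rc_24_4 lc_c_Cert_tree lc_c_rc_25_13 lc_c_rc_11_1 lc_c_rc_11_1 lc_c_Cert_tree lc_c_Cert_tree lc_c_rc_11_1 lc_c_rc_11_1 lc_c_rc_26_8 lc_c_rc_11_1 lc_c_rc_25_17 lc_c_rc_11_1 lc_c_rc_13_2 lc_c_rc_11_1 lc_c_rc_13_2 lc_c_rc_24_2 lc_c_rc_11_1 lc_c_rc_26_4 lc_c_rc_13_2 lc_c_rc_23_0 lc_c_rc_22_7 lc_c_rc_23_0 lc_c_rc_11_1 lc_c_rc_11_1 lc_c_Cert_tree lc_c_rc_11_1 lc_c_rc_13_2 lc_c_rc_13_2 lc_c_Cert_tree lc_c_rc_13_2 lc_c_rc_13_2 lc_c_rc_13_2 lc_c_rc_13_0 lc_c_Cert_tree lc_c_Cert_tree lc_c_rc_7_5 lc_c_rc_2_3 lc_c_Cert_tree lc_c_rc_11_1 lc_c_rc_13_2 lc_c_Cert_tree lc_c_Cert_tree lc_c_rc_11_1 lc_c_rc_13_2) (@D3.rec (fun _ => (Cert rels S Gen.c)) lc_c_rc_11_1 lc_c_rc_24_4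 lc_c_rc_13_2 lc_c_rc_23_0 lc_c_rc_11_1 lc_c_rc_2_1 lc_c_rc_7_3 lc_c_rc_11_1 lc_c_rc_22_9 lc_c_rc_11_1 lc_c_rc_13_2 lc_c_rc_14_2 lc_c_rc_26_8 lc_c_rc_13_2 lc_c_rc_11_1 lc_c_rc_13_2 lc_c_Cert_tree lc_c_rc_13_2 lc_c_rc_11_1 lc_c_rc_7_5 lc_c_rc_11_1 lc_c_rc_26_4 lc_c_rc_22_9 lc_c_rc_11_1 lc_c_rc_13_2 lc_c_rc_23_0 lc_c_rc_11_1 lc_c_rc_26_8 lc_c_rc_26_4 lc_c_rc_2_1 lc_c_rc_13_2 lc_c_rc_7_3 lc_c_rc_13_2 lc_c_rc_26_10 lc_c_rc_24_8 lc_c_rc_26_2 lc_c_rc_26_10 lc_c_rc_23_0 lc_c_rc_13_2 lc_c_rc_2_3 lc_c_rc_11_1 lc_c_rc_11_1 lc_c_rc_2_1 lc_c_rc_11_1 lc_c_rc_24_6 lc_c_rc_22_7 lc_c_rc_26_2 lc_c_rc_23_0 lc_c_rc_13_2 lc_c_rc_7_3 lc_c_rc_11_1 lc_c_rc_11_1 lc_c_rc_11_1 lc_c_rc_23_5 lc_c_rc_11_1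 lc_c_rc_11_1 lc_c_rc_26_2 lc_c_rc_26_8 lc_c_rc_23_0 lc_c_Cert_tree lc_c_rc_13_0 lc_c_rc_23_0) (@D3.rec (fun _ => (Cert rels S Gen.c)) lc_c_Cert_tree lc_c_rc_13_2 lc_c_rc_24_2 lc_c_rc_26_4 lc_c_rc_7_3 lc_c_rc_7_3 lc_c_rc_13_2 lc_c_rc_14_2 lc_c_rc_7_5 lc_c_rc_13_2 lc_c_rc_26_2 lc_c_rc_13_0 lc_c_rc_13_2 lc_c_rc_22_9 lc_c_rc_13_2 lc_c_rc_13_2 lc_c_Cert_tree lc_c_Cert_tree lc_c_rc_14_2 lc_c_rc_26_10 lc_c_rc_23_0 lc_c_rc_13_2 lc_c_rc_11_1 lc_c_rc_23_5 lc_c_rc_11_1 lc_c_rc_11_1 lc_c_rc_24_8 lc_c_rc_24_2 lc_c_rc_11_1 lc_c_rc_2_3 lc_c_rc_11_1 lc_c_rc_11_1 lc_c_rc_24_6 lc_c_rc_24_4 lc_c_rc_2_1 lc_c_Cert_tree lc_c_rc_13_2 lc_c_rc_11_1 lc_c_rc_23_5 lc_c_rc_11_1 lc_c_rc_26_4 lc_c_rc_23_5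 lc_c_rc_13_2 lc_c_rc_26_10 lc_c_rc_26_2 lc_c_rc_14_2 lc_c_rc_13_2 lc_c_rc_11_1 lc_c_rc_11_1 lc_c_rc_26_2 lc_c_rc_14_2 lc_c_rc_11_1 lc_c_Cert_tree lc_c_rc_11_1 lc_c_rc_26_2 lc_c_rc_13_2 lc_c_rc_7_1 lc_c_rc_24_8 lc_c_rc_24_8 lc_c_rc_26_2 lc_c_rc_14_0 lc_c_rc_23_0) (@D3.rec (fun _ => (Cert rels S Gen.c)) lc_c_rc_11_1 lc_c_Cert_tree lc_c_rc_14_2 lc_c_rc_11_1 lc_c_rc_24_2 lc_c_rc_13_2 lc_c_rc_13_2 lc_c_rc_22_7 lc_c_rc_14_2 lc_c_Cert_tree lc_c_rc_14_2 lc_c_rc_13_2 lc_c_Cert_tree lc_c_rc_7_5 lc_c_rc_7_3 lc_c_rc_7_5 lc_c_rc_11_1 lc_c_rc_13_2 lc_c_rc_22_3 lc_c_rc_13_2 lc_c_rc_23_0 lc_c_Cert_tree lc_c_rc_13_2 lc_c_rc_22_5 lc_c_rc_26_4 lc_c_rc_11_1 lc_c_rc_26_2 lc_c_rc_26_4 lc_c_rc_23_5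 lc_c_rc_13_2 lc_c_rc_7_1 lc_c_rc_13_2 lc_c_rc_13_2 lc_c_rc_11_1 lc_c_rc_14_0 lc_c_Cert_tree lc_c_rc_14_2 lc_c_rc_26_4 lc_c_rc_11_1 lc_c_rc_14_2 lc_c_rc_11_1 lc_c_rc_7_3 lc_c_rc_2_3 lc_c_rc_13_2 lc_c_rc_26_4 lc_c_rc_14_2 lc_c_rc_13_2 lc_c_rc_26_8 lc_c_rc_2_3 lc_c_rc_13_2 lc_c_rc_13_0 lc_c_rc_26_4 lc_c_rc_11_1 lc_c_rc_14_2 lc_c_rc_7_3 lc_c_rc_11_1 lc_c_rc_13_0 lc_c_rc_13_2 lc_c_rc_26_10 lc_c_rc_11_1 lc_c_rc_7_3 lc_c_rc_24_8) (@D3.rec (fun _ => (Cert rels S Gen.c)) lc_c_rc_23_0 lc_c_Cert_tree lc_c_Cert_tree lc_c_rc_13_2 lc_c_rc_13_2 lc_c_rc_13_0 lc_c_rc_14_2 lc_c_rc_11_1 lc_c_rc_26_4 lc_c_rc_26_8 lc_c_rc_14_2 lc_c_rc_2_1 lc_c_rc_11_1 lc_c_rc_26_8 lc_c_rc_23_0 lc_c_rc_26_2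 lc_c_rc_26_10 lc_c_rc_14_2 lc_c_rc_11_1 lc_c_rc_13_2 lc_c_rc_24_4 lc_c_rc_14_2 lc_c_rc_26_4 lc_c_rc_13_2 lc_c_rc_11_1 lc_c_rc_11_1 lc_c_rc_13_2 lc_c_rc_11_1 lc_c_rc_11_1 lc_c_rc_26_2 lc_c_rc_23_5 lc_c_Cert_tree lc_c_rc_11_1 lc_c_rc_13_2 lc_c_rc_11_1 lc_c_rc_11_1 lc_c_rc_11_1 lc_c_rc_13_0 lc_c_rc_14_2 lc_c_rc_11_1 lc_c_rc_13_2 lc_c_rc_7_1 lc_c_rc_13_2 lc_c_rc_11_1 lc_c_rc_7_3 lc_c_Cert_tree lc_c_rc_11_1 lc_c_Cert_tree lc_c_rc_11_1 lc_c_rc_23_0 lc_c_rc_11_1 lc_c_rc_13_2 lc_c_Cert_tree lc_c_rc_26_2 lc_c_rc_23_5 lc_c_rc_11_1 lc_c_Cert_tree lc_c_rc_13_2 lc_c_rc_26_2 lc_c_rc_14_2 lc_c_Cert_tree lc_c_rc_11_1) (@D3.rec (fun _ => (Cert rels S Gen.c)) lc_c_rc_11_1 lc_c_Cert_tree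 lc_c_rc_11_1 lc_c_rc_13_2 lc_c_rc_11_1 lc_c_rc_24_4 lc_c_rc_11_1 lc_c_rc_13_2 lc_c_rc_11_1 lc_c_rc_13_2 lc_c_rc_26_2 lc_c_rc_11_1 lc_c_rc_11_1 lc_c_Cert_tree lc_c_Cert_tree lc_c_rc_13_2 lc_c_Cert_tree lc_c_rc_13_2 lc_c_rc_11_1 lc_c_rc_13_2 lc_c_Cert_tree lc_c_Cert_tree lc_c_Cert_tree lc_c_rc_11_1 lc_c_rc_13_2 lc_c_rc_11_1 lc_c_rc_11_1 lc_c_rc_13_2 lc_c_rc_24_2 lc_c_rc_11_1 lc_c_rc_13_2 lc_c_rc_11_1 lc_c_rc_13_2 lc_c_Cert_tree lc_c_Cert_tree lc_c_rc_13_2 lc_c_Cert_tree lc_c_rc_11_1 lc_c_rc_13_2 lc_c_rc_11_1 lc_c_rc_13_2 lc_c_Cert_tree lc_c_rc_24_6 lc_c_rc_14_2 lc_c_rc_11_1 lc_c_rc_11_1 lc_c_rc_24_6 lc_c_rc_7_3 lc_c_rc_22_9 lc_c_rc_13_2 lc_c_Cert_tree lc_c_Cert_tree lc_c_rc_14_2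 lc_c_rc_13_2 lc_c_Cert_tree lc_c_rc_26_4 lc_c_rc_11_1 lc_c_rc_13_2 lc_c_Cert_tree lc_c_rc_11_1 lc_c_rc_13_2 lc_c_rc_11_1) (@D3.rec (fun _ => (Cert rels S Gen.c)) lc_c_rc_13_2 lc_c_rc_23_0 lc_c_rc_13_2 lc_c_Cert_tree lc_c_Cert_tree lc_c_Cert_tree lc_c_rc_14_2 lc_c_rc_26_2 lc_c_rc_24_2 lc_c_rc_11_1 lc_c_rc_26_2 lc_c_rc_26_10 lc_c_rc_11_1 lc_c_rc_23_0 lc_c_rc_13_2 lc_c_rc_11_1 lc_c_rc_13_2 lc_c_rc_11_1 lc_c_rc_24_8 lc_c_rc_11_1 lc_c_rc_7_3 lc_c_rc_7_3 lc_c_rc_22_5 lc_c_rc_13_2 lc_c_rc_13_2 lc_c_Cert_tree lc_c_rc_11_1 lc_c_rc_14_2 lc_c_rc_7_3 lc_c_rc_13_2 lc_c_rc_26_10 lc_c_rc_11_1 lc_c_rc_7_3 lc_c_Cert_tree lc_c_rc_13_0 lc_c_rc_13_2 lc_c_rc_11_1 lc_c_rc_26_4 lc_c_Cert_tree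 lc_c_rc_14_2 lc_c_rc_23_0 lc_c_rc_11_1 lc_c_Cert_tree lc_c_rc_11_1 lc_c_rc_13_2 lc_c_Cert_tree lc_c_rc_11_1 lc_c_rc_13_2 lc_c_rc_11_1 lc_c_rc_11_1 lc_c_rc_2_1 lc_c_rc_7_3 lc_c_Cert_tree lc_c_rc_13_2 lc_c_rc_13_2 lc_c_rc_11_1 lc_c_rc_24_6 lc_c_rc_13_2 lc_c_rc_2_3 lc_c_Cert_tree lc_c_rc_14_2 lc_c_rc_2_3) (@D3.rec (fun _ => (Cert rels S Gen.c)) lc_c_rc_24_2 lc_c_rc_11_1 lc_c_rc_14_2 lc_c_rc_24_6 lc_c_rc_24_2 lc_c_rc_11_1 lc_c_rc_13_2 lc_c_Cert_tree lc_c_Cert_tree lc_c_Cert_tree lc_c_rc_14_2 lc_c_rc_26_2 lc_c_rc_13_2 lc_c_rc_2_1 lc_c_rc_14_2 lc_c_rc_13_2 lc_c_rc_13_2 lc_c_rc_11_1 lc_c_rc_26_10 lc_c_rc_22_7 lc_c_rc_14_2 lc_c_Cert_tree lc_c_rc_11_1 lc_c_rc_2_3 lc_c_rc_13_2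 lc_c_rc_26_2 lc_c_rc_11_1 lc_c_Cert_tree lc_c_rc_13_2 lc_c_Cert_tree lc_c_Cert_tree lc_c_rc_11_1 lc_c_rc_14_2 lc_c_Cert_tree lc_c_Cert_tree lc_c_rc_11_1 lc_c_rc_13_2 lc_c_rc_11_1 lc_c_rc_23_5 lc_c_Cert_tree lc_c_rc_11_1 lc_c_rc_13_2 lc_c_rc_11_1 lc_c_rc_11_1 lc_c_rc_7_3 lc_c_rc_12_2 lc_c_rc_14_2 lc_c_rc_13_2 lc_c_rc_11_1 lc_c_rc_26_8 lc_c_rc_2_3 lc_c_rc_23_5 lc_c_rc_22_7 lc_c_rc_7_5 lc_c_rc_13_2 lc_c_rc_11_1 lc_c_rc_11_1 lc_c_rc_26_2 lc_c_rc_23_5 lc_c_rc_11_1 lc_c_rc_14_2 lc_c_rc_22_5) (@D3.rec (fun _ => (Cert rels S Gen.c)) lc_c_rc_11_1 lc_c_rc_14_2 lc_c_rc_13_2 lc_c_rc_14_2 lc_c_rc_13_2 lc_c_rc_14_2 lc_c_rc_13_0 lc_c_rc_13_2 lc_c_rc_25_5 lc_c_rc_13_2 lc_c_Cert_tree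 lc_c_rc_11_1 lc_c_rc_13_2 lc_c_rc_11_1 lc_c_rc_11_1 lc_c_rc_11_1 lc_c_rc_13_2 lc_c_rc_13_0 lc_c_Cert_tree lc_c_rc_14_2 lc_c_rc_11_1 lc_c_rc_24_2 lc_c_Cert_tree lc_c_rc_11_1 lc_c_rc_13_2 lc_c_rc_22_5 lc_c_rc_13_2 lc_c_rc_13_0 lc_c_rc_7_5 lc_c_rc_13_2 lc_c_rc_24_4 lc_c_rc_11_1 lc_c_rc_26_2 lc_c_rc_22_5 lc_c_rc_13_2 lc_c_Cert_tree lc_c_rc_14_2 lc_c_rc_22_5 lc_c_rc_13_2 lc_c_rc_13_0 lc_c_rc_7_5 lc_c_rc_22_3 lc_c_rc_13_2 lc_c_rc_26_2 lc_c_rc_11_1 lc_c_rc_2_3 lc_c_Cert_tree lc_c_rc_11_1 lc_c_rc_11_1 lc_c_rc_11_1 lc_c_rc_13_2 lc_c_rc_22_5 lc_c_rc_13_2 lc_c_Cert_tree lc_c_Cert_tree lc_c_rc_26_2 lc_c_rc_13_2 lc_c_rc_13_2 lc_c_rc_13_2 lc_c_rc_23_0 lc_c_rc_24_2 lc_c_rc_7_3) (@D3.rec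 (fun _ => (Cert rels S Gen.c)) lc_c_rc_22_5 lc_c_rc_13_0 lc_c_rc_14_2 lc_c_rc_24_2 lc_c_rc_26_10 lc_c_rc_23_0 lc_c_rc_2_3 lc_c_rc_26_4 lc_c_rc_11_1 lc_c_rc_13_2 lc_c_Cert_tree lc_c_rc_11_1 lc_c_rc_26_10 lc_c_rc_11_1 lc_c_rc_13_2 lc_c_rc_13_2 lc_c_rc_11_1 lc_c_rc_13_2 lc_c_rc_11_1 lc_c_rc_13_2 lc_c_rc_26_2 lc_c_rc_12_8 lc_c_rc_13_2 lc_c_Cert_tree lc_c_rc_14_2 lc_c_rc_7_5 lc_c_rc_13_2 lc_c_rc_13_2 lc_c_rc_24_8 lc_c_rc_11_1 lc_c_rc_13_0 lc_c_rc_13_2 lc_c_rc_14_2 lc_c_Cert_tree lc_c_Cert_tree lc_c_rc_14_2 lc_c_rc_11_1 lc_c_rc_2_3 lc_c_rc_13_2 lc_c_rc_13_2 lc_c_rc_11_1 lc_c_rc_11_1 lc_c_rc_25_5 lc_c_rc_11_1 lc_c_rc_7_3 lc_c_rc_13_2 lc_c_rc_7_5 lc_c_rc_23_0 lc_c_Cert_tree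 lc_c_rc_7_3 lc_c_rc_11_1 lc_c_Cert_tree lc_c_Cert_tree lc_c_Cert_tree lc_c_rc_11_1 lc_c_rc_13_2 lc_c_rc_11_1 lc_c_rc_2_1 lc_c_rc_11_1 lc_c_rc_13_2 lc_c_rc_11_1 lc_c_Cert_tree) (@D3.rec (fun _ => (Cert rels S Gen.c)) lc_c_Cert_tree lc_c_Cert_tree lc_c_rc_11_1 lc_c_rc_14_2 lc_c_rc_11_1 lc_c_rc_11_1 lc_c_rc_11_1 lc_c_rc_24_2 lc_c_rc_7_3 lc_c_Cert_tree lc_c_rc_11_1 lc_c_rc_13_2 lc_c_rc_13_2 lc_c_rc_11_1 lc_c_rc_12_2 lc_c_rc_13_2 lc_c_rc_26_10 lc_c_rc_24_2 lc_c_rc_11_1 lc_c_rc_7_3 lc_c_rc_22_9 lc_c_rc_13_2 lc_c_rc_24_2 lc_c_rc_24_4 lc_c_rc_22_5 lc_c_rc_22_9 lc_c_rc_25_5 lc_c_rc_11_1 lc_c_rc_11_1 lc_c_rc_11_1 lc_c_rc_23_0 lc_c_rc_24_6 lc_c_rc_11_1 lc_c_rc_2_1 lc_c_rc_22_9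 lc_c_rc_13_2 lc_c_rc_26_2 lc_c_Cert_tree lc_c_Cert_tree lc_c_rc_13_0 lc_c_rc_11_1 lc_c_rc_13_2 lc_c_rc_24_4 lc_c_rc_22_5 lc_c_rc_13_2 lc_c_rc_13_2 lc_c_rc_13_2 lc_c_rc_11_1 lc_c_Cert_tree lc_c_rc_14_2 lc_c_rc_2_3 lc_c_rc_11_1 lc_c_Cert_tree lc_c_rc_13_2 lc_c_rc_11_1 lc_c_Cert_tree lc_c_rc_13_2 lc_c_Cert_tree lc_c_Cert_tree lc_c_rc_11_1 lc_c_rc_14_2 lc_c_rc_26_10) (@D3.rec (fun _ => (Cert rels S Gen.c)) lc_c_rc_22_9 lc_c_rc_11_1 lc_c_rc_13_2 lc_c_rc_11_1 lc_c_rc_11_1 lc_c_rc_13_2 lc_c_Cert_tree lc_c_rc_11_1 lc_c_rc_26_8 lc_c_rc_13_2 lc_c_rc_11_1 lc_c_rc_11_1 lc_c_rc_13_2 lc_c_rc_11_1 lc_c_rc_11_1 lc_c_rc_7_3 lc_c_rc_22_5 lc_c_rc_14_2 lc_c_rc_13_2 lc_c_rc_13_2 lc_c_rc_11_1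 lc_c_Cert_tree lc_c_rc_14_2 lc_c_rc_11_1 lc_c_Cert_tree lc_c_rc_26_2 lc_c_rc_14_0 lc_c_rc_14_2 lc_c_rc_7_5 lc_c_rc_13_2 lc_c_rc_7_5 lc_c_rc_11_1 lc_c_rc_11_1 lc_c_Cert_tree lc_c_rc_14_2 lc_c_rc_11_1 lc_c_rc_7_5 lc_c_rc_13_2 lc_c_rc_13_0 lc_c_rc_11_1 lc_c_rc_14_2 lc_c_rc_13_2 lc_c_rc_22_7 lc_c_rc_13_2 lc_c_Cert_tree lc_c_rc_14_2 lc_c_rc_7_3 lc_c_rc_11_1 lc_c_Cert_tree lc_c_rc_13_2 lc_c_rc_26_4 lc_c_rc_11_1 lc_c_Cert_tree lc_c_rc_13_2 lc_c_rc_22_3 lc_c_rc_11_1 lc_c_rc_26_4 lc_c_Cert_tree lc_c_rc_13_2 lc_c_Cert_tree lc_c_rc_11_1 lc_c_rc_11_1) (@D3.rec (fun _ => (Cert rels S Gen.c)) lc_c_Cert_tree lc_c_rc_14_2 lc_c_rc_11_1 lc_c_rc_13_2 lc_c_rc_11_1 lc_c_Cert_tree lc_c_rc_13_2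 lc_c_rc_11_1 lc_c_rc_13_2 lc_c_rc_11_1 lc_c_rc_13_2 lc_c_Cert_tree lc_c_rc_11_1 lc_c_Cert_tree lc_c_Cert_tree lc_c_rc_12_2 lc_c_rc_14_2 lc_c_rc_13_2 lc_c_Cert_tree lc_c_rc_11_1 lc_c_rc_13_2 lc_c_rc_7_3 lc_c_rc_22_5 lc_c_rc_13_2 lc_c_Cert_tree lc_c_rc_14_2 lc_c_rc_12_2 lc_c_rc_11_1 lc_c_rc_7_3 lc_c_rc_22_3 lc_c_rc_13_2 lc_c_rc_11_1 lc_c_rc_11_1 lc_c_rc_22_5 lc_c_rc_11_1 lc_c_rc_7_3 lc_c_rc_11_1 lc_c_rc_23_5 lc_c_rc_13_2 lc_c_rc_7_5 lc_c_rc_22_5 lc_c_rc_24_4 lc_c_rc_22_5 lc_c_rc_11_1 lc_c_rc_13_2 lc_c_rc_22_5 lc_c_rc_13_2 lc_c_Cert_tree lc_c_Cert_tree lc_c_Cert_tree lc_c_rc_11_1 lc_c_rc_13_2 lc_c_Cert_tree lc_c_rc_13_2 lc_c_Cert_tree lc_c_rc_24_2 lc_c_rc_14_2 lc_c_rc_11_1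 lc_c_rc_24_8 lc_c_rc_13_2 lc_c_Cert_tree lc_c_rc_11_1) (@D3.rec (fun _ => (Cert rels S Gen.c)) lc_c_Cert_tree lc_c_rc_11_1 lc_c_rc_11_1 lc_c_rc_11_1 lc_c_rc_25_17 lc_c_Cert_tree lc_c_Cert_tree lc_c_rc_7_3 lc_c_rc_24_8 lc_c_rc_13_2 lc_c_rc_23_0 lc_c_rc_11_1 lc_c_rc_14_2 lc_c_rc_14_2 lc_c_rc_11_1 lc_c_rc_2_3 lc_c_rc_2_3 lc_c_rc_13_2 lc_c_rc_13_2 lc_c_rc_22_9 lc_c_rc_14_2 lc_c_rc_22_3 lc_c_rc_11_1 lc_c_rc_23_0 lc_c_rc_11_1 lc_c_rc_13_2 lc_c_rc_14_0 lc_c_rc_12_2 lc_c_rc_7_3 lc_c_rc_11_1 lc_c_rc_13_2 lc_c_rc_22_3 lc_c_rc_11_1 lc_c_rc_24_2 lc_c_rc_7_3 lc_c_rc_13_2 lc_c_rc_13_2 lc_c_rc_26_8 lc_c_rc_7_5 lc_c_rc_11_1 lc_c_rc_22_9 lc_c_rc_22_3 lc_c_Cert_tree lc_c_rc_14_2 lc_c_rc_11_1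 lc_c_rc_25_17 lc_c_rc_14_2 lc_c_rc_24_8 lc_c_rc_7_1 lc_c_rc_7_5 lc_c_rc_13_2 lc_c_rc_13_2 lc_c_rc_11_1 lc_c_rc_11_1 lc_c_Cert_tree lc_c_rc_14_2 lc_c_rc_11_1 lc_c_rc_14_2 lc_c_rc_11_1 lc_c_rc_2_1 lc_c_rc_2_3 lc_c_rc_2_1) (@D3.rec (fun _ => (Cert rels S Gen.c)) lc_c_rc_7_5 lc_c_rc_26_2 lc_c_rc_13_2 lc_c_rc_13_2 lc_c_rc_24_8 lc_c_rc_14_2 lc_c_rc_13_2 lc_c_Cert_tree lc_c_rc_14_2 lc_c_rc_2_3 lc_c_rc_22_5 lc_c_rc_11_1 lc_c_rc_13_2 lc_c_rc_2_3 lc_c_rc_22_7 lc_c_rc_13_2 lc_c_rc_12_2 lc_c_rc_12_2 lc_c_rc_13_2 lc_c_rc_7_3 lc_c_rc_13_2 lc_c_Cert_tree lc_c_rc_13_2 lc_c_rc_13_2 lc_c_rc_14_2 lc_c_rc_13_2 lc_c_rc_11_1 lc_c_rc_14_2 lc_c_Cert_tree lc_c_rc_2_3 lc_c_rc_11_1 lc_c_rc_23_0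 lc_c_rc_2_3 lc_c_rc_11_1 lc_c_rc_11_1 lc_c_rc_7_3 lc_c_rc_12_4 lc_c_rc_2_3 lc_c_rc_14_2 lc_c_rc_24_8 lc_c_Cert_tree lc_c_rc_14_2 lc_c_rc_11_1 lc_c_rc_26_2 lc_c_rc_2_3 lc_c_rc_26_4 lc_c_rc_13_2 lc_c_rc_13_2 lc_c_rc_11_1 lc_c_rc_11_1 lc_c_Cert_tree lc_c_rc_14_2 lc_c_rc_26_2 lc_c_rc_2_3 lc_c_rc_13_2 lc_c_rc_24_2 lc_c_rc_13_2 lc_c_rc_26_10 lc_c_rc_24_8 lc_c_rc_11_1 lc_c_rc_14_2 lc_c_rc_13_2) (@D3.rec (fun _ => (Cert rels S Gen.c)) lc_c_rc_13_2 lc_c_rc_7_3 lc_c_Cert_tree lc_c_rc_14_2 lc_c_rc_13_2 lc_c_rc_24_6 lc_c_rc_11_1 lc_c_rc_2_3 lc_c_rc_13_2 lc_c_rc_13_0 lc_c_rc_11_1 lc_c_rc_13_2 lc_c_rc_11_1 lc_c_Cert_tree lc_c_rc_13_2 lc_c_Cert_tree lc_c_Cert_tree lc_c_rc_11_1 lc_c_rc_14_2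 lc_c_rc_11_1 lc_c_rc_7_5 lc_c_rc_7_3 lc_c_rc_22_7 lc_c_rc_13_2 lc_c_rc_13_2 lc_c_rc_26_10 lc_c_Cert_tree lc_c_Cert_tree lc_c_Cert_tree lc_c_Cert_tree lc_c_rc_14_2 lc_c_rc_11_1 lc_c_Cert_tree lc_c_rc_13_2 lc_c_rc_7_5 lc_c_Cert_tree lc_c_rc_13_2 lc_c_Cert_tree lc_c_Cert_tree lc_c_rc_11_1 lc_c_rc_14_2 lc_c_rc_7_3 lc_c_Cert_tree lc_c_rc_13_2 lc_c_rc_11_1 lc_c_rc_11_1 lc_c_Cert_tree lc_c_rc_24_6 lc_c_rc_7_3 lc_c_Cert_tree lc_c_rc_14_2 lc_c_rc_13_2 lc_c_rc_7_1 lc_c_rc_22_5 lc_c_rc_13_2 lc_c_Cert_tree lc_c_Cert_tree lc_c_rc_14_2 lc_c_rc_26_8 lc_c_rc_22_7 lc_c_rc_7_3 lc_c_rc_11_1) (@D3.rec (fun _ => (Cert rels S Gen.c)) lc_c_rc_22_3 lc_c_rc_13_2 lc_c_rc_7_5 lc_c_rc_23_5 lc_c_Cert_tree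 lc_c_rc_2_3 lc_c_Cert_tree lc_c_rc_14_2 lc_c_rc_24_6 lc_c_rc_22_3 lc_c_rc_11_1 lc_c_rc_2_3 lc_c_rc_22_3 lc_c_rc_13_2 lc_c_Cert_tree lc_c_rc_11_1 lc_c_rc_13_2 lc_c_rc_7_5 lc_c_rc_2_3 lc_c_Cert_tree lc_c_rc_14_2 lc_c_rc_26_10 lc_c_rc_13_2 lc_c_Cert_tree lc_c_rc_14_2 lc_c_rc_7_5 lc_c_Cert_tree lc_c_Cert_tree lc_c_Cert_tree lc_c_rc_11_1 lc_c_rc_22_3 lc_c_rc_11_1 lc_c_rc_13_0 lc_c_rc_13_2 lc_c_rc_7_1 lc_c_rc_22_3 lc_c_rc_13_2 lc_c_rc_11_1 lc_c_rc_23_5 lc_c_rc_14_2 lc_c_rc_26_2 lc_c_rc_11_1 lc_c_rc_26_8 lc_c_rc_11_1 lc_c_rc_26_8 lc_c_rc_14_2 lc_c_rc_2_3 lc_c_rc_26_8 lc_c_rc_13_2 lc_c_rc_13_2 lc_c_rc_2_3 lc_c_Cert_tree lc_c_rc_14_2 lc_c_Cert_tree lc_c_rc_26_2 lc_c_rc_11_1 lc_c_rc_2_1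 lc_c_rc_24_8 lc_c_rc_14_2 lc_c_rc_7_5 lc_c_rc_2_1 lc_c_Cert_tree) (@D3.rec (fun _ => (Cert rels S Gen.c)) lc_c_Cert_tree lc_c_rc_11_1 lc_c_rc_13_2 lc_c_rc_7_3 lc_c_rc_2_1 lc_c_rc_26_4 lc_c_rc_7_3 lc_c_rc_2_3 lc_c_rc_26_10 lc_c_Cert_tree lc_c_rc_26_4 lc_c_Cert_tree lc_c_rc_13_2 lc_c_Cert_tree lc_c_Cert_tree lc_c_rc_23_5 lc_c_rc_14_2 lc_c_rc_11_1 lc_c_rc_7_5 lc_c_Cert_tree lc_c_Cert_tree lc_c_rc_11_1 lc_c_rc_14_2 lc_c_Cert_tree lc_c_rc_23_5 lc_c_rc_11_1 lc_c_rc_11_1 lc_c_rc_7_5 lc_c_rc_22_5 lc_c_rc_11_1 lc_c_Cert_tree lc_c_rc_13_2 lc_c_rc_14_2 lc_c_rc_26_10 lc_c_rc_22_3 lc_c_rc_23_5 lc_c_rc_2_3 lc_c_rc_13_2 lc_c_Cert_tree lc_c_rc_14_2 lc_c_rc_26_2 lc_c_rc_23_5 lc_c_rc_13_0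 lc_c_rc_13_2 lc_c_rc_13_2 lc_c_rc_23_0 lc_c_rc_13_2 lc_c_rc_13_2 lc_c_rc_2_3 lc_c_rc_13_0 lc_c_rc_14_2 lc_c_rc_7_5 lc_c_Cert_tree lc_c_rc_7_5 lc_c_rc_14_2 lc_c_rc_11_1 lc_c_rc_11_1 lc_c_rc_22_7 lc_c_rc_13_2 lc_c_rc_7_5 lc_c_Cert_tree lc_c_rc_23_5) (@D3.rec (fun _ => (Cert rels S Gen.c)) lc_c_Cert_tree lc_c_rc_11_1 lc_c_rc_22_3 lc_c_Cert_tree lc_c_rc_13_2 lc_c_rc_24_2 lc_c_rc_24_2 lc_c_rc_7_3 lc_c_rc_22_7 lc_c_rc_11_1 lc_c_rc_13_2 lc_c_rc_13_2 lc_c_rc_13_2 lc_c_rc_26_4 lc_c_rc_2_3 lc_c_rc_7_3 lc_c_rc_22_9 lc_c_rc_14_2 lc_c_rc_11_1 lc_c_rc_26_4 lc_c_rc_11_1 lc_c_rc_26_2 lc_c_rc_24_6 lc_c_rc_11_1 lc_c_rc_13_2 lc_c_rc_14_2 lc_c_rc_22_3 lc_c_rc_13_2 lc_c_rc_2_1 lc_c_rc_22_7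 lc_c_rc_14_2 lc_c_rc_22_9 lc_c_Cert_tree lc_c_rc_11_1 lc_c_rc_14_2 lc_c_rc_26_4 lc_c_rc_13_2 lc_c_rc_13_2 lc_c_rc_13_2 lc_c_rc_13_2 lc_c_rc_13_2 lc_c_rc_24_4 lc_c_rc_24_2 lc_c_Cert_tree lc_c_rc_7_3 lc_c_rc_26_10 lc_c_rc_26_2 lc_c_Cert_tree lc_c_rc_22_3 lc_c_rc_7_5 lc_c_rc_11_1 lc_c_rc_14_2 lc_c_rc_11_1 lc_c_rc_11_1 lc_c_Cert_tree lc_c_rc_14_2 lc_c_Cert_tree lc_c_rc_23_5 lc_c_rc_2_3 lc_c_rc_13_2 lc_c_rc_11_1 lc_c_rc_26_4) (@D3.rec (fun _ => (Cert rels S Gen.c)) lc_c_Cert_tree lc_c_rc_14_2 lc_c_Cert_tree lc_c_rc_11_1 lc_c_Cert_tree lc_c_rc_13_2 lc_c_rc_26_8 lc_c_Cert_tree lc_c_rc_26_10 lc_c_Cert_tree lc_c_Cert_tree lc_c_rc_11_1 lc_c_rc_14_2 lc_c_rc_11_1 lc_c_rc_2_1 lc_c_rc_11_1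 lc_c_rc_26_8 lc_c_rc_23_0 lc_c_rc_11_1 lc_c_rc_13_2 lc_c_rc_11_1 lc_c_rc_11_1 lc_c_Cert_tree lc_c_rc_11_1 lc_c_rc_11_1 lc_c_Cert_tree lc_c_rc_11_1 lc_c_rc_23_5 lc_c_rc_13_2 lc_c_Cert_tree lc_c_rc_11_1 lc_c_rc_13_2 lc_c_rc_13_2 lc_c_rc_11_1 lc_c_rc_11_1 lc_c_rc_7_3 lc_c_rc_22_7 lc_c_rc_14_2 lc_c_rc_13_2 lc_c_rc_7_1 lc_c_Cert_tree lc_c_rc_13_2 lc_c_rc_26_2 lc_c_rc_11_1 lc_c_rc_7_3 lc_c_rc_13_0 lc_c_rc_26_2 lc_c_Cert_tree lc_c_rc_26_10 lc_c_rc_2_3 lc_c_Cert_tree lc_c_rc_26_2 lc_c_rc_24_8 lc_c_rc_11_1 lc_c_rc_11_1 lc_c_rc_13_2 lc_c_rc_23_0 lc_c_Cert_tree lc_c_rc_11_1 lc_c_rc_13_2 lc_c_rc_11_1 lc_c_rc_23_5) (@D3.rec (fun _ => (Cert rels S Gen.c)) lc_c_rc_23_5 lc_c_rc_11_1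 lc_c_rc_7_3 lc_c_rc_11_1 lc_c_rc_13_2 lc_c_Cert_tree lc_c_rc_11_1 lc_c_rc_11_1 lc_c_rc_14_0 lc_c_rc_2_1 lc_c_rc_11_1 lc_c_rc_7_1 lc_c_rc_22_3 lc_c_rc_13_2 lc_c_rc_24_8 lc_c_rc_26_8 lc_c_rc_11_1 lc_c_rc_7_3 lc_c_rc_12_0 lc_c_rc_11_1 lc_c_rc_2_3 lc_c_rc_22_7 lc_c_rc_11_1 lc_c_rc_14_2 lc_c_rc_11_1 lc_c_rc_13_2 lc_c_rc_11_1 lc_c_rc_7_3 lc_c_rc_22_5 lc_c_rc_13_2 lc_c_Cert_tree lc_c_Cert_tree lc_c_rc_14_2 lc_c_rc_7_3 lc_c_rc_11_1 lc_c_rc_13_2 lc_c_rc_2_1 lc_c_rc_14_2 lc_c_rc_11_1 lc_c_rc_7_3 lc_c_rc_22_7 lc_c_rc_13_2 lc_c_Cert_tree lc_c_Cert_tree lc_c_rc_11_1 lc_c_rc_13_2 lc_c_rc_7_1 lc_c_rc_12_2 lc_c_rc_13_2 lc_c_Cert_tree lc_c_rc_13_0 lc_c_rc_14_2 lc_c_rc_11_1 lc_c_rc_23_5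 lc_c_rc_13_2 lc_c_Cert_tree lc_c_rc_24_2 lc_c_rc_11_1 lc_c_Cert_tree lc_c_Cert_tree lc_c_rc_2_3 lc_c_Cert_tree) (@D3.rec (fun _ => (Cert rels S Gen.c)) lc_c_rc_24_4 lc_c_rc_11_1 lc_c_rc_13_2 lc_c_rc_7_5 lc_c_rc_13_2 lc_c_Cert_tree lc_c_rc_11_1 lc_c_rc_22_3 lc_c_rc_11_1 lc_c_rc_26_4 lc_c_Cert_tree lc_c_rc_26_4 lc_c_rc_11_1 lc_c_rc_2_1 lc_c_rc_26_8 lc_c_rc_13_2 lc_c_rc_11_1 lc_c_rc_14_2 lc_c_Cert_tree lc_c_rc_26_2 lc_c_rc_11_1 lc_c_Cert_tree lc_c_Cert_tree lc_c_rc_11_1 lc_c_rc_13_2 lc_c_rc_26_4 lc_c_rc_11_1 lc_c_rc_22_3 lc_c_Cert_tree lc_c_Cert_tree lc_c_rc_11_1 lc_c_Cert_tree lc_c_Cert_tree lc_c_rc_11_1 lc_c_rc_13_0 lc_c_rc_14_2 lc_c_rc_13_2 lc_c_Cert_tree lc_c_Cert_tree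 lc_c_rc_11_1 lc_c_Cert_tree lc_c_rc_22_5 lc_c_rc_26_2 lc_c_rc_22_5 lc_c_rc_12_14 lc_c_rc_11_1 lc_c_rc_11_1 lc_c_Cert_tree lc_c_rc_7_5 lc_c_rc_13_2 lc_c_rc_13_2 lc_c_Cert_tree lc_c_rc_24_2 lc_c_rc_14_2 lc_c_Cert_tree lc_c_rc_11_1 lc_c_rc_2_3 lc_c_rc_11_1 lc_c_rc_13_2 lc_c_Cert_tree lc_c_rc_11_1 lc_c_rc_7_1) (@D3.rec (fun _ => (Cert rels S Gen.c)) lc_c_rc_24_4 lc_c_rc_7_3 lc_c_rc_13_2 lc_c_rc_11_1 lc_c_rc_13_0 lc_c_rc_14_2 lc_c_rc_11_1 lc_c_rc_11_1 lc_c_rc_13_2 lc_c_rc_11_1 lc_c_rc_13_2 lc_c_rc_23_0 lc_c_rc_24_2 lc_c_rc_14_2 lc_c_rc_11_1 lc_c_rc_7_3 lc_c_rc_13_2 lc_c_rc_24_4 lc_c_rc_11_1 lc_c_rc_7_3 lc_c_rc_11_1 lc_c_rc_13_0 lc_c_rc_22_9 lc_c_rc_7_5 lc_c_rc_13_2 lc_c_Cert_tree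 lc_c_rc_24_4 lc_c_rc_11_1 lc_c_rc_13_2 lc_c_rc_7_3 lc_c_rc_26_8 lc_c_rc_13_2 lc_c_rc_26_10 lc_c_rc_11_1 lc_c_rc_14_2 lc_c_Cert_tree lc_c_Cert_tree lc_c_rc_13_2 lc_c_Cert_tree lc_c_rc_14_2 lc_c_rc_13_2 lc_c_rc_13_2 lc_c_Cert_tree lc_c_rc_2_3 lc_c_rc_11_1 lc_c_Cert_tree lc_c_rc_11_1 lc_c_rc_22_7 lc_c_Cert_tree lc_c_rc_11_1 lc_c_rc_22_7 lc_c_rc_11_1 lc_c_rc_7_5 lc_c_rc_13_2 lc_c_rc_22_5 lc_c_rc_7_3 lc_c_rc_11_1 lc_c_rc_26_2 lc_c_rc_7_3 lc_c_rc_11_1 lc_c_rc_24_4 lc_c_rc_24_8) (@D3.rec (fun _ => (Cert rels S Gen.c)) lc_c_rc_7_5 lc_c_rc_11_1 lc_c_rc_14_0 lc_c_Cert_tree lc_c_rc_11_1 lc_c_rc_7_1 lc_c_rc_11_1 lc_c_rc_14_0 lc_c_rc_22_3 lc_c_Cert_tree lc_c_rc_11_1 lc_c_rc_11_1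 lc_c_rc_11_1 lc_c_Cert_tree lc_c_rc_11_1 lc_c_rc_13_2 lc_c_Cert_tree lc_c_Cert_tree lc_c_rc_7_3 lc_c_Cert_tree lc_c_rc_13_2 lc_c_rc_13_2 lc_c_rc_26_4 lc_c_rc_13_2 lc_c_rc_26_10 lc_c_rc_22_5 lc_c_Cert_tree lc_c_Cert_tree lc_c_rc_2_3 lc_c_rc_13_2 lc_c_rc_11_1 lc_c_rc_22_7 lc_c_rc_11_1 lc_c_rc_13_2 lc_c_rc_11_1 lc_c_rc_11_1 lc_c_rc_13_2 lc_c_rc_22_3 lc_c_rc_13_2 lc_c_Cert_tree lc_c_Cert_tree lc_c_rc_14_2 lc_c_rc_11_1 lc_c_rc_24_4 lc_c_rc_2_3 lc_c_rc_13_2 lc_c_rc_2_3 lc_c_rc_26_2 lc_c_rc_2_3 lc_c_rc_13_2 lc_c_rc_14_2 lc_c_rc_13_2 lc_c_rc_24_6 lc_c_rc_13_2 lc_c_Cert_tree lc_c_Cert_tree lc_c_rc_14_2 lc_c_rc_7_5 lc_c_rc_22_3 lc_c_rc_2_3 lc_c_rc_13_2 lc_c_Cert_tree) (@D3.rec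 (fun _ => (Cert rels S Gen.c)) lc_c_rc_14_0 lc_c_rc_14_2 lc_c_Cert_tree lc_c_rc_11_1 lc_c_rc_14_2 lc_c_rc_11_1 lc_c_rc_24_4 lc_c_rc_11_1 lc_c_rc_7_1 lc_c_rc_24_8 lc_c_rc_13_2 lc_c_rc_2_1 lc_c_rc_13_2 lc_c_Cert_tree lc_c_rc_14_2 lc_c_rc_11_1 lc_c_rc_22_3 lc_c_rc_13_2 lc_c_rc_22_5 lc_c_Cert_tree lc_c_Cert_tree lc_c_Cert_tree lc_c_rc_11_1 lc_c_rc_13_2 lc_c_rc_22_3 lc_c_rc_14_2 lc_c_rc_24_4 lc_c_rc_24_4 lc_c_rc_2_3 lc_c_Cert_tree lc_c_rc_11_1 lc_c_Cert_tree lc_c_rc_13_2 lc_c_rc_11_1 lc_c_Cert_tree lc_c_rc_13_2 lc_c_Cert_tree lc_c_rc_13_0 lc_c_Cert_tree lc_c_rc_11_1 lc_c_rc_13_2 lc_c_rc_24_8 lc_c_rc_11_1 lc_c_rc_7_3 lc_c_rc_22_5 lc_c_rc_13_2 lc_c_Cert_tree lc_c_Cert_tree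 lc_c_rc_14_2 lc_c_Cert_tree lc_c_rc_7_5 lc_c_rc_13_2 lc_c_Cert_tree lc_c_rc_2_1 lc_c_rc_11_1 lc_c_rc_13_2 lc_c_rc_23_5 lc_c_rc_26_8 lc_c_rc_14_2 lc_c_Cert_tree lc_c_rc_7_5 lc_c_rc_22_7) (@D3.rec (fun _ => (Cert rels S Gen.c)) lc_c_rc_13_2 lc_c_rc_7_5 lc_c_rc_12_14 lc_c_rc_13_2 lc_c_rc_13_2 lc_c_rc_13_2 lc_c_rc_11_1 lc_c_rc_2_3 lc_c_rc_2_3 lc_c_rc_14_2 lc_c_rc_23_0 lc_c_rc_13_2 lc_c_rc_24_2 lc_c_rc_11_1 lc_c_rc_7_3 lc_c_rc_24_2 lc_c_rc_14_2 lc_c_rc_13_2 lc_c_Cert_tree lc_c_rc_26_2 lc_c_rc_7_3 lc_c_rc_13_2 lc_c_Cert_tree lc_c_rc_14_2 lc_c_rc_7_5 lc_c_rc_23_5 lc_c_rc_13_2 lc_c_rc_7_3 lc_c_rc_23_5 lc_c_rc_13_2 lc_c_Cert_tree lc_c_Cert_tree lc_c_rc_7_3 lc_c_Cert_tree lc_c_rc_14_2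 lc_c_rc_11_1 lc_c_rc_11_1 lc_c_rc_13_2 lc_c_rc_13_2 lc_c_rc_23_0 lc_c_rc_7_5 lc_c_rc_13_2 lc_c_rc_13_2 lc_c_rc_11_1 lc_c_rc_7_3 lc_c_rc_13_2 lc_c_rc_26_2 lc_c_rc_14_2 lc_c_rc_7_5 lc_c_rc_13_2 lc_c_rc_7_5 lc_c_rc_13_2 lc_c_rc_24_4 lc_c_rc_23_0 lc_c_rc_13_2 lc_c_rc_11_1 lc_c_rc_11_1 lc_c_rc_24_4 lc_c_rc_14_2 lc_c_rc_11_1 lc_c_rc_11_1 lc_c_rc_7_3) (@D3.rec (fun _ => (Cert rels S Gen.c)) lc_c_rc_13_2 lc_c_rc_23_0 lc_c_rc_22_5 lc_c_rc_2_3 lc_c_rc_13_2 lc_c_rc_13_2 lc_c_rc_2_3 lc_c_rc_22_7 lc_c_rc_14_2 lc_c_rc_11_1 lc_c_rc_11_1 lc_c_rc_13_2 lc_c_rc_26_10 lc_c_rc_23_0 lc_c_rc_14_2 lc_c_rc_7_5 lc_c_rc_13_2 lc_c_rc_7_5 lc_c_rc_11_1 lc_c_rc_23_0 lc_c_Cert_tree lc_c_rc_14_2 lc_c_rc_11_1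 lc_c_rc_24_4 lc_c_rc_11_1 lc_c_rc_13_2 lc_c_rc_13_2 lc_c_rc_24_8 lc_c_rc_14_2 lc_c_Cert_tree lc_c_Cert_tree lc_c_rc_13_2 lc_c_rc_22_5 lc_c_rc_13_2 lc_c_rc_13_2 lc_c_rc_24_6 lc_c_rc_13_2 lc_c_Cert_tree lc_c_rc_14_2 lc_c_rc_11_1 lc_c_rc_13_2 lc_c_rc_11_1 lc_c_Cert_tree lc_c_Cert_tree lc_c_rc_2_3 lc_c_rc_13_2 lc_c_rc_24_4 lc_c_rc_13_2 lc_c_Cert_tree lc_c_rc_14_2 lc_c_rc_26_10 lc_c_rc_26_10 lc_c_Cert_tree lc_c_rc_11_1 lc_c_rc_26_2 lc_c_rc_13_2 lc_c_rc_13_2 lc_c_Cert_tree lc_c_rc_14_2 lc_c_rc_14_2 lc_c_rc_7_5 lc_c_rc_2_3) (@D3.rec (fun _ => (Cert rels S Gen.c)) lc_c_rc_11_1 lc_c_rc_14_0 lc_c_rc_13_2 lc_c_rc_24_6 lc_c_rc_11_1 lc_c_rc_13_2 lc_c_Cert_tree lc_c_Cert_tree lc_c_rc_7_5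 lc_c_rc_11_1 lc_c_rc_13_2 lc_c_rc_14_2 lc_c_rc_13_2 lc_c_rc_11_1 lc_c_rc_13_2 lc_c_rc_26_2 lc_c_rc_13_2 lc_c_rc_7_3 lc_c_rc_13_2 lc_c_Cert_tree lc_c_rc_24_6 lc_c_rc_14_2 lc_c_rc_13_2 lc_c_rc_11_1 lc_c_rc_11_1 lc_c_Cert_tree lc_c_rc_26_4 lc_c_rc_11_1 lc_c_rc_13_2 lc_c_rc_11_1 lc_c_Cert_tree lc_c_rc_7_3 lc_c_rc_13_2 lc_c_rc_7_3 lc_c_rc_24_4 lc_c_rc_11_1 lc_c_rc_2_3 lc_c_Cert_tree lc_c_rc_13_2 lc_c_rc_11_1 lc_c_rc_23_0 lc_c_Cert_tree lc_c_rc_14_2 lc_c_rc_11_1 lc_c_rc_11_1 lc_c_rc_11_1 lc_c_rc_26_4 lc_c_rc_11_1 lc_c_rc_13_2 lc_c_Cert_tree lc_c_rc_11_1 lc_c_rc_2_3 lc_c_rc_2_3 lc_c_rc_14_2 lc_c_rc_11_1 lc_c_rc_7_3 lc_c_rc_13_2 lc_c_rc_26_2 lc_c_rc_13_2 lc_c_rc_26_2 lc_c_rc_7_3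 lc_c_rc_7_3) (@D3.rec (fun _ => (Cert rels S Gen.c)) lc_c_rc_7_5 lc_c_rc_23_5 lc_c_rc_2_3 lc_c_Cert_tree lc_c_rc_13_2 lc_c_rc_24_4 lc_c_rc_22_3 lc_c_rc_24_4 lc_c_rc_11_1 lc_c_Cert_tree lc_c_rc_14_2 lc_c_rc_11_1 lc_c_rc_11_1 lc_c_Cert_tree lc_c_rc_11_1 lc_c_rc_12_0 lc_c_rc_13_2 lc_c_Cert_tree lc_c_rc_7_3 lc_c_rc_23_5 lc_c_rc_11_1 lc_c_rc_13_2 lc_c_rc_2_3 lc_c_Cert_tree lc_c_rc_13_2 lc_c_rc_13_2 lc_c_rc_11_1 lc_c_rc_13_2 lc_c_rc_22_9 lc_c_rc_14_2 lc_c_rc_26_4 lc_c_rc_11_1 lc_c_rc_23_5 lc_c_rc_26_2 lc_c_rc_11_1 lc_c_rc_13_2 lc_c_rc_26_4 lc_c_rc_11_1 lc_c_rc_13_2 lc_c_rc_11_1 lc_c_rc_26_4 lc_c_rc_13_2 lc_c_Cert_tree lc_c_Cert_tree lc_c_rc_13_0 lc_c_rc_23_5 lc_c_rc_24_2 lc_c_Cert_tree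 lc_c_rc_24_8 lc_c_rc_11_1 lc_c_rc_11_1 lc_c_Cert_tree lc_c_rc_11_1 lc_c_rc_11_1 lc_c_rc_14_0 lc_c_rc_13_2 lc_c_rc_26_4 lc_c_rc_2_3 lc_c_rc_2_3 lc_c_rc_13_2 lc_c_Cert_tree lc_c_rc_14_2) (@D3.rec (fun _ => (Cert rels S Gen.c)) lc_c_rc_11_1 lc_c_rc_13_2 lc_c_rc_11_1 lc_c_rc_26_4 lc_c_rc_11_1 lc_c_rc_26_8 lc_c_rc_11_1 lc_c_rc_13_2 lc_c_rc_11_1 lc_c_rc_11_1 lc_c_Cert_tree lc_c_rc_11_1 lc_c_rc_11_1 lc_c_rc_23_0 lc_c_rc_11_1 lc_c_Cert_tree lc_c_rc_13_2 lc_c_Cert_tree lc_c_rc_11_1 lc_c_rc_11_1 lc_c_rc_11_1 lc_c_rc_11_1 lc_c_rc_11_1 lc_c_Cert_tree lc_c_rc_13_2 lc_c_rc_11_1 lc_c_rc_11_1 lc_c_rc_24_6 lc_c_rc_11_1 lc_c_Cert_tree lc_c_rc_13_2 lc_c_rc_2_1 lc_c_Cert_tree lc_c_rc_11_1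 lc_c_rc_13_2 lc_c_rc_11_1 lc_c_rc_11_1 lc_c_Cert_tree lc_c_rc_11_1 lc_c_Cert_tree lc_c_rc_13_2 lc_c_Cert_tree lc_c_Cert_tree lc_c_Cert_tree lc_c_rc_2_3 lc_c_rc_26_10 lc_c_rc_7_1 lc_c_rc_13_2 lc_c_rc_7_5 lc_c_rc_13_2 lc_c_rc_7_3 lc_c_rc_24_6 lc_c_rc_22_9 lc_c_rc_2_3 lc_c_rc_22_3 lc_c_rc_13_2 lc_c_rc_13_2 lc_c_rc_23_5 lc_c_rc_23_0 lc_c_Cert_tree lc_c_rc_14_2 lc_c_rc_26_8) (@D3.rec (fun _ => (Cert rels S Gen.c)) lc_c_rc_11_1 lc_c_rc_24_2 lc_c_rc_11_1 lc_c_rc_13_2 lc_c_rc_11_1 lc_c_rc_13_2 lc_c_Cert_tree lc_c_rc_11_1 lc_c_rc_11_1 lc_c_Cert_tree lc_c_rc_11_1 lc_c_rc_11_1 lc_c_rc_14_2 lc_c_rc_24_4 lc_c_rc_11_1 lc_c_rc_2_3 lc_c_Cert_tree lc_c_rc_13_2 lc_c_rc_13_2 lc_c_rc_2_1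 lc_c_Cert_tree lc_c_rc_14_2 lc_c_rc_11_1 lc_c_rc_13_2 lc_c_rc_13_2 lc_c_Cert_tree lc_c_rc_13_0 lc_c_rc_14_2 lc_c_rc_26_10 lc_c_rc_26_2 lc_c_rc_11_1 lc_c_rc_14_2 lc_c_rc_23_5 lc_c_rc_23_5 lc_c_rc_14_0 lc_c_rc_22_5 lc_c_Cert_tree lc_c_rc_13_2 lc_c_rc_22_3 lc_c_Cert_tree lc_c_rc_11_1 lc_c_rc_13_2 lc_c_rc_13_2 lc_c_rc_13_2 lc_c_rc_13_0 lc_c_Cert_tree lc_c_rc_11_1 lc_c_rc_22_5 lc_c_Cert_tree lc_c_rc_24_6 lc_c_Cert_tree lc_c_Cert_tree lc_c_rc_26_2 lc_c_Cert_tree lc_c_rc_2_3 lc_c_rc_11_1 lc_c_Cert_tree lc_c_rc_26_10 lc_c_rc_2_1 lc_c_rc_13_2 lc_c_rc_7_3 lc_c_rc_13_2) (@D3.rec (fun _ => (Cert rels S Gen.c)) lc_c_Cert_tree lc_c_rc_13_2 lc_c_rc_14_2 lc_c_rc_13_2 lc_c_rc_14_2 lc_c_rc_2_1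 lc_c_rc_2_3 lc_c_rc_26_2 lc_c_rc_23_0 lc_c_rc_13_2 lc_c_rc_2_3 lc_c_rc_7_5 lc_c_rc_13_2 lc_c_rc_11_1 lc_c_Cert_tree lc_c_rc_14_2 lc_c_rc_13_2 lc_c_rc_7_3 lc_c_rc_13_2 lc_c_rc_2_3 lc_c_Cert_tree lc_c_rc_25_17 lc_c_rc_26_8 lc_c_rc_22_5 lc_c_rc_13_2 lc_c_rc_11_1 lc_c_rc_7_3 lc_c_rc_13_0 lc_c_rc_26_4 lc_c_rc_11_1 lc_c_rc_11_1 lc_c_rc_13_2 lc_c_rc_13_0 lc_c_rc_26_10 lc_c_rc_26_8 lc_c_rc_11_1 lc_c_rc_11_1 lc_c_rc_11_1 lc_c_rc_7_5 lc_c_rc_2_3 lc_c_rc_13_2 lc_c_Cert_tree lc_c_rc_24_6 lc_c_rc_22_7 lc_c_rc_7_3 lc_c_rc_13_2 lc_c_rc_23_0 lc_c_rc_24_4 lc_c_Cert_tree lc_c_rc_14_2 lc_c_rc_7_3 lc_c_Cert_tree lc_c_rc_26_8 lc_c_rc_25_5 lc_c_rc_13_2 lc_c_Cert_tree lc_c_rc_11_1 lc_c_rc_14_2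 lc_c_rc_11_1 lc_c_rc_7_1 lc_c_Cert_tree lc_c_rc_7_3) (@D3.rec (fun _ => (Cert rels S Gen.c)) lc_c_rc_13_2 lc_c_rc_11_1 lc_c_Cert_tree lc_c_rc_13_2 lc_c_rc_11_1 lc_c_rc_11_1 lc_c_rc_7_3 lc_c_rc_26_4 lc_c_Cert_tree lc_c_rc_13_2 lc_c_Cert_tree lc_c_rc_11_1 lc_c_rc_13_2 lc_c_rc_13_2 lc_c_rc_13_2 lc_c_rc_11_1 lc_c_rc_26_8 lc_c_rc_7_3 lc_c_rc_13_2 lc_c_rc_2_1 lc_c_rc_7_5 lc_c_Cert_tree lc_c_Cert_tree lc_c_rc_2_3 lc_c_rc_7_3 lc_c_rc_13_2 lc_c_rc_13_2 lc_c_rc_26_8 lc_c_rc_26_4 lc_c_Cert_tree lc_c_rc_23_5 lc_c_rc_11_1 lc_c_Cert_tree lc_c_rc_23_5 lc_c_rc_24_8 lc_c_rc_24_2 lc_c_rc_11_1 lc_c_rc_22_7 lc_c_rc_13_2 lc_c_rc_7_3 lc_c_rc_22_5 lc_c_rc_22_7 lc_c_rc_14_2 lc_c_rc_13_2 lc_c_rc_11_1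 lc_c_rc_24_4 lc_c_rc_22_3 lc_c_rc_22_3 lc_c_rc_13_2 lc_c_rc_14_2 lc_c_rc_11_1 lc_c_rc_24_4 lc_c_rc_24_6 lc_c_rc_11_1 lc_c_rc_2_3 lc_c_Cert_tree lc_c_rc_11_1 lc_c_rc_12_4 lc_c_rc_13_2 lc_c_rc_26_4 lc_c_rc_11_1 lc_c_rc_13_2)
def ce_c_12 : D2 → D3 → (Cert rels S Gen.c) := @D2.rec (fun _ => D3 → (Cert rels S Gen.c)) (@D3.rec (fun _ => (Cert rels S Gen.c)) lc_c_Cert_tree lc_c_rc_11_1 lc_c_rc_13_2 lc_c_rc_26_8 lc_c_rc_26_4 lc_c_rc_11_1 lc_c_rc_7_3 lc_c_rc_13_0 lc_c_rc_7_3 lc_c_rc_22_7 lc_c_rc_7_3 lc_c_rc_13_0 lc_c_rc_24_6 lc_c_rc_7_3 lc_c_rc_11_1 lc_c_rc_13_2 lc_c_Cert_tree lc_c_rc_11_1 lc_c_rc_7_1 lc_c_rc_24_2 lc_c_rc_2_3 lc_c_rc_22_5 lc_c_rc_13_2 lc_c_rc_24_4 lc_c_rc_24_6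 lc_c_rc_11_1 lc_c_rc_2_3 lc_c_rc_2_3 lc_c_rc_24_4 lc_c_rc_11_1 lc_c_rc_13_2 lc_c_rc_11_1 lc_c_rc_13_2 lc_c_Cert_tree lc_c_rc_11_1 lc_c_rc_13_2 lc_c_rc_11_1 lc_c_rc_23_0 lc_c_rc_7_3 lc_c_rc_11_1 lc_c_Cert_tree lc_c_rc_14_2 lc_c_rc_26_4 lc_c_rc_11_1 lc_c_rc_7_3 lc_c_rc_11_1 lc_c_rc_11_1 lc_c_rc_7_3 lc_c_rc_14_2 lc_c_rc_7_3 lc_c_rc_7_5 lc_c_rc_22_5 lc_c_Cert_tree lc_c_rc_13_2 lc_c_rc_2_3 lc_c_Cert_tree lc_c_rc_11_1 lc_c_rc_23_0 lc_c_rc_22_5 lc_c_rc_13_2 lc_c_rc_7_3 lc_c_rc_13_2) (@D3.rec (fun _ => (Cert rels S Gen.c)) lc_c_rc_7_5 lc_c_rc_26_10 lc_c_rc_23_0 lc_c_rc_2_3 lc_c_Cert_tree lc_c_rc_24_4 lc_c_rc_22_7 lc_c_rc_13_2 lc_c_rc_26_4 lc_c_rc_11_1 lc_c_rc_26_2 lc_c_rc_26_8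 lc_c_rc_11_1 lc_c_rc_7_3 lc_c_rc_25_5 lc_c_rc_13_2 lc_c_rc_13_2 lc_c_rc_26_10 lc_c_rc_14_2 lc_c_Cert_tree lc_c_rc_14_2 lc_c_rc_13_2 lc_c_rc_26_2 lc_c_rc_24_8 lc_c_rc_13_2 lc_c_rc_24_2 lc_c_rc_7_5 lc_c_rc_23_0 lc_c_rc_13_2 lc_c_rc_11_1 lc_c_rc_11_1 lc_c_rc_13_2 lc_c_rc_22_9 lc_c_rc_11_1 lc_c_rc_2_3 lc_c_rc_13_2 lc_c_rc_13_2 lc_c_rc_13_2 lc_c_rc_13_2 lc_c_rc_2_3 lc_c_rc_11_1 lc_c_rc_13_0 lc_c_rc_7_3 lc_c_rc_14_2 lc_c_rc_14_2 lc_c_Cert_tree lc_c_rc_11_1 lc_c_rc_11_1 lc_c_rc_22_5 lc_c_rc_7_3 lc_c_Cert_tree lc_c_rc_13_2 lc_c_rc_26_4 lc_c_rc_11_1 lc_c_rc_26_2 lc_c_rc_11_1 lc_c_rc_13_2 lc_c_rc_23_0 lc_c_rc_23_0 lc_c_Cert_tree lc_c_rc_13_2 lc_c_rc_14_2) (@D3.rec (fun _ => (Cert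 rels S Gen.c)) lc_c_rc_23_0 lc_c_rc_2_3 lc_c_rc_26_4 lc_c_rc_26_10 lc_c_rc_11_1 lc_c_rc_22_3 lc_c_rc_14_2 lc_c_rc_11_1 lc_c_rc_11_1 lc_c_rc_23_5 lc_c_rc_24_8 lc_c_rc_13_2 lc_c_Cert_tree lc_c_rc_13_2 lc_c_rc_11_1 lc_c_rc_11_1 lc_c_rc_14_2 lc_c_rc_13_2 lc_c_rc_13_0 lc_c_rc_7_5 lc_c_rc_13_2 lc_c_rc_14_2 lc_c_rc_11_1 lc_c_rc_13_2 lc_c_rc_7_3 lc_c_rc_25_17 lc_c_rc_13_2 lc_c_rc_22_9 lc_c_rc_23_5 lc_c_rc_13_2 lc_c_Cert_tree lc_c_rc_13_2 lc_c_Cert_tree lc_c_rc_11_1 lc_c_rc_11_1 lc_c_rc_13_2 lc_c_rc_13_2 lc_c_rc_23_0 lc_c_rc_13_2 lc_c_rc_23_5 lc_c_Cert_tree lc_c_rc_7_5 lc_c_rc_22_3 lc_c_Cert_tree lc_c_rc_11_1 lc_c_rc_13_0 lc_c_rc_23_0 lc_c_Cert_tree lc_c_rc_13_2 lc_c_rc_11_1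 lc_c_rc_11_1 lc_c_rc_12_14 lc_c_rc_13_2 lc_c_rc_7_5 lc_c_rc_24_2 lc_c_rc_11_1 lc_c_rc_13_2 lc_c_rc_14_2 lc_c_rc_22_3 lc_c_rc_14_2 lc_c_rc_26_2 lc_c_rc_11_1) (@D3.rec (fun _ => (Cert rels S Gen.c)) lc_c_rc_11_1 lc_c_rc_13_2 lc_c_rc_23_5 lc_c_Cert_tree lc_c_rc_14_2 lc_c_rc_7_3 lc_c_rc_24_8 lc_c_rc_11_1 lc_c_rc_11_1 lc_c_rc_25_13 lc_c_rc_11_1 lc_c_rc_13_2 lc_c_rc_11_1 lc_c_rc_7_5 lc_c_rc_13_2 lc_c_rc_11_1 lc_c_rc_13_2 lc_c_rc_13_0 lc_c_rc_11_1 lc_c_rc_7_3 lc_c_Cert_tree lc_c_rc_11_1 lc_c_rc_11_1 lc_c_rc_11_1 lc_c_rc_7_5 lc_c_rc_13_2 lc_c_Cert_tree lc_c_rc_11_1 lc_c_rc_2_3 lc_c_Cert_tree lc_c_rc_13_2 lc_c_Cert_tree lc_c_Cert_tree lc_c_Cert_tree lc_c_Cert_tree lc_c_rc_11_1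 lc_c_rc_13_2 lc_c_rc_13_2 lc_c_rc_11_1 lc_c_rc_11_1 lc_c_rc_13_2 lc_c_rc_11_1 lc_c_rc_11_1 lc_c_rc_11_1 lc_c_rc_7_3 lc_c_rc_7_5 lc_c_rc_14_2 lc_c_rc_13_2 lc_c_Cert_tree lc_c_Cert_tree lc_c_rc_11_1 lc_c_rc_11_1 lc_c_rc_24_2 lc_c_rc_12_4 lc_c_rc_13_0 lc_c_rc_11_1 lc_c_rc_2_1 lc_c_rc_7_1 lc_c_rc_24_6 lc_c_rc_11_1 lc_c_rc_7_3 lc_c_rc_13_0) (@D3.rec (fun _ => (Cert rels S Gen.c)) lc_c_rc_13_2 lc_c_rc_13_2 lc_c_rc_7_3 lc_c_rc_13_2 lc_c_rc_13_2 lc_c_rc_24_4 lc_c_rc_14_2 lc_c_rc_13_2 lc_c_rc_13_2 lc_c_rc_13_2 lc_c_Cert_tree lc_c_rc_11_1 lc_c_rc_2_3 lc_c_rc_14_0 lc_c_rc_13_2 lc_c_rc_7_5 lc_c_rc_26_2 lc_c_rc_23_0 lc_c_rc_11_1 lc_c_rc_14_2 lc_c_rc_23_0 lc_c_rc_11_1 lc_c_rc_11_1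 lc_c_rc_14_2 lc_c_rc_13_2 lc_c_rc_11_1 lc_c_rc_7_3 lc_c_rc_7_3 lc_c_rc_13_0 lc_c_rc_26_2 lc_c_rc_24_8 lc_c_rc_14_2 lc_c_rc_14_2 lc_c_rc_13_2 lc_c_rc_13_2 lc_c_rc_7_5 lc_c_rc_11_1 lc_c_rc_11_1 lc_c_rc_13_2 lc_c_rc_2_3 lc_c_rc_7_3 lc_c_rc_23_5 lc_c_rc_7_3 lc_c_rc_11_1 lc_c_rc_7_3 lc_c_rc_2_1 lc_c_rc_13_0 lc_c_rc_13_2 lc_c_rc_11_1 lc_c_rc_11_1 lc_c_rc_13_2 lc_c_rc_7_3 lc_c_rc_13_2 lc_c_rc_7_3 lc_c_Cert_tree lc_c_Cert_tree lc_c_rc_2_3 lc_c_Cert_tree lc_c_rc_11_1 lc_c_rc_26_4 lc_c_rc_11_1 lc_c_rc_24_2) (@D3.rec (fun _ => (Cert rels S Gen.c)) lc_c_Cert_tree lc_c_rc_11_1 lc_c_rc_13_2 lc_c_rc_13_0 lc_c_Cert_tree lc_c_rc_11_1 lc_c_rc_11_1 lc_c_rc_11_1 lc_c_rc_13_2 lc_c_rc_11_1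 lc_c_rc_13_2 lc_c_Cert_tree lc_c_rc_11_1 lc_c_rc_13_2 lc_c_rc_11_1 lc_c_rc_13_2 lc_c_rc_11_1 lc_c_rc_24_8 lc_c_rc_7_3 lc_c_rc_13_2 lc_c_rc_26_10 lc_c_rc_2_1 lc_c_Cert_tree lc_c_rc_11_1 lc_c_rc_13_2 lc_c_Cert_tree lc_c_rc_11_1 lc_c_rc_26_2 lc_c_rc_24_2 lc_c_rc_11_1 lc_c_rc_26_2 lc_c_Cert_tree lc_c_rc_11_1 lc_c_rc_25_17 lc_c_rc_26_2 lc_c_Cert_tree lc_c_rc_11_1 lc_c_rc_22_7 lc_c_rc_11_1 lc_c_rc_26_2 lc_c_rc_11_1 lc_c_rc_11_1 lc_c_rc_11_1 lc_c_rc_7_3 lc_c_Cert_tree lc_c_rc_14_2 lc_c_rc_13_2 lc_c_Cert_tree lc_c_rc_22_5 lc_c_rc_2_3 lc_c_rc_13_2 lc_c_rc_13_2 lc_c_rc_11_1 lc_c_rc_23_5 lc_c_rc_14_2 lc_c_Cert_tree lc_c_rc_13_2 lc_c_Cert_tree lc_c_Cert_tree lc_c_rc_23_5 lc_c_rc_24_8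 lc_c_rc_24_8) (@D3.rec (fun _ => (Cert rels S Gen.c)) lc_c_rc_11_1 lc_c_rc_14_2 lc_c_rc_13_2 lc_c_Cert_tree lc_c_rc_13_2 lc_c_rc_7_3 lc_c_rc_22_7 lc_c_rc_14_2 lc_c_rc_13_2 lc_c_rc_11_1 lc_c_rc_13_2 lc_c_rc_23_5 lc_c_rc_24_2 lc_c_rc_7_1 lc_c_rc_26_2 lc_c_Cert_tree lc_c_rc_11_1 lc_c_rc_13_2 lc_c_rc_11_1 lc_c_rc_13_2 lc_c_rc_22_9 lc_c_rc_23_5 lc_c_rc_26_4 lc_c_rc_23_0 lc_c_rc_13_2 lc_c_rc_13_2 lc_c_rc_11_1 lc_c_rc_2_3 lc_c_rc_14_2 lc_c_rc_13_2 lc_c_Cert_tree lc_c_rc_22_7 lc_c_rc_13_2 lc_c_rc_22_3 lc_c_rc_11_1 lc_c_rc_14_2 lc_c_rc_13_2 lc_c_rc_11_1 lc_c_rc_13_2 lc_c_rc_24_8 lc_c_rc_7_3 lc_c_rc_22_7 lc_c_rc_14_2 lc_c_rc_13_2 lc_c_rc_7_3 lc_c_rc_11_1 lc_c_rc_13_2 lc_c_rc_11_1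 lc_c_rc_13_2 lc_c_rc_13_2 lc_c_rc_11_1 lc_c_rc_2_3 lc_c_rc_26_2 lc_c_Cert_tree lc_c_rc_23_0 lc_c_rc_23_5 lc_c_rc_26_4 lc_c_rc_23_0 lc_c_rc_23_0 lc_c_rc_11_1 lc_c_rc_13_2 lc_c_rc_13_2) (@D3.rec (fun _ => (Cert rels S Gen.c)) lc_c_Cert_tree lc_c_Cert_tree lc_c_rc_7_3 lc_c_rc_14_2 lc_c_rc_11_1 lc_c_rc_22_3 lc_c_Cert_tree lc_c_Cert_tree lc_c_rc_24_6 lc_c_rc_22_3 lc_c_rc_24_8 lc_c_rc_11_1 lc_c_rc_2_3 lc_c_rc_24_6 lc_c_rc_13_0 lc_c_rc_13_2 lc_c_rc_11_1 lc_c_rc_14_2 lc_c_Cert_tree lc_c_rc_23_5 lc_c_rc_11_1 lc_c_rc_25_9 lc_c_rc_13_2 lc_c_rc_24_2 lc_c_Cert_tree lc_c_rc_14_2 lc_c_rc_11_1 lc_c_rc_7_3 lc_c_rc_13_2 lc_c_Cert_tree lc_c_rc_13_0 lc_c_rc_14_2 lc_c_rc_13_2 lc_c_rc_2_1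 lc_c_rc_14_2 lc_c_rc_11_1 lc_c_Cert_tree lc_c_rc_14_2 lc_c_Cert_tree lc_c_rc_11_1 lc_c_Cert_tree lc_c_rc_26_8 lc_c_Cert_tree lc_c_rc_11_1 lc_c_Cert_tree lc_c_rc_13_2 lc_c_Cert_tree lc_c_Cert_tree lc_c_rc_14_2 lc_c_Cert_tree lc_c_rc_14_2 lc_c_rc_22_3 lc_c_rc_22_5 lc_c_Cert_tree lc_c_rc_13_2 lc_c_rc_13_0 lc_c_rc_11_1 lc_c_rc_23_0 lc_c_rc_23_0 lc_c_rc_7_5 lc_c_rc_13_0 lc_c_rc_14_2) (@D3.rec (fun _ => (Cert rels S Gen.c)) lc_c_rc_24_2 lc_c_rc_11_1 lc_c_Cert_tree lc_c_rc_13_2 lc_c_rc_11_1 lc_c_rc_23_5 lc_c_rc_22_7 lc_c_rc_23_0 lc_c_rc_11_1 lc_c_rc_23_5 lc_c_rc_11_1 lc_c_rc_26_8 lc_c_rc_11_1 lc_c_rc_23_5 lc_c_rc_26_10 lc_c_rc_26_10 lc_c_Cert_tree lc_c_rc_14_2 lc_c_rc_13_2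 lc_c_rc_24_4 lc_c_rc_13_2 lc_c_rc_23_0 lc_c_rc_26_2 lc_c_rc_26_10 lc_c_Cert_tree lc_c_rc_14_2 lc_c_rc_11_1 lc_c_rc_13_0 lc_c_rc_13_2 lc_c_rc_26_10 lc_c_rc_26_2 lc_c_rc_13_2 lc_c_rc_26_10 lc_c_rc_26_10 lc_c_rc_13_2 lc_c_rc_23_0 lc_c_Cert_tree lc_c_rc_14_2 lc_c_rc_7_5 lc_c_Cert_tree lc_c_rc_14_2 lc_c_rc_11_1 lc_c_rc_26_10 lc_c_rc_23_5 lc_c_rc_26_8 lc_c_rc_11_1 lc_c_rc_13_2 lc_c_rc_11_1 lc_c_rc_26_10 lc_c_rc_13_2 lc_c_rc_26_2 lc_c_rc_26_8 lc_c_rc_24_2 lc_c_rc_13_2 lc_c_rc_11_1 lc_c_rc_14_0 lc_c_rc_26_2 lc_c_rc_11_1 lc_c_rc_11_1 lc_c_rc_7_3 lc_c_Cert_tree lc_c_rc_22_5) (@D3.rec (fun _ => (Cert rels S Gen.c)) lc_c_rc_2_3 lc_c_rc_2_3 lc_c_rc_26_2 lc_c_rc_13_2 lc_c_rc_14_2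 lc_c_rc_13_2 lc_c_rc_7_1 lc_c_rc_13_2 lc_c_rc_22_3 lc_c_rc_13_2 lc_c_rc_24_6 lc_c_rc_26_10 lc_c_Cert_tree lc_c_rc_14_2 lc_c_rc_24_2 lc_c_rc_26_8 lc_c_rc_11_1 lc_c_rc_14_2 lc_c_rc_11_1 lc_c_rc_11_1 lc_c_rc_23_0 lc_c_rc_14_2 lc_c_rc_11_1 lc_c_rc_23_0 lc_c_rc_26_4 lc_c_rc_14_2 lc_c_rc_24_4 lc_c_rc_11_1 lc_c_rc_13_2 lc_c_rc_26_4 lc_c_rc_22_5 lc_c_rc_13_2 lc_c_rc_26_2 lc_c_rc_14_2 lc_c_rc_13_2 lc_c_rc_26_4 lc_c_rc_2_1 lc_c_Cert_tree lc_c_rc_13_2 lc_c_rc_24_2 lc_c_rc_24_2 lc_c_rc_11_1 lc_c_rc_24_6 lc_c_rc_13_2 lc_c_rc_11_1 lc_c_rc_24_4 lc_c_rc_11_1 lc_c_rc_14_2 lc_c_rc_2_3 lc_c_rc_11_1 lc_c_rc_22_7 lc_c_rc_11_1 lc_c_rc_11_1 lc_c_rc_13_2 lc_c_rc_13_2 lc_c_rc_13_2 lc_c_rc_13_2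 lc_c_rc_23_0 lc_c_rc_14_2 lc_c_Cert_tree lc_c_rc_14_2 lc_c_rc_11_1) (@D3.rec (fun _ => (Cert rels S Gen.c)) lc_c_rc_13_2 lc_c_rc_7_3 lc_c_rc_11_1 lc_c_rc_2_3 lc_c_rc_14_2 lc_c_rc_13_2 lc_c_rc_11_1 lc_c_rc_13_2 lc_c_rc_11_1 lc_c_rc_13_2 lc_c_rc_7_3 lc_c_rc_13_2 lc_c_rc_26_2 lc_c_rc_13_2 lc_c_rc_14_2 lc_c_rc_13_2 lc_c_Cert_tree lc_c_rc_14_2 lc_c_rc_23_5 lc_c_rc_13_2 lc_c_rc_7_5 lc_c_rc_22_7 lc_c_rc_13_2 lc_c_rc_2_3 lc_c_rc_11_1 lc_c_rc_2_3 lc_c_rc_14_2 lc_c_rc_24_4 lc_c_rc_7_5 lc_c_rc_13_2 lc_c_Cert_tree lc_c_rc_11_1 lc_c_rc_13_2 lc_c_rc_23_0 lc_c_rc_13_2 lc_c_Cert_tree lc_c_rc_7_5 lc_c_rc_22_3 lc_c_rc_14_2 lc_c_rc_14_2 lc_c_rc_26_4 lc_c_rc_11_1 lc_c_rc_13_2 lc_c_rc_26_2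 lc_c_rc_11_1 lc_c_rc_26_10 lc_c_rc_24_4 lc_c_rc_13_2 lc_c_rc_13_2 lc_c_rc_11_1 lc_c_rc_11_1 lc_c_rc_11_1 lc_c_rc_13_2 lc_c_rc_11_1 lc_c_rc_22_5 lc_c_rc_26_2 lc_c_rc_13_2 lc_c_rc_11_1 lc_c_rc_13_0 lc_c_rc_11_1 lc_c_rc_13_2 lc_c_rc_13_2) (@D3.rec (fun _ => (Cert rels S Gen.c)) lc_c_rc_26_4 lc_c_rc_13_2 lc_c_rc_13_2 lc_c_rc_23_0 lc_c_rc_23_5 lc_c_rc_13_2 lc_c_rc_23_0 lc_c_rc_13_2 lc_c_rc_12_2 lc_c_rc_23_0 lc_c_rc_11_1 lc_c_rc_13_2 lc_c_rc_11_1 lc_c_rc_11_1 lc_c_rc_24_8 lc_c_rc_14_2 lc_c_rc_11_1 lc_c_Cert_tree lc_c_rc_7_3 lc_c_rc_23_0 lc_c_rc_11_1 lc_c_Cert_tree lc_c_rc_14_2 lc_c_Cert_tree lc_c_Cert_tree lc_c_Cert_tree lc_c_rc_13_2 lc_c_Cert_tree lc_c_Cert_tree lc_c_rc_11_1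 lc_c_rc_11_1 lc_c_rc_11_1 lc_c_rc_11_1 lc_c_rc_13_2 lc_c_Cert_tree lc_c_rc_11_1 lc_c_rc_13_2 lc_c_rc_11_1 lc_c_rc_14_0 lc_c_rc_23_0 lc_c_rc_7_3 lc_c_Cert_tree lc_c_rc_7_3 lc_c_rc_23_0 lc_c_rc_13_2 lc_c_rc_11_1 lc_c_rc_22_3 lc_c_rc_7_5 lc_c_rc_22_5 lc_c_rc_7_5 lc_c_rc_22_7 lc_c_rc_13_2 lc_c_rc_11_1 lc_c_rc_2_3 lc_c_Cert_tree lc_c_rc_11_1 lc_c_rc_24_2 lc_c_rc_13_2 lc_c_rc_11_1 lc_c_rc_11_1 lc_c_rc_7_3 lc_c_rc_24_8) (@D3.rec (fun _ => (Cert rels S Gen.c)) lc_c_rc_13_2 lc_c_Cert_tree lc_c_rc_11_1 lc_c_rc_7_3 lc_c_rc_11_1 lc_c_rc_13_0 lc_c_rc_13_2 lc_c_Cert_tree lc_c_Cert_tree lc_c_rc_2_3 lc_c_rc_7_3 lc_c_rc_22_3 lc_c_rc_22_5 lc_c_rc_26_4 lc_c_rc_11_1 lc_c_rc_13_2 lc_c_Cert_tree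 lc_c_rc_11_1 lc_c_rc_13_2 lc_c_rc_13_2 lc_c_Cert_tree lc_c_rc_11_1 lc_c_rc_24_6 lc_c_rc_7_3 lc_c_rc_22_5 lc_c_rc_14_0 lc_c_rc_23_0 lc_c_rc_26_8 lc_c_rc_13_2 lc_c_rc_11_1 lc_c_rc_11_1 lc_c_rc_24_6 lc_c_rc_7_3 lc_c_rc_2_1 lc_c_rc_24_6 lc_c_rc_24_4 lc_c_rc_7_3 lc_c_rc_13_2 lc_c_rc_13_2 lc_c_rc_26_4 lc_c_rc_11_1 lc_c_rc_23_5 lc_c_rc_7_3 lc_c_rc_22_5 lc_c_rc_2_3 lc_c_rc_13_2 lc_c_rc_26_10 lc_c_rc_11_1 lc_c_rc_2_1 lc_c_Cert_tree lc_c_rc_13_2 lc_c_rc_22_3 lc_c_rc_13_2 lc_c_rc_7_3 lc_c_rc_13_2 lc_c_rc_26_10 lc_c_rc_23_0 lc_c_rc_7_5 lc_c_rc_14_2 lc_c_rc_7_5 lc_c_Cert_tree lc_c_rc_11_1) (@D3.rec (fun _ => (Cert rels S Gen.c)) lc_c_rc_24_6 lc_c_rc_11_1 lc_c_Cert_tree lc_c_rc_2_1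 lc_c_rc_11_1 lc_c_rc_13_2 lc_c_rc_11_1 lc_c_rc_26_8 lc_c_rc_11_1 lc_c_rc_14_0 lc_c_rc_7_3 lc_c_rc_24_8 lc_c_rc_7_3 lc_c_rc_24_8 lc_c_rc_13_2 lc_c_rc_2_3 lc_c_rc_26_10 lc_c_rc_7_3 lc_c_rc_24_8 lc_c_rc_13_2 lc_c_rc_11_1 lc_c_rc_22_3 lc_c_rc_22_3 lc_c_rc_13_0 lc_c_rc_11_1 lc_c_rc_2_3 lc_c_rc_22_7 lc_c_rc_11_1 lc_c_rc_11_1 lc_c_rc_11_1 lc_c_rc_13_2 lc_c_rc_7_3 lc_c_rc_13_2 lc_c_Cert_tree lc_c_rc_23_5 lc_c_rc_2_3 lc_c_Cert_tree lc_c_rc_7_3 lc_c_rc_22_5 lc_c_rc_26_4 lc_c_rc_11_1 lc_c_Cert_tree lc_c_rc_11_1 lc_c_rc_13_2 lc_c_rc_2_1 lc_c_rc_11_1 lc_c_rc_11_1 lc_c_rc_11_1 lc_c_rc_11_1 lc_c_rc_11_1 lc_c_rc_7_3 lc_c_rc_24_8 lc_c_Cert_tree lc_c_rc_2_3 lc_c_Cert_tree lc_c_rc_23_5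 lc_c_rc_13_2 lc_c_rc_26_8 lc_c_rc_2_3 lc_c_rc_13_2 lc_c_rc_11_1 lc_c_rc_22_5) (@D3.rec (fun _ => (Cert rels S Gen.c)) lc_c_rc_2_3 lc_c_rc_26_2 lc_c_rc_7_3 lc_c_rc_13_2 lc_c_rc_13_2 lc_c_rc_23_5 lc_c_rc_14_2 lc_c_rc_7_3 lc_c_rc_13_2 lc_c_rc_2_3 lc_c_rc_11_1 lc_c_Cert_tree lc_c_rc_7_1 lc_c_Cert_tree lc_c_rc_23_0 lc_c_rc_13_2 lc_c_rc_14_2 lc_c_rc_24_8 lc_c_rc_26_4 lc_c_rc_13_2 lc_c_rc_11_1 lc_c_Cert_tree lc_c_Cert_tree lc_c_rc_13_0 lc_c_rc_22_3 lc_c_rc_14_2 lc_c_rc_7_5 lc_c_rc_11_1 lc_c_rc_26_10 lc_c_rc_23_0 lc_c_rc_11_1 lc_c_rc_26_8 lc_c_Cert_tree lc_c_rc_13_2 lc_c_Cert_tree lc_c_rc_14_2 lc_c_rc_13_0 lc_c_rc_14_0 lc_c_rc_7_1 lc_c_rc_26_2 lc_c_rc_13_2 lc_c_rc_13_2 lc_c_rc_11_1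 lc_c_rc_26_4 lc_c_rc_7_1 lc_c_rc_2_3 lc_c_rc_14_2 lc_c_Cert_tree lc_c_rc_14_0 lc_c_rc_13_0 lc_c_rc_7_5 lc_c_rc_13_0 lc_c_rc_22_3 lc_c_rc_22_3 lc_c_rc_7_3 lc_c_rc_13_2 lc_c_rc_13_2 lc_c_rc_26_8 lc_c_rc_13_2 lc_c_rc_11_1 lc_c_rc_26_10 lc_c_rc_11_1) (@D3.rec (fun _ => (Cert rels S Gen.c)) lc_c_rc_26_2 lc_c_rc_7_5 lc_c_rc_22_5 lc_c_rc_26_10 lc_c_rc_7_3 lc_c_rc_22_7 lc_c_rc_14_2 lc_c_rc_23_5 lc_c_rc_26_4 lc_c_rc_23_5 lc_c_rc_22_5 lc_c_rc_7_5 lc_c_rc_24_6 lc_c_rc_23_0 lc_c_rc_24_8 lc_c_rc_23_5 lc_c_rc_22_9 lc_c_rc_26_10 lc_c_rc_11_1 lc_c_rc_22_3 lc_c_rc_2_3 lc_c_rc_7_3 lc_c_rc_11_1 lc_c_rc_11_1 lc_c_rc_13_2 lc_c_rc_23_5 lc_c_rc_22_3 lc_c_rc_11_1 lc_c_rc_7_3 lc_c_rc_11_1 lc_c_rc_13_2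 lc_c_rc_11_1 lc_c_rc_2_1 lc_c_rc_11_1 lc_c_rc_13_0 lc_c_Cert_tree lc_c_rc_12_0 lc_c_Cert_tree lc_c_rc_26_4 lc_c_Cert_tree lc_c_rc_7_5 lc_c_Cert_tree lc_c_rc_11_1 lc_c_rc_26_2 lc_c_rc_23_0 lc_c_rc_22_3 lc_c_rc_7_1 lc_c_rc_14_2 lc_c_rc_24_8 lc_c_rc_11_1 lc_c_rc_11_1 lc_c_rc_11_1 lc_c_Cert_tree lc_c_rc_2_1 lc_c_rc_11_1 lc_c_rc_14_0 lc_c_rc_11_1 lc_c_rc_26_2 lc_c_rc_23_5 lc_c_rc_13_2 lc_c_rc_26_10 lc_c_rc_26_2) (@D3.rec (fun _ => (Cert rels S Gen.c)) lc_c_rc_7_3 lc_c_rc_22_5 lc_c_rc_13_2 lc_c_Cert_tree lc_c_Cert_tree lc_c_rc_11_1 lc_c_rc_7_1 lc_c_rc_11_1 lc_c_rc_26_10 lc_c_rc_22_9 lc_c_rc_13_2 lc_c_rc_22_5 lc_c_rc_22_3 lc_c_rc_11_1 lc_c_rc_7_1 lc_c_rc_2_3 lc_c_rc_2_3 lc_c_rc_13_2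 lc_c_rc_11_1 lc_c_rc_13_0 lc_c_Cert_tree lc_c_rc_14_2 lc_c_Cert_tree lc_c_Cert_tree lc_c_rc_11_1 lc_c_Cert_tree lc_c_rc_26_4 lc_c_Cert_tree lc_c_rc_11_1 lc_c_rc_26_10 lc_c_rc_2_1 lc_c_rc_11_1 lc_c_rc_13_2 lc_c_rc_11_1 lc_c_rc_24_8 lc_c_rc_11_1 lc_c_rc_7_3 lc_c_Cert_tree lc_c_rc_14_2 lc_c_rc_22_9 lc_c_rc_2_3 lc_c_rc_13_2 lc_c_rc_14_2 lc_c_rc_13_0 lc_c_rc_2_3 lc_c_rc_11_1 lc_c_rc_7_3 lc_c_Cert_tree lc_c_rc_11_1 lc_c_rc_7_3 lc_c_rc_14_2 lc_c_Cert_tree lc_c_rc_13_2 lc_c_Cert_tree lc_c_rc_11_1 lc_c_rc_26_2 lc_c_rc_11_1 lc_c_rc_26_2 lc_c_rc_11_1 lc_c_rc_14_2 lc_c_rc_11_1 lc_c_rc_7_3) (@D3.rec (fun _ => (Cert rels S Gen.c)) lc_c_Cert_tree lc_c_rc_11_1 lc_c_rc_26_4 lc_c_rc_11_1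 lc_c_rc_13_0 lc_c_rc_7_5 lc_c_rc_13_2 lc_c_rc_24_2 lc_c_rc_2_3 lc_c_rc_14_2 lc_c_rc_22_9 lc_c_Cert_tree lc_c_rc_23_0 lc_c_rc_7_3 lc_c_rc_23_0 lc_c_Cert_tree lc_c_Cert_tree lc_c_rc_2_3 lc_c_Cert_tree lc_c_rc_7_3 lc_c_rc_13_2 lc_c_rc_7_3 lc_c_Cert_tree lc_c_rc_11_1 lc_c_rc_11_1 lc_c_rc_11_1 lc_c_rc_26_10 lc_c_Cert_tree lc_c_rc_7_5 lc_c_rc_2_3 lc_c_rc_11_1 lc_c_rc_2_3 lc_c_rc_11_1 lc_c_rc_26_4 lc_c_rc_11_1 lc_c_rc_26_10 lc_c_rc_24_6 lc_c_rc_7_3 lc_c_Cert_tree lc_c_rc_13_2 lc_c_rc_26_2 lc_c_rc_11_1 lc_c_rc_11_1 lc_c_rc_26_8 lc_c_rc_11_1 lc_c_rc_24_6 lc_c_rc_2_3 lc_c_rc_11_1 lc_c_rc_7_5 lc_c_Cert_tree lc_c_Cert_tree lc_c_rc_2_3 lc_c_rc_13_2 lc_c_rc_13_2 lc_c_rc_7_3 lc_c_rc_11_1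 lc_c_rc_7_1 lc_c_rc_22_3 lc_c_rc_2_3 lc_c_Cert_tree lc_c_rc_23_5 lc_c_rc_7_1) (@D3.rec (fun _ => (Cert rels S Gen.c)) lc_c_rc_24_2 lc_c_Cert_tree lc_c_rc_11_1 lc_c_rc_2_3 lc_c_Cert_tree lc_c_Cert_tree lc_c_Cert_tree lc_c_rc_11_1 lc_c_Cert_tree lc_c_rc_22_9 lc_c_rc_22_3 lc_c_Cert_tree lc_c_Cert_tree lc_c_rc_11_1 lc_c_rc_26_4 lc_c_rc_11_1 lc_c_Cert_tree lc_c_rc_13_2 lc_c_rc_7_5 lc_c_Cert_tree lc_c_Cert_tree lc_c_Cert_tree lc_c_Cert_tree lc_c_rc_11_1 lc_c_rc_13_2 lc_c_Cert_tree lc_c_rc_13_2 lc_c_rc_7_3 lc_c_rc_7_3 lc_c_rc_24_2 lc_c_rc_14_2 lc_c_rc_13_2 lc_c_rc_7_3 lc_c_rc_22_5 lc_c_rc_7_3 lc_c_rc_24_2 lc_c_rc_13_2 lc_c_rc_13_2 lc_c_rc_7_5 lc_c_rc_23_5 lc_c_rc_7_5 lc_c_rc_22_5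 lc_c_rc_11_1 lc_c_rc_11_1 lc_c_rc_2_3 lc_c_Cert_tree lc_c_rc_11_1 lc_c_rc_13_2 lc_c_rc_26_4 lc_c_rc_11_1 lc_c_rc_23_0 lc_c_rc_26_8 lc_c_rc_11_1 lc_c_rc_23_0 lc_c_rc_2_3 lc_c_Cert_tree lc_c_rc_13_0 lc_c_rc_26_2 lc_c_rc_13_2 lc_c_rc_7_3 lc_c_rc_12_12 lc_c_rc_23_0) (@D3.rec (fun _ => (Cert rels S Gen.c)) lc_c_rc_7_3 lc_c_rc_13_2 lc_c_rc_11_1 lc_c_rc_13_0 lc_c_rc_7_3 lc_c_rc_11_1 lc_c_rc_13_2 lc_c_rc_7_3 lc_c_rc_12_14 lc_c_rc_7_5 lc_c_rc_22_5 lc_c_rc_13_2 lc_c_Cert_tree lc_c_rc_11_1 lc_c_rc_2_3 lc_c_Cert_tree lc_c_rc_13_2 lc_c_rc_11_1 lc_c_rc_22_3 lc_c_rc_13_2 lc_c_rc_11_1 lc_c_rc_11_1 lc_c_Cert_tree lc_c_rc_14_2 lc_c_rc_11_1 lc_c_rc_26_10 lc_c_rc_11_1 lc_c_rc_23_5 lc_c_rc_26_4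 lc_c_rc_11_1 lc_c_rc_2_3 lc_c_rc_24_4 lc_c_rc_11_1 lc_c_rc_13_2 lc_c_rc_7_3 lc_c_rc_13_0 lc_c_Cert_tree lc_c_rc_26_4 lc_c_rc_11_1 lc_c_Cert_tree lc_c_rc_11_1 lc_c_rc_13_0 lc_c_rc_11_1 lc_c_rc_13_2 lc_c_rc_7_3 lc_c_rc_13_2 lc_c_Cert_tree lc_c_rc_13_2 lc_c_rc_7_3 lc_c_rc_14_0 lc_c_rc_7_1 lc_c_rc_11_1 lc_c_rc_2_3 lc_c_rc_13_2 lc_c_rc_13_2 lc_c_rc_13_2 lc_c_rc_24_6 lc_c_rc_13_2 lc_c_rc_22_3 lc_c_rc_14_2 lc_c_rc_11_1 lc_c_rc_23_0) (@D3.rec (fun _ => (Cert rels S Gen.c)) lc_c_Cert_tree lc_c_rc_11_1 lc_c_rc_26_8 lc_c_rc_11_1 lc_c_rc_13_2 lc_c_Cert_tree lc_c_Cert_tree lc_c_rc_13_2 lc_c_rc_14_2 lc_c_rc_26_4 lc_c_rc_13_2 lc_c_rc_11_1 lc_c_rc_26_2 lc_c_rc_11_1 lc_c_rc_26_2 lc_c_rc_13_2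 lc_c_rc_14_2 lc_c_rc_23_0 lc_c_rc_23_5 lc_c_rc_13_2 lc_c_rc_11_1 lc_c_rc_13_2 lc_c_rc_24_2 lc_c_rc_14_2 lc_c_rc_13_2 lc_c_Cert_tree lc_c_rc_26_2 lc_c_rc_11_1 lc_c_rc_26_4 lc_c_rc_26_2 lc_c_rc_13_2 lc_c_rc_11_1 lc_c_rc_13_2 lc_c_rc_23_0 lc_c_rc_22_9 lc_c_rc_14_2 lc_c_rc_11_1 lc_c_rc_26_4 lc_c_rc_11_1 lc_c_rc_12_0 lc_c_Cert_tree lc_c_rc_11_1 lc_c_rc_13_2 lc_c_rc_11_1 lc_c_rc_13_2 lc_c_Cert_tree lc_c_Cert_tree lc_c_rc_7_3 lc_c_rc_22_5 lc_c_rc_26_4 lc_c_rc_26_4 lc_c_rc_7_3 lc_c_rc_23_5 lc_c_rc_24_2 lc_c_rc_13_2 lc_c_rc_2_3 lc_c_rc_23_0 lc_c_rc_7_3 lc_c_rc_22_5 lc_c_rc_7_5 lc_c_rc_13_2 lc_c_rc_14_0) (@D3.rec (fun _ => (Cert rels S Gen.c)) lc_c_Cert_tree lc_c_rc_11_1 lc_c_rc_2_3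 lc_c_Cert_tree lc_c_rc_13_2 lc_c_rc_11_1 lc_c_rc_13_2 lc_c_rc_12_14 lc_c_rc_22_3 lc_c_rc_11_1 lc_c_rc_13_2 lc_c_rc_26_8 lc_c_rc_11_1 lc_c_rc_13_2 lc_c_rc_13_2 lc_c_Cert_tree lc_c_Cert_tree lc_c_rc_7_3 lc_c_rc_13_2 lc_c_rc_7_3 lc_c_rc_13_2 lc_c_Cert_tree lc_c_rc_13_0 lc_c_rc_7_5 lc_c_rc_13_2 lc_c_Cert_tree lc_c_rc_11_1 lc_c_rc_2_3 lc_c_Cert_tree lc_c_rc_13_2 lc_c_rc_13_2 lc_c_rc_23_0 lc_c_rc_13_0 lc_c_Cert_tree lc_c_rc_14_2 lc_c_rc_11_1 lc_c_Cert_tree lc_c_rc_11_1 lc_c_rc_26_4 lc_c_rc_11_1 lc_c_rc_13_2 lc_c_Cert_tree lc_c_rc_11_1 lc_c_rc_13_2 lc_c_rc_13_2 lc_c_Cert_tree lc_c_Cert_tree lc_c_rc_11_1 lc_c_rc_26_4 lc_c_rc_11_1 lc_c_rc_11_1 lc_c_rc_11_1 lc_c_rc_7_1 lc_c_Cert_tree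 lc_c_Cert_tree lc_c_rc_13_2 lc_c_Cert_tree lc_c_rc_13_2 lc_c_rc_14_0 lc_c_rc_13_2 lc_c_rc_13_2 lc_c_Cert_tree) (@D3.rec (fun _ => (Cert rels S Gen.c)) lc_c_rc_11_1 lc_c_rc_2_1 lc_c_rc_11_1 lc_c_rc_13_2 lc_c_rc_7_5 lc_c_rc_24_2 lc_c_rc_22_9 lc_c_rc_13_2 lc_c_rc_7_1 lc_c_rc_26_10 lc_c_rc_14_2 lc_c_rc_13_2 lc_c_rc_24_6 lc_c_rc_13_2 lc_c_rc_22_7 lc_c_rc_14_2 lc_c_Cert_tree lc_c_rc_11_1 lc_c_rc_23_5 lc_c_rc_13_2 lc_c_Cert_tree lc_c_rc_13_2 lc_c_rc_24_4 lc_c_rc_11_1 lc_c_rc_14_2 lc_c_rc_13_2 lc_c_Cert_tree lc_c_rc_11_1 lc_c_rc_24_4 lc_c_rc_22_3 lc_c_Cert_tree lc_c_rc_13_0 lc_c_rc_11_1 lc_c_rc_23_0 lc_c_rc_2_3 lc_c_rc_11_1 lc_c_rc_11_1 lc_c_rc_2_3 lc_c_rc_13_2 lc_c_rc_11_1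 lc_c_rc_11_1 lc_c_rc_13_2 lc_c_Cert_tree lc_c_rc_14_2 lc_c_rc_11_1 lc_c_rc_23_5 lc_c_rc_13_2 lc_c_rc_24_8 lc_c_rc_24_8 lc_c_rc_22_5 lc_c_rc_14_2 lc_c_rc_14_2 lc_c_rc_13_2 lc_c_Cert_tree lc_c_rc_11_1 lc_c_rc_14_2 lc_c_rc_7_3 lc_c_rc_13_2 lc_c_Cert_tree lc_c_Cert_tree lc_c_Cert_tree lc_c_rc_14_2) (@D3.rec (fun _ => (Cert rels S Gen.c)) lc_c_rc_22_7 lc_c_rc_13_2 lc_c_rc_13_2 lc_c_rc_24_2 lc_c_rc_24_4 lc_c_rc_13_2 lc_c_rc_22_3 lc_c_Cert_tree lc_c_rc_14_2 lc_c_rc_7_5 lc_c_rc_13_2 lc_c_rc_26_8 lc_c_rc_13_2 lc_c_rc_11_1 lc_c_rc_14_2 lc_c_rc_26_2 lc_c_rc_11_1 lc_c_rc_13_2 lc_c_rc_11_1 lc_c_rc_11_1 lc_c_Cert_tree lc_c_rc_14_2 lc_c_rc_11_1 lc_c_rc_26_4 lc_c_rc_13_2 lc_c_rc_13_2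 lc_c_rc_13_2 lc_c_rc_11_1 lc_c_rc_11_1 lc_c_Cert_tree lc_c_rc_14_2 lc_c_rc_11_1 lc_c_Cert_tree lc_c_rc_11_1 lc_c_rc_14_2 lc_c_rc_7_3 lc_c_rc_22_5 lc_c_rc_13_2 lc_c_rc_11_1 lc_c_rc_2_3 lc_c_rc_11_1 lc_c_rc_26_4 lc_c_rc_13_2 lc_c_rc_11_1 lc_c_rc_14_2 lc_c_rc_22_5 lc_c_rc_7_5 lc_c_rc_13_2 lc_c_rc_13_2 lc_c_rc_24_2 lc_c_rc_13_2 lc_c_rc_14_2 lc_c_rc_2_1 lc_c_rc_14_2 lc_c_rc_13_2 lc_c_rc_13_2 lc_c_rc_7_5 lc_c_rc_26_10 lc_c_rc_11_1 lc_c_rc_2_3 lc_c_rc_24_4 lc_c_rc_11_1) (@D3.rec (fun _ => (Cert rels S Gen.c)) lc_c_rc_11_1 lc_c_rc_11_1 lc_c_rc_23_0 lc_c_rc_13_0 lc_c_rc_12_2 lc_c_rc_13_2 lc_c_rc_11_1 lc_c_rc_11_1 lc_c_rc_24_4 lc_c_rc_11_1 lc_c_rc_13_2 lc_c_rc_23_5 lc_c_rc_11_1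 lc_c_Cert_tree lc_c_rc_11_1 lc_c_rc_26_2 lc_c_rc_11_1 lc_c_rc_7_1 lc_c_rc_14_2 lc_c_Cert_tree lc_c_Cert_tree lc_c_Cert_tree lc_c_rc_2_3 lc_c_rc_7_3 lc_c_rc_11_1 lc_c_rc_7_5 lc_c_rc_13_2 lc_c_Cert_tree lc_c_Cert_tree lc_c_rc_2_3 lc_c_rc_7_3 lc_c_Cert_tree lc_c_rc_11_1 lc_c_rc_2_3 lc_c_rc_7_1 lc_c_Cert_tree lc_c_rc_2_3 lc_c_Cert_tree lc_c_Cert_tree lc_c_rc_11_1 lc_c_Cert_tree lc_c_rc_11_1 lc_c_rc_12_14 lc_c_rc_13_2 lc_c_rc_7_1 lc_c_rc_11_1 lc_c_rc_22_7 lc_c_rc_13_0 lc_c_rc_24_8 lc_c_rc_11_1 lc_c_rc_2_3 lc_c_rc_2_3 lc_c_Cert_tree lc_c_Cert_tree lc_c_Cert_tree lc_c_rc_11_1 lc_c_rc_11_1 lc_c_rc_24_8 lc_c_rc_11_1 lc_c_rc_11_1 lc_c_rc_7_3 lc_c_rc_24_2) (@D3.rec (fun _ => (Cert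 rels S Gen.c)) lc_c_rc_26_8 lc_c_rc_11_1 lc_c_Cert_tree lc_c_rc_11_1 lc_c_rc_24_8 lc_c_rc_23_5 lc_c_rc_11_1 lc_c_Cert_tree lc_c_rc_23_0 lc_c_rc_7_3 lc_c_rc_22_3 lc_c_rc_7_3 lc_c_rc_23_0 lc_c_Cert_tree lc_c_Cert_tree lc_c_Cert_tree lc_c_Cert_tree lc_c_rc_2_3 lc_c_rc_23_0 lc_c_rc_24_4 lc_c_Cert_tree lc_c_rc_11_1 lc_c_rc_7_3 lc_c_rc_12_4 lc_c_rc_11_1 lc_c_Cert_tree lc_c_rc_25_13 lc_c_rc_22_7 lc_c_rc_11_1 lc_c_rc_13_2 lc_c_rc_11_1 lc_c_rc_11_1 lc_c_rc_13_2 lc_c_rc_7_3 lc_c_Cert_tree lc_c_Cert_tree lc_c_rc_2_3 lc_c_rc_23_5 lc_c_rc_26_10 lc_c_rc_11_1 lc_c_Cert_tree lc_c_rc_14_2 lc_c_rc_11_1 lc_c_Cert_tree lc_c_rc_7_3 lc_c_rc_13_2 lc_c_rc_12_0 lc_c_rc_2_1 lc_c_rc_7_1 lc_c_rc_7_3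 lc_c_rc_11_1 lc_c_rc_23_5 lc_c_rc_13_2 lc_c_rc_7_1 lc_c_rc_22_7 lc_c_rc_13_2 lc_c_Cert_tree lc_c_rc_2_3 lc_c_rc_13_2 lc_c_rc_11_1 lc_c_rc_13_2 lc_c_rc_23_0) (@D3.rec (fun _ => (Cert rels S Gen.c)) lc_c_rc_2_3 lc_c_rc_7_3 lc_c_rc_22_5 lc_c_rc_22_9 lc_c_Cert_tree lc_c_Cert_tree lc_c_rc_11_1 lc_c_Cert_tree lc_c_rc_24_2 lc_c_rc_11_1 lc_c_rc_7_3 lc_c_rc_22_3 lc_c_rc_14_2 lc_c_Cert_tree lc_c_rc_11_1 lc_c_rc_22_3 lc_c_rc_13_2 lc_c_rc_2_3 lc_c_Cert_tree lc_c_rc_22_5 lc_c_rc_13_2 lc_c_rc_13_0 lc_c_Cert_tree lc_c_rc_7_5 lc_c_rc_11_1 lc_c_rc_14_2 lc_c_rc_7_5 lc_c_rc_7_3 lc_c_rc_11_1 lc_c_rc_23_0 lc_c_rc_7_3 lc_c_rc_13_2 lc_c_rc_7_3 lc_c_rc_7_5 lc_c_rc_11_1 lc_c_rc_11_1 lc_c_rc_13_2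 lc_c_rc_11_1 lc_c_rc_7_5 lc_c_rc_11_1 lc_c_rc_11_1 lc_c_rc_2_3 lc_c_rc_13_0 lc_c_rc_13_2 lc_c_rc_13_2 lc_c_rc_13_0 lc_c_rc_14_2 lc_c_rc_11_1 lc_c_rc_11_1 lc_c_rc_26_4 lc_c_rc_11_1 lc_c_rc_2_3 lc_c_rc_26_2 lc_c_rc_11_1 lc_c_rc_7_5 lc_c_rc_24_2 lc_c_rc_22_3 lc_c_rc_23_0 lc_c_rc_7_1 lc_c_rc_22_3 lc_c_rc_22_5 lc_c_rc_7_3) (@D3.rec (fun _ => (Cert rels S Gen.c)) lc_c_rc_11_1 lc_c_rc_11_1 lc_c_rc_7_3 lc_c_rc_22_3 lc_c_rc_13_2 lc_c_rc_23_0 lc_c_rc_13_2 lc_c_rc_22_7 lc_c_rc_13_2 lc_c_rc_7_5 lc_c_rc_22_5 lc_c_rc_11_1 lc_c_rc_11_1 lc_c_rc_2_3 lc_c_Cert_tree lc_c_rc_13_2 lc_c_rc_26_2 lc_c_rc_11_1 lc_c_rc_26_8 lc_c_rc_26_8 lc_c_rc_24_2 lc_c_rc_11_1 lc_c_rc_13_2 lc_c_rc_11_1 lc_c_rc_24_6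 lc_c_rc_7_1 lc_c_rc_22_3 lc_c_rc_24_2 lc_c_rc_26_10 lc_c_Cert_tree lc_c_rc_11_1 lc_c_rc_7_1 lc_c_rc_22_7 lc_c_rc_14_2 lc_c_rc_23_0 lc_c_rc_14_2 lc_c_rc_26_4 lc_c_rc_13_2 lc_c_rc_7_3 lc_c_rc_11_1 lc_c_rc_11_1 lc_c_rc_24_2 lc_c_rc_13_2 lc_c_rc_22_3 lc_c_rc_25_5 lc_c_rc_13_2 lc_c_rc_7_5 lc_c_rc_13_2 lc_c_rc_13_2 lc_c_rc_13_2 lc_c_rc_13_2 lc_c_rc_26_10 lc_c_rc_11_1 lc_c_rc_14_2 lc_c_rc_26_4 lc_c_rc_13_2 lc_c_rc_13_2 lc_c_rc_7_3 lc_c_rc_7_3 lc_c_rc_13_2 lc_c_rc_26_4 lc_c_rc_14_2) (@D3.rec (fun _ => (Cert rels S Gen.c)) lc_c_rc_13_2 lc_c_rc_13_2 lc_c_rc_13_2 lc_c_rc_13_2 lc_c_rc_2_1 lc_c_rc_14_2 lc_c_Cert_tree lc_c_rc_11_1 lc_c_rc_24_4 lc_c_rc_24_4 lc_c_rc_14_2 lc_c_rc_7_5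 lc_c_rc_7_5 lc_c_rc_13_2 lc_c_rc_24_4 lc_c_rc_13_2 lc_c_rc_26_8 lc_c_rc_13_2 lc_c_rc_26_4 lc_c_rc_13_2 lc_c_rc_13_0 lc_c_rc_26_2 lc_c_rc_13_2 lc_c_rc_11_1 lc_c_Cert_tree lc_c_rc_14_2 lc_c_rc_14_0 lc_c_rc_14_2 lc_c_rc_14_2 lc_c_rc_11_1 lc_c_Cert_tree lc_c_rc_13_2 lc_c_rc_23_5 lc_c_rc_11_1 lc_c_rc_13_2 lc_c_Cert_tree lc_c_rc_13_2 lc_c_rc_13_0 lc_c_rc_22_9 lc_c_rc_14_0 lc_c_rc_2_3 lc_c_rc_14_2 lc_c_rc_13_0 lc_c_rc_13_2 lc_c_rc_14_2 lc_c_rc_11_1 lc_c_rc_24_8 lc_c_rc_7_3 lc_c_rc_22_3 lc_c_rc_24_2 lc_c_rc_13_2 lc_c_rc_24_8 lc_c_rc_14_2 lc_c_rc_11_1 lc_c_rc_13_2 lc_c_rc_13_2 lc_c_Cert_tree lc_c_Cert_tree lc_c_rc_23_5 lc_c_rc_14_2 lc_c_rc_11_1 lc_c_rc_24_2) (@D3.rec (fun _ =>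 (Cert rels S Gen.c)) lc_c_rc_13_2 lc_c_rc_26_4 lc_c_rc_11_1 lc_c_rc_11_1 lc_c_rc_11_1 lc_c_rc_11_1 lc_c_rc_13_2 lc_c_rc_26_10 lc_c_rc_26_2 lc_c_rc_13_2 lc_c_rc_23_0 lc_c_Cert_tree lc_c_rc_14_2 lc_c_rc_11_1 lc_c_rc_24_8 lc_c_Cert_tree lc_c_rc_13_2 lc_c_Cert_tree lc_c_rc_13_2 lc_c_rc_11_1 lc_c_rc_11_1 lc_c_rc_14_2 lc_c_rc_11_1 lc_c_rc_11_1 lc_c_rc_13_2 lc_c_rc_11_1 lc_c_rc_7_3 lc_c_rc_11_1 lc_c_rc_14_2 lc_c_rc_2_3 lc_c_rc_2_3 lc_c_Cert_tree lc_c_rc_13_2 lc_c_Cert_tree lc_c_Cert_tree lc_c_rc_11_1 lc_c_rc_13_2 lc_c_rc_7_1 lc_c_rc_22_7 lc_c_rc_14_2 lc_c_rc_7_3 lc_c_rc_26_4 lc_c_rc_11_1 lc_c_Cert_tree lc_c_rc_13_2 lc_c_rc_13_2 lc_c_rc_7_5 lc_c_Cert_tree lc_c_rc_26_2 lc_c_rc_25_5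 lc_c_rc_7_3 lc_c_rc_2_3 lc_c_rc_23_0 lc_c_rc_11_1 lc_c_rc_11_1 lc_c_rc_2_3 lc_c_rc_22_9 lc_c_rc_11_1 lc_c_rc_13_2 lc_c_rc_11_1 lc_c_rc_14_2 lc_c_Cert_tree) (@D3.rec (fun _ => (Cert rels S Gen.c)) lc_c_Cert_tree lc_c_rc_26_8 lc_c_rc_11_1 lc_c_Cert_tree lc_c_rc_26_4 lc_c_rc_26_10 lc_c_rc_24_8 lc_c_rc_11_1 lc_c_rc_14_2 lc_c_rc_13_2 lc_c_rc_23_0 lc_c_rc_14_2 lc_c_rc_7_3 lc_c_rc_24_2 lc_c_rc_22_5 lc_c_rc_2_3 lc_c_rc_24_8 lc_c_rc_13_2 lc_c_rc_26_10 lc_c_rc_13_2 lc_c_rc_13_2 lc_c_rc_23_5 lc_c_Cert_tree lc_c_rc_13_2 lc_c_rc_13_2 lc_c_rc_2_1 lc_c_rc_11_1 lc_c_Cert_tree lc_c_rc_14_2 lc_c_rc_13_2 lc_c_rc_13_2 lc_c_rc_11_1 lc_c_rc_7_3 lc_c_Cert_tree lc_c_rc_11_1 lc_c_rc_11_1 lc_c_rc_7_3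 lc_c_rc_22_7 lc_c_rc_14_2 lc_c_rc_7_3 lc_c_rc_7_5 lc_c_rc_22_7 lc_c_rc_11_1 lc_c_rc_22_5 lc_c_rc_13_0 lc_c_rc_13_2 lc_c_rc_7_3 lc_c_rc_23_0 lc_c_rc_23_0 lc_c_rc_13_2 lc_c_rc_26_4 lc_c_Cert_tree lc_c_rc_13_2 lc_c_rc_13_2 lc_c_rc_23_0 lc_c_rc_13_2 lc_c_rc_11_1 lc_c_rc_13_2 lc_c_Cert_tree lc_c_Cert_tree lc_c_rc_11_1 lc_c_rc_11_1) (@D3.rec (fun _ => (Cert rels S Gen.c)) lc_c_rc_22_5 lc_c_rc_11_1 lc_c_rc_7_3 lc_c_rc_11_1 lc_c_rc_24_2 lc_c_rc_26_10 lc_c_rc_13_2 lc_c_Cert_tree lc_c_rc_11_1 lc_c_rc_7_3 lc_c_rc_13_2 lc_c_rc_24_2 lc_c_rc_14_2 lc_c_rc_26_2 lc_c_rc_13_2 lc_c_rc_11_1 lc_c_rc_24_2 lc_c_rc_26_4 lc_c_rc_13_2 lc_c_rc_7_3 lc_c_rc_13_2 lc_c_rc_11_1 lc_c_rc_7_3 lc_c_rc_11_1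 lc_c_rc_14_2 lc_c_rc_11_1 lc_c_rc_22_7 lc_c_rc_7_1 lc_c_rc_11_1 lc_c_rc_13_2 lc_c_rc_2_1 lc_c_rc_2_1 lc_c_rc_23_0 lc_c_rc_11_1 lc_c_rc_26_4 lc_c_rc_24_4 lc_c_rc_23_0 lc_c_rc_26_2 lc_c_rc_13_2 lc_c_rc_26_4 lc_c_rc_13_2 lc_c_rc_26_8 lc_c_rc_11_1 lc_c_rc_11_1 lc_c_rc_23_5 lc_c_rc_11_1 lc_c_rc_13_2 lc_c_rc_11_1 lc_c_Cert_tree lc_c_rc_11_1 lc_c_rc_11_1 lc_c_rc_14_2 lc_c_rc_13_2 lc_c_rc_7_1 lc_c_rc_11_1 lc_c_rc_23_5 lc_c_rc_13_2 lc_c_rc_24_2 lc_c_rc_11_1 lc_c_rc_26_8 lc_c_Cert_tree lc_c_rc_2_3) (@D3.rec (fun _ => (Cert rels S Gen.c)) lc_c_rc_26_4 lc_c_rc_13_2 lc_c_rc_11_1 lc_c_rc_13_2 lc_c_Cert_tree lc_c_rc_24_6 lc_c_rc_11_1 lc_c_rc_22_7 lc_c_rc_11_1 lc_c_rc_11_1 lc_c_Cert_tree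 lc_c_rc_7_3 lc_c_rc_22_7 lc_c_rc_14_2 lc_c_rc_14_0 lc_c_rc_2_3 lc_c_rc_23_0 lc_c_rc_26_8 lc_c_rc_24_8 lc_c_rc_11_1 lc_c_rc_13_2 lc_c_Cert_tree lc_c_rc_13_0 lc_c_rc_23_5 lc_c_rc_13_2 lc_c_rc_11_1 lc_c_rc_22_7 lc_c_rc_2_3 lc_c_rc_13_2 lc_c_rc_11_1 lc_c_rc_11_1 lc_c_rc_14_2 lc_c_Cert_tree lc_c_Cert_tree lc_c_Cert_tree lc_c_rc_11_1 lc_c_rc_13_2 lc_c_rc_13_2 lc_c_rc_14_2 lc_c_rc_2_3 lc_c_rc_14_2 lc_c_rc_14_2 lc_c_rc_7_3 lc_c_Cert_tree lc_c_rc_11_1 lc_c_Cert_tree lc_c_rc_26_10 lc_c_rc_24_2 lc_c_rc_11_1 lc_c_rc_13_2 lc_c_rc_24_2 lc_c_rc_7_3 lc_c_rc_11_1 lc_c_rc_7_1 lc_c_rc_11_1 lc_c_rc_11_1 lc_c_rc_13_2 lc_c_rc_14_0 lc_c_Cert_tree lc_c_rc_11_1 lc_c_rc_24_6 lc_c_rc_11_1) (@D3.rec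 (fun _ => (Cert rels S Gen.c)) lc_c_rc_2_3 lc_c_rc_13_2 lc_c_rc_13_2 lc_c_rc_7_5 lc_c_rc_11_1 lc_c_rc_7_3 lc_c_rc_22_5 lc_c_rc_26_4 lc_c_rc_7_3 lc_c_rc_13_2 lc_c_rc_2_3 lc_c_rc_22_3 lc_c_rc_7_5 lc_c_rc_11_1 lc_c_rc_11_1 lc_c_rc_12_2 lc_c_rc_11_1 lc_c_rc_7_3 lc_c_rc_7_3 lc_c_rc_7_3 lc_c_rc_22_3 lc_c_rc_11_1 lc_c_rc_7_5 lc_c_rc_22_7 lc_c_rc_13_2 lc_c_rc_7_3 lc_c_rc_23_5 lc_c_Cert_tree lc_c_rc_11_1 lc_c_rc_2_3 lc_c_Cert_tree lc_c_rc_24_8 lc_c_rc_22_9 lc_c_rc_11_1 lc_c_rc_13_2 lc_c_rc_11_1 lc_c_rc_13_2 lc_c_rc_13_2 lc_c_rc_11_1 lc_c_rc_14_2 lc_c_rc_7_3 lc_c_rc_11_1 lc_c_rc_2_3 lc_c_rc_26_2 lc_c_rc_23_5 lc_c_rc_2_1 lc_c_rc_11_1 lc_c_rc_13_2 lc_c_rc_13_0 lc_c_rc_13_0 lc_c_rc_11_1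 lc_c_rc_23_5 lc_c_rc_7_3 lc_c_rc_13_2 lc_c_rc_23_5 lc_c_rc_13_0 lc_c_rc_13_2 lc_c_Cert_tree lc_c_rc_26_8 lc_c_Cert_tree lc_c_rc_11_1 lc_c_rc_26_10) (@D3.rec (fun _ => (Cert rels S Gen.c)) lc_c_rc_22_5 lc_c_rc_11_1 lc_c_Cert_tree lc_c_Cert_tree lc_c_rc_14_2 lc_c_rc_11_1 lc_c_rc_13_2 lc_c_rc_13_2 lc_c_rc_11_1 lc_c_rc_14_0 lc_c_rc_13_2 lc_c_rc_13_0 lc_c_rc_13_2 lc_c_rc_26_4 lc_c_rc_11_1 lc_c_rc_13_2 lc_c_rc_26_4 lc_c_rc_11_1 lc_c_rc_13_2 lc_c_Cert_tree lc_c_rc_11_1 lc_c_Cert_tree lc_c_rc_7_3 lc_c_rc_14_2 lc_c_rc_24_2 lc_c_rc_11_1 lc_c_rc_22_3 lc_c_rc_23_0 lc_c_rc_11_1 lc_c_rc_11_1 lc_c_rc_7_3 lc_c_rc_22_3 lc_c_rc_14_2 lc_c_Cert_tree lc_c_rc_7_5 lc_c_rc_2_3 lc_c_Cert_tree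 lc_c_rc_13_2 lc_c_rc_13_2 lc_c_rc_13_2 lc_c_rc_13_2 lc_c_rc_13_2 lc_c_rc_11_1 lc_c_rc_26_10 lc_c_rc_24_4 lc_c_rc_11_1 lc_c_rc_12_2 lc_c_rc_14_2 lc_c_rc_11_1 lc_c_rc_11_1 lc_c_rc_13_2 lc_c_rc_26_8 lc_c_rc_13_2 lc_c_rc_13_2 lc_c_Cert_tree lc_c_rc_11_1 lc_c_Cert_tree lc_c_rc_11_1 lc_c_rc_11_1 lc_c_rc_26_2 lc_c_rc_13_2 lc_c_rc_11_1) (@D3.rec (fun _ => (Cert rels S Gen.c)) lc_c_rc_11_1 lc_c_rc_13_2 lc_c_rc_11_1 lc_c_rc_24_2 lc_c_rc_11_1 lc_c_rc_26_2 lc_c_rc_14_2 lc_c_rc_13_2 lc_c_rc_14_2 lc_c_rc_13_2 lc_c_rc_24_2 lc_c_rc_11_1 lc_c_rc_13_2 lc_c_rc_11_1 lc_c_rc_13_2 lc_c_Cert_tree lc_c_rc_11_1 lc_c_rc_22_7 lc_c_rc_13_2 lc_c_rc_11_1 lc_c_rc_11_1 lc_c_rc_13_2 lc_c_Cert_tree lc_c_rc_14_2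 lc_c_rc_26_10 lc_c_rc_13_2 lc_c_Cert_tree lc_c_rc_2_1 lc_c_Cert_tree lc_c_rc_13_2 lc_c_rc_11_1 lc_c_Cert_tree lc_c_rc_23_5 lc_c_Cert_tree lc_c_rc_23_0 lc_c_rc_11_1 lc_c_rc_14_2 lc_c_rc_11_1 lc_c_rc_11_1 lc_c_rc_7_5 lc_c_rc_2_1 lc_c_rc_13_2 lc_c_rc_2_1 lc_c_rc_7_3 lc_c_rc_11_1 lc_c_rc_13_2 lc_c_rc_25_13 lc_c_rc_24_2 lc_c_rc_11_1 lc_c_rc_13_2 lc_c_rc_11_1 lc_c_rc_2_3 lc_c_rc_11_1 lc_c_rc_26_2 lc_c_rc_11_1 lc_c_rc_11_1 lc_c_rc_2_3 lc_c_Cert_tree lc_c_rc_13_2 lc_c_rc_11_1 lc_c_rc_13_2 lc_c_rc_14_2) (@D3.rec (fun _ => (Cert rels S Gen.c)) lc_c_rc_7_3 lc_c_rc_11_1 lc_c_rc_13_2 lc_c_rc_22_3 lc_c_rc_23_0 lc_c_rc_13_2 lc_c_rc_23_5 lc_c_rc_14_2 lc_c_rc_13_2 lc_c_rc_7_5 lc_c_rc_13_2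 lc_c_rc_26_4 lc_c_rc_13_2 lc_c_Cert_tree lc_c_Cert_tree lc_c_rc_13_2 lc_c_rc_13_2 lc_c_rc_25_1 lc_c_rc_26_4 lc_c_rc_26_10 lc_c_rc_11_1 lc_c_Cert_tree lc_c_rc_23_5 lc_c_Cert_tree lc_c_rc_24_2 lc_c_rc_24_2 lc_c_rc_7_5 lc_c_rc_11_1 lc_c_rc_11_1 lc_c_rc_2_3 lc_c_rc_13_2 lc_c_rc_13_2 lc_c_rc_13_2 lc_c_rc_13_2 lc_c_rc_2_1 lc_c_rc_7_5 lc_c_rc_25_17 lc_c_rc_11_1 lc_c_Cert_tree lc_c_rc_14_2 lc_c_rc_7_5 lc_c_Cert_tree lc_c_Cert_tree lc_c_rc_11_1 lc_c_rc_11_1 lc_c_rc_14_2 lc_c_rc_7_3 lc_c_Cert_tree lc_c_rc_11_1 lc_c_rc_11_1 lc_c_rc_11_1 lc_c_Cert_tree lc_c_rc_24_6 lc_c_rc_11_1 lc_c_rc_13_0 lc_c_rc_26_10 lc_c_Cert_tree lc_c_rc_7_3 lc_c_Cert_tree lc_c_rc_14_2 lc_c_rc_11_1 lc_c_Cert_tree)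 (@D3.rec (fun _ => (Cert rels S Gen.c)) lc_c_rc_2_1 lc_c_rc_24_8 lc_c_rc_11_1 lc_c_rc_14_2 lc_c_rc_11_1 lc_c_rc_11_1 lc_c_rc_11_1 lc_c_rc_23_0 lc_c_Cert_tree lc_c_rc_14_2 lc_c_Cert_tree lc_c_rc_24_8 lc_c_rc_11_1 lc_c_rc_11_1 lc_c_rc_13_2 lc_c_rc_11_1 lc_c_rc_13_2 lc_c_rc_13_0 lc_c_rc_11_1 lc_c_Cert_tree lc_c_rc_23_0 lc_c_rc_26_10 lc_c_Cert_tree lc_c_rc_14_2 lc_c_rc_22_9 lc_c_rc_24_8 lc_c_rc_11_1 lc_c_rc_13_2 lc_c_rc_11_1 lc_c_rc_13_2 lc_c_rc_26_10 lc_c_Cert_tree lc_c_rc_14_2 lc_c_rc_11_1 lc_c_rc_2_1 lc_c_rc_13_2 lc_c_rc_26_10 lc_c_rc_13_2 lc_c_rc_13_2 lc_c_rc_7_5 lc_c_rc_13_2 lc_c_rc_26_2 lc_c_rc_13_2 lc_c_Cert_tree lc_c_rc_7_5 lc_c_rc_13_2 lc_c_rc_14_2 lc_c_rc_12_0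 lc_c_rc_13_2 lc_c_rc_13_2 lc_c_rc_2_3 lc_c_rc_14_2 lc_c_rc_26_4 lc_c_rc_11_1 lc_c_Cert_tree lc_c_rc_13_2 lc_c_rc_26_2 lc_c_rc_11_1 lc_c_Cert_tree lc_c_rc_13_2 lc_c_rc_11_1 lc_c_rc_14_2) (@D3.rec (fun _ => (Cert rels S Gen.c)) lc_c_rc_13_0 lc_c_rc_11_1 lc_c_rc_14_0 lc_c_rc_13_2 lc_c_Cert_tree lc_c_rc_13_0 lc_c_rc_11_1 lc_c_rc_14_2 lc_c_rc_22_7 lc_c_rc_23_5 lc_c_rc_11_1 lc_c_Cert_tree lc_c_rc_14_2 lc_c_rc_7_5 lc_c_rc_2_1 lc_c_rc_13_2 lc_c_rc_11_1 lc_c_rc_26_4 lc_c_rc_11_1 lc_c_rc_13_2 lc_c_rc_13_0 lc_c_rc_24_6 lc_c_rc_24_6 lc_c_rc_7_5 lc_c_rc_14_0 lc_c_rc_11_1 lc_c_rc_2_1 lc_c_rc_2_3 lc_c_Cert_tree lc_c_rc_11_1 lc_c_rc_23_0 lc_c_rc_7_3 lc_c_rc_11_1 lc_c_rc_7_3 lc_c_rc_11_1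 lc_c_rc_13_2 lc_c_rc_11_1 lc_c_rc_23_5 lc_c_rc_11_1 lc_c_rc_2_1 lc_c_rc_13_2 lc_c_rc_13_0 lc_c_rc_2_3 lc_c_rc_13_2 lc_c_rc_13_2 lc_c_rc_26_10 lc_c_rc_11_1 lc_c_rc_14_2 lc_c_rc_11_1 lc_c_rc_24_8 lc_c_rc_22_3 lc_c_rc_14_2 lc_c_rc_7_5 lc_c_rc_11_1 lc_c_rc_14_2 lc_c_rc_11_1 lc_c_rc_7_5 lc_c_rc_7_1 lc_c_rc_24_2 lc_c_rc_11_1 lc_c_rc_7_5 lc_c_rc_11_1) (@D3.rec (fun _ => (Cert rels S Gen.c)) lc_c_rc_11_1 lc_c_rc_14_2 lc_c_rc_7_3 lc_c_Cert_tree lc_c_rc_14_2 lc_c_rc_11_1 lc_c_rc_26_10 lc_c_rc_7_5 lc_c_rc_11_1 lc_c_rc_14_0 lc_c_rc_11_1 lc_c_rc_13_2 lc_c_rc_11_1 lc_c_rc_22_3 lc_c_rc_11_1 lc_c_rc_11_1 lc_c_rc_13_2 lc_c_rc_26_4 lc_c_Cert_tree lc_c_Cert_tree lc_c_Cert_tree lc_c_rc_13_2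 lc_c_rc_2_3 lc_c_rc_14_2 lc_c_rc_11_1 lc_c_Cert_tree lc_c_rc_11_1 lc_c_Cert_tree lc_c_Cert_tree lc_c_rc_11_1 lc_c_rc_14_2 lc_c_rc_24_8 lc_c_rc_11_1 lc_c_rc_14_2 lc_c_rc_13_2 lc_c_rc_23_0 lc_c_rc_13_2 lc_c_rc_13_2 lc_c_rc_14_2 lc_c_Cert_tree lc_c_Cert_tree lc_c_rc_23_5 lc_c_Cert_tree lc_c_rc_13_2 lc_c_Cert_tree lc_c_rc_11_1 lc_c_rc_25_17 lc_c_rc_2_1 lc_c_rc_22_5 lc_c_rc_11_1 lc_c_rc_13_2 lc_c_rc_2_3 lc_c_Cert_tree lc_c_rc_11_1 lc_c_Cert_tree lc_c_rc_11_1 lc_c_rc_13_2 lc_c_rc_22_3 lc_c_rc_11_1 lc_c_rc_13_2 lc_c_Cert_tree lc_c_rc_11_1) (@D3.rec (fun _ => (Cert rels S Gen.c)) lc_c_rc_13_2 lc_c_rc_11_1 lc_c_rc_11_1 lc_c_rc_13_0 lc_c_rc_12_4 lc_c_rc_14_2 lc_c_rc_13_2 lc_c_Cert_tree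 lc_c_rc_13_2 lc_c_Cert_tree lc_c_rc_11_1 lc_c_rc_11_1 lc_c_rc_24_6 lc_c_rc_23_5 lc_c_rc_7_3 lc_c_rc_13_2 lc_c_rc_11_1 lc_c_rc_13_2 lc_c_rc_7_3 lc_c_rc_11_1 lc_c_rc_13_2 lc_c_rc_7_5 lc_c_Cert_tree lc_c_rc_7_5 lc_c_rc_23_5 lc_c_rc_7_5 lc_c_Cert_tree lc_c_rc_13_0 lc_c_rc_11_1 lc_c_rc_2_3 lc_c_rc_11_1 lc_c_rc_14_2 lc_c_rc_24_6 lc_c_rc_11_1 lc_c_rc_11_1 lc_c_rc_13_2 lc_c_rc_22_5 lc_c_rc_2_3 lc_c_rc_7_3 lc_c_rc_13_2 lc_c_rc_13_2 lc_c_rc_11_1 lc_c_rc_13_2 lc_c_rc_13_2 lc_c_rc_23_0 lc_c_rc_7_5 lc_c_rc_11_1 lc_c_Cert_tree lc_c_rc_14_2 lc_c_rc_22_5 lc_c_rc_13_2 lc_c_rc_14_2 lc_c_rc_11_1 lc_c_rc_13_2 lc_c_rc_22_9 lc_c_rc_2_3 lc_c_rc_22_3 lc_c_rc_2_1 lc_c_rc_13_2 lc_c_rc_7_5 lc_c_rc_7_5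 lc_c_Cert_tree) (@D3.rec (fun _ => (Cert rels S Gen.c)) lc_c_rc_14_2 lc_c_rc_13_2 lc_c_rc_26_10 lc_c_rc_23_0 lc_c_rc_25_17 lc_c_rc_14_2 lc_c_rc_11_1 lc_c_rc_11_1 lc_c_Cert_tree lc_c_rc_11_1 lc_c_Cert_tree lc_c_rc_11_1 lc_c_rc_14_2 lc_c_rc_11_1 lc_c_rc_11_1 lc_c_rc_14_2 lc_c_rc_26_4 lc_c_Cert_tree lc_c_rc_23_5 lc_c_rc_26_4 lc_c_Cert_tree lc_c_rc_13_2 lc_c_Cert_tree lc_c_Cert_tree lc_c_rc_11_1 lc_c_rc_14_2 lc_c_rc_7_5 lc_c_Cert_tree lc_c_rc_24_2 lc_c_rc_11_1 lc_c_rc_11_1 lc_c_rc_13_2 lc_c_rc_11_1 lc_c_rc_22_7 lc_c_Cert_tree lc_c_rc_11_1 lc_c_rc_14_0 lc_c_rc_13_2 lc_c_Cert_tree lc_c_rc_11_1 lc_c_rc_13_2 lc_c_rc_11_1 lc_c_rc_2_3 lc_c_rc_7_3 lc_c_rc_22_5 lc_c_rc_14_2 lc_c_rc_26_2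 lc_c_rc_22_9 lc_c_rc_24_8 lc_c_rc_11_1 lc_c_rc_13_2 lc_c_rc_11_1 lc_c_rc_11_1 lc_c_rc_7_3 lc_c_rc_12_2 lc_c_rc_7_3 lc_c_rc_7_3 lc_c_rc_23_0 lc_c_rc_12_2 lc_c_rc_11_1 lc_c_rc_7_3 lc_c_rc_22_5) (@D3.rec (fun _ => (Cert rels S Gen.c)) lc_c_rc_26_4 lc_c_rc_23_5 lc_c_rc_7_5 lc_c_rc_23_5 lc_c_rc_11_1 lc_c_rc_2_3 lc_c_Cert_tree lc_c_rc_11_1 lc_c_Cert_tree lc_c_rc_11_1 lc_c_rc_13_2 lc_c_rc_22_5 lc_c_rc_26_4 lc_c_rc_13_2 lc_c_rc_14_2 lc_c_rc_2_3 lc_c_rc_25_13 lc_c_rc_14_2 lc_c_rc_25_17 lc_c_rc_13_2 lc_c_Cert_tree lc_c_Cert_tree lc_c_Cert_tree lc_c_rc_14_2 lc_c_rc_26_8 lc_c_rc_11_1 lc_c_rc_13_2 lc_c_rc_7_1 lc_c_rc_25_1 lc_c_rc_14_2 lc_c_Cert_tree lc_c_rc_11_1 lc_c_Cert_tree lc_c_rc_13_2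 lc_c_rc_26_8 lc_c_rc_11_1 lc_c_Cert_tree lc_c_rc_13_2 lc_c_rc_11_1 lc_c_Cert_tree lc_c_rc_11_1 lc_c_rc_14_2 lc_c_rc_11_1 lc_c_Cert_tree lc_c_rc_13_2 lc_c_rc_26_4 lc_c_rc_24_2 lc_c_rc_22_3 lc_c_rc_11_1 lc_c_rc_14_2 lc_c_Cert_tree lc_c_rc_24_8 lc_c_rc_13_0 lc_c_rc_22_7 lc_c_rc_14_2 lc_c_rc_13_2 lc_c_rc_11_1 lc_c_rc_2_3 lc_c_rc_24_4 lc_c_rc_22_3 lc_c_rc_14_2 lc_c_rc_26_2) (@D3.rec (fun _ => (Cert rels S Gen.c)) lc_c_rc_13_0 lc_c_rc_26_8 lc_c_rc_11_1 lc_c_rc_23_5 lc_c_rc_23_5 lc_c_rc_14_2 lc_c_rc_26_8 lc_c_rc_7_5 lc_c_rc_13_2 lc_c_rc_11_1 lc_c_rc_24_8 lc_c_rc_11_1 lc_c_rc_14_2 lc_c_Cert_tree lc_c_rc_26_8 lc_c_rc_7_5 lc_c_rc_2_1 lc_c_rc_11_1 lc_c_rc_7_3 lc_c_rc_22_5 lc_c_rc_14_2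 lc_c_rc_13_2 lc_c_rc_11_1 lc_c_rc_7_3 lc_c_rc_13_2 lc_c_rc_11_1 lc_c_rc_13_2 lc_c_rc_11_1 lc_c_rc_7_3 lc_c_rc_26_10 lc_c_rc_14_2 lc_c_rc_13_2 lc_c_rc_11_1 lc_c_rc_23_0 lc_c_rc_14_2 lc_c_rc_13_2 lc_c_rc_24_2 lc_c_rc_11_1 lc_c_rc_22_9 lc_c_rc_13_2 lc_c_rc_24_6 lc_c_Cert_tree lc_c_rc_14_2 lc_c_rc_24_4 lc_c_Cert_tree lc_c_rc_14_2 lc_c_rc_14_2 lc_c_rc_13_2 lc_c_rc_25_13 lc_c_rc_11_1 lc_c_rc_14_2 lc_c_rc_7_5 lc_c_rc_11_1 lc_c_rc_7_5 lc_c_rc_14_2 lc_c_rc_11_1 lc_c_Cert_tree lc_c_rc_13_2 lc_c_rc_26_4 lc_c_rc_11_1 lc_c_rc_14_2 lc_c_rc_13_2) (@D3.rec (fun _ => (Cert rels S Gen.c)) lc_c_Cert_tree lc_c_Cert_tree lc_c_rc_11_1 lc_c_rc_14_2 lc_c_rc_11_1 lc_c_rc_13_2 lc_c_rc_24_6 lc_c_rc_11_1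 lc_c_rc_22_5 lc_c_rc_26_2 lc_c_rc_14_2 lc_c_rc_2_3 lc_c_rc_11_1 lc_c_rc_13_2 lc_c_rc_7_1 lc_c_Cert_tree lc_c_rc_14_2 lc_c_rc_11_1 lc_c_rc_22_5 lc_c_rc_26_2 lc_c_rc_11_1 lc_c_Cert_tree lc_c_rc_13_2 lc_c_Cert_tree lc_c_Cert_tree lc_c_rc_11_1 lc_c_rc_2_3 lc_c_rc_26_8 lc_c_rc_11_1 lc_c_rc_11_1 lc_c_rc_13_2 lc_c_Cert_tree lc_c_Cert_tree lc_c_rc_11_1 lc_c_rc_13_2 lc_c_rc_11_1 lc_c_Cert_tree lc_c_rc_11_1 lc_c_rc_26_2 lc_c_rc_13_2 lc_c_Cert_tree lc_c_rc_13_2 lc_c_rc_11_1 lc_c_rc_13_2 lc_c_rc_2_3 lc_c_rc_25_17 lc_c_rc_23_0 lc_c_rc_26_4 lc_c_rc_11_1 lc_c_rc_2_3 lc_c_rc_14_2 lc_c_rc_26_2 lc_c_rc_11_1 lc_c_rc_11_1 lc_c_rc_23_5 lc_c_rc_24_6 lc_c_rc_24_6 lc_c_rc_7_3 lc_c_rc_22_7 lc_c_rc_14_2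 lc_c_rc_13_2 lc_c_rc_13_2) (@D3.rec (fun _ => (Cert rels S Gen.c)) lc_c_rc_7_1 lc_c_Cert_tree lc_c_Cert_tree lc_c_Cert_tree lc_c_Cert_tree lc_c_Cert_tree lc_c_rc_13_2 lc_c_rc_22_3 lc_c_rc_11_1 lc_c_rc_11_1 lc_c_rc_24_2 lc_c_rc_24_2 lc_c_rc_13_2 lc_c_rc_26_8 lc_c_rc_26_4 lc_c_rc_11_1 lc_c_rc_26_8 lc_c_rc_14_2 lc_c_rc_26_4 lc_c_rc_13_2 lc_c_rc_13_0 lc_c_Cert_tree lc_c_rc_12_2 lc_c_rc_26_8 lc_c_Cert_tree lc_c_rc_26_8 lc_c_Cert_tree lc_c_rc_23_5 lc_c_Cert_tree lc_c_Cert_tree lc_c_rc_11_1 lc_c_rc_14_2 lc_c_rc_2_3 lc_c_Cert_tree lc_c_rc_14_0 lc_c_rc_24_2 lc_c_Cert_tree lc_c_rc_11_1 lc_c_rc_7_5 lc_c_Cert_tree lc_c_rc_13_2 lc_c_rc_11_1 lc_c_Cert_tree lc_c_rc_2_3 lc_c_rc_11_1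 lc_c_rc_2_3 lc_c_rc_11_1 lc_c_rc_24_6 lc_c_rc_7_3 lc_c_Cert_tree lc_c_rc_14_2 lc_c_rc_13_2 lc_c_Cert_tree lc_c_rc_26_4 lc_c_rc_11_1 lc_c_Cert_tree lc_c_rc_13_2 lc_c_Cert_tree lc_c_Cert_tree lc_c_rc_11_1 lc_c_rc_11_1 lc_c_Cert_tree) (@D3.rec (fun _ => (Cert rels S Gen.c)) lc_c_rc_11_1 lc_c_rc_7_5 lc_c_rc_11_1 lc_c_rc_26_2 lc_c_rc_26_10 lc_c_rc_11_1 lc_c_rc_11_1 lc_c_rc_24_8 lc_c_rc_26_2 lc_c_rc_11_1 lc_c_rc_13_2 lc_c_rc_11_1 lc_c_rc_23_5 lc_c_rc_11_1 lc_c_rc_14_2 lc_c_rc_24_6 lc_c_rc_12_0 lc_c_rc_14_2 lc_c_rc_12_14 lc_c_rc_22_9 lc_c_rc_14_0 lc_c_rc_7_3 lc_c_rc_13_2 lc_c_Cert_tree lc_c_rc_13_0 lc_c_Cert_tree lc_c_rc_7_3 lc_c_rc_11_1 lc_c_rc_11_1 lc_c_rc_11_1 lc_c_rc_14_0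 lc_c_Cert_tree lc_c_rc_11_1 lc_c_rc_13_2 lc_c_rc_11_1 lc_c_rc_24_6 lc_c_Cert_tree lc_c_rc_13_0 lc_c_rc_2_3 lc_c_rc_7_3 lc_c_rc_24_2 lc_c_rc_14_2 lc_c_rc_13_2 lc_c_rc_7_3 lc_c_Cert_tree lc_c_rc_13_2 lc_c_Cert_tree lc_c_Cert_tree lc_c_rc_13_2 lc_c_Cert_tree lc_c_rc_24_6 lc_c_rc_11_1 lc_c_rc_11_1 lc_c_rc_13_2 lc_c_rc_11_1 lc_c_rc_13_2 lc_c_Cert_tree lc_c_rc_11_1 lc_c_rc_13_2 lc_c_rc_26_4 lc_c_rc_11_1 lc_c_rc_24_4) (@D3.rec (fun _ => (Cert rels S Gen.c)) lc_c_rc_11_1 lc_c_rc_2_3 lc_c_rc_24_4 lc_c_rc_11_1 lc_c_rc_13_2 lc_c_rc_11_1 lc_c_rc_26_2 lc_c_Cert_tree lc_c_rc_12_0 lc_c_rc_11_1 lc_c_rc_7_1 lc_c_Cert_tree lc_c_rc_11_1 lc_c_rc_13_2 lc_c_rc_11_1 lc_c_rc_23_0 lc_c_rc_23_0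 lc_c_rc_7_3 lc_c_rc_7_3 lc_c_rc_7_3 lc_c_rc_7_5 lc_c_rc_2_3 lc_c_rc_13_2 lc_c_rc_26_8 lc_c_rc_11_1 lc_c_rc_25_17 lc_c_Cert_tree lc_c_rc_13_2 lc_c_rc_24_2 lc_c_rc_23_0 lc_c_rc_11_1 lc_c_rc_13_2 lc_c_Cert_tree lc_c_rc_11_1 lc_c_Cert_tree lc_c_rc_14_2 lc_c_rc_7_3 lc_c_rc_13_2 lc_c_Cert_tree lc_c_rc_11_1 lc_c_rc_11_1 lc_c_Cert_tree lc_c_Cert_tree lc_c_rc_13_2 lc_c_rc_7_3 lc_c_rc_24_8 lc_c_rc_23_5 lc_c_rc_25_17 lc_c_rc_11_1 lc_c_rc_13_2 lc_c_rc_11_1 lc_c_rc_11_1 lc_c_rc_7_5 lc_c_rc_25_13 lc_c_rc_7_5 lc_c_rc_22_5 lc_c_rc_13_2 lc_c_rc_7_3 lc_c_rc_11_1 lc_c_rc_24_2 lc_c_rc_25_13 lc_c_Cert_tree) (@D3.rec (fun _ => (Cert rels S Gen.c)) lc_c_rc_26_2 lc_c_rc_24_4 lc_c_rc_2_3 lc_c_Cert_tree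 lc_c_rc_22_3 lc_c_rc_22_3 lc_c_rc_11_1 lc_c_rc_26_10 lc_c_rc_7_3 lc_c_rc_7_3 lc_c_rc_13_2 lc_c_rc_7_3 lc_c_rc_23_5 lc_c_Cert_tree lc_c_Cert_tree lc_c_rc_2_1 lc_c_Cert_tree lc_c_rc_13_2 lc_c_rc_13_2 lc_c_rc_13_2 lc_c_Cert_tree lc_c_Cert_tree lc_c_rc_2_3 lc_c_Cert_tree lc_c_rc_13_2 lc_c_rc_13_2 lc_c_Cert_tree lc_c_rc_14_2 lc_c_Cert_tree lc_c_Cert_tree lc_c_rc_14_0 lc_c_rc_11_1 lc_c_rc_13_2 lc_c_Cert_tree lc_c_rc_13_0 lc_c_rc_26_4 lc_c_rc_11_1 lc_c_rc_7_5 lc_c_rc_13_2 lc_c_rc_7_5 lc_c_Cert_tree lc_c_rc_13_2 lc_c_Cert_tree lc_c_Cert_tree lc_c_Cert_tree lc_c_rc_11_1 lc_c_rc_13_2 lc_c_Cert_tree lc_c_rc_13_2 lc_c_rc_22_7 lc_c_rc_13_2 lc_c_rc_7_3 lc_c_rc_13_2 lc_c_Cert_tree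 lc_c_Cert_tree lc_c_rc_14_2 lc_c_rc_26_4 lc_c_rc_13_2 lc_c_rc_23_0 lc_c_rc_11_1 lc_c_rc_24_4 lc_c_rc_7_3) (@D3.rec (fun _ => (Cert rels S Gen.c)) lc_c_rc_13_2 lc_c_rc_11_1 lc_c_rc_24_4 lc_c_rc_11_1 lc_c_rc_11_1 lc_c_rc_11_1 lc_c_rc_13_2 lc_c_Cert_tree lc_c_rc_11_1 lc_c_rc_7_5 lc_c_rc_13_2 lc_c_rc_7_1 lc_c_rc_7_5 lc_c_rc_13_2 lc_c_rc_13_2 lc_c_Cert_tree lc_c_Cert_tree lc_c_rc_23_5 lc_c_rc_7_5 lc_c_rc_24_2 lc_c_rc_11_1 lc_c_rc_13_0 lc_c_rc_2_3 lc_c_rc_11_1 lc_c_rc_25_1 lc_c_rc_13_2 lc_c_rc_11_1 lc_c_rc_24_4 lc_c_rc_14_2 lc_c_rc_13_2 lc_c_rc_11_1 lc_c_rc_13_2 lc_c_Cert_tree lc_c_rc_11_1 lc_c_rc_24_8 lc_c_rc_7_3 lc_c_rc_11_1 lc_c_rc_26_4 lc_c_rc_13_2 lc_c_Cert_tree lc_c_rc_11_1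 lc_c_rc_24_8 lc_c_Cert_tree lc_c_rc_2_1 lc_c_Cert_tree lc_c_rc_26_2 lc_c_Cert_tree lc_c_rc_26_2 lc_c_rc_24_2 lc_c_rc_11_1 lc_c_rc_11_1 lc_c_rc_13_0 lc_c_rc_11_1 lc_c_Cert_tree lc_c_rc_11_1 lc_c_rc_11_1 lc_c_rc_7_3 lc_c_rc_22_7 lc_c_rc_14_2 lc_c_rc_13_2 lc_c_rc_11_1 lc_c_rc_2_3) (@D3.rec (fun _ => (Cert rels S Gen.c)) lc_c_rc_7_3 lc_c_rc_11_1 lc_c_rc_11_1 lc_c_rc_11_1 lc_c_rc_13_2 lc_c_rc_11_1 lc_c_rc_13_2 lc_c_rc_14_0 lc_c_rc_13_2 lc_c_rc_11_1 lc_c_rc_26_2 lc_c_rc_22_7 lc_c_Cert_tree lc_c_rc_12_2 lc_c_rc_13_2 lc_c_rc_24_8 lc_c_rc_7_3 lc_c_rc_22_7 lc_c_rc_26_4 lc_c_rc_22_3 lc_c_rc_23_5 lc_c_rc_2_3 lc_c_rc_7_5 lc_c_rc_2_3 lc_c_rc_26_4 lc_c_rc_14_2 lc_c_rc_22_7 lc_c_rc_12_0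 lc_c_rc_11_1 lc_c_rc_26_10 lc_c_rc_22_5 lc_c_rc_11_1 lc_c_rc_23_0 lc_c_rc_12_14 lc_c_rc_14_2 lc_c_rc_7_1 lc_c_rc_7_3 lc_c_rc_13_2 lc_c_rc_7_3 lc_c_Cert_tree lc_c_Cert_tree lc_c_rc_2_3 lc_c_Cert_tree lc_c_Cert_tree lc_c_rc_2_3 lc_c_rc_7_3 lc_c_rc_22_3 lc_c_rc_7_3 lc_c_Cert_tree lc_c_rc_11_1 lc_c_Cert_tree lc_c_rc_11_1 lc_c_rc_13_0 lc_c_rc_14_2 lc_c_Cert_tree lc_c_rc_26_4 lc_c_rc_11_1 lc_c_rc_25_1 lc_c_rc_13_2 lc_c_rc_14_2 lc_c_Cert_tree lc_c_rc_11_1) (@D3.rec (fun _ => (Cert rels S Gen.c)) lc_c_rc_23_5 lc_c_rc_13_2 lc_c_Cert_tree lc_c_rc_24_4 lc_c_Cert_tree lc_c_rc_11_1 lc_c_rc_13_2 lc_c_rc_14_2 lc_c_rc_26_2 lc_c_Cert_tree lc_c_rc_24_6 lc_c_rc_24_8 lc_c_rc_22_9 lc_c_rc_2_1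 lc_c_rc_24_2 lc_c_rc_13_2 lc_c_rc_13_2 lc_c_rc_11_1 lc_c_Cert_tree lc_c_rc_7_5 lc_c_Cert_tree lc_c_Cert_tree lc_c_Cert_tree lc_c_Cert_tree lc_c_rc_11_1 lc_c_rc_11_1 lc_c_Cert_tree lc_c_rc_13_0 lc_c_rc_22_5 lc_c_rc_7_3 lc_c_Cert_tree lc_c_rc_11_1 lc_c_rc_13_2 lc_c_rc_26_4 lc_c_rc_11_1 lc_c_Cert_tree lc_c_Cert_tree lc_c_Cert_tree lc_c_rc_11_1 lc_c_rc_7_3 lc_c_rc_11_1 lc_c_Cert_tree lc_c_rc_23_5 lc_c_Cert_tree lc_c_Cert_tree lc_c_Cert_tree lc_c_rc_11_1 lc_c_rc_14_2 lc_c_Cert_tree lc_c_rc_23_0 lc_c_rc_24_8 lc_c_rc_11_1 lc_c_rc_13_2 lc_c_rc_11_1 lc_c_rc_13_2 lc_c_Cert_tree lc_c_rc_11_1 lc_c_rc_2_3 lc_c_rc_13_2 lc_c_rc_26_2 lc_c_rc_11_1 lc_c_rc_13_2) (@D3.rec (fun _ => (Cert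 rels S Gen.c)) lc_c_rc_24_6 lc_c_rc_24_6 lc_c_rc_7_3 lc_c_rc_22_5 lc_c_rc_14_2 lc_c_rc_13_2 lc_c_Cert_tree lc_c_rc_11_1 lc_c_rc_13_2 lc_c_rc_7_3 lc_c_rc_22_5 lc_c_rc_13_2 lc_c_rc_11_1 lc_c_Cert_tree lc_c_rc_7_3 lc_c_rc_23_5 lc_c_rc_13_2 lc_c_rc_11_1 lc_c_rc_7_3 lc_c_rc_22_3 lc_c_rc_11_1 lc_c_Cert_tree lc_c_rc_11_1 lc_c_rc_22_5 lc_c_rc_23_0 lc_c_Cert_tree lc_c_rc_23_0 lc_c_rc_22_9 lc_c_rc_11_1 lc_c_rc_2_3 lc_c_Cert_tree lc_c_rc_14_2 lc_c_rc_22_5 lc_c_rc_24_2 lc_c_rc_11_1 lc_c_rc_11_1 lc_c_rc_22_5 lc_c_rc_7_3 lc_c_rc_7_3 lc_c_Cert_tree lc_c_Cert_tree lc_c_rc_26_10 lc_c_rc_7_3 lc_c_rc_22_3 lc_c_Cert_tree lc_c_Cert_tree lc_c_rc_2_3 lc_c_rc_24_2 lc_c_rc_24_8 lc_c_rc_24_8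 lc_c_rc_23_0 lc_c_rc_7_5 lc_c_rc_2_3 lc_c_Cert_tree lc_c_rc_11_1 lc_c_rc_2_1 lc_c_rc_12_14 lc_c_rc_12_0 lc_c_rc_14_2 lc_c_Cert_tree lc_c_rc_11_1 lc_c_rc_23_5) (@D3.rec (fun _ => (Cert rels S Gen.c)) lc_c_rc_14_2 lc_c_Cert_tree lc_c_rc_11_1 lc_c_rc_7_5 lc_c_Cert_tree lc_c_Cert_tree lc_c_rc_11_1 lc_c_rc_11_1 lc_c_rc_26_4 lc_c_rc_14_2 lc_c_rc_7_3 lc_c_rc_7_5 lc_c_rc_2_1 lc_c_rc_13_2 lc_c_rc_22_7 lc_c_rc_13_2 lc_c_rc_13_2 lc_c_rc_13_2 lc_c_rc_11_1 lc_c_rc_13_2 lc_c_rc_25_17 lc_c_rc_13_2 lc_c_rc_11_1 lc_c_rc_26_10 lc_c_rc_14_2 lc_c_rc_14_2 lc_c_rc_11_1 lc_c_rc_11_1 lc_c_rc_11_1 lc_c_rc_13_2 lc_c_rc_24_4 lc_c_rc_11_1 lc_c_rc_13_2 lc_c_rc_14_2 lc_c_rc_11_1 lc_c_rc_13_2 lc_c_Cert_tree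 lc_c_rc_26_10 lc_c_Cert_tree lc_c_rc_7_5 lc_c_rc_11_1 lc_c_Cert_tree lc_c_rc_11_1 lc_c_rc_7_5 lc_c_Cert_tree lc_c_Cert_tree lc_c_Cert_tree lc_c_rc_11_1 lc_c_rc_14_2 lc_c_rc_11_1 lc_c_rc_2_3 lc_c_rc_11_1 lc_c_rc_2_3 lc_c_Cert_tree lc_c_rc_11_1 lc_c_rc_7_3 lc_c_Cert_tree lc_c_rc_14_2 lc_c_Cert_tree lc_c_rc_13_2 lc_c_rc_7_5 lc_c_rc_13_2) (@D3.rec (fun _ => (Cert rels S Gen.c)) lc_c_rc_11_1 lc_c_rc_11_1 lc_c_rc_11_1 lc_c_rc_24_2 lc_c_rc_26_2 lc_c_rc_22_7 lc_c_Cert_tree lc_c_rc_24_2 lc_c_rc_11_1 lc_c_rc_11_1 lc_c_rc_13_2 lc_c_rc_11_1 lc_c_rc_11_1 lc_c_rc_24_6 lc_c_rc_7_1 lc_c_rc_22_3 lc_c_rc_13_2 lc_c_Cert_tree lc_c_rc_14_2 lc_c_rc_7_3 lc_c_rc_14_2 lc_c_rc_11_1 lc_c_rc_13_0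 lc_c_rc_13_2 lc_c_rc_11_1 lc_c_rc_13_2 lc_c_Cert_tree lc_c_rc_22_9 lc_c_rc_14_2 lc_c_rc_26_2 lc_c_rc_11_1 lc_c_rc_7_5 lc_c_rc_11_1 lc_c_rc_11_1 lc_c_rc_24_2 lc_c_rc_13_2 lc_c_rc_26_10 lc_c_rc_11_1 lc_c_rc_2_3 lc_c_rc_2_3 lc_c_rc_24_8 lc_c_rc_11_1 lc_c_rc_11_1 lc_c_rc_13_2 lc_c_Cert_tree lc_c_rc_7_1 lc_c_rc_11_1 lc_c_rc_13_2 lc_c_rc_7_5 lc_c_rc_11_1 lc_c_Cert_tree lc_c_Cert_tree lc_c_rc_11_1 lc_c_rc_14_2 lc_c_rc_11_1 lc_c_Cert_tree lc_c_rc_13_2 lc_c_Cert_tree lc_c_Cert_tree lc_c_Cert_tree lc_c_rc_14_2 lc_c_rc_11_1) (@D3.rec (fun _ => (Cert rels S Gen.c)) lc_c_rc_13_0 lc_c_rc_11_1 lc_c_rc_11_1 lc_c_rc_13_2 lc_c_rc_26_4 lc_c_rc_23_5 lc_c_rc_13_2 lc_c_rc_7_3 lc_c_rc_12_8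 lc_c_Cert_tree lc_c_rc_13_2 lc_c_Cert_tree lc_c_rc_23_5 lc_c_rc_26_4 lc_c_rc_13_2 lc_c_Cert_tree lc_c_rc_11_1 lc_c_rc_23_0 lc_c_rc_7_3 lc_c_rc_2_1 lc_c_rc_11_1 lc_c_rc_13_2 lc_c_rc_13_2 lc_c_rc_26_10 lc_c_rc_26_4 lc_c_rc_11_1 lc_c_rc_2_3 lc_c_rc_13_2 lc_c_rc_11_1 lc_c_rc_13_2 lc_c_Cert_tree lc_c_rc_26_4 lc_c_rc_11_1 lc_c_rc_11_1 lc_c_rc_7_5 lc_c_rc_23_0 lc_c_rc_24_6 lc_c_rc_22_7 lc_c_rc_22_9 lc_c_rc_7_1 lc_c_Cert_tree lc_c_Cert_tree lc_c_rc_13_2 lc_c_rc_7_1 lc_c_rc_7_5 lc_c_rc_2_1 lc_c_rc_13_2 lc_c_rc_26_4 lc_c_rc_13_2 lc_c_rc_7_1 lc_c_rc_24_2 lc_c_rc_13_2 lc_c_rc_24_8 lc_c_rc_22_5 lc_c_rc_13_0 lc_c_rc_11_1 lc_c_rc_2_3 lc_c_rc_24_4 lc_c_rc_22_3 lc_c_Cert_tree lc_c_Cert_tree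 lc_c_rc_26_2) (@D3.rec (fun _ => (Cert rels S Gen.c)) lc_c_rc_11_1 lc_c_rc_11_1 lc_c_rc_24_2 lc_c_Cert_tree lc_c_Cert_tree lc_c_rc_7_5 lc_c_rc_26_10 lc_c_Cert_tree lc_c_rc_11_1 lc_c_rc_26_4 lc_c_Cert_tree lc_c_rc_24_2 lc_c_rc_7_5 lc_c_rc_11_1 lc_c_rc_7_3 lc_c_rc_13_2 lc_c_rc_14_2 lc_c_rc_11_1 lc_c_rc_11_1 lc_c_rc_11_1 lc_c_rc_7_3 lc_c_rc_14_2 lc_c_rc_11_1 lc_c_rc_13_2 lc_c_rc_11_1 lc_c_rc_14_2 lc_c_rc_24_8 lc_c_rc_13_2 lc_c_rc_7_3 lc_c_rc_13_2 lc_c_rc_11_1 lc_c_rc_11_1 lc_c_rc_13_2 lc_c_rc_7_1 lc_c_rc_13_2 lc_c_rc_24_4 lc_c_rc_24_2 lc_c_rc_11_1 lc_c_rc_7_1 lc_c_rc_14_2 lc_c_rc_22_3 lc_c_Cert_tree lc_c_rc_11_1 lc_c_rc_13_2 lc_c_rc_13_2 lc_c_rc_11_1 lc_c_rc_14_2 lc_c_rc_2_3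 lc_c_rc_22_3 lc_c_rc_26_2 lc_c_Cert_tree lc_c_rc_13_2 lc_c_rc_26_8 lc_c_rc_13_2 lc_c_rc_13_2 lc_c_Cert_tree lc_c_rc_7_3 lc_c_rc_11_1 lc_c_rc_26_10 lc_c_Cert_tree lc_c_rc_14_2 lc_c_rc_11_1) (@D3.rec (fun _ => (Cert rels S Gen.c)) lc_c_Cert_tree lc_c_Cert_tree lc_c_rc_13_2 lc_c_Cert_tree lc_c_Cert_tree lc_c_rc_11_1 lc_c_rc_13_2 lc_c_rc_24_6 lc_c_rc_23_5 lc_c_Cert_tree lc_c_rc_11_1 lc_c_rc_11_1 lc_c_rc_23_5 lc_c_rc_13_2 lc_c_Cert_tree lc_c_rc_11_1 lc_c_rc_24_6 lc_c_rc_11_1 lc_c_rc_24_4 lc_c_rc_13_2 lc_c_Cert_tree lc_c_Cert_tree lc_c_Cert_tree lc_c_rc_23_5 lc_c_Cert_tree lc_c_rc_26_2 lc_c_Cert_tree lc_c_rc_11_1 lc_c_rc_14_0 lc_c_rc_22_9 lc_c_rc_11_1 lc_c_rc_11_1 lc_c_rc_2_3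 lc_c_Cert_tree lc_c_rc_11_1 lc_c_rc_2_3 lc_c_rc_7_3 lc_c_rc_11_1 lc_c_Cert_tree lc_c_Cert_tree lc_c_Cert_tree lc_c_rc_13_2 lc_c_rc_26_4 lc_c_rc_11_1 lc_c_rc_26_8 lc_c_rc_11_1 lc_c_rc_11_1 lc_c_rc_14_2 lc_c_rc_7_3 lc_c_rc_22_5 lc_c_rc_13_2 lc_c_Cert_tree lc_c_rc_26_2 lc_c_rc_11_1 lc_c_rc_11_1 lc_c_rc_13_0 lc_c_rc_11_1 lc_c_Cert_tree lc_c_rc_11_1 lc_c_Cert_tree lc_c_Cert_tree lc_c_rc_7_5) (@D3.rec (fun _ => (Cert rels S Gen.c)) lc_c_rc_11_1 lc_c_rc_11_1 lc_c_rc_14_2 lc_c_rc_24_2 lc_c_rc_11_1 lc_c_rc_13_0 lc_c_rc_11_1 lc_c_rc_13_2 lc_c_rc_11_1 lc_c_rc_24_4 lc_c_Cert_tree lc_c_rc_23_0 lc_c_Cert_tree lc_c_rc_11_1 lc_c_rc_11_1 lc_c_rc_13_2 lc_c_Cert_tree lc_c_rc_13_2 lc_c_rc_7_3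 lc_c_rc_11_1 lc_c_Cert_tree lc_c_rc_2_3 lc_c_rc_14_2 lc_c_Cert_tree lc_c_rc_13_2 lc_c_Cert_tree lc_c_Cert_tree lc_c_rc_24_6 lc_c_rc_7_1 lc_c_rc_23_5 lc_c_Cert_tree lc_c_Cert_tree lc_c_rc_2_3 lc_c_rc_13_0 lc_c_rc_24_4 lc_c_rc_2_3 lc_c_rc_13_0 lc_c_rc_24_2 lc_c_rc_25_5 lc_c_rc_2_3 lc_c_rc_26_2 lc_c_rc_24_2 lc_c_Cert_tree lc_c_rc_11_1 lc_c_rc_13_2 lc_c_rc_11_1 lc_c_Cert_tree lc_c_rc_11_1 lc_c_rc_11_1 lc_c_rc_11_1 lc_c_rc_13_2 lc_c_rc_22_3 lc_c_rc_23_5 lc_c_rc_7_5 lc_c_rc_13_2 lc_c_rc_14_0 lc_c_rc_22_3 lc_c_rc_11_1 lc_c_rc_24_6 lc_c_rc_2_3 lc_c_rc_22_9 lc_c_rc_13_2) (@D3.rec (fun _ => (Cert rels S Gen.c)) lc_c_rc_26_4 lc_c_rc_11_1 lc_c_rc_12_0 lc_c_Cert_tree lc_c_rc_11_1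 lc_c_rc_13_2 lc_c_rc_7_3 lc_c_rc_23_5 lc_c_rc_13_2 lc_c_rc_7_3 lc_c_rc_23_5 lc_c_rc_12_4 lc_c_rc_13_2 lc_c_rc_24_6 lc_c_rc_2_3 lc_c_Cert_tree lc_c_rc_13_2 lc_c_rc_13_2 lc_c_rc_11_1 lc_c_rc_11_1 lc_c_rc_7_3 lc_c_rc_11_1 lc_c_rc_13_2 lc_c_Cert_tree lc_c_rc_11_1 lc_c_rc_23_0 lc_c_rc_13_2 lc_c_Cert_tree lc_c_rc_7_5 lc_c_Cert_tree lc_c_rc_22_3 lc_c_rc_7_3 lc_c_rc_11_1 lc_c_rc_11_1 lc_c_rc_2_3 lc_c_rc_7_3 lc_c_rc_13_2 lc_c_rc_11_1 lc_c_rc_13_2 lc_c_Cert_tree lc_c_rc_13_2 lc_c_rc_11_1 lc_c_rc_26_8 lc_c_rc_11_1 lc_c_rc_13_2 lc_c_rc_11_1 lc_c_rc_7_5 lc_c_rc_14_2 lc_c_rc_13_2 lc_c_rc_7_3 lc_c_rc_11_1 lc_c_rc_26_4 lc_c_rc_13_0 lc_c_rc_11_1 lc_c_rc_24_4 lc_c_rc_11_1 lc_c_rc_13_2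 lc_c_Cert_tree lc_c_rc_24_2 lc_c_Cert_tree lc_c_rc_2_3 lc_c_rc_13_0)
def ce_c_13 : D2 → D3 → (Cert rels S Gen.c) := @D2.rec (fun _ => D3 → (Cert rels S Gen.c)) (@D3.rec (fun _ => (Cert rels S Gen.c)) lc_c_rc_13_2 lc_c_rc_11_1 lc_c_rc_7_5 lc_c_rc_26_4 lc_c_rc_13_2 lc_c_rc_11_1 lc_c_rc_7_5 lc_c_rc_11_1 lc_c_Cert_tree lc_c_rc_13_2 lc_c_rc_11_1 lc_c_rc_13_2 lc_c_rc_2_3 lc_c_rc_13_0 lc_c_rc_14_2 lc_c_rc_26_10 lc_c_Cert_tree lc_c_rc_11_1 lc_c_rc_11_1 lc_c_rc_13_2 lc_c_rc_7_1 lc_c_Cert_tree lc_c_rc_13_2 lc_c_rc_11_1 lc_c_rc_13_2 lc_c_rc_24_8 lc_c_rc_24_4 lc_c_rc_23_0 lc_c_rc_14_2 lc_c_rc_13_2 lc_c_rc_11_1 lc_c_rc_24_8 lc_c_rc_13_2 lc_c_rc_14_2 lc_c_rc_14_2 lc_c_rc_14_2 lc_c_rc_13_0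 lc_c_rc_11_1 lc_c_rc_2_3 lc_c_Cert_tree lc_c_rc_11_1 lc_c_rc_11_1 lc_c_rc_26_8 lc_c_rc_11_1 lc_c_rc_13_2 lc_c_rc_11_1 lc_c_rc_24_2 lc_c_Cert_tree lc_c_rc_22_9 lc_c_rc_11_1 lc_c_rc_13_2 lc_c_rc_11_1 lc_c_rc_11_1 lc_c_rc_26_4 lc_c_rc_13_2 lc_c_rc_13_2 lc_c_rc_11_1 lc_c_rc_13_0 lc_c_rc_11_1 lc_c_rc_13_2 lc_c_rc_26_8 lc_c_rc_11_1) (@D3.rec (fun _ => (Cert rels S Gen.c)) lc_c_rc_26_8 lc_c_rc_13_0 lc_c_rc_11_1 lc_c_rc_11_1 lc_c_rc_13_2 lc_c_rc_14_2 lc_c_rc_11_1 lc_c_rc_23_0 lc_c_Cert_tree lc_c_rc_11_1 lc_c_rc_7_3 lc_c_rc_11_1 lc_c_rc_11_1 lc_c_rc_13_2 lc_c_rc_22_9 lc_c_rc_11_1 lc_c_rc_13_2 lc_c_rc_11_1 lc_c_rc_11_1 lc_c_rc_7_3 lc_c_rc_13_2 lc_c_Cert_tree lc_c_rc_14_2 lc_c_rc_23_0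 lc_c_rc_11_1 lc_c_rc_14_2 lc_c_rc_23_0 lc_c_rc_7_3 lc_c_Cert_tree lc_c_rc_14_2 lc_c_rc_12_2 lc_c_rc_2_3 lc_c_rc_26_4 lc_c_rc_13_2 lc_c_rc_26_8 lc_c_rc_11_1 lc_c_rc_11_1 lc_c_rc_13_2 lc_c_rc_23_5 lc_c_rc_13_2 lc_c_rc_14_0 lc_c_rc_13_2 lc_c_rc_14_2 lc_c_rc_7_5 lc_c_rc_11_1 lc_c_rc_11_1 lc_c_rc_11_1 lc_c_Cert_tree lc_c_rc_11_1 lc_c_rc_14_2 lc_c_rc_11_1 lc_c_rc_23_5 lc_c_rc_13_2 lc_c_rc_11_1 lc_c_rc_24_2 lc_c_rc_13_2 lc_c_rc_13_2 lc_c_Cert_tree lc_c_rc_24_8 lc_c_rc_11_1 lc_c_rc_7_1 lc_c_rc_7_3) (@D3.rec (fun _ => (Cert rels S Gen.c)) lc_c_rc_11_1 lc_c_rc_11_1 lc_c_rc_7_3 lc_c_Cert_tree lc_c_rc_11_1 lc_c_rc_7_3 lc_c_rc_7_3 lc_c_rc_13_2 lc_c_rc_13_0 lc_c_rc_13_2 lc_c_rc_14_0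 lc_c_rc_26_10 lc_c_rc_11_1 lc_c_rc_13_2 lc_c_Cert_tree lc_c_rc_26_2 lc_c_rc_13_2 lc_c_rc_11_1 lc_c_rc_22_9 lc_c_rc_13_2 lc_c_rc_11_1 lc_c_rc_11_1 lc_c_rc_11_1 lc_c_rc_11_1 lc_c_rc_11_1 lc_c_rc_13_2 lc_c_rc_26_10 lc_c_rc_11_1 lc_c_rc_2_3 lc_c_Cert_tree lc_c_rc_2_1 lc_c_rc_14_2 lc_c_rc_14_2 lc_c_rc_7_5 lc_c_rc_7_3 lc_c_rc_26_10 lc_c_rc_11_1 lc_c_rc_2_3 lc_c_Cert_tree lc_c_rc_24_2 lc_c_rc_13_2 lc_c_rc_7_3 lc_c_rc_7_1 lc_c_rc_2_1 lc_c_Cert_tree lc_c_rc_24_4 lc_c_rc_13_2 lc_c_rc_11_1 lc_c_rc_13_2 lc_c_Cert_tree lc_c_Cert_tree lc_c_Cert_tree lc_c_rc_14_2 lc_c_Cert_tree lc_c_rc_7_3 lc_c_rc_13_0 lc_c_rc_11_1 lc_c_rc_22_3 lc_c_rc_2_1 lc_c_Cert_tree lc_c_rc_13_0 lc_c_Cert_tree)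 (@D3.rec (fun _ => (Cert rels S Gen.c)) lc_c_rc_2_3 lc_c_rc_11_1 lc_c_Cert_tree lc_c_rc_13_2 lc_c_rc_12_2 lc_c_rc_13_2 lc_c_Cert_tree lc_c_rc_26_4 lc_c_rc_24_2 lc_c_Cert_tree lc_c_rc_2_1 lc_c_Cert_tree lc_c_Cert_tree lc_c_Cert_tree lc_c_rc_11_1 lc_c_rc_13_2 lc_c_rc_13_2 lc_c_Cert_tree lc_c_rc_11_1 lc_c_Cert_tree lc_c_rc_13_2 lc_c_rc_26_2 lc_c_rc_24_8 lc_c_rc_24_2 lc_c_rc_11_1 lc_c_Cert_tree lc_c_rc_2_1 lc_c_Cert_tree lc_c_rc_13_2 lc_c_Cert_tree lc_c_rc_11_1 lc_c_rc_13_2 lc_c_rc_2_3 lc_c_rc_26_2 lc_c_Cert_tree lc_c_rc_7_5 lc_c_rc_11_1 lc_c_rc_22_3 lc_c_Cert_tree lc_c_rc_11_1 lc_c_rc_13_2 lc_c_Cert_tree lc_c_rc_11_1 lc_c_rc_11_1 lc_c_rc_11_1 lc_c_rc_7_3 lc_c_rc_22_7 lc_c_rc_14_2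 lc_c_rc_13_2 lc_c_rc_13_2 lc_c_Cert_tree lc_c_rc_7_5 lc_c_rc_2_3 lc_c_Cert_tree lc_c_rc_13_2 lc_c_Cert_tree lc_c_Cert_tree lc_c_rc_11_1 lc_c_rc_13_2 lc_c_rc_23_0 lc_c_rc_14_2 lc_c_rc_11_1) (@D3.rec (fun _ => (Cert rels S Gen.c)) lc_c_rc_11_1 lc_c_rc_7_3 lc_c_rc_24_2 lc_c_rc_11_1 lc_c_rc_13_0 lc_c_Cert_tree lc_c_rc_13_2 lc_c_rc_11_1 lc_c_rc_11_1 lc_c_rc_24_4 lc_c_rc_26_4 lc_c_rc_7_3 lc_c_rc_24_8 lc_c_rc_11_1 lc_c_rc_11_1 lc_c_rc_11_1 lc_c_rc_11_1 lc_c_Cert_tree lc_c_rc_11_1 lc_c_Cert_tree lc_c_rc_11_1 lc_c_Cert_tree lc_c_rc_22_3 lc_c_rc_13_2 lc_c_rc_7_3 lc_c_Cert_tree lc_c_rc_14_2 lc_c_Cert_tree lc_c_rc_11_1 lc_c_rc_13_0 lc_c_rc_11_1 lc_c_Cert_tree lc_c_rc_13_2 lc_c_rc_11_1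 lc_c_rc_11_1 lc_c_rc_2_3 lc_c_rc_13_2 lc_c_Cert_tree lc_c_rc_11_1 lc_c_rc_7_3 lc_c_rc_13_2 lc_c_Cert_tree lc_c_Cert_tree lc_c_rc_14_2 lc_c_rc_2_3 lc_c_rc_11_1 lc_c_rc_2_3 lc_c_Cert_tree lc_c_rc_13_2 lc_c_rc_26_10 lc_c_rc_11_1 lc_c_rc_7_3 lc_c_rc_2_1 lc_c_rc_26_10 lc_c_rc_11_1 lc_c_rc_2_3 lc_c_rc_26_10 lc_c_rc_11_1 lc_c_rc_2_3 lc_c_Cert_tree lc_c_rc_2_3 lc_c_rc_26_10) (@D3.rec (fun _ => (Cert rels S Gen.c)) lc_c_rc_11_1 lc_c_rc_22_7 lc_c_rc_7_3 lc_c_rc_13_2 lc_c_Cert_tree lc_c_rc_14_2 lc_c_Cert_tree lc_c_Cert_tree lc_c_rc_2_3 lc_c_rc_23_5 lc_c_rc_13_2 lc_c_rc_11_1 lc_c_rc_13_2 lc_c_rc_13_2 lc_c_rc_13_2 lc_c_Cert_tree lc_c_Cert_tree lc_c_Cert_tree lc_c_Cert_tree lc_c_rc_24_8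 lc_c_rc_11_1 lc_c_rc_26_4 lc_c_rc_11_1 lc_c_rc_14_2 lc_c_Cert_tree lc_c_rc_13_2 lc_c_rc_11_1 lc_c_rc_2_1 lc_c_rc_26_4 lc_c_rc_11_1 lc_c_Cert_tree lc_c_Cert_tree lc_c_rc_14_2 lc_c_Cert_tree lc_c_rc_25_13 lc_c_rc_26_4 lc_c_rc_11_1 lc_c_Cert_tree lc_c_rc_13_2 lc_c_rc_25_1 lc_c_Cert_tree lc_c_rc_11_1 lc_c_rc_14_2 lc_c_rc_2_1 lc_c_rc_11_1 lc_c_rc_26_4 lc_c_Cert_tree lc_c_Cert_tree lc_c_rc_13_2 lc_c_Cert_tree lc_c_Cert_tree lc_c_rc_11_1 lc_c_rc_14_2 lc_c_Cert_tree lc_c_Cert_tree lc_c_rc_11_1 lc_c_rc_11_1 lc_c_rc_11_1 lc_c_rc_13_2 lc_c_rc_11_1 lc_c_rc_13_2 lc_c_rc_26_4) (@D3.rec (fun _ => (Cert rels S Gen.c)) lc_c_Cert_tree lc_c_rc_11_1 lc_c_rc_13_2 lc_c_rc_11_1 lc_c_rc_13_2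 lc_c_rc_11_1 lc_c_rc_7_3 lc_c_rc_22_7 lc_c_rc_14_2 lc_c_rc_13_2 lc_c_Cert_tree lc_c_rc_13_2 lc_c_rc_11_1 lc_c_rc_13_2 lc_c_rc_13_2 lc_c_rc_7_3 lc_c_rc_24_2 lc_c_rc_7_5 lc_c_rc_13_2 lc_c_rc_25_17 lc_c_rc_13_2 lc_c_rc_26_4 lc_c_rc_13_2 lc_c_rc_25_5 lc_c_rc_11_1 lc_c_rc_13_2 lc_c_Cert_tree lc_c_rc_11_1 lc_c_rc_26_2 lc_c_rc_13_2 lc_c_rc_2_3 lc_c_rc_13_2 lc_c_rc_11_1 lc_c_rc_26_4 lc_c_rc_13_2 lc_c_rc_11_1 lc_c_rc_13_2 lc_c_rc_2_3 lc_c_rc_2_3 lc_c_rc_14_2 lc_c_rc_13_2 lc_c_Cert_tree lc_c_rc_13_2 lc_c_rc_13_2 lc_c_Cert_tree lc_c_Cert_tree lc_c_rc_7_5 lc_c_Cert_tree lc_c_rc_7_3 lc_c_Cert_tree lc_c_rc_11_1 lc_c_rc_11_1 lc_c_Cert_tree lc_c_Cert_tree lc_c_Cert_tree lc_c_rc_11_1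 lc_c_rc_14_2 lc_c_Cert_tree lc_c_rc_13_2 lc_c_rc_13_2 lc_c_Cert_tree lc_c_rc_13_2) (@D3.rec (fun _ => (Cert rels S Gen.c)) lc_c_rc_26_2 lc_c_rc_7_5 lc_c_rc_7_5 lc_c_Cert_tree lc_c_rc_11_1 lc_c_rc_13_2 lc_c_Cert_tree lc_c_rc_11_1 lc_c_rc_13_2 lc_c_rc_7_3 lc_c_Cert_tree lc_c_rc_7_3 lc_c_rc_13_2 lc_c_rc_22_5 lc_c_rc_26_4 lc_c_rc_11_1 lc_c_Cert_tree lc_c_rc_13_2 lc_c_rc_26_8 lc_c_rc_11_1 lc_c_rc_13_2 lc_c_Cert_tree lc_c_Cert_tree lc_c_rc_11_1 lc_c_rc_14_2 lc_c_rc_13_2 lc_c_rc_2_3 lc_c_rc_22_5 lc_c_rc_11_1 lc_c_rc_22_5 lc_c_rc_26_2 lc_c_rc_11_1 lc_c_rc_24_2 lc_c_Cert_tree lc_c_rc_11_1 lc_c_rc_13_2 lc_c_rc_11_1 lc_c_rc_11_1 lc_c_rc_7_3 lc_c_rc_13_2 lc_c_rc_26_8 lc_c_rc_2_3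 lc_c_rc_2_3 lc_c_rc_23_5 lc_c_rc_11_1 lc_c_rc_23_0 lc_c_rc_11_1 lc_c_rc_7_3 lc_c_rc_11_1 lc_c_rc_13_2 lc_c_rc_13_0 lc_c_rc_13_2 lc_c_rc_13_2 lc_c_rc_13_2 lc_c_rc_11_1 lc_c_rc_7_1 lc_c_rc_22_5 lc_c_rc_24_8 lc_c_rc_11_1 lc_c_rc_11_1 lc_c_rc_26_4 lc_c_rc_13_2) (@D3.rec (fun _ => (Cert rels S Gen.c)) lc_c_rc_26_2 lc_c_rc_11_1 lc_c_rc_11_1 lc_c_rc_25_13 lc_c_rc_14_2 lc_c_rc_11_1 lc_c_rc_26_8 lc_c_rc_26_10 lc_c_rc_7_3 lc_c_rc_11_1 lc_c_rc_23_0 lc_c_rc_13_2 lc_c_Cert_tree lc_c_Cert_tree lc_c_rc_11_1 lc_c_rc_14_2 lc_c_rc_26_4 lc_c_rc_24_2 lc_c_rc_23_5 lc_c_rc_24_2 lc_c_Cert_tree lc_c_Cert_tree lc_c_rc_11_1 lc_c_rc_14_2 lc_c_Cert_tree lc_c_Cert_tree lc_c_rc_13_2 lc_c_rc_24_2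 lc_c_rc_11_1 lc_c_rc_24_4 lc_c_rc_11_1 lc_c_rc_13_2 lc_c_Cert_tree lc_c_Cert_tree lc_c_rc_11_1 lc_c_rc_7_3 lc_c_rc_11_1 lc_c_rc_13_2 lc_c_rc_7_3 lc_c_rc_14_2 lc_c_rc_13_2 lc_c_Cert_tree lc_c_rc_11_1 lc_c_rc_22_3 lc_c_rc_7_3 lc_c_rc_24_8 lc_c_rc_26_8 lc_c_rc_13_2 lc_c_rc_13_2 lc_c_rc_24_2 lc_c_rc_13_2 lc_c_rc_22_7 lc_c_rc_13_2 lc_c_rc_26_10 lc_c_rc_11_1 lc_c_Cert_tree lc_c_Cert_tree lc_c_rc_14_2 lc_c_rc_24_8 lc_c_rc_11_1 lc_c_rc_7_3 lc_c_rc_22_5) (@D3.rec (fun _ => (Cert rels S Gen.c)) lc_c_Cert_tree lc_c_rc_11_1 lc_c_rc_13_2 lc_c_Cert_tree lc_c_Cert_tree lc_c_Cert_tree lc_c_Cert_tree lc_c_rc_11_1 lc_c_rc_14_2 lc_c_rc_24_2 lc_c_rc_26_4 lc_c_Cert_tree lc_c_rc_24_2 lc_c_rc_11_1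 lc_c_rc_24_2 lc_c_rc_13_2 lc_c_rc_26_8 lc_c_rc_26_10 lc_c_rc_22_5 lc_c_rc_13_2 lc_c_rc_13_2 lc_c_rc_11_1 lc_c_rc_13_2 lc_c_rc_22_7 lc_c_rc_11_1 lc_c_rc_26_2 lc_c_rc_11_1 lc_c_rc_11_1 lc_c_rc_7_3 lc_c_rc_14_2 lc_c_rc_13_2 lc_c_Cert_tree lc_c_rc_7_3 lc_c_rc_14_2 lc_c_rc_7_3 lc_c_rc_11_1 lc_c_rc_13_2 lc_c_rc_11_1 lc_c_rc_24_2 lc_c_rc_13_2 lc_c_Cert_tree lc_c_rc_11_1 lc_c_rc_2_3 lc_c_rc_24_2 lc_c_rc_7_3 lc_c_rc_2_3 lc_c_rc_23_0 lc_c_rc_13_2 lc_c_rc_7_5 lc_c_rc_13_2 lc_c_rc_13_2 lc_c_rc_22_5 lc_c_rc_11_1 lc_c_rc_14_2 lc_c_rc_2_1 lc_c_rc_22_3 lc_c_rc_11_1 lc_c_rc_26_2 lc_c_rc_24_6 lc_c_rc_7_3 lc_c_rc_13_2 lc_c_rc_11_1) (@D3.rec (fun _ => (Cert rels S Gen.c)) lc_c_rc_23_5 lc_c_Cert_tree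 lc_c_rc_14_2 lc_c_rc_11_1 lc_c_Cert_tree lc_c_rc_13_2 lc_c_rc_26_2 lc_c_rc_11_1 lc_c_Cert_tree lc_c_Cert_tree lc_c_rc_11_1 lc_c_Cert_tree lc_c_rc_11_1 lc_c_rc_7_3 lc_c_rc_11_1 lc_c_Cert_tree lc_c_Cert_tree lc_c_rc_13_2 lc_c_Cert_tree lc_c_rc_11_1 lc_c_rc_14_2 lc_c_Cert_tree lc_c_rc_13_2 lc_c_rc_11_1 lc_c_rc_11_1 lc_c_rc_12_14 lc_c_rc_14_2 lc_c_rc_13_2 lc_c_rc_13_2 lc_c_Cert_tree lc_c_Cert_tree lc_c_rc_11_1 lc_c_rc_2_3 lc_c_rc_26_4 lc_c_rc_26_4 lc_c_rc_13_2 lc_c_Cert_tree lc_c_rc_13_2 lc_c_rc_7_3 lc_c_rc_23_0 lc_c_rc_13_2 lc_c_rc_11_1 lc_c_rc_7_3 lc_c_Cert_tree lc_c_rc_23_5 lc_c_rc_7_3 lc_c_rc_13_2 lc_c_Cert_tree lc_c_rc_23_5 lc_c_Cert_tree lc_c_rc_13_2 lc_c_rc_2_1 lc_c_rc_24_8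 lc_c_rc_11_1 lc_c_rc_14_2 lc_c_rc_26_2 lc_c_Cert_tree lc_c_rc_11_1 lc_c_rc_13_2 lc_c_rc_26_2 lc_c_rc_7_5 lc_c_rc_26_2) (@D3.rec (fun _ => (Cert rels S Gen.c)) lc_c_rc_2_3 lc_c_rc_23_0 lc_c_rc_24_8 lc_c_rc_23_5 lc_c_rc_11_1 lc_c_Cert_tree lc_c_rc_11_1 lc_c_rc_23_5 lc_c_rc_2_3 lc_c_rc_12_0 lc_c_rc_2_3 lc_c_rc_24_6 lc_c_rc_11_1 lc_c_rc_7_3 lc_c_rc_22_5 lc_c_rc_11_1 lc_c_rc_24_6 lc_c_rc_22_3 lc_c_rc_13_2 lc_c_rc_13_2 lc_c_Cert_tree lc_c_rc_13_0 lc_c_rc_11_1 lc_c_rc_13_2 lc_c_Cert_tree lc_c_Cert_tree lc_c_Cert_tree lc_c_rc_11_1 lc_c_Cert_tree lc_c_rc_11_1 lc_c_rc_13_2 lc_c_rc_11_1 lc_c_rc_13_2 lc_c_rc_24_2 lc_c_rc_23_0 lc_c_rc_7_3 lc_c_rc_24_8 lc_c_rc_22_3 lc_c_rc_23_5 lc_c_Cert_tree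 lc_c_Cert_tree lc_c_rc_13_2 lc_c_Cert_tree lc_c_Cert_tree lc_c_rc_11_1 lc_c_rc_13_2 lc_c_rc_26_10 lc_c_rc_11_1 lc_c_rc_22_3 lc_c_rc_7_3 lc_c_rc_13_2 lc_c_rc_7_1 lc_c_rc_7_5 lc_c_rc_22_9 lc_c_rc_11_1 lc_c_Cert_tree lc_c_rc_11_1 lc_c_rc_7_5 lc_c_rc_13_2 lc_c_rc_11_1 lc_c_rc_2_3 lc_c_rc_7_1) (@D3.rec (fun _ => (Cert rels S Gen.c)) lc_c_rc_24_4 lc_c_rc_22_5 lc_c_rc_2_3 lc_c_rc_23_0 lc_c_rc_24_8 lc_c_rc_11_1 lc_c_rc_13_2 lc_c_rc_13_2 lc_c_rc_7_1 lc_c_rc_13_2 lc_c_Cert_tree lc_c_rc_2_3 lc_c_Cert_tree lc_c_rc_26_2 lc_c_rc_7_3 lc_c_rc_13_2 lc_c_Cert_tree lc_c_Cert_tree lc_c_rc_2_3 lc_c_Cert_tree lc_c_rc_14_2 lc_c_rc_13_2 lc_c_rc_13_2 lc_c_Cert_tree lc_c_rc_24_8 lc_c_rc_7_3 lc_c_rc_7_1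 lc_c_rc_11_1 lc_c_rc_2_3 lc_c_Cert_tree lc_c_rc_11_1 lc_c_rc_13_2 lc_c_rc_11_1 lc_c_rc_23_5 lc_c_rc_2_3 lc_c_rc_13_2 lc_c_Cert_tree lc_c_rc_24_4 lc_c_rc_13_2 lc_c_rc_7_3 lc_c_rc_11_1 lc_c_Cert_tree lc_c_Cert_tree lc_c_rc_7_3 lc_c_rc_24_8 lc_c_rc_23_5 lc_c_rc_13_2 lc_c_rc_11_1 lc_c_rc_22_9 lc_c_rc_11_1 lc_c_rc_7_3 lc_c_rc_12_10 lc_c_rc_7_5 lc_c_rc_23_0 lc_c_rc_7_3 lc_c_rc_2_1 lc_c_Cert_tree lc_c_rc_11_1 lc_c_rc_2_3 lc_c_Cert_tree lc_c_rc_7_3 lc_c_rc_13_2) (@D3.rec (fun _ => (Cert rels S Gen.c)) lc_c_rc_11_1 lc_c_rc_2_3 lc_c_rc_26_2 lc_c_rc_13_2 lc_c_rc_24_8 lc_c_rc_11_1 lc_c_rc_11_1 lc_c_rc_13_2 lc_c_rc_23_0 lc_c_rc_7_3 lc_c_rc_22_3 lc_c_rc_22_7 lc_c_rc_13_2 lc_c_Cert_tree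 lc_c_Cert_tree lc_c_rc_11_1 lc_c_rc_13_2 lc_c_rc_26_10 lc_c_Cert_tree lc_c_rc_7_3 lc_c_rc_13_2 lc_c_rc_24_6 lc_c_rc_22_9 lc_c_Cert_tree lc_c_rc_11_1 lc_c_Cert_tree lc_c_rc_11_1 lc_c_rc_2_3 lc_c_Cert_tree lc_c_rc_7_3 lc_c_rc_7_3 lc_c_rc_13_2 lc_c_Cert_tree lc_c_rc_14_2 lc_c_rc_2_3 lc_c_Cert_tree lc_c_rc_13_2 lc_c_Cert_tree lc_c_Cert_tree lc_c_rc_2_3 lc_c_Cert_tree lc_c_rc_13_2 lc_c_rc_11_1 lc_c_rc_23_0 lc_c_rc_11_1 lc_c_rc_11_1 lc_c_rc_13_2 lc_c_rc_7_5 lc_c_Cert_tree lc_c_rc_11_1 lc_c_rc_13_2 lc_c_rc_7_3 lc_c_rc_13_2 lc_c_Cert_tree lc_c_rc_7_5 lc_c_rc_14_2 lc_c_rc_26_10 lc_c_rc_26_10 lc_c_rc_7_5 lc_c_rc_11_1 lc_c_Cert_tree lc_c_rc_13_0) (@D3.rec (fun _ => (Cert rels S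 Gen.c)) lc_c_rc_7_3 lc_c_rc_7_3 lc_c_Cert_tree lc_c_rc_11_1 lc_c_rc_11_1 lc_c_rc_7_3 lc_c_Cert_tree lc_c_rc_11_1 lc_c_rc_11_1 lc_c_Cert_tree lc_c_rc_11_1 lc_c_rc_13_2 lc_c_rc_11_1 lc_c_rc_11_1 lc_c_rc_7_3 lc_c_rc_7_3 lc_c_rc_11_1 lc_c_rc_14_0 lc_c_rc_11_1 lc_c_rc_13_2 lc_c_rc_7_3 lc_c_rc_23_0 lc_c_rc_26_4 lc_c_rc_2_3 lc_c_rc_7_3 lc_c_rc_11_1 lc_c_Cert_tree lc_c_Cert_tree lc_c_rc_7_3 lc_c_rc_11_1 lc_c_rc_13_2 lc_c_rc_26_10 lc_c_rc_11_1 lc_c_rc_13_2 lc_c_Cert_tree lc_c_Cert_tree lc_c_rc_22_3 lc_c_Cert_tree lc_c_rc_13_2 lc_c_rc_24_6 lc_c_rc_11_1 lc_c_rc_7_3 lc_c_rc_13_2 lc_c_rc_26_4 lc_c_rc_26_8 lc_c_Cert_tree lc_c_rc_13_0 lc_c_rc_26_4 lc_c_rc_7_5 lc_c_rc_11_1 lc_c_rc_11_1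 lc_c_rc_12_14 lc_c_rc_26_8 lc_c_rc_26_2 lc_c_Cert_tree lc_c_rc_14_2 lc_c_rc_7_5 lc_c_Cert_tree lc_c_rc_11_1 lc_c_Cert_tree lc_c_rc_11_1 lc_c_rc_22_3) (@D3.rec (fun _ => (Cert rels S Gen.c)) lc_c_rc_11_1 lc_c_Cert_tree lc_c_Cert_tree lc_c_Cert_tree lc_c_Cert_tree lc_c_rc_2_3 lc_c_rc_11_1 lc_c_rc_2_3 lc_c_Cert_tree lc_c_rc_13_2 lc_c_rc_11_1 lc_c_rc_23_0 lc_c_rc_2_3 lc_c_rc_7_3 lc_c_Cert_tree lc_c_rc_14_2 lc_c_rc_13_2 lc_c_rc_11_1 lc_c_rc_11_1 lc_c_rc_26_10 lc_c_Cert_tree lc_c_rc_11_1 lc_c_rc_2_3 lc_c_Cert_tree lc_c_rc_25_17 lc_c_rc_11_1 lc_c_rc_2_3 lc_c_rc_13_0 lc_c_rc_26_2 lc_c_rc_13_2 lc_c_rc_2_3 lc_c_rc_22_5 lc_c_rc_26_4 lc_c_rc_11_1 lc_c_rc_22_3 lc_c_rc_23_5 lc_c_rc_2_1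 lc_c_rc_13_2 lc_c_rc_11_1 lc_c_Cert_tree lc_c_Cert_tree lc_c_rc_2_3 lc_c_rc_11_1 lc_c_rc_13_2 lc_c_rc_22_7 lc_c_rc_26_4 lc_c_rc_13_2 lc_c_rc_25_13 lc_c_rc_7_5 lc_c_rc_14_2 lc_c_rc_13_2 lc_c_Cert_tree lc_c_rc_11_1 lc_c_rc_2_3 lc_c_Cert_tree lc_c_rc_13_2 lc_c_rc_11_1 lc_c_rc_7_3 lc_c_Cert_tree lc_c_rc_14_2 lc_c_Cert_tree lc_c_Cert_tree) (@D3.rec (fun _ => (Cert rels S Gen.c)) lc_c_rc_2_3 lc_c_Cert_tree lc_c_rc_13_2 lc_c_rc_23_0 lc_c_rc_2_3 lc_c_rc_22_3 lc_c_rc_26_4 lc_c_rc_11_1 lc_c_Cert_tree lc_c_Cert_tree lc_c_Cert_tree lc_c_Cert_tree lc_c_rc_2_3 lc_c_rc_11_1 lc_c_rc_13_2 lc_c_Cert_tree lc_c_rc_13_2 lc_c_Cert_tree lc_c_rc_13_2 lc_c_rc_7_3 lc_c_rc_13_2 lc_c_rc_24_6 lc_c_rc_24_8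 lc_c_rc_14_2 lc_c_rc_13_2 lc_c_rc_13_2 lc_c_Cert_tree lc_c_rc_26_10 lc_c_rc_13_2 lc_c_rc_13_2 lc_c_rc_24_2 lc_c_rc_11_1 lc_c_rc_26_4 lc_c_rc_26_8 lc_c_rc_14_2 lc_c_rc_22_5 lc_c_rc_24_4 lc_c_rc_11_1 lc_c_rc_14_2 lc_c_rc_26_4 lc_c_rc_11_1 lc_c_Cert_tree lc_c_rc_13_2 lc_c_rc_7_3 lc_c_rc_11_1 lc_c_Cert_tree lc_c_rc_13_2 lc_c_rc_24_2 lc_c_rc_24_2 lc_c_rc_11_1 lc_c_rc_23_5 lc_c_rc_23_0 lc_c_rc_22_3 lc_c_rc_11_1 lc_c_rc_11_1 lc_c_Cert_tree lc_c_rc_13_2 lc_c_rc_11_1 lc_c_rc_13_2 lc_c_Cert_tree lc_c_rc_2_3 lc_c_Cert_tree) (@D3.rec (fun _ => (Cert rels S Gen.c)) lc_c_rc_11_1 lc_c_rc_13_2 lc_c_rc_11_1 lc_c_rc_11_1 lc_c_rc_13_2 lc_c_rc_11_1 lc_c_rc_13_2 lc_c_rc_11_1 lc_c_rc_11_1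 lc_c_rc_26_10 lc_c_rc_13_2 lc_c_rc_11_1 lc_c_rc_13_2 lc_c_rc_24_4 lc_c_rc_24_8 lc_c_rc_7_3 lc_c_rc_24_2 lc_c_rc_11_1 lc_c_rc_13_2 lc_c_rc_13_2 lc_c_rc_24_8 lc_c_rc_13_2 lc_c_rc_26_2 lc_c_rc_13_2 lc_c_rc_7_3 lc_c_rc_7_3 lc_c_Cert_tree lc_c_rc_14_2 lc_c_rc_11_1 lc_c_rc_14_2 lc_c_rc_11_1 lc_c_rc_11_1 lc_c_rc_13_2 lc_c_rc_11_1 lc_c_rc_24_2 lc_c_rc_26_10 lc_c_Cert_tree lc_c_Cert_tree lc_c_rc_23_5 lc_c_rc_24_4 lc_c_rc_24_2 lc_c_rc_11_1 lc_c_rc_24_2 lc_c_rc_13_2 lc_c_rc_14_2 lc_c_rc_14_2 lc_c_rc_13_2 lc_c_Cert_tree lc_c_rc_7_3 lc_c_rc_23_5 lc_c_rc_13_2 lc_c_rc_24_4 lc_c_rc_7_5 lc_c_rc_23_5 lc_c_rc_24_2 lc_c_rc_26_4 lc_c_rc_2_3 lc_c_rc_2_3 lc_c_Cert_tree lc_c_rc_11_1 lc_c_rc_13_2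 lc_c_Cert_tree) (@D3.rec (fun _ => (Cert rels S Gen.c)) lc_c_rc_13_2 lc_c_Cert_tree lc_c_rc_13_2 lc_c_rc_13_2 lc_c_rc_13_2 lc_c_rc_11_1 lc_c_rc_11_1 lc_c_Cert_tree lc_c_Cert_tree lc_c_rc_11_1 lc_c_rc_13_2 lc_c_rc_26_10 lc_c_rc_2_3 lc_c_Cert_tree lc_c_rc_14_2 lc_c_rc_2_3 lc_c_Cert_tree lc_c_rc_11_1 lc_c_Cert_tree lc_c_rc_2_3 lc_c_rc_26_2 lc_c_rc_2_3 lc_c_Cert_tree lc_c_rc_23_5 lc_c_Cert_tree lc_c_rc_13_2 lc_c_Cert_tree lc_c_rc_22_3 lc_c_rc_11_1 lc_c_rc_7_3 lc_c_Cert_tree lc_c_Cert_tree lc_c_rc_23_5 lc_c_Cert_tree lc_c_rc_24_8 lc_c_rc_24_8 lc_c_rc_11_1 lc_c_rc_13_0 lc_c_Cert_tree lc_c_rc_13_2 lc_c_rc_11_1 lc_c_rc_13_2 lc_c_rc_11_1 lc_c_rc_11_1 lc_c_Cert_tree lc_c_rc_13_2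 lc_c_rc_11_1 lc_c_rc_13_2 lc_c_Cert_tree lc_c_rc_11_1 lc_c_rc_13_2 lc_c_Cert_tree lc_c_rc_11_1 lc_c_rc_13_2 lc_c_rc_22_9 lc_c_rc_24_4 lc_c_rc_26_2 lc_c_Cert_tree lc_c_rc_13_2 lc_c_rc_11_1 lc_c_rc_13_2 lc_c_rc_22_7) (@D3.rec (fun _ => (Cert rels S Gen.c)) lc_c_rc_13_2 lc_c_rc_23_0 lc_c_Cert_tree lc_c_rc_14_2 lc_c_rc_13_2 lc_c_rc_7_5 lc_c_rc_13_2 lc_c_rc_26_4 lc_c_rc_13_2 lc_c_Cert_tree lc_c_rc_11_1 lc_c_rc_26_8 lc_c_Cert_tree lc_c_rc_13_2 lc_c_rc_11_1 lc_c_Cert_tree lc_c_rc_2_1 lc_c_rc_7_1 lc_c_rc_11_1 lc_c_Cert_tree lc_c_rc_13_2 lc_c_rc_26_2 lc_c_Cert_tree lc_c_Cert_tree lc_c_Cert_tree lc_c_rc_11_1 lc_c_Cert_tree lc_c_rc_2_3 lc_c_Cert_tree lc_c_rc_13_2 lc_c_rc_24_2 lc_c_rc_24_2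 lc_c_rc_14_2 lc_c_rc_13_2 lc_c_rc_26_8 lc_c_Cert_tree lc_c_rc_26_4 lc_c_rc_26_4 lc_c_rc_26_4 lc_c_rc_13_2 lc_c_rc_14_2 lc_c_rc_14_0 lc_c_rc_26_4 lc_c_rc_24_2 lc_c_rc_26_2 lc_c_rc_22_3 lc_c_rc_14_2 lc_c_rc_25_5 lc_c_Cert_tree lc_c_rc_11_1 lc_c_rc_13_0 lc_c_rc_23_5 lc_c_rc_26_4 lc_c_rc_7_1 lc_c_rc_13_0 lc_c_rc_24_2 lc_c_rc_11_1 lc_c_rc_11_1 lc_c_rc_14_2 lc_c_rc_13_2 lc_c_Cert_tree lc_c_rc_26_10) (@D3.rec (fun _ => (Cert rels S Gen.c)) lc_c_rc_7_3 lc_c_rc_24_6 lc_c_rc_14_2 lc_c_rc_2_3 lc_c_rc_2_3 lc_c_rc_13_2 lc_c_Cert_tree lc_c_rc_11_1 lc_c_Cert_tree lc_c_rc_11_1 lc_c_rc_7_5 lc_c_Cert_tree lc_c_rc_11_1 lc_c_Cert_tree lc_c_rc_11_1 lc_c_rc_22_3 lc_c_rc_7_1 lc_c_rc_2_1 lc_c_rc_23_5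 lc_c_rc_13_2 lc_c_rc_11_1 lc_c_rc_11_1 lc_c_rc_13_2 lc_c_rc_14_2 lc_c_rc_26_2 lc_c_rc_13_0 lc_c_rc_7_5 lc_c_rc_11_1 lc_c_rc_13_0 lc_c_rc_11_1 lc_c_rc_26_8 lc_c_rc_26_8 lc_c_rc_11_1 lc_c_rc_13_2 lc_c_rc_11_1 lc_c_rc_7_3 lc_c_rc_22_7 lc_c_rc_14_2 lc_c_rc_22_7 lc_c_rc_22_9 lc_c_rc_13_2 lc_c_rc_13_2 lc_c_rc_13_2 lc_c_rc_13_2 lc_c_rc_7_5 lc_c_rc_11_1 lc_c_rc_2_3 lc_c_rc_13_2 lc_c_rc_13_2 lc_c_rc_26_2 lc_c_rc_25_17 lc_c_rc_14_2 lc_c_rc_26_4 lc_c_rc_13_2 lc_c_rc_13_2 lc_c_rc_24_2 lc_c_rc_14_2 lc_c_rc_13_2 lc_c_Cert_tree lc_c_rc_26_4 lc_c_Cert_tree lc_c_rc_13_2) (@D3.rec (fun _ => (Cert rels S Gen.c)) lc_c_Cert_tree lc_c_rc_13_2 lc_c_Cert_tree lc_c_Cert_tree lc_c_rc_11_1 lc_c_rc_11_1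 lc_c_rc_14_0 lc_c_Cert_tree lc_c_rc_13_2 lc_c_Cert_tree lc_c_rc_13_2 lc_c_Cert_tree lc_c_rc_22_3 lc_c_rc_11_1 lc_c_rc_23_0 lc_c_rc_25_13 lc_c_Cert_tree lc_c_rc_13_0 lc_c_rc_14_2 lc_c_Cert_tree lc_c_rc_11_1 lc_c_rc_13_2 lc_c_rc_11_1 lc_c_rc_24_4 lc_c_rc_24_2 lc_c_rc_23_5 lc_c_rc_7_3 lc_c_rc_13_2 lc_c_Cert_tree lc_c_Cert_tree lc_c_Cert_tree lc_c_rc_14_2 lc_c_rc_11_1 lc_c_rc_25_5 lc_c_rc_11_1 lc_c_Cert_tree lc_c_rc_2_3 lc_c_rc_14_0 lc_c_Cert_tree lc_c_rc_22_3 lc_c_rc_22_7 lc_c_rc_11_1 lc_c_rc_24_4 lc_c_rc_11_1 lc_c_rc_13_0 lc_c_Cert_tree lc_c_rc_2_3 lc_c_rc_13_2 lc_c_Cert_tree lc_c_rc_13_0 lc_c_rc_7_5 lc_c_rc_14_2 lc_c_rc_11_1 lc_c_Cert_tree lc_c_rc_11_1 lc_c_rc_13_2 lc_c_rc_24_6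 lc_c_rc_13_2 lc_c_Cert_tree lc_c_Cert_tree lc_c_Cert_tree lc_c_rc_14_2) (@D3.rec (fun _ => (Cert rels S Gen.c)) lc_c_rc_22_7 lc_c_rc_13_2 lc_c_Cert_tree lc_c_rc_2_3 lc_c_rc_7_3 lc_c_rc_13_2 lc_c_rc_13_2 lc_c_rc_22_3 lc_c_rc_2_1 lc_c_rc_24_4 lc_c_rc_14_2 lc_c_rc_13_2 lc_c_rc_13_2 lc_c_rc_26_10 lc_c_rc_26_2 lc_c_Cert_tree lc_c_rc_11_1 lc_c_rc_24_2 lc_c_rc_7_3 lc_c_Cert_tree lc_c_rc_11_1 lc_c_rc_14_2 lc_c_Cert_tree lc_c_rc_14_2 lc_c_rc_11_1 lc_c_rc_13_2 lc_c_Cert_tree lc_c_rc_11_1 lc_c_rc_13_2 lc_c_Cert_tree lc_c_rc_11_1 lc_c_rc_13_2 lc_c_rc_24_2 lc_c_rc_11_1 lc_c_rc_7_3 lc_c_rc_22_7 lc_c_rc_11_1 lc_c_Cert_tree lc_c_rc_13_2 lc_c_rc_11_1 lc_c_rc_13_2 lc_c_rc_7_3 lc_c_Cert_tree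 lc_c_rc_11_1 lc_c_rc_11_1 lc_c_rc_26_4 lc_c_Cert_tree lc_c_rc_11_1 lc_c_rc_13_2 lc_c_Cert_tree lc_c_rc_23_5 lc_c_rc_11_1 lc_c_rc_14_0 lc_c_rc_23_5 lc_c_rc_11_1 lc_c_rc_11_1 lc_c_Cert_tree lc_c_rc_11_1 lc_c_rc_13_2 lc_c_rc_11_1 lc_c_rc_7_3 lc_c_rc_13_2) (@D3.rec (fun _ => (Cert rels S Gen.c)) lc_c_rc_26_10 lc_c_Cert_tree lc_c_Cert_tree lc_c_rc_14_2 lc_c_Cert_tree lc_c_rc_14_2 lc_c_rc_11_1 lc_c_rc_24_2 lc_c_rc_7_3 lc_c_rc_7_5 lc_c_Cert_tree lc_c_rc_2_3 lc_c_Cert_tree lc_c_rc_11_1 lc_c_rc_13_2 lc_c_rc_11_1 lc_c_rc_7_3 lc_c_Cert_tree lc_c_rc_14_2 lc_c_rc_2_3 lc_c_rc_13_2 lc_c_rc_11_1 lc_c_rc_7_3 lc_c_rc_13_0 lc_c_rc_24_2 lc_c_rc_22_3 lc_c_rc_22_3 lc_c_Cert_tree lc_c_rc_2_3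 lc_c_rc_26_2 lc_c_rc_13_2 lc_c_rc_13_0 lc_c_rc_13_0 lc_c_rc_13_2 lc_c_rc_14_2 lc_c_rc_13_2 lc_c_rc_11_1 lc_c_Cert_tree lc_c_Cert_tree lc_c_rc_2_3 lc_c_Cert_tree lc_c_rc_13_2 lc_c_rc_7_3 lc_c_rc_14_2 lc_c_Cert_tree lc_c_Cert_tree lc_c_Cert_tree lc_c_rc_11_1 lc_c_rc_13_2 lc_c_rc_7_3 lc_c_rc_2_3 lc_c_Cert_tree lc_c_rc_13_2 lc_c_rc_11_1 lc_c_rc_13_2 lc_c_rc_24_8 lc_c_rc_2_3 lc_c_rc_11_1 lc_c_rc_11_1 lc_c_rc_7_1 lc_c_rc_26_2 lc_c_rc_13_2) (@D3.rec (fun _ => (Cert rels S Gen.c)) lc_c_Cert_tree lc_c_rc_13_0 lc_c_rc_11_1 lc_c_rc_11_1 lc_c_rc_23_0 lc_c_rc_11_1 lc_c_Cert_tree lc_c_rc_13_2 lc_c_Cert_tree lc_c_rc_13_2 lc_c_rc_26_4 lc_c_rc_23_5 lc_c_rc_14_2 lc_c_rc_25_5 lc_c_rc_25_13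 lc_c_rc_26_2 lc_c_rc_7_5 lc_c_rc_22_9 lc_c_rc_13_2 lc_c_Cert_tree lc_c_Cert_tree lc_c_rc_7_3 lc_c_rc_24_8 lc_c_rc_7_3 lc_c_rc_22_9 lc_c_rc_24_2 lc_c_rc_13_2 lc_c_rc_11_1 lc_c_rc_26_2 lc_c_rc_24_8 lc_c_rc_23_0 lc_c_rc_2_1 lc_c_rc_11_1 lc_c_rc_13_2 lc_c_rc_11_1 lc_c_rc_13_2 lc_c_rc_12_14 lc_c_rc_11_1 lc_c_rc_13_2 lc_c_Cert_tree lc_c_Cert_tree lc_c_rc_7_3 lc_c_rc_11_1 lc_c_rc_13_2 lc_c_rc_7_3 lc_c_rc_7_3 lc_c_rc_23_5 lc_c_rc_11_1 lc_c_rc_11_1 lc_c_Cert_tree lc_c_rc_11_1 lc_c_rc_13_2 lc_c_Cert_tree lc_c_Cert_tree lc_c_rc_11_1 lc_c_rc_13_2 lc_c_rc_22_3 lc_c_rc_11_1 lc_c_rc_13_2 lc_c_Cert_tree lc_c_rc_11_1 lc_c_rc_7_5) (@D3.rec (fun _ => (Cert rels S Gen.c)) lc_c_rc_24_4 lc_c_rc_24_4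 lc_c_rc_22_5 lc_c_rc_2_1 lc_c_rc_13_2 lc_c_rc_24_8 lc_c_Cert_tree lc_c_rc_13_2 lc_c_rc_13_0 lc_c_rc_7_5 lc_c_rc_7_3 lc_c_rc_24_2 lc_c_rc_7_3 lc_c_rc_11_1 lc_c_rc_26_8 lc_c_rc_7_3 lc_c_rc_11_1 lc_c_rc_11_1 lc_c_rc_26_10 lc_c_rc_14_0 lc_c_Cert_tree lc_c_rc_11_1 lc_c_rc_13_2 lc_c_Cert_tree lc_c_Cert_tree lc_c_rc_13_2 lc_c_rc_11_1 lc_c_rc_22_5 lc_c_rc_7_3 lc_c_rc_26_4 lc_c_rc_11_1 lc_c_rc_11_1 lc_c_Cert_tree lc_c_rc_11_1 lc_c_rc_13_2 lc_c_rc_11_1 lc_c_rc_13_2 lc_c_rc_22_3 lc_c_rc_11_1 lc_c_rc_22_5 lc_c_Cert_tree lc_c_rc_11_1 lc_c_rc_13_2 lc_c_rc_24_6 lc_c_rc_11_1 lc_c_rc_7_3 lc_c_rc_22_9 lc_c_rc_13_2 lc_c_Cert_tree lc_c_Cert_tree lc_c_rc_25_9 lc_c_rc_24_4 lc_c_rc_13_2 lc_c_rc_7_5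 lc_c_rc_11_1 lc_c_rc_24_6 lc_c_rc_7_3 lc_c_rc_7_3 lc_c_rc_14_0 lc_c_rc_7_3 lc_c_rc_11_1 lc_c_rc_13_2) (@D3.rec (fun _ => (Cert rels S Gen.c)) lc_c_rc_11_1 lc_c_rc_11_1 lc_c_rc_2_3 lc_c_rc_7_5 lc_c_rc_2_3 lc_c_Cert_tree lc_c_rc_13_2 lc_c_Cert_tree lc_c_Cert_tree lc_c_Cert_tree lc_c_rc_13_2 lc_c_rc_11_1 lc_c_rc_2_3 lc_c_Cert_tree lc_c_rc_7_5 lc_c_rc_26_4 lc_c_rc_11_1 lc_c_rc_2_3 lc_c_Cert_tree lc_c_rc_13_2 lc_c_Cert_tree lc_c_rc_11_1 lc_c_rc_11_1 lc_c_Cert_tree lc_c_rc_13_2 lc_c_rc_7_3 lc_c_rc_13_2 lc_c_rc_7_3 lc_c_rc_13_2 lc_c_rc_24_4 lc_c_rc_24_4 lc_c_rc_2_3 lc_c_rc_11_1 lc_c_rc_26_10 lc_c_rc_2_3 lc_c_rc_13_2 lc_c_Cert_tree lc_c_rc_13_2 lc_c_rc_25_5 lc_c_rc_13_2 lc_c_rc_11_1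 lc_c_rc_13_2 lc_c_rc_7_5 lc_c_rc_11_1 lc_c_rc_23_0 lc_c_rc_26_4 lc_c_rc_2_1 lc_c_Cert_tree lc_c_rc_26_4 lc_c_Cert_tree lc_c_rc_11_1 lc_c_rc_13_2 lc_c_rc_11_1 lc_c_rc_14_2 lc_c_rc_23_0 lc_c_rc_7_3 lc_c_rc_11_1 lc_c_rc_26_2 lc_c_rc_24_2 lc_c_rc_26_2 lc_c_rc_11_1 lc_c_rc_13_2) (@D3.rec (fun _ => (Cert rels S Gen.c)) lc_c_rc_26_4 lc_c_rc_11_1 lc_c_rc_13_2 lc_c_rc_11_1 lc_c_rc_11_1 lc_c_rc_22_7 lc_c_rc_14_2 lc_c_Cert_tree lc_c_rc_24_2 lc_c_rc_7_3 lc_c_rc_11_1 lc_c_rc_13_2 lc_c_rc_7_3 lc_c_rc_11_1 lc_c_rc_24_8 lc_c_rc_11_1 lc_c_rc_13_2 lc_c_Cert_tree lc_c_Cert_tree lc_c_Cert_tree lc_c_rc_11_1 lc_c_rc_11_1 lc_c_rc_11_1 lc_c_rc_11_1 lc_c_rc_26_4 lc_c_rc_11_1 lc_c_rc_13_2 lc_c_rc_23_5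 lc_c_rc_24_4 lc_c_rc_24_8 lc_c_rc_13_2 lc_c_rc_23_0 lc_c_rc_23_0 lc_c_rc_14_2 lc_c_Cert_tree lc_c_rc_23_0 lc_c_rc_13_2 lc_c_rc_14_2 lc_c_rc_11_1 lc_c_Cert_tree lc_c_rc_13_2 lc_c_rc_11_1 lc_c_rc_11_1 lc_c_rc_2_3 lc_c_rc_14_0 lc_c_rc_14_2 lc_c_rc_14_2 lc_c_rc_13_0 lc_c_rc_13_2 lc_c_rc_11_1 lc_c_rc_13_2 lc_c_rc_22_3 lc_c_rc_13_2 lc_c_rc_13_2 lc_c_rc_11_1 lc_c_rc_7_5 lc_c_Cert_tree lc_c_rc_26_2 lc_c_rc_13_2 lc_c_Cert_tree lc_c_rc_14_2 lc_c_rc_26_4) (@D3.rec (fun _ => (Cert rels S Gen.c)) lc_c_rc_11_1 lc_c_rc_13_0 lc_c_rc_26_2 lc_c_rc_11_1 lc_c_rc_26_4 lc_c_rc_13_2 lc_c_rc_24_2 lc_c_rc_26_2 lc_c_rc_11_1 lc_c_rc_25_17 lc_c_rc_11_1 lc_c_Cert_tree lc_c_Cert_tree lc_c_rc_11_1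 lc_c_rc_14_2 lc_c_rc_22_3 lc_c_rc_11_1 lc_c_rc_13_2 lc_c_rc_11_1 lc_c_rc_26_10 lc_c_Cert_tree lc_c_rc_13_2 lc_c_rc_11_1 lc_c_rc_13_2 lc_c_rc_23_5 lc_c_rc_11_1 lc_c_rc_7_5 lc_c_Cert_tree lc_c_rc_11_1 lc_c_rc_13_2 lc_c_rc_24_6 lc_c_rc_11_1 lc_c_rc_7_3 lc_c_rc_14_2 lc_c_rc_13_2 lc_c_rc_11_1 lc_c_rc_14_0 lc_c_rc_2_3 lc_c_rc_14_2 lc_c_rc_11_1 lc_c_rc_13_2 lc_c_Cert_tree lc_c_rc_11_1 lc_c_rc_13_2 lc_c_rc_26_10 lc_c_Cert_tree lc_c_rc_11_1 lc_c_rc_13_2 lc_c_rc_11_1 lc_c_rc_13_0 lc_c_rc_26_8 lc_c_Cert_tree lc_c_rc_13_2 lc_c_Cert_tree lc_c_rc_11_1 lc_c_rc_2_3 lc_c_Cert_tree lc_c_rc_7_3 lc_c_rc_13_2 lc_c_rc_26_4 lc_c_rc_11_1 lc_c_Cert_tree) (@D3.rec (fun _ => (Cert rels S Gen.c))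 lc_c_rc_7_1 lc_c_rc_11_1 lc_c_Cert_tree lc_c_rc_13_2 lc_c_Cert_tree lc_c_Cert_tree lc_c_rc_11_1 lc_c_rc_13_2 lc_c_rc_23_0 lc_c_rc_13_2 lc_c_rc_14_2 lc_c_rc_24_8 lc_c_rc_11_1 lc_c_rc_11_1 lc_c_rc_14_2 lc_c_Cert_tree lc_c_rc_7_5 lc_c_Cert_tree lc_c_Cert_tree lc_c_Cert_tree lc_c_rc_11_1 lc_c_rc_14_2 lc_c_Cert_tree lc_c_rc_25_13 lc_c_rc_22_9 lc_c_rc_23_5 lc_c_rc_26_8 lc_c_rc_7_3 lc_c_Cert_tree lc_c_rc_7_5 lc_c_rc_11_1 lc_c_rc_11_1 lc_c_Cert_tree lc_c_rc_11_1 lc_c_rc_13_2 lc_c_Cert_tree lc_c_rc_11_1 lc_c_rc_13_2 lc_c_Cert_tree lc_c_rc_11_1 lc_c_rc_13_2 lc_c_rc_11_1 lc_c_rc_11_1 lc_c_rc_7_3 lc_c_rc_14_2 lc_c_rc_13_2 lc_c_Cert_tree lc_c_rc_13_2 lc_c_rc_13_2 lc_c_rc_7_3 lc_c_rc_2_3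 lc_c_rc_26_8 lc_c_rc_22_9 lc_c_rc_26_10 lc_c_rc_13_2 lc_c_Cert_tree lc_c_rc_13_2 lc_c_rc_13_2 lc_c_rc_13_2 lc_c_rc_13_2 lc_c_rc_11_1 lc_c_rc_11_1) (@D3.rec (fun _ => (Cert rels S Gen.c)) lc_c_Cert_tree lc_c_Cert_tree lc_c_Cert_tree lc_c_rc_13_2 lc_c_Cert_tree lc_c_rc_11_1 lc_c_rc_25_5 lc_c_Cert_tree lc_c_rc_11_1 lc_c_rc_23_0 lc_c_rc_25_17 lc_c_rc_11_1 lc_c_rc_13_2 lc_c_Cert_tree lc_c_rc_11_1 lc_c_rc_13_2 lc_c_rc_11_1 lc_c_rc_11_1 lc_c_rc_7_3 lc_c_rc_13_2 lc_c_rc_13_2 lc_c_rc_13_2 lc_c_Cert_tree lc_c_rc_11_1 lc_c_rc_14_0 lc_c_rc_11_1 lc_c_Cert_tree lc_c_rc_11_1 lc_c_rc_26_2 lc_c_rc_13_2 lc_c_rc_26_2 lc_c_rc_23_0 lc_c_Cert_tree lc_c_Cert_tree lc_c_rc_11_1 lc_c_rc_14_2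 lc_c_rc_7_1 lc_c_rc_22_7 lc_c_rc_25_1 lc_c_rc_23_0 lc_c_rc_11_1 lc_c_Cert_tree lc_c_rc_2_1 lc_c_rc_13_2 lc_c_rc_11_1 lc_c_rc_11_1 lc_c_rc_7_3 lc_c_rc_14_2 lc_c_rc_13_2 lc_c_Cert_tree lc_c_rc_26_4 lc_c_Cert_tree lc_c_Cert_tree lc_c_rc_26_10 lc_c_rc_11_1 lc_c_rc_24_2 lc_c_rc_11_1 lc_c_rc_25_17 lc_c_rc_7_3 lc_c_rc_22_7 lc_c_rc_22_3 lc_c_rc_26_2) (@D3.rec (fun _ => (Cert rels S Gen.c)) lc_c_rc_14_2 lc_c_Cert_tree lc_c_rc_13_2 lc_c_rc_24_6 lc_c_rc_11_1 lc_c_rc_7_3 lc_c_rc_24_8 lc_c_rc_11_1 lc_c_rc_24_2 lc_c_rc_23_0 lc_c_Cert_tree lc_c_rc_14_2 lc_c_Cert_tree lc_c_Cert_tree lc_c_rc_11_1 lc_c_rc_24_2 lc_c_Cert_tree lc_c_rc_2_3 lc_c_Cert_tree lc_c_rc_11_1 lc_c_rc_13_2 lc_c_Cert_tree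 lc_c_Cert_tree lc_c_rc_11_1 lc_c_rc_13_2 lc_c_rc_11_1 lc_c_rc_13_2 lc_c_rc_11_1 lc_c_rc_13_2 lc_c_rc_24_6 lc_c_rc_24_6 lc_c_rc_14_2 lc_c_rc_13_2 lc_c_rc_11_1 lc_c_Cert_tree lc_c_Cert_tree lc_c_rc_2_3 lc_c_Cert_tree lc_c_Cert_tree lc_c_Cert_tree lc_c_rc_11_1 lc_c_rc_13_2 lc_c_Cert_tree lc_c_rc_7_5 lc_c_Cert_tree lc_c_Cert_tree lc_c_rc_11_1 lc_c_rc_13_2 lc_c_rc_11_1 lc_c_rc_13_2 lc_c_rc_24_8 lc_c_rc_22_3 lc_c_rc_7_3 lc_c_rc_11_1 lc_c_rc_13_2 lc_c_Cert_tree lc_c_Cert_tree lc_c_Cert_tree lc_c_rc_14_2 lc_c_rc_11_1 lc_c_rc_23_5 lc_c_rc_11_1) (@D3.rec (fun _ => (Cert rels S Gen.c)) lc_c_rc_22_7 lc_c_rc_13_2 lc_c_rc_22_7 lc_c_rc_13_2 lc_c_rc_24_4 lc_c_rc_24_4 lc_c_rc_13_2 lc_c_rc_23_5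 lc_c_rc_11_1 lc_c_rc_7_5 lc_c_rc_23_0 lc_c_rc_7_3 lc_c_rc_11_1 lc_c_rc_13_2 lc_c_Cert_tree lc_c_Cert_tree lc_c_rc_14_2 lc_c_Cert_tree lc_c_rc_11_1 lc_c_rc_26_10 lc_c_rc_13_2 lc_c_rc_24_6 lc_c_rc_2_3 lc_c_rc_7_1 lc_c_rc_13_2 lc_c_Cert_tree lc_c_Cert_tree lc_c_rc_14_2 lc_c_Cert_tree lc_c_rc_11_1 lc_c_rc_11_1 lc_c_rc_13_2 lc_c_rc_14_0 lc_c_rc_22_3 lc_c_rc_13_2 lc_c_Cert_tree lc_c_rc_11_1 lc_c_rc_14_2 lc_c_Cert_tree lc_c_rc_13_2 lc_c_Cert_tree lc_c_rc_22_3 lc_c_rc_13_2 lc_c_Cert_tree lc_c_Cert_tree lc_c_Cert_tree lc_c_rc_14_2 lc_c_rc_12_0 lc_c_rc_22_3 lc_c_rc_13_2 lc_c_rc_13_2 lc_c_Cert_tree lc_c_rc_26_2 lc_c_rc_14_2 lc_c_rc_2_3 lc_c_Cert_tree lc_c_rc_11_1 lc_c_rc_26_4 lc_c_rc_7_5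 lc_c_rc_11_1 lc_c_rc_13_2 lc_c_rc_22_7) (@D3.rec (fun _ => (Cert rels S Gen.c)) lc_c_rc_11_1 lc_c_rc_13_2 lc_c_rc_11_1 lc_c_Cert_tree lc_c_Cert_tree lc_c_rc_2_3 lc_c_Cert_tree lc_c_Cert_tree lc_c_rc_11_1 lc_c_rc_13_2 lc_c_rc_11_1 lc_c_Cert_tree lc_c_rc_26_4 lc_c_rc_11_1 lc_c_rc_13_2 lc_c_rc_25_13 lc_c_rc_11_1 lc_c_rc_13_2 lc_c_rc_7_3 lc_c_rc_13_2 lc_c_Cert_tree lc_c_Cert_tree lc_c_Cert_tree lc_c_rc_14_2 lc_c_rc_11_1 lc_c_rc_7_3 lc_c_rc_11_1 lc_c_rc_24_4 lc_c_rc_11_1 lc_c_rc_14_2 lc_c_Cert_tree lc_c_rc_13_2 lc_c_rc_14_2 lc_c_rc_2_3 lc_c_Cert_tree lc_c_rc_13_2 lc_c_rc_11_1 lc_c_rc_13_2 lc_c_rc_7_3 lc_c_rc_11_1 lc_c_Cert_tree lc_c_Cert_tree lc_c_rc_13_2 lc_c_Cert_tree lc_c_Cert_tree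 lc_c_rc_11_1 lc_c_rc_13_2 lc_c_rc_26_10 lc_c_Cert_tree lc_c_rc_7_3 lc_c_rc_7_3 lc_c_rc_13_2 lc_c_Cert_tree lc_c_Cert_tree lc_c_Cert_tree lc_c_rc_14_2 lc_c_rc_11_1 lc_c_rc_12_12 lc_c_rc_11_1 lc_c_rc_2_3 lc_c_Cert_tree lc_c_rc_13_2) (@D3.rec (fun _ => (Cert rels S Gen.c)) lc_c_rc_11_1 lc_c_Cert_tree lc_c_rc_11_1 lc_c_rc_2_3 lc_c_Cert_tree lc_c_rc_13_2 lc_c_Cert_tree lc_c_rc_13_2 lc_c_rc_23_5 lc_c_rc_13_2 lc_c_rc_11_1 lc_c_rc_13_2 lc_c_Cert_tree lc_c_Cert_tree lc_c_rc_22_3 lc_c_rc_7_5 lc_c_rc_11_1 lc_c_rc_2_3 lc_c_Cert_tree lc_c_rc_13_2 lc_c_rc_26_10 lc_c_rc_7_5 lc_c_rc_2_3 lc_c_rc_26_4 lc_c_rc_11_1 lc_c_Cert_tree lc_c_Cert_tree lc_c_Cert_tree lc_c_Cert_tree lc_c_Cert_tree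 lc_c_rc_11_1 lc_c_rc_13_2 lc_c_rc_24_4 lc_c_rc_11_1 lc_c_rc_14_2 lc_c_rc_11_1 lc_c_rc_11_1 lc_c_rc_2_3 lc_c_rc_13_2 lc_c_rc_26_4 lc_c_rc_23_5 lc_c_rc_13_2 lc_c_rc_11_1 lc_c_rc_7_1 lc_c_rc_24_6 lc_c_Cert_tree lc_c_rc_2_3 lc_c_rc_23_0 lc_c_rc_24_8 lc_c_Cert_tree lc_c_rc_14_2 lc_c_rc_11_1 lc_c_rc_7_3 lc_c_rc_26_4 lc_c_rc_11_1 lc_c_rc_13_2 lc_c_Cert_tree lc_c_rc_11_1 lc_c_rc_11_1 lc_c_Cert_tree lc_c_rc_26_2 lc_c_rc_11_1) (@D3.rec (fun _ => (Cert rels S Gen.c)) lc_c_rc_23_5 lc_c_Cert_tree lc_c_Cert_tree lc_c_rc_11_1 lc_c_rc_13_2 lc_c_rc_11_1 lc_c_Cert_tree lc_c_rc_23_0 lc_c_rc_2_3 lc_c_Cert_tree lc_c_rc_14_2 lc_c_rc_11_1 lc_c_rc_26_4 lc_c_rc_11_1 lc_c_Cert_tree lc_c_Cert_tree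 lc_c_rc_11_1 lc_c_Cert_tree lc_c_rc_13_2 lc_c_Cert_tree lc_c_rc_13_2 lc_c_Cert_tree lc_c_Cert_tree lc_c_rc_11_1 lc_c_rc_13_2 lc_c_rc_26_10 lc_c_rc_26_10 lc_c_Cert_tree lc_c_rc_26_8 lc_c_rc_23_0 lc_c_rc_14_2 lc_c_Cert_tree lc_c_rc_14_2 lc_c_rc_11_1 lc_c_rc_7_5 lc_c_rc_14_2 lc_c_Cert_tree lc_c_rc_26_8 lc_c_rc_11_1 lc_c_rc_2_3 lc_c_Cert_tree lc_c_rc_2_3 lc_c_Cert_tree lc_c_rc_11_1 lc_c_rc_13_2 lc_c_rc_11_1 lc_c_rc_14_2 lc_c_rc_14_2 lc_c_rc_11_1 lc_c_rc_13_2 lc_c_rc_7_3 lc_c_rc_13_2 lc_c_rc_14_2 lc_c_Cert_tree lc_c_rc_24_4 lc_c_rc_14_2 lc_c_rc_13_2 lc_c_Cert_tree lc_c_rc_11_1 lc_c_rc_13_2 lc_c_rc_11_1 lc_c_rc_11_1) (@D3.rec (fun _ => (Cert rels S Gen.c)) lc_c_rc_14_2 lc_c_Cert_tree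 lc_c_Cert_tree lc_c_rc_2_3 lc_c_rc_13_2 lc_c_rc_13_2 lc_c_rc_11_1 lc_c_Cert_tree lc_c_rc_14_2 lc_c_Cert_tree lc_c_rc_11_1 lc_c_Cert_tree lc_c_rc_13_2 lc_c_rc_11_1 lc_c_rc_11_1 lc_c_Cert_tree lc_c_rc_13_2 lc_c_rc_14_2 lc_c_rc_13_2 lc_c_rc_11_1 lc_c_rc_7_3 lc_c_rc_11_1 lc_c_rc_13_2 lc_c_rc_14_2 lc_c_rc_11_1 lc_c_rc_13_2 lc_c_rc_24_6 lc_c_rc_24_4 lc_c_rc_22_5 lc_c_rc_24_4 lc_c_rc_23_0 lc_c_rc_11_1 lc_c_rc_24_2 lc_c_rc_26_10 lc_c_rc_24_2 lc_c_rc_7_3 lc_c_rc_11_1 lc_c_rc_11_1 lc_c_rc_24_4 lc_c_rc_2_3 lc_c_rc_23_0 lc_c_rc_11_1 lc_c_rc_7_5 lc_c_Cert_tree lc_c_rc_13_2 lc_c_rc_11_1 lc_c_rc_13_2 lc_c_rc_7_3 lc_c_rc_22_5 lc_c_rc_13_0 lc_c_rc_11_1 lc_c_rc_13_2 lc_c_Cert_tree lc_c_rc_11_1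 lc_c_rc_13_2 lc_c_rc_11_1 lc_c_rc_11_1 lc_c_rc_13_2 lc_c_rc_11_1 lc_c_rc_11_1 lc_c_rc_7_3 lc_c_rc_12_2) (@D3.rec (fun _ => (Cert rels S Gen.c)) lc_c_rc_13_2 lc_c_Cert_tree lc_c_rc_26_2 lc_c_rc_7_5 lc_c_rc_7_5 lc_c_rc_7_5 lc_c_rc_11_1 lc_c_rc_11_1 lc_c_rc_7_5 lc_c_rc_11_1 lc_c_rc_13_2 lc_c_rc_7_3 lc_c_rc_7_3 lc_c_rc_11_1 lc_c_rc_11_1 lc_c_rc_2_3 lc_c_Cert_tree lc_c_rc_13_2 lc_c_Cert_tree lc_c_rc_13_2 lc_c_rc_11_1 lc_c_rc_2_3 lc_c_rc_26_10 lc_c_rc_2_3 lc_c_rc_7_3 lc_c_rc_13_2 lc_c_Cert_tree lc_c_Cert_tree lc_c_rc_14_2 lc_c_Cert_tree lc_c_rc_11_1 lc_c_rc_2_3 lc_c_Cert_tree lc_c_rc_11_1 lc_c_rc_13_2 lc_c_rc_7_1 lc_c_rc_23_5 lc_c_Cert_tree lc_c_rc_11_1 lc_c_rc_11_1 lc_c_rc_11_1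 lc_c_rc_11_1 lc_c_rc_2_3 lc_c_Cert_tree lc_c_rc_13_2 lc_c_rc_13_2 lc_c_rc_12_14 lc_c_rc_26_4 lc_c_rc_11_1 lc_c_rc_13_2 lc_c_rc_26_8 lc_c_rc_11_1 lc_c_rc_13_2 lc_c_rc_13_2 lc_c_Cert_tree lc_c_Cert_tree lc_c_rc_23_0 lc_c_rc_13_0 lc_c_rc_13_2 lc_c_rc_11_1 lc_c_rc_2_3 lc_c_rc_26_2) (@D3.rec (fun _ => (Cert rels S Gen.c)) lc_c_rc_26_10 lc_c_rc_11_1 lc_c_rc_7_3 lc_c_rc_13_2 lc_c_Cert_tree lc_c_Cert_tree lc_c_rc_14_2 lc_c_rc_11_1 lc_c_rc_13_2 lc_c_rc_2_3 lc_c_rc_13_0 lc_c_rc_11_1 lc_c_rc_11_1 lc_c_rc_26_10 lc_c_rc_2_3 lc_c_rc_11_1 lc_c_Cert_tree lc_c_rc_11_1 lc_c_rc_11_1 lc_c_rc_11_1 lc_c_Cert_tree lc_c_rc_23_5 lc_c_rc_24_2 lc_c_rc_24_8 lc_c_rc_11_1 lc_c_rc_14_2 lc_c_rc_24_2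 lc_c_rc_14_2 lc_c_rc_26_8 lc_c_rc_24_8 lc_c_rc_11_1 lc_c_Cert_tree lc_c_rc_13_2 lc_c_rc_23_5 lc_c_rc_13_2 lc_c_rc_11_1 lc_c_rc_2_3 lc_c_rc_11_1 lc_c_rc_26_4 lc_c_rc_11_1 lc_c_rc_7_1 lc_c_rc_7_1 lc_c_rc_14_2 lc_c_rc_26_4 lc_c_rc_24_8 lc_c_rc_13_2 lc_c_rc_11_1 lc_c_rc_13_2 lc_c_rc_24_4 lc_c_rc_7_3 lc_c_Cert_tree lc_c_Cert_tree lc_c_rc_13_2 lc_c_Cert_tree lc_c_rc_11_1 lc_c_rc_14_2 lc_c_Cert_tree lc_c_rc_13_2 lc_c_rc_11_1 lc_c_rc_13_2 lc_c_Cert_tree lc_c_rc_26_4) (@D3.rec (fun _ => (Cert rels S Gen.c)) lc_c_Cert_tree lc_c_rc_13_2 lc_c_rc_11_1 lc_c_rc_11_1 lc_c_rc_26_4 lc_c_rc_11_1 lc_c_rc_2_1 lc_c_rc_7_3 lc_c_rc_14_2 lc_c_rc_13_2 lc_c_rc_7_3 lc_c_rc_11_1 lc_c_rc_2_1 lc_c_Cert_tree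 lc_c_rc_11_1 lc_c_rc_11_1 lc_c_rc_26_4 lc_c_rc_11_1 lc_c_rc_7_5 lc_c_Cert_tree lc_c_rc_11_1 lc_c_rc_13_2 lc_c_rc_23_0 lc_c_rc_23_0 lc_c_rc_14_2 lc_c_rc_13_2 lc_c_Cert_tree lc_c_rc_26_8 lc_c_rc_11_1 lc_c_Cert_tree lc_c_rc_11_1 lc_c_Cert_tree lc_c_rc_13_2 lc_c_rc_24_8 lc_c_rc_26_2 lc_c_rc_11_1 lc_c_rc_2_3 lc_c_Cert_tree lc_c_rc_12_0 lc_c_rc_11_1 lc_c_rc_13_2 lc_c_rc_24_6 lc_c_rc_11_1 lc_c_rc_22_3 lc_c_rc_11_1 lc_c_rc_13_2 lc_c_Cert_tree lc_c_rc_11_1 lc_c_rc_13_2 lc_c_rc_26_2 lc_c_rc_11_1 lc_c_rc_13_2 lc_c_rc_11_1 lc_c_rc_11_1 lc_c_rc_7_3 lc_c_rc_11_1 lc_c_rc_14_2 lc_c_rc_13_2 lc_c_rc_11_1 lc_c_rc_2_3 lc_c_rc_2_3 lc_c_rc_23_0) (@D3.rec (fun _ => (Cert rels S Gen.c)) lc_c_rc_11_1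 lc_c_rc_13_2 lc_c_rc_11_1 lc_c_rc_2_3 lc_c_rc_22_3 lc_c_rc_11_1 lc_c_rc_13_2 lc_c_rc_7_3 lc_c_rc_13_0 lc_c_Cert_tree lc_c_Cert_tree lc_c_rc_7_3 lc_c_rc_14_2 lc_c_rc_11_1 lc_c_rc_13_2 lc_c_Cert_tree lc_c_rc_11_1 lc_c_rc_7_3 lc_c_rc_11_1 lc_c_rc_11_1 lc_c_rc_13_2 lc_c_rc_23_0 lc_c_rc_23_0 lc_c_rc_14_2 lc_c_rc_13_2 lc_c_rc_13_2 lc_c_rc_13_2 lc_c_rc_22_3 lc_c_rc_24_6 lc_c_rc_22_3 lc_c_Cert_tree lc_c_rc_24_8 lc_c_rc_24_2 lc_c_rc_11_1 lc_c_Cert_tree lc_c_rc_13_2 lc_c_rc_11_1 lc_c_Cert_tree lc_c_rc_23_5 lc_c_rc_11_1 lc_c_rc_11_1 lc_c_rc_14_2 lc_c_rc_24_8 lc_c_Cert_tree lc_c_rc_11_1 lc_c_rc_7_5 lc_c_rc_11_1 lc_c_rc_7_5 lc_c_rc_11_1 lc_c_rc_13_2 lc_c_rc_22_9 lc_c_rc_26_2 lc_c_rc_11_1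 lc_c_rc_26_2 lc_c_rc_13_2 lc_c_rc_11_1 lc_c_rc_11_1 lc_c_rc_7_3 lc_c_rc_13_2 lc_c_rc_25_9 lc_c_rc_11_1 lc_c_rc_25_17) (@D3.rec (fun _ => (Cert rels S Gen.c)) lc_c_rc_23_5 lc_c_Cert_tree lc_c_rc_13_2 lc_c_rc_24_2 lc_c_rc_14_0 lc_c_rc_11_1 lc_c_rc_13_2 lc_c_Cert_tree lc_c_rc_26_2 lc_c_Cert_tree lc_c_rc_11_1 lc_c_rc_13_2 lc_c_rc_11_1 lc_c_Cert_tree lc_c_rc_13_2 lc_c_rc_11_1 lc_c_rc_11_1 lc_c_rc_12_0 lc_c_rc_12_4 lc_c_rc_14_2 lc_c_Cert_tree lc_c_rc_11_1 lc_c_rc_13_2 lc_c_rc_26_4 lc_c_rc_13_2 lc_c_Cert_tree lc_c_rc_13_2 lc_c_rc_22_3 lc_c_rc_13_2 lc_c_rc_25_9 lc_c_Cert_tree lc_c_rc_26_4 lc_c_rc_11_1 lc_c_rc_26_8 lc_c_rc_26_4 lc_c_rc_11_1 lc_c_rc_26_10 lc_c_rc_7_5 lc_c_Cert_tree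 lc_c_rc_26_10 lc_c_rc_11_1 lc_c_rc_22_7 lc_c_rc_25_17 lc_c_rc_2_3 lc_c_rc_11_1 lc_c_rc_14_2 lc_c_Cert_tree lc_c_rc_13_2 lc_c_rc_13_2 lc_c_rc_22_3 lc_c_rc_11_1 lc_c_rc_11_1 lc_c_rc_14_2 lc_c_rc_26_8 lc_c_rc_7_5 lc_c_rc_13_2 lc_c_rc_7_5 lc_c_rc_13_2 lc_c_Cert_tree lc_c_rc_13_2 lc_c_rc_7_3 lc_c_rc_12_4) (@D3.rec (fun _ => (Cert rels S Gen.c)) lc_c_rc_14_2 lc_c_rc_13_2 lc_c_rc_12_14 lc_c_rc_14_2 lc_c_Cert_tree lc_c_Cert_tree lc_c_rc_11_1 lc_c_rc_13_2 lc_c_Cert_tree lc_c_rc_11_1 lc_c_rc_13_2 lc_c_rc_11_1 lc_c_rc_13_2 lc_c_rc_11_1 lc_c_rc_13_2 lc_c_rc_11_1 lc_c_rc_14_2 lc_c_rc_13_2 lc_c_rc_11_1 lc_c_rc_25_9 lc_c_rc_25_13 lc_c_rc_13_0 lc_c_rc_13_2 lc_c_Cert_tree lc_c_rc_11_1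 lc_c_rc_13_2 lc_c_rc_11_1 lc_c_rc_13_2 lc_c_rc_11_1 lc_c_rc_24_6 lc_c_rc_11_1 lc_c_rc_13_2 lc_c_Cert_tree lc_c_Cert_tree lc_c_rc_14_2 lc_c_Cert_tree lc_c_rc_11_1 lc_c_rc_7_5 lc_c_rc_22_3 lc_c_Cert_tree lc_c_Cert_tree lc_c_rc_11_1 lc_c_rc_13_0 lc_c_rc_7_3 lc_c_rc_13_2 lc_c_Cert_tree lc_c_Cert_tree lc_c_rc_26_2 lc_c_rc_14_2 lc_c_rc_11_1 lc_c_rc_26_4 lc_c_rc_23_5 lc_c_rc_22_5 lc_c_rc_24_6 lc_c_rc_22_7 lc_c_rc_13_2 lc_c_rc_24_8 lc_c_rc_24_2 lc_c_Cert_tree lc_c_rc_14_2 lc_c_rc_7_5 lc_c_rc_11_1) (@D3.rec (fun _ => (Cert rels S Gen.c)) lc_c_rc_13_2 lc_c_rc_13_2 lc_c_rc_11_1 lc_c_rc_12_8 lc_c_rc_13_2 lc_c_Cert_tree lc_c_Cert_tree lc_c_Cert_tree lc_c_rc_14_2 lc_c_rc_7_1 lc_c_rc_22_7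 lc_c_rc_13_2 lc_c_rc_22_3 lc_c_rc_12_8 lc_c_rc_13_2 lc_c_rc_13_0 lc_c_rc_24_6 lc_c_rc_2_1 lc_c_Cert_tree lc_c_rc_14_2 lc_c_rc_11_1 lc_c_rc_13_2 lc_c_rc_13_2 lc_c_Cert_tree lc_c_Cert_tree lc_c_rc_2_3 lc_c_rc_11_1 lc_c_rc_11_1 lc_c_rc_11_1 lc_c_rc_11_1 lc_c_rc_26_2 lc_c_rc_11_1 lc_c_rc_13_2 lc_c_rc_22_3 lc_c_rc_22_7 lc_c_rc_26_2 lc_c_rc_26_4 lc_c_rc_11_1 lc_c_rc_13_2 lc_c_rc_24_2 lc_c_rc_11_1 lc_c_rc_13_2 lc_c_Cert_tree lc_c_rc_11_1 lc_c_rc_13_2 lc_c_rc_11_1 lc_c_rc_13_2 lc_c_Cert_tree lc_c_rc_7_5 lc_c_rc_14_2 lc_c_rc_22_7 lc_c_rc_7_3 lc_c_rc_13_2 lc_c_rc_22_7 lc_c_rc_7_3 lc_c_rc_11_1 lc_c_rc_13_2 lc_c_Cert_tree lc_c_rc_24_2 lc_c_rc_22_9 lc_c_rc_13_2 lc_c_Cert_tree) (@D3.rec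 (fun _ => (Cert rels S Gen.c)) lc_c_Cert_tree lc_c_Cert_tree lc_c_rc_14_2 lc_c_rc_7_5 lc_c_rc_11_1 lc_c_rc_26_10 lc_c_rc_11_1 lc_c_rc_11_1 lc_c_rc_11_1 lc_c_rc_2_3 lc_c_rc_13_2 lc_c_rc_13_2 lc_c_rc_13_2 lc_c_Cert_tree lc_c_Cert_tree lc_c_rc_11_1 lc_c_Cert_tree lc_c_rc_13_2 lc_c_rc_26_10 lc_c_Cert_tree lc_c_Cert_tree lc_c_rc_11_1 lc_c_Cert_tree lc_c_rc_11_1 lc_c_rc_13_2 lc_c_rc_7_5 lc_c_rc_7_5 lc_c_rc_11_1 lc_c_rc_13_2 lc_c_rc_2_1 lc_c_rc_13_2 lc_c_rc_26_4 lc_c_rc_13_2 lc_c_Cert_tree lc_c_Cert_tree lc_c_rc_14_2 lc_c_rc_13_2 lc_c_rc_13_2 lc_c_rc_26_8 lc_c_rc_13_0 lc_c_rc_24_4 lc_c_rc_24_8 lc_c_rc_11_1 lc_c_rc_11_1 lc_c_rc_11_1 lc_c_rc_14_2 lc_c_rc_11_1 lc_c_rc_24_8 lc_c_rc_26_8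 lc_c_rc_11_1 lc_c_rc_11_1 lc_c_Cert_tree lc_c_rc_26_8 lc_c_rc_7_5 lc_c_rc_2_3 lc_c_Cert_tree lc_c_Cert_tree lc_c_rc_11_1 lc_c_rc_13_2 lc_c_rc_26_10 lc_c_rc_7_5 lc_c_Cert_tree) (@D3.rec (fun _ => (Cert rels S Gen.c)) lc_c_rc_11_1 lc_c_rc_11_1 lc_c_rc_11_1 lc_c_rc_14_2 lc_c_Cert_tree lc_c_Cert_tree lc_c_Cert_tree lc_c_rc_24_8 lc_c_rc_24_8 lc_c_rc_11_1 lc_c_rc_7_5 lc_c_Cert_tree lc_c_rc_11_1 lc_c_rc_13_2 lc_c_rc_7_3 lc_c_rc_13_2 lc_c_Cert_tree lc_c_Cert_tree lc_c_rc_23_5 lc_c_rc_25_5 lc_c_rc_2_1 lc_c_rc_2_3 lc_c_rc_22_5 lc_c_rc_13_2 lc_c_rc_11_1 lc_c_rc_14_2 lc_c_Cert_tree lc_c_rc_11_1 lc_c_Cert_tree lc_c_rc_13_2 lc_c_Cert_tree lc_c_rc_11_1 lc_c_Cert_tree lc_c_rc_13_2 lc_c_rc_14_2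 lc_c_rc_14_2 lc_c_rc_13_2 lc_c_Cert_tree lc_c_rc_11_1 lc_c_rc_14_0 lc_c_Cert_tree lc_c_rc_11_1 lc_c_rc_13_2 lc_c_rc_2_1 lc_c_Cert_tree lc_c_rc_11_1 lc_c_rc_13_2 lc_c_rc_26_4 lc_c_rc_11_1 lc_c_rc_14_2 lc_c_Cert_tree lc_c_rc_11_1 lc_c_rc_2_3 lc_c_rc_2_3 lc_c_rc_2_3 lc_c_rc_11_1 lc_c_rc_23_5 lc_c_rc_14_2 lc_c_rc_2_3 lc_c_rc_22_5 lc_c_rc_13_2 lc_c_rc_13_2) (@D3.rec (fun _ => (Cert rels S Gen.c)) lc_c_rc_13_0 lc_c_rc_13_2 lc_c_Cert_tree lc_c_rc_11_1 lc_c_rc_11_1 lc_c_rc_24_6 lc_c_rc_11_1 lc_c_rc_13_2 lc_c_Cert_tree lc_c_rc_13_2 lc_c_Cert_tree lc_c_rc_2_3 lc_c_rc_11_1 lc_c_rc_7_5 lc_c_rc_11_1 lc_c_rc_13_2 lc_c_rc_11_1 lc_c_rc_26_8 lc_c_rc_11_1 lc_c_Cert_tree lc_c_rc_11_1 lc_c_rc_23_0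 lc_c_rc_23_0 lc_c_rc_14_2 lc_c_rc_13_2 lc_c_rc_13_2 lc_c_rc_13_0 lc_c_rc_11_1 lc_c_Cert_tree lc_c_rc_26_4 lc_c_rc_26_4 lc_c_rc_11_1 lc_c_Cert_tree lc_c_rc_13_2 lc_c_rc_7_3 lc_c_rc_11_1 lc_c_Cert_tree lc_c_rc_13_2 lc_c_rc_24_8 lc_c_rc_7_1 lc_c_rc_11_1 lc_c_rc_23_5 lc_c_rc_11_1 lc_c_rc_14_2 lc_c_rc_11_1 lc_c_rc_11_1 lc_c_rc_11_1 lc_c_Cert_tree lc_c_rc_13_2 lc_c_rc_11_1 lc_c_rc_13_2 lc_c_rc_11_1 lc_c_rc_11_1 lc_c_rc_13_2 lc_c_rc_12_4 lc_c_rc_7_3 lc_c_rc_13_2 lc_c_Cert_tree lc_c_rc_22_3 lc_c_rc_11_1 lc_c_rc_13_2 lc_c_Cert_tree) (@D3.rec (fun _ => (Cert rels S Gen.c)) lc_c_rc_13_2 lc_c_rc_11_1 lc_c_rc_13_2 lc_c_rc_11_1 lc_c_rc_13_2 lc_c_rc_13_2 lc_c_rc_11_1 lc_c_rc_11_1 lc_c_rc_13_2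 lc_c_rc_26_2 lc_c_rc_11_1 lc_c_Cert_tree lc_c_rc_13_2 lc_c_rc_26_8 lc_c_rc_7_5 lc_c_rc_7_3 lc_c_rc_13_2 lc_c_rc_26_4 lc_c_Cert_tree lc_c_rc_13_2 lc_c_Cert_tree lc_c_rc_13_2 lc_c_rc_24_2 lc_c_rc_14_2 lc_c_rc_26_4 lc_c_rc_13_2 lc_c_rc_7_3 lc_c_rc_14_2 lc_c_rc_26_4 lc_c_Cert_tree lc_c_Cert_tree lc_c_rc_13_0 lc_c_Cert_tree lc_c_Cert_tree lc_c_Cert_tree lc_c_rc_11_1 lc_c_rc_13_2 lc_c_rc_11_1 lc_c_rc_13_2 lc_c_rc_11_1 lc_c_rc_13_2 lc_c_rc_11_1 lc_c_rc_13_2 lc_c_rc_11_1 lc_c_rc_11_1 lc_c_rc_7_3 lc_c_Cert_tree lc_c_rc_14_2 lc_c_rc_13_2 lc_c_rc_11_1 lc_c_Cert_tree lc_c_Cert_tree lc_c_rc_13_2 lc_c_Cert_tree lc_c_Cert_tree lc_c_rc_11_1 lc_c_rc_13_2 lc_c_rc_11_1 lc_c_rc_11_1 lc_c_Cert_tree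 lc_c_rc_11_1 lc_c_rc_13_2) (@D3.rec (fun _ => (Cert rels S Gen.c)) lc_c_rc_2_3 lc_c_rc_22_5 lc_c_rc_7_3 lc_c_rc_13_2 lc_c_Cert_tree lc_c_Cert_tree lc_c_rc_14_2 lc_c_rc_25_17 lc_c_rc_11_1 lc_c_rc_26_4 lc_c_rc_2_3 lc_c_rc_11_1 lc_c_rc_2_3 lc_c_rc_23_5 lc_c_rc_23_0 lc_c_rc_11_1 lc_c_rc_13_2 lc_c_rc_26_10 lc_c_Cert_tree lc_c_rc_7_5 lc_c_rc_7_3 lc_c_rc_13_2 lc_c_Cert_tree lc_c_Cert_tree lc_c_rc_13_2 lc_c_rc_14_2 lc_c_rc_11_1 lc_c_rc_13_0 lc_c_rc_11_1 lc_c_rc_22_5 lc_c_rc_23_5 lc_c_rc_7_1 lc_c_rc_13_2 lc_c_Cert_tree lc_c_Cert_tree lc_c_rc_26_8 lc_c_rc_14_2 lc_c_rc_23_0 lc_c_rc_11_1 lc_c_rc_13_2 lc_c_rc_7_1 lc_c_rc_13_2 lc_c_Cert_tree lc_c_Cert_tree lc_c_rc_14_2 lc_c_Cert_tree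 lc_c_rc_13_2 lc_c_Cert_tree lc_c_rc_13_2 lc_c_Cert_tree lc_c_Cert_tree lc_c_rc_2_3 lc_c_Cert_tree lc_c_rc_7_3 lc_c_rc_13_2 lc_c_rc_13_2 lc_c_rc_7_5 lc_c_Cert_tree lc_c_rc_11_1 lc_c_rc_11_1 lc_c_rc_11_1 lc_c_rc_11_1) (@D3.rec (fun _ => (Cert rels S Gen.c)) lc_c_Cert_tree lc_c_rc_11_1 lc_c_rc_13_2 lc_c_rc_26_10 lc_c_Cert_tree lc_c_rc_14_2 lc_c_Cert_tree lc_c_rc_11_1 lc_c_rc_13_2 lc_c_rc_7_5 lc_c_rc_11_1 lc_c_rc_23_0 lc_c_Cert_tree lc_c_rc_11_1 lc_c_rc_13_2 lc_c_rc_11_1 lc_c_rc_13_2 lc_c_rc_7_3 lc_c_rc_13_2 lc_c_rc_23_5 lc_c_Cert_tree lc_c_rc_13_2 lc_c_rc_14_2 lc_c_rc_7_5 lc_c_rc_26_10 lc_c_rc_2_3 lc_c_Cert_tree lc_c_rc_13_2 lc_c_Cert_tree lc_c_rc_13_2 lc_c_rc_13_0 lc_c_rc_11_1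 lc_c_rc_13_2 lc_c_rc_2_3 lc_c_rc_11_1 lc_c_rc_26_2 lc_c_rc_13_2 lc_c_Cert_tree lc_c_rc_7_5 lc_c_rc_25_17 lc_c_rc_14_2 lc_c_rc_14_0 lc_c_rc_11_1 lc_c_rc_2_3 lc_c_rc_14_0 lc_c_rc_23_5 lc_c_rc_13_2 lc_c_Cert_tree lc_c_rc_13_2 lc_c_rc_13_2 lc_c_rc_11_1 lc_c_rc_13_2 lc_c_Cert_tree lc_c_rc_11_1 lc_c_Cert_tree lc_c_rc_11_1 lc_c_rc_13_2 lc_c_Cert_tree lc_c_rc_13_2 lc_c_Cert_tree lc_c_Cert_tree lc_c_Cert_tree) (@D3.rec (fun _ => (Cert rels S Gen.c)) lc_c_rc_14_2 lc_c_rc_14_0 lc_c_rc_11_1 lc_c_rc_7_3 lc_c_rc_11_1 lc_c_rc_13_0 lc_c_rc_24_2 lc_c_rc_13_2 lc_c_rc_26_10 lc_c_rc_11_1 lc_c_Cert_tree lc_c_rc_13_2 lc_c_Cert_tree lc_c_rc_11_1 lc_c_Cert_tree lc_c_rc_13_2 lc_c_Cert_tree lc_c_rc_24_2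 lc_c_rc_11_1 lc_c_rc_13_2 lc_c_Cert_tree lc_c_rc_13_2 lc_c_Cert_tree lc_c_rc_26_2 lc_c_rc_13_2 lc_c_rc_11_1 lc_c_rc_11_1 lc_c_rc_13_2 lc_c_rc_26_2 lc_c_rc_2_3 lc_c_rc_11_1 lc_c_rc_14_2 lc_c_rc_26_4 lc_c_rc_26_2 lc_c_rc_13_2 lc_c_rc_7_1 lc_c_rc_22_7 lc_c_rc_14_2 lc_c_rc_13_2 lc_c_rc_26_4 lc_c_rc_26_4 lc_c_rc_11_1 lc_c_rc_13_2 lc_c_rc_2_3 lc_c_rc_26_2 lc_c_Cert_tree lc_c_Cert_tree lc_c_rc_11_1 lc_c_rc_23_0 lc_c_rc_11_1 lc_c_rc_13_2 lc_c_rc_11_1 lc_c_rc_24_4 lc_c_rc_11_1 lc_c_rc_13_2 lc_c_rc_24_4 lc_c_rc_11_1 lc_c_rc_7_3 lc_c_rc_22_7 lc_c_rc_14_2 lc_c_rc_11_1 lc_c_rc_25_9) (@D3.rec (fun _ => (Cert rels S Gen.c)) lc_c_rc_23_5 lc_c_rc_23_5 lc_c_rc_26_2 lc_c_rc_2_1 lc_c_rc_11_1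 lc_c_rc_23_0 lc_c_Cert_tree lc_c_Cert_tree lc_c_rc_12_2 lc_c_rc_13_2 lc_c_rc_14_2 lc_c_rc_7_3 lc_c_rc_11_1 lc_c_rc_2_3 lc_c_Cert_tree lc_c_Cert_tree lc_c_rc_11_1 lc_c_rc_26_8 lc_c_rc_11_1 lc_c_Cert_tree lc_c_rc_7_5 lc_c_rc_26_4 lc_c_rc_11_1 lc_c_rc_14_2 lc_c_Cert_tree lc_c_rc_11_1 lc_c_rc_13_2 lc_c_rc_7_1 lc_c_rc_13_2 lc_c_Cert_tree lc_c_Cert_tree lc_c_rc_11_1 lc_c_rc_14_2 lc_c_Cert_tree lc_c_rc_11_1 lc_c_rc_13_2 lc_c_rc_7_1 lc_c_rc_13_2 lc_c_Cert_tree lc_c_Cert_tree lc_c_rc_14_2 lc_c_rc_7_3 lc_c_rc_13_2 lc_c_Cert_tree lc_c_rc_13_2 lc_c_Cert_tree lc_c_Cert_tree lc_c_rc_2_3 lc_c_rc_25_17 lc_c_rc_22_7 lc_c_rc_2_3 lc_c_rc_11_1 lc_c_rc_13_2 lc_c_rc_13_0 lc_c_rc_11_1 lc_c_Cert_tree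 lc_c_rc_25_17 lc_c_Cert_tree lc_c_rc_13_2 lc_c_rc_14_2 lc_c_rc_7_5 lc_c_Cert_tree) (@D3.rec (fun _ => (Cert rels S Gen.c)) lc_c_Cert_tree lc_c_rc_2_3 lc_c_rc_13_2 lc_c_Cert_tree lc_c_rc_11_1 lc_c_rc_2_3 lc_c_rc_2_3 lc_c_Cert_tree lc_c_rc_14_2 lc_c_rc_26_10 lc_c_rc_2_1 lc_c_rc_14_2 lc_c_rc_7_3 lc_c_Cert_tree lc_c_rc_7_3 lc_c_rc_13_2 lc_c_Cert_tree lc_c_Cert_tree lc_c_Cert_tree lc_c_rc_14_2 lc_c_rc_11_1 lc_c_rc_11_1 lc_c_rc_11_1 lc_c_rc_13_2 lc_c_rc_11_1 lc_c_rc_7_3 lc_c_Cert_tree lc_c_rc_11_1 lc_c_rc_24_8 lc_c_rc_7_3 lc_c_rc_22_3 lc_c_rc_13_2 lc_c_rc_11_1 lc_c_rc_11_1 lc_c_rc_7_3 lc_c_Cert_tree lc_c_Cert_tree lc_c_rc_2_3 lc_c_Cert_tree lc_c_rc_13_2 lc_c_rc_26_2 lc_c_rc_2_3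 lc_c_rc_14_2 lc_c_rc_11_1 lc_c_rc_13_2 lc_c_rc_13_2 lc_c_rc_13_2 lc_c_rc_24_2 lc_c_rc_14_2 lc_c_rc_11_1 lc_c_rc_11_1 lc_c_rc_26_2 lc_c_rc_7_5 lc_c_Cert_tree lc_c_rc_13_2 lc_c_rc_11_1 lc_c_rc_25_13 lc_c_Cert_tree lc_c_Cert_tree lc_c_rc_11_1 lc_c_rc_26_2 lc_c_rc_11_1) (@D3.rec (fun _ => (Cert rels S Gen.c)) lc_c_rc_13_2 lc_c_rc_24_8 lc_c_rc_22_9 lc_c_Cert_tree lc_c_rc_24_4 lc_c_rc_7_5 lc_c_rc_23_0 lc_c_rc_13_2 lc_c_rc_26_2 lc_c_rc_22_5 lc_c_rc_13_2 lc_c_rc_12_0 lc_c_rc_24_8 lc_c_rc_26_8 lc_c_rc_2_1 lc_c_Cert_tree lc_c_rc_7_3 lc_c_rc_11_1 lc_c_rc_13_2 lc_c_rc_26_4 lc_c_rc_11_1 lc_c_rc_2_1 lc_c_Cert_tree lc_c_rc_11_1 lc_c_rc_13_2 lc_c_Cert_tree lc_c_rc_11_1 lc_c_rc_2_3 lc_c_Cert_tree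 lc_c_rc_13_2 lc_c_rc_13_2 lc_c_rc_7_3 lc_c_rc_12_2 lc_c_rc_26_2 lc_c_rc_22_3 lc_c_rc_26_10 lc_c_rc_13_2 lc_c_rc_22_9 lc_c_rc_13_2 lc_c_rc_24_6 lc_c_rc_11_1 lc_c_rc_11_1 lc_c_rc_7_5 lc_c_rc_7_5 lc_c_rc_24_2 lc_c_rc_11_1 lc_c_rc_24_2 lc_c_rc_13_2 lc_c_rc_13_2 lc_c_rc_14_2 lc_c_rc_13_2 lc_c_rc_24_2 lc_c_rc_13_2 lc_c_rc_13_2 lc_c_rc_13_2 lc_c_Cert_tree lc_c_rc_11_1 lc_c_rc_26_2 lc_c_rc_24_8 lc_c_rc_11_1 lc_c_rc_13_0 lc_c_rc_2_3) (@D3.rec (fun _ => (Cert rels S Gen.c)) lc_c_rc_13_2 lc_c_Cert_tree lc_c_rc_11_1 lc_c_rc_26_4 lc_c_Cert_tree lc_c_Cert_tree lc_c_rc_14_2 lc_c_rc_24_8 lc_c_rc_23_5 lc_c_Cert_tree lc_c_rc_11_1 lc_c_rc_26_2 lc_c_rc_11_1 lc_c_rc_11_1 lc_c_rc_13_2 lc_c_rc_11_1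 lc_c_rc_13_2 lc_c_rc_2_3 lc_c_rc_11_1 lc_c_rc_14_2 lc_c_rc_11_1 lc_c_rc_11_1 lc_c_rc_11_1 lc_c_rc_26_8 lc_c_rc_11_1 lc_c_rc_2_3 lc_c_rc_7_3 lc_c_rc_13_2 lc_c_rc_13_2 lc_c_Cert_tree lc_c_rc_26_8 lc_c_rc_26_4 lc_c_Cert_tree lc_c_Cert_tree lc_c_Cert_tree lc_c_rc_7_3 lc_c_rc_26_4 lc_c_rc_11_1 lc_c_Cert_tree lc_c_rc_13_2 lc_c_rc_11_1 lc_c_Cert_tree lc_c_Cert_tree lc_c_rc_11_1 lc_c_rc_14_2 lc_c_rc_26_4 lc_c_rc_11_1 lc_c_Cert_tree lc_c_rc_13_2 lc_c_rc_7_5 lc_c_rc_7_1 lc_c_Cert_tree lc_c_rc_13_0 lc_c_rc_11_1 lc_c_rc_22_3 lc_c_rc_11_1 lc_c_rc_11_1 lc_c_Cert_tree lc_c_rc_11_1 lc_c_rc_13_2 lc_c_rc_26_2 lc_c_rc_11_1) (@D3.rec (fun _ => (Cert rels S Gen.c)) lc_c_rc_13_2 lc_c_Cert_tree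 lc_c_rc_11_1 lc_c_rc_13_2 lc_c_rc_12_4 lc_c_rc_11_1 lc_c_rc_7_3 lc_c_rc_13_2 lc_c_rc_11_1 lc_c_rc_13_2 lc_c_rc_22_5 lc_c_rc_11_1 lc_c_rc_13_2 lc_c_rc_11_1 lc_c_rc_13_2 lc_c_Cert_tree lc_c_rc_11_1 lc_c_rc_7_3 lc_c_rc_13_2 lc_c_rc_22_9 lc_c_rc_11_1 lc_c_rc_11_1 lc_c_Cert_tree lc_c_rc_13_2 lc_c_rc_22_7 lc_c_rc_23_5 lc_c_rc_26_8 lc_c_rc_24_4 lc_c_rc_7_1 lc_c_rc_26_2 lc_c_rc_12_8 lc_c_rc_11_1 lc_c_rc_26_4 lc_c_rc_11_1 lc_c_rc_7_3 lc_c_rc_24_6 lc_c_rc_13_0 lc_c_rc_13_2 lc_c_rc_14_2 lc_c_rc_13_2 lc_c_rc_11_1 lc_c_Cert_tree lc_c_rc_14_2 lc_c_rc_26_2 lc_c_rc_11_1 lc_c_rc_23_0 lc_c_rc_13_2 lc_c_Cert_tree lc_c_rc_11_1 lc_c_Cert_tree lc_c_rc_13_2 lc_c_Cert_tree lc_c_Cert_tree lc_c_rc_11_1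 lc_c_rc_14_2 lc_c_Cert_tree lc_c_rc_26_10 lc_c_Cert_tree lc_c_rc_13_2 lc_c_rc_11_1 lc_c_rc_13_2 lc_c_rc_11_1) (@D3.rec (fun _ => (Cert rels S Gen.c)) lc_c_rc_11_1 lc_c_Cert_tree lc_c_rc_11_1 lc_c_rc_23_0 lc_c_Cert_tree lc_c_rc_11_1 lc_c_rc_22_5 lc_c_Cert_tree lc_c_rc_11_1 lc_c_rc_13_2 lc_c_rc_7_3 lc_c_rc_13_2 lc_c_rc_13_2 lc_c_rc_11_1 lc_c_rc_26_10 lc_c_rc_14_2 lc_c_rc_13_2 lc_c_Cert_tree lc_c_rc_11_1 lc_c_rc_13_2 lc_c_rc_13_2 lc_c_Cert_tree lc_c_Cert_tree lc_c_rc_14_2 lc_c_Cert_tree lc_c_rc_13_2 lc_c_Cert_tree lc_c_rc_11_1 lc_c_rc_14_2 lc_c_Cert_tree lc_c_Cert_tree lc_c_rc_7_3 lc_c_rc_11_1 lc_c_Cert_tree lc_c_rc_13_2 lc_c_Cert_tree lc_c_Cert_tree lc_c_rc_11_1 lc_c_rc_14_2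 lc_c_rc_13_0 lc_c_rc_11_1 lc_c_rc_24_2 lc_c_rc_26_4 lc_c_rc_11_1 lc_c_rc_13_2 lc_c_Cert_tree lc_c_rc_24_2 lc_c_Cert_tree lc_c_rc_13_2 lc_c_rc_11_1 lc_c_rc_13_2 lc_c_Cert_tree lc_c_rc_11_1 lc_c_rc_13_2 lc_c_Cert_tree lc_c_rc_11_1 lc_c_rc_13_2 lc_c_rc_7_3 lc_c_rc_14_2 lc_c_rc_13_2 lc_c_Cert_tree lc_c_rc_11_1) (@D3.rec (fun _ => (Cert rels S Gen.c)) lc_c_rc_13_2 lc_c_rc_13_2 lc_c_rc_7_3 lc_c_Cert_tree lc_c_rc_13_2 lc_c_rc_13_2 lc_c_rc_14_2 lc_c_rc_13_0 lc_c_rc_11_1 lc_c_rc_2_3 lc_c_Cert_tree lc_c_rc_11_1 lc_c_rc_13_2 lc_c_rc_11_1 lc_c_Cert_tree lc_c_Cert_tree lc_c_Cert_tree lc_c_rc_14_2 lc_c_rc_11_1 lc_c_rc_25_9 lc_c_rc_13_2 lc_c_rc_26_4 lc_c_rc_11_1 lc_c_Cert_tree lc_c_rc_11_1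 lc_c_Cert_tree lc_c_Cert_tree lc_c_rc_11_1 lc_c_rc_26_8 lc_c_rc_22_9 lc_c_rc_13_2 lc_c_rc_22_3 lc_c_rc_23_5 lc_c_rc_24_8 lc_c_rc_26_10 lc_c_rc_11_1 lc_c_rc_14_2 lc_c_Cert_tree lc_c_rc_13_2 lc_c_rc_11_1 lc_c_rc_7_1 lc_c_rc_13_2 lc_c_Cert_tree lc_c_rc_13_2 lc_c_rc_14_2 lc_c_Cert_tree lc_c_rc_14_2 lc_c_rc_26_4 lc_c_rc_13_2 lc_c_rc_13_2 lc_c_rc_11_1 lc_c_rc_11_1 lc_c_Cert_tree lc_c_rc_13_0 lc_c_rc_26_4 lc_c_rc_23_5 lc_c_rc_13_2 lc_c_rc_23_5 lc_c_rc_24_8 lc_c_rc_24_2 lc_c_rc_11_1 lc_c_rc_22_3) (@D3.rec (fun _ => (Cert rels S Gen.c)) lc_c_Cert_tree lc_c_rc_7_1 lc_c_Cert_tree lc_c_rc_23_5 lc_c_rc_26_10 lc_c_rc_11_1 lc_c_rc_11_1 lc_c_rc_14_2 lc_c_Cert_tree lc_c_rc_13_2 lc_c_rc_11_1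 lc_c_rc_11_1 lc_c_rc_7_3 lc_c_rc_14_2 lc_c_rc_13_2 lc_c_rc_11_1 lc_c_rc_11_1 lc_c_rc_11_1 lc_c_rc_26_8 lc_c_rc_13_2 lc_c_rc_23_0 lc_c_rc_13_2 lc_c_rc_13_0 lc_c_rc_11_1 lc_c_Cert_tree lc_c_rc_14_2 lc_c_rc_24_6 lc_c_rc_24_6 lc_c_rc_26_8 lc_c_Cert_tree lc_c_rc_13_2 lc_c_rc_26_2 lc_c_rc_13_0 lc_c_rc_11_1 lc_c_rc_26_4 lc_c_rc_11_1 lc_c_rc_11_1 lc_c_rc_12_2 lc_c_rc_13_2 lc_c_Cert_tree lc_c_Cert_tree lc_c_rc_14_2 lc_c_rc_13_2 lc_c_rc_11_1 lc_c_rc_23_5 lc_c_rc_2_3 lc_c_rc_24_4 lc_c_rc_11_1 lc_c_rc_11_1 lc_c_rc_13_2 lc_c_rc_2_3 lc_c_rc_13_2 lc_c_Cert_tree lc_c_Cert_tree lc_c_rc_11_1 lc_c_rc_13_2 lc_c_rc_23_0 lc_c_Cert_tree lc_c_rc_13_0 lc_c_rc_2_3 lc_c_rc_2_1 lc_c_rc_11_1) (@D3.rec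 (fun _ => (Cert rels S Gen.c)) lc_c_Cert_tree lc_c_rc_13_2 lc_c_rc_24_2 lc_c_rc_11_1 lc_c_rc_13_2 lc_c_rc_23_5 lc_c_Cert_tree lc_c_rc_14_2 lc_c_rc_11_1 lc_c_rc_11_1 lc_c_rc_13_2 lc_c_rc_14_2 lc_c_rc_13_0 lc_c_rc_11_1 lc_c_rc_2_3 lc_c_rc_26_2 lc_c_rc_24_8 lc_c_rc_24_6 lc_c_rc_7_3 lc_c_rc_22_9 lc_c_rc_14_2 lc_c_rc_13_2 lc_c_rc_11_1 lc_c_rc_14_2 lc_c_Cert_tree lc_c_rc_23_0 lc_c_rc_11_1 lc_c_Cert_tree lc_c_Cert_tree lc_c_rc_7_3 lc_c_rc_11_1 lc_c_rc_24_4 lc_c_rc_11_1 lc_c_rc_23_5 lc_c_rc_22_5 lc_c_rc_13_2 lc_c_rc_11_1 lc_c_Cert_tree lc_c_rc_12_0 lc_c_Cert_tree lc_c_rc_13_2 lc_c_rc_11_1 lc_c_rc_14_0 lc_c_Cert_tree lc_c_rc_11_1 lc_c_Cert_tree lc_c_rc_7_3 lc_c_rc_13_2 lc_c_Cert_tree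 lc_c_Cert_tree lc_c_Cert_tree lc_c_rc_14_2 lc_c_rc_11_1 lc_c_Cert_tree lc_c_rc_11_1 lc_c_rc_13_2 lc_c_rc_24_6 lc_c_rc_24_4 lc_c_rc_22_5 lc_c_rc_13_2 lc_c_Cert_tree lc_c_Cert_tree)
def ce_c_14 : D2 → D3 → (Cert rels S Gen.c) := @D2.rec (fun _ => D3 → (Cert rels S Gen.c)) (@D3.rec (fun _ => (Cert rels S Gen.c)) lc_c_Cert_tree lc_c_rc_14_2 lc_c_rc_24_2 lc_c_rc_11_1 lc_c_rc_13_2 lc_c_rc_11_1 lc_c_rc_13_2 lc_c_rc_24_6 lc_c_rc_11_1 lc_c_rc_14_2 lc_c_rc_11_1 lc_c_rc_13_2 lc_c_Cert_tree lc_c_rc_13_2 lc_c_Cert_tree lc_c_Cert_tree lc_c_rc_2_3 lc_c_Cert_tree lc_c_rc_7_3 lc_c_rc_13_2 lc_c_rc_13_2 lc_c_rc_11_1 lc_c_Cert_tree lc_c_rc_11_1 lc_c_rc_11_1 lc_c_rc_2_1 lc_c_Cert_tree lc_c_rc_11_1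 lc_c_rc_13_2 lc_c_rc_14_2 lc_c_rc_13_2 lc_c_rc_23_5 lc_c_rc_11_1 lc_c_rc_13_2 lc_c_rc_23_5 lc_c_rc_11_1 lc_c_Cert_tree lc_c_Cert_tree lc_c_rc_11_1 lc_c_rc_13_2 lc_c_rc_22_3 lc_c_rc_11_1 lc_c_rc_13_2 lc_c_rc_11_1 lc_c_rc_13_2 lc_c_rc_26_10 lc_c_rc_24_8 lc_c_rc_26_4 lc_c_rc_14_2 lc_c_rc_11_1 lc_c_rc_11_1 lc_c_rc_2_3 lc_c_rc_7_3 lc_c_rc_13_2 lc_c_rc_7_1 lc_c_rc_26_2 lc_c_rc_13_2 lc_c_rc_11_1 lc_c_rc_13_2 lc_c_rc_7_3 lc_c_rc_12_0 lc_c_rc_24_8) (@D3.rec (fun _ => (Cert rels S Gen.c)) lc_c_Cert_tree lc_c_rc_26_2 lc_c_rc_13_2 lc_c_Cert_tree lc_c_Cert_tree lc_c_rc_14_2 lc_c_rc_14_0 lc_c_Cert_tree lc_c_rc_13_2 lc_c_rc_2_3 lc_c_rc_11_1 lc_c_rc_11_1 lc_c_rc_13_2 lc_c_rc_11_1 lc_c_rc_11_1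 lc_c_rc_7_3 lc_c_rc_13_2 lc_c_rc_23_0 lc_c_rc_11_1 lc_c_rc_7_3 lc_c_rc_26_4 lc_c_rc_13_0 lc_c_rc_7_5 lc_c_rc_11_1 lc_c_rc_26_4 lc_c_Cert_tree lc_c_rc_11_1 lc_c_rc_7_3 lc_c_rc_13_2 lc_c_Cert_tree lc_c_Cert_tree lc_c_Cert_tree lc_c_rc_14_2 lc_c_rc_11_1 lc_c_rc_11_1 lc_c_rc_13_2 lc_c_rc_7_5 lc_c_rc_13_2 lc_c_rc_13_0 lc_c_rc_7_1 lc_c_rc_2_3 lc_c_rc_22_3 lc_c_rc_13_2 lc_c_rc_25_5 lc_c_rc_13_2 lc_c_rc_13_2 lc_c_rc_11_1 lc_c_rc_11_1 lc_c_rc_13_0 lc_c_rc_11_1 lc_c_rc_13_2 lc_c_Cert_tree lc_c_rc_13_2 lc_c_Cert_tree lc_c_rc_13_2 lc_c_rc_26_2 lc_c_rc_13_2 lc_c_rc_13_0 lc_c_rc_14_2 lc_c_Cert_tree lc_c_rc_14_2 lc_c_Cert_tree) (@D3.rec (fun _ => (Cert rels S Gen.c)) lc_c_rc_13_2 lc_c_rc_26_4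 lc_c_Cert_tree lc_c_Cert_tree lc_c_Cert_tree lc_c_rc_11_1 lc_c_rc_14_0 lc_c_rc_7_3 lc_c_rc_23_0 lc_c_rc_11_1 lc_c_rc_24_4 lc_c_rc_22_7 lc_c_rc_7_5 lc_c_rc_23_0 lc_c_rc_22_3 lc_c_rc_14_2 lc_c_rc_13_2 lc_c_rc_23_5 lc_c_Cert_tree lc_c_rc_22_3 lc_c_rc_13_2 lc_c_rc_24_2 lc_c_rc_11_1 lc_c_rc_24_2 lc_c_rc_11_1 lc_c_rc_11_1 lc_c_rc_24_4 lc_c_rc_11_1 lc_c_rc_7_5 lc_c_rc_2_3 lc_c_rc_11_1 lc_c_rc_13_2 lc_c_rc_11_1 lc_c_rc_22_5 lc_c_rc_7_3 lc_c_Cert_tree lc_c_rc_11_1 lc_c_rc_2_3 lc_c_rc_23_0 lc_c_rc_11_1 lc_c_rc_13_2 lc_c_rc_26_2 lc_c_rc_13_2 lc_c_rc_13_2 lc_c_rc_7_3 lc_c_rc_7_3 lc_c_rc_23_0 lc_c_rc_7_3 lc_c_Cert_tree lc_c_Cert_tree lc_c_rc_2_3 lc_c_rc_26_2 lc_c_rc_13_2 lc_c_rc_11_1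 lc_c_rc_7_5 lc_c_rc_14_2 lc_c_rc_13_2 lc_c_rc_11_1 lc_c_rc_2_1 lc_c_rc_13_2 lc_c_rc_7_5 lc_c_rc_22_5) (@D3.rec (fun _ => (Cert rels S Gen.c)) lc_c_rc_13_2 lc_c_rc_7_5 lc_c_rc_23_5 lc_c_rc_13_2 lc_c_rc_22_3 lc_c_rc_24_8 lc_c_Cert_tree lc_c_rc_13_2 lc_c_rc_11_1 lc_c_rc_13_2 lc_c_Cert_tree lc_c_rc_26_10 lc_c_Cert_tree lc_c_rc_11_1 lc_c_rc_13_2 lc_c_rc_26_4 lc_c_rc_11_1 lc_c_rc_13_2 lc_c_Cert_tree lc_c_rc_11_1 lc_c_rc_22_7 lc_c_rc_14_0 lc_c_rc_22_3 lc_c_rc_7_5 lc_c_rc_26_10 lc_c_rc_2_3 lc_c_Cert_tree lc_c_rc_11_1 lc_c_rc_13_2 lc_c_rc_7_3 lc_c_rc_13_2 lc_c_rc_11_1 lc_c_rc_13_2 lc_c_Cert_tree lc_c_rc_13_2 lc_c_rc_11_1 lc_c_rc_2_3 lc_c_rc_13_2 lc_c_Cert_tree lc_c_rc_11_1 lc_c_rc_11_1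 lc_c_rc_13_0 lc_c_rc_13_2 lc_c_rc_11_1 lc_c_rc_11_1 lc_c_Cert_tree lc_c_Cert_tree lc_c_rc_11_1 lc_c_rc_26_8 lc_c_rc_7_3 lc_c_rc_13_2 lc_c_rc_26_4 lc_c_rc_26_2 lc_c_rc_14_2 lc_c_rc_26_4 lc_c_rc_13_2 lc_c_rc_13_2 lc_c_Cert_tree lc_c_rc_11_1 lc_c_rc_26_10 lc_c_Cert_tree lc_c_rc_14_2) (@D3.rec (fun _ => (Cert rels S Gen.c)) lc_c_rc_11_1 lc_c_Cert_tree lc_c_rc_13_2 lc_c_rc_26_4 lc_c_rc_11_1 lc_c_Cert_tree lc_c_rc_13_2 lc_c_Cert_tree lc_c_Cert_tree lc_c_rc_11_1 lc_c_rc_26_2 lc_c_rc_11_1 lc_c_rc_7_5 lc_c_rc_23_0 lc_c_rc_2_3 lc_c_rc_11_1 lc_c_Cert_tree lc_c_rc_23_5 lc_c_rc_26_4 lc_c_rc_26_2 lc_c_rc_14_2 lc_c_rc_13_2 lc_c_rc_11_1 lc_c_rc_7_3 lc_c_rc_22_3 lc_c_rc_13_2 lc_c_rc_26_4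 lc_c_rc_26_10 lc_c_rc_11_1 lc_c_Cert_tree lc_c_rc_11_1 lc_c_rc_7_1 lc_c_Cert_tree lc_c_rc_14_2 lc_c_rc_23_0 lc_c_rc_23_5 lc_c_rc_2_1 lc_c_Cert_tree lc_c_rc_13_2 lc_c_rc_13_2 lc_c_rc_11_1 lc_c_rc_26_8 lc_c_rc_14_2 lc_c_rc_14_2 lc_c_rc_13_0 lc_c_rc_2_1 lc_c_rc_14_2 lc_c_rc_13_2 lc_c_rc_11_1 lc_c_rc_14_2 lc_c_Cert_tree lc_c_rc_13_2 lc_c_rc_11_1 lc_c_rc_13_2 lc_c_rc_2_3 lc_c_rc_13_2 lc_c_rc_2_3 lc_c_rc_14_2 lc_c_rc_26_2 lc_c_rc_7_3 lc_c_rc_13_2 lc_c_rc_11_1) (@D3.rec (fun _ => (Cert rels S Gen.c)) lc_c_rc_11_1 lc_c_rc_13_2 lc_c_rc_13_2 lc_c_rc_13_2 lc_c_rc_7_3 lc_c_rc_11_1 lc_c_Cert_tree lc_c_rc_11_1 lc_c_rc_25_17 lc_c_rc_13_2 lc_c_rc_2_3 lc_c_rc_13_0 lc_c_rc_14_2 lc_c_rc_22_9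 lc_c_rc_24_8 lc_c_rc_22_9 lc_c_rc_14_2 lc_c_Cert_tree lc_c_rc_13_2 lc_c_rc_11_1 lc_c_Cert_tree lc_c_rc_11_1 lc_c_Cert_tree lc_c_Cert_tree lc_c_rc_11_1 lc_c_rc_14_2 lc_c_rc_11_1 lc_c_rc_25_9 lc_c_Cert_tree lc_c_Cert_tree lc_c_rc_23_0 lc_c_rc_26_10 lc_c_rc_24_8 lc_c_rc_11_1 lc_c_rc_14_2 lc_c_rc_26_8 lc_c_rc_26_10 lc_c_rc_24_2 lc_c_rc_11_1 lc_c_rc_11_1 lc_c_rc_13_2 lc_c_Cert_tree lc_c_rc_13_2 lc_c_rc_11_1 lc_c_rc_13_2 lc_c_rc_11_1 lc_c_rc_26_2 lc_c_rc_13_2 lc_c_Cert_tree lc_c_rc_22_9 lc_c_rc_11_1 lc_c_rc_11_1 lc_c_rc_7_3 lc_c_rc_22_7 lc_c_rc_14_2 lc_c_rc_13_2 lc_c_Cert_tree lc_c_rc_11_1 lc_c_rc_13_2 lc_c_rc_7_3 lc_c_rc_11_1 lc_c_rc_22_9) (@D3.rec (fun _ => (Cert rels S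 Gen.c)) lc_c_rc_24_8 lc_c_rc_11_1 lc_c_Cert_tree lc_c_rc_7_5 lc_c_Cert_tree lc_c_Cert_tree lc_c_Cert_tree lc_c_rc_14_2 lc_c_rc_13_0 lc_c_Cert_tree lc_c_rc_11_1 lc_c_rc_7_5 lc_c_rc_24_2 lc_c_rc_13_2 lc_c_rc_7_3 lc_c_rc_14_2 lc_c_rc_13_2 lc_c_rc_24_8 lc_c_rc_26_10 lc_c_rc_11_1 lc_c_rc_14_2 lc_c_rc_11_1 lc_c_rc_13_2 lc_c_rc_11_1 lc_c_rc_26_4 lc_c_rc_25_17 lc_c_rc_13_2 lc_c_rc_11_1 lc_c_rc_22_5 lc_c_Cert_tree lc_c_rc_22_5 lc_c_Cert_tree lc_c_rc_13_2 lc_c_rc_13_2 lc_c_rc_13_2 lc_c_Cert_tree lc_c_rc_11_1 lc_c_rc_13_2 lc_c_rc_11_1 lc_c_rc_13_2 lc_c_Cert_tree lc_c_rc_11_1 lc_c_rc_7_5 lc_c_rc_11_1 lc_c_Cert_tree lc_c_Cert_tree lc_c_rc_14_2 lc_c_rc_13_2 lc_c_rc_11_1 lc_c_rc_26_2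 lc_c_rc_13_2 lc_c_rc_11_1 lc_c_Cert_tree lc_c_Cert_tree lc_c_rc_7_1 lc_c_rc_11_1 lc_c_Cert_tree lc_c_rc_13_2 lc_c_rc_26_2 lc_c_rc_11_1 lc_c_Cert_tree lc_c_rc_13_2) (@D3.rec (fun _ => (Cert rels S Gen.c)) lc_c_Cert_tree lc_c_Cert_tree lc_c_rc_11_1 lc_c_rc_14_2 lc_c_rc_7_5 lc_c_Cert_tree lc_c_Cert_tree lc_c_rc_23_0 lc_c_rc_23_0 lc_c_rc_24_8 lc_c_rc_11_1 lc_c_rc_14_2 lc_c_Cert_tree lc_c_rc_13_2 lc_c_rc_12_2 lc_c_rc_7_3 lc_c_rc_22_3 lc_c_rc_14_2 lc_c_rc_13_2 lc_c_rc_13_2 lc_c_rc_25_9 lc_c_rc_7_3 lc_c_rc_13_2 lc_c_rc_26_4 lc_c_Cert_tree lc_c_rc_13_2 lc_c_Cert_tree lc_c_rc_13_2 lc_c_rc_26_2 lc_c_rc_24_8 lc_c_rc_11_1 lc_c_rc_13_2 lc_c_rc_7_5 lc_c_rc_22_9 lc_c_rc_22_5 lc_c_rc_11_1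 lc_c_rc_14_2 lc_c_Cert_tree lc_c_rc_7_3 lc_c_rc_11_1 lc_c_rc_13_2 lc_c_rc_14_0 lc_c_rc_13_2 lc_c_Cert_tree lc_c_Cert_tree lc_c_Cert_tree lc_c_rc_7_5 lc_c_rc_7_5 lc_c_rc_23_5 lc_c_rc_13_2 lc_c_rc_25_17 lc_c_rc_7_3 lc_c_rc_11_1 lc_c_rc_7_5 lc_c_rc_13_2 lc_c_rc_13_0 lc_c_rc_11_1 lc_c_Cert_tree lc_c_rc_24_4 lc_c_rc_2_3 lc_c_rc_11_1 lc_c_rc_11_1) (@D3.rec (fun _ => (Cert rels S Gen.c)) lc_c_rc_24_6 lc_c_rc_22_5 lc_c_rc_14_2 lc_c_rc_11_1 lc_c_Cert_tree lc_c_rc_14_2 lc_c_rc_25_13 lc_c_rc_23_5 lc_c_rc_14_2 lc_c_rc_11_1 lc_c_rc_14_2 lc_c_Cert_tree lc_c_rc_14_0 lc_c_Cert_tree lc_c_rc_26_4 lc_c_rc_13_0 lc_c_rc_23_0 lc_c_rc_13_2 lc_c_Cert_tree lc_c_Cert_tree lc_c_rc_11_1 lc_c_rc_2_3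 lc_c_rc_13_2 lc_c_rc_13_2 lc_c_rc_13_2 lc_c_rc_2_3 lc_c_rc_11_1 lc_c_rc_2_3 lc_c_rc_13_2 lc_c_rc_11_1 lc_c_Cert_tree lc_c_rc_13_2 lc_c_rc_11_1 lc_c_rc_13_2 lc_c_rc_23_5 lc_c_Cert_tree lc_c_rc_23_0 lc_c_Cert_tree lc_c_rc_11_1 lc_c_rc_13_2 lc_c_rc_11_1 lc_c_rc_11_1 lc_c_rc_14_0 lc_c_rc_13_2 lc_c_rc_24_6 lc_c_rc_23_0 lc_c_rc_7_3 lc_c_Cert_tree lc_c_rc_14_2 lc_c_rc_11_1 lc_c_Cert_tree lc_c_Cert_tree lc_c_rc_11_1 lc_c_Cert_tree lc_c_Cert_tree lc_c_rc_11_1 lc_c_rc_13_2 lc_c_rc_7_3 lc_c_Cert_tree lc_c_Cert_tree lc_c_rc_7_3 lc_c_rc_13_2) (@D3.rec (fun _ => (Cert rels S Gen.c)) lc_c_Cert_tree lc_c_Cert_tree lc_c_Cert_tree lc_c_rc_14_2 lc_c_rc_11_1 lc_c_rc_23_0 lc_c_rc_2_3 lc_c_rc_2_3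 lc_c_rc_23_0 lc_c_rc_13_2 lc_c_rc_11_1 lc_c_rc_24_4 lc_c_rc_22_9 lc_c_rc_13_2 lc_c_Cert_tree lc_c_Cert_tree lc_c_rc_14_2 lc_c_Cert_tree lc_c_rc_11_1 lc_c_rc_23_5 lc_c_rc_11_1 lc_c_rc_24_4 lc_c_rc_7_3 lc_c_rc_13_2 lc_c_rc_22_3 lc_c_rc_22_7 lc_c_rc_13_2 lc_c_Cert_tree lc_c_rc_11_1 lc_c_rc_7_5 lc_c_rc_26_2 lc_c_rc_13_2 lc_c_Cert_tree lc_c_rc_13_2 lc_c_rc_24_4 lc_c_rc_22_7 lc_c_rc_2_3 lc_c_rc_7_5 lc_c_rc_7_3 lc_c_rc_14_2 lc_c_rc_11_1 lc_c_rc_11_1 lc_c_rc_2_3 lc_c_rc_25_17 lc_c_rc_13_0 lc_c_rc_11_1 lc_c_rc_22_3 lc_c_rc_24_8 lc_c_rc_11_1 lc_c_rc_26_10 lc_c_rc_24_2 lc_c_Cert_tree lc_c_rc_22_5 lc_c_rc_24_2 lc_c_rc_11_1 lc_c_rc_13_2 lc_c_rc_11_1 lc_c_rc_13_2 lc_c_Cert_tree lc_c_rc_7_5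 lc_c_rc_7_5 lc_c_rc_13_2) (@D3.rec (fun _ => (Cert rels S Gen.c)) lc_c_Cert_tree lc_c_rc_26_4 lc_c_rc_2_3 lc_c_Cert_tree lc_c_Cert_tree lc_c_rc_11_1 lc_c_rc_13_2 lc_c_rc_2_3 lc_c_Cert_tree lc_c_rc_7_3 lc_c_rc_13_2 lc_c_Cert_tree lc_c_rc_2_3 lc_c_rc_13_2 lc_c_rc_13_2 lc_c_rc_13_2 lc_c_Cert_tree lc_c_rc_13_2 lc_c_rc_2_1 lc_c_Cert_tree lc_c_rc_26_2 lc_c_rc_11_1 lc_c_Cert_tree lc_c_rc_13_2 lc_c_rc_11_1 lc_c_Cert_tree lc_c_Cert_tree lc_c_Cert_tree lc_c_rc_11_1 lc_c_rc_14_2 lc_c_rc_26_4 lc_c_rc_11_1 lc_c_Cert_tree lc_c_rc_13_2 lc_c_rc_22_5 lc_c_rc_11_1 lc_c_rc_13_2 lc_c_rc_11_1 lc_c_rc_26_2 lc_c_rc_14_2 lc_c_rc_13_2 lc_c_rc_26_10 lc_c_Cert_tree lc_c_rc_13_2 lc_c_rc_7_3 lc_c_rc_26_4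 lc_c_rc_11_1 lc_c_rc_13_2 lc_c_rc_11_1 lc_c_Cert_tree lc_c_rc_11_1 lc_c_rc_13_2 lc_c_rc_22_3 lc_c_rc_23_5 lc_c_rc_13_2 lc_c_rc_7_1 lc_c_rc_11_1 lc_c_rc_13_2 lc_c_Cert_tree lc_c_rc_13_2 lc_c_rc_26_4 lc_c_rc_11_1) (@D3.rec (fun _ => (Cert rels S Gen.c)) lc_c_rc_13_2 lc_c_rc_26_4 lc_c_rc_24_6 lc_c_rc_26_2 lc_c_rc_26_4 lc_c_rc_11_1 lc_c_Cert_tree lc_c_Cert_tree lc_c_rc_13_2 lc_c_Cert_tree lc_c_Cert_tree lc_c_rc_11_1 lc_c_rc_11_1 lc_c_rc_7_3 lc_c_rc_13_2 lc_c_rc_13_2 lc_c_rc_11_1 lc_c_rc_13_0 lc_c_Cert_tree lc_c_Cert_tree lc_c_rc_11_1 lc_c_rc_7_3 lc_c_Cert_tree lc_c_Cert_tree lc_c_rc_2_3 lc_c_Cert_tree lc_c_rc_11_1 lc_c_rc_13_2 lc_c_rc_25_1 lc_c_rc_2_3 lc_c_rc_26_10 lc_c_rc_11_1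 lc_c_rc_11_1 lc_c_rc_11_1 lc_c_rc_24_4 lc_c_rc_23_5 lc_c_rc_11_1 lc_c_rc_14_2 lc_c_rc_11_1 lc_c_rc_13_2 lc_c_Cert_tree lc_c_Cert_tree lc_c_Cert_tree lc_c_Cert_tree lc_c_rc_11_1 lc_c_rc_26_4 lc_c_rc_13_2 lc_c_rc_11_1 lc_c_rc_13_2 lc_c_rc_26_4 lc_c_rc_2_3 lc_c_rc_24_4 lc_c_rc_11_1 lc_c_rc_7_3 lc_c_rc_11_1 lc_c_rc_23_5 lc_c_rc_22_9 lc_c_rc_26_10 lc_c_rc_13_2 lc_c_rc_26_2 lc_c_rc_11_1 lc_c_rc_11_1) (@D3.rec (fun _ => (Cert rels S Gen.c)) lc_c_rc_26_10 lc_c_rc_11_1 lc_c_Cert_tree lc_c_rc_13_2 lc_c_rc_26_2 lc_c_rc_11_1 lc_c_rc_11_1 lc_c_rc_13_2 lc_c_rc_11_1 lc_c_Cert_tree lc_c_rc_13_2 lc_c_rc_13_0 lc_c_rc_11_1 lc_c_Cert_tree lc_c_rc_7_3 lc_c_rc_23_0 lc_c_rc_14_2 lc_c_rc_13_2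 lc_c_rc_13_2 lc_c_rc_11_1 lc_c_rc_13_2 lc_c_rc_11_1 lc_c_rc_11_1 lc_c_rc_13_2 lc_c_Cert_tree lc_c_rc_11_1 lc_c_rc_13_2 lc_c_rc_26_8 lc_c_rc_22_7 lc_c_rc_11_1 lc_c_rc_7_5 lc_c_rc_11_1 lc_c_rc_13_2 lc_c_rc_23_5 lc_c_rc_26_8 lc_c_rc_11_1 lc_c_rc_26_4 lc_c_rc_13_2 lc_c_rc_11_1 lc_c_rc_13_2 lc_c_Cert_tree lc_c_rc_24_2 lc_c_rc_11_1 lc_c_rc_24_6 lc_c_rc_13_2 lc_c_rc_2_3 lc_c_Cert_tree lc_c_rc_23_0 lc_c_Cert_tree lc_c_rc_14_2 lc_c_rc_24_6 lc_c_rc_11_1 lc_c_rc_12_2 lc_c_rc_13_2 lc_c_rc_7_5 lc_c_Cert_tree lc_c_rc_14_2 lc_c_Cert_tree lc_c_Cert_tree lc_c_rc_13_2 lc_c_Cert_tree lc_c_Cert_tree) (@D3.rec (fun _ => (Cert rels S Gen.c)) lc_c_rc_11_1 lc_c_rc_14_2 lc_c_Cert_tree lc_c_rc_13_2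 lc_c_Cert_tree lc_c_rc_13_2 lc_c_Cert_tree lc_c_rc_24_8 lc_c_rc_11_1 lc_c_rc_14_2 lc_c_Cert_tree lc_c_rc_13_2 lc_c_rc_7_3 lc_c_rc_14_2 lc_c_rc_13_2 lc_c_rc_26_4 lc_c_rc_13_2 lc_c_rc_11_1 lc_c_rc_26_10 lc_c_rc_23_0 lc_c_rc_11_1 lc_c_Cert_tree lc_c_Cert_tree lc_c_rc_11_1 lc_c_rc_14_2 lc_c_rc_11_1 lc_c_rc_11_1 lc_c_rc_26_4 lc_c_rc_24_8 lc_c_rc_26_4 lc_c_rc_11_1 lc_c_rc_11_1 lc_c_Cert_tree lc_c_rc_13_2 lc_c_rc_23_0 lc_c_Cert_tree lc_c_rc_25_5 lc_c_rc_22_3 lc_c_rc_23_0 lc_c_rc_26_4 lc_c_rc_26_10 lc_c_Cert_tree lc_c_rc_22_7 lc_c_rc_26_2 lc_c_rc_24_8 lc_c_rc_11_1 lc_c_rc_14_2 lc_c_rc_11_1 lc_c_rc_13_2 lc_c_rc_24_6 lc_c_rc_11_1 lc_c_rc_13_2 lc_c_rc_11_1 lc_c_Cert_tree lc_c_rc_14_2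 lc_c_Cert_tree lc_c_rc_26_4 lc_c_Cert_tree lc_c_rc_11_1 lc_c_rc_24_8 lc_c_rc_24_8 lc_c_rc_11_1) (@D3.rec (fun _ => (Cert rels S Gen.c)) lc_c_rc_11_1 lc_c_rc_24_4 lc_c_Cert_tree lc_c_rc_2_3 lc_c_rc_13_2 lc_c_rc_26_4 lc_c_Cert_tree lc_c_rc_13_2 lc_c_Cert_tree lc_c_Cert_tree lc_c_rc_11_1 lc_c_rc_13_2 lc_c_rc_24_8 lc_c_rc_11_1 lc_c_rc_14_2 lc_c_rc_26_2 lc_c_rc_11_1 lc_c_Cert_tree lc_c_rc_26_4 lc_c_Cert_tree lc_c_rc_13_2 lc_c_rc_11_1 lc_c_rc_13_2 lc_c_rc_26_2 lc_c_rc_11_1 lc_c_rc_14_0 lc_c_rc_13_2 lc_c_Cert_tree lc_c_rc_11_1 lc_c_rc_13_2 lc_c_rc_24_6 lc_c_rc_11_1 lc_c_rc_11_1 lc_c_rc_11_1 lc_c_Cert_tree lc_c_Cert_tree lc_c_rc_26_4 lc_c_Cert_tree lc_c_Cert_tree lc_c_rc_11_1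 lc_c_rc_13_2 lc_c_rc_11_1 lc_c_Cert_tree lc_c_rc_7_3 lc_c_rc_13_2 lc_c_Cert_tree lc_c_rc_13_0 lc_c_rc_14_2 lc_c_Cert_tree lc_c_Cert_tree lc_c_rc_13_2 lc_c_rc_11_1 lc_c_rc_13_2 lc_c_rc_24_6 lc_c_rc_22_5 lc_c_rc_7_3 lc_c_rc_13_2 lc_c_rc_26_2 lc_c_rc_26_8 lc_c_Cert_tree lc_c_rc_14_2 lc_c_rc_11_1) (@D3.rec (fun _ => (Cert rels S Gen.c)) lc_c_Cert_tree lc_c_rc_11_1 lc_c_rc_26_2 lc_c_rc_13_2 lc_c_rc_7_1 lc_c_rc_13_2 lc_c_Cert_tree lc_c_rc_13_0 lc_c_Cert_tree lc_c_rc_14_2 lc_c_rc_11_1 lc_c_rc_13_2 lc_c_rc_7_1 lc_c_rc_13_2 lc_c_rc_24_2 lc_c_Cert_tree lc_c_rc_14_2 lc_c_rc_7_1 lc_c_rc_13_2 lc_c_rc_7_5 lc_c_rc_22_5 lc_c_rc_22_9 lc_c_rc_26_4 lc_c_rc_11_1 lc_c_rc_13_0 lc_c_Cert_tree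 lc_c_Cert_tree lc_c_rc_11_1 lc_c_rc_7_3 lc_c_Cert_tree lc_c_Cert_tree lc_c_rc_22_7 lc_c_rc_13_2 lc_c_Cert_tree lc_c_Cert_tree lc_c_rc_22_3 lc_c_rc_26_4 lc_c_Cert_tree lc_c_rc_13_2 lc_c_rc_13_2 lc_c_rc_11_1 lc_c_Cert_tree lc_c_rc_24_2 lc_c_rc_11_1 lc_c_rc_26_2 lc_c_rc_13_2 lc_c_rc_13_0 lc_c_Cert_tree lc_c_rc_11_1 lc_c_rc_11_1 lc_c_rc_11_1 lc_c_rc_7_3 lc_c_rc_25_1 lc_c_rc_13_2 lc_c_rc_11_1 lc_c_rc_2_3 lc_c_rc_11_1 lc_c_rc_11_1 lc_c_rc_13_2 lc_c_rc_11_1 lc_c_rc_11_1 lc_c_Cert_tree) (@D3.rec (fun _ => (Cert rels S Gen.c)) lc_c_rc_11_1 lc_c_rc_13_2 lc_c_rc_11_1 lc_c_Cert_tree lc_c_Cert_tree lc_c_rc_11_1 lc_c_rc_14_2 lc_c_rc_11_1 lc_c_rc_13_2 lc_c_rc_13_2 lc_c_Cert_tree lc_c_rc_14_2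 lc_c_Cert_tree lc_c_Cert_tree lc_c_rc_14_2 lc_c_Cert_tree lc_c_rc_11_1 lc_c_Cert_tree lc_c_rc_11_1 lc_c_Cert_tree lc_c_rc_13_2 lc_c_Cert_tree lc_c_Cert_tree lc_c_rc_11_1 lc_c_rc_14_2 lc_c_rc_26_4 lc_c_rc_26_4 lc_c_rc_11_1 lc_c_rc_13_2 lc_c_rc_11_1 lc_c_rc_13_2 lc_c_rc_26_4 lc_c_rc_11_1 lc_c_rc_13_2 lc_c_rc_11_1 lc_c_rc_23_5 lc_c_Cert_tree lc_c_rc_24_4 lc_c_Cert_tree lc_c_rc_14_2 lc_c_rc_2_3 lc_c_Cert_tree lc_c_Cert_tree lc_c_rc_23_0 lc_c_rc_11_1 lc_c_rc_11_1 lc_c_rc_24_8 lc_c_rc_14_2 lc_c_rc_11_1 lc_c_rc_2_1 lc_c_rc_11_1 lc_c_Cert_tree lc_c_rc_13_2 lc_c_rc_26_4 lc_c_Cert_tree lc_c_rc_13_2 lc_c_rc_11_1 lc_c_rc_23_5 lc_c_Cert_tree lc_c_rc_14_2 lc_c_Cert_tree lc_c_rc_14_0)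 (@D3.rec (fun _ => (Cert rels S Gen.c)) lc_c_rc_13_2 lc_c_Cert_tree lc_c_rc_13_2 lc_c_Cert_tree lc_c_rc_22_9 lc_c_Cert_tree lc_c_rc_11_1 lc_c_rc_13_2 lc_c_rc_23_0 lc_c_rc_14_2 lc_c_rc_24_8 lc_c_rc_14_2 lc_c_rc_11_1 lc_c_Cert_tree lc_c_Cert_tree lc_c_rc_11_1 lc_c_Cert_tree lc_c_Cert_tree lc_c_rc_11_1 lc_c_rc_13_2 lc_c_Cert_tree lc_c_rc_11_1 lc_c_rc_14_2 lc_c_Cert_tree lc_c_rc_11_1 lc_c_rc_26_10 lc_c_rc_13_2 lc_c_rc_14_2 lc_c_Cert_tree lc_c_rc_11_1 lc_c_rc_13_2 lc_c_rc_13_2 lc_c_rc_13_0 lc_c_Cert_tree lc_c_rc_14_2 lc_c_rc_26_4 lc_c_rc_11_1 lc_c_Cert_tree lc_c_Cert_tree lc_c_rc_7_5 lc_c_Cert_tree lc_c_rc_11_1 lc_c_rc_22_3 lc_c_rc_13_2 lc_c_Cert_tree lc_c_Cert_tree lc_c_rc_13_2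 lc_c_rc_14_2 lc_c_rc_26_4 lc_c_rc_26_8 lc_c_Cert_tree lc_c_rc_23_5 lc_c_Cert_tree lc_c_Cert_tree lc_c_rc_13_2 lc_c_rc_24_8 lc_c_rc_11_1 lc_c_rc_22_9 lc_c_Cert_tree lc_c_rc_11_1 lc_c_Cert_tree lc_c_rc_13_2) (@D3.rec (fun _ => (Cert rels S Gen.c)) lc_c_Cert_tree lc_c_rc_13_2 lc_c_Cert_tree lc_c_rc_11_1 lc_c_rc_13_2 lc_c_rc_7_3 lc_c_Cert_tree lc_c_rc_7_3 lc_c_Cert_tree lc_c_rc_11_1 lc_c_rc_26_2 lc_c_Cert_tree lc_c_rc_23_5 lc_c_Cert_tree lc_c_rc_13_2 lc_c_rc_23_0 lc_c_rc_11_1 lc_c_rc_14_2 lc_c_rc_26_8 lc_c_rc_11_1 lc_c_rc_23_0 lc_c_rc_11_1 lc_c_rc_23_0 lc_c_rc_11_1 lc_c_rc_13_2 lc_c_rc_24_2 lc_c_rc_13_2 lc_c_rc_26_4 lc_c_rc_13_2 lc_c_rc_2_1 lc_c_rc_7_3 lc_c_rc_13_2 lc_c_rc_23_0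 lc_c_rc_22_3 lc_c_rc_26_10 lc_c_rc_11_1 lc_c_Cert_tree lc_c_rc_14_2 lc_c_rc_26_2 lc_c_rc_11_1 lc_c_Cert_tree lc_c_Cert_tree lc_c_Cert_tree lc_c_rc_11_1 lc_c_Cert_tree lc_c_rc_24_8 lc_c_rc_2_3 lc_c_Cert_tree lc_c_rc_23_0 lc_c_rc_24_2 lc_c_rc_24_2 lc_c_rc_11_1 lc_c_rc_14_2 lc_c_rc_26_2 lc_c_rc_22_7 lc_c_rc_13_2 lc_c_rc_25_9 lc_c_rc_13_2 lc_c_rc_13_2 lc_c_Cert_tree lc_c_Cert_tree lc_c_rc_13_2) (@D3.rec (fun _ => (Cert rels S Gen.c)) lc_c_rc_25_1 lc_c_rc_2_3 lc_c_rc_11_1 lc_c_Cert_tree lc_c_rc_26_2 lc_c_rc_11_1 lc_c_Cert_tree lc_c_rc_13_2 lc_c_Cert_tree lc_c_Cert_tree lc_c_rc_11_1 lc_c_Cert_tree lc_c_Cert_tree lc_c_rc_13_2 lc_c_Cert_tree lc_c_rc_24_8 lc_c_rc_24_8 lc_c_rc_25_17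 lc_c_rc_7_3 lc_c_rc_13_2 lc_c_rc_13_2 lc_c_rc_13_2 lc_c_rc_13_2 lc_c_rc_11_1 lc_c_rc_26_10 lc_c_Cert_tree lc_c_rc_26_4 lc_c_rc_11_1 lc_c_Cert_tree lc_c_rc_14_2 lc_c_Cert_tree lc_c_rc_14_2 lc_c_Cert_tree lc_c_rc_11_1 lc_c_rc_14_2 lc_c_rc_13_2 lc_c_rc_13_2 lc_c_rc_7_5 lc_c_rc_26_10 lc_c_rc_13_2 lc_c_rc_14_2 lc_c_rc_11_1 lc_c_Cert_tree lc_c_rc_14_2 lc_c_rc_24_6 lc_c_rc_22_9 lc_c_rc_14_2 lc_c_Cert_tree lc_c_rc_11_1 lc_c_rc_14_2 lc_c_rc_7_5 lc_c_rc_23_0 lc_c_rc_26_10 lc_c_rc_14_2 lc_c_rc_13_2 lc_c_rc_26_8 lc_c_rc_11_1 lc_c_rc_13_2 lc_c_rc_26_4 lc_c_rc_26_4 lc_c_rc_11_1 lc_c_rc_11_1) (@D3.rec (fun _ => (Cert rels S Gen.c)) lc_c_rc_11_1 lc_c_rc_11_1 lc_c_rc_13_2 lc_c_rc_26_8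 lc_c_rc_13_2 lc_c_rc_11_1 lc_c_rc_13_0 lc_c_rc_14_2 lc_c_rc_13_2 lc_c_Cert_tree lc_c_rc_11_1 lc_c_rc_11_1 lc_c_rc_26_10 lc_c_rc_26_8 lc_c_rc_22_5 lc_c_rc_26_8 lc_c_rc_11_1 lc_c_rc_11_1 lc_c_rc_7_3 lc_c_rc_11_1 lc_c_rc_23_5 lc_c_rc_22_7 lc_c_rc_25_1 lc_c_rc_11_1 lc_c_rc_2_3 lc_c_rc_11_1 lc_c_rc_14_2 lc_c_Cert_tree lc_c_rc_13_2 lc_c_rc_11_1 lc_c_rc_13_2 lc_c_rc_24_8 lc_c_rc_23_5 lc_c_rc_7_5 lc_c_rc_11_1 lc_c_rc_7_3 lc_c_rc_13_2 lc_c_Cert_tree lc_c_rc_11_1 lc_c_rc_23_5 lc_c_Cert_tree lc_c_rc_11_1 lc_c_rc_22_3 lc_c_rc_24_2 lc_c_rc_11_1 lc_c_rc_7_3 lc_c_rc_26_8 lc_c_rc_13_2 lc_c_Cert_tree lc_c_rc_11_1 lc_c_rc_22_5 lc_c_rc_11_1 lc_c_rc_22_9 lc_c_rc_7_1 lc_c_rc_7_5 lc_c_Cert_tree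 lc_c_rc_26_2 lc_c_Cert_tree lc_c_rc_13_2 lc_c_rc_11_1 lc_c_rc_13_2 lc_c_rc_2_3) (@D3.rec (fun _ => (Cert rels S Gen.c)) lc_c_Cert_tree lc_c_rc_23_0 lc_c_rc_11_1 lc_c_rc_11_1 lc_c_rc_7_5 lc_c_Cert_tree lc_c_rc_11_1 lc_c_rc_22_3 lc_c_rc_24_6 lc_c_rc_24_6 lc_c_rc_7_3 lc_c_Cert_tree lc_c_rc_14_2 lc_c_rc_14_2 lc_c_rc_22_7 lc_c_rc_13_2 lc_c_rc_26_10 lc_c_rc_11_1 lc_c_rc_13_2 lc_c_rc_13_2 lc_c_rc_24_6 lc_c_rc_11_1 lc_c_rc_11_1 lc_c_rc_26_10 lc_c_rc_2_3 lc_c_rc_11_1 lc_c_rc_26_10 lc_c_rc_7_5 lc_c_rc_7_3 lc_c_rc_24_4 lc_c_rc_11_1 lc_c_rc_13_2 lc_c_rc_22_3 lc_c_rc_13_2 lc_c_Cert_tree lc_c_Cert_tree lc_c_rc_14_2 lc_c_Cert_tree lc_c_rc_13_2 lc_c_Cert_tree lc_c_rc_13_2 lc_c_rc_23_0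 lc_c_rc_7_5 lc_c_rc_2_1 lc_c_rc_24_6 lc_c_rc_11_1 lc_c_rc_7_3 lc_c_rc_2_3 lc_c_rc_2_3 lc_c_Cert_tree lc_c_rc_13_2 lc_c_rc_26_4 lc_c_rc_13_0 lc_c_Cert_tree lc_c_Cert_tree lc_c_Cert_tree lc_c_rc_11_1 lc_c_rc_12_2 lc_c_Cert_tree lc_c_rc_13_2 lc_c_Cert_tree lc_c_rc_13_2) (@D3.rec (fun _ => (Cert rels S Gen.c)) lc_c_rc_7_3 lc_c_rc_13_2 lc_c_rc_23_0 lc_c_rc_23_0 lc_c_rc_22_3 lc_c_rc_23_5 lc_c_rc_26_8 lc_c_rc_7_5 lc_c_Cert_tree lc_c_rc_13_2 lc_c_Cert_tree lc_c_Cert_tree lc_c_rc_11_1 lc_c_rc_22_7 lc_c_rc_7_3 lc_c_rc_13_2 lc_c_rc_24_4 lc_c_rc_13_2 lc_c_rc_13_2 lc_c_rc_22_9 lc_c_Cert_tree lc_c_rc_7_5 lc_c_Cert_tree lc_c_rc_26_4 lc_c_rc_26_10 lc_c_rc_26_4 lc_c_rc_13_2 lc_c_rc_24_8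 lc_c_rc_11_1 lc_c_rc_13_2 lc_c_rc_11_1 lc_c_Cert_tree lc_c_rc_11_1 lc_c_rc_14_2 lc_c_rc_11_1 lc_c_rc_2_1 lc_c_rc_11_1 lc_c_rc_13_2 lc_c_rc_13_2 lc_c_Cert_tree lc_c_rc_7_1 lc_c_Cert_tree lc_c_rc_11_1 lc_c_rc_11_1 lc_c_rc_24_8 lc_c_rc_26_4 lc_c_rc_11_1 lc_c_Cert_tree lc_c_rc_13_2 lc_c_rc_11_1 lc_c_rc_22_3 lc_c_Cert_tree lc_c_Cert_tree lc_c_rc_11_1 lc_c_rc_26_2 lc_c_Cert_tree lc_c_rc_13_2 lc_c_rc_7_3 lc_c_rc_14_2 lc_c_rc_13_2 lc_c_rc_24_8 lc_c_Cert_tree) (@D3.rec (fun _ => (Cert rels S Gen.c)) lc_c_Cert_tree lc_c_Cert_tree lc_c_Cert_tree lc_c_rc_11_1 lc_c_rc_7_3 lc_c_rc_13_2 lc_c_rc_26_2 lc_c_Cert_tree lc_c_rc_11_1 lc_c_rc_26_8 lc_c_rc_25_5 lc_c_rc_11_1 lc_c_rc_7_3 lc_c_Cert_tree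 lc_c_rc_23_5 lc_c_Cert_tree lc_c_rc_26_2 lc_c_rc_7_3 lc_c_rc_11_1 lc_c_rc_26_2 lc_c_rc_26_4 lc_c_rc_7_3 lc_c_rc_7_5 lc_c_rc_26_4 lc_c_rc_11_1 lc_c_rc_13_2 lc_c_Cert_tree lc_c_rc_14_2 lc_c_rc_26_10 lc_c_rc_13_2 lc_c_rc_11_1 lc_c_rc_7_5 lc_c_Cert_tree lc_c_rc_13_0 lc_c_rc_2_3 lc_c_Cert_tree lc_c_rc_13_2 lc_c_Cert_tree lc_c_rc_13_2 lc_c_Cert_tree lc_c_Cert_tree lc_c_rc_11_1 lc_c_rc_14_2 lc_c_rc_11_1 lc_c_rc_13_2 lc_c_rc_23_0 lc_c_rc_23_0 lc_c_rc_14_2 lc_c_rc_23_0 lc_c_rc_7_5 lc_c_Cert_tree lc_c_rc_11_1 lc_c_Cert_tree lc_c_rc_14_2 lc_c_Cert_tree lc_c_rc_13_2 lc_c_Cert_tree lc_c_Cert_tree lc_c_rc_11_1 lc_c_rc_13_2 lc_c_rc_13_0 lc_c_rc_26_10) (@D3.rec (fun _ => (Cert rels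 S Gen.c)) lc_c_rc_13_0 lc_c_Cert_tree lc_c_rc_11_1 lc_c_Cert_tree lc_c_rc_13_2 lc_c_rc_11_1 lc_c_Cert_tree lc_c_rc_13_2 lc_c_rc_11_1 lc_c_rc_13_2 lc_c_rc_14_2 lc_c_Cert_tree lc_c_rc_14_2 lc_c_rc_26_2 lc_c_rc_11_1 lc_c_rc_13_2 lc_c_Cert_tree lc_c_rc_11_1 lc_c_rc_13_2 lc_c_rc_11_1 lc_c_rc_11_1 lc_c_Cert_tree lc_c_rc_11_1 lc_c_Cert_tree lc_c_Cert_tree lc_c_Cert_tree lc_c_Cert_tree lc_c_rc_11_1 lc_c_rc_13_2 lc_c_rc_11_1 lc_c_rc_11_1 lc_c_rc_11_1 lc_c_rc_13_2 lc_c_rc_7_3 lc_c_rc_13_2 lc_c_Cert_tree lc_c_rc_14_2 lc_c_rc_11_1 lc_c_Cert_tree lc_c_rc_11_1 lc_c_Cert_tree lc_c_rc_11_1 lc_c_Cert_tree lc_c_rc_13_2 lc_c_Cert_tree lc_c_Cert_tree lc_c_rc_11_1 lc_c_rc_13_2 lc_c_Cert_tree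 lc_c_rc_7_3 lc_c_rc_13_2 lc_c_rc_22_5 lc_c_rc_2_3 lc_c_rc_13_2 lc_c_rc_14_2 lc_c_rc_11_1 lc_c_Cert_tree lc_c_rc_11_1 lc_c_rc_13_2 lc_c_rc_7_1 lc_c_rc_13_2 lc_c_rc_7_1) (@D3.rec (fun _ => (Cert rels S Gen.c)) lc_c_rc_23_0 lc_c_rc_14_2 lc_c_Cert_tree lc_c_rc_11_1 lc_c_rc_13_2 lc_c_rc_7_1 lc_c_rc_13_2 lc_c_rc_24_2 lc_c_rc_23_0 lc_c_rc_14_2 lc_c_Cert_tree lc_c_rc_7_5 lc_c_rc_11_1 lc_c_rc_11_1 lc_c_rc_7_3 lc_c_rc_11_1 lc_c_rc_13_2 lc_c_rc_7_3 lc_c_rc_13_2 lc_c_Cert_tree lc_c_Cert_tree lc_c_rc_14_2 lc_c_rc_7_5 lc_c_Cert_tree lc_c_rc_26_4 lc_c_rc_13_2 lc_c_Cert_tree lc_c_Cert_tree lc_c_rc_13_2 lc_c_rc_14_2 lc_c_rc_11_1 lc_c_Cert_tree lc_c_rc_23_0 lc_c_rc_14_2 lc_c_rc_26_10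 lc_c_rc_26_4 lc_c_Cert_tree lc_c_Cert_tree lc_c_rc_13_2 lc_c_rc_7_3 lc_c_Cert_tree lc_c_rc_11_1 lc_c_rc_11_1 lc_c_rc_2_3 lc_c_rc_13_2 lc_c_rc_7_3 lc_c_rc_11_1 lc_c_Cert_tree lc_c_rc_2_3 lc_c_rc_24_6 lc_c_rc_26_10 lc_c_rc_24_4 lc_c_Cert_tree lc_c_rc_11_1 lc_c_Cert_tree lc_c_Cert_tree lc_c_rc_11_1 lc_c_rc_14_2 lc_c_rc_13_2 lc_c_Cert_tree lc_c_rc_7_5 lc_c_Cert_tree) (@D3.rec (fun _ => (Cert rels S Gen.c)) lc_c_rc_7_3 lc_c_rc_7_3 lc_c_Cert_tree lc_c_rc_26_2 lc_c_rc_7_5 lc_c_rc_11_1 lc_c_rc_11_1 lc_c_rc_13_2 lc_c_rc_26_10 lc_c_rc_13_2 lc_c_rc_11_1 lc_c_rc_7_5 lc_c_rc_24_8 lc_c_rc_14_2 lc_c_rc_26_4 lc_c_rc_11_1 lc_c_rc_13_2 lc_c_rc_11_1 lc_c_rc_25_9 lc_c_rc_7_5 lc_c_rc_22_5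 lc_c_rc_22_3 lc_c_rc_11_1 lc_c_rc_14_2 lc_c_rc_11_1 lc_c_Cert_tree lc_c_Cert_tree lc_c_rc_11_1 lc_c_rc_24_4 lc_c_rc_11_1 lc_c_rc_2_3 lc_c_rc_24_2 lc_c_rc_11_1 lc_c_rc_23_5 lc_c_rc_13_2 lc_c_rc_11_1 lc_c_rc_23_5 lc_c_rc_24_4 lc_c_rc_11_1 lc_c_rc_7_3 lc_c_Cert_tree lc_c_rc_14_2 lc_c_rc_24_4 lc_c_rc_23_0 lc_c_rc_13_2 lc_c_Cert_tree lc_c_rc_13_2 lc_c_Cert_tree lc_c_Cert_tree lc_c_rc_11_1 lc_c_rc_13_2 lc_c_rc_23_0 lc_c_rc_23_5 lc_c_Cert_tree lc_c_rc_26_2 lc_c_rc_11_1 lc_c_Cert_tree lc_c_rc_13_2 lc_c_rc_7_1 lc_c_Cert_tree lc_c_rc_13_2 lc_c_rc_11_1) (@D3.rec (fun _ => (Cert rels S Gen.c)) lc_c_rc_13_2 lc_c_rc_24_2 lc_c_rc_24_2 lc_c_rc_23_0 lc_c_Cert_tree lc_c_rc_11_1 lc_c_rc_13_2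 lc_c_rc_23_5 lc_c_rc_11_1 lc_c_rc_13_2 lc_c_rc_11_1 lc_c_rc_11_1 lc_c_rc_7_1 lc_c_Cert_tree lc_c_rc_14_2 lc_c_rc_23_5 lc_c_rc_26_8 lc_c_rc_24_8 lc_c_rc_25_13 lc_c_rc_13_2 lc_c_rc_11_1 lc_c_rc_11_1 lc_c_rc_13_2 lc_c_rc_11_1 lc_c_rc_13_2 lc_c_rc_14_2 lc_c_rc_11_1 lc_c_rc_11_1 lc_c_rc_22_3 lc_c_rc_13_2 lc_c_rc_25_9 lc_c_rc_24_4 lc_c_rc_13_2 lc_c_rc_23_5 lc_c_rc_11_1 lc_c_rc_13_2 lc_c_rc_23_0 lc_c_rc_24_8 lc_c_rc_14_2 lc_c_rc_25_9 lc_c_rc_7_3 lc_c_rc_13_2 lc_c_rc_13_2 lc_c_rc_11_1 lc_c_Cert_tree lc_c_rc_23_0 lc_c_rc_14_2 lc_c_rc_22_3 lc_c_rc_13_2 lc_c_rc_13_2 lc_c_rc_23_5 lc_c_rc_23_0 lc_c_rc_14_2 lc_c_rc_14_2 lc_c_Cert_tree lc_c_rc_13_2 lc_c_rc_26_2 lc_c_rc_11_1 lc_c_rc_13_2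 lc_c_rc_26_2 lc_c_rc_26_4 lc_c_rc_2_3) (@D3.rec (fun _ => (Cert rels S Gen.c)) lc_c_rc_14_2 lc_c_rc_13_2 lc_c_Cert_tree lc_c_Cert_tree lc_c_Cert_tree lc_c_Cert_tree lc_c_rc_11_1 lc_c_rc_13_2 lc_c_Cert_tree lc_c_Cert_tree lc_c_rc_14_2 lc_c_rc_13_2 lc_c_Cert_tree lc_c_rc_13_2 lc_c_rc_13_2 lc_c_rc_11_1 lc_c_rc_11_1 lc_c_rc_13_2 lc_c_rc_22_5 lc_c_rc_11_1 lc_c_rc_13_2 lc_c_rc_13_2 lc_c_rc_11_1 lc_c_rc_26_4 lc_c_rc_11_1 lc_c_Cert_tree lc_c_rc_14_2 lc_c_rc_11_1 lc_c_rc_13_0 lc_c_rc_11_1 lc_c_rc_7_3 lc_c_rc_26_2 lc_c_Cert_tree lc_c_Cert_tree lc_c_rc_14_2 lc_c_rc_13_2 lc_c_rc_13_2 lc_c_rc_13_2 lc_c_rc_13_2 lc_c_rc_26_10 lc_c_rc_7_5 lc_c_rc_14_0 lc_c_rc_14_2 lc_c_rc_11_1 lc_c_Cert_tree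 lc_c_rc_7_5 lc_c_Cert_tree lc_c_rc_23_5 lc_c_rc_14_2 lc_c_rc_11_1 lc_c_rc_14_2 lc_c_rc_13_2 lc_c_Cert_tree lc_c_rc_7_5 lc_c_rc_26_10 lc_c_rc_7_5 lc_c_rc_13_2 lc_c_rc_14_2 lc_c_rc_22_5 lc_c_rc_24_4 lc_c_rc_11_1 lc_c_Cert_tree) (@D3.rec (fun _ => (Cert rels S Gen.c)) lc_c_rc_11_1 lc_c_Cert_tree lc_c_rc_13_2 lc_c_rc_25_13 lc_c_rc_11_1 lc_c_rc_25_13 lc_c_rc_7_1 lc_c_rc_13_2 lc_c_rc_7_1 lc_c_rc_26_4 lc_c_rc_13_2 lc_c_rc_13_0 lc_c_rc_26_2 lc_c_rc_7_5 lc_c_rc_13_2 lc_c_rc_24_2 lc_c_rc_26_2 lc_c_rc_13_2 lc_c_rc_26_2 lc_c_rc_22_3 lc_c_rc_26_8 lc_c_rc_22_5 lc_c_rc_13_2 lc_c_rc_7_5 lc_c_rc_14_0 lc_c_rc_11_1 lc_c_rc_22_3 lc_c_rc_11_1 lc_c_Cert_tree lc_c_rc_13_2 lc_c_rc_2_1 lc_c_rc_11_1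 lc_c_rc_7_5 lc_c_rc_11_1 lc_c_Cert_tree lc_c_rc_23_5 lc_c_rc_11_1 lc_c_rc_13_2 lc_c_rc_11_1 lc_c_rc_13_2 lc_c_Cert_tree lc_c_rc_14_2 lc_c_rc_13_2 lc_c_Cert_tree lc_c_rc_11_1 lc_c_rc_14_2 lc_c_rc_7_3 lc_c_rc_24_2 lc_c_rc_11_1 lc_c_rc_11_1 lc_c_rc_22_3 lc_c_rc_13_2 lc_c_rc_26_10 lc_c_rc_26_10 lc_c_Cert_tree lc_c_rc_14_2 lc_c_Cert_tree lc_c_rc_13_2 lc_c_Cert_tree lc_c_rc_23_5 lc_c_rc_24_8 lc_c_rc_11_1) (@D3.rec (fun _ => (Cert rels S Gen.c)) lc_c_rc_14_2 lc_c_rc_22_3 lc_c_rc_22_3 lc_c_rc_11_1 lc_c_rc_11_1 lc_c_rc_23_0 lc_c_rc_12_2 lc_c_rc_11_1 lc_c_rc_13_2 lc_c_rc_11_1 lc_c_rc_7_1 lc_c_rc_23_5 lc_c_rc_26_2 lc_c_Cert_tree lc_c_rc_13_2 lc_c_rc_11_1 lc_c_rc_11_1 lc_c_rc_7_3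 lc_c_Cert_tree lc_c_rc_14_2 lc_c_rc_13_2 lc_c_rc_11_1 lc_c_rc_13_2 lc_c_Cert_tree lc_c_rc_14_2 lc_c_Cert_tree lc_c_rc_13_2 lc_c_Cert_tree lc_c_rc_13_2 lc_c_rc_24_4 lc_c_rc_24_4 lc_c_rc_2_1 lc_c_rc_26_2 lc_c_rc_13_2 lc_c_rc_26_10 lc_c_rc_11_1 lc_c_Cert_tree lc_c_rc_11_1 lc_c_rc_13_2 lc_c_rc_13_2 lc_c_rc_22_5 lc_c_Cert_tree lc_c_rc_14_2 lc_c_Cert_tree lc_c_rc_22_3 lc_c_rc_11_1 lc_c_rc_23_0 lc_c_Cert_tree lc_c_Cert_tree lc_c_Cert_tree lc_c_Cert_tree lc_c_Cert_tree lc_c_rc_11_1 lc_c_rc_14_2 lc_c_Cert_tree lc_c_rc_14_2 lc_c_Cert_tree lc_c_Cert_tree lc_c_rc_11_1 lc_c_Cert_tree lc_c_rc_14_2 lc_c_rc_26_2) (@D3.rec (fun _ => (Cert rels S Gen.c)) lc_c_Cert_tree lc_c_rc_7_5 lc_c_rc_13_0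 lc_c_rc_13_2 lc_c_Cert_tree lc_c_Cert_tree lc_c_rc_11_1 lc_c_rc_14_2 lc_c_Cert_tree lc_c_rc_14_0 lc_c_rc_11_1 lc_c_rc_13_2 lc_c_rc_11_1 lc_c_rc_24_4 lc_c_rc_13_2 lc_c_rc_11_1 lc_c_rc_13_2 lc_c_Cert_tree lc_c_rc_11_1 lc_c_Cert_tree lc_c_rc_13_2 lc_c_rc_24_4 lc_c_rc_11_1 lc_c_rc_26_4 lc_c_rc_13_2 lc_c_rc_11_1 lc_c_rc_11_1 lc_c_rc_7_3 lc_c_Cert_tree lc_c_rc_14_2 lc_c_rc_13_2 lc_c_rc_25_17 lc_c_Cert_tree lc_c_rc_11_1 lc_c_rc_2_3 lc_c_rc_23_0 lc_c_rc_14_2 lc_c_rc_11_1 lc_c_rc_23_0 lc_c_rc_13_2 lc_c_rc_11_1 lc_c_rc_13_2 lc_c_rc_23_0 lc_c_rc_26_4 lc_c_rc_13_2 lc_c_rc_26_8 lc_c_rc_13_2 lc_c_rc_23_0 lc_c_rc_11_1 lc_c_rc_7_3 lc_c_rc_14_2 lc_c_rc_13_2 lc_c_Cert_tree lc_c_Cert_tree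 lc_c_Cert_tree lc_c_rc_14_2 lc_c_rc_11_1 lc_c_rc_13_2 lc_c_rc_24_4 lc_c_rc_24_4 lc_c_rc_22_5 lc_c_rc_13_2) (@D3.rec (fun _ => (Cert rels S Gen.c)) lc_c_rc_13_2 lc_c_Cert_tree lc_c_Cert_tree lc_c_rc_2_3 lc_c_rc_14_2 lc_c_rc_13_2 lc_c_rc_24_8 lc_c_rc_23_0 lc_c_rc_11_1 lc_c_rc_13_2 lc_c_rc_11_1 lc_c_Cert_tree lc_c_rc_11_1 lc_c_rc_11_1 lc_c_rc_13_2 lc_c_rc_26_2 lc_c_rc_26_10 lc_c_Cert_tree lc_c_rc_14_2 lc_c_rc_11_1 lc_c_Cert_tree lc_c_rc_13_2 lc_c_rc_7_1 lc_c_rc_7_5 lc_c_rc_13_2 lc_c_Cert_tree lc_c_Cert_tree lc_c_rc_11_1 lc_c_rc_22_3 lc_c_rc_11_1 lc_c_rc_13_0 lc_c_rc_11_1 lc_c_rc_13_2 lc_c_rc_7_3 lc_c_rc_22_9 lc_c_Cert_tree lc_c_rc_13_2 lc_c_Cert_tree lc_c_rc_11_1 lc_c_Cert_tree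 lc_c_rc_13_2 lc_c_Cert_tree lc_c_rc_11_1 lc_c_rc_7_5 lc_c_Cert_tree lc_c_rc_11_1 lc_c_rc_13_2 lc_c_Cert_tree lc_c_rc_11_1 lc_c_rc_13_2 lc_c_rc_11_1 lc_c_rc_2_3 lc_c_rc_24_4 lc_c_rc_14_2 lc_c_rc_14_2 lc_c_rc_2_3 lc_c_rc_13_2 lc_c_rc_7_5 lc_c_rc_13_0 lc_c_rc_7_3 lc_c_rc_26_4 lc_c_Cert_tree) (@D3.rec (fun _ => (Cert rels S Gen.c)) lc_c_Cert_tree lc_c_Cert_tree lc_c_rc_11_1 lc_c_rc_14_2 lc_c_rc_13_2 lc_c_rc_7_1 lc_c_rc_13_2 lc_c_rc_13_2 lc_c_rc_26_10 lc_c_rc_23_0 lc_c_rc_24_2 lc_c_rc_14_2 lc_c_rc_7_5 lc_c_rc_13_2 lc_c_rc_2_3 lc_c_rc_14_2 lc_c_rc_13_0 lc_c_rc_13_0 lc_c_rc_11_1 lc_c_Cert_tree lc_c_rc_7_5 lc_c_rc_26_4 lc_c_rc_13_2 lc_c_rc_22_7 lc_c_Cert_tree lc_c_rc_11_1 lc_c_rc_13_2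 lc_c_rc_23_0 lc_c_Cert_tree lc_c_rc_14_2 lc_c_Cert_tree lc_c_rc_23_0 lc_c_rc_11_1 lc_c_rc_13_2 lc_c_Cert_tree lc_c_Cert_tree lc_c_rc_11_1 lc_c_rc_13_2 lc_c_rc_24_4 lc_c_rc_24_4 lc_c_rc_7_3 lc_c_rc_22_9 lc_c_rc_14_2 lc_c_rc_13_2 lc_c_rc_11_1 lc_c_Cert_tree lc_c_Cert_tree lc_c_rc_13_2 lc_c_Cert_tree lc_c_rc_11_1 lc_c_rc_13_2 lc_c_rc_11_1 lc_c_rc_26_4 lc_c_rc_11_1 lc_c_rc_13_2 lc_c_rc_11_1 lc_c_rc_13_2 lc_c_rc_11_1 lc_c_rc_11_1 lc_c_rc_7_3 lc_c_rc_13_2 lc_c_Cert_tree) (@D3.rec (fun _ => (Cert rels S Gen.c)) lc_c_Cert_tree lc_c_rc_13_2 lc_c_rc_22_3 lc_c_rc_11_1 lc_c_Cert_tree lc_c_rc_13_0 lc_c_rc_24_8 lc_c_rc_23_0 lc_c_rc_11_1 lc_c_rc_24_8 lc_c_rc_7_3 lc_c_rc_13_2 lc_c_rc_14_2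 lc_c_Cert_tree lc_c_rc_11_1 lc_c_rc_13_2 lc_c_rc_22_3 lc_c_rc_7_1 lc_c_rc_23_5 lc_c_rc_13_2 lc_c_rc_23_0 lc_c_Cert_tree lc_c_rc_14_2 lc_c_Cert_tree lc_c_rc_11_1 lc_c_rc_13_2 lc_c_rc_7_1 lc_c_rc_22_3 lc_c_rc_13_2 lc_c_Cert_tree lc_c_Cert_tree lc_c_rc_13_2 lc_c_rc_7_3 lc_c_rc_12_4 lc_c_rc_13_2 lc_c_Cert_tree lc_c_Cert_tree lc_c_rc_13_2 lc_c_Cert_tree lc_c_Cert_tree lc_c_rc_2_3 lc_c_Cert_tree lc_c_rc_14_2 lc_c_rc_13_2 lc_c_rc_13_2 lc_c_rc_26_10 lc_c_rc_11_1 lc_c_rc_2_1 lc_c_Cert_tree lc_c_rc_2_1 lc_c_rc_13_2 lc_c_rc_26_2 lc_c_rc_14_0 lc_c_rc_11_1 lc_c_rc_26_10 lc_c_Cert_tree lc_c_rc_14_2 lc_c_rc_2_3 lc_c_rc_13_2 lc_c_rc_26_4 lc_c_rc_11_1 lc_c_rc_7_5) (@D3.rec (fun _ =>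 (Cert rels S Gen.c)) lc_c_rc_14_0 lc_c_Cert_tree lc_c_rc_11_1 lc_c_rc_13_0 lc_c_rc_11_1 lc_c_rc_22_3 lc_c_rc_2_3 lc_c_rc_25_17 lc_c_Cert_tree lc_c_rc_11_1 lc_c_rc_24_2 lc_c_rc_11_1 lc_c_rc_23_5 lc_c_Cert_tree lc_c_rc_23_5 lc_c_rc_12_14 lc_c_rc_11_1 lc_c_rc_11_1 lc_c_rc_14_0 lc_c_rc_11_1 lc_c_rc_14_2 lc_c_rc_14_2 lc_c_rc_2_1 lc_c_Cert_tree lc_c_rc_26_2 lc_c_rc_7_5 lc_c_rc_13_2 lc_c_rc_7_1 lc_c_rc_2_3 lc_c_rc_13_2 lc_c_Cert_tree lc_c_Cert_tree lc_c_rc_11_1 lc_c_rc_7_3 lc_c_Cert_tree lc_c_rc_25_1 lc_c_rc_11_1 lc_c_rc_13_2 lc_c_rc_7_5 lc_c_rc_11_1 lc_c_rc_23_0 lc_c_Cert_tree lc_c_rc_13_2 lc_c_Cert_tree lc_c_rc_13_2 lc_c_rc_7_5 lc_c_rc_11_1 lc_c_rc_13_0 lc_c_rc_7_5 lc_c_rc_12_6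 lc_c_rc_24_6 lc_c_Cert_tree lc_c_rc_14_2 lc_c_rc_23_0 lc_c_rc_11_1 lc_c_Cert_tree lc_c_rc_23_0 lc_c_rc_24_4 lc_c_rc_11_1 lc_c_Cert_tree lc_c_rc_13_2 lc_c_rc_7_3) (@D3.rec (fun _ => (Cert rels S Gen.c)) lc_c_Cert_tree lc_c_Cert_tree lc_c_rc_11_1 lc_c_rc_14_2 lc_c_Cert_tree lc_c_Cert_tree lc_c_rc_11_1 lc_c_rc_23_0 lc_c_Cert_tree lc_c_Cert_tree lc_c_rc_11_1 lc_c_rc_13_2 lc_c_rc_11_1 lc_c_rc_7_5 lc_c_rc_11_1 lc_c_rc_11_1 lc_c_rc_24_4 lc_c_rc_7_3 lc_c_rc_11_1 lc_c_rc_14_2 lc_c_rc_13_2 lc_c_rc_26_2 lc_c_rc_7_5 lc_c_rc_11_1 lc_c_rc_12_2 lc_c_rc_13_2 lc_c_rc_11_1 lc_c_rc_11_1 lc_c_rc_14_2 lc_c_rc_7_5 lc_c_rc_7_5 lc_c_Cert_tree lc_c_rc_2_3 lc_c_Cert_tree lc_c_rc_11_1 lc_c_Cert_tree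 lc_c_rc_2_3 lc_c_Cert_tree lc_c_Cert_tree lc_c_rc_11_1 lc_c_rc_23_0 lc_c_rc_24_8 lc_c_rc_14_2 lc_c_rc_24_8 lc_c_rc_11_1 lc_c_rc_11_1 lc_c_rc_24_6 lc_c_rc_24_6 lc_c_rc_13_0 lc_c_rc_24_8 lc_c_rc_13_2 lc_c_Cert_tree lc_c_Cert_tree lc_c_rc_2_3 lc_c_rc_14_2 lc_c_Cert_tree lc_c_rc_11_1 lc_c_rc_22_3 lc_c_rc_2_1 lc_c_rc_13_2 lc_c_rc_11_1 lc_c_rc_24_6) (@D3.rec (fun _ => (Cert rels S Gen.c)) lc_c_Cert_tree lc_c_rc_26_2 lc_c_rc_11_1 lc_c_rc_14_0 lc_c_Cert_tree lc_c_rc_14_2 lc_c_rc_11_1 lc_c_rc_13_2 lc_c_Cert_tree lc_c_Cert_tree lc_c_rc_14_2 lc_c_rc_11_1 lc_c_rc_24_2 lc_c_Cert_tree lc_c_rc_11_1 lc_c_Cert_tree lc_c_rc_13_2 lc_c_rc_24_6 lc_c_rc_2_3 lc_c_rc_7_1 lc_c_rc_22_3 lc_c_rc_13_2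 lc_c_rc_11_1 lc_c_Cert_tree lc_c_Cert_tree lc_c_rc_14_2 lc_c_rc_7_3 lc_c_rc_26_10 lc_c_rc_13_2 lc_c_rc_11_1 lc_c_rc_11_1 lc_c_rc_24_2 lc_c_rc_22_9 lc_c_rc_26_2 lc_c_Cert_tree lc_c_rc_24_4 lc_c_rc_23_0 lc_c_rc_11_1 lc_c_rc_13_2 lc_c_Cert_tree lc_c_Cert_tree lc_c_rc_2_3 lc_c_rc_13_0 lc_c_rc_14_2 lc_c_rc_24_6 lc_c_rc_11_1 lc_c_rc_13_2 lc_c_rc_13_0 lc_c_rc_13_2 lc_c_Cert_tree lc_c_rc_11_1 lc_c_rc_26_4 lc_c_rc_13_0 lc_c_rc_13_0 lc_c_Cert_tree lc_c_rc_11_1 lc_c_rc_13_2 lc_c_Cert_tree lc_c_rc_14_0 lc_c_rc_13_2 lc_c_rc_11_1 lc_c_rc_25_1) (@D3.rec (fun _ => (Cert rels S Gen.c)) lc_c_rc_24_2 lc_c_rc_2_1 lc_c_rc_11_1 lc_c_rc_13_2 lc_c_Cert_tree lc_c_rc_11_1 lc_c_rc_23_5 lc_c_rc_11_1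 lc_c_rc_24_6 lc_c_rc_7_3 lc_c_rc_22_5 lc_c_rc_13_2 lc_c_rc_11_1 lc_c_rc_11_1 lc_c_rc_13_0 lc_c_rc_14_2 lc_c_rc_13_2 lc_c_Cert_tree lc_c_rc_11_1 lc_c_rc_7_3 lc_c_rc_13_2 lc_c_Cert_tree lc_c_rc_11_1 lc_c_rc_26_2 lc_c_rc_11_1 lc_c_rc_22_7 lc_c_rc_11_1 lc_c_rc_11_1 lc_c_rc_11_1 lc_c_rc_7_1 lc_c_rc_23_5 lc_c_rc_13_2 lc_c_Cert_tree lc_c_Cert_tree lc_c_rc_14_2 lc_c_rc_7_3 lc_c_rc_12_14 lc_c_rc_13_2 lc_c_Cert_tree lc_c_rc_13_2 lc_c_Cert_tree lc_c_rc_13_2 lc_c_Cert_tree lc_c_Cert_tree lc_c_rc_2_3 lc_c_rc_13_2 lc_c_rc_26_4 lc_c_rc_14_2 lc_c_rc_11_1 lc_c_rc_11_1 lc_c_rc_11_1 lc_c_rc_24_4 lc_c_rc_13_2 lc_c_rc_13_2 lc_c_Cert_tree lc_c_rc_11_1 lc_c_rc_23_0 lc_c_rc_7_1 lc_c_rc_11_1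 lc_c_rc_26_10 lc_c_rc_2_3 lc_c_rc_7_5) (@D3.rec (fun _ => (Cert rels S Gen.c)) lc_c_rc_23_0 lc_c_rc_2_3 lc_c_rc_26_4 lc_c_rc_11_1 lc_c_rc_13_2 lc_c_rc_11_1 lc_c_rc_7_3 lc_c_rc_11_1 lc_c_rc_24_8 lc_c_rc_26_10 lc_c_rc_2_3 lc_c_rc_7_3 lc_c_Cert_tree lc_c_Cert_tree lc_c_rc_25_13 lc_c_Cert_tree lc_c_Cert_tree lc_c_rc_13_2 lc_c_rc_14_2 lc_c_rc_26_2 lc_c_rc_11_1 lc_c_Cert_tree lc_c_rc_11_1 lc_c_rc_13_2 lc_c_rc_13_2 lc_c_rc_11_1 lc_c_rc_11_1 lc_c_rc_14_2 lc_c_rc_13_0 lc_c_rc_2_3 lc_c_rc_7_1 lc_c_rc_23_0 lc_c_rc_13_0 lc_c_Cert_tree lc_c_Cert_tree lc_c_Cert_tree lc_c_rc_13_2 lc_c_rc_14_2 lc_c_rc_11_1 lc_c_rc_24_4 lc_c_Cert_tree lc_c_rc_11_1 lc_c_rc_23_5 lc_c_rc_11_1 lc_c_Cert_tree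 lc_c_rc_11_1 lc_c_rc_14_2 lc_c_rc_23_0 lc_c_Cert_tree lc_c_rc_11_1 lc_c_rc_13_2 lc_c_rc_13_2 lc_c_rc_14_2 lc_c_rc_13_0 lc_c_Cert_tree lc_c_rc_11_1 lc_c_rc_13_2 lc_c_Cert_tree lc_c_rc_14_2 lc_c_rc_14_2 lc_c_Cert_tree lc_c_Cert_tree) (@D3.rec (fun _ => (Cert rels S Gen.c)) lc_c_rc_11_1 lc_c_Cert_tree lc_c_rc_23_5 lc_c_rc_14_2 lc_c_Cert_tree lc_c_rc_11_1 lc_c_Cert_tree lc_c_rc_13_2 lc_c_rc_22_9 lc_c_rc_26_10 lc_c_rc_11_1 lc_c_rc_11_1 lc_c_rc_13_2 lc_c_rc_22_3 lc_c_rc_26_4 lc_c_rc_14_2 lc_c_rc_26_8 lc_c_rc_24_2 lc_c_rc_7_1 lc_c_rc_11_1 lc_c_rc_11_1 lc_c_rc_13_2 lc_c_rc_11_1 lc_c_Cert_tree lc_c_Cert_tree lc_c_Cert_tree lc_c_rc_11_1 lc_c_rc_14_2 lc_c_rc_14_2 lc_c_Cert_tree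 lc_c_rc_11_1 lc_c_rc_7_5 lc_c_rc_26_2 lc_c_rc_14_2 lc_c_rc_11_1 lc_c_rc_14_2 lc_c_rc_11_1 lc_c_rc_11_1 lc_c_Cert_tree lc_c_Cert_tree lc_c_rc_13_2 lc_c_rc_22_3 lc_c_rc_14_2 lc_c_rc_2_3 lc_c_rc_11_1 lc_c_rc_13_2 lc_c_rc_7_3 lc_c_rc_13_2 lc_c_Cert_tree lc_c_Cert_tree lc_c_rc_14_2 lc_c_rc_11_1 lc_c_rc_14_0 lc_c_rc_2_3 lc_c_rc_24_4 lc_c_rc_24_4 lc_c_rc_13_2 lc_c_rc_7_3 lc_c_rc_22_3 lc_c_rc_13_2 lc_c_Cert_tree lc_c_rc_7_5) (@D3.rec (fun _ => (Cert rels S Gen.c)) lc_c_rc_14_2 lc_c_Cert_tree lc_c_rc_13_2 lc_c_rc_11_1 lc_c_rc_22_3 lc_c_rc_13_2 lc_c_Cert_tree lc_c_Cert_tree lc_c_rc_2_3 lc_c_rc_26_4 lc_c_rc_13_2 lc_c_rc_26_4 lc_c_Cert_tree lc_c_Cert_tree lc_c_rc_13_2 lc_c_Cert_tree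 lc_c_Cert_tree lc_c_rc_11_1 lc_c_rc_7_5 lc_c_rc_2_1 lc_c_Cert_tree lc_c_rc_11_1 lc_c_rc_13_2 lc_c_rc_26_2 lc_c_rc_2_3 lc_c_Cert_tree lc_c_rc_11_1 lc_c_rc_13_2 lc_c_rc_26_10 lc_c_Cert_tree lc_c_Cert_tree lc_c_rc_26_10 lc_c_Cert_tree lc_c_rc_11_1 lc_c_rc_7_5 lc_c_rc_24_4 lc_c_rc_11_1 lc_c_rc_14_2 lc_c_rc_11_1 lc_c_Cert_tree lc_c_rc_11_1 lc_c_rc_11_1 lc_c_rc_13_2 lc_c_rc_24_8 lc_c_rc_11_1 lc_c_rc_7_5 lc_c_rc_22_9 lc_c_rc_11_1 lc_c_rc_23_0 lc_c_rc_13_2 lc_c_rc_11_1 lc_c_rc_11_1 lc_c_rc_7_3 lc_c_Cert_tree lc_c_rc_13_2 lc_c_Cert_tree lc_c_Cert_tree lc_c_rc_11_1 lc_c_rc_14_2 lc_c_Cert_tree lc_c_rc_14_2 lc_c_rc_14_0) (@D3.rec (fun _ => (Cert rels S Gen.c)) lc_c_rc_11_1 lc_c_Cert_tree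 lc_c_rc_11_1 lc_c_rc_13_2 lc_c_rc_26_4 lc_c_rc_13_2 lc_c_rc_23_0 lc_c_rc_24_8 lc_c_rc_14_2 lc_c_Cert_tree lc_c_rc_11_1 lc_c_rc_7_5 lc_c_rc_13_2 lc_c_rc_7_1 lc_c_rc_13_2 lc_c_rc_26_2 lc_c_rc_24_8 lc_c_rc_14_2 lc_c_Cert_tree lc_c_Cert_tree lc_c_rc_2_3 lc_c_rc_24_2 lc_c_rc_14_2 lc_c_Cert_tree lc_c_rc_11_1 lc_c_rc_11_1 lc_c_rc_13_2 lc_c_rc_11_1 lc_c_rc_26_10 lc_c_rc_23_5 lc_c_rc_13_0 lc_c_rc_23_0 lc_c_rc_11_1 lc_c_rc_22_3 lc_c_rc_7_3 lc_c_rc_13_2 lc_c_rc_7_3 lc_c_rc_11_1 lc_c_rc_23_5 lc_c_rc_13_2 lc_c_rc_13_0 lc_c_rc_24_4 lc_c_rc_2_3 lc_c_Cert_tree lc_c_rc_13_2 lc_c_rc_11_1 lc_c_rc_2_3 lc_c_rc_26_4 lc_c_rc_13_2 lc_c_rc_11_1 lc_c_rc_13_0 lc_c_rc_24_8 lc_c_rc_2_3 lc_c_Cert_tree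 lc_c_Cert_tree lc_c_Cert_tree lc_c_rc_7_5 lc_c_rc_13_2 lc_c_rc_2_3 lc_c_Cert_tree lc_c_rc_11_1 lc_c_rc_13_2) (@D3.rec (fun _ => (Cert rels S Gen.c)) lc_c_rc_11_1 lc_c_rc_11_1 lc_c_Cert_tree lc_c_rc_13_2 lc_c_Cert_tree lc_c_rc_13_2 lc_c_rc_7_3 lc_c_rc_13_2 lc_c_rc_23_0 lc_c_rc_13_0 lc_c_rc_13_0 lc_c_Cert_tree lc_c_rc_2_3 lc_c_rc_11_1 lc_c_rc_7_5 lc_c_rc_11_1 lc_c_rc_13_2 lc_c_Cert_tree lc_c_rc_11_1 lc_c_Cert_tree lc_c_rc_12_14 lc_c_rc_11_1 lc_c_rc_13_2 lc_c_rc_24_6 lc_c_rc_24_4 lc_c_rc_7_3 lc_c_rc_22_7 lc_c_Cert_tree lc_c_Cert_tree lc_c_Cert_tree lc_c_rc_26_10 lc_c_Cert_tree lc_c_rc_11_1 lc_c_rc_14_2 lc_c_rc_7_5 lc_c_Cert_tree lc_c_rc_2_3 lc_c_rc_26_2 lc_c_Cert_tree lc_c_rc_14_2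 lc_c_rc_11_1 lc_c_Cert_tree lc_c_rc_26_10 lc_c_rc_7_3 lc_c_rc_11_1 lc_c_rc_14_2 lc_c_Cert_tree lc_c_Cert_tree lc_c_rc_11_1 lc_c_rc_14_2 lc_c_rc_7_3 lc_c_rc_23_0 lc_c_rc_26_4 lc_c_rc_11_1 lc_c_rc_24_6 lc_c_rc_23_5 lc_c_rc_22_5 lc_c_rc_22_5 lc_c_rc_26_10 lc_c_rc_24_2 lc_c_rc_11_1 lc_c_rc_13_2) (@D3.rec (fun _ => (Cert rels S Gen.c)) lc_c_Cert_tree lc_c_rc_26_2 lc_c_rc_11_1 lc_c_rc_13_2 lc_c_rc_23_0 lc_c_rc_11_1 lc_c_rc_7_3 lc_c_rc_13_2 lc_c_rc_23_0 lc_c_rc_24_4 lc_c_rc_13_2 lc_c_rc_14_2 lc_c_Cert_tree lc_c_Cert_tree lc_c_rc_11_1 lc_c_rc_13_2 lc_c_rc_22_3 lc_c_rc_13_2 lc_c_Cert_tree lc_c_Cert_tree lc_c_rc_14_2 lc_c_rc_7_1 lc_c_rc_2_3 lc_c_rc_26_8 lc_c_rc_13_2 lc_c_rc_7_1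 lc_c_rc_14_2 lc_c_rc_13_2 lc_c_rc_26_2 lc_c_rc_13_2 lc_c_rc_26_10 lc_c_rc_26_2 lc_c_rc_14_2 lc_c_rc_7_3 lc_c_rc_22_3 lc_c_Cert_tree lc_c_Cert_tree lc_c_rc_2_3 lc_c_rc_7_3 lc_c_rc_12_14 lc_c_rc_11_1 lc_c_Cert_tree lc_c_rc_2_3 lc_c_rc_26_2 lc_c_rc_14_2 lc_c_rc_26_4 lc_c_rc_11_1 lc_c_Cert_tree lc_c_rc_2_3 lc_c_rc_11_1 lc_c_rc_13_2 lc_c_rc_26_2 lc_c_rc_23_0 lc_c_rc_23_0 lc_c_Cert_tree lc_c_rc_14_2 lc_c_rc_11_1 lc_c_rc_11_1 lc_c_rc_26_4 lc_c_rc_11_1 lc_c_Cert_tree lc_c_rc_2_3) (@D3.rec (fun _ => (Cert rels S Gen.c)) lc_c_rc_11_1 lc_c_rc_23_5 lc_c_rc_13_2 lc_c_rc_26_4 lc_c_rc_26_8 lc_c_rc_26_4 lc_c_rc_11_1 lc_c_rc_11_1 lc_c_Cert_tree lc_c_rc_2_3 lc_c_Cert_tree lc_c_rc_11_1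 lc_c_rc_26_10 lc_c_rc_23_0 lc_c_rc_14_2 lc_c_rc_11_1 lc_c_Cert_tree lc_c_rc_13_0 lc_c_rc_11_1 lc_c_rc_13_2 lc_c_rc_7_3 lc_c_rc_13_2 lc_c_Cert_tree lc_c_Cert_tree lc_c_rc_14_2 lc_c_Cert_tree lc_c_Cert_tree lc_c_rc_2_3 lc_c_rc_13_2 lc_c_rc_11_1 lc_c_rc_14_2 lc_c_rc_25_5 lc_c_rc_11_1 lc_c_rc_11_1 lc_c_rc_22_3 lc_c_rc_11_1 lc_c_Cert_tree lc_c_rc_13_2 lc_c_rc_13_2 lc_c_rc_2_3 lc_c_rc_11_1 lc_c_Cert_tree lc_c_rc_11_1 lc_c_Cert_tree lc_c_rc_13_2 lc_c_Cert_tree lc_c_Cert_tree lc_c_rc_11_1 lc_c_rc_26_8 lc_c_rc_22_5 lc_c_Cert_tree lc_c_rc_11_1 lc_c_rc_23_0 lc_c_rc_11_1 lc_c_rc_13_2 lc_c_Cert_tree lc_c_rc_13_2 lc_c_rc_24_6 lc_c_rc_7_3 lc_c_rc_13_2 lc_c_rc_2_3 lc_c_rc_11_1) (@D3.rec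 (fun _ => (Cert rels S Gen.c)) lc_c_rc_22_3 lc_c_rc_11_1 lc_c_rc_13_2 lc_c_rc_7_3 lc_c_rc_24_2 lc_c_rc_13_2 lc_c_rc_14_2 lc_c_Cert_tree lc_c_rc_7_5 lc_c_rc_2_3 lc_c_rc_26_2 lc_c_rc_11_1 lc_c_Cert_tree lc_c_rc_13_2 lc_c_Cert_tree lc_c_rc_24_4 lc_c_rc_13_2 lc_c_rc_13_2 lc_c_rc_14_2 lc_c_rc_13_2 lc_c_rc_14_2 lc_c_rc_26_10 lc_c_rc_13_2 lc_c_rc_11_1 lc_c_rc_2_3 lc_c_rc_11_1 lc_c_rc_11_1 lc_c_Cert_tree lc_c_rc_13_2 lc_c_rc_7_3 lc_c_rc_23_0 lc_c_rc_26_4 lc_c_Cert_tree lc_c_Cert_tree lc_c_rc_14_0 lc_c_rc_14_2 lc_c_rc_13_0 lc_c_rc_11_1 lc_c_rc_7_3 lc_c_rc_11_1 lc_c_Cert_tree lc_c_rc_11_1 lc_c_Cert_tree lc_c_rc_26_4 lc_c_rc_22_5 lc_c_rc_12_2 lc_c_rc_11_1 lc_c_rc_13_2 lc_c_rc_23_0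 lc_c_Cert_tree lc_c_rc_11_1 lc_c_rc_13_2 lc_c_Cert_tree lc_c_rc_11_1 lc_c_rc_13_2 lc_c_rc_11_1 lc_c_rc_23_5 lc_c_rc_11_1 lc_c_rc_7_3 lc_c_Cert_tree lc_c_rc_14_2 lc_c_rc_13_2) (@D3.rec (fun _ => (Cert rels S Gen.c)) lc_c_rc_11_1 lc_c_Cert_tree lc_c_Cert_tree lc_c_Cert_tree lc_c_Cert_tree lc_c_rc_11_1 lc_c_rc_13_2 lc_c_rc_7_5 lc_c_Cert_tree lc_c_rc_11_1 lc_c_rc_11_1 lc_c_rc_24_4 lc_c_rc_24_2 lc_c_rc_13_2 lc_c_rc_2_1 lc_c_rc_11_1 lc_c_rc_7_5 lc_c_rc_26_8 lc_c_Cert_tree lc_c_rc_23_0 lc_c_Cert_tree lc_c_rc_24_2 lc_c_rc_11_1 lc_c_rc_13_2 lc_c_rc_23_5 lc_c_rc_23_0 lc_c_Cert_tree lc_c_rc_26_8 lc_c_rc_13_2 lc_c_Cert_tree lc_c_Cert_tree lc_c_rc_13_2 lc_c_rc_14_2 lc_c_Cert_tree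 lc_c_rc_11_1 lc_c_rc_13_2 lc_c_rc_24_6 lc_c_rc_24_8 lc_c_rc_13_2 lc_c_rc_24_4 lc_c_rc_23_0 lc_c_rc_14_2 lc_c_rc_13_0 lc_c_rc_11_1 lc_c_rc_11_1 lc_c_rc_7_1 lc_c_rc_13_2 lc_c_rc_24_8 lc_c_rc_11_1 lc_c_rc_14_2 lc_c_rc_13_2 lc_c_rc_2_3 lc_c_rc_11_1 lc_c_rc_13_0 lc_c_rc_2_3 lc_c_rc_22_5 lc_c_rc_14_2 lc_c_rc_13_2 lc_c_rc_26_4 lc_c_rc_26_10 lc_c_rc_7_5 lc_c_rc_11_1) (@D3.rec (fun _ => (Cert rels S Gen.c)) lc_c_rc_7_5 lc_c_rc_13_2 lc_c_rc_13_2 lc_c_rc_24_4 lc_c_rc_23_0 lc_c_rc_22_5 lc_c_rc_2_3 lc_c_rc_22_9 lc_c_rc_13_2 lc_c_rc_22_7 lc_c_rc_22_9 lc_c_rc_13_2 lc_c_rc_7_3 lc_c_rc_14_2 lc_c_rc_7_3 lc_c_rc_7_5 lc_c_rc_26_10 lc_c_rc_11_1 lc_c_rc_2_3 lc_c_Cert_tree lc_c_rc_13_2 lc_c_Cert_tree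 lc_c_rc_11_1 lc_c_rc_13_2 lc_c_rc_7_3 lc_c_rc_22_9 lc_c_rc_14_2 lc_c_rc_14_0 lc_c_rc_11_1 lc_c_rc_23_5 lc_c_Cert_tree lc_c_rc_11_1 lc_c_rc_11_1 lc_c_rc_26_10 lc_c_Cert_tree lc_c_rc_14_2 lc_c_rc_7_3 lc_c_rc_13_2 lc_c_Cert_tree lc_c_rc_7_5 lc_c_rc_13_2 lc_c_rc_14_2 lc_c_rc_7_5 lc_c_rc_11_1 lc_c_rc_12_2 lc_c_rc_13_2 lc_c_rc_26_8 lc_c_rc_26_8 lc_c_rc_14_2 lc_c_rc_11_1 lc_c_rc_13_2 lc_c_rc_13_2 lc_c_rc_7_5 lc_c_rc_11_1 lc_c_rc_11_1 lc_c_Cert_tree lc_c_rc_14_2 lc_c_rc_26_4 lc_c_rc_11_1 lc_c_Cert_tree lc_c_rc_11_1 lc_c_Cert_tree) (@D3.rec (fun _ => (Cert rels S Gen.c)) lc_c_rc_13_2 lc_c_Cert_tree lc_c_Cert_tree lc_c_rc_11_1 lc_c_rc_14_2 lc_c_rc_26_2 lc_c_rc_11_1 lc_c_rc_7_5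 lc_c_rc_24_2 lc_c_rc_11_1 lc_c_rc_7_5 lc_c_rc_13_2 lc_c_Cert_tree lc_c_rc_11_1 lc_c_rc_14_2 lc_c_rc_24_6 lc_c_rc_7_5 lc_c_rc_11_1 lc_c_rc_7_5 lc_c_rc_11_1 lc_c_rc_7_3 lc_c_rc_14_2 lc_c_rc_13_2 lc_c_rc_11_1 lc_c_rc_7_3 lc_c_rc_11_1 lc_c_rc_13_2 lc_c_rc_26_4 lc_c_rc_7_5 lc_c_Cert_tree lc_c_rc_14_2 lc_c_rc_13_2 lc_c_Cert_tree lc_c_rc_26_4 lc_c_Cert_tree lc_c_rc_14_0 lc_c_rc_11_1 lc_c_Cert_tree lc_c_Cert_tree lc_c_rc_11_1 lc_c_Cert_tree lc_c_rc_7_1 lc_c_rc_7_3 lc_c_rc_13_2 lc_c_rc_7_5 lc_c_rc_11_1 lc_c_rc_13_0 lc_c_rc_14_2 lc_c_Cert_tree lc_c_rc_7_5 lc_c_rc_24_8 lc_c_rc_11_1 lc_c_rc_14_2 lc_c_rc_13_2 lc_c_Cert_tree lc_c_rc_13_2 lc_c_rc_26_2 lc_c_rc_14_2 lc_c_rc_14_0 lc_c_rc_2_3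 lc_c_rc_11_1 lc_c_rc_14_2) (@D3.rec (fun _ => (Cert rels S Gen.c)) lc_c_rc_11_1 lc_c_rc_13_2 lc_c_rc_24_4 lc_c_rc_24_4 lc_c_Cert_tree lc_c_rc_14_2 lc_c_rc_26_2 lc_c_rc_23_5 lc_c_rc_11_1 lc_c_Cert_tree lc_c_Cert_tree lc_c_rc_13_2 lc_c_rc_23_5 lc_c_rc_23_5 lc_c_rc_11_1 lc_c_rc_14_2 lc_c_Cert_tree lc_c_rc_22_5 lc_c_rc_13_0 lc_c_rc_13_2 lc_c_rc_11_1 lc_c_rc_24_4 lc_c_Cert_tree lc_c_Cert_tree lc_c_rc_11_1 lc_c_rc_23_0 lc_c_rc_23_0 lc_c_rc_22_3 lc_c_rc_2_1 lc_c_rc_11_1 lc_c_rc_23_5 lc_c_rc_13_2 lc_c_rc_7_1 lc_c_rc_13_2 lc_c_rc_11_1 lc_c_rc_7_5 lc_c_rc_13_2 lc_c_rc_26_10 lc_c_rc_14_2 lc_c_rc_7_3 lc_c_rc_11_1 lc_c_rc_13_2 lc_c_rc_11_1 lc_c_rc_11_1 lc_c_rc_24_6 lc_c_rc_7_3 lc_c_Cert_tree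 lc_c_rc_14_2 lc_c_rc_13_2 lc_c_rc_11_1 lc_c_Cert_tree lc_c_rc_13_2 lc_c_Cert_tree lc_c_rc_11_1 lc_c_rc_13_2 lc_c_rc_13_0 lc_c_Cert_tree lc_c_rc_22_3 lc_c_rc_2_3 lc_c_rc_24_8 lc_c_rc_24_2 lc_c_rc_13_2) (@D3.rec (fun _ => (Cert rels S Gen.c)) lc_c_rc_23_5 lc_c_rc_24_8 lc_c_rc_7_3 lc_c_rc_13_2 lc_c_Cert_tree lc_c_Cert_tree lc_c_rc_13_0 lc_c_rc_13_2 lc_c_rc_24_4 lc_c_rc_13_2 lc_c_Cert_tree lc_c_Cert_tree lc_c_rc_7_5 lc_c_rc_2_3 lc_c_rc_26_2 lc_c_rc_13_2 lc_c_rc_11_1 lc_c_rc_13_2 lc_c_rc_26_10 lc_c_rc_2_3 lc_c_rc_13_0 lc_c_rc_14_2 lc_c_rc_13_2 lc_c_rc_13_2 lc_c_Cert_tree lc_c_Cert_tree lc_c_rc_11_1 lc_c_rc_11_1 lc_c_rc_11_1 lc_c_rc_13_2 lc_c_rc_14_0 lc_c_rc_7_1 lc_c_rc_24_8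 lc_c_rc_11_1 lc_c_rc_11_1 lc_c_rc_11_1 lc_c_rc_11_1 lc_c_rc_13_2 lc_c_rc_13_2 lc_c_rc_11_1 lc_c_rc_13_2 lc_c_rc_26_2 lc_c_rc_13_2 lc_c_rc_26_10 lc_c_rc_11_1 lc_c_rc_14_2 lc_c_rc_7_5 lc_c_rc_22_7 lc_c_rc_11_1 lc_c_rc_13_2 lc_c_rc_2_3 lc_c_rc_22_7 lc_c_rc_2_3 lc_c_rc_13_2 lc_c_Cert_tree lc_c_Cert_tree lc_c_rc_13_2 lc_c_rc_14_2 lc_c_rc_11_1 lc_c_rc_12_2 lc_c_rc_11_1 lc_c_rc_2_3) (@D3.rec (fun _ => (Cert rels S Gen.c)) lc_c_Cert_tree lc_c_rc_2_1 lc_c_rc_7_1 lc_c_rc_24_2 lc_c_rc_13_2 lc_c_rc_13_2 lc_c_Cert_tree lc_c_rc_11_1 lc_c_rc_2_3 lc_c_rc_11_1 lc_c_rc_23_5 lc_c_rc_22_3 lc_c_rc_7_5 lc_c_rc_13_0 lc_c_rc_13_2 lc_c_Cert_tree lc_c_Cert_tree lc_c_rc_14_2 lc_c_Cert_tree lc_c_Cert_tree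 lc_c_rc_13_2 lc_c_Cert_tree lc_c_rc_11_1 lc_c_rc_7_3 lc_c_rc_13_2 lc_c_rc_22_3 lc_c_rc_26_4 lc_c_rc_13_2 lc_c_rc_26_2 lc_c_Cert_tree lc_c_rc_11_1 lc_c_rc_26_2 lc_c_Cert_tree lc_c_rc_23_5 lc_c_rc_14_2 lc_c_rc_13_2 lc_c_rc_11_1 lc_c_rc_11_1 lc_c_rc_22_3 lc_c_rc_11_1 lc_c_rc_13_2 lc_c_rc_13_2 lc_c_rc_24_4 lc_c_rc_11_1 lc_c_rc_13_2 lc_c_Cert_tree lc_c_rc_11_1 lc_c_rc_25_5 lc_c_rc_13_2 lc_c_rc_26_2 lc_c_Cert_tree lc_c_rc_11_1 lc_c_rc_14_2 lc_c_rc_11_1 lc_c_rc_26_8 lc_c_rc_13_2 lc_c_rc_24_2 lc_c_rc_13_2 lc_c_rc_13_2 lc_c_Cert_tree lc_c_rc_7_3 lc_c_rc_11_1) (@D3.rec (fun _ => (Cert rels S Gen.c)) lc_c_rc_13_2 lc_c_rc_7_1 lc_c_rc_11_1 lc_c_rc_11_1 lc_c_rc_26_4 lc_c_rc_26_2 lc_c_rc_11_1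 lc_c_rc_13_2 lc_c_rc_11_1 lc_c_rc_2_1 lc_c_rc_26_2 lc_c_rc_13_2 lc_c_Cert_tree lc_c_rc_13_0 lc_c_rc_22_7 lc_c_rc_11_1 lc_c_rc_7_3 lc_c_rc_13_2 lc_c_rc_23_0 lc_c_rc_2_3 lc_c_Cert_tree lc_c_rc_13_2 lc_c_Cert_tree lc_c_rc_13_2 lc_c_Cert_tree lc_c_rc_7_3 lc_c_rc_13_2 lc_c_Cert_tree lc_c_Cert_tree lc_c_rc_22_9 lc_c_rc_26_2 lc_c_rc_11_1 lc_c_rc_13_2 lc_c_rc_13_2 lc_c_rc_11_1 lc_c_rc_13_2 lc_c_rc_11_1 lc_c_rc_14_0 lc_c_rc_26_2 lc_c_rc_13_2 lc_c_rc_13_0 lc_c_Cert_tree lc_c_rc_14_2 lc_c_rc_23_5 lc_c_rc_11_1 lc_c_rc_24_2 lc_c_rc_7_3 lc_c_rc_22_7 lc_c_rc_13_2 lc_c_rc_7_3 lc_c_rc_12_2 lc_c_rc_11_1 lc_c_rc_13_2 lc_c_Cert_tree lc_c_rc_26_2 lc_c_Cert_tree lc_c_rc_13_2 lc_c_Cert_tree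 lc_c_rc_26_10 lc_c_rc_11_1 lc_c_rc_11_1 lc_c_rc_13_2) (@D3.rec (fun _ => (Cert rels S Gen.c)) lc_c_rc_7_3 lc_c_rc_13_2 lc_c_Cert_tree lc_c_rc_24_8 lc_c_rc_14_2 lc_c_rc_11_1 lc_c_rc_7_5 lc_c_rc_23_0 lc_c_rc_11_1 lc_c_Cert_tree lc_c_rc_11_1 lc_c_Cert_tree lc_c_Cert_tree lc_c_rc_13_2 lc_c_Cert_tree lc_c_Cert_tree lc_c_rc_7_3 lc_c_rc_11_1 lc_c_rc_12_0 lc_c_rc_7_3 lc_c_rc_13_2 lc_c_rc_22_5 lc_c_rc_24_2 lc_c_rc_14_2 lc_c_rc_23_0 lc_c_rc_11_1 lc_c_rc_13_2 lc_c_Cert_tree lc_c_rc_11_1 lc_c_rc_13_2 lc_c_rc_24_6 lc_c_rc_7_3 lc_c_rc_13_2 lc_c_rc_7_5 lc_c_rc_11_1 lc_c_rc_24_4 lc_c_Cert_tree lc_c_rc_11_1 lc_c_rc_13_2 lc_c_rc_7_1 lc_c_rc_13_2 lc_c_rc_7_5 lc_c_rc_22_5 lc_c_rc_26_10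 lc_c_rc_26_8 lc_c_rc_11_1 lc_c_rc_11_1 lc_c_rc_7_1 lc_c_Cert_tree lc_c_Cert_tree lc_c_rc_23_5 lc_c_rc_22_3 lc_c_rc_13_2 lc_c_Cert_tree lc_c_rc_13_2 lc_c_rc_26_10 lc_c_rc_2_1 lc_c_Cert_tree lc_c_Cert_tree lc_c_rc_13_2 lc_c_rc_7_5 lc_c_rc_23_5) (@D3.rec (fun _ => (Cert rels S Gen.c)) lc_c_Cert_tree lc_c_rc_2_3 lc_c_rc_22_7 lc_c_rc_2_3 lc_c_rc_23_5 lc_c_rc_2_3 lc_c_Cert_tree lc_c_rc_24_6 lc_c_rc_2_3 lc_c_rc_26_2 lc_c_rc_7_3 lc_c_rc_13_2 lc_c_rc_24_2 lc_c_rc_22_3 lc_c_rc_11_1 lc_c_rc_23_5 lc_c_rc_2_1 lc_c_Cert_tree lc_c_rc_13_2 lc_c_rc_2_3 lc_c_rc_22_5 lc_c_rc_26_8 lc_c_Cert_tree lc_c_Cert_tree lc_c_rc_26_8 lc_c_rc_11_1 lc_c_rc_7_3 lc_c_rc_13_2 lc_c_rc_7_5 lc_c_rc_24_8 lc_c_rc_14_2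 lc_c_rc_7_3 lc_c_rc_11_1 lc_c_rc_22_3 lc_c_rc_11_1 lc_c_rc_11_1 lc_c_rc_24_2 lc_c_rc_22_3 lc_c_rc_26_4 lc_c_Cert_tree lc_c_rc_26_10 lc_c_rc_13_0 lc_c_Cert_tree lc_c_Cert_tree lc_c_rc_7_5 lc_c_rc_11_1 lc_c_rc_13_2 lc_c_rc_7_3 lc_c_rc_13_2 lc_c_rc_24_6 lc_c_rc_24_8 lc_c_rc_14_2 lc_c_rc_23_5 lc_c_rc_11_1 lc_c_rc_7_3 lc_c_rc_22_7 lc_c_rc_13_2 lc_c_rc_22_5 lc_c_rc_24_4 lc_c_rc_2_1 lc_c_Cert_tree lc_c_rc_11_1) (@D3.rec (fun _ => (Cert rels S Gen.c)) lc_c_rc_13_2 lc_c_rc_7_1 lc_c_rc_13_2 lc_c_rc_22_5 lc_c_rc_22_3 lc_c_rc_26_10 lc_c_Cert_tree lc_c_rc_11_1 lc_c_rc_13_2 lc_c_rc_22_5 lc_c_rc_13_2 lc_c_rc_22_3 lc_c_rc_26_4 lc_c_rc_7_5 lc_c_rc_23_0 lc_c_rc_14_2 lc_c_Cert_tree lc_c_rc_7_1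 lc_c_rc_13_2 lc_c_rc_22_7 lc_c_Cert_tree lc_c_rc_11_1 lc_c_rc_25_17 lc_c_rc_25_5 lc_c_rc_22_3 lc_c_rc_11_1 lc_c_rc_14_2 lc_c_rc_2_3 lc_c_rc_24_4 lc_c_rc_23_0 lc_c_rc_11_1 lc_c_rc_7_5 lc_c_Cert_tree lc_c_rc_2_3 lc_c_rc_23_0 lc_c_rc_11_1 lc_c_rc_7_3 lc_c_rc_11_1 lc_c_rc_7_5 lc_c_rc_11_1 lc_c_rc_11_1 lc_c_rc_2_3 lc_c_rc_13_2 lc_c_rc_13_0 lc_c_rc_13_0 lc_c_rc_14_2 lc_c_rc_11_1 lc_c_rc_11_1 lc_c_rc_11_1 lc_c_rc_7_3 lc_c_rc_13_2 lc_c_Cert_tree lc_c_rc_13_2 lc_c_rc_14_2 lc_c_rc_11_1 lc_c_Cert_tree lc_c_rc_13_2 lc_c_rc_11_1 lc_c_rc_26_2 lc_c_rc_14_2 lc_c_Cert_tree lc_c_Cert_tree) (@D3.rec (fun _ => (Cert rels S Gen.c)) lc_c_rc_2_3 lc_c_rc_22_3 lc_c_rc_13_2 lc_c_rc_7_3 lc_c_rc_22_7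 lc_c_rc_13_2 lc_c_rc_26_2 lc_c_rc_7_3 lc_c_rc_24_6 lc_c_Cert_tree lc_c_rc_13_0 lc_c_rc_7_1 lc_c_rc_14_2 lc_c_rc_26_2 lc_c_rc_11_1 lc_c_rc_11_1 lc_c_rc_13_2 lc_c_Cert_tree lc_c_Cert_tree lc_c_rc_2_3 lc_c_rc_13_2 lc_c_Cert_tree lc_c_rc_14_2 lc_c_rc_22_5 lc_c_rc_13_2 lc_c_rc_13_2 lc_c_rc_11_1 lc_c_Cert_tree lc_c_rc_11_1 lc_c_rc_13_2 lc_c_rc_11_1 lc_c_rc_13_2 lc_c_rc_26_2 lc_c_rc_11_1 lc_c_rc_7_5 lc_c_rc_11_1 lc_c_rc_2_3 lc_c_rc_13_2 lc_c_rc_2_1 lc_c_rc_14_2 lc_c_rc_26_10 lc_c_rc_11_1 lc_c_rc_2_3 lc_c_Cert_tree lc_c_rc_13_2 lc_c_rc_13_2 lc_c_rc_11_1 lc_c_rc_14_2 lc_c_rc_2_3 lc_c_Cert_tree lc_c_rc_2_3 lc_c_rc_11_1 lc_c_rc_13_2 lc_c_rc_14_2 lc_c_rc_13_0 lc_c_rc_11_1 lc_c_rc_11_1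 lc_c_rc_14_2 lc_c_rc_24_8 lc_c_rc_24_4 lc_c_rc_14_0 lc_c_rc_13_2) (@D3.rec (fun _ => (Cert rels S Gen.c)) lc_c_rc_11_1 lc_c_rc_24_6 lc_c_rc_14_2 lc_c_Cert_tree lc_c_rc_26_2 lc_c_Cert_tree lc_c_rc_23_5 lc_c_Cert_tree lc_c_rc_23_5 lc_c_rc_13_2 lc_c_rc_13_2 lc_c_rc_13_0 lc_c_rc_24_8 lc_c_rc_13_2 lc_c_rc_7_3 lc_c_rc_11_1 lc_c_rc_2_3 lc_c_rc_13_2 lc_c_rc_22_7 lc_c_rc_14_2 lc_c_rc_13_2 lc_c_rc_14_2 lc_c_rc_11_1 lc_c_rc_13_2 lc_c_rc_23_0 lc_c_rc_24_8 lc_c_Cert_tree lc_c_rc_14_2 lc_c_rc_11_1 lc_c_rc_11_1 lc_c_rc_11_1 lc_c_rc_13_2 lc_c_rc_13_2 lc_c_rc_11_1 lc_c_rc_13_2 lc_c_rc_25_1 lc_c_rc_22_9 lc_c_rc_14_2 lc_c_rc_24_8 lc_c_rc_24_8 lc_c_rc_14_2 lc_c_rc_11_1 lc_c_rc_11_1 lc_c_rc_7_3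 lc_c_rc_11_1 lc_c_rc_13_2 lc_c_rc_11_1 lc_c_rc_11_1 lc_c_rc_13_2 lc_c_rc_11_1 lc_c_rc_24_6 lc_c_rc_7_3 lc_c_rc_12_2 lc_c_rc_13_2 lc_c_rc_14_2 lc_c_Cert_tree lc_c_Cert_tree lc_c_rc_14_2 lc_c_rc_13_2 lc_c_Cert_tree lc_c_rc_11_1 lc_c_rc_13_2) (@D3.rec (fun _ => (Cert rels S Gen.c)) lc_c_rc_24_8 lc_c_rc_11_1 lc_c_rc_14_2 lc_c_rc_11_1 lc_c_rc_13_2 lc_c_rc_24_4 lc_c_rc_22_9 lc_c_rc_14_2 lc_c_rc_23_0 lc_c_rc_11_1 lc_c_rc_11_1 lc_c_rc_13_2 lc_c_rc_11_1 lc_c_rc_11_1 lc_c_Cert_tree lc_c_rc_14_2 lc_c_rc_12_0 lc_c_rc_11_1 lc_c_rc_12_2 lc_c_rc_13_2 lc_c_rc_14_2 lc_c_rc_11_1 lc_c_rc_14_2 lc_c_rc_11_1 lc_c_rc_13_2 lc_c_rc_26_2 lc_c_rc_13_2 lc_c_rc_11_1 lc_c_rc_13_2 lc_c_rc_23_5 lc_c_rc_13_2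 lc_c_rc_24_2 lc_c_rc_11_1 lc_c_rc_13_2 lc_c_rc_24_2 lc_c_rc_13_2 lc_c_rc_24_6 lc_c_rc_13_2 lc_c_Cert_tree lc_c_rc_14_2 lc_c_rc_13_2 lc_c_Cert_tree lc_c_rc_23_5 lc_c_rc_13_2 lc_c_rc_11_1 lc_c_rc_23_5 lc_c_rc_24_2 lc_c_rc_14_2 lc_c_rc_11_1 lc_c_rc_23_5 lc_c_rc_23_5 lc_c_rc_23_5 lc_c_rc_2_1 lc_c_rc_11_1 lc_c_rc_14_2 lc_c_rc_7_3 lc_c_rc_7_3 lc_c_rc_14_2 lc_c_rc_11_1 lc_c_rc_11_1 lc_c_rc_7_5 lc_c_rc_22_9)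
def ce_c_15 : D2 → D3 → (Cert rels S Gen.c) := @D2.rec (fun _ => D3 → (Cert rels S Gen.c)) (@D3.rec (fun _ => (Cert rels S Gen.c)) lc_c_rc_13_2 lc_c_rc_11_1 lc_c_rc_7_3 lc_c_rc_26_2 lc_c_rc_13_2 lc_c_rc_13_2 lc_c_rc_26_10 lc_c_rc_14_2 lc_c_rc_13_2 lc_c_Cert_tree lc_c_Cert_tree lc_c_Cert_tree lc_c_rc_14_2 lc_c_rc_26_8 lc_c_Cert_tree lc_c_rc_13_2 lc_c_Cert_tree lc_c_rc_11_1 lc_c_Cert_tree lc_c_rc_13_2 lc_c_rc_24_4 lc_c_rc_26_4 lc_c_Cert_tree lc_c_rc_13_2 lc_c_Cert_tree lc_c_Cert_tree lc_c_rc_11_1 lc_c_rc_23_0 lc_c_rc_23_0 lc_c_rc_2_3 lc_c_rc_11_1 lc_c_rc_22_9 lc_c_rc_13_2 lc_c_rc_11_1 lc_c_rc_11_1 lc_c_rc_7_5 lc_c_rc_23_5 lc_c_rc_13_2 lc_c_rc_7_3 lc_c_rc_23_5 lc_c_rc_13_2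 lc_c_rc_2_3 lc_c_rc_11_1 lc_c_rc_2_3 lc_c_Cert_tree lc_c_rc_11_1 lc_c_rc_24_2 lc_c_rc_13_2 lc_c_rc_2_3 lc_c_rc_11_1 lc_c_rc_2_3 lc_c_Cert_tree lc_c_rc_11_1 lc_c_rc_13_2 lc_c_rc_7_3 lc_c_rc_24_8 lc_c_rc_13_2 lc_c_rc_7_3 lc_c_rc_24_8 lc_c_rc_13_2 lc_c_rc_11_1 lc_c_rc_23_5) (@D3.rec (fun _ => (Cert rels S Gen.c)) lc_c_rc_13_2 lc_c_rc_26_2 lc_c_rc_22_3 lc_c_rc_23_5 lc_c_rc_13_2 lc_c_rc_13_2 lc_c_rc_14_2 lc_c_Cert_tree lc_c_Cert_tree lc_c_rc_2_3 lc_c_Cert_tree lc_c_rc_14_2 lc_c_rc_13_2 lc_c_rc_13_2 lc_c_rc_7_3 lc_c_rc_13_2 lc_c_rc_23_0 lc_c_rc_7_3 lc_c_rc_13_2 lc_c_rc_23_5 lc_c_rc_23_5 lc_c_rc_7_3 lc_c_rc_23_5 lc_c_rc_13_2 lc_c_Cert_tree lc_c_Cert_tree lc_c_rc_14_2 lc_c_rc_7_5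 lc_c_rc_12_2 lc_c_rc_13_2 lc_c_rc_11_1 lc_c_rc_24_4 lc_c_rc_13_2 lc_c_rc_2_3 lc_c_rc_11_1 lc_c_rc_2_3 lc_c_rc_7_3 lc_c_rc_13_2 lc_c_rc_24_4 lc_c_rc_13_2 lc_c_rc_23_5 lc_c_rc_11_1 lc_c_Cert_tree lc_c_rc_14_2 lc_c_rc_11_1 lc_c_rc_2_3 lc_c_rc_11_1 lc_c_rc_14_2 lc_c_rc_12_8 lc_c_rc_7_3 lc_c_rc_13_2 lc_c_rc_26_2 lc_c_rc_2_3 lc_c_rc_11_1 lc_c_rc_2_3 lc_c_rc_7_1 lc_c_rc_13_2 lc_c_rc_13_2 lc_c_rc_11_1 lc_c_rc_23_0 lc_c_Cert_tree lc_c_rc_14_2) (@D3.rec (fun _ => (Cert rels S Gen.c)) lc_c_rc_11_1 lc_c_rc_13_2 lc_c_rc_7_3 lc_c_rc_13_2 lc_c_rc_2_3 lc_c_rc_11_1 lc_c_rc_2_3 lc_c_rc_7_3 lc_c_rc_13_2 lc_c_rc_23_0 lc_c_rc_13_2 lc_c_rc_13_2 lc_c_rc_11_1 lc_c_rc_14_2 lc_c_rc_11_1 lc_c_Cert_tree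 lc_c_rc_11_1 lc_c_rc_13_2 lc_c_rc_14_2 lc_c_rc_2_3 lc_c_rc_11_1 lc_c_rc_2_3 lc_c_Cert_tree lc_c_rc_13_2 lc_c_rc_13_2 lc_c_rc_13_2 lc_c_rc_13_0 lc_c_rc_22_3 lc_c_rc_14_2 lc_c_rc_11_1 lc_c_rc_13_2 lc_c_rc_11_1 lc_c_rc_11_1 lc_c_Cert_tree lc_c_rc_11_1 lc_c_rc_11_1 lc_c_Cert_tree lc_c_rc_13_2 lc_c_rc_13_2 lc_c_rc_25_13 lc_c_rc_14_2 lc_c_rc_11_1 lc_c_rc_11_1 lc_c_rc_2_3 lc_c_Cert_tree lc_c_rc_13_2 lc_c_rc_13_2 lc_c_rc_22_9 lc_c_rc_14_2 lc_c_rc_26_4 lc_c_rc_25_5 lc_c_rc_13_2 lc_c_rc_14_0 lc_c_Cert_tree lc_c_rc_13_2 lc_c_Cert_tree lc_c_rc_25_5 lc_c_rc_14_2 lc_c_rc_11_1 lc_c_Cert_tree lc_c_rc_13_2 lc_c_rc_7_3) (@D3.rec (fun _ => (Cert rels S Gen.c)) lc_c_rc_13_2 lc_c_rc_7_3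 lc_c_rc_13_2 lc_c_Cert_tree lc_c_rc_11_1 lc_c_rc_14_2 lc_c_rc_13_2 lc_c_rc_11_1 lc_c_rc_11_1 lc_c_rc_26_4 lc_c_rc_26_2 lc_c_rc_11_1 lc_c_rc_13_2 lc_c_rc_11_1 lc_c_rc_13_2 lc_c_rc_11_1 lc_c_rc_11_1 lc_c_Cert_tree lc_c_rc_14_2 lc_c_rc_26_4 lc_c_rc_11_1 lc_c_rc_14_2 lc_c_rc_26_4 lc_c_rc_11_1 lc_c_rc_13_2 lc_c_Cert_tree lc_c_rc_11_1 lc_c_rc_22_3 lc_c_rc_13_2 lc_c_rc_14_0 lc_c_Cert_tree lc_c_rc_13_2 lc_c_rc_11_1 lc_c_rc_13_2 lc_c_Cert_tree lc_c_rc_11_1 lc_c_rc_13_2 lc_c_rc_11_1 lc_c_rc_11_1 lc_c_rc_13_2 lc_c_rc_11_1 lc_c_rc_13_0 lc_c_rc_11_1 lc_c_rc_11_1 lc_c_rc_26_4 lc_c_rc_13_2 lc_c_rc_11_1 lc_c_rc_11_1 lc_c_rc_11_1 lc_c_rc_11_1 lc_c_rc_13_2 lc_c_rc_14_2 lc_c_Cert_tree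 lc_c_rc_26_2 lc_c_rc_11_1 lc_c_rc_13_2 lc_c_rc_22_5 lc_c_rc_13_2 lc_c_rc_11_1 lc_c_rc_7_3 lc_c_rc_11_1 lc_c_rc_13_2) (@D3.rec (fun _ => (Cert rels S Gen.c)) lc_c_Cert_tree lc_c_rc_11_1 lc_c_rc_7_5 lc_c_rc_13_0 lc_c_rc_23_0 lc_c_rc_14_2 lc_c_rc_26_8 lc_c_rc_11_1 lc_c_rc_22_3 lc_c_rc_13_2 lc_c_Cert_tree lc_c_Cert_tree lc_c_rc_22_7 lc_c_rc_13_2 lc_c_rc_24_6 lc_c_rc_26_2 lc_c_rc_11_1 lc_c_rc_24_8 lc_c_rc_7_5 lc_c_rc_11_1 lc_c_rc_22_3 lc_c_rc_2_3 lc_c_rc_11_1 lc_c_rc_14_2 lc_c_rc_13_2 lc_c_rc_26_4 lc_c_rc_11_1 lc_c_Cert_tree lc_c_rc_11_1 lc_c_rc_2_3 lc_c_rc_7_3 lc_c_rc_23_0 lc_c_rc_23_0 lc_c_rc_23_5 lc_c_rc_11_1 lc_c_Cert_tree lc_c_rc_22_3 lc_c_rc_11_1 lc_c_Cert_tree lc_c_rc_13_2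 lc_c_rc_11_1 lc_c_rc_13_2 lc_c_rc_24_2 lc_c_rc_11_1 lc_c_rc_11_1 lc_c_rc_26_4 lc_c_rc_13_2 lc_c_rc_26_4 lc_c_Cert_tree lc_c_rc_11_1 lc_c_rc_2_1 lc_c_rc_13_2 lc_c_rc_14_2 lc_c_rc_11_1 lc_c_rc_24_2 lc_c_rc_26_2 lc_c_rc_11_1 lc_c_rc_11_1 lc_c_rc_13_2 lc_c_rc_11_1 lc_c_rc_22_9 lc_c_rc_13_2) (@D3.rec (fun _ => (Cert rels S Gen.c)) lc_c_rc_23_0 lc_c_rc_14_2 lc_c_rc_26_8 lc_c_rc_11_1 lc_c_rc_11_1 lc_c_rc_22_3 lc_c_rc_11_1 lc_c_rc_13_2 lc_c_rc_24_6 lc_c_rc_2_3 lc_c_rc_11_1 lc_c_rc_13_2 lc_c_rc_13_2 lc_c_rc_13_2 lc_c_rc_24_8 lc_c_rc_11_1 lc_c_rc_13_2 lc_c_rc_13_2 lc_c_rc_7_3 lc_c_rc_13_2 lc_c_rc_7_5 lc_c_rc_11_1 lc_c_Cert_tree lc_c_rc_11_1 lc_c_rc_11_1 lc_c_rc_22_7 lc_c_rc_13_2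 lc_c_rc_26_4 lc_c_rc_24_2 lc_c_rc_11_1 lc_c_Cert_tree lc_c_rc_22_3 lc_c_rc_11_1 lc_c_rc_11_1 lc_c_rc_13_2 lc_c_rc_11_1 lc_c_rc_14_2 lc_c_rc_13_2 lc_c_rc_26_2 lc_c_rc_24_2 lc_c_rc_2_3 lc_c_rc_14_2 lc_c_rc_7_3 lc_c_rc_26_8 lc_c_rc_11_1 lc_c_rc_11_1 lc_c_rc_7_3 lc_c_rc_13_2 lc_c_rc_14_2 lc_c_rc_13_0 lc_c_Cert_tree lc_c_rc_14_2 lc_c_rc_13_2 lc_c_Cert_tree lc_c_Cert_tree lc_c_rc_2_3 lc_c_rc_13_2 lc_c_rc_7_5 lc_c_rc_14_2 lc_c_Cert_tree lc_c_rc_23_5 lc_c_rc_13_2) (@D3.rec (fun _ => (Cert rels S Gen.c)) lc_c_rc_13_0 lc_c_rc_23_5 lc_c_rc_26_2 lc_c_rc_14_2 lc_c_rc_24_8 lc_c_rc_11_1 lc_c_rc_11_1 lc_c_rc_14_2 lc_c_rc_11_1 lc_c_rc_13_2 lc_c_rc_14_2 lc_c_rc_2_1 lc_c_rc_11_1 lc_c_rc_23_0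 lc_c_rc_26_8 lc_c_rc_14_2 lc_c_rc_26_4 lc_c_Cert_tree lc_c_Cert_tree lc_c_Cert_tree lc_c_Cert_tree lc_c_rc_14_2 lc_c_rc_11_1 lc_c_Cert_tree lc_c_rc_26_4 lc_c_rc_11_1 lc_c_rc_23_0 lc_c_rc_11_1 lc_c_rc_22_5 lc_c_rc_13_2 lc_c_Cert_tree lc_c_rc_11_1 lc_c_rc_23_0 lc_c_rc_26_2 lc_c_rc_11_1 lc_c_rc_13_2 lc_c_rc_2_1 lc_c_rc_13_2 lc_c_rc_14_2 lc_c_rc_13_2 lc_c_rc_24_8 lc_c_rc_23_0 lc_c_rc_11_1 lc_c_Cert_tree lc_c_rc_26_10 lc_c_rc_14_2 lc_c_rc_14_2 lc_c_rc_11_1 lc_c_rc_2_3 lc_c_rc_11_1 lc_c_Cert_tree lc_c_rc_13_2 lc_c_rc_14_2 lc_c_rc_11_1 lc_c_rc_11_1 lc_c_Cert_tree lc_c_rc_13_2 lc_c_Cert_tree lc_c_Cert_tree lc_c_Cert_tree lc_c_rc_11_1 lc_c_rc_13_2) (@D3.rec (fun _ => (Cert rels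 S Gen.c)) lc_c_Cert_tree lc_c_rc_13_2 lc_c_rc_14_2 lc_c_rc_13_2 lc_c_rc_26_4 lc_c_Cert_tree lc_c_Cert_tree lc_c_Cert_tree lc_c_rc_11_1 lc_c_rc_13_2 lc_c_rc_26_8 lc_c_Cert_tree lc_c_rc_11_1 lc_c_rc_13_2 lc_c_rc_7_3 lc_c_Cert_tree lc_c_rc_11_1 lc_c_rc_13_2 lc_c_rc_26_2 lc_c_rc_11_1 lc_c_rc_13_2 lc_c_rc_11_1 lc_c_rc_13_2 lc_c_rc_24_6 lc_c_rc_11_1 lc_c_rc_7_3 lc_c_Cert_tree lc_c_rc_13_2 lc_c_rc_14_2 lc_c_Cert_tree lc_c_rc_7_5 lc_c_rc_14_2 lc_c_rc_13_2 lc_c_Cert_tree lc_c_Cert_tree lc_c_Cert_tree lc_c_rc_2_3 lc_c_rc_13_2 lc_c_Cert_tree lc_c_rc_14_2 lc_c_rc_24_4 lc_c_rc_23_5 lc_c_rc_23_5 lc_c_rc_2_3 lc_c_rc_26_2 lc_c_rc_14_2 lc_c_rc_24_8 lc_c_rc_11_1 lc_c_rc_13_2 lc_c_rc_24_2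 lc_c_rc_11_1 lc_c_rc_13_2 lc_c_rc_13_2 lc_c_rc_13_2 lc_c_rc_7_5 lc_c_rc_2_3 lc_c_Cert_tree lc_c_rc_7_3 lc_c_rc_11_1 lc_c_rc_23_0 lc_c_Cert_tree lc_c_rc_14_2) (@D3.rec (fun _ => (Cert rels S Gen.c)) lc_c_rc_22_5 lc_c_rc_11_1 lc_c_rc_13_0 lc_c_rc_7_1 lc_c_rc_11_1 lc_c_rc_11_1 lc_c_rc_14_2 lc_c_rc_23_0 lc_c_rc_7_5 lc_c_rc_13_2 lc_c_rc_22_3 lc_c_rc_26_8 lc_c_Cert_tree lc_c_rc_13_2 lc_c_rc_2_3 lc_c_rc_11_1 lc_c_rc_14_2 lc_c_rc_13_2 lc_c_rc_14_2 lc_c_rc_23_0 lc_c_Cert_tree lc_c_Cert_tree lc_c_Cert_tree lc_c_rc_11_1 lc_c_rc_24_8 lc_c_rc_24_2 lc_c_rc_11_1 lc_c_rc_14_2 lc_c_rc_13_2 lc_c_Cert_tree lc_c_rc_11_1 lc_c_rc_26_2 lc_c_rc_13_2 lc_c_rc_11_1 lc_c_rc_23_0 lc_c_rc_11_1 lc_c_rc_22_5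 lc_c_rc_23_0 lc_c_rc_13_2 lc_c_rc_13_2 lc_c_Cert_tree lc_c_rc_11_1 lc_c_Cert_tree lc_c_rc_23_5 lc_c_rc_11_1 lc_c_rc_11_1 lc_c_rc_13_2 lc_c_rc_13_2 lc_c_rc_23_0 lc_c_Cert_tree lc_c_rc_13_2 lc_c_rc_7_3 lc_c_rc_13_2 lc_c_rc_7_3 lc_c_rc_26_2 lc_c_rc_14_2 lc_c_rc_7_3 lc_c_rc_11_1 lc_c_rc_2_3 lc_c_rc_22_3 lc_c_rc_13_2 lc_c_rc_7_3) (@D3.rec (fun _ => (Cert rels S Gen.c)) lc_c_rc_13_2 lc_c_rc_23_0 lc_c_rc_13_2 lc_c_rc_23_0 lc_c_Cert_tree lc_c_Cert_tree lc_c_rc_2_3 lc_c_Cert_tree lc_c_rc_14_2 lc_c_rc_7_3 lc_c_rc_14_2 lc_c_rc_11_1 lc_c_rc_2_3 lc_c_rc_13_2 lc_c_Cert_tree lc_c_rc_14_2 lc_c_Cert_tree lc_c_rc_11_1 lc_c_rc_13_2 lc_c_rc_24_2 lc_c_rc_2_3 lc_c_Cert_tree lc_c_Cert_tree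 lc_c_rc_2_3 lc_c_rc_13_2 lc_c_rc_13_0 lc_c_rc_23_0 lc_c_rc_22_9 lc_c_rc_14_2 lc_c_rc_23_5 lc_c_rc_11_1 lc_c_rc_11_1 lc_c_rc_26_10 lc_c_Cert_tree lc_c_rc_11_1 lc_c_rc_13_2 lc_c_rc_26_2 lc_c_Cert_tree lc_c_rc_23_5 lc_c_Cert_tree lc_c_rc_23_5 lc_c_rc_7_3 lc_c_Cert_tree lc_c_Cert_tree lc_c_rc_2_3 lc_c_rc_13_2 lc_c_rc_23_0 lc_c_rc_14_2 lc_c_rc_26_4 lc_c_rc_11_1 lc_c_rc_11_1 lc_c_rc_13_2 lc_c_rc_13_2 lc_c_rc_13_2 lc_c_rc_14_2 lc_c_Cert_tree lc_c_Cert_tree lc_c_Cert_tree lc_c_rc_2_3 lc_c_rc_13_2 lc_c_rc_22_3 lc_c_rc_14_2) (@D3.rec (fun _ => (Cert rels S Gen.c)) lc_c_rc_11_1 lc_c_rc_2_3 lc_c_rc_11_1 lc_c_rc_13_2 lc_c_Cert_tree lc_c_Cert_tree lc_c_rc_14_2 lc_c_rc_11_1 lc_c_rc_7_3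 lc_c_rc_24_2 lc_c_rc_23_0 lc_c_rc_22_5 lc_c_Cert_tree lc_c_Cert_tree lc_c_Cert_tree lc_c_rc_14_2 lc_c_rc_11_1 lc_c_rc_11_1 lc_c_rc_23_5 lc_c_rc_23_5 lc_c_rc_23_5 lc_c_rc_14_2 lc_c_Cert_tree lc_c_rc_24_8 lc_c_rc_26_2 lc_c_rc_11_1 lc_c_rc_13_2 lc_c_Cert_tree lc_c_rc_14_2 lc_c_rc_2_3 lc_c_rc_13_2 lc_c_rc_14_2 lc_c_rc_7_3 lc_c_rc_13_2 lc_c_rc_24_8 lc_c_rc_24_8 lc_c_rc_22_3 lc_c_rc_11_1 lc_c_rc_22_5 lc_c_rc_13_2 lc_c_rc_2_1 lc_c_rc_7_5 lc_c_rc_11_1 lc_c_rc_13_2 lc_c_rc_11_1 lc_c_rc_14_2 lc_c_rc_24_6 lc_c_Cert_tree lc_c_rc_2_1 lc_c_rc_7_1 lc_c_rc_11_1 lc_c_rc_11_1 lc_c_Cert_tree lc_c_rc_14_2 lc_c_Cert_tree lc_c_rc_11_1 lc_c_Cert_tree lc_c_rc_11_1 lc_c_rc_11_1 lc_c_rc_14_2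 lc_c_rc_26_10 lc_c_rc_26_4) (@D3.rec (fun _ => (Cert rels S Gen.c)) lc_c_rc_13_2 lc_c_rc_13_2 lc_c_rc_23_0 lc_c_rc_24_8 lc_c_rc_11_1 lc_c_rc_7_3 lc_c_rc_26_8 lc_c_rc_26_4 lc_c_rc_7_1 lc_c_rc_13_2 lc_c_rc_14_2 lc_c_rc_11_1 lc_c_rc_13_2 lc_c_rc_26_4 lc_c_rc_23_5 lc_c_rc_2_3 lc_c_Cert_tree lc_c_rc_13_2 lc_c_rc_13_2 lc_c_Cert_tree lc_c_rc_14_2 lc_c_rc_11_1 lc_c_rc_24_2 lc_c_rc_24_2 lc_c_rc_24_8 lc_c_rc_14_2 lc_c_rc_24_4 lc_c_rc_11_1 lc_c_rc_2_3 lc_c_rc_7_5 lc_c_rc_13_2 lc_c_rc_13_2 lc_c_rc_11_1 lc_c_rc_24_6 lc_c_Cert_tree lc_c_rc_14_2 lc_c_rc_11_1 lc_c_rc_14_0 lc_c_rc_24_8 lc_c_rc_26_10 lc_c_rc_14_2 lc_c_rc_14_2 lc_c_rc_7_3 lc_c_rc_2_3 lc_c_rc_11_1 lc_c_rc_13_2 lc_c_rc_13_2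 lc_c_rc_24_6 lc_c_rc_11_1 lc_c_rc_14_2 lc_c_rc_13_2 lc_c_rc_26_10 lc_c_rc_26_2 lc_c_rc_2_3 lc_c_rc_7_3 lc_c_rc_13_2 lc_c_rc_13_2 lc_c_Cert_tree lc_c_rc_14_2 lc_c_Cert_tree lc_c_Cert_tree lc_c_rc_2_3) (@D3.rec (fun _ => (Cert rels S Gen.c)) lc_c_rc_23_0 lc_c_rc_13_2 lc_c_rc_13_2 lc_c_rc_14_2 lc_c_rc_14_2 lc_c_rc_7_5 lc_c_rc_26_4 lc_c_rc_11_1 lc_c_rc_11_1 lc_c_rc_13_2 lc_c_rc_14_2 lc_c_rc_26_2 lc_c_rc_11_1 lc_c_rc_24_6 lc_c_rc_26_4 lc_c_rc_22_9 lc_c_rc_24_6 lc_c_rc_13_2 lc_c_rc_11_1 lc_c_rc_13_2 lc_c_rc_13_2 lc_c_Cert_tree lc_c_rc_13_2 lc_c_rc_23_5 lc_c_rc_13_2 lc_c_rc_11_1 lc_c_rc_11_1 lc_c_rc_14_2 lc_c_Cert_tree lc_c_rc_22_3 lc_c_rc_24_2 lc_c_rc_14_2 lc_c_Cert_tree lc_c_rc_26_4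 lc_c_rc_2_3 lc_c_rc_13_2 lc_c_rc_23_5 lc_c_rc_14_2 lc_c_rc_13_2 lc_c_rc_26_8 lc_c_rc_2_1 lc_c_rc_14_2 lc_c_Cert_tree lc_c_Cert_tree lc_c_rc_14_2 lc_c_rc_13_2 lc_c_Cert_tree lc_c_rc_14_2 lc_c_rc_14_0 lc_c_rc_13_2 lc_c_rc_24_2 lc_c_rc_11_1 lc_c_rc_13_2 lc_c_rc_22_5 lc_c_rc_24_8 lc_c_rc_24_8 lc_c_rc_24_4 lc_c_rc_24_4 lc_c_rc_14_2 lc_c_rc_26_8 lc_c_rc_13_2 lc_c_rc_14_2) (@D3.rec (fun _ => (Cert rels S Gen.c)) lc_c_rc_14_2 lc_c_rc_26_2 lc_c_rc_24_2 lc_c_Cert_tree lc_c_rc_13_2 lc_c_rc_23_0 lc_c_rc_23_0 lc_c_rc_23_5 lc_c_rc_24_4 lc_c_rc_11_1 lc_c_Cert_tree lc_c_rc_14_2 lc_c_rc_11_1 lc_c_Cert_tree lc_c_rc_26_8 lc_c_rc_11_1 lc_c_rc_23_0 lc_c_rc_13_2 lc_c_rc_11_1 lc_c_rc_13_2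 lc_c_rc_14_2 lc_c_rc_14_2 lc_c_rc_24_2 lc_c_rc_26_4 lc_c_rc_11_1 lc_c_rc_13_2 lc_c_rc_13_0 lc_c_Cert_tree lc_c_rc_11_1 lc_c_rc_26_4 lc_c_rc_11_1 lc_c_rc_13_2 lc_c_rc_11_1 lc_c_rc_13_2 lc_c_rc_7_3 lc_c_rc_22_3 lc_c_rc_13_2 lc_c_rc_14_2 lc_c_rc_7_5 lc_c_rc_2_3 lc_c_rc_26_2 lc_c_rc_13_2 lc_c_Cert_tree lc_c_rc_11_1 lc_c_rc_26_8 lc_c_Cert_tree lc_c_rc_23_0 lc_c_rc_14_2 lc_c_rc_11_1 lc_c_rc_25_5 lc_c_rc_7_5 lc_c_rc_13_2 lc_c_Cert_tree lc_c_Cert_tree lc_c_rc_13_2 lc_c_rc_26_2 lc_c_rc_11_1 lc_c_rc_11_1 lc_c_Cert_tree lc_c_rc_14_2 lc_c_Cert_tree lc_c_rc_11_1) (@D3.rec (fun _ => (Cert rels S Gen.c)) lc_c_rc_13_2 lc_c_Cert_tree lc_c_rc_11_1 lc_c_rc_2_3 lc_c_rc_14_2 lc_c_rc_26_8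 lc_c_rc_26_10 lc_c_rc_13_2 lc_c_rc_26_4 lc_c_Cert_tree lc_c_rc_26_2 lc_c_rc_7_5 lc_c_rc_14_2 lc_c_Cert_tree lc_c_rc_2_3 lc_c_rc_11_1 lc_c_rc_13_2 lc_c_rc_14_2 lc_c_Cert_tree lc_c_rc_11_1 lc_c_rc_13_2 lc_c_rc_22_7 lc_c_rc_7_3 lc_c_rc_11_1 lc_c_rc_24_8 lc_c_rc_14_2 lc_c_Cert_tree lc_c_Cert_tree lc_c_Cert_tree lc_c_rc_13_2 lc_c_rc_7_3 lc_c_rc_13_2 lc_c_rc_14_2 lc_c_Cert_tree lc_c_Cert_tree lc_c_rc_2_3 lc_c_rc_7_3 lc_c_rc_11_1 lc_c_rc_11_1 lc_c_rc_22_3 lc_c_rc_13_2 lc_c_Cert_tree lc_c_rc_22_3 lc_c_rc_13_2 lc_c_rc_2_3 lc_c_rc_14_2 lc_c_rc_11_1 lc_c_rc_23_0 lc_c_rc_13_2 lc_c_rc_14_2 lc_c_rc_11_1 lc_c_rc_23_5 lc_c_rc_13_2 lc_c_rc_14_0 lc_c_rc_7_5 lc_c_rc_22_9 lc_c_rc_14_0 lc_c_rc_11_1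 lc_c_rc_11_1 lc_c_rc_14_2 lc_c_Cert_tree lc_c_Cert_tree) (@D3.rec (fun _ => (Cert rels S Gen.c)) lc_c_rc_13_2 lc_c_rc_11_1 lc_c_rc_13_2 lc_c_rc_26_10 lc_c_rc_26_2 lc_c_rc_26_2 lc_c_rc_26_10 lc_c_rc_14_2 lc_c_rc_23_0 lc_c_rc_24_6 lc_c_rc_2_3 lc_c_Cert_tree lc_c_Cert_tree lc_c_rc_14_2 lc_c_Cert_tree lc_c_rc_13_2 lc_c_rc_13_2 lc_c_rc_11_1 lc_c_rc_11_1 lc_c_rc_22_3 lc_c_rc_14_2 lc_c_rc_11_1 lc_c_Cert_tree lc_c_rc_11_1 lc_c_rc_22_3 lc_c_Cert_tree lc_c_rc_11_1 lc_c_rc_11_1 lc_c_Cert_tree lc_c_rc_13_2 lc_c_rc_13_2 lc_c_Cert_tree lc_c_rc_14_2 lc_c_rc_7_1 lc_c_rc_11_1 lc_c_rc_11_1 lc_c_rc_13_2 lc_c_Cert_tree lc_c_rc_14_2 lc_c_rc_7_5 lc_c_rc_26_4 lc_c_rc_11_1 lc_c_Cert_tree lc_c_rc_13_2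 lc_c_rc_14_2 lc_c_Cert_tree lc_c_rc_11_1 lc_c_rc_2_1 lc_c_rc_13_2 lc_c_Cert_tree lc_c_rc_22_3 lc_c_rc_14_2 lc_c_rc_13_2 lc_c_Cert_tree lc_c_rc_13_2 lc_c_rc_7_1 lc_c_rc_13_2 lc_c_rc_26_8 lc_c_rc_13_2 lc_c_rc_26_10 lc_c_Cert_tree lc_c_rc_13_2) (@D3.rec (fun _ => (Cert rels S Gen.c)) lc_c_rc_11_1 lc_c_rc_24_6 lc_c_Cert_tree lc_c_rc_11_1 lc_c_Cert_tree lc_c_rc_23_5 lc_c_rc_26_8 lc_c_rc_23_0 lc_c_rc_7_3 lc_c_rc_23_0 lc_c_Cert_tree lc_c_Cert_tree lc_c_rc_2_3 lc_c_rc_22_9 lc_c_rc_13_2 lc_c_rc_13_2 lc_c_rc_13_2 lc_c_rc_23_0 lc_c_Cert_tree lc_c_rc_14_2 lc_c_rc_13_2 lc_c_rc_7_3 lc_c_rc_11_1 lc_c_rc_2_1 lc_c_rc_26_2 lc_c_Cert_tree lc_c_Cert_tree lc_c_rc_2_1 lc_c_rc_2_3 lc_c_rc_13_2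 lc_c_rc_2_1 lc_c_Cert_tree lc_c_rc_11_1 lc_c_rc_23_0 lc_c_rc_23_0 lc_c_rc_11_1 lc_c_Cert_tree lc_c_rc_11_1 lc_c_rc_13_2 lc_c_rc_23_0 lc_c_rc_23_0 lc_c_Cert_tree lc_c_rc_14_2 lc_c_rc_24_6 lc_c_rc_11_1 lc_c_Cert_tree lc_c_rc_11_1 lc_c_rc_22_3 lc_c_Cert_tree lc_c_Cert_tree lc_c_rc_2_3 lc_c_rc_22_7 lc_c_rc_13_2 lc_c_rc_22_9 lc_c_rc_23_0 lc_c_rc_14_2 lc_c_rc_11_1 lc_c_rc_13_2 lc_c_rc_7_3 lc_c_rc_11_1 lc_c_rc_24_2 lc_c_rc_23_0) (@D3.rec (fun _ => (Cert rels S Gen.c)) lc_c_rc_13_2 lc_c_Cert_tree lc_c_rc_14_2 lc_c_rc_14_0 lc_c_rc_24_6 lc_c_rc_13_0 lc_c_rc_13_2 lc_c_rc_23_0 lc_c_rc_14_2 lc_c_rc_14_2 lc_c_rc_26_4 lc_c_rc_11_1 lc_c_rc_22_3 lc_c_rc_13_2 lc_c_rc_2_1 lc_c_Cert_tree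 lc_c_rc_11_1 lc_c_rc_7_5 lc_c_rc_12_0 lc_c_rc_24_2 lc_c_rc_24_2 lc_c_rc_11_1 lc_c_rc_13_2 lc_c_rc_7_3 lc_c_rc_22_7 lc_c_rc_13_2 lc_c_rc_23_0 lc_c_rc_13_2 lc_c_Cert_tree lc_c_Cert_tree lc_c_rc_14_2 lc_c_rc_22_3 lc_c_rc_7_3 lc_c_rc_7_3 lc_c_rc_13_2 lc_c_Cert_tree lc_c_rc_11_1 lc_c_rc_2_3 lc_c_Cert_tree lc_c_rc_13_2 lc_c_rc_24_8 lc_c_rc_13_2 lc_c_rc_13_2 lc_c_Cert_tree lc_c_rc_14_2 lc_c_rc_23_5 lc_c_rc_13_2 lc_c_rc_23_0 lc_c_rc_11_1 lc_c_Cert_tree lc_c_rc_14_2 lc_c_rc_26_4 lc_c_rc_13_2 lc_c_Cert_tree lc_c_Cert_tree lc_c_rc_2_3 lc_c_rc_13_2 lc_c_rc_11_1 lc_c_Cert_tree lc_c_rc_11_1 lc_c_rc_13_2 lc_c_rc_22_3) (@D3.rec (fun _ => (Cert rels S Gen.c)) lc_c_rc_11_1 lc_c_rc_13_2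 lc_c_rc_13_2 lc_c_Cert_tree lc_c_rc_7_5 lc_c_rc_14_2 lc_c_rc_7_5 lc_c_rc_24_4 lc_c_rc_7_3 lc_c_rc_23_5 lc_c_rc_13_2 lc_c_rc_24_4 lc_c_rc_22_3 lc_c_rc_22_7 lc_c_rc_7_3 lc_c_rc_22_7 lc_c_rc_13_2 lc_c_rc_7_3 lc_c_rc_22_3 lc_c_rc_13_2 lc_c_rc_23_5 lc_c_rc_24_6 lc_c_rc_11_1 lc_c_rc_13_2 lc_c_rc_14_2 lc_c_rc_23_0 lc_c_rc_24_6 lc_c_rc_2_3 lc_c_rc_2_1 lc_c_rc_14_2 lc_c_rc_24_2 lc_c_rc_14_2 lc_c_Cert_tree lc_c_rc_11_1 lc_c_rc_2_3 lc_c_Cert_tree lc_c_rc_13_2 lc_c_rc_13_2 lc_c_Cert_tree lc_c_rc_25_17 lc_c_rc_23_0 lc_c_rc_24_8 lc_c_rc_14_2 lc_c_rc_11_1 lc_c_rc_13_2 lc_c_rc_2_3 lc_c_rc_11_1 lc_c_rc_13_2 lc_c_Cert_tree lc_c_Cert_tree lc_c_rc_24_8 lc_c_rc_24_2 lc_c_rc_11_1 lc_c_rc_13_2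 lc_c_Cert_tree lc_c_rc_13_2 lc_c_rc_11_1 lc_c_rc_13_2 lc_c_Cert_tree lc_c_rc_11_1 lc_c_rc_11_1 lc_c_rc_24_2) (@D3.rec (fun _ => (Cert rels S Gen.c)) lc_c_rc_13_2 lc_c_Cert_tree lc_c_rc_14_2 lc_c_rc_25_5 lc_c_rc_2_3 lc_c_rc_2_3 lc_c_rc_7_3 lc_c_rc_7_5 lc_c_rc_13_2 lc_c_Cert_tree lc_c_rc_11_1 lc_c_rc_2_3 lc_c_Cert_tree lc_c_rc_13_2 lc_c_rc_13_2 lc_c_rc_11_1 lc_c_rc_11_1 lc_c_rc_24_2 lc_c_rc_14_2 lc_c_rc_11_1 lc_c_rc_22_5 lc_c_rc_26_4 lc_c_rc_11_1 lc_c_rc_13_2 lc_c_rc_13_0 lc_c_rc_11_1 lc_c_rc_13_2 lc_c_rc_22_3 lc_c_rc_13_0 lc_c_rc_14_2 lc_c_rc_11_1 lc_c_Cert_tree lc_c_rc_13_2 lc_c_rc_24_4 lc_c_rc_23_5 lc_c_Cert_tree lc_c_rc_22_7 lc_c_rc_11_1 lc_c_rc_24_2 lc_c_rc_11_1 lc_c_Cert_tree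 lc_c_rc_13_0 lc_c_rc_13_0 lc_c_rc_26_4 lc_c_rc_11_1 lc_c_rc_13_2 lc_c_rc_7_3 lc_c_Cert_tree lc_c_rc_13_2 lc_c_rc_11_1 lc_c_rc_11_1 lc_c_rc_11_1 lc_c_rc_7_3 lc_c_rc_14_2 lc_c_rc_11_1 lc_c_rc_26_4 lc_c_rc_14_2 lc_c_rc_24_6 lc_c_rc_11_1 lc_c_rc_2_3 lc_c_Cert_tree lc_c_rc_13_2) (@D3.rec (fun _ => (Cert rels S Gen.c)) lc_c_rc_13_2 lc_c_rc_13_2 lc_c_rc_22_3 lc_c_rc_14_2 lc_c_rc_23_5 lc_c_rc_11_1 lc_c_rc_26_8 lc_c_rc_11_1 lc_c_rc_13_2 lc_c_rc_13_2 lc_c_Cert_tree lc_c_rc_13_2 lc_c_rc_14_2 lc_c_Cert_tree lc_c_rc_23_5 lc_c_rc_23_0 lc_c_rc_7_3 lc_c_Cert_tree lc_c_rc_22_9 lc_c_rc_22_3 lc_c_rc_22_3 lc_c_rc_7_3 lc_c_rc_22_3 lc_c_rc_13_2 lc_c_rc_11_1 lc_c_rc_13_2 lc_c_rc_25_9 lc_c_rc_11_1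 lc_c_rc_14_2 lc_c_Cert_tree lc_c_rc_11_1 lc_c_rc_26_4 lc_c_rc_7_5 lc_c_rc_13_2 lc_c_rc_24_6 lc_c_rc_11_1 lc_c_rc_22_5 lc_c_rc_14_2 lc_c_rc_2_1 lc_c_rc_24_2 lc_c_rc_11_1 lc_c_rc_22_3 lc_c_rc_26_4 lc_c_rc_11_1 lc_c_rc_26_2 lc_c_rc_11_1 lc_c_rc_13_2 lc_c_rc_11_1 lc_c_rc_11_1 lc_c_rc_24_6 lc_c_rc_7_5 lc_c_Cert_tree lc_c_rc_22_9 lc_c_rc_24_2 lc_c_rc_11_1 lc_c_rc_22_3 lc_c_rc_13_2 lc_c_Cert_tree lc_c_rc_11_1 lc_c_rc_13_2 lc_c_rc_11_1 lc_c_rc_26_2) (@D3.rec (fun _ => (Cert rels S Gen.c)) lc_c_rc_26_4 lc_c_rc_13_2 lc_c_rc_14_2 lc_c_rc_11_1 lc_c_rc_11_1 lc_c_rc_11_1 lc_c_Cert_tree lc_c_rc_13_2 lc_c_rc_14_2 lc_c_rc_11_1 lc_c_rc_24_4 lc_c_rc_26_10 lc_c_Cert_tree lc_c_rc_14_2 lc_c_rc_13_2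 lc_c_rc_26_10 lc_c_rc_7_5 lc_c_rc_11_1 lc_c_rc_11_1 lc_c_rc_13_2 lc_c_rc_7_1 lc_c_Cert_tree lc_c_rc_13_2 lc_c_rc_11_1 lc_c_rc_13_2 lc_c_rc_26_10 lc_c_rc_22_5 lc_c_rc_14_2 lc_c_rc_11_1 lc_c_rc_13_2 lc_c_rc_26_4 lc_c_rc_11_1 lc_c_rc_13_2 lc_c_rc_26_8 lc_c_rc_11_1 lc_c_rc_13_2 lc_c_rc_11_1 lc_c_rc_22_9 lc_c_rc_13_2 lc_c_rc_13_0 lc_c_Cert_tree lc_c_rc_14_2 lc_c_rc_7_5 lc_c_Cert_tree lc_c_Cert_tree lc_c_rc_7_5 lc_c_Cert_tree lc_c_rc_23_5 lc_c_Cert_tree lc_c_rc_23_5 lc_c_rc_7_5 lc_c_Cert_tree lc_c_rc_24_6 lc_c_Cert_tree lc_c_Cert_tree lc_c_rc_24_2 lc_c_rc_11_1 lc_c_rc_24_2 lc_c_rc_11_1 lc_c_rc_7_3 lc_c_rc_11_1 lc_c_rc_13_2) (@D3.rec (fun _ => (Cert rels S Gen.c)) lc_c_Cert_tree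 lc_c_rc_11_1 lc_c_rc_11_1 lc_c_rc_11_1 lc_c_Cert_tree lc_c_rc_13_2 lc_c_rc_7_1 lc_c_Cert_tree lc_c_rc_13_2 lc_c_rc_11_1 lc_c_Cert_tree lc_c_Cert_tree lc_c_rc_2_3 lc_c_rc_13_2 lc_c_rc_23_0 lc_c_rc_11_1 lc_c_Cert_tree lc_c_rc_14_2 lc_c_Cert_tree lc_c_rc_26_10 lc_c_rc_14_2 lc_c_Cert_tree lc_c_Cert_tree lc_c_rc_2_3 lc_c_rc_13_2 lc_c_rc_24_8 lc_c_Cert_tree lc_c_rc_14_2 lc_c_rc_26_4 lc_c_rc_23_5 lc_c_rc_7_5 lc_c_rc_13_2 lc_c_rc_24_4 lc_c_rc_11_1 lc_c_rc_12_14 lc_c_rc_24_2 lc_c_rc_24_2 lc_c_rc_13_2 lc_c_rc_22_3 lc_c_rc_23_0 lc_c_rc_11_1 lc_c_rc_22_9 lc_c_rc_13_2 lc_c_rc_13_2 lc_c_rc_13_0 lc_c_rc_13_2 lc_c_rc_13_2 lc_c_rc_14_2 lc_c_rc_13_2 lc_c_rc_24_4 lc_c_rc_11_1 lc_c_rc_2_3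 lc_c_rc_13_2 lc_c_rc_11_1 lc_c_Cert_tree lc_c_rc_14_2 lc_c_rc_26_2 lc_c_rc_26_4 lc_c_rc_11_1 lc_c_rc_13_2 lc_c_Cert_tree lc_c_rc_11_1) (@D3.rec (fun _ => (Cert rels S Gen.c)) lc_c_rc_13_2 lc_c_rc_2_1 lc_c_Cert_tree lc_c_Cert_tree lc_c_rc_7_3 lc_c_rc_7_1 lc_c_rc_24_8 lc_c_rc_11_1 lc_c_rc_14_2 lc_c_rc_26_10 lc_c_rc_11_1 lc_c_rc_24_6 lc_c_rc_11_1 lc_c_Cert_tree lc_c_rc_13_2 lc_c_rc_11_1 lc_c_rc_11_1 lc_c_Cert_tree lc_c_rc_26_8 lc_c_rc_11_1 lc_c_Cert_tree lc_c_rc_26_2 lc_c_rc_11_1 lc_c_rc_13_2 lc_c_Cert_tree lc_c_rc_14_2 lc_c_Cert_tree lc_c_rc_23_5 lc_c_rc_2_3 lc_c_rc_7_3 lc_c_rc_13_2 lc_c_rc_11_1 lc_c_rc_11_1 lc_c_rc_13_2 lc_c_rc_7_3 lc_c_rc_13_2 lc_c_Cert_tree lc_c_rc_14_2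 lc_c_rc_11_1 lc_c_rc_13_2 lc_c_rc_11_1 lc_c_rc_13_2 lc_c_rc_11_1 lc_c_rc_23_5 lc_c_rc_11_1 lc_c_rc_13_2 lc_c_rc_24_6 lc_c_rc_11_1 lc_c_rc_22_5 lc_c_rc_14_2 lc_c_rc_24_8 lc_c_rc_23_5 lc_c_rc_14_0 lc_c_rc_22_3 lc_c_rc_22_9 lc_c_Cert_tree lc_c_rc_2_1 lc_c_Cert_tree lc_c_rc_23_5 lc_c_rc_14_2 lc_c_rc_14_2 lc_c_rc_7_5) (@D3.rec (fun _ => (Cert rels S Gen.c)) lc_c_rc_23_5 lc_c_rc_13_2 lc_c_rc_7_3 lc_c_rc_23_5 lc_c_rc_13_2 lc_c_rc_12_2 lc_c_rc_11_1 lc_c_rc_2_3 lc_c_rc_11_1 lc_c_rc_23_5 lc_c_rc_11_1 lc_c_rc_13_2 lc_c_rc_2_3 lc_c_rc_11_1 lc_c_rc_2_3 lc_c_rc_13_0 lc_c_rc_13_2 lc_c_rc_7_3 lc_c_rc_24_2 lc_c_rc_13_2 lc_c_rc_7_3 lc_c_rc_23_5 lc_c_rc_13_2 lc_c_rc_23_0 lc_c_rc_14_2 lc_c_rc_11_1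 lc_c_rc_14_2 lc_c_rc_13_2 lc_c_rc_13_2 lc_c_rc_13_2 lc_c_rc_7_3 lc_c_rc_13_2 lc_c_rc_24_8 lc_c_rc_26_8 lc_c_rc_26_8 lc_c_rc_7_3 lc_c_rc_13_2 lc_c_rc_26_4 lc_c_rc_13_2 lc_c_rc_7_3 lc_c_rc_23_5 lc_c_rc_13_2 lc_c_Cert_tree lc_c_rc_25_17 lc_c_rc_14_2 lc_c_rc_7_5 lc_c_rc_23_5 lc_c_rc_13_2 lc_c_rc_7_3 lc_c_rc_12_10 lc_c_rc_11_1 lc_c_rc_26_4 lc_c_rc_7_3 lc_c_rc_22_9 lc_c_rc_11_1 lc_c_rc_11_1 lc_c_rc_14_2 lc_c_rc_11_1 lc_c_rc_7_3 lc_c_rc_13_2 lc_c_rc_22_9 lc_c_rc_14_2) (@D3.rec (fun _ => (Cert rels S Gen.c)) lc_c_rc_25_5 lc_c_rc_13_2 lc_c_rc_13_2 lc_c_rc_2_3 lc_c_rc_2_3 lc_c_rc_14_2 lc_c_rc_26_2 lc_c_rc_23_0 lc_c_rc_14_2 lc_c_rc_11_1 lc_c_rc_13_2 lc_c_rc_26_10 lc_c_rc_11_1 lc_c_rc_2_3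 lc_c_Cert_tree lc_c_rc_13_2 lc_c_rc_24_2 lc_c_rc_11_1 lc_c_rc_13_2 lc_c_rc_11_1 lc_c_rc_23_0 lc_c_rc_22_9 lc_c_rc_14_2 lc_c_rc_11_1 lc_c_rc_24_8 lc_c_rc_11_1 lc_c_rc_22_3 lc_c_rc_25_17 lc_c_rc_26_10 lc_c_rc_7_1 lc_c_rc_11_1 lc_c_rc_13_2 lc_c_rc_24_6 lc_c_rc_23_5 lc_c_Cert_tree lc_c_rc_14_2 lc_c_rc_7_5 lc_c_rc_11_1 lc_c_rc_2_3 lc_c_rc_13_2 lc_c_rc_24_2 lc_c_rc_25_9 lc_c_rc_14_2 lc_c_rc_11_1 lc_c_rc_11_1 lc_c_rc_2_3 lc_c_rc_13_2 lc_c_rc_13_2 lc_c_Cert_tree lc_c_Cert_tree lc_c_rc_13_2 lc_c_rc_13_2 lc_c_Cert_tree lc_c_rc_13_0 lc_c_rc_14_2 lc_c_rc_13_2 lc_c_rc_11_1 lc_c_rc_26_4 lc_c_rc_11_1 lc_c_rc_13_2 lc_c_rc_11_1 lc_c_Cert_tree) (@D3.rec (fun _ => (Cert rels S Gen.c))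 lc_c_rc_26_2 lc_c_rc_11_1 lc_c_Cert_tree lc_c_rc_23_0 lc_c_rc_11_1 lc_c_rc_11_1 lc_c_rc_7_5 lc_c_rc_26_8 lc_c_rc_11_1 lc_c_rc_2_3 lc_c_rc_23_0 lc_c_Cert_tree lc_c_rc_2_3 lc_c_rc_24_6 lc_c_rc_24_4 lc_c_Cert_tree lc_c_rc_14_2 lc_c_rc_13_2 lc_c_rc_13_0 lc_c_rc_24_2 lc_c_rc_24_2 lc_c_rc_26_4 lc_c_rc_11_1 lc_c_rc_12_14 lc_c_rc_26_2 lc_c_rc_11_1 lc_c_rc_7_1 lc_c_rc_23_0 lc_c_rc_14_2 lc_c_rc_24_2 lc_c_rc_13_2 lc_c_rc_26_10 lc_c_rc_24_2 lc_c_rc_11_1 lc_c_rc_13_2 lc_c_rc_11_1 lc_c_rc_11_1 lc_c_rc_7_3 lc_c_rc_22_5 lc_c_rc_13_2 lc_c_Cert_tree lc_c_rc_11_1 lc_c_rc_13_2 lc_c_rc_2_1 lc_c_rc_11_1 lc_c_rc_7_3 lc_c_rc_12_2 lc_c_rc_13_2 lc_c_rc_11_1 lc_c_rc_22_5 lc_c_rc_13_2 lc_c_rc_13_2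 lc_c_rc_11_1 lc_c_rc_26_4 lc_c_rc_22_5 lc_c_rc_13_2 lc_c_rc_11_1 lc_c_Cert_tree lc_c_rc_22_5 lc_c_rc_11_1 lc_c_rc_11_1 lc_c_rc_13_2) (@D3.rec (fun _ => (Cert rels S Gen.c)) lc_c_rc_12_2 lc_c_rc_11_1 lc_c_Cert_tree lc_c_rc_14_2 lc_c_rc_13_2 lc_c_rc_13_0 lc_c_rc_13_2 lc_c_rc_26_10 lc_c_rc_23_0 lc_c_rc_26_4 lc_c_rc_11_1 lc_c_rc_14_0 lc_c_rc_23_5 lc_c_rc_2_1 lc_c_rc_7_5 lc_c_rc_22_3 lc_c_rc_13_2 lc_c_rc_23_5 lc_c_rc_2_3 lc_c_rc_11_1 lc_c_rc_22_7 lc_c_rc_13_2 lc_c_rc_11_1 lc_c_rc_2_3 lc_c_rc_26_2 lc_c_rc_13_2 lc_c_rc_7_3 lc_c_rc_24_8 lc_c_rc_7_3 lc_c_rc_24_8 lc_c_rc_11_1 lc_c_rc_23_5 lc_c_rc_13_2 lc_c_rc_23_0 lc_c_rc_14_2 lc_c_rc_11_1 lc_c_Cert_tree lc_c_rc_11_1 lc_c_Cert_tree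 lc_c_rc_7_1 lc_c_rc_13_2 lc_c_rc_13_2 lc_c_rc_7_3 lc_c_rc_13_2 lc_c_rc_13_0 lc_c_rc_13_2 lc_c_rc_13_2 lc_c_rc_7_3 lc_c_rc_13_2 lc_c_rc_24_8 lc_c_rc_26_2 lc_c_rc_26_2 lc_c_rc_7_3 lc_c_rc_23_5 lc_c_rc_13_2 lc_c_rc_12_8 lc_c_rc_7_5 lc_c_rc_22_3 lc_c_rc_13_2 lc_c_rc_7_5 lc_c_rc_24_2 lc_c_rc_13_2) (@D3.rec (fun _ => (Cert rels S Gen.c)) lc_c_Cert_tree lc_c_rc_25_5 lc_c_rc_2_1 lc_c_Cert_tree lc_c_rc_13_2 lc_c_rc_11_1 lc_c_rc_13_2 lc_c_rc_13_2 lc_c_rc_11_1 lc_c_Cert_tree lc_c_rc_14_2 lc_c_rc_11_1 lc_c_rc_11_1 lc_c_rc_7_3 lc_c_rc_26_2 lc_c_rc_7_3 lc_c_rc_13_2 lc_c_Cert_tree lc_c_rc_11_1 lc_c_rc_2_3 lc_c_rc_7_3 lc_c_rc_13_2 lc_c_rc_13_2 lc_c_rc_2_1 lc_c_Cert_tree lc_c_rc_24_2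 lc_c_rc_23_0 lc_c_rc_14_2 lc_c_rc_7_5 lc_c_rc_13_2 lc_c_Cert_tree lc_c_Cert_tree lc_c_rc_2_3 lc_c_rc_11_1 lc_c_rc_13_2 lc_c_rc_11_1 lc_c_rc_23_0 lc_c_rc_13_2 lc_c_rc_23_0 lc_c_rc_23_0 lc_c_Cert_tree lc_c_rc_14_2 lc_c_rc_11_1 lc_c_rc_26_8 lc_c_rc_11_1 lc_c_rc_26_10 lc_c_rc_26_10 lc_c_rc_14_2 lc_c_rc_7_3 lc_c_rc_11_1 lc_c_rc_2_3 lc_c_rc_14_0 lc_c_rc_13_2 lc_c_rc_13_2 lc_c_rc_11_1 lc_c_rc_24_4 lc_c_Cert_tree lc_c_rc_14_2 lc_c_rc_11_1 lc_c_Cert_tree lc_c_rc_11_1 lc_c_rc_22_3) (@D3.rec (fun _ => (Cert rels S Gen.c)) lc_c_rc_13_2 lc_c_rc_24_2 lc_c_rc_13_2 lc_c_Cert_tree lc_c_rc_14_2 lc_c_rc_13_2 lc_c_Cert_tree lc_c_rc_14_2 lc_c_rc_14_2 lc_c_rc_2_3 lc_c_Cert_tree lc_c_rc_13_2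 lc_c_rc_26_8 lc_c_rc_7_5 lc_c_rc_11_1 lc_c_rc_2_1 lc_c_Cert_tree lc_c_Cert_tree lc_c_rc_11_1 lc_c_rc_13_2 lc_c_rc_26_4 lc_c_rc_13_2 lc_c_rc_2_3 lc_c_rc_13_2 lc_c_rc_13_2 lc_c_rc_7_3 lc_c_rc_13_2 lc_c_Cert_tree lc_c_Cert_tree lc_c_rc_14_2 lc_c_rc_13_2 lc_c_rc_11_1 lc_c_rc_24_2 lc_c_rc_11_1 lc_c_Cert_tree lc_c_rc_13_2 lc_c_rc_11_1 lc_c_Cert_tree lc_c_rc_24_4 lc_c_rc_11_1 lc_c_rc_7_3 lc_c_rc_13_2 lc_c_rc_24_6 lc_c_rc_13_0 lc_c_rc_14_2 lc_c_rc_7_5 lc_c_rc_7_3 lc_c_rc_13_2 lc_c_rc_24_6 lc_c_rc_11_1 lc_c_rc_2_3 lc_c_rc_22_5 lc_c_rc_13_2 lc_c_rc_13_2 lc_c_Cert_tree lc_c_rc_11_1 lc_c_rc_7_1 lc_c_rc_11_1 lc_c_rc_13_2 lc_c_rc_13_2 lc_c_rc_13_0 lc_c_rc_23_0) (@D3.rec (fun _ =>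 (Cert rels S Gen.c)) lc_c_rc_14_2 lc_c_rc_14_2 lc_c_rc_26_4 lc_c_rc_11_1 lc_c_Cert_tree lc_c_rc_26_4 lc_c_rc_11_1 lc_c_rc_13_2 lc_c_rc_11_1 lc_c_rc_7_5 lc_c_rc_13_2 lc_c_rc_26_4 lc_c_rc_11_1 lc_c_rc_13_2 lc_c_rc_11_1 lc_c_rc_13_2 lc_c_rc_11_1 lc_c_rc_2_1 lc_c_rc_13_2 lc_c_rc_26_2 lc_c_Cert_tree lc_c_rc_14_2 lc_c_rc_26_10 lc_c_rc_11_1 lc_c_rc_7_3 lc_c_rc_11_1 lc_c_Cert_tree lc_c_rc_11_1 lc_c_rc_23_0 lc_c_rc_2_3 lc_c_rc_11_1 lc_c_rc_12_2 lc_c_rc_13_2 lc_c_rc_22_5 lc_c_Cert_tree lc_c_rc_23_0 lc_c_rc_26_8 lc_c_rc_7_1 lc_c_rc_13_2 lc_c_rc_11_1 lc_c_rc_22_3 lc_c_rc_25_5 lc_c_rc_13_2 lc_c_rc_26_10 lc_c_rc_13_2 lc_c_rc_13_2 lc_c_rc_7_3 lc_c_Cert_tree lc_c_rc_23_5 lc_c_rc_7_3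 lc_c_rc_13_2 lc_c_rc_11_1 lc_c_rc_11_1 lc_c_rc_7_3 lc_c_rc_13_2 lc_c_rc_26_2 lc_c_rc_22_5 lc_c_rc_13_2 lc_c_rc_24_6 lc_c_rc_24_6 lc_c_rc_26_8 lc_c_rc_26_2) (@D3.rec (fun _ => (Cert rels S Gen.c)) lc_c_Cert_tree lc_c_Cert_tree lc_c_rc_2_3 lc_c_Cert_tree lc_c_rc_13_2 lc_c_rc_26_10 lc_c_rc_24_4 lc_c_rc_11_1 lc_c_rc_2_3 lc_c_rc_24_8 lc_c_rc_13_2 lc_c_rc_13_2 lc_c_rc_24_6 lc_c_rc_23_5 lc_c_Cert_tree lc_c_rc_14_2 lc_c_rc_11_1 lc_c_rc_11_1 lc_c_rc_13_2 lc_c_rc_11_1 lc_c_rc_22_5 lc_c_rc_2_3 lc_c_rc_13_2 lc_c_rc_13_2 lc_c_rc_14_0 lc_c_rc_13_2 lc_c_rc_22_9 lc_c_rc_14_2 lc_c_rc_11_1 lc_c_rc_12_14 lc_c_rc_11_1 lc_c_rc_11_1 lc_c_rc_13_2 lc_c_rc_7_3 lc_c_rc_13_0 lc_c_rc_11_1 lc_c_rc_13_0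 lc_c_rc_13_2 lc_c_rc_22_5 lc_c_rc_14_2 lc_c_rc_14_2 lc_c_rc_22_3 lc_c_rc_26_2 lc_c_rc_11_1 lc_c_rc_13_2 lc_c_rc_11_1 lc_c_rc_7_3 lc_c_rc_11_1 lc_c_rc_2_3 lc_c_rc_7_3 lc_c_rc_7_3 lc_c_rc_23_5 lc_c_rc_13_2 lc_c_Cert_tree lc_c_rc_13_2 lc_c_rc_22_3 lc_c_rc_13_2 lc_c_rc_13_2 lc_c_rc_13_0 lc_c_rc_14_2 lc_c_rc_13_2 lc_c_Cert_tree) (@D3.rec (fun _ => (Cert rels S Gen.c)) lc_c_rc_7_3 lc_c_rc_13_2 lc_c_rc_14_2 lc_c_rc_24_8 lc_c_rc_26_4 lc_c_Cert_tree lc_c_Cert_tree lc_c_rc_2_3 lc_c_Cert_tree lc_c_rc_13_2 lc_c_rc_26_2 lc_c_rc_26_2 lc_c_rc_14_0 lc_c_rc_2_3 lc_c_rc_2_3 lc_c_rc_22_3 lc_c_rc_7_3 lc_c_rc_13_2 lc_c_rc_13_2 lc_c_rc_26_10 lc_c_rc_24_6 lc_c_rc_24_4 lc_c_rc_2_3 lc_c_rc_26_4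 lc_c_rc_13_2 lc_c_rc_13_2 lc_c_rc_11_1 lc_c_rc_23_0 lc_c_rc_11_1 lc_c_rc_13_0 lc_c_rc_23_0 lc_c_rc_22_5 lc_c_rc_11_1 lc_c_rc_11_1 lc_c_rc_14_2 lc_c_rc_11_1 lc_c_rc_22_5 lc_c_rc_11_1 lc_c_rc_11_1 lc_c_rc_11_1 lc_c_rc_2_3 lc_c_rc_11_1 lc_c_rc_13_2 lc_c_rc_13_2 lc_c_rc_11_1 lc_c_rc_14_2 lc_c_rc_24_8 lc_c_rc_11_1 lc_c_rc_11_1 lc_c_rc_7_3 lc_c_rc_13_2 lc_c_rc_23_5 lc_c_rc_14_2 lc_c_rc_11_1 lc_c_rc_14_2 lc_c_rc_26_4 lc_c_rc_11_1 lc_c_Cert_tree lc_c_rc_13_2 lc_c_rc_2_3 lc_c_Cert_tree lc_c_Cert_tree) (@D3.rec (fun _ => (Cert rels S Gen.c)) lc_c_Cert_tree lc_c_rc_11_1 lc_c_rc_14_2 lc_c_rc_13_2 lc_c_rc_24_2 lc_c_rc_2_1 lc_c_rc_22_7 lc_c_rc_26_2 lc_c_rc_7_3 lc_c_rc_13_2 lc_c_rc_14_0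 lc_c_rc_13_2 lc_c_rc_14_2 lc_c_rc_13_2 lc_c_Cert_tree lc_c_rc_7_3 lc_c_rc_13_2 lc_c_rc_24_8 lc_c_rc_11_1 lc_c_rc_7_3 lc_c_rc_13_2 lc_c_rc_11_1 lc_c_rc_26_4 lc_c_rc_7_3 lc_c_rc_2_1 lc_c_rc_11_1 lc_c_rc_22_9 lc_c_Cert_tree lc_c_rc_7_1 lc_c_rc_13_2 lc_c_rc_23_0 lc_c_rc_23_0 lc_c_Cert_tree lc_c_rc_14_2 lc_c_rc_11_1 lc_c_rc_26_2 lc_c_Cert_tree lc_c_rc_11_1 lc_c_rc_2_3 lc_c_Cert_tree lc_c_rc_13_2 lc_c_rc_13_2 lc_c_Cert_tree lc_c_rc_14_2 lc_c_rc_11_1 lc_c_rc_23_0 lc_c_rc_23_0 lc_c_rc_11_1 lc_c_rc_2_3 lc_c_rc_26_2 lc_c_rc_13_2 lc_c_rc_13_2 lc_c_rc_13_2 lc_c_rc_23_0 lc_c_Cert_tree lc_c_rc_14_2 lc_c_rc_11_1 lc_c_rc_23_5 lc_c_rc_14_2 lc_c_rc_11_1 lc_c_rc_2_3 lc_c_Cert_tree) (@D3.rec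 (fun _ => (Cert rels S Gen.c)) lc_c_rc_13_2 lc_c_rc_13_2 lc_c_rc_7_5 lc_c_rc_11_1 lc_c_rc_23_5 lc_c_rc_14_2 lc_c_rc_11_1 lc_c_rc_13_2 lc_c_Cert_tree lc_c_rc_11_1 lc_c_rc_11_1 lc_c_Cert_tree lc_c_rc_13_2 lc_c_rc_13_2 lc_c_Cert_tree lc_c_rc_14_2 lc_c_Cert_tree lc_c_Cert_tree lc_c_rc_7_5 lc_c_rc_13_2 lc_c_rc_22_7 lc_c_rc_14_2 lc_c_rc_11_1 lc_c_rc_26_4 lc_c_rc_11_1 lc_c_rc_11_1 lc_c_rc_13_2 lc_c_rc_26_10 lc_c_rc_12_14 lc_c_rc_11_1 lc_c_rc_11_1 lc_c_rc_13_2 lc_c_Cert_tree lc_c_Cert_tree lc_c_Cert_tree lc_c_rc_11_1 lc_c_rc_14_0 lc_c_rc_24_2 lc_c_rc_13_2 lc_c_rc_23_0 lc_c_rc_13_2 lc_c_rc_11_1 lc_c_rc_7_5 lc_c_rc_7_5 lc_c_Cert_tree lc_c_Cert_tree lc_c_rc_2_3 lc_c_Cert_tree lc_c_rc_13_2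 lc_c_rc_13_2 lc_c_rc_24_4 lc_c_rc_14_0 lc_c_rc_14_2 lc_c_rc_13_2 lc_c_rc_13_2 lc_c_rc_26_10 lc_c_rc_24_2 lc_c_rc_22_3 lc_c_Cert_tree lc_c_Cert_tree lc_c_rc_2_3 lc_c_rc_13_2) (@D3.rec (fun _ => (Cert rels S Gen.c)) lc_c_rc_2_3 lc_c_rc_14_2 lc_c_rc_13_0 lc_c_rc_11_1 lc_c_rc_13_2 lc_c_Cert_tree lc_c_Cert_tree lc_c_rc_2_3 lc_c_rc_24_8 lc_c_rc_23_5 lc_c_rc_11_1 lc_c_rc_11_1 lc_c_rc_14_2 lc_c_rc_23_0 lc_c_rc_11_1 lc_c_rc_11_1 lc_c_rc_11_1 lc_c_Cert_tree lc_c_rc_24_4 lc_c_rc_11_1 lc_c_rc_11_1 lc_c_rc_7_3 lc_c_rc_14_2 lc_c_rc_25_5 lc_c_rc_22_5 lc_c_rc_2_3 lc_c_Cert_tree lc_c_rc_13_2 lc_c_rc_26_4 lc_c_rc_11_1 lc_c_rc_25_5 lc_c_rc_13_2 lc_c_Cert_tree lc_c_rc_11_1 lc_c_Cert_tree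 lc_c_rc_13_2 lc_c_Cert_tree lc_c_rc_14_2 lc_c_rc_26_10 lc_c_Cert_tree lc_c_rc_11_1 lc_c_rc_13_2 lc_c_rc_26_10 lc_c_rc_13_0 lc_c_rc_22_3 lc_c_rc_13_2 lc_c_rc_14_2 lc_c_rc_13_2 lc_c_rc_7_3 lc_c_rc_2_1 lc_c_rc_14_0 lc_c_rc_11_1 lc_c_Cert_tree lc_c_rc_14_2 lc_c_rc_13_0 lc_c_Cert_tree lc_c_Cert_tree lc_c_Cert_tree lc_c_rc_23_5 lc_c_Cert_tree lc_c_Cert_tree lc_c_rc_11_1) (@D3.rec (fun _ => (Cert rels S Gen.c)) lc_c_rc_14_2 lc_c_rc_24_6 lc_c_rc_7_3 lc_c_rc_23_0 lc_c_rc_11_1 lc_c_rc_14_2 lc_c_Cert_tree lc_c_rc_13_2 lc_c_rc_11_1 lc_c_rc_2_3 lc_c_rc_11_1 lc_c_rc_11_1 lc_c_rc_13_2 lc_c_Cert_tree lc_c_rc_14_2 lc_c_rc_7_5 lc_c_rc_12_2 lc_c_rc_13_2 lc_c_rc_26_10 lc_c_rc_11_1 lc_c_rc_2_3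 lc_c_rc_13_2 lc_c_rc_7_3 lc_c_rc_13_2 lc_c_rc_14_2 lc_c_rc_7_3 lc_c_rc_13_2 lc_c_rc_24_2 lc_c_rc_24_2 lc_c_rc_14_2 lc_c_Cert_tree lc_c_Cert_tree lc_c_rc_2_3 lc_c_rc_11_1 lc_c_rc_13_2 lc_c_rc_13_2 lc_c_rc_2_3 lc_c_Cert_tree lc_c_rc_14_2 lc_c_rc_22_3 lc_c_rc_26_2 lc_c_rc_7_3 lc_c_rc_13_2 lc_c_rc_7_1 lc_c_rc_11_1 lc_c_rc_2_3 lc_c_rc_13_2 lc_c_Cert_tree lc_c_rc_14_2 lc_c_rc_25_17 lc_c_rc_24_8 lc_c_rc_24_2 lc_c_rc_11_1 lc_c_rc_13_2 lc_c_rc_11_1 lc_c_Cert_tree lc_c_rc_11_1 lc_c_Cert_tree lc_c_rc_13_2 lc_c_rc_13_0 lc_c_rc_11_1 lc_c_Cert_tree) (@D3.rec (fun _ => (Cert rels S Gen.c)) lc_c_rc_11_1 lc_c_Cert_tree lc_c_rc_7_5 lc_c_rc_24_4 lc_c_rc_11_1 lc_c_rc_11_1 lc_c_rc_13_2 lc_c_rc_2_3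 lc_c_rc_7_5 lc_c_rc_22_3 lc_c_rc_14_2 lc_c_rc_13_0 lc_c_rc_26_4 lc_c_rc_14_2 lc_c_rc_7_5 lc_c_Cert_tree lc_c_rc_14_0 lc_c_rc_26_4 lc_c_Cert_tree lc_c_Cert_tree lc_c_Cert_tree lc_c_rc_11_1 lc_c_rc_14_2 lc_c_rc_2_3 lc_c_Cert_tree lc_c_rc_7_3 lc_c_Cert_tree lc_c_rc_11_1 lc_c_rc_11_1 lc_c_rc_24_8 lc_c_rc_11_1 lc_c_rc_13_2 lc_c_Cert_tree lc_c_rc_14_2 lc_c_Cert_tree lc_c_rc_11_1 lc_c_rc_2_3 lc_c_rc_24_4 lc_c_rc_13_2 lc_c_Cert_tree lc_c_rc_11_1 lc_c_rc_2_3 lc_c_rc_23_0 lc_c_rc_13_2 lc_c_rc_13_2 lc_c_rc_23_0 lc_c_Cert_tree lc_c_Cert_tree lc_c_rc_13_0 lc_c_rc_22_3 lc_c_rc_24_8 lc_c_Cert_tree lc_c_Cert_tree lc_c_rc_7_5 lc_c_rc_26_4 lc_c_rc_11_1 lc_c_rc_7_5 lc_c_Cert_tree lc_c_rc_11_1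 lc_c_Cert_tree lc_c_rc_2_1 lc_c_rc_11_1) (@D3.rec (fun _ => (Cert rels S Gen.c)) lc_c_rc_2_3 lc_c_rc_11_1 lc_c_rc_13_2 lc_c_rc_26_10 lc_c_rc_11_1 lc_c_rc_13_2 lc_c_rc_7_3 lc_c_rc_7_3 lc_c_rc_13_0 lc_c_rc_24_4 lc_c_rc_23_0 lc_c_Cert_tree lc_c_rc_14_2 lc_c_rc_14_0 lc_c_Cert_tree lc_c_rc_26_2 lc_c_Cert_tree lc_c_rc_13_2 lc_c_Cert_tree lc_c_Cert_tree lc_c_rc_11_1 lc_c_rc_14_2 lc_c_rc_7_3 lc_c_rc_7_5 lc_c_rc_11_1 lc_c_Cert_tree lc_c_rc_13_2 lc_c_rc_7_3 lc_c_Cert_tree lc_c_rc_7_5 lc_c_rc_11_1 lc_c_rc_11_1 lc_c_rc_2_3 lc_c_rc_13_2 lc_c_rc_24_6 lc_c_rc_13_0 lc_c_Cert_tree lc_c_rc_14_2 lc_c_rc_13_2 lc_c_rc_23_0 lc_c_rc_11_1 lc_c_rc_23_5 lc_c_rc_26_4 lc_c_rc_11_1 lc_c_rc_24_6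 lc_c_rc_11_1 lc_c_rc_13_2 lc_c_rc_25_5 lc_c_rc_14_0 lc_c_Cert_tree lc_c_Cert_tree lc_c_rc_11_1 lc_c_rc_13_2 lc_c_rc_2_3 lc_c_rc_14_2 lc_c_rc_22_7 lc_c_rc_23_0 lc_c_rc_14_2 lc_c_rc_7_3 lc_c_rc_11_1 lc_c_rc_24_4 lc_c_rc_24_6) (@D3.rec (fun _ => (Cert rels S Gen.c)) lc_c_rc_22_7 lc_c_rc_22_3 lc_c_rc_24_4 lc_c_rc_24_2 lc_c_rc_13_2 lc_c_rc_23_0 lc_c_rc_13_2 lc_c_rc_22_7 lc_c_rc_23_0 lc_c_rc_24_6 lc_c_rc_11_1 lc_c_rc_7_3 lc_c_rc_14_2 lc_c_rc_26_4 lc_c_rc_11_1 lc_c_rc_22_3 lc_c_rc_13_2 lc_c_Cert_tree lc_c_rc_11_1 lc_c_rc_23_5 lc_c_rc_11_1 lc_c_rc_22_7 lc_c_rc_13_2 lc_c_rc_11_1 lc_c_rc_11_1 lc_c_rc_26_10 lc_c_rc_13_2 lc_c_rc_25_5 lc_c_rc_12_2 lc_c_rc_13_2 lc_c_rc_22_5 lc_c_Cert_tree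 lc_c_Cert_tree lc_c_rc_14_2 lc_c_rc_13_2 lc_c_rc_14_2 lc_c_rc_11_1 lc_c_rc_7_1 lc_c_rc_24_6 lc_c_rc_23_0 lc_c_Cert_tree lc_c_rc_14_2 lc_c_rc_11_1 lc_c_rc_14_2 lc_c_rc_11_1 lc_c_rc_14_2 lc_c_rc_26_4 lc_c_rc_11_1 lc_c_rc_25_1 lc_c_rc_22_5 lc_c_rc_11_1 lc_c_rc_7_3 lc_c_rc_13_2 lc_c_Cert_tree lc_c_rc_13_2 lc_c_Cert_tree lc_c_Cert_tree lc_c_rc_11_1 lc_c_rc_13_2 lc_c_rc_26_10 lc_c_rc_23_0 lc_c_Cert_tree) (@D3.rec (fun _ => (Cert rels S Gen.c)) lc_c_rc_14_2 lc_c_rc_23_0 lc_c_rc_23_0 lc_c_rc_13_2 lc_c_rc_14_2 lc_c_rc_24_2 lc_c_rc_23_0 lc_c_rc_11_1 lc_c_rc_22_3 lc_c_Cert_tree lc_c_rc_14_2 lc_c_Cert_tree lc_c_rc_13_2 lc_c_rc_25_13 lc_c_rc_26_2 lc_c_rc_26_4 lc_c_rc_13_2 lc_c_Cert_tree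 lc_c_rc_11_1 lc_c_rc_13_2 lc_c_rc_24_6 lc_c_Cert_tree lc_c_rc_24_6 lc_c_rc_2_1 lc_c_rc_11_1 lc_c_Cert_tree lc_c_rc_11_1 lc_c_rc_13_2 lc_c_Cert_tree lc_c_rc_11_1 lc_c_rc_26_2 lc_c_rc_26_8 lc_c_rc_11_1 lc_c_rc_7_3 lc_c_rc_11_1 lc_c_rc_11_1 lc_c_rc_24_4 lc_c_rc_24_4 lc_c_rc_7_3 lc_c_rc_14_2 lc_c_rc_23_5 lc_c_rc_13_0 lc_c_rc_23_5 lc_c_rc_23_5 lc_c_rc_11_1 lc_c_rc_2_3 lc_c_rc_14_0 lc_c_rc_13_0 lc_c_Cert_tree lc_c_rc_14_2 lc_c_rc_23_0 lc_c_rc_11_1 lc_c_rc_13_2 lc_c_rc_2_1 lc_c_rc_23_5 lc_c_rc_14_2 lc_c_Cert_tree lc_c_Cert_tree lc_c_rc_2_3 lc_c_rc_2_3 lc_c_rc_7_5 lc_c_rc_13_2) (@D3.rec (fun _ => (Cert rels S Gen.c)) lc_c_rc_2_1 lc_c_rc_26_4 lc_c_rc_11_1 lc_c_rc_14_0 lc_c_rc_14_2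 lc_c_rc_7_5 lc_c_rc_2_3 lc_c_Cert_tree lc_c_rc_11_1 lc_c_Cert_tree lc_c_rc_13_2 lc_c_rc_13_2 lc_c_Cert_tree lc_c_rc_24_6 lc_c_rc_24_4 lc_c_rc_2_3 lc_c_rc_13_2 lc_c_rc_26_4 lc_c_rc_11_1 lc_c_rc_11_1 lc_c_Cert_tree lc_c_rc_13_2 lc_c_rc_26_4 lc_c_rc_23_0 lc_c_rc_13_2 lc_c_rc_11_1 lc_c_rc_24_2 lc_c_rc_11_1 lc_c_rc_7_5 lc_c_rc_11_1 lc_c_rc_23_0 lc_c_Cert_tree lc_c_rc_11_1 lc_c_Cert_tree lc_c_rc_2_1 lc_c_rc_7_3 lc_c_rc_24_4 lc_c_Cert_tree lc_c_rc_13_2 lc_c_rc_13_2 lc_c_rc_24_6 lc_c_rc_24_6 lc_c_Cert_tree lc_c_rc_14_2 lc_c_rc_11_1 lc_c_rc_11_1 lc_c_rc_13_2 lc_c_rc_7_3 lc_c_rc_22_3 lc_c_rc_13_2 lc_c_rc_13_2 lc_c_rc_24_2 lc_c_rc_13_0 lc_c_rc_11_1 lc_c_rc_11_1 lc_c_rc_2_3 lc_c_rc_13_2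 lc_c_Cert_tree lc_c_rc_14_2 lc_c_rc_11_1 lc_c_rc_11_1 lc_c_rc_26_2) (@D3.rec (fun _ => (Cert rels S Gen.c)) lc_c_rc_22_3 lc_c_rc_2_3 lc_c_rc_11_1 lc_c_rc_13_2 lc_c_rc_13_2 lc_c_rc_11_1 lc_c_rc_23_0 lc_c_Cert_tree lc_c_rc_14_2 lc_c_rc_11_1 lc_c_Cert_tree lc_c_rc_13_2 lc_c_Cert_tree lc_c_rc_11_1 lc_c_rc_2_3 lc_c_rc_26_4 lc_c_rc_13_2 lc_c_rc_13_2 lc_c_rc_11_1 lc_c_Cert_tree lc_c_rc_14_2 lc_c_Cert_tree lc_c_Cert_tree lc_c_rc_11_1 lc_c_rc_22_3 lc_c_rc_13_2 lc_c_rc_13_2 lc_c_Cert_tree lc_c_rc_14_2 lc_c_rc_11_1 lc_c_rc_24_8 lc_c_rc_23_5 lc_c_rc_11_1 lc_c_rc_13_2 lc_c_rc_13_2 lc_c_Cert_tree lc_c_rc_26_4 lc_c_rc_2_3 lc_c_rc_14_2 lc_c_rc_14_2 lc_c_rc_23_5 lc_c_rc_22_5 lc_c_rc_7_3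 lc_c_rc_13_2 lc_c_rc_7_3 lc_c_rc_13_2 lc_c_Cert_tree lc_c_Cert_tree lc_c_Cert_tree lc_c_rc_14_2 lc_c_rc_7_3 lc_c_rc_11_1 lc_c_Cert_tree lc_c_Cert_tree lc_c_rc_11_1 lc_c_Cert_tree lc_c_rc_13_2 lc_c_Cert_tree lc_c_Cert_tree lc_c_rc_11_1 lc_c_rc_14_2 lc_c_rc_11_1) (@D3.rec (fun _ => (Cert rels S Gen.c)) lc_c_rc_7_3 lc_c_Cert_tree lc_c_rc_7_3 lc_c_Cert_tree lc_c_rc_13_2 lc_c_rc_11_1 lc_c_rc_11_1 lc_c_rc_23_0 lc_c_rc_11_1 lc_c_rc_11_1 lc_c_Cert_tree lc_c_rc_11_1 lc_c_rc_23_0 lc_c_rc_11_1 lc_c_Cert_tree lc_c_rc_7_3 lc_c_Cert_tree lc_c_rc_11_1 lc_c_rc_22_7 lc_c_Cert_tree lc_c_rc_11_1 lc_c_rc_11_1 lc_c_rc_23_0 lc_c_rc_13_2 lc_c_rc_26_2 lc_c_Cert_tree lc_c_Cert_tree lc_c_Cert_tree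 lc_c_Cert_tree lc_c_rc_11_1 lc_c_Cert_tree lc_c_rc_13_2 lc_c_rc_22_3 lc_c_rc_13_0 lc_c_rc_11_1 lc_c_rc_13_2 lc_c_rc_13_2 lc_c_Cert_tree lc_c_rc_14_2 lc_c_rc_26_4 lc_c_rc_24_2 lc_c_rc_2_3 lc_c_Cert_tree lc_c_rc_13_2 lc_c_rc_13_2 lc_c_rc_7_3 lc_c_rc_13_2 lc_c_Cert_tree lc_c_Cert_tree lc_c_Cert_tree lc_c_rc_14_2 lc_c_rc_7_5 lc_c_Cert_tree lc_c_Cert_tree lc_c_Cert_tree lc_c_rc_11_1 lc_c_rc_11_1 lc_c_rc_14_2 lc_c_Cert_tree lc_c_rc_11_1 lc_c_Cert_tree lc_c_rc_26_4) (@D3.rec (fun _ => (Cert rels S Gen.c)) lc_c_rc_11_1 lc_c_Cert_tree lc_c_rc_23_0 lc_c_rc_11_1 lc_c_rc_7_3 lc_c_Cert_tree lc_c_rc_14_2 lc_c_rc_11_1 lc_c_rc_11_1 lc_c_rc_2_3 lc_c_rc_11_1 lc_c_rc_11_1 lc_c_rc_7_1 lc_c_rc_14_2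 lc_c_rc_11_1 lc_c_Cert_tree lc_c_rc_7_3 lc_c_rc_13_2 lc_c_Cert_tree lc_c_rc_2_3 lc_c_rc_13_2 lc_c_rc_14_2 lc_c_rc_26_4 lc_c_rc_11_1 lc_c_rc_13_2 lc_c_rc_11_1 lc_c_rc_26_2 lc_c_rc_2_3 lc_c_rc_24_4 lc_c_rc_22_3 lc_c_rc_13_2 lc_c_rc_13_2 lc_c_rc_13_2 lc_c_rc_11_1 lc_c_Cert_tree lc_c_rc_14_2 lc_c_rc_11_1 lc_c_rc_11_1 lc_c_Cert_tree lc_c_rc_11_1 lc_c_rc_2_3 lc_c_rc_13_2 lc_c_Cert_tree lc_c_rc_14_2 lc_c_rc_11_1 lc_c_rc_26_4 lc_c_rc_23_0 lc_c_rc_7_1 lc_c_rc_24_4 lc_c_rc_25_1 lc_c_rc_22_7 lc_c_rc_11_1 lc_c_rc_13_2 lc_c_rc_12_14 lc_c_Cert_tree lc_c_rc_13_2 lc_c_rc_26_2 lc_c_rc_13_2 lc_c_Cert_tree lc_c_Cert_tree lc_c_Cert_tree lc_c_rc_14_2) (@D3.rec (fun _ => (Cert rels S Gen.c))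 lc_c_rc_7_3 lc_c_rc_11_1 lc_c_rc_22_3 lc_c_rc_13_2 lc_c_rc_7_1 lc_c_rc_11_1 lc_c_Cert_tree lc_c_rc_13_2 lc_c_rc_24_2 lc_c_Cert_tree lc_c_rc_11_1 lc_c_rc_24_6 lc_c_rc_26_4 lc_c_rc_24_6 lc_c_rc_7_3 lc_c_rc_11_1 lc_c_rc_13_2 lc_c_rc_11_1 lc_c_rc_7_3 lc_c_Cert_tree lc_c_rc_13_2 lc_c_rc_11_1 lc_c_rc_7_3 lc_c_rc_7_5 lc_c_rc_7_3 lc_c_rc_13_2 lc_c_rc_11_1 lc_c_rc_7_1 lc_c_rc_11_1 lc_c_rc_7_3 lc_c_Cert_tree lc_c_rc_24_2 lc_c_rc_7_3 lc_c_rc_22_7 lc_c_rc_23_0 lc_c_rc_23_5 lc_c_rc_13_2 lc_c_rc_13_2 lc_c_rc_24_6 lc_c_Cert_tree lc_c_rc_14_2 lc_c_rc_11_1 lc_c_Cert_tree lc_c_Cert_tree lc_c_rc_2_3 lc_c_Cert_tree lc_c_rc_11_1 lc_c_rc_11_1 lc_c_rc_13_2 lc_c_Cert_tree lc_c_rc_26_4 lc_c_rc_26_8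 lc_c_rc_13_2 lc_c_rc_14_0 lc_c_rc_11_1 lc_c_rc_26_10 lc_c_rc_23_0 lc_c_rc_7_3 lc_c_rc_13_2 lc_c_Cert_tree lc_c_rc_7_5 lc_c_rc_7_5) (@D3.rec (fun _ => (Cert rels S Gen.c)) lc_c_rc_14_2 lc_c_rc_7_5 lc_c_rc_13_2 lc_c_rc_11_1 lc_c_Cert_tree lc_c_Cert_tree lc_c_rc_11_1 lc_c_rc_7_3 lc_c_rc_13_0 lc_c_rc_11_1 lc_c_rc_13_2 lc_c_rc_11_1 lc_c_rc_26_4 lc_c_rc_11_1 lc_c_rc_11_1 lc_c_rc_22_9 lc_c_rc_13_2 lc_c_rc_11_1 lc_c_rc_13_2 lc_c_rc_11_1 lc_c_rc_11_1 lc_c_rc_7_1 lc_c_rc_7_3 lc_c_rc_26_2 lc_c_rc_13_2 lc_c_rc_11_1 lc_c_rc_7_5 lc_c_Cert_tree lc_c_rc_11_1 lc_c_rc_7_1 lc_c_Cert_tree lc_c_rc_26_2 lc_c_rc_24_2 lc_c_rc_13_2 lc_c_rc_22_3 lc_c_rc_11_1 lc_c_rc_12_4 lc_c_rc_7_3 lc_c_rc_7_3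 lc_c_rc_11_1 lc_c_Cert_tree lc_c_Cert_tree lc_c_rc_11_1 lc_c_rc_13_2 lc_c_rc_14_2 lc_c_Cert_tree lc_c_rc_11_1 lc_c_rc_2_1 lc_c_rc_11_1 lc_c_rc_24_2 lc_c_rc_14_2 lc_c_rc_7_1 lc_c_rc_12_14 lc_c_rc_25_5 lc_c_rc_26_2 lc_c_rc_11_1 lc_c_rc_13_2 lc_c_rc_22_3 lc_c_rc_23_0 lc_c_rc_22_3 lc_c_rc_22_3 lc_c_rc_23_0) (@D3.rec (fun _ => (Cert rels S Gen.c)) lc_c_rc_13_2 lc_c_rc_11_1 lc_c_rc_2_1 lc_c_rc_26_4 lc_c_rc_7_3 lc_c_rc_26_4 lc_c_rc_22_3 lc_c_rc_7_5 lc_c_rc_2_3 lc_c_rc_14_2 lc_c_rc_2_1 lc_c_rc_11_1 lc_c_rc_13_2 lc_c_rc_24_4 lc_c_rc_23_5 lc_c_rc_22_9 lc_c_rc_11_1 lc_c_rc_11_1 lc_c_rc_11_1 lc_c_rc_26_10 lc_c_rc_26_8 lc_c_rc_11_1 lc_c_rc_22_9 lc_c_rc_2_3 lc_c_rc_7_1 lc_c_Cert_tree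 lc_c_rc_13_2 lc_c_Cert_tree lc_c_rc_11_1 lc_c_rc_7_3 lc_c_rc_13_2 lc_c_rc_23_0 lc_c_rc_14_2 lc_c_rc_13_2 lc_c_rc_13_2 lc_c_rc_26_8 lc_c_rc_22_5 lc_c_rc_11_1 lc_c_rc_2_3 lc_c_rc_7_3 lc_c_rc_13_2 lc_c_rc_13_2 lc_c_rc_11_1 lc_c_rc_11_1 lc_c_rc_11_1 lc_c_rc_11_1 lc_c_rc_13_2 lc_c_rc_2_3 lc_c_rc_23_0 lc_c_rc_24_6 lc_c_Cert_tree lc_c_rc_13_2 lc_c_rc_11_1 lc_c_rc_13_2 lc_c_rc_24_2 lc_c_rc_14_2 lc_c_rc_25_9 lc_c_rc_11_1 lc_c_rc_2_3 lc_c_rc_23_5 lc_c_rc_13_2 lc_c_rc_13_2) (@D3.rec (fun _ => (Cert rels S Gen.c)) lc_c_rc_23_0 lc_c_rc_11_1 lc_c_Cert_tree lc_c_rc_14_2 lc_c_rc_11_1 lc_c_Cert_tree lc_c_rc_13_2 lc_c_rc_11_1 lc_c_rc_7_1 lc_c_rc_26_4 lc_c_rc_13_2 lc_c_rc_11_1 lc_c_rc_22_9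 lc_c_rc_14_2 lc_c_rc_11_1 lc_c_Cert_tree lc_c_Cert_tree lc_c_rc_11_1 lc_c_rc_7_3 lc_c_rc_13_2 lc_c_Cert_tree lc_c_rc_14_2 lc_c_rc_14_2 lc_c_rc_13_0 lc_c_rc_11_1 lc_c_rc_7_1 lc_c_rc_13_2 lc_c_rc_13_2 lc_c_Cert_tree lc_c_rc_24_4 lc_c_Cert_tree lc_c_rc_13_2 lc_c_rc_11_1 lc_c_rc_13_2 lc_c_rc_7_3 lc_c_rc_13_2 lc_c_Cert_tree lc_c_rc_24_4 lc_c_rc_14_2 lc_c_rc_26_4 lc_c_rc_26_8 lc_c_rc_13_2 lc_c_rc_26_2 lc_c_rc_24_6 lc_c_rc_7_3 lc_c_rc_23_5 lc_c_rc_11_1 lc_c_rc_13_2 lc_c_rc_11_1 lc_c_rc_23_0 lc_c_rc_13_2 lc_c_rc_11_1 lc_c_rc_26_4 lc_c_rc_24_8 lc_c_rc_2_3 lc_c_Cert_tree lc_c_rc_13_2 lc_c_rc_13_2 lc_c_rc_23_0 lc_c_rc_23_0 lc_c_rc_13_0 lc_c_rc_14_2) (@D3.rec (fun _ => (Cert rels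 S Gen.c)) lc_c_rc_11_1 lc_c_Cert_tree lc_c_rc_26_4 lc_c_rc_11_1 lc_c_rc_13_2 lc_c_rc_11_1 lc_c_rc_23_0 lc_c_rc_22_9 lc_c_rc_11_1 lc_c_rc_11_1 lc_c_rc_13_2 lc_c_rc_26_2 lc_c_rc_23_0 lc_c_rc_13_2 lc_c_rc_23_5 lc_c_Cert_tree lc_c_Cert_tree lc_c_rc_7_3 lc_c_rc_11_1 lc_c_rc_7_5 lc_c_rc_13_2 lc_c_rc_26_10 lc_c_rc_11_1 lc_c_rc_13_2 lc_c_rc_13_2 lc_c_rc_2_3 lc_c_Cert_tree lc_c_rc_26_10 lc_c_rc_14_2 lc_c_Cert_tree lc_c_rc_7_5 lc_c_rc_2_3 lc_c_rc_11_1 lc_c_rc_14_2 lc_c_rc_11_1 lc_c_rc_11_1 lc_c_Cert_tree lc_c_rc_2_3 lc_c_Cert_tree lc_c_rc_13_2 lc_c_rc_13_2 lc_c_rc_2_1 lc_c_rc_13_2 lc_c_Cert_tree lc_c_rc_14_2 lc_c_rc_26_4 lc_c_Cert_tree lc_c_rc_22_5 lc_c_rc_26_2 lc_c_rc_13_2 lc_c_rc_7_5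 lc_c_rc_7_5 lc_c_rc_11_1 lc_c_rc_11_1 lc_c_rc_7_1 lc_c_rc_23_0 lc_c_rc_11_1 lc_c_rc_7_1 lc_c_Cert_tree lc_c_rc_11_1 lc_c_rc_24_6 lc_c_rc_2_3) (@D3.rec (fun _ => (Cert rels S Gen.c)) lc_c_Cert_tree lc_c_rc_13_2 lc_c_rc_26_8 lc_c_rc_13_2 lc_c_rc_24_4 lc_c_rc_7_5 lc_c_rc_23_0 lc_c_rc_11_1 lc_c_rc_13_2 lc_c_rc_23_5 lc_c_rc_2_1 lc_c_rc_25_17 lc_c_rc_11_1 lc_c_rc_11_1 lc_c_rc_13_2 lc_c_rc_11_1 lc_c_rc_12_14 lc_c_rc_13_2 lc_c_rc_2_3 lc_c_rc_11_1 lc_c_rc_7_3 lc_c_rc_12_2 lc_c_rc_13_2 lc_c_rc_14_2 lc_c_Cert_tree lc_c_rc_12_2 lc_c_rc_11_1 lc_c_rc_24_4 lc_c_rc_2_3 lc_c_rc_11_1 lc_c_rc_14_2 lc_c_rc_13_2 lc_c_rc_14_2 lc_c_Cert_tree lc_c_rc_22_3 lc_c_rc_13_2 lc_c_rc_22_5 lc_c_rc_14_2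 lc_c_rc_24_8 lc_c_rc_14_2 lc_c_rc_7_3 lc_c_rc_13_2 lc_c_rc_11_1 lc_c_rc_24_4 lc_c_rc_24_2 lc_c_rc_14_2 lc_c_rc_2_3 lc_c_rc_11_1 lc_c_rc_2_3 lc_c_rc_7_3 lc_c_rc_13_2 lc_c_rc_13_2 lc_c_rc_7_3 lc_c_rc_26_10 lc_c_rc_26_2 lc_c_rc_26_10 lc_c_rc_14_2 lc_c_rc_23_0 lc_c_rc_11_1 lc_c_rc_2_1 lc_c_rc_2_1 lc_c_rc_11_1) (@D3.rec (fun _ => (Cert rels S Gen.c)) lc_c_rc_13_2 lc_c_rc_22_3 lc_c_rc_26_2 lc_c_rc_24_6 lc_c_rc_7_1 lc_c_rc_7_3 lc_c_rc_13_2 lc_c_rc_26_10 lc_c_rc_24_8 lc_c_rc_23_0 lc_c_rc_13_2 lc_c_rc_14_2 lc_c_Cert_tree lc_c_Cert_tree lc_c_rc_2_3 lc_c_Cert_tree lc_c_rc_11_1 lc_c_rc_7_3 lc_c_rc_13_2 lc_c_rc_26_10 lc_c_rc_26_2 lc_c_rc_23_0 lc_c_rc_14_2 lc_c_Cert_tree lc_c_rc_11_1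 lc_c_rc_13_2 lc_c_rc_26_4 lc_c_rc_26_2 lc_c_rc_7_3 lc_c_rc_13_2 lc_c_rc_22_3 lc_c_rc_2_3 lc_c_rc_24_8 lc_c_rc_13_2 lc_c_Cert_tree lc_c_rc_11_1 lc_c_rc_2_3 lc_c_rc_7_5 lc_c_rc_13_2 lc_c_rc_11_1 lc_c_rc_24_2 lc_c_rc_13_2 lc_c_rc_23_5 lc_c_rc_13_2 lc_c_rc_14_2 lc_c_rc_11_1 lc_c_rc_2_3 lc_c_rc_24_4 lc_c_rc_13_2 lc_c_rc_13_2 lc_c_rc_14_0 lc_c_rc_14_2 lc_c_rc_11_1 lc_c_rc_13_2 lc_c_rc_11_1 lc_c_rc_11_1 lc_c_rc_23_5 lc_c_rc_13_2 lc_c_rc_11_1 lc_c_rc_11_1 lc_c_rc_2_3 lc_c_rc_26_2) (@D3.rec (fun _ => (Cert rels S Gen.c)) lc_c_rc_13_2 lc_c_rc_13_2 lc_c_rc_14_0 lc_c_rc_14_2 lc_c_rc_14_2 lc_c_rc_26_4 lc_c_rc_26_4 lc_c_rc_11_1 lc_c_Cert_tree lc_c_rc_13_2 lc_c_rc_26_2 lc_c_rc_7_5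 lc_c_Cert_tree lc_c_rc_13_2 lc_c_Cert_tree lc_c_Cert_tree lc_c_Cert_tree lc_c_rc_11_1 lc_c_rc_13_2 lc_c_rc_26_4 lc_c_rc_7_1 lc_c_rc_7_3 lc_c_rc_13_2 lc_c_Cert_tree lc_c_Cert_tree lc_c_rc_14_2 lc_c_rc_13_2 lc_c_rc_11_1 lc_c_Cert_tree lc_c_rc_26_8 lc_c_rc_23_5 lc_c_rc_23_5 lc_c_Cert_tree lc_c_rc_11_1 lc_c_rc_2_3 lc_c_rc_22_7 lc_c_rc_13_2 lc_c_rc_23_5 lc_c_rc_23_0 lc_c_rc_23_5 lc_c_rc_14_2 lc_c_rc_13_2 lc_c_rc_11_1 lc_c_rc_26_10 lc_c_rc_11_1 lc_c_rc_13_0 lc_c_rc_13_2 lc_c_rc_13_2 lc_c_rc_11_1 lc_c_rc_23_0 lc_c_Cert_tree lc_c_rc_14_2 lc_c_rc_7_5 lc_c_rc_12_2 lc_c_rc_22_3 lc_c_rc_22_3 lc_c_rc_11_1 lc_c_rc_25_5 lc_c_rc_13_2 lc_c_rc_24_6 lc_c_rc_14_2 lc_c_rc_11_1) (@D3.rec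 (fun _ => (Cert rels S Gen.c)) lc_c_rc_24_4 lc_c_rc_23_0 lc_c_rc_22_3 lc_c_rc_23_0 lc_c_rc_23_0 lc_c_rc_13_2 lc_c_rc_24_8 lc_c_rc_24_8 lc_c_rc_14_2 lc_c_rc_22_3 lc_c_rc_26_4 lc_c_rc_11_1 lc_c_rc_13_2 lc_c_Cert_tree lc_c_rc_11_1 lc_c_rc_11_1 lc_c_rc_13_2 lc_c_rc_23_5 lc_c_rc_11_1 lc_c_rc_22_9 lc_c_rc_23_5 lc_c_rc_22_9 lc_c_rc_22_3 lc_c_rc_11_1 lc_c_rc_22_3 lc_c_rc_13_2 lc_c_rc_11_1 lc_c_rc_24_6 lc_c_rc_11_1 lc_c_rc_11_1 lc_c_rc_11_1 lc_c_rc_24_4 lc_c_rc_11_1 lc_c_rc_12_2 lc_c_rc_13_2 lc_c_rc_13_2 lc_c_rc_13_2 lc_c_Cert_tree lc_c_rc_14_2 lc_c_rc_11_1 lc_c_rc_7_5 lc_c_rc_26_8 lc_c_rc_11_1 lc_c_rc_13_2 lc_c_rc_26_4 lc_c_rc_11_1 lc_c_rc_13_2 lc_c_rc_26_4 lc_c_rc_11_1 lc_c_rc_2_1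 lc_c_rc_11_1 lc_c_rc_2_1 lc_c_rc_13_0 lc_c_rc_13_0 lc_c_rc_7_3 lc_c_rc_13_0 lc_c_rc_7_1 lc_c_Cert_tree lc_c_rc_13_2 lc_c_Cert_tree lc_c_Cert_tree lc_c_rc_11_1) (@D3.rec (fun _ => (Cert rels S Gen.c)) lc_c_rc_23_5 lc_c_rc_11_1 lc_c_rc_7_3 lc_c_rc_14_0 lc_c_rc_14_2 lc_c_rc_11_1 lc_c_rc_23_0 lc_c_rc_23_5 lc_c_rc_13_0 lc_c_Cert_tree lc_c_rc_24_2 lc_c_rc_22_3 lc_c_rc_11_1 lc_c_rc_12_2 lc_c_rc_13_2 lc_c_rc_26_8 lc_c_rc_11_1 lc_c_rc_13_2 lc_c_rc_26_4 lc_c_rc_13_2 lc_c_rc_11_1 lc_c_rc_26_8 lc_c_Cert_tree lc_c_rc_13_2 lc_c_rc_14_2 lc_c_rc_11_1 lc_c_rc_13_2 lc_c_rc_13_0 lc_c_Cert_tree lc_c_rc_22_3 lc_c_rc_13_2 lc_c_rc_26_10 lc_c_rc_2_1 lc_c_rc_11_1 lc_c_rc_7_3 lc_c_rc_2_3 lc_c_Cert_tree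 lc_c_rc_13_2 lc_c_rc_11_1 lc_c_rc_13_2 lc_c_rc_26_4 lc_c_Cert_tree lc_c_rc_14_2 lc_c_rc_13_2 lc_c_rc_26_4 lc_c_rc_11_1 lc_c_rc_24_4 lc_c_rc_7_5 lc_c_rc_13_2 lc_c_Cert_tree lc_c_Cert_tree lc_c_rc_13_2 lc_c_rc_26_10 lc_c_rc_23_0 lc_c_rc_12_14 lc_c_rc_23_5 lc_c_rc_7_5 lc_c_Cert_tree lc_c_rc_23_5 lc_c_rc_24_8 lc_c_rc_23_5 lc_c_rc_11_1) (@D3.rec (fun _ => (Cert rels S Gen.c)) lc_c_rc_11_1 lc_c_rc_11_1 lc_c_Cert_tree lc_c_rc_13_0 lc_c_rc_2_3 lc_c_Cert_tree lc_c_rc_13_2 lc_c_rc_13_2 lc_c_rc_11_1 lc_c_rc_24_6 lc_c_Cert_tree lc_c_rc_14_2 lc_c_rc_11_1 lc_c_rc_11_1 lc_c_Cert_tree lc_c_rc_11_1 lc_c_rc_2_3 lc_c_Cert_tree lc_c_rc_13_2 lc_c_rc_13_2 lc_c_rc_11_1 lc_c_rc_24_6 lc_c_Cert_tree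 lc_c_rc_14_2 lc_c_rc_11_1 lc_c_rc_11_1 lc_c_rc_13_2 lc_c_rc_11_1 lc_c_rc_11_1 lc_c_rc_26_4 lc_c_rc_26_10 lc_c_rc_14_2 lc_c_rc_13_2 lc_c_Cert_tree lc_c_rc_14_2 lc_c_rc_7_3 lc_c_rc_11_1 lc_c_rc_14_2 lc_c_rc_22_7 lc_c_rc_13_2 lc_c_rc_13_2 lc_c_rc_22_9 lc_c_rc_14_2 lc_c_rc_14_2 lc_c_rc_14_2 lc_c_rc_26_2 lc_c_rc_11_1 lc_c_rc_25_5 lc_c_rc_13_2 lc_c_rc_2_1 lc_c_rc_11_1 lc_c_rc_11_1 lc_c_rc_24_8 lc_c_Cert_tree lc_c_Cert_tree lc_c_rc_11_1 lc_c_rc_14_2 lc_c_rc_13_2 lc_c_rc_11_1 lc_c_rc_13_2 lc_c_rc_26_4 lc_c_rc_7_3) (@D3.rec (fun _ => (Cert rels S Gen.c)) lc_c_rc_13_2 lc_c_rc_11_1 lc_c_rc_13_2 lc_c_Cert_tree lc_c_rc_14_2 lc_c_rc_26_10 lc_c_Cert_tree lc_c_rc_11_1 lc_c_rc_2_3 lc_c_rc_22_3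 lc_c_rc_13_2 lc_c_Cert_tree lc_c_rc_2_3 lc_c_rc_13_0 lc_c_rc_13_2 lc_c_Cert_tree lc_c_rc_24_6 lc_c_rc_11_1 lc_c_rc_11_1 lc_c_rc_11_1 lc_c_rc_24_2 lc_c_rc_2_3 lc_c_rc_11_1 lc_c_rc_13_2 lc_c_rc_13_2 lc_c_Cert_tree lc_c_rc_14_2 lc_c_Cert_tree lc_c_Cert_tree lc_c_rc_2_3 lc_c_rc_14_2 lc_c_Cert_tree lc_c_rc_11_1 lc_c_Cert_tree lc_c_rc_13_2 lc_c_rc_14_2 lc_c_rc_11_1 lc_c_rc_7_5 lc_c_rc_11_1 lc_c_rc_13_2 lc_c_rc_11_1 lc_c_rc_23_0 lc_c_Cert_tree lc_c_rc_24_2 lc_c_Cert_tree lc_c_rc_11_1 lc_c_rc_24_8 lc_c_rc_11_1 lc_c_rc_7_3 lc_c_rc_7_3 lc_c_rc_11_1 lc_c_rc_22_3 lc_c_Cert_tree lc_c_rc_13_2 lc_c_rc_13_2 lc_c_rc_13_2 lc_c_rc_14_2 lc_c_rc_11_1 lc_c_rc_11_1 lc_c_rc_11_1 lc_c_rc_2_3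 lc_c_rc_7_1) (@D3.rec (fun _ => (Cert rels S Gen.c)) lc_c_rc_13_2 lc_c_rc_13_2 lc_c_rc_2_3 lc_c_rc_11_1 lc_c_rc_26_2 lc_c_rc_24_2 lc_c_rc_11_1 lc_c_rc_7_5 lc_c_rc_13_2 lc_c_rc_23_0 lc_c_rc_14_2 lc_c_rc_2_3 lc_c_Cert_tree lc_c_rc_13_2 lc_c_rc_11_1 lc_c_rc_11_1 lc_c_rc_14_2 lc_c_rc_11_1 lc_c_rc_11_1 lc_c_rc_11_1 lc_c_rc_2_3 lc_c_Cert_tree lc_c_rc_13_2 lc_c_rc_13_2 lc_c_rc_23_5 lc_c_rc_11_1 lc_c_Cert_tree lc_c_rc_14_2 lc_c_rc_11_1 lc_c_Cert_tree lc_c_Cert_tree lc_c_rc_11_1 lc_c_rc_26_2 lc_c_rc_13_2 lc_c_Cert_tree lc_c_rc_11_1 lc_c_rc_2_3 lc_c_Cert_tree lc_c_rc_26_4 lc_c_rc_13_2 lc_c_rc_14_2 lc_c_rc_14_2 lc_c_rc_11_1 lc_c_rc_26_8 lc_c_rc_11_1 lc_c_Cert_tree lc_c_rc_13_2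 lc_c_rc_24_2 lc_c_rc_7_3 lc_c_rc_11_1 lc_c_Cert_tree lc_c_rc_13_2 lc_c_Cert_tree lc_c_Cert_tree lc_c_Cert_tree lc_c_rc_11_1 lc_c_rc_25_17 lc_c_rc_26_2 lc_c_rc_13_2 lc_c_rc_13_0 lc_c_rc_13_2 lc_c_rc_24_8) (@D3.rec (fun _ => (Cert rels S Gen.c)) lc_c_rc_23_0 lc_c_rc_13_2 lc_c_Cert_tree lc_c_Cert_tree lc_c_rc_2_3 lc_c_Cert_tree lc_c_rc_13_2 lc_c_rc_11_1 lc_c_rc_24_6 lc_c_rc_14_2 lc_c_rc_11_1 lc_c_rc_11_1 lc_c_rc_2_3 lc_c_rc_22_9 lc_c_rc_13_2 lc_c_rc_13_2 lc_c_Cert_tree lc_c_Cert_tree lc_c_rc_11_1 lc_c_rc_11_1 lc_c_rc_2_3 lc_c_rc_13_2 lc_c_rc_13_2 lc_c_rc_14_2 lc_c_rc_11_1 lc_c_rc_2_3 lc_c_Cert_tree lc_c_rc_13_2 lc_c_rc_13_2 lc_c_Cert_tree lc_c_rc_26_4 lc_c_rc_11_1 lc_c_rc_25_5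 lc_c_rc_13_2 lc_c_rc_2_3 lc_c_rc_11_1 lc_c_rc_23_5 lc_c_rc_23_0 lc_c_rc_22_3 lc_c_rc_13_2 lc_c_rc_7_5 lc_c_Cert_tree lc_c_rc_11_1 lc_c_rc_12_2 lc_c_rc_26_10 lc_c_rc_26_10 lc_c_rc_7_5 lc_c_rc_14_2 lc_c_rc_26_4 lc_c_rc_13_2 lc_c_Cert_tree lc_c_rc_13_2 lc_c_rc_7_3 lc_c_rc_13_2 lc_c_rc_24_4 lc_c_rc_24_4 lc_c_rc_2_3 lc_c_rc_7_3 lc_c_rc_13_2 lc_c_rc_11_1 lc_c_rc_11_1 lc_c_rc_26_10) (@D3.rec (fun _ => (Cert rels S Gen.c)) lc_c_rc_11_1 lc_c_Cert_tree lc_c_rc_2_3 lc_c_Cert_tree lc_c_rc_13_2 lc_c_rc_13_2 lc_c_rc_11_1 lc_c_rc_26_10 lc_c_rc_11_1 lc_c_rc_2_3 lc_c_rc_26_4 lc_c_rc_11_1 lc_c_Cert_tree lc_c_rc_13_2 lc_c_rc_11_1 lc_c_Cert_tree lc_c_rc_13_2 lc_c_Cert_tree lc_c_rc_23_5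 lc_c_Cert_tree lc_c_Cert_tree lc_c_rc_11_1 lc_c_rc_13_2 lc_c_rc_2_3 lc_c_Cert_tree lc_c_rc_11_1 lc_c_rc_24_2 lc_c_rc_11_1 lc_c_rc_7_3 lc_c_rc_11_1 lc_c_rc_23_5 lc_c_rc_13_2 lc_c_rc_7_3 lc_c_rc_22_7 lc_c_rc_11_1 lc_c_rc_2_3 lc_c_rc_11_1 lc_c_Cert_tree lc_c_rc_22_3 lc_c_rc_2_3 lc_c_rc_26_4 lc_c_rc_11_1 lc_c_rc_2_3 lc_c_rc_7_1 lc_c_rc_11_1 lc_c_Cert_tree lc_c_rc_13_2 lc_c_rc_7_5 lc_c_rc_22_7 lc_c_rc_11_1 lc_c_rc_7_3 lc_c_Cert_tree lc_c_Cert_tree lc_c_rc_14_0 lc_c_rc_14_2 lc_c_rc_2_3 lc_c_rc_13_2 lc_c_Cert_tree lc_c_rc_13_2 lc_c_rc_13_0 lc_c_rc_22_3 lc_c_rc_11_1)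
def ce_c_16 : D2 → D3 → (Cert rels S Gen.c) := @D2.rec (fun _ => D3 → (Cert rels S Gen.c)) (@D3.rec (fun _ => (Cert rels S Gen.c)) lc_c_rc_22_3 lc_c_rc_13_2 lc_c_rc_23_5 lc_c_rc_7_3 lc_c_rc_22_7 lc_c_rc_23_5 lc_c_rc_13_2 lc_c_rc_2_1 lc_c_rc_11_1 lc_c_rc_2_3 lc_c_rc_7_3 lc_c_rc_13_2 lc_c_rc_13_2 lc_c_rc_24_8 lc_c_rc_14_2 lc_c_rc_13_2 lc_c_rc_26_4 lc_c_rc_11_1 lc_c_rc_13_2 lc_c_Cert_tree lc_c_rc_26_10 lc_c_rc_11_1 lc_c_rc_11_1 lc_c_rc_7_1 lc_c_Cert_tree lc_c_rc_13_0 lc_c_rc_23_0 lc_c_rc_14_2 lc_c_rc_14_2 lc_c_rc_11_1 lc_c_rc_11_1 lc_c_Cert_tree lc_c_rc_13_2 lc_c_rc_7_5 lc_c_Cert_tree lc_c_rc_11_1 lc_c_rc_13_0 lc_c_Cert_tree lc_c_rc_13_2 lc_c_rc_13_2 lc_c_Cert_tree lc_c_rc_24_6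 lc_c_rc_11_1 lc_c_rc_13_2 lc_c_rc_23_5 lc_c_rc_14_2 lc_c_rc_26_4 lc_c_rc_11_1 lc_c_rc_11_1 lc_c_rc_13_2 lc_c_Cert_tree lc_c_rc_11_1 lc_c_rc_26_4 lc_c_rc_11_1 lc_c_Cert_tree lc_c_rc_2_1 lc_c_rc_7_5 lc_c_rc_11_1 lc_c_rc_13_0 lc_c_rc_13_2 lc_c_Cert_tree lc_c_Cert_tree) (@D3.rec (fun _ => (Cert rels S Gen.c)) lc_c_rc_11_1 lc_c_rc_13_2 lc_c_rc_24_4 lc_c_rc_22_3 lc_c_rc_7_5 lc_c_rc_2_3 lc_c_rc_13_2 lc_c_rc_24_8 lc_c_rc_14_2 lc_c_Cert_tree lc_c_rc_13_2 lc_c_rc_13_0 lc_c_rc_26_4 lc_c_rc_11_1 lc_c_rc_25_13 lc_c_rc_2_3 lc_c_rc_11_1 lc_c_Cert_tree lc_c_rc_13_2 lc_c_rc_11_1 lc_c_rc_22_9 lc_c_rc_11_1 lc_c_rc_26_10 lc_c_rc_11_1 lc_c_rc_11_1 lc_c_rc_13_2 lc_c_rc_24_6 lc_c_rc_24_6 lc_c_rc_13_2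 lc_c_rc_26_10 lc_c_rc_26_10 lc_c_Cert_tree lc_c_rc_14_2 lc_c_rc_23_5 lc_c_rc_26_4 lc_c_rc_14_2 lc_c_rc_13_0 lc_c_rc_23_0 lc_c_rc_14_2 lc_c_rc_2_3 lc_c_Cert_tree lc_c_rc_2_1 lc_c_rc_11_1 lc_c_rc_11_1 lc_c_rc_2_1 lc_c_rc_11_1 lc_c_rc_11_1 lc_c_rc_11_1 lc_c_Cert_tree lc_c_rc_11_1 lc_c_rc_11_1 lc_c_rc_11_1 lc_c_rc_13_2 lc_c_rc_24_6 lc_c_rc_12_0 lc_c_rc_7_3 lc_c_Cert_tree lc_c_rc_11_1 lc_c_rc_13_2 lc_c_rc_23_5 lc_c_rc_24_4 lc_c_rc_23_0) (@D3.rec (fun _ => (Cert rels S Gen.c)) lc_c_Cert_tree lc_c_Cert_tree lc_c_rc_2_3 lc_c_rc_7_3 lc_c_rc_23_0 lc_c_rc_24_2 lc_c_rc_24_4 lc_c_rc_14_2 lc_c_Cert_tree lc_c_rc_11_1 lc_c_Cert_tree lc_c_rc_13_2 lc_c_rc_22_3 lc_c_rc_11_1 lc_c_rc_2_3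 lc_c_rc_14_2 lc_c_rc_24_6 lc_c_rc_11_1 lc_c_rc_13_2 lc_c_Cert_tree lc_c_rc_23_5 lc_c_rc_7_5 lc_c_rc_13_2 lc_c_Cert_tree lc_c_Cert_tree lc_c_rc_7_3 lc_c_rc_22_7 lc_c_rc_13_2 lc_c_rc_11_1 lc_c_rc_13_2 lc_c_rc_13_2 lc_c_rc_7_1 lc_c_rc_23_5 lc_c_rc_13_2 lc_c_rc_11_1 lc_c_rc_2_3 lc_c_rc_13_2 lc_c_rc_13_2 lc_c_rc_11_1 lc_c_rc_13_2 lc_c_Cert_tree lc_c_rc_11_1 lc_c_rc_24_4 lc_c_rc_13_2 lc_c_rc_2_1 lc_c_rc_11_1 lc_c_rc_11_1 lc_c_rc_14_0 lc_c_rc_13_2 lc_c_rc_13_2 lc_c_rc_11_1 lc_c_rc_11_1 lc_c_rc_11_1 lc_c_rc_14_2 lc_c_rc_11_1 lc_c_Cert_tree lc_c_rc_11_1 lc_c_rc_7_1 lc_c_Cert_tree lc_c_rc_22_5 lc_c_rc_13_2 lc_c_rc_11_1) (@D3.rec (fun _ => (Cert rels S Gen.c)) lc_c_rc_14_2 lc_c_Cert_tree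 lc_c_Cert_tree lc_c_rc_11_1 lc_c_rc_14_2 lc_c_rc_13_0 lc_c_rc_14_2 lc_c_rc_11_1 lc_c_rc_13_2 lc_c_rc_26_4 lc_c_rc_7_3 lc_c_rc_22_3 lc_c_rc_23_0 lc_c_rc_23_0 lc_c_rc_11_1 lc_c_rc_13_2 lc_c_rc_11_1 lc_c_rc_13_2 lc_c_rc_24_4 lc_c_rc_22_3 lc_c_rc_7_3 lc_c_rc_12_0 lc_c_rc_7_1 lc_c_Cert_tree lc_c_rc_7_1 lc_c_Cert_tree lc_c_rc_13_2 lc_c_rc_14_2 lc_c_Cert_tree lc_c_rc_11_1 lc_c_rc_24_6 lc_c_rc_13_2 lc_c_Cert_tree lc_c_rc_11_1 lc_c_rc_23_0 lc_c_rc_11_1 lc_c_rc_13_2 lc_c_rc_24_2 lc_c_rc_13_2 lc_c_rc_11_1 lc_c_rc_7_3 lc_c_rc_2_3 lc_c_rc_11_1 lc_c_rc_11_1 lc_c_rc_26_8 lc_c_rc_11_1 lc_c_rc_11_1 lc_c_rc_11_1 lc_c_rc_26_4 lc_c_rc_11_1 lc_c_rc_24_2 lc_c_rc_7_3 lc_c_rc_7_5 lc_c_rc_11_1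 lc_c_rc_7_1 lc_c_rc_22_9 lc_c_rc_13_2 lc_c_rc_2_3 lc_c_Cert_tree lc_c_rc_26_10 lc_c_rc_11_1 lc_c_rc_2_3) (@D3.rec (fun _ => (Cert rels S Gen.c)) lc_c_rc_26_4 lc_c_rc_13_2 lc_c_rc_13_2 lc_c_Cert_tree lc_c_rc_26_10 lc_c_rc_26_8 lc_c_rc_13_2 lc_c_rc_11_1 lc_c_rc_11_1 lc_c_rc_13_2 lc_c_rc_7_3 lc_c_rc_23_0 lc_c_rc_2_3 lc_c_Cert_tree lc_c_rc_13_2 lc_c_rc_13_2 lc_c_rc_14_2 lc_c_rc_7_5 lc_c_Cert_tree lc_c_rc_13_0 lc_c_rc_2_3 lc_c_rc_22_3 lc_c_rc_13_2 lc_c_rc_13_2 lc_c_rc_11_1 lc_c_rc_11_1 lc_c_rc_23_0 lc_c_rc_14_2 lc_c_rc_11_1 lc_c_Cert_tree lc_c_Cert_tree lc_c_rc_11_1 lc_c_rc_11_1 lc_c_rc_13_2 lc_c_Cert_tree lc_c_rc_11_1 lc_c_rc_24_6 lc_c_rc_11_1 lc_c_rc_13_2 lc_c_Cert_tree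 lc_c_rc_14_2 lc_c_rc_26_4 lc_c_rc_7_3 lc_c_Cert_tree lc_c_rc_13_2 lc_c_rc_11_1 lc_c_rc_13_2 lc_c_rc_7_3 lc_c_rc_13_2 lc_c_rc_25_1 lc_c_rc_23_0 lc_c_rc_23_0 lc_c_rc_14_2 lc_c_rc_7_3 lc_c_Cert_tree lc_c_Cert_tree lc_c_rc_11_1 lc_c_rc_23_5 lc_c_rc_13_0 lc_c_rc_11_1 lc_c_rc_26_2 lc_c_rc_11_1) (@D3.rec (fun _ => (Cert rels S Gen.c)) lc_c_rc_7_1 lc_c_rc_13_2 lc_c_rc_2_3 lc_c_rc_14_2 lc_c_rc_13_2 lc_c_rc_23_0 lc_c_rc_23_0 lc_c_rc_24_2 lc_c_rc_14_2 lc_c_rc_11_1 lc_c_Cert_tree lc_c_rc_11_1 lc_c_Cert_tree lc_c_rc_11_1 lc_c_rc_2_1 lc_c_rc_13_2 lc_c_rc_22_3 lc_c_rc_26_10 lc_c_rc_14_0 lc_c_rc_7_5 lc_c_rc_26_4 lc_c_rc_23_0 lc_c_rc_23_5 lc_c_rc_11_1 lc_c_rc_11_1 lc_c_rc_22_5 lc_c_rc_23_5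 lc_c_rc_26_4 lc_c_rc_14_2 lc_c_rc_26_4 lc_c_rc_13_0 lc_c_rc_24_6 lc_c_Cert_tree lc_c_Cert_tree lc_c_rc_23_5 lc_c_Cert_tree lc_c_rc_11_1 lc_c_rc_7_1 lc_c_Cert_tree lc_c_rc_24_6 lc_c_rc_11_1 lc_c_rc_14_0 lc_c_rc_13_2 lc_c_rc_11_1 lc_c_rc_11_1 lc_c_rc_13_2 lc_c_rc_7_1 lc_c_rc_2_3 lc_c_rc_13_2 lc_c_rc_11_1 lc_c_rc_13_0 lc_c_rc_11_1 lc_c_rc_7_5 lc_c_rc_13_2 lc_c_rc_2_3 lc_c_rc_22_3 lc_c_Cert_tree lc_c_rc_11_1 lc_c_rc_7_1 lc_c_rc_7_3 lc_c_rc_26_4 lc_c_rc_26_2) (@D3.rec (fun _ => (Cert rels S Gen.c)) lc_c_rc_24_6 lc_c_rc_11_1 lc_c_rc_13_2 lc_c_rc_13_2 lc_c_rc_24_6 lc_c_rc_23_0 lc_c_rc_14_2 lc_c_rc_11_1 lc_c_rc_26_8 lc_c_rc_7_3 lc_c_rc_7_1 lc_c_rc_26_8 lc_c_rc_22_9 lc_c_rc_14_0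 lc_c_rc_13_2 lc_c_rc_7_5 lc_c_rc_26_4 lc_c_rc_7_5 lc_c_rc_13_2 lc_c_rc_23_0 lc_c_rc_11_1 lc_c_rc_7_3 lc_c_rc_13_2 lc_c_rc_22_5 lc_c_rc_23_0 lc_c_Cert_tree lc_c_rc_14_2 lc_c_rc_7_5 lc_c_rc_13_2 lc_c_rc_26_8 lc_c_Cert_tree lc_c_Cert_tree lc_c_rc_11_1 lc_c_rc_11_1 lc_c_rc_26_4 lc_c_rc_11_1 lc_c_rc_13_0 lc_c_rc_7_3 lc_c_rc_7_5 lc_c_rc_7_3 lc_c_rc_13_2 lc_c_rc_22_9 lc_c_rc_13_2 lc_c_rc_14_2 lc_c_rc_13_2 lc_c_rc_13_2 lc_c_rc_11_1 lc_c_rc_11_1 lc_c_rc_13_2 lc_c_rc_13_2 lc_c_rc_11_1 lc_c_rc_22_9 lc_c_rc_26_4 lc_c_rc_14_0 lc_c_rc_7_1 lc_c_rc_13_0 lc_c_rc_7_1 lc_c_rc_23_0 lc_c_rc_13_2 lc_c_rc_13_0 lc_c_rc_11_1 lc_c_rc_2_1) (@D3.rec (fun _ => (Cert rels S Gen.c)) lc_c_rc_11_1 lc_c_rc_13_2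 lc_c_rc_7_1 lc_c_rc_26_10 lc_c_Cert_tree lc_c_rc_11_1 lc_c_rc_11_1 lc_c_rc_7_1 lc_c_Cert_tree lc_c_rc_13_2 lc_c_rc_11_1 lc_c_rc_23_0 lc_c_rc_24_4 lc_c_rc_13_2 lc_c_rc_13_2 lc_c_rc_11_1 lc_c_rc_11_1 lc_c_rc_2_3 lc_c_Cert_tree lc_c_Cert_tree lc_c_rc_11_1 lc_c_rc_11_1 lc_c_rc_25_13 lc_c_rc_24_8 lc_c_rc_23_0 lc_c_rc_14_2 lc_c_rc_2_3 lc_c_rc_11_1 lc_c_rc_2_3 lc_c_rc_13_2 lc_c_rc_13_2 lc_c_rc_14_2 lc_c_Cert_tree lc_c_rc_11_1 lc_c_rc_2_3 lc_c_Cert_tree lc_c_rc_23_0 lc_c_Cert_tree lc_c_Cert_tree lc_c_Cert_tree lc_c_rc_11_1 lc_c_rc_13_2 lc_c_rc_22_5 lc_c_Cert_tree lc_c_rc_23_0 lc_c_rc_13_2 lc_c_rc_13_2 lc_c_rc_26_10 lc_c_rc_13_2 lc_c_rc_7_3 lc_c_rc_11_1 lc_c_Cert_tree lc_c_Cert_tree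 lc_c_rc_11_1 lc_c_rc_26_2 lc_c_rc_24_6 lc_c_rc_7_3 lc_c_rc_11_1 lc_c_rc_11_1 lc_c_rc_13_2 lc_c_rc_11_1 lc_c_rc_13_2) (@D3.rec (fun _ => (Cert rels S Gen.c)) lc_c_rc_24_8 lc_c_rc_13_2 lc_c_rc_11_1 lc_c_rc_13_2 lc_c_Cert_tree lc_c_rc_11_1 lc_c_rc_25_17 lc_c_rc_24_4 lc_c_rc_13_2 lc_c_rc_23_0 lc_c_rc_26_4 lc_c_rc_11_1 lc_c_rc_13_2 lc_c_Cert_tree lc_c_rc_11_1 lc_c_rc_13_2 lc_c_rc_13_2 lc_c_Cert_tree lc_c_Cert_tree lc_c_Cert_tree lc_c_rc_14_2 lc_c_rc_24_2 lc_c_rc_23_0 lc_c_rc_11_1 lc_c_rc_14_2 lc_c_rc_13_2 lc_c_rc_13_2 lc_c_rc_13_2 lc_c_Cert_tree lc_c_rc_14_2 lc_c_rc_13_0 lc_c_rc_11_1 lc_c_rc_2_3 lc_c_rc_11_1 lc_c_rc_22_5 lc_c_rc_7_1 lc_c_rc_13_2 lc_c_Cert_tree lc_c_rc_14_2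 lc_c_rc_26_10 lc_c_rc_2_3 lc_c_rc_2_3 lc_c_Cert_tree lc_c_rc_13_2 lc_c_Cert_tree lc_c_rc_13_2 lc_c_Cert_tree lc_c_rc_26_4 lc_c_rc_13_0 lc_c_rc_11_1 lc_c_rc_2_3 lc_c_rc_23_5 lc_c_rc_13_2 lc_c_rc_13_2 lc_c_rc_11_1 lc_c_rc_22_3 lc_c_rc_24_8 lc_c_rc_23_0 lc_c_Cert_tree lc_c_rc_2_3 lc_c_rc_26_4 lc_c_rc_13_2) (@D3.rec (fun _ => (Cert rels S Gen.c)) lc_c_rc_13_2 lc_c_rc_23_0 lc_c_rc_11_1 lc_c_rc_24_8 lc_c_rc_14_2 lc_c_rc_11_1 lc_c_rc_23_5 lc_c_rc_7_1 lc_c_rc_11_1 lc_c_rc_13_0 lc_c_rc_13_2 lc_c_rc_11_1 lc_c_rc_13_0 lc_c_rc_2_3 lc_c_rc_23_5 lc_c_rc_13_2 lc_c_rc_14_2 lc_c_rc_13_2 lc_c_rc_23_0 lc_c_rc_26_10 lc_c_Cert_tree lc_c_rc_14_2 lc_c_rc_7_5 lc_c_Cert_tree lc_c_Cert_tree lc_c_Cert_tree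 lc_c_rc_11_1 lc_c_rc_11_1 lc_c_Cert_tree lc_c_rc_26_4 lc_c_rc_11_1 lc_c_Cert_tree lc_c_rc_11_1 lc_c_rc_13_2 lc_c_rc_11_1 lc_c_rc_23_0 lc_c_Cert_tree lc_c_rc_14_2 lc_c_rc_13_2 lc_c_rc_11_1 lc_c_rc_11_1 lc_c_rc_11_1 lc_c_rc_22_9 lc_c_rc_11_1 lc_c_Cert_tree lc_c_rc_24_6 lc_c_rc_2_3 lc_c_Cert_tree lc_c_rc_14_2 lc_c_rc_11_1 lc_c_rc_11_1 lc_c_rc_13_2 lc_c_rc_11_1 lc_c_rc_23_0 lc_c_Cert_tree lc_c_rc_11_1 lc_c_Cert_tree lc_c_rc_11_1 lc_c_rc_24_6 lc_c_rc_11_1 lc_c_rc_2_3 lc_c_rc_13_2) (@D3.rec (fun _ => (Cert rels S Gen.c)) lc_c_Cert_tree lc_c_rc_14_2 lc_c_rc_14_2 lc_c_rc_11_1 lc_c_rc_14_0 lc_c_rc_11_1 lc_c_Cert_tree lc_c_rc_13_2 lc_c_rc_14_2 lc_c_rc_11_1 lc_c_Cert_tree lc_c_Cert_tree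 lc_c_rc_13_2 lc_c_rc_13_2 lc_c_rc_11_1 lc_c_rc_13_2 lc_c_rc_23_5 lc_c_rc_13_2 lc_c_rc_14_2 lc_c_rc_13_2 lc_c_rc_11_1 lc_c_rc_13_2 lc_c_rc_23_0 lc_c_rc_13_2 lc_c_rc_13_2 lc_c_rc_11_1 lc_c_rc_13_2 lc_c_Cert_tree lc_c_rc_14_2 lc_c_rc_13_2 lc_c_rc_2_1 lc_c_rc_11_1 lc_c_rc_26_4 lc_c_rc_11_1 lc_c_rc_26_4 lc_c_rc_11_1 lc_c_rc_14_2 lc_c_rc_11_1 lc_c_rc_13_2 lc_c_rc_11_1 lc_c_rc_13_2 lc_c_rc_7_3 lc_c_rc_13_2 lc_c_rc_26_10 lc_c_rc_24_4 lc_c_rc_2_3 lc_c_rc_13_2 lc_c_rc_11_1 lc_c_rc_25_13 lc_c_rc_14_2 lc_c_rc_24_8 lc_c_rc_14_2 lc_c_rc_2_3 lc_c_rc_25_1 lc_c_rc_2_3 lc_c_rc_13_2 lc_c_rc_24_4 lc_c_rc_11_1 lc_c_rc_14_2 lc_c_rc_26_2 lc_c_rc_11_1 lc_c_rc_13_2) (@D3.rec (fun _ => (Cert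 rels S Gen.c)) lc_c_rc_11_1 lc_c_rc_11_1 lc_c_rc_14_2 lc_c_rc_11_1 lc_c_rc_23_0 lc_c_rc_26_2 lc_c_rc_14_2 lc_c_rc_23_0 lc_c_rc_14_2 lc_c_Cert_tree lc_c_rc_7_1 lc_c_rc_2_3 lc_c_rc_26_4 lc_c_rc_13_2 lc_c_Cert_tree lc_c_rc_11_1 lc_c_rc_2_3 lc_c_rc_13_2 lc_c_rc_13_2 lc_c_Cert_tree lc_c_rc_7_5 lc_c_rc_2_3 lc_c_rc_2_3 lc_c_rc_13_2 lc_c_Cert_tree lc_c_rc_14_2 lc_c_rc_2_3 lc_c_rc_2_1 lc_c_rc_26_4 lc_c_rc_7_5 lc_c_rc_13_2 lc_c_rc_14_2 lc_c_Cert_tree lc_c_rc_11_1 lc_c_rc_26_2 lc_c_rc_13_2 lc_c_rc_23_5 lc_c_Cert_tree lc_c_rc_11_1 lc_c_rc_11_1 lc_c_rc_24_4 lc_c_rc_26_4 lc_c_rc_11_1 lc_c_rc_13_2 lc_c_rc_14_2 lc_c_rc_13_0 lc_c_rc_24_2 lc_c_rc_14_0 lc_c_rc_11_1 lc_c_rc_24_8 lc_c_rc_14_2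 lc_c_rc_24_4 lc_c_rc_2_1 lc_c_rc_14_2 lc_c_rc_14_2 lc_c_rc_11_1 lc_c_rc_13_2 lc_c_rc_24_8 lc_c_rc_26_2 lc_c_rc_11_1 lc_c_rc_2_3 lc_c_rc_11_1) (@D3.rec (fun _ => (Cert rels S Gen.c)) lc_c_rc_11_1 lc_c_rc_13_2 lc_c_rc_24_4 lc_c_rc_11_1 lc_c_rc_22_5 lc_c_rc_14_2 lc_c_rc_24_4 lc_c_rc_14_2 lc_c_rc_24_4 lc_c_rc_24_8 lc_c_rc_24_8 lc_c_rc_13_2 lc_c_rc_24_8 lc_c_rc_24_8 lc_c_rc_22_3 lc_c_rc_13_2 lc_c_rc_11_1 lc_c_rc_14_2 lc_c_rc_2_3 lc_c_rc_11_1 lc_c_rc_13_2 lc_c_rc_26_2 lc_c_rc_11_1 lc_c_rc_14_2 lc_c_rc_23_0 lc_c_rc_11_1 lc_c_rc_26_2 lc_c_rc_2_3 lc_c_Cert_tree lc_c_rc_13_2 lc_c_rc_11_1 lc_c_rc_14_2 lc_c_Cert_tree lc_c_rc_26_4 lc_c_rc_11_1 lc_c_Cert_tree lc_c_rc_13_2 lc_c_rc_14_2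 lc_c_rc_11_1 lc_c_rc_11_1 lc_c_Cert_tree lc_c_Cert_tree lc_c_Cert_tree lc_c_Cert_tree lc_c_rc_11_1 lc_c_rc_13_2 lc_c_rc_24_8 lc_c_rc_23_0 lc_c_rc_14_2 lc_c_Cert_tree lc_c_rc_11_1 lc_c_rc_23_5 lc_c_rc_2_3 lc_c_rc_14_0 lc_c_rc_2_3 lc_c_rc_14_2 lc_c_rc_13_2 lc_c_rc_24_2 lc_c_rc_13_2 lc_c_rc_13_2 lc_c_rc_22_3 lc_c_rc_2_3) (@D3.rec (fun _ => (Cert rels S Gen.c)) lc_c_rc_23_0 lc_c_rc_13_2 lc_c_rc_24_2 lc_c_rc_13_2 lc_c_rc_2_1 lc_c_rc_11_1 lc_c_rc_7_3 lc_c_rc_11_1 lc_c_Cert_tree lc_c_rc_13_2 lc_c_rc_14_2 lc_c_rc_11_1 lc_c_Cert_tree lc_c_Cert_tree lc_c_rc_13_0 lc_c_rc_24_8 lc_c_rc_11_1 lc_c_rc_7_1 lc_c_rc_13_2 lc_c_rc_23_0 lc_c_rc_26_10 lc_c_rc_14_2 lc_c_Cert_tree lc_c_Cert_tree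 lc_c_rc_7_5 lc_c_rc_23_5 lc_c_Cert_tree lc_c_rc_2_3 lc_c_rc_14_2 lc_c_rc_13_2 lc_c_rc_22_5 lc_c_rc_13_2 lc_c_rc_26_10 lc_c_rc_11_1 lc_c_Cert_tree lc_c_Cert_tree lc_c_rc_7_3 lc_c_rc_13_2 lc_c_rc_26_2 lc_c_rc_11_1 lc_c_Cert_tree lc_c_rc_13_2 lc_c_rc_13_2 lc_c_rc_14_2 lc_c_rc_11_1 lc_c_rc_2_3 lc_c_rc_13_0 lc_c_rc_23_5 lc_c_rc_14_2 lc_c_rc_26_2 lc_c_rc_26_8 lc_c_Cert_tree lc_c_rc_11_1 lc_c_Cert_tree lc_c_rc_2_3 lc_c_rc_13_2 lc_c_rc_23_0 lc_c_rc_14_2 lc_c_rc_2_1 lc_c_rc_26_4 lc_c_rc_11_1 lc_c_rc_26_4) (@D3.rec (fun _ => (Cert rels S Gen.c)) lc_c_rc_13_2 lc_c_rc_14_2 lc_c_Cert_tree lc_c_rc_11_1 lc_c_rc_26_2 lc_c_rc_13_2 lc_c_Cert_tree lc_c_Cert_tree lc_c_Cert_tree lc_c_rc_11_1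 lc_c_rc_7_3 lc_c_rc_22_7 lc_c_rc_13_2 lc_c_Cert_tree lc_c_rc_12_0 lc_c_rc_23_5 lc_c_rc_13_0 lc_c_rc_13_2 lc_c_Cert_tree lc_c_rc_23_5 lc_c_rc_26_2 lc_c_Cert_tree lc_c_rc_2_1 lc_c_rc_13_2 lc_c_rc_12_2 lc_c_rc_24_8 lc_c_rc_11_1 lc_c_rc_11_1 lc_c_rc_7_1 lc_c_rc_25_17 lc_c_rc_26_4 lc_c_rc_13_2 lc_c_rc_13_2 lc_c_rc_2_3 lc_c_rc_2_3 lc_c_Cert_tree lc_c_rc_2_3 lc_c_rc_11_1 lc_c_Cert_tree lc_c_rc_23_0 lc_c_Cert_tree lc_c_Cert_tree lc_c_Cert_tree lc_c_rc_11_1 lc_c_rc_13_2 lc_c_rc_7_5 lc_c_rc_13_2 lc_c_rc_13_2 lc_c_rc_24_8 lc_c_rc_24_8 lc_c_rc_14_2 lc_c_Cert_tree lc_c_rc_23_0 lc_c_rc_2_1 lc_c_Cert_tree lc_c_Cert_tree lc_c_Cert_tree lc_c_rc_2_3 lc_c_rc_7_3 lc_c_rc_7_3 lc_c_rc_13_2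 lc_c_rc_22_3) (@D3.rec (fun _ => (Cert rels S Gen.c)) lc_c_rc_26_4 lc_c_rc_11_1 lc_c_rc_22_9 lc_c_rc_13_2 lc_c_Cert_tree lc_c_rc_11_1 lc_c_rc_22_5 lc_c_rc_13_2 lc_c_Cert_tree lc_c_rc_12_2 lc_c_rc_11_1 lc_c_rc_13_2 lc_c_rc_11_1 lc_c_rc_11_1 lc_c_rc_7_5 lc_c_rc_14_2 lc_c_rc_24_6 lc_c_rc_14_2 lc_c_rc_22_3 lc_c_rc_13_2 lc_c_rc_22_3 lc_c_rc_26_2 lc_c_rc_11_1 lc_c_rc_13_2 lc_c_rc_13_2 lc_c_rc_11_1 lc_c_rc_2_3 lc_c_rc_14_0 lc_c_rc_13_2 lc_c_rc_13_2 lc_c_rc_2_3 lc_c_rc_26_4 lc_c_rc_11_1 lc_c_Cert_tree lc_c_rc_13_2 lc_c_rc_26_8 lc_c_rc_11_1 lc_c_Cert_tree lc_c_rc_13_2 lc_c_Cert_tree lc_c_rc_26_2 lc_c_Cert_tree lc_c_Cert_tree lc_c_rc_11_1 lc_c_rc_7_3 lc_c_rc_24_6 lc_c_rc_11_1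 lc_c_Cert_tree lc_c_rc_26_4 lc_c_rc_23_0 lc_c_rc_11_1 lc_c_Cert_tree lc_c_rc_14_2 lc_c_rc_7_1 lc_c_Cert_tree lc_c_rc_14_0 lc_c_rc_7_5 lc_c_Cert_tree lc_c_rc_11_1 lc_c_rc_14_2 lc_c_rc_11_1 lc_c_Cert_tree) (@D3.rec (fun _ => (Cert rels S Gen.c)) lc_c_rc_13_2 lc_c_rc_11_1 lc_c_rc_13_2 lc_c_Cert_tree lc_c_rc_26_4 lc_c_rc_11_1 lc_c_rc_13_2 lc_c_Cert_tree lc_c_rc_11_1 lc_c_rc_23_5 lc_c_rc_13_2 lc_c_rc_23_0 lc_c_rc_7_3 lc_c_Cert_tree lc_c_Cert_tree lc_c_Cert_tree lc_c_rc_14_2 lc_c_rc_11_1 lc_c_rc_11_1 lc_c_Cert_tree lc_c_rc_14_2 lc_c_rc_14_2 lc_c_rc_7_1 lc_c_rc_13_2 lc_c_rc_13_2 lc_c_rc_23_0 lc_c_rc_11_1 lc_c_rc_14_2 lc_c_rc_7_3 lc_c_rc_22_3 lc_c_rc_11_1 lc_c_rc_13_2 lc_c_rc_11_1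 lc_c_rc_11_1 lc_c_rc_13_2 lc_c_rc_11_1 lc_c_rc_11_1 lc_c_rc_7_1 lc_c_Cert_tree lc_c_rc_13_2 lc_c_rc_26_10 lc_c_rc_26_4 lc_c_rc_11_1 lc_c_rc_26_8 lc_c_rc_11_1 lc_c_rc_22_3 lc_c_rc_2_3 lc_c_rc_13_0 lc_c_Cert_tree lc_c_rc_13_2 lc_c_rc_26_10 lc_c_rc_23_5 lc_c_Cert_tree lc_c_rc_13_0 lc_c_rc_13_2 lc_c_rc_13_2 lc_c_rc_14_2 lc_c_rc_7_3 lc_c_rc_23_5 lc_c_rc_23_5 lc_c_rc_2_3 lc_c_rc_23_5) (@D3.rec (fun _ => (Cert rels S Gen.c)) lc_c_rc_7_3 lc_c_rc_24_8 lc_c_rc_13_2 lc_c_rc_7_3 lc_c_rc_24_2 lc_c_rc_26_4 lc_c_rc_11_1 lc_c_rc_25_5 lc_c_rc_13_2 lc_c_Cert_tree lc_c_rc_11_1 lc_c_Cert_tree lc_c_Cert_tree lc_c_rc_11_1 lc_c_rc_2_3 lc_c_rc_11_1 lc_c_rc_7_3 lc_c_rc_22_5 lc_c_Cert_tree lc_c_rc_11_1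 lc_c_rc_11_1 lc_c_rc_11_1 lc_c_rc_14_2 lc_c_rc_22_9 lc_c_rc_11_1 lc_c_rc_11_1 lc_c_rc_26_4 lc_c_rc_11_1 lc_c_Cert_tree lc_c_rc_23_0 lc_c_Cert_tree lc_c_rc_13_2 lc_c_rc_11_1 lc_c_Cert_tree lc_c_rc_13_2 lc_c_rc_2_3 lc_c_rc_11_1 lc_c_rc_26_4 lc_c_rc_13_2 lc_c_Cert_tree lc_c_Cert_tree lc_c_rc_11_1 lc_c_rc_7_3 lc_c_rc_24_6 lc_c_rc_22_7 lc_c_rc_7_3 lc_c_rc_13_2 lc_c_rc_23_5 lc_c_rc_24_2 lc_c_rc_22_5 lc_c_rc_2_3 lc_c_rc_11_1 lc_c_rc_11_1 lc_c_rc_7_5 lc_c_Cert_tree lc_c_rc_11_1 lc_c_rc_11_1 lc_c_Cert_tree lc_c_rc_14_2 lc_c_rc_25_9 lc_c_rc_11_1 lc_c_rc_13_2) (@D3.rec (fun _ => (Cert rels S Gen.c)) lc_c_rc_14_2 lc_c_rc_24_4 lc_c_rc_26_2 lc_c_rc_26_10 lc_c_rc_26_8 lc_c_rc_13_2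 lc_c_rc_11_1 lc_c_rc_13_2 lc_c_rc_11_1 lc_c_rc_23_0 lc_c_Cert_tree lc_c_rc_22_3 lc_c_rc_11_1 lc_c_rc_11_1 lc_c_rc_7_3 lc_c_rc_11_1 lc_c_rc_26_8 lc_c_rc_11_1 lc_c_Cert_tree lc_c_rc_13_2 lc_c_rc_26_10 lc_c_rc_26_10 lc_c_rc_14_2 lc_c_rc_2_3 lc_c_rc_13_0 lc_c_rc_2_3 lc_c_Cert_tree lc_c_rc_11_1 lc_c_rc_13_2 lc_c_rc_14_2 lc_c_Cert_tree lc_c_rc_11_1 lc_c_rc_13_2 lc_c_rc_23_0 lc_c_rc_11_1 lc_c_Cert_tree lc_c_rc_14_2 lc_c_Cert_tree lc_c_Cert_tree lc_c_rc_13_2 lc_c_Cert_tree lc_c_Cert_tree lc_c_rc_13_2 lc_c_rc_11_1 lc_c_rc_26_10 lc_c_rc_23_5 lc_c_rc_14_2 lc_c_rc_24_8 lc_c_rc_13_2 lc_c_rc_24_8 lc_c_rc_22_3 lc_c_rc_11_1 lc_c_rc_7_3 lc_c_rc_13_2 lc_c_rc_11_1 lc_c_rc_11_1 lc_c_rc_13_2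 lc_c_rc_11_1 lc_c_rc_24_6 lc_c_Cert_tree lc_c_rc_11_1 lc_c_rc_2_3) (@D3.rec (fun _ => (Cert rels S Gen.c)) lc_c_rc_13_2 lc_c_Cert_tree lc_c_rc_23_5 lc_c_rc_26_4 lc_c_rc_11_1 lc_c_rc_25_5 lc_c_rc_13_2 lc_c_Cert_tree lc_c_rc_11_1 lc_c_rc_24_8 lc_c_rc_11_1 lc_c_rc_13_2 lc_c_rc_26_10 lc_c_rc_11_1 lc_c_rc_7_5 lc_c_rc_7_3 lc_c_rc_24_8 lc_c_rc_7_3 lc_c_rc_13_2 lc_c_rc_13_2 lc_c_rc_13_2 lc_c_rc_24_8 lc_c_rc_7_5 lc_c_rc_7_5 lc_c_rc_7_1 lc_c_rc_14_2 lc_c_rc_11_1 lc_c_rc_13_2 lc_c_Cert_tree lc_c_rc_11_1 lc_c_rc_13_2 lc_c_rc_11_1 lc_c_rc_26_4 lc_c_rc_24_6 lc_c_rc_11_1 lc_c_rc_22_5 lc_c_rc_13_2 lc_c_rc_23_0 lc_c_rc_13_2 lc_c_rc_14_2 lc_c_rc_11_1 lc_c_rc_26_2 lc_c_rc_11_1 lc_c_rc_11_1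 lc_c_rc_2_1 lc_c_Cert_tree lc_c_rc_11_1 lc_c_Cert_tree lc_c_rc_13_2 lc_c_Cert_tree lc_c_Cert_tree lc_c_rc_11_1 lc_c_rc_14_2 lc_c_rc_14_2 lc_c_rc_2_3 lc_c_rc_11_1 lc_c_rc_2_3 lc_c_rc_24_2 lc_c_rc_13_2 lc_c_Cert_tree lc_c_rc_22_3 lc_c_rc_14_0) (@D3.rec (fun _ => (Cert rels S Gen.c)) lc_c_rc_26_2 lc_c_Cert_tree lc_c_Cert_tree lc_c_rc_13_2 lc_c_rc_13_2 lc_c_Cert_tree lc_c_rc_11_1 lc_c_rc_24_4 lc_c_rc_7_1 lc_c_rc_24_2 lc_c_rc_24_2 lc_c_rc_11_1 lc_c_rc_14_2 lc_c_rc_7_3 lc_c_Cert_tree lc_c_rc_25_17 lc_c_rc_11_1 lc_c_rc_11_1 lc_c_rc_11_1 lc_c_rc_26_2 lc_c_rc_22_3 lc_c_rc_11_1 lc_c_rc_7_5 lc_c_rc_24_6 lc_c_rc_13_2 lc_c_rc_26_2 lc_c_Cert_tree lc_c_rc_11_1 lc_c_rc_13_2 lc_c_rc_13_2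 lc_c_rc_13_0 lc_c_rc_11_1 lc_c_rc_22_5 lc_c_rc_25_17 lc_c_rc_22_7 lc_c_rc_11_1 lc_c_rc_11_1 lc_c_rc_22_5 lc_c_rc_11_1 lc_c_rc_13_2 lc_c_rc_24_6 lc_c_rc_22_5 lc_c_rc_11_1 lc_c_rc_26_8 lc_c_rc_7_1 lc_c_rc_7_5 lc_c_rc_14_2 lc_c_rc_14_0 lc_c_rc_14_2 lc_c_Cert_tree lc_c_rc_11_1 lc_c_Cert_tree lc_c_rc_23_5 lc_c_Cert_tree lc_c_rc_11_1 lc_c_rc_26_10 lc_c_rc_13_2 lc_c_Cert_tree lc_c_rc_11_1 lc_c_rc_13_2 lc_c_rc_11_1 lc_c_rc_14_2) (@D3.rec (fun _ => (Cert rels S Gen.c)) lc_c_rc_11_1 lc_c_rc_13_2 lc_c_rc_26_2 lc_c_rc_11_1 lc_c_rc_14_0 lc_c_rc_14_2 lc_c_rc_11_1 lc_c_rc_26_4 lc_c_rc_13_2 lc_c_Cert_tree lc_c_rc_11_1 lc_c_rc_23_5 lc_c_rc_24_8 lc_c_rc_24_8 lc_c_rc_7_5 lc_c_rc_7_5 lc_c_rc_25_13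 lc_c_rc_23_5 lc_c_rc_13_2 lc_c_rc_11_1 lc_c_rc_11_1 lc_c_rc_14_2 lc_c_rc_13_0 lc_c_rc_13_2 lc_c_rc_26_8 lc_c_rc_11_1 lc_c_rc_13_2 lc_c_rc_13_2 lc_c_rc_26_8 lc_c_rc_11_1 lc_c_rc_23_0 lc_c_rc_14_2 lc_c_rc_24_2 lc_c_rc_13_2 lc_c_Cert_tree lc_c_rc_11_1 lc_c_rc_13_2 lc_c_rc_26_4 lc_c_rc_24_2 lc_c_rc_11_1 lc_c_rc_11_1 lc_c_rc_7_5 lc_c_rc_14_0 lc_c_rc_11_1 lc_c_rc_11_1 lc_c_rc_13_2 lc_c_rc_13_2 lc_c_rc_7_5 lc_c_rc_26_8 lc_c_rc_26_4 lc_c_rc_2_3 lc_c_rc_11_1 lc_c_rc_24_6 lc_c_rc_13_0 lc_c_rc_13_2 lc_c_rc_12_0 lc_c_rc_11_1 lc_c_rc_13_2 lc_c_rc_7_1 lc_c_Cert_tree lc_c_rc_22_3 lc_c_rc_11_1) (@D3.rec (fun _ => (Cert rels S Gen.c)) lc_c_rc_13_2 lc_c_rc_7_1 lc_c_rc_24_4 lc_c_Cert_tree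 lc_c_rc_11_1 lc_c_rc_26_4 lc_c_rc_11_1 lc_c_rc_22_3 lc_c_rc_2_3 lc_c_rc_22_7 lc_c_rc_11_1 lc_c_rc_13_2 lc_c_rc_2_1 lc_c_rc_13_2 lc_c_rc_7_5 lc_c_rc_23_5 lc_c_rc_13_2 lc_c_rc_23_0 lc_c_rc_23_0 lc_c_rc_13_2 lc_c_rc_26_8 lc_c_rc_24_8 lc_c_rc_11_1 lc_c_rc_11_1 lc_c_rc_11_1 lc_c_rc_13_2 lc_c_rc_22_7 lc_c_rc_24_4 lc_c_rc_23_0 lc_c_rc_22_3 lc_c_rc_14_2 lc_c_rc_13_0 lc_c_Cert_tree lc_c_Cert_tree lc_c_rc_25_13 lc_c_rc_24_8 lc_c_rc_13_2 lc_c_rc_11_1 lc_c_rc_14_2 lc_c_rc_11_1 lc_c_rc_22_5 lc_c_rc_11_1 lc_c_rc_24_6 lc_c_rc_26_4 lc_c_rc_13_2 lc_c_rc_22_9 lc_c_rc_14_2 lc_c_rc_22_7 lc_c_rc_22_3 lc_c_rc_7_5 lc_c_rc_24_4 lc_c_rc_22_7 lc_c_rc_26_4 lc_c_rc_11_1 lc_c_rc_11_1 lc_c_rc_13_2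 lc_c_Cert_tree lc_c_Cert_tree lc_c_Cert_tree lc_c_rc_13_2 lc_c_rc_7_3 lc_c_Cert_tree) (@D3.rec (fun _ => (Cert rels S Gen.c)) lc_c_Cert_tree lc_c_Cert_tree lc_c_rc_11_1 lc_c_rc_12_4 lc_c_rc_22_9 lc_c_rc_13_0 lc_c_rc_11_1 lc_c_rc_23_5 lc_c_rc_23_5 lc_c_rc_7_1 lc_c_Cert_tree lc_c_rc_13_2 lc_c_rc_2_3 lc_c_rc_11_1 lc_c_rc_23_0 lc_c_rc_14_2 lc_c_rc_22_3 lc_c_rc_11_1 lc_c_rc_13_2 lc_c_rc_7_1 lc_c_rc_13_2 lc_c_rc_11_1 lc_c_rc_7_5 lc_c_Cert_tree lc_c_rc_26_2 lc_c_Cert_tree lc_c_rc_13_2 lc_c_Cert_tree lc_c_Cert_tree lc_c_Cert_tree lc_c_rc_11_1 lc_c_rc_7_3 lc_c_rc_13_2 lc_c_rc_11_1 lc_c_rc_22_7 lc_c_rc_14_2 lc_c_rc_11_1 lc_c_rc_26_2 lc_c_rc_23_0 lc_c_rc_13_2 lc_c_rc_24_2 lc_c_rc_11_1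 lc_c_rc_14_2 lc_c_rc_7_3 lc_c_rc_11_1 lc_c_rc_2_3 lc_c_rc_14_2 lc_c_rc_7_5 lc_c_rc_2_3 lc_c_rc_23_5 lc_c_rc_11_1 lc_c_rc_11_1 lc_c_rc_13_2 lc_c_rc_13_2 lc_c_rc_24_8 lc_c_rc_13_2 lc_c_rc_14_2 lc_c_rc_7_3 lc_c_rc_13_2 lc_c_rc_13_2 lc_c_rc_13_2 lc_c_rc_11_1) (@D3.rec (fun _ => (Cert rels S Gen.c)) lc_c_Cert_tree lc_c_rc_14_2 lc_c_rc_11_1 lc_c_rc_13_2 lc_c_rc_26_4 lc_c_rc_11_1 lc_c_rc_23_5 lc_c_rc_23_0 lc_c_rc_11_1 lc_c_rc_13_2 lc_c_rc_2_1 lc_c_rc_11_1 lc_c_rc_14_2 lc_c_rc_7_5 lc_c_rc_23_5 lc_c_rc_11_1 lc_c_rc_13_2 lc_c_rc_7_3 lc_c_rc_13_2 lc_c_rc_7_5 lc_c_Cert_tree lc_c_rc_14_2 lc_c_rc_11_1 lc_c_rc_13_2 lc_c_rc_26_4 lc_c_rc_13_2 lc_c_rc_14_2 lc_c_rc_23_0 lc_c_rc_2_1 lc_c_rc_13_2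 lc_c_rc_11_1 lc_c_rc_13_0 lc_c_rc_13_2 lc_c_rc_11_1 lc_c_rc_13_2 lc_c_rc_13_2 lc_c_rc_11_1 lc_c_rc_24_2 lc_c_rc_2_1 lc_c_rc_14_2 lc_c_rc_13_2 lc_c_rc_11_1 lc_c_rc_11_1 lc_c_Cert_tree lc_c_rc_14_2 lc_c_Cert_tree lc_c_rc_11_1 lc_c_rc_23_5 lc_c_rc_13_2 lc_c_rc_11_1 lc_c_rc_11_1 lc_c_rc_26_4 lc_c_rc_13_2 lc_c_rc_11_1 lc_c_rc_24_8 lc_c_rc_11_1 lc_c_rc_13_2 lc_c_rc_22_3 lc_c_rc_23_5 lc_c_rc_14_2 lc_c_rc_13_2 lc_c_rc_11_1) (@D3.rec (fun _ => (Cert rels S Gen.c)) lc_c_rc_23_0 lc_c_rc_23_0 lc_c_rc_2_3 lc_c_rc_2_1 lc_c_rc_13_2 lc_c_rc_11_1 lc_c_Cert_tree lc_c_rc_13_2 lc_c_rc_11_1 lc_c_rc_11_1 lc_c_rc_12_4 lc_c_rc_14_2 lc_c_rc_2_1 lc_c_rc_14_2 lc_c_rc_23_5 lc_c_rc_24_4 lc_c_rc_22_3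 lc_c_rc_26_2 lc_c_rc_14_2 lc_c_Cert_tree lc_c_rc_26_10 lc_c_rc_11_1 lc_c_rc_7_3 lc_c_rc_13_2 lc_c_rc_24_4 lc_c_rc_26_10 lc_c_rc_14_2 lc_c_rc_13_2 lc_c_rc_11_1 lc_c_rc_11_1 lc_c_rc_22_3 lc_c_rc_14_2 lc_c_Cert_tree lc_c_rc_11_1 lc_c_rc_23_5 lc_c_rc_24_8 lc_c_rc_11_1 lc_c_rc_23_5 lc_c_rc_22_5 lc_c_rc_26_8 lc_c_Cert_tree lc_c_rc_11_1 lc_c_rc_11_1 lc_c_rc_11_1 lc_c_rc_2_3 lc_c_rc_24_2 lc_c_rc_11_1 lc_c_rc_12_2 lc_c_rc_24_4 lc_c_rc_11_1 lc_c_rc_13_2 lc_c_rc_11_1 lc_c_Cert_tree lc_c_rc_14_2 lc_c_rc_11_1 lc_c_rc_7_5 lc_c_rc_11_1 lc_c_rc_7_3 lc_c_rc_13_2 lc_c_rc_22_3 lc_c_rc_14_0 lc_c_rc_14_2) (@D3.rec (fun _ => (Cert rels S Gen.c)) lc_c_Cert_tree lc_c_rc_24_2 lc_c_rc_11_1 lc_c_rc_26_10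 lc_c_Cert_tree lc_c_Cert_tree lc_c_rc_14_2 lc_c_rc_13_2 lc_c_rc_11_1 lc_c_Cert_tree lc_c_rc_14_2 lc_c_rc_13_2 lc_c_rc_13_2 lc_c_rc_2_3 lc_c_rc_11_1 lc_c_rc_13_0 lc_c_rc_14_2 lc_c_Cert_tree lc_c_rc_11_1 lc_c_rc_11_1 lc_c_rc_11_1 lc_c_rc_13_2 lc_c_Cert_tree lc_c_rc_11_1 lc_c_rc_11_1 lc_c_rc_7_3 lc_c_rc_11_1 lc_c_rc_11_1 lc_c_rc_7_5 lc_c_Cert_tree lc_c_rc_11_1 lc_c_rc_13_2 lc_c_rc_24_2 lc_c_rc_11_1 lc_c_rc_2_3 lc_c_rc_7_3 lc_c_Cert_tree lc_c_rc_14_2 lc_c_rc_14_2 lc_c_rc_14_0 lc_c_rc_13_0 lc_c_Cert_tree lc_c_rc_7_5 lc_c_rc_24_4 lc_c_Cert_tree lc_c_rc_11_1 lc_c_rc_23_0 lc_c_rc_26_8 lc_c_rc_23_5 lc_c_rc_11_1 lc_c_rc_13_0 lc_c_Cert_tree lc_c_rc_11_1 lc_c_rc_13_2 lc_c_Cert_tree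 lc_c_rc_11_1 lc_c_rc_23_5 lc_c_rc_11_1 lc_c_rc_11_1 lc_c_rc_23_0 lc_c_rc_22_9 lc_c_rc_14_2) (@D3.rec (fun _ => (Cert rels S Gen.c)) lc_c_rc_13_2 lc_c_rc_7_3 lc_c_rc_24_4 lc_c_rc_26_4 lc_c_rc_11_1 lc_c_rc_23_0 lc_c_rc_7_3 lc_c_rc_13_2 lc_c_rc_23_0 lc_c_Cert_tree lc_c_rc_24_6 lc_c_rc_11_1 lc_c_rc_13_2 lc_c_rc_7_1 lc_c_rc_13_2 lc_c_rc_24_2 lc_c_Cert_tree lc_c_rc_13_2 lc_c_rc_11_1 lc_c_rc_14_0 lc_c_rc_7_1 lc_c_rc_23_5 lc_c_rc_24_6 lc_c_rc_22_5 lc_c_rc_13_2 lc_c_rc_11_1 lc_c_rc_23_0 lc_c_rc_14_2 lc_c_rc_7_5 lc_c_rc_26_4 lc_c_rc_13_2 lc_c_rc_13_2 lc_c_rc_23_5 lc_c_rc_23_5 lc_c_rc_23_5 lc_c_rc_26_2 lc_c_rc_24_2 lc_c_rc_14_2 lc_c_rc_13_2 lc_c_rc_22_7 lc_c_rc_24_4 lc_c_rc_14_2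 lc_c_rc_13_2 lc_c_rc_11_1 lc_c_rc_13_2 lc_c_rc_13_2 lc_c_Cert_tree lc_c_rc_23_5 lc_c_rc_24_4 lc_c_rc_11_1 lc_c_rc_13_2 lc_c_rc_14_2 lc_c_rc_12_14 lc_c_rc_7_3 lc_c_rc_11_1 lc_c_rc_13_2 lc_c_rc_23_5 lc_c_Cert_tree lc_c_rc_2_1 lc_c_Cert_tree lc_c_rc_13_2 lc_c_rc_23_5) (@D3.rec (fun _ => (Cert rels S Gen.c)) lc_c_rc_2_3 lc_c_rc_14_2 lc_c_rc_14_2 lc_c_Cert_tree lc_c_rc_13_0 lc_c_rc_2_3 lc_c_rc_24_8 lc_c_rc_13_2 lc_c_rc_13_2 lc_c_rc_13_2 lc_c_Cert_tree lc_c_rc_13_2 lc_c_rc_13_2 lc_c_rc_23_5 lc_c_rc_26_8 lc_c_rc_11_1 lc_c_rc_7_3 lc_c_rc_13_2 lc_c_Cert_tree lc_c_rc_26_2 lc_c_Cert_tree lc_c_rc_7_1 lc_c_rc_22_9 lc_c_rc_25_5 lc_c_rc_13_2 lc_c_rc_13_2 lc_c_Cert_tree lc_c_rc_13_2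 lc_c_rc_22_5 lc_c_rc_14_2 lc_c_rc_11_1 lc_c_rc_11_1 lc_c_rc_11_1 lc_c_Cert_tree lc_c_rc_11_1 lc_c_rc_7_5 lc_c_rc_11_1 lc_c_rc_13_2 lc_c_Cert_tree lc_c_rc_25_5 lc_c_rc_11_1 lc_c_rc_24_4 lc_c_rc_24_4 lc_c_rc_11_1 lc_c_rc_11_1 lc_c_Cert_tree lc_c_rc_22_7 lc_c_rc_22_7 lc_c_rc_22_3 lc_c_rc_11_1 lc_c_rc_24_4 lc_c_rc_11_1 lc_c_rc_11_1 lc_c_rc_13_2 lc_c_rc_13_2 lc_c_rc_23_0 lc_c_rc_22_5 lc_c_rc_24_6 lc_c_rc_11_1 lc_c_rc_13_2 lc_c_rc_7_5 lc_c_rc_13_2) (@D3.rec (fun _ => (Cert rels S Gen.c)) lc_c_rc_24_2 lc_c_rc_2_1 lc_c_Cert_tree lc_c_rc_13_2 lc_c_rc_13_2 lc_c_rc_26_4 lc_c_rc_26_10 lc_c_rc_7_3 lc_c_rc_13_2 lc_c_rc_11_1 lc_c_rc_24_8 lc_c_rc_13_2 lc_c_rc_26_8 lc_c_rc_26_2 lc_c_Cert_tree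 lc_c_rc_14_2 lc_c_rc_11_1 lc_c_rc_13_2 lc_c_rc_13_2 lc_c_rc_13_2 lc_c_rc_23_0 lc_c_rc_12_14 lc_c_rc_11_1 lc_c_rc_24_2 lc_c_rc_26_4 lc_c_rc_14_2 lc_c_rc_11_1 lc_c_rc_26_2 lc_c_rc_13_2 lc_c_rc_7_5 lc_c_rc_7_3 lc_c_rc_14_2 lc_c_rc_2_3 lc_c_rc_13_2 lc_c_rc_23_0 lc_c_rc_24_4 lc_c_rc_23_0 lc_c_rc_11_1 lc_c_rc_13_2 lc_c_rc_11_1 lc_c_rc_13_2 lc_c_rc_2_3 lc_c_rc_7_3 lc_c_rc_11_1 lc_c_rc_14_2 lc_c_rc_14_0 lc_c_rc_11_1 lc_c_rc_7_3 lc_c_rc_13_2 lc_c_rc_13_2 lc_c_rc_24_8 lc_c_Cert_tree lc_c_rc_26_8 lc_c_rc_24_2 lc_c_rc_26_2 lc_c_rc_11_1 lc_c_rc_26_8 lc_c_rc_26_2 lc_c_rc_13_2 lc_c_rc_11_1 lc_c_rc_11_1 lc_c_rc_24_2) (@D3.rec (fun _ => (Cert rels S Gen.c)) lc_c_rc_13_2 lc_c_rc_24_8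 lc_c_rc_11_1 lc_c_Cert_tree lc_c_rc_13_2 lc_c_Cert_tree lc_c_rc_11_1 lc_c_rc_13_2 lc_c_rc_7_3 lc_c_rc_13_2 lc_c_rc_24_6 lc_c_rc_11_1 lc_c_rc_7_3 lc_c_rc_22_9 lc_c_rc_14_2 lc_c_rc_2_3 lc_c_rc_13_2 lc_c_rc_13_2 lc_c_rc_11_1 lc_c_rc_2_1 lc_c_rc_11_1 lc_c_rc_26_2 lc_c_rc_14_2 lc_c_rc_7_3 lc_c_rc_2_3 lc_c_rc_13_2 lc_c_rc_14_2 lc_c_rc_7_5 lc_c_rc_13_2 lc_c_rc_26_4 lc_c_rc_23_5 lc_c_rc_14_2 lc_c_rc_7_1 lc_c_rc_13_2 lc_c_rc_24_2 lc_c_rc_13_2 lc_c_rc_14_2 lc_c_rc_26_2 lc_c_rc_13_2 lc_c_rc_24_8 lc_c_rc_13_2 lc_c_rc_13_0 lc_c_rc_13_0 lc_c_rc_24_2 lc_c_rc_14_2 lc_c_rc_11_1 lc_c_rc_11_1 lc_c_rc_24_8 lc_c_rc_11_1 lc_c_rc_13_0 lc_c_rc_13_2 lc_c_rc_2_3 lc_c_rc_23_0 lc_c_Cert_tree lc_c_Cert_tree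 lc_c_rc_14_0 lc_c_rc_24_6 lc_c_rc_23_0 lc_c_rc_23_0 lc_c_Cert_tree lc_c_rc_7_5 lc_c_rc_13_0) (@D3.rec (fun _ => (Cert rels S Gen.c)) lc_c_Cert_tree lc_c_Cert_tree lc_c_rc_26_2 lc_c_rc_11_1 lc_c_Cert_tree lc_c_rc_13_2 lc_c_rc_2_1 lc_c_rc_11_1 lc_c_Cert_tree lc_c_rc_13_2 lc_c_rc_13_2 lc_c_Cert_tree lc_c_rc_11_1 lc_c_Cert_tree lc_c_rc_11_1 lc_c_rc_13_2 lc_c_Cert_tree lc_c_rc_11_1 lc_c_rc_11_1 lc_c_rc_11_1 lc_c_rc_2_1 lc_c_rc_2_1 lc_c_rc_7_3 lc_c_rc_11_1 lc_c_rc_7_3 lc_c_rc_13_2 lc_c_rc_24_8 lc_c_rc_26_8 lc_c_rc_13_2 lc_c_rc_26_10 lc_c_rc_11_1 lc_c_rc_14_0 lc_c_rc_14_2 lc_c_rc_26_4 lc_c_rc_11_1 lc_c_Cert_tree lc_c_rc_13_2 lc_c_rc_11_1 lc_c_Cert_tree lc_c_rc_26_4 lc_c_rc_26_10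 lc_c_rc_11_1 lc_c_rc_11_1 lc_c_rc_23_0 lc_c_rc_11_1 lc_c_rc_11_1 lc_c_rc_23_0 lc_c_rc_11_1 lc_c_rc_11_1 lc_c_rc_26_8 lc_c_rc_11_1 lc_c_rc_11_1 lc_c_rc_23_5 lc_c_rc_23_5 lc_c_rc_14_2 lc_c_rc_13_2 lc_c_rc_22_5 lc_c_rc_14_2 lc_c_rc_26_8 lc_c_rc_14_2 lc_c_rc_26_4 lc_c_Cert_tree) (@D3.rec (fun _ => (Cert rels S Gen.c)) lc_c_rc_26_4 lc_c_Cert_tree lc_c_rc_14_0 lc_c_rc_26_8 lc_c_Cert_tree lc_c_Cert_tree lc_c_rc_26_2 lc_c_rc_11_1 lc_c_rc_22_3 lc_c_Cert_tree lc_c_rc_26_8 lc_c_rc_25_9 lc_c_rc_26_8 lc_c_Cert_tree lc_c_rc_11_1 lc_c_rc_13_2 lc_c_rc_23_0 lc_c_rc_14_2 lc_c_rc_13_2 lc_c_rc_2_1 lc_c_rc_11_1 lc_c_Cert_tree lc_c_rc_13_2 lc_c_rc_11_1 lc_c_rc_13_2 lc_c_rc_14_2 lc_c_rc_11_1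 lc_c_rc_23_5 lc_c_Cert_tree lc_c_rc_11_1 lc_c_rc_13_2 lc_c_rc_24_8 lc_c_rc_11_1 lc_c_rc_7_3 lc_c_rc_11_1 lc_c_rc_14_2 lc_c_rc_13_2 lc_c_rc_11_1 lc_c_rc_11_1 lc_c_rc_22_3 lc_c_rc_23_0 lc_c_rc_11_1 lc_c_rc_7_1 lc_c_rc_23_5 lc_c_rc_13_2 lc_c_rc_23_0 lc_c_rc_23_0 lc_c_rc_11_1 lc_c_rc_13_2 lc_c_rc_23_5 lc_c_Cert_tree lc_c_rc_26_2 lc_c_rc_14_2 lc_c_rc_2_3 lc_c_Cert_tree lc_c_rc_7_1 lc_c_Cert_tree lc_c_rc_11_1 lc_c_rc_13_2 lc_c_rc_23_0 lc_c_rc_14_2 lc_c_Cert_tree) (@D3.rec (fun _ => (Cert rels S Gen.c)) lc_c_rc_11_1 lc_c_rc_13_2 lc_c_rc_11_1 lc_c_rc_23_0 lc_c_rc_24_2 lc_c_rc_23_0 lc_c_rc_7_1 lc_c_rc_11_1 lc_c_rc_13_2 lc_c_rc_12_2 lc_c_rc_22_5 lc_c_rc_23_5 lc_c_Cert_tree lc_c_rc_24_8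 lc_c_rc_7_1 lc_c_rc_7_5 lc_c_Cert_tree lc_c_rc_11_1 lc_c_rc_14_2 lc_c_Cert_tree lc_c_rc_24_8 lc_c_Cert_tree lc_c_rc_11_1 lc_c_rc_11_1 lc_c_rc_13_2 lc_c_rc_13_0 lc_c_rc_24_2 lc_c_rc_13_2 lc_c_Cert_tree lc_c_rc_11_1 lc_c_rc_24_2 lc_c_rc_11_1 lc_c_rc_11_1 lc_c_Cert_tree lc_c_rc_13_2 lc_c_Cert_tree lc_c_Cert_tree lc_c_rc_11_1 lc_c_rc_25_9 lc_c_rc_11_1 lc_c_Cert_tree lc_c_rc_22_5 lc_c_rc_11_1 lc_c_rc_13_2 lc_c_rc_22_3 lc_c_rc_24_2 lc_c_rc_11_1 lc_c_rc_11_1 lc_c_rc_13_2 lc_c_rc_23_0 lc_c_rc_11_1 lc_c_rc_7_3 lc_c_rc_12_12 lc_c_rc_11_1 lc_c_rc_11_1 lc_c_rc_11_1 lc_c_rc_14_2 lc_c_rc_13_2 lc_c_Cert_tree lc_c_rc_23_0 lc_c_rc_14_2 lc_c_rc_11_1) (@D3.rec (fun _ => (Cert rels S Gen.c))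 lc_c_rc_25_1 lc_c_rc_7_3 lc_c_rc_13_2 lc_c_Cert_tree lc_c_Cert_tree lc_c_rc_14_2 lc_c_rc_13_2 lc_c_rc_7_3 lc_c_rc_13_2 lc_c_Cert_tree lc_c_Cert_tree lc_c_rc_14_2 lc_c_rc_7_3 lc_c_rc_13_2 lc_c_Cert_tree lc_c_Cert_tree lc_c_rc_14_2 lc_c_rc_14_2 lc_c_rc_13_2 lc_c_Cert_tree lc_c_rc_13_2 lc_c_Cert_tree lc_c_Cert_tree lc_c_rc_2_3 lc_c_Cert_tree lc_c_rc_13_2 lc_c_rc_26_2 lc_c_rc_13_2 lc_c_rc_7_3 lc_c_rc_13_2 lc_c_Cert_tree lc_c_Cert_tree lc_c_rc_14_2 lc_c_rc_2_3 lc_c_rc_24_2 lc_c_rc_13_2 lc_c_rc_7_3 lc_c_rc_13_2 lc_c_Cert_tree lc_c_rc_14_2 lc_c_rc_7_3 lc_c_rc_7_3 lc_c_rc_13_2 lc_c_rc_24_8 lc_c_rc_26_2 lc_c_rc_24_4 lc_c_rc_22_3 lc_c_rc_13_0 lc_c_rc_11_1 lc_c_rc_2_3 lc_c_rc_26_8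 lc_c_rc_13_2 lc_c_rc_13_2 lc_c_rc_24_4 lc_c_rc_22_7 lc_c_rc_14_2 lc_c_rc_11_1 lc_c_rc_24_6 lc_c_rc_2_3 lc_c_Cert_tree lc_c_rc_13_2 lc_c_rc_11_1) (@D3.rec (fun _ => (Cert rels S Gen.c)) lc_c_rc_11_1 lc_c_rc_14_2 lc_c_rc_11_1 lc_c_Cert_tree lc_c_rc_11_1 lc_c_rc_23_0 lc_c_rc_11_1 lc_c_rc_2_3 lc_c_rc_11_1 lc_c_rc_24_2 lc_c_rc_14_2 lc_c_Cert_tree lc_c_rc_2_3 lc_c_Cert_tree lc_c_rc_13_2 lc_c_rc_13_2 lc_c_rc_22_5 lc_c_rc_14_2 lc_c_rc_2_3 lc_c_rc_24_2 lc_c_rc_11_1 lc_c_rc_13_2 lc_c_rc_24_8 lc_c_rc_26_8 lc_c_rc_11_1 lc_c_rc_13_2 lc_c_rc_13_0 lc_c_Cert_tree lc_c_rc_7_3 lc_c_rc_14_2 lc_c_rc_14_2 lc_c_rc_2_1 lc_c_rc_2_3 lc_c_rc_11_1 lc_c_rc_11_1 lc_c_rc_2_3 lc_c_rc_26_8 lc_c_rc_13_2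 lc_c_rc_13_2 lc_c_rc_11_1 lc_c_rc_11_1 lc_c_rc_13_0 lc_c_rc_14_2 lc_c_rc_7_5 lc_c_rc_11_1 lc_c_rc_11_1 lc_c_Cert_tree lc_c_rc_13_2 lc_c_rc_13_2 lc_c_rc_14_2 lc_c_Cert_tree lc_c_rc_13_2 lc_c_Cert_tree lc_c_rc_14_2 lc_c_rc_2_1 lc_c_rc_11_1 lc_c_rc_23_5 lc_c_rc_26_10 lc_c_rc_7_1 lc_c_rc_11_1 lc_c_rc_14_0 lc_c_rc_13_2) (@D3.rec (fun _ => (Cert rels S Gen.c)) lc_c_rc_26_4 lc_c_rc_24_4 lc_c_rc_26_8 lc_c_rc_11_1 lc_c_rc_26_8 lc_c_rc_22_7 lc_c_rc_13_2 lc_c_rc_2_3 lc_c_rc_13_2 lc_c_rc_13_0 lc_c_Cert_tree lc_c_rc_2_3 lc_c_rc_13_2 lc_c_Cert_tree lc_c_rc_11_1 lc_c_rc_2_3 lc_c_rc_13_2 lc_c_rc_11_1 lc_c_rc_12_2 lc_c_rc_14_2 lc_c_rc_11_1 lc_c_rc_26_10 lc_c_rc_11_1 lc_c_rc_2_3 lc_c_rc_14_2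 lc_c_rc_13_2 lc_c_rc_13_2 lc_c_rc_11_1 lc_c_rc_24_6 lc_c_rc_23_5 lc_c_rc_14_2 lc_c_rc_11_1 lc_c_rc_26_2 lc_c_rc_26_4 lc_c_rc_11_1 lc_c_Cert_tree lc_c_rc_14_2 lc_c_Cert_tree lc_c_rc_11_1 lc_c_rc_11_1 lc_c_rc_13_2 lc_c_rc_22_5 lc_c_rc_14_2 lc_c_rc_14_2 lc_c_rc_7_3 lc_c_rc_11_1 lc_c_rc_26_4 lc_c_rc_11_1 lc_c_Cert_tree lc_c_rc_13_2 lc_c_rc_7_3 lc_c_rc_7_1 lc_c_rc_11_1 lc_c_rc_24_6 lc_c_rc_13_2 lc_c_rc_12_2 lc_c_rc_24_4 lc_c_rc_24_4 lc_c_rc_11_1 lc_c_rc_7_1 lc_c_rc_13_2 lc_c_Cert_tree) (@D3.rec (fun _ => (Cert rels S Gen.c)) lc_c_rc_13_2 lc_c_rc_7_3 lc_c_rc_13_2 lc_c_rc_24_6 lc_c_rc_24_4 lc_c_rc_2_1 lc_c_Cert_tree lc_c_Cert_tree lc_c_rc_11_1 lc_c_rc_2_3 lc_c_rc_13_2 lc_c_Cert_tree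 lc_c_rc_13_2 lc_c_Cert_tree lc_c_Cert_tree lc_c_rc_2_3 lc_c_rc_26_4 lc_c_rc_13_2 lc_c_rc_13_2 lc_c_rc_11_1 lc_c_rc_11_1 lc_c_rc_24_8 lc_c_rc_14_2 lc_c_rc_11_1 lc_c_rc_11_1 lc_c_rc_11_1 lc_c_rc_11_1 lc_c_rc_2_3 lc_c_Cert_tree lc_c_rc_13_2 lc_c_rc_7_5 lc_c_rc_13_0 lc_c_rc_11_1 lc_c_rc_22_7 lc_c_Cert_tree lc_c_rc_11_1 lc_c_rc_11_1 lc_c_Cert_tree lc_c_rc_13_2 lc_c_rc_13_2 lc_c_rc_2_1 lc_c_rc_14_2 lc_c_rc_7_5 lc_c_rc_11_1 lc_c_rc_11_1 lc_c_Cert_tree lc_c_rc_13_2 lc_c_rc_13_2 lc_c_rc_22_7 lc_c_rc_26_4 lc_c_rc_11_1 lc_c_rc_25_5 lc_c_rc_13_2 lc_c_rc_11_1 lc_c_rc_11_1 lc_c_Cert_tree lc_c_rc_22_5 lc_c_rc_2_3 lc_c_rc_13_2 lc_c_rc_25_5 lc_c_Cert_tree lc_c_rc_7_1) (@D3.rec (fun _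 => (Cert rels S Gen.c)) lc_c_Cert_tree lc_c_Cert_tree lc_c_Cert_tree lc_c_rc_7_3 lc_c_rc_26_2 lc_c_rc_13_2 lc_c_rc_22_3 lc_c_rc_13_2 lc_c_Cert_tree lc_c_Cert_tree lc_c_Cert_tree lc_c_rc_14_2 lc_c_rc_7_3 lc_c_Cert_tree lc_c_rc_7_3 lc_c_Cert_tree lc_c_rc_13_2 lc_c_Cert_tree lc_c_Cert_tree lc_c_rc_11_1 lc_c_rc_14_2 lc_c_rc_22_3 lc_c_rc_7_3 lc_c_rc_12_2 lc_c_Cert_tree lc_c_rc_13_2 lc_c_rc_11_1 lc_c_rc_13_2 lc_c_rc_23_0 lc_c_rc_13_2 lc_c_Cert_tree lc_c_rc_14_2 lc_c_rc_7_5 lc_c_rc_13_2 lc_c_rc_26_4 lc_c_rc_13_0 lc_c_rc_2_3 lc_c_rc_7_1 lc_c_rc_13_2 lc_c_rc_26_4 lc_c_rc_11_1 lc_c_rc_7_5 lc_c_rc_13_2 lc_c_rc_11_1 lc_c_Cert_tree lc_c_rc_13_2 lc_c_Cert_tree lc_c_rc_13_2 lc_c_rc_25_5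 lc_c_Cert_tree lc_c_rc_11_1 lc_c_rc_7_1 lc_c_Cert_tree lc_c_rc_13_0 lc_c_Cert_tree lc_c_rc_14_2 lc_c_rc_11_1 lc_c_Cert_tree lc_c_rc_22_5 lc_c_rc_14_2 lc_c_rc_7_5 lc_c_rc_25_13) (@D3.rec (fun _ => (Cert rels S Gen.c)) lc_c_rc_13_2 lc_c_rc_7_5 lc_c_rc_22_3 lc_c_rc_22_3 lc_c_Cert_tree lc_c_rc_11_1 lc_c_rc_14_2 lc_c_rc_11_1 lc_c_rc_13_2 lc_c_rc_7_3 lc_c_rc_25_5 lc_c_rc_26_10 lc_c_rc_24_6 lc_c_rc_2_3 lc_c_rc_13_2 lc_c_rc_24_6 lc_c_rc_14_2 lc_c_rc_26_8 lc_c_Cert_tree lc_c_rc_23_5 lc_c_rc_13_0 lc_c_rc_11_1 lc_c_rc_7_5 lc_c_rc_13_2 lc_c_rc_7_5 lc_c_rc_11_1 lc_c_rc_11_1 lc_c_rc_7_5 lc_c_rc_26_4 lc_c_rc_11_1 lc_c_rc_13_2 lc_c_rc_26_8 lc_c_rc_11_1 lc_c_rc_2_3 lc_c_rc_13_2 lc_c_rc_24_4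 lc_c_rc_24_4 lc_c_Cert_tree lc_c_Cert_tree lc_c_rc_14_2 lc_c_rc_13_2 lc_c_rc_11_1 lc_c_rc_13_2 lc_c_rc_7_5 lc_c_rc_26_10 lc_c_rc_14_2 lc_c_rc_7_1 lc_c_rc_22_3 lc_c_rc_7_5 lc_c_rc_22_7 lc_c_rc_23_5 lc_c_rc_23_0 lc_c_rc_23_0 lc_c_rc_11_1 lc_c_rc_14_2 lc_c_rc_7_3 lc_c_rc_22_3 lc_c_rc_11_1 lc_c_rc_7_3 lc_c_Cert_tree lc_c_rc_13_2 lc_c_rc_11_1) (@D3.rec (fun _ => (Cert rels S Gen.c)) lc_c_rc_11_1 lc_c_rc_7_3 lc_c_Cert_tree lc_c_rc_26_8 lc_c_rc_26_2 lc_c_Cert_tree lc_c_rc_13_2 lc_c_Cert_tree lc_c_rc_11_1 lc_c_rc_13_2 lc_c_rc_7_3 lc_c_rc_7_1 lc_c_rc_26_4 lc_c_rc_14_2 lc_c_rc_24_4 lc_c_rc_11_1 lc_c_Cert_tree lc_c_rc_14_2 lc_c_rc_7_5 lc_c_rc_14_2 lc_c_rc_24_4 lc_c_rc_7_5 lc_c_rc_2_3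 lc_c_rc_23_5 lc_c_rc_11_1 lc_c_rc_22_9 lc_c_rc_13_2 lc_c_rc_11_1 lc_c_rc_13_2 lc_c_rc_24_2 lc_c_rc_26_4 lc_c_rc_11_1 lc_c_rc_13_2 lc_c_Cert_tree lc_c_rc_11_1 lc_c_rc_23_0 lc_c_rc_11_1 lc_c_rc_23_0 lc_c_rc_24_8 lc_c_rc_11_1 lc_c_rc_13_2 lc_c_rc_2_3 lc_c_rc_11_1 lc_c_rc_7_3 lc_c_rc_24_2 lc_c_rc_14_2 lc_c_rc_22_3 lc_c_rc_11_1 lc_c_Cert_tree lc_c_Cert_tree lc_c_rc_11_1 lc_c_Cert_tree lc_c_rc_13_2 lc_c_rc_11_1 lc_c_rc_22_5 lc_c_rc_26_4 lc_c_rc_11_1 lc_c_Cert_tree lc_c_rc_11_1 lc_c_rc_13_2 lc_c_rc_24_4 lc_c_rc_7_1) (@D3.rec (fun _ => (Cert rels S Gen.c)) lc_c_rc_7_5 lc_c_rc_26_4 lc_c_rc_26_2 lc_c_rc_14_2 lc_c_rc_13_2 lc_c_rc_24_4 lc_c_rc_24_4 lc_c_rc_2_3 lc_c_rc_24_6 lc_c_rc_13_2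 lc_c_rc_11_1 lc_c_rc_11_1 lc_c_rc_13_2 lc_c_rc_11_1 lc_c_rc_11_1 lc_c_rc_11_1 lc_c_rc_7_3 lc_c_rc_26_4 lc_c_rc_11_1 lc_c_rc_26_4 lc_c_rc_22_9 lc_c_rc_13_2 lc_c_rc_14_2 lc_c_rc_12_2 lc_c_rc_2_1 lc_c_rc_13_0 lc_c_rc_14_2 lc_c_rc_13_2 lc_c_rc_26_10 lc_c_Cert_tree lc_c_rc_11_1 lc_c_rc_13_2 lc_c_rc_11_1 lc_c_rc_13_2 lc_c_rc_11_1 lc_c_rc_13_2 lc_c_rc_23_0 lc_c_Cert_tree lc_c_rc_14_2 lc_c_rc_23_5 lc_c_rc_11_1 lc_c_rc_11_1 lc_c_rc_13_2 lc_c_rc_11_1 lc_c_rc_13_2 lc_c_Cert_tree lc_c_rc_11_1 lc_c_rc_13_2 lc_c_Cert_tree lc_c_Cert_tree lc_c_rc_7_3 lc_c_rc_22_5 lc_c_rc_13_2 lc_c_rc_14_2 lc_c_Cert_tree lc_c_rc_11_1 lc_c_rc_7_3 lc_c_rc_26_8 lc_c_Cert_tree lc_c_rc_11_1 lc_c_rc_13_0 lc_c_rc_2_1)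 (@D3.rec (fun _ => (Cert rels S Gen.c)) lc_c_rc_11_1 lc_c_rc_26_10 lc_c_rc_11_1 lc_c_Cert_tree lc_c_rc_7_5 lc_c_Cert_tree lc_c_rc_11_1 lc_c_rc_13_2 lc_c_rc_13_2 lc_c_rc_24_2 lc_c_rc_14_2 lc_c_rc_11_1 lc_c_Cert_tree lc_c_rc_2_1 lc_c_rc_7_1 lc_c_rc_24_2 lc_c_rc_26_10 lc_c_rc_14_2 lc_c_rc_11_1 lc_c_rc_23_0 lc_c_rc_13_2 lc_c_rc_26_2 lc_c_rc_11_1 lc_c_Cert_tree lc_c_rc_13_2 lc_c_rc_14_2 lc_c_rc_22_3 lc_c_Cert_tree lc_c_rc_7_3 lc_c_Cert_tree lc_c_rc_24_6 lc_c_rc_7_5 lc_c_rc_13_2 lc_c_rc_24_2 lc_c_rc_24_2 lc_c_rc_11_1 lc_c_Cert_tree lc_c_rc_13_2 lc_c_rc_11_1 lc_c_rc_2_3 lc_c_rc_13_2 lc_c_rc_11_1 lc_c_rc_11_1 lc_c_rc_14_2 lc_c_rc_11_1 lc_c_rc_26_10 lc_c_rc_11_1 lc_c_rc_2_3 lc_c_rc_7_3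 lc_c_rc_13_2 lc_c_rc_11_1 lc_c_rc_11_1 lc_c_rc_14_2 lc_c_rc_11_1 lc_c_Cert_tree lc_c_rc_7_5 lc_c_rc_2_3 lc_c_Cert_tree lc_c_rc_14_2 lc_c_rc_11_1 lc_c_Cert_tree lc_c_Cert_tree) (@D3.rec (fun _ => (Cert rels S Gen.c)) lc_c_rc_2_3 lc_c_rc_13_2 lc_c_rc_24_6 lc_c_rc_11_1 lc_c_rc_2_3 lc_c_rc_13_2 lc_c_rc_26_4 lc_c_rc_11_1 lc_c_rc_13_2 lc_c_rc_7_5 lc_c_rc_13_2 lc_c_rc_22_9 lc_c_rc_26_8 lc_c_Cert_tree lc_c_rc_11_1 lc_c_rc_26_4 lc_c_rc_13_2 lc_c_rc_13_2 lc_c_rc_7_1 lc_c_rc_13_2 lc_c_rc_24_4 lc_c_rc_22_7 lc_c_rc_25_17 lc_c_rc_7_3 lc_c_rc_23_5 lc_c_rc_7_3 lc_c_rc_23_5 lc_c_rc_13_2 lc_c_rc_11_1 lc_c_rc_26_8 lc_c_rc_11_1 lc_c_rc_22_3 lc_c_rc_13_2 lc_c_Cert_tree lc_c_Cert_tree lc_c_rc_7_5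 lc_c_rc_7_5 lc_c_rc_13_2 lc_c_rc_11_1 lc_c_rc_7_3 lc_c_rc_11_1 lc_c_rc_11_1 lc_c_rc_13_2 lc_c_rc_24_2 lc_c_rc_26_10 lc_c_rc_14_2 lc_c_rc_26_10 lc_c_rc_2_1 lc_c_rc_11_1 lc_c_rc_13_2 lc_c_rc_26_4 lc_c_rc_13_2 lc_c_rc_26_4 lc_c_rc_11_1 lc_c_rc_2_3 lc_c_rc_26_8 lc_c_rc_11_1 lc_c_rc_26_2 lc_c_rc_26_10 lc_c_Cert_tree lc_c_rc_24_4 lc_c_Cert_tree) (@D3.rec (fun _ => (Cert rels S Gen.c)) lc_c_Cert_tree lc_c_rc_11_1 lc_c_rc_2_3 lc_c_rc_26_2 lc_c_rc_13_2 lc_c_rc_13_2 lc_c_Cert_tree lc_c_rc_26_10 lc_c_rc_11_1 lc_c_rc_2_3 lc_c_Cert_tree lc_c_rc_13_2 lc_c_rc_13_2 lc_c_rc_11_1 lc_c_Cert_tree lc_c_Cert_tree lc_c_rc_11_1 lc_c_rc_11_1 lc_c_rc_13_2 lc_c_Cert_tree lc_c_rc_26_2 lc_c_rc_11_1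 lc_c_rc_2_3 lc_c_rc_13_2 lc_c_Cert_tree lc_c_rc_14_2 lc_c_rc_26_4 lc_c_rc_11_1 lc_c_rc_13_2 lc_c_rc_7_5 lc_c_rc_13_2 lc_c_Cert_tree lc_c_rc_13_2 lc_c_rc_25_1 lc_c_Cert_tree lc_c_rc_11_1 lc_c_rc_13_2 lc_c_rc_14_2 lc_c_rc_13_0 lc_c_rc_7_5 lc_c_rc_13_2 lc_c_rc_7_5 lc_c_rc_11_1 lc_c_rc_13_2 lc_c_rc_26_4 lc_c_rc_13_2 lc_c_rc_7_1 lc_c_rc_11_1 lc_c_rc_11_1 lc_c_rc_24_2 lc_c_rc_13_2 lc_c_Cert_tree lc_c_rc_24_8 lc_c_rc_14_0 lc_c_rc_11_1 lc_c_rc_26_8 lc_c_rc_22_3 lc_c_rc_11_1 lc_c_rc_13_2 lc_c_rc_13_0 lc_c_rc_23_0 lc_c_rc_14_2) (@D3.rec (fun _ => (Cert rels S Gen.c)) lc_c_rc_11_1 lc_c_rc_13_2 lc_c_rc_11_1 lc_c_rc_11_1 lc_c_rc_23_0 lc_c_rc_26_8 lc_c_rc_11_1 lc_c_rc_13_2 lc_c_rc_24_6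 lc_c_rc_24_4 lc_c_Cert_tree lc_c_rc_23_0 lc_c_Cert_tree lc_c_rc_11_1 lc_c_Cert_tree lc_c_rc_26_8 lc_c_rc_11_1 lc_c_rc_12_2 lc_c_Cert_tree lc_c_rc_11_1 lc_c_rc_11_1 lc_c_rc_7_1 lc_c_rc_13_2 lc_c_rc_11_1 lc_c_rc_2_3 lc_c_rc_13_2 lc_c_rc_7_5 lc_c_rc_11_1 lc_c_rc_26_10 lc_c_rc_11_1 lc_c_rc_26_4 lc_c_rc_11_1 lc_c_rc_23_0 lc_c_rc_13_0 lc_c_rc_13_2 lc_c_rc_11_1 lc_c_rc_13_0 lc_c_rc_14_2 lc_c_rc_24_2 lc_c_rc_23_0 lc_c_Cert_tree lc_c_rc_7_1 lc_c_rc_11_1 lc_c_Cert_tree lc_c_rc_7_5 lc_c_Cert_tree lc_c_rc_13_2 lc_c_rc_22_7 lc_c_rc_11_1 lc_c_rc_22_7 lc_c_rc_7_3 lc_c_rc_24_2 lc_c_rc_11_1 lc_c_rc_11_1 lc_c_Cert_tree lc_c_rc_24_2 lc_c_rc_13_0 lc_c_rc_7_1 lc_c_rc_11_1 lc_c_rc_13_2 lc_c_rc_7_3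 lc_c_rc_26_4) (@D3.rec (fun _ => (Cert rels S Gen.c)) lc_c_rc_24_2 lc_c_rc_13_2 lc_c_rc_23_5 lc_c_rc_26_2 lc_c_rc_11_1 lc_c_rc_13_2 lc_c_rc_13_0 lc_c_rc_13_0 lc_c_rc_11_1 lc_c_rc_24_4 lc_c_rc_11_1 lc_c_rc_2_3 lc_c_rc_13_2 lc_c_rc_26_4 lc_c_rc_11_1 lc_c_rc_26_8 lc_c_rc_11_1 lc_c_rc_26_10 lc_c_rc_11_1 lc_c_rc_13_0 lc_c_rc_25_1 lc_c_rc_11_1 lc_c_rc_13_2 lc_c_rc_23_5 lc_c_rc_2_3 lc_c_rc_13_2 lc_c_rc_24_2 lc_c_rc_11_1 lc_c_rc_11_1 lc_c_rc_2_1 lc_c_rc_7_5 lc_c_rc_13_2 lc_c_Cert_tree lc_c_rc_13_2 lc_c_rc_11_1 lc_c_rc_13_2 lc_c_rc_24_4 lc_c_rc_24_4 lc_c_rc_24_2 lc_c_rc_22_3 lc_c_rc_22_5 lc_c_rc_7_5 lc_c_Cert_tree lc_c_rc_7_3 lc_c_Cert_tree lc_c_rc_24_2 lc_c_rc_13_2 lc_c_rc_11_1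 lc_c_rc_2_3 lc_c_rc_2_1 lc_c_rc_7_1 lc_c_Cert_tree lc_c_rc_13_2 lc_c_rc_13_2 lc_c_Cert_tree lc_c_rc_11_1 lc_c_rc_11_1 lc_c_rc_13_2 lc_c_rc_11_1 lc_c_rc_13_2 lc_c_rc_11_1 lc_c_rc_22_3) (@D3.rec (fun _ => (Cert rels S Gen.c)) lc_c_rc_11_1 lc_c_rc_23_0 lc_c_rc_11_1 lc_c_rc_12_2 lc_c_Cert_tree lc_c_rc_11_1 lc_c_rc_13_2 lc_c_rc_26_8 lc_c_rc_11_1 lc_c_rc_13_2 lc_c_rc_7_3 lc_c_rc_7_1 lc_c_rc_13_2 lc_c_rc_11_1 lc_c_rc_13_2 lc_c_rc_24_2 lc_c_rc_11_1 lc_c_rc_11_1 lc_c_rc_11_1 lc_c_rc_23_0 lc_c_rc_11_1 lc_c_rc_13_2 lc_c_rc_23_0 lc_c_rc_12_2 lc_c_rc_24_4 lc_c_rc_13_2 lc_c_rc_24_8 lc_c_rc_22_9 lc_c_Cert_tree lc_c_rc_11_1 lc_c_rc_14_0 lc_c_rc_24_8 lc_c_Cert_tree lc_c_rc_13_0 lc_c_rc_26_10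 lc_c_Cert_tree lc_c_Cert_tree lc_c_Cert_tree lc_c_rc_11_1 lc_c_rc_2_3 lc_c_rc_11_1 lc_c_rc_2_1 lc_c_rc_11_1 lc_c_rc_13_2 lc_c_rc_11_1 lc_c_Cert_tree lc_c_rc_13_2 lc_c_rc_11_1 lc_c_rc_13_2 lc_c_rc_24_2 lc_c_rc_25_5 lc_c_rc_11_1 lc_c_rc_26_4 lc_c_rc_24_6 lc_c_rc_13_2 lc_c_rc_23_5 lc_c_rc_11_1 lc_c_rc_7_1 lc_c_rc_24_4 lc_c_rc_13_2 lc_c_rc_26_4 lc_c_rc_11_1) (@D3.rec (fun _ => (Cert rels S Gen.c)) lc_c_rc_26_4 lc_c_rc_14_2 lc_c_rc_11_1 lc_c_rc_7_5 lc_c_rc_26_2 lc_c_rc_7_5 lc_c_rc_13_2 lc_c_rc_26_8 lc_c_rc_24_8 lc_c_rc_11_1 lc_c_rc_2_3 lc_c_rc_11_1 lc_c_rc_13_2 lc_c_rc_24_4 lc_c_rc_24_6 lc_c_rc_14_2 lc_c_rc_13_0 lc_c_rc_11_1 lc_c_rc_26_4 lc_c_rc_2_1 lc_c_rc_13_2 lc_c_rc_7_1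 lc_c_rc_24_2 lc_c_rc_13_2 lc_c_rc_24_8 lc_c_rc_11_1 lc_c_rc_2_3 lc_c_rc_24_2 lc_c_rc_26_4 lc_c_rc_13_2 lc_c_Cert_tree lc_c_rc_24_4 lc_c_rc_24_8 lc_c_rc_13_0 lc_c_rc_13_2 lc_c_rc_13_2 lc_c_rc_14_2 lc_c_Cert_tree lc_c_rc_7_3 lc_c_rc_13_2 lc_c_rc_11_1 lc_c_rc_11_1 lc_c_rc_2_3 lc_c_rc_22_9 lc_c_rc_13_2 lc_c_rc_23_5 lc_c_rc_11_1 lc_c_rc_13_2 lc_c_rc_2_3 lc_c_rc_24_4 lc_c_rc_11_1 lc_c_rc_7_3 lc_c_rc_14_2 lc_c_rc_11_1 lc_c_rc_22_3 lc_c_rc_25_17 lc_c_rc_11_1 lc_c_rc_24_6 lc_c_rc_11_1 lc_c_rc_24_2 lc_c_rc_11_1 lc_c_rc_23_0) (@D3.rec (fun _ => (Cert rels S Gen.c)) lc_c_rc_11_1 lc_c_rc_7_5 lc_c_rc_13_0 lc_c_rc_7_3 lc_c_rc_11_1 lc_c_rc_23_0 lc_c_rc_23_5 lc_c_rc_7_1 lc_c_Cert_tree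 lc_c_rc_13_2 lc_c_rc_11_1 lc_c_rc_26_8 lc_c_rc_7_1 lc_c_Cert_tree lc_c_rc_11_1 lc_c_rc_26_4 lc_c_rc_11_1 lc_c_rc_7_5 lc_c_rc_13_2 lc_c_rc_11_1 lc_c_rc_11_1 lc_c_rc_26_2 lc_c_rc_13_2 lc_c_rc_24_4 lc_c_rc_11_1 lc_c_rc_26_10 lc_c_rc_14_2 lc_c_rc_11_1 lc_c_rc_13_2 lc_c_rc_13_2 lc_c_rc_23_0 lc_c_rc_24_6 lc_c_rc_14_2 lc_c_Cert_tree lc_c_rc_13_2 lc_c_rc_13_2 lc_c_rc_13_2 lc_c_rc_11_1 lc_c_rc_13_2 lc_c_rc_13_2 lc_c_rc_26_2 lc_c_rc_13_2 lc_c_rc_7_3 lc_c_rc_7_3 lc_c_rc_13_2 lc_c_rc_11_1 lc_c_Cert_tree lc_c_rc_22_3 lc_c_Cert_tree lc_c_rc_23_5 lc_c_rc_24_2 lc_c_rc_2_1 lc_c_rc_2_3 lc_c_Cert_tree lc_c_rc_13_2 lc_c_rc_22_3 lc_c_rc_13_0 lc_c_rc_22_7 lc_c_rc_2_3 lc_c_rc_23_0 lc_c_rc_13_2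 lc_c_rc_13_2) (@D3.rec (fun _ => (Cert rels S Gen.c)) lc_c_Cert_tree lc_c_rc_23_0 lc_c_rc_24_8 lc_c_rc_14_2 lc_c_Cert_tree lc_c_rc_11_1 lc_c_rc_2_3 lc_c_Cert_tree lc_c_rc_13_2 lc_c_rc_13_2 lc_c_rc_23_0 lc_c_rc_11_1 lc_c_Cert_tree lc_c_rc_14_2 lc_c_rc_11_1 lc_c_rc_2_3 lc_c_Cert_tree lc_c_Cert_tree lc_c_rc_11_1 lc_c_rc_26_2 lc_c_rc_13_2 lc_c_rc_13_2 lc_c_rc_24_2 lc_c_rc_26_2 lc_c_rc_11_1 lc_c_rc_2_3 lc_c_Cert_tree lc_c_rc_13_2 lc_c_rc_13_2 lc_c_Cert_tree lc_c_rc_13_0 lc_c_rc_26_4 lc_c_rc_13_2 lc_c_rc_7_5 lc_c_rc_13_2 lc_c_rc_14_2 lc_c_rc_11_1 lc_c_rc_7_1 lc_c_rc_11_1 lc_c_rc_14_2 lc_c_rc_13_2 lc_c_rc_24_6 lc_c_rc_2_3 lc_c_rc_22_3 lc_c_rc_13_2 lc_c_Cert_tree lc_c_rc_13_0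 lc_c_rc_11_1 lc_c_rc_25_13 lc_c_rc_13_2 lc_c_rc_7_3 lc_c_rc_22_3 lc_c_rc_26_4 lc_c_rc_13_2 lc_c_rc_11_1 lc_c_rc_14_2 lc_c_rc_11_1 lc_c_rc_11_1 lc_c_rc_13_2 lc_c_rc_13_2 lc_c_rc_7_3 lc_c_rc_11_1) (@D3.rec (fun _ => (Cert rels S Gen.c)) lc_c_rc_13_2 lc_c_rc_23_0 lc_c_rc_14_2 lc_c_rc_22_3 lc_c_rc_13_2 lc_c_rc_26_4 lc_c_rc_11_1 lc_c_Cert_tree lc_c_rc_26_10 lc_c_rc_11_1 lc_c_rc_11_1 lc_c_rc_7_3 lc_c_rc_11_1 lc_c_rc_11_1 lc_c_rc_2_1 lc_c_rc_13_2 lc_c_rc_11_1 lc_c_rc_11_1 lc_c_rc_13_2 lc_c_rc_13_2 lc_c_rc_11_1 lc_c_rc_22_3 lc_c_rc_13_2 lc_c_rc_13_2 lc_c_rc_11_1 lc_c_rc_23_0 lc_c_rc_13_2 lc_c_rc_13_0 lc_c_rc_13_2 lc_c_rc_14_2 lc_c_Cert_tree lc_c_rc_22_9 lc_c_rc_13_0 lc_c_rc_11_1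 lc_c_rc_22_3 lc_c_rc_13_2 lc_c_rc_2_1 lc_c_rc_26_10 lc_c_rc_13_2 lc_c_rc_13_0 lc_c_rc_13_2 lc_c_rc_24_8 lc_c_Cert_tree lc_c_rc_14_2 lc_c_rc_11_1 lc_c_rc_13_2 lc_c_rc_11_1 lc_c_Cert_tree lc_c_Cert_tree lc_c_rc_14_2 lc_c_rc_13_0 lc_c_rc_23_0 lc_c_rc_11_1 lc_c_Cert_tree lc_c_rc_13_2 lc_c_rc_11_1 lc_c_rc_7_3 lc_c_rc_11_1 lc_c_rc_13_2 lc_c_rc_2_1 lc_c_rc_7_3 lc_c_rc_11_1) (@D3.rec (fun _ => (Cert rels S Gen.c)) lc_c_rc_13_2 lc_c_rc_7_3 lc_c_rc_22_5 lc_c_rc_13_2 lc_c_rc_11_1 lc_c_Cert_tree lc_c_rc_22_5 lc_c_rc_7_3 lc_c_rc_11_1 lc_c_rc_13_2 lc_c_rc_13_0 lc_c_rc_26_4 lc_c_rc_14_2 lc_c_rc_11_1 lc_c_rc_13_2 lc_c_rc_24_4 lc_c_rc_7_1 lc_c_rc_11_1 lc_c_rc_7_5 lc_c_rc_11_1 lc_c_rc_24_4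 lc_c_rc_14_2 lc_c_rc_11_1 lc_c_rc_23_0 lc_c_rc_11_1 lc_c_rc_24_4 lc_c_rc_14_2 lc_c_rc_23_0 lc_c_rc_22_3 lc_c_rc_24_6 lc_c_rc_11_1 lc_c_rc_23_0 lc_c_rc_22_9 lc_c_rc_11_1 lc_c_Cert_tree lc_c_rc_13_2 lc_c_rc_24_2 lc_c_rc_24_2 lc_c_rc_11_1 lc_c_rc_23_5 lc_c_rc_14_2 lc_c_rc_13_2 lc_c_rc_13_2 lc_c_rc_11_1 lc_c_rc_11_1 lc_c_rc_13_2 lc_c_Cert_tree lc_c_Cert_tree lc_c_rc_7_5 lc_c_rc_11_1 lc_c_rc_11_1 lc_c_rc_7_3 lc_c_rc_22_5 lc_c_rc_13_2 lc_c_rc_7_5 lc_c_rc_13_2 lc_c_rc_13_2 lc_c_rc_11_1 lc_c_rc_2_3 lc_c_rc_11_1 lc_c_rc_26_10 lc_c_rc_24_4) (@D3.rec (fun _ => (Cert rels S Gen.c)) lc_c_rc_23_5 lc_c_rc_7_3 lc_c_rc_22_5 lc_c_rc_13_2 lc_c_rc_13_0 lc_c_rc_13_0 lc_c_rc_13_2 lc_c_rc_11_1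 lc_c_rc_14_2 lc_c_rc_7_3 lc_c_rc_11_1 lc_c_rc_13_2 lc_c_rc_7_3 lc_c_rc_13_2 lc_c_rc_22_9 lc_c_rc_23_0 lc_c_rc_11_1 lc_c_rc_26_4 lc_c_rc_14_2 lc_c_rc_23_0 lc_c_rc_11_1 lc_c_rc_23_0 lc_c_rc_11_1 lc_c_rc_7_5 lc_c_rc_24_4 lc_c_rc_7_5 lc_c_rc_11_1 lc_c_rc_14_2 lc_c_rc_7_3 lc_c_rc_22_3 lc_c_rc_11_1 lc_c_rc_11_1 lc_c_rc_11_1 lc_c_rc_24_2 lc_c_rc_13_2 lc_c_rc_25_1 lc_c_rc_7_3 lc_c_rc_13_2 lc_c_Cert_tree lc_c_rc_11_1 lc_c_rc_14_2 lc_c_rc_22_3 lc_c_rc_11_1 lc_c_rc_13_2 lc_c_rc_7_3 lc_c_Cert_tree lc_c_rc_13_2 lc_c_rc_13_0 lc_c_rc_7_3 lc_c_rc_26_8 lc_c_rc_7_5 lc_c_rc_13_2 lc_c_rc_7_5 lc_c_rc_13_2 lc_c_rc_26_10 lc_c_rc_13_0 lc_c_rc_2_3 lc_c_rc_26_2 lc_c_rc_13_2 lc_c_rc_7_3 lc_c_rc_23_0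 lc_c_rc_14_2) (@D3.rec (fun _ => (Cert rels S Gen.c)) lc_c_rc_13_2 lc_c_rc_11_1 lc_c_Cert_tree lc_c_rc_13_2 lc_c_rc_25_9 lc_c_Cert_tree lc_c_rc_11_1 lc_c_rc_2_1 lc_c_rc_13_2 lc_c_rc_13_2 lc_c_rc_14_2 lc_c_rc_11_1 lc_c_rc_14_2 lc_c_rc_13_2 lc_c_rc_23_0 lc_c_rc_11_1 lc_c_rc_14_2 lc_c_rc_11_1 lc_c_rc_13_2 lc_c_rc_12_2 lc_c_rc_24_6 lc_c_rc_7_3 lc_c_rc_11_1 lc_c_rc_13_2 lc_c_Cert_tree lc_c_rc_11_1 lc_c_rc_13_2 lc_c_rc_7_5 lc_c_rc_2_3 lc_c_rc_13_2 lc_c_rc_7_3 lc_c_rc_14_2 lc_c_rc_13_2 lc_c_rc_26_10 lc_c_rc_26_10 lc_c_rc_7_3 lc_c_rc_13_2 lc_c_rc_11_1 lc_c_Cert_tree lc_c_rc_22_3 lc_c_rc_14_2 lc_c_rc_11_1 lc_c_rc_23_5 lc_c_rc_26_4 lc_c_rc_11_1 lc_c_rc_13_2 lc_c_rc_7_1 lc_c_rc_7_5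 lc_c_rc_13_2 lc_c_rc_13_0 lc_c_rc_13_2 lc_c_rc_11_1 lc_c_rc_11_1 lc_c_rc_2_1 lc_c_Cert_tree lc_c_rc_22_9 lc_c_rc_26_10 lc_c_rc_26_10 lc_c_Cert_tree lc_c_rc_14_2 lc_c_rc_11_1 lc_c_rc_11_1) (@D3.rec (fun _ => (Cert rels S Gen.c)) lc_c_rc_13_2 lc_c_rc_24_6 lc_c_rc_24_4 lc_c_Cert_tree lc_c_rc_2_3 lc_c_rc_11_1 lc_c_rc_2_1 lc_c_rc_11_1 lc_c_Cert_tree lc_c_rc_7_3 lc_c_rc_13_2 lc_c_Cert_tree lc_c_rc_14_2 lc_c_rc_14_2 lc_c_Cert_tree lc_c_rc_7_5 lc_c_Cert_tree lc_c_rc_12_14 lc_c_rc_13_2 lc_c_Cert_tree lc_c_Cert_tree lc_c_rc_26_2 lc_c_rc_24_6 lc_c_rc_24_6 lc_c_Cert_tree lc_c_rc_14_2 lc_c_rc_13_2 lc_c_rc_11_1 lc_c_rc_13_2 lc_c_rc_11_1 lc_c_Cert_tree lc_c_Cert_tree lc_c_rc_11_1 lc_c_rc_12_2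 lc_c_rc_13_2 lc_c_rc_23_0 lc_c_rc_11_1 lc_c_Cert_tree lc_c_rc_22_7 lc_c_rc_11_1 lc_c_rc_26_4 lc_c_rc_2_1 lc_c_rc_7_1 lc_c_rc_14_0 lc_c_rc_13_2 lc_c_Cert_tree lc_c_rc_11_1 lc_c_rc_13_2 lc_c_rc_11_1 lc_c_rc_26_2 lc_c_rc_11_1 lc_c_Cert_tree lc_c_rc_13_2 lc_c_rc_11_1 lc_c_rc_22_5 lc_c_Cert_tree lc_c_rc_11_1 lc_c_rc_11_1 lc_c_rc_11_1 lc_c_rc_11_1 lc_c_rc_22_7 lc_c_rc_2_3) (@D3.rec (fun _ => (Cert rels S Gen.c)) lc_c_rc_11_1 lc_c_rc_13_2 lc_c_rc_26_4 lc_c_rc_26_4 lc_c_rc_13_2 lc_c_rc_26_8 lc_c_rc_13_2 lc_c_rc_7_5 lc_c_rc_13_2 lc_c_rc_11_1 lc_c_rc_13_2 lc_c_rc_2_3 lc_c_rc_11_1 lc_c_rc_26_8 lc_c_rc_11_1 lc_c_rc_11_1 lc_c_rc_13_2 lc_c_rc_11_1 lc_c_Cert_tree lc_c_rc_13_2 lc_c_rc_24_2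 lc_c_rc_11_1 lc_c_rc_24_6 lc_c_rc_7_5 lc_c_rc_13_2 lc_c_rc_11_1 lc_c_rc_7_5 lc_c_rc_13_2 lc_c_rc_13_2 lc_c_rc_23_0 lc_c_rc_2_1 lc_c_rc_11_1 lc_c_rc_24_2 lc_c_rc_7_1 lc_c_Cert_tree lc_c_rc_13_2 lc_c_Cert_tree lc_c_rc_13_0 lc_c_Cert_tree lc_c_rc_14_2 lc_c_rc_13_0 lc_c_rc_11_1 lc_c_rc_12_0 lc_c_Cert_tree lc_c_rc_11_1 lc_c_rc_13_0 lc_c_rc_11_1 lc_c_Cert_tree lc_c_rc_2_1 lc_c_rc_11_1 lc_c_rc_26_4 lc_c_rc_7_3 lc_c_rc_22_5 lc_c_rc_7_3 lc_c_rc_11_1 lc_c_rc_11_1 lc_c_Cert_tree lc_c_rc_23_0 lc_c_rc_7_1 lc_c_rc_22_3 lc_c_rc_11_1 lc_c_rc_13_0) (@D3.rec (fun _ => (Cert rels S Gen.c)) lc_c_rc_2_3 lc_c_rc_7_3 lc_c_rc_11_1 lc_c_rc_11_1 lc_c_rc_13_2 lc_c_rc_7_1 lc_c_rc_13_2 lc_c_rc_11_1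 lc_c_Cert_tree lc_c_rc_7_5 lc_c_rc_25_17 lc_c_rc_11_1 lc_c_rc_2_3 lc_c_rc_11_1 lc_c_rc_7_3 lc_c_rc_11_1 lc_c_rc_13_2 lc_c_rc_11_1 lc_c_rc_23_5 lc_c_rc_26_2 lc_c_rc_11_1 lc_c_rc_11_1 lc_c_rc_26_2 lc_c_rc_11_1 lc_c_rc_22_5 lc_c_rc_13_2 lc_c_rc_14_2 lc_c_rc_11_1 lc_c_rc_14_0 lc_c_Cert_tree lc_c_Cert_tree lc_c_rc_11_1 lc_c_rc_13_2 lc_c_rc_2_3 lc_c_rc_11_1 lc_c_rc_7_1 lc_c_rc_23_0 lc_c_rc_13_2 lc_c_rc_14_2 lc_c_rc_13_2 lc_c_rc_22_3 lc_c_rc_14_2 lc_c_rc_7_3 lc_c_rc_23_5 lc_c_rc_13_2 lc_c_rc_13_0 lc_c_rc_23_0 lc_c_rc_26_8 lc_c_rc_26_4 lc_c_rc_11_1 lc_c_rc_24_8 lc_c_rc_13_2 lc_c_rc_13_2 lc_c_rc_7_3 lc_c_rc_14_2 lc_c_rc_22_3 lc_c_rc_24_2 lc_c_rc_24_6 lc_c_rc_22_3 lc_c_rc_13_2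 lc_c_rc_11_1 lc_c_rc_11_1) (@D3.rec (fun _ => (Cert rels S Gen.c)) lc_c_Cert_tree lc_c_rc_14_2 lc_c_rc_13_2 lc_c_rc_26_10 lc_c_rc_11_1 lc_c_rc_14_2 lc_c_rc_11_1 lc_c_rc_23_5 lc_c_rc_7_3 lc_c_rc_11_1 lc_c_rc_13_2 lc_c_rc_14_2 lc_c_rc_26_2 lc_c_Cert_tree lc_c_rc_13_2 lc_c_Cert_tree lc_c_rc_13_2 lc_c_rc_13_0 lc_c_Cert_tree lc_c_rc_11_1 lc_c_rc_14_2 lc_c_rc_13_2 lc_c_Cert_tree lc_c_rc_13_2 lc_c_rc_11_1 lc_c_rc_11_1 lc_c_rc_13_2 lc_c_rc_11_1 lc_c_Cert_tree lc_c_rc_13_2 lc_c_rc_11_1 lc_c_rc_14_2 lc_c_Cert_tree lc_c_rc_11_1 lc_c_rc_13_2 lc_c_rc_26_2 lc_c_rc_11_1 lc_c_rc_11_1 lc_c_rc_11_1 lc_c_Cert_tree lc_c_rc_14_2 lc_c_rc_13_2 lc_c_rc_24_2 lc_c_rc_13_2 lc_c_rc_11_1 lc_c_rc_24_2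 lc_c_rc_13_2 lc_c_rc_26_4 lc_c_rc_11_1 lc_c_rc_22_5 lc_c_rc_13_2 lc_c_rc_11_1 lc_c_rc_23_5 lc_c_rc_26_2 lc_c_rc_24_4 lc_c_rc_13_2 lc_c_rc_7_5 lc_c_rc_24_4 lc_c_rc_22_5 lc_c_rc_24_6 lc_c_rc_13_2 lc_c_rc_22_3) (@D3.rec (fun _ => (Cert rels S Gen.c)) lc_c_rc_13_2 lc_c_Cert_tree lc_c_Cert_tree lc_c_rc_2_1 lc_c_rc_11_1 lc_c_rc_11_1 lc_c_rc_22_5 lc_c_rc_11_1 lc_c_rc_11_1 lc_c_rc_13_2 lc_c_Cert_tree lc_c_rc_22_3 lc_c_rc_11_1 lc_c_rc_13_2 lc_c_rc_11_1 lc_c_rc_13_2 lc_c_rc_11_1 lc_c_rc_24_6 lc_c_rc_11_1 lc_c_rc_11_1 lc_c_rc_22_9 lc_c_rc_13_2 lc_c_Cert_tree lc_c_rc_26_10 lc_c_rc_22_5 lc_c_rc_11_1 lc_c_rc_11_1 lc_c_rc_13_2 lc_c_rc_11_1 lc_c_rc_7_5 lc_c_rc_11_1 lc_c_rc_24_6 lc_c_rc_7_3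 lc_c_rc_24_2 lc_c_rc_14_2 lc_c_rc_13_2 lc_c_rc_14_2 lc_c_rc_14_2 lc_c_rc_7_3 lc_c_rc_13_2 lc_c_rc_7_3 lc_c_rc_13_2 lc_c_rc_23_0 lc_c_rc_11_1 lc_c_rc_24_6 lc_c_rc_11_1 lc_c_rc_13_2 lc_c_rc_11_1 lc_c_rc_26_4 lc_c_rc_13_2 lc_c_rc_13_0 lc_c_rc_11_1 lc_c_rc_24_6 lc_c_rc_22_5 lc_c_rc_13_2 lc_c_rc_23_0 lc_c_rc_26_2 lc_c_rc_13_0 lc_c_rc_7_5 lc_c_rc_7_3 lc_c_rc_22_3 lc_c_rc_13_2)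
def ce_c_17 : D2 → D3 → (Cert rels S Gen.c) := @D2.rec (fun _ => D3 → (Cert rels S Gen.c)) (@D3.rec (fun _ => (Cert rels S Gen.c)) lc_c_rc_7_5 lc_c_rc_22_9 lc_c_rc_13_2 lc_c_rc_2_3 lc_c_rc_11_1 lc_c_rc_26_2 lc_c_rc_22_3 lc_c_rc_26_2 lc_c_rc_22_3 lc_c_rc_13_2 lc_c_rc_7_5 lc_c_rc_11_1 lc_c_rc_26_2 lc_c_rc_13_2 lc_c_rc_26_4 lc_c_rc_11_1 lc_c_rc_13_2 lc_c_rc_26_8 lc_c_rc_13_2 lc_c_rc_13_2 lc_c_rc_14_2 lc_c_Cert_tree lc_c_rc_7_5 lc_c_rc_11_1 lc_c_Cert_tree lc_c_rc_26_8 lc_c_rc_14_0 lc_c_Cert_tree lc_c_rc_14_2 lc_c_rc_24_2 lc_c_rc_11_1 lc_c_rc_23_0 lc_c_rc_11_1 lc_c_Cert_tree lc_c_rc_7_3 lc_c_rc_22_3 lc_c_rc_7_3 lc_c_rc_13_2 lc_c_rc_26_4 lc_c_rc_26_10 lc_c_rc_26_10 lc_c_rc_14_2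 lc_c_rc_23_5 lc_c_rc_11_1 lc_c_rc_14_2 lc_c_rc_13_2 lc_c_rc_22_3 lc_c_rc_11_1 lc_c_Cert_tree lc_c_rc_11_1 lc_c_rc_11_1 lc_c_rc_11_1 lc_c_rc_7_3 lc_c_Cert_tree lc_c_rc_14_2 lc_c_rc_13_2 lc_c_rc_13_2 lc_c_rc_11_1 lc_c_rc_11_1 lc_c_Cert_tree lc_c_rc_14_2 lc_c_rc_7_3) (@D3.rec (fun _ => (Cert rels S Gen.c)) lc_c_rc_11_1 lc_c_rc_26_10 lc_c_rc_26_8 lc_c_rc_11_1 lc_c_rc_25_17 lc_c_rc_23_5 lc_c_Cert_tree lc_c_rc_22_3 lc_c_rc_11_1 lc_c_rc_13_0 lc_c_rc_11_1 lc_c_rc_11_1 lc_c_rc_13_2 lc_c_rc_26_2 lc_c_rc_11_1 lc_c_rc_2_3 lc_c_rc_11_1 lc_c_rc_14_2 lc_c_rc_11_1 lc_c_rc_7_3 lc_c_rc_11_1 lc_c_rc_14_2 lc_c_rc_7_5 lc_c_rc_13_2 lc_c_rc_14_0 lc_c_rc_26_4 lc_c_rc_11_1 lc_c_rc_13_2 lc_c_rc_11_1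 lc_c_rc_13_2 lc_c_rc_26_2 lc_c_rc_26_2 lc_c_rc_26_8 lc_c_Cert_tree lc_c_rc_13_2 lc_c_Cert_tree lc_c_rc_26_10 lc_c_rc_11_1 lc_c_rc_24_2 lc_c_rc_24_2 lc_c_rc_11_1 lc_c_rc_13_2 lc_c_rc_11_1 lc_c_rc_13_2 lc_c_rc_7_3 lc_c_rc_23_0 lc_c_rc_11_1 lc_c_rc_13_2 lc_c_rc_26_4 lc_c_rc_22_5 lc_c_rc_13_2 lc_c_rc_26_4 lc_c_rc_11_1 lc_c_rc_22_5 lc_c_rc_13_2 lc_c_rc_13_2 lc_c_rc_7_3 lc_c_rc_11_1 lc_c_rc_7_3 lc_c_rc_22_5 lc_c_rc_13_2 lc_c_rc_7_5) (@D3.rec (fun _ => (Cert rels S Gen.c)) lc_c_rc_2_3 lc_c_rc_22_5 lc_c_rc_12_0 lc_c_rc_11_1 lc_c_rc_13_2 lc_c_rc_22_5 lc_c_rc_13_2 lc_c_rc_24_2 lc_c_rc_24_8 lc_c_Cert_tree lc_c_rc_11_1 lc_c_rc_14_2 lc_c_rc_13_2 lc_c_rc_13_2 lc_c_rc_22_5 lc_c_rc_7_3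 lc_c_rc_24_6 lc_c_rc_22_5 lc_c_rc_26_2 lc_c_rc_7_3 lc_c_rc_11_1 lc_c_rc_13_2 lc_c_rc_13_2 lc_c_rc_24_2 lc_c_rc_13_2 lc_c_rc_14_2 lc_c_rc_11_1 lc_c_rc_13_2 lc_c_rc_26_10 lc_c_rc_2_3 lc_c_Cert_tree lc_c_rc_26_2 lc_c_rc_11_1 lc_c_rc_7_3 lc_c_rc_14_2 lc_c_rc_13_2 lc_c_rc_11_1 lc_c_Cert_tree lc_c_rc_14_2 lc_c_rc_13_2 lc_c_rc_11_1 lc_c_rc_13_2 lc_c_rc_7_5 lc_c_rc_2_3 lc_c_rc_24_6 lc_c_rc_14_2 lc_c_rc_24_4 lc_c_rc_26_10 lc_c_rc_14_2 lc_c_rc_13_2 lc_c_rc_11_1 lc_c_rc_2_1 lc_c_rc_13_2 lc_c_rc_11_1 lc_c_rc_11_1 lc_c_rc_2_3 lc_c_rc_26_2 lc_c_rc_11_1 lc_c_rc_22_3 lc_c_rc_7_3 lc_c_rc_11_1 lc_c_rc_14_2) (@D3.rec (fun _ => (Cert rels S Gen.c)) lc_c_rc_13_2 lc_c_rc_11_1 lc_c_rc_11_1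 lc_c_rc_13_0 lc_c_rc_14_2 lc_c_rc_11_1 lc_c_Cert_tree lc_c_rc_23_5 lc_c_rc_14_2 lc_c_rc_26_10 lc_c_rc_7_5 lc_c_rc_13_2 lc_c_rc_26_10 lc_c_rc_11_1 lc_c_rc_13_2 lc_c_rc_14_2 lc_c_rc_13_2 lc_c_rc_11_1 lc_c_rc_2_1 lc_c_rc_11_1 lc_c_rc_22_5 lc_c_rc_13_2 lc_c_rc_7_3 lc_c_rc_13_2 lc_c_rc_26_2 lc_c_rc_23_0 lc_c_rc_7_5 lc_c_rc_22_5 lc_c_rc_13_2 lc_c_rc_23_0 lc_c_rc_22_5 lc_c_rc_11_1 lc_c_rc_24_4 lc_c_rc_22_5 lc_c_rc_12_2 lc_c_rc_14_2 lc_c_rc_25_17 lc_c_rc_26_4 lc_c_rc_25_17 lc_c_rc_13_2 lc_c_rc_24_2 lc_c_rc_23_0 lc_c_rc_11_1 lc_c_rc_13_0 lc_c_rc_11_1 lc_c_rc_13_2 lc_c_rc_11_1 lc_c_rc_13_2 lc_c_rc_11_1 lc_c_rc_7_3 lc_c_rc_13_2 lc_c_rc_22_3 lc_c_rc_7_3 lc_c_rc_11_1 lc_c_rc_25_17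 lc_c_rc_13_2 lc_c_rc_7_5 lc_c_Cert_tree lc_c_rc_13_2 lc_c_rc_11_1 lc_c_rc_7_3 lc_c_rc_11_1) (@D3.rec (fun _ => (Cert rels S Gen.c)) lc_c_rc_13_2 lc_c_rc_11_1 lc_c_Cert_tree lc_c_rc_11_1 lc_c_rc_14_2 lc_c_rc_13_2 lc_c_rc_13_2 lc_c_rc_7_3 lc_c_rc_11_1 lc_c_rc_22_7 lc_c_rc_7_5 lc_c_rc_26_10 lc_c_rc_13_2 lc_c_rc_26_2 lc_c_rc_11_1 lc_c_rc_11_1 lc_c_Cert_tree lc_c_rc_14_2 lc_c_rc_23_0 lc_c_rc_13_2 lc_c_rc_26_2 lc_c_rc_7_5 lc_c_Cert_tree lc_c_rc_13_2 lc_c_rc_11_1 lc_c_rc_12_2 lc_c_rc_22_3 lc_c_rc_22_7 lc_c_rc_22_9 lc_c_rc_2_3 lc_c_rc_24_6 lc_c_Cert_tree lc_c_rc_13_2 lc_c_rc_11_1 lc_c_rc_24_6 lc_c_rc_14_2 lc_c_Cert_tree lc_c_rc_13_2 lc_c_rc_11_1 lc_c_rc_2_1 lc_c_rc_26_2 lc_c_rc_11_1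 lc_c_rc_26_8 lc_c_rc_11_1 lc_c_Cert_tree lc_c_rc_13_2 lc_c_rc_11_1 lc_c_rc_26_4 lc_c_rc_26_2 lc_c_Cert_tree lc_c_rc_2_3 lc_c_Cert_tree lc_c_rc_24_8 lc_c_rc_11_1 lc_c_rc_14_2 lc_c_rc_25_13 lc_c_rc_11_1 lc_c_rc_22_9 lc_c_rc_11_1 lc_c_rc_11_1 lc_c_rc_11_1 lc_c_rc_13_2) (@D3.rec (fun _ => (Cert rels S Gen.c)) lc_c_rc_26_2 lc_c_rc_14_2 lc_c_rc_2_3 lc_c_rc_7_5 lc_c_rc_14_2 lc_c_rc_11_1 lc_c_rc_13_2 lc_c_rc_14_2 lc_c_rc_7_5 lc_c_rc_13_2 lc_c_rc_7_3 lc_c_rc_13_2 lc_c_rc_22_9 lc_c_rc_24_4 lc_c_rc_11_1 lc_c_rc_7_3 lc_c_rc_22_3 lc_c_rc_13_2 lc_c_rc_23_5 lc_c_rc_11_1 lc_c_rc_13_2 lc_c_rc_26_8 lc_c_rc_2_1 lc_c_rc_11_1 lc_c_rc_14_2 lc_c_rc_24_4 lc_c_rc_26_10 lc_c_rc_22_5 lc_c_rc_14_2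 lc_c_rc_25_1 lc_c_rc_11_1 lc_c_rc_11_1 lc_c_rc_14_2 lc_c_rc_26_2 lc_c_rc_11_1 lc_c_rc_13_2 lc_c_rc_13_2 lc_c_rc_11_1 lc_c_rc_26_10 lc_c_rc_7_5 lc_c_rc_7_5 lc_c_rc_22_3 lc_c_rc_14_2 lc_c_rc_11_1 lc_c_rc_13_2 lc_c_rc_2_1 lc_c_Cert_tree lc_c_rc_13_2 lc_c_rc_14_2 lc_c_rc_13_0 lc_c_rc_26_4 lc_c_rc_14_2 lc_c_rc_7_5 lc_c_rc_13_2 lc_c_rc_13_2 lc_c_Cert_tree lc_c_Cert_tree lc_c_rc_11_1 lc_c_rc_14_2 lc_c_rc_24_2 lc_c_rc_11_1 lc_c_rc_13_0) (@D3.rec (fun _ => (Cert rels S Gen.c)) lc_c_rc_13_2 lc_c_Cert_tree lc_c_Cert_tree lc_c_rc_11_1 lc_c_rc_13_2 lc_c_rc_23_0 lc_c_rc_26_8 lc_c_rc_11_1 lc_c_rc_11_1 lc_c_rc_11_1 lc_c_rc_23_5 lc_c_rc_24_4 lc_c_rc_11_1 lc_c_rc_22_7 lc_c_rc_13_2 lc_c_rc_13_0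 lc_c_rc_13_2 lc_c_rc_24_4 lc_c_rc_11_1 lc_c_rc_7_5 lc_c_rc_13_2 lc_c_rc_13_0 lc_c_rc_14_0 lc_c_rc_11_1 lc_c_rc_14_0 lc_c_Cert_tree lc_c_Cert_tree lc_c_rc_11_1 lc_c_rc_13_2 lc_c_rc_11_1 lc_c_rc_14_2 lc_c_rc_11_1 lc_c_rc_13_2 lc_c_rc_11_1 lc_c_rc_11_1 lc_c_rc_23_0 lc_c_rc_7_3 lc_c_rc_11_1 lc_c_rc_13_2 lc_c_rc_23_5 lc_c_rc_14_2 lc_c_rc_26_4 lc_c_rc_24_4 lc_c_rc_11_1 lc_c_Cert_tree lc_c_rc_11_1 lc_c_rc_2_1 lc_c_rc_14_2 lc_c_rc_7_3 lc_c_rc_24_8 lc_c_rc_13_2 lc_c_rc_11_1 lc_c_rc_22_5 lc_c_rc_7_3 lc_c_rc_22_5 lc_c_rc_13_2 lc_c_Cert_tree lc_c_rc_14_2 lc_c_rc_24_6 lc_c_rc_24_4 lc_c_rc_7_3 lc_c_rc_22_5) (@D3.rec (fun _ => (Cert rels S Gen.c)) lc_c_rc_13_2 lc_c_Cert_tree lc_c_Cert_tree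 lc_c_rc_14_2 lc_c_rc_22_9 lc_c_rc_26_2 lc_c_rc_23_5 lc_c_rc_13_2 lc_c_rc_7_3 lc_c_rc_24_4 lc_c_rc_24_6 lc_c_rc_2_3 lc_c_Cert_tree lc_c_rc_24_4 lc_c_rc_22_5 lc_c_rc_11_1 lc_c_rc_13_2 lc_c_rc_11_1 lc_c_rc_22_7 lc_c_rc_14_2 lc_c_rc_13_2 lc_c_rc_7_3 lc_c_rc_13_2 lc_c_rc_7_3 lc_c_rc_7_1 lc_c_rc_13_0 lc_c_Cert_tree lc_c_rc_13_2 lc_c_rc_25_9 lc_c_Cert_tree lc_c_rc_11_1 lc_c_rc_26_8 lc_c_rc_7_1 lc_c_rc_7_5 lc_c_rc_7_5 lc_c_rc_7_5 lc_c_rc_11_1 lc_c_rc_2_3 lc_c_rc_11_1 lc_c_rc_14_2 lc_c_rc_23_0 lc_c_rc_11_1 lc_c_Cert_tree lc_c_rc_7_5 lc_c_rc_13_2 lc_c_rc_11_1 lc_c_rc_11_1 lc_c_rc_2_1 lc_c_rc_7_5 lc_c_rc_2_3 lc_c_rc_23_5 lc_c_rc_11_1 lc_c_rc_13_2 lc_c_rc_13_2 lc_c_rc_22_3 lc_c_rc_13_2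 lc_c_rc_26_4 lc_c_rc_13_2 lc_c_rc_11_1 lc_c_rc_25_1 lc_c_rc_13_2 lc_c_rc_26_4) (@D3.rec (fun _ => (Cert rels S Gen.c)) lc_c_rc_11_1 lc_c_rc_13_2 lc_c_rc_22_9 lc_c_Cert_tree lc_c_rc_13_2 lc_c_rc_11_1 lc_c_rc_2_3 lc_c_rc_22_3 lc_c_rc_2_1 lc_c_rc_13_2 lc_c_rc_11_1 lc_c_rc_13_2 lc_c_rc_23_0 lc_c_rc_11_1 lc_c_Cert_tree lc_c_rc_11_1 lc_c_rc_11_1 lc_c_rc_11_1 lc_c_rc_24_2 lc_c_rc_13_2 lc_c_rc_11_1 lc_c_rc_7_3 lc_c_rc_11_1 lc_c_rc_24_2 lc_c_rc_11_1 lc_c_rc_13_2 lc_c_rc_24_2 lc_c_rc_24_8 lc_c_rc_2_3 lc_c_rc_7_3 lc_c_rc_22_3 lc_c_rc_22_3 lc_c_rc_13_2 lc_c_rc_26_2 lc_c_rc_26_2 lc_c_rc_13_2 lc_c_rc_24_6 lc_c_rc_11_1 lc_c_rc_24_6 lc_c_rc_13_2 lc_c_Cert_tree lc_c_rc_13_2 lc_c_rc_23_0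 lc_c_rc_11_1 lc_c_rc_2_1 lc_c_rc_22_3 lc_c_rc_11_1 lc_c_rc_13_2 lc_c_rc_24_4 lc_c_rc_14_2 lc_c_rc_13_2 lc_c_rc_24_4 lc_c_rc_2_3 lc_c_rc_7_3 lc_c_rc_22_3 lc_c_rc_14_2 lc_c_Cert_tree lc_c_rc_7_5 lc_c_rc_11_1 lc_c_rc_26_8 lc_c_rc_11_1 lc_c_rc_25_5) (@D3.rec (fun _ => (Cert rels S Gen.c)) lc_c_rc_26_8 lc_c_rc_25_13 lc_c_rc_7_5 lc_c_rc_13_2 lc_c_rc_26_2 lc_c_rc_14_2 lc_c_rc_26_2 lc_c_rc_14_2 lc_c_rc_26_2 lc_c_rc_11_1 lc_c_rc_26_2 lc_c_rc_13_2 lc_c_rc_11_1 lc_c_rc_26_10 lc_c_rc_23_5 lc_c_rc_11_1 lc_c_rc_7_3 lc_c_rc_13_2 lc_c_rc_11_1 lc_c_rc_13_2 lc_c_rc_11_1 lc_c_rc_11_1 lc_c_rc_13_2 lc_c_rc_14_2 lc_c_rc_24_4 lc_c_rc_24_4 lc_c_rc_12_2 lc_c_rc_14_2 lc_c_rc_13_2 lc_c_rc_11_1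 lc_c_rc_13_2 lc_c_rc_7_3 lc_c_rc_22_3 lc_c_rc_13_2 lc_c_rc_7_3 lc_c_rc_7_3 lc_c_rc_13_2 lc_c_rc_11_1 lc_c_rc_2_3 lc_c_rc_11_1 lc_c_rc_22_9 lc_c_rc_11_1 lc_c_rc_11_1 lc_c_rc_22_9 lc_c_rc_14_2 lc_c_rc_14_2 lc_c_rc_11_1 lc_c_rc_23_5 lc_c_rc_11_1 lc_c_rc_11_1 lc_c_rc_13_2 lc_c_rc_23_5 lc_c_Cert_tree lc_c_rc_7_5 lc_c_rc_7_3 lc_c_rc_13_2 lc_c_rc_14_2 lc_c_rc_13_2 lc_c_rc_26_2 lc_c_rc_23_5 lc_c_rc_13_2 lc_c_rc_22_9) (@D3.rec (fun _ => (Cert rels S Gen.c)) lc_c_rc_24_2 lc_c_rc_22_3 lc_c_rc_11_1 lc_c_rc_11_1 lc_c_rc_23_5 lc_c_rc_13_2 lc_c_rc_11_1 lc_c_Cert_tree lc_c_rc_11_1 lc_c_rc_13_2 lc_c_rc_24_8 lc_c_rc_22_5 lc_c_rc_7_5 lc_c_rc_22_9 lc_c_rc_13_2 lc_c_Cert_tree lc_c_Cert_tree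 lc_c_rc_2_3 lc_c_Cert_tree lc_c_rc_23_5 lc_c_rc_23_0 lc_c_rc_14_0 lc_c_rc_11_1 lc_c_rc_7_3 lc_c_rc_25_5 lc_c_rc_24_6 lc_c_rc_13_2 lc_c_rc_26_4 lc_c_rc_24_4 lc_c_rc_13_2 lc_c_rc_13_2 lc_c_rc_13_2 lc_c_rc_13_2 lc_c_Cert_tree lc_c_rc_14_2 lc_c_rc_13_2 lc_c_rc_2_1 lc_c_rc_14_2 lc_c_rc_7_5 lc_c_rc_24_2 lc_c_rc_22_9 lc_c_Cert_tree lc_c_rc_24_2 lc_c_rc_22_3 lc_c_rc_23_0 lc_c_rc_13_2 lc_c_rc_11_1 lc_c_rc_13_2 lc_c_rc_2_3 lc_c_rc_13_2 lc_c_Cert_tree lc_c_rc_14_2 lc_c_rc_24_8 lc_c_rc_23_0 lc_c_rc_11_1 lc_c_rc_7_3 lc_c_rc_24_8 lc_c_rc_11_1 lc_c_rc_13_2 lc_c_rc_13_2 lc_c_rc_22_9 lc_c_rc_11_1) (@D3.rec (fun _ => (Cert rels S Gen.c)) lc_c_rc_13_2 lc_c_rc_24_2 lc_c_rc_14_2 lc_c_rc_13_2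 lc_c_rc_2_1 lc_c_rc_22_3 lc_c_rc_24_2 lc_c_Cert_tree lc_c_rc_24_4 lc_c_rc_11_1 lc_c_rc_11_1 lc_c_rc_13_2 lc_c_Cert_tree lc_c_rc_11_1 lc_c_Cert_tree lc_c_rc_14_2 lc_c_rc_7_3 lc_c_rc_13_2 lc_c_rc_26_2 lc_c_rc_26_2 lc_c_rc_13_2 lc_c_rc_14_2 lc_c_rc_13_2 lc_c_rc_11_1 lc_c_rc_14_2 lc_c_rc_23_5 lc_c_rc_25_5 lc_c_rc_26_2 lc_c_rc_23_0 lc_c_rc_23_0 lc_c_Cert_tree lc_c_rc_14_2 lc_c_Cert_tree lc_c_rc_23_0 lc_c_rc_13_2 lc_c_rc_11_1 lc_c_rc_13_2 lc_c_rc_26_8 lc_c_rc_11_1 lc_c_rc_11_1 lc_c_rc_11_1 lc_c_rc_11_1 lc_c_rc_2_1 lc_c_rc_26_2 lc_c_rc_13_2 lc_c_rc_11_1 lc_c_rc_13_2 lc_c_rc_24_8 lc_c_rc_14_2 lc_c_Cert_tree lc_c_rc_26_4 lc_c_rc_11_1 lc_c_rc_11_1 lc_c_rc_11_1 lc_c_rc_12_14 lc_c_rc_11_1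 lc_c_rc_13_2 lc_c_rc_11_1 lc_c_rc_11_1 lc_c_rc_26_2 lc_c_rc_22_7 lc_c_rc_13_2) (@D3.rec (fun _ => (Cert rels S Gen.c)) lc_c_rc_11_1 lc_c_rc_7_5 lc_c_Cert_tree lc_c_rc_26_2 lc_c_rc_24_8 lc_c_rc_13_2 lc_c_rc_11_1 lc_c_rc_26_4 lc_c_rc_11_1 lc_c_rc_13_2 lc_c_rc_11_1 lc_c_rc_13_0 lc_c_rc_11_1 lc_c_rc_23_0 lc_c_rc_11_1 lc_c_rc_13_2 lc_c_rc_11_1 lc_c_rc_7_1 lc_c_rc_13_2 lc_c_rc_13_2 lc_c_rc_26_8 lc_c_rc_11_1 lc_c_rc_14_0 lc_c_rc_11_1 lc_c_rc_11_1 lc_c_rc_7_3 lc_c_rc_22_5 lc_c_rc_14_2 lc_c_rc_11_1 lc_c_rc_14_2 lc_c_rc_13_0 lc_c_rc_11_1 lc_c_rc_13_2 lc_c_rc_14_2 lc_c_rc_13_2 lc_c_rc_11_1 lc_c_rc_22_3 lc_c_rc_22_7 lc_c_rc_13_2 lc_c_rc_11_1 lc_c_rc_22_3 lc_c_rc_24_6 lc_c_rc_11_1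 lc_c_rc_13_2 lc_c_rc_7_5 lc_c_rc_13_2 lc_c_rc_11_1 lc_c_rc_7_3 lc_c_rc_26_2 lc_c_rc_26_10 lc_c_Cert_tree lc_c_rc_11_1 lc_c_rc_22_5 lc_c_rc_24_2 lc_c_rc_2_3 lc_c_rc_22_3 lc_c_rc_13_2 lc_c_rc_11_1 lc_c_rc_13_2 lc_c_rc_2_1 lc_c_rc_22_5 lc_c_rc_13_2) (@D3.rec (fun _ => (Cert rels S Gen.c)) lc_c_rc_26_8 lc_c_rc_13_2 lc_c_rc_26_2 lc_c_rc_11_1 lc_c_rc_2_3 lc_c_rc_14_2 lc_c_rc_11_1 lc_c_rc_14_2 lc_c_rc_11_1 lc_c_rc_7_3 lc_c_rc_11_1 lc_c_rc_7_3 lc_c_rc_24_4 lc_c_rc_2_3 lc_c_rc_7_5 lc_c_rc_22_7 lc_c_rc_13_2 lc_c_rc_22_7 lc_c_rc_11_1 lc_c_rc_2_3 lc_c_rc_2_3 lc_c_Cert_tree lc_c_rc_7_5 lc_c_rc_22_7 lc_c_rc_13_0 lc_c_rc_2_3 lc_c_rc_13_2 lc_c_rc_23_5 lc_c_rc_24_2 lc_c_rc_11_1 lc_c_Cert_tree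 lc_c_rc_11_1 lc_c_rc_2_1 lc_c_rc_26_4 lc_c_rc_11_1 lc_c_rc_13_2 lc_c_Cert_tree lc_c_rc_11_1 lc_c_rc_13_2 lc_c_rc_11_1 lc_c_rc_11_1 lc_c_rc_7_3 lc_c_rc_22_3 lc_c_rc_7_3 lc_c_Cert_tree lc_c_rc_7_5 lc_c_rc_2_3 lc_c_rc_11_1 lc_c_rc_2_3 lc_c_rc_11_1 lc_c_rc_11_1 lc_c_rc_7_3 lc_c_rc_24_2 lc_c_Cert_tree lc_c_Cert_tree lc_c_rc_2_3 lc_c_rc_22_3 lc_c_rc_11_1 lc_c_Cert_tree lc_c_rc_2_3 lc_c_Cert_tree lc_c_rc_2_1) (@D3.rec (fun _ => (Cert rels S Gen.c)) lc_c_rc_14_2 lc_c_rc_26_4 lc_c_rc_11_1 lc_c_rc_25_1 lc_c_rc_22_5 lc_c_Cert_tree lc_c_rc_11_1 lc_c_rc_25_1 lc_c_rc_7_3 lc_c_rc_13_2 lc_c_rc_26_4 lc_c_rc_11_1 lc_c_rc_11_1 lc_c_rc_7_3 lc_c_rc_13_2 lc_c_rc_23_5 lc_c_rc_2_3 lc_c_Cert_tree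 lc_c_rc_13_2 lc_c_rc_13_2 lc_c_Cert_tree lc_c_rc_11_1 lc_c_rc_11_1 lc_c_rc_22_3 lc_c_rc_26_4 lc_c_rc_11_1 lc_c_rc_26_10 lc_c_rc_13_2 lc_c_rc_24_2 lc_c_rc_23_5 lc_c_Cert_tree lc_c_rc_11_1 lc_c_rc_11_1 lc_c_rc_11_1 lc_c_rc_22_3 lc_c_rc_13_2 lc_c_rc_11_1 lc_c_rc_13_2 lc_c_rc_7_1 lc_c_rc_22_7 lc_c_rc_13_2 lc_c_rc_7_3 lc_c_rc_13_2 lc_c_rc_11_1 lc_c_rc_11_1 lc_c_rc_2_3 lc_c_Cert_tree lc_c_rc_13_2 lc_c_rc_13_2 lc_c_rc_11_1 lc_c_rc_11_1 lc_c_Cert_tree lc_c_rc_11_1 lc_c_rc_23_5 lc_c_rc_11_1 lc_c_rc_26_2 lc_c_rc_13_2 lc_c_rc_23_0 lc_c_rc_7_3 lc_c_rc_11_1 lc_c_rc_22_9 lc_c_rc_13_2) (@D3.rec (fun _ => (Cert rels S Gen.c)) lc_c_Cert_tree lc_c_rc_13_2 lc_c_rc_14_2 lc_c_rc_11_1 lc_c_rc_11_1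 lc_c_rc_22_3 lc_c_rc_14_2 lc_c_rc_26_4 lc_c_rc_11_1 lc_c_rc_23_0 lc_c_rc_26_10 lc_c_rc_11_1 lc_c_rc_23_5 lc_c_Cert_tree lc_c_rc_11_1 lc_c_rc_23_0 lc_c_rc_11_1 lc_c_rc_2_3 lc_c_rc_24_8 lc_c_rc_11_1 lc_c_rc_26_4 lc_c_rc_24_2 lc_c_rc_13_2 lc_c_rc_26_2 lc_c_rc_13_2 lc_c_rc_14_2 lc_c_rc_26_10 lc_c_rc_23_0 lc_c_Cert_tree lc_c_rc_7_5 lc_c_rc_12_2 lc_c_rc_24_2 lc_c_rc_24_8 lc_c_rc_24_6 lc_c_rc_13_2 lc_c_Cert_tree lc_c_rc_14_2 lc_c_rc_11_1 lc_c_rc_26_10 lc_c_rc_24_8 lc_c_Cert_tree lc_c_rc_14_2 lc_c_rc_11_1 lc_c_rc_7_5 lc_c_rc_7_3 lc_c_rc_23_0 lc_c_rc_13_2 lc_c_rc_13_2 lc_c_rc_11_1 lc_c_rc_26_8 lc_c_rc_11_1 lc_c_rc_2_3 lc_c_rc_26_2 lc_c_rc_24_6 lc_c_rc_24_2 lc_c_rc_22_3 lc_c_rc_11_1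 lc_c_rc_26_10 lc_c_rc_22_7 lc_c_rc_13_0 lc_c_rc_26_2 lc_c_rc_23_5) (@D3.rec (fun _ => (Cert rels S Gen.c)) lc_c_rc_2_3 lc_c_rc_11_1 lc_c_rc_7_3 lc_c_rc_7_3 lc_c_rc_11_1 lc_c_rc_7_3 lc_c_rc_22_5 lc_c_Cert_tree lc_c_Cert_tree lc_c_rc_2_3 lc_c_rc_12_2 lc_c_Cert_tree lc_c_rc_13_0 lc_c_rc_11_1 lc_c_Cert_tree lc_c_rc_11_1 lc_c_rc_7_5 lc_c_rc_13_2 lc_c_rc_22_9 lc_c_rc_25_1 lc_c_Cert_tree lc_c_Cert_tree lc_c_Cert_tree lc_c_rc_11_1 lc_c_rc_2_3 lc_c_rc_24_8 lc_c_rc_26_2 lc_c_rc_14_2 lc_c_rc_24_2 lc_c_rc_26_4 lc_c_rc_13_2 lc_c_Cert_tree lc_c_rc_2_1 lc_c_rc_7_5 lc_c_rc_2_3 lc_c_rc_7_3 lc_c_rc_11_1 lc_c_rc_13_2 lc_c_rc_14_2 lc_c_rc_11_1 lc_c_rc_11_1 lc_c_rc_11_1 lc_c_rc_14_2 lc_c_rc_26_2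 lc_c_rc_11_1 lc_c_rc_24_2 lc_c_rc_2_3 lc_c_rc_7_3 lc_c_rc_24_2 lc_c_rc_11_1 lc_c_rc_11_1 lc_c_rc_11_1 lc_c_rc_7_3 lc_c_rc_7_5 lc_c_rc_23_5 lc_c_rc_11_1 lc_c_rc_24_4 lc_c_rc_11_1 lc_c_rc_13_2 lc_c_rc_26_10 lc_c_Cert_tree lc_c_rc_11_1) (@D3.rec (fun _ => (Cert rels S Gen.c)) lc_c_rc_13_2 lc_c_rc_13_2 lc_c_rc_26_10 lc_c_rc_11_1 lc_c_Cert_tree lc_c_rc_11_1 lc_c_rc_13_2 lc_c_rc_2_3 lc_c_rc_11_1 lc_c_rc_13_2 lc_c_rc_2_3 lc_c_rc_14_2 lc_c_rc_2_1 lc_c_rc_11_1 lc_c_rc_7_5 lc_c_rc_23_5 lc_c_rc_11_1 lc_c_rc_7_1 lc_c_rc_11_1 lc_c_rc_11_1 lc_c_Cert_tree lc_c_rc_23_5 lc_c_Cert_tree lc_c_Cert_tree lc_c_rc_11_1 lc_c_rc_14_2 lc_c_rc_23_0 lc_c_rc_7_3 lc_c_rc_11_1 lc_c_rc_14_2 lc_c_rc_11_1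 lc_c_rc_13_2 lc_c_Cert_tree lc_c_rc_11_1 lc_c_rc_13_2 lc_c_rc_11_1 lc_c_rc_13_2 lc_c_rc_24_6 lc_c_Cert_tree lc_c_rc_7_3 lc_c_Cert_tree lc_c_rc_11_1 lc_c_rc_13_2 lc_c_rc_2_3 lc_c_Cert_tree lc_c_rc_7_3 lc_c_rc_11_1 lc_c_rc_13_2 lc_c_rc_11_1 lc_c_rc_11_1 lc_c_rc_13_2 lc_c_rc_26_4 lc_c_rc_13_2 lc_c_Cert_tree lc_c_Cert_tree lc_c_rc_11_1 lc_c_rc_24_8 lc_c_rc_11_1 lc_c_rc_11_1 lc_c_rc_2_3 lc_c_rc_24_6 lc_c_rc_7_3) (@D3.rec (fun _ => (Cert rels S Gen.c)) lc_c_Cert_tree lc_c_Cert_tree lc_c_Cert_tree lc_c_rc_2_3 lc_c_Cert_tree lc_c_rc_13_2 lc_c_rc_13_2 lc_c_rc_26_10 lc_c_rc_11_1 lc_c_rc_11_1 lc_c_rc_24_2 lc_c_rc_11_1 lc_c_rc_14_0 lc_c_rc_7_5 lc_c_rc_26_10 lc_c_rc_11_1 lc_c_Cert_tree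 lc_c_rc_11_1 lc_c_rc_13_2 lc_c_rc_23_0 lc_c_rc_13_0 lc_c_rc_14_2 lc_c_rc_11_1 lc_c_Cert_tree lc_c_rc_14_2 lc_c_rc_13_2 lc_c_rc_11_1 lc_c_rc_23_5 lc_c_rc_11_1 lc_c_rc_26_10 lc_c_rc_7_3 lc_c_rc_26_8 lc_c_Cert_tree lc_c_rc_2_3 lc_c_Cert_tree lc_c_rc_14_2 lc_c_rc_11_1 lc_c_Cert_tree lc_c_rc_2_3 lc_c_rc_11_1 lc_c_Cert_tree lc_c_rc_13_2 lc_c_Cert_tree lc_c_Cert_tree lc_c_rc_11_1 lc_c_rc_13_2 lc_c_Cert_tree lc_c_rc_14_2 lc_c_rc_13_2 lc_c_rc_24_8 lc_c_Cert_tree lc_c_rc_14_2 lc_c_rc_7_5 lc_c_Cert_tree lc_c_rc_11_1 lc_c_Cert_tree lc_c_rc_24_2 lc_c_Cert_tree lc_c_Cert_tree lc_c_rc_11_1 lc_c_rc_14_2 lc_c_rc_13_2) (@D3.rec (fun _ => (Cert rels S Gen.c)) lc_c_rc_13_2 lc_c_rc_13_2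 lc_c_rc_2_1 lc_c_rc_11_1 lc_c_rc_22_5 lc_c_rc_13_2 lc_c_rc_2_1 lc_c_rc_13_2 lc_c_rc_13_2 lc_c_rc_24_2 lc_c_rc_2_3 lc_c_rc_13_2 lc_c_rc_13_2 lc_c_rc_23_0 lc_c_rc_7_5 lc_c_rc_7_3 lc_c_rc_23_5 lc_c_rc_24_4 lc_c_rc_7_1 lc_c_rc_13_2 lc_c_rc_13_0 lc_c_rc_11_1 lc_c_rc_7_5 lc_c_rc_26_2 lc_c_rc_23_5 lc_c_rc_24_8 lc_c_rc_11_1 lc_c_rc_24_4 lc_c_rc_13_2 lc_c_rc_26_4 lc_c_rc_13_2 lc_c_rc_2_1 lc_c_rc_24_4 lc_c_rc_11_1 lc_c_rc_13_2 lc_c_rc_11_1 lc_c_rc_13_2 lc_c_Cert_tree lc_c_rc_13_0 lc_c_rc_14_2 lc_c_rc_13_2 lc_c_rc_2_3 lc_c_rc_13_0 lc_c_rc_14_2 lc_c_rc_26_10 lc_c_rc_7_3 lc_c_rc_13_2 lc_c_rc_11_1 lc_c_rc_13_2 lc_c_rc_22_7 lc_c_rc_26_8 lc_c_rc_26_2 lc_c_rc_26_10 lc_c_Cert_tree lc_c_rc_14_2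 lc_c_rc_13_2 lc_c_rc_11_1 lc_c_rc_22_3 lc_c_Cert_tree lc_c_rc_13_0 lc_c_Cert_tree lc_c_rc_26_4) (@D3.rec (fun _ => (Cert rels S Gen.c)) lc_c_rc_11_1 lc_c_Cert_tree lc_c_Cert_tree lc_c_rc_11_1 lc_c_Cert_tree lc_c_rc_13_2 lc_c_Cert_tree lc_c_Cert_tree lc_c_rc_11_1 lc_c_rc_13_0 lc_c_rc_11_1 lc_c_Cert_tree lc_c_rc_14_0 lc_c_Cert_tree lc_c_Cert_tree lc_c_rc_11_1 lc_c_rc_14_2 lc_c_rc_7_3 lc_c_Cert_tree lc_c_rc_11_1 lc_c_rc_13_2 lc_c_rc_11_1 lc_c_rc_13_2 lc_c_Cert_tree lc_c_rc_11_1 lc_c_rc_2_1 lc_c_rc_11_1 lc_c_rc_13_2 lc_c_rc_24_6 lc_c_rc_7_3 lc_c_rc_11_1 lc_c_rc_24_4 lc_c_rc_22_7 lc_c_rc_22_5 lc_c_rc_13_2 lc_c_rc_13_2 lc_c_rc_11_1 lc_c_rc_13_2 lc_c_rc_13_2 lc_c_rc_11_1 lc_c_rc_11_1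 lc_c_rc_7_3 lc_c_rc_22_5 lc_c_rc_7_3 lc_c_rc_13_2 lc_c_Cert_tree lc_c_rc_11_1 lc_c_rc_11_1 lc_c_rc_11_1 lc_c_rc_11_1 lc_c_rc_11_1 lc_c_Cert_tree lc_c_rc_11_1 lc_c_rc_13_2 lc_c_rc_2_3 lc_c_Cert_tree lc_c_rc_14_2 lc_c_rc_13_2 lc_c_Cert_tree lc_c_rc_13_0 lc_c_rc_26_10 lc_c_rc_22_7) (@D3.rec (fun _ => (Cert rels S Gen.c)) lc_c_rc_14_2 lc_c_rc_13_2 lc_c_rc_2_3 lc_c_rc_14_2 lc_c_rc_26_4 lc_c_rc_11_1 lc_c_rc_11_1 lc_c_rc_11_1 lc_c_rc_7_5 lc_c_rc_22_3 lc_c_rc_13_2 lc_c_Cert_tree lc_c_Cert_tree lc_c_rc_11_1 lc_c_rc_11_1 lc_c_Cert_tree lc_c_rc_14_2 lc_c_rc_23_0 lc_c_rc_23_0 lc_c_rc_11_1 lc_c_rc_7_5 lc_c_rc_7_3 lc_c_rc_7_5 lc_c_rc_23_0 lc_c_Cert_tree lc_c_rc_7_5 lc_c_rc_11_1 lc_c_rc_7_5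 lc_c_Cert_tree lc_c_Cert_tree lc_c_rc_13_2 lc_c_rc_11_1 lc_c_rc_23_0 lc_c_Cert_tree lc_c_rc_11_1 lc_c_rc_7_3 lc_c_rc_11_1 lc_c_rc_11_1 lc_c_rc_13_2 lc_c_rc_24_4 lc_c_rc_26_10 lc_c_rc_11_1 lc_c_rc_2_3 lc_c_rc_7_5 lc_c_rc_13_0 lc_c_rc_11_1 lc_c_rc_13_2 lc_c_rc_26_2 lc_c_Cert_tree lc_c_rc_13_2 lc_c_rc_22_3 lc_c_rc_26_4 lc_c_rc_13_2 lc_c_rc_14_2 lc_c_rc_24_2 lc_c_rc_24_2 lc_c_rc_11_1 lc_c_rc_24_2 lc_c_rc_24_2 lc_c_rc_11_1 lc_c_rc_13_0 lc_c_rc_24_4) (@D3.rec (fun _ => (Cert rels S Gen.c)) lc_c_rc_26_2 lc_c_rc_11_1 lc_c_rc_23_0 lc_c_rc_13_0 lc_c_rc_7_3 lc_c_rc_22_3 lc_c_rc_13_2 lc_c_rc_7_3 lc_c_rc_22_9 lc_c_rc_13_2 lc_c_rc_11_1 lc_c_rc_23_5 lc_c_Cert_tree lc_c_Cert_tree lc_c_rc_24_6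 lc_c_rc_2_3 lc_c_rc_7_5 lc_c_rc_7_3 lc_c_rc_2_1 lc_c_rc_26_4 lc_c_rc_11_1 lc_c_rc_13_2 lc_c_rc_13_2 lc_c_rc_26_10 lc_c_Cert_tree lc_c_rc_14_2 lc_c_rc_13_2 lc_c_Cert_tree lc_c_rc_13_2 lc_c_rc_11_1 lc_c_Cert_tree lc_c_Cert_tree lc_c_rc_13_2 lc_c_rc_13_2 lc_c_rc_2_3 lc_c_rc_14_2 lc_c_rc_13_2 lc_c_rc_13_2 lc_c_rc_23_0 lc_c_rc_23_0 lc_c_rc_14_2 lc_c_rc_26_4 lc_c_rc_11_1 lc_c_Cert_tree lc_c_rc_13_2 lc_c_rc_26_2 lc_c_rc_11_1 lc_c_Cert_tree lc_c_rc_23_5 lc_c_Cert_tree lc_c_rc_13_2 lc_c_rc_11_1 lc_c_rc_14_2 lc_c_rc_13_2 lc_c_rc_26_4 lc_c_rc_13_2 lc_c_rc_13_2 lc_c_rc_26_10 lc_c_rc_7_3 lc_c_rc_13_2 lc_c_rc_11_1 lc_c_Cert_tree) (@D3.rec (fun _ => (Cert rels S Gen.c)) lc_c_rc_13_2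 lc_c_rc_13_2 lc_c_rc_11_1 lc_c_rc_11_1 lc_c_rc_7_5 lc_c_rc_14_2 lc_c_rc_23_5 lc_c_rc_13_0 lc_c_rc_11_1 lc_c_Cert_tree lc_c_rc_24_4 lc_c_Cert_tree lc_c_rc_13_2 lc_c_rc_2_3 lc_c_rc_11_1 lc_c_rc_13_0 lc_c_rc_14_2 lc_c_rc_13_2 lc_c_rc_13_2 lc_c_rc_2_1 lc_c_Cert_tree lc_c_rc_23_5 lc_c_Cert_tree lc_c_rc_11_1 lc_c_rc_13_2 lc_c_Cert_tree lc_c_rc_13_2 lc_c_rc_24_4 lc_c_rc_2_3 lc_c_rc_13_2 lc_c_Cert_tree lc_c_rc_11_1 lc_c_Cert_tree lc_c_rc_2_1 lc_c_Cert_tree lc_c_rc_14_2 lc_c_rc_11_1 lc_c_rc_14_2 lc_c_rc_13_2 lc_c_rc_11_1 lc_c_rc_26_10 lc_c_Cert_tree lc_c_rc_24_6 lc_c_rc_11_1 lc_c_rc_13_2 lc_c_rc_11_1 lc_c_Cert_tree lc_c_Cert_tree lc_c_rc_14_2 lc_c_Cert_tree lc_c_rc_11_1 lc_c_Cert_tree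 lc_c_rc_26_10 lc_c_rc_24_4 lc_c_rc_11_1 lc_c_Cert_tree lc_c_rc_25_1 lc_c_rc_14_2 lc_c_rc_11_1 lc_c_rc_14_2 lc_c_Cert_tree lc_c_rc_7_1) (@D3.rec (fun _ => (Cert rels S Gen.c)) lc_c_rc_2_1 lc_c_rc_26_2 lc_c_rc_26_8 lc_c_rc_13_2 lc_c_rc_11_1 lc_c_rc_13_2 lc_c_Cert_tree lc_c_rc_11_1 lc_c_rc_7_5 lc_c_rc_24_4 lc_c_rc_11_1 lc_c_rc_11_1 lc_c_rc_24_6 lc_c_rc_24_6 lc_c_rc_7_3 lc_c_Cert_tree lc_c_rc_14_2 lc_c_rc_13_2 lc_c_rc_13_2 lc_c_rc_11_1 lc_c_rc_13_2 lc_c_rc_2_3 lc_c_rc_11_1 lc_c_rc_14_2 lc_c_rc_22_5 lc_c_Cert_tree lc_c_Cert_tree lc_c_rc_23_5 lc_c_rc_23_0 lc_c_rc_24_8 lc_c_rc_11_1 lc_c_rc_22_3 lc_c_rc_22_3 lc_c_rc_23_5 lc_c_rc_23_5 lc_c_rc_11_1 lc_c_rc_2_3 lc_c_rc_11_1 lc_c_rc_26_8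 lc_c_rc_24_6 lc_c_Cert_tree lc_c_Cert_tree lc_c_rc_14_2 lc_c_Cert_tree lc_c_rc_14_2 lc_c_Cert_tree lc_c_Cert_tree lc_c_Cert_tree lc_c_Cert_tree lc_c_rc_11_1 lc_c_rc_14_2 lc_c_rc_11_1 lc_c_Cert_tree lc_c_rc_13_2 lc_c_rc_23_0 lc_c_rc_23_0 lc_c_Cert_tree lc_c_rc_24_8 lc_c_rc_2_1 lc_c_rc_11_1 lc_c_rc_13_2 lc_c_rc_13_0) (@D3.rec (fun _ => (Cert rels S Gen.c)) lc_c_Cert_tree lc_c_rc_13_0 lc_c_Cert_tree lc_c_rc_14_2 lc_c_rc_11_1 lc_c_rc_26_2 lc_c_rc_11_1 lc_c_rc_23_5 lc_c_rc_2_3 lc_c_Cert_tree lc_c_rc_11_1 lc_c_rc_23_0 lc_c_rc_24_4 lc_c_rc_13_0 lc_c_rc_11_1 lc_c_rc_7_3 lc_c_Cert_tree lc_c_rc_14_2 lc_c_rc_11_1 lc_c_Cert_tree lc_c_rc_11_1 lc_c_Cert_tree lc_c_rc_11_1 lc_c_Cert_tree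 lc_c_Cert_tree lc_c_Cert_tree lc_c_rc_11_1 lc_c_Cert_tree lc_c_rc_2_3 lc_c_rc_7_5 lc_c_rc_11_1 lc_c_rc_13_2 lc_c_rc_24_6 lc_c_rc_11_1 lc_c_rc_12_14 lc_c_rc_22_3 lc_c_rc_13_2 lc_c_rc_24_6 lc_c_rc_26_8 lc_c_rc_11_1 lc_c_rc_11_1 lc_c_rc_22_3 lc_c_Cert_tree lc_c_rc_13_2 lc_c_rc_26_10 lc_c_rc_11_1 lc_c_rc_13_2 lc_c_rc_7_1 lc_c_rc_7_3 lc_c_rc_13_2 lc_c_rc_24_2 lc_c_rc_26_2 lc_c_Cert_tree lc_c_rc_14_2 lc_c_rc_11_1 lc_c_rc_11_1 lc_c_rc_13_2 lc_c_rc_24_6 lc_c_rc_24_4 lc_c_rc_26_2 lc_c_rc_13_2 lc_c_rc_24_8) (@D3.rec (fun _ => (Cert rels S Gen.c)) lc_c_Cert_tree lc_c_rc_11_1 lc_c_rc_26_2 lc_c_rc_7_1 lc_c_rc_13_2 lc_c_rc_11_1 lc_c_rc_13_0 lc_c_rc_23_0 lc_c_rc_14_2 lc_c_rc_7_3 lc_c_rc_14_2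 lc_c_rc_13_2 lc_c_rc_7_5 lc_c_Cert_tree lc_c_rc_2_3 lc_c_Cert_tree lc_c_rc_14_2 lc_c_rc_13_2 lc_c_rc_13_2 lc_c_rc_11_1 lc_c_Cert_tree lc_c_rc_11_1 lc_c_Cert_tree lc_c_rc_7_5 lc_c_rc_24_8 lc_c_rc_11_1 lc_c_rc_11_1 lc_c_rc_13_2 lc_c_rc_24_8 lc_c_rc_11_1 lc_c_Cert_tree lc_c_rc_11_1 lc_c_rc_13_2 lc_c_rc_26_2 lc_c_rc_11_1 lc_c_rc_13_2 lc_c_rc_24_8 lc_c_rc_11_1 lc_c_rc_7_3 lc_c_rc_11_1 lc_c_rc_11_1 lc_c_rc_7_3 lc_c_rc_7_1 lc_c_rc_11_1 lc_c_rc_11_1 lc_c_rc_26_8 lc_c_rc_11_1 lc_c_Cert_tree lc_c_rc_22_3 lc_c_rc_22_5 lc_c_rc_24_4 lc_c_rc_26_4 lc_c_Cert_tree lc_c_rc_7_3 lc_c_rc_11_1 lc_c_rc_26_2 lc_c_rc_7_5 lc_c_rc_13_2 lc_c_rc_11_1 lc_c_rc_11_1 lc_c_rc_13_2 lc_c_rc_11_1) (@D3.rec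 (fun _ => (Cert rels S Gen.c)) lc_c_Cert_tree lc_c_rc_7_3 lc_c_rc_13_2 lc_c_Cert_tree lc_c_Cert_tree lc_c_Cert_tree lc_c_rc_13_2 lc_c_rc_11_1 lc_c_rc_11_1 lc_c_rc_7_3 lc_c_rc_22_5 lc_c_rc_7_1 lc_c_rc_13_0 lc_c_rc_11_1 lc_c_rc_23_5 lc_c_rc_7_3 lc_c_rc_11_1 lc_c_rc_13_2 lc_c_rc_7_5 lc_c_rc_7_3 lc_c_rc_22_5 lc_c_rc_11_1 lc_c_rc_24_6 lc_c_rc_7_1 lc_c_rc_22_3 lc_c_rc_13_2 lc_c_rc_7_3 lc_c_rc_12_2 lc_c_rc_7_5 lc_c_rc_11_1 lc_c_rc_7_1 lc_c_Cert_tree lc_c_Cert_tree lc_c_rc_24_6 lc_c_rc_2_3 lc_c_Cert_tree lc_c_rc_14_2 lc_c_rc_22_5 lc_c_rc_11_1 lc_c_rc_13_2 lc_c_rc_7_3 lc_c_rc_23_0 lc_c_Cert_tree lc_c_Cert_tree lc_c_rc_2_1 lc_c_rc_11_1 lc_c_rc_13_2 lc_c_Cert_tree lc_c_rc_11_1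 lc_c_rc_26_2 lc_c_Cert_tree lc_c_rc_26_4 lc_c_rc_13_2 lc_c_Cert_tree lc_c_rc_11_1 lc_c_rc_2_3 lc_c_Cert_tree lc_c_rc_13_2 lc_c_rc_26_10 lc_c_rc_11_1 lc_c_rc_11_1 lc_c_Cert_tree) (@D3.rec (fun _ => (Cert rels S Gen.c)) lc_c_rc_13_2 lc_c_rc_13_2 lc_c_rc_2_3 lc_c_rc_11_1 lc_c_rc_7_5 lc_c_Cert_tree lc_c_rc_2_1 lc_c_rc_11_1 lc_c_rc_25_13 lc_c_rc_11_1 lc_c_rc_13_0 lc_c_Cert_tree lc_c_rc_22_5 lc_c_Cert_tree lc_c_Cert_tree lc_c_rc_11_1 lc_c_rc_13_2 lc_c_rc_13_0 lc_c_rc_13_2 lc_c_Cert_tree lc_c_rc_13_2 lc_c_rc_7_3 lc_c_rc_13_2 lc_c_rc_2_3 lc_c_Cert_tree lc_c_rc_14_2 lc_c_rc_26_10 lc_c_rc_22_7 lc_c_Cert_tree lc_c_rc_11_1 lc_c_Cert_tree lc_c_rc_13_2 lc_c_Cert_tree lc_c_rc_11_1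 lc_c_Cert_tree lc_c_Cert_tree lc_c_rc_11_1 lc_c_rc_24_4 lc_c_rc_2_1 lc_c_Cert_tree lc_c_rc_11_1 lc_c_rc_13_2 lc_c_Cert_tree lc_c_rc_11_1 lc_c_rc_13_2 lc_c_rc_22_7 lc_c_rc_11_1 lc_c_rc_13_2 lc_c_rc_26_2 lc_c_rc_11_1 lc_c_rc_24_6 lc_c_rc_11_1 lc_c_rc_7_3 lc_c_rc_22_9 lc_c_rc_14_2 lc_c_rc_13_2 lc_c_rc_11_1 lc_c_rc_13_2 lc_c_rc_7_1 lc_c_rc_11_1 lc_c_rc_7_3 lc_c_rc_7_5) (@D3.rec (fun _ => (Cert rels S Gen.c)) lc_c_rc_7_1 lc_c_rc_2_3 lc_c_Cert_tree lc_c_rc_11_1 lc_c_rc_13_2 lc_c_rc_26_2 lc_c_rc_11_1 lc_c_rc_7_3 lc_c_rc_12_2 lc_c_rc_7_3 lc_c_rc_22_3 lc_c_rc_24_6 lc_c_Cert_tree lc_c_rc_2_3 lc_c_rc_7_3 lc_c_rc_2_3 lc_c_Cert_tree lc_c_rc_24_6 lc_c_rc_11_1 lc_c_rc_11_1 lc_c_rc_11_1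 lc_c_rc_11_1 lc_c_rc_7_3 lc_c_rc_22_9 lc_c_Cert_tree lc_c_rc_13_0 lc_c_rc_2_1 lc_c_Cert_tree lc_c_Cert_tree lc_c_rc_11_1 lc_c_rc_7_1 lc_c_rc_22_9 lc_c_rc_13_0 lc_c_Cert_tree lc_c_rc_11_1 lc_c_rc_2_3 lc_c_rc_13_2 lc_c_rc_14_2 lc_c_rc_7_3 lc_c_rc_11_1 lc_c_rc_12_0 lc_c_Cert_tree lc_c_Cert_tree lc_c_rc_11_1 lc_c_rc_11_1 lc_c_rc_26_2 lc_c_rc_7_5 lc_c_rc_13_2 lc_c_rc_26_10 lc_c_rc_26_8 lc_c_rc_14_2 lc_c_rc_13_2 lc_c_rc_7_5 lc_c_rc_11_1 lc_c_rc_11_1 lc_c_rc_23_0 lc_c_rc_7_3 lc_c_Cert_tree lc_c_rc_26_8 lc_c_rc_2_3 lc_c_Cert_tree lc_c_rc_13_0) (@D3.rec (fun _ => (Cert rels S Gen.c)) lc_c_rc_11_1 lc_c_Cert_tree lc_c_rc_26_10 lc_c_rc_13_2 lc_c_rc_11_1 lc_c_rc_11_1 lc_c_Cert_tree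 lc_c_rc_11_1 lc_c_rc_24_2 lc_c_rc_11_1 lc_c_rc_7_5 lc_c_rc_24_6 lc_c_rc_11_1 lc_c_rc_7_3 lc_c_rc_22_5 lc_c_rc_14_2 lc_c_rc_11_1 lc_c_rc_26_2 lc_c_rc_12_2 lc_c_rc_7_1 lc_c_rc_11_1 lc_c_rc_11_1 lc_c_rc_7_3 lc_c_rc_25_17 lc_c_rc_23_5 lc_c_rc_13_2 lc_c_rc_7_5 lc_c_rc_22_3 lc_c_rc_11_1 lc_c_rc_2_3 lc_c_rc_26_8 lc_c_rc_14_2 lc_c_rc_12_2 lc_c_rc_22_3 lc_c_rc_11_1 lc_c_rc_23_5 lc_c_rc_22_5 lc_c_rc_22_5 lc_c_Cert_tree lc_c_rc_13_2 lc_c_Cert_tree lc_c_rc_23_0 lc_c_rc_11_1 lc_c_rc_12_14 lc_c_rc_22_9 lc_c_rc_23_0 lc_c_Cert_tree lc_c_Cert_tree lc_c_Cert_tree lc_c_rc_26_4 lc_c_Cert_tree lc_c_rc_13_2 lc_c_rc_2_1 lc_c_rc_2_1 lc_c_rc_26_4 lc_c_rc_11_1 lc_c_rc_23_5 lc_c_rc_13_2 lc_c_rc_14_2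 lc_c_Cert_tree lc_c_rc_11_1 lc_c_rc_23_5) (@D3.rec (fun _ => (Cert rels S Gen.c)) lc_c_rc_7_3 lc_c_rc_24_4 lc_c_rc_7_5 lc_c_rc_11_1 lc_c_rc_26_4 lc_c_rc_26_2 lc_c_rc_11_1 lc_c_rc_26_10 lc_c_rc_26_2 lc_c_rc_26_2 lc_c_rc_13_2 lc_c_rc_11_1 lc_c_rc_13_2 lc_c_Cert_tree lc_c_rc_7_1 lc_c_rc_13_2 lc_c_rc_11_1 lc_c_rc_22_5 lc_c_rc_7_1 lc_c_rc_13_2 lc_c_rc_26_2 lc_c_rc_14_2 lc_c_rc_7_5 lc_c_rc_22_3 lc_c_rc_13_2 lc_c_rc_22_7 lc_c_rc_11_1 lc_c_rc_26_10 lc_c_rc_14_2 lc_c_rc_13_2 lc_c_Cert_tree lc_c_rc_7_5 lc_c_rc_26_10 lc_c_rc_24_8 lc_c_rc_11_1 lc_c_Cert_tree lc_c_rc_13_2 lc_c_rc_14_2 lc_c_rc_13_2 lc_c_rc_23_0 lc_c_rc_7_1 lc_c_rc_2_1 lc_c_rc_2_1 lc_c_Cert_tree lc_c_rc_11_1 lc_c_rc_11_1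 lc_c_rc_26_2 lc_c_rc_26_8 lc_c_rc_13_2 lc_c_rc_24_2 lc_c_rc_13_2 lc_c_rc_13_2 lc_c_rc_11_1 lc_c_rc_13_2 lc_c_rc_26_10 lc_c_rc_7_3 lc_c_rc_22_7 lc_c_rc_14_2 lc_c_rc_13_2 lc_c_rc_26_2 lc_c_rc_7_1 lc_c_rc_13_0) (@D3.rec (fun _ => (Cert rels S Gen.c)) lc_c_rc_26_4 lc_c_Cert_tree lc_c_rc_26_2 lc_c_rc_11_1 lc_c_rc_11_1 lc_c_rc_2_3 lc_c_rc_11_1 lc_c_rc_11_1 lc_c_rc_7_3 lc_c_rc_22_5 lc_c_rc_13_2 lc_c_Cert_tree lc_c_Cert_tree lc_c_rc_23_0 lc_c_rc_14_2 lc_c_rc_13_2 lc_c_rc_7_1 lc_c_rc_22_3 lc_c_rc_13_2 lc_c_Cert_tree lc_c_rc_11_1 lc_c_rc_11_1 lc_c_rc_24_6 lc_c_rc_23_5 lc_c_rc_23_0 lc_c_rc_26_8 lc_c_rc_25_9 lc_c_rc_13_2 lc_c_rc_11_1 lc_c_rc_13_2 lc_c_rc_24_6 lc_c_rc_24_2 lc_c_rc_26_2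 lc_c_rc_26_10 lc_c_rc_13_2 lc_c_rc_22_7 lc_c_rc_26_2 lc_c_rc_11_1 lc_c_rc_7_3 lc_c_rc_23_5 lc_c_rc_23_5 lc_c_rc_11_1 lc_c_rc_13_2 lc_c_rc_13_2 lc_c_rc_26_4 lc_c_rc_23_5 lc_c_rc_13_2 lc_c_rc_23_5 lc_c_rc_22_5 lc_c_rc_23_0 lc_c_rc_7_5 lc_c_rc_13_2 lc_c_rc_22_3 lc_c_rc_13_2 lc_c_rc_24_6 lc_c_rc_12_2 lc_c_rc_11_1 lc_c_rc_13_2 lc_c_rc_22_3 lc_c_rc_13_2 lc_c_rc_23_5 lc_c_rc_2_1) (@D3.rec (fun _ => (Cert rels S Gen.c)) lc_c_rc_11_1 lc_c_rc_13_2 lc_c_rc_11_1 lc_c_rc_26_8 lc_c_rc_11_1 lc_c_rc_7_3 lc_c_rc_24_2 lc_c_rc_13_2 lc_c_Cert_tree lc_c_Cert_tree lc_c_rc_11_1 lc_c_rc_7_1 lc_c_rc_13_2 lc_c_rc_14_2 lc_c_rc_26_4 lc_c_rc_11_1 lc_c_rc_24_4 lc_c_rc_13_2 lc_c_rc_11_1 lc_c_rc_13_2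 lc_c_rc_7_5 lc_c_rc_2_3 lc_c_Cert_tree lc_c_rc_13_2 lc_c_rc_26_4 lc_c_Cert_tree lc_c_Cert_tree lc_c_rc_11_1 lc_c_rc_24_4 lc_c_rc_11_1 lc_c_Cert_tree lc_c_rc_14_2 lc_c_rc_23_5 lc_c_rc_11_1 lc_c_Cert_tree lc_c_rc_11_1 lc_c_rc_23_5 lc_c_rc_24_8 lc_c_rc_26_4 lc_c_rc_13_2 lc_c_rc_7_1 lc_c_rc_24_8 lc_c_rc_26_4 lc_c_rc_7_5 lc_c_Cert_tree lc_c_rc_13_2 lc_c_rc_7_5 lc_c_rc_26_4 lc_c_rc_11_1 lc_c_rc_26_10 lc_c_rc_14_2 lc_c_rc_7_1 lc_c_rc_11_1 lc_c_rc_23_5 lc_c_rc_13_2 lc_c_rc_14_2 lc_c_rc_26_8 lc_c_rc_11_1 lc_c_rc_22_7 lc_c_rc_13_2 lc_c_rc_11_1 lc_c_rc_11_1) (@D3.rec (fun _ => (Cert rels S Gen.c)) lc_c_rc_11_1 lc_c_rc_11_1 lc_c_rc_26_4 lc_c_rc_13_2 lc_c_rc_11_1 lc_c_rc_24_8 lc_c_rc_11_1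 lc_c_rc_14_2 lc_c_Cert_tree lc_c_rc_23_5 lc_c_Cert_tree lc_c_Cert_tree lc_c_rc_24_8 lc_c_rc_11_1 lc_c_rc_26_4 lc_c_rc_11_1 lc_c_rc_13_2 lc_c_rc_22_9 lc_c_rc_11_1 lc_c_rc_11_1 lc_c_rc_23_0 lc_c_Cert_tree lc_c_rc_24_2 lc_c_rc_11_1 lc_c_rc_13_2 lc_c_rc_26_4 lc_c_rc_11_1 lc_c_rc_13_2 lc_c_rc_24_8 lc_c_rc_2_1 lc_c_rc_11_1 lc_c_rc_7_3 lc_c_rc_22_3 lc_c_rc_13_2 lc_c_rc_14_2 lc_c_rc_24_2 lc_c_rc_11_1 lc_c_rc_26_8 lc_c_rc_11_1 lc_c_rc_11_1 lc_c_rc_11_1 lc_c_rc_24_4 lc_c_rc_26_8 lc_c_rc_22_7 lc_c_rc_11_1 lc_c_rc_11_1 lc_c_rc_2_3 lc_c_rc_7_3 lc_c_Cert_tree lc_c_Cert_tree lc_c_Cert_tree lc_c_rc_2_3 lc_c_rc_7_3 lc_c_rc_2_3 lc_c_rc_7_5 lc_c_rc_23_5 lc_c_rc_7_3 lc_c_rc_2_3 lc_c_rc_24_6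 lc_c_rc_7_1 lc_c_rc_22_3 lc_c_Cert_tree) (@D3.rec (fun _ => (Cert rels S Gen.c)) lc_c_rc_24_2 lc_c_rc_11_1 lc_c_rc_23_5 lc_c_rc_13_2 lc_c_Cert_tree lc_c_rc_11_1 lc_c_rc_26_10 lc_c_Cert_tree lc_c_rc_26_10 lc_c_rc_11_1 lc_c_rc_11_1 lc_c_rc_26_8 lc_c_rc_11_1 lc_c_rc_2_1 lc_c_rc_7_5 lc_c_rc_11_1 lc_c_Cert_tree lc_c_rc_13_2 lc_c_rc_11_1 lc_c_rc_26_8 lc_c_rc_11_1 lc_c_rc_24_4 lc_c_Cert_tree lc_c_rc_13_2 lc_c_rc_11_1 lc_c_rc_23_0 lc_c_rc_11_1 lc_c_Cert_tree lc_c_rc_13_2 lc_c_Cert_tree lc_c_rc_26_10 lc_c_rc_11_1 lc_c_rc_11_1 lc_c_rc_13_2 lc_c_Cert_tree lc_c_rc_23_0 lc_c_rc_23_0 lc_c_rc_14_2 lc_c_rc_13_0 lc_c_rc_13_2 lc_c_rc_26_2 lc_c_rc_11_1 lc_c_rc_7_3 lc_c_rc_13_2 lc_c_rc_24_2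 lc_c_rc_23_0 lc_c_rc_14_2 lc_c_rc_11_1 lc_c_rc_11_1 lc_c_rc_2_3 lc_c_Cert_tree lc_c_rc_13_2 lc_c_rc_26_10 lc_c_Cert_tree lc_c_rc_11_1 lc_c_rc_2_3 lc_c_rc_13_2 lc_c_Cert_tree lc_c_rc_11_1 lc_c_rc_24_2 lc_c_rc_11_1 lc_c_rc_7_5) (@D3.rec (fun _ => (Cert rels S Gen.c)) lc_c_rc_11_1 lc_c_rc_13_2 lc_c_Cert_tree lc_c_rc_13_2 lc_c_rc_23_5 lc_c_rc_14_2 lc_c_rc_2_3 lc_c_rc_2_1 lc_c_rc_11_1 lc_c_rc_11_1 lc_c_rc_2_1 lc_c_rc_7_3 lc_c_rc_14_2 lc_c_rc_24_6 lc_c_rc_11_1 lc_c_rc_14_2 lc_c_rc_7_5 lc_c_Cert_tree lc_c_rc_23_0 lc_c_Cert_tree lc_c_rc_11_1 lc_c_rc_14_2 lc_c_rc_7_3 lc_c_rc_13_2 lc_c_rc_2_3 lc_c_rc_13_2 lc_c_rc_2_3 lc_c_rc_11_1 lc_c_rc_7_1 lc_c_Cert_tree lc_c_rc_13_2 lc_c_rc_13_2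 lc_c_rc_23_0 lc_c_rc_23_5 lc_c_Cert_tree lc_c_rc_11_1 lc_c_rc_2_3 lc_c_rc_7_1 lc_c_rc_7_1 lc_c_rc_13_2 lc_c_rc_13_0 lc_c_rc_11_1 lc_c_rc_24_6 lc_c_rc_11_1 lc_c_rc_2_3 lc_c_rc_22_5 lc_c_rc_13_2 lc_c_rc_13_2 lc_c_rc_13_0 lc_c_Cert_tree lc_c_rc_13_2 lc_c_rc_11_1 lc_c_rc_14_2 lc_c_rc_14_2 lc_c_rc_2_1 lc_c_rc_26_4 lc_c_rc_11_1 lc_c_rc_26_2 lc_c_rc_13_2 lc_c_rc_14_2 lc_c_rc_26_4 lc_c_rc_11_1) (@D3.rec (fun _ => (Cert rels S Gen.c)) lc_c_Cert_tree lc_c_rc_13_2 lc_c_Cert_tree lc_c_Cert_tree lc_c_Cert_tree lc_c_rc_11_1 lc_c_rc_26_4 lc_c_rc_24_8 lc_c_rc_24_8 lc_c_rc_14_2 lc_c_rc_7_1 lc_c_rc_11_1 lc_c_rc_2_3 lc_c_rc_13_2 lc_c_rc_13_0 lc_c_rc_26_2 lc_c_rc_13_2 lc_c_Cert_tree lc_c_rc_11_1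 lc_c_rc_2_1 lc_c_rc_22_9 lc_c_Cert_tree lc_c_Cert_tree lc_c_rc_2_3 lc_c_Cert_tree lc_c_rc_13_2 lc_c_rc_13_2 lc_c_rc_11_1 lc_c_rc_23_0 lc_c_rc_11_1 lc_c_rc_11_1 lc_c_rc_11_1 lc_c_Cert_tree lc_c_rc_11_1 lc_c_rc_11_1 lc_c_rc_22_3 lc_c_rc_13_2 lc_c_rc_13_2 lc_c_rc_14_2 lc_c_rc_11_1 lc_c_rc_22_7 lc_c_rc_2_3 lc_c_Cert_tree lc_c_rc_13_2 lc_c_rc_24_4 lc_c_Cert_tree lc_c_rc_26_4 lc_c_rc_11_1 lc_c_rc_25_5 lc_c_rc_7_3 lc_c_rc_2_3 lc_c_rc_11_1 lc_c_rc_23_5 lc_c_rc_13_2 lc_c_rc_22_3 lc_c_rc_13_2 lc_c_rc_25_1 lc_c_rc_2_3 lc_c_rc_11_1 lc_c_rc_13_2 lc_c_Cert_tree lc_c_Cert_tree) (@D3.rec (fun _ => (Cert rels S Gen.c)) lc_c_Cert_tree lc_c_rc_7_3 lc_c_rc_24_6 lc_c_rc_13_2 lc_c_rc_22_5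 lc_c_rc_24_2 lc_c_rc_23_5 lc_c_rc_22_5 lc_c_rc_26_4 lc_c_rc_7_3 lc_c_rc_13_2 lc_c_rc_24_2 lc_c_rc_23_5 lc_c_rc_11_1 lc_c_rc_22_3 lc_c_rc_7_3 lc_c_rc_11_1 lc_c_rc_13_0 lc_c_rc_26_10 lc_c_rc_7_3 lc_c_rc_11_1 lc_c_rc_13_2 lc_c_Cert_tree lc_c_rc_22_3 lc_c_rc_2_3 lc_c_rc_13_2 lc_c_Cert_tree lc_c_rc_14_0 lc_c_Cert_tree lc_c_Cert_tree lc_c_rc_2_3 lc_c_rc_13_2 lc_c_rc_22_3 lc_c_rc_26_4 lc_c_rc_11_1 lc_c_rc_22_9 lc_c_rc_13_2 lc_c_rc_26_8 lc_c_Cert_tree lc_c_rc_2_3 lc_c_rc_24_4 lc_c_rc_24_4 lc_c_rc_11_1 lc_c_rc_26_4 lc_c_rc_24_4 lc_c_rc_11_1 lc_c_rc_22_5 lc_c_rc_26_2 lc_c_rc_23_0 lc_c_rc_14_2 lc_c_rc_25_5 lc_c_rc_7_5 lc_c_Cert_tree lc_c_rc_23_0 lc_c_rc_11_1 lc_c_rc_26_10 lc_c_rc_26_10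 lc_c_rc_23_5 lc_c_rc_7_3 lc_c_rc_2_1 lc_c_rc_2_3 lc_c_rc_13_2) (@D3.rec (fun _ => (Cert rels S Gen.c)) lc_c_rc_22_5 lc_c_rc_26_4 lc_c_rc_11_1 lc_c_rc_13_2 lc_c_rc_7_1 lc_c_rc_11_1 lc_c_rc_11_1 lc_c_rc_13_2 lc_c_rc_22_3 lc_c_rc_11_1 lc_c_rc_11_1 lc_c_rc_24_2 lc_c_rc_26_10 lc_c_rc_26_2 lc_c_rc_7_3 lc_c_Cert_tree lc_c_rc_13_2 lc_c_Cert_tree lc_c_rc_24_6 lc_c_rc_24_4 lc_c_rc_12_2 lc_c_rc_14_2 lc_c_Cert_tree lc_c_rc_7_3 lc_c_Cert_tree lc_c_rc_13_2 lc_c_rc_2_3 lc_c_rc_11_1 lc_c_rc_14_2 lc_c_rc_7_3 lc_c_rc_23_0 lc_c_rc_11_1 lc_c_rc_11_1 lc_c_rc_13_2 lc_c_rc_13_0 lc_c_rc_14_2 lc_c_rc_11_1 lc_c_rc_2_3 lc_c_rc_13_2 lc_c_Cert_tree lc_c_rc_13_2 lc_c_rc_13_2 lc_c_rc_11_1 lc_c_rc_23_5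 lc_c_rc_26_4 lc_c_rc_11_1 lc_c_rc_23_0 lc_c_rc_13_2 lc_c_rc_22_3 lc_c_rc_23_0 lc_c_rc_11_1 lc_c_rc_13_2 lc_c_rc_7_5 lc_c_rc_11_1 lc_c_rc_13_2 lc_c_rc_24_2 lc_c_rc_13_2 lc_c_rc_7_5 lc_c_rc_13_2 lc_c_rc_13_2 lc_c_rc_11_1 lc_c_Cert_tree) (@D3.rec (fun _ => (Cert rels S Gen.c)) lc_c_rc_22_5 lc_c_rc_26_2 lc_c_rc_11_1 lc_c_Cert_tree lc_c_Cert_tree lc_c_rc_7_1 lc_c_Cert_tree lc_c_rc_11_1 lc_c_rc_13_2 lc_c_rc_23_0 lc_c_rc_14_2 lc_c_rc_22_9 lc_c_rc_13_2 lc_c_rc_2_3 lc_c_rc_11_1 lc_c_rc_25_17 lc_c_rc_26_4 lc_c_rc_25_13 lc_c_rc_7_5 lc_c_Cert_tree lc_c_rc_24_2 lc_c_rc_24_8 lc_c_rc_13_2 lc_c_Cert_tree lc_c_rc_26_4 lc_c_rc_24_8 lc_c_rc_11_1 lc_c_rc_7_1 lc_c_rc_14_2 lc_c_rc_25_17 lc_c_rc_13_2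 lc_c_rc_14_2 lc_c_rc_12_4 lc_c_rc_13_2 lc_c_rc_11_1 lc_c_rc_26_2 lc_c_Cert_tree lc_c_rc_2_1 lc_c_rc_26_2 lc_c_Cert_tree lc_c_rc_11_1 lc_c_rc_14_2 lc_c_rc_12_14 lc_c_rc_11_1 lc_c_rc_11_1 lc_c_rc_11_1 lc_c_rc_22_7 lc_c_rc_24_2 lc_c_rc_24_4 lc_c_rc_11_1 lc_c_rc_14_2 lc_c_rc_22_9 lc_c_rc_11_1 lc_c_rc_13_2 lc_c_rc_11_1 lc_c_rc_11_1 lc_c_rc_12_0 lc_c_rc_22_7 lc_c_rc_22_3 lc_c_rc_7_3 lc_c_rc_22_7 lc_c_rc_13_2) (@D3.rec (fun _ => (Cert rels S Gen.c)) lc_c_rc_14_2 lc_c_rc_24_8 lc_c_rc_22_9 lc_c_rc_11_1 lc_c_rc_11_1 lc_c_rc_7_3 lc_c_rc_24_6 lc_c_rc_23_5 lc_c_Cert_tree lc_c_rc_11_1 lc_c_rc_13_2 lc_c_rc_24_8 lc_c_rc_24_8 lc_c_rc_13_2 lc_c_rc_14_2 lc_c_rc_24_6 lc_c_rc_11_1 lc_c_rc_22_5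 lc_c_Cert_tree lc_c_rc_22_3 lc_c_rc_13_2 lc_c_rc_24_2 lc_c_rc_11_1 lc_c_rc_11_1 lc_c_rc_7_5 lc_c_rc_14_2 lc_c_rc_7_5 lc_c_rc_23_5 lc_c_Cert_tree lc_c_rc_11_1 lc_c_rc_13_2 lc_c_rc_13_2 lc_c_rc_14_2 lc_c_rc_11_1 lc_c_rc_11_1 lc_c_rc_22_3 lc_c_rc_24_8 lc_c_rc_24_2 lc_c_rc_11_1 lc_c_rc_23_5 lc_c_rc_23_5 lc_c_rc_13_2 lc_c_rc_11_1 lc_c_rc_13_2 lc_c_rc_11_1 lc_c_rc_13_0 lc_c_rc_26_2 lc_c_rc_7_1 lc_c_rc_25_17 lc_c_rc_13_2 lc_c_rc_11_1 lc_c_Cert_tree lc_c_rc_11_1 lc_c_Cert_tree lc_c_rc_11_1 lc_c_rc_11_1 lc_c_rc_2_3 lc_c_rc_13_2 lc_c_rc_24_2 lc_c_rc_23_0 lc_c_Cert_tree lc_c_rc_23_0) (@D3.rec (fun _ => (Cert rels S Gen.c)) lc_c_Cert_tree lc_c_rc_14_2 lc_c_rc_26_4 lc_c_Cert_tree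 lc_c_rc_13_0 lc_c_rc_13_2 lc_c_Cert_tree lc_c_rc_11_1 lc_c_rc_26_4 lc_c_rc_24_6 lc_c_rc_23_5 lc_c_rc_7_5 lc_c_rc_11_1 lc_c_rc_23_5 lc_c_rc_23_5 lc_c_rc_24_2 lc_c_rc_13_2 lc_c_rc_11_1 lc_c_rc_11_1 lc_c_rc_24_4 lc_c_rc_26_10 lc_c_rc_13_0 lc_c_rc_2_3 lc_c_rc_13_2 lc_c_Cert_tree lc_c_rc_26_8 lc_c_rc_11_1 lc_c_rc_7_1 lc_c_rc_14_2 lc_c_rc_26_10 lc_c_rc_23_0 lc_c_rc_7_3 lc_c_rc_13_2 lc_c_rc_7_1 lc_c_Cert_tree lc_c_rc_11_1 lc_c_rc_13_2 lc_c_rc_7_3 lc_c_rc_11_1 lc_c_rc_13_2 lc_c_rc_7_3 lc_c_rc_24_8 lc_c_Cert_tree lc_c_rc_7_5 lc_c_rc_22_9 lc_c_rc_13_2 lc_c_rc_2_3 lc_c_rc_14_2 lc_c_rc_11_1 lc_c_rc_13_2 lc_c_rc_12_2 lc_c_rc_11_1 lc_c_rc_13_2 lc_c_rc_13_2 lc_c_rc_24_2 lc_c_rc_11_1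 lc_c_rc_22_5 lc_c_Cert_tree lc_c_rc_11_1 lc_c_rc_7_3 lc_c_rc_13_2 lc_c_rc_26_2) (@D3.rec (fun _ => (Cert rels S Gen.c)) lc_c_rc_23_5 lc_c_rc_24_4 lc_c_rc_13_2 lc_c_rc_11_1 lc_c_rc_11_1 lc_c_rc_11_1 lc_c_rc_11_1 lc_c_rc_13_2 lc_c_rc_2_3 lc_c_rc_11_1 lc_c_rc_13_2 lc_c_rc_13_2 lc_c_Cert_tree lc_c_Cert_tree lc_c_rc_14_2 lc_c_rc_2_3 lc_c_rc_14_2 lc_c_rc_22_3 lc_c_rc_13_2 lc_c_Cert_tree lc_c_rc_26_2 lc_c_rc_13_2 lc_c_rc_13_2 lc_c_rc_7_3 lc_c_rc_11_1 lc_c_rc_22_3 lc_c_rc_13_2 lc_c_rc_11_1 lc_c_rc_13_2 lc_c_rc_25_5 lc_c_rc_26_10 lc_c_rc_14_2 lc_c_rc_13_2 lc_c_Cert_tree lc_c_rc_13_2 lc_c_rc_22_3 lc_c_rc_13_2 lc_c_rc_23_0 lc_c_rc_11_1 lc_c_Cert_tree lc_c_rc_13_2 lc_c_rc_26_8 lc_c_rc_11_1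 lc_c_rc_25_5 lc_c_rc_11_1 lc_c_rc_2_3 lc_c_rc_7_3 lc_c_rc_11_1 lc_c_rc_14_2 lc_c_rc_7_1 lc_c_rc_26_10 lc_c_rc_23_5 lc_c_rc_7_3 lc_c_rc_7_3 lc_c_rc_24_8 lc_c_rc_14_2 lc_c_rc_14_2 lc_c_rc_11_1 lc_c_rc_14_2 lc_c_rc_26_4 lc_c_Cert_tree lc_c_rc_26_8) (@D3.rec (fun _ => (Cert rels S Gen.c)) lc_c_Cert_tree lc_c_rc_13_2 lc_c_rc_23_0 lc_c_rc_2_1 lc_c_rc_11_1 lc_c_rc_11_1 lc_c_rc_11_1 lc_c_rc_26_4 lc_c_rc_14_2 lc_c_rc_13_2 lc_c_rc_14_2 lc_c_rc_23_5 lc_c_rc_26_8 lc_c_rc_2_1 lc_c_rc_14_0 lc_c_Cert_tree lc_c_rc_11_1 lc_c_rc_13_2 lc_c_rc_22_3 lc_c_rc_11_1 lc_c_rc_26_8 lc_c_rc_11_1 lc_c_rc_23_0 lc_c_rc_7_3 lc_c_rc_26_4 lc_c_rc_11_1 lc_c_rc_7_5 lc_c_rc_26_8 lc_c_rc_11_1 lc_c_rc_13_2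 lc_c_rc_24_6 lc_c_rc_11_1 lc_c_rc_13_2 lc_c_rc_7_3 lc_c_rc_11_1 lc_c_rc_11_1 lc_c_rc_13_2 lc_c_rc_14_2 lc_c_rc_22_5 lc_c_rc_13_2 lc_c_Cert_tree lc_c_rc_14_2 lc_c_Cert_tree lc_c_rc_13_2 lc_c_rc_7_1 lc_c_Cert_tree lc_c_rc_13_2 lc_c_rc_26_8 lc_c_rc_2_3 lc_c_rc_23_5 lc_c_rc_23_5 lc_c_Cert_tree lc_c_Cert_tree lc_c_rc_11_1 lc_c_rc_13_0 lc_c_rc_13_2 lc_c_rc_11_1 lc_c_rc_13_2 lc_c_rc_23_5 lc_c_rc_11_1 lc_c_rc_7_1 lc_c_rc_7_5) (@D3.rec (fun _ => (Cert rels S Gen.c)) lc_c_rc_7_3 lc_c_rc_22_9 lc_c_rc_24_2 lc_c_rc_24_6 lc_c_rc_7_3 lc_c_rc_11_1 lc_c_rc_13_2 lc_c_rc_13_2 lc_c_rc_11_1 lc_c_Cert_tree lc_c_rc_11_1 lc_c_rc_7_3 lc_c_Cert_tree lc_c_Cert_tree lc_c_rc_11_1 lc_c_rc_26_8 lc_c_rc_13_2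 lc_c_rc_7_5 lc_c_rc_7_5 lc_c_rc_13_2 lc_c_rc_7_3 lc_c_rc_22_3 lc_c_rc_7_3 lc_c_Cert_tree lc_c_Cert_tree lc_c_rc_11_1 lc_c_rc_13_2 lc_c_rc_22_5 lc_c_rc_11_1 lc_c_rc_26_2 lc_c_rc_11_1 lc_c_rc_13_2 lc_c_rc_12_2 lc_c_rc_26_2 lc_c_rc_24_2 lc_c_rc_24_8 lc_c_rc_24_8 lc_c_rc_14_2 lc_c_rc_13_2 lc_c_rc_14_2 lc_c_Cert_tree lc_c_Cert_tree lc_c_rc_11_1 lc_c_rc_7_3 lc_c_rc_13_2 lc_c_rc_24_8 lc_c_rc_11_1 lc_c_rc_14_2 lc_c_Cert_tree lc_c_rc_2_3 lc_c_rc_13_2 lc_c_Cert_tree lc_c_Cert_tree lc_c_rc_2_3 lc_c_Cert_tree lc_c_rc_13_2 lc_c_rc_13_2 lc_c_rc_11_1 lc_c_rc_11_1 lc_c_rc_22_7 lc_c_rc_14_2 lc_c_Cert_tree) (@D3.rec (fun _ => (Cert rels S Gen.c)) lc_c_Cert_tree lc_c_rc_2_3 lc_c_Cert_tree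 lc_c_rc_7_3 lc_c_rc_13_2 lc_c_rc_11_1 lc_c_rc_23_0 lc_c_Cert_tree lc_c_rc_14_2 lc_c_rc_11_1 lc_c_rc_13_2 lc_c_rc_11_1 lc_c_rc_13_2 lc_c_Cert_tree lc_c_rc_11_1 lc_c_rc_11_1 lc_c_Cert_tree lc_c_rc_7_3 lc_c_rc_13_2 lc_c_rc_22_3 lc_c_rc_14_2 lc_c_rc_23_5 lc_c_rc_11_1 lc_c_rc_2_3 lc_c_rc_13_2 lc_c_Cert_tree lc_c_rc_14_2 lc_c_rc_22_3 lc_c_rc_22_3 lc_c_rc_11_1 lc_c_rc_23_5 lc_c_rc_22_7 lc_c_Cert_tree lc_c_rc_11_1 lc_c_rc_14_0 lc_c_rc_2_3 lc_c_rc_11_1 lc_c_rc_26_2 lc_c_rc_2_3 lc_c_Cert_tree lc_c_rc_13_2 lc_c_rc_13_2 lc_c_rc_26_2 lc_c_rc_13_2 lc_c_rc_22_3 lc_c_rc_13_2 lc_c_rc_11_1 lc_c_rc_11_1 lc_c_Cert_tree lc_c_rc_11_1 lc_c_Cert_tree lc_c_rc_13_2 lc_c_rc_7_3 lc_c_rc_13_2 lc_c_rc_26_4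 lc_c_rc_26_2 lc_c_rc_14_2 lc_c_rc_12_14 lc_c_Cert_tree lc_c_rc_2_3 lc_c_rc_26_10 lc_c_Cert_tree) (@D3.rec (fun _ => (Cert rels S Gen.c)) lc_c_Cert_tree lc_c_rc_2_3 lc_c_Cert_tree lc_c_rc_13_2 lc_c_rc_13_2 lc_c_rc_11_1 lc_c_Cert_tree lc_c_rc_14_2 lc_c_rc_11_1 lc_c_Cert_tree lc_c_Cert_tree lc_c_rc_2_3 lc_c_Cert_tree lc_c_rc_13_2 lc_c_rc_13_2 lc_c_rc_11_1 lc_c_rc_7_1 lc_c_rc_22_3 lc_c_rc_14_2 lc_c_rc_11_1 lc_c_rc_13_2 lc_c_rc_11_1 lc_c_rc_7_5 lc_c_rc_11_1 lc_c_rc_26_4 lc_c_rc_13_2 lc_c_rc_13_2 lc_c_rc_7_3 lc_c_rc_14_2 lc_c_Cert_tree lc_c_Cert_tree lc_c_rc_11_1 lc_c_Cert_tree lc_c_rc_13_2 lc_c_rc_13_2 lc_c_Cert_tree lc_c_rc_14_2 lc_c_rc_2_3 lc_c_rc_14_2 lc_c_rc_2_1 lc_c_rc_11_1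 lc_c_rc_25_5 lc_c_rc_13_2 lc_c_rc_26_4 lc_c_rc_11_1 lc_c_rc_11_1 lc_c_rc_26_8 lc_c_rc_13_2 lc_c_rc_11_1 lc_c_rc_13_2 lc_c_rc_13_2 lc_c_rc_11_1 lc_c_rc_13_2 lc_c_rc_13_2 lc_c_rc_24_8 lc_c_rc_23_0 lc_c_rc_23_0 lc_c_rc_13_2 lc_c_rc_23_0 lc_c_rc_24_6 lc_c_Cert_tree lc_c_rc_11_1) (@D3.rec (fun _ => (Cert rels S Gen.c)) lc_c_Cert_tree lc_c_rc_13_2 lc_c_rc_23_5 lc_c_rc_11_1 lc_c_rc_22_9 lc_c_rc_7_1 lc_c_rc_13_2 lc_c_rc_24_8 lc_c_Cert_tree lc_c_rc_11_1 lc_c_rc_13_0 lc_c_Cert_tree lc_c_rc_26_4 lc_c_rc_13_2 lc_c_rc_14_0 lc_c_rc_2_3 lc_c_rc_26_2 lc_c_rc_7_1 lc_c_rc_13_2 lc_c_rc_14_2 lc_c_rc_13_2 lc_c_rc_13_2 lc_c_rc_24_4 lc_c_rc_7_5 lc_c_rc_14_2 lc_c_rc_11_1 lc_c_rc_23_5 lc_c_rc_24_6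 lc_c_rc_2_3 lc_c_Cert_tree lc_c_rc_13_2 lc_c_rc_14_2 lc_c_rc_7_3 lc_c_Cert_tree lc_c_rc_11_1 lc_c_rc_14_0 lc_c_rc_14_2 lc_c_rc_7_1 lc_c_rc_11_1 lc_c_rc_13_2 lc_c_rc_7_1 lc_c_rc_11_1 lc_c_rc_11_1 lc_c_rc_13_2 lc_c_rc_13_2 lc_c_Cert_tree lc_c_rc_26_10 lc_c_rc_2_1 lc_c_rc_26_2 lc_c_rc_7_1 lc_c_rc_2_3 lc_c_rc_13_2 lc_c_Cert_tree lc_c_rc_13_2 lc_c_rc_24_8 lc_c_rc_14_2 lc_c_Cert_tree lc_c_rc_11_1 lc_c_rc_2_3 lc_c_rc_7_1 lc_c_Cert_tree lc_c_rc_12_14) (@D3.rec (fun _ => (Cert rels S Gen.c)) lc_c_rc_14_2 lc_c_Cert_tree lc_c_Cert_tree lc_c_rc_2_1 lc_c_Cert_tree lc_c_rc_13_2 lc_c_rc_13_2 lc_c_rc_11_1 lc_c_rc_11_1 lc_c_rc_24_8 lc_c_rc_14_2 lc_c_rc_11_1 lc_c_Cert_tree lc_c_rc_11_1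 lc_c_rc_11_1 lc_c_rc_26_8 lc_c_rc_13_2 lc_c_rc_13_2 lc_c_Cert_tree lc_c_rc_14_2 lc_c_rc_11_1 lc_c_rc_11_1 lc_c_rc_26_4 lc_c_rc_11_1 lc_c_rc_25_5 lc_c_rc_26_4 lc_c_Cert_tree lc_c_rc_11_1 lc_c_rc_13_0 lc_c_rc_13_2 lc_c_Cert_tree lc_c_rc_13_2 lc_c_rc_11_1 lc_c_Cert_tree lc_c_rc_11_1 lc_c_rc_13_2 lc_c_rc_26_10 lc_c_rc_11_1 lc_c_Cert_tree lc_c_rc_13_0 lc_c_Cert_tree lc_c_rc_13_2 lc_c_rc_23_0 lc_c_rc_24_8 lc_c_rc_14_2 lc_c_rc_14_2 lc_c_rc_7_5 lc_c_Cert_tree lc_c_rc_7_5 lc_c_Cert_tree lc_c_rc_13_2 lc_c_Cert_tree lc_c_Cert_tree lc_c_rc_11_1 lc_c_rc_24_2 lc_c_rc_11_1 lc_c_rc_13_2 lc_c_rc_13_2 lc_c_rc_11_1 lc_c_rc_13_2 lc_c_Cert_tree lc_c_rc_14_2) (@D3.rec (fun _ => (Cert rels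 S Gen.c)) lc_c_rc_26_10 lc_c_rc_11_1 lc_c_rc_2_3 lc_c_rc_13_2 lc_c_rc_22_9 lc_c_rc_11_1 lc_c_rc_2_3 lc_c_rc_7_1 lc_c_rc_13_2 lc_c_Cert_tree lc_c_rc_11_1 lc_c_rc_22_5 lc_c_rc_13_2 lc_c_rc_26_8 lc_c_rc_26_4 lc_c_rc_11_1 lc_c_rc_25_5 lc_c_rc_13_2 lc_c_rc_14_2 lc_c_rc_13_2 lc_c_rc_11_1 lc_c_Cert_tree lc_c_rc_24_4 lc_c_rc_22_3 lc_c_rc_13_0 lc_c_rc_24_2 lc_c_rc_14_2 lc_c_rc_11_1 lc_c_rc_25_9 lc_c_rc_13_2 lc_c_rc_11_1 lc_c_rc_24_4 lc_c_rc_26_10 lc_c_rc_7_3 lc_c_rc_2_3 lc_c_rc_26_2 lc_c_rc_13_2 lc_c_rc_23_5 lc_c_Cert_tree lc_c_rc_11_1 lc_c_rc_2_3 lc_c_rc_26_4 lc_c_rc_11_1 lc_c_rc_7_5 lc_c_Cert_tree lc_c_rc_11_1 lc_c_Cert_tree lc_c_rc_13_0 lc_c_rc_2_1 lc_c_rc_11_1 lc_c_rc_7_1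 lc_c_rc_13_2 lc_c_Cert_tree lc_c_rc_13_2 lc_c_rc_22_5 lc_c_rc_11_1 lc_c_rc_14_2 lc_c_rc_7_3 lc_c_Cert_tree lc_c_rc_14_0 lc_c_rc_2_3 lc_c_rc_2_3) (@D3.rec (fun _ => (Cert rels S Gen.c)) lc_c_Cert_tree lc_c_rc_11_1 lc_c_rc_13_2 lc_c_rc_11_1 lc_c_rc_11_1 lc_c_rc_11_1 lc_c_rc_7_3 lc_c_rc_26_2 lc_c_rc_11_1 lc_c_rc_2_3 lc_c_rc_22_9 lc_c_rc_13_2 lc_c_rc_2_1 lc_c_rc_7_5 lc_c_rc_23_5 lc_c_rc_26_4 lc_c_rc_11_1 lc_c_rc_2_1 lc_c_rc_13_2 lc_c_rc_24_4 lc_c_rc_24_6 lc_c_Cert_tree lc_c_rc_26_2 lc_c_rc_23_0 lc_c_rc_14_2 lc_c_rc_13_2 lc_c_rc_7_5 lc_c_rc_2_3 lc_c_rc_11_1 lc_c_rc_22_3 lc_c_rc_11_1 lc_c_rc_7_5 lc_c_rc_7_3 lc_c_rc_11_1 lc_c_rc_11_1 lc_c_rc_13_2 lc_c_rc_11_1 lc_c_rc_11_1 lc_c_rc_7_3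 lc_c_Cert_tree lc_c_rc_14_2 lc_c_rc_11_1 lc_c_rc_26_8 lc_c_rc_13_2 lc_c_rc_7_1 lc_c_rc_11_1 lc_c_rc_7_5 lc_c_rc_11_1 lc_c_Cert_tree lc_c_rc_13_2 lc_c_rc_11_1 lc_c_rc_23_5 lc_c_rc_13_2 lc_c_Cert_tree lc_c_Cert_tree lc_c_rc_11_1 lc_c_rc_7_3 lc_c_rc_11_1 lc_c_rc_7_1 lc_c_rc_24_6 lc_c_Cert_tree lc_c_rc_14_2) (@D3.rec (fun _ => (Cert rels S Gen.c)) lc_c_rc_11_1 lc_c_rc_14_2 lc_c_rc_26_4 lc_c_rc_7_5 lc_c_rc_13_2 lc_c_rc_23_0 lc_c_rc_23_0 lc_c_rc_11_1 lc_c_rc_23_0 lc_c_rc_11_1 lc_c_rc_23_0 lc_c_rc_7_5 lc_c_rc_2_1 lc_c_rc_13_2 lc_c_rc_13_0 lc_c_rc_23_0 lc_c_Cert_tree lc_c_Cert_tree lc_c_Cert_tree lc_c_rc_11_1 lc_c_rc_2_1 lc_c_rc_13_2 lc_c_rc_24_4 lc_c_rc_13_0 lc_c_rc_2_3 lc_c_rc_23_5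 lc_c_rc_14_2 lc_c_Cert_tree lc_c_rc_24_6 lc_c_rc_7_1 lc_c_rc_13_2 lc_c_rc_7_5 lc_c_rc_13_2 lc_c_rc_24_2 lc_c_rc_13_2 lc_c_rc_11_1 lc_c_rc_24_8 lc_c_rc_13_2 lc_c_rc_12_2 lc_c_rc_11_1 lc_c_rc_23_5 lc_c_rc_7_1 lc_c_rc_22_3 lc_c_rc_11_1 lc_c_rc_12_2 lc_c_rc_11_1 lc_c_rc_22_3 lc_c_rc_11_1 lc_c_rc_22_7 lc_c_rc_13_2 lc_c_rc_7_3 lc_c_rc_26_10 lc_c_Cert_tree lc_c_rc_11_1 lc_c_rc_7_3 lc_c_rc_7_3 lc_c_rc_23_0 lc_c_rc_14_2 lc_c_rc_11_1 lc_c_rc_11_1 lc_c_rc_7_5 lc_c_rc_13_2) (@D3.rec (fun _ => (Cert rels S Gen.c)) lc_c_Cert_tree lc_c_Cert_tree lc_c_Cert_tree lc_c_rc_23_0 lc_c_rc_13_2 lc_c_rc_13_2 lc_c_rc_11_1 lc_c_rc_13_2 lc_c_rc_7_5 lc_c_rc_24_2 lc_c_rc_23_5 lc_c_rc_7_3 lc_c_rc_24_2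 lc_c_rc_13_2 lc_c_rc_11_1 lc_c_rc_23_0 lc_c_rc_22_3 lc_c_rc_26_8 lc_c_rc_13_2 lc_c_rc_24_8 lc_c_rc_11_1 lc_c_rc_7_5 lc_c_rc_13_0 lc_c_rc_24_8 lc_c_rc_7_5 lc_c_rc_26_4 lc_c_rc_26_4 lc_c_rc_11_1 lc_c_rc_2_1 lc_c_rc_13_2 lc_c_rc_12_2 lc_c_rc_13_2 lc_c_rc_7_1 lc_c_rc_24_6 lc_c_rc_13_2 lc_c_rc_24_8 lc_c_rc_11_1 lc_c_rc_11_1 lc_c_rc_24_2 lc_c_rc_13_2 lc_c_rc_11_1 lc_c_rc_26_4 lc_c_rc_23_5 lc_c_rc_11_1 lc_c_rc_24_2 lc_c_rc_26_2 lc_c_rc_23_5 lc_c_rc_11_1 lc_c_rc_26_8 lc_c_rc_11_1 lc_c_rc_12_2 lc_c_rc_11_1 lc_c_rc_11_1 lc_c_rc_14_2 lc_c_rc_25_5 lc_c_Cert_tree lc_c_Cert_tree lc_c_rc_23_5 lc_c_rc_2_3 lc_c_rc_11_1 lc_c_rc_26_10 lc_c_rc_7_5) (@D3.rec (fun _ => (Cert rels S Gen.c))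 lc_c_rc_13_2 lc_c_Cert_tree lc_c_rc_13_2 lc_c_rc_7_5 lc_c_rc_2_3 lc_c_rc_11_1 lc_c_rc_7_1 lc_c_Cert_tree lc_c_rc_23_5 lc_c_rc_14_2 lc_c_rc_11_1 lc_c_Cert_tree lc_c_rc_14_2 lc_c_rc_14_2 lc_c_Cert_tree lc_c_Cert_tree lc_c_Cert_tree lc_c_rc_11_1 lc_c_rc_14_2 lc_c_rc_11_1 lc_c_rc_13_2 lc_c_rc_7_3 lc_c_rc_22_7 lc_c_rc_13_2 lc_c_Cert_tree lc_c_Cert_tree lc_c_rc_14_2 lc_c_Cert_tree lc_c_Cert_tree lc_c_rc_2_3 lc_c_rc_13_2 lc_c_rc_14_2 lc_c_Cert_tree lc_c_rc_2_1 lc_c_Cert_tree lc_c_rc_14_2 lc_c_rc_13_2 lc_c_rc_13_2 lc_c_rc_2_3 lc_c_rc_11_1 lc_c_rc_11_1 lc_c_rc_22_5 lc_c_rc_14_2 lc_c_Cert_tree lc_c_rc_11_1 lc_c_rc_13_2 lc_c_rc_26_4 lc_c_rc_11_1 lc_c_Cert_tree lc_c_rc_13_2 lc_c_rc_11_1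 lc_c_rc_7_3 lc_c_rc_22_3 lc_c_rc_13_2 lc_c_rc_13_2 lc_c_rc_13_0 lc_c_rc_24_6 lc_c_rc_13_2 lc_c_rc_13_2 lc_c_rc_11_1 lc_c_rc_13_2 lc_c_rc_2_1) (@D3.rec (fun _ => (Cert rels S Gen.c)) lc_c_rc_26_2 lc_c_rc_23_0 lc_c_rc_7_5 lc_c_rc_7_5 lc_c_rc_13_2 lc_c_rc_13_2 lc_c_rc_11_1 lc_c_rc_13_2 lc_c_rc_13_2 lc_c_rc_7_3 lc_c_Cert_tree lc_c_rc_13_2 lc_c_rc_11_1 lc_c_rc_13_0 lc_c_rc_14_2 lc_c_rc_24_8 lc_c_rc_2_1 lc_c_rc_14_2 lc_c_rc_23_5 lc_c_rc_7_5 lc_c_rc_14_0 lc_c_rc_7_1 lc_c_rc_24_4 lc_c_rc_13_2 lc_c_rc_24_8 lc_c_rc_24_8 lc_c_rc_14_2 lc_c_Cert_tree lc_c_rc_13_2 lc_c_rc_11_1 lc_c_Cert_tree lc_c_rc_11_1 lc_c_rc_7_5 lc_c_rc_11_1 lc_c_rc_26_10 lc_c_rc_13_2 lc_c_rc_24_2 lc_c_rc_13_2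 lc_c_rc_11_1 lc_c_rc_11_1 lc_c_rc_13_2 lc_c_rc_11_1 lc_c_rc_12_2 lc_c_rc_22_5 lc_c_rc_13_2 lc_c_rc_24_4 lc_c_rc_13_2 lc_c_rc_24_8 lc_c_rc_11_1 lc_c_Cert_tree lc_c_rc_14_2 lc_c_rc_11_1 lc_c_rc_24_4 lc_c_rc_11_1 lc_c_rc_22_5 lc_c_rc_13_2 lc_c_rc_26_4 lc_c_rc_25_1 lc_c_rc_11_1 lc_c_rc_13_2 lc_c_rc_14_2 lc_c_rc_2_3) (@D3.rec (fun _ => (Cert rels S Gen.c)) lc_c_rc_11_1 lc_c_rc_11_1 lc_c_rc_26_2 lc_c_rc_22_9 lc_c_Cert_tree lc_c_rc_11_1 lc_c_rc_23_0 lc_c_rc_26_2 lc_c_rc_11_1 lc_c_rc_13_2 lc_c_rc_13_2 lc_c_rc_14_2 lc_c_rc_22_3 lc_c_rc_13_2 lc_c_rc_11_1 lc_c_rc_23_0 lc_c_rc_26_4 lc_c_rc_11_1 lc_c_rc_23_0 lc_c_rc_11_1 lc_c_rc_11_1 lc_c_rc_26_8 lc_c_rc_11_1 lc_c_rc_13_2 lc_c_rc_7_3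 lc_c_rc_23_0 lc_c_rc_24_4 lc_c_rc_23_0 lc_c_rc_11_1 lc_c_rc_26_4 lc_c_rc_11_1 lc_c_rc_14_0 lc_c_Cert_tree lc_c_rc_26_2 lc_c_rc_14_2 lc_c_rc_26_4 lc_c_rc_11_1 lc_c_rc_2_3 lc_c_Cert_tree lc_c_rc_11_1 lc_c_rc_13_2 lc_c_rc_23_5 lc_c_rc_11_1 lc_c_rc_11_1 lc_c_rc_11_1 lc_c_rc_11_1 lc_c_rc_14_2 lc_c_rc_11_1 lc_c_rc_13_0 lc_c_rc_13_2 lc_c_rc_11_1 lc_c_rc_11_1 lc_c_rc_7_3 lc_c_Cert_tree lc_c_rc_11_1 lc_c_rc_2_3 lc_c_Cert_tree lc_c_rc_13_2 lc_c_Cert_tree lc_c_rc_23_0 lc_c_rc_11_1 lc_c_rc_24_2) (@D3.rec (fun _ => (Cert rels S Gen.c)) lc_c_rc_14_0 lc_c_rc_11_1 lc_c_Cert_tree lc_c_rc_7_3 lc_c_rc_11_1 lc_c_rc_2_1 lc_c_rc_14_2 lc_c_Cert_tree lc_c_rc_2_1 lc_c_rc_24_2 lc_c_rc_24_4 lc_c_rc_11_1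 lc_c_rc_11_1 lc_c_rc_14_2 lc_c_rc_14_2 lc_c_rc_13_0 lc_c_Cert_tree lc_c_Cert_tree lc_c_rc_11_1 lc_c_rc_13_2 lc_c_rc_7_3 lc_c_rc_13_2 lc_c_rc_26_2 lc_c_rc_22_3 lc_c_rc_7_3 lc_c_rc_23_0 lc_c_rc_2_1 lc_c_rc_11_1 lc_c_rc_26_10 lc_c_rc_11_1 lc_c_rc_13_2 lc_c_Cert_tree lc_c_rc_13_0 lc_c_rc_13_2 lc_c_rc_23_0 lc_c_rc_13_2 lc_c_rc_22_9 lc_c_rc_13_0 lc_c_rc_2_3 lc_c_rc_11_1 lc_c_rc_23_0 lc_c_rc_22_7 lc_c_rc_26_8 lc_c_rc_11_1 lc_c_rc_7_3 lc_c_rc_24_4 lc_c_rc_22_3 lc_c_rc_2_3 lc_c_rc_22_5 lc_c_rc_13_2 lc_c_rc_13_2 lc_c_rc_2_3 lc_c_rc_13_2 lc_c_rc_13_2 lc_c_rc_13_2 lc_c_Cert_tree lc_c_rc_14_2 lc_c_rc_13_2 lc_c_rc_11_1 lc_c_rc_12_2 lc_c_rc_14_2 lc_c_rc_11_1) (@D3.rec (fun _ => (Cert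 rels S Gen.c)) lc_c_rc_11_1 lc_c_rc_13_2 lc_c_rc_11_1 lc_c_rc_14_2 lc_c_rc_22_3 lc_c_rc_14_2 lc_c_rc_13_2 lc_c_rc_13_2 lc_c_rc_13_2 lc_c_rc_24_8 lc_c_rc_11_1 lc_c_rc_14_2 lc_c_rc_2_3 lc_c_rc_11_1 lc_c_rc_13_2 lc_c_Cert_tree lc_c_rc_11_1 lc_c_rc_13_2 lc_c_rc_23_0 lc_c_rc_13_0 lc_c_rc_2_1 lc_c_rc_14_2 lc_c_rc_7_3 lc_c_rc_24_6 lc_c_Cert_tree lc_c_rc_11_1 lc_c_rc_26_8 lc_c_rc_26_2 lc_c_rc_13_2 lc_c_rc_13_0 lc_c_rc_26_2 lc_c_rc_7_3 lc_c_rc_23_5 lc_c_rc_13_2 lc_c_Cert_tree lc_c_rc_11_1 lc_c_rc_13_2 lc_c_rc_2_1 lc_c_rc_11_1 lc_c_rc_7_3 lc_c_rc_12_2 lc_c_rc_22_7 lc_c_rc_24_2 lc_c_rc_23_5 lc_c_rc_7_5 lc_c_Cert_tree lc_c_rc_13_2 lc_c_rc_14_0 lc_c_rc_22_3 lc_c_rc_13_2 lc_c_rc_11_1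 lc_c_rc_11_1 lc_c_rc_2_3 lc_c_rc_11_1 lc_c_rc_7_5 lc_c_rc_13_2 lc_c_rc_7_5 lc_c_rc_23_5 lc_c_rc_13_2 lc_c_rc_7_5 lc_c_rc_24_2 lc_c_rc_26_10) (@D3.rec (fun _ => (Cert rels S Gen.c)) lc_c_rc_7_5 lc_c_rc_26_2 lc_c_rc_13_0 lc_c_rc_11_1 lc_c_rc_11_1 lc_c_rc_14_0 lc_c_rc_24_6 lc_c_rc_13_2 lc_c_rc_24_2 lc_c_rc_26_4 lc_c_rc_11_1 lc_c_rc_11_1 lc_c_rc_7_5 lc_c_rc_23_5 lc_c_rc_23_5 lc_c_rc_13_2 lc_c_rc_11_1 lc_c_rc_23_5 lc_c_rc_26_2 lc_c_rc_22_3 lc_c_rc_13_2 lc_c_rc_7_5 lc_c_rc_11_1 lc_c_rc_26_8 lc_c_rc_26_8 lc_c_rc_22_3 lc_c_rc_26_8 lc_c_rc_26_2 lc_c_rc_26_4 lc_c_rc_23_0 lc_c_rc_24_8 lc_c_rc_24_8 lc_c_rc_11_1 lc_c_rc_26_2 lc_c_rc_11_1 lc_c_rc_13_2 lc_c_rc_26_8 lc_c_rc_14_2 lc_c_rc_7_1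 lc_c_rc_13_2 lc_c_rc_23_5 lc_c_rc_13_2 lc_c_rc_26_10 lc_c_rc_7_3 lc_c_rc_7_5 lc_c_rc_14_2 lc_c_rc_11_1 lc_c_rc_23_5 lc_c_rc_22_9 lc_c_rc_11_1 lc_c_rc_11_1 lc_c_Cert_tree lc_c_rc_2_3 lc_c_rc_11_1 lc_c_Cert_tree lc_c_rc_14_2 lc_c_rc_11_1 lc_c_rc_13_2 lc_c_rc_26_10 lc_c_rc_26_8 lc_c_rc_2_1 lc_c_rc_11_1)
def ce_c_18 : D2 → D3 → (Cert rels S Gen.c) := @D2.rec (fun _ => D3 → (Cert rels S Gen.c)) (@D3.rec (fun _ => (Cert rels S Gen.c)) lc_c_rc_24_2 lc_c_rc_7_5 lc_c_rc_14_2 lc_c_rc_2_3 lc_c_rc_13_2 lc_c_rc_7_5 lc_c_rc_11_1 lc_c_rc_13_0 lc_c_rc_11_1 lc_c_rc_23_0 lc_c_rc_14_2 lc_c_rc_7_5 lc_c_rc_13_2 lc_c_rc_26_2 lc_c_rc_26_2 lc_c_rc_14_2 lc_c_rc_13_2 lc_c_rc_13_0 lc_c_rc_11_1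 lc_c_Cert_tree lc_c_rc_26_2 lc_c_rc_11_1 lc_c_rc_11_1 lc_c_rc_26_2 lc_c_rc_14_2 lc_c_rc_23_5 lc_c_rc_23_5 lc_c_rc_11_1 lc_c_rc_12_2 lc_c_rc_13_2 lc_c_rc_14_2 lc_c_Cert_tree lc_c_rc_24_8 lc_c_rc_14_2 lc_c_rc_13_2 lc_c_rc_14_2 lc_c_rc_11_1 lc_c_rc_13_2 lc_c_rc_11_1 lc_c_rc_11_1 lc_c_rc_13_2 lc_c_rc_24_8 lc_c_rc_23_5 lc_c_rc_11_1 lc_c_rc_13_0 lc_c_rc_14_2 lc_c_rc_11_1 lc_c_rc_26_2 lc_c_Cert_tree lc_c_rc_11_1 lc_c_rc_7_3 lc_c_rc_13_2 lc_c_rc_13_0 lc_c_rc_11_1 lc_c_rc_11_1 lc_c_rc_22_3 lc_c_rc_11_1 lc_c_rc_11_1 lc_c_rc_25_5 lc_c_rc_11_1 lc_c_rc_22_7 lc_c_rc_11_1) (@D3.rec (fun _ => (Cert rels S Gen.c)) lc_c_rc_11_1 lc_c_rc_23_5 lc_c_rc_11_1 lc_c_rc_11_1 lc_c_rc_11_1 lc_c_rc_22_9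 lc_c_rc_23_5 lc_c_rc_7_3 lc_c_rc_22_5 lc_c_rc_14_2 lc_c_rc_7_5 lc_c_rc_22_3 lc_c_rc_13_2 lc_c_rc_24_8 lc_c_rc_23_0 lc_c_rc_11_1 lc_c_rc_24_2 lc_c_rc_23_0 lc_c_rc_11_1 lc_c_rc_13_0 lc_c_rc_14_2 lc_c_Cert_tree lc_c_rc_12_2 lc_c_rc_22_3 lc_c_rc_13_2 lc_c_Cert_tree lc_c_rc_11_1 lc_c_rc_13_2 lc_c_rc_22_3 lc_c_rc_13_2 lc_c_rc_22_7 lc_c_rc_24_2 lc_c_rc_24_6 lc_c_rc_2_3 lc_c_rc_11_1 lc_c_rc_2_3 lc_c_rc_11_1 lc_c_rc_26_8 lc_c_rc_13_2 lc_c_rc_13_2 lc_c_rc_26_10 lc_c_rc_11_1 lc_c_rc_7_3 lc_c_rc_26_10 lc_c_rc_11_1 lc_c_rc_26_4 lc_c_rc_13_2 lc_c_rc_11_1 lc_c_rc_12_8 lc_c_rc_13_2 lc_c_Cert_tree lc_c_rc_7_5 lc_c_rc_22_3 lc_c_rc_26_8 lc_c_rc_23_5 lc_c_rc_13_2 lc_c_Cert_tree lc_c_rc_14_2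 lc_c_rc_24_8 lc_c_rc_7_3 lc_c_rc_12_4 lc_c_rc_13_2) (@D3.rec (fun _ => (Cert rels S Gen.c)) lc_c_rc_7_5 lc_c_rc_22_5 lc_c_rc_23_5 lc_c_rc_11_1 lc_c_rc_2_3 lc_c_rc_26_4 lc_c_rc_23_0 lc_c_rc_13_0 lc_c_rc_2_3 lc_c_rc_26_4 lc_c_rc_26_10 lc_c_rc_11_1 lc_c_rc_13_2 lc_c_rc_7_3 lc_c_Cert_tree lc_c_rc_11_1 lc_c_rc_14_0 lc_c_Cert_tree lc_c_rc_13_2 lc_c_rc_24_4 lc_c_rc_22_5 lc_c_rc_13_2 lc_c_rc_26_8 lc_c_rc_11_1 lc_c_rc_22_9 lc_c_rc_26_8 lc_c_rc_11_1 lc_c_rc_22_5 lc_c_rc_13_2 lc_c_Cert_tree lc_c_rc_26_10 lc_c_rc_26_10 lc_c_rc_11_1 lc_c_rc_13_2 lc_c_rc_24_8 lc_c_rc_7_3 lc_c_rc_13_2 lc_c_rc_14_2 lc_c_rc_14_2 lc_c_rc_14_2 lc_c_rc_7_5 lc_c_rc_11_1 lc_c_Cert_tree lc_c_rc_13_2 lc_c_rc_14_2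 lc_c_rc_11_1 lc_c_rc_2_3 lc_c_Cert_tree lc_c_rc_7_5 lc_c_rc_13_2 lc_c_rc_11_1 lc_c_rc_14_2 lc_c_rc_26_4 lc_c_rc_11_1 lc_c_rc_13_2 lc_c_rc_2_3 lc_c_rc_11_1 lc_c_rc_13_2 lc_c_Cert_tree lc_c_rc_13_2 lc_c_rc_24_2 lc_c_Cert_tree) (@D3.rec (fun _ => (Cert rels S Gen.c)) lc_c_rc_11_1 lc_c_rc_2_3 lc_c_rc_11_1 lc_c_rc_13_2 lc_c_rc_13_2 lc_c_rc_26_2 lc_c_rc_14_2 lc_c_rc_25_5 lc_c_rc_26_2 lc_c_rc_13_2 lc_c_rc_26_2 lc_c_rc_7_5 lc_c_rc_2_3 lc_c_rc_11_1 lc_c_rc_7_3 lc_c_rc_24_8 lc_c_rc_24_2 lc_c_rc_14_2 lc_c_rc_7_3 lc_c_rc_7_3 lc_c_rc_7_1 lc_c_rc_7_1 lc_c_rc_2_3 lc_c_Cert_tree lc_c_rc_23_0 lc_c_rc_11_1 lc_c_rc_2_3 lc_c_rc_22_7 lc_c_rc_7_1 lc_c_rc_13_2 lc_c_rc_11_1 lc_c_rc_2_3 lc_c_Cert_tree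 lc_c_rc_7_1 lc_c_rc_13_2 lc_c_rc_11_1 lc_c_rc_11_1 lc_c_rc_12_2 lc_c_rc_14_2 lc_c_rc_11_1 lc_c_rc_14_2 lc_c_Cert_tree lc_c_Cert_tree lc_c_rc_11_1 lc_c_Cert_tree lc_c_rc_13_2 lc_c_rc_13_2 lc_c_rc_22_3 lc_c_rc_2_1 lc_c_Cert_tree lc_c_Cert_tree lc_c_rc_2_3 lc_c_rc_22_7 lc_c_rc_13_2 lc_c_rc_13_2 lc_c_rc_14_2 lc_c_rc_14_2 lc_c_rc_2_1 lc_c_rc_11_1 lc_c_rc_13_2 lc_c_rc_14_2 lc_c_rc_11_1) (@D3.rec (fun _ => (Cert rels S Gen.c)) lc_c_rc_11_1 lc_c_rc_23_0 lc_c_rc_26_2 lc_c_rc_22_3 lc_c_Cert_tree lc_c_Cert_tree lc_c_rc_11_1 lc_c_rc_13_2 lc_c_Cert_tree lc_c_Cert_tree lc_c_rc_24_4 lc_c_rc_24_2 lc_c_rc_24_2 lc_c_rc_14_2 lc_c_Cert_tree lc_c_rc_24_8 lc_c_rc_23_0 lc_c_rc_14_2 lc_c_rc_7_5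 lc_c_rc_14_2 lc_c_Cert_tree lc_c_rc_2_3 lc_c_rc_11_1 lc_c_rc_13_2 lc_c_rc_14_2 lc_c_rc_13_2 lc_c_Cert_tree lc_c_Cert_tree lc_c_rc_2_3 lc_c_rc_13_2 lc_c_rc_14_2 lc_c_Cert_tree lc_c_Cert_tree lc_c_rc_2_3 lc_c_rc_22_5 lc_c_rc_7_3 lc_c_rc_13_2 lc_c_rc_24_6 lc_c_rc_23_0 lc_c_Cert_tree lc_c_rc_14_2 lc_c_rc_26_4 lc_c_rc_11_1 lc_c_rc_11_1 lc_c_rc_23_0 lc_c_rc_11_1 lc_c_rc_2_3 lc_c_rc_7_1 lc_c_rc_13_2 lc_c_rc_13_2 lc_c_Cert_tree lc_c_rc_24_6 lc_c_rc_22_5 lc_c_rc_13_2 lc_c_Cert_tree lc_c_rc_2_3 lc_c_rc_2_1 lc_c_rc_11_1 lc_c_rc_25_1 lc_c_rc_13_2 lc_c_rc_24_4 lc_c_rc_11_1) (@D3.rec (fun _ => (Cert rels S Gen.c)) lc_c_rc_24_4 lc_c_rc_13_2 lc_c_rc_7_5 lc_c_rc_2_3 lc_c_rc_23_5 lc_c_rc_11_1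 lc_c_rc_11_1 lc_c_rc_7_1 lc_c_rc_23_0 lc_c_rc_7_1 lc_c_rc_25_17 lc_c_rc_7_5 lc_c_rc_13_2 lc_c_rc_7_3 lc_c_rc_13_2 lc_c_rc_23_0 lc_c_rc_14_2 lc_c_rc_24_6 lc_c_rc_11_1 lc_c_rc_2_3 lc_c_Cert_tree lc_c_rc_26_4 lc_c_rc_25_5 lc_c_rc_13_2 lc_c_rc_22_9 lc_c_rc_13_2 lc_c_Cert_tree lc_c_Cert_tree lc_c_Cert_tree lc_c_rc_11_1 lc_c_rc_11_1 lc_c_rc_11_1 lc_c_rc_13_2 lc_c_rc_7_3 lc_c_rc_13_2 lc_c_rc_7_3 lc_c_rc_13_2 lc_c_rc_11_1 lc_c_rc_11_1 lc_c_rc_13_0 lc_c_rc_23_0 lc_c_rc_13_2 lc_c_Cert_tree lc_c_Cert_tree lc_c_rc_2_3 lc_c_rc_26_4 lc_c_rc_13_2 lc_c_Cert_tree lc_c_rc_11_1 lc_c_rc_2_3 lc_c_rc_11_1 lc_c_rc_13_2 lc_c_Cert_tree lc_c_rc_11_1 lc_c_rc_13_2 lc_c_rc_22_7 lc_c_rc_7_3 lc_c_rc_11_1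 lc_c_rc_13_2 lc_c_rc_2_1 lc_c_rc_11_1 lc_c_rc_13_2) (@D3.rec (fun _ => (Cert rels S Gen.c)) lc_c_rc_24_4 lc_c_rc_11_1 lc_c_rc_24_4 lc_c_rc_11_1 lc_c_rc_12_14 lc_c_rc_24_6 lc_c_rc_24_6 lc_c_rc_7_5 lc_c_rc_14_2 lc_c_rc_7_5 lc_c_rc_22_9 lc_c_rc_7_3 lc_c_rc_22_3 lc_c_rc_13_2 lc_c_rc_2_3 lc_c_rc_25_5 lc_c_rc_11_1 lc_c_rc_14_2 lc_c_rc_7_3 lc_c_rc_11_1 lc_c_rc_13_2 lc_c_rc_11_1 lc_c_rc_26_4 lc_c_rc_11_1 lc_c_rc_24_6 lc_c_Cert_tree lc_c_rc_22_9 lc_c_rc_24_4 lc_c_rc_11_1 lc_c_rc_13_2 lc_c_rc_7_5 lc_c_rc_22_7 lc_c_rc_14_2 lc_c_rc_7_3 lc_c_rc_22_3 lc_c_rc_11_1 lc_c_rc_22_9 lc_c_rc_7_3 lc_c_rc_22_3 lc_c_rc_13_2 lc_c_rc_13_2 lc_c_rc_23_0 lc_c_rc_26_4 lc_c_rc_11_1 lc_c_Cert_tree lc_c_rc_13_2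 lc_c_rc_26_2 lc_c_rc_11_1 lc_c_rc_23_0 lc_c_rc_11_1 lc_c_Cert_tree lc_c_rc_13_2 lc_c_rc_11_1 lc_c_Cert_tree lc_c_rc_13_2 lc_c_rc_7_3 lc_c_rc_11_1 lc_c_rc_12_2 lc_c_rc_7_3 lc_c_rc_14_2 lc_c_rc_11_1 lc_c_rc_13_2) (@D3.rec (fun _ => (Cert rels S Gen.c)) lc_c_rc_2_1 lc_c_rc_13_2 lc_c_rc_24_6 lc_c_rc_11_1 lc_c_rc_13_2 lc_c_rc_14_2 lc_c_rc_11_1 lc_c_rc_12_2 lc_c_rc_11_1 lc_c_rc_24_2 lc_c_rc_26_4 lc_c_rc_11_1 lc_c_rc_22_9 lc_c_Cert_tree lc_c_rc_11_1 lc_c_rc_25_17 lc_c_rc_13_2 lc_c_rc_22_9 lc_c_rc_26_4 lc_c_rc_25_5 lc_c_rc_11_1 lc_c_rc_11_1 lc_c_rc_13_2 lc_c_Cert_tree lc_c_rc_26_2 lc_c_rc_13_2 lc_c_rc_24_8 lc_c_rc_2_3 lc_c_rc_14_2 lc_c_rc_22_7 lc_c_rc_13_2 lc_c_rc_7_5 lc_c_rc_2_1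 lc_c_rc_13_2 lc_c_rc_11_1 lc_c_rc_13_2 lc_c_rc_26_4 lc_c_rc_13_2 lc_c_rc_22_3 lc_c_rc_11_1 lc_c_rc_23_5 lc_c_rc_14_2 lc_c_rc_14_2 lc_c_rc_13_2 lc_c_Cert_tree lc_c_rc_24_6 lc_c_rc_13_2 lc_c_rc_11_1 lc_c_rc_14_2 lc_c_rc_23_0 lc_c_Cert_tree lc_c_rc_24_4 lc_c_rc_22_3 lc_c_rc_2_1 lc_c_rc_14_0 lc_c_rc_11_1 lc_c_rc_13_2 lc_c_rc_11_1 lc_c_rc_11_1 lc_c_rc_13_2 lc_c_Cert_tree lc_c_rc_7_5) (@D3.rec (fun _ => (Cert rels S Gen.c)) lc_c_rc_7_3 lc_c_rc_13_2 lc_c_rc_14_2 lc_c_rc_2_3 lc_c_rc_14_2 lc_c_rc_7_3 lc_c_rc_11_1 lc_c_rc_11_1 lc_c_rc_14_2 lc_c_rc_22_7 lc_c_rc_11_1 lc_c_rc_22_3 lc_c_rc_24_2 lc_c_rc_23_0 lc_c_rc_23_5 lc_c_rc_11_1 lc_c_rc_13_2 lc_c_rc_11_1 lc_c_rc_23_0 lc_c_rc_2_3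 lc_c_rc_22_3 lc_c_Cert_tree lc_c_Cert_tree lc_c_rc_22_3 lc_c_rc_24_6 lc_c_rc_11_1 lc_c_Cert_tree lc_c_rc_14_2 lc_c_Cert_tree lc_c_rc_11_1 lc_c_Cert_tree lc_c_rc_13_2 lc_c_rc_11_1 lc_c_Cert_tree lc_c_rc_23_0 lc_c_rc_14_2 lc_c_rc_11_1 lc_c_rc_13_2 lc_c_Cert_tree lc_c_rc_7_3 lc_c_Cert_tree lc_c_rc_13_2 lc_c_rc_7_5 lc_c_Cert_tree lc_c_rc_11_1 lc_c_rc_11_1 lc_c_rc_22_3 lc_c_rc_24_2 lc_c_rc_11_1 lc_c_Cert_tree lc_c_rc_13_2 lc_c_rc_11_1 lc_c_rc_11_1 lc_c_rc_24_8 lc_c_rc_26_8 lc_c_rc_14_2 lc_c_rc_13_2 lc_c_rc_11_1 lc_c_rc_23_0 lc_c_rc_24_8 lc_c_rc_14_2 lc_c_rc_11_1) (@D3.rec (fun _ => (Cert rels S Gen.c)) lc_c_rc_13_2 lc_c_rc_11_1 lc_c_rc_7_1 lc_c_rc_23_5 lc_c_rc_7_3 lc_c_rc_2_3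 lc_c_rc_13_2 lc_c_rc_7_3 lc_c_rc_2_3 lc_c_rc_22_3 lc_c_rc_14_2 lc_c_rc_11_1 lc_c_rc_23_5 lc_c_rc_23_5 lc_c_rc_7_1 lc_c_Cert_tree lc_c_rc_14_2 lc_c_rc_7_5 lc_c_rc_13_2 lc_c_Cert_tree lc_c_rc_11_1 lc_c_rc_26_4 lc_c_rc_11_1 lc_c_Cert_tree lc_c_rc_13_2 lc_c_rc_22_5 lc_c_rc_12_2 lc_c_rc_13_2 lc_c_rc_2_1 lc_c_rc_13_2 lc_c_rc_22_3 lc_c_rc_22_5 lc_c_rc_11_1 lc_c_rc_13_2 lc_c_rc_24_6 lc_c_rc_11_1 lc_c_rc_22_7 lc_c_rc_24_2 lc_c_rc_13_0 lc_c_rc_25_17 lc_c_rc_14_2 lc_c_rc_26_2 lc_c_rc_22_7 lc_c_rc_7_3 lc_c_rc_22_3 lc_c_rc_13_2 lc_c_rc_22_7 lc_c_rc_22_3 lc_c_rc_11_1 lc_c_rc_22_9 lc_c_rc_2_3 lc_c_rc_11_1 lc_c_rc_22_3 lc_c_rc_13_2 lc_c_rc_11_1 lc_c_rc_12_4 lc_c_rc_13_2 lc_c_rc_11_1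 lc_c_rc_11_1 lc_c_rc_2_3 lc_c_rc_11_1 lc_c_rc_24_2) (@D3.rec (fun _ => (Cert rels S Gen.c)) lc_c_rc_11_1 lc_c_rc_26_4 lc_c_rc_11_1 lc_c_rc_26_4 lc_c_rc_11_1 lc_c_rc_13_2 lc_c_rc_26_8 lc_c_rc_11_1 lc_c_rc_13_2 lc_c_rc_22_3 lc_c_Cert_tree lc_c_rc_22_3 lc_c_rc_14_2 lc_c_rc_13_0 lc_c_rc_11_1 lc_c_rc_7_1 lc_c_rc_7_3 lc_c_rc_11_1 lc_c_rc_14_2 lc_c_rc_11_1 lc_c_rc_26_2 lc_c_Cert_tree lc_c_rc_26_4 lc_c_rc_26_4 lc_c_rc_7_5 lc_c_rc_2_3 lc_c_Cert_tree lc_c_rc_11_1 lc_c_rc_14_2 lc_c_Cert_tree lc_c_rc_26_4 lc_c_rc_11_1 lc_c_rc_13_2 lc_c_rc_26_8 lc_c_rc_11_1 lc_c_rc_13_2 lc_c_rc_26_10 lc_c_rc_11_1 lc_c_Cert_tree lc_c_rc_11_1 lc_c_rc_24_4 lc_c_rc_2_1 lc_c_rc_24_6 lc_c_rc_26_2 lc_c_rc_13_2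 lc_c_rc_26_10 lc_c_rc_13_0 lc_c_rc_11_1 lc_c_rc_22_3 lc_c_rc_24_6 lc_c_rc_26_4 lc_c_rc_13_2 lc_c_rc_13_0 lc_c_rc_7_3 lc_c_rc_14_2 lc_c_rc_7_5 lc_c_rc_13_2 lc_c_rc_11_1 lc_c_Cert_tree lc_c_rc_11_1 lc_c_Cert_tree lc_c_rc_11_1) (@D3.rec (fun _ => (Cert rels S Gen.c)) lc_c_rc_13_2 lc_c_Cert_tree lc_c_rc_13_2 lc_c_rc_7_3 lc_c_rc_23_5 lc_c_Cert_tree lc_c_Cert_tree lc_c_rc_11_1 lc_c_rc_7_1 lc_c_Cert_tree lc_c_rc_14_2 lc_c_rc_11_1 lc_c_rc_2_3 lc_c_rc_13_2 lc_c_rc_22_3 lc_c_rc_11_1 lc_c_rc_2_3 lc_c_rc_11_1 lc_c_rc_13_2 lc_c_rc_13_2 lc_c_Cert_tree lc_c_rc_26_10 lc_c_rc_11_1 lc_c_rc_2_3 lc_c_Cert_tree lc_c_rc_13_2 lc_c_rc_23_5 lc_c_rc_24_8 lc_c_rc_26_4 lc_c_rc_7_5 lc_c_rc_13_0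 lc_c_rc_11_1 lc_c_rc_13_2 lc_c_rc_11_1 lc_c_rc_7_5 lc_c_Cert_tree lc_c_rc_11_1 lc_c_rc_2_3 lc_c_rc_24_8 lc_c_rc_13_2 lc_c_rc_13_2 lc_c_rc_11_1 lc_c_rc_11_1 lc_c_rc_2_3 lc_c_rc_14_2 lc_c_rc_11_1 lc_c_rc_2_3 lc_c_rc_24_6 lc_c_Cert_tree lc_c_rc_11_1 lc_c_rc_14_2 lc_c_rc_13_2 lc_c_rc_13_2 lc_c_rc_22_3 lc_c_rc_22_3 lc_c_rc_22_9 lc_c_rc_11_1 lc_c_rc_22_5 lc_c_rc_13_2 lc_c_rc_13_2 lc_c_rc_22_3 lc_c_rc_14_2) (@D3.rec (fun _ => (Cert rels S Gen.c)) lc_c_rc_26_4 lc_c_rc_11_1 lc_c_rc_25_9 lc_c_rc_13_2 lc_c_rc_7_5 lc_c_rc_22_3 lc_c_rc_13_2 lc_c_rc_22_3 lc_c_rc_13_2 lc_c_rc_22_9 lc_c_rc_22_3 lc_c_rc_11_1 lc_c_rc_13_2 lc_c_rc_24_6 lc_c_rc_7_3 lc_c_rc_14_2 lc_c_rc_24_8 lc_c_rc_23_0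 lc_c_Cert_tree lc_c_rc_2_3 lc_c_rc_7_5 lc_c_rc_25_13 lc_c_rc_25_17 lc_c_Cert_tree lc_c_rc_11_1 lc_c_rc_24_2 lc_c_rc_11_1 lc_c_rc_23_0 lc_c_rc_24_6 lc_c_rc_11_1 lc_c_rc_26_4 lc_c_rc_11_1 lc_c_rc_23_0 lc_c_rc_11_1 lc_c_rc_13_2 lc_c_rc_13_2 lc_c_rc_11_1 lc_c_rc_26_2 lc_c_rc_11_1 lc_c_rc_14_2 lc_c_rc_13_2 lc_c_rc_26_10 lc_c_rc_26_10 lc_c_rc_11_1 lc_c_rc_13_0 lc_c_rc_22_3 lc_c_rc_13_2 lc_c_rc_24_8 lc_c_rc_14_2 lc_c_rc_11_1 lc_c_rc_7_3 lc_c_rc_11_1 lc_c_rc_11_1 lc_c_rc_11_1 lc_c_rc_13_2 lc_c_Cert_tree lc_c_rc_13_2 lc_c_rc_13_2 lc_c_rc_11_1 lc_c_Cert_tree lc_c_rc_7_5 lc_c_rc_7_1) (@D3.rec (fun _ => (Cert rels S Gen.c)) lc_c_rc_13_2 lc_c_rc_23_0 lc_c_rc_11_1 lc_c_rc_11_1 lc_c_rc_24_4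 lc_c_rc_24_4 lc_c_rc_7_1 lc_c_Cert_tree lc_c_rc_26_4 lc_c_rc_13_2 lc_c_rc_22_7 lc_c_rc_23_5 lc_c_rc_13_2 lc_c_rc_22_3 lc_c_rc_24_2 lc_c_rc_11_1 lc_c_rc_13_2 lc_c_rc_13_0 lc_c_rc_11_1 lc_c_rc_26_2 lc_c_rc_14_2 lc_c_rc_13_2 lc_c_rc_22_9 lc_c_rc_24_4 lc_c_rc_14_2 lc_c_rc_24_8 lc_c_rc_22_7 lc_c_rc_24_4 lc_c_rc_22_3 lc_c_rc_13_2 lc_c_rc_24_2 lc_c_rc_2_3 lc_c_rc_11_1 lc_c_rc_14_2 lc_c_Cert_tree lc_c_rc_7_1 lc_c_rc_11_1 lc_c_rc_13_2 lc_c_rc_11_1 lc_c_rc_11_1 lc_c_rc_23_5 lc_c_rc_7_1 lc_c_Cert_tree lc_c_rc_13_2 lc_c_rc_11_1 lc_c_rc_2_1 lc_c_rc_13_2 lc_c_rc_24_2 lc_c_rc_13_2 lc_c_rc_24_8 lc_c_rc_11_1 lc_c_Cert_tree lc_c_Cert_tree lc_c_Cert_tree lc_c_rc_13_0 lc_c_rc_26_2 lc_c_rc_11_1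 lc_c_rc_26_8 lc_c_rc_11_1 lc_c_Cert_tree lc_c_rc_22_9 lc_c_rc_11_1) (@D3.rec (fun _ => (Cert rels S Gen.c)) lc_c_rc_23_5 lc_c_rc_13_2 lc_c_rc_13_0 lc_c_rc_11_1 lc_c_rc_11_1 lc_c_rc_7_5 lc_c_rc_2_1 lc_c_rc_2_3 lc_c_rc_11_1 lc_c_rc_14_0 lc_c_rc_7_1 lc_c_Cert_tree lc_c_rc_11_1 lc_c_rc_7_1 lc_c_rc_12_2 lc_c_rc_12_0 lc_c_rc_2_3 lc_c_rc_13_2 lc_c_rc_24_4 lc_c_rc_11_1 lc_c_rc_2_3 lc_c_rc_13_0 lc_c_rc_13_2 lc_c_rc_13_2 lc_c_rc_11_1 lc_c_rc_22_3 lc_c_rc_14_2 lc_c_rc_11_1 lc_c_rc_24_4 lc_c_rc_12_2 lc_c_rc_11_1 lc_c_rc_14_0 lc_c_Cert_tree lc_c_rc_26_4 lc_c_rc_7_5 lc_c_rc_13_2 lc_c_rc_12_2 lc_c_rc_13_2 lc_c_rc_25_9 lc_c_Cert_tree lc_c_rc_11_1 lc_c_rc_13_2 lc_c_rc_24_6 lc_c_rc_23_0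 lc_c_rc_22_5 lc_c_rc_22_3 lc_c_rc_11_1 lc_c_rc_22_7 lc_c_rc_13_2 lc_c_rc_11_1 lc_c_rc_11_1 lc_c_rc_22_9 lc_c_rc_14_2 lc_c_rc_7_3 lc_c_rc_13_2 lc_c_rc_22_5 lc_c_rc_22_7 lc_c_rc_22_3 lc_c_rc_11_1 lc_c_rc_22_7 lc_c_rc_13_2 lc_c_rc_11_1) (@D3.rec (fun _ => (Cert rels S Gen.c)) lc_c_rc_11_1 lc_c_rc_24_2 lc_c_rc_13_2 lc_c_rc_11_1 lc_c_rc_22_3 lc_c_rc_11_1 lc_c_rc_2_3 lc_c_rc_11_1 lc_c_rc_13_2 lc_c_Cert_tree lc_c_rc_13_2 lc_c_rc_11_1 lc_c_rc_13_2 lc_c_rc_11_1 lc_c_rc_11_1 lc_c_rc_7_5 lc_c_rc_11_1 lc_c_rc_26_4 lc_c_rc_11_1 lc_c_rc_7_5 lc_c_rc_22_9 lc_c_rc_11_1 lc_c_rc_2_3 lc_c_rc_26_4 lc_c_rc_7_1 lc_c_rc_11_1 lc_c_rc_26_2 lc_c_rc_25_9 lc_c_rc_13_2 lc_c_rc_11_1 lc_c_rc_26_4 lc_c_rc_11_1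 lc_c_rc_26_10 lc_c_rc_22_7 lc_c_rc_13_2 lc_c_rc_22_5 lc_c_rc_13_0 lc_c_rc_13_2 lc_c_rc_24_2 lc_c_rc_13_2 lc_c_rc_23_5 lc_c_rc_11_1 lc_c_rc_11_1 lc_c_rc_11_1 lc_c_rc_26_4 lc_c_rc_7_5 lc_c_rc_13_2 lc_c_Cert_tree lc_c_rc_13_2 lc_c_rc_24_4 lc_c_rc_13_0 lc_c_rc_23_0 lc_c_rc_26_4 lc_c_rc_14_0 lc_c_rc_13_2 lc_c_rc_11_1 lc_c_rc_13_2 lc_c_rc_11_1 lc_c_Cert_tree lc_c_rc_14_2 lc_c_rc_26_4 lc_c_rc_24_2) (@D3.rec (fun _ => (Cert rels S Gen.c)) lc_c_rc_11_1 lc_c_rc_13_2 lc_c_Cert_tree lc_c_Cert_tree lc_c_rc_11_1 lc_c_rc_2_3 lc_c_rc_26_4 lc_c_rc_11_1 lc_c_rc_2_3 lc_c_rc_13_2 lc_c_rc_24_4 lc_c_rc_13_2 lc_c_rc_13_0 lc_c_Cert_tree lc_c_rc_7_5 lc_c_rc_13_2 lc_c_rc_7_1 lc_c_rc_22_3 lc_c_rc_13_2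 lc_c_rc_2_3 lc_c_rc_26_2 lc_c_rc_24_8 lc_c_rc_26_4 lc_c_rc_26_8 lc_c_rc_13_2 lc_c_rc_26_2 lc_c_rc_24_6 lc_c_rc_13_2 lc_c_rc_26_2 lc_c_rc_11_1 lc_c_rc_24_4 lc_c_rc_12_2 lc_c_rc_26_4 lc_c_rc_26_2 lc_c_rc_11_1 lc_c_rc_13_2 lc_c_rc_23_5 lc_c_rc_24_2 lc_c_rc_23_0 lc_c_rc_14_2 lc_c_rc_13_2 lc_c_rc_11_1 lc_c_rc_25_17 lc_c_rc_14_2 lc_c_rc_13_2 lc_c_rc_13_0 lc_c_rc_23_5 lc_c_rc_13_2 lc_c_rc_7_1 lc_c_rc_23_5 lc_c_rc_13_2 lc_c_rc_24_2 lc_c_rc_11_1 lc_c_rc_13_2 lc_c_rc_26_8 lc_c_rc_13_2 lc_c_rc_13_2 lc_c_rc_2_1 lc_c_Cert_tree lc_c_rc_14_2 lc_c_rc_11_1 lc_c_rc_22_9) (@D3.rec (fun _ => (Cert rels S Gen.c)) lc_c_rc_13_2 lc_c_rc_11_1 lc_c_rc_13_0 lc_c_rc_24_4 lc_c_rc_13_2 lc_c_rc_26_4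 lc_c_rc_24_6 lc_c_rc_13_0 lc_c_rc_26_8 lc_c_rc_13_2 lc_c_rc_26_4 lc_c_rc_14_0 lc_c_rc_2_3 lc_c_rc_11_1 lc_c_rc_7_3 lc_c_rc_24_2 lc_c_Cert_tree lc_c_rc_11_1 lc_c_rc_25_13 lc_c_rc_7_5 lc_c_rc_11_1 lc_c_rc_26_4 lc_c_rc_13_2 lc_c_Cert_tree lc_c_rc_13_2 lc_c_Cert_tree lc_c_rc_14_2 lc_c_Cert_tree lc_c_rc_14_2 lc_c_rc_14_2 lc_c_rc_2_3 lc_c_rc_11_1 lc_c_rc_11_1 lc_c_rc_11_1 lc_c_rc_7_1 lc_c_Cert_tree lc_c_rc_11_1 lc_c_rc_7_3 lc_c_rc_11_1 lc_c_rc_13_2 lc_c_rc_23_0 lc_c_rc_26_2 lc_c_rc_7_3 lc_c_Cert_tree lc_c_rc_22_3 lc_c_rc_2_3 lc_c_rc_13_2 lc_c_rc_7_5 lc_c_rc_14_2 lc_c_rc_11_1 lc_c_rc_11_1 lc_c_rc_26_2 lc_c_Cert_tree lc_c_Cert_tree lc_c_rc_2_3 lc_c_Cert_tree lc_c_rc_13_2 lc_c_rc_13_2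 lc_c_rc_11_1 lc_c_rc_11_1 lc_c_rc_14_2 lc_c_rc_11_1) (@D3.rec (fun _ => (Cert rels S Gen.c)) lc_c_rc_11_1 lc_c_rc_11_1 lc_c_rc_26_2 lc_c_rc_2_3 lc_c_rc_26_4 lc_c_rc_13_2 lc_c_rc_13_2 lc_c_rc_11_1 lc_c_Cert_tree lc_c_Cert_tree lc_c_rc_2_3 lc_c_rc_7_3 lc_c_rc_13_2 lc_c_rc_13_2 lc_c_rc_24_8 lc_c_rc_11_1 lc_c_rc_2_3 lc_c_Cert_tree lc_c_rc_11_1 lc_c_rc_7_3 lc_c_rc_13_2 lc_c_rc_11_1 lc_c_rc_13_2 lc_c_rc_2_1 lc_c_rc_26_4 lc_c_rc_26_2 lc_c_Cert_tree lc_c_rc_11_1 lc_c_rc_11_1 lc_c_rc_11_1 lc_c_rc_13_2 lc_c_rc_24_8 lc_c_rc_13_0 lc_c_rc_26_2 lc_c_rc_11_1 lc_c_rc_11_1 lc_c_rc_22_9 lc_c_rc_14_2 lc_c_rc_11_1 lc_c_rc_22_9 lc_c_rc_23_5 lc_c_rc_11_1 lc_c_rc_14_2 lc_c_rc_7_3 lc_c_rc_13_2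 lc_c_rc_11_1 lc_c_rc_13_2 lc_c_rc_14_2 lc_c_Cert_tree lc_c_rc_14_2 lc_c_rc_13_2 lc_c_Cert_tree lc_c_Cert_tree lc_c_rc_14_2 lc_c_rc_11_1 lc_c_rc_13_2 lc_c_rc_26_10 lc_c_rc_2_1 lc_c_rc_14_2 lc_c_rc_11_1 lc_c_rc_13_2 lc_c_rc_23_0) (@D3.rec (fun _ => (Cert rels S Gen.c)) lc_c_rc_24_8 lc_c_rc_11_1 lc_c_rc_26_2 lc_c_rc_11_1 lc_c_rc_13_2 lc_c_rc_11_1 lc_c_rc_13_2 lc_c_rc_7_3 lc_c_rc_22_5 lc_c_rc_13_2 lc_c_rc_2_3 lc_c_rc_7_5 lc_c_rc_14_2 lc_c_rc_13_0 lc_c_rc_7_3 lc_c_rc_24_2 lc_c_rc_13_2 lc_c_rc_11_1 lc_c_rc_11_1 lc_c_Cert_tree lc_c_rc_14_2 lc_c_rc_2_3 lc_c_rc_11_1 lc_c_rc_14_2 lc_c_rc_11_1 lc_c_rc_25_17 lc_c_rc_13_2 lc_c_rc_13_0 lc_c_rc_24_2 lc_c_rc_14_2 lc_c_rc_11_1 lc_c_rc_2_3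 lc_c_rc_13_2 lc_c_rc_11_1 lc_c_rc_23_0 lc_c_Cert_tree lc_c_rc_14_2 lc_c_rc_11_1 lc_c_rc_11_1 lc_c_Cert_tree lc_c_rc_11_1 lc_c_rc_2_3 lc_c_rc_26_2 lc_c_rc_13_2 lc_c_rc_13_2 lc_c_rc_11_1 lc_c_Cert_tree lc_c_Cert_tree lc_c_rc_2_3 lc_c_Cert_tree lc_c_Cert_tree lc_c_rc_24_4 lc_c_rc_7_5 lc_c_rc_13_2 lc_c_rc_2_3 lc_c_rc_13_2 lc_c_rc_7_5 lc_c_rc_13_2 lc_c_rc_13_2 lc_c_Cert_tree lc_c_rc_13_0 lc_c_rc_13_2) (@D3.rec (fun _ => (Cert rels S Gen.c)) lc_c_Cert_tree lc_c_rc_7_1 lc_c_rc_12_2 lc_c_rc_7_5 lc_c_rc_13_0 lc_c_rc_13_2 lc_c_Cert_tree lc_c_Cert_tree lc_c_rc_11_1 lc_c_rc_24_2 lc_c_rc_11_1 lc_c_rc_7_1 lc_c_rc_7_1 lc_c_rc_7_3 lc_c_rc_11_1 lc_c_rc_11_1 lc_c_rc_2_3 lc_c_Cert_tree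 lc_c_rc_13_2 lc_c_rc_13_2 lc_c_rc_11_1 lc_c_Cert_tree lc_c_rc_14_2 lc_c_rc_11_1 lc_c_rc_23_0 lc_c_rc_11_1 lc_c_rc_26_8 lc_c_rc_11_1 lc_c_rc_13_2 lc_c_rc_14_0 lc_c_rc_24_8 lc_c_rc_13_0 lc_c_Cert_tree lc_c_Cert_tree lc_c_rc_11_1 lc_c_rc_11_1 lc_c_rc_2_3 lc_c_rc_26_4 lc_c_rc_11_1 lc_c_rc_13_2 lc_c_rc_13_2 lc_c_rc_7_5 lc_c_rc_14_2 lc_c_rc_7_5 lc_c_rc_13_0 lc_c_rc_22_5 lc_c_rc_13_2 lc_c_rc_14_0 lc_c_Cert_tree lc_c_Cert_tree lc_c_rc_2_3 lc_c_rc_13_0 lc_c_rc_26_4 lc_c_rc_11_1 lc_c_Cert_tree lc_c_rc_11_1 lc_c_Cert_tree lc_c_rc_23_0 lc_c_rc_7_1 lc_c_Cert_tree lc_c_rc_14_0 lc_c_rc_2_3) (@D3.rec (fun _ => (Cert rels S Gen.c)) lc_c_rc_7_1 lc_c_rc_13_2 lc_c_rc_13_2 lc_c_rc_11_1 lc_c_rc_14_0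 lc_c_rc_26_2 lc_c_rc_25_17 lc_c_rc_11_1 lc_c_rc_13_2 lc_c_rc_12_10 lc_c_rc_13_2 lc_c_rc_13_0 lc_c_rc_7_5 lc_c_rc_13_2 lc_c_rc_22_5 lc_c_rc_22_5 lc_c_rc_11_1 lc_c_rc_13_2 lc_c_rc_26_2 lc_c_rc_23_0 lc_c_Cert_tree lc_c_rc_14_2 lc_c_rc_26_4 lc_c_rc_11_1 lc_c_Cert_tree lc_c_rc_11_1 lc_c_Cert_tree lc_c_rc_11_1 lc_c_rc_11_1 lc_c_rc_13_2 lc_c_rc_22_5 lc_c_rc_7_3 lc_c_rc_26_4 lc_c_rc_11_1 lc_c_rc_13_2 lc_c_rc_7_1 lc_c_rc_23_0 lc_c_rc_24_2 lc_c_rc_23_0 lc_c_rc_23_5 lc_c_rc_11_1 lc_c_rc_14_2 lc_c_rc_13_2 lc_c_rc_13_2 lc_c_rc_13_0 lc_c_Cert_tree lc_c_rc_11_1 lc_c_rc_26_10 lc_c_rc_11_1 lc_c_rc_2_3 lc_c_rc_13_2 lc_c_rc_11_1 lc_c_rc_11_1 lc_c_rc_13_2 lc_c_rc_11_1 lc_c_rc_2_1 lc_c_rc_25_1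 lc_c_rc_23_0 lc_c_rc_14_2 lc_c_rc_24_6 lc_c_Cert_tree lc_c_rc_24_2) (@D3.rec (fun _ => (Cert rels S Gen.c)) lc_c_rc_11_1 lc_c_rc_24_2 lc_c_rc_23_5 lc_c_rc_23_0 lc_c_rc_11_1 lc_c_rc_14_2 lc_c_rc_11_1 lc_c_Cert_tree lc_c_rc_24_2 lc_c_rc_11_1 lc_c_rc_11_1 lc_c_rc_24_6 lc_c_rc_7_3 lc_c_rc_11_1 lc_c_rc_13_2 lc_c_rc_11_1 lc_c_rc_26_4 lc_c_rc_11_1 lc_c_rc_11_1 lc_c_rc_13_2 lc_c_rc_26_4 lc_c_rc_11_1 lc_c_rc_23_5 lc_c_rc_11_1 lc_c_rc_11_1 lc_c_rc_11_1 lc_c_rc_11_1 lc_c_rc_11_1 lc_c_rc_2_3 lc_c_rc_11_1 lc_c_rc_14_0 lc_c_rc_2_3 lc_c_rc_11_1 lc_c_rc_26_4 lc_c_rc_7_1 lc_c_rc_13_2 lc_c_rc_2_3 lc_c_rc_14_2 lc_c_rc_7_3 lc_c_rc_13_2 lc_c_Cert_tree lc_c_rc_14_0 lc_c_rc_11_1 lc_c_rc_13_2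 lc_c_rc_11_1 lc_c_rc_13_2 lc_c_rc_2_1 lc_c_rc_13_2 lc_c_rc_13_2 lc_c_rc_13_0 lc_c_rc_26_2 lc_c_rc_7_3 lc_c_rc_13_2 lc_c_Cert_tree lc_c_rc_23_0 lc_c_rc_14_2 lc_c_rc_7_3 lc_c_rc_13_2 lc_c_Cert_tree lc_c_rc_14_2 lc_c_Cert_tree lc_c_rc_13_2) (@D3.rec (fun _ => (Cert rels S Gen.c)) lc_c_rc_2_3 lc_c_rc_13_2 lc_c_rc_11_1 lc_c_rc_23_5 lc_c_rc_13_2 lc_c_rc_14_2 lc_c_rc_13_2 lc_c_rc_22_5 lc_c_rc_11_1 lc_c_rc_13_2 lc_c_rc_11_1 lc_c_rc_24_2 lc_c_rc_14_2 lc_c_rc_13_2 lc_c_rc_11_1 lc_c_rc_11_1 lc_c_rc_11_1 lc_c_rc_11_1 lc_c_Cert_tree lc_c_rc_26_2 lc_c_rc_13_0 lc_c_rc_11_1 lc_c_rc_11_1 lc_c_rc_22_3 lc_c_rc_11_1 lc_c_rc_11_1 lc_c_rc_13_0 lc_c_rc_7_5 lc_c_rc_11_1 lc_c_rc_13_0 lc_c_rc_2_3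 lc_c_rc_13_2 lc_c_rc_14_2 lc_c_rc_26_2 lc_c_rc_11_1 lc_c_rc_22_5 lc_c_rc_26_10 lc_c_rc_11_1 lc_c_rc_24_6 lc_c_rc_11_1 lc_c_rc_2_1 lc_c_rc_22_9 lc_c_rc_11_1 lc_c_rc_13_2 lc_c_rc_11_1 lc_c_rc_2_1 lc_c_rc_11_1 lc_c_rc_13_2 lc_c_rc_24_6 lc_c_rc_24_6 lc_c_rc_7_3 lc_c_rc_11_1 lc_c_rc_13_2 lc_c_rc_13_2 lc_c_rc_24_8 lc_c_rc_13_2 lc_c_rc_2_3 lc_c_rc_11_1 lc_c_rc_24_2 lc_c_rc_26_10 lc_c_rc_13_0 lc_c_rc_11_1) (@D3.rec (fun _ => (Cert rels S Gen.c)) lc_c_rc_14_2 lc_c_rc_14_2 lc_c_rc_13_2 lc_c_rc_26_4 lc_c_rc_2_1 lc_c_rc_11_1 lc_c_rc_7_3 lc_c_rc_26_2 lc_c_rc_13_2 lc_c_rc_13_0 lc_c_rc_13_2 lc_c_rc_13_2 lc_c_rc_14_2 lc_c_rc_13_2 lc_c_rc_7_5 lc_c_rc_22_3 lc_c_rc_13_2 lc_c_rc_26_10 lc_c_rc_11_1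 lc_c_rc_14_0 lc_c_rc_13_0 lc_c_rc_11_1 lc_c_Cert_tree lc_c_rc_14_2 lc_c_rc_13_2 lc_c_rc_11_1 lc_c_rc_11_1 lc_c_rc_14_2 lc_c_rc_11_1 lc_c_rc_24_4 lc_c_rc_22_5 lc_c_rc_11_1 lc_c_rc_7_5 lc_c_rc_26_2 lc_c_rc_13_2 lc_c_rc_26_2 lc_c_rc_13_0 lc_c_rc_11_1 lc_c_rc_14_0 lc_c_rc_22_5 lc_c_rc_13_2 lc_c_rc_13_2 lc_c_rc_22_5 lc_c_rc_13_2 lc_c_rc_22_7 lc_c_rc_11_1 lc_c_rc_11_1 lc_c_rc_26_8 lc_c_rc_13_0 lc_c_rc_13_0 lc_c_rc_13_2 lc_c_rc_13_2 lc_c_rc_13_2 lc_c_rc_7_1 lc_c_rc_22_9 lc_c_rc_13_2 lc_c_rc_7_5 lc_c_rc_24_2 lc_c_rc_13_2 lc_c_rc_26_10 lc_c_rc_26_2 lc_c_rc_23_5) (@D3.rec (fun _ => (Cert rels S Gen.c)) lc_c_rc_13_2 lc_c_rc_24_2 lc_c_rc_11_1 lc_c_rc_23_0 lc_c_rc_22_5 lc_c_rc_14_2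 lc_c_rc_11_1 lc_c_rc_23_5 lc_c_rc_11_1 lc_c_rc_11_1 lc_c_Cert_tree lc_c_rc_13_2 lc_c_rc_22_5 lc_c_rc_13_2 lc_c_rc_24_8 lc_c_rc_13_0 lc_c_rc_24_8 lc_c_Cert_tree lc_c_rc_2_3 lc_c_rc_11_1 lc_c_rc_13_2 lc_c_rc_13_2 lc_c_rc_26_2 lc_c_rc_22_7 lc_c_rc_11_1 lc_c_rc_22_7 lc_c_Cert_tree lc_c_rc_13_0 lc_c_rc_13_2 lc_c_rc_7_5 lc_c_rc_14_0 lc_c_rc_13_2 lc_c_rc_11_1 lc_c_rc_11_1 lc_c_rc_23_0 lc_c_rc_11_1 lc_c_rc_13_2 lc_c_rc_11_1 lc_c_rc_12_2 lc_c_rc_13_2 lc_c_rc_14_2 lc_c_rc_13_2 lc_c_rc_13_2 lc_c_rc_23_0 lc_c_rc_24_6 lc_c_rc_11_1 lc_c_rc_26_10 lc_c_rc_13_0 lc_c_Cert_tree lc_c_rc_25_9 lc_c_rc_26_10 lc_c_rc_22_5 lc_c_rc_11_1 lc_c_rc_11_1 lc_c_rc_14_2 lc_c_rc_26_2 lc_c_rc_11_1 lc_c_rc_24_4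 lc_c_Cert_tree lc_c_rc_11_1 lc_c_rc_23_0 lc_c_rc_13_2) (@D3.rec (fun _ => (Cert rels S Gen.c)) lc_c_rc_2_3 lc_c_rc_11_1 lc_c_rc_23_5 lc_c_rc_24_2 lc_c_rc_11_1 lc_c_rc_7_5 lc_c_rc_13_2 lc_c_rc_14_0 lc_c_rc_26_4 lc_c_rc_13_0 lc_c_rc_13_2 lc_c_rc_24_6 lc_c_rc_13_2 lc_c_rc_24_8 lc_c_rc_26_4 lc_c_rc_11_1 lc_c_rc_11_1 lc_c_rc_13_2 lc_c_rc_23_5 lc_c_rc_2_3 lc_c_rc_13_2 lc_c_Cert_tree lc_c_rc_14_2 lc_c_rc_13_2 lc_c_rc_26_4 lc_c_Cert_tree lc_c_rc_11_1 lc_c_rc_13_2 lc_c_rc_24_4 lc_c_Cert_tree lc_c_rc_2_3 lc_c_rc_14_0 lc_c_rc_7_3 lc_c_rc_13_2 lc_c_rc_23_0 lc_c_rc_11_1 lc_c_rc_14_2 lc_c_rc_26_8 lc_c_rc_11_1 lc_c_rc_11_1 lc_c_rc_24_6 lc_c_rc_11_1 lc_c_rc_2_3 lc_c_rc_2_3 lc_c_rc_13_2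 lc_c_rc_11_1 lc_c_rc_11_1 lc_c_rc_2_3 lc_c_rc_24_6 lc_c_rc_13_2 lc_c_rc_13_2 lc_c_rc_14_2 lc_c_rc_7_5 lc_c_rc_11_1 lc_c_rc_2_3 lc_c_rc_23_5 lc_c_rc_13_2 lc_c_rc_13_2 lc_c_rc_26_4 lc_c_rc_11_1 lc_c_Cert_tree lc_c_rc_13_2) (@D3.rec (fun _ => (Cert rels S Gen.c)) lc_c_rc_11_1 lc_c_Cert_tree lc_c_Cert_tree lc_c_Cert_tree lc_c_Cert_tree lc_c_rc_11_1 lc_c_rc_26_10 lc_c_rc_23_0 lc_c_rc_14_2 lc_c_rc_7_3 lc_c_Cert_tree lc_c_rc_13_2 lc_c_rc_14_2 lc_c_rc_22_5 lc_c_rc_7_3 lc_c_rc_7_3 lc_c_rc_13_2 lc_c_rc_11_1 lc_c_rc_23_5 lc_c_rc_13_2 lc_c_rc_11_1 lc_c_rc_14_2 lc_c_Cert_tree lc_c_rc_26_2 lc_c_rc_23_5 lc_c_rc_7_1 lc_c_rc_24_4 lc_c_rc_23_0 lc_c_rc_13_0 lc_c_rc_14_2 lc_c_rc_11_1 lc_c_rc_2_3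 lc_c_rc_22_7 lc_c_rc_11_1 lc_c_rc_11_1 lc_c_rc_13_2 lc_c_rc_24_2 lc_c_rc_7_3 lc_c_rc_13_0 lc_c_rc_13_2 lc_c_rc_7_3 lc_c_rc_22_7 lc_c_rc_11_1 lc_c_rc_11_1 lc_c_rc_26_2 lc_c_rc_2_3 lc_c_rc_14_2 lc_c_rc_7_5 lc_c_rc_11_1 lc_c_rc_2_3 lc_c_Cert_tree lc_c_rc_11_1 lc_c_rc_2_3 lc_c_Cert_tree lc_c_rc_13_2 lc_c_rc_23_0 lc_c_Cert_tree lc_c_rc_14_2 lc_c_rc_23_0 lc_c_rc_26_2 lc_c_rc_23_5 lc_c_rc_13_2) (@D3.rec (fun _ => (Cert rels S Gen.c)) lc_c_rc_26_4 lc_c_rc_11_1 lc_c_rc_13_2 lc_c_rc_14_2 lc_c_rc_11_1 lc_c_Cert_tree lc_c_rc_11_1 lc_c_Cert_tree lc_c_Cert_tree lc_c_rc_11_1 lc_c_rc_26_2 lc_c_rc_11_1 lc_c_rc_13_0 lc_c_rc_26_2 lc_c_rc_11_1 lc_c_rc_13_2 lc_c_rc_7_3 lc_c_rc_13_2 lc_c_rc_13_2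 lc_c_rc_2_3 lc_c_Cert_tree lc_c_rc_14_2 lc_c_rc_24_4 lc_c_Cert_tree lc_c_Cert_tree lc_c_Cert_tree lc_c_rc_26_2 lc_c_rc_11_1 lc_c_rc_14_2 lc_c_rc_7_3 lc_c_Cert_tree lc_c_rc_11_1 lc_c_rc_7_3 lc_c_Cert_tree lc_c_rc_13_2 lc_c_rc_23_5 lc_c_rc_26_8 lc_c_rc_2_1 lc_c_rc_13_2 lc_c_rc_26_8 lc_c_rc_13_0 lc_c_rc_11_1 lc_c_rc_7_3 lc_c_rc_24_6 lc_c_rc_11_1 lc_c_rc_26_2 lc_c_rc_23_5 lc_c_rc_14_2 lc_c_rc_7_5 lc_c_rc_7_3 lc_c_rc_13_2 lc_c_rc_7_3 lc_c_rc_26_4 lc_c_rc_11_1 lc_c_rc_23_0 lc_c_rc_13_2 lc_c_Cert_tree lc_c_rc_11_1 lc_c_rc_23_0 lc_c_Cert_tree lc_c_Cert_tree lc_c_rc_14_2) (@D3.rec (fun _ => (Cert rels S Gen.c)) lc_c_rc_24_2 lc_c_rc_11_1 lc_c_rc_13_0 lc_c_rc_26_4 lc_c_rc_11_1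 lc_c_rc_25_5 lc_c_rc_26_4 lc_c_rc_11_1 lc_c_rc_11_1 lc_c_rc_26_4 lc_c_rc_7_3 lc_c_rc_23_5 lc_c_rc_26_2 lc_c_rc_11_1 lc_c_rc_13_2 lc_c_rc_26_2 lc_c_rc_22_3 lc_c_rc_13_2 lc_c_rc_22_7 lc_c_rc_7_3 lc_c_rc_11_1 lc_c_rc_13_2 lc_c_rc_14_2 lc_c_rc_22_9 lc_c_rc_11_1 lc_c_rc_7_5 lc_c_rc_23_0 lc_c_rc_2_3 lc_c_rc_23_0 lc_c_rc_7_5 lc_c_rc_13_2 lc_c_rc_26_10 lc_c_rc_11_1 lc_c_rc_11_1 lc_c_Cert_tree lc_c_rc_13_2 lc_c_rc_26_4 lc_c_rc_13_2 lc_c_rc_11_1 lc_c_rc_13_2 lc_c_rc_11_1 lc_c_rc_7_5 lc_c_rc_11_1 lc_c_rc_11_1 lc_c_rc_13_2 lc_c_rc_11_1 lc_c_Cert_tree lc_c_rc_11_1 lc_c_rc_13_2 lc_c_rc_11_1 lc_c_rc_11_1 lc_c_rc_13_2 lc_c_rc_23_0 lc_c_rc_13_0 lc_c_Cert_tree lc_c_rc_11_1 lc_c_rc_13_0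 lc_c_rc_23_5 lc_c_rc_11_1 lc_c_rc_24_2 lc_c_rc_14_2 lc_c_Cert_tree) (@D3.rec (fun _ => (Cert rels S Gen.c)) lc_c_rc_11_1 lc_c_rc_23_5 lc_c_rc_2_3 lc_c_rc_13_2 lc_c_rc_22_7 lc_c_rc_26_8 lc_c_rc_7_5 lc_c_rc_13_2 lc_c_Cert_tree lc_c_rc_23_5 lc_c_rc_13_2 lc_c_rc_7_3 lc_c_Cert_tree lc_c_rc_24_4 lc_c_rc_7_5 lc_c_Cert_tree lc_c_rc_13_2 lc_c_Cert_tree lc_c_rc_24_2 lc_c_rc_11_1 lc_c_rc_22_3 lc_c_rc_11_1 lc_c_Cert_tree lc_c_rc_11_1 lc_c_rc_23_0 lc_c_rc_23_5 lc_c_Cert_tree lc_c_rc_13_2 lc_c_rc_11_1 lc_c_rc_11_1 lc_c_rc_11_1 lc_c_rc_2_3 lc_c_rc_26_4 lc_c_rc_13_2 lc_c_rc_13_2 lc_c_Cert_tree lc_c_rc_24_4 lc_c_rc_11_1 lc_c_rc_2_3 lc_c_Cert_tree lc_c_rc_13_2 lc_c_rc_13_2 lc_c_rc_23_0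 lc_c_rc_22_3 lc_c_rc_14_2 lc_c_rc_7_3 lc_c_rc_7_5 lc_c_rc_7_5 lc_c_rc_2_3 lc_c_rc_11_1 lc_c_rc_2_3 lc_c_rc_26_4 lc_c_rc_13_2 lc_c_rc_13_2 lc_c_rc_11_1 lc_c_rc_11_1 lc_c_rc_23_0 lc_c_rc_14_2 lc_c_rc_11_1 lc_c_rc_11_1 lc_c_rc_7_1 lc_c_Cert_tree) (@D3.rec (fun _ => (Cert rels S Gen.c)) lc_c_rc_11_1 lc_c_rc_2_3 lc_c_rc_2_1 lc_c_rc_13_2 lc_c_rc_13_2 lc_c_rc_11_1 lc_c_Cert_tree lc_c_rc_22_5 lc_c_Cert_tree lc_c_rc_11_1 lc_c_rc_13_2 lc_c_rc_14_2 lc_c_rc_22_9 lc_c_rc_22_3 lc_c_rc_11_1 lc_c_rc_7_5 lc_c_rc_22_3 lc_c_rc_26_4 lc_c_rc_11_1 lc_c_rc_13_2 lc_c_rc_13_0 lc_c_rc_13_2 lc_c_rc_22_3 lc_c_rc_22_3 lc_c_rc_22_9 lc_c_rc_11_1 lc_c_rc_13_2 lc_c_Cert_tree lc_c_rc_13_2 lc_c_rc_7_1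 lc_c_rc_13_2 lc_c_Cert_tree lc_c_Cert_tree lc_c_rc_7_5 lc_c_rc_13_2 lc_c_rc_7_5 lc_c_Cert_tree lc_c_rc_7_1 lc_c_Cert_tree lc_c_rc_13_2 lc_c_Cert_tree lc_c_Cert_tree lc_c_rc_11_1 lc_c_rc_23_5 lc_c_rc_7_3 lc_c_rc_24_2 lc_c_rc_13_2 lc_c_rc_11_1 lc_c_rc_11_1 lc_c_rc_13_2 lc_c_rc_11_1 lc_c_rc_11_1 lc_c_rc_2_3 lc_c_rc_13_2 lc_c_rc_24_6 lc_c_rc_23_0 lc_c_Cert_tree lc_c_rc_26_4 lc_c_rc_11_1 lc_c_rc_26_8 lc_c_rc_11_1 lc_c_rc_11_1) (@D3.rec (fun _ => (Cert rels S Gen.c)) lc_c_rc_11_1 lc_c_rc_11_1 lc_c_rc_22_5 lc_c_rc_13_2 lc_c_Cert_tree lc_c_rc_11_1 lc_c_rc_7_3 lc_c_rc_2_3 lc_c_rc_24_4 lc_c_rc_11_1 lc_c_rc_26_4 lc_c_rc_11_1 lc_c_rc_13_2 lc_c_rc_26_8 lc_c_rc_11_1 lc_c_rc_13_2 lc_c_rc_13_2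 lc_c_rc_11_1 lc_c_rc_23_0 lc_c_rc_11_1 lc_c_rc_22_7 lc_c_rc_13_2 lc_c_rc_26_10 lc_c_rc_14_2 lc_c_rc_11_1 lc_c_rc_2_3 lc_c_rc_22_3 lc_c_rc_13_2 lc_c_rc_14_0 lc_c_rc_26_4 lc_c_rc_14_2 lc_c_rc_11_1 lc_c_rc_11_1 lc_c_rc_26_8 lc_c_rc_11_1 lc_c_rc_11_1 lc_c_rc_23_0 lc_c_rc_26_4 lc_c_rc_11_1 lc_c_rc_26_8 lc_c_rc_11_1 lc_c_rc_7_1 lc_c_rc_7_5 lc_c_rc_2_3 lc_c_Cert_tree lc_c_rc_2_3 lc_c_rc_13_2 lc_c_rc_22_5 lc_c_rc_24_6 lc_c_rc_2_3 lc_c_rc_24_4 lc_c_rc_13_2 lc_c_rc_13_2 lc_c_rc_23_0 lc_c_rc_13_0 lc_c_rc_14_2 lc_c_rc_11_1 lc_c_rc_22_5 lc_c_rc_11_1 lc_c_rc_2_3 lc_c_Cert_tree lc_c_Cert_tree) (@D3.rec (fun _ => (Cert rels S Gen.c)) lc_c_rc_14_2 lc_c_rc_26_4 lc_c_rc_11_1 lc_c_rc_13_2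 lc_c_rc_22_3 lc_c_rc_13_2 lc_c_rc_26_2 lc_c_rc_13_2 lc_c_rc_24_6 lc_c_rc_7_5 lc_c_rc_13_2 lc_c_rc_2_3 lc_c_Cert_tree lc_c_rc_14_2 lc_c_rc_24_6 lc_c_rc_24_6 lc_c_rc_22_7 lc_c_rc_14_2 lc_c_rc_7_5 lc_c_rc_22_9 lc_c_rc_22_9 lc_c_rc_11_1 lc_c_rc_11_1 lc_c_rc_26_4 lc_c_Cert_tree lc_c_rc_26_2 lc_c_rc_11_1 lc_c_rc_25_13 lc_c_rc_26_4 lc_c_rc_11_1 lc_c_rc_11_1 lc_c_rc_11_1 lc_c_rc_7_3 lc_c_rc_22_9 lc_c_rc_26_4 lc_c_rc_26_4 lc_c_rc_13_2 lc_c_Cert_tree lc_c_rc_26_10 lc_c_rc_11_1 lc_c_rc_11_1 lc_c_rc_12_0 lc_c_rc_14_2 lc_c_rc_13_2 lc_c_rc_26_10 lc_c_rc_14_2 lc_c_rc_26_4 lc_c_rc_11_1 lc_c_rc_14_0 lc_c_rc_11_1 lc_c_rc_14_0 lc_c_Cert_tree lc_c_rc_24_2 lc_c_rc_26_2 lc_c_rc_11_1 lc_c_Cert_tree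 lc_c_rc_24_2 lc_c_rc_24_4 lc_c_rc_11_1 lc_c_rc_2_3 lc_c_Cert_tree lc_c_rc_7_3) (@D3.rec (fun _ => (Cert rels S Gen.c)) lc_c_rc_13_2 lc_c_rc_11_1 lc_c_rc_23_0 lc_c_rc_23_0 lc_c_rc_14_2 lc_c_rc_11_1 lc_c_Cert_tree lc_c_rc_11_1 lc_c_Cert_tree lc_c_rc_11_1 lc_c_rc_7_5 lc_c_Cert_tree lc_c_rc_26_4 lc_c_rc_11_1 lc_c_rc_13_2 lc_c_rc_7_1 lc_c_rc_22_7 lc_c_rc_13_2 lc_c_rc_11_1 lc_c_rc_13_2 lc_c_Cert_tree lc_c_Cert_tree lc_c_Cert_tree lc_c_rc_14_2 lc_c_rc_13_0 lc_c_Cert_tree lc_c_Cert_tree lc_c_rc_14_2 lc_c_rc_7_5 lc_c_rc_23_0 lc_c_rc_7_3 lc_c_rc_24_2 lc_c_rc_13_2 lc_c_Cert_tree lc_c_rc_11_1 lc_c_rc_13_0 lc_c_Cert_tree lc_c_rc_11_1 lc_c_rc_11_1 lc_c_Cert_tree lc_c_rc_11_1 lc_c_rc_14_2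 lc_c_rc_13_2 lc_c_rc_7_3 lc_c_Cert_tree lc_c_rc_13_2 lc_c_rc_11_1 lc_c_rc_2_3 lc_c_rc_24_2 lc_c_rc_13_2 lc_c_rc_24_2 lc_c_rc_7_1 lc_c_rc_23_0 lc_c_rc_13_0 lc_c_Cert_tree lc_c_rc_11_1 lc_c_rc_14_2 lc_c_rc_11_1 lc_c_Cert_tree lc_c_rc_2_3 lc_c_rc_26_8 lc_c_rc_11_1) (@D3.rec (fun _ => (Cert rels S Gen.c)) lc_c_rc_23_5 lc_c_rc_26_10 lc_c_rc_7_5 lc_c_rc_11_1 lc_c_rc_7_5 lc_c_rc_14_2 lc_c_rc_7_1 lc_c_rc_7_5 lc_c_rc_11_1 lc_c_rc_7_1 lc_c_rc_7_3 lc_c_rc_14_2 lc_c_rc_13_0 lc_c_rc_7_1 lc_c_rc_2_3 lc_c_Cert_tree lc_c_rc_26_4 lc_c_rc_22_3 lc_c_rc_13_2 lc_c_rc_2_1 lc_c_rc_11_1 lc_c_rc_26_2 lc_c_rc_2_1 lc_c_rc_7_5 lc_c_rc_14_2 lc_c_rc_7_3 lc_c_rc_23_5 lc_c_rc_22_3 lc_c_rc_22_3 lc_c_rc_11_1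 lc_c_rc_7_1 lc_c_rc_11_1 lc_c_rc_13_2 lc_c_rc_11_1 lc_c_rc_24_8 lc_c_rc_13_2 lc_c_rc_13_2 lc_c_rc_22_3 lc_c_rc_26_4 lc_c_rc_26_10 lc_c_rc_25_13 lc_c_rc_7_5 lc_c_rc_2_3 lc_c_rc_26_2 lc_c_rc_7_1 lc_c_rc_14_2 lc_c_rc_26_4 lc_c_rc_13_2 lc_c_rc_11_1 lc_c_rc_11_1 lc_c_rc_11_1 lc_c_rc_13_2 lc_c_rc_11_1 lc_c_rc_11_1 lc_c_rc_11_1 lc_c_rc_26_4 lc_c_Cert_tree lc_c_rc_11_1 lc_c_rc_11_1 lc_c_rc_13_2 lc_c_rc_23_0 lc_c_rc_23_0) (@D3.rec (fun _ => (Cert rels S Gen.c)) lc_c_rc_11_1 lc_c_rc_13_2 lc_c_rc_2_3 lc_c_rc_11_1 lc_c_Cert_tree lc_c_rc_14_2 lc_c_Cert_tree lc_c_rc_26_8 lc_c_rc_11_1 lc_c_rc_23_5 lc_c_rc_25_1 lc_c_rc_26_4 lc_c_rc_11_1 lc_c_rc_25_1 lc_c_rc_2_3 lc_c_rc_11_1 lc_c_rc_11_1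 lc_c_rc_26_8 lc_c_rc_7_5 lc_c_rc_13_2 lc_c_rc_24_4 lc_c_rc_2_3 lc_c_rc_24_4 lc_c_rc_26_4 lc_c_rc_13_2 lc_c_rc_13_0 lc_c_rc_2_3 lc_c_rc_26_4 lc_c_rc_22_9 lc_c_rc_13_2 lc_c_rc_13_2 lc_c_Cert_tree lc_c_rc_26_4 lc_c_rc_22_5 lc_c_rc_2_3 lc_c_rc_26_8 lc_c_Cert_tree lc_c_Cert_tree lc_c_rc_13_0 lc_c_rc_7_1 lc_c_rc_13_2 lc_c_rc_26_4 lc_c_rc_13_2 lc_c_rc_11_1 lc_c_rc_13_2 lc_c_rc_13_2 lc_c_rc_11_1 lc_c_rc_13_2 lc_c_rc_7_1 lc_c_Cert_tree lc_c_rc_24_6 lc_c_rc_23_0 lc_c_rc_14_2 lc_c_rc_13_2 lc_c_rc_26_2 lc_c_Cert_tree lc_c_rc_13_2 lc_c_Cert_tree lc_c_rc_11_1 lc_c_rc_11_1 lc_c_rc_22_5 lc_c_rc_7_3) (@D3.rec (fun _ => (Cert rels S Gen.c)) lc_c_rc_14_2 lc_c_Cert_tree lc_c_rc_24_6 lc_c_rc_11_1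 lc_c_rc_24_6 lc_c_rc_14_2 lc_c_rc_13_2 lc_c_rc_26_10 lc_c_rc_24_6 lc_c_rc_22_5 lc_c_rc_13_2 lc_c_rc_26_2 lc_c_rc_23_0 lc_c_rc_13_2 lc_c_rc_23_5 lc_c_rc_7_1 lc_c_rc_26_2 lc_c_rc_24_2 lc_c_rc_13_2 lc_c_rc_7_1 lc_c_rc_22_7 lc_c_rc_13_2 lc_c_rc_11_1 lc_c_rc_13_2 lc_c_rc_24_8 lc_c_rc_23_0 lc_c_rc_26_8 lc_c_rc_26_2 lc_c_Cert_tree lc_c_rc_13_2 lc_c_rc_13_2 lc_c_Cert_tree lc_c_rc_25_1 lc_c_rc_22_5 lc_c_rc_14_2 lc_c_rc_12_2 lc_c_rc_13_2 lc_c_rc_13_2 lc_c_rc_7_5 lc_c_rc_14_2 lc_c_rc_11_1 lc_c_rc_7_1 lc_c_rc_22_5 lc_c_rc_13_2 lc_c_rc_26_2 lc_c_rc_11_1 lc_c_rc_14_2 lc_c_rc_7_5 lc_c_rc_13_0 lc_c_rc_11_1 lc_c_rc_24_2 lc_c_rc_13_2 lc_c_Cert_tree lc_c_Cert_tree lc_c_rc_22_3 lc_c_rc_13_2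 lc_c_rc_22_3 lc_c_rc_26_8 lc_c_rc_22_3 lc_c_rc_22_5 lc_c_rc_11_1 lc_c_rc_22_3) (@D3.rec (fun _ => (Cert rels S Gen.c)) lc_c_rc_22_5 lc_c_rc_14_2 lc_c_rc_7_3 lc_c_rc_11_1 lc_c_rc_13_2 lc_c_rc_11_1 lc_c_rc_26_10 lc_c_rc_26_8 lc_c_rc_11_1 lc_c_rc_7_5 lc_c_rc_13_2 lc_c_rc_11_1 lc_c_rc_11_1 lc_c_rc_13_2 lc_c_rc_7_5 lc_c_rc_13_0 lc_c_rc_26_2 lc_c_rc_26_8 lc_c_rc_13_2 lc_c_rc_11_1 lc_c_rc_7_3 lc_c_rc_2_3 lc_c_rc_22_7 lc_c_rc_12_2 lc_c_rc_23_5 lc_c_Cert_tree lc_c_rc_13_0 lc_c_rc_14_2 lc_c_rc_23_5 lc_c_rc_11_1 lc_c_rc_7_5 lc_c_rc_11_1 lc_c_rc_7_1 lc_c_Cert_tree lc_c_rc_13_2 lc_c_rc_11_1 lc_c_rc_7_3 lc_c_rc_26_8 lc_c_rc_23_0 lc_c_rc_14_2 lc_c_rc_13_2 lc_c_rc_11_1 lc_c_rc_13_0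 lc_c_rc_13_0 lc_c_rc_11_1 lc_c_rc_13_2 lc_c_rc_11_1 lc_c_rc_23_0 lc_c_rc_24_6 lc_c_rc_25_1 lc_c_Cert_tree lc_c_rc_14_2 lc_c_rc_24_6 lc_c_rc_23_0 lc_c_rc_23_0 lc_c_rc_14_2 lc_c_rc_7_3 lc_c_rc_12_2 lc_c_rc_7_3 lc_c_Cert_tree lc_c_rc_13_2 lc_c_Cert_tree) (@D3.rec (fun _ => (Cert rels S Gen.c)) lc_c_rc_11_1 lc_c_rc_14_2 lc_c_rc_24_6 lc_c_rc_11_1 lc_c_rc_13_0 lc_c_rc_7_3 lc_c_Cert_tree lc_c_rc_26_4 lc_c_rc_11_1 lc_c_rc_13_2 lc_c_rc_23_0 lc_c_rc_13_2 lc_c_rc_11_1 lc_c_rc_26_4 lc_c_rc_11_1 lc_c_Cert_tree lc_c_rc_26_8 lc_c_rc_11_1 lc_c_rc_14_0 lc_c_rc_11_1 lc_c_rc_22_5 lc_c_Cert_tree lc_c_Cert_tree lc_c_rc_14_0 lc_c_rc_14_2 lc_c_rc_11_1 lc_c_rc_11_1 lc_c_rc_11_1 lc_c_rc_13_2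 lc_c_rc_22_3 lc_c_Cert_tree lc_c_rc_13_2 lc_c_rc_11_1 lc_c_rc_13_2 lc_c_rc_24_2 lc_c_rc_23_0 lc_c_rc_11_1 lc_c_rc_13_2 lc_c_rc_7_5 lc_c_rc_7_5 lc_c_rc_24_8 lc_c_rc_11_1 lc_c_rc_7_3 lc_c_rc_11_1 lc_c_rc_24_2 lc_c_rc_24_2 lc_c_rc_23_5 lc_c_rc_22_7 lc_c_rc_24_2 lc_c_rc_11_1 lc_c_rc_7_5 lc_c_rc_26_2 lc_c_rc_14_2 lc_c_Cert_tree lc_c_Cert_tree lc_c_rc_2_3 lc_c_rc_24_2 lc_c_rc_23_0 lc_c_rc_24_8 lc_c_rc_13_0 lc_c_rc_11_1 lc_c_rc_13_2) (@D3.rec (fun _ => (Cert rels S Gen.c)) lc_c_rc_13_0 lc_c_Cert_tree lc_c_rc_2_3 lc_c_rc_25_5 lc_c_rc_13_2 lc_c_Cert_tree lc_c_Cert_tree lc_c_rc_13_2 lc_c_rc_23_5 lc_c_rc_11_1 lc_c_Cert_tree lc_c_rc_11_1 lc_c_rc_13_2 lc_c_rc_24_4 lc_c_rc_2_3 lc_c_rc_22_5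 lc_c_rc_11_1 lc_c_rc_11_1 lc_c_rc_22_3 lc_c_rc_14_2 lc_c_rc_11_1 lc_c_Cert_tree lc_c_Cert_tree lc_c_Cert_tree lc_c_rc_11_1 lc_c_rc_14_2 lc_c_rc_7_3 lc_c_rc_24_2 lc_c_rc_13_2 lc_c_rc_13_2 lc_c_rc_22_3 lc_c_rc_7_5 lc_c_rc_11_1 lc_c_rc_2_3 lc_c_rc_11_1 lc_c_rc_24_8 lc_c_rc_14_2 lc_c_rc_24_2 lc_c_rc_11_1 lc_c_rc_7_3 lc_c_rc_13_2 lc_c_rc_14_2 lc_c_rc_24_2 lc_c_rc_11_1 lc_c_rc_7_3 lc_c_rc_13_2 lc_c_rc_13_0 lc_c_Cert_tree lc_c_rc_7_3 lc_c_rc_11_1 lc_c_rc_13_2 lc_c_rc_23_5 lc_c_rc_13_2 lc_c_rc_13_0 lc_c_rc_23_5 lc_c_rc_23_0 lc_c_rc_11_1 lc_c_rc_11_1 lc_c_rc_11_1 lc_c_rc_22_9 lc_c_rc_14_2 lc_c_rc_11_1) (@D3.rec (fun _ => (Cert rels S Gen.c)) lc_c_rc_23_5 lc_c_rc_13_2 lc_c_Cert_tree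 lc_c_rc_11_1 lc_c_rc_13_2 lc_c_rc_11_1 lc_c_rc_26_10 lc_c_rc_2_3 lc_c_rc_2_3 lc_c_rc_13_2 lc_c_rc_24_4 lc_c_rc_22_3 lc_c_rc_2_3 lc_c_rc_26_2 lc_c_rc_13_2 lc_c_rc_11_1 lc_c_rc_11_1 lc_c_rc_12_2 lc_c_rc_14_2 lc_c_rc_11_1 lc_c_Cert_tree lc_c_rc_2_3 lc_c_rc_26_2 lc_c_rc_7_3 lc_c_rc_13_2 lc_c_rc_24_8 lc_c_rc_13_2 lc_c_Cert_tree lc_c_rc_14_2 lc_c_rc_13_2 lc_c_rc_7_5 lc_c_rc_13_2 lc_c_rc_13_2 lc_c_rc_13_2 lc_c_rc_7_3 lc_c_rc_11_1 lc_c_rc_25_5 lc_c_rc_22_9 lc_c_rc_13_2 lc_c_rc_26_10 lc_c_rc_13_2 lc_c_rc_24_6 lc_c_rc_24_6 lc_c_rc_13_2 lc_c_Cert_tree lc_c_rc_7_5 lc_c_rc_11_1 lc_c_rc_22_9 lc_c_rc_7_1 lc_c_rc_13_2 lc_c_rc_13_0 lc_c_rc_14_2 lc_c_rc_11_1 lc_c_rc_11_1 lc_c_rc_23_5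 lc_c_rc_11_1 lc_c_rc_11_1 lc_c_Cert_tree lc_c_rc_7_5 lc_c_rc_26_2 lc_c_rc_11_1 lc_c_rc_11_1) (@D3.rec (fun _ => (Cert rels S Gen.c)) lc_c_rc_13_2 lc_c_rc_11_1 lc_c_rc_13_2 lc_c_rc_22_5 lc_c_rc_13_2 lc_c_rc_11_1 lc_c_rc_13_2 lc_c_rc_11_1 lc_c_rc_13_0 lc_c_rc_14_2 lc_c_rc_11_1 lc_c_rc_7_5 lc_c_rc_11_1 lc_c_rc_13_2 lc_c_rc_22_3 lc_c_rc_25_1 lc_c_rc_14_2 lc_c_rc_11_1 lc_c_rc_26_10 lc_c_rc_11_1 lc_c_rc_22_5 lc_c_rc_7_3 lc_c_rc_12_4 lc_c_rc_13_2 lc_c_rc_24_4 lc_c_rc_13_0 lc_c_rc_13_2 lc_c_rc_22_3 lc_c_rc_11_1 lc_c_rc_23_5 lc_c_rc_7_3 lc_c_rc_23_5 lc_c_rc_13_2 lc_c_rc_14_0 lc_c_Cert_tree lc_c_rc_14_2 lc_c_rc_24_4 lc_c_rc_11_1 lc_c_rc_26_8 lc_c_rc_13_2 lc_c_Cert_tree lc_c_rc_11_1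 lc_c_rc_11_1 lc_c_rc_24_2 lc_c_rc_14_2 lc_c_rc_14_2 lc_c_rc_13_0 lc_c_rc_7_5 lc_c_rc_13_2 lc_c_rc_11_1 lc_c_rc_13_2 lc_c_Cert_tree lc_c_rc_14_2 lc_c_rc_14_0 lc_c_rc_11_1 lc_c_rc_13_2 lc_c_rc_11_1 lc_c_rc_14_2 lc_c_rc_11_1 lc_c_rc_13_2 lc_c_rc_7_5 lc_c_rc_11_1) (@D3.rec (fun _ => (Cert rels S Gen.c)) lc_c_rc_13_2 lc_c_rc_11_1 lc_c_rc_13_2 lc_c_rc_13_0 lc_c_rc_11_1 lc_c_rc_24_6 lc_c_rc_24_6 lc_c_rc_24_2 lc_c_rc_13_2 lc_c_rc_7_5 lc_c_rc_12_2 lc_c_Cert_tree lc_c_rc_26_2 lc_c_rc_11_1 lc_c_rc_11_1 lc_c_rc_22_5 lc_c_rc_11_1 lc_c_rc_14_2 lc_c_rc_14_0 lc_c_Cert_tree lc_c_rc_11_1 lc_c_rc_11_1 lc_c_rc_13_0 lc_c_rc_13_2 lc_c_rc_26_2 lc_c_rc_26_10 lc_c_rc_26_10 lc_c_rc_11_1 lc_c_rc_2_1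 lc_c_rc_7_5 lc_c_rc_13_2 lc_c_rc_11_1 lc_c_rc_23_0 lc_c_rc_2_3 lc_c_rc_11_1 lc_c_rc_13_2 lc_c_rc_11_1 lc_c_rc_7_1 lc_c_rc_11_1 lc_c_rc_13_2 lc_c_rc_11_1 lc_c_rc_23_5 lc_c_rc_26_8 lc_c_rc_14_2 lc_c_rc_13_0 lc_c_rc_2_1 lc_c_rc_11_1 lc_c_rc_11_1 lc_c_rc_13_2 lc_c_rc_13_0 lc_c_rc_11_1 lc_c_rc_13_2 lc_c_rc_2_1 lc_c_rc_11_1 lc_c_rc_13_2 lc_c_rc_24_8 lc_c_rc_26_8 lc_c_rc_2_3 lc_c_rc_24_4 lc_c_rc_11_1 lc_c_rc_2_3 lc_c_rc_26_2) (@D3.rec (fun _ => (Cert rels S Gen.c)) lc_c_rc_13_2 lc_c_rc_11_1 lc_c_rc_25_17 lc_c_rc_13_2 lc_c_rc_7_1 lc_c_rc_11_1 lc_c_Cert_tree lc_c_rc_13_2 lc_c_Cert_tree lc_c_rc_11_1 lc_c_rc_22_7 lc_c_rc_11_1 lc_c_rc_7_3 lc_c_rc_11_1 lc_c_rc_2_3 lc_c_rc_2_3 lc_c_rc_11_1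 lc_c_rc_13_2 lc_c_rc_14_2 lc_c_rc_13_2 lc_c_rc_26_4 lc_c_rc_11_1 lc_c_rc_24_2 lc_c_rc_13_2 lc_c_rc_11_1 lc_c_Cert_tree lc_c_rc_13_2 lc_c_rc_24_8 lc_c_rc_25_1 lc_c_rc_11_1 lc_c_rc_12_0 lc_c_rc_22_5 lc_c_rc_13_2 lc_c_rc_24_8 lc_c_rc_24_8 lc_c_rc_7_3 lc_c_rc_13_2 lc_c_rc_11_1 lc_c_rc_13_2 lc_c_rc_2_3 lc_c_rc_11_1 lc_c_rc_2_3 lc_c_rc_26_4 lc_c_rc_11_1 lc_c_rc_2_3 lc_c_rc_24_2 lc_c_rc_23_0 lc_c_rc_11_1 lc_c_rc_26_4 lc_c_rc_11_1 lc_c_rc_2_3 lc_c_rc_23_5 lc_c_rc_13_2 lc_c_rc_13_2 lc_c_rc_11_1 lc_c_Cert_tree lc_c_rc_14_2 lc_c_rc_14_2 lc_c_rc_26_10 lc_c_rc_11_1 lc_c_rc_2_3 lc_c_rc_7_1) (@D3.rec (fun _ => (Cert rels S Gen.c)) lc_c_rc_13_2 lc_c_rc_13_2 lc_c_Cert_tree lc_c_rc_14_2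 lc_c_rc_2_3 lc_c_rc_7_3 lc_c_rc_26_2 lc_c_rc_11_1 lc_c_rc_13_2 lc_c_rc_14_2 lc_c_rc_7_1 lc_c_rc_11_1 lc_c_rc_2_3 lc_c_rc_13_2 lc_c_Cert_tree lc_c_rc_23_0 lc_c_rc_11_1 lc_c_rc_26_4 lc_c_rc_13_2 lc_c_rc_22_5 lc_c_rc_2_1 lc_c_rc_13_0 lc_c_Cert_tree lc_c_rc_24_6 lc_c_rc_24_6 lc_c_rc_2_3 lc_c_rc_13_2 lc_c_rc_26_2 lc_c_rc_22_3 lc_c_rc_26_4 lc_c_Cert_tree lc_c_rc_14_2 lc_c_rc_13_2 lc_c_Cert_tree lc_c_Cert_tree lc_c_rc_2_3 lc_c_rc_2_3 lc_c_rc_2_1 lc_c_Cert_tree lc_c_rc_24_6 lc_c_rc_2_3 lc_c_rc_13_2 lc_c_rc_11_1 lc_c_rc_25_5 lc_c_rc_11_1 lc_c_rc_13_2 lc_c_rc_26_10 lc_c_rc_23_0 lc_c_rc_11_1 lc_c_rc_22_9 lc_c_rc_13_2 lc_c_rc_7_3 lc_c_rc_13_2 lc_c_rc_7_3 lc_c_Cert_tree lc_c_rc_11_1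 lc_c_rc_2_3 lc_c_Cert_tree lc_c_rc_13_2 lc_c_rc_13_2 lc_c_Cert_tree lc_c_rc_14_0) (@D3.rec (fun _ => (Cert rels S Gen.c)) lc_c_rc_24_6 lc_c_rc_24_6 lc_c_rc_2_1 lc_c_rc_13_2 lc_c_Cert_tree lc_c_rc_23_0 lc_c_rc_11_1 lc_c_rc_12_2 lc_c_rc_14_2 lc_c_rc_11_1 lc_c_rc_13_0 lc_c_rc_13_2 lc_c_rc_26_4 lc_c_rc_24_2 lc_c_rc_13_2 lc_c_rc_22_7 lc_c_rc_7_5 lc_c_rc_13_2 lc_c_Cert_tree lc_c_rc_7_3 lc_c_rc_13_2 lc_c_rc_11_1 lc_c_rc_22_9 lc_c_rc_7_5 lc_c_rc_7_5 lc_c_rc_7_3 lc_c_rc_11_1 lc_c_rc_11_1 lc_c_rc_11_1 lc_c_rc_13_2 lc_c_rc_22_3 lc_c_rc_14_2 lc_c_rc_23_0 lc_c_rc_11_1 lc_c_rc_2_3 lc_c_Cert_tree lc_c_rc_13_2 lc_c_rc_11_1 lc_c_rc_11_1 lc_c_rc_13_2 lc_c_Cert_tree lc_c_rc_26_4 lc_c_rc_11_1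 lc_c_rc_14_2 lc_c_Cert_tree lc_c_rc_11_1 lc_c_rc_13_2 lc_c_rc_11_1 lc_c_rc_13_2 lc_c_rc_2_3 lc_c_Cert_tree lc_c_rc_14_2 lc_c_rc_22_3 lc_c_rc_24_6 lc_c_rc_11_1 lc_c_rc_14_2 lc_c_rc_7_5 lc_c_Cert_tree lc_c_Cert_tree lc_c_rc_13_2 lc_c_Cert_tree lc_c_Cert_tree) (@D3.rec (fun _ => (Cert rels S Gen.c)) lc_c_rc_11_1 lc_c_rc_14_2 lc_c_rc_7_3 lc_c_Cert_tree lc_c_Cert_tree lc_c_rc_2_1 lc_c_rc_11_1 lc_c_rc_2_3 lc_c_Cert_tree lc_c_rc_13_2 lc_c_rc_13_2 lc_c_rc_22_3 lc_c_rc_13_2 lc_c_rc_26_4 lc_c_rc_11_1 lc_c_rc_7_1 lc_c_rc_13_2 lc_c_rc_23_5 lc_c_rc_13_2 lc_c_rc_7_5 lc_c_rc_23_0 lc_c_rc_11_1 lc_c_rc_26_4 lc_c_Cert_tree lc_c_rc_13_0 lc_c_Cert_tree lc_c_rc_11_1 lc_c_rc_13_2 lc_c_rc_14_2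 lc_c_rc_7_3 lc_c_rc_24_8 lc_c_rc_13_2 lc_c_rc_7_5 lc_c_Cert_tree lc_c_rc_13_0 lc_c_rc_11_1 lc_c_rc_22_3 lc_c_rc_7_3 lc_c_rc_11_1 lc_c_rc_23_5 lc_c_rc_7_3 lc_c_rc_13_0 lc_c_rc_11_1 lc_c_rc_24_4 lc_c_rc_7_5 lc_c_rc_13_2 lc_c_rc_24_2 lc_c_rc_26_10 lc_c_Cert_tree lc_c_rc_7_5 lc_c_Cert_tree lc_c_rc_14_2 lc_c_rc_14_0 lc_c_rc_24_4 lc_c_rc_23_0 lc_c_rc_14_2 lc_c_rc_22_9 lc_c_rc_24_8 lc_c_rc_11_1 lc_c_rc_14_2 lc_c_rc_26_4 lc_c_rc_24_2) (@D3.rec (fun _ => (Cert rels S Gen.c)) lc_c_rc_7_1 lc_c_rc_11_1 lc_c_rc_7_1 lc_c_rc_22_3 lc_c_rc_2_1 lc_c_rc_2_3 lc_c_rc_7_3 lc_c_rc_11_1 lc_c_rc_13_2 lc_c_rc_24_4 lc_c_rc_22_5 lc_c_rc_7_1 lc_c_rc_13_0 lc_c_rc_23_0 lc_c_rc_14_2 lc_c_rc_13_0 lc_c_rc_11_1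 lc_c_rc_14_2 lc_c_rc_13_2 lc_c_rc_14_2 lc_c_rc_13_2 lc_c_rc_7_1 lc_c_rc_11_1 lc_c_rc_26_2 lc_c_rc_22_3 lc_c_rc_12_14 lc_c_rc_2_3 lc_c_rc_14_2 lc_c_rc_2_3 lc_c_rc_13_2 lc_c_rc_11_1 lc_c_rc_23_0 lc_c_Cert_tree lc_c_rc_11_1 lc_c_rc_13_2 lc_c_rc_26_10 lc_c_rc_22_7 lc_c_rc_7_3 lc_c_rc_12_2 lc_c_rc_13_2 lc_c_rc_14_2 lc_c_rc_13_2 lc_c_rc_23_5 lc_c_rc_14_2 lc_c_rc_22_5 lc_c_Cert_tree lc_c_rc_13_2 lc_c_rc_22_3 lc_c_rc_11_1 lc_c_rc_13_0 lc_c_rc_11_1 lc_c_rc_26_4 lc_c_rc_26_10 lc_c_rc_23_0 lc_c_rc_22_7 lc_c_rc_24_4 lc_c_rc_14_2 lc_c_rc_11_1 lc_c_Cert_tree lc_c_Cert_tree lc_c_rc_14_2 lc_c_Cert_tree) (@D3.rec (fun _ => (Cert rels S Gen.c)) lc_c_rc_13_2 lc_c_rc_7_5 lc_c_Cert_tree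 lc_c_Cert_tree lc_c_Cert_tree lc_c_rc_11_1 lc_c_rc_11_1 lc_c_Cert_tree lc_c_rc_13_2 lc_c_rc_11_1 lc_c_rc_11_1 lc_c_rc_11_1 lc_c_Cert_tree lc_c_rc_11_1 lc_c_Cert_tree lc_c_rc_11_1 lc_c_rc_13_2 lc_c_rc_23_5 lc_c_rc_7_3 lc_c_Cert_tree lc_c_rc_23_0 lc_c_Cert_tree lc_c_rc_23_5 lc_c_rc_24_4 lc_c_rc_11_1 lc_c_rc_7_3 lc_c_rc_25_5 lc_c_rc_13_2 lc_c_rc_11_1 lc_c_rc_11_1 lc_c_rc_2_3 lc_c_rc_13_2 lc_c_rc_23_5 lc_c_rc_23_0 lc_c_rc_24_2 lc_c_rc_24_2 lc_c_rc_14_2 lc_c_rc_7_3 lc_c_rc_23_5 lc_c_rc_7_5 lc_c_rc_13_0 lc_c_rc_24_2 lc_c_rc_13_2 lc_c_rc_26_2 lc_c_rc_13_2 lc_c_rc_7_3 lc_c_rc_22_9 lc_c_Cert_tree lc_c_rc_11_1 lc_c_rc_11_1 lc_c_rc_22_5 lc_c_rc_13_0 lc_c_rc_14_2 lc_c_rc_26_2 lc_c_rc_24_4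 lc_c_rc_22_7 lc_c_rc_7_5 lc_c_rc_2_3 lc_c_rc_11_1 lc_c_rc_23_0 lc_c_rc_22_5 lc_c_rc_23_0) (@D3.rec (fun _ => (Cert rels S Gen.c)) lc_c_rc_26_4 lc_c_rc_24_6 lc_c_rc_24_2 lc_c_Cert_tree lc_c_rc_14_2 lc_c_rc_13_2 lc_c_rc_26_8 lc_c_rc_23_5 lc_c_rc_2_3 lc_c_rc_11_1 lc_c_rc_14_2 lc_c_rc_13_2 lc_c_rc_23_0 lc_c_Cert_tree lc_c_rc_25_5 lc_c_rc_13_2 lc_c_rc_11_1 lc_c_rc_13_2 lc_c_rc_11_1 lc_c_Cert_tree lc_c_rc_14_2 lc_c_rc_11_1 lc_c_rc_7_3 lc_c_rc_2_3 lc_c_rc_11_1 lc_c_rc_7_3 lc_c_rc_24_2 lc_c_rc_13_2 lc_c_rc_13_2 lc_c_rc_24_6 lc_c_rc_11_1 lc_c_rc_11_1 lc_c_rc_25_5 lc_c_rc_26_10 lc_c_rc_7_3 lc_c_rc_14_2 lc_c_rc_26_4 lc_c_rc_26_2 lc_c_rc_7_5 lc_c_rc_2_3 lc_c_rc_24_8 lc_c_rc_11_1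 lc_c_rc_11_1 lc_c_rc_13_0 lc_c_rc_11_1 lc_c_rc_26_4 lc_c_rc_23_5 lc_c_rc_13_2 lc_c_rc_2_3 lc_c_rc_26_4 lc_c_rc_11_1 lc_c_rc_7_1 lc_c_Cert_tree lc_c_rc_13_2 lc_c_rc_2_1 lc_c_rc_14_2 lc_c_rc_11_1 lc_c_Cert_tree lc_c_rc_11_1 lc_c_rc_2_3 lc_c_rc_22_7 lc_c_rc_13_2) (@D3.rec (fun _ => (Cert rels S Gen.c)) lc_c_rc_22_3 lc_c_rc_14_2 lc_c_rc_11_1 lc_c_rc_11_1 lc_c_rc_11_1 lc_c_rc_22_7 lc_c_rc_13_2 lc_c_rc_13_2 lc_c_Cert_tree lc_c_rc_26_4 lc_c_rc_25_5 lc_c_rc_2_1 lc_c_rc_26_8 lc_c_rc_13_2 lc_c_Cert_tree lc_c_Cert_tree lc_c_Cert_tree lc_c_rc_11_1 lc_c_rc_14_0 lc_c_rc_11_1 lc_c_rc_13_2 lc_c_Cert_tree lc_c_rc_13_2 lc_c_rc_13_0 lc_c_Cert_tree lc_c_rc_14_2 lc_c_rc_13_2 lc_c_rc_14_2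 lc_c_rc_11_1 lc_c_rc_2_3 lc_c_rc_13_2 lc_c_rc_11_1 lc_c_rc_11_1 lc_c_rc_2_3 lc_c_Cert_tree lc_c_Cert_tree lc_c_rc_11_1 lc_c_rc_2_3 lc_c_Cert_tree lc_c_rc_13_2 lc_c_rc_13_2 lc_c_rc_11_1 lc_c_rc_11_1 lc_c_rc_11_1 lc_c_rc_2_3 lc_c_Cert_tree lc_c_rc_2_3 lc_c_rc_22_3 lc_c_rc_11_1 lc_c_rc_2_3 lc_c_Cert_tree lc_c_rc_13_2 lc_c_rc_2_3 lc_c_rc_7_3 lc_c_rc_26_2 lc_c_rc_11_1 lc_c_rc_25_5 lc_c_rc_13_2 lc_c_rc_14_2 lc_c_rc_14_2 lc_c_rc_11_1 lc_c_Cert_tree) (@D3.rec (fun _ => (Cert rels S Gen.c)) lc_c_rc_13_2 lc_c_Cert_tree lc_c_rc_7_5 lc_c_Cert_tree lc_c_rc_11_1 lc_c_rc_13_2 lc_c_rc_7_3 lc_c_rc_13_2 lc_c_Cert_tree lc_c_rc_22_7 lc_c_rc_13_2 lc_c_rc_14_0 lc_c_rc_23_5 lc_c_rc_13_2 lc_c_rc_22_3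 lc_c_rc_14_2 lc_c_rc_11_1 lc_c_rc_2_3 lc_c_rc_7_3 lc_c_rc_13_2 lc_c_rc_14_2 lc_c_rc_24_8 lc_c_rc_13_0 lc_c_rc_2_3 lc_c_rc_11_1 lc_c_rc_2_3 lc_c_rc_7_3 lc_c_rc_22_7 lc_c_rc_14_2 lc_c_rc_13_2 lc_c_rc_11_1 lc_c_rc_26_4 lc_c_rc_26_10 lc_c_rc_11_1 lc_c_rc_11_1 lc_c_rc_13_2 lc_c_rc_11_1 lc_c_rc_23_5 lc_c_rc_13_2 lc_c_rc_14_2 lc_c_rc_23_5 lc_c_rc_14_2 lc_c_rc_7_5 lc_c_rc_26_4 lc_c_rc_11_1 lc_c_rc_11_1 lc_c_rc_13_2 lc_c_rc_24_6 lc_c_Cert_tree lc_c_rc_11_1 lc_c_rc_24_6 lc_c_rc_13_2 lc_c_rc_24_2 lc_c_rc_24_4 lc_c_rc_7_1 lc_c_rc_26_10 lc_c_rc_13_0 lc_c_Cert_tree lc_c_rc_13_2 lc_c_rc_13_2 lc_c_rc_24_6 lc_c_rc_23_0) (@D3.rec (fun _ => (Cert rels S Gen.c)) lc_c_rc_2_3 lc_c_rc_22_9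 lc_c_rc_7_3 lc_c_rc_13_2 lc_c_rc_11_1 lc_c_rc_23_0 lc_c_rc_14_2 lc_c_rc_11_1 lc_c_rc_11_1 lc_c_Cert_tree lc_c_rc_11_1 lc_c_rc_2_3 lc_c_Cert_tree lc_c_rc_13_2 lc_c_rc_13_2 lc_c_rc_14_2 lc_c_rc_24_6 lc_c_rc_23_0 lc_c_rc_2_3 lc_c_rc_22_9 lc_c_rc_13_2 lc_c_rc_14_0 lc_c_rc_26_4 lc_c_rc_11_1 lc_c_rc_25_1 lc_c_rc_13_2 lc_c_rc_7_1 lc_c_rc_11_1 lc_c_Cert_tree lc_c_rc_24_2 lc_c_rc_25_5 lc_c_rc_13_2 lc_c_Cert_tree lc_c_Cert_tree lc_c_rc_11_1 lc_c_rc_14_2 lc_c_rc_11_1 lc_c_rc_26_2 lc_c_rc_14_2 lc_c_rc_26_2 lc_c_rc_7_3 lc_c_rc_7_3 lc_c_rc_13_2 lc_c_rc_7_3 lc_c_Cert_tree lc_c_rc_11_1 lc_c_rc_2_3 lc_c_rc_13_2 lc_c_rc_24_2 lc_c_rc_24_8 lc_c_rc_26_2 lc_c_rc_11_1 lc_c_rc_11_1 lc_c_rc_2_1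 lc_c_rc_13_2 lc_c_rc_7_1 lc_c_rc_24_2 lc_c_rc_13_2 lc_c_Cert_tree lc_c_rc_13_2 lc_c_rc_26_2 lc_c_rc_22_3) (@D3.rec (fun _ => (Cert rels S Gen.c)) lc_c_rc_11_1 lc_c_rc_13_2 lc_c_rc_7_5 lc_c_rc_11_1 lc_c_rc_26_2 lc_c_rc_11_1 lc_c_rc_22_3 lc_c_rc_24_2 lc_c_rc_7_5 lc_c_rc_11_1 lc_c_rc_7_3 lc_c_rc_11_1 lc_c_rc_11_1 lc_c_rc_11_1 lc_c_rc_13_2 lc_c_rc_26_10 lc_c_rc_2_3 lc_c_Cert_tree lc_c_rc_11_1 lc_c_rc_2_3 lc_c_rc_13_2 lc_c_Cert_tree lc_c_rc_7_3 lc_c_rc_11_1 lc_c_rc_13_2 lc_c_rc_14_2 lc_c_rc_11_1 lc_c_Cert_tree lc_c_Cert_tree lc_c_rc_7_5 lc_c_rc_11_1 lc_c_Cert_tree lc_c_rc_13_2 lc_c_rc_2_1 lc_c_rc_13_2 lc_c_rc_7_5 lc_c_rc_23_5 lc_c_rc_7_3 lc_c_rc_23_5 lc_c_rc_26_4 lc_c_rc_11_1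 lc_c_rc_26_2 lc_c_rc_13_2 lc_c_Cert_tree lc_c_Cert_tree lc_c_Cert_tree lc_c_rc_11_1 lc_c_rc_13_2 lc_c_Cert_tree lc_c_Cert_tree lc_c_rc_13_2 lc_c_rc_7_5 lc_c_rc_13_2 lc_c_rc_7_3 lc_c_rc_11_1 lc_c_Cert_tree lc_c_rc_13_2 lc_c_rc_7_1 lc_c_rc_11_1 lc_c_Cert_tree lc_c_Cert_tree lc_c_rc_24_4) (@D3.rec (fun _ => (Cert rels S Gen.c)) lc_c_Cert_tree lc_c_Cert_tree lc_c_rc_11_1 lc_c_rc_14_0 lc_c_rc_23_0 lc_c_Cert_tree lc_c_rc_13_2 lc_c_rc_26_4 lc_c_rc_25_1 lc_c_rc_7_5 lc_c_rc_7_3 lc_c_rc_13_2 lc_c_Cert_tree lc_c_rc_26_2 lc_c_rc_2_1 lc_c_rc_13_0 lc_c_rc_13_2 lc_c_rc_26_4 lc_c_Cert_tree lc_c_rc_11_1 lc_c_rc_14_2 lc_c_rc_13_2 lc_c_rc_11_1 lc_c_Cert_tree lc_c_Cert_tree lc_c_rc_11_1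 lc_c_rc_25_1 lc_c_Cert_tree lc_c_rc_11_1 lc_c_rc_13_2 lc_c_Cert_tree lc_c_rc_11_1 lc_c_rc_13_2 lc_c_rc_24_4 lc_c_rc_24_6 lc_c_rc_12_4 lc_c_rc_14_2 lc_c_Cert_tree lc_c_rc_14_2 lc_c_rc_13_2 lc_c_rc_22_5 lc_c_rc_22_5 lc_c_rc_11_1 lc_c_rc_22_3 lc_c_rc_2_3 lc_c_rc_13_2 lc_c_rc_24_6 lc_c_rc_13_0 lc_c_Cert_tree lc_c_rc_11_1 lc_c_rc_13_2 lc_c_rc_13_0 lc_c_rc_11_1 lc_c_rc_11_1 lc_c_rc_14_2 lc_c_Cert_tree lc_c_rc_11_1 lc_c_Cert_tree lc_c_rc_7_5 lc_c_Cert_tree lc_c_rc_13_2 lc_c_Cert_tree) (@D3.rec (fun _ => (Cert rels S Gen.c)) lc_c_rc_11_1 lc_c_rc_11_1 lc_c_Cert_tree lc_c_rc_13_2 lc_c_rc_13_2 lc_c_rc_7_3 lc_c_Cert_tree lc_c_rc_11_1 lc_c_rc_26_4 lc_c_rc_23_5 lc_c_rc_26_10 lc_c_rc_23_5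 lc_c_rc_22_9 lc_c_rc_14_2 lc_c_rc_7_3 lc_c_Cert_tree lc_c_Cert_tree lc_c_Cert_tree lc_c_rc_11_1 lc_c_rc_13_0 lc_c_rc_13_2 lc_c_rc_26_2 lc_c_Cert_tree lc_c_rc_11_1 lc_c_rc_11_1 lc_c_rc_13_0 lc_c_rc_11_1 lc_c_rc_26_4 lc_c_rc_11_1 lc_c_rc_2_3 lc_c_rc_11_1 lc_c_rc_23_5 lc_c_rc_7_3 lc_c_rc_13_2 lc_c_rc_24_6 lc_c_rc_7_3 lc_c_rc_13_2 lc_c_Cert_tree lc_c_rc_26_2 lc_c_rc_11_1 lc_c_rc_14_2 lc_c_rc_13_2 lc_c_rc_14_2 lc_c_rc_7_5 lc_c_rc_13_2 lc_c_Cert_tree lc_c_rc_2_1 lc_c_rc_11_1 lc_c_rc_24_2 lc_c_rc_26_4 lc_c_rc_14_2 lc_c_rc_26_2 lc_c_Cert_tree lc_c_Cert_tree lc_c_rc_11_1 lc_c_Cert_tree lc_c_Cert_tree lc_c_rc_11_1 lc_c_rc_11_1 lc_c_rc_22_5 lc_c_rc_11_1 lc_c_rc_13_2) (@D3.rec (fun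 _ => (Cert rels S Gen.c)) lc_c_rc_7_1 lc_c_rc_23_5 lc_c_rc_13_0 lc_c_rc_7_5 lc_c_rc_26_2 lc_c_rc_13_2 lc_c_rc_7_1 lc_c_rc_11_1 lc_c_rc_13_2 lc_c_rc_11_1 lc_c_rc_13_2 lc_c_rc_24_6 lc_c_rc_13_0 lc_c_rc_26_2 lc_c_rc_14_2 lc_c_rc_22_3 lc_c_rc_13_2 lc_c_rc_11_1 lc_c_rc_26_10 lc_c_rc_7_5 lc_c_rc_13_2 lc_c_rc_26_10 lc_c_Cert_tree lc_c_rc_14_2 lc_c_rc_11_1 lc_c_rc_7_3 lc_c_rc_2_1 lc_c_rc_13_2 lc_c_rc_23_0 lc_c_rc_11_1 lc_c_rc_24_6 lc_c_rc_11_1 lc_c_rc_11_1 lc_c_rc_26_10 lc_c_rc_26_2 lc_c_rc_11_1 lc_c_rc_13_2 lc_c_rc_24_4 lc_c_rc_13_2 lc_c_Cert_tree lc_c_Cert_tree lc_c_rc_14_2 lc_c_rc_7_3 lc_c_rc_11_1 lc_c_Cert_tree lc_c_rc_13_2 lc_c_rc_24_4 lc_c_rc_11_1 lc_c_rc_13_2 lc_c_rc_26_10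 lc_c_rc_7_5 lc_c_rc_26_4 lc_c_rc_11_1 lc_c_rc_2_3 lc_c_rc_13_2 lc_c_rc_11_1 lc_c_rc_23_5 lc_c_rc_26_4 lc_c_rc_26_8 lc_c_rc_24_4 lc_c_rc_23_5 lc_c_rc_13_2) (@D3.rec (fun _ => (Cert rels S Gen.c)) lc_c_rc_23_0 lc_c_rc_13_0 lc_c_rc_13_2 lc_c_rc_11_1 lc_c_rc_24_2 lc_c_rc_7_3 lc_c_rc_11_1 lc_c_rc_13_2 lc_c_Cert_tree lc_c_Cert_tree lc_c_rc_2_3 lc_c_rc_13_2 lc_c_rc_22_3 lc_c_rc_13_2 lc_c_rc_13_2 lc_c_rc_23_0 lc_c_rc_25_9 lc_c_rc_23_5 lc_c_rc_11_1 lc_c_rc_2_3 lc_c_rc_13_2 lc_c_rc_25_5 lc_c_rc_14_2 lc_c_rc_13_2 lc_c_rc_13_2 lc_c_rc_13_2 lc_c_rc_26_4 lc_c_rc_26_8 lc_c_rc_24_6 lc_c_rc_26_2 lc_c_rc_23_5 lc_c_rc_26_4 lc_c_rc_11_1 lc_c_Cert_tree lc_c_rc_11_1 lc_c_rc_25_5 lc_c_rc_2_1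 lc_c_rc_13_2 lc_c_rc_11_1 lc_c_rc_13_2 lc_c_rc_7_3 lc_c_rc_11_1 lc_c_rc_23_0 lc_c_rc_7_1 lc_c_rc_22_3 lc_c_rc_23_5 lc_c_rc_23_5 lc_c_rc_14_2 lc_c_rc_7_5 lc_c_rc_7_3 lc_c_rc_13_2 lc_c_Cert_tree lc_c_rc_11_1 lc_c_rc_12_14 lc_c_rc_24_6 lc_c_rc_13_2 lc_c_rc_14_2 lc_c_rc_7_3 lc_c_rc_11_1 lc_c_rc_26_4 lc_c_rc_11_1 lc_c_rc_13_2) (@D3.rec (fun _ => (Cert rels S Gen.c)) lc_c_rc_26_4 lc_c_rc_11_1 lc_c_rc_24_8 lc_c_rc_7_3 lc_c_rc_11_1 lc_c_rc_11_1 lc_c_rc_13_2 lc_c_rc_11_1 lc_c_rc_11_1 lc_c_rc_11_1 lc_c_rc_26_2 lc_c_rc_26_4 lc_c_rc_23_0 lc_c_rc_14_0 lc_c_rc_14_2 lc_c_rc_7_5 lc_c_rc_7_5 lc_c_rc_14_2 lc_c_rc_22_3 lc_c_Cert_tree lc_c_rc_11_1 lc_c_rc_2_3 lc_c_rc_11_1 lc_c_Cert_tree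 lc_c_rc_11_1 lc_c_rc_7_1 lc_c_Cert_tree lc_c_rc_2_3 lc_c_rc_7_3 lc_c_Cert_tree lc_c_rc_14_2 lc_c_rc_26_4 lc_c_rc_11_1 lc_c_rc_7_1 lc_c_rc_2_1 lc_c_rc_13_2 lc_c_Cert_tree lc_c_rc_2_1 lc_c_Cert_tree lc_c_rc_14_2 lc_c_rc_24_8 lc_c_rc_11_1 lc_c_rc_13_0 lc_c_rc_11_1 lc_c_rc_26_10 lc_c_rc_25_5 lc_c_rc_11_1 lc_c_rc_11_1 lc_c_rc_13_2 lc_c_rc_25_17 lc_c_rc_13_2 lc_c_rc_26_10 lc_c_rc_11_1 lc_c_rc_7_3 lc_c_rc_11_1 lc_c_Cert_tree lc_c_rc_24_4 lc_c_rc_14_2 lc_c_rc_24_2 lc_c_rc_23_0 lc_c_rc_14_2 lc_c_rc_13_0)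
def ce_c_19 : D2 → D3 → (Cert rels S Gen.c) := @D2.rec (fun _ => D3 → (Cert rels S Gen.c)) (@D3.rec (fun _ => (Cert rels S Gen.c)) lc_c_rc_14_0 lc_c_rc_11_1 lc_c_rc_7_5 lc_c_rc_2_1 lc_c_rc_13_2 lc_c_rc_12_14 lc_c_rc_13_2 lc_c_rc_14_2 lc_c_rc_26_10 lc_c_rc_11_1 lc_c_rc_11_1 lc_c_rc_7_3 lc_c_rc_13_0 lc_c_rc_22_5 lc_c_rc_14_2 lc_c_rc_13_2 lc_c_rc_22_5 lc_c_rc_24_8 lc_c_rc_14_0 lc_c_rc_14_2 lc_c_rc_14_2 lc_c_rc_11_1 lc_c_rc_11_1 lc_c_Cert_tree lc_c_rc_26_4 lc_c_rc_13_0 lc_c_rc_24_6 lc_c_rc_11_1 lc_c_rc_11_1 lc_c_rc_11_1 lc_c_rc_13_2 lc_c_rc_7_5 lc_c_rc_13_2 lc_c_rc_23_5 lc_c_rc_11_1 lc_c_Cert_tree lc_c_rc_22_9 lc_c_rc_11_1 lc_c_rc_13_2 lc_c_rc_26_8 lc_c_rc_11_1 lc_c_rc_13_2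 lc_c_rc_25_9 lc_c_rc_26_8 lc_c_rc_13_0 lc_c_rc_24_8 lc_c_rc_13_2 lc_c_rc_22_9 lc_c_rc_11_1 lc_c_Cert_tree lc_c_rc_11_1 lc_c_rc_13_2 lc_c_rc_7_5 lc_c_rc_11_1 lc_c_rc_11_1 lc_c_rc_13_2 lc_c_rc_12_14 lc_c_rc_22_7 lc_c_rc_7_5 lc_c_rc_26_2 lc_c_rc_23_0 lc_c_rc_23_0) (@D3.rec (fun _ => (Cert rels S Gen.c)) lc_c_rc_11_1 lc_c_rc_22_3 lc_c_rc_7_3 lc_c_rc_22_5 lc_c_rc_11_1 lc_c_rc_11_1 lc_c_rc_7_3 lc_c_rc_24_2 lc_c_rc_24_4 lc_c_rc_24_2 lc_c_rc_7_3 lc_c_rc_13_2 lc_c_rc_11_1 lc_c_rc_26_8 lc_c_Cert_tree lc_c_rc_13_2 lc_c_rc_11_1 lc_c_rc_13_2 lc_c_rc_13_0 lc_c_rc_11_1 lc_c_rc_11_1 lc_c_rc_13_2 lc_c_rc_22_5 lc_c_rc_23_0 lc_c_rc_24_4 lc_c_rc_14_2 lc_c_rc_7_5 lc_c_rc_11_1 lc_c_rc_13_2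 lc_c_rc_11_1 lc_c_rc_22_3 lc_c_rc_14_2 lc_c_Cert_tree lc_c_rc_22_3 lc_c_rc_13_2 lc_c_rc_13_0 lc_c_rc_14_2 lc_c_rc_13_0 lc_c_Cert_tree lc_c_rc_14_2 lc_c_rc_26_2 lc_c_rc_11_1 lc_c_rc_14_2 lc_c_rc_11_1 lc_c_rc_13_2 lc_c_rc_13_2 lc_c_rc_11_1 lc_c_Cert_tree lc_c_rc_24_4 lc_c_rc_23_0 lc_c_rc_14_2 lc_c_rc_11_1 lc_c_rc_13_0 lc_c_rc_13_2 lc_c_rc_14_2 lc_c_rc_11_1 lc_c_rc_13_2 lc_c_rc_26_2 lc_c_rc_11_1 lc_c_rc_24_4 lc_c_rc_13_2 lc_c_rc_14_2) (@D3.rec (fun _ => (Cert rels S Gen.c)) lc_c_rc_11_1 lc_c_rc_11_1 lc_c_rc_2_3 lc_c_rc_22_9 lc_c_rc_14_2 lc_c_rc_13_2 lc_c_rc_26_4 lc_c_rc_13_2 lc_c_rc_13_2 lc_c_rc_11_1 lc_c_rc_13_2 lc_c_rc_2_3 lc_c_rc_22_5 lc_c_rc_26_2 lc_c_rc_7_3 lc_c_rc_13_2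 lc_c_rc_24_4 lc_c_rc_12_2 lc_c_rc_23_0 lc_c_Cert_tree lc_c_rc_23_0 lc_c_rc_13_2 lc_c_rc_13_0 lc_c_rc_23_5 lc_c_rc_22_3 lc_c_rc_14_2 lc_c_rc_11_1 lc_c_rc_26_4 lc_c_rc_11_1 lc_c_rc_13_2 lc_c_rc_24_6 lc_c_rc_26_8 lc_c_rc_13_2 lc_c_rc_11_1 lc_c_rc_7_1 lc_c_Cert_tree lc_c_Cert_tree lc_c_rc_11_1 lc_c_rc_2_3 lc_c_Cert_tree lc_c_rc_13_2 lc_c_rc_13_2 lc_c_rc_11_1 lc_c_rc_23_0 lc_c_Cert_tree lc_c_rc_14_2 lc_c_rc_11_1 lc_c_Cert_tree lc_c_rc_13_0 lc_c_rc_11_1 lc_c_Cert_tree lc_c_rc_13_2 lc_c_rc_13_2 lc_c_Cert_tree lc_c_rc_14_2 lc_c_rc_26_10 lc_c_rc_11_1 lc_c_rc_2_3 lc_c_rc_22_9 lc_c_rc_13_2 lc_c_rc_13_2 lc_c_Cert_tree) (@D3.rec (fun _ => (Cert rels S Gen.c)) lc_c_rc_14_2 lc_c_rc_7_3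 lc_c_rc_2_1 lc_c_rc_26_4 lc_c_rc_11_1 lc_c_rc_13_2 lc_c_rc_14_2 lc_c_rc_26_8 lc_c_rc_11_1 lc_c_rc_13_2 lc_c_rc_7_3 lc_c_rc_13_0 lc_c_rc_24_4 lc_c_rc_11_1 lc_c_rc_13_2 lc_c_rc_14_2 lc_c_Cert_tree lc_c_rc_13_2 lc_c_rc_26_8 lc_c_rc_26_10 lc_c_rc_14_2 lc_c_Cert_tree lc_c_rc_11_1 lc_c_rc_2_3 lc_c_rc_26_8 lc_c_rc_11_1 lc_c_rc_2_3 lc_c_rc_7_5 lc_c_rc_11_1 lc_c_rc_2_3 lc_c_rc_13_2 lc_c_Cert_tree lc_c_rc_14_2 lc_c_rc_11_1 lc_c_rc_11_1 lc_c_rc_11_1 lc_c_rc_13_2 lc_c_Cert_tree lc_c_rc_26_4 lc_c_rc_11_1 lc_c_rc_2_3 lc_c_Cert_tree lc_c_rc_11_1 lc_c_rc_26_2 lc_c_rc_11_1 lc_c_rc_7_1 lc_c_rc_2_3 lc_c_rc_13_2 lc_c_rc_24_4 lc_c_Cert_tree lc_c_rc_7_3 lc_c_rc_13_0 lc_c_rc_7_5 lc_c_Cert_tree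 lc_c_Cert_tree lc_c_Cert_tree lc_c_rc_11_1 lc_c_rc_14_2 lc_c_Cert_tree lc_c_rc_26_10 lc_c_rc_11_1 lc_c_rc_2_3) (@D3.rec (fun _ => (Cert rels S Gen.c)) lc_c_rc_7_3 lc_c_rc_26_4 lc_c_rc_12_2 lc_c_rc_13_2 lc_c_rc_25_5 lc_c_rc_2_3 lc_c_rc_13_2 lc_c_rc_24_6 lc_c_rc_11_1 lc_c_rc_22_5 lc_c_rc_23_0 lc_c_rc_11_1 lc_c_Cert_tree lc_c_rc_7_3 lc_c_rc_7_5 lc_c_Cert_tree lc_c_rc_7_5 lc_c_Cert_tree lc_c_Cert_tree lc_c_rc_11_1 lc_c_rc_14_2 lc_c_rc_7_3 lc_c_rc_13_0 lc_c_rc_11_1 lc_c_rc_2_3 lc_c_rc_13_2 lc_c_rc_24_8 lc_c_rc_26_4 lc_c_rc_11_1 lc_c_Cert_tree lc_c_rc_11_1 lc_c_rc_14_0 lc_c_rc_13_2 lc_c_Cert_tree lc_c_rc_13_2 lc_c_rc_13_2 lc_c_rc_24_2 lc_c_rc_26_4 lc_c_rc_14_0 lc_c_rc_24_2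 lc_c_rc_13_2 lc_c_rc_7_5 lc_c_rc_13_2 lc_c_rc_24_6 lc_c_rc_26_2 lc_c_rc_26_10 lc_c_rc_13_2 lc_c_rc_11_1 lc_c_rc_23_5 lc_c_rc_13_2 lc_c_rc_26_8 lc_c_rc_26_8 lc_c_rc_22_7 lc_c_rc_13_2 lc_c_rc_22_3 lc_c_rc_22_5 lc_c_rc_11_1 lc_c_rc_26_4 lc_c_rc_22_3 lc_c_rc_11_1 lc_c_rc_11_1 lc_c_rc_22_7) (@D3.rec (fun _ => (Cert rels S Gen.c)) lc_c_rc_12_0 lc_c_rc_12_0 lc_c_rc_13_2 lc_c_rc_11_1 lc_c_rc_26_4 lc_c_rc_13_2 lc_c_rc_2_1 lc_c_rc_13_2 lc_c_rc_14_2 lc_c_rc_22_7 lc_c_rc_26_4 lc_c_rc_11_1 lc_c_rc_26_8 lc_c_rc_11_1 lc_c_rc_2_3 lc_c_rc_26_4 lc_c_rc_11_1 lc_c_rc_26_4 lc_c_Cert_tree lc_c_rc_11_1 lc_c_rc_11_1 lc_c_rc_26_2 lc_c_rc_13_2 lc_c_Cert_tree lc_c_rc_14_2 lc_c_rc_26_4 lc_c_rc_11_1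 lc_c_Cert_tree lc_c_rc_7_5 lc_c_rc_24_6 lc_c_rc_7_3 lc_c_rc_13_2 lc_c_rc_24_4 lc_c_rc_13_2 lc_c_rc_13_2 lc_c_rc_11_1 lc_c_rc_13_2 lc_c_rc_11_1 lc_c_rc_11_1 lc_c_rc_11_1 lc_c_rc_13_2 lc_c_Cert_tree lc_c_rc_11_1 lc_c_rc_11_1 lc_c_Cert_tree lc_c_rc_22_3 lc_c_rc_13_0 lc_c_rc_11_1 lc_c_rc_23_5 lc_c_rc_26_8 lc_c_rc_11_1 lc_c_rc_22_7 lc_c_rc_24_2 lc_c_rc_7_5 lc_c_rc_11_1 lc_c_rc_13_2 lc_c_rc_13_0 lc_c_Cert_tree lc_c_rc_23_5 lc_c_rc_13_2 lc_c_Cert_tree lc_c_rc_14_2) (@D3.rec (fun _ => (Cert rels S Gen.c)) lc_c_rc_26_2 lc_c_rc_13_2 lc_c_rc_22_5 lc_c_rc_22_3 lc_c_rc_22_7 lc_c_rc_22_3 lc_c_rc_24_2 lc_c_Cert_tree lc_c_rc_13_2 lc_c_rc_7_3 lc_c_rc_13_2 lc_c_Cert_tree lc_c_rc_14_2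 lc_c_rc_13_2 lc_c_rc_2_3 lc_c_rc_7_5 lc_c_rc_13_2 lc_c_rc_11_1 lc_c_rc_2_3 lc_c_rc_2_3 lc_c_rc_13_2 lc_c_rc_13_2 lc_c_Cert_tree lc_c_rc_14_2 lc_c_rc_11_1 lc_c_rc_13_2 lc_c_Cert_tree lc_c_rc_14_2 lc_c_rc_13_2 lc_c_rc_13_2 lc_c_rc_24_4 lc_c_rc_11_1 lc_c_Cert_tree lc_c_rc_23_0 lc_c_rc_26_2 lc_c_rc_11_1 lc_c_Cert_tree lc_c_rc_13_2 lc_c_rc_14_2 lc_c_Cert_tree lc_c_Cert_tree lc_c_rc_11_1 lc_c_rc_11_1 lc_c_rc_2_3 lc_c_rc_22_3 lc_c_Cert_tree lc_c_Cert_tree lc_c_rc_24_6 lc_c_rc_13_2 lc_c_Cert_tree lc_c_Cert_tree lc_c_rc_7_5 lc_c_rc_7_3 lc_c_rc_7_3 lc_c_rc_13_2 lc_c_rc_7_3 lc_c_rc_2_3 lc_c_rc_22_5 lc_c_rc_13_2 lc_c_Cert_tree lc_c_rc_11_1 lc_c_Cert_tree) (@D3.rec (fun _ => (Cert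 rels S Gen.c)) lc_c_rc_13_2 lc_c_rc_13_2 lc_c_rc_7_3 lc_c_rc_11_1 lc_c_rc_2_3 lc_c_Cert_tree lc_c_rc_13_2 lc_c_rc_26_4 lc_c_rc_11_1 lc_c_rc_7_5 lc_c_rc_24_2 lc_c_Cert_tree lc_c_rc_11_1 lc_c_rc_24_6 lc_c_rc_11_1 lc_c_Cert_tree lc_c_rc_11_1 lc_c_rc_13_2 lc_c_Cert_tree lc_c_Cert_tree lc_c_rc_13_2 lc_c_rc_24_2 lc_c_rc_11_1 lc_c_rc_13_2 lc_c_rc_11_1 lc_c_rc_13_2 lc_c_rc_26_10 lc_c_rc_13_2 lc_c_Cert_tree lc_c_rc_14_2 lc_c_rc_11_1 lc_c_rc_22_3 lc_c_Cert_tree lc_c_Cert_tree lc_c_rc_11_1 lc_c_rc_7_3 lc_c_rc_11_1 lc_c_Cert_tree lc_c_rc_2_3 lc_c_rc_13_2 lc_c_rc_23_0 lc_c_rc_22_7 lc_c_rc_14_2 lc_c_Cert_tree lc_c_rc_23_0 lc_c_Cert_tree lc_c_rc_11_1 lc_c_rc_11_1 lc_c_rc_13_2 lc_c_rc_7_3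 lc_c_rc_2_1 lc_c_rc_7_5 lc_c_rc_26_4 lc_c_rc_2_3 lc_c_Cert_tree lc_c_rc_14_2 lc_c_rc_13_2 lc_c_rc_24_2 lc_c_rc_11_1 lc_c_rc_11_1 lc_c_rc_13_2 lc_c_rc_26_10) (@D3.rec (fun _ => (Cert rels S Gen.c)) lc_c_rc_11_1 lc_c_rc_22_7 lc_c_rc_24_6 lc_c_rc_24_2 lc_c_rc_13_2 lc_c_Cert_tree lc_c_rc_13_2 lc_c_Cert_tree lc_c_rc_13_0 lc_c_rc_24_6 lc_c_rc_14_2 lc_c_rc_7_3 lc_c_Cert_tree lc_c_rc_7_3 lc_c_Cert_tree lc_c_rc_13_2 lc_c_Cert_tree lc_c_rc_11_1 lc_c_rc_14_2 lc_c_rc_13_0 lc_c_rc_11_1 lc_c_rc_7_3 lc_c_Cert_tree lc_c_rc_13_2 lc_c_rc_26_4 lc_c_rc_11_1 lc_c_rc_11_1 lc_c_Cert_tree lc_c_rc_2_1 lc_c_rc_11_1 lc_c_rc_13_0 lc_c_rc_11_1 lc_c_Cert_tree lc_c_rc_11_1 lc_c_Cert_tree lc_c_rc_14_2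 lc_c_rc_7_5 lc_c_Cert_tree lc_c_rc_26_10 lc_c_rc_7_3 lc_c_rc_23_0 lc_c_rc_7_5 lc_c_rc_11_1 lc_c_rc_22_5 lc_c_rc_11_1 lc_c_rc_13_2 lc_c_rc_13_2 lc_c_rc_11_1 lc_c_rc_26_4 lc_c_rc_11_1 lc_c_rc_22_7 lc_c_rc_26_4 lc_c_rc_11_1 lc_c_rc_25_17 lc_c_rc_7_1 lc_c_rc_13_2 lc_c_rc_23_0 lc_c_rc_11_1 lc_c_rc_11_1 lc_c_rc_24_2 lc_c_Cert_tree lc_c_rc_7_3) (@D3.rec (fun _ => (Cert rels S Gen.c)) lc_c_rc_14_2 lc_c_rc_26_8 lc_c_rc_13_0 lc_c_rc_11_1 lc_c_rc_14_2 lc_c_rc_14_2 lc_c_rc_11_1 lc_c_rc_14_2 lc_c_rc_11_1 lc_c_Cert_tree lc_c_Cert_tree lc_c_rc_11_1 lc_c_Cert_tree lc_c_rc_13_2 lc_c_rc_7_5 lc_c_rc_13_2 lc_c_Cert_tree lc_c_Cert_tree lc_c_rc_11_1 lc_c_rc_13_2 lc_c_Cert_tree lc_c_Cert_tree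 lc_c_Cert_tree lc_c_rc_14_2 lc_c_rc_7_5 lc_c_rc_26_4 lc_c_Cert_tree lc_c_rc_14_2 lc_c_rc_11_1 lc_c_rc_14_2 lc_c_rc_22_3 lc_c_rc_13_2 lc_c_rc_7_5 lc_c_rc_22_5 lc_c_rc_13_2 lc_c_rc_11_1 lc_c_rc_7_3 lc_c_rc_13_2 lc_c_rc_13_2 lc_c_rc_11_1 lc_c_rc_13_2 lc_c_rc_22_3 lc_c_rc_24_6 lc_c_rc_22_5 lc_c_rc_14_2 lc_c_Cert_tree lc_c_rc_7_1 lc_c_Cert_tree lc_c_rc_23_0 lc_c_rc_25_1 lc_c_rc_11_1 lc_c_rc_13_2 lc_c_Cert_tree lc_c_rc_11_1 lc_c_rc_13_2 lc_c_Cert_tree lc_c_rc_11_1 lc_c_rc_22_5 lc_c_rc_23_0 lc_c_Cert_tree lc_c_rc_7_3 lc_c_rc_26_4) (@D3.rec (fun _ => (Cert rels S Gen.c)) lc_c_rc_13_2 lc_c_rc_14_2 lc_c_Cert_tree lc_c_Cert_tree lc_c_rc_24_6 lc_c_rc_11_1 lc_c_rc_7_3 lc_c_rc_11_1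 lc_c_rc_13_0 lc_c_rc_11_1 lc_c_rc_22_3 lc_c_rc_26_2 lc_c_rc_26_2 lc_c_Cert_tree lc_c_rc_14_2 lc_c_rc_14_0 lc_c_rc_11_1 lc_c_rc_26_10 lc_c_Cert_tree lc_c_rc_13_0 lc_c_rc_11_1 lc_c_rc_25_13 lc_c_rc_13_2 lc_c_Cert_tree lc_c_rc_11_1 lc_c_rc_2_3 lc_c_rc_13_2 lc_c_rc_26_2 lc_c_rc_24_2 lc_c_rc_22_3 lc_c_rc_13_2 lc_c_Cert_tree lc_c_Cert_tree lc_c_rc_13_2 lc_c_rc_26_4 lc_c_rc_11_1 lc_c_rc_13_2 lc_c_rc_13_2 lc_c_rc_22_3 lc_c_rc_2_3 lc_c_rc_13_2 lc_c_rc_26_2 lc_c_rc_24_2 lc_c_rc_13_2 lc_c_rc_11_1 lc_c_rc_23_5 lc_c_rc_13_2 lc_c_rc_11_1 lc_c_rc_14_2 lc_c_rc_24_4 lc_c_rc_11_1 lc_c_rc_13_2 lc_c_rc_12_2 lc_c_rc_14_2 lc_c_rc_14_0 lc_c_Cert_tree lc_c_rc_11_1 lc_c_rc_2_3 lc_c_rc_11_1 lc_c_rc_14_2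 lc_c_rc_26_4 lc_c_rc_11_1) (@D3.rec (fun _ => (Cert rels S Gen.c)) lc_c_Cert_tree lc_c_rc_13_2 lc_c_rc_11_1 lc_c_rc_11_1 lc_c_rc_11_1 lc_c_rc_7_3 lc_c_Cert_tree lc_c_rc_7_3 lc_c_Cert_tree lc_c_rc_13_2 lc_c_rc_13_2 lc_c_rc_13_2 lc_c_Cert_tree lc_c_rc_14_2 lc_c_rc_7_3 lc_c_Cert_tree lc_c_rc_11_1 lc_c_rc_2_3 lc_c_rc_13_2 lc_c_rc_26_4 lc_c_rc_11_1 lc_c_rc_13_2 lc_c_rc_26_8 lc_c_rc_11_1 lc_c_rc_13_2 lc_c_rc_13_2 lc_c_Cert_tree lc_c_rc_14_2 lc_c_rc_7_5 lc_c_Cert_tree lc_c_rc_7_3 lc_c_Cert_tree lc_c_Cert_tree lc_c_rc_11_1 lc_c_rc_22_3 lc_c_rc_24_2 lc_c_rc_7_3 lc_c_Cert_tree lc_c_rc_24_2 lc_c_rc_13_2 lc_c_rc_11_1 lc_c_rc_13_2 lc_c_rc_13_2 lc_c_rc_24_6 lc_c_Cert_tree lc_c_rc_11_1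 lc_c_rc_23_0 lc_c_rc_13_2 lc_c_rc_13_0 lc_c_rc_11_1 lc_c_Cert_tree lc_c_Cert_tree lc_c_Cert_tree lc_c_rc_13_0 lc_c_Cert_tree lc_c_rc_11_1 lc_c_rc_26_4 lc_c_rc_11_1 lc_c_Cert_tree lc_c_rc_13_2 lc_c_Cert_tree lc_c_rc_11_1) (@D3.rec (fun _ => (Cert rels S Gen.c)) lc_c_Cert_tree lc_c_rc_13_2 lc_c_rc_13_2 lc_c_Cert_tree lc_c_rc_11_1 lc_c_Cert_tree lc_c_Cert_tree lc_c_Cert_tree lc_c_rc_14_2 lc_c_rc_23_0 lc_c_rc_22_9 lc_c_rc_11_1 lc_c_rc_24_8 lc_c_rc_11_1 lc_c_Cert_tree lc_c_rc_11_1 lc_c_rc_11_1 lc_c_rc_11_1 lc_c_rc_2_3 lc_c_Cert_tree lc_c_rc_13_2 lc_c_rc_7_5 lc_c_rc_11_1 lc_c_rc_13_2 lc_c_Cert_tree lc_c_Cert_tree lc_c_Cert_tree lc_c_rc_26_10 lc_c_rc_11_1 lc_c_Cert_tree lc_c_rc_13_0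 lc_c_rc_24_2 lc_c_rc_11_1 lc_c_rc_11_1 lc_c_rc_7_5 lc_c_rc_2_1 lc_c_rc_11_1 lc_c_rc_11_1 lc_c_rc_13_2 lc_c_Cert_tree lc_c_rc_7_1 lc_c_rc_13_2 lc_c_rc_22_5 lc_c_rc_14_2 lc_c_rc_2_1 lc_c_rc_7_5 lc_c_rc_11_1 lc_c_rc_13_2 lc_c_rc_13_2 lc_c_rc_13_2 lc_c_rc_22_3 lc_c_rc_2_1 lc_c_rc_22_5 lc_c_rc_13_0 lc_c_rc_22_3 lc_c_rc_13_2 lc_c_rc_24_4 lc_c_rc_24_2 lc_c_rc_12_2 lc_c_Cert_tree lc_c_rc_11_1 lc_c_Cert_tree) (@D3.rec (fun _ => (Cert rels S Gen.c)) lc_c_Cert_tree lc_c_rc_11_1 lc_c_Cert_tree lc_c_Cert_tree lc_c_rc_23_0 lc_c_rc_26_4 lc_c_rc_12_2 lc_c_rc_11_1 lc_c_rc_22_5 lc_c_Cert_tree lc_c_rc_26_8 lc_c_rc_7_3 lc_c_rc_11_1 lc_c_rc_13_2 lc_c_rc_11_1 lc_c_rc_22_9 lc_c_rc_26_2 lc_c_rc_22_5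 lc_c_Cert_tree lc_c_Cert_tree lc_c_rc_11_1 lc_c_rc_14_2 lc_c_Cert_tree lc_c_rc_26_4 lc_c_Cert_tree lc_c_Cert_tree lc_c_rc_11_1 lc_c_rc_2_1 lc_c_rc_11_1 lc_c_rc_22_5 lc_c_rc_13_2 lc_c_rc_13_2 lc_c_rc_11_1 lc_c_rc_12_0 lc_c_Cert_tree lc_c_rc_11_1 lc_c_rc_13_2 lc_c_rc_7_3 lc_c_rc_11_1 lc_c_rc_11_1 lc_c_rc_23_5 lc_c_rc_7_3 lc_c_rc_22_7 lc_c_rc_14_2 lc_c_rc_13_2 lc_c_rc_7_5 lc_c_Cert_tree lc_c_Cert_tree lc_c_Cert_tree lc_c_Cert_tree lc_c_rc_11_1 lc_c_rc_7_1 lc_c_rc_11_1 lc_c_rc_13_2 lc_c_rc_11_1 lc_c_rc_13_2 lc_c_rc_7_3 lc_c_rc_11_1 lc_c_rc_13_2 lc_c_rc_11_1 lc_c_rc_13_2 lc_c_rc_11_1) (@D3.rec (fun _ => (Cert rels S Gen.c)) lc_c_rc_11_1 lc_c_rc_26_10 lc_c_rc_11_1 lc_c_rc_13_2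 lc_c_rc_24_8 lc_c_rc_14_2 lc_c_rc_23_5 lc_c_rc_24_6 lc_c_rc_11_1 lc_c_rc_13_2 lc_c_rc_22_5 lc_c_rc_12_14 lc_c_rc_11_1 lc_c_rc_7_1 lc_c_rc_22_5 lc_c_rc_7_1 lc_c_rc_13_2 lc_c_rc_11_1 lc_c_rc_24_6 lc_c_rc_13_2 lc_c_rc_26_4 lc_c_rc_13_2 lc_c_rc_23_0 lc_c_rc_13_2 lc_c_rc_26_10 lc_c_rc_11_1 lc_c_rc_14_2 lc_c_rc_11_1 lc_c_rc_2_3 lc_c_rc_13_2 lc_c_Cert_tree lc_c_rc_11_1 lc_c_Cert_tree lc_c_rc_26_2 lc_c_rc_11_1 lc_c_Cert_tree lc_c_rc_13_2 lc_c_Cert_tree lc_c_rc_13_2 lc_c_Cert_tree lc_c_Cert_tree lc_c_rc_11_1 lc_c_rc_13_2 lc_c_Cert_tree lc_c_Cert_tree lc_c_rc_22_3 lc_c_rc_14_2 lc_c_rc_24_4 lc_c_rc_24_4 lc_c_rc_12_14 lc_c_rc_14_2 lc_c_rc_11_1 lc_c_rc_24_2 lc_c_Cert_tree lc_c_rc_13_0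 lc_c_rc_11_1 lc_c_rc_14_2 lc_c_rc_26_4 lc_c_rc_11_1 lc_c_rc_13_2 lc_c_rc_11_1 lc_c_rc_13_2) (@D3.rec (fun _ => (Cert rels S Gen.c)) lc_c_rc_26_2 lc_c_rc_23_0 lc_c_rc_7_3 lc_c_rc_22_9 lc_c_rc_13_2 lc_c_rc_26_4 lc_c_rc_13_2 lc_c_rc_7_5 lc_c_rc_22_5 lc_c_rc_11_1 lc_c_rc_22_7 lc_c_rc_11_1 lc_c_rc_7_1 lc_c_rc_2_3 lc_c_Cert_tree lc_c_rc_11_1 lc_c_rc_13_2 lc_c_rc_13_2 lc_c_Cert_tree lc_c_rc_13_2 lc_c_rc_11_1 lc_c_rc_23_0 lc_c_rc_23_5 lc_c_rc_11_1 lc_c_rc_24_8 lc_c_rc_11_1 lc_c_rc_24_2 lc_c_rc_26_4 lc_c_rc_23_5 lc_c_rc_26_8 lc_c_rc_23_5 lc_c_rc_24_6 lc_c_Cert_tree lc_c_rc_13_2 lc_c_Cert_tree lc_c_rc_26_2 lc_c_rc_7_3 lc_c_rc_11_1 lc_c_rc_23_5 lc_c_rc_26_8 lc_c_rc_11_1 lc_c_rc_25_1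 lc_c_Cert_tree lc_c_rc_11_1 lc_c_rc_24_2 lc_c_rc_11_1 lc_c_rc_11_1 lc_c_rc_25_5 lc_c_rc_7_3 lc_c_rc_11_1 lc_c_Cert_tree lc_c_Cert_tree lc_c_Cert_tree lc_c_rc_11_1 lc_c_rc_14_2 lc_c_rc_14_2 lc_c_rc_2_3 lc_c_rc_22_5 lc_c_rc_13_2 lc_c_rc_14_0 lc_c_rc_13_2 lc_c_rc_26_10) (@D3.rec (fun _ => (Cert rels S Gen.c)) lc_c_rc_11_1 lc_c_rc_11_1 lc_c_rc_26_8 lc_c_Cert_tree lc_c_rc_2_3 lc_c_rc_2_3 lc_c_rc_11_1 lc_c_rc_23_5 lc_c_rc_22_5 lc_c_rc_11_1 lc_c_rc_13_2 lc_c_Cert_tree lc_c_rc_11_1 lc_c_rc_13_2 lc_c_rc_11_1 lc_c_rc_22_9 lc_c_rc_7_3 lc_c_rc_12_2 lc_c_rc_14_2 lc_c_rc_26_2 lc_c_rc_7_1 lc_c_Cert_tree lc_c_rc_2_3 lc_c_Cert_tree lc_c_rc_13_2 lc_c_Cert_tree lc_c_Cert_tree lc_c_rc_11_1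 lc_c_rc_12_0 lc_c_Cert_tree lc_c_rc_23_5 lc_c_rc_22_5 lc_c_rc_11_1 lc_c_rc_13_2 lc_c_rc_7_5 lc_c_rc_22_5 lc_c_rc_11_1 lc_c_rc_7_5 lc_c_rc_13_2 lc_c_rc_13_0 lc_c_rc_14_2 lc_c_rc_7_5 lc_c_rc_11_1 lc_c_rc_11_1 lc_c_rc_24_8 lc_c_rc_11_1 lc_c_rc_7_5 lc_c_rc_11_1 lc_c_rc_13_2 lc_c_rc_25_5 lc_c_Cert_tree lc_c_rc_2_3 lc_c_rc_11_1 lc_c_rc_11_1 lc_c_rc_26_4 lc_c_rc_13_2 lc_c_rc_13_2 lc_c_rc_11_1 lc_c_rc_26_4 lc_c_rc_11_1 lc_c_rc_26_10 lc_c_rc_22_3) (@D3.rec (fun _ => (Cert rels S Gen.c)) lc_c_rc_11_1 lc_c_rc_24_4 lc_c_rc_13_2 lc_c_rc_13_2 lc_c_rc_26_4 lc_c_rc_11_1 lc_c_rc_13_2 lc_c_rc_13_2 lc_c_rc_13_2 lc_c_rc_24_6 lc_c_rc_11_1 lc_c_rc_26_4 lc_c_rc_14_2 lc_c_rc_26_2 lc_c_rc_13_2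 lc_c_rc_7_5 lc_c_rc_14_2 lc_c_rc_11_1 lc_c_rc_11_1 lc_c_rc_26_2 lc_c_rc_11_1 lc_c_rc_2_3 lc_c_rc_7_5 lc_c_rc_13_2 lc_c_rc_13_2 lc_c_rc_25_1 lc_c_Cert_tree lc_c_rc_11_1 lc_c_rc_11_1 lc_c_rc_25_5 lc_c_rc_26_8 lc_c_rc_11_1 lc_c_rc_23_0 lc_c_rc_24_2 lc_c_rc_14_2 lc_c_rc_13_2 lc_c_rc_11_1 lc_c_rc_25_1 lc_c_rc_24_2 lc_c_rc_11_1 lc_c_rc_11_1 lc_c_rc_22_5 lc_c_rc_26_4 lc_c_Cert_tree lc_c_rc_26_4 lc_c_rc_13_2 lc_c_rc_26_2 lc_c_Cert_tree lc_c_rc_11_1 lc_c_rc_13_0 lc_c_rc_22_5 lc_c_rc_7_5 lc_c_rc_22_5 lc_c_rc_13_2 lc_c_rc_26_10 lc_c_rc_13_0 lc_c_rc_11_1 lc_c_rc_7_5 lc_c_rc_11_1 lc_c_rc_13_2 lc_c_rc_22_5 lc_c_rc_23_0) (@D3.rec (fun _ => (Cert rels S Gen.c)) lc_c_Cert_tree lc_c_rc_14_2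 lc_c_Cert_tree lc_c_rc_11_1 lc_c_rc_13_2 lc_c_rc_22_5 lc_c_rc_13_2 lc_c_rc_26_2 lc_c_rc_2_3 lc_c_rc_26_2 lc_c_rc_11_1 lc_c_rc_11_1 lc_c_rc_13_2 lc_c_rc_7_5 lc_c_rc_24_4 lc_c_rc_11_1 lc_c_rc_13_2 lc_c_rc_7_3 lc_c_rc_24_4 lc_c_rc_11_1 lc_c_rc_13_2 lc_c_rc_26_2 lc_c_rc_2_3 lc_c_Cert_tree lc_c_Cert_tree lc_c_Cert_tree lc_c_rc_11_1 lc_c_rc_13_2 lc_c_rc_11_1 lc_c_rc_26_4 lc_c_rc_23_5 lc_c_rc_14_2 lc_c_rc_26_4 lc_c_rc_23_5 lc_c_rc_13_2 lc_c_rc_7_5 lc_c_rc_23_0 lc_c_rc_11_1 lc_c_rc_26_2 lc_c_rc_26_4 lc_c_rc_22_3 lc_c_rc_11_1 lc_c_rc_13_2 lc_c_rc_26_4 lc_c_rc_13_2 lc_c_rc_11_1 lc_c_rc_26_4 lc_c_rc_26_8 lc_c_rc_11_1 lc_c_rc_22_3 lc_c_rc_13_0 lc_c_rc_26_10 lc_c_Cert_tree lc_c_rc_26_4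 lc_c_rc_24_4 lc_c_rc_25_1 lc_c_rc_11_1 lc_c_rc_24_4 lc_c_rc_26_10 lc_c_rc_26_2 lc_c_rc_2_3 lc_c_rc_14_2) (@D3.rec (fun _ => (Cert rels S Gen.c)) lc_c_rc_13_2 lc_c_rc_11_1 lc_c_rc_23_0 lc_c_rc_2_3 lc_c_rc_23_5 lc_c_rc_24_4 lc_c_rc_26_2 lc_c_rc_7_3 lc_c_rc_24_2 lc_c_rc_11_1 lc_c_rc_24_2 lc_c_rc_11_1 lc_c_rc_24_2 lc_c_rc_11_1 lc_c_rc_11_1 lc_c_rc_24_2 lc_c_rc_22_7 lc_c_rc_7_3 lc_c_rc_24_2 lc_c_rc_7_5 lc_c_rc_23_0 lc_c_rc_13_2 lc_c_Cert_tree lc_c_rc_7_1 lc_c_rc_13_2 lc_c_Cert_tree lc_c_rc_14_2 lc_c_rc_13_2 lc_c_rc_22_3 lc_c_rc_7_1 lc_c_rc_13_2 lc_c_rc_13_0 lc_c_rc_13_2 lc_c_rc_11_1 lc_c_rc_22_9 lc_c_rc_13_2 lc_c_rc_13_2 lc_c_Cert_tree lc_c_rc_11_1 lc_c_Cert_tree lc_c_rc_7_5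 lc_c_rc_13_2 lc_c_rc_23_5 lc_c_rc_13_2 lc_c_rc_11_1 lc_c_rc_25_13 lc_c_rc_24_2 lc_c_rc_24_4 lc_c_Cert_tree lc_c_rc_13_2 lc_c_rc_7_3 lc_c_rc_11_1 lc_c_Cert_tree lc_c_rc_24_2 lc_c_rc_11_1 lc_c_rc_26_2 lc_c_rc_11_1 lc_c_rc_11_1 lc_c_rc_13_2 lc_c_rc_26_8 lc_c_rc_11_1 lc_c_rc_13_2) (@D3.rec (fun _ => (Cert rels S Gen.c)) lc_c_rc_7_3 lc_c_rc_11_1 lc_c_rc_13_2 lc_c_rc_14_2 lc_c_rc_11_1 lc_c_rc_23_0 lc_c_rc_2_3 lc_c_rc_11_1 lc_c_rc_13_2 lc_c_rc_13_2 lc_c_rc_11_1 lc_c_rc_24_6 lc_c_rc_13_2 lc_c_rc_13_2 lc_c_rc_23_0 lc_c_Cert_tree lc_c_rc_24_4 lc_c_rc_24_4 lc_c_rc_7_5 lc_c_rc_26_4 lc_c_rc_13_2 lc_c_rc_26_10 lc_c_rc_23_0 lc_c_rc_11_1 lc_c_rc_11_1 lc_c_Cert_tree lc_c_rc_14_2 lc_c_rc_26_4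 lc_c_rc_13_2 lc_c_rc_11_1 lc_c_rc_14_0 lc_c_rc_13_2 lc_c_rc_11_1 lc_c_rc_13_2 lc_c_rc_11_1 lc_c_rc_23_5 lc_c_rc_13_2 lc_c_rc_23_5 lc_c_Cert_tree lc_c_rc_13_2 lc_c_rc_11_1 lc_c_rc_14_0 lc_c_rc_14_0 lc_c_rc_23_5 lc_c_rc_13_2 lc_c_rc_11_1 lc_c_rc_23_0 lc_c_Cert_tree lc_c_rc_14_2 lc_c_rc_13_2 lc_c_rc_26_10 lc_c_rc_11_1 lc_c_rc_2_3 lc_c_rc_26_4 lc_c_rc_22_3 lc_c_rc_26_2 lc_c_rc_14_2 lc_c_rc_13_2 lc_c_rc_26_4 lc_c_rc_24_8 lc_c_rc_11_1 lc_c_rc_13_2) (@D3.rec (fun _ => (Cert rels S Gen.c)) lc_c_rc_11_1 lc_c_rc_2_3 lc_c_rc_14_2 lc_c_rc_11_1 lc_c_rc_22_7 lc_c_rc_11_1 lc_c_rc_24_6 lc_c_rc_7_3 lc_c_rc_22_3 lc_c_rc_13_2 lc_c_rc_14_2 lc_c_rc_24_2 lc_c_rc_22_3 lc_c_rc_12_0 lc_c_rc_11_1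 lc_c_rc_22_9 lc_c_rc_23_5 lc_c_rc_2_3 lc_c_rc_26_10 lc_c_rc_13_2 lc_c_rc_14_2 lc_c_rc_11_1 lc_c_rc_24_2 lc_c_rc_7_1 lc_c_rc_11_1 lc_c_rc_13_2 lc_c_rc_24_2 lc_c_rc_7_5 lc_c_rc_22_3 lc_c_rc_11_1 lc_c_rc_13_2 lc_c_Cert_tree lc_c_rc_11_1 lc_c_rc_2_1 lc_c_rc_24_6 lc_c_rc_26_10 lc_c_rc_14_2 lc_c_rc_11_1 lc_c_rc_13_2 lc_c_rc_11_1 lc_c_rc_24_4 lc_c_rc_7_1 lc_c_rc_22_9 lc_c_rc_13_2 lc_c_rc_22_5 lc_c_rc_13_2 lc_c_rc_14_2 lc_c_rc_13_2 lc_c_rc_14_0 lc_c_rc_23_5 lc_c_rc_13_2 lc_c_rc_12_14 lc_c_Cert_tree lc_c_rc_11_1 lc_c_rc_24_4 lc_c_rc_22_9 lc_c_rc_13_2 lc_c_rc_12_0 lc_c_rc_22_3 lc_c_rc_13_2 lc_c_rc_22_3 lc_c_Cert_tree) (@D3.rec (fun _ => (Cert rels S Gen.c)) lc_c_Cert_tree lc_c_rc_12_2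 lc_c_rc_14_2 lc_c_rc_13_2 lc_c_Cert_tree lc_c_rc_11_1 lc_c_rc_22_9 lc_c_rc_13_2 lc_c_rc_26_2 lc_c_rc_11_1 lc_c_rc_25_5 lc_c_rc_26_2 lc_c_Cert_tree lc_c_Cert_tree lc_c_rc_7_3 lc_c_rc_26_4 lc_c_rc_11_1 lc_c_rc_23_5 lc_c_rc_7_1 lc_c_rc_11_1 lc_c_rc_22_5 lc_c_rc_13_2 lc_c_rc_11_1 lc_c_rc_13_2 lc_c_rc_11_1 lc_c_rc_13_2 lc_c_rc_11_1 lc_c_rc_7_1 lc_c_rc_11_1 lc_c_rc_7_3 lc_c_rc_12_14 lc_c_rc_22_7 lc_c_rc_23_5 lc_c_rc_11_1 lc_c_rc_14_2 lc_c_rc_11_1 lc_c_rc_13_2 lc_c_rc_12_0 lc_c_rc_24_4 lc_c_rc_13_2 lc_c_Cert_tree lc_c_rc_14_2 lc_c_rc_14_2 lc_c_rc_26_2 lc_c_rc_13_0 lc_c_rc_11_1 lc_c_rc_14_2 lc_c_rc_26_4 lc_c_rc_12_14 lc_c_rc_11_1 lc_c_Cert_tree lc_c_rc_11_1 lc_c_rc_24_2 lc_c_Cert_tree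 lc_c_rc_11_1 lc_c_Cert_tree lc_c_rc_26_2 lc_c_rc_11_1 lc_c_rc_13_0 lc_c_rc_12_2 lc_c_rc_11_1 lc_c_rc_13_2) (@D3.rec (fun _ => (Cert rels S Gen.c)) lc_c_rc_23_5 lc_c_Cert_tree lc_c_rc_22_5 lc_c_rc_26_4 lc_c_rc_13_0 lc_c_rc_11_1 lc_c_rc_7_5 lc_c_rc_13_0 lc_c_rc_26_4 lc_c_rc_11_1 lc_c_rc_13_2 lc_c_rc_23_0 lc_c_rc_13_0 lc_c_rc_11_1 lc_c_rc_11_1 lc_c_rc_13_2 lc_c_rc_2_3 lc_c_rc_13_2 lc_c_rc_2_1 lc_c_rc_11_1 lc_c_rc_13_2 lc_c_rc_22_3 lc_c_rc_13_2 lc_c_rc_13_2 lc_c_rc_13_2 lc_c_rc_7_1 lc_c_rc_13_2 lc_c_rc_11_1 lc_c_rc_13_2 lc_c_Cert_tree lc_c_rc_11_1 lc_c_rc_7_3 lc_c_rc_24_8 lc_c_rc_13_0 lc_c_rc_13_2 lc_c_rc_11_1 lc_c_rc_11_1 lc_c_rc_22_9 lc_c_rc_26_8 lc_c_rc_11_1 lc_c_rc_2_3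 lc_c_rc_13_0 lc_c_rc_13_2 lc_c_rc_11_1 lc_c_rc_13_0 lc_c_rc_11_1 lc_c_rc_26_10 lc_c_rc_11_1 lc_c_rc_2_3 lc_c_Cert_tree lc_c_rc_22_5 lc_c_rc_2_3 lc_c_rc_7_3 lc_c_Cert_tree lc_c_Cert_tree lc_c_rc_2_3 lc_c_Cert_tree lc_c_rc_22_5 lc_c_rc_22_3 lc_c_rc_13_2 lc_c_rc_24_2 lc_c_rc_11_1) (@D3.rec (fun _ => (Cert rels S Gen.c)) lc_c_rc_11_1 lc_c_rc_22_3 lc_c_Cert_tree lc_c_rc_7_3 lc_c_rc_11_1 lc_c_rc_7_3 lc_c_rc_24_8 lc_c_rc_13_2 lc_c_rc_11_1 lc_c_rc_14_2 lc_c_rc_7_3 lc_c_rc_13_2 lc_c_rc_11_1 lc_c_rc_13_2 lc_c_rc_11_1 lc_c_rc_13_2 lc_c_rc_11_1 lc_c_rc_14_0 lc_c_rc_13_2 lc_c_rc_26_10 lc_c_rc_11_1 lc_c_rc_24_2 lc_c_rc_7_3 lc_c_rc_26_2 lc_c_rc_13_2 lc_c_rc_11_1 lc_c_rc_26_2 lc_c_rc_11_1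 lc_c_rc_2_3 lc_c_Cert_tree lc_c_Cert_tree lc_c_rc_2_3 lc_c_rc_11_1 lc_c_rc_13_2 lc_c_rc_26_10 lc_c_rc_2_3 lc_c_rc_22_7 lc_c_rc_13_2 lc_c_rc_13_2 lc_c_Cert_tree lc_c_Cert_tree lc_c_rc_24_4 lc_c_rc_2_3 lc_c_rc_24_2 lc_c_rc_13_2 lc_c_Cert_tree lc_c_Cert_tree lc_c_rc_7_5 lc_c_rc_11_1 lc_c_rc_23_0 lc_c_rc_22_5 lc_c_rc_7_5 lc_c_rc_7_3 lc_c_rc_26_4 lc_c_rc_26_4 lc_c_rc_24_6 lc_c_rc_11_1 lc_c_rc_7_5 lc_c_rc_13_2 lc_c_rc_23_0 lc_c_rc_13_2 lc_c_rc_23_0) (@D3.rec (fun _ => (Cert rels S Gen.c)) lc_c_rc_22_5 lc_c_rc_13_2 lc_c_rc_11_1 lc_c_rc_23_5 lc_c_rc_7_5 lc_c_rc_13_2 lc_c_rc_14_0 lc_c_rc_11_1 lc_c_rc_23_5 lc_c_rc_11_1 lc_c_rc_2_3 lc_c_rc_13_0 lc_c_Cert_tree lc_c_rc_11_1 lc_c_rc_2_3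 lc_c_rc_13_2 lc_c_rc_7_5 lc_c_Cert_tree lc_c_rc_22_3 lc_c_rc_13_2 lc_c_rc_24_2 lc_c_rc_11_1 lc_c_rc_13_2 lc_c_rc_11_1 lc_c_rc_11_1 lc_c_Cert_tree lc_c_rc_23_5 lc_c_rc_23_5 lc_c_rc_23_0 lc_c_rc_25_5 lc_c_rc_13_2 lc_c_rc_11_1 lc_c_Cert_tree lc_c_rc_7_3 lc_c_Cert_tree lc_c_Cert_tree lc_c_rc_11_1 lc_c_rc_14_2 lc_c_rc_11_1 lc_c_Cert_tree lc_c_rc_11_1 lc_c_rc_11_1 lc_c_rc_13_2 lc_c_rc_7_1 lc_c_rc_25_5 lc_c_rc_22_3 lc_c_rc_13_0 lc_c_rc_11_1 lc_c_rc_26_4 lc_c_rc_11_1 lc_c_rc_13_2 lc_c_rc_23_0 lc_c_rc_11_1 lc_c_rc_11_1 lc_c_rc_7_1 lc_c_rc_2_3 lc_c_rc_13_2 lc_c_rc_26_4 lc_c_Cert_tree lc_c_rc_13_2 lc_c_rc_13_0 lc_c_Cert_tree) (@D3.rec (fun _ => (Cert rels S Gen.c)) lc_c_rc_23_0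 lc_c_rc_11_1 lc_c_rc_14_2 lc_c_Cert_tree lc_c_rc_13_2 lc_c_Cert_tree lc_c_rc_13_2 lc_c_rc_26_4 lc_c_rc_13_2 lc_c_rc_7_1 lc_c_rc_24_8 lc_c_rc_22_3 lc_c_rc_7_3 lc_c_rc_24_4 lc_c_rc_13_2 lc_c_rc_26_2 lc_c_rc_24_2 lc_c_rc_13_2 lc_c_rc_26_4 lc_c_rc_11_1 lc_c_Cert_tree lc_c_rc_13_2 lc_c_rc_11_1 lc_c_rc_14_2 lc_c_rc_13_2 lc_c_Cert_tree lc_c_rc_13_2 lc_c_rc_7_3 lc_c_rc_11_1 lc_c_Cert_tree lc_c_Cert_tree lc_c_rc_11_1 lc_c_rc_7_3 lc_c_Cert_tree lc_c_rc_11_1 lc_c_rc_22_3 lc_c_rc_13_2 lc_c_rc_11_1 lc_c_rc_11_1 lc_c_rc_26_10 lc_c_rc_11_1 lc_c_rc_13_0 lc_c_rc_7_3 lc_c_rc_11_1 lc_c_rc_13_2 lc_c_rc_11_1 lc_c_rc_13_2 lc_c_rc_26_4 lc_c_rc_24_4 lc_c_rc_13_0 lc_c_rc_24_6 lc_c_rc_13_2 lc_c_rc_22_3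 lc_c_rc_23_5 lc_c_rc_13_2 lc_c_rc_13_2 lc_c_rc_24_6 lc_c_rc_13_2 lc_c_rc_7_1 lc_c_rc_14_0 lc_c_rc_13_2 lc_c_rc_24_8) (@D3.rec (fun _ => (Cert rels S Gen.c)) lc_c_rc_24_8 lc_c_rc_13_0 lc_c_rc_26_2 lc_c_rc_23_0 lc_c_rc_13_2 lc_c_rc_22_7 lc_c_rc_11_1 lc_c_rc_11_1 lc_c_Cert_tree lc_c_rc_13_2 lc_c_rc_11_1 lc_c_rc_22_9 lc_c_rc_11_1 lc_c_rc_11_1 lc_c_rc_22_7 lc_c_rc_24_6 lc_c_rc_11_1 lc_c_rc_22_5 lc_c_rc_14_2 lc_c_rc_2_3 lc_c_rc_13_2 lc_c_rc_24_4 lc_c_rc_7_5 lc_c_rc_2_3 lc_c_rc_11_1 lc_c_rc_7_1 lc_c_rc_22_5 lc_c_rc_7_1 lc_c_rc_7_3 lc_c_rc_13_2 lc_c_rc_24_4 lc_c_rc_11_1 lc_c_Cert_tree lc_c_rc_13_2 lc_c_rc_24_2 lc_c_rc_24_2 lc_c_rc_14_2 lc_c_rc_2_1 lc_c_rc_23_0 lc_c_rc_23_0 lc_c_rc_11_1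 lc_c_rc_24_4 lc_c_rc_24_4 lc_c_rc_23_5 lc_c_rc_14_2 lc_c_rc_11_1 lc_c_Cert_tree lc_c_rc_11_1 lc_c_rc_26_4 lc_c_rc_11_1 lc_c_rc_13_2 lc_c_rc_11_1 lc_c_rc_13_2 lc_c_rc_13_0 lc_c_rc_11_1 lc_c_rc_11_1 lc_c_rc_26_10 lc_c_rc_7_5 lc_c_rc_13_2 lc_c_rc_26_2 lc_c_rc_23_5 lc_c_rc_11_1) (@D3.rec (fun _ => (Cert rels S Gen.c)) lc_c_rc_25_9 lc_c_rc_7_3 lc_c_rc_7_5 lc_c_rc_12_2 lc_c_rc_22_3 lc_c_rc_22_3 lc_c_rc_2_1 lc_c_rc_11_1 lc_c_rc_13_0 lc_c_rc_11_1 lc_c_rc_24_4 lc_c_rc_7_3 lc_c_rc_7_5 lc_c_rc_23_0 lc_c_rc_14_2 lc_c_rc_26_2 lc_c_Cert_tree lc_c_rc_24_6 lc_c_rc_7_5 lc_c_rc_13_0 lc_c_rc_24_2 lc_c_rc_11_1 lc_c_rc_7_3 lc_c_Cert_tree lc_c_rc_13_2 lc_c_rc_11_1 lc_c_rc_26_4 lc_c_rc_11_1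 lc_c_Cert_tree lc_c_rc_13_2 lc_c_Cert_tree lc_c_rc_11_1 lc_c_Cert_tree lc_c_rc_13_2 lc_c_rc_24_2 lc_c_rc_24_8 lc_c_rc_11_1 lc_c_rc_12_0 lc_c_rc_7_5 lc_c_rc_14_2 lc_c_rc_13_2 lc_c_rc_26_8 lc_c_rc_24_8 lc_c_rc_13_2 lc_c_rc_11_1 lc_c_rc_11_1 lc_c_rc_2_3 lc_c_rc_26_4 lc_c_rc_11_1 lc_c_rc_14_0 lc_c_rc_11_1 lc_c_Cert_tree lc_c_rc_13_2 lc_c_rc_11_1 lc_c_rc_13_2 lc_c_rc_13_0 lc_c_Cert_tree lc_c_Cert_tree lc_c_rc_14_2 lc_c_Cert_tree lc_c_Cert_tree lc_c_rc_23_5) (@D3.rec (fun _ => (Cert rels S Gen.c)) lc_c_rc_7_3 lc_c_Cert_tree lc_c_Cert_tree lc_c_rc_11_1 lc_c_rc_22_3 lc_c_rc_7_3 lc_c_rc_22_3 lc_c_rc_13_2 lc_c_rc_11_1 lc_c_rc_7_3 lc_c_Cert_tree lc_c_rc_14_2 lc_c_rc_11_1 lc_c_rc_2_3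 lc_c_rc_22_7 lc_c_rc_13_2 lc_c_rc_13_2 lc_c_rc_11_1 lc_c_Cert_tree lc_c_rc_14_2 lc_c_rc_26_4 lc_c_rc_11_1 lc_c_rc_23_0 lc_c_rc_11_1 lc_c_rc_13_2 lc_c_rc_24_2 lc_c_rc_13_2 lc_c_rc_26_4 lc_c_rc_26_2 lc_c_rc_11_1 lc_c_rc_13_2 lc_c_Cert_tree lc_c_Cert_tree lc_c_Cert_tree lc_c_rc_14_2 lc_c_rc_14_2 lc_c_rc_13_2 lc_c_Cert_tree lc_c_rc_14_2 lc_c_rc_14_0 lc_c_Cert_tree lc_c_Cert_tree lc_c_Cert_tree lc_c_rc_11_1 lc_c_rc_22_5 lc_c_rc_7_3 lc_c_Cert_tree lc_c_rc_26_4 lc_c_rc_11_1 lc_c_rc_26_2 lc_c_rc_11_1 lc_c_rc_14_2 lc_c_Cert_tree lc_c_rc_13_2 lc_c_Cert_tree lc_c_Cert_tree lc_c_rc_11_1 lc_c_rc_7_3 lc_c_Cert_tree lc_c_rc_13_0 lc_c_Cert_tree lc_c_rc_14_2) (@D3.rec (fun _ => (Cert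 rels S Gen.c)) lc_c_rc_11_1 lc_c_rc_13_2 lc_c_Cert_tree lc_c_rc_14_2 lc_c_rc_2_1 lc_c_rc_11_1 lc_c_rc_14_2 lc_c_rc_26_4 lc_c_rc_11_1 lc_c_rc_13_2 lc_c_rc_7_5 lc_c_rc_13_2 lc_c_rc_11_1 lc_c_rc_13_2 lc_c_Cert_tree lc_c_rc_11_1 lc_c_Cert_tree lc_c_Cert_tree lc_c_Cert_tree lc_c_rc_14_2 lc_c_rc_14_2 lc_c_rc_13_2 lc_c_Cert_tree lc_c_rc_14_2 lc_c_rc_22_3 lc_c_rc_11_1 lc_c_rc_14_2 lc_c_rc_23_5 lc_c_rc_24_6 lc_c_rc_7_5 lc_c_rc_11_1 lc_c_rc_13_2 lc_c_rc_24_4 lc_c_rc_24_2 lc_c_rc_14_2 lc_c_rc_11_1 lc_c_rc_11_1 lc_c_rc_25_17 lc_c_rc_13_2 lc_c_rc_11_1 lc_c_rc_13_2 lc_c_rc_23_0 lc_c_Cert_tree lc_c_rc_14_2 lc_c_rc_11_1 lc_c_rc_22_3 lc_c_Cert_tree lc_c_rc_11_1 lc_c_rc_12_0 lc_c_rc_23_0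 lc_c_rc_24_4 lc_c_rc_22_5 lc_c_rc_13_2 lc_c_rc_26_8 lc_c_rc_13_2 lc_c_rc_26_4 lc_c_rc_23_5 lc_c_rc_24_2 lc_c_rc_26_8 lc_c_rc_22_9 lc_c_rc_2_1 lc_c_rc_26_8) (@D3.rec (fun _ => (Cert rels S Gen.c)) lc_c_rc_11_1 lc_c_Cert_tree lc_c_rc_7_1 lc_c_rc_24_2 lc_c_rc_11_1 lc_c_rc_11_1 lc_c_rc_7_3 lc_c_rc_13_2 lc_c_rc_7_1 lc_c_Cert_tree lc_c_rc_13_2 lc_c_rc_26_2 lc_c_rc_26_10 lc_c_rc_7_5 lc_c_rc_24_2 lc_c_rc_26_2 lc_c_rc_13_2 lc_c_rc_11_1 lc_c_rc_23_0 lc_c_rc_24_6 lc_c_Cert_tree lc_c_rc_7_3 lc_c_Cert_tree lc_c_Cert_tree lc_c_rc_2_3 lc_c_rc_11_1 lc_c_rc_7_3 lc_c_rc_13_2 lc_c_rc_11_1 lc_c_rc_11_1 lc_c_rc_22_3 lc_c_rc_11_1 lc_c_rc_2_3 lc_c_rc_11_1 lc_c_rc_2_3 lc_c_Cert_tree lc_c_rc_13_2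 lc_c_rc_11_1 lc_c_rc_11_1 lc_c_rc_13_2 lc_c_Cert_tree lc_c_rc_26_4 lc_c_rc_13_2 lc_c_rc_7_5 lc_c_Cert_tree lc_c_rc_13_2 lc_c_rc_11_1 lc_c_rc_13_2 lc_c_rc_23_5 lc_c_rc_23_0 lc_c_rc_7_3 lc_c_rc_14_2 lc_c_rc_24_6 lc_c_rc_11_1 lc_c_Cert_tree lc_c_rc_22_3 lc_c_rc_7_3 lc_c_Cert_tree lc_c_rc_13_2 lc_c_rc_23_0 lc_c_rc_24_2 lc_c_rc_22_3) (@D3.rec (fun _ => (Cert rels S Gen.c)) lc_c_rc_11_1 lc_c_rc_22_3 lc_c_rc_11_1 lc_c_rc_13_0 lc_c_rc_7_1 lc_c_rc_22_7 lc_c_rc_13_2 lc_c_rc_7_3 lc_c_rc_23_0 lc_c_rc_11_1 lc_c_rc_11_1 lc_c_rc_11_1 lc_c_rc_11_1 lc_c_rc_11_1 lc_c_Cert_tree lc_c_rc_13_0 lc_c_rc_11_1 lc_c_rc_13_2 lc_c_rc_11_1 lc_c_rc_26_8 lc_c_rc_11_1 lc_c_rc_23_5 lc_c_rc_24_2 lc_c_rc_22_3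 lc_c_rc_11_1 lc_c_rc_11_1 lc_c_rc_24_4 lc_c_rc_7_1 lc_c_rc_24_4 lc_c_rc_13_0 lc_c_rc_13_0 lc_c_rc_13_2 lc_c_rc_13_2 lc_c_rc_24_6 lc_c_rc_7_5 lc_c_rc_13_2 lc_c_rc_2_1 lc_c_rc_13_2 lc_c_rc_11_1 lc_c_rc_26_4 lc_c_rc_26_10 lc_c_rc_23_0 lc_c_rc_11_1 lc_c_rc_14_2 lc_c_rc_26_4 lc_c_rc_7_1 lc_c_rc_23_5 lc_c_rc_22_7 lc_c_rc_13_2 lc_c_rc_11_1 lc_c_rc_23_5 lc_c_rc_2_3 lc_c_rc_24_2 lc_c_rc_13_2 lc_c_rc_11_1 lc_c_Cert_tree lc_c_Cert_tree lc_c_rc_14_2 lc_c_rc_25_5 lc_c_rc_13_2 lc_c_rc_7_1 lc_c_rc_2_3) (@D3.rec (fun _ => (Cert rels S Gen.c)) lc_c_rc_11_1 lc_c_rc_13_2 lc_c_rc_23_0 lc_c_rc_23_0 lc_c_Cert_tree lc_c_rc_14_2 lc_c_rc_11_1 lc_c_rc_24_6 lc_c_rc_14_2 lc_c_rc_13_2 lc_c_rc_7_5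 lc_c_rc_7_3 lc_c_rc_11_1 lc_c_rc_11_1 lc_c_rc_23_0 lc_c_rc_11_1 lc_c_rc_24_4 lc_c_rc_11_1 lc_c_rc_13_0 lc_c_rc_22_7 lc_c_rc_11_1 lc_c_rc_26_4 lc_c_rc_26_2 lc_c_rc_26_8 lc_c_rc_7_3 lc_c_rc_7_1 lc_c_rc_22_5 lc_c_rc_13_2 lc_c_Cert_tree lc_c_rc_11_1 lc_c_rc_2_3 lc_c_Cert_tree lc_c_rc_13_2 lc_c_rc_23_0 lc_c_rc_26_8 lc_c_rc_11_1 lc_c_rc_13_2 lc_c_rc_24_4 lc_c_rc_23_0 lc_c_rc_22_3 lc_c_rc_14_2 lc_c_rc_11_1 lc_c_rc_23_5 lc_c_rc_11_1 lc_c_rc_13_0 lc_c_rc_13_2 lc_c_rc_2_3 lc_c_rc_13_2 lc_c_rc_23_5 lc_c_rc_11_1 lc_c_rc_13_0 lc_c_rc_23_0 lc_c_rc_11_1 lc_c_rc_26_8 lc_c_rc_13_2 lc_c_rc_13_2 lc_c_rc_24_8 lc_c_rc_14_0 lc_c_rc_13_0 lc_c_rc_26_2 lc_c_rc_13_0 lc_c_rc_14_2) (@D3.rec (fun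 _ => (Cert rels S Gen.c)) lc_c_rc_14_0 lc_c_rc_13_2 lc_c_rc_11_1 lc_c_rc_13_2 lc_c_rc_13_0 lc_c_rc_11_1 lc_c_Cert_tree lc_c_rc_14_2 lc_c_rc_7_3 lc_c_rc_11_1 lc_c_rc_13_2 lc_c_rc_23_0 lc_c_rc_11_1 lc_c_rc_14_2 lc_c_rc_13_0 lc_c_rc_22_5 lc_c_rc_11_1 lc_c_rc_23_0 lc_c_rc_13_2 lc_c_rc_26_2 lc_c_rc_13_2 lc_c_rc_11_1 lc_c_rc_11_1 lc_c_rc_14_2 lc_c_rc_25_5 lc_c_rc_13_2 lc_c_rc_14_2 lc_c_rc_13_0 lc_c_rc_23_0 lc_c_rc_24_6 lc_c_rc_11_1 lc_c_rc_11_1 lc_c_rc_13_2 lc_c_rc_7_3 lc_c_rc_11_1 lc_c_rc_13_2 lc_c_rc_7_3 lc_c_rc_7_5 lc_c_rc_13_2 lc_c_rc_7_3 lc_c_rc_12_14 lc_c_Cert_tree lc_c_Cert_tree lc_c_rc_11_1 lc_c_rc_12_0 lc_c_rc_26_4 lc_c_rc_25_5 lc_c_rc_23_5 lc_c_rc_11_1 lc_c_rc_13_2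 lc_c_rc_22_5 lc_c_rc_26_10 lc_c_rc_7_5 lc_c_rc_14_2 lc_c_Cert_tree lc_c_rc_13_2 lc_c_rc_26_2 lc_c_rc_7_5 lc_c_rc_23_5 lc_c_rc_7_5 lc_c_rc_24_2 lc_c_rc_11_1) (@D3.rec (fun _ => (Cert rels S Gen.c)) lc_c_rc_13_2 lc_c_Cert_tree lc_c_rc_13_2 lc_c_rc_11_1 lc_c_rc_24_6 lc_c_rc_11_1 lc_c_rc_2_3 lc_c_rc_13_2 lc_c_Cert_tree lc_c_rc_7_5 lc_c_rc_26_4 lc_c_rc_11_1 lc_c_rc_25_5 lc_c_rc_13_2 lc_c_rc_26_4 lc_c_rc_11_1 lc_c_rc_23_0 lc_c_rc_12_0 lc_c_rc_23_0 lc_c_rc_14_0 lc_c_rc_23_5 lc_c_rc_11_1 lc_c_rc_13_2 lc_c_rc_11_1 lc_c_rc_11_1 lc_c_Cert_tree lc_c_rc_13_2 lc_c_rc_13_0 lc_c_Cert_tree lc_c_rc_14_2 lc_c_Cert_tree lc_c_Cert_tree lc_c_rc_11_1 lc_c_rc_14_2 lc_c_rc_7_3 lc_c_rc_22_5 lc_c_rc_11_1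 lc_c_rc_2_3 lc_c_rc_13_2 lc_c_rc_13_2 lc_c_rc_13_2 lc_c_rc_7_5 lc_c_rc_23_0 lc_c_rc_11_1 lc_c_rc_2_3 lc_c_rc_24_8 lc_c_rc_13_2 lc_c_rc_26_2 lc_c_rc_2_3 lc_c_rc_13_2 lc_c_rc_13_2 lc_c_rc_26_2 lc_c_rc_11_1 lc_c_rc_25_5 lc_c_rc_25_13 lc_c_rc_26_4 lc_c_rc_11_1 lc_c_Cert_tree lc_c_rc_13_2 lc_c_rc_13_2 lc_c_rc_13_0 lc_c_Cert_tree) (@D3.rec (fun _ => (Cert rels S Gen.c)) lc_c_rc_13_2 lc_c_rc_14_2 lc_c_rc_24_2 lc_c_rc_11_1 lc_c_rc_22_3 lc_c_rc_26_4 lc_c_Cert_tree lc_c_rc_24_8 lc_c_rc_26_8 lc_c_rc_11_1 lc_c_rc_26_4 lc_c_rc_26_4 lc_c_rc_11_1 lc_c_rc_26_4 lc_c_rc_26_2 lc_c_rc_11_1 lc_c_rc_2_3 lc_c_Cert_tree lc_c_rc_13_2 lc_c_Cert_tree lc_c_rc_14_2 lc_c_rc_11_1 lc_c_Cert_tree lc_c_Cert_tree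 lc_c_rc_11_1 lc_c_rc_7_1 lc_c_rc_13_2 lc_c_rc_26_4 lc_c_rc_11_1 lc_c_rc_22_9 lc_c_rc_13_2 lc_c_Cert_tree lc_c_rc_13_2 lc_c_rc_11_1 lc_c_rc_24_8 lc_c_rc_7_5 lc_c_rc_13_2 lc_c_rc_7_5 lc_c_rc_23_5 lc_c_rc_13_2 lc_c_rc_7_3 lc_c_rc_7_3 lc_c_rc_11_1 lc_c_rc_26_4 lc_c_rc_11_1 lc_c_rc_13_2 lc_c_rc_7_1 lc_c_rc_11_1 lc_c_rc_24_6 lc_c_rc_13_2 lc_c_rc_2_1 lc_c_rc_24_4 lc_c_rc_11_1 lc_c_rc_11_1 lc_c_rc_26_4 lc_c_rc_11_1 lc_c_Cert_tree lc_c_rc_11_1 lc_c_rc_13_2 lc_c_rc_22_3 lc_c_rc_13_2 lc_c_Cert_tree) (@D3.rec (fun _ => (Cert rels S Gen.c)) lc_c_rc_13_2 lc_c_rc_14_2 lc_c_Cert_tree lc_c_rc_2_1 lc_c_rc_11_1 lc_c_Cert_tree lc_c_rc_11_1 lc_c_rc_11_1 lc_c_rc_13_2 lc_c_rc_11_1 lc_c_rc_25_1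 lc_c_rc_22_5 lc_c_rc_11_1 lc_c_rc_2_1 lc_c_rc_23_0 lc_c_rc_13_2 lc_c_rc_11_1 lc_c_rc_23_0 lc_c_rc_13_0 lc_c_rc_14_2 lc_c_rc_11_1 lc_c_rc_14_0 lc_c_rc_11_1 lc_c_rc_11_1 lc_c_rc_14_2 lc_c_Cert_tree lc_c_rc_11_1 lc_c_rc_24_4 lc_c_rc_11_1 lc_c_rc_11_1 lc_c_rc_7_5 lc_c_rc_24_6 lc_c_rc_11_1 lc_c_rc_22_5 lc_c_rc_13_2 lc_c_Cert_tree lc_c_Cert_tree lc_c_rc_13_2 lc_c_Cert_tree lc_c_rc_25_5 lc_c_rc_13_2 lc_c_Cert_tree lc_c_rc_2_3 lc_c_rc_13_0 lc_c_rc_7_5 lc_c_rc_13_0 lc_c_rc_14_0 lc_c_rc_26_8 lc_c_rc_24_2 lc_c_rc_14_2 lc_c_rc_22_7 lc_c_rc_13_2 lc_c_rc_26_2 lc_c_rc_14_2 lc_c_rc_14_0 lc_c_rc_11_1 lc_c_Cert_tree lc_c_rc_11_1 lc_c_rc_13_2 lc_c_rc_11_1 lc_c_rc_13_0 lc_c_Cert_tree) (@D3.rec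 (fun _ => (Cert rels S Gen.c)) lc_c_rc_11_1 lc_c_rc_14_2 lc_c_Cert_tree lc_c_rc_26_2 lc_c_Cert_tree lc_c_Cert_tree lc_c_rc_11_1 lc_c_rc_11_1 lc_c_Cert_tree lc_c_rc_11_1 lc_c_rc_23_5 lc_c_rc_11_1 lc_c_rc_11_1 lc_c_rc_24_6 lc_c_rc_13_2 lc_c_rc_11_1 lc_c_rc_24_4 lc_c_rc_25_9 lc_c_rc_12_2 lc_c_rc_14_2 lc_c_rc_13_2 lc_c_rc_7_5 lc_c_Cert_tree lc_c_rc_2_3 lc_c_rc_11_1 lc_c_rc_14_0 lc_c_rc_7_3 lc_c_rc_26_2 lc_c_rc_24_8 lc_c_rc_11_1 lc_c_rc_13_2 lc_c_rc_22_9 lc_c_rc_11_1 lc_c_rc_13_2 lc_c_rc_24_4 lc_c_rc_11_1 lc_c_rc_13_2 lc_c_rc_7_3 lc_c_rc_13_0 lc_c_rc_11_1 lc_c_rc_11_1 lc_c_rc_13_0 lc_c_rc_11_1 lc_c_rc_7_3 lc_c_rc_13_2 lc_c_rc_22_3 lc_c_rc_23_5 lc_c_rc_2_3 lc_c_rc_11_1 lc_c_rc_13_2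 lc_c_Cert_tree lc_c_rc_11_1 lc_c_rc_2_3 lc_c_rc_7_3 lc_c_rc_7_5 lc_c_rc_23_0 lc_c_rc_22_3 lc_c_rc_11_1 lc_c_rc_26_8 lc_c_rc_11_1 lc_c_rc_13_2 lc_c_rc_14_2) (@D3.rec (fun _ => (Cert rels S Gen.c)) lc_c_rc_23_0 lc_c_rc_26_4 lc_c_rc_26_2 lc_c_rc_13_2 lc_c_rc_22_7 lc_c_rc_22_3 lc_c_rc_24_2 lc_c_rc_11_1 lc_c_rc_26_4 lc_c_rc_7_1 lc_c_rc_22_3 lc_c_rc_14_2 lc_c_rc_11_1 lc_c_rc_7_5 lc_c_rc_22_7 lc_c_rc_13_2 lc_c_rc_23_0 lc_c_rc_13_2 lc_c_rc_12_0 lc_c_rc_2_3 lc_c_rc_11_1 lc_c_rc_7_3 lc_c_rc_26_2 lc_c_rc_13_2 lc_c_rc_13_2 lc_c_rc_7_1 lc_c_rc_11_1 lc_c_rc_13_2 lc_c_rc_11_1 lc_c_rc_23_0 lc_c_rc_26_8 lc_c_rc_14_2 lc_c_rc_25_5 lc_c_rc_13_2 lc_c_rc_7_5 lc_c_rc_13_0 lc_c_rc_11_1 lc_c_rc_26_4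 lc_c_rc_14_2 lc_c_rc_7_3 lc_c_rc_24_6 lc_c_rc_13_2 lc_c_rc_12_0 lc_c_rc_22_7 lc_c_rc_24_2 lc_c_Cert_tree lc_c_rc_23_0 lc_c_rc_7_3 lc_c_rc_7_3 lc_c_rc_13_2 lc_c_rc_11_1 lc_c_rc_26_10 lc_c_rc_26_10 lc_c_rc_13_0 lc_c_rc_24_2 lc_c_rc_13_2 lc_c_rc_12_2 lc_c_rc_13_2 lc_c_rc_14_2 lc_c_rc_13_2 lc_c_rc_22_3 lc_c_Cert_tree) (@D3.rec (fun _ => (Cert rels S Gen.c)) lc_c_rc_23_0 lc_c_rc_22_3 lc_c_rc_11_1 lc_c_rc_26_4 lc_c_rc_24_2 lc_c_rc_24_4 lc_c_rc_26_2 lc_c_rc_11_1 lc_c_rc_26_4 lc_c_rc_26_8 lc_c_rc_7_1 lc_c_rc_24_2 lc_c_rc_23_0 lc_c_rc_11_1 lc_c_rc_11_1 lc_c_rc_7_1 lc_c_rc_13_0 lc_c_rc_11_1 lc_c_rc_26_4 lc_c_Cert_tree lc_c_rc_13_2 lc_c_Cert_tree lc_c_rc_26_10 lc_c_rc_11_1 lc_c_rc_7_3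 lc_c_rc_26_4 lc_c_rc_11_1 lc_c_rc_13_0 lc_c_rc_22_5 lc_c_rc_11_1 lc_c_rc_11_1 lc_c_rc_26_2 lc_c_rc_13_0 lc_c_rc_13_2 lc_c_rc_13_2 lc_c_Cert_tree lc_c_Cert_tree lc_c_rc_11_1 lc_c_rc_22_5 lc_c_Cert_tree lc_c_rc_14_0 lc_c_rc_12_2 lc_c_rc_11_1 lc_c_rc_2_3 lc_c_rc_11_1 lc_c_rc_13_2 lc_c_rc_11_1 lc_c_rc_23_0 lc_c_rc_22_7 lc_c_rc_11_1 lc_c_rc_11_1 lc_c_rc_26_4 lc_c_rc_11_1 lc_c_rc_13_2 lc_c_rc_26_4 lc_c_rc_11_1 lc_c_rc_2_1 lc_c_rc_2_1 lc_c_rc_24_4 lc_c_rc_26_10 lc_c_rc_13_2 lc_c_Cert_tree) (@D3.rec (fun _ => (Cert rels S Gen.c)) lc_c_rc_2_3 lc_c_rc_26_2 lc_c_rc_24_2 lc_c_rc_7_5 lc_c_rc_2_3 lc_c_rc_23_5 lc_c_rc_13_2 lc_c_rc_23_5 lc_c_rc_11_1 lc_c_rc_7_3 lc_c_rc_13_2 lc_c_rc_12_2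 lc_c_Cert_tree lc_c_rc_24_4 lc_c_Cert_tree lc_c_rc_13_2 lc_c_rc_13_2 lc_c_rc_2_3 lc_c_rc_11_1 lc_c_rc_26_4 lc_c_rc_24_8 lc_c_rc_11_1 lc_c_rc_11_1 lc_c_rc_14_2 lc_c_rc_14_2 lc_c_rc_13_2 lc_c_rc_13_2 lc_c_rc_22_3 lc_c_rc_11_1 lc_c_rc_11_1 lc_c_rc_11_1 lc_c_rc_11_1 lc_c_rc_24_4 lc_c_rc_14_2 lc_c_rc_7_3 lc_c_rc_11_1 lc_c_rc_13_2 lc_c_rc_26_2 lc_c_rc_11_1 lc_c_rc_13_2 lc_c_rc_11_1 lc_c_rc_24_6 lc_c_rc_22_7 lc_c_rc_13_2 lc_c_rc_22_5 lc_c_Cert_tree lc_c_rc_13_2 lc_c_rc_26_10 lc_c_rc_13_0 lc_c_Cert_tree lc_c_rc_11_1 lc_c_rc_23_0 lc_c_rc_14_2 lc_c_rc_13_2 lc_c_Cert_tree lc_c_rc_14_2 lc_c_rc_22_3 lc_c_rc_11_1 lc_c_rc_13_2 lc_c_rc_13_2 lc_c_Cert_tree lc_c_rc_14_2) (@D3.rec (fun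 _ => (Cert rels S Gen.c)) lc_c_rc_13_0 lc_c_rc_24_2 lc_c_rc_22_3 lc_c_rc_22_3 lc_c_Cert_tree lc_c_rc_13_2 lc_c_rc_7_5 lc_c_Cert_tree lc_c_rc_14_2 lc_c_rc_7_1 lc_c_rc_11_1 lc_c_rc_7_1 lc_c_rc_24_4 lc_c_rc_13_2 lc_c_rc_22_3 lc_c_rc_11_1 lc_c_rc_7_1 lc_c_rc_22_7 lc_c_rc_13_2 lc_c_rc_11_1 lc_c_Cert_tree lc_c_Cert_tree lc_c_rc_7_5 lc_c_rc_7_5 lc_c_rc_13_2 lc_c_Cert_tree lc_c_rc_14_2 lc_c_rc_7_3 lc_c_rc_2_1 lc_c_rc_11_1 lc_c_rc_2_3 lc_c_rc_24_6 lc_c_rc_22_9 lc_c_rc_26_2 lc_c_rc_26_8 lc_c_rc_12_12 lc_c_rc_11_1 lc_c_rc_25_5 lc_c_Cert_tree lc_c_rc_7_3 lc_c_rc_22_3 lc_c_rc_13_2 lc_c_rc_25_5 lc_c_rc_2_1 lc_c_rc_11_1 lc_c_rc_7_1 lc_c_rc_24_6 lc_c_rc_11_1 lc_c_rc_22_3 lc_c_rc_26_2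 lc_c_rc_11_1 lc_c_rc_13_2 lc_c_rc_24_6 lc_c_rc_11_1 lc_c_rc_26_10 lc_c_rc_23_5 lc_c_rc_26_2 lc_c_rc_11_1 lc_c_rc_23_5 lc_c_rc_23_0 lc_c_rc_24_8 lc_c_rc_22_7) (@D3.rec (fun _ => (Cert rels S Gen.c)) lc_c_rc_26_2 lc_c_rc_7_1 lc_c_rc_11_1 lc_c_rc_23_5 lc_c_rc_22_3 lc_c_rc_7_3 lc_c_rc_11_1 lc_c_rc_13_2 lc_c_rc_24_2 lc_c_rc_22_3 lc_c_rc_14_2 lc_c_rc_26_8 lc_c_rc_11_1 lc_c_rc_11_1 lc_c_rc_13_2 lc_c_rc_12_0 lc_c_rc_11_1 lc_c_rc_22_3 lc_c_rc_12_8 lc_c_rc_13_2 lc_c_Cert_tree lc_c_rc_11_1 lc_c_rc_24_2 lc_c_rc_11_1 lc_c_rc_26_8 lc_c_rc_13_0 lc_c_rc_11_1 lc_c_rc_13_2 lc_c_rc_13_0 lc_c_rc_11_1 lc_c_rc_23_5 lc_c_rc_7_3 lc_c_rc_11_1 lc_c_rc_24_4 lc_c_rc_11_1 lc_c_rc_11_1 lc_c_rc_12_12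 lc_c_rc_13_2 lc_c_rc_11_1 lc_c_rc_2_3 lc_c_rc_14_2 lc_c_rc_11_1 lc_c_rc_11_1 lc_c_rc_24_2 lc_c_rc_11_1 lc_c_rc_24_2 lc_c_rc_26_2 lc_c_rc_13_2 lc_c_rc_7_3 lc_c_rc_13_2 lc_c_rc_2_3 lc_c_rc_12_0 lc_c_rc_11_1 lc_c_rc_2_1 lc_c_rc_26_4 lc_c_rc_14_2 lc_c_rc_22_3 lc_c_rc_11_1 lc_c_rc_11_1 lc_c_rc_2_3 lc_c_rc_24_4 lc_c_rc_11_1) (@D3.rec (fun _ => (Cert rels S Gen.c)) lc_c_rc_26_2 lc_c_rc_26_2 lc_c_rc_24_2 lc_c_rc_11_1 lc_c_rc_13_2 lc_c_rc_24_2 lc_c_rc_7_5 lc_c_rc_26_8 lc_c_rc_11_1 lc_c_rc_2_3 lc_c_Cert_tree lc_c_rc_2_3 lc_c_rc_11_1 lc_c_rc_7_1 lc_c_rc_11_1 lc_c_rc_11_1 lc_c_rc_22_3 lc_c_rc_7_3 lc_c_rc_7_3 lc_c_rc_22_3 lc_c_rc_11_1 lc_c_rc_26_4 lc_c_rc_11_1 lc_c_rc_13_2 lc_c_rc_22_3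 lc_c_rc_13_2 lc_c_rc_24_4 lc_c_rc_2_3 lc_c_rc_11_1 lc_c_rc_11_1 lc_c_rc_13_0 lc_c_rc_23_0 lc_c_rc_22_7 lc_c_rc_14_2 lc_c_rc_11_1 lc_c_rc_23_0 lc_c_Cert_tree lc_c_rc_23_5 lc_c_rc_7_5 lc_c_Cert_tree lc_c_rc_7_3 lc_c_Cert_tree lc_c_Cert_tree lc_c_rc_23_5 lc_c_rc_11_1 lc_c_rc_22_3 lc_c_rc_7_3 lc_c_rc_24_2 lc_c_rc_7_3 lc_c_rc_22_3 lc_c_rc_11_1 lc_c_rc_25_5 lc_c_rc_13_2 lc_c_rc_11_1 lc_c_rc_23_5 lc_c_rc_26_4 lc_c_rc_11_1 lc_c_rc_13_2 lc_c_rc_7_3 lc_c_rc_11_1 lc_c_rc_13_2 lc_c_rc_24_6) (@D3.rec (fun _ => (Cert rels S Gen.c)) lc_c_rc_11_1 lc_c_rc_22_5 lc_c_rc_24_8 lc_c_rc_11_1 lc_c_rc_11_1 lc_c_rc_7_5 lc_c_rc_2_1 lc_c_rc_11_1 lc_c_rc_13_2 lc_c_rc_23_0 lc_c_rc_22_5 lc_c_rc_11_1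 lc_c_rc_2_3 lc_c_rc_11_1 lc_c_rc_11_1 lc_c_rc_24_2 lc_c_rc_2_1 lc_c_rc_11_1 lc_c_Cert_tree lc_c_rc_11_1 lc_c_rc_13_2 lc_c_rc_24_6 lc_c_rc_11_1 lc_c_rc_24_6 lc_c_rc_13_0 lc_c_Cert_tree lc_c_Cert_tree lc_c_rc_23_0 lc_c_rc_23_5 lc_c_Cert_tree lc_c_Cert_tree lc_c_rc_23_5 lc_c_rc_2_3 lc_c_rc_22_9 lc_c_rc_11_1 lc_c_rc_24_2 lc_c_rc_14_2 lc_c_rc_11_1 lc_c_rc_22_3 lc_c_rc_13_2 lc_c_rc_26_4 lc_c_rc_11_1 lc_c_rc_2_3 lc_c_rc_13_2 lc_c_rc_26_8 lc_c_rc_11_1 lc_c_rc_23_5 lc_c_rc_7_5 lc_c_rc_13_0 lc_c_Cert_tree lc_c_rc_11_1 lc_c_rc_14_2 lc_c_Cert_tree lc_c_rc_23_0 lc_c_Cert_tree lc_c_rc_23_0 lc_c_rc_13_2 lc_c_rc_11_1 lc_c_rc_11_1 lc_c_rc_24_4 lc_c_rc_14_2 lc_c_Cert_tree) (@D3.rec (fun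 _ => (Cert rels S Gen.c)) lc_c_rc_7_5 lc_c_rc_11_1 lc_c_rc_2_3 lc_c_Cert_tree lc_c_rc_11_1 lc_c_Cert_tree lc_c_rc_11_1 lc_c_rc_23_0 lc_c_rc_24_4 lc_c_rc_23_0 lc_c_rc_7_1 lc_c_rc_2_1 lc_c_rc_14_2 lc_c_rc_13_2 lc_c_rc_14_0 lc_c_Cert_tree lc_c_Cert_tree lc_c_rc_2_3 lc_c_rc_13_0 lc_c_rc_22_5 lc_c_rc_13_0 lc_c_rc_2_3 lc_c_rc_11_1 lc_c_rc_11_1 lc_c_rc_23_0 lc_c_rc_11_1 lc_c_rc_11_1 lc_c_rc_2_3 lc_c_Cert_tree lc_c_rc_7_3 lc_c_rc_11_1 lc_c_rc_11_1 lc_c_rc_7_1 lc_c_rc_23_5 lc_c_rc_26_2 lc_c_rc_22_3 lc_c_rc_11_1 lc_c_rc_22_9 lc_c_rc_13_2 lc_c_rc_11_1 lc_c_rc_7_5 lc_c_rc_13_0 lc_c_rc_22_3 lc_c_rc_22_3 lc_c_rc_24_4 lc_c_rc_23_0 lc_c_rc_2_3 lc_c_rc_11_1 lc_c_rc_26_4 lc_c_rc_11_1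 lc_c_rc_26_2 lc_c_rc_13_2 lc_c_rc_11_1 lc_c_rc_2_3 lc_c_rc_11_1 lc_c_rc_14_2 lc_c_rc_13_2 lc_c_rc_2_3 lc_c_rc_22_3 lc_c_rc_11_1 lc_c_rc_13_0 lc_c_rc_7_1) (@D3.rec (fun _ => (Cert rels S Gen.c)) lc_c_Cert_tree lc_c_rc_23_5 lc_c_rc_26_2 lc_c_rc_11_1 lc_c_rc_7_5 lc_c_rc_2_1 lc_c_rc_11_1 lc_c_rc_26_4 lc_c_rc_24_6 lc_c_rc_23_0 lc_c_rc_22_9 lc_c_rc_13_2 lc_c_rc_26_4 lc_c_rc_26_2 lc_c_rc_22_5 lc_c_rc_13_2 lc_c_rc_13_0 lc_c_rc_11_1 lc_c_rc_11_1 lc_c_Cert_tree lc_c_rc_2_1 lc_c_Cert_tree lc_c_rc_12_2 lc_c_rc_22_3 lc_c_rc_13_2 lc_c_rc_26_4 lc_c_rc_13_2 lc_c_rc_26_4 lc_c_rc_7_5 lc_c_rc_13_2 lc_c_rc_24_4 lc_c_rc_13_2 lc_c_rc_2_3 lc_c_rc_22_9 lc_c_rc_13_2 lc_c_rc_23_0 lc_c_rc_11_1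 lc_c_rc_11_1 lc_c_rc_13_2 lc_c_rc_24_4 lc_c_rc_24_6 lc_c_Cert_tree lc_c_rc_11_1 lc_c_rc_7_3 lc_c_rc_13_2 lc_c_rc_11_1 lc_c_rc_13_2 lc_c_rc_11_1 lc_c_rc_11_1 lc_c_rc_11_1 lc_c_rc_13_2 lc_c_rc_13_2 lc_c_rc_12_2 lc_c_rc_13_2 lc_c_rc_11_1 lc_c_rc_11_1 lc_c_rc_11_1 lc_c_rc_11_1 lc_c_rc_25_17 lc_c_rc_14_2 lc_c_rc_12_2 lc_c_rc_13_0) (@D3.rec (fun _ => (Cert rels S Gen.c)) lc_c_rc_13_2 lc_c_rc_23_0 lc_c_rc_11_1 lc_c_rc_13_2 lc_c_rc_13_0 lc_c_rc_11_1 lc_c_rc_13_2 lc_c_rc_11_1 lc_c_Cert_tree lc_c_rc_26_10 lc_c_rc_11_1 lc_c_rc_11_1 lc_c_rc_13_2 lc_c_rc_26_4 lc_c_rc_11_1 lc_c_rc_13_2 lc_c_rc_26_2 lc_c_rc_11_1 lc_c_rc_13_2 lc_c_rc_24_4 lc_c_rc_24_4 lc_c_rc_7_1 lc_c_rc_22_9 lc_c_rc_13_2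 lc_c_Cert_tree lc_c_Cert_tree lc_c_rc_2_1 lc_c_rc_13_0 lc_c_rc_26_4 lc_c_rc_11_1 lc_c_rc_22_9 lc_c_rc_11_1 lc_c_rc_22_5 lc_c_rc_13_2 lc_c_rc_11_1 lc_c_rc_26_10 lc_c_rc_13_2 lc_c_rc_24_6 lc_c_rc_11_1 lc_c_rc_7_5 lc_c_Cert_tree lc_c_rc_13_2 lc_c_rc_7_5 lc_c_rc_13_2 lc_c_rc_26_10 lc_c_rc_24_2 lc_c_rc_25_5 lc_c_rc_14_2 lc_c_rc_26_4 lc_c_rc_11_1 lc_c_rc_7_3 lc_c_rc_13_2 lc_c_rc_7_5 lc_c_Cert_tree lc_c_rc_11_1 lc_c_rc_24_4 lc_c_rc_11_1 lc_c_rc_13_2 lc_c_rc_11_1 lc_c_rc_11_1 lc_c_rc_24_4 lc_c_rc_23_0) (@D3.rec (fun _ => (Cert rels S Gen.c)) lc_c_rc_26_8 lc_c_rc_12_2 lc_c_rc_23_5 lc_c_rc_11_1 lc_c_rc_24_8 lc_c_rc_11_1 lc_c_Cert_tree lc_c_rc_11_1 lc_c_rc_7_1 lc_c_rc_24_6 lc_c_rc_13_2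 lc_c_rc_13_2 lc_c_rc_2_3 lc_c_rc_26_2 lc_c_rc_26_4 lc_c_rc_13_2 lc_c_rc_11_1 lc_c_rc_13_2 lc_c_rc_2_3 lc_c_rc_13_2 lc_c_rc_7_1 lc_c_rc_11_1 lc_c_rc_13_2 lc_c_rc_11_1 lc_c_rc_13_2 lc_c_rc_24_8 lc_c_rc_13_2 lc_c_rc_11_1 lc_c_rc_24_6 lc_c_rc_11_1 lc_c_rc_12_14 lc_c_rc_22_3 lc_c_rc_11_1 lc_c_rc_13_2 lc_c_rc_11_1 lc_c_rc_24_4 lc_c_rc_13_0 lc_c_rc_7_1 lc_c_rc_22_7 lc_c_rc_11_1 lc_c_rc_11_1 lc_c_rc_23_5 lc_c_rc_7_1 lc_c_rc_12_14 lc_c_rc_26_4 lc_c_rc_22_9 lc_c_rc_13_2 lc_c_rc_26_4 lc_c_rc_22_5 lc_c_rc_23_5 lc_c_rc_13_0 lc_c_rc_22_5 lc_c_rc_14_2 lc_c_rc_24_6 lc_c_rc_13_2 lc_c_rc_11_1 lc_c_rc_14_2 lc_c_rc_23_0 lc_c_rc_11_1 lc_c_rc_26_8 lc_c_rc_7_1 lc_c_Cert_tree) (@D3.rec (fun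 _ => (Cert rels S Gen.c)) lc_c_rc_26_4 lc_c_rc_25_9 lc_c_rc_24_8 lc_c_rc_11_1 lc_c_rc_13_2 lc_c_rc_24_4 lc_c_rc_13_0 lc_c_Cert_tree lc_c_rc_13_2 lc_c_rc_24_6 lc_c_rc_7_1 lc_c_rc_13_0 lc_c_rc_26_4 lc_c_rc_11_1 lc_c_rc_13_2 lc_c_rc_13_2 lc_c_rc_11_1 lc_c_rc_11_1 lc_c_rc_22_5 lc_c_rc_13_0 lc_c_rc_11_1 lc_c_rc_22_5 lc_c_rc_11_1 lc_c_rc_12_2 lc_c_rc_11_1 lc_c_rc_13_2 lc_c_rc_13_2 lc_c_rc_26_2 lc_c_rc_13_2 lc_c_rc_11_1 lc_c_rc_11_1 lc_c_rc_22_5 lc_c_rc_14_2 lc_c_rc_11_1 lc_c_rc_13_2 lc_c_rc_13_2 lc_c_Cert_tree lc_c_rc_13_0 lc_c_rc_11_1 lc_c_rc_11_1 lc_c_Cert_tree lc_c_Cert_tree lc_c_rc_11_1 lc_c_rc_11_1 lc_c_rc_7_3 lc_c_rc_11_1 lc_c_rc_13_2 lc_c_rc_11_1 lc_c_rc_22_7 lc_c_rc_22_7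 lc_c_rc_13_0 lc_c_rc_24_4 lc_c_Cert_tree lc_c_rc_7_3 lc_c_rc_22_5 lc_c_rc_26_8 lc_c_rc_26_2 lc_c_rc_11_1 lc_c_rc_22_7 lc_c_rc_11_1 lc_c_rc_11_1 lc_c_rc_11_1) (@D3.rec (fun _ => (Cert rels S Gen.c)) lc_c_rc_13_2 lc_c_rc_14_2 lc_c_rc_12_0 lc_c_rc_13_2 lc_c_rc_23_0 lc_c_rc_26_2 lc_c_rc_13_2 lc_c_rc_24_6 lc_c_Cert_tree lc_c_rc_11_1 lc_c_rc_22_9 lc_c_rc_24_4 lc_c_rc_14_2 lc_c_rc_22_3 lc_c_rc_13_2 lc_c_rc_2_3 lc_c_rc_14_2 lc_c_rc_7_5 lc_c_rc_11_1 lc_c_rc_24_4 lc_c_rc_11_1 lc_c_rc_13_0 lc_c_rc_22_9 lc_c_rc_24_4 lc_c_rc_11_1 lc_c_rc_13_0 lc_c_rc_13_2 lc_c_rc_24_2 lc_c_rc_14_2 lc_c_rc_24_4 lc_c_rc_24_2 lc_c_rc_13_2 lc_c_rc_11_1 lc_c_rc_23_0 lc_c_rc_24_6 lc_c_rc_11_1 lc_c_rc_11_1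 lc_c_rc_14_2 lc_c_rc_24_2 lc_c_rc_26_10 lc_c_rc_11_1 lc_c_rc_13_2 lc_c_rc_22_5 lc_c_rc_13_2 lc_c_rc_11_1 lc_c_rc_12_0 lc_c_rc_24_2 lc_c_rc_11_1 lc_c_rc_23_0 lc_c_rc_26_4 lc_c_rc_7_1 lc_c_rc_13_2 lc_c_rc_24_6 lc_c_rc_22_3 lc_c_rc_14_2 lc_c_rc_11_1 lc_c_rc_11_1 lc_c_rc_11_1 lc_c_rc_13_2 lc_c_rc_23_5 lc_c_rc_11_1 lc_c_rc_2_3) (@D3.rec (fun _ => (Cert rels S Gen.c)) lc_c_rc_22_5 lc_c_rc_22_3 lc_c_Cert_tree lc_c_rc_13_2 lc_c_rc_26_10 lc_c_rc_11_1 lc_c_rc_13_0 lc_c_rc_13_0 lc_c_rc_22_3 lc_c_rc_13_2 lc_c_rc_13_2 lc_c_rc_26_2 lc_c_rc_13_2 lc_c_rc_13_2 lc_c_Cert_tree lc_c_Cert_tree lc_c_Cert_tree lc_c_rc_7_5 lc_c_rc_11_1 lc_c_Cert_tree lc_c_rc_2_3 lc_c_rc_7_3 lc_c_rc_7_3 lc_c_rc_13_2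 lc_c_Cert_tree lc_c_Cert_tree lc_c_rc_11_1 lc_c_rc_22_3 lc_c_rc_13_0 lc_c_rc_11_1 lc_c_rc_11_1 lc_c_rc_11_1 lc_c_rc_7_1 lc_c_Cert_tree lc_c_rc_13_2 lc_c_rc_26_2 lc_c_rc_14_2 lc_c_Cert_tree lc_c_rc_14_0 lc_c_rc_11_1 lc_c_rc_26_4 lc_c_rc_13_2 lc_c_rc_26_2 lc_c_rc_13_2 lc_c_rc_26_10 lc_c_rc_11_1 lc_c_rc_26_4 lc_c_rc_7_1 lc_c_rc_13_2 lc_c_rc_7_5 lc_c_Cert_tree lc_c_rc_7_3 lc_c_rc_26_4 lc_c_rc_13_2 lc_c_rc_13_2 lc_c_rc_13_0 lc_c_rc_13_2 lc_c_rc_23_5 lc_c_rc_7_5 lc_c_rc_11_1 lc_c_Cert_tree lc_c_rc_11_1) (@D3.rec (fun _ => (Cert rels S Gen.c)) lc_c_rc_13_2 lc_c_Cert_tree lc_c_rc_13_2 lc_c_rc_11_1 lc_c_rc_11_1 lc_c_rc_11_1 lc_c_rc_13_2 lc_c_rc_13_0 lc_c_rc_26_2 lc_c_rc_11_1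 lc_c_rc_11_1 lc_c_rc_14_0 lc_c_rc_11_1 lc_c_Cert_tree lc_c_rc_2_3 lc_c_rc_23_5 lc_c_Cert_tree lc_c_rc_13_2 lc_c_rc_11_1 lc_c_rc_26_2 lc_c_rc_7_5 lc_c_rc_24_8 lc_c_rc_13_2 lc_c_rc_7_1 lc_c_rc_24_2 lc_c_rc_26_4 lc_c_rc_22_5 lc_c_rc_13_2 lc_c_Cert_tree lc_c_rc_11_1 lc_c_rc_13_2 lc_c_Cert_tree lc_c_rc_11_1 lc_c_rc_24_6 lc_c_rc_7_3 lc_c_rc_7_5 lc_c_rc_11_1 lc_c_rc_26_2 lc_c_rc_13_2 lc_c_rc_26_2 lc_c_rc_23_0 lc_c_rc_11_1 lc_c_rc_13_2 lc_c_rc_11_1 lc_c_rc_24_6 lc_c_rc_13_2 lc_c_rc_7_3 lc_c_rc_7_5 lc_c_rc_7_1 lc_c_rc_23_5 lc_c_rc_13_2 lc_c_rc_26_2 lc_c_rc_2_3 lc_c_rc_13_2 lc_c_Cert_tree lc_c_rc_24_4 lc_c_rc_13_2 lc_c_rc_7_5 lc_c_rc_23_5 lc_c_rc_13_2 lc_c_Cert_tree lc_c_rc_22_3)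 (@D3.rec (fun _ => (Cert rels S Gen.c)) lc_c_rc_22_3 lc_c_rc_23_5 lc_c_rc_11_1 lc_c_rc_24_8 lc_c_rc_24_2 lc_c_Cert_tree lc_c_rc_7_3 lc_c_rc_22_3 lc_c_rc_13_2 lc_c_rc_11_1 lc_c_rc_11_1 lc_c_rc_13_2 lc_c_rc_7_5 lc_c_rc_7_3 lc_c_rc_13_2 lc_c_rc_22_3 lc_c_rc_12_0 lc_c_rc_11_1 lc_c_rc_11_1 lc_c_rc_22_3 lc_c_rc_13_2 lc_c_rc_23_5 lc_c_rc_24_2 lc_c_rc_7_3 lc_c_rc_13_2 lc_c_rc_7_3 lc_c_rc_26_4 lc_c_rc_26_4 lc_c_rc_13_2 lc_c_rc_13_2 lc_c_rc_13_2 lc_c_rc_14_2 lc_c_Cert_tree lc_c_rc_13_0 lc_c_rc_14_2 lc_c_rc_14_2 lc_c_rc_24_2 lc_c_rc_13_0 lc_c_Cert_tree lc_c_rc_14_2 lc_c_rc_7_1 lc_c_Cert_tree lc_c_rc_23_5 lc_c_Cert_tree lc_c_Cert_tree lc_c_rc_11_1 lc_c_rc_22_3 lc_c_rc_7_3 lc_c_Cert_tree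 lc_c_rc_13_2 lc_c_rc_7_5 lc_c_rc_7_1 lc_c_rc_11_1 lc_c_rc_2_3 lc_c_rc_13_2 lc_c_rc_2_1 lc_c_rc_22_3 lc_c_rc_14_2 lc_c_rc_26_4 lc_c_rc_11_1 lc_c_rc_23_0 lc_c_rc_26_10) (@D3.rec (fun _ => (Cert rels S Gen.c)) lc_c_rc_22_3 lc_c_rc_13_2 lc_c_rc_23_0 lc_c_rc_7_5 lc_c_rc_11_1 lc_c_rc_13_2 lc_c_rc_13_0 lc_c_Cert_tree lc_c_Cert_tree lc_c_rc_14_2 lc_c_rc_11_1 lc_c_rc_13_2 lc_c_Cert_tree lc_c_rc_14_2 lc_c_rc_24_2 lc_c_rc_7_1 lc_c_rc_14_2 lc_c_rc_11_1 lc_c_rc_13_0 lc_c_rc_7_3 lc_c_rc_24_2 lc_c_rc_26_4 lc_c_rc_11_1 lc_c_Cert_tree lc_c_rc_26_10 lc_c_rc_11_1 lc_c_rc_11_1 lc_c_rc_2_1 lc_c_rc_13_2 lc_c_rc_7_5 lc_c_rc_11_1 lc_c_rc_7_3 lc_c_rc_13_2 lc_c_rc_7_3 lc_c_rc_2_1 lc_c_rc_11_1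 lc_c_rc_13_2 lc_c_Cert_tree lc_c_Cert_tree lc_c_rc_14_2 lc_c_rc_24_8 lc_c_rc_13_0 lc_c_Cert_tree lc_c_rc_14_2 lc_c_rc_11_1 lc_c_rc_11_1 lc_c_rc_14_2 lc_c_rc_26_4 lc_c_rc_23_5 lc_c_rc_14_0 lc_c_rc_13_2 lc_c_Cert_tree lc_c_rc_13_2 lc_c_Cert_tree lc_c_rc_11_1 lc_c_rc_11_1 lc_c_rc_23_5 lc_c_rc_11_1 lc_c_Cert_tree lc_c_rc_11_1 lc_c_rc_11_1 lc_c_Cert_tree) (@D3.rec (fun _ => (Cert rels S Gen.c)) lc_c_rc_14_2 lc_c_rc_24_2 lc_c_rc_23_0 lc_c_rc_11_1 lc_c_rc_13_2 lc_c_rc_24_8 lc_c_rc_7_5 lc_c_rc_14_2 lc_c_rc_26_8 lc_c_rc_13_2 lc_c_rc_13_2 lc_c_rc_23_0 lc_c_Cert_tree lc_c_rc_14_2 lc_c_rc_11_1 lc_c_rc_13_2 lc_c_rc_23_5 lc_c_rc_23_5 lc_c_rc_7_5 lc_c_rc_13_2 lc_c_Cert_tree lc_c_rc_26_10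 lc_c_rc_14_2 lc_c_rc_13_2 lc_c_rc_23_0 lc_c_rc_11_1 lc_c_rc_14_2 lc_c_rc_2_3 lc_c_rc_13_2 lc_c_rc_23_0 lc_c_rc_23_0 lc_c_rc_13_2 lc_c_rc_26_2 lc_c_rc_13_2 lc_c_rc_11_1 lc_c_rc_11_1 lc_c_rc_22_7 lc_c_rc_26_10 lc_c_rc_24_6 lc_c_rc_14_2 lc_c_rc_11_1 lc_c_rc_12_0 lc_c_rc_14_2 lc_c_rc_23_0 lc_c_rc_7_1 lc_c_rc_26_2 lc_c_rc_23_5 lc_c_rc_7_1 lc_c_rc_13_2 lc_c_rc_23_5 lc_c_rc_23_5 lc_c_rc_13_2 lc_c_rc_2_3 lc_c_rc_26_4 lc_c_rc_14_2 lc_c_rc_24_6 lc_c_rc_22_3 lc_c_rc_11_1 lc_c_rc_11_1 lc_c_rc_13_2 lc_c_rc_13_2 lc_c_rc_26_4) (@D3.rec (fun _ => (Cert rels S Gen.c)) lc_c_rc_23_5 lc_c_rc_7_5 lc_c_rc_13_2 lc_c_rc_23_0 lc_c_rc_26_2 lc_c_Cert_tree lc_c_Cert_tree lc_c_rc_2_3 lc_c_rc_11_1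 lc_c_rc_14_2 lc_c_rc_13_2 lc_c_rc_13_0 lc_c_rc_23_0 lc_c_rc_24_6 lc_c_rc_11_1 lc_c_rc_11_1 lc_c_rc_11_1 lc_c_rc_23_0 lc_c_rc_26_4 lc_c_rc_13_2 lc_c_rc_22_9 lc_c_rc_13_2 lc_c_rc_7_1 lc_c_rc_13_2 lc_c_rc_26_10 lc_c_rc_26_10 lc_c_rc_13_2 lc_c_rc_23_0 lc_c_rc_7_3 lc_c_rc_25_5 lc_c_rc_13_2 lc_c_rc_7_3 lc_c_rc_22_3 lc_c_rc_25_17 lc_c_rc_23_5 lc_c_rc_14_0 lc_c_rc_13_2 lc_c_rc_11_1 lc_c_rc_11_1 lc_c_rc_11_1 lc_c_Cert_tree lc_c_rc_11_1 lc_c_rc_11_1 lc_c_rc_13_0 lc_c_rc_11_1 lc_c_Cert_tree lc_c_Cert_tree lc_c_rc_26_4 lc_c_rc_26_4 lc_c_rc_25_9 lc_c_rc_13_2 lc_c_rc_13_2 lc_c_rc_11_1 lc_c_rc_7_5 lc_c_rc_14_2 lc_c_rc_22_5 lc_c_rc_26_2 lc_c_rc_2_3 lc_c_rc_13_2 lc_c_Cert_tree lc_c_rc_26_4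 lc_c_rc_7_5) (@D3.rec (fun _ => (Cert rels S Gen.c)) lc_c_rc_13_2 lc_c_rc_24_2 lc_c_rc_13_2 lc_c_rc_11_1 lc_c_rc_13_2 lc_c_rc_13_0 lc_c_rc_24_4 lc_c_rc_23_5 lc_c_rc_14_2 lc_c_rc_11_1 lc_c_rc_22_3 lc_c_rc_23_5 lc_c_rc_14_2 lc_c_rc_11_1 lc_c_Cert_tree lc_c_rc_7_3 lc_c_rc_7_5 lc_c_rc_13_2 lc_c_Cert_tree lc_c_Cert_tree lc_c_rc_11_1 lc_c_rc_22_9 lc_c_rc_7_3 lc_c_rc_11_1 lc_c_rc_11_1 lc_c_rc_24_2 lc_c_rc_23_0 lc_c_rc_11_1 lc_c_rc_22_3 lc_c_rc_26_2 lc_c_rc_23_5 lc_c_rc_13_2 lc_c_Cert_tree lc_c_rc_14_2 lc_c_rc_11_1 lc_c_rc_11_1 lc_c_rc_7_3 lc_c_rc_11_1 lc_c_rc_13_0 lc_c_rc_13_0 lc_c_rc_11_1 lc_c_rc_14_2 lc_c_rc_11_1 lc_c_Cert_tree lc_c_rc_24_8 lc_c_rc_23_0 lc_c_rc_14_2 lc_c_rc_7_1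 lc_c_rc_11_1 lc_c_rc_2_3 lc_c_rc_24_2 lc_c_rc_13_2 lc_c_rc_22_3 lc_c_rc_22_7 lc_c_rc_11_1 lc_c_rc_22_5 lc_c_rc_22_5 lc_c_rc_23_0 lc_c_rc_22_5 lc_c_rc_14_2 lc_c_rc_24_4 lc_c_rc_7_5) (@D3.rec (fun _ => (Cert rels S Gen.c)) lc_c_rc_7_3 lc_c_rc_13_2 lc_c_rc_13_2 lc_c_rc_26_10 lc_c_rc_14_2 lc_c_rc_11_1 lc_c_rc_25_5 lc_c_rc_22_5 lc_c_rc_11_1 lc_c_rc_13_2 lc_c_rc_13_0 lc_c_rc_11_1 lc_c_Cert_tree lc_c_rc_14_2 lc_c_rc_13_2 lc_c_rc_22_3 lc_c_rc_13_2 lc_c_rc_24_4 lc_c_rc_11_1 lc_c_rc_7_1 lc_c_Cert_tree lc_c_rc_7_1 lc_c_rc_22_3 lc_c_rc_13_2 lc_c_rc_14_0 lc_c_Cert_tree lc_c_rc_22_3 lc_c_rc_11_1 lc_c_rc_24_4 lc_c_rc_13_0 lc_c_rc_13_0 lc_c_rc_22_7 lc_c_rc_11_1 lc_c_rc_11_1 lc_c_rc_24_6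 lc_c_rc_13_2 lc_c_rc_7_3 lc_c_rc_11_1 lc_c_rc_13_0 lc_c_rc_14_0 lc_c_rc_26_2 lc_c_rc_26_4 lc_c_rc_11_1 lc_c_rc_13_2 lc_c_rc_11_1 lc_c_rc_11_1 lc_c_Cert_tree lc_c_rc_23_5 lc_c_rc_13_2 lc_c_rc_24_6 lc_c_rc_13_0 lc_c_rc_14_2 lc_c_rc_11_1 lc_c_rc_11_1 lc_c_rc_7_3 lc_c_rc_13_2 lc_c_rc_13_2 lc_c_rc_25_1 lc_c_rc_11_1 lc_c_rc_11_1 lc_c_rc_26_8 lc_c_rc_13_2)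
def ce_c_20 : D2 → D3 → (Cert rels S Gen.c) := @D2.rec (fun _ => D3 → (Cert rels S Gen.c)) (@D3.rec (fun _ => (Cert rels S Gen.c)) lc_c_rc_7_5 lc_c_rc_13_2 lc_c_rc_22_9 lc_c_rc_2_3 lc_c_rc_26_4 lc_c_rc_2_3 lc_c_rc_2_1 lc_c_rc_23_0 lc_c_rc_11_1 lc_c_rc_7_3 lc_c_rc_13_2 lc_c_rc_24_8 lc_c_rc_11_1 lc_c_rc_13_2 lc_c_rc_22_3 lc_c_rc_13_2 lc_c_rc_2_1 lc_c_rc_11_1 lc_c_rc_2_3 lc_c_rc_26_8 lc_c_rc_2_3 lc_c_rc_13_2 lc_c_rc_13_2 lc_c_Cert_tree lc_c_rc_14_0 lc_c_rc_7_5 lc_c_rc_11_1 lc_c_rc_26_10 lc_c_rc_7_5 lc_c_rc_22_5 lc_c_rc_13_2 lc_c_rc_7_5 lc_c_rc_12_14 lc_c_rc_13_2 lc_c_rc_23_0 lc_c_rc_22_5 lc_c_rc_26_10 lc_c_rc_25_17 lc_c_rc_26_10 lc_c_rc_2_3 lc_c_rc_26_8 lc_c_rc_26_8 lc_c_rc_12_4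 lc_c_rc_11_1 lc_c_rc_2_3 lc_c_rc_26_2 lc_c_rc_13_2 lc_c_rc_13_2 lc_c_rc_24_6 lc_c_rc_11_1 lc_c_rc_22_9 lc_c_rc_14_2 lc_c_rc_14_0 lc_c_Cert_tree lc_c_rc_23_0 lc_c_rc_13_2 lc_c_rc_11_1 lc_c_rc_24_4 lc_c_rc_14_2 lc_c_rc_11_1 lc_c_rc_24_2 lc_c_rc_22_5) (@D3.rec (fun _ => (Cert rels S Gen.c)) lc_c_rc_22_5 lc_c_rc_24_6 lc_c_rc_13_2 lc_c_rc_26_10 lc_c_rc_23_0 lc_c_Cert_tree lc_c_rc_14_2 lc_c_rc_11_1 lc_c_rc_23_5 lc_c_rc_13_2 lc_c_rc_11_1 lc_c_rc_12_0 lc_c_rc_23_5 lc_c_rc_26_8 lc_c_rc_13_2 lc_c_rc_2_1 lc_c_rc_26_8 lc_c_rc_13_2 lc_c_rc_13_2 lc_c_Cert_tree lc_c_rc_13_2 lc_c_rc_13_2 lc_c_rc_11_1 lc_c_rc_13_2 lc_c_rc_13_2 lc_c_rc_11_1 lc_c_rc_22_5 lc_c_rc_2_1 lc_c_rc_11_1 lc_c_rc_26_4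 lc_c_rc_11_1 lc_c_rc_13_2 lc_c_rc_11_1 lc_c_rc_11_1 lc_c_rc_22_7 lc_c_rc_14_2 lc_c_rc_26_4 lc_c_rc_7_5 lc_c_rc_13_2 lc_c_rc_7_5 lc_c_rc_23_0 lc_c_rc_11_1 lc_c_rc_7_3 lc_c_rc_24_2 lc_c_rc_26_4 lc_c_rc_24_8 lc_c_rc_7_5 lc_c_rc_7_5 lc_c_rc_13_2 lc_c_Cert_tree lc_c_rc_24_2 lc_c_rc_24_4 lc_c_rc_11_1 lc_c_rc_13_2 lc_c_rc_22_7 lc_c_rc_13_2 lc_c_rc_22_5 lc_c_rc_11_1 lc_c_rc_13_2 lc_c_rc_13_2 lc_c_rc_23_0 lc_c_rc_24_4) (@D3.rec (fun _ => (Cert rels S Gen.c)) lc_c_rc_13_2 lc_c_rc_7_3 lc_c_rc_13_2 lc_c_rc_13_2 lc_c_rc_26_2 lc_c_rc_13_2 lc_c_rc_11_1 lc_c_rc_24_2 lc_c_rc_11_1 lc_c_rc_11_1 lc_c_rc_26_4 lc_c_rc_13_2 lc_c_rc_26_8 lc_c_rc_24_2 lc_c_rc_13_2 lc_c_Cert_tree lc_c_Cert_tree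 lc_c_rc_14_2 lc_c_rc_14_2 lc_c_rc_11_1 lc_c_Cert_tree lc_c_rc_11_1 lc_c_Cert_tree lc_c_rc_13_2 lc_c_Cert_tree lc_c_Cert_tree lc_c_rc_11_1 lc_c_rc_14_2 lc_c_rc_23_5 lc_c_rc_13_2 lc_c_rc_13_2 lc_c_Cert_tree lc_c_Cert_tree lc_c_Cert_tree lc_c_rc_14_2 lc_c_rc_11_1 lc_c_Cert_tree lc_c_rc_7_3 lc_c_Cert_tree lc_c_Cert_tree lc_c_rc_11_1 lc_c_rc_22_5 lc_c_rc_7_3 lc_c_Cert_tree lc_c_rc_26_4 lc_c_rc_11_1 lc_c_rc_13_2 lc_c_rc_11_1 lc_c_rc_26_10 lc_c_rc_11_1 lc_c_rc_22_3 lc_c_rc_7_1 lc_c_rc_24_2 lc_c_rc_24_8 lc_c_rc_11_1 lc_c_rc_14_2 lc_c_rc_26_4 lc_c_rc_13_2 lc_c_rc_26_8 lc_c_rc_13_2 lc_c_rc_13_2 lc_c_rc_22_3) (@D3.rec (fun _ => (Cert rels S Gen.c)) lc_c_rc_26_4 lc_c_rc_11_1 lc_c_rc_14_2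 lc_c_rc_24_8 lc_c_rc_11_1 lc_c_rc_22_5 lc_c_rc_24_2 lc_c_rc_26_4 lc_c_rc_13_2 lc_c_rc_22_9 lc_c_rc_23_5 lc_c_rc_24_4 lc_c_rc_11_1 lc_c_rc_11_1 lc_c_rc_13_2 lc_c_rc_23_0 lc_c_Cert_tree lc_c_rc_14_2 lc_c_rc_11_1 lc_c_rc_11_1 lc_c_rc_26_4 lc_c_rc_25_9 lc_c_rc_24_4 lc_c_rc_26_8 lc_c_rc_7_5 lc_c_rc_7_1 lc_c_rc_14_2 lc_c_rc_22_3 lc_c_rc_13_2 lc_c_Cert_tree lc_c_Cert_tree lc_c_rc_11_1 lc_c_rc_24_2 lc_c_rc_23_0 lc_c_rc_2_3 lc_c_rc_26_2 lc_c_rc_11_1 lc_c_rc_13_2 lc_c_rc_11_1 lc_c_rc_11_1 lc_c_rc_11_1 lc_c_rc_11_1 lc_c_rc_22_7 lc_c_rc_14_2 lc_c_rc_7_1 lc_c_rc_11_1 lc_c_rc_2_1 lc_c_rc_22_9 lc_c_rc_7_3 lc_c_Cert_tree lc_c_rc_23_0 lc_c_rc_11_1 lc_c_rc_24_2 lc_c_rc_11_1 lc_c_rc_2_3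 lc_c_Cert_tree lc_c_rc_11_1 lc_c_rc_13_2 lc_c_rc_7_3 lc_c_rc_23_5 lc_c_rc_11_1 lc_c_rc_11_1) (@D3.rec (fun _ => (Cert rels S Gen.c)) lc_c_rc_12_2 lc_c_rc_11_1 lc_c_rc_7_3 lc_c_rc_23_5 lc_c_rc_7_3 lc_c_rc_22_5 lc_c_rc_24_8 lc_c_rc_11_1 lc_c_rc_22_5 lc_c_rc_11_1 lc_c_rc_13_2 lc_c_rc_26_4 lc_c_rc_26_2 lc_c_Cert_tree lc_c_rc_11_1 lc_c_rc_23_0 lc_c_rc_13_2 lc_c_rc_11_1 lc_c_rc_14_2 lc_c_rc_26_4 lc_c_rc_26_2 lc_c_rc_11_1 lc_c_rc_22_3 lc_c_rc_13_2 lc_c_rc_13_2 lc_c_rc_24_4 lc_c_rc_24_6 lc_c_rc_22_5 lc_c_rc_14_2 lc_c_rc_11_1 lc_c_rc_13_2 lc_c_rc_23_5 lc_c_rc_13_2 lc_c_rc_13_2 lc_c_rc_24_2 lc_c_rc_13_2 lc_c_rc_11_1 lc_c_rc_13_2 lc_c_rc_23_0 lc_c_rc_23_0 lc_c_rc_26_8 lc_c_rc_13_2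 lc_c_rc_11_1 lc_c_rc_22_5 lc_c_rc_14_2 lc_c_rc_7_3 lc_c_Cert_tree lc_c_rc_13_2 lc_c_rc_11_1 lc_c_rc_23_5 lc_c_rc_14_2 lc_c_rc_26_2 lc_c_rc_13_0 lc_c_rc_13_2 lc_c_rc_11_1 lc_c_rc_11_1 lc_c_rc_24_4 lc_c_rc_13_2 lc_c_rc_23_5 lc_c_rc_11_1 lc_c_rc_11_1 lc_c_rc_11_1) (@D3.rec (fun _ => (Cert rels S Gen.c)) lc_c_rc_26_8 lc_c_rc_7_5 lc_c_rc_7_3 lc_c_rc_12_0 lc_c_rc_11_1 lc_c_rc_26_4 lc_c_rc_11_1 lc_c_rc_7_5 lc_c_rc_14_2 lc_c_rc_22_5 lc_c_rc_13_2 lc_c_Cert_tree lc_c_rc_2_3 lc_c_rc_13_2 lc_c_Cert_tree lc_c_rc_25_9 lc_c_rc_11_1 lc_c_rc_13_2 lc_c_rc_11_1 lc_c_rc_23_0 lc_c_rc_24_2 lc_c_rc_26_2 lc_c_rc_22_3 lc_c_rc_13_0 lc_c_rc_13_2 lc_c_rc_11_1 lc_c_rc_26_2 lc_c_rc_13_0 lc_c_rc_22_7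 lc_c_rc_7_1 lc_c_rc_11_1 lc_c_rc_11_1 lc_c_rc_7_3 lc_c_rc_13_2 lc_c_rc_7_5 lc_c_rc_2_3 lc_c_rc_26_8 lc_c_rc_11_1 lc_c_rc_11_1 lc_c_rc_13_0 lc_c_rc_25_1 lc_c_rc_22_5 lc_c_rc_22_3 lc_c_rc_11_1 lc_c_rc_26_4 lc_c_rc_13_2 lc_c_rc_2_3 lc_c_rc_13_2 lc_c_rc_2_3 lc_c_rc_7_5 lc_c_rc_26_2 lc_c_rc_26_2 lc_c_rc_14_2 lc_c_rc_11_1 lc_c_rc_14_2 lc_c_rc_13_0 lc_c_rc_11_1 lc_c_Cert_tree lc_c_rc_26_10 lc_c_rc_26_4 lc_c_rc_14_2 lc_c_rc_7_5) (@D3.rec (fun _ => (Cert rels S Gen.c)) lc_c_Cert_tree lc_c_rc_11_1 lc_c_rc_2_3 lc_c_rc_26_8 lc_c_rc_13_2 lc_c_rc_13_2 lc_c_rc_14_2 lc_c_rc_24_4 lc_c_rc_22_9 lc_c_rc_14_2 lc_c_rc_11_1 lc_c_rc_7_1 lc_c_rc_13_2 lc_c_rc_26_8 lc_c_Cert_tree lc_c_rc_11_1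 lc_c_rc_22_7 lc_c_rc_12_2 lc_c_Cert_tree lc_c_rc_2_3 lc_c_Cert_tree lc_c_rc_14_2 lc_c_rc_13_0 lc_c_rc_7_5 lc_c_rc_26_2 lc_c_rc_7_1 lc_c_rc_13_2 lc_c_rc_14_2 lc_c_rc_13_2 lc_c_rc_23_5 lc_c_rc_14_0 lc_c_rc_24_2 lc_c_rc_24_4 lc_c_rc_26_2 lc_c_rc_22_7 lc_c_rc_11_1 lc_c_rc_11_1 lc_c_rc_13_2 lc_c_rc_2_3 lc_c_rc_11_1 lc_c_rc_13_2 lc_c_rc_26_10 lc_c_Cert_tree lc_c_Cert_tree lc_c_rc_7_3 lc_c_rc_7_5 lc_c_rc_26_8 lc_c_rc_2_1 lc_c_rc_13_2 lc_c_rc_11_1 lc_c_rc_11_1 lc_c_rc_2_1 lc_c_rc_7_3 lc_c_rc_13_2 lc_c_rc_7_3 lc_c_rc_7_3 lc_c_rc_7_5 lc_c_rc_14_2 lc_c_rc_22_5 lc_c_rc_2_3 lc_c_rc_2_3 lc_c_rc_25_5) (@D3.rec (fun _ => (Cert rels S Gen.c)) lc_c_Cert_tree lc_c_rc_24_2 lc_c_rc_7_3 lc_c_rc_13_0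 lc_c_rc_26_8 lc_c_rc_7_3 lc_c_rc_13_2 lc_c_Cert_tree lc_c_Cert_tree lc_c_rc_14_2 lc_c_rc_14_2 lc_c_rc_14_2 lc_c_rc_12_14 lc_c_rc_7_1 lc_c_rc_11_1 lc_c_rc_26_4 lc_c_rc_12_4 lc_c_rc_11_1 lc_c_rc_13_0 lc_c_rc_14_0 lc_c_rc_14_2 lc_c_rc_11_1 lc_c_rc_11_1 lc_c_rc_26_2 lc_c_rc_11_1 lc_c_rc_22_9 lc_c_rc_11_1 lc_c_rc_11_1 lc_c_rc_22_9 lc_c_rc_12_14 lc_c_rc_11_1 lc_c_rc_13_2 lc_c_rc_24_8 lc_c_rc_23_0 lc_c_rc_14_2 lc_c_rc_11_1 lc_c_rc_13_2 lc_c_rc_26_4 lc_c_rc_11_1 lc_c_rc_26_2 lc_c_rc_22_9 lc_c_rc_11_1 lc_c_rc_13_2 lc_c_rc_7_3 lc_c_rc_13_2 lc_c_rc_23_0 lc_c_rc_13_2 lc_c_rc_24_8 lc_c_Cert_tree lc_c_rc_23_5 lc_c_rc_26_2 lc_c_rc_24_6 lc_c_rc_26_10 lc_c_rc_22_7 lc_c_rc_14_0 lc_c_rc_2_3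 lc_c_rc_26_2 lc_c_rc_14_2 lc_c_rc_13_0 lc_c_rc_26_2 lc_c_rc_11_1 lc_c_rc_24_2) (@D3.rec (fun _ => (Cert rels S Gen.c)) lc_c_rc_11_1 lc_c_rc_11_1 lc_c_rc_11_1 lc_c_rc_13_0 lc_c_rc_14_2 lc_c_rc_11_1 lc_c_rc_24_4 lc_c_rc_11_1 lc_c_rc_11_1 lc_c_rc_22_3 lc_c_rc_12_2 lc_c_rc_13_2 lc_c_rc_7_1 lc_c_rc_7_5 lc_c_rc_22_9 lc_c_rc_23_5 lc_c_rc_13_2 lc_c_rc_26_10 lc_c_rc_26_4 lc_c_rc_2_3 lc_c_Cert_tree lc_c_rc_13_2 lc_c_rc_2_1 lc_c_rc_7_3 lc_c_rc_11_1 lc_c_rc_24_4 lc_c_rc_12_2 lc_c_rc_13_2 lc_c_rc_22_3 lc_c_rc_13_2 lc_c_rc_11_1 lc_c_rc_7_1 lc_c_rc_13_2 lc_c_rc_22_7 lc_c_rc_13_0 lc_c_rc_26_4 lc_c_rc_13_2 lc_c_Cert_tree lc_c_rc_14_0 lc_c_rc_11_1 lc_c_Cert_tree lc_c_rc_2_1 lc_c_rc_11_1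 lc_c_Cert_tree lc_c_rc_2_1 lc_c_rc_13_2 lc_c_rc_11_1 lc_c_rc_24_6 lc_c_rc_11_1 lc_c_rc_11_1 lc_c_rc_22_9 lc_c_rc_13_2 lc_c_rc_7_5 lc_c_rc_14_2 lc_c_rc_13_2 lc_c_rc_22_9 lc_c_rc_13_2 lc_c_Cert_tree lc_c_Cert_tree lc_c_rc_13_0 lc_c_rc_11_1 lc_c_rc_7_1) (@D3.rec (fun _ => (Cert rels S Gen.c)) lc_c_rc_22_7 lc_c_rc_14_2 lc_c_Cert_tree lc_c_rc_13_0 lc_c_rc_7_5 lc_c_rc_24_2 lc_c_rc_26_8 lc_c_rc_11_1 lc_c_rc_26_4 lc_c_rc_22_7 lc_c_rc_23_0 lc_c_rc_11_1 lc_c_rc_7_3 lc_c_rc_26_10 lc_c_rc_11_1 lc_c_rc_26_8 lc_c_rc_2_3 lc_c_rc_11_1 lc_c_rc_2_3 lc_c_rc_13_0 lc_c_rc_2_3 lc_c_rc_11_1 lc_c_rc_11_1 lc_c_rc_14_0 lc_c_rc_14_2 lc_c_rc_11_1 lc_c_rc_13_2 lc_c_rc_11_1 lc_c_rc_13_2 lc_c_rc_7_3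 lc_c_rc_13_2 lc_c_rc_13_2 lc_c_rc_11_1 lc_c_rc_11_1 lc_c_rc_11_1 lc_c_rc_11_1 lc_c_rc_13_2 lc_c_rc_22_3 lc_c_rc_11_1 lc_c_rc_11_1 lc_c_rc_13_2 lc_c_rc_26_10 lc_c_rc_24_6 lc_c_rc_13_2 lc_c_rc_24_2 lc_c_Cert_tree lc_c_Cert_tree lc_c_rc_23_0 lc_c_rc_11_1 lc_c_rc_24_2 lc_c_rc_14_0 lc_c_rc_13_0 lc_c_rc_13_2 lc_c_rc_7_1 lc_c_rc_11_1 lc_c_rc_24_4 lc_c_rc_13_0 lc_c_rc_14_2 lc_c_rc_24_2 lc_c_Cert_tree lc_c_rc_23_5 lc_c_rc_24_8) (@D3.rec (fun _ => (Cert rels S Gen.c)) lc_c_rc_23_0 lc_c_rc_11_1 lc_c_rc_7_3 lc_c_rc_11_1 lc_c_rc_24_4 lc_c_rc_13_0 lc_c_rc_7_1 lc_c_rc_11_1 lc_c_rc_2_3 lc_c_rc_7_3 lc_c_rc_13_2 lc_c_rc_24_6 lc_c_rc_24_4 lc_c_rc_11_1 lc_c_rc_13_2 lc_c_rc_11_1 lc_c_rc_24_6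 lc_c_rc_2_3 lc_c_rc_22_3 lc_c_rc_13_2 lc_c_Cert_tree lc_c_Cert_tree lc_c_Cert_tree lc_c_rc_24_2 lc_c_rc_7_5 lc_c_rc_11_1 lc_c_rc_2_3 lc_c_rc_14_2 lc_c_rc_13_2 lc_c_rc_11_1 lc_c_rc_11_1 lc_c_rc_11_1 lc_c_rc_11_1 lc_c_rc_13_2 lc_c_rc_22_9 lc_c_rc_11_1 lc_c_rc_13_2 lc_c_rc_13_2 lc_c_rc_11_1 lc_c_rc_24_6 lc_c_rc_14_0 lc_c_rc_11_1 lc_c_rc_26_10 lc_c_rc_13_2 lc_c_rc_7_3 lc_c_rc_22_9 lc_c_rc_13_2 lc_c_rc_2_1 lc_c_rc_13_2 lc_c_rc_26_2 lc_c_rc_13_2 lc_c_rc_24_6 lc_c_rc_7_3 lc_c_rc_23_5 lc_c_rc_13_2 lc_c_rc_25_17 lc_c_Cert_tree lc_c_rc_13_2 lc_c_rc_7_3 lc_c_rc_24_2 lc_c_rc_26_10 lc_c_rc_7_5) (@D3.rec (fun _ => (Cert rels S Gen.c)) lc_c_rc_7_5 lc_c_rc_23_5 lc_c_rc_13_2 lc_c_rc_7_5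 lc_c_rc_12_14 lc_c_rc_2_1 lc_c_rc_7_5 lc_c_rc_11_1 lc_c_rc_2_3 lc_c_rc_11_1 lc_c_rc_7_1 lc_c_rc_13_2 lc_c_rc_11_1 lc_c_rc_11_1 lc_c_rc_22_5 lc_c_rc_11_1 lc_c_rc_2_1 lc_c_rc_26_4 lc_c_rc_11_1 lc_c_rc_13_2 lc_c_rc_7_1 lc_c_rc_13_2 lc_c_rc_7_5 lc_c_rc_13_2 lc_c_rc_22_7 lc_c_rc_11_1 lc_c_rc_2_3 lc_c_Cert_tree lc_c_rc_13_2 lc_c_rc_2_3 lc_c_rc_11_1 lc_c_rc_13_2 lc_c_rc_11_1 lc_c_rc_24_4 lc_c_Cert_tree lc_c_rc_14_2 lc_c_rc_11_1 lc_c_rc_2_3 lc_c_rc_24_6 lc_c_rc_7_1 lc_c_rc_2_3 lc_c_rc_26_2 lc_c_rc_13_2 lc_c_rc_11_1 lc_c_rc_11_1 lc_c_rc_22_9 lc_c_rc_14_2 lc_c_rc_23_0 lc_c_rc_14_0 lc_c_rc_13_2 lc_c_Cert_tree lc_c_rc_24_6 lc_c_rc_22_5 lc_c_rc_11_1 lc_c_rc_26_2 lc_c_rc_13_2 lc_c_rc_13_2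 lc_c_rc_14_2 lc_c_rc_13_2 lc_c_rc_11_1 lc_c_rc_11_1 lc_c_rc_14_0) (@D3.rec (fun _ => (Cert rels S Gen.c)) lc_c_rc_2_1 lc_c_rc_23_0 lc_c_rc_24_4 lc_c_rc_24_4 lc_c_rc_11_1 lc_c_rc_11_1 lc_c_rc_11_1 lc_c_rc_7_3 lc_c_rc_11_1 lc_c_rc_13_0 lc_c_rc_25_1 lc_c_rc_11_1 lc_c_rc_7_3 lc_c_rc_12_12 lc_c_Cert_tree lc_c_rc_24_6 lc_c_Cert_tree lc_c_rc_7_3 lc_c_rc_11_1 lc_c_rc_14_2 lc_c_rc_11_1 lc_c_rc_2_3 lc_c_rc_11_1 lc_c_rc_11_1 lc_c_rc_11_1 lc_c_rc_11_1 lc_c_rc_26_2 lc_c_rc_11_1 lc_c_rc_23_0 lc_c_rc_7_5 lc_c_Cert_tree lc_c_rc_13_2 lc_c_rc_11_1 lc_c_rc_14_2 lc_c_rc_11_1 lc_c_rc_14_2 lc_c_rc_11_1 lc_c_rc_11_1 lc_c_rc_7_3 lc_c_rc_13_2 lc_c_rc_23_0 lc_c_rc_26_2 lc_c_rc_2_3 lc_c_rc_11_1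 lc_c_Cert_tree lc_c_rc_7_3 lc_c_rc_14_2 lc_c_rc_26_8 lc_c_rc_26_2 lc_c_rc_7_3 lc_c_rc_11_1 lc_c_rc_13_2 lc_c_rc_2_3 lc_c_rc_11_1 lc_c_rc_11_1 lc_c_rc_11_1 lc_c_rc_11_1 lc_c_Cert_tree lc_c_rc_13_0 lc_c_rc_2_3 lc_c_rc_26_4 lc_c_rc_13_2) (@D3.rec (fun _ => (Cert rels S Gen.c)) lc_c_rc_13_2 lc_c_rc_14_2 lc_c_rc_13_0 lc_c_Cert_tree lc_c_rc_13_2 lc_c_rc_11_1 lc_c_rc_26_4 lc_c_rc_26_4 lc_c_rc_13_2 lc_c_Cert_tree lc_c_rc_24_8 lc_c_rc_13_0 lc_c_rc_23_0 lc_c_rc_11_1 lc_c_rc_13_2 lc_c_rc_22_5 lc_c_rc_23_0 lc_c_rc_14_2 lc_c_rc_11_1 lc_c_rc_2_3 lc_c_rc_11_1 lc_c_rc_14_0 lc_c_rc_2_3 lc_c_rc_11_1 lc_c_rc_13_2 lc_c_rc_13_2 lc_c_rc_26_8 lc_c_rc_2_3 lc_c_Cert_tree lc_c_rc_13_2 lc_c_rc_13_2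 lc_c_rc_2_1 lc_c_rc_11_1 lc_c_rc_11_1 lc_c_rc_14_2 lc_c_rc_26_4 lc_c_rc_11_1 lc_c_rc_14_2 lc_c_rc_13_2 lc_c_rc_11_1 lc_c_rc_13_2 lc_c_rc_14_2 lc_c_rc_7_5 lc_c_rc_13_2 lc_c_rc_24_4 lc_c_rc_11_1 lc_c_Cert_tree lc_c_rc_14_2 lc_c_rc_22_3 lc_c_rc_11_1 lc_c_rc_7_1 lc_c_rc_22_9 lc_c_rc_11_1 lc_c_rc_11_1 lc_c_rc_7_1 lc_c_rc_13_2 lc_c_rc_11_1 lc_c_rc_11_1 lc_c_rc_23_0 lc_c_rc_13_0 lc_c_rc_7_5 lc_c_rc_14_2) (@D3.rec (fun _ => (Cert rels S Gen.c)) lc_c_rc_26_4 lc_c_rc_13_2 lc_c_rc_13_2 lc_c_rc_13_2 lc_c_rc_7_5 lc_c_rc_23_0 lc_c_rc_26_2 lc_c_rc_2_1 lc_c_rc_11_1 lc_c_rc_13_0 lc_c_rc_14_2 lc_c_rc_11_1 lc_c_Cert_tree lc_c_rc_24_8 lc_c_rc_11_1 lc_c_rc_2_3 lc_c_rc_13_2 lc_c_rc_26_4 lc_c_rc_11_1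 lc_c_rc_26_10 lc_c_rc_13_2 lc_c_rc_26_8 lc_c_rc_11_1 lc_c_rc_23_0 lc_c_rc_13_2 lc_c_rc_7_3 lc_c_rc_13_2 lc_c_rc_11_1 lc_c_rc_11_1 lc_c_rc_26_8 lc_c_Cert_tree lc_c_rc_11_1 lc_c_rc_14_0 lc_c_rc_14_2 lc_c_rc_26_8 lc_c_rc_24_8 lc_c_rc_7_1 lc_c_rc_11_1 lc_c_rc_13_2 lc_c_rc_7_3 lc_c_rc_11_1 lc_c_rc_24_2 lc_c_rc_13_2 lc_c_rc_22_5 lc_c_rc_2_3 lc_c_rc_11_1 lc_c_rc_22_3 lc_c_rc_11_1 lc_c_rc_11_1 lc_c_rc_24_2 lc_c_rc_11_1 lc_c_rc_23_0 lc_c_rc_24_6 lc_c_rc_23_5 lc_c_rc_13_2 lc_c_rc_13_2 lc_c_rc_13_2 lc_c_rc_26_8 lc_c_rc_13_2 lc_c_rc_26_8 lc_c_rc_11_1 lc_c_rc_13_2) (@D3.rec (fun _ => (Cert rels S Gen.c)) lc_c_rc_24_2 lc_c_rc_13_2 lc_c_rc_7_1 lc_c_rc_24_4 lc_c_rc_26_4 lc_c_rc_22_3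 lc_c_Cert_tree lc_c_rc_24_2 lc_c_rc_7_3 lc_c_rc_11_1 lc_c_rc_23_0 lc_c_rc_13_2 lc_c_rc_11_1 lc_c_rc_13_2 lc_c_rc_24_2 lc_c_rc_14_2 lc_c_rc_7_3 lc_c_rc_24_8 lc_c_rc_13_2 lc_c_rc_11_1 lc_c_rc_7_5 lc_c_rc_13_2 lc_c_rc_11_1 lc_c_rc_11_1 lc_c_rc_11_1 lc_c_rc_11_1 lc_c_rc_7_3 lc_c_rc_22_9 lc_c_rc_14_2 lc_c_rc_26_4 lc_c_rc_24_6 lc_c_rc_13_2 lc_c_rc_11_1 lc_c_rc_26_4 lc_c_rc_2_3 lc_c_rc_25_1 lc_c_rc_14_2 lc_c_rc_11_1 lc_c_rc_13_2 lc_c_rc_26_2 lc_c_rc_13_2 lc_c_rc_26_4 lc_c_rc_11_1 lc_c_rc_7_5 lc_c_rc_11_1 lc_c_rc_11_1 lc_c_rc_11_1 lc_c_rc_13_2 lc_c_rc_2_3 lc_c_rc_14_2 lc_c_rc_7_5 lc_c_rc_11_1 lc_c_rc_2_3 lc_c_rc_26_4 lc_c_rc_13_2 lc_c_rc_26_10 lc_c_rc_24_8 lc_c_rc_12_0 lc_c_rc_26_2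 lc_c_rc_13_2 lc_c_rc_22_3 lc_c_rc_13_2) (@D3.rec (fun _ => (Cert rels S Gen.c)) lc_c_rc_11_1 lc_c_Cert_tree lc_c_rc_14_2 lc_c_rc_13_2 lc_c_rc_22_9 lc_c_rc_7_3 lc_c_rc_13_2 lc_c_rc_25_1 lc_c_rc_22_3 lc_c_rc_26_2 lc_c_rc_11_1 lc_c_rc_25_9 lc_c_rc_13_2 lc_c_rc_26_8 lc_c_rc_11_1 lc_c_rc_24_4 lc_c_rc_13_2 lc_c_rc_11_1 lc_c_rc_23_0 lc_c_rc_22_3 lc_c_rc_22_3 lc_c_rc_24_2 lc_c_rc_11_1 lc_c_rc_11_1 lc_c_Cert_tree lc_c_rc_14_2 lc_c_rc_11_1 lc_c_rc_2_3 lc_c_rc_24_4 lc_c_rc_11_1 lc_c_rc_22_3 lc_c_rc_13_0 lc_c_rc_7_1 lc_c_rc_11_1 lc_c_rc_13_0 lc_c_rc_26_10 lc_c_rc_26_8 lc_c_rc_23_5 lc_c_rc_13_2 lc_c_rc_14_2 lc_c_rc_2_3 lc_c_rc_11_1 lc_c_rc_13_2 lc_c_rc_11_1 lc_c_rc_14_2 lc_c_rc_2_3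 lc_c_rc_13_2 lc_c_rc_11_1 lc_c_rc_24_8 lc_c_rc_14_2 lc_c_rc_14_2 lc_c_rc_11_1 lc_c_rc_24_4 lc_c_rc_13_2 lc_c_rc_24_4 lc_c_rc_24_6 lc_c_rc_24_6 lc_c_rc_22_7 lc_c_rc_14_2 lc_c_rc_13_2 lc_c_rc_26_4 lc_c_rc_11_1) (@D3.rec (fun _ => (Cert rels S Gen.c)) lc_c_rc_23_5 lc_c_rc_7_1 lc_c_rc_25_17 lc_c_rc_26_8 lc_c_rc_11_1 lc_c_rc_7_3 lc_c_rc_11_1 lc_c_Cert_tree lc_c_rc_11_1 lc_c_rc_13_0 lc_c_rc_11_1 lc_c_rc_11_1 lc_c_rc_13_2 lc_c_rc_11_1 lc_c_rc_14_2 lc_c_rc_11_1 lc_c_rc_13_2 lc_c_rc_14_2 lc_c_rc_24_2 lc_c_rc_11_1 lc_c_rc_13_0 lc_c_rc_23_5 lc_c_rc_7_1 lc_c_rc_24_2 lc_c_rc_26_4 lc_c_rc_23_5 lc_c_rc_24_6 lc_c_rc_23_0 lc_c_rc_2_1 lc_c_Cert_tree lc_c_rc_24_2 lc_c_rc_11_1 lc_c_rc_23_0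 lc_c_rc_14_2 lc_c_rc_13_0 lc_c_rc_24_8 lc_c_rc_24_2 lc_c_rc_23_5 lc_c_rc_7_3 lc_c_rc_23_5 lc_c_rc_13_2 lc_c_rc_24_2 lc_c_rc_11_1 lc_c_rc_26_2 lc_c_Cert_tree lc_c_rc_13_2 lc_c_rc_23_5 lc_c_rc_11_1 lc_c_Cert_tree lc_c_rc_11_1 lc_c_rc_24_8 lc_c_rc_11_1 lc_c_rc_7_3 lc_c_rc_22_9 lc_c_rc_13_2 lc_c_rc_11_1 lc_c_rc_13_2 lc_c_rc_11_1 lc_c_rc_14_2 lc_c_rc_11_1 lc_c_rc_11_1 lc_c_rc_13_2) (@D3.rec (fun _ => (Cert rels S Gen.c)) lc_c_rc_7_3 lc_c_rc_11_1 lc_c_rc_13_2 lc_c_rc_7_1 lc_c_rc_23_0 lc_c_rc_7_3 lc_c_rc_12_2 lc_c_rc_11_1 lc_c_rc_2_3 lc_c_Cert_tree lc_c_rc_13_2 lc_c_rc_26_10 lc_c_Cert_tree lc_c_rc_11_1 lc_c_rc_2_1 lc_c_rc_13_0 lc_c_rc_14_2 lc_c_rc_25_17 lc_c_rc_23_5 lc_c_Cert_tree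 lc_c_rc_13_2 lc_c_rc_26_10 lc_c_rc_11_1 lc_c_rc_13_2 lc_c_rc_11_1 lc_c_rc_11_1 lc_c_rc_2_1 lc_c_rc_23_0 lc_c_rc_24_4 lc_c_rc_13_0 lc_c_rc_13_2 lc_c_rc_13_0 lc_c_rc_22_7 lc_c_Cert_tree lc_c_rc_11_1 lc_c_rc_11_1 lc_c_rc_2_3 lc_c_rc_7_3 lc_c_rc_11_1 lc_c_rc_14_0 lc_c_rc_13_2 lc_c_rc_24_2 lc_c_rc_23_0 lc_c_rc_11_1 lc_c_rc_26_4 lc_c_rc_7_5 lc_c_rc_13_2 lc_c_rc_11_1 lc_c_rc_26_10 lc_c_rc_24_2 lc_c_rc_26_8 lc_c_rc_13_2 lc_c_rc_22_7 lc_c_rc_23_0 lc_c_rc_11_1 lc_c_rc_11_1 lc_c_rc_7_3 lc_c_rc_22_5 lc_c_rc_11_1 lc_c_rc_11_1 lc_c_rc_22_9 lc_c_rc_24_6) (@D3.rec (fun _ => (Cert rels S Gen.c)) lc_c_rc_14_2 lc_c_rc_11_1 lc_c_rc_26_8 lc_c_rc_11_1 lc_c_rc_13_2 lc_c_rc_24_4 lc_c_rc_24_6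 lc_c_rc_7_1 lc_c_rc_14_2 lc_c_rc_13_2 lc_c_rc_13_2 lc_c_rc_13_2 lc_c_rc_12_2 lc_c_rc_13_2 lc_c_rc_26_8 lc_c_rc_7_5 lc_c_rc_13_2 lc_c_rc_13_2 lc_c_rc_24_8 lc_c_rc_11_1 lc_c_Cert_tree lc_c_rc_7_3 lc_c_rc_11_1 lc_c_rc_13_2 lc_c_rc_11_1 lc_c_rc_7_5 lc_c_rc_11_1 lc_c_rc_11_1 lc_c_rc_7_3 lc_c_rc_22_3 lc_c_rc_23_0 lc_c_rc_11_1 lc_c_rc_24_4 lc_c_rc_7_1 lc_c_rc_7_3 lc_c_rc_11_1 lc_c_rc_11_1 lc_c_rc_13_2 lc_c_rc_11_1 lc_c_rc_11_1 lc_c_rc_26_10 lc_c_rc_13_0 lc_c_rc_11_1 lc_c_rc_7_3 lc_c_rc_11_1 lc_c_rc_11_1 lc_c_rc_2_3 lc_c_rc_26_4 lc_c_rc_11_1 lc_c_rc_11_1 lc_c_rc_14_2 lc_c_rc_11_1 lc_c_rc_11_1 lc_c_rc_26_4 lc_c_rc_22_3 lc_c_rc_24_2 lc_c_rc_22_5 lc_c_rc_2_3 lc_c_rc_13_0 lc_c_rc_7_3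 lc_c_rc_11_1 lc_c_rc_14_2) (@D3.rec (fun _ => (Cert rels S Gen.c)) lc_c_rc_7_1 lc_c_rc_11_1 lc_c_rc_13_2 lc_c_rc_11_1 lc_c_rc_22_5 lc_c_rc_7_3 lc_c_rc_11_1 lc_c_rc_22_7 lc_c_rc_13_0 lc_c_rc_22_9 lc_c_rc_22_7 lc_c_rc_11_1 lc_c_rc_12_14 lc_c_rc_24_6 lc_c_rc_24_6 lc_c_Cert_tree lc_c_rc_11_1 lc_c_rc_11_1 lc_c_rc_13_2 lc_c_rc_23_5 lc_c_rc_11_1 lc_c_rc_2_3 lc_c_rc_11_1 lc_c_rc_22_3 lc_c_rc_11_1 lc_c_rc_26_8 lc_c_rc_11_1 lc_c_rc_7_1 lc_c_rc_13_0 lc_c_rc_13_2 lc_c_rc_26_2 lc_c_rc_7_1 lc_c_rc_14_0 lc_c_rc_7_3 lc_c_rc_11_1 lc_c_rc_11_1 lc_c_rc_26_2 lc_c_rc_23_5 lc_c_Cert_tree lc_c_rc_23_5 lc_c_Cert_tree lc_c_rc_13_2 lc_c_rc_26_4 lc_c_rc_11_1 lc_c_rc_13_2 lc_c_rc_24_8 lc_c_rc_13_2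 lc_c_rc_11_1 lc_c_rc_14_2 lc_c_rc_26_2 lc_c_rc_14_2 lc_c_rc_13_2 lc_c_rc_11_1 lc_c_rc_26_4 lc_c_rc_14_0 lc_c_rc_7_3 lc_c_rc_13_2 lc_c_rc_24_6 lc_c_rc_11_1 lc_c_rc_13_2 lc_c_rc_26_10 lc_c_rc_14_2) (@D3.rec (fun _ => (Cert rels S Gen.c)) lc_c_rc_11_1 lc_c_rc_13_2 lc_c_rc_13_2 lc_c_rc_7_3 lc_c_rc_13_2 lc_c_rc_7_3 lc_c_rc_13_2 lc_c_rc_13_0 lc_c_Cert_tree lc_c_rc_14_2 lc_c_rc_26_4 lc_c_rc_13_2 lc_c_rc_14_2 lc_c_rc_13_2 lc_c_rc_22_3 lc_c_rc_26_2 lc_c_rc_13_2 lc_c_Cert_tree lc_c_Cert_tree lc_c_rc_14_2 lc_c_rc_13_2 lc_c_rc_7_3 lc_c_rc_11_1 lc_c_rc_25_17 lc_c_rc_2_3 lc_c_rc_26_4 lc_c_rc_11_1 lc_c_rc_13_2 lc_c_rc_13_2 lc_c_Cert_tree lc_c_Cert_tree lc_c_rc_11_1 lc_c_rc_13_2 lc_c_rc_13_2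 lc_c_rc_22_9 lc_c_rc_13_2 lc_c_Cert_tree lc_c_rc_24_2 lc_c_rc_12_4 lc_c_rc_13_2 lc_c_rc_7_5 lc_c_rc_24_2 lc_c_rc_13_2 lc_c_rc_13_0 lc_c_rc_14_2 lc_c_rc_2_3 lc_c_rc_11_1 lc_c_rc_13_2 lc_c_rc_11_1 lc_c_rc_22_5 lc_c_rc_7_3 lc_c_rc_13_2 lc_c_rc_2_3 lc_c_rc_14_2 lc_c_rc_26_4 lc_c_rc_11_1 lc_c_rc_7_5 lc_c_rc_14_2 lc_c_rc_11_1 lc_c_rc_13_2 lc_c_rc_25_1 lc_c_rc_11_1) (@D3.rec (fun _ => (Cert rels S Gen.c)) lc_c_rc_14_2 lc_c_rc_11_1 lc_c_rc_24_4 lc_c_rc_22_7 lc_c_rc_13_2 lc_c_rc_14_2 lc_c_rc_26_4 lc_c_rc_23_5 lc_c_rc_26_4 lc_c_rc_13_2 lc_c_rc_13_2 lc_c_rc_13_2 lc_c_rc_11_1 lc_c_rc_13_2 lc_c_rc_24_8 lc_c_rc_26_4 lc_c_rc_13_2 lc_c_rc_14_2 lc_c_rc_26_10 lc_c_rc_11_1 lc_c_rc_13_2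 lc_c_rc_7_5 lc_c_rc_24_2 lc_c_rc_11_1 lc_c_rc_24_2 lc_c_rc_14_2 lc_c_rc_26_10 lc_c_rc_13_2 lc_c_rc_11_1 lc_c_rc_23_5 lc_c_rc_11_1 lc_c_rc_13_2 lc_c_rc_11_1 lc_c_rc_23_5 lc_c_rc_2_3 lc_c_rc_13_2 lc_c_rc_26_2 lc_c_rc_13_2 lc_c_rc_13_0 lc_c_rc_13_2 lc_c_rc_13_2 lc_c_rc_14_2 lc_c_rc_26_4 lc_c_rc_2_1 lc_c_rc_2_3 lc_c_rc_26_4 lc_c_rc_13_0 lc_c_rc_13_2 lc_c_rc_23_5 lc_c_rc_26_10 lc_c_rc_13_2 lc_c_rc_13_2 lc_c_rc_26_2 lc_c_rc_26_8 lc_c_rc_14_0 lc_c_rc_13_2 lc_c_rc_13_2 lc_c_rc_24_2 lc_c_rc_26_4 lc_c_rc_13_2 lc_c_rc_2_3 lc_c_rc_13_2) (@D3.rec (fun _ => (Cert rels S Gen.c)) lc_c_rc_14_2 lc_c_rc_26_2 lc_c_rc_11_1 lc_c_rc_26_4 lc_c_rc_24_6 lc_c_rc_13_2 lc_c_rc_26_2 lc_c_rc_23_0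 lc_c_rc_11_1 lc_c_rc_14_2 lc_c_Cert_tree lc_c_rc_13_2 lc_c_rc_11_1 lc_c_rc_2_1 lc_c_rc_7_5 lc_c_rc_26_2 lc_c_rc_13_2 lc_c_rc_11_1 lc_c_rc_11_1 lc_c_rc_22_3 lc_c_rc_26_8 lc_c_Cert_tree lc_c_Cert_tree lc_c_Cert_tree lc_c_rc_11_1 lc_c_Cert_tree lc_c_rc_11_1 lc_c_rc_22_3 lc_c_rc_11_1 lc_c_rc_14_2 lc_c_rc_11_1 lc_c_Cert_tree lc_c_rc_11_1 lc_c_rc_26_2 lc_c_rc_7_5 lc_c_rc_26_4 lc_c_rc_22_7 lc_c_rc_11_1 lc_c_rc_22_5 lc_c_rc_11_1 lc_c_rc_26_10 lc_c_rc_22_7 lc_c_rc_26_10 lc_c_Cert_tree lc_c_Cert_tree lc_c_Cert_tree lc_c_rc_11_1 lc_c_rc_26_8 lc_c_rc_11_1 lc_c_rc_13_2 lc_c_Cert_tree lc_c_rc_11_1 lc_c_rc_23_5 lc_c_rc_11_1 lc_c_rc_11_1 lc_c_rc_11_1 lc_c_rc_24_6 lc_c_rc_11_1 lc_c_rc_7_3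 lc_c_rc_24_8 lc_c_rc_14_2 lc_c_rc_24_2) (@D3.rec (fun _ => (Cert rels S Gen.c)) lc_c_rc_26_8 lc_c_rc_11_1 lc_c_rc_26_2 lc_c_rc_7_3 lc_c_Cert_tree lc_c_Cert_tree lc_c_rc_11_1 lc_c_rc_13_2 lc_c_rc_11_1 lc_c_rc_11_1 lc_c_rc_24_6 lc_c_rc_24_4 lc_c_rc_14_2 lc_c_rc_22_3 lc_c_rc_13_2 lc_c_rc_23_5 lc_c_rc_13_2 lc_c_rc_26_8 lc_c_rc_14_0 lc_c_rc_11_1 lc_c_rc_22_9 lc_c_rc_24_2 lc_c_rc_12_2 lc_c_rc_13_2 lc_c_rc_14_0 lc_c_rc_24_2 lc_c_rc_2_1 lc_c_rc_11_1 lc_c_rc_13_2 lc_c_rc_26_8 lc_c_rc_11_1 lc_c_rc_11_1 lc_c_rc_14_0 lc_c_rc_22_3 lc_c_rc_13_2 lc_c_rc_11_1 lc_c_rc_13_2 lc_c_rc_11_1 lc_c_rc_13_0 lc_c_rc_11_1 lc_c_rc_26_4 lc_c_rc_12_2 lc_c_rc_13_2 lc_c_rc_24_8 lc_c_rc_11_1 lc_c_rc_22_5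 lc_c_rc_13_2 lc_c_rc_13_2 lc_c_rc_13_2 lc_c_rc_7_1 lc_c_rc_13_2 lc_c_rc_13_0 lc_c_rc_26_4 lc_c_rc_24_4 lc_c_rc_23_0 lc_c_Cert_tree lc_c_rc_14_2 lc_c_rc_13_2 lc_c_Cert_tree lc_c_rc_14_2 lc_c_Cert_tree lc_c_rc_13_0) (@D3.rec (fun _ => (Cert rels S Gen.c)) lc_c_rc_11_1 lc_c_rc_22_7 lc_c_rc_11_1 lc_c_rc_11_1 lc_c_Cert_tree lc_c_rc_7_3 lc_c_rc_11_1 lc_c_rc_22_7 lc_c_rc_13_2 lc_c_rc_11_1 lc_c_rc_22_3 lc_c_rc_11_1 lc_c_rc_11_1 lc_c_rc_23_0 lc_c_rc_11_1 lc_c_rc_11_1 lc_c_rc_24_8 lc_c_rc_7_5 lc_c_rc_2_3 lc_c_rc_11_1 lc_c_rc_23_5 lc_c_rc_11_1 lc_c_rc_11_1 lc_c_rc_11_1 lc_c_rc_7_3 lc_c_Cert_tree lc_c_rc_13_2 lc_c_rc_2_3 lc_c_rc_22_3 lc_c_rc_13_2 lc_c_rc_11_1 lc_c_rc_2_3 lc_c_rc_13_2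 lc_c_rc_13_0 lc_c_rc_22_5 lc_c_rc_11_1 lc_c_rc_11_1 lc_c_rc_11_1 lc_c_rc_11_1 lc_c_rc_14_2 lc_c_rc_22_7 lc_c_rc_13_2 lc_c_rc_13_2 lc_c_rc_2_3 lc_c_rc_14_0 lc_c_rc_7_5 lc_c_rc_13_2 lc_c_rc_13_2 lc_c_rc_13_2 lc_c_rc_24_4 lc_c_rc_24_4 lc_c_Cert_tree lc_c_rc_13_2 lc_c_rc_24_2 lc_c_rc_26_2 lc_c_rc_13_0 lc_c_rc_14_2 lc_c_rc_13_2 lc_c_rc_14_2 lc_c_rc_13_2 lc_c_rc_12_2 lc_c_rc_13_2) (@D3.rec (fun _ => (Cert rels S Gen.c)) lc_c_rc_13_2 lc_c_rc_2_3 lc_c_rc_11_1 lc_c_rc_26_4 lc_c_rc_13_2 lc_c_rc_13_0 lc_c_rc_26_10 lc_c_rc_7_3 lc_c_rc_7_3 lc_c_rc_26_8 lc_c_rc_13_2 lc_c_rc_13_2 lc_c_rc_11_1 lc_c_rc_13_2 lc_c_rc_22_9 lc_c_rc_11_1 lc_c_rc_22_3 lc_c_rc_13_2 lc_c_Cert_tree lc_c_rc_14_2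 lc_c_rc_13_2 lc_c_rc_24_4 lc_c_rc_14_2 lc_c_rc_11_1 lc_c_rc_24_2 lc_c_rc_26_2 lc_c_rc_11_1 lc_c_rc_24_2 lc_c_rc_11_1 lc_c_rc_7_5 lc_c_rc_13_2 lc_c_rc_11_1 lc_c_rc_13_2 lc_c_rc_7_3 lc_c_rc_24_2 lc_c_rc_7_5 lc_c_rc_22_5 lc_c_rc_13_2 lc_c_rc_7_5 lc_c_rc_12_14 lc_c_rc_26_10 lc_c_rc_23_5 lc_c_Cert_tree lc_c_rc_2_3 lc_c_rc_11_1 lc_c_rc_13_2 lc_c_rc_26_2 lc_c_rc_14_2 lc_c_rc_23_5 lc_c_rc_26_8 lc_c_rc_11_1 lc_c_rc_13_2 lc_c_rc_7_1 lc_c_rc_24_2 lc_c_rc_13_2 lc_c_Cert_tree lc_c_rc_13_2 lc_c_rc_11_1 lc_c_Cert_tree lc_c_rc_26_2 lc_c_Cert_tree lc_c_rc_24_2) (@D3.rec (fun _ => (Cert rels S Gen.c)) lc_c_rc_11_1 lc_c_rc_13_0 lc_c_rc_13_2 lc_c_rc_24_2 lc_c_rc_13_2 lc_c_rc_11_1 lc_c_rc_13_2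 lc_c_rc_22_5 lc_c_rc_14_2 lc_c_rc_13_2 lc_c_rc_14_2 lc_c_rc_13_0 lc_c_rc_13_2 lc_c_Cert_tree lc_c_rc_22_3 lc_c_rc_11_1 lc_c_rc_23_5 lc_c_rc_26_4 lc_c_rc_26_4 lc_c_rc_2_3 lc_c_rc_22_3 lc_c_rc_25_17 lc_c_rc_11_1 lc_c_rc_26_2 lc_c_rc_23_0 lc_c_rc_11_1 lc_c_rc_13_0 lc_c_rc_13_2 lc_c_rc_13_2 lc_c_rc_24_2 lc_c_rc_11_1 lc_c_rc_26_4 lc_c_rc_11_1 lc_c_rc_24_4 lc_c_rc_24_2 lc_c_rc_13_2 lc_c_rc_13_0 lc_c_rc_11_1 lc_c_rc_13_0 lc_c_rc_26_2 lc_c_rc_14_2 lc_c_rc_22_5 lc_c_Cert_tree lc_c_rc_23_0 lc_c_rc_13_2 lc_c_rc_22_3 lc_c_rc_22_5 lc_c_rc_11_1 lc_c_rc_26_2 lc_c_rc_13_2 lc_c_rc_11_1 lc_c_rc_23_5 lc_c_rc_26_8 lc_c_rc_24_8 lc_c_rc_7_3 lc_c_rc_14_2 lc_c_rc_2_3 lc_c_rc_11_1 lc_c_rc_26_2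 lc_c_rc_23_0 lc_c_rc_11_1 lc_c_rc_11_1) (@D3.rec (fun _ => (Cert rels S Gen.c)) lc_c_rc_26_4 lc_c_rc_26_2 lc_c_Cert_tree lc_c_rc_7_3 lc_c_rc_24_6 lc_c_rc_13_2 lc_c_rc_2_1 lc_c_rc_24_2 lc_c_rc_26_8 lc_c_rc_7_3 lc_c_rc_11_1 lc_c_rc_7_3 lc_c_rc_7_3 lc_c_rc_7_1 lc_c_Cert_tree lc_c_rc_13_2 lc_c_rc_24_8 lc_c_rc_2_1 lc_c_rc_2_3 lc_c_Cert_tree lc_c_rc_11_1 lc_c_rc_2_3 lc_c_Cert_tree lc_c_rc_11_1 lc_c_rc_7_3 lc_c_rc_13_2 lc_c_rc_11_1 lc_c_rc_2_3 lc_c_rc_11_1 lc_c_rc_11_1 lc_c_rc_23_5 lc_c_rc_11_1 lc_c_rc_11_1 lc_c_rc_11_1 lc_c_rc_14_2 lc_c_rc_11_1 lc_c_rc_11_1 lc_c_rc_11_1 lc_c_rc_14_2 lc_c_rc_2_3 lc_c_rc_26_4 lc_c_rc_11_1 lc_c_rc_13_2 lc_c_rc_22_5 lc_c_rc_13_2 lc_c_rc_2_3 lc_c_rc_24_6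 lc_c_rc_24_4 lc_c_rc_13_2 lc_c_rc_11_1 lc_c_rc_13_2 lc_c_rc_7_3 lc_c_rc_11_1 lc_c_rc_13_2 lc_c_rc_11_1 lc_c_rc_22_3 lc_c_rc_12_0 lc_c_rc_11_1 lc_c_rc_11_1 lc_c_rc_2_3 lc_c_rc_7_5 lc_c_rc_26_4) (@D3.rec (fun _ => (Cert rels S Gen.c)) lc_c_rc_14_2 lc_c_rc_23_0 lc_c_rc_11_1 lc_c_rc_11_1 lc_c_rc_13_2 lc_c_rc_26_2 lc_c_rc_11_1 lc_c_rc_24_4 lc_c_rc_11_1 lc_c_rc_13_2 lc_c_rc_7_3 lc_c_rc_22_5 lc_c_rc_13_2 lc_c_rc_24_8 lc_c_rc_7_3 lc_c_rc_22_5 lc_c_rc_13_2 lc_c_rc_7_3 lc_c_rc_22_5 lc_c_rc_12_0 lc_c_rc_11_1 lc_c_Cert_tree lc_c_rc_13_2 lc_c_rc_13_2 lc_c_rc_26_4 lc_c_rc_11_1 lc_c_rc_11_1 lc_c_rc_26_4 lc_c_Cert_tree lc_c_rc_13_0 lc_c_rc_2_1 lc_c_rc_11_1 lc_c_rc_13_2 lc_c_rc_13_2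 lc_c_Cert_tree lc_c_Cert_tree lc_c_rc_14_2 lc_c_Cert_tree lc_c_rc_13_2 lc_c_rc_23_0 lc_c_rc_2_3 lc_c_rc_14_2 lc_c_rc_14_2 lc_c_rc_11_1 lc_c_Cert_tree lc_c_rc_22_9 lc_c_rc_26_4 lc_c_rc_13_2 lc_c_rc_7_5 lc_c_rc_26_4 lc_c_rc_2_1 lc_c_rc_22_3 lc_c_rc_11_1 lc_c_rc_22_7 lc_c_rc_11_1 lc_c_rc_14_2 lc_c_rc_22_5 lc_c_rc_11_1 lc_c_rc_13_2 lc_c_rc_11_1 lc_c_rc_22_9 lc_c_rc_13_2) (@D3.rec (fun _ => (Cert rels S Gen.c)) lc_c_rc_7_5 lc_c_rc_11_1 lc_c_rc_13_2 lc_c_rc_11_1 lc_c_rc_24_2 lc_c_rc_13_2 lc_c_rc_11_1 lc_c_rc_13_2 lc_c_rc_2_1 lc_c_Cert_tree lc_c_rc_14_2 lc_c_rc_11_1 lc_c_Cert_tree lc_c_rc_25_5 lc_c_rc_11_1 lc_c_Cert_tree lc_c_rc_24_2 lc_c_rc_26_8 lc_c_rc_11_1 lc_c_rc_13_0 lc_c_rc_13_2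 lc_c_rc_2_3 lc_c_rc_11_1 lc_c_rc_26_2 lc_c_rc_13_2 lc_c_rc_12_2 lc_c_Cert_tree lc_c_rc_13_2 lc_c_rc_26_8 lc_c_rc_13_2 lc_c_rc_13_0 lc_c_rc_26_8 lc_c_rc_13_2 lc_c_rc_7_5 lc_c_Cert_tree lc_c_rc_26_2 lc_c_rc_26_8 lc_c_rc_12_0 lc_c_rc_2_3 lc_c_rc_2_3 lc_c_rc_14_2 lc_c_rc_11_1 lc_c_rc_22_3 lc_c_rc_13_2 lc_c_rc_22_7 lc_c_rc_24_2 lc_c_rc_26_4 lc_c_rc_13_2 lc_c_rc_11_1 lc_c_rc_23_5 lc_c_rc_23_5 lc_c_rc_22_7 lc_c_rc_14_2 lc_c_rc_7_5 lc_c_rc_26_4 lc_c_rc_7_3 lc_c_rc_23_5 lc_c_rc_23_0 lc_c_rc_7_1 lc_c_rc_11_1 lc_c_rc_22_3 lc_c_rc_24_6) (@D3.rec (fun _ => (Cert rels S Gen.c)) lc_c_rc_24_6 lc_c_rc_7_3 lc_c_rc_11_1 lc_c_rc_11_1 lc_c_rc_12_2 lc_c_rc_13_2 lc_c_rc_11_1 lc_c_rc_23_5 lc_c_rc_24_2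 lc_c_rc_13_2 lc_c_rc_23_5 lc_c_rc_2_1 lc_c_rc_11_1 lc_c_rc_24_2 lc_c_rc_11_1 lc_c_rc_13_2 lc_c_rc_13_2 lc_c_rc_11_1 lc_c_rc_2_3 lc_c_Cert_tree lc_c_rc_14_2 lc_c_rc_26_8 lc_c_rc_13_2 lc_c_rc_24_2 lc_c_rc_11_1 lc_c_rc_13_0 lc_c_rc_13_2 lc_c_rc_11_1 lc_c_rc_24_6 lc_c_rc_11_1 lc_c_rc_22_3 lc_c_rc_22_7 lc_c_rc_11_1 lc_c_rc_2_3 lc_c_rc_25_5 lc_c_rc_14_2 lc_c_rc_26_2 lc_c_rc_11_1 lc_c_rc_23_0 lc_c_rc_13_2 lc_c_rc_11_1 lc_c_rc_24_8 lc_c_rc_13_2 lc_c_Cert_tree lc_c_rc_11_1 lc_c_rc_14_2 lc_c_rc_26_10 lc_c_rc_24_6 lc_c_rc_22_5 lc_c_rc_14_2 lc_c_rc_13_2 lc_c_rc_14_2 lc_c_rc_7_5 lc_c_rc_13_2 lc_c_rc_13_2 lc_c_rc_13_0 lc_c_rc_22_3 lc_c_rc_26_2 lc_c_rc_11_1 lc_c_rc_2_3 lc_c_rc_7_1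 lc_c_rc_13_2) (@D3.rec (fun _ => (Cert rels S Gen.c)) lc_c_rc_23_0 lc_c_rc_7_1 lc_c_rc_23_0 lc_c_Cert_tree lc_c_rc_24_4 lc_c_rc_13_2 lc_c_rc_11_1 lc_c_rc_14_0 lc_c_rc_26_2 lc_c_rc_13_2 lc_c_rc_26_2 lc_c_rc_11_1 lc_c_rc_24_2 lc_c_rc_22_3 lc_c_rc_11_1 lc_c_rc_7_3 lc_c_rc_13_2 lc_c_rc_24_6 lc_c_rc_13_0 lc_c_rc_14_2 lc_c_rc_13_2 lc_c_rc_11_1 lc_c_rc_13_2 lc_c_rc_11_1 lc_c_rc_2_1 lc_c_rc_11_1 lc_c_rc_24_6 lc_c_rc_24_8 lc_c_rc_13_2 lc_c_Cert_tree lc_c_rc_26_2 lc_c_rc_7_3 lc_c_rc_24_2 lc_c_rc_26_4 lc_c_rc_14_2 lc_c_rc_11_1 lc_c_rc_26_4 lc_c_rc_7_1 lc_c_rc_13_2 lc_c_rc_11_1 lc_c_rc_7_3 lc_c_rc_13_0 lc_c_rc_7_5 lc_c_rc_12_14 lc_c_rc_13_2 lc_c_rc_22_7 lc_c_rc_23_5 lc_c_rc_13_2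 lc_c_rc_2_3 lc_c_rc_22_7 lc_c_rc_11_1 lc_c_rc_24_4 lc_c_rc_13_2 lc_c_rc_13_2 lc_c_rc_23_0 lc_c_rc_11_1 lc_c_rc_13_2 lc_c_rc_14_2 lc_c_rc_13_2 lc_c_rc_2_3 lc_c_rc_22_5 lc_c_rc_14_2) (@D3.rec (fun _ => (Cert rels S Gen.c)) lc_c_rc_13_2 lc_c_rc_2_1 lc_c_rc_26_10 lc_c_rc_11_1 lc_c_rc_26_10 lc_c_rc_24_2 lc_c_rc_11_1 lc_c_rc_13_2 lc_c_rc_2_3 lc_c_rc_13_2 lc_c_rc_13_0 lc_c_rc_14_2 lc_c_rc_14_2 lc_c_rc_12_14 lc_c_rc_24_4 lc_c_rc_23_0 lc_c_rc_13_2 lc_c_rc_11_1 lc_c_rc_11_1 lc_c_Cert_tree lc_c_rc_14_2 lc_c_rc_11_1 lc_c_rc_24_2 lc_c_rc_13_2 lc_c_rc_11_1 lc_c_rc_13_2 lc_c_rc_13_2 lc_c_rc_13_2 lc_c_rc_24_4 lc_c_rc_23_5 lc_c_rc_13_2 lc_c_rc_13_2 lc_c_rc_24_6 lc_c_rc_22_5 lc_c_rc_23_0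 lc_c_rc_22_9 lc_c_rc_13_2 lc_c_rc_7_5 lc_c_rc_23_0 lc_c_rc_12_2 lc_c_rc_13_2 lc_c_rc_13_0 lc_c_rc_23_0 lc_c_rc_25_13 lc_c_rc_14_2 lc_c_rc_11_1 lc_c_rc_2_3 lc_c_rc_24_4 lc_c_Cert_tree lc_c_rc_12_2 lc_c_rc_13_2 lc_c_rc_24_2 lc_c_rc_7_5 lc_c_Cert_tree lc_c_Cert_tree lc_c_rc_13_2 lc_c_rc_2_1 lc_c_Cert_tree lc_c_Cert_tree lc_c_rc_11_1 lc_c_rc_2_3 lc_c_rc_26_4) (@D3.rec (fun _ => (Cert rels S Gen.c)) lc_c_rc_13_2 lc_c_rc_7_3 lc_c_rc_13_2 lc_c_rc_26_10 lc_c_rc_26_8 lc_c_rc_13_2 lc_c_rc_25_9 lc_c_rc_26_4 lc_c_rc_11_1 lc_c_rc_11_1 lc_c_rc_11_1 lc_c_rc_24_2 lc_c_rc_11_1 lc_c_rc_13_2 lc_c_rc_13_2 lc_c_Cert_tree lc_c_rc_13_2 lc_c_rc_26_10 lc_c_rc_13_2 lc_c_rc_11_1 lc_c_rc_11_1 lc_c_rc_11_1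 lc_c_rc_26_10 lc_c_rc_7_5 lc_c_rc_13_0 lc_c_rc_24_2 lc_c_rc_14_2 lc_c_rc_13_2 lc_c_rc_13_2 lc_c_rc_26_10 lc_c_rc_7_1 lc_c_rc_13_2 lc_c_rc_13_2 lc_c_rc_2_3 lc_c_rc_14_2 lc_c_rc_11_1 lc_c_Cert_tree lc_c_rc_25_9 lc_c_rc_22_7 lc_c_rc_13_2 lc_c_rc_14_0 lc_c_rc_24_8 lc_c_rc_23_0 lc_c_rc_24_2 lc_c_rc_22_3 lc_c_rc_23_0 lc_c_rc_11_1 lc_c_rc_22_5 lc_c_rc_11_1 lc_c_rc_23_0 lc_c_rc_11_1 lc_c_rc_11_1 lc_c_rc_2_3 lc_c_rc_13_2 lc_c_Cert_tree lc_c_rc_7_5 lc_c_rc_7_5 lc_c_rc_13_2 lc_c_Cert_tree lc_c_Cert_tree lc_c_Cert_tree lc_c_rc_13_2) (@D3.rec (fun _ => (Cert rels S Gen.c)) lc_c_rc_2_1 lc_c_Cert_tree lc_c_rc_23_5 lc_c_Cert_tree lc_c_rc_11_1 lc_c_rc_7_5 lc_c_rc_11_1 lc_c_rc_11_1 lc_c_rc_11_1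 lc_c_rc_13_2 lc_c_rc_11_1 lc_c_rc_11_1 lc_c_rc_11_1 lc_c_rc_26_2 lc_c_rc_11_1 lc_c_rc_13_2 lc_c_rc_13_2 lc_c_Cert_tree lc_c_rc_13_2 lc_c_rc_24_6 lc_c_rc_13_2 lc_c_rc_22_7 lc_c_rc_11_1 lc_c_rc_11_1 lc_c_rc_11_1 lc_c_rc_11_1 lc_c_rc_11_1 lc_c_rc_13_2 lc_c_rc_26_4 lc_c_rc_22_3 lc_c_rc_14_2 lc_c_rc_7_3 lc_c_rc_22_5 lc_c_rc_11_1 lc_c_rc_7_5 lc_c_rc_23_5 lc_c_rc_13_0 lc_c_rc_23_5 lc_c_rc_26_10 lc_c_rc_11_1 lc_c_rc_23_0 lc_c_rc_24_4 lc_c_rc_24_4 lc_c_rc_11_1 lc_c_rc_25_1 lc_c_rc_24_6 lc_c_rc_7_5 lc_c_rc_13_2 lc_c_rc_13_2 lc_c_Cert_tree lc_c_rc_22_7 lc_c_rc_7_3 lc_c_rc_24_2 lc_c_Cert_tree lc_c_Cert_tree lc_c_rc_26_2 lc_c_rc_24_6 lc_c_rc_22_3 lc_c_rc_13_2 lc_c_rc_24_4 lc_c_rc_11_1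 lc_c_rc_2_3) (@D3.rec (fun _ => (Cert rels S Gen.c)) lc_c_rc_13_2 lc_c_rc_14_0 lc_c_rc_14_0 lc_c_rc_26_10 lc_c_rc_22_5 lc_c_rc_22_3 lc_c_rc_11_1 lc_c_rc_22_3 lc_c_rc_11_1 lc_c_rc_11_1 lc_c_rc_11_1 lc_c_rc_7_5 lc_c_rc_13_2 lc_c_rc_11_1 lc_c_Cert_tree lc_c_rc_14_2 lc_c_rc_26_10 lc_c_rc_24_6 lc_c_rc_13_2 lc_c_rc_13_0 lc_c_rc_11_1 lc_c_rc_14_2 lc_c_rc_14_2 lc_c_rc_11_1 lc_c_rc_7_3 lc_c_rc_13_2 lc_c_Cert_tree lc_c_rc_7_5 lc_c_rc_11_1 lc_c_rc_23_0 lc_c_rc_13_2 lc_c_rc_11_1 lc_c_rc_7_5 lc_c_rc_26_2 lc_c_Cert_tree lc_c_rc_23_5 lc_c_rc_26_4 lc_c_rc_11_1 lc_c_rc_22_3 lc_c_rc_11_1 lc_c_rc_7_5 lc_c_rc_22_3 lc_c_rc_11_1 lc_c_Cert_tree lc_c_rc_14_2 lc_c_rc_14_2 lc_c_rc_26_2 lc_c_rc_13_2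 lc_c_rc_24_8 lc_c_rc_11_1 lc_c_rc_7_3 lc_c_rc_22_5 lc_c_rc_13_2 lc_c_rc_26_4 lc_c_rc_14_2 lc_c_rc_13_2 lc_c_rc_7_3 lc_c_rc_11_1 lc_c_rc_13_2 lc_c_rc_22_3 lc_c_rc_11_1 lc_c_rc_13_2) (@D3.rec (fun _ => (Cert rels S Gen.c)) lc_c_rc_24_6 lc_c_rc_11_1 lc_c_rc_7_1 lc_c_rc_22_5 lc_c_rc_13_2 lc_c_rc_11_1 lc_c_rc_11_1 lc_c_rc_13_2 lc_c_rc_13_2 lc_c_rc_7_3 lc_c_rc_23_5 lc_c_rc_13_2 lc_c_rc_7_3 lc_c_rc_7_3 lc_c_rc_22_7 lc_c_rc_22_7 lc_c_rc_13_2 lc_c_rc_13_0 lc_c_rc_22_5 lc_c_rc_13_2 lc_c_rc_26_10 lc_c_rc_2_3 lc_c_rc_11_1 lc_c_rc_7_3 lc_c_rc_13_2 lc_c_rc_13_2 lc_c_rc_24_8 lc_c_rc_11_1 lc_c_rc_2_3 lc_c_rc_23_0 lc_c_rc_11_1 lc_c_rc_24_2 lc_c_rc_26_2 lc_c_rc_2_3 lc_c_rc_11_1 lc_c_rc_13_2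 lc_c_rc_22_7 lc_c_rc_26_2 lc_c_rc_7_5 lc_c_rc_22_3 lc_c_rc_7_3 lc_c_rc_13_0 lc_c_Cert_tree lc_c_rc_13_2 lc_c_Cert_tree lc_c_rc_11_1 lc_c_rc_14_2 lc_c_rc_13_2 lc_c_rc_11_1 lc_c_rc_13_0 lc_c_rc_14_2 lc_c_Cert_tree lc_c_rc_11_1 lc_c_rc_14_2 lc_c_rc_24_8 lc_c_rc_11_1 lc_c_rc_11_1 lc_c_rc_26_2 lc_c_rc_2_1 lc_c_Cert_tree lc_c_rc_13_2 lc_c_rc_23_5) (@D3.rec (fun _ => (Cert rels S Gen.c)) lc_c_rc_13_2 lc_c_rc_2_1 lc_c_rc_11_1 lc_c_Cert_tree lc_c_rc_14_2 lc_c_rc_25_5 lc_c_rc_13_2 lc_c_rc_26_4 lc_c_rc_13_2 lc_c_rc_11_1 lc_c_rc_14_2 lc_c_Cert_tree lc_c_rc_11_1 lc_c_rc_11_1 lc_c_rc_11_1 lc_c_rc_23_0 lc_c_rc_14_2 lc_c_rc_14_2 lc_c_rc_11_1 lc_c_rc_13_2 lc_c_Cert_tree lc_c_rc_23_0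 lc_c_rc_12_14 lc_c_rc_24_8 lc_c_rc_11_1 lc_c_Cert_tree lc_c_rc_13_2 lc_c_rc_11_1 lc_c_rc_26_4 lc_c_rc_24_6 lc_c_rc_24_2 lc_c_rc_7_3 lc_c_rc_12_2 lc_c_rc_13_2 lc_c_rc_24_6 lc_c_rc_11_1 lc_c_rc_13_2 lc_c_rc_14_2 lc_c_rc_23_5 lc_c_rc_7_3 lc_c_rc_11_1 lc_c_rc_14_2 lc_c_rc_11_1 lc_c_rc_22_3 lc_c_rc_7_5 lc_c_rc_24_6 lc_c_rc_2_1 lc_c_rc_22_7 lc_c_rc_13_2 lc_c_rc_11_1 lc_c_rc_26_10 lc_c_rc_13_0 lc_c_rc_13_2 lc_c_rc_13_2 lc_c_Cert_tree lc_c_rc_11_1 lc_c_rc_2_3 lc_c_Cert_tree lc_c_rc_7_1 lc_c_rc_13_2 lc_c_rc_11_1 lc_c_rc_11_1) (@D3.rec (fun _ => (Cert rels S Gen.c)) lc_c_Cert_tree lc_c_rc_14_2 lc_c_rc_11_1 lc_c_rc_26_2 lc_c_rc_13_2 lc_c_rc_7_3 lc_c_rc_26_10 lc_c_rc_11_1 lc_c_rc_14_2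 lc_c_Cert_tree lc_c_rc_11_1 lc_c_rc_23_0 lc_c_rc_24_2 lc_c_rc_13_2 lc_c_rc_13_0 lc_c_rc_11_1 lc_c_rc_2_3 lc_c_rc_26_2 lc_c_Cert_tree lc_c_rc_13_2 lc_c_rc_24_4 lc_c_rc_2_3 lc_c_Cert_tree lc_c_rc_24_4 lc_c_rc_13_2 lc_c_rc_24_2 lc_c_rc_23_0 lc_c_rc_13_2 lc_c_rc_13_0 lc_c_rc_22_9 lc_c_rc_7_5 lc_c_rc_2_3 lc_c_rc_7_3 lc_c_rc_13_2 lc_c_Cert_tree lc_c_rc_13_2 lc_c_Cert_tree lc_c_rc_13_2 lc_c_rc_7_3 lc_c_rc_13_2 lc_c_Cert_tree lc_c_rc_13_0 lc_c_rc_14_2 lc_c_rc_13_2 lc_c_rc_24_6 lc_c_rc_11_1 lc_c_rc_26_4 lc_c_rc_11_1 lc_c_rc_11_1 lc_c_rc_11_1 lc_c_Cert_tree lc_c_rc_13_2 lc_c_rc_26_4 lc_c_rc_11_1 lc_c_rc_11_1 lc_c_rc_13_2 lc_c_rc_26_2 lc_c_rc_14_2 lc_c_rc_11_1 lc_c_rc_14_0 lc_c_rc_14_2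 lc_c_rc_22_3) (@D3.rec (fun _ => (Cert rels S Gen.c)) lc_c_rc_13_2 lc_c_rc_22_3 lc_c_rc_11_1 lc_c_rc_11_1 lc_c_rc_24_6 lc_c_rc_23_0 lc_c_rc_26_2 lc_c_rc_23_0 lc_c_rc_11_1 lc_c_rc_11_1 lc_c_Cert_tree lc_c_Cert_tree lc_c_rc_2_3 lc_c_rc_23_0 lc_c_rc_13_2 lc_c_rc_24_8 lc_c_rc_14_2 lc_c_rc_13_2 lc_c_rc_13_2 lc_c_rc_24_8 lc_c_rc_11_1 lc_c_rc_14_2 lc_c_rc_26_8 lc_c_rc_26_10 lc_c_rc_13_2 lc_c_rc_2_3 lc_c_rc_24_6 lc_c_rc_26_2 lc_c_rc_13_2 lc_c_rc_24_2 lc_c_rc_13_2 lc_c_rc_23_5 lc_c_rc_23_5 lc_c_rc_24_6 lc_c_rc_24_6 lc_c_rc_23_0 lc_c_Cert_tree lc_c_rc_14_2 lc_c_rc_23_0 lc_c_rc_12_6 lc_c_rc_14_2 lc_c_rc_11_1 lc_c_rc_12_4 lc_c_rc_11_1 lc_c_rc_13_2 lc_c_rc_13_2 lc_c_rc_11_1 lc_c_Cert_tree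 lc_c_rc_24_6 lc_c_rc_26_2 lc_c_rc_13_2 lc_c_rc_11_1 lc_c_rc_13_2 lc_c_rc_2_1 lc_c_rc_24_8 lc_c_rc_11_1 lc_c_rc_23_5 lc_c_rc_13_2 lc_c_rc_2_1 lc_c_rc_2_3 lc_c_rc_13_2 lc_c_rc_13_0) (@D3.rec (fun _ => (Cert rels S Gen.c)) lc_c_rc_14_2 lc_c_rc_7_5 lc_c_rc_13_2 lc_c_rc_22_7 lc_c_rc_26_2 lc_c_rc_26_4 lc_c_rc_26_8 lc_c_rc_14_2 lc_c_rc_26_2 lc_c_rc_13_2 lc_c_rc_13_0 lc_c_rc_11_1 lc_c_rc_13_2 lc_c_rc_7_1 lc_c_rc_14_2 lc_c_rc_26_10 lc_c_rc_24_2 lc_c_rc_14_2 lc_c_rc_11_1 lc_c_rc_26_10 lc_c_Cert_tree lc_c_rc_26_4 lc_c_Cert_tree lc_c_rc_24_4 lc_c_rc_22_7 lc_c_rc_24_8 lc_c_rc_24_2 lc_c_rc_11_1 lc_c_rc_11_1 lc_c_rc_2_3 lc_c_rc_7_3 lc_c_rc_24_8 lc_c_rc_7_5 lc_c_rc_22_5 lc_c_rc_12_2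 lc_c_rc_26_10 lc_c_rc_7_5 lc_c_rc_2_3 lc_c_rc_11_1 lc_c_rc_26_10 lc_c_rc_11_1 lc_c_rc_14_2 lc_c_rc_7_3 lc_c_rc_22_9 lc_c_rc_13_2 lc_c_rc_13_2 lc_c_rc_13_2 lc_c_rc_26_10 lc_c_rc_11_1 lc_c_Cert_tree lc_c_rc_22_7 lc_c_rc_26_2 lc_c_Cert_tree lc_c_Cert_tree lc_c_rc_13_2 lc_c_Cert_tree lc_c_Cert_tree lc_c_rc_11_1 lc_c_rc_14_2 lc_c_rc_11_1 lc_c_rc_26_10 lc_c_rc_23_5) (@D3.rec (fun _ => (Cert rels S Gen.c)) lc_c_rc_13_2 lc_c_rc_11_1 lc_c_rc_11_1 lc_c_rc_7_3 lc_c_Cert_tree lc_c_rc_14_2 lc_c_rc_13_2 lc_c_Cert_tree lc_c_rc_24_6 lc_c_rc_26_4 lc_c_rc_2_3 lc_c_Cert_tree lc_c_rc_14_2 lc_c_rc_12_0 lc_c_rc_11_1 lc_c_rc_13_2 lc_c_rc_13_2 lc_c_rc_26_10 lc_c_rc_13_2 lc_c_rc_13_2 lc_c_rc_13_2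 lc_c_rc_11_1 lc_c_Cert_tree lc_c_rc_26_2 lc_c_rc_2_1 lc_c_rc_26_2 lc_c_rc_2_3 lc_c_rc_13_2 lc_c_rc_11_1 lc_c_rc_11_1 lc_c_rc_2_3 lc_c_rc_11_1 lc_c_rc_7_3 lc_c_rc_7_3 lc_c_rc_23_5 lc_c_rc_22_3 lc_c_rc_13_0 lc_c_rc_2_3 lc_c_rc_13_2 lc_c_rc_26_10 lc_c_rc_11_1 lc_c_rc_26_10 lc_c_Cert_tree lc_c_rc_13_2 lc_c_Cert_tree lc_c_rc_11_1 lc_c_rc_26_4 lc_c_rc_11_1 lc_c_Cert_tree lc_c_rc_13_2 lc_c_rc_11_1 lc_c_Cert_tree lc_c_rc_12_2 lc_c_rc_24_8 lc_c_rc_11_1 lc_c_rc_14_2 lc_c_rc_13_2 lc_c_rc_13_2 lc_c_rc_24_2 lc_c_rc_11_1 lc_c_rc_13_2 lc_c_rc_2_3) (@D3.rec (fun _ => (Cert rels S Gen.c)) lc_c_rc_11_1 lc_c_rc_7_3 lc_c_rc_11_1 lc_c_rc_13_2 lc_c_rc_11_1 lc_c_rc_13_2 lc_c_rc_26_2 lc_c_rc_11_1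 lc_c_rc_22_5 lc_c_rc_24_4 lc_c_rc_11_1 lc_c_rc_7_3 lc_c_rc_11_1 lc_c_rc_14_2 lc_c_Cert_tree lc_c_rc_13_2 lc_c_rc_11_1 lc_c_rc_13_2 lc_c_rc_7_1 lc_c_rc_22_9 lc_c_rc_13_0 lc_c_rc_22_3 lc_c_rc_26_2 lc_c_rc_11_1 lc_c_rc_11_1 lc_c_rc_2_3 lc_c_rc_14_0 lc_c_rc_14_2 lc_c_rc_13_0 lc_c_rc_11_1 lc_c_rc_11_1 lc_c_rc_13_2 lc_c_rc_24_4 lc_c_rc_13_2 lc_c_rc_7_1 lc_c_rc_13_2 lc_c_rc_24_6 lc_c_rc_24_4 lc_c_Cert_tree lc_c_rc_14_2 lc_c_rc_11_1 lc_c_rc_13_2 lc_c_rc_11_1 lc_c_rc_13_2 lc_c_rc_11_1 lc_c_rc_2_3 lc_c_Cert_tree lc_c_rc_11_1 lc_c_rc_11_1 lc_c_rc_14_2 lc_c_rc_13_2 lc_c_Cert_tree lc_c_rc_11_1 lc_c_Cert_tree lc_c_rc_23_0 lc_c_rc_11_1 lc_c_rc_14_2 lc_c_rc_13_2 lc_c_Cert_tree lc_c_rc_13_2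 lc_c_rc_26_4 lc_c_rc_13_2) (@D3.rec (fun _ => (Cert rels S Gen.c)) lc_c_rc_7_3 lc_c_Cert_tree lc_c_rc_14_2 lc_c_rc_13_2 lc_c_rc_24_4 lc_c_rc_22_5 lc_c_rc_11_1 lc_c_rc_13_2 lc_c_rc_11_1 lc_c_Cert_tree lc_c_Cert_tree lc_c_rc_23_5 lc_c_Cert_tree lc_c_rc_26_8 lc_c_Cert_tree lc_c_Cert_tree lc_c_rc_7_5 lc_c_rc_11_1 lc_c_rc_11_1 lc_c_Cert_tree lc_c_rc_23_0 lc_c_rc_7_3 lc_c_Cert_tree lc_c_rc_13_2 lc_c_Cert_tree lc_c_rc_11_1 lc_c_rc_13_2 lc_c_Cert_tree lc_c_rc_11_1 lc_c_rc_13_2 lc_c_Cert_tree lc_c_rc_11_1 lc_c_rc_11_1 lc_c_rc_11_1 lc_c_rc_24_6 lc_c_rc_7_3 lc_c_rc_13_2 lc_c_rc_7_1 lc_c_rc_22_7 lc_c_rc_13_2 lc_c_rc_24_2 lc_c_rc_24_2 lc_c_rc_26_8 lc_c_rc_11_1 lc_c_rc_2_1 lc_c_rc_13_2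 lc_c_rc_24_2 lc_c_rc_13_2 lc_c_rc_22_5 lc_c_rc_24_6 lc_c_rc_2_3 lc_c_rc_23_5 lc_c_rc_13_0 lc_c_rc_2_3 lc_c_rc_13_2 lc_c_rc_14_2 lc_c_rc_13_0 lc_c_rc_13_2 lc_c_Cert_tree lc_c_rc_13_0 lc_c_rc_11_1 lc_c_rc_22_7) (@D3.rec (fun _ => (Cert rels S Gen.c)) lc_c_rc_14_2 lc_c_rc_11_1 lc_c_rc_13_0 lc_c_rc_14_2 lc_c_rc_11_1 lc_c_rc_26_2 lc_c_rc_11_1 lc_c_rc_13_2 lc_c_rc_11_1 lc_c_rc_11_1 lc_c_rc_7_3 lc_c_Cert_tree lc_c_rc_13_2 lc_c_Cert_tree lc_c_rc_23_5 lc_c_rc_26_2 lc_c_rc_26_10 lc_c_rc_24_8 lc_c_rc_24_4 lc_c_rc_26_8 lc_c_rc_26_10 lc_c_rc_26_8 lc_c_rc_22_7 lc_c_rc_24_2 lc_c_rc_24_2 lc_c_rc_11_1 lc_c_rc_23_0 lc_c_rc_11_1 lc_c_rc_26_4 lc_c_rc_11_1 lc_c_Cert_tree lc_c_rc_13_2 lc_c_rc_11_1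 lc_c_rc_24_2 lc_c_rc_23_5 lc_c_rc_11_1 lc_c_rc_7_5 lc_c_rc_26_2 lc_c_rc_11_1 lc_c_rc_22_3 lc_c_rc_11_1 lc_c_rc_11_1 lc_c_rc_13_2 lc_c_rc_2_3 lc_c_rc_11_1 lc_c_rc_11_1 lc_c_rc_22_9 lc_c_rc_14_2 lc_c_rc_26_10 lc_c_rc_11_1 lc_c_rc_11_1 lc_c_rc_26_2 lc_c_rc_24_4 lc_c_rc_13_2 lc_c_rc_22_5 lc_c_rc_11_1 lc_c_rc_13_2 lc_c_rc_13_2 lc_c_rc_13_2 lc_c_rc_26_8 lc_c_rc_26_4 lc_c_rc_7_3) (@D3.rec (fun _ => (Cert rels S Gen.c)) lc_c_rc_14_2 lc_c_rc_11_1 lc_c_rc_24_4 lc_c_rc_2_3 lc_c_rc_24_4 lc_c_rc_2_3 lc_c_rc_13_2 lc_c_Cert_tree lc_c_rc_11_1 lc_c_rc_7_5 lc_c_rc_2_3 lc_c_rc_22_5 lc_c_rc_11_1 lc_c_rc_7_5 lc_c_rc_13_2 lc_c_rc_11_1 lc_c_rc_2_1 lc_c_Cert_tree lc_c_rc_11_1 lc_c_rc_13_2 lc_c_rc_12_2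 lc_c_rc_11_1 lc_c_rc_14_2 lc_c_rc_11_1 lc_c_rc_24_2 lc_c_Cert_tree lc_c_rc_13_2 lc_c_rc_23_0 lc_c_rc_7_5 lc_c_rc_7_5 lc_c_rc_22_3 lc_c_rc_13_2 lc_c_rc_11_1 lc_c_rc_25_17 lc_c_rc_13_2 lc_c_rc_13_2 lc_c_rc_13_2 lc_c_rc_11_1 lc_c_rc_11_1 lc_c_rc_26_4 lc_c_rc_13_2 lc_c_rc_7_3 lc_c_rc_14_2 lc_c_rc_12_2 lc_c_rc_23_5 lc_c_rc_13_2 lc_c_rc_26_4 lc_c_rc_13_2 lc_c_rc_7_5 lc_c_rc_2_3 lc_c_rc_11_1 lc_c_rc_7_3 lc_c_rc_23_0 lc_c_rc_14_2 lc_c_rc_13_2 lc_c_rc_13_2 lc_c_rc_22_3 lc_c_rc_22_7 lc_c_rc_11_1 lc_c_rc_26_10 lc_c_Cert_tree lc_c_rc_14_2) (@D3.rec (fun _ => (Cert rels S Gen.c)) lc_c_rc_26_4 lc_c_rc_23_5 lc_c_rc_23_5 lc_c_rc_23_5 lc_c_rc_24_2 lc_c_rc_11_1 lc_c_rc_22_3 lc_c_rc_22_3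 lc_c_rc_13_2 lc_c_rc_23_0 lc_c_rc_11_1 lc_c_rc_11_1 lc_c_rc_2_1 lc_c_rc_14_2 lc_c_rc_22_3 lc_c_Cert_tree lc_c_rc_2_3 lc_c_Cert_tree lc_c_rc_23_5 lc_c_rc_24_2 lc_c_rc_22_9 lc_c_rc_11_1 lc_c_rc_13_0 lc_c_rc_11_1 lc_c_rc_14_0 lc_c_rc_26_2 lc_c_rc_26_2 lc_c_rc_23_5 lc_c_rc_11_1 lc_c_rc_7_3 lc_c_rc_26_10 lc_c_rc_2_1 lc_c_rc_11_1 lc_c_rc_26_4 lc_c_rc_26_10 lc_c_rc_13_2 lc_c_rc_23_5 lc_c_rc_11_1 lc_c_rc_13_2 lc_c_rc_26_4 lc_c_Cert_tree lc_c_rc_14_2 lc_c_rc_13_0 lc_c_rc_26_2 lc_c_rc_23_5 lc_c_rc_11_1 lc_c_rc_24_4 lc_c_Cert_tree lc_c_rc_11_1 lc_c_rc_26_10 lc_c_rc_26_8 lc_c_rc_11_1 lc_c_rc_23_5 lc_c_rc_13_2 lc_c_rc_22_7 lc_c_rc_7_3 lc_c_rc_23_0 lc_c_rc_14_2 lc_c_rc_13_2 lc_c_rc_13_0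 lc_c_rc_11_1 lc_c_rc_22_3) (@D3.rec (fun _ => (Cert rels S Gen.c)) lc_c_Cert_tree lc_c_rc_23_5 lc_c_rc_23_5 lc_c_rc_24_4 lc_c_rc_11_1 lc_c_rc_13_2 lc_c_rc_23_0 lc_c_rc_26_10 lc_c_rc_22_7 lc_c_rc_23_0 lc_c_rc_22_9 lc_c_rc_11_1 lc_c_rc_14_2 lc_c_rc_11_1 lc_c_rc_23_5 lc_c_rc_11_1 lc_c_rc_24_4 lc_c_rc_7_1 lc_c_rc_13_2 lc_c_rc_13_2 lc_c_rc_11_1 lc_c_rc_2_3 lc_c_rc_7_1 lc_c_rc_13_2 lc_c_rc_7_5 lc_c_rc_2_3 lc_c_rc_7_3 lc_c_rc_7_3 lc_c_Cert_tree lc_c_Cert_tree lc_c_rc_2_3 lc_c_rc_7_3 lc_c_rc_14_2 lc_c_rc_13_2 lc_c_rc_13_2 lc_c_Cert_tree lc_c_rc_2_3 lc_c_rc_25_5 lc_c_rc_13_0 lc_c_rc_11_1 lc_c_rc_2_3 lc_c_rc_23_5 lc_c_Cert_tree lc_c_rc_11_1 lc_c_rc_13_2 lc_c_rc_13_0 lc_c_rc_13_2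 lc_c_rc_26_4 lc_c_Cert_tree lc_c_rc_23_0 lc_c_rc_11_1 lc_c_rc_13_2 lc_c_rc_26_2 lc_c_Cert_tree lc_c_rc_23_5 lc_c_rc_13_2 lc_c_rc_7_3 lc_c_rc_13_2 lc_c_rc_24_8 lc_c_rc_26_2 lc_c_rc_13_2 lc_c_rc_11_1) (@D3.rec (fun _ => (Cert rels S Gen.c)) lc_c_rc_11_1 lc_c_rc_26_4 lc_c_rc_11_1 lc_c_rc_7_3 lc_c_rc_24_2 lc_c_rc_23_5 lc_c_rc_23_5 lc_c_rc_13_0 lc_c_rc_2_3 lc_c_rc_2_3 lc_c_Cert_tree lc_c_rc_13_2 lc_c_rc_11_1 lc_c_rc_22_3 lc_c_rc_11_1 lc_c_rc_2_3 lc_c_rc_7_5 lc_c_rc_24_2 lc_c_rc_26_2 lc_c_rc_23_5 lc_c_Cert_tree lc_c_rc_24_2 lc_c_Cert_tree lc_c_rc_7_3 lc_c_rc_11_1 lc_c_rc_14_0 lc_c_rc_12_4 lc_c_rc_13_0 lc_c_rc_26_10 lc_c_rc_7_5 lc_c_rc_7_1 lc_c_rc_24_4 lc_c_rc_22_5 lc_c_rc_11_1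 lc_c_rc_22_3 lc_c_rc_14_2 lc_c_rc_11_1 lc_c_rc_23_5 lc_c_rc_11_1 lc_c_Cert_tree lc_c_rc_7_5 lc_c_rc_2_3 lc_c_Cert_tree lc_c_rc_7_3 lc_c_rc_13_2 lc_c_rc_2_3 lc_c_rc_22_9 lc_c_rc_14_2 lc_c_rc_12_2 lc_c_rc_2_3 lc_c_rc_11_1 lc_c_rc_13_2 lc_c_rc_11_1 lc_c_rc_24_6 lc_c_rc_11_1 lc_c_rc_12_14 lc_c_rc_11_1 lc_c_rc_11_1 lc_c_rc_7_1 lc_c_rc_22_5 lc_c_rc_13_2 lc_c_rc_7_1) (@D3.rec (fun _ => (Cert rels S Gen.c)) lc_c_Cert_tree lc_c_rc_2_3 lc_c_Cert_tree lc_c_rc_13_2 lc_c_rc_13_2 lc_c_rc_24_6 lc_c_rc_22_5 lc_c_rc_14_2 lc_c_rc_11_1 lc_c_rc_13_0 lc_c_rc_26_10 lc_c_rc_7_5 lc_c_rc_26_8 lc_c_Cert_tree lc_c_rc_13_2 lc_c_rc_2_3 lc_c_rc_7_5 lc_c_rc_23_0 lc_c_rc_11_1 lc_c_Cert_tree lc_c_rc_13_2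 lc_c_rc_22_5 lc_c_rc_11_1 lc_c_Cert_tree lc_c_rc_26_2 lc_c_rc_23_5 lc_c_rc_11_1 lc_c_Cert_tree lc_c_rc_2_3 lc_c_Cert_tree lc_c_Cert_tree lc_c_Cert_tree lc_c_rc_11_1 lc_c_rc_26_4 lc_c_Cert_tree lc_c_rc_26_4 lc_c_rc_7_3 lc_c_rc_13_2 lc_c_rc_22_3 lc_c_rc_13_0 lc_c_rc_14_2 lc_c_rc_23_0 lc_c_rc_11_1 lc_c_rc_11_1 lc_c_rc_2_1 lc_c_rc_22_5 lc_c_rc_11_1 lc_c_rc_11_1 lc_c_rc_22_3 lc_c_rc_11_1 lc_c_rc_11_1 lc_c_rc_26_4 lc_c_rc_11_1 lc_c_rc_24_2 lc_c_rc_11_1 lc_c_rc_13_2 lc_c_rc_13_2 lc_c_rc_11_1 lc_c_rc_22_7 lc_c_rc_11_1 lc_c_rc_11_1 lc_c_rc_7_5) (@D3.rec (fun _ => (Cert rels S Gen.c)) lc_c_rc_11_1 lc_c_rc_26_2 lc_c_rc_7_5 lc_c_rc_26_10 lc_c_rc_14_2 lc_c_rc_13_2 lc_c_Cert_tree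 lc_c_Cert_tree lc_c_rc_11_1 lc_c_rc_2_3 lc_c_rc_11_1 lc_c_Cert_tree lc_c_rc_11_1 lc_c_rc_11_1 lc_c_rc_7_3 lc_c_Cert_tree lc_c_rc_11_1 lc_c_Cert_tree lc_c_rc_7_1 lc_c_rc_11_1 lc_c_rc_24_6 lc_c_rc_26_2 lc_c_rc_11_1 lc_c_rc_13_2 lc_c_rc_13_2 lc_c_rc_11_1 lc_c_rc_26_8 lc_c_rc_24_2 lc_c_rc_11_1 lc_c_rc_13_0 lc_c_rc_22_3 lc_c_rc_26_8 lc_c_rc_13_2 lc_c_rc_13_2 lc_c_rc_22_5 lc_c_rc_7_5 lc_c_rc_23_5 lc_c_Cert_tree lc_c_rc_11_1 lc_c_rc_22_3 lc_c_rc_13_2 lc_c_rc_13_2 lc_c_Cert_tree lc_c_rc_7_5 lc_c_rc_23_5 lc_c_rc_26_4 lc_c_rc_13_2 lc_c_rc_26_2 lc_c_rc_26_8 lc_c_rc_7_1 lc_c_rc_11_1 lc_c_rc_13_2 lc_c_rc_14_0 lc_c_rc_23_5 lc_c_rc_11_1 lc_c_rc_7_3 lc_c_rc_14_2 lc_c_rc_11_1 lc_c_rc_11_1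 lc_c_rc_11_1 lc_c_rc_7_1 lc_c_rc_11_1) (@D3.rec (fun _ => (Cert rels S Gen.c)) lc_c_rc_11_1 lc_c_rc_22_5 lc_c_rc_11_1 lc_c_rc_23_5 lc_c_rc_2_3 lc_c_rc_14_2 lc_c_rc_14_2 lc_c_rc_24_4 lc_c_Cert_tree lc_c_rc_26_4 lc_c_rc_26_4 lc_c_rc_11_1 lc_c_rc_14_0 lc_c_rc_2_1 lc_c_rc_14_0 lc_c_rc_26_4 lc_c_Cert_tree lc_c_rc_22_9 lc_c_rc_11_1 lc_c_rc_13_2 lc_c_rc_11_1 lc_c_rc_11_1 lc_c_rc_22_7 lc_c_rc_24_6 lc_c_rc_24_6 lc_c_rc_22_3 lc_c_rc_11_1 lc_c_rc_7_3 lc_c_rc_12_2 lc_c_rc_13_2 lc_c_rc_11_1 lc_c_rc_26_4 lc_c_rc_11_1 lc_c_rc_11_1 lc_c_rc_14_2 lc_c_rc_11_1 lc_c_rc_2_3 lc_c_rc_23_0 lc_c_rc_13_2 lc_c_rc_11_1 lc_c_rc_13_2 lc_c_Cert_tree lc_c_rc_24_8 lc_c_rc_11_1 lc_c_rc_26_2 lc_c_rc_11_1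 lc_c_rc_13_0 lc_c_rc_13_2 lc_c_rc_24_8 lc_c_rc_13_0 lc_c_rc_14_2 lc_c_rc_7_3 lc_c_rc_13_2 lc_c_rc_24_6 lc_c_rc_11_1 lc_c_rc_11_1 lc_c_rc_14_2 lc_c_rc_11_1 lc_c_rc_11_1 lc_c_rc_24_2 lc_c_rc_11_1 lc_c_rc_13_2) (@D3.rec (fun _ => (Cert rels S Gen.c)) lc_c_rc_26_2 lc_c_rc_11_1 lc_c_rc_13_2 lc_c_rc_22_3 lc_c_rc_11_1 lc_c_Cert_tree lc_c_rc_14_2 lc_c_rc_13_0 lc_c_rc_11_1 lc_c_rc_23_5 lc_c_rc_23_0 lc_c_rc_11_1 lc_c_rc_7_5 lc_c_rc_13_2 lc_c_rc_7_5 lc_c_rc_13_0 lc_c_Cert_tree lc_c_rc_26_4 lc_c_Cert_tree lc_c_rc_11_1 lc_c_rc_13_0 lc_c_rc_26_4 lc_c_rc_7_5 lc_c_rc_13_2 lc_c_rc_13_2 lc_c_rc_12_0 lc_c_rc_22_7 lc_c_rc_13_2 lc_c_rc_22_3 lc_c_rc_11_1 lc_c_rc_11_1 lc_c_rc_26_2 lc_c_rc_26_4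 lc_c_rc_11_1 lc_c_rc_13_2 lc_c_rc_22_9 lc_c_rc_11_1 lc_c_rc_11_1 lc_c_rc_2_1 lc_c_rc_24_6 lc_c_rc_11_1 lc_c_rc_22_5 lc_c_rc_13_2 lc_c_rc_24_4 lc_c_rc_22_5 lc_c_rc_14_2 lc_c_rc_7_5 lc_c_rc_7_5 lc_c_rc_11_1 lc_c_rc_13_2 lc_c_rc_11_1 lc_c_rc_26_10 lc_c_rc_26_8 lc_c_Cert_tree lc_c_rc_13_2 lc_c_rc_24_8 lc_c_rc_11_1 lc_c_rc_23_0 lc_c_rc_24_4 lc_c_Cert_tree lc_c_rc_13_2 lc_c_rc_11_1) (@D3.rec (fun _ => (Cert rels S Gen.c)) lc_c_rc_14_2 lc_c_rc_11_1 lc_c_rc_13_2 lc_c_rc_26_8 lc_c_rc_11_1 lc_c_rc_11_1 lc_c_rc_11_1 lc_c_Cert_tree lc_c_rc_13_2 lc_c_Cert_tree lc_c_rc_13_2 lc_c_Cert_tree lc_c_rc_23_5 lc_c_rc_11_1 lc_c_rc_22_7 lc_c_rc_13_2 lc_c_rc_13_2 lc_c_rc_11_1 lc_c_rc_11_1 lc_c_rc_11_1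 lc_c_rc_14_2 lc_c_rc_13_2 lc_c_rc_11_1 lc_c_rc_26_10 lc_c_Cert_tree lc_c_rc_11_1 lc_c_rc_11_1 lc_c_rc_22_3 lc_c_rc_11_1 lc_c_rc_24_8 lc_c_Cert_tree lc_c_rc_11_1 lc_c_rc_13_2 lc_c_Cert_tree lc_c_rc_13_2 lc_c_rc_13_2 lc_c_rc_7_5 lc_c_rc_11_1 lc_c_rc_11_1 lc_c_rc_11_1 lc_c_rc_13_2 lc_c_rc_13_2 lc_c_rc_11_1 lc_c_rc_11_1 lc_c_rc_7_5 lc_c_rc_26_4 lc_c_rc_13_2 lc_c_rc_13_2 lc_c_Cert_tree lc_c_rc_14_2 lc_c_rc_26_4 lc_c_rc_24_6 lc_c_rc_14_2 lc_c_rc_7_1 lc_c_rc_13_2 lc_c_rc_24_2 lc_c_rc_23_0 lc_c_rc_23_5 lc_c_rc_13_2 lc_c_rc_7_5 lc_c_rc_13_2 lc_c_rc_24_4) (@D3.rec (fun _ => (Cert rels S Gen.c)) lc_c_rc_24_4 lc_c_rc_2_3 lc_c_rc_13_2 lc_c_rc_13_2 lc_c_rc_22_7 lc_c_rc_11_1 lc_c_rc_11_1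 lc_c_rc_11_1 lc_c_rc_13_2 lc_c_rc_11_1 lc_c_rc_11_1 lc_c_rc_22_7 lc_c_rc_14_2 lc_c_rc_11_1 lc_c_rc_26_2 lc_c_rc_24_6 lc_c_rc_11_1 lc_c_rc_14_2 lc_c_rc_13_2 lc_c_rc_13_2 lc_c_rc_14_2 lc_c_rc_13_2 lc_c_rc_13_2 lc_c_rc_14_2 lc_c_rc_7_3 lc_c_rc_26_10 lc_c_rc_26_4 lc_c_rc_11_1 lc_c_Cert_tree lc_c_rc_13_2 lc_c_rc_22_7 lc_c_rc_26_4 lc_c_rc_11_1 lc_c_rc_25_5 lc_c_rc_13_2 lc_c_Cert_tree lc_c_rc_26_10 lc_c_rc_11_1 lc_c_rc_11_1 lc_c_rc_13_2 lc_c_rc_7_1 lc_c_rc_26_2 lc_c_rc_13_2 lc_c_rc_13_2 lc_c_rc_24_4 lc_c_rc_7_5 lc_c_rc_14_2 lc_c_rc_11_1 lc_c_rc_7_1 lc_c_rc_13_2 lc_c_rc_11_1 lc_c_rc_24_6 lc_c_rc_24_4 lc_c_rc_22_7 lc_c_rc_13_2 lc_c_rc_25_13 lc_c_rc_14_2 lc_c_rc_2_1 lc_c_rc_7_1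 lc_c_rc_11_1 lc_c_rc_14_2 lc_c_rc_11_1) (@D3.rec (fun _ => (Cert rels S Gen.c)) lc_c_rc_11_1 lc_c_rc_7_5 lc_c_rc_13_2 lc_c_rc_22_3 lc_c_rc_13_2 lc_c_Cert_tree lc_c_Cert_tree lc_c_rc_13_2 lc_c_rc_14_2 lc_c_rc_7_3 lc_c_rc_26_2 lc_c_rc_13_2 lc_c_rc_22_9 lc_c_rc_22_3 lc_c_rc_24_6 lc_c_rc_2_3 lc_c_rc_14_2 lc_c_rc_26_4 lc_c_rc_13_2 lc_c_rc_24_4 lc_c_rc_13_2 lc_c_rc_2_1 lc_c_Cert_tree lc_c_rc_11_1 lc_c_rc_7_5 lc_c_rc_7_3 lc_c_Cert_tree lc_c_Cert_tree lc_c_rc_13_2 lc_c_rc_14_2 lc_c_rc_11_1 lc_c_rc_22_7 lc_c_rc_13_2 lc_c_rc_24_2 lc_c_rc_24_2 lc_c_rc_22_3 lc_c_rc_11_1 lc_c_rc_7_3 lc_c_rc_22_7 lc_c_rc_7_3 lc_c_rc_22_3 lc_c_rc_23_0 lc_c_Cert_tree lc_c_rc_14_2 lc_c_rc_22_3 lc_c_rc_13_2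 lc_c_rc_13_2 lc_c_rc_22_9 lc_c_rc_2_3 lc_c_rc_2_3 lc_c_rc_11_1 lc_c_rc_7_5 lc_c_rc_7_5 lc_c_rc_22_3 lc_c_rc_7_1 lc_c_rc_23_0 lc_c_rc_13_2 lc_c_Cert_tree lc_c_rc_11_1 lc_c_rc_22_3 lc_c_rc_7_1 lc_c_rc_24_2) (@D3.rec (fun _ => (Cert rels S Gen.c)) lc_c_rc_22_7 lc_c_rc_13_2 lc_c_rc_23_5 lc_c_rc_11_1 lc_c_rc_11_1 lc_c_rc_13_2 lc_c_rc_7_1 lc_c_rc_13_2 lc_c_rc_2_3 lc_c_rc_22_7 lc_c_rc_14_2 lc_c_Cert_tree lc_c_Cert_tree lc_c_Cert_tree lc_c_rc_14_2 lc_c_Cert_tree lc_c_rc_23_0 lc_c_rc_7_3 lc_c_Cert_tree lc_c_rc_11_1 lc_c_rc_22_3 lc_c_Cert_tree lc_c_rc_13_2 lc_c_rc_7_3 lc_c_Cert_tree lc_c_rc_11_1 lc_c_rc_13_2 lc_c_rc_24_2 lc_c_rc_11_1 lc_c_rc_13_2 lc_c_Cert_tree lc_c_Cert_tree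 lc_c_Cert_tree lc_c_rc_14_2 lc_c_rc_11_1 lc_c_rc_26_10 lc_c_rc_26_10 lc_c_rc_7_5 lc_c_rc_14_2 lc_c_rc_11_1 lc_c_rc_26_4 lc_c_rc_24_8 lc_c_rc_11_1 lc_c_rc_7_3 lc_c_rc_11_1 lc_c_rc_11_1 lc_c_rc_26_2 lc_c_rc_13_2 lc_c_rc_11_1 lc_c_rc_11_1 lc_c_rc_13_2 lc_c_Cert_tree lc_c_rc_26_4 lc_c_rc_26_10 lc_c_rc_7_3 lc_c_Cert_tree lc_c_rc_14_2 lc_c_rc_11_1 lc_c_rc_11_1 lc_c_rc_13_2 lc_c_rc_13_2 lc_c_rc_11_1) (@D3.rec (fun _ => (Cert rels S Gen.c)) lc_c_rc_13_2 lc_c_rc_22_3 lc_c_rc_13_2 lc_c_rc_2_1 lc_c_Cert_tree lc_c_rc_14_2 lc_c_rc_2_3 lc_c_rc_11_1 lc_c_rc_11_1 lc_c_rc_11_1 lc_c_rc_13_2 lc_c_rc_13_2 lc_c_rc_24_6 lc_c_rc_24_2 lc_c_rc_7_3 lc_c_rc_24_2 lc_c_rc_13_2 lc_c_rc_14_2 lc_c_rc_13_0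 lc_c_rc_14_2 lc_c_rc_24_4 lc_c_rc_11_1 lc_c_rc_26_10 lc_c_rc_24_8 lc_c_Cert_tree lc_c_rc_14_2 lc_c_rc_2_1 lc_c_rc_13_2 lc_c_rc_11_1 lc_c_rc_22_3 lc_c_rc_22_7 lc_c_rc_14_2 lc_c_rc_11_1 lc_c_rc_26_10 lc_c_rc_2_1 lc_c_rc_26_8 lc_c_rc_24_2 lc_c_rc_14_2 lc_c_rc_11_1 lc_c_rc_25_17 lc_c_rc_7_5 lc_c_rc_12_14 lc_c_rc_23_0 lc_c_rc_14_2 lc_c_rc_22_9 lc_c_rc_7_3 lc_c_rc_25_5 lc_c_rc_13_2 lc_c_rc_7_5 lc_c_rc_26_4 lc_c_rc_13_2 lc_c_rc_24_2 lc_c_rc_24_8 lc_c_rc_11_1 lc_c_rc_13_2 lc_c_rc_11_1 lc_c_Cert_tree lc_c_rc_13_2 lc_c_rc_7_3 lc_c_rc_11_1 lc_c_rc_11_1 lc_c_rc_26_10) (@D3.rec (fun _ => (Cert rels S Gen.c)) lc_c_rc_11_1 lc_c_rc_24_6 lc_c_rc_7_1 lc_c_rc_24_6 lc_c_rc_12_2 lc_c_rc_2_3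 lc_c_rc_26_4 lc_c_rc_13_2 lc_c_Cert_tree lc_c_rc_22_3 lc_c_rc_11_1 lc_c_rc_2_3 lc_c_rc_13_2 lc_c_rc_11_1 lc_c_rc_22_5 lc_c_rc_14_2 lc_c_rc_7_3 lc_c_rc_7_1 lc_c_rc_11_1 lc_c_rc_7_3 lc_c_rc_11_1 lc_c_rc_7_3 lc_c_rc_11_1 lc_c_rc_26_4 lc_c_rc_23_5 lc_c_rc_13_2 lc_c_rc_11_1 lc_c_rc_13_2 lc_c_rc_13_2 lc_c_rc_11_1 lc_c_rc_26_4 lc_c_rc_26_4 lc_c_rc_24_6 lc_c_Cert_tree lc_c_rc_2_3 lc_c_rc_13_2 lc_c_rc_11_1 lc_c_rc_11_1 lc_c_rc_2_3 lc_c_Cert_tree lc_c_rc_11_1 lc_c_rc_2_3 lc_c_rc_26_2 lc_c_Cert_tree lc_c_rc_2_3 lc_c_rc_7_5 lc_c_rc_13_2 lc_c_rc_12_2 lc_c_rc_13_2 lc_c_rc_11_1 lc_c_rc_26_8 lc_c_rc_24_6 lc_c_rc_26_4 lc_c_rc_2_1 lc_c_rc_11_1 lc_c_rc_13_2 lc_c_Cert_tree lc_c_rc_13_2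 lc_c_Cert_tree lc_c_Cert_tree lc_c_Cert_tree lc_c_rc_11_1)
def ce_c_21 : D2 → D3 → (Cert rels S Gen.c) := @D2.rec (fun _ => D3 → (Cert rels S Gen.c)) (@D3.rec (fun _ => (Cert rels S Gen.c)) lc_c_rc_14_2 lc_c_rc_7_3 lc_c_Cert_tree lc_c_rc_11_1 lc_c_Cert_tree lc_c_rc_11_1 lc_c_rc_26_2 lc_c_rc_24_6 lc_c_rc_24_2 lc_c_rc_22_3 lc_c_rc_11_1 lc_c_rc_7_5 lc_c_rc_2_3 lc_c_rc_14_2 lc_c_rc_11_1 lc_c_rc_24_4 lc_c_rc_13_2 lc_c_rc_11_1 lc_c_rc_13_2 lc_c_rc_7_5 lc_c_rc_24_2 lc_c_rc_24_2 lc_c_rc_7_3 lc_c_rc_23_5 lc_c_rc_23_5 lc_c_rc_26_4 lc_c_rc_11_1 lc_c_rc_14_2 lc_c_rc_7_3 lc_c_rc_13_2 lc_c_rc_13_2 lc_c_rc_24_6 lc_c_rc_22_3 lc_c_rc_13_2 lc_c_rc_23_5 lc_c_rc_22_3 lc_c_rc_26_4 lc_c_rc_11_1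 lc_c_rc_11_1 lc_c_rc_26_4 lc_c_rc_11_1 lc_c_rc_7_3 lc_c_Cert_tree lc_c_rc_11_1 lc_c_rc_2_3 lc_c_rc_11_1 lc_c_rc_2_3 lc_c_rc_22_3 lc_c_rc_11_1 lc_c_Cert_tree lc_c_rc_13_2 lc_c_rc_11_1 lc_c_rc_13_2 lc_c_rc_7_3 lc_c_rc_11_1 lc_c_rc_22_3 lc_c_rc_13_2 lc_c_rc_23_5 lc_c_rc_13_2 lc_c_rc_23_5 lc_c_rc_24_6 lc_c_rc_11_1) (@D3.rec (fun _ => (Cert rels S Gen.c)) lc_c_rc_11_1 lc_c_rc_13_2 lc_c_rc_7_5 lc_c_rc_23_5 lc_c_rc_11_1 lc_c_Cert_tree lc_c_rc_11_1 lc_c_rc_7_3 lc_c_rc_11_1 lc_c_Cert_tree lc_c_rc_26_4 lc_c_Cert_tree lc_c_rc_13_2 lc_c_Cert_tree lc_c_Cert_tree lc_c_rc_11_1 lc_c_rc_13_2 lc_c_rc_12_14 lc_c_rc_11_1 lc_c_rc_13_2 lc_c_rc_26_2 lc_c_rc_2_3 lc_c_rc_13_2 lc_c_rc_24_8 lc_c_rc_11_1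 lc_c_rc_13_2 lc_c_Cert_tree lc_c_rc_11_1 lc_c_rc_13_2 lc_c_rc_11_1 lc_c_rc_13_2 lc_c_rc_26_4 lc_c_rc_11_1 lc_c_rc_24_4 lc_c_rc_11_1 lc_c_rc_13_2 lc_c_rc_2_3 lc_c_rc_11_1 lc_c_rc_11_1 lc_c_rc_7_3 lc_c_rc_11_1 lc_c_rc_24_6 lc_c_rc_24_6 lc_c_rc_14_2 lc_c_rc_7_1 lc_c_rc_24_6 lc_c_rc_11_1 lc_c_rc_2_3 lc_c_rc_13_2 lc_c_Cert_tree lc_c_rc_24_4 lc_c_rc_24_4 lc_c_Cert_tree lc_c_rc_26_10 lc_c_rc_7_5 lc_c_rc_11_1 lc_c_rc_14_2 lc_c_rc_26_4 lc_c_rc_7_3 lc_c_rc_13_2 lc_c_rc_11_1 lc_c_rc_23_5) (@D3.rec (fun _ => (Cert rels S Gen.c)) lc_c_rc_11_1 lc_c_rc_26_2 lc_c_rc_7_3 lc_c_rc_22_9 lc_c_rc_13_2 lc_c_rc_11_1 lc_c_rc_7_3 lc_c_rc_13_2 lc_c_rc_11_1 lc_c_rc_23_0 lc_c_rc_11_1 lc_c_rc_26_4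 lc_c_rc_13_2 lc_c_rc_7_5 lc_c_rc_13_2 lc_c_rc_2_1 lc_c_rc_13_2 lc_c_rc_11_1 lc_c_rc_26_2 lc_c_rc_7_1 lc_c_rc_24_2 lc_c_rc_14_2 lc_c_Cert_tree lc_c_rc_14_2 lc_c_rc_7_5 lc_c_Cert_tree lc_c_Cert_tree lc_c_rc_13_2 lc_c_rc_11_1 lc_c_rc_14_2 lc_c_rc_11_1 lc_c_rc_12_4 lc_c_rc_13_2 lc_c_rc_2_3 lc_c_rc_11_1 lc_c_rc_23_0 lc_c_rc_11_1 lc_c_rc_13_2 lc_c_rc_11_1 lc_c_rc_11_1 lc_c_rc_24_6 lc_c_rc_11_1 lc_c_rc_13_2 lc_c_rc_23_0 lc_c_rc_24_6 lc_c_rc_14_2 lc_c_Cert_tree lc_c_rc_11_1 lc_c_rc_7_3 lc_c_rc_22_5 lc_c_Cert_tree lc_c_rc_13_2 lc_c_rc_14_2 lc_c_rc_11_1 lc_c_rc_26_2 lc_c_rc_23_0 lc_c_rc_13_2 lc_c_rc_11_1 lc_c_rc_13_2 lc_c_rc_11_1 lc_c_rc_26_2 lc_c_rc_11_1) (@D3.rec (fun _ => (Cert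 rels S Gen.c)) lc_c_rc_24_6 lc_c_rc_11_1 lc_c_Cert_tree lc_c_rc_14_2 lc_c_rc_11_1 lc_c_Cert_tree lc_c_rc_11_1 lc_c_rc_13_0 lc_c_rc_2_3 lc_c_rc_24_2 lc_c_rc_11_1 lc_c_rc_26_4 lc_c_rc_13_0 lc_c_rc_22_3 lc_c_rc_11_1 lc_c_rc_13_2 lc_c_rc_23_5 lc_c_rc_11_1 lc_c_rc_23_0 lc_c_rc_13_2 lc_c_rc_11_1 lc_c_rc_7_3 lc_c_rc_13_2 lc_c_rc_11_1 lc_c_rc_13_2 lc_c_rc_24_4 lc_c_rc_26_10 lc_c_rc_13_2 lc_c_rc_11_1 lc_c_rc_2_3 lc_c_rc_11_1 lc_c_rc_14_2 lc_c_rc_13_2 lc_c_rc_13_2 lc_c_rc_22_3 lc_c_rc_13_2 lc_c_rc_11_1 lc_c_rc_14_2 lc_c_rc_11_1 lc_c_rc_14_0 lc_c_rc_13_2 lc_c_rc_11_1 lc_c_rc_11_1 lc_c_rc_13_2 lc_c_rc_24_6 lc_c_rc_14_2 lc_c_rc_13_2 lc_c_rc_7_1 lc_c_rc_11_1 lc_c_rc_7_3 lc_c_rc_11_1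 lc_c_rc_2_3 lc_c_rc_12_2 lc_c_rc_13_2 lc_c_rc_11_1 lc_c_rc_7_1 lc_c_rc_2_3 lc_c_rc_13_2 lc_c_Cert_tree lc_c_rc_11_1 lc_c_rc_11_1 lc_c_rc_2_3) (@D3.rec (fun _ => (Cert rels S Gen.c)) lc_c_rc_11_1 lc_c_rc_13_2 lc_c_rc_26_4 lc_c_rc_11_1 lc_c_rc_22_9 lc_c_rc_26_2 lc_c_rc_11_1 lc_c_rc_26_10 lc_c_rc_22_3 lc_c_rc_13_2 lc_c_rc_22_7 lc_c_rc_11_1 lc_c_rc_14_2 lc_c_rc_7_3 lc_c_rc_11_1 lc_c_rc_13_2 lc_c_rc_13_2 lc_c_rc_11_1 lc_c_rc_22_5 lc_c_rc_22_3 lc_c_rc_25_17 lc_c_rc_23_5 lc_c_rc_13_0 lc_c_rc_13_2 lc_c_rc_11_1 lc_c_rc_22_7 lc_c_rc_26_10 lc_c_rc_11_1 lc_c_rc_14_2 lc_c_Cert_tree lc_c_rc_11_1 lc_c_rc_2_3 lc_c_rc_26_4 lc_c_rc_12_2 lc_c_rc_2_3 lc_c_rc_14_0 lc_c_rc_11_1 lc_c_rc_26_2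 lc_c_rc_13_2 lc_c_rc_11_1 lc_c_rc_14_2 lc_c_rc_26_4 lc_c_rc_14_2 lc_c_rc_11_1 lc_c_rc_24_8 lc_c_rc_13_2 lc_c_rc_12_0 lc_c_rc_26_2 lc_c_rc_11_1 lc_c_rc_13_2 lc_c_rc_26_2 lc_c_rc_12_2 lc_c_rc_13_2 lc_c_rc_14_0 lc_c_rc_7_3 lc_c_rc_22_5 lc_c_Cert_tree lc_c_rc_11_1 lc_c_rc_13_2 lc_c_rc_13_2 lc_c_rc_26_4 lc_c_rc_24_2) (@D3.rec (fun _ => (Cert rels S Gen.c)) lc_c_rc_2_3 lc_c_rc_14_2 lc_c_rc_13_2 lc_c_rc_11_1 lc_c_rc_2_1 lc_c_rc_14_2 lc_c_rc_7_5 lc_c_rc_11_1 lc_c_rc_2_3 lc_c_rc_11_1 lc_c_rc_7_3 lc_c_rc_2_1 lc_c_rc_13_2 lc_c_rc_13_2 lc_c_Cert_tree lc_c_rc_11_1 lc_c_rc_7_1 lc_c_rc_23_5 lc_c_rc_13_0 lc_c_rc_11_1 lc_c_rc_2_3 lc_c_rc_7_3 lc_c_rc_11_1 lc_c_rc_23_0 lc_c_rc_2_3 lc_c_rc_26_4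 lc_c_rc_22_7 lc_c_rc_13_2 lc_c_rc_7_5 lc_c_rc_23_0 lc_c_rc_23_0 lc_c_rc_2_1 lc_c_rc_11_1 lc_c_rc_14_2 lc_c_rc_22_3 lc_c_rc_22_7 lc_c_rc_7_1 lc_c_rc_11_1 lc_c_rc_24_4 lc_c_rc_11_1 lc_c_rc_13_2 lc_c_rc_7_3 lc_c_rc_24_8 lc_c_rc_11_1 lc_c_rc_26_4 lc_c_rc_2_3 lc_c_rc_11_1 lc_c_rc_13_2 lc_c_rc_7_5 lc_c_rc_7_1 lc_c_rc_7_5 lc_c_rc_13_0 lc_c_rc_14_2 lc_c_rc_11_1 lc_c_rc_7_3 lc_c_rc_11_1 lc_c_rc_7_5 lc_c_rc_7_3 lc_c_rc_12_4 lc_c_rc_7_3 lc_c_rc_22_5 lc_c_rc_24_6) (@D3.rec (fun _ => (Cert rels S Gen.c)) lc_c_rc_2_3 lc_c_rc_26_2 lc_c_rc_13_2 lc_c_Cert_tree lc_c_rc_7_5 lc_c_rc_7_3 lc_c_rc_24_2 lc_c_rc_11_1 lc_c_rc_11_1 lc_c_rc_13_2 lc_c_rc_14_2 lc_c_rc_26_4 lc_c_rc_11_1 lc_c_rc_25_5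 lc_c_rc_14_2 lc_c_rc_13_0 lc_c_Cert_tree lc_c_rc_26_8 lc_c_rc_7_5 lc_c_rc_23_0 lc_c_rc_11_1 lc_c_rc_7_3 lc_c_rc_22_9 lc_c_rc_13_2 lc_c_rc_13_0 lc_c_rc_13_2 lc_c_rc_11_1 lc_c_rc_23_0 lc_c_rc_14_2 lc_c_Cert_tree lc_c_Cert_tree lc_c_rc_2_3 lc_c_rc_13_2 lc_c_Cert_tree lc_c_rc_26_2 lc_c_rc_2_3 lc_c_rc_26_4 lc_c_rc_13_2 lc_c_rc_7_5 lc_c_rc_13_2 lc_c_rc_25_5 lc_c_Cert_tree lc_c_rc_11_1 lc_c_rc_7_3 lc_c_rc_13_0 lc_c_rc_13_2 lc_c_rc_11_1 lc_c_rc_11_1 lc_c_rc_14_2 lc_c_rc_26_4 lc_c_rc_11_1 lc_c_rc_13_2 lc_c_rc_24_2 lc_c_rc_11_1 lc_c_rc_13_2 lc_c_rc_23_5 lc_c_rc_13_2 lc_c_rc_13_2 lc_c_rc_13_2 lc_c_rc_11_1 lc_c_rc_24_2 lc_c_rc_24_2) (@D3.rec (fun _ => (Cert rels S Gen.c)) lc_c_rc_11_1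 lc_c_rc_2_3 lc_c_rc_14_2 lc_c_rc_26_2 lc_c_rc_26_2 lc_c_rc_24_2 lc_c_rc_13_2 lc_c_rc_13_0 lc_c_rc_14_2 lc_c_rc_13_0 lc_c_rc_25_17 lc_c_rc_25_1 lc_c_Cert_tree lc_c_rc_13_2 lc_c_Cert_tree lc_c_rc_7_3 lc_c_rc_11_1 lc_c_rc_13_2 lc_c_rc_7_3 lc_c_rc_24_2 lc_c_rc_26_4 lc_c_rc_7_1 lc_c_rc_23_5 lc_c_rc_14_2 lc_c_rc_13_2 lc_c_rc_26_4 lc_c_rc_7_3 lc_c_rc_24_8 lc_c_rc_13_2 lc_c_rc_24_2 lc_c_rc_24_2 lc_c_rc_26_8 lc_c_rc_26_4 lc_c_rc_26_10 lc_c_rc_26_10 lc_c_rc_26_8 lc_c_rc_11_1 lc_c_rc_11_1 lc_c_rc_26_2 lc_c_rc_13_2 lc_c_rc_14_2 lc_c_rc_2_3 lc_c_rc_14_2 lc_c_Cert_tree lc_c_Cert_tree lc_c_rc_24_8 lc_c_rc_13_2 lc_c_rc_13_2 lc_c_rc_13_2 lc_c_rc_24_2 lc_c_rc_13_0 lc_c_rc_11_1 lc_c_rc_23_5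 lc_c_rc_2_1 lc_c_rc_11_1 lc_c_rc_23_5 lc_c_rc_13_2 lc_c_rc_11_1 lc_c_rc_11_1 lc_c_Cert_tree lc_c_rc_13_2 lc_c_rc_23_5) (@D3.rec (fun _ => (Cert rels S Gen.c)) lc_c_rc_23_5 lc_c_rc_2_3 lc_c_rc_7_5 lc_c_rc_11_1 lc_c_rc_11_1 lc_c_rc_22_7 lc_c_rc_7_3 lc_c_rc_13_2 lc_c_rc_13_2 lc_c_rc_13_2 lc_c_rc_13_2 lc_c_rc_26_10 lc_c_rc_13_0 lc_c_rc_26_2 lc_c_rc_7_3 lc_c_rc_13_2 lc_c_rc_26_10 lc_c_rc_26_4 lc_c_rc_13_0 lc_c_rc_11_1 lc_c_rc_24_6 lc_c_rc_26_10 lc_c_rc_22_3 lc_c_rc_7_3 lc_c_rc_2_1 lc_c_rc_7_1 lc_c_rc_24_2 lc_c_rc_13_2 lc_c_rc_22_9 lc_c_rc_13_2 lc_c_rc_7_5 lc_c_rc_22_3 lc_c_rc_22_9 lc_c_rc_24_4 lc_c_rc_11_1 lc_c_rc_2_3 lc_c_rc_13_0 lc_c_rc_23_0 lc_c_rc_11_1 lc_c_rc_26_2 lc_c_rc_13_2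 lc_c_rc_26_10 lc_c_rc_13_2 lc_c_Cert_tree lc_c_rc_2_3 lc_c_rc_24_6 lc_c_rc_11_1 lc_c_rc_13_2 lc_c_rc_22_5 lc_c_rc_26_4 lc_c_rc_11_1 lc_c_rc_7_5 lc_c_rc_26_2 lc_c_rc_7_5 lc_c_rc_7_5 lc_c_Cert_tree lc_c_rc_26_8 lc_c_rc_24_2 lc_c_rc_11_1 lc_c_rc_26_4 lc_c_rc_11_1 lc_c_rc_11_1) (@D3.rec (fun _ => (Cert rels S Gen.c)) lc_c_rc_11_1 lc_c_rc_13_2 lc_c_rc_11_1 lc_c_rc_11_1 lc_c_rc_7_1 lc_c_rc_13_2 lc_c_rc_7_3 lc_c_rc_7_1 lc_c_rc_22_3 lc_c_rc_13_2 lc_c_rc_13_2 lc_c_rc_7_3 lc_c_rc_11_1 lc_c_rc_13_2 lc_c_rc_7_1 lc_c_rc_23_5 lc_c_rc_13_2 lc_c_rc_11_1 lc_c_Cert_tree lc_c_rc_2_3 lc_c_rc_22_5 lc_c_rc_23_0 lc_c_rc_7_5 lc_c_rc_23_0 lc_c_rc_25_17 lc_c_rc_11_1 lc_c_rc_23_0 lc_c_rc_11_1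 lc_c_rc_11_1 lc_c_rc_13_0 lc_c_rc_7_1 lc_c_rc_13_2 lc_c_rc_26_2 lc_c_rc_23_5 lc_c_rc_2_3 lc_c_rc_13_0 lc_c_rc_2_1 lc_c_rc_23_5 lc_c_rc_26_8 lc_c_rc_25_5 lc_c_rc_26_4 lc_c_rc_11_1 lc_c_Cert_tree lc_c_rc_23_0 lc_c_rc_7_5 lc_c_rc_11_1 lc_c_rc_13_2 lc_c_rc_11_1 lc_c_rc_13_0 lc_c_rc_13_2 lc_c_rc_24_4 lc_c_rc_13_2 lc_c_rc_24_4 lc_c_rc_22_5 lc_c_rc_2_1 lc_c_Cert_tree lc_c_rc_13_0 lc_c_rc_7_3 lc_c_Cert_tree lc_c_rc_26_4 lc_c_rc_11_1 lc_c_rc_25_1) (@D3.rec (fun _ => (Cert rels S Gen.c)) lc_c_rc_13_2 lc_c_rc_7_3 lc_c_rc_24_2 lc_c_rc_11_1 lc_c_rc_13_0 lc_c_rc_11_1 lc_c_rc_11_1 lc_c_rc_11_1 lc_c_rc_26_10 lc_c_rc_11_1 lc_c_rc_26_10 lc_c_rc_14_0 lc_c_rc_26_4 lc_c_rc_11_1 lc_c_rc_22_9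 lc_c_Cert_tree lc_c_rc_24_2 lc_c_rc_23_0 lc_c_rc_11_1 lc_c_rc_13_2 lc_c_Cert_tree lc_c_rc_13_2 lc_c_rc_11_1 lc_c_rc_12_2 lc_c_rc_24_6 lc_c_rc_24_4 lc_c_rc_7_3 lc_c_rc_12_2 lc_c_rc_7_3 lc_c_rc_13_2 lc_c_rc_25_17 lc_c_rc_22_9 lc_c_rc_14_2 lc_c_rc_7_3 lc_c_rc_13_2 lc_c_rc_24_6 lc_c_rc_24_8 lc_c_rc_14_2 lc_c_rc_11_1 lc_c_rc_13_2 lc_c_rc_7_1 lc_c_rc_13_2 lc_c_rc_23_0 lc_c_rc_23_5 lc_c_rc_14_2 lc_c_rc_7_1 lc_c_rc_13_2 lc_c_rc_7_3 lc_c_Cert_tree lc_c_rc_14_2 lc_c_rc_11_1 lc_c_rc_13_2 lc_c_rc_11_1 lc_c_rc_13_2 lc_c_rc_23_0 lc_c_Cert_tree lc_c_rc_2_3 lc_c_Cert_tree lc_c_Cert_tree lc_c_rc_13_0 lc_c_rc_24_8 lc_c_rc_11_1) (@D3.rec (fun _ => (Cert rels S Gen.c)) lc_c_rc_13_2 lc_c_rc_22_5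 lc_c_rc_13_2 lc_c_rc_24_4 lc_c_rc_24_8 lc_c_rc_13_2 lc_c_rc_14_2 lc_c_rc_11_1 lc_c_rc_13_2 lc_c_rc_7_1 lc_c_rc_14_0 lc_c_rc_24_2 lc_c_rc_11_1 lc_c_rc_13_2 lc_c_rc_22_5 lc_c_rc_14_2 lc_c_rc_25_17 lc_c_rc_11_1 lc_c_rc_26_4 lc_c_rc_24_8 lc_c_Cert_tree lc_c_rc_7_3 lc_c_rc_24_2 lc_c_rc_2_3 lc_c_rc_14_0 lc_c_rc_7_5 lc_c_rc_24_6 lc_c_rc_7_5 lc_c_rc_11_1 lc_c_rc_2_3 lc_c_Cert_tree lc_c_rc_11_1 lc_c_rc_13_2 lc_c_rc_13_2 lc_c_rc_24_2 lc_c_rc_26_2 lc_c_rc_11_1 lc_c_rc_14_0 lc_c_rc_22_3 lc_c_rc_14_2 lc_c_rc_24_2 lc_c_rc_13_2 lc_c_rc_7_3 lc_c_rc_23_5 lc_c_rc_13_2 lc_c_rc_11_1 lc_c_rc_24_2 lc_c_rc_11_1 lc_c_rc_13_2 lc_c_rc_11_1 lc_c_Cert_tree lc_c_rc_13_2 lc_c_rc_11_1 lc_c_rc_13_2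 lc_c_rc_13_2 lc_c_Cert_tree lc_c_rc_13_2 lc_c_rc_7_3 lc_c_rc_22_7 lc_c_rc_14_2 lc_c_rc_2_1 lc_c_rc_24_8) (@D3.rec (fun _ => (Cert rels S Gen.c)) lc_c_rc_24_8 lc_c_rc_2_3 lc_c_rc_11_1 lc_c_rc_13_2 lc_c_rc_26_2 lc_c_rc_26_4 lc_c_rc_14_2 lc_c_rc_26_10 lc_c_rc_7_5 lc_c_rc_13_2 lc_c_rc_13_0 lc_c_rc_7_3 lc_c_rc_13_2 lc_c_rc_13_2 lc_c_rc_23_0 lc_c_rc_24_8 lc_c_rc_13_2 lc_c_rc_22_3 lc_c_rc_13_2 lc_c_rc_11_1 lc_c_rc_7_3 lc_c_Cert_tree lc_c_rc_13_2 lc_c_rc_2_3 lc_c_rc_13_2 lc_c_rc_11_1 lc_c_rc_13_0 lc_c_rc_13_2 lc_c_rc_14_2 lc_c_rc_26_2 lc_c_rc_13_2 lc_c_rc_11_1 lc_c_rc_13_2 lc_c_rc_13_2 lc_c_rc_13_0 lc_c_rc_13_2 lc_c_rc_11_1 lc_c_rc_14_2 lc_c_rc_13_2 lc_c_rc_24_2 lc_c_rc_11_1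 lc_c_rc_24_4 lc_c_rc_2_3 lc_c_Cert_tree lc_c_rc_7_3 lc_c_rc_13_2 lc_c_rc_13_2 lc_c_rc_24_2 lc_c_rc_23_0 lc_c_rc_11_1 lc_c_rc_13_2 lc_c_rc_7_1 lc_c_rc_14_2 lc_c_rc_7_1 lc_c_rc_13_2 lc_c_rc_22_3 lc_c_rc_2_3 lc_c_rc_14_2 lc_c_rc_2_3 lc_c_rc_11_1 lc_c_rc_13_0 lc_c_rc_13_2) (@D3.rec (fun _ => (Cert rels S Gen.c)) lc_c_rc_24_6 lc_c_rc_13_2 lc_c_rc_14_0 lc_c_rc_14_2 lc_c_rc_23_5 lc_c_rc_2_1 lc_c_rc_22_5 lc_c_rc_13_2 lc_c_rc_26_10 lc_c_rc_7_5 lc_c_rc_14_2 lc_c_rc_22_7 lc_c_rc_14_2 lc_c_rc_26_8 lc_c_rc_11_1 lc_c_rc_13_2 lc_c_rc_22_3 lc_c_rc_11_1 lc_c_rc_25_5 lc_c_rc_11_1 lc_c_rc_13_2 lc_c_rc_7_3 lc_c_rc_13_2 lc_c_rc_13_2 lc_c_rc_11_1 lc_c_rc_13_0 lc_c_rc_11_1 lc_c_rc_24_8 lc_c_rc_11_1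 lc_c_rc_13_2 lc_c_rc_22_5 lc_c_rc_13_2 lc_c_rc_14_2 lc_c_rc_13_2 lc_c_Cert_tree lc_c_rc_11_1 lc_c_rc_14_2 lc_c_rc_7_3 lc_c_rc_11_1 lc_c_rc_2_3 lc_c_Cert_tree lc_c_rc_14_2 lc_c_rc_11_1 lc_c_Cert_tree lc_c_rc_7_5 lc_c_Cert_tree lc_c_Cert_tree lc_c_rc_11_1 lc_c_rc_14_2 lc_c_rc_11_1 lc_c_rc_11_1 lc_c_rc_11_1 lc_c_rc_26_2 lc_c_rc_11_1 lc_c_rc_24_6 lc_c_rc_24_6 lc_c_Cert_tree lc_c_rc_2_3 lc_c_rc_11_1 lc_c_rc_23_0 lc_c_rc_11_1 lc_c_rc_13_2) (@D3.rec (fun _ => (Cert rels S Gen.c)) lc_c_rc_7_1 lc_c_Cert_tree lc_c_rc_13_2 lc_c_rc_11_1 lc_c_rc_11_1 lc_c_rc_23_0 lc_c_rc_7_3 lc_c_rc_11_1 lc_c_Cert_tree lc_c_rc_11_1 lc_c_rc_11_1 lc_c_Cert_tree lc_c_rc_11_1 lc_c_rc_11_1 lc_c_rc_13_2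 lc_c_rc_24_2 lc_c_rc_14_0 lc_c_rc_13_2 lc_c_rc_11_1 lc_c_rc_13_0 lc_c_rc_26_4 lc_c_rc_24_2 lc_c_rc_23_5 lc_c_rc_2_3 lc_c_rc_23_0 lc_c_rc_13_2 lc_c_rc_26_10 lc_c_rc_23_5 lc_c_rc_22_5 lc_c_rc_26_4 lc_c_rc_23_5 lc_c_rc_13_2 lc_c_rc_23_5 lc_c_rc_24_2 lc_c_rc_26_8 lc_c_rc_11_1 lc_c_rc_13_2 lc_c_rc_22_5 lc_c_rc_13_2 lc_c_rc_26_4 lc_c_rc_25_13 lc_c_rc_25_13 lc_c_rc_11_1 lc_c_rc_7_5 lc_c_rc_13_0 lc_c_rc_11_1 lc_c_rc_26_4 lc_c_rc_23_0 lc_c_rc_13_2 lc_c_rc_11_1 lc_c_rc_14_2 lc_c_rc_11_1 lc_c_rc_26_4 lc_c_rc_24_2 lc_c_rc_13_2 lc_c_rc_23_5 lc_c_rc_11_1 lc_c_rc_11_1 lc_c_Cert_tree lc_c_rc_13_0 lc_c_rc_11_1 lc_c_rc_24_2) (@D3.rec (fun _ => (Cert rels S Gen.c)) lc_c_rc_7_3 lc_c_rc_2_1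 lc_c_rc_13_2 lc_c_rc_13_2 lc_c_rc_13_2 lc_c_rc_24_2 lc_c_rc_2_3 lc_c_rc_11_1 lc_c_rc_13_0 lc_c_rc_23_5 lc_c_rc_24_2 lc_c_rc_7_3 lc_c_rc_13_2 lc_c_rc_23_5 lc_c_rc_26_4 lc_c_rc_2_3 lc_c_rc_26_4 lc_c_rc_11_1 lc_c_rc_11_1 lc_c_rc_11_1 lc_c_rc_14_2 lc_c_rc_24_4 lc_c_rc_14_2 lc_c_rc_13_2 lc_c_rc_14_2 lc_c_rc_26_4 lc_c_rc_13_2 lc_c_rc_13_2 lc_c_rc_26_10 lc_c_rc_11_1 lc_c_rc_11_1 lc_c_rc_22_3 lc_c_rc_7_3 lc_c_rc_22_3 lc_c_rc_14_2 lc_c_rc_12_14 lc_c_rc_26_2 lc_c_rc_7_3 lc_c_rc_7_5 lc_c_rc_2_1 lc_c_rc_7_5 lc_c_rc_11_1 lc_c_rc_23_5 lc_c_rc_13_2 lc_c_rc_23_5 lc_c_rc_13_2 lc_c_rc_26_4 lc_c_rc_13_2 lc_c_rc_11_1 lc_c_rc_13_2 lc_c_rc_22_3 lc_c_rc_11_1 lc_c_Cert_tree lc_c_rc_13_2 lc_c_rc_7_3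 lc_c_rc_22_9 lc_c_rc_14_2 lc_c_rc_13_2 lc_c_rc_22_3 lc_c_rc_14_2 lc_c_Cert_tree lc_c_rc_14_2) (@D3.rec (fun _ => (Cert rels S Gen.c)) lc_c_rc_11_1 lc_c_rc_13_2 lc_c_rc_24_8 lc_c_rc_13_2 lc_c_Cert_tree lc_c_rc_13_2 lc_c_rc_14_2 lc_c_rc_13_2 lc_c_rc_13_2 lc_c_rc_13_2 lc_c_rc_2_1 lc_c_rc_22_3 lc_c_rc_11_1 lc_c_rc_11_1 lc_c_rc_26_10 lc_c_rc_13_0 lc_c_rc_26_8 lc_c_rc_13_2 lc_c_rc_11_1 lc_c_rc_13_2 lc_c_rc_14_0 lc_c_rc_2_3 lc_c_rc_11_1 lc_c_rc_2_3 lc_c_rc_22_7 lc_c_rc_13_2 lc_c_rc_13_2 lc_c_rc_12_6 lc_c_rc_7_3 lc_c_rc_7_5 lc_c_rc_24_6 lc_c_rc_24_8 lc_c_rc_11_1 lc_c_rc_11_1 lc_c_Cert_tree lc_c_Cert_tree lc_c_rc_7_3 lc_c_rc_26_2 lc_c_rc_22_3 lc_c_rc_13_2 lc_c_rc_23_5 lc_c_rc_22_3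 lc_c_rc_11_1 lc_c_rc_25_17 lc_c_rc_11_1 lc_c_rc_24_4 lc_c_rc_11_1 lc_c_rc_7_3 lc_c_rc_11_1 lc_c_Cert_tree lc_c_rc_11_1 lc_c_rc_11_1 lc_c_rc_22_5 lc_c_rc_26_2 lc_c_rc_7_5 lc_c_rc_11_1 lc_c_rc_11_1 lc_c_rc_7_3 lc_c_rc_12_4 lc_c_rc_7_3 lc_c_rc_22_5 lc_c_rc_13_2) (@D3.rec (fun _ => (Cert rels S Gen.c)) lc_c_rc_11_1 lc_c_rc_14_0 lc_c_rc_11_1 lc_c_rc_11_1 lc_c_rc_11_1 lc_c_rc_2_3 lc_c_rc_7_1 lc_c_rc_13_0 lc_c_rc_22_9 lc_c_rc_11_1 lc_c_rc_13_2 lc_c_rc_11_1 lc_c_rc_26_10 lc_c_rc_2_3 lc_c_rc_13_2 lc_c_rc_13_2 lc_c_rc_13_2 lc_c_rc_26_2 lc_c_rc_26_10 lc_c_rc_13_0 lc_c_rc_13_0 lc_c_rc_13_2 lc_c_Cert_tree lc_c_rc_13_0 lc_c_rc_11_1 lc_c_Cert_tree lc_c_rc_13_2 lc_c_rc_13_0 lc_c_rc_11_1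 lc_c_Cert_tree lc_c_rc_13_2 lc_c_rc_7_5 lc_c_Cert_tree lc_c_rc_11_1 lc_c_rc_12_14 lc_c_Cert_tree lc_c_rc_24_6 lc_c_rc_11_1 lc_c_rc_13_2 lc_c_Cert_tree lc_c_rc_13_2 lc_c_Cert_tree lc_c_Cert_tree lc_c_rc_23_0 lc_c_rc_14_2 lc_c_rc_7_3 lc_c_rc_11_1 lc_c_rc_7_3 lc_c_rc_12_0 lc_c_rc_25_1 lc_c_rc_7_3 lc_c_Cert_tree lc_c_rc_26_4 lc_c_rc_11_1 lc_c_rc_14_2 lc_c_rc_11_1 lc_c_rc_24_8 lc_c_rc_11_1 lc_c_rc_11_1 lc_c_Cert_tree lc_c_rc_13_2 lc_c_rc_11_1) (@D3.rec (fun _ => (Cert rels S Gen.c)) lc_c_rc_26_2 lc_c_rc_7_1 lc_c_Cert_tree lc_c_rc_13_2 lc_c_Cert_tree lc_c_rc_24_4 lc_c_rc_24_4 lc_c_Cert_tree lc_c_rc_23_5 lc_c_rc_11_1 lc_c_rc_14_2 lc_c_rc_7_5 lc_c_rc_23_5 lc_c_rc_13_2 lc_c_Cert_tree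 lc_c_rc_11_1 lc_c_rc_14_2 lc_c_Cert_tree lc_c_rc_13_2 lc_c_rc_14_2 lc_c_rc_7_3 lc_c_rc_22_9 lc_c_rc_22_5 lc_c_rc_24_4 lc_c_rc_7_1 lc_c_rc_7_3 lc_c_rc_13_2 lc_c_rc_26_2 lc_c_rc_14_2 lc_c_Cert_tree lc_c_rc_13_0 lc_c_rc_7_3 lc_c_rc_22_5 lc_c_rc_13_2 lc_c_rc_14_2 lc_c_rc_11_1 lc_c_rc_7_3 lc_c_rc_24_6 lc_c_rc_24_4 lc_c_rc_14_2 lc_c_rc_14_2 lc_c_rc_24_4 lc_c_rc_11_1 lc_c_rc_14_2 lc_c_rc_11_1 lc_c_rc_14_2 lc_c_rc_22_9 lc_c_rc_13_2 lc_c_rc_13_2 lc_c_rc_23_0 lc_c_rc_22_3 lc_c_rc_11_1 lc_c_rc_7_5 lc_c_Cert_tree lc_c_rc_26_10 lc_c_rc_11_1 lc_c_rc_7_3 lc_c_rc_22_9 lc_c_rc_13_0 lc_c_rc_22_5 lc_c_rc_11_1 lc_c_rc_24_6) (@D3.rec (fun _ => (Cert rels S Gen.c)) lc_c_rc_2_3 lc_c_rc_23_0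 lc_c_Cert_tree lc_c_rc_11_1 lc_c_rc_2_3 lc_c_Cert_tree lc_c_rc_26_2 lc_c_rc_13_2 lc_c_rc_11_1 lc_c_rc_2_3 lc_c_rc_7_3 lc_c_rc_7_3 lc_c_rc_13_2 lc_c_rc_26_10 lc_c_rc_11_1 lc_c_rc_7_1 lc_c_Cert_tree lc_c_rc_13_2 lc_c_rc_13_2 lc_c_rc_26_4 lc_c_Cert_tree lc_c_rc_7_5 lc_c_Cert_tree lc_c_rc_13_2 lc_c_rc_22_3 lc_c_rc_22_5 lc_c_rc_13_2 lc_c_rc_13_0 lc_c_rc_13_2 lc_c_Cert_tree lc_c_Cert_tree lc_c_rc_14_2 lc_c_rc_2_3 lc_c_rc_2_3 lc_c_rc_25_5 lc_c_rc_11_1 lc_c_rc_23_5 lc_c_rc_13_0 lc_c_rc_2_1 lc_c_rc_26_10 lc_c_rc_7_5 lc_c_rc_11_1 lc_c_rc_26_4 lc_c_rc_7_3 lc_c_rc_11_1 lc_c_rc_11_1 lc_c_Cert_tree lc_c_rc_11_1 lc_c_rc_13_2 lc_c_rc_7_1 lc_c_Cert_tree lc_c_rc_13_2 lc_c_rc_26_10 lc_c_rc_14_0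 lc_c_rc_12_2 lc_c_rc_2_3 lc_c_rc_2_3 lc_c_rc_7_3 lc_c_rc_13_2 lc_c_rc_7_3 lc_c_rc_2_3 lc_c_rc_11_1) (@D3.rec (fun _ => (Cert rels S Gen.c)) lc_c_rc_2_3 lc_c_Cert_tree lc_c_rc_13_2 lc_c_rc_11_1 lc_c_rc_11_1 lc_c_rc_11_1 lc_c_rc_7_5 lc_c_rc_14_0 lc_c_Cert_tree lc_c_rc_24_4 lc_c_Cert_tree lc_c_rc_11_1 lc_c_rc_7_1 lc_c_rc_13_2 lc_c_rc_13_2 lc_c_rc_11_1 lc_c_rc_26_2 lc_c_rc_26_4 lc_c_Cert_tree lc_c_rc_26_2 lc_c_rc_11_1 lc_c_Cert_tree lc_c_rc_11_1 lc_c_rc_7_5 lc_c_rc_11_1 lc_c_rc_11_1 lc_c_rc_2_1 lc_c_rc_13_2 lc_c_rc_13_0 lc_c_rc_11_1 lc_c_rc_13_2 lc_c_rc_7_3 lc_c_rc_2_1 lc_c_rc_14_2 lc_c_rc_13_2 lc_c_rc_11_1 lc_c_rc_11_1 lc_c_rc_26_8 lc_c_rc_26_2 lc_c_rc_13_2 lc_c_rc_13_2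 lc_c_Cert_tree lc_c_rc_23_5 lc_c_rc_13_0 lc_c_rc_13_2 lc_c_rc_13_2 lc_c_rc_26_8 lc_c_rc_24_2 lc_c_rc_26_10 lc_c_Cert_tree lc_c_rc_2_1 lc_c_rc_11_1 lc_c_rc_23_5 lc_c_Cert_tree lc_c_rc_26_2 lc_c_rc_2_3 lc_c_Cert_tree lc_c_rc_11_1 lc_c_rc_26_4 lc_c_rc_11_1 lc_c_rc_11_1 lc_c_rc_13_2) (@D3.rec (fun _ => (Cert rels S Gen.c)) lc_c_Cert_tree lc_c_rc_11_1 lc_c_rc_14_0 lc_c_rc_7_5 lc_c_rc_13_0 lc_c_rc_11_1 lc_c_rc_26_4 lc_c_rc_11_1 lc_c_rc_13_2 lc_c_Cert_tree lc_c_rc_2_3 lc_c_rc_13_2 lc_c_rc_11_1 lc_c_rc_7_5 lc_c_rc_14_2 lc_c_rc_22_3 lc_c_rc_7_1 lc_c_rc_13_0 lc_c_rc_14_2 lc_c_rc_26_2 lc_c_rc_13_2 lc_c_Cert_tree lc_c_Cert_tree lc_c_Cert_tree lc_c_rc_11_1 lc_c_rc_14_2 lc_c_rc_25_5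 lc_c_rc_11_1 lc_c_rc_26_8 lc_c_rc_26_2 lc_c_rc_11_1 lc_c_rc_22_9 lc_c_rc_2_3 lc_c_rc_11_1 lc_c_rc_7_3 lc_c_rc_11_1 lc_c_rc_11_1 lc_c_rc_26_4 lc_c_Cert_tree lc_c_rc_11_1 lc_c_rc_25_5 lc_c_rc_26_2 lc_c_rc_22_5 lc_c_rc_7_3 lc_c_rc_22_7 lc_c_rc_13_2 lc_c_rc_23_0 lc_c_rc_7_3 lc_c_rc_23_5 lc_c_rc_11_1 lc_c_rc_22_5 lc_c_rc_24_4 lc_c_rc_2_3 lc_c_rc_23_5 lc_c_rc_14_2 lc_c_rc_11_1 lc_c_rc_13_2 lc_c_rc_2_3 lc_c_rc_26_10 lc_c_rc_13_2 lc_c_rc_14_0 lc_c_rc_22_3) (@D3.rec (fun _ => (Cert rels S Gen.c)) lc_c_rc_11_1 lc_c_rc_26_8 lc_c_rc_24_2 lc_c_rc_13_2 lc_c_rc_13_0 lc_c_rc_11_1 lc_c_rc_2_3 lc_c_rc_13_2 lc_c_rc_11_1 lc_c_rc_23_5 lc_c_rc_11_1 lc_c_rc_26_10 lc_c_rc_22_9 lc_c_rc_13_0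 lc_c_rc_7_5 lc_c_rc_7_3 lc_c_rc_7_5 lc_c_rc_11_1 lc_c_rc_22_5 lc_c_rc_26_10 lc_c_rc_11_1 lc_c_rc_2_3 lc_c_Cert_tree lc_c_rc_11_1 lc_c_rc_13_2 lc_c_rc_11_1 lc_c_rc_11_1 lc_c_rc_11_1 lc_c_rc_2_3 lc_c_rc_7_3 lc_c_rc_7_3 lc_c_rc_26_4 lc_c_rc_11_1 lc_c_rc_7_5 lc_c_rc_7_5 lc_c_rc_2_3 lc_c_rc_2_3 lc_c_rc_11_1 lc_c_rc_26_4 lc_c_rc_11_1 lc_c_rc_13_0 lc_c_rc_24_2 lc_c_rc_11_1 lc_c_rc_13_0 lc_c_rc_23_5 lc_c_rc_11_1 lc_c_rc_25_1 lc_c_rc_11_1 lc_c_rc_12_2 lc_c_rc_24_2 lc_c_rc_23_5 lc_c_rc_11_1 lc_c_rc_7_3 lc_c_rc_22_7 lc_c_rc_11_1 lc_c_rc_12_2 lc_c_rc_11_1 lc_c_rc_22_7 lc_c_rc_11_1 lc_c_rc_2_3 lc_c_rc_14_2 lc_c_rc_13_2) (@D3.rec (fun _ => (Cert rels S Gen.c)) lc_c_rc_11_1 lc_c_rc_22_7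 lc_c_rc_7_3 lc_c_rc_7_3 lc_c_rc_26_4 lc_c_rc_11_1 lc_c_rc_26_10 lc_c_rc_23_0 lc_c_rc_11_1 lc_c_rc_26_8 lc_c_rc_26_4 lc_c_rc_2_3 lc_c_rc_7_5 lc_c_rc_25_5 lc_c_rc_23_0 lc_c_rc_26_10 lc_c_rc_24_4 lc_c_rc_7_3 lc_c_rc_13_0 lc_c_rc_2_3 lc_c_rc_7_5 lc_c_rc_23_0 lc_c_rc_11_1 lc_c_rc_11_1 lc_c_rc_13_0 lc_c_rc_25_1 lc_c_rc_2_3 lc_c_rc_7_1 lc_c_rc_22_7 lc_c_rc_26_4 lc_c_rc_11_1 lc_c_rc_13_0 lc_c_Cert_tree lc_c_rc_11_1 lc_c_rc_11_1 lc_c_Cert_tree lc_c_rc_11_1 lc_c_rc_2_1 lc_c_rc_7_5 lc_c_Cert_tree lc_c_rc_13_0 lc_c_rc_11_1 lc_c_rc_22_5 lc_c_rc_26_4 lc_c_rc_26_8 lc_c_rc_11_1 lc_c_rc_7_5 lc_c_rc_11_1 lc_c_rc_26_2 lc_c_rc_12_0 lc_c_rc_12_0 lc_c_rc_7_3 lc_c_rc_26_4 lc_c_rc_13_2 lc_c_rc_24_2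 lc_c_rc_11_1 lc_c_rc_24_4 lc_c_rc_26_10 lc_c_rc_11_1 lc_c_rc_26_2 lc_c_rc_11_1 lc_c_rc_11_1) (@D3.rec (fun _ => (Cert rels S Gen.c)) lc_c_rc_26_4 lc_c_rc_11_1 lc_c_rc_13_2 lc_c_rc_26_8 lc_c_rc_11_1 lc_c_rc_24_6 lc_c_rc_11_1 lc_c_rc_7_3 lc_c_rc_22_5 lc_c_rc_13_2 lc_c_rc_11_1 lc_c_Cert_tree lc_c_rc_26_4 lc_c_Cert_tree lc_c_rc_11_1 lc_c_rc_13_2 lc_c_rc_26_8 lc_c_rc_24_4 lc_c_Cert_tree lc_c_rc_11_1 lc_c_rc_2_3 lc_c_Cert_tree lc_c_rc_13_2 lc_c_rc_2_1 lc_c_rc_11_1 lc_c_rc_2_3 lc_c_rc_22_5 lc_c_rc_13_2 lc_c_rc_23_5 lc_c_Cert_tree lc_c_rc_11_1 lc_c_rc_11_1 lc_c_rc_13_2 lc_c_rc_26_4 lc_c_rc_26_8 lc_c_rc_23_0 lc_c_rc_13_2 lc_c_Cert_tree lc_c_rc_11_1 lc_c_rc_22_5 lc_c_rc_7_3 lc_c_rc_13_2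 lc_c_Cert_tree lc_c_Cert_tree lc_c_rc_14_2 lc_c_rc_13_2 lc_c_rc_11_1 lc_c_rc_11_1 lc_c_rc_24_2 lc_c_rc_25_9 lc_c_rc_13_2 lc_c_rc_11_1 lc_c_rc_23_5 lc_c_rc_22_3 lc_c_rc_26_8 lc_c_rc_13_0 lc_c_rc_26_4 lc_c_rc_11_1 lc_c_rc_26_8 lc_c_rc_11_1 lc_c_rc_23_0 lc_c_rc_14_2) (@D3.rec (fun _ => (Cert rels S Gen.c)) lc_c_rc_13_2 lc_c_rc_13_2 lc_c_rc_13_2 lc_c_rc_24_4 lc_c_rc_7_3 lc_c_rc_13_2 lc_c_Cert_tree lc_c_rc_11_1 lc_c_rc_2_3 lc_c_rc_11_1 lc_c_rc_13_2 lc_c_rc_2_3 lc_c_rc_2_3 lc_c_Cert_tree lc_c_rc_13_2 lc_c_rc_7_1 lc_c_rc_13_2 lc_c_rc_11_1 lc_c_rc_13_2 lc_c_rc_7_5 lc_c_rc_7_5 lc_c_rc_14_2 lc_c_rc_13_2 lc_c_rc_22_3 lc_c_rc_7_5 lc_c_Cert_tree lc_c_rc_11_1 lc_c_rc_26_4 lc_c_Cert_tree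 lc_c_rc_13_2 lc_c_rc_11_1 lc_c_rc_13_2 lc_c_rc_24_6 lc_c_rc_24_4 lc_c_Cert_tree lc_c_rc_14_2 lc_c_rc_7_5 lc_c_rc_11_1 lc_c_rc_7_1 lc_c_rc_22_5 lc_c_rc_13_2 lc_c_rc_23_0 lc_c_rc_7_5 lc_c_rc_2_3 lc_c_rc_11_1 lc_c_rc_26_4 lc_c_rc_11_1 lc_c_rc_23_5 lc_c_rc_26_4 lc_c_rc_13_2 lc_c_rc_22_5 lc_c_rc_2_3 lc_c_rc_11_1 lc_c_rc_26_4 lc_c_rc_11_1 lc_c_rc_24_4 lc_c_rc_26_10 lc_c_rc_23_0 lc_c_rc_11_1 lc_c_rc_14_0 lc_c_rc_11_1 lc_c_rc_11_1) (@D3.rec (fun _ => (Cert rels S Gen.c)) lc_c_rc_12_2 lc_c_rc_26_4 lc_c_rc_13_0 lc_c_rc_13_2 lc_c_rc_14_2 lc_c_rc_13_2 lc_c_rc_14_0 lc_c_rc_11_1 lc_c_rc_7_5 lc_c_rc_14_2 lc_c_rc_7_5 lc_c_rc_22_9 lc_c_Cert_tree lc_c_rc_7_3 lc_c_rc_23_5 lc_c_rc_11_1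 lc_c_rc_11_1 lc_c_rc_11_1 lc_c_rc_11_1 lc_c_Cert_tree lc_c_rc_7_5 lc_c_rc_13_2 lc_c_rc_11_1 lc_c_rc_23_0 lc_c_rc_26_2 lc_c_rc_11_1 lc_c_rc_26_10 lc_c_rc_26_10 lc_c_rc_7_5 lc_c_rc_14_2 lc_c_rc_13_2 lc_c_rc_13_2 lc_c_rc_22_5 lc_c_rc_23_5 lc_c_rc_23_0 lc_c_rc_24_6 lc_c_rc_11_1 lc_c_rc_2_3 lc_c_rc_13_2 lc_c_rc_26_8 lc_c_rc_26_2 lc_c_rc_26_8 lc_c_rc_7_5 lc_c_rc_13_2 lc_c_rc_26_10 lc_c_rc_26_2 lc_c_rc_11_1 lc_c_rc_11_1 lc_c_rc_22_7 lc_c_rc_26_4 lc_c_rc_11_1 lc_c_rc_13_2 lc_c_rc_24_4 lc_c_rc_7_5 lc_c_rc_13_2 lc_c_rc_26_4 lc_c_rc_11_1 lc_c_rc_26_4 lc_c_rc_11_1 lc_c_rc_26_10 lc_c_rc_2_3 lc_c_Cert_tree) (@D3.rec (fun _ => (Cert rels S Gen.c)) lc_c_rc_25_5 lc_c_Cert_tree lc_c_Cert_tree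 lc_c_rc_2_3 lc_c_rc_2_3 lc_c_rc_13_2 lc_c_rc_26_10 lc_c_rc_11_1 lc_c_rc_11_1 lc_c_rc_7_3 lc_c_rc_2_3 lc_c_rc_2_3 lc_c_rc_11_1 lc_c_Cert_tree lc_c_rc_13_2 lc_c_rc_11_1 lc_c_rc_22_5 lc_c_rc_26_10 lc_c_rc_11_1 lc_c_rc_24_4 lc_c_rc_22_9 lc_c_rc_13_2 lc_c_rc_11_1 lc_c_rc_24_2 lc_c_rc_14_2 lc_c_rc_11_1 lc_c_rc_23_5 lc_c_rc_7_3 lc_c_rc_11_1 lc_c_rc_13_2 lc_c_rc_13_2 lc_c_rc_7_1 lc_c_rc_11_1 lc_c_rc_13_2 lc_c_rc_2_3 lc_c_rc_26_4 lc_c_rc_11_1 lc_c_rc_13_2 lc_c_rc_7_3 lc_c_rc_11_1 lc_c_rc_13_2 lc_c_rc_2_3 lc_c_rc_26_2 lc_c_Cert_tree lc_c_rc_11_1 lc_c_rc_7_3 lc_c_rc_24_2 lc_c_Cert_tree lc_c_rc_11_1 lc_c_Cert_tree lc_c_rc_11_1 lc_c_rc_11_1 lc_c_rc_23_0 lc_c_rc_13_2 lc_c_rc_11_1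 lc_c_rc_13_0 lc_c_rc_13_2 lc_c_rc_23_5 lc_c_rc_13_2 lc_c_rc_11_1 lc_c_rc_13_2 lc_c_rc_24_6) (@D3.rec (fun _ => (Cert rels S Gen.c)) lc_c_rc_11_1 lc_c_rc_12_14 lc_c_rc_24_4 lc_c_Cert_tree lc_c_rc_14_2 lc_c_rc_11_1 lc_c_Cert_tree lc_c_rc_25_17 lc_c_Cert_tree lc_c_Cert_tree lc_c_Cert_tree lc_c_rc_11_1 lc_c_rc_14_2 lc_c_rc_13_2 lc_c_Cert_tree lc_c_rc_11_1 lc_c_rc_22_3 lc_c_rc_13_2 lc_c_rc_11_1 lc_c_rc_11_1 lc_c_rc_22_5 lc_c_rc_11_1 lc_c_rc_13_2 lc_c_rc_7_1 lc_c_rc_11_1 lc_c_rc_13_2 lc_c_rc_23_5 lc_c_rc_26_2 lc_c_rc_11_1 lc_c_rc_11_1 lc_c_rc_7_3 lc_c_rc_11_1 lc_c_rc_23_5 lc_c_rc_7_1 lc_c_rc_13_0 lc_c_rc_11_1 lc_c_rc_26_10 lc_c_rc_11_1 lc_c_rc_23_0 lc_c_rc_23_0 lc_c_rc_11_1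 lc_c_rc_26_2 lc_c_rc_11_1 lc_c_rc_22_3 lc_c_rc_22_3 lc_c_rc_26_2 lc_c_rc_11_1 lc_c_rc_23_0 lc_c_rc_13_2 lc_c_rc_13_0 lc_c_rc_13_2 lc_c_rc_11_1 lc_c_rc_11_1 lc_c_rc_22_7 lc_c_rc_14_2 lc_c_rc_23_5 lc_c_rc_26_2 lc_c_rc_13_2 lc_c_rc_23_5 lc_c_rc_24_4 lc_c_rc_24_4 lc_c_rc_11_1) (@D3.rec (fun _ => (Cert rels S Gen.c)) lc_c_rc_7_5 lc_c_rc_11_1 lc_c_rc_24_4 lc_c_rc_11_1 lc_c_rc_13_2 lc_c_rc_11_1 lc_c_rc_14_0 lc_c_rc_24_8 lc_c_Cert_tree lc_c_rc_24_4 lc_c_rc_11_1 lc_c_rc_2_3 lc_c_rc_11_1 lc_c_rc_14_0 lc_c_rc_24_8 lc_c_rc_23_0 lc_c_rc_7_3 lc_c_rc_12_8 lc_c_rc_13_2 lc_c_rc_13_2 lc_c_rc_24_4 lc_c_rc_11_1 lc_c_rc_13_2 lc_c_rc_23_5 lc_c_Cert_tree lc_c_rc_26_4 lc_c_rc_23_5 lc_c_rc_7_3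 lc_c_rc_11_1 lc_c_Cert_tree lc_c_rc_11_1 lc_c_rc_13_2 lc_c_rc_7_3 lc_c_rc_23_5 lc_c_rc_13_2 lc_c_rc_11_1 lc_c_rc_2_3 lc_c_rc_23_5 lc_c_rc_13_2 lc_c_rc_11_1 lc_c_rc_23_5 lc_c_rc_13_2 lc_c_rc_11_1 lc_c_rc_11_1 lc_c_rc_11_1 lc_c_rc_2_1 lc_c_rc_14_2 lc_c_rc_11_1 lc_c_rc_12_2 lc_c_rc_2_3 lc_c_rc_13_2 lc_c_rc_11_1 lc_c_rc_13_2 lc_c_Cert_tree lc_c_rc_14_2 lc_c_rc_11_1 lc_c_Cert_tree lc_c_Cert_tree lc_c_rc_11_1 lc_c_rc_14_2 lc_c_rc_13_2 lc_c_rc_13_2) (@D3.rec (fun _ => (Cert rels S Gen.c)) lc_c_rc_13_2 lc_c_rc_14_2 lc_c_rc_24_6 lc_c_rc_14_2 lc_c_rc_13_2 lc_c_rc_11_1 lc_c_rc_7_5 lc_c_rc_7_3 lc_c_rc_26_4 lc_c_rc_13_2 lc_c_rc_13_2 lc_c_rc_13_2 lc_c_rc_2_3 lc_c_rc_13_0 lc_c_rc_2_3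 lc_c_rc_13_2 lc_c_rc_26_2 lc_c_rc_13_0 lc_c_Cert_tree lc_c_rc_13_2 lc_c_rc_11_1 lc_c_rc_7_5 lc_c_rc_7_3 lc_c_rc_24_8 lc_c_rc_2_3 lc_c_rc_13_2 lc_c_rc_14_0 lc_c_rc_23_0 lc_c_rc_24_2 lc_c_rc_11_1 lc_c_rc_24_8 lc_c_rc_22_9 lc_c_rc_11_1 lc_c_rc_11_1 lc_c_rc_11_1 lc_c_rc_7_1 lc_c_rc_22_9 lc_c_rc_14_2 lc_c_rc_26_4 lc_c_rc_2_1 lc_c_rc_7_5 lc_c_rc_13_2 lc_c_rc_26_8 lc_c_rc_13_2 lc_c_rc_11_1 lc_c_Cert_tree lc_c_rc_13_2 lc_c_rc_2_3 lc_c_rc_2_1 lc_c_rc_14_2 lc_c_rc_26_2 lc_c_rc_13_2 lc_c_rc_7_3 lc_c_rc_7_5 lc_c_rc_26_4 lc_c_rc_13_2 lc_c_rc_14_0 lc_c_rc_11_1 lc_c_rc_7_1 lc_c_rc_22_9 lc_c_rc_22_9 lc_c_rc_23_5) (@D3.rec (fun _ => (Cert rels S Gen.c)) lc_c_rc_24_6 lc_c_rc_2_3 lc_c_Cert_tree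 lc_c_rc_22_9 lc_c_rc_11_1 lc_c_rc_26_2 lc_c_rc_11_1 lc_c_rc_11_1 lc_c_rc_7_3 lc_c_rc_11_1 lc_c_rc_2_3 lc_c_rc_7_5 lc_c_rc_11_1 lc_c_rc_2_3 lc_c_rc_11_1 lc_c_rc_13_2 lc_c_rc_7_3 lc_c_rc_11_1 lc_c_rc_26_2 lc_c_rc_24_6 lc_c_rc_2_3 lc_c_rc_26_4 lc_c_rc_11_1 lc_c_rc_24_8 lc_c_rc_11_1 lc_c_rc_2_3 lc_c_rc_26_4 lc_c_rc_11_1 lc_c_rc_13_2 lc_c_Cert_tree lc_c_rc_11_1 lc_c_rc_11_1 lc_c_rc_11_1 lc_c_Cert_tree lc_c_rc_26_8 lc_c_rc_2_1 lc_c_rc_26_4 lc_c_rc_13_2 lc_c_rc_13_2 lc_c_rc_24_8 lc_c_rc_2_3 lc_c_rc_26_2 lc_c_rc_12_2 lc_c_rc_13_2 lc_c_rc_23_0 lc_c_rc_11_1 lc_c_rc_11_1 lc_c_rc_11_1 lc_c_rc_24_2 lc_c_rc_22_5 lc_c_rc_11_1 lc_c_rc_12_2 lc_c_rc_7_3 lc_c_rc_7_5 lc_c_rc_24_4 lc_c_rc_11_1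 lc_c_rc_2_3 lc_c_rc_11_1 lc_c_rc_24_2 lc_c_rc_23_5 lc_c_Cert_tree lc_c_rc_11_1) (@D3.rec (fun _ => (Cert rels S Gen.c)) lc_c_rc_7_5 lc_c_rc_2_3 lc_c_Cert_tree lc_c_rc_24_6 lc_c_rc_11_1 lc_c_rc_2_3 lc_c_rc_7_5 lc_c_rc_23_5 lc_c_Cert_tree lc_c_Cert_tree lc_c_rc_11_1 lc_c_rc_24_8 lc_c_rc_11_1 lc_c_rc_11_1 lc_c_rc_26_4 lc_c_rc_11_1 lc_c_rc_12_0 lc_c_rc_26_4 lc_c_rc_11_1 lc_c_rc_25_9 lc_c_rc_11_1 lc_c_rc_7_3 lc_c_rc_22_5 lc_c_rc_25_13 lc_c_rc_13_2 lc_c_rc_7_3 lc_c_rc_22_5 lc_c_Cert_tree lc_c_Cert_tree lc_c_rc_11_1 lc_c_rc_11_1 lc_c_rc_12_2 lc_c_rc_13_2 lc_c_rc_25_1 lc_c_rc_7_3 lc_c_rc_13_2 lc_c_rc_11_1 lc_c_rc_11_1 lc_c_Cert_tree lc_c_rc_23_0 lc_c_rc_11_1 lc_c_rc_7_3 lc_c_rc_13_0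 lc_c_rc_13_2 lc_c_rc_26_4 lc_c_rc_11_1 lc_c_rc_23_0 lc_c_rc_22_3 lc_c_rc_13_2 lc_c_rc_22_5 lc_c_rc_2_3 lc_c_rc_26_10 lc_c_rc_13_2 lc_c_rc_13_2 lc_c_rc_7_3 lc_c_rc_11_1 lc_c_rc_7_3 lc_c_rc_11_1 lc_c_rc_14_0 lc_c_rc_13_2 lc_c_rc_26_4 lc_c_rc_11_1) (@D3.rec (fun _ => (Cert rels S Gen.c)) lc_c_rc_23_5 lc_c_rc_11_1 lc_c_rc_7_5 lc_c_Cert_tree lc_c_rc_26_8 lc_c_rc_11_1 lc_c_rc_23_5 lc_c_rc_13_2 lc_c_rc_11_1 lc_c_Cert_tree lc_c_rc_14_2 lc_c_rc_13_0 lc_c_rc_26_4 lc_c_rc_14_2 lc_c_rc_11_1 lc_c_rc_7_5 lc_c_rc_26_4 lc_c_rc_26_4 lc_c_rc_7_1 lc_c_rc_13_2 lc_c_rc_24_4 lc_c_rc_2_3 lc_c_rc_13_0 lc_c_rc_13_2 lc_c_rc_26_2 lc_c_rc_11_1 lc_c_rc_11_1 lc_c_rc_13_2 lc_c_rc_13_2 lc_c_rc_11_1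 lc_c_rc_14_2 lc_c_rc_11_1 lc_c_rc_26_4 lc_c_rc_11_1 lc_c_rc_24_6 lc_c_rc_23_0 lc_c_rc_14_2 lc_c_rc_2_3 lc_c_Cert_tree lc_c_rc_2_3 lc_c_rc_13_2 lc_c_rc_23_0 lc_c_rc_26_10 lc_c_rc_11_1 lc_c_rc_14_2 lc_c_rc_26_10 lc_c_rc_11_1 lc_c_rc_2_3 lc_c_rc_2_3 lc_c_rc_11_1 lc_c_rc_26_10 lc_c_rc_11_1 lc_c_rc_11_1 lc_c_rc_12_0 lc_c_rc_7_5 lc_c_Cert_tree lc_c_rc_13_2 lc_c_rc_24_6 lc_c_rc_11_1 lc_c_rc_13_2 lc_c_rc_24_8 lc_c_rc_24_2) (@D3.rec (fun _ => (Cert rels S Gen.c)) lc_c_rc_12_2 lc_c_rc_7_3 lc_c_Cert_tree lc_c_rc_14_2 lc_c_rc_26_4 lc_c_rc_11_1 lc_c_rc_23_5 lc_c_rc_13_2 lc_c_rc_22_5 lc_c_rc_7_5 lc_c_rc_24_6 lc_c_rc_26_4 lc_c_Cert_tree lc_c_rc_13_0 lc_c_rc_26_8 lc_c_rc_26_10 lc_c_rc_11_1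 lc_c_rc_2_3 lc_c_Cert_tree lc_c_rc_13_2 lc_c_rc_24_6 lc_c_rc_11_1 lc_c_rc_2_3 lc_c_rc_22_7 lc_c_rc_13_2 lc_c_rc_23_5 lc_c_rc_13_2 lc_c_Cert_tree lc_c_rc_11_1 lc_c_rc_11_1 lc_c_rc_13_2 lc_c_rc_26_4 lc_c_Cert_tree lc_c_rc_11_1 lc_c_rc_7_5 lc_c_Cert_tree lc_c_rc_22_3 lc_c_rc_11_1 lc_c_rc_2_3 lc_c_Cert_tree lc_c_rc_25_1 lc_c_rc_14_2 lc_c_rc_7_1 lc_c_rc_22_5 lc_c_rc_23_5 lc_c_rc_13_2 lc_c_rc_7_1 lc_c_rc_23_5 lc_c_rc_13_2 lc_c_rc_12_0 lc_c_rc_7_5 lc_c_rc_22_7 lc_c_rc_13_2 lc_c_rc_11_1 lc_c_rc_24_6 lc_c_rc_24_4 lc_c_rc_24_2 lc_c_rc_13_2 lc_c_rc_11_1 lc_c_rc_7_1 lc_c_rc_24_4 lc_c_rc_13_2) (@D3.rec (fun _ => (Cert rels S Gen.c)) lc_c_rc_13_2 lc_c_rc_23_0 lc_c_rc_2_1 lc_c_rc_11_1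 lc_c_rc_13_2 lc_c_rc_13_2 lc_c_rc_23_0 lc_c_rc_13_0 lc_c_rc_26_8 lc_c_Cert_tree lc_c_rc_13_2 lc_c_rc_11_1 lc_c_rc_13_0 lc_c_rc_11_1 lc_c_rc_13_2 lc_c_rc_24_2 lc_c_rc_24_2 lc_c_rc_11_1 lc_c_Cert_tree lc_c_rc_2_1 lc_c_rc_7_5 lc_c_Cert_tree lc_c_rc_11_1 lc_c_rc_26_10 lc_c_rc_14_2 lc_c_rc_2_1 lc_c_rc_11_1 lc_c_rc_13_2 lc_c_rc_14_2 lc_c_rc_24_4 lc_c_rc_23_0 lc_c_rc_14_2 lc_c_rc_11_1 lc_c_rc_26_10 lc_c_rc_26_2 lc_c_rc_23_0 lc_c_rc_7_5 lc_c_rc_24_4 lc_c_rc_23_0 lc_c_rc_11_1 lc_c_rc_13_2 lc_c_rc_11_1 lc_c_rc_14_2 lc_c_rc_13_0 lc_c_rc_22_3 lc_c_rc_26_10 lc_c_rc_2_1 lc_c_rc_13_2 lc_c_rc_14_0 lc_c_rc_7_5 lc_c_rc_7_3 lc_c_rc_13_2 lc_c_rc_2_3 lc_c_rc_13_2 lc_c_rc_13_0 lc_c_rc_26_8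 lc_c_rc_23_5 lc_c_rc_11_1 lc_c_rc_11_1 lc_c_rc_22_3 lc_c_rc_11_1 lc_c_rc_11_1) (@D3.rec (fun _ => (Cert rels S Gen.c)) lc_c_rc_24_8 lc_c_rc_24_8 lc_c_rc_24_6 lc_c_rc_24_4 lc_c_rc_22_5 lc_c_rc_14_2 lc_c_rc_7_1 lc_c_rc_7_3 lc_c_rc_7_3 lc_c_rc_14_0 lc_c_rc_13_2 lc_c_Cert_tree lc_c_rc_11_1 lc_c_rc_14_2 lc_c_rc_26_10 lc_c_rc_13_0 lc_c_rc_26_2 lc_c_rc_11_1 lc_c_rc_13_2 lc_c_rc_26_2 lc_c_rc_11_1 lc_c_rc_24_6 lc_c_rc_13_2 lc_c_rc_24_6 lc_c_rc_11_1 lc_c_rc_13_2 lc_c_rc_13_0 lc_c_rc_11_1 lc_c_rc_24_2 lc_c_rc_23_0 lc_c_rc_24_2 lc_c_rc_11_1 lc_c_rc_11_1 lc_c_rc_23_0 lc_c_rc_11_1 lc_c_rc_22_7 lc_c_rc_13_2 lc_c_rc_11_1 lc_c_rc_11_1 lc_c_rc_11_1 lc_c_rc_14_2 lc_c_rc_11_1 lc_c_rc_13_2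 lc_c_rc_26_10 lc_c_rc_11_1 lc_c_rc_22_7 lc_c_rc_26_10 lc_c_rc_22_3 lc_c_rc_26_2 lc_c_rc_11_1 lc_c_rc_11_1 lc_c_Cert_tree lc_c_rc_11_1 lc_c_rc_2_1 lc_c_rc_24_8 lc_c_rc_11_1 lc_c_rc_12_0 lc_c_rc_22_9 lc_c_rc_11_1 lc_c_rc_22_3 lc_c_rc_23_0 lc_c_rc_2_3) (@D3.rec (fun _ => (Cert rels S Gen.c)) lc_c_rc_22_9 lc_c_rc_22_3 lc_c_rc_11_1 lc_c_rc_11_1 lc_c_rc_2_3 lc_c_Cert_tree lc_c_rc_11_1 lc_c_rc_7_5 lc_c_rc_26_4 lc_c_rc_13_2 lc_c_rc_26_10 lc_c_rc_2_3 lc_c_rc_23_0 lc_c_rc_13_2 lc_c_rc_22_5 lc_c_rc_13_2 lc_c_rc_11_1 lc_c_rc_13_2 lc_c_rc_14_2 lc_c_rc_13_2 lc_c_Cert_tree lc_c_rc_11_1 lc_c_rc_13_2 lc_c_rc_11_1 lc_c_rc_13_0 lc_c_rc_2_3 lc_c_rc_13_2 lc_c_rc_13_2 lc_c_rc_26_4 lc_c_rc_7_1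 lc_c_rc_24_8 lc_c_rc_22_5 lc_c_rc_25_5 lc_c_rc_2_3 lc_c_rc_13_2 lc_c_rc_13_2 lc_c_rc_13_2 lc_c_rc_13_2 lc_c_rc_13_0 lc_c_rc_7_3 lc_c_rc_26_4 lc_c_rc_13_2 lc_c_rc_7_5 lc_c_rc_13_2 lc_c_rc_24_2 lc_c_rc_14_0 lc_c_rc_13_2 lc_c_rc_13_2 lc_c_rc_13_2 lc_c_rc_11_1 lc_c_rc_7_5 lc_c_rc_2_3 lc_c_rc_26_4 lc_c_rc_26_4 lc_c_rc_24_4 lc_c_rc_22_3 lc_c_rc_13_2 lc_c_rc_7_3 lc_c_rc_22_7 lc_c_rc_13_2 lc_c_rc_23_5 lc_c_rc_22_7) (@D3.rec (fun _ => (Cert rels S Gen.c)) lc_c_rc_11_1 lc_c_rc_23_0 lc_c_rc_23_5 lc_c_rc_2_3 lc_c_rc_13_2 lc_c_rc_2_3 lc_c_rc_11_1 lc_c_rc_26_4 lc_c_rc_26_4 lc_c_rc_24_4 lc_c_rc_2_3 lc_c_Cert_tree lc_c_rc_13_2 lc_c_rc_7_5 lc_c_rc_26_8 lc_c_rc_2_3 lc_c_rc_26_8 lc_c_rc_26_10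 lc_c_rc_13_0 lc_c_rc_14_2 lc_c_rc_13_2 lc_c_rc_11_1 lc_c_rc_2_3 lc_c_rc_7_3 lc_c_rc_12_2 lc_c_rc_11_1 lc_c_rc_11_1 lc_c_rc_11_1 lc_c_rc_11_1 lc_c_rc_24_2 lc_c_rc_11_1 lc_c_rc_13_2 lc_c_rc_7_3 lc_c_rc_11_1 lc_c_rc_13_2 lc_c_rc_24_6 lc_c_rc_7_3 lc_c_rc_22_7 lc_c_rc_13_2 lc_c_Cert_tree lc_c_Cert_tree lc_c_rc_14_2 lc_c_rc_7_3 lc_c_rc_7_5 lc_c_rc_11_1 lc_c_rc_13_2 lc_c_Cert_tree lc_c_rc_26_4 lc_c_rc_11_1 lc_c_rc_24_8 lc_c_rc_13_2 lc_c_rc_11_1 lc_c_rc_23_5 lc_c_rc_11_1 lc_c_rc_13_2 lc_c_rc_13_2 lc_c_rc_13_2 lc_c_rc_13_2 lc_c_rc_11_1 lc_c_rc_23_0 lc_c_rc_13_2 lc_c_rc_14_2) (@D3.rec (fun _ => (Cert rels S Gen.c)) lc_c_rc_7_3 lc_c_rc_11_1 lc_c_Cert_tree lc_c_rc_2_3 lc_c_Cert_tree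 lc_c_rc_13_2 lc_c_rc_7_5 lc_c_rc_14_0 lc_c_rc_22_3 lc_c_rc_22_3 lc_c_rc_22_7 lc_c_rc_7_5 lc_c_rc_11_1 lc_c_rc_11_1 lc_c_Cert_tree lc_c_rc_22_3 lc_c_rc_7_5 lc_c_rc_26_10 lc_c_rc_11_1 lc_c_rc_7_5 lc_c_rc_26_10 lc_c_rc_26_10 lc_c_rc_2_3 lc_c_rc_13_0 lc_c_rc_26_10 lc_c_rc_2_3 lc_c_rc_14_0 lc_c_rc_7_5 lc_c_rc_11_1 lc_c_Cert_tree lc_c_rc_13_2 lc_c_rc_11_1 lc_c_Cert_tree lc_c_Cert_tree lc_c_rc_13_0 lc_c_rc_2_3 lc_c_rc_22_7 lc_c_rc_26_4 lc_c_rc_11_1 lc_c_rc_14_0 lc_c_rc_13_2 lc_c_rc_14_0 lc_c_rc_2_3 lc_c_rc_26_2 lc_c_rc_13_2 lc_c_rc_25_5 lc_c_rc_23_0 lc_c_rc_11_1 lc_c_Cert_tree lc_c_rc_13_2 lc_c_Cert_tree lc_c_rc_13_2 lc_c_rc_24_2 lc_c_rc_14_2 lc_c_rc_13_2 lc_c_rc_22_5 lc_c_rc_14_2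 lc_c_rc_13_2 lc_c_rc_22_3 lc_c_rc_22_3 lc_c_rc_2_3 lc_c_rc_7_5) (@D3.rec (fun _ => (Cert rels S Gen.c)) lc_c_rc_7_3 lc_c_rc_14_2 lc_c_rc_11_1 lc_c_rc_2_3 lc_c_Cert_tree lc_c_rc_26_2 lc_c_rc_11_1 lc_c_rc_2_3 lc_c_rc_22_3 lc_c_Cert_tree lc_c_rc_11_1 lc_c_rc_11_1 lc_c_rc_26_4 lc_c_rc_7_1 lc_c_rc_12_14 lc_c_rc_22_5 lc_c_rc_11_1 lc_c_rc_7_5 lc_c_rc_26_4 lc_c_rc_11_1 lc_c_rc_23_5 lc_c_rc_13_2 lc_c_rc_22_5 lc_c_rc_7_3 lc_c_Cert_tree lc_c_rc_13_2 lc_c_rc_23_0 lc_c_Cert_tree lc_c_rc_2_3 lc_c_rc_13_2 lc_c_rc_13_2 lc_c_rc_13_2 lc_c_rc_13_2 lc_c_Cert_tree lc_c_rc_26_10 lc_c_rc_26_8 lc_c_rc_11_1 lc_c_rc_13_0 lc_c_rc_26_2 lc_c_rc_26_4 lc_c_Cert_tree lc_c_rc_2_3 lc_c_rc_14_2 lc_c_rc_11_1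 lc_c_rc_7_3 lc_c_rc_11_1 lc_c_rc_11_1 lc_c_rc_13_0 lc_c_rc_22_9 lc_c_rc_24_2 lc_c_Cert_tree lc_c_Cert_tree lc_c_rc_2_3 lc_c_rc_26_8 lc_c_rc_7_3 lc_c_rc_22_5 lc_c_rc_26_4 lc_c_rc_11_1 lc_c_Cert_tree lc_c_Cert_tree lc_c_Cert_tree lc_c_rc_11_1) (@D3.rec (fun _ => (Cert rels S Gen.c)) lc_c_rc_13_2 lc_c_rc_23_0 lc_c_rc_14_2 lc_c_rc_26_4 lc_c_rc_22_9 lc_c_rc_26_4 lc_c_rc_22_3 lc_c_rc_22_5 lc_c_rc_24_2 lc_c_rc_11_1 lc_c_rc_24_2 lc_c_rc_22_3 lc_c_rc_13_2 lc_c_rc_13_2 lc_c_rc_11_1 lc_c_Cert_tree lc_c_rc_11_1 lc_c_rc_26_10 lc_c_rc_11_1 lc_c_rc_7_5 lc_c_rc_13_2 lc_c_rc_7_1 lc_c_rc_26_2 lc_c_rc_13_2 lc_c_rc_13_0 lc_c_rc_22_7 lc_c_rc_11_1 lc_c_rc_13_2 lc_c_rc_13_2 lc_c_rc_7_5 lc_c_rc_2_3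 lc_c_rc_13_2 lc_c_rc_24_2 lc_c_rc_26_2 lc_c_rc_23_5 lc_c_rc_13_2 lc_c_rc_13_2 lc_c_rc_11_1 lc_c_rc_25_13 lc_c_rc_13_2 lc_c_rc_24_6 lc_c_rc_13_0 lc_c_rc_13_2 lc_c_rc_14_2 lc_c_rc_24_8 lc_c_rc_11_1 lc_c_rc_11_1 lc_c_rc_26_8 lc_c_rc_26_2 lc_c_rc_23_5 lc_c_rc_24_8 lc_c_rc_24_2 lc_c_rc_11_1 lc_c_rc_11_1 lc_c_rc_22_3 lc_c_rc_11_1 lc_c_rc_26_4 lc_c_rc_11_1 lc_c_rc_2_3 lc_c_rc_24_2 lc_c_rc_13_2 lc_c_rc_11_1) (@D3.rec (fun _ => (Cert rels S Gen.c)) lc_c_rc_22_7 lc_c_rc_14_2 lc_c_rc_24_8 lc_c_rc_26_2 lc_c_rc_7_3 lc_c_rc_13_2 lc_c_rc_13_2 lc_c_rc_22_9 lc_c_rc_13_0 lc_c_rc_13_2 lc_c_rc_13_2 lc_c_rc_22_7 lc_c_rc_13_2 lc_c_rc_22_3 lc_c_rc_24_8 lc_c_rc_26_4 lc_c_rc_13_2 lc_c_rc_7_5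 lc_c_rc_26_10 lc_c_rc_2_3 lc_c_rc_23_0 lc_c_rc_11_1 lc_c_rc_22_9 lc_c_rc_14_2 lc_c_rc_26_4 lc_c_rc_13_2 lc_c_rc_23_0 lc_c_rc_22_5 lc_c_rc_24_6 lc_c_rc_7_3 lc_c_rc_23_5 lc_c_rc_13_2 lc_c_rc_22_3 lc_c_rc_11_1 lc_c_rc_11_1 lc_c_rc_23_5 lc_c_rc_11_1 lc_c_rc_11_1 lc_c_rc_23_0 lc_c_rc_23_0 lc_c_rc_24_8 lc_c_rc_11_1 lc_c_rc_23_5 lc_c_rc_7_5 lc_c_rc_13_2 lc_c_rc_7_1 lc_c_rc_11_1 lc_c_rc_2_3 lc_c_rc_13_2 lc_c_rc_11_1 lc_c_rc_2_1 lc_c_rc_11_1 lc_c_rc_11_1 lc_c_rc_11_1 lc_c_rc_2_1 lc_c_rc_11_1 lc_c_rc_11_1 lc_c_rc_11_1 lc_c_rc_14_2 lc_c_rc_26_4 lc_c_rc_2_3 lc_c_rc_11_1) (@D3.rec (fun _ => (Cert rels S Gen.c)) lc_c_rc_7_3 lc_c_rc_11_1 lc_c_rc_12_2 lc_c_rc_22_9 lc_c_Cert_tree lc_c_rc_11_1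 lc_c_rc_25_17 lc_c_rc_22_3 lc_c_rc_13_2 lc_c_rc_11_1 lc_c_rc_22_7 lc_c_rc_24_8 lc_c_rc_11_1 lc_c_rc_12_2 lc_c_Cert_tree lc_c_rc_11_1 lc_c_rc_22_7 lc_c_rc_25_1 lc_c_rc_2_3 lc_c_rc_11_1 lc_c_rc_7_3 lc_c_rc_22_5 lc_c_rc_14_2 lc_c_rc_11_1 lc_c_rc_7_3 lc_c_rc_22_7 lc_c_rc_7_3 lc_c_rc_11_1 lc_c_rc_13_2 lc_c_rc_22_7 lc_c_rc_22_5 lc_c_rc_11_1 lc_c_rc_13_2 lc_c_rc_22_5 lc_c_rc_7_3 lc_c_rc_12_2 lc_c_rc_13_2 lc_c_rc_11_1 lc_c_rc_26_8 lc_c_rc_14_2 lc_c_rc_26_2 lc_c_rc_26_10 lc_c_rc_13_2 lc_c_rc_11_1 lc_c_rc_13_2 lc_c_rc_24_8 lc_c_rc_11_1 lc_c_rc_14_2 lc_c_rc_24_4 lc_c_rc_24_8 lc_c_rc_7_3 lc_c_rc_11_1 lc_c_rc_14_2 lc_c_rc_2_3 lc_c_rc_14_2 lc_c_rc_2_3 lc_c_rc_7_5 lc_c_rc_11_1 lc_c_rc_14_2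 lc_c_rc_13_2 lc_c_rc_13_2 lc_c_rc_13_0) (@D3.rec (fun _ => (Cert rels S Gen.c)) lc_c_rc_26_10 lc_c_rc_26_2 lc_c_rc_11_1 lc_c_rc_22_5 lc_c_rc_7_5 lc_c_rc_13_2 lc_c_rc_11_1 lc_c_rc_11_1 lc_c_rc_11_1 lc_c_rc_26_10 lc_c_rc_11_1 lc_c_rc_7_5 lc_c_rc_24_8 lc_c_rc_12_2 lc_c_rc_22_3 lc_c_rc_13_2 lc_c_rc_26_10 lc_c_rc_25_5 lc_c_rc_13_2 lc_c_rc_7_1 lc_c_rc_7_5 lc_c_rc_11_1 lc_c_rc_22_9 lc_c_rc_26_4 lc_c_rc_26_2 lc_c_rc_13_2 lc_c_rc_11_1 lc_c_rc_14_2 lc_c_rc_23_5 lc_c_rc_13_0 lc_c_rc_13_2 lc_c_rc_24_2 lc_c_Cert_tree lc_c_rc_7_5 lc_c_rc_22_3 lc_c_rc_11_1 lc_c_rc_14_2 lc_c_rc_11_1 lc_c_rc_14_2 lc_c_rc_7_5 lc_c_rc_12_2 lc_c_rc_11_1 lc_c_rc_26_10 lc_c_rc_2_3 lc_c_rc_26_10 lc_c_rc_13_2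 lc_c_rc_24_4 lc_c_rc_13_2 lc_c_rc_22_5 lc_c_rc_13_2 lc_c_rc_7_3 lc_c_rc_13_2 lc_c_rc_13_0 lc_c_rc_11_1 lc_c_rc_23_5 lc_c_rc_23_5 lc_c_rc_13_2 lc_c_rc_14_0 lc_c_rc_14_2 lc_c_rc_22_7 lc_c_rc_11_1 lc_c_rc_23_0) (@D3.rec (fun _ => (Cert rels S Gen.c)) lc_c_rc_11_1 lc_c_rc_23_0 lc_c_rc_26_4 lc_c_rc_23_0 lc_c_rc_2_3 lc_c_rc_22_3 lc_c_rc_23_5 lc_c_rc_24_4 lc_c_rc_25_13 lc_c_rc_14_2 lc_c_rc_7_3 lc_c_rc_11_1 lc_c_rc_13_2 lc_c_rc_7_3 lc_c_rc_24_4 lc_c_rc_7_3 lc_c_rc_22_5 lc_c_rc_23_5 lc_c_rc_24_2 lc_c_rc_23_5 lc_c_rc_13_2 lc_c_rc_2_3 lc_c_rc_22_7 lc_c_rc_14_2 lc_c_rc_11_1 lc_c_rc_11_1 lc_c_rc_13_2 lc_c_rc_22_3 lc_c_rc_26_2 lc_c_rc_22_5 lc_c_rc_22_7 lc_c_rc_13_2 lc_c_rc_11_1 lc_c_rc_11_1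 lc_c_rc_11_1 lc_c_rc_24_2 lc_c_rc_11_1 lc_c_rc_11_1 lc_c_rc_11_1 lc_c_rc_24_6 lc_c_rc_11_1 lc_c_rc_14_2 lc_c_rc_11_1 lc_c_rc_13_2 lc_c_rc_26_2 lc_c_rc_14_2 lc_c_rc_23_5 lc_c_rc_11_1 lc_c_rc_7_3 lc_c_rc_11_1 lc_c_rc_23_0 lc_c_rc_25_1 lc_c_rc_11_1 lc_c_rc_22_5 lc_c_rc_23_0 lc_c_rc_13_0 lc_c_rc_11_1 lc_c_rc_26_10 lc_c_rc_24_4 lc_c_rc_23_0 lc_c_rc_22_3 lc_c_rc_11_1) (@D3.rec (fun _ => (Cert rels S Gen.c)) lc_c_rc_25_5 lc_c_rc_13_2 lc_c_rc_7_3 lc_c_rc_24_8 lc_c_rc_11_1 lc_c_rc_11_1 lc_c_rc_13_0 lc_c_rc_11_1 lc_c_rc_7_3 lc_c_rc_11_1 lc_c_rc_13_2 lc_c_Cert_tree lc_c_rc_7_3 lc_c_rc_11_1 lc_c_rc_13_2 lc_c_rc_11_1 lc_c_rc_26_2 lc_c_rc_23_5 lc_c_rc_13_2 lc_c_rc_24_8 lc_c_rc_26_4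 lc_c_rc_11_1 lc_c_rc_24_4 lc_c_rc_11_1 lc_c_rc_22_5 lc_c_rc_14_2 lc_c_rc_22_3 lc_c_rc_13_2 lc_c_rc_13_2 lc_c_rc_11_1 lc_c_rc_13_2 lc_c_rc_11_1 lc_c_rc_24_2 lc_c_rc_11_1 lc_c_rc_11_1 lc_c_rc_22_9 lc_c_rc_22_9 lc_c_rc_22_3 lc_c_rc_7_3 lc_c_rc_13_2 lc_c_rc_24_6 lc_c_rc_11_1 lc_c_rc_2_3 lc_c_rc_13_2 lc_c_rc_11_1 lc_c_rc_11_1 lc_c_rc_2_3 lc_c_rc_11_1 lc_c_rc_23_0 lc_c_rc_13_2 lc_c_Cert_tree lc_c_rc_11_1 lc_c_rc_7_3 lc_c_rc_26_2 lc_c_rc_13_2 lc_c_rc_26_4 lc_c_rc_12_0 lc_c_rc_2_1 lc_c_rc_13_2 lc_c_rc_14_2 lc_c_Cert_tree lc_c_rc_22_9) (@D3.rec (fun _ => (Cert rels S Gen.c)) lc_c_rc_13_2 lc_c_Cert_tree lc_c_Cert_tree lc_c_rc_14_2 lc_c_rc_14_2 lc_c_rc_26_4 lc_c_rc_11_1 lc_c_rc_23_5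 lc_c_rc_14_2 lc_c_rc_14_0 lc_c_rc_26_2 lc_c_rc_23_0 lc_c_rc_11_1 lc_c_rc_23_5 lc_c_rc_11_1 lc_c_rc_11_1 lc_c_rc_2_3 lc_c_rc_11_1 lc_c_rc_22_5 lc_c_rc_26_4 lc_c_rc_13_0 lc_c_rc_24_2 lc_c_rc_11_1 lc_c_rc_13_2 lc_c_rc_7_5 lc_c_rc_23_5 lc_c_rc_23_0 lc_c_rc_22_3 lc_c_Cert_tree lc_c_Cert_tree lc_c_Cert_tree lc_c_rc_11_1 lc_c_rc_11_1 lc_c_rc_2_3 lc_c_rc_13_2 lc_c_rc_23_0 lc_c_rc_7_5 lc_c_rc_13_2 lc_c_rc_11_1 lc_c_rc_7_3 lc_c_rc_11_1 lc_c_rc_14_2 lc_c_rc_13_2 lc_c_rc_7_5 lc_c_rc_11_1 lc_c_rc_23_0 lc_c_rc_14_2 lc_c_rc_11_1 lc_c_rc_11_1 lc_c_rc_11_1 lc_c_rc_13_2 lc_c_rc_11_1 lc_c_rc_13_2 lc_c_Cert_tree lc_c_rc_26_2 lc_c_rc_14_2 lc_c_rc_11_1 lc_c_rc_13_2 lc_c_rc_14_2 lc_c_rc_11_1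 lc_c_rc_13_2 lc_c_rc_24_4) (@D3.rec (fun _ => (Cert rels S Gen.c)) lc_c_rc_11_1 lc_c_rc_7_3 lc_c_rc_14_2 lc_c_rc_14_2 lc_c_rc_26_8 lc_c_rc_23_0 lc_c_Cert_tree lc_c_Cert_tree lc_c_rc_11_1 lc_c_rc_26_2 lc_c_rc_26_2 lc_c_rc_13_2 lc_c_rc_22_3 lc_c_rc_23_0 lc_c_rc_11_1 lc_c_rc_7_3 lc_c_rc_11_1 lc_c_rc_13_2 lc_c_rc_24_2 lc_c_rc_24_2 lc_c_rc_22_3 lc_c_rc_24_8 lc_c_rc_14_2 lc_c_rc_11_1 lc_c_rc_11_1 lc_c_rc_7_1 lc_c_rc_23_5 lc_c_rc_13_2 lc_c_rc_11_1 lc_c_rc_22_3 lc_c_rc_13_2 lc_c_rc_11_1 lc_c_rc_14_2 lc_c_rc_23_5 lc_c_rc_13_2 lc_c_rc_14_2 lc_c_Cert_tree lc_c_rc_11_1 lc_c_rc_12_14 lc_c_rc_7_5 lc_c_rc_22_9 lc_c_rc_13_2 lc_c_rc_7_3 lc_c_rc_22_5 lc_c_rc_23_0 lc_c_rc_13_2 lc_c_rc_24_6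 lc_c_rc_13_0 lc_c_rc_7_1 lc_c_rc_13_2 lc_c_rc_24_6 lc_c_rc_24_6 lc_c_rc_14_2 lc_c_rc_22_3 lc_c_rc_23_0 lc_c_rc_22_7 lc_c_rc_13_2 lc_c_Cert_tree lc_c_rc_7_5 lc_c_rc_13_0 lc_c_rc_13_2 lc_c_rc_11_1) (@D3.rec (fun _ => (Cert rels S Gen.c)) lc_c_rc_24_2 lc_c_rc_13_2 lc_c_Cert_tree lc_c_rc_2_1 lc_c_Cert_tree lc_c_rc_13_2 lc_c_rc_24_4 lc_c_rc_22_3 lc_c_rc_13_0 lc_c_rc_22_5 lc_c_rc_13_2 lc_c_rc_24_4 lc_c_rc_11_1 lc_c_rc_2_1 lc_c_rc_22_5 lc_c_rc_13_2 lc_c_rc_7_5 lc_c_rc_12_14 lc_c_Cert_tree lc_c_Cert_tree lc_c_Cert_tree lc_c_rc_11_1 lc_c_rc_13_2 lc_c_rc_24_4 lc_c_rc_7_3 lc_c_rc_22_3 lc_c_rc_13_2 lc_c_rc_7_3 lc_c_rc_13_2 lc_c_rc_13_2 lc_c_rc_22_5 lc_c_rc_14_2 lc_c_rc_13_2 lc_c_rc_24_8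 lc_c_rc_25_9 lc_c_rc_7_5 lc_c_rc_26_4 lc_c_rc_11_1 lc_c_rc_11_1 lc_c_rc_11_1 lc_c_rc_13_2 lc_c_Cert_tree lc_c_rc_14_2 lc_c_rc_11_1 lc_c_rc_26_4 lc_c_rc_2_3 lc_c_rc_22_9 lc_c_rc_13_2 lc_c_rc_11_1 lc_c_rc_14_0 lc_c_rc_13_2 lc_c_rc_11_1 lc_c_rc_26_4 lc_c_rc_11_1 lc_c_rc_25_1 lc_c_rc_24_6 lc_c_rc_11_1 lc_c_rc_23_5 lc_c_rc_14_2 lc_c_rc_11_1 lc_c_rc_23_0 lc_c_rc_26_8) (@D3.rec (fun _ => (Cert rels S Gen.c)) lc_c_rc_13_0 lc_c_rc_14_2 lc_c_rc_11_1 lc_c_Cert_tree lc_c_Cert_tree lc_c_rc_14_2 lc_c_rc_7_5 lc_c_rc_13_0 lc_c_rc_14_2 lc_c_rc_11_1 lc_c_rc_12_0 lc_c_rc_7_1 lc_c_rc_22_5 lc_c_rc_13_2 lc_c_rc_13_2 lc_c_rc_22_7 lc_c_rc_24_8 lc_c_rc_14_2 lc_c_rc_13_2 lc_c_rc_24_2 lc_c_rc_2_3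 lc_c_rc_7_5 lc_c_rc_11_1 lc_c_rc_11_1 lc_c_rc_22_9 lc_c_rc_14_2 lc_c_rc_11_1 lc_c_rc_13_0 lc_c_Cert_tree lc_c_rc_7_3 lc_c_rc_22_3 lc_c_rc_7_3 lc_c_rc_22_7 lc_c_rc_2_1 lc_c_rc_12_0 lc_c_rc_2_3 lc_c_rc_12_14 lc_c_rc_7_3 lc_c_rc_13_2 lc_c_rc_11_1 lc_c_rc_13_2 lc_c_rc_13_2 lc_c_rc_7_3 lc_c_rc_23_5 lc_c_rc_13_2 lc_c_rc_13_2 lc_c_rc_24_2 lc_c_rc_14_2 lc_c_rc_22_9 lc_c_rc_22_3 lc_c_rc_26_10 lc_c_rc_26_4 lc_c_rc_11_1 lc_c_rc_22_5 lc_c_rc_7_5 lc_c_rc_11_1 lc_c_rc_22_3 lc_c_rc_13_2 lc_c_rc_13_2 lc_c_rc_11_1 lc_c_rc_14_0 lc_c_rc_22_3) (@D3.rec (fun _ => (Cert rels S Gen.c)) lc_c_rc_14_2 lc_c_rc_24_8 lc_c_rc_22_5 lc_c_rc_12_14 lc_c_rc_24_4 lc_c_rc_11_1 lc_c_rc_7_5 lc_c_rc_23_0 lc_c_rc_22_3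 lc_c_rc_11_1 lc_c_rc_23_0 lc_c_rc_13_2 lc_c_rc_11_1 lc_c_rc_11_1 lc_c_rc_13_2 lc_c_rc_11_1 lc_c_rc_7_3 lc_c_rc_14_2 lc_c_rc_14_0 lc_c_rc_24_4 lc_c_rc_22_9 lc_c_rc_7_5 lc_c_rc_25_5 lc_c_rc_26_4 lc_c_rc_7_5 lc_c_rc_26_2 lc_c_rc_24_2 lc_c_rc_24_4 lc_c_rc_25_13 lc_c_rc_11_1 lc_c_rc_23_5 lc_c_rc_26_10 lc_c_rc_24_6 lc_c_rc_22_9 lc_c_rc_2_1 lc_c_rc_11_1 lc_c_rc_13_2 lc_c_rc_26_10 lc_c_rc_11_1 lc_c_rc_11_1 lc_c_rc_2_1 lc_c_rc_11_1 lc_c_rc_7_3 lc_c_rc_11_1 lc_c_rc_2_3 lc_c_rc_11_1 lc_c_rc_7_5 lc_c_rc_11_1 lc_c_rc_2_3 lc_c_rc_26_2 lc_c_rc_11_1 lc_c_rc_13_2 lc_c_rc_13_2 lc_c_rc_22_3 lc_c_rc_24_2 lc_c_rc_13_0 lc_c_rc_11_1 lc_c_rc_26_4 lc_c_rc_2_3 lc_c_rc_7_5 lc_c_rc_13_0 lc_c_rc_13_2)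 (@D3.rec (fun _ => (Cert rels S Gen.c)) lc_c_rc_14_2 lc_c_rc_25_13 lc_c_rc_24_4 lc_c_rc_7_3 lc_c_rc_13_2 lc_c_rc_24_4 lc_c_rc_22_3 lc_c_rc_13_0 lc_c_rc_2_3 lc_c_rc_7_5 lc_c_rc_13_2 lc_c_rc_24_2 lc_c_rc_22_3 lc_c_rc_13_2 lc_c_rc_11_1 lc_c_rc_11_1 lc_c_rc_11_1 lc_c_rc_11_1 lc_c_rc_11_1 lc_c_rc_22_3 lc_c_rc_23_5 lc_c_rc_22_7 lc_c_rc_24_2 lc_c_rc_25_13 lc_c_rc_22_5 lc_c_rc_26_2 lc_c_rc_11_1 lc_c_rc_22_7 lc_c_Cert_tree lc_c_rc_25_13 lc_c_rc_22_7 lc_c_rc_7_5 lc_c_rc_11_1 lc_c_rc_13_2 lc_c_rc_7_5 lc_c_rc_22_7 lc_c_rc_11_1 lc_c_rc_26_2 lc_c_rc_26_2 lc_c_rc_11_1 lc_c_rc_11_1 lc_c_rc_13_2 lc_c_Cert_tree lc_c_rc_11_1 lc_c_rc_2_3 lc_c_rc_11_1 lc_c_rc_11_1 lc_c_rc_12_2 lc_c_rc_14_2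 lc_c_rc_13_2 lc_c_rc_11_1 lc_c_rc_24_2 lc_c_rc_11_1 lc_c_rc_26_2 lc_c_rc_13_2 lc_c_rc_11_1 lc_c_rc_13_2 lc_c_Cert_tree lc_c_rc_11_1 lc_c_rc_24_6 lc_c_rc_24_4 lc_c_rc_26_4) (@D3.rec (fun _ => (Cert rels S Gen.c)) lc_c_rc_11_1 lc_c_rc_22_7 lc_c_rc_7_3 lc_c_rc_22_3 lc_c_rc_11_1 lc_c_rc_22_5 lc_c_rc_13_2 lc_c_rc_26_10 lc_c_rc_11_1 lc_c_rc_26_8 lc_c_rc_13_2 lc_c_rc_11_1 lc_c_rc_24_2 lc_c_rc_11_1 lc_c_rc_23_0 lc_c_rc_11_1 lc_c_rc_11_1 lc_c_rc_26_8 lc_c_rc_11_1 lc_c_rc_11_1 lc_c_rc_13_2 lc_c_rc_26_2 lc_c_rc_11_1 lc_c_rc_7_3 lc_c_rc_24_2 lc_c_rc_11_1 lc_c_rc_13_2 lc_c_rc_26_2 lc_c_rc_23_5 lc_c_rc_11_1 lc_c_rc_7_3 lc_c_rc_13_2 lc_c_rc_23_5 lc_c_rc_13_2 lc_c_rc_13_2 lc_c_rc_7_3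 lc_c_rc_23_0 lc_c_Cert_tree lc_c_rc_11_1 lc_c_rc_13_2 lc_c_rc_26_2 lc_c_rc_11_1 lc_c_Cert_tree lc_c_rc_13_2 lc_c_rc_7_5 lc_c_rc_26_10 lc_c_rc_22_3 lc_c_rc_22_5 lc_c_rc_13_2 lc_c_rc_2_3 lc_c_rc_11_1 lc_c_rc_2_1 lc_c_rc_26_10 lc_c_rc_26_2 lc_c_rc_26_4 lc_c_Cert_tree lc_c_rc_26_10 lc_c_rc_11_1 lc_c_rc_13_0 lc_c_Cert_tree lc_c_rc_7_1 lc_c_rc_11_1) (@D3.rec (fun _ => (Cert rels S Gen.c)) lc_c_Cert_tree lc_c_rc_13_2 lc_c_rc_11_1 lc_c_Cert_tree lc_c_rc_12_2 lc_c_rc_7_5 lc_c_rc_11_1 lc_c_rc_2_3 lc_c_rc_11_1 lc_c_Cert_tree lc_c_rc_13_2 lc_c_rc_11_1 lc_c_rc_7_1 lc_c_rc_22_7 lc_c_rc_13_2 lc_c_rc_12_0 lc_c_rc_22_7 lc_c_rc_14_2 lc_c_rc_22_5 lc_c_rc_13_2 lc_c_rc_24_2 lc_c_rc_26_2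 lc_c_rc_11_1 lc_c_rc_13_2 lc_c_rc_24_2 lc_c_rc_13_0 lc_c_rc_23_0 lc_c_rc_22_5 lc_c_rc_13_2 lc_c_rc_24_6 lc_c_rc_24_4 lc_c_rc_11_1 lc_c_rc_11_1 lc_c_rc_24_6 lc_c_rc_23_0 lc_c_rc_22_3 lc_c_rc_13_0 lc_c_rc_11_1 lc_c_rc_2_3 lc_c_rc_13_2 lc_c_rc_13_2 lc_c_rc_7_5 lc_c_rc_7_5 lc_c_rc_13_2 lc_c_rc_2_3 lc_c_rc_13_2 lc_c_rc_11_1 lc_c_rc_7_5 lc_c_rc_11_1 lc_c_rc_24_2 lc_c_rc_11_1 lc_c_rc_26_8 lc_c_rc_7_3 lc_c_rc_13_2 lc_c_rc_7_5 lc_c_rc_22_5 lc_c_rc_26_4 lc_c_rc_11_1 lc_c_rc_24_2 lc_c_rc_26_4 lc_c_rc_11_1 lc_c_rc_26_10) (@D3.rec (fun _ => (Cert rels S Gen.c)) lc_c_rc_26_4 lc_c_rc_2_1 lc_c_rc_11_1 lc_c_rc_22_3 lc_c_rc_11_1 lc_c_rc_11_1 lc_c_Cert_tree lc_c_rc_12_0 lc_c_rc_25_13 lc_c_rc_13_2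 lc_c_Cert_tree lc_c_rc_14_2 lc_c_rc_23_0 lc_c_Cert_tree lc_c_Cert_tree lc_c_rc_12_2 lc_c_Cert_tree lc_c_rc_24_8 lc_c_rc_13_2 lc_c_Cert_tree lc_c_Cert_tree lc_c_Cert_tree lc_c_rc_11_1 lc_c_rc_13_2 lc_c_rc_7_1 lc_c_rc_11_1 lc_c_rc_7_3 lc_c_rc_13_2 lc_c_rc_26_2 lc_c_rc_26_2 lc_c_rc_11_1 lc_c_rc_11_1 lc_c_rc_24_2 lc_c_rc_11_1 lc_c_rc_2_3 lc_c_rc_13_2 lc_c_Cert_tree lc_c_rc_11_1 lc_c_rc_2_3 lc_c_rc_26_2 lc_c_rc_13_2 lc_c_rc_26_4 lc_c_rc_11_1 lc_c_rc_25_9 lc_c_rc_22_3 lc_c_Cert_tree lc_c_rc_11_1 lc_c_rc_22_3 lc_c_rc_7_5 lc_c_rc_11_1 lc_c_rc_26_2 lc_c_rc_11_1 lc_c_rc_13_2 lc_c_rc_14_2 lc_c_rc_11_1 lc_c_rc_14_2 lc_c_rc_11_1 lc_c_rc_25_5 lc_c_rc_13_2 lc_c_rc_7_3 lc_c_rc_11_1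 lc_c_Cert_tree) (@D3.rec (fun _ => (Cert rels S Gen.c)) lc_c_Cert_tree lc_c_rc_24_2 lc_c_rc_26_4 lc_c_Cert_tree lc_c_rc_11_1 lc_c_rc_13_2 lc_c_rc_11_1 lc_c_rc_11_1 lc_c_rc_23_0 lc_c_Cert_tree lc_c_rc_14_2 lc_c_rc_11_1 lc_c_rc_12_14 lc_c_rc_11_1 lc_c_rc_2_3 lc_c_rc_11_1 lc_c_rc_22_9 lc_c_rc_23_0 lc_c_rc_13_2 lc_c_rc_13_2 lc_c_rc_11_1 lc_c_rc_11_1 lc_c_rc_14_2 lc_c_rc_11_1 lc_c_rc_22_5 lc_c_rc_11_1 lc_c_rc_22_5 lc_c_rc_13_2 lc_c_Cert_tree lc_c_rc_22_5 lc_c_rc_14_2 lc_c_rc_26_2 lc_c_rc_7_5 lc_c_rc_11_1 lc_c_rc_13_2 lc_c_rc_13_2 lc_c_rc_12_14 lc_c_rc_11_1 lc_c_Cert_tree lc_c_rc_11_1 lc_c_rc_26_2 lc_c_rc_11_1 lc_c_rc_25_1 lc_c_rc_24_6 lc_c_rc_11_1 lc_c_rc_7_3 lc_c_rc_22_3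 lc_c_rc_13_2 lc_c_rc_7_5 lc_c_Cert_tree lc_c_rc_11_1 lc_c_rc_13_2 lc_c_rc_11_1 lc_c_rc_13_0 lc_c_rc_24_8 lc_c_rc_14_2 lc_c_rc_13_2 lc_c_rc_24_6 lc_c_rc_13_2 lc_c_rc_22_3 lc_c_rc_14_2 lc_c_rc_13_2) (@D3.rec (fun _ => (Cert rels S Gen.c)) lc_c_rc_23_0 lc_c_rc_11_1 lc_c_rc_14_2 lc_c_rc_11_1 lc_c_rc_23_5 lc_c_rc_13_2 lc_c_rc_11_1 lc_c_rc_23_5 lc_c_rc_13_2 lc_c_rc_13_2 lc_c_Cert_tree lc_c_rc_7_3 lc_c_rc_11_1 lc_c_rc_22_5 lc_c_rc_22_7 lc_c_rc_26_10 lc_c_rc_11_1 lc_c_rc_2_1 lc_c_rc_22_5 lc_c_rc_22_3 lc_c_rc_11_1 lc_c_rc_26_10 lc_c_rc_13_2 lc_c_rc_25_13 lc_c_rc_13_2 lc_c_rc_13_2 lc_c_rc_26_8 lc_c_rc_11_1 lc_c_rc_26_4 lc_c_rc_13_0 lc_c_rc_11_1 lc_c_rc_13_2 lc_c_rc_26_2 lc_c_rc_11_1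 lc_c_rc_11_1 lc_c_rc_11_1 lc_c_rc_24_6 lc_c_rc_2_3 lc_c_rc_23_0 lc_c_rc_22_7 lc_c_Cert_tree lc_c_rc_11_1 lc_c_rc_26_8 lc_c_rc_11_1 lc_c_rc_7_5 lc_c_rc_23_5 lc_c_rc_13_0 lc_c_rc_11_1 lc_c_rc_26_2 lc_c_rc_13_0 lc_c_rc_26_4 lc_c_Cert_tree lc_c_rc_13_2 lc_c_rc_26_4 lc_c_rc_11_1 lc_c_rc_14_0 lc_c_rc_26_2 lc_c_rc_12_12 lc_c_rc_11_1 lc_c_rc_24_2 lc_c_rc_26_10 lc_c_rc_11_1) (@D3.rec (fun _ => (Cert rels S Gen.c)) lc_c_rc_2_1 lc_c_rc_11_1 lc_c_rc_24_6 lc_c_rc_7_1 lc_c_rc_11_1 lc_c_rc_22_5 lc_c_rc_11_1 lc_c_rc_7_5 lc_c_rc_12_14 lc_c_rc_24_6 lc_c_rc_11_1 lc_c_rc_2_3 lc_c_rc_26_2 lc_c_rc_24_6 lc_c_rc_11_1 lc_c_rc_13_2 lc_c_rc_7_3 lc_c_rc_24_8 lc_c_rc_7_3 lc_c_rc_11_1 lc_c_rc_22_5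 lc_c_rc_13_2 lc_c_rc_23_0 lc_c_rc_7_3 lc_c_rc_13_0 lc_c_rc_11_1 lc_c_rc_11_1 lc_c_rc_22_9 lc_c_rc_24_2 lc_c_rc_14_0 lc_c_rc_11_1 lc_c_rc_11_1 lc_c_rc_13_0 lc_c_rc_12_0 lc_c_rc_2_1 lc_c_rc_14_2 lc_c_rc_26_4 lc_c_rc_26_10 lc_c_rc_23_0 lc_c_rc_2_3 lc_c_rc_26_2 lc_c_rc_12_2 lc_c_rc_11_1 lc_c_rc_24_4 lc_c_rc_11_1 lc_c_rc_26_4 lc_c_rc_13_2 lc_c_rc_11_1 lc_c_rc_24_6 lc_c_rc_7_5 lc_c_rc_26_8 lc_c_rc_7_1 lc_c_rc_13_2 lc_c_rc_11_1 lc_c_rc_11_1 lc_c_rc_11_1 lc_c_rc_11_1 lc_c_rc_2_3 lc_c_Cert_tree lc_c_rc_22_5 lc_c_rc_22_3 lc_c_rc_26_4) (@D3.rec (fun _ => (Cert rels S Gen.c)) lc_c_rc_11_1 lc_c_rc_11_1 lc_c_rc_11_1 lc_c_Cert_tree lc_c_rc_13_0 lc_c_rc_11_1 lc_c_rc_11_1 lc_c_rc_24_2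 lc_c_rc_26_4 lc_c_rc_26_10 lc_c_rc_11_1 lc_c_rc_23_0 lc_c_Cert_tree lc_c_Cert_tree lc_c_rc_11_1 lc_c_rc_13_0 lc_c_rc_14_2 lc_c_rc_2_1 lc_c_rc_2_3 lc_c_rc_26_8 lc_c_rc_11_1 lc_c_rc_2_1 lc_c_rc_23_0 lc_c_rc_22_5 lc_c_rc_26_2 lc_c_rc_11_1 lc_c_rc_26_4 lc_c_rc_13_2 lc_c_rc_14_2 lc_c_rc_13_2 lc_c_rc_2_3 lc_c_rc_24_4 lc_c_rc_24_8 lc_c_rc_26_10 lc_c_rc_11_1 lc_c_rc_7_5 lc_c_rc_13_2 lc_c_rc_26_4 lc_c_rc_12_2 lc_c_rc_13_2 lc_c_rc_24_6 lc_c_rc_11_1 lc_c_rc_13_2 lc_c_rc_26_4 lc_c_Cert_tree lc_c_rc_11_1 lc_c_rc_13_0 lc_c_rc_14_2 lc_c_rc_22_3 lc_c_rc_14_2 lc_c_rc_24_4 lc_c_rc_22_9 lc_c_rc_14_2 lc_c_rc_11_1 lc_c_rc_7_5 lc_c_Cert_tree lc_c_rc_14_2 lc_c_Cert_tree lc_c_rc_24_6 lc_c_rc_24_4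 lc_c_rc_23_0 lc_c_rc_11_1)
def ce_c_22 : D2 → D3 → (Cert rels S Gen.c) := @D2.rec (fun _ => D3 → (Cert rels S Gen.c)) (@D3.rec (fun _ => (Cert rels S Gen.c)) lc_c_Cert_tree lc_c_Cert_tree lc_c_rc_11_1 lc_c_rc_11_1 lc_c_rc_13_2 lc_c_rc_26_2 lc_c_rc_11_1 lc_c_rc_11_1 lc_c_rc_13_2 lc_c_Cert_tree lc_c_rc_12_2 lc_c_rc_7_1 lc_c_rc_11_1 lc_c_rc_26_2 lc_c_Cert_tree lc_c_rc_11_1 lc_c_rc_7_1 lc_c_rc_2_3 lc_c_rc_13_0 lc_c_Cert_tree lc_c_rc_2_3 lc_c_rc_26_4 lc_c_rc_24_4 lc_c_rc_11_1 lc_c_rc_13_2 lc_c_rc_14_0 lc_c_rc_11_1 lc_c_rc_25_5 lc_c_rc_26_2 lc_c_rc_11_1 lc_c_rc_25_13 lc_c_rc_13_2 lc_c_rc_25_13 lc_c_rc_7_5 lc_c_rc_11_1 lc_c_rc_24_4 lc_c_rc_24_4 lc_c_rc_11_1 lc_c_rc_11_1 lc_c_rc_13_2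 lc_c_rc_23_5 lc_c_rc_24_2 lc_c_rc_11_1 lc_c_rc_13_2 lc_c_rc_11_1 lc_c_rc_7_3 lc_c_Cert_tree lc_c_rc_11_1 lc_c_rc_11_1 lc_c_rc_13_2 lc_c_rc_24_8 lc_c_rc_11_1 lc_c_rc_14_0 lc_c_rc_22_5 lc_c_rc_14_2 lc_c_rc_24_8 lc_c_rc_2_3 lc_c_rc_11_1 lc_c_rc_26_2 lc_c_rc_13_2 lc_c_rc_13_2 lc_c_rc_11_1) (@D3.rec (fun _ => (Cert rels S Gen.c)) lc_c_rc_11_1 lc_c_rc_13_2 lc_c_rc_24_8 lc_c_rc_24_8 lc_c_rc_14_2 lc_c_rc_7_3 lc_c_rc_22_5 lc_c_rc_13_2 lc_c_Cert_tree lc_c_Cert_tree lc_c_rc_14_2 lc_c_rc_11_1 lc_c_rc_7_3 lc_c_rc_22_7 lc_c_rc_24_6 lc_c_Cert_tree lc_c_rc_11_1 lc_c_rc_13_2 lc_c_rc_24_2 lc_c_rc_23_0 lc_c_rc_11_1 lc_c_rc_22_3 lc_c_rc_13_2 lc_c_Cert_tree lc_c_Cert_tree lc_c_rc_14_2 lc_c_rc_7_3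 lc_c_rc_23_0 lc_c_rc_13_2 lc_c_Cert_tree lc_c_rc_23_5 lc_c_rc_13_2 lc_c_Cert_tree lc_c_rc_11_1 lc_c_rc_2_3 lc_c_Cert_tree lc_c_rc_14_2 lc_c_rc_13_2 lc_c_rc_13_2 lc_c_Cert_tree lc_c_Cert_tree lc_c_rc_11_1 lc_c_rc_2_3 lc_c_rc_7_1 lc_c_rc_13_2 lc_c_Cert_tree lc_c_Cert_tree lc_c_rc_14_2 lc_c_rc_24_4 lc_c_rc_24_4 lc_c_rc_14_2 lc_c_rc_22_7 lc_c_rc_7_3 lc_c_rc_13_2 lc_c_rc_22_5 lc_c_rc_14_0 lc_c_rc_11_1 lc_c_rc_23_0 lc_c_Cert_tree lc_c_Cert_tree lc_c_rc_12_2 lc_c_rc_23_0) (@D3.rec (fun _ => (Cert rels S Gen.c)) lc_c_rc_24_2 lc_c_rc_24_4 lc_c_rc_11_1 lc_c_rc_2_1 lc_c_rc_22_5 lc_c_rc_12_0 lc_c_rc_7_3 lc_c_Cert_tree lc_c_Cert_tree lc_c_rc_7_5 lc_c_rc_23_0 lc_c_rc_22_3 lc_c_rc_14_2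 lc_c_rc_22_7 lc_c_rc_26_8 lc_c_Cert_tree lc_c_rc_13_0 lc_c_rc_11_1 lc_c_rc_23_0 lc_c_rc_11_1 lc_c_rc_14_0 lc_c_rc_14_2 lc_c_rc_22_5 lc_c_rc_2_1 lc_c_rc_13_2 lc_c_rc_7_1 lc_c_rc_13_2 lc_c_rc_11_1 lc_c_rc_7_5 lc_c_Cert_tree lc_c_rc_2_3 lc_c_rc_26_4 lc_c_rc_11_1 lc_c_rc_26_10 lc_c_rc_11_1 lc_c_rc_24_6 lc_c_rc_11_1 lc_c_rc_2_3 lc_c_rc_11_1 lc_c_rc_11_1 lc_c_rc_25_9 lc_c_Cert_tree lc_c_rc_11_1 lc_c_rc_24_4 lc_c_rc_13_2 lc_c_rc_26_2 lc_c_rc_2_3 lc_c_rc_23_5 lc_c_rc_26_4 lc_c_rc_25_9 lc_c_rc_13_2 lc_c_rc_11_1 lc_c_rc_11_1 lc_c_rc_13_0 lc_c_rc_2_3 lc_c_rc_24_6 lc_c_rc_11_1 lc_c_rc_13_0 lc_c_rc_11_1 lc_c_rc_11_1 lc_c_rc_24_6 lc_c_rc_14_2) (@D3.rec (fun _ => (Cert rels S Gen.c))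 lc_c_rc_13_0 lc_c_rc_11_1 lc_c_rc_26_4 lc_c_rc_22_9 lc_c_rc_24_4 lc_c_rc_11_1 lc_c_rc_26_4 lc_c_rc_11_1 lc_c_rc_7_5 lc_c_rc_26_4 lc_c_rc_26_2 lc_c_rc_14_2 lc_c_rc_26_2 lc_c_rc_26_2 lc_c_rc_7_1 lc_c_rc_2_1 lc_c_rc_13_2 lc_c_rc_26_2 lc_c_rc_11_1 lc_c_rc_22_5 lc_c_rc_13_2 lc_c_rc_11_1 lc_c_rc_11_1 lc_c_rc_24_2 lc_c_rc_11_1 lc_c_rc_11_1 lc_c_rc_11_1 lc_c_Cert_tree lc_c_Cert_tree lc_c_rc_11_1 lc_c_rc_13_2 lc_c_rc_13_2 lc_c_rc_7_3 lc_c_rc_22_5 lc_c_rc_14_2 lc_c_rc_11_1 lc_c_rc_11_1 lc_c_rc_7_5 lc_c_rc_22_5 lc_c_rc_22_3 lc_c_rc_22_3 lc_c_rc_11_1 lc_c_rc_24_8 lc_c_rc_24_2 lc_c_rc_11_1 lc_c_rc_7_5 lc_c_rc_26_2 lc_c_rc_22_9 lc_c_rc_13_2 lc_c_rc_26_2 lc_c_rc_11_1 lc_c_rc_7_1 lc_c_rc_24_2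 lc_c_rc_13_2 lc_c_rc_7_3 lc_c_rc_24_2 lc_c_rc_13_2 lc_c_rc_26_4 lc_c_rc_11_1 lc_c_rc_24_2 lc_c_rc_24_6 lc_c_rc_2_1) (@D3.rec (fun _ => (Cert rels S Gen.c)) lc_c_rc_13_2 lc_c_rc_24_4 lc_c_rc_23_5 lc_c_rc_26_10 lc_c_rc_14_2 lc_c_rc_11_1 lc_c_rc_26_8 lc_c_rc_23_0 lc_c_rc_13_2 lc_c_rc_13_0 lc_c_rc_11_1 lc_c_Cert_tree lc_c_rc_11_1 lc_c_rc_24_8 lc_c_rc_13_2 lc_c_rc_13_2 lc_c_rc_22_3 lc_c_rc_23_0 lc_c_rc_12_0 lc_c_rc_13_2 lc_c_rc_13_2 lc_c_rc_13_2 lc_c_rc_11_1 lc_c_rc_26_4 lc_c_rc_14_2 lc_c_rc_11_1 lc_c_rc_14_2 lc_c_rc_7_3 lc_c_rc_22_5 lc_c_rc_13_2 lc_c_Cert_tree lc_c_rc_11_1 lc_c_rc_11_1 lc_c_rc_11_1 lc_c_rc_7_5 lc_c_rc_7_5 lc_c_rc_24_2 lc_c_rc_11_1 lc_c_Cert_tree lc_c_rc_11_1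 lc_c_rc_13_2 lc_c_rc_24_6 lc_c_rc_14_2 lc_c_rc_11_1 lc_c_rc_11_1 lc_c_rc_11_1 lc_c_rc_14_2 lc_c_rc_11_1 lc_c_rc_7_3 lc_c_rc_14_2 lc_c_rc_13_2 lc_c_rc_23_0 lc_c_rc_13_0 lc_c_rc_7_1 lc_c_rc_13_2 lc_c_rc_13_0 lc_c_rc_7_3 lc_c_rc_7_5 lc_c_rc_11_1 lc_c_rc_26_4 lc_c_rc_11_1 lc_c_rc_23_5) (@D3.rec (fun _ => (Cert rels S Gen.c)) lc_c_rc_23_5 lc_c_rc_7_3 lc_c_rc_23_0 lc_c_rc_13_2 lc_c_rc_26_10 lc_c_rc_11_1 lc_c_rc_11_1 lc_c_rc_13_2 lc_c_rc_11_1 lc_c_rc_2_3 lc_c_rc_2_1 lc_c_rc_7_3 lc_c_rc_22_5 lc_c_rc_13_2 lc_c_rc_13_2 lc_c_rc_26_2 lc_c_rc_22_9 lc_c_rc_13_2 lc_c_rc_11_1 lc_c_rc_7_3 lc_c_rc_23_5 lc_c_rc_13_2 lc_c_rc_13_2 lc_c_rc_26_2 lc_c_Cert_tree lc_c_rc_14_2 lc_c_rc_11_1 lc_c_rc_22_5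 lc_c_rc_14_0 lc_c_rc_11_1 lc_c_rc_13_2 lc_c_rc_26_2 lc_c_rc_13_2 lc_c_rc_26_10 lc_c_rc_7_5 lc_c_rc_2_3 lc_c_Cert_tree lc_c_rc_24_8 lc_c_rc_22_7 lc_c_rc_26_4 lc_c_rc_23_0 lc_c_rc_26_2 lc_c_rc_11_1 lc_c_rc_24_2 lc_c_rc_11_1 lc_c_rc_13_2 lc_c_rc_13_2 lc_c_rc_26_4 lc_c_rc_2_1 lc_c_rc_7_1 lc_c_rc_2_1 lc_c_rc_11_1 lc_c_rc_26_4 lc_c_rc_13_2 lc_c_rc_14_2 lc_c_rc_13_0 lc_c_rc_11_1 lc_c_rc_13_2 lc_c_rc_14_2 lc_c_Cert_tree lc_c_rc_14_0 lc_c_rc_11_1) (@D3.rec (fun _ => (Cert rels S Gen.c)) lc_c_rc_26_8 lc_c_rc_13_2 lc_c_rc_2_3 lc_c_rc_11_1 lc_c_rc_11_1 lc_c_rc_23_5 lc_c_rc_26_8 lc_c_rc_26_10 lc_c_rc_13_2 lc_c_rc_11_1 lc_c_rc_24_8 lc_c_rc_11_1 lc_c_rc_2_3 lc_c_rc_7_1 lc_c_rc_13_2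 lc_c_rc_23_0 lc_c_rc_11_1 lc_c_rc_13_2 lc_c_rc_7_1 lc_c_rc_22_5 lc_c_Cert_tree lc_c_rc_22_3 lc_c_rc_22_3 lc_c_rc_11_1 lc_c_rc_22_5 lc_c_rc_13_2 lc_c_rc_7_5 lc_c_rc_23_5 lc_c_rc_24_2 lc_c_rc_26_8 lc_c_rc_11_1 lc_c_Cert_tree lc_c_rc_11_1 lc_c_rc_24_2 lc_c_rc_22_9 lc_c_rc_26_2 lc_c_rc_7_5 lc_c_Cert_tree lc_c_rc_11_1 lc_c_rc_11_1 lc_c_rc_11_1 lc_c_rc_11_1 lc_c_rc_2_1 lc_c_Cert_tree lc_c_rc_26_4 lc_c_rc_11_1 lc_c_rc_11_1 lc_c_rc_11_1 lc_c_rc_13_2 lc_c_rc_13_0 lc_c_rc_22_7 lc_c_Cert_tree lc_c_rc_14_2 lc_c_rc_26_4 lc_c_Cert_tree lc_c_Cert_tree lc_c_rc_11_1 lc_c_rc_23_0 lc_c_rc_7_5 lc_c_rc_13_2 lc_c_rc_13_2 lc_c_rc_11_1) (@D3.rec (fun _ => (Cert rels S Gen.c)) lc_c_rc_14_2 lc_c_rc_11_1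 lc_c_Cert_tree lc_c_rc_13_2 lc_c_Cert_tree lc_c_rc_13_2 lc_c_Cert_tree lc_c_rc_24_4 lc_c_rc_11_1 lc_c_Cert_tree lc_c_rc_11_1 lc_c_Cert_tree lc_c_Cert_tree lc_c_Cert_tree lc_c_rc_11_1 lc_c_rc_14_2 lc_c_rc_13_0 lc_c_rc_13_2 lc_c_rc_11_1 lc_c_rc_13_2 lc_c_rc_11_1 lc_c_rc_7_3 lc_c_rc_11_1 lc_c_rc_11_1 lc_c_rc_2_1 lc_c_rc_14_2 lc_c_rc_24_4 lc_c_rc_24_4 lc_c_rc_23_0 lc_c_Cert_tree lc_c_rc_13_2 lc_c_rc_11_1 lc_c_rc_11_1 lc_c_rc_11_1 lc_c_rc_11_1 lc_c_rc_11_1 lc_c_rc_7_3 lc_c_rc_11_1 lc_c_rc_11_1 lc_c_rc_22_3 lc_c_rc_11_1 lc_c_rc_7_5 lc_c_rc_13_2 lc_c_rc_11_1 lc_c_rc_11_1 lc_c_rc_11_1 lc_c_rc_24_2 lc_c_rc_24_8 lc_c_rc_11_1 lc_c_Cert_tree lc_c_rc_7_5 lc_c_rc_11_1 lc_c_rc_11_1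 lc_c_rc_25_5 lc_c_rc_26_4 lc_c_rc_11_1 lc_c_rc_24_4 lc_c_rc_24_2 lc_c_rc_14_0 lc_c_rc_13_0 lc_c_rc_24_2 lc_c_rc_13_2) (@D3.rec (fun _ => (Cert rels S Gen.c)) lc_c_rc_14_2 lc_c_rc_23_5 lc_c_rc_26_4 lc_c_rc_11_1 lc_c_rc_11_1 lc_c_rc_24_4 lc_c_rc_2_3 lc_c_rc_22_3 lc_c_rc_7_5 lc_c_rc_11_1 lc_c_rc_22_5 lc_c_rc_11_1 lc_c_rc_13_2 lc_c_rc_22_5 lc_c_rc_25_1 lc_c_rc_11_1 lc_c_rc_7_5 lc_c_rc_11_1 lc_c_rc_13_2 lc_c_rc_24_6 lc_c_rc_11_1 lc_c_rc_11_1 lc_c_rc_24_6 lc_c_rc_2_3 lc_c_rc_7_1 lc_c_rc_11_1 lc_c_rc_26_8 lc_c_rc_11_1 lc_c_rc_7_5 lc_c_rc_13_0 lc_c_rc_13_0 lc_c_rc_11_1 lc_c_rc_2_3 lc_c_rc_11_1 lc_c_rc_23_0 lc_c_rc_13_2 lc_c_rc_24_2 lc_c_rc_7_1 lc_c_rc_26_10 lc_c_rc_11_1 lc_c_rc_26_8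 lc_c_rc_7_1 lc_c_rc_26_10 lc_c_rc_2_3 lc_c_rc_11_1 lc_c_rc_2_3 lc_c_rc_13_2 lc_c_rc_26_2 lc_c_rc_11_1 lc_c_rc_26_4 lc_c_rc_24_8 lc_c_rc_13_2 lc_c_rc_13_2 lc_c_rc_14_0 lc_c_rc_13_0 lc_c_rc_14_2 lc_c_rc_11_1 lc_c_rc_11_1 lc_c_rc_11_1 lc_c_rc_24_2 lc_c_rc_26_2 lc_c_rc_11_1) (@D3.rec (fun _ => (Cert rels S Gen.c)) lc_c_rc_26_8 lc_c_rc_26_2 lc_c_rc_12_8 lc_c_rc_13_2 lc_c_Cert_tree lc_c_rc_11_1 lc_c_rc_2_3 lc_c_rc_14_2 lc_c_rc_13_2 lc_c_rc_13_2 lc_c_Cert_tree lc_c_rc_11_1 lc_c_rc_11_1 lc_c_rc_22_3 lc_c_rc_13_2 lc_c_rc_7_5 lc_c_rc_26_4 lc_c_rc_23_0 lc_c_Cert_tree lc_c_rc_13_2 lc_c_rc_13_0 lc_c_Cert_tree lc_c_rc_11_1 lc_c_rc_13_2 lc_c_rc_24_6 lc_c_rc_11_1 lc_c_Cert_tree lc_c_rc_7_3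 lc_c_rc_24_4 lc_c_rc_2_3 lc_c_rc_11_1 lc_c_rc_14_2 lc_c_rc_11_1 lc_c_rc_2_3 lc_c_rc_11_1 lc_c_rc_11_1 lc_c_rc_2_1 lc_c_rc_11_1 lc_c_rc_14_2 lc_c_Cert_tree lc_c_rc_11_1 lc_c_rc_7_5 lc_c_rc_26_4 lc_c_rc_7_5 lc_c_rc_13_2 lc_c_rc_7_5 lc_c_rc_2_3 lc_c_rc_13_0 lc_c_Cert_tree lc_c_rc_13_0 lc_c_rc_11_1 lc_c_rc_11_1 lc_c_rc_11_1 lc_c_rc_22_9 lc_c_rc_23_0 lc_c_rc_7_3 lc_c_Cert_tree lc_c_rc_7_5 lc_c_rc_26_4 lc_c_rc_11_1 lc_c_rc_25_5 lc_c_rc_25_1) (@D3.rec (fun _ => (Cert rels S Gen.c)) lc_c_rc_11_1 lc_c_rc_11_1 lc_c_rc_7_3 lc_c_rc_22_7 lc_c_rc_26_2 lc_c_rc_2_1 lc_c_rc_26_2 lc_c_rc_23_5 lc_c_rc_25_1 lc_c_rc_26_4 lc_c_rc_26_2 lc_c_rc_7_1 lc_c_rc_7_5 lc_c_Cert_tree lc_c_rc_11_1 lc_c_rc_22_3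 lc_c_rc_7_3 lc_c_rc_13_2 lc_c_Cert_tree lc_c_Cert_tree lc_c_rc_11_1 lc_c_rc_24_4 lc_c_rc_24_4 lc_c_rc_23_5 lc_c_rc_26_4 lc_c_rc_14_2 lc_c_rc_23_0 lc_c_rc_11_1 lc_c_rc_11_1 lc_c_rc_13_2 lc_c_rc_25_5 lc_c_rc_24_4 lc_c_rc_11_1 lc_c_rc_7_1 lc_c_rc_11_1 lc_c_rc_13_2 lc_c_rc_13_2 lc_c_rc_11_1 lc_c_rc_24_4 lc_c_rc_11_1 lc_c_rc_13_2 lc_c_rc_26_8 lc_c_rc_2_3 lc_c_rc_14_0 lc_c_rc_13_0 lc_c_rc_26_10 lc_c_rc_24_6 lc_c_rc_26_10 lc_c_rc_14_2 lc_c_rc_11_1 lc_c_rc_7_5 lc_c_rc_13_2 lc_c_rc_12_2 lc_c_rc_11_1 lc_c_rc_14_0 lc_c_rc_14_0 lc_c_rc_23_0 lc_c_rc_11_1 lc_c_rc_11_1 lc_c_rc_26_4 lc_c_rc_2_3 lc_c_rc_23_0) (@D3.rec (fun _ => (Cert rels S Gen.c)) lc_c_rc_13_2 lc_c_rc_11_1 lc_c_rc_2_3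 lc_c_rc_11_1 lc_c_rc_23_5 lc_c_rc_13_2 lc_c_rc_14_2 lc_c_rc_7_3 lc_c_rc_7_5 lc_c_rc_26_2 lc_c_rc_7_3 lc_c_rc_7_1 lc_c_rc_13_2 lc_c_rc_7_5 lc_c_rc_13_2 lc_c_rc_7_5 lc_c_rc_22_5 lc_c_rc_23_0 lc_c_rc_13_2 lc_c_Cert_tree lc_c_rc_11_1 lc_c_rc_7_3 lc_c_rc_7_5 lc_c_Cert_tree lc_c_rc_14_2 lc_c_rc_22_3 lc_c_rc_24_6 lc_c_rc_11_1 lc_c_rc_11_1 lc_c_rc_22_3 lc_c_rc_11_1 lc_c_rc_2_3 lc_c_rc_22_9 lc_c_rc_24_8 lc_c_rc_7_3 lc_c_rc_7_3 lc_c_rc_13_2 lc_c_rc_13_2 lc_c_rc_11_1 lc_c_rc_7_1 lc_c_rc_22_3 lc_c_rc_23_5 lc_c_rc_11_1 lc_c_rc_7_3 lc_c_rc_24_2 lc_c_rc_26_10 lc_c_rc_11_1 lc_c_rc_2_3 lc_c_rc_2_1 lc_c_rc_11_1 lc_c_rc_2_3 lc_c_rc_26_2 lc_c_rc_22_9 lc_c_rc_13_2 lc_c_rc_26_8 lc_c_rc_11_1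 lc_c_rc_13_2 lc_c_rc_22_5 lc_c_rc_26_2 lc_c_rc_23_5 lc_c_rc_13_2 lc_c_rc_2_3) (@D3.rec (fun _ => (Cert rels S Gen.c)) lc_c_rc_7_5 lc_c_rc_12_2 lc_c_rc_24_2 lc_c_rc_11_1 lc_c_rc_11_1 lc_c_rc_7_1 lc_c_Cert_tree lc_c_rc_11_1 lc_c_rc_2_3 lc_c_rc_11_1 lc_c_rc_2_3 lc_c_rc_13_0 lc_c_rc_23_0 lc_c_rc_2_3 lc_c_rc_11_1 lc_c_rc_24_8 lc_c_rc_24_8 lc_c_rc_14_2 lc_c_rc_2_3 lc_c_Cert_tree lc_c_Cert_tree lc_c_Cert_tree lc_c_rc_11_1 lc_c_rc_13_2 lc_c_rc_13_2 lc_c_rc_26_10 lc_c_rc_14_2 lc_c_Cert_tree lc_c_rc_11_1 lc_c_rc_11_1 lc_c_rc_24_2 lc_c_rc_25_9 lc_c_rc_23_5 lc_c_rc_11_1 lc_c_rc_14_2 lc_c_rc_11_1 lc_c_rc_11_1 lc_c_rc_2_3 lc_c_Cert_tree lc_c_rc_11_1 lc_c_rc_7_1 lc_c_rc_11_1 lc_c_rc_13_2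 lc_c_rc_11_1 lc_c_rc_11_1 lc_c_rc_24_8 lc_c_rc_22_5 lc_c_rc_11_1 lc_c_rc_26_8 lc_c_Cert_tree lc_c_rc_11_1 lc_c_rc_22_3 lc_c_rc_11_1 lc_c_rc_7_5 lc_c_rc_11_1 lc_c_rc_11_1 lc_c_rc_26_2 lc_c_rc_11_1 lc_c_rc_23_5 lc_c_rc_7_3 lc_c_Cert_tree lc_c_rc_11_1) (@D3.rec (fun _ => (Cert rels S Gen.c)) lc_c_rc_13_2 lc_c_rc_26_2 lc_c_Cert_tree lc_c_rc_13_2 lc_c_rc_11_1 lc_c_rc_11_1 lc_c_Cert_tree lc_c_rc_22_3 lc_c_rc_13_2 lc_c_rc_24_6 lc_c_rc_11_1 lc_c_rc_7_3 lc_c_rc_22_3 lc_c_rc_11_1 lc_c_Cert_tree lc_c_Cert_tree lc_c_rc_13_2 lc_c_Cert_tree lc_c_Cert_tree lc_c_rc_11_1 lc_c_rc_13_2 lc_c_Cert_tree lc_c_Cert_tree lc_c_rc_11_1 lc_c_rc_23_0 lc_c_rc_2_3 lc_c_rc_23_0 lc_c_rc_7_3 lc_c_rc_13_2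 lc_c_rc_13_0 lc_c_rc_26_10 lc_c_rc_13_0 lc_c_Cert_tree lc_c_Cert_tree lc_c_rc_25_5 lc_c_Cert_tree lc_c_rc_11_1 lc_c_rc_7_5 lc_c_rc_24_4 lc_c_rc_24_4 lc_c_Cert_tree lc_c_rc_11_1 lc_c_rc_13_2 lc_c_rc_2_3 lc_c_rc_7_1 lc_c_rc_13_2 lc_c_rc_24_2 lc_c_rc_22_3 lc_c_rc_24_8 lc_c_rc_11_1 lc_c_rc_7_5 lc_c_Cert_tree lc_c_rc_13_2 lc_c_Cert_tree lc_c_Cert_tree lc_c_Cert_tree lc_c_rc_2_3 lc_c_rc_26_2 lc_c_rc_14_2 lc_c_rc_13_2 lc_c_rc_13_2 lc_c_rc_2_3) (@D3.rec (fun _ => (Cert rels S Gen.c)) lc_c_rc_11_1 lc_c_rc_13_2 lc_c_rc_26_2 lc_c_Cert_tree lc_c_rc_13_2 lc_c_rc_14_2 lc_c_rc_11_1 lc_c_rc_11_1 lc_c_rc_13_2 lc_c_rc_13_2 lc_c_rc_11_1 lc_c_rc_13_2 lc_c_Cert_tree lc_c_rc_11_1 lc_c_rc_24_8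 lc_c_rc_7_1 lc_c_rc_13_2 lc_c_rc_13_0 lc_c_rc_26_10 lc_c_rc_7_5 lc_c_rc_26_2 lc_c_rc_7_3 lc_c_rc_7_3 lc_c_rc_26_2 lc_c_Cert_tree lc_c_rc_11_1 lc_c_rc_13_2 lc_c_rc_22_3 lc_c_rc_7_3 lc_c_rc_24_4 lc_c_rc_11_1 lc_c_rc_13_2 lc_c_rc_13_2 lc_c_Cert_tree lc_c_rc_23_0 lc_c_rc_7_3 lc_c_rc_7_3 lc_c_rc_7_5 lc_c_rc_11_1 lc_c_rc_24_4 lc_c_rc_26_2 lc_c_rc_11_1 lc_c_rc_26_8 lc_c_rc_11_1 lc_c_rc_22_3 lc_c_rc_7_5 lc_c_rc_24_2 lc_c_rc_7_5 lc_c_rc_11_1 lc_c_rc_23_5 lc_c_rc_2_3 lc_c_rc_11_1 lc_c_rc_13_2 lc_c_rc_13_0 lc_c_rc_11_1 lc_c_rc_13_2 lc_c_rc_11_1 lc_c_rc_13_2 lc_c_rc_26_8 lc_c_rc_11_1 lc_c_rc_25_9 lc_c_rc_11_1) (@D3.rec (fun _ => (Cert rels S Gen.c)) lc_c_rc_11_1 lc_c_rc_12_0 lc_c_rc_26_4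 lc_c_rc_13_2 lc_c_rc_26_10 lc_c_rc_11_1 lc_c_rc_24_4 lc_c_rc_26_10 lc_c_rc_11_1 lc_c_rc_23_0 lc_c_rc_22_3 lc_c_rc_13_2 lc_c_rc_26_10 lc_c_rc_13_0 lc_c_rc_7_5 lc_c_rc_14_2 lc_c_Cert_tree lc_c_rc_11_1 lc_c_rc_11_1 lc_c_rc_23_5 lc_c_rc_23_0 lc_c_rc_26_4 lc_c_rc_23_5 lc_c_rc_11_1 lc_c_Cert_tree lc_c_rc_13_2 lc_c_rc_26_8 lc_c_rc_26_2 lc_c_rc_26_8 lc_c_rc_25_9 lc_c_rc_22_9 lc_c_rc_11_1 lc_c_rc_26_4 lc_c_rc_13_2 lc_c_Cert_tree lc_c_Cert_tree lc_c_rc_2_1 lc_c_rc_7_1 lc_c_rc_11_1 lc_c_rc_24_4 lc_c_rc_22_7 lc_c_rc_14_2 lc_c_Cert_tree lc_c_rc_11_1 lc_c_rc_26_10 lc_c_rc_13_2 lc_c_rc_11_1 lc_c_rc_26_4 lc_c_rc_11_1 lc_c_rc_2_3 lc_c_rc_13_2 lc_c_rc_13_2 lc_c_rc_26_4 lc_c_rc_26_2 lc_c_rc_26_10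 lc_c_rc_11_1 lc_c_rc_13_2 lc_c_rc_11_1 lc_c_Cert_tree lc_c_rc_12_0 lc_c_rc_11_1 lc_c_rc_26_2) (@D3.rec (fun _ => (Cert rels S Gen.c)) lc_c_rc_13_2 lc_c_Cert_tree lc_c_Cert_tree lc_c_rc_11_1 lc_c_rc_11_1 lc_c_rc_23_0 lc_c_rc_7_3 lc_c_rc_24_6 lc_c_rc_14_2 lc_c_rc_26_4 lc_c_rc_11_1 lc_c_rc_26_10 lc_c_rc_14_2 lc_c_rc_22_3 lc_c_rc_14_2 lc_c_rc_26_2 lc_c_rc_25_5 lc_c_rc_24_8 lc_c_rc_25_17 lc_c_rc_11_1 lc_c_rc_14_2 lc_c_rc_26_10 lc_c_rc_11_1 lc_c_Cert_tree lc_c_rc_7_3 lc_c_rc_13_2 lc_c_rc_26_8 lc_c_rc_12_2 lc_c_rc_11_1 lc_c_rc_13_2 lc_c_Cert_tree lc_c_rc_11_1 lc_c_rc_13_2 lc_c_rc_11_1 lc_c_rc_11_1 lc_c_rc_7_3 lc_c_rc_14_2 lc_c_rc_7_3 lc_c_Cert_tree lc_c_rc_11_1 lc_c_rc_12_14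 lc_c_rc_11_1 lc_c_rc_7_5 lc_c_Cert_tree lc_c_rc_11_1 lc_c_rc_13_2 lc_c_rc_11_1 lc_c_rc_22_5 lc_c_rc_2_3 lc_c_rc_11_1 lc_c_rc_7_1 lc_c_rc_22_7 lc_c_rc_14_2 lc_c_rc_2_3 lc_c_rc_11_1 lc_c_rc_11_1 lc_c_rc_7_3 lc_c_rc_23_5 lc_c_rc_11_1 lc_c_rc_13_2 lc_c_rc_13_0 lc_c_rc_14_2) (@D3.rec (fun _ => (Cert rels S Gen.c)) lc_c_rc_26_4 lc_c_rc_13_2 lc_c_rc_23_0 lc_c_rc_22_5 lc_c_rc_22_3 lc_c_rc_7_3 lc_c_rc_13_2 lc_c_rc_26_4 lc_c_rc_26_4 lc_c_rc_13_2 lc_c_rc_24_4 lc_c_rc_11_1 lc_c_rc_24_4 lc_c_rc_7_1 lc_c_rc_13_2 lc_c_Cert_tree lc_c_rc_24_2 lc_c_rc_11_1 lc_c_rc_7_3 lc_c_rc_13_2 lc_c_rc_24_4 lc_c_rc_22_3 lc_c_rc_14_2 lc_c_rc_13_2 lc_c_Cert_tree lc_c_rc_13_0 lc_c_rc_2_1 lc_c_Cert_tree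 lc_c_rc_11_1 lc_c_rc_13_2 lc_c_rc_13_2 lc_c_rc_24_6 lc_c_Cert_tree lc_c_rc_11_1 lc_c_rc_22_5 lc_c_Cert_tree lc_c_rc_7_3 lc_c_rc_13_2 lc_c_rc_23_5 lc_c_rc_22_3 lc_c_rc_22_3 lc_c_rc_13_2 lc_c_rc_13_2 lc_c_rc_26_2 lc_c_rc_13_2 lc_c_Cert_tree lc_c_rc_13_0 lc_c_rc_24_6 lc_c_rc_11_1 lc_c_rc_11_1 lc_c_rc_23_5 lc_c_rc_23_5 lc_c_rc_13_2 lc_c_rc_24_2 lc_c_rc_24_2 lc_c_rc_24_8 lc_c_rc_26_8 lc_c_rc_13_2 lc_c_rc_26_2 lc_c_rc_26_8 lc_c_rc_11_1 lc_c_rc_13_2) (@D3.rec (fun _ => (Cert rels S Gen.c)) lc_c_rc_26_10 lc_c_rc_11_1 lc_c_Cert_tree lc_c_rc_14_2 lc_c_rc_11_1 lc_c_rc_2_3 lc_c_rc_11_1 lc_c_rc_13_2 lc_c_rc_22_7 lc_c_rc_11_1 lc_c_rc_26_8 lc_c_rc_24_4 lc_c_rc_24_4 lc_c_rc_7_3 lc_c_rc_22_9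 lc_c_rc_7_3 lc_c_rc_11_1 lc_c_rc_13_2 lc_c_rc_11_1 lc_c_rc_11_1 lc_c_rc_26_2 lc_c_rc_11_1 lc_c_rc_11_1 lc_c_rc_11_1 lc_c_rc_14_2 lc_c_rc_13_0 lc_c_rc_11_1 lc_c_rc_24_2 lc_c_rc_24_8 lc_c_rc_26_10 lc_c_rc_14_2 lc_c_rc_11_1 lc_c_rc_23_0 lc_c_rc_26_2 lc_c_rc_2_3 lc_c_rc_13_0 lc_c_rc_22_3 lc_c_Cert_tree lc_c_rc_24_4 lc_c_rc_26_10 lc_c_rc_2_1 lc_c_rc_13_2 lc_c_rc_11_1 lc_c_rc_14_2 lc_c_rc_13_2 lc_c_rc_26_10 lc_c_rc_14_2 lc_c_rc_2_1 lc_c_rc_11_1 lc_c_rc_14_0 lc_c_rc_11_1 lc_c_rc_13_2 lc_c_rc_25_5 lc_c_rc_7_5 lc_c_rc_11_1 lc_c_rc_25_5 lc_c_rc_2_3 lc_c_rc_11_1 lc_c_rc_13_2 lc_c_Cert_tree lc_c_Cert_tree lc_c_rc_14_2) (@D3.rec (fun _ => (Cert rels S Gen.c)) lc_c_rc_11_1 lc_c_rc_26_8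 lc_c_rc_13_2 lc_c_rc_22_3 lc_c_rc_13_2 lc_c_rc_11_1 lc_c_rc_13_2 lc_c_rc_25_9 lc_c_rc_2_1 lc_c_rc_26_4 lc_c_rc_24_2 lc_c_rc_24_4 lc_c_rc_26_2 lc_c_rc_11_1 lc_c_rc_13_2 lc_c_rc_12_12 lc_c_rc_11_1 lc_c_rc_23_5 lc_c_rc_11_1 lc_c_Cert_tree lc_c_rc_7_3 lc_c_rc_11_1 lc_c_rc_14_2 lc_c_rc_14_2 lc_c_rc_22_3 lc_c_rc_24_2 lc_c_rc_23_5 lc_c_rc_13_2 lc_c_rc_7_3 lc_c_rc_24_2 lc_c_rc_26_4 lc_c_rc_22_3 lc_c_rc_11_1 lc_c_rc_13_2 lc_c_rc_7_1 lc_c_rc_13_2 lc_c_rc_7_3 lc_c_rc_7_3 lc_c_rc_13_2 lc_c_Cert_tree lc_c_rc_22_5 lc_c_rc_24_2 lc_c_rc_13_2 lc_c_rc_22_7 lc_c_rc_22_3 lc_c_rc_7_5 lc_c_rc_2_3 lc_c_rc_13_2 lc_c_rc_7_3 lc_c_rc_7_3 lc_c_rc_13_2 lc_c_rc_7_5 lc_c_rc_26_4 lc_c_Cert_tree lc_c_rc_13_2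 lc_c_rc_13_2 lc_c_rc_13_0 lc_c_rc_7_3 lc_c_Cert_tree lc_c_rc_26_2 lc_c_rc_11_1 lc_c_rc_23_0) (@D3.rec (fun _ => (Cert rels S Gen.c)) lc_c_rc_24_8 lc_c_rc_24_8 lc_c_rc_14_2 lc_c_rc_25_13 lc_c_rc_13_2 lc_c_rc_26_2 lc_c_Cert_tree lc_c_rc_13_2 lc_c_rc_25_5 lc_c_rc_13_2 lc_c_rc_22_3 lc_c_rc_11_1 lc_c_rc_11_1 lc_c_Cert_tree lc_c_rc_11_1 lc_c_rc_13_2 lc_c_rc_7_3 lc_c_rc_25_17 lc_c_rc_14_2 lc_c_rc_26_10 lc_c_rc_22_5 lc_c_rc_13_2 lc_c_rc_2_3 lc_c_rc_13_2 lc_c_rc_11_1 lc_c_rc_11_1 lc_c_rc_13_2 lc_c_rc_11_1 lc_c_rc_22_7 lc_c_rc_7_3 lc_c_rc_14_2 lc_c_rc_26_8 lc_c_rc_11_1 lc_c_rc_22_3 lc_c_Cert_tree lc_c_rc_26_2 lc_c_rc_11_1 lc_c_rc_13_2 lc_c_rc_11_1 lc_c_rc_26_2 lc_c_rc_7_3 lc_c_rc_22_3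 lc_c_rc_7_3 lc_c_rc_13_2 lc_c_rc_26_8 lc_c_rc_13_2 lc_c_rc_26_10 lc_c_rc_11_1 lc_c_rc_11_1 lc_c_rc_13_2 lc_c_rc_7_1 lc_c_rc_26_10 lc_c_rc_24_8 lc_c_rc_26_4 lc_c_rc_7_1 lc_c_rc_13_2 lc_c_rc_26_10 lc_c_rc_11_1 lc_c_rc_14_2 lc_c_rc_7_1 lc_c_rc_2_3 lc_c_rc_25_13) (@D3.rec (fun _ => (Cert rels S Gen.c)) lc_c_rc_14_2 lc_c_rc_13_2 lc_c_Cert_tree lc_c_Cert_tree lc_c_rc_11_1 lc_c_rc_13_2 lc_c_rc_7_3 lc_c_rc_11_1 lc_c_rc_11_1 lc_c_rc_13_2 lc_c_Cert_tree lc_c_rc_26_8 lc_c_rc_23_5 lc_c_rc_13_2 lc_c_rc_24_2 lc_c_rc_11_1 lc_c_rc_24_8 lc_c_rc_23_0 lc_c_rc_11_1 lc_c_rc_23_5 lc_c_rc_7_3 lc_c_rc_7_5 lc_c_rc_13_0 lc_c_rc_2_3 lc_c_rc_24_4 lc_c_rc_11_1 lc_c_rc_13_2 lc_c_rc_13_2 lc_c_rc_11_1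 lc_c_rc_13_0 lc_c_rc_11_1 lc_c_rc_11_1 lc_c_rc_11_1 lc_c_rc_13_2 lc_c_rc_11_1 lc_c_rc_22_3 lc_c_rc_13_2 lc_c_rc_24_6 lc_c_rc_11_1 lc_c_rc_7_3 lc_c_Cert_tree lc_c_rc_14_2 lc_c_rc_22_9 lc_c_rc_13_2 lc_c_rc_11_1 lc_c_rc_24_4 lc_c_rc_22_5 lc_c_rc_13_2 lc_c_rc_7_3 lc_c_rc_22_5 lc_c_rc_26_4 lc_c_rc_25_1 lc_c_rc_25_1 lc_c_rc_14_2 lc_c_rc_13_0 lc_c_rc_13_2 lc_c_rc_23_5 lc_c_rc_14_2 lc_c_rc_13_2 lc_c_rc_26_2 lc_c_rc_11_1 lc_c_rc_13_2) (@D3.rec (fun _ => (Cert rels S Gen.c)) lc_c_rc_25_17 lc_c_rc_11_1 lc_c_rc_11_1 lc_c_rc_13_2 lc_c_rc_24_4 lc_c_rc_22_3 lc_c_rc_13_2 lc_c_rc_11_1 lc_c_rc_13_2 lc_c_rc_24_4 lc_c_rc_23_0 lc_c_rc_11_1 lc_c_rc_13_0 lc_c_rc_23_5 lc_c_rc_11_1 lc_c_rc_2_3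 lc_c_rc_13_2 lc_c_rc_2_1 lc_c_rc_26_4 lc_c_rc_11_1 lc_c_rc_14_2 lc_c_rc_2_3 lc_c_rc_2_1 lc_c_rc_22_3 lc_c_Cert_tree lc_c_rc_2_3 lc_c_Cert_tree lc_c_rc_11_1 lc_c_rc_14_2 lc_c_rc_23_0 lc_c_rc_7_1 lc_c_rc_26_2 lc_c_rc_26_8 lc_c_rc_11_1 lc_c_rc_13_2 lc_c_rc_26_2 lc_c_rc_13_2 lc_c_rc_11_1 lc_c_rc_13_2 lc_c_rc_2_3 lc_c_Cert_tree lc_c_rc_13_2 lc_c_rc_26_8 lc_c_rc_11_1 lc_c_rc_24_8 lc_c_rc_26_8 lc_c_rc_11_1 lc_c_rc_11_1 lc_c_rc_23_0 lc_c_rc_11_1 lc_c_rc_24_4 lc_c_rc_7_3 lc_c_rc_11_1 lc_c_rc_23_0 lc_c_rc_11_1 lc_c_rc_13_2 lc_c_rc_13_2 lc_c_rc_22_3 lc_c_rc_14_2 lc_c_rc_14_2 lc_c_rc_11_1 lc_c_rc_7_3) (@D3.rec (fun _ => (Cert rels S Gen.c)) lc_c_rc_13_2 lc_c_Cert_tree lc_c_rc_13_2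 lc_c_rc_13_2 lc_c_rc_23_0 lc_c_rc_22_3 lc_c_rc_22_3 lc_c_rc_11_1 lc_c_rc_11_1 lc_c_rc_11_1 lc_c_rc_13_2 lc_c_rc_2_1 lc_c_rc_7_5 lc_c_rc_24_8 lc_c_rc_14_2 lc_c_rc_11_1 lc_c_rc_13_2 lc_c_rc_23_5 lc_c_rc_24_4 lc_c_rc_23_5 lc_c_rc_11_1 lc_c_Cert_tree lc_c_rc_11_1 lc_c_rc_13_2 lc_c_rc_24_2 lc_c_rc_13_2 lc_c_rc_24_4 lc_c_rc_11_1 lc_c_rc_7_3 lc_c_rc_22_9 lc_c_rc_14_2 lc_c_rc_26_4 lc_c_rc_13_0 lc_c_rc_7_5 lc_c_rc_22_7 lc_c_rc_23_0 lc_c_rc_24_2 lc_c_rc_14_0 lc_c_rc_26_2 lc_c_rc_11_1 lc_c_rc_23_0 lc_c_rc_13_2 lc_c_rc_24_6 lc_c_Cert_tree lc_c_rc_23_5 lc_c_rc_13_2 lc_c_rc_22_3 lc_c_Cert_tree lc_c_Cert_tree lc_c_rc_2_3 lc_c_rc_24_6 lc_c_rc_22_3 lc_c_rc_13_2 lc_c_rc_13_2 lc_c_Cert_tree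 lc_c_rc_11_1 lc_c_rc_2_3 lc_c_rc_11_1 lc_c_rc_14_2 lc_c_rc_26_8 lc_c_rc_26_2 lc_c_rc_11_1) (@D3.rec (fun _ => (Cert rels S Gen.c)) lc_c_rc_7_3 lc_c_rc_13_2 lc_c_Cert_tree lc_c_Cert_tree lc_c_Cert_tree lc_c_rc_11_1 lc_c_rc_26_2 lc_c_rc_11_1 lc_c_Cert_tree lc_c_Cert_tree lc_c_rc_11_1 lc_c_rc_11_1 lc_c_rc_22_7 lc_c_rc_14_2 lc_c_rc_13_2 lc_c_rc_13_2 lc_c_rc_14_2 lc_c_rc_7_3 lc_c_rc_22_3 lc_c_rc_13_2 lc_c_Cert_tree lc_c_Cert_tree lc_c_rc_13_2 lc_c_Cert_tree lc_c_Cert_tree lc_c_rc_2_3 lc_c_rc_7_1 lc_c_rc_13_2 lc_c_rc_11_1 lc_c_rc_13_2 lc_c_rc_11_1 lc_c_rc_13_2 lc_c_rc_23_0 lc_c_rc_11_1 lc_c_rc_23_0 lc_c_rc_11_1 lc_c_rc_13_2 lc_c_rc_11_1 lc_c_rc_11_1 lc_c_rc_7_3 lc_c_rc_22_5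 lc_c_rc_13_2 lc_c_Cert_tree lc_c_rc_2_1 lc_c_rc_14_2 lc_c_rc_26_4 lc_c_rc_24_4 lc_c_rc_26_8 lc_c_Cert_tree lc_c_Cert_tree lc_c_rc_2_3 lc_c_rc_11_1 lc_c_rc_22_3 lc_c_rc_24_4 lc_c_rc_7_5 lc_c_rc_11_1 lc_c_rc_2_1 lc_c_rc_26_2 lc_c_rc_11_1 lc_c_rc_11_1 lc_c_rc_7_1 lc_c_rc_23_5) (@D3.rec (fun _ => (Cert rels S Gen.c)) lc_c_rc_13_2 lc_c_rc_24_4 lc_c_Cert_tree lc_c_rc_13_0 lc_c_rc_2_3 lc_c_rc_7_5 lc_c_rc_13_2 lc_c_rc_13_2 lc_c_rc_7_3 lc_c_rc_22_3 lc_c_rc_22_5 lc_c_rc_13_0 lc_c_rc_7_5 lc_c_rc_23_5 lc_c_rc_13_2 lc_c_rc_13_2 lc_c_rc_24_4 lc_c_rc_7_1 lc_c_rc_11_1 lc_c_rc_7_1 lc_c_Cert_tree lc_c_rc_13_2 lc_c_rc_12_2 lc_c_rc_14_0 lc_c_rc_26_10 lc_c_rc_24_6 lc_c_rc_13_0 lc_c_rc_26_2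 lc_c_rc_13_2 lc_c_rc_24_2 lc_c_rc_23_0 lc_c_rc_23_5 lc_c_rc_11_1 lc_c_rc_25_17 lc_c_rc_23_5 lc_c_rc_12_4 lc_c_Cert_tree lc_c_rc_11_1 lc_c_rc_24_6 lc_c_rc_22_5 lc_c_rc_2_3 lc_c_rc_13_2 lc_c_rc_14_2 lc_c_rc_14_2 lc_c_rc_14_2 lc_c_rc_26_2 lc_c_rc_11_1 lc_c_rc_23_5 lc_c_rc_23_0 lc_c_rc_2_1 lc_c_Cert_tree lc_c_rc_11_1 lc_c_rc_13_2 lc_c_rc_24_4 lc_c_rc_24_4 lc_c_rc_24_6 lc_c_rc_11_1 lc_c_rc_13_2 lc_c_rc_13_2 lc_c_rc_11_1 lc_c_rc_24_4 lc_c_rc_26_10) (@D3.rec (fun _ => (Cert rels S Gen.c)) lc_c_rc_26_10 lc_c_rc_13_0 lc_c_rc_11_1 lc_c_rc_23_5 lc_c_rc_11_1 lc_c_rc_11_1 lc_c_rc_23_5 lc_c_rc_13_2 lc_c_rc_26_8 lc_c_rc_2_3 lc_c_Cert_tree lc_c_Cert_tree lc_c_rc_24_2 lc_c_rc_13_0 lc_c_rc_26_8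 lc_c_rc_11_1 lc_c_rc_13_2 lc_c_rc_13_0 lc_c_rc_13_2 lc_c_rc_24_8 lc_c_rc_24_8 lc_c_rc_13_2 lc_c_Cert_tree lc_c_rc_11_1 lc_c_rc_22_5 lc_c_Cert_tree lc_c_rc_26_2 lc_c_rc_13_2 lc_c_rc_26_10 lc_c_rc_13_2 lc_c_rc_14_0 lc_c_Cert_tree lc_c_rc_11_1 lc_c_rc_23_5 lc_c_rc_11_1 lc_c_rc_13_2 lc_c_rc_22_5 lc_c_rc_23_0 lc_c_rc_11_1 lc_c_rc_13_2 lc_c_rc_13_0 lc_c_rc_23_0 lc_c_rc_26_2 lc_c_rc_22_3 lc_c_rc_7_3 lc_c_rc_11_1 lc_c_rc_25_1 lc_c_rc_11_1 lc_c_Cert_tree lc_c_rc_11_1 lc_c_rc_11_1 lc_c_rc_14_2 lc_c_rc_13_2 lc_c_rc_2_1 lc_c_rc_26_8 lc_c_rc_26_4 lc_c_rc_25_5 lc_c_rc_7_3 lc_c_rc_11_1 lc_c_rc_2_3 lc_c_rc_11_1 lc_c_rc_13_2) (@D3.rec (fun _ => (Cert rels S Gen.c)) lc_c_rc_24_8 lc_c_rc_22_3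 lc_c_rc_13_0 lc_c_rc_13_2 lc_c_rc_7_5 lc_c_rc_11_1 lc_c_rc_12_2 lc_c_rc_13_2 lc_c_rc_7_3 lc_c_rc_7_3 lc_c_rc_13_2 lc_c_rc_22_3 lc_c_rc_12_0 lc_c_rc_23_5 lc_c_rc_11_1 lc_c_rc_2_3 lc_c_rc_13_2 lc_c_rc_13_2 lc_c_Cert_tree lc_c_rc_13_0 lc_c_rc_11_1 lc_c_rc_22_5 lc_c_rc_13_2 lc_c_rc_11_1 lc_c_rc_13_2 lc_c_rc_11_1 lc_c_rc_11_1 lc_c_rc_7_3 lc_c_rc_13_2 lc_c_Cert_tree lc_c_Cert_tree lc_c_Cert_tree lc_c_rc_13_0 lc_c_Cert_tree lc_c_rc_11_1 lc_c_rc_24_6 lc_c_rc_7_5 lc_c_rc_11_1 lc_c_rc_23_5 lc_c_Cert_tree lc_c_rc_23_5 lc_c_Cert_tree lc_c_rc_24_2 lc_c_rc_24_8 lc_c_rc_11_1 lc_c_rc_11_1 lc_c_rc_7_3 lc_c_rc_2_3 lc_c_rc_11_1 lc_c_Cert_tree lc_c_Cert_tree lc_c_rc_11_1 lc_c_rc_26_8 lc_c_rc_2_3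 lc_c_rc_26_10 lc_c_rc_2_3 lc_c_rc_13_2 lc_c_rc_23_5 lc_c_rc_26_4 lc_c_rc_11_1 lc_c_rc_26_4 lc_c_rc_11_1) (@D3.rec (fun _ => (Cert rels S Gen.c)) lc_c_rc_13_2 lc_c_rc_13_2 lc_c_rc_14_2 lc_c_rc_24_4 lc_c_rc_11_1 lc_c_rc_11_1 lc_c_Cert_tree lc_c_rc_11_1 lc_c_rc_24_4 lc_c_rc_11_1 lc_c_rc_14_2 lc_c_rc_26_4 lc_c_rc_14_2 lc_c_rc_13_2 lc_c_rc_7_5 lc_c_rc_24_4 lc_c_rc_13_2 lc_c_rc_11_1 lc_c_rc_11_1 lc_c_rc_13_2 lc_c_rc_7_3 lc_c_rc_13_2 lc_c_rc_7_3 lc_c_rc_11_1 lc_c_rc_13_2 lc_c_rc_26_10 lc_c_rc_11_1 lc_c_rc_14_0 lc_c_rc_7_1 lc_c_rc_13_0 lc_c_rc_23_0 lc_c_rc_14_2 lc_c_rc_11_1 lc_c_Cert_tree lc_c_Cert_tree lc_c_rc_7_3 lc_c_rc_11_1 lc_c_rc_13_2 lc_c_rc_22_5 lc_c_rc_11_1 lc_c_rc_7_5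 lc_c_Cert_tree lc_c_rc_2_3 lc_c_rc_11_1 lc_c_rc_14_2 lc_c_rc_2_3 lc_c_rc_24_2 lc_c_Cert_tree lc_c_rc_11_1 lc_c_rc_11_1 lc_c_rc_11_1 lc_c_rc_26_4 lc_c_rc_7_3 lc_c_rc_11_1 lc_c_rc_26_4 lc_c_rc_13_2 lc_c_rc_13_2 lc_c_rc_22_5 lc_c_rc_12_2 lc_c_rc_11_1 lc_c_rc_13_2 lc_c_rc_13_2) (@D3.rec (fun _ => (Cert rels S Gen.c)) lc_c_rc_2_3 lc_c_rc_13_2 lc_c_rc_23_0 lc_c_rc_14_2 lc_c_rc_2_3 lc_c_Cert_tree lc_c_rc_11_1 lc_c_Cert_tree lc_c_rc_26_8 lc_c_rc_11_1 lc_c_rc_25_9 lc_c_rc_26_2 lc_c_rc_11_1 lc_c_rc_23_0 lc_c_rc_13_2 lc_c_rc_26_2 lc_c_rc_26_4 lc_c_rc_13_0 lc_c_rc_26_4 lc_c_Cert_tree lc_c_rc_26_10 lc_c_rc_13_0 lc_c_rc_11_1 lc_c_rc_11_1 lc_c_rc_11_1 lc_c_rc_2_3 lc_c_rc_13_2 lc_c_rc_11_1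 lc_c_rc_22_3 lc_c_Cert_tree lc_c_rc_11_1 lc_c_rc_25_9 lc_c_rc_24_2 lc_c_rc_13_2 lc_c_rc_11_1 lc_c_rc_26_10 lc_c_rc_22_3 lc_c_Cert_tree lc_c_rc_26_10 lc_c_Cert_tree lc_c_Cert_tree lc_c_rc_11_1 lc_c_rc_26_2 lc_c_rc_2_3 lc_c_Cert_tree lc_c_rc_13_2 lc_c_rc_26_4 lc_c_rc_24_2 lc_c_rc_13_2 lc_c_rc_22_7 lc_c_rc_23_0 lc_c_rc_11_1 lc_c_rc_25_5 lc_c_rc_26_2 lc_c_rc_11_1 lc_c_rc_26_4 lc_c_rc_11_1 lc_c_rc_13_2 lc_c_rc_26_4 lc_c_rc_13_2 lc_c_Cert_tree lc_c_rc_11_1) (@D3.rec (fun _ => (Cert rels S Gen.c)) lc_c_rc_22_7 lc_c_rc_11_1 lc_c_rc_13_2 lc_c_rc_26_4 lc_c_rc_11_1 lc_c_rc_7_1 lc_c_rc_11_1 lc_c_rc_26_2 lc_c_rc_11_1 lc_c_rc_13_2 lc_c_rc_23_5 lc_c_rc_14_2 lc_c_rc_26_4 lc_c_rc_25_9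 lc_c_rc_23_5 lc_c_rc_11_1 lc_c_rc_11_1 lc_c_rc_11_1 lc_c_rc_7_1 lc_c_rc_11_1 lc_c_Cert_tree lc_c_rc_23_5 lc_c_rc_25_13 lc_c_rc_11_1 lc_c_rc_11_1 lc_c_rc_13_2 lc_c_rc_14_2 lc_c_rc_26_4 lc_c_rc_7_5 lc_c_rc_2_3 lc_c_rc_11_1 lc_c_rc_12_2 lc_c_rc_22_9 lc_c_rc_13_2 lc_c_rc_24_6 lc_c_rc_13_0 lc_c_Cert_tree lc_c_rc_7_5 lc_c_rc_11_1 lc_c_rc_11_1 lc_c_rc_13_2 lc_c_rc_26_4 lc_c_rc_13_2 lc_c_Cert_tree lc_c_Cert_tree lc_c_rc_14_2 lc_c_rc_13_2 lc_c_rc_23_0 lc_c_rc_26_2 lc_c_rc_2_1 lc_c_rc_13_2 lc_c_rc_26_4 lc_c_rc_22_5 lc_c_rc_13_2 lc_c_rc_22_9 lc_c_rc_13_2 lc_c_rc_13_2 lc_c_rc_26_10 lc_c_rc_23_0 lc_c_rc_11_1 lc_c_Cert_tree lc_c_Cert_tree) (@D3.rec (fun _ => (Cert rels S Gen.c)) lc_c_Cert_tree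 lc_c_rc_7_3 lc_c_Cert_tree lc_c_rc_11_1 lc_c_rc_13_2 lc_c_rc_2_3 lc_c_rc_14_2 lc_c_rc_12_0 lc_c_rc_23_0 lc_c_rc_22_5 lc_c_rc_22_3 lc_c_rc_11_1 lc_c_rc_26_2 lc_c_rc_22_5 lc_c_rc_11_1 lc_c_rc_23_0 lc_c_rc_2_3 lc_c_rc_11_1 lc_c_rc_11_1 lc_c_rc_7_3 lc_c_rc_11_1 lc_c_rc_13_0 lc_c_rc_14_2 lc_c_rc_24_2 lc_c_rc_26_8 lc_c_rc_11_1 lc_c_rc_14_2 lc_c_rc_11_1 lc_c_rc_11_1 lc_c_rc_22_3 lc_c_rc_26_8 lc_c_rc_11_1 lc_c_rc_13_2 lc_c_Cert_tree lc_c_rc_7_3 lc_c_Cert_tree lc_c_rc_13_2 lc_c_rc_11_1 lc_c_rc_23_0 lc_c_rc_26_4 lc_c_rc_14_2 lc_c_rc_11_1 lc_c_rc_14_0 lc_c_rc_24_4 lc_c_rc_23_0 lc_c_rc_7_5 lc_c_rc_14_2 lc_c_rc_11_1 lc_c_rc_11_1 lc_c_rc_11_1 lc_c_rc_7_5 lc_c_rc_13_2 lc_c_rc_7_1 lc_c_rc_23_0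 lc_c_rc_23_5 lc_c_rc_22_7 lc_c_rc_14_2 lc_c_Cert_tree lc_c_Cert_tree lc_c_Cert_tree lc_c_rc_13_2 lc_c_Cert_tree) (@D3.rec (fun _ => (Cert rels S Gen.c)) lc_c_rc_11_1 lc_c_rc_26_8 lc_c_rc_11_1 lc_c_rc_26_10 lc_c_rc_13_0 lc_c_rc_23_5 lc_c_rc_13_2 lc_c_rc_13_2 lc_c_rc_13_2 lc_c_rc_11_1 lc_c_rc_7_3 lc_c_rc_13_2 lc_c_rc_23_5 lc_c_rc_13_2 lc_c_rc_24_2 lc_c_rc_11_1 lc_c_rc_24_4 lc_c_rc_11_1 lc_c_rc_13_2 lc_c_rc_11_1 lc_c_rc_26_4 lc_c_rc_13_2 lc_c_rc_14_2 lc_c_Cert_tree lc_c_rc_13_2 lc_c_rc_23_0 lc_c_rc_24_2 lc_c_rc_11_1 lc_c_rc_7_5 lc_c_rc_23_0 lc_c_rc_7_1 lc_c_rc_13_2 lc_c_rc_13_2 lc_c_rc_7_5 lc_c_rc_11_1 lc_c_rc_11_1 lc_c_Cert_tree lc_c_rc_23_5 lc_c_rc_23_0 lc_c_rc_11_1 lc_c_rc_13_2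 lc_c_rc_11_1 lc_c_rc_14_2 lc_c_rc_13_2 lc_c_rc_24_8 lc_c_rc_23_0 lc_c_rc_14_2 lc_c_rc_13_2 lc_c_rc_11_1 lc_c_rc_26_10 lc_c_rc_7_3 lc_c_rc_26_4 lc_c_rc_2_3 lc_c_rc_25_9 lc_c_rc_13_2 lc_c_rc_24_2 lc_c_rc_26_10 lc_c_rc_13_2 lc_c_rc_14_2 lc_c_rc_14_0 lc_c_rc_2_1 lc_c_rc_23_0) (@D3.rec (fun _ => (Cert rels S Gen.c)) lc_c_rc_13_2 lc_c_rc_7_3 lc_c_rc_13_2 lc_c_rc_26_2 lc_c_rc_13_0 lc_c_rc_13_2 lc_c_rc_22_7 lc_c_rc_13_2 lc_c_rc_11_1 lc_c_rc_11_1 lc_c_rc_26_4 lc_c_rc_26_4 lc_c_Cert_tree lc_c_rc_13_2 lc_c_rc_13_0 lc_c_rc_13_2 lc_c_Cert_tree lc_c_Cert_tree lc_c_rc_11_1 lc_c_rc_26_2 lc_c_rc_7_3 lc_c_rc_14_2 lc_c_rc_26_10 lc_c_rc_11_1 lc_c_rc_26_2 lc_c_rc_11_1 lc_c_rc_22_3 lc_c_rc_11_1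 lc_c_rc_13_2 lc_c_rc_23_0 lc_c_rc_22_5 lc_c_rc_26_2 lc_c_rc_11_1 lc_c_rc_11_1 lc_c_Cert_tree lc_c_rc_11_1 lc_c_rc_13_2 lc_c_rc_25_17 lc_c_rc_11_1 lc_c_rc_24_6 lc_c_rc_13_2 lc_c_rc_24_4 lc_c_rc_13_2 lc_c_Cert_tree lc_c_rc_11_1 lc_c_rc_13_2 lc_c_rc_11_1 lc_c_rc_23_0 lc_c_rc_23_0 lc_c_rc_14_2 lc_c_Cert_tree lc_c_rc_11_1 lc_c_rc_13_2 lc_c_rc_14_2 lc_c_Cert_tree lc_c_rc_11_1 lc_c_rc_22_7 lc_c_rc_23_0 lc_c_rc_13_0 lc_c_rc_14_2 lc_c_Cert_tree lc_c_rc_11_1) (@D3.rec (fun _ => (Cert rels S Gen.c)) lc_c_rc_7_5 lc_c_rc_13_2 lc_c_rc_26_10 lc_c_rc_26_8 lc_c_rc_11_1 lc_c_rc_11_1 lc_c_rc_7_1 lc_c_rc_11_1 lc_c_rc_11_1 lc_c_Cert_tree lc_c_rc_11_1 lc_c_Cert_tree lc_c_rc_11_1 lc_c_rc_24_2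 lc_c_rc_11_1 lc_c_rc_11_1 lc_c_rc_23_0 lc_c_rc_23_0 lc_c_rc_11_1 lc_c_rc_13_2 lc_c_rc_11_1 lc_c_rc_24_4 lc_c_rc_13_0 lc_c_rc_11_1 lc_c_rc_11_1 lc_c_rc_11_1 lc_c_rc_22_5 lc_c_rc_11_1 lc_c_Cert_tree lc_c_rc_7_5 lc_c_rc_11_1 lc_c_rc_24_4 lc_c_rc_11_1 lc_c_rc_22_3 lc_c_rc_24_2 lc_c_rc_26_4 lc_c_rc_13_2 lc_c_rc_7_3 lc_c_rc_22_5 lc_c_rc_11_1 lc_c_rc_13_2 lc_c_rc_7_3 lc_c_rc_13_2 lc_c_rc_7_5 lc_c_rc_22_9 lc_c_rc_24_4 lc_c_rc_25_5 lc_c_Cert_tree lc_c_rc_13_2 lc_c_Cert_tree lc_c_rc_13_0 lc_c_rc_11_1 lc_c_rc_13_2 lc_c_rc_23_5 lc_c_rc_11_1 lc_c_rc_7_3 lc_c_rc_13_2 lc_c_rc_13_2 lc_c_rc_7_5 lc_c_rc_14_2 lc_c_rc_11_1 lc_c_rc_13_2) (@D3.rec (fun _ => (Cert rels S Gen.c)) lc_c_rc_7_1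 lc_c_rc_13_2 lc_c_rc_11_1 lc_c_rc_13_0 lc_c_Cert_tree lc_c_rc_14_2 lc_c_rc_26_2 lc_c_rc_11_1 lc_c_rc_13_2 lc_c_rc_7_1 lc_c_rc_13_2 lc_c_rc_14_2 lc_c_rc_13_2 lc_c_rc_14_2 lc_c_rc_11_1 lc_c_rc_7_3 lc_c_rc_26_4 lc_c_rc_13_2 lc_c_rc_24_8 lc_c_rc_26_2 lc_c_rc_13_2 lc_c_rc_13_2 lc_c_Cert_tree lc_c_rc_14_2 lc_c_rc_26_2 lc_c_rc_26_4 lc_c_rc_11_1 lc_c_rc_26_2 lc_c_rc_13_0 lc_c_rc_13_2 lc_c_rc_26_10 lc_c_Cert_tree lc_c_Cert_tree lc_c_rc_11_1 lc_c_rc_26_4 lc_c_rc_7_3 lc_c_rc_26_2 lc_c_rc_11_1 lc_c_rc_24_2 lc_c_rc_26_4 lc_c_rc_7_5 lc_c_rc_14_2 lc_c_rc_7_5 lc_c_rc_11_1 lc_c_rc_14_2 lc_c_rc_13_2 lc_c_rc_11_1 lc_c_rc_13_2 lc_c_rc_11_1 lc_c_rc_11_1 lc_c_rc_13_2 lc_c_rc_26_2 lc_c_rc_11_1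 lc_c_rc_22_3 lc_c_Cert_tree lc_c_rc_11_1 lc_c_rc_13_2 lc_c_rc_11_1 lc_c_rc_22_3 lc_c_rc_2_3 lc_c_rc_11_1 lc_c_rc_13_2) (@D3.rec (fun _ => (Cert rels S Gen.c)) lc_c_rc_11_1 lc_c_Cert_tree lc_c_rc_13_2 lc_c_rc_23_5 lc_c_rc_23_0 lc_c_rc_2_3 lc_c_rc_22_7 lc_c_rc_11_1 lc_c_rc_22_3 lc_c_rc_2_3 lc_c_Cert_tree lc_c_rc_23_5 lc_c_rc_13_2 lc_c_rc_13_2 lc_c_rc_11_1 lc_c_rc_11_1 lc_c_rc_7_3 lc_c_rc_11_1 lc_c_rc_24_2 lc_c_rc_14_2 lc_c_rc_13_0 lc_c_rc_14_2 lc_c_rc_26_8 lc_c_rc_14_2 lc_c_rc_11_1 lc_c_rc_13_0 lc_c_rc_14_0 lc_c_rc_13_0 lc_c_rc_2_3 lc_c_rc_14_2 lc_c_rc_11_1 lc_c_rc_11_1 lc_c_Cert_tree lc_c_rc_26_10 lc_c_rc_26_8 lc_c_Cert_tree lc_c_rc_13_2 lc_c_Cert_tree lc_c_rc_7_5 lc_c_rc_11_1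 lc_c_rc_7_3 lc_c_rc_23_5 lc_c_rc_11_1 lc_c_rc_22_3 lc_c_rc_11_1 lc_c_rc_26_8 lc_c_rc_23_5 lc_c_rc_13_2 lc_c_rc_24_2 lc_c_rc_23_0 lc_c_rc_26_8 lc_c_rc_26_4 lc_c_rc_24_6 lc_c_rc_13_2 lc_c_rc_23_5 lc_c_rc_24_8 lc_c_rc_11_1 lc_c_rc_23_0 lc_c_rc_26_8 lc_c_rc_26_10 lc_c_rc_11_1 lc_c_rc_14_2) (@D3.rec (fun _ => (Cert rels S Gen.c)) lc_c_rc_7_1 lc_c_rc_11_1 lc_c_rc_14_0 lc_c_rc_14_2 lc_c_rc_24_2 lc_c_rc_23_0 lc_c_rc_24_2 lc_c_rc_24_6 lc_c_rc_11_1 lc_c_rc_14_2 lc_c_rc_26_10 lc_c_rc_22_5 lc_c_rc_22_7 lc_c_rc_14_2 lc_c_rc_14_2 lc_c_rc_23_5 lc_c_rc_14_2 lc_c_rc_11_1 lc_c_rc_11_1 lc_c_rc_2_1 lc_c_rc_25_1 lc_c_rc_14_2 lc_c_rc_13_2 lc_c_rc_13_2 lc_c_Cert_tree lc_c_rc_11_1 lc_c_rc_14_2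 lc_c_rc_13_2 lc_c_rc_11_1 lc_c_rc_13_2 lc_c_rc_11_1 lc_c_rc_13_2 lc_c_Cert_tree lc_c_rc_11_1 lc_c_rc_13_2 lc_c_rc_11_1 lc_c_rc_23_0 lc_c_rc_11_1 lc_c_rc_11_1 lc_c_rc_7_3 lc_c_rc_22_3 lc_c_Cert_tree lc_c_rc_26_2 lc_c_rc_11_1 lc_c_rc_23_0 lc_c_rc_25_9 lc_c_rc_13_0 lc_c_rc_14_2 lc_c_Cert_tree lc_c_rc_11_1 lc_c_rc_13_2 lc_c_rc_2_3 lc_c_rc_11_1 lc_c_rc_13_2 lc_c_Cert_tree lc_c_rc_11_1 lc_c_rc_7_3 lc_c_rc_14_2 lc_c_rc_26_2 lc_c_rc_11_1 lc_c_rc_23_5 lc_c_rc_14_2) (@D3.rec (fun _ => (Cert rels S Gen.c)) lc_c_rc_11_1 lc_c_rc_13_2 lc_c_rc_7_1 lc_c_rc_13_2 lc_c_Cert_tree lc_c_rc_11_1 lc_c_rc_14_2 lc_c_rc_26_4 lc_c_rc_13_2 lc_c_rc_2_3 lc_c_rc_13_2 lc_c_rc_7_3 lc_c_rc_7_1 lc_c_rc_26_10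 lc_c_rc_22_5 lc_c_rc_14_2 lc_c_rc_26_4 lc_c_rc_11_1 lc_c_rc_7_5 lc_c_rc_11_1 lc_c_rc_23_5 lc_c_rc_7_5 lc_c_rc_2_3 lc_c_rc_11_1 lc_c_rc_7_3 lc_c_rc_13_2 lc_c_rc_24_6 lc_c_rc_11_1 lc_c_rc_2_3 lc_c_rc_23_0 lc_c_rc_26_2 lc_c_rc_11_1 lc_c_rc_13_2 lc_c_rc_23_5 lc_c_rc_11_1 lc_c_rc_11_1 lc_c_rc_22_3 lc_c_rc_22_5 lc_c_rc_26_2 lc_c_rc_2_3 lc_c_rc_11_1 lc_c_rc_23_0 lc_c_rc_26_10 lc_c_rc_11_1 lc_c_rc_14_2 lc_c_rc_11_1 lc_c_rc_26_4 lc_c_rc_24_8 lc_c_rc_24_8 lc_c_rc_7_5 lc_c_rc_11_1 lc_c_rc_11_1 lc_c_rc_24_6 lc_c_rc_22_3 lc_c_rc_7_5 lc_c_rc_13_2 lc_c_rc_13_0 lc_c_rc_14_2 lc_c_rc_7_1 lc_c_rc_24_8 lc_c_rc_11_1 lc_c_rc_14_2) (@D3.rec (fun _ => (Cert rels S Gen.c)) lc_c_rc_22_3 lc_c_rc_11_1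 lc_c_rc_11_1 lc_c_rc_23_5 lc_c_rc_11_1 lc_c_rc_14_2 lc_c_rc_11_1 lc_c_rc_13_0 lc_c_rc_11_1 lc_c_rc_11_1 lc_c_Cert_tree lc_c_rc_26_2 lc_c_rc_24_4 lc_c_rc_26_2 lc_c_rc_24_2 lc_c_rc_14_2 lc_c_rc_11_1 lc_c_rc_7_5 lc_c_Cert_tree lc_c_rc_13_2 lc_c_Cert_tree lc_c_rc_13_2 lc_c_Cert_tree lc_c_rc_11_1 lc_c_rc_14_2 lc_c_rc_13_2 lc_c_rc_13_0 lc_c_rc_13_2 lc_c_rc_11_1 lc_c_rc_11_1 lc_c_rc_13_2 lc_c_rc_13_2 lc_c_rc_24_4 lc_c_rc_11_1 lc_c_rc_13_2 lc_c_rc_24_2 lc_c_rc_26_4 lc_c_rc_11_1 lc_c_rc_13_2 lc_c_rc_14_2 lc_c_rc_13_2 lc_c_Cert_tree lc_c_Cert_tree lc_c_rc_14_2 lc_c_rc_11_1 lc_c_rc_2_3 lc_c_rc_7_1 lc_c_rc_13_2 lc_c_rc_13_2 lc_c_rc_24_2 lc_c_rc_7_3 lc_c_rc_11_1 lc_c_rc_11_1 lc_c_rc_7_1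 lc_c_rc_13_2 lc_c_rc_22_7 lc_c_rc_14_2 lc_c_rc_11_1 lc_c_rc_13_2 lc_c_rc_7_1 lc_c_rc_13_2 lc_c_Cert_tree) (@D3.rec (fun _ => (Cert rels S Gen.c)) lc_c_rc_13_0 lc_c_rc_2_3 lc_c_rc_23_0 lc_c_rc_13_2 lc_c_rc_26_4 lc_c_rc_22_3 lc_c_Cert_tree lc_c_Cert_tree lc_c_rc_11_1 lc_c_rc_13_2 lc_c_rc_24_4 lc_c_rc_7_3 lc_c_rc_13_2 lc_c_rc_7_5 lc_c_rc_11_1 lc_c_rc_13_0 lc_c_rc_2_3 lc_c_rc_14_2 lc_c_rc_22_3 lc_c_rc_24_2 lc_c_rc_26_2 lc_c_rc_11_1 lc_c_rc_26_4 lc_c_rc_26_10 lc_c_rc_13_2 lc_c_rc_2_3 lc_c_rc_13_0 lc_c_rc_26_4 lc_c_rc_11_1 lc_c_rc_13_2 lc_c_rc_7_3 lc_c_rc_14_2 lc_c_rc_11_1 lc_c_rc_11_1 lc_c_rc_23_5 lc_c_rc_26_2 lc_c_rc_13_2 lc_c_rc_23_0 lc_c_rc_2_1 lc_c_rc_23_5 lc_c_rc_23_0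 lc_c_rc_14_2 lc_c_rc_23_0 lc_c_Cert_tree lc_c_rc_14_2 lc_c_rc_7_5 lc_c_Cert_tree lc_c_rc_26_4 lc_c_rc_11_1 lc_c_Cert_tree lc_c_rc_23_5 lc_c_rc_26_10 lc_c_rc_22_5 lc_c_rc_11_1 lc_c_rc_26_4 lc_c_rc_11_1 lc_c_rc_13_2 lc_c_rc_7_3 lc_c_rc_14_0 lc_c_rc_13_2 lc_c_rc_11_1 lc_c_rc_11_1) (@D3.rec (fun _ => (Cert rels S Gen.c)) lc_c_rc_14_2 lc_c_rc_11_1 lc_c_rc_11_1 lc_c_rc_22_7 lc_c_rc_24_8 lc_c_rc_23_0 lc_c_rc_13_2 lc_c_rc_14_2 lc_c_rc_11_1 lc_c_rc_7_3 lc_c_rc_7_1 lc_c_rc_24_4 lc_c_rc_7_5 lc_c_rc_2_3 lc_c_rc_2_3 lc_c_rc_26_4 lc_c_rc_26_8 lc_c_rc_11_1 lc_c_rc_26_4 lc_c_rc_14_2 lc_c_rc_26_4 lc_c_rc_11_1 lc_c_rc_11_1 lc_c_Cert_tree lc_c_rc_11_1 lc_c_rc_22_5 lc_c_rc_11_1 lc_c_rc_24_8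 lc_c_rc_14_2 lc_c_rc_26_10 lc_c_rc_11_1 lc_c_rc_24_8 lc_c_rc_7_5 lc_c_rc_11_1 lc_c_rc_13_2 lc_c_rc_26_8 lc_c_rc_11_1 lc_c_rc_13_2 lc_c_rc_11_1 lc_c_rc_13_2 lc_c_rc_24_4 lc_c_rc_11_1 lc_c_rc_13_2 lc_c_rc_23_0 lc_c_rc_23_0 lc_c_Cert_tree lc_c_rc_13_2 lc_c_rc_24_8 lc_c_rc_11_1 lc_c_rc_13_2 lc_c_Cert_tree lc_c_rc_7_1 lc_c_rc_13_2 lc_c_Cert_tree lc_c_Cert_tree lc_c_rc_13_2 lc_c_rc_22_3 lc_c_rc_7_5 lc_c_rc_13_2 lc_c_rc_14_2 lc_c_rc_13_2 lc_c_rc_14_2) (@D3.rec (fun _ => (Cert rels S Gen.c)) lc_c_rc_11_1 lc_c_rc_25_5 lc_c_rc_26_8 lc_c_rc_11_1 lc_c_rc_26_4 lc_c_rc_11_1 lc_c_rc_26_4 lc_c_rc_13_2 lc_c_rc_14_2 lc_c_rc_11_1 lc_c_rc_24_4 lc_c_rc_14_2 lc_c_rc_26_10 lc_c_rc_14_2 lc_c_rc_24_8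 lc_c_rc_11_1 lc_c_rc_23_5 lc_c_rc_23_0 lc_c_rc_23_5 lc_c_rc_24_4 lc_c_rc_23_0 lc_c_rc_13_2 lc_c_rc_23_5 lc_c_Cert_tree lc_c_rc_23_5 lc_c_rc_24_2 lc_c_rc_11_1 lc_c_rc_11_1 lc_c_rc_7_3 lc_c_rc_11_1 lc_c_rc_7_5 lc_c_rc_2_3 lc_c_rc_13_2 lc_c_rc_14_2 lc_c_rc_11_1 lc_c_rc_2_3 lc_c_rc_13_0 lc_c_rc_26_2 lc_c_Cert_tree lc_c_rc_25_5 lc_c_rc_24_2 lc_c_rc_26_8 lc_c_rc_2_3 lc_c_rc_7_3 lc_c_rc_13_2 lc_c_rc_12_0 lc_c_rc_13_2 lc_c_rc_22_5 lc_c_rc_13_2 lc_c_rc_26_8 lc_c_rc_13_2 lc_c_rc_7_3 lc_c_rc_13_2 lc_c_rc_24_4 lc_c_rc_24_2 lc_c_rc_14_2 lc_c_rc_11_1 lc_c_Cert_tree lc_c_Cert_tree lc_c_Cert_tree lc_c_rc_11_1 lc_c_rc_24_6) (@D3.rec (fun _ => (Cert rels S Gen.c)) lc_c_rc_7_3 lc_c_rc_13_2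 lc_c_rc_13_0 lc_c_rc_22_7 lc_c_rc_22_3 lc_c_rc_13_2 lc_c_rc_23_5 lc_c_rc_22_5 lc_c_rc_22_3 lc_c_rc_11_1 lc_c_rc_13_2 lc_c_rc_14_2 lc_c_rc_13_2 lc_c_rc_13_0 lc_c_rc_13_0 lc_c_rc_14_2 lc_c_rc_23_0 lc_c_rc_11_1 lc_c_rc_13_2 lc_c_rc_26_2 lc_c_rc_11_1 lc_c_rc_13_2 lc_c_rc_11_1 lc_c_rc_11_1 lc_c_rc_13_2 lc_c_rc_13_0 lc_c_rc_22_5 lc_c_rc_14_2 lc_c_rc_22_5 lc_c_rc_22_7 lc_c_rc_26_4 lc_c_rc_13_2 lc_c_Cert_tree lc_c_Cert_tree lc_c_rc_7_1 lc_c_Cert_tree lc_c_rc_11_1 lc_c_rc_13_2 lc_c_rc_13_2 lc_c_Cert_tree lc_c_rc_13_2 lc_c_rc_14_2 lc_c_rc_7_5 lc_c_rc_22_7 lc_c_rc_24_4 lc_c_rc_26_2 lc_c_rc_13_2 lc_c_rc_13_2 lc_c_rc_22_7 lc_c_Cert_tree lc_c_rc_26_2 lc_c_rc_11_1 lc_c_rc_23_5 lc_c_rc_13_0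 lc_c_rc_11_1 lc_c_rc_24_4 lc_c_rc_2_3 lc_c_rc_11_1 lc_c_rc_2_3 lc_c_rc_7_3 lc_c_rc_13_0 lc_c_rc_26_8) (@D3.rec (fun _ => (Cert rels S Gen.c)) lc_c_rc_26_10 lc_c_rc_2_3 lc_c_rc_13_0 lc_c_rc_26_2 lc_c_rc_7_5 lc_c_Cert_tree lc_c_rc_11_1 lc_c_rc_2_3 lc_c_rc_7_1 lc_c_rc_13_2 lc_c_rc_24_6 lc_c_rc_13_0 lc_c_rc_14_2 lc_c_rc_26_8 lc_c_rc_11_1 lc_c_Cert_tree lc_c_Cert_tree lc_c_Cert_tree lc_c_rc_11_1 lc_c_rc_13_2 lc_c_Cert_tree lc_c_rc_7_3 lc_c_rc_23_0 lc_c_rc_22_5 lc_c_rc_22_3 lc_c_rc_23_5 lc_c_Cert_tree lc_c_rc_13_2 lc_c_Cert_tree lc_c_rc_14_2 lc_c_rc_26_2 lc_c_Cert_tree lc_c_rc_11_1 lc_c_rc_14_0 lc_c_rc_7_3 lc_c_rc_13_2 lc_c_rc_11_1 lc_c_rc_24_2 lc_c_rc_14_2 lc_c_rc_7_3 lc_c_rc_22_5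 lc_c_rc_13_2 lc_c_Cert_tree lc_c_rc_13_2 lc_c_rc_14_2 lc_c_rc_22_7 lc_c_rc_13_2 lc_c_rc_7_3 lc_c_rc_24_6 lc_c_rc_22_5 lc_c_rc_13_2 lc_c_rc_11_1 lc_c_rc_13_2 lc_c_Cert_tree lc_c_Cert_tree lc_c_rc_2_3 lc_c_Cert_tree lc_c_rc_13_2 lc_c_rc_13_2 lc_c_rc_11_1 lc_c_rc_23_0 lc_c_rc_11_1) (@D3.rec (fun _ => (Cert rels S Gen.c)) lc_c_rc_26_2 lc_c_rc_23_0 lc_c_Cert_tree lc_c_rc_11_1 lc_c_rc_23_5 lc_c_rc_13_2 lc_c_rc_13_0 lc_c_rc_11_1 lc_c_rc_22_5 lc_c_rc_7_3 lc_c_rc_11_1 lc_c_rc_23_5 lc_c_rc_11_1 lc_c_rc_23_0 lc_c_rc_24_4 lc_c_rc_2_3 lc_c_rc_11_1 lc_c_rc_7_1 lc_c_rc_7_1 lc_c_rc_23_0 lc_c_rc_2_1 lc_c_rc_13_2 lc_c_rc_24_4 lc_c_rc_25_17 lc_c_Cert_tree lc_c_rc_13_2 lc_c_rc_13_2 lc_c_rc_11_1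 lc_c_rc_13_2 lc_c_rc_24_4 lc_c_rc_26_10 lc_c_rc_14_2 lc_c_rc_26_4 lc_c_rc_11_1 lc_c_rc_26_4 lc_c_rc_11_1 lc_c_rc_11_1 lc_c_rc_7_3 lc_c_rc_24_4 lc_c_rc_24_4 lc_c_rc_22_3 lc_c_rc_7_5 lc_c_rc_14_2 lc_c_rc_12_2 lc_c_rc_11_1 lc_c_rc_13_2 lc_c_rc_7_5 lc_c_Cert_tree lc_c_rc_11_1 lc_c_rc_2_1 lc_c_rc_13_2 lc_c_rc_23_0 lc_c_rc_14_2 lc_c_rc_11_1 lc_c_Cert_tree lc_c_rc_24_4 lc_c_rc_26_8 lc_c_Cert_tree lc_c_Cert_tree lc_c_rc_11_1 lc_c_rc_11_1 lc_c_rc_26_10) (@D3.rec (fun _ => (Cert rels S Gen.c)) lc_c_rc_14_2 lc_c_rc_26_10 lc_c_rc_11_1 lc_c_rc_14_2 lc_c_rc_13_0 lc_c_rc_11_1 lc_c_rc_23_0 lc_c_rc_22_5 lc_c_rc_13_2 lc_c_Cert_tree lc_c_rc_22_5 lc_c_rc_13_2 lc_c_rc_26_4 lc_c_rc_23_5 lc_c_rc_11_1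 lc_c_rc_11_1 lc_c_rc_13_2 lc_c_rc_11_1 lc_c_rc_23_5 lc_c_rc_13_2 lc_c_rc_11_1 lc_c_rc_23_5 lc_c_rc_7_1 lc_c_rc_13_2 lc_c_rc_24_4 lc_c_Cert_tree lc_c_rc_13_2 lc_c_rc_26_4 lc_c_rc_7_1 lc_c_rc_14_2 lc_c_rc_13_2 lc_c_rc_7_3 lc_c_rc_13_2 lc_c_Cert_tree lc_c_rc_26_4 lc_c_rc_13_2 lc_c_rc_13_2 lc_c_rc_11_1 lc_c_rc_14_2 lc_c_rc_23_0 lc_c_Cert_tree lc_c_rc_26_4 lc_c_rc_13_2 lc_c_rc_22_3 lc_c_rc_11_1 lc_c_rc_23_5 lc_c_rc_13_0 lc_c_rc_23_0 lc_c_rc_13_0 lc_c_rc_13_2 lc_c_rc_13_0 lc_c_rc_13_2 lc_c_rc_11_1 lc_c_rc_24_8 lc_c_rc_14_2 lc_c_rc_11_1 lc_c_rc_26_4 lc_c_rc_11_1 lc_c_rc_11_1 lc_c_rc_13_2 lc_c_rc_23_5 lc_c_rc_11_1) (@D3.rec (fun _ => (Cert rels S Gen.c)) lc_c_rc_13_0 lc_c_rc_13_2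 lc_c_rc_13_2 lc_c_rc_26_2 lc_c_rc_13_2 lc_c_rc_11_1 lc_c_Cert_tree lc_c_rc_11_1 lc_c_rc_23_5 lc_c_rc_13_2 lc_c_rc_11_1 lc_c_rc_11_1 lc_c_rc_26_10 lc_c_rc_2_3 lc_c_rc_7_1 lc_c_rc_11_1 lc_c_Cert_tree lc_c_rc_13_0 lc_c_rc_13_2 lc_c_rc_26_10 lc_c_rc_11_1 lc_c_rc_26_4 lc_c_rc_7_1 lc_c_rc_11_1 lc_c_rc_13_0 lc_c_rc_11_1 lc_c_rc_26_4 lc_c_rc_14_0 lc_c_rc_13_0 lc_c_rc_13_0 lc_c_rc_13_2 lc_c_rc_13_2 lc_c_rc_13_2 lc_c_rc_14_2 lc_c_rc_26_4 lc_c_rc_2_3 lc_c_Cert_tree lc_c_rc_24_4 lc_c_rc_11_1 lc_c_rc_11_1 lc_c_rc_7_3 lc_c_rc_23_5 lc_c_rc_11_1 lc_c_rc_11_1 lc_c_rc_11_1 lc_c_rc_13_2 lc_c_rc_24_6 lc_c_rc_14_2 lc_c_rc_13_2 lc_c_rc_24_4 lc_c_rc_13_2 lc_c_rc_13_2 lc_c_Cert_tree lc_c_rc_25_17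 lc_c_rc_14_2 lc_c_rc_13_0 lc_c_Cert_tree lc_c_Cert_tree lc_c_Cert_tree lc_c_rc_11_1 lc_c_rc_24_8 lc_c_rc_7_1) (@D3.rec (fun _ => (Cert rels S Gen.c)) lc_c_rc_13_2 lc_c_rc_24_6 lc_c_rc_22_3 lc_c_rc_24_6 lc_c_Cert_tree lc_c_rc_11_1 lc_c_rc_14_2 lc_c_rc_13_0 lc_c_rc_11_1 lc_c_rc_22_3 lc_c_rc_2_3 lc_c_rc_13_2 lc_c_rc_25_17 lc_c_rc_7_5 lc_c_rc_14_2 lc_c_rc_13_2 lc_c_rc_13_2 lc_c_Cert_tree lc_c_rc_13_2 lc_c_rc_13_2 lc_c_rc_25_1 lc_c_rc_7_5 lc_c_rc_13_2 lc_c_Cert_tree lc_c_rc_14_2 lc_c_rc_7_3 lc_c_rc_13_2 lc_c_rc_26_10 lc_c_rc_24_6 lc_c_rc_7_5 lc_c_rc_26_8 lc_c_rc_26_4 lc_c_rc_11_1 lc_c_rc_7_3 lc_c_rc_13_2 lc_c_rc_2_1 lc_c_rc_7_5 lc_c_rc_23_5 lc_c_rc_11_1 lc_c_rc_13_2 lc_c_rc_22_3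 lc_c_rc_13_2 lc_c_rc_22_7 lc_c_rc_24_8 lc_c_rc_22_3 lc_c_rc_26_4 lc_c_rc_22_3 lc_c_rc_11_1 lc_c_Cert_tree lc_c_rc_11_1 lc_c_rc_7_3 lc_c_rc_23_0 lc_c_rc_11_1 lc_c_rc_14_2 lc_c_rc_11_1 lc_c_rc_26_2 lc_c_Cert_tree lc_c_rc_2_3 lc_c_rc_11_1 lc_c_rc_13_2 lc_c_Cert_tree lc_c_rc_13_2) (@D3.rec (fun _ => (Cert rels S Gen.c)) lc_c_rc_14_2 lc_c_rc_26_4 lc_c_rc_11_1 lc_c_rc_11_1 lc_c_rc_26_4 lc_c_rc_11_1 lc_c_rc_13_2 lc_c_rc_26_10 lc_c_rc_2_3 lc_c_rc_11_1 lc_c_rc_26_2 lc_c_rc_13_2 lc_c_rc_11_1 lc_c_rc_7_5 lc_c_rc_11_1 lc_c_rc_7_5 lc_c_rc_26_8 lc_c_rc_11_1 lc_c_rc_13_2 lc_c_rc_11_1 lc_c_rc_24_4 lc_c_rc_22_9 lc_c_rc_13_2 lc_c_rc_26_10 lc_c_rc_13_0 lc_c_rc_14_2 lc_c_rc_11_1 lc_c_rc_7_3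 lc_c_rc_23_0 lc_c_rc_7_3 lc_c_rc_23_5 lc_c_rc_23_5 lc_c_rc_13_2 lc_c_rc_7_3 lc_c_rc_11_1 lc_c_rc_14_0 lc_c_rc_11_1 lc_c_rc_26_10 lc_c_rc_11_1 lc_c_rc_11_1 lc_c_rc_26_8 lc_c_rc_13_2 lc_c_Cert_tree lc_c_rc_11_1 lc_c_rc_11_1 lc_c_rc_13_2 lc_c_rc_24_6 lc_c_rc_11_1 lc_c_rc_7_3 lc_c_rc_22_5 lc_c_rc_14_2 lc_c_rc_11_1 lc_c_rc_23_0 lc_c_rc_13_2 lc_c_rc_13_2 lc_c_rc_24_6 lc_c_rc_24_4 lc_c_rc_13_2 lc_c_rc_25_1 lc_c_rc_23_0 lc_c_rc_11_1 lc_c_rc_2_3) (@D3.rec (fun _ => (Cert rels S Gen.c)) lc_c_rc_7_5 lc_c_rc_7_3 lc_c_Cert_tree lc_c_rc_11_1 lc_c_rc_7_3 lc_c_rc_13_2 lc_c_rc_22_3 lc_c_rc_14_2 lc_c_rc_24_2 lc_c_rc_11_1 lc_c_rc_13_2 lc_c_rc_23_5 lc_c_rc_13_2 lc_c_rc_14_2 lc_c_rc_24_6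 lc_c_rc_11_1 lc_c_rc_13_2 lc_c_rc_7_1 lc_c_rc_13_2 lc_c_Cert_tree lc_c_rc_7_5 lc_c_Cert_tree lc_c_rc_2_1 lc_c_rc_13_2 lc_c_Cert_tree lc_c_Cert_tree lc_c_rc_7_5 lc_c_rc_2_3 lc_c_rc_13_2 lc_c_rc_11_1 lc_c_rc_13_0 lc_c_rc_25_1 lc_c_rc_23_0 lc_c_Cert_tree lc_c_rc_13_2 lc_c_rc_7_5 lc_c_rc_2_3 lc_c_Cert_tree lc_c_rc_25_5 lc_c_rc_11_1 lc_c_Cert_tree lc_c_rc_12_2 lc_c_rc_26_8 lc_c_Cert_tree lc_c_rc_26_8 lc_c_rc_14_2 lc_c_rc_26_10 lc_c_rc_7_5 lc_c_rc_13_2 lc_c_rc_7_5 lc_c_rc_11_1 lc_c_rc_14_2 lc_c_rc_11_1 lc_c_rc_11_1 lc_c_rc_12_0 lc_c_rc_11_1 lc_c_rc_13_2 lc_c_rc_11_1 lc_c_rc_11_1 lc_c_rc_7_3 lc_c_Cert_tree lc_c_rc_11_1) (@D3.rec (fun _ => (Cert rels S Gen.c)) lc_c_rc_2_3 lc_c_rc_11_1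 lc_c_rc_14_2 lc_c_rc_14_2 lc_c_rc_11_1 lc_c_rc_26_4 lc_c_rc_23_0 lc_c_rc_23_5 lc_c_rc_13_2 lc_c_rc_11_1 lc_c_rc_11_1 lc_c_rc_23_0 lc_c_rc_11_1 lc_c_rc_26_8 lc_c_Cert_tree lc_c_rc_13_2 lc_c_rc_11_1 lc_c_rc_23_0 lc_c_rc_24_4 lc_c_rc_26_4 lc_c_rc_11_1 lc_c_rc_26_10 lc_c_rc_11_1 lc_c_rc_2_3 lc_c_rc_7_3 lc_c_rc_22_5 lc_c_rc_14_2 lc_c_Cert_tree lc_c_rc_13_2 lc_c_rc_7_5 lc_c_rc_13_2 lc_c_rc_7_3 lc_c_rc_11_1 lc_c_rc_13_2 lc_c_rc_24_4 lc_c_rc_23_0 lc_c_Cert_tree lc_c_rc_24_4 lc_c_rc_7_3 lc_c_rc_7_1 lc_c_rc_13_2 lc_c_rc_7_5 lc_c_rc_23_0 lc_c_rc_2_3 lc_c_rc_14_2 lc_c_rc_13_2 lc_c_rc_24_2 lc_c_rc_11_1 lc_c_rc_11_1 lc_c_rc_11_1 lc_c_rc_26_2 lc_c_rc_26_4 lc_c_rc_13_2 lc_c_rc_11_1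 lc_c_rc_11_1 lc_c_rc_7_3 lc_c_Cert_tree lc_c_rc_13_2 lc_c_rc_13_0 lc_c_rc_13_2 lc_c_Cert_tree lc_c_rc_14_0) (@D3.rec (fun _ => (Cert rels S Gen.c)) lc_c_rc_13_2 lc_c_rc_11_1 lc_c_rc_26_8 lc_c_rc_23_5 lc_c_rc_23_0 lc_c_rc_22_3 lc_c_rc_26_8 lc_c_rc_26_10 lc_c_rc_14_0 lc_c_rc_24_2 lc_c_rc_11_1 lc_c_rc_11_1 lc_c_rc_13_0 lc_c_rc_11_1 lc_c_rc_13_2 lc_c_rc_11_1 lc_c_rc_13_2 lc_c_rc_7_3 lc_c_rc_13_2 lc_c_rc_11_1 lc_c_rc_12_0 lc_c_rc_11_1 lc_c_rc_7_5 lc_c_rc_24_4 lc_c_rc_11_1 lc_c_rc_7_1 lc_c_rc_22_5 lc_c_rc_13_2 lc_c_rc_23_0 lc_c_rc_23_5 lc_c_rc_13_2 lc_c_rc_14_2 lc_c_rc_11_1 lc_c_rc_11_1 lc_c_rc_13_2 lc_c_rc_24_6 lc_c_rc_13_2 lc_c_Cert_tree lc_c_rc_7_3 lc_c_rc_11_1 lc_c_rc_7_3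 lc_c_rc_22_7 lc_c_rc_13_2 lc_c_rc_24_4 lc_c_rc_23_0 lc_c_rc_2_3 lc_c_rc_7_3 lc_c_rc_12_14 lc_c_rc_13_2 lc_c_rc_2_3 lc_c_rc_7_5 lc_c_rc_13_2 lc_c_rc_7_5 lc_c_rc_2_1 lc_c_rc_13_2 lc_c_rc_22_5 lc_c_rc_13_2 lc_c_rc_13_2 lc_c_rc_26_10 lc_c_rc_11_1 lc_c_rc_11_1 lc_c_rc_11_1) (@D3.rec (fun _ => (Cert rels S Gen.c)) lc_c_rc_22_3 lc_c_Cert_tree lc_c_rc_11_1 lc_c_rc_24_4 lc_c_rc_11_1 lc_c_rc_11_1 lc_c_rc_11_1 lc_c_rc_22_3 lc_c_rc_11_1 lc_c_rc_11_1 lc_c_rc_7_3 lc_c_Cert_tree lc_c_rc_13_2 lc_c_rc_24_4 lc_c_rc_22_9 lc_c_rc_23_5 lc_c_rc_22_9 lc_c_rc_11_1 lc_c_rc_11_1 lc_c_rc_11_1 lc_c_rc_24_2 lc_c_rc_7_5 lc_c_rc_2_3 lc_c_rc_7_3 lc_c_rc_13_2 lc_c_rc_13_2 lc_c_rc_13_2 lc_c_Cert_tree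 lc_c_Cert_tree lc_c_rc_2_1 lc_c_rc_7_3 lc_c_rc_7_1 lc_c_rc_13_2 lc_c_rc_13_0 lc_c_rc_13_0 lc_c_rc_22_3 lc_c_rc_14_2 lc_c_rc_26_8 lc_c_rc_11_1 lc_c_Cert_tree lc_c_rc_11_1 lc_c_Cert_tree lc_c_rc_13_2 lc_c_Cert_tree lc_c_Cert_tree lc_c_rc_11_1 lc_c_rc_14_2 lc_c_rc_14_2 lc_c_rc_13_2 lc_c_rc_7_5 lc_c_rc_2_3 lc_c_rc_23_5 lc_c_Cert_tree lc_c_rc_24_2 lc_c_rc_26_4 lc_c_Cert_tree lc_c_rc_13_2 lc_c_rc_13_2 lc_c_rc_2_3 lc_c_rc_13_0 lc_c_rc_23_5 lc_c_rc_14_2) (@D3.rec (fun _ => (Cert rels S Gen.c)) lc_c_rc_11_1 lc_c_rc_13_2 lc_c_rc_22_3 lc_c_rc_11_1 lc_c_rc_11_1 lc_c_rc_23_5 lc_c_rc_13_2 lc_c_rc_11_1 lc_c_rc_2_3 lc_c_rc_7_1 lc_c_rc_24_6 lc_c_rc_13_2 lc_c_rc_23_0 lc_c_rc_26_10 lc_c_rc_11_1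 lc_c_rc_13_0 lc_c_rc_26_10 lc_c_rc_7_5 lc_c_rc_24_8 lc_c_rc_26_10 lc_c_rc_14_2 lc_c_rc_13_0 lc_c_rc_11_1 lc_c_rc_22_5 lc_c_rc_11_1 lc_c_rc_22_5 lc_c_rc_13_2 lc_c_rc_11_1 lc_c_rc_2_3 lc_c_rc_14_2 lc_c_rc_13_2 lc_c_rc_23_0 lc_c_rc_13_0 lc_c_rc_14_2 lc_c_rc_14_0 lc_c_rc_13_2 lc_c_rc_13_2 lc_c_rc_24_8 lc_c_rc_14_0 lc_c_rc_14_2 lc_c_rc_11_1 lc_c_rc_26_4 lc_c_rc_13_2 lc_c_Cert_tree lc_c_rc_26_10 lc_c_Cert_tree lc_c_rc_11_1 lc_c_rc_13_2 lc_c_rc_24_4 lc_c_rc_14_2 lc_c_rc_2_3 lc_c_rc_23_0 lc_c_rc_11_1 lc_c_rc_12_0 lc_c_rc_14_2 lc_c_rc_11_1 lc_c_rc_11_1 lc_c_rc_2_1 lc_c_rc_11_1 lc_c_rc_13_2 lc_c_Cert_tree lc_c_rc_13_2) (@D3.rec (fun _ => (Cert rels S Gen.c)) lc_c_rc_24_2 lc_c_rc_13_2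 lc_c_rc_26_10 lc_c_rc_13_0 lc_c_rc_14_2 lc_c_rc_11_1 lc_c_rc_13_2 lc_c_rc_13_0 lc_c_rc_26_2 lc_c_rc_11_1 lc_c_Cert_tree lc_c_rc_13_2 lc_c_Cert_tree lc_c_rc_13_2 lc_c_rc_26_8 lc_c_rc_2_3 lc_c_rc_22_9 lc_c_rc_25_5 lc_c_rc_24_2 lc_c_rc_11_1 lc_c_rc_24_8 lc_c_rc_26_4 lc_c_rc_26_10 lc_c_rc_26_4 lc_c_rc_22_7 lc_c_rc_13_2 lc_c_rc_13_2 lc_c_rc_14_2 lc_c_rc_26_2 lc_c_rc_14_2 lc_c_rc_11_1 lc_c_rc_2_3 lc_c_rc_11_1 lc_c_rc_13_2 lc_c_rc_11_1 lc_c_rc_22_5 lc_c_rc_12_2 lc_c_rc_11_1 lc_c_Cert_tree lc_c_rc_11_1 lc_c_rc_23_0 lc_c_rc_11_1 lc_c_rc_7_3 lc_c_rc_12_2 lc_c_rc_13_2 lc_c_Cert_tree lc_c_rc_13_0 lc_c_rc_22_3 lc_c_rc_14_2 lc_c_rc_11_1 lc_c_rc_13_2 lc_c_rc_11_1 lc_c_rc_24_2 lc_c_rc_7_5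 lc_c_rc_13_2 lc_c_rc_13_2 lc_c_rc_14_2 lc_c_rc_14_2 lc_c_rc_26_10 lc_c_rc_26_8 lc_c_rc_13_2 lc_c_rc_26_4) (@D3.rec (fun _ => (Cert rels S Gen.c)) lc_c_rc_14_2 lc_c_rc_26_8 lc_c_rc_11_1 lc_c_Cert_tree lc_c_rc_26_4 lc_c_rc_11_1 lc_c_Cert_tree lc_c_rc_24_8 lc_c_rc_24_8 lc_c_rc_26_10 lc_c_rc_11_1 lc_c_rc_14_2 lc_c_rc_7_1 lc_c_rc_7_5 lc_c_rc_2_3 lc_c_rc_26_8 lc_c_rc_22_3 lc_c_rc_11_1 lc_c_Cert_tree lc_c_Cert_tree lc_c_rc_22_9 lc_c_Cert_tree lc_c_rc_26_2 lc_c_rc_26_8 lc_c_rc_13_0 lc_c_rc_11_1 lc_c_rc_13_2 lc_c_rc_11_1 lc_c_rc_13_2 lc_c_rc_22_9 lc_c_rc_7_5 lc_c_rc_22_3 lc_c_rc_11_1 lc_c_rc_2_3 lc_c_rc_26_2 lc_c_rc_13_2 lc_c_rc_11_1 lc_c_rc_13_2 lc_c_rc_11_1 lc_c_rc_26_4 lc_c_rc_11_1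 lc_c_rc_13_2 lc_c_rc_11_1 lc_c_rc_24_4 lc_c_rc_11_1 lc_c_rc_7_3 lc_c_Cert_tree lc_c_rc_13_2 lc_c_rc_22_7 lc_c_rc_11_1 lc_c_rc_14_2 lc_c_rc_14_2 lc_c_rc_11_1 lc_c_rc_2_3 lc_c_rc_11_1 lc_c_rc_23_0 lc_c_rc_23_5 lc_c_rc_11_1 lc_c_rc_22_7 lc_c_rc_26_2 lc_c_rc_11_1 lc_c_rc_13_2) (@D3.rec (fun _ => (Cert rels S Gen.c)) lc_c_rc_2_1 lc_c_rc_14_2 lc_c_rc_14_2 lc_c_rc_24_8 lc_c_rc_2_3 lc_c_rc_11_1 lc_c_Cert_tree lc_c_rc_26_8 lc_c_Cert_tree lc_c_rc_14_2 lc_c_Cert_tree lc_c_rc_25_5 lc_c_rc_11_1 lc_c_rc_24_8 lc_c_rc_13_2 lc_c_rc_26_4 lc_c_rc_11_1 lc_c_rc_13_2 lc_c_rc_13_0 lc_c_rc_26_2 lc_c_rc_14_2 lc_c_rc_25_1 lc_c_rc_13_0 lc_c_rc_23_0 lc_c_rc_24_6 lc_c_rc_13_2 lc_c_rc_13_0 lc_c_rc_11_1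 lc_c_rc_24_6 lc_c_rc_24_4 lc_c_Cert_tree lc_c_rc_11_1 lc_c_rc_14_2 lc_c_rc_13_2 lc_c_rc_11_1 lc_c_rc_2_1 lc_c_rc_26_2 lc_c_rc_7_3 lc_c_rc_7_3 lc_c_rc_11_1 lc_c_rc_13_2 lc_c_rc_11_1 lc_c_rc_22_7 lc_c_rc_11_1 lc_c_rc_26_4 lc_c_rc_11_1 lc_c_rc_25_17 lc_c_rc_11_1 lc_c_rc_11_1 lc_c_rc_22_3 lc_c_rc_13_2 lc_c_rc_26_8 lc_c_rc_22_9 lc_c_rc_13_2 lc_c_rc_26_4 lc_c_rc_22_3 lc_c_rc_13_2 lc_c_rc_7_3 lc_c_rc_13_2 lc_c_rc_24_4 lc_c_rc_13_2 lc_c_rc_23_5) (@D3.rec (fun _ => (Cert rels S Gen.c)) lc_c_rc_24_4 lc_c_rc_11_1 lc_c_rc_13_2 lc_c_rc_11_1 lc_c_rc_22_5 lc_c_rc_11_1 lc_c_Cert_tree lc_c_Cert_tree lc_c_rc_26_4 lc_c_Cert_tree lc_c_rc_13_2 lc_c_rc_22_9 lc_c_rc_11_1 lc_c_rc_11_1 lc_c_rc_14_2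 lc_c_rc_7_3 lc_c_rc_26_4 lc_c_rc_13_0 lc_c_rc_26_2 lc_c_rc_23_0 lc_c_rc_13_2 lc_c_rc_11_1 lc_c_rc_26_8 lc_c_rc_24_8 lc_c_rc_11_1 lc_c_rc_24_4 lc_c_rc_24_2 lc_c_rc_7_1 lc_c_rc_13_2 lc_c_rc_11_1 lc_c_rc_23_0 lc_c_Cert_tree lc_c_rc_11_1 lc_c_rc_2_1 lc_c_rc_11_1 lc_c_rc_11_1 lc_c_rc_23_5 lc_c_rc_13_2 lc_c_rc_22_7 lc_c_rc_22_3 lc_c_rc_26_2 lc_c_rc_26_8 lc_c_rc_26_2 lc_c_Cert_tree lc_c_rc_11_1 lc_c_rc_26_4 lc_c_rc_14_2 lc_c_Cert_tree lc_c_rc_13_2 lc_c_rc_24_2 lc_c_rc_24_8 lc_c_rc_11_1 lc_c_rc_13_2 lc_c_rc_7_3 lc_c_rc_26_4 lc_c_rc_26_4 lc_c_rc_11_1 lc_c_rc_13_2 lc_c_rc_2_1 lc_c_rc_11_1 lc_c_rc_13_2 lc_c_rc_13_2) (@D3.rec (fun _ => (Cert rels S Gen.c)) lc_c_rc_11_1 lc_c_rc_13_2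 lc_c_rc_11_1 lc_c_rc_26_10 lc_c_rc_26_10 lc_c_rc_26_8 lc_c_rc_14_2 lc_c_Cert_tree lc_c_rc_11_1 lc_c_rc_13_2 lc_c_Cert_tree lc_c_rc_11_1 lc_c_rc_11_1 lc_c_rc_13_2 lc_c_rc_11_1 lc_c_Cert_tree lc_c_rc_7_1 lc_c_rc_26_4 lc_c_rc_26_10 lc_c_rc_11_1 lc_c_Cert_tree lc_c_rc_24_4 lc_c_Cert_tree lc_c_rc_13_2 lc_c_rc_13_0 lc_c_rc_24_8 lc_c_rc_11_1 lc_c_rc_14_2 lc_c_rc_14_2 lc_c_rc_11_1 lc_c_Cert_tree lc_c_rc_11_1 lc_c_rc_2_3 lc_c_rc_26_10 lc_c_rc_22_7 lc_c_rc_11_1 lc_c_rc_14_2 lc_c_rc_13_0 lc_c_rc_22_5 lc_c_rc_22_5 lc_c_rc_2_1 lc_c_rc_14_2 lc_c_rc_13_2 lc_c_rc_24_6 lc_c_rc_11_1 lc_c_rc_2_3 lc_c_rc_13_2 lc_c_rc_22_3 lc_c_rc_14_2 lc_c_rc_13_2 lc_c_Cert_tree lc_c_rc_11_1 lc_c_rc_25_13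 lc_c_rc_13_2 lc_c_rc_22_5 lc_c_rc_14_2 lc_c_rc_24_6 lc_c_rc_7_5 lc_c_rc_11_1 lc_c_rc_13_2 lc_c_rc_24_8 lc_c_rc_13_2)
def ce_c_23 : D2 → D3 → (Cert rels S Gen.c) := @D2.rec (fun _ => D3 → (Cert rels S Gen.c)) (@D3.rec (fun _ => (Cert rels S Gen.c)) lc_c_rc_7_1 lc_c_rc_26_4 lc_c_rc_11_1 lc_c_rc_26_4 lc_c_Cert_tree lc_c_rc_11_1 lc_c_rc_22_5 lc_c_rc_22_3 lc_c_rc_14_2 lc_c_rc_11_1 lc_c_rc_24_6 lc_c_rc_11_1 lc_c_rc_24_4 lc_c_rc_23_0 lc_c_rc_2_1 lc_c_rc_11_1 lc_c_rc_13_2 lc_c_rc_26_10 lc_c_rc_2_1 lc_c_rc_11_1 lc_c_rc_26_2 lc_c_rc_13_2 lc_c_rc_26_8 lc_c_rc_23_5 lc_c_rc_13_2 lc_c_rc_23_5 lc_c_rc_23_0 lc_c_rc_11_1 lc_c_rc_7_5 lc_c_rc_23_0 lc_c_rc_12_0 lc_c_Cert_tree lc_c_rc_2_3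 lc_c_rc_22_5 lc_c_rc_13_2 lc_c_rc_13_2 lc_c_rc_11_1 lc_c_rc_26_10 lc_c_rc_23_5 lc_c_Cert_tree lc_c_rc_14_2 lc_c_rc_7_3 lc_c_rc_23_5 lc_c_rc_11_1 lc_c_rc_11_1 lc_c_rc_23_5 lc_c_rc_23_0 lc_c_rc_13_2 lc_c_rc_14_2 lc_c_rc_2_3 lc_c_rc_13_2 lc_c_rc_13_2 lc_c_Cert_tree lc_c_rc_24_8 lc_c_rc_22_3 lc_c_rc_7_3 lc_c_rc_13_2 lc_c_rc_26_4 lc_c_rc_23_5 lc_c_rc_13_2 lc_c_rc_24_4 lc_c_rc_26_10) (@D3.rec (fun _ => (Cert rels S Gen.c)) lc_c_rc_2_3 lc_c_rc_14_2 lc_c_rc_13_2 lc_c_rc_25_9 lc_c_rc_13_2 lc_c_Cert_tree lc_c_rc_7_5 lc_c_rc_14_2 lc_c_rc_13_2 lc_c_rc_24_2 lc_c_rc_14_2 lc_c_rc_11_1 lc_c_rc_11_1 lc_c_rc_7_3 lc_c_rc_13_2 lc_c_rc_2_3 lc_c_rc_13_2 lc_c_rc_13_2 lc_c_rc_23_0 lc_c_rc_23_0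 lc_c_rc_11_1 lc_c_rc_13_2 lc_c_rc_13_2 lc_c_rc_26_10 lc_c_rc_26_8 lc_c_rc_24_4 lc_c_rc_24_6 lc_c_rc_22_3 lc_c_rc_12_0 lc_c_rc_7_3 lc_c_rc_26_2 lc_c_rc_13_2 lc_c_rc_24_2 lc_c_rc_2_1 lc_c_Cert_tree lc_c_rc_13_2 lc_c_rc_24_6 lc_c_rc_7_5 lc_c_Cert_tree lc_c_rc_13_0 lc_c_rc_11_1 lc_c_rc_14_2 lc_c_Cert_tree lc_c_rc_13_2 lc_c_rc_11_1 lc_c_rc_26_4 lc_c_rc_2_3 lc_c_rc_7_3 lc_c_rc_13_2 lc_c_rc_2_3 lc_c_rc_23_5 lc_c_rc_7_1 lc_c_Cert_tree lc_c_rc_2_3 lc_c_rc_7_5 lc_c_rc_13_2 lc_c_rc_11_1 lc_c_rc_24_6 lc_c_rc_24_2 lc_c_rc_11_1 lc_c_rc_25_1 lc_c_rc_23_5) (@D3.rec (fun _ => (Cert rels S Gen.c)) lc_c_rc_26_10 lc_c_rc_2_1 lc_c_rc_24_4 lc_c_rc_22_9 lc_c_rc_24_8 lc_c_rc_13_0 lc_c_rc_14_2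 lc_c_rc_13_0 lc_c_rc_11_1 lc_c_Cert_tree lc_c_rc_7_5 lc_c_rc_26_8 lc_c_rc_11_1 lc_c_rc_13_2 lc_c_rc_11_1 lc_c_rc_11_1 lc_c_rc_7_3 lc_c_rc_13_2 lc_c_rc_24_4 lc_c_rc_11_1 lc_c_rc_14_2 lc_c_rc_11_1 lc_c_rc_7_3 lc_c_rc_13_2 lc_c_rc_11_1 lc_c_rc_7_5 lc_c_rc_11_1 lc_c_rc_13_2 lc_c_rc_26_2 lc_c_rc_11_1 lc_c_rc_13_2 lc_c_rc_11_1 lc_c_rc_7_3 lc_c_rc_24_4 lc_c_rc_24_6 lc_c_Cert_tree lc_c_rc_2_3 lc_c_rc_11_1 lc_c_rc_13_2 lc_c_rc_14_2 lc_c_rc_13_2 lc_c_rc_11_1 lc_c_rc_11_1 lc_c_rc_13_2 lc_c_rc_26_10 lc_c_rc_24_8 lc_c_rc_24_2 lc_c_rc_11_1 lc_c_rc_22_5 lc_c_rc_14_2 lc_c_rc_26_4 lc_c_rc_11_1 lc_c_rc_11_1 lc_c_rc_13_2 lc_c_rc_23_0 lc_c_rc_26_4 lc_c_rc_11_1 lc_c_rc_14_2 lc_c_rc_13_2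 lc_c_rc_13_2 lc_c_rc_13_2 lc_c_Cert_tree) (@D3.rec (fun _ => (Cert rels S Gen.c)) lc_c_Cert_tree lc_c_rc_2_3 lc_c_rc_14_2 lc_c_rc_11_1 lc_c_rc_2_3 lc_c_rc_2_3 lc_c_rc_14_2 lc_c_rc_11_1 lc_c_rc_13_0 lc_c_rc_24_8 lc_c_rc_26_4 lc_c_rc_11_1 lc_c_Cert_tree lc_c_rc_22_9 lc_c_rc_7_3 lc_c_rc_13_2 lc_c_rc_11_1 lc_c_rc_13_2 lc_c_rc_13_2 lc_c_rc_13_2 lc_c_rc_24_2 lc_c_rc_11_1 lc_c_rc_23_5 lc_c_rc_14_2 lc_c_rc_11_1 lc_c_rc_7_3 lc_c_rc_22_3 lc_c_rc_13_2 lc_c_rc_23_5 lc_c_rc_11_1 lc_c_rc_13_2 lc_c_rc_24_2 lc_c_rc_13_2 lc_c_rc_11_1 lc_c_Cert_tree lc_c_rc_14_2 lc_c_rc_7_5 lc_c_rc_11_1 lc_c_rc_7_3 lc_c_rc_23_5 lc_c_rc_11_1 lc_c_rc_7_3 lc_c_rc_13_2 lc_c_rc_13_2 lc_c_rc_26_10 lc_c_rc_26_4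 lc_c_rc_14_2 lc_c_rc_2_1 lc_c_rc_14_0 lc_c_Cert_tree lc_c_rc_13_2 lc_c_rc_11_1 lc_c_rc_11_1 lc_c_rc_11_1 lc_c_rc_11_1 lc_c_rc_24_6 lc_c_rc_7_3 lc_c_Cert_tree lc_c_rc_14_2 lc_c_rc_23_0 lc_c_rc_11_1 lc_c_rc_13_2) (@D3.rec (fun _ => (Cert rels S Gen.c)) lc_c_rc_26_4 lc_c_rc_13_2 lc_c_rc_22_3 lc_c_rc_23_0 lc_c_rc_11_1 lc_c_rc_7_5 lc_c_rc_23_5 lc_c_rc_23_5 lc_c_rc_7_5 lc_c_rc_11_1 lc_c_Cert_tree lc_c_rc_23_5 lc_c_rc_23_0 lc_c_rc_2_1 lc_c_rc_7_3 lc_c_rc_2_3 lc_c_rc_2_3 lc_c_rc_7_5 lc_c_rc_7_5 lc_c_rc_7_1 lc_c_rc_13_2 lc_c_rc_14_2 lc_c_rc_2_1 lc_c_rc_11_1 lc_c_rc_13_2 lc_c_rc_11_1 lc_c_rc_13_2 lc_c_rc_24_4 lc_c_rc_11_1 lc_c_rc_22_5 lc_c_rc_13_2 lc_c_rc_13_2 lc_c_rc_24_2 lc_c_rc_7_3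 lc_c_Cert_tree lc_c_Cert_tree lc_c_rc_26_4 lc_c_Cert_tree lc_c_rc_13_2 lc_c_rc_22_3 lc_c_rc_11_1 lc_c_rc_14_2 lc_c_rc_13_0 lc_c_rc_23_0 lc_c_rc_11_1 lc_c_rc_14_2 lc_c_rc_13_2 lc_c_rc_11_1 lc_c_rc_13_2 lc_c_rc_26_4 lc_c_rc_11_1 lc_c_rc_24_4 lc_c_rc_13_2 lc_c_rc_7_3 lc_c_rc_23_0 lc_c_rc_24_2 lc_c_rc_11_1 lc_c_rc_13_2 lc_c_rc_13_2 lc_c_rc_22_9 lc_c_rc_13_2 lc_c_rc_11_1) (@D3.rec (fun _ => (Cert rels S Gen.c)) lc_c_rc_14_2 lc_c_rc_25_9 lc_c_rc_13_2 lc_c_rc_14_2 lc_c_rc_14_2 lc_c_rc_11_1 lc_c_rc_22_9 lc_c_rc_13_2 lc_c_rc_24_8 lc_c_rc_11_1 lc_c_rc_14_2 lc_c_rc_13_2 lc_c_rc_13_2 lc_c_rc_13_2 lc_c_rc_26_4 lc_c_rc_24_6 lc_c_rc_13_2 lc_c_rc_26_10 lc_c_rc_14_2 lc_c_rc_26_2 lc_c_rc_11_1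 lc_c_rc_2_3 lc_c_rc_13_2 lc_c_rc_13_2 lc_c_Cert_tree lc_c_Cert_tree lc_c_rc_13_2 lc_c_rc_23_5 lc_c_rc_13_2 lc_c_rc_13_2 lc_c_rc_22_3 lc_c_rc_24_8 lc_c_rc_14_2 lc_c_rc_24_2 lc_c_rc_13_2 lc_c_rc_14_2 lc_c_rc_26_4 lc_c_rc_14_2 lc_c_rc_13_2 lc_c_rc_2_1 lc_c_rc_26_4 lc_c_rc_11_1 lc_c_rc_26_8 lc_c_rc_11_1 lc_c_rc_12_4 lc_c_rc_13_2 lc_c_rc_24_8 lc_c_rc_24_8 lc_c_rc_13_2 lc_c_rc_26_2 lc_c_rc_26_2 lc_c_rc_24_4 lc_c_rc_24_4 lc_c_rc_13_2 lc_c_Cert_tree lc_c_Cert_tree lc_c_rc_13_2 lc_c_rc_26_2 lc_c_rc_24_2 lc_c_Cert_tree lc_c_Cert_tree lc_c_rc_13_2) (@D3.rec (fun _ => (Cert rels S Gen.c)) lc_c_rc_11_1 lc_c_rc_22_3 lc_c_rc_11_1 lc_c_rc_13_2 lc_c_rc_13_2 lc_c_rc_7_1 lc_c_rc_2_1 lc_c_rc_11_1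 lc_c_rc_11_1 lc_c_rc_13_0 lc_c_rc_11_1 lc_c_rc_22_3 lc_c_rc_14_0 lc_c_rc_7_3 lc_c_rc_7_1 lc_c_rc_2_3 lc_c_rc_11_1 lc_c_rc_24_2 lc_c_rc_11_1 lc_c_rc_13_2 lc_c_rc_13_2 lc_c_rc_22_9 lc_c_rc_24_4 lc_c_rc_26_2 lc_c_rc_25_5 lc_c_rc_26_4 lc_c_rc_13_2 lc_c_rc_11_1 lc_c_rc_13_2 lc_c_Cert_tree lc_c_rc_11_1 lc_c_rc_2_3 lc_c_rc_26_2 lc_c_rc_13_2 lc_c_rc_13_2 lc_c_rc_7_3 lc_c_rc_13_2 lc_c_rc_11_1 lc_c_rc_23_5 lc_c_Cert_tree lc_c_rc_25_9 lc_c_rc_2_3 lc_c_rc_11_1 lc_c_rc_13_2 lc_c_rc_11_1 lc_c_rc_13_2 lc_c_rc_24_4 lc_c_rc_24_2 lc_c_rc_7_3 lc_c_rc_2_3 lc_c_rc_11_1 lc_c_rc_11_1 lc_c_rc_13_2 lc_c_rc_24_2 lc_c_rc_22_3 lc_c_rc_12_2 lc_c_rc_13_2 lc_c_rc_22_7 lc_c_rc_13_2 lc_c_rc_11_1 lc_c_rc_7_3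 lc_c_rc_13_2) (@D3.rec (fun _ => (Cert rels S Gen.c)) lc_c_rc_13_0 lc_c_rc_11_1 lc_c_rc_13_2 lc_c_rc_11_1 lc_c_rc_11_1 lc_c_rc_22_3 lc_c_Cert_tree lc_c_rc_11_1 lc_c_rc_2_3 lc_c_rc_13_2 lc_c_rc_11_1 lc_c_rc_14_0 lc_c_rc_7_3 lc_c_rc_11_1 lc_c_rc_2_1 lc_c_rc_22_9 lc_c_rc_14_2 lc_c_rc_26_4 lc_c_rc_11_1 lc_c_rc_23_5 lc_c_rc_24_2 lc_c_rc_22_3 lc_c_rc_13_2 lc_c_Cert_tree lc_c_rc_23_5 lc_c_rc_23_0 lc_c_rc_23_5 lc_c_rc_11_1 lc_c_rc_26_8 lc_c_rc_13_0 lc_c_rc_7_1 lc_c_rc_2_3 lc_c_rc_26_2 lc_c_rc_13_0 lc_c_rc_13_2 lc_c_rc_13_2 lc_c_rc_24_8 lc_c_rc_13_2 lc_c_rc_23_0 lc_c_Cert_tree lc_c_rc_11_1 lc_c_rc_13_2 lc_c_rc_11_1 lc_c_rc_7_5 lc_c_rc_13_2 lc_c_rc_23_0 lc_c_rc_26_2 lc_c_Cert_tree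 lc_c_rc_26_8 lc_c_rc_11_1 lc_c_rc_7_3 lc_c_rc_23_0 lc_c_rc_13_2 lc_c_rc_7_3 lc_c_rc_14_2 lc_c_rc_2_3 lc_c_rc_22_5 lc_c_rc_13_2 lc_c_rc_25_1 lc_c_rc_7_5 lc_c_rc_26_8 lc_c_rc_7_3) (@D3.rec (fun _ => (Cert rels S Gen.c)) lc_c_rc_11_1 lc_c_rc_13_2 lc_c_rc_24_2 lc_c_rc_13_2 lc_c_rc_14_2 lc_c_rc_13_2 lc_c_rc_14_2 lc_c_rc_13_2 lc_c_rc_23_0 lc_c_rc_11_1 lc_c_rc_14_2 lc_c_rc_11_1 lc_c_rc_26_2 lc_c_rc_13_2 lc_c_rc_7_5 lc_c_rc_23_0 lc_c_rc_14_2 lc_c_rc_7_3 lc_c_rc_13_2 lc_c_Cert_tree lc_c_rc_13_2 lc_c_rc_13_2 lc_c_rc_24_6 lc_c_rc_11_1 lc_c_rc_13_0 lc_c_rc_14_2 lc_c_rc_11_1 lc_c_rc_23_5 lc_c_rc_11_1 lc_c_rc_13_2 lc_c_rc_13_2 lc_c_rc_11_1 lc_c_rc_13_2 lc_c_rc_25_13 lc_c_rc_7_5 lc_c_rc_24_8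 lc_c_rc_13_2 lc_c_rc_26_4 lc_c_rc_11_1 lc_c_rc_26_2 lc_c_rc_11_1 lc_c_rc_25_17 lc_c_rc_7_3 lc_c_rc_25_17 lc_c_rc_24_8 lc_c_rc_11_1 lc_c_rc_7_3 lc_c_rc_2_3 lc_c_rc_11_1 lc_c_rc_7_5 lc_c_rc_14_2 lc_c_rc_11_1 lc_c_rc_26_4 lc_c_rc_11_1 lc_c_rc_13_2 lc_c_rc_13_2 lc_c_rc_7_1 lc_c_rc_22_5 lc_c_rc_14_2 lc_c_rc_11_1 lc_c_rc_7_5 lc_c_rc_13_2) (@D3.rec (fun _ => (Cert rels S Gen.c)) lc_c_rc_13_2 lc_c_rc_11_1 lc_c_rc_11_1 lc_c_rc_22_3 lc_c_rc_14_2 lc_c_rc_7_3 lc_c_rc_23_5 lc_c_rc_13_2 lc_c_rc_13_2 lc_c_rc_11_1 lc_c_rc_11_1 lc_c_rc_26_8 lc_c_rc_13_2 lc_c_rc_13_2 lc_c_rc_26_4 lc_c_rc_14_2 lc_c_rc_13_2 lc_c_rc_11_1 lc_c_rc_22_3 lc_c_rc_11_1 lc_c_rc_7_1 lc_c_rc_13_2 lc_c_rc_24_8 lc_c_rc_13_0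 lc_c_rc_14_2 lc_c_rc_11_1 lc_c_Cert_tree lc_c_rc_13_2 lc_c_rc_22_7 lc_c_rc_11_1 lc_c_Cert_tree lc_c_rc_23_5 lc_c_Cert_tree lc_c_rc_11_1 lc_c_rc_14_2 lc_c_rc_13_2 lc_c_rc_14_2 lc_c_rc_22_3 lc_c_rc_2_3 lc_c_rc_23_5 lc_c_rc_13_2 lc_c_rc_13_0 lc_c_rc_26_10 lc_c_rc_26_4 lc_c_rc_11_1 lc_c_rc_13_2 lc_c_rc_26_8 lc_c_rc_23_0 lc_c_rc_14_2 lc_c_rc_11_1 lc_c_rc_11_1 lc_c_Cert_tree lc_c_rc_26_4 lc_c_rc_11_1 lc_c_rc_22_3 lc_c_rc_11_1 lc_c_rc_11_1 lc_c_rc_13_2 lc_c_Cert_tree lc_c_Cert_tree lc_c_rc_26_10 lc_c_rc_13_0) (@D3.rec (fun _ => (Cert rels S Gen.c)) lc_c_rc_24_2 lc_c_rc_2_3 lc_c_rc_13_2 lc_c_rc_11_1 lc_c_rc_24_8 lc_c_rc_13_2 lc_c_rc_26_4 lc_c_rc_13_2 lc_c_rc_13_2 lc_c_rc_22_9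 lc_c_rc_13_2 lc_c_rc_24_2 lc_c_rc_13_2 lc_c_rc_11_1 lc_c_rc_13_2 lc_c_rc_2_1 lc_c_rc_24_2 lc_c_rc_25_13 lc_c_rc_11_1 lc_c_rc_7_3 lc_c_rc_26_4 lc_c_rc_13_2 lc_c_rc_7_5 lc_c_rc_13_2 lc_c_rc_7_1 lc_c_rc_13_2 lc_c_rc_14_2 lc_c_rc_13_0 lc_c_rc_11_1 lc_c_rc_2_3 lc_c_rc_22_5 lc_c_rc_13_2 lc_c_rc_13_2 lc_c_rc_13_2 lc_c_rc_13_2 lc_c_Cert_tree lc_c_rc_14_2 lc_c_rc_11_1 lc_c_rc_23_0 lc_c_rc_14_2 lc_c_rc_22_3 lc_c_rc_11_1 lc_c_rc_7_1 lc_c_rc_13_2 lc_c_rc_14_2 lc_c_rc_11_1 lc_c_rc_13_0 lc_c_rc_11_1 lc_c_rc_14_2 lc_c_rc_11_1 lc_c_rc_2_3 lc_c_rc_23_5 lc_c_rc_7_5 lc_c_rc_22_3 lc_c_rc_14_2 lc_c_rc_11_1 lc_c_rc_26_2 lc_c_rc_11_1 lc_c_rc_11_1 lc_c_rc_24_8 lc_c_rc_24_8 lc_c_rc_7_5) (@D3.rec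 (fun _ => (Cert rels S Gen.c)) lc_c_Cert_tree lc_c_rc_11_1 lc_c_rc_11_1 lc_c_rc_7_5 lc_c_rc_11_1 lc_c_rc_11_1 lc_c_rc_11_1 lc_c_rc_14_0 lc_c_rc_14_2 lc_c_rc_14_2 lc_c_rc_11_1 lc_c_rc_24_4 lc_c_rc_23_5 lc_c_rc_24_2 lc_c_rc_24_6 lc_c_rc_26_10 lc_c_rc_7_5 lc_c_rc_13_2 lc_c_rc_26_10 lc_c_rc_24_8 lc_c_rc_23_0 lc_c_Cert_tree lc_c_rc_14_2 lc_c_Cert_tree lc_c_rc_11_1 lc_c_rc_23_5 lc_c_rc_13_2 lc_c_Cert_tree lc_c_rc_11_1 lc_c_rc_24_8 lc_c_rc_7_5 lc_c_rc_26_8 lc_c_rc_2_3 lc_c_Cert_tree lc_c_rc_13_2 lc_c_rc_7_3 lc_c_rc_13_2 lc_c_rc_11_1 lc_c_rc_26_2 lc_c_rc_11_1 lc_c_rc_23_0 lc_c_rc_11_1 lc_c_rc_13_2 lc_c_rc_11_1 lc_c_rc_11_1 lc_c_rc_11_1 lc_c_rc_22_9 lc_c_rc_13_2 lc_c_rc_11_1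 lc_c_rc_23_0 lc_c_rc_2_3 lc_c_rc_13_2 lc_c_rc_13_0 lc_c_rc_11_1 lc_c_rc_14_2 lc_c_rc_13_2 lc_c_rc_13_2 lc_c_rc_11_1 lc_c_rc_11_1 lc_c_Cert_tree lc_c_rc_13_2 lc_c_rc_11_1) (@D3.rec (fun _ => (Cert rels S Gen.c)) lc_c_rc_7_3 lc_c_rc_11_1 lc_c_rc_7_3 lc_c_rc_13_2 lc_c_rc_24_6 lc_c_rc_11_1 lc_c_rc_2_3 lc_c_rc_23_0 lc_c_rc_24_2 lc_c_rc_12_4 lc_c_rc_11_1 lc_c_rc_2_3 lc_c_rc_24_8 lc_c_rc_11_1 lc_c_rc_14_0 lc_c_rc_26_4 lc_c_rc_26_8 lc_c_rc_24_4 lc_c_rc_24_8 lc_c_rc_23_0 lc_c_rc_7_3 lc_c_Cert_tree lc_c_rc_13_2 lc_c_rc_23_5 lc_c_rc_13_0 lc_c_rc_24_8 lc_c_Cert_tree lc_c_rc_11_1 lc_c_rc_13_2 lc_c_rc_7_1 lc_c_rc_14_2 lc_c_rc_13_2 lc_c_rc_24_8 lc_c_rc_11_1 lc_c_Cert_tree lc_c_rc_2_1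 lc_c_rc_11_1 lc_c_rc_26_2 lc_c_rc_7_5 lc_c_rc_11_1 lc_c_rc_11_1 lc_c_rc_22_5 lc_c_Cert_tree lc_c_rc_13_0 lc_c_rc_2_1 lc_c_rc_13_0 lc_c_rc_11_1 lc_c_rc_7_3 lc_c_rc_11_1 lc_c_rc_13_0 lc_c_rc_13_2 lc_c_rc_23_0 lc_c_rc_11_1 lc_c_rc_13_2 lc_c_rc_22_3 lc_c_rc_13_2 lc_c_rc_2_1 lc_c_rc_13_2 lc_c_rc_2_3 lc_c_Cert_tree lc_c_rc_11_1 lc_c_rc_23_0) (@D3.rec (fun _ => (Cert rels S Gen.c)) lc_c_rc_13_2 lc_c_rc_13_2 lc_c_rc_13_2 lc_c_rc_13_2 lc_c_rc_23_5 lc_c_rc_2_3 lc_c_rc_24_4 lc_c_rc_7_5 lc_c_rc_7_5 lc_c_rc_11_1 lc_c_rc_26_4 lc_c_rc_26_2 lc_c_rc_23_0 lc_c_rc_11_1 lc_c_rc_11_1 lc_c_rc_22_3 lc_c_rc_26_4 lc_c_rc_11_1 lc_c_rc_2_3 lc_c_rc_7_5 lc_c_rc_11_1 lc_c_rc_23_5 lc_c_rc_7_3 lc_c_rc_24_4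 lc_c_rc_7_5 lc_c_rc_7_3 lc_c_rc_13_2 lc_c_rc_24_8 lc_c_rc_26_4 lc_c_rc_22_3 lc_c_rc_11_1 lc_c_rc_24_4 lc_c_rc_11_1 lc_c_rc_26_8 lc_c_Cert_tree lc_c_Cert_tree lc_c_Cert_tree lc_c_rc_13_2 lc_c_rc_14_2 lc_c_rc_11_1 lc_c_rc_13_0 lc_c_rc_26_8 lc_c_rc_26_4 lc_c_rc_26_4 lc_c_rc_13_2 lc_c_rc_11_1 lc_c_rc_23_0 lc_c_rc_25_9 lc_c_rc_13_2 lc_c_rc_7_5 lc_c_rc_13_2 lc_c_rc_11_1 lc_c_rc_26_4 lc_c_rc_26_8 lc_c_rc_26_4 lc_c_rc_13_0 lc_c_rc_7_5 lc_c_rc_11_1 lc_c_rc_7_3 lc_c_rc_22_5 lc_c_rc_23_0 lc_c_rc_14_0) (@D3.rec (fun _ => (Cert rels S Gen.c)) lc_c_rc_12_2 lc_c_rc_14_2 lc_c_rc_14_2 lc_c_rc_25_5 lc_c_rc_24_4 lc_c_rc_11_1 lc_c_rc_7_3 lc_c_rc_13_2 lc_c_rc_24_8 lc_c_Cert_tree lc_c_rc_22_3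 lc_c_rc_13_2 lc_c_rc_7_3 lc_c_rc_13_2 lc_c_Cert_tree lc_c_Cert_tree lc_c_rc_14_2 lc_c_rc_7_1 lc_c_rc_13_2 lc_c_rc_13_0 lc_c_Cert_tree lc_c_rc_2_3 lc_c_rc_7_5 lc_c_rc_11_1 lc_c_rc_26_4 lc_c_rc_26_4 lc_c_rc_13_2 lc_c_rc_13_2 lc_c_rc_24_8 lc_c_rc_7_5 lc_c_rc_14_2 lc_c_rc_25_13 lc_c_rc_11_1 lc_c_rc_7_1 lc_c_rc_13_2 lc_c_rc_7_5 lc_c_rc_11_1 lc_c_rc_14_2 lc_c_rc_13_2 lc_c_rc_13_0 lc_c_rc_22_9 lc_c_rc_13_2 lc_c_rc_24_2 lc_c_rc_13_2 lc_c_Cert_tree lc_c_rc_23_0 lc_c_rc_13_2 lc_c_rc_11_1 lc_c_rc_14_0 lc_c_rc_26_4 lc_c_rc_11_1 lc_c_rc_2_3 lc_c_rc_11_1 lc_c_rc_13_2 lc_c_rc_26_10 lc_c_rc_11_1 lc_c_rc_11_1 lc_c_rc_11_1 lc_c_rc_13_2 lc_c_rc_26_8 lc_c_rc_11_1 lc_c_rc_13_2) (@D3.rec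 (fun _ => (Cert rels S Gen.c)) lc_c_rc_11_1 lc_c_rc_11_1 lc_c_rc_11_1 lc_c_rc_7_3 lc_c_rc_22_5 lc_c_rc_13_2 lc_c_rc_22_5 lc_c_Cert_tree lc_c_rc_14_2 lc_c_rc_7_3 lc_c_rc_22_9 lc_c_rc_13_2 lc_c_rc_24_4 lc_c_rc_7_1 lc_c_rc_11_1 lc_c_rc_13_2 lc_c_rc_26_4 lc_c_rc_7_5 lc_c_rc_7_3 lc_c_rc_23_0 lc_c_rc_13_2 lc_c_rc_26_4 lc_c_rc_7_5 lc_c_rc_22_5 lc_c_rc_13_2 lc_c_rc_7_1 lc_c_rc_23_5 lc_c_rc_13_2 lc_c_rc_22_5 lc_c_rc_23_0 lc_c_rc_2_3 lc_c_rc_14_2 lc_c_rc_12_0 lc_c_rc_22_5 lc_c_rc_11_1 lc_c_rc_13_2 lc_c_rc_22_3 lc_c_rc_13_2 lc_c_rc_14_2 lc_c_rc_11_1 lc_c_rc_11_1 lc_c_rc_13_2 lc_c_rc_11_1 lc_c_rc_26_8 lc_c_rc_11_1 lc_c_rc_2_3 lc_c_rc_7_3 lc_c_rc_12_2 lc_c_rc_13_2 lc_c_rc_23_5 lc_c_rc_23_5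 lc_c_rc_14_2 lc_c_rc_26_2 lc_c_rc_11_1 lc_c_rc_11_1 lc_c_rc_14_2 lc_c_rc_7_1 lc_c_rc_13_2 lc_c_Cert_tree lc_c_Cert_tree lc_c_rc_23_0 lc_c_Cert_tree) (@D3.rec (fun _ => (Cert rels S Gen.c)) lc_c_rc_13_2 lc_c_rc_7_3 lc_c_rc_13_2 lc_c_rc_22_3 lc_c_rc_22_9 lc_c_rc_2_3 lc_c_rc_26_10 lc_c_rc_24_2 lc_c_rc_13_2 lc_c_rc_14_2 lc_c_Cert_tree lc_c_rc_11_1 lc_c_rc_23_5 lc_c_rc_11_1 lc_c_rc_23_5 lc_c_rc_13_2 lc_c_rc_22_3 lc_c_rc_11_1 lc_c_rc_13_2 lc_c_rc_13_2 lc_c_rc_7_3 lc_c_rc_13_2 lc_c_rc_23_5 lc_c_rc_11_1 lc_c_rc_11_1 lc_c_rc_2_1 lc_c_rc_13_2 lc_c_rc_13_0 lc_c_rc_25_17 lc_c_rc_14_2 lc_c_rc_11_1 lc_c_rc_13_0 lc_c_rc_13_2 lc_c_rc_26_8 lc_c_rc_11_1 lc_c_rc_13_0 lc_c_rc_7_5 lc_c_rc_26_4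 lc_c_rc_13_2 lc_c_rc_26_10 lc_c_rc_23_0 lc_c_rc_22_7 lc_c_rc_14_2 lc_c_rc_26_4 lc_c_rc_11_1 lc_c_rc_25_5 lc_c_rc_11_1 lc_c_rc_13_2 lc_c_rc_13_2 lc_c_rc_11_1 lc_c_rc_14_2 lc_c_rc_13_2 lc_c_rc_7_1 lc_c_rc_13_2 lc_c_rc_13_2 lc_c_rc_23_5 lc_c_rc_14_2 lc_c_rc_7_3 lc_c_rc_2_3 lc_c_rc_7_1 lc_c_rc_11_1 lc_c_rc_23_5) (@D3.rec (fun _ => (Cert rels S Gen.c)) lc_c_rc_14_2 lc_c_rc_11_1 lc_c_rc_13_2 lc_c_rc_26_8 lc_c_rc_11_1 lc_c_rc_11_1 lc_c_Cert_tree lc_c_rc_13_2 lc_c_rc_11_1 lc_c_rc_13_2 lc_c_rc_22_7 lc_c_rc_13_2 lc_c_rc_26_10 lc_c_rc_11_1 lc_c_rc_11_1 lc_c_rc_2_3 lc_c_Cert_tree lc_c_Cert_tree lc_c_rc_11_1 lc_c_rc_14_0 lc_c_rc_13_2 lc_c_rc_14_2 lc_c_rc_26_8 lc_c_rc_11_1 lc_c_Cert_tree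 lc_c_rc_22_7 lc_c_rc_13_0 lc_c_Cert_tree lc_c_Cert_tree lc_c_rc_11_1 lc_c_rc_22_7 lc_c_rc_11_1 lc_c_rc_11_1 lc_c_rc_14_2 lc_c_rc_11_1 lc_c_rc_11_1 lc_c_rc_26_4 lc_c_rc_2_1 lc_c_rc_11_1 lc_c_rc_13_2 lc_c_rc_22_5 lc_c_rc_22_9 lc_c_rc_14_2 lc_c_rc_11_1 lc_c_rc_23_5 lc_c_rc_24_2 lc_c_rc_24_2 lc_c_rc_11_1 lc_c_rc_11_1 lc_c_rc_23_5 lc_c_rc_13_2 lc_c_rc_24_8 lc_c_rc_24_8 lc_c_rc_14_2 lc_c_rc_22_7 lc_c_rc_11_1 lc_c_rc_23_5 lc_c_rc_13_0 lc_c_rc_11_1 lc_c_rc_24_6 lc_c_rc_23_0 lc_c_rc_7_3) (@D3.rec (fun _ => (Cert rels S Gen.c)) lc_c_rc_11_1 lc_c_rc_13_2 lc_c_rc_23_5 lc_c_rc_23_5 lc_c_rc_13_2 lc_c_rc_13_2 lc_c_rc_11_1 lc_c_rc_11_1 lc_c_rc_2_3 lc_c_rc_26_8 lc_c_rc_13_2 lc_c_rc_11_1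 lc_c_rc_22_9 lc_c_rc_14_2 lc_c_rc_7_3 lc_c_rc_13_2 lc_c_rc_14_2 lc_c_rc_14_2 lc_c_Cert_tree lc_c_Cert_tree lc_c_rc_2_1 lc_c_rc_14_0 lc_c_rc_22_3 lc_c_rc_14_2 lc_c_rc_22_5 lc_c_rc_13_2 lc_c_rc_11_1 lc_c_rc_24_6 lc_c_rc_24_2 lc_c_rc_26_2 lc_c_rc_26_10 lc_c_rc_7_3 lc_c_rc_11_1 lc_c_rc_26_10 lc_c_rc_26_8 lc_c_rc_11_1 lc_c_rc_13_2 lc_c_rc_2_3 lc_c_rc_24_6 lc_c_rc_14_2 lc_c_rc_14_2 lc_c_rc_22_7 lc_c_rc_14_2 lc_c_rc_24_4 lc_c_rc_11_1 lc_c_rc_22_3 lc_c_rc_22_3 lc_c_rc_11_1 lc_c_rc_26_10 lc_c_rc_11_1 lc_c_rc_7_5 lc_c_rc_11_1 lc_c_rc_13_2 lc_c_rc_26_10 lc_c_rc_26_2 lc_c_rc_13_2 lc_c_rc_13_2 lc_c_rc_13_2 lc_c_rc_2_1 lc_c_rc_14_2 lc_c_rc_11_1 lc_c_rc_11_1) (@D3.rec (fun _ => (Cert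 rels S Gen.c)) lc_c_rc_24_4 lc_c_rc_13_2 lc_c_rc_11_1 lc_c_rc_11_1 lc_c_rc_7_5 lc_c_rc_14_2 lc_c_rc_13_2 lc_c_rc_11_1 lc_c_Cert_tree lc_c_rc_26_10 lc_c_rc_11_1 lc_c_Cert_tree lc_c_rc_24_2 lc_c_rc_11_1 lc_c_rc_26_4 lc_c_rc_26_2 lc_c_rc_22_9 lc_c_rc_7_3 lc_c_Cert_tree lc_c_rc_13_2 lc_c_rc_13_0 lc_c_rc_26_4 lc_c_rc_24_2 lc_c_rc_13_2 lc_c_rc_11_1 lc_c_rc_13_2 lc_c_rc_23_5 lc_c_rc_13_2 lc_c_rc_26_2 lc_c_rc_13_2 lc_c_rc_11_1 lc_c_rc_7_5 lc_c_rc_11_1 lc_c_rc_26_2 lc_c_rc_26_8 lc_c_rc_24_6 lc_c_rc_11_1 lc_c_rc_22_5 lc_c_rc_26_2 lc_c_rc_11_1 lc_c_rc_11_1 lc_c_rc_13_2 lc_c_rc_26_4 lc_c_rc_26_10 lc_c_rc_23_0 lc_c_rc_22_3 lc_c_rc_11_1 lc_c_rc_13_2 lc_c_rc_13_2 lc_c_rc_13_2 lc_c_rc_11_1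 lc_c_rc_14_0 lc_c_rc_11_1 lc_c_rc_11_1 lc_c_rc_11_1 lc_c_rc_7_3 lc_c_rc_25_17 lc_c_rc_7_1 lc_c_rc_12_2 lc_c_rc_13_2 lc_c_rc_7_1 lc_c_rc_22_7) (@D3.rec (fun _ => (Cert rels S Gen.c)) lc_c_rc_24_4 lc_c_rc_23_0 lc_c_rc_14_2 lc_c_rc_7_3 lc_c_rc_24_2 lc_c_rc_13_2 lc_c_rc_24_4 lc_c_rc_7_5 lc_c_rc_7_5 lc_c_rc_13_2 lc_c_rc_22_9 lc_c_rc_22_5 lc_c_rc_13_2 lc_c_rc_2_3 lc_c_rc_14_2 lc_c_rc_24_8 lc_c_rc_22_5 lc_c_rc_25_5 lc_c_rc_26_4 lc_c_rc_11_1 lc_c_rc_11_1 lc_c_rc_26_2 lc_c_rc_11_1 lc_c_rc_11_1 lc_c_rc_7_3 lc_c_rc_7_5 lc_c_rc_25_17 lc_c_rc_23_5 lc_c_rc_2_3 lc_c_rc_26_4 lc_c_rc_2_3 lc_c_rc_13_0 lc_c_rc_11_1 lc_c_rc_11_1 lc_c_rc_2_3 lc_c_rc_26_4 lc_c_rc_2_3 lc_c_rc_13_2 lc_c_rc_13_2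 lc_c_rc_11_1 lc_c_rc_11_1 lc_c_rc_7_1 lc_c_rc_13_0 lc_c_rc_13_2 lc_c_rc_7_3 lc_c_rc_14_2 lc_c_rc_11_1 lc_c_rc_26_4 lc_c_rc_23_0 lc_c_rc_23_0 lc_c_rc_14_2 lc_c_rc_26_8 lc_c_rc_11_1 lc_c_rc_7_5 lc_c_rc_11_1 lc_c_rc_13_2 lc_c_rc_26_4 lc_c_rc_11_1 lc_c_rc_2_1 lc_c_rc_7_1 lc_c_rc_13_2 lc_c_rc_25_17) (@D3.rec (fun _ => (Cert rels S Gen.c)) lc_c_rc_13_2 lc_c_rc_2_3 lc_c_rc_11_1 lc_c_rc_13_2 lc_c_rc_23_0 lc_c_rc_11_1 lc_c_rc_24_4 lc_c_rc_11_1 lc_c_rc_2_3 lc_c_rc_13_2 lc_c_rc_13_0 lc_c_rc_14_2 lc_c_Cert_tree lc_c_rc_13_0 lc_c_Cert_tree lc_c_rc_11_1 lc_c_rc_14_2 lc_c_rc_26_8 lc_c_rc_11_1 lc_c_rc_11_1 lc_c_rc_14_2 lc_c_rc_13_2 lc_c_rc_13_2 lc_c_rc_13_2 lc_c_rc_22_9 lc_c_rc_14_2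 lc_c_rc_22_3 lc_c_rc_14_0 lc_c_rc_11_1 lc_c_rc_7_1 lc_c_rc_24_6 lc_c_rc_2_3 lc_c_rc_12_0 lc_c_rc_11_1 lc_c_rc_23_5 lc_c_rc_13_2 lc_c_rc_13_2 lc_c_rc_13_0 lc_c_rc_22_3 lc_c_rc_11_1 lc_c_rc_26_2 lc_c_rc_11_1 lc_c_rc_24_4 lc_c_rc_24_2 lc_c_rc_11_1 lc_c_rc_11_1 lc_c_rc_24_4 lc_c_Cert_tree lc_c_rc_14_0 lc_c_rc_24_4 lc_c_rc_23_5 lc_c_rc_11_1 lc_c_rc_26_4 lc_c_rc_23_0 lc_c_rc_24_4 lc_c_rc_11_1 lc_c_rc_24_6 lc_c_rc_11_1 lc_c_rc_2_3 lc_c_rc_13_2 lc_c_rc_11_1 lc_c_rc_13_0) (@D3.rec (fun _ => (Cert rels S Gen.c)) lc_c_rc_22_3 lc_c_rc_14_2 lc_c_Cert_tree lc_c_rc_11_1 lc_c_rc_23_5 lc_c_rc_11_1 lc_c_rc_11_1 lc_c_rc_7_3 lc_c_rc_11_1 lc_c_rc_23_5 lc_c_rc_7_3 lc_c_rc_24_2 lc_c_rc_26_10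 lc_c_rc_11_1 lc_c_rc_13_2 lc_c_rc_7_3 lc_c_rc_11_1 lc_c_rc_13_2 lc_c_rc_7_5 lc_c_rc_11_1 lc_c_rc_2_3 lc_c_rc_7_1 lc_c_rc_13_2 lc_c_Cert_tree lc_c_rc_11_1 lc_c_rc_2_3 lc_c_rc_26_8 lc_c_rc_13_2 lc_c_rc_26_2 lc_c_rc_26_10 lc_c_rc_2_3 lc_c_Cert_tree lc_c_rc_11_1 lc_c_rc_2_3 lc_c_rc_11_1 lc_c_rc_13_2 lc_c_rc_26_2 lc_c_rc_11_1 lc_c_rc_22_3 lc_c_rc_2_3 lc_c_rc_11_1 lc_c_rc_13_2 lc_c_rc_2_3 lc_c_rc_13_2 lc_c_rc_14_2 lc_c_rc_24_8 lc_c_rc_24_8 lc_c_rc_25_17 lc_c_rc_26_4 lc_c_rc_13_2 lc_c_rc_24_4 lc_c_Cert_tree lc_c_rc_14_2 lc_c_rc_11_1 lc_c_rc_12_0 lc_c_rc_24_2 lc_c_rc_7_5 lc_c_rc_11_1 lc_c_rc_26_8 lc_c_rc_26_4 lc_c_rc_11_1 lc_c_rc_22_7) (@D3.rec (fun _ => (Cert rels S Gen.c))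 lc_c_rc_13_2 lc_c_rc_13_2 lc_c_rc_7_5 lc_c_Cert_tree lc_c_rc_14_2 lc_c_rc_23_5 lc_c_rc_11_1 lc_c_rc_24_8 lc_c_rc_11_1 lc_c_rc_12_2 lc_c_rc_2_3 lc_c_rc_13_2 lc_c_rc_14_2 lc_c_rc_26_4 lc_c_rc_2_1 lc_c_rc_26_10 lc_c_rc_7_5 lc_c_rc_13_2 lc_c_rc_13_2 lc_c_rc_2_3 lc_c_rc_11_1 lc_c_rc_26_4 lc_c_rc_2_3 lc_c_rc_7_5 lc_c_rc_11_1 lc_c_rc_13_2 lc_c_rc_11_1 lc_c_rc_23_0 lc_c_rc_22_5 lc_c_rc_22_5 lc_c_Cert_tree lc_c_rc_22_7 lc_c_rc_7_3 lc_c_rc_24_4 lc_c_rc_2_1 lc_c_rc_24_2 lc_c_rc_24_2 lc_c_rc_11_1 lc_c_rc_24_6 lc_c_rc_11_1 lc_c_rc_24_4 lc_c_rc_11_1 lc_c_rc_11_1 lc_c_rc_2_3 lc_c_rc_14_2 lc_c_rc_23_5 lc_c_rc_11_1 lc_c_rc_24_2 lc_c_rc_12_2 lc_c_rc_24_4 lc_c_Cert_tree lc_c_rc_26_10 lc_c_rc_13_2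 lc_c_rc_24_6 lc_c_rc_23_0 lc_c_rc_22_3 lc_c_rc_26_10 lc_c_rc_24_8 lc_c_rc_11_1 lc_c_rc_22_9 lc_c_rc_26_4 lc_c_rc_24_4) (@D3.rec (fun _ => (Cert rels S Gen.c)) lc_c_rc_11_1 lc_c_rc_14_2 lc_c_rc_13_2 lc_c_rc_26_2 lc_c_rc_12_2 lc_c_rc_11_1 lc_c_Cert_tree lc_c_rc_7_5 lc_c_rc_14_2 lc_c_rc_24_4 lc_c_rc_14_2 lc_c_rc_26_2 lc_c_rc_11_1 lc_c_rc_25_1 lc_c_rc_11_1 lc_c_rc_22_5 lc_c_rc_22_9 lc_c_Cert_tree lc_c_rc_11_1 lc_c_rc_22_9 lc_c_rc_13_2 lc_c_rc_11_1 lc_c_rc_7_5 lc_c_rc_11_1 lc_c_rc_7_3 lc_c_rc_13_2 lc_c_rc_23_0 lc_c_rc_14_2 lc_c_rc_11_1 lc_c_rc_11_1 lc_c_rc_7_3 lc_c_rc_22_5 lc_c_rc_14_2 lc_c_rc_2_3 lc_c_rc_13_2 lc_c_Cert_tree lc_c_Cert_tree lc_c_rc_14_2 lc_c_rc_11_1 lc_c_rc_13_2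 lc_c_rc_24_2 lc_c_rc_26_4 lc_c_rc_11_1 lc_c_Cert_tree lc_c_rc_11_1 lc_c_rc_12_2 lc_c_rc_24_4 lc_c_rc_22_3 lc_c_rc_11_1 lc_c_rc_11_1 lc_c_rc_7_3 lc_c_rc_26_2 lc_c_Cert_tree lc_c_rc_13_2 lc_c_rc_26_4 lc_c_rc_13_2 lc_c_rc_11_1 lc_c_rc_26_2 lc_c_rc_26_2 lc_c_rc_22_7 lc_c_rc_11_1 lc_c_rc_13_2) (@D3.rec (fun _ => (Cert rels S Gen.c)) lc_c_rc_11_1 lc_c_rc_23_5 lc_c_rc_24_4 lc_c_rc_7_3 lc_c_rc_22_5 lc_c_rc_14_2 lc_c_rc_13_2 lc_c_Cert_tree lc_c_rc_13_2 lc_c_Cert_tree lc_c_rc_11_1 lc_c_rc_23_0 lc_c_rc_23_0 lc_c_rc_23_0 lc_c_rc_11_1 lc_c_rc_24_2 lc_c_rc_24_4 lc_c_rc_26_2 lc_c_rc_11_1 lc_c_rc_11_1 lc_c_rc_22_3 lc_c_rc_14_2 lc_c_rc_14_2 lc_c_rc_11_1 lc_c_rc_13_2 lc_c_Cert_tree lc_c_rc_13_2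 lc_c_rc_23_0 lc_c_rc_14_2 lc_c_rc_13_2 lc_c_rc_13_2 lc_c_Cert_tree lc_c_rc_13_2 lc_c_rc_23_0 lc_c_rc_11_1 lc_c_rc_14_2 lc_c_rc_13_2 lc_c_rc_24_6 lc_c_rc_14_2 lc_c_Cert_tree lc_c_rc_13_2 lc_c_Cert_tree lc_c_rc_23_0 lc_c_rc_12_2 lc_c_rc_13_0 lc_c_rc_24_6 lc_c_rc_13_2 lc_c_rc_14_0 lc_c_rc_13_2 lc_c_rc_24_8 lc_c_rc_13_2 lc_c_rc_24_8 lc_c_rc_26_10 lc_c_rc_12_0 lc_c_rc_13_2 lc_c_rc_22_7 lc_c_rc_26_10 lc_c_rc_14_2 lc_c_rc_11_1 lc_c_rc_24_2 lc_c_Cert_tree lc_c_rc_12_2) (@D3.rec (fun _ => (Cert rels S Gen.c)) lc_c_rc_13_2 lc_c_rc_7_1 lc_c_Cert_tree lc_c_rc_13_2 lc_c_Cert_tree lc_c_Cert_tree lc_c_rc_11_1 lc_c_rc_22_7 lc_c_rc_24_2 lc_c_rc_2_1 lc_c_Cert_tree lc_c_rc_13_2 lc_c_rc_13_2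 lc_c_Cert_tree lc_c_rc_13_2 lc_c_rc_7_3 lc_c_rc_26_4 lc_c_rc_26_2 lc_c_rc_26_10 lc_c_rc_7_5 lc_c_rc_23_5 lc_c_rc_7_5 lc_c_rc_24_4 lc_c_rc_26_2 lc_c_rc_14_2 lc_c_rc_13_2 lc_c_rc_24_8 lc_c_rc_11_1 lc_c_rc_11_1 lc_c_rc_26_2 lc_c_Cert_tree lc_c_rc_13_0 lc_c_rc_26_4 lc_c_rc_26_10 lc_c_rc_11_1 lc_c_rc_14_0 lc_c_rc_7_5 lc_c_rc_11_1 lc_c_rc_23_0 lc_c_rc_22_9 lc_c_Cert_tree lc_c_rc_11_1 lc_c_rc_26_10 lc_c_Cert_tree lc_c_rc_11_1 lc_c_rc_24_6 lc_c_rc_11_1 lc_c_rc_7_3 lc_c_rc_22_7 lc_c_rc_14_2 lc_c_rc_11_1 lc_c_Cert_tree lc_c_Cert_tree lc_c_rc_26_4 lc_c_rc_25_9 lc_c_Cert_tree lc_c_rc_11_1 lc_c_rc_11_1 lc_c_rc_25_9 lc_c_rc_13_2 lc_c_rc_13_2 lc_c_Cert_tree) (@D3.rec (fun _ => (Cert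 rels S Gen.c)) lc_c_rc_23_5 lc_c_rc_7_3 lc_c_Cert_tree lc_c_rc_11_1 lc_c_rc_13_2 lc_c_rc_23_0 lc_c_rc_14_2 lc_c_rc_13_0 lc_c_rc_11_1 lc_c_rc_26_2 lc_c_rc_22_5 lc_c_Cert_tree lc_c_rc_11_1 lc_c_rc_7_1 lc_c_rc_24_6 lc_c_rc_11_1 lc_c_rc_2_1 lc_c_rc_24_2 lc_c_rc_14_2 lc_c_rc_7_5 lc_c_rc_26_4 lc_c_rc_22_7 lc_c_rc_7_3 lc_c_rc_7_5 lc_c_rc_11_1 lc_c_rc_25_1 lc_c_rc_13_2 lc_c_rc_14_2 lc_c_rc_11_1 lc_c_Cert_tree lc_c_rc_11_1 lc_c_rc_2_3 lc_c_rc_11_1 lc_c_rc_13_2 lc_c_rc_11_1 lc_c_rc_2_3 lc_c_rc_11_1 lc_c_rc_11_1 lc_c_rc_7_3 lc_c_rc_22_9 lc_c_rc_14_2 lc_c_rc_13_2 lc_c_rc_11_1 lc_c_Cert_tree lc_c_Cert_tree lc_c_rc_23_5 lc_c_rc_11_1 lc_c_rc_23_0 lc_c_Cert_tree lc_c_rc_14_0 lc_c_rc_26_4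 lc_c_rc_11_1 lc_c_rc_24_4 lc_c_rc_24_4 lc_c_rc_23_0 lc_c_rc_22_9 lc_c_rc_11_1 lc_c_rc_23_0 lc_c_rc_14_0 lc_c_rc_11_1 lc_c_rc_23_5 lc_c_rc_11_1) (@D3.rec (fun _ => (Cert rels S Gen.c)) lc_c_rc_26_10 lc_c_rc_7_3 lc_c_rc_22_9 lc_c_rc_14_2 lc_c_rc_11_1 lc_c_rc_24_2 lc_c_rc_13_2 lc_c_rc_13_2 lc_c_rc_26_8 lc_c_rc_13_2 lc_c_rc_25_1 lc_c_rc_22_5 lc_c_rc_11_1 lc_c_rc_23_5 lc_c_rc_24_2 lc_c_rc_26_4 lc_c_rc_26_8 lc_c_rc_11_1 lc_c_rc_13_2 lc_c_rc_23_5 lc_c_rc_13_0 lc_c_rc_7_3 lc_c_rc_13_2 lc_c_Cert_tree lc_c_rc_13_0 lc_c_rc_14_2 lc_c_rc_11_1 lc_c_rc_22_7 lc_c_rc_13_2 lc_c_rc_24_2 lc_c_rc_23_0 lc_c_rc_13_2 lc_c_rc_26_4 lc_c_rc_11_1 lc_c_rc_13_2 lc_c_rc_22_3 lc_c_rc_13_2 lc_c_rc_24_6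 lc_c_rc_2_1 lc_c_rc_13_2 lc_c_Cert_tree lc_c_Cert_tree lc_c_rc_11_1 lc_c_rc_13_2 lc_c_rc_7_3 lc_c_rc_13_2 lc_c_rc_7_3 lc_c_Cert_tree lc_c_rc_14_2 lc_c_rc_22_9 lc_c_rc_26_4 lc_c_rc_11_1 lc_c_rc_26_2 lc_c_rc_11_1 lc_c_rc_11_1 lc_c_rc_26_4 lc_c_rc_7_5 lc_c_rc_13_2 lc_c_rc_11_1 lc_c_rc_11_1 lc_c_Cert_tree lc_c_rc_26_2) (@D3.rec (fun _ => (Cert rels S Gen.c)) lc_c_rc_26_4 lc_c_rc_11_1 lc_c_Cert_tree lc_c_rc_26_4 lc_c_rc_13_0 lc_c_rc_7_5 lc_c_rc_11_1 lc_c_rc_2_3 lc_c_rc_13_2 lc_c_rc_13_2 lc_c_rc_2_3 lc_c_rc_13_2 lc_c_rc_11_1 lc_c_rc_13_2 lc_c_rc_22_3 lc_c_rc_11_1 lc_c_rc_7_5 lc_c_rc_26_8 lc_c_rc_11_1 lc_c_rc_11_1 lc_c_rc_11_1 lc_c_Cert_tree lc_c_rc_23_0 lc_c_rc_24_4 lc_c_Cert_tree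 lc_c_rc_23_0 lc_c_rc_24_6 lc_c_rc_11_1 lc_c_rc_22_7 lc_c_rc_14_2 lc_c_rc_11_1 lc_c_rc_7_3 lc_c_rc_24_2 lc_c_rc_22_3 lc_c_rc_22_5 lc_c_rc_24_4 lc_c_rc_7_1 lc_c_rc_7_3 lc_c_rc_11_1 lc_c_rc_13_2 lc_c_rc_11_1 lc_c_rc_22_3 lc_c_rc_26_2 lc_c_rc_23_5 lc_c_Cert_tree lc_c_rc_25_17 lc_c_rc_24_8 lc_c_rc_24_8 lc_c_rc_11_1 lc_c_rc_22_3 lc_c_Cert_tree lc_c_rc_11_1 lc_c_rc_23_5 lc_c_rc_13_2 lc_c_rc_24_2 lc_c_rc_26_4 lc_c_rc_13_2 lc_c_rc_13_2 lc_c_rc_11_1 lc_c_rc_11_1 lc_c_rc_7_3 lc_c_rc_13_2) (@D3.rec (fun _ => (Cert rels S Gen.c)) lc_c_rc_24_2 lc_c_rc_22_3 lc_c_rc_11_1 lc_c_Cert_tree lc_c_rc_7_5 lc_c_rc_11_1 lc_c_rc_24_2 lc_c_rc_13_2 lc_c_Cert_tree lc_c_rc_13_2 lc_c_rc_11_1 lc_c_rc_24_6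 lc_c_rc_7_3 lc_c_rc_14_2 lc_c_rc_13_2 lc_c_rc_11_1 lc_c_rc_7_1 lc_c_rc_24_4 lc_c_rc_14_2 lc_c_rc_23_0 lc_c_rc_13_2 lc_c_rc_7_1 lc_c_Cert_tree lc_c_Cert_tree lc_c_rc_2_1 lc_c_rc_7_1 lc_c_rc_13_2 lc_c_rc_11_1 lc_c_rc_11_1 lc_c_rc_24_2 lc_c_rc_11_1 lc_c_rc_26_4 lc_c_rc_11_1 lc_c_rc_11_1 lc_c_rc_7_5 lc_c_rc_12_14 lc_c_rc_11_1 lc_c_rc_14_0 lc_c_rc_26_4 lc_c_rc_13_2 lc_c_rc_22_7 lc_c_rc_7_5 lc_c_rc_11_1 lc_c_rc_13_2 lc_c_rc_11_1 lc_c_rc_23_0 lc_c_rc_23_5 lc_c_rc_23_5 lc_c_rc_13_2 lc_c_rc_24_2 lc_c_rc_13_2 lc_c_rc_23_0 lc_c_rc_7_5 lc_c_rc_24_4 lc_c_Cert_tree lc_c_rc_7_1 lc_c_rc_22_3 lc_c_rc_11_1 lc_c_rc_23_0 lc_c_rc_11_1 lc_c_rc_24_6 lc_c_rc_13_2) (@D3.rec (fun _ => (Cert rels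 S Gen.c)) lc_c_rc_13_2 lc_c_rc_26_10 lc_c_rc_23_5 lc_c_rc_24_4 lc_c_rc_11_1 lc_c_rc_11_1 lc_c_rc_7_3 lc_c_rc_13_2 lc_c_Cert_tree lc_c_rc_11_1 lc_c_rc_23_5 lc_c_rc_22_9 lc_c_rc_14_2 lc_c_rc_2_3 lc_c_rc_7_3 lc_c_rc_24_2 lc_c_rc_11_1 lc_c_rc_2_3 lc_c_rc_23_0 lc_c_rc_13_2 lc_c_rc_24_6 lc_c_rc_22_3 lc_c_rc_13_2 lc_c_rc_7_3 lc_c_rc_7_3 lc_c_rc_13_2 lc_c_rc_13_2 lc_c_rc_22_3 lc_c_rc_14_0 lc_c_rc_11_1 lc_c_rc_7_1 lc_c_rc_2_3 lc_c_rc_11_1 lc_c_rc_14_0 lc_c_rc_11_1 lc_c_rc_11_1 lc_c_rc_11_1 lc_c_rc_23_0 lc_c_rc_24_6 lc_c_rc_24_2 lc_c_rc_26_8 lc_c_rc_11_1 lc_c_rc_13_2 lc_c_rc_11_1 lc_c_rc_13_2 lc_c_rc_7_3 lc_c_rc_11_1 lc_c_rc_2_1 lc_c_rc_7_3 lc_c_rc_11_1 lc_c_rc_26_2 lc_c_rc_14_2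 lc_c_rc_11_1 lc_c_rc_14_2 lc_c_rc_11_1 lc_c_rc_11_1 lc_c_rc_11_1 lc_c_rc_23_5 lc_c_Cert_tree lc_c_rc_13_2 lc_c_Cert_tree lc_c_rc_23_5) (@D3.rec (fun _ => (Cert rels S Gen.c)) lc_c_Cert_tree lc_c_rc_13_2 lc_c_rc_26_4 lc_c_rc_22_5 lc_c_rc_23_0 lc_c_rc_22_3 lc_c_rc_13_2 lc_c_rc_2_1 lc_c_rc_22_7 lc_c_rc_14_2 lc_c_rc_26_4 lc_c_rc_11_1 lc_c_rc_23_0 lc_c_rc_11_1 lc_c_rc_26_2 lc_c_rc_14_2 lc_c_rc_11_1 lc_c_rc_25_17 lc_c_rc_25_5 lc_c_rc_13_2 lc_c_Cert_tree lc_c_rc_13_0 lc_c_rc_23_0 lc_c_rc_2_3 lc_c_rc_26_10 lc_c_rc_22_7 lc_c_rc_14_2 lc_c_rc_13_2 lc_c_rc_7_5 lc_c_rc_23_5 lc_c_rc_11_1 lc_c_rc_11_1 lc_c_rc_14_0 lc_c_rc_13_2 lc_c_rc_11_1 lc_c_rc_14_2 lc_c_rc_14_0 lc_c_rc_13_0 lc_c_Cert_tree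 lc_c_rc_11_1 lc_c_rc_24_2 lc_c_rc_2_3 lc_c_rc_25_1 lc_c_rc_22_3 lc_c_rc_11_1 lc_c_rc_22_3 lc_c_rc_26_8 lc_c_rc_11_1 lc_c_rc_26_8 lc_c_rc_11_1 lc_c_Cert_tree lc_c_rc_11_1 lc_c_rc_24_8 lc_c_rc_14_2 lc_c_rc_2_1 lc_c_rc_24_6 lc_c_rc_2_3 lc_c_rc_13_0 lc_c_rc_26_10 lc_c_rc_26_2 lc_c_rc_11_1 lc_c_rc_26_10) (@D3.rec (fun _ => (Cert rels S Gen.c)) lc_c_rc_23_0 lc_c_Cert_tree lc_c_Cert_tree lc_c_rc_24_8 lc_c_rc_26_10 lc_c_rc_7_5 lc_c_rc_11_1 lc_c_rc_22_3 lc_c_rc_11_1 lc_c_rc_13_2 lc_c_rc_13_2 lc_c_rc_23_0 lc_c_rc_12_2 lc_c_rc_11_1 lc_c_rc_7_3 lc_c_rc_11_1 lc_c_rc_11_1 lc_c_rc_24_8 lc_c_rc_11_1 lc_c_rc_11_1 lc_c_rc_13_2 lc_c_rc_14_2 lc_c_Cert_tree lc_c_rc_13_2 lc_c_rc_22_3 lc_c_rc_13_2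 lc_c_rc_13_2 lc_c_rc_13_0 lc_c_rc_2_3 lc_c_rc_14_2 lc_c_rc_24_2 lc_c_rc_24_8 lc_c_rc_26_8 lc_c_rc_13_2 lc_c_rc_26_2 lc_c_rc_13_2 lc_c_rc_26_4 lc_c_rc_26_2 lc_c_rc_13_2 lc_c_rc_22_3 lc_c_rc_13_2 lc_c_rc_24_2 lc_c_rc_11_1 lc_c_rc_13_2 lc_c_rc_14_2 lc_c_rc_26_4 lc_c_rc_11_1 lc_c_rc_13_2 lc_c_Cert_tree lc_c_rc_11_1 lc_c_rc_11_1 lc_c_rc_2_1 lc_c_rc_7_3 lc_c_rc_14_2 lc_c_rc_13_2 lc_c_rc_22_3 lc_c_rc_13_2 lc_c_rc_11_1 lc_c_rc_11_1 lc_c_rc_12_2 lc_c_rc_24_4 lc_c_rc_7_3) (@D3.rec (fun _ => (Cert rels S Gen.c)) lc_c_rc_13_0 lc_c_rc_24_4 lc_c_rc_23_0 lc_c_rc_24_4 lc_c_rc_24_4 lc_c_rc_23_5 lc_c_rc_7_5 lc_c_rc_14_0 lc_c_rc_11_1 lc_c_rc_26_2 lc_c_Cert_tree lc_c_rc_26_10 lc_c_rc_2_3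 lc_c_rc_13_2 lc_c_rc_11_1 lc_c_rc_7_5 lc_c_rc_22_3 lc_c_rc_14_2 lc_c_rc_11_1 lc_c_rc_11_1 lc_c_rc_13_0 lc_c_rc_11_1 lc_c_rc_7_5 lc_c_rc_13_0 lc_c_rc_11_1 lc_c_rc_14_2 lc_c_rc_7_3 lc_c_rc_7_3 lc_c_rc_24_2 lc_c_rc_13_2 lc_c_rc_2_3 lc_c_rc_13_2 lc_c_rc_24_2 lc_c_rc_13_2 lc_c_rc_13_2 lc_c_rc_2_3 lc_c_rc_13_2 lc_c_rc_7_3 lc_c_rc_2_3 lc_c_rc_11_1 lc_c_rc_13_0 lc_c_rc_7_5 lc_c_rc_14_2 lc_c_rc_11_1 lc_c_rc_13_2 lc_c_rc_14_2 lc_c_rc_13_2 lc_c_rc_14_2 lc_c_rc_11_1 lc_c_rc_26_10 lc_c_rc_24_8 lc_c_rc_23_0 lc_c_rc_11_1 lc_c_rc_24_2 lc_c_rc_13_0 lc_c_rc_11_1 lc_c_rc_22_5 lc_c_rc_11_1 lc_c_rc_24_2 lc_c_rc_11_1 lc_c_rc_11_1 lc_c_rc_26_8) (@D3.rec (fun _ => (Cert rels S Gen.c)) lc_c_rc_11_1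 lc_c_rc_22_3 lc_c_rc_11_1 lc_c_rc_26_2 lc_c_rc_26_2 lc_c_rc_22_5 lc_c_Cert_tree lc_c_rc_7_5 lc_c_Cert_tree lc_c_Cert_tree lc_c_rc_12_2 lc_c_rc_24_8 lc_c_rc_22_3 lc_c_rc_22_5 lc_c_rc_26_2 lc_c_rc_11_1 lc_c_rc_23_5 lc_c_rc_24_2 lc_c_rc_14_2 lc_c_rc_2_3 lc_c_rc_23_0 lc_c_rc_14_2 lc_c_rc_11_1 lc_c_rc_7_5 lc_c_rc_24_2 lc_c_rc_22_5 lc_c_rc_26_10 lc_c_rc_23_0 lc_c_rc_13_2 lc_c_rc_22_9 lc_c_rc_7_5 lc_c_rc_22_5 lc_c_rc_26_10 lc_c_rc_2_3 lc_c_rc_11_1 lc_c_rc_24_2 lc_c_rc_26_2 lc_c_rc_2_3 lc_c_rc_26_2 lc_c_rc_13_2 lc_c_rc_13_2 lc_c_rc_11_1 lc_c_rc_14_2 lc_c_rc_22_3 lc_c_Cert_tree lc_c_rc_11_1 lc_c_rc_2_3 lc_c_rc_26_10 lc_c_rc_11_1 lc_c_rc_11_1 lc_c_rc_2_3 lc_c_rc_26_2 lc_c_rc_11_1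 lc_c_Cert_tree lc_c_rc_11_1 lc_c_rc_13_2 lc_c_rc_26_4 lc_c_rc_24_6 lc_c_rc_14_2 lc_c_rc_25_5 lc_c_rc_26_2 lc_c_Cert_tree) (@D3.rec (fun _ => (Cert rels S Gen.c)) lc_c_rc_26_4 lc_c_rc_24_4 lc_c_rc_13_2 lc_c_rc_14_0 lc_c_rc_7_3 lc_c_rc_11_1 lc_c_rc_7_5 lc_c_Cert_tree lc_c_rc_11_1 lc_c_rc_26_4 lc_c_rc_7_3 lc_c_rc_11_1 lc_c_rc_26_2 lc_c_rc_11_1 lc_c_rc_7_5 lc_c_rc_11_1 lc_c_rc_26_2 lc_c_rc_13_2 lc_c_rc_14_0 lc_c_rc_23_0 lc_c_rc_22_5 lc_c_rc_11_1 lc_c_rc_22_9 lc_c_rc_14_2 lc_c_rc_24_2 lc_c_rc_11_1 lc_c_rc_26_8 lc_c_rc_2_3 lc_c_rc_13_2 lc_c_rc_24_4 lc_c_rc_11_1 lc_c_rc_11_1 lc_c_rc_13_2 lc_c_rc_26_10 lc_c_rc_11_1 lc_c_rc_2_3 lc_c_rc_26_8 lc_c_rc_11_1 lc_c_rc_26_4 lc_c_rc_11_1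 lc_c_rc_13_2 lc_c_rc_11_1 lc_c_rc_7_1 lc_c_rc_7_5 lc_c_rc_11_1 lc_c_rc_13_0 lc_c_rc_26_10 lc_c_rc_11_1 lc_c_rc_26_2 lc_c_rc_11_1 lc_c_rc_11_1 lc_c_rc_26_4 lc_c_rc_11_1 lc_c_rc_24_6 lc_c_rc_7_3 lc_c_rc_7_5 lc_c_rc_24_8 lc_c_rc_23_0 lc_c_rc_11_1 lc_c_Cert_tree lc_c_rc_2_3 lc_c_rc_22_7) (@D3.rec (fun _ => (Cert rels S Gen.c)) lc_c_rc_14_2 lc_c_rc_26_10 lc_c_rc_25_1 lc_c_rc_2_1 lc_c_rc_11_1 lc_c_rc_11_1 lc_c_rc_11_1 lc_c_rc_22_5 lc_c_rc_22_7 lc_c_rc_25_17 lc_c_rc_22_5 lc_c_rc_7_5 lc_c_rc_11_1 lc_c_rc_25_9 lc_c_rc_26_2 lc_c_rc_13_2 lc_c_rc_11_1 lc_c_rc_13_2 lc_c_rc_26_4 lc_c_rc_13_2 lc_c_rc_26_4 lc_c_rc_13_2 lc_c_rc_11_1 lc_c_rc_26_4 lc_c_rc_11_1 lc_c_rc_25_1 lc_c_rc_22_3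 lc_c_rc_11_1 lc_c_rc_26_8 lc_c_rc_24_6 lc_c_rc_24_6 lc_c_rc_13_0 lc_c_rc_14_2 lc_c_rc_23_0 lc_c_rc_13_2 lc_c_rc_13_0 lc_c_rc_23_5 lc_c_rc_13_2 lc_c_rc_11_1 lc_c_rc_23_5 lc_c_rc_23_5 lc_c_rc_14_0 lc_c_rc_24_4 lc_c_Cert_tree lc_c_rc_13_2 lc_c_rc_26_4 lc_c_rc_22_3 lc_c_rc_24_6 lc_c_rc_11_1 lc_c_rc_26_2 lc_c_rc_12_2 lc_c_rc_22_7 lc_c_rc_26_4 lc_c_rc_11_1 lc_c_rc_26_4 lc_c_Cert_tree lc_c_Cert_tree lc_c_rc_2_1 lc_c_Cert_tree lc_c_Cert_tree lc_c_rc_11_1 lc_c_rc_22_5) (@D3.rec (fun _ => (Cert rels S Gen.c)) lc_c_rc_26_4 lc_c_rc_23_0 lc_c_rc_23_0 lc_c_rc_22_9 lc_c_rc_22_3 lc_c_rc_2_3 lc_c_rc_13_2 lc_c_rc_13_2 lc_c_rc_26_2 lc_c_rc_14_0 lc_c_rc_13_2 lc_c_Cert_tree lc_c_Cert_tree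 lc_c_rc_26_4 lc_c_rc_7_5 lc_c_rc_24_4 lc_c_Cert_tree lc_c_rc_2_3 lc_c_Cert_tree lc_c_rc_14_2 lc_c_rc_11_1 lc_c_rc_11_1 lc_c_rc_24_2 lc_c_rc_22_3 lc_c_rc_23_5 lc_c_rc_23_5 lc_c_rc_13_2 lc_c_Cert_tree lc_c_rc_11_1 lc_c_rc_2_1 lc_c_Cert_tree lc_c_rc_13_2 lc_c_rc_11_1 lc_c_rc_13_2 lc_c_rc_11_1 lc_c_rc_13_2 lc_c_rc_26_4 lc_c_rc_11_1 lc_c_rc_13_2 lc_c_rc_11_1 lc_c_rc_11_1 lc_c_rc_7_3 lc_c_rc_22_5 lc_c_rc_14_2 lc_c_rc_13_2 lc_c_rc_11_1 lc_c_rc_2_3 lc_c_rc_14_0 lc_c_rc_23_5 lc_c_rc_23_0 lc_c_rc_23_0 lc_c_rc_26_8 lc_c_rc_26_10 lc_c_rc_11_1 lc_c_Cert_tree lc_c_rc_11_1 lc_c_rc_24_2 lc_c_rc_11_1 lc_c_rc_26_4 lc_c_rc_24_8 lc_c_rc_23_0 lc_c_rc_11_1) (@D3.rec (fun _ => (Cert rels S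 Gen.c)) lc_c_rc_7_3 lc_c_rc_22_9 lc_c_rc_14_2 lc_c_rc_13_2 lc_c_Cert_tree lc_c_rc_26_8 lc_c_Cert_tree lc_c_Cert_tree lc_c_rc_22_3 lc_c_rc_25_1 lc_c_rc_13_2 lc_c_rc_26_10 lc_c_rc_22_9 lc_c_rc_24_2 lc_c_rc_13_2 lc_c_rc_11_1 lc_c_rc_13_2 lc_c_rc_22_5 lc_c_rc_13_2 lc_c_rc_26_10 lc_c_rc_13_2 lc_c_rc_13_2 lc_c_rc_14_2 lc_c_rc_24_2 lc_c_rc_22_5 lc_c_Cert_tree lc_c_Cert_tree lc_c_rc_13_2 lc_c_rc_11_1 lc_c_rc_13_2 lc_c_rc_24_8 lc_c_rc_24_8 lc_c_rc_11_1 lc_c_Cert_tree lc_c_rc_13_2 lc_c_rc_12_14 lc_c_Cert_tree lc_c_rc_11_1 lc_c_rc_13_0 lc_c_Cert_tree lc_c_rc_14_2 lc_c_rc_13_2 lc_c_rc_13_2 lc_c_rc_26_10 lc_c_rc_11_1 lc_c_rc_11_1 lc_c_rc_13_2 lc_c_rc_7_3 lc_c_rc_13_2 lc_c_rc_13_0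 lc_c_rc_13_2 lc_c_rc_24_8 lc_c_rc_13_2 lc_c_rc_12_14 lc_c_rc_13_2 lc_c_rc_11_1 lc_c_rc_23_0 lc_c_rc_11_1 lc_c_rc_11_1 lc_c_Cert_tree lc_c_rc_23_0 lc_c_rc_24_4) (@D3.rec (fun _ => (Cert rels S Gen.c)) lc_c_rc_11_1 lc_c_rc_23_0 lc_c_rc_11_1 lc_c_rc_13_2 lc_c_rc_11_1 lc_c_rc_11_1 lc_c_rc_22_3 lc_c_rc_11_1 lc_c_rc_11_1 lc_c_Cert_tree lc_c_rc_7_1 lc_c_rc_22_5 lc_c_rc_24_2 lc_c_Cert_tree lc_c_rc_13_2 lc_c_Cert_tree lc_c_rc_11_1 lc_c_rc_14_2 lc_c_rc_13_2 lc_c_Cert_tree lc_c_rc_2_3 lc_c_rc_13_2 lc_c_rc_25_9 lc_c_rc_22_7 lc_c_rc_13_2 lc_c_rc_13_2 lc_c_rc_11_1 lc_c_rc_7_5 lc_c_rc_24_8 lc_c_rc_22_3 lc_c_rc_26_4 lc_c_rc_11_1 lc_c_rc_24_4 lc_c_rc_13_0 lc_c_rc_7_1 lc_c_rc_11_1 lc_c_rc_25_17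 lc_c_rc_11_1 lc_c_rc_13_2 lc_c_rc_2_1 lc_c_rc_13_2 lc_c_rc_11_1 lc_c_rc_11_1 lc_c_Cert_tree lc_c_rc_26_2 lc_c_rc_23_0 lc_c_rc_11_1 lc_c_rc_23_5 lc_c_Cert_tree lc_c_Cert_tree lc_c_rc_11_1 lc_c_rc_7_5 lc_c_rc_22_7 lc_c_rc_13_2 lc_c_Cert_tree lc_c_rc_7_3 lc_c_rc_11_1 lc_c_Cert_tree lc_c_rc_22_3 lc_c_rc_7_5 lc_c_Cert_tree lc_c_rc_11_1) (@D3.rec (fun _ => (Cert rels S Gen.c)) lc_c_rc_13_2 lc_c_rc_11_1 lc_c_rc_13_2 lc_c_rc_11_1 lc_c_rc_11_1 lc_c_rc_13_2 lc_c_rc_7_3 lc_c_rc_26_8 lc_c_Cert_tree lc_c_rc_13_2 lc_c_rc_11_1 lc_c_rc_22_5 lc_c_rc_11_1 lc_c_rc_24_4 lc_c_rc_26_8 lc_c_rc_11_1 lc_c_rc_13_2 lc_c_rc_13_2 lc_c_rc_11_1 lc_c_rc_7_3 lc_c_rc_22_3 lc_c_rc_14_2 lc_c_rc_13_2 lc_c_Cert_tree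 lc_c_rc_22_3 lc_c_rc_11_1 lc_c_rc_11_1 lc_c_rc_11_1 lc_c_Cert_tree lc_c_rc_13_2 lc_c_rc_2_3 lc_c_rc_14_2 lc_c_rc_12_2 lc_c_rc_14_2 lc_c_rc_13_2 lc_c_rc_11_1 lc_c_rc_13_2 lc_c_rc_24_2 lc_c_rc_7_5 lc_c_rc_14_2 lc_c_rc_11_1 lc_c_rc_11_1 lc_c_rc_13_0 lc_c_Cert_tree lc_c_rc_14_2 lc_c_Cert_tree lc_c_rc_13_0 lc_c_rc_13_2 lc_c_rc_13_2 lc_c_rc_11_1 lc_c_rc_26_10 lc_c_rc_11_1 lc_c_rc_11_1 lc_c_rc_11_1 lc_c_rc_13_2 lc_c_rc_26_4 lc_c_rc_13_2 lc_c_rc_24_8 lc_c_rc_11_1 lc_c_rc_7_3 lc_c_rc_22_5 lc_c_Cert_tree) (@D3.rec (fun _ => (Cert rels S Gen.c)) lc_c_rc_25_5 lc_c_rc_7_1 lc_c_rc_14_2 lc_c_rc_11_1 lc_c_Cert_tree lc_c_rc_2_1 lc_c_rc_24_2 lc_c_rc_22_5 lc_c_Cert_tree lc_c_rc_2_3 lc_c_rc_11_1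 lc_c_rc_22_9 lc_c_rc_13_2 lc_c_rc_26_2 lc_c_rc_11_1 lc_c_rc_11_1 lc_c_rc_13_2 lc_c_rc_23_0 lc_c_rc_26_10 lc_c_rc_11_1 lc_c_rc_22_5 lc_c_rc_22_7 lc_c_rc_22_5 lc_c_rc_7_1 lc_c_rc_22_7 lc_c_rc_11_1 lc_c_rc_11_1 lc_c_rc_26_2 lc_c_rc_24_6 lc_c_rc_11_1 lc_c_rc_13_0 lc_c_rc_13_2 lc_c_rc_23_5 lc_c_rc_26_2 lc_c_rc_11_1 lc_c_rc_7_5 lc_c_rc_14_2 lc_c_rc_11_1 lc_c_rc_25_1 lc_c_rc_11_1 lc_c_rc_26_10 lc_c_rc_11_1 lc_c_rc_22_5 lc_c_rc_7_5 lc_c_rc_26_10 lc_c_rc_7_3 lc_c_rc_11_1 lc_c_rc_22_3 lc_c_rc_11_1 lc_c_rc_24_4 lc_c_rc_26_4 lc_c_rc_11_1 lc_c_Cert_tree lc_c_rc_14_2 lc_c_rc_14_2 lc_c_rc_22_7 lc_c_rc_13_2 lc_c_rc_13_2 lc_c_rc_24_4 lc_c_rc_11_1 lc_c_rc_22_5 lc_c_rc_14_2) (@D3.rec (fun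 _ => (Cert rels S Gen.c)) lc_c_rc_2_3 lc_c_rc_2_1 lc_c_rc_11_1 lc_c_rc_13_2 lc_c_Cert_tree lc_c_rc_11_1 lc_c_Cert_tree lc_c_rc_11_1 lc_c_rc_26_4 lc_c_rc_22_9 lc_c_rc_13_2 lc_c_rc_13_2 lc_c_rc_24_4 lc_c_rc_2_3 lc_c_rc_11_1 lc_c_rc_13_2 lc_c_rc_22_5 lc_c_rc_13_2 lc_c_Cert_tree lc_c_rc_13_2 lc_c_rc_26_4 lc_c_rc_14_2 lc_c_rc_22_7 lc_c_Cert_tree lc_c_rc_22_9 lc_c_rc_13_2 lc_c_rc_23_5 lc_c_rc_26_4 lc_c_rc_22_3 lc_c_rc_22_9 lc_c_rc_11_1 lc_c_rc_22_5 lc_c_rc_11_1 lc_c_rc_11_1 lc_c_rc_13_2 lc_c_rc_11_1 lc_c_rc_13_2 lc_c_Cert_tree lc_c_rc_11_1 lc_c_rc_13_2 lc_c_rc_11_1 lc_c_rc_24_4 lc_c_rc_11_1 lc_c_rc_7_3 lc_c_Cert_tree lc_c_rc_13_2 lc_c_rc_24_2 lc_c_rc_24_4 lc_c_rc_26_2 lc_c_rc_11_1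 lc_c_rc_14_0 lc_c_rc_26_2 lc_c_rc_11_1 lc_c_rc_23_0 lc_c_rc_7_5 lc_c_rc_7_1 lc_c_rc_26_2 lc_c_rc_11_1 lc_c_rc_26_10 lc_c_rc_13_2 lc_c_rc_14_2 lc_c_rc_2_3) (@D3.rec (fun _ => (Cert rels S Gen.c)) lc_c_rc_11_1 lc_c_rc_11_1 lc_c_rc_7_3 lc_c_rc_11_1 lc_c_rc_14_2 lc_c_rc_13_2 lc_c_rc_13_2 lc_c_rc_13_2 lc_c_rc_26_2 lc_c_rc_23_0 lc_c_rc_14_2 lc_c_rc_26_4 lc_c_rc_23_0 lc_c_rc_23_5 lc_c_rc_13_2 lc_c_rc_26_10 lc_c_rc_11_1 lc_c_rc_13_2 lc_c_rc_14_2 lc_c_rc_11_1 lc_c_rc_11_1 lc_c_rc_11_1 lc_c_rc_26_2 lc_c_rc_11_1 lc_c_rc_24_4 lc_c_rc_24_4 lc_c_rc_11_1 lc_c_rc_24_4 lc_c_rc_22_5 lc_c_rc_7_5 lc_c_rc_24_6 lc_c_rc_11_1 lc_c_rc_11_1 lc_c_rc_13_2 lc_c_rc_24_4 lc_c_rc_11_1 lc_c_rc_14_2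 lc_c_rc_26_2 lc_c_rc_11_1 lc_c_rc_14_2 lc_c_rc_26_8 lc_c_rc_23_0 lc_c_rc_26_2 lc_c_rc_14_2 lc_c_rc_26_4 lc_c_rc_11_1 lc_c_rc_11_1 lc_c_rc_13_0 lc_c_rc_13_2 lc_c_rc_13_2 lc_c_rc_26_2 lc_c_rc_13_2 lc_c_rc_24_6 lc_c_rc_23_5 lc_c_rc_14_0 lc_c_rc_2_1 lc_c_rc_7_3 lc_c_rc_24_8 lc_c_rc_23_0 lc_c_rc_14_2 lc_c_rc_13_2 lc_c_rc_13_2) (@D3.rec (fun _ => (Cert rels S Gen.c)) lc_c_rc_26_2 lc_c_rc_24_4 lc_c_rc_11_1 lc_c_rc_2_1 lc_c_rc_7_1 lc_c_rc_13_2 lc_c_rc_11_1 lc_c_rc_11_1 lc_c_rc_11_1 lc_c_rc_12_0 lc_c_rc_7_5 lc_c_Cert_tree lc_c_rc_11_1 lc_c_rc_13_2 lc_c_rc_11_1 lc_c_rc_7_3 lc_c_rc_13_2 lc_c_rc_24_2 lc_c_rc_26_10 lc_c_rc_14_2 lc_c_rc_26_4 lc_c_rc_11_1 lc_c_rc_7_5 lc_c_rc_2_3 lc_c_rc_22_3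 lc_c_rc_11_1 lc_c_rc_25_17 lc_c_rc_13_2 lc_c_rc_22_9 lc_c_rc_11_1 lc_c_rc_26_2 lc_c_rc_14_2 lc_c_rc_11_1 lc_c_rc_22_7 lc_c_rc_13_2 lc_c_rc_26_4 lc_c_rc_13_2 lc_c_rc_11_1 lc_c_rc_13_2 lc_c_rc_24_2 lc_c_rc_11_1 lc_c_rc_24_2 lc_c_rc_22_7 lc_c_rc_11_1 lc_c_rc_13_2 lc_c_rc_23_0 lc_c_rc_11_1 lc_c_rc_22_5 lc_c_rc_24_4 lc_c_rc_11_1 lc_c_rc_22_5 lc_c_rc_14_2 lc_c_rc_25_5 lc_c_rc_22_5 lc_c_rc_11_1 lc_c_rc_22_5 lc_c_rc_11_1 lc_c_rc_13_2 lc_c_rc_11_1 lc_c_rc_14_2 lc_c_rc_22_5 lc_c_rc_14_2) (@D3.rec (fun _ => (Cert rels S Gen.c)) lc_c_rc_13_2 lc_c_rc_14_2 lc_c_rc_22_3 lc_c_rc_23_0 lc_c_rc_26_2 lc_c_rc_13_2 lc_c_Cert_tree lc_c_rc_22_3 lc_c_rc_24_2 lc_c_rc_11_1 lc_c_rc_7_1 lc_c_rc_11_1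 lc_c_rc_23_5 lc_c_rc_13_2 lc_c_rc_26_4 lc_c_rc_26_4 lc_c_rc_13_0 lc_c_rc_26_4 lc_c_rc_13_0 lc_c_rc_11_1 lc_c_rc_24_4 lc_c_rc_24_4 lc_c_rc_22_5 lc_c_rc_13_2 lc_c_rc_7_1 lc_c_rc_7_5 lc_c_Cert_tree lc_c_rc_24_2 lc_c_rc_23_5 lc_c_rc_14_2 lc_c_rc_26_2 lc_c_rc_11_1 lc_c_rc_11_1 lc_c_rc_11_1 lc_c_rc_22_3 lc_c_rc_2_1 lc_c_rc_26_4 lc_c_rc_13_2 lc_c_rc_13_2 lc_c_rc_7_3 lc_c_rc_11_1 lc_c_rc_26_4 lc_c_rc_11_1 lc_c_rc_11_1 lc_c_rc_13_2 lc_c_rc_11_1 lc_c_rc_12_0 lc_c_rc_7_5 lc_c_Cert_tree lc_c_Cert_tree lc_c_rc_13_2 lc_c_rc_14_2 lc_c_rc_11_1 lc_c_rc_24_8 lc_c_rc_11_1 lc_c_rc_11_1 lc_c_rc_22_9 lc_c_rc_23_5 lc_c_rc_11_1 lc_c_rc_2_3 lc_c_rc_13_0 lc_c_rc_11_1) (@D3.rec (fun _ => (Cert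 rels S Gen.c)) lc_c_rc_25_1 lc_c_rc_26_4 lc_c_rc_24_8 lc_c_rc_26_10 lc_c_rc_11_1 lc_c_rc_23_0 lc_c_rc_23_0 lc_c_rc_11_1 lc_c_rc_13_0 lc_c_rc_23_0 lc_c_Cert_tree lc_c_rc_11_1 lc_c_rc_11_1 lc_c_rc_23_0 lc_c_rc_22_3 lc_c_rc_24_2 lc_c_rc_13_2 lc_c_rc_2_3 lc_c_rc_13_2 lc_c_Cert_tree lc_c_rc_13_2 lc_c_rc_23_5 lc_c_rc_13_2 lc_c_rc_11_1 lc_c_rc_22_7 lc_c_rc_23_0 lc_c_rc_26_8 lc_c_rc_11_1 lc_c_rc_13_2 lc_c_Cert_tree lc_c_rc_7_3 lc_c_rc_2_3 lc_c_Cert_tree lc_c_rc_11_1 lc_c_rc_23_5 lc_c_rc_13_2 lc_c_rc_23_0 lc_c_rc_11_1 lc_c_rc_11_1 lc_c_Cert_tree lc_c_rc_11_1 lc_c_rc_13_2 lc_c_Cert_tree lc_c_rc_13_2 lc_c_rc_13_2 lc_c_rc_7_5 lc_c_rc_13_2 lc_c_rc_22_3 lc_c_rc_13_2 lc_c_rc_26_4 lc_c_rc_22_7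 lc_c_rc_11_1 lc_c_rc_26_4 lc_c_rc_13_2 lc_c_rc_24_6 lc_c_rc_11_1 lc_c_rc_11_1 lc_c_rc_11_1 lc_c_rc_22_3 lc_c_rc_22_3 lc_c_rc_11_1 lc_c_rc_13_0) (@D3.rec (fun _ => (Cert rels S Gen.c)) lc_c_rc_26_10 lc_c_rc_11_1 lc_c_rc_14_2 lc_c_rc_23_5 lc_c_rc_24_2 lc_c_rc_11_1 lc_c_rc_24_2 lc_c_rc_11_1 lc_c_rc_25_1 lc_c_rc_11_1 lc_c_rc_23_0 lc_c_rc_24_2 lc_c_rc_11_1 lc_c_rc_13_2 lc_c_rc_11_1 lc_c_rc_13_2 lc_c_Cert_tree lc_c_rc_11_1 lc_c_rc_7_3 lc_c_rc_12_2 lc_c_rc_14_2 lc_c_rc_14_0 lc_c_rc_23_5 lc_c_rc_11_1 lc_c_rc_23_0 lc_c_rc_11_1 lc_c_rc_13_2 lc_c_rc_22_5 lc_c_rc_13_2 lc_c_rc_11_1 lc_c_rc_7_3 lc_c_rc_22_3 lc_c_rc_14_2 lc_c_rc_26_2 lc_c_rc_11_1 lc_c_rc_24_2 lc_c_rc_11_1 lc_c_rc_14_2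 lc_c_rc_22_5 lc_c_rc_11_1 lc_c_rc_11_1 lc_c_rc_22_5 lc_c_rc_13_2 lc_c_rc_26_10 lc_c_rc_24_8 lc_c_rc_26_10 lc_c_rc_23_5 lc_c_rc_24_4 lc_c_rc_13_2 lc_c_rc_11_1 lc_c_rc_26_4 lc_c_rc_25_9 lc_c_rc_26_2 lc_c_rc_23_5 lc_c_rc_11_1 lc_c_rc_13_2 lc_c_rc_11_1 lc_c_rc_23_0 lc_c_rc_11_1 lc_c_rc_22_9 lc_c_rc_14_2 lc_c_rc_13_2) (@D3.rec (fun _ => (Cert rels S Gen.c)) lc_c_rc_11_1 lc_c_rc_13_2 lc_c_rc_24_4 lc_c_rc_26_8 lc_c_rc_12_0 lc_c_Cert_tree lc_c_rc_14_2 lc_c_rc_11_1 lc_c_rc_26_2 lc_c_Cert_tree lc_c_rc_11_1 lc_c_rc_13_2 lc_c_Cert_tree lc_c_Cert_tree lc_c_rc_23_5 lc_c_rc_13_2 lc_c_rc_7_3 lc_c_rc_14_2 lc_c_rc_13_2 lc_c_rc_13_2 lc_c_Cert_tree lc_c_rc_13_2 lc_c_rc_11_1 lc_c_rc_14_2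 lc_c_Cert_tree lc_c_rc_7_5 lc_c_rc_11_1 lc_c_rc_12_2 lc_c_rc_23_5 lc_c_rc_11_1 lc_c_rc_13_2 lc_c_rc_22_3 lc_c_rc_11_1 lc_c_rc_13_2 lc_c_rc_26_8 lc_c_Cert_tree lc_c_rc_14_2 lc_c_rc_23_5 lc_c_rc_11_1 lc_c_rc_24_4 lc_c_rc_11_1 lc_c_rc_13_2 lc_c_rc_22_9 lc_c_rc_2_3 lc_c_rc_14_0 lc_c_rc_2_3 lc_c_rc_11_1 lc_c_rc_11_1 lc_c_rc_11_1 lc_c_rc_13_2 lc_c_rc_11_1 lc_c_rc_2_3 lc_c_rc_24_6 lc_c_rc_11_1 lc_c_rc_11_1 lc_c_rc_13_2 lc_c_rc_7_5 lc_c_rc_7_5 lc_c_rc_13_2 lc_c_rc_24_4 lc_c_rc_2_1 lc_c_rc_23_5) (@D3.rec (fun _ => (Cert rels S Gen.c)) lc_c_rc_24_2 lc_c_rc_11_1 lc_c_rc_11_1 lc_c_rc_12_14 lc_c_rc_11_1 lc_c_rc_24_2 lc_c_rc_13_2 lc_c_rc_23_5 lc_c_rc_13_2 lc_c_rc_22_5 lc_c_rc_26_4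 lc_c_rc_13_2 lc_c_rc_22_9 lc_c_rc_23_5 lc_c_Cert_tree lc_c_rc_11_1 lc_c_rc_26_4 lc_c_rc_13_2 lc_c_rc_23_0 lc_c_rc_22_5 lc_c_rc_2_3 lc_c_rc_26_4 lc_c_rc_25_5 lc_c_rc_24_8 lc_c_rc_11_1 lc_c_rc_26_2 lc_c_rc_11_1 lc_c_rc_11_1 lc_c_rc_2_1 lc_c_rc_11_1 lc_c_rc_11_1 lc_c_rc_12_0 lc_c_rc_24_6 lc_c_rc_7_3 lc_c_rc_22_3 lc_c_rc_13_2 lc_c_rc_7_3 lc_c_rc_11_1 lc_c_rc_26_4 lc_c_rc_22_7 lc_c_rc_11_1 lc_c_rc_24_4 lc_c_Cert_tree lc_c_rc_13_0 lc_c_rc_2_3 lc_c_rc_26_2 lc_c_rc_14_2 lc_c_rc_22_3 lc_c_rc_11_1 lc_c_rc_13_2 lc_c_rc_14_0 lc_c_rc_11_1 lc_c_rc_11_1 lc_c_rc_13_2 lc_c_rc_7_3 lc_c_rc_22_3 lc_c_rc_13_2 lc_c_Cert_tree lc_c_Cert_tree lc_c_rc_14_2 lc_c_rc_11_1 lc_c_rc_2_3) (@D3.rec (fun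 _ => (Cert rels S Gen.c)) lc_c_rc_7_5 lc_c_rc_11_1 lc_c_rc_13_2 lc_c_rc_7_5 lc_c_rc_7_1 lc_c_rc_22_9 lc_c_rc_14_2 lc_c_rc_26_4 lc_c_rc_7_5 lc_c_rc_2_3 lc_c_rc_24_2 lc_c_rc_24_8 lc_c_rc_11_1 lc_c_rc_25_5 lc_c_rc_11_1 lc_c_rc_13_2 lc_c_rc_7_1 lc_c_rc_13_2 lc_c_Cert_tree lc_c_Cert_tree lc_c_rc_14_2 lc_c_rc_2_3 lc_c_rc_11_1 lc_c_rc_2_3 lc_c_rc_13_2 lc_c_rc_13_0 lc_c_rc_23_0 lc_c_rc_13_2 lc_c_rc_14_2 lc_c_rc_14_2 lc_c_rc_11_1 lc_c_Cert_tree lc_c_Cert_tree lc_c_Cert_tree lc_c_rc_11_1 lc_c_rc_13_2 lc_c_rc_24_4 lc_c_rc_11_1 lc_c_rc_7_1 lc_c_rc_23_5 lc_c_rc_13_2 lc_c_Cert_tree lc_c_Cert_tree lc_c_rc_13_2 lc_c_Cert_tree lc_c_rc_2_3 lc_c_rc_13_2 lc_c_rc_11_1 lc_c_rc_13_0 lc_c_rc_26_2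 lc_c_rc_14_2 lc_c_rc_25_17 lc_c_rc_11_1 lc_c_rc_24_2 lc_c_rc_7_5 lc_c_rc_11_1 lc_c_rc_23_0 lc_c_rc_26_4 lc_c_rc_22_3 lc_c_rc_11_1 lc_c_rc_2_3 lc_c_rc_11_1) (@D3.rec (fun _ => (Cert rels S Gen.c)) lc_c_rc_22_5 lc_c_rc_23_5 lc_c_rc_22_3 lc_c_rc_24_4 lc_c_rc_24_2 lc_c_rc_11_1 lc_c_rc_11_1 lc_c_rc_11_1 lc_c_rc_26_10 lc_c_rc_14_2 lc_c_rc_11_1 lc_c_rc_23_0 lc_c_rc_24_4 lc_c_rc_13_0 lc_c_rc_11_1 lc_c_rc_7_5 lc_c_rc_11_1 lc_c_rc_11_1 lc_c_rc_13_2 lc_c_rc_23_5 lc_c_rc_25_1 lc_c_rc_11_1 lc_c_rc_11_1 lc_c_rc_11_1 lc_c_rc_13_2 lc_c_rc_26_4 lc_c_rc_13_2 lc_c_rc_26_4 lc_c_rc_11_1 lc_c_rc_14_0 lc_c_rc_7_3 lc_c_rc_12_2 lc_c_rc_13_2 lc_c_rc_11_1 lc_c_rc_11_1 lc_c_rc_11_1 lc_c_rc_11_1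 lc_c_rc_22_3 lc_c_rc_13_2 lc_c_Cert_tree lc_c_rc_26_8 lc_c_rc_24_2 lc_c_rc_26_2 lc_c_rc_24_8 lc_c_rc_11_1 lc_c_rc_23_0 lc_c_rc_26_4 lc_c_rc_11_1 lc_c_rc_7_3 lc_c_rc_11_1 lc_c_rc_11_1 lc_c_rc_11_1 lc_c_rc_11_1 lc_c_rc_7_1 lc_c_rc_22_7 lc_c_rc_14_2 lc_c_rc_13_2 lc_c_rc_7_3 lc_c_rc_23_5 lc_c_rc_11_1 lc_c_rc_26_10 lc_c_rc_14_2) (@D3.rec (fun _ => (Cert rels S Gen.c)) lc_c_rc_11_1 lc_c_rc_2_3 lc_c_rc_11_1 lc_c_rc_22_5 lc_c_rc_11_1 lc_c_rc_11_1 lc_c_rc_11_1 lc_c_rc_25_1 lc_c_rc_25_1 lc_c_rc_11_1 lc_c_rc_11_1 lc_c_rc_7_3 lc_c_rc_13_2 lc_c_rc_11_1 lc_c_rc_13_2 lc_c_rc_23_0 lc_c_rc_25_1 lc_c_rc_11_1 lc_c_rc_26_4 lc_c_rc_11_1 lc_c_rc_13_2 lc_c_rc_14_2 lc_c_rc_13_2 lc_c_rc_11_1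 lc_c_rc_11_1 lc_c_rc_24_6 lc_c_rc_26_2 lc_c_rc_13_0 lc_c_rc_13_2 lc_c_rc_23_5 lc_c_rc_12_0 lc_c_rc_7_3 lc_c_rc_14_0 lc_c_rc_13_2 lc_c_rc_13_2 lc_c_rc_23_5 lc_c_rc_11_1 lc_c_rc_24_4 lc_c_rc_26_2 lc_c_rc_11_1 lc_c_rc_13_2 lc_c_rc_13_0 lc_c_rc_13_0 lc_c_rc_7_3 lc_c_rc_12_2 lc_c_rc_24_2 lc_c_rc_11_1 lc_c_rc_7_5 lc_c_rc_13_2 lc_c_rc_11_1 lc_c_rc_11_1 lc_c_rc_2_3 lc_c_rc_22_3 lc_c_rc_2_1 lc_c_rc_24_8 lc_c_rc_11_1 lc_c_rc_7_5 lc_c_rc_11_1 lc_c_rc_23_5 lc_c_rc_23_5 lc_c_rc_13_2 lc_c_rc_25_5) (@D3.rec (fun _ => (Cert rels S Gen.c)) lc_c_rc_26_2 lc_c_rc_11_1 lc_c_rc_14_2 lc_c_Cert_tree lc_c_rc_24_2 lc_c_rc_13_2 lc_c_rc_11_1 lc_c_rc_11_1 lc_c_rc_23_5 lc_c_rc_26_4 lc_c_rc_11_1 lc_c_rc_24_2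 lc_c_rc_24_4 lc_c_rc_11_1 lc_c_rc_22_5 lc_c_rc_26_2 lc_c_rc_23_0 lc_c_rc_2_3 lc_c_rc_14_2 lc_c_rc_11_1 lc_c_rc_13_2 lc_c_rc_24_6 lc_c_rc_24_2 lc_c_rc_14_2 lc_c_rc_11_1 lc_c_rc_7_1 lc_c_Cert_tree lc_c_rc_11_1 lc_c_rc_13_2 lc_c_rc_24_4 lc_c_rc_11_1 lc_c_Cert_tree lc_c_rc_13_2 lc_c_rc_23_0 lc_c_rc_24_8 lc_c_rc_26_8 lc_c_rc_26_8 lc_c_Cert_tree lc_c_rc_7_5 lc_c_rc_2_3 lc_c_rc_11_1 lc_c_rc_13_2 lc_c_rc_11_1 lc_c_rc_13_2 lc_c_rc_11_1 lc_c_rc_13_2 lc_c_rc_11_1 lc_c_rc_7_5 lc_c_rc_24_6 lc_c_rc_22_5 lc_c_rc_13_2 lc_c_Cert_tree lc_c_Cert_tree lc_c_rc_25_17 lc_c_rc_26_4 lc_c_rc_11_1 lc_c_rc_11_1 lc_c_rc_24_4 lc_c_Cert_tree lc_c_rc_22_3 lc_c_rc_7_5 lc_c_rc_23_5) (@D3.rec (fun _ =>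 (Cert rels S Gen.c)) lc_c_rc_11_1 lc_c_rc_11_1 lc_c_rc_24_4 lc_c_Cert_tree lc_c_rc_13_2 lc_c_rc_24_6 lc_c_rc_26_10 lc_c_rc_14_2 lc_c_rc_23_5 lc_c_rc_24_6 lc_c_rc_22_7 lc_c_rc_24_2 lc_c_rc_11_1 lc_c_rc_11_1 lc_c_rc_14_2 lc_c_rc_26_4 lc_c_rc_26_4 lc_c_rc_11_1 lc_c_rc_26_8 lc_c_rc_11_1 lc_c_rc_11_1 lc_c_rc_11_1 lc_c_rc_14_2 lc_c_rc_11_1 lc_c_rc_2_3 lc_c_rc_26_10 lc_c_rc_11_1 lc_c_rc_7_1 lc_c_Cert_tree lc_c_rc_14_2 lc_c_rc_13_2 lc_c_rc_11_1 lc_c_rc_11_1 lc_c_rc_11_1 lc_c_rc_2_1 lc_c_rc_11_1 lc_c_rc_13_0 lc_c_rc_7_3 lc_c_rc_11_1 lc_c_rc_22_3 lc_c_rc_11_1 lc_c_rc_14_2 lc_c_rc_13_0 lc_c_rc_13_2 lc_c_rc_11_1 lc_c_rc_7_3 lc_c_rc_11_1 lc_c_rc_25_17 lc_c_rc_24_6 lc_c_rc_23_0 lc_c_rc_14_2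 lc_c_rc_26_4 lc_c_rc_11_1 lc_c_rc_2_1 lc_c_rc_24_2 lc_c_rc_14_2 lc_c_rc_11_1 lc_c_rc_13_2 lc_c_rc_22_3 lc_c_rc_13_2 lc_c_rc_26_8 lc_c_rc_24_8) (@D3.rec (fun _ => (Cert rels S Gen.c)) lc_c_rc_24_2 lc_c_rc_11_1 lc_c_rc_11_1 lc_c_rc_13_2 lc_c_rc_11_1 lc_c_rc_2_1 lc_c_rc_7_3 lc_c_rc_11_1 lc_c_rc_7_5 lc_c_rc_22_3 lc_c_rc_7_3 lc_c_Cert_tree lc_c_rc_11_1 lc_c_rc_24_4 lc_c_rc_11_1 lc_c_rc_11_1 lc_c_rc_13_2 lc_c_rc_11_1 lc_c_rc_11_1 lc_c_rc_14_2 lc_c_rc_2_3 lc_c_rc_22_3 lc_c_rc_13_2 lc_c_rc_22_3 lc_c_rc_26_10 lc_c_rc_22_3 lc_c_rc_26_10 lc_c_rc_11_1 lc_c_rc_13_2 lc_c_rc_23_0 lc_c_rc_14_2 lc_c_rc_7_5 lc_c_rc_11_1 lc_c_rc_11_1 lc_c_rc_22_5 lc_c_rc_11_1 lc_c_rc_11_1 lc_c_rc_13_2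 lc_c_rc_2_3 lc_c_rc_25_13 lc_c_rc_11_1 lc_c_rc_2_1 lc_c_rc_22_5 lc_c_rc_11_1 lc_c_rc_13_2 lc_c_rc_26_4 lc_c_rc_22_3 lc_c_rc_13_2 lc_c_rc_22_5 lc_c_rc_26_4 lc_c_rc_14_2 lc_c_rc_22_9 lc_c_rc_22_3 lc_c_rc_13_0 lc_c_rc_11_1 lc_c_rc_11_1 lc_c_rc_25_1 lc_c_Cert_tree lc_c_rc_11_1 lc_c_rc_7_3 lc_c_rc_26_8 lc_c_Cert_tree) (@D3.rec (fun _ => (Cert rels S Gen.c)) lc_c_rc_13_2 lc_c_rc_11_1 lc_c_rc_13_2 lc_c_rc_11_1 lc_c_rc_13_2 lc_c_rc_11_1 lc_c_rc_23_5 lc_c_rc_22_9 lc_c_rc_11_1 lc_c_rc_24_4 lc_c_rc_23_5 lc_c_rc_11_1 lc_c_rc_23_0 lc_c_rc_24_2 lc_c_rc_11_1 lc_c_rc_11_1 lc_c_rc_13_2 lc_c_rc_11_1 lc_c_rc_13_2 lc_c_Cert_tree lc_c_Cert_tree lc_c_rc_13_2 lc_c_rc_11_1 lc_c_rc_2_3 lc_c_rc_11_1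 lc_c_rc_11_1 lc_c_rc_11_1 lc_c_rc_2_3 lc_c_rc_11_1 lc_c_rc_2_1 lc_c_rc_11_1 lc_c_rc_7_3 lc_c_Cert_tree lc_c_rc_14_2 lc_c_rc_26_2 lc_c_rc_26_4 lc_c_rc_26_8 lc_c_rc_26_8 lc_c_rc_26_4 lc_c_rc_13_2 lc_c_rc_11_1 lc_c_rc_24_8 lc_c_rc_11_1 lc_c_rc_24_2 lc_c_rc_2_1 lc_c_rc_11_1 lc_c_rc_26_4 lc_c_rc_22_3 lc_c_rc_11_1 lc_c_rc_11_1 lc_c_rc_2_1 lc_c_rc_13_2 lc_c_rc_14_2 lc_c_rc_13_2 lc_c_rc_26_4 lc_c_rc_22_3 lc_c_rc_11_1 lc_c_rc_22_7 lc_c_rc_13_2 lc_c_rc_26_8 lc_c_rc_26_4 lc_c_rc_13_2) (@D3.rec (fun _ => (Cert rels S Gen.c)) lc_c_rc_13_2 lc_c_Cert_tree lc_c_rc_7_3 lc_c_rc_2_3 lc_c_rc_13_0 lc_c_rc_11_1 lc_c_rc_11_1 lc_c_rc_11_1 lc_c_rc_25_13 lc_c_Cert_tree lc_c_rc_24_2 lc_c_Cert_tree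 lc_c_rc_13_2 lc_c_rc_7_3 lc_c_Cert_tree lc_c_rc_11_1 lc_c_rc_14_2 lc_c_rc_24_8 lc_c_rc_26_8 lc_c_rc_11_1 lc_c_rc_23_0 lc_c_rc_24_2 lc_c_rc_2_1 lc_c_rc_7_5 lc_c_rc_24_6 lc_c_rc_26_2 lc_c_rc_11_1 lc_c_rc_7_5 lc_c_rc_24_2 lc_c_rc_24_2 lc_c_rc_11_1 lc_c_rc_11_1 lc_c_rc_26_2 lc_c_rc_24_8 lc_c_rc_23_0 lc_c_rc_13_0 lc_c_rc_12_14 lc_c_rc_26_2 lc_c_rc_24_2 lc_c_rc_23_0 lc_c_rc_11_1 lc_c_rc_11_1 lc_c_rc_24_2 lc_c_rc_12_2 lc_c_rc_22_5 lc_c_rc_26_2 lc_c_Cert_tree lc_c_rc_11_1 lc_c_rc_2_3 lc_c_rc_11_1 lc_c_rc_7_5 lc_c_rc_7_5 lc_c_rc_2_1 lc_c_rc_22_3 lc_c_rc_13_2 lc_c_Cert_tree lc_c_Cert_tree lc_c_rc_14_2 lc_c_rc_11_1 lc_c_rc_24_6 lc_c_rc_26_10 lc_c_Cert_tree) (@D3.rec (fun _ => (Cert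 rels S Gen.c)) lc_c_rc_11_1 lc_c_rc_13_2 lc_c_rc_24_4 lc_c_rc_22_3 lc_c_rc_24_4 lc_c_rc_22_3 lc_c_rc_26_8 lc_c_rc_25_5 lc_c_rc_13_2 lc_c_rc_26_2 lc_c_rc_22_7 lc_c_rc_24_4 lc_c_rc_24_6 lc_c_rc_14_2 lc_c_rc_26_2 lc_c_rc_11_1 lc_c_rc_24_2 lc_c_rc_11_1 lc_c_rc_22_5 lc_c_rc_13_2 lc_c_rc_26_4 lc_c_rc_24_2 lc_c_rc_26_4 lc_c_rc_2_3 lc_c_rc_22_7 lc_c_rc_13_2 lc_c_rc_24_6 lc_c_rc_11_1 lc_c_rc_13_2 lc_c_rc_14_2 lc_c_rc_11_1 lc_c_rc_23_0 lc_c_rc_26_4 lc_c_rc_11_1 lc_c_rc_26_10 lc_c_rc_11_1 lc_c_rc_13_0 lc_c_rc_14_2 lc_c_rc_11_1 lc_c_rc_13_2 lc_c_rc_22_7 lc_c_rc_14_2 lc_c_rc_22_9 lc_c_rc_22_5 lc_c_Cert_tree lc_c_rc_7_5 lc_c_rc_11_1 lc_c_rc_22_5 lc_c_rc_24_4 lc_c_rc_24_4 lc_c_rc_11_1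 lc_c_rc_11_1 lc_c_rc_25_5 lc_c_rc_11_1 lc_c_rc_11_1 lc_c_rc_7_3 lc_c_rc_22_3 lc_c_rc_24_8 lc_c_rc_13_0 lc_c_rc_11_1 lc_c_rc_13_2 lc_c_rc_24_8)
def ce_c_24 : D2 → D3 → (Cert rels S Gen.c) := @D2.rec (fun _ => D3 → (Cert rels S Gen.c)) (@D3.rec (fun _ => (Cert rels S Gen.c)) lc_c_rc_24_8 lc_c_rc_14_2 lc_c_rc_14_2 lc_c_rc_11_1 lc_c_rc_13_2 lc_c_rc_26_2 lc_c_rc_2_1 lc_c_rc_13_0 lc_c_rc_2_3 lc_c_rc_26_10 lc_c_rc_7_5 lc_c_rc_22_5 lc_c_rc_26_2 lc_c_rc_13_2 lc_c_rc_11_1 lc_c_rc_11_1 lc_c_rc_11_1 lc_c_rc_7_5 lc_c_rc_11_1 lc_c_rc_23_0 lc_c_rc_7_3 lc_c_rc_23_0 lc_c_Cert_tree lc_c_Cert_tree lc_c_rc_7_3 lc_c_Cert_tree lc_c_rc_14_2 lc_c_rc_13_2 lc_c_rc_11_1 lc_c_rc_2_1 lc_c_rc_11_1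 lc_c_rc_26_2 lc_c_rc_11_1 lc_c_rc_26_4 lc_c_rc_11_1 lc_c_rc_7_5 lc_c_rc_13_2 lc_c_rc_13_2 lc_c_rc_11_1 lc_c_rc_13_2 lc_c_rc_22_3 lc_c_rc_14_2 lc_c_rc_23_0 lc_c_rc_13_2 lc_c_rc_13_2 lc_c_rc_13_2 lc_c_rc_23_5 lc_c_rc_13_0 lc_c_rc_2_1 lc_c_Cert_tree lc_c_rc_11_1 lc_c_rc_24_2 lc_c_rc_11_1 lc_c_rc_2_1 lc_c_rc_24_6 lc_c_rc_22_3 lc_c_rc_22_7 lc_c_rc_13_2 lc_c_rc_24_2 lc_c_rc_11_1 lc_c_rc_13_2 lc_c_Cert_tree) (@D3.rec (fun _ => (Cert rels S Gen.c)) lc_c_rc_13_2 lc_c_rc_26_4 lc_c_rc_11_1 lc_c_rc_26_8 lc_c_rc_11_1 lc_c_rc_7_3 lc_c_rc_11_1 lc_c_rc_11_1 lc_c_rc_7_5 lc_c_rc_24_4 lc_c_rc_14_2 lc_c_rc_13_0 lc_c_Cert_tree lc_c_rc_24_2 lc_c_rc_26_2 lc_c_rc_13_2 lc_c_rc_24_8 lc_c_rc_24_4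 lc_c_rc_11_1 lc_c_rc_11_1 lc_c_rc_22_3 lc_c_rc_11_1 lc_c_rc_2_3 lc_c_rc_11_1 lc_c_rc_2_3 lc_c_rc_11_1 lc_c_rc_7_3 lc_c_rc_22_9 lc_c_rc_7_5 lc_c_rc_24_4 lc_c_rc_12_2 lc_c_rc_11_1 lc_c_rc_13_2 lc_c_rc_2_3 lc_c_rc_7_5 lc_c_rc_13_0 lc_c_rc_11_1 lc_c_rc_26_8 lc_c_rc_24_2 lc_c_rc_11_1 lc_c_rc_22_5 lc_c_rc_7_3 lc_c_rc_24_8 lc_c_rc_26_4 lc_c_rc_13_2 lc_c_rc_26_10 lc_c_rc_22_3 lc_c_rc_11_1 lc_c_rc_13_2 lc_c_rc_13_2 lc_c_Cert_tree lc_c_rc_11_1 lc_c_rc_7_3 lc_c_Cert_tree lc_c_rc_13_0 lc_c_Cert_tree lc_c_rc_7_5 lc_c_Cert_tree lc_c_rc_26_4 lc_c_Cert_tree lc_c_Cert_tree lc_c_rc_11_1) (@D3.rec (fun _ => (Cert rels S Gen.c)) lc_c_rc_14_2 lc_c_rc_22_7 lc_c_rc_13_2 lc_c_rc_11_1 lc_c_rc_23_0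 lc_c_rc_11_1 lc_c_rc_11_1 lc_c_rc_22_3 lc_c_rc_11_1 lc_c_rc_2_1 lc_c_rc_11_1 lc_c_rc_13_2 lc_c_rc_26_4 lc_c_rc_22_3 lc_c_rc_14_2 lc_c_rc_13_2 lc_c_rc_13_2 lc_c_rc_23_0 lc_c_rc_13_2 lc_c_rc_26_2 lc_c_rc_11_1 lc_c_Cert_tree lc_c_Cert_tree lc_c_Cert_tree lc_c_rc_11_1 lc_c_rc_13_2 lc_c_rc_7_3 lc_c_rc_13_0 lc_c_rc_14_2 lc_c_rc_11_1 lc_c_rc_13_2 lc_c_rc_24_2 lc_c_rc_11_1 lc_c_rc_13_2 lc_c_rc_11_1 lc_c_rc_11_1 lc_c_rc_7_3 lc_c_rc_14_2 lc_c_rc_13_2 lc_c_rc_14_2 lc_c_rc_11_1 lc_c_rc_11_1 lc_c_Cert_tree lc_c_rc_24_6 lc_c_rc_13_2 lc_c_rc_26_4 lc_c_rc_26_2 lc_c_rc_11_1 lc_c_rc_13_2 lc_c_rc_26_10 lc_c_rc_26_2 lc_c_Cert_tree lc_c_rc_23_5 lc_c_rc_11_1 lc_c_rc_7_5 lc_c_rc_13_0 lc_c_rc_11_1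 lc_c_rc_14_2 lc_c_rc_7_3 lc_c_Cert_tree lc_c_rc_13_2 lc_c_rc_14_2) (@D3.rec (fun _ => (Cert rels S Gen.c)) lc_c_rc_24_8 lc_c_rc_11_1 lc_c_rc_26_4 lc_c_rc_11_1 lc_c_rc_13_2 lc_c_rc_14_2 lc_c_rc_11_1 lc_c_rc_13_2 lc_c_rc_7_1 lc_c_rc_13_2 lc_c_rc_14_2 lc_c_rc_7_3 lc_c_rc_22_3 lc_c_rc_7_1 lc_c_rc_23_0 lc_c_rc_13_2 lc_c_rc_22_3 lc_c_rc_7_5 lc_c_rc_11_1 lc_c_rc_24_2 lc_c_rc_11_1 lc_c_rc_11_1 lc_c_rc_2_1 lc_c_rc_11_1 lc_c_rc_25_9 lc_c_rc_11_1 lc_c_rc_14_0 lc_c_rc_7_3 lc_c_rc_22_5 lc_c_rc_13_2 lc_c_Cert_tree lc_c_rc_13_0 lc_c_rc_26_4 lc_c_rc_13_2 lc_c_rc_24_4 lc_c_rc_11_1 lc_c_rc_2_3 lc_c_rc_13_2 lc_c_rc_14_2 lc_c_rc_11_1 lc_c_rc_12_2 lc_c_rc_11_1 lc_c_rc_24_8 lc_c_rc_11_1 lc_c_rc_13_2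 lc_c_rc_26_8 lc_c_rc_11_1 lc_c_rc_13_2 lc_c_rc_11_1 lc_c_rc_13_2 lc_c_rc_11_1 lc_c_rc_26_4 lc_c_rc_11_1 lc_c_rc_24_6 lc_c_rc_7_3 lc_c_Cert_tree lc_c_rc_13_2 lc_c_rc_11_1 lc_c_Cert_tree lc_c_Cert_tree lc_c_rc_14_2 lc_c_rc_11_1) (@D3.rec (fun _ => (Cert rels S Gen.c)) lc_c_rc_26_10 lc_c_rc_2_3 lc_c_rc_13_2 lc_c_rc_24_6 lc_c_rc_13_0 lc_c_rc_14_2 lc_c_rc_23_0 lc_c_rc_13_2 lc_c_rc_11_1 lc_c_rc_24_4 lc_c_rc_24_4 lc_c_rc_11_1 lc_c_rc_23_0 lc_c_rc_2_1 lc_c_rc_7_1 lc_c_rc_22_3 lc_c_rc_13_2 lc_c_rc_7_5 lc_c_rc_7_3 lc_c_rc_26_8 lc_c_rc_7_5 lc_c_rc_2_3 lc_c_rc_13_2 lc_c_rc_11_1 lc_c_rc_23_0 lc_c_rc_13_0 lc_c_rc_14_2 lc_c_rc_23_0 lc_c_rc_13_2 lc_c_rc_11_1 lc_c_rc_23_0 lc_c_rc_2_1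 lc_c_rc_7_1 lc_c_Cert_tree lc_c_rc_13_2 lc_c_rc_24_8 lc_c_rc_26_4 lc_c_rc_26_8 lc_c_rc_2_3 lc_c_rc_2_3 lc_c_rc_13_2 lc_c_rc_11_1 lc_c_rc_11_1 lc_c_rc_22_9 lc_c_rc_14_2 lc_c_rc_23_5 lc_c_rc_11_1 lc_c_rc_2_3 lc_c_rc_13_2 lc_c_rc_24_4 lc_c_rc_23_0 lc_c_rc_7_3 lc_c_rc_11_1 lc_c_rc_7_3 lc_c_rc_13_2 lc_c_rc_26_2 lc_c_rc_13_2 lc_c_rc_13_2 lc_c_rc_7_1 lc_c_rc_24_6 lc_c_rc_23_5 lc_c_rc_24_2) (@D3.rec (fun _ => (Cert rels S Gen.c)) lc_c_rc_26_4 lc_c_rc_25_13 lc_c_rc_14_2 lc_c_rc_7_3 lc_c_rc_11_1 lc_c_rc_7_1 lc_c_rc_11_1 lc_c_rc_11_1 lc_c_rc_26_8 lc_c_rc_11_1 lc_c_rc_7_5 lc_c_rc_7_5 lc_c_rc_24_6 lc_c_rc_14_2 lc_c_rc_13_0 lc_c_rc_11_1 lc_c_rc_13_0 lc_c_rc_13_2 lc_c_Cert_tree lc_c_rc_11_1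 lc_c_rc_13_2 lc_c_rc_24_4 lc_c_Cert_tree lc_c_rc_26_4 lc_c_rc_7_3 lc_c_rc_11_1 lc_c_rc_13_0 lc_c_rc_11_1 lc_c_rc_14_0 lc_c_rc_11_1 lc_c_rc_26_2 lc_c_rc_26_8 lc_c_rc_13_2 lc_c_rc_11_1 lc_c_rc_12_0 lc_c_rc_7_3 lc_c_rc_12_4 lc_c_rc_11_1 lc_c_rc_22_9 lc_c_rc_24_6 lc_c_rc_26_10 lc_c_rc_11_1 lc_c_rc_7_5 lc_c_rc_2_1 lc_c_rc_11_1 lc_c_rc_13_2 lc_c_rc_11_1 lc_c_rc_22_7 lc_c_rc_11_1 lc_c_rc_24_6 lc_c_rc_26_8 lc_c_rc_11_1 lc_c_rc_13_2 lc_c_rc_11_1 lc_c_rc_7_3 lc_c_rc_14_2 lc_c_rc_14_0 lc_c_rc_11_1 lc_c_rc_11_1 lc_c_rc_13_2 lc_c_rc_11_1 lc_c_Cert_tree) (@D3.rec (fun _ => (Cert rels S Gen.c)) lc_c_rc_11_1 lc_c_rc_24_4 lc_c_rc_13_2 lc_c_rc_11_1 lc_c_rc_11_1 lc_c_rc_7_1 lc_c_rc_22_5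 lc_c_rc_26_10 lc_c_rc_11_1 lc_c_rc_26_2 lc_c_rc_22_7 lc_c_rc_13_2 lc_c_rc_13_2 lc_c_rc_13_2 lc_c_rc_2_3 lc_c_rc_25_1 lc_c_rc_13_2 lc_c_rc_23_0 lc_c_rc_14_2 lc_c_Cert_tree lc_c_rc_26_4 lc_c_rc_13_2 lc_c_rc_13_2 lc_c_rc_11_1 lc_c_rc_14_2 lc_c_rc_11_1 lc_c_rc_7_5 lc_c_rc_13_0 lc_c_rc_11_1 lc_c_rc_25_1 lc_c_rc_11_1 lc_c_rc_13_2 lc_c_rc_11_1 lc_c_rc_23_0 lc_c_rc_12_12 lc_c_rc_13_2 lc_c_rc_11_1 lc_c_rc_7_3 lc_c_rc_22_7 lc_c_rc_24_6 lc_c_rc_13_2 lc_c_rc_22_5 lc_c_rc_26_4 lc_c_rc_13_2 lc_c_rc_24_6 lc_c_rc_22_7 lc_c_rc_26_10 lc_c_Cert_tree lc_c_rc_26_4 lc_c_rc_24_4 lc_c_rc_13_2 lc_c_Cert_tree lc_c_rc_24_2 lc_c_rc_14_0 lc_c_rc_11_1 lc_c_rc_2_3 lc_c_rc_13_2 lc_c_rc_14_2 lc_c_rc_13_2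 lc_c_rc_14_0 lc_c_rc_11_1 lc_c_rc_23_5) (@D3.rec (fun _ => (Cert rels S Gen.c)) lc_c_rc_14_2 lc_c_rc_12_14 lc_c_rc_13_2 lc_c_rc_13_2 lc_c_rc_11_1 lc_c_rc_23_0 lc_c_rc_14_2 lc_c_rc_25_1 lc_c_rc_11_1 lc_c_rc_11_1 lc_c_rc_2_3 lc_c_rc_11_1 lc_c_rc_11_1 lc_c_rc_13_2 lc_c_rc_11_1 lc_c_rc_11_1 lc_c_rc_7_1 lc_c_rc_13_2 lc_c_rc_24_4 lc_c_rc_11_1 lc_c_Cert_tree lc_c_rc_26_2 lc_c_rc_26_2 lc_c_rc_7_1 lc_c_rc_13_2 lc_c_Cert_tree lc_c_rc_13_0 lc_c_rc_11_1 lc_c_rc_7_3 lc_c_Cert_tree lc_c_rc_26_2 lc_c_rc_22_3 lc_c_rc_11_1 lc_c_rc_2_3 lc_c_rc_26_4 lc_c_rc_13_2 lc_c_rc_11_1 lc_c_rc_11_1 lc_c_rc_2_3 lc_c_rc_26_4 lc_c_rc_13_2 lc_c_rc_13_0 lc_c_Cert_tree lc_c_rc_11_1 lc_c_rc_14_2 lc_c_rc_13_2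 lc_c_rc_14_2 lc_c_rc_11_1 lc_c_rc_13_2 lc_c_rc_7_3 lc_c_rc_24_8 lc_c_rc_13_2 lc_c_rc_2_3 lc_c_rc_7_3 lc_c_rc_14_2 lc_c_rc_2_3 lc_c_rc_11_1 lc_c_rc_11_1 lc_c_rc_7_3 lc_c_rc_13_2 lc_c_rc_26_2 lc_c_rc_11_1) (@D3.rec (fun _ => (Cert rels S Gen.c)) lc_c_rc_14_2 lc_c_rc_26_4 lc_c_rc_13_2 lc_c_rc_7_1 lc_c_rc_2_3 lc_c_rc_11_1 lc_c_rc_22_3 lc_c_rc_14_2 lc_c_rc_26_2 lc_c_rc_23_5 lc_c_rc_22_9 lc_c_rc_23_0 lc_c_rc_11_1 lc_c_rc_13_2 lc_c_rc_13_2 lc_c_rc_13_2 lc_c_rc_13_0 lc_c_rc_2_1 lc_c_rc_14_2 lc_c_rc_26_4 lc_c_rc_13_0 lc_c_rc_22_9 lc_c_rc_14_2 lc_c_rc_26_10 lc_c_rc_22_3 lc_c_rc_24_4 lc_c_rc_13_2 lc_c_rc_14_2 lc_c_rc_26_10 lc_c_rc_26_10 lc_c_rc_14_2 lc_c_rc_26_2 lc_c_rc_24_8 lc_c_rc_11_1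 lc_c_rc_25_1 lc_c_rc_11_1 lc_c_rc_25_17 lc_c_rc_11_1 lc_c_rc_13_2 lc_c_rc_11_1 lc_c_rc_11_1 lc_c_rc_14_2 lc_c_rc_13_2 lc_c_rc_26_2 lc_c_rc_13_2 lc_c_rc_13_0 lc_c_rc_7_3 lc_c_rc_2_3 lc_c_rc_13_2 lc_c_rc_26_10 lc_c_Cert_tree lc_c_rc_25_5 lc_c_rc_26_2 lc_c_rc_22_5 lc_c_rc_26_4 lc_c_rc_7_3 lc_c_rc_25_9 lc_c_rc_11_1 lc_c_rc_13_2 lc_c_rc_11_1 lc_c_rc_13_2 lc_c_rc_11_1) (@D3.rec (fun _ => (Cert rels S Gen.c)) lc_c_rc_26_4 lc_c_rc_11_1 lc_c_rc_24_4 lc_c_rc_24_6 lc_c_rc_14_0 lc_c_rc_11_1 lc_c_rc_13_2 lc_c_rc_7_1 lc_c_rc_13_0 lc_c_rc_7_5 lc_c_Cert_tree lc_c_rc_11_1 lc_c_rc_22_3 lc_c_rc_13_0 lc_c_rc_11_1 lc_c_rc_2_3 lc_c_rc_7_5 lc_c_rc_24_4 lc_c_rc_11_1 lc_c_rc_13_2 lc_c_rc_26_4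 lc_c_rc_13_2 lc_c_rc_24_8 lc_c_rc_24_2 lc_c_rc_2_1 lc_c_rc_24_4 lc_c_rc_13_2 lc_c_rc_26_2 lc_c_rc_13_2 lc_c_rc_24_6 lc_c_rc_14_2 lc_c_rc_11_1 lc_c_rc_22_7 lc_c_rc_11_1 lc_c_rc_2_3 lc_c_rc_13_2 lc_c_rc_24_4 lc_c_rc_11_1 lc_c_rc_7_1 lc_c_rc_13_2 lc_c_rc_11_1 lc_c_rc_13_2 lc_c_rc_25_17 lc_c_rc_23_0 lc_c_rc_23_0 lc_c_rc_14_2 lc_c_rc_11_1 lc_c_rc_26_4 lc_c_rc_13_0 lc_c_rc_24_8 lc_c_rc_24_8 lc_c_rc_23_5 lc_c_rc_11_1 lc_c_rc_25_5 lc_c_rc_11_1 lc_c_rc_11_1 lc_c_rc_24_2 lc_c_rc_14_0 lc_c_rc_11_1 lc_c_rc_22_3 lc_c_rc_22_3 lc_c_rc_14_2) (@D3.rec (fun _ => (Cert rels S Gen.c)) lc_c_rc_13_2 lc_c_Cert_tree lc_c_rc_11_1 lc_c_rc_13_0 lc_c_rc_13_2 lc_c_rc_22_5 lc_c_rc_2_3 lc_c_rc_14_2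 lc_c_rc_11_1 lc_c_rc_23_5 lc_c_rc_13_2 lc_c_rc_11_1 lc_c_rc_13_2 lc_c_rc_13_2 lc_c_rc_7_5 lc_c_rc_26_2 lc_c_rc_2_3 lc_c_rc_22_3 lc_c_rc_24_2 lc_c_rc_26_8 lc_c_rc_14_2 lc_c_rc_25_5 lc_c_rc_2_3 lc_c_rc_13_2 lc_c_rc_13_2 lc_c_rc_24_4 lc_c_rc_24_4 lc_c_rc_14_2 lc_c_rc_13_2 lc_c_rc_13_2 lc_c_rc_23_0 lc_c_rc_24_2 lc_c_rc_13_2 lc_c_rc_7_3 lc_c_rc_13_2 lc_c_rc_7_3 lc_c_rc_11_1 lc_c_rc_22_3 lc_c_rc_11_1 lc_c_rc_13_2 lc_c_rc_24_6 lc_c_rc_24_2 lc_c_rc_14_2 lc_c_rc_13_2 lc_c_rc_11_1 lc_c_rc_13_2 lc_c_rc_14_2 lc_c_rc_13_2 lc_c_rc_13_0 lc_c_rc_22_9 lc_c_rc_13_0 lc_c_rc_11_1 lc_c_rc_11_1 lc_c_rc_11_1 lc_c_rc_2_1 lc_c_rc_11_1 lc_c_rc_22_3 lc_c_rc_13_2 lc_c_rc_22_7 lc_c_rc_24_8 lc_c_rc_11_1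 lc_c_rc_11_1) (@D3.rec (fun _ => (Cert rels S Gen.c)) lc_c_rc_14_2 lc_c_rc_11_1 lc_c_rc_13_2 lc_c_rc_11_1 lc_c_rc_7_3 lc_c_rc_24_4 lc_c_rc_14_2 lc_c_rc_13_2 lc_c_rc_7_1 lc_c_rc_24_8 lc_c_rc_7_3 lc_c_rc_13_2 lc_c_rc_24_6 lc_c_rc_26_4 lc_c_rc_11_1 lc_c_rc_13_2 lc_c_rc_14_2 lc_c_rc_13_2 lc_c_Cert_tree lc_c_rc_13_0 lc_c_rc_13_2 lc_c_Cert_tree lc_c_rc_22_5 lc_c_rc_13_2 lc_c_rc_23_5 lc_c_rc_11_1 lc_c_rc_12_8 lc_c_rc_11_1 lc_c_rc_22_3 lc_c_rc_13_2 lc_c_rc_24_4 lc_c_rc_24_4 lc_c_rc_11_1 lc_c_rc_13_2 lc_c_rc_24_6 lc_c_rc_24_4 lc_c_rc_14_2 lc_c_rc_11_1 lc_c_rc_24_2 lc_c_rc_26_10 lc_c_rc_7_5 lc_c_Cert_tree lc_c_rc_11_1 lc_c_rc_26_8 lc_c_Cert_tree lc_c_rc_14_2 lc_c_rc_26_10 lc_c_rc_7_3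 lc_c_rc_11_1 lc_c_rc_13_2 lc_c_Cert_tree lc_c_rc_14_2 lc_c_rc_2_3 lc_c_rc_13_2 lc_c_rc_11_1 lc_c_rc_26_10 lc_c_rc_11_1 lc_c_rc_26_4 lc_c_rc_22_5 lc_c_rc_13_2 lc_c_rc_13_2 lc_c_rc_11_1) (@D3.rec (fun _ => (Cert rels S Gen.c)) lc_c_rc_13_2 lc_c_Cert_tree lc_c_rc_11_1 lc_c_rc_11_1 lc_c_rc_11_1 lc_c_rc_13_2 lc_c_rc_11_1 lc_c_rc_25_17 lc_c_rc_11_1 lc_c_rc_11_1 lc_c_rc_13_2 lc_c_rc_11_1 lc_c_rc_13_2 lc_c_rc_11_1 lc_c_rc_13_2 lc_c_rc_11_1 lc_c_rc_26_2 lc_c_rc_13_2 lc_c_rc_11_1 lc_c_rc_14_2 lc_c_rc_26_4 lc_c_rc_2_3 lc_c_rc_11_1 lc_c_rc_11_1 lc_c_rc_13_2 lc_c_rc_11_1 lc_c_rc_2_3 lc_c_rc_26_2 lc_c_rc_11_1 lc_c_rc_11_1 lc_c_rc_26_2 lc_c_rc_22_7 lc_c_rc_13_2 lc_c_rc_24_2 lc_c_rc_11_1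 lc_c_rc_14_0 lc_c_rc_11_1 lc_c_rc_14_2 lc_c_rc_11_1 lc_c_rc_13_2 lc_c_rc_11_1 lc_c_rc_2_1 lc_c_rc_7_3 lc_c_rc_14_2 lc_c_rc_11_1 lc_c_rc_23_0 lc_c_rc_11_1 lc_c_rc_7_3 lc_c_rc_13_2 lc_c_rc_2_3 lc_c_Cert_tree lc_c_rc_13_2 lc_c_Cert_tree lc_c_rc_14_2 lc_c_rc_26_8 lc_c_rc_13_2 lc_c_rc_13_2 lc_c_rc_12_2 lc_c_rc_13_2 lc_c_Cert_tree lc_c_rc_14_2 lc_c_rc_26_10) (@D3.rec (fun _ => (Cert rels S Gen.c)) lc_c_rc_13_2 lc_c_rc_11_1 lc_c_rc_12_4 lc_c_rc_13_2 lc_c_rc_14_0 lc_c_rc_2_3 lc_c_rc_14_2 lc_c_rc_26_4 lc_c_rc_26_8 lc_c_rc_11_1 lc_c_rc_13_2 lc_c_Cert_tree lc_c_Cert_tree lc_c_rc_26_4 lc_c_rc_7_1 lc_c_rc_2_3 lc_c_rc_22_3 lc_c_rc_22_3 lc_c_rc_2_1 lc_c_rc_11_1 lc_c_rc_11_1 lc_c_rc_2_3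 lc_c_rc_26_4 lc_c_rc_14_2 lc_c_rc_23_0 lc_c_rc_7_3 lc_c_rc_11_1 lc_c_rc_13_2 lc_c_rc_2_1 lc_c_rc_13_2 lc_c_rc_11_1 lc_c_rc_13_2 lc_c_rc_11_1 lc_c_rc_23_0 lc_c_rc_26_2 lc_c_rc_13_2 lc_c_rc_13_2 lc_c_Cert_tree lc_c_rc_13_2 lc_c_rc_23_0 lc_c_rc_13_2 lc_c_rc_13_2 lc_c_rc_26_4 lc_c_rc_13_2 lc_c_rc_23_0 lc_c_rc_14_2 lc_c_rc_13_2 lc_c_Cert_tree lc_c_rc_11_1 lc_c_rc_25_5 lc_c_rc_11_1 lc_c_rc_24_2 lc_c_rc_24_2 lc_c_rc_11_1 lc_c_rc_11_1 lc_c_rc_11_1 lc_c_rc_22_7 lc_c_rc_13_2 lc_c_rc_13_2 lc_c_rc_26_2 lc_c_rc_7_1 lc_c_rc_13_0) (@D3.rec (fun _ => (Cert rels S Gen.c)) lc_c_rc_13_2 lc_c_rc_11_1 lc_c_rc_2_1 lc_c_rc_7_5 lc_c_rc_14_2 lc_c_rc_14_2 lc_c_rc_26_2 lc_c_rc_11_1 lc_c_Cert_tree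 lc_c_rc_13_2 lc_c_rc_2_1 lc_c_rc_11_1 lc_c_rc_13_2 lc_c_rc_13_2 lc_c_rc_13_2 lc_c_rc_11_1 lc_c_rc_11_1 lc_c_rc_26_8 lc_c_rc_13_2 lc_c_rc_2_1 lc_c_rc_23_5 lc_c_rc_12_0 lc_c_rc_11_1 lc_c_rc_24_2 lc_c_rc_2_3 lc_c_rc_14_2 lc_c_Cert_tree lc_c_rc_26_4 lc_c_Cert_tree lc_c_rc_13_2 lc_c_rc_13_0 lc_c_rc_2_1 lc_c_rc_11_1 lc_c_rc_7_3 lc_c_rc_13_0 lc_c_rc_11_1 lc_c_rc_13_2 lc_c_rc_13_2 lc_c_rc_13_2 lc_c_Cert_tree lc_c_rc_11_1 lc_c_rc_11_1 lc_c_rc_13_2 lc_c_rc_11_1 lc_c_rc_7_3 lc_c_Cert_tree lc_c_rc_26_2 lc_c_rc_26_4 lc_c_rc_13_2 lc_c_rc_23_0 lc_c_rc_23_0 lc_c_rc_13_2 lc_c_rc_7_1 lc_c_rc_13_2 lc_c_rc_11_1 lc_c_rc_13_2 lc_c_rc_11_1 lc_c_rc_13_2 lc_c_rc_24_4 lc_c_rc_24_4 lc_c_rc_7_3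 lc_c_rc_24_8) (@D3.rec (fun _ => (Cert rels S Gen.c)) lc_c_rc_11_1 lc_c_rc_13_2 lc_c_rc_2_1 lc_c_rc_11_1 lc_c_rc_2_3 lc_c_rc_11_1 lc_c_rc_25_1 lc_c_rc_13_0 lc_c_rc_13_2 lc_c_rc_11_1 lc_c_rc_23_5 lc_c_rc_11_1 lc_c_rc_13_2 lc_c_rc_7_1 lc_c_rc_13_2 lc_c_rc_7_5 lc_c_rc_22_3 lc_c_rc_14_2 lc_c_rc_13_2 lc_c_rc_11_1 lc_c_rc_22_3 lc_c_rc_13_2 lc_c_rc_22_7 lc_c_rc_13_2 lc_c_rc_22_3 lc_c_rc_22_3 lc_c_rc_2_3 lc_c_rc_11_1 lc_c_rc_7_5 lc_c_rc_11_1 lc_c_rc_11_1 lc_c_rc_7_5 lc_c_rc_14_2 lc_c_rc_25_5 lc_c_rc_11_1 lc_c_rc_11_1 lc_c_rc_13_2 lc_c_rc_7_1 lc_c_rc_13_2 lc_c_Cert_tree lc_c_rc_7_1 lc_c_rc_13_0 lc_c_rc_11_1 lc_c_rc_26_2 lc_c_rc_13_2 lc_c_rc_11_1 lc_c_Cert_tree lc_c_rc_13_2 lc_c_rc_14_2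 lc_c_rc_11_1 lc_c_rc_11_1 lc_c_rc_13_2 lc_c_rc_13_2 lc_c_rc_26_4 lc_c_rc_7_5 lc_c_rc_14_2 lc_c_rc_11_1 lc_c_rc_26_4 lc_c_rc_11_1 lc_c_rc_25_13 lc_c_rc_23_0 lc_c_rc_13_2) (@D3.rec (fun _ => (Cert rels S Gen.c)) lc_c_rc_7_5 lc_c_rc_13_0 lc_c_rc_22_5 lc_c_rc_7_1 lc_c_rc_23_5 lc_c_rc_13_2 lc_c_rc_24_6 lc_c_rc_11_1 lc_c_rc_2_3 lc_c_rc_14_2 lc_c_rc_24_8 lc_c_rc_22_3 lc_c_rc_13_2 lc_c_rc_11_1 lc_c_rc_11_1 lc_c_rc_11_1 lc_c_rc_13_2 lc_c_rc_2_3 lc_c_rc_7_3 lc_c_rc_23_0 lc_c_rc_13_2 lc_c_rc_13_2 lc_c_rc_22_5 lc_c_rc_22_7 lc_c_rc_22_3 lc_c_rc_7_3 lc_c_rc_13_2 lc_c_rc_14_0 lc_c_rc_13_2 lc_c_rc_13_2 lc_c_rc_11_1 lc_c_rc_7_5 lc_c_rc_14_0 lc_c_rc_14_0 lc_c_rc_11_1 lc_c_rc_11_1 lc_c_rc_23_0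 lc_c_rc_11_1 lc_c_rc_23_0 lc_c_rc_11_1 lc_c_rc_26_4 lc_c_rc_13_2 lc_c_rc_7_3 lc_c_rc_22_5 lc_c_rc_2_3 lc_c_rc_23_0 lc_c_rc_11_1 lc_c_rc_13_2 lc_c_rc_2_3 lc_c_rc_7_1 lc_c_rc_22_5 lc_c_rc_13_2 lc_c_rc_23_0 lc_c_rc_14_2 lc_c_rc_22_5 lc_c_rc_7_5 lc_c_rc_2_3 lc_c_rc_7_1 lc_c_rc_24_2 lc_c_rc_13_2 lc_c_rc_24_8 lc_c_rc_11_1) (@D3.rec (fun _ => (Cert rels S Gen.c)) lc_c_rc_22_5 lc_c_rc_14_2 lc_c_rc_22_5 lc_c_rc_11_1 lc_c_rc_11_1 lc_c_rc_22_3 lc_c_rc_11_1 lc_c_rc_26_10 lc_c_rc_7_1 lc_c_rc_22_7 lc_c_rc_13_2 lc_c_rc_2_3 lc_c_Cert_tree lc_c_rc_13_2 lc_c_rc_11_1 lc_c_rc_7_1 lc_c_rc_2_3 lc_c_rc_23_0 lc_c_rc_11_1 lc_c_rc_11_1 lc_c_rc_11_1 lc_c_rc_7_5 lc_c_rc_11_1 lc_c_rc_13_2 lc_c_rc_13_2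 lc_c_rc_26_10 lc_c_rc_7_5 lc_c_rc_11_1 lc_c_Cert_tree lc_c_rc_13_2 lc_c_rc_13_2 lc_c_rc_2_1 lc_c_rc_14_2 lc_c_rc_14_2 lc_c_rc_2_1 lc_c_rc_11_1 lc_c_Cert_tree lc_c_rc_13_2 lc_c_rc_14_2 lc_c_rc_7_3 lc_c_rc_11_1 lc_c_Cert_tree lc_c_rc_11_1 lc_c_Cert_tree lc_c_Cert_tree lc_c_Cert_tree lc_c_rc_11_1 lc_c_rc_22_5 lc_c_rc_24_2 lc_c_rc_14_2 lc_c_rc_7_5 lc_c_rc_13_0 lc_c_rc_2_3 lc_c_rc_26_4 lc_c_rc_13_2 lc_c_rc_26_4 lc_c_rc_25_17 lc_c_rc_13_2 lc_c_rc_14_2 lc_c_rc_7_5 lc_c_rc_11_1 lc_c_rc_7_5) (@D3.rec (fun _ => (Cert rels S Gen.c)) lc_c_rc_26_8 lc_c_rc_13_2 lc_c_rc_14_0 lc_c_rc_13_0 lc_c_rc_11_1 lc_c_rc_14_2 lc_c_rc_23_0 lc_c_rc_13_0 lc_c_rc_2_3 lc_c_rc_11_1 lc_c_rc_22_5 lc_c_rc_11_1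 lc_c_rc_13_0 lc_c_rc_26_10 lc_c_rc_24_2 lc_c_rc_7_5 lc_c_rc_13_2 lc_c_rc_11_1 lc_c_rc_7_3 lc_c_rc_7_3 lc_c_rc_7_3 lc_c_rc_11_1 lc_c_rc_26_8 lc_c_rc_24_4 lc_c_rc_11_1 lc_c_rc_26_4 lc_c_rc_22_3 lc_c_rc_13_2 lc_c_rc_13_0 lc_c_rc_24_6 lc_c_rc_26_4 lc_c_rc_7_3 lc_c_rc_11_1 lc_c_rc_23_5 lc_c_rc_22_7 lc_c_rc_24_8 lc_c_rc_11_1 lc_c_rc_12_0 lc_c_rc_13_2 lc_c_rc_22_5 lc_c_Cert_tree lc_c_rc_26_2 lc_c_rc_11_1 lc_c_rc_13_2 lc_c_rc_11_1 lc_c_rc_26_4 lc_c_rc_26_10 lc_c_rc_11_1 lc_c_Cert_tree lc_c_rc_11_1 lc_c_rc_23_5 lc_c_rc_7_3 lc_c_rc_13_2 lc_c_rc_13_0 lc_c_rc_23_0 lc_c_Cert_tree lc_c_rc_11_1 lc_c_rc_11_1 lc_c_rc_13_2 lc_c_rc_13_2 lc_c_rc_23_0 lc_c_rc_13_2) (@D3.rec (fun _ => (Cert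 rels S Gen.c)) lc_c_rc_13_2 lc_c_rc_11_1 lc_c_rc_26_10 lc_c_Cert_tree lc_c_rc_13_2 lc_c_Cert_tree lc_c_rc_11_1 lc_c_Cert_tree lc_c_rc_11_1 lc_c_rc_26_10 lc_c_rc_11_1 lc_c_rc_22_3 lc_c_rc_11_1 lc_c_rc_11_1 lc_c_rc_26_4 lc_c_rc_24_4 lc_c_rc_24_4 lc_c_rc_7_3 lc_c_rc_22_7 lc_c_rc_14_2 lc_c_rc_13_2 lc_c_rc_11_1 lc_c_rc_11_1 lc_c_rc_24_4 lc_c_rc_23_0 lc_c_rc_7_5 lc_c_rc_11_1 lc_c_rc_7_1 lc_c_rc_11_1 lc_c_rc_13_2 lc_c_rc_24_6 lc_c_rc_24_4 lc_c_rc_7_3 lc_c_rc_11_1 lc_c_rc_13_2 lc_c_Cert_tree lc_c_Cert_tree lc_c_rc_13_0 lc_c_rc_13_0 lc_c_rc_14_2 lc_c_rc_24_2 lc_c_rc_11_1 lc_c_rc_13_2 lc_c_rc_24_2 lc_c_rc_26_4 lc_c_rc_24_2 lc_c_rc_26_8 lc_c_rc_11_1 lc_c_rc_11_1 lc_c_rc_23_0 lc_c_rc_22_3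 lc_c_rc_11_1 lc_c_rc_23_0 lc_c_rc_2_3 lc_c_rc_11_1 lc_c_rc_11_1 lc_c_rc_13_2 lc_c_rc_24_2 lc_c_rc_11_1 lc_c_rc_26_10 lc_c_rc_26_8 lc_c_rc_11_1) (@D3.rec (fun _ => (Cert rels S Gen.c)) lc_c_rc_13_2 lc_c_rc_11_1 lc_c_rc_22_3 lc_c_rc_23_0 lc_c_rc_13_0 lc_c_rc_23_0 lc_c_rc_13_0 lc_c_rc_7_5 lc_c_rc_11_1 lc_c_rc_7_5 lc_c_rc_22_3 lc_c_rc_13_2 lc_c_rc_22_3 lc_c_rc_14_2 lc_c_rc_11_1 lc_c_rc_11_1 lc_c_rc_11_1 lc_c_rc_14_0 lc_c_rc_13_0 lc_c_rc_12_2 lc_c_rc_11_1 lc_c_rc_11_1 lc_c_rc_14_2 lc_c_rc_11_1 lc_c_rc_13_2 lc_c_rc_2_3 lc_c_Cert_tree lc_c_rc_14_2 lc_c_rc_11_1 lc_c_rc_13_0 lc_c_rc_25_1 lc_c_rc_11_1 lc_c_rc_13_2 lc_c_rc_14_2 lc_c_rc_22_9 lc_c_rc_11_1 lc_c_rc_7_5 lc_c_rc_7_5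 lc_c_rc_11_1 lc_c_rc_7_1 lc_c_rc_22_3 lc_c_rc_13_2 lc_c_rc_11_1 lc_c_rc_2_3 lc_c_rc_26_8 lc_c_rc_22_3 lc_c_rc_11_1 lc_c_rc_7_5 lc_c_Cert_tree lc_c_rc_24_8 lc_c_rc_23_0 lc_c_rc_22_7 lc_c_rc_13_2 lc_c_Cert_tree lc_c_rc_23_0 lc_c_rc_22_7 lc_c_rc_14_2 lc_c_rc_13_2 lc_c_rc_11_1 lc_c_rc_23_5 lc_c_rc_11_1 lc_c_rc_26_8) (@D3.rec (fun _ => (Cert rels S Gen.c)) lc_c_rc_24_4 lc_c_rc_11_1 lc_c_rc_11_1 lc_c_rc_26_4 lc_c_rc_26_2 lc_c_rc_23_0 lc_c_rc_13_2 lc_c_rc_22_5 lc_c_rc_12_2 lc_c_rc_7_3 lc_c_rc_23_0 lc_c_rc_13_0 lc_c_rc_11_1 lc_c_rc_11_1 lc_c_rc_7_3 lc_c_rc_11_1 lc_c_rc_13_2 lc_c_rc_13_2 lc_c_rc_13_2 lc_c_rc_11_1 lc_c_rc_26_4 lc_c_rc_24_8 lc_c_rc_23_5 lc_c_rc_11_1 lc_c_rc_11_1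 lc_c_rc_11_1 lc_c_rc_7_3 lc_c_rc_23_0 lc_c_rc_13_2 lc_c_rc_7_5 lc_c_rc_2_3 lc_c_rc_22_3 lc_c_rc_23_0 lc_c_rc_11_1 lc_c_rc_7_5 lc_c_rc_13_2 lc_c_rc_24_6 lc_c_rc_13_2 lc_c_rc_2_3 lc_c_rc_11_1 lc_c_rc_13_2 lc_c_rc_26_4 lc_c_rc_22_5 lc_c_rc_13_2 lc_c_rc_14_2 lc_c_rc_7_5 lc_c_rc_23_0 lc_c_rc_7_3 lc_c_rc_13_0 lc_c_rc_2_3 lc_c_rc_7_3 lc_c_rc_22_9 lc_c_rc_13_0 lc_c_rc_11_1 lc_c_rc_11_1 lc_c_rc_26_2 lc_c_rc_12_0 lc_c_rc_2_3 lc_c_rc_13_2 lc_c_rc_26_2 lc_c_rc_11_1 lc_c_rc_26_4) (@D3.rec (fun _ => (Cert rels S Gen.c)) lc_c_rc_11_1 lc_c_rc_24_2 lc_c_rc_7_3 lc_c_rc_14_0 lc_c_rc_11_1 lc_c_rc_7_1 lc_c_rc_13_2 lc_c_rc_23_0 lc_c_rc_11_1 lc_c_rc_12_2 lc_c_rc_14_2 lc_c_rc_11_1 lc_c_rc_23_5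 lc_c_rc_11_1 lc_c_rc_13_0 lc_c_rc_25_5 lc_c_rc_7_3 lc_c_rc_23_0 lc_c_rc_13_0 lc_c_rc_25_5 lc_c_rc_13_0 lc_c_rc_24_4 lc_c_rc_26_8 lc_c_rc_11_1 lc_c_rc_13_2 lc_c_rc_22_7 lc_c_rc_14_2 lc_c_rc_11_1 lc_c_rc_13_2 lc_c_rc_26_4 lc_c_rc_26_4 lc_c_rc_11_1 lc_c_rc_13_2 lc_c_rc_11_1 lc_c_rc_13_2 lc_c_rc_14_0 lc_c_rc_24_2 lc_c_rc_13_0 lc_c_rc_23_5 lc_c_rc_13_2 lc_c_Cert_tree lc_c_rc_22_5 lc_c_rc_11_1 lc_c_rc_13_2 lc_c_rc_13_2 lc_c_rc_13_2 lc_c_rc_24_2 lc_c_rc_7_3 lc_c_rc_13_2 lc_c_Cert_tree lc_c_rc_24_8 lc_c_rc_14_2 lc_c_rc_2_3 lc_c_rc_2_3 lc_c_rc_26_2 lc_c_rc_13_2 lc_c_rc_26_2 lc_c_rc_24_4 lc_c_rc_26_2 lc_c_rc_24_6 lc_c_Cert_tree lc_c_rc_11_1) (@D3.rec (fun _ => (Cert rels S Gen.c))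 lc_c_rc_11_1 lc_c_rc_11_1 lc_c_rc_26_4 lc_c_rc_11_1 lc_c_rc_13_2 lc_c_rc_11_1 lc_c_rc_13_2 lc_c_rc_23_0 lc_c_rc_13_2 lc_c_rc_13_0 lc_c_rc_26_4 lc_c_rc_14_2 lc_c_rc_2_1 lc_c_rc_14_0 lc_c_rc_22_3 lc_c_Cert_tree lc_c_Cert_tree lc_c_rc_11_1 lc_c_rc_26_4 lc_c_rc_11_1 lc_c_Cert_tree lc_c_rc_11_1 lc_c_rc_22_3 lc_c_rc_13_0 lc_c_rc_11_1 lc_c_rc_7_5 lc_c_rc_13_2 lc_c_rc_7_1 lc_c_rc_11_1 lc_c_rc_13_2 lc_c_rc_14_2 lc_c_rc_11_1 lc_c_rc_26_2 lc_c_rc_11_1 lc_c_rc_13_2 lc_c_rc_24_6 lc_c_rc_23_0 lc_c_rc_13_0 lc_c_rc_26_2 lc_c_rc_24_8 lc_c_rc_26_2 lc_c_rc_26_10 lc_c_rc_11_1 lc_c_rc_13_2 lc_c_rc_2_1 lc_c_rc_22_3 lc_c_rc_13_2 lc_c_rc_23_5 lc_c_rc_24_8 lc_c_rc_14_2 lc_c_rc_22_7 lc_c_rc_11_1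 lc_c_rc_14_2 lc_c_rc_11_1 lc_c_rc_23_5 lc_c_rc_11_1 lc_c_rc_26_4 lc_c_rc_24_6 lc_c_rc_24_6 lc_c_rc_13_0 lc_c_rc_24_4 lc_c_rc_14_2) (@D3.rec (fun _ => (Cert rels S Gen.c)) lc_c_rc_11_1 lc_c_rc_14_2 lc_c_rc_14_2 lc_c_rc_11_1 lc_c_rc_11_1 lc_c_rc_24_4 lc_c_Cert_tree lc_c_rc_13_2 lc_c_rc_11_1 lc_c_rc_14_2 lc_c_rc_24_8 lc_c_rc_7_3 lc_c_rc_13_2 lc_c_rc_23_5 lc_c_rc_26_4 lc_c_rc_23_5 lc_c_rc_13_2 lc_c_rc_26_8 lc_c_rc_23_5 lc_c_rc_26_2 lc_c_rc_7_5 lc_c_rc_13_2 lc_c_rc_22_3 lc_c_rc_24_6 lc_c_rc_11_1 lc_c_rc_23_0 lc_c_rc_11_1 lc_c_rc_11_1 lc_c_rc_11_1 lc_c_rc_11_1 lc_c_rc_13_2 lc_c_rc_11_1 lc_c_rc_22_3 lc_c_rc_13_2 lc_c_rc_22_7 lc_c_Cert_tree lc_c_Cert_tree lc_c_rc_14_2 lc_c_rc_26_2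 lc_c_rc_11_1 lc_c_rc_24_4 lc_c_rc_22_3 lc_c_rc_11_1 lc_c_rc_11_1 lc_c_rc_7_1 lc_c_rc_11_1 lc_c_rc_7_5 lc_c_rc_7_3 lc_c_rc_22_3 lc_c_rc_13_2 lc_c_rc_7_3 lc_c_rc_11_1 lc_c_rc_12_2 lc_c_rc_11_1 lc_c_rc_24_4 lc_c_rc_22_3 lc_c_rc_14_2 lc_c_rc_26_4 lc_c_rc_13_2 lc_c_rc_7_3 lc_c_rc_13_2 lc_c_rc_26_10) (@D3.rec (fun _ => (Cert rels S Gen.c)) lc_c_rc_24_2 lc_c_rc_14_2 lc_c_rc_13_2 lc_c_rc_11_1 lc_c_Cert_tree lc_c_rc_14_2 lc_c_rc_11_1 lc_c_rc_22_5 lc_c_rc_11_1 lc_c_rc_22_7 lc_c_rc_11_1 lc_c_rc_13_2 lc_c_rc_7_5 lc_c_Cert_tree lc_c_rc_22_5 lc_c_rc_13_2 lc_c_Cert_tree lc_c_rc_2_3 lc_c_rc_13_2 lc_c_rc_11_1 lc_c_Cert_tree lc_c_Cert_tree lc_c_rc_13_2 lc_c_rc_11_1 lc_c_rc_24_4 lc_c_rc_23_5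 lc_c_rc_22_5 lc_c_rc_7_3 lc_c_rc_13_2 lc_c_rc_13_2 lc_c_rc_13_0 lc_c_rc_25_1 lc_c_Cert_tree lc_c_rc_11_1 lc_c_rc_7_3 lc_c_rc_11_1 lc_c_rc_22_3 lc_c_rc_23_0 lc_c_rc_13_2 lc_c_rc_26_10 lc_c_rc_13_0 lc_c_rc_2_3 lc_c_rc_22_5 lc_c_rc_11_1 lc_c_rc_13_2 lc_c_rc_11_1 lc_c_rc_24_2 lc_c_rc_11_1 lc_c_rc_13_2 lc_c_rc_11_1 lc_c_rc_24_8 lc_c_rc_24_8 lc_c_rc_22_5 lc_c_rc_11_1 lc_c_rc_22_5 lc_c_rc_7_1 lc_c_rc_13_2 lc_c_rc_11_1 lc_c_rc_13_2 lc_c_rc_26_4 lc_c_rc_11_1 lc_c_rc_13_2) (@D3.rec (fun _ => (Cert rels S Gen.c)) lc_c_rc_7_3 lc_c_rc_13_2 lc_c_rc_7_5 lc_c_rc_22_3 lc_c_rc_11_1 lc_c_rc_26_2 lc_c_rc_11_1 lc_c_rc_2_3 lc_c_rc_26_4 lc_c_rc_11_1 lc_c_rc_26_4 lc_c_rc_24_4 lc_c_rc_22_3 lc_c_rc_2_3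 lc_c_rc_14_2 lc_c_rc_11_1 lc_c_rc_13_2 lc_c_rc_24_8 lc_c_rc_13_0 lc_c_rc_11_1 lc_c_rc_13_2 lc_c_rc_22_5 lc_c_rc_7_3 lc_c_rc_11_1 lc_c_rc_13_2 lc_c_Cert_tree lc_c_rc_12_0 lc_c_rc_24_2 lc_c_Cert_tree lc_c_Cert_tree lc_c_rc_7_5 lc_c_rc_7_3 lc_c_rc_13_2 lc_c_rc_23_5 lc_c_rc_13_2 lc_c_rc_14_2 lc_c_Cert_tree lc_c_rc_24_8 lc_c_rc_13_2 lc_c_rc_24_6 lc_c_rc_13_2 lc_c_rc_2_3 lc_c_rc_11_1 lc_c_rc_2_3 lc_c_rc_23_0 lc_c_rc_22_7 lc_c_rc_11_1 lc_c_rc_13_2 lc_c_rc_24_6 lc_c_rc_14_2 lc_c_rc_11_1 lc_c_rc_7_5 lc_c_rc_11_1 lc_c_rc_13_0 lc_c_rc_11_1 lc_c_rc_7_3 lc_c_rc_22_5 lc_c_rc_11_1 lc_c_rc_13_2 lc_c_rc_2_1 lc_c_Cert_tree lc_c_rc_13_2) (@D3.rec (fun _ => (Cert rels S Gen.c)) lc_c_Cert_tree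 lc_c_rc_11_1 lc_c_rc_14_2 lc_c_rc_26_8 lc_c_rc_26_2 lc_c_rc_7_5 lc_c_rc_14_2 lc_c_rc_26_8 lc_c_rc_23_5 lc_c_rc_13_2 lc_c_rc_24_4 lc_c_rc_13_2 lc_c_rc_11_1 lc_c_rc_2_3 lc_c_rc_13_2 lc_c_Cert_tree lc_c_rc_24_6 lc_c_rc_7_1 lc_c_rc_25_17 lc_c_rc_13_2 lc_c_rc_11_1 lc_c_Cert_tree lc_c_rc_7_5 lc_c_rc_14_2 lc_c_rc_22_3 lc_c_rc_24_2 lc_c_rc_13_2 lc_c_rc_2_3 lc_c_rc_13_2 lc_c_rc_14_2 lc_c_rc_2_3 lc_c_rc_26_2 lc_c_rc_2_3 lc_c_rc_11_1 lc_c_rc_26_4 lc_c_rc_11_1 lc_c_rc_13_2 lc_c_rc_11_1 lc_c_rc_22_5 lc_c_rc_13_2 lc_c_rc_26_8 lc_c_rc_7_1 lc_c_rc_12_0 lc_c_rc_11_1 lc_c_rc_7_5 lc_c_rc_13_2 lc_c_rc_26_4 lc_c_rc_13_2 lc_c_rc_2_3 lc_c_rc_13_2 lc_c_rc_24_4 lc_c_rc_23_5 lc_c_rc_2_3 lc_c_rc_13_2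 lc_c_rc_24_4 lc_c_rc_22_5 lc_c_rc_14_2 lc_c_rc_25_5 lc_c_rc_13_2 lc_c_rc_11_1 lc_c_rc_11_1 lc_c_rc_23_0) (@D3.rec (fun _ => (Cert rels S Gen.c)) lc_c_rc_13_2 lc_c_rc_11_1 lc_c_rc_26_2 lc_c_rc_11_1 lc_c_rc_13_0 lc_c_rc_7_5 lc_c_rc_7_5 lc_c_rc_23_5 lc_c_rc_13_2 lc_c_rc_26_4 lc_c_rc_11_1 lc_c_rc_2_3 lc_c_rc_11_1 lc_c_rc_11_1 lc_c_rc_13_2 lc_c_rc_13_0 lc_c_rc_7_1 lc_c_rc_11_1 lc_c_rc_13_2 lc_c_rc_7_3 lc_c_rc_12_2 lc_c_rc_13_2 lc_c_rc_13_0 lc_c_rc_7_5 lc_c_rc_11_1 lc_c_rc_13_2 lc_c_rc_11_1 lc_c_rc_26_4 lc_c_Cert_tree lc_c_rc_7_5 lc_c_rc_11_1 lc_c_rc_11_1 lc_c_rc_24_6 lc_c_rc_7_3 lc_c_rc_22_9 lc_c_rc_7_5 lc_c_rc_7_5 lc_c_rc_11_1 lc_c_rc_11_1 lc_c_rc_24_6 lc_c_rc_11_1 lc_c_rc_26_4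 lc_c_rc_14_2 lc_c_rc_23_0 lc_c_rc_13_2 lc_c_rc_24_2 lc_c_rc_13_0 lc_c_rc_7_5 lc_c_rc_22_7 lc_c_rc_11_1 lc_c_rc_11_1 lc_c_rc_2_3 lc_c_rc_11_1 lc_c_rc_24_2 lc_c_rc_23_0 lc_c_rc_13_2 lc_c_rc_11_1 lc_c_rc_25_17 lc_c_rc_2_3 lc_c_rc_11_1 lc_c_rc_13_0 lc_c_rc_13_0) (@D3.rec (fun _ => (Cert rels S Gen.c)) lc_c_rc_22_3 lc_c_rc_11_1 lc_c_rc_25_1 lc_c_rc_11_1 lc_c_rc_13_2 lc_c_rc_24_6 lc_c_rc_11_1 lc_c_rc_7_3 lc_c_rc_22_3 lc_c_rc_14_2 lc_c_rc_11_1 lc_c_rc_23_5 lc_c_rc_11_1 lc_c_rc_23_5 lc_c_rc_2_3 lc_c_rc_13_2 lc_c_rc_26_10 lc_c_rc_11_1 lc_c_rc_14_2 lc_c_rc_26_2 lc_c_Cert_tree lc_c_rc_11_1 lc_c_rc_24_8 lc_c_rc_26_10 lc_c_rc_7_5 lc_c_rc_13_2 lc_c_Cert_tree lc_c_rc_11_1 lc_c_Cert_tree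 lc_c_rc_11_1 lc_c_rc_13_2 lc_c_rc_7_3 lc_c_Cert_tree lc_c_rc_14_2 lc_c_rc_12_0 lc_c_rc_7_5 lc_c_rc_11_1 lc_c_rc_2_3 lc_c_rc_7_5 lc_c_rc_23_0 lc_c_rc_13_2 lc_c_rc_11_1 lc_c_rc_7_3 lc_c_rc_23_0 lc_c_rc_13_2 lc_c_Cert_tree lc_c_Cert_tree lc_c_Cert_tree lc_c_rc_14_2 lc_c_rc_11_1 lc_c_rc_14_0 lc_c_rc_11_1 lc_c_rc_13_2 lc_c_rc_24_2 lc_c_rc_24_2 lc_c_rc_14_2 lc_c_Cert_tree lc_c_Cert_tree lc_c_rc_2_3 lc_c_rc_24_6 lc_c_rc_14_2 lc_c_rc_26_2) (@D3.rec (fun _ => (Cert rels S Gen.c)) lc_c_Cert_tree lc_c_rc_13_2 lc_c_rc_7_5 lc_c_rc_12_2 lc_c_rc_13_2 lc_c_rc_24_2 lc_c_rc_24_8 lc_c_rc_14_2 lc_c_rc_7_3 lc_c_rc_11_1 lc_c_rc_11_1 lc_c_rc_13_2 lc_c_rc_11_1 lc_c_rc_26_2 lc_c_rc_13_2 lc_c_rc_14_2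 lc_c_rc_13_0 lc_c_rc_14_2 lc_c_rc_24_8 lc_c_rc_11_1 lc_c_rc_22_3 lc_c_rc_26_2 lc_c_rc_7_5 lc_c_rc_14_2 lc_c_Cert_tree lc_c_rc_11_1 lc_c_rc_13_2 lc_c_rc_7_3 lc_c_rc_11_1 lc_c_rc_2_3 lc_c_rc_13_2 lc_c_rc_7_5 lc_c_rc_26_10 lc_c_rc_11_1 lc_c_rc_11_1 lc_c_rc_23_0 lc_c_rc_22_7 lc_c_rc_14_2 lc_c_rc_24_4 lc_c_Cert_tree lc_c_rc_23_0 lc_c_rc_2_1 lc_c_rc_7_5 lc_c_rc_2_3 lc_c_Cert_tree lc_c_rc_11_1 lc_c_rc_23_0 lc_c_rc_11_1 lc_c_rc_11_1 lc_c_rc_7_3 lc_c_Cert_tree lc_c_rc_7_3 lc_c_rc_2_3 lc_c_rc_11_1 lc_c_rc_13_2 lc_c_rc_11_1 lc_c_rc_13_2 lc_c_rc_11_1 lc_c_rc_23_5 lc_c_rc_13_2 lc_c_rc_13_0 lc_c_rc_13_2) (@D3.rec (fun _ => (Cert rels S Gen.c)) lc_c_rc_14_2 lc_c_rc_26_4 lc_c_rc_26_10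 lc_c_rc_23_0 lc_c_rc_25_13 lc_c_rc_23_5 lc_c_rc_11_1 lc_c_rc_26_4 lc_c_rc_14_0 lc_c_rc_11_1 lc_c_rc_26_10 lc_c_rc_14_2 lc_c_rc_24_4 lc_c_rc_14_2 lc_c_rc_11_1 lc_c_rc_24_4 lc_c_rc_23_0 lc_c_Cert_tree lc_c_rc_23_5 lc_c_Cert_tree lc_c_rc_24_6 lc_c_rc_11_1 lc_c_rc_11_1 lc_c_rc_11_1 lc_c_rc_13_2 lc_c_rc_26_2 lc_c_rc_13_2 lc_c_rc_7_1 lc_c_rc_13_2 lc_c_rc_14_2 lc_c_rc_14_2 lc_c_rc_26_10 lc_c_rc_11_1 lc_c_rc_2_3 lc_c_rc_13_2 lc_c_rc_13_0 lc_c_rc_2_3 lc_c_Cert_tree lc_c_rc_14_2 lc_c_rc_11_1 lc_c_rc_11_1 lc_c_rc_13_2 lc_c_rc_26_8 lc_c_rc_11_1 lc_c_rc_13_2 lc_c_rc_11_1 lc_c_rc_11_1 lc_c_rc_11_1 lc_c_rc_13_2 lc_c_rc_14_2 lc_c_rc_24_2 lc_c_rc_26_10 lc_c_rc_11_1 lc_c_rc_22_9 lc_c_rc_11_1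 lc_c_rc_26_2 lc_c_rc_7_5 lc_c_rc_13_2 lc_c_rc_11_1 lc_c_rc_26_8 lc_c_rc_24_4 lc_c_rc_11_1) (@D3.rec (fun _ => (Cert rels S Gen.c)) lc_c_rc_26_4 lc_c_rc_11_1 lc_c_rc_22_3 lc_c_rc_7_3 lc_c_rc_13_0 lc_c_rc_11_1 lc_c_rc_23_0 lc_c_rc_13_2 lc_c_rc_13_2 lc_c_rc_11_1 lc_c_rc_13_2 lc_c_rc_13_2 lc_c_rc_11_1 lc_c_rc_13_0 lc_c_rc_13_0 lc_c_rc_23_5 lc_c_rc_7_5 lc_c_rc_13_2 lc_c_rc_11_1 lc_c_rc_13_2 lc_c_rc_23_5 lc_c_rc_11_1 lc_c_rc_23_5 lc_c_rc_13_0 lc_c_rc_23_0 lc_c_rc_13_2 lc_c_rc_11_1 lc_c_rc_23_0 lc_c_rc_11_1 lc_c_rc_23_5 lc_c_rc_26_4 lc_c_rc_13_2 lc_c_rc_26_10 lc_c_rc_11_1 lc_c_rc_22_5 lc_c_rc_7_5 lc_c_rc_7_1 lc_c_rc_11_1 lc_c_rc_11_1 lc_c_rc_7_3 lc_c_rc_11_1 lc_c_rc_14_2 lc_c_rc_24_4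 lc_c_rc_14_2 lc_c_rc_11_1 lc_c_rc_13_2 lc_c_rc_24_2 lc_c_rc_11_1 lc_c_rc_26_2 lc_c_rc_11_1 lc_c_rc_7_5 lc_c_rc_11_1 lc_c_rc_24_4 lc_c_rc_23_0 lc_c_rc_13_2 lc_c_rc_24_6 lc_c_rc_22_3 lc_c_rc_13_2 lc_c_rc_23_5 lc_c_rc_11_1 lc_c_rc_24_2 lc_c_rc_11_1) (@D3.rec (fun _ => (Cert rels S Gen.c)) lc_c_rc_26_2 lc_c_rc_13_2 lc_c_rc_11_1 lc_c_rc_13_2 lc_c_rc_24_4 lc_c_rc_7_1 lc_c_rc_13_2 lc_c_rc_24_4 lc_c_rc_26_2 lc_c_rc_23_0 lc_c_rc_2_3 lc_c_rc_7_3 lc_c_rc_14_2 lc_c_rc_22_7 lc_c_rc_11_1 lc_c_rc_22_3 lc_c_rc_13_2 lc_c_rc_11_1 lc_c_rc_26_4 lc_c_rc_11_1 lc_c_rc_11_1 lc_c_rc_13_2 lc_c_rc_11_1 lc_c_rc_24_6 lc_c_rc_22_5 lc_c_rc_11_1 lc_c_rc_14_0 lc_c_rc_24_4 lc_c_rc_14_2 lc_c_rc_13_2 lc_c_rc_13_0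 lc_c_rc_22_7 lc_c_rc_26_8 lc_c_rc_14_2 lc_c_rc_26_4 lc_c_rc_26_8 lc_c_rc_11_1 lc_c_rc_26_10 lc_c_rc_11_1 lc_c_rc_13_2 lc_c_rc_24_6 lc_c_rc_11_1 lc_c_rc_22_5 lc_c_rc_13_2 lc_c_rc_24_2 lc_c_rc_13_0 lc_c_rc_11_1 lc_c_rc_13_0 lc_c_rc_11_1 lc_c_rc_26_10 lc_c_rc_26_2 lc_c_rc_13_2 lc_c_rc_24_2 lc_c_rc_2_3 lc_c_rc_14_2 lc_c_rc_11_1 lc_c_Cert_tree lc_c_rc_25_13 lc_c_rc_11_1 lc_c_rc_23_0 lc_c_rc_24_8 lc_c_rc_14_2) (@D3.rec (fun _ => (Cert rels S Gen.c)) lc_c_rc_11_1 lc_c_rc_24_8 lc_c_rc_24_4 lc_c_rc_24_4 lc_c_rc_22_7 lc_c_rc_13_2 lc_c_rc_26_2 lc_c_rc_24_2 lc_c_rc_14_2 lc_c_rc_7_3 lc_c_rc_23_0 lc_c_rc_22_5 lc_c_rc_2_3 lc_c_Cert_tree lc_c_rc_24_8 lc_c_rc_2_3 lc_c_rc_2_3 lc_c_rc_14_2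 lc_c_rc_25_5 lc_c_rc_26_8 lc_c_rc_26_10 lc_c_rc_22_5 lc_c_rc_26_2 lc_c_rc_13_2 lc_c_rc_24_6 lc_c_rc_13_2 lc_c_rc_7_5 lc_c_rc_13_2 lc_c_rc_14_2 lc_c_rc_13_2 lc_c_rc_26_8 lc_c_rc_26_8 lc_c_rc_11_1 lc_c_rc_26_10 lc_c_rc_26_8 lc_c_rc_11_1 lc_c_rc_24_2 lc_c_rc_26_4 lc_c_rc_13_2 lc_c_rc_26_4 lc_c_rc_26_8 lc_c_rc_11_1 lc_c_rc_24_6 lc_c_rc_11_1 lc_c_rc_7_3 lc_c_rc_7_3 lc_c_rc_11_1 lc_c_rc_11_1 lc_c_rc_14_2 lc_c_rc_11_1 lc_c_rc_23_5 lc_c_rc_24_8 lc_c_rc_7_1 lc_c_rc_14_2 lc_c_rc_13_2 lc_c_rc_13_2 lc_c_rc_11_1 lc_c_rc_13_0 lc_c_rc_22_7 lc_c_rc_14_2 lc_c_rc_26_2 lc_c_rc_7_3) (@D3.rec (fun _ => (Cert rels S Gen.c)) lc_c_rc_13_2 lc_c_rc_24_2 lc_c_rc_24_2 lc_c_rc_23_5 lc_c_rc_11_1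 lc_c_rc_24_6 lc_c_rc_11_1 lc_c_rc_26_8 lc_c_rc_11_1 lc_c_rc_7_5 lc_c_rc_11_1 lc_c_rc_13_2 lc_c_rc_11_1 lc_c_rc_7_3 lc_c_rc_11_1 lc_c_rc_13_2 lc_c_rc_11_1 lc_c_rc_23_0 lc_c_rc_7_3 lc_c_rc_13_0 lc_c_rc_14_2 lc_c_rc_26_4 lc_c_rc_11_1 lc_c_rc_24_2 lc_c_rc_13_2 lc_c_rc_11_1 lc_c_rc_11_1 lc_c_rc_23_0 lc_c_rc_7_3 lc_c_Cert_tree lc_c_rc_14_2 lc_c_rc_13_2 lc_c_Cert_tree lc_c_Cert_tree lc_c_rc_13_2 lc_c_rc_7_5 lc_c_rc_11_1 lc_c_rc_7_3 lc_c_rc_7_3 lc_c_rc_14_2 lc_c_rc_13_2 lc_c_rc_11_1 lc_c_rc_11_1 lc_c_rc_11_1 lc_c_rc_26_10 lc_c_rc_2_1 lc_c_rc_13_2 lc_c_rc_23_0 lc_c_rc_14_2 lc_c_rc_13_2 lc_c_rc_23_5 lc_c_rc_11_1 lc_c_rc_11_1 lc_c_rc_11_1 lc_c_rc_2_3 lc_c_rc_26_4 lc_c_rc_11_1 lc_c_rc_22_5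 lc_c_rc_11_1 lc_c_rc_11_1 lc_c_rc_7_3 lc_c_Cert_tree) (@D3.rec (fun _ => (Cert rels S Gen.c)) lc_c_rc_11_1 lc_c_rc_11_1 lc_c_rc_11_1 lc_c_rc_24_6 lc_c_rc_7_1 lc_c_rc_14_2 lc_c_rc_11_1 lc_c_rc_13_2 lc_c_rc_24_4 lc_c_rc_11_1 lc_c_rc_14_2 lc_c_rc_13_2 lc_c_rc_11_1 lc_c_rc_24_4 lc_c_rc_24_6 lc_c_rc_24_6 lc_c_rc_13_0 lc_c_rc_11_1 lc_c_rc_13_0 lc_c_rc_25_1 lc_c_rc_11_1 lc_c_rc_14_2 lc_c_rc_13_0 lc_c_rc_26_4 lc_c_rc_2_3 lc_c_rc_26_10 lc_c_Cert_tree lc_c_rc_11_1 lc_c_rc_26_2 lc_c_rc_26_4 lc_c_rc_11_1 lc_c_rc_7_5 lc_c_rc_24_4 lc_c_rc_13_2 lc_c_rc_22_9 lc_c_rc_14_2 lc_c_rc_11_1 lc_c_rc_7_3 lc_c_rc_11_1 lc_c_rc_13_2 lc_c_rc_11_1 lc_c_rc_2_3 lc_c_rc_13_2 lc_c_rc_7_1 lc_c_rc_13_2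 lc_c_rc_13_0 lc_c_rc_14_2 lc_c_rc_2_3 lc_c_rc_2_1 lc_c_rc_13_2 lc_c_rc_22_5 lc_c_rc_25_17 lc_c_rc_22_3 lc_c_rc_13_2 lc_c_rc_2_1 lc_c_rc_23_5 lc_c_rc_26_2 lc_c_rc_2_3 lc_c_rc_13_2 lc_c_rc_26_2 lc_c_rc_11_1 lc_c_rc_23_5) (@D3.rec (fun _ => (Cert rels S Gen.c)) lc_c_rc_2_3 lc_c_rc_14_2 lc_c_rc_2_1 lc_c_rc_11_1 lc_c_rc_12_4 lc_c_rc_13_2 lc_c_rc_11_1 lc_c_rc_13_2 lc_c_rc_7_5 lc_c_rc_24_2 lc_c_rc_14_2 lc_c_rc_11_1 lc_c_rc_13_2 lc_c_rc_7_3 lc_c_rc_22_5 lc_c_rc_26_8 lc_c_rc_25_5 lc_c_rc_11_1 lc_c_Cert_tree lc_c_rc_14_0 lc_c_rc_23_5 lc_c_rc_26_4 lc_c_rc_23_0 lc_c_rc_11_1 lc_c_Cert_tree lc_c_rc_11_1 lc_c_rc_25_1 lc_c_rc_14_2 lc_c_rc_26_4 lc_c_rc_11_1 lc_c_rc_14_2 lc_c_rc_13_2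 lc_c_rc_24_2 lc_c_rc_11_1 lc_c_rc_11_1 lc_c_rc_13_2 lc_c_rc_22_7 lc_c_rc_23_0 lc_c_rc_26_10 lc_c_rc_13_2 lc_c_rc_24_6 lc_c_rc_2_3 lc_c_rc_26_4 lc_c_rc_11_1 lc_c_rc_13_2 lc_c_rc_26_10 lc_c_rc_11_1 lc_c_rc_13_2 lc_c_rc_24_2 lc_c_rc_7_5 lc_c_rc_22_3 lc_c_rc_26_4 lc_c_rc_13_2 lc_c_rc_7_5 lc_c_rc_26_10 lc_c_rc_13_2 lc_c_rc_13_2 lc_c_rc_7_3 lc_c_rc_11_1 lc_c_rc_24_4 lc_c_rc_22_9 lc_c_rc_7_3) (@D3.rec (fun _ => (Cert rels S Gen.c)) lc_c_rc_13_2 lc_c_rc_23_0 lc_c_rc_24_2 lc_c_rc_14_2 lc_c_rc_26_4 lc_c_rc_13_2 lc_c_rc_26_2 lc_c_rc_7_5 lc_c_rc_11_1 lc_c_rc_26_2 lc_c_rc_14_2 lc_c_rc_7_5 lc_c_rc_23_0 lc_c_rc_13_2 lc_c_rc_13_2 lc_c_rc_13_2 lc_c_rc_13_2 lc_c_rc_11_1 lc_c_rc_24_6 lc_c_rc_22_5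 lc_c_rc_22_9 lc_c_rc_13_2 lc_c_rc_2_3 lc_c_rc_14_2 lc_c_rc_11_1 lc_c_rc_11_1 lc_c_rc_13_2 lc_c_Cert_tree lc_c_rc_11_1 lc_c_rc_24_2 lc_c_rc_24_2 lc_c_rc_23_5 lc_c_rc_13_0 lc_c_rc_7_3 lc_c_rc_11_1 lc_c_rc_26_2 lc_c_rc_24_6 lc_c_rc_22_3 lc_c_rc_14_2 lc_c_rc_13_2 lc_c_rc_25_1 lc_c_rc_14_2 lc_c_rc_11_1 lc_c_rc_26_2 lc_c_rc_24_6 lc_c_rc_11_1 lc_c_rc_11_1 lc_c_rc_26_10 lc_c_rc_26_4 lc_c_rc_11_1 lc_c_rc_13_0 lc_c_rc_13_2 lc_c_Cert_tree lc_c_rc_11_1 lc_c_rc_25_9 lc_c_rc_2_3 lc_c_rc_11_1 lc_c_rc_11_1 lc_c_rc_13_0 lc_c_rc_7_5 lc_c_rc_7_1 lc_c_rc_13_2) (@D3.rec (fun _ => (Cert rels S Gen.c)) lc_c_rc_23_5 lc_c_rc_13_2 lc_c_rc_26_2 lc_c_rc_11_1 lc_c_rc_22_5 lc_c_rc_14_2 lc_c_rc_13_2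 lc_c_rc_2_3 lc_c_rc_11_1 lc_c_rc_13_0 lc_c_rc_22_5 lc_c_rc_11_1 lc_c_rc_12_2 lc_c_rc_25_5 lc_c_rc_13_2 lc_c_rc_13_2 lc_c_rc_26_10 lc_c_rc_24_4 lc_c_rc_26_2 lc_c_rc_13_2 lc_c_rc_25_5 lc_c_rc_24_4 lc_c_rc_13_2 lc_c_rc_26_10 lc_c_rc_26_4 lc_c_rc_11_1 lc_c_rc_26_8 lc_c_rc_22_5 lc_c_rc_11_1 lc_c_rc_22_7 lc_c_rc_14_2 lc_c_rc_7_1 lc_c_rc_22_3 lc_c_rc_24_4 lc_c_rc_22_3 lc_c_rc_7_5 lc_c_rc_14_2 lc_c_rc_11_1 lc_c_rc_13_2 lc_c_rc_11_1 lc_c_rc_13_2 lc_c_rc_11_1 lc_c_rc_13_2 lc_c_rc_11_1 lc_c_rc_13_2 lc_c_rc_12_2 lc_c_rc_14_2 lc_c_rc_11_1 lc_c_rc_22_3 lc_c_rc_26_4 lc_c_rc_13_2 lc_c_rc_26_4 lc_c_rc_11_1 lc_c_rc_22_5 lc_c_rc_24_6 lc_c_rc_24_6 lc_c_rc_23_0 lc_c_rc_7_3 lc_c_Cert_tree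 lc_c_Cert_tree lc_c_Cert_tree lc_c_rc_23_5) (@D3.rec (fun _ => (Cert rels S Gen.c)) lc_c_rc_26_8 lc_c_Cert_tree lc_c_rc_11_1 lc_c_rc_13_2 lc_c_rc_24_2 lc_c_rc_22_7 lc_c_rc_11_1 lc_c_rc_26_2 lc_c_rc_11_1 lc_c_rc_2_3 lc_c_rc_24_4 lc_c_rc_26_2 lc_c_rc_22_5 lc_c_rc_11_1 lc_c_rc_11_1 lc_c_Cert_tree lc_c_rc_13_2 lc_c_Cert_tree lc_c_rc_11_1 lc_c_rc_23_0 lc_c_rc_22_9 lc_c_rc_13_2 lc_c_rc_23_5 lc_c_rc_22_3 lc_c_rc_23_5 lc_c_rc_13_2 lc_c_rc_25_5 lc_c_rc_14_2 lc_c_rc_26_2 lc_c_rc_13_2 lc_c_rc_22_5 lc_c_rc_7_5 lc_c_rc_24_2 lc_c_rc_11_1 lc_c_rc_26_4 lc_c_rc_2_3 lc_c_rc_13_2 lc_c_rc_7_3 lc_c_rc_13_2 lc_c_rc_13_0 lc_c_rc_7_3 lc_c_rc_13_2 lc_c_rc_24_6 lc_c_rc_14_2 lc_c_rc_24_8 lc_c_rc_11_1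 lc_c_rc_13_2 lc_c_rc_13_2 lc_c_rc_11_1 lc_c_rc_22_5 lc_c_rc_11_1 lc_c_rc_26_2 lc_c_rc_26_2 lc_c_rc_26_2 lc_c_rc_13_2 lc_c_rc_11_1 lc_c_rc_7_3 lc_c_rc_7_5 lc_c_rc_13_2 lc_c_Cert_tree lc_c_Cert_tree lc_c_rc_22_7) (@D3.rec (fun _ => (Cert rels S Gen.c)) lc_c_rc_26_10 lc_c_rc_22_3 lc_c_rc_12_0 lc_c_rc_2_3 lc_c_rc_14_2 lc_c_rc_11_1 lc_c_rc_13_2 lc_c_rc_22_7 lc_c_rc_22_9 lc_c_rc_13_2 lc_c_rc_11_1 lc_c_rc_23_5 lc_c_rc_11_1 lc_c_rc_26_4 lc_c_rc_11_1 lc_c_rc_7_5 lc_c_rc_11_1 lc_c_rc_11_1 lc_c_rc_11_1 lc_c_rc_7_3 lc_c_rc_23_5 lc_c_rc_25_1 lc_c_rc_26_10 lc_c_rc_22_9 lc_c_rc_7_3 lc_c_rc_11_1 lc_c_rc_2_3 lc_c_rc_14_2 lc_c_rc_11_1 lc_c_rc_7_5 lc_c_rc_13_2 lc_c_rc_7_5 lc_c_rc_2_1 lc_c_rc_11_1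 lc_c_rc_25_17 lc_c_rc_12_2 lc_c_rc_13_2 lc_c_rc_2_3 lc_c_Cert_tree lc_c_rc_7_5 lc_c_rc_11_1 lc_c_rc_13_2 lc_c_rc_11_1 lc_c_rc_24_4 lc_c_rc_7_1 lc_c_rc_23_0 lc_c_rc_13_2 lc_c_rc_26_4 lc_c_rc_2_3 lc_c_rc_13_2 lc_c_rc_2_3 lc_c_rc_22_5 lc_c_rc_22_3 lc_c_rc_7_1 lc_c_rc_22_3 lc_c_rc_24_2 lc_c_rc_23_0 lc_c_rc_22_3 lc_c_rc_12_14 lc_c_rc_11_1 lc_c_rc_11_1 lc_c_rc_13_2) (@D3.rec (fun _ => (Cert rels S Gen.c)) lc_c_rc_26_8 lc_c_rc_11_1 lc_c_rc_22_3 lc_c_rc_14_2 lc_c_rc_26_10 lc_c_rc_2_3 lc_c_rc_13_2 lc_c_Cert_tree lc_c_rc_11_1 lc_c_rc_14_2 lc_c_rc_25_13 lc_c_Cert_tree lc_c_Cert_tree lc_c_rc_11_1 lc_c_rc_26_10 lc_c_Cert_tree lc_c_rc_11_1 lc_c_rc_14_2 lc_c_rc_23_0 lc_c_rc_2_3 lc_c_rc_13_2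 lc_c_rc_24_4 lc_c_rc_24_2 lc_c_rc_13_0 lc_c_rc_11_1 lc_c_rc_11_1 lc_c_rc_24_6 lc_c_rc_11_1 lc_c_rc_13_2 lc_c_rc_24_4 lc_c_rc_26_2 lc_c_rc_26_2 lc_c_rc_13_2 lc_c_rc_12_0 lc_c_rc_23_0 lc_c_rc_11_1 lc_c_rc_13_2 lc_c_rc_24_6 lc_c_rc_26_4 lc_c_rc_13_2 lc_c_rc_13_2 lc_c_rc_11_1 lc_c_rc_22_7 lc_c_rc_11_1 lc_c_rc_13_2 lc_c_rc_11_1 lc_c_rc_11_1 lc_c_rc_7_3 lc_c_rc_7_5 lc_c_rc_7_3 lc_c_rc_11_1 lc_c_rc_22_3 lc_c_rc_14_2 lc_c_rc_13_2 lc_c_rc_2_3 lc_c_rc_7_5 lc_c_rc_2_3 lc_c_rc_23_0 lc_c_rc_24_2 lc_c_rc_23_0 lc_c_rc_22_7 lc_c_rc_7_3) (@D3.rec (fun _ => (Cert rels S Gen.c)) lc_c_rc_25_13 lc_c_rc_22_3 lc_c_rc_11_1 lc_c_rc_26_10 lc_c_rc_11_1 lc_c_rc_13_2 lc_c_rc_26_4 lc_c_rc_11_1 lc_c_rc_2_1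 lc_c_rc_7_3 lc_c_rc_22_5 lc_c_rc_13_2 lc_c_rc_26_10 lc_c_rc_7_5 lc_c_rc_14_2 lc_c_rc_24_4 lc_c_rc_24_4 lc_c_rc_2_1 lc_c_rc_26_4 lc_c_rc_13_2 lc_c_rc_14_2 lc_c_rc_23_5 lc_c_rc_22_3 lc_c_rc_26_2 lc_c_rc_24_8 lc_c_rc_7_3 lc_c_rc_11_1 lc_c_rc_7_3 lc_c_rc_11_1 lc_c_rc_7_1 lc_c_rc_22_3 lc_c_rc_13_2 lc_c_rc_13_2 lc_c_rc_7_1 lc_c_rc_11_1 lc_c_rc_13_2 lc_c_rc_11_1 lc_c_rc_24_6 lc_c_rc_14_2 lc_c_rc_26_4 lc_c_rc_22_5 lc_c_rc_7_1 lc_c_rc_25_17 lc_c_rc_13_2 lc_c_rc_22_3 lc_c_Cert_tree lc_c_rc_11_1 lc_c_rc_22_3 lc_c_rc_24_6 lc_c_rc_11_1 lc_c_rc_13_2 lc_c_Cert_tree lc_c_rc_11_1 lc_c_rc_26_10 lc_c_rc_22_3 lc_c_rc_7_5 lc_c_rc_22_3 lc_c_rc_13_2 lc_c_rc_25_1 lc_c_rc_7_5 lc_c_rc_12_2 lc_c_rc_13_2)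 (@D3.rec (fun _ => (Cert rels S Gen.c)) lc_c_rc_7_1 lc_c_rc_23_5 lc_c_rc_13_2 lc_c_rc_11_1 lc_c_rc_24_8 lc_c_rc_24_2 lc_c_rc_26_4 lc_c_rc_2_3 lc_c_rc_22_9 lc_c_rc_24_2 lc_c_rc_11_1 lc_c_rc_14_2 lc_c_rc_26_4 lc_c_rc_7_3 lc_c_rc_11_1 lc_c_rc_14_2 lc_c_Cert_tree lc_c_rc_11_1 lc_c_rc_23_5 lc_c_rc_11_1 lc_c_rc_13_2 lc_c_rc_26_8 lc_c_rc_7_3 lc_c_rc_11_1 lc_c_rc_24_8 lc_c_rc_26_10 lc_c_rc_14_2 lc_c_rc_13_2 lc_c_rc_26_8 lc_c_rc_11_1 lc_c_rc_22_5 lc_c_rc_13_2 lc_c_rc_11_1 lc_c_rc_14_2 lc_c_rc_13_2 lc_c_rc_24_8 lc_c_rc_24_8 lc_c_rc_22_9 lc_c_rc_14_2 lc_c_rc_26_2 lc_c_rc_11_1 lc_c_rc_14_0 lc_c_rc_2_3 lc_c_rc_7_3 lc_c_rc_13_2 lc_c_rc_26_4 lc_c_rc_11_1 lc_c_rc_11_1 lc_c_rc_13_2 lc_c_rc_13_2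 lc_c_rc_24_2 lc_c_rc_26_2 lc_c_rc_26_4 lc_c_rc_11_1 lc_c_rc_24_8 lc_c_rc_24_2 lc_c_rc_11_1 lc_c_rc_14_2 lc_c_rc_13_2 lc_c_rc_13_2 lc_c_rc_11_1 lc_c_rc_7_3) (@D3.rec (fun _ => (Cert rels S Gen.c)) lc_c_rc_22_9 lc_c_rc_13_2 lc_c_rc_13_2 lc_c_rc_13_2 lc_c_rc_24_2 lc_c_rc_12_2 lc_c_rc_13_2 lc_c_rc_11_1 lc_c_rc_13_2 lc_c_rc_26_10 lc_c_rc_11_1 lc_c_rc_14_0 lc_c_rc_13_2 lc_c_rc_26_8 lc_c_rc_11_1 lc_c_rc_11_1 lc_c_rc_7_5 lc_c_rc_13_2 lc_c_rc_11_1 lc_c_rc_2_1 lc_c_rc_7_3 lc_c_rc_13_2 lc_c_rc_14_2 lc_c_rc_26_10 lc_c_rc_13_2 lc_c_rc_23_5 lc_c_rc_12_0 lc_c_rc_26_10 lc_c_rc_22_3 lc_c_rc_13_2 lc_c_rc_26_4 lc_c_rc_13_0 lc_c_rc_7_5 lc_c_rc_23_0 lc_c_rc_14_0 lc_c_Cert_tree lc_c_Cert_tree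 lc_c_rc_7_1 lc_c_Cert_tree lc_c_rc_13_2 lc_c_rc_22_3 lc_c_rc_25_13 lc_c_rc_11_1 lc_c_rc_7_3 lc_c_rc_11_1 lc_c_rc_11_1 lc_c_rc_11_1 lc_c_rc_13_2 lc_c_rc_26_4 lc_c_rc_13_2 lc_c_rc_13_2 lc_c_Cert_tree lc_c_rc_13_2 lc_c_rc_26_2 lc_c_Cert_tree lc_c_rc_13_2 lc_c_rc_11_1 lc_c_rc_14_2 lc_c_rc_7_3 lc_c_rc_23_0 lc_c_rc_26_8 lc_c_rc_23_5) (@D3.rec (fun _ => (Cert rels S Gen.c)) lc_c_rc_13_2 lc_c_rc_22_9 lc_c_rc_13_2 lc_c_rc_13_2 lc_c_rc_7_3 lc_c_rc_11_1 lc_c_rc_24_6 lc_c_rc_22_7 lc_c_rc_11_1 lc_c_rc_7_3 lc_c_rc_13_2 lc_c_rc_7_5 lc_c_rc_14_2 lc_c_rc_13_2 lc_c_Cert_tree lc_c_rc_13_2 lc_c_rc_22_5 lc_c_rc_13_2 lc_c_rc_22_3 lc_c_rc_13_2 lc_c_Cert_tree lc_c_rc_14_2 lc_c_rc_13_2 lc_c_rc_11_1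 lc_c_rc_11_1 lc_c_rc_2_3 lc_c_rc_14_2 lc_c_rc_11_1 lc_c_rc_7_3 lc_c_rc_13_2 lc_c_rc_13_2 lc_c_rc_14_2 lc_c_Cert_tree lc_c_rc_13_2 lc_c_rc_13_2 lc_c_rc_11_1 lc_c_rc_13_2 lc_c_rc_7_5 lc_c_rc_26_4 lc_c_rc_26_8 lc_c_rc_23_0 lc_c_rc_13_2 lc_c_rc_26_2 lc_c_rc_7_3 lc_c_rc_23_5 lc_c_rc_23_5 lc_c_rc_23_0 lc_c_rc_24_4 lc_c_rc_11_1 lc_c_rc_11_1 lc_c_rc_22_5 lc_c_rc_26_10 lc_c_rc_23_5 lc_c_rc_13_2 lc_c_rc_7_1 lc_c_rc_23_5 lc_c_Cert_tree lc_c_rc_7_5 lc_c_rc_13_2 lc_c_rc_2_3 lc_c_rc_26_2 lc_c_rc_14_0) (@D3.rec (fun _ => (Cert rels S Gen.c)) lc_c_rc_13_2 lc_c_rc_11_1 lc_c_rc_22_7 lc_c_rc_14_2 lc_c_rc_11_1 lc_c_rc_13_2 lc_c_rc_23_0 lc_c_rc_11_1 lc_c_rc_13_2 lc_c_rc_13_2 lc_c_Cert_tree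 lc_c_rc_13_2 lc_c_rc_13_2 lc_c_rc_13_2 lc_c_rc_11_1 lc_c_rc_14_2 lc_c_rc_24_4 lc_c_Cert_tree lc_c_rc_2_3 lc_c_rc_26_10 lc_c_rc_26_8 lc_c_rc_22_3 lc_c_rc_24_2 lc_c_Cert_tree lc_c_rc_14_2 lc_c_rc_13_2 lc_c_rc_11_1 lc_c_rc_11_1 lc_c_rc_11_1 lc_c_Cert_tree lc_c_rc_13_2 lc_c_rc_13_2 lc_c_rc_2_3 lc_c_rc_11_1 lc_c_rc_2_1 lc_c_rc_7_3 lc_c_rc_11_1 lc_c_rc_13_2 lc_c_rc_11_1 lc_c_rc_24_8 lc_c_rc_7_5 lc_c_rc_26_8 lc_c_rc_11_1 lc_c_rc_24_2 lc_c_rc_11_1 lc_c_rc_7_5 lc_c_rc_11_1 lc_c_rc_24_2 lc_c_rc_23_0 lc_c_rc_26_10 lc_c_rc_11_1 lc_c_rc_13_2 lc_c_rc_24_2 lc_c_rc_23_0 lc_c_rc_7_3 lc_c_rc_24_2 lc_c_rc_22_3 lc_c_rc_11_1 lc_c_rc_11_1 lc_c_rc_22_3 lc_c_rc_13_2 lc_c_rc_13_2) (@D3.rec (fun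 _ => (Cert rels S Gen.c)) lc_c_Cert_tree lc_c_rc_7_5 lc_c_rc_2_3 lc_c_Cert_tree lc_c_rc_13_2 lc_c_rc_13_2 lc_c_rc_12_2 lc_c_rc_14_2 lc_c_rc_13_2 lc_c_rc_7_5 lc_c_rc_26_4 lc_c_rc_13_2 lc_c_rc_23_5 lc_c_rc_24_2 lc_c_rc_11_1 lc_c_rc_23_0 lc_c_Cert_tree lc_c_rc_13_2 lc_c_rc_24_4 lc_c_rc_11_1 lc_c_rc_14_2 lc_c_rc_26_8 lc_c_rc_14_2 lc_c_rc_14_0 lc_c_rc_13_0 lc_c_rc_2_1 lc_c_rc_2_3 lc_c_rc_11_1 lc_c_rc_11_1 lc_c_rc_7_3 lc_c_rc_24_4 lc_c_rc_24_4 lc_c_rc_2_3 lc_c_rc_2_3 lc_c_rc_22_9 lc_c_rc_13_2 lc_c_Cert_tree lc_c_rc_26_4 lc_c_rc_13_2 lc_c_rc_13_2 lc_c_rc_2_3 lc_c_rc_7_5 lc_c_rc_7_5 lc_c_rc_2_3 lc_c_rc_22_3 lc_c_rc_13_2 lc_c_rc_13_2 lc_c_rc_2_1 lc_c_rc_13_0 lc_c_rc_11_1 lc_c_rc_24_4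 lc_c_rc_14_2 lc_c_rc_2_1 lc_c_rc_11_1 lc_c_rc_14_2 lc_c_rc_7_1 lc_c_rc_11_1 lc_c_rc_22_3 lc_c_rc_13_2 lc_c_rc_2_1 lc_c_Cert_tree lc_c_Cert_tree) (@D3.rec (fun _ => (Cert rels S Gen.c)) lc_c_rc_11_1 lc_c_rc_7_3 lc_c_rc_13_2 lc_c_rc_24_6 lc_c_rc_11_1 lc_c_rc_13_2 lc_c_rc_24_2 lc_c_rc_2_3 lc_c_rc_13_2 lc_c_rc_23_0 lc_c_rc_11_1 lc_c_rc_2_3 lc_c_rc_13_2 lc_c_Cert_tree lc_c_rc_23_0 lc_c_rc_26_10 lc_c_rc_26_10 lc_c_rc_7_3 lc_c_rc_13_2 lc_c_rc_13_2 lc_c_rc_23_0 lc_c_rc_12_4 lc_c_rc_14_2 lc_c_rc_11_1 lc_c_rc_11_1 lc_c_rc_2_1 lc_c_rc_11_1 lc_c_rc_11_1 lc_c_rc_22_7 lc_c_rc_13_2 lc_c_rc_13_2 lc_c_Cert_tree lc_c_rc_14_2 lc_c_rc_12_2 lc_c_rc_2_3 lc_c_rc_11_1 lc_c_rc_13_2 lc_c_rc_13_2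 lc_c_rc_25_5 lc_c_rc_26_4 lc_c_rc_13_2 lc_c_rc_14_2 lc_c_rc_13_2 lc_c_rc_26_10 lc_c_rc_11_1 lc_c_Cert_tree lc_c_rc_7_3 lc_c_rc_26_4 lc_c_rc_13_2 lc_c_rc_23_0 lc_c_rc_22_5 lc_c_rc_13_0 lc_c_rc_13_0 lc_c_rc_13_2 lc_c_rc_26_8 lc_c_Cert_tree lc_c_rc_11_1 lc_c_rc_14_2 lc_c_rc_14_2 lc_c_rc_25_17 lc_c_rc_11_1 lc_c_rc_26_2) (@D3.rec (fun _ => (Cert rels S Gen.c)) lc_c_rc_14_2 lc_c_Cert_tree lc_c_rc_11_1 lc_c_rc_2_3 lc_c_rc_13_2 lc_c_rc_24_8 lc_c_rc_2_3 lc_c_rc_23_0 lc_c_rc_2_1 lc_c_rc_13_2 lc_c_rc_11_1 lc_c_rc_22_7 lc_c_rc_26_2 lc_c_rc_7_3 lc_c_rc_7_3 lc_c_rc_13_0 lc_c_Cert_tree lc_c_rc_11_1 lc_c_rc_24_2 lc_c_rc_23_0 lc_c_rc_26_4 lc_c_rc_14_2 lc_c_Cert_tree lc_c_rc_12_2 lc_c_Cert_tree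 lc_c_Cert_tree lc_c_rc_11_1 lc_c_rc_22_3 lc_c_rc_7_3 lc_c_rc_12_4 lc_c_Cert_tree lc_c_rc_11_1 lc_c_rc_2_3 lc_c_rc_13_2 lc_c_rc_23_5 lc_c_rc_26_4 lc_c_rc_13_2 lc_c_rc_24_6 lc_c_rc_13_2 lc_c_rc_2_3 lc_c_rc_11_1 lc_c_rc_13_2 lc_c_rc_13_2 lc_c_rc_24_6 lc_c_rc_23_0 lc_c_rc_13_2 lc_c_rc_23_5 lc_c_rc_11_1 lc_c_rc_24_8 lc_c_rc_13_2 lc_c_rc_26_4 lc_c_rc_22_7 lc_c_rc_25_5 lc_c_rc_22_3 lc_c_rc_11_1 lc_c_rc_7_3 lc_c_rc_24_6 lc_c_rc_11_1 lc_c_rc_22_3 lc_c_rc_7_3 lc_c_rc_24_4 lc_c_rc_24_8) (@D3.rec (fun _ => (Cert rels S Gen.c)) lc_c_rc_13_2 lc_c_rc_14_2 lc_c_rc_7_5 lc_c_rc_22_3 lc_c_rc_24_4 lc_c_rc_7_5 lc_c_rc_2_1 lc_c_rc_14_0 lc_c_rc_2_3 lc_c_rc_22_3 lc_c_rc_22_9 lc_c_rc_13_2 lc_c_rc_7_3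 lc_c_rc_22_3 lc_c_rc_11_1 lc_c_rc_25_5 lc_c_rc_23_0 lc_c_rc_7_5 lc_c_Cert_tree lc_c_rc_25_5 lc_c_rc_7_5 lc_c_rc_11_1 lc_c_rc_7_3 lc_c_Cert_tree lc_c_rc_24_6 lc_c_rc_24_8 lc_c_rc_13_2 lc_c_rc_14_2 lc_c_rc_26_4 lc_c_rc_22_5 lc_c_rc_7_5 lc_c_rc_25_5 lc_c_rc_13_2 lc_c_rc_22_3 lc_c_rc_13_2 lc_c_rc_24_4 lc_c_rc_22_5 lc_c_rc_11_1 lc_c_rc_26_2 lc_c_rc_11_1 lc_c_rc_26_4 lc_c_rc_26_2 lc_c_rc_14_2 lc_c_rc_11_1 lc_c_rc_13_2 lc_c_rc_14_2 lc_c_rc_23_0 lc_c_rc_23_0 lc_c_rc_22_9 lc_c_rc_11_1 lc_c_rc_13_2 lc_c_rc_11_1 lc_c_rc_2_3 lc_c_rc_11_1 lc_c_rc_13_2 lc_c_rc_24_6 lc_c_rc_7_3 lc_c_rc_11_1 lc_c_rc_7_3 lc_c_rc_22_5 lc_c_rc_23_5 lc_c_rc_12_0) (@D3.rec (fun _ => (Cert rels S Gen.c))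 lc_c_rc_26_10 lc_c_rc_23_0 lc_c_rc_13_2 lc_c_rc_14_2 lc_c_rc_2_1 lc_c_rc_11_1 lc_c_rc_22_7 lc_c_rc_13_2 lc_c_rc_12_0 lc_c_rc_2_3 lc_c_rc_12_2 lc_c_rc_7_1 lc_c_rc_25_5 lc_c_rc_13_2 lc_c_rc_7_5 lc_c_rc_14_2 lc_c_rc_13_2 lc_c_rc_22_9 lc_c_rc_23_5 lc_c_rc_7_3 lc_c_rc_13_2 lc_c_rc_24_4 lc_c_rc_11_1 lc_c_rc_24_8 lc_c_rc_11_1 lc_c_rc_7_3 lc_c_rc_7_5 lc_c_rc_13_2 lc_c_rc_11_1 lc_c_rc_11_1 lc_c_rc_13_2 lc_c_rc_11_1 lc_c_rc_22_3 lc_c_rc_13_2 lc_c_rc_11_1 lc_c_rc_13_2 lc_c_rc_26_4 lc_c_rc_11_1 lc_c_rc_14_2 lc_c_rc_24_4 lc_c_rc_13_2 lc_c_rc_22_3 lc_c_rc_24_2 lc_c_rc_11_1 lc_c_rc_7_5 lc_c_rc_13_2 lc_c_rc_11_1 lc_c_rc_25_1 lc_c_rc_26_2 lc_c_rc_13_2 lc_c_rc_24_4 lc_c_rc_22_5 lc_c_rc_14_2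 lc_c_rc_14_2 lc_c_rc_13_2 lc_c_rc_13_2 lc_c_rc_13_2 lc_c_rc_13_0 lc_c_rc_13_2 lc_c_rc_26_4 lc_c_rc_11_1 lc_c_rc_24_2) (@D3.rec (fun _ => (Cert rels S Gen.c)) lc_c_rc_7_3 lc_c_rc_13_2 lc_c_rc_24_8 lc_c_rc_7_3 lc_c_rc_7_3 lc_c_rc_26_8 lc_c_rc_11_1 lc_c_rc_11_1 lc_c_rc_26_8 lc_c_rc_11_1 lc_c_rc_11_1 lc_c_rc_14_2 lc_c_rc_11_1 lc_c_rc_2_1 lc_c_rc_7_5 lc_c_rc_14_2 lc_c_rc_11_1 lc_c_rc_26_4 lc_c_rc_7_1 lc_c_rc_24_6 lc_c_rc_11_1 lc_c_rc_11_1 lc_c_rc_26_10 lc_c_rc_13_2 lc_c_rc_11_1 lc_c_rc_22_5 lc_c_rc_14_0 lc_c_rc_2_1 lc_c_rc_11_1 lc_c_rc_11_1 lc_c_rc_13_0 lc_c_rc_13_2 lc_c_rc_22_3 lc_c_rc_11_1 lc_c_rc_22_3 lc_c_rc_22_9 lc_c_rc_24_8 lc_c_rc_11_1 lc_c_rc_11_1 lc_c_rc_25_5 lc_c_rc_13_2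 lc_c_rc_24_2 lc_c_rc_11_1 lc_c_rc_23_5 lc_c_rc_24_4 lc_c_rc_7_3 lc_c_rc_24_6 lc_c_rc_11_1 lc_c_rc_2_3 lc_c_rc_13_2 lc_c_rc_11_1 lc_c_rc_23_0 lc_c_rc_7_5 lc_c_rc_14_2 lc_c_rc_13_2 lc_c_rc_26_8 lc_c_rc_11_1 lc_c_rc_13_2 lc_c_rc_7_5 lc_c_rc_24_8 lc_c_rc_26_4 lc_c_rc_11_1) (@D3.rec (fun _ => (Cert rels S Gen.c)) lc_c_rc_13_2 lc_c_Cert_tree lc_c_rc_11_1 lc_c_rc_13_2 lc_c_rc_22_3 lc_c_rc_11_1 lc_c_rc_24_4 lc_c_rc_23_5 lc_c_rc_13_0 lc_c_rc_25_1 lc_c_Cert_tree lc_c_Cert_tree lc_c_rc_13_2 lc_c_Cert_tree lc_c_rc_13_2 lc_c_rc_13_2 lc_c_rc_14_2 lc_c_rc_13_2 lc_c_rc_14_0 lc_c_rc_2_3 lc_c_rc_7_5 lc_c_rc_2_3 lc_c_Cert_tree lc_c_rc_13_0 lc_c_rc_11_1 lc_c_rc_11_1 lc_c_rc_11_1 lc_c_rc_24_8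 lc_c_rc_14_0 lc_c_rc_23_0 lc_c_rc_23_0 lc_c_Cert_tree lc_c_rc_11_1 lc_c_rc_22_3 lc_c_rc_13_2 lc_c_rc_7_3 lc_c_rc_23_0 lc_c_rc_22_3 lc_c_rc_11_1 lc_c_rc_24_4 lc_c_rc_24_2 lc_c_rc_26_2 lc_c_rc_13_2 lc_c_rc_14_2 lc_c_rc_14_2 lc_c_rc_13_2 lc_c_rc_26_8 lc_c_rc_11_1 lc_c_rc_7_5 lc_c_rc_25_5 lc_c_rc_13_2 lc_c_rc_26_10 lc_c_rc_7_3 lc_c_rc_14_2 lc_c_rc_24_8 lc_c_rc_11_1 lc_c_rc_14_2 lc_c_rc_14_2 lc_c_rc_2_1 lc_c_rc_11_1 lc_c_Cert_tree lc_c_rc_26_2) (@D3.rec (fun _ => (Cert rels S Gen.c)) lc_c_rc_14_0 lc_c_rc_13_2 lc_c_rc_11_1 lc_c_rc_13_2 lc_c_rc_11_1 lc_c_rc_13_2 lc_c_rc_11_1 lc_c_Cert_tree lc_c_rc_11_1 lc_c_rc_13_2 lc_c_rc_24_4 lc_c_rc_11_1 lc_c_rc_13_0 lc_c_rc_13_2 lc_c_Cert_tree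 lc_c_Cert_tree lc_c_rc_14_2 lc_c_Cert_tree lc_c_rc_7_3 lc_c_Cert_tree lc_c_rc_23_5 lc_c_rc_11_1 lc_c_rc_14_0 lc_c_rc_11_1 lc_c_rc_11_1 lc_c_rc_11_1 lc_c_rc_24_6 lc_c_rc_14_0 lc_c_rc_11_1 lc_c_rc_13_2 lc_c_rc_24_6 lc_c_rc_26_2 lc_c_rc_11_1 lc_c_rc_13_2 lc_c_rc_11_1 lc_c_rc_13_2 lc_c_rc_11_1 lc_c_rc_26_10 lc_c_rc_24_6 lc_c_rc_7_3 lc_c_rc_22_7 lc_c_rc_13_2 lc_c_rc_7_5 lc_c_rc_12_0 lc_c_rc_22_3 lc_c_rc_23_5 lc_c_rc_11_1 lc_c_rc_11_1 lc_c_rc_7_1 lc_c_rc_11_1 lc_c_rc_13_2 lc_c_rc_13_0 lc_c_rc_13_2 lc_c_rc_26_4 lc_c_rc_11_1 lc_c_rc_13_2 lc_c_rc_13_0 lc_c_rc_7_3 lc_c_rc_2_3 lc_c_rc_7_5 lc_c_rc_24_4 lc_c_rc_13_2) (@D3.rec (fun _ => (Cert rels S Gen.c)) lc_c_rc_7_3 lc_c_rc_24_4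 lc_c_rc_13_2 lc_c_rc_22_3 lc_c_rc_2_3 lc_c_rc_22_3 lc_c_rc_13_2 lc_c_rc_22_7 lc_c_rc_11_1 lc_c_rc_22_7 lc_c_rc_22_3 lc_c_rc_13_0 lc_c_rc_14_2 lc_c_rc_13_2 lc_c_rc_11_1 lc_c_rc_22_9 lc_c_rc_2_3 lc_c_rc_26_10 lc_c_rc_7_3 lc_c_rc_11_1 lc_c_rc_26_8 lc_c_rc_11_1 lc_c_rc_26_4 lc_c_rc_26_8 lc_c_rc_11_1 lc_c_rc_13_2 lc_c_rc_2_1 lc_c_rc_2_3 lc_c_rc_11_1 lc_c_rc_13_2 lc_c_rc_11_1 lc_c_rc_22_3 lc_c_rc_23_0 lc_c_rc_23_5 lc_c_rc_26_10 lc_c_rc_14_2 lc_c_rc_22_3 lc_c_Cert_tree lc_c_rc_13_2 lc_c_Cert_tree lc_c_Cert_tree lc_c_rc_13_2 lc_c_rc_23_0 lc_c_rc_23_0 lc_c_rc_24_8 lc_c_Cert_tree lc_c_rc_12_14 lc_c_rc_24_2 lc_c_rc_11_1 lc_c_rc_11_1 lc_c_rc_11_1 lc_c_rc_11_1 lc_c_Cert_tree lc_c_rc_7_5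 lc_c_rc_23_5 lc_c_rc_2_3 lc_c_rc_23_5 lc_c_Cert_tree lc_c_rc_24_8 lc_c_rc_26_8 lc_c_rc_26_8 lc_c_rc_12_0) (@D3.rec (fun _ => (Cert rels S Gen.c)) lc_c_rc_23_0 lc_c_rc_11_1 lc_c_rc_22_3 lc_c_rc_11_1 lc_c_rc_14_2 lc_c_rc_13_2 lc_c_rc_22_5 lc_c_rc_12_2 lc_c_rc_11_1 lc_c_rc_11_1 lc_c_rc_11_1 lc_c_rc_11_1 lc_c_rc_24_6 lc_c_rc_24_6 lc_c_rc_7_3 lc_c_rc_22_5 lc_c_rc_2_3 lc_c_rc_26_2 lc_c_rc_23_5 lc_c_rc_22_7 lc_c_rc_14_2 lc_c_rc_11_1 lc_c_rc_13_2 lc_c_rc_11_1 lc_c_rc_23_5 lc_c_rc_13_2 lc_c_rc_13_2 lc_c_rc_23_0 lc_c_rc_14_2 lc_c_Cert_tree lc_c_rc_7_5 lc_c_rc_7_1 lc_c_rc_22_5 lc_c_rc_14_2 lc_c_rc_11_1 lc_c_Cert_tree lc_c_rc_24_6 lc_c_rc_11_1 lc_c_rc_13_2 lc_c_rc_26_8 lc_c_rc_7_3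 lc_c_rc_7_3 lc_c_rc_23_5 lc_c_rc_11_1 lc_c_rc_23_5 lc_c_rc_24_8 lc_c_rc_24_8 lc_c_rc_7_5 lc_c_rc_11_1 lc_c_rc_26_2 lc_c_rc_13_2 lc_c_rc_26_10 lc_c_rc_2_3 lc_c_Cert_tree lc_c_rc_11_1 lc_c_rc_22_3 lc_c_rc_24_2 lc_c_rc_26_4 lc_c_rc_11_1 lc_c_rc_23_5 lc_c_rc_7_3 lc_c_rc_26_10) (@D3.rec (fun _ => (Cert rels S Gen.c)) lc_c_Cert_tree lc_c_rc_11_1 lc_c_rc_23_5 lc_c_rc_2_3 lc_c_rc_14_0 lc_c_rc_26_10 lc_c_rc_11_1 lc_c_rc_11_1 lc_c_rc_26_8 lc_c_rc_26_10 lc_c_rc_7_3 lc_c_Cert_tree lc_c_rc_22_5 lc_c_rc_26_2 lc_c_rc_13_0 lc_c_rc_11_1 lc_c_rc_22_7 lc_c_rc_11_1 lc_c_rc_11_1 lc_c_rc_26_8 lc_c_rc_11_1 lc_c_rc_13_2 lc_c_rc_7_3 lc_c_Cert_tree lc_c_rc_14_0 lc_c_rc_14_2 lc_c_rc_7_3 lc_c_rc_2_3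 lc_c_rc_7_5 lc_c_rc_23_0 lc_c_rc_2_3 lc_c_rc_26_4 lc_c_rc_13_2 lc_c_rc_11_1 lc_c_rc_7_3 lc_c_rc_22_3 lc_c_rc_13_0 lc_c_rc_13_2 lc_c_rc_11_1 lc_c_rc_2_1 lc_c_rc_11_1 lc_c_rc_13_2 lc_c_rc_22_3 lc_c_rc_24_4 lc_c_rc_11_1 lc_c_rc_11_1 lc_c_rc_11_1 lc_c_rc_2_3 lc_c_rc_11_1 lc_c_rc_11_1 lc_c_rc_23_5 lc_c_rc_23_0 lc_c_rc_11_1 lc_c_rc_7_3 lc_c_rc_13_2 lc_c_rc_24_8 lc_c_rc_26_10 lc_c_rc_11_1 lc_c_rc_23_0 lc_c_rc_11_1 lc_c_rc_23_0 lc_c_rc_11_1) (@D3.rec (fun _ => (Cert rels S Gen.c)) lc_c_rc_26_4 lc_c_rc_11_1 lc_c_rc_13_2 lc_c_rc_2_1 lc_c_rc_13_0 lc_c_rc_25_1 lc_c_rc_11_1 lc_c_rc_2_3 lc_c_rc_11_1 lc_c_rc_13_2 lc_c_rc_13_0 lc_c_rc_24_8 lc_c_rc_14_2 lc_c_rc_26_2 lc_c_rc_11_1 lc_c_rc_24_8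 lc_c_rc_24_4 lc_c_rc_26_4 lc_c_rc_11_1 lc_c_rc_13_2 lc_c_rc_24_4 lc_c_rc_7_3 lc_c_rc_24_4 lc_c_rc_26_8 lc_c_rc_13_2 lc_c_rc_11_1 lc_c_rc_13_0 lc_c_rc_14_2 lc_c_rc_11_1 lc_c_rc_23_0 lc_c_Cert_tree lc_c_rc_11_1 lc_c_rc_14_2 lc_c_rc_7_3 lc_c_rc_22_5 lc_c_rc_13_2 lc_c_rc_26_2 lc_c_rc_13_2 lc_c_rc_13_2 lc_c_rc_11_1 lc_c_rc_13_2 lc_c_rc_13_2 lc_c_rc_13_2 lc_c_rc_13_2 lc_c_rc_23_5 lc_c_rc_22_3 lc_c_rc_11_1 lc_c_rc_13_0 lc_c_rc_14_2 lc_c_rc_13_2 lc_c_rc_25_17 lc_c_rc_14_2 lc_c_rc_24_8 lc_c_rc_11_1 lc_c_rc_26_2 lc_c_rc_13_0 lc_c_rc_14_2 lc_c_rc_11_1 lc_c_rc_13_2 lc_c_Cert_tree lc_c_rc_14_2 lc_c_Cert_tree)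
def ce_c_25 : D2 → D3 → (Cert rels S Gen.c) := @D2.rec (fun _ => D3 → (Cert rels S Gen.c)) (@D3.rec (fun _ => (Cert rels S Gen.c)) lc_c_rc_11_1 lc_c_rc_24_6 lc_c_rc_11_1 lc_c_rc_11_1 lc_c_rc_11_1 lc_c_rc_11_1 lc_c_rc_14_2 lc_c_rc_7_5 lc_c_rc_11_1 lc_c_rc_26_4 lc_c_rc_25_9 lc_c_rc_7_3 lc_c_rc_24_8 lc_c_rc_13_2 lc_c_rc_26_10 lc_c_rc_11_1 lc_c_rc_7_3 lc_c_rc_13_2 lc_c_Cert_tree lc_c_rc_24_2 lc_c_Cert_tree lc_c_Cert_tree lc_c_rc_11_1 lc_c_rc_13_2 lc_c_rc_22_5 lc_c_rc_22_5 lc_c_rc_14_2 lc_c_rc_11_1 lc_c_rc_11_1 lc_c_rc_11_1 lc_c_rc_11_1 lc_c_rc_23_5 lc_c_rc_26_4 lc_c_rc_2_1 lc_c_rc_7_3 lc_c_Cert_tree lc_c_rc_12_2 lc_c_rc_14_2 lc_c_rc_11_1 lc_c_Cert_tree lc_c_rc_7_5 lc_c_Cert_tree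 lc_c_rc_24_8 lc_c_rc_11_1 lc_c_rc_22_3 lc_c_Cert_tree lc_c_rc_13_2 lc_c_rc_26_8 lc_c_rc_13_2 lc_c_rc_22_9 lc_c_rc_26_10 lc_c_rc_24_2 lc_c_rc_11_1 lc_c_rc_22_9 lc_c_rc_26_4 lc_c_rc_11_1 lc_c_rc_2_3 lc_c_rc_11_1 lc_c_rc_14_2 lc_c_rc_2_3 lc_c_rc_7_3 lc_c_rc_26_4) (@D3.rec (fun _ => (Cert rels S Gen.c)) lc_c_rc_23_5 lc_c_rc_11_1 lc_c_rc_7_1 lc_c_rc_22_3 lc_c_rc_13_2 lc_c_rc_14_2 lc_c_rc_24_6 lc_c_rc_24_8 lc_c_rc_7_1 lc_c_rc_23_0 lc_c_rc_14_2 lc_c_rc_13_2 lc_c_rc_11_1 lc_c_rc_23_0 lc_c_rc_23_0 lc_c_rc_7_5 lc_c_rc_2_3 lc_c_rc_7_5 lc_c_rc_14_2 lc_c_rc_11_1 lc_c_rc_2_3 lc_c_rc_13_2 lc_c_rc_11_1 lc_c_rc_23_0 lc_c_Cert_tree lc_c_rc_14_2 lc_c_rc_13_0 lc_c_rc_11_1 lc_c_rc_23_5 lc_c_rc_11_1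 lc_c_rc_13_2 lc_c_rc_26_8 lc_c_rc_13_2 lc_c_rc_24_6 lc_c_rc_26_2 lc_c_rc_14_2 lc_c_rc_24_2 lc_c_rc_23_5 lc_c_rc_26_4 lc_c_rc_11_1 lc_c_rc_13_2 lc_c_Cert_tree lc_c_rc_11_1 lc_c_rc_13_2 lc_c_rc_26_10 lc_c_rc_11_1 lc_c_rc_14_0 lc_c_rc_11_1 lc_c_rc_11_1 lc_c_rc_11_1 lc_c_rc_11_1 lc_c_rc_22_3 lc_c_Cert_tree lc_c_rc_11_1 lc_c_rc_23_5 lc_c_rc_25_13 lc_c_rc_13_2 lc_c_rc_13_2 lc_c_rc_13_0 lc_c_Cert_tree lc_c_rc_11_1 lc_c_Cert_tree) (@D3.rec (fun _ => (Cert rels S Gen.c)) lc_c_rc_2_3 lc_c_rc_13_2 lc_c_rc_26_4 lc_c_rc_13_2 lc_c_rc_13_0 lc_c_rc_25_5 lc_c_rc_23_5 lc_c_rc_13_2 lc_c_rc_23_0 lc_c_rc_11_1 lc_c_rc_14_2 lc_c_rc_7_1 lc_c_rc_11_1 lc_c_rc_13_2 lc_c_rc_26_10 lc_c_rc_11_1 lc_c_rc_14_0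 lc_c_rc_23_5 lc_c_rc_13_2 lc_c_rc_14_2 lc_c_rc_23_0 lc_c_rc_14_2 lc_c_rc_2_1 lc_c_rc_26_4 lc_c_rc_7_1 lc_c_rc_22_3 lc_c_rc_13_2 lc_c_rc_14_0 lc_c_rc_7_5 lc_c_rc_11_1 lc_c_rc_7_3 lc_c_rc_22_3 lc_c_rc_26_10 lc_c_rc_11_1 lc_c_rc_11_1 lc_c_rc_26_2 lc_c_rc_13_2 lc_c_rc_22_3 lc_c_rc_22_5 lc_c_rc_22_5 lc_c_rc_22_3 lc_c_rc_22_5 lc_c_rc_13_2 lc_c_rc_11_1 lc_c_rc_13_2 lc_c_rc_13_2 lc_c_rc_26_10 lc_c_rc_24_2 lc_c_rc_11_1 lc_c_rc_24_6 lc_c_rc_11_1 lc_c_rc_22_5 lc_c_rc_26_2 lc_c_rc_23_0 lc_c_rc_11_1 lc_c_rc_23_5 lc_c_Cert_tree lc_c_rc_11_1 lc_c_rc_14_2 lc_c_rc_23_5 lc_c_rc_11_1 lc_c_rc_11_1) (@D3.rec (fun _ => (Cert rels S Gen.c)) lc_c_rc_7_5 lc_c_Cert_tree lc_c_rc_11_1 lc_c_rc_25_13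 lc_c_rc_26_4 lc_c_rc_13_2 lc_c_rc_11_1 lc_c_rc_26_2 lc_c_rc_23_5 lc_c_rc_24_4 lc_c_rc_14_2 lc_c_rc_7_5 lc_c_rc_14_2 lc_c_rc_24_2 lc_c_rc_11_1 lc_c_rc_11_1 lc_c_rc_7_5 lc_c_rc_13_2 lc_c_rc_13_2 lc_c_rc_14_2 lc_c_rc_24_4 lc_c_rc_14_2 lc_c_rc_13_2 lc_c_rc_11_1 lc_c_rc_13_2 lc_c_rc_23_0 lc_c_rc_7_3 lc_c_rc_14_2 lc_c_rc_7_1 lc_c_rc_13_2 lc_c_rc_26_2 lc_c_rc_13_2 lc_c_Cert_tree lc_c_rc_11_1 lc_c_rc_11_1 lc_c_rc_11_1 lc_c_rc_11_1 lc_c_Cert_tree lc_c_rc_2_3 lc_c_rc_26_2 lc_c_rc_23_0 lc_c_rc_11_1 lc_c_rc_14_2 lc_c_rc_2_3 lc_c_rc_11_1 lc_c_rc_13_2 lc_c_rc_26_10 lc_c_rc_24_8 lc_c_rc_11_1 lc_c_rc_23_0 lc_c_rc_24_6 lc_c_rc_11_1 lc_c_rc_23_5 lc_c_rc_13_2 lc_c_rc_22_9 lc_c_rc_26_4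 lc_c_rc_13_2 lc_c_rc_23_0 lc_c_rc_11_1 lc_c_rc_2_3 lc_c_rc_7_5 lc_c_rc_12_0) (@D3.rec (fun _ => (Cert rels S Gen.c)) lc_c_rc_26_8 lc_c_rc_25_5 lc_c_rc_11_1 lc_c_rc_11_1 lc_c_rc_14_2 lc_c_rc_14_2 lc_c_rc_7_1 lc_c_Cert_tree lc_c_rc_26_2 lc_c_rc_22_3 lc_c_rc_7_3 lc_c_rc_13_2 lc_c_rc_23_0 lc_c_rc_7_5 lc_c_rc_7_3 lc_c_rc_11_1 lc_c_rc_11_1 lc_c_rc_7_1 lc_c_rc_11_1 lc_c_rc_24_6 lc_c_rc_11_1 lc_c_rc_13_2 lc_c_rc_22_3 lc_c_rc_13_2 lc_c_rc_7_5 lc_c_rc_7_5 lc_c_rc_7_3 lc_c_Cert_tree lc_c_rc_7_3 lc_c_rc_7_3 lc_c_rc_11_1 lc_c_rc_7_3 lc_c_rc_24_2 lc_c_rc_26_4 lc_c_rc_11_1 lc_c_Cert_tree lc_c_rc_22_3 lc_c_rc_7_1 lc_c_rc_7_5 lc_c_rc_7_1 lc_c_rc_13_2 lc_c_Cert_tree lc_c_rc_2_3 lc_c_rc_11_1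 lc_c_rc_12_2 lc_c_rc_26_10 lc_c_rc_11_1 lc_c_rc_13_0 lc_c_rc_26_2 lc_c_rc_26_10 lc_c_rc_23_0 lc_c_rc_22_9 lc_c_rc_14_2 lc_c_rc_11_1 lc_c_rc_14_2 lc_c_rc_25_13 lc_c_rc_24_4 lc_c_Cert_tree lc_c_rc_23_5 lc_c_rc_13_2 lc_c_rc_22_5 lc_c_rc_23_0) (@D3.rec (fun _ => (Cert rels S Gen.c)) lc_c_Cert_tree lc_c_rc_14_2 lc_c_rc_11_1 lc_c_rc_23_0 lc_c_rc_11_1 lc_c_rc_13_2 lc_c_rc_14_2 lc_c_rc_13_2 lc_c_rc_11_1 lc_c_rc_11_1 lc_c_rc_13_2 lc_c_rc_11_1 lc_c_rc_13_2 lc_c_rc_26_2 lc_c_rc_14_2 lc_c_rc_13_2 lc_c_rc_26_10 lc_c_rc_7_5 lc_c_rc_11_1 lc_c_rc_26_8 lc_c_rc_13_2 lc_c_rc_24_2 lc_c_rc_13_2 lc_c_rc_23_0 lc_c_rc_13_0 lc_c_rc_11_1 lc_c_rc_11_1 lc_c_rc_13_2 lc_c_rc_13_2 lc_c_rc_26_4 lc_c_rc_22_7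 lc_c_rc_13_0 lc_c_Cert_tree lc_c_rc_11_1 lc_c_rc_13_2 lc_c_rc_2_1 lc_c_rc_2_1 lc_c_rc_14_2 lc_c_rc_22_3 lc_c_rc_13_2 lc_c_rc_14_0 lc_c_Cert_tree lc_c_rc_14_2 lc_c_rc_26_10 lc_c_rc_13_0 lc_c_rc_2_3 lc_c_rc_26_2 lc_c_rc_11_1 lc_c_rc_23_5 lc_c_rc_2_3 lc_c_rc_26_2 lc_c_rc_22_3 lc_c_rc_7_5 lc_c_rc_22_9 lc_c_rc_13_2 lc_c_rc_11_1 lc_c_rc_24_8 lc_c_rc_11_1 lc_c_rc_7_3 lc_c_Cert_tree lc_c_rc_11_1 lc_c_rc_26_10) (@D3.rec (fun _ => (Cert rels S Gen.c)) lc_c_rc_11_1 lc_c_rc_2_3 lc_c_rc_23_0 lc_c_rc_13_2 lc_c_rc_26_4 lc_c_rc_11_1 lc_c_rc_22_7 lc_c_rc_26_2 lc_c_rc_11_1 lc_c_rc_13_2 lc_c_rc_23_5 lc_c_Cert_tree lc_c_rc_26_2 lc_c_rc_14_2 lc_c_rc_11_1 lc_c_rc_7_3 lc_c_rc_13_2 lc_c_rc_11_1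 lc_c_rc_22_3 lc_c_rc_24_6 lc_c_rc_13_2 lc_c_rc_11_1 lc_c_rc_2_3 lc_c_rc_11_1 lc_c_rc_13_2 lc_c_rc_13_2 lc_c_Cert_tree lc_c_rc_13_0 lc_c_rc_11_1 lc_c_Cert_tree lc_c_Cert_tree lc_c_Cert_tree lc_c_rc_11_1 lc_c_rc_7_3 lc_c_rc_11_1 lc_c_rc_26_4 lc_c_rc_11_1 lc_c_rc_12_0 lc_c_rc_14_2 lc_c_rc_7_5 lc_c_Cert_tree lc_c_rc_7_3 lc_c_rc_12_4 lc_c_rc_12_0 lc_c_rc_11_1 lc_c_rc_7_3 lc_c_rc_26_4 lc_c_Cert_tree lc_c_rc_11_1 lc_c_rc_11_1 lc_c_rc_14_0 lc_c_rc_11_1 lc_c_rc_25_1 lc_c_rc_13_2 lc_c_rc_11_1 lc_c_rc_24_4 lc_c_rc_14_2 lc_c_rc_7_3 lc_c_rc_13_2 lc_c_rc_23_0 lc_c_rc_13_2 lc_c_rc_26_2) (@D3.rec (fun _ => (Cert rels S Gen.c)) lc_c_rc_13_2 lc_c_rc_24_4 lc_c_rc_24_6 lc_c_Cert_tree lc_c_rc_11_1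 lc_c_rc_26_4 lc_c_rc_24_2 lc_c_rc_26_8 lc_c_Cert_tree lc_c_rc_13_2 lc_c_rc_25_5 lc_c_rc_22_5 lc_c_rc_13_2 lc_c_rc_7_5 lc_c_rc_2_3 lc_c_rc_11_1 lc_c_rc_26_10 lc_c_rc_26_4 lc_c_rc_13_2 lc_c_rc_26_8 lc_c_rc_11_1 lc_c_rc_24_8 lc_c_rc_2_3 lc_c_rc_22_3 lc_c_rc_13_0 lc_c_rc_11_1 lc_c_rc_13_2 lc_c_rc_12_0 lc_c_rc_24_4 lc_c_Cert_tree lc_c_rc_26_8 lc_c_rc_13_2 lc_c_rc_26_10 lc_c_rc_26_10 lc_c_rc_11_1 lc_c_rc_26_2 lc_c_rc_13_2 lc_c_rc_23_0 lc_c_Cert_tree lc_c_rc_14_2 lc_c_rc_26_10 lc_c_rc_23_0 lc_c_rc_22_3 lc_c_rc_11_1 lc_c_rc_11_1 lc_c_rc_22_7 lc_c_rc_14_2 lc_c_rc_14_2 lc_c_rc_11_1 lc_c_rc_13_2 lc_c_rc_12_0 lc_c_rc_11_1 lc_c_rc_23_5 lc_c_rc_2_3 lc_c_rc_11_1 lc_c_rc_2_3 lc_c_rc_7_5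 lc_c_rc_11_1 lc_c_rc_2_3 lc_c_rc_13_2 lc_c_rc_11_1 lc_c_rc_11_1) (@D3.rec (fun _ => (Cert rels S Gen.c)) lc_c_rc_13_2 lc_c_rc_13_0 lc_c_rc_13_2 lc_c_rc_25_5 lc_c_rc_24_6 lc_c_rc_11_1 lc_c_rc_24_2 lc_c_rc_11_1 lc_c_rc_7_5 lc_c_rc_22_9 lc_c_rc_14_2 lc_c_rc_22_3 lc_c_rc_13_2 lc_c_rc_11_1 lc_c_rc_26_10 lc_c_Cert_tree lc_c_rc_14_2 lc_c_rc_13_2 lc_c_rc_11_1 lc_c_rc_14_2 lc_c_rc_26_4 lc_c_rc_12_0 lc_c_rc_22_3 lc_c_rc_13_2 lc_c_rc_13_2 lc_c_rc_7_3 lc_c_Cert_tree lc_c_rc_7_3 lc_c_rc_7_3 lc_c_Cert_tree lc_c_rc_11_1 lc_c_rc_22_5 lc_c_rc_11_1 lc_c_rc_24_2 lc_c_rc_26_8 lc_c_rc_11_1 lc_c_rc_13_2 lc_c_rc_13_0 lc_c_Cert_tree lc_c_rc_13_2 lc_c_rc_14_2 lc_c_Cert_tree lc_c_Cert_tree lc_c_Cert_tree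 lc_c_rc_11_1 lc_c_rc_11_1 lc_c_rc_11_1 lc_c_rc_7_3 lc_c_rc_24_2 lc_c_rc_13_2 lc_c_rc_12_2 lc_c_rc_2_3 lc_c_rc_11_1 lc_c_rc_26_2 lc_c_rc_25_5 lc_c_rc_13_2 lc_c_rc_2_3 lc_c_rc_24_4 lc_c_rc_11_1 lc_c_rc_26_4 lc_c_rc_22_7 lc_c_rc_13_2) (@D3.rec (fun _ => (Cert rels S Gen.c)) lc_c_Cert_tree lc_c_rc_13_0 lc_c_rc_13_2 lc_c_rc_7_5 lc_c_rc_13_2 lc_c_rc_23_0 lc_c_rc_11_1 lc_c_rc_13_2 lc_c_rc_13_2 lc_c_rc_14_2 lc_c_rc_13_2 lc_c_rc_24_6 lc_c_rc_26_8 lc_c_rc_2_1 lc_c_rc_11_1 lc_c_rc_13_2 lc_c_rc_7_5 lc_c_rc_13_2 lc_c_rc_11_1 lc_c_rc_22_3 lc_c_rc_11_1 lc_c_rc_26_4 lc_c_rc_26_10 lc_c_rc_23_0 lc_c_rc_24_8 lc_c_Cert_tree lc_c_rc_14_2 lc_c_rc_7_5 lc_c_rc_7_5 lc_c_rc_11_1 lc_c_rc_11_1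 lc_c_rc_24_4 lc_c_rc_11_1 lc_c_rc_26_2 lc_c_rc_13_2 lc_c_Cert_tree lc_c_rc_13_2 lc_c_rc_11_1 lc_c_rc_13_2 lc_c_rc_13_0 lc_c_rc_13_0 lc_c_rc_14_2 lc_c_rc_11_1 lc_c_rc_13_2 lc_c_rc_24_4 lc_c_rc_11_1 lc_c_rc_26_4 lc_c_rc_11_1 lc_c_rc_11_1 lc_c_rc_22_7 lc_c_rc_7_3 lc_c_rc_22_3 lc_c_rc_23_0 lc_c_rc_11_1 lc_c_rc_24_2 lc_c_rc_7_3 lc_c_rc_2_3 lc_c_rc_11_1 lc_c_rc_22_5 lc_c_rc_11_1 lc_c_rc_13_2 lc_c_rc_7_3) (@D3.rec (fun _ => (Cert rels S Gen.c)) lc_c_rc_11_1 lc_c_rc_7_1 lc_c_rc_11_1 lc_c_rc_26_8 lc_c_rc_11_1 lc_c_rc_2_3 lc_c_rc_13_2 lc_c_rc_14_2 lc_c_rc_26_4 lc_c_rc_11_1 lc_c_rc_14_0 lc_c_rc_7_5 lc_c_rc_13_2 lc_c_rc_11_1 lc_c_rc_11_1 lc_c_rc_14_2 lc_c_rc_13_2 lc_c_rc_13_2 lc_c_rc_7_5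 lc_c_rc_14_2 lc_c_rc_13_2 lc_c_rc_11_1 lc_c_rc_13_2 lc_c_rc_11_1 lc_c_rc_11_1 lc_c_rc_11_1 lc_c_rc_13_2 lc_c_rc_7_5 lc_c_rc_24_2 lc_c_rc_11_1 lc_c_rc_2_3 lc_c_rc_13_0 lc_c_rc_23_5 lc_c_rc_11_1 lc_c_rc_11_1 lc_c_rc_2_3 lc_c_rc_7_5 lc_c_rc_7_3 lc_c_rc_7_3 lc_c_rc_11_1 lc_c_rc_13_2 lc_c_rc_22_7 lc_c_rc_24_2 lc_c_rc_2_3 lc_c_rc_11_1 lc_c_rc_11_1 lc_c_rc_22_3 lc_c_rc_22_9 lc_c_rc_26_4 lc_c_rc_13_2 lc_c_rc_26_2 lc_c_rc_2_3 lc_c_rc_7_3 lc_c_rc_11_1 lc_c_rc_14_0 lc_c_rc_11_1 lc_c_rc_24_2 lc_c_rc_23_0 lc_c_rc_13_2 lc_c_rc_7_3 lc_c_rc_13_2 lc_c_rc_22_5) (@D3.rec (fun _ => (Cert rels S Gen.c)) lc_c_rc_13_2 lc_c_rc_26_4 lc_c_rc_25_13 lc_c_rc_11_1 lc_c_rc_24_2 lc_c_rc_24_6 lc_c_rc_11_1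 lc_c_rc_2_3 lc_c_rc_14_2 lc_c_rc_13_0 lc_c_rc_13_0 lc_c_rc_22_3 lc_c_rc_14_2 lc_c_rc_7_3 lc_c_rc_22_9 lc_c_rc_23_5 lc_c_rc_23_5 lc_c_rc_11_1 lc_c_rc_11_1 lc_c_rc_2_3 lc_c_rc_25_5 lc_c_rc_13_2 lc_c_rc_24_2 lc_c_rc_13_2 lc_c_rc_26_8 lc_c_rc_11_1 lc_c_rc_13_2 lc_c_rc_11_1 lc_c_rc_7_3 lc_c_rc_11_1 lc_c_rc_26_4 lc_c_rc_11_1 lc_c_rc_11_1 lc_c_rc_2_3 lc_c_Cert_tree lc_c_rc_11_1 lc_c_rc_13_2 lc_c_Cert_tree lc_c_rc_7_5 lc_c_rc_13_2 lc_c_rc_2_3 lc_c_rc_26_8 lc_c_rc_2_3 lc_c_rc_13_2 lc_c_Cert_tree lc_c_rc_11_1 lc_c_rc_13_2 lc_c_rc_24_2 lc_c_rc_26_10 lc_c_rc_22_9 lc_c_rc_26_4 lc_c_rc_22_7 lc_c_rc_22_3 lc_c_rc_26_8 lc_c_rc_11_1 lc_c_Cert_tree lc_c_rc_12_2 lc_c_rc_11_1 lc_c_rc_26_4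 lc_c_rc_13_2 lc_c_rc_13_2 lc_c_rc_7_5) (@D3.rec (fun _ => (Cert rels S Gen.c)) lc_c_rc_7_5 lc_c_rc_13_2 lc_c_rc_13_2 lc_c_rc_22_7 lc_c_rc_22_5 lc_c_rc_11_1 lc_c_rc_7_1 lc_c_rc_11_1 lc_c_rc_13_2 lc_c_rc_13_2 lc_c_rc_11_1 lc_c_rc_14_2 lc_c_rc_13_2 lc_c_rc_13_2 lc_c_rc_13_2 lc_c_rc_26_2 lc_c_rc_22_3 lc_c_rc_13_0 lc_c_rc_7_1 lc_c_rc_13_2 lc_c_rc_13_0 lc_c_rc_23_5 lc_c_rc_11_1 lc_c_rc_13_2 lc_c_rc_2_1 lc_c_rc_24_8 lc_c_rc_13_0 lc_c_rc_11_1 lc_c_rc_26_2 lc_c_rc_22_3 lc_c_rc_11_1 lc_c_rc_23_5 lc_c_rc_26_4 lc_c_rc_13_2 lc_c_rc_7_1 lc_c_rc_22_3 lc_c_rc_13_2 lc_c_rc_24_8 lc_c_rc_7_5 lc_c_rc_26_10 lc_c_rc_7_5 lc_c_rc_7_3 lc_c_rc_13_0 lc_c_rc_11_1 lc_c_rc_11_1 lc_c_rc_13_2 lc_c_rc_14_2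 lc_c_rc_23_5 lc_c_rc_13_2 lc_c_rc_24_4 lc_c_rc_7_5 lc_c_rc_26_2 lc_c_rc_13_2 lc_c_rc_11_1 lc_c_rc_11_1 lc_c_rc_26_2 lc_c_rc_13_2 lc_c_rc_2_3 lc_c_rc_25_1 lc_c_rc_2_3 lc_c_rc_26_4 lc_c_rc_7_3) (@D3.rec (fun _ => (Cert rels S Gen.c)) lc_c_rc_13_2 lc_c_rc_13_0 lc_c_rc_13_2 lc_c_Cert_tree lc_c_rc_14_2 lc_c_rc_26_4 lc_c_rc_7_3 lc_c_rc_11_1 lc_c_rc_2_3 lc_c_rc_22_9 lc_c_rc_13_2 lc_c_rc_11_1 lc_c_rc_2_3 lc_c_rc_11_1 lc_c_rc_26_10 lc_c_rc_7_5 lc_c_rc_7_3 lc_c_rc_26_4 lc_c_rc_13_2 lc_c_rc_11_1 lc_c_rc_11_1 lc_c_rc_11_1 lc_c_rc_11_1 lc_c_rc_22_5 lc_c_rc_7_5 lc_c_rc_22_9 lc_c_rc_2_3 lc_c_rc_11_1 lc_c_rc_13_2 lc_c_rc_11_1 lc_c_rc_7_1 lc_c_rc_11_1 lc_c_rc_14_2 lc_c_rc_22_3 lc_c_rc_13_2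 lc_c_rc_7_3 lc_c_rc_2_3 lc_c_rc_11_1 lc_c_rc_13_2 lc_c_rc_13_2 lc_c_rc_11_1 lc_c_rc_11_1 lc_c_rc_11_1 lc_c_rc_7_1 lc_c_rc_13_2 lc_c_rc_11_1 lc_c_rc_11_1 lc_c_rc_2_3 lc_c_rc_11_1 lc_c_rc_11_1 lc_c_rc_24_4 lc_c_rc_11_1 lc_c_rc_13_2 lc_c_rc_11_1 lc_c_Cert_tree lc_c_Cert_tree lc_c_rc_14_2 lc_c_rc_7_3 lc_c_Cert_tree lc_c_rc_7_3 lc_c_rc_11_1 lc_c_rc_11_1) (@D3.rec (fun _ => (Cert rels S Gen.c)) lc_c_rc_11_1 lc_c_rc_11_1 lc_c_rc_26_4 lc_c_rc_11_1 lc_c_rc_7_5 lc_c_rc_13_2 lc_c_Cert_tree lc_c_rc_11_1 lc_c_rc_13_2 lc_c_rc_13_2 lc_c_rc_7_3 lc_c_rc_12_4 lc_c_rc_24_2 lc_c_rc_11_1 lc_c_rc_12_14 lc_c_rc_26_4 lc_c_rc_13_2 lc_c_rc_24_6 lc_c_rc_13_2 lc_c_rc_11_1 lc_c_rc_13_2 lc_c_rc_23_0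 lc_c_rc_24_2 lc_c_rc_14_2 lc_c_rc_7_5 lc_c_rc_22_5 lc_c_rc_22_5 lc_c_rc_2_3 lc_c_rc_13_2 lc_c_rc_2_3 lc_c_rc_7_3 lc_c_rc_14_2 lc_c_rc_13_2 lc_c_rc_23_0 lc_c_rc_2_3 lc_c_rc_25_17 lc_c_rc_26_2 lc_c_rc_23_5 lc_c_rc_11_1 lc_c_rc_13_2 lc_c_rc_7_3 lc_c_rc_12_2 lc_c_rc_13_2 lc_c_rc_7_5 lc_c_rc_7_5 lc_c_rc_11_1 lc_c_rc_26_4 lc_c_rc_13_2 lc_c_rc_26_2 lc_c_rc_11_1 lc_c_rc_13_2 lc_c_rc_13_0 lc_c_rc_13_2 lc_c_rc_14_2 lc_c_rc_7_5 lc_c_rc_11_1 lc_c_rc_13_2 lc_c_rc_26_2 lc_c_rc_13_2 lc_c_rc_23_0 lc_c_Cert_tree lc_c_rc_23_5) (@D3.rec (fun _ => (Cert rels S Gen.c)) lc_c_rc_11_1 lc_c_rc_24_2 lc_c_rc_2_3 lc_c_rc_26_2 lc_c_rc_11_1 lc_c_rc_25_5 lc_c_rc_24_2 lc_c_rc_26_8 lc_c_rc_11_1 lc_c_rc_22_7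 lc_c_rc_7_5 lc_c_rc_23_0 lc_c_rc_11_1 lc_c_rc_22_5 lc_c_rc_22_3 lc_c_rc_11_1 lc_c_rc_23_0 lc_c_rc_14_2 lc_c_rc_14_2 lc_c_rc_24_2 lc_c_rc_26_4 lc_c_rc_7_5 lc_c_rc_2_3 lc_c_rc_22_3 lc_c_rc_7_3 lc_c_rc_24_2 lc_c_rc_11_1 lc_c_rc_24_4 lc_c_rc_2_1 lc_c_rc_22_5 lc_c_rc_11_1 lc_c_rc_7_5 lc_c_rc_23_5 lc_c_rc_7_1 lc_c_rc_23_5 lc_c_rc_11_1 lc_c_rc_11_1 lc_c_rc_22_9 lc_c_rc_26_4 lc_c_rc_11_1 lc_c_rc_13_2 lc_c_rc_22_3 lc_c_rc_26_4 lc_c_rc_11_1 lc_c_rc_12_0 lc_c_rc_26_2 lc_c_rc_2_3 lc_c_rc_11_1 lc_c_rc_11_1 lc_c_rc_14_2 lc_c_rc_7_3 lc_c_rc_22_5 lc_c_rc_13_2 lc_c_rc_12_4 lc_c_rc_7_3 lc_c_rc_7_3 lc_c_rc_11_1 lc_c_rc_14_2 lc_c_rc_11_1 lc_c_rc_7_3 lc_c_rc_24_2 lc_c_rc_13_2) (@D3.rec (fun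 _ => (Cert rels S Gen.c)) lc_c_rc_13_0 lc_c_rc_14_2 lc_c_rc_24_2 lc_c_rc_13_2 lc_c_rc_13_0 lc_c_rc_14_2 lc_c_rc_7_3 lc_c_rc_13_2 lc_c_rc_2_3 lc_c_rc_26_8 lc_c_rc_22_5 lc_c_rc_22_5 lc_c_rc_22_5 lc_c_rc_23_0 lc_c_rc_22_3 lc_c_rc_7_5 lc_c_rc_13_2 lc_c_rc_22_7 lc_c_rc_26_4 lc_c_rc_24_4 lc_c_rc_2_3 lc_c_rc_23_0 lc_c_rc_26_8 lc_c_rc_11_1 lc_c_rc_13_2 lc_c_rc_25_17 lc_c_rc_14_2 lc_c_rc_11_1 lc_c_rc_13_2 lc_c_rc_23_0 lc_c_Cert_tree lc_c_rc_2_1 lc_c_rc_24_2 lc_c_rc_11_1 lc_c_rc_11_1 lc_c_rc_13_2 lc_c_rc_11_1 lc_c_rc_14_2 lc_c_rc_11_1 lc_c_rc_7_5 lc_c_rc_13_2 lc_c_rc_11_1 lc_c_rc_22_5 lc_c_rc_13_2 lc_c_rc_13_0 lc_c_rc_13_2 lc_c_rc_14_2 lc_c_rc_13_2 lc_c_rc_11_1 lc_c_rc_14_2 lc_c_rc_2_3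 lc_c_rc_24_4 lc_c_rc_13_2 lc_c_rc_7_1 lc_c_rc_22_9 lc_c_rc_13_2 lc_c_rc_13_2 lc_c_rc_11_1 lc_c_rc_14_2 lc_c_rc_11_1 lc_c_Cert_tree lc_c_rc_2_3) (@D3.rec (fun _ => (Cert rels S Gen.c)) lc_c_rc_26_2 lc_c_rc_13_2 lc_c_rc_13_2 lc_c_rc_7_5 lc_c_rc_22_5 lc_c_rc_13_2 lc_c_rc_12_2 lc_c_rc_11_1 lc_c_Cert_tree lc_c_rc_13_2 lc_c_rc_7_5 lc_c_rc_13_2 lc_c_rc_7_3 lc_c_rc_13_2 lc_c_Cert_tree lc_c_rc_13_2 lc_c_rc_7_3 lc_c_rc_22_9 lc_c_rc_7_3 lc_c_rc_23_0 lc_c_rc_13_0 lc_c_rc_13_2 lc_c_rc_24_6 lc_c_rc_11_1 lc_c_rc_2_3 lc_c_rc_13_2 lc_c_rc_11_1 lc_c_rc_23_0 lc_c_rc_13_2 lc_c_rc_26_10 lc_c_rc_11_1 lc_c_rc_7_3 lc_c_rc_11_1 lc_c_rc_22_9 lc_c_rc_14_2 lc_c_rc_26_2 lc_c_rc_13_2 lc_c_rc_24_2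 lc_c_rc_7_3 lc_c_rc_24_2 lc_c_rc_7_3 lc_c_Cert_tree lc_c_rc_22_9 lc_c_rc_24_8 lc_c_rc_11_1 lc_c_rc_22_5 lc_c_rc_26_4 lc_c_rc_23_0 lc_c_Cert_tree lc_c_rc_11_1 lc_c_rc_11_1 lc_c_rc_14_2 lc_c_rc_11_1 lc_c_rc_13_0 lc_c_rc_23_0 lc_c_rc_7_5 lc_c_rc_11_1 lc_c_rc_11_1 lc_c_rc_13_2 lc_c_rc_11_1 lc_c_rc_24_2 lc_c_rc_11_1) (@D3.rec (fun _ => (Cert rels S Gen.c)) lc_c_Cert_tree lc_c_rc_11_1 lc_c_rc_7_3 lc_c_Cert_tree lc_c_rc_11_1 lc_c_rc_22_7 lc_c_rc_13_2 lc_c_rc_11_1 lc_c_rc_13_2 lc_c_rc_11_1 lc_c_rc_22_5 lc_c_rc_25_1 lc_c_rc_7_1 lc_c_rc_23_0 lc_c_rc_11_1 lc_c_rc_23_0 lc_c_rc_26_2 lc_c_rc_11_1 lc_c_rc_13_2 lc_c_rc_26_10 lc_c_rc_13_2 lc_c_rc_2_3 lc_c_rc_13_2 lc_c_rc_2_3 lc_c_rc_13_0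 lc_c_rc_13_2 lc_c_rc_24_2 lc_c_rc_2_3 lc_c_rc_22_9 lc_c_rc_26_10 lc_c_rc_26_4 lc_c_rc_13_0 lc_c_rc_11_1 lc_c_rc_22_5 lc_c_rc_13_2 lc_c_rc_11_1 lc_c_rc_13_2 lc_c_rc_7_1 lc_c_rc_11_1 lc_c_rc_13_2 lc_c_rc_26_2 lc_c_rc_13_2 lc_c_rc_24_4 lc_c_rc_22_5 lc_c_rc_2_3 lc_c_rc_13_0 lc_c_rc_11_1 lc_c_rc_14_2 lc_c_rc_13_2 lc_c_rc_11_1 lc_c_rc_26_4 lc_c_rc_26_8 lc_c_rc_24_2 lc_c_rc_26_4 lc_c_rc_11_1 lc_c_rc_11_1 lc_c_rc_11_1 lc_c_rc_13_2 lc_c_rc_13_2 lc_c_Cert_tree lc_c_rc_22_3 lc_c_rc_13_2) (@D3.rec (fun _ => (Cert rels S Gen.c)) lc_c_rc_11_1 lc_c_rc_22_7 lc_c_rc_11_1 lc_c_rc_23_5 lc_c_rc_2_3 lc_c_rc_7_5 lc_c_rc_2_3 lc_c_rc_13_2 lc_c_rc_26_4 lc_c_rc_11_1 lc_c_rc_2_3 lc_c_rc_13_2 lc_c_rc_2_3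 lc_c_rc_11_1 lc_c_rc_2_3 lc_c_rc_13_2 lc_c_rc_13_2 lc_c_rc_11_1 lc_c_Cert_tree lc_c_rc_14_2 lc_c_rc_7_3 lc_c_rc_26_4 lc_c_rc_13_2 lc_c_rc_22_3 lc_c_rc_14_0 lc_c_rc_11_1 lc_c_rc_13_2 lc_c_rc_7_5 lc_c_rc_11_1 lc_c_rc_11_1 lc_c_rc_24_8 lc_c_rc_2_3 lc_c_rc_24_8 lc_c_rc_11_1 lc_c_rc_14_2 lc_c_rc_23_0 lc_c_rc_13_0 lc_c_rc_26_10 lc_c_rc_13_2 lc_c_rc_13_2 lc_c_rc_13_2 lc_c_rc_23_0 lc_c_rc_13_2 lc_c_rc_11_1 lc_c_rc_11_1 lc_c_rc_11_1 lc_c_rc_14_2 lc_c_rc_13_2 lc_c_rc_11_1 lc_c_rc_13_2 lc_c_rc_13_2 lc_c_Cert_tree lc_c_rc_11_1 lc_c_rc_7_1 lc_c_rc_24_8 lc_c_rc_2_3 lc_c_rc_7_5 lc_c_rc_11_1 lc_c_rc_13_2 lc_c_rc_24_4 lc_c_rc_23_0 lc_c_rc_11_1) (@D3.rec (fun _ => (Cert rels S Gen.c))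 lc_c_rc_13_2 lc_c_rc_11_1 lc_c_rc_24_2 lc_c_rc_13_2 lc_c_rc_14_2 lc_c_rc_7_3 lc_c_rc_7_5 lc_c_rc_13_2 lc_c_rc_22_7 lc_c_rc_11_1 lc_c_rc_22_5 lc_c_rc_7_3 lc_c_rc_2_3 lc_c_rc_2_3 lc_c_rc_12_14 lc_c_rc_2_1 lc_c_rc_13_2 lc_c_rc_26_4 lc_c_rc_11_1 lc_c_rc_13_2 lc_c_rc_13_2 lc_c_rc_11_1 lc_c_rc_7_5 lc_c_rc_12_0 lc_c_rc_24_4 lc_c_rc_26_10 lc_c_rc_11_1 lc_c_rc_12_2 lc_c_rc_14_2 lc_c_rc_7_3 lc_c_Cert_tree lc_c_rc_13_2 lc_c_rc_22_3 lc_c_rc_23_0 lc_c_rc_11_1 lc_c_rc_23_0 lc_c_rc_23_5 lc_c_rc_13_2 lc_c_rc_24_2 lc_c_rc_11_1 lc_c_rc_2_3 lc_c_rc_13_2 lc_c_rc_23_0 lc_c_rc_11_1 lc_c_rc_13_2 lc_c_rc_11_1 lc_c_rc_11_1 lc_c_rc_13_2 lc_c_rc_13_2 lc_c_Cert_tree lc_c_rc_11_1 lc_c_Cert_tree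 lc_c_rc_14_2 lc_c_rc_11_1 lc_c_rc_13_2 lc_c_rc_11_1 lc_c_rc_26_10 lc_c_Cert_tree lc_c_rc_14_2 lc_c_rc_7_3 lc_c_rc_22_3 lc_c_rc_7_3) (@D3.rec (fun _ => (Cert rels S Gen.c)) lc_c_rc_23_5 lc_c_rc_13_2 lc_c_Cert_tree lc_c_rc_11_1 lc_c_rc_14_2 lc_c_rc_7_3 lc_c_rc_24_2 lc_c_rc_2_3 lc_c_rc_13_2 lc_c_rc_26_4 lc_c_rc_13_2 lc_c_rc_13_2 lc_c_rc_2_3 lc_c_rc_13_0 lc_c_rc_14_2 lc_c_rc_2_3 lc_c_rc_7_3 lc_c_Cert_tree lc_c_rc_14_2 lc_c_Cert_tree lc_c_rc_13_2 lc_c_rc_7_5 lc_c_Cert_tree lc_c_rc_11_1 lc_c_rc_22_3 lc_c_rc_7_3 lc_c_rc_22_3 lc_c_rc_11_1 lc_c_rc_13_2 lc_c_rc_7_3 lc_c_rc_13_2 lc_c_Cert_tree lc_c_rc_11_1 lc_c_Cert_tree lc_c_rc_14_2 lc_c_rc_24_6 lc_c_rc_13_2 lc_c_rc_26_10 lc_c_rc_13_0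 lc_c_rc_22_3 lc_c_rc_14_2 lc_c_rc_24_2 lc_c_rc_11_1 lc_c_rc_14_2 lc_c_rc_11_1 lc_c_rc_26_4 lc_c_Cert_tree lc_c_rc_14_2 lc_c_rc_11_1 lc_c_rc_22_3 lc_c_rc_2_1 lc_c_rc_13_2 lc_c_rc_2_3 lc_c_rc_13_2 lc_c_rc_11_1 lc_c_rc_13_2 lc_c_rc_24_4 lc_c_Cert_tree lc_c_rc_14_2 lc_c_rc_2_1 lc_c_rc_14_0 lc_c_rc_26_2) (@D3.rec (fun _ => (Cert rels S Gen.c)) lc_c_rc_13_2 lc_c_rc_2_3 lc_c_rc_11_1 lc_c_rc_12_0 lc_c_rc_26_8 lc_c_rc_11_1 lc_c_rc_13_2 lc_c_rc_7_3 lc_c_rc_13_2 lc_c_rc_24_2 lc_c_rc_14_2 lc_c_rc_13_2 lc_c_rc_24_6 lc_c_rc_23_5 lc_c_rc_13_2 lc_c_rc_26_10 lc_c_rc_26_10 lc_c_rc_22_7 lc_c_rc_14_2 lc_c_rc_11_1 lc_c_rc_11_1 lc_c_rc_13_2 lc_c_rc_14_2 lc_c_rc_23_5 lc_c_rc_11_1 lc_c_rc_26_2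 lc_c_rc_24_2 lc_c_rc_24_8 lc_c_rc_14_2 lc_c_rc_11_1 lc_c_rc_26_10 lc_c_rc_13_2 lc_c_rc_11_1 lc_c_rc_26_10 lc_c_rc_22_5 lc_c_rc_13_2 lc_c_rc_22_3 lc_c_rc_24_8 lc_c_rc_22_3 lc_c_rc_7_5 lc_c_rc_11_1 lc_c_rc_13_2 lc_c_rc_25_9 lc_c_rc_24_2 lc_c_rc_13_2 lc_c_rc_11_1 lc_c_rc_11_1 lc_c_rc_13_2 lc_c_rc_7_5 lc_c_rc_22_5 lc_c_rc_7_3 lc_c_rc_22_7 lc_c_rc_2_1 lc_c_rc_24_6 lc_c_rc_24_4 lc_c_rc_2_3 lc_c_rc_13_2 lc_c_rc_7_5 lc_c_rc_13_2 lc_c_rc_26_10 lc_c_rc_24_8 lc_c_Cert_tree) (@D3.rec (fun _ => (Cert rels S Gen.c)) lc_c_rc_14_2 lc_c_Cert_tree lc_c_Cert_tree lc_c_rc_11_1 lc_c_rc_24_6 lc_c_rc_11_1 lc_c_rc_2_3 lc_c_rc_2_3 lc_c_rc_14_0 lc_c_rc_13_2 lc_c_rc_2_3 lc_c_rc_14_2 lc_c_rc_7_5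 lc_c_rc_11_1 lc_c_rc_7_3 lc_c_rc_11_1 lc_c_rc_13_2 lc_c_rc_2_1 lc_c_rc_7_5 lc_c_rc_26_8 lc_c_rc_11_1 lc_c_rc_13_0 lc_c_rc_11_1 lc_c_rc_13_2 lc_c_rc_11_1 lc_c_rc_24_2 lc_c_rc_13_2 lc_c_rc_13_2 lc_c_rc_13_2 lc_c_rc_24_8 lc_c_rc_13_0 lc_c_rc_7_1 lc_c_rc_13_2 lc_c_rc_24_4 lc_c_rc_24_6 lc_c_rc_11_1 lc_c_rc_14_2 lc_c_rc_11_1 lc_c_Cert_tree lc_c_rc_23_0 lc_c_rc_11_1 lc_c_rc_7_5 lc_c_rc_11_1 lc_c_rc_26_4 lc_c_rc_26_2 lc_c_rc_11_1 lc_c_rc_24_4 lc_c_rc_11_1 lc_c_rc_11_1 lc_c_rc_11_1 lc_c_rc_11_1 lc_c_rc_24_2 lc_c_rc_23_0 lc_c_rc_24_4 lc_c_rc_2_3 lc_c_rc_14_2 lc_c_rc_2_1 lc_c_rc_22_5 lc_c_rc_7_3 lc_c_rc_11_1 lc_c_rc_22_7 lc_c_rc_26_4) (@D3.rec (fun _ => (Cert rels S Gen.c)) lc_c_rc_26_8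 lc_c_rc_11_1 lc_c_rc_25_17 lc_c_rc_2_3 lc_c_rc_22_3 lc_c_rc_11_1 lc_c_rc_23_5 lc_c_rc_26_2 lc_c_rc_22_9 lc_c_rc_13_2 lc_c_rc_7_1 lc_c_rc_22_5 lc_c_rc_22_5 lc_c_rc_7_3 lc_c_rc_24_4 lc_c_rc_11_1 lc_c_rc_22_9 lc_c_rc_13_2 lc_c_rc_11_1 lc_c_rc_11_1 lc_c_rc_7_3 lc_c_rc_13_2 lc_c_rc_26_4 lc_c_rc_26_2 lc_c_rc_2_3 lc_c_rc_22_3 lc_c_rc_14_0 lc_c_rc_23_0 lc_c_rc_23_0 lc_c_rc_14_0 lc_c_rc_11_1 lc_c_rc_14_2 lc_c_rc_23_5 lc_c_rc_26_4 lc_c_rc_23_5 lc_c_rc_13_2 lc_c_rc_7_5 lc_c_rc_13_2 lc_c_rc_26_2 lc_c_rc_11_1 lc_c_rc_25_5 lc_c_rc_14_2 lc_c_rc_22_3 lc_c_rc_22_3 lc_c_rc_24_2 lc_c_rc_2_3 lc_c_rc_7_1 lc_c_rc_13_2 lc_c_rc_13_2 lc_c_rc_13_2 lc_c_rc_26_10 lc_c_rc_13_0 lc_c_rc_13_0 lc_c_rc_13_2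 lc_c_Cert_tree lc_c_rc_11_1 lc_c_rc_26_2 lc_c_Cert_tree lc_c_rc_13_2 lc_c_rc_24_4 lc_c_rc_11_1 lc_c_rc_14_2) (@D3.rec (fun _ => (Cert rels S Gen.c)) lc_c_rc_23_0 lc_c_rc_11_1 lc_c_rc_22_3 lc_c_rc_13_0 lc_c_rc_22_9 lc_c_rc_22_3 lc_c_rc_25_5 lc_c_rc_11_1 lc_c_rc_22_9 lc_c_rc_13_0 lc_c_Cert_tree lc_c_rc_14_2 lc_c_rc_11_1 lc_c_rc_14_2 lc_c_rc_24_6 lc_c_rc_13_0 lc_c_rc_7_5 lc_c_rc_11_1 lc_c_rc_26_2 lc_c_rc_2_3 lc_c_rc_7_3 lc_c_rc_11_1 lc_c_rc_22_3 lc_c_rc_13_2 lc_c_rc_11_1 lc_c_rc_22_3 lc_c_rc_26_2 lc_c_rc_11_1 lc_c_rc_11_1 lc_c_rc_26_10 lc_c_rc_23_0 lc_c_rc_14_2 lc_c_rc_26_10 lc_c_rc_11_1 lc_c_rc_2_1 lc_c_rc_22_3 lc_c_rc_11_1 lc_c_rc_25_5 lc_c_rc_11_1 lc_c_rc_2_3 lc_c_Cert_tree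 lc_c_rc_14_2 lc_c_Cert_tree lc_c_rc_26_4 lc_c_rc_13_2 lc_c_rc_24_8 lc_c_rc_7_3 lc_c_rc_13_2 lc_c_rc_23_5 lc_c_rc_7_5 lc_c_rc_13_2 lc_c_rc_24_4 lc_c_rc_24_2 lc_c_rc_23_0 lc_c_rc_7_5 lc_c_rc_24_2 lc_c_rc_7_3 lc_c_rc_12_2 lc_c_rc_7_5 lc_c_rc_7_5 lc_c_rc_26_2 lc_c_rc_13_2) (@D3.rec (fun _ => (Cert rels S Gen.c)) lc_c_rc_26_10 lc_c_rc_13_2 lc_c_rc_23_0 lc_c_rc_7_5 lc_c_rc_14_2 lc_c_rc_26_4 lc_c_rc_13_2 lc_c_rc_11_1 lc_c_rc_22_3 lc_c_rc_14_2 lc_c_rc_23_0 lc_c_rc_2_1 lc_c_rc_13_2 lc_c_rc_11_1 lc_c_rc_2_1 lc_c_rc_26_4 lc_c_rc_13_2 lc_c_Cert_tree lc_c_rc_11_1 lc_c_rc_14_2 lc_c_rc_26_10 lc_c_rc_14_2 lc_c_rc_11_1 lc_c_rc_13_2 lc_c_rc_11_1 lc_c_rc_13_2 lc_c_rc_11_1 lc_c_rc_7_5 lc_c_Cert_tree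 lc_c_rc_7_3 lc_c_rc_14_0 lc_c_rc_14_2 lc_c_rc_7_3 lc_c_rc_24_4 lc_c_rc_11_1 lc_c_rc_11_1 lc_c_rc_7_3 lc_c_rc_13_2 lc_c_rc_24_4 lc_c_rc_23_5 lc_c_rc_2_1 lc_c_rc_24_6 lc_c_rc_23_0 lc_c_rc_12_2 lc_c_rc_13_2 lc_c_rc_11_1 lc_c_rc_2_1 lc_c_rc_14_2 lc_c_rc_22_3 lc_c_rc_14_2 lc_c_rc_26_2 lc_c_rc_11_1 lc_c_rc_13_2 lc_c_rc_2_3 lc_c_rc_22_3 lc_c_rc_23_0 lc_c_rc_11_1 lc_c_rc_11_1 lc_c_rc_26_4 lc_c_rc_2_3 lc_c_rc_22_3 lc_c_rc_24_4) (@D3.rec (fun _ => (Cert rels S Gen.c)) lc_c_rc_11_1 lc_c_rc_7_3 lc_c_rc_13_2 lc_c_rc_14_2 lc_c_rc_7_3 lc_c_rc_23_0 lc_c_rc_24_2 lc_c_rc_11_1 lc_c_rc_14_2 lc_c_rc_2_1 lc_c_rc_11_1 lc_c_rc_25_1 lc_c_rc_23_5 lc_c_rc_13_2 lc_c_rc_11_1 lc_c_rc_2_1 lc_c_rc_11_1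 lc_c_rc_11_1 lc_c_rc_12_0 lc_c_rc_7_1 lc_c_rc_26_2 lc_c_rc_23_0 lc_c_rc_11_1 lc_c_rc_7_3 lc_c_rc_7_3 lc_c_rc_23_5 lc_c_rc_26_4 lc_c_rc_13_2 lc_c_rc_7_3 lc_c_rc_13_2 lc_c_rc_7_3 lc_c_rc_13_2 lc_c_rc_14_2 lc_c_rc_7_5 lc_c_rc_23_0 lc_c_rc_11_1 lc_c_rc_14_2 lc_c_rc_11_1 lc_c_rc_14_2 lc_c_Cert_tree lc_c_rc_13_2 lc_c_rc_11_1 lc_c_rc_13_2 lc_c_rc_26_10 lc_c_rc_11_1 lc_c_rc_14_0 lc_c_rc_14_2 lc_c_rc_11_1 lc_c_rc_24_6 lc_c_rc_7_3 lc_c_rc_13_2 lc_c_rc_7_3 lc_c_rc_11_1 lc_c_rc_25_1 lc_c_rc_7_5 lc_c_rc_22_3 lc_c_rc_11_1 lc_c_rc_24_6 lc_c_rc_11_1 lc_c_rc_26_10 lc_c_rc_12_0 lc_c_rc_11_1) (@D3.rec (fun _ => (Cert rels S Gen.c)) lc_c_rc_26_4 lc_c_rc_11_1 lc_c_rc_25_5 lc_c_rc_26_2 lc_c_rc_11_1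 lc_c_rc_23_0 lc_c_rc_2_1 lc_c_rc_26_10 lc_c_rc_13_0 lc_c_rc_14_2 lc_c_rc_26_2 lc_c_rc_2_3 lc_c_rc_12_2 lc_c_rc_24_4 lc_c_rc_26_10 lc_c_rc_13_2 lc_c_rc_13_2 lc_c_rc_26_4 lc_c_rc_11_1 lc_c_rc_22_7 lc_c_rc_13_2 lc_c_rc_26_8 lc_c_rc_26_10 lc_c_rc_24_4 lc_c_rc_26_4 lc_c_Cert_tree lc_c_rc_13_2 lc_c_rc_11_1 lc_c_rc_13_2 lc_c_rc_26_4 lc_c_rc_11_1 lc_c_rc_13_2 lc_c_rc_11_1 lc_c_rc_11_1 lc_c_rc_24_8 lc_c_rc_24_6 lc_c_rc_11_1 lc_c_rc_23_0 lc_c_rc_2_3 lc_c_rc_23_0 lc_c_rc_13_2 lc_c_rc_2_1 lc_c_rc_14_2 lc_c_rc_26_8 lc_c_rc_14_0 lc_c_rc_26_10 lc_c_rc_11_1 lc_c_rc_2_3 lc_c_rc_11_1 lc_c_rc_26_2 lc_c_rc_11_1 lc_c_rc_22_9 lc_c_rc_11_1 lc_c_rc_14_2 lc_c_rc_11_1 lc_c_rc_13_2 lc_c_rc_26_10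 lc_c_rc_11_1 lc_c_rc_11_1 lc_c_rc_24_2 lc_c_rc_14_2 lc_c_rc_13_2) (@D3.rec (fun _ => (Cert rels S Gen.c)) lc_c_rc_14_2 lc_c_rc_11_1 lc_c_Cert_tree lc_c_rc_13_2 lc_c_rc_22_5 lc_c_rc_11_1 lc_c_Cert_tree lc_c_rc_26_8 lc_c_rc_7_1 lc_c_rc_22_9 lc_c_rc_13_2 lc_c_rc_26_4 lc_c_rc_11_1 lc_c_rc_7_5 lc_c_rc_11_1 lc_c_rc_7_3 lc_c_rc_7_3 lc_c_rc_7_3 lc_c_rc_7_5 lc_c_rc_11_1 lc_c_rc_26_4 lc_c_rc_25_17 lc_c_rc_11_1 lc_c_rc_7_3 lc_c_rc_23_0 lc_c_rc_13_2 lc_c_rc_2_3 lc_c_rc_24_4 lc_c_rc_24_6 lc_c_rc_26_8 lc_c_rc_13_2 lc_c_rc_11_1 lc_c_rc_13_2 lc_c_rc_23_0 lc_c_rc_11_1 lc_c_rc_26_10 lc_c_rc_11_1 lc_c_rc_24_4 lc_c_rc_7_3 lc_c_rc_13_2 lc_c_rc_2_3 lc_c_rc_11_1 lc_c_rc_22_9 lc_c_rc_13_2 lc_c_rc_13_2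 lc_c_rc_13_2 lc_c_rc_26_2 lc_c_rc_22_9 lc_c_rc_26_10 lc_c_rc_2_1 lc_c_rc_11_1 lc_c_rc_13_2 lc_c_rc_25_9 lc_c_rc_13_2 lc_c_rc_11_1 lc_c_rc_2_3 lc_c_rc_13_2 lc_c_rc_11_1 lc_c_rc_11_1 lc_c_rc_13_2 lc_c_rc_11_1 lc_c_rc_22_3) (@D3.rec (fun _ => (Cert rels S Gen.c)) lc_c_rc_2_3 lc_c_Cert_tree lc_c_rc_11_1 lc_c_rc_13_2 lc_c_rc_2_1 lc_c_rc_13_2 lc_c_rc_26_10 lc_c_rc_11_1 lc_c_rc_22_7 lc_c_rc_22_3 lc_c_rc_7_5 lc_c_rc_12_2 lc_c_rc_13_0 lc_c_rc_23_0 lc_c_rc_24_2 lc_c_rc_23_5 lc_c_rc_26_2 lc_c_rc_11_1 lc_c_rc_13_2 lc_c_rc_13_0 lc_c_rc_13_0 lc_c_rc_11_1 lc_c_rc_7_1 lc_c_rc_24_6 lc_c_Cert_tree lc_c_rc_11_1 lc_c_rc_23_0 lc_c_rc_26_8 lc_c_rc_11_1 lc_c_Cert_tree lc_c_rc_13_2 lc_c_rc_11_1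 lc_c_rc_13_2 lc_c_rc_11_1 lc_c_rc_22_7 lc_c_rc_11_1 lc_c_rc_13_0 lc_c_rc_11_1 lc_c_rc_11_1 lc_c_rc_24_6 lc_c_rc_24_6 lc_c_rc_26_4 lc_c_rc_22_7 lc_c_rc_14_2 lc_c_rc_22_3 lc_c_rc_13_0 lc_c_rc_12_2 lc_c_Cert_tree lc_c_rc_24_2 lc_c_rc_11_1 lc_c_rc_7_1 lc_c_rc_7_5 lc_c_rc_13_2 lc_c_rc_22_9 lc_c_rc_13_0 lc_c_rc_11_1 lc_c_rc_11_1 lc_c_rc_13_2 lc_c_rc_11_1 lc_c_rc_26_8 lc_c_rc_13_2 lc_c_rc_14_2) (@D3.rec (fun _ => (Cert rels S Gen.c)) lc_c_Cert_tree lc_c_rc_11_1 lc_c_rc_25_9 lc_c_rc_11_1 lc_c_rc_11_1 lc_c_rc_2_3 lc_c_rc_11_1 lc_c_rc_22_3 lc_c_rc_14_2 lc_c_rc_11_1 lc_c_rc_11_1 lc_c_rc_24_8 lc_c_rc_23_0 lc_c_rc_11_1 lc_c_rc_12_2 lc_c_rc_2_3 lc_c_rc_13_2 lc_c_rc_22_5 lc_c_rc_26_2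 lc_c_rc_26_4 lc_c_rc_24_8 lc_c_rc_24_2 lc_c_rc_11_1 lc_c_rc_11_1 lc_c_rc_14_2 lc_c_rc_26_4 lc_c_rc_26_2 lc_c_rc_2_3 lc_c_rc_7_5 lc_c_rc_14_2 lc_c_rc_11_1 lc_c_rc_13_2 lc_c_rc_13_2 lc_c_rc_11_1 lc_c_rc_11_1 lc_c_rc_13_2 lc_c_rc_11_1 lc_c_rc_7_5 lc_c_rc_11_1 lc_c_rc_22_5 lc_c_rc_7_3 lc_c_rc_26_4 lc_c_rc_13_2 lc_c_rc_13_2 lc_c_rc_22_3 lc_c_rc_13_2 lc_c_rc_7_5 lc_c_rc_25_9 lc_c_rc_13_2 lc_c_rc_22_3 lc_c_rc_7_5 lc_c_rc_26_4 lc_c_rc_2_1 lc_c_rc_22_5 lc_c_rc_13_2 lc_c_Cert_tree lc_c_Cert_tree lc_c_rc_11_1 lc_c_rc_13_2 lc_c_rc_11_1 lc_c_rc_11_1 lc_c_rc_23_0) (@D3.rec (fun _ => (Cert rels S Gen.c)) lc_c_rc_11_1 lc_c_rc_26_4 lc_c_rc_11_1 lc_c_rc_22_5 lc_c_rc_11_1 lc_c_rc_24_6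 lc_c_rc_22_7 lc_c_rc_14_2 lc_c_rc_26_4 lc_c_rc_14_0 lc_c_Cert_tree lc_c_Cert_tree lc_c_Cert_tree lc_c_rc_11_1 lc_c_rc_22_5 lc_c_rc_22_5 lc_c_rc_11_1 lc_c_rc_26_2 lc_c_rc_24_4 lc_c_rc_7_3 lc_c_rc_24_2 lc_c_rc_7_5 lc_c_rc_23_5 lc_c_rc_23_5 lc_c_Cert_tree lc_c_Cert_tree lc_c_rc_13_2 lc_c_Cert_tree lc_c_rc_14_2 lc_c_rc_11_1 lc_c_rc_11_1 lc_c_rc_13_2 lc_c_rc_11_1 lc_c_rc_11_1 lc_c_rc_13_0 lc_c_rc_26_2 lc_c_rc_24_2 lc_c_rc_14_2 lc_c_rc_11_1 lc_c_rc_11_1 lc_c_rc_2_3 lc_c_rc_26_2 lc_c_rc_23_5 lc_c_rc_25_1 lc_c_rc_12_2 lc_c_rc_13_2 lc_c_rc_22_7 lc_c_rc_26_10 lc_c_rc_11_1 lc_c_rc_11_1 lc_c_rc_26_8 lc_c_rc_23_5 lc_c_rc_13_2 lc_c_rc_11_1 lc_c_rc_25_5 lc_c_rc_26_8 lc_c_rc_11_1 lc_c_rc_23_5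 lc_c_rc_13_2 lc_c_rc_22_7 lc_c_rc_11_1 lc_c_rc_7_5) (@D3.rec (fun _ => (Cert rels S Gen.c)) lc_c_rc_11_1 lc_c_rc_14_0 lc_c_rc_7_3 lc_c_rc_25_5 lc_c_rc_2_1 lc_c_rc_23_0 lc_c_rc_13_2 lc_c_Cert_tree lc_c_rc_25_5 lc_c_rc_13_2 lc_c_rc_11_1 lc_c_rc_23_5 lc_c_rc_24_6 lc_c_rc_26_4 lc_c_rc_13_2 lc_c_rc_13_2 lc_c_rc_24_8 lc_c_rc_26_2 lc_c_rc_2_3 lc_c_rc_13_2 lc_c_rc_26_4 lc_c_rc_24_2 lc_c_rc_23_5 lc_c_rc_7_3 lc_c_rc_24_2 lc_c_Cert_tree lc_c_rc_22_3 lc_c_rc_11_1 lc_c_rc_14_2 lc_c_rc_7_3 lc_c_rc_11_1 lc_c_rc_2_3 lc_c_rc_12_0 lc_c_rc_24_4 lc_c_rc_13_2 lc_c_rc_13_2 lc_c_rc_11_1 lc_c_rc_24_2 lc_c_rc_7_3 lc_c_rc_11_1 lc_c_rc_13_2 lc_c_rc_26_2 lc_c_rc_11_1 lc_c_rc_25_1 lc_c_rc_24_6 lc_c_rc_11_1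 lc_c_rc_22_7 lc_c_rc_14_2 lc_c_rc_13_2 lc_c_rc_11_1 lc_c_rc_24_4 lc_c_rc_2_3 lc_c_rc_24_8 lc_c_rc_11_1 lc_c_rc_25_5 lc_c_rc_26_8 lc_c_rc_14_2 lc_c_rc_13_2 lc_c_rc_7_3 lc_c_rc_11_1 lc_c_rc_13_2 lc_c_rc_7_3) (@D3.rec (fun _ => (Cert rels S Gen.c)) lc_c_Cert_tree lc_c_rc_2_1 lc_c_rc_22_5 lc_c_rc_13_2 lc_c_rc_24_2 lc_c_rc_22_5 lc_c_rc_13_2 lc_c_rc_11_1 lc_c_rc_7_5 lc_c_rc_11_1 lc_c_rc_26_2 lc_c_rc_11_1 lc_c_rc_13_2 lc_c_rc_23_0 lc_c_rc_7_1 lc_c_rc_12_0 lc_c_rc_7_5 lc_c_rc_23_5 lc_c_rc_22_3 lc_c_Cert_tree lc_c_rc_7_1 lc_c_rc_13_2 lc_c_rc_23_0 lc_c_rc_13_2 lc_c_Cert_tree lc_c_rc_13_2 lc_c_rc_11_1 lc_c_rc_2_3 lc_c_rc_7_5 lc_c_rc_13_2 lc_c_rc_2_3 lc_c_rc_11_1 lc_c_rc_11_1 lc_c_rc_23_5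 lc_c_rc_13_2 lc_c_rc_24_8 lc_c_rc_11_1 lc_c_rc_26_8 lc_c_rc_23_5 lc_c_rc_13_2 lc_c_rc_11_1 lc_c_rc_13_0 lc_c_rc_22_9 lc_c_rc_25_1 lc_c_rc_23_5 lc_c_rc_11_1 lc_c_rc_14_2 lc_c_rc_11_1 lc_c_rc_25_1 lc_c_rc_22_3 lc_c_rc_7_1 lc_c_rc_25_9 lc_c_rc_23_5 lc_c_rc_26_2 lc_c_rc_11_1 lc_c_rc_22_5 lc_c_rc_13_2 lc_c_rc_24_4 lc_c_rc_11_1 lc_c_rc_22_3 lc_c_rc_23_0 lc_c_rc_23_0) (@D3.rec (fun _ => (Cert rels S Gen.c)) lc_c_rc_26_4 lc_c_rc_11_1 lc_c_rc_24_4 lc_c_rc_24_6 lc_c_rc_11_1 lc_c_rc_14_2 lc_c_rc_26_2 lc_c_rc_23_5 lc_c_rc_11_1 lc_c_rc_11_1 lc_c_rc_13_2 lc_c_rc_23_0 lc_c_rc_11_1 lc_c_rc_11_1 lc_c_rc_11_1 lc_c_rc_22_5 lc_c_rc_11_1 lc_c_rc_13_2 lc_c_rc_26_2 lc_c_rc_11_1 lc_c_rc_24_2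 lc_c_rc_13_2 lc_c_rc_12_0 lc_c_rc_23_5 lc_c_rc_13_2 lc_c_rc_23_5 lc_c_rc_26_2 lc_c_rc_26_2 lc_c_rc_11_1 lc_c_rc_26_8 lc_c_rc_13_2 lc_c_rc_23_5 lc_c_rc_11_1 lc_c_rc_11_1 lc_c_rc_13_2 lc_c_rc_11_1 lc_c_rc_26_10 lc_c_rc_22_3 lc_c_rc_24_4 lc_c_rc_11_1 lc_c_rc_14_0 lc_c_rc_23_0 lc_c_rc_13_2 lc_c_rc_22_3 lc_c_rc_11_1 lc_c_rc_11_1 lc_c_rc_24_6 lc_c_rc_2_3 lc_c_rc_13_2 lc_c_rc_22_3 lc_c_rc_22_3 lc_c_rc_11_1 lc_c_rc_25_17 lc_c_rc_11_1 lc_c_rc_13_0 lc_c_rc_24_8 lc_c_rc_11_1 lc_c_rc_12_2 lc_c_rc_22_9 lc_c_rc_14_0 lc_c_rc_13_2 lc_c_rc_14_2) (@D3.rec (fun _ => (Cert rels S Gen.c)) lc_c_rc_11_1 lc_c_rc_11_1 lc_c_Cert_tree lc_c_rc_14_0 lc_c_rc_23_0 lc_c_rc_13_2 lc_c_rc_24_8 lc_c_rc_2_1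 lc_c_rc_7_3 lc_c_rc_22_9 lc_c_rc_11_1 lc_c_Cert_tree lc_c_rc_24_4 lc_c_rc_2_3 lc_c_rc_13_0 lc_c_rc_13_2 lc_c_rc_7_3 lc_c_rc_26_2 lc_c_rc_22_3 lc_c_rc_14_2 lc_c_rc_13_0 lc_c_rc_24_2 lc_c_rc_11_1 lc_c_rc_11_1 lc_c_rc_2_3 lc_c_rc_23_5 lc_c_rc_14_2 lc_c_rc_11_1 lc_c_rc_11_1 lc_c_rc_2_3 lc_c_rc_11_1 lc_c_rc_23_0 lc_c_rc_13_0 lc_c_rc_26_8 lc_c_rc_14_0 lc_c_rc_26_10 lc_c_rc_11_1 lc_c_rc_11_1 lc_c_rc_26_2 lc_c_rc_7_3 lc_c_rc_13_0 lc_c_rc_13_2 lc_c_rc_11_1 lc_c_rc_22_3 lc_c_rc_26_4 lc_c_rc_7_5 lc_c_rc_11_1 lc_c_rc_13_2 lc_c_rc_11_1 lc_c_rc_13_2 lc_c_rc_24_8 lc_c_rc_11_1 lc_c_rc_13_2 lc_c_rc_23_0 lc_c_rc_13_2 lc_c_rc_13_0 lc_c_rc_11_1 lc_c_rc_7_5 lc_c_rc_13_2 lc_c_rc_24_4 lc_c_rc_24_2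 lc_c_rc_25_13) (@D3.rec (fun _ => (Cert rels S Gen.c)) lc_c_Cert_tree lc_c_rc_23_5 lc_c_Cert_tree lc_c_rc_7_3 lc_c_rc_7_1 lc_c_rc_11_1 lc_c_rc_7_5 lc_c_rc_11_1 lc_c_rc_26_4 lc_c_rc_12_14 lc_c_rc_11_1 lc_c_rc_26_10 lc_c_rc_26_10 lc_c_Cert_tree lc_c_rc_7_5 lc_c_rc_13_2 lc_c_Cert_tree lc_c_Cert_tree lc_c_rc_11_1 lc_c_rc_7_3 lc_c_rc_11_1 lc_c_rc_13_2 lc_c_rc_2_3 lc_c_rc_14_2 lc_c_rc_13_2 lc_c_rc_13_2 lc_c_rc_2_1 lc_c_rc_11_1 lc_c_rc_26_4 lc_c_rc_13_2 lc_c_rc_13_2 lc_c_rc_13_2 lc_c_rc_23_5 lc_c_rc_11_1 lc_c_Cert_tree lc_c_rc_14_2 lc_c_rc_22_5 lc_c_rc_11_1 lc_c_rc_22_3 lc_c_rc_13_2 lc_c_rc_23_5 lc_c_rc_13_2 lc_c_rc_23_5 lc_c_rc_14_2 lc_c_rc_26_2 lc_c_rc_24_2 lc_c_rc_2_3 lc_c_rc_14_2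 lc_c_rc_13_2 lc_c_rc_7_3 lc_c_rc_11_1 lc_c_rc_11_1 lc_c_rc_24_2 lc_c_rc_13_2 lc_c_rc_11_1 lc_c_rc_11_1 lc_c_rc_2_1 lc_c_rc_12_0 lc_c_rc_26_8 lc_c_rc_23_5 lc_c_rc_13_2 lc_c_Cert_tree) (@D3.rec (fun _ => (Cert rels S Gen.c)) lc_c_Cert_tree lc_c_Cert_tree lc_c_rc_11_1 lc_c_rc_22_3 lc_c_rc_11_1 lc_c_rc_7_1 lc_c_rc_11_1 lc_c_rc_14_2 lc_c_rc_13_2 lc_c_rc_13_2 lc_c_rc_24_4 lc_c_rc_22_5 lc_c_rc_7_3 lc_c_rc_26_8 lc_c_rc_25_1 lc_c_rc_14_2 lc_c_rc_7_5 lc_c_rc_11_1 lc_c_rc_25_5 lc_c_rc_26_4 lc_c_rc_11_1 lc_c_rc_13_0 lc_c_rc_7_5 lc_c_rc_24_2 lc_c_rc_23_5 lc_c_rc_13_2 lc_c_rc_11_1 lc_c_rc_24_4 lc_c_rc_13_2 lc_c_rc_26_4 lc_c_rc_13_0 lc_c_rc_24_4 lc_c_rc_14_2 lc_c_rc_14_2 lc_c_rc_14_2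 lc_c_rc_11_1 lc_c_rc_7_5 lc_c_rc_14_2 lc_c_rc_26_2 lc_c_rc_24_8 lc_c_rc_12_2 lc_c_rc_24_2 lc_c_rc_13_2 lc_c_rc_26_4 lc_c_rc_11_1 lc_c_Cert_tree lc_c_rc_12_0 lc_c_rc_26_4 lc_c_rc_11_1 lc_c_rc_2_3 lc_c_rc_23_5 lc_c_Cert_tree lc_c_rc_13_0 lc_c_rc_11_1 lc_c_rc_14_2 lc_c_rc_2_1 lc_c_rc_7_3 lc_c_rc_11_1 lc_c_rc_11_1 lc_c_rc_11_1 lc_c_Cert_tree lc_c_rc_7_3) (@D3.rec (fun _ => (Cert rels S Gen.c)) lc_c_rc_13_2 lc_c_rc_11_1 lc_c_rc_13_2 lc_c_Cert_tree lc_c_rc_7_3 lc_c_rc_11_1 lc_c_rc_11_1 lc_c_Cert_tree lc_c_rc_11_1 lc_c_rc_23_5 lc_c_rc_24_6 lc_c_rc_22_5 lc_c_rc_7_3 lc_c_rc_22_5 lc_c_rc_14_2 lc_c_rc_13_0 lc_c_rc_11_1 lc_c_rc_7_3 lc_c_rc_26_4 lc_c_rc_11_1 lc_c_rc_13_2 lc_c_rc_14_2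 lc_c_rc_26_8 lc_c_rc_11_1 lc_c_rc_13_2 lc_c_rc_26_4 lc_c_rc_11_1 lc_c_rc_11_1 lc_c_rc_11_1 lc_c_Cert_tree lc_c_rc_11_1 lc_c_rc_14_2 lc_c_rc_26_2 lc_c_rc_11_1 lc_c_rc_13_2 lc_c_rc_11_1 lc_c_rc_2_3 lc_c_rc_11_1 lc_c_rc_11_1 lc_c_rc_11_1 lc_c_rc_26_8 lc_c_rc_7_1 lc_c_rc_11_1 lc_c_rc_11_1 lc_c_rc_26_10 lc_c_rc_11_1 lc_c_rc_24_2 lc_c_rc_13_2 lc_c_rc_14_2 lc_c_rc_11_1 lc_c_rc_7_5 lc_c_rc_14_0 lc_c_rc_11_1 lc_c_rc_26_10 lc_c_rc_23_5 lc_c_rc_26_8 lc_c_rc_7_3 lc_c_rc_11_1 lc_c_Cert_tree lc_c_rc_11_1 lc_c_Cert_tree lc_c_rc_13_0) (@D3.rec (fun _ => (Cert rels S Gen.c)) lc_c_Cert_tree lc_c_rc_11_1 lc_c_rc_14_2 lc_c_rc_26_2 lc_c_rc_14_2 lc_c_rc_26_4 lc_c_rc_11_1 lc_c_rc_24_2 lc_c_rc_26_4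 lc_c_rc_11_1 lc_c_rc_23_5 lc_c_rc_25_1 lc_c_rc_7_3 lc_c_rc_11_1 lc_c_rc_24_4 lc_c_rc_13_2 lc_c_rc_24_2 lc_c_rc_23_0 lc_c_rc_22_7 lc_c_rc_26_10 lc_c_rc_11_1 lc_c_rc_2_3 lc_c_rc_13_0 lc_c_rc_11_1 lc_c_rc_11_1 lc_c_rc_11_1 lc_c_rc_23_5 lc_c_rc_13_2 lc_c_rc_7_3 lc_c_rc_12_8 lc_c_rc_23_0 lc_c_rc_2_3 lc_c_rc_22_7 lc_c_rc_14_2 lc_c_rc_11_1 lc_c_rc_24_6 lc_c_rc_7_5 lc_c_rc_7_1 lc_c_rc_11_1 lc_c_rc_12_2 lc_c_rc_22_3 lc_c_rc_26_4 lc_c_rc_11_1 lc_c_rc_13_2 lc_c_rc_11_1 lc_c_rc_2_3 lc_c_rc_13_2 lc_c_rc_11_1 lc_c_rc_26_4 lc_c_rc_22_3 lc_c_rc_26_10 lc_c_rc_22_7 lc_c_rc_24_8 lc_c_rc_7_5 lc_c_rc_14_2 lc_c_rc_2_3 lc_c_rc_13_0 lc_c_rc_11_1 lc_c_rc_12_2 lc_c_rc_7_3 lc_c_rc_12_2 lc_c_rc_7_3)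 (@D3.rec (fun _ => (Cert rels S Gen.c)) lc_c_rc_22_3 lc_c_rc_26_4 lc_c_rc_11_1 lc_c_rc_26_2 lc_c_rc_7_5 lc_c_rc_22_3 lc_c_rc_13_2 lc_c_rc_13_2 lc_c_rc_2_3 lc_c_rc_11_1 lc_c_rc_24_2 lc_c_rc_24_2 lc_c_rc_25_17 lc_c_rc_11_1 lc_c_rc_25_1 lc_c_rc_13_2 lc_c_Cert_tree lc_c_rc_11_1 lc_c_rc_7_1 lc_c_rc_13_2 lc_c_rc_11_1 lc_c_rc_11_1 lc_c_rc_13_2 lc_c_rc_13_2 lc_c_rc_24_4 lc_c_rc_11_1 lc_c_rc_13_2 lc_c_rc_13_0 lc_c_rc_7_3 lc_c_Cert_tree lc_c_rc_14_2 lc_c_rc_13_2 lc_c_rc_22_3 lc_c_rc_26_2 lc_c_rc_11_1 lc_c_rc_13_2 lc_c_rc_26_2 lc_c_rc_11_1 lc_c_rc_2_3 lc_c_rc_23_0 lc_c_rc_23_0 lc_c_rc_11_1 lc_c_rc_13_0 lc_c_rc_7_5 lc_c_rc_26_10 lc_c_rc_24_2 lc_c_rc_13_2 lc_c_rc_22_9 lc_c_rc_26_8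 lc_c_rc_13_2 lc_c_rc_11_1 lc_c_rc_23_0 lc_c_rc_22_5 lc_c_rc_11_1 lc_c_rc_24_6 lc_c_rc_11_1 lc_c_rc_7_1 lc_c_rc_12_2 lc_c_rc_24_2 lc_c_rc_13_0 lc_c_rc_25_5 lc_c_rc_26_10) (@D3.rec (fun _ => (Cert rels S Gen.c)) lc_c_rc_11_1 lc_c_rc_24_4 lc_c_rc_24_8 lc_c_rc_7_5 lc_c_rc_11_1 lc_c_rc_11_1 lc_c_Cert_tree lc_c_rc_7_1 lc_c_rc_7_3 lc_c_rc_2_1 lc_c_rc_11_1 lc_c_rc_2_1 lc_c_rc_26_8 lc_c_rc_26_2 lc_c_rc_22_9 lc_c_rc_14_2 lc_c_rc_11_1 lc_c_rc_11_1 lc_c_rc_22_3 lc_c_rc_25_17 lc_c_rc_11_1 lc_c_rc_7_5 lc_c_rc_11_1 lc_c_rc_13_2 lc_c_rc_11_1 lc_c_rc_23_5 lc_c_rc_13_2 lc_c_rc_11_1 lc_c_rc_26_10 lc_c_rc_11_1 lc_c_Cert_tree lc_c_rc_7_3 lc_c_rc_7_3 lc_c_rc_13_2 lc_c_rc_11_1 lc_c_rc_14_2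 lc_c_Cert_tree lc_c_rc_11_1 lc_c_rc_25_13 lc_c_rc_14_0 lc_c_rc_22_5 lc_c_rc_22_9 lc_c_rc_25_1 lc_c_rc_26_10 lc_c_rc_13_2 lc_c_rc_26_10 lc_c_rc_2_1 lc_c_rc_14_2 lc_c_rc_11_1 lc_c_rc_13_2 lc_c_Cert_tree lc_c_rc_11_1 lc_c_rc_24_6 lc_c_rc_7_3 lc_c_rc_2_1 lc_c_rc_7_5 lc_c_rc_13_2 lc_c_rc_23_0 lc_c_rc_23_0 lc_c_rc_26_10 lc_c_rc_13_2 lc_c_Cert_tree) (@D3.rec (fun _ => (Cert rels S Gen.c)) lc_c_rc_13_2 lc_c_rc_2_3 lc_c_rc_7_1 lc_c_rc_23_5 lc_c_rc_11_1 lc_c_rc_7_5 lc_c_rc_11_1 lc_c_rc_13_2 lc_c_rc_22_3 lc_c_rc_11_1 lc_c_rc_11_1 lc_c_rc_12_0 lc_c_rc_22_3 lc_c_rc_13_2 lc_c_rc_2_1 lc_c_rc_11_1 lc_c_rc_11_1 lc_c_rc_11_1 lc_c_rc_11_1 lc_c_rc_13_2 lc_c_rc_11_1 lc_c_rc_13_2 lc_c_rc_14_2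 lc_c_rc_7_1 lc_c_rc_7_5 lc_c_rc_7_5 lc_c_rc_13_2 lc_c_rc_11_1 lc_c_rc_7_3 lc_c_rc_24_2 lc_c_rc_2_3 lc_c_rc_14_2 lc_c_rc_26_2 lc_c_rc_11_1 lc_c_rc_13_2 lc_c_rc_14_2 lc_c_rc_11_1 lc_c_rc_23_0 lc_c_rc_11_1 lc_c_rc_13_2 lc_c_rc_2_3 lc_c_rc_24_2 lc_c_rc_26_8 lc_c_rc_13_2 lc_c_rc_7_5 lc_c_rc_7_5 lc_c_Cert_tree lc_c_rc_26_2 lc_c_rc_24_2 lc_c_rc_2_1 lc_c_rc_26_4 lc_c_rc_12_0 lc_c_rc_2_1 lc_c_rc_11_1 lc_c_rc_14_2 lc_c_rc_11_1 lc_c_rc_11_1 lc_c_rc_7_3 lc_c_rc_13_2 lc_c_rc_11_1 lc_c_rc_13_2 lc_c_rc_24_6) (@D3.rec (fun _ => (Cert rels S Gen.c)) lc_c_rc_11_1 lc_c_rc_24_2 lc_c_rc_11_1 lc_c_rc_7_3 lc_c_rc_24_8 lc_c_rc_11_1 lc_c_rc_24_2 lc_c_Cert_tree lc_c_Cert_tree lc_c_rc_11_1 lc_c_rc_14_0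 lc_c_rc_22_3 lc_c_rc_11_1 lc_c_Cert_tree lc_c_rc_2_3 lc_c_rc_11_1 lc_c_rc_11_1 lc_c_rc_13_0 lc_c_rc_13_2 lc_c_rc_13_2 lc_c_rc_22_5 lc_c_rc_13_2 lc_c_rc_22_3 lc_c_rc_13_2 lc_c_rc_23_0 lc_c_rc_13_2 lc_c_rc_13_2 lc_c_rc_12_0 lc_c_rc_26_4 lc_c_rc_13_2 lc_c_Cert_tree lc_c_rc_11_1 lc_c_rc_24_4 lc_c_rc_26_10 lc_c_rc_14_2 lc_c_rc_13_2 lc_c_rc_14_2 lc_c_rc_13_2 lc_c_rc_14_2 lc_c_rc_12_0 lc_c_rc_7_5 lc_c_Cert_tree lc_c_rc_12_2 lc_c_rc_24_2 lc_c_rc_11_1 lc_c_rc_7_1 lc_c_rc_7_3 lc_c_rc_13_2 lc_c_rc_11_1 lc_c_rc_13_0 lc_c_rc_11_1 lc_c_rc_12_2 lc_c_rc_23_0 lc_c_rc_23_0 lc_c_rc_14_2 lc_c_rc_7_5 lc_c_rc_14_2 lc_c_rc_11_1 lc_c_rc_13_2 lc_c_rc_24_2 lc_c_rc_22_9 lc_c_rc_11_1) (@D3.rec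 (fun _ => (Cert rels S Gen.c)) lc_c_rc_11_1 lc_c_rc_11_1 lc_c_rc_26_4 lc_c_rc_25_13 lc_c_rc_23_0 lc_c_rc_26_8 lc_c_rc_11_1 lc_c_rc_11_1 lc_c_rc_11_1 lc_c_rc_22_3 lc_c_rc_24_4 lc_c_rc_14_2 lc_c_rc_26_4 lc_c_rc_11_1 lc_c_rc_25_17 lc_c_rc_24_2 lc_c_rc_13_2 lc_c_rc_11_1 lc_c_rc_13_2 lc_c_rc_7_3 lc_c_rc_22_3 lc_c_rc_11_1 lc_c_rc_13_2 lc_c_rc_11_1 lc_c_rc_24_4 lc_c_rc_14_2 lc_c_rc_26_4 lc_c_rc_7_3 lc_c_rc_11_1 lc_c_rc_26_2 lc_c_rc_7_5 lc_c_rc_14_2 lc_c_rc_2_3 lc_c_rc_13_2 lc_c_rc_13_2 lc_c_rc_11_1 lc_c_rc_11_1 lc_c_rc_13_2 lc_c_rc_7_5 lc_c_rc_26_10 lc_c_rc_23_0 lc_c_rc_12_14 lc_c_rc_14_2 lc_c_rc_23_0 lc_c_rc_11_1 lc_c_rc_11_1 lc_c_rc_7_5 lc_c_rc_11_1 lc_c_rc_11_1 lc_c_rc_14_0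 lc_c_rc_23_0 lc_c_rc_24_2 lc_c_rc_24_8 lc_c_rc_11_1 lc_c_rc_2_1 lc_c_rc_24_8 lc_c_rc_22_3 lc_c_rc_22_3 lc_c_rc_7_1 lc_c_rc_11_1 lc_c_Cert_tree lc_c_Cert_tree) (@D3.rec (fun _ => (Cert rels S Gen.c)) lc_c_rc_11_1 lc_c_rc_26_10 lc_c_rc_13_2 lc_c_rc_22_5 lc_c_Cert_tree lc_c_Cert_tree lc_c_rc_11_1 lc_c_rc_7_3 lc_c_rc_24_2 lc_c_rc_14_2 lc_c_rc_24_4 lc_c_rc_26_4 lc_c_rc_13_2 lc_c_rc_13_2 lc_c_rc_13_2 lc_c_Cert_tree lc_c_rc_13_2 lc_c_rc_11_1 lc_c_rc_26_4 lc_c_rc_14_0 lc_c_rc_2_3 lc_c_rc_13_0 lc_c_rc_22_5 lc_c_rc_13_2 lc_c_rc_11_1 lc_c_rc_22_3 lc_c_rc_7_5 lc_c_rc_7_5 lc_c_rc_7_5 lc_c_rc_13_2 lc_c_rc_22_3 lc_c_rc_11_1 lc_c_rc_24_6 lc_c_rc_11_1 lc_c_rc_22_5 lc_c_rc_11_1 lc_c_rc_26_4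 lc_c_rc_13_2 lc_c_rc_11_1 lc_c_rc_22_3 lc_c_rc_11_1 lc_c_rc_13_2 lc_c_rc_2_3 lc_c_Cert_tree lc_c_Cert_tree lc_c_rc_13_2 lc_c_rc_23_0 lc_c_rc_26_4 lc_c_rc_13_2 lc_c_rc_13_2 lc_c_rc_11_1 lc_c_rc_13_2 lc_c_rc_26_8 lc_c_rc_24_2 lc_c_rc_23_5 lc_c_rc_26_4 lc_c_rc_26_4 lc_c_rc_22_3 lc_c_rc_13_0 lc_c_rc_13_0 lc_c_rc_24_8 lc_c_rc_24_2) (@D3.rec (fun _ => (Cert rels S Gen.c)) lc_c_rc_14_2 lc_c_rc_11_1 lc_c_rc_11_1 lc_c_rc_26_4 lc_c_rc_11_1 lc_c_rc_13_2 lc_c_rc_11_1 lc_c_rc_11_1 lc_c_rc_14_2 lc_c_rc_24_2 lc_c_rc_13_0 lc_c_rc_2_3 lc_c_rc_13_2 lc_c_rc_11_1 lc_c_rc_7_5 lc_c_rc_22_5 lc_c_rc_13_2 lc_c_rc_14_2 lc_c_rc_2_3 lc_c_rc_2_3 lc_c_rc_13_2 lc_c_rc_23_0 lc_c_rc_23_5 lc_c_rc_11_1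 lc_c_rc_25_5 lc_c_rc_11_1 lc_c_rc_7_5 lc_c_rc_11_1 lc_c_rc_24_4 lc_c_rc_13_2 lc_c_rc_2_3 lc_c_rc_13_2 lc_c_rc_11_1 lc_c_rc_11_1 lc_c_rc_22_7 lc_c_rc_14_2 lc_c_rc_24_6 lc_c_rc_11_1 lc_c_rc_24_8 lc_c_rc_7_5 lc_c_rc_13_2 lc_c_rc_26_8 lc_c_rc_13_2 lc_c_rc_13_2 lc_c_rc_11_1 lc_c_rc_7_5 lc_c_rc_26_2 lc_c_rc_13_2 lc_c_rc_22_5 lc_c_rc_26_2 lc_c_rc_26_4 lc_c_rc_13_2 lc_c_rc_14_2 lc_c_rc_13_2 lc_c_rc_11_1 lc_c_rc_23_0 lc_c_rc_24_4 lc_c_rc_13_2 lc_c_rc_7_5 lc_c_rc_11_1 lc_c_rc_26_8 lc_c_rc_11_1) (@D3.rec (fun _ => (Cert rels S Gen.c)) lc_c_rc_26_4 lc_c_rc_7_5 lc_c_rc_25_17 lc_c_rc_23_0 lc_c_rc_11_1 lc_c_rc_11_1 lc_c_rc_12_2 lc_c_rc_11_1 lc_c_rc_11_1 lc_c_rc_22_9 lc_c_rc_7_3 lc_c_rc_22_7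 lc_c_rc_13_2 lc_c_rc_24_8 lc_c_rc_23_0 lc_c_rc_7_5 lc_c_Cert_tree lc_c_rc_11_1 lc_c_rc_14_2 lc_c_rc_26_8 lc_c_rc_11_1 lc_c_rc_2_3 lc_c_rc_24_2 lc_c_rc_13_2 lc_c_rc_11_1 lc_c_rc_11_1 lc_c_rc_11_1 lc_c_rc_11_1 lc_c_rc_11_1 lc_c_rc_11_1 lc_c_rc_13_2 lc_c_rc_26_4 lc_c_rc_11_1 lc_c_rc_13_2 lc_c_rc_26_8 lc_c_rc_7_5 lc_c_rc_24_8 lc_c_rc_13_2 lc_c_rc_14_2 lc_c_rc_7_3 lc_c_rc_26_4 lc_c_rc_23_5 lc_c_rc_26_4 lc_c_Cert_tree lc_c_rc_25_17 lc_c_rc_13_2 lc_c_rc_22_7 lc_c_rc_13_0 lc_c_Cert_tree lc_c_rc_7_5 lc_c_rc_7_5 lc_c_rc_13_0 lc_c_rc_13_0 lc_c_rc_11_1 lc_c_rc_26_4 lc_c_rc_2_1 lc_c_rc_13_2 lc_c_rc_13_2 lc_c_rc_22_3 lc_c_rc_13_2 lc_c_rc_23_0 lc_c_rc_13_2) (@D3.rec (fun _ => (Cert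 rels S Gen.c)) lc_c_rc_14_2 lc_c_rc_2_3 lc_c_rc_25_5 lc_c_rc_14_2 lc_c_Cert_tree lc_c_rc_2_3 lc_c_rc_7_3 lc_c_rc_24_4 lc_c_rc_23_0 lc_c_rc_13_2 lc_c_rc_11_1 lc_c_rc_11_1 lc_c_rc_13_2 lc_c_rc_12_2 lc_c_rc_24_8 lc_c_rc_23_5 lc_c_rc_26_10 lc_c_rc_14_2 lc_c_rc_11_1 lc_c_rc_7_5 lc_c_rc_11_1 lc_c_rc_24_4 lc_c_rc_11_1 lc_c_rc_23_5 lc_c_rc_26_4 lc_c_rc_13_2 lc_c_rc_13_2 lc_c_rc_13_2 lc_c_rc_13_2 lc_c_rc_26_2 lc_c_rc_24_4 lc_c_rc_26_8 lc_c_rc_14_2 lc_c_rc_13_2 lc_c_rc_7_5 lc_c_rc_14_2 lc_c_rc_11_1 lc_c_rc_23_5 lc_c_rc_11_1 lc_c_rc_13_2 lc_c_rc_11_1 lc_c_rc_13_2 lc_c_rc_13_2 lc_c_rc_25_1 lc_c_rc_2_1 lc_c_rc_25_1 lc_c_rc_24_4 lc_c_rc_24_2 lc_c_rc_24_6 lc_c_rc_11_1 lc_c_rc_2_1 lc_c_Cert_tree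 lc_c_rc_11_1 lc_c_rc_13_2 lc_c_rc_7_3 lc_c_rc_11_1 lc_c_rc_13_2 lc_c_rc_13_0 lc_c_rc_26_2 lc_c_rc_23_5 lc_c_rc_2_3 lc_c_rc_13_0) (@D3.rec (fun _ => (Cert rels S Gen.c)) lc_c_rc_13_2 lc_c_rc_7_3 lc_c_rc_11_1 lc_c_rc_24_4 lc_c_rc_13_2 lc_c_rc_13_2 lc_c_rc_14_2 lc_c_rc_2_3 lc_c_rc_7_1 lc_c_rc_12_2 lc_c_rc_13_2 lc_c_rc_22_5 lc_c_rc_2_1 lc_c_rc_7_3 lc_c_rc_11_1 lc_c_rc_23_0 lc_c_Cert_tree lc_c_rc_14_2 lc_c_rc_22_7 lc_c_Cert_tree lc_c_rc_13_0 lc_c_rc_11_1 lc_c_rc_26_2 lc_c_rc_22_3 lc_c_rc_2_3 lc_c_rc_13_2 lc_c_rc_24_6 lc_c_rc_23_0 lc_c_rc_24_2 lc_c_rc_13_2 lc_c_rc_7_5 lc_c_rc_22_3 lc_c_rc_11_1 lc_c_rc_11_1 lc_c_rc_22_3 lc_c_Cert_tree lc_c_rc_13_2 lc_c_rc_26_8 lc_c_rc_23_0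 lc_c_rc_11_1 lc_c_rc_13_0 lc_c_rc_14_2 lc_c_rc_11_1 lc_c_rc_13_2 lc_c_rc_11_1 lc_c_rc_7_5 lc_c_rc_2_1 lc_c_rc_14_2 lc_c_rc_13_2 lc_c_Cert_tree lc_c_rc_2_3 lc_c_Cert_tree lc_c_rc_11_1 lc_c_rc_13_0 lc_c_rc_11_1 lc_c_rc_24_6 lc_c_rc_11_1 lc_c_rc_2_1 lc_c_rc_7_5 lc_c_rc_13_0 lc_c_rc_11_1 lc_c_rc_26_2) (@D3.rec (fun _ => (Cert rels S Gen.c)) lc_c_rc_14_2 lc_c_rc_26_4 lc_c_rc_11_1 lc_c_rc_23_5 lc_c_rc_2_1 lc_c_rc_11_1 lc_c_rc_23_5 lc_c_rc_11_1 lc_c_rc_26_4 lc_c_rc_22_5 lc_c_rc_13_2 lc_c_rc_7_5 lc_c_rc_22_5 lc_c_rc_13_2 lc_c_rc_11_1 lc_c_rc_7_5 lc_c_rc_11_1 lc_c_rc_14_0 lc_c_rc_13_2 lc_c_rc_26_4 lc_c_rc_11_1 lc_c_rc_14_0 lc_c_rc_14_0 lc_c_rc_24_2 lc_c_rc_11_1 lc_c_rc_7_5 lc_c_rc_11_1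 lc_c_rc_12_14 lc_c_rc_13_2 lc_c_rc_7_3 lc_c_rc_11_1 lc_c_rc_13_2 lc_c_rc_11_1 lc_c_rc_13_0 lc_c_rc_23_0 lc_c_rc_11_1 lc_c_rc_7_5 lc_c_Cert_tree lc_c_rc_7_3 lc_c_rc_11_1 lc_c_rc_7_3 lc_c_Cert_tree lc_c_rc_7_3 lc_c_rc_13_2 lc_c_rc_22_9 lc_c_rc_13_2 lc_c_rc_22_5 lc_c_rc_11_1 lc_c_rc_11_1 lc_c_rc_13_2 lc_c_rc_13_2 lc_c_rc_24_2 lc_c_rc_14_2 lc_c_rc_23_0 lc_c_rc_24_2 lc_c_rc_14_2 lc_c_rc_13_2 lc_c_rc_13_2 lc_c_rc_11_1 lc_c_Cert_tree lc_c_rc_2_3 lc_c_rc_2_1) (@D3.rec (fun _ => (Cert rels S Gen.c)) lc_c_rc_22_7 lc_c_rc_2_3 lc_c_rc_7_3 lc_c_rc_11_1 lc_c_rc_23_0 lc_c_rc_26_2 lc_c_rc_11_1 lc_c_rc_11_1 lc_c_rc_23_0 lc_c_rc_7_3 lc_c_rc_14_2 lc_c_rc_13_2 lc_c_rc_23_0 lc_c_rc_11_1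 lc_c_rc_25_1 lc_c_rc_24_4 lc_c_rc_23_0 lc_c_rc_7_5 lc_c_rc_23_0 lc_c_rc_7_3 lc_c_Cert_tree lc_c_rc_23_5 lc_c_rc_24_8 lc_c_rc_11_1 lc_c_rc_11_1 lc_c_rc_7_3 lc_c_rc_26_4 lc_c_rc_11_1 lc_c_rc_11_1 lc_c_rc_2_3 lc_c_rc_24_2 lc_c_rc_26_10 lc_c_rc_22_5 lc_c_rc_7_5 lc_c_rc_7_3 lc_c_rc_11_1 lc_c_rc_2_3 lc_c_rc_7_3 lc_c_rc_25_1 lc_c_rc_24_4 lc_c_rc_11_1 lc_c_rc_26_8 lc_c_rc_26_4 lc_c_rc_13_2 lc_c_rc_13_2 lc_c_rc_26_10 lc_c_rc_26_10 lc_c_rc_26_2 lc_c_rc_26_2 lc_c_rc_14_2 lc_c_Cert_tree lc_c_rc_14_2 lc_c_rc_11_1 lc_c_rc_11_1 lc_c_rc_2_1 lc_c_rc_23_5 lc_c_rc_11_1 lc_c_rc_25_1 lc_c_rc_13_2 lc_c_rc_13_2 lc_c_rc_13_2 lc_c_rc_11_1) (@D3.rec (fun _ => (Cert rels S Gen.c)) lc_c_rc_11_1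 lc_c_rc_13_2 lc_c_rc_26_4 lc_c_rc_13_2 lc_c_rc_14_2 lc_c_rc_11_1 lc_c_rc_2_3 lc_c_rc_13_2 lc_c_Cert_tree lc_c_rc_14_2 lc_c_rc_11_1 lc_c_rc_13_2 lc_c_rc_11_1 lc_c_rc_26_2 lc_c_rc_7_1 lc_c_rc_23_5 lc_c_rc_13_2 lc_c_rc_11_1 lc_c_rc_23_5 lc_c_rc_11_1 lc_c_rc_11_1 lc_c_rc_11_1 lc_c_rc_26_4 lc_c_rc_13_0 lc_c_Cert_tree lc_c_Cert_tree lc_c_rc_11_1 lc_c_rc_14_2 lc_c_rc_11_1 lc_c_rc_13_2 lc_c_rc_26_10 lc_c_rc_22_7 lc_c_rc_26_10 lc_c_rc_7_3 lc_c_rc_13_2 lc_c_rc_14_2 lc_c_rc_26_4 lc_c_rc_2_3 lc_c_rc_26_8 lc_c_rc_11_1 lc_c_rc_13_2 lc_c_rc_23_0 lc_c_rc_11_1 lc_c_rc_26_4 lc_c_rc_26_10 lc_c_rc_11_1 lc_c_rc_23_0 lc_c_rc_14_2 lc_c_rc_23_0 lc_c_rc_14_0 lc_c_rc_26_2 lc_c_rc_11_1 lc_c_rc_26_4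 lc_c_rc_26_4 lc_c_rc_11_1 lc_c_rc_25_13 lc_c_rc_7_5 lc_c_rc_11_1 lc_c_rc_2_3 lc_c_rc_13_2 lc_c_rc_13_0 lc_c_rc_24_8) (@D3.rec (fun _ => (Cert rels S Gen.c)) lc_c_rc_7_3 lc_c_rc_11_1 lc_c_rc_11_1 lc_c_rc_11_1 lc_c_rc_26_4 lc_c_rc_13_2 lc_c_rc_23_5 lc_c_rc_26_4 lc_c_rc_11_1 lc_c_rc_23_5 lc_c_rc_11_1 lc_c_rc_13_2 lc_c_rc_24_4 lc_c_rc_11_1 lc_c_rc_7_3 lc_c_rc_26_2 lc_c_rc_13_0 lc_c_rc_24_2 lc_c_rc_26_4 lc_c_rc_22_5 lc_c_rc_13_2 lc_c_rc_24_6 lc_c_rc_7_3 lc_c_rc_13_2 lc_c_rc_26_4 lc_c_Cert_tree lc_c_rc_11_1 lc_c_rc_14_2 lc_c_rc_14_2 lc_c_rc_13_2 lc_c_rc_2_1 lc_c_rc_22_3 lc_c_rc_13_2 lc_c_rc_11_1 lc_c_rc_13_2 lc_c_Cert_tree lc_c_rc_11_1 lc_c_rc_26_4 lc_c_rc_11_1 lc_c_rc_23_5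 lc_c_rc_11_1 lc_c_rc_11_1 lc_c_rc_2_3 lc_c_rc_24_4 lc_c_rc_11_1 lc_c_rc_22_7 lc_c_rc_23_5 lc_c_rc_25_1 lc_c_rc_13_2 lc_c_rc_14_2 lc_c_rc_14_0 lc_c_rc_13_2 lc_c_rc_2_3 lc_c_rc_11_1 lc_c_rc_11_1 lc_c_rc_11_1 lc_c_rc_11_1 lc_c_Cert_tree lc_c_rc_11_1 lc_c_rc_14_2 lc_c_rc_13_2 lc_c_rc_7_3) (@D3.rec (fun _ => (Cert rels S Gen.c)) lc_c_rc_7_3 lc_c_rc_23_0 lc_c_rc_7_3 lc_c_rc_13_0 lc_c_Cert_tree lc_c_rc_2_3 lc_c_rc_14_2 lc_c_rc_24_8 lc_c_rc_11_1 lc_c_rc_26_4 lc_c_rc_11_1 lc_c_rc_25_5 lc_c_rc_7_3 lc_c_rc_24_4 lc_c_rc_11_1 lc_c_rc_26_10 lc_c_rc_26_10 lc_c_rc_11_1 lc_c_rc_13_2 lc_c_rc_2_3 lc_c_rc_26_2 lc_c_rc_24_6 lc_c_rc_13_2 lc_c_rc_14_2 lc_c_Cert_tree lc_c_rc_22_9 lc_c_rc_2_1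 lc_c_rc_2_1 lc_c_Cert_tree lc_c_rc_11_1 lc_c_rc_13_2 lc_c_rc_22_3 lc_c_rc_24_6 lc_c_rc_13_2 lc_c_rc_7_5 lc_c_rc_14_2 lc_c_rc_11_1 lc_c_rc_11_1 lc_c_rc_12_2 lc_c_rc_11_1 lc_c_rc_13_2 lc_c_rc_13_2 lc_c_rc_7_1 lc_c_rc_26_10 lc_c_rc_26_8 lc_c_rc_13_2 lc_c_rc_24_2 lc_c_rc_26_10 lc_c_rc_13_0 lc_c_rc_13_0 lc_c_rc_14_2 lc_c_rc_13_2 lc_c_Cert_tree lc_c_rc_11_1 lc_c_rc_13_2 lc_c_rc_24_6 lc_c_rc_24_6 lc_c_rc_23_5 lc_c_rc_26_4 lc_c_rc_23_5 lc_c_rc_7_3 lc_c_rc_24_2) (@D3.rec (fun _ => (Cert rels S Gen.c)) lc_c_rc_11_1 lc_c_rc_11_1 lc_c_rc_13_2 lc_c_rc_7_5 lc_c_rc_2_1 lc_c_rc_11_1 lc_c_rc_23_0 lc_c_rc_14_2 lc_c_rc_26_2 lc_c_rc_13_2 lc_c_rc_7_5 lc_c_rc_24_4 lc_c_rc_26_4 lc_c_rc_24_2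 lc_c_rc_7_5 lc_c_rc_23_5 lc_c_rc_13_2 lc_c_rc_11_1 lc_c_rc_11_1 lc_c_rc_11_1 lc_c_rc_13_0 lc_c_rc_22_3 lc_c_rc_24_6 lc_c_rc_26_8 lc_c_rc_13_2 lc_c_rc_7_1 lc_c_rc_23_5 lc_c_rc_26_10 lc_c_rc_11_1 lc_c_rc_11_1 lc_c_rc_11_1 lc_c_rc_13_2 lc_c_rc_23_0 lc_c_rc_23_0 lc_c_rc_11_1 lc_c_Cert_tree lc_c_rc_26_4 lc_c_rc_11_1 lc_c_rc_13_2 lc_c_rc_11_1 lc_c_rc_13_2 lc_c_rc_2_1 lc_c_rc_11_1 lc_c_rc_13_2 lc_c_Cert_tree lc_c_Cert_tree lc_c_rc_11_1 lc_c_rc_7_1 lc_c_rc_13_2 lc_c_rc_26_10 lc_c_rc_25_5 lc_c_rc_11_1 lc_c_rc_26_2 lc_c_rc_23_0 lc_c_rc_13_2 lc_c_rc_23_0 lc_c_rc_11_1 lc_c_rc_24_4 lc_c_rc_11_1 lc_c_rc_11_1 lc_c_rc_13_2 lc_c_rc_14_0) (@D3.rec (fun _ => (Cert rels S Gen.c)) lc_c_rc_14_2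 lc_c_Cert_tree lc_c_rc_13_2 lc_c_rc_11_1 lc_c_rc_14_2 lc_c_rc_11_1 lc_c_rc_26_10 lc_c_rc_11_1 lc_c_rc_23_0 lc_c_rc_2_3 lc_c_rc_11_1 lc_c_rc_13_2 lc_c_rc_13_0 lc_c_rc_14_2 lc_c_rc_11_1 lc_c_rc_7_1 lc_c_rc_11_1 lc_c_rc_13_2 lc_c_rc_2_1 lc_c_rc_14_2 lc_c_rc_7_3 lc_c_rc_24_4 lc_c_rc_7_5 lc_c_rc_25_1 lc_c_rc_26_4 lc_c_rc_7_1 lc_c_rc_24_6 lc_c_rc_26_4 lc_c_rc_7_3 lc_c_rc_24_6 lc_c_rc_23_5 lc_c_rc_24_4 lc_c_rc_26_2 lc_c_rc_11_1 lc_c_rc_11_1 lc_c_rc_2_3 lc_c_rc_26_4 lc_c_rc_7_5 lc_c_rc_25_5 lc_c_Cert_tree lc_c_rc_7_3 lc_c_rc_25_5 lc_c_rc_11_1 lc_c_rc_26_2 lc_c_rc_13_2 lc_c_rc_11_1 lc_c_rc_24_4 lc_c_rc_13_2 lc_c_rc_13_2 lc_c_rc_11_1 lc_c_rc_7_3 lc_c_rc_24_4 lc_c_rc_11_1 lc_c_rc_7_1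 lc_c_rc_11_1 lc_c_rc_11_1 lc_c_Cert_tree lc_c_rc_11_1 lc_c_rc_11_1 lc_c_rc_7_3 lc_c_rc_7_5 lc_c_rc_13_2) (@D3.rec (fun _ => (Cert rels S Gen.c)) lc_c_Cert_tree lc_c_Cert_tree lc_c_rc_13_2 lc_c_rc_26_2 lc_c_rc_13_2 lc_c_rc_11_1 lc_c_rc_13_2 lc_c_rc_22_7 lc_c_rc_26_10 lc_c_rc_13_2 lc_c_rc_13_2 lc_c_Cert_tree lc_c_rc_11_1 lc_c_rc_22_3 lc_c_rc_22_3 lc_c_rc_13_2 lc_c_rc_13_0 lc_c_rc_11_1 lc_c_rc_11_1 lc_c_rc_11_1 lc_c_rc_25_17 lc_c_rc_13_2 lc_c_Cert_tree lc_c_Cert_tree lc_c_rc_11_1 lc_c_rc_11_1 lc_c_rc_11_1 lc_c_rc_2_3 lc_c_rc_11_1 lc_c_rc_13_2 lc_c_rc_11_1 lc_c_rc_7_5 lc_c_rc_11_1 lc_c_rc_26_4 lc_c_rc_13_0 lc_c_rc_24_6 lc_c_rc_14_2 lc_c_rc_11_1 lc_c_rc_2_3 lc_c_rc_26_4 lc_c_rc_11_1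 lc_c_rc_26_4 lc_c_rc_7_3 lc_c_rc_13_2 lc_c_rc_11_1 lc_c_rc_13_2 lc_c_rc_23_0 lc_c_rc_2_1 lc_c_rc_13_2 lc_c_rc_26_10 lc_c_rc_7_5 lc_c_rc_22_3 lc_c_rc_11_1 lc_c_rc_12_2 lc_c_rc_26_10 lc_c_rc_11_1 lc_c_rc_14_2 lc_c_rc_24_4 lc_c_rc_7_5 lc_c_rc_2_3 lc_c_rc_14_2 lc_c_rc_26_2) (@D3.rec (fun _ => (Cert rels S Gen.c)) lc_c_rc_13_2 lc_c_rc_25_1 lc_c_rc_13_2 lc_c_Cert_tree lc_c_rc_22_7 lc_c_rc_11_1 lc_c_rc_14_2 lc_c_rc_7_3 lc_c_rc_11_1 lc_c_rc_11_1 lc_c_rc_11_1 lc_c_rc_23_5 lc_c_rc_23_0 lc_c_rc_7_3 lc_c_rc_11_1 lc_c_rc_23_0 lc_c_rc_7_1 lc_c_rc_2_1 lc_c_rc_13_2 lc_c_rc_13_0 lc_c_rc_13_0 lc_c_rc_13_0 lc_c_rc_26_4 lc_c_rc_26_8 lc_c_rc_23_5 lc_c_rc_11_1 lc_c_rc_7_5 lc_c_rc_2_3 lc_c_rc_11_1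 lc_c_rc_14_0 lc_c_rc_24_4 lc_c_rc_11_1 lc_c_rc_14_2 lc_c_rc_13_2 lc_c_rc_11_1 lc_c_rc_13_2 lc_c_rc_13_2 lc_c_rc_26_2 lc_c_rc_26_4 lc_c_rc_11_1 lc_c_rc_12_0 lc_c_rc_26_2 lc_c_rc_11_1 lc_c_rc_26_8 lc_c_rc_7_5 lc_c_rc_26_8 lc_c_rc_24_4 lc_c_rc_22_3 lc_c_rc_11_1 lc_c_rc_22_3 lc_c_rc_22_5 lc_c_rc_13_2 lc_c_rc_23_5 lc_c_rc_23_0 lc_c_rc_11_1 lc_c_rc_11_1 lc_c_rc_22_3 lc_c_rc_12_2 lc_c_rc_14_2 lc_c_rc_11_1 lc_c_rc_26_2 lc_c_rc_11_1)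
def ce_c_26 : D2 → D3 → (Cert rels S Gen.c) := @D2.rec (fun _ => D3 → (Cert rels S Gen.c)) (@D3.rec (fun _ => (Cert rels S Gen.c)) lc_c_rc_22_3 lc_c_rc_11_1 lc_c_rc_26_4 lc_c_rc_13_2 lc_c_rc_2_3 lc_c_rc_11_1 lc_c_rc_11_1 lc_c_rc_7_1 lc_c_rc_11_1 lc_c_rc_2_1 lc_c_rc_7_5 lc_c_rc_23_0 lc_c_rc_13_0 lc_c_rc_23_5 lc_c_rc_24_8 lc_c_rc_11_1 lc_c_rc_13_0 lc_c_rc_2_1 lc_c_rc_7_3 lc_c_rc_22_3 lc_c_rc_11_1 lc_c_rc_2_3 lc_c_rc_13_2 lc_c_rc_11_1 lc_c_rc_11_1 lc_c_rc_24_4 lc_c_rc_11_1 lc_c_rc_13_2 lc_c_rc_11_1 lc_c_rc_26_2 lc_c_rc_11_1 lc_c_rc_13_2 lc_c_rc_26_4 lc_c_rc_23_0 lc_c_rc_26_10 lc_c_rc_13_2 lc_c_rc_2_1 lc_c_rc_25_1 lc_c_rc_11_1 lc_c_rc_14_2 lc_c_rc_13_2 lc_c_rc_26_8 lc_c_rc_7_5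 lc_c_rc_2_1 lc_c_rc_24_8 lc_c_rc_11_1 lc_c_rc_24_4 lc_c_rc_26_8 lc_c_rc_11_1 lc_c_rc_26_4 lc_c_rc_2_3 lc_c_rc_11_1 lc_c_rc_7_1 lc_c_rc_26_2 lc_c_rc_14_2 lc_c_rc_26_8 lc_c_Cert_tree lc_c_rc_11_1 lc_c_rc_2_3 lc_c_rc_13_2 lc_c_rc_24_6 lc_c_rc_13_0) (@D3.rec (fun _ => (Cert rels S Gen.c)) lc_c_rc_7_3 lc_c_rc_26_4 lc_c_rc_7_5 lc_c_rc_11_1 lc_c_rc_26_4 lc_c_rc_11_1 lc_c_rc_23_5 lc_c_rc_13_2 lc_c_rc_22_7 lc_c_rc_24_4 lc_c_rc_26_10 lc_c_rc_11_1 lc_c_rc_14_2 lc_c_rc_11_1 lc_c_rc_26_8 lc_c_rc_26_8 lc_c_rc_23_0 lc_c_rc_24_8 lc_c_rc_22_3 lc_c_rc_11_1 lc_c_rc_13_2 lc_c_rc_22_9 lc_c_rc_11_1 lc_c_rc_2_3 lc_c_rc_26_4 lc_c_rc_24_8 lc_c_rc_11_1 lc_c_rc_13_2 lc_c_rc_23_0 lc_c_rc_13_2 lc_c_rc_14_2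 lc_c_rc_7_5 lc_c_rc_22_3 lc_c_rc_11_1 lc_c_rc_24_8 lc_c_rc_11_1 lc_c_rc_13_2 lc_c_rc_14_2 lc_c_rc_7_3 lc_c_rc_11_1 lc_c_rc_14_2 lc_c_rc_22_9 lc_c_rc_11_1 lc_c_rc_11_1 lc_c_rc_13_2 lc_c_rc_11_1 lc_c_rc_2_1 lc_c_rc_11_1 lc_c_rc_2_3 lc_c_rc_7_3 lc_c_rc_24_4 lc_c_rc_24_4 lc_c_rc_12_14 lc_c_rc_7_1 lc_c_rc_11_1 lc_c_rc_11_1 lc_c_rc_26_4 lc_c_rc_2_3 lc_c_rc_25_1 lc_c_rc_24_4 lc_c_rc_11_1 lc_c_rc_13_2) (@D3.rec (fun _ => (Cert rels S Gen.c)) lc_c_rc_23_5 lc_c_Cert_tree lc_c_rc_14_2 lc_c_rc_13_2 lc_c_rc_11_1 lc_c_rc_11_1 lc_c_rc_11_1 lc_c_rc_24_4 lc_c_rc_7_1 lc_c_rc_7_3 lc_c_rc_26_8 lc_c_rc_7_5 lc_c_rc_11_1 lc_c_rc_11_1 lc_c_rc_11_1 lc_c_rc_13_2 lc_c_rc_11_1 lc_c_rc_11_1 lc_c_rc_24_2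 lc_c_rc_26_2 lc_c_rc_26_8 lc_c_rc_26_8 lc_c_rc_11_1 lc_c_rc_13_2 lc_c_Cert_tree lc_c_rc_26_10 lc_c_rc_23_0 lc_c_rc_26_10 lc_c_rc_13_0 lc_c_rc_7_5 lc_c_rc_26_2 lc_c_rc_25_17 lc_c_rc_25_1 lc_c_rc_24_2 lc_c_rc_22_7 lc_c_rc_26_10 lc_c_rc_7_5 lc_c_rc_11_1 lc_c_rc_2_1 lc_c_rc_11_1 lc_c_rc_13_0 lc_c_rc_11_1 lc_c_rc_22_5 lc_c_rc_11_1 lc_c_rc_23_0 lc_c_rc_11_1 lc_c_rc_26_2 lc_c_rc_23_5 lc_c_rc_7_3 lc_c_rc_7_1 lc_c_rc_24_2 lc_c_rc_13_2 lc_c_rc_14_0 lc_c_rc_7_3 lc_c_rc_22_3 lc_c_rc_7_1 lc_c_rc_22_3 lc_c_rc_11_1 lc_c_rc_2_3 lc_c_rc_11_1 lc_c_rc_24_2 lc_c_rc_11_1) (@D3.rec (fun _ => (Cert rels S Gen.c)) lc_c_rc_2_1 lc_c_rc_23_0 lc_c_rc_13_0 lc_c_rc_13_2 lc_c_rc_14_2 lc_c_rc_26_4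 lc_c_rc_26_8 lc_c_rc_13_2 lc_c_rc_26_4 lc_c_rc_13_2 lc_c_rc_22_5 lc_c_rc_11_1 lc_c_rc_11_1 lc_c_Cert_tree lc_c_rc_7_3 lc_c_rc_24_4 lc_c_rc_24_4 lc_c_rc_12_2 lc_c_rc_13_2 lc_c_rc_26_10 lc_c_rc_14_2 lc_c_rc_23_5 lc_c_rc_25_17 lc_c_rc_2_3 lc_c_rc_13_0 lc_c_rc_13_0 lc_c_rc_11_1 lc_c_rc_14_2 lc_c_rc_26_2 lc_c_rc_2_1 lc_c_rc_26_4 lc_c_rc_11_1 lc_c_rc_24_4 lc_c_rc_26_8 lc_c_rc_11_1 lc_c_rc_23_0 lc_c_rc_24_4 lc_c_rc_11_1 lc_c_rc_7_5 lc_c_rc_25_1 lc_c_rc_11_1 lc_c_rc_26_8 lc_c_rc_11_1 lc_c_rc_13_2 lc_c_rc_13_2 lc_c_rc_25_17 lc_c_rc_22_7 lc_c_rc_13_2 lc_c_rc_11_1 lc_c_rc_26_10 lc_c_rc_11_1 lc_c_rc_25_1 lc_c_Cert_tree lc_c_rc_11_1 lc_c_rc_11_1 lc_c_rc_12_0 lc_c_rc_14_2 lc_c_rc_7_5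 lc_c_rc_13_2 lc_c_rc_11_1 lc_c_rc_11_1 lc_c_rc_11_1) (@D3.rec (fun _ => (Cert rels S Gen.c)) lc_c_rc_26_4 lc_c_rc_11_1 lc_c_rc_11_1 lc_c_rc_13_2 lc_c_rc_26_10 lc_c_rc_11_1 lc_c_rc_11_1 lc_c_rc_22_3 lc_c_rc_11_1 lc_c_rc_26_10 lc_c_rc_11_1 lc_c_rc_13_2 lc_c_rc_11_1 lc_c_rc_11_1 lc_c_rc_13_2 lc_c_rc_2_1 lc_c_rc_2_1 lc_c_rc_11_1 lc_c_rc_22_9 lc_c_rc_11_1 lc_c_rc_13_2 lc_c_rc_24_6 lc_c_rc_7_5 lc_c_rc_22_9 lc_c_rc_11_1 lc_c_rc_2_3 lc_c_rc_7_3 lc_c_rc_22_3 lc_c_rc_13_2 lc_c_rc_13_2 lc_c_rc_7_3 lc_c_rc_22_3 lc_c_rc_24_6 lc_c_rc_22_5 lc_c_Cert_tree lc_c_rc_13_2 lc_c_Cert_tree lc_c_Cert_tree lc_c_rc_11_1 lc_c_rc_23_0 lc_c_rc_13_2 lc_c_rc_11_1 lc_c_rc_11_1 lc_c_rc_11_1 lc_c_rc_22_3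 lc_c_rc_13_2 lc_c_rc_2_3 lc_c_rc_14_0 lc_c_rc_14_2 lc_c_rc_11_1 lc_c_rc_22_7 lc_c_rc_13_0 lc_c_rc_13_2 lc_c_rc_23_0 lc_c_rc_14_2 lc_c_rc_7_5 lc_c_rc_14_2 lc_c_rc_26_4 lc_c_rc_11_1 lc_c_Cert_tree lc_c_rc_2_3 lc_c_rc_11_1) (@D3.rec (fun _ => (Cert rels S Gen.c)) lc_c_Cert_tree lc_c_Cert_tree lc_c_Cert_tree lc_c_rc_11_1 lc_c_rc_2_1 lc_c_rc_13_2 lc_c_rc_23_5 lc_c_rc_13_0 lc_c_rc_2_1 lc_c_rc_14_2 lc_c_rc_14_2 lc_c_rc_11_1 lc_c_rc_13_2 lc_c_rc_14_2 lc_c_rc_11_1 lc_c_rc_22_3 lc_c_rc_26_4 lc_c_rc_26_8 lc_c_rc_22_3 lc_c_rc_24_8 lc_c_rc_24_4 lc_c_rc_14_2 lc_c_rc_26_2 lc_c_rc_14_2 lc_c_rc_26_2 lc_c_rc_11_1 lc_c_rc_23_5 lc_c_rc_11_1 lc_c_Cert_tree lc_c_rc_11_1 lc_c_rc_14_2 lc_c_rc_11_1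 lc_c_rc_23_5 lc_c_rc_13_2 lc_c_rc_7_3 lc_c_rc_14_2 lc_c_rc_11_1 lc_c_rc_7_5 lc_c_rc_26_2 lc_c_rc_22_3 lc_c_rc_22_5 lc_c_rc_26_2 lc_c_rc_24_8 lc_c_rc_14_2 lc_c_rc_23_5 lc_c_rc_11_1 lc_c_rc_25_1 lc_c_rc_24_2 lc_c_rc_13_0 lc_c_rc_26_2 lc_c_rc_24_2 lc_c_rc_24_8 lc_c_rc_7_5 lc_c_rc_14_2 lc_c_rc_26_4 lc_c_rc_13_2 lc_c_rc_26_10 lc_c_rc_14_2 lc_c_rc_23_5 lc_c_rc_23_5 lc_c_rc_11_1 lc_c_rc_11_1) (@D3.rec (fun _ => (Cert rels S Gen.c)) lc_c_rc_2_3 lc_c_rc_11_1 lc_c_rc_11_1 lc_c_rc_26_2 lc_c_rc_11_1 lc_c_rc_26_2 lc_c_rc_24_6 lc_c_rc_11_1 lc_c_rc_22_7 lc_c_rc_11_1 lc_c_rc_11_1 lc_c_rc_23_5 lc_c_rc_11_1 lc_c_rc_7_3 lc_c_rc_7_5 lc_c_rc_7_5 lc_c_rc_25_17 lc_c_rc_22_9 lc_c_rc_11_1 lc_c_rc_7_5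 lc_c_rc_26_8 lc_c_rc_23_5 lc_c_rc_14_2 lc_c_rc_7_3 lc_c_rc_26_10 lc_c_rc_22_3 lc_c_rc_2_3 lc_c_rc_14_2 lc_c_rc_11_1 lc_c_rc_22_9 lc_c_rc_11_1 lc_c_rc_13_0 lc_c_rc_7_3 lc_c_rc_13_2 lc_c_rc_7_5 lc_c_rc_13_0 lc_c_rc_7_3 lc_c_rc_25_17 lc_c_rc_13_2 lc_c_rc_11_1 lc_c_rc_11_1 lc_c_rc_11_1 lc_c_rc_11_1 lc_c_rc_7_3 lc_c_rc_11_1 lc_c_rc_13_2 lc_c_rc_26_2 lc_c_rc_11_1 lc_c_rc_13_0 lc_c_rc_13_2 lc_c_rc_7_3 lc_c_rc_13_2 lc_c_rc_26_8 lc_c_rc_22_3 lc_c_rc_13_2 lc_c_rc_14_2 lc_c_rc_13_2 lc_c_rc_11_1 lc_c_rc_14_2 lc_c_rc_11_1 lc_c_rc_22_5 lc_c_rc_13_2) (@D3.rec (fun _ => (Cert rels S Gen.c)) lc_c_rc_13_0 lc_c_rc_25_1 lc_c_rc_11_1 lc_c_rc_11_1 lc_c_rc_26_4 lc_c_rc_11_1 lc_c_rc_22_3 lc_c_rc_11_1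 lc_c_rc_26_10 lc_c_rc_11_1 lc_c_rc_13_2 lc_c_rc_13_2 lc_c_rc_13_2 lc_c_rc_26_8 lc_c_rc_13_2 lc_c_rc_23_5 lc_c_rc_2_3 lc_c_rc_23_5 lc_c_rc_26_4 lc_c_rc_24_4 lc_c_rc_11_1 lc_c_rc_14_2 lc_c_rc_26_2 lc_c_rc_26_4 lc_c_rc_13_2 lc_c_rc_7_3 lc_c_rc_13_2 lc_c_rc_22_7 lc_c_rc_7_3 lc_c_rc_14_2 lc_c_rc_13_2 lc_c_rc_26_2 lc_c_rc_14_2 lc_c_rc_11_1 lc_c_rc_2_3 lc_c_rc_13_2 lc_c_rc_26_2 lc_c_rc_26_10 lc_c_rc_26_10 lc_c_rc_7_5 lc_c_rc_22_7 lc_c_rc_25_13 lc_c_rc_13_2 lc_c_rc_26_4 lc_c_rc_26_2 lc_c_rc_13_2 lc_c_rc_13_2 lc_c_rc_2_3 lc_c_rc_13_0 lc_c_rc_13_2 lc_c_rc_23_5 lc_c_rc_14_0 lc_c_rc_11_1 lc_c_rc_2_1 lc_c_rc_26_4 lc_c_rc_2_3 lc_c_rc_7_5 lc_c_rc_13_2 lc_c_rc_26_10 lc_c_rc_22_5 lc_c_rc_11_1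 lc_c_rc_11_1) (@D3.rec (fun _ => (Cert rels S Gen.c)) lc_c_rc_7_1 lc_c_rc_13_2 lc_c_rc_11_1 lc_c_rc_11_1 lc_c_rc_11_1 lc_c_Cert_tree lc_c_rc_24_2 lc_c_rc_11_1 lc_c_rc_11_1 lc_c_rc_2_3 lc_c_rc_11_1 lc_c_rc_13_2 lc_c_rc_2_1 lc_c_rc_13_2 lc_c_rc_14_2 lc_c_rc_22_3 lc_c_rc_25_5 lc_c_rc_13_0 lc_c_Cert_tree lc_c_rc_14_2 lc_c_rc_26_8 lc_c_rc_13_2 lc_c_rc_26_2 lc_c_rc_11_1 lc_c_rc_7_5 lc_c_rc_22_5 lc_c_rc_11_1 lc_c_rc_7_1 lc_c_rc_11_1 lc_c_rc_24_4 lc_c_rc_24_4 lc_c_rc_26_2 lc_c_rc_2_3 lc_c_rc_2_1 lc_c_rc_23_5 lc_c_rc_11_1 lc_c_rc_13_0 lc_c_Cert_tree lc_c_rc_11_1 lc_c_rc_23_0 lc_c_rc_26_10 lc_c_rc_23_5 lc_c_rc_26_8 lc_c_rc_13_0 lc_c_rc_22_5 lc_c_rc_13_2 lc_c_rc_7_5 lc_c_rc_7_3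 lc_c_rc_7_1 lc_c_rc_22_5 lc_c_rc_23_5 lc_c_rc_13_2 lc_c_rc_14_2 lc_c_rc_22_3 lc_c_rc_24_4 lc_c_rc_23_5 lc_c_rc_13_2 lc_c_rc_26_2 lc_c_rc_7_3 lc_c_rc_24_8 lc_c_rc_13_2 lc_c_rc_26_4) (@D3.rec (fun _ => (Cert rels S Gen.c)) lc_c_rc_13_2 lc_c_rc_26_4 lc_c_rc_24_2 lc_c_rc_13_0 lc_c_rc_13_2 lc_c_rc_23_0 lc_c_rc_24_6 lc_c_rc_22_9 lc_c_rc_26_2 lc_c_rc_11_1 lc_c_rc_13_2 lc_c_rc_11_1 lc_c_rc_26_4 lc_c_rc_11_1 lc_c_rc_23_0 lc_c_rc_13_2 lc_c_rc_11_1 lc_c_rc_13_2 lc_c_rc_11_1 lc_c_rc_25_5 lc_c_rc_13_2 lc_c_rc_14_2 lc_c_rc_22_9 lc_c_rc_11_1 lc_c_rc_11_1 lc_c_rc_22_7 lc_c_Cert_tree lc_c_rc_11_1 lc_c_rc_11_1 lc_c_rc_11_1 lc_c_rc_26_4 lc_c_rc_11_1 lc_c_rc_24_2 lc_c_rc_26_2 lc_c_rc_11_1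 lc_c_rc_13_2 lc_c_rc_2_3 lc_c_rc_11_1 lc_c_rc_22_5 lc_c_rc_13_2 lc_c_rc_11_1 lc_c_rc_23_5 lc_c_rc_7_5 lc_c_rc_24_2 lc_c_rc_24_2 lc_c_rc_11_1 lc_c_rc_2_1 lc_c_rc_13_2 lc_c_rc_25_1 lc_c_rc_14_2 lc_c_rc_13_2 lc_c_rc_22_3 lc_c_rc_13_2 lc_c_rc_26_2 lc_c_rc_13_2 lc_c_rc_11_1 lc_c_rc_26_4 lc_c_rc_13_2 lc_c_rc_11_1 lc_c_rc_13_2 lc_c_rc_23_0 lc_c_rc_11_1) (@D3.rec (fun _ => (Cert rels S Gen.c)) lc_c_rc_24_4 lc_c_rc_26_2 lc_c_rc_2_3 lc_c_rc_26_4 lc_c_rc_23_5 lc_c_rc_11_1 lc_c_rc_11_1 lc_c_rc_11_1 lc_c_rc_13_2 lc_c_rc_11_1 lc_c_rc_11_1 lc_c_rc_24_4 lc_c_rc_24_4 lc_c_rc_12_0 lc_c_rc_22_5 lc_c_rc_13_2 lc_c_rc_13_2 lc_c_rc_11_1 lc_c_rc_24_2 lc_c_rc_11_1 lc_c_rc_11_1 lc_c_rc_11_1 lc_c_rc_7_5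 lc_c_rc_11_1 lc_c_rc_22_5 lc_c_rc_11_1 lc_c_rc_26_2 lc_c_rc_22_7 lc_c_rc_11_1 lc_c_rc_22_7 lc_c_rc_11_1 lc_c_Cert_tree lc_c_rc_14_0 lc_c_rc_23_0 lc_c_rc_11_1 lc_c_rc_22_5 lc_c_rc_22_3 lc_c_rc_14_2 lc_c_rc_25_17 lc_c_rc_26_4 lc_c_rc_11_1 lc_c_rc_11_1 lc_c_rc_24_2 lc_c_rc_23_5 lc_c_rc_14_2 lc_c_rc_7_5 lc_c_rc_22_7 lc_c_rc_11_1 lc_c_rc_7_1 lc_c_rc_11_1 lc_c_rc_13_2 lc_c_rc_14_2 lc_c_rc_24_2 lc_c_rc_13_2 lc_c_rc_13_2 lc_c_rc_26_10 lc_c_rc_13_0 lc_c_rc_11_1 lc_c_rc_26_8 lc_c_rc_26_2 lc_c_rc_26_4 lc_c_rc_13_2) (@D3.rec (fun _ => (Cert rels S Gen.c)) lc_c_rc_23_0 lc_c_rc_13_0 lc_c_rc_13_0 lc_c_rc_11_1 lc_c_rc_11_1 lc_c_rc_13_2 lc_c_rc_26_8 lc_c_rc_11_1 lc_c_rc_24_6 lc_c_rc_12_2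 lc_c_rc_26_2 lc_c_rc_24_4 lc_c_rc_11_1 lc_c_rc_2_1 lc_c_rc_11_1 lc_c_rc_23_5 lc_c_rc_2_3 lc_c_rc_26_4 lc_c_rc_11_1 lc_c_rc_24_4 lc_c_rc_26_4 lc_c_rc_13_2 lc_c_rc_13_0 lc_c_rc_25_1 lc_c_Cert_tree lc_c_rc_11_1 lc_c_rc_22_7 lc_c_rc_24_4 lc_c_rc_14_2 lc_c_rc_24_2 lc_c_rc_23_0 lc_c_rc_14_2 lc_c_rc_26_2 lc_c_rc_2_3 lc_c_rc_22_3 lc_c_rc_24_6 lc_c_rc_11_1 lc_c_rc_22_3 lc_c_rc_2_3 lc_c_Cert_tree lc_c_Cert_tree lc_c_rc_22_3 lc_c_rc_11_1 lc_c_rc_13_2 lc_c_rc_26_8 lc_c_rc_11_1 lc_c_rc_2_1 lc_c_rc_24_2 lc_c_Cert_tree lc_c_rc_24_4 lc_c_rc_11_1 lc_c_rc_13_2 lc_c_rc_11_1 lc_c_rc_13_2 lc_c_rc_13_0 lc_c_rc_11_1 lc_c_rc_2_1 lc_c_rc_11_1 lc_c_rc_7_1 lc_c_rc_22_3 lc_c_rc_13_2 lc_c_rc_24_8)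 (@D3.rec (fun _ => (Cert rels S Gen.c)) lc_c_Cert_tree lc_c_rc_14_2 lc_c_rc_13_2 lc_c_rc_24_4 lc_c_rc_22_5 lc_c_rc_11_1 lc_c_rc_11_1 lc_c_Cert_tree lc_c_rc_14_2 lc_c_rc_24_6 lc_c_rc_12_2 lc_c_rc_13_2 lc_c_rc_22_9 lc_c_rc_13_2 lc_c_rc_11_1 lc_c_rc_26_8 lc_c_rc_2_3 lc_c_rc_24_2 lc_c_rc_22_3 lc_c_rc_11_1 lc_c_rc_11_1 lc_c_rc_7_1 lc_c_rc_11_1 lc_c_rc_7_5 lc_c_rc_26_2 lc_c_rc_7_5 lc_c_rc_14_2 lc_c_rc_11_1 lc_c_rc_2_1 lc_c_rc_26_4 lc_c_rc_13_2 lc_c_rc_11_1 lc_c_rc_24_6 lc_c_rc_13_2 lc_c_rc_13_0 lc_c_rc_14_2 lc_c_rc_11_1 lc_c_rc_13_2 lc_c_rc_11_1 lc_c_rc_2_3 lc_c_rc_14_2 lc_c_rc_26_4 lc_c_rc_11_1 lc_c_rc_13_2 lc_c_rc_13_2 lc_c_rc_26_10 lc_c_rc_26_8 lc_c_rc_7_5 lc_c_rc_24_8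 lc_c_rc_24_8 lc_c_rc_7_5 lc_c_rc_7_1 lc_c_rc_13_2 lc_c_rc_13_2 lc_c_rc_24_6 lc_c_rc_7_3 lc_c_rc_13_2 lc_c_rc_24_8 lc_c_rc_25_1 lc_c_rc_23_0 lc_c_rc_11_1 lc_c_rc_22_7) (@D3.rec (fun _ => (Cert rels S Gen.c)) lc_c_rc_13_2 lc_c_rc_11_1 lc_c_rc_13_2 lc_c_rc_11_1 lc_c_rc_23_0 lc_c_rc_12_12 lc_c_rc_26_4 lc_c_rc_7_3 lc_c_rc_13_2 lc_c_rc_11_1 lc_c_rc_11_1 lc_c_rc_13_2 lc_c_rc_26_10 lc_c_Cert_tree lc_c_rc_26_8 lc_c_rc_26_4 lc_c_rc_11_1 lc_c_rc_13_2 lc_c_rc_26_8 lc_c_rc_11_1 lc_c_rc_23_0 lc_c_rc_11_1 lc_c_rc_26_4 lc_c_rc_23_0 lc_c_rc_7_3 lc_c_rc_25_1 lc_c_rc_11_1 lc_c_rc_26_4 lc_c_rc_13_2 lc_c_rc_22_3 lc_c_rc_25_17 lc_c_rc_13_2 lc_c_Cert_tree lc_c_rc_11_1 lc_c_rc_14_2 lc_c_rc_26_10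 lc_c_rc_26_2 lc_c_rc_11_1 lc_c_rc_11_1 lc_c_rc_11_1 lc_c_rc_23_0 lc_c_rc_11_1 lc_c_rc_12_0 lc_c_rc_11_1 lc_c_rc_14_2 lc_c_rc_13_2 lc_c_rc_24_2 lc_c_rc_11_1 lc_c_rc_13_2 lc_c_rc_14_0 lc_c_rc_22_5 lc_c_rc_11_1 lc_c_rc_13_2 lc_c_rc_26_10 lc_c_Cert_tree lc_c_rc_11_1 lc_c_rc_13_2 lc_c_rc_11_1 lc_c_rc_11_1 lc_c_rc_2_3 lc_c_rc_26_10 lc_c_rc_11_1) (@D3.rec (fun _ => (Cert rels S Gen.c)) lc_c_rc_26_10 lc_c_rc_14_2 lc_c_rc_13_0 lc_c_rc_11_1 lc_c_rc_23_5 lc_c_rc_11_1 lc_c_rc_25_1 lc_c_rc_11_1 lc_c_rc_7_5 lc_c_rc_11_1 lc_c_rc_22_3 lc_c_Cert_tree lc_c_rc_22_3 lc_c_rc_13_2 lc_c_rc_26_2 lc_c_rc_22_9 lc_c_rc_11_1 lc_c_rc_23_0 lc_c_rc_23_0 lc_c_rc_22_3 lc_c_rc_2_3 lc_c_rc_11_1 lc_c_rc_22_3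 lc_c_rc_24_6 lc_c_rc_13_0 lc_c_rc_11_1 lc_c_rc_14_2 lc_c_rc_25_1 lc_c_rc_11_1 lc_c_rc_14_2 lc_c_rc_13_2 lc_c_rc_26_2 lc_c_rc_22_5 lc_c_rc_7_3 lc_c_rc_23_0 lc_c_rc_24_2 lc_c_rc_2_1 lc_c_rc_11_1 lc_c_rc_7_5 lc_c_rc_26_2 lc_c_rc_23_0 lc_c_rc_11_1 lc_c_rc_26_2 lc_c_rc_23_0 lc_c_rc_26_4 lc_c_rc_26_4 lc_c_rc_11_1 lc_c_rc_14_0 lc_c_rc_22_5 lc_c_rc_7_3 lc_c_rc_26_4 lc_c_rc_26_2 lc_c_Cert_tree lc_c_rc_11_1 lc_c_rc_26_4 lc_c_rc_23_5 lc_c_rc_13_0 lc_c_rc_2_3 lc_c_rc_14_2 lc_c_rc_22_9 lc_c_rc_14_2 lc_c_rc_13_2) (@D3.rec (fun _ => (Cert rels S Gen.c)) lc_c_rc_23_0 lc_c_rc_11_1 lc_c_rc_11_1 lc_c_rc_7_5 lc_c_rc_11_1 lc_c_rc_13_2 lc_c_rc_11_1 lc_c_Cert_tree lc_c_rc_26_10 lc_c_rc_11_1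 lc_c_rc_26_4 lc_c_rc_13_2 lc_c_rc_11_1 lc_c_rc_26_2 lc_c_rc_22_3 lc_c_rc_13_2 lc_c_rc_7_1 lc_c_rc_26_4 lc_c_rc_24_2 lc_c_rc_11_1 lc_c_rc_13_2 lc_c_rc_13_2 lc_c_rc_11_1 lc_c_rc_13_2 lc_c_rc_13_0 lc_c_rc_13_2 lc_c_rc_11_1 lc_c_rc_23_5 lc_c_rc_24_8 lc_c_rc_13_0 lc_c_rc_26_4 lc_c_rc_11_1 lc_c_rc_13_2 lc_c_rc_26_8 lc_c_rc_11_1 lc_c_rc_13_2 lc_c_rc_7_5 lc_c_rc_24_4 lc_c_rc_12_4 lc_c_rc_26_10 lc_c_rc_23_0 lc_c_rc_13_2 lc_c_rc_13_2 lc_c_rc_11_1 lc_c_rc_13_2 lc_c_rc_11_1 lc_c_rc_11_1 lc_c_rc_22_5 lc_c_rc_7_5 lc_c_rc_11_1 lc_c_rc_14_2 lc_c_rc_24_8 lc_c_rc_25_1 lc_c_rc_22_7 lc_c_rc_22_9 lc_c_rc_25_1 lc_c_rc_11_1 lc_c_rc_14_2 lc_c_rc_7_5 lc_c_rc_26_10 lc_c_rc_26_10 lc_c_rc_24_4)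 (@D3.rec (fun _ => (Cert rels S Gen.c)) lc_c_rc_13_0 lc_c_rc_7_1 lc_c_rc_11_1 lc_c_rc_26_2 lc_c_rc_14_2 lc_c_rc_26_4 lc_c_Cert_tree lc_c_rc_24_4 lc_c_rc_23_0 lc_c_rc_11_1 lc_c_rc_24_4 lc_c_rc_11_1 lc_c_rc_11_1 lc_c_rc_13_2 lc_c_rc_22_5 lc_c_rc_26_4 lc_c_rc_11_1 lc_c_rc_14_2 lc_c_rc_11_1 lc_c_rc_11_1 lc_c_rc_13_2 lc_c_Cert_tree lc_c_rc_24_8 lc_c_rc_11_1 lc_c_rc_14_2 lc_c_rc_24_4 lc_c_rc_2_1 lc_c_rc_11_1 lc_c_Cert_tree lc_c_rc_13_0 lc_c_rc_11_1 lc_c_rc_7_5 lc_c_rc_11_1 lc_c_rc_11_1 lc_c_rc_24_4 lc_c_rc_13_2 lc_c_rc_25_17 lc_c_rc_24_8 lc_c_rc_13_2 lc_c_rc_22_3 lc_c_rc_13_2 lc_c_rc_24_4 lc_c_rc_11_1 lc_c_rc_22_7 lc_c_rc_26_2 lc_c_rc_26_2 lc_c_rc_11_1 lc_c_rc_13_2 lc_c_rc_13_2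 lc_c_rc_11_1 lc_c_rc_11_1 lc_c_rc_22_9 lc_c_rc_11_1 lc_c_rc_7_3 lc_c_rc_24_6 lc_c_rc_2_3 lc_c_rc_13_2 lc_c_rc_13_2 lc_c_rc_11_1 lc_c_rc_23_0 lc_c_rc_11_1 lc_c_rc_2_1) (@D3.rec (fun _ => (Cert rels S Gen.c)) lc_c_rc_11_1 lc_c_rc_26_8 lc_c_rc_13_2 lc_c_rc_2_1 lc_c_rc_22_3 lc_c_rc_7_3 lc_c_rc_22_7 lc_c_rc_2_3 lc_c_rc_24_2 lc_c_rc_13_0 lc_c_rc_13_0 lc_c_rc_23_5 lc_c_rc_26_2 lc_c_rc_23_5 lc_c_rc_25_17 lc_c_rc_7_5 lc_c_rc_13_2 lc_c_rc_13_2 lc_c_rc_22_7 lc_c_rc_13_2 lc_c_rc_13_2 lc_c_rc_11_1 lc_c_rc_24_4 lc_c_rc_7_5 lc_c_rc_13_2 lc_c_Cert_tree lc_c_rc_13_2 lc_c_rc_23_5 lc_c_rc_2_3 lc_c_rc_11_1 lc_c_rc_7_3 lc_c_rc_24_6 lc_c_rc_13_2 lc_c_rc_22_5 lc_c_rc_24_4 lc_c_rc_13_0 lc_c_rc_14_2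 lc_c_rc_26_4 lc_c_Cert_tree lc_c_rc_14_2 lc_c_rc_26_10 lc_c_rc_22_5 lc_c_rc_2_3 lc_c_rc_13_0 lc_c_Cert_tree lc_c_rc_11_1 lc_c_rc_13_2 lc_c_rc_13_2 lc_c_rc_13_2 lc_c_rc_11_1 lc_c_rc_11_1 lc_c_rc_13_0 lc_c_rc_7_3 lc_c_rc_11_1 lc_c_rc_11_1 lc_c_rc_11_1 lc_c_Cert_tree lc_c_rc_14_2 lc_c_rc_24_2 lc_c_rc_26_10 lc_c_rc_2_3 lc_c_rc_26_2) (@D3.rec (fun _ => (Cert rels S Gen.c)) lc_c_rc_11_1 lc_c_rc_11_1 lc_c_rc_11_1 lc_c_rc_13_2 lc_c_rc_11_1 lc_c_rc_22_5 lc_c_rc_11_1 lc_c_rc_26_4 lc_c_rc_7_5 lc_c_rc_11_1 lc_c_rc_26_4 lc_c_rc_11_1 lc_c_rc_13_2 lc_c_Cert_tree lc_c_rc_11_1 lc_c_rc_11_1 lc_c_rc_14_2 lc_c_rc_14_2 lc_c_rc_7_5 lc_c_rc_2_1 lc_c_rc_11_1 lc_c_rc_11_1 lc_c_rc_14_2 lc_c_rc_13_0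 lc_c_rc_13_2 lc_c_rc_11_1 lc_c_rc_13_2 lc_c_rc_13_0 lc_c_rc_14_0 lc_c_rc_7_1 lc_c_rc_22_9 lc_c_rc_22_3 lc_c_rc_26_4 lc_c_rc_13_2 lc_c_rc_24_2 lc_c_rc_13_2 lc_c_rc_7_5 lc_c_rc_13_2 lc_c_rc_11_1 lc_c_rc_22_3 lc_c_rc_25_17 lc_c_rc_14_0 lc_c_rc_11_1 lc_c_rc_23_0 lc_c_rc_13_2 lc_c_rc_11_1 lc_c_rc_7_3 lc_c_rc_11_1 lc_c_rc_13_2 lc_c_rc_11_1 lc_c_rc_13_2 lc_c_rc_22_3 lc_c_rc_13_2 lc_c_rc_22_3 lc_c_Cert_tree lc_c_rc_14_2 lc_c_rc_11_1 lc_c_rc_13_2 lc_c_rc_13_2 lc_c_rc_12_0 lc_c_rc_22_5 lc_c_rc_22_5) (@D3.rec (fun _ => (Cert rels S Gen.c)) lc_c_rc_11_1 lc_c_rc_22_3 lc_c_rc_7_3 lc_c_rc_13_2 lc_c_rc_7_5 lc_c_rc_7_3 lc_c_rc_26_4 lc_c_rc_13_2 lc_c_rc_2_3 lc_c_rc_14_2 lc_c_rc_11_1 lc_c_rc_7_5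 lc_c_rc_7_1 lc_c_rc_7_5 lc_c_rc_26_4 lc_c_rc_2_3 lc_c_rc_13_2 lc_c_rc_7_5 lc_c_rc_11_1 lc_c_rc_25_5 lc_c_rc_23_5 lc_c_Cert_tree lc_c_rc_14_2 lc_c_rc_13_2 lc_c_rc_26_10 lc_c_rc_11_1 lc_c_rc_14_2 lc_c_rc_14_2 lc_c_Cert_tree lc_c_rc_22_3 lc_c_rc_26_4 lc_c_rc_11_1 lc_c_rc_13_2 lc_c_rc_24_4 lc_c_rc_22_7 lc_c_rc_2_3 lc_c_rc_13_2 lc_c_rc_13_2 lc_c_rc_14_2 lc_c_rc_11_1 lc_c_rc_13_2 lc_c_rc_26_2 lc_c_rc_2_3 lc_c_rc_13_2 lc_c_rc_26_2 lc_c_rc_7_1 lc_c_rc_11_1 lc_c_rc_11_1 lc_c_rc_13_2 lc_c_rc_13_2 lc_c_rc_11_1 lc_c_rc_13_2 lc_c_rc_25_5 lc_c_rc_13_2 lc_c_rc_22_9 lc_c_rc_24_8 lc_c_rc_26_4 lc_c_rc_26_2 lc_c_rc_11_1 lc_c_rc_13_2 lc_c_rc_7_1 lc_c_rc_23_0) (@D3.rec (fun _ => (Cert rels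 S Gen.c)) lc_c_rc_13_2 lc_c_rc_24_2 lc_c_rc_7_5 lc_c_rc_11_1 lc_c_rc_24_2 lc_c_rc_11_1 lc_c_rc_13_2 lc_c_rc_14_2 lc_c_rc_24_2 lc_c_rc_14_2 lc_c_rc_26_4 lc_c_rc_24_2 lc_c_rc_7_5 lc_c_rc_22_5 lc_c_rc_13_2 lc_c_rc_22_5 lc_c_rc_7_3 lc_c_rc_22_7 lc_c_rc_13_2 lc_c_rc_24_4 lc_c_rc_23_0 lc_c_rc_22_3 lc_c_rc_24_2 lc_c_rc_13_2 lc_c_rc_22_5 lc_c_rc_12_2 lc_c_rc_22_7 lc_c_rc_13_0 lc_c_rc_22_9 lc_c_rc_13_2 lc_c_rc_11_1 lc_c_rc_23_0 lc_c_rc_11_1 lc_c_rc_23_0 lc_c_rc_2_3 lc_c_rc_7_1 lc_c_Cert_tree lc_c_rc_14_2 lc_c_rc_13_2 lc_c_rc_7_5 lc_c_rc_11_1 lc_c_rc_14_2 lc_c_rc_14_2 lc_c_rc_11_1 lc_c_rc_14_2 lc_c_rc_14_2 lc_c_rc_11_1 lc_c_rc_2_1 lc_c_rc_11_1 lc_c_rc_13_2 lc_c_rc_7_5 lc_c_Cert_tree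 lc_c_rc_11_1 lc_c_rc_7_5 lc_c_rc_11_1 lc_c_rc_26_4 lc_c_rc_12_2 lc_c_rc_11_1 lc_c_rc_26_2 lc_c_rc_25_1 lc_c_rc_11_1 lc_c_rc_26_2) (@D3.rec (fun _ => (Cert rels S Gen.c)) lc_c_rc_11_1 lc_c_rc_11_1 lc_c_rc_11_1 lc_c_rc_14_2 lc_c_rc_24_8 lc_c_rc_11_1 lc_c_rc_13_0 lc_c_rc_13_2 lc_c_rc_24_2 lc_c_rc_22_9 lc_c_rc_11_1 lc_c_rc_23_0 lc_c_rc_14_2 lc_c_rc_7_1 lc_c_rc_13_2 lc_c_rc_11_1 lc_c_rc_2_3 lc_c_rc_13_2 lc_c_Cert_tree lc_c_rc_11_1 lc_c_rc_11_1 lc_c_rc_13_2 lc_c_rc_11_1 lc_c_rc_14_0 lc_c_rc_11_1 lc_c_rc_13_2 lc_c_rc_7_3 lc_c_rc_11_1 lc_c_rc_23_5 lc_c_rc_23_0 lc_c_rc_11_1 lc_c_rc_7_3 lc_c_rc_11_1 lc_c_Cert_tree lc_c_rc_7_5 lc_c_rc_2_1 lc_c_rc_7_5 lc_c_rc_26_2 lc_c_rc_7_3 lc_c_rc_22_5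 lc_c_rc_13_2 lc_c_rc_26_2 lc_c_rc_14_2 lc_c_rc_26_10 lc_c_rc_12_2 lc_c_rc_23_5 lc_c_rc_22_7 lc_c_rc_12_2 lc_c_rc_24_8 lc_c_rc_11_1 lc_c_rc_13_2 lc_c_rc_22_5 lc_c_rc_13_0 lc_c_rc_24_6 lc_c_rc_22_3 lc_c_rc_11_1 lc_c_rc_12_14 lc_c_rc_24_6 lc_c_rc_7_5 lc_c_rc_13_2 lc_c_rc_11_1 lc_c_rc_23_0) (@D3.rec (fun _ => (Cert rels S Gen.c)) lc_c_rc_11_1 lc_c_rc_11_1 lc_c_rc_11_1 lc_c_rc_14_2 lc_c_rc_13_2 lc_c_rc_13_2 lc_c_rc_11_1 lc_c_rc_11_1 lc_c_Cert_tree lc_c_rc_11_1 lc_c_rc_11_1 lc_c_rc_2_1 lc_c_rc_13_2 lc_c_rc_12_2 lc_c_rc_26_2 lc_c_rc_25_5 lc_c_rc_25_9 lc_c_rc_13_2 lc_c_rc_22_9 lc_c_rc_22_3 lc_c_rc_11_1 lc_c_rc_14_2 lc_c_rc_11_1 lc_c_rc_23_5 lc_c_rc_22_3 lc_c_rc_2_3 lc_c_rc_13_2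 lc_c_rc_13_2 lc_c_rc_26_10 lc_c_rc_14_2 lc_c_rc_2_1 lc_c_rc_11_1 lc_c_rc_7_5 lc_c_rc_26_4 lc_c_Cert_tree lc_c_rc_24_4 lc_c_rc_23_5 lc_c_rc_23_5 lc_c_rc_24_8 lc_c_rc_23_0 lc_c_rc_2_3 lc_c_rc_13_0 lc_c_rc_11_1 lc_c_rc_22_3 lc_c_rc_23_5 lc_c_rc_26_4 lc_c_rc_23_5 lc_c_rc_13_2 lc_c_rc_11_1 lc_c_rc_24_2 lc_c_rc_24_8 lc_c_rc_14_2 lc_c_rc_11_1 lc_c_rc_13_2 lc_c_rc_26_2 lc_c_rc_14_2 lc_c_rc_14_2 lc_c_rc_26_4 lc_c_rc_13_2 lc_c_rc_22_3 lc_c_rc_11_1 lc_c_Cert_tree) (@D3.rec (fun _ => (Cert rels S Gen.c)) lc_c_rc_24_8 lc_c_rc_23_0 lc_c_rc_25_9 lc_c_rc_24_4 lc_c_rc_24_2 lc_c_rc_14_2 lc_c_rc_24_4 lc_c_rc_13_2 lc_c_rc_11_1 lc_c_rc_11_1 lc_c_rc_24_4 lc_c_rc_14_2 lc_c_rc_23_5 lc_c_rc_13_2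 lc_c_Cert_tree lc_c_rc_11_1 lc_c_rc_25_1 lc_c_rc_7_3 lc_c_rc_24_2 lc_c_rc_26_2 lc_c_rc_2_3 lc_c_rc_13_0 lc_c_rc_14_2 lc_c_rc_23_0 lc_c_rc_11_1 lc_c_rc_24_6 lc_c_rc_13_2 lc_c_rc_12_4 lc_c_rc_11_1 lc_c_rc_11_1 lc_c_rc_14_2 lc_c_rc_11_1 lc_c_rc_24_4 lc_c_rc_26_10 lc_c_rc_2_3 lc_c_rc_14_2 lc_c_rc_26_2 lc_c_rc_13_2 lc_c_rc_13_0 lc_c_rc_13_0 lc_c_rc_7_5 lc_c_rc_11_1 lc_c_rc_13_2 lc_c_rc_11_1 lc_c_rc_13_2 lc_c_rc_25_5 lc_c_rc_22_7 lc_c_rc_11_1 lc_c_rc_13_2 lc_c_rc_24_8 lc_c_rc_24_8 lc_c_rc_26_2 lc_c_rc_13_2 lc_c_rc_24_2 lc_c_rc_11_1 lc_c_rc_14_0 lc_c_rc_22_3 lc_c_Cert_tree lc_c_rc_23_5 lc_c_rc_2_3 lc_c_rc_11_1 lc_c_rc_11_1) (@D3.rec (fun _ => (Cert rels S Gen.c)) lc_c_rc_11_1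 lc_c_rc_7_1 lc_c_rc_14_2 lc_c_rc_26_2 lc_c_rc_11_1 lc_c_rc_26_4 lc_c_rc_7_1 lc_c_rc_13_2 lc_c_rc_13_2 lc_c_rc_2_1 lc_c_rc_11_1 lc_c_rc_26_4 lc_c_rc_23_0 lc_c_rc_13_2 lc_c_rc_13_2 lc_c_rc_11_1 lc_c_rc_7_3 lc_c_rc_22_5 lc_c_rc_13_0 lc_c_rc_11_1 lc_c_rc_2_1 lc_c_rc_2_3 lc_c_rc_26_2 lc_c_rc_14_2 lc_c_rc_11_1 lc_c_rc_7_1 lc_c_rc_13_2 lc_c_Cert_tree lc_c_rc_13_2 lc_c_rc_11_1 lc_c_Cert_tree lc_c_rc_11_1 lc_c_Cert_tree lc_c_rc_11_1 lc_c_rc_7_1 lc_c_rc_24_2 lc_c_rc_26_2 lc_c_rc_13_2 lc_c_rc_2_3 lc_c_rc_2_1 lc_c_rc_13_0 lc_c_rc_22_3 lc_c_rc_14_2 lc_c_rc_11_1 lc_c_rc_24_6 lc_c_rc_14_2 lc_c_rc_11_1 lc_c_rc_11_1 lc_c_rc_13_2 lc_c_rc_13_2 lc_c_rc_22_3 lc_c_rc_14_0 lc_c_rc_13_2 lc_c_rc_22_3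 lc_c_rc_23_0 lc_c_Cert_tree lc_c_rc_13_2 lc_c_rc_7_5 lc_c_rc_11_1 lc_c_rc_7_3 lc_c_rc_7_3 lc_c_rc_23_0) (@D3.rec (fun _ => (Cert rels S Gen.c)) lc_c_rc_23_5 lc_c_rc_24_8 lc_c_rc_13_2 lc_c_rc_11_1 lc_c_rc_13_2 lc_c_rc_23_5 lc_c_rc_7_3 lc_c_rc_26_4 lc_c_rc_13_2 lc_c_rc_11_1 lc_c_rc_11_1 lc_c_rc_13_2 lc_c_rc_26_10 lc_c_rc_26_4 lc_c_rc_11_1 lc_c_rc_14_0 lc_c_rc_22_7 lc_c_rc_24_4 lc_c_rc_23_5 lc_c_rc_26_8 lc_c_rc_14_2 lc_c_rc_11_1 lc_c_Cert_tree lc_c_rc_23_0 lc_c_rc_22_3 lc_c_rc_7_3 lc_c_rc_26_4 lc_c_rc_11_1 lc_c_rc_11_1 lc_c_rc_13_2 lc_c_rc_11_1 lc_c_rc_11_1 lc_c_rc_26_10 lc_c_rc_11_1 lc_c_rc_11_1 lc_c_rc_13_2 lc_c_rc_11_1 lc_c_rc_2_3 lc_c_rc_13_2 lc_c_rc_13_2 lc_c_rc_11_1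 lc_c_rc_7_3 lc_c_rc_26_8 lc_c_rc_23_0 lc_c_rc_11_1 lc_c_rc_25_1 lc_c_rc_11_1 lc_c_rc_11_1 lc_c_rc_26_4 lc_c_rc_7_3 lc_c_rc_23_5 lc_c_rc_7_3 lc_c_rc_13_2 lc_c_rc_2_3 lc_c_rc_26_2 lc_c_rc_26_4 lc_c_rc_13_2 lc_c_rc_14_2 lc_c_rc_26_4 lc_c_rc_7_1 lc_c_rc_26_4 lc_c_rc_13_2) (@D3.rec (fun _ => (Cert rels S Gen.c)) lc_c_rc_11_1 lc_c_rc_13_0 lc_c_rc_26_2 lc_c_rc_24_4 lc_c_Cert_tree lc_c_Cert_tree lc_c_rc_13_2 lc_c_Cert_tree lc_c_rc_11_1 lc_c_rc_13_2 lc_c_rc_2_1 lc_c_rc_24_6 lc_c_Cert_tree lc_c_rc_22_3 lc_c_rc_23_5 lc_c_rc_14_2 lc_c_rc_26_10 lc_c_rc_11_1 lc_c_rc_2_1 lc_c_rc_7_3 lc_c_rc_12_8 lc_c_rc_26_8 lc_c_rc_13_2 lc_c_rc_23_0 lc_c_rc_24_2 lc_c_rc_13_2 lc_c_rc_13_2 lc_c_rc_14_2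 lc_c_rc_13_2 lc_c_rc_2_3 lc_c_rc_7_1 lc_c_rc_13_2 lc_c_rc_22_3 lc_c_rc_11_1 lc_c_rc_7_3 lc_c_rc_24_4 lc_c_rc_23_0 lc_c_rc_13_0 lc_c_rc_11_1 lc_c_rc_22_3 lc_c_rc_2_3 lc_c_Cert_tree lc_c_rc_11_1 lc_c_rc_13_0 lc_c_rc_7_3 lc_c_rc_24_2 lc_c_rc_11_1 lc_c_rc_24_2 lc_c_rc_13_2 lc_c_rc_13_2 lc_c_rc_26_2 lc_c_rc_11_1 lc_c_rc_11_1 lc_c_rc_22_5 lc_c_rc_24_6 lc_c_rc_26_4 lc_c_Cert_tree lc_c_rc_13_0 lc_c_rc_13_2 lc_c_rc_24_2 lc_c_rc_22_5 lc_c_rc_13_2) (@D3.rec (fun _ => (Cert rels S Gen.c)) lc_c_rc_22_5 lc_c_rc_23_0 lc_c_rc_11_1 lc_c_rc_7_5 lc_c_rc_7_5 lc_c_rc_13_2 lc_c_rc_13_2 lc_c_rc_23_5 lc_c_rc_23_0 lc_c_rc_13_0 lc_c_rc_24_4 lc_c_rc_23_5 lc_c_rc_7_3 lc_c_rc_11_1 lc_c_Cert_tree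 lc_c_rc_24_2 lc_c_rc_11_1 lc_c_rc_14_0 lc_c_rc_11_1 lc_c_rc_11_1 lc_c_rc_2_3 lc_c_rc_26_4 lc_c_rc_11_1 lc_c_rc_11_1 lc_c_rc_22_9 lc_c_Cert_tree lc_c_rc_11_1 lc_c_rc_13_2 lc_c_rc_2_3 lc_c_rc_13_2 lc_c_rc_11_1 lc_c_rc_24_4 lc_c_rc_14_2 lc_c_rc_11_1 lc_c_rc_7_5 lc_c_rc_11_1 lc_c_rc_7_3 lc_c_rc_22_3 lc_c_rc_11_1 lc_c_rc_14_0 lc_c_rc_7_3 lc_c_rc_22_5 lc_c_rc_13_2 lc_c_rc_26_10 lc_c_rc_11_1 lc_c_rc_7_5 lc_c_rc_11_1 lc_c_rc_26_2 lc_c_rc_22_3 lc_c_rc_23_5 lc_c_rc_24_4 lc_c_rc_22_7 lc_c_rc_22_3 lc_c_rc_26_2 lc_c_rc_23_5 lc_c_rc_26_8 lc_c_rc_23_0 lc_c_rc_13_0 lc_c_Cert_tree lc_c_Cert_tree lc_c_rc_2_3 lc_c_Cert_tree) (@D3.rec (fun _ => (Cert rels S Gen.c)) lc_c_rc_13_2 lc_c_rc_7_1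 lc_c_rc_11_1 lc_c_rc_22_9 lc_c_rc_23_5 lc_c_rc_23_5 lc_c_rc_25_5 lc_c_Cert_tree lc_c_rc_11_1 lc_c_rc_7_5 lc_c_rc_2_3 lc_c_rc_25_1 lc_c_rc_11_1 lc_c_rc_24_8 lc_c_rc_11_1 lc_c_rc_26_4 lc_c_rc_25_17 lc_c_rc_23_5 lc_c_rc_13_2 lc_c_rc_11_1 lc_c_rc_24_4 lc_c_rc_2_1 lc_c_rc_13_2 lc_c_rc_24_4 lc_c_rc_22_5 lc_c_rc_23_5 lc_c_rc_22_3 lc_c_rc_14_0 lc_c_rc_22_3 lc_c_rc_13_0 lc_c_rc_11_1 lc_c_rc_22_5 lc_c_rc_23_0 lc_c_rc_14_2 lc_c_rc_11_1 lc_c_rc_22_5 lc_c_rc_22_5 lc_c_rc_11_1 lc_c_rc_24_4 lc_c_rc_11_1 lc_c_rc_14_2 lc_c_rc_13_2 lc_c_rc_24_6 lc_c_rc_11_1 lc_c_rc_7_3 lc_c_rc_22_3 lc_c_rc_11_1 lc_c_rc_11_1 lc_c_rc_11_1 lc_c_rc_13_2 lc_c_rc_11_1 lc_c_rc_24_4 lc_c_rc_11_1 lc_c_rc_13_2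 lc_c_rc_13_2 lc_c_rc_22_5 lc_c_rc_14_2 lc_c_rc_13_2 lc_c_rc_13_2 lc_c_Cert_tree lc_c_rc_13_2 lc_c_rc_11_1) (@D3.rec (fun _ => (Cert rels S Gen.c)) lc_c_rc_11_1 lc_c_rc_26_10 lc_c_rc_26_2 lc_c_rc_26_8 lc_c_rc_13_0 lc_c_rc_13_2 lc_c_rc_26_4 lc_c_rc_7_3 lc_c_rc_11_1 lc_c_rc_14_2 lc_c_rc_7_1 lc_c_rc_13_2 lc_c_rc_13_2 lc_c_rc_7_3 lc_c_rc_7_1 lc_c_Cert_tree lc_c_Cert_tree lc_c_rc_2_3 lc_c_rc_26_2 lc_c_rc_7_3 lc_c_rc_13_2 lc_c_rc_13_2 lc_c_rc_11_1 lc_c_rc_23_0 lc_c_rc_26_10 lc_c_rc_2_3 lc_c_rc_11_1 lc_c_rc_23_5 lc_c_rc_13_2 lc_c_rc_7_5 lc_c_rc_11_1 lc_c_rc_13_2 lc_c_rc_11_1 lc_c_rc_14_2 lc_c_rc_11_1 lc_c_rc_26_10 lc_c_rc_26_2 lc_c_rc_22_3 lc_c_rc_12_2 lc_c_rc_11_1 lc_c_rc_22_5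 lc_c_rc_22_3 lc_c_rc_11_1 lc_c_rc_7_3 lc_c_rc_13_2 lc_c_Cert_tree lc_c_rc_14_2 lc_c_rc_11_1 lc_c_rc_26_10 lc_c_rc_13_2 lc_c_Cert_tree lc_c_rc_11_1 lc_c_rc_11_1 lc_c_rc_11_1 lc_c_rc_2_3 lc_c_rc_13_2 lc_c_rc_11_1 lc_c_Cert_tree lc_c_rc_11_1 lc_c_rc_24_4 lc_c_rc_22_3 lc_c_rc_7_5) (@D3.rec (fun _ => (Cert rels S Gen.c)) lc_c_rc_26_4 lc_c_rc_11_1 lc_c_rc_14_2 lc_c_rc_24_4 lc_c_rc_11_1 lc_c_rc_13_2 lc_c_rc_7_1 lc_c_rc_13_2 lc_c_rc_14_2 lc_c_rc_26_4 lc_c_rc_13_2 lc_c_rc_23_0 lc_c_rc_11_1 lc_c_rc_26_2 lc_c_rc_24_6 lc_c_rc_13_2 lc_c_rc_14_2 lc_c_rc_11_1 lc_c_rc_22_5 lc_c_rc_11_1 lc_c_rc_14_2 lc_c_rc_11_1 lc_c_rc_14_2 lc_c_rc_24_8 lc_c_rc_26_2 lc_c_Cert_tree lc_c_rc_13_2 lc_c_rc_2_3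 lc_c_rc_23_5 lc_c_rc_11_1 lc_c_rc_13_2 lc_c_rc_13_2 lc_c_rc_7_1 lc_c_rc_23_5 lc_c_rc_13_2 lc_c_rc_14_2 lc_c_rc_23_5 lc_c_rc_13_2 lc_c_Cert_tree lc_c_rc_23_5 lc_c_rc_13_2 lc_c_rc_7_5 lc_c_rc_26_10 lc_c_Cert_tree lc_c_rc_11_1 lc_c_rc_24_2 lc_c_rc_13_2 lc_c_rc_7_3 lc_c_rc_14_2 lc_c_rc_11_1 lc_c_rc_13_2 lc_c_rc_23_0 lc_c_rc_13_2 lc_c_rc_24_6 lc_c_rc_22_7 lc_c_rc_14_2 lc_c_rc_11_1 lc_c_rc_11_1 lc_c_rc_24_6 lc_c_rc_7_3 lc_c_rc_22_5 lc_c_rc_2_3) (@D3.rec (fun _ => (Cert rels S Gen.c)) lc_c_rc_7_1 lc_c_rc_23_0 lc_c_rc_14_0 lc_c_rc_11_1 lc_c_rc_11_1 lc_c_rc_14_2 lc_c_rc_11_1 lc_c_rc_2_3 lc_c_rc_11_1 lc_c_rc_2_3 lc_c_rc_25_17 lc_c_rc_14_2 lc_c_rc_13_2 lc_c_rc_11_1 lc_c_rc_24_6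 lc_c_rc_13_0 lc_c_rc_14_2 lc_c_rc_26_2 lc_c_rc_11_1 lc_c_rc_7_5 lc_c_rc_11_1 lc_c_rc_13_2 lc_c_rc_13_2 lc_c_rc_24_6 lc_c_rc_22_5 lc_c_rc_13_2 lc_c_rc_13_0 lc_c_rc_13_0 lc_c_rc_13_2 lc_c_rc_14_2 lc_c_rc_11_1 lc_c_Cert_tree lc_c_rc_12_14 lc_c_rc_11_1 lc_c_rc_7_5 lc_c_rc_24_4 lc_c_rc_24_2 lc_c_rc_11_1 lc_c_rc_13_2 lc_c_rc_14_2 lc_c_rc_25_1 lc_c_rc_11_1 lc_c_rc_25_5 lc_c_rc_11_1 lc_c_rc_14_0 lc_c_Cert_tree lc_c_rc_11_1 lc_c_rc_13_0 lc_c_rc_11_1 lc_c_rc_11_1 lc_c_rc_23_0 lc_c_rc_23_0 lc_c_rc_13_2 lc_c_rc_13_2 lc_c_rc_14_2 lc_c_rc_26_4 lc_c_rc_11_1 lc_c_rc_22_3 lc_c_rc_13_2 lc_c_rc_11_1 lc_c_rc_7_3 lc_c_rc_23_0) (@D3.rec (fun _ => (Cert rels S Gen.c)) lc_c_rc_26_2 lc_c_rc_24_2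 lc_c_rc_13_2 lc_c_rc_14_2 lc_c_rc_11_1 lc_c_rc_7_3 lc_c_rc_11_1 lc_c_rc_2_3 lc_c_rc_11_1 lc_c_rc_2_3 lc_c_rc_13_2 lc_c_rc_26_4 lc_c_rc_2_3 lc_c_rc_13_2 lc_c_rc_2_3 lc_c_rc_14_2 lc_c_Cert_tree lc_c_rc_26_10 lc_c_rc_13_2 lc_c_rc_26_10 lc_c_rc_13_0 lc_c_rc_7_5 lc_c_rc_13_2 lc_c_rc_26_4 lc_c_rc_13_2 lc_c_rc_11_1 lc_c_rc_23_5 lc_c_rc_11_1 lc_c_rc_7_3 lc_c_rc_24_8 lc_c_rc_11_1 lc_c_rc_11_1 lc_c_rc_13_0 lc_c_rc_14_2 lc_c_rc_13_2 lc_c_rc_11_1 lc_c_rc_13_2 lc_c_rc_24_2 lc_c_rc_23_0 lc_c_rc_13_2 lc_c_rc_13_2 lc_c_rc_22_9 lc_c_rc_13_2 lc_c_rc_23_5 lc_c_rc_22_3 lc_c_rc_26_8 lc_c_rc_24_2 lc_c_rc_11_1 lc_c_rc_11_1 lc_c_rc_13_2 lc_c_rc_13_2 lc_c_rc_2_3 lc_c_rc_13_0 lc_c_rc_23_5 lc_c_rc_11_1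 lc_c_rc_11_1 lc_c_rc_24_8 lc_c_rc_14_2 lc_c_rc_11_1 lc_c_rc_11_1 lc_c_rc_22_7 lc_c_rc_24_8) (@D3.rec (fun _ => (Cert rels S Gen.c)) lc_c_rc_22_7 lc_c_rc_13_2 lc_c_rc_23_0 lc_c_rc_2_3 lc_c_rc_13_2 lc_c_rc_24_4 lc_c_rc_12_2 lc_c_rc_11_1 lc_c_rc_11_1 lc_c_rc_26_4 lc_c_rc_13_2 lc_c_rc_22_7 lc_c_rc_7_5 lc_c_rc_7_5 lc_c_rc_22_3 lc_c_rc_22_3 lc_c_rc_7_3 lc_c_rc_26_8 lc_c_rc_13_2 lc_c_rc_13_2 lc_c_Cert_tree lc_c_rc_7_5 lc_c_rc_14_2 lc_c_rc_24_8 lc_c_rc_13_2 lc_c_rc_7_5 lc_c_rc_13_0 lc_c_rc_26_2 lc_c_rc_26_2 lc_c_Cert_tree lc_c_rc_2_3 lc_c_rc_11_1 lc_c_rc_11_1 lc_c_rc_7_1 lc_c_rc_13_2 lc_c_rc_13_2 lc_c_rc_2_3 lc_c_rc_11_1 lc_c_rc_7_5 lc_c_rc_14_2 lc_c_rc_24_4 lc_c_rc_7_5 lc_c_rc_13_2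 lc_c_rc_22_9 lc_c_rc_13_2 lc_c_rc_22_5 lc_c_rc_13_2 lc_c_rc_7_5 lc_c_rc_13_2 lc_c_rc_11_1 lc_c_rc_13_2 lc_c_rc_11_1 lc_c_rc_22_3 lc_c_rc_14_2 lc_c_rc_26_2 lc_c_rc_13_2 lc_c_rc_13_2 lc_c_rc_23_0 lc_c_rc_26_4 lc_c_rc_13_2 lc_c_rc_26_8 lc_c_rc_13_2) (@D3.rec (fun _ => (Cert rels S Gen.c)) lc_c_rc_26_10 lc_c_rc_11_1 lc_c_rc_12_14 lc_c_rc_24_2 lc_c_rc_11_1 lc_c_rc_7_3 lc_c_rc_13_2 lc_c_rc_24_8 lc_c_Cert_tree lc_c_rc_14_2 lc_c_rc_13_2 lc_c_rc_14_2 lc_c_rc_22_5 lc_c_rc_22_5 lc_c_rc_11_1 lc_c_rc_26_4 lc_c_rc_11_1 lc_c_rc_7_5 lc_c_rc_2_3 lc_c_rc_13_2 lc_c_rc_13_2 lc_c_rc_14_2 lc_c_rc_26_4 lc_c_rc_25_5 lc_c_rc_11_1 lc_c_rc_11_1 lc_c_rc_7_1 lc_c_rc_11_1 lc_c_rc_13_2 lc_c_rc_22_5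 lc_c_rc_13_2 lc_c_rc_7_3 lc_c_rc_7_5 lc_c_Cert_tree lc_c_rc_14_2 lc_c_rc_24_4 lc_c_rc_23_0 lc_c_rc_13_2 lc_c_rc_23_5 lc_c_rc_7_3 lc_c_rc_22_7 lc_c_rc_11_1 lc_c_rc_7_3 lc_c_rc_7_1 lc_c_rc_26_4 lc_c_rc_13_2 lc_c_rc_11_1 lc_c_rc_13_2 lc_c_rc_24_4 lc_c_rc_24_4 lc_c_rc_7_5 lc_c_rc_7_5 lc_c_rc_13_2 lc_c_rc_7_1 lc_c_rc_26_4 lc_c_rc_11_1 lc_c_rc_24_2 lc_c_rc_7_1 lc_c_rc_13_2 lc_c_rc_11_1 lc_c_rc_7_3 lc_c_rc_13_0) (@D3.rec (fun _ => (Cert rels S Gen.c)) lc_c_rc_11_1 lc_c_rc_7_5 lc_c_rc_14_2 lc_c_rc_7_5 lc_c_rc_13_2 lc_c_rc_14_2 lc_c_rc_22_3 lc_c_rc_24_4 lc_c_rc_24_6 lc_c_rc_25_13 lc_c_rc_13_2 lc_c_rc_22_3 lc_c_rc_11_1 lc_c_rc_13_2 lc_c_rc_22_5 lc_c_rc_13_2 lc_c_rc_7_3 lc_c_rc_22_3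 lc_c_rc_2_3 lc_c_rc_11_1 lc_c_rc_2_3 lc_c_rc_13_2 lc_c_rc_13_2 lc_c_rc_24_6 lc_c_Cert_tree lc_c_rc_13_0 lc_c_rc_11_1 lc_c_rc_22_5 lc_c_rc_2_1 lc_c_Cert_tree lc_c_rc_11_1 lc_c_rc_13_0 lc_c_rc_11_1 lc_c_rc_26_10 lc_c_rc_7_1 lc_c_rc_14_2 lc_c_rc_26_4 lc_c_rc_26_2 lc_c_rc_11_1 lc_c_rc_24_4 lc_c_rc_11_1 lc_c_rc_11_1 lc_c_rc_7_3 lc_c_rc_11_1 lc_c_Cert_tree lc_c_rc_26_2 lc_c_rc_11_1 lc_c_Cert_tree lc_c_rc_13_2 lc_c_rc_24_2 lc_c_Cert_tree lc_c_rc_11_1 lc_c_rc_13_2 lc_c_rc_22_5 lc_c_rc_23_0 lc_c_rc_14_2 lc_c_rc_11_1 lc_c_Cert_tree lc_c_rc_26_4 lc_c_rc_11_1 lc_c_Cert_tree lc_c_rc_22_3) (@D3.rec (fun _ => (Cert rels S Gen.c)) lc_c_Cert_tree lc_c_rc_22_7 lc_c_rc_11_1 lc_c_rc_14_2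 lc_c_rc_2_1 lc_c_rc_22_5 lc_c_rc_11_1 lc_c_rc_11_1 lc_c_rc_7_1 lc_c_Cert_tree lc_c_rc_7_1 lc_c_rc_11_1 lc_c_rc_13_2 lc_c_rc_13_0 lc_c_rc_22_5 lc_c_rc_11_1 lc_c_rc_11_1 lc_c_Cert_tree lc_c_rc_11_1 lc_c_rc_13_2 lc_c_rc_24_4 lc_c_rc_24_6 lc_c_rc_7_3 lc_c_rc_11_1 lc_c_rc_14_2 lc_c_rc_13_2 lc_c_Cert_tree lc_c_rc_11_1 lc_c_rc_7_5 lc_c_Cert_tree lc_c_rc_11_1 lc_c_rc_13_2 lc_c_rc_23_5 lc_c_rc_11_1 lc_c_rc_7_3 lc_c_rc_24_8 lc_c_rc_13_2 lc_c_rc_7_5 lc_c_rc_14_2 lc_c_rc_26_10 lc_c_rc_11_1 lc_c_rc_7_1 lc_c_rc_11_1 lc_c_rc_7_3 lc_c_rc_11_1 lc_c_rc_13_2 lc_c_rc_11_1 lc_c_rc_13_2 lc_c_rc_23_5 lc_c_rc_13_2 lc_c_rc_7_5 lc_c_rc_7_1 lc_c_rc_13_2 lc_c_Cert_tree lc_c_rc_13_2 lc_c_rc_11_1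 lc_c_rc_12_0 lc_c_rc_22_3 lc_c_rc_11_1 lc_c_rc_14_2 lc_c_rc_11_1 lc_c_rc_7_5) (@D3.rec (fun _ => (Cert rels S Gen.c)) lc_c_rc_11_1 lc_c_rc_25_1 lc_c_rc_14_2 lc_c_rc_26_8 lc_c_rc_11_1 lc_c_rc_24_2 lc_c_rc_24_6 lc_c_rc_11_1 lc_c_rc_22_7 lc_c_rc_24_4 lc_c_rc_23_0 lc_c_rc_7_5 lc_c_rc_22_5 lc_c_rc_26_4 lc_c_rc_11_1 lc_c_rc_7_5 lc_c_rc_12_0 lc_c_rc_23_5 lc_c_rc_7_5 lc_c_rc_11_1 lc_c_rc_26_4 lc_c_rc_25_17 lc_c_rc_13_2 lc_c_Cert_tree lc_c_rc_11_1 lc_c_rc_11_1 lc_c_rc_11_1 lc_c_rc_2_3 lc_c_rc_26_2 lc_c_rc_7_5 lc_c_rc_26_4 lc_c_rc_11_1 lc_c_rc_26_4 lc_c_rc_14_2 lc_c_rc_23_5 lc_c_rc_22_5 lc_c_rc_11_1 lc_c_rc_7_5 lc_c_rc_26_4 lc_c_rc_13_2 lc_c_rc_13_2 lc_c_rc_26_10 lc_c_rc_11_1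 lc_c_rc_14_2 lc_c_rc_13_2 lc_c_rc_11_1 lc_c_rc_25_1 lc_c_rc_26_2 lc_c_rc_24_2 lc_c_rc_24_8 lc_c_rc_12_2 lc_c_rc_13_2 lc_c_rc_13_2 lc_c_rc_11_1 lc_c_rc_22_7 lc_c_rc_13_2 lc_c_rc_24_8 lc_c_rc_26_10 lc_c_rc_7_5 lc_c_rc_23_5 lc_c_rc_11_1 lc_c_rc_26_4) (@D3.rec (fun _ => (Cert rels S Gen.c)) lc_c_rc_11_1 lc_c_rc_13_2 lc_c_rc_13_2 lc_c_rc_13_2 lc_c_rc_24_8 lc_c_rc_23_0 lc_c_rc_13_2 lc_c_rc_14_2 lc_c_rc_22_7 lc_c_rc_23_0 lc_c_rc_11_1 lc_c_rc_2_3 lc_c_rc_11_1 lc_c_rc_11_1 lc_c_rc_13_2 lc_c_rc_13_2 lc_c_rc_13_2 lc_c_rc_22_7 lc_c_rc_14_2 lc_c_rc_7_5 lc_c_rc_22_5 lc_c_rc_13_2 lc_c_rc_7_1 lc_c_rc_2_3 lc_c_rc_26_4 lc_c_rc_13_2 lc_c_rc_11_1 lc_c_rc_13_2 lc_c_rc_24_4 lc_c_rc_13_0 lc_c_rc_13_0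 lc_c_rc_23_5 lc_c_rc_11_1 lc_c_rc_13_2 lc_c_rc_24_2 lc_c_rc_22_7 lc_c_rc_11_1 lc_c_rc_11_1 lc_c_rc_26_4 lc_c_rc_11_1 lc_c_rc_2_1 lc_c_rc_11_1 lc_c_rc_22_7 lc_c_rc_13_2 lc_c_rc_23_0 lc_c_rc_13_2 lc_c_rc_26_4 lc_c_Cert_tree lc_c_rc_13_2 lc_c_rc_7_5 lc_c_rc_26_4 lc_c_Cert_tree lc_c_Cert_tree lc_c_rc_14_2 lc_c_rc_22_5 lc_c_rc_13_2 lc_c_rc_22_5 lc_c_rc_13_2 lc_c_rc_24_4 lc_c_rc_23_0 lc_c_rc_11_1 lc_c_rc_22_3) (@D3.rec (fun _ => (Cert rels S Gen.c)) lc_c_rc_7_5 lc_c_rc_13_2 lc_c_rc_22_7 lc_c_rc_2_3 lc_c_rc_23_5 lc_c_rc_13_2 lc_c_rc_13_2 lc_c_rc_11_1 lc_c_rc_24_2 lc_c_rc_7_3 lc_c_rc_11_1 lc_c_rc_13_2 lc_c_rc_26_8 lc_c_rc_13_2 lc_c_rc_11_1 lc_c_rc_22_7 lc_c_rc_13_2 lc_c_rc_23_0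 lc_c_rc_11_1 lc_c_rc_22_5 lc_c_rc_2_3 lc_c_rc_26_10 lc_c_rc_13_2 lc_c_rc_22_5 lc_c_rc_13_2 lc_c_rc_7_3 lc_c_rc_23_0 lc_c_rc_7_1 lc_c_rc_13_2 lc_c_rc_13_2 lc_c_rc_13_2 lc_c_rc_11_1 lc_c_rc_2_3 lc_c_rc_2_3 lc_c_rc_11_1 lc_c_Cert_tree lc_c_rc_11_1 lc_c_rc_24_2 lc_c_rc_2_3 lc_c_rc_25_5 lc_c_rc_7_5 lc_c_rc_23_0 lc_c_rc_13_2 lc_c_rc_11_1 lc_c_rc_13_2 lc_c_rc_13_2 lc_c_rc_26_8 lc_c_rc_23_5 lc_c_rc_13_2 lc_c_rc_24_4 lc_c_rc_13_2 lc_c_rc_24_4 lc_c_rc_11_1 lc_c_rc_7_5 lc_c_rc_11_1 lc_c_rc_13_2 lc_c_rc_11_1 lc_c_rc_14_2 lc_c_rc_13_2 lc_c_rc_13_2 lc_c_rc_13_2 lc_c_rc_13_0) (@D3.rec (fun _ => (Cert rels S Gen.c)) lc_c_rc_14_2 lc_c_rc_13_2 lc_c_rc_13_2 lc_c_rc_22_3 lc_c_rc_11_1 lc_c_rc_13_2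 lc_c_rc_22_3 lc_c_rc_13_2 lc_c_rc_26_10 lc_c_rc_11_1 lc_c_Cert_tree lc_c_rc_7_5 lc_c_rc_23_0 lc_c_rc_22_3 lc_c_rc_11_1 lc_c_rc_7_1 lc_c_rc_24_6 lc_c_rc_22_5 lc_c_rc_13_2 lc_c_rc_11_1 lc_c_rc_24_6 lc_c_rc_13_2 lc_c_rc_24_8 lc_c_rc_24_6 lc_c_Cert_tree lc_c_rc_23_0 lc_c_rc_11_1 lc_c_rc_13_2 lc_c_rc_13_0 lc_c_rc_7_5 lc_c_Cert_tree lc_c_rc_11_1 lc_c_rc_26_2 lc_c_rc_11_1 lc_c_rc_22_9 lc_c_rc_22_7 lc_c_rc_11_1 lc_c_rc_23_5 lc_c_rc_22_5 lc_c_rc_7_5 lc_c_rc_11_1 lc_c_rc_25_17 lc_c_rc_26_8 lc_c_rc_25_1 lc_c_Cert_tree lc_c_Cert_tree lc_c_rc_23_5 lc_c_rc_7_1 lc_c_rc_13_0 lc_c_rc_11_1 lc_c_rc_14_2 lc_c_rc_11_1 lc_c_rc_26_2 lc_c_rc_24_6 lc_c_rc_11_1 lc_c_Cert_tree lc_c_rc_13_2 lc_c_rc_26_10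 lc_c_rc_13_0 lc_c_rc_26_4 lc_c_rc_7_5 lc_c_rc_13_2) (@D3.rec (fun _ => (Cert rels S Gen.c)) lc_c_rc_22_7 lc_c_rc_2_3 lc_c_rc_11_1 lc_c_rc_2_3 lc_c_rc_22_5 lc_c_Cert_tree lc_c_rc_13_2 lc_c_rc_24_8 lc_c_rc_12_14 lc_c_rc_11_1 lc_c_rc_24_6 lc_c_rc_13_2 lc_c_rc_11_1 lc_c_Cert_tree lc_c_rc_14_2 lc_c_rc_11_1 lc_c_rc_25_9 lc_c_rc_2_3 lc_c_rc_24_8 lc_c_rc_24_4 lc_c_rc_13_0 lc_c_rc_22_7 lc_c_rc_11_1 lc_c_rc_7_1 lc_c_rc_13_2 lc_c_rc_14_0 lc_c_rc_2_1 lc_c_rc_13_2 lc_c_rc_23_0 lc_c_rc_26_4 lc_c_rc_12_4 lc_c_rc_23_0 lc_c_rc_13_2 lc_c_rc_24_6 lc_c_rc_11_1 lc_c_rc_14_2 lc_c_rc_7_3 lc_c_rc_13_2 lc_c_rc_7_3 lc_c_rc_7_3 lc_c_rc_26_4 lc_c_rc_11_1 lc_c_rc_11_1 lc_c_rc_13_0 lc_c_rc_11_1 lc_c_rc_11_1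 lc_c_rc_11_1 lc_c_rc_7_5 lc_c_rc_11_1 lc_c_rc_24_6 lc_c_rc_11_1 lc_c_rc_26_10 lc_c_rc_26_4 lc_c_rc_7_5 lc_c_rc_13_2 lc_c_rc_13_0 lc_c_rc_24_6 lc_c_rc_11_1 lc_c_rc_2_1 lc_c_rc_13_2 lc_c_rc_13_0 lc_c_rc_14_2) (@D3.rec (fun _ => (Cert rels S Gen.c)) lc_c_rc_2_1 lc_c_rc_13_2 lc_c_rc_24_6 lc_c_rc_13_0 lc_c_rc_11_1 lc_c_rc_13_0 lc_c_rc_26_10 lc_c_rc_2_1 lc_c_rc_2_3 lc_c_rc_13_2 lc_c_rc_26_8 lc_c_rc_13_2 lc_c_rc_2_1 lc_c_rc_2_1 lc_c_rc_13_2 lc_c_rc_23_5 lc_c_rc_24_2 lc_c_rc_2_1 lc_c_rc_11_1 lc_c_rc_11_1 lc_c_rc_24_2 lc_c_rc_23_0 lc_c_rc_14_2 lc_c_rc_7_1 lc_c_rc_11_1 lc_c_rc_22_3 lc_c_rc_13_2 lc_c_rc_26_2 lc_c_rc_24_4 lc_c_rc_23_0 lc_c_rc_24_2 lc_c_rc_14_2 lc_c_rc_26_10 lc_c_rc_13_2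 lc_c_rc_22_5 lc_c_rc_13_2 lc_c_rc_11_1 lc_c_rc_7_1 lc_c_rc_12_14 lc_c_rc_11_1 lc_c_rc_11_1 lc_c_rc_2_1 lc_c_rc_13_2 lc_c_rc_13_2 lc_c_rc_26_2 lc_c_Cert_tree lc_c_rc_11_1 lc_c_rc_26_2 lc_c_rc_22_9 lc_c_rc_11_1 lc_c_rc_12_2 lc_c_rc_13_2 lc_c_rc_11_1 lc_c_rc_13_2 lc_c_Cert_tree lc_c_Cert_tree lc_c_Cert_tree lc_c_rc_14_0 lc_c_rc_13_0 lc_c_Cert_tree lc_c_rc_14_2 lc_c_rc_7_1) (@D3.rec (fun _ => (Cert rels S Gen.c)) lc_c_Cert_tree lc_c_rc_23_0 lc_c_rc_11_1 lc_c_rc_26_4 lc_c_rc_11_1 lc_c_rc_7_1 lc_c_rc_13_2 lc_c_rc_13_2 lc_c_rc_11_1 lc_c_rc_7_3 lc_c_rc_14_2 lc_c_rc_11_1 lc_c_rc_26_4 lc_c_rc_13_2 lc_c_rc_11_1 lc_c_rc_26_10 lc_c_rc_26_4 lc_c_rc_14_2 lc_c_rc_11_1 lc_c_rc_26_4 lc_c_rc_13_2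 lc_c_Cert_tree lc_c_rc_11_1 lc_c_rc_11_1 lc_c_rc_13_2 lc_c_rc_13_2 lc_c_rc_14_2 lc_c_rc_11_1 lc_c_rc_22_5 lc_c_rc_11_1 lc_c_rc_11_1 lc_c_rc_7_5 lc_c_rc_24_6 lc_c_rc_24_4 lc_c_rc_22_5 lc_c_rc_13_2 lc_c_rc_2_3 lc_c_rc_11_1 lc_c_rc_13_2 lc_c_rc_13_2 lc_c_rc_26_4 lc_c_rc_26_4 lc_c_rc_23_5 lc_c_rc_2_3 lc_c_rc_13_2 lc_c_rc_13_2 lc_c_rc_24_4 lc_c_rc_22_3 lc_c_rc_11_1 lc_c_rc_13_2 lc_c_rc_24_2 lc_c_rc_23_0 lc_c_rc_26_2 lc_c_rc_26_8 lc_c_rc_13_2 lc_c_rc_24_4 lc_c_rc_22_3 lc_c_rc_14_2 lc_c_rc_7_3 lc_c_rc_22_7 lc_c_rc_24_6 lc_c_rc_22_3) (@D3.rec (fun _ => (Cert rels S Gen.c)) lc_c_rc_12_2 lc_c_rc_13_2 lc_c_rc_13_2 lc_c_rc_11_1 lc_c_rc_11_1 lc_c_rc_13_2 lc_c_rc_11_1 lc_c_rc_23_0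 lc_c_rc_13_2 lc_c_rc_11_1 lc_c_rc_24_2 lc_c_rc_11_1 lc_c_rc_26_8 lc_c_rc_11_1 lc_c_rc_22_7 lc_c_rc_13_2 lc_c_rc_24_2 lc_c_rc_26_4 lc_c_rc_2_3 lc_c_rc_2_3 lc_c_rc_11_1 lc_c_rc_11_1 lc_c_rc_11_1 lc_c_rc_22_5 lc_c_rc_23_0 lc_c_rc_24_8 lc_c_rc_26_4 lc_c_rc_14_0 lc_c_rc_11_1 lc_c_rc_24_4 lc_c_rc_22_5 lc_c_rc_11_1 lc_c_rc_2_1 lc_c_rc_7_1 lc_c_rc_11_1 lc_c_rc_22_5 lc_c_rc_2_3 lc_c_rc_13_2 lc_c_rc_22_3 lc_c_rc_11_1 lc_c_rc_23_0 lc_c_rc_11_1 lc_c_rc_7_5 lc_c_rc_2_3 lc_c_rc_13_0 lc_c_rc_24_2 lc_c_rc_13_2 lc_c_rc_7_3 lc_c_rc_13_2 lc_c_rc_11_1 lc_c_rc_22_5 lc_c_rc_12_2 lc_c_rc_26_4 lc_c_rc_13_2 lc_c_rc_23_5 lc_c_rc_13_0 lc_c_rc_11_1 lc_c_rc_23_0 lc_c_rc_26_10 lc_c_rc_11_1 lc_c_rc_13_2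 lc_c_rc_11_1) (@D3.rec (fun _ => (Cert rels S Gen.c)) lc_c_rc_22_3 lc_c_rc_22_7 lc_c_rc_26_4 lc_c_rc_22_5 lc_c_rc_13_2 lc_c_rc_11_1 lc_c_rc_7_5 lc_c_rc_14_0 lc_c_rc_11_1 lc_c_rc_7_3 lc_c_rc_11_1 lc_c_rc_11_1 lc_c_rc_22_3 lc_c_rc_7_1 lc_c_rc_12_2 lc_c_rc_24_4 lc_c_rc_2_1 lc_c_rc_13_2 lc_c_rc_26_2 lc_c_rc_13_2 lc_c_rc_11_1 lc_c_rc_11_1 lc_c_rc_11_1 lc_c_rc_11_1 lc_c_rc_23_5 lc_c_rc_2_3 lc_c_rc_11_1 lc_c_rc_13_2 lc_c_rc_23_0 lc_c_rc_22_5 lc_c_rc_2_3 lc_c_rc_11_1 lc_c_rc_14_0 lc_c_rc_7_5 lc_c_rc_13_2 lc_c_rc_11_1 lc_c_rc_22_5 lc_c_rc_13_2 lc_c_rc_11_1 lc_c_rc_22_9 lc_c_rc_13_2 lc_c_rc_13_2 lc_c_rc_24_2 lc_c_rc_12_2 lc_c_rc_13_2 lc_c_rc_11_1 lc_c_rc_7_1 lc_c_rc_12_2 lc_c_rc_11_1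 lc_c_rc_24_6 lc_c_rc_11_1 lc_c_rc_11_1 lc_c_rc_11_1 lc_c_rc_2_3 lc_c_rc_24_2 lc_c_rc_11_1 lc_c_rc_14_0 lc_c_rc_13_2 lc_c_rc_11_1 lc_c_rc_2_1 lc_c_rc_24_6 lc_c_rc_14_2) (@D3.rec (fun _ => (Cert rels S Gen.c)) lc_c_rc_13_2 lc_c_rc_13_0 lc_c_rc_13_2 lc_c_rc_7_5 lc_c_rc_25_17 lc_c_rc_26_4 lc_c_rc_7_5 lc_c_rc_24_4 lc_c_rc_24_2 lc_c_rc_14_0 lc_c_rc_13_2 lc_c_rc_13_2 lc_c_rc_11_1 lc_c_rc_7_1 lc_c_rc_22_5 lc_c_rc_26_4 lc_c_rc_13_2 lc_c_rc_23_0 lc_c_rc_24_2 lc_c_rc_23_5 lc_c_rc_11_1 lc_c_rc_26_2 lc_c_rc_22_9 lc_c_rc_24_6 lc_c_rc_26_10 lc_c_rc_2_3 lc_c_rc_11_1 lc_c_rc_12_14 lc_c_rc_14_2 lc_c_rc_11_1 lc_c_rc_24_4 lc_c_rc_11_1 lc_c_rc_13_0 lc_c_rc_12_14 lc_c_rc_26_4 lc_c_rc_13_2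 lc_c_rc_13_2 lc_c_rc_7_3 lc_c_rc_13_2 lc_c_rc_13_0 lc_c_rc_7_5 lc_c_rc_11_1 lc_c_rc_11_1 lc_c_rc_26_4 lc_c_rc_11_1 lc_c_rc_23_0 lc_c_rc_24_8 lc_c_rc_13_2 lc_c_rc_13_2 lc_c_rc_2_3 lc_c_rc_13_2 lc_c_rc_13_2 lc_c_rc_2_3 lc_c_rc_26_2 lc_c_rc_24_6 lc_c_rc_22_5 lc_c_rc_22_7 lc_c_rc_14_2 lc_c_rc_11_1 lc_c_rc_13_2 lc_c_rc_7_5 lc_c_rc_13_2) (@D3.rec (fun _ => (Cert rels S Gen.c)) lc_c_rc_14_2 lc_c_rc_2_3 lc_c_rc_13_2 lc_c_rc_11_1 lc_c_rc_7_3 lc_c_rc_11_1 lc_c_rc_24_6 lc_c_rc_24_4 lc_c_rc_13_2 lc_c_Cert_tree lc_c_rc_13_0 lc_c_rc_14_2 lc_c_rc_14_0 lc_c_rc_14_2 lc_c_rc_7_5 lc_c_rc_7_5 lc_c_rc_11_1 lc_c_rc_23_0 lc_c_rc_11_1 lc_c_rc_7_5 lc_c_rc_24_2 lc_c_rc_13_2 lc_c_rc_11_1 lc_c_rc_7_3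 lc_c_rc_13_2 lc_c_rc_13_0 lc_c_Cert_tree lc_c_rc_14_2 lc_c_rc_24_8 lc_c_rc_24_6 lc_c_rc_14_2 lc_c_rc_14_2 lc_c_rc_7_5 lc_c_rc_23_5 lc_c_rc_22_3 lc_c_rc_11_1 lc_c_rc_7_3 lc_c_rc_7_5 lc_c_rc_11_1 lc_c_rc_11_1 lc_c_rc_14_2 lc_c_rc_13_2 lc_c_rc_24_4 lc_c_Cert_tree lc_c_rc_11_1 lc_c_rc_11_1 lc_c_rc_12_2 lc_c_rc_14_2 lc_c_rc_23_5 lc_c_rc_11_1 lc_c_rc_26_4 lc_c_rc_2_1 lc_c_rc_13_2 lc_c_rc_11_1 lc_c_rc_26_4 lc_c_rc_24_8 lc_c_rc_14_2 lc_c_rc_24_8 lc_c_rc_13_0 lc_c_Cert_tree lc_c_rc_14_2 lc_c_rc_11_1) (@D3.rec (fun _ => (Cert rels S Gen.c)) lc_c_rc_7_3 lc_c_rc_22_5 lc_c_rc_13_2 lc_c_rc_23_0 lc_c_rc_2_3 lc_c_rc_14_2 lc_c_rc_26_4 lc_c_rc_25_1 lc_c_rc_7_3 lc_c_rc_24_8 lc_c_rc_2_3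 lc_c_rc_13_2 lc_c_rc_26_4 lc_c_rc_26_10 lc_c_rc_23_0 lc_c_rc_11_1 lc_c_rc_11_1 lc_c_rc_2_3 lc_c_rc_2_3 lc_c_rc_22_3 lc_c_rc_26_4 lc_c_rc_7_5 lc_c_rc_2_3 lc_c_rc_26_8 lc_c_rc_13_2 lc_c_rc_24_4 lc_c_rc_24_4 lc_c_rc_22_5 lc_c_rc_7_3 lc_c_rc_7_3 lc_c_rc_24_2 lc_c_rc_2_3 lc_c_rc_14_2 lc_c_rc_22_5 lc_c_rc_11_1 lc_c_rc_7_3 lc_c_rc_25_5 lc_c_rc_24_4 lc_c_rc_13_2 lc_c_rc_11_1 lc_c_rc_13_2 lc_c_rc_23_0 lc_c_rc_24_4 lc_c_rc_13_2 lc_c_rc_13_2 lc_c_rc_26_4 lc_c_Cert_tree lc_c_rc_26_2 lc_c_rc_11_1 lc_c_rc_23_5 lc_c_rc_13_2 lc_c_rc_25_5 lc_c_rc_13_0 lc_c_rc_25_17 lc_c_rc_7_1 lc_c_rc_22_9 lc_c_rc_11_1 lc_c_Cert_tree lc_c_rc_11_1 lc_c_rc_11_1 lc_c_rc_13_2 lc_c_rc_7_5) (@D3.rec (fun _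 => (Cert rels S Gen.c)) lc_c_rc_11_1 lc_c_rc_11_1 lc_c_rc_13_2 lc_c_rc_13_2 lc_c_rc_11_1 lc_c_rc_22_9 lc_c_rc_11_1 lc_c_rc_14_2 lc_c_rc_7_3 lc_c_rc_13_2 lc_c_rc_11_1 lc_c_rc_2_1 lc_c_rc_11_1 lc_c_rc_25_5 lc_c_rc_14_2 lc_c_rc_7_3 lc_c_rc_24_2 lc_c_rc_11_1 lc_c_rc_13_2 lc_c_rc_26_10 lc_c_rc_11_1 lc_c_rc_13_2 lc_c_rc_14_2 lc_c_rc_22_3 lc_c_rc_24_2 lc_c_rc_23_0 lc_c_rc_23_5 lc_c_rc_24_4 lc_c_rc_7_3 lc_c_rc_22_3 lc_c_rc_2_3 lc_c_rc_13_2 lc_c_rc_13_2 lc_c_rc_11_1 lc_c_rc_7_5 lc_c_rc_26_8 lc_c_rc_24_6 lc_c_rc_24_2 lc_c_rc_13_2 lc_c_rc_23_0 lc_c_rc_11_1 lc_c_rc_11_1 lc_c_rc_7_3 lc_c_rc_11_1 lc_c_rc_22_7 lc_c_rc_13_2 lc_c_rc_7_3 lc_c_rc_7_1 lc_c_rc_13_2 lc_c_rc_11_1 lc_c_rc_11_1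 lc_c_rc_2_3 lc_c_rc_2_3 lc_c_rc_26_2 lc_c_rc_13_2 lc_c_rc_2_1 lc_c_rc_7_5 lc_c_rc_13_2 lc_c_rc_2_3 lc_c_rc_13_2 lc_c_rc_14_2 lc_c_rc_23_0) (@D3.rec (fun _ => (Cert rels S Gen.c)) lc_c_rc_26_4 lc_c_rc_13_2 lc_c_rc_11_1 lc_c_rc_11_1 lc_c_rc_22_9 lc_c_rc_14_2 lc_c_rc_11_1 lc_c_rc_14_2 lc_c_rc_13_2 lc_c_rc_13_0 lc_c_rc_2_3 lc_c_rc_26_2 lc_c_rc_13_2 lc_c_rc_11_1 lc_c_rc_11_1 lc_c_rc_13_2 lc_c_rc_7_5 lc_c_rc_22_5 lc_c_rc_14_2 lc_c_rc_11_1 lc_c_rc_11_1 lc_c_rc_26_4 lc_c_rc_11_1 lc_c_Cert_tree lc_c_rc_24_2 lc_c_rc_22_7 lc_c_rc_23_5 lc_c_rc_13_2 lc_c_rc_13_0 lc_c_rc_11_1 lc_c_rc_13_2 lc_c_rc_14_2 lc_c_rc_13_2 lc_c_rc_22_3 lc_c_rc_26_2 lc_c_rc_22_7 lc_c_rc_11_1 lc_c_rc_14_2 lc_c_rc_11_1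 lc_c_rc_26_2 lc_c_rc_2_1 lc_c_rc_25_9 lc_c_rc_26_4 lc_c_rc_22_7 lc_c_rc_13_2 lc_c_rc_26_4 lc_c_rc_14_2 lc_c_rc_11_1 lc_c_rc_22_3 lc_c_rc_14_2 lc_c_rc_25_17 lc_c_rc_26_4 lc_c_rc_11_1 lc_c_rc_13_2 lc_c_Cert_tree lc_c_rc_13_2 lc_c_rc_11_1 lc_c_rc_7_3 lc_c_rc_13_2 lc_c_rc_2_1 lc_c_rc_11_1 lc_c_rc_25_17) (@D3.rec (fun _ => (Cert rels S Gen.c)) lc_c_rc_26_4 lc_c_rc_13_0 lc_c_rc_23_5 lc_c_rc_25_1 lc_c_rc_11_1 lc_c_rc_22_3 lc_c_rc_7_3 lc_c_rc_25_5 lc_c_rc_13_2 lc_c_rc_7_5 lc_c_rc_24_2 lc_c_rc_14_2 lc_c_rc_11_1 lc_c_rc_22_3 lc_c_rc_11_1 lc_c_rc_22_7 lc_c_rc_22_3 lc_c_rc_11_1 lc_c_rc_13_0 lc_c_rc_26_2 lc_c_rc_14_2 lc_c_rc_11_1 lc_c_rc_13_2 lc_c_rc_26_8 lc_c_rc_11_1 lc_c_rc_11_1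 lc_c_rc_13_2 lc_c_rc_24_4 lc_c_rc_24_6 lc_c_rc_25_5 lc_c_rc_14_2 lc_c_rc_11_1 lc_c_rc_11_1 lc_c_rc_23_0 lc_c_rc_13_0 lc_c_rc_22_3 lc_c_rc_7_5 lc_c_rc_22_9 lc_c_rc_7_5 lc_c_rc_24_8 lc_c_rc_11_1 lc_c_rc_14_2 lc_c_rc_14_0 lc_c_rc_11_1 lc_c_rc_11_1 lc_c_rc_2_1 lc_c_rc_11_1 lc_c_rc_24_4 lc_c_rc_11_1 lc_c_rc_24_6 lc_c_rc_11_1 lc_c_rc_26_4 lc_c_rc_13_2 lc_c_rc_26_4 lc_c_rc_26_2 lc_c_Cert_tree lc_c_rc_13_2 lc_c_rc_23_0 lc_c_Cert_tree lc_c_Cert_tree lc_c_Cert_tree lc_c_rc_11_1) (@D3.rec (fun _ => (Cert rels S Gen.c)) lc_c_rc_7_1 lc_c_rc_11_1 lc_c_rc_24_4 lc_c_rc_24_2 lc_c_rc_2_1 lc_c_rc_22_3 lc_c_rc_26_4 lc_c_rc_7_5 lc_c_rc_24_2 lc_c_rc_25_9 lc_c_rc_11_1 lc_c_rc_11_1 lc_c_rc_11_1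 lc_c_rc_23_0 lc_c_rc_25_1 lc_c_rc_13_2 lc_c_rc_11_1 lc_c_Cert_tree lc_c_rc_11_1 lc_c_rc_11_1 lc_c_rc_11_1 lc_c_rc_11_1 lc_c_rc_11_1 lc_c_rc_7_5 lc_c_rc_7_5 lc_c_rc_13_2 lc_c_rc_24_2 lc_c_rc_25_1 lc_c_rc_13_0 lc_c_rc_11_1 lc_c_rc_22_7 lc_c_rc_13_2 lc_c_rc_11_1 lc_c_rc_13_2 lc_c_rc_14_2 lc_c_rc_13_2 lc_c_rc_22_9 lc_c_rc_26_8 lc_c_rc_13_2 lc_c_Cert_tree lc_c_Cert_tree lc_c_rc_13_2 lc_c_rc_13_2 lc_c_rc_22_5 lc_c_rc_7_3 lc_c_rc_25_17 lc_c_rc_13_2 lc_c_rc_26_10 lc_c_rc_13_2 lc_c_rc_11_1 lc_c_Cert_tree lc_c_rc_14_2 lc_c_rc_13_2 lc_c_rc_13_2 lc_c_rc_11_1 lc_c_rc_22_3 lc_c_rc_24_2 lc_c_rc_11_1 lc_c_rc_11_1 lc_c_rc_11_1 lc_c_rc_11_1 lc_c_rc_7_3) (@D3.rec (fun _ => (Cert rels S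 Gen.c)) lc_c_rc_24_2 lc_c_rc_11_1 lc_c_rc_24_4 lc_c_rc_7_3 lc_c_rc_7_3 lc_c_rc_2_3 lc_c_rc_11_1 lc_c_rc_11_1 lc_c_rc_2_3 lc_c_rc_22_5 lc_c_rc_13_2 lc_c_rc_13_2 lc_c_rc_2_3 lc_c_rc_24_2 lc_c_rc_11_1 lc_c_rc_13_2 lc_c_rc_7_3 lc_c_rc_26_2 lc_c_rc_7_3 lc_c_rc_7_3 lc_c_rc_7_3 lc_c_rc_14_2 lc_c_rc_7_5 lc_c_rc_7_5 lc_c_rc_26_10 lc_c_rc_11_1 lc_c_rc_12_2 lc_c_rc_13_2 lc_c_rc_26_8 lc_c_rc_13_0 lc_c_rc_11_1 lc_c_rc_14_2 lc_c_rc_11_1 lc_c_rc_11_1 lc_c_rc_7_3 lc_c_Cert_tree lc_c_rc_14_2 lc_c_rc_7_5 lc_c_rc_7_3 lc_c_rc_24_4 lc_c_rc_11_1 lc_c_rc_22_5 lc_c_rc_25_1 lc_c_rc_26_4 lc_c_rc_11_1 lc_c_rc_13_2 lc_c_rc_11_1 lc_c_rc_23_0 lc_c_rc_26_2 lc_c_rc_11_1 lc_c_rc_11_1 lc_c_rc_11_1 lc_c_rc_7_3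 lc_c_rc_11_1 lc_c_rc_14_2 lc_c_rc_13_2 lc_c_rc_14_0 lc_c_Cert_tree lc_c_Cert_tree lc_c_rc_11_1 lc_c_rc_13_2 lc_c_rc_14_2) (@D3.rec (fun _ => (Cert rels S Gen.c)) lc_c_rc_23_0 lc_c_rc_24_4 lc_c_rc_23_5 lc_c_rc_26_8 lc_c_rc_13_0 lc_c_rc_13_2 lc_c_rc_11_1 lc_c_rc_7_5 lc_c_rc_24_2 lc_c_rc_14_2 lc_c_rc_13_0 lc_c_rc_22_5 lc_c_rc_13_2 lc_c_rc_26_2 lc_c_rc_7_5 lc_c_rc_13_2 lc_c_rc_23_5 lc_c_rc_7_5 lc_c_rc_11_1 lc_c_rc_11_1 lc_c_rc_26_10 lc_c_rc_22_5 lc_c_rc_13_2 lc_c_rc_24_4 lc_c_rc_24_2 lc_c_rc_13_2 lc_c_rc_13_2 lc_c_Cert_tree lc_c_rc_22_7 lc_c_rc_26_2 lc_c_rc_26_8 lc_c_rc_2_1 lc_c_rc_11_1 lc_c_rc_13_2 lc_c_rc_26_2 lc_c_rc_13_2 lc_c_rc_22_5 lc_c_rc_11_1 lc_c_rc_11_1 lc_c_rc_26_4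 lc_c_rc_22_7 lc_c_rc_13_2 lc_c_rc_26_8 lc_c_rc_13_2 lc_c_rc_13_2 lc_c_rc_23_5 lc_c_rc_14_2 lc_c_rc_11_1 lc_c_rc_11_1 lc_c_rc_11_1 lc_c_rc_26_4 lc_c_rc_11_1 lc_c_rc_26_2 lc_c_rc_13_2 lc_c_rc_11_1 lc_c_rc_13_2 lc_c_rc_13_2 lc_c_rc_25_5 lc_c_rc_13_2 lc_c_rc_26_4 lc_c_rc_13_2 lc_c_rc_7_3) (@D3.rec (fun _ => (Cert rels S Gen.c)) lc_c_rc_7_3 lc_c_rc_13_2 lc_c_rc_13_2 lc_c_rc_22_5 lc_c_rc_11_1 lc_c_rc_7_5 lc_c_rc_13_2 lc_c_rc_13_2 lc_c_rc_13_2 lc_c_rc_11_1 lc_c_rc_24_2 lc_c_rc_24_8 lc_c_rc_2_1 lc_c_rc_24_2 lc_c_rc_11_1 lc_c_rc_7_5 lc_c_rc_13_2 lc_c_rc_13_2 lc_c_rc_11_1 lc_c_rc_24_4 lc_c_rc_24_2 lc_c_rc_14_2 lc_c_rc_11_1 lc_c_rc_11_1 lc_c_rc_13_2 lc_c_rc_13_2 lc_c_rc_22_7 lc_c_rc_7_5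 lc_c_rc_11_1 lc_c_rc_11_1 lc_c_rc_13_2 lc_c_rc_7_5 lc_c_rc_24_2 lc_c_rc_2_1 lc_c_rc_11_1 lc_c_rc_13_0 lc_c_rc_11_1 lc_c_rc_24_8 lc_c_rc_14_2 lc_c_rc_25_9 lc_c_rc_25_17 lc_c_rc_25_13 lc_c_rc_23_0 lc_c_rc_7_3 lc_c_rc_11_1 lc_c_rc_14_2 lc_c_rc_26_4 lc_c_rc_11_1 lc_c_rc_11_1 lc_c_rc_13_2 lc_c_rc_7_3 lc_c_rc_22_5 lc_c_rc_22_5 lc_c_rc_12_2 lc_c_rc_11_1 lc_c_rc_11_1 lc_c_rc_7_3 lc_c_rc_12_0 lc_c_rc_11_1 lc_c_rc_22_5 lc_c_rc_13_2 lc_c_Cert_tree) (@D3.rec (fun _ => (Cert rels S Gen.c)) lc_c_rc_25_1 lc_c_rc_23_5 lc_c_rc_7_5 lc_c_rc_24_4 lc_c_rc_11_1 lc_c_rc_11_1 lc_c_rc_22_5 lc_c_rc_25_1 lc_c_rc_13_2 lc_c_rc_2_3 lc_c_rc_25_1 lc_c_rc_7_5 lc_c_rc_13_2 lc_c_rc_7_3 lc_c_rc_11_1 lc_c_rc_23_0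 lc_c_rc_22_5 lc_c_rc_24_4 lc_c_rc_7_3 lc_c_rc_22_3 lc_c_rc_22_3 lc_c_rc_13_2 lc_c_rc_13_0 lc_c_rc_26_8 lc_c_rc_11_1 lc_c_rc_24_4 lc_c_rc_26_10 lc_c_rc_7_3 lc_c_rc_22_5 lc_c_rc_22_3 lc_c_rc_7_5 lc_c_rc_22_5 lc_c_Cert_tree lc_c_rc_11_1 lc_c_rc_24_2 lc_c_rc_24_4 lc_c_rc_11_1 lc_c_rc_2_3 lc_c_rc_12_14 lc_c_rc_12_0 lc_c_rc_24_4 lc_c_rc_13_2 lc_c_rc_24_2 lc_c_rc_2_3 lc_c_rc_7_3 lc_c_rc_22_5 lc_c_rc_13_2 lc_c_rc_26_8 lc_c_rc_23_0 lc_c_rc_2_3 lc_c_rc_26_2 lc_c_rc_22_7 lc_c_rc_26_2 lc_c_rc_13_2 lc_c_rc_13_0 lc_c_rc_25_5 lc_c_rc_13_2 lc_c_rc_24_6 lc_c_rc_26_10 lc_c_rc_11_1 lc_c_rc_11_1 lc_c_rc_13_2) (@D3.rec (fun _ => (Cert rels S Gen.c)) lc_c_rc_22_3 lc_c_rc_25_5 lc_c_rc_13_2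 lc_c_rc_24_4 lc_c_rc_12_2 lc_c_rc_22_5 lc_c_rc_2_3 lc_c_rc_2_3 lc_c_rc_2_3 lc_c_Cert_tree lc_c_rc_26_4 lc_c_rc_26_10 lc_c_rc_22_7 lc_c_rc_7_5 lc_c_rc_23_0 lc_c_rc_11_1 lc_c_rc_26_8 lc_c_rc_13_0 lc_c_rc_22_5 lc_c_rc_11_1 lc_c_rc_7_1 lc_c_rc_13_2 lc_c_rc_24_2 lc_c_rc_24_2 lc_c_rc_26_2 lc_c_Cert_tree lc_c_rc_11_1 lc_c_rc_24_2 lc_c_rc_23_0 lc_c_rc_11_1 lc_c_rc_2_3 lc_c_Cert_tree lc_c_rc_13_2 lc_c_Cert_tree lc_c_Cert_tree lc_c_rc_25_9 lc_c_rc_11_1 lc_c_rc_22_5 lc_c_rc_22_9 lc_c_rc_11_1 lc_c_rc_7_3 lc_c_rc_26_10 lc_c_rc_13_0 lc_c_rc_11_1 lc_c_rc_24_8 lc_c_rc_13_2 lc_c_rc_13_2 lc_c_rc_11_1 lc_c_rc_24_4 lc_c_rc_7_1 lc_c_rc_11_1 lc_c_rc_14_2 lc_c_rc_23_5 lc_c_rc_23_5 lc_c_rc_11_1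 lc_c_rc_24_8 lc_c_rc_14_2 lc_c_rc_24_4 lc_c_rc_11_1 lc_c_rc_11_1 lc_c_rc_11_1 lc_c_rc_23_0) (@D3.rec (fun _ => (Cert rels S Gen.c)) lc_c_rc_11_1 lc_c_rc_13_2 lc_c_rc_13_2 lc_c_rc_24_4 lc_c_rc_22_7 lc_c_rc_23_5 lc_c_rc_26_2 lc_c_rc_13_2 lc_c_rc_26_8 lc_c_rc_11_1 lc_c_rc_13_2 lc_c_rc_13_2 lc_c_rc_25_5 lc_c_rc_7_5 lc_c_rc_13_2 lc_c_rc_13_2 lc_c_rc_2_3 lc_c_rc_25_1 lc_c_rc_22_7 lc_c_rc_13_2 lc_c_rc_26_8 lc_c_rc_13_2 lc_c_rc_11_1 lc_c_rc_22_9 lc_c_rc_13_2 lc_c_rc_13_2 lc_c_rc_24_4 lc_c_rc_7_3 lc_c_rc_11_1 lc_c_rc_13_2 lc_c_rc_2_3 lc_c_rc_26_8 lc_c_rc_11_1 lc_c_rc_11_1 lc_c_rc_13_2 lc_c_rc_7_5 lc_c_rc_13_0 lc_c_rc_11_1 lc_c_rc_24_6 lc_c_rc_22_3 lc_c_rc_26_2 lc_c_rc_13_2 lc_c_rc_11_1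 lc_c_rc_11_1 lc_c_rc_2_1 lc_c_rc_11_1 lc_c_rc_24_2 lc_c_rc_22_3 lc_c_rc_11_1 lc_c_rc_22_3 lc_c_rc_11_1 lc_c_rc_23_0 lc_c_rc_24_2 lc_c_rc_12_0 lc_c_rc_11_1 lc_c_rc_11_1 lc_c_rc_13_2 lc_c_rc_11_1 lc_c_rc_14_2 lc_c_rc_24_6 lc_c_rc_22_3 lc_c_rc_13_2) (@D3.rec (fun _ => (Cert rels S Gen.c)) lc_c_rc_22_7 lc_c_rc_24_2 lc_c_rc_22_5 lc_c_rc_22_5 lc_c_rc_24_2 lc_c_rc_11_1 lc_c_rc_2_3 lc_c_rc_13_2 lc_c_rc_7_5 lc_c_rc_24_8 lc_c_rc_22_3 lc_c_rc_26_2 lc_c_rc_2_3 lc_c_rc_14_2 lc_c_rc_7_3 lc_c_rc_23_5 lc_c_rc_14_2 lc_c_rc_25_5 lc_c_rc_25_9 lc_c_rc_11_1 lc_c_rc_13_0 lc_c_rc_11_1 lc_c_rc_26_8 lc_c_rc_11_1 lc_c_rc_11_1 lc_c_rc_22_5 lc_c_rc_14_2 lc_c_rc_26_4 lc_c_rc_22_9 lc_c_rc_23_0 lc_c_rc_11_1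 lc_c_rc_11_1 lc_c_rc_11_1 lc_c_rc_23_0 lc_c_rc_7_3 lc_c_rc_13_2 lc_c_rc_12_2 lc_c_rc_13_2 lc_c_rc_2_3 lc_c_rc_13_2 lc_c_rc_23_5 lc_c_rc_11_1 lc_c_rc_26_2 lc_c_rc_11_1 lc_c_rc_11_1 lc_c_rc_13_2 lc_c_rc_22_3 lc_c_rc_13_2 lc_c_rc_7_3 lc_c_rc_24_2 lc_c_rc_24_2 lc_c_rc_13_2 lc_c_rc_24_2 lc_c_rc_22_7 lc_c_rc_7_5 lc_c_rc_11_1 lc_c_rc_23_0 lc_c_rc_7_1 lc_c_rc_22_3 lc_c_rc_26_8 lc_c_rc_26_2 lc_c_rc_22_9)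
def ce_c_27 : D2 → D3 → (Cert rels S Gen.c) := @D2.rec (fun _ => D3 → (Cert rels S Gen.c)) (@D3.rec (fun _ => (Cert rels S Gen.c)) lc_c_Cert_tree lc_c_Cert_tree lc_c_rc_24_4 lc_c_rc_7_3 lc_c_rc_7_1 lc_c_rc_13_2 lc_c_rc_11_1 lc_c_rc_24_6 lc_c_rc_14_2 lc_c_rc_11_1 lc_c_rc_13_2 lc_c_Cert_tree lc_c_Cert_tree lc_c_rc_26_2 lc_c_rc_2_3 lc_c_rc_13_2 lc_c_rc_24_6 lc_c_rc_23_0 lc_c_rc_22_3 lc_c_rc_14_2 lc_c_rc_11_1 lc_c_rc_11_1 lc_c_rc_24_4 lc_c_rc_2_3 lc_c_Cert_tree lc_c_rc_26_2 lc_c_rc_13_2 lc_c_Cert_tree lc_c_rc_11_1 lc_c_rc_11_1 lc_c_rc_7_3 lc_c_rc_25_5 lc_c_rc_22_5 lc_c_rc_25_1 lc_c_rc_25_1 lc_c_rc_11_1 lc_c_rc_7_3 lc_c_rc_22_5 lc_c_rc_11_1 lc_c_rc_13_2 lc_c_rc_7_3 lc_c_rc_24_6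 lc_c_rc_24_6 lc_c_rc_14_2 lc_c_rc_11_1 lc_c_rc_7_3 lc_c_rc_11_1 lc_c_rc_7_1 lc_c_rc_22_3 lc_c_rc_13_2 lc_c_rc_25_1 lc_c_rc_11_1 lc_c_rc_24_2 lc_c_rc_11_1 lc_c_rc_22_5 lc_c_rc_24_4 lc_c_rc_13_2 lc_c_rc_14_2 lc_c_rc_22_3 lc_c_rc_11_1 lc_c_rc_11_1 lc_c_rc_11_1) (@D3.rec (fun _ => (Cert rels S Gen.c)) lc_c_rc_23_0 lc_c_rc_13_2 lc_c_rc_24_6 lc_c_rc_11_1 lc_c_rc_26_8 lc_c_rc_2_3 lc_c_rc_7_1 lc_c_rc_11_1 lc_c_rc_22_5 lc_c_rc_24_4 lc_c_rc_26_4 lc_c_rc_25_5 lc_c_rc_25_1 lc_c_rc_22_7 lc_c_rc_24_2 lc_c_rc_23_0 lc_c_rc_26_8 lc_c_rc_26_10 lc_c_rc_13_2 lc_c_rc_23_5 lc_c_rc_13_2 lc_c_rc_7_3 lc_c_rc_7_3 lc_c_rc_13_2 lc_c_rc_14_2 lc_c_rc_13_2 lc_c_rc_7_3 lc_c_rc_13_2 lc_c_rc_7_1 lc_c_rc_13_2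 lc_c_rc_23_5 lc_c_rc_11_1 lc_c_rc_13_2 lc_c_rc_11_1 lc_c_rc_13_2 lc_c_Cert_tree lc_c_rc_7_3 lc_c_rc_13_2 lc_c_rc_26_4 lc_c_rc_11_1 lc_c_rc_25_5 lc_c_rc_24_2 lc_c_rc_11_1 lc_c_rc_26_4 lc_c_rc_22_3 lc_c_rc_24_4 lc_c_rc_22_3 lc_c_rc_11_1 lc_c_Cert_tree lc_c_rc_25_13 lc_c_rc_13_0 lc_c_rc_13_0 lc_c_rc_22_7 lc_c_rc_12_2 lc_c_rc_22_7 lc_c_rc_13_2 lc_c_Cert_tree lc_c_rc_24_8 lc_c_rc_26_4 lc_c_rc_11_1 lc_c_rc_26_2 lc_c_rc_13_0) (@D3.rec (fun _ => (Cert rels S Gen.c)) lc_c_rc_11_1 lc_c_rc_13_2 lc_c_rc_7_5 lc_c_rc_11_1 lc_c_rc_7_3 lc_c_rc_22_5 lc_c_rc_13_2 lc_c_rc_23_0 lc_c_rc_11_1 lc_c_rc_24_6 lc_c_rc_11_1 lc_c_rc_24_8 lc_c_rc_11_1 lc_c_rc_22_3 lc_c_rc_2_1 lc_c_rc_11_1 lc_c_Cert_tree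 lc_c_rc_13_2 lc_c_rc_7_5 lc_c_rc_13_2 lc_c_rc_26_2 lc_c_Cert_tree lc_c_rc_11_1 lc_c_Cert_tree lc_c_rc_11_1 lc_c_rc_22_3 lc_c_rc_26_2 lc_c_rc_14_2 lc_c_rc_12_4 lc_c_rc_11_1 lc_c_rc_11_1 lc_c_rc_14_2 lc_c_rc_26_8 lc_c_rc_22_7 lc_c_rc_7_1 lc_c_rc_11_1 lc_c_rc_14_2 lc_c_rc_13_2 lc_c_rc_11_1 lc_c_rc_11_1 lc_c_rc_11_1 lc_c_rc_24_8 lc_c_rc_11_1 lc_c_rc_7_3 lc_c_rc_13_2 lc_c_rc_22_7 lc_c_rc_14_2 lc_c_rc_24_4 lc_c_rc_11_1 lc_c_rc_13_2 lc_c_rc_24_6 lc_c_rc_11_1 lc_c_Cert_tree lc_c_rc_7_5 lc_c_rc_22_5 lc_c_rc_13_2 lc_c_rc_24_2 lc_c_rc_11_1 lc_c_rc_11_1 lc_c_rc_13_2 lc_c_rc_7_3 lc_c_rc_13_2) (@D3.rec (fun _ => (Cert rels S Gen.c)) lc_c_Cert_tree lc_c_rc_26_10 lc_c_rc_22_3 lc_c_rc_23_0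 lc_c_rc_26_10 lc_c_rc_7_3 lc_c_rc_13_2 lc_c_rc_13_2 lc_c_rc_23_5 lc_c_Cert_tree lc_c_rc_13_2 lc_c_rc_11_1 lc_c_rc_24_4 lc_c_rc_23_0 lc_c_rc_11_1 lc_c_rc_7_5 lc_c_rc_11_1 lc_c_rc_7_1 lc_c_rc_25_5 lc_c_rc_11_1 lc_c_rc_13_2 lc_c_rc_26_2 lc_c_rc_22_5 lc_c_rc_11_1 lc_c_rc_26_10 lc_c_rc_11_1 lc_c_rc_7_1 lc_c_rc_7_3 lc_c_rc_7_3 lc_c_rc_23_0 lc_c_rc_13_0 lc_c_rc_11_1 lc_c_rc_26_2 lc_c_rc_13_0 lc_c_rc_24_8 lc_c_rc_11_1 lc_c_rc_7_3 lc_c_rc_13_2 lc_c_rc_24_6 lc_c_rc_13_2 lc_c_rc_11_1 lc_c_rc_26_4 lc_c_rc_13_2 lc_c_rc_11_1 lc_c_rc_26_4 lc_c_rc_11_1 lc_c_rc_13_0 lc_c_rc_11_1 lc_c_rc_22_7 lc_c_rc_26_4 lc_c_rc_11_1 lc_c_rc_7_5 lc_c_rc_2_1 lc_c_rc_7_5 lc_c_rc_22_5 lc_c_rc_2_1 lc_c_rc_11_1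 lc_c_rc_26_2 lc_c_rc_24_6 lc_c_rc_2_3 lc_c_rc_2_3 lc_c_rc_13_2) (@D3.rec (fun _ => (Cert rels S Gen.c)) lc_c_rc_26_4 lc_c_rc_11_1 lc_c_rc_13_0 lc_c_rc_13_0 lc_c_rc_14_2 lc_c_rc_11_1 lc_c_rc_11_1 lc_c_rc_2_3 lc_c_rc_7_3 lc_c_rc_11_1 lc_c_rc_7_3 lc_c_rc_11_1 lc_c_rc_26_8 lc_c_rc_11_1 lc_c_rc_11_1 lc_c_rc_13_0 lc_c_rc_2_1 lc_c_rc_26_4 lc_c_rc_11_1 lc_c_rc_23_0 lc_c_rc_11_1 lc_c_rc_23_5 lc_c_rc_11_1 lc_c_rc_11_1 lc_c_rc_7_5 lc_c_Cert_tree lc_c_rc_13_0 lc_c_rc_2_3 lc_c_rc_13_2 lc_c_Cert_tree lc_c_rc_26_4 lc_c_rc_11_1 lc_c_rc_13_2 lc_c_rc_11_1 lc_c_rc_13_2 lc_c_rc_11_1 lc_c_rc_11_1 lc_c_rc_11_1 lc_c_rc_2_1 lc_c_rc_14_2 lc_c_rc_7_5 lc_c_rc_11_1 lc_c_rc_11_1 lc_c_Cert_tree lc_c_rc_13_0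 lc_c_rc_22_7 lc_c_rc_22_5 lc_c_rc_7_1 lc_c_rc_24_2 lc_c_rc_13_2 lc_c_rc_11_1 lc_c_rc_22_5 lc_c_rc_11_1 lc_c_rc_2_3 lc_c_rc_11_1 lc_c_rc_2_3 lc_c_rc_13_2 lc_c_rc_11_1 lc_c_rc_7_3 lc_c_rc_11_1 lc_c_rc_24_4 lc_c_rc_2_3) (@D3.rec (fun _ => (Cert rels S Gen.c)) lc_c_Cert_tree lc_c_rc_14_2 lc_c_rc_7_5 lc_c_rc_11_1 lc_c_rc_7_3 lc_c_rc_26_10 lc_c_rc_22_3 lc_c_rc_14_2 lc_c_rc_11_1 lc_c_rc_25_1 lc_c_rc_26_4 lc_c_rc_24_4 lc_c_rc_11_1 lc_c_rc_13_2 lc_c_rc_11_1 lc_c_rc_25_5 lc_c_rc_23_0 lc_c_rc_11_1 lc_c_rc_26_2 lc_c_rc_13_2 lc_c_rc_26_2 lc_c_rc_7_3 lc_c_rc_13_2 lc_c_rc_11_1 lc_c_rc_13_2 lc_c_Cert_tree lc_c_Cert_tree lc_c_rc_13_2 lc_c_rc_23_0 lc_c_rc_11_1 lc_c_rc_13_2 lc_c_rc_13_2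 lc_c_rc_11_1 lc_c_rc_14_2 lc_c_rc_11_1 lc_c_rc_14_2 lc_c_rc_22_9 lc_c_rc_13_2 lc_c_rc_11_1 lc_c_rc_11_1 lc_c_rc_26_2 lc_c_rc_22_7 lc_c_rc_7_5 lc_c_rc_7_5 lc_c_rc_7_3 lc_c_rc_7_5 lc_c_rc_11_1 lc_c_rc_2_3 lc_c_rc_26_2 lc_c_rc_14_0 lc_c_rc_11_1 lc_c_rc_11_1 lc_c_rc_11_1 lc_c_rc_11_1 lc_c_rc_26_8 lc_c_rc_13_2 lc_c_rc_7_3 lc_c_rc_11_1 lc_c_rc_7_5 lc_c_rc_11_1 lc_c_rc_11_1 lc_c_rc_11_1) (@D3.rec (fun _ => (Cert rels S Gen.c)) lc_c_rc_23_0 lc_c_rc_11_1 lc_c_rc_12_12 lc_c_rc_2_3 lc_c_rc_26_10 lc_c_rc_13_0 lc_c_rc_11_1 lc_c_rc_7_5 lc_c_rc_14_0 lc_c_rc_13_2 lc_c_rc_26_4 lc_c_rc_22_3 lc_c_rc_2_1 lc_c_rc_7_5 lc_c_rc_26_10 lc_c_rc_11_1 lc_c_rc_7_5 lc_c_rc_14_2 lc_c_rc_11_1 lc_c_rc_13_0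 lc_c_rc_13_2 lc_c_Cert_tree lc_c_rc_13_2 lc_c_rc_25_9 lc_c_rc_11_1 lc_c_rc_26_2 lc_c_Cert_tree lc_c_Cert_tree lc_c_rc_13_2 lc_c_rc_11_1 lc_c_rc_11_1 lc_c_rc_14_2 lc_c_rc_26_4 lc_c_rc_14_2 lc_c_rc_13_2 lc_c_rc_7_3 lc_c_rc_7_3 lc_c_Cert_tree lc_c_rc_24_2 lc_c_rc_23_0 lc_c_rc_24_2 lc_c_rc_7_1 lc_c_rc_11_1 lc_c_rc_2_1 lc_c_rc_11_1 lc_c_rc_13_2 lc_c_rc_11_1 lc_c_rc_13_2 lc_c_rc_2_3 lc_c_rc_23_0 lc_c_rc_22_9 lc_c_rc_14_2 lc_c_rc_26_10 lc_c_Cert_tree lc_c_Cert_tree lc_c_rc_13_2 lc_c_rc_12_14 lc_c_rc_13_2 lc_c_rc_14_2 lc_c_rc_11_1 lc_c_rc_13_2 lc_c_rc_26_4) (@D3.rec (fun _ => (Cert rels S Gen.c)) lc_c_rc_13_2 lc_c_rc_13_2 lc_c_Cert_tree lc_c_Cert_tree lc_c_rc_26_4 lc_c_rc_13_0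 lc_c_rc_13_2 lc_c_Cert_tree lc_c_rc_13_2 lc_c_rc_13_0 lc_c_rc_23_0 lc_c_rc_2_1 lc_c_rc_22_3 lc_c_rc_11_1 lc_c_rc_7_3 lc_c_rc_13_2 lc_c_rc_13_2 lc_c_rc_13_2 lc_c_Cert_tree lc_c_rc_13_2 lc_c_rc_22_3 lc_c_Cert_tree lc_c_rc_11_1 lc_c_rc_13_2 lc_c_rc_23_0 lc_c_rc_7_3 lc_c_rc_13_2 lc_c_rc_14_2 lc_c_rc_11_1 lc_c_Cert_tree lc_c_rc_25_1 lc_c_Cert_tree lc_c_rc_11_1 lc_c_rc_13_2 lc_c_rc_24_4 lc_c_rc_7_3 lc_c_rc_11_1 lc_c_rc_7_5 lc_c_rc_7_5 lc_c_rc_2_3 lc_c_rc_22_7 lc_c_rc_7_5 lc_c_rc_11_1 lc_c_rc_7_5 lc_c_rc_26_4 lc_c_rc_11_1 lc_c_Cert_tree lc_c_rc_22_5 lc_c_rc_11_1 lc_c_rc_23_0 lc_c_rc_24_2 lc_c_Cert_tree lc_c_Cert_tree lc_c_rc_12_2 lc_c_rc_11_1 lc_c_rc_7_1 lc_c_rc_11_1 lc_c_rc_14_2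 lc_c_rc_22_3 lc_c_rc_13_2 lc_c_rc_22_5 lc_c_rc_7_5) (@D3.rec (fun _ => (Cert rels S Gen.c)) lc_c_rc_13_2 lc_c_rc_13_2 lc_c_rc_26_2 lc_c_rc_11_1 lc_c_rc_13_2 lc_c_rc_14_2 lc_c_rc_2_1 lc_c_rc_24_4 lc_c_rc_11_1 lc_c_rc_23_5 lc_c_rc_11_1 lc_c_rc_11_1 lc_c_rc_7_1 lc_c_rc_26_4 lc_c_rc_11_1 lc_c_Cert_tree lc_c_rc_13_2 lc_c_Cert_tree lc_c_rc_22_5 lc_c_rc_11_1 lc_c_rc_7_3 lc_c_rc_26_2 lc_c_rc_11_1 lc_c_rc_26_2 lc_c_rc_13_0 lc_c_rc_11_1 lc_c_rc_13_2 lc_c_rc_26_4 lc_c_rc_11_1 lc_c_rc_2_3 lc_c_rc_11_1 lc_c_rc_13_2 lc_c_rc_24_4 lc_c_rc_11_1 lc_c_Cert_tree lc_c_rc_26_2 lc_c_rc_24_8 lc_c_rc_24_8 lc_c_rc_11_1 lc_c_rc_14_2 lc_c_rc_26_8 lc_c_rc_11_1 lc_c_rc_24_2 lc_c_rc_7_3 lc_c_Cert_tree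 lc_c_Cert_tree lc_c_rc_11_1 lc_c_rc_7_3 lc_c_rc_11_1 lc_c_rc_11_1 lc_c_rc_24_2 lc_c_rc_11_1 lc_c_rc_2_1 lc_c_rc_11_1 lc_c_rc_24_8 lc_c_rc_11_1 lc_c_rc_22_3 lc_c_rc_22_7 lc_c_rc_14_2 lc_c_rc_7_1 lc_c_rc_13_2 lc_c_rc_2_3) (@D3.rec (fun _ => (Cert rels S Gen.c)) lc_c_rc_22_3 lc_c_rc_26_2 lc_c_rc_2_3 lc_c_rc_26_2 lc_c_rc_2_3 lc_c_Cert_tree lc_c_rc_26_2 lc_c_rc_22_3 lc_c_rc_26_4 lc_c_rc_7_3 lc_c_rc_14_0 lc_c_rc_23_5 lc_c_rc_11_1 lc_c_rc_13_2 lc_c_rc_11_1 lc_c_rc_7_5 lc_c_Cert_tree lc_c_rc_7_5 lc_c_rc_7_5 lc_c_rc_14_2 lc_c_rc_23_5 lc_c_rc_7_3 lc_c_rc_24_2 lc_c_rc_24_2 lc_c_rc_23_0 lc_c_rc_14_2 lc_c_rc_26_2 lc_c_rc_11_1 lc_c_rc_13_0 lc_c_rc_23_5 lc_c_rc_13_0 lc_c_rc_11_1 lc_c_rc_2_3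 lc_c_rc_26_8 lc_c_rc_13_2 lc_c_rc_13_0 lc_c_rc_11_1 lc_c_rc_13_0 lc_c_rc_23_5 lc_c_rc_11_1 lc_c_rc_7_3 lc_c_rc_7_5 lc_c_rc_11_1 lc_c_rc_23_5 lc_c_Cert_tree lc_c_rc_25_5 lc_c_rc_11_1 lc_c_rc_7_5 lc_c_rc_11_1 lc_c_rc_11_1 lc_c_rc_7_3 lc_c_rc_22_9 lc_c_rc_7_5 lc_c_rc_11_1 lc_c_rc_24_8 lc_c_rc_11_1 lc_c_rc_11_1 lc_c_rc_26_4 lc_c_rc_14_2 lc_c_rc_25_9 lc_c_rc_11_1 lc_c_rc_13_2) (@D3.rec (fun _ => (Cert rels S Gen.c)) lc_c_rc_7_1 lc_c_rc_7_3 lc_c_rc_13_2 lc_c_rc_11_1 lc_c_rc_23_5 lc_c_rc_2_1 lc_c_rc_11_1 lc_c_rc_24_4 lc_c_rc_13_0 lc_c_rc_13_2 lc_c_rc_11_1 lc_c_rc_13_2 lc_c_rc_7_1 lc_c_rc_2_1 lc_c_rc_26_4 lc_c_rc_22_3 lc_c_rc_13_2 lc_c_rc_26_4 lc_c_rc_11_1 lc_c_rc_13_2 lc_c_rc_24_2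 lc_c_rc_24_4 lc_c_rc_2_3 lc_c_rc_7_5 lc_c_rc_11_1 lc_c_rc_11_1 lc_c_rc_24_8 lc_c_rc_14_2 lc_c_rc_22_5 lc_c_rc_23_5 lc_c_rc_13_2 lc_c_rc_11_1 lc_c_rc_7_1 lc_c_rc_24_2 lc_c_rc_11_1 lc_c_rc_24_2 lc_c_rc_11_1 lc_c_rc_22_5 lc_c_rc_11_1 lc_c_rc_23_5 lc_c_rc_13_2 lc_c_rc_2_3 lc_c_rc_26_4 lc_c_rc_26_4 lc_c_rc_13_2 lc_c_rc_13_2 lc_c_rc_22_9 lc_c_rc_11_1 lc_c_rc_11_1 lc_c_rc_24_4 lc_c_rc_24_2 lc_c_rc_11_1 lc_c_rc_22_7 lc_c_rc_14_2 lc_c_rc_11_1 lc_c_rc_26_4 lc_c_rc_11_1 lc_c_rc_11_1 lc_c_rc_7_5 lc_c_rc_11_1 lc_c_rc_7_3 lc_c_rc_24_2) (@D3.rec (fun _ => (Cert rels S Gen.c)) lc_c_rc_11_1 lc_c_rc_24_2 lc_c_rc_23_0 lc_c_rc_2_3 lc_c_rc_13_0 lc_c_rc_7_3 lc_c_rc_22_7 lc_c_rc_13_2 lc_c_rc_23_0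 lc_c_rc_24_8 lc_c_rc_11_1 lc_c_rc_22_5 lc_c_Cert_tree lc_c_rc_23_5 lc_c_rc_24_4 lc_c_rc_7_5 lc_c_rc_13_2 lc_c_rc_11_1 lc_c_rc_14_2 lc_c_rc_7_5 lc_c_rc_13_0 lc_c_rc_26_10 lc_c_rc_13_0 lc_c_rc_26_2 lc_c_rc_11_1 lc_c_rc_7_5 lc_c_rc_7_3 lc_c_rc_13_2 lc_c_rc_11_1 lc_c_rc_11_1 lc_c_rc_7_5 lc_c_rc_14_2 lc_c_rc_11_1 lc_c_rc_2_3 lc_c_rc_14_2 lc_c_rc_26_2 lc_c_rc_13_2 lc_c_rc_23_0 lc_c_rc_7_1 lc_c_rc_13_2 lc_c_Cert_tree lc_c_rc_14_2 lc_c_Cert_tree lc_c_rc_11_1 lc_c_rc_13_0 lc_c_rc_11_1 lc_c_rc_14_2 lc_c_rc_11_1 lc_c_rc_11_1 lc_c_rc_24_2 lc_c_rc_11_1 lc_c_rc_7_1 lc_c_rc_11_1 lc_c_rc_24_6 lc_c_rc_26_10 lc_c_rc_14_2 lc_c_rc_13_2 lc_c_rc_24_2 lc_c_rc_24_6 lc_c_rc_13_2 lc_c_rc_23_5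 lc_c_rc_11_1) (@D3.rec (fun _ => (Cert rels S Gen.c)) lc_c_rc_26_10 lc_c_rc_24_6 lc_c_rc_23_0 lc_c_rc_11_1 lc_c_rc_24_8 lc_c_rc_11_1 lc_c_rc_24_6 lc_c_rc_11_1 lc_c_rc_23_5 lc_c_rc_14_2 lc_c_rc_2_3 lc_c_rc_22_5 lc_c_rc_13_2 lc_c_rc_26_2 lc_c_rc_11_1 lc_c_rc_11_1 lc_c_rc_25_9 lc_c_rc_7_1 lc_c_rc_24_4 lc_c_rc_7_1 lc_c_Cert_tree lc_c_rc_11_1 lc_c_rc_13_2 lc_c_rc_11_1 lc_c_rc_7_5 lc_c_rc_26_10 lc_c_rc_11_1 lc_c_rc_11_1 lc_c_rc_11_1 lc_c_rc_13_2 lc_c_rc_11_1 lc_c_rc_13_2 lc_c_rc_11_1 lc_c_rc_22_3 lc_c_rc_7_5 lc_c_rc_11_1 lc_c_rc_14_0 lc_c_rc_22_7 lc_c_rc_14_2 lc_c_rc_7_5 lc_c_rc_2_1 lc_c_rc_26_4 lc_c_rc_26_4 lc_c_rc_24_8 lc_c_rc_24_2 lc_c_rc_11_1 lc_c_rc_2_3 lc_c_rc_14_2 lc_c_rc_11_1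 lc_c_rc_7_5 lc_c_rc_11_1 lc_c_rc_11_1 lc_c_rc_23_0 lc_c_rc_11_1 lc_c_rc_26_2 lc_c_rc_24_2 lc_c_rc_11_1 lc_c_rc_13_2 lc_c_rc_22_5 lc_c_Cert_tree lc_c_rc_11_1 lc_c_rc_25_5) (@D3.rec (fun _ => (Cert rels S Gen.c)) lc_c_rc_2_3 lc_c_rc_7_3 lc_c_rc_22_9 lc_c_rc_14_2 lc_c_rc_2_3 lc_c_rc_13_2 lc_c_rc_2_3 lc_c_rc_11_1 lc_c_rc_13_2 lc_c_rc_23_0 lc_c_rc_12_0 lc_c_rc_11_1 lc_c_rc_24_6 lc_c_rc_14_2 lc_c_Cert_tree lc_c_Cert_tree lc_c_rc_2_3 lc_c_rc_7_3 lc_c_rc_14_2 lc_c_rc_22_5 lc_c_rc_22_3 lc_c_rc_11_1 lc_c_rc_24_4 lc_c_rc_22_3 lc_c_rc_13_2 lc_c_rc_2_3 lc_c_rc_2_3 lc_c_rc_14_2 lc_c_rc_24_4 lc_c_rc_23_0 lc_c_rc_14_2 lc_c_rc_13_2 lc_c_rc_11_1 lc_c_rc_11_1 lc_c_rc_11_1 lc_c_rc_11_1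 lc_c_rc_14_2 lc_c_rc_11_1 lc_c_rc_23_5 lc_c_rc_13_2 lc_c_rc_24_2 lc_c_rc_24_2 lc_c_rc_7_3 lc_c_rc_13_2 lc_c_rc_22_3 lc_c_rc_2_1 lc_c_rc_2_3 lc_c_rc_23_0 lc_c_rc_14_2 lc_c_rc_11_1 lc_c_rc_26_4 lc_c_rc_26_2 lc_c_rc_11_1 lc_c_rc_13_0 lc_c_rc_11_1 lc_c_rc_2_3 lc_c_rc_11_1 lc_c_rc_11_1 lc_c_rc_11_1 lc_c_rc_13_2 lc_c_rc_23_5 lc_c_rc_11_1) (@D3.rec (fun _ => (Cert rels S Gen.c)) lc_c_rc_13_2 lc_c_rc_24_6 lc_c_rc_24_6 lc_c_rc_2_1 lc_c_rc_14_2 lc_c_rc_23_5 lc_c_rc_13_2 lc_c_rc_11_1 lc_c_rc_26_2 lc_c_rc_13_0 lc_c_rc_11_1 lc_c_rc_13_2 lc_c_rc_24_2 lc_c_rc_24_4 lc_c_rc_11_1 lc_c_rc_12_0 lc_c_rc_14_2 lc_c_rc_13_2 lc_c_rc_22_3 lc_c_rc_11_1 lc_c_rc_24_2 lc_c_rc_23_0 lc_c_rc_11_1 lc_c_rc_7_1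 lc_c_rc_2_3 lc_c_rc_24_6 lc_c_rc_13_0 lc_c_rc_24_2 lc_c_rc_11_1 lc_c_rc_13_0 lc_c_rc_7_3 lc_c_rc_11_1 lc_c_rc_7_5 lc_c_rc_2_3 lc_c_rc_14_2 lc_c_rc_11_1 lc_c_rc_26_10 lc_c_Cert_tree lc_c_rc_11_1 lc_c_rc_11_1 lc_c_rc_22_3 lc_c_rc_11_1 lc_c_rc_22_3 lc_c_rc_11_1 lc_c_rc_11_1 lc_c_rc_13_2 lc_c_rc_24_4 lc_c_rc_11_1 lc_c_rc_7_3 lc_c_rc_22_3 lc_c_rc_11_1 lc_c_rc_14_0 lc_c_rc_26_8 lc_c_rc_13_2 lc_c_rc_13_2 lc_c_rc_13_0 lc_c_rc_13_2 lc_c_rc_14_2 lc_c_rc_23_0 lc_c_rc_12_0 lc_c_rc_7_3 lc_c_rc_13_2) (@D3.rec (fun _ => (Cert rels S Gen.c)) lc_c_rc_11_1 lc_c_rc_26_4 lc_c_rc_24_4 lc_c_rc_11_1 lc_c_rc_7_3 lc_c_rc_13_2 lc_c_rc_22_3 lc_c_rc_22_3 lc_c_rc_7_3 lc_c_rc_22_7 lc_c_rc_11_1 lc_c_rc_7_5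 lc_c_rc_13_2 lc_c_rc_13_0 lc_c_rc_11_1 lc_c_Cert_tree lc_c_rc_14_2 lc_c_rc_23_0 lc_c_rc_11_1 lc_c_rc_14_2 lc_c_rc_11_1 lc_c_rc_14_2 lc_c_rc_13_2 lc_c_rc_25_1 lc_c_rc_14_2 lc_c_rc_12_0 lc_c_rc_13_2 lc_c_rc_11_1 lc_c_rc_23_0 lc_c_rc_24_4 lc_c_rc_7_1 lc_c_rc_2_3 lc_c_rc_11_1 lc_c_rc_22_3 lc_c_rc_14_0 lc_c_rc_11_1 lc_c_rc_22_3 lc_c_rc_14_2 lc_c_rc_11_1 lc_c_rc_2_3 lc_c_rc_26_4 lc_c_rc_24_6 lc_c_rc_24_4 lc_c_rc_24_4 lc_c_Cert_tree lc_c_rc_2_1 lc_c_rc_2_1 lc_c_Cert_tree lc_c_rc_14_2 lc_c_rc_26_8 lc_c_rc_11_1 lc_c_Cert_tree lc_c_rc_13_2 lc_c_rc_22_3 lc_c_rc_24_8 lc_c_rc_11_1 lc_c_rc_26_8 lc_c_rc_2_3 lc_c_rc_22_9 lc_c_rc_14_2 lc_c_Cert_tree lc_c_Cert_tree) (@D3.rec (fun _ =>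 (Cert rels S Gen.c)) lc_c_rc_14_2 lc_c_rc_11_1 lc_c_rc_14_2 lc_c_Cert_tree lc_c_rc_7_5 lc_c_rc_11_1 lc_c_rc_14_2 lc_c_Cert_tree lc_c_Cert_tree lc_c_rc_7_3 lc_c_rc_22_5 lc_c_rc_13_2 lc_c_rc_24_4 lc_c_rc_24_2 lc_c_rc_24_2 lc_c_rc_11_1 lc_c_rc_13_2 lc_c_rc_7_1 lc_c_rc_11_1 lc_c_rc_13_2 lc_c_rc_13_2 lc_c_rc_7_3 lc_c_Cert_tree lc_c_rc_13_2 lc_c_rc_22_3 lc_c_rc_23_0 lc_c_rc_23_0 lc_c_rc_13_2 lc_c_Cert_tree lc_c_rc_22_7 lc_c_rc_13_2 lc_c_Cert_tree lc_c_Cert_tree lc_c_rc_2_3 lc_c_rc_13_2 lc_c_rc_23_0 lc_c_rc_26_2 lc_c_rc_11_1 lc_c_rc_23_5 lc_c_Cert_tree lc_c_Cert_tree lc_c_rc_11_1 lc_c_rc_13_2 lc_c_rc_24_4 lc_c_rc_7_3 lc_c_rc_13_2 lc_c_Cert_tree lc_c_Cert_tree lc_c_rc_7_3 lc_c_rc_13_2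 lc_c_rc_11_1 lc_c_rc_13_0 lc_c_rc_11_1 lc_c_Cert_tree lc_c_rc_24_2 lc_c_rc_7_1 lc_c_rc_11_1 lc_c_rc_13_2 lc_c_rc_11_1 lc_c_rc_24_8 lc_c_rc_2_1 lc_c_rc_24_8) (@D3.rec (fun _ => (Cert rels S Gen.c)) lc_c_rc_24_6 lc_c_rc_24_6 lc_c_rc_2_3 lc_c_rc_13_2 lc_c_rc_23_5 lc_c_rc_7_3 lc_c_rc_22_5 lc_c_Cert_tree lc_c_rc_23_5 lc_c_rc_7_1 lc_c_rc_13_2 lc_c_Cert_tree lc_c_Cert_tree lc_c_rc_26_10 lc_c_rc_7_5 lc_c_rc_2_1 lc_c_rc_26_2 lc_c_rc_7_1 lc_c_rc_24_6 lc_c_rc_13_0 lc_c_rc_14_0 lc_c_rc_7_5 lc_c_rc_11_1 lc_c_rc_11_1 lc_c_rc_2_3 lc_c_rc_26_4 lc_c_rc_11_1 lc_c_rc_11_1 lc_c_rc_2_1 lc_c_rc_13_2 lc_c_rc_11_1 lc_c_rc_2_3 lc_c_rc_11_1 lc_c_rc_7_1 lc_c_rc_23_5 lc_c_rc_11_1 lc_c_rc_13_2 lc_c_rc_26_2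 lc_c_rc_13_2 lc_c_rc_25_5 lc_c_rc_11_1 lc_c_Cert_tree lc_c_rc_13_2 lc_c_rc_26_4 lc_c_rc_11_1 lc_c_rc_25_5 lc_c_rc_24_2 lc_c_rc_2_3 lc_c_rc_11_1 lc_c_rc_22_7 lc_c_rc_7_1 lc_c_rc_26_4 lc_c_rc_11_1 lc_c_Cert_tree lc_c_Cert_tree lc_c_rc_22_3 lc_c_rc_24_4 lc_c_rc_24_4 lc_c_rc_11_1 lc_c_rc_7_3 lc_c_rc_7_3 lc_c_rc_11_1) (@D3.rec (fun _ => (Cert rels S Gen.c)) lc_c_rc_22_3 lc_c_rc_11_1 lc_c_rc_13_2 lc_c_rc_25_5 lc_c_rc_26_4 lc_c_rc_26_4 lc_c_rc_22_3 lc_c_rc_13_2 lc_c_rc_24_4 lc_c_rc_23_0 lc_c_rc_11_1 lc_c_rc_24_4 lc_c_rc_11_1 lc_c_rc_26_2 lc_c_Cert_tree lc_c_rc_22_3 lc_c_rc_2_3 lc_c_rc_13_0 lc_c_rc_11_1 lc_c_rc_13_2 lc_c_rc_26_10 lc_c_rc_23_0 lc_c_rc_11_1 lc_c_rc_13_2 lc_c_rc_13_2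 lc_c_rc_11_1 lc_c_rc_12_0 lc_c_rc_11_1 lc_c_rc_13_2 lc_c_rc_24_6 lc_c_rc_24_6 lc_c_rc_7_3 lc_c_rc_13_2 lc_c_rc_13_0 lc_c_rc_26_2 lc_c_rc_25_17 lc_c_rc_11_1 lc_c_rc_24_4 lc_c_rc_11_1 lc_c_Cert_tree lc_c_Cert_tree lc_c_rc_2_3 lc_c_rc_13_2 lc_c_rc_26_2 lc_c_rc_13_2 lc_c_rc_26_10 lc_c_rc_14_2 lc_c_rc_12_0 lc_c_rc_14_2 lc_c_rc_11_1 lc_c_rc_11_1 lc_c_rc_11_1 lc_c_rc_24_4 lc_c_rc_11_1 lc_c_rc_22_3 lc_c_rc_26_10 lc_c_rc_11_1 lc_c_rc_11_1 lc_c_rc_23_5 lc_c_rc_11_1 lc_c_rc_24_8 lc_c_rc_22_5) (@D3.rec (fun _ => (Cert rels S Gen.c)) lc_c_rc_26_2 lc_c_rc_11_1 lc_c_rc_26_4 lc_c_rc_24_4 lc_c_rc_7_3 lc_c_rc_14_2 lc_c_rc_13_2 lc_c_rc_12_2 lc_c_rc_25_5 lc_c_rc_11_1 lc_c_rc_11_1 lc_c_rc_13_2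 lc_c_rc_12_2 lc_c_rc_26_4 lc_c_rc_7_1 lc_c_rc_11_1 lc_c_rc_13_2 lc_c_rc_23_5 lc_c_rc_14_2 lc_c_rc_22_5 lc_c_rc_7_3 lc_c_rc_22_5 lc_c_rc_24_2 lc_c_rc_24_8 lc_c_rc_14_0 lc_c_rc_7_1 lc_c_rc_13_2 lc_c_rc_22_5 lc_c_rc_24_2 lc_c_rc_26_2 lc_c_Cert_tree lc_c_rc_7_1 lc_c_rc_11_1 lc_c_rc_22_5 lc_c_rc_11_1 lc_c_rc_13_2 lc_c_rc_13_2 lc_c_rc_23_0 lc_c_rc_2_3 lc_c_rc_24_4 lc_c_rc_26_4 lc_c_rc_7_1 lc_c_rc_11_1 lc_c_rc_7_3 lc_c_rc_13_2 lc_c_rc_13_0 lc_c_rc_13_2 lc_c_rc_25_9 lc_c_rc_23_0 lc_c_rc_11_1 lc_c_rc_24_6 lc_c_rc_26_4 lc_c_rc_11_1 lc_c_rc_26_4 lc_c_rc_11_1 lc_c_rc_11_1 lc_c_rc_13_2 lc_c_rc_2_3 lc_c_rc_11_1 lc_c_rc_11_1 lc_c_rc_24_8 lc_c_rc_13_2) (@D3.rec (fun _ => (Cert rels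 S Gen.c)) lc_c_rc_22_9 lc_c_rc_11_1 lc_c_rc_11_1 lc_c_rc_22_7 lc_c_rc_11_1 lc_c_rc_24_6 lc_c_rc_11_1 lc_c_rc_11_1 lc_c_rc_11_1 lc_c_rc_2_3 lc_c_rc_7_3 lc_c_rc_11_1 lc_c_rc_7_3 lc_c_rc_11_1 lc_c_rc_11_1 lc_c_rc_7_5 lc_c_rc_2_1 lc_c_rc_22_5 lc_c_rc_11_1 lc_c_rc_26_4 lc_c_rc_24_6 lc_c_rc_22_7 lc_c_rc_13_2 lc_c_rc_24_8 lc_c_rc_23_0 lc_c_rc_7_5 lc_c_rc_13_2 lc_c_rc_23_0 lc_c_rc_11_1 lc_c_rc_23_0 lc_c_rc_13_2 lc_c_rc_22_5 lc_c_rc_11_1 lc_c_rc_11_1 lc_c_rc_26_2 lc_c_rc_13_2 lc_c_rc_26_4 lc_c_rc_23_0 lc_c_rc_2_1 lc_c_rc_13_2 lc_c_rc_11_1 lc_c_rc_22_5 lc_c_Cert_tree lc_c_rc_11_1 lc_c_rc_13_2 lc_c_rc_26_4 lc_c_rc_11_1 lc_c_rc_11_1 lc_c_rc_11_1 lc_c_rc_13_2 lc_c_rc_11_1 lc_c_rc_22_3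 lc_c_rc_13_2 lc_c_rc_24_2 lc_c_rc_23_0 lc_c_rc_13_2 lc_c_rc_23_0 lc_c_rc_11_1 lc_c_Cert_tree lc_c_rc_23_0 lc_c_rc_11_1 lc_c_rc_26_4) (@D3.rec (fun _ => (Cert rels S Gen.c)) lc_c_rc_22_3 lc_c_rc_22_5 lc_c_rc_22_5 lc_c_rc_26_10 lc_c_rc_11_1 lc_c_rc_13_2 lc_c_rc_7_3 lc_c_rc_11_1 lc_c_rc_7_3 lc_c_rc_11_1 lc_c_rc_11_1 lc_c_rc_13_2 lc_c_rc_26_2 lc_c_rc_26_8 lc_c_rc_7_3 lc_c_rc_14_2 lc_c_rc_11_1 lc_c_rc_11_1 lc_c_rc_2_1 lc_c_rc_14_0 lc_c_rc_13_2 lc_c_rc_11_1 lc_c_rc_14_0 lc_c_rc_2_3 lc_c_rc_22_9 lc_c_rc_13_2 lc_c_rc_14_2 lc_c_rc_22_7 lc_c_rc_2_3 lc_c_rc_7_3 lc_c_rc_13_2 lc_c_rc_13_2 lc_c_rc_23_0 lc_c_rc_12_2 lc_c_rc_14_2 lc_c_rc_11_1 lc_c_rc_11_1 lc_c_rc_13_2 lc_c_rc_7_5 lc_c_rc_13_2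 lc_c_rc_23_5 lc_c_rc_13_2 lc_c_rc_23_0 lc_c_rc_11_1 lc_c_rc_22_5 lc_c_rc_26_4 lc_c_rc_26_4 lc_c_rc_11_1 lc_c_Cert_tree lc_c_rc_13_2 lc_c_rc_24_2 lc_c_rc_23_5 lc_c_rc_13_2 lc_c_rc_22_3 lc_c_rc_26_8 lc_c_rc_13_2 lc_c_rc_13_2 lc_c_rc_22_9 lc_c_rc_13_2 lc_c_rc_7_3 lc_c_rc_13_2 lc_c_rc_26_4) (@D3.rec (fun _ => (Cert rels S Gen.c)) lc_c_rc_11_1 lc_c_rc_11_1 lc_c_rc_2_3 lc_c_rc_7_3 lc_c_rc_11_1 lc_c_rc_22_7 lc_c_rc_11_1 lc_c_rc_11_1 lc_c_rc_24_6 lc_c_rc_11_1 lc_c_rc_22_7 lc_c_Cert_tree lc_c_rc_11_1 lc_c_rc_22_3 lc_c_rc_11_1 lc_c_rc_23_5 lc_c_rc_22_7 lc_c_rc_13_2 lc_c_rc_11_1 lc_c_rc_13_0 lc_c_rc_26_4 lc_c_rc_12_0 lc_c_rc_7_5 lc_c_rc_11_1 lc_c_rc_22_7 lc_c_rc_13_2 lc_c_rc_14_2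 lc_c_rc_24_4 lc_c_rc_13_2 lc_c_rc_22_5 lc_c_rc_13_2 lc_c_rc_11_1 lc_c_rc_13_2 lc_c_rc_26_4 lc_c_rc_11_1 lc_c_rc_22_7 lc_c_rc_13_2 lc_c_rc_11_1 lc_c_rc_22_3 lc_c_rc_11_1 lc_c_rc_11_1 lc_c_rc_11_1 lc_c_rc_11_1 lc_c_rc_13_0 lc_c_rc_13_2 lc_c_rc_23_5 lc_c_rc_11_1 lc_c_rc_13_2 lc_c_rc_13_2 lc_c_rc_7_5 lc_c_rc_13_2 lc_c_rc_24_4 lc_c_rc_13_2 lc_c_rc_24_6 lc_c_rc_24_4 lc_c_rc_14_2 lc_c_rc_14_2 lc_c_rc_26_8 lc_c_rc_23_0 lc_c_rc_11_1 lc_c_rc_24_6 lc_c_rc_11_1) (@D3.rec (fun _ => (Cert rels S Gen.c)) lc_c_rc_11_1 lc_c_rc_2_3 lc_c_rc_11_1 lc_c_Cert_tree lc_c_rc_22_7 lc_c_rc_13_0 lc_c_rc_13_0 lc_c_rc_11_1 lc_c_rc_14_2 lc_c_rc_7_3 lc_c_Cert_tree lc_c_rc_13_2 lc_c_rc_11_1 lc_c_rc_23_0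 lc_c_Cert_tree lc_c_rc_11_1 lc_c_rc_26_10 lc_c_rc_11_1 lc_c_rc_24_2 lc_c_rc_22_9 lc_c_rc_11_1 lc_c_rc_13_2 lc_c_rc_13_0 lc_c_rc_11_1 lc_c_rc_26_10 lc_c_Cert_tree lc_c_rc_13_2 lc_c_Cert_tree lc_c_rc_11_1 lc_c_rc_2_3 lc_c_rc_7_3 lc_c_rc_24_2 lc_c_rc_24_8 lc_c_rc_26_8 lc_c_rc_11_1 lc_c_rc_13_2 lc_c_rc_24_2 lc_c_rc_11_1 lc_c_rc_14_2 lc_c_rc_11_1 lc_c_rc_13_2 lc_c_rc_26_2 lc_c_rc_11_1 lc_c_rc_14_0 lc_c_rc_11_1 lc_c_rc_2_3 lc_c_rc_7_3 lc_c_rc_7_5 lc_c_rc_11_1 lc_c_rc_25_5 lc_c_rc_13_2 lc_c_rc_26_8 lc_c_rc_13_2 lc_c_rc_25_9 lc_c_rc_11_1 lc_c_rc_11_1 lc_c_rc_26_4 lc_c_rc_26_10 lc_c_rc_14_2 lc_c_rc_23_5 lc_c_rc_11_1 lc_c_rc_7_3) (@D3.rec (fun _ => (Cert rels S Gen.c)) lc_c_rc_13_2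 lc_c_rc_12_4 lc_c_rc_24_2 lc_c_rc_11_1 lc_c_rc_7_3 lc_c_rc_11_1 lc_c_Cert_tree lc_c_rc_11_1 lc_c_rc_13_0 lc_c_rc_11_1 lc_c_rc_13_2 lc_c_rc_2_3 lc_c_rc_13_2 lc_c_rc_11_1 lc_c_rc_26_10 lc_c_rc_7_3 lc_c_rc_7_5 lc_c_rc_14_2 lc_c_rc_26_2 lc_c_rc_2_3 lc_c_rc_25_5 lc_c_rc_26_10 lc_c_rc_7_5 lc_c_rc_2_3 lc_c_rc_7_3 lc_c_rc_2_3 lc_c_rc_14_2 lc_c_rc_26_2 lc_c_rc_7_1 lc_c_rc_11_1 lc_c_rc_26_4 lc_c_rc_11_1 lc_c_rc_26_10 lc_c_rc_11_1 lc_c_rc_14_2 lc_c_Cert_tree lc_c_rc_26_10 lc_c_rc_7_3 lc_c_rc_22_5 lc_c_rc_24_6 lc_c_rc_11_1 lc_c_rc_24_8 lc_c_rc_22_5 lc_c_rc_14_2 lc_c_rc_11_1 lc_c_rc_14_2 lc_c_rc_7_5 lc_c_rc_22_3 lc_c_rc_13_2 lc_c_rc_13_2 lc_c_rc_23_0 lc_c_rc_14_2 lc_c_rc_11_1 lc_c_rc_2_3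 lc_c_rc_26_4 lc_c_rc_13_2 lc_c_rc_13_2 lc_c_rc_13_2 lc_c_rc_7_3 lc_c_rc_24_4 lc_c_rc_22_3 lc_c_rc_2_1) (@D3.rec (fun _ => (Cert rels S Gen.c)) lc_c_rc_12_2 lc_c_rc_11_1 lc_c_rc_13_2 lc_c_rc_7_5 lc_c_Cert_tree lc_c_rc_26_4 lc_c_rc_11_1 lc_c_rc_11_1 lc_c_rc_13_2 lc_c_rc_14_2 lc_c_rc_22_3 lc_c_rc_23_0 lc_c_rc_26_10 lc_c_rc_2_3 lc_c_rc_11_1 lc_c_Cert_tree lc_c_rc_11_1 lc_c_rc_26_4 lc_c_rc_11_1 lc_c_rc_7_3 lc_c_rc_11_1 lc_c_rc_11_1 lc_c_rc_7_1 lc_c_rc_23_5 lc_c_rc_22_3 lc_c_rc_23_5 lc_c_rc_13_2 lc_c_rc_2_3 lc_c_rc_26_2 lc_c_rc_13_2 lc_c_rc_26_4 lc_c_rc_11_1 lc_c_rc_24_2 lc_c_rc_11_1 lc_c_rc_7_1 lc_c_rc_11_1 lc_c_rc_22_3 lc_c_rc_11_1 lc_c_rc_24_6 lc_c_rc_22_3 lc_c_rc_7_5 lc_c_rc_11_1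 lc_c_rc_22_5 lc_c_rc_13_2 lc_c_rc_26_10 lc_c_rc_26_10 lc_c_rc_14_2 lc_c_rc_11_1 lc_c_rc_13_2 lc_c_rc_12_0 lc_c_rc_23_5 lc_c_rc_23_0 lc_c_rc_11_1 lc_c_rc_13_2 lc_c_rc_13_0 lc_c_rc_7_3 lc_c_rc_13_2 lc_c_rc_13_2 lc_c_rc_2_3 lc_c_rc_25_17 lc_c_rc_14_2 lc_c_rc_13_2) (@D3.rec (fun _ => (Cert rels S Gen.c)) lc_c_rc_11_1 lc_c_rc_7_5 lc_c_Cert_tree lc_c_rc_14_2 lc_c_rc_13_0 lc_c_rc_22_5 lc_c_rc_24_6 lc_c_rc_13_2 lc_c_rc_22_3 lc_c_rc_14_0 lc_c_rc_7_5 lc_c_rc_11_1 lc_c_rc_11_1 lc_c_rc_26_2 lc_c_rc_23_0 lc_c_rc_11_1 lc_c_rc_13_2 lc_c_rc_26_2 lc_c_rc_22_5 lc_c_rc_14_2 lc_c_rc_23_5 lc_c_rc_13_2 lc_c_Cert_tree lc_c_rc_24_4 lc_c_rc_24_4 lc_c_rc_26_4 lc_c_rc_11_1 lc_c_rc_26_8 lc_c_rc_14_2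 lc_c_rc_11_1 lc_c_rc_26_8 lc_c_rc_11_1 lc_c_rc_26_4 lc_c_rc_11_1 lc_c_rc_24_6 lc_c_rc_24_6 lc_c_rc_11_1 lc_c_rc_13_2 lc_c_rc_22_3 lc_c_rc_11_1 lc_c_rc_22_3 lc_c_rc_7_5 lc_c_rc_11_1 lc_c_rc_24_2 lc_c_rc_22_5 lc_c_rc_7_1 lc_c_rc_13_2 lc_c_rc_26_8 lc_c_rc_26_8 lc_c_rc_26_4 lc_c_rc_13_2 lc_c_rc_2_3 lc_c_rc_22_5 lc_c_rc_13_2 lc_c_rc_13_2 lc_c_rc_11_1 lc_c_rc_13_2 lc_c_rc_22_3 lc_c_rc_22_7 lc_c_rc_14_2 lc_c_rc_25_1 lc_c_rc_2_1) (@D3.rec (fun _ => (Cert rels S Gen.c)) lc_c_rc_2_3 lc_c_rc_12_2 lc_c_rc_13_2 lc_c_rc_11_1 lc_c_rc_11_1 lc_c_rc_13_2 lc_c_rc_22_9 lc_c_rc_22_7 lc_c_rc_11_1 lc_c_rc_13_2 lc_c_rc_13_0 lc_c_rc_2_3 lc_c_Cert_tree lc_c_rc_11_1 lc_c_rc_26_2 lc_c_rc_13_2 lc_c_rc_24_4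 lc_c_rc_22_5 lc_c_rc_11_1 lc_c_rc_13_2 lc_c_rc_11_1 lc_c_rc_24_4 lc_c_rc_11_1 lc_c_rc_7_3 lc_c_rc_14_2 lc_c_rc_7_3 lc_c_rc_13_0 lc_c_rc_11_1 lc_c_rc_11_1 lc_c_rc_13_2 lc_c_rc_13_2 lc_c_rc_13_2 lc_c_rc_23_5 lc_c_rc_13_2 lc_c_rc_22_5 lc_c_rc_25_17 lc_c_rc_11_1 lc_c_rc_11_1 lc_c_rc_23_5 lc_c_rc_11_1 lc_c_rc_7_5 lc_c_rc_11_1 lc_c_rc_26_4 lc_c_rc_13_2 lc_c_rc_26_4 lc_c_rc_11_1 lc_c_rc_11_1 lc_c_rc_13_2 lc_c_rc_26_4 lc_c_rc_22_7 lc_c_rc_14_2 lc_c_rc_26_4 lc_c_rc_13_2 lc_c_rc_11_1 lc_c_rc_26_8 lc_c_rc_11_1 lc_c_rc_22_3 lc_c_rc_11_1 lc_c_rc_2_3 lc_c_rc_2_1 lc_c_rc_26_8 lc_c_rc_11_1) (@D3.rec (fun _ => (Cert rels S Gen.c)) lc_c_rc_26_10 lc_c_rc_7_5 lc_c_rc_26_10 lc_c_rc_13_2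 lc_c_rc_2_3 lc_c_rc_22_7 lc_c_rc_13_2 lc_c_rc_11_1 lc_c_rc_26_4 lc_c_rc_23_0 lc_c_rc_11_1 lc_c_rc_11_1 lc_c_rc_22_5 lc_c_rc_22_3 lc_c_rc_22_5 lc_c_rc_14_2 lc_c_rc_11_1 lc_c_rc_26_8 lc_c_rc_26_8 lc_c_rc_12_0 lc_c_rc_11_1 lc_c_rc_22_3 lc_c_rc_7_3 lc_c_rc_13_2 lc_c_rc_7_5 lc_c_rc_11_1 lc_c_rc_13_2 lc_c_Cert_tree lc_c_rc_24_4 lc_c_rc_13_2 lc_c_rc_24_6 lc_c_rc_25_5 lc_c_rc_7_3 lc_c_rc_13_2 lc_c_rc_22_3 lc_c_rc_26_4 lc_c_rc_26_8 lc_c_rc_11_1 lc_c_rc_25_1 lc_c_rc_26_4 lc_c_rc_13_2 lc_c_rc_23_0 lc_c_rc_7_3 lc_c_rc_13_0 lc_c_rc_23_5 lc_c_rc_23_5 lc_c_rc_24_4 lc_c_rc_11_1 lc_c_rc_26_4 lc_c_rc_11_1 lc_c_rc_7_1 lc_c_rc_7_3 lc_c_rc_23_5 lc_c_rc_14_2 lc_c_rc_23_5 lc_c_rc_24_8 lc_c_rc_24_8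 lc_c_rc_23_0 lc_c_rc_11_1 lc_c_rc_14_0 lc_c_rc_11_1 lc_c_rc_7_5) (@D3.rec (fun _ => (Cert rels S Gen.c)) lc_c_rc_11_1 lc_c_rc_2_3 lc_c_rc_7_5 lc_c_rc_22_7 lc_c_rc_2_3 lc_c_rc_7_3 lc_c_rc_23_5 lc_c_rc_13_2 lc_c_rc_2_3 lc_c_rc_22_7 lc_c_rc_2_3 lc_c_rc_7_3 lc_c_rc_13_0 lc_c_rc_7_1 lc_c_rc_11_1 lc_c_rc_24_2 lc_c_rc_11_1 lc_c_rc_7_5 lc_c_rc_11_1 lc_c_rc_11_1 lc_c_rc_7_5 lc_c_rc_7_5 lc_c_rc_11_1 lc_c_rc_26_4 lc_c_rc_2_3 lc_c_rc_11_1 lc_c_rc_13_0 lc_c_rc_11_1 lc_c_rc_24_2 lc_c_rc_11_1 lc_c_rc_22_7 lc_c_rc_24_6 lc_c_rc_7_1 lc_c_rc_2_1 lc_c_rc_25_17 lc_c_rc_11_1 lc_c_rc_26_4 lc_c_rc_23_0 lc_c_rc_23_5 lc_c_rc_24_2 lc_c_rc_7_5 lc_c_rc_26_4 lc_c_rc_2_3 lc_c_rc_26_4 lc_c_rc_11_1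 lc_c_Cert_tree lc_c_rc_11_1 lc_c_rc_22_9 lc_c_rc_11_1 lc_c_rc_22_7 lc_c_rc_11_1 lc_c_rc_24_4 lc_c_rc_11_1 lc_c_rc_22_7 lc_c_rc_14_0 lc_c_rc_26_2 lc_c_rc_22_3 lc_c_rc_13_2 lc_c_rc_11_1 lc_c_rc_13_2 lc_c_rc_7_3 lc_c_rc_26_10) (@D3.rec (fun _ => (Cert rels S Gen.c)) lc_c_rc_22_5 lc_c_rc_25_1 lc_c_rc_26_4 lc_c_rc_26_10 lc_c_rc_7_1 lc_c_rc_11_1 lc_c_rc_23_5 lc_c_rc_13_2 lc_c_rc_23_5 lc_c_rc_14_2 lc_c_rc_24_6 lc_c_rc_7_1 lc_c_rc_13_2 lc_c_rc_24_8 lc_c_rc_24_4 lc_c_rc_11_1 lc_c_rc_26_8 lc_c_rc_11_1 lc_c_rc_13_0 lc_c_rc_11_1 lc_c_rc_23_0 lc_c_rc_14_2 lc_c_rc_11_1 lc_c_rc_7_3 lc_c_rc_13_0 lc_c_rc_11_1 lc_c_rc_14_2 lc_c_rc_11_1 lc_c_rc_22_9 lc_c_rc_11_1 lc_c_rc_22_5 lc_c_rc_13_2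 lc_c_rc_26_2 lc_c_rc_13_2 lc_c_rc_7_1 lc_c_rc_13_2 lc_c_rc_14_2 lc_c_rc_7_5 lc_c_rc_2_3 lc_c_rc_26_2 lc_c_rc_2_3 lc_c_rc_22_3 lc_c_rc_11_1 lc_c_rc_14_2 lc_c_rc_25_17 lc_c_rc_26_4 lc_c_rc_11_1 lc_c_rc_11_1 lc_c_rc_13_2 lc_c_rc_11_1 lc_c_rc_13_0 lc_c_rc_7_5 lc_c_rc_13_2 lc_c_rc_25_1 lc_c_rc_24_4 lc_c_rc_14_2 lc_c_rc_23_5 lc_c_rc_13_2 lc_c_rc_23_0 lc_c_rc_7_5 lc_c_rc_11_1 lc_c_rc_11_1) (@D3.rec (fun _ => (Cert rels S Gen.c)) lc_c_Cert_tree lc_c_rc_13_2 lc_c_rc_26_10 lc_c_rc_23_0 lc_c_rc_24_2 lc_c_rc_14_2 lc_c_rc_22_9 lc_c_rc_26_10 lc_c_rc_7_5 lc_c_rc_13_2 lc_c_rc_11_1 lc_c_rc_13_2 lc_c_rc_13_0 lc_c_rc_13_2 lc_c_rc_11_1 lc_c_rc_23_0 lc_c_rc_13_2 lc_c_rc_26_10 lc_c_rc_11_1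 lc_c_rc_12_14 lc_c_rc_26_10 lc_c_rc_11_1 lc_c_rc_14_2 lc_c_rc_25_17 lc_c_rc_11_1 lc_c_rc_13_2 lc_c_rc_14_2 lc_c_rc_11_1 lc_c_rc_24_4 lc_c_rc_13_2 lc_c_rc_11_1 lc_c_rc_24_2 lc_c_rc_11_1 lc_c_rc_2_3 lc_c_rc_7_5 lc_c_rc_26_8 lc_c_rc_11_1 lc_c_rc_7_3 lc_c_rc_11_1 lc_c_rc_11_1 lc_c_rc_12_0 lc_c_rc_13_2 lc_c_rc_24_4 lc_c_rc_13_2 lc_c_rc_26_4 lc_c_rc_26_2 lc_c_rc_11_1 lc_c_rc_11_1 lc_c_rc_12_0 lc_c_rc_13_2 lc_c_rc_24_4 lc_c_rc_13_2 lc_c_rc_14_2 lc_c_rc_11_1 lc_c_rc_26_2 lc_c_rc_13_2 lc_c_rc_24_2 lc_c_rc_23_0 lc_c_rc_13_2 lc_c_rc_11_1 lc_c_rc_11_1 lc_c_rc_11_1) (@D3.rec (fun _ => (Cert rels S Gen.c)) lc_c_rc_13_2 lc_c_rc_13_2 lc_c_rc_11_1 lc_c_rc_24_4 lc_c_rc_11_1 lc_c_rc_13_2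 lc_c_rc_11_1 lc_c_rc_26_8 lc_c_rc_2_1 lc_c_rc_7_1 lc_c_rc_26_10 lc_c_rc_11_1 lc_c_rc_13_0 lc_c_rc_13_0 lc_c_rc_7_5 lc_c_rc_11_1 lc_c_rc_13_2 lc_c_rc_2_3 lc_c_rc_11_1 lc_c_rc_11_1 lc_c_rc_7_5 lc_c_rc_11_1 lc_c_rc_11_1 lc_c_rc_2_3 lc_c_rc_24_2 lc_c_rc_11_1 lc_c_rc_26_2 lc_c_Cert_tree lc_c_Cert_tree lc_c_rc_26_2 lc_c_rc_7_1 lc_c_rc_23_0 lc_c_rc_14_0 lc_c_rc_14_2 lc_c_rc_22_3 lc_c_rc_7_3 lc_c_rc_22_7 lc_c_rc_13_2 lc_c_rc_24_2 lc_c_rc_11_1 lc_c_rc_22_3 lc_c_rc_11_1 lc_c_rc_25_9 lc_c_rc_7_3 lc_c_rc_22_3 lc_c_rc_13_2 lc_c_rc_26_4 lc_c_rc_11_1 lc_c_rc_13_2 lc_c_rc_11_1 lc_c_rc_11_1 lc_c_Cert_tree lc_c_rc_13_2 lc_c_rc_26_10 lc_c_rc_11_1 lc_c_rc_11_1 lc_c_rc_13_2 lc_c_rc_24_2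 lc_c_rc_22_3 lc_c_rc_23_0 lc_c_rc_13_2 lc_c_rc_14_2) (@D3.rec (fun _ => (Cert rels S Gen.c)) lc_c_rc_14_2 lc_c_rc_23_5 lc_c_rc_2_1 lc_c_rc_11_1 lc_c_rc_13_0 lc_c_rc_14_2 lc_c_rc_11_1 lc_c_rc_14_2 lc_c_rc_13_2 lc_c_rc_26_10 lc_c_rc_24_4 lc_c_rc_22_5 lc_c_rc_13_2 lc_c_rc_11_1 lc_c_rc_26_8 lc_c_rc_13_2 lc_c_rc_11_1 lc_c_rc_22_7 lc_c_rc_13_0 lc_c_rc_13_0 lc_c_rc_12_14 lc_c_rc_11_1 lc_c_rc_13_2 lc_c_rc_24_6 lc_c_rc_2_3 lc_c_rc_13_2 lc_c_rc_24_6 lc_c_rc_23_5 lc_c_rc_25_1 lc_c_rc_7_5 lc_c_rc_11_1 lc_c_rc_7_3 lc_c_rc_7_3 lc_c_Cert_tree lc_c_Cert_tree lc_c_rc_11_1 lc_c_rc_7_3 lc_c_rc_24_2 lc_c_rc_13_2 lc_c_rc_11_1 lc_c_rc_24_4 lc_c_rc_23_5 lc_c_rc_26_4 lc_c_rc_11_1 lc_c_rc_13_2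 lc_c_rc_22_5 lc_c_rc_11_1 lc_c_rc_2_3 lc_c_rc_11_1 lc_c_rc_7_5 lc_c_rc_14_2 lc_c_rc_13_2 lc_c_rc_11_1 lc_c_rc_7_3 lc_c_rc_26_10 lc_c_rc_11_1 lc_c_rc_11_1 lc_c_rc_22_7 lc_c_rc_14_2 lc_c_rc_7_5 lc_c_rc_22_9 lc_c_rc_24_8) (@D3.rec (fun _ => (Cert rels S Gen.c)) lc_c_rc_2_3 lc_c_rc_11_1 lc_c_rc_24_2 lc_c_rc_11_1 lc_c_rc_11_1 lc_c_rc_13_2 lc_c_rc_25_5 lc_c_rc_11_1 lc_c_rc_2_3 lc_c_rc_24_4 lc_c_rc_23_0 lc_c_rc_2_1 lc_c_rc_13_2 lc_c_rc_14_2 lc_c_rc_7_1 lc_c_rc_13_2 lc_c_rc_13_2 lc_c_rc_22_3 lc_c_rc_11_1 lc_c_rc_24_8 lc_c_rc_13_2 lc_c_rc_13_0 lc_c_rc_11_1 lc_c_rc_24_4 lc_c_rc_13_2 lc_c_rc_24_6 lc_c_rc_22_5 lc_c_rc_14_2 lc_c_rc_23_0 lc_c_rc_14_2 lc_c_rc_26_4 lc_c_rc_11_1 lc_c_rc_23_5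 lc_c_rc_11_1 lc_c_rc_11_1 lc_c_rc_26_2 lc_c_rc_26_10 lc_c_rc_23_0 lc_c_rc_11_1 lc_c_rc_24_6 lc_c_rc_26_10 lc_c_rc_13_0 lc_c_rc_2_3 lc_c_rc_14_2 lc_c_rc_11_1 lc_c_rc_13_2 lc_c_rc_13_2 lc_c_rc_11_1 lc_c_rc_13_2 lc_c_rc_13_2 lc_c_rc_2_1 lc_c_rc_26_10 lc_c_rc_22_7 lc_c_rc_14_2 lc_c_rc_13_2 lc_c_rc_13_2 lc_c_rc_22_9 lc_c_rc_23_0 lc_c_rc_22_7 lc_c_rc_7_5 lc_c_rc_13_2 lc_c_rc_2_1) (@D3.rec (fun _ => (Cert rels S Gen.c)) lc_c_rc_7_5 lc_c_Cert_tree lc_c_rc_7_3 lc_c_rc_11_1 lc_c_rc_24_6 lc_c_rc_24_4 lc_c_rc_14_2 lc_c_rc_13_2 lc_c_rc_24_2 lc_c_rc_13_2 lc_c_rc_26_8 lc_c_rc_22_9 lc_c_rc_7_5 lc_c_rc_11_1 lc_c_rc_11_1 lc_c_rc_11_1 lc_c_Cert_tree lc_c_Cert_tree lc_c_rc_11_1 lc_c_rc_7_3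 lc_c_rc_2_1 lc_c_rc_13_2 lc_c_rc_11_1 lc_c_rc_26_4 lc_c_rc_11_1 lc_c_rc_13_2 lc_c_rc_26_2 lc_c_rc_14_2 lc_c_rc_11_1 lc_c_rc_2_1 lc_c_rc_7_5 lc_c_Cert_tree lc_c_rc_11_1 lc_c_rc_26_4 lc_c_rc_11_1 lc_c_rc_2_1 lc_c_rc_14_2 lc_c_rc_7_3 lc_c_rc_24_2 lc_c_rc_13_2 lc_c_rc_26_2 lc_c_rc_11_1 lc_c_rc_14_2 lc_c_rc_11_1 lc_c_rc_13_2 lc_c_rc_23_5 lc_c_rc_14_2 lc_c_rc_11_1 lc_c_rc_22_5 lc_c_rc_13_2 lc_c_rc_22_9 lc_c_rc_26_2 lc_c_rc_13_2 lc_c_rc_11_1 lc_c_rc_11_1 lc_c_rc_13_2 lc_c_rc_13_2 lc_c_rc_7_3 lc_c_rc_11_1 lc_c_rc_11_1 lc_c_rc_13_2 lc_c_rc_7_1) (@D3.rec (fun _ => (Cert rels S Gen.c)) lc_c_rc_13_2 lc_c_rc_23_0 lc_c_rc_13_2 lc_c_rc_11_1 lc_c_rc_23_0 lc_c_rc_11_1 lc_c_rc_11_1 lc_c_rc_13_2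 lc_c_rc_11_1 lc_c_rc_26_8 lc_c_Cert_tree lc_c_rc_13_0 lc_c_rc_24_4 lc_c_rc_7_1 lc_c_rc_11_1 lc_c_rc_24_2 lc_c_rc_11_1 lc_c_rc_13_2 lc_c_rc_26_10 lc_c_rc_7_5 lc_c_rc_14_0 lc_c_Cert_tree lc_c_rc_11_1 lc_c_rc_26_2 lc_c_rc_24_2 lc_c_rc_11_1 lc_c_rc_14_2 lc_c_rc_11_1 lc_c_rc_13_2 lc_c_rc_26_2 lc_c_rc_24_4 lc_c_rc_13_2 lc_c_rc_14_0 lc_c_rc_11_1 lc_c_rc_13_2 lc_c_rc_22_3 lc_c_rc_13_2 lc_c_rc_14_2 lc_c_rc_24_4 lc_c_rc_11_1 lc_c_rc_7_3 lc_c_rc_26_10 lc_c_rc_11_1 lc_c_rc_23_0 lc_c_rc_11_1 lc_c_rc_24_6 lc_c_rc_7_1 lc_c_rc_13_2 lc_c_rc_24_8 lc_c_rc_11_1 lc_c_rc_26_2 lc_c_rc_11_1 lc_c_rc_22_5 lc_c_rc_11_1 lc_c_rc_11_1 lc_c_rc_11_1 lc_c_rc_13_2 lc_c_rc_11_1 lc_c_rc_26_10 lc_c_rc_22_7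 lc_c_rc_13_2 lc_c_rc_26_2) (@D3.rec (fun _ => (Cert rels S Gen.c)) lc_c_rc_23_5 lc_c_rc_26_10 lc_c_rc_11_1 lc_c_rc_13_2 lc_c_rc_7_1 lc_c_rc_14_2 lc_c_rc_11_1 lc_c_rc_22_3 lc_c_rc_11_1 lc_c_rc_11_1 lc_c_rc_13_2 lc_c_rc_11_1 lc_c_rc_26_10 lc_c_rc_14_2 lc_c_rc_7_5 lc_c_rc_26_4 lc_c_rc_11_1 lc_c_rc_24_8 lc_c_rc_13_2 lc_c_rc_13_2 lc_c_rc_7_5 lc_c_Cert_tree lc_c_rc_13_2 lc_c_rc_24_2 lc_c_rc_2_3 lc_c_rc_22_9 lc_c_rc_13_2 lc_c_rc_7_5 lc_c_rc_11_1 lc_c_rc_2_1 lc_c_rc_13_2 lc_c_rc_13_2 lc_c_rc_23_0 lc_c_rc_13_2 lc_c_rc_11_1 lc_c_rc_7_5 lc_c_rc_26_4 lc_c_rc_7_3 lc_c_rc_26_4 lc_c_rc_13_2 lc_c_rc_26_10 lc_c_rc_11_1 lc_c_rc_22_3 lc_c_rc_11_1 lc_c_rc_14_2 lc_c_rc_24_4 lc_c_rc_11_1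 lc_c_rc_26_10 lc_c_rc_23_0 lc_c_rc_13_2 lc_c_rc_13_2 lc_c_rc_26_8 lc_c_rc_2_1 lc_c_rc_11_1 lc_c_rc_13_2 lc_c_rc_11_1 lc_c_rc_26_8 lc_c_rc_7_5 lc_c_rc_7_3 lc_c_rc_22_9 lc_c_rc_13_2 lc_c_rc_23_0) (@D3.rec (fun _ => (Cert rels S Gen.c)) lc_c_rc_12_14 lc_c_rc_13_2 lc_c_rc_24_4 lc_c_rc_11_1 lc_c_rc_11_1 lc_c_rc_7_5 lc_c_rc_13_2 lc_c_rc_24_6 lc_c_rc_23_0 lc_c_rc_11_1 lc_c_rc_7_3 lc_c_rc_13_2 lc_c_rc_7_5 lc_c_rc_7_5 lc_c_rc_13_2 lc_c_rc_13_0 lc_c_rc_14_0 lc_c_rc_13_0 lc_c_rc_2_3 lc_c_rc_11_1 lc_c_rc_26_4 lc_c_rc_12_2 lc_c_rc_13_2 lc_c_rc_26_2 lc_c_rc_11_1 lc_c_rc_11_1 lc_c_rc_2_3 lc_c_rc_26_2 lc_c_rc_11_1 lc_c_rc_26_8 lc_c_rc_11_1 lc_c_rc_13_2 lc_c_rc_11_1 lc_c_rc_22_5 lc_c_rc_11_1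 lc_c_rc_14_2 lc_c_rc_13_2 lc_c_rc_11_1 lc_c_rc_11_1 lc_c_rc_22_9 lc_c_rc_14_2 lc_c_rc_2_3 lc_c_Cert_tree lc_c_rc_11_1 lc_c_rc_13_2 lc_c_rc_11_1 lc_c_rc_11_1 lc_c_rc_24_6 lc_c_rc_23_0 lc_c_rc_26_8 lc_c_rc_11_1 lc_c_rc_26_4 lc_c_rc_14_0 lc_c_rc_22_3 lc_c_rc_24_6 lc_c_rc_24_8 lc_c_rc_26_4 lc_c_rc_13_2 lc_c_rc_24_2 lc_c_rc_11_1 lc_c_rc_11_1 lc_c_rc_7_3) (@D3.rec (fun _ => (Cert rels S Gen.c)) lc_c_rc_12_4 lc_c_rc_26_4 lc_c_rc_2_1 lc_c_rc_26_4 lc_c_rc_11_1 lc_c_rc_11_1 lc_c_rc_7_3 lc_c_rc_11_1 lc_c_rc_13_2 lc_c_rc_23_0 lc_c_rc_23_5 lc_c_rc_7_3 lc_c_rc_2_3 lc_c_rc_2_3 lc_c_rc_7_5 lc_c_rc_22_9 lc_c_rc_22_9 lc_c_rc_2_1 lc_c_rc_12_2 lc_c_rc_26_8 lc_c_rc_13_2 lc_c_rc_22_7 lc_c_rc_13_2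 lc_c_rc_11_1 lc_c_rc_11_1 lc_c_rc_11_1 lc_c_rc_7_5 lc_c_rc_26_2 lc_c_rc_14_2 lc_c_rc_11_1 lc_c_rc_25_1 lc_c_rc_13_2 lc_c_rc_26_8 lc_c_rc_24_4 lc_c_rc_23_0 lc_c_rc_26_8 lc_c_rc_26_4 lc_c_rc_11_1 lc_c_rc_13_2 lc_c_Cert_tree lc_c_rc_24_8 lc_c_rc_11_1 lc_c_rc_14_2 lc_c_rc_22_3 lc_c_rc_11_1 lc_c_rc_12_0 lc_c_rc_11_1 lc_c_rc_22_3 lc_c_rc_11_1 lc_c_rc_23_0 lc_c_rc_11_1 lc_c_rc_14_2 lc_c_rc_13_0 lc_c_rc_13_2 lc_c_rc_22_3 lc_c_rc_26_10 lc_c_rc_7_5 lc_c_rc_11_1 lc_c_rc_2_3 lc_c_rc_13_2 lc_c_rc_13_2 lc_c_rc_13_2) (@D3.rec (fun _ => (Cert rels S Gen.c)) lc_c_rc_14_2 lc_c_rc_11_1 lc_c_rc_14_2 lc_c_rc_11_1 lc_c_rc_26_4 lc_c_rc_11_1 lc_c_rc_13_2 lc_c_rc_11_1 lc_c_rc_26_2 lc_c_rc_26_2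 lc_c_rc_13_0 lc_c_rc_26_4 lc_c_rc_22_3 lc_c_rc_14_2 lc_c_rc_11_1 lc_c_rc_11_1 lc_c_rc_13_2 lc_c_rc_22_3 lc_c_rc_13_2 lc_c_rc_14_2 lc_c_rc_14_2 lc_c_rc_11_1 lc_c_rc_7_3 lc_c_rc_24_4 lc_c_rc_23_0 lc_c_rc_11_1 lc_c_rc_23_5 lc_c_rc_24_2 lc_c_rc_22_5 lc_c_rc_23_0 lc_c_rc_24_6 lc_c_rc_11_1 lc_c_rc_14_2 lc_c_rc_7_3 lc_c_rc_12_2 lc_c_rc_13_2 lc_c_rc_26_4 lc_c_rc_11_1 lc_c_rc_13_2 lc_c_rc_14_0 lc_c_rc_13_2 lc_c_rc_26_10 lc_c_rc_24_2 lc_c_rc_23_5 lc_c_rc_11_1 lc_c_rc_13_0 lc_c_rc_11_1 lc_c_rc_22_7 lc_c_rc_23_5 lc_c_rc_7_3 lc_c_rc_24_6 lc_c_rc_14_2 lc_c_Cert_tree lc_c_rc_26_4 lc_c_rc_12_14 lc_c_rc_22_5 lc_c_Cert_tree lc_c_rc_11_1 lc_c_rc_24_2 lc_c_rc_26_4 lc_c_rc_26_2 lc_c_rc_2_3)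 (@D3.rec (fun _ => (Cert rels S Gen.c)) lc_c_rc_7_3 lc_c_rc_26_4 lc_c_rc_22_9 lc_c_rc_13_2 lc_c_rc_11_1 lc_c_rc_11_1 lc_c_rc_26_4 lc_c_rc_13_0 lc_c_rc_23_0 lc_c_rc_22_3 lc_c_rc_7_3 lc_c_rc_26_2 lc_c_rc_24_4 lc_c_rc_7_3 lc_c_rc_22_5 lc_c_rc_13_2 lc_c_rc_13_2 lc_c_rc_2_3 lc_c_rc_22_3 lc_c_rc_2_3 lc_c_rc_13_2 lc_c_rc_13_2 lc_c_rc_26_2 lc_c_rc_11_1 lc_c_rc_22_7 lc_c_rc_13_0 lc_c_rc_11_1 lc_c_rc_7_1 lc_c_rc_22_7 lc_c_rc_26_4 lc_c_rc_14_2 lc_c_rc_13_0 lc_c_rc_11_1 lc_c_rc_14_2 lc_c_rc_11_1 lc_c_rc_11_1 lc_c_rc_11_1 lc_c_rc_26_2 lc_c_rc_11_1 lc_c_rc_13_2 lc_c_rc_26_4 lc_c_rc_26_10 lc_c_rc_26_8 lc_c_rc_11_1 lc_c_rc_7_3 lc_c_rc_11_1 lc_c_rc_7_3 lc_c_rc_14_2 lc_c_rc_13_2 lc_c_rc_11_1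 lc_c_rc_7_3 lc_c_rc_11_1 lc_c_rc_23_0 lc_c_rc_11_1 lc_c_rc_7_3 lc_c_rc_22_3 lc_c_rc_13_2 lc_c_rc_22_3 lc_c_rc_11_1 lc_c_rc_2_3 lc_c_rc_26_10 lc_c_rc_7_1) (@D3.rec (fun _ => (Cert rels S Gen.c)) lc_c_rc_14_2 lc_c_rc_13_2 lc_c_Cert_tree lc_c_rc_11_1 lc_c_rc_23_0 lc_c_rc_13_2 lc_c_rc_13_2 lc_c_rc_26_8 lc_c_rc_24_4 lc_c_rc_22_3 lc_c_rc_24_6 lc_c_rc_12_2 lc_c_rc_23_0 lc_c_rc_24_2 lc_c_rc_24_6 lc_c_rc_14_2 lc_c_Cert_tree lc_c_rc_26_10 lc_c_rc_23_0 lc_c_rc_14_2 lc_c_rc_24_8 lc_c_rc_13_0 lc_c_rc_7_5 lc_c_rc_13_2 lc_c_rc_11_1 lc_c_rc_22_9 lc_c_rc_11_1 lc_c_rc_13_2 lc_c_rc_13_2 lc_c_rc_11_1 lc_c_rc_7_1 lc_c_rc_12_2 lc_c_rc_24_8 lc_c_rc_7_5 lc_c_rc_22_9 lc_c_rc_7_5 lc_c_rc_11_1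 lc_c_rc_2_3 lc_c_Cert_tree lc_c_rc_13_2 lc_c_rc_26_4 lc_c_rc_26_4 lc_c_rc_13_2 lc_c_rc_26_2 lc_c_rc_7_3 lc_c_rc_24_6 lc_c_rc_11_1 lc_c_rc_7_5 lc_c_rc_13_2 lc_c_rc_13_2 lc_c_rc_23_5 lc_c_rc_11_1 lc_c_rc_22_3 lc_c_rc_11_1 lc_c_rc_23_5 lc_c_rc_26_2 lc_c_rc_25_17 lc_c_rc_26_10 lc_c_rc_22_5 lc_c_rc_7_3 lc_c_rc_22_9 lc_c_rc_11_1) (@D3.rec (fun _ => (Cert rels S Gen.c)) lc_c_rc_14_2 lc_c_rc_11_1 lc_c_rc_24_2 lc_c_rc_11_1 lc_c_rc_23_5 lc_c_rc_11_1 lc_c_rc_13_2 lc_c_rc_24_2 lc_c_rc_13_2 lc_c_rc_7_1 lc_c_rc_22_5 lc_c_rc_11_1 lc_c_rc_22_5 lc_c_rc_23_0 lc_c_rc_13_2 lc_c_rc_22_9 lc_c_rc_13_2 lc_c_rc_26_10 lc_c_rc_14_2 lc_c_rc_11_1 lc_c_rc_24_8 lc_c_rc_7_3 lc_c_rc_24_6 lc_c_rc_11_1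 lc_c_rc_13_2 lc_c_rc_26_4 lc_c_rc_13_2 lc_c_rc_23_5 lc_c_rc_24_8 lc_c_rc_23_0 lc_c_rc_13_0 lc_c_rc_13_0 lc_c_rc_2_3 lc_c_rc_7_5 lc_c_rc_13_2 lc_c_rc_13_2 lc_c_rc_13_2 lc_c_rc_24_2 lc_c_rc_13_2 lc_c_rc_23_0 lc_c_rc_24_2 lc_c_rc_11_1 lc_c_rc_26_10 lc_c_rc_22_7 lc_c_rc_13_2 lc_c_rc_7_1 lc_c_rc_25_17 lc_c_rc_7_5 lc_c_rc_26_4 lc_c_rc_13_2 lc_c_rc_11_1 lc_c_rc_11_1 lc_c_rc_26_2 lc_c_rc_24_2 lc_c_rc_23_0 lc_c_rc_24_2 lc_c_rc_13_0 lc_c_rc_26_2 lc_c_rc_23_5 lc_c_rc_13_2 lc_c_rc_13_2 lc_c_rc_24_6) (@D3.rec (fun _ => (Cert rels S Gen.c)) lc_c_rc_24_6 lc_c_rc_11_1 lc_c_rc_24_4 lc_c_rc_11_1 lc_c_rc_11_1 lc_c_rc_12_14 lc_c_rc_13_2 lc_c_rc_13_2 lc_c_rc_2_1 lc_c_rc_23_0 lc_c_rc_13_2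 lc_c_rc_14_2 lc_c_rc_24_2 lc_c_rc_11_1 lc_c_rc_11_1 lc_c_rc_13_2 lc_c_rc_11_1 lc_c_rc_24_6 lc_c_rc_26_4 lc_c_rc_11_1 lc_c_rc_22_5 lc_c_rc_13_2 lc_c_rc_26_4 lc_c_rc_13_2 lc_c_rc_11_1 lc_c_rc_14_2 lc_c_rc_26_8 lc_c_Cert_tree lc_c_rc_11_1 lc_c_rc_14_2 lc_c_rc_2_3 lc_c_rc_13_2 lc_c_rc_11_1 lc_c_rc_11_1 lc_c_rc_14_2 lc_c_rc_11_1 lc_c_rc_13_2 lc_c_rc_2_3 lc_c_rc_11_1 lc_c_rc_23_5 lc_c_rc_7_3 lc_c_rc_23_5 lc_c_rc_13_2 lc_c_rc_11_1 lc_c_rc_13_2 lc_c_rc_14_0 lc_c_rc_24_8 lc_c_rc_26_4 lc_c_rc_24_4 lc_c_rc_13_0 lc_c_rc_24_4 lc_c_rc_13_2 lc_c_rc_11_1 lc_c_rc_14_2 lc_c_rc_11_1 lc_c_rc_14_2 lc_c_rc_23_5 lc_c_rc_22_9 lc_c_rc_7_5 lc_c_rc_23_5 lc_c_rc_24_4 lc_c_rc_11_1) (@D3.rec (fun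 _ => (Cert rels S Gen.c)) lc_c_rc_26_4 lc_c_rc_13_2 lc_c_rc_22_3 lc_c_rc_11_1 lc_c_rc_11_1 lc_c_rc_7_5 lc_c_rc_13_2 lc_c_rc_22_3 lc_c_rc_7_1 lc_c_rc_11_1 lc_c_rc_14_2 lc_c_rc_22_3 lc_c_rc_22_9 lc_c_rc_7_1 lc_c_rc_11_1 lc_c_rc_22_9 lc_c_rc_11_1 lc_c_rc_2_1 lc_c_rc_13_2 lc_c_rc_24_4 lc_c_rc_11_1 lc_c_rc_11_1 lc_c_rc_2_1 lc_c_rc_14_2 lc_c_rc_14_2 lc_c_rc_22_3 lc_c_rc_11_1 lc_c_rc_26_4 lc_c_rc_11_1 lc_c_rc_13_0 lc_c_rc_11_1 lc_c_rc_25_5 lc_c_rc_13_2 lc_c_rc_11_1 lc_c_rc_14_2 lc_c_rc_24_2 lc_c_rc_13_2 lc_c_rc_11_1 lc_c_rc_14_2 lc_c_rc_14_2 lc_c_rc_23_0 lc_c_rc_11_1 lc_c_rc_13_2 lc_c_rc_23_0 lc_c_rc_11_1 lc_c_rc_11_1 lc_c_rc_13_2 lc_c_rc_23_0 lc_c_rc_11_1 lc_c_rc_22_3 lc_c_rc_11_1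 lc_c_rc_23_0 lc_c_rc_23_0 lc_c_rc_23_0 lc_c_rc_23_5 lc_c_rc_23_5 lc_c_rc_11_1 lc_c_rc_7_1 lc_c_rc_26_4 lc_c_rc_13_2 lc_c_rc_11_1 lc_c_rc_11_1) (@D3.rec (fun _ => (Cert rels S Gen.c)) lc_c_rc_11_1 lc_c_rc_11_1 lc_c_rc_11_1 lc_c_rc_7_3 lc_c_rc_22_5 lc_c_Cert_tree lc_c_rc_7_5 lc_c_rc_11_1 lc_c_rc_7_1 lc_c_Cert_tree lc_c_rc_7_3 lc_c_Cert_tree lc_c_rc_26_4 lc_c_rc_13_2 lc_c_rc_22_5 lc_c_rc_13_2 lc_c_rc_13_0 lc_c_rc_22_9 lc_c_rc_11_1 lc_c_rc_26_4 lc_c_rc_26_4 lc_c_rc_2_3 lc_c_rc_11_1 lc_c_rc_7_3 lc_c_rc_13_2 lc_c_rc_22_7 lc_c_rc_26_2 lc_c_rc_26_10 lc_c_rc_7_1 lc_c_rc_26_4 lc_c_rc_26_8 lc_c_rc_13_2 lc_c_rc_11_1 lc_c_rc_2_3 lc_c_rc_13_2 lc_c_rc_23_0 lc_c_rc_11_1 lc_c_rc_2_1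 lc_c_rc_7_3 lc_c_rc_26_4 lc_c_rc_22_5 lc_c_rc_14_2 lc_c_rc_11_1 lc_c_rc_26_4 lc_c_rc_11_1 lc_c_rc_7_5 lc_c_rc_26_8 lc_c_rc_11_1 lc_c_rc_24_4 lc_c_rc_12_0 lc_c_rc_7_5 lc_c_rc_11_1 lc_c_rc_13_0 lc_c_Cert_tree lc_c_rc_13_2 lc_c_rc_11_1 lc_c_rc_11_1 lc_c_rc_26_2 lc_c_rc_24_2 lc_c_rc_22_5 lc_c_rc_23_0 lc_c_rc_14_2) (@D3.rec (fun _ => (Cert rels S Gen.c)) lc_c_rc_11_1 lc_c_rc_13_2 lc_c_rc_26_2 lc_c_rc_11_1 lc_c_rc_13_2 lc_c_rc_7_3 lc_c_rc_24_6 lc_c_rc_13_2 lc_c_rc_11_1 lc_c_rc_13_2 lc_c_rc_24_2 lc_c_rc_14_0 lc_c_rc_22_5 lc_c_rc_26_10 lc_c_rc_11_1 lc_c_rc_2_1 lc_c_rc_26_4 lc_c_rc_12_2 lc_c_rc_22_3 lc_c_rc_2_1 lc_c_rc_26_4 lc_c_rc_26_8 lc_c_rc_24_6 lc_c_rc_14_2 lc_c_rc_11_1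 lc_c_rc_26_2 lc_c_rc_11_1 lc_c_rc_26_4 lc_c_rc_22_5 lc_c_rc_13_2 lc_c_rc_11_1 lc_c_rc_24_4 lc_c_rc_26_4 lc_c_rc_2_1 lc_c_rc_22_7 lc_c_rc_7_5 lc_c_rc_22_9 lc_c_rc_13_2 lc_c_rc_11_1 lc_c_rc_7_5 lc_c_rc_11_1 lc_c_rc_13_2 lc_c_rc_11_1 lc_c_rc_24_2 lc_c_rc_14_2 lc_c_rc_13_2 lc_c_rc_11_1 lc_c_rc_13_2 lc_c_rc_24_4 lc_c_rc_24_2 lc_c_rc_24_4 lc_c_rc_11_1 lc_c_rc_13_2 lc_c_rc_12_12 lc_c_rc_14_2 lc_c_rc_25_5 lc_c_rc_22_5 lc_c_rc_14_2 lc_c_rc_13_2 lc_c_rc_22_9 lc_c_rc_11_1 lc_c_rc_13_2) (@D3.rec (fun _ => (Cert rels S Gen.c)) lc_c_rc_22_5 lc_c_rc_14_2 lc_c_rc_26_8 lc_c_rc_11_1 lc_c_rc_22_3 lc_c_rc_26_2 lc_c_rc_13_2 lc_c_rc_22_3 lc_c_rc_13_2 lc_c_rc_14_2 lc_c_rc_11_1 lc_c_rc_22_7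 lc_c_rc_23_0 lc_c_rc_12_14 lc_c_rc_11_1 lc_c_rc_14_2 lc_c_rc_13_2 lc_c_rc_11_1 lc_c_rc_13_2 lc_c_rc_2_1 lc_c_rc_13_0 lc_c_rc_14_2 lc_c_rc_11_1 lc_c_rc_13_0 lc_c_rc_22_3 lc_c_rc_13_2 lc_c_rc_7_5 lc_c_rc_14_0 lc_c_rc_13_2 lc_c_rc_23_5 lc_c_rc_24_4 lc_c_rc_11_1 lc_c_rc_22_7 lc_c_rc_13_2 lc_c_rc_22_9 lc_c_rc_24_4 lc_c_rc_14_2 lc_c_rc_11_1 lc_c_rc_11_1 lc_c_rc_11_1 lc_c_rc_23_5 lc_c_rc_25_1 lc_c_rc_24_2 lc_c_rc_11_1 lc_c_rc_11_1 lc_c_rc_26_8 lc_c_Cert_tree lc_c_rc_14_0 lc_c_rc_11_1 lc_c_rc_11_1 lc_c_Cert_tree lc_c_rc_11_1 lc_c_rc_13_2 lc_c_Cert_tree lc_c_rc_23_5 lc_c_rc_24_8 lc_c_rc_11_1 lc_c_rc_22_9 lc_c_rc_7_5 lc_c_rc_7_5 lc_c_rc_11_1 lc_c_rc_11_1) (@D3.rec (fun _ => (Cert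 rels S Gen.c)) lc_c_rc_7_5 lc_c_rc_11_1 lc_c_rc_13_2 lc_c_rc_25_9 lc_c_rc_24_6 lc_c_rc_11_1 lc_c_rc_14_2 lc_c_rc_26_4 lc_c_rc_11_1 lc_c_rc_7_5 lc_c_rc_7_3 lc_c_rc_13_2 lc_c_rc_13_2 lc_c_rc_22_9 lc_c_rc_13_0 lc_c_rc_14_0 lc_c_rc_14_2 lc_c_rc_7_5 lc_c_rc_13_2 lc_c_rc_2_3 lc_c_rc_22_9 lc_c_rc_24_2 lc_c_rc_7_3 lc_c_rc_22_3 lc_c_rc_7_3 lc_c_rc_22_7 lc_c_rc_2_3 lc_c_rc_11_1 lc_c_Cert_tree lc_c_rc_11_1 lc_c_rc_22_3 lc_c_rc_11_1 lc_c_rc_12_2 lc_c_rc_14_0 lc_c_rc_24_6 lc_c_rc_22_7 lc_c_rc_22_3 lc_c_rc_7_1 lc_c_rc_24_2 lc_c_rc_26_8 lc_c_rc_13_2 lc_c_rc_11_1 lc_c_rc_12_14 lc_c_rc_22_5 lc_c_rc_11_1 lc_c_rc_22_3 lc_c_rc_13_2 lc_c_rc_13_2 lc_c_rc_11_1 lc_c_rc_13_2 lc_c_rc_11_1 lc_c_Cert_tree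 lc_c_rc_13_0 lc_c_rc_13_2 lc_c_rc_7_3 lc_c_rc_13_2 lc_c_rc_13_2 lc_c_rc_13_2 lc_c_rc_13_2 lc_c_rc_13_2 lc_c_rc_13_0 lc_c_rc_7_3) (@D3.rec (fun _ => (Cert rels S Gen.c)) lc_c_rc_13_2 lc_c_rc_14_2 lc_c_rc_26_2 lc_c_rc_12_14 lc_c_rc_26_8 lc_c_rc_22_5 lc_c_rc_13_2 lc_c_rc_12_0 lc_c_rc_11_1 lc_c_rc_22_3 lc_c_rc_7_3 lc_c_rc_7_5 lc_c_rc_7_3 lc_c_rc_13_2 lc_c_rc_13_0 lc_c_rc_26_8 lc_c_rc_11_1 lc_c_rc_11_1 lc_c_rc_23_0 lc_c_rc_26_8 lc_c_rc_23_5 lc_c_rc_12_4 lc_c_rc_2_1 lc_c_rc_24_2 lc_c_rc_13_2 lc_c_rc_13_2 lc_c_rc_13_2 lc_c_Cert_tree lc_c_rc_26_4 lc_c_rc_13_0 lc_c_rc_13_2 lc_c_rc_11_1 lc_c_rc_23_5 lc_c_rc_13_2 lc_c_rc_13_2 lc_c_rc_24_4 lc_c_rc_22_3 lc_c_rc_11_1 lc_c_rc_13_2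 lc_c_rc_7_1 lc_c_rc_24_2 lc_c_rc_11_1 lc_c_rc_11_1 lc_c_rc_13_2 lc_c_rc_11_1 lc_c_rc_12_2 lc_c_rc_11_1 lc_c_rc_13_2 lc_c_rc_26_4 lc_c_rc_7_5 lc_c_rc_13_2 lc_c_rc_11_1 lc_c_rc_24_6 lc_c_rc_13_2 lc_c_rc_13_2 lc_c_rc_13_2 lc_c_rc_11_1 lc_c_rc_7_1 lc_c_rc_13_2 lc_c_rc_25_5 lc_c_rc_13_2 lc_c_rc_13_2) (@D3.rec (fun _ => (Cert rels S Gen.c)) lc_c_rc_24_4 lc_c_rc_14_2 lc_c_rc_14_2 lc_c_rc_7_5 lc_c_rc_26_2 lc_c_rc_24_6 lc_c_rc_23_5 lc_c_rc_11_1 lc_c_rc_24_6 lc_c_rc_12_14 lc_c_rc_22_3 lc_c_rc_11_1 lc_c_rc_22_9 lc_c_rc_13_0 lc_c_rc_22_7 lc_c_rc_13_2 lc_c_rc_11_1 lc_c_rc_11_1 lc_c_rc_11_1 lc_c_rc_14_0 lc_c_rc_26_2 lc_c_rc_11_1 lc_c_rc_24_2 lc_c_rc_2_1 lc_c_rc_11_1 lc_c_rc_24_4 lc_c_rc_13_2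 lc_c_rc_22_3 lc_c_rc_13_2 lc_c_rc_24_4 lc_c_rc_14_2 lc_c_rc_7_5 lc_c_rc_11_1 lc_c_rc_11_1 lc_c_rc_26_10 lc_c_rc_11_1 lc_c_rc_7_5 lc_c_rc_14_2 lc_c_rc_11_1 lc_c_rc_14_2 lc_c_rc_26_4 lc_c_Cert_tree lc_c_rc_7_5 lc_c_rc_13_2 lc_c_rc_7_5 lc_c_rc_13_2 lc_c_Cert_tree lc_c_Cert_tree lc_c_rc_11_1 lc_c_rc_7_5 lc_c_rc_26_10 lc_c_rc_7_3 lc_c_rc_24_8 lc_c_rc_23_0 lc_c_rc_13_2 lc_c_rc_11_1 lc_c_rc_22_3 lc_c_rc_26_4 lc_c_rc_13_2 lc_c_rc_13_2 lc_c_rc_13_2 lc_c_rc_23_0) (@D3.rec (fun _ => (Cert rels S Gen.c)) lc_c_rc_11_1 lc_c_rc_22_7 lc_c_rc_14_2 lc_c_rc_14_0 lc_c_rc_22_3 lc_c_rc_7_5 lc_c_rc_26_4 lc_c_rc_11_1 lc_c_rc_11_1 lc_c_rc_23_0 lc_c_rc_2_1 lc_c_rc_7_3 lc_c_rc_23_0 lc_c_rc_24_6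 lc_c_rc_26_4 lc_c_rc_7_1 lc_c_rc_24_4 lc_c_rc_23_0 lc_c_rc_11_1 lc_c_rc_14_2 lc_c_rc_7_1 lc_c_rc_14_2 lc_c_rc_7_3 lc_c_rc_22_3 lc_c_rc_13_2 lc_c_rc_7_3 lc_c_rc_11_1 lc_c_rc_12_0 lc_c_rc_13_2 lc_c_Cert_tree lc_c_rc_7_5 lc_c_rc_7_1 lc_c_rc_11_1 lc_c_rc_23_5 lc_c_rc_24_2 lc_c_rc_24_8 lc_c_rc_22_5 lc_c_rc_23_5 lc_c_rc_24_2 lc_c_rc_26_4 lc_c_rc_14_2 lc_c_rc_13_2 lc_c_rc_13_2 lc_c_rc_24_4 lc_c_rc_13_0 lc_c_rc_7_5 lc_c_rc_14_2 lc_c_rc_2_3 lc_c_rc_13_2 lc_c_rc_7_3 lc_c_rc_13_2 lc_c_rc_2_1 lc_c_rc_13_2 lc_c_rc_24_2 lc_c_rc_13_2 lc_c_rc_7_1 lc_c_rc_24_6 lc_c_rc_13_2 lc_c_Cert_tree lc_c_Cert_tree lc_c_rc_26_2 lc_c_rc_11_1) (@D3.rec (fun _ => (Cert rels S Gen.c)) lc_c_rc_22_5 lc_c_rc_7_5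 lc_c_rc_23_0 lc_c_rc_13_2 lc_c_rc_26_2 lc_c_rc_24_2 lc_c_rc_13_2 lc_c_rc_11_1 lc_c_rc_7_5 lc_c_rc_23_0 lc_c_rc_2_1 lc_c_rc_11_1 lc_c_rc_11_1 lc_c_rc_13_2 lc_c_rc_14_2 lc_c_rc_23_5 lc_c_rc_13_2 lc_c_rc_7_1 lc_c_rc_23_5 lc_c_rc_26_4 lc_c_rc_24_2 lc_c_rc_13_2 lc_c_rc_11_1 lc_c_rc_26_10 lc_c_rc_13_2 lc_c_rc_11_1 lc_c_rc_11_1 lc_c_rc_14_2 lc_c_rc_2_3 lc_c_rc_13_2 lc_c_rc_11_1 lc_c_rc_7_5 lc_c_rc_7_3 lc_c_rc_11_1 lc_c_rc_13_2 lc_c_rc_7_5 lc_c_rc_7_5 lc_c_rc_13_2 lc_c_rc_24_4 lc_c_rc_22_3 lc_c_rc_24_8 lc_c_rc_11_1 lc_c_rc_13_2 lc_c_rc_11_1 lc_c_rc_22_3 lc_c_rc_13_2 lc_c_rc_11_1 lc_c_rc_13_2 lc_c_rc_13_2 lc_c_rc_13_2 lc_c_rc_13_2 lc_c_rc_22_5 lc_c_rc_14_2 lc_c_rc_25_17 lc_c_rc_24_2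 lc_c_rc_12_0 lc_c_rc_26_10 lc_c_rc_26_2 lc_c_rc_7_5 lc_c_rc_12_14 lc_c_rc_11_1 lc_c_rc_11_1) (@D3.rec (fun _ => (Cert rels S Gen.c)) lc_c_rc_14_2 lc_c_rc_11_1 lc_c_rc_7_5 lc_c_rc_7_3 lc_c_rc_13_2 lc_c_rc_23_5 lc_c_rc_7_1 lc_c_rc_11_1 lc_c_rc_2_1 lc_c_rc_7_3 lc_c_rc_7_3 lc_c_rc_11_1 lc_c_rc_13_2 lc_c_rc_11_1 lc_c_rc_11_1 lc_c_rc_22_5 lc_c_rc_11_1 lc_c_rc_26_4 lc_c_rc_11_1 lc_c_rc_11_1 lc_c_rc_11_1 lc_c_rc_11_1 lc_c_rc_23_0 lc_c_rc_11_1 lc_c_rc_26_8 lc_c_rc_24_8 lc_c_rc_26_4 lc_c_rc_13_2 lc_c_rc_2_3 lc_c_rc_23_5 lc_c_rc_11_1 lc_c_rc_23_5 lc_c_rc_11_1 lc_c_rc_7_5 lc_c_rc_22_9 lc_c_rc_13_2 lc_c_rc_7_5 lc_c_rc_11_1 lc_c_rc_11_1 lc_c_Cert_tree lc_c_rc_24_6 lc_c_rc_13_0 lc_c_rc_22_3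 lc_c_rc_23_5 lc_c_rc_26_8 lc_c_rc_11_1 lc_c_rc_11_1 lc_c_rc_7_5 lc_c_rc_26_8 lc_c_rc_7_1 lc_c_rc_12_2 lc_c_rc_13_2 lc_c_rc_26_4 lc_c_rc_2_3 lc_c_rc_11_1 lc_c_rc_13_2 lc_c_rc_13_2 lc_c_rc_24_6 lc_c_rc_7_5 lc_c_rc_13_2 lc_c_rc_14_2 lc_c_rc_26_2) (@D3.rec (fun _ => (Cert rels S Gen.c)) lc_c_rc_11_1 lc_c_rc_24_4 lc_c_rc_11_1 lc_c_rc_14_0 lc_c_rc_13_0 lc_c_rc_13_0 lc_c_rc_13_2 lc_c_rc_22_5 lc_c_rc_23_0 lc_c_rc_24_8 lc_c_rc_14_2 lc_c_rc_7_5 lc_c_rc_14_2 lc_c_rc_13_2 lc_c_rc_13_2 lc_c_rc_13_0 lc_c_rc_26_4 lc_c_rc_13_2 lc_c_rc_23_5 lc_c_rc_23_5 lc_c_rc_7_3 lc_c_rc_7_5 lc_c_rc_22_3 lc_c_rc_7_1 lc_c_rc_14_0 lc_c_rc_24_8 lc_c_rc_7_1 lc_c_rc_11_1 lc_c_rc_22_9 lc_c_rc_23_5 lc_c_rc_13_2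 lc_c_rc_13_2 lc_c_rc_12_4 lc_c_rc_11_1 lc_c_rc_26_2 lc_c_rc_24_6 lc_c_rc_22_7 lc_c_rc_14_2 lc_c_rc_26_4 lc_c_rc_2_3 lc_c_rc_14_2 lc_c_rc_13_2 lc_c_Cert_tree lc_c_rc_11_1 lc_c_rc_7_5 lc_c_rc_13_0 lc_c_Cert_tree lc_c_rc_13_2 lc_c_rc_22_5 lc_c_rc_26_4 lc_c_rc_12_14 lc_c_rc_23_5 lc_c_rc_23_0 lc_c_rc_11_1 lc_c_rc_22_9 lc_c_rc_25_5 lc_c_rc_11_1 lc_c_rc_11_1 lc_c_rc_24_6 lc_c_rc_24_6 lc_c_rc_26_2 lc_c_rc_14_2) (@D3.rec (fun _ => (Cert rels S Gen.c)) lc_c_rc_11_1 lc_c_rc_24_4 lc_c_rc_26_4 lc_c_rc_22_7 lc_c_rc_13_2 lc_c_rc_13_2 lc_c_rc_13_2 lc_c_rc_22_7 lc_c_rc_13_2 lc_c_rc_13_2 lc_c_rc_26_10 lc_c_rc_7_5 lc_c_rc_25_17 lc_c_rc_13_0 lc_c_rc_23_0 lc_c_rc_23_0 lc_c_rc_11_1 lc_c_rc_7_3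 lc_c_rc_12_2 lc_c_rc_11_1 lc_c_rc_26_2 lc_c_rc_26_8 lc_c_rc_13_2 lc_c_rc_11_1 lc_c_rc_26_8 lc_c_rc_14_2 lc_c_rc_11_1 lc_c_rc_11_1 lc_c_rc_14_2 lc_c_Cert_tree lc_c_rc_23_5 lc_c_rc_11_1 lc_c_rc_13_2 lc_c_rc_24_2 lc_c_rc_7_3 lc_c_rc_24_8 lc_c_rc_26_4 lc_c_rc_24_6 lc_c_rc_2_3 lc_c_rc_11_1 lc_c_rc_7_3 lc_c_rc_26_4 lc_c_rc_11_1 lc_c_rc_11_1 lc_c_rc_11_1 lc_c_rc_13_0 lc_c_rc_24_8 lc_c_rc_23_0 lc_c_rc_22_3 lc_c_rc_14_0 lc_c_rc_26_4 lc_c_rc_2_3 lc_c_rc_14_2 lc_c_rc_26_4 lc_c_rc_11_1 lc_c_rc_13_0 lc_c_rc_11_1 lc_c_rc_14_2 lc_c_rc_24_4 lc_c_rc_11_1 lc_c_rc_14_2 lc_c_rc_13_2) (@D3.rec (fun _ => (Cert rels S Gen.c)) lc_c_rc_13_2 lc_c_rc_11_1 lc_c_rc_11_1 lc_c_rc_11_1 lc_c_rc_13_0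 lc_c_rc_14_2 lc_c_rc_7_3 lc_c_rc_26_10 lc_c_rc_14_0 lc_c_rc_2_1 lc_c_rc_11_1 lc_c_rc_7_5 lc_c_rc_13_2 lc_c_rc_11_1 lc_c_rc_13_2 lc_c_rc_13_2 lc_c_rc_24_2 lc_c_rc_26_2 lc_c_rc_13_0 lc_c_rc_13_2 lc_c_rc_2_3 lc_c_rc_7_5 lc_c_rc_13_2 lc_c_rc_24_8 lc_c_rc_2_3 lc_c_rc_13_0 lc_c_rc_11_1 lc_c_rc_11_1 lc_c_rc_2_1 lc_c_rc_7_3 lc_c_rc_11_1 lc_c_rc_24_2 lc_c_rc_23_0 lc_c_rc_11_1 lc_c_rc_23_0 lc_c_rc_22_3 lc_c_rc_13_2 lc_c_rc_13_2 lc_c_rc_14_2 lc_c_rc_22_9 lc_c_rc_11_1 lc_c_rc_22_5 lc_c_rc_13_2 lc_c_rc_26_2 lc_c_rc_26_10 lc_c_rc_7_5 lc_c_rc_26_4 lc_c_rc_23_5 lc_c_rc_26_4 lc_c_rc_7_3 lc_c_rc_12_8 lc_c_rc_14_2 lc_c_rc_23_5 lc_c_rc_24_4 lc_c_rc_11_1 lc_c_rc_13_2 lc_c_rc_13_2 lc_c_rc_22_5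 lc_c_rc_14_2 lc_c_rc_13_2 lc_c_rc_2_1 lc_c_rc_11_1) (@D3.rec (fun _ => (Cert rels S Gen.c)) lc_c_rc_13_2 lc_c_rc_13_0 lc_c_rc_7_3 lc_c_rc_2_3 lc_c_rc_7_3 lc_c_rc_14_2 lc_c_Cert_tree lc_c_rc_13_0 lc_c_rc_11_1 lc_c_rc_25_13 lc_c_rc_11_1 lc_c_rc_25_17 lc_c_rc_7_3 lc_c_rc_22_7 lc_c_rc_13_2 lc_c_rc_2_3 lc_c_rc_13_2 lc_c_rc_24_6 lc_c_rc_13_0 lc_c_Cert_tree lc_c_rc_14_2 lc_c_Cert_tree lc_c_rc_22_3 lc_c_rc_13_0 lc_c_rc_11_1 lc_c_rc_11_1 lc_c_rc_13_2 lc_c_rc_2_3 lc_c_rc_26_4 lc_c_rc_26_4 lc_c_rc_23_5 lc_c_rc_11_1 lc_c_rc_11_1 lc_c_rc_13_2 lc_c_rc_11_1 lc_c_rc_11_1 lc_c_rc_24_2 lc_c_rc_23_0 lc_c_rc_26_2 lc_c_rc_23_0 lc_c_rc_14_2 lc_c_rc_11_1 lc_c_rc_23_0 lc_c_rc_11_1 lc_c_rc_14_2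 lc_c_rc_11_1 lc_c_rc_2_3 lc_c_rc_11_1 lc_c_rc_23_5 lc_c_rc_11_1 lc_c_rc_24_2 lc_c_rc_11_1 lc_c_rc_7_3 lc_c_rc_22_9 lc_c_rc_7_1 lc_c_rc_14_2 lc_c_rc_24_2 lc_c_rc_26_4 lc_c_rc_7_1 lc_c_rc_13_2 lc_c_rc_13_0 lc_c_rc_11_1) (@D3.rec (fun _ => (Cert rels S Gen.c)) lc_c_rc_2_3 lc_c_rc_22_7 lc_c_rc_14_0 lc_c_rc_11_1 lc_c_Cert_tree lc_c_rc_11_1 lc_c_rc_7_3 lc_c_rc_23_5 lc_c_rc_11_1 lc_c_rc_26_4 lc_c_rc_13_2 lc_c_rc_12_2 lc_c_rc_13_2 lc_c_rc_11_1 lc_c_rc_11_1 lc_c_rc_7_3 lc_c_rc_26_8 lc_c_rc_26_2 lc_c_rc_14_2 lc_c_rc_13_2 lc_c_rc_24_4 lc_c_rc_23_0 lc_c_rc_11_1 lc_c_rc_11_1 lc_c_rc_13_0 lc_c_rc_11_1 lc_c_rc_26_8 lc_c_rc_23_0 lc_c_rc_25_1 lc_c_rc_11_1 lc_c_rc_24_4 lc_c_rc_2_3 lc_c_rc_11_1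 lc_c_rc_26_4 lc_c_rc_13_2 lc_c_rc_11_1 lc_c_rc_25_13 lc_c_Cert_tree lc_c_rc_13_2 lc_c_rc_11_1 lc_c_rc_14_0 lc_c_rc_11_1 lc_c_rc_13_2 lc_c_rc_26_2 lc_c_rc_2_3 lc_c_rc_26_10 lc_c_rc_7_5 lc_c_rc_13_0 lc_c_rc_13_0 lc_c_rc_13_2 lc_c_rc_26_2 lc_c_rc_11_1 lc_c_rc_22_3 lc_c_rc_11_1 lc_c_rc_7_5 lc_c_rc_11_1 lc_c_rc_2_1 lc_c_rc_7_1 lc_c_rc_13_2 lc_c_rc_13_0 lc_c_rc_13_2 lc_c_rc_11_1)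
def ce_c_28 : D2 → D3 → (Cert rels S Gen.c) := @D2.rec (fun _ => D3 → (Cert rels S Gen.c)) (@D3.rec (fun _ => (Cert rels S Gen.c)) lc_c_rc_26_10 lc_c_rc_26_4 lc_c_rc_13_2 lc_c_rc_13_2 lc_c_rc_13_2 lc_c_rc_26_4 lc_c_rc_12_0 lc_c_rc_23_5 lc_c_rc_25_1 lc_c_rc_23_5 lc_c_rc_11_1 lc_c_rc_14_2 lc_c_rc_2_3 lc_c_rc_2_3 lc_c_rc_13_2 lc_c_rc_7_5 lc_c_rc_13_2 lc_c_rc_11_1 lc_c_rc_14_2 lc_c_rc_11_1 lc_c_rc_13_2 lc_c_rc_7_1 lc_c_rc_24_4 lc_c_rc_24_2 lc_c_rc_13_2 lc_c_rc_26_2 lc_c_rc_13_2 lc_c_rc_13_2 lc_c_rc_24_4 lc_c_rc_26_8 lc_c_rc_23_0 lc_c_rc_14_2 lc_c_rc_7_3 lc_c_rc_11_1 lc_c_rc_26_2 lc_c_rc_14_2 lc_c_rc_11_1 lc_c_rc_2_1 lc_c_rc_11_1 lc_c_rc_14_2 lc_c_rc_2_3 lc_c_rc_7_1 lc_c_rc_24_8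 lc_c_rc_7_3 lc_c_rc_7_1 lc_c_rc_26_2 lc_c_rc_11_1 lc_c_rc_13_2 lc_c_rc_2_3 lc_c_rc_13_2 lc_c_rc_22_3 lc_c_rc_22_9 lc_c_rc_14_2 lc_c_rc_24_8 lc_c_rc_26_2 lc_c_rc_13_2 lc_c_rc_24_6 lc_c_rc_11_1 lc_c_rc_2_3 lc_c_rc_13_2 lc_c_rc_14_2 lc_c_rc_11_1) (@D3.rec (fun _ => (Cert rels S Gen.c)) lc_c_rc_13_2 lc_c_rc_11_1 lc_c_rc_24_2 lc_c_rc_11_1 lc_c_rc_14_2 lc_c_rc_7_3 lc_c_rc_24_4 lc_c_rc_7_1 lc_c_rc_24_6 lc_c_rc_24_8 lc_c_rc_26_2 lc_c_rc_24_2 lc_c_rc_13_2 lc_c_rc_13_2 lc_c_rc_11_1 lc_c_rc_26_4 lc_c_rc_11_1 lc_c_rc_23_0 lc_c_rc_7_1 lc_c_rc_13_2 lc_c_rc_11_1 lc_c_rc_11_1 lc_c_Cert_tree lc_c_rc_22_3 lc_c_rc_11_1 lc_c_rc_22_7 lc_c_rc_13_2 lc_c_rc_11_1 lc_c_rc_26_8 lc_c_rc_11_1 lc_c_rc_25_5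 lc_c_rc_2_3 lc_c_rc_14_2 lc_c_rc_7_3 lc_c_rc_11_1 lc_c_rc_13_2 lc_c_rc_11_1 lc_c_rc_23_5 lc_c_rc_13_0 lc_c_rc_23_0 lc_c_rc_13_0 lc_c_rc_26_10 lc_c_rc_13_2 lc_c_rc_26_4 lc_c_rc_11_1 lc_c_rc_13_2 lc_c_rc_11_1 lc_c_rc_24_4 lc_c_rc_22_3 lc_c_rc_12_2 lc_c_rc_13_2 lc_c_rc_14_2 lc_c_rc_13_2 lc_c_rc_13_2 lc_c_rc_13_0 lc_c_rc_11_1 lc_c_rc_14_2 lc_c_rc_11_1 lc_c_rc_26_10 lc_c_rc_14_2 lc_c_rc_7_3 lc_c_rc_26_2) (@D3.rec (fun _ => (Cert rels S Gen.c)) lc_c_rc_13_2 lc_c_rc_7_5 lc_c_rc_13_2 lc_c_rc_11_1 lc_c_rc_2_1 lc_c_rc_11_1 lc_c_rc_11_1 lc_c_rc_26_4 lc_c_rc_11_1 lc_c_rc_13_2 lc_c_rc_13_2 lc_c_rc_11_1 lc_c_rc_11_1 lc_c_rc_11_1 lc_c_rc_25_1 lc_c_rc_13_2 lc_c_rc_24_4 lc_c_Cert_tree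 lc_c_rc_13_0 lc_c_rc_11_1 lc_c_rc_7_3 lc_c_rc_26_4 lc_c_rc_26_4 lc_c_rc_26_10 lc_c_rc_2_3 lc_c_rc_2_3 lc_c_rc_13_2 lc_c_rc_11_1 lc_c_rc_24_2 lc_c_rc_23_5 lc_c_rc_13_0 lc_c_rc_26_8 lc_c_rc_11_1 lc_c_rc_22_5 lc_c_rc_22_7 lc_c_rc_24_2 lc_c_rc_7_3 lc_c_rc_26_4 lc_c_rc_11_1 lc_c_rc_13_2 lc_c_rc_11_1 lc_c_rc_2_3 lc_c_rc_11_1 lc_c_rc_7_5 lc_c_rc_24_4 lc_c_rc_14_2 lc_c_rc_22_3 lc_c_rc_11_1 lc_c_rc_11_1 lc_c_rc_22_3 lc_c_rc_13_2 lc_c_rc_11_1 lc_c_rc_13_2 lc_c_rc_11_1 lc_c_rc_2_3 lc_c_rc_13_0 lc_c_rc_11_1 lc_c_rc_11_1 lc_c_rc_13_2 lc_c_rc_24_6 lc_c_rc_7_5 lc_c_rc_7_3) (@D3.rec (fun _ => (Cert rels S Gen.c)) lc_c_rc_26_2 lc_c_rc_7_1 lc_c_rc_7_5 lc_c_rc_13_0 lc_c_rc_2_3 lc_c_rc_7_5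 lc_c_rc_11_1 lc_c_rc_11_1 lc_c_rc_7_5 lc_c_rc_2_1 lc_c_rc_11_1 lc_c_rc_11_1 lc_c_rc_22_5 lc_c_Cert_tree lc_c_Cert_tree lc_c_rc_11_1 lc_c_rc_11_1 lc_c_rc_11_1 lc_c_rc_24_8 lc_c_rc_26_2 lc_c_rc_22_5 lc_c_rc_14_2 lc_c_rc_26_2 lc_c_Cert_tree lc_c_rc_11_1 lc_c_rc_26_4 lc_c_rc_11_1 lc_c_rc_11_1 lc_c_rc_11_1 lc_c_rc_11_1 lc_c_rc_2_1 lc_c_rc_24_2 lc_c_rc_2_3 lc_c_rc_13_2 lc_c_rc_11_1 lc_c_rc_11_1 lc_c_rc_11_1 lc_c_rc_14_2 lc_c_rc_11_1 lc_c_rc_22_7 lc_c_rc_24_4 lc_c_rc_7_1 lc_c_rc_26_4 lc_c_rc_23_0 lc_c_rc_23_0 lc_c_rc_22_3 lc_c_rc_26_10 lc_c_rc_13_2 lc_c_rc_24_4 lc_c_rc_22_5 lc_c_rc_24_6 lc_c_rc_13_2 lc_c_rc_22_5 lc_c_rc_24_6 lc_c_rc_14_2 lc_c_rc_7_5 lc_c_rc_14_2 lc_c_rc_11_1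 lc_c_rc_14_2 lc_c_rc_11_1 lc_c_rc_26_4 lc_c_rc_13_0) (@D3.rec (fun _ => (Cert rels S Gen.c)) lc_c_rc_13_2 lc_c_rc_13_0 lc_c_rc_2_3 lc_c_rc_24_6 lc_c_rc_11_1 lc_c_rc_13_2 lc_c_rc_12_14 lc_c_rc_26_10 lc_c_rc_11_1 lc_c_rc_7_5 lc_c_rc_11_1 lc_c_rc_11_1 lc_c_rc_22_3 lc_c_rc_22_5 lc_c_rc_14_2 lc_c_rc_22_3 lc_c_rc_23_5 lc_c_rc_13_0 lc_c_rc_11_1 lc_c_rc_26_4 lc_c_rc_7_5 lc_c_rc_11_1 lc_c_rc_7_3 lc_c_rc_11_1 lc_c_rc_11_1 lc_c_rc_11_1 lc_c_rc_26_4 lc_c_rc_24_8 lc_c_rc_11_1 lc_c_rc_11_1 lc_c_rc_11_1 lc_c_rc_13_2 lc_c_rc_13_2 lc_c_rc_26_8 lc_c_rc_7_1 lc_c_rc_24_2 lc_c_rc_11_1 lc_c_rc_24_2 lc_c_Cert_tree lc_c_rc_14_2 lc_c_rc_11_1 lc_c_rc_7_3 lc_c_rc_13_2 lc_c_rc_24_6 lc_c_rc_7_5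 lc_c_rc_26_10 lc_c_rc_23_0 lc_c_rc_11_1 lc_c_rc_13_2 lc_c_rc_26_10 lc_c_rc_13_0 lc_c_rc_13_2 lc_c_rc_14_2 lc_c_rc_11_1 lc_c_rc_7_3 lc_c_rc_11_1 lc_c_rc_2_3 lc_c_rc_13_2 lc_c_rc_22_5 lc_c_rc_26_2 lc_c_rc_7_5 lc_c_rc_13_2) (@D3.rec (fun _ => (Cert rels S Gen.c)) lc_c_rc_14_2 lc_c_rc_7_3 lc_c_rc_24_6 lc_c_rc_7_1 lc_c_rc_11_1 lc_c_rc_7_3 lc_c_rc_24_2 lc_c_rc_23_0 lc_c_rc_11_1 lc_c_rc_11_1 lc_c_rc_2_3 lc_c_rc_26_4 lc_c_rc_11_1 lc_c_rc_23_0 lc_c_rc_13_2 lc_c_rc_11_1 lc_c_rc_24_8 lc_c_rc_14_2 lc_c_rc_14_0 lc_c_rc_11_1 lc_c_rc_24_6 lc_c_rc_7_5 lc_c_rc_24_2 lc_c_rc_11_1 lc_c_rc_22_5 lc_c_rc_26_2 lc_c_rc_13_2 lc_c_rc_26_10 lc_c_rc_12_2 lc_c_rc_7_3 lc_c_rc_26_4 lc_c_rc_13_2 lc_c_rc_7_5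 lc_c_rc_11_1 lc_c_rc_11_1 lc_c_rc_7_5 lc_c_rc_14_2 lc_c_rc_13_2 lc_c_rc_24_2 lc_c_rc_14_2 lc_c_rc_14_0 lc_c_rc_7_5 lc_c_rc_7_5 lc_c_rc_13_2 lc_c_rc_13_2 lc_c_rc_7_5 lc_c_rc_11_1 lc_c_rc_7_3 lc_c_rc_13_0 lc_c_rc_24_6 lc_c_rc_26_4 lc_c_rc_14_2 lc_c_rc_13_2 lc_c_rc_26_4 lc_c_rc_26_4 lc_c_rc_26_4 lc_c_rc_11_1 lc_c_rc_26_4 lc_c_rc_13_2 lc_c_rc_7_3 lc_c_rc_11_1 lc_c_rc_13_2) (@D3.rec (fun _ => (Cert rels S Gen.c)) lc_c_rc_26_10 lc_c_rc_7_3 lc_c_rc_26_10 lc_c_rc_26_2 lc_c_rc_22_9 lc_c_rc_11_1 lc_c_rc_11_1 lc_c_rc_13_2 lc_c_rc_26_4 lc_c_rc_11_1 lc_c_rc_11_1 lc_c_rc_13_2 lc_c_rc_24_6 lc_c_rc_11_1 lc_c_rc_25_9 lc_c_rc_24_8 lc_c_rc_2_3 lc_c_rc_22_9 lc_c_rc_26_8 lc_c_rc_2_3 lc_c_rc_22_5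 lc_c_rc_13_2 lc_c_rc_22_3 lc_c_rc_24_6 lc_c_rc_24_8 lc_c_rc_13_2 lc_c_rc_13_2 lc_c_rc_7_1 lc_c_rc_13_0 lc_c_rc_11_1 lc_c_rc_7_1 lc_c_rc_11_1 lc_c_rc_11_1 lc_c_rc_22_9 lc_c_rc_11_1 lc_c_rc_14_2 lc_c_rc_11_1 lc_c_rc_23_5 lc_c_rc_26_4 lc_c_rc_13_0 lc_c_rc_7_3 lc_c_rc_25_17 lc_c_rc_13_2 lc_c_rc_13_2 lc_c_rc_13_2 lc_c_rc_26_8 lc_c_rc_26_4 lc_c_rc_7_1 lc_c_rc_24_2 lc_c_rc_26_10 lc_c_rc_24_2 lc_c_rc_11_1 lc_c_rc_26_8 lc_c_rc_22_5 lc_c_rc_13_2 lc_c_rc_24_4 lc_c_rc_11_1 lc_c_rc_14_2 lc_c_rc_23_5 lc_c_rc_26_2 lc_c_rc_13_2 lc_c_rc_7_5) (@D3.rec (fun _ => (Cert rels S Gen.c)) lc_c_rc_24_2 lc_c_rc_22_3 lc_c_rc_22_3 lc_c_rc_11_1 lc_c_rc_2_3 lc_c_rc_11_1 lc_c_rc_13_2 lc_c_rc_13_2 lc_c_rc_24_4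 lc_c_rc_11_1 lc_c_rc_23_0 lc_c_rc_11_1 lc_c_rc_22_9 lc_c_rc_7_3 lc_c_rc_11_1 lc_c_rc_11_1 lc_c_rc_13_2 lc_c_rc_7_3 lc_c_Cert_tree lc_c_rc_13_2 lc_c_rc_26_4 lc_c_rc_26_2 lc_c_rc_2_3 lc_c_rc_11_1 lc_c_rc_11_1 lc_c_rc_22_5 lc_c_rc_13_2 lc_c_rc_11_1 lc_c_rc_22_5 lc_c_rc_14_2 lc_c_rc_13_2 lc_c_rc_24_2 lc_c_rc_13_2 lc_c_rc_13_0 lc_c_rc_7_5 lc_c_rc_7_5 lc_c_rc_26_4 lc_c_rc_26_4 lc_c_rc_23_5 lc_c_rc_11_1 lc_c_rc_22_9 lc_c_rc_13_2 lc_c_rc_23_5 lc_c_rc_26_2 lc_c_rc_13_2 lc_c_rc_23_5 lc_c_rc_22_3 lc_c_rc_26_2 lc_c_rc_13_2 lc_c_rc_11_1 lc_c_rc_11_1 lc_c_rc_7_3 lc_c_rc_11_1 lc_c_rc_22_9 lc_c_rc_24_6 lc_c_rc_24_4 lc_c_rc_11_1 lc_c_rc_11_1 lc_c_rc_13_0 lc_c_rc_11_1 lc_c_Cert_tree lc_c_rc_14_2)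 (@D3.rec (fun _ => (Cert rels S Gen.c)) lc_c_rc_2_3 lc_c_rc_22_3 lc_c_rc_26_4 lc_c_rc_11_1 lc_c_rc_11_1 lc_c_rc_11_1 lc_c_rc_13_2 lc_c_rc_7_5 lc_c_rc_2_3 lc_c_rc_11_1 lc_c_rc_7_1 lc_c_rc_11_1 lc_c_rc_26_10 lc_c_rc_24_2 lc_c_rc_23_0 lc_c_rc_11_1 lc_c_rc_22_3 lc_c_rc_11_1 lc_c_rc_24_2 lc_c_rc_11_1 lc_c_rc_23_0 lc_c_rc_24_8 lc_c_rc_11_1 lc_c_rc_7_5 lc_c_rc_13_2 lc_c_rc_13_2 lc_c_rc_11_1 lc_c_rc_22_3 lc_c_rc_26_8 lc_c_rc_13_2 lc_c_rc_23_0 lc_c_rc_13_0 lc_c_rc_14_2 lc_c_rc_13_2 lc_c_rc_7_3 lc_c_rc_2_3 lc_c_rc_26_10 lc_c_rc_26_4 lc_c_rc_11_1 lc_c_rc_11_1 lc_c_rc_25_5 lc_c_rc_7_5 lc_c_rc_11_1 lc_c_rc_14_2 lc_c_rc_26_4 lc_c_rc_11_1 lc_c_rc_22_3 lc_c_rc_12_0 lc_c_rc_11_1 lc_c_rc_2_1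 lc_c_rc_26_2 lc_c_rc_14_0 lc_c_rc_23_5 lc_c_rc_7_3 lc_c_rc_24_4 lc_c_rc_23_0 lc_c_rc_11_1 lc_c_rc_11_1 lc_c_rc_7_5 lc_c_rc_26_10 lc_c_rc_2_1 lc_c_rc_23_5) (@D3.rec (fun _ => (Cert rels S Gen.c)) lc_c_rc_11_1 lc_c_rc_12_0 lc_c_rc_13_2 lc_c_rc_26_4 lc_c_rc_11_1 lc_c_rc_11_1 lc_c_rc_11_1 lc_c_rc_2_3 lc_c_rc_13_2 lc_c_rc_2_3 lc_c_rc_11_1 lc_c_rc_12_4 lc_c_rc_23_5 lc_c_rc_11_1 lc_c_rc_11_1 lc_c_rc_7_5 lc_c_rc_11_1 lc_c_rc_22_9 lc_c_rc_13_0 lc_c_rc_7_3 lc_c_rc_26_8 lc_c_rc_2_3 lc_c_rc_11_1 lc_c_Cert_tree lc_c_rc_22_3 lc_c_rc_11_1 lc_c_rc_13_2 lc_c_rc_26_10 lc_c_rc_26_4 lc_c_rc_13_2 lc_c_rc_12_0 lc_c_rc_22_5 lc_c_rc_26_10 lc_c_Cert_tree lc_c_rc_24_6 lc_c_rc_22_5 lc_c_rc_26_4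 lc_c_rc_14_0 lc_c_rc_13_2 lc_c_rc_13_2 lc_c_rc_11_1 lc_c_rc_11_1 lc_c_rc_13_0 lc_c_rc_25_5 lc_c_rc_2_3 lc_c_rc_13_2 lc_c_rc_26_8 lc_c_rc_25_5 lc_c_rc_22_5 lc_c_rc_11_1 lc_c_rc_7_5 lc_c_rc_11_1 lc_c_rc_13_2 lc_c_rc_26_8 lc_c_rc_26_4 lc_c_rc_7_1 lc_c_rc_13_2 lc_c_rc_26_8 lc_c_rc_11_1 lc_c_rc_2_3 lc_c_rc_12_2 lc_c_rc_11_1) (@D3.rec (fun _ => (Cert rels S Gen.c)) lc_c_rc_11_1 lc_c_rc_24_4 lc_c_rc_11_1 lc_c_rc_7_3 lc_c_rc_11_1 lc_c_rc_11_1 lc_c_rc_11_1 lc_c_rc_24_6 lc_c_rc_14_0 lc_c_rc_7_5 lc_c_rc_26_4 lc_c_rc_13_2 lc_c_rc_13_2 lc_c_rc_11_1 lc_c_rc_11_1 lc_c_rc_2_3 lc_c_rc_26_4 lc_c_rc_23_0 lc_c_rc_7_3 lc_c_rc_13_0 lc_c_rc_11_1 lc_c_rc_11_1 lc_c_rc_7_5 lc_c_rc_13_2 lc_c_rc_22_9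 lc_c_rc_13_2 lc_c_rc_26_10 lc_c_rc_24_2 lc_c_rc_26_2 lc_c_rc_13_2 lc_c_rc_14_2 lc_c_rc_11_1 lc_c_rc_13_0 lc_c_rc_22_5 lc_c_rc_7_5 lc_c_rc_11_1 lc_c_rc_13_2 lc_c_rc_24_2 lc_c_rc_23_5 lc_c_rc_11_1 lc_c_rc_25_5 lc_c_rc_14_2 lc_c_rc_12_0 lc_c_rc_23_5 lc_c_rc_14_2 lc_c_rc_22_3 lc_c_rc_7_5 lc_c_rc_11_1 lc_c_rc_26_8 lc_c_rc_23_5 lc_c_rc_23_5 lc_c_rc_23_5 lc_c_rc_2_3 lc_c_rc_11_1 lc_c_rc_11_1 lc_c_rc_13_0 lc_c_rc_22_7 lc_c_rc_14_2 lc_c_rc_7_5 lc_c_rc_11_1 lc_c_rc_23_0 lc_c_rc_25_1) (@D3.rec (fun _ => (Cert rels S Gen.c)) lc_c_rc_13_0 lc_c_rc_11_1 lc_c_rc_13_0 lc_c_rc_25_1 lc_c_rc_26_10 lc_c_rc_13_2 lc_c_rc_24_2 lc_c_rc_26_10 lc_c_rc_13_2 lc_c_rc_13_0 lc_c_rc_11_1 lc_c_rc_11_1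 lc_c_rc_24_8 lc_c_rc_7_3 lc_c_rc_24_4 lc_c_rc_11_1 lc_c_rc_26_2 lc_c_Cert_tree lc_c_rc_13_2 lc_c_rc_14_0 lc_c_rc_26_2 lc_c_rc_23_5 lc_c_rc_11_1 lc_c_rc_11_1 lc_c_rc_7_5 lc_c_rc_26_4 lc_c_rc_23_5 lc_c_rc_11_1 lc_c_rc_13_2 lc_c_rc_14_2 lc_c_rc_23_0 lc_c_rc_11_1 lc_c_rc_12_2 lc_c_rc_13_2 lc_c_rc_11_1 lc_c_rc_13_2 lc_c_rc_2_3 lc_c_rc_14_0 lc_c_rc_26_8 lc_c_rc_11_1 lc_c_rc_14_0 lc_c_rc_13_2 lc_c_rc_13_2 lc_c_rc_2_3 lc_c_rc_7_3 lc_c_rc_7_3 lc_c_rc_14_2 lc_c_rc_13_2 lc_c_rc_11_1 lc_c_rc_13_0 lc_c_rc_11_1 lc_c_rc_23_0 lc_c_rc_2_3 lc_c_rc_13_0 lc_c_rc_11_1 lc_c_rc_14_2 lc_c_rc_11_1 lc_c_rc_14_2 lc_c_Cert_tree lc_c_rc_11_1 lc_c_rc_24_6 lc_c_rc_14_2) (@D3.rec (fun _ => (Cert rels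 S Gen.c)) lc_c_rc_14_2 lc_c_Cert_tree lc_c_rc_26_2 lc_c_rc_22_3 lc_c_rc_13_2 lc_c_rc_7_5 lc_c_rc_22_3 lc_c_rc_23_0 lc_c_rc_24_2 lc_c_rc_26_4 lc_c_rc_13_2 lc_c_rc_22_5 lc_c_rc_25_1 lc_c_rc_13_2 lc_c_rc_13_2 lc_c_rc_22_9 lc_c_rc_23_5 lc_c_rc_11_1 lc_c_rc_13_2 lc_c_rc_24_8 lc_c_rc_13_2 lc_c_rc_22_7 lc_c_rc_11_1 lc_c_rc_23_5 lc_c_rc_26_4 lc_c_rc_24_4 lc_c_rc_26_4 lc_c_rc_23_0 lc_c_rc_2_3 lc_c_rc_23_5 lc_c_rc_13_2 lc_c_rc_24_8 lc_c_rc_24_6 lc_c_rc_7_5 lc_c_rc_11_1 lc_c_rc_23_5 lc_c_rc_25_17 lc_c_rc_24_6 lc_c_rc_14_0 lc_c_rc_26_10 lc_c_rc_26_2 lc_c_rc_13_2 lc_c_rc_26_10 lc_c_rc_14_0 lc_c_rc_14_2 lc_c_rc_7_3 lc_c_rc_11_1 lc_c_rc_13_2 lc_c_rc_13_2 lc_c_rc_24_6 lc_c_rc_13_2 lc_c_rc_13_2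 lc_c_rc_14_2 lc_c_rc_11_1 lc_c_rc_23_0 lc_c_rc_13_2 lc_c_rc_25_1 lc_c_rc_23_5 lc_c_rc_24_8 lc_c_rc_11_1 lc_c_rc_2_3 lc_c_rc_26_4) (@D3.rec (fun _ => (Cert rels S Gen.c)) lc_c_rc_11_1 lc_c_rc_7_1 lc_c_rc_14_0 lc_c_rc_13_2 lc_c_rc_11_1 lc_c_rc_7_3 lc_c_rc_14_2 lc_c_rc_13_2 lc_c_rc_13_0 lc_c_rc_7_5 lc_c_rc_14_2 lc_c_rc_7_1 lc_c_rc_11_1 lc_c_rc_7_1 lc_c_rc_7_3 lc_c_rc_14_2 lc_c_rc_13_2 lc_c_rc_13_2 lc_c_rc_24_4 lc_c_rc_13_0 lc_c_rc_24_4 lc_c_rc_14_2 lc_c_rc_13_2 lc_c_rc_23_5 lc_c_rc_13_2 lc_c_rc_24_2 lc_c_rc_13_0 lc_c_rc_11_1 lc_c_rc_25_5 lc_c_rc_24_2 lc_c_rc_13_2 lc_c_rc_13_2 lc_c_rc_13_2 lc_c_rc_11_1 lc_c_rc_2_3 lc_c_rc_14_2 lc_c_rc_23_5 lc_c_rc_23_5 lc_c_rc_2_3 lc_c_Cert_tree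 lc_c_rc_7_1 lc_c_rc_13_2 lc_c_rc_26_2 lc_c_rc_11_1 lc_c_rc_2_3 lc_c_rc_26_2 lc_c_rc_13_2 lc_c_rc_11_1 lc_c_rc_2_1 lc_c_rc_13_2 lc_c_rc_23_0 lc_c_rc_22_5 lc_c_rc_24_6 lc_c_rc_11_1 lc_c_rc_11_1 lc_c_rc_26_10 lc_c_rc_26_8 lc_c_Cert_tree lc_c_rc_13_2 lc_c_rc_24_4 lc_c_rc_26_4 lc_c_rc_7_3) (@D3.rec (fun _ => (Cert rels S Gen.c)) lc_c_rc_24_8 lc_c_rc_24_8 lc_c_rc_24_2 lc_c_rc_13_2 lc_c_rc_11_1 lc_c_rc_22_3 lc_c_rc_22_3 lc_c_rc_13_2 lc_c_rc_11_1 lc_c_rc_23_5 lc_c_rc_13_0 lc_c_rc_11_1 lc_c_rc_11_1 lc_c_rc_7_3 lc_c_rc_26_10 lc_c_rc_25_1 lc_c_Cert_tree lc_c_rc_22_3 lc_c_rc_25_5 lc_c_rc_11_1 lc_c_rc_25_9 lc_c_rc_13_2 lc_c_rc_11_1 lc_c_rc_11_1 lc_c_rc_13_2 lc_c_rc_13_0 lc_c_rc_2_3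 lc_c_rc_25_9 lc_c_rc_13_2 lc_c_rc_11_1 lc_c_rc_2_1 lc_c_rc_22_5 lc_c_rc_23_5 lc_c_rc_11_1 lc_c_rc_11_1 lc_c_rc_13_2 lc_c_rc_7_3 lc_c_rc_2_3 lc_c_rc_11_1 lc_c_rc_11_1 lc_c_rc_7_3 lc_c_rc_26_4 lc_c_rc_13_0 lc_c_rc_23_0 lc_c_Cert_tree lc_c_rc_11_1 lc_c_rc_24_2 lc_c_rc_11_1 lc_c_rc_22_5 lc_c_rc_7_3 lc_c_rc_13_2 lc_c_rc_24_6 lc_c_rc_7_3 lc_c_rc_24_4 lc_c_rc_14_2 lc_c_rc_11_1 lc_c_rc_26_4 lc_c_rc_14_2 lc_c_rc_13_2 lc_c_rc_26_4 lc_c_rc_2_3 lc_c_rc_14_2) (@D3.rec (fun _ => (Cert rels S Gen.c)) lc_c_rc_13_0 lc_c_rc_2_1 lc_c_rc_22_7 lc_c_rc_13_2 lc_c_rc_13_2 lc_c_rc_24_2 lc_c_rc_11_1 lc_c_rc_26_4 lc_c_rc_24_6 lc_c_rc_7_5 lc_c_rc_13_0 lc_c_rc_11_1 lc_c_rc_23_5 lc_c_rc_11_1 lc_c_rc_11_1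 lc_c_rc_7_1 lc_c_rc_11_1 lc_c_rc_23_5 lc_c_rc_2_3 lc_c_rc_13_2 lc_c_rc_23_5 lc_c_rc_11_1 lc_c_rc_12_2 lc_c_rc_13_2 lc_c_rc_24_4 lc_c_rc_26_8 lc_c_rc_13_2 lc_c_rc_26_8 lc_c_rc_7_1 lc_c_rc_2_3 lc_c_rc_11_1 lc_c_rc_24_4 lc_c_rc_26_8 lc_c_rc_2_1 lc_c_rc_13_2 lc_c_rc_2_3 lc_c_rc_2_3 lc_c_rc_11_1 lc_c_rc_26_4 lc_c_rc_26_10 lc_c_rc_11_1 lc_c_rc_11_1 lc_c_rc_7_3 lc_c_rc_13_2 lc_c_rc_2_1 lc_c_rc_7_1 lc_c_rc_13_0 lc_c_rc_13_0 lc_c_rc_24_8 lc_c_rc_24_2 lc_c_rc_11_1 lc_c_rc_23_0 lc_c_rc_26_4 lc_c_rc_11_1 lc_c_rc_11_1 lc_c_rc_11_1 lc_c_rc_13_2 lc_c_rc_7_5 lc_c_rc_23_0 lc_c_rc_7_5 lc_c_rc_11_1 lc_c_rc_13_2) (@D3.rec (fun _ => (Cert rels S Gen.c)) lc_c_rc_26_8 lc_c_rc_7_3 lc_c_rc_24_8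 lc_c_rc_13_2 lc_c_rc_13_2 lc_c_rc_2_1 lc_c_rc_11_1 lc_c_rc_13_2 lc_c_rc_13_2 lc_c_rc_13_2 lc_c_rc_26_8 lc_c_rc_11_1 lc_c_Cert_tree lc_c_rc_24_8 lc_c_rc_11_1 lc_c_rc_13_2 lc_c_rc_22_3 lc_c_rc_14_2 lc_c_rc_11_1 lc_c_rc_13_0 lc_c_rc_13_0 lc_c_rc_13_2 lc_c_rc_26_10 lc_c_rc_11_1 lc_c_rc_14_2 lc_c_rc_11_1 lc_c_rc_23_5 lc_c_rc_7_5 lc_c_rc_11_1 lc_c_rc_7_3 lc_c_rc_23_0 lc_c_rc_12_2 lc_c_rc_7_3 lc_c_rc_13_0 lc_c_rc_11_1 lc_c_rc_11_1 lc_c_rc_7_3 lc_c_rc_11_1 lc_c_rc_13_2 lc_c_rc_11_1 lc_c_rc_14_2 lc_c_rc_2_3 lc_c_rc_11_1 lc_c_rc_13_0 lc_c_rc_11_1 lc_c_rc_14_2 lc_c_rc_13_0 lc_c_rc_11_1 lc_c_rc_11_1 lc_c_rc_22_7 lc_c_rc_13_2 lc_c_rc_23_0 lc_c_rc_11_1 lc_c_rc_13_2 lc_c_rc_11_1 lc_c_rc_13_0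 lc_c_rc_14_2 lc_c_rc_7_5 lc_c_rc_24_4 lc_c_rc_2_1 lc_c_rc_26_2 lc_c_rc_13_2) (@D3.rec (fun _ => (Cert rels S Gen.c)) lc_c_rc_13_0 lc_c_rc_2_3 lc_c_rc_13_0 lc_c_rc_7_5 lc_c_rc_7_1 lc_c_rc_26_4 lc_c_rc_11_1 lc_c_rc_25_9 lc_c_rc_23_5 lc_c_rc_7_5 lc_c_rc_11_1 lc_c_rc_26_2 lc_c_rc_14_2 lc_c_rc_26_8 lc_c_rc_11_1 lc_c_rc_23_5 lc_c_rc_11_1 lc_c_rc_14_2 lc_c_rc_26_4 lc_c_rc_22_5 lc_c_rc_13_0 lc_c_rc_11_1 lc_c_rc_25_13 lc_c_rc_2_3 lc_c_rc_11_1 lc_c_rc_11_1 lc_c_rc_14_2 lc_c_rc_13_0 lc_c_Cert_tree lc_c_rc_22_5 lc_c_rc_13_2 lc_c_rc_25_17 lc_c_rc_24_8 lc_c_rc_26_8 lc_c_rc_14_0 lc_c_rc_14_2 lc_c_rc_13_2 lc_c_rc_13_0 lc_c_rc_13_2 lc_c_rc_24_4 lc_c_rc_25_5 lc_c_rc_13_2 lc_c_rc_24_6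 lc_c_rc_11_1 lc_c_rc_11_1 lc_c_rc_11_1 lc_c_rc_22_5 lc_c_rc_24_2 lc_c_rc_22_9 lc_c_rc_14_2 lc_c_rc_11_1 lc_c_rc_13_2 lc_c_rc_25_13 lc_c_rc_13_0 lc_c_rc_26_4 lc_c_rc_13_2 lc_c_rc_13_0 lc_c_rc_26_10 lc_c_rc_14_2 lc_c_rc_11_1 lc_c_rc_23_0 lc_c_rc_11_1) (@D3.rec (fun _ => (Cert rels S Gen.c)) lc_c_rc_26_10 lc_c_rc_13_2 lc_c_rc_26_10 lc_c_rc_11_1 lc_c_rc_14_2 lc_c_rc_22_9 lc_c_rc_11_1 lc_c_rc_24_4 lc_c_rc_26_4 lc_c_rc_23_5 lc_c_rc_24_6 lc_c_rc_11_1 lc_c_rc_11_1 lc_c_rc_23_0 lc_c_rc_11_1 lc_c_rc_22_7 lc_c_rc_7_3 lc_c_rc_13_2 lc_c_rc_14_2 lc_c_rc_11_1 lc_c_rc_11_1 lc_c_rc_11_1 lc_c_rc_22_3 lc_c_rc_11_1 lc_c_rc_11_1 lc_c_rc_13_2 lc_c_rc_11_1 lc_c_rc_26_4 lc_c_rc_11_1 lc_c_rc_11_1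 lc_c_rc_11_1 lc_c_rc_7_1 lc_c_rc_22_7 lc_c_Cert_tree lc_c_rc_11_1 lc_c_rc_24_8 lc_c_rc_26_2 lc_c_rc_11_1 lc_c_rc_24_4 lc_c_rc_7_3 lc_c_rc_24_8 lc_c_rc_11_1 lc_c_rc_22_3 lc_c_rc_26_10 lc_c_rc_11_1 lc_c_rc_11_1 lc_c_rc_26_4 lc_c_rc_7_3 lc_c_rc_26_2 lc_c_rc_24_2 lc_c_rc_13_2 lc_c_rc_11_1 lc_c_rc_26_2 lc_c_rc_22_5 lc_c_rc_13_2 lc_c_rc_26_2 lc_c_rc_23_5 lc_c_rc_24_4 lc_c_rc_2_3 lc_c_rc_11_1 lc_c_rc_22_5 lc_c_rc_11_1) (@D3.rec (fun _ => (Cert rels S Gen.c)) lc_c_rc_13_2 lc_c_rc_13_2 lc_c_rc_22_5 lc_c_rc_26_2 lc_c_rc_11_1 lc_c_rc_7_5 lc_c_rc_26_4 lc_c_rc_11_1 lc_c_rc_13_2 lc_c_rc_26_4 lc_c_rc_13_2 lc_c_rc_24_4 lc_c_rc_11_1 lc_c_rc_22_5 lc_c_rc_7_3 lc_c_rc_11_1 lc_c_rc_13_2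 lc_c_rc_13_0 lc_c_rc_26_10 lc_c_rc_11_1 lc_c_rc_25_5 lc_c_rc_7_3 lc_c_rc_2_3 lc_c_rc_11_1 lc_c_rc_14_2 lc_c_rc_11_1 lc_c_rc_13_2 lc_c_rc_22_5 lc_c_rc_22_5 lc_c_rc_11_1 lc_c_rc_11_1 lc_c_rc_11_1 lc_c_rc_24_6 lc_c_rc_11_1 lc_c_rc_2_1 lc_c_rc_11_1 lc_c_rc_11_1 lc_c_rc_14_2 lc_c_Cert_tree lc_c_rc_11_1 lc_c_rc_23_0 lc_c_rc_14_2 lc_c_rc_11_1 lc_c_rc_14_2 lc_c_rc_11_1 lc_c_Cert_tree lc_c_rc_13_2 lc_c_rc_7_3 lc_c_rc_13_2 lc_c_rc_13_2 lc_c_rc_22_3 lc_c_rc_13_0 lc_c_rc_11_1 lc_c_rc_11_1 lc_c_rc_23_5 lc_c_rc_13_2 lc_c_rc_13_2 lc_c_rc_11_1 lc_c_rc_7_5 lc_c_rc_13_2 lc_c_rc_23_0 lc_c_rc_11_1) (@D3.rec (fun _ => (Cert rels S Gen.c)) lc_c_rc_23_5 lc_c_rc_7_5 lc_c_rc_23_0 lc_c_rc_11_1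 lc_c_rc_11_1 lc_c_rc_2_3 lc_c_rc_2_3 lc_c_rc_13_2 lc_c_rc_26_8 lc_c_rc_13_2 lc_c_rc_14_2 lc_c_rc_2_1 lc_c_rc_25_1 lc_c_rc_25_5 lc_c_rc_13_2 lc_c_rc_11_1 lc_c_rc_24_4 lc_c_rc_7_5 lc_c_rc_11_1 lc_c_rc_24_8 lc_c_rc_2_3 lc_c_rc_11_1 lc_c_rc_2_3 lc_c_Cert_tree lc_c_rc_13_2 lc_c_rc_26_10 lc_c_rc_11_1 lc_c_rc_14_0 lc_c_rc_13_2 lc_c_rc_2_3 lc_c_rc_11_1 lc_c_rc_11_1 lc_c_rc_13_2 lc_c_rc_13_2 lc_c_rc_13_2 lc_c_rc_14_2 lc_c_rc_7_5 lc_c_rc_13_2 lc_c_rc_14_0 lc_c_rc_7_5 lc_c_rc_2_3 lc_c_rc_12_4 lc_c_rc_14_2 lc_c_rc_13_2 lc_c_rc_23_0 lc_c_rc_26_2 lc_c_rc_11_1 lc_c_rc_11_1 lc_c_rc_26_8 lc_c_rc_23_0 lc_c_rc_2_3 lc_c_rc_23_0 lc_c_rc_11_1 lc_c_rc_11_1 lc_c_rc_22_7 lc_c_rc_13_2 lc_c_rc_11_1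 lc_c_rc_11_1 lc_c_rc_11_1 lc_c_rc_11_1 lc_c_rc_14_2 lc_c_rc_14_2) (@D3.rec (fun _ => (Cert rels S Gen.c)) lc_c_rc_13_2 lc_c_rc_26_2 lc_c_rc_13_2 lc_c_rc_13_2 lc_c_rc_22_7 lc_c_rc_23_5 lc_c_rc_11_1 lc_c_rc_7_5 lc_c_rc_13_2 lc_c_rc_11_1 lc_c_rc_13_2 lc_c_rc_13_0 lc_c_rc_26_10 lc_c_rc_22_3 lc_c_rc_11_1 lc_c_rc_2_3 lc_c_rc_11_1 lc_c_rc_26_8 lc_c_rc_11_1 lc_c_rc_13_2 lc_c_rc_7_1 lc_c_rc_22_5 lc_c_rc_11_1 lc_c_rc_13_2 lc_c_rc_11_1 lc_c_rc_13_2 lc_c_rc_2_3 lc_c_rc_24_2 lc_c_rc_2_3 lc_c_rc_11_1 lc_c_rc_23_0 lc_c_rc_26_2 lc_c_rc_13_2 lc_c_rc_26_2 lc_c_rc_26_10 lc_c_rc_7_5 lc_c_rc_13_2 lc_c_rc_13_2 lc_c_rc_13_2 lc_c_rc_13_2 lc_c_Cert_tree lc_c_rc_11_1 lc_c_rc_22_9 lc_c_rc_11_1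 lc_c_rc_11_1 lc_c_rc_25_5 lc_c_rc_24_8 lc_c_rc_26_8 lc_c_rc_24_2 lc_c_rc_11_1 lc_c_rc_13_2 lc_c_rc_7_3 lc_c_rc_11_1 lc_c_rc_22_5 lc_c_rc_14_2 lc_c_rc_11_1 lc_c_rc_11_1 lc_c_rc_7_5 lc_c_rc_13_0 lc_c_rc_26_2 lc_c_rc_22_3 lc_c_rc_24_4) (@D3.rec (fun _ => (Cert rels S Gen.c)) lc_c_rc_7_5 lc_c_rc_26_4 lc_c_rc_11_1 lc_c_rc_22_7 lc_c_rc_22_5 lc_c_rc_13_2 lc_c_rc_13_2 lc_c_rc_11_1 lc_c_Cert_tree lc_c_rc_11_1 lc_c_rc_23_0 lc_c_rc_24_8 lc_c_rc_22_3 lc_c_rc_11_1 lc_c_rc_11_1 lc_c_rc_7_1 lc_c_rc_26_8 lc_c_rc_26_10 lc_c_rc_22_7 lc_c_rc_11_1 lc_c_rc_11_1 lc_c_rc_13_2 lc_c_rc_25_9 lc_c_rc_23_0 lc_c_rc_11_1 lc_c_rc_13_2 lc_c_rc_11_1 lc_c_rc_11_1 lc_c_rc_2_1 lc_c_rc_14_2 lc_c_rc_7_3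 lc_c_rc_23_0 lc_c_rc_26_10 lc_c_rc_11_1 lc_c_rc_26_4 lc_c_rc_11_1 lc_c_rc_7_5 lc_c_rc_11_1 lc_c_rc_2_3 lc_c_rc_11_1 lc_c_rc_7_3 lc_c_rc_13_2 lc_c_rc_22_3 lc_c_rc_11_1 lc_c_rc_25_1 lc_c_rc_11_1 lc_c_rc_13_2 lc_c_rc_24_2 lc_c_rc_11_1 lc_c_rc_11_1 lc_c_rc_2_1 lc_c_rc_22_5 lc_c_rc_11_1 lc_c_rc_11_1 lc_c_rc_11_1 lc_c_rc_11_1 lc_c_rc_24_6 lc_c_rc_11_1 lc_c_rc_7_5 lc_c_rc_11_1 lc_c_rc_11_1 lc_c_rc_11_1) (@D3.rec (fun _ => (Cert rels S Gen.c)) lc_c_rc_7_5 lc_c_rc_13_2 lc_c_rc_11_1 lc_c_rc_7_3 lc_c_rc_24_6 lc_c_rc_14_2 lc_c_rc_25_5 lc_c_rc_13_2 lc_c_rc_14_2 lc_c_rc_11_1 lc_c_rc_13_2 lc_c_Cert_tree lc_c_rc_11_1 lc_c_rc_26_4 lc_c_rc_13_0 lc_c_rc_22_7 lc_c_rc_11_1 lc_c_rc_11_1 lc_c_rc_23_0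 lc_c_rc_11_1 lc_c_rc_23_0 lc_c_rc_14_2 lc_c_rc_26_2 lc_c_rc_11_1 lc_c_rc_7_3 lc_c_rc_11_1 lc_c_rc_14_2 lc_c_rc_11_1 lc_c_rc_25_1 lc_c_rc_7_1 lc_c_rc_11_1 lc_c_rc_11_1 lc_c_rc_26_2 lc_c_rc_11_1 lc_c_rc_2_3 lc_c_rc_7_1 lc_c_rc_11_1 lc_c_rc_13_2 lc_c_rc_14_2 lc_c_rc_11_1 lc_c_rc_2_3 lc_c_Cert_tree lc_c_rc_13_2 lc_c_rc_12_0 lc_c_rc_22_7 lc_c_rc_2_3 lc_c_rc_22_3 lc_c_rc_22_3 lc_c_rc_13_2 lc_c_rc_11_1 lc_c_rc_26_2 lc_c_rc_11_1 lc_c_rc_13_2 lc_c_rc_23_0 lc_c_rc_11_1 lc_c_rc_22_7 lc_c_rc_13_0 lc_c_rc_22_3 lc_c_rc_26_4 lc_c_rc_13_2 lc_c_rc_26_8 lc_c_rc_11_1) (@D3.rec (fun _ => (Cert rels S Gen.c)) lc_c_rc_26_8 lc_c_rc_13_2 lc_c_rc_13_2 lc_c_rc_7_3 lc_c_rc_2_3 lc_c_rc_24_2 lc_c_rc_23_0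 lc_c_rc_11_1 lc_c_rc_22_5 lc_c_rc_23_0 lc_c_rc_11_1 lc_c_rc_13_2 lc_c_rc_11_1 lc_c_rc_11_1 lc_c_rc_11_1 lc_c_rc_7_3 lc_c_rc_24_8 lc_c_rc_11_1 lc_c_rc_13_2 lc_c_rc_26_8 lc_c_rc_11_1 lc_c_rc_13_2 lc_c_rc_25_17 lc_c_rc_24_4 lc_c_rc_24_2 lc_c_rc_25_5 lc_c_rc_11_1 lc_c_rc_14_0 lc_c_rc_11_1 lc_c_rc_23_5 lc_c_rc_11_1 lc_c_rc_11_1 lc_c_rc_11_1 lc_c_rc_7_1 lc_c_rc_7_1 lc_c_rc_26_10 lc_c_rc_2_3 lc_c_rc_13_2 lc_c_rc_22_3 lc_c_rc_26_2 lc_c_rc_11_1 lc_c_rc_24_6 lc_c_rc_11_1 lc_c_rc_7_3 lc_c_rc_24_4 lc_c_rc_14_2 lc_c_rc_26_2 lc_c_rc_11_1 lc_c_rc_26_2 lc_c_rc_11_1 lc_c_rc_11_1 lc_c_rc_11_1 lc_c_rc_23_0 lc_c_rc_26_2 lc_c_rc_11_1 lc_c_rc_11_1 lc_c_rc_2_1 lc_c_rc_22_5 lc_c_rc_2_3 lc_c_rc_23_5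 lc_c_rc_14_2 lc_c_rc_13_2) (@D3.rec (fun _ => (Cert rels S Gen.c)) lc_c_rc_23_0 lc_c_rc_13_2 lc_c_rc_26_2 lc_c_rc_22_5 lc_c_rc_13_2 lc_c_Cert_tree lc_c_rc_11_1 lc_c_rc_26_2 lc_c_rc_26_2 lc_c_rc_11_1 lc_c_rc_26_2 lc_c_rc_13_2 lc_c_rc_13_2 lc_c_rc_24_8 lc_c_rc_7_1 lc_c_rc_26_8 lc_c_rc_13_2 lc_c_rc_7_5 lc_c_rc_11_1 lc_c_rc_13_2 lc_c_rc_11_1 lc_c_rc_13_0 lc_c_rc_23_5 lc_c_rc_23_0 lc_c_rc_26_10 lc_c_rc_24_4 lc_c_rc_26_2 lc_c_rc_7_3 lc_c_rc_13_2 lc_c_rc_13_2 lc_c_rc_24_6 lc_c_rc_22_5 lc_c_rc_13_2 lc_c_rc_22_9 lc_c_rc_11_1 lc_c_rc_26_10 lc_c_rc_11_1 lc_c_rc_13_2 lc_c_rc_2_3 lc_c_rc_11_1 lc_c_rc_13_0 lc_c_rc_13_0 lc_c_rc_13_0 lc_c_rc_26_10 lc_c_rc_24_6 lc_c_rc_11_1 lc_c_rc_26_2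 lc_c_rc_26_4 lc_c_rc_22_5 lc_c_rc_13_2 lc_c_rc_13_0 lc_c_rc_26_2 lc_c_rc_26_2 lc_c_rc_11_1 lc_c_rc_13_2 lc_c_rc_11_1 lc_c_rc_7_3 lc_c_rc_26_4 lc_c_rc_13_2 lc_c_rc_24_8 lc_c_rc_22_3 lc_c_rc_13_2) (@D3.rec (fun _ => (Cert rels S Gen.c)) lc_c_rc_26_2 lc_c_rc_25_13 lc_c_rc_7_5 lc_c_rc_13_0 lc_c_rc_11_1 lc_c_rc_22_3 lc_c_rc_24_4 lc_c_rc_23_0 lc_c_rc_2_3 lc_c_rc_12_0 lc_c_rc_2_3 lc_c_rc_2_3 lc_c_rc_11_1 lc_c_rc_25_1 lc_c_rc_14_2 lc_c_rc_7_3 lc_c_rc_26_4 lc_c_rc_24_4 lc_c_rc_22_5 lc_c_rc_13_0 lc_c_rc_13_2 lc_c_rc_23_0 lc_c_rc_7_5 lc_c_rc_22_5 lc_c_rc_13_2 lc_c_rc_24_6 lc_c_rc_22_3 lc_c_rc_12_2 lc_c_rc_26_4 lc_c_rc_25_1 lc_c_rc_11_1 lc_c_rc_12_2 lc_c_rc_11_1 lc_c_rc_7_3 lc_c_rc_11_1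 lc_c_rc_7_3 lc_c_rc_22_7 lc_c_rc_22_3 lc_c_rc_11_1 lc_c_rc_11_1 lc_c_rc_7_5 lc_c_rc_11_1 lc_c_rc_11_1 lc_c_rc_2_3 lc_c_rc_7_3 lc_c_rc_13_0 lc_c_rc_11_1 lc_c_rc_22_5 lc_c_rc_12_0 lc_c_rc_13_2 lc_c_rc_11_1 lc_c_rc_2_3 lc_c_rc_2_3 lc_c_rc_11_1 lc_c_rc_26_2 lc_c_rc_11_1 lc_c_rc_22_3 lc_c_rc_23_5 lc_c_rc_12_2 lc_c_rc_23_5 lc_c_rc_13_2 lc_c_rc_2_3) (@D3.rec (fun _ => (Cert rels S Gen.c)) lc_c_rc_11_1 lc_c_rc_23_5 lc_c_rc_24_2 lc_c_rc_11_1 lc_c_rc_11_1 lc_c_rc_11_1 lc_c_rc_24_2 lc_c_rc_7_3 lc_c_rc_25_17 lc_c_rc_25_5 lc_c_rc_13_2 lc_c_rc_2_3 lc_c_rc_23_0 lc_c_rc_14_2 lc_c_rc_2_3 lc_c_rc_7_3 lc_c_rc_23_0 lc_c_rc_23_0 lc_c_rc_23_5 lc_c_rc_11_1 lc_c_rc_2_3 lc_c_rc_26_4 lc_c_rc_22_5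 lc_c_rc_7_5 lc_c_rc_22_9 lc_c_rc_23_5 lc_c_rc_24_2 lc_c_rc_22_3 lc_c_rc_7_3 lc_c_rc_7_3 lc_c_rc_13_2 lc_c_rc_11_1 lc_c_rc_26_2 lc_c_rc_11_1 lc_c_rc_7_1 lc_c_rc_25_9 lc_c_rc_13_2 lc_c_rc_13_2 lc_c_rc_26_4 lc_c_rc_26_2 lc_c_rc_26_8 lc_c_rc_23_5 lc_c_rc_13_0 lc_c_rc_23_5 lc_c_rc_22_3 lc_c_rc_26_4 lc_c_rc_11_1 lc_c_rc_13_2 lc_c_rc_13_2 lc_c_rc_13_2 lc_c_rc_13_2 lc_c_rc_26_2 lc_c_rc_25_13 lc_c_rc_24_8 lc_c_rc_13_2 lc_c_rc_13_2 lc_c_rc_11_1 lc_c_rc_13_2 lc_c_rc_26_2 lc_c_rc_7_5 lc_c_rc_13_0 lc_c_rc_11_1) (@D3.rec (fun _ => (Cert rels S Gen.c)) lc_c_rc_2_1 lc_c_rc_22_9 lc_c_rc_13_2 lc_c_rc_13_2 lc_c_rc_14_2 lc_c_rc_23_0 lc_c_rc_7_5 lc_c_rc_22_5 lc_c_rc_23_5 lc_c_rc_7_5 lc_c_rc_22_7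 lc_c_Cert_tree lc_c_rc_26_4 lc_c_rc_11_1 lc_c_rc_23_0 lc_c_rc_13_2 lc_c_rc_25_9 lc_c_rc_24_4 lc_c_rc_14_2 lc_c_rc_13_0 lc_c_rc_24_2 lc_c_rc_11_1 lc_c_rc_23_5 lc_c_rc_7_3 lc_c_rc_11_1 lc_c_rc_14_2 lc_c_rc_22_9 lc_c_rc_11_1 lc_c_rc_13_0 lc_c_rc_7_1 lc_c_rc_7_5 lc_c_rc_25_9 lc_c_rc_13_2 lc_c_rc_13_2 lc_c_rc_23_5 lc_c_rc_7_1 lc_c_rc_13_2 lc_c_rc_26_2 lc_c_rc_11_1 lc_c_rc_7_5 lc_c_rc_24_4 lc_c_rc_26_4 lc_c_rc_7_5 lc_c_rc_24_4 lc_c_rc_24_6 lc_c_rc_22_7 lc_c_rc_22_3 lc_c_rc_22_7 lc_c_rc_7_1 lc_c_rc_13_2 lc_c_rc_22_3 lc_c_rc_11_1 lc_c_rc_11_1 lc_c_rc_11_1 lc_c_rc_11_1 lc_c_rc_7_5 lc_c_rc_11_1 lc_c_rc_7_5 lc_c_Cert_tree lc_c_rc_23_5 lc_c_rc_11_1 lc_c_rc_23_0) (@D3.rec (fun _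 => (Cert rels S Gen.c)) lc_c_rc_11_1 lc_c_rc_23_0 lc_c_rc_2_1 lc_c_rc_13_2 lc_c_rc_11_1 lc_c_Cert_tree lc_c_rc_11_1 lc_c_rc_24_4 lc_c_Cert_tree lc_c_rc_7_3 lc_c_rc_14_2 lc_c_rc_26_8 lc_c_rc_2_3 lc_c_rc_14_2 lc_c_rc_11_1 lc_c_rc_12_2 lc_c_rc_2_1 lc_c_rc_7_3 lc_c_rc_11_1 lc_c_rc_26_4 lc_c_Cert_tree lc_c_rc_23_5 lc_c_rc_11_1 lc_c_rc_2_1 lc_c_rc_26_4 lc_c_rc_13_2 lc_c_rc_14_2 lc_c_rc_13_2 lc_c_rc_13_2 lc_c_rc_23_0 lc_c_rc_22_3 lc_c_rc_11_1 lc_c_rc_14_2 lc_c_rc_13_0 lc_c_rc_26_8 lc_c_rc_25_1 lc_c_rc_11_1 lc_c_rc_26_8 lc_c_rc_7_1 lc_c_rc_2_3 lc_c_rc_14_2 lc_c_rc_13_2 lc_c_rc_11_1 lc_c_rc_7_3 lc_c_rc_14_2 lc_c_rc_11_1 lc_c_rc_11_1 lc_c_rc_26_4 lc_c_rc_13_2 lc_c_rc_13_2 lc_c_rc_26_2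 lc_c_rc_11_1 lc_c_rc_11_1 lc_c_rc_11_1 lc_c_rc_11_1 lc_c_Cert_tree lc_c_rc_23_0 lc_c_rc_24_4 lc_c_rc_24_2 lc_c_rc_11_1 lc_c_rc_22_7 lc_c_rc_11_1) (@D3.rec (fun _ => (Cert rels S Gen.c)) lc_c_Cert_tree lc_c_rc_11_1 lc_c_rc_7_3 lc_c_rc_11_1 lc_c_rc_25_17 lc_c_Cert_tree lc_c_rc_11_1 lc_c_rc_24_6 lc_c_rc_24_6 lc_c_rc_7_1 lc_c_rc_22_7 lc_c_rc_14_2 lc_c_rc_7_5 lc_c_rc_11_1 lc_c_rc_11_1 lc_c_rc_7_3 lc_c_rc_11_1 lc_c_rc_13_2 lc_c_rc_14_2 lc_c_rc_26_4 lc_c_rc_25_17 lc_c_rc_2_3 lc_c_rc_13_2 lc_c_rc_7_5 lc_c_rc_11_1 lc_c_rc_24_8 lc_c_rc_11_1 lc_c_rc_26_4 lc_c_rc_23_5 lc_c_rc_11_1 lc_c_rc_11_1 lc_c_rc_23_0 lc_c_rc_11_1 lc_c_rc_13_2 lc_c_rc_11_1 lc_c_rc_24_4 lc_c_rc_11_1 lc_c_rc_26_2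 lc_c_rc_14_2 lc_c_rc_24_2 lc_c_rc_13_2 lc_c_rc_7_3 lc_c_rc_13_0 lc_c_rc_11_1 lc_c_Cert_tree lc_c_rc_13_2 lc_c_rc_24_8 lc_c_rc_7_5 lc_c_rc_26_4 lc_c_rc_11_1 lc_c_rc_13_2 lc_c_rc_2_1 lc_c_rc_2_1 lc_c_rc_13_2 lc_c_rc_24_2 lc_c_rc_26_2 lc_c_rc_22_3 lc_c_rc_22_9 lc_c_rc_22_5 lc_c_rc_11_1 lc_c_rc_26_4 lc_c_rc_13_0) (@D3.rec (fun _ => (Cert rels S Gen.c)) lc_c_Cert_tree lc_c_rc_24_2 lc_c_rc_11_1 lc_c_rc_25_1 lc_c_rc_13_0 lc_c_rc_11_1 lc_c_rc_23_5 lc_c_rc_2_1 lc_c_rc_26_8 lc_c_rc_11_1 lc_c_rc_7_1 lc_c_rc_13_2 lc_c_rc_13_0 lc_c_rc_23_0 lc_c_rc_11_1 lc_c_rc_23_5 lc_c_rc_11_1 lc_c_rc_7_3 lc_c_rc_26_10 lc_c_rc_25_1 lc_c_rc_11_1 lc_c_rc_25_13 lc_c_rc_13_2 lc_c_rc_11_1 lc_c_rc_24_4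 lc_c_rc_13_0 lc_c_rc_13_2 lc_c_rc_13_2 lc_c_rc_12_0 lc_c_rc_11_1 lc_c_rc_13_2 lc_c_rc_26_2 lc_c_rc_23_0 lc_c_rc_26_8 lc_c_rc_14_2 lc_c_rc_26_10 lc_c_rc_7_5 lc_c_rc_22_7 lc_c_rc_26_8 lc_c_rc_22_9 lc_c_rc_22_5 lc_c_rc_14_2 lc_c_rc_11_1 lc_c_rc_23_5 lc_c_rc_26_4 lc_c_rc_7_3 lc_c_rc_2_1 lc_c_rc_14_0 lc_c_rc_24_4 lc_c_rc_25_13 lc_c_rc_2_3 lc_c_rc_22_3 lc_c_rc_14_0 lc_c_rc_14_2 lc_c_rc_11_1 lc_c_rc_25_5 lc_c_rc_7_5 lc_c_rc_14_2 lc_c_rc_11_1 lc_c_rc_13_2 lc_c_rc_23_5 lc_c_rc_11_1) (@D3.rec (fun _ => (Cert rels S Gen.c)) lc_c_rc_22_9 lc_c_rc_26_4 lc_c_rc_23_5 lc_c_rc_13_2 lc_c_rc_11_1 lc_c_rc_23_0 lc_c_rc_13_0 lc_c_rc_13_0 lc_c_rc_11_1 lc_c_rc_11_1 lc_c_rc_24_6 lc_c_rc_11_1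 lc_c_rc_2_3 lc_c_rc_2_1 lc_c_rc_26_4 lc_c_rc_13_2 lc_c_rc_26_4 lc_c_rc_11_1 lc_c_rc_13_2 lc_c_rc_11_1 lc_c_rc_7_5 lc_c_rc_26_4 lc_c_rc_11_1 lc_c_rc_11_1 lc_c_rc_24_8 lc_c_rc_26_4 lc_c_rc_11_1 lc_c_rc_23_5 lc_c_rc_26_2 lc_c_rc_13_2 lc_c_rc_11_1 lc_c_rc_12_0 lc_c_rc_22_9 lc_c_rc_24_8 lc_c_rc_24_6 lc_c_rc_14_2 lc_c_rc_23_5 lc_c_rc_13_2 lc_c_rc_23_5 lc_c_rc_11_1 lc_c_rc_13_2 lc_c_rc_11_1 lc_c_rc_13_2 lc_c_rc_12_2 lc_c_rc_13_2 lc_c_rc_11_1 lc_c_rc_11_1 lc_c_rc_13_2 lc_c_rc_13_2 lc_c_rc_11_1 lc_c_rc_14_2 lc_c_rc_11_1 lc_c_rc_13_2 lc_c_rc_26_10 lc_c_rc_26_2 lc_c_rc_13_2 lc_c_Cert_tree lc_c_Cert_tree lc_c_rc_23_5 lc_c_rc_2_3 lc_c_rc_13_2 lc_c_Cert_tree) (@D3.rec (fun _ => (Cert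 rels S Gen.c)) lc_c_rc_11_1 lc_c_rc_2_3 lc_c_Cert_tree lc_c_rc_24_6 lc_c_rc_11_1 lc_c_Cert_tree lc_c_rc_11_1 lc_c_rc_13_2 lc_c_rc_24_6 lc_c_rc_11_1 lc_c_rc_7_1 lc_c_rc_2_3 lc_c_rc_12_2 lc_c_rc_13_2 lc_c_rc_11_1 lc_c_rc_13_2 lc_c_rc_7_3 lc_c_rc_11_1 lc_c_rc_11_1 lc_c_rc_26_8 lc_c_rc_7_5 lc_c_rc_23_0 lc_c_rc_13_2 lc_c_rc_13_2 lc_c_rc_26_8 lc_c_rc_11_1 lc_c_rc_24_4 lc_c_rc_26_2 lc_c_rc_11_1 lc_c_rc_13_2 lc_c_rc_11_1 lc_c_rc_14_2 lc_c_rc_26_8 lc_c_Cert_tree lc_c_rc_12_2 lc_c_rc_22_3 lc_c_rc_26_2 lc_c_rc_26_4 lc_c_rc_22_3 lc_c_rc_11_1 lc_c_rc_25_9 lc_c_rc_23_0 lc_c_rc_14_2 lc_c_rc_7_3 lc_c_rc_11_1 lc_c_rc_23_5 lc_c_rc_25_1 lc_c_rc_11_1 lc_c_rc_2_1 lc_c_rc_26_10 lc_c_rc_11_1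 lc_c_rc_14_0 lc_c_rc_7_1 lc_c_rc_26_10 lc_c_rc_11_1 lc_c_rc_11_1 lc_c_rc_11_1 lc_c_rc_13_0 lc_c_rc_11_1 lc_c_rc_13_2 lc_c_rc_2_3 lc_c_rc_26_4) (@D3.rec (fun _ => (Cert rels S Gen.c)) lc_c_rc_11_1 lc_c_rc_14_2 lc_c_rc_25_17 lc_c_rc_2_3 lc_c_rc_25_17 lc_c_rc_13_2 lc_c_rc_11_1 lc_c_rc_11_1 lc_c_rc_7_1 lc_c_rc_11_1 lc_c_rc_11_1 lc_c_rc_23_0 lc_c_rc_23_5 lc_c_rc_22_5 lc_c_rc_26_4 lc_c_rc_11_1 lc_c_rc_11_1 lc_c_Cert_tree lc_c_Cert_tree lc_c_rc_11_1 lc_c_rc_25_1 lc_c_rc_2_3 lc_c_rc_7_5 lc_c_rc_14_2 lc_c_rc_13_0 lc_c_rc_24_2 lc_c_rc_11_1 lc_c_rc_11_1 lc_c_rc_7_3 lc_c_rc_11_1 lc_c_rc_7_5 lc_c_rc_13_2 lc_c_rc_13_0 lc_c_rc_26_4 lc_c_rc_11_1 lc_c_rc_11_1 lc_c_rc_23_0 lc_c_rc_7_3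 lc_c_rc_14_2 lc_c_rc_14_2 lc_c_rc_13_2 lc_c_rc_11_1 lc_c_rc_12_2 lc_c_rc_14_2 lc_c_rc_13_2 lc_c_rc_11_1 lc_c_rc_26_4 lc_c_rc_11_1 lc_c_rc_23_5 lc_c_rc_13_2 lc_c_rc_13_2 lc_c_rc_11_1 lc_c_rc_11_1 lc_c_rc_12_2 lc_c_rc_14_2 lc_c_rc_13_0 lc_c_rc_11_1 lc_c_rc_26_8 lc_c_rc_11_1 lc_c_rc_24_2 lc_c_rc_2_1 lc_c_rc_11_1) (@D3.rec (fun _ => (Cert rels S Gen.c)) lc_c_rc_22_5 lc_c_rc_22_3 lc_c_rc_11_1 lc_c_rc_25_1 lc_c_rc_2_3 lc_c_rc_23_0 lc_c_rc_11_1 lc_c_rc_25_17 lc_c_Cert_tree lc_c_rc_11_1 lc_c_rc_11_1 lc_c_rc_11_1 lc_c_rc_14_0 lc_c_rc_26_2 lc_c_rc_23_0 lc_c_rc_11_1 lc_c_rc_14_2 lc_c_rc_7_3 lc_c_rc_12_2 lc_c_rc_14_2 lc_c_rc_13_2 lc_c_rc_11_1 lc_c_rc_13_2 lc_c_rc_22_5 lc_c_rc_11_1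 lc_c_rc_11_1 lc_c_rc_13_2 lc_c_rc_7_1 lc_c_rc_13_2 lc_c_rc_13_2 lc_c_rc_23_5 lc_c_rc_22_3 lc_c_rc_2_1 lc_c_rc_24_2 lc_c_rc_11_1 lc_c_rc_11_1 lc_c_rc_24_2 lc_c_rc_7_1 lc_c_rc_13_2 lc_c_rc_11_1 lc_c_rc_11_1 lc_c_rc_2_1 lc_c_rc_11_1 lc_c_rc_13_2 lc_c_rc_14_2 lc_c_rc_2_1 lc_c_rc_11_1 lc_c_rc_11_1 lc_c_rc_26_2 lc_c_rc_24_8 lc_c_rc_13_0 lc_c_rc_14_2 lc_c_rc_22_3 lc_c_rc_11_1 lc_c_rc_7_3 lc_c_rc_23_5 lc_c_rc_11_1 lc_c_rc_11_1 lc_c_rc_24_4 lc_c_rc_22_5 lc_c_rc_7_3 lc_c_rc_11_1) (@D3.rec (fun _ => (Cert rels S Gen.c)) lc_c_rc_24_4 lc_c_rc_24_4 lc_c_rc_13_0 lc_c_rc_14_2 lc_c_rc_25_17 lc_c_rc_26_10 lc_c_rc_23_5 lc_c_rc_7_5 lc_c_rc_7_5 lc_c_rc_11_1 lc_c_rc_2_3 lc_c_rc_22_3 lc_c_rc_26_8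 lc_c_rc_24_6 lc_c_rc_13_2 lc_c_rc_7_5 lc_c_rc_7_1 lc_c_rc_13_2 lc_c_rc_24_4 lc_c_rc_22_7 lc_c_rc_11_1 lc_c_rc_13_0 lc_c_rc_7_3 lc_c_rc_25_17 lc_c_rc_13_2 lc_c_rc_22_3 lc_c_rc_24_2 lc_c_rc_11_1 lc_c_rc_13_0 lc_c_rc_26_4 lc_c_rc_23_0 lc_c_rc_22_5 lc_c_rc_13_2 lc_c_rc_12_0 lc_c_rc_13_0 lc_c_rc_13_2 lc_c_rc_26_4 lc_c_rc_11_1 lc_c_rc_2_1 lc_c_rc_11_1 lc_c_rc_11_1 lc_c_rc_13_2 lc_c_rc_14_2 lc_c_rc_13_2 lc_c_rc_7_3 lc_c_rc_2_1 lc_c_rc_11_1 lc_c_rc_13_2 lc_c_rc_7_1 lc_c_rc_11_1 lc_c_rc_13_2 lc_c_rc_11_1 lc_c_rc_7_3 lc_c_rc_2_3 lc_c_rc_11_1 lc_c_rc_22_7 lc_c_rc_11_1 lc_c_rc_23_0 lc_c_rc_11_1 lc_c_rc_24_4 lc_c_rc_13_2 lc_c_rc_22_5) (@D3.rec (fun _ => (Cert rels S Gen.c)) lc_c_rc_14_2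 lc_c_rc_11_1 lc_c_rc_24_4 lc_c_rc_24_6 lc_c_rc_24_2 lc_c_rc_2_3 lc_c_rc_11_1 lc_c_rc_7_3 lc_c_rc_14_2 lc_c_rc_26_4 lc_c_rc_11_1 lc_c_rc_2_3 lc_c_rc_11_1 lc_c_rc_13_2 lc_c_rc_13_0 lc_c_rc_13_2 lc_c_rc_14_0 lc_c_rc_11_1 lc_c_rc_11_1 lc_c_rc_22_9 lc_c_rc_2_3 lc_c_rc_11_1 lc_c_rc_24_6 lc_c_rc_13_2 lc_c_rc_11_1 lc_c_Cert_tree lc_c_rc_11_1 lc_c_rc_23_0 lc_c_rc_2_3 lc_c_rc_7_3 lc_c_rc_11_1 lc_c_rc_11_1 lc_c_rc_22_3 lc_c_rc_22_5 lc_c_rc_13_2 lc_c_rc_13_2 lc_c_rc_11_1 lc_c_rc_22_5 lc_c_rc_11_1 lc_c_rc_22_3 lc_c_rc_24_2 lc_c_rc_11_1 lc_c_rc_26_2 lc_c_rc_24_4 lc_c_rc_7_1 lc_c_rc_14_0 lc_c_rc_11_1 lc_c_rc_24_4 lc_c_rc_22_5 lc_c_rc_11_1 lc_c_rc_2_3 lc_c_rc_11_1 lc_c_rc_11_1 lc_c_rc_11_1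 lc_c_rc_11_1 lc_c_rc_24_6 lc_c_rc_7_1 lc_c_rc_13_2 lc_c_rc_11_1 lc_c_rc_7_5 lc_c_rc_7_1 lc_c_rc_11_1) (@D3.rec (fun _ => (Cert rels S Gen.c)) lc_c_rc_13_2 lc_c_rc_11_1 lc_c_Cert_tree lc_c_Cert_tree lc_c_rc_14_2 lc_c_rc_11_1 lc_c_rc_11_1 lc_c_rc_26_2 lc_c_rc_11_1 lc_c_Cert_tree lc_c_rc_11_1 lc_c_rc_23_0 lc_c_rc_13_0 lc_c_rc_11_1 lc_c_rc_2_3 lc_c_rc_23_0 lc_c_rc_26_8 lc_c_rc_11_1 lc_c_rc_2_1 lc_c_rc_11_1 lc_c_rc_14_0 lc_c_rc_22_5 lc_c_rc_13_2 lc_c_rc_11_1 lc_c_rc_2_1 lc_c_Cert_tree lc_c_rc_7_3 lc_c_rc_13_2 lc_c_rc_11_1 lc_c_rc_11_1 lc_c_rc_22_7 lc_c_rc_7_5 lc_c_rc_11_1 lc_c_Cert_tree lc_c_rc_7_3 lc_c_rc_11_1 lc_c_Cert_tree lc_c_Cert_tree lc_c_rc_7_5 lc_c_rc_11_1 lc_c_rc_26_8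 lc_c_rc_22_3 lc_c_rc_11_1 lc_c_rc_22_3 lc_c_rc_13_2 lc_c_rc_22_3 lc_c_rc_13_2 lc_c_rc_7_1 lc_c_rc_13_2 lc_c_Cert_tree lc_c_rc_7_5 lc_c_Cert_tree lc_c_rc_7_1 lc_c_rc_11_1 lc_c_rc_24_6 lc_c_rc_14_2 lc_c_rc_13_2 lc_c_rc_14_2 lc_c_rc_24_4 lc_c_rc_25_13 lc_c_rc_24_6 lc_c_rc_11_1) (@D3.rec (fun _ => (Cert rels S Gen.c)) lc_c_rc_7_1 lc_c_rc_23_0 lc_c_rc_11_1 lc_c_rc_11_1 lc_c_rc_11_1 lc_c_rc_11_1 lc_c_rc_7_3 lc_c_rc_11_1 lc_c_rc_13_2 lc_c_rc_11_1 lc_c_rc_24_4 lc_c_rc_14_0 lc_c_rc_11_1 lc_c_rc_22_5 lc_c_rc_22_5 lc_c_rc_13_0 lc_c_rc_11_1 lc_c_rc_25_17 lc_c_rc_13_0 lc_c_rc_11_1 lc_c_rc_14_2 lc_c_rc_2_3 lc_c_rc_11_1 lc_c_Cert_tree lc_c_rc_13_0 lc_c_rc_22_9 lc_c_rc_11_1 lc_c_rc_11_1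 lc_c_rc_13_2 lc_c_rc_7_3 lc_c_rc_11_1 lc_c_rc_11_1 lc_c_rc_13_2 lc_c_rc_23_5 lc_c_rc_13_2 lc_c_rc_11_1 lc_c_rc_26_2 lc_c_rc_12_0 lc_c_rc_23_5 lc_c_Cert_tree lc_c_rc_11_1 lc_c_rc_24_2 lc_c_rc_23_0 lc_c_rc_7_1 lc_c_rc_13_2 lc_c_rc_2_3 lc_c_rc_13_0 lc_c_rc_2_1 lc_c_Cert_tree lc_c_rc_11_1 lc_c_rc_26_4 lc_c_rc_24_6 lc_c_rc_22_5 lc_c_rc_7_3 lc_c_rc_22_9 lc_c_rc_24_4 lc_c_rc_13_2 lc_c_rc_13_2 lc_c_Cert_tree lc_c_rc_7_5 lc_c_rc_26_10 lc_c_rc_11_1) (@D3.rec (fun _ => (Cert rels S Gen.c)) lc_c_rc_2_3 lc_c_rc_11_1 lc_c_rc_11_1 lc_c_rc_13_2 lc_c_rc_11_1 lc_c_rc_25_9 lc_c_rc_11_1 lc_c_rc_11_1 lc_c_rc_13_2 lc_c_rc_14_2 lc_c_rc_26_4 lc_c_rc_13_2 lc_c_rc_7_3 lc_c_rc_13_2 lc_c_rc_11_1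 lc_c_rc_11_1 lc_c_rc_22_9 lc_c_rc_11_1 lc_c_rc_7_5 lc_c_rc_2_1 lc_c_rc_7_5 lc_c_rc_2_1 lc_c_rc_2_1 lc_c_rc_22_7 lc_c_rc_22_3 lc_c_rc_13_2 lc_c_rc_13_0 lc_c_Cert_tree lc_c_rc_26_2 lc_c_rc_22_5 lc_c_rc_26_8 lc_c_rc_22_5 lc_c_rc_13_2 lc_c_Cert_tree lc_c_rc_7_1 lc_c_rc_22_3 lc_c_rc_25_5 lc_c_rc_11_1 lc_c_rc_2_3 lc_c_rc_24_8 lc_c_rc_11_1 lc_c_rc_26_10 lc_c_rc_7_3 lc_c_rc_14_2 lc_c_rc_2_3 lc_c_rc_23_5 lc_c_rc_13_2 lc_c_rc_26_8 lc_c_rc_12_2 lc_c_rc_13_2 lc_c_rc_13_2 lc_c_rc_25_17 lc_c_rc_24_8 lc_c_rc_11_1 lc_c_rc_11_1 lc_c_rc_2_3 lc_c_rc_7_3 lc_c_rc_13_2 lc_c_rc_11_1 lc_c_rc_12_0 lc_c_rc_22_5 lc_c_rc_11_1) (@D3.rec (fun _ => (Cert rels S Gen.c)) lc_c_rc_24_2 lc_c_rc_11_1 lc_c_rc_24_4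 lc_c_rc_11_1 lc_c_rc_22_3 lc_c_rc_24_6 lc_c_rc_11_1 lc_c_rc_22_5 lc_c_rc_13_2 lc_c_rc_23_5 lc_c_rc_26_4 lc_c_rc_11_1 lc_c_rc_11_1 lc_c_rc_22_9 lc_c_rc_26_2 lc_c_rc_13_2 lc_c_rc_23_0 lc_c_rc_26_2 lc_c_rc_13_2 lc_c_rc_26_2 lc_c_rc_26_10 lc_c_rc_11_1 lc_c_rc_22_3 lc_c_rc_23_0 lc_c_rc_14_2 lc_c_rc_11_1 lc_c_rc_13_2 lc_c_rc_13_2 lc_c_rc_24_2 lc_c_rc_13_2 lc_c_rc_7_3 lc_c_rc_13_2 lc_c_rc_22_3 lc_c_rc_7_1 lc_c_rc_11_1 lc_c_rc_13_2 lc_c_rc_11_1 lc_c_rc_11_1 lc_c_rc_22_5 lc_c_rc_7_5 lc_c_rc_11_1 lc_c_rc_22_5 lc_c_rc_2_3 lc_c_rc_24_6 lc_c_rc_11_1 lc_c_rc_13_2 lc_c_rc_11_1 lc_c_rc_26_8 lc_c_rc_2_3 lc_c_rc_7_3 lc_c_rc_12_14 lc_c_rc_11_1 lc_c_rc_7_3 lc_c_rc_24_2 lc_c_rc_26_10 lc_c_rc_11_1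 lc_c_rc_2_3 lc_c_rc_11_1 lc_c_rc_11_1 lc_c_rc_13_0 lc_c_rc_26_4 lc_c_rc_22_7) (@D3.rec (fun _ => (Cert rels S Gen.c)) lc_c_rc_14_2 lc_c_rc_23_0 lc_c_rc_13_2 lc_c_rc_11_1 lc_c_rc_2_3 lc_c_rc_13_2 lc_c_rc_12_0 lc_c_rc_24_6 lc_c_rc_22_5 lc_c_rc_11_1 lc_c_rc_13_2 lc_c_rc_11_1 lc_c_rc_11_1 lc_c_rc_7_5 lc_c_rc_13_2 lc_c_rc_11_1 lc_c_rc_13_2 lc_c_rc_26_2 lc_c_rc_22_5 lc_c_rc_13_2 lc_c_rc_23_5 lc_c_rc_7_5 lc_c_rc_2_1 lc_c_rc_7_5 lc_c_rc_7_3 lc_c_rc_25_5 lc_c_rc_13_0 lc_c_rc_14_2 lc_c_rc_7_5 lc_c_rc_13_0 lc_c_rc_11_1 lc_c_rc_11_1 lc_c_rc_13_2 lc_c_rc_11_1 lc_c_rc_24_4 lc_c_rc_11_1 lc_c_rc_26_4 lc_c_rc_11_1 lc_c_rc_14_2 lc_c_rc_11_1 lc_c_rc_26_4 lc_c_rc_13_2 lc_c_rc_2_3 lc_c_rc_13_2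 lc_c_rc_23_5 lc_c_rc_7_5 lc_c_rc_26_2 lc_c_Cert_tree lc_c_rc_11_1 lc_c_rc_24_2 lc_c_rc_11_1 lc_c_rc_23_5 lc_c_rc_26_4 lc_c_rc_11_1 lc_c_rc_13_0 lc_c_rc_23_0 lc_c_rc_13_0 lc_c_rc_13_2 lc_c_rc_13_2 lc_c_rc_24_6 lc_c_rc_24_4 lc_c_rc_22_5) (@D3.rec (fun _ => (Cert rels S Gen.c)) lc_c_rc_24_6 lc_c_rc_13_2 lc_c_rc_11_1 lc_c_rc_24_4 lc_c_rc_26_2 lc_c_rc_23_0 lc_c_rc_13_2 lc_c_rc_24_4 lc_c_rc_23_0 lc_c_rc_26_4 lc_c_rc_26_10 lc_c_rc_25_5 lc_c_rc_11_1 lc_c_rc_22_3 lc_c_rc_11_1 lc_c_rc_26_4 lc_c_rc_13_2 lc_c_rc_24_2 lc_c_rc_23_0 lc_c_rc_14_2 lc_c_rc_11_1 lc_c_rc_22_7 lc_c_rc_13_2 lc_c_rc_23_0 lc_c_rc_26_4 lc_c_rc_7_5 lc_c_rc_26_10 lc_c_rc_13_2 lc_c_rc_11_1 lc_c_rc_14_2 lc_c_rc_11_1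 lc_c_rc_23_5 lc_c_rc_26_10 lc_c_rc_14_2 lc_c_rc_2_3 lc_c_rc_7_5 lc_c_rc_2_3 lc_c_rc_24_6 lc_c_rc_12_14 lc_c_rc_7_3 lc_c_rc_13_2 lc_c_rc_11_1 lc_c_rc_13_2 lc_c_rc_11_1 lc_c_rc_13_2 lc_c_rc_11_1 lc_c_rc_23_5 lc_c_rc_26_8 lc_c_rc_11_1 lc_c_rc_24_2 lc_c_rc_13_2 lc_c_rc_13_0 lc_c_rc_14_2 lc_c_rc_11_1 lc_c_rc_2_3 lc_c_rc_14_0 lc_c_rc_22_3 lc_c_rc_13_2 lc_c_rc_7_5 lc_c_rc_11_1 lc_c_rc_24_4 lc_c_rc_7_3) (@D3.rec (fun _ => (Cert rels S Gen.c)) lc_c_rc_11_1 lc_c_rc_2_3 lc_c_rc_26_4 lc_c_rc_7_1 lc_c_rc_13_0 lc_c_rc_25_17 lc_c_rc_11_1 lc_c_rc_26_2 lc_c_rc_24_4 lc_c_rc_23_0 lc_c_rc_11_1 lc_c_rc_25_1 lc_c_rc_26_2 lc_c_rc_23_0 lc_c_rc_24_6 lc_c_rc_24_4 lc_c_rc_26_4 lc_c_rc_26_4 lc_c_rc_23_0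 lc_c_rc_13_0 lc_c_rc_7_5 lc_c_rc_7_5 lc_c_rc_2_1 lc_c_rc_7_3 lc_c_rc_11_1 lc_c_rc_11_1 lc_c_rc_13_2 lc_c_rc_14_2 lc_c_rc_26_2 lc_c_rc_7_3 lc_c_rc_11_1 lc_c_rc_26_10 lc_c_rc_7_1 lc_c_rc_26_8 lc_c_Cert_tree lc_c_rc_26_2 lc_c_rc_11_1 lc_c_rc_22_3 lc_c_rc_2_3 lc_c_rc_13_2 lc_c_rc_13_2 lc_c_rc_22_9 lc_c_rc_22_9 lc_c_rc_13_0 lc_c_rc_24_6 lc_c_rc_11_1 lc_c_rc_2_1 lc_c_rc_11_1 lc_c_rc_14_0 lc_c_rc_11_1 lc_c_rc_13_2 lc_c_rc_11_1 lc_c_rc_26_2 lc_c_rc_7_3 lc_c_rc_13_2 lc_c_rc_13_0 lc_c_rc_12_2 lc_c_rc_26_2 lc_c_rc_22_7 lc_c_rc_13_0 lc_c_rc_13_2 lc_c_rc_13_2) (@D3.rec (fun _ => (Cert rels S Gen.c)) lc_c_rc_26_4 lc_c_rc_26_4 lc_c_rc_24_4 lc_c_rc_24_4 lc_c_rc_13_2 lc_c_rc_22_5 lc_c_rc_13_2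 lc_c_rc_24_6 lc_c_rc_11_1 lc_c_rc_13_2 lc_c_rc_11_1 lc_c_rc_11_1 lc_c_rc_7_3 lc_c_rc_7_5 lc_c_rc_7_5 lc_c_rc_25_5 lc_c_rc_13_2 lc_c_rc_7_3 lc_c_rc_23_0 lc_c_rc_13_2 lc_c_rc_24_6 lc_c_rc_22_3 lc_c_rc_11_1 lc_c_rc_23_5 lc_c_rc_13_2 lc_c_rc_22_3 lc_c_rc_2_3 lc_c_rc_13_2 lc_c_rc_13_2 lc_c_rc_23_0 lc_c_rc_13_0 lc_c_rc_11_1 lc_c_rc_7_3 lc_c_rc_13_2 lc_c_rc_25_13 lc_c_rc_11_1 lc_c_rc_13_2 lc_c_rc_2_3 lc_c_rc_26_4 lc_c_rc_11_1 lc_c_rc_7_3 lc_c_rc_13_2 lc_c_rc_7_3 lc_c_rc_26_4 lc_c_rc_13_2 lc_c_rc_2_3 lc_c_rc_23_0 lc_c_rc_22_9 lc_c_rc_22_7 lc_c_rc_13_0 lc_c_rc_22_3 lc_c_rc_13_2 lc_c_rc_25_5 lc_c_rc_23_0 lc_c_rc_22_7 lc_c_rc_13_2 lc_c_rc_13_2 lc_c_rc_11_1 lc_c_rc_26_2 lc_c_rc_7_1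 lc_c_rc_22_9 lc_c_rc_25_5) (@D3.rec (fun _ => (Cert rels S Gen.c)) lc_c_rc_13_2 lc_c_rc_7_1 lc_c_rc_13_2 lc_c_rc_13_0 lc_c_rc_24_8 lc_c_rc_26_10 lc_c_rc_26_2 lc_c_rc_26_10 lc_c_rc_24_6 lc_c_rc_2_1 lc_c_rc_7_3 lc_c_rc_24_4 lc_c_rc_24_2 lc_c_rc_13_2 lc_c_rc_24_6 lc_c_rc_22_7 lc_c_rc_14_2 lc_c_rc_13_0 lc_c_rc_11_1 lc_c_rc_24_6 lc_c_rc_2_1 lc_c_rc_22_3 lc_c_rc_13_2 lc_c_rc_24_4 lc_c_rc_22_7 lc_c_rc_11_1 lc_c_rc_26_4 lc_c_rc_11_1 lc_c_rc_13_2 lc_c_rc_11_1 lc_c_rc_11_1 lc_c_rc_22_9 lc_c_rc_24_8 lc_c_rc_7_5 lc_c_rc_11_1 lc_c_rc_7_5 lc_c_rc_13_0 lc_c_rc_24_4 lc_c_rc_13_2 lc_c_rc_7_5 lc_c_rc_26_4 lc_c_rc_22_3 lc_c_rc_11_1 lc_c_rc_11_1 lc_c_rc_13_2 lc_c_rc_23_0 lc_c_rc_22_5 lc_c_rc_14_2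 lc_c_rc_13_2 lc_c_rc_14_2 lc_c_rc_7_5 lc_c_rc_7_3 lc_c_rc_13_2 lc_c_rc_22_5 lc_c_rc_26_2 lc_c_rc_11_1 lc_c_rc_24_2 lc_c_rc_14_2 lc_c_rc_11_1 lc_c_rc_7_3 lc_c_rc_13_0 lc_c_rc_22_3) (@D3.rec (fun _ => (Cert rels S Gen.c)) lc_c_rc_24_6 lc_c_rc_23_0 lc_c_rc_14_2 lc_c_rc_13_2 lc_c_rc_26_4 lc_c_rc_11_1 lc_c_rc_22_7 lc_c_rc_11_1 lc_c_rc_11_1 lc_c_rc_7_5 lc_c_rc_24_6 lc_c_rc_11_1 lc_c_rc_7_3 lc_c_rc_22_5 lc_c_rc_13_2 lc_c_rc_25_5 lc_c_rc_11_1 lc_c_rc_13_0 lc_c_rc_13_0 lc_c_rc_13_0 lc_c_rc_23_0 lc_c_rc_26_8 lc_c_rc_13_2 lc_c_rc_13_2 lc_c_rc_13_2 lc_c_rc_13_2 lc_c_rc_26_4 lc_c_rc_25_1 lc_c_rc_13_2 lc_c_rc_7_3 lc_c_rc_11_1 lc_c_rc_11_1 lc_c_rc_26_4 lc_c_rc_26_2 lc_c_rc_13_2 lc_c_rc_11_1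 lc_c_rc_26_8 lc_c_rc_26_4 lc_c_rc_22_5 lc_c_rc_13_2 lc_c_rc_11_1 lc_c_rc_26_8 lc_c_rc_25_1 lc_c_rc_26_4 lc_c_rc_11_1 lc_c_rc_13_2 lc_c_rc_11_1 lc_c_rc_11_1 lc_c_rc_22_5 lc_c_rc_11_1 lc_c_rc_22_7 lc_c_rc_13_2 lc_c_rc_11_1 lc_c_rc_2_3 lc_c_rc_26_10 lc_c_rc_13_0 lc_c_rc_26_4 lc_c_rc_11_1 lc_c_rc_22_7 lc_c_rc_14_2 lc_c_rc_11_1 lc_c_rc_24_4) (@D3.rec (fun _ => (Cert rels S Gen.c)) lc_c_rc_7_5 lc_c_rc_13_2 lc_c_rc_24_2 lc_c_rc_11_1 lc_c_rc_12_0 lc_c_rc_13_2 lc_c_rc_13_2 lc_c_rc_11_1 lc_c_rc_26_4 lc_c_rc_13_2 lc_c_rc_7_3 lc_c_rc_22_3 lc_c_rc_11_1 lc_c_rc_2_3 lc_c_rc_7_1 lc_c_rc_11_1 lc_c_rc_13_2 lc_c_rc_13_2 lc_c_rc_24_4 lc_c_rc_14_2 lc_c_rc_13_2 lc_c_rc_11_1 lc_c_rc_26_4 lc_c_rc_11_1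 lc_c_rc_23_5 lc_c_rc_11_1 lc_c_rc_11_1 lc_c_rc_26_4 lc_c_rc_11_1 lc_c_rc_26_10 lc_c_rc_7_5 lc_c_rc_22_5 lc_c_Cert_tree lc_c_rc_13_2 lc_c_rc_7_5 lc_c_rc_26_4 lc_c_rc_23_5 lc_c_rc_11_1 lc_c_rc_23_0 lc_c_rc_11_1 lc_c_rc_24_2 lc_c_rc_23_0 lc_c_rc_11_1 lc_c_rc_24_4 lc_c_rc_26_2 lc_c_rc_22_9 lc_c_rc_26_8 lc_c_rc_13_0 lc_c_rc_11_1 lc_c_rc_26_4 lc_c_rc_7_5 lc_c_rc_2_3 lc_c_rc_14_2 lc_c_rc_11_1 lc_c_rc_11_1 lc_c_rc_13_0 lc_c_rc_2_3 lc_c_Cert_tree lc_c_rc_11_1 lc_c_Cert_tree lc_c_rc_11_1 lc_c_rc_24_2) (@D3.rec (fun _ => (Cert rels S Gen.c)) lc_c_rc_24_6 lc_c_rc_26_8 lc_c_rc_14_2 lc_c_rc_22_3 lc_c_rc_11_1 lc_c_rc_14_2 lc_c_rc_7_1 lc_c_rc_2_3 lc_c_rc_13_2 lc_c_rc_13_0 lc_c_rc_2_3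 lc_c_rc_7_3 lc_c_rc_22_5 lc_c_rc_7_1 lc_c_rc_26_10 lc_c_rc_12_14 lc_c_rc_13_2 lc_c_Cert_tree lc_c_rc_7_5 lc_c_rc_7_5 lc_c_rc_11_1 lc_c_rc_11_1 lc_c_rc_11_1 lc_c_rc_24_6 lc_c_rc_14_2 lc_c_rc_13_0 lc_c_rc_22_3 lc_c_rc_24_2 lc_c_rc_7_1 lc_c_rc_23_0 lc_c_rc_11_1 lc_c_rc_22_3 lc_c_rc_11_1 lc_c_rc_13_0 lc_c_rc_22_3 lc_c_rc_11_1 lc_c_rc_26_8 lc_c_rc_11_1 lc_c_rc_14_2 lc_c_rc_11_1 lc_c_rc_7_5 lc_c_rc_22_5 lc_c_rc_23_0 lc_c_rc_24_8 lc_c_rc_22_7 lc_c_rc_22_7 lc_c_rc_13_2 lc_c_rc_24_6 lc_c_rc_11_1 lc_c_rc_22_5 lc_c_rc_13_2 lc_c_rc_13_2 lc_c_rc_24_4 lc_c_rc_11_1 lc_c_rc_2_3 lc_c_rc_13_2 lc_c_rc_26_10 lc_c_rc_11_1 lc_c_rc_13_2 lc_c_rc_11_1 lc_c_rc_14_2 lc_c_rc_11_1) (@D3.rec (fun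 _ => (Cert rels S Gen.c)) lc_c_rc_7_5 lc_c_rc_7_3 lc_c_rc_7_5 lc_c_rc_13_2 lc_c_rc_13_2 lc_c_rc_24_2 lc_c_rc_13_2 lc_c_rc_11_1 lc_c_rc_11_1 lc_c_rc_13_2 lc_c_rc_22_5 lc_c_rc_13_2 lc_c_rc_14_2 lc_c_rc_24_4 lc_c_rc_11_1 lc_c_rc_7_5 lc_c_rc_23_0 lc_c_rc_13_2 lc_c_rc_13_2 lc_c_rc_11_1 lc_c_rc_13_2 lc_c_rc_13_0 lc_c_rc_2_3 lc_c_rc_13_0 lc_c_rc_13_2 lc_c_rc_11_1 lc_c_rc_13_2 lc_c_rc_11_1 lc_c_rc_11_1 lc_c_rc_24_6 lc_c_rc_11_1 lc_c_rc_2_1 lc_c_rc_7_5 lc_c_rc_22_5 lc_c_rc_13_2 lc_c_rc_11_1 lc_c_rc_22_7 lc_c_rc_13_2 lc_c_rc_11_1 lc_c_rc_13_2 lc_c_rc_22_3 lc_c_rc_22_7 lc_c_rc_2_1 lc_c_rc_11_1 lc_c_rc_7_3 lc_c_rc_2_1 lc_c_rc_11_1 lc_c_rc_13_2 lc_c_rc_11_1 lc_c_rc_24_8 lc_c_rc_23_0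 lc_c_rc_11_1 lc_c_rc_22_5 lc_c_rc_13_2 lc_c_rc_25_9 lc_c_rc_13_2 lc_c_rc_13_2 lc_c_rc_11_1 lc_c_rc_13_2 lc_c_rc_11_1 lc_c_rc_23_0 lc_c_rc_12_2) (@D3.rec (fun _ => (Cert rels S Gen.c)) lc_c_rc_11_1 lc_c_rc_26_10 lc_c_rc_13_2 lc_c_rc_23_5 lc_c_rc_11_1 lc_c_rc_11_1 lc_c_Cert_tree lc_c_rc_11_1 lc_c_rc_11_1 lc_c_rc_13_2 lc_c_rc_11_1 lc_c_rc_11_1 lc_c_rc_11_1 lc_c_rc_2_3 lc_c_rc_26_8 lc_c_rc_7_3 lc_c_rc_13_2 lc_c_rc_22_9 lc_c_rc_22_3 lc_c_rc_11_1 lc_c_rc_13_2 lc_c_rc_13_2 lc_c_rc_24_2 lc_c_rc_11_1 lc_c_rc_13_2 lc_c_rc_23_0 lc_c_rc_11_1 lc_c_rc_14_2 lc_c_rc_13_0 lc_c_rc_11_1 lc_c_rc_25_17 lc_c_rc_14_2 lc_c_rc_24_8 lc_c_rc_12_2 lc_c_rc_11_1 lc_c_rc_22_5 lc_c_rc_7_3 lc_c_rc_11_1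 lc_c_rc_13_2 lc_c_rc_13_2 lc_c_rc_12_14 lc_c_rc_13_0 lc_c_rc_14_2 lc_c_rc_24_6 lc_c_rc_11_1 lc_c_rc_11_1 lc_c_rc_13_0 lc_c_rc_26_4 lc_c_rc_11_1 lc_c_rc_25_9 lc_c_rc_11_1 lc_c_rc_12_2 lc_c_rc_26_10 lc_c_rc_23_0 lc_c_rc_11_1 lc_c_rc_11_1 lc_c_rc_26_2 lc_c_Cert_tree lc_c_rc_13_2 lc_c_rc_11_1 lc_c_rc_14_2 lc_c_rc_14_0) (@D3.rec (fun _ => (Cert rels S Gen.c)) lc_c_rc_11_1 lc_c_rc_13_2 lc_c_Cert_tree lc_c_rc_11_1 lc_c_rc_22_5 lc_c_rc_11_1 lc_c_rc_13_2 lc_c_rc_26_4 lc_c_rc_13_2 lc_c_rc_7_3 lc_c_rc_11_1 lc_c_rc_11_1 lc_c_rc_26_4 lc_c_rc_11_1 lc_c_rc_13_0 lc_c_Cert_tree lc_c_rc_23_0 lc_c_rc_24_6 lc_c_rc_11_1 lc_c_rc_11_1 lc_c_rc_23_0 lc_c_rc_14_2 lc_c_rc_24_2 lc_c_rc_24_8 lc_c_rc_26_8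 lc_c_rc_11_1 lc_c_rc_13_0 lc_c_rc_2_3 lc_c_rc_26_4 lc_c_rc_25_17 lc_c_rc_22_3 lc_c_rc_13_0 lc_c_rc_11_1 lc_c_rc_11_1 lc_c_rc_26_4 lc_c_rc_13_2 lc_c_rc_13_2 lc_c_rc_13_0 lc_c_rc_24_8 lc_c_rc_11_1 lc_c_rc_7_5 lc_c_rc_24_6 lc_c_rc_26_4 lc_c_rc_22_7 lc_c_rc_14_2 lc_c_rc_13_2 lc_c_rc_24_4 lc_c_rc_24_4 lc_c_rc_14_2 lc_c_rc_7_1 lc_c_rc_11_1 lc_c_rc_2_3 lc_c_rc_26_2 lc_c_rc_11_1 lc_c_rc_11_1 lc_c_rc_11_1 lc_c_rc_22_7 lc_c_rc_11_1 lc_c_rc_23_5 lc_c_rc_13_2 lc_c_rc_14_0 lc_c_rc_11_1) (@D3.rec (fun _ => (Cert rels S Gen.c)) lc_c_rc_23_5 lc_c_rc_23_0 lc_c_rc_11_1 lc_c_rc_13_2 lc_c_rc_26_2 lc_c_rc_13_2 lc_c_rc_26_4 lc_c_rc_24_4 lc_c_rc_23_0 lc_c_rc_13_2 lc_c_rc_14_2 lc_c_rc_23_5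 lc_c_rc_24_2 lc_c_rc_25_9 lc_c_rc_13_2 lc_c_rc_22_5 lc_c_rc_11_1 lc_c_rc_13_2 lc_c_rc_22_9 lc_c_rc_13_2 lc_c_rc_13_0 lc_c_rc_26_4 lc_c_rc_7_5 lc_c_rc_11_1 lc_c_rc_13_2 lc_c_rc_26_4 lc_c_Cert_tree lc_c_rc_24_4 lc_c_rc_22_3 lc_c_rc_12_14 lc_c_rc_11_1 lc_c_rc_14_2 lc_c_rc_7_3 lc_c_rc_22_7 lc_c_rc_11_1 lc_c_rc_25_5 lc_c_rc_22_3 lc_c_rc_14_2 lc_c_rc_7_3 lc_c_rc_24_4 lc_c_rc_26_4 lc_c_rc_24_6 lc_c_rc_24_6 lc_c_rc_13_2 lc_c_rc_12_14 lc_c_rc_26_8 lc_c_rc_13_0 lc_c_rc_26_8 lc_c_rc_11_1 lc_c_rc_24_6 lc_c_rc_22_9 lc_c_rc_13_2 lc_c_rc_11_1 lc_c_rc_23_5 lc_c_rc_13_2 lc_c_rc_7_5 lc_c_rc_7_5 lc_c_rc_11_1 lc_c_rc_11_1 lc_c_rc_26_8 lc_c_rc_11_1 lc_c_rc_23_0) (@D3.rec (fun _ => (Cert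 rels S Gen.c)) lc_c_rc_24_2 lc_c_rc_7_3 lc_c_rc_13_0 lc_c_rc_12_0 lc_c_rc_11_1 lc_c_rc_2_3 lc_c_rc_24_6 lc_c_rc_14_2 lc_c_rc_7_5 lc_c_rc_13_2 lc_c_rc_22_7 lc_c_rc_11_1 lc_c_rc_26_2 lc_c_rc_11_1 lc_c_rc_13_2 lc_c_rc_24_6 lc_c_rc_24_6 lc_c_rc_2_3 lc_c_rc_13_2 lc_c_rc_11_1 lc_c_rc_13_2 lc_c_rc_14_2 lc_c_rc_26_4 lc_c_rc_7_5 lc_c_rc_13_0 lc_c_Cert_tree lc_c_Cert_tree lc_c_rc_11_1 lc_c_rc_7_5 lc_c_rc_23_5 lc_c_rc_7_5 lc_c_rc_22_5 lc_c_rc_11_1 lc_c_rc_22_3 lc_c_rc_11_1 lc_c_rc_22_3 lc_c_Cert_tree lc_c_rc_2_1 lc_c_rc_7_3 lc_c_rc_11_1 lc_c_rc_13_2 lc_c_rc_13_2 lc_c_rc_7_5 lc_c_rc_13_2 lc_c_rc_7_5 lc_c_rc_13_2 lc_c_rc_13_2 lc_c_rc_7_1 lc_c_rc_22_3 lc_c_rc_7_3 lc_c_rc_13_2 lc_c_rc_13_2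 lc_c_rc_13_2 lc_c_rc_11_1 lc_c_rc_13_2 lc_c_rc_11_1 lc_c_rc_13_2 lc_c_rc_24_6 lc_c_rc_23_0 lc_c_rc_13_0 lc_c_rc_7_1 lc_c_rc_7_1) (@D3.rec (fun _ => (Cert rels S Gen.c)) lc_c_rc_13_0 lc_c_rc_7_5 lc_c_rc_7_5 lc_c_rc_13_2 lc_c_rc_24_6 lc_c_rc_22_3 lc_c_rc_22_9 lc_c_rc_13_2 lc_c_rc_22_5 lc_c_rc_11_1 lc_c_rc_24_6 lc_c_Cert_tree lc_c_rc_14_2 lc_c_rc_11_1 lc_c_rc_11_1 lc_c_rc_13_2 lc_c_rc_22_3 lc_c_rc_13_2 lc_c_rc_22_3 lc_c_rc_7_5 lc_c_Cert_tree lc_c_rc_26_4 lc_c_rc_22_5 lc_c_Cert_tree lc_c_rc_11_1 lc_c_rc_14_2 lc_c_rc_13_2 lc_c_rc_2_3 lc_c_rc_24_6 lc_c_rc_7_3 lc_c_Cert_tree lc_c_rc_26_4 lc_c_rc_12_12 lc_c_rc_26_2 lc_c_rc_7_5 lc_c_rc_11_1 lc_c_rc_11_1 lc_c_rc_2_3 lc_c_rc_26_2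 lc_c_rc_23_0 lc_c_rc_7_1 lc_c_rc_13_2 lc_c_rc_7_1 lc_c_rc_13_0 lc_c_rc_13_2 lc_c_rc_2_3 lc_c_rc_26_2 lc_c_rc_13_2 lc_c_rc_22_5 lc_c_rc_26_4 lc_c_rc_13_0 lc_c_rc_22_3 lc_c_rc_13_2 lc_c_rc_26_10 lc_c_rc_26_2 lc_c_rc_24_8 lc_c_rc_13_0 lc_c_rc_14_2 lc_c_rc_24_2 lc_c_rc_24_8 lc_c_rc_23_5 lc_c_rc_26_2) (@D3.rec (fun _ => (Cert rels S Gen.c)) lc_c_rc_2_3 lc_c_rc_7_3 lc_c_rc_7_1 lc_c_rc_13_2 lc_c_rc_2_3 lc_c_rc_13_0 lc_c_rc_14_0 lc_c_rc_7_5 lc_c_rc_2_3 lc_c_rc_7_5 lc_c_Cert_tree lc_c_rc_24_2 lc_c_rc_22_5 lc_c_rc_11_1 lc_c_rc_22_9 lc_c_rc_22_7 lc_c_rc_13_2 lc_c_rc_7_5 lc_c_rc_14_2 lc_c_rc_22_7 lc_c_rc_24_4 lc_c_rc_22_5 lc_c_rc_24_2 lc_c_rc_2_3 lc_c_rc_11_1 lc_c_rc_11_1 lc_c_rc_13_2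 lc_c_rc_7_5 lc_c_rc_24_8 lc_c_rc_22_3 lc_c_rc_13_2 lc_c_rc_11_1 lc_c_rc_11_1 lc_c_rc_13_2 lc_c_Cert_tree lc_c_rc_11_1 lc_c_rc_22_5 lc_c_rc_7_3 lc_c_rc_7_3 lc_c_rc_13_2 lc_c_rc_24_4 lc_c_rc_12_2 lc_c_rc_14_2 lc_c_rc_25_1 lc_c_rc_23_0 lc_c_rc_11_1 lc_c_rc_13_2 lc_c_rc_11_1 lc_c_rc_24_6 lc_c_rc_13_0 lc_c_rc_2_1 lc_c_rc_7_3 lc_c_rc_11_1 lc_c_rc_11_1 lc_c_rc_26_2 lc_c_rc_13_2 lc_c_rc_22_3 lc_c_rc_24_2 lc_c_rc_11_1 lc_c_rc_11_1 lc_c_rc_13_2 lc_c_rc_22_7) (@D3.rec (fun _ => (Cert rels S Gen.c)) lc_c_rc_13_2 lc_c_rc_26_2 lc_c_rc_14_2 lc_c_rc_23_0 lc_c_rc_13_2 lc_c_rc_22_3 lc_c_rc_13_2 lc_c_rc_13_2 lc_c_rc_24_6 lc_c_rc_13_2 lc_c_rc_13_2 lc_c_rc_14_2 lc_c_rc_7_1 lc_c_rc_22_3 lc_c_rc_13_2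 lc_c_rc_23_5 lc_c_rc_12_2 lc_c_rc_22_3 lc_c_rc_7_5 lc_c_rc_11_1 lc_c_rc_26_8 lc_c_rc_25_5 lc_c_rc_13_2 lc_c_rc_11_1 lc_c_rc_11_1 lc_c_Cert_tree lc_c_rc_11_1 lc_c_rc_13_2 lc_c_rc_24_6 lc_c_rc_24_6 lc_c_rc_26_4 lc_c_rc_14_2 lc_c_rc_24_4 lc_c_rc_22_5 lc_c_rc_14_2 lc_c_rc_13_2 lc_c_rc_11_1 lc_c_rc_11_1 lc_c_rc_14_2 lc_c_rc_11_1 lc_c_rc_7_3 lc_c_rc_13_2 lc_c_rc_13_2 lc_c_rc_11_1 lc_c_rc_7_1 lc_c_rc_26_4 lc_c_rc_11_1 lc_c_rc_2_3 lc_c_rc_26_8 lc_c_rc_13_2 lc_c_rc_11_1 lc_c_rc_13_2 lc_c_rc_11_1 lc_c_rc_26_10 lc_c_rc_2_3 lc_c_rc_14_2 lc_c_rc_23_5 lc_c_rc_11_1 lc_c_rc_25_17 lc_c_rc_26_2 lc_c_rc_23_5 lc_c_rc_23_0) (@D3.rec (fun _ => (Cert rels S Gen.c)) lc_c_rc_24_4 lc_c_rc_22_9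 lc_c_rc_11_1 lc_c_rc_13_2 lc_c_rc_11_1 lc_c_rc_11_1 lc_c_rc_26_4 lc_c_rc_11_1 lc_c_rc_26_4 lc_c_rc_26_4 lc_c_rc_11_1 lc_c_rc_26_10 lc_c_rc_13_2 lc_c_rc_24_8 lc_c_rc_13_0 lc_c_rc_11_1 lc_c_rc_13_2 lc_c_rc_25_9 lc_c_rc_13_0 lc_c_rc_11_1 lc_c_rc_24_6 lc_c_rc_13_0 lc_c_rc_2_3 lc_c_rc_22_9 lc_c_rc_26_10 lc_c_rc_2_1 lc_c_rc_14_2 lc_c_rc_13_0 lc_c_rc_26_4 lc_c_rc_26_4 lc_c_rc_22_7 lc_c_rc_13_2 lc_c_rc_13_2 lc_c_rc_13_2 lc_c_Cert_tree lc_c_rc_11_1 lc_c_rc_7_5 lc_c_Cert_tree lc_c_rc_13_0 lc_c_rc_14_2 lc_c_rc_26_4 lc_c_rc_11_1 lc_c_rc_22_5 lc_c_rc_7_5 lc_c_rc_11_1 lc_c_rc_23_0 lc_c_rc_13_2 lc_c_rc_11_1 lc_c_rc_2_1 lc_c_rc_11_1 lc_c_rc_11_1 lc_c_rc_22_3 lc_c_rc_23_0 lc_c_rc_2_3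 lc_c_rc_13_2 lc_c_rc_23_0 lc_c_rc_13_2 lc_c_rc_22_3 lc_c_rc_11_1 lc_c_rc_7_3 lc_c_rc_24_4 lc_c_rc_22_3) (@D3.rec (fun _ => (Cert rels S Gen.c)) lc_c_rc_23_0 lc_c_rc_26_8 lc_c_rc_24_2 lc_c_rc_26_10 lc_c_rc_24_6 lc_c_rc_7_5 lc_c_rc_23_0 lc_c_rc_26_10 lc_c_rc_14_2 lc_c_rc_11_1 lc_c_rc_24_4 lc_c_rc_23_5 lc_c_rc_11_1 lc_c_rc_26_4 lc_c_rc_11_1 lc_c_rc_23_5 lc_c_rc_26_2 lc_c_rc_11_1 lc_c_rc_11_1 lc_c_rc_23_0 lc_c_rc_13_2 lc_c_rc_11_1 lc_c_rc_23_5 lc_c_rc_13_2 lc_c_rc_14_0 lc_c_rc_23_0 lc_c_rc_11_1 lc_c_rc_14_0 lc_c_rc_26_2 lc_c_rc_11_1 lc_c_rc_24_6 lc_c_rc_24_4 lc_c_rc_14_2 lc_c_rc_11_1 lc_c_rc_11_1 lc_c_rc_24_4 lc_c_rc_26_8 lc_c_rc_11_1 lc_c_rc_23_5 lc_c_rc_11_1 lc_c_rc_11_1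 lc_c_rc_11_1 lc_c_rc_24_6 lc_c_rc_11_1 lc_c_rc_12_2 lc_c_rc_23_5 lc_c_rc_7_3 lc_c_rc_13_2 lc_c_rc_22_3 lc_c_rc_23_5 lc_c_rc_7_5 lc_c_rc_7_3 lc_c_rc_13_2 lc_c_rc_13_2 lc_c_rc_11_1 lc_c_rc_11_1 lc_c_rc_14_0 lc_c_rc_11_1 lc_c_rc_24_8 lc_c_rc_11_1 lc_c_rc_26_4 lc_c_rc_22_5)
def ce_c_29 : D2 → D3 → (Cert rels S Gen.c) := @D2.rec (fun _ => D3 → (Cert rels S Gen.c)) (@D3.rec (fun _ => (Cert rels S Gen.c)) lc_c_rc_22_5 lc_c_rc_24_4 lc_c_rc_23_0 lc_c_rc_13_2 lc_c_rc_23_5 lc_c_rc_7_5 lc_c_rc_12_2 lc_c_rc_7_3 lc_c_rc_24_2 lc_c_rc_26_10 lc_c_rc_13_0 lc_c_rc_26_4 lc_c_rc_22_5 lc_c_rc_13_2 lc_c_rc_11_1 lc_c_rc_7_5 lc_c_rc_22_9 lc_c_rc_11_1 lc_c_rc_11_1 lc_c_rc_26_10 lc_c_rc_13_2 lc_c_rc_22_9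 lc_c_rc_23_0 lc_c_rc_23_0 lc_c_rc_2_3 lc_c_rc_13_2 lc_c_rc_22_3 lc_c_rc_22_9 lc_c_rc_23_5 lc_c_rc_13_2 lc_c_rc_26_10 lc_c_rc_11_1 lc_c_rc_14_2 lc_c_rc_7_3 lc_c_rc_24_2 lc_c_rc_23_5 lc_c_rc_22_9 lc_c_rc_11_1 lc_c_rc_11_1 lc_c_rc_23_0 lc_c_rc_13_2 lc_c_rc_2_3 lc_c_rc_24_8 lc_c_rc_26_2 lc_c_rc_24_4 lc_c_rc_26_2 lc_c_rc_24_2 lc_c_rc_7_3 lc_c_rc_7_1 lc_c_rc_24_2 lc_c_rc_24_4 lc_c_rc_26_4 lc_c_rc_11_1 lc_c_rc_11_1 lc_c_rc_13_2 lc_c_rc_22_9 lc_c_rc_7_5 lc_c_rc_26_2 lc_c_rc_11_1 lc_c_rc_11_1 lc_c_rc_11_1 lc_c_rc_23_5) (@D3.rec (fun _ => (Cert rels S Gen.c)) lc_c_rc_23_0 lc_c_rc_7_5 lc_c_rc_13_2 lc_c_rc_12_2 lc_c_rc_26_4 lc_c_rc_13_2 lc_c_rc_7_3 lc_c_rc_11_1 lc_c_rc_13_2 lc_c_rc_26_4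 lc_c_rc_11_1 lc_c_rc_23_0 lc_c_rc_13_2 lc_c_rc_11_1 lc_c_rc_26_4 lc_c_rc_13_2 lc_c_rc_26_8 lc_c_rc_26_8 lc_c_rc_24_6 lc_c_rc_11_1 lc_c_rc_13_2 lc_c_rc_24_8 lc_c_rc_22_9 lc_c_rc_11_1 lc_c_rc_13_2 lc_c_rc_7_5 lc_c_rc_7_1 lc_c_rc_12_8 lc_c_rc_13_2 lc_c_rc_26_4 lc_c_Cert_tree lc_c_rc_11_1 lc_c_rc_26_2 lc_c_rc_13_2 lc_c_rc_11_1 lc_c_rc_13_2 lc_c_rc_13_2 lc_c_rc_13_0 lc_c_rc_2_3 lc_c_rc_24_2 lc_c_Cert_tree lc_c_rc_24_4 lc_c_rc_13_2 lc_c_rc_12_12 lc_c_rc_13_2 lc_c_rc_22_5 lc_c_rc_23_0 lc_c_rc_24_4 lc_c_rc_11_1 lc_c_rc_26_8 lc_c_rc_22_5 lc_c_rc_7_5 lc_c_rc_12_14 lc_c_rc_11_1 lc_c_rc_13_2 lc_c_rc_24_4 lc_c_rc_7_3 lc_c_rc_7_1 lc_c_rc_24_2 lc_c_Cert_tree lc_c_rc_13_0 lc_c_rc_11_1)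 (@D3.rec (fun _ => (Cert rels S Gen.c)) lc_c_rc_7_5 lc_c_rc_7_5 lc_c_rc_13_2 lc_c_Cert_tree lc_c_rc_13_0 lc_c_Cert_tree lc_c_Cert_tree lc_c_Cert_tree lc_c_rc_11_1 lc_c_rc_14_2 lc_c_rc_23_0 lc_c_rc_11_1 lc_c_rc_2_3 lc_c_rc_22_9 lc_c_rc_22_5 lc_c_rc_14_2 lc_c_rc_11_1 lc_c_rc_11_1 lc_c_rc_11_1 lc_c_rc_13_2 lc_c_rc_13_2 lc_c_rc_24_2 lc_c_rc_7_3 lc_c_rc_11_1 lc_c_rc_11_1 lc_c_rc_7_5 lc_c_rc_26_2 lc_c_rc_26_2 lc_c_rc_7_1 lc_c_rc_11_1 lc_c_rc_13_0 lc_c_rc_26_8 lc_c_rc_13_2 lc_c_rc_24_6 lc_c_rc_13_2 lc_c_rc_11_1 lc_c_rc_2_1 lc_c_rc_22_3 lc_c_rc_24_4 lc_c_rc_13_2 lc_c_rc_14_2 lc_c_rc_26_2 lc_c_rc_22_9 lc_c_rc_13_2 lc_c_rc_23_0 lc_c_rc_22_3 lc_c_rc_12_2 lc_c_rc_26_4 lc_c_rc_13_2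 lc_c_rc_13_0 lc_c_rc_11_1 lc_c_rc_26_2 lc_c_rc_26_2 lc_c_rc_23_5 lc_c_rc_11_1 lc_c_rc_23_5 lc_c_rc_22_3 lc_c_rc_2_3 lc_c_rc_26_4 lc_c_rc_22_5 lc_c_rc_23_0 lc_c_rc_13_2) (@D3.rec (fun _ => (Cert rels S Gen.c)) lc_c_rc_11_1 lc_c_rc_11_1 lc_c_rc_11_1 lc_c_rc_13_0 lc_c_rc_23_5 lc_c_rc_26_10 lc_c_rc_13_0 lc_c_rc_7_3 lc_c_rc_13_2 lc_c_rc_26_8 lc_c_rc_2_3 lc_c_rc_14_2 lc_c_rc_26_2 lc_c_rc_13_2 lc_c_rc_11_1 lc_c_rc_22_9 lc_c_rc_11_1 lc_c_rc_26_8 lc_c_rc_13_2 lc_c_rc_22_5 lc_c_rc_13_2 lc_c_rc_13_0 lc_c_rc_22_9 lc_c_rc_14_2 lc_c_rc_11_1 lc_c_rc_2_3 lc_c_rc_11_1 lc_c_rc_13_0 lc_c_rc_25_1 lc_c_rc_2_3 lc_c_rc_2_3 lc_c_rc_26_4 lc_c_rc_23_0 lc_c_rc_7_3 lc_c_rc_22_5 lc_c_rc_13_2 lc_c_rc_12_2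 lc_c_rc_26_2 lc_c_rc_11_1 lc_c_rc_2_1 lc_c_rc_2_3 lc_c_Cert_tree lc_c_rc_11_1 lc_c_rc_11_1 lc_c_rc_22_5 lc_c_rc_11_1 lc_c_rc_24_6 lc_c_rc_24_6 lc_c_rc_23_5 lc_c_rc_24_4 lc_c_rc_22_5 lc_c_rc_7_5 lc_c_rc_26_4 lc_c_rc_24_6 lc_c_rc_13_2 lc_c_rc_23_5 lc_c_rc_22_7 lc_c_rc_13_2 lc_c_rc_7_5 lc_c_rc_24_2 lc_c_rc_26_4 lc_c_rc_24_4) (@D3.rec (fun _ => (Cert rels S Gen.c)) lc_c_rc_24_4 lc_c_rc_26_8 lc_c_rc_24_6 lc_c_rc_11_1 lc_c_rc_23_5 lc_c_rc_13_2 lc_c_rc_7_1 lc_c_rc_23_5 lc_c_rc_22_5 lc_c_rc_26_4 lc_c_rc_22_5 lc_c_rc_11_1 lc_c_rc_11_1 lc_c_rc_13_2 lc_c_rc_11_1 lc_c_rc_13_2 lc_c_rc_23_0 lc_c_rc_7_1 lc_c_rc_26_2 lc_c_rc_22_5 lc_c_rc_22_5 lc_c_rc_24_4 lc_c_rc_7_5 lc_c_rc_11_1 lc_c_rc_11_1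 lc_c_rc_7_5 lc_c_rc_11_1 lc_c_Cert_tree lc_c_rc_7_3 lc_c_rc_23_5 lc_c_rc_11_1 lc_c_rc_12_14 lc_c_rc_11_1 lc_c_rc_12_0 lc_c_rc_12_4 lc_c_rc_26_4 lc_c_rc_22_7 lc_c_rc_13_2 lc_c_rc_13_2 lc_c_rc_13_2 lc_c_rc_11_1 lc_c_rc_24_2 lc_c_rc_26_2 lc_c_rc_24_2 lc_c_rc_13_2 lc_c_Cert_tree lc_c_Cert_tree lc_c_rc_11_1 lc_c_rc_2_3 lc_c_rc_13_2 lc_c_rc_22_7 lc_c_rc_14_2 lc_c_rc_24_4 lc_c_rc_11_1 lc_c_rc_25_17 lc_c_rc_26_4 lc_c_rc_2_3 lc_c_rc_26_2 lc_c_rc_11_1 lc_c_rc_13_0 lc_c_rc_13_0 lc_c_rc_22_5) (@D3.rec (fun _ => (Cert rels S Gen.c)) lc_c_Cert_tree lc_c_rc_24_4 lc_c_rc_22_3 lc_c_rc_11_1 lc_c_rc_13_2 lc_c_rc_22_5 lc_c_rc_11_1 lc_c_rc_11_1 lc_c_rc_11_1 lc_c_rc_13_2 lc_c_rc_7_1 lc_c_rc_14_2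 lc_c_rc_2_3 lc_c_rc_13_2 lc_c_rc_7_3 lc_c_rc_7_5 lc_c_rc_13_2 lc_c_rc_25_17 lc_c_rc_11_1 lc_c_rc_13_2 lc_c_rc_11_1 lc_c_Cert_tree lc_c_rc_7_5 lc_c_rc_23_5 lc_c_rc_23_0 lc_c_Cert_tree lc_c_rc_13_0 lc_c_rc_24_4 lc_c_rc_13_2 lc_c_rc_22_5 lc_c_rc_11_1 lc_c_rc_22_3 lc_c_rc_13_2 lc_c_rc_11_1 lc_c_rc_7_3 lc_c_rc_26_2 lc_c_rc_7_3 lc_c_rc_13_2 lc_c_rc_24_4 lc_c_rc_11_1 lc_c_rc_22_9 lc_c_rc_2_3 lc_c_rc_22_5 lc_c_rc_11_1 lc_c_rc_23_5 lc_c_rc_12_0 lc_c_rc_22_3 lc_c_rc_13_2 lc_c_rc_22_7 lc_c_rc_22_5 lc_c_rc_22_3 lc_c_rc_11_1 lc_c_rc_7_5 lc_c_rc_11_1 lc_c_rc_7_5 lc_c_rc_13_2 lc_c_rc_22_7 lc_c_rc_13_2 lc_c_rc_7_1 lc_c_rc_13_2 lc_c_rc_24_8 lc_c_rc_11_1) (@D3.rec (fun _ => (Cert rels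 S Gen.c)) lc_c_rc_26_10 lc_c_rc_2_1 lc_c_rc_13_2 lc_c_rc_7_1 lc_c_rc_13_2 lc_c_rc_25_13 lc_c_rc_11_1 lc_c_rc_14_2 lc_c_rc_26_10 lc_c_rc_22_9 lc_c_rc_26_2 lc_c_rc_11_1 lc_c_rc_13_2 lc_c_rc_13_2 lc_c_rc_26_10 lc_c_rc_7_1 lc_c_rc_24_2 lc_c_rc_13_2 lc_c_rc_11_1 lc_c_rc_11_1 lc_c_rc_24_4 lc_c_rc_23_0 lc_c_rc_7_5 lc_c_rc_13_2 lc_c_rc_13_2 lc_c_rc_11_1 lc_c_rc_11_1 lc_c_rc_25_1 lc_c_rc_26_10 lc_c_rc_22_3 lc_c_rc_22_9 lc_c_rc_22_9 lc_c_rc_22_5 lc_c_rc_25_1 lc_c_rc_11_1 lc_c_rc_2_1 lc_c_rc_13_2 lc_c_rc_11_1 lc_c_rc_22_7 lc_c_rc_11_1 lc_c_rc_25_17 lc_c_rc_26_4 lc_c_rc_24_4 lc_c_rc_11_1 lc_c_rc_7_1 lc_c_rc_22_3 lc_c_rc_13_2 lc_c_rc_26_10 lc_c_rc_11_1 lc_c_rc_13_0 lc_c_rc_2_3 lc_c_rc_11_1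 lc_c_rc_13_2 lc_c_rc_13_2 lc_c_rc_22_9 lc_c_rc_13_2 lc_c_rc_7_5 lc_c_rc_24_6 lc_c_rc_22_5 lc_c_rc_13_2 lc_c_rc_12_14 lc_c_rc_26_4) (@D3.rec (fun _ => (Cert rels S Gen.c)) lc_c_rc_24_8 lc_c_rc_23_0 lc_c_rc_2_1 lc_c_rc_7_5 lc_c_rc_13_0 lc_c_rc_26_4 lc_c_rc_7_1 lc_c_rc_13_2 lc_c_rc_11_1 lc_c_rc_11_1 lc_c_rc_26_2 lc_c_rc_26_10 lc_c_rc_24_2 lc_c_rc_22_9 lc_c_rc_26_2 lc_c_rc_13_2 lc_c_rc_24_4 lc_c_rc_13_2 lc_c_rc_11_1 lc_c_rc_13_2 lc_c_rc_13_2 lc_c_rc_11_1 lc_c_rc_7_3 lc_c_rc_7_3 lc_c_rc_11_1 lc_c_rc_11_1 lc_c_rc_24_4 lc_c_rc_13_2 lc_c_rc_11_1 lc_c_rc_23_0 lc_c_rc_7_5 lc_c_rc_24_4 lc_c_rc_23_0 lc_c_rc_13_2 lc_c_rc_14_2 lc_c_rc_24_6 lc_c_rc_11_1 lc_c_rc_2_1 lc_c_rc_13_2 lc_c_rc_11_1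 lc_c_rc_24_2 lc_c_rc_23_0 lc_c_rc_22_7 lc_c_rc_13_2 lc_c_rc_13_0 lc_c_rc_13_0 lc_c_rc_23_0 lc_c_rc_23_0 lc_c_rc_2_3 lc_c_rc_14_2 lc_c_rc_7_3 lc_c_rc_7_3 lc_c_rc_22_5 lc_c_rc_26_4 lc_c_rc_25_17 lc_c_rc_13_2 lc_c_rc_22_5 lc_c_rc_14_2 lc_c_rc_22_5 lc_c_rc_13_2 lc_c_rc_11_1 lc_c_rc_2_1) (@D3.rec (fun _ => (Cert rels S Gen.c)) lc_c_rc_23_5 lc_c_rc_13_2 lc_c_rc_26_8 lc_c_rc_13_0 lc_c_rc_26_2 lc_c_rc_26_10 lc_c_rc_13_0 lc_c_rc_11_1 lc_c_rc_12_14 lc_c_rc_22_3 lc_c_rc_23_0 lc_c_rc_2_3 lc_c_rc_7_3 lc_c_rc_12_4 lc_c_rc_24_2 lc_c_rc_22_7 lc_c_rc_24_8 lc_c_rc_11_1 lc_c_rc_23_5 lc_c_rc_22_5 lc_c_rc_23_5 lc_c_rc_13_0 lc_c_rc_26_2 lc_c_rc_14_2 lc_c_rc_23_0 lc_c_rc_11_1 lc_c_rc_11_1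 lc_c_Cert_tree lc_c_rc_26_4 lc_c_rc_11_1 lc_c_rc_22_3 lc_c_rc_11_1 lc_c_rc_11_1 lc_c_rc_13_0 lc_c_Cert_tree lc_c_rc_11_1 lc_c_rc_13_0 lc_c_rc_7_5 lc_c_rc_2_3 lc_c_rc_13_2 lc_c_rc_13_2 lc_c_rc_22_3 lc_c_rc_11_1 lc_c_rc_2_1 lc_c_rc_12_2 lc_c_rc_23_0 lc_c_rc_13_2 lc_c_rc_22_9 lc_c_rc_11_1 lc_c_rc_11_1 lc_c_rc_24_2 lc_c_rc_22_5 lc_c_rc_22_5 lc_c_rc_11_1 lc_c_rc_13_2 lc_c_rc_22_5 lc_c_rc_14_2 lc_c_rc_11_1 lc_c_rc_22_9 lc_c_rc_13_2 lc_c_rc_22_3 lc_c_rc_22_7) (@D3.rec (fun _ => (Cert rels S Gen.c)) lc_c_rc_7_1 lc_c_rc_11_1 lc_c_rc_11_1 lc_c_rc_13_2 lc_c_rc_2_3 lc_c_rc_26_4 lc_c_rc_22_9 lc_c_rc_11_1 lc_c_rc_11_1 lc_c_rc_7_5 lc_c_rc_22_5 lc_c_rc_7_3 lc_c_rc_11_1 lc_c_rc_11_1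 lc_c_rc_22_3 lc_c_rc_23_0 lc_c_rc_13_2 lc_c_rc_13_2 lc_c_rc_22_5 lc_c_rc_11_1 lc_c_rc_24_4 lc_c_rc_7_1 lc_c_rc_13_2 lc_c_rc_22_9 lc_c_rc_13_2 lc_c_rc_11_1 lc_c_rc_7_3 lc_c_rc_22_5 lc_c_rc_7_5 lc_c_rc_2_1 lc_c_rc_11_1 lc_c_rc_11_1 lc_c_rc_13_2 lc_c_rc_14_2 lc_c_rc_11_1 lc_c_rc_24_2 lc_c_rc_2_3 lc_c_rc_11_1 lc_c_rc_13_2 lc_c_rc_26_10 lc_c_rc_14_2 lc_c_rc_13_0 lc_c_rc_26_4 lc_c_rc_11_1 lc_c_rc_11_1 lc_c_rc_13_2 lc_c_rc_12_0 lc_c_rc_11_1 lc_c_rc_13_2 lc_c_rc_22_3 lc_c_rc_7_1 lc_c_rc_13_2 lc_c_rc_2_1 lc_c_rc_13_2 lc_c_rc_7_5 lc_c_rc_14_0 lc_c_rc_14_2 lc_c_rc_13_0 lc_c_rc_14_0 lc_c_rc_14_2 lc_c_rc_23_0 lc_c_rc_23_0) (@D3.rec (fun _ => (Cert rels S Gen.c)) lc_c_rc_23_5 lc_c_rc_26_4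 lc_c_rc_11_1 lc_c_rc_25_5 lc_c_rc_24_4 lc_c_rc_23_5 lc_c_rc_13_2 lc_c_Cert_tree lc_c_rc_2_3 lc_c_rc_13_2 lc_c_rc_23_0 lc_c_rc_26_2 lc_c_rc_23_5 lc_c_rc_13_0 lc_c_rc_24_6 lc_c_rc_11_1 lc_c_rc_13_0 lc_c_rc_13_0 lc_c_rc_11_1 lc_c_rc_11_1 lc_c_rc_13_2 lc_c_rc_2_3 lc_c_rc_2_3 lc_c_rc_13_0 lc_c_rc_11_1 lc_c_rc_11_1 lc_c_rc_13_2 lc_c_rc_11_1 lc_c_Cert_tree lc_c_rc_12_0 lc_c_rc_14_0 lc_c_rc_11_1 lc_c_rc_13_2 lc_c_rc_13_2 lc_c_rc_13_2 lc_c_rc_13_2 lc_c_rc_11_1 lc_c_rc_11_1 lc_c_rc_11_1 lc_c_rc_14_2 lc_c_rc_7_5 lc_c_rc_14_2 lc_c_rc_22_9 lc_c_rc_7_3 lc_c_rc_26_10 lc_c_rc_14_0 lc_c_rc_14_2 lc_c_rc_13_2 lc_c_rc_26_10 lc_c_rc_13_2 lc_c_rc_13_2 lc_c_Cert_tree lc_c_rc_13_0 lc_c_rc_26_8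 lc_c_rc_25_9 lc_c_rc_11_1 lc_c_rc_25_9 lc_c_rc_23_0 lc_c_Cert_tree lc_c_rc_11_1 lc_c_rc_13_2 lc_c_rc_14_0) (@D3.rec (fun _ => (Cert rels S Gen.c)) lc_c_rc_26_2 lc_c_rc_2_3 lc_c_rc_22_3 lc_c_rc_7_3 lc_c_rc_11_1 lc_c_rc_13_0 lc_c_rc_7_5 lc_c_rc_23_0 lc_c_rc_13_2 lc_c_rc_13_2 lc_c_rc_11_1 lc_c_rc_11_1 lc_c_rc_7_3 lc_c_rc_13_2 lc_c_rc_13_2 lc_c_rc_22_9 lc_c_rc_22_9 lc_c_rc_13_2 lc_c_rc_14_0 lc_c_rc_7_5 lc_c_rc_14_2 lc_c_rc_24_4 lc_c_rc_11_1 lc_c_rc_26_8 lc_c_rc_26_8 lc_c_rc_11_1 lc_c_rc_11_1 lc_c_rc_11_1 lc_c_rc_11_1 lc_c_rc_11_1 lc_c_rc_7_3 lc_c_rc_23_5 lc_c_rc_13_2 lc_c_rc_24_2 lc_c_rc_11_1 lc_c_rc_14_2 lc_c_rc_24_6 lc_c_rc_14_2 lc_c_rc_23_5 lc_c_rc_11_1 lc_c_rc_13_2 lc_c_rc_24_6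 lc_c_rc_25_5 lc_c_rc_11_1 lc_c_rc_13_2 lc_c_rc_24_6 lc_c_rc_23_5 lc_c_rc_23_0 lc_c_rc_23_5 lc_c_rc_13_2 lc_c_rc_11_1 lc_c_rc_25_9 lc_c_rc_23_5 lc_c_rc_11_1 lc_c_rc_11_1 lc_c_rc_11_1 lc_c_rc_23_5 lc_c_rc_24_8 lc_c_rc_11_1 lc_c_rc_13_0 lc_c_rc_22_5 lc_c_rc_7_3) (@D3.rec (fun _ => (Cert rels S Gen.c)) lc_c_rc_14_0 lc_c_rc_24_2 lc_c_rc_14_2 lc_c_rc_23_5 lc_c_rc_26_8 lc_c_rc_12_14 lc_c_rc_22_5 lc_c_rc_12_0 lc_c_rc_11_1 lc_c_rc_22_3 lc_c_rc_22_5 lc_c_rc_26_4 lc_c_rc_26_4 lc_c_rc_11_1 lc_c_rc_24_4 lc_c_rc_23_5 lc_c_rc_13_2 lc_c_rc_11_1 lc_c_rc_23_5 lc_c_rc_13_2 lc_c_rc_13_2 lc_c_rc_13_2 lc_c_rc_13_2 lc_c_rc_13_2 lc_c_rc_24_8 lc_c_rc_13_0 lc_c_rc_2_3 lc_c_rc_2_3 lc_c_rc_11_1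 lc_c_rc_13_2 lc_c_rc_7_3 lc_c_rc_24_2 lc_c_rc_11_1 lc_c_rc_23_0 lc_c_rc_23_0 lc_c_rc_13_2 lc_c_rc_11_1 lc_c_rc_11_1 lc_c_rc_11_1 lc_c_rc_23_0 lc_c_rc_7_5 lc_c_rc_7_1 lc_c_rc_11_1 lc_c_rc_26_8 lc_c_rc_13_2 lc_c_rc_23_0 lc_c_rc_14_2 lc_c_rc_25_5 lc_c_rc_23_0 lc_c_rc_14_2 lc_c_rc_13_2 lc_c_rc_13_0 lc_c_rc_23_0 lc_c_rc_23_0 lc_c_rc_7_5 lc_c_rc_7_1 lc_c_rc_14_0 lc_c_rc_11_1 lc_c_rc_11_1 lc_c_Cert_tree lc_c_rc_11_1 lc_c_rc_11_1) (@D3.rec (fun _ => (Cert rels S Gen.c)) lc_c_rc_22_5 lc_c_rc_24_6 lc_c_rc_22_5 lc_c_rc_23_5 lc_c_rc_7_5 lc_c_rc_22_3 lc_c_Cert_tree lc_c_rc_26_4 lc_c_rc_13_2 lc_c_rc_25_17 lc_c_rc_22_3 lc_c_rc_7_5 lc_c_rc_11_1 lc_c_rc_13_2 lc_c_rc_22_5 lc_c_rc_14_2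 lc_c_rc_13_2 lc_c_rc_22_7 lc_c_rc_13_2 lc_c_rc_11_1 lc_c_rc_26_2 lc_c_rc_26_10 lc_c_rc_13_2 lc_c_rc_11_1 lc_c_rc_12_0 lc_c_rc_24_4 lc_c_rc_23_5 lc_c_rc_22_3 lc_c_rc_24_6 lc_c_rc_22_7 lc_c_rc_2_3 lc_c_rc_11_1 lc_c_rc_26_8 lc_c_rc_11_1 lc_c_rc_11_1 lc_c_rc_26_10 lc_c_rc_11_1 lc_c_rc_13_0 lc_c_rc_13_2 lc_c_rc_11_1 lc_c_rc_23_0 lc_c_rc_11_1 lc_c_rc_7_3 lc_c_rc_11_1 lc_c_rc_14_2 lc_c_rc_22_5 lc_c_rc_11_1 lc_c_rc_13_2 lc_c_rc_24_2 lc_c_rc_13_2 lc_c_rc_23_0 lc_c_rc_7_5 lc_c_rc_14_2 lc_c_rc_13_2 lc_c_rc_13_2 lc_c_rc_23_5 lc_c_rc_24_4 lc_c_rc_24_4 lc_c_rc_22_3 lc_c_rc_14_2 lc_c_rc_11_1 lc_c_rc_24_4) (@D3.rec (fun _ => (Cert rels S Gen.c)) lc_c_rc_14_2 lc_c_rc_22_3 lc_c_rc_13_0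 lc_c_rc_26_2 lc_c_rc_23_0 lc_c_rc_26_10 lc_c_rc_24_2 lc_c_rc_11_1 lc_c_rc_12_2 lc_c_rc_24_8 lc_c_rc_2_3 lc_c_rc_2_1 lc_c_Cert_tree lc_c_rc_11_1 lc_c_rc_13_2 lc_c_rc_22_3 lc_c_rc_26_8 lc_c_rc_26_10 lc_c_rc_2_3 lc_c_rc_13_0 lc_c_rc_11_1 lc_c_rc_26_2 lc_c_Cert_tree lc_c_rc_13_2 lc_c_rc_24_4 lc_c_rc_7_5 lc_c_rc_7_1 lc_c_rc_22_3 lc_c_rc_22_3 lc_c_rc_11_1 lc_c_rc_13_2 lc_c_rc_11_1 lc_c_rc_13_2 lc_c_rc_2_3 lc_c_rc_13_2 lc_c_rc_11_1 lc_c_rc_26_2 lc_c_rc_11_1 lc_c_rc_14_2 lc_c_rc_22_5 lc_c_rc_26_4 lc_c_rc_22_5 lc_c_rc_14_0 lc_c_rc_24_4 lc_c_rc_13_2 lc_c_rc_11_1 lc_c_rc_14_2 lc_c_rc_14_2 lc_c_rc_14_2 lc_c_rc_23_5 lc_c_rc_11_1 lc_c_rc_2_3 lc_c_rc_26_2 lc_c_rc_23_0 lc_c_rc_26_10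 lc_c_rc_24_4 lc_c_rc_22_9 lc_c_rc_11_1 lc_c_rc_13_0 lc_c_rc_14_2 lc_c_rc_13_2 lc_c_rc_14_2) (@D3.rec (fun _ => (Cert rels S Gen.c)) lc_c_rc_24_6 lc_c_rc_25_5 lc_c_rc_26_2 lc_c_rc_7_5 lc_c_rc_13_2 lc_c_rc_26_10 lc_c_rc_11_1 lc_c_rc_2_3 lc_c_rc_14_2 lc_c_rc_24_4 lc_c_rc_24_4 lc_c_rc_7_1 lc_c_rc_26_10 lc_c_rc_7_5 lc_c_rc_7_3 lc_c_rc_2_1 lc_c_rc_11_1 lc_c_rc_7_1 lc_c_rc_26_8 lc_c_rc_11_1 lc_c_rc_14_2 lc_c_rc_13_2 lc_c_rc_11_1 lc_c_rc_22_5 lc_c_rc_13_0 lc_c_rc_24_2 lc_c_rc_14_2 lc_c_rc_2_3 lc_c_rc_23_5 lc_c_rc_7_1 lc_c_rc_14_2 lc_c_rc_11_1 lc_c_rc_26_10 lc_c_rc_22_3 lc_c_rc_14_2 lc_c_rc_11_1 lc_c_rc_11_1 lc_c_rc_26_8 lc_c_rc_11_1 lc_c_rc_26_10 lc_c_rc_26_10 lc_c_rc_23_0 lc_c_rc_22_7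 lc_c_rc_11_1 lc_c_rc_11_1 lc_c_rc_14_2 lc_c_rc_11_1 lc_c_rc_12_0 lc_c_rc_11_1 lc_c_rc_11_1 lc_c_rc_11_1 lc_c_rc_7_3 lc_c_rc_22_7 lc_c_rc_14_2 lc_c_rc_13_2 lc_c_Cert_tree lc_c_rc_7_5 lc_c_rc_14_2 lc_c_rc_26_4 lc_c_rc_11_1 lc_c_rc_22_5 lc_c_rc_24_4) (@D3.rec (fun _ => (Cert rels S Gen.c)) lc_c_rc_11_1 lc_c_rc_26_8 lc_c_rc_7_3 lc_c_rc_11_1 lc_c_rc_11_1 lc_c_rc_25_9 lc_c_rc_11_1 lc_c_rc_11_1 lc_c_rc_11_1 lc_c_rc_24_8 lc_c_rc_22_3 lc_c_rc_13_2 lc_c_rc_22_7 lc_c_rc_11_1 lc_c_rc_22_5 lc_c_rc_26_4 lc_c_rc_25_13 lc_c_rc_7_5 lc_c_rc_23_0 lc_c_rc_13_2 lc_c_rc_13_2 lc_c_rc_11_1 lc_c_rc_24_6 lc_c_rc_14_2 lc_c_rc_13_2 lc_c_rc_13_2 lc_c_rc_22_3 lc_c_rc_12_2 lc_c_rc_2_3 lc_c_rc_14_2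 lc_c_rc_26_4 lc_c_rc_13_2 lc_c_rc_24_4 lc_c_rc_11_1 lc_c_rc_13_2 lc_c_rc_13_2 lc_c_rc_26_2 lc_c_rc_23_0 lc_c_rc_26_4 lc_c_rc_23_5 lc_c_rc_2_1 lc_c_rc_26_10 lc_c_rc_11_1 lc_c_rc_26_4 lc_c_rc_11_1 lc_c_rc_24_2 lc_c_rc_11_1 lc_c_rc_22_3 lc_c_rc_13_2 lc_c_rc_23_5 lc_c_rc_26_2 lc_c_rc_23_5 lc_c_rc_13_2 lc_c_rc_7_1 lc_c_rc_7_3 lc_c_rc_11_1 lc_c_rc_11_1 lc_c_rc_11_1 lc_c_rc_24_4 lc_c_rc_11_1 lc_c_rc_7_3 lc_c_rc_13_2) (@D3.rec (fun _ => (Cert rels S Gen.c)) lc_c_rc_13_2 lc_c_rc_14_2 lc_c_rc_22_5 lc_c_rc_23_5 lc_c_rc_22_9 lc_c_rc_11_1 lc_c_rc_13_2 lc_c_rc_23_5 lc_c_rc_11_1 lc_c_rc_23_0 lc_c_rc_7_3 lc_c_rc_7_5 lc_c_rc_7_5 lc_c_rc_11_1 lc_c_rc_11_1 lc_c_rc_24_2 lc_c_rc_23_5 lc_c_rc_13_2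 lc_c_rc_12_0 lc_c_rc_13_0 lc_c_rc_24_4 lc_c_rc_13_2 lc_c_rc_7_3 lc_c_rc_26_10 lc_c_rc_13_2 lc_c_rc_7_5 lc_c_rc_2_3 lc_c_rc_13_2 lc_c_rc_14_0 lc_c_rc_11_1 lc_c_rc_11_1 lc_c_rc_7_5 lc_c_rc_7_3 lc_c_rc_13_2 lc_c_rc_13_2 lc_c_rc_24_4 lc_c_rc_22_7 lc_c_rc_7_3 lc_c_rc_13_2 lc_c_rc_24_8 lc_c_rc_13_2 lc_c_rc_11_1 lc_c_rc_11_1 lc_c_rc_7_5 lc_c_rc_13_0 lc_c_rc_23_5 lc_c_rc_22_7 lc_c_rc_11_1 lc_c_rc_26_4 lc_c_rc_13_2 lc_c_rc_11_1 lc_c_rc_22_5 lc_c_rc_7_3 lc_c_rc_24_6 lc_c_rc_11_1 lc_c_rc_2_3 lc_c_rc_14_2 lc_c_rc_22_3 lc_c_rc_23_0 lc_c_rc_11_1 lc_c_rc_11_1 lc_c_rc_11_1) (@D3.rec (fun _ => (Cert rels S Gen.c)) lc_c_rc_13_2 lc_c_rc_22_3 lc_c_rc_22_3 lc_c_rc_23_5 lc_c_rc_7_5 lc_c_rc_11_1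 lc_c_rc_26_4 lc_c_rc_13_0 lc_c_rc_24_6 lc_c_rc_11_1 lc_c_rc_2_3 lc_c_rc_26_2 lc_c_rc_26_4 lc_c_rc_13_2 lc_c_rc_13_2 lc_c_rc_13_2 lc_c_rc_11_1 lc_c_rc_26_2 lc_c_rc_14_2 lc_c_rc_14_2 lc_c_rc_23_5 lc_c_rc_13_2 lc_c_rc_12_0 lc_c_rc_11_1 lc_c_rc_11_1 lc_c_rc_11_1 lc_c_rc_2_1 lc_c_rc_26_10 lc_c_rc_7_1 lc_c_rc_13_0 lc_c_rc_2_1 lc_c_rc_14_0 lc_c_rc_22_5 lc_c_rc_22_9 lc_c_rc_14_2 lc_c_rc_11_1 lc_c_rc_11_1 lc_c_rc_2_1 lc_c_rc_7_3 lc_c_rc_23_0 lc_c_rc_22_5 lc_c_rc_13_2 lc_c_rc_13_2 lc_c_rc_22_7 lc_c_rc_26_10 lc_c_rc_26_2 lc_c_rc_13_2 lc_c_rc_13_2 lc_c_rc_14_2 lc_c_rc_23_5 lc_c_rc_11_1 lc_c_Cert_tree lc_c_rc_24_4 lc_c_rc_23_0 lc_c_rc_22_3 lc_c_rc_24_8 lc_c_rc_14_2 lc_c_rc_7_5 lc_c_rc_13_2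 lc_c_rc_2_3 lc_c_rc_13_2 lc_c_rc_22_5) (@D3.rec (fun _ => (Cert rels S Gen.c)) lc_c_rc_25_1 lc_c_rc_24_4 lc_c_rc_13_2 lc_c_rc_11_1 lc_c_rc_23_0 lc_c_rc_13_0 lc_c_rc_22_3 lc_c_rc_11_1 lc_c_rc_11_1 lc_c_rc_13_0 lc_c_rc_11_1 lc_c_rc_13_2 lc_c_rc_11_1 lc_c_rc_26_8 lc_c_rc_13_0 lc_c_rc_13_0 lc_c_rc_14_2 lc_c_rc_13_2 lc_c_rc_24_2 lc_c_rc_13_2 lc_c_rc_11_1 lc_c_rc_26_4 lc_c_Cert_tree lc_c_rc_11_1 lc_c_rc_22_5 lc_c_rc_26_8 lc_c_rc_11_1 lc_c_rc_13_2 lc_c_rc_22_9 lc_c_rc_11_1 lc_c_rc_13_2 lc_c_rc_22_3 lc_c_rc_7_3 lc_c_rc_13_2 lc_c_rc_26_2 lc_c_rc_11_1 lc_c_rc_26_4 lc_c_rc_13_2 lc_c_rc_13_2 lc_c_rc_24_6 lc_c_rc_22_7 lc_c_rc_13_2 lc_c_rc_11_1 lc_c_rc_11_1 lc_c_rc_11_1 lc_c_rc_7_3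 lc_c_rc_24_6 lc_c_rc_24_6 lc_c_rc_2_3 lc_c_rc_22_3 lc_c_rc_13_2 lc_c_rc_23_5 lc_c_rc_13_2 lc_c_rc_2_3 lc_c_rc_7_3 lc_c_rc_13_0 lc_c_rc_11_1 lc_c_rc_7_1 lc_c_rc_24_4 lc_c_rc_13_2 lc_c_rc_13_2 lc_c_rc_7_5) (@D3.rec (fun _ => (Cert rels S Gen.c)) lc_c_rc_2_3 lc_c_rc_13_2 lc_c_rc_14_2 lc_c_rc_7_5 lc_c_rc_22_7 lc_c_rc_12_0 lc_c_rc_22_7 lc_c_rc_2_3 lc_c_rc_13_2 lc_c_rc_11_1 lc_c_rc_13_2 lc_c_rc_11_1 lc_c_rc_2_3 lc_c_rc_24_2 lc_c_rc_7_1 lc_c_Cert_tree lc_c_rc_13_2 lc_c_rc_14_2 lc_c_rc_11_1 lc_c_rc_14_2 lc_c_rc_24_6 lc_c_rc_22_5 lc_c_rc_13_2 lc_c_rc_24_2 lc_c_rc_24_6 lc_c_rc_13_2 lc_c_rc_11_1 lc_c_rc_24_8 lc_c_rc_24_2 lc_c_rc_7_5 lc_c_rc_14_2 lc_c_rc_13_2 lc_c_rc_25_1 lc_c_rc_24_4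 lc_c_rc_7_3 lc_c_rc_13_2 lc_c_rc_22_7 lc_c_rc_11_1 lc_c_rc_22_7 lc_c_rc_7_1 lc_c_rc_13_2 lc_c_rc_26_10 lc_c_rc_11_1 lc_c_rc_2_1 lc_c_rc_11_1 lc_c_rc_14_2 lc_c_rc_7_1 lc_c_rc_13_2 lc_c_rc_22_3 lc_c_rc_23_0 lc_c_rc_23_0 lc_c_rc_12_14 lc_c_rc_26_10 lc_c_rc_11_1 lc_c_rc_26_2 lc_c_rc_14_2 lc_c_rc_7_3 lc_c_rc_25_5 lc_c_rc_13_2 lc_c_rc_24_4 lc_c_rc_13_2 lc_c_rc_13_0) (@D3.rec (fun _ => (Cert rels S Gen.c)) lc_c_rc_11_1 lc_c_rc_7_3 lc_c_rc_22_9 lc_c_rc_22_3 lc_c_rc_13_2 lc_c_rc_11_1 lc_c_rc_11_1 lc_c_rc_13_2 lc_c_rc_7_1 lc_c_rc_2_3 lc_c_rc_24_2 lc_c_rc_7_5 lc_c_rc_13_2 lc_c_rc_13_0 lc_c_rc_2_3 lc_c_rc_11_1 lc_c_rc_26_10 lc_c_rc_22_3 lc_c_rc_14_2 lc_c_rc_26_4 lc_c_rc_7_1 lc_c_rc_13_2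 lc_c_rc_13_2 lc_c_rc_13_0 lc_c_rc_12_2 lc_c_rc_11_1 lc_c_rc_24_2 lc_c_rc_22_5 lc_c_rc_11_1 lc_c_rc_23_0 lc_c_rc_7_5 lc_c_rc_11_1 lc_c_rc_11_1 lc_c_rc_24_8 lc_c_rc_13_2 lc_c_rc_25_1 lc_c_rc_22_5 lc_c_rc_26_2 lc_c_rc_14_2 lc_c_rc_14_0 lc_c_rc_26_2 lc_c_rc_24_8 lc_c_rc_13_2 lc_c_rc_11_1 lc_c_rc_11_1 lc_c_rc_7_3 lc_c_rc_11_1 lc_c_rc_24_2 lc_c_rc_7_1 lc_c_rc_2_3 lc_c_rc_11_1 lc_c_rc_11_1 lc_c_rc_13_2 lc_c_rc_13_2 lc_c_rc_24_2 lc_c_rc_11_1 lc_c_rc_11_1 lc_c_rc_11_1 lc_c_rc_26_10 lc_c_rc_23_5 lc_c_rc_13_0 lc_c_rc_13_2) (@D3.rec (fun _ => (Cert rels S Gen.c)) lc_c_rc_11_1 lc_c_rc_14_2 lc_c_rc_14_2 lc_c_rc_2_3 lc_c_rc_11_1 lc_c_rc_22_3 lc_c_rc_14_2 lc_c_rc_11_1 lc_c_rc_11_1 lc_c_rc_12_2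 lc_c_rc_2_3 lc_c_rc_2_3 lc_c_rc_22_3 lc_c_rc_13_2 lc_c_rc_11_1 lc_c_rc_13_2 lc_c_rc_23_5 lc_c_rc_26_4 lc_c_rc_13_2 lc_c_rc_7_5 lc_c_rc_26_4 lc_c_rc_11_1 lc_c_rc_13_0 lc_c_rc_14_2 lc_c_rc_14_0 lc_c_rc_2_3 lc_c_rc_2_3 lc_c_rc_24_2 lc_c_rc_7_3 lc_c_rc_11_1 lc_c_rc_7_5 lc_c_rc_25_1 lc_c_rc_24_4 lc_c_rc_22_5 lc_c_rc_13_2 lc_c_rc_13_2 lc_c_rc_11_1 lc_c_rc_13_2 lc_c_rc_24_2 lc_c_rc_22_9 lc_c_rc_22_3 lc_c_rc_11_1 lc_c_rc_14_2 lc_c_rc_24_2 lc_c_rc_25_1 lc_c_rc_11_1 lc_c_rc_26_10 lc_c_rc_13_2 lc_c_rc_12_2 lc_c_rc_12_2 lc_c_rc_26_2 lc_c_rc_14_2 lc_c_rc_14_2 lc_c_rc_23_5 lc_c_rc_13_2 lc_c_rc_26_2 lc_c_rc_11_1 lc_c_rc_2_3 lc_c_rc_11_1 lc_c_rc_23_5 lc_c_rc_12_0 lc_c_rc_26_2) (@D3.rec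 (fun _ => (Cert rels S Gen.c)) lc_c_rc_7_5 lc_c_rc_11_1 lc_c_rc_23_0 lc_c_rc_11_1 lc_c_rc_26_2 lc_c_rc_23_0 lc_c_rc_26_4 lc_c_rc_11_1 lc_c_rc_26_2 lc_c_rc_13_2 lc_c_rc_22_9 lc_c_rc_13_2 lc_c_rc_7_1 lc_c_rc_13_2 lc_c_rc_26_8 lc_c_rc_13_2 lc_c_rc_13_0 lc_c_rc_13_2 lc_c_rc_24_6 lc_c_rc_7_5 lc_c_rc_11_1 lc_c_rc_13_2 lc_c_rc_26_8 lc_c_rc_2_3 lc_c_rc_11_1 lc_c_rc_13_0 lc_c_rc_24_2 lc_c_rc_23_0 lc_c_rc_11_1 lc_c_rc_25_1 lc_c_rc_7_1 lc_c_rc_24_2 lc_c_rc_11_1 lc_c_rc_13_0 lc_c_rc_11_1 lc_c_rc_24_4 lc_c_rc_26_10 lc_c_rc_2_1 lc_c_rc_26_4 lc_c_rc_22_9 lc_c_rc_14_2 lc_c_rc_13_2 lc_c_rc_24_2 lc_c_rc_26_2 lc_c_rc_26_10 lc_c_rc_26_2 lc_c_rc_11_1 lc_c_rc_24_4 lc_c_rc_13_2 lc_c_rc_26_4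 lc_c_rc_11_1 lc_c_rc_25_5 lc_c_rc_24_2 lc_c_rc_11_1 lc_c_rc_26_8 lc_c_rc_13_2 lc_c_rc_24_4 lc_c_rc_11_1 lc_c_rc_25_1 lc_c_rc_22_9 lc_c_rc_2_1 lc_c_rc_13_0) (@D3.rec (fun _ => (Cert rels S Gen.c)) lc_c_rc_11_1 lc_c_rc_23_5 lc_c_rc_13_2 lc_c_rc_14_2 lc_c_rc_13_0 lc_c_rc_14_2 lc_c_rc_13_2 lc_c_rc_26_2 lc_c_rc_13_0 lc_c_rc_13_0 lc_c_rc_23_5 lc_c_rc_26_2 lc_c_rc_13_2 lc_c_rc_11_1 lc_c_rc_2_3 lc_c_rc_13_2 lc_c_rc_26_10 lc_c_rc_13_2 lc_c_rc_2_3 lc_c_rc_22_3 lc_c_rc_25_17 lc_c_rc_7_3 lc_c_rc_13_2 lc_c_rc_13_0 lc_c_rc_25_5 lc_c_rc_2_3 lc_c_rc_7_3 lc_c_rc_11_1 lc_c_rc_13_2 lc_c_rc_7_1 lc_c_rc_22_5 lc_c_rc_26_2 lc_c_rc_26_10 lc_c_rc_26_2 lc_c_rc_24_2 lc_c_rc_11_1 lc_c_rc_22_9 lc_c_rc_24_6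 lc_c_rc_24_6 lc_c_rc_23_0 lc_c_rc_13_2 lc_c_rc_13_2 lc_c_rc_11_1 lc_c_rc_23_0 lc_c_rc_23_5 lc_c_rc_7_3 lc_c_rc_22_3 lc_c_rc_11_1 lc_c_rc_11_1 lc_c_rc_11_1 lc_c_rc_23_0 lc_c_rc_7_3 lc_c_rc_11_1 lc_c_rc_7_5 lc_c_rc_2_3 lc_c_rc_7_1 lc_c_rc_13_2 lc_c_rc_11_1 lc_c_rc_25_5 lc_c_rc_11_1 lc_c_rc_13_2 lc_c_rc_11_1) (@D3.rec (fun _ => (Cert rels S Gen.c)) lc_c_rc_13_0 lc_c_rc_14_2 lc_c_rc_11_1 lc_c_rc_23_0 lc_c_rc_24_6 lc_c_rc_14_2 lc_c_rc_11_1 lc_c_rc_11_1 lc_c_Cert_tree lc_c_rc_11_1 lc_c_rc_14_2 lc_c_rc_23_5 lc_c_rc_7_1 lc_c_rc_2_3 lc_c_rc_13_0 lc_c_rc_11_1 lc_c_rc_11_1 lc_c_rc_24_4 lc_c_rc_22_7 lc_c_rc_11_1 lc_c_rc_7_3 lc_c_rc_13_2 lc_c_rc_22_7 lc_c_rc_2_1 lc_c_rc_2_3 lc_c_rc_22_5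 lc_c_rc_26_10 lc_c_rc_23_0 lc_c_rc_14_2 lc_c_rc_2_1 lc_c_rc_23_5 lc_c_rc_26_8 lc_c_rc_25_1 lc_c_rc_14_2 lc_c_rc_22_5 lc_c_rc_2_1 lc_c_rc_11_1 lc_c_rc_13_2 lc_c_rc_26_2 lc_c_rc_13_2 lc_c_rc_11_1 lc_c_rc_24_2 lc_c_rc_26_2 lc_c_rc_13_2 lc_c_rc_7_3 lc_c_rc_2_1 lc_c_rc_11_1 lc_c_rc_7_3 lc_c_rc_22_5 lc_c_rc_11_1 lc_c_rc_11_1 lc_c_rc_11_1 lc_c_rc_2_1 lc_c_rc_11_1 lc_c_Cert_tree lc_c_rc_11_1 lc_c_rc_24_4 lc_c_rc_7_1 lc_c_rc_11_1 lc_c_rc_11_1 lc_c_rc_13_2 lc_c_rc_7_3) (@D3.rec (fun _ => (Cert rels S Gen.c)) lc_c_rc_13_2 lc_c_rc_22_3 lc_c_rc_11_1 lc_c_rc_11_1 lc_c_rc_7_3 lc_c_rc_13_2 lc_c_Cert_tree lc_c_rc_26_10 lc_c_rc_11_1 lc_c_rc_11_1 lc_c_rc_13_2 lc_c_rc_11_1 lc_c_rc_26_4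 lc_c_rc_23_0 lc_c_rc_26_4 lc_c_rc_11_1 lc_c_rc_13_2 lc_c_Cert_tree lc_c_rc_11_1 lc_c_rc_26_4 lc_c_rc_13_2 lc_c_rc_24_6 lc_c_rc_7_3 lc_c_rc_7_5 lc_c_rc_14_0 lc_c_rc_22_5 lc_c_rc_13_2 lc_c_rc_13_0 lc_c_Cert_tree lc_c_rc_2_3 lc_c_rc_14_2 lc_c_rc_11_1 lc_c_rc_22_3 lc_c_rc_11_1 lc_c_rc_11_1 lc_c_rc_13_2 lc_c_rc_11_1 lc_c_rc_13_2 lc_c_rc_11_1 lc_c_rc_26_2 lc_c_rc_14_0 lc_c_rc_7_3 lc_c_rc_13_2 lc_c_rc_24_4 lc_c_rc_2_3 lc_c_rc_26_2 lc_c_rc_11_1 lc_c_rc_22_5 lc_c_rc_23_0 lc_c_rc_22_5 lc_c_rc_12_2 lc_c_rc_11_1 lc_c_rc_24_2 lc_c_rc_26_8 lc_c_rc_26_10 lc_c_rc_11_1 lc_c_rc_11_1 lc_c_rc_13_2 lc_c_rc_11_1 lc_c_rc_11_1 lc_c_rc_2_1 lc_c_rc_7_3) (@D3.rec (fun _ => (Cert rels S Gen.c))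 lc_c_rc_13_0 lc_c_rc_25_17 lc_c_rc_11_1 lc_c_rc_22_3 lc_c_rc_23_5 lc_c_rc_13_2 lc_c_rc_24_6 lc_c_rc_22_5 lc_c_rc_13_2 lc_c_rc_13_2 lc_c_rc_23_5 lc_c_rc_11_1 lc_c_rc_22_5 lc_c_rc_22_3 lc_c_rc_24_8 lc_c_rc_2_3 lc_c_rc_13_0 lc_c_rc_13_2 lc_c_Cert_tree lc_c_rc_13_2 lc_c_rc_26_2 lc_c_rc_7_1 lc_c_rc_26_4 lc_c_Cert_tree lc_c_rc_13_2 lc_c_rc_25_5 lc_c_rc_22_5 lc_c_rc_26_10 lc_c_rc_11_1 lc_c_rc_2_3 lc_c_rc_11_1 lc_c_rc_13_2 lc_c_rc_26_4 lc_c_rc_14_2 lc_c_rc_11_1 lc_c_rc_13_2 lc_c_rc_11_1 lc_c_rc_11_1 lc_c_rc_13_2 lc_c_rc_26_4 lc_c_rc_11_1 lc_c_rc_7_5 lc_c_rc_7_3 lc_c_rc_7_3 lc_c_rc_24_6 lc_c_rc_13_2 lc_c_rc_11_1 lc_c_rc_11_1 lc_c_rc_7_5 lc_c_rc_22_9 lc_c_rc_11_1 lc_c_rc_11_1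 lc_c_rc_11_1 lc_c_rc_11_1 lc_c_rc_26_8 lc_c_rc_22_5 lc_c_rc_26_4 lc_c_rc_22_9 lc_c_rc_13_2 lc_c_rc_26_10 lc_c_rc_12_0 lc_c_rc_13_2) (@D3.rec (fun _ => (Cert rels S Gen.c)) lc_c_rc_26_4 lc_c_rc_24_6 lc_c_rc_11_1 lc_c_rc_13_2 lc_c_rc_22_3 lc_c_rc_13_2 lc_c_rc_22_5 lc_c_rc_26_4 lc_c_rc_25_13 lc_c_rc_11_1 lc_c_rc_26_2 lc_c_rc_26_2 lc_c_rc_12_0 lc_c_rc_13_2 lc_c_rc_22_5 lc_c_rc_22_5 lc_c_rc_2_3 lc_c_rc_13_2 lc_c_rc_13_2 lc_c_rc_14_2 lc_c_rc_11_1 lc_c_rc_13_2 lc_c_rc_26_2 lc_c_rc_13_0 lc_c_rc_23_0 lc_c_rc_26_8 lc_c_rc_11_1 lc_c_rc_13_2 lc_c_rc_13_2 lc_c_rc_26_2 lc_c_rc_24_2 lc_c_rc_14_2 lc_c_rc_11_1 lc_c_rc_23_5 lc_c_rc_11_1 lc_c_rc_13_2 lc_c_rc_2_1 lc_c_rc_11_1 lc_c_rc_2_3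 lc_c_rc_22_5 lc_c_rc_14_2 lc_c_rc_13_2 lc_c_rc_14_0 lc_c_rc_11_1 lc_c_rc_13_2 lc_c_rc_23_5 lc_c_rc_22_9 lc_c_rc_7_1 lc_c_rc_13_2 lc_c_rc_13_2 lc_c_rc_11_1 lc_c_rc_22_7 lc_c_Cert_tree lc_c_rc_11_1 lc_c_rc_24_6 lc_c_rc_13_2 lc_c_Cert_tree lc_c_rc_11_1 lc_c_rc_14_2 lc_c_rc_7_5 lc_c_rc_11_1 lc_c_rc_13_2) (@D3.rec (fun _ => (Cert rels S Gen.c)) lc_c_rc_11_1 lc_c_rc_11_1 lc_c_rc_13_2 lc_c_rc_23_0 lc_c_rc_24_2 lc_c_rc_13_0 lc_c_rc_14_2 lc_c_rc_24_4 lc_c_rc_2_1 lc_c_rc_13_2 lc_c_rc_11_1 lc_c_rc_13_2 lc_c_rc_2_3 lc_c_rc_7_3 lc_c_rc_12_2 lc_c_rc_13_2 lc_c_rc_11_1 lc_c_rc_11_1 lc_c_rc_7_5 lc_c_rc_2_3 lc_c_rc_24_6 lc_c_rc_13_0 lc_c_rc_7_3 lc_c_rc_24_4 lc_c_rc_13_2 lc_c_rc_13_2 lc_c_rc_2_3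 lc_c_rc_13_2 lc_c_rc_2_3 lc_c_rc_13_2 lc_c_rc_14_2 lc_c_rc_25_1 lc_c_rc_11_1 lc_c_rc_24_8 lc_c_rc_11_1 lc_c_rc_25_17 lc_c_rc_22_5 lc_c_rc_14_2 lc_c_rc_13_2 lc_c_rc_13_2 lc_c_rc_26_2 lc_c_rc_13_2 lc_c_rc_23_5 lc_c_rc_13_2 lc_c_rc_11_1 lc_c_rc_24_2 lc_c_rc_2_3 lc_c_rc_7_1 lc_c_rc_25_5 lc_c_rc_12_2 lc_c_rc_23_0 lc_c_rc_26_10 lc_c_rc_2_3 lc_c_rc_13_2 lc_c_rc_13_0 lc_c_rc_11_1 lc_c_rc_23_5 lc_c_rc_22_9 lc_c_rc_24_4 lc_c_rc_13_2 lc_c_rc_13_2 lc_c_rc_13_2) (@D3.rec (fun _ => (Cert rels S Gen.c)) lc_c_rc_13_2 lc_c_rc_7_5 lc_c_rc_24_6 lc_c_rc_22_3 lc_c_rc_13_2 lc_c_rc_11_1 lc_c_rc_14_0 lc_c_rc_26_4 lc_c_rc_23_5 lc_c_rc_23_0 lc_c_rc_24_4 lc_c_rc_26_4 lc_c_rc_7_5 lc_c_rc_11_1 lc_c_rc_14_2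 lc_c_rc_14_0 lc_c_rc_22_9 lc_c_rc_13_2 lc_c_rc_13_2 lc_c_rc_22_7 lc_c_rc_7_5 lc_c_rc_11_1 lc_c_rc_14_2 lc_c_rc_13_2 lc_c_rc_22_5 lc_c_rc_13_2 lc_c_rc_26_10 lc_c_rc_13_2 lc_c_rc_14_2 lc_c_rc_7_5 lc_c_rc_26_4 lc_c_rc_24_4 lc_c_rc_13_0 lc_c_rc_22_5 lc_c_rc_7_5 lc_c_rc_12_14 lc_c_rc_13_2 lc_c_rc_11_1 lc_c_rc_13_2 lc_c_rc_26_8 lc_c_rc_24_2 lc_c_rc_14_2 lc_c_rc_11_1 lc_c_rc_26_4 lc_c_rc_11_1 lc_c_rc_7_3 lc_c_rc_24_4 lc_c_rc_7_3 lc_c_rc_7_3 lc_c_rc_23_0 lc_c_rc_13_2 lc_c_rc_7_1 lc_c_rc_11_1 lc_c_rc_13_2 lc_c_rc_23_0 lc_c_rc_2_1 lc_c_rc_13_0 lc_c_rc_22_3 lc_c_rc_11_1 lc_c_rc_23_0 lc_c_rc_22_5 lc_c_rc_7_3) (@D3.rec (fun _ => (Cert rels S Gen.c)) lc_c_Cert_tree lc_c_rc_11_1 lc_c_rc_11_1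 lc_c_rc_11_1 lc_c_rc_11_1 lc_c_rc_11_1 lc_c_rc_11_1 lc_c_rc_11_1 lc_c_rc_14_0 lc_c_rc_11_1 lc_c_rc_23_5 lc_c_rc_13_2 lc_c_rc_13_2 lc_c_rc_23_5 lc_c_rc_7_5 lc_c_rc_22_5 lc_c_rc_12_4 lc_c_rc_7_3 lc_c_rc_13_2 lc_c_rc_2_3 lc_c_rc_23_0 lc_c_rc_7_5 lc_c_rc_13_2 lc_c_Cert_tree lc_c_rc_14_2 lc_c_rc_22_9 lc_c_rc_11_1 lc_c_rc_7_3 lc_c_rc_13_2 lc_c_rc_26_4 lc_c_rc_26_4 lc_c_rc_25_1 lc_c_rc_22_5 lc_c_rc_25_13 lc_c_rc_2_3 lc_c_rc_26_4 lc_c_rc_13_2 lc_c_rc_7_5 lc_c_rc_26_10 lc_c_rc_7_5 lc_c_rc_13_2 lc_c_rc_11_1 lc_c_rc_11_1 lc_c_rc_11_1 lc_c_rc_11_1 lc_c_rc_13_2 lc_c_rc_11_1 lc_c_rc_23_0 lc_c_rc_22_3 lc_c_rc_14_2 lc_c_rc_24_8 lc_c_rc_13_2 lc_c_rc_2_3 lc_c_rc_14_2 lc_c_rc_7_3 lc_c_rc_11_1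 lc_c_rc_23_5 lc_c_rc_11_1 lc_c_rc_11_1 lc_c_rc_26_2 lc_c_rc_11_1 lc_c_rc_11_1) (@D3.rec (fun _ => (Cert rels S Gen.c)) lc_c_rc_22_9 lc_c_rc_13_2 lc_c_rc_11_1 lc_c_rc_23_5 lc_c_rc_24_4 lc_c_rc_23_0 lc_c_rc_7_3 lc_c_rc_23_0 lc_c_rc_13_2 lc_c_rc_23_0 lc_c_rc_2_1 lc_c_rc_11_1 lc_c_rc_26_10 lc_c_rc_24_4 lc_c_rc_11_1 lc_c_rc_13_2 lc_c_rc_11_1 lc_c_rc_11_1 lc_c_rc_22_3 lc_c_rc_14_2 lc_c_rc_14_2 lc_c_rc_22_5 lc_c_rc_13_2 lc_c_rc_13_2 lc_c_rc_11_1 lc_c_rc_13_2 lc_c_rc_7_5 lc_c_rc_13_2 lc_c_rc_24_2 lc_c_rc_22_3 lc_c_rc_11_1 lc_c_rc_13_0 lc_c_rc_22_5 lc_c_rc_13_2 lc_c_rc_7_1 lc_c_rc_12_0 lc_c_rc_22_3 lc_c_rc_26_4 lc_c_rc_13_2 lc_c_rc_24_6 lc_c_rc_26_4 lc_c_rc_11_1 lc_c_rc_11_1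 lc_c_rc_13_2 lc_c_rc_11_1 lc_c_rc_7_3 lc_c_rc_14_2 lc_c_rc_14_2 lc_c_rc_11_1 lc_c_rc_7_5 lc_c_rc_7_5 lc_c_rc_11_1 lc_c_rc_26_2 lc_c_rc_11_1 lc_c_rc_26_4 lc_c_rc_11_1 lc_c_rc_13_2 lc_c_rc_26_2 lc_c_rc_11_1 lc_c_rc_22_3 lc_c_rc_24_2 lc_c_rc_11_1) (@D3.rec (fun _ => (Cert rels S Gen.c)) lc_c_rc_24_2 lc_c_rc_26_10 lc_c_Cert_tree lc_c_rc_2_3 lc_c_rc_26_2 lc_c_rc_24_4 lc_c_rc_11_1 lc_c_rc_13_0 lc_c_rc_22_3 lc_c_rc_13_2 lc_c_rc_7_5 lc_c_rc_13_0 lc_c_rc_11_1 lc_c_rc_7_5 lc_c_rc_26_4 lc_c_rc_11_1 lc_c_rc_22_3 lc_c_Cert_tree lc_c_Cert_tree lc_c_rc_7_1 lc_c_Cert_tree lc_c_rc_11_1 lc_c_rc_23_0 lc_c_rc_7_5 lc_c_rc_7_1 lc_c_rc_24_6 lc_c_Cert_tree lc_c_rc_24_4 lc_c_rc_7_5 lc_c_rc_7_5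 lc_c_rc_25_17 lc_c_Cert_tree lc_c_rc_7_5 lc_c_Cert_tree lc_c_rc_11_1 lc_c_rc_26_4 lc_c_rc_7_1 lc_c_rc_22_7 lc_c_rc_13_2 lc_c_rc_7_3 lc_c_rc_26_8 lc_c_rc_12_2 lc_c_rc_11_1 lc_c_rc_7_1 lc_c_rc_26_2 lc_c_rc_13_2 lc_c_rc_7_3 lc_c_rc_13_2 lc_c_Cert_tree lc_c_rc_13_0 lc_c_rc_11_1 lc_c_rc_7_1 lc_c_rc_11_1 lc_c_rc_14_2 lc_c_rc_2_1 lc_c_rc_24_8 lc_c_rc_11_1 lc_c_rc_11_1 lc_c_rc_7_5 lc_c_rc_7_1 lc_c_rc_13_2 lc_c_rc_13_2) (@D3.rec (fun _ => (Cert rels S Gen.c)) lc_c_rc_26_4 lc_c_rc_25_9 lc_c_rc_22_7 lc_c_rc_13_2 lc_c_rc_24_2 lc_c_rc_26_10 lc_c_rc_26_4 lc_c_rc_11_1 lc_c_rc_11_1 lc_c_rc_25_13 lc_c_rc_14_2 lc_c_rc_11_1 lc_c_rc_11_1 lc_c_rc_13_2 lc_c_rc_26_10 lc_c_rc_22_9 lc_c_rc_14_0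 lc_c_rc_11_1 lc_c_rc_14_0 lc_c_rc_23_0 lc_c_rc_11_1 lc_c_rc_7_5 lc_c_rc_14_2 lc_c_rc_11_1 lc_c_rc_2_1 lc_c_rc_7_3 lc_c_rc_26_2 lc_c_rc_14_2 lc_c_rc_11_1 lc_c_rc_26_2 lc_c_rc_11_1 lc_c_rc_14_2 lc_c_rc_7_5 lc_c_rc_7_5 lc_c_rc_22_3 lc_c_rc_2_1 lc_c_rc_26_10 lc_c_rc_22_5 lc_c_rc_11_1 lc_c_rc_2_3 lc_c_rc_13_2 lc_c_rc_11_1 lc_c_rc_7_3 lc_c_rc_11_1 lc_c_rc_7_3 lc_c_rc_13_2 lc_c_rc_26_8 lc_c_rc_22_3 lc_c_rc_11_1 lc_c_rc_11_1 lc_c_rc_14_0 lc_c_rc_26_4 lc_c_rc_13_0 lc_c_rc_24_2 lc_c_rc_14_2 lc_c_rc_22_7 lc_c_rc_22_3 lc_c_rc_13_2 lc_c_rc_22_7 lc_c_rc_11_1 lc_c_rc_22_7 lc_c_rc_2_1) (@D3.rec (fun _ => (Cert rels S Gen.c)) lc_c_rc_7_1 lc_c_rc_13_2 lc_c_rc_26_2 lc_c_rc_11_1 lc_c_rc_13_2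 lc_c_rc_13_2 lc_c_rc_2_3 lc_c_rc_22_9 lc_c_rc_13_0 lc_c_rc_13_0 lc_c_rc_23_0 lc_c_rc_14_2 lc_c_rc_7_5 lc_c_rc_23_5 lc_c_rc_12_2 lc_c_rc_24_4 lc_c_rc_14_0 lc_c_rc_11_1 lc_c_rc_14_2 lc_c_rc_11_1 lc_c_rc_11_1 lc_c_rc_13_2 lc_c_rc_26_2 lc_c_rc_7_3 lc_c_rc_11_1 lc_c_rc_7_3 lc_c_rc_7_5 lc_c_rc_13_0 lc_c_rc_13_0 lc_c_rc_14_2 lc_c_rc_26_4 lc_c_rc_13_2 lc_c_rc_22_3 lc_c_rc_14_2 lc_c_rc_11_1 lc_c_rc_2_3 lc_c_Cert_tree lc_c_rc_13_2 lc_c_rc_25_17 lc_c_rc_26_4 lc_c_rc_13_2 lc_c_rc_26_8 lc_c_rc_24_4 lc_c_rc_24_2 lc_c_rc_11_1 lc_c_rc_24_2 lc_c_rc_11_1 lc_c_rc_23_0 lc_c_rc_11_1 lc_c_rc_11_1 lc_c_rc_13_2 lc_c_rc_11_1 lc_c_rc_24_4 lc_c_rc_14_2 lc_c_rc_24_2 lc_c_rc_26_2 lc_c_rc_7_5 lc_c_rc_13_2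 lc_c_rc_26_10 lc_c_rc_11_1 lc_c_rc_2_3 lc_c_rc_22_5) (@D3.rec (fun _ => (Cert rels S Gen.c)) lc_c_rc_14_2 lc_c_rc_13_2 lc_c_rc_11_1 lc_c_rc_22_3 lc_c_rc_13_2 lc_c_rc_11_1 lc_c_rc_11_1 lc_c_Cert_tree lc_c_Cert_tree lc_c_Cert_tree lc_c_Cert_tree lc_c_Cert_tree lc_c_rc_11_1 lc_c_rc_13_2 lc_c_rc_7_5 lc_c_rc_13_2 lc_c_rc_11_1 lc_c_rc_13_2 lc_c_rc_13_2 lc_c_rc_14_2 lc_c_rc_13_2 lc_c_rc_11_1 lc_c_rc_24_2 lc_c_rc_26_8 lc_c_rc_13_2 lc_c_rc_13_2 lc_c_rc_24_2 lc_c_rc_11_1 lc_c_rc_11_1 lc_c_rc_2_3 lc_c_rc_11_1 lc_c_rc_13_2 lc_c_rc_7_3 lc_c_rc_13_0 lc_c_rc_23_5 lc_c_rc_23_0 lc_c_rc_11_1 lc_c_rc_7_5 lc_c_rc_11_1 lc_c_rc_22_3 lc_c_rc_2_3 lc_c_rc_23_5 lc_c_rc_22_5 lc_c_rc_25_9 lc_c_rc_7_1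 lc_c_rc_14_2 lc_c_rc_26_2 lc_c_rc_13_2 lc_c_rc_11_1 lc_c_Cert_tree lc_c_rc_13_2 lc_c_rc_26_2 lc_c_rc_14_2 lc_c_rc_14_0 lc_c_rc_13_2 lc_c_rc_7_1 lc_c_rc_13_2 lc_c_rc_7_5 lc_c_rc_13_0 lc_c_rc_2_1 lc_c_rc_7_3 lc_c_rc_14_2) (@D3.rec (fun _ => (Cert rels S Gen.c)) lc_c_rc_22_3 lc_c_rc_24_4 lc_c_rc_24_4 lc_c_rc_11_1 lc_c_rc_7_3 lc_c_rc_14_2 lc_c_rc_11_1 lc_c_rc_13_2 lc_c_rc_22_3 lc_c_rc_22_7 lc_c_rc_11_1 lc_c_rc_7_5 lc_c_rc_11_1 lc_c_rc_26_2 lc_c_rc_14_0 lc_c_rc_13_2 lc_c_rc_2_1 lc_c_rc_22_9 lc_c_rc_22_5 lc_c_rc_13_0 lc_c_rc_26_4 lc_c_rc_7_1 lc_c_rc_11_1 lc_c_rc_11_1 lc_c_rc_14_2 lc_c_rc_26_2 lc_c_rc_11_1 lc_c_rc_13_0 lc_c_rc_23_0 lc_c_rc_11_1 lc_c_rc_24_2 lc_c_rc_2_3 lc_c_rc_11_1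 lc_c_Cert_tree lc_c_rc_11_1 lc_c_rc_7_3 lc_c_Cert_tree lc_c_rc_14_2 lc_c_rc_14_2 lc_c_rc_11_1 lc_c_rc_23_0 lc_c_rc_2_3 lc_c_rc_14_2 lc_c_rc_26_2 lc_c_rc_26_10 lc_c_rc_11_1 lc_c_rc_23_0 lc_c_rc_24_2 lc_c_rc_7_3 lc_c_rc_22_5 lc_c_Cert_tree lc_c_rc_11_1 lc_c_Cert_tree lc_c_rc_26_10 lc_c_rc_26_2 lc_c_rc_11_1 lc_c_rc_13_0 lc_c_rc_11_1 lc_c_rc_22_3 lc_c_rc_11_1 lc_c_rc_11_1 lc_c_rc_24_6) (@D3.rec (fun _ => (Cert rels S Gen.c)) lc_c_rc_11_1 lc_c_rc_7_3 lc_c_rc_26_2 lc_c_rc_11_1 lc_c_rc_23_5 lc_c_rc_11_1 lc_c_rc_26_8 lc_c_rc_11_1 lc_c_rc_24_8 lc_c_rc_11_1 lc_c_rc_26_2 lc_c_rc_13_2 lc_c_rc_11_1 lc_c_rc_26_2 lc_c_rc_2_3 lc_c_rc_22_3 lc_c_rc_23_5 lc_c_rc_24_6 lc_c_rc_11_1 lc_c_rc_22_3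 lc_c_rc_26_4 lc_c_rc_22_9 lc_c_rc_7_1 lc_c_rc_11_1 lc_c_rc_26_10 lc_c_rc_26_2 lc_c_rc_13_2 lc_c_rc_23_5 lc_c_rc_26_8 lc_c_rc_23_5 lc_c_rc_26_8 lc_c_rc_26_4 lc_c_rc_7_3 lc_c_rc_11_1 lc_c_rc_11_1 lc_c_rc_23_0 lc_c_rc_11_1 lc_c_rc_14_2 lc_c_rc_13_0 lc_c_rc_13_0 lc_c_rc_7_3 lc_c_rc_26_2 lc_c_rc_13_2 lc_c_rc_13_2 lc_c_rc_22_5 lc_c_rc_25_9 lc_c_rc_2_3 lc_c_rc_14_2 lc_c_rc_13_2 lc_c_rc_7_1 lc_c_rc_7_3 lc_c_rc_12_4 lc_c_rc_23_0 lc_c_rc_22_3 lc_c_rc_11_1 lc_c_rc_11_1 lc_c_rc_11_1 lc_c_rc_26_2 lc_c_rc_13_2 lc_c_rc_11_1 lc_c_rc_7_3 lc_c_rc_13_2) (@D3.rec (fun _ => (Cert rels S Gen.c)) lc_c_rc_22_7 lc_c_rc_23_5 lc_c_rc_14_2 lc_c_rc_24_6 lc_c_rc_25_5 lc_c_rc_11_1 lc_c_rc_14_2 lc_c_rc_13_2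 lc_c_rc_7_1 lc_c_rc_22_5 lc_c_rc_26_8 lc_c_rc_23_0 lc_c_rc_14_2 lc_c_rc_14_2 lc_c_rc_13_2 lc_c_rc_26_2 lc_c_rc_7_5 lc_c_rc_26_2 lc_c_rc_13_2 lc_c_rc_13_2 lc_c_rc_11_1 lc_c_rc_23_0 lc_c_rc_7_5 lc_c_rc_22_3 lc_c_rc_11_1 lc_c_rc_11_1 lc_c_rc_13_2 lc_c_rc_13_2 lc_c_rc_24_6 lc_c_rc_11_1 lc_c_rc_11_1 lc_c_rc_22_7 lc_c_rc_11_1 lc_c_rc_24_8 lc_c_rc_24_2 lc_c_rc_2_3 lc_c_rc_26_2 lc_c_rc_2_3 lc_c_rc_11_1 lc_c_rc_11_1 lc_c_rc_13_2 lc_c_rc_26_10 lc_c_rc_7_5 lc_c_rc_13_2 lc_c_rc_24_2 lc_c_rc_13_2 lc_c_rc_12_0 lc_c_rc_7_5 lc_c_rc_11_1 lc_c_rc_12_14 lc_c_rc_23_0 lc_c_rc_11_1 lc_c_rc_23_0 lc_c_rc_7_3 lc_c_rc_13_2 lc_c_rc_22_9 lc_c_rc_26_4 lc_c_rc_13_2 lc_c_rc_11_1 lc_c_rc_14_2 lc_c_rc_26_2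 lc_c_rc_11_1) (@D3.rec (fun _ => (Cert rels S Gen.c)) lc_c_rc_11_1 lc_c_rc_23_5 lc_c_rc_22_9 lc_c_rc_13_2 lc_c_rc_13_2 lc_c_rc_11_1 lc_c_rc_11_1 lc_c_rc_2_3 lc_c_rc_7_1 lc_c_rc_7_5 lc_c_rc_2_1 lc_c_rc_11_1 lc_c_rc_11_1 lc_c_rc_23_0 lc_c_rc_26_10 lc_c_rc_7_3 lc_c_rc_2_1 lc_c_rc_7_1 lc_c_rc_23_0 lc_c_rc_13_0 lc_c_rc_13_0 lc_c_rc_24_2 lc_c_rc_25_1 lc_c_rc_11_1 lc_c_rc_2_3 lc_c_rc_23_5 lc_c_Cert_tree lc_c_rc_24_6 lc_c_rc_11_1 lc_c_rc_14_2 lc_c_rc_11_1 lc_c_rc_11_1 lc_c_rc_24_4 lc_c_rc_7_5 lc_c_rc_22_5 lc_c_rc_11_1 lc_c_rc_13_0 lc_c_rc_7_5 lc_c_rc_11_1 lc_c_rc_22_3 lc_c_rc_7_3 lc_c_rc_13_2 lc_c_rc_7_5 lc_c_rc_14_2 lc_c_rc_11_1 lc_c_rc_26_8 lc_c_rc_2_3 lc_c_rc_7_3 lc_c_rc_13_2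 lc_c_rc_24_4 lc_c_rc_22_3 lc_c_rc_11_1 lc_c_rc_14_2 lc_c_rc_13_2 lc_c_rc_22_5 lc_c_rc_22_7 lc_c_rc_26_4 lc_c_rc_23_5 lc_c_rc_23_5 lc_c_rc_7_5 lc_c_rc_26_10 lc_c_rc_11_1) (@D3.rec (fun _ => (Cert rels S Gen.c)) lc_c_rc_13_0 lc_c_rc_22_3 lc_c_rc_2_3 lc_c_rc_22_7 lc_c_rc_11_1 lc_c_rc_13_2 lc_c_rc_26_10 lc_c_rc_11_1 lc_c_rc_26_4 lc_c_rc_24_4 lc_c_rc_25_17 lc_c_rc_7_5 lc_c_rc_11_1 lc_c_rc_13_2 lc_c_rc_13_0 lc_c_rc_11_1 lc_c_Cert_tree lc_c_rc_24_2 lc_c_rc_26_2 lc_c_rc_7_3 lc_c_rc_25_9 lc_c_rc_11_1 lc_c_rc_7_1 lc_c_rc_7_5 lc_c_rc_26_2 lc_c_rc_13_0 lc_c_rc_24_8 lc_c_rc_26_10 lc_c_rc_13_2 lc_c_rc_23_0 lc_c_rc_13_2 lc_c_rc_13_2 lc_c_rc_24_2 lc_c_rc_14_2 lc_c_rc_11_1 lc_c_rc_2_3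 lc_c_rc_13_0 lc_c_rc_13_2 lc_c_rc_13_2 lc_c_rc_11_1 lc_c_rc_26_2 lc_c_rc_24_6 lc_c_Cert_tree lc_c_Cert_tree lc_c_rc_11_1 lc_c_rc_7_3 lc_c_rc_7_3 lc_c_rc_13_0 lc_c_rc_13_2 lc_c_rc_14_2 lc_c_rc_23_5 lc_c_rc_24_4 lc_c_rc_22_5 lc_c_rc_12_2 lc_c_rc_13_2 lc_c_rc_13_2 lc_c_rc_11_1 lc_c_rc_26_10 lc_c_rc_24_8 lc_c_rc_26_10 lc_c_rc_7_5 lc_c_rc_11_1) (@D3.rec (fun _ => (Cert rels S Gen.c)) lc_c_rc_26_4 lc_c_rc_11_1 lc_c_rc_2_3 lc_c_rc_11_1 lc_c_rc_11_1 lc_c_rc_24_6 lc_c_rc_26_10 lc_c_rc_11_1 lc_c_rc_13_2 lc_c_rc_11_1 lc_c_rc_11_1 lc_c_rc_7_3 lc_c_rc_11_1 lc_c_rc_7_3 lc_c_rc_22_7 lc_c_rc_26_2 lc_c_rc_12_0 lc_c_rc_11_1 lc_c_rc_2_3 lc_c_rc_26_8 lc_c_rc_13_2 lc_c_rc_22_3 lc_c_rc_11_1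 lc_c_rc_11_1 lc_c_rc_11_1 lc_c_rc_11_1 lc_c_rc_13_2 lc_c_Cert_tree lc_c_rc_2_3 lc_c_rc_11_1 lc_c_rc_11_1 lc_c_rc_13_2 lc_c_rc_13_2 lc_c_rc_11_1 lc_c_rc_11_1 lc_c_rc_7_3 lc_c_rc_23_0 lc_c_rc_22_5 lc_c_rc_11_1 lc_c_rc_22_5 lc_c_rc_24_8 lc_c_rc_14_2 lc_c_rc_22_9 lc_c_rc_24_4 lc_c_rc_22_5 lc_c_rc_11_1 lc_c_rc_13_0 lc_c_rc_11_1 lc_c_rc_22_3 lc_c_rc_24_8 lc_c_rc_22_5 lc_c_rc_11_1 lc_c_rc_11_1 lc_c_rc_22_5 lc_c_rc_13_2 lc_c_rc_26_10 lc_c_rc_13_2 lc_c_rc_13_2 lc_c_rc_25_17 lc_c_rc_13_2 lc_c_rc_26_4 lc_c_rc_26_2) (@D3.rec (fun _ => (Cert rels S Gen.c)) lc_c_rc_13_2 lc_c_rc_25_9 lc_c_rc_23_0 lc_c_rc_24_4 lc_c_rc_24_2 lc_c_rc_22_3 lc_c_rc_11_1 lc_c_rc_13_2 lc_c_rc_12_2 lc_c_rc_26_2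 lc_c_rc_23_5 lc_c_rc_11_1 lc_c_rc_26_2 lc_c_rc_7_5 lc_c_rc_23_5 lc_c_rc_14_2 lc_c_rc_12_2 lc_c_rc_13_2 lc_c_rc_25_1 lc_c_rc_7_5 lc_c_rc_22_7 lc_c_rc_7_5 lc_c_rc_11_1 lc_c_rc_22_3 lc_c_rc_26_10 lc_c_Cert_tree lc_c_rc_26_2 lc_c_rc_11_1 lc_c_rc_22_3 lc_c_rc_11_1 lc_c_rc_13_2 lc_c_rc_13_2 lc_c_rc_13_0 lc_c_rc_14_2 lc_c_rc_11_1 lc_c_rc_22_3 lc_c_rc_26_4 lc_c_rc_12_2 lc_c_rc_11_1 lc_c_rc_22_5 lc_c_rc_11_1 lc_c_rc_23_5 lc_c_rc_7_3 lc_c_rc_11_1 lc_c_rc_11_1 lc_c_rc_26_2 lc_c_rc_11_1 lc_c_rc_23_5 lc_c_rc_13_2 lc_c_rc_13_2 lc_c_rc_13_2 lc_c_rc_22_5 lc_c_rc_14_2 lc_c_rc_11_1 lc_c_rc_7_3 lc_c_rc_7_5 lc_c_rc_22_3 lc_c_rc_12_0 lc_c_rc_11_1 lc_c_rc_26_10 lc_c_rc_14_2 lc_c_rc_26_10)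 (@D3.rec (fun _ => (Cert rels S Gen.c)) lc_c_rc_7_3 lc_c_rc_7_1 lc_c_rc_24_6 lc_c_rc_14_2 lc_c_rc_22_7 lc_c_rc_7_5 lc_c_rc_22_3 lc_c_rc_13_2 lc_c_rc_14_2 lc_c_rc_22_3 lc_c_rc_13_2 lc_c_rc_2_1 lc_c_rc_26_10 lc_c_rc_11_1 lc_c_rc_14_2 lc_c_rc_7_5 lc_c_rc_26_10 lc_c_rc_14_2 lc_c_rc_24_4 lc_c_rc_7_1 lc_c_rc_26_10 lc_c_rc_14_2 lc_c_rc_14_2 lc_c_rc_14_2 lc_c_rc_13_2 lc_c_rc_7_1 lc_c_rc_13_2 lc_c_rc_13_2 lc_c_rc_13_2 lc_c_rc_13_2 lc_c_rc_11_1 lc_c_rc_7_5 lc_c_rc_13_2 lc_c_rc_11_1 lc_c_rc_23_0 lc_c_rc_13_2 lc_c_rc_14_2 lc_c_rc_13_2 lc_c_rc_24_8 lc_c_rc_23_5 lc_c_rc_13_0 lc_c_rc_14_2 lc_c_rc_13_0 lc_c_rc_14_2 lc_c_rc_26_10 lc_c_rc_26_4 lc_c_rc_26_4 lc_c_rc_13_2 lc_c_rc_7_5 lc_c_rc_11_1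 lc_c_rc_14_2 lc_c_rc_25_13 lc_c_rc_26_4 lc_c_rc_23_5 lc_c_rc_13_0 lc_c_rc_11_1 lc_c_rc_24_6 lc_c_rc_22_3 lc_c_rc_26_4 lc_c_rc_11_1 lc_c_rc_26_2 lc_c_rc_11_1) (@D3.rec (fun _ => (Cert rels S Gen.c)) lc_c_rc_11_1 lc_c_rc_13_2 lc_c_rc_13_2 lc_c_rc_7_5 lc_c_rc_11_1 lc_c_rc_7_3 lc_c_rc_13_2 lc_c_rc_7_5 lc_c_rc_11_1 lc_c_rc_11_1 lc_c_rc_22_3 lc_c_rc_14_2 lc_c_rc_26_4 lc_c_rc_11_1 lc_c_Cert_tree lc_c_rc_12_0 lc_c_rc_25_17 lc_c_rc_24_6 lc_c_rc_22_5 lc_c_rc_7_5 lc_c_rc_7_3 lc_c_rc_11_1 lc_c_rc_23_5 lc_c_rc_23_5 lc_c_rc_11_1 lc_c_rc_24_4 lc_c_rc_11_1 lc_c_rc_7_3 lc_c_rc_2_3 lc_c_rc_12_14 lc_c_rc_13_2 lc_c_rc_13_2 lc_c_rc_7_3 lc_c_rc_13_2 lc_c_rc_22_3 lc_c_rc_2_3 lc_c_rc_22_3 lc_c_rc_13_2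 lc_c_rc_13_0 lc_c_rc_2_3 lc_c_rc_7_5 lc_c_rc_7_3 lc_c_rc_22_3 lc_c_rc_22_3 lc_c_rc_11_1 lc_c_rc_23_5 lc_c_rc_13_0 lc_c_rc_26_2 lc_c_rc_13_2 lc_c_rc_13_2 lc_c_rc_11_1 lc_c_rc_13_2 lc_c_rc_13_2 lc_c_rc_7_5 lc_c_rc_13_2 lc_c_rc_22_5 lc_c_rc_11_1 lc_c_rc_14_2 lc_c_rc_23_5 lc_c_rc_2_1 lc_c_rc_11_1 lc_c_rc_22_3) (@D3.rec (fun _ => (Cert rels S Gen.c)) lc_c_rc_11_1 lc_c_rc_22_7 lc_c_rc_11_1 lc_c_Cert_tree lc_c_rc_13_2 lc_c_Cert_tree lc_c_rc_24_2 lc_c_rc_11_1 lc_c_rc_22_3 lc_c_rc_11_1 lc_c_rc_22_5 lc_c_rc_22_5 lc_c_rc_11_1 lc_c_rc_13_2 lc_c_rc_7_1 lc_c_rc_13_2 lc_c_rc_11_1 lc_c_rc_7_1 lc_c_rc_22_5 lc_c_rc_26_4 lc_c_rc_11_1 lc_c_rc_13_2 lc_c_rc_13_2 lc_c_rc_13_2 lc_c_rc_11_1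 lc_c_rc_26_10 lc_c_rc_2_1 lc_c_rc_11_1 lc_c_rc_25_1 lc_c_rc_13_2 lc_c_rc_11_1 lc_c_rc_13_2 lc_c_rc_11_1 lc_c_rc_11_1 lc_c_rc_26_4 lc_c_rc_13_2 lc_c_rc_11_1 lc_c_rc_24_6 lc_c_rc_22_3 lc_c_rc_7_5 lc_c_rc_11_1 lc_c_rc_26_2 lc_c_rc_7_5 lc_c_rc_11_1 lc_c_rc_7_3 lc_c_Cert_tree lc_c_rc_14_2 lc_c_rc_11_1 lc_c_rc_2_3 lc_c_rc_23_5 lc_c_rc_23_0 lc_c_rc_23_0 lc_c_rc_11_1 lc_c_rc_14_2 lc_c_rc_14_2 lc_c_rc_13_0 lc_c_rc_11_1 lc_c_rc_26_2 lc_c_rc_7_5 lc_c_rc_13_2 lc_c_rc_13_0 lc_c_rc_2_3) (@D3.rec (fun _ => (Cert rels S Gen.c)) lc_c_rc_11_1 lc_c_rc_24_6 lc_c_rc_13_2 lc_c_rc_13_0 lc_c_Cert_tree lc_c_rc_7_5 lc_c_rc_7_5 lc_c_rc_13_2 lc_c_rc_13_2 lc_c_rc_26_4 lc_c_rc_14_2 lc_c_rc_22_5 lc_c_rc_7_3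 lc_c_rc_23_5 lc_c_rc_23_0 lc_c_rc_13_2 lc_c_rc_24_2 lc_c_rc_13_2 lc_c_rc_11_1 lc_c_rc_14_2 lc_c_rc_13_2 lc_c_rc_23_0 lc_c_rc_23_0 lc_c_rc_7_5 lc_c_rc_11_1 lc_c_rc_13_2 lc_c_rc_24_4 lc_c_rc_23_5 lc_c_rc_2_3 lc_c_rc_13_2 lc_c_rc_14_2 lc_c_rc_24_4 lc_c_rc_23_0 lc_c_rc_13_2 lc_c_rc_13_2 lc_c_rc_13_0 lc_c_rc_11_1 lc_c_rc_11_1 lc_c_rc_24_4 lc_c_rc_13_2 lc_c_rc_11_1 lc_c_rc_26_4 lc_c_rc_7_5 lc_c_rc_26_8 lc_c_rc_23_5 lc_c_rc_24_6 lc_c_rc_2_1 lc_c_rc_13_2 lc_c_rc_24_6 lc_c_rc_11_1 lc_c_rc_13_2 lc_c_rc_26_10 lc_c_rc_11_1 lc_c_rc_14_2 lc_c_rc_13_2 lc_c_rc_23_0 lc_c_rc_11_1 lc_c_rc_26_4 lc_c_rc_11_1 lc_c_rc_22_7 lc_c_rc_2_1 lc_c_rc_12_0) (@D3.rec (fun _ => (Cert rels S Gen.c)) lc_c_Cert_tree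 lc_c_rc_11_1 lc_c_rc_11_1 lc_c_rc_11_1 lc_c_rc_25_5 lc_c_rc_23_0 lc_c_rc_11_1 lc_c_rc_11_1 lc_c_rc_13_2 lc_c_rc_22_7 lc_c_rc_7_5 lc_c_rc_11_1 lc_c_rc_13_0 lc_c_rc_11_1 lc_c_rc_14_2 lc_c_rc_11_1 lc_c_rc_13_2 lc_c_rc_11_1 lc_c_rc_13_2 lc_c_rc_11_1 lc_c_rc_11_1 lc_c_rc_24_2 lc_c_rc_26_2 lc_c_rc_14_2 lc_c_rc_13_2 lc_c_rc_13_0 lc_c_rc_14_2 lc_c_rc_23_0 lc_c_rc_11_1 lc_c_rc_13_2 lc_c_rc_7_3 lc_c_rc_11_1 lc_c_rc_26_4 lc_c_rc_13_2 lc_c_rc_26_2 lc_c_rc_7_5 lc_c_rc_11_1 lc_c_rc_26_2 lc_c_rc_13_0 lc_c_rc_7_3 lc_c_rc_26_8 lc_c_rc_22_7 lc_c_rc_22_5 lc_c_rc_11_1 lc_c_rc_26_4 lc_c_rc_13_2 lc_c_rc_23_0 lc_c_rc_24_2 lc_c_rc_13_2 lc_c_rc_11_1 lc_c_rc_7_3 lc_c_rc_25_1 lc_c_rc_13_0 lc_c_rc_11_1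 lc_c_rc_22_7 lc_c_rc_13_0 lc_c_rc_11_1 lc_c_rc_7_5 lc_c_rc_11_1 lc_c_rc_11_1 lc_c_rc_13_2 lc_c_rc_13_2) (@D3.rec (fun _ => (Cert rels S Gen.c)) lc_c_rc_11_1 lc_c_rc_13_0 lc_c_rc_13_2 lc_c_rc_22_5 lc_c_rc_11_1 lc_c_rc_13_2 lc_c_rc_7_3 lc_c_rc_11_1 lc_c_rc_14_2 lc_c_rc_13_2 lc_c_rc_13_2 lc_c_rc_14_2 lc_c_rc_26_10 lc_c_rc_26_10 lc_c_rc_13_2 lc_c_rc_11_1 lc_c_rc_11_1 lc_c_rc_23_5 lc_c_rc_24_2 lc_c_rc_24_4 lc_c_rc_22_9 lc_c_rc_2_3 lc_c_rc_2_1 lc_c_rc_14_2 lc_c_rc_11_1 lc_c_rc_13_2 lc_c_rc_26_10 lc_c_rc_2_1 lc_c_rc_22_5 lc_c_rc_13_2 lc_c_rc_13_2 lc_c_rc_2_3 lc_c_rc_7_1 lc_c_rc_12_2 lc_c_rc_26_2 lc_c_rc_22_3 lc_c_rc_7_3 lc_c_rc_7_5 lc_c_rc_7_5 lc_c_rc_22_3 lc_c_rc_22_3 lc_c_rc_22_7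 lc_c_rc_11_1 lc_c_rc_14_2 lc_c_rc_25_1 lc_c_rc_2_3 lc_c_Cert_tree lc_c_rc_11_1 lc_c_rc_24_2 lc_c_rc_11_1 lc_c_rc_14_0 lc_c_rc_13_2 lc_c_rc_11_1 lc_c_rc_22_9 lc_c_rc_14_2 lc_c_rc_23_0 lc_c_rc_22_3 lc_c_rc_7_3 lc_c_rc_22_3 lc_c_rc_13_2 lc_c_rc_7_5 lc_c_rc_23_5) (@D3.rec (fun _ => (Cert rels S Gen.c)) lc_c_rc_11_1 lc_c_rc_26_2 lc_c_rc_24_4 lc_c_rc_13_2 lc_c_rc_7_5 lc_c_rc_26_4 lc_c_rc_11_1 lc_c_rc_13_2 lc_c_rc_14_2 lc_c_rc_13_2 lc_c_rc_2_3 lc_c_rc_7_1 lc_c_rc_22_5 lc_c_rc_14_2 lc_c_rc_25_17 lc_c_rc_13_2 lc_c_rc_24_4 lc_c_rc_11_1 lc_c_rc_22_3 lc_c_rc_11_1 lc_c_rc_2_1 lc_c_rc_11_1 lc_c_rc_13_2 lc_c_rc_13_0 lc_c_Cert_tree lc_c_rc_23_5 lc_c_rc_24_4 lc_c_rc_11_1 lc_c_rc_26_2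 lc_c_rc_22_9 lc_c_rc_24_6 lc_c_rc_22_9 lc_c_rc_22_3 lc_c_rc_24_2 lc_c_rc_13_2 lc_c_rc_13_2 lc_c_rc_11_1 lc_c_rc_22_9 lc_c_rc_7_1 lc_c_rc_23_0 lc_c_rc_23_0 lc_c_rc_26_8 lc_c_rc_26_4 lc_c_rc_24_2 lc_c_rc_2_3 lc_c_rc_22_9 lc_c_rc_2_3 lc_c_rc_13_2 lc_c_rc_26_4 lc_c_rc_14_0 lc_c_rc_11_1 lc_c_rc_11_1 lc_c_rc_2_3 lc_c_rc_13_2 lc_c_rc_7_3 lc_c_rc_25_5 lc_c_rc_26_4 lc_c_rc_2_3 lc_c_rc_2_1 lc_c_rc_13_2 lc_c_rc_13_2 lc_c_rc_26_8) (@D3.rec (fun _ => (Cert rels S Gen.c)) lc_c_rc_24_2 lc_c_rc_11_1 lc_c_rc_13_2 lc_c_Cert_tree lc_c_rc_13_2 lc_c_rc_26_10 lc_c_rc_26_4 lc_c_rc_2_3 lc_c_rc_11_1 lc_c_rc_13_2 lc_c_rc_13_2 lc_c_rc_26_4 lc_c_rc_11_1 lc_c_rc_24_8 lc_c_rc_25_1 lc_c_rc_23_0 lc_c_rc_23_0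 lc_c_rc_14_2 lc_c_rc_26_4 lc_c_rc_11_1 lc_c_rc_23_5 lc_c_rc_26_4 lc_c_rc_2_1 lc_c_rc_11_1 lc_c_rc_26_8 lc_c_rc_11_1 lc_c_rc_7_5 lc_c_rc_14_2 lc_c_rc_13_2 lc_c_rc_13_2 lc_c_rc_11_1 lc_c_rc_11_1 lc_c_rc_11_1 lc_c_Cert_tree lc_c_rc_26_2 lc_c_rc_2_1 lc_c_rc_2_3 lc_c_rc_7_5 lc_c_rc_11_1 lc_c_rc_24_4 lc_c_rc_7_3 lc_c_rc_22_7 lc_c_rc_22_7 lc_c_rc_14_2 lc_c_rc_22_3 lc_c_rc_26_2 lc_c_rc_14_2 lc_c_rc_13_2 lc_c_rc_26_8 lc_c_rc_24_8 lc_c_rc_2_3 lc_c_rc_11_1 lc_c_rc_26_8 lc_c_rc_24_6 lc_c_rc_13_2 lc_c_rc_26_8 lc_c_rc_11_1 lc_c_rc_11_1 lc_c_rc_26_2 lc_c_rc_2_3 lc_c_rc_11_1 lc_c_rc_24_6) (@D3.rec (fun _ => (Cert rels S Gen.c)) lc_c_rc_26_10 lc_c_rc_7_5 lc_c_rc_13_2 lc_c_rc_23_5 lc_c_rc_7_3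 lc_c_rc_13_2 lc_c_rc_26_2 lc_c_rc_24_2 lc_c_rc_26_4 lc_c_rc_26_4 lc_c_rc_11_1 lc_c_rc_26_2 lc_c_rc_13_2 lc_c_rc_7_1 lc_c_rc_11_1 lc_c_rc_23_5 lc_c_rc_13_2 lc_c_rc_24_6 lc_c_rc_24_6 lc_c_rc_22_7 lc_c_rc_14_0 lc_c_rc_22_9 lc_c_rc_13_2 lc_c_rc_11_1 lc_c_rc_26_10 lc_c_rc_13_2 lc_c_rc_11_1 lc_c_rc_24_4 lc_c_rc_11_1 lc_c_rc_26_8 lc_c_rc_11_1 lc_c_rc_22_5 lc_c_Cert_tree lc_c_rc_7_5 lc_c_rc_14_2 lc_c_rc_11_1 lc_c_rc_11_1 lc_c_rc_13_2 lc_c_rc_11_1 lc_c_rc_14_2 lc_c_rc_7_3 lc_c_rc_7_1 lc_c_rc_11_1 lc_c_rc_2_3 lc_c_rc_13_0 lc_c_rc_24_4 lc_c_rc_22_7 lc_c_rc_24_8 lc_c_rc_11_1 lc_c_rc_14_2 lc_c_rc_23_0 lc_c_rc_7_3 lc_c_rc_14_2 lc_c_rc_7_3 lc_c_rc_7_1 lc_c_rc_13_2 lc_c_rc_14_2 lc_c_rc_23_0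 lc_c_rc_2_1 lc_c_rc_11_1 lc_c_rc_11_1 lc_c_rc_14_2) (@D3.rec (fun _ => (Cert rels S Gen.c)) lc_c_rc_7_5 lc_c_rc_24_4 lc_c_rc_11_1 lc_c_rc_11_1 lc_c_rc_11_1 lc_c_rc_26_2 lc_c_rc_13_2 lc_c_rc_11_1 lc_c_rc_7_5 lc_c_rc_23_5 lc_c_rc_26_2 lc_c_rc_11_1 lc_c_rc_26_8 lc_c_rc_11_1 lc_c_rc_23_5 lc_c_rc_11_1 lc_c_rc_13_2 lc_c_rc_13_2 lc_c_rc_11_1 lc_c_rc_23_0 lc_c_rc_12_2 lc_c_rc_11_1 lc_c_rc_13_2 lc_c_rc_24_8 lc_c_rc_13_2 lc_c_rc_7_5 lc_c_rc_2_3 lc_c_rc_11_1 lc_c_rc_7_1 lc_c_rc_13_2 lc_c_rc_14_2 lc_c_rc_12_2 lc_c_rc_25_5 lc_c_rc_13_2 lc_c_rc_25_17 lc_c_rc_11_1 lc_c_rc_13_2 lc_c_rc_26_2 lc_c_rc_13_2 lc_c_rc_24_2 lc_c_rc_22_3 lc_c_rc_13_0 lc_c_rc_11_1 lc_c_rc_13_2 lc_c_Cert_tree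 lc_c_rc_13_2 lc_c_rc_24_8 lc_c_rc_13_2 lc_c_rc_11_1 lc_c_rc_7_3 lc_c_rc_13_2 lc_c_rc_11_1 lc_c_rc_23_0 lc_c_rc_13_2 lc_c_rc_13_2 lc_c_rc_11_1 lc_c_rc_13_2 lc_c_rc_13_2 lc_c_rc_11_1 lc_c_rc_13_0 lc_c_rc_26_4 lc_c_rc_13_0) (@D3.rec (fun _ => (Cert rels S Gen.c)) lc_c_rc_14_2 lc_c_rc_14_2 lc_c_rc_11_1 lc_c_rc_13_2 lc_c_rc_11_1 lc_c_rc_13_2 lc_c_rc_26_2 lc_c_rc_14_2 lc_c_rc_13_2 lc_c_rc_13_2 lc_c_rc_14_2 lc_c_rc_13_2 lc_c_rc_23_5 lc_c_rc_26_10 lc_c_rc_11_1 lc_c_rc_11_1 lc_c_rc_14_2 lc_c_rc_11_1 lc_c_rc_12_2 lc_c_rc_23_5 lc_c_rc_24_4 lc_c_rc_13_2 lc_c_rc_22_3 lc_c_rc_14_2 lc_c_rc_24_2 lc_c_rc_7_1 lc_c_rc_14_2 lc_c_rc_13_2 lc_c_rc_13_2 lc_c_rc_13_2 lc_c_rc_13_2 lc_c_rc_13_2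 lc_c_rc_7_1 lc_c_rc_13_2 lc_c_rc_23_5 lc_c_rc_12_2 lc_c_rc_13_2 lc_c_rc_23_5 lc_c_rc_11_1 lc_c_rc_7_3 lc_c_rc_7_5 lc_c_rc_7_1 lc_c_rc_13_0 lc_c_rc_22_3 lc_c_rc_22_3 lc_c_rc_22_9 lc_c_rc_11_1 lc_c_rc_22_3 lc_c_rc_11_1 lc_c_rc_12_14 lc_c_Cert_tree lc_c_rc_11_1 lc_c_rc_11_1 lc_c_rc_23_5 lc_c_rc_24_4 lc_c_rc_7_3 lc_c_rc_22_9 lc_c_rc_13_0 lc_c_rc_2_1 lc_c_rc_14_2 lc_c_rc_23_0 lc_c_rc_11_1) (@D3.rec (fun _ => (Cert rels S Gen.c)) lc_c_rc_24_2 lc_c_rc_7_1 lc_c_rc_23_5 lc_c_rc_13_2 lc_c_rc_7_1 lc_c_rc_11_1 lc_c_rc_24_2 lc_c_rc_13_2 lc_c_rc_11_1 lc_c_rc_22_9 lc_c_rc_11_1 lc_c_rc_26_4 lc_c_rc_13_2 lc_c_rc_23_0 lc_c_rc_11_1 lc_c_rc_11_1 lc_c_rc_22_3 lc_c_Cert_tree lc_c_rc_26_4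 lc_c_rc_13_2 lc_c_rc_26_4 lc_c_rc_13_2 lc_c_rc_13_2 lc_c_rc_11_1 lc_c_rc_24_8 lc_c_rc_14_2 lc_c_rc_2_1 lc_c_rc_13_2 lc_c_rc_23_5 lc_c_rc_7_5 lc_c_rc_13_2 lc_c_rc_7_3 lc_c_rc_11_1 lc_c_rc_26_2 lc_c_rc_7_1 lc_c_rc_11_1 lc_c_rc_22_9 lc_c_rc_14_2 lc_c_rc_22_3 lc_c_rc_22_9 lc_c_rc_7_5 lc_c_rc_7_3 lc_c_rc_11_1 lc_c_rc_11_1 lc_c_rc_11_1 lc_c_rc_2_3 lc_c_rc_26_4 lc_c_rc_11_1 lc_c_rc_24_4 lc_c_rc_2_3 lc_c_rc_2_3 lc_c_rc_11_1 lc_c_rc_24_2 lc_c_rc_24_8 lc_c_rc_26_2 lc_c_rc_11_1 lc_c_rc_2_1 lc_c_rc_24_4 lc_c_rc_11_1 lc_c_rc_11_1 lc_c_rc_13_2 lc_c_rc_22_3) (@D3.rec (fun _ => (Cert rels S Gen.c)) lc_c_rc_11_1 lc_c_rc_13_2 lc_c_rc_26_4 lc_c_rc_11_1 lc_c_Cert_tree lc_c_rc_11_1 lc_c_Cert_tree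 lc_c_rc_26_2 lc_c_rc_25_13 lc_c_rc_24_6 lc_c_rc_26_8 lc_c_rc_11_1 lc_c_Cert_tree lc_c_Cert_tree lc_c_rc_22_5 lc_c_rc_13_2 lc_c_rc_2_3 lc_c_rc_26_10 lc_c_rc_26_8 lc_c_rc_2_3 lc_c_rc_11_1 lc_c_rc_2_3 lc_c_rc_11_1 lc_c_rc_7_5 lc_c_rc_12_14 lc_c_rc_22_5 lc_c_rc_13_2 lc_c_rc_13_2 lc_c_rc_13_2 lc_c_rc_2_3 lc_c_rc_26_10 lc_c_rc_26_4 lc_c_rc_14_2 lc_c_rc_2_1 lc_c_rc_13_2 lc_c_rc_24_2 lc_c_rc_22_3 lc_c_rc_26_4 lc_c_rc_23_5 lc_c_rc_23_5 lc_c_rc_11_1 lc_c_rc_24_2 lc_c_rc_12_2 lc_c_rc_25_1 lc_c_rc_26_4 lc_c_rc_11_1 lc_c_rc_25_5 lc_c_rc_2_1 lc_c_rc_24_4 lc_c_rc_11_1 lc_c_rc_11_1 lc_c_rc_11_1 lc_c_rc_13_2 lc_c_rc_11_1 lc_c_rc_25_1 lc_c_rc_7_1 lc_c_rc_24_6 lc_c_rc_12_8 lc_c_rc_13_2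 lc_c_rc_24_6 lc_c_rc_13_2 lc_c_rc_26_2) (@D3.rec (fun _ => (Cert rels S Gen.c)) lc_c_rc_14_0 lc_c_rc_11_1 lc_c_rc_14_0 lc_c_rc_23_5 lc_c_rc_11_1 lc_c_rc_11_1 lc_c_rc_2_3 lc_c_rc_24_6 lc_c_rc_11_1 lc_c_rc_26_2 lc_c_rc_22_3 lc_c_rc_14_2 lc_c_rc_12_2 lc_c_rc_11_1 lc_c_rc_2_1 lc_c_rc_22_7 lc_c_rc_22_9 lc_c_rc_23_5 lc_c_rc_11_1 lc_c_rc_7_1 lc_c_rc_7_1 lc_c_rc_11_1 lc_c_rc_13_2 lc_c_rc_7_1 lc_c_rc_11_1 lc_c_rc_11_1 lc_c_rc_26_2 lc_c_rc_22_7 lc_c_rc_11_1 lc_c_rc_11_1 lc_c_rc_2_3 lc_c_Cert_tree lc_c_rc_13_2 lc_c_rc_13_2 lc_c_rc_22_5 lc_c_rc_11_1 lc_c_rc_22_7 lc_c_rc_7_3 lc_c_rc_22_7 lc_c_rc_22_7 lc_c_rc_11_1 lc_c_rc_24_2 lc_c_rc_13_2 lc_c_rc_22_3 lc_c_rc_26_10 lc_c_rc_23_0 lc_c_rc_24_4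 lc_c_rc_24_8 lc_c_rc_26_2 lc_c_rc_11_1 lc_c_rc_23_5 lc_c_rc_26_2 lc_c_rc_7_5 lc_c_rc_22_3 lc_c_rc_13_0 lc_c_rc_11_1 lc_c_rc_23_0 lc_c_rc_14_2 lc_c_rc_13_2 lc_c_rc_14_2 lc_c_rc_26_4 lc_c_rc_26_4) (@D3.rec (fun _ => (Cert rels S Gen.c)) lc_c_rc_11_1 lc_c_rc_7_5 lc_c_rc_22_7 lc_c_rc_22_3 lc_c_rc_7_3 lc_c_rc_11_1 lc_c_rc_26_10 lc_c_rc_23_5 lc_c_rc_23_5 lc_c_rc_13_0 lc_c_rc_12_0 lc_c_rc_14_2 lc_c_rc_23_0 lc_c_rc_11_1 lc_c_rc_24_8 lc_c_rc_11_1 lc_c_rc_14_2 lc_c_rc_13_0 lc_c_rc_22_7 lc_c_rc_11_1 lc_c_rc_11_1 lc_c_rc_22_9 lc_c_rc_11_1 lc_c_rc_26_10 lc_c_rc_13_0 lc_c_Cert_tree lc_c_rc_24_8 lc_c_rc_14_2 lc_c_rc_13_0 lc_c_rc_11_1 lc_c_rc_11_1 lc_c_rc_14_2 lc_c_rc_26_4 lc_c_rc_11_1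 lc_c_rc_13_2 lc_c_rc_11_1 lc_c_rc_23_5 lc_c_rc_24_2 lc_c_rc_7_1 lc_c_rc_11_1 lc_c_rc_7_1 lc_c_rc_13_2 lc_c_rc_24_4 lc_c_rc_11_1 lc_c_rc_13_2 lc_c_Cert_tree lc_c_rc_2_3 lc_c_rc_7_3 lc_c_rc_23_5 lc_c_rc_7_1 lc_c_rc_11_1 lc_c_rc_14_2 lc_c_rc_11_1 lc_c_rc_11_1 lc_c_rc_11_1 lc_c_rc_22_9 lc_c_rc_11_1 lc_c_rc_11_1 lc_c_rc_11_1 lc_c_rc_11_1 lc_c_rc_24_4 lc_c_rc_13_2) (@D3.rec (fun _ => (Cert rels S Gen.c)) lc_c_rc_11_1 lc_c_rc_2_3 lc_c_rc_24_6 lc_c_rc_11_1 lc_c_rc_14_2 lc_c_rc_11_1 lc_c_rc_13_2 lc_c_rc_25_1 lc_c_rc_11_1 lc_c_rc_11_1 lc_c_rc_11_1 lc_c_rc_26_10 lc_c_rc_7_3 lc_c_rc_22_5 lc_c_rc_14_2 lc_c_rc_12_2 lc_c_rc_26_8 lc_c_Cert_tree lc_c_rc_7_3 lc_c_rc_23_5 lc_c_rc_11_1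 lc_c_rc_13_0 lc_c_rc_2_3 lc_c_rc_7_3 lc_c_rc_13_2 lc_c_rc_11_1 lc_c_rc_22_3 lc_c_rc_14_2 lc_c_rc_13_2 lc_c_rc_7_3 lc_c_rc_13_2 lc_c_rc_22_5 lc_c_rc_13_2 lc_c_rc_7_1 lc_c_rc_22_3 lc_c_rc_13_2 lc_c_rc_24_2 lc_c_rc_22_5 lc_c_rc_7_5 lc_c_rc_2_3 lc_c_rc_25_17 lc_c_rc_11_1 lc_c_rc_26_10 lc_c_rc_13_2 lc_c_rc_23_5 lc_c_rc_7_5 lc_c_rc_11_1 lc_c_rc_26_10 lc_c_rc_13_0 lc_c_rc_11_1 lc_c_rc_26_4 lc_c_rc_22_3 lc_c_rc_2_3 lc_c_rc_7_5 lc_c_rc_7_5 lc_c_rc_24_6 lc_c_rc_22_9 lc_c_rc_24_6 lc_c_rc_26_2 lc_c_rc_23_5 lc_c_rc_11_1 lc_c_rc_11_1)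
def ce_c_30 : D2 → D3 → (Cert rels S Gen.c) := @D2.rec (fun _ => D3 → (Cert rels S Gen.c)) (@D3.rec (fun _ => (Cert rels S Gen.c)) lc_c_rc_13_0 lc_c_rc_11_1 lc_c_rc_11_1 lc_c_rc_11_1 lc_c_rc_11_1 lc_c_rc_22_5 lc_c_rc_11_1 lc_c_rc_11_1 lc_c_rc_25_1 lc_c_rc_24_6 lc_c_rc_11_1 lc_c_rc_13_2 lc_c_rc_22_7 lc_c_rc_11_1 lc_c_rc_11_1 lc_c_rc_11_1 lc_c_rc_13_2 lc_c_rc_13_0 lc_c_rc_11_1 lc_c_rc_11_1 lc_c_rc_22_3 lc_c_rc_11_1 lc_c_rc_23_0 lc_c_rc_24_8 lc_c_rc_14_2 lc_c_rc_24_4 lc_c_rc_26_10 lc_c_rc_22_3 lc_c_rc_12_14 lc_c_rc_26_4 lc_c_rc_11_1 lc_c_rc_26_4 lc_c_rc_2_3 lc_c_rc_11_1 lc_c_rc_11_1 lc_c_rc_11_1 lc_c_rc_7_3 lc_c_rc_22_7 lc_c_rc_24_4 lc_c_rc_13_0 lc_c_rc_22_7 lc_c_rc_23_5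 lc_c_rc_11_1 lc_c_rc_11_1 lc_c_rc_22_3 lc_c_rc_14_2 lc_c_rc_11_1 lc_c_rc_11_1 lc_c_rc_13_2 lc_c_rc_13_0 lc_c_rc_22_3 lc_c_rc_13_2 lc_c_rc_11_1 lc_c_rc_14_2 lc_c_rc_22_3 lc_c_rc_11_1 lc_c_rc_13_2 lc_c_rc_11_1 lc_c_rc_24_6 lc_c_rc_14_2 lc_c_rc_24_8 lc_c_rc_11_1) (@D3.rec (fun _ => (Cert rels S Gen.c)) lc_c_rc_2_3 lc_c_rc_7_5 lc_c_rc_11_1 lc_c_rc_24_6 lc_c_rc_11_1 lc_c_rc_26_2 lc_c_rc_14_2 lc_c_rc_26_2 lc_c_rc_11_1 lc_c_rc_2_3 lc_c_rc_11_1 lc_c_rc_13_2 lc_c_rc_13_2 lc_c_rc_11_1 lc_c_rc_23_5 lc_c_rc_24_4 lc_c_rc_22_5 lc_c_rc_24_4 lc_c_rc_2_3 lc_c_rc_11_1 lc_c_rc_11_1 lc_c_rc_22_9 lc_c_rc_13_2 lc_c_rc_26_10 lc_c_rc_22_9 lc_c_rc_7_1 lc_c_rc_11_1 lc_c_rc_11_1 lc_c_rc_11_1 lc_c_rc_7_3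 lc_c_rc_23_5 lc_c_rc_11_1 lc_c_rc_22_9 lc_c_rc_14_2 lc_c_rc_14_2 lc_c_rc_26_8 lc_c_rc_14_0 lc_c_rc_26_10 lc_c_rc_7_1 lc_c_rc_2_3 lc_c_rc_7_3 lc_c_rc_13_2 lc_c_rc_12_14 lc_c_rc_12_14 lc_c_Cert_tree lc_c_rc_13_2 lc_c_rc_22_5 lc_c_rc_2_3 lc_c_rc_26_2 lc_c_rc_13_2 lc_c_rc_11_1 lc_c_rc_24_2 lc_c_rc_11_1 lc_c_rc_24_8 lc_c_rc_11_1 lc_c_rc_23_5 lc_c_rc_26_4 lc_c_rc_11_1 lc_c_rc_24_2 lc_c_rc_7_3 lc_c_rc_26_10 lc_c_rc_23_0) (@D3.rec (fun _ => (Cert rels S Gen.c)) lc_c_rc_24_4 lc_c_rc_7_3 lc_c_rc_25_9 lc_c_rc_11_1 lc_c_rc_23_0 lc_c_rc_13_2 lc_c_rc_24_8 lc_c_rc_11_1 lc_c_rc_22_3 lc_c_rc_11_1 lc_c_rc_11_1 lc_c_rc_26_4 lc_c_rc_11_1 lc_c_rc_13_2 lc_c_rc_26_4 lc_c_rc_11_1 lc_c_rc_25_1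 lc_c_rc_26_2 lc_c_rc_22_3 lc_c_rc_22_7 lc_c_rc_14_2 lc_c_rc_13_2 lc_c_rc_7_1 lc_c_rc_11_1 lc_c_rc_26_4 lc_c_rc_11_1 lc_c_rc_26_8 lc_c_rc_7_1 lc_c_rc_13_2 lc_c_rc_26_2 lc_c_rc_7_5 lc_c_rc_2_1 lc_c_rc_24_4 lc_c_rc_24_6 lc_c_rc_11_1 lc_c_rc_13_2 lc_c_rc_7_3 lc_c_rc_7_5 lc_c_rc_11_1 lc_c_rc_11_1 lc_c_rc_14_2 lc_c_rc_11_1 lc_c_rc_23_5 lc_c_rc_13_2 lc_c_rc_26_4 lc_c_rc_24_2 lc_c_rc_12_2 lc_c_rc_23_0 lc_c_rc_24_6 lc_c_rc_11_1 lc_c_rc_11_1 lc_c_rc_24_8 lc_c_rc_13_2 lc_c_rc_23_5 lc_c_rc_11_1 lc_c_rc_7_5 lc_c_rc_26_8 lc_c_rc_26_2 lc_c_rc_23_0 lc_c_rc_12_2 lc_c_rc_13_2 lc_c_rc_22_9) (@D3.rec (fun _ => (Cert rels S Gen.c)) lc_c_Cert_tree lc_c_rc_13_2 lc_c_rc_24_8 lc_c_rc_14_2 lc_c_rc_23_5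 lc_c_rc_11_1 lc_c_rc_11_1 lc_c_rc_11_1 lc_c_rc_11_1 lc_c_rc_26_2 lc_c_rc_22_3 lc_c_rc_14_2 lc_c_rc_13_2 lc_c_rc_14_2 lc_c_rc_23_0 lc_c_rc_14_2 lc_c_rc_14_0 lc_c_rc_22_5 lc_c_rc_11_1 lc_c_rc_26_8 lc_c_rc_7_1 lc_c_rc_26_8 lc_c_rc_13_2 lc_c_rc_26_2 lc_c_rc_22_3 lc_c_rc_11_1 lc_c_rc_26_2 lc_c_rc_11_1 lc_c_rc_24_4 lc_c_rc_26_4 lc_c_rc_2_3 lc_c_rc_22_3 lc_c_rc_26_4 lc_c_rc_22_5 lc_c_rc_22_3 lc_c_rc_22_5 lc_c_rc_11_1 lc_c_rc_26_4 lc_c_rc_26_4 lc_c_rc_22_3 lc_c_rc_26_10 lc_c_rc_12_2 lc_c_rc_24_2 lc_c_rc_2_3 lc_c_rc_26_4 lc_c_rc_13_0 lc_c_rc_24_6 lc_c_rc_12_14 lc_c_rc_11_1 lc_c_rc_13_2 lc_c_rc_11_1 lc_c_rc_13_0 lc_c_rc_11_1 lc_c_rc_11_1 lc_c_rc_11_1 lc_c_rc_2_3 lc_c_rc_26_2 lc_c_rc_11_1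 lc_c_rc_11_1 lc_c_rc_22_9 lc_c_rc_24_4 lc_c_rc_25_1) (@D3.rec (fun _ => (Cert rels S Gen.c)) lc_c_rc_22_3 lc_c_rc_23_0 lc_c_rc_7_5 lc_c_rc_26_2 lc_c_rc_25_1 lc_c_rc_11_1 lc_c_rc_13_2 lc_c_rc_22_7 lc_c_rc_11_1 lc_c_rc_7_1 lc_c_rc_11_1 lc_c_rc_24_4 lc_c_rc_26_8 lc_c_rc_11_1 lc_c_rc_13_2 lc_c_rc_7_5 lc_c_rc_24_2 lc_c_rc_22_5 lc_c_rc_13_2 lc_c_rc_11_1 lc_c_rc_26_4 lc_c_rc_24_6 lc_c_rc_25_1 lc_c_rc_11_1 lc_c_rc_14_2 lc_c_rc_11_1 lc_c_rc_13_2 lc_c_rc_7_5 lc_c_rc_11_1 lc_c_rc_26_4 lc_c_rc_11_1 lc_c_rc_7_3 lc_c_rc_24_6 lc_c_rc_24_8 lc_c_rc_14_2 lc_c_rc_24_8 lc_c_rc_23_0 lc_c_rc_22_3 lc_c_rc_11_1 lc_c_rc_25_1 lc_c_rc_25_1 lc_c_rc_23_0 lc_c_rc_11_1 lc_c_rc_22_3 lc_c_rc_11_1 lc_c_rc_26_8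 lc_c_rc_11_1 lc_c_rc_7_5 lc_c_rc_24_6 lc_c_rc_11_1 lc_c_rc_7_3 lc_c_rc_11_1 lc_c_rc_26_10 lc_c_rc_13_2 lc_c_rc_7_5 lc_c_Cert_tree lc_c_rc_13_2 lc_c_rc_12_14 lc_c_rc_13_2 lc_c_rc_22_5 lc_c_rc_11_1 lc_c_rc_11_1) (@D3.rec (fun _ => (Cert rels S Gen.c)) lc_c_rc_11_1 lc_c_rc_11_1 lc_c_rc_24_4 lc_c_rc_22_5 lc_c_rc_26_8 lc_c_rc_13_2 lc_c_rc_11_1 lc_c_Cert_tree lc_c_rc_2_3 lc_c_rc_24_2 lc_c_rc_13_2 lc_c_rc_13_0 lc_c_rc_13_2 lc_c_rc_11_1 lc_c_rc_11_1 lc_c_rc_24_6 lc_c_rc_2_1 lc_c_rc_11_1 lc_c_rc_24_8 lc_c_rc_7_5 lc_c_rc_2_1 lc_c_rc_11_1 lc_c_rc_23_5 lc_c_rc_14_0 lc_c_rc_11_1 lc_c_rc_2_3 lc_c_rc_7_3 lc_c_rc_22_3 lc_c_rc_26_2 lc_c_rc_26_10 lc_c_rc_13_2 lc_c_rc_11_1 lc_c_rc_22_5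 lc_c_rc_26_8 lc_c_rc_2_3 lc_c_rc_13_0 lc_c_rc_11_1 lc_c_rc_7_5 lc_c_rc_13_2 lc_c_rc_2_3 lc_c_rc_14_2 lc_c_rc_24_2 lc_c_rc_13_2 lc_c_rc_13_2 lc_c_rc_13_2 lc_c_rc_14_2 lc_c_rc_13_0 lc_c_rc_13_2 lc_c_rc_11_1 lc_c_rc_14_2 lc_c_Cert_tree lc_c_rc_26_4 lc_c_rc_24_4 lc_c_rc_14_2 lc_c_rc_23_0 lc_c_rc_11_1 lc_c_rc_11_1 lc_c_rc_26_2 lc_c_rc_13_2 lc_c_rc_13_2 lc_c_rc_23_5 lc_c_rc_26_2) (@D3.rec (fun _ => (Cert rels S Gen.c)) lc_c_rc_24_6 lc_c_rc_2_1 lc_c_rc_13_2 lc_c_rc_11_1 lc_c_rc_26_10 lc_c_rc_11_1 lc_c_rc_14_2 lc_c_rc_13_2 lc_c_rc_11_1 lc_c_rc_22_3 lc_c_rc_22_5 lc_c_Cert_tree lc_c_Cert_tree lc_c_rc_11_1 lc_c_rc_7_5 lc_c_rc_14_2 lc_c_rc_26_8 lc_c_rc_13_2 lc_c_rc_23_0 lc_c_rc_24_6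 lc_c_rc_14_0 lc_c_rc_26_10 lc_c_rc_11_1 lc_c_rc_11_1 lc_c_rc_2_3 lc_c_rc_11_1 lc_c_rc_22_7 lc_c_rc_7_5 lc_c_rc_11_1 lc_c_rc_26_4 lc_c_rc_11_1 lc_c_rc_11_1 lc_c_rc_26_8 lc_c_rc_2_3 lc_c_rc_26_4 lc_c_rc_11_1 lc_c_rc_11_1 lc_c_rc_22_3 lc_c_rc_13_2 lc_c_rc_26_10 lc_c_rc_13_0 lc_c_rc_26_8 lc_c_rc_26_2 lc_c_rc_26_4 lc_c_rc_2_3 lc_c_rc_13_0 lc_c_rc_11_1 lc_c_rc_22_9 lc_c_rc_24_8 lc_c_rc_11_1 lc_c_rc_26_4 lc_c_rc_14_2 lc_c_rc_7_3 lc_c_rc_13_0 lc_c_rc_11_1 lc_c_rc_13_2 lc_c_rc_26_8 lc_c_rc_11_1 lc_c_rc_11_1 lc_c_rc_13_2 lc_c_rc_13_2 lc_c_rc_13_2) (@D3.rec (fun _ => (Cert rels S Gen.c)) lc_c_rc_11_1 lc_c_rc_11_1 lc_c_rc_13_2 lc_c_rc_11_1 lc_c_rc_11_1 lc_c_rc_26_4 lc_c_rc_7_1 lc_c_rc_11_1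 lc_c_rc_26_4 lc_c_rc_7_3 lc_c_rc_13_2 lc_c_rc_11_1 lc_c_rc_26_2 lc_c_rc_11_1 lc_c_rc_11_1 lc_c_rc_26_8 lc_c_rc_24_2 lc_c_rc_11_1 lc_c_rc_11_1 lc_c_rc_24_8 lc_c_rc_11_1 lc_c_rc_7_5 lc_c_rc_26_10 lc_c_rc_11_1 lc_c_rc_13_2 lc_c_rc_26_8 lc_c_rc_13_2 lc_c_rc_22_7 lc_c_rc_11_1 lc_c_rc_11_1 lc_c_rc_2_3 lc_c_rc_23_0 lc_c_rc_26_8 lc_c_rc_23_5 lc_c_rc_22_3 lc_c_Cert_tree lc_c_rc_25_5 lc_c_rc_26_4 lc_c_rc_13_0 lc_c_rc_22_7 lc_c_rc_26_4 lc_c_rc_24_6 lc_c_rc_11_1 lc_c_rc_2_3 lc_c_rc_26_2 lc_c_rc_14_2 lc_c_rc_11_1 lc_c_rc_7_3 lc_c_rc_11_1 lc_c_rc_11_1 lc_c_rc_7_3 lc_c_rc_11_1 lc_c_rc_22_3 lc_c_rc_13_0 lc_c_rc_13_0 lc_c_rc_26_10 lc_c_rc_13_2 lc_c_rc_22_3 lc_c_rc_2_1 lc_c_rc_13_2 lc_c_rc_13_2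 lc_c_rc_13_2) (@D3.rec (fun _ => (Cert rels S Gen.c)) lc_c_rc_2_3 lc_c_rc_11_1 lc_c_rc_7_3 lc_c_rc_24_2 lc_c_rc_7_3 lc_c_rc_14_2 lc_c_rc_23_0 lc_c_rc_2_1 lc_c_rc_7_3 lc_c_rc_13_2 lc_c_rc_24_4 lc_c_rc_14_2 lc_c_rc_24_4 lc_c_rc_26_2 lc_c_rc_26_2 lc_c_rc_11_1 lc_c_rc_11_1 lc_c_rc_13_2 lc_c_rc_13_2 lc_c_rc_23_0 lc_c_rc_23_0 lc_c_rc_26_2 lc_c_rc_13_2 lc_c_rc_13_0 lc_c_rc_13_2 lc_c_rc_11_1 lc_c_rc_7_5 lc_c_rc_13_2 lc_c_rc_26_10 lc_c_rc_24_4 lc_c_rc_24_6 lc_c_rc_22_5 lc_c_rc_22_5 lc_c_rc_26_2 lc_c_rc_24_2 lc_c_rc_26_4 lc_c_rc_13_0 lc_c_rc_26_2 lc_c_rc_7_3 lc_c_rc_13_0 lc_c_rc_26_8 lc_c_rc_11_1 lc_c_rc_26_2 lc_c_rc_13_2 lc_c_rc_14_2 lc_c_rc_23_5 lc_c_rc_26_2 lc_c_rc_13_2 lc_c_rc_11_1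 lc_c_rc_11_1 lc_c_rc_11_1 lc_c_rc_26_10 lc_c_rc_25_1 lc_c_rc_26_4 lc_c_rc_14_2 lc_c_rc_11_1 lc_c_rc_26_2 lc_c_rc_11_1 lc_c_rc_11_1 lc_c_rc_12_14 lc_c_rc_13_2 lc_c_rc_23_5) (@D3.rec (fun _ => (Cert rels S Gen.c)) lc_c_rc_23_0 lc_c_rc_26_4 lc_c_rc_13_2 lc_c_rc_7_3 lc_c_rc_14_0 lc_c_rc_13_2 lc_c_rc_11_1 lc_c_rc_11_1 lc_c_rc_11_1 lc_c_rc_23_5 lc_c_rc_22_7 lc_c_rc_22_5 lc_c_rc_13_0 lc_c_rc_12_8 lc_c_rc_7_1 lc_c_Cert_tree lc_c_rc_13_2 lc_c_rc_7_3 lc_c_rc_22_5 lc_c_rc_13_2 lc_c_rc_7_3 lc_c_rc_13_2 lc_c_rc_14_2 lc_c_rc_7_1 lc_c_rc_2_3 lc_c_rc_7_3 lc_c_rc_11_1 lc_c_rc_11_1 lc_c_rc_7_3 lc_c_rc_22_7 lc_c_rc_24_2 lc_c_rc_11_1 lc_c_rc_14_2 lc_c_rc_13_2 lc_c_rc_22_5 lc_c_rc_12_0 lc_c_rc_24_4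 lc_c_rc_7_1 lc_c_rc_22_5 lc_c_Cert_tree lc_c_rc_2_3 lc_c_rc_7_3 lc_c_rc_13_2 lc_c_rc_22_7 lc_c_rc_24_6 lc_c_rc_23_0 lc_c_rc_2_3 lc_c_rc_7_3 lc_c_rc_13_2 lc_c_rc_14_2 lc_c_rc_26_10 lc_c_rc_11_1 lc_c_rc_7_5 lc_c_rc_11_1 lc_c_rc_2_3 lc_c_rc_13_2 lc_c_rc_13_2 lc_c_rc_14_2 lc_c_rc_22_3 lc_c_rc_26_2 lc_c_rc_2_3 lc_c_rc_24_4) (@D3.rec (fun _ => (Cert rels S Gen.c)) lc_c_rc_23_0 lc_c_rc_13_2 lc_c_rc_7_3 lc_c_rc_13_2 lc_c_rc_24_6 lc_c_rc_11_1 lc_c_rc_14_2 lc_c_rc_22_5 lc_c_rc_22_9 lc_c_rc_22_5 lc_c_rc_22_3 lc_c_rc_7_5 lc_c_rc_14_2 lc_c_rc_11_1 lc_c_rc_7_5 lc_c_rc_26_4 lc_c_rc_23_0 lc_c_rc_11_1 lc_c_rc_11_1 lc_c_rc_2_1 lc_c_rc_24_2 lc_c_rc_23_0 lc_c_rc_11_1 lc_c_Cert_tree lc_c_rc_24_8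 lc_c_rc_26_2 lc_c_rc_11_1 lc_c_rc_26_8 lc_c_rc_24_4 lc_c_rc_23_0 lc_c_rc_13_2 lc_c_rc_22_3 lc_c_rc_22_7 lc_c_rc_22_5 lc_c_rc_26_4 lc_c_rc_11_1 lc_c_rc_2_1 lc_c_rc_26_4 lc_c_rc_11_1 lc_c_rc_22_7 lc_c_rc_11_1 lc_c_rc_11_1 lc_c_rc_24_8 lc_c_rc_11_1 lc_c_rc_7_3 lc_c_rc_13_2 lc_c_rc_24_8 lc_c_rc_14_2 lc_c_rc_13_2 lc_c_rc_24_2 lc_c_rc_13_0 lc_c_rc_7_5 lc_c_rc_24_8 lc_c_rc_24_6 lc_c_rc_23_0 lc_c_rc_13_0 lc_c_rc_11_1 lc_c_rc_13_2 lc_c_rc_14_2 lc_c_rc_26_2 lc_c_rc_24_2 lc_c_rc_26_4) (@D3.rec (fun _ => (Cert rels S Gen.c)) lc_c_rc_11_1 lc_c_rc_11_1 lc_c_rc_24_4 lc_c_rc_23_0 lc_c_rc_22_5 lc_c_rc_11_1 lc_c_rc_11_1 lc_c_rc_24_4 lc_c_rc_11_1 lc_c_rc_2_1 lc_c_rc_26_8 lc_c_rc_13_2 lc_c_rc_26_8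 lc_c_rc_13_0 lc_c_rc_26_8 lc_c_rc_11_1 lc_c_rc_2_3 lc_c_rc_11_1 lc_c_rc_24_6 lc_c_rc_7_5 lc_c_rc_26_4 lc_c_rc_13_2 lc_c_rc_7_5 lc_c_rc_7_5 lc_c_rc_24_8 lc_c_rc_24_4 lc_c_rc_24_8 lc_c_rc_13_2 lc_c_rc_11_1 lc_c_rc_22_3 lc_c_rc_22_3 lc_c_rc_13_2 lc_c_rc_7_5 lc_c_rc_26_2 lc_c_rc_13_2 lc_c_rc_26_2 lc_c_rc_7_3 lc_c_rc_13_2 lc_c_rc_7_3 lc_c_rc_11_1 lc_c_rc_11_1 lc_c_rc_13_2 lc_c_rc_24_6 lc_c_rc_11_1 lc_c_rc_13_2 lc_c_rc_23_5 lc_c_rc_13_2 lc_c_rc_11_1 lc_c_rc_11_1 lc_c_rc_7_3 lc_c_rc_13_2 lc_c_rc_25_1 lc_c_rc_14_0 lc_c_rc_14_2 lc_c_rc_14_0 lc_c_rc_11_1 lc_c_rc_13_2 lc_c_rc_13_2 lc_c_rc_7_5 lc_c_rc_11_1 lc_c_rc_24_2 lc_c_rc_13_2) (@D3.rec (fun _ => (Cert rels S Gen.c)) lc_c_rc_22_3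 lc_c_rc_13_2 lc_c_rc_7_3 lc_c_rc_13_2 lc_c_rc_24_4 lc_c_rc_14_2 lc_c_rc_13_2 lc_c_rc_11_1 lc_c_rc_24_8 lc_c_rc_26_2 lc_c_rc_22_5 lc_c_rc_7_5 lc_c_rc_13_0 lc_c_rc_7_3 lc_c_rc_12_14 lc_c_rc_11_1 lc_c_rc_13_2 lc_c_rc_11_1 lc_c_rc_11_1 lc_c_rc_11_1 lc_c_rc_11_1 lc_c_rc_11_1 lc_c_rc_26_4 lc_c_rc_22_3 lc_c_rc_11_1 lc_c_rc_26_10 lc_c_rc_7_3 lc_c_rc_13_0 lc_c_rc_14_2 lc_c_rc_24_4 lc_c_rc_26_4 lc_c_rc_14_2 lc_c_rc_26_4 lc_c_rc_13_2 lc_c_rc_25_5 lc_c_rc_14_2 lc_c_rc_2_3 lc_c_rc_22_3 lc_c_rc_7_5 lc_c_rc_11_1 lc_c_rc_22_5 lc_c_rc_11_1 lc_c_rc_13_2 lc_c_rc_11_1 lc_c_rc_11_1 lc_c_rc_11_1 lc_c_rc_11_1 lc_c_rc_11_1 lc_c_rc_11_1 lc_c_rc_11_1 lc_c_rc_11_1 lc_c_rc_11_1 lc_c_rc_26_10 lc_c_rc_7_5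 lc_c_rc_26_2 lc_c_Cert_tree lc_c_rc_26_2 lc_c_rc_11_1 lc_c_rc_13_0 lc_c_rc_26_10 lc_c_rc_13_0 lc_c_rc_22_7) (@D3.rec (fun _ => (Cert rels S Gen.c)) lc_c_rc_2_1 lc_c_rc_11_1 lc_c_rc_11_1 lc_c_rc_23_5 lc_c_rc_13_0 lc_c_rc_13_2 lc_c_rc_7_3 lc_c_rc_13_2 lc_c_rc_22_9 lc_c_rc_13_2 lc_c_rc_26_10 lc_c_rc_7_5 lc_c_rc_7_1 lc_c_rc_11_1 lc_c_rc_11_1 lc_c_rc_11_1 lc_c_rc_22_3 lc_c_rc_11_1 lc_c_rc_24_4 lc_c_Cert_tree lc_c_rc_13_2 lc_c_rc_13_2 lc_c_rc_24_2 lc_c_rc_11_1 lc_c_rc_11_1 lc_c_rc_7_1 lc_c_rc_14_2 lc_c_rc_26_2 lc_c_rc_13_2 lc_c_rc_11_1 lc_c_rc_11_1 lc_c_rc_22_9 lc_c_rc_11_1 lc_c_rc_23_0 lc_c_rc_23_0 lc_c_rc_13_0 lc_c_rc_13_0 lc_c_Cert_tree lc_c_rc_11_1 lc_c_rc_13_2 lc_c_rc_13_2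 lc_c_rc_24_4 lc_c_rc_22_3 lc_c_rc_13_2 lc_c_rc_13_2 lc_c_rc_26_10 lc_c_rc_11_1 lc_c_rc_23_5 lc_c_rc_11_1 lc_c_Cert_tree lc_c_rc_13_2 lc_c_rc_22_5 lc_c_rc_7_5 lc_c_rc_25_5 lc_c_rc_13_2 lc_c_rc_23_5 lc_c_rc_13_2 lc_c_rc_22_5 lc_c_rc_26_8 lc_c_rc_22_7 lc_c_rc_23_5 lc_c_rc_7_5) (@D3.rec (fun _ => (Cert rels S Gen.c)) lc_c_rc_22_3 lc_c_rc_13_2 lc_c_rc_7_5 lc_c_rc_24_8 lc_c_rc_14_2 lc_c_rc_14_2 lc_c_rc_13_2 lc_c_rc_24_8 lc_c_rc_26_2 lc_c_rc_23_0 lc_c_rc_26_4 lc_c_rc_26_8 lc_c_rc_11_1 lc_c_rc_14_0 lc_c_rc_22_5 lc_c_rc_7_3 lc_c_rc_26_4 lc_c_rc_13_2 lc_c_rc_13_0 lc_c_rc_11_1 lc_c_rc_13_0 lc_c_Cert_tree lc_c_rc_13_2 lc_c_rc_26_4 lc_c_rc_14_2 lc_c_rc_11_1 lc_c_rc_13_0 lc_c_rc_22_9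 lc_c_rc_11_1 lc_c_rc_13_0 lc_c_rc_25_5 lc_c_rc_11_1 lc_c_rc_11_1 lc_c_rc_23_5 lc_c_rc_2_3 lc_c_rc_26_2 lc_c_rc_7_5 lc_c_rc_26_2 lc_c_rc_24_2 lc_c_rc_13_2 lc_c_rc_22_5 lc_c_rc_13_0 lc_c_rc_11_1 lc_c_rc_2_3 lc_c_rc_11_1 lc_c_rc_11_1 lc_c_rc_26_2 lc_c_rc_24_2 lc_c_rc_14_0 lc_c_rc_11_1 lc_c_rc_13_2 lc_c_rc_11_1 lc_c_rc_11_1 lc_c_rc_13_2 lc_c_rc_13_0 lc_c_rc_11_1 lc_c_rc_2_1 lc_c_rc_13_2 lc_c_rc_25_17 lc_c_rc_11_1 lc_c_rc_26_10 lc_c_rc_23_0) (@D3.rec (fun _ => (Cert rels S Gen.c)) lc_c_rc_14_2 lc_c_rc_13_2 lc_c_rc_26_4 lc_c_rc_25_5 lc_c_rc_11_1 lc_c_rc_26_4 lc_c_rc_22_7 lc_c_rc_26_4 lc_c_rc_13_2 lc_c_rc_23_0 lc_c_rc_25_1 lc_c_rc_7_3 lc_c_rc_13_2 lc_c_rc_7_3 lc_c_rc_11_1 lc_c_rc_13_2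 lc_c_rc_7_1 lc_c_rc_26_10 lc_c_rc_13_2 lc_c_rc_22_9 lc_c_rc_14_0 lc_c_rc_25_17 lc_c_rc_11_1 lc_c_rc_7_1 lc_c_rc_23_5 lc_c_rc_7_3 lc_c_rc_22_7 lc_c_rc_13_2 lc_c_rc_22_5 lc_c_rc_7_3 lc_c_rc_12_2 lc_c_rc_23_0 lc_c_rc_13_2 lc_c_rc_13_2 lc_c_rc_24_6 lc_c_rc_13_2 lc_c_rc_26_4 lc_c_rc_11_1 lc_c_rc_13_2 lc_c_rc_14_2 lc_c_rc_13_2 lc_c_rc_2_3 lc_c_rc_11_1 lc_c_rc_22_7 lc_c_rc_14_2 lc_c_rc_11_1 lc_c_rc_22_3 lc_c_rc_11_1 lc_c_rc_24_6 lc_c_rc_13_2 lc_c_Cert_tree lc_c_rc_24_4 lc_c_rc_23_5 lc_c_rc_23_5 lc_c_rc_26_10 lc_c_rc_25_1 lc_c_rc_22_5 lc_c_rc_12_2 lc_c_rc_22_5 lc_c_rc_14_2 lc_c_rc_11_1 lc_c_rc_25_17) (@D3.rec (fun _ => (Cert rels S Gen.c)) lc_c_rc_26_8 lc_c_rc_11_1 lc_c_rc_7_3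 lc_c_rc_7_3 lc_c_rc_22_5 lc_c_rc_23_0 lc_c_rc_11_1 lc_c_rc_2_3 lc_c_rc_26_4 lc_c_rc_12_14 lc_c_rc_14_2 lc_c_rc_14_2 lc_c_rc_14_2 lc_c_rc_13_2 lc_c_rc_11_1 lc_c_rc_22_3 lc_c_rc_2_3 lc_c_rc_13_2 lc_c_rc_12_2 lc_c_rc_7_5 lc_c_rc_11_1 lc_c_rc_7_3 lc_c_rc_26_4 lc_c_rc_11_1 lc_c_rc_24_2 lc_c_rc_26_8 lc_c_rc_11_1 lc_c_rc_7_1 lc_c_rc_23_0 lc_c_rc_14_2 lc_c_rc_11_1 lc_c_rc_13_2 lc_c_rc_11_1 lc_c_rc_12_14 lc_c_rc_7_5 lc_c_rc_22_5 lc_c_rc_7_1 lc_c_rc_7_5 lc_c_rc_13_2 lc_c_rc_11_1 lc_c_Cert_tree lc_c_rc_7_5 lc_c_rc_2_1 lc_c_rc_26_10 lc_c_rc_23_0 lc_c_rc_11_1 lc_c_rc_26_4 lc_c_rc_11_1 lc_c_rc_7_3 lc_c_rc_11_1 lc_c_rc_11_1 lc_c_rc_24_4 lc_c_rc_26_8 lc_c_rc_22_9 lc_c_rc_14_2 lc_c_rc_26_10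 lc_c_rc_2_3 lc_c_rc_11_1 lc_c_rc_26_10 lc_c_rc_11_1 lc_c_rc_26_8 lc_c_rc_24_8) (@D3.rec (fun _ => (Cert rels S Gen.c)) lc_c_rc_24_6 lc_c_rc_11_1 lc_c_rc_7_5 lc_c_rc_7_1 lc_c_rc_26_2 lc_c_rc_22_5 lc_c_rc_13_0 lc_c_rc_13_0 lc_c_rc_22_3 lc_c_rc_7_3 lc_c_rc_22_5 lc_c_rc_11_1 lc_c_rc_11_1 lc_c_rc_11_1 lc_c_rc_13_2 lc_c_rc_13_2 lc_c_rc_13_2 lc_c_rc_13_2 lc_c_rc_22_5 lc_c_rc_26_8 lc_c_rc_24_2 lc_c_rc_22_5 lc_c_rc_13_2 lc_c_rc_13_2 lc_c_rc_24_4 lc_c_rc_11_1 lc_c_rc_24_2 lc_c_rc_12_0 lc_c_rc_11_1 lc_c_rc_7_5 lc_c_rc_11_1 lc_c_rc_11_1 lc_c_rc_26_10 lc_c_rc_26_2 lc_c_rc_26_8 lc_c_rc_7_3 lc_c_Cert_tree lc_c_rc_13_2 lc_c_rc_22_3 lc_c_rc_13_2 lc_c_rc_2_1 lc_c_rc_11_1 lc_c_rc_11_1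 lc_c_rc_13_2 lc_c_rc_22_9 lc_c_rc_13_2 lc_c_rc_13_2 lc_c_rc_26_4 lc_c_rc_24_4 lc_c_rc_12_2 lc_c_rc_26_2 lc_c_rc_2_1 lc_c_rc_26_4 lc_c_rc_7_3 lc_c_rc_22_9 lc_c_rc_26_10 lc_c_rc_13_2 lc_c_rc_2_3 lc_c_rc_13_2 lc_c_rc_11_1 lc_c_rc_12_0 lc_c_rc_24_4) (@D3.rec (fun _ => (Cert rels S Gen.c)) lc_c_rc_22_5 lc_c_rc_22_3 lc_c_rc_13_2 lc_c_rc_11_1 lc_c_rc_13_2 lc_c_rc_22_9 lc_c_rc_11_1 lc_c_rc_22_5 lc_c_rc_26_10 lc_c_rc_24_6 lc_c_rc_13_2 lc_c_rc_7_3 lc_c_rc_13_2 lc_c_rc_11_1 lc_c_rc_7_1 lc_c_rc_2_3 lc_c_rc_26_4 lc_c_rc_25_5 lc_c_rc_7_5 lc_c_rc_13_2 lc_c_rc_22_5 lc_c_rc_11_1 lc_c_rc_11_1 lc_c_Cert_tree lc_c_rc_13_2 lc_c_rc_11_1 lc_c_rc_14_2 lc_c_rc_14_2 lc_c_rc_22_9 lc_c_Cert_tree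 lc_c_rc_11_1 lc_c_rc_26_2 lc_c_rc_26_2 lc_c_rc_25_17 lc_c_rc_13_0 lc_c_rc_13_0 lc_c_rc_11_1 lc_c_rc_14_2 lc_c_rc_11_1 lc_c_rc_11_1 lc_c_rc_7_3 lc_c_rc_22_5 lc_c_rc_13_2 lc_c_rc_13_2 lc_c_rc_13_0 lc_c_rc_13_0 lc_c_rc_7_5 lc_c_rc_22_9 lc_c_rc_11_1 lc_c_rc_13_2 lc_c_rc_11_1 lc_c_rc_13_0 lc_c_rc_26_4 lc_c_rc_11_1 lc_c_rc_12_2 lc_c_Cert_tree lc_c_rc_11_1 lc_c_rc_2_3 lc_c_rc_7_3 lc_c_rc_11_1 lc_c_rc_11_1 lc_c_Cert_tree) (@D3.rec (fun _ => (Cert rels S Gen.c)) lc_c_rc_11_1 lc_c_rc_13_2 lc_c_rc_11_1 lc_c_rc_13_0 lc_c_rc_13_2 lc_c_rc_26_8 lc_c_rc_22_3 lc_c_rc_14_2 lc_c_rc_14_0 lc_c_rc_13_2 lc_c_rc_22_5 lc_c_rc_13_2 lc_c_rc_7_5 lc_c_rc_7_5 lc_c_rc_23_5 lc_c_rc_11_1 lc_c_rc_11_1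 lc_c_rc_11_1 lc_c_rc_13_2 lc_c_rc_14_2 lc_c_rc_2_3 lc_c_rc_11_1 lc_c_rc_22_3 lc_c_rc_26_4 lc_c_rc_13_2 lc_c_rc_13_2 lc_c_rc_13_2 lc_c_rc_14_0 lc_c_rc_24_6 lc_c_Cert_tree lc_c_rc_7_5 lc_c_rc_22_3 lc_c_rc_13_2 lc_c_rc_13_2 lc_c_rc_23_5 lc_c_rc_26_2 lc_c_rc_24_8 lc_c_rc_22_5 lc_c_rc_22_5 lc_c_rc_13_2 lc_c_rc_13_2 lc_c_rc_24_6 lc_c_rc_14_0 lc_c_rc_24_4 lc_c_rc_11_1 lc_c_rc_7_5 lc_c_rc_13_2 lc_c_rc_11_1 lc_c_rc_13_0 lc_c_rc_13_2 lc_c_rc_11_1 lc_c_rc_11_1 lc_c_rc_11_1 lc_c_rc_11_1 lc_c_rc_11_1 lc_c_rc_23_5 lc_c_rc_11_1 lc_c_rc_13_2 lc_c_rc_13_0 lc_c_rc_13_2 lc_c_rc_26_4 lc_c_rc_11_1) (@D3.rec (fun _ => (Cert rels S Gen.c)) lc_c_rc_13_2 lc_c_rc_23_5 lc_c_rc_11_1 lc_c_rc_23_0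 lc_c_rc_11_1 lc_c_rc_13_2 lc_c_rc_24_6 lc_c_rc_23_0 lc_c_rc_11_1 lc_c_rc_23_0 lc_c_rc_13_2 lc_c_rc_11_1 lc_c_rc_11_1 lc_c_rc_13_2 lc_c_rc_14_2 lc_c_rc_26_2 lc_c_rc_24_4 lc_c_rc_24_6 lc_c_rc_26_2 lc_c_Cert_tree lc_c_rc_13_2 lc_c_rc_7_3 lc_c_rc_2_3 lc_c_rc_13_0 lc_c_rc_11_1 lc_c_rc_11_1 lc_c_rc_13_2 lc_c_rc_11_1 lc_c_rc_11_1 lc_c_rc_13_2 lc_c_rc_13_2 lc_c_rc_13_2 lc_c_rc_13_2 lc_c_rc_11_1 lc_c_rc_26_8 lc_c_rc_11_1 lc_c_rc_11_1 lc_c_rc_11_1 lc_c_rc_11_1 lc_c_rc_11_1 lc_c_rc_22_9 lc_c_rc_13_2 lc_c_rc_11_1 lc_c_rc_24_4 lc_c_rc_13_2 lc_c_rc_24_8 lc_c_rc_13_2 lc_c_rc_11_1 lc_c_rc_11_1 lc_c_rc_14_2 lc_c_rc_13_2 lc_c_rc_13_2 lc_c_rc_25_9 lc_c_rc_11_1 lc_c_rc_7_3 lc_c_rc_24_4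 lc_c_rc_11_1 lc_c_rc_22_3 lc_c_rc_7_3 lc_c_rc_26_10 lc_c_rc_24_4 lc_c_rc_7_3) (@D3.rec (fun _ => (Cert rels S Gen.c)) lc_c_rc_11_1 lc_c_rc_7_3 lc_c_rc_13_2 lc_c_rc_24_6 lc_c_rc_24_8 lc_c_rc_14_2 lc_c_rc_24_2 lc_c_rc_13_2 lc_c_rc_11_1 lc_c_rc_23_0 lc_c_rc_2_3 lc_c_rc_11_1 lc_c_rc_13_2 lc_c_rc_23_5 lc_c_rc_11_1 lc_c_rc_13_2 lc_c_rc_11_1 lc_c_rc_22_3 lc_c_rc_24_6 lc_c_rc_11_1 lc_c_rc_24_6 lc_c_rc_26_2 lc_c_rc_11_1 lc_c_rc_11_1 lc_c_rc_22_7 lc_c_rc_11_1 lc_c_rc_26_2 lc_c_rc_11_1 lc_c_rc_13_2 lc_c_rc_26_8 lc_c_rc_11_1 lc_c_rc_13_2 lc_c_rc_11_1 lc_c_rc_11_1 lc_c_rc_7_3 lc_c_rc_22_5 lc_c_rc_13_2 lc_c_rc_23_0 lc_c_rc_26_4 lc_c_rc_11_1 lc_c_rc_11_1 lc_c_rc_11_1 lc_c_rc_22_3 lc_c_rc_14_2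 lc_c_Cert_tree lc_c_Cert_tree lc_c_rc_2_3 lc_c_rc_13_2 lc_c_rc_22_5 lc_c_rc_11_1 lc_c_rc_11_1 lc_c_rc_11_1 lc_c_rc_11_1 lc_c_rc_7_3 lc_c_rc_11_1 lc_c_rc_13_2 lc_c_rc_11_1 lc_c_rc_11_1 lc_c_rc_7_1 lc_c_rc_13_2 lc_c_Cert_tree lc_c_Cert_tree) (@D3.rec (fun _ => (Cert rels S Gen.c)) lc_c_rc_7_5 lc_c_rc_7_1 lc_c_Cert_tree lc_c_Cert_tree lc_c_rc_2_3 lc_c_rc_26_8 lc_c_rc_13_2 lc_c_rc_26_4 lc_c_rc_14_2 lc_c_rc_24_4 lc_c_rc_2_1 lc_c_rc_11_1 lc_c_rc_7_1 lc_c_rc_11_1 lc_c_rc_11_1 lc_c_rc_2_1 lc_c_rc_11_1 lc_c_rc_14_2 lc_c_rc_2_1 lc_c_rc_26_2 lc_c_rc_11_1 lc_c_rc_23_0 lc_c_rc_24_2 lc_c_rc_14_2 lc_c_rc_7_3 lc_c_rc_11_1 lc_c_rc_25_1 lc_c_rc_26_4 lc_c_rc_12_0 lc_c_rc_14_2 lc_c_rc_13_2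 lc_c_rc_13_2 lc_c_rc_13_2 lc_c_rc_11_1 lc_c_rc_22_9 lc_c_rc_13_2 lc_c_rc_24_8 lc_c_rc_22_9 lc_c_rc_7_3 lc_c_rc_13_2 lc_c_rc_26_2 lc_c_rc_11_1 lc_c_rc_2_3 lc_c_rc_26_2 lc_c_rc_24_4 lc_c_rc_7_5 lc_c_rc_22_3 lc_c_rc_13_2 lc_c_rc_25_1 lc_c_rc_26_4 lc_c_rc_13_2 lc_c_rc_11_1 lc_c_rc_2_3 lc_c_rc_26_10 lc_c_rc_11_1 lc_c_rc_14_2 lc_c_rc_26_4 lc_c_rc_11_1 lc_c_rc_13_2 lc_c_rc_7_3 lc_c_rc_26_10 lc_c_rc_26_2) (@D3.rec (fun _ => (Cert rels S Gen.c)) lc_c_rc_13_2 lc_c_rc_7_1 lc_c_rc_26_4 lc_c_rc_11_1 lc_c_rc_2_1 lc_c_rc_2_1 lc_c_rc_26_4 lc_c_rc_11_1 lc_c_rc_26_4 lc_c_rc_13_2 lc_c_rc_13_2 lc_c_rc_26_8 lc_c_rc_26_2 lc_c_rc_22_7 lc_c_rc_25_1 lc_c_rc_12_0 lc_c_rc_13_0 lc_c_rc_23_0 lc_c_rc_11_1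 lc_c_rc_26_4 lc_c_rc_26_8 lc_c_rc_11_1 lc_c_rc_26_4 lc_c_rc_11_1 lc_c_rc_11_1 lc_c_rc_2_1 lc_c_rc_23_0 lc_c_rc_22_5 lc_c_rc_11_1 lc_c_rc_13_2 lc_c_rc_13_0 lc_c_rc_13_2 lc_c_rc_22_3 lc_c_rc_22_9 lc_c_rc_11_1 lc_c_rc_24_2 lc_c_rc_11_1 lc_c_rc_12_0 lc_c_rc_13_2 lc_c_rc_13_2 lc_c_rc_11_1 lc_c_rc_24_4 lc_c_rc_11_1 lc_c_rc_7_3 lc_c_rc_13_2 lc_c_rc_24_8 lc_c_rc_22_3 lc_c_rc_13_2 lc_c_rc_11_1 lc_c_rc_13_2 lc_c_rc_26_4 lc_c_rc_7_3 lc_c_rc_14_2 lc_c_rc_2_3 lc_c_rc_11_1 lc_c_rc_2_1 lc_c_rc_23_5 lc_c_rc_11_1 lc_c_rc_7_5 lc_c_rc_22_3 lc_c_rc_13_2 lc_c_rc_11_1) (@D3.rec (fun _ => (Cert rels S Gen.c)) lc_c_rc_13_2 lc_c_rc_11_1 lc_c_rc_24_8 lc_c_rc_2_3 lc_c_rc_24_4 lc_c_rc_23_0 lc_c_rc_14_2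 lc_c_rc_23_5 lc_c_rc_22_5 lc_c_rc_13_2 lc_c_rc_26_2 lc_c_rc_7_3 lc_c_rc_13_0 lc_c_rc_13_0 lc_c_rc_7_1 lc_c_rc_24_4 lc_c_rc_2_3 lc_c_rc_22_3 lc_c_rc_13_0 lc_c_rc_11_1 lc_c_rc_13_0 lc_c_rc_11_1 lc_c_rc_24_2 lc_c_rc_22_3 lc_c_rc_2_1 lc_c_rc_22_5 lc_c_rc_24_2 lc_c_rc_23_5 lc_c_rc_11_1 lc_c_rc_13_0 lc_c_rc_11_1 lc_c_rc_11_1 lc_c_rc_11_1 lc_c_rc_22_9 lc_c_rc_7_3 lc_c_rc_22_5 lc_c_rc_11_1 lc_c_rc_22_9 lc_c_rc_7_5 lc_c_rc_22_7 lc_c_rc_7_5 lc_c_rc_11_1 lc_c_Cert_tree lc_c_rc_7_1 lc_c_rc_14_2 lc_c_rc_11_1 lc_c_rc_2_1 lc_c_rc_13_2 lc_c_rc_26_10 lc_c_rc_26_10 lc_c_rc_7_5 lc_c_rc_7_5 lc_c_rc_12_0 lc_c_rc_2_3 lc_c_rc_22_7 lc_c_rc_13_2 lc_c_rc_11_1 lc_c_rc_22_7 lc_c_rc_12_12 lc_c_rc_24_2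 lc_c_rc_11_1 lc_c_rc_24_2) (@D3.rec (fun _ => (Cert rels S Gen.c)) lc_c_rc_11_1 lc_c_rc_22_5 lc_c_rc_23_0 lc_c_rc_22_3 lc_c_rc_13_2 lc_c_rc_2_3 lc_c_rc_26_2 lc_c_rc_23_0 lc_c_rc_13_2 lc_c_rc_24_6 lc_c_rc_24_6 lc_c_rc_7_3 lc_c_rc_26_4 lc_c_rc_11_1 lc_c_rc_11_1 lc_c_rc_22_3 lc_c_rc_24_2 lc_c_rc_13_2 lc_c_rc_22_3 lc_c_rc_26_10 lc_c_rc_13_2 lc_c_rc_13_2 lc_c_rc_13_0 lc_c_rc_22_3 lc_c_rc_13_2 lc_c_rc_12_14 lc_c_rc_13_2 lc_c_rc_11_1 lc_c_rc_13_2 lc_c_rc_7_3 lc_c_rc_22_5 lc_c_rc_7_5 lc_c_rc_11_1 lc_c_rc_13_2 lc_c_rc_7_3 lc_c_rc_11_1 lc_c_rc_12_4 lc_c_rc_22_9 lc_c_rc_22_5 lc_c_rc_13_2 lc_c_rc_13_2 lc_c_rc_22_9 lc_c_rc_12_0 lc_c_rc_7_3 lc_c_rc_26_2 lc_c_rc_26_4 lc_c_rc_13_2 lc_c_rc_7_1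 lc_c_rc_13_2 lc_c_rc_13_0 lc_c_rc_11_1 lc_c_rc_14_2 lc_c_rc_14_2 lc_c_rc_24_2 lc_c_rc_24_4 lc_c_rc_2_1 lc_c_rc_26_4 lc_c_rc_11_1 lc_c_rc_24_4 lc_c_rc_26_8 lc_c_rc_12_14 lc_c_rc_13_2) (@D3.rec (fun _ => (Cert rels S Gen.c)) lc_c_rc_24_2 lc_c_rc_2_3 lc_c_rc_13_0 lc_c_rc_26_10 lc_c_rc_11_1 lc_c_rc_2_1 lc_c_rc_11_1 lc_c_rc_7_5 lc_c_rc_24_4 lc_c_rc_26_8 lc_c_rc_11_1 lc_c_rc_13_0 lc_c_rc_13_2 lc_c_rc_26_8 lc_c_rc_26_4 lc_c_rc_14_2 lc_c_rc_24_2 lc_c_rc_11_1 lc_c_rc_13_2 lc_c_rc_7_5 lc_c_rc_7_1 lc_c_rc_11_1 lc_c_rc_23_0 lc_c_rc_22_9 lc_c_rc_13_2 lc_c_rc_14_2 lc_c_rc_11_1 lc_c_rc_13_2 lc_c_rc_26_10 lc_c_rc_13_2 lc_c_rc_22_3 lc_c_rc_13_2 lc_c_rc_11_1 lc_c_rc_26_8 lc_c_rc_11_1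 lc_c_rc_7_3 lc_c_rc_13_2 lc_c_rc_13_0 lc_c_rc_7_1 lc_c_rc_2_3 lc_c_rc_2_1 lc_c_rc_22_9 lc_c_rc_7_1 lc_c_rc_13_2 lc_c_rc_11_1 lc_c_rc_22_3 lc_c_rc_7_5 lc_c_rc_2_1 lc_c_rc_11_1 lc_c_rc_26_2 lc_c_rc_2_3 lc_c_rc_13_2 lc_c_rc_26_4 lc_c_rc_11_1 lc_c_rc_11_1 lc_c_rc_12_0 lc_c_rc_7_3 lc_c_rc_22_5 lc_c_rc_11_1 lc_c_rc_7_3 lc_c_rc_13_0 lc_c_rc_11_1) (@D3.rec (fun _ => (Cert rels S Gen.c)) lc_c_rc_13_2 lc_c_rc_22_3 lc_c_rc_7_3 lc_c_rc_13_2 lc_c_rc_26_10 lc_c_rc_13_0 lc_c_rc_11_1 lc_c_rc_13_2 lc_c_rc_25_5 lc_c_rc_13_2 lc_c_rc_25_13 lc_c_rc_13_2 lc_c_rc_13_0 lc_c_rc_24_2 lc_c_rc_22_9 lc_c_rc_11_1 lc_c_rc_26_10 lc_c_rc_13_2 lc_c_rc_23_0 lc_c_rc_13_2 lc_c_rc_24_8 lc_c_rc_11_1 lc_c_rc_26_4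 lc_c_rc_11_1 lc_c_rc_14_2 lc_c_rc_22_5 lc_c_rc_13_2 lc_c_rc_7_5 lc_c_rc_11_1 lc_c_rc_14_2 lc_c_rc_7_3 lc_c_rc_11_1 lc_c_rc_11_1 lc_c_rc_22_3 lc_c_rc_14_2 lc_c_rc_11_1 lc_c_rc_11_1 lc_c_rc_13_2 lc_c_rc_13_2 lc_c_rc_22_9 lc_c_rc_13_2 lc_c_rc_23_5 lc_c_rc_14_2 lc_c_rc_11_1 lc_c_rc_11_1 lc_c_rc_14_2 lc_c_rc_23_0 lc_c_rc_7_3 lc_c_rc_14_2 lc_c_rc_23_5 lc_c_rc_22_7 lc_c_rc_24_4 lc_c_rc_22_5 lc_c_rc_11_1 lc_c_rc_7_3 lc_c_rc_11_1 lc_c_rc_13_2 lc_c_rc_24_6 lc_c_rc_14_2 lc_c_rc_23_0 lc_c_rc_26_2 lc_c_rc_22_5) (@D3.rec (fun _ => (Cert rels S Gen.c)) lc_c_rc_13_2 lc_c_rc_7_5 lc_c_rc_11_1 lc_c_rc_11_1 lc_c_rc_2_3 lc_c_rc_7_5 lc_c_rc_11_1 lc_c_rc_11_1 lc_c_rc_26_2 lc_c_Cert_tree lc_c_rc_11_1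 lc_c_rc_7_3 lc_c_rc_26_2 lc_c_rc_7_5 lc_c_rc_7_1 lc_c_rc_11_1 lc_c_rc_2_3 lc_c_rc_11_1 lc_c_rc_11_1 lc_c_rc_13_0 lc_c_rc_11_1 lc_c_rc_26_8 lc_c_rc_11_1 lc_c_rc_13_2 lc_c_Cert_tree lc_c_rc_11_1 lc_c_rc_11_1 lc_c_rc_26_2 lc_c_rc_11_1 lc_c_rc_14_2 lc_c_rc_11_1 lc_c_rc_24_4 lc_c_rc_11_1 lc_c_rc_13_2 lc_c_rc_2_3 lc_c_rc_14_2 lc_c_rc_11_1 lc_c_rc_13_0 lc_c_rc_7_3 lc_c_rc_14_0 lc_c_rc_22_3 lc_c_rc_14_0 lc_c_rc_11_1 lc_c_rc_13_0 lc_c_rc_2_1 lc_c_rc_11_1 lc_c_rc_26_4 lc_c_rc_11_1 lc_c_rc_25_1 lc_c_rc_7_3 lc_c_rc_11_1 lc_c_rc_23_5 lc_c_rc_22_5 lc_c_rc_7_1 lc_c_rc_2_1 lc_c_rc_13_2 lc_c_rc_7_3 lc_c_rc_13_2 lc_c_rc_23_5 lc_c_rc_14_0 lc_c_rc_23_5 lc_c_rc_13_2) (@D3.rec (fun _ => (Cert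 rels S Gen.c)) lc_c_rc_23_0 lc_c_rc_24_4 lc_c_rc_7_3 lc_c_rc_13_2 lc_c_rc_7_5 lc_c_rc_11_1 lc_c_rc_2_3 lc_c_rc_7_3 lc_c_rc_13_2 lc_c_rc_13_0 lc_c_rc_14_2 lc_c_rc_26_2 lc_c_rc_11_1 lc_c_rc_26_4 lc_c_rc_11_1 lc_c_Cert_tree lc_c_rc_26_8 lc_c_rc_11_1 lc_c_rc_7_5 lc_c_rc_7_3 lc_c_rc_24_2 lc_c_rc_26_4 lc_c_rc_14_0 lc_c_rc_13_0 lc_c_rc_11_1 lc_c_rc_7_1 lc_c_rc_11_1 lc_c_rc_11_1 lc_c_rc_7_3 lc_c_rc_7_3 lc_c_rc_26_4 lc_c_rc_26_2 lc_c_rc_23_0 lc_c_rc_22_9 lc_c_rc_13_2 lc_c_rc_23_5 lc_c_rc_24_2 lc_c_rc_11_1 lc_c_rc_13_2 lc_c_rc_22_9 lc_c_rc_26_4 lc_c_rc_26_8 lc_c_rc_23_5 lc_c_rc_11_1 lc_c_rc_13_2 lc_c_rc_26_4 lc_c_rc_11_1 lc_c_rc_26_4 lc_c_rc_26_8 lc_c_rc_13_2 lc_c_rc_13_2 lc_c_rc_26_10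 lc_c_rc_23_0 lc_c_rc_14_2 lc_c_rc_13_2 lc_c_rc_23_0 lc_c_rc_11_1 lc_c_rc_22_3 lc_c_rc_13_2 lc_c_rc_11_1 lc_c_rc_22_7 lc_c_rc_13_0) (@D3.rec (fun _ => (Cert rels S Gen.c)) lc_c_rc_13_2 lc_c_rc_11_1 lc_c_rc_11_1 lc_c_rc_26_4 lc_c_rc_22_5 lc_c_rc_2_3 lc_c_rc_26_2 lc_c_rc_13_2 lc_c_rc_11_1 lc_c_rc_13_2 lc_c_rc_11_1 lc_c_rc_13_2 lc_c_rc_13_2 lc_c_rc_24_6 lc_c_rc_13_2 lc_c_rc_22_5 lc_c_rc_11_1 lc_c_rc_7_3 lc_c_rc_11_1 lc_c_rc_14_0 lc_c_rc_22_3 lc_c_rc_14_2 lc_c_rc_26_2 lc_c_rc_25_9 lc_c_rc_22_3 lc_c_rc_13_0 lc_c_rc_11_1 lc_c_rc_13_2 lc_c_rc_7_3 lc_c_rc_26_2 lc_c_rc_13_0 lc_c_Cert_tree lc_c_rc_26_2 lc_c_rc_24_6 lc_c_rc_11_1 lc_c_rc_13_2 lc_c_rc_11_1 lc_c_rc_7_3 lc_c_rc_23_0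 lc_c_rc_2_3 lc_c_rc_11_1 lc_c_rc_13_2 lc_c_rc_2_1 lc_c_rc_23_0 lc_c_rc_14_2 lc_c_rc_26_4 lc_c_rc_26_2 lc_c_rc_26_4 lc_c_rc_13_2 lc_c_rc_13_0 lc_c_rc_7_5 lc_c_rc_22_5 lc_c_rc_13_0 lc_c_rc_11_1 lc_c_rc_7_3 lc_c_rc_13_2 lc_c_rc_22_3 lc_c_rc_24_2 lc_c_rc_13_2 lc_c_rc_24_2 lc_c_rc_26_8 lc_c_rc_7_5) (@D3.rec (fun _ => (Cert rels S Gen.c)) lc_c_rc_13_2 lc_c_rc_13_2 lc_c_rc_11_1 lc_c_rc_13_2 lc_c_rc_24_2 lc_c_rc_23_0 lc_c_rc_7_3 lc_c_rc_11_1 lc_c_rc_23_5 lc_c_rc_11_1 lc_c_rc_24_2 lc_c_rc_11_1 lc_c_rc_11_1 lc_c_rc_24_6 lc_c_rc_24_4 lc_c_rc_7_3 lc_c_rc_26_2 lc_c_rc_26_4 lc_c_rc_25_1 lc_c_rc_26_4 lc_c_rc_26_8 lc_c_rc_11_1 lc_c_rc_26_2 lc_c_rc_12_0 lc_c_rc_26_4 lc_c_rc_11_1 lc_c_rc_26_4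 lc_c_rc_26_2 lc_c_rc_11_1 lc_c_rc_24_2 lc_c_rc_11_1 lc_c_rc_23_0 lc_c_rc_11_1 lc_c_rc_13_2 lc_c_rc_24_6 lc_c_rc_22_9 lc_c_rc_13_2 lc_c_rc_13_0 lc_c_rc_26_10 lc_c_rc_2_1 lc_c_rc_13_2 lc_c_rc_11_1 lc_c_rc_11_1 lc_c_rc_11_1 lc_c_rc_22_7 lc_c_rc_26_8 lc_c_rc_13_2 lc_c_Cert_tree lc_c_rc_22_5 lc_c_rc_11_1 lc_c_rc_11_1 lc_c_rc_11_1 lc_c_rc_11_1 lc_c_rc_24_4 lc_c_rc_11_1 lc_c_rc_11_1 lc_c_rc_22_5 lc_c_rc_25_17 lc_c_rc_13_2 lc_c_rc_11_1 lc_c_rc_22_9 lc_c_rc_11_1) (@D3.rec (fun _ => (Cert rels S Gen.c)) lc_c_rc_7_5 lc_c_rc_11_1 lc_c_rc_11_1 lc_c_rc_23_5 lc_c_rc_14_2 lc_c_rc_26_8 lc_c_rc_11_1 lc_c_rc_25_13 lc_c_rc_11_1 lc_c_rc_11_1 lc_c_rc_13_2 lc_c_rc_13_0 lc_c_rc_13_2 lc_c_rc_7_3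 lc_c_rc_22_5 lc_c_rc_26_8 lc_c_rc_13_2 lc_c_rc_11_1 lc_c_rc_13_2 lc_c_rc_12_2 lc_c_rc_22_3 lc_c_rc_7_1 lc_c_rc_13_2 lc_c_rc_13_2 lc_c_rc_24_8 lc_c_rc_22_3 lc_c_rc_2_3 lc_c_rc_7_5 lc_c_rc_11_1 lc_c_rc_7_3 lc_c_rc_13_2 lc_c_rc_13_2 lc_c_rc_24_8 lc_c_rc_22_3 lc_c_rc_23_0 lc_c_rc_14_2 lc_c_rc_13_2 lc_c_rc_7_5 lc_c_rc_7_1 lc_c_rc_22_9 lc_c_rc_13_0 lc_c_rc_11_1 lc_c_rc_26_8 lc_c_rc_26_4 lc_c_rc_13_2 lc_c_rc_11_1 lc_c_rc_26_8 lc_c_rc_13_2 lc_c_rc_2_1 lc_c_rc_14_2 lc_c_rc_11_1 lc_c_rc_11_1 lc_c_rc_13_2 lc_c_rc_24_8 lc_c_rc_24_8 lc_c_rc_13_2 lc_c_rc_2_3 lc_c_rc_23_0 lc_c_rc_11_1 lc_c_rc_11_1 lc_c_rc_11_1 lc_c_rc_25_1) (@D3.rec (fun _ => (Cert rels S Gen.c)) lc_c_Cert_tree lc_c_rc_11_1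 lc_c_rc_23_0 lc_c_rc_24_6 lc_c_rc_11_1 lc_c_rc_13_2 lc_c_rc_13_0 lc_c_rc_7_5 lc_c_rc_26_2 lc_c_rc_24_4 lc_c_rc_26_2 lc_c_rc_24_8 lc_c_rc_22_3 lc_c_rc_13_2 lc_c_rc_23_5 lc_c_rc_11_1 lc_c_rc_7_3 lc_c_rc_23_5 lc_c_rc_7_5 lc_c_rc_23_0 lc_c_rc_24_4 lc_c_rc_11_1 lc_c_rc_14_0 lc_c_rc_11_1 lc_c_rc_7_3 lc_c_rc_22_7 lc_c_rc_11_1 lc_c_rc_23_0 lc_c_rc_22_5 lc_c_rc_13_2 lc_c_rc_22_5 lc_c_rc_13_2 lc_c_rc_11_1 lc_c_rc_22_3 lc_c_Cert_tree lc_c_rc_22_5 lc_c_rc_11_1 lc_c_rc_14_2 lc_c_rc_13_2 lc_c_rc_22_3 lc_c_rc_26_4 lc_c_rc_14_2 lc_c_Cert_tree lc_c_rc_25_13 lc_c_rc_23_0 lc_c_rc_13_2 lc_c_rc_11_1 lc_c_rc_11_1 lc_c_rc_23_0 lc_c_rc_14_0 lc_c_rc_11_1 lc_c_rc_11_1 lc_c_rc_11_1 lc_c_rc_23_5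 lc_c_rc_2_3 lc_c_rc_24_8 lc_c_rc_11_1 lc_c_rc_13_2 lc_c_rc_13_2 lc_c_rc_11_1 lc_c_rc_11_1 lc_c_rc_2_3) (@D3.rec (fun _ => (Cert rels S Gen.c)) lc_c_rc_2_3 lc_c_rc_13_2 lc_c_rc_22_3 lc_c_rc_11_1 lc_c_rc_24_6 lc_c_rc_2_1 lc_c_rc_22_5 lc_c_rc_7_5 lc_c_rc_22_7 lc_c_rc_14_2 lc_c_rc_23_5 lc_c_rc_26_8 lc_c_rc_23_5 lc_c_rc_24_8 lc_c_rc_14_2 lc_c_rc_11_1 lc_c_rc_14_2 lc_c_rc_14_2 lc_c_rc_13_0 lc_c_rc_24_2 lc_c_rc_26_4 lc_c_rc_11_1 lc_c_rc_7_5 lc_c_rc_26_2 lc_c_rc_11_1 lc_c_rc_13_2 lc_c_rc_11_1 lc_c_rc_7_3 lc_c_rc_12_4 lc_c_rc_22_3 lc_c_Cert_tree lc_c_rc_11_1 lc_c_rc_2_1 lc_c_rc_7_1 lc_c_rc_24_8 lc_c_rc_24_2 lc_c_rc_7_3 lc_c_rc_11_1 lc_c_rc_26_2 lc_c_rc_13_2 lc_c_rc_11_1 lc_c_rc_24_2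 lc_c_rc_23_0 lc_c_rc_23_0 lc_c_rc_2_1 lc_c_rc_24_4 lc_c_rc_14_2 lc_c_rc_11_1 lc_c_rc_11_1 lc_c_rc_24_4 lc_c_rc_22_3 lc_c_rc_13_2 lc_c_rc_26_8 lc_c_rc_11_1 lc_c_rc_7_3 lc_c_rc_13_2 lc_c_rc_11_1 lc_c_rc_11_1 lc_c_rc_22_9 lc_c_rc_23_0 lc_c_rc_2_3 lc_c_rc_11_1) (@D3.rec (fun _ => (Cert rels S Gen.c)) lc_c_rc_11_1 lc_c_rc_14_2 lc_c_rc_23_0 lc_c_rc_13_0 lc_c_rc_11_1 lc_c_rc_24_4 lc_c_rc_11_1 lc_c_rc_11_1 lc_c_rc_7_3 lc_c_rc_22_7 lc_c_rc_22_9 lc_c_rc_13_2 lc_c_rc_13_0 lc_c_rc_14_2 lc_c_rc_11_1 lc_c_rc_26_8 lc_c_rc_7_3 lc_c_rc_26_8 lc_c_rc_7_3 lc_c_rc_13_2 lc_c_rc_26_10 lc_c_rc_14_2 lc_c_rc_2_1 lc_c_rc_11_1 lc_c_rc_13_2 lc_c_rc_11_1 lc_c_rc_7_3 lc_c_rc_13_2 lc_c_Cert_tree lc_c_rc_22_3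 lc_c_rc_13_2 lc_c_rc_26_8 lc_c_rc_11_1 lc_c_rc_7_5 lc_c_rc_14_2 lc_c_rc_22_3 lc_c_rc_24_4 lc_c_rc_7_1 lc_c_rc_13_2 lc_c_rc_14_0 lc_c_rc_7_1 lc_c_rc_23_0 lc_c_rc_14_2 lc_c_rc_14_0 lc_c_Cert_tree lc_c_rc_22_5 lc_c_rc_11_1 lc_c_rc_22_3 lc_c_rc_24_4 lc_c_rc_7_1 lc_c_rc_13_2 lc_c_rc_26_4 lc_c_rc_11_1 lc_c_rc_25_5 lc_c_rc_11_1 lc_c_rc_25_5 lc_c_rc_13_2 lc_c_rc_11_1 lc_c_rc_11_1 lc_c_rc_26_8 lc_c_rc_2_1 lc_c_rc_13_2) (@D3.rec (fun _ => (Cert rels S Gen.c)) lc_c_rc_22_7 lc_c_rc_24_8 lc_c_rc_11_1 lc_c_rc_11_1 lc_c_rc_7_5 lc_c_rc_13_2 lc_c_rc_13_2 lc_c_rc_14_2 lc_c_rc_11_1 lc_c_rc_11_1 lc_c_rc_13_2 lc_c_rc_24_8 lc_c_rc_13_2 lc_c_rc_13_0 lc_c_rc_11_1 lc_c_rc_11_1 lc_c_rc_24_8 lc_c_rc_11_1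 lc_c_rc_13_2 lc_c_rc_13_2 lc_c_Cert_tree lc_c_rc_7_5 lc_c_rc_22_3 lc_c_rc_13_2 lc_c_rc_26_4 lc_c_rc_11_1 lc_c_rc_23_0 lc_c_rc_23_5 lc_c_rc_2_1 lc_c_rc_13_2 lc_c_rc_26_2 lc_c_rc_12_0 lc_c_rc_23_0 lc_c_rc_24_2 lc_c_rc_11_1 lc_c_rc_24_2 lc_c_rc_11_1 lc_c_rc_11_1 lc_c_rc_26_2 lc_c_rc_7_1 lc_c_rc_11_1 lc_c_rc_13_2 lc_c_rc_11_1 lc_c_rc_22_9 lc_c_rc_7_3 lc_c_rc_22_5 lc_c_rc_26_2 lc_c_rc_22_3 lc_c_rc_11_1 lc_c_rc_13_2 lc_c_rc_13_0 lc_c_rc_23_0 lc_c_rc_23_0 lc_c_rc_13_2 lc_c_rc_13_2 lc_c_rc_26_2 lc_c_rc_11_1 lc_c_rc_14_0 lc_c_rc_26_10 lc_c_rc_13_2 lc_c_rc_22_7 lc_c_rc_11_1) (@D3.rec (fun _ => (Cert rels S Gen.c)) lc_c_rc_13_2 lc_c_rc_11_1 lc_c_rc_7_5 lc_c_rc_23_0 lc_c_rc_11_1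 lc_c_rc_2_1 lc_c_rc_11_1 lc_c_rc_24_4 lc_c_rc_11_1 lc_c_rc_22_5 lc_c_rc_13_2 lc_c_rc_7_5 lc_c_rc_13_2 lc_c_rc_23_5 lc_c_rc_13_0 lc_c_rc_23_0 lc_c_rc_14_0 lc_c_rc_14_2 lc_c_rc_7_3 lc_c_rc_11_1 lc_c_rc_25_1 lc_c_rc_13_2 lc_c_rc_13_2 lc_c_rc_26_10 lc_c_rc_14_2 lc_c_rc_11_1 lc_c_rc_24_2 lc_c_rc_13_2 lc_c_rc_24_8 lc_c_rc_11_1 lc_c_rc_11_1 lc_c_rc_14_2 lc_c_rc_13_2 lc_c_rc_22_5 lc_c_rc_7_5 lc_c_rc_11_1 lc_c_rc_22_5 lc_c_rc_14_2 lc_c_rc_11_1 lc_c_rc_11_1 lc_c_rc_23_5 lc_c_rc_13_2 lc_c_rc_13_2 lc_c_rc_11_1 lc_c_rc_13_2 lc_c_rc_11_1 lc_c_rc_24_4 lc_c_rc_7_5 lc_c_Cert_tree lc_c_rc_11_1 lc_c_rc_25_17 lc_c_rc_11_1 lc_c_rc_24_6 lc_c_rc_13_2 lc_c_rc_11_1 lc_c_rc_14_2 lc_c_rc_22_9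 lc_c_rc_26_2 lc_c_rc_24_2 lc_c_rc_23_0 lc_c_rc_7_5 lc_c_rc_7_1) (@D3.rec (fun _ => (Cert rels S Gen.c)) lc_c_rc_24_4 lc_c_rc_23_0 lc_c_rc_7_1 lc_c_rc_12_2 lc_c_rc_13_2 lc_c_rc_13_2 lc_c_rc_26_10 lc_c_rc_13_2 lc_c_rc_11_1 lc_c_rc_11_1 lc_c_rc_24_6 lc_c_rc_14_2 lc_c_rc_11_1 lc_c_rc_22_9 lc_c_rc_11_1 lc_c_rc_7_1 lc_c_rc_24_4 lc_c_rc_14_2 lc_c_rc_11_1 lc_c_rc_24_6 lc_c_rc_22_5 lc_c_rc_13_2 lc_c_rc_23_5 lc_c_rc_11_1 lc_c_rc_23_0 lc_c_rc_11_1 lc_c_rc_11_1 lc_c_rc_2_3 lc_c_rc_7_3 lc_c_rc_23_0 lc_c_rc_14_2 lc_c_rc_2_3 lc_c_rc_22_7 lc_c_rc_26_2 lc_c_rc_25_1 lc_c_rc_14_2 lc_c_rc_26_4 lc_c_rc_11_1 lc_c_rc_7_1 lc_c_rc_13_2 lc_c_rc_23_5 lc_c_rc_11_1 lc_c_rc_11_1 lc_c_rc_7_3 lc_c_rc_13_2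 lc_c_rc_24_4 lc_c_rc_2_3 lc_c_rc_11_1 lc_c_rc_2_1 lc_c_rc_13_2 lc_c_rc_2_1 lc_c_rc_22_5 lc_c_rc_7_3 lc_c_rc_26_2 lc_c_rc_24_2 lc_c_rc_23_0 lc_c_rc_11_1 lc_c_rc_24_8 lc_c_rc_25_1 lc_c_rc_11_1 lc_c_rc_22_3 lc_c_rc_2_3) (@D3.rec (fun _ => (Cert rels S Gen.c)) lc_c_rc_22_5 lc_c_rc_24_2 lc_c_rc_11_1 lc_c_rc_23_0 lc_c_rc_11_1 lc_c_rc_13_2 lc_c_rc_25_1 lc_c_rc_22_5 lc_c_rc_26_2 lc_c_rc_26_8 lc_c_rc_11_1 lc_c_rc_7_5 lc_c_rc_23_0 lc_c_rc_11_1 lc_c_rc_26_4 lc_c_rc_24_6 lc_c_rc_22_9 lc_c_rc_7_5 lc_c_rc_11_1 lc_c_rc_13_0 lc_c_rc_11_1 lc_c_rc_22_3 lc_c_rc_13_2 lc_c_rc_13_2 lc_c_rc_13_2 lc_c_rc_23_0 lc_c_rc_26_4 lc_c_rc_23_0 lc_c_rc_23_0 lc_c_rc_23_5 lc_c_rc_22_5 lc_c_rc_14_2 lc_c_rc_12_14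 lc_c_rc_13_2 lc_c_rc_7_5 lc_c_rc_11_1 lc_c_rc_13_2 lc_c_rc_26_8 lc_c_rc_11_1 lc_c_rc_11_1 lc_c_rc_13_2 lc_c_rc_14_2 lc_c_rc_13_2 lc_c_rc_25_17 lc_c_rc_11_1 lc_c_rc_23_0 lc_c_rc_13_2 lc_c_rc_23_0 lc_c_rc_11_1 lc_c_rc_26_4 lc_c_rc_11_1 lc_c_rc_14_2 lc_c_rc_22_7 lc_c_rc_26_4 lc_c_rc_26_4 lc_c_rc_24_8 lc_c_rc_13_2 lc_c_rc_23_5 lc_c_rc_22_5 lc_c_rc_25_17 lc_c_rc_11_1 lc_c_rc_26_2) (@D3.rec (fun _ => (Cert rels S Gen.c)) lc_c_rc_11_1 lc_c_rc_14_2 lc_c_rc_23_0 lc_c_rc_13_2 lc_c_rc_24_6 lc_c_rc_23_0 lc_c_rc_14_2 lc_c_rc_13_0 lc_c_rc_23_5 lc_c_rc_11_1 lc_c_rc_11_1 lc_c_rc_7_1 lc_c_rc_26_4 lc_c_rc_11_1 lc_c_rc_13_2 lc_c_rc_11_1 lc_c_rc_13_2 lc_c_rc_11_1 lc_c_rc_11_1 lc_c_rc_7_3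 lc_c_rc_11_1 lc_c_rc_11_1 lc_c_rc_24_6 lc_c_rc_2_1 lc_c_rc_24_2 lc_c_rc_7_5 lc_c_rc_13_2 lc_c_rc_23_0 lc_c_rc_11_1 lc_c_rc_2_3 lc_c_rc_11_1 lc_c_rc_14_2 lc_c_rc_26_8 lc_c_Cert_tree lc_c_Cert_tree lc_c_rc_26_10 lc_c_rc_13_2 lc_c_rc_22_5 lc_c_rc_22_3 lc_c_rc_22_3 lc_c_rc_13_2 lc_c_rc_24_2 lc_c_rc_13_2 lc_c_rc_13_0 lc_c_rc_13_2 lc_c_rc_14_2 lc_c_rc_26_8 lc_c_rc_13_2 lc_c_rc_7_3 lc_c_rc_22_5 lc_c_rc_26_4 lc_c_rc_11_1 lc_c_rc_14_0 lc_c_rc_11_1 lc_c_rc_22_5 lc_c_rc_11_1 lc_c_rc_13_2 lc_c_rc_23_5 lc_c_rc_23_5 lc_c_rc_13_0 lc_c_rc_11_1 lc_c_rc_11_1) (@D3.rec (fun _ => (Cert rels S Gen.c)) lc_c_rc_2_1 lc_c_rc_11_1 lc_c_rc_11_1 lc_c_rc_22_9 lc_c_rc_13_2 lc_c_rc_11_1 lc_c_rc_13_2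 lc_c_rc_7_3 lc_c_rc_24_4 lc_c_rc_26_2 lc_c_rc_11_1 lc_c_rc_13_2 lc_c_rc_11_1 lc_c_rc_11_1 lc_c_rc_11_1 lc_c_rc_25_13 lc_c_rc_14_2 lc_c_rc_26_2 lc_c_rc_23_5 lc_c_rc_26_4 lc_c_rc_13_2 lc_c_rc_11_1 lc_c_rc_26_2 lc_c_rc_11_1 lc_c_rc_23_5 lc_c_rc_11_1 lc_c_rc_13_2 lc_c_rc_11_1 lc_c_rc_7_3 lc_c_rc_11_1 lc_c_rc_7_3 lc_c_rc_22_5 lc_c_rc_13_2 lc_c_Cert_tree lc_c_rc_13_0 lc_c_rc_26_2 lc_c_rc_11_1 lc_c_rc_13_2 lc_c_rc_26_2 lc_c_rc_11_1 lc_c_rc_25_1 lc_c_rc_11_1 lc_c_rc_26_4 lc_c_rc_11_1 lc_c_rc_13_2 lc_c_rc_7_3 lc_c_rc_24_8 lc_c_rc_11_1 lc_c_Cert_tree lc_c_rc_2_1 lc_c_rc_13_2 lc_c_rc_14_2 lc_c_rc_22_5 lc_c_rc_26_8 lc_c_rc_26_2 lc_c_rc_13_2 lc_c_rc_13_2 lc_c_rc_23_0 lc_c_rc_14_2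 lc_c_rc_11_1 lc_c_rc_13_2 lc_c_rc_24_6) (@D3.rec (fun _ => (Cert rels S Gen.c)) lc_c_rc_13_2 lc_c_rc_23_0 lc_c_Cert_tree lc_c_rc_22_3 lc_c_rc_23_0 lc_c_rc_11_1 lc_c_rc_22_5 lc_c_rc_11_1 lc_c_rc_13_2 lc_c_rc_11_1 lc_c_rc_22_9 lc_c_rc_2_3 lc_c_rc_11_1 lc_c_rc_7_1 lc_c_rc_23_0 lc_c_rc_11_1 lc_c_rc_11_1 lc_c_rc_24_6 lc_c_rc_13_2 lc_c_rc_22_3 lc_c_Cert_tree lc_c_rc_13_0 lc_c_rc_26_8 lc_c_rc_13_2 lc_c_rc_11_1 lc_c_rc_13_2 lc_c_rc_7_5 lc_c_rc_11_1 lc_c_rc_26_4 lc_c_rc_11_1 lc_c_rc_11_1 lc_c_rc_23_5 lc_c_rc_7_1 lc_c_rc_13_2 lc_c_rc_11_1 lc_c_rc_23_5 lc_c_rc_11_1 lc_c_rc_11_1 lc_c_rc_11_1 lc_c_rc_12_12 lc_c_rc_26_8 lc_c_rc_26_8 lc_c_rc_23_5 lc_c_rc_26_4 lc_c_rc_7_3 lc_c_rc_23_0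 lc_c_rc_14_2 lc_c_rc_11_1 lc_c_rc_24_2 lc_c_rc_11_1 lc_c_rc_11_1 lc_c_rc_11_1 lc_c_rc_11_1 lc_c_rc_26_10 lc_c_rc_13_0 lc_c_rc_11_1 lc_c_rc_14_2 lc_c_rc_26_2 lc_c_rc_13_2 lc_c_rc_7_1 lc_c_rc_13_0 lc_c_rc_23_5) (@D3.rec (fun _ => (Cert rels S Gen.c)) lc_c_rc_11_1 lc_c_rc_23_0 lc_c_rc_11_1 lc_c_rc_7_5 lc_c_rc_11_1 lc_c_rc_11_1 lc_c_rc_22_5 lc_c_rc_11_1 lc_c_rc_11_1 lc_c_rc_13_2 lc_c_rc_11_1 lc_c_rc_11_1 lc_c_rc_7_3 lc_c_rc_13_2 lc_c_rc_11_1 lc_c_rc_22_3 lc_c_rc_13_2 lc_c_rc_22_3 lc_c_rc_14_2 lc_c_rc_11_1 lc_c_rc_11_1 lc_c_rc_11_1 lc_c_rc_11_1 lc_c_rc_24_6 lc_c_rc_23_0 lc_c_rc_22_5 lc_c_rc_11_1 lc_c_rc_11_1 lc_c_rc_22_3 lc_c_rc_14_2 lc_c_rc_11_1 lc_c_rc_11_1 lc_c_rc_14_0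 lc_c_rc_11_1 lc_c_rc_11_1 lc_c_rc_13_2 lc_c_rc_26_2 lc_c_rc_13_2 lc_c_rc_11_1 lc_c_rc_7_5 lc_c_rc_24_4 lc_c_rc_26_4 lc_c_rc_26_8 lc_c_rc_23_0 lc_c_rc_26_2 lc_c_rc_7_3 lc_c_rc_23_0 lc_c_rc_7_3 lc_c_rc_22_7 lc_c_rc_7_1 lc_c_rc_24_6 lc_c_rc_13_2 lc_c_rc_7_5 lc_c_rc_13_2 lc_c_rc_11_1 lc_c_rc_25_5 lc_c_rc_2_3 lc_c_rc_2_3 lc_c_rc_11_1 lc_c_rc_22_5 lc_c_rc_22_9 lc_c_rc_13_2) (@D3.rec (fun _ => (Cert rels S Gen.c)) lc_c_rc_23_0 lc_c_rc_22_3 lc_c_rc_11_1 lc_c_rc_22_9 lc_c_rc_11_1 lc_c_rc_7_5 lc_c_rc_14_2 lc_c_rc_11_1 lc_c_rc_26_4 lc_c_rc_13_0 lc_c_rc_13_2 lc_c_rc_2_3 lc_c_rc_22_3 lc_c_rc_14_2 lc_c_rc_26_4 lc_c_rc_13_0 lc_c_rc_11_1 lc_c_rc_26_4 lc_c_rc_25_17 lc_c_rc_14_2 lc_c_rc_14_2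 lc_c_rc_26_2 lc_c_rc_7_3 lc_c_rc_13_2 lc_c_rc_11_1 lc_c_rc_7_3 lc_c_rc_7_1 lc_c_rc_11_1 lc_c_rc_13_2 lc_c_rc_11_1 lc_c_rc_2_1 lc_c_rc_7_1 lc_c_rc_22_3 lc_c_rc_13_2 lc_c_rc_24_8 lc_c_rc_7_5 lc_c_rc_22_3 lc_c_rc_7_3 lc_c_rc_11_1 lc_c_rc_7_5 lc_c_rc_11_1 lc_c_rc_11_1 lc_c_rc_7_3 lc_c_rc_7_5 lc_c_rc_26_2 lc_c_rc_13_2 lc_c_rc_7_1 lc_c_rc_22_7 lc_c_rc_13_2 lc_c_rc_24_2 lc_c_rc_23_0 lc_c_rc_26_10 lc_c_rc_13_2 lc_c_rc_11_1 lc_c_rc_11_1 lc_c_rc_13_2 lc_c_rc_14_2 lc_c_rc_26_4 lc_c_rc_11_1 lc_c_rc_23_0 lc_c_rc_2_1 lc_c_rc_11_1) (@D3.rec (fun _ => (Cert rels S Gen.c)) lc_c_rc_25_9 lc_c_rc_13_2 lc_c_rc_22_5 lc_c_rc_11_1 lc_c_rc_26_4 lc_c_rc_14_2 lc_c_rc_11_1 lc_c_rc_26_8 lc_c_rc_11_1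 lc_c_rc_14_0 lc_c_rc_14_2 lc_c_rc_11_1 lc_c_rc_12_2 lc_c_rc_11_1 lc_c_rc_11_1 lc_c_rc_7_3 lc_c_rc_13_0 lc_c_rc_7_3 lc_c_rc_23_0 lc_c_rc_7_1 lc_c_rc_22_3 lc_c_rc_13_2 lc_c_rc_25_5 lc_c_rc_7_3 lc_c_rc_2_3 lc_c_rc_2_1 lc_c_rc_26_2 lc_c_rc_24_6 lc_c_rc_2_1 lc_c_rc_22_3 lc_c_rc_22_5 lc_c_rc_11_1 lc_c_rc_22_3 lc_c_rc_11_1 lc_c_rc_11_1 lc_c_rc_11_1 lc_c_rc_11_1 lc_c_rc_26_4 lc_c_rc_2_3 lc_c_rc_14_2 lc_c_rc_11_1 lc_c_rc_7_5 lc_c_rc_24_6 lc_c_rc_11_1 lc_c_rc_13_2 lc_c_rc_11_1 lc_c_rc_7_5 lc_c_rc_23_5 lc_c_rc_22_3 lc_c_rc_12_0 lc_c_rc_13_2 lc_c_rc_7_3 lc_c_rc_22_9 lc_c_rc_7_1 lc_c_rc_13_2 lc_c_rc_26_8 lc_c_rc_26_8 lc_c_rc_13_2 lc_c_rc_13_2 lc_c_rc_11_1 lc_c_rc_11_1 lc_c_rc_14_2)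 (@D3.rec (fun _ => (Cert rels S Gen.c)) lc_c_rc_22_7 lc_c_rc_2_1 lc_c_rc_13_2 lc_c_rc_7_3 lc_c_rc_13_2 lc_c_rc_14_2 lc_c_rc_13_2 lc_c_rc_23_0 lc_c_rc_13_0 lc_c_rc_23_0 lc_c_rc_2_3 lc_c_rc_11_1 lc_c_rc_14_2 lc_c_rc_22_5 lc_c_rc_7_3 lc_c_rc_13_2 lc_c_rc_14_2 lc_c_rc_11_1 lc_c_rc_13_0 lc_c_rc_11_1 lc_c_rc_13_0 lc_c_rc_22_7 lc_c_rc_13_2 lc_c_rc_13_2 lc_c_rc_14_0 lc_c_rc_7_3 lc_c_rc_22_5 lc_c_rc_24_2 lc_c_rc_24_6 lc_c_rc_11_1 lc_c_rc_24_4 lc_c_rc_13_0 lc_c_rc_11_1 lc_c_rc_13_0 lc_c_rc_11_1 lc_c_rc_22_3 lc_c_rc_7_5 lc_c_rc_22_5 lc_c_rc_13_2 lc_c_rc_7_5 lc_c_rc_22_7 lc_c_rc_11_1 lc_c_rc_2_3 lc_c_rc_11_1 lc_c_rc_11_1 lc_c_rc_26_4 lc_c_rc_24_8 lc_c_Cert_tree lc_c_rc_23_0 lc_c_rc_2_3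 lc_c_rc_11_1 lc_c_rc_11_1 lc_c_rc_13_2 lc_c_rc_12_14 lc_c_rc_11_1 lc_c_rc_24_4 lc_c_rc_22_3 lc_c_rc_11_1 lc_c_rc_26_4 lc_c_rc_13_2 lc_c_rc_11_1 lc_c_rc_26_8) (@D3.rec (fun _ => (Cert rels S Gen.c)) lc_c_rc_26_4 lc_c_rc_11_1 lc_c_rc_11_1 lc_c_rc_11_1 lc_c_rc_24_4 lc_c_rc_7_3 lc_c_rc_14_2 lc_c_rc_11_1 lc_c_rc_11_1 lc_c_rc_23_0 lc_c_rc_24_2 lc_c_rc_13_0 lc_c_rc_13_0 lc_c_rc_13_2 lc_c_rc_14_2 lc_c_rc_7_1 lc_c_rc_12_2 lc_c_rc_13_2 lc_c_rc_11_1 lc_c_rc_26_2 lc_c_rc_22_5 lc_c_rc_7_5 lc_c_rc_7_5 lc_c_rc_2_3 lc_c_rc_22_3 lc_c_rc_24_6 lc_c_rc_22_7 lc_c_rc_23_0 lc_c_rc_13_2 lc_c_rc_22_5 lc_c_rc_23_5 lc_c_rc_22_3 lc_c_rc_13_2 lc_c_rc_13_2 lc_c_rc_11_1 lc_c_rc_2_3 lc_c_rc_11_1 lc_c_rc_2_3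 lc_c_rc_13_2 lc_c_rc_13_2 lc_c_rc_2_1 lc_c_rc_26_4 lc_c_rc_13_0 lc_c_rc_11_1 lc_c_rc_13_2 lc_c_rc_13_2 lc_c_rc_13_2 lc_c_rc_7_5 lc_c_rc_13_2 lc_c_rc_2_3 lc_c_rc_13_0 lc_c_rc_22_3 lc_c_rc_13_2 lc_c_rc_13_2 lc_c_rc_11_1 lc_c_rc_11_1 lc_c_rc_11_1 lc_c_rc_13_2 lc_c_rc_11_1 lc_c_rc_22_3 lc_c_rc_13_0 lc_c_rc_26_4) (@D3.rec (fun _ => (Cert rels S Gen.c)) lc_c_rc_13_2 lc_c_rc_11_1 lc_c_rc_11_1 lc_c_rc_11_1 lc_c_rc_24_8 lc_c_rc_2_3 lc_c_rc_13_2 lc_c_rc_7_3 lc_c_rc_11_1 lc_c_rc_11_1 lc_c_rc_24_8 lc_c_rc_14_2 lc_c_rc_7_5 lc_c_rc_11_1 lc_c_rc_24_4 lc_c_rc_7_3 lc_c_rc_12_0 lc_c_rc_23_5 lc_c_rc_2_3 lc_c_rc_13_0 lc_c_rc_11_1 lc_c_rc_2_1 lc_c_rc_7_5 lc_c_rc_11_1 lc_c_rc_11_1 lc_c_rc_23_5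 lc_c_rc_11_1 lc_c_rc_7_3 lc_c_rc_23_5 lc_c_rc_14_2 lc_c_rc_7_3 lc_c_rc_11_1 lc_c_rc_26_10 lc_c_rc_11_1 lc_c_rc_26_8 lc_c_rc_11_1 lc_c_rc_2_1 lc_c_rc_11_1 lc_c_rc_26_4 lc_c_rc_14_0 lc_c_rc_12_2 lc_c_rc_13_2 lc_c_rc_13_0 lc_c_rc_26_4 lc_c_rc_13_2 lc_c_rc_11_1 lc_c_rc_7_3 lc_c_rc_22_3 lc_c_rc_13_2 lc_c_rc_11_1 lc_c_rc_12_0 lc_c_rc_11_1 lc_c_rc_22_3 lc_c_rc_13_2 lc_c_rc_23_0 lc_c_rc_22_5 lc_c_rc_13_2 lc_c_rc_23_5 lc_c_rc_23_0 lc_c_rc_24_2 lc_c_rc_11_1 lc_c_rc_12_2) (@D3.rec (fun _ => (Cert rels S Gen.c)) lc_c_rc_22_3 lc_c_rc_22_3 lc_c_rc_22_7 lc_c_rc_24_4 lc_c_rc_11_1 lc_c_rc_22_7 lc_c_rc_13_2 lc_c_rc_13_2 lc_c_rc_11_1 lc_c_rc_11_1 lc_c_rc_11_1 lc_c_rc_14_2 lc_c_rc_22_3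 lc_c_rc_13_2 lc_c_rc_24_4 lc_c_rc_13_2 lc_c_rc_23_0 lc_c_rc_2_3 lc_c_rc_12_0 lc_c_rc_26_8 lc_c_rc_7_3 lc_c_rc_7_5 lc_c_rc_11_1 lc_c_rc_13_2 lc_c_rc_25_17 lc_c_rc_11_1 lc_c_rc_13_2 lc_c_rc_2_1 lc_c_rc_11_1 lc_c_rc_2_1 lc_c_rc_7_3 lc_c_rc_11_1 lc_c_rc_23_0 lc_c_rc_14_2 lc_c_rc_7_5 lc_c_rc_13_2 lc_c_rc_23_0 lc_c_rc_14_2 lc_c_rc_13_2 lc_c_rc_13_2 lc_c_rc_7_5 lc_c_rc_13_2 lc_c_rc_22_3 lc_c_rc_24_8 lc_c_rc_11_1 lc_c_rc_11_1 lc_c_rc_7_3 lc_c_rc_22_7 lc_c_rc_13_0 lc_c_rc_11_1 lc_c_rc_13_2 lc_c_rc_13_2 lc_c_rc_23_5 lc_c_rc_11_1 lc_c_rc_7_5 lc_c_rc_24_4 lc_c_rc_26_2 lc_c_rc_26_4 lc_c_rc_11_1 lc_c_rc_22_3 lc_c_Cert_tree lc_c_rc_13_2) (@D3.rec (fun _ => (Cert rels S Gen.c)) lc_c_rc_11_1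 lc_c_rc_25_1 lc_c_rc_22_5 lc_c_rc_14_2 lc_c_rc_24_4 lc_c_rc_24_2 lc_c_rc_24_2 lc_c_rc_23_5 lc_c_rc_13_2 lc_c_rc_11_1 lc_c_rc_2_3 lc_c_rc_13_0 lc_c_rc_13_2 lc_c_rc_13_2 lc_c_rc_13_2 lc_c_rc_23_0 lc_c_rc_22_5 lc_c_rc_11_1 lc_c_rc_7_3 lc_c_rc_25_17 lc_c_rc_11_1 lc_c_rc_14_0 lc_c_rc_13_2 lc_c_rc_24_2 lc_c_rc_25_13 lc_c_rc_13_2 lc_c_rc_13_2 lc_c_rc_11_1 lc_c_rc_13_2 lc_c_rc_7_5 lc_c_rc_22_3 lc_c_rc_22_3 lc_c_rc_11_1 lc_c_rc_14_2 lc_c_rc_13_2 lc_c_rc_22_3 lc_c_rc_23_5 lc_c_rc_11_1 lc_c_rc_22_3 lc_c_rc_13_2 lc_c_rc_11_1 lc_c_rc_7_5 lc_c_rc_24_8 lc_c_rc_13_2 lc_c_rc_11_1 lc_c_rc_14_2 lc_c_rc_7_3 lc_c_rc_11_1 lc_c_rc_12_2 lc_c_rc_13_0 lc_c_rc_13_0 lc_c_rc_25_17 lc_c_rc_7_5 lc_c_rc_14_2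 lc_c_rc_24_4 lc_c_rc_12_0 lc_c_rc_11_1 lc_c_rc_13_2 lc_c_rc_13_2 lc_c_rc_23_0 lc_c_rc_14_2 lc_c_rc_23_0) (@D3.rec (fun _ => (Cert rels S Gen.c)) lc_c_rc_11_1 lc_c_rc_23_0 lc_c_rc_23_0 lc_c_rc_24_2 lc_c_rc_13_2 lc_c_rc_13_2 lc_c_rc_2_1 lc_c_rc_13_2 lc_c_rc_24_8 lc_c_rc_7_5 lc_c_rc_13_2 lc_c_rc_24_4 lc_c_rc_11_1 lc_c_rc_2_3 lc_c_rc_26_4 lc_c_rc_14_2 lc_c_rc_25_13 lc_c_rc_11_1 lc_c_rc_13_2 lc_c_rc_7_5 lc_c_rc_13_2 lc_c_rc_11_1 lc_c_rc_11_1 lc_c_rc_23_0 lc_c_rc_13_2 lc_c_rc_11_1 lc_c_rc_22_5 lc_c_rc_25_13 lc_c_rc_7_3 lc_c_rc_22_5 lc_c_rc_13_2 lc_c_rc_26_10 lc_c_rc_7_3 lc_c_rc_13_2 lc_c_rc_23_0 lc_c_rc_13_2 lc_c_rc_11_1 lc_c_rc_26_2 lc_c_rc_7_1 lc_c_rc_22_9 lc_c_rc_26_2 lc_c_rc_23_0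 lc_c_rc_7_1 lc_c_rc_11_1 lc_c_rc_22_3 lc_c_rc_11_1 lc_c_rc_13_2 lc_c_rc_11_1 lc_c_rc_11_1 lc_c_rc_22_5 lc_c_rc_22_7 lc_c_rc_11_1 lc_c_rc_26_4 lc_c_rc_13_2 lc_c_rc_24_2 lc_c_rc_2_3 lc_c_rc_23_0 lc_c_rc_13_2 lc_c_rc_11_1 lc_c_rc_22_9 lc_c_rc_13_2 lc_c_rc_23_0) (@D3.rec (fun _ => (Cert rels S Gen.c)) lc_c_rc_14_2 lc_c_rc_14_2 lc_c_rc_22_5 lc_c_rc_12_2 lc_c_rc_11_1 lc_c_rc_23_0 lc_c_rc_7_5 lc_c_rc_22_9 lc_c_rc_12_2 lc_c_rc_26_2 lc_c_rc_22_7 lc_c_rc_24_6 lc_c_rc_11_1 lc_c_rc_25_17 lc_c_rc_13_0 lc_c_rc_24_8 lc_c_rc_24_8 lc_c_rc_14_2 lc_c_rc_22_7 lc_c_rc_11_1 lc_c_rc_26_2 lc_c_rc_13_2 lc_c_rc_7_5 lc_c_rc_11_1 lc_c_rc_11_1 lc_c_rc_13_2 lc_c_rc_7_5 lc_c_rc_7_5 lc_c_rc_22_3 lc_c_rc_7_3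 lc_c_rc_26_2 lc_c_rc_25_9 lc_c_rc_23_0 lc_c_rc_24_8 lc_c_rc_14_2 lc_c_rc_13_0 lc_c_rc_26_4 lc_c_rc_25_1 lc_c_rc_11_1 lc_c_rc_13_0 lc_c_rc_11_1 lc_c_rc_22_3 lc_c_rc_2_1 lc_c_rc_25_13 lc_c_rc_11_1 lc_c_rc_13_2 lc_c_rc_23_5 lc_c_rc_24_8 lc_c_rc_11_1 lc_c_rc_11_1 lc_c_rc_12_2 lc_c_rc_11_1 lc_c_rc_13_2 lc_c_rc_11_1 lc_c_rc_2_1 lc_c_rc_11_1 lc_c_rc_13_2 lc_c_rc_26_4 lc_c_rc_7_3 lc_c_Cert_tree lc_c_rc_13_2 lc_c_rc_13_2) (@D3.rec (fun _ => (Cert rels S Gen.c)) lc_c_rc_24_6 lc_c_rc_13_0 lc_c_rc_13_0 lc_c_rc_23_5 lc_c_rc_2_3 lc_c_rc_11_1 lc_c_rc_22_9 lc_c_rc_11_1 lc_c_rc_23_5 lc_c_rc_11_1 lc_c_rc_26_8 lc_c_rc_11_1 lc_c_rc_14_0 lc_c_rc_24_6 lc_c_rc_7_3 lc_c_rc_13_2 lc_c_rc_23_0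 lc_c_rc_14_2 lc_c_rc_13_2 lc_c_rc_13_2 lc_c_rc_26_2 lc_c_rc_13_2 lc_c_rc_23_0 lc_c_rc_24_8 lc_c_rc_14_2 lc_c_rc_14_2 lc_c_rc_23_0 lc_c_rc_14_2 lc_c_rc_22_9 lc_c_rc_13_2 lc_c_rc_25_17 lc_c_rc_26_10 lc_c_rc_7_3 lc_c_rc_13_2 lc_c_rc_22_9 lc_c_rc_7_5 lc_c_rc_26_10 lc_c_rc_11_1 lc_c_rc_22_7 lc_c_rc_11_1 lc_c_rc_2_3 lc_c_rc_11_1 lc_c_rc_23_5 lc_c_rc_23_5 lc_c_rc_14_2 lc_c_rc_7_5 lc_c_rc_14_2 lc_c_rc_26_4 lc_c_rc_11_1 lc_c_rc_11_1 lc_c_rc_24_2 lc_c_rc_11_1 lc_c_rc_12_0 lc_c_rc_11_1 lc_c_rc_11_1 lc_c_rc_11_1 lc_c_rc_11_1 lc_c_rc_26_10 lc_c_rc_2_3 lc_c_rc_14_2 lc_c_rc_14_2 lc_c_rc_2_3) (@D3.rec (fun _ => (Cert rels S Gen.c)) lc_c_rc_22_3 lc_c_rc_11_1 lc_c_rc_7_3 lc_c_rc_22_3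 lc_c_rc_22_9 lc_c_rc_11_1 lc_c_rc_13_2 lc_c_rc_22_5 lc_c_rc_7_3 lc_c_rc_11_1 lc_c_rc_2_1 lc_c_rc_11_1 lc_c_rc_7_5 lc_c_rc_11_1 lc_c_rc_13_2 lc_c_rc_23_0 lc_c_rc_26_10 lc_c_rc_7_5 lc_c_rc_11_1 lc_c_rc_24_2 lc_c_rc_7_5 lc_c_rc_26_4 lc_c_rc_22_3 lc_c_rc_24_8 lc_c_rc_14_2 lc_c_rc_11_1 lc_c_rc_2_3 lc_c_rc_26_2 lc_c_rc_7_3 lc_c_rc_11_1 lc_c_rc_11_1 lc_c_rc_14_2 lc_c_rc_13_2 lc_c_rc_23_0 lc_c_rc_14_2 lc_c_rc_22_3 lc_c_rc_22_3 lc_c_rc_26_2 lc_c_rc_23_0 lc_c_rc_22_3 lc_c_rc_7_3 lc_c_rc_13_0 lc_c_rc_24_2 lc_c_rc_2_3 lc_c_rc_2_3 lc_c_rc_7_5 lc_c_Cert_tree lc_c_rc_11_1 lc_c_rc_26_4 lc_c_rc_7_5 lc_c_rc_13_2 lc_c_rc_22_9 lc_c_rc_13_2 lc_c_rc_7_3 lc_c_rc_24_2 lc_c_rc_13_2 lc_c_rc_2_3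 lc_c_rc_22_3 lc_c_rc_23_0 lc_c_rc_26_4 lc_c_rc_12_0 lc_c_rc_11_1) (@D3.rec (fun _ => (Cert rels S Gen.c)) lc_c_rc_7_3 lc_c_rc_26_4 lc_c_rc_2_3 lc_c_rc_11_1 lc_c_rc_14_2 lc_c_rc_13_2 lc_c_rc_7_5 lc_c_rc_24_8 lc_c_rc_11_1 lc_c_rc_13_2 lc_c_rc_23_0 lc_c_rc_13_2 lc_c_rc_11_1 lc_c_rc_13_2 lc_c_rc_13_0 lc_c_rc_11_1 lc_c_rc_11_1 lc_c_rc_14_2 lc_c_rc_13_2 lc_c_rc_26_2 lc_c_rc_7_1 lc_c_rc_24_8 lc_c_rc_11_1 lc_c_rc_13_2 lc_c_rc_22_7 lc_c_rc_11_1 lc_c_rc_11_1 lc_c_rc_25_1 lc_c_rc_23_0 lc_c_rc_22_7 lc_c_rc_11_1 lc_c_rc_26_4 lc_c_rc_7_3 lc_c_rc_14_2 lc_c_rc_13_2 lc_c_rc_22_7 lc_c_rc_2_3 lc_c_rc_24_4 lc_c_rc_13_2 lc_c_rc_26_4 lc_c_rc_22_3 lc_c_rc_11_1 lc_c_rc_2_3 lc_c_rc_11_1 lc_c_rc_13_2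 lc_c_rc_13_2 lc_c_rc_26_2 lc_c_rc_24_8 lc_c_rc_11_1 lc_c_rc_13_2 lc_c_rc_7_3 lc_c_rc_2_3 lc_c_rc_7_5 lc_c_rc_13_2 lc_c_rc_25_9 lc_c_rc_11_1 lc_c_rc_23_0 lc_c_rc_11_1 lc_c_rc_26_4 lc_c_rc_11_1 lc_c_rc_13_2 lc_c_rc_13_2) (@D3.rec (fun _ => (Cert rels S Gen.c)) lc_c_rc_2_3 lc_c_rc_11_1 lc_c_rc_22_7 lc_c_rc_2_3 lc_c_rc_22_3 lc_c_rc_11_1 lc_c_rc_13_2 lc_c_rc_2_3 lc_c_rc_13_2 lc_c_rc_11_1 lc_c_rc_14_2 lc_c_rc_14_2 lc_c_rc_7_5 lc_c_rc_13_2 lc_c_rc_24_6 lc_c_rc_12_2 lc_c_rc_14_2 lc_c_rc_7_3 lc_c_rc_22_5 lc_c_rc_2_3 lc_c_rc_13_2 lc_c_rc_13_2 lc_c_rc_12_0 lc_c_rc_26_10 lc_c_rc_11_1 lc_c_rc_11_1 lc_c_rc_24_8 lc_c_rc_7_1 lc_c_rc_22_5 lc_c_rc_13_2 lc_c_rc_24_6 lc_c_rc_11_1 lc_c_rc_26_4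 lc_c_rc_11_1 lc_c_rc_11_1 lc_c_rc_13_0 lc_c_rc_11_1 lc_c_rc_11_1 lc_c_rc_11_1 lc_c_rc_13_2 lc_c_rc_22_5 lc_c_rc_14_0 lc_c_rc_24_4 lc_c_rc_11_1 lc_c_rc_14_2 lc_c_rc_2_3 lc_c_rc_11_1 lc_c_rc_13_2 lc_c_rc_7_5 lc_c_rc_13_2 lc_c_rc_11_1 lc_c_rc_13_0 lc_c_rc_13_0 lc_c_rc_23_0 lc_c_rc_26_4 lc_c_rc_13_2 lc_c_rc_26_10 lc_c_rc_25_1 lc_c_rc_7_5 lc_c_rc_11_1 lc_c_Cert_tree lc_c_rc_22_9) (@D3.rec (fun _ => (Cert rels S Gen.c)) lc_c_rc_11_1 lc_c_rc_2_1 lc_c_rc_11_1 lc_c_rc_11_1 lc_c_rc_26_4 lc_c_rc_11_1 lc_c_rc_12_14 lc_c_rc_13_0 lc_c_rc_24_6 lc_c_rc_7_5 lc_c_rc_2_3 lc_c_rc_24_2 lc_c_rc_24_8 lc_c_rc_7_3 lc_c_rc_22_3 lc_c_rc_23_5 lc_c_rc_7_3 lc_c_rc_11_1 lc_c_rc_13_2 lc_c_rc_11_1 lc_c_rc_11_1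 lc_c_rc_14_2 lc_c_rc_11_1 lc_c_rc_26_4 lc_c_rc_11_1 lc_c_rc_26_2 lc_c_rc_26_8 lc_c_rc_26_4 lc_c_rc_26_2 lc_c_rc_14_2 lc_c_rc_26_8 lc_c_rc_11_1 lc_c_rc_22_5 lc_c_rc_23_0 lc_c_rc_7_3 lc_c_rc_7_1 lc_c_rc_14_2 lc_c_rc_25_17 lc_c_rc_23_0 lc_c_rc_24_2 lc_c_rc_24_6 lc_c_rc_25_17 lc_c_rc_22_7 lc_c_rc_14_2 lc_c_rc_24_8 lc_c_rc_26_10 lc_c_rc_22_3 lc_c_rc_23_5 lc_c_rc_13_2 lc_c_rc_7_5 lc_c_rc_22_7 lc_c_rc_22_5 lc_c_rc_25_5 lc_c_rc_2_1 lc_c_rc_24_2 lc_c_rc_14_2 lc_c_rc_11_1 lc_c_rc_11_1 lc_c_rc_2_3 lc_c_rc_11_1 lc_c_rc_2_3 lc_c_rc_7_3) (@D3.rec (fun _ => (Cert rels S Gen.c)) lc_c_rc_13_2 lc_c_rc_11_1 lc_c_rc_7_1 lc_c_rc_13_2 lc_c_rc_24_8 lc_c_rc_13_2 lc_c_rc_24_6 lc_c_rc_13_0 lc_c_rc_23_5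 lc_c_rc_22_5 lc_c_rc_7_3 lc_c_rc_2_1 lc_c_rc_22_9 lc_c_rc_13_2 lc_c_rc_11_1 lc_c_rc_22_3 lc_c_rc_13_2 lc_c_rc_13_2 lc_c_rc_7_3 lc_c_rc_13_2 lc_c_rc_26_8 lc_c_rc_7_5 lc_c_rc_11_1 lc_c_rc_11_1 lc_c_rc_13_0 lc_c_rc_13_2 lc_c_rc_23_5 lc_c_rc_11_1 lc_c_rc_2_3 lc_c_rc_7_1 lc_c_rc_14_2 lc_c_rc_7_1 lc_c_rc_22_5 lc_c_rc_7_5 lc_c_rc_13_2 lc_c_rc_11_1 lc_c_rc_11_1 lc_c_rc_11_1 lc_c_rc_11_1 lc_c_rc_14_2 lc_c_rc_11_1 lc_c_rc_23_0 lc_c_rc_22_9 lc_c_rc_2_3 lc_c_rc_24_2 lc_c_rc_11_1 lc_c_rc_26_2 lc_c_rc_13_2 lc_c_rc_13_2 lc_c_rc_22_3 lc_c_rc_7_3 lc_c_rc_13_2 lc_c_rc_24_8 lc_c_rc_23_5 lc_c_rc_7_5 lc_c_rc_7_3 lc_c_rc_13_2 lc_c_rc_22_3 lc_c_rc_13_0 lc_c_rc_24_8 lc_c_rc_13_2 lc_c_rc_11_1)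 (@D3.rec (fun _ => (Cert rels S Gen.c)) lc_c_rc_7_1 lc_c_rc_24_6 lc_c_rc_13_2 lc_c_rc_23_0 lc_c_rc_2_3 lc_c_rc_14_2 lc_c_rc_26_8 lc_c_rc_23_0 lc_c_rc_13_2 lc_c_rc_7_1 lc_c_rc_22_9 lc_c_rc_26_8 lc_c_rc_11_1 lc_c_rc_14_0 lc_c_rc_13_2 lc_c_rc_11_1 lc_c_rc_22_7 lc_c_rc_2_3 lc_c_rc_26_8 lc_c_rc_13_2 lc_c_rc_13_2 lc_c_rc_11_1 lc_c_rc_22_3 lc_c_rc_7_5 lc_c_rc_11_1 lc_c_rc_11_1 lc_c_rc_23_0 lc_c_rc_14_2 lc_c_rc_24_2 lc_c_rc_24_2 lc_c_rc_22_3 lc_c_rc_22_5 lc_c_rc_7_5 lc_c_rc_11_1 lc_c_rc_14_2 lc_c_rc_11_1 lc_c_rc_11_1 lc_c_rc_22_5 lc_c_rc_11_1 lc_c_rc_26_4 lc_c_rc_24_6 lc_c_rc_23_0 lc_c_rc_26_4 lc_c_rc_23_5 lc_c_rc_13_2 lc_c_rc_2_3 lc_c_rc_13_2 lc_c_rc_26_2 lc_c_rc_25_5 lc_c_rc_11_1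 lc_c_rc_22_9 lc_c_rc_14_2 lc_c_rc_13_2 lc_c_rc_11_1 lc_c_rc_23_5 lc_c_rc_2_3 lc_c_rc_14_2 lc_c_rc_13_0 lc_c_rc_2_3 lc_c_rc_2_3 lc_c_rc_26_2 lc_c_rc_14_2)
def ce_c_31 : D2 → D3 → (Cert rels S Gen.c) := @D2.rec (fun _ => D3 → (Cert rels S Gen.c)) (@D3.rec (fun _ => (Cert rels S Gen.c)) lc_c_rc_11_1 lc_c_rc_11_1 lc_c_rc_26_2 lc_c_rc_2_3 lc_c_rc_12_0 lc_c_rc_26_2 lc_c_rc_2_1 lc_c_rc_2_1 lc_c_rc_7_5 lc_c_rc_11_1 lc_c_rc_22_3 lc_c_rc_7_5 lc_c_rc_11_1 lc_c_rc_11_1 lc_c_rc_13_2 lc_c_rc_11_1 lc_c_rc_13_0 lc_c_rc_7_5 lc_c_rc_14_2 lc_c_rc_7_3 lc_c_rc_22_7 lc_c_rc_13_2 lc_c_rc_13_2 lc_c_rc_25_1 lc_c_rc_13_2 lc_c_rc_7_5 lc_c_rc_26_2 lc_c_rc_22_3 lc_c_rc_11_1 lc_c_rc_13_0 lc_c_rc_11_1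 lc_c_rc_13_2 lc_c_rc_23_0 lc_c_rc_11_1 lc_c_rc_11_1 lc_c_rc_22_3 lc_c_rc_26_2 lc_c_rc_22_3 lc_c_rc_24_6 lc_c_rc_14_2 lc_c_rc_14_2 lc_c_rc_7_3 lc_c_rc_11_1 lc_c_rc_24_2 lc_c_rc_11_1 lc_c_rc_7_5 lc_c_rc_13_2 lc_c_rc_13_0 lc_c_rc_23_0 lc_c_rc_14_2 lc_c_rc_7_3 lc_c_rc_26_4 lc_c_rc_11_1 lc_c_rc_2_3 lc_c_rc_7_5 lc_c_rc_11_1 lc_c_rc_13_2 lc_c_rc_25_17 lc_c_rc_11_1 lc_c_rc_11_1 lc_c_rc_26_2 lc_c_Cert_tree) (@D3.rec (fun _ => (Cert rels S Gen.c)) lc_c_rc_24_4 lc_c_rc_11_1 lc_c_rc_22_3 lc_c_rc_13_0 lc_c_rc_2_3 lc_c_rc_23_0 lc_c_rc_23_0 lc_c_rc_2_3 lc_c_rc_14_2 lc_c_rc_22_9 lc_c_rc_7_3 lc_c_rc_22_5 lc_c_rc_22_5 lc_c_rc_22_5 lc_c_rc_13_2 lc_c_rc_11_1 lc_c_rc_24_2 lc_c_rc_11_1 lc_c_rc_7_5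 lc_c_rc_26_10 lc_c_rc_11_1 lc_c_rc_11_1 lc_c_rc_11_1 lc_c_rc_7_3 lc_c_rc_11_1 lc_c_rc_2_1 lc_c_rc_11_1 lc_c_rc_26_2 lc_c_rc_11_1 lc_c_rc_11_1 lc_c_rc_24_6 lc_c_rc_11_1 lc_c_rc_11_1 lc_c_rc_13_2 lc_c_rc_11_1 lc_c_rc_13_0 lc_c_rc_26_2 lc_c_rc_11_1 lc_c_rc_13_2 lc_c_rc_13_2 lc_c_rc_14_2 lc_c_rc_13_2 lc_c_rc_13_2 lc_c_rc_26_2 lc_c_rc_7_5 lc_c_rc_11_1 lc_c_rc_23_0 lc_c_rc_23_5 lc_c_rc_13_2 lc_c_rc_11_1 lc_c_rc_24_8 lc_c_rc_22_5 lc_c_rc_11_1 lc_c_rc_11_1 lc_c_rc_22_5 lc_c_rc_7_3 lc_c_rc_13_0 lc_c_rc_26_2 lc_c_rc_24_6 lc_c_rc_24_8 lc_c_rc_11_1 lc_c_rc_11_1) (@D3.rec (fun _ => (Cert rels S Gen.c)) lc_c_rc_12_2 lc_c_rc_11_1 lc_c_rc_11_1 lc_c_rc_7_1 lc_c_rc_7_5 lc_c_rc_11_1 lc_c_rc_22_5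 lc_c_rc_14_0 lc_c_rc_7_1 lc_c_rc_11_1 lc_c_rc_22_5 lc_c_rc_14_2 lc_c_rc_14_2 lc_c_Cert_tree lc_c_rc_26_2 lc_c_rc_22_9 lc_c_rc_13_2 lc_c_rc_26_4 lc_c_rc_7_3 lc_c_rc_22_3 lc_c_rc_7_5 lc_c_rc_23_0 lc_c_rc_22_7 lc_c_rc_22_5 lc_c_rc_22_3 lc_c_rc_11_1 lc_c_rc_11_1 lc_c_rc_11_1 lc_c_rc_14_2 lc_c_rc_14_0 lc_c_rc_11_1 lc_c_rc_22_3 lc_c_rc_11_1 lc_c_rc_25_1 lc_c_rc_14_2 lc_c_rc_23_0 lc_c_rc_11_1 lc_c_rc_22_7 lc_c_rc_11_1 lc_c_rc_26_2 lc_c_rc_13_0 lc_c_rc_7_5 lc_c_rc_13_2 lc_c_rc_14_2 lc_c_rc_7_5 lc_c_rc_13_2 lc_c_rc_24_6 lc_c_rc_22_7 lc_c_rc_11_1 lc_c_rc_13_2 lc_c_rc_11_1 lc_c_rc_14_2 lc_c_rc_22_5 lc_c_rc_11_1 lc_c_rc_13_2 lc_c_rc_13_2 lc_c_rc_14_2 lc_c_rc_11_1 lc_c_rc_11_1 lc_c_rc_14_2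 lc_c_rc_11_1 lc_c_rc_7_3) (@D3.rec (fun _ => (Cert rels S Gen.c)) lc_c_rc_24_8 lc_c_rc_7_5 lc_c_rc_11_1 lc_c_rc_11_1 lc_c_rc_11_1 lc_c_rc_26_2 lc_c_rc_26_2 lc_c_rc_13_2 lc_c_rc_26_2 lc_c_rc_13_2 lc_c_Cert_tree lc_c_rc_25_1 lc_c_rc_25_9 lc_c_rc_11_1 lc_c_rc_2_1 lc_c_rc_11_1 lc_c_rc_13_2 lc_c_rc_7_1 lc_c_rc_11_1 lc_c_rc_7_1 lc_c_rc_7_3 lc_c_rc_11_1 lc_c_rc_2_1 lc_c_rc_14_2 lc_c_rc_2_3 lc_c_rc_11_1 lc_c_rc_7_5 lc_c_rc_11_1 lc_c_rc_7_3 lc_c_rc_13_2 lc_c_rc_11_1 lc_c_rc_24_6 lc_c_rc_11_1 lc_c_rc_7_5 lc_c_rc_13_2 lc_c_rc_11_1 lc_c_rc_24_6 lc_c_rc_11_1 lc_c_rc_13_2 lc_c_rc_24_6 lc_c_rc_13_0 lc_c_rc_14_2 lc_c_rc_13_2 lc_c_rc_11_1 lc_c_rc_22_7 lc_c_rc_26_4 lc_c_rc_11_1 lc_c_rc_11_1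 lc_c_rc_26_10 lc_c_rc_23_5 lc_c_rc_11_1 lc_c_rc_7_3 lc_c_rc_13_2 lc_c_rc_13_2 lc_c_rc_24_4 lc_c_rc_13_0 lc_c_rc_13_2 lc_c_rc_7_1 lc_c_rc_13_2 lc_c_rc_11_1 lc_c_rc_11_1 lc_c_rc_13_2) (@D3.rec (fun _ => (Cert rels S Gen.c)) lc_c_rc_11_1 lc_c_rc_11_1 lc_c_rc_22_3 lc_c_rc_2_1 lc_c_rc_24_2 lc_c_rc_11_1 lc_c_rc_25_9 lc_c_rc_7_3 lc_c_rc_13_2 lc_c_rc_13_0 lc_c_rc_2_3 lc_c_rc_24_6 lc_c_rc_22_5 lc_c_rc_24_2 lc_c_rc_14_2 lc_c_rc_13_2 lc_c_rc_13_2 lc_c_rc_7_3 lc_c_rc_13_2 lc_c_rc_11_1 lc_c_rc_2_3 lc_c_rc_24_6 lc_c_rc_14_2 lc_c_rc_11_1 lc_c_rc_25_1 lc_c_rc_13_2 lc_c_rc_23_5 lc_c_rc_24_6 lc_c_rc_24_2 lc_c_rc_23_0 lc_c_rc_13_2 lc_c_rc_24_8 lc_c_rc_23_0 lc_c_rc_26_4 lc_c_rc_13_2 lc_c_rc_26_10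 lc_c_rc_7_3 lc_c_rc_24_6 lc_c_rc_26_10 lc_c_rc_11_1 lc_c_rc_11_1 lc_c_rc_22_3 lc_c_rc_26_2 lc_c_rc_11_1 lc_c_rc_22_3 lc_c_rc_7_3 lc_c_rc_22_5 lc_c_rc_13_2 lc_c_rc_11_1 lc_c_rc_2_3 lc_c_rc_23_0 lc_c_rc_24_4 lc_c_rc_11_1 lc_c_rc_14_2 lc_c_rc_11_1 lc_c_rc_11_1 lc_c_rc_7_1 lc_c_rc_13_2 lc_c_rc_7_3 lc_c_rc_11_1 lc_c_rc_25_5 lc_c_rc_11_1) (@D3.rec (fun _ => (Cert rels S Gen.c)) lc_c_rc_12_0 lc_c_rc_22_3 lc_c_rc_13_2 lc_c_rc_13_2 lc_c_rc_25_1 lc_c_rc_7_1 lc_c_rc_11_1 lc_c_rc_11_1 lc_c_rc_7_5 lc_c_rc_24_4 lc_c_rc_24_4 lc_c_rc_24_4 lc_c_rc_24_2 lc_c_rc_26_4 lc_c_rc_24_6 lc_c_rc_11_1 lc_c_rc_13_2 lc_c_rc_13_2 lc_c_rc_24_2 lc_c_rc_24_2 lc_c_rc_7_3 lc_c_rc_22_9 lc_c_rc_11_1 lc_c_rc_23_5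 lc_c_rc_24_6 lc_c_rc_14_2 lc_c_rc_22_5 lc_c_rc_24_4 lc_c_rc_2_1 lc_c_rc_13_0 lc_c_rc_11_1 lc_c_rc_13_2 lc_c_rc_24_8 lc_c_rc_11_1 lc_c_rc_14_2 lc_c_rc_7_3 lc_c_rc_11_1 lc_c_Cert_tree lc_c_rc_13_2 lc_c_rc_7_1 lc_c_rc_13_2 lc_c_rc_7_3 lc_c_rc_26_10 lc_c_rc_11_1 lc_c_rc_2_3 lc_c_Cert_tree lc_c_rc_11_1 lc_c_rc_13_2 lc_c_rc_14_2 lc_c_rc_11_1 lc_c_rc_11_1 lc_c_rc_26_10 lc_c_rc_26_8 lc_c_rc_13_2 lc_c_rc_14_2 lc_c_rc_11_1 lc_c_rc_23_5 lc_c_rc_23_0 lc_c_rc_13_2 lc_c_rc_14_2 lc_c_rc_13_2 lc_c_rc_11_1) (@D3.rec (fun _ => (Cert rels S Gen.c)) lc_c_rc_11_1 lc_c_rc_7_3 lc_c_rc_24_8 lc_c_rc_25_5 lc_c_rc_11_1 lc_c_rc_11_1 lc_c_rc_7_5 lc_c_rc_26_8 lc_c_rc_13_2 lc_c_rc_13_0 lc_c_rc_24_6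 lc_c_rc_13_2 lc_c_rc_11_1 lc_c_rc_24_4 lc_c_rc_11_1 lc_c_Cert_tree lc_c_rc_22_9 lc_c_rc_24_2 lc_c_rc_11_1 lc_c_rc_13_2 lc_c_rc_22_9 lc_c_rc_22_3 lc_c_rc_11_1 lc_c_rc_24_6 lc_c_rc_26_2 lc_c_rc_11_1 lc_c_rc_23_5 lc_c_rc_22_7 lc_c_rc_23_5 lc_c_rc_23_0 lc_c_rc_13_2 lc_c_rc_26_10 lc_c_rc_11_1 lc_c_rc_11_1 lc_c_rc_11_1 lc_c_rc_7_5 lc_c_rc_22_5 lc_c_rc_24_4 lc_c_rc_24_4 lc_c_rc_25_9 lc_c_rc_11_1 lc_c_rc_26_4 lc_c_rc_12_14 lc_c_rc_13_0 lc_c_rc_13_2 lc_c_rc_26_2 lc_c_rc_7_5 lc_c_rc_26_10 lc_c_rc_11_1 lc_c_rc_7_3 lc_c_rc_13_2 lc_c_rc_23_5 lc_c_rc_13_2 lc_c_rc_11_1 lc_c_rc_2_3 lc_c_Cert_tree lc_c_rc_26_4 lc_c_rc_7_3 lc_c_rc_26_2 lc_c_rc_13_2 lc_c_rc_24_6 lc_c_rc_13_0) (@D3.rec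 (fun _ => (Cert rels S Gen.c)) lc_c_rc_11_1 lc_c_rc_11_1 lc_c_rc_14_2 lc_c_rc_2_3 lc_c_rc_24_8 lc_c_rc_24_8 lc_c_rc_14_2 lc_c_rc_26_10 lc_c_rc_22_9 lc_c_rc_2_3 lc_c_rc_22_3 lc_c_rc_24_8 lc_c_rc_23_5 lc_c_rc_11_1 lc_c_rc_11_1 lc_c_rc_11_1 lc_c_rc_11_1 lc_c_rc_26_4 lc_c_rc_7_5 lc_c_rc_13_2 lc_c_rc_23_5 lc_c_rc_11_1 lc_c_rc_26_2 lc_c_rc_11_1 lc_c_rc_11_1 lc_c_rc_24_4 lc_c_rc_13_2 lc_c_rc_22_3 lc_c_rc_11_1 lc_c_rc_11_1 lc_c_rc_7_3 lc_c_rc_26_2 lc_c_rc_2_3 lc_c_rc_12_0 lc_c_rc_7_5 lc_c_rc_2_3 lc_c_rc_26_10 lc_c_rc_13_2 lc_c_rc_13_2 lc_c_rc_11_1 lc_c_rc_11_1 lc_c_rc_2_3 lc_c_rc_22_7 lc_c_rc_13_2 lc_c_rc_13_0 lc_c_rc_11_1 lc_c_rc_13_0 lc_c_rc_26_8 lc_c_rc_26_2 lc_c_rc_11_1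 lc_c_rc_7_1 lc_c_rc_22_3 lc_c_rc_11_1 lc_c_rc_26_2 lc_c_rc_22_5 lc_c_rc_13_2 lc_c_rc_24_4 lc_c_rc_22_3 lc_c_rc_23_5 lc_c_rc_11_1 lc_c_rc_14_2 lc_c_rc_7_1) (@D3.rec (fun _ => (Cert rels S Gen.c)) lc_c_rc_22_3 lc_c_rc_22_7 lc_c_rc_22_5 lc_c_rc_22_5 lc_c_rc_22_3 lc_c_rc_26_2 lc_c_rc_13_2 lc_c_rc_11_1 lc_c_rc_14_2 lc_c_rc_24_4 lc_c_rc_23_5 lc_c_rc_26_10 lc_c_rc_11_1 lc_c_rc_23_5 lc_c_rc_22_3 lc_c_rc_11_1 lc_c_rc_11_1 lc_c_rc_26_10 lc_c_rc_26_4 lc_c_rc_11_1 lc_c_rc_11_1 lc_c_rc_11_1 lc_c_rc_11_1 lc_c_rc_11_1 lc_c_rc_11_1 lc_c_rc_22_5 lc_c_rc_13_2 lc_c_rc_13_2 lc_c_rc_13_2 lc_c_rc_11_1 lc_c_rc_11_1 lc_c_rc_24_4 lc_c_rc_11_1 lc_c_rc_14_2 lc_c_rc_24_8 lc_c_rc_24_2 lc_c_rc_11_1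 lc_c_rc_13_2 lc_c_rc_22_5 lc_c_rc_13_2 lc_c_rc_13_2 lc_c_rc_13_0 lc_c_rc_14_2 lc_c_rc_13_2 lc_c_rc_11_1 lc_c_rc_23_5 lc_c_rc_13_0 lc_c_rc_2_3 lc_c_rc_23_5 lc_c_rc_24_4 lc_c_rc_23_5 lc_c_rc_13_2 lc_c_rc_26_2 lc_c_rc_23_5 lc_c_rc_11_1 lc_c_rc_2_3 lc_c_rc_14_2 lc_c_rc_24_2 lc_c_rc_24_2 lc_c_rc_22_9 lc_c_rc_13_0 lc_c_rc_11_1) (@D3.rec (fun _ => (Cert rels S Gen.c)) lc_c_rc_13_2 lc_c_rc_23_0 lc_c_rc_11_1 lc_c_rc_11_1 lc_c_rc_11_1 lc_c_rc_2_3 lc_c_rc_24_4 lc_c_rc_23_0 lc_c_rc_7_1 lc_c_rc_13_2 lc_c_rc_7_3 lc_c_rc_13_2 lc_c_rc_11_1 lc_c_rc_13_2 lc_c_rc_11_1 lc_c_rc_11_1 lc_c_rc_22_5 lc_c_rc_7_3 lc_c_rc_22_5 lc_c_rc_22_5 lc_c_rc_22_5 lc_c_rc_22_5 lc_c_rc_14_2 lc_c_rc_7_1 lc_c_rc_26_8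 lc_c_rc_24_8 lc_c_rc_13_2 lc_c_rc_22_5 lc_c_rc_7_3 lc_c_rc_11_1 lc_c_rc_11_1 lc_c_rc_26_2 lc_c_rc_22_7 lc_c_rc_24_6 lc_c_rc_13_2 lc_c_rc_13_2 lc_c_rc_22_5 lc_c_rc_24_4 lc_c_rc_12_2 lc_c_rc_11_1 lc_c_rc_13_2 lc_c_rc_2_3 lc_c_rc_14_2 lc_c_rc_25_1 lc_c_rc_26_4 lc_c_rc_11_1 lc_c_rc_22_3 lc_c_rc_2_3 lc_c_rc_2_1 lc_c_rc_26_8 lc_c_rc_25_1 lc_c_rc_13_2 lc_c_rc_11_1 lc_c_rc_7_3 lc_c_rc_7_3 lc_c_rc_26_10 lc_c_rc_11_1 lc_c_rc_13_2 lc_c_rc_26_4 lc_c_rc_22_7 lc_c_rc_24_2 lc_c_rc_7_3) (@D3.rec (fun _ => (Cert rels S Gen.c)) lc_c_rc_11_1 lc_c_rc_13_2 lc_c_rc_11_1 lc_c_rc_2_1 lc_c_rc_13_2 lc_c_rc_26_2 lc_c_rc_13_0 lc_c_rc_26_2 lc_c_rc_11_1 lc_c_rc_7_3 lc_c_rc_13_2 lc_c_rc_7_1 lc_c_rc_7_3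 lc_c_rc_7_1 lc_c_rc_7_5 lc_c_rc_11_1 lc_c_rc_11_1 lc_c_rc_7_5 lc_c_rc_11_1 lc_c_rc_7_5 lc_c_rc_2_3 lc_c_rc_11_1 lc_c_rc_11_1 lc_c_rc_22_5 lc_c_rc_13_2 lc_c_rc_22_3 lc_c_rc_24_4 lc_c_rc_22_7 lc_c_rc_7_5 lc_c_rc_13_2 lc_c_rc_11_1 lc_c_rc_25_5 lc_c_rc_11_1 lc_c_rc_13_0 lc_c_rc_23_5 lc_c_rc_11_1 lc_c_rc_11_1 lc_c_rc_11_1 lc_c_rc_13_0 lc_c_rc_14_0 lc_c_rc_11_1 lc_c_rc_11_1 lc_c_rc_7_3 lc_c_rc_11_1 lc_c_rc_14_2 lc_c_rc_22_7 lc_c_rc_2_1 lc_c_rc_22_5 lc_c_rc_26_4 lc_c_rc_13_2 lc_c_rc_11_1 lc_c_rc_11_1 lc_c_rc_24_4 lc_c_rc_23_5 lc_c_rc_26_8 lc_c_rc_13_2 lc_c_rc_11_1 lc_c_rc_11_1 lc_c_rc_11_1 lc_c_rc_25_1 lc_c_rc_11_1 lc_c_rc_11_1) (@D3.rec (fun _ => (Cert rels S Gen.c)) lc_c_rc_13_2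 lc_c_rc_24_6 lc_c_rc_23_5 lc_c_rc_22_3 lc_c_rc_13_2 lc_c_rc_11_1 lc_c_rc_7_5 lc_c_rc_13_2 lc_c_rc_23_0 lc_c_rc_26_8 lc_c_rc_23_0 lc_c_rc_13_2 lc_c_rc_14_2 lc_c_rc_26_8 lc_c_rc_11_1 lc_c_rc_25_5 lc_c_rc_11_1 lc_c_rc_22_5 lc_c_rc_14_0 lc_c_rc_26_8 lc_c_rc_7_3 lc_c_rc_13_2 lc_c_rc_14_2 lc_c_rc_11_1 lc_c_rc_26_4 lc_c_rc_11_1 lc_c_rc_11_1 lc_c_rc_13_2 lc_c_rc_13_2 lc_c_rc_22_7 lc_c_rc_22_7 lc_c_rc_11_1 lc_c_rc_2_1 lc_c_rc_22_5 lc_c_Cert_tree lc_c_rc_11_1 lc_c_rc_7_1 lc_c_rc_11_1 lc_c_rc_26_10 lc_c_rc_26_10 lc_c_rc_13_2 lc_c_rc_13_0 lc_c_rc_14_2 lc_c_rc_11_1 lc_c_rc_26_8 lc_c_rc_11_1 lc_c_rc_7_5 lc_c_rc_22_5 lc_c_rc_12_2 lc_c_rc_13_2 lc_c_rc_2_1 lc_c_rc_13_2 lc_c_rc_11_1 lc_c_rc_22_5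 lc_c_rc_13_2 lc_c_rc_12_8 lc_c_rc_24_6 lc_c_rc_11_1 lc_c_rc_26_8 lc_c_rc_22_7 lc_c_rc_24_2 lc_c_rc_12_2) (@D3.rec (fun _ => (Cert rels S Gen.c)) lc_c_rc_11_1 lc_c_rc_22_3 lc_c_rc_26_4 lc_c_rc_7_3 lc_c_rc_13_0 lc_c_Cert_tree lc_c_rc_24_6 lc_c_rc_11_1 lc_c_rc_24_4 lc_c_rc_24_4 lc_c_rc_14_2 lc_c_rc_23_5 lc_c_rc_13_2 lc_c_rc_7_5 lc_c_rc_7_5 lc_c_rc_23_0 lc_c_rc_26_4 lc_c_rc_14_2 lc_c_rc_14_0 lc_c_rc_24_2 lc_c_rc_22_3 lc_c_rc_11_1 lc_c_rc_11_1 lc_c_rc_2_3 lc_c_rc_14_2 lc_c_rc_11_1 lc_c_rc_24_6 lc_c_rc_2_3 lc_c_rc_12_2 lc_c_rc_22_9 lc_c_rc_26_2 lc_c_rc_26_4 lc_c_rc_24_4 lc_c_rc_7_1 lc_c_rc_13_2 lc_c_rc_7_3 lc_c_rc_11_1 lc_c_rc_13_2 lc_c_rc_11_1 lc_c_rc_7_3 lc_c_rc_13_2 lc_c_rc_7_5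 lc_c_rc_22_7 lc_c_rc_11_1 lc_c_rc_11_1 lc_c_rc_7_3 lc_c_rc_22_3 lc_c_rc_24_8 lc_c_rc_26_4 lc_c_rc_11_1 lc_c_rc_11_1 lc_c_rc_11_1 lc_c_rc_22_5 lc_c_rc_26_2 lc_c_rc_23_0 lc_c_rc_11_1 lc_c_rc_11_1 lc_c_rc_24_2 lc_c_rc_13_2 lc_c_rc_11_1 lc_c_rc_11_1 lc_c_rc_7_3) (@D3.rec (fun _ => (Cert rels S Gen.c)) lc_c_rc_11_1 lc_c_rc_11_1 lc_c_rc_7_5 lc_c_rc_13_0 lc_c_rc_22_3 lc_c_rc_11_1 lc_c_rc_14_0 lc_c_rc_11_1 lc_c_rc_13_2 lc_c_rc_23_0 lc_c_rc_11_1 lc_c_rc_22_7 lc_c_rc_11_1 lc_c_rc_24_2 lc_c_rc_23_0 lc_c_rc_13_2 lc_c_rc_26_4 lc_c_rc_26_10 lc_c_rc_11_1 lc_c_rc_2_3 lc_c_rc_11_1 lc_c_rc_11_1 lc_c_rc_11_1 lc_c_rc_22_3 lc_c_rc_11_1 lc_c_rc_2_3 lc_c_rc_7_3 lc_c_rc_22_7 lc_c_rc_26_4 lc_c_rc_11_1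 lc_c_rc_11_1 lc_c_rc_26_8 lc_c_rc_11_1 lc_c_rc_7_3 lc_c_rc_11_1 lc_c_rc_7_3 lc_c_rc_24_4 lc_c_rc_14_2 lc_c_rc_7_3 lc_c_rc_13_2 lc_c_rc_24_6 lc_c_rc_26_4 lc_c_rc_11_1 lc_c_rc_13_2 lc_c_rc_24_2 lc_c_rc_26_2 lc_c_rc_13_2 lc_c_rc_24_6 lc_c_rc_24_6 lc_c_rc_26_2 lc_c_rc_24_2 lc_c_rc_13_2 lc_c_rc_23_5 lc_c_rc_13_2 lc_c_rc_14_2 lc_c_rc_24_6 lc_c_rc_7_5 lc_c_rc_22_5 lc_c_rc_13_2 lc_c_rc_22_5 lc_c_rc_13_2 lc_c_rc_11_1) (@D3.rec (fun _ => (Cert rels S Gen.c)) lc_c_rc_24_2 lc_c_rc_11_1 lc_c_rc_11_1 lc_c_rc_11_1 lc_c_rc_23_0 lc_c_rc_22_3 lc_c_rc_7_5 lc_c_rc_26_2 lc_c_rc_13_2 lc_c_rc_11_1 lc_c_rc_11_1 lc_c_rc_24_6 lc_c_rc_13_2 lc_c_rc_22_5 lc_c_rc_13_2 lc_c_rc_11_1 lc_c_rc_7_1 lc_c_rc_22_5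 lc_c_rc_25_13 lc_c_rc_13_2 lc_c_rc_7_5 lc_c_rc_26_2 lc_c_rc_11_1 lc_c_rc_22_9 lc_c_rc_7_5 lc_c_rc_22_9 lc_c_rc_13_2 lc_c_Cert_tree lc_c_rc_11_1 lc_c_rc_11_1 lc_c_rc_22_5 lc_c_rc_22_5 lc_c_rc_13_2 lc_c_rc_7_1 lc_c_rc_23_5 lc_c_rc_22_5 lc_c_rc_11_1 lc_c_rc_22_7 lc_c_rc_26_2 lc_c_rc_22_9 lc_c_rc_26_10 lc_c_rc_23_0 lc_c_rc_2_3 lc_c_rc_22_5 lc_c_rc_11_1 lc_c_rc_13_2 lc_c_rc_11_1 lc_c_rc_26_10 lc_c_rc_26_2 lc_c_rc_13_2 lc_c_rc_7_3 lc_c_rc_22_3 lc_c_rc_11_1 lc_c_rc_22_9 lc_c_rc_13_2 lc_c_rc_13_2 lc_c_rc_11_1 lc_c_rc_13_0 lc_c_rc_13_0 lc_c_rc_14_2 lc_c_rc_11_1 lc_c_rc_11_1) (@D3.rec (fun _ => (Cert rels S Gen.c)) lc_c_rc_13_2 lc_c_rc_23_0 lc_c_rc_25_13 lc_c_rc_13_2 lc_c_rc_13_0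 lc_c_rc_13_2 lc_c_rc_2_3 lc_c_rc_13_2 lc_c_rc_13_0 lc_c_rc_14_2 lc_c_rc_11_1 lc_c_Cert_tree lc_c_rc_7_3 lc_c_rc_11_1 lc_c_rc_14_2 lc_c_rc_13_2 lc_c_rc_11_1 lc_c_rc_23_5 lc_c_rc_11_1 lc_c_rc_11_1 lc_c_rc_14_2 lc_c_rc_7_3 lc_c_rc_13_0 lc_c_rc_24_4 lc_c_rc_2_3 lc_c_rc_13_2 lc_c_rc_13_0 lc_c_rc_11_1 lc_c_rc_22_3 lc_c_rc_14_0 lc_c_rc_26_10 lc_c_rc_11_1 lc_c_rc_11_1 lc_c_rc_7_3 lc_c_rc_26_8 lc_c_rc_22_3 lc_c_rc_26_4 lc_c_rc_24_2 lc_c_rc_26_10 lc_c_rc_13_2 lc_c_rc_24_8 lc_c_rc_13_2 lc_c_rc_22_9 lc_c_rc_11_1 lc_c_rc_13_2 lc_c_rc_22_7 lc_c_rc_22_3 lc_c_rc_7_5 lc_c_rc_24_4 lc_c_rc_13_2 lc_c_rc_13_2 lc_c_rc_13_2 lc_c_rc_24_4 lc_c_rc_7_5 lc_c_rc_13_2 lc_c_rc_13_2 lc_c_rc_13_2 lc_c_rc_23_0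 lc_c_rc_22_3 lc_c_rc_24_6 lc_c_rc_23_0 lc_c_rc_22_5) (@D3.rec (fun _ => (Cert rels S Gen.c)) lc_c_rc_22_5 lc_c_rc_7_1 lc_c_rc_26_4 lc_c_rc_24_2 lc_c_rc_23_0 lc_c_rc_11_1 lc_c_rc_22_5 lc_c_rc_24_2 lc_c_rc_22_9 lc_c_rc_7_5 lc_c_rc_13_2 lc_c_rc_7_1 lc_c_Cert_tree lc_c_rc_24_4 lc_c_rc_11_1 lc_c_Cert_tree lc_c_rc_11_1 lc_c_rc_13_2 lc_c_rc_22_5 lc_c_rc_2_1 lc_c_rc_26_8 lc_c_rc_26_10 lc_c_rc_26_10 lc_c_rc_11_1 lc_c_rc_26_2 lc_c_rc_13_2 lc_c_rc_11_1 lc_c_rc_13_0 lc_c_rc_13_2 lc_c_rc_7_1 lc_c_rc_12_4 lc_c_rc_24_8 lc_c_rc_23_0 lc_c_rc_24_4 lc_c_rc_11_1 lc_c_rc_2_1 lc_c_rc_22_3 lc_c_rc_13_2 lc_c_rc_26_4 lc_c_rc_22_5 lc_c_rc_23_0 lc_c_rc_11_1 lc_c_rc_22_5 lc_c_rc_12_14 lc_c_rc_11_1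 lc_c_rc_11_1 lc_c_rc_26_4 lc_c_rc_2_1 lc_c_rc_13_0 lc_c_rc_22_5 lc_c_rc_22_5 lc_c_rc_22_5 lc_c_rc_2_3 lc_c_rc_13_2 lc_c_rc_11_1 lc_c_rc_11_1 lc_c_rc_13_0 lc_c_rc_22_3 lc_c_rc_7_1 lc_c_rc_14_2 lc_c_rc_22_5 lc_c_rc_11_1) (@D3.rec (fun _ => (Cert rels S Gen.c)) lc_c_rc_14_2 lc_c_rc_26_4 lc_c_rc_13_2 lc_c_rc_14_2 lc_c_rc_7_3 lc_c_rc_11_1 lc_c_rc_11_1 lc_c_rc_26_2 lc_c_rc_26_4 lc_c_rc_26_4 lc_c_rc_11_1 lc_c_rc_7_3 lc_c_rc_24_6 lc_c_rc_23_5 lc_c_rc_22_3 lc_c_rc_7_5 lc_c_rc_25_1 lc_c_rc_13_2 lc_c_rc_24_6 lc_c_rc_7_5 lc_c_rc_14_2 lc_c_rc_13_2 lc_c_rc_13_2 lc_c_rc_13_0 lc_c_rc_7_3 lc_c_rc_26_2 lc_c_rc_26_4 lc_c_rc_13_2 lc_c_rc_11_1 lc_c_rc_24_8 lc_c_rc_14_2 lc_c_rc_13_2 lc_c_rc_11_1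 lc_c_rc_11_1 lc_c_Cert_tree lc_c_rc_26_2 lc_c_rc_12_14 lc_c_rc_13_2 lc_c_rc_2_3 lc_c_rc_13_2 lc_c_rc_26_4 lc_c_rc_13_2 lc_c_rc_7_3 lc_c_rc_11_1 lc_c_rc_11_1 lc_c_rc_13_2 lc_c_rc_13_2 lc_c_rc_24_8 lc_c_rc_13_0 lc_c_rc_22_3 lc_c_rc_23_0 lc_c_rc_11_1 lc_c_rc_11_1 lc_c_rc_7_3 lc_c_rc_25_17 lc_c_rc_26_2 lc_c_rc_14_2 lc_c_rc_22_7 lc_c_rc_26_2 lc_c_rc_2_3 lc_c_rc_11_1 lc_c_rc_22_7) (@D3.rec (fun _ => (Cert rels S Gen.c)) lc_c_rc_22_3 lc_c_rc_24_2 lc_c_rc_22_5 lc_c_rc_26_8 lc_c_rc_22_3 lc_c_rc_13_2 lc_c_rc_7_1 lc_c_rc_11_1 lc_c_rc_11_1 lc_c_rc_11_1 lc_c_rc_7_5 lc_c_rc_11_1 lc_c_rc_11_1 lc_c_rc_2_3 lc_c_rc_7_5 lc_c_rc_14_2 lc_c_rc_11_1 lc_c_rc_13_2 lc_c_rc_11_1 lc_c_rc_11_1 lc_c_rc_26_4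 lc_c_rc_11_1 lc_c_rc_13_2 lc_c_rc_7_5 lc_c_rc_13_2 lc_c_rc_11_1 lc_c_rc_22_5 lc_c_rc_13_2 lc_c_rc_24_4 lc_c_rc_11_1 lc_c_rc_26_4 lc_c_rc_14_2 lc_c_rc_25_5 lc_c_rc_13_2 lc_c_rc_24_2 lc_c_rc_24_2 lc_c_rc_26_2 lc_c_rc_11_1 lc_c_rc_22_5 lc_c_rc_26_2 lc_c_rc_7_3 lc_c_rc_26_10 lc_c_rc_24_8 lc_c_rc_13_2 lc_c_rc_24_6 lc_c_rc_2_3 lc_c_rc_13_2 lc_c_rc_26_4 lc_c_rc_25_5 lc_c_rc_13_2 lc_c_rc_26_10 lc_c_rc_26_2 lc_c_rc_26_4 lc_c_rc_7_5 lc_c_rc_13_2 lc_c_rc_25_17 lc_c_rc_13_2 lc_c_rc_13_0 lc_c_rc_26_2 lc_c_rc_7_3 lc_c_rc_11_1 lc_c_rc_11_1) (@D3.rec (fun _ => (Cert rels S Gen.c)) lc_c_rc_26_8 lc_c_rc_11_1 lc_c_rc_23_5 lc_c_rc_23_5 lc_c_rc_13_2 lc_c_rc_24_6 lc_c_rc_22_3 lc_c_rc_24_2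 lc_c_rc_11_1 lc_c_rc_11_1 lc_c_rc_24_8 lc_c_rc_11_1 lc_c_rc_23_0 lc_c_rc_13_2 lc_c_rc_13_2 lc_c_rc_12_0 lc_c_rc_26_4 lc_c_rc_11_1 lc_c_rc_14_0 lc_c_rc_13_2 lc_c_rc_13_2 lc_c_rc_22_3 lc_c_rc_25_1 lc_c_rc_13_2 lc_c_rc_11_1 lc_c_rc_13_2 lc_c_rc_26_4 lc_c_rc_22_7 lc_c_rc_13_0 lc_c_rc_11_1 lc_c_rc_26_10 lc_c_rc_12_2 lc_c_rc_13_2 lc_c_rc_11_1 lc_c_rc_26_10 lc_c_rc_26_8 lc_c_rc_12_2 lc_c_rc_11_1 lc_c_rc_11_1 lc_c_rc_13_0 lc_c_rc_24_2 lc_c_rc_22_3 lc_c_rc_11_1 lc_c_rc_13_2 lc_c_rc_2_1 lc_c_rc_22_3 lc_c_rc_13_2 lc_c_rc_7_5 lc_c_rc_22_3 lc_c_rc_11_1 lc_c_rc_11_1 lc_c_rc_13_2 lc_c_rc_13_2 lc_c_rc_11_1 lc_c_rc_11_1 lc_c_rc_26_10 lc_c_rc_11_1 lc_c_rc_13_2 lc_c_rc_11_1 lc_c_rc_13_2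 lc_c_rc_11_1 lc_c_rc_11_1) (@D3.rec (fun _ => (Cert rels S Gen.c)) lc_c_rc_13_2 lc_c_rc_11_1 lc_c_rc_13_2 lc_c_rc_11_1 lc_c_rc_11_1 lc_c_rc_14_2 lc_c_rc_2_3 lc_c_rc_13_2 lc_c_rc_23_5 lc_c_rc_7_5 lc_c_rc_2_3 lc_c_rc_24_4 lc_c_rc_13_2 lc_c_rc_11_1 lc_c_rc_23_0 lc_c_rc_11_1 lc_c_rc_26_8 lc_c_rc_11_1 lc_c_rc_7_3 lc_c_rc_22_5 lc_c_rc_13_2 lc_c_rc_13_0 lc_c_rc_26_4 lc_c_rc_13_2 lc_c_rc_11_1 lc_c_rc_11_1 lc_c_rc_24_2 lc_c_rc_22_3 lc_c_rc_26_8 lc_c_rc_13_2 lc_c_rc_24_2 lc_c_rc_11_1 lc_c_rc_26_10 lc_c_rc_11_1 lc_c_rc_24_6 lc_c_rc_11_1 lc_c_rc_7_3 lc_c_rc_22_9 lc_c_rc_13_2 lc_c_rc_13_0 lc_c_rc_14_2 lc_c_rc_13_0 lc_c_rc_11_1 lc_c_rc_22_5 lc_c_rc_7_5 lc_c_rc_26_2 lc_c_rc_13_2 lc_c_rc_7_1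 lc_c_rc_23_5 lc_c_rc_13_2 lc_c_rc_13_0 lc_c_rc_14_2 lc_c_rc_13_0 lc_c_rc_14_2 lc_c_rc_7_5 lc_c_rc_22_7 lc_c_rc_13_2 lc_c_rc_26_2 lc_c_rc_24_2 lc_c_rc_26_2 lc_c_rc_24_6 lc_c_rc_26_10) (@D3.rec (fun _ => (Cert rels S Gen.c)) lc_c_rc_13_0 lc_c_rc_13_2 lc_c_rc_13_2 lc_c_rc_22_5 lc_c_rc_26_10 lc_c_rc_11_1 lc_c_rc_13_2 lc_c_rc_11_1 lc_c_rc_22_5 lc_c_rc_25_1 lc_c_rc_22_5 lc_c_rc_13_2 lc_c_rc_22_7 lc_c_rc_24_6 lc_c_rc_26_10 lc_c_rc_13_2 lc_c_rc_24_2 lc_c_rc_13_2 lc_c_rc_7_1 lc_c_rc_22_3 lc_c_rc_26_4 lc_c_rc_22_5 lc_c_rc_11_1 lc_c_rc_11_1 lc_c_rc_2_3 lc_c_rc_7_3 lc_c_rc_13_2 lc_c_rc_11_1 lc_c_rc_13_2 lc_c_rc_24_6 lc_c_rc_23_0 lc_c_rc_14_2 lc_c_rc_23_5 lc_c_rc_26_10 lc_c_rc_11_1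 lc_c_rc_24_4 lc_c_rc_11_1 lc_c_rc_26_2 lc_c_rc_24_6 lc_c_rc_22_3 lc_c_rc_13_2 lc_c_rc_13_0 lc_c_rc_22_3 lc_c_rc_7_5 lc_c_rc_7_5 lc_c_rc_26_8 lc_c_rc_11_1 lc_c_rc_2_3 lc_c_rc_7_5 lc_c_rc_13_2 lc_c_rc_23_0 lc_c_rc_22_7 lc_c_rc_26_4 lc_c_rc_26_2 lc_c_rc_26_2 lc_c_rc_26_4 lc_c_rc_7_5 lc_c_rc_2_3 lc_c_rc_13_0 lc_c_rc_11_1 lc_c_rc_22_3 lc_c_rc_2_3) (@D3.rec (fun _ => (Cert rels S Gen.c)) lc_c_rc_26_2 lc_c_rc_13_2 lc_c_rc_22_5 lc_c_rc_11_1 lc_c_rc_22_3 lc_c_rc_13_2 lc_c_rc_12_2 lc_c_rc_22_7 lc_c_rc_22_5 lc_c_rc_2_3 lc_c_rc_22_5 lc_c_rc_2_3 lc_c_rc_13_2 lc_c_rc_2_3 lc_c_rc_13_2 lc_c_rc_13_0 lc_c_rc_13_2 lc_c_rc_11_1 lc_c_rc_13_2 lc_c_rc_7_5 lc_c_rc_11_1 lc_c_rc_13_0 lc_c_rc_24_2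 lc_c_rc_11_1 lc_c_Cert_tree lc_c_rc_13_2 lc_c_rc_13_0 lc_c_rc_22_3 lc_c_rc_22_7 lc_c_rc_12_14 lc_c_rc_13_2 lc_c_rc_14_2 lc_c_rc_7_5 lc_c_rc_13_2 lc_c_rc_11_1 lc_c_rc_24_4 lc_c_rc_7_5 lc_c_rc_13_0 lc_c_rc_13_2 lc_c_rc_11_1 lc_c_Cert_tree lc_c_rc_12_2 lc_c_rc_13_2 lc_c_rc_13_2 lc_c_rc_14_2 lc_c_rc_11_1 lc_c_rc_13_0 lc_c_rc_13_2 lc_c_rc_11_1 lc_c_rc_26_10 lc_c_rc_26_4 lc_c_rc_12_2 lc_c_rc_13_2 lc_c_rc_7_1 lc_c_rc_11_1 lc_c_rc_24_4 lc_c_rc_11_1 lc_c_rc_26_8 lc_c_rc_11_1 lc_c_rc_22_3 lc_c_rc_12_0 lc_c_rc_22_7) (@D3.rec (fun _ => (Cert rels S Gen.c)) lc_c_rc_13_2 lc_c_rc_26_8 lc_c_rc_11_1 lc_c_rc_11_1 lc_c_rc_13_0 lc_c_rc_25_9 lc_c_rc_26_8 lc_c_rc_26_10 lc_c_rc_7_5 lc_c_rc_24_2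 lc_c_rc_25_5 lc_c_rc_11_1 lc_c_rc_11_1 lc_c_rc_11_1 lc_c_rc_13_2 lc_c_rc_11_1 lc_c_rc_11_1 lc_c_rc_11_1 lc_c_rc_22_9 lc_c_rc_23_0 lc_c_rc_11_1 lc_c_rc_14_2 lc_c_rc_23_0 lc_c_rc_11_1 lc_c_rc_14_2 lc_c_rc_11_1 lc_c_rc_11_1 lc_c_rc_7_1 lc_c_rc_11_1 lc_c_rc_24_6 lc_c_rc_2_1 lc_c_rc_12_0 lc_c_rc_13_2 lc_c_rc_12_2 lc_c_rc_23_5 lc_c_rc_13_2 lc_c_rc_11_1 lc_c_rc_23_5 lc_c_rc_11_1 lc_c_rc_23_0 lc_c_rc_13_2 lc_c_rc_25_1 lc_c_rc_22_3 lc_c_rc_26_10 lc_c_rc_11_1 lc_c_rc_7_3 lc_c_rc_23_0 lc_c_rc_13_2 lc_c_rc_22_5 lc_c_rc_13_2 lc_c_rc_26_8 lc_c_rc_13_2 lc_c_rc_7_3 lc_c_rc_22_5 lc_c_rc_13_2 lc_c_Cert_tree lc_c_rc_11_1 lc_c_rc_22_5 lc_c_rc_13_2 lc_c_rc_13_2 lc_c_rc_13_2 lc_c_rc_13_2)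 (@D3.rec (fun _ => (Cert rels S Gen.c)) lc_c_rc_13_2 lc_c_rc_26_4 lc_c_rc_11_1 lc_c_rc_26_10 lc_c_rc_14_2 lc_c_rc_25_5 lc_c_rc_13_2 lc_c_rc_13_2 lc_c_rc_22_5 lc_c_rc_24_6 lc_c_rc_11_1 lc_c_rc_7_3 lc_c_rc_14_2 lc_c_rc_13_2 lc_c_rc_22_3 lc_c_rc_26_2 lc_c_rc_13_2 lc_c_rc_11_1 lc_c_rc_26_8 lc_c_rc_13_2 lc_c_rc_26_10 lc_c_rc_11_1 lc_c_rc_26_10 lc_c_rc_7_5 lc_c_rc_11_1 lc_c_rc_26_4 lc_c_rc_23_0 lc_c_rc_14_2 lc_c_rc_26_4 lc_c_rc_22_3 lc_c_rc_12_2 lc_c_rc_11_1 lc_c_rc_2_3 lc_c_rc_7_3 lc_c_rc_26_10 lc_c_rc_26_8 lc_c_rc_11_1 lc_c_rc_22_9 lc_c_rc_11_1 lc_c_rc_26_10 lc_c_rc_26_4 lc_c_rc_11_1 lc_c_rc_26_8 lc_c_rc_13_2 lc_c_rc_13_0 lc_c_rc_26_2 lc_c_rc_11_1 lc_c_rc_22_3 lc_c_rc_13_2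 lc_c_rc_23_5 lc_c_rc_13_2 lc_c_rc_22_7 lc_c_rc_7_1 lc_c_rc_13_2 lc_c_rc_24_2 lc_c_rc_13_2 lc_c_rc_7_5 lc_c_rc_13_0 lc_c_rc_13_2 lc_c_rc_14_2 lc_c_rc_13_2 lc_c_rc_11_1) (@D3.rec (fun _ => (Cert rels S Gen.c)) lc_c_rc_26_10 lc_c_rc_7_3 lc_c_rc_22_9 lc_c_rc_22_5 lc_c_rc_2_3 lc_c_rc_13_2 lc_c_rc_13_2 lc_c_rc_13_2 lc_c_rc_22_5 lc_c_rc_23_0 lc_c_rc_14_2 lc_c_rc_2_3 lc_c_rc_14_2 lc_c_rc_23_0 lc_c_rc_26_2 lc_c_rc_26_10 lc_c_rc_11_1 lc_c_rc_22_7 lc_c_rc_24_6 lc_c_rc_22_7 lc_c_rc_14_2 lc_c_rc_11_1 lc_c_rc_13_0 lc_c_rc_2_3 lc_c_rc_24_2 lc_c_rc_2_3 lc_c_rc_23_0 lc_c_rc_7_1 lc_c_rc_14_2 lc_c_rc_13_2 lc_c_rc_13_2 lc_c_rc_22_9 lc_c_rc_11_1 lc_c_rc_11_1 lc_c_rc_14_2 lc_c_rc_13_2 lc_c_rc_13_2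 lc_c_rc_22_5 lc_c_rc_14_2 lc_c_rc_14_2 lc_c_rc_13_2 lc_c_rc_13_2 lc_c_rc_24_2 lc_c_rc_25_1 lc_c_rc_7_5 lc_c_rc_13_2 lc_c_rc_11_1 lc_c_rc_7_5 lc_c_rc_14_2 lc_c_rc_12_0 lc_c_rc_11_1 lc_c_rc_26_8 lc_c_rc_26_8 lc_c_rc_11_1 lc_c_rc_14_2 lc_c_rc_22_3 lc_c_rc_24_2 lc_c_rc_11_1 lc_c_rc_24_8 lc_c_rc_13_2 lc_c_rc_13_2 lc_c_rc_22_5) (@D3.rec (fun _ => (Cert rels S Gen.c)) lc_c_rc_11_1 lc_c_rc_11_1 lc_c_rc_11_1 lc_c_rc_22_5 lc_c_rc_22_5 lc_c_rc_13_2 lc_c_rc_23_5 lc_c_rc_24_2 lc_c_rc_11_1 lc_c_rc_7_1 lc_c_rc_11_1 lc_c_rc_11_1 lc_c_rc_13_2 lc_c_rc_25_5 lc_c_rc_13_2 lc_c_rc_7_3 lc_c_rc_14_2 lc_c_rc_11_1 lc_c_rc_13_2 lc_c_rc_25_1 lc_c_rc_13_2 lc_c_rc_14_2 lc_c_rc_13_2 lc_c_rc_14_2 lc_c_rc_13_2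 lc_c_rc_23_0 lc_c_rc_13_0 lc_c_rc_22_3 lc_c_rc_24_2 lc_c_rc_7_1 lc_c_rc_14_2 lc_c_rc_13_2 lc_c_rc_7_5 lc_c_rc_13_2 lc_c_rc_24_6 lc_c_rc_14_2 lc_c_rc_26_2 lc_c_rc_23_5 lc_c_rc_26_4 lc_c_rc_13_2 lc_c_rc_23_0 lc_c_rc_13_2 lc_c_rc_25_9 lc_c_rc_2_1 lc_c_rc_14_2 lc_c_rc_11_1 lc_c_rc_22_5 lc_c_rc_13_2 lc_c_rc_11_1 lc_c_rc_14_2 lc_c_rc_11_1 lc_c_rc_23_5 lc_c_rc_2_3 lc_c_rc_26_8 lc_c_rc_14_2 lc_c_rc_14_2 lc_c_rc_24_2 lc_c_rc_13_2 lc_c_rc_2_3 lc_c_rc_2_3 lc_c_rc_13_2 lc_c_rc_24_6) (@D3.rec (fun _ => (Cert rels S Gen.c)) lc_c_rc_26_4 lc_c_rc_26_4 lc_c_rc_25_5 lc_c_rc_14_2 lc_c_rc_24_8 lc_c_rc_13_0 lc_c_rc_13_2 lc_c_rc_11_1 lc_c_rc_2_3 lc_c_rc_26_4 lc_c_rc_13_2 lc_c_rc_7_3 lc_c_rc_11_1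 lc_c_rc_13_2 lc_c_rc_2_3 lc_c_rc_2_3 lc_c_rc_11_1 lc_c_rc_14_2 lc_c_rc_7_1 lc_c_rc_14_2 lc_c_rc_14_2 lc_c_rc_7_3 lc_c_rc_24_4 lc_c_rc_24_2 lc_c_rc_13_0 lc_c_rc_11_1 lc_c_rc_2_3 lc_c_rc_22_5 lc_c_rc_13_2 lc_c_rc_2_3 lc_c_rc_11_1 lc_c_rc_7_5 lc_c_rc_22_5 lc_c_rc_13_0 lc_c_rc_25_1 lc_c_rc_23_0 lc_c_rc_24_8 lc_c_rc_26_4 lc_c_rc_11_1 lc_c_rc_11_1 lc_c_rc_11_1 lc_c_rc_2_3 lc_c_rc_25_5 lc_c_rc_11_1 lc_c_rc_7_5 lc_c_rc_2_3 lc_c_rc_11_1 lc_c_rc_13_2 lc_c_rc_11_1 lc_c_rc_11_1 lc_c_rc_26_8 lc_c_rc_11_1 lc_c_rc_7_5 lc_c_rc_24_2 lc_c_rc_22_3 lc_c_rc_7_5 lc_c_rc_13_2 lc_c_rc_13_2 lc_c_rc_14_2 lc_c_rc_24_8 lc_c_rc_13_2 lc_c_rc_22_3) (@D3.rec (fun _ => (Cert rels S Gen.c)) lc_c_rc_25_5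 lc_c_rc_7_5 lc_c_rc_11_1 lc_c_rc_11_1 lc_c_rc_24_6 lc_c_rc_13_0 lc_c_rc_11_1 lc_c_rc_26_10 lc_c_rc_24_8 lc_c_rc_11_1 lc_c_rc_13_2 lc_c_rc_11_1 lc_c_rc_11_1 lc_c_rc_11_1 lc_c_rc_11_1 lc_c_rc_13_0 lc_c_rc_22_7 lc_c_rc_7_3 lc_c_rc_11_1 lc_c_rc_26_2 lc_c_rc_14_2 lc_c_rc_13_2 lc_c_rc_13_0 lc_c_rc_22_5 lc_c_rc_11_1 lc_c_rc_11_1 lc_c_rc_13_2 lc_c_rc_12_14 lc_c_rc_23_0 lc_c_rc_2_3 lc_c_rc_2_1 lc_c_rc_26_4 lc_c_rc_13_2 lc_c_rc_14_2 lc_c_rc_14_2 lc_c_rc_11_1 lc_c_rc_26_2 lc_c_rc_26_2 lc_c_rc_11_1 lc_c_rc_13_2 lc_c_rc_24_8 lc_c_rc_26_10 lc_c_rc_13_2 lc_c_rc_24_2 lc_c_rc_22_3 lc_c_rc_13_2 lc_c_rc_14_2 lc_c_rc_7_3 lc_c_rc_13_2 lc_c_rc_26_8 lc_c_rc_24_6 lc_c_rc_14_2 lc_c_rc_14_2 lc_c_rc_11_1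 lc_c_rc_13_0 lc_c_rc_11_1 lc_c_rc_24_6 lc_c_rc_11_1 lc_c_rc_22_3 lc_c_rc_13_0 lc_c_rc_7_3 lc_c_rc_22_3) (@D3.rec (fun _ => (Cert rels S Gen.c)) lc_c_rc_13_2 lc_c_rc_13_2 lc_c_rc_24_8 lc_c_rc_7_1 lc_c_Cert_tree lc_c_rc_13_0 lc_c_rc_22_3 lc_c_rc_11_1 lc_c_rc_7_1 lc_c_rc_24_6 lc_c_rc_13_0 lc_c_rc_26_4 lc_c_rc_24_4 lc_c_rc_14_2 lc_c_rc_26_2 lc_c_rc_22_3 lc_c_rc_13_0 lc_c_rc_24_6 lc_c_rc_11_1 lc_c_rc_13_0 lc_c_rc_23_0 lc_c_rc_13_2 lc_c_rc_24_8 lc_c_rc_7_5 lc_c_rc_7_5 lc_c_rc_24_4 lc_c_rc_7_3 lc_c_rc_13_2 lc_c_rc_24_2 lc_c_rc_13_2 lc_c_rc_12_8 lc_c_rc_26_2 lc_c_rc_22_3 lc_c_rc_7_5 lc_c_rc_2_3 lc_c_rc_13_2 lc_c_rc_23_0 lc_c_rc_11_1 lc_c_rc_13_2 lc_c_rc_26_4 lc_c_rc_11_1 lc_c_rc_2_1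 lc_c_rc_14_2 lc_c_rc_14_0 lc_c_rc_22_9 lc_c_rc_13_0 lc_c_rc_13_2 lc_c_rc_11_1 lc_c_rc_26_2 lc_c_rc_11_1 lc_c_rc_11_1 lc_c_rc_7_1 lc_c_rc_11_1 lc_c_rc_13_2 lc_c_rc_24_2 lc_c_rc_11_1 lc_c_rc_22_3 lc_c_rc_13_2 lc_c_rc_11_1 lc_c_rc_13_2 lc_c_rc_13_0 lc_c_rc_11_1) (@D3.rec (fun _ => (Cert rels S Gen.c)) lc_c_rc_24_6 lc_c_rc_11_1 lc_c_rc_11_1 lc_c_Cert_tree lc_c_rc_11_1 lc_c_rc_24_6 lc_c_rc_24_2 lc_c_rc_11_1 lc_c_rc_13_2 lc_c_rc_7_3 lc_c_rc_22_3 lc_c_rc_13_2 lc_c_rc_26_10 lc_c_rc_26_10 lc_c_rc_7_5 lc_c_rc_7_5 lc_c_rc_14_2 lc_c_rc_24_8 lc_c_rc_22_9 lc_c_rc_26_2 lc_c_rc_13_2 lc_c_rc_13_0 lc_c_rc_13_2 lc_c_rc_11_1 lc_c_rc_11_1 lc_c_rc_13_2 lc_c_rc_26_2 lc_c_rc_13_2 lc_c_rc_26_4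 lc_c_rc_23_5 lc_c_rc_23_0 lc_c_rc_23_0 lc_c_rc_11_1 lc_c_rc_11_1 lc_c_rc_11_1 lc_c_rc_7_5 lc_c_rc_22_9 lc_c_rc_26_4 lc_c_rc_14_0 lc_c_rc_7_3 lc_c_rc_22_7 lc_c_rc_7_5 lc_c_rc_2_1 lc_c_rc_24_2 lc_c_rc_11_1 lc_c_rc_13_2 lc_c_rc_2_3 lc_c_rc_11_1 lc_c_rc_14_2 lc_c_rc_26_8 lc_c_rc_24_4 lc_c_rc_11_1 lc_c_rc_22_5 lc_c_rc_23_0 lc_c_rc_23_0 lc_c_rc_11_1 lc_c_rc_23_5 lc_c_rc_11_1 lc_c_rc_11_1 lc_c_rc_11_1 lc_c_rc_7_1 lc_c_rc_11_1) (@D3.rec (fun _ => (Cert rels S Gen.c)) lc_c_rc_11_1 lc_c_rc_24_6 lc_c_rc_11_1 lc_c_rc_22_5 lc_c_rc_12_14 lc_c_rc_13_2 lc_c_rc_13_2 lc_c_rc_7_3 lc_c_rc_22_3 lc_c_rc_13_2 lc_c_rc_7_3 lc_c_rc_13_2 lc_c_rc_7_1 lc_c_rc_23_0 lc_c_rc_13_2 lc_c_rc_7_3 lc_c_rc_11_1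 lc_c_rc_13_2 lc_c_rc_7_3 lc_c_rc_13_2 lc_c_rc_24_2 lc_c_rc_23_0 lc_c_rc_11_1 lc_c_rc_2_3 lc_c_rc_26_8 lc_c_rc_23_5 lc_c_rc_22_5 lc_c_rc_7_1 lc_c_rc_2_3 lc_c_rc_11_1 lc_c_rc_26_10 lc_c_rc_7_3 lc_c_rc_22_3 lc_c_rc_13_2 lc_c_rc_25_9 lc_c_rc_13_2 lc_c_rc_26_10 lc_c_rc_26_8 lc_c_rc_11_1 lc_c_rc_11_1 lc_c_rc_13_0 lc_c_rc_13_2 lc_c_rc_11_1 lc_c_rc_11_1 lc_c_rc_24_6 lc_c_rc_22_5 lc_c_rc_14_2 lc_c_rc_2_3 lc_c_rc_11_1 lc_c_rc_12_0 lc_c_Cert_tree lc_c_rc_2_3 lc_c_rc_13_2 lc_c_rc_26_4 lc_c_rc_13_2 lc_c_rc_11_1 lc_c_rc_22_3 lc_c_rc_14_2 lc_c_rc_26_2 lc_c_rc_13_2 lc_c_rc_7_5 lc_c_rc_24_4) (@D3.rec (fun _ => (Cert rels S Gen.c)) lc_c_rc_11_1 lc_c_rc_26_4 lc_c_rc_26_10 lc_c_rc_14_2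 lc_c_rc_11_1 lc_c_rc_25_5 lc_c_rc_26_8 lc_c_rc_11_1 lc_c_rc_26_2 lc_c_rc_24_4 lc_c_rc_13_2 lc_c_rc_26_10 lc_c_rc_26_10 lc_c_rc_13_2 lc_c_rc_11_1 lc_c_rc_14_2 lc_c_rc_11_1 lc_c_rc_26_8 lc_c_rc_25_9 lc_c_rc_26_8 lc_c_rc_26_4 lc_c_rc_13_2 lc_c_rc_26_2 lc_c_rc_7_3 lc_c_rc_22_3 lc_c_rc_13_2 lc_c_rc_13_2 lc_c_rc_7_5 lc_c_rc_13_0 lc_c_rc_7_3 lc_c_rc_7_5 lc_c_rc_13_2 lc_c_rc_26_4 lc_c_rc_13_2 lc_c_rc_26_8 lc_c_rc_24_2 lc_c_rc_22_5 lc_c_rc_22_3 lc_c_rc_24_4 lc_c_rc_22_3 lc_c_rc_11_1 lc_c_rc_11_1 lc_c_rc_25_5 lc_c_rc_22_9 lc_c_rc_26_8 lc_c_rc_12_0 lc_c_rc_7_3 lc_c_rc_13_2 lc_c_rc_22_9 lc_c_rc_26_4 lc_c_rc_22_7 lc_c_rc_14_2 lc_c_rc_11_1 lc_c_rc_24_2 lc_c_rc_11_1 lc_c_rc_26_4 lc_c_rc_11_1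 lc_c_rc_26_8 lc_c_rc_13_2 lc_c_rc_11_1 lc_c_rc_22_5 lc_c_rc_23_5) (@D3.rec (fun _ => (Cert rels S Gen.c)) lc_c_rc_26_4 lc_c_rc_7_3 lc_c_rc_11_1 lc_c_rc_2_3 lc_c_rc_24_2 lc_c_rc_23_0 lc_c_rc_14_2 lc_c_rc_11_1 lc_c_rc_26_4 lc_c_rc_11_1 lc_c_rc_24_6 lc_c_rc_11_1 lc_c_rc_7_3 lc_c_rc_23_5 lc_c_rc_7_5 lc_c_rc_13_2 lc_c_rc_13_0 lc_c_rc_11_1 lc_c_rc_25_1 lc_c_rc_11_1 lc_c_rc_13_2 lc_c_rc_13_0 lc_c_rc_11_1 lc_c_rc_26_10 lc_c_rc_26_2 lc_c_rc_13_2 lc_c_rc_13_2 lc_c_rc_13_2 lc_c_rc_13_2 lc_c_rc_25_5 lc_c_rc_14_2 lc_c_rc_13_2 lc_c_rc_13_2 lc_c_rc_13_2 lc_c_rc_26_10 lc_c_rc_24_8 lc_c_rc_23_0 lc_c_rc_22_3 lc_c_rc_11_1 lc_c_rc_7_5 lc_c_rc_12_2 lc_c_rc_11_1 lc_c_rc_11_1 lc_c_rc_7_5 lc_c_rc_11_1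 lc_c_rc_13_2 lc_c_rc_14_2 lc_c_rc_11_1 lc_c_rc_22_5 lc_c_rc_11_1 lc_c_rc_11_1 lc_c_rc_11_1 lc_c_rc_14_2 lc_c_rc_11_1 lc_c_rc_14_2 lc_c_rc_26_4 lc_c_rc_13_2 lc_c_rc_13_2 lc_c_rc_22_9 lc_c_rc_14_2 lc_c_rc_7_5 lc_c_rc_22_7) (@D3.rec (fun _ => (Cert rels S Gen.c)) lc_c_rc_11_1 lc_c_rc_7_1 lc_c_rc_14_2 lc_c_rc_11_1 lc_c_rc_13_2 lc_c_rc_13_2 lc_c_rc_24_4 lc_c_rc_22_3 lc_c_rc_7_5 lc_c_rc_26_4 lc_c_rc_22_9 lc_c_rc_14_0 lc_c_rc_2_3 lc_c_rc_25_9 lc_c_rc_13_2 lc_c_rc_12_14 lc_c_rc_13_2 lc_c_rc_13_2 lc_c_rc_13_2 lc_c_Cert_tree lc_c_rc_11_1 lc_c_rc_14_2 lc_c_rc_22_5 lc_c_rc_13_2 lc_c_rc_22_5 lc_c_rc_11_1 lc_c_rc_11_1 lc_c_rc_22_3 lc_c_rc_24_2 lc_c_rc_24_4 lc_c_rc_24_2 lc_c_Cert_tree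 lc_c_rc_22_9 lc_c_rc_24_8 lc_c_rc_25_17 lc_c_rc_7_5 lc_c_rc_11_1 lc_c_rc_13_2 lc_c_rc_23_0 lc_c_rc_7_3 lc_c_rc_11_1 lc_c_rc_11_1 lc_c_rc_24_2 lc_c_rc_11_1 lc_c_rc_23_0 lc_c_rc_13_2 lc_c_rc_23_0 lc_c_rc_7_3 lc_c_rc_22_3 lc_c_rc_13_2 lc_c_rc_14_2 lc_c_rc_14_2 lc_c_rc_22_3 lc_c_rc_23_5 lc_c_rc_11_1 lc_c_rc_7_3 lc_c_rc_11_1 lc_c_rc_26_10 lc_c_rc_26_4 lc_c_rc_11_1 lc_c_rc_13_2 lc_c_rc_22_3) (@D3.rec (fun _ => (Cert rels S Gen.c)) lc_c_rc_24_6 lc_c_rc_23_0 lc_c_rc_26_2 lc_c_rc_14_2 lc_c_rc_22_5 lc_c_rc_22_3 lc_c_rc_24_4 lc_c_rc_13_2 lc_c_rc_11_1 lc_c_rc_14_2 lc_c_rc_11_1 lc_c_rc_13_2 lc_c_rc_11_1 lc_c_rc_11_1 lc_c_rc_24_6 lc_c_rc_11_1 lc_c_rc_13_2 lc_c_rc_14_2 lc_c_rc_7_5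 lc_c_rc_11_1 lc_c_rc_11_1 lc_c_rc_13_2 lc_c_rc_22_5 lc_c_rc_13_2 lc_c_rc_26_10 lc_c_rc_2_3 lc_c_rc_14_2 lc_c_rc_11_1 lc_c_rc_11_1 lc_c_Cert_tree lc_c_rc_11_1 lc_c_rc_11_1 lc_c_rc_23_5 lc_c_rc_26_4 lc_c_rc_12_2 lc_c_rc_13_2 lc_c_rc_7_5 lc_c_rc_22_9 lc_c_rc_22_7 lc_c_rc_26_4 lc_c_rc_26_4 lc_c_rc_23_5 lc_c_rc_22_7 lc_c_rc_25_1 lc_c_rc_11_1 lc_c_rc_14_2 lc_c_rc_26_2 lc_c_rc_13_0 lc_c_rc_13_2 lc_c_rc_11_1 lc_c_rc_22_7 lc_c_rc_13_0 lc_c_rc_26_10 lc_c_rc_26_8 lc_c_rc_7_3 lc_c_rc_13_2 lc_c_rc_26_10 lc_c_rc_7_1 lc_c_rc_2_1 lc_c_rc_11_1 lc_c_rc_26_4 lc_c_rc_26_10) (@D3.rec (fun _ => (Cert rels S Gen.c)) lc_c_rc_24_2 lc_c_rc_26_10 lc_c_rc_11_1 lc_c_rc_11_1 lc_c_rc_26_10 lc_c_rc_2_1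 lc_c_rc_13_2 lc_c_rc_26_10 lc_c_rc_24_6 lc_c_rc_26_8 lc_c_rc_13_0 lc_c_rc_13_0 lc_c_rc_24_2 lc_c_rc_7_5 lc_c_rc_26_8 lc_c_rc_7_3 lc_c_rc_13_0 lc_c_rc_14_2 lc_c_rc_13_2 lc_c_rc_26_10 lc_c_rc_26_4 lc_c_rc_23_0 lc_c_rc_14_0 lc_c_rc_13_2 lc_c_rc_11_1 lc_c_rc_24_4 lc_c_rc_22_3 lc_c_rc_24_8 lc_c_rc_14_2 lc_c_rc_13_2 lc_c_rc_7_5 lc_c_rc_11_1 lc_c_rc_13_0 lc_c_rc_11_1 lc_c_rc_23_5 lc_c_rc_13_0 lc_c_rc_11_1 lc_c_rc_23_5 lc_c_rc_13_2 lc_c_rc_13_2 lc_c_rc_11_1 lc_c_rc_13_2 lc_c_rc_14_2 lc_c_rc_13_0 lc_c_rc_26_10 lc_c_rc_23_0 lc_c_rc_11_1 lc_c_rc_11_1 lc_c_rc_7_1 lc_c_rc_14_2 lc_c_rc_23_5 lc_c_rc_2_1 lc_c_rc_26_4 lc_c_rc_22_3 lc_c_rc_11_1 lc_c_rc_11_1 lc_c_rc_22_9 lc_c_rc_11_1 lc_c_rc_23_0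 lc_c_rc_26_4 lc_c_rc_11_1 lc_c_rc_11_1) (@D3.rec (fun _ => (Cert rels S Gen.c)) lc_c_rc_22_3 lc_c_rc_13_2 lc_c_rc_14_0 lc_c_rc_22_9 lc_c_rc_23_5 lc_c_rc_24_4 lc_c_rc_11_1 lc_c_rc_7_5 lc_c_rc_11_1 lc_c_rc_2_1 lc_c_rc_11_1 lc_c_rc_26_8 lc_c_rc_11_1 lc_c_rc_11_1 lc_c_rc_23_0 lc_c_rc_24_6 lc_c_rc_11_1 lc_c_rc_13_0 lc_c_rc_11_1 lc_c_rc_11_1 lc_c_rc_11_1 lc_c_rc_22_7 lc_c_rc_14_2 lc_c_rc_22_7 lc_c_rc_11_1 lc_c_rc_23_0 lc_c_rc_13_2 lc_c_rc_2_3 lc_c_rc_22_9 lc_c_rc_26_10 lc_c_Cert_tree lc_c_rc_24_4 lc_c_rc_23_0 lc_c_rc_24_4 lc_c_rc_7_5 lc_c_rc_13_2 lc_c_rc_11_1 lc_c_rc_11_1 lc_c_rc_13_2 lc_c_rc_25_1 lc_c_rc_11_1 lc_c_rc_13_2 lc_c_rc_22_3 lc_c_rc_22_3 lc_c_rc_11_1 lc_c_rc_13_2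 lc_c_rc_13_2 lc_c_rc_14_2 lc_c_rc_2_3 lc_c_rc_14_0 lc_c_rc_23_5 lc_c_rc_11_1 lc_c_rc_26_10 lc_c_rc_26_8 lc_c_rc_22_5 lc_c_rc_7_5 lc_c_rc_13_2 lc_c_rc_14_2 lc_c_rc_2_1 lc_c_rc_23_5 lc_c_rc_26_10 lc_c_rc_11_1) (@D3.rec (fun _ => (Cert rels S Gen.c)) lc_c_rc_11_1 lc_c_rc_11_1 lc_c_rc_23_0 lc_c_rc_24_4 lc_c_rc_22_3 lc_c_rc_11_1 lc_c_rc_13_2 lc_c_rc_13_2 lc_c_rc_11_1 lc_c_Cert_tree lc_c_rc_25_1 lc_c_rc_13_2 lc_c_rc_26_4 lc_c_rc_13_2 lc_c_rc_13_2 lc_c_rc_14_2 lc_c_rc_26_4 lc_c_rc_11_1 lc_c_rc_14_2 lc_c_rc_11_1 lc_c_rc_26_4 lc_c_rc_22_3 lc_c_rc_13_2 lc_c_rc_23_0 lc_c_rc_7_5 lc_c_rc_25_17 lc_c_rc_26_2 lc_c_rc_11_1 lc_c_rc_7_3 lc_c_rc_14_0 lc_c_rc_11_1 lc_c_rc_11_1 lc_c_rc_11_1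 lc_c_rc_13_2 lc_c_rc_2_3 lc_c_rc_11_1 lc_c_rc_24_4 lc_c_rc_7_1 lc_c_rc_11_1 lc_c_rc_14_2 lc_c_rc_26_2 lc_c_rc_25_9 lc_c_rc_14_2 lc_c_rc_11_1 lc_c_rc_23_5 lc_c_rc_24_2 lc_c_rc_13_0 lc_c_rc_13_2 lc_c_rc_26_4 lc_c_rc_22_7 lc_c_rc_14_2 lc_c_rc_13_2 lc_c_rc_11_1 lc_c_rc_23_0 lc_c_rc_22_5 lc_c_rc_11_1 lc_c_rc_24_6 lc_c_rc_22_7 lc_c_rc_22_5 lc_c_rc_11_1 lc_c_rc_22_5 lc_c_rc_13_2) (@D3.rec (fun _ => (Cert rels S Gen.c)) lc_c_rc_7_3 lc_c_rc_11_1 lc_c_rc_11_1 lc_c_rc_11_1 lc_c_rc_7_5 lc_c_rc_11_1 lc_c_rc_14_2 lc_c_rc_7_3 lc_c_rc_11_1 lc_c_rc_22_7 lc_c_rc_11_1 lc_c_rc_26_2 lc_c_rc_26_8 lc_c_rc_25_5 lc_c_rc_26_4 lc_c_rc_11_1 lc_c_rc_2_1 lc_c_rc_13_2 lc_c_rc_11_1 lc_c_rc_13_2 lc_c_rc_13_0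 lc_c_rc_11_1 lc_c_rc_14_2 lc_c_rc_14_2 lc_c_rc_7_3 lc_c_rc_11_1 lc_c_rc_11_1 lc_c_rc_22_7 lc_c_rc_7_5 lc_c_rc_13_2 lc_c_rc_26_2 lc_c_rc_26_2 lc_c_rc_7_3 lc_c_rc_26_10 lc_c_rc_11_1 lc_c_rc_7_1 lc_c_rc_13_2 lc_c_rc_13_0 lc_c_rc_11_1 lc_c_rc_26_10 lc_c_rc_11_1 lc_c_rc_26_2 lc_c_rc_7_5 lc_c_rc_24_2 lc_c_rc_13_2 lc_c_rc_24_2 lc_c_rc_13_2 lc_c_rc_14_2 lc_c_rc_2_1 lc_c_rc_13_2 lc_c_rc_22_3 lc_c_rc_11_1 lc_c_rc_22_7 lc_c_rc_7_3 lc_c_rc_11_1 lc_c_rc_12_2 lc_c_rc_13_2 lc_c_rc_13_2 lc_c_rc_26_10 lc_c_rc_26_2 lc_c_rc_11_1 lc_c_rc_26_2) (@D3.rec (fun _ => (Cert rels S Gen.c)) lc_c_rc_13_2 lc_c_rc_23_5 lc_c_rc_26_10 lc_c_rc_13_2 lc_c_rc_7_3 lc_c_rc_25_17 lc_c_rc_7_3 lc_c_rc_7_5 lc_c_rc_7_3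 lc_c_rc_2_3 lc_c_rc_13_2 lc_c_rc_7_5 lc_c_rc_13_0 lc_c_rc_7_3 lc_c_rc_14_2 lc_c_rc_13_2 lc_c_rc_24_2 lc_c_rc_11_1 lc_c_rc_24_2 lc_c_rc_13_2 lc_c_rc_7_3 lc_c_rc_26_2 lc_c_rc_13_2 lc_c_rc_26_2 lc_c_rc_24_4 lc_c_rc_23_0 lc_c_rc_13_2 lc_c_rc_2_3 lc_c_rc_2_3 lc_c_rc_14_2 lc_c_rc_26_10 lc_c_rc_2_3 lc_c_rc_25_13 lc_c_rc_22_7 lc_c_rc_11_1 lc_c_rc_25_1 lc_c_rc_13_2 lc_c_rc_11_1 lc_c_rc_14_2 lc_c_rc_13_2 lc_c_rc_11_1 lc_c_rc_22_5 lc_c_rc_13_2 lc_c_rc_23_5 lc_c_rc_12_0 lc_c_rc_14_2 lc_c_rc_26_2 lc_c_rc_2_3 lc_c_rc_26_4 lc_c_rc_24_2 lc_c_rc_26_4 lc_c_rc_11_1 lc_c_rc_11_1 lc_c_rc_7_1 lc_c_rc_26_4 lc_c_rc_13_0 lc_c_rc_24_2 lc_c_rc_25_9 lc_c_rc_26_2 lc_c_rc_13_0 lc_c_rc_11_1 lc_c_rc_25_13)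 (@D3.rec (fun _ => (Cert rels S Gen.c)) lc_c_rc_11_1 lc_c_rc_22_7 lc_c_rc_11_1 lc_c_rc_22_5 lc_c_rc_11_1 lc_c_rc_13_2 lc_c_rc_11_1 lc_c_rc_13_2 lc_c_rc_26_10 lc_c_rc_11_1 lc_c_rc_13_2 lc_c_rc_23_0 lc_c_rc_23_0 lc_c_rc_23_0 lc_c_rc_14_2 lc_c_rc_13_2 lc_c_rc_26_4 lc_c_rc_23_5 lc_c_rc_13_2 lc_c_rc_22_9 lc_c_rc_7_5 lc_c_rc_11_1 lc_c_rc_11_1 lc_c_rc_11_1 lc_c_rc_24_6 lc_c_rc_11_1 lc_c_rc_23_0 lc_c_rc_23_5 lc_c_rc_13_2 lc_c_rc_13_0 lc_c_rc_22_9 lc_c_rc_13_2 lc_c_rc_26_10 lc_c_rc_22_3 lc_c_rc_14_2 lc_c_rc_7_5 lc_c_rc_13_2 lc_c_rc_24_4 lc_c_rc_7_3 lc_c_rc_12_0 lc_c_rc_7_5 lc_c_rc_7_5 lc_c_rc_7_5 lc_c_rc_22_5 lc_c_rc_24_8 lc_c_rc_13_0 lc_c_rc_23_5 lc_c_rc_24_4 lc_c_rc_11_1 lc_c_rc_13_2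 lc_c_rc_12_0 lc_c_rc_13_2 lc_c_rc_11_1 lc_c_rc_14_2 lc_c_rc_13_2 lc_c_rc_13_2 lc_c_rc_26_2 lc_c_rc_13_2 lc_c_rc_22_5 lc_c_rc_13_2 lc_c_rc_24_2 lc_c_rc_24_2) (@D3.rec (fun _ => (Cert rels S Gen.c)) lc_c_rc_26_2 lc_c_rc_23_5 lc_c_rc_22_5 lc_c_rc_22_5 lc_c_rc_11_1 lc_c_rc_13_2 lc_c_rc_23_5 lc_c_rc_24_8 lc_c_rc_13_2 lc_c_rc_23_5 lc_c_rc_26_4 lc_c_rc_14_2 lc_c_rc_22_3 lc_c_rc_11_1 lc_c_rc_24_8 lc_c_rc_22_9 lc_c_rc_13_2 lc_c_rc_23_0 lc_c_rc_22_5 lc_c_rc_24_6 lc_c_rc_11_1 lc_c_rc_13_2 lc_c_rc_11_1 lc_c_rc_13_2 lc_c_rc_25_1 lc_c_rc_11_1 lc_c_rc_11_1 lc_c_rc_11_1 lc_c_rc_11_1 lc_c_rc_11_1 lc_c_rc_24_4 lc_c_rc_11_1 lc_c_rc_2_3 lc_c_rc_23_5 lc_c_rc_11_1 lc_c_rc_24_2 lc_c_rc_7_3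 lc_c_rc_11_1 lc_c_rc_24_4 lc_c_rc_11_1 lc_c_rc_7_5 lc_c_rc_14_2 lc_c_rc_23_0 lc_c_rc_11_1 lc_c_rc_22_3 lc_c_rc_13_2 lc_c_rc_7_3 lc_c_rc_13_2 lc_c_rc_11_1 lc_c_rc_11_1 lc_c_rc_11_1 lc_c_rc_7_1 lc_c_rc_13_2 lc_c_rc_11_1 lc_c_rc_14_2 lc_c_rc_11_1 lc_c_rc_11_1 lc_c_rc_23_5 lc_c_rc_11_1 lc_c_rc_22_3 lc_c_rc_11_1 lc_c_rc_12_2) (@D3.rec (fun _ => (Cert rels S Gen.c)) lc_c_rc_11_1 lc_c_rc_22_5 lc_c_rc_23_0 lc_c_rc_2_3 lc_c_rc_22_3 lc_c_rc_24_4 lc_c_rc_22_5 lc_c_rc_2_1 lc_c_rc_14_2 lc_c_rc_11_1 lc_c_rc_2_3 lc_c_rc_7_5 lc_c_rc_11_1 lc_c_rc_2_3 lc_c_rc_11_1 lc_c_rc_11_1 lc_c_rc_11_1 lc_c_rc_11_1 lc_c_rc_24_2 lc_c_rc_7_5 lc_c_rc_11_1 lc_c_rc_11_1 lc_c_rc_7_3 lc_c_rc_13_2 lc_c_rc_26_10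 lc_c_rc_11_1 lc_c_rc_2_3 lc_c_rc_26_4 lc_c_rc_13_2 lc_c_rc_11_1 lc_c_rc_14_2 lc_c_rc_11_1 lc_c_rc_2_1 lc_c_rc_11_1 lc_c_rc_11_1 lc_c_rc_7_3 lc_c_rc_13_2 lc_c_rc_11_1 lc_c_rc_11_1 lc_c_rc_13_2 lc_c_rc_13_2 lc_c_rc_23_0 lc_c_rc_26_10 lc_c_rc_26_10 lc_c_rc_7_5 lc_c_rc_2_1 lc_c_rc_11_1 lc_c_rc_26_8 lc_c_rc_11_1 lc_c_rc_26_4 lc_c_rc_11_1 lc_c_rc_24_2 lc_c_rc_23_0 lc_c_rc_11_1 lc_c_rc_7_5 lc_c_rc_23_5 lc_c_rc_13_2 lc_c_rc_12_14 lc_c_rc_11_1 lc_c_rc_13_0 lc_c_rc_23_5 lc_c_rc_13_2) (@D3.rec (fun _ => (Cert rels S Gen.c)) lc_c_rc_22_9 lc_c_rc_12_0 lc_c_rc_13_2 lc_c_rc_13_2 lc_c_rc_2_3 lc_c_rc_11_1 lc_c_rc_23_5 lc_c_rc_13_2 lc_c_rc_14_2 lc_c_rc_14_2 lc_c_rc_7_3 lc_c_rc_11_1 lc_c_rc_14_2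 lc_c_rc_11_1 lc_c_rc_11_1 lc_c_rc_11_1 lc_c_rc_13_2 lc_c_rc_13_2 lc_c_rc_11_1 lc_c_rc_11_1 lc_c_rc_11_1 lc_c_rc_13_2 lc_c_rc_22_7 lc_c_rc_13_2 lc_c_rc_13_0 lc_c_rc_14_2 lc_c_rc_26_2 lc_c_rc_11_1 lc_c_rc_11_1 lc_c_rc_26_4 lc_c_rc_11_1 lc_c_rc_11_1 lc_c_rc_13_0 lc_c_rc_11_1 lc_c_rc_26_4 lc_c_rc_26_2 lc_c_rc_22_9 lc_c_rc_24_4 lc_c_rc_11_1 lc_c_rc_25_17 lc_c_rc_14_0 lc_c_rc_13_2 lc_c_rc_11_1 lc_c_rc_13_2 lc_c_rc_11_1 lc_c_rc_14_2 lc_c_rc_11_1 lc_c_rc_7_5 lc_c_rc_13_2 lc_c_rc_14_0 lc_c_rc_23_5 lc_c_rc_7_3 lc_c_rc_7_3 lc_c_rc_11_1 lc_c_rc_14_2 lc_c_rc_2_3 lc_c_rc_26_2 lc_c_rc_14_2 lc_c_rc_13_0 lc_c_rc_13_2 lc_c_rc_22_7 lc_c_rc_14_2) (@D3.rec (fun _ => (Cert rels S Gen.c))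 lc_c_rc_13_0 lc_c_rc_11_1 lc_c_rc_26_8 lc_c_rc_13_2 lc_c_rc_13_2 lc_c_rc_12_2 lc_c_rc_11_1 lc_c_rc_11_1 lc_c_rc_22_5 lc_c_rc_11_1 lc_c_rc_26_2 lc_c_rc_13_2 lc_c_rc_2_1 lc_c_rc_14_2 lc_c_rc_22_3 lc_c_rc_7_3 lc_c_rc_24_4 lc_c_rc_26_4 lc_c_rc_11_1 lc_c_rc_11_1 lc_c_rc_13_2 lc_c_rc_26_8 lc_c_rc_11_1 lc_c_rc_11_1 lc_c_rc_13_2 lc_c_rc_26_10 lc_c_rc_11_1 lc_c_rc_11_1 lc_c_rc_13_2 lc_c_rc_2_3 lc_c_rc_25_5 lc_c_rc_13_2 lc_c_rc_11_1 lc_c_rc_11_1 lc_c_rc_24_6 lc_c_rc_23_5 lc_c_rc_24_2 lc_c_rc_25_5 lc_c_rc_14_2 lc_c_rc_11_1 lc_c_rc_14_0 lc_c_rc_23_0 lc_c_rc_11_1 lc_c_rc_13_2 lc_c_rc_22_7 lc_c_rc_7_5 lc_c_rc_14_2 lc_c_rc_23_5 lc_c_rc_25_1 lc_c_rc_24_4 lc_c_rc_13_2 lc_c_rc_11_1 lc_c_rc_26_4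 lc_c_rc_11_1 lc_c_rc_13_2 lc_c_rc_26_8 lc_c_rc_11_1 lc_c_rc_11_1 lc_c_rc_11_1 lc_c_rc_14_2 lc_c_rc_11_1 lc_c_rc_26_10) (@D3.rec (fun _ => (Cert rels S Gen.c)) lc_c_rc_14_2 lc_c_rc_13_2 lc_c_rc_13_2 lc_c_rc_11_1 lc_c_rc_23_5 lc_c_rc_23_5 lc_c_rc_22_5 lc_c_rc_11_1 lc_c_rc_11_1 lc_c_rc_13_0 lc_c_rc_11_1 lc_c_rc_12_2 lc_c_rc_24_6 lc_c_rc_11_1 lc_c_rc_7_3 lc_c_rc_24_4 lc_c_rc_7_1 lc_c_rc_13_2 lc_c_rc_26_8 lc_c_rc_11_1 lc_c_rc_2_3 lc_c_rc_22_9 lc_c_rc_13_0 lc_c_rc_25_9 lc_c_rc_11_1 lc_c_rc_26_10 lc_c_rc_13_0 lc_c_rc_14_2 lc_c_rc_2_3 lc_c_rc_14_2 lc_c_rc_24_2 lc_c_rc_22_9 lc_c_rc_26_10 lc_c_rc_11_1 lc_c_rc_7_1 lc_c_rc_11_1 lc_c_rc_11_1 lc_c_rc_13_2 lc_c_rc_26_10 lc_c_rc_23_0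 lc_c_rc_7_3 lc_c_rc_13_2 lc_c_rc_7_5 lc_c_rc_7_3 lc_c_rc_13_2 lc_c_rc_11_1 lc_c_rc_23_0 lc_c_rc_26_4 lc_c_Cert_tree lc_c_rc_24_4 lc_c_rc_2_3 lc_c_rc_11_1 lc_c_rc_14_2 lc_c_rc_13_2 lc_c_rc_13_2 lc_c_rc_24_6 lc_c_rc_2_3 lc_c_rc_24_6 lc_c_rc_11_1 lc_c_rc_23_0 lc_c_rc_7_5 lc_c_rc_22_5) (@D3.rec (fun _ => (Cert rels S Gen.c)) lc_c_rc_25_1 lc_c_rc_13_2 lc_c_rc_22_5 lc_c_rc_13_0 lc_c_rc_11_1 lc_c_rc_14_2 lc_c_rc_24_2 lc_c_rc_13_2 lc_c_rc_26_4 lc_c_rc_13_2 lc_c_rc_26_8 lc_c_rc_23_0 lc_c_rc_13_0 lc_c_rc_11_1 lc_c_rc_26_4 lc_c_rc_11_1 lc_c_rc_26_2 lc_c_rc_13_0 lc_c_rc_26_2 lc_c_rc_25_9 lc_c_rc_26_4 lc_c_rc_11_1 lc_c_rc_22_5 lc_c_rc_24_8 lc_c_rc_13_0 lc_c_rc_11_1 lc_c_rc_25_17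 lc_c_rc_11_1 lc_c_rc_11_1 lc_c_rc_13_2 lc_c_rc_11_1 lc_c_rc_7_5 lc_c_rc_13_0 lc_c_rc_24_4 lc_c_rc_7_5 lc_c_rc_22_7 lc_c_rc_13_2 lc_c_rc_13_2 lc_c_rc_11_1 lc_c_rc_7_5 lc_c_rc_11_1 lc_c_rc_13_2 lc_c_rc_13_2 lc_c_rc_2_1 lc_c_rc_14_2 lc_c_rc_26_8 lc_c_rc_11_1 lc_c_rc_22_7 lc_c_rc_7_5 lc_c_rc_23_0 lc_c_rc_23_5 lc_c_rc_11_1 lc_c_rc_23_5 lc_c_rc_22_3 lc_c_rc_7_5 lc_c_rc_7_5 lc_c_rc_7_5 lc_c_rc_23_0 lc_c_rc_11_1 lc_c_rc_26_8 lc_c_rc_23_0 lc_c_rc_13_0) (@D3.rec (fun _ => (Cert rels S Gen.c)) lc_c_rc_24_6 lc_c_rc_2_3 lc_c_rc_14_2 lc_c_rc_13_2 lc_c_rc_22_7 lc_c_rc_13_2 lc_c_rc_13_2 lc_c_rc_13_2 lc_c_rc_11_1 lc_c_rc_13_0 lc_c_rc_11_1 lc_c_rc_2_3 lc_c_rc_24_6 lc_c_rc_22_3 lc_c_rc_26_4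 lc_c_rc_13_2 lc_c_rc_22_3 lc_c_rc_13_2 lc_c_Cert_tree lc_c_rc_2_1 lc_c_rc_13_2 lc_c_rc_24_4 lc_c_rc_14_0 lc_c_rc_26_10 lc_c_rc_7_5 lc_c_rc_7_5 lc_c_rc_22_9 lc_c_rc_24_2 lc_c_rc_13_0 lc_c_rc_7_5 lc_c_rc_25_17 lc_c_rc_13_2 lc_c_rc_23_5 lc_c_rc_24_6 lc_c_rc_26_10 lc_c_rc_11_1 lc_c_rc_22_5 lc_c_rc_23_5 lc_c_rc_11_1 lc_c_rc_2_1 lc_c_rc_11_1 lc_c_rc_11_1 lc_c_rc_11_1 lc_c_rc_2_3 lc_c_rc_24_2 lc_c_rc_11_1 lc_c_rc_23_5 lc_c_rc_24_4 lc_c_rc_12_0 lc_c_rc_24_2 lc_c_rc_23_5 lc_c_rc_22_5 lc_c_rc_13_0 lc_c_rc_23_0 lc_c_rc_26_10 lc_c_rc_11_1 lc_c_rc_7_5 lc_c_rc_13_2 lc_c_rc_26_4 lc_c_rc_25_9 lc_c_rc_13_2 lc_c_rc_7_1) (@D3.rec (fun _ => (Cert rels S Gen.c)) lc_c_rc_13_2 lc_c_rc_26_4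 lc_c_rc_11_1 lc_c_rc_22_5 lc_c_rc_24_6 lc_c_rc_7_5 lc_c_rc_13_2 lc_c_rc_24_8 lc_c_rc_13_0 lc_c_rc_13_0 lc_c_rc_26_4 lc_c_rc_13_0 lc_c_rc_26_10 lc_c_rc_11_1 lc_c_rc_14_2 lc_c_rc_26_8 lc_c_rc_23_5 lc_c_rc_11_1 lc_c_rc_7_5 lc_c_rc_22_5 lc_c_rc_11_1 lc_c_rc_11_1 lc_c_rc_26_2 lc_c_rc_13_2 lc_c_rc_14_2 lc_c_rc_11_1 lc_c_rc_22_3 lc_c_rc_25_17 lc_c_rc_13_2 lc_c_rc_13_2 lc_c_rc_13_2 lc_c_rc_13_2 lc_c_rc_7_5 lc_c_rc_13_2 lc_c_rc_13_2 lc_c_rc_2_3 lc_c_rc_13_2 lc_c_rc_22_7 lc_c_rc_14_0 lc_c_rc_26_4 lc_c_rc_12_0 lc_c_rc_26_4 lc_c_rc_24_8 lc_c_rc_14_2 lc_c_rc_13_2 lc_c_rc_13_2 lc_c_rc_22_9 lc_c_rc_26_8 lc_c_rc_11_1 lc_c_rc_24_4 lc_c_rc_26_8 lc_c_rc_23_5 lc_c_rc_22_5 lc_c_rc_22_3 lc_c_rc_25_1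 lc_c_rc_7_5 lc_c_rc_2_3 lc_c_rc_11_1 lc_c_rc_7_3 lc_c_rc_7_3 lc_c_rc_13_2 lc_c_rc_22_5) (@D3.rec (fun _ => (Cert rels S Gen.c)) lc_c_rc_13_2 lc_c_rc_13_2 lc_c_rc_11_1 lc_c_rc_26_2 lc_c_rc_22_9 lc_c_rc_11_1 lc_c_rc_13_2 lc_c_rc_23_0 lc_c_rc_13_2 lc_c_rc_11_1 lc_c_rc_22_3 lc_c_rc_11_1 lc_c_rc_23_0 lc_c_rc_11_1 lc_c_rc_11_1 lc_c_rc_26_2 lc_c_rc_22_7 lc_c_rc_22_9 lc_c_rc_11_1 lc_c_rc_11_1 lc_c_rc_2_3 lc_c_rc_26_2 lc_c_rc_11_1 lc_c_rc_22_3 lc_c_rc_23_0 lc_c_rc_13_2 lc_c_rc_24_4 lc_c_rc_13_2 lc_c_rc_13_2 lc_c_rc_13_2 lc_c_rc_7_5 lc_c_rc_2_3 lc_c_rc_7_5 lc_c_rc_23_5 lc_c_rc_14_2 lc_c_rc_7_5 lc_c_rc_26_2 lc_c_rc_14_2 lc_c_rc_11_1 lc_c_rc_14_2 lc_c_rc_14_2 lc_c_rc_13_2 lc_c_rc_11_1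 lc_c_rc_11_1 lc_c_rc_25_17 lc_c_rc_7_5 lc_c_rc_14_2 lc_c_rc_7_3 lc_c_rc_14_2 lc_c_rc_11_1 lc_c_rc_13_2 lc_c_rc_13_2 lc_c_rc_13_2 lc_c_rc_13_2 lc_c_rc_24_8 lc_c_rc_13_2 lc_c_rc_22_3 lc_c_rc_23_0 lc_c_rc_7_5 lc_c_rc_13_0 lc_c_rc_11_1 lc_c_rc_24_4) (@D3.rec (fun _ => (Cert rels S Gen.c)) lc_c_rc_14_2 lc_c_rc_23_0 lc_c_rc_13_2 lc_c_rc_13_2 lc_c_rc_11_1 lc_c_rc_13_2 lc_c_rc_2_1 lc_c_rc_24_2 lc_c_rc_26_4 lc_c_rc_24_4 lc_c_rc_7_5 lc_c_rc_11_1 lc_c_rc_13_2 lc_c_rc_13_0 lc_c_Cert_tree lc_c_rc_2_3 lc_c_rc_11_1 lc_c_rc_13_2 lc_c_rc_24_6 lc_c_rc_13_2 lc_c_rc_13_2 lc_c_rc_7_3 lc_c_rc_11_1 lc_c_rc_7_1 lc_c_rc_26_10 lc_c_rc_23_0 lc_c_rc_26_8 lc_c_rc_7_5 lc_c_rc_22_5 lc_c_rc_11_1 lc_c_rc_22_9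 lc_c_rc_22_5 lc_c_rc_7_5 lc_c_rc_11_1 lc_c_rc_11_1 lc_c_rc_22_3 lc_c_rc_11_1 lc_c_rc_26_8 lc_c_rc_23_5 lc_c_rc_13_2 lc_c_rc_25_5 lc_c_rc_7_5 lc_c_rc_24_2 lc_c_rc_11_1 lc_c_rc_14_2 lc_c_rc_13_0 lc_c_rc_7_1 lc_c_rc_13_2 lc_c_rc_13_2 lc_c_rc_7_3 lc_c_rc_11_1 lc_c_rc_13_2 lc_c_rc_11_1 lc_c_rc_14_2 lc_c_rc_13_2 lc_c_rc_7_5 lc_c_rc_2_1 lc_c_rc_26_8 lc_c_rc_22_3 lc_c_rc_14_0 lc_c_rc_24_4 lc_c_rc_26_2) (@D3.rec (fun _ => (Cert rels S Gen.c)) lc_c_rc_11_1 lc_c_rc_11_1 lc_c_rc_12_2 lc_c_rc_11_1 lc_c_rc_7_3 lc_c_rc_13_2 lc_c_rc_11_1 lc_c_rc_22_7 lc_c_rc_22_3 lc_c_rc_11_1 lc_c_rc_25_9 lc_c_rc_7_3 lc_c_Cert_tree lc_c_rc_24_4 lc_c_rc_11_1 lc_c_rc_11_1 lc_c_rc_7_1 lc_c_rc_13_2 lc_c_rc_26_8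 lc_c_rc_12_2 lc_c_rc_26_4 lc_c_rc_25_5 lc_c_rc_7_3 lc_c_rc_24_8 lc_c_rc_14_2 lc_c_rc_13_2 lc_c_rc_11_1 lc_c_rc_14_2 lc_c_rc_13_2 lc_c_rc_23_5 lc_c_rc_13_2 lc_c_rc_13_2 lc_c_rc_7_5 lc_c_rc_22_7 lc_c_rc_7_5 lc_c_rc_11_1 lc_c_rc_11_1 lc_c_rc_13_2 lc_c_rc_22_3 lc_c_rc_13_2 lc_c_rc_11_1 lc_c_rc_22_9 lc_c_rc_7_5 lc_c_rc_12_14 lc_c_rc_11_1 lc_c_rc_7_5 lc_c_rc_22_9 lc_c_rc_14_2 lc_c_rc_26_4 lc_c_rc_26_4 lc_c_rc_14_2 lc_c_rc_25_13 lc_c_rc_23_5 lc_c_rc_24_4 lc_c_rc_22_3 lc_c_rc_26_4 lc_c_rc_13_2 lc_c_rc_13_2 lc_c_rc_23_0 lc_c_rc_13_2 lc_c_rc_7_5 lc_c_rc_13_2) (@D3.rec (fun _ => (Cert rels S Gen.c)) lc_c_rc_23_5 lc_c_rc_22_9 lc_c_rc_24_4 lc_c_rc_24_4 lc_c_rc_11_1 lc_c_rc_14_2 lc_c_rc_11_1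 lc_c_rc_13_0 lc_c_rc_11_1 lc_c_rc_7_5 lc_c_rc_26_4 lc_c_rc_7_3 lc_c_rc_14_0 lc_c_rc_23_0 lc_c_rc_26_2 lc_c_rc_22_5 lc_c_rc_22_5 lc_c_rc_24_4 lc_c_rc_11_1 lc_c_rc_13_0 lc_c_rc_13_2 lc_c_rc_24_6 lc_c_rc_26_8 lc_c_rc_14_0 lc_c_rc_26_10 lc_c_rc_13_0 lc_c_rc_11_1 lc_c_rc_2_1 lc_c_rc_26_8 lc_c_rc_24_6 lc_c_rc_26_4 lc_c_rc_23_5 lc_c_rc_11_1 lc_c_rc_13_2 lc_c_rc_26_4 lc_c_rc_13_2 lc_c_rc_24_2 lc_c_rc_24_2 lc_c_rc_11_1 lc_c_rc_13_2 lc_c_rc_11_1 lc_c_rc_26_2 lc_c_rc_13_2 lc_c_rc_11_1 lc_c_rc_2_3 lc_c_rc_11_1 lc_c_rc_26_10 lc_c_rc_11_1 lc_c_rc_25_9 lc_c_rc_13_2 lc_c_rc_13_2 lc_c_rc_23_0 lc_c_rc_7_3 lc_c_rc_13_2 lc_c_rc_13_2 lc_c_rc_7_5 lc_c_rc_25_17 lc_c_rc_7_5 lc_c_rc_11_1 lc_c_rc_23_0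 lc_c_rc_13_2 lc_c_rc_13_2) (@D3.rec (fun _ => (Cert rels S Gen.c)) lc_c_rc_26_10 lc_c_rc_13_2 lc_c_rc_7_5 lc_c_rc_11_1 lc_c_rc_7_5 lc_c_rc_26_8 lc_c_rc_11_1 lc_c_rc_14_2 lc_c_rc_2_3 lc_c_rc_23_5 lc_c_rc_22_3 lc_c_rc_13_0 lc_c_rc_14_2 lc_c_rc_11_1 lc_c_rc_11_1 lc_c_rc_26_8 lc_c_rc_23_0 lc_c_rc_25_17 lc_c_rc_7_3 lc_c_rc_22_5 lc_c_rc_7_1 lc_c_rc_11_1 lc_c_rc_13_2 lc_c_rc_11_1 lc_c_rc_2_3 lc_c_rc_24_4 lc_c_rc_22_9 lc_c_rc_26_2 lc_c_rc_11_1 lc_c_rc_13_2 lc_c_rc_26_4 lc_c_rc_13_2 lc_c_rc_11_1 lc_c_rc_11_1 lc_c_rc_2_3 lc_c_rc_14_0 lc_c_rc_13_2 lc_c_rc_26_4 lc_c_rc_14_2 lc_c_rc_24_4 lc_c_rc_13_2 lc_c_rc_13_2 lc_c_rc_7_5 lc_c_rc_2_3 lc_c_rc_13_0 lc_c_rc_26_2 lc_c_rc_26_10 lc_c_rc_11_1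 lc_c_rc_22_7 lc_c_rc_14_0 lc_c_rc_11_1 lc_c_rc_13_2 lc_c_rc_26_4 lc_c_rc_26_2 lc_c_rc_24_6 lc_c_rc_7_5 lc_c_rc_12_2 lc_c_rc_7_1 lc_c_rc_22_5 lc_c_rc_24_4 lc_c_rc_23_0 lc_c_rc_11_1) (@D3.rec (fun _ => (Cert rels S Gen.c)) lc_c_rc_13_2 lc_c_rc_11_1 lc_c_rc_26_2 lc_c_rc_11_1 lc_c_rc_14_0 lc_c_Cert_tree lc_c_rc_24_2 lc_c_rc_23_0 lc_c_rc_7_5 lc_c_rc_11_1 lc_c_rc_2_3 lc_c_rc_11_1 lc_c_rc_11_1 lc_c_rc_25_17 lc_c_rc_11_1 lc_c_rc_12_14 lc_c_rc_13_0 lc_c_rc_7_1 lc_c_rc_13_2 lc_c_rc_7_3 lc_c_rc_14_2 lc_c_rc_11_1 lc_c_rc_26_4 lc_c_rc_11_1 lc_c_rc_11_1 lc_c_rc_24_8 lc_c_rc_23_0 lc_c_rc_23_5 lc_c_rc_11_1 lc_c_rc_22_3 lc_c_rc_11_1 lc_c_rc_11_1 lc_c_rc_11_1 lc_c_rc_7_3 lc_c_rc_7_5 lc_c_rc_13_2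 lc_c_rc_14_2 lc_c_rc_26_4 lc_c_rc_11_1 lc_c_rc_13_0 lc_c_rc_24_2 lc_c_rc_11_1 lc_c_rc_7_5 lc_c_rc_7_3 lc_c_rc_11_1 lc_c_rc_26_2 lc_c_rc_12_0 lc_c_rc_13_2 lc_c_rc_24_4 lc_c_rc_22_3 lc_c_rc_26_2 lc_c_rc_26_2 lc_c_rc_7_3 lc_c_rc_13_2 lc_c_rc_7_5 lc_c_rc_13_2 lc_c_rc_25_1 lc_c_rc_11_1 lc_c_rc_11_1 lc_c_rc_26_4 lc_c_rc_12_2 lc_c_rc_14_2) (@D3.rec (fun _ => (Cert rels S Gen.c)) lc_c_rc_24_6 lc_c_rc_13_2 lc_c_rc_22_5 lc_c_rc_13_2 lc_c_rc_24_6 lc_c_rc_11_1 lc_c_rc_11_1 lc_c_Cert_tree lc_c_rc_7_5 lc_c_rc_24_6 lc_c_rc_11_1 lc_c_rc_11_1 lc_c_rc_7_5 lc_c_rc_13_2 lc_c_rc_26_4 lc_c_rc_13_2 lc_c_rc_2_3 lc_c_rc_26_4 lc_c_rc_13_2 lc_c_rc_13_2 lc_c_rc_26_2 lc_c_rc_23_0 lc_c_rc_14_2 lc_c_rc_26_4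 lc_c_rc_26_8 lc_c_rc_24_4 lc_c_rc_14_2 lc_c_rc_13_2 lc_c_rc_11_1 lc_c_rc_24_4 lc_c_rc_11_1 lc_c_rc_24_4 lc_c_rc_23_5 lc_c_rc_26_8 lc_c_rc_2_3 lc_c_rc_12_0 lc_c_rc_24_4 lc_c_rc_7_5 lc_c_rc_14_0 lc_c_rc_13_2 lc_c_rc_11_1 lc_c_rc_11_1 lc_c_rc_26_4 lc_c_rc_7_1 lc_c_rc_11_1 lc_c_rc_7_5 lc_c_rc_13_0 lc_c_rc_11_1 lc_c_rc_7_3 lc_c_rc_11_1 lc_c_rc_24_4 lc_c_rc_11_1 lc_c_rc_23_5 lc_c_rc_2_1 lc_c_rc_13_2 lc_c_rc_14_0 lc_c_rc_13_2 lc_c_rc_22_5 lc_c_rc_24_6 lc_c_Cert_tree lc_c_rc_26_4 lc_c_Cert_tree) (@D3.rec (fun _ => (Cert rels S Gen.c)) lc_c_Cert_tree lc_c_rc_11_1 lc_c_rc_14_2 lc_c_rc_12_0 lc_c_rc_13_2 lc_c_rc_11_1 lc_c_rc_11_1 lc_c_rc_11_1 lc_c_rc_22_5 lc_c_rc_25_17 lc_c_rc_22_3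 lc_c_rc_22_5 lc_c_rc_13_2 lc_c_rc_11_1 lc_c_rc_13_2 lc_c_rc_26_2 lc_c_rc_22_5 lc_c_rc_26_10 lc_c_rc_23_0 lc_c_rc_24_8 lc_c_rc_11_1 lc_c_rc_24_8 lc_c_rc_23_0 lc_c_rc_11_1 lc_c_rc_11_1 lc_c_rc_7_5 lc_c_rc_24_4 lc_c_rc_14_2 lc_c_rc_11_1 lc_c_rc_7_5 lc_c_rc_14_2 lc_c_rc_25_1 lc_c_rc_7_5 lc_c_rc_7_1 lc_c_rc_24_2 lc_c_rc_11_1 lc_c_rc_22_3 lc_c_rc_14_0 lc_c_rc_13_2 lc_c_rc_11_1 lc_c_rc_23_0 lc_c_rc_13_2 lc_c_rc_24_6 lc_c_rc_24_4 lc_c_rc_13_0 lc_c_rc_13_0 lc_c_rc_22_3 lc_c_rc_11_1 lc_c_rc_26_4 lc_c_rc_2_3 lc_c_rc_26_10 lc_c_rc_14_2 lc_c_rc_13_2 lc_c_rc_13_0 lc_c_rc_22_3 lc_c_rc_7_1 lc_c_rc_11_1 lc_c_rc_7_5 lc_c_rc_22_7 lc_c_rc_25_5 lc_c_rc_11_1 lc_c_rc_23_0) (@D3.rec (fun _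 => (Cert rels S Gen.c)) lc_c_rc_11_1 lc_c_rc_11_1 lc_c_rc_22_3 lc_c_rc_11_1 lc_c_rc_14_2 lc_c_rc_12_8 lc_c_rc_2_3 lc_c_rc_23_5 lc_c_rc_26_10 lc_c_rc_26_2 lc_c_rc_13_2 lc_c_rc_24_2 lc_c_rc_13_0 lc_c_rc_11_1 lc_c_rc_12_14 lc_c_rc_13_2 lc_c_rc_11_1 lc_c_rc_11_1 lc_c_rc_11_1 lc_c_rc_26_10 lc_c_rc_24_2 lc_c_rc_11_1 lc_c_rc_23_0 lc_c_rc_13_0 lc_c_rc_7_1 lc_c_rc_11_1 lc_c_rc_13_2 lc_c_rc_24_8 lc_c_rc_7_3 lc_c_rc_2_3 lc_c_rc_11_1 lc_c_rc_11_1 lc_c_rc_2_3 lc_c_rc_23_5 lc_c_rc_25_5 lc_c_rc_13_2 lc_c_rc_24_2 lc_c_rc_25_17 lc_c_rc_11_1 lc_c_rc_11_1 lc_c_rc_26_2 lc_c_rc_13_2 lc_c_rc_12_14 lc_c_rc_2_3 lc_c_rc_7_3 lc_c_rc_13_2 lc_c_rc_26_4 lc_c_rc_11_1 lc_c_rc_14_2 lc_c_rc_11_1 lc_c_rc_11_1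 lc_c_rc_2_3 lc_c_rc_13_2 lc_c_rc_26_10 lc_c_rc_24_2 lc_c_rc_14_2 lc_c_rc_11_1 lc_c_rc_26_2 lc_c_rc_25_1 lc_c_rc_13_2 lc_c_rc_26_10 lc_c_rc_7_5) (@D3.rec (fun _ => (Cert rels S Gen.c)) lc_c_rc_11_1 lc_c_rc_11_1 lc_c_rc_11_1 lc_c_rc_7_1 lc_c_rc_24_8 lc_c_rc_11_1 lc_c_rc_2_1 lc_c_rc_11_1 lc_c_rc_7_3 lc_c_rc_11_1 lc_c_rc_26_8 lc_c_rc_13_0 lc_c_rc_11_1 lc_c_rc_13_2 lc_c_rc_2_3 lc_c_rc_11_1 lc_c_rc_11_1 lc_c_rc_11_1 lc_c_rc_11_1 lc_c_rc_11_1 lc_c_rc_11_1 lc_c_rc_26_2 lc_c_rc_7_1 lc_c_rc_13_2 lc_c_rc_13_2 lc_c_rc_26_10 lc_c_rc_23_5 lc_c_rc_22_9 lc_c_rc_24_4 lc_c_rc_2_1 lc_c_rc_14_2 lc_c_rc_11_1 lc_c_rc_11_1 lc_c_rc_13_2 lc_c_rc_13_2 lc_c_rc_2_1 lc_c_rc_13_2 lc_c_rc_26_10 lc_c_rc_26_8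 lc_c_rc_13_2 lc_c_rc_26_10 lc_c_rc_26_2 lc_c_rc_7_5 lc_c_rc_13_2 lc_c_rc_26_2 lc_c_rc_26_4 lc_c_rc_13_2 lc_c_rc_24_6 lc_c_rc_14_2 lc_c_rc_24_2 lc_c_rc_11_1 lc_c_rc_13_2 lc_c_rc_2_3 lc_c_rc_11_1 lc_c_rc_13_2 lc_c_rc_7_1 lc_c_rc_26_4 lc_c_rc_11_1 lc_c_rc_13_2 lc_c_rc_23_5 lc_c_rc_23_5 lc_c_rc_26_10)
def ce_c_32 : D2 → D3 → (Cert rels S Gen.c) := @D2.rec (fun _ => D3 → (Cert rels S Gen.c)) (@D3.rec (fun _ => (Cert rels S Gen.c)) lc_c_rc_11_1 lc_c_rc_11_1 lc_c_rc_13_2 lc_c_rc_7_3 lc_c_rc_26_4 lc_c_rc_13_2 lc_c_rc_12_2 lc_c_rc_14_2 lc_c_rc_26_4 lc_c_rc_26_2 lc_c_rc_26_2 lc_c_rc_7_5 lc_c_rc_13_0 lc_c_rc_11_1 lc_c_rc_26_4 lc_c_rc_26_8 lc_c_rc_14_2 lc_c_rc_13_2 lc_c_rc_11_1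 lc_c_rc_7_3 lc_c_rc_26_4 lc_c_rc_26_10 lc_c_rc_23_0 lc_c_rc_11_1 lc_c_rc_25_5 lc_c_rc_11_1 lc_c_rc_13_2 lc_c_rc_11_1 lc_c_rc_25_1 lc_c_rc_24_8 lc_c_rc_11_1 lc_c_rc_13_2 lc_c_rc_26_4 lc_c_rc_23_5 lc_c_rc_11_1 lc_c_rc_11_1 lc_c_rc_11_1 lc_c_rc_13_2 lc_c_rc_7_5 lc_c_rc_13_2 lc_c_rc_23_0 lc_c_rc_13_0 lc_c_rc_13_2 lc_c_rc_13_2 lc_c_rc_7_5 lc_c_rc_13_0 lc_c_rc_13_2 lc_c_rc_14_0 lc_c_rc_11_1 lc_c_rc_11_1 lc_c_rc_11_1 lc_c_rc_11_1 lc_c_rc_11_1 lc_c_rc_11_1 lc_c_rc_11_1 lc_c_rc_11_1 lc_c_rc_26_10 lc_c_rc_13_2 lc_c_rc_14_0 lc_c_rc_11_1 lc_c_rc_13_2 lc_c_rc_13_2) (@D3.rec (fun _ => (Cert rels S Gen.c)) lc_c_rc_11_1 lc_c_rc_23_0 lc_c_rc_2_3 lc_c_rc_13_2 lc_c_rc_13_2 lc_c_rc_11_1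 lc_c_rc_13_2 lc_c_rc_14_2 lc_c_rc_26_2 lc_c_rc_11_1 lc_c_rc_26_4 lc_c_rc_11_1 lc_c_rc_26_8 lc_c_rc_11_1 lc_c_rc_22_7 lc_c_rc_14_2 lc_c_rc_24_6 lc_c_rc_25_1 lc_c_rc_26_4 lc_c_rc_11_1 lc_c_rc_2_3 lc_c_rc_13_2 lc_c_rc_23_5 lc_c_rc_26_4 lc_c_rc_2_3 lc_c_rc_22_3 lc_c_rc_22_9 lc_c_rc_22_3 lc_c_rc_7_5 lc_c_rc_13_0 lc_c_rc_14_2 lc_c_rc_7_3 lc_c_rc_11_1 lc_c_rc_24_4 lc_c_rc_14_2 lc_c_rc_13_2 lc_c_rc_2_3 lc_c_rc_22_3 lc_c_rc_13_2 lc_c_Cert_tree lc_c_rc_11_1 lc_c_rc_23_0 lc_c_rc_14_2 lc_c_rc_23_0 lc_c_rc_23_0 lc_c_rc_22_5 lc_c_rc_22_7 lc_c_rc_7_3 lc_c_rc_11_1 lc_c_rc_24_2 lc_c_rc_26_4 lc_c_rc_13_2 lc_c_rc_13_2 lc_c_rc_11_1 lc_c_rc_11_1 lc_c_rc_13_2 lc_c_rc_13_2 lc_c_rc_13_2 lc_c_rc_11_1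 lc_c_rc_23_5 lc_c_rc_13_2 lc_c_rc_24_2) (@D3.rec (fun _ => (Cert rels S Gen.c)) lc_c_rc_23_0 lc_c_rc_24_2 lc_c_rc_26_2 lc_c_rc_13_2 lc_c_rc_13_2 lc_c_rc_26_4 lc_c_rc_22_5 lc_c_rc_2_1 lc_c_rc_13_2 lc_c_rc_11_1 lc_c_rc_13_2 lc_c_rc_26_2 lc_c_rc_13_2 lc_c_rc_13_0 lc_c_rc_22_5 lc_c_rc_11_1 lc_c_rc_11_1 lc_c_rc_25_1 lc_c_rc_23_0 lc_c_rc_26_4 lc_c_rc_11_1 lc_c_rc_11_1 lc_c_rc_13_0 lc_c_rc_26_2 lc_c_rc_26_2 lc_c_rc_7_1 lc_c_rc_7_5 lc_c_rc_24_6 lc_c_rc_11_1 lc_c_rc_11_1 lc_c_rc_26_2 lc_c_rc_12_0 lc_c_rc_14_2 lc_c_rc_26_2 lc_c_Cert_tree lc_c_rc_11_1 lc_c_rc_7_3 lc_c_rc_11_1 lc_c_rc_13_2 lc_c_rc_11_1 lc_c_rc_13_0 lc_c_rc_11_1 lc_c_rc_24_6 lc_c_rc_14_2 lc_c_rc_11_1 lc_c_rc_11_1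 lc_c_rc_11_1 lc_c_rc_22_3 lc_c_rc_22_3 lc_c_rc_13_2 lc_c_rc_24_4 lc_c_rc_14_2 lc_c_rc_24_2 lc_c_rc_22_7 lc_c_rc_22_3 lc_c_rc_26_2 lc_c_rc_22_5 lc_c_rc_24_2 lc_c_rc_11_1 lc_c_rc_13_2 lc_c_rc_14_2 lc_c_rc_24_6) (@D3.rec (fun _ => (Cert rels S Gen.c)) lc_c_rc_11_1 lc_c_rc_22_5 lc_c_rc_23_5 lc_c_rc_2_1 lc_c_rc_23_0 lc_c_rc_2_1 lc_c_rc_26_8 lc_c_rc_26_4 lc_c_rc_11_1 lc_c_rc_26_4 lc_c_rc_11_1 lc_c_rc_11_1 lc_c_rc_13_2 lc_c_rc_13_2 lc_c_rc_22_3 lc_c_rc_13_2 lc_c_rc_25_1 lc_c_rc_11_1 lc_c_rc_26_2 lc_c_rc_22_3 lc_c_rc_26_2 lc_c_rc_12_2 lc_c_rc_22_5 lc_c_rc_7_1 lc_c_rc_25_1 lc_c_rc_24_4 lc_c_rc_13_2 lc_c_rc_11_1 lc_c_rc_7_3 lc_c_rc_25_1 lc_c_rc_11_1 lc_c_rc_7_5 lc_c_rc_23_5 lc_c_rc_7_3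 lc_c_rc_24_8 lc_c_rc_2_1 lc_c_rc_22_9 lc_c_rc_11_1 lc_c_rc_11_1 lc_c_rc_7_3 lc_c_rc_13_2 lc_c_rc_26_10 lc_c_rc_14_2 lc_c_rc_23_5 lc_c_rc_24_8 lc_c_rc_22_5 lc_c_rc_26_4 lc_c_rc_11_1 lc_c_rc_13_2 lc_c_rc_24_4 lc_c_rc_2_3 lc_c_rc_26_2 lc_c_rc_11_1 lc_c_rc_11_1 lc_c_rc_22_5 lc_c_rc_11_1 lc_c_rc_11_1 lc_c_rc_11_1 lc_c_rc_26_4 lc_c_rc_26_10 lc_c_rc_13_2 lc_c_rc_11_1) (@D3.rec (fun _ => (Cert rels S Gen.c)) lc_c_rc_13_2 lc_c_rc_11_1 lc_c_rc_24_4 lc_c_rc_22_7 lc_c_rc_14_2 lc_c_rc_24_4 lc_c_rc_23_0 lc_c_rc_14_2 lc_c_rc_24_6 lc_c_rc_11_1 lc_c_rc_11_1 lc_c_rc_24_6 lc_c_rc_11_1 lc_c_rc_11_1 lc_c_rc_11_1 lc_c_rc_22_3 lc_c_rc_7_5 lc_c_rc_23_5 lc_c_rc_13_2 lc_c_rc_13_0 lc_c_rc_26_8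 lc_c_rc_11_1 lc_c_rc_13_2 lc_c_rc_13_2 lc_c_rc_13_0 lc_c_rc_13_0 lc_c_rc_14_2 lc_c_rc_22_9 lc_c_rc_26_2 lc_c_rc_2_3 lc_c_rc_23_5 lc_c_rc_26_2 lc_c_rc_7_3 lc_c_rc_25_5 lc_c_rc_23_0 lc_c_rc_14_0 lc_c_rc_14_0 lc_c_rc_26_2 lc_c_rc_22_3 lc_c_rc_23_5 lc_c_rc_23_5 lc_c_rc_2_1 lc_c_rc_13_0 lc_c_rc_13_2 lc_c_rc_13_2 lc_c_rc_7_3 lc_c_rc_25_17 lc_c_rc_22_7 lc_c_rc_14_2 lc_c_rc_24_6 lc_c_rc_11_1 lc_c_rc_2_3 lc_c_rc_7_5 lc_c_rc_23_5 lc_c_Cert_tree lc_c_rc_11_1 lc_c_rc_13_2 lc_c_rc_26_2 lc_c_rc_26_8 lc_c_rc_24_2 lc_c_rc_22_3 lc_c_rc_11_1) (@D3.rec (fun _ => (Cert rels S Gen.c)) lc_c_rc_13_0 lc_c_rc_26_2 lc_c_rc_13_2 lc_c_rc_13_2 lc_c_rc_2_1 lc_c_rc_24_6 lc_c_rc_14_2 lc_c_rc_13_2 lc_c_rc_22_7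 lc_c_rc_7_3 lc_c_rc_23_0 lc_c_rc_11_1 lc_c_rc_11_1 lc_c_rc_26_2 lc_c_rc_12_14 lc_c_rc_13_2 lc_c_rc_22_7 lc_c_rc_26_10 lc_c_rc_25_9 lc_c_rc_7_5 lc_c_rc_13_0 lc_c_rc_13_2 lc_c_rc_12_2 lc_c_rc_7_5 lc_c_rc_22_3 lc_c_rc_11_1 lc_c_rc_13_2 lc_c_rc_13_2 lc_c_rc_25_17 lc_c_rc_2_1 lc_c_rc_23_0 lc_c_rc_26_8 lc_c_rc_11_1 lc_c_rc_26_4 lc_c_rc_24_8 lc_c_rc_11_1 lc_c_rc_11_1 lc_c_rc_13_0 lc_c_rc_2_3 lc_c_rc_7_5 lc_c_rc_14_2 lc_c_rc_11_1 lc_c_rc_13_2 lc_c_rc_11_1 lc_c_rc_7_3 lc_c_rc_12_2 lc_c_rc_13_2 lc_c_rc_22_3 lc_c_rc_11_1 lc_c_rc_2_3 lc_c_rc_11_1 lc_c_rc_13_2 lc_c_rc_22_3 lc_c_rc_11_1 lc_c_rc_13_2 lc_c_rc_23_5 lc_c_rc_22_9 lc_c_rc_14_2 lc_c_rc_11_1 lc_c_rc_13_0 lc_c_rc_23_0 lc_c_rc_11_1)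 (@D3.rec (fun _ => (Cert rels S Gen.c)) lc_c_rc_14_2 lc_c_rc_11_1 lc_c_rc_13_2 lc_c_rc_13_0 lc_c_rc_11_1 lc_c_rc_11_1 lc_c_rc_11_1 lc_c_rc_24_4 lc_c_rc_14_2 lc_c_rc_13_2 lc_c_rc_13_2 lc_c_rc_13_2 lc_c_rc_13_2 lc_c_rc_14_2 lc_c_rc_22_9 lc_c_rc_13_2 lc_c_rc_23_0 lc_c_rc_26_10 lc_c_rc_7_3 lc_c_rc_11_1 lc_c_rc_26_2 lc_c_rc_11_1 lc_c_rc_14_2 lc_c_rc_11_1 lc_c_rc_24_2 lc_c_rc_23_5 lc_c_rc_12_0 lc_c_rc_11_1 lc_c_rc_13_2 lc_c_rc_13_0 lc_c_rc_22_3 lc_c_rc_7_5 lc_c_rc_11_1 lc_c_rc_22_3 lc_c_rc_13_2 lc_c_rc_2_3 lc_c_rc_26_2 lc_c_rc_13_2 lc_c_rc_24_4 lc_c_rc_25_1 lc_c_rc_7_3 lc_c_rc_14_2 lc_c_rc_11_1 lc_c_rc_13_2 lc_c_rc_22_5 lc_c_rc_11_1 lc_c_rc_24_6 lc_c_rc_22_5 lc_c_rc_14_2 lc_c_rc_11_1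 lc_c_rc_26_2 lc_c_rc_22_3 lc_c_rc_22_3 lc_c_rc_22_3 lc_c_rc_26_8 lc_c_Cert_tree lc_c_rc_26_10 lc_c_rc_11_1 lc_c_rc_13_2 lc_c_rc_2_3 lc_c_rc_11_1 lc_c_rc_22_7) (@D3.rec (fun _ => (Cert rels S Gen.c)) lc_c_rc_22_9 lc_c_rc_26_8 lc_c_rc_11_1 lc_c_rc_11_1 lc_c_rc_13_2 lc_c_rc_13_2 lc_c_rc_25_1 lc_c_rc_13_2 lc_c_rc_13_2 lc_c_rc_13_2 lc_c_rc_7_5 lc_c_rc_22_5 lc_c_rc_11_1 lc_c_rc_22_5 lc_c_rc_22_5 lc_c_rc_13_2 lc_c_rc_13_2 lc_c_rc_11_1 lc_c_rc_11_1 lc_c_rc_11_1 lc_c_rc_14_2 lc_c_rc_7_3 lc_c_rc_13_2 lc_c_rc_13_2 lc_c_rc_13_2 lc_c_rc_11_1 lc_c_rc_12_0 lc_c_rc_13_2 lc_c_rc_13_0 lc_c_rc_2_3 lc_c_rc_22_5 lc_c_rc_11_1 lc_c_rc_13_2 lc_c_rc_22_5 lc_c_rc_26_10 lc_c_rc_22_3 lc_c_rc_13_2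 lc_c_rc_13_2 lc_c_rc_26_4 lc_c_rc_26_2 lc_c_rc_13_0 lc_c_rc_26_4 lc_c_rc_22_3 lc_c_rc_22_5 lc_c_rc_11_1 lc_c_rc_7_3 lc_c_rc_11_1 lc_c_rc_24_6 lc_c_rc_24_4 lc_c_rc_23_0 lc_c_rc_26_2 lc_c_rc_13_2 lc_c_rc_23_0 lc_c_rc_13_0 lc_c_rc_11_1 lc_c_rc_11_1 lc_c_rc_13_2 lc_c_rc_13_2 lc_c_rc_13_2 lc_c_rc_13_2 lc_c_rc_26_8 lc_c_rc_23_5) (@D3.rec (fun _ => (Cert rels S Gen.c)) lc_c_rc_14_2 lc_c_rc_22_5 lc_c_rc_26_4 lc_c_rc_11_1 lc_c_rc_13_2 lc_c_rc_7_3 lc_c_rc_2_1 lc_c_rc_11_1 lc_c_rc_25_5 lc_c_rc_23_5 lc_c_rc_23_5 lc_c_rc_13_0 lc_c_rc_11_1 lc_c_rc_7_3 lc_c_rc_14_2 lc_c_rc_22_5 lc_c_rc_11_1 lc_c_rc_26_2 lc_c_rc_11_1 lc_c_rc_11_1 lc_c_rc_26_4 lc_c_rc_14_2 lc_c_rc_14_2 lc_c_rc_11_1 lc_c_rc_23_0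 lc_c_rc_24_8 lc_c_rc_26_10 lc_c_rc_7_1 lc_c_rc_24_4 lc_c_rc_2_3 lc_c_rc_25_5 lc_c_rc_11_1 lc_c_rc_13_2 lc_c_rc_11_1 lc_c_rc_11_1 lc_c_rc_11_1 lc_c_rc_13_0 lc_c_rc_11_1 lc_c_rc_11_1 lc_c_rc_11_1 lc_c_rc_11_1 lc_c_rc_24_6 lc_c_rc_7_3 lc_c_rc_13_2 lc_c_rc_13_2 lc_c_rc_7_3 lc_c_rc_11_1 lc_c_rc_22_3 lc_c_rc_14_2 lc_c_rc_11_1 lc_c_rc_11_1 lc_c_rc_11_1 lc_c_rc_24_2 lc_c_rc_11_1 lc_c_rc_22_3 lc_c_rc_11_1 lc_c_rc_11_1 lc_c_rc_26_2 lc_c_rc_11_1 lc_c_rc_26_8 lc_c_rc_11_1 lc_c_rc_7_5) (@D3.rec (fun _ => (Cert rels S Gen.c)) lc_c_rc_23_5 lc_c_rc_11_1 lc_c_rc_22_5 lc_c_rc_13_2 lc_c_rc_24_2 lc_c_rc_22_3 lc_c_rc_22_7 lc_c_rc_26_8 lc_c_rc_14_0 lc_c_rc_13_0 lc_c_rc_7_3 lc_c_rc_26_4 lc_c_rc_13_2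 lc_c_rc_13_2 lc_c_rc_11_1 lc_c_rc_11_1 lc_c_rc_26_4 lc_c_rc_11_1 lc_c_rc_23_5 lc_c_rc_11_1 lc_c_rc_24_2 lc_c_rc_13_0 lc_c_rc_13_2 lc_c_rc_2_1 lc_c_rc_2_3 lc_c_rc_7_3 lc_c_rc_23_0 lc_c_rc_14_2 lc_c_rc_24_2 lc_c_rc_11_1 lc_c_rc_22_5 lc_c_rc_13_0 lc_c_rc_22_5 lc_c_rc_7_5 lc_c_rc_14_2 lc_c_rc_23_5 lc_c_rc_11_1 lc_c_rc_22_5 lc_c_rc_11_1 lc_c_rc_13_0 lc_c_rc_11_1 lc_c_rc_7_3 lc_c_rc_13_2 lc_c_rc_14_2 lc_c_rc_11_1 lc_c_rc_22_3 lc_c_rc_11_1 lc_c_rc_7_3 lc_c_rc_11_1 lc_c_rc_24_8 lc_c_rc_14_2 lc_c_rc_2_3 lc_c_rc_14_2 lc_c_rc_13_2 lc_c_rc_23_0 lc_c_rc_26_2 lc_c_rc_24_2 lc_c_rc_11_1 lc_c_rc_11_1 lc_c_rc_22_5 lc_c_rc_26_10 lc_c_rc_7_5) (@D3.rec (fun _ => (Cert rels S Gen.c)) lc_c_rc_11_1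 lc_c_rc_7_3 lc_c_rc_25_13 lc_c_rc_23_5 lc_c_rc_7_1 lc_c_rc_11_1 lc_c_rc_7_3 lc_c_rc_22_3 lc_c_rc_22_5 lc_c_rc_11_1 lc_c_rc_11_1 lc_c_rc_13_0 lc_c_rc_7_5 lc_c_rc_13_2 lc_c_rc_7_3 lc_c_rc_25_9 lc_c_rc_11_1 lc_c_rc_24_8 lc_c_rc_11_1 lc_c_rc_7_5 lc_c_rc_11_1 lc_c_rc_23_5 lc_c_rc_23_5 lc_c_rc_23_0 lc_c_rc_7_5 lc_c_rc_26_4 lc_c_rc_25_5 lc_c_rc_7_1 lc_c_rc_25_5 lc_c_rc_13_2 lc_c_rc_7_1 lc_c_rc_13_0 lc_c_rc_24_4 lc_c_rc_11_1 lc_c_rc_2_3 lc_c_rc_11_1 lc_c_rc_26_4 lc_c_rc_23_5 lc_c_rc_11_1 lc_c_rc_26_4 lc_c_rc_23_5 lc_c_rc_7_1 lc_c_rc_24_6 lc_c_rc_26_10 lc_c_rc_11_1 lc_c_rc_7_5 lc_c_rc_24_4 lc_c_rc_23_0 lc_c_rc_22_5 lc_c_rc_11_1 lc_c_rc_22_5 lc_c_rc_25_5 lc_c_rc_11_1 lc_c_rc_13_0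 lc_c_rc_11_1 lc_c_rc_14_2 lc_c_rc_24_4 lc_c_rc_25_9 lc_c_rc_22_9 lc_c_rc_24_6 lc_c_rc_13_2 lc_c_rc_13_2) (@D3.rec (fun _ => (Cert rels S Gen.c)) lc_c_rc_14_0 lc_c_rc_2_1 lc_c_rc_7_5 lc_c_rc_13_2 lc_c_rc_22_5 lc_c_rc_13_2 lc_c_rc_24_6 lc_c_rc_24_4 lc_c_rc_26_10 lc_c_rc_13_0 lc_c_rc_25_5 lc_c_rc_11_1 lc_c_rc_12_14 lc_c_rc_26_2 lc_c_rc_23_5 lc_c_rc_7_5 lc_c_rc_22_9 lc_c_rc_22_9 lc_c_rc_22_3 lc_c_Cert_tree lc_c_rc_24_6 lc_c_rc_23_5 lc_c_rc_14_2 lc_c_rc_12_0 lc_c_rc_26_4 lc_c_rc_26_4 lc_c_rc_12_0 lc_c_rc_7_5 lc_c_rc_23_5 lc_c_rc_24_4 lc_c_rc_13_2 lc_c_rc_13_2 lc_c_rc_13_2 lc_c_rc_22_9 lc_c_rc_13_2 lc_c_rc_7_1 lc_c_rc_13_2 lc_c_rc_13_2 lc_c_rc_13_2 lc_c_rc_12_2 lc_c_rc_25_17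 lc_c_rc_25_1 lc_c_rc_11_1 lc_c_rc_24_6 lc_c_rc_24_4 lc_c_rc_13_0 lc_c_rc_7_5 lc_c_rc_26_10 lc_c_rc_25_17 lc_c_rc_24_8 lc_c_rc_22_3 lc_c_rc_11_1 lc_c_rc_13_2 lc_c_rc_13_2 lc_c_rc_11_1 lc_c_rc_13_2 lc_c_rc_11_1 lc_c_rc_11_1 lc_c_rc_22_3 lc_c_rc_23_0 lc_c_rc_7_3 lc_c_rc_2_1) (@D3.rec (fun _ => (Cert rels S Gen.c)) lc_c_rc_22_9 lc_c_rc_11_1 lc_c_rc_11_1 lc_c_rc_2_3 lc_c_rc_26_4 lc_c_rc_11_1 lc_c_rc_2_3 lc_c_rc_13_0 lc_c_rc_14_2 lc_c_rc_11_1 lc_c_rc_7_5 lc_c_rc_24_6 lc_c_rc_22_5 lc_c_rc_14_2 lc_c_rc_13_0 lc_c_rc_22_3 lc_c_rc_24_8 lc_c_rc_12_2 lc_c_rc_11_1 lc_c_rc_7_3 lc_c_rc_12_2 lc_c_rc_22_5 lc_c_rc_13_2 lc_c_rc_11_1 lc_c_rc_26_2 lc_c_rc_13_0 lc_c_rc_23_0 lc_c_rc_26_2 lc_c_rc_7_3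 lc_c_rc_7_5 lc_c_rc_11_1 lc_c_rc_13_0 lc_c_rc_13_2 lc_c_rc_23_0 lc_c_rc_23_0 lc_c_rc_11_1 lc_c_rc_13_2 lc_c_rc_25_13 lc_c_rc_11_1 lc_c_rc_12_2 lc_c_rc_7_3 lc_c_rc_11_1 lc_c_rc_24_6 lc_c_rc_2_1 lc_c_rc_23_0 lc_c_rc_11_1 lc_c_rc_13_2 lc_c_rc_7_3 lc_c_rc_24_2 lc_c_rc_11_1 lc_c_rc_26_8 lc_c_rc_26_10 lc_c_rc_7_5 lc_c_rc_26_2 lc_c_rc_26_4 lc_c_rc_11_1 lc_c_rc_24_4 lc_c_rc_26_4 lc_c_rc_26_10 lc_c_rc_26_2 lc_c_rc_13_2 lc_c_rc_7_3) (@D3.rec (fun _ => (Cert rels S Gen.c)) lc_c_rc_26_4 lc_c_rc_26_4 lc_c_rc_2_3 lc_c_rc_13_2 lc_c_rc_13_2 lc_c_rc_2_3 lc_c_rc_13_2 lc_c_rc_24_2 lc_c_rc_13_2 lc_c_rc_14_2 lc_c_rc_24_6 lc_c_rc_13_0 lc_c_rc_26_4 lc_c_rc_24_4 lc_c_rc_22_7 lc_c_rc_13_2 lc_c_rc_11_1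 lc_c_rc_14_2 lc_c_rc_13_0 lc_c_rc_11_1 lc_c_rc_14_2 lc_c_rc_22_9 lc_c_rc_13_0 lc_c_Cert_tree lc_c_rc_13_2 lc_c_rc_13_2 lc_c_rc_7_3 lc_c_rc_13_2 lc_c_rc_7_5 lc_c_rc_22_7 lc_c_rc_22_7 lc_c_rc_25_5 lc_c_rc_25_5 lc_c_rc_12_0 lc_c_rc_11_1 lc_c_rc_26_4 lc_c_rc_11_1 lc_c_rc_11_1 lc_c_rc_7_5 lc_c_rc_24_4 lc_c_rc_23_0 lc_c_rc_13_2 lc_c_rc_24_4 lc_c_rc_7_5 lc_c_rc_13_2 lc_c_rc_13_0 lc_c_rc_13_0 lc_c_rc_14_2 lc_c_rc_23_0 lc_c_rc_14_2 lc_c_rc_13_2 lc_c_rc_11_1 lc_c_rc_11_1 lc_c_rc_24_6 lc_c_rc_11_1 lc_c_rc_25_1 lc_c_rc_7_5 lc_c_rc_7_5 lc_c_rc_13_2 lc_c_rc_2_1 lc_c_rc_13_2 lc_c_rc_26_10) (@D3.rec (fun _ => (Cert rels S Gen.c)) lc_c_rc_22_7 lc_c_rc_26_8 lc_c_rc_24_8 lc_c_rc_26_10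 lc_c_rc_11_1 lc_c_rc_24_4 lc_c_rc_7_1 lc_c_rc_2_3 lc_c_rc_13_2 lc_c_rc_25_1 lc_c_rc_25_1 lc_c_rc_11_1 lc_c_rc_2_3 lc_c_rc_11_1 lc_c_rc_11_1 lc_c_rc_24_6 lc_c_rc_24_2 lc_c_rc_11_1 lc_c_rc_11_1 lc_c_rc_24_2 lc_c_rc_12_14 lc_c_rc_24_2 lc_c_rc_26_10 lc_c_rc_11_1 lc_c_rc_22_9 lc_c_rc_11_1 lc_c_rc_13_2 lc_c_rc_14_2 lc_c_rc_26_10 lc_c_rc_22_3 lc_c_rc_11_1 lc_c_rc_7_5 lc_c_rc_22_3 lc_c_rc_23_0 lc_c_rc_11_1 lc_c_rc_13_2 lc_c_rc_11_1 lc_c_rc_13_2 lc_c_rc_14_2 lc_c_rc_23_0 lc_c_rc_22_5 lc_c_rc_22_5 lc_c_rc_14_2 lc_c_rc_26_2 lc_c_rc_11_1 lc_c_rc_23_0 lc_c_rc_23_0 lc_c_rc_23_0 lc_c_rc_13_2 lc_c_rc_22_5 lc_c_rc_26_4 lc_c_rc_11_1 lc_c_rc_11_1 lc_c_rc_11_1 lc_c_rc_11_1 lc_c_rc_25_17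 lc_c_rc_25_5 lc_c_rc_26_4 lc_c_rc_14_2 lc_c_rc_11_1 lc_c_rc_23_0 lc_c_rc_26_2) (@D3.rec (fun _ => (Cert rels S Gen.c)) lc_c_rc_22_7 lc_c_rc_7_5 lc_c_rc_26_4 lc_c_rc_22_3 lc_c_rc_26_10 lc_c_rc_11_1 lc_c_rc_22_7 lc_c_rc_26_4 lc_c_rc_14_2 lc_c_rc_26_4 lc_c_rc_7_1 lc_c_rc_11_1 lc_c_rc_13_2 lc_c_rc_13_0 lc_c_rc_14_2 lc_c_rc_14_2 lc_c_rc_26_2 lc_c_rc_13_2 lc_c_rc_22_3 lc_c_rc_13_2 lc_c_rc_11_1 lc_c_rc_22_5 lc_c_rc_7_1 lc_c_rc_22_3 lc_c_rc_22_7 lc_c_rc_13_2 lc_c_rc_13_2 lc_c_rc_13_2 lc_c_rc_13_2 lc_c_rc_24_4 lc_c_rc_7_1 lc_c_rc_24_2 lc_c_rc_24_6 lc_c_rc_12_0 lc_c_rc_22_7 lc_c_rc_2_1 lc_c_rc_11_1 lc_c_rc_11_1 lc_c_rc_24_6 lc_c_rc_11_1 lc_c_rc_22_3 lc_c_rc_7_3 lc_c_rc_24_4 lc_c_rc_7_3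 lc_c_rc_13_2 lc_c_rc_13_2 lc_c_rc_7_5 lc_c_rc_26_2 lc_c_rc_26_2 lc_c_rc_26_2 lc_c_rc_24_4 lc_c_rc_13_2 lc_c_rc_23_0 lc_c_rc_11_1 lc_c_rc_7_5 lc_c_rc_24_6 lc_c_rc_24_2 lc_c_rc_23_5 lc_c_rc_26_4 lc_c_rc_11_1 lc_c_rc_14_0 lc_c_rc_14_2) (@D3.rec (fun _ => (Cert rels S Gen.c)) lc_c_rc_13_2 lc_c_rc_23_5 lc_c_rc_13_2 lc_c_rc_11_1 lc_c_rc_14_2 lc_c_rc_24_4 lc_c_Cert_tree lc_c_rc_2_3 lc_c_rc_11_1 lc_c_rc_24_6 lc_c_rc_13_0 lc_c_rc_13_0 lc_c_rc_11_1 lc_c_rc_11_1 lc_c_rc_11_1 lc_c_rc_23_0 lc_c_rc_23_0 lc_c_rc_23_5 lc_c_rc_11_1 lc_c_rc_13_0 lc_c_rc_7_5 lc_c_rc_13_0 lc_c_rc_11_1 lc_c_rc_26_10 lc_c_rc_11_1 lc_c_rc_22_5 lc_c_rc_7_5 lc_c_rc_14_2 lc_c_rc_12_2 lc_c_rc_13_2 lc_c_rc_13_2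 lc_c_rc_13_0 lc_c_rc_23_0 lc_c_rc_13_2 lc_c_rc_13_2 lc_c_rc_22_7 lc_c_rc_7_1 lc_c_rc_24_2 lc_c_rc_22_5 lc_c_rc_11_1 lc_c_rc_25_5 lc_c_rc_14_2 lc_c_rc_13_2 lc_c_rc_2_3 lc_c_rc_11_1 lc_c_rc_7_3 lc_c_rc_23_5 lc_c_rc_26_2 lc_c_rc_11_1 lc_c_rc_7_1 lc_c_rc_12_14 lc_c_rc_14_0 lc_c_rc_12_0 lc_c_rc_14_2 lc_c_rc_13_2 lc_c_rc_11_1 lc_c_rc_13_2 lc_c_rc_11_1 lc_c_rc_11_1 lc_c_rc_11_1 lc_c_rc_11_1 lc_c_rc_2_3) (@D3.rec (fun _ => (Cert rels S Gen.c)) lc_c_rc_13_2 lc_c_rc_11_1 lc_c_rc_22_5 lc_c_rc_24_8 lc_c_rc_26_8 lc_c_rc_13_2 lc_c_rc_22_5 lc_c_rc_26_2 lc_c_rc_26_10 lc_c_rc_13_2 lc_c_rc_11_1 lc_c_rc_13_2 lc_c_rc_13_0 lc_c_rc_14_0 lc_c_rc_11_1 lc_c_rc_11_1 lc_c_rc_22_5 lc_c_rc_11_1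 lc_c_rc_24_4 lc_c_rc_23_0 lc_c_rc_24_2 lc_c_rc_11_1 lc_c_rc_26_2 lc_c_rc_11_1 lc_c_rc_14_2 lc_c_rc_11_1 lc_c_rc_22_5 lc_c_rc_26_10 lc_c_rc_13_0 lc_c_rc_14_2 lc_c_rc_11_1 lc_c_rc_26_4 lc_c_Cert_tree lc_c_rc_2_3 lc_c_rc_22_5 lc_c_rc_13_2 lc_c_rc_11_1 lc_c_rc_11_1 lc_c_rc_7_1 lc_c_rc_13_2 lc_c_rc_2_1 lc_c_rc_23_5 lc_c_rc_12_14 lc_c_rc_22_5 lc_c_rc_7_3 lc_c_rc_25_13 lc_c_rc_13_0 lc_c_rc_11_1 lc_c_rc_24_6 lc_c_rc_14_2 lc_c_rc_11_1 lc_c_rc_24_4 lc_c_rc_7_5 lc_c_rc_2_3 lc_c_rc_25_9 lc_c_rc_25_1 lc_c_rc_13_2 lc_c_rc_26_4 lc_c_rc_14_2 lc_c_rc_26_8 lc_c_rc_7_5 lc_c_rc_24_4) (@D3.rec (fun _ => (Cert rels S Gen.c)) lc_c_rc_13_2 lc_c_rc_22_5 lc_c_rc_14_2 lc_c_rc_26_8 lc_c_Cert_tree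 lc_c_rc_24_2 lc_c_rc_24_4 lc_c_rc_23_0 lc_c_rc_14_0 lc_c_rc_7_3 lc_c_rc_13_2 lc_c_rc_11_1 lc_c_rc_26_4 lc_c_rc_7_5 lc_c_rc_26_2 lc_c_rc_11_1 lc_c_rc_13_2 lc_c_rc_11_1 lc_c_rc_2_1 lc_c_rc_26_2 lc_c_rc_26_4 lc_c_rc_2_1 lc_c_rc_22_9 lc_c_rc_11_1 lc_c_rc_13_2 lc_c_rc_11_1 lc_c_rc_11_1 lc_c_rc_2_1 lc_c_rc_11_1 lc_c_rc_22_3 lc_c_rc_24_6 lc_c_rc_22_7 lc_c_rc_22_5 lc_c_rc_22_9 lc_c_rc_22_9 lc_c_rc_11_1 lc_c_rc_13_2 lc_c_rc_13_0 lc_c_rc_11_1 lc_c_Cert_tree lc_c_rc_11_1 lc_c_rc_7_3 lc_c_rc_24_6 lc_c_rc_11_1 lc_c_rc_11_1 lc_c_rc_22_3 lc_c_rc_13_2 lc_c_rc_24_2 lc_c_rc_24_4 lc_c_rc_13_2 lc_c_rc_13_2 lc_c_rc_26_4 lc_c_rc_13_2 lc_c_rc_11_1 lc_c_rc_11_1 lc_c_rc_11_1 lc_c_rc_11_1 lc_c_rc_11_1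 lc_c_rc_24_4 lc_c_rc_24_4 lc_c_rc_24_4 lc_c_rc_26_4) (@D3.rec (fun _ => (Cert rels S Gen.c)) lc_c_rc_23_5 lc_c_rc_22_5 lc_c_rc_13_2 lc_c_rc_24_8 lc_c_rc_11_1 lc_c_rc_7_5 lc_c_rc_14_0 lc_c_rc_23_0 lc_c_rc_13_2 lc_c_rc_11_1 lc_c_rc_2_3 lc_c_rc_23_0 lc_c_rc_13_2 lc_c_rc_12_0 lc_c_rc_11_1 lc_c_rc_7_3 lc_c_rc_24_2 lc_c_rc_24_6 lc_c_rc_22_5 lc_c_rc_24_4 lc_c_rc_23_0 lc_c_rc_11_1 lc_c_rc_12_2 lc_c_rc_11_1 lc_c_rc_11_1 lc_c_rc_24_8 lc_c_rc_11_1 lc_c_rc_13_2 lc_c_rc_26_10 lc_c_rc_26_10 lc_c_rc_14_2 lc_c_rc_11_1 lc_c_rc_13_2 lc_c_rc_11_1 lc_c_rc_11_1 lc_c_rc_14_2 lc_c_rc_26_4 lc_c_rc_26_2 lc_c_rc_11_1 lc_c_rc_13_2 lc_c_rc_26_4 lc_c_rc_11_1 lc_c_rc_14_2 lc_c_rc_26_2 lc_c_rc_25_1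 lc_c_rc_11_1 lc_c_rc_24_6 lc_c_rc_11_1 lc_c_rc_12_4 lc_c_rc_22_5 lc_c_rc_11_1 lc_c_rc_26_8 lc_c_rc_11_1 lc_c_rc_11_1 lc_c_rc_11_1 lc_c_rc_11_1 lc_c_rc_2_1 lc_c_rc_11_1 lc_c_rc_11_1 lc_c_rc_22_7 lc_c_rc_2_3 lc_c_rc_24_2) (@D3.rec (fun _ => (Cert rels S Gen.c)) lc_c_rc_23_0 lc_c_rc_26_8 lc_c_rc_11_1 lc_c_rc_26_2 lc_c_rc_7_1 lc_c_rc_23_0 lc_c_rc_11_1 lc_c_rc_24_4 lc_c_rc_11_1 lc_c_rc_23_5 lc_c_rc_11_1 lc_c_rc_11_1 lc_c_rc_24_6 lc_c_rc_11_1 lc_c_rc_13_2 lc_c_rc_26_8 lc_c_rc_13_2 lc_c_rc_14_2 lc_c_rc_7_5 lc_c_rc_13_2 lc_c_rc_24_2 lc_c_rc_7_1 lc_c_rc_11_1 lc_c_rc_11_1 lc_c_rc_14_2 lc_c_rc_11_1 lc_c_rc_26_8 lc_c_rc_11_1 lc_c_rc_11_1 lc_c_rc_23_5 lc_c_rc_26_4 lc_c_rc_7_5 lc_c_rc_22_5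 lc_c_rc_22_3 lc_c_rc_11_1 lc_c_rc_26_4 lc_c_rc_14_2 lc_c_rc_2_3 lc_c_rc_14_0 lc_c_rc_13_2 lc_c_rc_2_3 lc_c_rc_26_10 lc_c_rc_11_1 lc_c_rc_11_1 lc_c_rc_11_1 lc_c_rc_24_6 lc_c_rc_7_3 lc_c_rc_13_2 lc_c_rc_22_5 lc_c_rc_23_0 lc_c_rc_14_2 lc_c_rc_22_9 lc_c_rc_2_3 lc_c_rc_22_3 lc_c_rc_14_2 lc_c_rc_11_1 lc_c_rc_11_1 lc_c_rc_11_1 lc_c_rc_24_4 lc_c_rc_7_3 lc_c_rc_7_5 lc_c_rc_13_0) (@D3.rec (fun _ => (Cert rels S Gen.c)) lc_c_rc_26_4 lc_c_rc_13_2 lc_c_rc_11_1 lc_c_rc_23_5 lc_c_rc_26_4 lc_c_rc_13_2 lc_c_rc_11_1 lc_c_rc_13_2 lc_c_rc_11_1 lc_c_rc_24_2 lc_c_rc_24_6 lc_c_rc_24_6 lc_c_rc_13_2 lc_c_rc_11_1 lc_c_rc_11_1 lc_c_rc_14_0 lc_c_rc_2_1 lc_c_rc_24_4 lc_c_rc_13_2 lc_c_rc_24_4 lc_c_rc_22_5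 lc_c_rc_13_2 lc_c_rc_13_2 lc_c_rc_11_1 lc_c_rc_14_2 lc_c_rc_11_1 lc_c_rc_11_1 lc_c_rc_26_4 lc_c_rc_7_3 lc_c_rc_11_1 lc_c_rc_11_1 lc_c_rc_11_1 lc_c_rc_26_10 lc_c_rc_24_2 lc_c_rc_11_1 lc_c_rc_26_8 lc_c_rc_24_2 lc_c_rc_13_2 lc_c_rc_13_2 lc_c_rc_22_5 lc_c_rc_24_4 lc_c_rc_23_0 lc_c_rc_7_5 lc_c_rc_13_2 lc_c_rc_13_0 lc_c_rc_11_1 lc_c_rc_26_2 lc_c_rc_11_1 lc_c_rc_11_1 lc_c_rc_13_2 lc_c_rc_11_1 lc_c_rc_7_5 lc_c_rc_7_1 lc_c_rc_13_2 lc_c_rc_7_5 lc_c_rc_12_2 lc_c_rc_11_1 lc_c_rc_12_14 lc_c_rc_22_3 lc_c_rc_13_2 lc_c_rc_26_2 lc_c_rc_24_6) (@D3.rec (fun _ => (Cert rels S Gen.c)) lc_c_rc_24_8 lc_c_rc_11_1 lc_c_rc_2_3 lc_c_rc_14_2 lc_c_rc_23_0 lc_c_rc_11_1 lc_c_rc_11_1 lc_c_rc_11_1 lc_c_rc_7_5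 lc_c_rc_23_0 lc_c_rc_7_5 lc_c_rc_11_1 lc_c_rc_26_4 lc_c_rc_13_2 lc_c_rc_26_2 lc_c_rc_13_2 lc_c_rc_14_2 lc_c_rc_7_3 lc_c_rc_13_2 lc_c_rc_13_0 lc_c_rc_13_2 lc_c_rc_7_3 lc_c_rc_22_5 lc_c_rc_24_8 lc_c_rc_13_2 lc_c_rc_7_5 lc_c_rc_11_1 lc_c_rc_7_3 lc_c_rc_7_1 lc_c_rc_11_1 lc_c_rc_13_2 lc_c_rc_22_5 lc_c_rc_13_2 lc_c_rc_22_5 lc_c_rc_11_1 lc_c_rc_14_2 lc_c_rc_13_2 lc_c_rc_26_2 lc_c_rc_11_1 lc_c_rc_13_2 lc_c_rc_26_8 lc_c_rc_2_3 lc_c_rc_14_0 lc_c_rc_14_2 lc_c_rc_2_3 lc_c_rc_13_2 lc_c_rc_14_2 lc_c_rc_23_0 lc_c_rc_24_4 lc_c_rc_7_3 lc_c_rc_11_1 lc_c_rc_11_1 lc_c_rc_11_1 lc_c_rc_11_1 lc_c_rc_11_1 lc_c_rc_14_2 lc_c_rc_22_3 lc_c_rc_23_0 lc_c_rc_11_1 lc_c_rc_11_1 lc_c_rc_13_2 lc_c_rc_7_3)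 (@D3.rec (fun _ => (Cert rels S Gen.c)) lc_c_rc_22_5 lc_c_rc_11_1 lc_c_rc_11_1 lc_c_rc_7_1 lc_c_rc_22_7 lc_c_rc_13_2 lc_c_rc_24_4 lc_c_rc_11_1 lc_c_rc_26_4 lc_c_rc_14_2 lc_c_rc_11_1 lc_c_rc_11_1 lc_c_rc_11_1 lc_c_rc_13_2 lc_c_rc_24_2 lc_c_rc_13_0 lc_c_rc_11_1 lc_c_rc_7_5 lc_c_rc_11_1 lc_c_rc_24_8 lc_c_rc_7_3 lc_c_rc_13_0 lc_c_rc_11_1 lc_c_rc_22_5 lc_c_rc_23_0 lc_c_rc_7_3 lc_c_rc_13_2 lc_c_rc_11_1 lc_c_rc_11_1 lc_c_rc_24_6 lc_c_rc_13_2 lc_c_rc_7_3 lc_c_rc_12_14 lc_c_rc_11_1 lc_c_rc_22_9 lc_c_rc_11_1 lc_c_rc_11_1 lc_c_rc_22_7 lc_c_rc_11_1 lc_c_rc_13_2 lc_c_rc_23_0 lc_c_rc_24_6 lc_c_rc_13_2 lc_c_rc_22_7 lc_c_rc_25_17 lc_c_rc_26_4 lc_c_rc_24_2 lc_c_rc_13_2 lc_c_rc_13_2 lc_c_rc_11_1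 lc_c_rc_24_6 lc_c_rc_24_6 lc_c_rc_2_3 lc_c_rc_11_1 lc_c_rc_26_2 lc_c_rc_11_1 lc_c_rc_24_2 lc_c_rc_26_10 lc_c_rc_24_8 lc_c_rc_26_2 lc_c_rc_13_2 lc_c_rc_7_3) (@D3.rec (fun _ => (Cert rels S Gen.c)) lc_c_rc_23_0 lc_c_rc_7_5 lc_c_rc_11_1 lc_c_rc_13_2 lc_c_rc_14_2 lc_c_rc_13_2 lc_c_rc_24_4 lc_c_rc_24_8 lc_c_rc_13_2 lc_c_rc_13_0 lc_c_rc_14_2 lc_c_rc_11_1 lc_c_rc_13_2 lc_c_rc_13_2 lc_c_rc_11_1 lc_c_rc_2_1 lc_c_rc_11_1 lc_c_rc_26_4 lc_c_rc_24_2 lc_c_rc_11_1 lc_c_rc_11_1 lc_c_rc_22_7 lc_c_rc_11_1 lc_c_rc_22_3 lc_c_rc_25_1 lc_c_rc_11_1 lc_c_rc_11_1 lc_c_rc_26_2 lc_c_rc_22_7 lc_c_rc_11_1 lc_c_rc_11_1 lc_c_rc_13_2 lc_c_rc_22_7 lc_c_rc_11_1 lc_c_rc_26_8 lc_c_rc_11_1 lc_c_rc_14_2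 lc_c_rc_25_1 lc_c_rc_11_1 lc_c_rc_23_0 lc_c_rc_2_3 lc_c_rc_7_5 lc_c_rc_11_1 lc_c_rc_25_5 lc_c_rc_14_2 lc_c_rc_22_9 lc_c_rc_25_13 lc_c_rc_11_1 lc_c_rc_7_5 lc_c_rc_23_5 lc_c_rc_13_2 lc_c_rc_23_5 lc_c_rc_13_2 lc_c_rc_25_1 lc_c_rc_11_1 lc_c_rc_13_2 lc_c_rc_11_1 lc_c_rc_22_3 lc_c_rc_11_1 lc_c_rc_11_1 lc_c_rc_13_2 lc_c_rc_23_0) (@D3.rec (fun _ => (Cert rels S Gen.c)) lc_c_rc_13_0 lc_c_rc_11_1 lc_c_rc_24_4 lc_c_rc_11_1 lc_c_rc_23_0 lc_c_rc_13_2 lc_c_rc_11_1 lc_c_rc_25_1 lc_c_rc_24_4 lc_c_rc_26_10 lc_c_rc_12_2 lc_c_rc_22_5 lc_c_rc_13_2 lc_c_rc_22_5 lc_c_rc_11_1 lc_c_rc_26_10 lc_c_rc_26_4 lc_c_rc_7_5 lc_c_rc_7_3 lc_c_rc_13_2 lc_c_rc_7_5 lc_c_rc_14_2 lc_c_rc_26_8 lc_c_Cert_tree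 lc_c_rc_7_1 lc_c_rc_22_3 lc_c_rc_11_1 lc_c_rc_11_1 lc_c_rc_22_3 lc_c_rc_14_2 lc_c_rc_12_0 lc_c_rc_26_10 lc_c_rc_11_1 lc_c_rc_13_2 lc_c_rc_26_2 lc_c_rc_26_4 lc_c_rc_13_2 lc_c_rc_13_2 lc_c_rc_11_1 lc_c_rc_7_1 lc_c_rc_23_0 lc_c_rc_24_2 lc_c_rc_2_3 lc_c_rc_26_8 lc_c_rc_13_2 lc_c_rc_26_2 lc_c_rc_13_2 lc_c_rc_26_2 lc_c_rc_11_1 lc_c_rc_25_1 lc_c_rc_26_4 lc_c_rc_11_1 lc_c_rc_22_9 lc_c_rc_13_2 lc_c_rc_7_5 lc_c_rc_14_2 lc_c_rc_7_5 lc_c_rc_13_2 lc_c_rc_13_2 lc_c_rc_2_3 lc_c_rc_25_1 lc_c_rc_11_1) (@D3.rec (fun _ => (Cert rels S Gen.c)) lc_c_rc_13_2 lc_c_rc_26_4 lc_c_rc_22_9 lc_c_rc_11_1 lc_c_rc_13_2 lc_c_rc_11_1 lc_c_rc_14_2 lc_c_rc_22_9 lc_c_rc_12_2 lc_c_rc_22_3 lc_c_rc_14_2 lc_c_rc_12_14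 lc_c_rc_23_5 lc_c_rc_13_2 lc_c_rc_11_1 lc_c_rc_14_2 lc_c_rc_22_9 lc_c_rc_25_5 lc_c_rc_7_5 lc_c_rc_11_1 lc_c_rc_26_4 lc_c_rc_25_17 lc_c_rc_11_1 lc_c_rc_11_1 lc_c_rc_11_1 lc_c_rc_7_3 lc_c_rc_13_2 lc_c_rc_13_2 lc_c_rc_13_2 lc_c_rc_13_0 lc_c_rc_22_5 lc_c_rc_26_4 lc_c_rc_26_4 lc_c_rc_26_2 lc_c_rc_13_2 lc_c_rc_12_0 lc_c_rc_26_4 lc_c_rc_26_2 lc_c_rc_2_3 lc_c_rc_24_4 lc_c_rc_13_2 lc_c_rc_23_0 lc_c_rc_11_1 lc_c_rc_2_3 lc_c_rc_22_5 lc_c_rc_25_17 lc_c_rc_7_5 lc_c_rc_11_1 lc_c_rc_7_3 lc_c_rc_24_2 lc_c_rc_7_5 lc_c_rc_22_5 lc_c_rc_25_1 lc_c_rc_11_1 lc_c_rc_11_1 lc_c_rc_26_2 lc_c_rc_7_3 lc_c_rc_11_1 lc_c_rc_24_8 lc_c_rc_11_1 lc_c_rc_26_4 lc_c_rc_7_3) (@D3.rec (fun _ => (Cert rels S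 Gen.c)) lc_c_rc_13_2 lc_c_rc_13_2 lc_c_rc_11_1 lc_c_rc_24_6 lc_c_rc_11_1 lc_c_rc_12_14 lc_c_rc_13_2 lc_c_rc_23_0 lc_c_rc_22_5 lc_c_rc_11_1 lc_c_rc_11_1 lc_c_rc_22_5 lc_c_rc_2_3 lc_c_rc_13_2 lc_c_rc_26_2 lc_c_rc_13_2 lc_c_rc_14_2 lc_c_rc_22_7 lc_c_rc_7_1 lc_c_rc_7_5 lc_c_rc_22_3 lc_c_rc_13_2 lc_c_rc_11_1 lc_c_rc_26_4 lc_c_rc_13_2 lc_c_rc_22_3 lc_c_rc_13_2 lc_c_rc_11_1 lc_c_rc_23_0 lc_c_rc_22_5 lc_c_rc_22_5 lc_c_rc_14_2 lc_c_rc_26_2 lc_c_rc_2_3 lc_c_rc_13_2 lc_c_rc_7_5 lc_c_rc_26_8 lc_c_rc_11_1 lc_c_rc_2_3 lc_c_rc_13_2 lc_c_rc_26_4 lc_c_rc_11_1 lc_c_rc_26_8 lc_c_rc_13_2 lc_c_rc_11_1 lc_c_rc_13_2 lc_c_rc_24_6 lc_c_rc_23_0 lc_c_rc_7_3 lc_c_rc_7_5 lc_c_rc_7_5 lc_c_rc_2_3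 lc_c_rc_22_5 lc_c_rc_13_2 lc_c_rc_14_2 lc_c_rc_7_3 lc_c_rc_7_5 lc_c_rc_11_1 lc_c_rc_13_2 lc_c_rc_7_5 lc_c_rc_26_2 lc_c_rc_11_1) (@D3.rec (fun _ => (Cert rels S Gen.c)) lc_c_rc_23_5 lc_c_rc_25_1 lc_c_rc_7_3 lc_c_rc_26_4 lc_c_rc_11_1 lc_c_rc_24_2 lc_c_rc_26_10 lc_c_rc_2_1 lc_c_rc_7_5 lc_c_rc_11_1 lc_c_rc_22_5 lc_c_rc_22_5 lc_c_rc_26_8 lc_c_rc_11_1 lc_c_rc_11_1 lc_c_rc_14_2 lc_c_rc_25_13 lc_c_rc_13_2 lc_c_rc_22_3 lc_c_rc_14_2 lc_c_rc_24_4 lc_c_rc_11_1 lc_c_rc_11_1 lc_c_rc_11_1 lc_c_rc_26_4 lc_c_rc_22_3 lc_c_rc_11_1 lc_c_rc_7_5 lc_c_rc_22_7 lc_c_rc_13_2 lc_c_rc_25_9 lc_c_rc_26_10 lc_c_rc_13_2 lc_c_rc_13_2 lc_c_rc_22_7 lc_c_rc_22_3 lc_c_rc_12_0 lc_c_rc_11_1 lc_c_rc_11_1 lc_c_rc_11_1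 lc_c_rc_11_1 lc_c_rc_14_2 lc_c_rc_13_2 lc_c_rc_24_6 lc_c_rc_26_8 lc_c_rc_25_1 lc_c_rc_26_2 lc_c_rc_2_1 lc_c_rc_11_1 lc_c_rc_7_3 lc_c_rc_24_4 lc_c_rc_13_0 lc_c_rc_7_3 lc_c_rc_13_2 lc_c_rc_23_5 lc_c_rc_23_0 lc_c_rc_11_1 lc_c_rc_24_8 lc_c_rc_13_2 lc_c_rc_14_2 lc_c_rc_23_5 lc_c_rc_13_2) (@D3.rec (fun _ => (Cert rels S Gen.c)) lc_c_rc_26_2 lc_c_rc_24_2 lc_c_rc_13_2 lc_c_rc_12_2 lc_c_rc_26_2 lc_c_rc_24_8 lc_c_rc_24_4 lc_c_rc_12_2 lc_c_rc_11_1 lc_c_rc_22_7 lc_c_rc_26_4 lc_c_rc_22_9 lc_c_rc_11_1 lc_c_rc_13_2 lc_c_rc_13_2 lc_c_rc_26_4 lc_c_rc_25_1 lc_c_rc_22_5 lc_c_rc_7_5 lc_c_rc_22_5 lc_c_rc_11_1 lc_c_rc_2_1 lc_c_rc_24_2 lc_c_rc_11_1 lc_c_rc_24_4 lc_c_rc_11_1 lc_c_rc_11_1 lc_c_rc_25_9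 lc_c_rc_7_3 lc_c_rc_13_2 lc_c_rc_12_0 lc_c_rc_2_3 lc_c_rc_13_2 lc_c_rc_13_2 lc_c_rc_11_1 lc_c_rc_11_1 lc_c_rc_14_2 lc_c_rc_26_8 lc_c_rc_24_2 lc_c_rc_23_0 lc_c_rc_14_2 lc_c_rc_13_2 lc_c_rc_2_3 lc_c_rc_25_1 lc_c_rc_11_1 lc_c_rc_26_2 lc_c_rc_13_2 lc_c_rc_14_0 lc_c_rc_13_2 lc_c_rc_23_0 lc_c_rc_24_6 lc_c_rc_22_5 lc_c_rc_11_1 lc_c_rc_26_4 lc_c_rc_11_1 lc_c_rc_14_2 lc_c_rc_2_3 lc_c_rc_24_4 lc_c_rc_13_2 lc_c_rc_26_10 lc_c_rc_11_1 lc_c_rc_11_1) (@D3.rec (fun _ => (Cert rels S Gen.c)) lc_c_rc_14_2 lc_c_rc_23_5 lc_c_rc_13_2 lc_c_rc_13_2 lc_c_rc_2_1 lc_c_rc_7_3 lc_c_rc_7_3 lc_c_rc_12_14 lc_c_rc_24_4 lc_c_rc_22_3 lc_c_rc_24_8 lc_c_rc_7_3 lc_c_rc_26_2 lc_c_rc_11_1 lc_c_rc_22_5 lc_c_rc_13_0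 lc_c_rc_14_2 lc_c_rc_14_2 lc_c_rc_26_4 lc_c_rc_26_2 lc_c_rc_7_5 lc_c_rc_23_0 lc_c_rc_7_3 lc_c_rc_11_1 lc_c_rc_24_2 lc_c_rc_11_1 lc_c_rc_24_4 lc_c_rc_13_2 lc_c_rc_22_3 lc_c_rc_11_1 lc_c_rc_24_6 lc_c_rc_11_1 lc_c_rc_13_2 lc_c_rc_13_2 lc_c_rc_11_1 lc_c_rc_13_2 lc_c_rc_11_1 lc_c_rc_22_3 lc_c_rc_2_3 lc_c_rc_13_2 lc_c_rc_13_2 lc_c_rc_2_3 lc_c_rc_22_7 lc_c_rc_7_5 lc_c_rc_22_5 lc_c_rc_23_5 lc_c_rc_26_8 lc_c_rc_11_1 lc_c_rc_11_1 lc_c_rc_11_1 lc_c_rc_13_2 lc_c_rc_11_1 lc_c_rc_7_3 lc_c_rc_11_1 lc_c_rc_22_9 lc_c_rc_23_0 lc_c_rc_14_2 lc_c_rc_25_1 lc_c_rc_22_3 lc_c_rc_24_6 lc_c_rc_11_1 lc_c_rc_7_3) (@D3.rec (fun _ => (Cert rels S Gen.c)) lc_c_rc_24_2 lc_c_rc_12_2 lc_c_rc_24_4 lc_c_rc_22_5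 lc_c_rc_7_5 lc_c_rc_22_3 lc_c_rc_12_2 lc_c_rc_11_1 lc_c_rc_13_2 lc_c_rc_26_10 lc_c_rc_22_5 lc_c_rc_7_3 lc_c_rc_26_4 lc_c_rc_13_0 lc_c_rc_24_6 lc_c_rc_11_1 lc_c_rc_11_1 lc_c_rc_11_1 lc_c_rc_11_1 lc_c_rc_13_2 lc_c_rc_11_1 lc_c_rc_22_7 lc_c_rc_22_5 lc_c_rc_13_2 lc_c_rc_2_3 lc_c_rc_22_5 lc_c_rc_13_2 lc_c_rc_7_1 lc_c_Cert_tree lc_c_rc_24_2 lc_c_rc_14_2 lc_c_rc_23_0 lc_c_rc_23_5 lc_c_rc_2_3 lc_c_rc_11_1 lc_c_rc_22_9 lc_c_rc_24_2 lc_c_rc_26_10 lc_c_rc_7_3 lc_c_rc_13_2 lc_c_rc_23_0 lc_c_rc_7_5 lc_c_rc_11_1 lc_c_rc_13_2 lc_c_rc_7_5 lc_c_rc_13_2 lc_c_rc_24_4 lc_c_rc_14_2 lc_c_rc_13_2 lc_c_rc_13_0 lc_c_rc_7_5 lc_c_rc_24_6 lc_c_rc_7_5 lc_c_rc_11_1 lc_c_rc_24_4 lc_c_rc_22_3 lc_c_rc_26_8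 lc_c_rc_11_1 lc_c_rc_7_5 lc_c_rc_11_1 lc_c_rc_13_2 lc_c_rc_11_1) (@D3.rec (fun _ => (Cert rels S Gen.c)) lc_c_rc_7_5 lc_c_rc_13_2 lc_c_rc_11_1 lc_c_rc_22_3 lc_c_rc_11_1 lc_c_rc_13_2 lc_c_rc_24_4 lc_c_rc_13_2 lc_c_rc_7_1 lc_c_rc_11_1 lc_c_rc_7_3 lc_c_rc_13_2 lc_c_rc_14_2 lc_c_rc_12_14 lc_c_rc_23_0 lc_c_rc_11_1 lc_c_rc_14_2 lc_c_rc_26_8 lc_c_rc_22_9 lc_c_rc_24_2 lc_c_rc_7_3 lc_c_rc_24_8 lc_c_rc_11_1 lc_c_rc_13_2 lc_c_rc_7_3 lc_c_rc_22_9 lc_c_rc_23_5 lc_c_rc_7_5 lc_c_rc_13_2 lc_c_rc_24_6 lc_c_rc_13_2 lc_c_rc_11_1 lc_c_rc_23_0 lc_c_rc_14_2 lc_c_rc_22_3 lc_c_rc_26_8 lc_c_rc_13_0 lc_c_rc_11_1 lc_c_rc_13_2 lc_c_rc_13_0 lc_c_rc_13_0 lc_c_rc_23_5 lc_c_rc_13_2 lc_c_rc_11_1 lc_c_rc_26_4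 lc_c_rc_11_1 lc_c_rc_13_2 lc_c_rc_25_9 lc_c_rc_13_0 lc_c_rc_13_2 lc_c_rc_26_2 lc_c_rc_11_1 lc_c_rc_11_1 lc_c_rc_11_1 lc_c_rc_7_1 lc_c_rc_2_1 lc_c_rc_2_1 lc_c_rc_7_5 lc_c_rc_25_1 lc_c_rc_11_1 lc_c_rc_13_2 lc_c_rc_26_2) (@D3.rec (fun _ => (Cert rels S Gen.c)) lc_c_rc_23_5 lc_c_rc_13_2 lc_c_rc_23_5 lc_c_rc_24_4 lc_c_rc_7_5 lc_c_rc_13_2 lc_c_rc_13_2 lc_c_rc_22_5 lc_c_rc_25_5 lc_c_rc_23_5 lc_c_rc_11_1 lc_c_rc_26_2 lc_c_rc_7_5 lc_c_rc_22_5 lc_c_rc_13_2 lc_c_rc_13_2 lc_c_rc_13_2 lc_c_rc_7_3 lc_c_rc_11_1 lc_c_rc_2_3 lc_c_rc_13_2 lc_c_rc_26_2 lc_c_rc_7_3 lc_c_rc_26_8 lc_c_rc_24_2 lc_c_rc_7_5 lc_c_rc_26_4 lc_c_rc_13_2 lc_c_rc_11_1 lc_c_rc_26_10 lc_c_rc_7_3 lc_c_rc_13_2 lc_c_rc_22_3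 lc_c_rc_23_5 lc_c_rc_13_2 lc_c_rc_11_1 lc_c_rc_23_5 lc_c_rc_7_3 lc_c_rc_11_1 lc_c_rc_13_2 lc_c_rc_13_2 lc_c_rc_11_1 lc_c_rc_13_2 lc_c_rc_11_1 lc_c_rc_13_2 lc_c_rc_22_5 lc_c_rc_13_2 lc_c_rc_11_1 lc_c_rc_11_1 lc_c_rc_23_5 lc_c_rc_13_2 lc_c_rc_2_3 lc_c_rc_7_5 lc_c_rc_26_2 lc_c_rc_14_0 lc_c_rc_13_2 lc_c_rc_11_1 lc_c_rc_14_2 lc_c_Cert_tree lc_c_rc_7_3 lc_c_rc_11_1 lc_c_rc_25_5) (@D3.rec (fun _ => (Cert rels S Gen.c)) lc_c_rc_25_13 lc_c_rc_25_13 lc_c_rc_11_1 lc_c_rc_13_2 lc_c_rc_2_3 lc_c_rc_12_14 lc_c_rc_23_0 lc_c_rc_11_1 lc_c_rc_2_3 lc_c_rc_13_2 lc_c_rc_7_5 lc_c_rc_12_14 lc_c_rc_2_3 lc_c_rc_13_0 lc_c_rc_26_8 lc_c_rc_11_1 lc_c_rc_7_5 lc_c_rc_13_2 lc_c_rc_22_3 lc_c_rc_7_5 lc_c_rc_13_2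 lc_c_rc_26_8 lc_c_rc_24_4 lc_c_rc_11_1 lc_c_rc_7_1 lc_c_rc_7_3 lc_c_rc_13_2 lc_c_rc_13_0 lc_c_rc_26_8 lc_c_rc_7_5 lc_c_rc_7_5 lc_c_rc_11_1 lc_c_rc_14_2 lc_c_rc_11_1 lc_c_rc_7_3 lc_c_rc_23_5 lc_c_rc_23_0 lc_c_rc_14_2 lc_c_rc_12_2 lc_c_rc_26_10 lc_c_rc_13_0 lc_c_rc_11_1 lc_c_rc_7_5 lc_c_rc_7_3 lc_c_rc_24_6 lc_c_rc_13_2 lc_c_rc_13_2 lc_c_rc_12_14 lc_c_rc_26_4 lc_c_rc_13_2 lc_c_rc_26_4 lc_c_rc_22_3 lc_c_rc_22_7 lc_c_rc_14_2 lc_c_rc_12_0 lc_c_rc_26_2 lc_c_rc_22_9 lc_c_rc_24_4 lc_c_rc_11_1 lc_c_rc_2_3 lc_c_rc_13_2 lc_c_rc_7_5) (@D3.rec (fun _ => (Cert rels S Gen.c)) lc_c_rc_13_2 lc_c_rc_26_4 lc_c_rc_25_1 lc_c_rc_11_1 lc_c_rc_2_3 lc_c_rc_7_5 lc_c_rc_11_1 lc_c_rc_11_1 lc_c_rc_7_5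 lc_c_rc_11_1 lc_c_rc_11_1 lc_c_rc_24_2 lc_c_rc_23_5 lc_c_rc_26_4 lc_c_rc_23_0 lc_c_rc_11_1 lc_c_rc_25_5 lc_c_rc_2_3 lc_c_rc_13_2 lc_c_rc_22_9 lc_c_rc_22_3 lc_c_rc_24_6 lc_c_rc_24_4 lc_c_rc_22_5 lc_c_rc_11_1 lc_c_rc_13_2 lc_c_rc_11_1 lc_c_rc_7_3 lc_c_Cert_tree lc_c_rc_11_1 lc_c_rc_13_0 lc_c_rc_7_3 lc_c_rc_7_3 lc_c_rc_7_1 lc_c_rc_13_2 lc_c_rc_13_0 lc_c_rc_26_10 lc_c_rc_11_1 lc_c_rc_26_10 lc_c_rc_11_1 lc_c_rc_13_0 lc_c_rc_13_2 lc_c_rc_11_1 lc_c_rc_23_0 lc_c_rc_25_1 lc_c_rc_25_9 lc_c_rc_11_1 lc_c_rc_26_2 lc_c_rc_11_1 lc_c_rc_14_0 lc_c_rc_11_1 lc_c_rc_22_9 lc_c_rc_11_1 lc_c_rc_14_2 lc_c_rc_14_0 lc_c_rc_11_1 lc_c_rc_7_3 lc_c_rc_26_10 lc_c_rc_26_10 lc_c_rc_7_3 lc_c_rc_11_1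 lc_c_rc_2_1) (@D3.rec (fun _ => (Cert rels S Gen.c)) lc_c_rc_11_1 lc_c_rc_26_4 lc_c_rc_13_2 lc_c_rc_2_3 lc_c_rc_11_1 lc_c_rc_25_1 lc_c_rc_11_1 lc_c_rc_11_1 lc_c_rc_24_6 lc_c_rc_23_0 lc_c_rc_13_0 lc_c_rc_13_0 lc_c_rc_22_3 lc_c_rc_24_8 lc_c_rc_11_1 lc_c_rc_7_3 lc_c_rc_26_4 lc_c_rc_11_1 lc_c_rc_11_1 lc_c_rc_7_3 lc_c_rc_14_2 lc_c_rc_7_3 lc_c_rc_13_2 lc_c_rc_13_2 lc_c_rc_7_3 lc_c_rc_13_0 lc_c_rc_11_1 lc_c_rc_7_1 lc_c_rc_24_6 lc_c_rc_13_2 lc_c_rc_24_8 lc_c_rc_23_0 lc_c_rc_2_3 lc_c_rc_14_2 lc_c_rc_22_3 lc_c_rc_13_2 lc_c_rc_13_2 lc_c_rc_26_2 lc_c_rc_26_10 lc_c_rc_22_5 lc_c_rc_24_8 lc_c_rc_13_2 lc_c_rc_13_2 lc_c_rc_22_7 lc_c_rc_7_3 lc_c_rc_25_1 lc_c_rc_11_1 lc_c_rc_26_2 lc_c_rc_14_2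 lc_c_rc_26_10 lc_c_rc_26_4 lc_c_rc_11_1 lc_c_rc_7_5 lc_c_rc_7_3 lc_c_rc_11_1 lc_c_rc_11_1 lc_c_rc_22_9 lc_c_rc_11_1 lc_c_rc_26_2 lc_c_rc_24_4 lc_c_rc_22_7 lc_c_rc_11_1) (@D3.rec (fun _ => (Cert rels S Gen.c)) lc_c_rc_22_5 lc_c_rc_24_8 lc_c_rc_23_0 lc_c_rc_24_8 lc_c_rc_13_0 lc_c_rc_11_1 lc_c_rc_7_5 lc_c_rc_11_1 lc_c_rc_11_1 lc_c_rc_11_1 lc_c_rc_11_1 lc_c_rc_26_2 lc_c_rc_14_2 lc_c_rc_11_1 lc_c_rc_11_1 lc_c_rc_11_1 lc_c_rc_22_5 lc_c_rc_22_5 lc_c_rc_13_2 lc_c_rc_7_3 lc_c_rc_11_1 lc_c_rc_11_1 lc_c_rc_7_3 lc_c_rc_13_0 lc_c_Cert_tree lc_c_rc_13_2 lc_c_rc_11_1 lc_c_rc_24_4 lc_c_rc_11_1 lc_c_rc_7_1 lc_c_rc_23_5 lc_c_rc_7_1 lc_c_Cert_tree lc_c_rc_22_3 lc_c_rc_11_1 lc_c_rc_2_3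 lc_c_rc_26_10 lc_c_rc_11_1 lc_c_rc_11_1 lc_c_rc_13_2 lc_c_rc_7_3 lc_c_rc_13_2 lc_c_rc_24_2 lc_c_rc_23_5 lc_c_rc_11_1 lc_c_rc_13_2 lc_c_rc_11_1 lc_c_rc_7_5 lc_c_rc_7_5 lc_c_rc_11_1 lc_c_rc_2_1 lc_c_rc_11_1 lc_c_rc_11_1 lc_c_rc_11_1 lc_c_rc_2_3 lc_c_rc_14_2 lc_c_rc_11_1 lc_c_rc_22_3 lc_c_rc_14_2 lc_c_rc_25_5 lc_c_rc_12_12 lc_c_rc_22_9) (@D3.rec (fun _ => (Cert rels S Gen.c)) lc_c_rc_7_5 lc_c_rc_7_5 lc_c_rc_12_2 lc_c_rc_26_10 lc_c_rc_11_1 lc_c_rc_2_1 lc_c_rc_24_4 lc_c_rc_2_3 lc_c_rc_22_7 lc_c_rc_26_2 lc_c_rc_13_0 lc_c_rc_13_0 lc_c_rc_11_1 lc_c_rc_11_1 lc_c_rc_7_5 lc_c_rc_7_3 lc_c_rc_7_5 lc_c_rc_24_2 lc_c_rc_26_10 lc_c_rc_7_3 lc_c_rc_13_2 lc_c_rc_26_8 lc_c_rc_14_2 lc_c_rc_13_2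 lc_c_rc_13_0 lc_c_rc_7_3 lc_c_rc_7_3 lc_c_rc_26_4 lc_c_rc_14_2 lc_c_rc_11_1 lc_c_rc_13_2 lc_c_rc_14_2 lc_c_rc_11_1 lc_c_rc_14_2 lc_c_rc_13_2 lc_c_rc_13_2 lc_c_rc_25_17 lc_c_rc_13_2 lc_c_rc_2_3 lc_c_rc_25_1 lc_c_rc_7_5 lc_c_rc_23_5 lc_c_rc_26_2 lc_c_rc_12_2 lc_c_rc_7_3 lc_c_rc_24_6 lc_c_rc_26_4 lc_c_rc_13_2 lc_c_rc_7_3 lc_c_rc_22_5 lc_c_rc_11_1 lc_c_rc_14_0 lc_c_rc_12_6 lc_c_rc_7_3 lc_c_rc_13_2 lc_c_rc_24_2 lc_c_rc_13_0 lc_c_rc_11_1 lc_c_rc_7_1 lc_c_rc_11_1 lc_c_rc_26_2 lc_c_rc_7_3) (@D3.rec (fun _ => (Cert rels S Gen.c)) lc_c_rc_23_0 lc_c_rc_26_10 lc_c_rc_13_2 lc_c_rc_11_1 lc_c_rc_2_3 lc_c_rc_7_3 lc_c_rc_2_3 lc_c_rc_24_2 lc_c_rc_22_5 lc_c_rc_11_1 lc_c_rc_7_5 lc_c_rc_26_2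 lc_c_rc_26_4 lc_c_rc_12_2 lc_c_rc_22_3 lc_c_rc_22_5 lc_c_rc_24_2 lc_c_rc_11_1 lc_c_rc_7_5 lc_c_rc_13_2 lc_c_rc_22_5 lc_c_rc_23_0 lc_c_rc_13_0 lc_c_rc_26_8 lc_c_rc_13_2 lc_c_rc_13_2 lc_c_rc_11_1 lc_c_rc_11_1 lc_c_rc_7_3 lc_c_rc_22_5 lc_c_rc_7_3 lc_c_rc_22_3 lc_c_rc_14_2 lc_c_rc_26_4 lc_c_rc_13_2 lc_c_rc_13_2 lc_c_rc_25_5 lc_c_rc_26_4 lc_c_rc_11_1 lc_c_rc_24_6 lc_c_rc_7_3 lc_c_rc_12_0 lc_c_rc_11_1 lc_c_rc_13_2 lc_c_rc_13_2 lc_c_rc_14_2 lc_c_rc_13_2 lc_c_rc_11_1 lc_c_rc_11_1 lc_c_rc_11_1 lc_c_rc_13_0 lc_c_rc_26_8 lc_c_rc_22_5 lc_c_rc_13_0 lc_c_rc_7_1 lc_c_rc_24_2 lc_c_rc_23_0 lc_c_rc_13_2 lc_c_rc_13_2 lc_c_rc_13_2 lc_c_rc_26_4 lc_c_rc_24_2) (@D3.rec (fun _ => (Cert rels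 S Gen.c)) lc_c_rc_2_3 lc_c_rc_24_4 lc_c_rc_23_5 lc_c_rc_26_4 lc_c_rc_11_1 lc_c_rc_23_0 lc_c_rc_26_2 lc_c_rc_11_1 lc_c_rc_14_2 lc_c_rc_24_6 lc_c_rc_13_2 lc_c_rc_7_3 lc_c_rc_13_2 lc_c_rc_11_1 lc_c_rc_26_10 lc_c_rc_14_2 lc_c_rc_11_1 lc_c_rc_26_4 lc_c_rc_11_1 lc_c_rc_2_1 lc_c_rc_23_0 lc_c_rc_13_0 lc_c_rc_7_5 lc_c_rc_24_4 lc_c_rc_11_1 lc_c_rc_13_2 lc_c_rc_7_5 lc_c_rc_22_9 lc_c_rc_26_4 lc_c_rc_14_2 lc_c_rc_7_1 lc_c_rc_22_5 lc_c_rc_24_2 lc_c_rc_13_2 lc_c_rc_7_3 lc_c_rc_11_1 lc_c_rc_22_9 lc_c_rc_22_5 lc_c_rc_14_2 lc_c_rc_2_1 lc_c_rc_2_3 lc_c_rc_11_1 lc_c_rc_11_1 lc_c_rc_22_9 lc_c_rc_13_2 lc_c_rc_14_2 lc_c_rc_11_1 lc_c_rc_22_7 lc_c_rc_24_6 lc_c_rc_14_2 lc_c_rc_13_2 lc_c_rc_24_2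 lc_c_rc_26_10 lc_c_rc_13_2 lc_c_rc_23_5 lc_c_rc_11_1 lc_c_rc_24_2 lc_c_rc_23_0 lc_c_rc_23_0 lc_c_rc_26_4 lc_c_rc_11_1 lc_c_rc_7_3) (@D3.rec (fun _ => (Cert rels S Gen.c)) lc_c_rc_11_1 lc_c_rc_25_1 lc_c_rc_13_2 lc_c_rc_24_6 lc_c_rc_26_4 lc_c_rc_13_2 lc_c_rc_23_0 lc_c_rc_22_3 lc_c_rc_11_1 lc_c_rc_7_5 lc_c_rc_13_0 lc_c_rc_22_3 lc_c_rc_23_5 lc_c_rc_26_4 lc_c_rc_13_2 lc_c_rc_13_0 lc_c_rc_24_6 lc_c_rc_7_5 lc_c_rc_13_2 lc_c_rc_11_1 lc_c_rc_13_2 lc_c_rc_11_1 lc_c_rc_11_1 lc_c_rc_13_0 lc_c_rc_13_2 lc_c_rc_26_10 lc_c_rc_2_3 lc_c_rc_12_14 lc_c_rc_12_4 lc_c_rc_26_8 lc_c_rc_26_8 lc_c_rc_24_6 lc_c_rc_22_9 lc_c_rc_25_5 lc_c_rc_26_4 lc_c_Cert_tree lc_c_rc_22_9 lc_c_rc_13_2 lc_c_rc_7_3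 lc_c_rc_22_5 lc_c_rc_13_2 lc_c_rc_11_1 lc_c_rc_11_1 lc_c_rc_11_1 lc_c_rc_11_1 lc_c_rc_11_1 lc_c_rc_11_1 lc_c_rc_11_1 lc_c_rc_7_3 lc_c_rc_14_2 lc_c_rc_13_2 lc_c_rc_26_8 lc_c_rc_14_2 lc_c_rc_23_0 lc_c_rc_22_5 lc_c_rc_14_2 lc_c_rc_13_2 lc_c_rc_22_5 lc_c_rc_11_1 lc_c_rc_26_8 lc_c_rc_23_5 lc_c_rc_13_0) (@D3.rec (fun _ => (Cert rels S Gen.c)) lc_c_rc_13_0 lc_c_rc_26_2 lc_c_rc_22_9 lc_c_rc_24_8 lc_c_rc_26_2 lc_c_rc_2_1 lc_c_rc_25_1 lc_c_rc_26_10 lc_c_rc_22_5 lc_c_rc_11_1 lc_c_rc_23_0 lc_c_rc_26_2 lc_c_rc_23_0 lc_c_rc_7_3 lc_c_rc_26_2 lc_c_rc_11_1 lc_c_rc_11_1 lc_c_rc_23_0 lc_c_rc_22_9 lc_c_rc_26_4 lc_c_rc_26_10 lc_c_rc_11_1 lc_c_rc_13_2 lc_c_rc_13_2 lc_c_rc_7_1 lc_c_rc_13_2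 lc_c_Cert_tree lc_c_rc_7_5 lc_c_rc_2_1 lc_c_rc_11_1 lc_c_rc_11_1 lc_c_rc_26_4 lc_c_rc_11_1 lc_c_rc_13_2 lc_c_rc_7_3 lc_c_rc_13_2 lc_c_rc_12_14 lc_c_rc_2_3 lc_c_rc_7_5 lc_c_rc_26_4 lc_c_rc_26_2 lc_c_rc_12_0 lc_c_rc_22_3 lc_c_rc_11_1 lc_c_rc_13_0 lc_c_rc_25_1 lc_c_rc_11_1 lc_c_rc_23_0 lc_c_rc_13_2 lc_c_rc_14_2 lc_c_rc_13_2 lc_c_rc_13_2 lc_c_rc_12_2 lc_c_rc_14_2 lc_c_rc_22_3 lc_c_rc_11_1 lc_c_rc_24_6 lc_c_rc_11_1 lc_c_rc_2_3 lc_c_rc_13_2 lc_c_rc_13_2 lc_c_rc_23_0) (@D3.rec (fun _ => (Cert rels S Gen.c)) lc_c_rc_22_7 lc_c_rc_14_2 lc_c_rc_11_1 lc_c_rc_7_5 lc_c_rc_13_2 lc_c_rc_23_0 lc_c_rc_22_3 lc_c_rc_11_1 lc_c_rc_13_2 lc_c_rc_24_6 lc_c_rc_11_1 lc_c_rc_24_4 lc_c_rc_11_1 lc_c_rc_23_0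 lc_c_rc_22_9 lc_c_rc_2_3 lc_c_rc_14_2 lc_c_rc_12_0 lc_c_rc_13_2 lc_c_rc_14_2 lc_c_rc_11_1 lc_c_rc_11_1 lc_c_rc_13_2 lc_c_rc_11_1 lc_c_rc_26_4 lc_c_rc_13_2 lc_c_rc_13_2 lc_c_rc_13_2 lc_c_rc_13_0 lc_c_rc_11_1 lc_c_rc_13_2 lc_c_Cert_tree lc_c_rc_11_1 lc_c_rc_13_2 lc_c_rc_24_4 lc_c_rc_11_1 lc_c_rc_2_3 lc_c_rc_13_2 lc_c_rc_7_3 lc_c_rc_24_4 lc_c_rc_26_8 lc_c_rc_11_1 lc_c_rc_14_2 lc_c_rc_25_5 lc_c_rc_13_2 lc_c_rc_7_5 lc_c_rc_12_0 lc_c_rc_13_2 lc_c_rc_13_2 lc_c_rc_11_1 lc_c_rc_11_1 lc_c_rc_26_4 lc_c_rc_13_2 lc_c_rc_25_17 lc_c_rc_26_8 lc_c_rc_24_6 lc_c_rc_22_3 lc_c_rc_23_0 lc_c_rc_13_2 lc_c_rc_23_0 lc_c_rc_22_5 lc_c_rc_11_1) (@D3.rec (fun _ => (Cert rels S Gen.c)) lc_c_rc_11_1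 lc_c_rc_26_4 lc_c_rc_12_2 lc_c_rc_26_8 lc_c_rc_26_4 lc_c_rc_13_2 lc_c_rc_13_2 lc_c_rc_11_1 lc_c_rc_14_2 lc_c_rc_26_10 lc_c_rc_24_6 lc_c_rc_25_5 lc_c_rc_24_4 lc_c_rc_26_2 lc_c_rc_7_3 lc_c_rc_22_3 lc_c_rc_23_5 lc_c_rc_22_5 lc_c_rc_24_6 lc_c_rc_26_2 lc_c_rc_26_2 lc_c_rc_11_1 lc_c_rc_22_3 lc_c_rc_2_3 lc_c_rc_26_4 lc_c_rc_13_2 lc_c_rc_26_10 lc_c_rc_13_2 lc_c_rc_22_5 lc_c_rc_2_1 lc_c_rc_11_1 lc_c_rc_11_1 lc_c_rc_11_1 lc_c_rc_11_1 lc_c_rc_13_2 lc_c_rc_26_10 lc_c_rc_14_2 lc_c_rc_11_1 lc_c_rc_11_1 lc_c_rc_25_9 lc_c_rc_13_0 lc_c_rc_7_3 lc_c_rc_22_7 lc_c_rc_14_2 lc_c_rc_11_1 lc_c_rc_22_7 lc_c_rc_11_1 lc_c_rc_22_3 lc_c_rc_11_1 lc_c_rc_14_2 lc_c_rc_13_2 lc_c_rc_11_1 lc_c_rc_23_5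 lc_c_rc_13_2 lc_c_rc_24_6 lc_c_rc_24_2 lc_c_rc_13_2 lc_c_rc_11_1 lc_c_rc_11_1 lc_c_rc_25_1 lc_c_rc_2_3 lc_c_rc_7_5) (@D3.rec (fun _ => (Cert rels S Gen.c)) lc_c_rc_13_2 lc_c_rc_14_2 lc_c_rc_26_4 lc_c_rc_11_1 lc_c_rc_11_1 lc_c_rc_11_1 lc_c_rc_23_5 lc_c_rc_11_1 lc_c_rc_13_2 lc_c_rc_22_9 lc_c_rc_25_1 lc_c_rc_24_2 lc_c_rc_24_4 lc_c_rc_26_2 lc_c_rc_24_2 lc_c_rc_14_2 lc_c_rc_22_5 lc_c_rc_2_3 lc_c_rc_13_2 lc_c_rc_7_5 lc_c_rc_26_8 lc_c_rc_26_8 lc_c_rc_11_1 lc_c_rc_26_8 lc_c_rc_13_2 lc_c_rc_12_12 lc_c_rc_12_14 lc_c_rc_11_1 lc_c_rc_12_0 lc_c_rc_11_1 lc_c_rc_11_1 lc_c_rc_24_4 lc_c_rc_23_0 lc_c_rc_11_1 lc_c_rc_11_1 lc_c_rc_13_2 lc_c_rc_13_2 lc_c_rc_11_1 lc_c_rc_24_4 lc_c_rc_14_0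 lc_c_rc_24_4 lc_c_rc_11_1 lc_c_rc_11_1 lc_c_rc_22_3 lc_c_rc_24_4 lc_c_rc_7_1 lc_c_rc_13_2 lc_c_rc_11_1 lc_c_rc_26_4 lc_c_rc_23_5 lc_c_rc_24_4 lc_c_rc_13_2 lc_c_rc_13_2 lc_c_rc_22_3 lc_c_rc_25_17 lc_c_rc_11_1 lc_c_rc_26_4 lc_c_rc_13_2 lc_c_rc_11_1 lc_c_rc_13_2 lc_c_rc_7_3 lc_c_rc_11_1) (@D3.rec (fun _ => (Cert rels S Gen.c)) lc_c_rc_11_1 lc_c_rc_24_8 lc_c_Cert_tree lc_c_rc_11_1 lc_c_rc_26_4 lc_c_rc_11_1 lc_c_rc_26_8 lc_c_rc_11_1 lc_c_rc_7_5 lc_c_rc_24_4 lc_c_rc_7_1 lc_c_rc_13_2 lc_c_rc_26_2 lc_c_rc_7_3 lc_c_rc_24_4 lc_c_rc_24_4 lc_c_rc_14_2 lc_c_rc_23_5 lc_c_rc_13_2 lc_c_rc_11_1 lc_c_rc_25_1 lc_c_rc_2_3 lc_c_rc_2_1 lc_c_rc_13_2 lc_c_rc_11_1 lc_c_rc_22_3 lc_c_rc_11_1 lc_c_rc_11_1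 lc_c_rc_11_1 lc_c_rc_7_3 lc_c_rc_23_0 lc_c_rc_13_2 lc_c_rc_24_8 lc_c_rc_14_2 lc_c_rc_26_2 lc_c_rc_13_2 lc_c_rc_7_3 lc_c_rc_22_5 lc_c_rc_26_4 lc_c_rc_26_8 lc_c_rc_2_3 lc_c_rc_11_1 lc_c_rc_26_8 lc_c_rc_24_2 lc_c_rc_26_4 lc_c_rc_11_1 lc_c_rc_11_1 lc_c_rc_11_1 lc_c_rc_14_2 lc_c_rc_26_4 lc_c_rc_7_3 lc_c_rc_2_1 lc_c_rc_12_2 lc_c_rc_26_4 lc_c_rc_13_2 lc_c_rc_24_2 lc_c_rc_11_1 lc_c_rc_11_1 lc_c_rc_13_0 lc_c_rc_11_1 lc_c_rc_11_1 lc_c_rc_26_4) (@D3.rec (fun _ => (Cert rels S Gen.c)) lc_c_rc_11_1 lc_c_rc_7_3 lc_c_rc_22_5 lc_c_rc_13_2 lc_c_rc_22_3 lc_c_rc_24_8 lc_c_rc_22_3 lc_c_rc_11_1 lc_c_rc_13_2 lc_c_rc_26_4 lc_c_rc_13_0 lc_c_rc_12_2 lc_c_rc_22_7 lc_c_rc_22_5 lc_c_rc_13_2 lc_c_rc_11_1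 lc_c_rc_26_10 lc_c_rc_26_10 lc_c_rc_22_3 lc_c_rc_13_2 lc_c_rc_22_7 lc_c_rc_24_4 lc_c_rc_22_3 lc_c_rc_11_1 lc_c_rc_24_4 lc_c_rc_11_1 lc_c_rc_7_5 lc_c_rc_2_3 lc_c_rc_11_1 lc_c_rc_13_2 lc_c_rc_13_2 lc_c_rc_25_1 lc_c_rc_13_2 lc_c_rc_11_1 lc_c_rc_22_7 lc_c_rc_25_1 lc_c_rc_7_5 lc_c_rc_11_1 lc_c_rc_26_4 lc_c_rc_11_1 lc_c_rc_23_0 lc_c_rc_7_3 lc_c_rc_26_10 lc_c_rc_24_6 lc_c_rc_23_0 lc_c_rc_24_6 lc_c_rc_13_2 lc_c_rc_25_1 lc_c_rc_13_2 lc_c_rc_7_3 lc_c_rc_11_1 lc_c_rc_26_2 lc_c_rc_14_2 lc_c_rc_26_10 lc_c_rc_11_1 lc_c_rc_22_7 lc_c_rc_24_6 lc_c_rc_11_1 lc_c_rc_7_5 lc_c_rc_26_2 lc_c_rc_23_0 lc_c_rc_13_2) (@D3.rec (fun _ => (Cert rels S Gen.c)) lc_c_rc_14_2 lc_c_rc_13_2 lc_c_rc_13_2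 lc_c_rc_13_2 lc_c_rc_23_5 lc_c_rc_24_4 lc_c_rc_14_0 lc_c_rc_22_3 lc_c_rc_22_5 lc_c_rc_2_3 lc_c_rc_23_5 lc_c_rc_22_5 lc_c_rc_25_17 lc_c_rc_11_1 lc_c_rc_7_5 lc_c_rc_2_3 lc_c_rc_2_3 lc_c_rc_11_1 lc_c_rc_12_2 lc_c_rc_11_1 lc_c_rc_11_1 lc_c_rc_14_2 lc_c_rc_26_10 lc_c_rc_23_0 lc_c_rc_11_1 lc_c_rc_13_2 lc_c_rc_22_3 lc_c_rc_14_0 lc_c_rc_23_0 lc_c_rc_11_1 lc_c_rc_13_2 lc_c_rc_2_3 lc_c_rc_14_2 lc_c_rc_13_2 lc_c_rc_13_0 lc_c_rc_23_0 lc_c_rc_14_0 lc_c_rc_11_1 lc_c_rc_7_3 lc_c_rc_26_2 lc_c_rc_22_9 lc_c_rc_24_8 lc_c_rc_11_1 lc_c_rc_11_1 lc_c_rc_11_1 lc_c_rc_11_1 lc_c_rc_22_3 lc_c_rc_11_1 lc_c_rc_26_2 lc_c_rc_11_1 lc_c_rc_26_2 lc_c_rc_25_1 lc_c_rc_22_3 lc_c_rc_11_1 lc_c_rc_2_3 lc_c_rc_2_3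 lc_c_rc_23_0 lc_c_rc_22_5 lc_c_rc_22_3 lc_c_rc_11_1 lc_c_rc_14_2 lc_c_rc_13_0) (@D3.rec (fun _ => (Cert rels S Gen.c)) lc_c_rc_13_2 lc_c_rc_7_5 lc_c_rc_24_6 lc_c_rc_13_2 lc_c_rc_13_2 lc_c_rc_26_2 lc_c_rc_22_5 lc_c_rc_11_1 lc_c_rc_22_5 lc_c_rc_7_5 lc_c_rc_12_12 lc_c_rc_7_5 lc_c_rc_13_0 lc_c_rc_11_1 lc_c_rc_7_3 lc_c_rc_24_8 lc_c_rc_12_2 lc_c_rc_26_8 lc_c_rc_13_2 lc_c_rc_24_4 lc_c_rc_2_3 lc_c_rc_26_10 lc_c_rc_2_1 lc_c_rc_22_3 lc_c_rc_13_2 lc_c_rc_13_2 lc_c_rc_11_1 lc_c_rc_13_0 lc_c_rc_13_2 lc_c_rc_11_1 lc_c_rc_11_1 lc_c_rc_13_2 lc_c_rc_11_1 lc_c_rc_11_1 lc_c_rc_11_1 lc_c_rc_11_1 lc_c_rc_11_1 lc_c_rc_13_2 lc_c_rc_11_1 lc_c_rc_13_2 lc_c_rc_7_3 lc_c_rc_13_2 lc_c_rc_13_2 lc_c_rc_24_8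 lc_c_rc_2_3 lc_c_rc_26_2 lc_c_rc_13_2 lc_c_rc_26_2 lc_c_rc_13_2 lc_c_rc_26_4 lc_c_rc_13_2 lc_c_rc_11_1 lc_c_rc_26_4 lc_c_rc_13_2 lc_c_rc_7_3 lc_c_rc_11_1 lc_c_rc_26_8 lc_c_rc_14_2 lc_c_rc_23_5 lc_c_rc_2_3 lc_c_rc_13_2 lc_c_rc_13_2) (@D3.rec (fun _ => (Cert rels S Gen.c)) lc_c_rc_22_9 lc_c_rc_14_2 lc_c_rc_22_3 lc_c_rc_11_1 lc_c_rc_11_1 lc_c_rc_23_0 lc_c_rc_23_0 lc_c_rc_11_1 lc_c_rc_11_1 lc_c_rc_25_1 lc_c_rc_22_5 lc_c_rc_22_5 lc_c_rc_24_6 lc_c_rc_11_1 lc_c_rc_7_3 lc_c_rc_13_2 lc_c_rc_22_7 lc_c_rc_11_1 lc_c_rc_14_2 lc_c_rc_26_4 lc_c_rc_26_4 lc_c_rc_22_3 lc_c_rc_26_8 lc_c_rc_11_1 lc_c_rc_13_2 lc_c_rc_2_1 lc_c_rc_22_7 lc_c_rc_13_2 lc_c_rc_13_2 lc_c_rc_14_2 lc_c_rc_26_10 lc_c_rc_11_1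 lc_c_rc_2_3 lc_c_rc_11_1 lc_c_rc_7_3 lc_c_rc_13_2 lc_c_rc_11_1 lc_c_rc_26_2 lc_c_rc_24_6 lc_c_rc_14_2 lc_c_rc_11_1 lc_c_rc_11_1 lc_c_rc_26_2 lc_c_rc_25_1 lc_c_rc_12_2 lc_c_rc_13_0 lc_c_rc_11_1 lc_c_rc_25_1 lc_c_rc_26_10 lc_c_rc_11_1 lc_c_rc_22_5 lc_c_rc_13_0 lc_c_rc_13_0 lc_c_rc_11_1 lc_c_rc_23_5 lc_c_rc_2_1 lc_c_rc_26_10 lc_c_rc_26_10 lc_c_rc_11_1 lc_c_rc_23_0 lc_c_rc_14_0 lc_c_rc_11_1) (@D3.rec (fun _ => (Cert rels S Gen.c)) lc_c_rc_7_3 lc_c_rc_26_10 lc_c_rc_2_3 lc_c_rc_22_7 lc_c_rc_25_1 lc_c_rc_13_2 lc_c_rc_26_4 lc_c_rc_11_1 lc_c_rc_22_3 lc_c_rc_11_1 lc_c_rc_13_0 lc_c_rc_14_2 lc_c_rc_24_8 lc_c_rc_11_1 lc_c_rc_26_2 lc_c_rc_25_1 lc_c_rc_22_3 lc_c_rc_13_2 lc_c_rc_11_1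 lc_c_rc_22_9 lc_c_rc_25_1 lc_c_rc_11_1 lc_c_rc_14_0 lc_c_rc_13_0 lc_c_rc_22_3 lc_c_Cert_tree lc_c_rc_22_7 lc_c_rc_13_2 lc_c_rc_7_5 lc_c_rc_7_3 lc_c_rc_22_9 lc_c_rc_13_2 lc_c_rc_11_1 lc_c_rc_14_2 lc_c_rc_11_1 lc_c_rc_11_1 lc_c_rc_22_5 lc_c_rc_2_3 lc_c_rc_13_0 lc_c_rc_24_6 lc_c_rc_13_2 lc_c_rc_23_5 lc_c_rc_25_5 lc_c_rc_7_3 lc_c_rc_13_2 lc_c_rc_13_2 lc_c_rc_2_3 lc_c_rc_13_2 lc_c_rc_25_9 lc_c_rc_11_1 lc_c_rc_11_1 lc_c_rc_22_5 lc_c_rc_11_1 lc_c_rc_13_2 lc_c_Cert_tree lc_c_rc_11_1 lc_c_rc_2_3 lc_c_rc_13_2 lc_c_rc_24_4 lc_c_rc_23_0 lc_c_rc_11_1 lc_c_rc_11_1) (@D3.rec (fun _ => (Cert rels S Gen.c)) lc_c_rc_11_1 lc_c_rc_11_1 lc_c_rc_24_2 lc_c_rc_26_4 lc_c_rc_26_4 lc_c_rc_24_6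 lc_c_rc_7_5 lc_c_rc_14_2 lc_c_rc_13_0 lc_c_rc_23_0 lc_c_rc_2_3 lc_c_rc_23_0 lc_c_rc_13_2 lc_c_rc_7_3 lc_c_rc_13_2 lc_c_rc_11_1 lc_c_rc_13_2 lc_c_rc_23_5 lc_c_rc_11_1 lc_c_rc_14_2 lc_c_rc_22_7 lc_c_rc_26_4 lc_c_rc_14_2 lc_c_rc_22_3 lc_c_rc_13_2 lc_c_rc_11_1 lc_c_rc_23_0 lc_c_rc_7_5 lc_c_rc_13_2 lc_c_rc_22_9 lc_c_rc_11_1 lc_c_rc_7_3 lc_c_rc_7_1 lc_c_rc_12_12 lc_c_rc_7_5 lc_c_rc_22_9 lc_c_rc_22_9 lc_c_rc_11_1 lc_c_rc_11_1 lc_c_rc_11_1 lc_c_rc_11_1 lc_c_rc_2_1 lc_c_rc_11_1 lc_c_rc_11_1 lc_c_rc_13_2 lc_c_rc_7_3 lc_c_rc_2_1 lc_c_rc_25_13 lc_c_rc_12_14 lc_c_rc_11_1 lc_c_rc_11_1 lc_c_rc_13_2 lc_c_rc_11_1 lc_c_rc_13_2 lc_c_rc_11_1 lc_c_rc_26_4 lc_c_rc_13_2 lc_c_rc_26_4 lc_c_rc_14_2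 lc_c_rc_24_4 lc_c_rc_2_3 lc_c_rc_7_3) (@D3.rec (fun _ => (Cert rels S Gen.c)) lc_c_rc_22_9 lc_c_rc_26_4 lc_c_rc_26_2 lc_c_rc_22_3 lc_c_rc_26_2 lc_c_rc_11_1 lc_c_rc_24_2 lc_c_rc_13_2 lc_c_rc_22_3 lc_c_rc_22_5 lc_c_rc_24_4 lc_c_rc_26_8 lc_c_rc_13_2 lc_c_rc_22_5 lc_c_rc_13_2 lc_c_rc_11_1 lc_c_rc_11_1 lc_c_rc_23_0 lc_c_rc_13_2 lc_c_rc_24_6 lc_c_rc_13_2 lc_c_rc_22_3 lc_c_rc_7_3 lc_c_rc_14_2 lc_c_rc_11_1 lc_c_rc_13_2 lc_c_rc_22_5 lc_c_rc_7_1 lc_c_rc_11_1 lc_c_rc_14_2 lc_c_rc_13_2 lc_c_rc_13_2 lc_c_rc_22_5 lc_c_rc_11_1 lc_c_rc_11_1 lc_c_rc_7_1 lc_c_rc_22_5 lc_c_rc_13_2 lc_c_rc_11_1 lc_c_rc_26_4 lc_c_rc_11_1 lc_c_rc_14_2 lc_c_rc_14_0 lc_c_rc_22_3 lc_c_rc_13_2 lc_c_rc_11_1 lc_c_rc_13_2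 lc_c_rc_7_5 lc_c_rc_14_2 lc_c_rc_26_4 lc_c_rc_22_3 lc_c_rc_13_2 lc_c_rc_7_3 lc_c_rc_13_0 lc_c_rc_26_4 lc_c_rc_13_2 lc_c_rc_26_2 lc_c_rc_26_10 lc_c_rc_7_1 lc_c_rc_22_3 lc_c_rc_26_4 lc_c_rc_13_2) (@D3.rec (fun _ => (Cert rels S Gen.c)) lc_c_rc_24_6 lc_c_rc_2_3 lc_c_rc_26_2 lc_c_rc_13_2 lc_c_rc_13_0 lc_c_rc_13_0 lc_c_rc_13_0 lc_c_rc_11_1 lc_c_rc_11_1 lc_c_rc_12_14 lc_c_rc_22_3 lc_c_rc_13_2 lc_c_rc_2_3 lc_c_rc_13_2 lc_c_rc_22_5 lc_c_rc_7_1 lc_c_rc_13_2 lc_c_rc_7_1 lc_c_rc_13_2 lc_c_rc_13_2 lc_c_rc_11_1 lc_c_rc_11_1 lc_c_rc_11_1 lc_c_rc_11_1 lc_c_rc_26_8 lc_c_rc_23_0 lc_c_rc_24_4 lc_c_rc_11_1 lc_c_rc_22_3 lc_c_rc_11_1 lc_c_rc_13_2 lc_c_rc_7_3 lc_c_rc_13_2 lc_c_rc_24_4 lc_c_rc_13_0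 lc_c_rc_23_5 lc_c_rc_14_2 lc_c_rc_22_7 lc_c_rc_11_1 lc_c_rc_13_2 lc_c_rc_13_2 lc_c_rc_13_2 lc_c_rc_25_13 lc_c_rc_23_5 lc_c_rc_24_4 lc_c_rc_23_5 lc_c_rc_24_6 lc_c_rc_11_1 lc_c_rc_22_3 lc_c_rc_23_0 lc_c_rc_26_2 lc_c_rc_24_2 lc_c_rc_11_1 lc_c_rc_11_1 lc_c_rc_12_14 lc_c_rc_14_2 lc_c_rc_22_7 lc_c_rc_26_4 lc_c_rc_13_0 lc_c_rc_14_2 lc_c_rc_25_5 lc_c_rc_11_1) (@D3.rec (fun _ => (Cert rels S Gen.c)) lc_c_rc_23_0 lc_c_rc_23_0 lc_c_rc_13_2 lc_c_rc_24_4 lc_c_rc_11_1 lc_c_rc_13_2 lc_c_rc_7_5 lc_c_rc_25_9 lc_c_rc_26_4 lc_c_rc_11_1 lc_c_rc_7_5 lc_c_rc_26_4 lc_c_rc_23_0 lc_c_rc_22_3 lc_c_rc_26_10 lc_c_rc_13_2 lc_c_rc_13_2 lc_c_rc_11_1 lc_c_rc_26_10 lc_c_rc_2_3 lc_c_rc_7_1 lc_c_rc_2_3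 lc_c_rc_11_1 lc_c_rc_7_1 lc_c_rc_13_2 lc_c_rc_24_2 lc_c_rc_2_1 lc_c_rc_24_6 lc_c_rc_13_2 lc_c_rc_22_3 lc_c_rc_7_1 lc_c_rc_2_3 lc_c_rc_13_2 lc_c_rc_22_5 lc_c_rc_11_1 lc_c_rc_13_2 lc_c_rc_11_1 lc_c_rc_11_1 lc_c_rc_11_1 lc_c_rc_7_3 lc_c_rc_25_13 lc_c_rc_26_2 lc_c_rc_23_0 lc_c_rc_13_2 lc_c_rc_13_2 lc_c_rc_13_2 lc_c_rc_7_3 lc_c_rc_7_3 lc_c_rc_13_2 lc_c_rc_24_4 lc_c_rc_24_2 lc_c_rc_13_2 lc_c_rc_2_1 lc_c_rc_13_2 lc_c_rc_26_2 lc_c_rc_11_1 lc_c_rc_13_2 lc_c_rc_7_1 lc_c_rc_26_8 lc_c_rc_24_4 lc_c_rc_11_1 lc_c_rc_13_2) (@D3.rec (fun _ => (Cert rels S Gen.c)) lc_c_rc_11_1 lc_c_rc_2_1 lc_c_rc_13_2 lc_c_rc_11_1 lc_c_rc_23_0 lc_c_rc_24_2 lc_c_rc_22_3 lc_c_rc_26_2 lc_c_rc_13_2 lc_c_rc_11_1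 lc_c_rc_13_0 lc_c_rc_22_9 lc_c_rc_11_1 lc_c_rc_7_3 lc_c_rc_14_2 lc_c_rc_26_2 lc_c_rc_2_1 lc_c_rc_11_1 lc_c_rc_11_1 lc_c_rc_26_8 lc_c_rc_7_3 lc_c_rc_26_10 lc_c_rc_7_1 lc_c_rc_22_7 lc_c_rc_7_5 lc_c_rc_25_9 lc_c_rc_25_5 lc_c_rc_14_2 lc_c_rc_11_1 lc_c_rc_22_3 lc_c_rc_22_5 lc_c_rc_25_5 lc_c_rc_24_2 lc_c_rc_13_2 lc_c_rc_13_2 lc_c_rc_26_10 lc_c_rc_13_2 lc_c_rc_23_0 lc_c_rc_23_5 lc_c_rc_13_2 lc_c_rc_7_5 lc_c_rc_13_0 lc_c_rc_11_1 lc_c_rc_13_0 lc_c_rc_23_0 lc_c_rc_11_1 lc_c_rc_14_2 lc_c_rc_11_1 lc_c_rc_24_4 lc_c_rc_24_8 lc_c_rc_22_5 lc_c_rc_11_1 lc_c_rc_7_5 lc_c_rc_2_1 lc_c_rc_24_6 lc_c_rc_13_2 lc_c_rc_13_2 lc_c_rc_22_7 lc_c_rc_2_3 lc_c_rc_11_1 lc_c_rc_22_3 lc_c_rc_25_5) (@D3.rec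 (fun _ => (Cert rels S Gen.c)) lc_c_rc_7_5 lc_c_rc_2_1 lc_c_rc_7_3 lc_c_rc_26_10 lc_c_rc_11_1 lc_c_rc_22_3 lc_c_rc_26_4 lc_c_rc_13_2 lc_c_rc_14_2 lc_c_rc_11_1 lc_c_rc_11_1 lc_c_rc_11_1 lc_c_rc_26_4 lc_c_rc_12_0 lc_c_rc_13_0 lc_c_rc_2_3 lc_c_rc_23_0 lc_c_rc_11_1 lc_c_rc_11_1 lc_c_rc_26_4 lc_c_rc_26_10 lc_c_rc_7_3 lc_c_rc_11_1 lc_c_rc_13_2 lc_c_rc_13_2 lc_c_rc_24_4 lc_c_rc_24_2 lc_c_rc_13_0 lc_c_rc_11_1 lc_c_rc_26_4 lc_c_rc_11_1 lc_c_rc_23_5 lc_c_rc_11_1 lc_c_rc_13_2 lc_c_rc_26_2 lc_c_rc_11_1 lc_c_rc_22_5 lc_c_rc_13_2 lc_c_rc_7_1 lc_c_rc_22_5 lc_c_rc_11_1 lc_c_rc_14_2 lc_c_rc_23_0 lc_c_rc_24_4 lc_c_rc_7_5 lc_c_rc_23_0 lc_c_rc_7_1 lc_c_rc_23_0 lc_c_rc_13_2 lc_c_rc_11_1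 lc_c_rc_22_9 lc_c_rc_12_14 lc_c_rc_26_2 lc_c_rc_2_1 lc_c_rc_24_2 lc_c_rc_13_2 lc_c_rc_12_2 lc_c_rc_24_2 lc_c_rc_25_9 lc_c_rc_11_1 lc_c_rc_2_1 lc_c_rc_11_1) (@D3.rec (fun _ => (Cert rels S Gen.c)) lc_c_rc_14_2 lc_c_rc_26_4 lc_c_rc_13_2 lc_c_rc_23_5 lc_c_rc_22_5 lc_c_rc_24_4 lc_c_rc_11_1 lc_c_rc_23_0 lc_c_rc_22_3 lc_c_rc_7_3 lc_c_rc_23_0 lc_c_rc_11_1 lc_c_rc_13_2 lc_c_rc_25_5 lc_c_rc_13_0 lc_c_rc_26_10 lc_c_rc_14_2 lc_c_rc_14_2 lc_c_rc_22_5 lc_c_rc_24_4 lc_c_rc_24_6 lc_c_rc_22_3 lc_c_rc_11_1 lc_c_rc_7_3 lc_c_rc_22_3 lc_c_rc_13_2 lc_c_rc_13_2 lc_c_rc_13_2 lc_c_rc_14_2 lc_c_rc_26_8 lc_c_rc_26_2 lc_c_rc_13_2 lc_c_rc_13_2 lc_c_rc_11_1 lc_c_rc_11_1 lc_c_rc_11_1 lc_c_rc_11_1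 lc_c_rc_11_1 lc_c_rc_11_1 lc_c_rc_14_2 lc_c_rc_11_1 lc_c_rc_14_0 lc_c_rc_23_0 lc_c_rc_14_2 lc_c_rc_26_2 lc_c_rc_11_1 lc_c_rc_11_1 lc_c_rc_7_3 lc_c_rc_23_0 lc_c_rc_11_1 lc_c_rc_22_7 lc_c_rc_13_0 lc_c_rc_11_1 lc_c_rc_22_3 lc_c_rc_11_1 lc_c_rc_23_0 lc_c_rc_7_3 lc_c_rc_13_2 lc_c_rc_23_0 lc_c_rc_12_0 lc_c_rc_26_8 lc_c_rc_11_1) (@D3.rec (fun _ => (Cert rels S Gen.c)) lc_c_rc_13_2 lc_c_rc_22_5 lc_c_rc_13_2 lc_c_rc_13_0 lc_c_rc_22_5 lc_c_rc_24_6 lc_c_rc_22_3 lc_c_rc_11_1 lc_c_rc_14_2 lc_c_rc_26_2 lc_c_rc_26_2 lc_c_rc_2_1 lc_c_rc_2_3 lc_c_rc_14_2 lc_c_rc_11_1 lc_c_rc_12_0 lc_c_rc_23_5 lc_c_rc_13_2 lc_c_rc_2_3 lc_c_rc_11_1 lc_c_rc_7_5 lc_c_rc_24_2 lc_c_rc_11_1 lc_c_rc_22_9 lc_c_rc_7_3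 lc_c_rc_7_3 lc_c_rc_11_1 lc_c_rc_2_3 lc_c_rc_7_1 lc_c_rc_22_5 lc_c_rc_24_2 lc_c_rc_26_4 lc_c_rc_11_1 lc_c_rc_11_1 lc_c_rc_7_1 lc_c_rc_22_3 lc_c_rc_11_1 lc_c_rc_7_3 lc_c_rc_25_1 lc_c_rc_11_1 lc_c_rc_11_1 lc_c_rc_13_2 lc_c_rc_13_2 lc_c_rc_22_5 lc_c_rc_12_2 lc_c_rc_7_3 lc_c_rc_25_5 lc_c_rc_25_1 lc_c_rc_11_1 lc_c_rc_25_1 lc_c_rc_13_0 lc_c_rc_23_0 lc_c_rc_26_4 lc_c_rc_13_2 lc_c_rc_13_2 lc_c_rc_7_3 lc_c_rc_22_7 lc_c_rc_11_1 lc_c_rc_13_2 lc_c_rc_11_1 lc_c_rc_11_1 lc_c_rc_13_2)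
def ce_c : Pt → (Cert rels S Gen.c) := @Pt.rec (fun _ => (Cert rels S Gen.c)) (@D1.rec (fun _ => D2 → D3 → (Cert rels S Gen.c)) ce_c_0 ce_c_1 ce_c_2 ce_c_3 ce_c_4 ce_c_5 ce_c_6 ce_c_7 ce_c_8 ce_c_9 ce_c_10 ce_c_11 ce_c_12 ce_c_13 ce_c_14 ce_c_15 ce_c_16 ce_c_17 ce_c_18 ce_c_19 ce_c_20 ce_c_21 ce_c_22 ce_c_23 ce_c_24 ce_c_25 ce_c_26 ce_c_27 ce_c_28 ce_c_29 ce_c_30 ce_c_31 ce_c_32)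
def z3_c : D3 → Nat := fun _ => 0
def z2_c : D2 → D3 → Nat := fun _ _ => 0
def sd_c_0 : D2 → D3 → Nat := @D2.rec (fun _ => D3 → Nat) (@D3.rec (fun _ => Nat) 0 0 0 0 0 0 0 0 0 0 0 0 0 0 0 0 0 0 10 0 0 0 0 0 0 0 0 0 0 0 0 0 0 0 0 0 0 0 0 0 0 0 0 0 0 0 0 0 0 0 0 0 0 0 0 0 0 0 0 0 0 0) z3_c z3_c z3_c (@D3.rec (fun _ => Nat) 0 0 0 0 0 0 0 0 0 0 0 0 0 0 0 0 0 0 0 0 0 0 0 0 0 0 0 0 0 0 0 0 0 0 0 0 0 0 0 0 0 0 11 0 0 0 0 0 0 0 0 0 0 0 0 0 0 0 0 0 0 0) z3_c z3_c z3_c z3_c z3_c z3_c z3_c z3_c z3_c z3_c z3_c z3_c z3_c z3_c z3_c (@D3.rec (fun _ => Nat) 0 0 0 0 0 0 0 0 0 0 0 0 0 0 0 0 0 0 0 0 0 0 0 0 0 0 0 0 0 0 0 0 0 0 0 0 0 0 0 0 0 0 0 0 0 0 0 0 0 0 0 0 0 0 0 0 0 0 0 52 0 0) z3_c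 (@D3.rec (fun _ => Nat) 0 0 0 0 0 0 0 0 0 0 0 0 0 43 44 0 0 0 0 0 0 0 0 0 0 0 0 0 0 0 0 0 0 0 0 0 0 0 0 0 45 0 0 0 0 0 0 0 0 0 0 0 0 0 0 0 0 0 0 0 0 0) z3_c z3_c z3_c z3_c z3_c z3_c z3_c z3_c z3_c z3_c z3_c z3_c z3_c z3_c z3_c z3_c z3_c z3_c z3_c z3_c z3_c z3_c z3_c z3_c z3_c z3_c z3_c z3_c z3_c z3_c z3_c z3_c z3_c z3_c z3_c z3_c z3_c
def sd_c_1 : D2 → D3 → Nat := @D2.rec (fun _ => D3 → Nat) z3_c z3_c z3_c z3_c z3_c z3_c z3_c z3_c z3_c z3_c z3_c z3_c z3_c z3_c z3_c z3_c z3_c z3_c z3_c z3_c z3_c (@D3.rec (fun _ => Nat) 0 0 0 0 0 0 0 0 0 0 0 0 0 0 0 0 0 0 0 0 0 0 0 0 0 0 0 0 0 0 0 0 0 0 0 0 0 0 0 0 0 0 0 0 0 0 0 119 0 0 0 0 0 0 0 0 0 0 0 0 0 0) z3_c z3_c z3_c z3_c z3_c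 z3_c z3_c z3_c z3_c z3_c z3_c z3_c z3_c z3_c z3_c z3_c z3_c z3_c z3_c z3_c z3_c z3_c z3_c z3_c z3_c z3_c z3_c (@D3.rec (fun _ => Nat) 0 0 0 0 0 0 0 0 0 0 192 0 0 0 0 0 0 0 0 0 0 0 0 0 0 0 0 0 0 0 0 0 0 0 0 0 0 0 0 0 0 0 0 0 0 0 0 0 0 0 0 0 0 0 0 0 0 0 0 0 0 0) (@D3.rec (fun _ => Nat) 0 0 0 0 0 0 0 0 0 0 0 0 0 0 0 0 0 0 190 0 0 0 0 0 0 0 0 0 0 0 0 0 0 0 0 0 0 0 0 0 0 0 0 0 0 0 0 0 0 0 0 0 0 0 0 0 0 0 0 0 0 0) z3_c z3_c z3_c z3_c z3_c z3_c z3_c z3_c z3_c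
def sd_c_3 : D2 → D3 → Nat := @D2.rec (fun _ => D3 → Nat) z3_c z3_c z3_c z3_c z3_c (@D3.rec (fun _ => Nat) 0 0 0 0 0 0 0 0 0 0 0 0 0 0 0 0 115 0 0 0 0 0 0 0 0 0 0 0 0 0 0 0 0 0 0 0 0 0 0 0 0 0 0 0 0 0 0 0 0 0 0 0 0 0 0 0 0 0 0 0 0 0) z3_c z3_c z3_c (@D3.rec (fun _ => Nat) 0 0 0 0 0 0 0 0 0 0 0 0 0 0 0 0 0 0 0 0 35 0 0 0 0 0 0 0 0 0 0 0 0 0 0 0 0 0 0 0 0 0 0 0 0 0 0 0 0 0 0 0 0 0 0 0 0 0 0 0 0 0) z3_c z3_c z3_c (@D3.rec (fun _ => Nat) 0 0 0 0 0 0 0 0 0 0 0 0 0 0 0 33 0 0 0 0 0 0 0 0 0 0 0 0 0 0 0 0 0 0 0 0 0 0 0 0 0 0 0 0 0 0 0 0 0 0 0 0 0 0 0 0 0 0 0 0 0 0) (@D3.rec (fun _ => Nat) 0 0 0 0 0 0 0 0 0 0 0 0 0 0 0 0 0 323 0 0 0 0 0 0 0 0 0 0 0 0 0 0 0 0 0 0 0 0 0 0 0 0 0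 0 0 0 0 0 0 0 0 0 0 0 0 0 0 0 0 0 0 0) z3_c z3_c z3_c z3_c z3_c z3_c z3_c z3_c z3_c z3_c z3_c z3_c z3_c z3_c z3_c z3_c z3_c z3_c z3_c z3_c z3_c z3_c z3_c (@D3.rec (fun _ => Nat) 0 0 0 0 0 0 0 0 0 0 0 0 0 0 0 0 0 0 0 0 0 47 0 0 0 0 0 0 0 0 0 0 0 0 0 0 0 0 0 0 0 0 0 0 0 0 0 0 0 0 0 0 0 0 0 0 0 0 0 0 0 0) (@D3.rec (fun _ => Nat) 0 0 0 0 0 0 0 0 0 0 0 0 0 0 0 0 0 0 0 0 0 0 0 0 0 0 0 0 0 0 0 0 0 0 0 0 0 0 0 0 0 0 0 0 194 0 0 0 0 0 0 0 0 0 0 0 0 0 0 0 0 0) z3_c z3_c z3_c z3_c z3_c (@D3.rec (fun _ => Nat) 0 0 0 0 0 0 0 0 0 0 0 0 0 0 0 0 0 0 0 0 0 356 0 0 0 487 0 0 0 0 0 0 0 0 0 0 0 0 0 0 0 0 0 0 0 0 0 0 0 0 0 0 0 0 0 0 0 0 0 0 0 0) z3_c z3_c z3_c z3_c z3_c (@D3.rec (fun _ =>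 Nat) 0 0 0 0 0 0 0 0 0 0 0 0 0 0 0 0 0 0 0 0 0 0 0 0 0 0 0 0 0 0 0 0 1946 0 0 0 0 0 0 0 0 0 0 0 0 0 0 0 0 0 0 0 0 0 0 0 0 0 0 0 0 0) z3_c (@D3.rec (fun _ => Nat) 0 0 0 0 0 0 0 0 0 0 0 0 0 0 0 0 0 0 0 0 0 0 0 64 0 203 0 0 0 0 0 0 0 390 0 0 0 0 0 0 0 0 0 0 0 0 0 0 0 0 0 0 0 0 0 0 0 0 0 0 0 0) z3_c z3_c z3_c z3_c z3_c z3_c
def sd_c_4 : D2 → D3 → Nat := @D2.rec (fun _ => D3 → Nat) z3_c z3_c z3_c z3_c z3_c z3_c z3_c z3_c z3_c z3_c z3_c z3_c z3_c z3_c z3_c z3_c z3_c z3_c z3_c z3_c z3_c z3_c z3_c z3_c z3_c z3_c z3_c z3_c z3_c z3_c z3_c (@D3.rec (fun _ => Nat) 0 0 0 0 0 0 0 0 0 0 0 1864 0 0 0 0 0 0 0 0 0 0 0 0 0 0 0 0 0 0 0 0 0 0 0 0 0 0 0 0 0 0 0 0 0 0 0 0 0 0 0 0 0 0 0 0 0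 0 0 0 0 0) z3_c z3_c (@D3.rec (fun _ => Nat) 0 0 0 0 0 0 0 0 0 0 0 0 0 0 0 0 0 0 0 0 0 0 0 0 0 0 0 0 0 0 0 0 0 0 0 0 0 120 0 0 0 0 0 0 0 0 0 0 0 0 0 0 0 0 0 0 0 0 0 0 0 0) z3_c z3_c z3_c z3_c z3_c z3_c z3_c z3_c (@D3.rec (fun _ => Nat) 0 0 0 0 0 0 0 0 0 0 0 0 0 0 0 0 0 0 1303 0 0 0 0 0 0 0 0 0 0 0 0 0 0 0 0 0 0 0 0 0 0 0 0 0 0 0 0 0 0 0 0 0 0 0 0 0 0 0 0 0 0 0) z3_c z3_c z3_c z3_c z3_c z3_c (@D3.rec (fun _ => Nat) 0 0 0 0 0 0 0 0 0 0 0 0 0 0 0 0 0 0 0 0 0 0 0 0 0 690 792 0 0 0 0 0 0 0 0 0 0 0 0 0 0 0 0 0 0 0 0 0 0 0 0 0 0 0 0 0 0 0 0 0 0 0) z3_c z3_c z3_c z3_c z3_c z3_c z3_c z3_c z3_c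
def sd_c_5 : D2 → D3 → Nat := @D2.rec (fun _ => D3 → Nat) z3_c z3_c z3_c z3_c z3_c z3_c z3_c z3_c (@D3.rec (fun _ => Nat) 0 0 0 0 0 0 0 0 0 0 0 0 0 0 772 752 0 0 0 0 0 0 0 0 0 0 0 0 0 0 0 0 0 0 0 0 0 0 0 0 0 0 0 0 0 0 0 0 0 0 0 0 0 0 0 0 0 0 0 0 0 0) z3_c z3_c (@D3.rec (fun _ => Nat) 0 0 0 0 0 0 0 0 0 0 0 0 0 0 0 0 0 0 0 0 0 0 0 0 0 0 0 0 0 0 0 0 0 0 0 0 0 0 0 0 0 0 0 0 0 0 0 0 0 2500 2499 0 0 0 0 0 0 0 0 0 0 0) z3_c z3_c (@D3.rec (fun _ => Nat) 0 0 0 0 0 0 0 0 0 0 0 0 0 0 0 0 0 0 0 0 0 0 0 0 0 0 0 0 0 0 0 0 0 0 0 0 0 0 0 0 0 0 0 0 0 0 0 0 0 0 0 0 0 2507 0 0 0 0 0 0 0 0) z3_c (@D3.rec (fun _ => Nat) 0 0 0 0 0 0 0 0 0 0 0 0 0 0 0 0 0 0 0 0 0 0 0 0 0 0 0 0 0 0 0 0 0 0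 0 0 0 0 0 0 0 0 0 0 0 0 0 0 0 0 0 0 2474 0 0 0 0 0 0 0 0 0) z3_c z3_c z3_c z3_c z3_c z3_c z3_c z3_c z3_c z3_c z3_c z3_c z3_c z3_c z3_c z3_c (@D3.rec (fun _ => Nat) 0 0 0 0 0 0 0 0 0 0 0 0 0 0 0 0 0 0 0 769 0 0 0 0 0 0 0 0 0 0 0 0 0 0 0 0 0 0 0 0 0 0 0 0 0 0 0 0 0 0 0 0 0 0 0 0 0 0 0 0 0 0) (@D3.rec (fun _ => Nat) 0 0 0 0 0 0 0 0 0 0 0 0 0 0 0 0 0 0 0 0 0 0 0 0 0 0 0 0 0 0 0 0 0 0 0 0 0 0 0 0 0 0 1043 1042 0 0 0 0 0 0 0 0 0 0 0 0 0 0 0 0 0 0) z3_c z3_c z3_c z3_c z3_c z3_c z3_c (@D3.rec (fun _ => Nat) 0 0 0 0 0 0 0 0 0 0 0 0 0 0 0 0 0 0 914 0 0 0 0 0 0 0 0 0 0 0 0 0 0 0 0 0 0 0 0 0 0 0 0 0 0 0 0 0 0 0 0 0 0 0 0 0 0 0 0 0 0 0) (@D3.rec (fun _ => Nat) 0 0 0 0 0 0 0 0 107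 0 0 0 0 0 0 0 0 0 0 0 0 0 0 0 0 0 0 0 0 0 0 0 0 0 0 0 0 0 0 0 0 0 0 0 0 0 0 0 0 0 0 0 0 0 0 0 0 0 0 0 0 0) z3_c z3_c z3_c z3_c z3_c z3_c z3_c z3_c z3_c z3_c z3_c z3_c z3_c (@D3.rec (fun _ => Nat) 0 0 0 0 0 0 0 0 0 0 0 0 0 0 0 0 0 0 0 0 0 0 0 0 0 0 0 0 0 0 0 0 0 0 0 0 0 0 0 0 0 299 0 0 0 0 0 0 0 0 0 0 0 0 0 0 0 0 0 0 0 0) z3_c z3_c
def sd_c_6 : D2 → D3 → Nat := @D2.rec (fun _ => D3 → Nat) z3_c z3_c z3_c z3_c z3_c z3_c z3_c z3_c (@D3.rec (fun _ => Nat) 0 0 0 0 0 0 0 0 0 0 0 0 0 0 0 0 0 0 0 0 0 0 0 272 0 0 0 0 0 0 0 0 0 0 0 0 0 0 0 0 0 0 0 0 0 0 0 0 0 0 0 0 0 0 0 0 0 0 0 0 0 0) z3_c z3_c (@D3.rec (fun _ => Nat) 0 0 0 0 0 0 0 0 0 0 0 0 0 0 540 0 0 0 0 0 0 0 0 0 0 0 0 0 0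 0 0 0 0 0 0 0 0 0 0 0 0 0 0 0 0 0 0 0 0 0 0 0 0 0 0 867 0 0 0 0 0 0) z3_c z3_c z3_c z3_c z3_c z3_c z3_c (@D3.rec (fun _ => Nat) 0 0 0 0 0 0 0 0 0 742 0 0 0 0 0 0 0 0 0 0 0 0 0 0 0 0 0 0 0 0 0 0 0 0 0 0 0 0 0 0 0 0 0 0 0 0 0 0 0 0 0 0 0 0 0 0 0 0 0 0 0 0) (@D3.rec (fun _ => Nat) 0 0 0 0 0 0 0 0 0 0 0 0 0 0 0 0 0 0 0 0 0 0 0 0 0 0 0 0 0 0 0 0 0 0 0 0 0 0 0 0 786 0 0 0 0 0 0 0 0 0 0 0 0 0 0 0 0 0 0 0 0 0) z3_c z3_c (@D3.rec (fun _ => Nat) 0 321 0 0 0 0 0 0 0 0 0 0 0 0 0 0 0 0 0 0 0 0 0 0 0 0 0 0 0 0 0 0 0 0 0 0 0 0 0 0 0 0 0 0 0 0 0 0 0 0 0 0 0 0 0 0 0 0 0 0 0 0) z3_c z3_c z3_c z3_c (@D3.rec (fun _ => Nat) 0 0 0 0 0 0 0 0 0 0 0 0 0 0 0 0 0 728 0 0 0 0 0 0 0 0 0 0 0 0 0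 0 0 0 0 0 0 0 0 0 0 0 0 0 0 0 0 0 0 0 0 0 0 0 0 0 0 0 0 0 0 0) z3_c z3_c z3_c z3_c z3_c (@D3.rec (fun _ => Nat) 0 0 0 0 0 0 0 0 0 0 0 0 0 0 0 0 0 0 0 0 0 0 0 0 0 0 0 0 0 0 0 0 0 0 0 0 0 0 1333 0 0 0 0 0 0 0 0 0 0 0 0 0 0 0 0 0 0 0 0 0 0 0) (@D3.rec (fun _ => Nat) 0 0 0 0 0 0 0 0 0 0 0 0 0 0 0 0 0 0 0 0 0 0 0 0 0 0 0 0 0 1248 0 0 0 0 0 0 0 0 0 0 0 0 0 0 0 0 0 0 0 0 0 0 0 0 0 0 0 0 0 0 0 0) z3_c z3_c z3_c (@D3.rec (fun _ => Nat) 0 0 0 0 0 0 0 0 0 0 0 0 0 0 0 0 0 0 0 0 0 0 0 0 0 0 0 0 0 0 0 0 0 0 0 0 0 0 0 0 0 789 0 0 0 0 0 0 0 0 0 0 0 0 0 0 0 0 0 0 0 0) (@D3.rec (fun _ => Nat) 0 0 0 0 0 0 0 385 0 0 0 0 0 0 0 0 0 0 0 0 0 0 0 0 0 0 0 0 0 0 0 0 0 0 0 0 0 0 0 0 0 0 0 0 0 0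 0 0 0 0 0 0 0 0 0 0 0 0 0 0 0 0) z3_c z3_c (@D3.rec (fun _ => Nat) 0 0 0 0 0 0 0 0 0 0 0 0 0 0 0 0 0 0 0 0 0 0 0 0 0 0 0 0 0 1308 0 0 0 0 0 0 0 0 0 0 0 0 0 0 0 0 0 0 0 0 0 0 0 0 0 0 0 0 0 0 0 0) z3_c z3_c z3_c (@D3.rec (fun _ => Nat) 0 0 0 0 0 0 0 0 0 0 0 0 0 0 0 0 0 0 0 0 0 0 0 0 0 0 0 0 0 0 0 0 0 0 0 0 0 0 0 0 0 0 0 0 0 0 0 0 0 0 0 0 0 0 0 0 0 0 265 0 0 0) z3_c z3_c (@D3.rec (fun _ => Nat) 0 0 0 0 0 0 0 0 0 0 0 0 0 0 0 0 0 0 0 0 0 0 0 0 0 0 0 0 0 0 0 702 0 0 0 0 0 0 0 0 0 269 0 0 0 0 0 0 0 0 0 0 0 0 0 0 0 0 0 0 0 0) z3_c z3_c z3_c z3_c z3_c z3_c z3_c z3_c (@D3.rec (fun _ => Nat) 0 0 0 0 0 0 0 0 0 0 0 0 0 0 0 0 0 0 0 0 0 0 0 0 0 0 1251 1249 0 0 0 0 0 0 0 0 0 0 0 0 0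 0 0 0 0 0 0 0 0 0 0 0 0 0 0 0 0 0 0 0 0 0)
def sd_c_7 : D2 → D3 → Nat := @D2.rec (fun _ => D3 → Nat) (@D3.rec (fun _ => Nat) 0 0 0 0 0 0 0 0 0 0 0 0 0 0 0 0 0 0 0 0 0 0 0 0 104 0 0 0 0 0 0 0 0 0 0 0 0 0 0 0 0 0 0 0 0 0 0 0 0 0 0 0 0 0 0 0 0 0 0 1190 0 0) z3_c z3_c z3_c z3_c z3_c (@D3.rec (fun _ => Nat) 0 0 0 0 0 0 0 0 0 0 0 0 0 0 0 0 0 0 0 0 0 0 0 0 0 0 0 0 0 0 0 0 0 0 0 0 0 0 0 0 0 0 0 0 0 0 0 0 0 0 0 0 0 0 0 0 0 0 0 0 0 463) z3_c (@D3.rec (fun _ => Nat) 0 0 0 0 0 0 0 0 0 0 0 0 0 0 0 0 0 0 0 0 0 0 0 0 0 0 0 0 0 0 0 0 0 0 0 0 0 0 0 0 0 0 0 0 0 0 0 0 0 0 0 0 0 0 0 0 0 0 0 0 0 189) (@D3.rec (fun _ => Nat) 0 0 0 0 0 0 0 0 0 0 0 0 0 0 0 0 0 0 0 0 0 0 0 0 0 0 0 195 0 0 0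 0 0 394 0 0 0 0 0 0 0 0 0 0 0 0 0 0 0 0 0 0 0 0 0 1572 0 0 0 0 0 0) z3_c z3_c z3_c z3_c z3_c (@D3.rec (fun _ => Nat) 0 0 0 0 0 0 0 0 0 0 0 0 0 0 0 0 0 0 0 0 0 0 0 0 0 0 0 74 0 0 0 0 0 0 0 0 0 0 0 0 495 0 0 0 0 0 0 0 561 0 0 0 0 0 0 0 0 0 0 0 0 0) (@D3.rec (fun _ => Nat) 0 0 0 0 0 0 0 0 0 0 0 0 0 0 0 0 0 0 0 0 0 0 0 0 0 0 0 0 0 0 0 0 0 0 0 0 0 0 411 0 0 0 0 0 0 0 0 0 0 0 0 0 0 0 0 0 193 0 0 0 0 0) z3_c z3_c z3_c (@D3.rec (fun _ => Nat) 0 0 0 0 0 0 0 0 0 0 0 0 0 0 0 0 0 0 0 0 0 0 0 0 0 0 0 0 0 0 0 0 0 0 0 0 0 0 0 0 0 0 0 0 0 0 0 0 0 0 0 0 0 1587 0 0 0 0 0 0 0 0) z3_c z3_c z3_c z3_c z3_c z3_c z3_c (@D3.rec (fun _ => Nat) 0 0 0 0 0 0 549 0 0 0 0 0 0 0 0 0 0 0 0 0 0 0 0 0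 0 0 0 0 0 0 0 0 0 0 0 0 0 0 0 0 0 0 0 0 0 0 0 0 0 0 0 0 0 0 0 0 0 0 0 0 0 0) z3_c z3_c (@D3.rec (fun _ => Nat) 0 0 0 0 0 0 0 0 0 0 0 0 0 0 0 0 0 0 0 0 0 0 0 0 0 0 0 0 0 0 0 0 0 0 0 0 0 0 0 0 0 0 0 0 0 0 0 1109 0 0 0 0 0 0 0 0 0 0 0 0 0 0) (@D3.rec (fun _ => Nat) 0 0 0 0 0 0 0 0 0 0 0 0 0 0 0 0 0 0 0 0 0 0 0 0 0 0 0 0 0 0 0 0 0 403 0 0 0 0 0 0 0 0 0 0 0 0 0 0 0 0 0 0 0 0 0 0 0 0 0 0 0 0) z3_c (@D3.rec (fun _ => Nat) 0 0 0 0 0 0 0 0 0 0 0 0 0 0 0 0 0 0 0 0 0 0 0 0 0 0 0 0 0 0 0 0 0 0 0 0 0 0 0 0 0 0 0 0 0 0 0 0 0 0 0 0 0 0 0 0 0 0 761 0 0 0) (@D3.rec (fun _ => Nat) 0 0 0 0 0 0 0 0 0 0 0 1711 0 0 0 0 0 0 0 0 0 0 0 0 0 0 0 0 0 0 0 0 0 0 0 0 0 0 0 0 0 0 0 0 0 0 0 0 0 0 0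 0 0 0 0 0 0 0 0 0 0 0) z3_c z3_c (@D3.rec (fun _ => Nat) 0 0 0 0 679 0 0 0 0 0 0 0 0 0 0 0 0 0 1948 0 0 0 0 0 0 0 0 0 0 0 0 0 0 0 0 0 0 0 0 0 0 0 0 0 0 0 0 0 0 0 0 0 0 0 0 0 0 0 0 0 0 0) z3_c (@D3.rec (fun _ => Nat) 0 0 0 0 0 0 0 0 0 0 0 0 0 0 0 0 0 0 0 0 0 0 0 0 0 0 0 0 0 0 0 0 500 0 0 0 0 0 0 0 0 0 0 0 0 0 0 0 0 0 0 0 0 0 0 0 0 0 0 0 0 0) (@D3.rec (fun _ => Nat) 0 0 0 0 0 0 0 0 0 0 0 0 759 0 0 0 0 0 0 0 0 0 0 0 0 0 0 0 0 0 0 0 0 0 0 0 0 0 0 0 0 0 0 0 0 0 0 0 0 0 0 0 0 0 0 0 0 0 0 0 0 0) z3_c z3_c z3_c z3_c z3_c z3_c z3_c z3_c z3_c z3_c z3_c (@D3.rec (fun _ => Nat) 498 0 0 0 0 0 0 1762 0 0 0 0 0 0 0 0 0 0 0 0 0 0 0 0 0 0 0 0 0 0 0 0 0 0 0 0 0 0 0 0 0 0 0 0 0 0 0 0 0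 0 0 0 0 0 0 0 0 0 0 0 0 0) z3_c z3_c z3_c z3_c z3_c z3_c
def sd_c_8 : D2 → D3 → Nat := @D2.rec (fun _ => D3 → Nat) z3_c z3_c z3_c z3_c z3_c z3_c z3_c z3_c z3_c z3_c z3_c z3_c (@D3.rec (fun _ => Nat) 0 0 0 1065 0 0 0 0 0 0 0 0 0 0 0 0 0 0 0 0 0 0 0 0 0 0 0 0 0 0 0 0 0 0 0 0 0 0 0 0 0 0 0 0 0 0 0 0 0 0 0 0 0 0 0 0 0 0 0 0 0 0) z3_c z3_c z3_c z3_c z3_c z3_c z3_c z3_c z3_c z3_c (@D3.rec (fun _ => Nat) 0 0 0 0 0 0 0 0 0 0 0 0 0 0 0 0 0 0 0 0 0 0 0 0 0 0 0 613 0 0 0 0 0 0 0 0 0 0 0 0 0 0 0 0 0 0 0 0 0 0 0 0 0 0 0 0 0 0 0 0 0 0) z3_c z3_c z3_c z3_c z3_c z3_c z3_c z3_c z3_c z3_c z3_c z3_c z3_c z3_c z3_c z3_c z3_c z3_c z3_c z3_c z3_c z3_c z3_c z3_c z3_c z3_c z3_c z3_c z3_c z3_c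 z3_c z3_c z3_c z3_c z3_c z3_c
def sd_c_9 : D2 → D3 → Nat := @D2.rec (fun _ => D3 → Nat) z3_c z3_c z3_c z3_c z3_c z3_c z3_c (@D3.rec (fun _ => Nat) 0 0 0 0 0 0 0 0 0 0 0 0 0 0 0 0 0 0 0 0 0 0 0 0 0 0 0 963 0 0 0 0 0 0 0 0 0 0 0 0 0 0 0 0 0 0 0 0 0 0 0 0 0 0 0 0 0 0 0 0 0 0) z3_c z3_c z3_c z3_c (@D3.rec (fun _ => Nat) 0 0 0 0 0 0 0 0 0 0 0 0 821 0 0 0 0 0 0 0 0 0 0 0 0 0 0 0 0 0 0 0 0 0 0 0 0 0 0 0 0 0 0 0 0 0 0 0 0 0 0 0 0 0 0 0 0 0 0 0 0 0) z3_c z3_c z3_c (@D3.rec (fun _ => Nat) 0 0 0 0 0 0 0 0 0 0 0 0 0 0 0 0 0 0 0 0 0 0 0 0 0 0 0 0 0 0 0 0 0 0 0 0 0 0 0 0 0 0 0 0 0 0 0 0 0 0 0 0 0 0 0 0 1376 0 0 0 0 0) z3_c z3_c z3_c (@D3.rec (fun _ => Nat) 0 0 0 0 0 0 0 0 0 0 0 0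 0 0 0 0 0 0 0 0 0 0 0 0 0 0 0 0 0 0 0 0 0 0 0 0 0 0 0 0 0 0 0 0 0 0 0 0 0 1187 0 0 0 0 0 0 0 0 0 0 0 0) z3_c z3_c z3_c z3_c z3_c (@D3.rec (fun _ => Nat) 0 0 0 0 0 0 0 0 0 0 0 0 0 0 0 0 0 0 0 0 0 0 0 0 0 0 0 0 0 0 0 2339 0 0 0 0 0 0 0 0 0 0 0 0 0 0 0 0 0 0 0 0 0 0 0 0 0 0 0 0 0 0) z3_c z3_c z3_c z3_c z3_c (@D3.rec (fun _ => Nat) 0 0 0 0 0 0 0 0 0 0 0 0 0 0 0 0 0 0 0 0 0 0 0 0 0 0 0 0 0 0 0 0 0 0 0 0 0 0 0 0 0 0 0 0 0 0 0 0 0 0 0 0 0 114 0 0 0 0 0 0 0 0) z3_c z3_c (@D3.rec (fun _ => Nat) 0 0 0 260 0 0 0 0 0 0 0 0 0 0 0 0 0 0 0 0 0 0 0 0 0 0 0 0 0 0 0 0 0 0 0 0 0 0 0 0 0 0 0 0 0 0 0 0 0 0 0 0 0 0 0 0 0 0 0 0 0 0) z3_c z3_c z3_c z3_c z3_c z3_c z3_c z3_c z3_c z3_c (@D3.rec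 (fun _ => Nat) 0 0 0 0 0 0 0 0 0 0 0 0 0 0 0 0 0 0 0 0 0 0 0 0 0 0 0 0 0 0 0 0 0 0 0 0 0 0 0 286 0 0 0 0 0 0 0 0 0 0 0 0 0 0 0 0 0 0 0 0 0 0) z3_c z3_c (@D3.rec (fun _ => Nat) 0 0 0 0 0 0 0 0 0 0 0 0 0 0 0 0 0 0 0 0 0 0 0 0 0 0 0 662 0 0 0 0 0 0 0 0 0 0 0 0 0 0 0 0 0 0 0 0 0 0 0 0 0 0 0 0 0 0 0 0 0 0) z3_c z3_c z3_c z3_c z3_c z3_c (@D3.rec (fun _ => Nat) 0 0 0 0 0 0 0 0 0 0 0 0 0 842 927 0 0 0 0 0 0 0 0 0 0 0 0 0 0 0 0 0 0 0 0 0 0 0 0 0 0 0 0 0 0 0 0 0 0 0 0 0 0 0 0 0 0 0 0 0 0 0) (@D3.rec (fun _ => Nat) 0 0 0 0 0 0 0 0 0 0 0 0 0 877 876 0 0 0 0 0 0 0 0 0 0 0 0 0 0 0 0 0 0 0 0 0 0 0 0 0 0 0 0 0 0 0 0 0 0 0 0 0 0 0 0 0 0 0 0 0 0 0) z3_c (@D3.rec (fun _ => Nat) 0 0 0 0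 0 0 0 0 1009 1008 0 0 0 0 0 0 0 0 0 0 0 0 0 0 0 0 0 0 0 0 0 0 0 0 0 0 0 0 0 0 0 0 0 0 0 0 0 0 0 0 0 0 0 0 0 0 0 0 0 853 0 0)
def sd_c_10 : D2 → D3 → Nat := @D2.rec (fun _ => D3 → Nat) (@D3.rec (fun _ => Nat) 0 0 0 0 0 0 0 0 0 0 0 0 0 0 0 0 0 0 0 0 0 0 0 0 0 0 0 0 886 864 0 0 0 0 0 0 0 0 0 0 0 0 0 0 0 0 0 0 0 0 0 0 0 0 0 0 0 0 0 0 0 0) z3_c z3_c z3_c (@D3.rec (fun _ => Nat) 0 0 0 0 0 0 0 0 0 0 0 0 0 0 0 0 0 0 0 0 0 0 0 0 0 0 0 0 0 0 0 0 0 0 0 0 0 0 0 0 0 0 0 0 0 0 0 0 0 0 0 2582 0 0 0 0 0 0 0 0 0 0) (@D3.rec (fun _ => Nat) 0 0 0 0 0 0 0 0 0 0 0 0 0 0 0 0 0 0 0 0 0 0 0 0 0 0 0 0 0 116 0 0 0 0 0 0 0 0 0 0 0 0 0 0 0 0 0 0 0 0 0 0 0 0 0 0 0 0 0 0 0 0) z3_c (@D3.rec (fun _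 => Nat) 0 0 0 0 0 0 0 0 0 0 1010 0 0 0 0 0 0 0 0 0 0 0 0 0 0 0 0 0 0 0 0 0 0 0 0 0 0 0 0 0 0 0 0 0 0 0 0 0 0 0 0 0 0 0 0 0 0 0 0 0 0 0) z3_c z3_c z3_c z3_c z3_c (@D3.rec (fun _ => Nat) 0 0 0 0 0 0 0 0 0 0 0 0 0 0 0 0 0 0 0 0 0 0 0 0 0 1086 0 0 0 0 0 0 0 0 0 0 0 0 0 0 0 0 0 0 0 0 0 0 0 0 0 0 0 0 0 0 0 0 0 0 0 0) (@D3.rec (fun _ => Nat) 0 0 0 0 0 0 0 0 0 0 0 0 0 0 0 0 0 0 0 0 0 0 0 0 0 0 865 885 0 0 0 0 0 0 0 0 0 0 0 0 0 0 0 0 0 0 0 0 0 0 0 0 0 0 0 0 0 0 0 0 0 0) z3_c z3_c z3_c (@D3.rec (fun _ => Nat) 0 0 0 0 0 0 0 0 0 0 0 0 0 0 0 0 0 0 0 0 0 0 0 0 0 0 0 0 0 0 0 0 0 0 0 0 0 0 0 0 0 0 0 0 0 0 0 0 0 2038 0 0 0 0 0 0 0 0 0 0 0 0) z3_c z3_c z3_c z3_c (@D3.rec (fun _ => Nat)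 0 0 0 0 0 0 0 0 0 0 0 0 0 0 0 0 0 2473 0 0 0 0 0 0 0 0 0 0 0 0 0 0 0 0 0 0 0 0 0 0 0 0 0 0 0 0 0 0 0 0 0 0 0 0 0 0 0 0 0 0 0 0) z3_c z3_c z3_c z3_c z3_c z3_c z3_c z3_c z3_c z3_c z3_c z3_c z3_c z3_c z3_c z3_c z3_c z3_c z3_c z3_c z3_c z3_c z3_c z3_c (@D3.rec (fun _ => Nat) 0 0 0 0 0 0 0 0 287 0 0 0 0 0 0 0 0 0 0 0 0 0 0 0 0 0 0 0 0 0 0 0 0 0 0 0 0 0 0 0 0 0 0 0 0 0 0 0 0 0 0 0 0 0 0 0 0 0 0 0 0 0) z3_c z3_c z3_c z3_c (@D3.rec (fun _ => Nat) 0 0 0 0 883 0 0 0 0 0 0 0 0 0 0 0 0 0 0 0 0 0 0 0 0 0 0 0 0 0 0 0 0 0 0 0 0 0 0 0 0 0 0 0 0 0 0 0 0 0 0 0 0 0 0 0 0 0 0 0 0 0) z3_c z3_c z3_c z3_c z3_c z3_c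
def sd_c_11 : D2 → D3 → Nat := @D2.rec (fun _ => D3 → Nat) z3_c z3_c z3_c z3_c z3_c z3_c (@D3.rec (fun _ => Nat) 0 0 0 0 0 0 0 0 0 0 0 0 0 0 0 0 0 0 0 0 0 0 0 0 0 0 0 0 0 0 0 0 0 0 0 0 0 0 0 0 0 0 875 0 0 0 0 0 0 0 0 0 0 0 0 0 0 0 0 0 0 0) z3_c z3_c z3_c z3_c (@D3.rec (fun _ => Nat) 0 0 0 0 0 0 0 0 0 0 0 0 0 2768 0 0 0 0 0 0 0 0 0 0 0 0 0 0 0 0 0 0 0 0 0 0 0 0 0 0 0 0 0 0 0 0 0 0 0 0 0 0 0 0 0 0 0 0 0 0 0 0) (@D3.rec (fun _ => Nat) 0 0 0 0 0 0 0 0 0 0 0 0 2838 0 0 1865 0 2182 0 0 0 0 0 0 0 0 0 0 0 0 0 0 0 0 0 0 0 0 0 0 0 0 0 0 0 0 0 0 0 0 0 0 0 0 0 0 0 0 0 0 0 0) z3_c (@D3.rec (fun _ => Nat) 0 0 0 0 0 0 0 0 0 0 0 0 0 0 0 0 0 0 0 0 0 0 0 0 0 0 0 0 0 0 0 0 0 0 0 0 0 0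 0 0 0 0 0 0 0 0 0 0 0 0 0 0 0 0 0 0 0 1084 0 0 0 0) z3_c z3_c z3_c z3_c z3_c (@D3.rec (fun _ => Nat) 0 0 0 0 0 2817 0 0 0 0 0 0 0 0 0 0 0 0 0 0 0 0 0 0 0 0 0 0 0 0 0 0 0 0 0 0 0 0 0 0 0 0 0 0 0 0 0 0 0 0 0 0 0 0 0 0 0 0 0 0 0 0) z3_c z3_c z3_c (@D3.rec (fun _ => Nat) 0 0 0 0 0 0 0 0 0 0 0 0 0 0 0 0 0 0 0 0 0 0 0 0 0 0 0 1143 0 0 0 0 0 0 0 0 0 0 0 0 0 0 0 0 0 0 0 0 0 0 0 0 0 0 0 0 0 0 0 0 0 0) (@D3.rec (fun _ => Nat) 0 0 0 0 0 0 0 0 0 0 0 0 0 0 0 0 2243 0 0 0 0 0 0 0 0 0 0 0 0 0 0 0 0 0 0 0 0 0 0 0 0 0 0 0 0 0 0 0 0 0 0 0 0 0 0 0 0 0 0 0 0 0) (@D3.rec (fun _ => Nat) 0 0 894 0 0 0 0 0 0 0 0 0 0 0 0 0 0 0 0 0 0 0 0 0 0 0 0 0 0 0 0 0 0 0 0 0 0 0 0 0 0 302 0 0 0 0 0 0 0 0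 0 0 0 0 0 0 0 0 0 0 0 0) (@D3.rec (fun _ => Nat) 0 0 0 0 0 0 0 0 0 0 0 0 0 0 0 0 0 0 1127 0 0 0 0 0 0 0 0 0 0 0 0 0 0 0 0 0 0 0 0 0 0 0 0 0 0 0 2583 0 0 0 0 0 0 0 0 0 0 0 642 643 0 0) (@D3.rec (fun _ => Nat) 0 0 0 0 0 0 0 0 0 0 0 0 0 0 0 0 2898 0 0 0 0 0 0 0 0 0 0 0 0 0 0 0 0 0 0 0 0 0 0 0 0 0 0 0 0 0 0 0 0 0 0 0 0 0 0 0 0 0 0 0 0 0) z3_c z3_c z3_c (@D3.rec (fun _ => Nat) 0 0 0 0 0 0 0 0 0 0 0 0 0 0 0 0 2203 0 0 0 0 0 0 0 0 0 0 0 0 0 0 0 0 0 0 0 0 0 0 0 0 0 0 0 0 0 0 0 0 0 0 0 0 0 0 0 0 0 0 0 0 0) z3_c z3_c z3_c z3_c z3_c z3_c (@D3.rec (fun _ => Nat) 0 0 0 0 0 0 0 0 0 0 0 533 0 0 0 0 0 0 0 0 0 0 0 0 0 0 0 0 0 0 0 0 0 0 0 0 0 0 0 0 0 0 0 0 0 0 0 0 0 0 0 0 0 0 0 0 0 0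 0 0 0 0) (@D3.rec (fun _ => Nat) 0 0 0 0 0 0 0 0 0 0 0 0 0 0 0 0 0 0 0 0 0 0 0 0 0 0 0 0 0 0 0 0 0 0 0 0 0 0 0 0 0 0 2633 0 0 0 0 0 0 0 0 0 0 0 0 0 0 0 0 0 0 0) z3_c z3_c z3_c z3_c (@D3.rec (fun _ => Nat) 0 0 0 0 0 0 0 0 0 0 0 0 0 0 0 0 0 0 0 0 0 0 0 0 0 0 0 0 0 0 0 0 2334 0 0 0 0 0 0 0 0 0 0 0 0 0 0 0 0 0 0 0 0 0 0 0 0 0 0 0 0 0) z3_c z3_c (@D3.rec (fun _ => Nat) 0 0 0 0 0 0 0 0 0 0 0 0 0 0 0 0 0 0 0 0 0 0 0 0 0 0 0 0 0 534 0 0 0 0 0 0 0 0 0 0 0 0 0 0 0 0 0 0 0 0 0 0 0 0 0 0 0 0 0 0 0 0) z3_c (@D3.rec (fun _ => Nat) 0 0 0 0 0 0 0 0 0 0 0 0 0 0 0 0 0 0 0 0 0 0 0 0 0 0 0 0 0 0 0 0 0 0 0 0 0 0 0 0 0 0 0 0 0 0 0 0 0 0 0 0 0 0 0 0 0 0 0 0 0 2511) (@D3.rec (fun _ => Nat)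 0 0 0 0 0 0 0 0 0 0 0 0 0 2793 0 0 0 0 0 0 0 0 0 0 0 0 0 0 0 0 0 0 0 0 0 0 0 0 0 0 0 0 0 0 0 0 0 0 0 0 0 0 0 0 0 0 0 0 0 129 0 0) z3_c z3_c z3_c z3_c z3_c z3_c z3_c z3_c
def sd_c_12 : D2 → D3 → Nat := @D2.rec (fun _ => D3 → Nat) z3_c (@D3.rec (fun _ => Nat) 0 0 0 0 0 0 0 0 0 0 0 0 0 0 0 0 0 0 0 3064 0 0 0 0 0 0 0 0 0 0 0 0 0 0 0 0 0 0 0 0 0 0 0 0 0 1255 0 0 0 0 0 0 0 0 0 0 0 0 0 773 0 0) (@D3.rec (fun _ => Nat) 0 0 0 0 0 0 0 0 0 0 0 0 0 0 0 0 0 0 0 0 0 0 0 0 0 0 0 0 0 0 0 0 0 0 0 0 0 0 0 0 1358 0 0 0 0 0 0 0 0 0 0 0 0 0 0 0 0 0 0 0 0 0) z3_c z3_c z3_c z3_c (@D3.rec (fun _ => Nat) 2146 0 0 0 0 0 0 0 0 0 0 0 0 0 0 0 0 0 0 0 0 0 0 0 0 0 0 0 0 0 0 0 0 0 0 0 0 0 0 0 0 0 0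 0 0 0 0 0 0 0 0 0 0 0 0 0 0 0 0 0 0 0) (@D3.rec (fun _ => Nat) 0 0 1134 0 0 0 0 0 0 0 0 0 0 0 0 0 0 0 0 0 0 0 0 0 0 0 0 0 0 0 0 0 0 0 0 0 0 0 0 0 0 0 0 0 0 0 0 0 0 0 0 0 0 0 0 0 0 0 0 0 0 0) z3_c (@D3.rec (fun _ => Nat) 0 0 0 0 0 0 0 0 0 0 0 0 0 0 0 0 0 0 0 0 0 0 0 0 0 0 0 0 0 0 2250 0 0 0 0 0 0 0 0 0 0 0 0 0 0 0 0 0 0 0 0 0 0 0 0 0 0 0 0 0 0 0) z3_c z3_c z3_c (@D3.rec (fun _ => Nat) 0 0 0 0 0 0 0 0 0 0 0 0 0 731 0 0 0 0 0 0 0 0 0 0 0 0 0 0 0 0 0 0 1233 0 762 0 0 0 0 0 0 0 0 0 0 0 0 0 0 0 0 0 0 0 0 0 0 0 0 0 0 0) (@D3.rec (fun _ => Nat) 0 0 0 0 0 0 0 0 0 0 0 0 0 0 0 0 0 0 0 0 0 0 0 0 0 0 0 0 0 0 0 0 0 0 0 0 0 0 0 0 0 1539 0 0 0 0 0 0 0 0 0 0 0 0 0 0 0 0 0 0 0 0) (@D3.rec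 (fun _ => Nat) 0 0 0 1930 788 0 0 0 0 0 0 0 0 0 0 0 0 0 0 0 0 0 0 0 0 0 0 0 0 0 0 0 0 0 0 0 0 0 0 0 0 0 0 0 0 0 0 0 0 0 0 0 0 0 0 0 0 0 0 0 0 0) z3_c z3_c z3_c (@D3.rec (fun _ => Nat) 1185 0 0 0 0 0 0 0 0 0 0 0 0 0 0 0 0 0 0 0 0 0 0 0 0 1199 0 0 0 0 0 0 0 0 0 0 0 0 0 0 0 0 0 0 0 0 0 0 0 0 0 0 0 0 0 0 0 0 0 0 0 0) z3_c (@D3.rec (fun _ => Nat) 0 0 0 0 0 0 0 0 0 0 0 0 0 0 0 0 0 0 0 0 0 0 0 0 0 0 0 0 0 0 0 0 0 0 0 0 0 0 0 0 0 0 0 0 0 0 0 0 0 0 0 0 0 0 0 0 0 0 0 692 0 0) z3_c (@D3.rec (fun _ => Nat) 0 0 0 0 0 0 0 0 0 0 0 0 0 0 0 0 0 0 0 0 0 0 0 0 0 0 0 0 0 0 0 0 0 0 0 0 0 0 0 0 1899 0 0 0 0 0 0 0 0 0 0 0 0 0 0 0 0 0 0 0 0 0) (@D3.rec (fun _ => Nat) 0 0 0 0 0 0 0 0 0 0 0 0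 0 0 0 0 0 0 0 0 0 0 0 0 0 0 0 0 0 0 0 0 0 0 0 0 0 0 0 0 974 0 0 0 0 0 0 0 0 0 0 0 0 0 0 0 0 0 0 0 0 0) z3_c z3_c z3_c z3_c z3_c (@D3.rec (fun _ => Nat) 0 0 0 0 0 0 0 2905 0 0 0 0 0 0 0 0 0 0 0 0 0 0 0 0 0 0 0 0 0 0 0 0 0 0 0 0 0 0 0 0 0 0 0 0 0 0 0 0 0 0 0 0 0 0 0 0 0 0 0 0 0 0) (@D3.rec (fun _ => Nat) 0 0 0 0 0 0 0 0 0 0 1228 0 0 0 0 0 0 0 0 0 0 0 0 0 0 0 0 0 0 0 0 0 0 0 0 0 0 0 0 0 0 0 0 0 0 0 0 0 0 0 0 0 0 0 0 0 0 0 0 0 0 0) z3_c z3_c z3_c z3_c (@D3.rec (fun _ => Nat) 0 0 0 0 0 0 0 0 0 0 1112 0 0 0 0 0 0 0 0 0 0 0 0 0 0 0 0 0 0 0 0 0 0 0 0 0 0 0 0 0 0 0 0 0 0 0 0 0 0 0 0 0 0 0 0 0 0 0 0 0 0 0) z3_c z3_c (@D3.rec (fun _ => Nat) 0 0 0 0 0 0 0 0 0 0 0 0 0 0 0 0 0 0 0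 0 0 0 1121 0 0 0 1411 0 0 0 0 0 0 0 0 0 0 0 0 0 0 0 0 0 0 0 0 0 0 0 0 0 0 0 0 0 0 0 0 0 0 0) z3_c (@D3.rec (fun _ => Nat) 0 0 0 0 0 0 0 0 1246 0 0 0 0 0 0 0 0 0 0 0 0 0 0 0 0 0 0 0 0 0 2003 0 0 0 0 0 0 0 0 0 0 0 0 0 0 0 0 0 0 0 0 0 0 0 0 0 0 0 0 0 0 0) z3_c z3_c z3_c (@D3.rec (fun _ => Nat) 0 0 0 0 0 0 0 0 0 0 0 0 0 0 0 0 0 0 0 0 0 0 0 0 0 0 0 0 0 0 0 353 0 0 0 0 0 0 0 0 0 0 0 0 0 0 0 0 0 0 0 0 0 0 0 0 0 0 0 0 0 0) z3_c z3_c z3_c (@D3.rec (fun _ => Nat) 0 0 0 0 0 0 0 0 0 0 0 0 1297 0 0 0 0 0 0 0 0 0 0 0 0 0 0 0 0 0 0 0 0 0 0 0 0 0 0 0 0 0 0 0 0 0 0 0 0 0 0 0 0 0 0 0 0 0 0 0 0 0) z3_c (@D3.rec (fun _ => Nat) 0 0 0 0 0 0 0 0 0 0 0 0 0 1397 0 0 0 0 0 0 0 2329 0 0 0 1447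 0 0 0 0 0 0 0 0 0 0 0 0 0 0 0 0 0 0 0 0 0 0 0 0 0 0 0 0 0 0 0 0 0 0 0 0) z3_c z3_c z3_c z3_c (@D3.rec (fun _ => Nat) 0 0 0 0 0 0 0 0 0 0 0 0 0 0 0 0 0 0 0 0 0 0 0 0 1860 0 0 0 0 0 0 0 0 0 0 0 0 0 0 0 0 0 0 0 0 0 0 0 0 0 0 0 0 0 0 0 0 0 0 0 0 0) (@D3.rec (fun _ => Nat) 0 0 0 0 0 0 0 0 0 0 0 0 0 0 0 0 0 0 0 0 0 0 0 0 0 0 1165 0 0 0 0 0 0 0 0 0 0 0 0 0 0 0 0 0 0 0 0 0 0 0 0 0 0 0 0 0 0 0 0 0 0 0) z3_c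
def sd_c_13 : D2 → D3 → Nat := @D2.rec (fun _ => D3 → Nat) z3_c (@D3.rec (fun _ => Nat) 0 0 0 0 0 0 0 0 1379 0 0 0 0 0 0 0 0 0 0 0 0 2935 0 0 0 0 0 0 0 0 0 0 0 0 0 0 0 0 0 0 0 0 0 0 0 0 0 1663 0 0 0 0 0 0 0 0 0 0 0 0 0 0) z3_c z3_c z3_c (@D3.rec (fun _ => Nat) 0 0 0 0 0 0 0 0 0 0 0 0 0 0 0 0 0 0 0 0 0 0 0 0 0 0 0 0 0 0 338 0 0 0 0 0 0 0 0 0 0 0 0 0 0 0 0 0 0 0 0 0 0 0 0 0 0 0 0 0 0 0) z3_c z3_c z3_c z3_c (@D3.rec (fun _ => Nat) 0 0 0 0 0 0 0 0 0 1804 0 0 0 0 0 0 0 0 0 0 0 0 0 0 0 0 0 0 0 0 0 0 0 0 0 0 0 0 0 0 0 0 0 0 0 0 0 0 0 0 0 0 0 0 0 0 1500 0 0 0 0 0) z3_c (@D3.rec (fun _ => Nat) 0 0 0 0 0 0 0 0 0 0 0 0 0 0 0 0 0 0 0 0 0 0 0 0 0 0 0 0 0 0 0 0 0 0 0 0 0 0 0 0 0 0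 0 0 0 0 0 0 0 0 0 0 0 0 0 0 1657 0 0 0 0 0) z3_c z3_c z3_c z3_c (@D3.rec (fun _ => Nat) 0 0 0 0 0 0 0 0 0 0 0 0 0 0 0 0 0 0 0 0 0 0 0 0 0 0 0 0 0 0 0 0 0 0 0 0 1513 0 0 0 0 0 0 0 0 0 0 0 0 0 0 0 0 0 0 0 0 0 0 0 0 0) z3_c z3_c z3_c z3_c (@D3.rec (fun _ => Nat) 0 0 0 0 0 0 0 0 0 0 0 0 0 0 0 0 0 0 0 0 0 0 0 0 0 0 0 0 0 0 0 0 0 0 0 0 0 0 0 0 0 0 452 0 0 0 0 0 0 0 0 0 0 0 0 0 0 0 0 0 0 0) (@D3.rec (fun _ => Nat) 0 0 0 0 0 0 0 0 0 0 259 0 0 0 0 0 0 0 0 0 0 0 0 0 0 0 0 0 0 0 0 0 0 0 0 0 0 0 0 0 0 0 0 0 0 0 0 0 0 0 0 0 0 0 0 0 0 0 0 0 0 0) z3_c z3_c z3_c z3_c z3_c z3_c z3_c z3_c z3_c z3_c z3_c (@D3.rec (fun _ => Nat) 0 0 0 0 0 0 0 0 0 0 0 0 0 0 0 0 0 0 0 0 0 0 0 0 0 0 0 0 0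 0 0 0 0 0 0 0 0 0 0 0 1581 0 0 0 0 0 0 0 0 0 0 0 0 0 0 0 0 0 0 0 0 0) z3_c (@D3.rec (fun _ => Nat) 0 0 0 0 0 0 0 0 0 0 0 0 0 0 0 0 0 0 0 0 0 0 0 0 0 0 0 0 0 401 0 0 0 0 0 0 0 0 0 0 0 0 0 0 0 0 0 0 0 0 0 0 0 0 0 0 0 0 0 0 0 0) z3_c z3_c (@D3.rec (fun _ => Nat) 0 0 0 0 0 0 0 0 0 0 0 0 0 0 0 541 0 0 0 0 0 0 0 0 0 0 0 0 0 0 0 0 0 0 0 0 0 0 0 0 0 0 0 0 0 0 0 0 0 0 0 0 0 0 0 0 0 0 0 0 0 0) z3_c z3_c (@D3.rec (fun _ => Nat) 0 0 0 0 0 0 0 0 0 0 0 0 0 0 0 0 0 0 0 0 0 0 0 0 0 0 0 0 0 0 0 0 0 0 0 0 0 0 0 0 0 0 0 0 0 0 0 0 0 0 0 0 0 0 0 0 0 1922 0 0 0 0) z3_c (@D3.rec (fun _ => Nat) 0 0 0 0 174 0 0 0 0 0 0 0 0 0 0 0 0 0 0 0 0 0 0 0 0 0 0 0 0 0 0 0 0 0 0 0 0 0 0 0 0 0 0 0 0 0 0 0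 0 0 0 0 0 0 0 0 0 0 0 0 0 0) z3_c z3_c z3_c (@D3.rec (fun _ => Nat) 0 0 0 0 0 0 0 0 0 0 0 0 0 0 0 0 0 0 0 0 0 0 0 0 0 0 0 0 0 0 0 0 0 0 0 0 0 0 0 0 0 0 0 0 0 0 0 0 0 0 0 0 437 0 0 0 0 257 0 0 0 0) (@D3.rec (fun _ => Nat) 0 0 0 0 0 0 0 0 0 0 0 0 422 0 0 0 0 0 0 0 0 0 0 0 0 0 0 0 0 0 0 0 0 0 0 0 0 0 0 0 0 0 0 0 0 0 0 0 0 0 0 0 0 0 0 0 0 0 0 0 0 0) (@D3.rec (fun _ => Nat) 0 0 0 0 0 0 0 0 0 0 0 0 0 0 0 0 0 0 0 1574 0 0 0 0 0 0 0 0 0 0 0 0 0 0 0 0 0 0 0 0 0 0 0 0 0 0 0 0 0 0 0 0 0 0 0 0 0 0 0 0 0 0) z3_c z3_c z3_c z3_c z3_c z3_c z3_c (@D3.rec (fun _ => Nat) 0 0 0 0 0 0 0 0 0 0 0 0 0 0 0 0 0 0 0 0 0 0 0 0 0 0 0 0 0 0 0 0 0 0 0 0 0 0 0 0 0 0 0 1557 0 0 0 0 0 0 0 0 0 0 0 0 0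 0 0 0 0 0)
def sd_c_14 : D2 → D3 → Nat := @D2.rec (fun _ => D3 → Nat) z3_c (@D3.rec (fun _ => Nat) 1656 0 0 0 0 0 0 0 0 0 0 0 0 0 0 0 0 0 0 0 0 0 0 0 0 0 0 0 0 0 0 0 0 0 0 0 0 0 0 0 0 0 0 0 0 0 0 0 0 0 0 0 0 0 0 0 0 0 0 0 0 0) z3_c z3_c (@D3.rec (fun _ => Nat) 0 0 0 0 0 0 0 0 0 0 0 0 0 0 0 0 0 0 0 0 0 0 0 0 0 0 0 0 0 1223 0 0 0 0 0 0 0 0 0 0 0 0 0 0 0 0 0 0 0 0 666 0 0 0 0 0 0 0 0 0 0 0) z3_c z3_c z3_c z3_c (@D3.rec (fun _ => Nat) 0 0 0 0 0 0 0 0 0 0 0 0 0 0 0 0 0 0 0 0 0 0 0 0 0 0 0 0 0 0 0 0 0 0 0 0 0 0 0 0 0 0 0 0 0 0 0 0 0 0 0 1654 0 0 0 0 0 0 0 0 0 0) z3_c z3_c (@D3.rec (fun _ => Nat) 0 0 0 0 0 0 0 0 0 0 0 0 0 1254 0 0 0 0 0 0 0 0 0 0 0 0 0 0 0 0 0 0 0 0 0 0 0 0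 0 0 0 0 0 0 0 0 0 0 0 0 0 0 0 0 0 0 0 0 0 0 0 0) (@D3.rec (fun _ => Nat) 0 0 0 0 0 0 1684 0 0 0 0 0 0 0 0 0 0 0 0 0 0 0 0 0 0 0 0 0 0 0 0 0 0 0 0 0 0 0 0 0 0 0 0 0 0 0 0 0 0 0 0 0 0 0 0 0 0 0 0 0 0 0) (@D3.rec (fun _ => Nat) 0 0 1690 0 0 0 0 0 0 0 0 0 0 0 0 0 0 0 0 0 0 0 0 0 0 0 0 0 0 0 0 0 0 0 0 0 0 0 0 0 0 0 0 0 0 0 0 0 0 0 0 0 0 0 0 0 0 0 0 0 0 0) z3_c z3_c z3_c z3_c z3_c z3_c z3_c z3_c z3_c z3_c z3_c z3_c (@D3.rec (fun _ => Nat) 0 0 0 0 0 0 0 0 0 0 0 0 0 0 0 0 0 0 0 0 0 0 0 0 0 0 0 0 0 0 0 0 0 0 0 0 0 0 0 0 0 0 0 0 0 0 0 0 0 0 0 0 0 0 456 0 0 0 0 0 0 0) z3_c z3_c z3_c (@D3.rec (fun _ => Nat) 0 0 0 0 0 0 0 0 0 0 0 0 0 0 0 0 0 1453 0 1560 0 0 0 0 0 0 0 0 0 0 0 0 0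 0 0 0 0 0 0 0 0 0 0 0 0 0 0 0 0 0 0 0 0 0 0 0 0 0 0 0 0 0) z3_c z3_c (@D3.rec (fun _ => Nat) 0 0 0 0 0 0 0 0 0 0 0 0 0 0 0 0 0 0 0 0 0 0 0 0 0 0 0 0 0 0 0 0 0 0 0 0 236 0 0 0 0 0 0 0 0 0 0 0 0 0 0 0 0 0 0 0 0 0 0 0 0 0) z3_c (@D3.rec (fun _ => Nat) 0 0 0 0 0 0 0 0 1114 0 0 0 0 0 0 0 0 0 0 0 0 0 0 0 0 0 0 0 0 0 0 0 0 0 0 0 0 0 0 0 0 0 0 0 0 0 0 0 0 0 0 0 0 0 0 0 0 0 0 0 0 0) (@D3.rec (fun _ => Nat) 0 0 0 0 0 0 0 0 0 0 0 0 0 0 0 0 0 0 0 0 0 0 0 0 0 0 0 0 0 0 0 0 0 0 1951 0 0 0 0 0 0 0 0 0 0 0 0 0 0 0 0 0 0 0 0 0 0 0 0 0 0 0) z3_c z3_c z3_c (@D3.rec (fun _ => Nat) 0 0 0 0 0 0 0 0 0 0 0 0 0 0 0 0 0 0 0 0 0 0 0 0 0 0 0 0 0 0 0 0 0 0 0 0 0 0 0 0 0 0 0 0 0 0 0 0 0 0 0 0 0 0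 0 0 0 0 0 226 0 0) z3_c z3_c z3_c (@D3.rec (fun _ => Nat) 0 0 0 0 0 0 0 0 0 0 0 0 0 0 0 0 1813 0 0 0 0 0 0 0 0 0 0 0 0 0 0 0 0 0 0 0 0 0 0 0 0 0 0 0 0 0 0 0 0 0 0 0 0 0 0 0 0 0 0 0 0 0) (@D3.rec (fun _ => Nat) 0 0 0 0 0 0 0 0 0 0 0 0 0 0 0 0 0 0 0 0 0 0 0 0 0 0 0 0 0 0 0 0 0 693 0 0 0 0 0 0 0 0 0 0 0 0 0 0 0 0 0 0 0 0 0 0 0 0 0 0 0 0) z3_c z3_c z3_c (@D3.rec (fun _ => Nat) 0 0 0 0 0 0 0 0 0 0 0 0 0 0 0 0 0 0 0 0 0 0 0 0 0 0 0 0 0 0 0 0 0 0 0 0 0 0 0 0 0 0 0 0 0 0 0 0 0 0 0 0 595 0 0 0 0 0 0 0 0 0) z3_c (@D3.rec (fun _ => Nat) 0 0 0 0 0 0 0 0 0 0 0 0 0 0 0 0 0 0 0 0 0 455 0 0 0 0 0 0 0 0 0 0 0 0 0 0 0 0 0 0 0 0 0 0 0 0 0 0 0 0 0 0 0 0 0 0 0 0 0 0 0 0) z3_c z3_c z3_c z3_c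 z3_c z3_c z3_c
def sd_c_15 : D2 → D3 → Nat := @D2.rec (fun _ => D3 → Nat) z3_c z3_c z3_c z3_c z3_c z3_c (@D3.rec (fun _ => Nat) 0 0 0 0 0 0 0 0 0 0 0 0 0 0 0 0 0 0 1822 0 0 0 0 0 0 0 0 0 0 0 0 0 0 0 0 0 0 0 0 0 0 0 0 0 0 0 0 0 0 0 0 0 0 0 0 0 0 0 0 0 0 0) (@D3.rec (fun _ => Nat) 2145 0 0 0 0 0 0 0 0 0 0 0 0 0 0 0 0 0 0 0 0 0 0 0 0 0 0 0 0 0 0 0 0 0 0 0 0 0 0 0 0 0 0 0 0 0 0 0 0 0 0 0 0 0 0 0 0 0 0 0 0 0) z3_c z3_c z3_c z3_c z3_c (@D3.rec (fun _ => Nat) 0 0 0 0 0 0 0 0 0 0 0 0 0 0 0 0 0 0 0 0 0 0 0 0 0 0 0 0 0 0 0 0 0 0 0 0 0 0 0 0 0 0 0 0 0 2043 0 0 0 0 0 0 0 0 0 0 0 0 0 0 0 0) z3_c z3_c z3_c z3_c z3_c z3_c z3_c z3_c z3_c z3_c z3_c z3_c z3_c z3_c z3_c z3_c (@D3.rec (fun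 _ => Nat) 0 0 0 0 0 0 0 0 0 0 0 0 0 0 0 0 0 0 0 0 0 0 0 0 0 0 110 0 0 0 0 0 0 0 0 0 0 0 0 0 0 0 0 0 0 0 0 0 0 0 0 0 0 0 0 0 0 0 0 0 0 0) z3_c z3_c z3_c z3_c z3_c z3_c z3_c z3_c z3_c z3_c z3_c z3_c z3_c z3_c z3_c z3_c z3_c (@D3.rec (fun _ => Nat) 0 0 0 0 0 0 0 0 0 0 0 0 0 0 0 0 0 0 0 0 0 0 0 0 0 0 0 0 611 0 0 0 0 0 0 0 0 0 0 0 0 0 0 0 0 0 0 0 0 0 0 0 0 0 0 0 0 0 0 0 0 0) (@D3.rec (fun _ => Nat) 0 0 0 0 0 0 0 0 0 0 0 0 0 0 0 0 0 0 0 0 0 0 0 0 0 0 0 0 0 0 0 0 0 0 0 0 0 0 0 0 0 0 0 0 0 0 610 0 0 0 0 0 0 0 0 0 0 0 0 0 0 0) z3_c z3_c z3_c z3_c z3_c z3_c z3_c z3_c z3_c z3_c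
def sd_c_16 : D2 → D3 → Nat := @D2.rec (fun _ => D3 → Nat) z3_c z3_c z3_c z3_c z3_c z3_c z3_c z3_c z3_c z3_c z3_c (@D3.rec (fun _ => Nat) 0 0 0 0 0 0 0 0 0 0 0 0 0 0 0 0 0 0 0 0 0 0 0 0 0 0 0 0 0 0 0 0 2704 0 0 0 0 0 0 0 0 0 0 0 0 0 0 0 0 0 0 0 0 0 0 0 0 0 0 0 0 0) z3_c z3_c z3_c z3_c z3_c z3_c z3_c z3_c z3_c z3_c z3_c z3_c z3_c z3_c z3_c z3_c z3_c z3_c (@D3.rec (fun _ => Nat) 0 0 0 0 0 0 0 0 0 0 0 0 0 0 0 0 0 0 0 0 0 0 0 0 0 0 0 0 0 0 0 0 0 0 0 0 0 0 0 0 0 0 0 0 0 0 0 0 0 0 0 0 0 755 0 0 0 0 0 0 0 0) z3_c z3_c z3_c z3_c z3_c z3_c z3_c z3_c z3_c z3_c z3_c z3_c z3_c z3_c (@D3.rec (fun _ => Nat) 0 0 0 0 0 0 0 0 0 0 0 0 2723 0 0 0 0 0 0 0 0 0 0 0 0 0 0 0 0 0 0 0 0 0 0 0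 0 0 0 0 0 0 0 0 0 0 0 0 0 0 0 0 0 0 0 0 0 0 0 0 0 0) z3_c (@D3.rec (fun _ => Nat) 0 0 0 0 2734 0 0 0 0 0 0 0 0 0 0 0 0 0 0 0 0 0 0 0 0 0 0 0 0 0 0 0 0 0 0 0 0 0 0 0 0 0 0 0 0 0 0 0 0 0 0 0 0 0 0 0 0 0 0 0 0 0) z3_c (@D3.rec (fun _ => Nat) 0 0 0 0 0 0 0 0 0 0 0 0 0 0 0 0 0 0 0 0 0 0 0 0 0 0 0 0 0 0 0 0 0 0 0 0 0 0 0 0 0 0 0 0 0 0 2843 0 0 0 0 0 0 0 0 0 0 0 0 0 0 0) z3_c (@D3.rec (fun _ => Nat) 0 0 0 0 0 0 0 0 0 0 0 0 0 0 0 0 0 0 0 0 0 0 0 0 0 0 0 0 0 0 0 0 0 0 0 0 0 0 0 0 0 0 2806 0 0 0 0 0 0 0 0 0 0 0 0 0 0 0 0 0 0 0) z3_c z3_c z3_c z3_c z3_c (@D3.rec (fun _ => Nat) 0 0 0 0 0 0 0 0 0 0 0 0 0 0 0 0 0 0 0 0 0 0 0 0 0 0 0 0 0 1024 661 0 0 0 0 0 0 0 0 0 0 0 0 0 0 0 0 0 0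 0 0 0 0 0 0 0 0 0 0 0 0 0) (@D3.rec (fun _ => Nat) 0 0 0 0 0 0 0 0 0 0 0 0 0 0 0 0 0 0 0 0 0 0 0 0 0 0 0 0 0 0 0 0 1859 0 0 0 0 0 0 0 0 0 0 0 0 0 0 0 0 0 0 0 0 0 0 0 0 0 0 0 0 0) z3_c
def sd_c_17 : D2 → D3 → Nat := @D2.rec (fun _ => D3 → Nat) (@D3.rec (fun _ => Nat) 0 0 0 0 0 0 0 0 0 0 0 0 0 0 0 0 0 0 0 0 0 2908 0 0 0 0 0 0 0 0 0 0 0 532 0 0 0 0 0 0 0 0 0 0 0 0 0 0 0 0 0 0 0 0 0 0 0 0 0 0 0 0) (@D3.rec (fun _ => Nat) 0 0 0 0 0 0 0 0 0 0 0 0 0 0 0 0 0 0 0 0 0 0 0 0 0 0 0 0 0 0 0 0 0 289 0 2226 0 0 0 0 0 0 0 0 0 0 0 0 0 0 0 0 0 0 0 0 0 0 0 0 0 0) z3_c z3_c (@D3.rec (fun _ => Nat) 0 0 0 0 0 0 0 0 0 0 0 0 0 0 0 0 0 0 0 0 0 0 0 0 0 0 0 0 0 0 0 0 0 0 0 0 0 0 0 0 0 0 0 0 301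 0 0 0 0 0 0 0 0 0 0 0 0 0 0 0 0 0) (@D3.rec (fun _ => Nat) 0 0 0 0 0 0 0 0 0 0 0 0 0 0 0 0 0 0 0 0 0 0 0 0 0 0 0 0 0 0 0 0 0 0 0 0 0 0 0 0 0 0 0 0 0 0 1426 0 0 0 0 0 0 0 0 0 0 0 0 0 0 0) z3_c z3_c z3_c (@D3.rec (fun _ => Nat) 0 0 0 0 0 0 0 0 0 0 0 0 0 0 0 0 0 0 0 0 0 0 0 0 0 0 0 0 0 0 0 0 0 0 0 0 0 0 0 0 0 0 0 0 0 0 0 0 0 0 0 0 3047 0 0 0 0 0 0 0 0 0) (@D3.rec (fun _ => Nat) 0 0 0 0 0 0 0 0 0 0 0 0 0 0 0 0 0 0 0 0 0 0 0 0 0 0 0 0 0 0 0 0 0 0 0 0 0 0 0 0 0 785 0 0 0 0 0 0 0 0 0 0 0 0 0 0 0 0 0 0 0 0) z3_c z3_c z3_c (@D3.rec (fun _ => Nat) 0 0 0 0 0 0 0 0 0 0 0 0 0 0 0 0 0 0 0 0 0 0 0 0 0 0 0 0 0 0 1494 0 0 0 0 0 0 0 0 0 0 0 0 0 0 0 0 0 0 0 0 0 0 0 0 0 0 0 0 0 0 0) z3_c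 z3_c (@D3.rec (fun _ => Nat) 0 0 0 0 0 0 0 0 0 0 0 0 0 0 0 0 0 0 0 0 0 0 0 0 0 0 0 0 0 0 0 0 0 0 0 0 0 0 2304 0 0 0 0 0 0 0 0 0 0 0 0 0 0 0 0 0 0 0 0 0 0 0) z3_c z3_c (@D3.rec (fun _ => Nat) 0 0 2319 0 0 0 0 0 0 0 0 0 0 0 0 0 0 0 0 0 0 0 0 0 0 0 0 0 0 0 0 0 0 0 0 0 0 0 0 0 0 0 0 0 0 0 0 0 0 0 0 0 0 0 0 0 0 0 0 0 0 0) (@D3.rec (fun _ => Nat) 0 0 0 0 0 0 0 0 0 0 0 0 0 0 0 0 0 0 0 0 0 0 0 0 0 0 0 0 0 0 0 0 0 2273 0 0 0 0 0 0 0 0 0 0 0 0 0 0 0 0 0 0 0 0 0 0 0 0 0 0 0 0) (@D3.rec (fun _ => Nat) 0 0 0 0 0 0 0 0 0 0 0 0 2328 0 0 0 0 0 0 0 0 0 0 0 0 0 0 0 0 0 0 0 0 0 0 0 0 0 0 0 0 0 0 0 0 0 0 0 0 0 0 0 0 0 0 0 0 0 0 0 0 0) (@D3.rec (fun _ => Nat) 0 0 0 0 0 0 0 0 0 0 0 0 0 0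 0 0 0 0 0 0 0 0 0 0 0 0 0 0 0 0 0 0 0 0 0 0 0 0 0 0 0 0 0 0 0 0 0 0 0 0 0 0 0 0 0 0 0 0 0 0 1469 0) z3_c z3_c z3_c (@D3.rec (fun _ => Nat) 0 0 0 0 0 0 0 0 0 0 0 0 0 0 0 0 0 0 0 0 0 0 0 0 0 0 0 0 0 0 0 1992 0 0 0 0 0 0 0 0 0 0 0 0 0 0 0 0 0 0 0 0 0 0 0 0 0 0 0 0 0 0) z3_c (@D3.rec (fun _ => Nat) 0 0 0 0 0 0 0 0 0 0 0 0 2348 0 0 0 0 0 0 0 0 0 0 0 0 0 0 0 0 0 0 0 0 0 0 0 0 0 0 0 0 0 0 0 0 0 0 0 0 0 0 0 0 0 0 0 0 0 0 0 0 0) (@D3.rec (fun _ => Nat) 0 0 0 0 0 0 0 0 0 0 0 0 0 0 0 0 0 0 0 0 0 0 0 0 0 0 0 0 0 0 0 0 0 0 0 0 0 0 0 0 1256 0 0 0 0 0 0 0 0 0 0 0 0 0 0 0 0 0 0 0 0 0) (@D3.rec (fun _ => Nat) 0 0 0 0 0 0 0 0 0 0 0 0 0 0 0 0 0 0 0 0 0 0 0 0 0 0 0 0 0 0 0 0 0 0 0 528 0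 0 0 0 0 0 0 1035 0 0 0 0 0 0 0 0 0 0 0 0 0 0 0 0 0 0) (@D3.rec (fun _ => Nat) 0 0 0 0 0 0 0 0 0 0 0 0 0 0 0 0 0 0 0 2383 0 0 0 0 0 0 0 0 0 0 0 0 0 0 0 0 0 0 0 0 0 0 0 0 0 0 0 0 0 0 0 0 0 0 0 0 0 0 0 0 0 0) z3_c (@D3.rec (fun _ => Nat) 0 0 0 0 0 0 0 0 0 0 0 0 0 0 0 0 0 0 0 0 0 0 0 0 0 0 0 0 0 0 0 0 0 0 0 0 0 0 0 0 0 0 0 0 0 0 0 0 1338 0 0 0 0 0 0 0 0 0 0 0 0 0) z3_c z3_c z3_c z3_c z3_c z3_c z3_c z3_c z3_c z3_c z3_c z3_c z3_c z3_c z3_c z3_c z3_c z3_c z3_c z3_c z3_c z3_c (@D3.rec (fun _ => Nat) 0 0 0 0 0 0 0 0 0 0 0 0 0 0 0 0 0 0 0 0 0 0 0 0 0 0 0 0 0 0 0 0 0 0 0 0 0 0 0 0 0 0 0 0 0 0 0 0 0 0 0 0 0 0 0 1872 0 0 0 0 0 0) (@D3.rec (fun _ => Nat) 0 0 0 0 0 0 0 0 0 0 0 0 0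 0 0 2625 0 0 0 0 0 0 0 0 0 0 0 0 0 0 0 0 0 0 0 0 0 0 0 0 0 0 0 0 0 0 0 0 0 0 0 0 0 0 0 0 0 0 0 0 0 0) z3_c
def sd_c_18 : D2 → D3 → Nat := @D2.rec (fun _ => D3 → Nat) (@D3.rec (fun _ => Nat) 0 0 0 0 0 0 0 0 0 0 0 0 0 0 0 0 0 0 0 0 0 0 0 0 0 0 0 0 0 0 0 3087 0 0 0 0 0 0 0 0 0 0 0 0 0 0 0 0 0 0 0 0 0 0 0 0 0 0 0 0 0 0) (@D3.rec (fun _ => Nat) 0 0 0 0 0 0 0 0 0 0 0 0 0 0 0 0 0 0 0 0 0 308 0 0 0 0 0 0 0 0 0 0 0 0 0 0 0 0 0 0 0 0 0 0 0 0 0 0 0 0 0 0 0 0 0 0 2261 0 0 0 0 0) z3_c z3_c z3_c z3_c z3_c (@D3.rec (fun _ => Nat) 0 0 0 0 0 0 0 0 0 0 0 0 0 0 0 0 0 0 0 0 0 0 0 0 0 0 0 0 0 0 0 0 0 0 0 0 0 0 0 0 0 0 0 0 2450 0 0 0 0 0 0 0 0 0 0 0 0 0 0 0 0 0) z3_c z3_c (@D3.rec (fun _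 => Nat) 0 0 0 0 0 0 0 0 0 0 0 0 0 0 0 0 0 0 0 0 0 0 0 0 0 0 0 0 0 2508 0 0 0 0 0 0 0 0 0 0 0 0 0 0 0 0 0 0 0 0 0 0 0 0 0 0 0 0 0 0 0 0) z3_c z3_c z3_c z3_c (@D3.rec (fun _ => Nat) 0 0 0 0 0 0 0 0 0 2632 0 0 0 0 0 0 0 0 0 0 0 0 0 0 0 0 0 0 0 0 0 0 0 0 0 0 0 0 0 0 0 0 0 0 0 0 0 0 0 0 0 0 0 0 0 0 0 0 0 0 0 0) (@D3.rec (fun _ => Nat) 0 0 0 0 0 0 0 0 0 0 0 0 0 2615 0 0 0 0 0 0 0 0 0 0 0 0 0 0 0 0 0 0 0 0 0 0 0 0 0 0 0 0 0 0 0 0 0 0 0 0 0 0 0 0 0 0 0 0 0 0 0 0) z3_c z3_c z3_c z3_c z3_c (@D3.rec (fun _ => Nat) 0 0 0 0 0 0 0 0 0 0 0 0 0 0 0 0 0 0 0 0 0 0 0 0 0 0 0 0 0 0 0 0 0 0 0 0 0 0 0 0 2214 0 0 0 0 0 0 0 0 0 0 0 0 0 0 0 0 0 0 0 0 0) z3_c z3_c z3_c (@D3.rec (fun _ => Nat)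 0 0 0 0 0 0 0 0 0 0 0 0 0 0 0 0 0 0 0 0 0 2014 0 0 0 0 0 0 0 0 0 0 0 0 0 0 0 0 0 0 0 0 0 0 0 0 0 0 0 0 0 0 0 0 0 0 0 0 0 0 0 0) (@D3.rec (fun _ => Nat) 0 0 0 0 0 0 0 0 0 0 0 0 0 0 0 0 0 0 0 0 0 0 2518 0 0 0 0 0 0 0 0 0 0 0 0 0 0 0 0 0 0 0 0 0 0 0 0 0 0 0 0 0 0 0 0 0 0 0 0 0 0 0) z3_c z3_c z3_c z3_c z3_c z3_c z3_c z3_c z3_c z3_c (@D3.rec (fun _ => Nat) 0 0 0 0 0 0 0 0 0 0 0 0 0 0 0 0 0 0 0 0 0 0 0 0 0 2460 0 0 0 0 0 0 0 0 0 0 0 0 0 0 0 0 0 0 0 0 0 0 0 0 0 0 0 0 0 0 0 0 0 0 0 0) (@D3.rec (fun _ => Nat) 0 0 0 0 0 0 0 0 0 0 0 0 0 0 0 2462 0 0 0 0 0 0 0 0 0 0 0 0 0 0 0 0 0 0 0 0 0 0 0 0 0 0 0 0 0 0 0 0 0 0 0 0 0 0 0 0 0 0 0 0 0 0) z3_c (@D3.rec (fun _ => Nat) 0 0 0 0 0 0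 0 0 0 0 0 0 0 0 0 0 0 0 0 0 0 0 0 0 0 0 0 0 0 0 0 0 0 0 0 0 0 0 0 0 0 0 0 0 2471 0 0 0 0 0 0 0 0 0 0 0 0 0 0 0 0 0) (@D3.rec (fun _ => Nat) 0 0 0 0 0 0 0 0 0 0 0 0 0 0 0 0 0 0 0 0 0 0 0 0 0 0 0 0 0 0 0 0 0 0 0 0 0 0 0 0 0 0 0 0 0 0 0 0 0 0 0 2593 0 0 0 0 0 0 0 0 0 0) (@D3.rec (fun _ => Nat) 0 0 0 0 0 0 0 0 0 0 0 0 0 0 0 0 0 0 0 2438 0 0 0 0 0 0 0 0 0 0 0 0 0 0 0 0 0 0 0 0 0 0 0 0 0 0 0 0 0 0 0 0 0 0 0 0 0 0 0 0 0 0) z3_c (@D3.rec (fun _ => Nat) 0 0 0 0 0 0 0 0 0 0 0 0 0 0 0 0 0 0 0 0 0 0 0 0 0 0 0 0 0 0 0 0 0 0 0 0 0 0 2461 0 0 0 0 0 0 0 0 0 0 0 0 0 0 0 0 0 0 0 0 0 0 0) z3_c z3_c z3_c (@D3.rec (fun _ => Nat) 0 0 0 0 0 0 0 0 0 0 0 0 0 0 0 0 0 0 0 0 0 0 0 0 0 0 0 0 0 0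 0 0 0 0 0 0 0 0 0 0 0 0 0 0 0 0 0 2617 0 0 0 0 0 0 0 0 0 0 0 0 0 0) (@D3.rec (fun _ => Nat) 0 0 0 0 0 0 0 0 0 0 0 0 0 0 0 0 0 0 0 0 0 0 0 0 0 0 0 0 0 0 0 0 0 0 0 0 0 0 0 0 0 0 0 0 0 0 0 0 0 0 0 0 2472 0 0 0 0 0 0 0 0 0) z3_c (@D3.rec (fun _ => Nat) 0 0 0 0 0 0 0 0 0 0 0 0 0 0 0 0 0 0 0 0 0 0 0 0 0 0 0 0 0 0 0 0 0 0 0 0 0 0 0 0 0 0 0 0 0 0 0 0 2139 0 0 0 0 0 0 0 0 0 0 0 0 0) z3_c z3_c z3_c z3_c (@D3.rec (fun _ => Nat) 0 0 0 0 0 0 0 0 0 0 0 0 0 0 0 0 0 0 0 0 0 0 0 0 0 0 0 0 0 0 0 0 0 0 0 0 0 0 0 0 0 0 0 0 2645 0 0 0 0 0 0 0 0 0 0 0 0 0 0 0 0 0) z3_c z3_c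
def sd_c_19 : D2 → D3 → Nat := @D2.rec (fun _ => D3 → Nat) z3_c z3_c z3_c z3_c (@D3.rec (fun _ => Nat) 0 0 0 0 0 0 0 0 0 0 0 0 0 0 0 0 0 0 0 0 0 0 0 0 0 0 0 0 0 0 0 0 0 801 0 0 0 0 0 0 0 0 0 0 0 0 0 0 0 0 0 0 0 0 0 0 0 0 0 0 0 0) z3_c z3_c z3_c z3_c (@D3.rec (fun _ => Nat) 0 0 0 0 0 0 0 0 0 0 0 0 0 0 0 0 0 0 0 0 0 0 0 0 0 0 0 0 0 0 0 0 0 0 0 0 0 0 0 0 0 0 0 0 0 2673 0 0 0 0 0 0 0 0 0 0 0 0 0 0 0 0) z3_c z3_c z3_c z3_c z3_c z3_c z3_c z3_c z3_c z3_c z3_c z3_c z3_c (@D3.rec (fun _ => Nat) 0 0 0 0 0 0 0 0 0 0 0 0 0 0 0 0 0 0 0 0 0 0 0 0 0 0 0 0 0 0 0 0 0 0 0 0 0 0 0 0 0 0 0 0 0 0 0 0 0 0 0 0 0 0 0 0 1059 0 0 0 0 0) z3_c (@D3.rec (fun _ => Nat) 0 0 0 0 0 0 0 0 0 0 0 0 0 0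 0 0 0 1054 0 0 0 0 0 0 0 0 0 0 0 0 0 0 0 0 0 0 0 0 0 0 0 0 0 0 0 0 0 0 0 0 0 0 0 0 0 0 0 0 1053 0 0 0) z3_c (@D3.rec (fun _ => Nat) 0 0 0 0 0 0 0 0 0 0 0 0 0 0 0 0 0 0 0 0 0 0 0 0 0 0 0 0 0 0 0 0 0 0 0 0 0 0 0 0 0 0 0 0 0 0 3049 0 0 0 0 0 0 0 0 0 0 0 0 0 0 0) z3_c z3_c z3_c z3_c z3_c z3_c z3_c z3_c z3_c z3_c z3_c (@D3.rec (fun _ => Nat) 0 0 0 0 0 0 0 0 0 0 0 0 0 0 0 0 0 0 0 0 0 0 0 0 0 0 0 0 0 0 0 0 0 0 0 0 0 0 0 0 0 0 0 0 0 0 0 0 0 0 0 0 0 0 0 0 0 0 0 0 0 2170) z3_c z3_c z3_c z3_c z3_c z3_c z3_c (@D3.rec (fun _ => Nat) 902 0 0 0 0 0 0 0 0 0 0 0 0 0 0 0 0 0 0 0 0 0 0 0 0 0 0 0 0 0 0 0 0 0 0 0 0 0 0 0 0 0 0 0 0 0 0 0 0 0 0 0 0 0 0 0 0 0 0 0 0 0) (@D3.rec (fun _ => Nat)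 0 0 0 0 0 0 0 0 0 0 0 0 0 0 0 0 0 0 0 0 0 0 0 0 0 0 0 0 0 0 0 0 0 0 0 0 0 0 0 0 632 0 0 0 0 0 0 0 0 0 0 0 0 0 0 0 0 0 0 0 0 0) (@D3.rec (fun _ => Nat) 0 0 0 0 0 0 0 0 0 0 0 0 0 0 0 0 0 0 0 0 0 0 0 0 0 0 0 0 0 0 0 0 0 0 0 0 0 0 0 0 0 0 0 0 0 0 0 0 0 0 0 0 0 0 0 0 0 0 0 0 0 631) z3_c z3_c (@D3.rec (fun _ => Nat) 0 0 0 0 0 0 0 0 0 0 0 0 0 0 0 0 0 0 0 0 0 0 0 0 0 0 0 0 0 0 0 0 0 0 0 0 0 0 0 0 0 0 0 0 0 0 0 0 0 0 0 0 0 0 0 0 0 0 0 0 871 0) z3_c z3_c (@D3.rec (fun _ => Nat) 0 0 0 0 0 0 0 0 0 0 0 0 0 0 0 0 0 0 0 0 0 0 0 2049 0 0 0 0 0 0 0 0 0 0 0 0 0 0 0 0 0 0 0 0 0 0 0 0 0 0 0 0 0 0 0 0 0 0 0 0 0 0) z3_c z3_c z3_c z3_c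
def sd_c_20 : D2 → D3 → Nat := @D2.rec (fun _ => D3 → Nat) (@D3.rec (fun _ => Nat) 0 0 0 0 0 0 0 0 0 0 0 0 0 0 0 0 0 0 0 0 0 0 0 2040 0 0 0 0 0 0 0 0 0 0 0 0 0 0 0 0 0 0 0 0 0 0 0 0 0 0 0 0 0 2177 0 0 0 0 0 0 0 0) z3_c z3_c z3_c (@D3.rec (fun _ => Nat) 0 0 0 0 0 0 0 0 0 0 0 0 0 0 0 0 0 0 0 0 0 0 0 0 0 0 0 0 0 0 0 0 0 0 0 0 0 0 0 0 0 0 0 0 0 0 283 0 0 0 0 0 0 0 0 0 0 0 0 0 0 0) (@D3.rec (fun _ => Nat) 0 0 0 0 0 0 0 0 0 0 0 0 0 0 0 0 0 0 0 0 0 0 0 0 0 0 0 0 0 0 0 0 0 0 0 0 0 0 0 0 0 0 0 0 0 0 0 0 0 0 0 0 0 0 0 0 0 2188 0 0 0 0) (@D3.rec (fun _ => Nat) 2739 0 0 0 0 0 0 0 0 0 0 0 0 0 895 0 0 0 0 0 2771 0 0 0 0 0 0 0 0 0 0 0 0 0 0 0 0 0 0 0 0 0 0 868 0 0 0 0 0 0 0 0 0 0 0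 0 0 0 0 0 0 0) z3_c z3_c z3_c (@D3.rec (fun _ => Nat) 0 0 0 0 0 0 0 0 0 0 0 0 0 0 0 0 0 0 0 0 0 0 2747 0 0 0 0 0 0 0 0 0 0 0 0 0 0 0 0 0 0 0 0 0 0 0 0 0 0 0 0 0 0 0 0 0 0 0 0 0 0 0) z3_c z3_c z3_c z3_c z3_c z3_c z3_c z3_c z3_c z3_c z3_c z3_c (@D3.rec (fun _ => Nat) 0 0 0 0 0 0 0 0 0 0 0 0 0 0 0 0 0 0 0 0 0 0 0 0 0 0 0 0 0 0 0 659 0 0 0 0 0 0 0 0 0 0 0 0 0 0 0 0 0 0 0 0 0 0 0 0 0 0 0 0 0 0) z3_c (@D3.rec (fun _ => Nat) 0 0 0 0 0 0 0 0 0 0 0 0 0 0 0 0 0 0 0 0 0 0 0 0 0 1880 0 0 0 0 0 0 0 0 0 0 0 0 0 0 0 0 0 0 0 0 0 0 0 0 0 0 0 0 0 0 0 0 0 0 0 0) (@D3.rec (fun _ => Nat) 0 0 0 0 0 0 0 0 0 0 0 0 0 0 0 0 0 0 2605 0 0 0 0 0 0 0 0 0 0 0 0 0 0 0 0 0 0 0 0 0 0 0 0 0 0 0 0 0 0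 0 0 0 0 0 0 0 0 0 0 0 0 0) (@D3.rec (fun _ => Nat) 0 0 0 0 0 0 0 0 0 0 0 0 0 0 0 0 0 0 0 0 0 0 0 0 0 0 0 0 0 0 0 0 0 0 0 0 0 0 0 0 0 0 1011 0 0 0 0 0 0 0 0 0 0 0 0 0 0 0 0 0 0 0) z3_c z3_c (@D3.rec (fun _ => Nat) 0 0 0 0 0 0 0 0 0 0 0 0 0 0 0 0 0 0 0 0 0 0 0 0 0 0 2868 0 0 0 0 0 0 0 0 0 0 0 0 0 0 0 0 0 0 0 0 0 0 0 0 0 0 0 0 0 0 0 0 0 0 0) z3_c z3_c (@D3.rec (fun _ => Nat) 0 0 0 0 0 0 0 0 0 0 0 0 0 0 0 0 0 0 0 0 0 0 0 0 0 0 0 0 0 0 0 0 0 0 0 0 0 0 0 0 0 0 0 0 0 0 0 0 2941 0 0 0 0 2939 0 0 0 0 0 0 0 0) z3_c (@D3.rec (fun _ => Nat) 0 0 0 0 0 0 0 0 0 0 0 0 0 0 0 0 0 1354 0 0 0 0 0 0 0 0 0 0 0 0 0 0 0 0 0 0 0 0 0 0 0 0 0 0 0 0 0 0 0 0 0 0 0 0 0 0 0 0 0 0 0 0) z3_c z3_c (@D3.rec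 (fun _ => Nat) 0 0 0 1475 0 0 0 0 0 0 0 0 0 0 0 0 0 0 0 0 1000 0 0 0 0 0 0 0 0 0 0 0 0 0 0 0 0 0 0 0 0 0 0 0 0 0 0 0 0 0 0 0 0 0 0 0 0 0 0 0 0 0) z3_c z3_c z3_c z3_c z3_c z3_c (@D3.rec (fun _ => Nat) 0 0 0 0 0 0 0 0 0 0 0 0 0 1371 0 0 0 0 0 0 0 0 0 0 0 0 0 0 0 0 0 0 0 0 0 0 0 0 0 0 0 0 0 0 0 0 0 0 0 0 0 0 0 0 0 0 0 0 0 0 0 0) z3_c z3_c z3_c z3_c z3_c (@D3.rec (fun _ => Nat) 0 0 0 0 0 0 0 0 0 0 0 2238 0 0 0 348 0 0 0 0 0 0 0 0 0 0 0 0 0 0 0 0 0 0 0 0 0 2987 0 0 0 0 0 0 0 0 0 0 0 0 0 0 0 0 0 0 0 0 0 0 0 0) z3_c z3_c (@D3.rec (fun _ => Nat) 0 0 0 0 0 0 0 0 0 0 0 0 0 0 0 0 0 0 0 0 0 0 0 0 2475 0 0 0 0 0 0 0 0 0 0 0 0 0 0 0 0 0 0 0 0 0 0 0 0 0 0 0 0 0 0 0 0 0 0 0 0 0) (@D3.rec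 (fun _ => Nat) 0 0 0 0 0 0 0 0 0 0 0 0 0 0 0 0 0 0 0 0 0 0 0 0 0 0 0 0 3006 0 0 0 0 0 0 0 0 0 0 0 0 0 0 0 0 0 0 0 0 0 0 0 0 0 0 0 0 0 0 0 0 0) z3_c z3_c z3_c (@D3.rec (fun _ => Nat) 0 0 0 0 0 0 0 0 2066 0 0 0 0 0 0 0 0 0 0 0 0 0 0 0 0 0 0 0 0 0 0 0 0 0 0 0 0 0 0 0 0 0 0 0 0 0 0 0 0 0 0 0 0 0 0 0 0 0 0 0 0 0)
def sd_c_21 : D2 → D3 → Nat := @D2.rec (fun _ => D3 → Nat) (@D3.rec (fun _ => Nat) 0 0 0 0 3017 0 0 0 0 0 0 0 0 0 0 0 0 0 0 0 0 0 0 0 0 0 0 0 0 0 0 0 0 0 0 0 0 0 0 0 0 0 0 0 0 0 0 0 0 861 0 0 0 0 0 0 0 0 0 0 0 0) (@D3.rec (fun _ => Nat) 0 0 0 0 0 0 0 0 0 0 0 0 0 0 0 0 0 0 0 0 0 0 0 0 0 0 0 0 0 0 0 0 0 0 0 0 0 0 0 0 0 0 0 0 0 0 0 0 0 1051 0 0 0 0 0 0 0 0 0 0 0 0)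 (@D3.rec (fun _ => Nat) 0 0 0 0 0 0 0 0 0 0 0 0 0 0 0 0 0 0 0 0 0 0 0 0 0 0 0 0 0 0 0 0 0 0 0 0 0 0 0 0 0 0 0 0 0 0 1087 0 0 0 0 0 0 0 0 0 0 0 0 0 0 0) (@D3.rec (fun _ => Nat) 0 0 2791 0 0 0 0 0 0 0 0 0 0 0 0 0 0 0 0 0 0 0 0 0 0 0 0 0 0 0 0 0 0 0 0 0 0 0 0 0 0 0 0 0 0 0 0 0 0 0 0 0 0 0 0 0 0 0 0 0 0 0) z3_c z3_c z3_c (@D3.rec (fun _ => Nat) 0 0 0 0 0 0 0 0 0 0 0 0 358 0 0 0 0 0 0 0 0 0 0 0 0 0 0 0 0 0 0 0 0 0 0 0 0 0 0 0 0 0 0 0 0 0 0 0 0 0 0 0 0 0 0 0 0 0 0 0 0 0) z3_c z3_c z3_c (@D3.rec (fun _ => Nat) 0 0 0 0 0 0 0 0 0 0 0 0 0 0 0 0 0 0 0 0 2433 0 0 0 0 0 0 0 0 0 0 0 0 0 0 0 0 0 0 0 0 0 0 0 0 0 0 0 0 0 0 0 0 0 0 0 0 0 0 0 0 0) z3_c z3_c z3_c z3_c z3_c z3_c (@D3.rec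 (fun _ => Nat) 0 0 0 0 0 0 0 0 0 0 0 0 0 0 0 0 0 0 0 0 0 0 0 0 0 0 0 0 0 0 0 0 0 0 0 0 0 0 0 0 0 0 0 0 0 0 0 0 0 0 0 0 0 739 0 0 0 0 0 0 0 0) z3_c (@D3.rec (fun _ => Nat) 0 0 0 0 0 0 0 0 2013 0 0 0 0 0 0 0 0 0 0 0 0 0 0 0 0 0 0 0 0 0 0 0 0 0 0 0 0 0 0 0 0 0 0 0 0 0 0 0 0 0 0 0 0 0 0 0 0 0 0 0 0 0) z3_c z3_c z3_c z3_c z3_c (@D3.rec (fun _ => Nat) 0 0 0 0 0 0 0 0 0 0 0 0 1644 0 0 0 0 0 0 0 0 0 0 0 0 0 0 0 0 0 0 0 0 0 0 0 0 0 0 0 0 0 0 0 0 0 0 0 0 0 0 0 0 0 0 0 0 0 0 0 0 0) z3_c z3_c z3_c (@D3.rec (fun _ => Nat) 0 0 0 0 0 0 0 0 0 0 0 0 0 0 0 0 0 0 0 0 0 0 0 0 0 0 0 0 0 0 0 0 0 0 0 0 0 0 0 0 0 0 0 0 0 2948 0 0 0 0 0 0 0 0 0 0 0 0 0 0 0 0) (@D3.rec (fun _ => Nat) 0 0 0 0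 0 0 0 0 0 0 0 0 0 0 0 0 0 0 0 0 0 0 0 0 0 0 0 0 0 672 0 0 0 0 0 0 0 0 0 0 0 0 0 0 0 0 0 0 0 0 0 0 0 0 0 0 0 0 0 0 0 0) (@D3.rec (fun _ => Nat) 0 0 0 0 0 0 0 0 0 0 0 0 0 0 0 0 0 0 0 0 0 0 0 0 0 0 0 0 0 0 0 0 0 0 0 0 0 0 1038 0 0 0 0 0 0 0 0 0 0 0 0 0 0 0 0 0 0 0 0 0 0 0) z3_c z3_c z3_c z3_c (@D3.rec (fun _ => Nat) 0 0 0 0 0 0 0 0 0 0 0 0 0 0 0 0 0 0 0 0 2924 0 0 0 0 0 0 0 0 0 0 0 0 0 0 0 0 0 0 0 0 0 0 0 0 0 0 0 0 0 0 0 0 0 0 0 0 0 0 0 0 0) (@D3.rec (fun _ => Nat) 0 0 0 0 0 0 0 0 0 0 0 0 0 0 0 0 0 0 0 0 0 0 0 0 0 0 0 0 0 0 0 0 0 0 0 0 0 0 0 0 0 0 0 0 0 0 1365 0 0 0 0 0 0 0 0 0 0 0 0 0 0 0) (@D3.rec (fun _ => Nat) 0 0 0 0 0 0 0 0 0 0 0 0 0 0 2296 0 0 0 0 0 0 0 0 0 0 0 0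 0 0 0 0 0 0 0 0 0 0 0 0 0 0 0 0 0 0 0 0 0 0 0 0 0 0 0 0 0 0 0 0 0 0 0) z3_c z3_c z3_c (@D3.rec (fun _ => Nat) 0 0 0 0 1402 0 0 0 0 0 0 0 0 0 0 0 0 0 0 0 0 0 0 0 0 0 0 0 0 0 0 0 0 0 0 0 0 0 0 0 0 0 0 0 0 0 0 0 0 0 0 0 0 0 0 0 0 0 0 0 0 0) z3_c z3_c z3_c (@D3.rec (fun _ => Nat) 0 0 0 0 0 0 0 0 0 0 0 0 0 0 0 0 0 0 0 0 0 0 0 0 0 0 0 0 0 0 0 0 0 0 0 0 0 0 0 0 0 0 0 0 0 0 0 0 0 0 0 0 0 1794 0 0 0 0 0 0 0 0) z3_c z3_c z3_c z3_c (@D3.rec (fun _ => Nat) 0 0 0 0 0 0 0 0 0 0 0 0 0 0 0 0 0 0 0 0 0 0 0 0 0 0 0 0 0 0 0 0 0 0 0 0 0 0 0 0 0 0 0 0 0 0 0 0 0 0 0 0 0 0 0 0 0 1686 0 0 0 0) z3_c z3_c z3_c z3_c (@D3.rec (fun _ => Nat) 0 0 0 0 0 0 0 0 0 0 1396 0 0 0 0 0 0 0 0 0 0 0 0 0 0 0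 0 0 0 0 0 0 0 0 0 0 0 0 0 0 1977 0 0 0 0 0 0 0 0 0 0 0 0 0 0 0 0 0 0 0 0 0) z3_c (@D3.rec (fun _ => Nat) 0 0 0 0 0 0 0 0 0 0 0 0 0 0 0 0 0 0 0 0 0 0 0 0 0 0 0 0 0 0 0 0 0 0 0 0 0 0 0 0 0 0 0 0 0 0 0 0 0 0 0 0 0 0 0 0 0 2882 0 0 0 0)
def sd_c_22 : D2 → D3 → Nat := @D2.rec (fun _ => D3 → Nat) (@D3.rec (fun _ => Nat) 0 0 0 0 0 0 0 0 0 1450 0 0 0 0 2306 0 0 0 0 0 0 0 0 0 0 0 0 0 0 0 0 0 0 0 0 0 0 0 0 0 0 0 0 0 0 0 0 0 0 0 0 0 0 0 0 0 0 0 0 0 0 0) (@D3.rec (fun _ => Nat) 0 0 0 0 0 0 0 0 0 0 0 0 0 0 0 1448 0 0 0 0 0 0 0 0 0 0 0 0 0 0 0 0 0 0 0 0 0 0 0 0 0 0 0 0 0 0 0 0 0 0 0 0 0 0 0 0 0 0 0 1497 0 0) z3_c z3_c (@D3.rec (fun _ => Nat) 0 0 0 0 0 0 0 0 0 0 0 1473 0 0 0 0 0 0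 0 0 0 0 0 0 0 0 0 0 0 0 0 0 0 0 0 0 0 0 2372 0 0 0 0 0 0 0 0 0 0 0 0 0 0 0 0 0 0 0 0 0 0 0) z3_c z3_c (@D3.rec (fun _ => Nat) 0 0 0 0 0 0 0 0 0 0 0 0 0 0 0 0 0 0 0 0 0 0 0 0 0 0 0 0 0 0 0 0 0 0 0 0 0 0 0 0 0 0 0 0 0 0 0 0 0 1485 0 0 0 0 0 0 0 0 0 0 0 0) z3_c (@D3.rec (fun _ => Nat) 0 0 0 0 0 0 0 0 0 0 0 0 0 0 0 0 0 0 0 0 0 0 0 0 0 0 0 0 0 0 0 0 0 0 0 0 0 0 0 0 0 0 0 0 0 0 0 0 0 0 0 0 0 0 0 0 1897 0 0 0 0 0) z3_c z3_c (@D3.rec (fun _ => Nat) 0 0 0 0 0 0 0 0 0 0 0 0 0 0 0 0 0 0 0 0 0 0 0 0 0 0 0 0 0 0 0 0 0 0 0 0 0 0 0 0 0 0 0 0 0 0 0 0 0 1495 0 0 0 0 0 0 0 0 0 0 0 0) z3_c z3_c (@D3.rec (fun _ => Nat) 0 0 0 0 0 0 0 0 0 0 0 0 0 0 0 0 0 0 0 0 0 0 0 0 1589 0 0 0 0 0 0 0 0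 0 0 0 0 0 0 0 0 0 0 0 0 0 0 0 0 0 0 0 0 0 0 0 0 0 0 0 0 0) z3_c z3_c z3_c z3_c z3_c z3_c z3_c z3_c z3_c z3_c z3_c z3_c z3_c z3_c z3_c (@D3.rec (fun _ => Nat) 0 0 0 0 0 0 0 0 0 0 0 0 0 0 0 0 0 0 0 0 0 0 0 0 0 0 0 0 0 0 0 0 0 0 0 0 0 0 0 0 0 0 0 0 0 0 0 0 0 0 0 0 0 0 0 0 0 0 0 0 0 431) z3_c (@D3.rec (fun _ => Nat) 0 0 0 0 0 0 0 0 0 0 0 0 0 0 0 0 0 0 0 0 0 0 0 0 0 0 0 0 0 0 0 0 0 0 0 0 0 0 0 0 0 0 0 0 0 0 0 0 0 0 0 0 0 0 0 0 0 0 0 0 1808 0) z3_c z3_c (@D3.rec (fun _ => Nat) 0 0 0 0 0 0 0 0 0 0 1683 0 0 0 0 0 0 0 0 0 0 0 0 0 0 0 0 0 0 0 0 0 0 0 0 0 0 0 0 0 0 0 0 0 0 0 0 0 0 0 0 0 0 0 0 0 0 0 0 0 0 0) (@D3.rec (fun _ => Nat) 0 0 0 0 0 0 0 0 0 0 0 0 0 0 0 0 0 0 0 0 0 0 0 0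 0 0 0 0 0 0 0 0 0 0 0 0 0 0 0 0 0 0 0 0 0 0 0 0 0 0 0 0 0 0 1832 0 0 0 0 0 0 0) z3_c z3_c z3_c z3_c z3_c z3_c z3_c (@D3.rec (fun _ => Nat) 0 0 0 0 0 0 0 0 0 0 0 0 0 0 0 0 0 0 0 0 0 0 0 0 1610 0 0 0 0 0 0 0 0 0 0 0 0 0 0 0 0 0 0 0 0 0 0 0 0 0 0 0 0 0 211 0 0 0 0 0 0 0) z3_c z3_c z3_c z3_c z3_c z3_c z3_c z3_c z3_c z3_c z3_c z3_c z3_c (@D3.rec (fun _ => Nat) 0 0 0 0 0 0 0 425 0 0 0 0 0 0 0 0 0 0 0 0 0 0 0 0 0 0 0 0 0 0 0 0 0 0 0 0 0 0 0 0 0 0 0 0 0 0 0 0 0 0 0 0 0 0 0 0 0 0 0 0 0 0)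
def sd_c_23 : D2 → D3 → Nat := @D2.rec (fun _ => D3 → Nat) (@D3.rec (fun _ => Nat) 0 0 0 0 175 0 0 0 0 0 0 0 0 0 0 0 0 0 0 0 0 0 0 0 0 0 0 0 0 0 0 0 0 0 0 0 0 0 0 0 0 0 0 0 0 0 0 0 0 0 0 0 0 0 0 0 0 0 0 0 0 0) z3_c z3_c z3_c z3_c z3_c (@D3.rec (fun _ => Nat) 0 0 0 0 0 0 0 0 0 0 0 0 0 0 0 0 0 0 0 0 0 0 0 0 0 0 0 0 0 0 0 0 0 0 0 0 0 0 0 1532 0 0 0 0 0 0 0 0 0 0 0 0 0 0 0 0 0 0 0 0 0 0) z3_c z3_c z3_c z3_c (@D3.rec (fun _ => Nat) 0 0 0 0 0 0 0 0 0 0 0 0 0 0 0 0 0 0 0 0 0 0 0 0 0 0 0 0 0 0 0 0 0 0 0 0 0 0 0 0 0 0 0 0 0 0 0 0 0 0 0 0 0 0 0 0 0 0 0 424 0 0) z3_c z3_c (@D3.rec (fun _ => Nat) 0 0 0 0 0 0 0 0 0 0 0 0 0 0 0 0 0 0 0 0 0 0 0 0 0 0 0 0 0 0 0 0 0 0 0 0 0 0 0 0 0 0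 0 0 478 0 0 0 0 0 0 0 0 0 0 0 0 0 0 0 0 0) z3_c z3_c z3_c z3_c z3_c z3_c z3_c z3_c (@D3.rec (fun _ => Nat) 0 0 0 0 0 0 0 0 0 0 0 0 0 0 0 0 0 0 0 0 0 0 0 0 0 0 0 0 0 0 0 0 0 0 0 0 0 0 0 0 0 0 0 0 0 0 0 0 0 0 1586 0 0 0 0 0 0 0 0 0 0 0) z3_c z3_c z3_c z3_c z3_c z3_c z3_c (@D3.rec (fun _ => Nat) 0 0 0 0 0 0 0 0 0 0 0 0 0 0 0 0 0 0 0 0 0 0 0 0 0 0 0 0 0 0 0 0 0 0 0 0 0 0 0 0 0 0 0 0 0 0 0 0 0 0 0 0 0 0 0 0 0 0 512 0 0 0) z3_c z3_c z3_c z3_c z3_c z3_c z3_c z3_c z3_c z3_c z3_c z3_c z3_c (@D3.rec (fun _ => Nat) 0 0 0 0 0 0 0 0 0 0 0 1653 0 0 0 0 0 0 0 0 0 0 0 0 0 0 0 0 0 0 0 0 0 0 0 0 0 0 0 0 0 0 0 0 0 0 0 0 0 0 0 0 0 0 0 0 0 0 0 0 0 0) z3_c z3_c z3_c z3_c z3_c z3_c z3_c z3_c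 (@D3.rec (fun _ => Nat) 0 0 0 0 0 0 0 0 0 0 0 0 0 0 0 0 0 0 0 0 0 0 0 0 0 0 0 0 0 0 0 0 0 0 0 0 0 0 0 0 0 0 0 0 0 0 0 0 0 0 0 0 0 0 0 0 0 0 1646 0 0 0) z3_c z3_c z3_c z3_c z3_c
def sd_c_24 : D2 → D3 → Nat := @D2.rec (fun _ => D3 → Nat) z3_c z3_c (@D3.rec (fun _ => Nat) 0 0 0 0 0 0 0 0 0 0 0 0 0 0 0 0 0 0 0 0 0 0 0 0 0 0 0 0 0 0 0 0 0 0 0 0 0 0 0 0 0 0 0 0 0 0 0 0 0 0 0 0 0 0 0 0 0 0 0 1733 0 0) z3_c z3_c z3_c z3_c z3_c z3_c z3_c z3_c z3_c (@D3.rec (fun _ => Nat) 0 2889 0 0 0 0 0 0 0 0 0 0 0 0 0 0 0 0 0 0 0 0 0 0 0 0 0 0 0 0 0 0 0 0 0 0 0 0 0 0 0 0 0 0 0 0 0 0 0 0 502 0 0 0 0 0 0 0 0 0 0 0) z3_c z3_c (@D3.rec (fun _ => Nat) 0 0 0 0 0 0 0 0 0 0 0 0 0 0 0 0 0 0 0 0 0 0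 0 0 0 0 0 0 0 0 0 0 0 0 0 0 0 0 0 1949 0 0 0 0 0 0 0 0 0 0 0 0 0 0 0 0 0 0 0 0 0 0) z3_c z3_c z3_c z3_c z3_c z3_c z3_c z3_c z3_c z3_c z3_c (@D3.rec (fun _ => Nat) 0 0 0 0 0 0 0 0 0 0 0 0 0 0 0 1839 0 0 0 0 0 0 0 0 0 0 0 0 0 0 0 0 0 0 0 0 0 0 0 0 0 0 0 0 0 0 0 0 0 0 0 0 0 0 0 0 0 0 0 0 0 0) z3_c z3_c (@D3.rec (fun _ => Nat) 0 0 0 0 0 0 0 0 0 0 0 0 0 0 0 0 0 0 0 0 0 0 0 0 0 0 0 0 0 0 0 0 0 0 0 0 0 0 0 0 0 0 0 0 219 0 0 0 0 0 0 0 0 0 0 0 0 0 0 0 0 0) z3_c z3_c z3_c z3_c z3_c z3_c z3_c z3_c z3_c z3_c z3_c z3_c z3_c z3_c z3_c z3_c z3_c z3_c z3_c z3_c z3_c z3_c z3_c z3_c z3_c (@D3.rec (fun _ => Nat) 0 0 0 0 0 0 0 0 0 0 0 0 0 0 0 0 0 0 0 0 0 0 0 0 0 0 0 0 0 0 0 0 0 0 0 0 0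 0 0 0 0 0 0 0 0 0 0 0 0 0 0 0 0 0 0 0 0 2897 0 0 0 0) z3_c z3_c z3_c
def sd_c_25 : D2 → D3 → Nat := @D2.rec (fun _ => D3 → Nat) (@D3.rec (fun _ => Nat) 0 0 0 0 0 0 0 0 0 0 0 0 0 0 0 0 0 0 2643 0 0 0 0 0 0 0 0 0 0 0 0 0 0 0 0 0 0 0 0 0 0 0 0 0 0 0 0 0 0 0 0 0 0 0 0 0 0 0 0 0 0 0) (@D3.rec (fun _ => Nat) 0 0 0 0 0 0 0 0 0 0 0 0 0 0 0 0 0 0 0 0 0 0 0 0 0 0 0 0 0 0 0 0 0 0 0 0 0 0 0 0 0 0 0 0 0 0 0 0 0 0 0 0 0 0 0 0 0 0 0 2604 0 0) z3_c (@D3.rec (fun _ => Nat) 0 0 0 0 0 0 0 0 0 0 0 0 0 0 0 0 0 0 0 0 0 0 0 0 0 0 0 0 0 0 0 0 826 0 0 0 0 0 0 0 0 0 0 0 0 0 0 0 0 0 0 0 0 0 0 0 0 0 0 0 0 0) z3_c z3_c z3_c z3_c z3_c z3_c z3_c z3_c z3_c z3_c z3_c z3_c z3_c z3_c z3_c z3_c z3_c z3_c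 z3_c (@D3.rec (fun _ => Nat) 0 0 0 0 0 0 0 0 0 0 0 0 0 0 0 0 0 0 0 0 0 0 0 0 0 0 0 0 0 0 0 0 0 0 0 0 0 0 2716 0 0 0 0 0 0 0 0 0 0 0 0 0 0 0 0 0 0 0 0 0 0 0) (@D3.rec (fun _ => Nat) 0 0 0 0 0 0 0 0 0 0 0 0 0 0 0 0 0 0 0 0 0 0 0 0 0 0 0 0 0 0 0 0 0 0 0 0 0 0 0 0 0 0 0 0 0 0 0 0 0 0 0 0 0 0 0 0 0 1049 0 0 0 0) (@D3.rec (fun _ => Nat) 0 0 0 0 0 0 0 0 0 0 0 0 0 0 0 0 0 0 0 0 0 0 0 0 0 0 0 0 0 0 0 0 0 0 0 0 0 0 0 0 0 0 2446 0 0 0 0 0 0 0 0 0 0 0 0 0 0 0 0 0 0 0) z3_c z3_c z3_c z3_c z3_c z3_c z3_c z3_c z3_c z3_c (@D3.rec (fun _ => Nat) 0 0 2079 0 0 0 0 0 0 0 0 0 0 0 0 0 0 0 0 0 0 0 0 0 0 0 0 0 0 0 0 0 0 0 0 0 0 0 0 0 0 0 0 0 0 0 0 0 0 0 0 0 0 0 0 0 0 0 0 0 0 0) z3_c z3_c z3_c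 z3_c z3_c z3_c z3_c z3_c z3_c z3_c z3_c (@D3.rec (fun _ => Nat) 0 0 0 0 0 0 0 0 0 0 0 0 0 0 0 0 0 0 0 0 0 0 0 0 0 0 0 0 0 0 0 0 0 0 0 0 0 0 0 0 0 0 0 2672 0 0 0 0 0 0 0 0 0 0 0 0 0 0 0 0 0 0) (@D3.rec (fun _ => Nat) 0 0 0 0 2701 0 0 0 0 0 0 0 0 0 0 0 0 0 0 0 0 0 0 0 0 0 0 0 0 0 0 0 0 0 0 0 0 0 0 0 0 0 0 0 0 0 0 0 0 0 0 0 0 0 0 0 0 0 0 0 0 0) z3_c z3_c z3_c z3_c z3_c (@D3.rec (fun _ => Nat) 0 0 0 0 796 0 0 0 0 0 0 0 0 0 0 0 0 0 0 0 0 0 0 0 0 0 0 0 0 0 0 0 0 0 0 0 0 0 0 0 0 0 0 0 0 0 0 0 0 0 0 0 0 0 0 0 0 0 0 0 0 0) z3_c z3_c z3_c z3_c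
def sd_c_26 : D2 → D3 → Nat := @D2.rec (fun _ => D3 → Nat) z3_c z3_c z3_c z3_c z3_c z3_c z3_c z3_c z3_c z3_c z3_c z3_c z3_c (@D3.rec (fun _ => Nat) 0 0 0 0 0 0 0 0 0 0 0 0 0 0 0 0 0 0 0 0 0 0 0 0 0 0 0 0 0 0 0 0 0 0 0 0 0 0 0 0 0 0 0 0 0 0 0 0 0 0 0 0 0 0 799 0 0 0 0 0 0 0) z3_c z3_c z3_c z3_c z3_c (@D3.rec (fun _ => Nat) 0 0 0 0 0 0 0 0 0 0 0 0 0 0 0 0 0 0 0 0 0 0 0 0 0 0 0 0 2742 0 0 0 0 0 0 0 0 0 0 0 0 0 0 0 0 0 0 0 0 0 0 0 0 0 0 0 0 0 0 0 0 0) z3_c z3_c z3_c z3_c z3_c z3_c (@D3.rec (fun _ => Nat) 0 0 0 0 0 0 0 0 0 0 0 0 0 0 0 0 0 0 0 0 0 0 0 0 0 0 0 0 0 0 0 0 0 0 0 0 0 0 0 0 0 3055 0 0 0 0 0 0 0 0 0 0 0 0 0 0 0 0 0 0 0 0) z3_c z3_c z3_c z3_c z3_c (@D3.rec (fun _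 => Nat) 0 0 0 0 0 0 0 0 0 0 0 0 0 0 0 0 2400 0 0 0 0 0 0 0 0 0 0 0 0 0 0 0 0 0 0 0 0 0 0 0 0 0 0 0 0 0 0 0 0 0 0 0 0 0 0 0 0 0 0 0 0 0) z3_c z3_c (@D3.rec (fun _ => Nat) 0 0 0 0 0 0 0 0 0 0 0 0 0 0 0 0 0 0 0 0 0 0 0 0 0 0 0 0 0 2197 0 0 0 0 0 0 0 0 0 0 0 0 0 0 0 0 0 0 0 0 0 0 0 0 0 0 0 0 0 0 0 0) z3_c z3_c z3_c z3_c z3_c z3_c z3_c z3_c z3_c z3_c z3_c z3_c (@D3.rec (fun _ => Nat) 0 0 0 0 0 0 0 0 0 0 0 0 0 0 0 0 0 0 0 0 0 0 0 0 0 0 0 0 0 0 0 0 0 0 0 0 0 0 0 0 0 0 0 0 0 0 0 0 0 0 0 0 0 0 0 0 0 2891 0 0 0 0) z3_c z3_c z3_c z3_c z3_c z3_c z3_c z3_c (@D3.rec (fun _ => Nat) 0 0 0 0 0 0 0 0 0 0 0 0 0 0 0 0 0 0 0 0 0 0 0 0 0 2515 0 0 0 0 0 0 0 0 0 0 0 0 0 0 0 0 0 0 0 0 0 0 0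 0 0 0 0 0 0 0 0 0 0 0 0 0) z3_c z3_c
def sd_c_27 : D2 → D3 → Nat := @D2.rec (fun _ => D3 → Nat) z3_c z3_c (@D3.rec (fun _ => Nat) 0 0 0 0 0 0 0 0 0 0 0 0 0 0 0 0 0 0 0 0 0 0 0 3078 0 0 0 0 0 0 0 0 0 0 0 0 0 0 0 0 0 0 0 0 0 0 0 0 0 0 0 0 0 0 0 0 0 0 0 0 0 0) z3_c z3_c z3_c z3_c z3_c z3_c z3_c z3_c z3_c z3_c z3_c z3_c z3_c (@D3.rec (fun _ => Nat) 0 0 0 0 0 0 0 0 0 0 0 0 0 0 0 0 0 0 0 0 0 0 1931 0 0 0 0 0 0 0 0 0 0 0 0 0 0 0 0 2343 0 0 0 0 0 0 0 0 0 0 0 0 0 0 0 0 0 0 0 0 0 0) (@D3.rec (fun _ => Nat) 0 0 0 0 0 0 0 2981 0 0 0 0 0 0 0 0 0 0 0 0 0 0 0 0 0 0 0 0 0 0 0 0 0 0 0 0 0 0 0 0 0 0 0 0 0 0 0 0 0 0 0 0 0 0 0 0 0 0 0 0 0 0) (@D3.rec (fun _ => Nat) 0 0 0 0 0 0 0 0 0 0 0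 0 0 0 1212 0 0 0 0 0 0 0 0 0 0 0 0 0 0 0 0 0 0 0 0 0 0 0 0 0 0 0 0 0 0 0 0 0 0 0 0 0 0 0 0 0 0 0 0 0 0 0) (@D3.rec (fun _ => Nat) 0 0 0 0 0 0 0 0 0 0 0 0 0 0 0 0 0 0 0 0 0 0 0 0 0 0 0 0 0 0 1195 0 0 0 0 0 0 0 0 0 0 0 0 0 0 0 0 0 0 0 0 0 0 0 0 0 0 0 0 0 0 0) (@D3.rec (fun _ => Nat) 0 0 0 0 0 0 0 0 0 0 0 0 0 0 0 0 0 0 0 0 0 0 0 0 0 0 0 0 0 0 0 0 0 0 0 0 0 0 0 0 0 0 1206 0 0 0 0 0 0 0 0 0 0 0 0 0 0 0 0 0 0 0) (@D3.rec (fun _ => Nat) 0 0 0 0 0 0 0 0 0 0 0 0 0 0 0 0 0 0 0 0 0 0 0 0 0 0 0 0 0 0 0 0 0 0 0 0 0 0 0 0 0 0 0 0 0 0 0 0 1005 0 0 0 0 0 0 0 0 0 0 0 0 0) (@D3.rec (fun _ => Nat) 0 0 0 0 0 0 0 0 0 0 0 1493 0 0 0 0 0 0 0 0 0 0 0 0 0 0 0 0 0 0 0 0 0 0 0 0 0 0 0 0 0 0 0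 0 0 0 0 0 0 0 0 0 0 0 0 0 0 0 0 0 0 0) z3_c z3_c z3_c z3_c z3_c z3_c (@D3.rec (fun _ => Nat) 0 0 0 0 0 0 0 0 0 0 0 0 0 0 0 0 0 0 0 0 0 0 0 0 0 0 0 0 0 0 0 0 0 0 0 0 0 0 0 0 0 0 0 0 0 2394 0 0 0 0 0 0 0 0 0 0 0 0 0 0 0 0) z3_c (@D3.rec (fun _ => Nat) 2100 0 0 0 0 0 0 0 0 0 0 0 0 0 0 0 0 0 0 0 0 0 0 0 0 0 0 0 0 0 0 0 0 0 0 0 0 0 0 0 0 0 0 0 0 0 0 0 0 0 0 0 0 0 0 0 0 0 0 0 0 0) z3_c z3_c z3_c z3_c z3_c z3_c z3_c (@D3.rec (fun _ => Nat) 0 0 0 0 0 0 0 0 0 0 0 0 0 0 0 0 0 0 0 0 0 0 0 0 0 0 0 0 0 0 0 0 0 0 0 0 0 0 0 2405 0 0 0 0 0 0 0 0 0 0 0 0 0 0 0 0 0 0 0 0 0 0) z3_c z3_c (@D3.rec (fun _ => Nat) 0 0 0 0 0 0 0 0 0 0 0 0 0 0 0 0 2877 0 0 0 0 0 0 0 0 0 0 0 0 0 0 0 0 0 0 0 0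 0 0 0 0 0 0 0 0 0 0 0 0 0 0 0 0 0 0 0 0 0 0 0 0 0) z3_c z3_c z3_c z3_c z3_c z3_c z3_c z3_c z3_c z3_c z3_c z3_c (@D3.rec (fun _ => Nat) 0 0 0 0 0 0 0 0 0 0 0 0 0 0 0 0 0 0 0 0 0 0 0 0 0 0 0 0 0 0 0 0 0 0 0 0 0 0 0 0 0 0 829 0 0 0 2532 0 0 0 0 0 0 0 0 0 0 0 0 0 0 0) z3_c z3_c z3_c z3_c
def sd_c_28 : D2 → D3 → Nat := @D2.rec (fun _ => D3 → Nat) z3_c z3_c z3_c z3_c z3_c z3_c z3_c z3_c z3_c (@D3.rec (fun _ => Nat) 0 0 0 0 0 0 0 0 0 0 0 0 0 0 0 0 0 0 0 0 0 0 0 2533 0 0 0 0 0 0 0 0 0 0 0 0 0 0 0 0 0 0 0 0 0 0 0 0 0 0 0 0 0 0 0 0 0 0 0 0 0 0) z3_c z3_c z3_c (@D3.rec (fun _ => Nat) 0 0 0 0 0 0 0 0 0 0 0 0 0 0 0 0 0 0 0 0 0 0 0 0 0 0 0 0 0 0 0 0 0 0 0 0 0 0 0 0 0 0 0 0 0 0 0 0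 0 0 0 0 0 0 0 0 0 1085 0 0 0 0) z3_c z3_c z3_c z3_c z3_c (@D3.rec (fun _ => Nat) 0 0 0 0 0 0 0 0 0 0 0 0 0 0 0 0 0 0 0 0 0 0 0 0 0 0 0 0 0 0 0 0 0 0 0 0 0 0 0 0 0 0 0 0 0 3024 0 0 0 0 0 0 0 0 0 0 0 0 0 0 0 0) z3_c z3_c z3_c (@D3.rec (fun _ => Nat) 0 0 0 0 0 0 0 0 0 0 0 0 0 0 0 0 0 0 0 0 0 0 0 0 0 0 0 0 0 0 0 0 0 0 0 0 0 0 0 0 0 2650 0 0 0 0 0 0 0 0 0 0 0 0 0 0 0 0 0 0 0 0) z3_c z3_c z3_c z3_c z3_c z3_c z3_c z3_c z3_c z3_c z3_c z3_c z3_c z3_c z3_c z3_c z3_c z3_c z3_c z3_c z3_c z3_c z3_c z3_c (@D3.rec (fun _ => Nat) 0 0 0 0 0 0 0 0 0 0 0 0 0 0 0 0 0 0 0 0 0 0 0 0 0 0 0 0 0 0 0 0 2569 0 0 0 0 0 0 0 0 0 0 0 0 0 0 0 0 0 0 0 0 0 0 0 0 0 0 0 0 0) z3_c z3_c z3_c z3_c z3_c z3_c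 z3_c z3_c z3_c z3_c z3_c
def sd_c_29 : D2 → D3 → Nat := @D2.rec (fun _ => D3 → Nat) z3_c z3_c z3_c z3_c z3_c z3_c z3_c z3_c z3_c z3_c (@D3.rec (fun _ => Nat) 0 0 0 0 0 0 0 0 0 0 0 0 0 0 0 0 0 0 0 0 0 0 0 0 0 0 0 0 2134 0 0 0 0 0 0 0 0 0 0 0 0 0 0 0 0 0 0 0 0 0 0 0 0 0 0 0 0 0 0 0 0 0) z3_c z3_c z3_c z3_c z3_c z3_c z3_c z3_c z3_c (@D3.rec (fun _ => Nat) 0 0 0 0 0 0 0 0 0 0 0 0 0 0 0 2736 0 0 0 0 0 0 0 0 0 0 0 0 0 0 0 0 0 0 0 0 0 0 0 0 0 0 0 0 0 0 0 0 0 0 0 0 0 0 0 0 0 0 0 0 0 0) z3_c z3_c z3_c z3_c (@D3.rec (fun _ => Nat) 0 0 0 0 0 0 0 0 1823 0 0 0 0 0 0 0 0 0 0 0 0 0 0 0 0 0 0 0 0 0 0 0 0 0 0 0 0 0 0 0 0 0 0 0 0 0 0 0 0 0 0 0 0 0 0 0 0 0 0 0 0 0) z3_c z3_c z3_c z3_c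 z3_c z3_c z3_c z3_c z3_c z3_c (@D3.rec (fun _ => Nat) 0 0 0 0 0 0 0 0 0 0 0 0 0 0 0 0 0 0 0 0 0 0 0 0 0 0 0 0 0 0 0 0 0 0 0 0 0 0 0 0 0 0 0 0 0 0 0 0 0 2922 0 0 0 0 0 0 0 0 0 0 0 0) z3_c z3_c z3_c z3_c z3_c (@D3.rec (fun _ => Nat) 0 0 0 0 0 0 0 0 0 0 0 0 0 0 0 0 0 0 0 0 0 0 0 0 0 0 0 2382 0 0 0 0 0 0 0 0 0 0 0 0 0 0 0 0 0 0 0 0 0 0 0 0 0 0 0 0 0 0 0 0 0 0) z3_c z3_c z3_c z3_c z3_c (@D3.rec (fun _ => Nat) 848 0 0 0 0 0 0 0 0 0 0 0 0 0 0 0 0 0 0 0 0 0 0 0 0 0 0 0 0 0 0 0 0 0 0 0 0 0 0 0 0 0 0 0 0 0 0 0 0 0 0 0 0 0 0 0 0 0 0 0 0 0) z3_c z3_c (@D3.rec (fun _ => Nat) 0 0 0 0 0 0 0 0 0 0 0 0 0 0 0 0 0 0 0 0 0 0 0 0 0 0 0 0 0 0 0 0 0 218 0 0 0 0 0 0 0 0 0 0 0 0 0 0 0 0 0 0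 0 0 0 0 0 0 0 0 0 0) z3_c z3_c z3_c z3_c (@D3.rec (fun _ => Nat) 0 0 0 0 0 0 0 0 0 0 0 0 2312 2311 0 0 0 0 0 0 0 0 0 0 0 0 0 0 0 0 0 0 0 0 0 0 0 0 0 0 0 0 0 0 0 0 0 0 0 0 0 0 0 0 0 0 0 0 0 0 0 0) z3_c z3_c (@D3.rec (fun _ => Nat) 0 0 0 0 0 0 0 0 0 0 0 0 0 0 0 0 0 1905 0 0 0 0 0 0 0 0 0 0 0 0 0 0 0 0 0 0 0 0 0 0 0 0 0 0 0 0 0 0 0 0 0 0 0 0 0 0 0 0 0 0 0 0)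
def sd_c_30 : D2 → D3 → Nat := @D2.rec (fun _ => D3 → Nat) z3_c z3_c z3_c z3_c z3_c z3_c z3_c z3_c z3_c (@D3.rec (fun _ => Nat) 0 0 0 0 0 0 0 0 0 0 0 0 0 0 0 1419 0 0 0 0 0 0 0 0 0 0 0 0 0 0 0 0 0 0 0 0 0 0 0 0 0 0 0 0 0 0 0 0 0 0 0 0 0 0 0 0 0 0 0 0 0 0) z3_c z3_c (@D3.rec (fun _ => Nat) 0 0 0 0 0 0 0 0 0 0 0 0 0 0 0 0 0 0 0 0 0 0 0 0 0 0 0 0 0 0 0 0 0 0 0 0 0 0 0 0 0 0 0 0 0 0 0 0 0 0 0 0 0 0 0 1153 0 0 0 0 0 0) z3_c (@D3.rec (fun _ => Nat) 0 0 0 0 0 0 0 0 0 0 0 0 0 0 0 0 0 0 0 0 0 1444 0 0 0 0 0 0 0 0 0 0 0 0 0 0 0 0 0 0 0 0 0 0 0 0 0 0 0 0 0 0 0 0 0 0 0 0 0 0 0 0) z3_c (@D3.rec (fun _ => Nat) 0 0 0 0 0 0 0 0 0 0 0 0 0 0 0 0 0 0 0 0 0 0 0 0 0 0 0 0 0 0 0 0 0 0 0 0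 0 0 0 0 2330 0 0 0 0 0 0 0 0 0 0 0 0 0 0 0 0 0 0 0 0 0) z3_c z3_c (@D3.rec (fun _ => Nat) 0 0 0 0 0 0 0 0 0 0 0 0 0 0 0 0 0 0 0 0 0 0 0 0 0 0 0 0 0 1996 0 0 0 0 0 0 0 0 0 0 0 0 0 0 0 0 0 0 0 0 0 0 0 0 0 0 0 0 0 0 0 0) z3_c z3_c z3_c z3_c z3_c z3_c z3_c z3_c z3_c z3_c z3_c z3_c z3_c (@D3.rec (fun _ => Nat) 407 0 0 0 0 0 0 0 0 0 0 0 0 0 0 0 0 0 0 0 0 0 0 0 0 0 0 0 0 0 0 0 0 0 0 0 0 0 0 0 0 0 0 0 0 0 0 0 0 0 0 0 0 0 0 0 0 0 0 0 0 0) z3_c z3_c z3_c z3_c z3_c z3_c z3_c z3_c z3_c z3_c z3_c z3_c (@D3.rec (fun _ => Nat) 0 0 0 0 0 0 0 0 0 0 0 0 0 0 0 0 0 0 0 0 0 0 0 0 0 0 0 0 0 0 0 0 0 0 0 0 0 0 0 0 0 0 0 0 0 0 0 1699 0 0 0 0 0 0 0 0 0 0 0 0 0 0) z3_c z3_c z3_c z3_c z3_c z3_c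 z3_c z3_c z3_c z3_c z3_c z3_c z3_c
def sd_c_31 : D2 → D3 → Nat := @D2.rec (fun _ => D3 → Nat) z3_c z3_c (@D3.rec (fun _ => Nat) 0 0 0 0 0 0 0 0 0 0 0 0 0 1836 0 0 0 0 0 0 0 0 0 0 0 0 0 0 0 0 0 0 0 0 0 0 0 0 0 0 0 0 0 0 0 0 0 0 0 0 0 0 0 0 0 0 0 0 0 0 0 0) z3_c z3_c (@D3.rec (fun _ => Nat) 0 0 0 0 0 0 0 0 0 0 0 0 0 0 0 0 0 0 0 0 0 0 0 0 0 0 0 0 0 0 0 0 0 0 0 0 0 0 0 0 0 0 0 0 0 1628 0 0 0 0 0 0 0 0 0 0 0 0 0 0 0 0) z3_c z3_c z3_c z3_c z3_c z3_c z3_c z3_c z3_c z3_c z3_c (@D3.rec (fun _ => Nat) 0 0 0 0 0 0 0 0 0 0 0 0 0 0 0 0 0 0 0 0 0 0 0 0 0 0 0 0 0 0 0 0 0 0 1755 0 0 0 0 0 0 0 0 0 0 0 0 0 0 0 0 0 0 0 0 0 0 0 0 0 0 0) z3_c z3_c z3_c z3_c z3_c z3_c z3_c z3_c z3_c z3_c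 z3_c z3_c z3_c z3_c z3_c z3_c (@D3.rec (fun _ => Nat) 0 0 0 0 0 0 0 0 0 0 0 0 0 0 0 0 0 0 0 1887 0 0 0 0 0 0 0 0 0 0 0 0 0 0 0 0 0 0 0 0 0 0 0 0 0 0 0 0 0 0 0 0 0 0 0 0 0 0 0 0 0 0) z3_c z3_c z3_c z3_c z3_c z3_c z3_c z3_c z3_c z3_c z3_c z3_c z3_c z3_c z3_c z3_c z3_c z3_c z3_c z3_c z3_c z3_c z3_c z3_c z3_c
def sd_c_32 : D2 → D3 → Nat := @D2.rec (fun _ => D3 → Nat) z3_c z3_c z3_c z3_c z3_c z3_c z3_c z3_c z3_c z3_c z3_c z3_c z3_c (@D3.rec (fun _ => Nat) 0 0 0 0 0 0 0 0 0 0 0 0 0 0 0 0 0 0 0 0 0 0 0 2732 0 0 0 0 0 0 0 0 0 0 0 0 0 0 0 0 0 0 0 0 0 0 0 0 0 0 0 0 0 0 0 0 0 0 0 0 0 0) z3_c z3_c z3_c (@D3.rec (fun _ => Nat) 0 0 0 0 0 0 0 0 0 0 0 0 0 0 0 0 0 0 0 0 0 0 0 0 0 0 0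 0 0 0 0 0 2968 0 0 0 0 0 0 0 0 0 0 0 0 0 0 0 0 0 0 0 0 0 0 0 0 0 0 0 0 0) (@D3.rec (fun _ => Nat) 0 0 0 0 2998 0 0 0 0 0 0 0 0 0 0 0 0 0 0 0 0 0 0 0 0 0 0 0 0 0 0 0 0 0 0 0 0 0 0 0 0 0 0 0 0 0 0 0 0 0 0 0 0 0 0 0 0 0 0 0 0 0) z3_c z3_c z3_c z3_c z3_c z3_c z3_c z3_c z3_c z3_c z3_c z3_c z3_c z3_c z3_c z3_c z3_c z3_c z3_c z3_c z3_c z3_c z3_c z3_c z3_c z3_c z3_c z3_c z3_c z3_c z3_c z3_c z3_c z3_c z3_c z3_c z3_c z3_c z3_c z3_c z3_c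
def sd_c : Pt → Nat := @Pt.rec (fun _ => Nat) (@D1.rec (fun _ => D2 → D3 → Nat) sd_c_0 sd_c_1 z2_c sd_c_3 sd_c_4 sd_c_5 sd_c_6 sd_c_7 sd_c_8 sd_c_9 sd_c_10 sd_c_11 sd_c_12 sd_c_13 sd_c_14 sd_c_15 sd_c_16 sd_c_17 sd_c_18 sd_c_19 sd_c_20 sd_c_21 sd_c_22 sd_c_23 sd_c_24 sd_c_25 sd_c_26 sd_c_27 sd_c_28 sd_c_29 sd_c_30 sd_c_31 sd_c_32)

end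

end Cfsg.Agent.Helper28.S1692
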