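import Cfsg.Agent.Lib.Helper28.S1692.Tree

set_option autoImplicit false
set_option maxRecDepth 100000
set_option linter.all false

namespace Cfsg.Agent.Helper28.S1692

open Cfsg.Agent.Helper28
open Cfsg.Spor.ON (Gen)

noncomputable section

abbrev lc_d_Cert_tree : Cert rels S Gen.d := Cert.tree
abbrev lc_d_rc_12_1 : Cert rels S Gen.d := rc_12_1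
abbrev lc_d_rc_12_11 : Cert rels S Gen.d := rc_12_11
abbrev lc_d_rc_12_13 : Cert rels S Gen.d := rc_12_13
abbrev lc_d_rc_12_15 : Cert rels S Gen.d := rc_12_15
abbrev lc_d_rc_12_3 : Cert rels S Gen.d := rc_12_3
abbrev lc_d_rc_12_5 : Cert rels S Gen.d := rc_12_5
abbrev lc_d_rc_12_7 : Cert rels S Gen.d := rc_12_7
abbrev lc_d_rc_12_9 : Cert rels S Gen.d := rc_12_9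
abbrev lc_d_rc_15_1 : Cert rels S Gen.d := rc_15_1
abbrev lc_d_rc_16_0 : Cert rels S Gen.d := rc_16_0
abbrev lc_d_rc_16_2 : Cert rels S Gen.d := rc_16_2
abbrev lc_d_rc_16_4 : Cert rels S Gen.d := rc_16_4
abbrev lc_d_rc_17_0 : Cert rels S Gen.d := rc_17_0
abbrev lc_d_rc_17_2 : Cert rels S Gen.d := rc_17_2
abbrev lc_d_rc_22_2 : Cert rels S Gen.d := rc_22_2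
abbrev lc_d_rc_22_4 : Cert rels S Gen.d := rc_22_4
abbrev lc_d_rc_22_6 : Cert rels S Gen.d := rc_22_6
abbrev lc_d_rc_22_8 : Cert rels S Gen.d := rc_22_8
abbrev lc_d_rc_23_2 : Cert rels S Gen.d := rc_23_2
abbrev lc_d_rc_23_4 : Cert rels S Gen.d := rc_23_4
abbrev lc_d_rc_23_6 : Cert rels S Gen.d := rc_23_6
abbrev lc_d_rc_23_8 : Cert rels S Gen.d := rc_23_8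
abbrev lc_d_rc_24_0 : Cert rels S Gen.d := rc_24_0
abbrev lc_d_rc_24_5 : Cert rels S Gen.d := rc_24_5
abbrev lc_d_rc_25_10 : Cert rels S Gen.d := rc_25_10
abbrev lc_d_rc_25_14 : Cert rels S Gen.d := rc_25_14
abbrev lc_d_rc_25_18 : Cert rels S Gen.d := rc_25_18
abbrev lc_d_rc_25_2 : Cert rels S Gen.d := rc_25_2
abbrev lc_d_rc_25_6 : Cert rels S Gen.d := rc_25_6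
abbrev lc_d_rc_27_10 : Cert rels S Gen.d := rc_27_10
abbrev lc_d_rc_27_2 : Cert rels S Gen.d := rc_27_2
abbrev lc_d_rc_27_4 : Cert rels S Gen.d := rc_27_4
abbrev lc_d_rc_27_8 : Cert rels S Gen.d := rc_27_8
abbrev lc_d_rc_3_1 : Cert rels S Gen.d := rc_3_1
abbrev lc_d_rc_3_3 : Cert rels S Gen.d := rc_3_3
abbrev lc_d_rc_8_1 : Cert rels S Gen.d := rc_8_1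
abbrev lc_d_rc_8_3 : Cert rels S Gen.d := rc_8_3
abbrev lc_d_sc_3_0 : Cert rels S Gen.d := sc_3_0
def ce_d_0 : D2 → D3 → (Cert rels S Gen.d) := @D2.rec (fun _ => D3 → (Cert rels S Gen.d)) (@D3.rec (fun _ => (Cert rels S Gen.d)) lc_d_sc_3_0 lc_d_Cert_tree lc_d_Cert_tree lc_d_Cert_tree lc_d_rc_15_1 lc_d_Cert_tree lc_d_rc_12_5 lc_d_rc_24_0 lc_d_Cert_tree lc_d_Cert_tree lc_d_rc_15_1 lc_d_Cert_tree lc_d_rc_24_0 lc_d_Cert_tree lc_d_rc_15_1 lc_d_Cert_tree lc_d_rc_27_8 lc_d_Cert_tree lc_d_Cert_tree lc_d_Cert_tree lc_d_rc_15_1 lc_d_rc_17_2 lc_d_Cert_tree lc_d_Cert_tree lc_d_Cert_tree lc_d_rc_15_1 lc_d_Cert_tree lc_d_Cert_tree lc_d_Cert_tree lc_d_Cert_tree lc_d_rc_15_1 lc_d_Cert_tree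 lc_d_Cert_tree lc_d_rc_24_0 lc_d_Cert_tree lc_d_Cert_tree lc_d_Cert_tree lc_d_Cert_tree lc_d_rc_15_1 lc_d_rc_17_2 lc_d_rc_8_3 lc_d_Cert_tree lc_d_Cert_tree lc_d_rc_15_1 lc_d_Cert_tree lc_d_rc_23_8 lc_d_Cert_tree lc_d_Cert_tree lc_d_Cert_tree lc_d_rc_15_1 lc_d_rc_17_2 lc_d_rc_27_2 lc_d_rc_27_10 lc_d_rc_15_1 lc_d_rc_17_2 lc_d_rc_15_1 lc_d_rc_15_1 lc_d_rc_15_1 lc_d_rc_15_1 lc_d_Cert_tree lc_d_rc_17_2 lc_d_Cert_tree) (@D3.rec (fun _ => (Cert rels S Gen.d)) lc_d_Cert_tree lc_d_rc_15_1 lc_d_Cert_tree lc_d_rc_15_1 lc_d_Cert_tree lc_d_rc_15_1 lc_d_Cert_tree lc_d_Cert_tree lc_d_Cert_tree lc_d_Cert_tree lc_d_Cert_tree lc_d_rc_15_1 lc_d_rc_17_2 lc_d_rc_15_1 lc_d_Cert_tree lc_d_rc_15_1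 lc_d_rc_15_1 lc_d_Cert_tree lc_d_rc_23_6 lc_d_rc_27_10 lc_d_Cert_tree lc_d_Cert_tree lc_d_Cert_tree lc_d_Cert_tree lc_d_rc_15_1 lc_d_rc_17_2 lc_d_rc_15_1 lc_d_rc_27_2 lc_d_rc_24_5 lc_d_rc_27_2 lc_d_rc_24_5 lc_d_rc_24_0 lc_d_rc_24_0 lc_d_rc_15_1 lc_d_Cert_tree lc_d_rc_23_8 lc_d_rc_15_1 lc_d_rc_17_2 lc_d_Cert_tree lc_d_rc_15_1 lc_d_Cert_tree lc_d_rc_15_1 lc_d_rc_15_1 lc_d_rc_15_1 lc_d_Cert_tree lc_d_rc_17_2 lc_d_rc_15_1 lc_d_Cert_tree lc_d_rc_23_8 lc_d_rc_8_3 lc_d_Cert_tree lc_d_Cert_tree lc_d_Cert_tree lc_d_rc_15_1 lc_d_rc_17_2 lc_d_rc_27_2 lc_d_rc_23_2 lc_d_rc_15_1 lc_d_rc_17_2 lc_d_Cert_tree lc_d_rc_15_1 lc_d_rc_15_1) (@D3.rec (fun _ => (Cert rels S Gen.d)) lc_d_rc_15_1 lc_d_rc_15_1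 lc_d_Cert_tree lc_d_rc_17_2 lc_d_Cert_tree lc_d_rc_17_2 lc_d_Cert_tree lc_d_rc_27_2 lc_d_Cert_tree lc_d_rc_16_4 lc_d_Cert_tree lc_d_Cert_tree lc_d_rc_16_4 lc_d_Cert_tree lc_d_Cert_tree lc_d_Cert_tree lc_d_rc_15_1 lc_d_rc_17_2 lc_d_rc_16_4 lc_d_Cert_tree lc_d_rc_15_1 lc_d_Cert_tree lc_d_Cert_tree lc_d_Cert_tree lc_d_Cert_tree lc_d_rc_15_1 lc_d_rc_23_6 lc_d_rc_24_0 lc_d_rc_15_1 lc_d_rc_24_5 lc_d_Cert_tree lc_d_rc_15_1 lc_d_Cert_tree lc_d_rc_16_4 lc_d_rc_15_1 lc_d_Cert_tree lc_d_rc_22_4 lc_d_Cert_tree lc_d_Cert_tree lc_d_Cert_tree lc_d_rc_15_1 lc_d_rc_17_2 lc_d_rc_3_1 lc_d_rc_15_1 lc_d_Cert_tree lc_d_rc_23_8 lc_d_rc_15_1 lc_d_rc_27_8 lc_d_Cert_tree lc_d_rc_15_1 lc_d_Cert_tree lc_d_rc_15_1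 lc_d_rc_15_1 lc_d_rc_15_1 lc_d_Cert_tree lc_d_rc_17_2 lc_d_rc_22_4 lc_d_rc_16_4 lc_d_Cert_tree lc_d_rc_15_1 lc_d_rc_22_4 lc_d_rc_16_4) (@D3.rec (fun _ => (Cert rels S Gen.d)) lc_d_rc_23_4 lc_d_rc_23_6 lc_d_rc_23_8 lc_d_Cert_tree lc_d_rc_15_1 lc_d_rc_17_2 lc_d_rc_24_5 lc_d_Cert_tree lc_d_rc_8_3 lc_d_rc_24_0 lc_d_Cert_tree lc_d_rc_23_8 lc_d_rc_15_1 lc_d_Cert_tree lc_d_rc_15_1 lc_d_Cert_tree lc_d_Cert_tree lc_d_Cert_tree lc_d_rc_15_1 lc_d_rc_17_2 lc_d_rc_15_1 lc_d_Cert_tree lc_d_Cert_tree lc_d_rc_15_1 lc_d_rc_15_1 lc_d_rc_15_1 lc_d_Cert_tree lc_d_rc_17_2 lc_d_rc_15_1 lc_d_rc_8_3 lc_d_rc_27_2 lc_d_rc_8_1 lc_d_Cert_tree lc_d_rc_27_2 lc_d_rc_8_3 lc_d_rc_27_2 lc_d_Cert_tree lc_d_rc_22_6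 lc_d_Cert_tree lc_d_rc_27_10 lc_d_rc_15_1 lc_d_rc_17_2 lc_d_Cert_tree lc_d_Cert_tree lc_d_rc_17_2 lc_d_Cert_tree lc_d_Cert_tree lc_d_rc_15_1 lc_d_rc_15_1 lc_d_Cert_tree lc_d_rc_16_4 lc_d_Cert_tree lc_d_rc_15_1 lc_d_Cert_tree lc_d_rc_16_4 lc_d_Cert_tree lc_d_Cert_tree lc_d_rc_16_4 lc_d_Cert_tree lc_d_Cert_tree lc_d_Cert_tree lc_d_rc_15_1) (@D3.rec (fun _ => (Cert rels S Gen.d)) lc_d_rc_17_2 lc_d_rc_16_4 lc_d_Cert_tree lc_d_rc_15_1 lc_d_rc_17_2 lc_d_rc_27_2 lc_d_rc_8_3 lc_d_rc_24_5 lc_d_rc_15_1 lc_d_rc_17_2 lc_d_rc_15_1 lc_d_rc_15_1 lc_d_rc_15_1 lc_d_rc_8_3 lc_d_Cert_tree lc_d_rc_17_2 lc_d_rc_8_1 lc_d_Cert_tree lc_d_rc_17_2 lc_d_rc_15_1 lc_d_rc_15_1 lc_d_rc_27_2 lc_d_rc_12_11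 lc_d_rc_16_4 lc_d_rc_8_1 lc_d_rc_16_4 lc_d_Cert_tree lc_d_rc_15_1 lc_d_rc_22_4 lc_d_rc_16_4 lc_d_Cert_tree lc_d_rc_15_1 lc_d_rc_17_2 lc_d_rc_16_4 lc_d_rc_23_2 lc_d_Cert_tree lc_d_rc_15_1 lc_d_Cert_tree lc_d_rc_27_4 lc_d_rc_15_1 lc_d_rc_17_2 lc_d_Cert_tree lc_d_rc_15_1 lc_d_Cert_tree lc_d_rc_17_2 lc_d_Cert_tree lc_d_rc_15_1 lc_d_Cert_tree lc_d_rc_15_1 lc_d_Cert_tree lc_d_rc_27_10 lc_d_Cert_tree lc_d_rc_15_1 lc_d_Cert_tree lc_d_rc_15_1 lc_d_rc_16_2 lc_d_Cert_tree lc_d_Cert_tree lc_d_Cert_tree lc_d_rc_15_1 lc_d_rc_17_2 lc_d_rc_23_6) (@D3.rec (fun _ => (Cert rels S Gen.d)) lc_d_rc_23_4 lc_d_rc_15_1 lc_d_rc_16_4 lc_d_rc_17_2 lc_d_Cert_tree lc_d_rc_15_1 lc_d_Cert_tree lc_d_rc_12_3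 lc_d_Cert_tree lc_d_rc_15_1 lc_d_rc_15_1 lc_d_Cert_tree lc_d_rc_15_1 lc_d_Cert_tree lc_d_rc_15_1 lc_d_rc_8_3 lc_d_rc_24_0 lc_d_Cert_tree lc_d_rc_8_3 lc_d_rc_15_1 lc_d_rc_25_2 lc_d_Cert_tree lc_d_rc_12_15 lc_d_Cert_tree lc_d_rc_8_3 lc_d_Cert_tree lc_d_Cert_tree lc_d_Cert_tree lc_d_rc_17_2 lc_d_rc_15_1 lc_d_rc_8_3 lc_d_Cert_tree lc_d_rc_16_4 lc_d_rc_15_1 lc_d_Cert_tree lc_d_Cert_tree lc_d_Cert_tree lc_d_rc_17_2 lc_d_rc_8_3 lc_d_rc_24_0 lc_d_Cert_tree lc_d_Cert_tree lc_d_Cert_tree lc_d_Cert_tree lc_d_rc_15_1 lc_d_rc_17_2 lc_d_rc_8_3 lc_d_Cert_tree lc_d_Cert_tree lc_d_Cert_tree lc_d_rc_15_1 lc_d_rc_17_2 lc_d_Cert_tree lc_d_rc_15_1 lc_d_rc_15_1 lc_d_rc_15_1 lc_d_rc_15_1 lc_d_Cert_tree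 lc_d_rc_17_2 lc_d_rc_24_0 lc_d_rc_8_3 lc_d_Cert_tree) (@D3.rec (fun _ => (Cert rels S Gen.d)) lc_d_Cert_tree lc_d_rc_27_10 lc_d_rc_15_1 lc_d_rc_27_8 lc_d_rc_24_0 lc_d_Cert_tree lc_d_rc_15_1 lc_d_Cert_tree lc_d_rc_16_4 lc_d_Cert_tree lc_d_rc_15_1 lc_d_Cert_tree lc_d_rc_15_1 lc_d_Cert_tree lc_d_Cert_tree lc_d_rc_16_4 lc_d_Cert_tree lc_d_Cert_tree lc_d_Cert_tree lc_d_rc_15_1 lc_d_rc_17_2 lc_d_rc_16_4 lc_d_rc_8_3 lc_d_Cert_tree lc_d_Cert_tree lc_d_Cert_tree lc_d_rc_17_2 lc_d_rc_15_1 lc_d_Cert_tree lc_d_rc_15_1 lc_d_rc_16_4 lc_d_rc_8_3 lc_d_Cert_tree lc_d_Cert_tree lc_d_Cert_tree lc_d_rc_17_2 lc_d_rc_15_1 lc_d_Cert_tree lc_d_Cert_tree lc_d_rc_8_3 lc_d_Cert_tree lc_d_Cert_tree lc_d_Cert_tree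 lc_d_rc_15_1 lc_d_rc_17_2 lc_d_rc_15_1 lc_d_rc_24_0 lc_d_Cert_tree lc_d_rc_17_2 lc_d_rc_8_3 lc_d_Cert_tree lc_d_Cert_tree lc_d_Cert_tree lc_d_rc_15_1 lc_d_rc_17_2 lc_d_Cert_tree lc_d_rc_8_3 lc_d_Cert_tree lc_d_Cert_tree lc_d_Cert_tree lc_d_rc_15_1 lc_d_rc_17_2) (@D3.rec (fun _ => (Cert rels S Gen.d)) lc_d_rc_15_1 lc_d_Cert_tree lc_d_rc_8_3 lc_d_Cert_tree lc_d_rc_22_4 lc_d_rc_23_8 lc_d_Cert_tree lc_d_rc_15_1 lc_d_Cert_tree lc_d_Cert_tree lc_d_Cert_tree lc_d_Cert_tree lc_d_rc_15_1 lc_d_rc_17_2 lc_d_Cert_tree lc_d_rc_15_1 lc_d_Cert_tree lc_d_Cert_tree lc_d_Cert_tree lc_d_rc_15_1 lc_d_Cert_tree lc_d_Cert_tree lc_d_Cert_tree lc_d_Cert_tree lc_d_rc_17_2 lc_d_rc_15_1 lc_d_Cert_tree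 lc_d_rc_16_4 lc_d_Cert_tree lc_d_rc_15_1 lc_d_rc_15_1 lc_d_Cert_tree lc_d_rc_16_4 lc_d_Cert_tree lc_d_rc_8_3 lc_d_Cert_tree lc_d_rc_16_4 lc_d_Cert_tree lc_d_Cert_tree lc_d_Cert_tree lc_d_rc_15_1 lc_d_rc_22_4 lc_d_rc_16_4 lc_d_rc_27_4 lc_d_rc_25_2 lc_d_rc_24_0 lc_d_rc_3_1 lc_d_rc_15_1 lc_d_rc_27_8 lc_d_rc_8_1 lc_d_rc_27_2 lc_d_rc_15_1 lc_d_rc_25_2 lc_d_rc_15_1 lc_d_rc_15_1 lc_d_rc_8_3 lc_d_Cert_tree lc_d_Cert_tree lc_d_Cert_tree lc_d_rc_15_1 lc_d_rc_17_2 lc_d_Cert_tree) (@D3.rec (fun _ => (Cert rels S Gen.d)) lc_d_rc_17_2 lc_d_Cert_tree lc_d_rc_15_1 lc_d_rc_23_8 lc_d_rc_15_1 lc_d_Cert_tree lc_d_rc_15_1 lc_d_rc_17_2 lc_d_rc_16_4 lc_d_Cert_tree lc_d_rc_15_1 lc_d_Cert_tree lc_d_Cert_tree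 lc_d_rc_15_1 lc_d_rc_23_4 lc_d_rc_23_8 lc_d_rc_15_1 lc_d_Cert_tree lc_d_rc_16_2 lc_d_Cert_tree lc_d_Cert_tree lc_d_Cert_tree lc_d_rc_15_1 lc_d_Cert_tree lc_d_rc_27_10 lc_d_rc_8_3 lc_d_rc_17_2 lc_d_rc_15_1 lc_d_rc_23_8 lc_d_rc_16_4 lc_d_Cert_tree lc_d_rc_15_1 lc_d_Cert_tree lc_d_rc_17_2 lc_d_rc_3_1 lc_d_Cert_tree lc_d_rc_15_1 lc_d_Cert_tree lc_d_rc_15_1 lc_d_rc_23_2 lc_d_rc_24_0 lc_d_rc_16_2 lc_d_Cert_tree lc_d_rc_15_1 lc_d_Cert_tree lc_d_rc_24_5 lc_d_rc_15_1 lc_d_Cert_tree lc_d_Cert_tree lc_d_Cert_tree lc_d_Cert_tree lc_d_rc_15_1 lc_d_rc_17_2 lc_d_rc_15_1 lc_d_rc_23_4 lc_d_rc_22_6 lc_d_rc_16_4 lc_d_rc_17_2 lc_d_Cert_tree lc_d_rc_15_1 lc_d_rc_27_8 lc_d_Cert_tree) (@D3.rec (fun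 _ => (Cert rels S Gen.d)) lc_d_rc_17_2 lc_d_rc_17_2 lc_d_rc_15_1 lc_d_rc_15_1 lc_d_rc_27_4 lc_d_rc_23_2 lc_d_rc_16_4 lc_d_rc_16_4 lc_d_Cert_tree lc_d_rc_15_1 lc_d_rc_17_2 lc_d_rc_16_4 lc_d_Cert_tree lc_d_rc_15_1 lc_d_rc_16_4 lc_d_rc_16_4 lc_d_rc_8_3 lc_d_Cert_tree lc_d_rc_27_10 lc_d_rc_15_1 lc_d_rc_17_2 lc_d_rc_8_3 lc_d_Cert_tree lc_d_rc_17_2 lc_d_rc_16_2 lc_d_Cert_tree lc_d_Cert_tree lc_d_Cert_tree lc_d_rc_15_1 lc_d_rc_15_1 lc_d_rc_16_4 lc_d_Cert_tree lc_d_rc_24_0 lc_d_rc_23_8 lc_d_Cert_tree lc_d_rc_15_1 lc_d_rc_17_2 lc_d_rc_12_1 lc_d_rc_16_4 lc_d_rc_17_2 lc_d_Cert_tree lc_d_rc_8_3 lc_d_Cert_tree lc_d_Cert_tree lc_d_Cert_tree lc_d_Cert_tree lc_d_rc_15_1 lc_d_Cert_tree lc_d_Cert_tree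 lc_d_rc_3_3 lc_d_Cert_tree lc_d_rc_15_1 lc_d_rc_17_2 lc_d_rc_8_1 lc_d_rc_8_3 lc_d_Cert_tree lc_d_Cert_tree lc_d_Cert_tree lc_d_Cert_tree lc_d_rc_15_1 lc_d_Cert_tree lc_d_Cert_tree) (@D3.rec (fun _ => (Cert rels S Gen.d)) lc_d_rc_15_1 lc_d_rc_17_2 lc_d_rc_15_1 lc_d_rc_8_3 lc_d_Cert_tree lc_d_rc_15_1 lc_d_rc_16_4 lc_d_rc_15_1 lc_d_rc_8_3 lc_d_Cert_tree lc_d_rc_15_1 lc_d_Cert_tree lc_d_rc_27_8 lc_d_rc_16_4 lc_d_rc_15_1 lc_d_Cert_tree lc_d_Cert_tree lc_d_Cert_tree lc_d_rc_15_1 lc_d_rc_16_4 lc_d_Cert_tree lc_d_Cert_tree lc_d_Cert_tree lc_d_Cert_tree lc_d_rc_15_1 lc_d_rc_16_2 lc_d_rc_27_8 lc_d_Cert_tree lc_d_rc_27_2 lc_d_Cert_tree lc_d_Cert_tree lc_d_rc_15_1 lc_d_rc_25_2 lc_d_Cert_tree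 lc_d_Cert_tree lc_d_rc_15_1 lc_d_rc_16_2 lc_d_rc_15_1 lc_d_rc_27_10 lc_d_rc_15_1 lc_d_Cert_tree lc_d_rc_16_4 lc_d_rc_17_2 lc_d_Cert_tree lc_d_rc_15_1 lc_d_rc_24_5 lc_d_rc_15_1 lc_d_Cert_tree lc_d_rc_8_3 lc_d_Cert_tree lc_d_Cert_tree lc_d_rc_15_1 lc_d_rc_17_2 lc_d_Cert_tree lc_d_rc_24_5 lc_d_rc_15_1 lc_d_Cert_tree lc_d_Cert_tree lc_d_Cert_tree lc_d_rc_15_1 lc_d_rc_8_3 lc_d_Cert_tree) (@D3.rec (fun _ => (Cert rels S Gen.d)) lc_d_Cert_tree lc_d_Cert_tree lc_d_rc_15_1 lc_d_rc_17_2 lc_d_Cert_tree lc_d_rc_3_3 lc_d_Cert_tree lc_d_rc_15_1 lc_d_rc_22_8 lc_d_Cert_tree lc_d_Cert_tree lc_d_rc_15_1 lc_d_rc_17_2 lc_d_Cert_tree lc_d_rc_3_3 lc_d_Cert_tree lc_d_rc_22_8 lc_d_Cert_tree lc_d_rc_22_2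 lc_d_Cert_tree lc_d_rc_15_1 lc_d_rc_15_1 lc_d_Cert_tree lc_d_Cert_tree lc_d_Cert_tree lc_d_rc_17_2 lc_d_Cert_tree lc_d_rc_8_3 lc_d_Cert_tree lc_d_Cert_tree lc_d_Cert_tree lc_d_rc_15_1 lc_d_rc_17_2 lc_d_rc_8_3 lc_d_Cert_tree lc_d_Cert_tree lc_d_Cert_tree lc_d_rc_15_1 lc_d_rc_17_2 lc_d_rc_25_10 lc_d_rc_23_2 lc_d_rc_15_1 lc_d_Cert_tree lc_d_Cert_tree lc_d_Cert_tree lc_d_rc_15_1 lc_d_rc_17_2 lc_d_Cert_tree lc_d_Cert_tree lc_d_rc_15_1 lc_d_Cert_tree lc_d_Cert_tree lc_d_rc_15_1 lc_d_Cert_tree lc_d_rc_24_5 lc_d_rc_16_4 lc_d_Cert_tree lc_d_Cert_tree lc_d_rc_15_1 lc_d_Cert_tree lc_d_Cert_tree lc_d_rc_17_2) (@D3.rec (fun _ => (Cert rels S Gen.d)) lc_d_rc_15_1 lc_d_rc_8_3 lc_d_rc_3_3 lc_d_Cert_tree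 lc_d_Cert_tree lc_d_Cert_tree lc_d_rc_15_1 lc_d_rc_17_2 lc_d_Cert_tree lc_d_rc_15_1 lc_d_Cert_tree lc_d_Cert_tree lc_d_Cert_tree lc_d_rc_15_1 lc_d_Cert_tree lc_d_rc_15_1 lc_d_Cert_tree lc_d_rc_24_0 lc_d_Cert_tree lc_d_Cert_tree lc_d_Cert_tree lc_d_Cert_tree lc_d_rc_15_1 lc_d_Cert_tree lc_d_Cert_tree lc_d_Cert_tree lc_d_rc_15_1 lc_d_rc_17_2 lc_d_rc_15_1 lc_d_rc_15_1 lc_d_rc_8_3 lc_d_Cert_tree lc_d_Cert_tree lc_d_rc_17_2 lc_d_rc_25_2 lc_d_rc_25_14 lc_d_rc_3_3 lc_d_Cert_tree lc_d_Cert_tree lc_d_Cert_tree lc_d_rc_15_1 lc_d_rc_17_2 lc_d_Cert_tree lc_d_Cert_tree lc_d_rc_15_1 lc_d_rc_27_4 lc_d_Cert_tree lc_d_rc_15_1 lc_d_Cert_tree lc_d_Cert_tree lc_d_rc_15_1 lc_d_Cert_tree lc_d_rc_17_2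 lc_d_rc_15_1 lc_d_Cert_tree lc_d_rc_16_4 lc_d_Cert_tree lc_d_rc_15_1 lc_d_rc_8_3 lc_d_Cert_tree lc_d_Cert_tree lc_d_rc_16_4) (@D3.rec (fun _ => (Cert rels S Gen.d)) lc_d_Cert_tree lc_d_Cert_tree lc_d_Cert_tree lc_d_rc_15_1 lc_d_rc_22_4 lc_d_rc_16_4 lc_d_rc_27_2 lc_d_rc_27_2 lc_d_rc_8_3 lc_d_rc_15_1 lc_d_rc_15_1 lc_d_Cert_tree lc_d_Cert_tree lc_d_rc_15_1 lc_d_rc_17_2 lc_d_rc_15_1 lc_d_Cert_tree lc_d_Cert_tree lc_d_rc_15_1 lc_d_rc_23_6 lc_d_rc_15_1 lc_d_rc_23_8 lc_d_rc_16_4 lc_d_rc_23_8 lc_d_rc_15_1 lc_d_Cert_tree lc_d_rc_15_1 lc_d_Cert_tree lc_d_rc_15_1 lc_d_rc_17_2 lc_d_rc_15_1 lc_d_rc_23_2 lc_d_rc_16_4 lc_d_Cert_tree lc_d_rc_15_1 lc_d_Cert_tree lc_d_rc_17_2 lc_d_Cert_tree lc_d_rc_15_1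 lc_d_Cert_tree lc_d_rc_15_1 lc_d_Cert_tree lc_d_Cert_tree lc_d_rc_15_1 lc_d_rc_15_1 lc_d_Cert_tree lc_d_Cert_tree lc_d_Cert_tree lc_d_Cert_tree lc_d_rc_15_1 lc_d_rc_17_2 lc_d_rc_23_6 lc_d_rc_23_6 lc_d_rc_22_6 lc_d_rc_16_4 lc_d_rc_17_2 lc_d_Cert_tree lc_d_rc_22_8 lc_d_rc_22_2 lc_d_Cert_tree lc_d_rc_15_1 lc_d_rc_17_2) (@D3.rec (fun _ => (Cert rels S Gen.d)) lc_d_Cert_tree lc_d_rc_15_1 lc_d_rc_27_4 lc_d_rc_15_1 lc_d_rc_27_8 lc_d_Cert_tree lc_d_rc_15_1 lc_d_Cert_tree lc_d_Cert_tree lc_d_Cert_tree lc_d_rc_17_2 lc_d_Cert_tree lc_d_rc_15_1 lc_d_rc_17_2 lc_d_rc_15_1 lc_d_rc_27_4 lc_d_rc_15_1 lc_d_rc_27_8 lc_d_Cert_tree lc_d_Cert_tree lc_d_Cert_tree lc_d_rc_15_1 lc_d_rc_17_2 lc_d_Cert_tree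 lc_d_Cert_tree lc_d_rc_15_1 lc_d_rc_17_2 lc_d_rc_24_0 lc_d_rc_25_18 lc_d_rc_3_3 lc_d_Cert_tree lc_d_rc_15_1 lc_d_rc_17_2 lc_d_Cert_tree lc_d_rc_15_1 lc_d_rc_27_4 lc_d_Cert_tree lc_d_rc_15_1 lc_d_rc_27_8 lc_d_rc_15_1 lc_d_rc_15_1 lc_d_Cert_tree lc_d_rc_17_2 lc_d_rc_8_3 lc_d_rc_8_3 lc_d_rc_16_4 lc_d_Cert_tree lc_d_rc_15_1 lc_d_rc_17_2 lc_d_rc_16_4 lc_d_rc_25_2 lc_d_rc_24_0 lc_d_rc_22_2 lc_d_Cert_tree lc_d_Cert_tree lc_d_Cert_tree lc_d_rc_15_1 lc_d_rc_17_2 lc_d_Cert_tree lc_d_Cert_tree lc_d_rc_15_1 lc_d_Cert_tree) (@D3.rec (fun _ => (Cert rels S Gen.d)) lc_d_rc_15_1 lc_d_Cert_tree lc_d_rc_12_3 lc_d_rc_15_1 lc_d_Cert_tree lc_d_rc_17_2 lc_d_Cert_tree lc_d_Cert_tree lc_d_rc_15_1 lc_d_rc_17_2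 lc_d_Cert_tree lc_d_Cert_tree lc_d_Cert_tree lc_d_rc_15_1 lc_d_rc_17_2 lc_d_Cert_tree lc_d_rc_15_1 lc_d_Cert_tree lc_d_Cert_tree lc_d_rc_15_1 lc_d_Cert_tree lc_d_rc_22_8 lc_d_rc_15_1 lc_d_Cert_tree lc_d_rc_17_2 lc_d_rc_25_2 lc_d_rc_8_3 lc_d_rc_3_3 lc_d_Cert_tree lc_d_rc_15_1 lc_d_rc_17_2 lc_d_rc_12_15 lc_d_rc_15_1 lc_d_rc_8_3 lc_d_Cert_tree lc_d_rc_15_1 lc_d_rc_17_2 lc_d_rc_22_4 lc_d_rc_8_3 lc_d_Cert_tree lc_d_rc_22_4 lc_d_Cert_tree lc_d_rc_15_1 lc_d_Cert_tree lc_d_rc_22_2 lc_d_rc_8_1 lc_d_rc_24_5 lc_d_Cert_tree lc_d_Cert_tree lc_d_Cert_tree lc_d_rc_15_1 lc_d_rc_17_2 lc_d_Cert_tree lc_d_Cert_tree lc_d_rc_15_1 lc_d_rc_17_2 lc_d_Cert_tree lc_d_rc_15_1 lc_d_rc_27_4 lc_d_Cert_tree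 lc_d_rc_15_1 lc_d_Cert_tree) (@D3.rec (fun _ => (Cert rels S Gen.d)) lc_d_Cert_tree lc_d_rc_15_1 lc_d_Cert_tree lc_d_rc_17_2 lc_d_Cert_tree lc_d_rc_15_1 lc_d_Cert_tree lc_d_rc_15_1 lc_d_rc_22_8 lc_d_Cert_tree lc_d_Cert_tree lc_d_rc_16_2 lc_d_rc_15_1 lc_d_rc_16_0 lc_d_Cert_tree lc_d_rc_15_1 lc_d_Cert_tree lc_d_Cert_tree lc_d_rc_15_1 lc_d_Cert_tree lc_d_Cert_tree lc_d_rc_22_8 lc_d_rc_15_1 lc_d_Cert_tree lc_d_rc_15_1 lc_d_Cert_tree lc_d_Cert_tree lc_d_Cert_tree lc_d_rc_15_1 lc_d_Cert_tree lc_d_Cert_tree lc_d_Cert_tree lc_d_Cert_tree lc_d_rc_15_1 lc_d_rc_17_2 lc_d_rc_16_4 lc_d_rc_8_3 lc_d_rc_22_4 lc_d_rc_16_2 lc_d_Cert_tree lc_d_Cert_tree lc_d_Cert_tree lc_d_rc_15_1 lc_d_Cert_tree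 lc_d_Cert_tree lc_d_Cert_tree lc_d_rc_17_2 lc_d_rc_15_1 lc_d_rc_15_1 lc_d_rc_15_1 lc_d_rc_17_2 lc_d_rc_16_4 lc_d_Cert_tree lc_d_rc_15_1 lc_d_rc_27_2 lc_d_rc_15_1 lc_d_rc_17_2 lc_d_Cert_tree lc_d_rc_15_1 lc_d_Cert_tree lc_d_rc_16_4 lc_d_Cert_tree) (@D3.rec (fun _ => (Cert rels S Gen.d)) lc_d_rc_15_1 lc_d_Cert_tree lc_d_rc_27_10 lc_d_rc_15_1 lc_d_rc_17_2 lc_d_Cert_tree lc_d_rc_15_1 lc_d_Cert_tree lc_d_Cert_tree lc_d_rc_15_1 lc_d_Cert_tree lc_d_Cert_tree lc_d_Cert_tree lc_d_Cert_tree lc_d_rc_15_1 lc_d_rc_8_3 lc_d_rc_15_1 lc_d_rc_15_1 lc_d_rc_16_4 lc_d_Cert_tree lc_d_Cert_tree lc_d_Cert_tree lc_d_rc_15_1 lc_d_rc_24_0 lc_d_rc_3_1 lc_d_rc_24_0 lc_d_rc_8_3 lc_d_rc_27_2 lc_d_rc_17_2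 lc_d_rc_15_1 lc_d_rc_22_4 lc_d_rc_8_3 lc_d_rc_3_3 lc_d_Cert_tree lc_d_Cert_tree lc_d_Cert_tree lc_d_rc_15_1 lc_d_rc_17_2 lc_d_Cert_tree lc_d_rc_15_1 lc_d_rc_27_2 lc_d_Cert_tree lc_d_Cert_tree lc_d_rc_15_1 lc_d_rc_27_8 lc_d_rc_23_6 lc_d_rc_15_1 lc_d_Cert_tree lc_d_rc_17_2 lc_d_Cert_tree lc_d_rc_15_1 lc_d_rc_22_4 lc_d_rc_16_4 lc_d_rc_23_2 lc_d_rc_22_2 lc_d_rc_15_1 lc_d_rc_16_4 lc_d_rc_15_1 lc_d_Cert_tree lc_d_rc_8_3 lc_d_Cert_tree lc_d_rc_23_8) (@D3.rec (fun _ => (Cert rels S Gen.d)) lc_d_rc_8_3 lc_d_Cert_tree lc_d_rc_15_1 lc_d_rc_17_2 lc_d_rc_22_6 lc_d_rc_16_4 lc_d_rc_17_2 lc_d_Cert_tree lc_d_rc_15_1 lc_d_rc_22_6 lc_d_rc_16_4 lc_d_rc_15_1 lc_d_rc_15_1 lc_d_rc_3_3 lc_d_rc_24_0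 lc_d_Cert_tree lc_d_rc_16_4 lc_d_rc_8_3 lc_d_rc_23_2 lc_d_rc_16_4 lc_d_rc_15_1 lc_d_Cert_tree lc_d_Cert_tree lc_d_Cert_tree lc_d_rc_17_2 lc_d_Cert_tree lc_d_rc_15_1 lc_d_Cert_tree lc_d_Cert_tree lc_d_rc_15_1 lc_d_Cert_tree lc_d_Cert_tree lc_d_rc_15_1 lc_d_Cert_tree lc_d_Cert_tree lc_d_Cert_tree lc_d_rc_15_1 lc_d_Cert_tree lc_d_rc_3_3 lc_d_Cert_tree lc_d_Cert_tree lc_d_Cert_tree lc_d_rc_15_1 lc_d_rc_17_2 lc_d_Cert_tree lc_d_Cert_tree lc_d_rc_3_3 lc_d_Cert_tree lc_d_rc_16_4 lc_d_rc_15_1 lc_d_Cert_tree lc_d_Cert_tree lc_d_Cert_tree lc_d_rc_17_2 lc_d_Cert_tree lc_d_Cert_tree lc_d_Cert_tree lc_d_rc_15_1 lc_d_Cert_tree lc_d_Cert_tree lc_d_Cert_tree lc_d_Cert_tree) (@D3.rec (fun _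 => (Cert rels S Gen.d)) lc_d_rc_15_1 lc_d_rc_17_2 lc_d_rc_8_3 lc_d_rc_25_2 lc_d_rc_24_0 lc_d_Cert_tree lc_d_rc_15_1 lc_d_rc_23_2 lc_d_rc_15_1 lc_d_rc_16_4 lc_d_rc_23_8 lc_d_rc_8_3 lc_d_rc_16_0 lc_d_rc_15_1 lc_d_rc_25_10 lc_d_rc_24_5 lc_d_rc_3_3 lc_d_Cert_tree lc_d_Cert_tree lc_d_Cert_tree lc_d_Cert_tree lc_d_Cert_tree lc_d_rc_15_1 lc_d_rc_16_4 lc_d_Cert_tree lc_d_Cert_tree lc_d_Cert_tree lc_d_rc_15_1 lc_d_rc_3_3 lc_d_rc_16_4 lc_d_rc_24_5 lc_d_rc_15_1 lc_d_Cert_tree lc_d_rc_24_5 lc_d_Cert_tree lc_d_Cert_tree lc_d_rc_15_1 lc_d_rc_22_2 lc_d_Cert_tree lc_d_Cert_tree lc_d_rc_15_1 lc_d_Cert_tree lc_d_rc_15_1 lc_d_rc_15_1 lc_d_rc_8_3 lc_d_Cert_tree lc_d_rc_16_4 lc_d_rc_17_2 lc_d_Cert_tree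 lc_d_rc_8_3 lc_d_Cert_tree lc_d_rc_15_1 lc_d_Cert_tree lc_d_rc_8_3 lc_d_Cert_tree lc_d_Cert_tree lc_d_Cert_tree lc_d_rc_17_2 lc_d_Cert_tree lc_d_Cert_tree lc_d_Cert_tree lc_d_rc_15_1) (@D3.rec (fun _ => (Cert rels S Gen.d)) lc_d_Cert_tree lc_d_rc_15_1 lc_d_rc_16_4 lc_d_rc_16_4 lc_d_rc_16_2 lc_d_rc_8_3 lc_d_Cert_tree lc_d_rc_27_10 lc_d_rc_15_1 lc_d_rc_17_2 lc_d_rc_8_3 lc_d_rc_17_2 lc_d_rc_16_2 lc_d_rc_27_10 lc_d_Cert_tree lc_d_Cert_tree lc_d_Cert_tree lc_d_rc_15_1 lc_d_rc_17_2 lc_d_rc_22_4 lc_d_rc_16_4 lc_d_rc_17_2 lc_d_rc_27_4 lc_d_rc_15_1 lc_d_rc_15_1 lc_d_Cert_tree lc_d_rc_15_1 lc_d_rc_16_4 lc_d_rc_27_10 lc_d_rc_15_1 lc_d_rc_17_2 lc_d_rc_8_1 lc_d_rc_8_3 lc_d_rc_15_1 lc_d_Cert_tree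 lc_d_rc_15_1 lc_d_rc_23_2 lc_d_rc_15_1 lc_d_rc_8_3 lc_d_rc_15_1 lc_d_Cert_tree lc_d_rc_15_1 lc_d_rc_3_3 lc_d_rc_27_2 lc_d_Cert_tree lc_d_Cert_tree lc_d_rc_15_1 lc_d_rc_8_3 lc_d_Cert_tree lc_d_Cert_tree lc_d_rc_15_1 lc_d_rc_27_4 lc_d_rc_15_1 lc_d_rc_27_10 lc_d_rc_23_6 lc_d_Cert_tree lc_d_rc_16_4 lc_d_Cert_tree lc_d_Cert_tree lc_d_rc_15_1 lc_d_rc_17_2 lc_d_rc_15_1) (@D3.rec (fun _ => (Cert rels S Gen.d)) lc_d_Cert_tree lc_d_rc_15_1 lc_d_rc_8_3 lc_d_Cert_tree lc_d_Cert_tree lc_d_rc_25_2 lc_d_rc_15_1 lc_d_Cert_tree lc_d_Cert_tree lc_d_rc_15_1 lc_d_rc_22_8 lc_d_rc_23_2 lc_d_Cert_tree lc_d_rc_16_4 lc_d_rc_17_2 lc_d_Cert_tree lc_d_rc_8_3 lc_d_rc_24_5 lc_d_Cert_tree lc_d_Cert_tree lc_d_rc_17_2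 lc_d_rc_25_10 lc_d_rc_15_1 lc_d_rc_8_3 lc_d_rc_27_10 lc_d_rc_3_3 lc_d_rc_8_3 lc_d_Cert_tree lc_d_rc_15_1 lc_d_Cert_tree lc_d_Cert_tree lc_d_rc_15_1 lc_d_Cert_tree lc_d_Cert_tree lc_d_Cert_tree lc_d_rc_15_1 lc_d_rc_15_1 lc_d_Cert_tree lc_d_rc_23_6 lc_d_rc_8_3 lc_d_Cert_tree lc_d_Cert_tree lc_d_rc_3_3 lc_d_Cert_tree lc_d_rc_15_1 lc_d_rc_17_2 lc_d_Cert_tree lc_d_Cert_tree lc_d_rc_15_1 lc_d_rc_3_3 lc_d_rc_8_3 lc_d_Cert_tree lc_d_rc_15_1 lc_d_rc_27_10 lc_d_rc_17_2 lc_d_Cert_tree lc_d_rc_15_1 lc_d_Cert_tree lc_d_rc_15_1 lc_d_Cert_tree lc_d_Cert_tree lc_d_rc_15_1) (@D3.rec (fun _ => (Cert rels S Gen.d)) lc_d_Cert_tree lc_d_Cert_tree lc_d_rc_15_1 lc_d_Cert_tree lc_d_rc_15_1 lc_d_Cert_tree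 lc_d_rc_23_6 lc_d_rc_8_3 lc_d_Cert_tree lc_d_Cert_tree lc_d_rc_24_0 lc_d_rc_15_1 lc_d_rc_17_2 lc_d_rc_27_10 lc_d_rc_27_4 lc_d_rc_15_1 lc_d_rc_17_2 lc_d_rc_22_4 lc_d_rc_17_2 lc_d_rc_8_3 lc_d_Cert_tree lc_d_Cert_tree lc_d_rc_24_5 lc_d_Cert_tree lc_d_rc_15_1 lc_d_Cert_tree lc_d_rc_16_4 lc_d_rc_27_2 lc_d_rc_17_2 lc_d_rc_8_3 lc_d_Cert_tree lc_d_rc_24_5 lc_d_Cert_tree lc_d_rc_15_1 lc_d_rc_24_5 lc_d_Cert_tree lc_d_rc_27_8 lc_d_rc_16_4 lc_d_rc_16_4 lc_d_rc_15_1 lc_d_rc_27_2 lc_d_rc_16_4 lc_d_Cert_tree lc_d_rc_15_1 lc_d_Cert_tree lc_d_Cert_tree lc_d_Cert_tree lc_d_rc_15_1 lc_d_rc_15_1 lc_d_rc_23_6 lc_d_rc_8_3 lc_d_Cert_tree lc_d_rc_16_4 lc_d_Cert_tree lc_d_rc_27_2 lc_d_rc_17_2 lc_d_Cert_tree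 lc_d_rc_15_1 lc_d_Cert_tree lc_d_Cert_tree lc_d_rc_15_1 lc_d_Cert_tree) (@D3.rec (fun _ => (Cert rels S Gen.d)) lc_d_Cert_tree lc_d_rc_15_1 lc_d_rc_16_2 lc_d_Cert_tree lc_d_Cert_tree lc_d_rc_15_1 lc_d_Cert_tree lc_d_rc_8_3 lc_d_rc_8_3 lc_d_Cert_tree lc_d_rc_27_8 lc_d_rc_27_2 lc_d_rc_27_4 lc_d_rc_15_1 lc_d_Cert_tree lc_d_rc_24_0 lc_d_Cert_tree lc_d_Cert_tree lc_d_Cert_tree lc_d_Cert_tree lc_d_rc_15_1 lc_d_rc_17_2 lc_d_Cert_tree lc_d_Cert_tree lc_d_Cert_tree lc_d_rc_15_1 lc_d_rc_17_2 lc_d_Cert_tree lc_d_rc_16_4 lc_d_rc_24_5 lc_d_Cert_tree lc_d_rc_15_1 lc_d_rc_16_2 lc_d_Cert_tree lc_d_rc_15_1 lc_d_Cert_tree lc_d_Cert_tree lc_d_rc_27_8 lc_d_rc_16_4 lc_d_rc_23_2 lc_d_rc_23_2 lc_d_Cert_tree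 lc_d_rc_16_4 lc_d_rc_24_5 lc_d_Cert_tree lc_d_rc_27_8 lc_d_rc_8_3 lc_d_Cert_tree lc_d_Cert_tree lc_d_Cert_tree lc_d_Cert_tree lc_d_Cert_tree lc_d_rc_15_1 lc_d_Cert_tree lc_d_rc_17_2 lc_d_Cert_tree lc_d_Cert_tree lc_d_rc_17_2 lc_d_Cert_tree lc_d_rc_8_3 lc_d_rc_16_2 lc_d_rc_15_1) (@D3.rec (fun _ => (Cert rels S Gen.d)) lc_d_rc_3_3 lc_d_Cert_tree lc_d_rc_27_2 lc_d_Cert_tree lc_d_Cert_tree lc_d_rc_27_4 lc_d_rc_3_3 lc_d_Cert_tree lc_d_Cert_tree lc_d_rc_27_2 lc_d_rc_15_1 lc_d_rc_17_2 lc_d_rc_15_1 lc_d_rc_15_1 lc_d_rc_15_1 lc_d_Cert_tree lc_d_rc_17_2 lc_d_rc_3_3 lc_d_rc_15_1 lc_d_rc_17_2 lc_d_Cert_tree lc_d_rc_24_5 lc_d_rc_15_1 lc_d_rc_27_4 lc_d_rc_8_3 lc_d_rc_24_5 lc_d_rc_16_2 lc_d_rc_22_2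 lc_d_rc_15_1 lc_d_rc_8_3 lc_d_rc_23_6 lc_d_rc_22_4 lc_d_rc_15_1 lc_d_Cert_tree lc_d_Cert_tree lc_d_rc_15_1 lc_d_rc_17_2 lc_d_rc_15_1 lc_d_rc_15_1 lc_d_Cert_tree lc_d_rc_24_0 lc_d_rc_25_10 lc_d_rc_3_3 lc_d_Cert_tree lc_d_rc_15_1 lc_d_rc_17_2 lc_d_rc_15_1 lc_d_rc_27_4 lc_d_Cert_tree lc_d_rc_15_1 lc_d_rc_27_8 lc_d_rc_15_1 lc_d_rc_15_1 lc_d_Cert_tree lc_d_rc_17_2 lc_d_Cert_tree lc_d_rc_15_1 lc_d_Cert_tree lc_d_Cert_tree lc_d_rc_15_1 lc_d_rc_17_2 lc_d_rc_3_3) (@D3.rec (fun _ => (Cert rels S Gen.d)) lc_d_Cert_tree lc_d_Cert_tree lc_d_Cert_tree lc_d_rc_15_1 lc_d_rc_17_2 lc_d_rc_15_1 lc_d_rc_3_3 lc_d_Cert_tree lc_d_rc_17_2 lc_d_rc_24_5 lc_d_rc_15_1 lc_d_Cert_tree lc_d_Cert_tree lc_d_Cert_tree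 lc_d_rc_17_2 lc_d_Cert_tree lc_d_Cert_tree lc_d_rc_15_1 lc_d_rc_17_2 lc_d_Cert_tree lc_d_Cert_tree lc_d_Cert_tree lc_d_rc_15_1 lc_d_rc_17_2 lc_d_Cert_tree lc_d_rc_15_1 lc_d_Cert_tree lc_d_Cert_tree lc_d_Cert_tree lc_d_Cert_tree lc_d_Cert_tree lc_d_rc_15_1 lc_d_rc_17_2 lc_d_Cert_tree lc_d_rc_15_1 lc_d_Cert_tree lc_d_Cert_tree lc_d_rc_15_1 lc_d_Cert_tree lc_d_Cert_tree lc_d_Cert_tree lc_d_rc_15_1 lc_d_rc_17_2 lc_d_rc_23_8 lc_d_rc_24_0 lc_d_rc_3_3 lc_d_Cert_tree lc_d_rc_15_1 lc_d_rc_17_2 lc_d_Cert_tree lc_d_rc_15_1 lc_d_rc_27_4 lc_d_rc_15_1 lc_d_Cert_tree lc_d_rc_27_8 lc_d_rc_15_1 lc_d_Cert_tree lc_d_rc_17_2 lc_d_rc_23_8 lc_d_rc_24_0 lc_d_rc_3_3 lc_d_Cert_tree) (@D3.rec (fun _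 => (Cert rels S Gen.d)) lc_d_Cert_tree lc_d_Cert_tree lc_d_rc_15_1 lc_d_rc_17_2 lc_d_rc_15_1 lc_d_rc_27_4 lc_d_rc_15_1 lc_d_Cert_tree lc_d_rc_22_8 lc_d_rc_15_1 lc_d_Cert_tree lc_d_rc_17_2 lc_d_rc_15_1 lc_d_Cert_tree lc_d_rc_23_6 lc_d_rc_24_0 lc_d_Cert_tree lc_d_Cert_tree lc_d_Cert_tree lc_d_Cert_tree lc_d_rc_15_1 lc_d_rc_17_2 lc_d_Cert_tree lc_d_rc_15_1 lc_d_rc_27_4 lc_d_Cert_tree lc_d_rc_15_1 lc_d_Cert_tree lc_d_rc_23_4 lc_d_rc_23_4 lc_d_Cert_tree lc_d_rc_17_2 lc_d_rc_3_1 lc_d_rc_15_1 lc_d_Cert_tree lc_d_Cert_tree lc_d_rc_15_1 lc_d_rc_27_4 lc_d_rc_15_1 lc_d_rc_27_2 lc_d_rc_15_1 lc_d_Cert_tree lc_d_rc_15_1 lc_d_rc_16_0 lc_d_Cert_tree lc_d_rc_15_1 lc_d_rc_15_1 lc_d_rc_24_0 lc_d_rc_23_8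 lc_d_rc_15_1 lc_d_rc_22_2 lc_d_rc_8_3 lc_d_Cert_tree lc_d_Cert_tree lc_d_rc_15_1 lc_d_rc_17_2 lc_d_rc_25_6 lc_d_rc_24_0 lc_d_rc_22_4 lc_d_rc_15_1 lc_d_Cert_tree lc_d_Cert_tree) (@D3.rec (fun _ => (Cert rels S Gen.d)) lc_d_Cert_tree lc_d_rc_15_1 lc_d_rc_17_2 lc_d_rc_15_1 lc_d_rc_27_8 lc_d_Cert_tree lc_d_rc_24_5 lc_d_Cert_tree lc_d_Cert_tree lc_d_Cert_tree lc_d_Cert_tree lc_d_rc_15_1 lc_d_rc_17_2 lc_d_Cert_tree lc_d_rc_15_1 lc_d_rc_27_4 lc_d_Cert_tree lc_d_rc_15_1 lc_d_rc_27_8 lc_d_rc_23_4 lc_d_rc_15_1 lc_d_rc_22_4 lc_d_rc_17_2 lc_d_Cert_tree lc_d_rc_15_1 lc_d_rc_27_4 lc_d_rc_15_1 lc_d_rc_27_2 lc_d_rc_15_1 lc_d_Cert_tree lc_d_rc_15_1 lc_d_rc_8_3 lc_d_Cert_tree lc_d_rc_15_1 lc_d_Cert_tree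 lc_d_Cert_tree lc_d_rc_15_1 lc_d_Cert_tree lc_d_rc_24_5 lc_d_rc_23_8 lc_d_rc_15_1 lc_d_rc_8_3 lc_d_Cert_tree lc_d_Cert_tree lc_d_rc_15_1 lc_d_rc_17_2 lc_d_rc_8_3 lc_d_Cert_tree lc_d_Cert_tree lc_d_rc_15_1 lc_d_rc_17_2 lc_d_rc_15_1 lc_d_Cert_tree lc_d_rc_24_0 lc_d_rc_15_1 lc_d_Cert_tree lc_d_rc_25_6 lc_d_rc_8_3 lc_d_rc_15_1 lc_d_Cert_tree lc_d_Cert_tree lc_d_Cert_tree) (@D3.rec (fun _ => (Cert rels S Gen.d)) lc_d_Cert_tree lc_d_rc_15_1 lc_d_rc_17_2 lc_d_Cert_tree lc_d_rc_15_1 lc_d_rc_27_8 lc_d_Cert_tree lc_d_rc_15_1 lc_d_rc_27_8 lc_d_rc_15_1 lc_d_rc_15_1 lc_d_Cert_tree lc_d_rc_17_2 lc_d_Cert_tree lc_d_rc_16_4 lc_d_Cert_tree lc_d_rc_16_4 lc_d_Cert_tree lc_d_Cert_tree lc_d_rc_15_1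 lc_d_rc_16_4 lc_d_Cert_tree lc_d_Cert_tree lc_d_Cert_tree lc_d_rc_15_1 lc_d_rc_17_2 lc_d_rc_16_4 lc_d_rc_23_6 lc_d_Cert_tree lc_d_Cert_tree lc_d_Cert_tree lc_d_Cert_tree lc_d_Cert_tree lc_d_rc_15_1 lc_d_rc_17_2 lc_d_Cert_tree lc_d_rc_15_1 lc_d_rc_27_4 lc_d_Cert_tree lc_d_rc_15_1 lc_d_rc_27_8 lc_d_rc_12_1 lc_d_rc_15_1 lc_d_Cert_tree lc_d_rc_17_2 lc_d_rc_15_1 lc_d_rc_15_1 lc_d_rc_15_1 lc_d_rc_27_4 lc_d_rc_15_1 lc_d_rc_8_3 lc_d_Cert_tree lc_d_rc_16_2 lc_d_rc_16_0 lc_d_rc_22_2 lc_d_Cert_tree lc_d_rc_15_1 lc_d_rc_27_8 lc_d_Cert_tree lc_d_rc_15_1 lc_d_Cert_tree lc_d_Cert_tree) (@D3.rec (fun _ => (Cert rels S Gen.d)) lc_d_rc_15_1 lc_d_rc_27_4 lc_d_Cert_tree lc_d_rc_16_4 lc_d_Cert_tree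 lc_d_Cert_tree lc_d_Cert_tree lc_d_rc_15_1 lc_d_rc_17_2 lc_d_rc_16_4 lc_d_Cert_tree lc_d_rc_17_0 lc_d_Cert_tree lc_d_rc_15_1 lc_d_Cert_tree lc_d_Cert_tree lc_d_Cert_tree lc_d_rc_17_2 lc_d_Cert_tree lc_d_rc_15_1 lc_d_Cert_tree lc_d_rc_27_2 lc_d_rc_15_1 lc_d_rc_17_2 lc_d_rc_3_3 lc_d_Cert_tree lc_d_rc_15_1 lc_d_Cert_tree lc_d_rc_15_1 lc_d_Cert_tree lc_d_rc_27_10 lc_d_rc_15_1 lc_d_rc_17_2 lc_d_Cert_tree lc_d_rc_15_1 lc_d_Cert_tree lc_d_Cert_tree lc_d_rc_15_1 lc_d_Cert_tree lc_d_Cert_tree lc_d_Cert_tree lc_d_Cert_tree lc_d_rc_15_1 lc_d_rc_8_3 lc_d_rc_15_1 lc_d_rc_15_1 lc_d_rc_16_4 lc_d_Cert_tree lc_d_Cert_tree lc_d_Cert_tree lc_d_Cert_tree lc_d_rc_16_2 lc_d_rc_15_1 lc_d_rc_15_1 lc_d_rc_27_8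 lc_d_Cert_tree lc_d_rc_17_2 lc_d_Cert_tree lc_d_rc_15_1 lc_d_rc_8_3 lc_d_rc_15_1 lc_d_Cert_tree) (@D3.rec (fun _ => (Cert rels S Gen.d)) lc_d_rc_15_1 lc_d_rc_22_6 lc_d_rc_16_4 lc_d_rc_16_2 lc_d_rc_15_1 lc_d_Cert_tree lc_d_Cert_tree lc_d_Cert_tree lc_d_rc_17_2 lc_d_rc_8_3 lc_d_rc_25_6 lc_d_rc_23_8 lc_d_Cert_tree lc_d_rc_15_1 lc_d_Cert_tree lc_d_Cert_tree lc_d_Cert_tree lc_d_Cert_tree lc_d_rc_15_1 lc_d_rc_17_2 lc_d_Cert_tree lc_d_rc_8_3 lc_d_rc_24_0 lc_d_Cert_tree lc_d_rc_15_1 lc_d_rc_15_1 lc_d_Cert_tree lc_d_Cert_tree lc_d_Cert_tree lc_d_rc_17_2 lc_d_rc_8_3 lc_d_rc_8_3 lc_d_Cert_tree lc_d_rc_15_1 lc_d_Cert_tree lc_d_Cert_tree lc_d_rc_15_1 lc_d_rc_17_2 lc_d_rc_25_6 lc_d_rc_8_1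 lc_d_Cert_tree lc_d_rc_15_1 lc_d_rc_16_4 lc_d_rc_25_2 lc_d_rc_8_3 lc_d_Cert_tree lc_d_rc_15_1 lc_d_rc_24_0 lc_d_rc_27_2 lc_d_rc_15_1 lc_d_Cert_tree lc_d_Cert_tree lc_d_Cert_tree lc_d_rc_15_1 lc_d_rc_16_4 lc_d_rc_16_2 lc_d_rc_15_1 lc_d_Cert_tree lc_d_rc_27_2 lc_d_Cert_tree lc_d_Cert_tree lc_d_rc_15_1) (@D3.rec (fun _ => (Cert rels S Gen.d)) lc_d_rc_8_3 lc_d_rc_24_5 lc_d_Cert_tree lc_d_rc_15_1 lc_d_rc_8_3 lc_d_rc_15_1 lc_d_rc_8_3 lc_d_rc_23_6 lc_d_Cert_tree lc_d_rc_16_4 lc_d_rc_17_2 lc_d_Cert_tree lc_d_rc_15_1 lc_d_Cert_tree lc_d_rc_8_3 lc_d_Cert_tree lc_d_rc_8_3 lc_d_Cert_tree lc_d_Cert_tree lc_d_rc_15_1 lc_d_rc_17_2 lc_d_Cert_tree lc_d_Cert_tree lc_d_rc_15_1 lc_d_rc_8_3 lc_d_Cert_tree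 lc_d_Cert_tree lc_d_Cert_tree lc_d_Cert_tree lc_d_rc_15_1 lc_d_rc_17_2 lc_d_rc_23_4 lc_d_rc_24_5 lc_d_Cert_tree lc_d_rc_17_2 lc_d_Cert_tree lc_d_rc_15_1 lc_d_rc_15_1 lc_d_rc_27_2 lc_d_rc_15_1 lc_d_rc_16_0 lc_d_rc_27_2 lc_d_rc_22_2 lc_d_rc_15_1 lc_d_rc_23_2 lc_d_rc_15_1 lc_d_rc_17_2 lc_d_rc_15_1 lc_d_rc_27_4 lc_d_rc_15_1 lc_d_rc_15_1 lc_d_rc_15_1 lc_d_rc_17_2 lc_d_rc_23_4 lc_d_rc_24_0 lc_d_rc_22_6 lc_d_rc_17_2 lc_d_rc_27_2 lc_d_rc_15_1 lc_d_rc_24_5 lc_d_rc_27_4 lc_d_rc_8_3) (@D3.rec (fun _ => (Cert rels S Gen.d)) lc_d_Cert_tree lc_d_Cert_tree lc_d_rc_15_1 lc_d_rc_17_2 lc_d_rc_15_1 lc_d_rc_15_1 lc_d_rc_27_8 lc_d_rc_8_3 lc_d_rc_17_2 lc_d_rc_15_1 lc_d_rc_15_1 lc_d_rc_27_8 lc_d_rc_8_3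 lc_d_rc_17_2 lc_d_rc_8_3 lc_d_rc_24_5 lc_d_Cert_tree lc_d_rc_8_3 lc_d_Cert_tree lc_d_Cert_tree lc_d_Cert_tree lc_d_Cert_tree lc_d_rc_15_1 lc_d_rc_17_2 lc_d_rc_23_6 lc_d_rc_23_4 lc_d_Cert_tree lc_d_rc_17_2 lc_d_rc_15_1 lc_d_rc_27_2 lc_d_rc_8_3 lc_d_rc_15_1 lc_d_rc_16_2 lc_d_rc_24_5 lc_d_Cert_tree lc_d_rc_15_1 lc_d_rc_15_1 lc_d_rc_23_8 lc_d_rc_15_1 lc_d_rc_27_4 lc_d_rc_8_3 lc_d_rc_16_4 lc_d_Cert_tree lc_d_rc_15_1 lc_d_rc_17_2 lc_d_rc_16_4 lc_d_Cert_tree lc_d_rc_16_2 lc_d_rc_27_10 lc_d_rc_15_1 lc_d_rc_17_2 lc_d_Cert_tree lc_d_Cert_tree lc_d_Cert_tree lc_d_rc_15_1 lc_d_rc_17_2 lc_d_rc_16_4 lc_d_rc_17_2 lc_d_Cert_tree lc_d_Cert_tree lc_d_Cert_tree lc_d_rc_15_1) (@D3.rec (fun _ =>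 (Cert rels S Gen.d)) lc_d_Cert_tree lc_d_rc_8_3 lc_d_Cert_tree lc_d_Cert_tree lc_d_Cert_tree lc_d_Cert_tree lc_d_rc_15_1 lc_d_rc_17_2 lc_d_Cert_tree lc_d_rc_15_1 lc_d_Cert_tree lc_d_rc_15_1 lc_d_Cert_tree lc_d_rc_12_3 lc_d_rc_15_1 lc_d_Cert_tree lc_d_rc_17_2 lc_d_Cert_tree lc_d_rc_15_1 lc_d_Cert_tree lc_d_rc_15_1 lc_d_rc_15_1 lc_d_rc_16_0 lc_d_Cert_tree lc_d_Cert_tree lc_d_rc_15_1 lc_d_Cert_tree lc_d_Cert_tree lc_d_rc_15_1 lc_d_rc_16_2 lc_d_Cert_tree lc_d_rc_27_4 lc_d_Cert_tree lc_d_rc_16_4 lc_d_Cert_tree lc_d_Cert_tree lc_d_Cert_tree lc_d_rc_15_1 lc_d_rc_17_2 lc_d_rc_15_1 lc_d_Cert_tree lc_d_rc_15_1 lc_d_Cert_tree lc_d_rc_8_3 lc_d_rc_15_1 lc_d_rc_16_4 lc_d_rc_17_2 lc_d_Cert_tree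 lc_d_Cert_tree lc_d_rc_15_1 lc_d_rc_17_2 lc_d_Cert_tree lc_d_rc_15_1 lc_d_Cert_tree lc_d_rc_15_1 lc_d_Cert_tree lc_d_rc_24_5 lc_d_rc_15_1 lc_d_Cert_tree lc_d_rc_17_2 lc_d_Cert_tree lc_d_rc_15_1) (@D3.rec (fun _ => (Cert rels S Gen.d)) lc_d_rc_15_1 lc_d_rc_16_0 lc_d_Cert_tree lc_d_Cert_tree lc_d_rc_15_1 lc_d_Cert_tree lc_d_Cert_tree lc_d_rc_15_1 lc_d_Cert_tree lc_d_Cert_tree lc_d_rc_15_1 lc_d_Cert_tree lc_d_rc_27_4 lc_d_rc_8_3 lc_d_Cert_tree lc_d_rc_15_1 lc_d_Cert_tree lc_d_Cert_tree lc_d_Cert_tree lc_d_rc_15_1 lc_d_rc_17_2 lc_d_rc_8_1 lc_d_Cert_tree lc_d_rc_24_5 lc_d_rc_24_0 lc_d_Cert_tree lc_d_Cert_tree lc_d_Cert_tree lc_d_Cert_tree lc_d_rc_15_1 lc_d_rc_17_2 lc_d_rc_15_1 lc_d_rc_15_1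 lc_d_Cert_tree lc_d_rc_17_2 lc_d_rc_8_3 lc_d_Cert_tree lc_d_rc_22_4 lc_d_Cert_tree lc_d_rc_8_3 lc_d_rc_24_0 lc_d_Cert_tree lc_d_Cert_tree lc_d_Cert_tree lc_d_rc_15_1 lc_d_rc_17_2 lc_d_rc_23_6 lc_d_rc_15_1 lc_d_Cert_tree lc_d_rc_17_2 lc_d_Cert_tree lc_d_Cert_tree lc_d_Cert_tree lc_d_rc_15_1 lc_d_rc_17_2 lc_d_Cert_tree lc_d_Cert_tree lc_d_rc_15_1 lc_d_rc_17_2 lc_d_Cert_tree lc_d_Cert_tree lc_d_Cert_tree) (@D3.rec (fun _ => (Cert rels S Gen.d)) lc_d_rc_15_1 lc_d_rc_17_2 lc_d_Cert_tree lc_d_Cert_tree lc_d_rc_24_0 lc_d_Cert_tree lc_d_Cert_tree lc_d_Cert_tree lc_d_rc_15_1 lc_d_rc_17_2 lc_d_Cert_tree lc_d_Cert_tree lc_d_rc_15_1 lc_d_Cert_tree lc_d_Cert_tree lc_d_Cert_tree lc_d_rc_15_1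 lc_d_Cert_tree lc_d_Cert_tree lc_d_Cert_tree lc_d_Cert_tree lc_d_rc_17_2 lc_d_Cert_tree lc_d_rc_15_1 lc_d_rc_27_4 lc_d_Cert_tree lc_d_rc_15_1 lc_d_rc_27_8 lc_d_rc_17_0 lc_d_rc_15_1 lc_d_Cert_tree lc_d_rc_17_2 lc_d_Cert_tree lc_d_Cert_tree lc_d_rc_15_1 lc_d_rc_15_1 lc_d_rc_15_1 lc_d_rc_22_8 lc_d_Cert_tree lc_d_rc_16_2 lc_d_Cert_tree lc_d_rc_8_3 lc_d_Cert_tree lc_d_Cert_tree lc_d_Cert_tree lc_d_rc_15_1 lc_d_Cert_tree lc_d_Cert_tree lc_d_Cert_tree lc_d_rc_15_1 lc_d_rc_27_2 lc_d_Cert_tree lc_d_Cert_tree lc_d_rc_15_1 lc_d_Cert_tree lc_d_rc_8_3 lc_d_Cert_tree lc_d_rc_16_4 lc_d_Cert_tree lc_d_Cert_tree lc_d_Cert_tree lc_d_rc_15_1) (@D3.rec (fun _ => (Cert rels S Gen.d)) lc_d_rc_22_4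 lc_d_rc_16_4 lc_d_Cert_tree lc_d_Cert_tree lc_d_rc_15_1 lc_d_Cert_tree lc_d_rc_23_4 lc_d_rc_12_3 lc_d_rc_15_1 lc_d_Cert_tree lc_d_Cert_tree lc_d_rc_15_1 lc_d_rc_27_2 lc_d_rc_16_4 lc_d_Cert_tree lc_d_Cert_tree lc_d_Cert_tree lc_d_Cert_tree lc_d_Cert_tree lc_d_rc_15_1 lc_d_Cert_tree lc_d_rc_27_4 lc_d_rc_15_1 lc_d_rc_15_1 lc_d_Cert_tree lc_d_rc_15_1 lc_d_rc_8_3 lc_d_rc_16_0 lc_d_rc_23_2 lc_d_rc_8_3 lc_d_rc_15_1 lc_d_Cert_tree lc_d_rc_15_1 lc_d_Cert_tree lc_d_rc_15_1 lc_d_Cert_tree lc_d_rc_15_1 lc_d_rc_8_3 lc_d_Cert_tree lc_d_rc_15_1 lc_d_Cert_tree lc_d_Cert_tree lc_d_rc_15_1 lc_d_Cert_tree lc_d_rc_15_1 lc_d_rc_15_1 lc_d_rc_27_8 lc_d_rc_15_1 lc_d_rc_27_2 lc_d_rc_23_4 lc_d_rc_15_1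 lc_d_rc_27_4 lc_d_Cert_tree lc_d_rc_15_1 lc_d_Cert_tree lc_d_rc_15_1 lc_d_rc_15_1 lc_d_rc_15_1 lc_d_rc_23_2 lc_d_Cert_tree lc_d_rc_15_1 lc_d_Cert_tree) (@D3.rec (fun _ => (Cert rels S Gen.d)) lc_d_Cert_tree lc_d_rc_15_1 lc_d_Cert_tree lc_d_Cert_tree lc_d_Cert_tree lc_d_Cert_tree lc_d_rc_15_1 lc_d_rc_17_2 lc_d_rc_23_6 lc_d_rc_15_1 lc_d_rc_22_6 lc_d_rc_16_4 lc_d_rc_17_2 lc_d_Cert_tree lc_d_Cert_tree lc_d_rc_16_4 lc_d_rc_8_3 lc_d_Cert_tree lc_d_rc_23_2 lc_d_rc_17_2 lc_d_Cert_tree lc_d_rc_15_1 lc_d_Cert_tree lc_d_Cert_tree lc_d_rc_15_1 lc_d_Cert_tree lc_d_Cert_tree lc_d_Cert_tree lc_d_rc_15_1 lc_d_Cert_tree lc_d_Cert_tree lc_d_Cert_tree lc_d_Cert_tree lc_d_rc_15_1 lc_d_rc_17_2 lc_d_Cert_tree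 lc_d_Cert_tree lc_d_rc_15_1 lc_d_Cert_tree lc_d_rc_15_1 lc_d_rc_15_1 lc_d_rc_3_3 lc_d_rc_16_4 lc_d_rc_17_2 lc_d_rc_3_3 lc_d_rc_16_2 lc_d_rc_17_2 lc_d_Cert_tree lc_d_Cert_tree lc_d_rc_15_1 lc_d_rc_16_4 lc_d_Cert_tree lc_d_rc_8_3 lc_d_Cert_tree lc_d_rc_15_1 lc_d_rc_15_1 lc_d_Cert_tree lc_d_rc_15_1 lc_d_rc_23_4 lc_d_rc_24_0 lc_d_rc_16_4 lc_d_rc_24_0) (@D3.rec (fun _ => (Cert rels S Gen.d)) lc_d_rc_15_1 lc_d_Cert_tree lc_d_Cert_tree lc_d_Cert_tree lc_d_rc_17_2 lc_d_rc_8_3 lc_d_rc_8_3 lc_d_Cert_tree lc_d_rc_15_1 lc_d_Cert_tree lc_d_Cert_tree lc_d_Cert_tree lc_d_Cert_tree lc_d_rc_15_1 lc_d_rc_17_2 lc_d_Cert_tree lc_d_rc_8_3 lc_d_Cert_tree lc_d_Cert_tree lc_d_Cert_tree lc_d_Cert_tree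 lc_d_Cert_tree lc_d_rc_15_1 lc_d_Cert_tree lc_d_Cert_tree lc_d_rc_15_1 lc_d_rc_17_2 lc_d_Cert_tree lc_d_Cert_tree lc_d_Cert_tree lc_d_Cert_tree lc_d_rc_15_1 lc_d_Cert_tree lc_d_Cert_tree lc_d_rc_15_1 lc_d_rc_17_2 lc_d_rc_3_3 lc_d_Cert_tree lc_d_Cert_tree lc_d_Cert_tree lc_d_rc_15_1 lc_d_Cert_tree lc_d_rc_17_2 lc_d_Cert_tree lc_d_Cert_tree lc_d_rc_15_1 lc_d_Cert_tree lc_d_rc_15_1 lc_d_rc_15_1 lc_d_rc_24_0 lc_d_Cert_tree lc_d_rc_16_4 lc_d_Cert_tree lc_d_rc_8_3 lc_d_Cert_tree lc_d_rc_8_3 lc_d_Cert_tree lc_d_Cert_tree lc_d_Cert_tree lc_d_rc_17_2 lc_d_Cert_tree lc_d_Cert_tree) (@D3.rec (fun _ => (Cert rels S Gen.d)) lc_d_rc_15_1 lc_d_Cert_tree lc_d_rc_15_1 lc_d_rc_15_1 lc_d_rc_8_3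 lc_d_rc_3_3 lc_d_Cert_tree lc_d_Cert_tree lc_d_Cert_tree lc_d_Cert_tree lc_d_Cert_tree lc_d_rc_15_1 lc_d_rc_17_2 lc_d_Cert_tree lc_d_rc_15_1 lc_d_rc_27_4 lc_d_Cert_tree lc_d_rc_15_1 lc_d_rc_27_8 lc_d_rc_3_1 lc_d_rc_15_1 lc_d_Cert_tree lc_d_rc_17_2 lc_d_Cert_tree lc_d_rc_15_1 lc_d_rc_15_1 lc_d_Cert_tree lc_d_rc_16_2 lc_d_rc_15_1 lc_d_rc_15_1 lc_d_Cert_tree lc_d_rc_15_1 lc_d_rc_15_1 lc_d_Cert_tree lc_d_Cert_tree lc_d_rc_8_3 lc_d_Cert_tree lc_d_rc_16_4 lc_d_Cert_tree lc_d_Cert_tree lc_d_Cert_tree lc_d_rc_15_1 lc_d_rc_17_2 lc_d_rc_16_4 lc_d_rc_23_8 lc_d_rc_24_0 lc_d_rc_17_2 lc_d_rc_15_1 lc_d_rc_8_3 lc_d_rc_16_4 lc_d_Cert_tree lc_d_rc_16_2 lc_d_rc_15_1 lc_d_Cert_tree lc_d_rc_16_4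 lc_d_Cert_tree lc_d_rc_15_1 lc_d_rc_17_2 lc_d_rc_23_8 lc_d_rc_24_0 lc_d_rc_3_3 lc_d_Cert_tree) (@D3.rec (fun _ => (Cert rels S Gen.d)) lc_d_rc_15_1 lc_d_rc_22_2 lc_d_rc_25_2 lc_d_rc_15_1 lc_d_rc_15_1 lc_d_Cert_tree lc_d_rc_15_1 lc_d_Cert_tree lc_d_rc_8_3 lc_d_rc_15_1 lc_d_rc_8_3 lc_d_Cert_tree lc_d_rc_24_5 lc_d_rc_24_5 lc_d_rc_15_1 lc_d_Cert_tree lc_d_rc_15_1 lc_d_rc_22_8 lc_d_rc_24_5 lc_d_Cert_tree lc_d_rc_16_4 lc_d_rc_17_2 lc_d_Cert_tree lc_d_rc_8_3 lc_d_Cert_tree lc_d_Cert_tree lc_d_Cert_tree lc_d_rc_17_2 lc_d_Cert_tree lc_d_rc_15_1 lc_d_rc_22_4 lc_d_rc_16_4 lc_d_rc_8_3 lc_d_Cert_tree lc_d_Cert_tree lc_d_Cert_tree lc_d_rc_17_2 lc_d_Cert_tree lc_d_rc_16_4 lc_d_Cert_tree lc_d_rc_16_4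 lc_d_Cert_tree lc_d_rc_16_4 lc_d_Cert_tree lc_d_Cert_tree lc_d_Cert_tree lc_d_rc_15_1 lc_d_Cert_tree lc_d_rc_8_3 lc_d_Cert_tree lc_d_rc_17_2 lc_d_rc_16_2 lc_d_rc_8_3 lc_d_Cert_tree lc_d_Cert_tree lc_d_rc_15_1 lc_d_rc_17_2 lc_d_Cert_tree lc_d_Cert_tree lc_d_rc_3_3 lc_d_Cert_tree lc_d_rc_15_1) (@D3.rec (fun _ => (Cert rels S Gen.d)) lc_d_rc_17_2 lc_d_Cert_tree lc_d_Cert_tree lc_d_rc_15_1 lc_d_rc_27_4 lc_d_Cert_tree lc_d_rc_15_1 lc_d_Cert_tree lc_d_rc_8_1 lc_d_rc_8_3 lc_d_Cert_tree lc_d_rc_15_1 lc_d_Cert_tree lc_d_Cert_tree lc_d_rc_15_1 lc_d_Cert_tree lc_d_Cert_tree lc_d_Cert_tree lc_d_rc_15_1 lc_d_Cert_tree lc_d_Cert_tree lc_d_rc_15_1 lc_d_rc_23_8 lc_d_rc_15_1 lc_d_Cert_tree lc_d_rc_15_1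 lc_d_rc_16_4 lc_d_Cert_tree lc_d_rc_24_0 lc_d_rc_15_1 lc_d_Cert_tree lc_d_Cert_tree lc_d_rc_27_4 lc_d_rc_15_1 lc_d_rc_15_1 lc_d_Cert_tree lc_d_rc_8_3 lc_d_rc_24_0 lc_d_Cert_tree lc_d_Cert_tree lc_d_Cert_tree lc_d_Cert_tree lc_d_rc_15_1 lc_d_rc_17_2 lc_d_rc_8_3 lc_d_Cert_tree lc_d_Cert_tree lc_d_Cert_tree lc_d_rc_15_1 lc_d_rc_17_2 lc_d_Cert_tree lc_d_rc_15_1 lc_d_Cert_tree lc_d_rc_15_1 lc_d_rc_15_1 lc_d_Cert_tree lc_d_rc_17_2 lc_d_rc_23_8 lc_d_Cert_tree lc_d_rc_15_1 lc_d_Cert_tree lc_d_rc_15_1) (@D3.rec (fun _ => (Cert rels S Gen.d)) lc_d_Cert_tree lc_d_Cert_tree lc_d_rc_15_1 lc_d_Cert_tree lc_d_Cert_tree lc_d_rc_17_2 lc_d_Cert_tree lc_d_Cert_tree lc_d_rc_3_3 lc_d_rc_24_0 lc_d_rc_15_1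 lc_d_rc_17_2 lc_d_rc_15_1 lc_d_rc_15_1 lc_d_Cert_tree lc_d_rc_25_2 lc_d_rc_15_1 lc_d_rc_8_3 lc_d_Cert_tree lc_d_Cert_tree lc_d_rc_15_1 lc_d_rc_8_1 lc_d_Cert_tree lc_d_rc_15_1 lc_d_Cert_tree lc_d_rc_15_1 lc_d_Cert_tree lc_d_rc_23_6 lc_d_rc_8_3 lc_d_Cert_tree lc_d_Cert_tree lc_d_Cert_tree lc_d_Cert_tree lc_d_rc_15_1 lc_d_rc_17_2 lc_d_Cert_tree lc_d_Cert_tree lc_d_rc_15_1 lc_d_rc_17_2 lc_d_Cert_tree lc_d_rc_15_1 lc_d_Cert_tree lc_d_rc_15_1 lc_d_rc_22_4 lc_d_rc_17_2 lc_d_Cert_tree lc_d_Cert_tree lc_d_rc_8_1 lc_d_rc_23_8 lc_d_Cert_tree lc_d_Cert_tree lc_d_rc_8_3 lc_d_Cert_tree lc_d_rc_15_1 lc_d_rc_15_1 lc_d_rc_8_3 lc_d_Cert_tree lc_d_rc_16_4 lc_d_rc_15_1 lc_d_rc_16_4 lc_d_rc_8_1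 lc_d_rc_15_1) (@D3.rec (fun _ => (Cert rels S Gen.d)) lc_d_Cert_tree lc_d_Cert_tree lc_d_rc_17_2 lc_d_Cert_tree lc_d_rc_24_5 lc_d_Cert_tree lc_d_rc_15_1 lc_d_rc_8_3 lc_d_rc_8_3 lc_d_rc_3_3 lc_d_rc_27_4 lc_d_rc_27_2 lc_d_Cert_tree lc_d_rc_15_1 lc_d_rc_27_4 lc_d_rc_15_1 lc_d_Cert_tree lc_d_rc_15_1 lc_d_Cert_tree lc_d_Cert_tree lc_d_rc_15_1 lc_d_rc_15_1 lc_d_rc_15_1 lc_d_rc_8_3 lc_d_Cert_tree lc_d_rc_16_4 lc_d_Cert_tree lc_d_Cert_tree lc_d_rc_17_2 lc_d_Cert_tree lc_d_rc_15_1 lc_d_Cert_tree lc_d_rc_15_1 lc_d_Cert_tree lc_d_rc_15_1 lc_d_rc_8_3 lc_d_rc_15_1 lc_d_rc_8_3 lc_d_Cert_tree lc_d_rc_27_4 lc_d_rc_27_2 lc_d_rc_24_0 lc_d_rc_23_4 lc_d_rc_17_2 lc_d_rc_22_4 lc_d_rc_15_1 lc_d_Cert_tree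 lc_d_rc_8_3 lc_d_Cert_tree lc_d_Cert_tree lc_d_rc_15_1 lc_d_rc_8_3 lc_d_Cert_tree lc_d_Cert_tree lc_d_rc_15_1 lc_d_rc_17_2 lc_d_Cert_tree lc_d_rc_16_4 lc_d_rc_22_2 lc_d_Cert_tree lc_d_rc_16_0 lc_d_rc_15_1) (@D3.rec (fun _ => (Cert rels S Gen.d)) lc_d_rc_22_4 lc_d_rc_15_1 lc_d_rc_27_4 lc_d_Cert_tree lc_d_rc_16_2 lc_d_rc_24_5 lc_d_rc_15_1 lc_d_rc_8_3 lc_d_rc_23_4 lc_d_Cert_tree lc_d_rc_16_4 lc_d_rc_8_3 lc_d_Cert_tree lc_d_Cert_tree lc_d_rc_24_5 lc_d_Cert_tree lc_d_Cert_tree lc_d_Cert_tree lc_d_Cert_tree lc_d_Cert_tree lc_d_rc_15_1 lc_d_Cert_tree lc_d_rc_17_2 lc_d_Cert_tree lc_d_Cert_tree lc_d_rc_17_2 lc_d_Cert_tree lc_d_Cert_tree lc_d_Cert_tree lc_d_rc_15_1 lc_d_rc_15_1 lc_d_Cert_tree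 lc_d_Cert_tree lc_d_Cert_tree lc_d_Cert_tree lc_d_rc_15_1 lc_d_rc_17_2 lc_d_rc_3_3 lc_d_Cert_tree lc_d_Cert_tree lc_d_Cert_tree lc_d_Cert_tree lc_d_rc_15_1 lc_d_rc_17_2 lc_d_rc_24_0 lc_d_rc_23_8 lc_d_rc_3_3 lc_d_Cert_tree lc_d_Cert_tree lc_d_Cert_tree lc_d_rc_15_1 lc_d_rc_17_2 lc_d_Cert_tree lc_d_Cert_tree lc_d_rc_15_1 lc_d_rc_27_4 lc_d_Cert_tree lc_d_Cert_tree lc_d_rc_15_1 lc_d_Cert_tree lc_d_Cert_tree lc_d_Cert_tree) (@D3.rec (fun _ => (Cert rels S Gen.d)) lc_d_Cert_tree lc_d_rc_15_1 lc_d_Cert_tree lc_d_rc_15_1 lc_d_Cert_tree lc_d_rc_15_1 lc_d_rc_15_1 lc_d_rc_22_6 lc_d_rc_27_10 lc_d_rc_16_0 lc_d_Cert_tree lc_d_rc_15_1 lc_d_rc_16_4 lc_d_rc_25_2 lc_d_rc_8_3 lc_d_rc_15_1 lc_d_Cert_tree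 lc_d_rc_15_1 lc_d_rc_23_8 lc_d_rc_8_3 lc_d_rc_3_3 lc_d_Cert_tree lc_d_rc_15_1 lc_d_Cert_tree lc_d_rc_15_1 lc_d_Cert_tree lc_d_rc_15_1 lc_d_rc_15_1 lc_d_rc_23_8 lc_d_Cert_tree lc_d_rc_16_4 lc_d_rc_17_2 lc_d_rc_15_1 lc_d_rc_8_3 lc_d_Cert_tree lc_d_Cert_tree lc_d_Cert_tree lc_d_rc_17_2 lc_d_rc_16_2 lc_d_rc_8_3 lc_d_Cert_tree lc_d_Cert_tree lc_d_rc_8_3 lc_d_Cert_tree lc_d_Cert_tree lc_d_rc_15_1 lc_d_rc_8_1 lc_d_rc_23_2 lc_d_Cert_tree lc_d_rc_16_4 lc_d_Cert_tree lc_d_Cert_tree lc_d_rc_17_2 lc_d_Cert_tree lc_d_Cert_tree lc_d_rc_24_5 lc_d_Cert_tree lc_d_rc_8_3 lc_d_Cert_tree lc_d_rc_15_1 lc_d_rc_22_8 lc_d_rc_27_10) (@D3.rec (fun _ => (Cert rels S Gen.d)) lc_d_Cert_tree lc_d_rc_24_5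 lc_d_rc_15_1 lc_d_Cert_tree lc_d_Cert_tree lc_d_rc_15_1 lc_d_Cert_tree lc_d_rc_8_3 lc_d_Cert_tree lc_d_rc_15_1 lc_d_Cert_tree lc_d_rc_17_2 lc_d_rc_15_1 lc_d_rc_16_0 lc_d_Cert_tree lc_d_rc_16_4 lc_d_rc_27_2 lc_d_Cert_tree lc_d_Cert_tree lc_d_rc_16_0 lc_d_rc_15_1 lc_d_rc_24_0 lc_d_rc_15_1 lc_d_rc_24_5 lc_d_Cert_tree lc_d_rc_24_0 lc_d_rc_16_4 lc_d_Cert_tree lc_d_rc_16_4 lc_d_rc_15_1 lc_d_Cert_tree lc_d_rc_27_8 lc_d_rc_15_1 lc_d_Cert_tree lc_d_Cert_tree lc_d_Cert_tree lc_d_Cert_tree lc_d_rc_15_1 lc_d_Cert_tree lc_d_Cert_tree lc_d_Cert_tree lc_d_rc_17_2 lc_d_rc_27_2 lc_d_rc_27_10 lc_d_rc_15_1 lc_d_Cert_tree lc_d_rc_15_1 lc_d_rc_27_4 lc_d_rc_8_3 lc_d_rc_22_4 lc_d_rc_16_0 lc_d_rc_15_1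 lc_d_Cert_tree lc_d_rc_8_3 lc_d_rc_8_3 lc_d_Cert_tree lc_d_Cert_tree lc_d_rc_3_3 lc_d_rc_27_10 lc_d_Cert_tree lc_d_rc_22_2 lc_d_Cert_tree) (@D3.rec (fun _ => (Cert rels S Gen.d)) lc_d_rc_23_6 lc_d_Cert_tree lc_d_rc_15_1 lc_d_Cert_tree lc_d_rc_17_2 lc_d_rc_3_3 lc_d_rc_15_1 lc_d_rc_17_2 lc_d_rc_3_3 lc_d_Cert_tree lc_d_rc_23_8 lc_d_rc_15_1 lc_d_Cert_tree lc_d_rc_15_1 lc_d_Cert_tree lc_d_rc_16_4 lc_d_rc_22_2 lc_d_Cert_tree lc_d_rc_27_8 lc_d_rc_24_0 lc_d_Cert_tree lc_d_rc_16_4 lc_d_Cert_tree lc_d_Cert_tree lc_d_Cert_tree lc_d_rc_15_1 lc_d_Cert_tree lc_d_rc_17_2 lc_d_Cert_tree lc_d_Cert_tree lc_d_rc_17_2 lc_d_rc_8_3 lc_d_Cert_tree lc_d_rc_15_1 lc_d_rc_3_3 lc_d_rc_8_3 lc_d_Cert_tree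 lc_d_rc_8_3 lc_d_rc_24_5 lc_d_Cert_tree lc_d_Cert_tree lc_d_rc_15_1 lc_d_rc_27_2 lc_d_Cert_tree lc_d_rc_3_3 lc_d_rc_15_1 lc_d_Cert_tree lc_d_rc_25_10 lc_d_Cert_tree lc_d_rc_15_1 lc_d_rc_24_5 lc_d_Cert_tree lc_d_rc_3_3 lc_d_Cert_tree lc_d_Cert_tree lc_d_rc_15_1 lc_d_Cert_tree lc_d_rc_17_0 lc_d_rc_15_1 lc_d_Cert_tree lc_d_rc_24_5 lc_d_rc_15_1) (@D3.rec (fun _ => (Cert rels S Gen.d)) lc_d_Cert_tree lc_d_Cert_tree lc_d_Cert_tree lc_d_rc_22_2 lc_d_rc_15_1 lc_d_rc_22_2 lc_d_rc_24_0 lc_d_rc_15_1 lc_d_rc_15_1 lc_d_Cert_tree lc_d_rc_16_4 lc_d_Cert_tree lc_d_Cert_tree lc_d_rc_8_3 lc_d_rc_27_2 lc_d_rc_15_1 lc_d_rc_27_2 lc_d_rc_15_1 lc_d_Cert_tree lc_d_Cert_tree lc_d_rc_24_5 lc_d_Cert_tree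 lc_d_rc_16_4 lc_d_Cert_tree lc_d_Cert_tree lc_d_rc_15_1 lc_d_Cert_tree lc_d_Cert_tree lc_d_Cert_tree lc_d_rc_15_1 lc_d_rc_8_3 lc_d_rc_8_3 lc_d_Cert_tree lc_d_Cert_tree lc_d_Cert_tree lc_d_rc_15_1 lc_d_rc_24_0 lc_d_Cert_tree lc_d_rc_17_2 lc_d_Cert_tree lc_d_rc_15_1 lc_d_Cert_tree lc_d_rc_15_1 lc_d_rc_23_4 lc_d_rc_23_8 lc_d_rc_23_6 lc_d_Cert_tree lc_d_rc_27_2 lc_d_Cert_tree lc_d_rc_15_1 lc_d_rc_8_3 lc_d_rc_15_1 lc_d_rc_16_4 lc_d_Cert_tree lc_d_rc_15_1 lc_d_rc_8_3 lc_d_Cert_tree lc_d_rc_15_1 lc_d_rc_8_1 lc_d_Cert_tree lc_d_rc_15_1 lc_d_Cert_tree) (@D3.rec (fun _ => (Cert rels S Gen.d)) lc_d_rc_15_1 lc_d_Cert_tree lc_d_rc_15_1 lc_d_Cert_tree lc_d_rc_27_4 lc_d_rc_15_1 lc_d_Cert_tree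 lc_d_rc_15_1 lc_d_Cert_tree lc_d_Cert_tree lc_d_rc_23_4 lc_d_rc_15_1 lc_d_rc_22_2 lc_d_Cert_tree lc_d_rc_15_1 lc_d_rc_15_1 lc_d_Cert_tree lc_d_rc_16_4 lc_d_rc_24_5 lc_d_Cert_tree lc_d_rc_16_4 lc_d_Cert_tree lc_d_Cert_tree lc_d_rc_15_1 lc_d_Cert_tree lc_d_rc_27_10 lc_d_Cert_tree lc_d_rc_15_1 lc_d_rc_17_2 lc_d_rc_24_5 lc_d_Cert_tree lc_d_rc_15_1 lc_d_Cert_tree lc_d_rc_17_2 lc_d_rc_8_3 lc_d_rc_27_4 lc_d_Cert_tree lc_d_rc_22_2 lc_d_rc_27_4 lc_d_rc_17_2 lc_d_rc_15_1 lc_d_rc_16_4 lc_d_Cert_tree lc_d_Cert_tree lc_d_rc_15_1 lc_d_Cert_tree lc_d_rc_15_1 lc_d_Cert_tree lc_d_rc_15_1 lc_d_Cert_tree lc_d_rc_16_4 lc_d_rc_15_1 lc_d_rc_23_8 lc_d_rc_15_1 lc_d_Cert_tree lc_d_Cert_tree lc_d_Cert_tree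 lc_d_rc_17_2 lc_d_rc_8_3 lc_d_rc_27_8 lc_d_rc_3_3 lc_d_rc_15_1) (@D3.rec (fun _ => (Cert rels S Gen.d)) lc_d_rc_15_1 lc_d_rc_22_4 lc_d_rc_27_8 lc_d_rc_15_1 lc_d_rc_23_8 lc_d_rc_15_1 lc_d_Cert_tree lc_d_rc_27_8 lc_d_rc_16_4 lc_d_rc_16_4 lc_d_rc_16_4 lc_d_rc_16_4 lc_d_rc_16_4 lc_d_rc_27_2 lc_d_rc_3_3 lc_d_Cert_tree lc_d_rc_15_1 lc_d_Cert_tree lc_d_Cert_tree lc_d_Cert_tree lc_d_rc_15_1 lc_d_Cert_tree lc_d_rc_15_1 lc_d_rc_15_1 lc_d_Cert_tree lc_d_rc_16_4 lc_d_Cert_tree lc_d_rc_16_4 lc_d_Cert_tree lc_d_rc_16_4 lc_d_rc_24_5 lc_d_Cert_tree lc_d_rc_23_8 lc_d_Cert_tree lc_d_Cert_tree lc_d_rc_15_1 lc_d_Cert_tree lc_d_Cert_tree lc_d_Cert_tree lc_d_rc_17_2 lc_d_Cert_tree lc_d_rc_15_1 lc_d_rc_27_4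 lc_d_rc_8_3 lc_d_rc_27_8 lc_d_Cert_tree lc_d_Cert_tree lc_d_rc_15_1 lc_d_Cert_tree lc_d_rc_16_4 lc_d_rc_3_3 lc_d_rc_15_1 lc_d_Cert_tree lc_d_rc_15_1 lc_d_Cert_tree lc_d_Cert_tree lc_d_Cert_tree lc_d_rc_16_4 lc_d_rc_15_1 lc_d_rc_15_1 lc_d_rc_24_5 lc_d_Cert_tree) (@D3.rec (fun _ => (Cert rels S Gen.d)) lc_d_rc_27_8 lc_d_Cert_tree lc_d_rc_15_1 lc_d_Cert_tree lc_d_rc_15_1 lc_d_Cert_tree lc_d_rc_15_1 lc_d_rc_23_6 lc_d_Cert_tree lc_d_rc_16_2 lc_d_rc_23_4 lc_d_rc_23_2 lc_d_rc_15_1 lc_d_Cert_tree lc_d_Cert_tree lc_d_rc_24_5 lc_d_Cert_tree lc_d_rc_16_4 lc_d_Cert_tree lc_d_Cert_tree lc_d_rc_15_1 lc_d_Cert_tree lc_d_rc_23_4 lc_d_rc_15_1 lc_d_rc_23_4 lc_d_rc_24_0 lc_d_rc_27_4 lc_d_rc_23_2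 lc_d_rc_22_4 lc_d_Cert_tree lc_d_rc_15_1 lc_d_rc_15_1 lc_d_rc_15_1 lc_d_rc_15_1 lc_d_Cert_tree lc_d_rc_15_1 lc_d_rc_24_5 lc_d_Cert_tree lc_d_rc_16_4 lc_d_rc_16_2 lc_d_rc_15_1 lc_d_Cert_tree lc_d_rc_15_1 lc_d_rc_15_1 lc_d_rc_17_2 lc_d_rc_24_0 lc_d_rc_8_3 lc_d_rc_23_8 lc_d_rc_16_4 lc_d_rc_17_2 lc_d_rc_23_2 lc_d_Cert_tree lc_d_Cert_tree lc_d_rc_24_0 lc_d_rc_15_1 lc_d_Cert_tree lc_d_Cert_tree lc_d_rc_17_2 lc_d_rc_15_1 lc_d_rc_16_2 lc_d_Cert_tree lc_d_rc_27_8) (@D3.rec (fun _ => (Cert rels S Gen.d)) lc_d_rc_15_1 lc_d_rc_25_10 lc_d_rc_15_1 lc_d_rc_16_2 lc_d_rc_27_2 lc_d_rc_8_3 lc_d_rc_15_1 lc_d_Cert_tree lc_d_rc_15_1 lc_d_Cert_tree lc_d_rc_27_2 lc_d_rc_15_1 lc_d_Cert_tree lc_d_rc_3_3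 lc_d_rc_8_3 lc_d_Cert_tree lc_d_rc_16_2 lc_d_Cert_tree lc_d_Cert_tree lc_d_Cert_tree lc_d_rc_15_1 lc_d_Cert_tree lc_d_Cert_tree lc_d_rc_15_1 lc_d_rc_17_2 lc_d_rc_3_3 lc_d_Cert_tree lc_d_rc_8_3 lc_d_rc_12_7 lc_d_rc_24_0 lc_d_Cert_tree lc_d_rc_15_1 lc_d_Cert_tree lc_d_Cert_tree lc_d_Cert_tree lc_d_rc_17_2 lc_d_rc_15_1 lc_d_Cert_tree lc_d_Cert_tree lc_d_Cert_tree lc_d_rc_15_1 lc_d_Cert_tree lc_d_rc_27_2 lc_d_rc_15_1 lc_d_rc_17_2 lc_d_Cert_tree lc_d_rc_24_5 lc_d_rc_15_1 lc_d_Cert_tree lc_d_Cert_tree lc_d_rc_23_6 lc_d_rc_15_1 lc_d_Cert_tree lc_d_Cert_tree lc_d_Cert_tree lc_d_rc_15_1 lc_d_Cert_tree lc_d_rc_27_10 lc_d_rc_12_15 lc_d_rc_22_8 lc_d_Cert_tree lc_d_rc_17_2) (@D3.rec (fun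 _ => (Cert rels S Gen.d)) lc_d_Cert_tree lc_d_Cert_tree lc_d_rc_15_1 lc_d_rc_17_2 lc_d_Cert_tree lc_d_Cert_tree lc_d_Cert_tree lc_d_rc_15_1 lc_d_rc_27_4 lc_d_Cert_tree lc_d_Cert_tree lc_d_rc_15_1 lc_d_Cert_tree lc_d_Cert_tree lc_d_rc_25_6 lc_d_rc_17_2 lc_d_rc_15_1 lc_d_rc_15_1 lc_d_Cert_tree lc_d_rc_16_2 lc_d_Cert_tree lc_d_rc_8_3 lc_d_Cert_tree lc_d_Cert_tree lc_d_rc_27_2 lc_d_rc_15_1 lc_d_rc_24_0 lc_d_rc_15_1 lc_d_Cert_tree lc_d_Cert_tree lc_d_Cert_tree lc_d_rc_8_3 lc_d_Cert_tree lc_d_rc_15_1 lc_d_rc_15_1 lc_d_rc_16_4 lc_d_Cert_tree lc_d_Cert_tree lc_d_rc_15_1 lc_d_rc_15_1 lc_d_rc_15_1 lc_d_Cert_tree lc_d_rc_27_10 lc_d_rc_27_2 lc_d_rc_15_1 lc_d_rc_17_2 lc_d_rc_27_2 lc_d_rc_27_8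 lc_d_rc_27_10 lc_d_rc_15_1 lc_d_rc_17_2 lc_d_Cert_tree lc_d_rc_16_2 lc_d_rc_8_3 lc_d_Cert_tree lc_d_rc_27_8 lc_d_Cert_tree lc_d_rc_8_3 lc_d_rc_24_5 lc_d_rc_15_1 lc_d_rc_17_2 lc_d_rc_8_3) (@D3.rec (fun _ => (Cert rels S Gen.d)) lc_d_rc_22_6 lc_d_rc_8_3 lc_d_rc_15_1 lc_d_rc_17_2 lc_d_rc_27_10 lc_d_Cert_tree lc_d_Cert_tree lc_d_rc_15_1 lc_d_rc_15_1 lc_d_rc_8_3 lc_d_rc_24_0 lc_d_rc_15_1 lc_d_Cert_tree lc_d_rc_16_2 lc_d_rc_8_3 lc_d_rc_23_4 lc_d_Cert_tree lc_d_rc_23_6 lc_d_rc_27_8 lc_d_rc_8_3 lc_d_Cert_tree lc_d_Cert_tree lc_d_Cert_tree lc_d_rc_15_1 lc_d_rc_17_2 lc_d_Cert_tree lc_d_rc_15_1 lc_d_rc_27_4 lc_d_rc_15_1 lc_d_Cert_tree lc_d_rc_17_2 lc_d_Cert_tree lc_d_rc_16_4 lc_d_Cert_tree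 lc_d_Cert_tree lc_d_Cert_tree lc_d_rc_15_1 lc_d_rc_8_3 lc_d_Cert_tree lc_d_Cert_tree lc_d_Cert_tree lc_d_Cert_tree lc_d_Cert_tree lc_d_rc_15_1 lc_d_rc_17_2 lc_d_rc_23_4 lc_d_rc_23_4 lc_d_Cert_tree lc_d_rc_17_2 lc_d_rc_15_1 lc_d_rc_16_2 lc_d_rc_23_4 lc_d_rc_15_1 lc_d_rc_15_1 lc_d_rc_23_8 lc_d_rc_27_4 lc_d_rc_8_1 lc_d_rc_16_4 lc_d_Cert_tree lc_d_rc_15_1 lc_d_rc_17_2 lc_d_Cert_tree) (@D3.rec (fun _ => (Cert rels S Gen.d)) lc_d_Cert_tree lc_d_Cert_tree lc_d_rc_15_1 lc_d_rc_16_4 lc_d_Cert_tree lc_d_rc_15_1 lc_d_rc_17_2 lc_d_rc_15_1 lc_d_rc_27_4 lc_d_Cert_tree lc_d_Cert_tree lc_d_rc_17_2 lc_d_Cert_tree lc_d_rc_15_1 lc_d_rc_15_1 lc_d_rc_17_2 lc_d_rc_15_1 lc_d_rc_27_8 lc_d_rc_15_1 lc_d_Cert_tree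 lc_d_rc_17_2 lc_d_rc_23_2 lc_d_rc_16_4 lc_d_rc_8_1 lc_d_Cert_tree lc_d_rc_15_1 lc_d_rc_22_4 lc_d_rc_16_4 lc_d_Cert_tree lc_d_Cert_tree lc_d_rc_15_1 lc_d_rc_17_2 lc_d_rc_15_1 lc_d_rc_27_4 lc_d_rc_15_1 lc_d_rc_8_3 lc_d_Cert_tree lc_d_rc_15_1 lc_d_rc_27_4 lc_d_Cert_tree lc_d_rc_15_1 lc_d_Cert_tree lc_d_rc_8_3 lc_d_rc_15_1 lc_d_Cert_tree lc_d_rc_17_2 lc_d_Cert_tree lc_d_Cert_tree lc_d_rc_15_1 lc_d_rc_17_2 lc_d_Cert_tree lc_d_rc_15_1 lc_d_rc_8_3 lc_d_Cert_tree lc_d_rc_15_1 lc_d_Cert_tree lc_d_rc_12_3 lc_d_rc_15_1 lc_d_Cert_tree lc_d_rc_17_2 lc_d_rc_15_1 lc_d_rc_17_2) (@D3.rec (fun _ => (Cert rels S Gen.d)) lc_d_Cert_tree lc_d_rc_15_1 lc_d_rc_17_2 lc_d_Cert_tree lc_d_rc_15_1 lc_d_rc_17_2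 lc_d_Cert_tree lc_d_Cert_tree lc_d_rc_15_1 lc_d_rc_17_2 lc_d_Cert_tree lc_d_rc_15_1 lc_d_Cert_tree lc_d_Cert_tree lc_d_rc_15_1 lc_d_Cert_tree lc_d_rc_23_6 lc_d_rc_23_6 lc_d_Cert_tree lc_d_rc_17_2 lc_d_rc_15_1 lc_d_Cert_tree lc_d_rc_15_1 lc_d_rc_8_3 lc_d_rc_24_0 lc_d_Cert_tree lc_d_rc_15_1 lc_d_rc_27_2 lc_d_Cert_tree lc_d_rc_15_1 lc_d_Cert_tree lc_d_Cert_tree lc_d_rc_23_6 lc_d_rc_15_1 lc_d_rc_23_2 lc_d_rc_15_1 lc_d_rc_27_4 lc_d_rc_15_1 lc_d_rc_27_8 lc_d_rc_22_8 lc_d_rc_15_1 lc_d_Cert_tree lc_d_rc_17_2 lc_d_rc_24_0 lc_d_rc_12_3 lc_d_Cert_tree lc_d_Cert_tree lc_d_Cert_tree lc_d_Cert_tree lc_d_Cert_tree lc_d_rc_15_1 lc_d_rc_17_2 lc_d_rc_16_2 lc_d_rc_15_1 lc_d_Cert_tree lc_d_rc_17_2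 lc_d_rc_15_1 lc_d_rc_15_1 lc_d_rc_15_1 lc_d_rc_16_0 lc_d_Cert_tree lc_d_rc_16_2) (@D3.rec (fun _ => (Cert rels S Gen.d)) lc_d_Cert_tree lc_d_rc_15_1 lc_d_rc_23_6 lc_d_Cert_tree lc_d_Cert_tree lc_d_rc_16_4 lc_d_Cert_tree lc_d_rc_15_1 lc_d_rc_17_2 lc_d_rc_8_3 lc_d_rc_25_2 lc_d_Cert_tree lc_d_Cert_tree lc_d_Cert_tree lc_d_Cert_tree lc_d_Cert_tree lc_d_rc_15_1 lc_d_rc_17_2 lc_d_Cert_tree lc_d_rc_15_1 lc_d_Cert_tree lc_d_rc_15_1 lc_d_rc_27_8 lc_d_rc_3_3 lc_d_Cert_tree lc_d_rc_17_2 lc_d_rc_15_1 lc_d_rc_16_0 lc_d_rc_15_1 lc_d_rc_16_2 lc_d_rc_15_1 lc_d_rc_15_1 lc_d_rc_16_4 lc_d_Cert_tree lc_d_rc_15_1 lc_d_rc_17_2 lc_d_rc_16_4 lc_d_rc_22_8 lc_d_Cert_tree lc_d_Cert_tree lc_d_rc_15_1 lc_d_rc_17_2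 lc_d_Cert_tree lc_d_Cert_tree lc_d_Cert_tree lc_d_rc_15_1 lc_d_rc_17_2 lc_d_Cert_tree lc_d_Cert_tree lc_d_rc_15_1 lc_d_rc_17_2 lc_d_Cert_tree lc_d_Cert_tree lc_d_rc_15_1 lc_d_Cert_tree lc_d_Cert_tree lc_d_Cert_tree lc_d_rc_15_1 lc_d_Cert_tree lc_d_Cert_tree lc_d_Cert_tree lc_d_Cert_tree) (@D3.rec (fun _ => (Cert rels S Gen.d)) lc_d_rc_17_2 lc_d_Cert_tree lc_d_Cert_tree lc_d_Cert_tree lc_d_rc_15_1 lc_d_rc_15_1 lc_d_rc_15_1 lc_d_rc_12_3 lc_d_rc_16_2 lc_d_rc_27_4 lc_d_rc_27_2 lc_d_Cert_tree lc_d_Cert_tree lc_d_rc_15_1 lc_d_Cert_tree lc_d_rc_23_2 lc_d_Cert_tree lc_d_rc_15_1 lc_d_rc_22_2 lc_d_rc_8_3 lc_d_rc_23_6 lc_d_Cert_tree lc_d_rc_8_3 lc_d_rc_23_4 lc_d_rc_16_4 lc_d_rc_23_6 lc_d_rc_23_4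 lc_d_Cert_tree lc_d_rc_15_1 lc_d_rc_22_4 lc_d_rc_16_4 lc_d_rc_15_1 lc_d_rc_27_2 lc_d_rc_8_1 lc_d_rc_15_1 lc_d_rc_16_0 lc_d_rc_15_1 lc_d_rc_27_2 lc_d_Cert_tree lc_d_Cert_tree lc_d_rc_15_1 lc_d_rc_15_1 lc_d_rc_23_4 lc_d_rc_8_3 lc_d_rc_15_1 lc_d_rc_16_2 lc_d_rc_27_4 lc_d_rc_24_5 lc_d_rc_8_3 lc_d_rc_23_8 lc_d_rc_8_3 lc_d_rc_15_1 lc_d_Cert_tree lc_d_Cert_tree lc_d_rc_15_1 lc_d_rc_8_3 lc_d_rc_23_2 lc_d_rc_16_2 lc_d_rc_15_1 lc_d_rc_22_2 lc_d_rc_8_3 lc_d_rc_8_3) (@D3.rec (fun _ => (Cert rels S Gen.d)) lc_d_Cert_tree lc_d_rc_15_1 lc_d_rc_15_1 lc_d_rc_15_1 lc_d_Cert_tree lc_d_rc_17_2 lc_d_rc_22_8 lc_d_Cert_tree lc_d_rc_24_5 lc_d_Cert_tree lc_d_Cert_tree lc_d_Cert_tree lc_d_Cert_tree lc_d_Cert_tree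 lc_d_rc_15_1 lc_d_rc_17_2 lc_d_Cert_tree lc_d_rc_15_1 lc_d_rc_17_2 lc_d_rc_15_1 lc_d_Cert_tree lc_d_rc_23_6 lc_d_rc_8_3 lc_d_Cert_tree lc_d_rc_17_2 lc_d_rc_27_4 lc_d_rc_27_10 lc_d_rc_24_5 lc_d_Cert_tree lc_d_rc_15_1 lc_d_rc_17_2 lc_d_rc_23_4 lc_d_Cert_tree lc_d_Cert_tree lc_d_rc_15_1 lc_d_rc_17_2 lc_d_Cert_tree lc_d_Cert_tree lc_d_rc_15_1 lc_d_rc_17_2 lc_d_rc_15_1 lc_d_Cert_tree lc_d_Cert_tree lc_d_Cert_tree lc_d_rc_15_1 lc_d_rc_27_8 lc_d_rc_15_1 lc_d_rc_15_1 lc_d_Cert_tree lc_d_rc_17_2 lc_d_Cert_tree lc_d_Cert_tree lc_d_rc_15_1 lc_d_rc_15_1 lc_d_rc_15_1 lc_d_rc_8_3 lc_d_rc_12_9 lc_d_rc_16_2 lc_d_rc_27_4 lc_d_rc_22_2 lc_d_Cert_tree lc_d_Cert_tree)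
def ce_d_1 : D2 → D3 → (Cert rels S Gen.d) := @D2.rec (fun _ => D3 → (Cert rels S Gen.d)) (@D3.rec (fun _ => (Cert rels S Gen.d)) lc_d_rc_15_1 lc_d_rc_15_1 lc_d_rc_23_8 lc_d_rc_16_2 lc_d_rc_12_15 lc_d_rc_24_5 lc_d_rc_8_3 lc_d_rc_23_6 lc_d_rc_27_4 lc_d_rc_8_3 lc_d_rc_12_9 lc_d_rc_16_4 lc_d_rc_23_4 lc_d_rc_23_4 lc_d_rc_8_3 lc_d_rc_16_4 lc_d_Cert_tree lc_d_Cert_tree lc_d_rc_15_1 lc_d_rc_15_1 lc_d_rc_15_1 lc_d_rc_15_1 lc_d_rc_16_2 lc_d_rc_27_4 lc_d_rc_24_5 lc_d_rc_8_3 lc_d_rc_23_8 lc_d_rc_8_3 lc_d_rc_27_4 lc_d_rc_15_1 lc_d_rc_15_1 lc_d_Cert_tree lc_d_rc_15_1 lc_d_rc_27_10 lc_d_rc_15_1 lc_d_rc_24_5 lc_d_Cert_tree lc_d_Cert_tree lc_d_rc_15_1 lc_d_Cert_tree lc_d_rc_23_2 lc_d_Cert_tree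 lc_d_rc_15_1 lc_d_rc_24_0 lc_d_rc_8_3 lc_d_rc_23_4 lc_d_Cert_tree lc_d_rc_15_1 lc_d_rc_17_2 lc_d_Cert_tree lc_d_rc_15_1 lc_d_rc_16_2 lc_d_Cert_tree lc_d_rc_17_2 lc_d_Cert_tree lc_d_Cert_tree lc_d_rc_15_1 lc_d_rc_17_2 lc_d_Cert_tree lc_d_rc_15_1 lc_d_rc_27_8 lc_d_Cert_tree) (@D3.rec (fun _ => (Cert rels S Gen.d)) lc_d_rc_17_2 lc_d_Cert_tree lc_d_rc_15_1 lc_d_rc_17_2 lc_d_Cert_tree lc_d_Cert_tree lc_d_rc_15_1 lc_d_rc_17_2 lc_d_Cert_tree lc_d_Cert_tree lc_d_Cert_tree lc_d_Cert_tree lc_d_rc_15_1 lc_d_rc_17_2 lc_d_Cert_tree lc_d_rc_15_1 lc_d_rc_17_2 lc_d_rc_15_1 lc_d_rc_27_8 lc_d_Cert_tree lc_d_rc_15_1 lc_d_rc_27_8 lc_d_rc_15_1 lc_d_rc_15_1 lc_d_Cert_tree lc_d_rc_17_2 lc_d_Cert_tree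 lc_d_rc_15_1 lc_d_rc_15_1 lc_d_rc_22_8 lc_d_Cert_tree lc_d_rc_16_2 lc_d_rc_16_0 lc_d_rc_12_15 lc_d_Cert_tree lc_d_rc_15_1 lc_d_rc_27_4 lc_d_Cert_tree lc_d_Cert_tree lc_d_rc_27_2 lc_d_Cert_tree lc_d_rc_16_4 lc_d_Cert_tree lc_d_Cert_tree lc_d_Cert_tree lc_d_rc_15_1 lc_d_rc_17_2 lc_d_rc_16_4 lc_d_Cert_tree lc_d_Cert_tree lc_d_Cert_tree lc_d_rc_15_1 lc_d_Cert_tree lc_d_Cert_tree lc_d_rc_17_2 lc_d_Cert_tree lc_d_rc_15_1 lc_d_Cert_tree lc_d_rc_27_8 lc_d_rc_17_2 lc_d_Cert_tree lc_d_rc_15_1) (@D3.rec (fun _ => (Cert rels S Gen.d)) lc_d_Cert_tree lc_d_rc_15_1 lc_d_Cert_tree lc_d_rc_27_10 lc_d_rc_15_1 lc_d_rc_17_2 lc_d_rc_15_1 lc_d_Cert_tree lc_d_Cert_tree lc_d_rc_15_1 lc_d_Cert_tree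 lc_d_Cert_tree lc_d_Cert_tree lc_d_Cert_tree lc_d_rc_15_1 lc_d_rc_17_2 lc_d_rc_23_2 lc_d_rc_22_6 lc_d_rc_16_4 lc_d_rc_17_2 lc_d_Cert_tree lc_d_Cert_tree lc_d_Cert_tree lc_d_Cert_tree lc_d_Cert_tree lc_d_rc_15_1 lc_d_rc_17_2 lc_d_Cert_tree lc_d_rc_15_1 lc_d_rc_17_2 lc_d_Cert_tree lc_d_rc_15_1 lc_d_rc_17_2 lc_d_Cert_tree lc_d_rc_15_1 lc_d_Cert_tree lc_d_rc_15_1 lc_d_rc_8_1 lc_d_rc_15_1 lc_d_rc_8_1 lc_d_Cert_tree lc_d_rc_17_2 lc_d_rc_15_1 lc_d_rc_15_1 lc_d_rc_12_3 lc_d_Cert_tree lc_d_rc_16_2 lc_d_rc_24_0 lc_d_rc_8_3 lc_d_Cert_tree lc_d_rc_15_1 lc_d_rc_15_1 lc_d_Cert_tree lc_d_rc_16_2 lc_d_rc_22_2 lc_d_Cert_tree lc_d_Cert_tree lc_d_rc_8_3 lc_d_Cert_tree lc_d_rc_16_4 lc_d_Cert_tree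 lc_d_Cert_tree) (@D3.rec (fun _ => (Cert rels S Gen.d)) lc_d_Cert_tree lc_d_rc_15_1 lc_d_rc_22_4 lc_d_rc_16_4 lc_d_rc_15_1 lc_d_rc_16_2 lc_d_rc_23_2 lc_d_rc_8_3 lc_d_rc_22_8 lc_d_rc_15_1 lc_d_rc_16_2 lc_d_rc_22_2 lc_d_rc_15_1 lc_d_rc_23_6 lc_d_rc_23_6 lc_d_Cert_tree lc_d_rc_15_1 lc_d_Cert_tree lc_d_rc_27_10 lc_d_rc_15_1 lc_d_Cert_tree lc_d_rc_15_1 lc_d_rc_8_3 lc_d_rc_15_1 lc_d_rc_16_2 lc_d_Cert_tree lc_d_rc_15_1 lc_d_rc_23_6 lc_d_rc_15_1 lc_d_Cert_tree lc_d_rc_15_1 lc_d_rc_15_1 lc_d_rc_27_8 lc_d_rc_27_2 lc_d_Cert_tree lc_d_rc_15_1 lc_d_Cert_tree lc_d_rc_15_1 lc_d_rc_24_0 lc_d_Cert_tree lc_d_rc_15_1 lc_d_Cert_tree lc_d_Cert_tree lc_d_rc_15_1 lc_d_Cert_tree lc_d_Cert_tree lc_d_Cert_tree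 lc_d_Cert_tree lc_d_rc_15_1 lc_d_rc_17_2 lc_d_rc_23_6 lc_d_rc_15_1 lc_d_rc_22_6 lc_d_rc_16_4 lc_d_rc_17_2 lc_d_Cert_tree lc_d_rc_15_1 lc_d_rc_3_3 lc_d_rc_23_4 lc_d_Cert_tree lc_d_rc_15_1 lc_d_Cert_tree) (@D3.rec (fun _ => (Cert rels S Gen.d)) lc_d_Cert_tree lc_d_rc_15_1 lc_d_Cert_tree lc_d_rc_15_1 lc_d_Cert_tree lc_d_rc_15_1 lc_d_rc_27_8 lc_d_rc_25_2 lc_d_rc_15_1 lc_d_Cert_tree lc_d_rc_15_1 lc_d_Cert_tree lc_d_rc_15_1 lc_d_Cert_tree lc_d_Cert_tree lc_d_rc_8_3 lc_d_rc_8_3 lc_d_Cert_tree lc_d_rc_15_1 lc_d_rc_16_4 lc_d_rc_25_2 lc_d_rc_8_3 lc_d_Cert_tree lc_d_rc_15_1 lc_d_Cert_tree lc_d_Cert_tree lc_d_Cert_tree lc_d_Cert_tree lc_d_rc_15_1 lc_d_rc_17_2 lc_d_Cert_tree lc_d_Cert_tree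 lc_d_Cert_tree lc_d_Cert_tree lc_d_Cert_tree lc_d_rc_15_1 lc_d_Cert_tree lc_d_Cert_tree lc_d_rc_15_1 lc_d_rc_17_2 lc_d_Cert_tree lc_d_Cert_tree lc_d_Cert_tree lc_d_Cert_tree lc_d_rc_15_1 lc_d_Cert_tree lc_d_Cert_tree lc_d_rc_15_1 lc_d_rc_17_2 lc_d_rc_3_3 lc_d_Cert_tree lc_d_Cert_tree lc_d_Cert_tree lc_d_rc_15_1 lc_d_Cert_tree lc_d_rc_17_2 lc_d_Cert_tree lc_d_Cert_tree lc_d_rc_15_1 lc_d_Cert_tree lc_d_rc_15_1 lc_d_rc_8_3) (@D3.rec (fun _ => (Cert rels S Gen.d)) lc_d_rc_23_2 lc_d_Cert_tree lc_d_rc_16_4 lc_d_Cert_tree lc_d_rc_8_3 lc_d_Cert_tree lc_d_rc_8_3 lc_d_Cert_tree lc_d_Cert_tree lc_d_Cert_tree lc_d_rc_17_2 lc_d_Cert_tree lc_d_Cert_tree lc_d_rc_15_1 lc_d_Cert_tree lc_d_Cert_tree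 lc_d_rc_15_1 lc_d_Cert_tree lc_d_rc_15_1 lc_d_rc_24_0 lc_d_Cert_tree lc_d_rc_15_1 lc_d_rc_27_4 lc_d_Cert_tree lc_d_rc_15_1 lc_d_rc_17_2 lc_d_rc_8_3 lc_d_rc_3_1 lc_d_rc_15_1 lc_d_rc_16_4 lc_d_Cert_tree lc_d_Cert_tree lc_d_rc_24_5 lc_d_Cert_tree lc_d_Cert_tree lc_d_rc_15_1 lc_d_rc_8_1 lc_d_rc_23_2 lc_d_Cert_tree lc_d_rc_16_4 lc_d_rc_8_3 lc_d_Cert_tree lc_d_Cert_tree lc_d_Cert_tree lc_d_rc_17_2 lc_d_rc_27_4 lc_d_rc_15_1 lc_d_rc_24_0 lc_d_rc_15_1 lc_d_rc_3_3 lc_d_Cert_tree lc_d_rc_15_1 lc_d_rc_17_2 lc_d_rc_15_1 lc_d_rc_27_4 lc_d_Cert_tree lc_d_rc_15_1 lc_d_Cert_tree lc_d_rc_8_1 lc_d_rc_27_10 lc_d_rc_15_1 lc_d_rc_15_1) (@D3.rec (fun _ => (Cert rels S Gen.d)) lc_d_rc_15_1 lc_d_rc_15_1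 lc_d_Cert_tree lc_d_rc_23_6 lc_d_rc_8_3 lc_d_Cert_tree lc_d_Cert_tree lc_d_Cert_tree lc_d_Cert_tree lc_d_rc_15_1 lc_d_rc_17_2 lc_d_Cert_tree lc_d_Cert_tree lc_d_rc_15_1 lc_d_rc_17_2 lc_d_rc_15_1 lc_d_Cert_tree lc_d_rc_15_1 lc_d_Cert_tree lc_d_rc_17_2 lc_d_Cert_tree lc_d_rc_15_1 lc_d_rc_16_4 lc_d_Cert_tree lc_d_rc_15_1 lc_d_Cert_tree lc_d_Cert_tree lc_d_Cert_tree lc_d_rc_17_2 lc_d_rc_8_1 lc_d_rc_8_3 lc_d_rc_3_3 lc_d_Cert_tree lc_d_rc_15_1 lc_d_rc_17_2 lc_d_rc_15_1 lc_d_rc_15_1 lc_d_rc_15_1 lc_d_rc_23_2 lc_d_rc_24_5 lc_d_rc_3_3 lc_d_Cert_tree lc_d_rc_15_1 lc_d_Cert_tree lc_d_rc_23_6 lc_d_rc_8_3 lc_d_Cert_tree lc_d_Cert_tree lc_d_rc_17_2 lc_d_rc_15_1 lc_d_rc_23_2 lc_d_Cert_tree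 lc_d_Cert_tree lc_d_rc_15_1 lc_d_rc_17_2 lc_d_rc_3_3 lc_d_rc_17_2 lc_d_Cert_tree lc_d_Cert_tree lc_d_rc_15_1 lc_d_Cert_tree lc_d_rc_16_4) (@D3.rec (fun _ => (Cert rels S Gen.d)) lc_d_Cert_tree lc_d_rc_15_1 lc_d_rc_24_0 lc_d_Cert_tree lc_d_rc_24_5 lc_d_Cert_tree lc_d_rc_15_1 lc_d_rc_25_18 lc_d_Cert_tree lc_d_rc_22_2 lc_d_rc_22_4 lc_d_Cert_tree lc_d_rc_15_1 lc_d_Cert_tree lc_d_Cert_tree lc_d_rc_15_1 lc_d_rc_15_1 lc_d_rc_15_1 lc_d_rc_23_8 lc_d_Cert_tree lc_d_rc_16_4 lc_d_rc_15_1 lc_d_rc_15_1 lc_d_rc_17_2 lc_d_rc_25_18 lc_d_rc_15_1 lc_d_rc_17_2 lc_d_rc_15_1 lc_d_Cert_tree lc_d_rc_17_2 lc_d_Cert_tree lc_d_rc_15_1 lc_d_Cert_tree lc_d_rc_15_1 lc_d_rc_17_2 lc_d_Cert_tree lc_d_rc_16_4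 lc_d_rc_8_3 lc_d_rc_15_1 lc_d_rc_24_5 lc_d_Cert_tree lc_d_rc_27_2 lc_d_rc_8_3 lc_d_rc_8_3 lc_d_Cert_tree lc_d_rc_16_4 lc_d_rc_24_5 lc_d_Cert_tree lc_d_Cert_tree lc_d_rc_24_5 lc_d_Cert_tree lc_d_Cert_tree lc_d_Cert_tree lc_d_Cert_tree lc_d_Cert_tree lc_d_rc_15_1 lc_d_Cert_tree lc_d_rc_17_2 lc_d_rc_27_10 lc_d_rc_24_0 lc_d_rc_17_2 lc_d_Cert_tree) (@D3.rec (fun _ => (Cert rels S Gen.d)) lc_d_Cert_tree lc_d_Cert_tree lc_d_rc_15_1 lc_d_rc_3_3 lc_d_Cert_tree lc_d_Cert_tree lc_d_Cert_tree lc_d_Cert_tree lc_d_rc_15_1 lc_d_rc_17_2 lc_d_rc_3_3 lc_d_Cert_tree lc_d_Cert_tree lc_d_Cert_tree lc_d_Cert_tree lc_d_rc_15_1 lc_d_rc_17_2 lc_d_rc_15_1 lc_d_rc_23_4 lc_d_rc_3_3 lc_d_Cert_tree lc_d_Cert_tree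 lc_d_Cert_tree lc_d_rc_15_1 lc_d_rc_17_2 lc_d_rc_27_10 lc_d_Cert_tree lc_d_rc_15_1 lc_d_rc_8_3 lc_d_Cert_tree lc_d_rc_16_4 lc_d_Cert_tree lc_d_Cert_tree lc_d_Cert_tree lc_d_rc_15_1 lc_d_rc_15_1 lc_d_rc_23_2 lc_d_rc_12_9 lc_d_rc_24_5 lc_d_Cert_tree lc_d_Cert_tree lc_d_rc_15_1 lc_d_rc_17_2 lc_d_Cert_tree lc_d_Cert_tree lc_d_rc_15_1 lc_d_rc_17_2 lc_d_Cert_tree lc_d_Cert_tree lc_d_rc_15_1 lc_d_Cert_tree lc_d_Cert_tree lc_d_Cert_tree lc_d_rc_15_1 lc_d_rc_27_4 lc_d_rc_24_0 lc_d_rc_8_1 lc_d_Cert_tree lc_d_rc_17_2 lc_d_rc_8_3 lc_d_rc_27_4 lc_d_rc_8_3) (@D3.rec (fun _ => (Cert rels S Gen.d)) lc_d_rc_15_1 lc_d_Cert_tree lc_d_rc_15_1 lc_d_rc_22_6 lc_d_rc_16_4 lc_d_rc_15_1 lc_d_rc_27_4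 lc_d_rc_24_0 lc_d_rc_16_2 lc_d_rc_16_0 lc_d_rc_8_3 lc_d_rc_8_3 lc_d_rc_15_1 lc_d_rc_8_3 lc_d_rc_17_2 lc_d_rc_27_4 lc_d_rc_8_3 lc_d_rc_8_3 lc_d_rc_15_1 lc_d_rc_23_6 lc_d_Cert_tree lc_d_rc_17_2 lc_d_rc_8_3 lc_d_rc_27_4 lc_d_rc_8_3 lc_d_rc_16_4 lc_d_rc_8_3 lc_d_rc_16_4 lc_d_rc_8_3 lc_d_rc_15_1 lc_d_rc_15_1 lc_d_rc_15_1 lc_d_rc_27_8 lc_d_rc_12_3 lc_d_rc_15_1 lc_d_rc_17_2 lc_d_rc_27_2 lc_d_rc_23_2 lc_d_rc_27_2 lc_d_rc_23_2 lc_d_Cert_tree lc_d_Cert_tree lc_d_Cert_tree lc_d_rc_15_1 lc_d_rc_17_2 lc_d_Cert_tree lc_d_Cert_tree lc_d_rc_15_1 lc_d_rc_17_2 lc_d_Cert_tree lc_d_Cert_tree lc_d_rc_15_1 lc_d_rc_17_2 lc_d_Cert_tree lc_d_Cert_tree lc_d_rc_15_1 lc_d_Cert_tree lc_d_Cert_tree lc_d_Cert_tree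 lc_d_rc_15_1 lc_d_rc_8_3 lc_d_rc_23_6) (@D3.rec (fun _ => (Cert rels S Gen.d)) lc_d_rc_23_4 lc_d_Cert_tree lc_d_rc_17_2 lc_d_rc_8_1 lc_d_Cert_tree lc_d_rc_15_1 lc_d_rc_16_4 lc_d_Cert_tree lc_d_rc_15_1 lc_d_rc_22_4 lc_d_rc_16_4 lc_d_rc_23_4 lc_d_rc_22_8 lc_d_rc_15_1 lc_d_rc_16_2 lc_d_rc_23_6 lc_d_rc_27_4 lc_d_rc_8_3 lc_d_rc_8_3 lc_d_Cert_tree lc_d_rc_15_1 lc_d_rc_15_1 lc_d_rc_27_8 lc_d_rc_22_8 lc_d_Cert_tree lc_d_rc_15_1 lc_d_rc_27_4 lc_d_rc_15_1 lc_d_rc_16_0 lc_d_rc_22_2 lc_d_Cert_tree lc_d_rc_16_4 lc_d_rc_16_0 lc_d_Cert_tree lc_d_Cert_tree lc_d_Cert_tree lc_d_rc_15_1 lc_d_rc_17_2 lc_d_rc_12_1 lc_d_rc_16_4 lc_d_rc_17_2 lc_d_Cert_tree lc_d_rc_15_1 lc_d_Cert_tree lc_d_Cert_tree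 lc_d_rc_17_2 lc_d_Cert_tree lc_d_Cert_tree lc_d_Cert_tree lc_d_Cert_tree lc_d_rc_15_1 lc_d_Cert_tree lc_d_rc_17_2 lc_d_Cert_tree lc_d_Cert_tree lc_d_rc_15_1 lc_d_Cert_tree lc_d_rc_15_1 lc_d_rc_24_0 lc_d_rc_15_1 lc_d_Cert_tree lc_d_rc_16_4) (@D3.rec (fun _ => (Cert rels S Gen.d)) lc_d_rc_17_2 lc_d_Cert_tree lc_d_Cert_tree lc_d_Cert_tree lc_d_rc_17_2 lc_d_Cert_tree lc_d_rc_15_1 lc_d_Cert_tree lc_d_rc_15_1 lc_d_Cert_tree lc_d_rc_15_1 lc_d_rc_16_2 lc_d_Cert_tree lc_d_rc_15_1 lc_d_Cert_tree lc_d_rc_15_1 lc_d_Cert_tree lc_d_Cert_tree lc_d_rc_15_1 lc_d_rc_17_2 lc_d_Cert_tree lc_d_Cert_tree lc_d_rc_15_1 lc_d_rc_27_2 lc_d_Cert_tree lc_d_Cert_tree lc_d_rc_15_1 lc_d_Cert_tree lc_d_rc_23_6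 lc_d_rc_15_1 lc_d_Cert_tree lc_d_rc_17_2 lc_d_rc_15_1 lc_d_rc_23_6 lc_d_rc_15_1 lc_d_Cert_tree lc_d_rc_16_4 lc_d_Cert_tree lc_d_Cert_tree lc_d_rc_15_1 lc_d_Cert_tree lc_d_Cert_tree lc_d_Cert_tree lc_d_rc_15_1 lc_d_rc_23_6 lc_d_Cert_tree lc_d_rc_27_4 lc_d_rc_8_3 lc_d_Cert_tree lc_d_rc_16_4 lc_d_Cert_tree lc_d_Cert_tree lc_d_Cert_tree lc_d_rc_15_1 lc_d_rc_22_4 lc_d_rc_16_4 lc_d_Cert_tree lc_d_rc_15_1 lc_d_rc_15_1 lc_d_rc_27_4 lc_d_Cert_tree lc_d_rc_15_1) (@D3.rec (fun _ => (Cert rels S Gen.d)) lc_d_rc_23_4 lc_d_rc_15_1 lc_d_rc_15_1 lc_d_rc_16_2 lc_d_rc_8_3 lc_d_Cert_tree lc_d_Cert_tree lc_d_Cert_tree lc_d_Cert_tree lc_d_Cert_tree lc_d_rc_15_1 lc_d_rc_15_1 lc_d_Cert_tree lc_d_rc_23_8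 lc_d_Cert_tree lc_d_rc_15_1 lc_d_Cert_tree lc_d_rc_15_1 lc_d_Cert_tree lc_d_Cert_tree lc_d_rc_15_1 lc_d_Cert_tree lc_d_rc_15_1 lc_d_rc_27_4 lc_d_Cert_tree lc_d_rc_15_1 lc_d_Cert_tree lc_d_Cert_tree lc_d_rc_15_1 lc_d_rc_27_4 lc_d_Cert_tree lc_d_rc_15_1 lc_d_Cert_tree lc_d_Cert_tree lc_d_Cert_tree lc_d_Cert_tree lc_d_rc_15_1 lc_d_rc_17_2 lc_d_rc_15_1 lc_d_rc_15_1 lc_d_rc_15_1 lc_d_rc_16_4 lc_d_rc_17_2 lc_d_rc_15_1 lc_d_rc_15_1 lc_d_rc_15_1 lc_d_rc_27_8 lc_d_rc_3_3 lc_d_Cert_tree lc_d_rc_15_1 lc_d_rc_27_4 lc_d_Cert_tree lc_d_rc_15_1 lc_d_Cert_tree lc_d_rc_17_0 lc_d_rc_23_6 lc_d_Cert_tree lc_d_rc_17_2 lc_d_Cert_tree lc_d_Cert_tree lc_d_Cert_tree lc_d_rc_15_1) (@D3.rec (fun _ =>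 (Cert rels S Gen.d)) lc_d_rc_15_1 lc_d_rc_16_0 lc_d_Cert_tree lc_d_rc_16_4 lc_d_rc_15_1 lc_d_Cert_tree lc_d_Cert_tree lc_d_Cert_tree lc_d_rc_15_1 lc_d_rc_16_2 lc_d_Cert_tree lc_d_rc_27_4 lc_d_rc_8_3 lc_d_Cert_tree lc_d_rc_16_4 lc_d_Cert_tree lc_d_Cert_tree lc_d_Cert_tree lc_d_rc_15_1 lc_d_rc_22_4 lc_d_rc_17_2 lc_d_rc_15_1 lc_d_rc_23_4 lc_d_rc_15_1 lc_d_rc_15_1 lc_d_rc_16_2 lc_d_rc_24_5 lc_d_rc_23_2 lc_d_rc_23_4 lc_d_rc_27_8 lc_d_Cert_tree lc_d_rc_15_1 lc_d_Cert_tree lc_d_rc_15_1 lc_d_Cert_tree lc_d_rc_27_4 lc_d_rc_27_2 lc_d_Cert_tree lc_d_rc_15_1 lc_d_rc_15_1 lc_d_Cert_tree lc_d_rc_23_8 lc_d_Cert_tree lc_d_rc_15_1 lc_d_Cert_tree lc_d_rc_15_1 lc_d_Cert_tree lc_d_Cert_tree lc_d_rc_15_1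 lc_d_rc_27_4 lc_d_Cert_tree lc_d_rc_8_1 lc_d_Cert_tree lc_d_rc_15_1 lc_d_Cert_tree lc_d_Cert_tree lc_d_rc_15_1 lc_d_rc_27_4 lc_d_Cert_tree lc_d_rc_15_1 lc_d_Cert_tree lc_d_Cert_tree) (@D3.rec (fun _ => (Cert rels S Gen.d)) lc_d_rc_15_1 lc_d_rc_15_1 lc_d_rc_15_1 lc_d_rc_15_1 lc_d_rc_16_4 lc_d_rc_17_2 lc_d_Cert_tree lc_d_rc_15_1 lc_d_Cert_tree lc_d_Cert_tree lc_d_rc_15_1 lc_d_Cert_tree lc_d_Cert_tree lc_d_rc_15_1 lc_d_rc_17_2 lc_d_Cert_tree lc_d_Cert_tree lc_d_rc_15_1 lc_d_rc_27_2 lc_d_Cert_tree lc_d_Cert_tree lc_d_rc_15_1 lc_d_Cert_tree lc_d_rc_8_1 lc_d_rc_15_1 lc_d_Cert_tree lc_d_rc_17_2 lc_d_rc_8_3 lc_d_rc_27_4 lc_d_rc_8_3 lc_d_rc_16_4 lc_d_Cert_tree lc_d_rc_15_1 lc_d_rc_15_1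 lc_d_rc_16_4 lc_d_Cert_tree lc_d_rc_15_1 lc_d_Cert_tree lc_d_Cert_tree lc_d_Cert_tree lc_d_rc_15_1 lc_d_rc_17_2 lc_d_Cert_tree lc_d_Cert_tree lc_d_Cert_tree lc_d_Cert_tree lc_d_rc_15_1 lc_d_rc_17_2 lc_d_rc_15_1 lc_d_rc_27_2 lc_d_Cert_tree lc_d_rc_15_1 lc_d_Cert_tree lc_d_rc_22_8 lc_d_rc_15_1 lc_d_Cert_tree lc_d_rc_17_2 lc_d_rc_8_3 lc_d_rc_16_4 lc_d_rc_8_3 lc_d_rc_16_4 lc_d_Cert_tree) (@D3.rec (fun _ => (Cert rels S Gen.d)) lc_d_rc_15_1 lc_d_rc_15_1 lc_d_rc_16_4 lc_d_Cert_tree lc_d_Cert_tree lc_d_rc_15_1 lc_d_rc_17_2 lc_d_Cert_tree lc_d_rc_15_1 lc_d_rc_17_2 lc_d_rc_15_1 lc_d_rc_27_2 lc_d_Cert_tree lc_d_Cert_tree lc_d_rc_17_2 lc_d_rc_15_1 lc_d_rc_17_2 lc_d_rc_15_1 lc_d_Cert_tree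 lc_d_rc_8_3 lc_d_Cert_tree lc_d_rc_17_2 lc_d_Cert_tree lc_d_rc_15_1 lc_d_rc_17_2 lc_d_Cert_tree lc_d_rc_15_1 lc_d_rc_27_4 lc_d_Cert_tree lc_d_rc_15_1 lc_d_rc_27_8 lc_d_Cert_tree lc_d_rc_15_1 lc_d_Cert_tree lc_d_rc_17_2 lc_d_rc_15_1 lc_d_rc_15_1 lc_d_Cert_tree lc_d_Cert_tree lc_d_rc_15_1 lc_d_rc_17_2 lc_d_Cert_tree lc_d_rc_15_1 lc_d_rc_27_4 lc_d_rc_15_1 lc_d_rc_8_1 lc_d_rc_15_1 lc_d_rc_15_1 lc_d_Cert_tree lc_d_rc_17_2 lc_d_Cert_tree lc_d_rc_15_1 lc_d_Cert_tree lc_d_Cert_tree lc_d_Cert_tree lc_d_rc_15_1 lc_d_Cert_tree lc_d_rc_24_5 lc_d_rc_8_3 lc_d_Cert_tree lc_d_Cert_tree lc_d_Cert_tree) (@D3.rec (fun _ => (Cert rels S Gen.d)) lc_d_rc_15_1 lc_d_rc_24_5 lc_d_Cert_tree lc_d_Cert_tree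 lc_d_rc_15_1 lc_d_Cert_tree lc_d_rc_15_1 lc_d_Cert_tree lc_d_Cert_tree lc_d_Cert_tree lc_d_rc_15_1 lc_d_rc_24_0 lc_d_Cert_tree lc_d_Cert_tree lc_d_rc_15_1 lc_d_Cert_tree lc_d_rc_8_1 lc_d_Cert_tree lc_d_rc_15_1 lc_d_Cert_tree lc_d_Cert_tree lc_d_Cert_tree lc_d_Cert_tree lc_d_rc_15_1 lc_d_rc_17_2 lc_d_rc_16_4 lc_d_rc_15_1 lc_d_rc_15_1 lc_d_rc_24_0 lc_d_Cert_tree lc_d_rc_16_2 lc_d_rc_15_1 lc_d_rc_8_3 lc_d_Cert_tree lc_d_rc_16_2 lc_d_rc_22_8 lc_d_Cert_tree lc_d_rc_16_2 lc_d_rc_8_3 lc_d_Cert_tree lc_d_rc_16_4 lc_d_Cert_tree lc_d_Cert_tree lc_d_Cert_tree lc_d_rc_15_1 lc_d_rc_22_4 lc_d_rc_16_4 lc_d_Cert_tree lc_d_rc_15_1 lc_d_rc_15_1 lc_d_rc_17_2 lc_d_rc_23_4 lc_d_rc_22_8 lc_d_Cert_tree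 lc_d_rc_16_2 lc_d_Cert_tree lc_d_Cert_tree lc_d_rc_3_1 lc_d_rc_8_3 lc_d_Cert_tree lc_d_rc_16_4 lc_d_Cert_tree) (@D3.rec (fun _ => (Cert rels S Gen.d)) lc_d_rc_16_2 lc_d_Cert_tree lc_d_Cert_tree lc_d_Cert_tree lc_d_rc_15_1 lc_d_rc_16_4 lc_d_rc_27_10 lc_d_rc_15_1 lc_d_rc_17_2 lc_d_rc_15_1 lc_d_rc_15_1 lc_d_Cert_tree lc_d_rc_15_1 lc_d_rc_27_8 lc_d_Cert_tree lc_d_rc_15_1 lc_d_Cert_tree lc_d_Cert_tree lc_d_rc_15_1 lc_d_Cert_tree lc_d_Cert_tree lc_d_rc_27_10 lc_d_rc_23_8 lc_d_rc_15_1 lc_d_rc_27_8 lc_d_Cert_tree lc_d_rc_15_1 lc_d_Cert_tree lc_d_rc_27_10 lc_d_rc_15_1 lc_d_rc_15_1 lc_d_rc_17_2 lc_d_rc_22_4 lc_d_Cert_tree lc_d_Cert_tree lc_d_rc_15_1 lc_d_Cert_tree lc_d_rc_3_3 lc_d_Cert_tree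 lc_d_rc_15_1 lc_d_Cert_tree lc_d_Cert_tree lc_d_Cert_tree lc_d_rc_15_1 lc_d_rc_15_1 lc_d_rc_23_4 lc_d_Cert_tree lc_d_rc_16_4 lc_d_Cert_tree lc_d_rc_15_1 lc_d_rc_16_2 lc_d_rc_27_10 lc_d_rc_27_10 lc_d_rc_17_2 lc_d_Cert_tree lc_d_rc_15_1 lc_d_Cert_tree lc_d_Cert_tree lc_d_rc_15_1 lc_d_rc_27_8 lc_d_Cert_tree lc_d_Cert_tree) (@D3.rec (fun _ => (Cert rels S Gen.d)) lc_d_Cert_tree lc_d_rc_15_1 lc_d_rc_8_3 lc_d_rc_23_6 lc_d_rc_12_9 lc_d_rc_16_4 lc_d_Cert_tree lc_d_Cert_tree lc_d_Cert_tree lc_d_Cert_tree lc_d_Cert_tree lc_d_rc_15_1 lc_d_rc_15_1 lc_d_rc_22_2 lc_d_rc_15_1 lc_d_rc_8_1 lc_d_Cert_tree lc_d_Cert_tree lc_d_Cert_tree lc_d_Cert_tree lc_d_rc_15_1 lc_d_rc_16_0 lc_d_rc_15_1 lc_d_rc_23_8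 lc_d_rc_16_4 lc_d_rc_8_3 lc_d_rc_15_1 lc_d_rc_15_1 lc_d_rc_8_3 lc_d_rc_16_4 lc_d_rc_27_10 lc_d_rc_15_1 lc_d_rc_15_1 lc_d_rc_17_2 lc_d_Cert_tree lc_d_rc_15_1 lc_d_Cert_tree lc_d_Cert_tree lc_d_rc_15_1 lc_d_Cert_tree lc_d_rc_15_1 lc_d_Cert_tree lc_d_rc_15_1 lc_d_Cert_tree lc_d_rc_15_1 lc_d_Cert_tree lc_d_Cert_tree lc_d_Cert_tree lc_d_rc_15_1 lc_d_Cert_tree lc_d_rc_16_2 lc_d_rc_23_8 lc_d_rc_15_1 lc_d_rc_15_1 lc_d_rc_17_2 lc_d_rc_15_1 lc_d_rc_16_4 lc_d_rc_27_2 lc_d_rc_16_4 lc_d_Cert_tree lc_d_rc_15_1 lc_d_rc_22_4) (@D3.rec (fun _ => (Cert rels S Gen.d)) lc_d_rc_16_4 lc_d_rc_22_8 lc_d_rc_23_2 lc_d_Cert_tree lc_d_rc_15_1 lc_d_rc_23_4 lc_d_rc_15_1 lc_d_rc_15_1 lc_d_Cert_tree lc_d_rc_23_8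 lc_d_rc_15_1 lc_d_rc_15_1 lc_d_rc_22_2 lc_d_rc_8_3 lc_d_Cert_tree lc_d_rc_27_10 lc_d_rc_15_1 lc_d_rc_15_1 lc_d_rc_17_2 lc_d_rc_23_2 lc_d_Cert_tree lc_d_Cert_tree lc_d_rc_15_1 lc_d_Cert_tree lc_d_rc_15_1 lc_d_rc_8_3 lc_d_rc_3_3 lc_d_Cert_tree lc_d_rc_15_1 lc_d_rc_23_8 lc_d_rc_15_1 lc_d_Cert_tree lc_d_rc_23_2 lc_d_rc_27_2 lc_d_rc_15_1 lc_d_rc_17_2 lc_d_rc_8_3 lc_d_rc_8_1 lc_d_Cert_tree lc_d_Cert_tree lc_d_rc_27_2 lc_d_rc_15_1 lc_d_Cert_tree lc_d_Cert_tree lc_d_rc_3_1 lc_d_rc_15_1 lc_d_rc_8_1 lc_d_rc_15_1 lc_d_Cert_tree lc_d_Cert_tree lc_d_Cert_tree lc_d_Cert_tree lc_d_rc_15_1 lc_d_Cert_tree lc_d_rc_24_5 lc_d_rc_23_4 lc_d_Cert_tree lc_d_rc_15_1 lc_d_rc_17_2 lc_d_Cert_tree lc_d_Cert_tree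 lc_d_Cert_tree) (@D3.rec (fun _ => (Cert rels S Gen.d)) lc_d_Cert_tree lc_d_rc_15_1 lc_d_Cert_tree lc_d_Cert_tree lc_d_rc_15_1 lc_d_rc_17_2 lc_d_Cert_tree lc_d_Cert_tree lc_d_Cert_tree lc_d_Cert_tree lc_d_rc_15_1 lc_d_rc_17_2 lc_d_Cert_tree lc_d_Cert_tree lc_d_rc_15_1 lc_d_Cert_tree lc_d_rc_15_1 lc_d_rc_15_1 lc_d_rc_15_1 lc_d_Cert_tree lc_d_rc_16_4 lc_d_rc_17_2 lc_d_Cert_tree lc_d_rc_15_1 lc_d_Cert_tree lc_d_rc_8_3 lc_d_Cert_tree lc_d_rc_8_3 lc_d_Cert_tree lc_d_Cert_tree lc_d_Cert_tree lc_d_rc_17_2 lc_d_Cert_tree lc_d_rc_15_1 lc_d_Cert_tree lc_d_rc_15_1 lc_d_Cert_tree lc_d_rc_8_1 lc_d_rc_15_1 lc_d_rc_17_2 lc_d_rc_24_0 lc_d_rc_23_6 lc_d_rc_3_3 lc_d_Cert_tree lc_d_Cert_tree lc_d_Cert_tree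 lc_d_rc_15_1 lc_d_rc_17_2 lc_d_rc_8_3 lc_d_rc_8_3 lc_d_Cert_tree lc_d_rc_15_1 lc_d_Cert_tree lc_d_Cert_tree lc_d_rc_15_1 lc_d_rc_25_2 lc_d_rc_8_3 lc_d_Cert_tree lc_d_Cert_tree lc_d_rc_15_1 lc_d_rc_16_4 lc_d_Cert_tree) (@D3.rec (fun _ => (Cert rels S Gen.d)) lc_d_Cert_tree lc_d_rc_15_1 lc_d_Cert_tree lc_d_Cert_tree lc_d_rc_15_1 lc_d_Cert_tree lc_d_rc_15_1 lc_d_Cert_tree lc_d_rc_27_10 lc_d_rc_22_2 lc_d_Cert_tree lc_d_Cert_tree lc_d_Cert_tree lc_d_rc_15_1 lc_d_Cert_tree lc_d_Cert_tree lc_d_rc_15_1 lc_d_rc_17_2 lc_d_Cert_tree lc_d_rc_15_1 lc_d_Cert_tree lc_d_rc_15_1 lc_d_Cert_tree lc_d_rc_23_4 lc_d_rc_15_1 lc_d_rc_22_4 lc_d_rc_17_2 lc_d_Cert_tree lc_d_rc_15_1 lc_d_Cert_tree lc_d_rc_15_1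 lc_d_rc_27_2 lc_d_Cert_tree lc_d_rc_15_1 lc_d_Cert_tree lc_d_rc_27_4 lc_d_rc_8_3 lc_d_rc_8_3 lc_d_Cert_tree lc_d_rc_15_1 lc_d_Cert_tree lc_d_rc_15_1 lc_d_rc_8_3 lc_d_rc_8_3 lc_d_rc_22_6 lc_d_rc_16_4 lc_d_Cert_tree lc_d_Cert_tree lc_d_rc_17_2 lc_d_Cert_tree lc_d_rc_15_1 lc_d_Cert_tree lc_d_rc_15_1 lc_d_rc_8_3 lc_d_Cert_tree lc_d_Cert_tree lc_d_rc_8_3 lc_d_Cert_tree lc_d_rc_15_1 lc_d_rc_15_1 lc_d_rc_23_8 lc_d_Cert_tree) (@D3.rec (fun _ => (Cert rels S Gen.d)) lc_d_rc_16_4 lc_d_rc_15_1 lc_d_rc_16_4 lc_d_rc_8_3 lc_d_Cert_tree lc_d_Cert_tree lc_d_Cert_tree lc_d_rc_17_2 lc_d_rc_15_1 lc_d_Cert_tree lc_d_rc_15_1 lc_d_rc_15_1 lc_d_rc_15_1 lc_d_rc_24_5 lc_d_rc_24_5 lc_d_rc_15_1 lc_d_rc_23_6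 lc_d_rc_23_6 lc_d_Cert_tree lc_d_Cert_tree lc_d_rc_15_1 lc_d_rc_16_4 lc_d_rc_24_5 lc_d_rc_15_1 lc_d_rc_17_2 lc_d_Cert_tree lc_d_rc_15_1 lc_d_Cert_tree lc_d_rc_15_1 lc_d_rc_23_4 lc_d_rc_15_1 lc_d_rc_17_2 lc_d_Cert_tree lc_d_rc_15_1 lc_d_Cert_tree lc_d_Cert_tree lc_d_rc_15_1 lc_d_Cert_tree lc_d_Cert_tree lc_d_rc_15_1 lc_d_Cert_tree lc_d_Cert_tree lc_d_Cert_tree lc_d_rc_15_1 lc_d_Cert_tree lc_d_rc_15_1 lc_d_Cert_tree lc_d_Cert_tree lc_d_Cert_tree lc_d_rc_15_1 lc_d_Cert_tree lc_d_rc_8_3 lc_d_rc_8_3 lc_d_Cert_tree lc_d_Cert_tree lc_d_Cert_tree lc_d_rc_15_1 lc_d_rc_17_2 lc_d_Cert_tree lc_d_Cert_tree lc_d_rc_15_1 lc_d_rc_22_8) (@D3.rec (fun _ => (Cert rels S Gen.d)) lc_d_rc_17_2 lc_d_Cert_tree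 lc_d_rc_15_1 lc_d_Cert_tree lc_d_Cert_tree lc_d_rc_15_1 lc_d_Cert_tree lc_d_Cert_tree lc_d_rc_15_1 lc_d_Cert_tree lc_d_Cert_tree lc_d_Cert_tree lc_d_rc_15_1 lc_d_Cert_tree lc_d_rc_24_0 lc_d_rc_23_8 lc_d_Cert_tree lc_d_Cert_tree lc_d_Cert_tree lc_d_rc_15_1 lc_d_rc_17_2 lc_d_rc_22_2 lc_d_Cert_tree lc_d_rc_15_1 lc_d_rc_17_2 lc_d_rc_15_1 lc_d_rc_17_2 lc_d_Cert_tree lc_d_Cert_tree lc_d_rc_15_1 lc_d_Cert_tree lc_d_Cert_tree lc_d_rc_15_1 lc_d_Cert_tree lc_d_Cert_tree lc_d_Cert_tree lc_d_Cert_tree lc_d_rc_15_1 lc_d_Cert_tree lc_d_rc_17_2 lc_d_rc_22_2 lc_d_Cert_tree lc_d_Cert_tree lc_d_rc_17_2 lc_d_Cert_tree lc_d_rc_15_1 lc_d_rc_17_2 lc_d_Cert_tree lc_d_Cert_tree lc_d_Cert_tree lc_d_rc_15_1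 lc_d_Cert_tree lc_d_rc_15_1 lc_d_Cert_tree lc_d_Cert_tree lc_d_Cert_tree lc_d_Cert_tree lc_d_rc_15_1 lc_d_rc_17_2 lc_d_Cert_tree lc_d_rc_16_4 lc_d_rc_8_3) (@D3.rec (fun _ => (Cert rels S Gen.d)) lc_d_Cert_tree lc_d_Cert_tree lc_d_rc_8_3 lc_d_Cert_tree lc_d_Cert_tree lc_d_Cert_tree lc_d_Cert_tree lc_d_rc_15_1 lc_d_Cert_tree lc_d_Cert_tree lc_d_Cert_tree lc_d_rc_17_2 lc_d_Cert_tree lc_d_Cert_tree lc_d_rc_15_1 lc_d_rc_15_1 lc_d_Cert_tree lc_d_Cert_tree lc_d_Cert_tree lc_d_Cert_tree lc_d_rc_15_1 lc_d_rc_17_2 lc_d_rc_15_1 lc_d_Cert_tree lc_d_rc_16_2 lc_d_Cert_tree lc_d_Cert_tree lc_d_rc_15_1 lc_d_rc_17_2 lc_d_Cert_tree lc_d_Cert_tree lc_d_rc_15_1 lc_d_Cert_tree lc_d_Cert_tree lc_d_Cert_tree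 lc_d_rc_15_1 lc_d_Cert_tree lc_d_Cert_tree lc_d_rc_15_1 lc_d_rc_15_1 lc_d_rc_15_1 lc_d_rc_23_4 lc_d_Cert_tree lc_d_Cert_tree lc_d_rc_15_1 lc_d_rc_15_1 lc_d_Cert_tree lc_d_Cert_tree lc_d_rc_24_0 lc_d_rc_23_2 lc_d_rc_17_0 lc_d_Cert_tree lc_d_rc_15_1 lc_d_rc_15_1 lc_d_Cert_tree lc_d_Cert_tree lc_d_rc_15_1 lc_d_rc_17_2 lc_d_Cert_tree lc_d_Cert_tree lc_d_rc_15_1 lc_d_rc_27_8) (@D3.rec (fun _ => (Cert rels S Gen.d)) lc_d_Cert_tree lc_d_Cert_tree lc_d_rc_15_1 lc_d_rc_8_3 lc_d_rc_24_5 lc_d_rc_15_1 lc_d_Cert_tree lc_d_rc_17_2 lc_d_rc_15_1 lc_d_rc_15_1 lc_d_Cert_tree lc_d_rc_16_2 lc_d_Cert_tree lc_d_rc_15_1 lc_d_rc_8_3 lc_d_Cert_tree lc_d_rc_16_2 lc_d_rc_3_3 lc_d_Cert_tree lc_d_rc_27_4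 lc_d_rc_8_3 lc_d_Cert_tree lc_d_rc_16_4 lc_d_Cert_tree lc_d_Cert_tree lc_d_Cert_tree lc_d_rc_15_1 lc_d_rc_22_6 lc_d_rc_16_4 lc_d_rc_15_1 lc_d_rc_8_3 lc_d_rc_15_1 lc_d_rc_16_2 lc_d_rc_15_1 lc_d_rc_15_1 lc_d_rc_15_1 lc_d_rc_8_3 lc_d_rc_15_1 lc_d_rc_16_2 lc_d_rc_15_1 lc_d_Cert_tree lc_d_rc_15_1 lc_d_rc_16_4 lc_d_rc_15_1 lc_d_Cert_tree lc_d_Cert_tree lc_d_rc_15_1 lc_d_Cert_tree lc_d_rc_15_1 lc_d_Cert_tree lc_d_Cert_tree lc_d_Cert_tree lc_d_Cert_tree lc_d_rc_15_1 lc_d_rc_17_2 lc_d_rc_23_6 lc_d_rc_23_4 lc_d_rc_12_3 lc_d_rc_16_4 lc_d_rc_17_2 lc_d_rc_17_2 lc_d_rc_3_3) (@D3.rec (fun _ => (Cert rels S Gen.d)) lc_d_rc_24_0 lc_d_rc_15_1 lc_d_rc_3_3 lc_d_Cert_tree lc_d_rc_22_2 lc_d_rc_8_3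 lc_d_rc_15_1 lc_d_Cert_tree lc_d_Cert_tree lc_d_rc_16_4 lc_d_Cert_tree lc_d_Cert_tree lc_d_Cert_tree lc_d_rc_17_2 lc_d_Cert_tree lc_d_Cert_tree lc_d_rc_15_1 lc_d_Cert_tree lc_d_rc_15_1 lc_d_Cert_tree lc_d_Cert_tree lc_d_rc_17_2 lc_d_rc_15_1 lc_d_rc_15_1 lc_d_Cert_tree lc_d_rc_8_3 lc_d_Cert_tree lc_d_Cert_tree lc_d_Cert_tree lc_d_rc_15_1 lc_d_rc_8_3 lc_d_rc_23_4 lc_d_Cert_tree lc_d_rc_8_3 lc_d_Cert_tree lc_d_Cert_tree lc_d_Cert_tree lc_d_rc_15_1 lc_d_rc_15_1 lc_d_rc_15_1 lc_d_Cert_tree lc_d_rc_24_0 lc_d_Cert_tree lc_d_rc_17_2 lc_d_rc_3_3 lc_d_Cert_tree lc_d_rc_8_3 lc_d_Cert_tree lc_d_Cert_tree lc_d_rc_15_1 lc_d_rc_17_2 lc_d_rc_3_3 lc_d_rc_3_3 lc_d_Cert_tree lc_d_rc_27_2 lc_d_rc_15_1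 lc_d_Cert_tree lc_d_rc_16_4 lc_d_rc_8_3 lc_d_Cert_tree lc_d_rc_8_3 lc_d_Cert_tree) (@D3.rec (fun _ => (Cert rels S Gen.d)) lc_d_rc_16_2 lc_d_Cert_tree lc_d_Cert_tree lc_d_Cert_tree lc_d_rc_15_1 lc_d_Cert_tree lc_d_rc_17_2 lc_d_rc_24_5 lc_d_Cert_tree lc_d_rc_17_2 lc_d_Cert_tree lc_d_Cert_tree lc_d_rc_15_1 lc_d_rc_8_1 lc_d_Cert_tree lc_d_Cert_tree lc_d_Cert_tree lc_d_rc_15_1 lc_d_rc_17_2 lc_d_Cert_tree lc_d_Cert_tree lc_d_rc_15_1 lc_d_rc_27_2 lc_d_rc_3_3 lc_d_Cert_tree lc_d_rc_15_1 lc_d_Cert_tree lc_d_Cert_tree lc_d_Cert_tree lc_d_Cert_tree lc_d_rc_15_1 lc_d_rc_22_2 lc_d_rc_22_8 lc_d_Cert_tree lc_d_rc_15_1 lc_d_rc_17_2 lc_d_rc_8_1 lc_d_rc_8_3 lc_d_rc_3_3 lc_d_Cert_tree lc_d_rc_15_1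 lc_d_rc_17_2 lc_d_rc_15_1 lc_d_Cert_tree lc_d_rc_15_1 lc_d_rc_27_8 lc_d_Cert_tree lc_d_rc_15_1 lc_d_Cert_tree lc_d_Cert_tree lc_d_rc_17_2 lc_d_Cert_tree lc_d_rc_15_1 lc_d_rc_24_5 lc_d_rc_3_3 lc_d_rc_8_3 lc_d_rc_3_1 lc_d_Cert_tree lc_d_rc_15_1 lc_d_Cert_tree lc_d_Cert_tree lc_d_rc_15_1) (@D3.rec (fun _ => (Cert rels S Gen.d)) lc_d_rc_17_2 lc_d_Cert_tree lc_d_rc_15_1 lc_d_Cert_tree lc_d_rc_15_1 lc_d_Cert_tree lc_d_Cert_tree lc_d_Cert_tree lc_d_Cert_tree lc_d_rc_15_1 lc_d_Cert_tree lc_d_Cert_tree lc_d_Cert_tree lc_d_Cert_tree lc_d_rc_15_1 lc_d_rc_17_2 lc_d_Cert_tree lc_d_rc_27_2 lc_d_Cert_tree lc_d_rc_15_1 lc_d_Cert_tree lc_d_Cert_tree lc_d_rc_15_1 lc_d_rc_17_2 lc_d_rc_8_3 lc_d_rc_8_3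 lc_d_rc_3_3 lc_d_Cert_tree lc_d_rc_15_1 lc_d_rc_17_2 lc_d_rc_15_1 lc_d_Cert_tree lc_d_Cert_tree lc_d_rc_15_1 lc_d_Cert_tree lc_d_Cert_tree lc_d_Cert_tree lc_d_rc_15_1 lc_d_Cert_tree lc_d_Cert_tree lc_d_Cert_tree lc_d_Cert_tree lc_d_rc_15_1 lc_d_rc_17_2 lc_d_rc_23_6 lc_d_rc_15_1 lc_d_Cert_tree lc_d_rc_17_2 lc_d_rc_3_1 lc_d_rc_15_1 lc_d_rc_23_2 lc_d_Cert_tree lc_d_rc_15_1 lc_d_rc_16_4 lc_d_rc_27_8 lc_d_Cert_tree lc_d_rc_15_1 lc_d_rc_27_4 lc_d_rc_15_1 lc_d_Cert_tree lc_d_rc_24_5 lc_d_Cert_tree) (@D3.rec (fun _ => (Cert rels S Gen.d)) lc_d_Cert_tree lc_d_rc_15_1 lc_d_Cert_tree lc_d_Cert_tree lc_d_Cert_tree lc_d_Cert_tree lc_d_rc_15_1 lc_d_Cert_tree lc_d_Cert_tree lc_d_rc_15_1 lc_d_rc_17_2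 lc_d_rc_22_6 lc_d_Cert_tree lc_d_rc_15_1 lc_d_Cert_tree lc_d_rc_23_8 lc_d_rc_15_1 lc_d_Cert_tree lc_d_rc_15_1 lc_d_Cert_tree lc_d_rc_15_1 lc_d_Cert_tree lc_d_Cert_tree lc_d_Cert_tree lc_d_Cert_tree lc_d_rc_15_1 lc_d_Cert_tree lc_d_Cert_tree lc_d_rc_15_1 lc_d_rc_17_2 lc_d_rc_22_6 lc_d_Cert_tree lc_d_rc_8_3 lc_d_Cert_tree lc_d_rc_15_1 lc_d_Cert_tree lc_d_rc_16_4 lc_d_Cert_tree lc_d_rc_15_1 lc_d_rc_17_2 lc_d_rc_17_2 lc_d_rc_15_1 lc_d_Cert_tree lc_d_rc_24_5 lc_d_Cert_tree lc_d_rc_8_3 lc_d_Cert_tree lc_d_rc_22_2 lc_d_rc_15_1 lc_d_rc_8_3 lc_d_rc_15_1 lc_d_Cert_tree lc_d_rc_16_4 lc_d_Cert_tree lc_d_Cert_tree lc_d_rc_27_10 lc_d_rc_8_3 lc_d_rc_15_1 lc_d_rc_23_4 lc_d_rc_15_1 lc_d_rc_8_3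 lc_d_Cert_tree) (@D3.rec (fun _ => (Cert rels S Gen.d)) lc_d_rc_8_3 lc_d_Cert_tree lc_d_rc_15_1 lc_d_Cert_tree lc_d_Cert_tree lc_d_rc_15_1 lc_d_Cert_tree lc_d_Cert_tree lc_d_Cert_tree lc_d_rc_15_1 lc_d_rc_16_4 lc_d_Cert_tree lc_d_rc_16_0 lc_d_rc_15_1 lc_d_Cert_tree lc_d_Cert_tree lc_d_rc_15_1 lc_d_rc_8_3 lc_d_rc_24_5 lc_d_rc_17_2 lc_d_rc_8_3 lc_d_Cert_tree lc_d_Cert_tree lc_d_rc_15_1 lc_d_rc_17_2 lc_d_Cert_tree lc_d_Cert_tree lc_d_rc_15_1 lc_d_rc_27_4 lc_d_Cert_tree lc_d_Cert_tree lc_d_rc_15_1 lc_d_Cert_tree lc_d_Cert_tree lc_d_rc_8_3 lc_d_Cert_tree lc_d_rc_17_2 lc_d_rc_3_3 lc_d_Cert_tree lc_d_rc_15_1 lc_d_rc_23_4 lc_d_rc_16_2 lc_d_Cert_tree lc_d_Cert_tree lc_d_rc_15_1 lc_d_rc_12_11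 lc_d_rc_16_4 lc_d_rc_8_3 lc_d_rc_22_6 lc_d_rc_16_4 lc_d_Cert_tree lc_d_rc_15_1 lc_d_rc_22_4 lc_d_rc_27_4 lc_d_rc_15_1 lc_d_rc_27_2 lc_d_Cert_tree lc_d_rc_15_1 lc_d_rc_12_5 lc_d_rc_16_4 lc_d_rc_24_0 lc_d_Cert_tree) (@D3.rec (fun _ => (Cert rels S Gen.d)) lc_d_rc_15_1 lc_d_rc_23_2 lc_d_rc_16_4 lc_d_rc_15_1 lc_d_Cert_tree lc_d_Cert_tree lc_d_Cert_tree lc_d_rc_15_1 lc_d_Cert_tree lc_d_Cert_tree lc_d_Cert_tree lc_d_rc_15_1 lc_d_rc_17_2 lc_d_Cert_tree lc_d_rc_15_1 lc_d_Cert_tree lc_d_rc_15_1 lc_d_rc_8_1 lc_d_Cert_tree lc_d_rc_15_1 lc_d_Cert_tree lc_d_rc_15_1 lc_d_rc_15_1 lc_d_rc_15_1 lc_d_rc_17_2 lc_d_rc_8_3 lc_d_rc_15_1 lc_d_rc_15_1 lc_d_Cert_tree lc_d_rc_15_1 lc_d_rc_8_3 lc_d_rc_8_1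 lc_d_rc_15_1 lc_d_Cert_tree lc_d_rc_15_1 lc_d_rc_15_1 lc_d_rc_16_4 lc_d_Cert_tree lc_d_rc_15_1 lc_d_Cert_tree lc_d_rc_3_3 lc_d_rc_15_1 lc_d_rc_15_1 lc_d_rc_27_4 lc_d_rc_27_10 lc_d_rc_15_1 lc_d_rc_24_5 lc_d_rc_23_8 lc_d_rc_23_8 lc_d_rc_23_2 lc_d_rc_15_1 lc_d_rc_15_1 lc_d_Cert_tree lc_d_Cert_tree lc_d_rc_15_1 lc_d_Cert_tree lc_d_Cert_tree lc_d_rc_15_1 lc_d_rc_8_3 lc_d_rc_16_4 lc_d_rc_17_2 lc_d_Cert_tree) (@D3.rec (fun _ => (Cert rels S Gen.d)) lc_d_Cert_tree lc_d_rc_15_1 lc_d_Cert_tree lc_d_Cert_tree lc_d_rc_15_1 lc_d_Cert_tree lc_d_Cert_tree lc_d_rc_15_1 lc_d_Cert_tree lc_d_rc_17_2 lc_d_rc_3_1 lc_d_Cert_tree lc_d_rc_15_1 lc_d_rc_22_4 lc_d_rc_16_4 lc_d_rc_27_10 lc_d_Cert_tree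 lc_d_rc_15_1 lc_d_rc_22_6 lc_d_rc_8_3 lc_d_rc_15_1 lc_d_rc_16_0 lc_d_rc_15_1 lc_d_rc_27_4 lc_d_rc_15_1 lc_d_Cert_tree lc_d_Cert_tree lc_d_rc_15_1 lc_d_Cert_tree lc_d_rc_15_1 lc_d_rc_3_3 lc_d_rc_15_1 lc_d_rc_22_8 lc_d_rc_16_4 lc_d_rc_23_6 lc_d_Cert_tree lc_d_rc_3_1 lc_d_rc_24_5 lc_d_Cert_tree lc_d_Cert_tree lc_d_Cert_tree lc_d_Cert_tree lc_d_rc_15_1 lc_d_rc_16_4 lc_d_Cert_tree lc_d_rc_3_3 lc_d_Cert_tree lc_d_rc_16_4 lc_d_rc_27_2 lc_d_Cert_tree lc_d_rc_17_2 lc_d_rc_3_3 lc_d_Cert_tree lc_d_rc_16_4 lc_d_Cert_tree lc_d_Cert_tree lc_d_rc_17_2 lc_d_Cert_tree lc_d_rc_22_2 lc_d_rc_15_1 lc_d_rc_27_4 lc_d_Cert_tree) (@D3.rec (fun _ => (Cert rels S Gen.d)) lc_d_Cert_tree lc_d_rc_15_1 lc_d_Cert_tree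 lc_d_rc_3_3 lc_d_rc_15_1 lc_d_rc_15_1 lc_d_rc_8_3 lc_d_Cert_tree lc_d_rc_8_3 lc_d_rc_24_0 lc_d_Cert_tree lc_d_rc_16_4 lc_d_rc_8_3 lc_d_rc_8_3 lc_d_rc_16_4 lc_d_rc_27_2 lc_d_rc_8_3 lc_d_rc_15_1 lc_d_rc_15_1 lc_d_rc_15_1 lc_d_Cert_tree lc_d_Cert_tree lc_d_Cert_tree lc_d_Cert_tree lc_d_rc_15_1 lc_d_rc_15_1 lc_d_Cert_tree lc_d_rc_16_4 lc_d_rc_22_4 lc_d_rc_16_4 lc_d_rc_8_3 lc_d_Cert_tree lc_d_rc_15_1 lc_d_rc_24_5 lc_d_Cert_tree lc_d_Cert_tree lc_d_Cert_tree lc_d_Cert_tree lc_d_rc_15_1 lc_d_Cert_tree lc_d_Cert_tree lc_d_Cert_tree lc_d_rc_17_2 lc_d_Cert_tree lc_d_rc_15_1 lc_d_rc_27_4 lc_d_Cert_tree lc_d_rc_15_1 lc_d_Cert_tree lc_d_rc_15_1 lc_d_rc_8_3 lc_d_rc_16_4 lc_d_rc_15_1 lc_d_Cert_tree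 lc_d_Cert_tree lc_d_Cert_tree lc_d_Cert_tree lc_d_rc_15_1 lc_d_Cert_tree lc_d_rc_8_3 lc_d_Cert_tree lc_d_rc_24_5) (@D3.rec (fun _ => (Cert rels S Gen.d)) lc_d_Cert_tree lc_d_rc_16_4 lc_d_rc_3_3 lc_d_rc_23_2 lc_d_rc_15_1 lc_d_rc_27_4 lc_d_rc_16_4 lc_d_rc_25_14 lc_d_rc_27_2 lc_d_rc_27_4 lc_d_rc_24_5 lc_d_rc_27_4 lc_d_rc_27_8 lc_d_rc_22_4 lc_d_Cert_tree lc_d_rc_15_1 lc_d_rc_15_1 lc_d_rc_15_1 lc_d_Cert_tree lc_d_rc_16_4 lc_d_rc_22_4 lc_d_rc_15_1 lc_d_Cert_tree lc_d_rc_15_1 lc_d_rc_23_4 lc_d_rc_15_1 lc_d_rc_16_4 lc_d_rc_17_2 lc_d_rc_27_2 lc_d_Cert_tree lc_d_Cert_tree lc_d_rc_22_8 lc_d_rc_15_1 lc_d_Cert_tree lc_d_Cert_tree lc_d_rc_15_1 lc_d_rc_23_4 lc_d_Cert_tree lc_d_rc_23_2 lc_d_rc_24_0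 lc_d_rc_16_4 lc_d_Cert_tree lc_d_rc_15_1 lc_d_Cert_tree lc_d_rc_24_0 lc_d_Cert_tree lc_d_Cert_tree lc_d_rc_8_3 lc_d_Cert_tree lc_d_Cert_tree lc_d_rc_12_1 lc_d_Cert_tree lc_d_Cert_tree lc_d_rc_15_1 lc_d_Cert_tree lc_d_Cert_tree lc_d_rc_15_1 lc_d_rc_17_2 lc_d_rc_15_1 lc_d_Cert_tree lc_d_Cert_tree lc_d_rc_15_1) (@D3.rec (fun _ => (Cert rels S Gen.d)) lc_d_rc_24_0 lc_d_Cert_tree lc_d_rc_15_1 lc_d_Cert_tree lc_d_Cert_tree lc_d_Cert_tree lc_d_rc_15_1 lc_d_rc_17_2 lc_d_rc_3_3 lc_d_Cert_tree lc_d_Cert_tree lc_d_Cert_tree lc_d_rc_15_1 lc_d_Cert_tree lc_d_Cert_tree lc_d_Cert_tree lc_d_rc_15_1 lc_d_rc_17_2 lc_d_Cert_tree lc_d_rc_15_1 lc_d_Cert_tree lc_d_rc_8_1 lc_d_rc_15_1 lc_d_Cert_tree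 lc_d_Cert_tree lc_d_Cert_tree lc_d_Cert_tree lc_d_rc_15_1 lc_d_Cert_tree lc_d_rc_15_1 lc_d_rc_23_6 lc_d_rc_22_8 lc_d_Cert_tree lc_d_rc_17_2 lc_d_Cert_tree lc_d_Cert_tree lc_d_rc_15_1 lc_d_rc_17_2 lc_d_Cert_tree lc_d_rc_27_10 lc_d_Cert_tree lc_d_rc_15_1 lc_d_Cert_tree lc_d_Cert_tree lc_d_rc_15_1 lc_d_Cert_tree lc_d_Cert_tree lc_d_Cert_tree lc_d_Cert_tree lc_d_rc_15_1 lc_d_Cert_tree lc_d_rc_24_5 lc_d_rc_15_1 lc_d_rc_24_5 lc_d_rc_23_2 lc_d_rc_15_1 lc_d_rc_24_0 lc_d_Cert_tree lc_d_rc_22_8 lc_d_Cert_tree lc_d_rc_23_8 lc_d_rc_24_0) (@D3.rec (fun _ => (Cert rels S Gen.d)) lc_d_rc_15_1 lc_d_Cert_tree lc_d_Cert_tree lc_d_Cert_tree lc_d_rc_15_1 lc_d_rc_17_2 lc_d_Cert_tree lc_d_rc_15_1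 lc_d_rc_27_4 lc_d_rc_15_1 lc_d_Cert_tree lc_d_Cert_tree lc_d_rc_15_1 lc_d_Cert_tree lc_d_rc_17_2 lc_d_Cert_tree lc_d_Cert_tree lc_d_rc_23_8 lc_d_rc_24_0 lc_d_rc_15_1 lc_d_Cert_tree lc_d_Cert_tree lc_d_rc_15_1 lc_d_rc_17_2 lc_d_rc_15_1 lc_d_Cert_tree lc_d_rc_15_1 lc_d_rc_27_8 lc_d_Cert_tree lc_d_rc_15_1 lc_d_Cert_tree lc_d_rc_17_2 lc_d_rc_22_6 lc_d_Cert_tree lc_d_rc_3_3 lc_d_Cert_tree lc_d_Cert_tree lc_d_rc_3_1 lc_d_Cert_tree lc_d_Cert_tree lc_d_rc_15_1 lc_d_rc_8_1 lc_d_Cert_tree lc_d_rc_15_1 lc_d_Cert_tree lc_d_Cert_tree lc_d_rc_15_1 lc_d_rc_3_3 lc_d_Cert_tree lc_d_rc_15_1 lc_d_Cert_tree lc_d_rc_17_2 lc_d_rc_15_1 lc_d_Cert_tree lc_d_rc_27_4 lc_d_rc_15_1 lc_d_rc_15_1 lc_d_Cert_tree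 lc_d_rc_27_8 lc_d_rc_15_1 lc_d_Cert_tree lc_d_rc_15_1) (@D3.rec (fun _ => (Cert rels S Gen.d)) lc_d_Cert_tree lc_d_Cert_tree lc_d_rc_16_2 lc_d_rc_15_1 lc_d_Cert_tree lc_d_rc_24_5 lc_d_Cert_tree lc_d_rc_15_1 lc_d_rc_16_2 lc_d_Cert_tree lc_d_rc_15_1 lc_d_Cert_tree lc_d_Cert_tree lc_d_rc_23_8 lc_d_rc_15_1 lc_d_rc_15_1 lc_d_Cert_tree lc_d_rc_15_1 lc_d_rc_27_4 lc_d_rc_15_1 lc_d_rc_24_0 lc_d_rc_15_1 lc_d_Cert_tree lc_d_rc_15_1 lc_d_rc_15_1 lc_d_rc_15_1 lc_d_rc_15_1 lc_d_rc_16_4 lc_d_rc_8_3 lc_d_rc_23_4 lc_d_rc_15_1 lc_d_rc_3_3 lc_d_rc_8_3 lc_d_rc_15_1 lc_d_rc_8_3 lc_d_rc_15_1 lc_d_Cert_tree lc_d_rc_16_4 lc_d_rc_23_2 lc_d_rc_15_1 lc_d_rc_17_2 lc_d_rc_24_5 lc_d_Cert_tree lc_d_rc_23_6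 lc_d_rc_15_1 lc_d_rc_23_4 lc_d_rc_24_5 lc_d_Cert_tree lc_d_rc_15_1 lc_d_rc_3_3 lc_d_rc_12_1 lc_d_rc_16_4 lc_d_rc_15_1 lc_d_rc_24_0 lc_d_Cert_tree lc_d_rc_16_2 lc_d_rc_15_1 lc_d_rc_15_1 lc_d_rc_15_1 lc_d_rc_12_5 lc_d_rc_16_4 lc_d_rc_8_1) (@D3.rec (fun _ => (Cert rels S Gen.d)) lc_d_Cert_tree lc_d_Cert_tree lc_d_rc_15_1 lc_d_Cert_tree lc_d_Cert_tree lc_d_Cert_tree lc_d_Cert_tree lc_d_Cert_tree lc_d_rc_15_1 lc_d_Cert_tree lc_d_rc_17_2 lc_d_Cert_tree lc_d_Cert_tree lc_d_rc_17_2 lc_d_rc_16_2 lc_d_Cert_tree lc_d_Cert_tree lc_d_rc_8_3 lc_d_rc_8_3 lc_d_rc_3_3 lc_d_Cert_tree lc_d_rc_15_1 lc_d_rc_27_10 lc_d_rc_15_1 lc_d_rc_27_4 lc_d_rc_15_1 lc_d_rc_15_1 lc_d_rc_27_8 lc_d_rc_17_2 lc_d_Cert_tree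 lc_d_Cert_tree lc_d_rc_27_2 lc_d_Cert_tree lc_d_rc_15_1 lc_d_Cert_tree lc_d_rc_15_1 lc_d_Cert_tree lc_d_rc_15_1 lc_d_Cert_tree lc_d_rc_15_1 lc_d_Cert_tree lc_d_rc_16_4 lc_d_Cert_tree lc_d_rc_8_3 lc_d_rc_8_3 lc_d_Cert_tree lc_d_rc_16_4 lc_d_rc_23_8 lc_d_rc_15_1 lc_d_Cert_tree lc_d_Cert_tree lc_d_Cert_tree lc_d_rc_17_2 lc_d_Cert_tree lc_d_rc_15_1 lc_d_rc_27_4 lc_d_Cert_tree lc_d_rc_15_1 lc_d_rc_15_1 lc_d_Cert_tree lc_d_rc_15_1 lc_d_rc_27_2) (@D3.rec (fun _ => (Cert rels S Gen.d)) lc_d_rc_15_1 lc_d_rc_17_2 lc_d_rc_23_2 lc_d_Cert_tree lc_d_Cert_tree lc_d_rc_24_5 lc_d_rc_15_1 lc_d_Cert_tree lc_d_rc_23_2 lc_d_rc_8_1 lc_d_rc_23_2 lc_d_rc_15_1 lc_d_rc_15_1 lc_d_Cert_tree lc_d_rc_15_1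 lc_d_rc_15_1 lc_d_rc_23_8 lc_d_Cert_tree lc_d_rc_15_1 lc_d_rc_15_1 lc_d_rc_8_3 lc_d_rc_16_4 lc_d_rc_15_1 lc_d_Cert_tree lc_d_rc_23_8 lc_d_rc_15_1 lc_d_Cert_tree lc_d_Cert_tree lc_d_Cert_tree lc_d_rc_15_1 lc_d_Cert_tree lc_d_Cert_tree lc_d_rc_17_2 lc_d_rc_15_1 lc_d_rc_15_1 lc_d_rc_8_3 lc_d_rc_15_1 lc_d_Cert_tree lc_d_rc_27_8 lc_d_rc_16_4 lc_d_rc_23_2 lc_d_rc_22_6 lc_d_rc_22_2 lc_d_Cert_tree lc_d_rc_15_1 lc_d_Cert_tree lc_d_rc_22_2 lc_d_Cert_tree lc_d_rc_15_1 lc_d_Cert_tree lc_d_Cert_tree lc_d_rc_15_1 lc_d_rc_17_2 lc_d_rc_27_8 lc_d_rc_15_1 lc_d_rc_24_0 lc_d_rc_8_1 lc_d_rc_15_1 lc_d_Cert_tree lc_d_Cert_tree lc_d_rc_8_3 lc_d_rc_17_2) (@D3.rec (fun _ => (Cert rels S Gen.d)) lc_d_Cert_tree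 lc_d_Cert_tree lc_d_Cert_tree lc_d_rc_15_1 lc_d_Cert_tree lc_d_rc_27_2 lc_d_rc_15_1 lc_d_rc_17_2 lc_d_Cert_tree lc_d_rc_15_1 lc_d_Cert_tree lc_d_rc_8_1 lc_d_rc_15_1 lc_d_Cert_tree lc_d_rc_24_0 lc_d_rc_15_1 lc_d_rc_22_8 lc_d_Cert_tree lc_d_Cert_tree lc_d_Cert_tree lc_d_rc_15_1 lc_d_rc_17_2 lc_d_Cert_tree lc_d_Cert_tree lc_d_rc_15_1 lc_d_rc_27_4 lc_d_Cert_tree lc_d_Cert_tree lc_d_rc_15_1 lc_d_rc_27_4 lc_d_Cert_tree lc_d_rc_27_10 lc_d_Cert_tree lc_d_rc_23_6 lc_d_Cert_tree lc_d_rc_27_10 lc_d_Cert_tree lc_d_Cert_tree lc_d_rc_15_1 lc_d_rc_15_1 lc_d_rc_8_3 lc_d_rc_15_1 lc_d_Cert_tree lc_d_rc_8_3 lc_d_rc_16_0 lc_d_rc_15_1 lc_d_rc_3_3 lc_d_rc_15_1 lc_d_Cert_tree lc_d_Cert_tree lc_d_rc_15_1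 lc_d_rc_15_1 lc_d_Cert_tree lc_d_rc_15_1 lc_d_rc_27_4 lc_d_rc_8_3 lc_d_Cert_tree lc_d_rc_15_1 lc_d_rc_17_2 lc_d_rc_15_1 lc_d_Cert_tree lc_d_rc_15_1) (@D3.rec (fun _ => (Cert rels S Gen.d)) lc_d_Cert_tree lc_d_rc_3_3 lc_d_Cert_tree lc_d_rc_17_2 lc_d_Cert_tree lc_d_Cert_tree lc_d_rc_15_1 lc_d_rc_17_2 lc_d_Cert_tree lc_d_rc_17_2 lc_d_Cert_tree lc_d_rc_15_1 lc_d_Cert_tree lc_d_rc_15_1 lc_d_Cert_tree lc_d_Cert_tree lc_d_rc_15_1 lc_d_Cert_tree lc_d_Cert_tree lc_d_Cert_tree lc_d_rc_17_2 lc_d_rc_17_0 lc_d_rc_23_2 lc_d_rc_27_8 lc_d_rc_15_1 lc_d_rc_24_0 lc_d_rc_23_6 lc_d_rc_15_1 lc_d_Cert_tree lc_d_rc_3_3 lc_d_Cert_tree lc_d_rc_16_2 lc_d_Cert_tree lc_d_rc_15_1 lc_d_Cert_tree lc_d_rc_15_1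 lc_d_rc_17_2 lc_d_Cert_tree lc_d_rc_15_1 lc_d_Cert_tree lc_d_Cert_tree lc_d_rc_15_1 lc_d_Cert_tree lc_d_rc_24_0 lc_d_rc_15_1 lc_d_rc_15_1 lc_d_Cert_tree lc_d_rc_22_8 lc_d_Cert_tree lc_d_rc_17_2 lc_d_Cert_tree lc_d_Cert_tree lc_d_rc_15_1 lc_d_rc_17_2 lc_d_Cert_tree lc_d_Cert_tree lc_d_Cert_tree lc_d_rc_15_1 lc_d_Cert_tree lc_d_Cert_tree lc_d_Cert_tree lc_d_rc_15_1) (@D3.rec (fun _ => (Cert rels S Gen.d)) lc_d_Cert_tree lc_d_rc_23_2 lc_d_Cert_tree lc_d_rc_27_4 lc_d_rc_17_2 lc_d_Cert_tree lc_d_rc_15_1 lc_d_Cert_tree lc_d_rc_24_5 lc_d_Cert_tree lc_d_rc_8_3 lc_d_rc_8_3 lc_d_rc_23_4 lc_d_rc_15_1 lc_d_rc_3_3 lc_d_rc_27_4 lc_d_Cert_tree lc_d_Cert_tree lc_d_rc_15_1 lc_d_rc_27_2 lc_d_Cert_tree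 lc_d_rc_15_1 lc_d_rc_15_1 lc_d_rc_15_1 lc_d_rc_24_0 lc_d_Cert_tree lc_d_Cert_tree lc_d_rc_15_1 lc_d_Cert_tree lc_d_rc_8_3 lc_d_rc_15_1 lc_d_rc_15_1 lc_d_Cert_tree lc_d_Cert_tree lc_d_rc_15_1 lc_d_rc_15_1 lc_d_Cert_tree lc_d_rc_15_1 lc_d_rc_15_1 lc_d_Cert_tree lc_d_rc_15_1 lc_d_Cert_tree lc_d_Cert_tree lc_d_Cert_tree lc_d_Cert_tree lc_d_rc_15_1 lc_d_Cert_tree lc_d_Cert_tree lc_d_rc_15_1 lc_d_rc_15_1 lc_d_Cert_tree lc_d_rc_23_4 lc_d_rc_15_1 lc_d_Cert_tree lc_d_Cert_tree lc_d_rc_15_1 lc_d_rc_15_1 lc_d_rc_15_1 lc_d_Cert_tree lc_d_rc_16_4 lc_d_rc_16_4 lc_d_Cert_tree) (@D3.rec (fun _ => (Cert rels S Gen.d)) lc_d_rc_15_1 lc_d_Cert_tree lc_d_rc_15_1 lc_d_rc_8_1 lc_d_Cert_tree lc_d_rc_15_1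 lc_d_Cert_tree lc_d_rc_15_1 lc_d_rc_16_0 lc_d_rc_15_1 lc_d_rc_27_4 lc_d_rc_15_1 lc_d_rc_15_1 lc_d_rc_27_2 lc_d_Cert_tree lc_d_Cert_tree lc_d_rc_23_2 lc_d_Cert_tree lc_d_rc_15_1 lc_d_Cert_tree lc_d_rc_16_4 lc_d_rc_15_1 lc_d_rc_16_2 lc_d_rc_15_1 lc_d_rc_16_4 lc_d_Cert_tree lc_d_rc_15_1 lc_d_Cert_tree lc_d_Cert_tree lc_d_rc_15_1 lc_d_Cert_tree lc_d_Cert_tree lc_d_rc_15_1 lc_d_Cert_tree lc_d_rc_23_6 lc_d_rc_15_1 lc_d_rc_22_4 lc_d_Cert_tree lc_d_Cert_tree lc_d_Cert_tree lc_d_rc_15_1 lc_d_rc_17_2 lc_d_Cert_tree lc_d_Cert_tree lc_d_rc_15_1 lc_d_rc_27_4 lc_d_Cert_tree lc_d_Cert_tree lc_d_rc_15_1 lc_d_rc_12_13 lc_d_Cert_tree lc_d_Cert_tree lc_d_rc_23_8 lc_d_rc_8_3 lc_d_rc_27_10 lc_d_rc_23_8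 lc_d_rc_23_2 lc_d_rc_15_1 lc_d_rc_24_0 lc_d_Cert_tree lc_d_Cert_tree lc_d_rc_15_1) (@D3.rec (fun _ => (Cert rels S Gen.d)) lc_d_rc_15_1 lc_d_Cert_tree lc_d_rc_24_5 lc_d_Cert_tree lc_d_rc_16_4 lc_d_Cert_tree lc_d_Cert_tree lc_d_Cert_tree lc_d_rc_15_1 lc_d_rc_17_2 lc_d_rc_16_4 lc_d_Cert_tree lc_d_rc_15_1 lc_d_rc_27_10 lc_d_rc_27_8 lc_d_Cert_tree lc_d_Cert_tree lc_d_rc_15_1 lc_d_rc_23_4 lc_d_Cert_tree lc_d_Cert_tree lc_d_rc_27_2 lc_d_rc_15_1 lc_d_Cert_tree lc_d_rc_15_1 lc_d_Cert_tree lc_d_rc_23_4 lc_d_rc_8_3 lc_d_rc_3_3 lc_d_rc_8_3 lc_d_rc_15_1 lc_d_rc_12_9 lc_d_rc_3_1 lc_d_rc_24_5 lc_d_Cert_tree lc_d_rc_15_1 lc_d_Cert_tree lc_d_rc_15_1 lc_d_rc_16_4 lc_d_rc_15_1 lc_d_Cert_tree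 lc_d_rc_16_4 lc_d_rc_23_8 lc_d_rc_23_4 lc_d_rc_15_1 lc_d_Cert_tree lc_d_Cert_tree lc_d_rc_27_4 lc_d_rc_15_1 lc_d_Cert_tree lc_d_rc_17_2 lc_d_rc_15_1 lc_d_rc_15_1 lc_d_Cert_tree lc_d_rc_15_1 lc_d_Cert_tree lc_d_rc_15_1 lc_d_Cert_tree lc_d_rc_23_4 lc_d_rc_3_3 lc_d_Cert_tree lc_d_rc_8_3) (@D3.rec (fun _ => (Cert rels S Gen.d)) lc_d_Cert_tree lc_d_rc_27_10 lc_d_rc_24_5 lc_d_rc_15_1 lc_d_rc_17_2 lc_d_Cert_tree lc_d_rc_15_1 lc_d_rc_15_1 lc_d_rc_23_2 lc_d_rc_23_4 lc_d_rc_15_1 lc_d_Cert_tree lc_d_rc_16_2 lc_d_Cert_tree lc_d_rc_15_1 lc_d_Cert_tree lc_d_rc_3_3 lc_d_rc_17_2 lc_d_Cert_tree lc_d_rc_15_1 lc_d_Cert_tree lc_d_rc_24_5 lc_d_rc_15_1 lc_d_Cert_tree lc_d_rc_23_6 lc_d_rc_15_1 lc_d_Cert_tree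 lc_d_Cert_tree lc_d_Cert_tree lc_d_rc_15_1 lc_d_rc_17_2 lc_d_rc_27_10 lc_d_Cert_tree lc_d_Cert_tree lc_d_Cert_tree lc_d_rc_15_1 lc_d_Cert_tree lc_d_Cert_tree lc_d_Cert_tree lc_d_Cert_tree lc_d_rc_17_2 lc_d_rc_15_1 lc_d_rc_8_3 lc_d_Cert_tree lc_d_Cert_tree lc_d_Cert_tree lc_d_Cert_tree lc_d_rc_15_1 lc_d_rc_17_2 lc_d_rc_16_4 lc_d_rc_17_2 lc_d_rc_16_0 lc_d_Cert_tree lc_d_Cert_tree lc_d_Cert_tree lc_d_rc_15_1 lc_d_rc_27_2 lc_d_rc_27_8 lc_d_rc_8_1 lc_d_rc_15_1 lc_d_rc_15_1 lc_d_rc_27_4) (@D3.rec (fun _ => (Cert rels S Gen.d)) lc_d_Cert_tree lc_d_rc_15_1 lc_d_Cert_tree lc_d_rc_15_1 lc_d_rc_16_4 lc_d_Cert_tree lc_d_rc_15_1 lc_d_Cert_tree lc_d_rc_23_2 lc_d_rc_15_1 lc_d_rc_17_2 lc_d_rc_23_2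 lc_d_Cert_tree lc_d_rc_8_1 lc_d_Cert_tree lc_d_rc_22_8 lc_d_Cert_tree lc_d_Cert_tree lc_d_Cert_tree lc_d_rc_15_1 lc_d_rc_17_2 lc_d_Cert_tree lc_d_Cert_tree lc_d_rc_15_1 lc_d_rc_27_4 lc_d_Cert_tree lc_d_Cert_tree lc_d_rc_15_1 lc_d_rc_23_4 lc_d_rc_24_0 lc_d_rc_23_4 lc_d_Cert_tree lc_d_rc_27_8 lc_d_Cert_tree lc_d_rc_16_4 lc_d_rc_16_4 lc_d_rc_8_3 lc_d_Cert_tree lc_d_rc_8_3 lc_d_Cert_tree lc_d_rc_8_1 lc_d_Cert_tree lc_d_Cert_tree lc_d_Cert_tree lc_d_Cert_tree lc_d_rc_15_1 lc_d_rc_27_2 lc_d_Cert_tree lc_d_rc_16_4 lc_d_rc_27_2 lc_d_Cert_tree lc_d_rc_15_1 lc_d_rc_24_0 lc_d_Cert_tree lc_d_rc_8_3 lc_d_rc_15_1 lc_d_rc_8_3 lc_d_rc_15_1 lc_d_Cert_tree lc_d_Cert_tree lc_d_Cert_tree lc_d_rc_15_1)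 (@D3.rec (fun _ => (Cert rels S Gen.d)) lc_d_Cert_tree lc_d_Cert_tree lc_d_rc_15_1 lc_d_Cert_tree lc_d_rc_3_3 lc_d_rc_15_1 lc_d_rc_23_4 lc_d_Cert_tree lc_d_rc_15_1 lc_d_Cert_tree lc_d_rc_16_4 lc_d_rc_16_4 lc_d_Cert_tree lc_d_rc_15_1 lc_d_Cert_tree lc_d_Cert_tree lc_d_rc_15_1 lc_d_Cert_tree lc_d_rc_24_0 lc_d_rc_15_1 lc_d_rc_17_2 lc_d_rc_23_2 lc_d_Cert_tree lc_d_rc_15_1 lc_d_Cert_tree lc_d_rc_22_2 lc_d_rc_27_2 lc_d_Cert_tree lc_d_rc_15_1 lc_d_Cert_tree lc_d_rc_8_3 lc_d_rc_17_2 lc_d_Cert_tree lc_d_rc_15_1 lc_d_Cert_tree lc_d_Cert_tree lc_d_rc_15_1 lc_d_Cert_tree lc_d_rc_23_6 lc_d_rc_24_0 lc_d_rc_22_6 lc_d_Cert_tree lc_d_Cert_tree lc_d_Cert_tree lc_d_rc_15_1 lc_d_rc_17_2 lc_d_Cert_tree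 lc_d_Cert_tree lc_d_rc_15_1 lc_d_Cert_tree lc_d_Cert_tree lc_d_Cert_tree lc_d_rc_15_1 lc_d_rc_8_3 lc_d_Cert_tree lc_d_rc_15_1 lc_d_rc_15_1 lc_d_Cert_tree lc_d_rc_3_3 lc_d_rc_15_1 lc_d_rc_15_1 lc_d_rc_15_1) (@D3.rec (fun _ => (Cert rels S Gen.d)) lc_d_rc_8_3 lc_d_rc_8_1 lc_d_Cert_tree lc_d_rc_8_3 lc_d_rc_15_1 lc_d_rc_22_4 lc_d_Cert_tree lc_d_rc_15_1 lc_d_Cert_tree lc_d_rc_16_2 lc_d_rc_23_4 lc_d_Cert_tree lc_d_rc_3_3 lc_d_rc_15_1 lc_d_rc_15_1 lc_d_Cert_tree lc_d_Cert_tree lc_d_rc_15_1 lc_d_Cert_tree lc_d_rc_15_1 lc_d_Cert_tree lc_d_rc_24_0 lc_d_rc_15_1 lc_d_rc_8_3 lc_d_Cert_tree lc_d_rc_15_1 lc_d_Cert_tree lc_d_rc_22_4 lc_d_Cert_tree lc_d_rc_15_1 lc_d_Cert_tree lc_d_rc_15_1 lc_d_Cert_tree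 lc_d_rc_16_4 lc_d_rc_15_1 lc_d_Cert_tree lc_d_Cert_tree lc_d_Cert_tree lc_d_rc_15_1 lc_d_Cert_tree lc_d_Cert_tree lc_d_rc_8_3 lc_d_Cert_tree lc_d_rc_16_4 lc_d_rc_15_1 lc_d_rc_23_8 lc_d_rc_27_4 lc_d_rc_15_1 lc_d_Cert_tree lc_d_rc_16_4 lc_d_rc_12_1 lc_d_rc_23_2 lc_d_Cert_tree lc_d_rc_15_1 lc_d_Cert_tree lc_d_Cert_tree lc_d_rc_15_1 lc_d_rc_8_3 lc_d_rc_16_4 lc_d_Cert_tree lc_d_rc_15_1 lc_d_Cert_tree) (@D3.rec (fun _ => (Cert rels S Gen.d)) lc_d_Cert_tree lc_d_rc_15_1 lc_d_Cert_tree lc_d_rc_22_4 lc_d_rc_15_1 lc_d_Cert_tree lc_d_rc_23_6 lc_d_rc_23_6 lc_d_rc_22_6 lc_d_Cert_tree lc_d_Cert_tree lc_d_Cert_tree lc_d_rc_15_1 lc_d_rc_16_4 lc_d_Cert_tree lc_d_rc_8_3 lc_d_rc_8_3 lc_d_Cert_tree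 lc_d_rc_27_8 lc_d_rc_16_4 lc_d_rc_8_3 lc_d_Cert_tree lc_d_rc_15_1 lc_d_rc_15_1 lc_d_rc_23_4 lc_d_Cert_tree lc_d_rc_16_4 lc_d_rc_15_1 lc_d_rc_16_4 lc_d_rc_15_1 lc_d_Cert_tree lc_d_rc_16_4 lc_d_rc_8_1 lc_d_rc_8_1 lc_d_rc_15_1 lc_d_Cert_tree lc_d_Cert_tree lc_d_Cert_tree lc_d_rc_17_2 lc_d_Cert_tree lc_d_Cert_tree lc_d_rc_15_1 lc_d_Cert_tree lc_d_rc_16_4 lc_d_rc_23_4 lc_d_Cert_tree lc_d_rc_16_4 lc_d_rc_17_2 lc_d_rc_24_5 lc_d_rc_23_2 lc_d_rc_24_5 lc_d_rc_24_5 lc_d_Cert_tree lc_d_rc_15_1 lc_d_Cert_tree lc_d_Cert_tree lc_d_rc_17_2 lc_d_Cert_tree lc_d_rc_15_1 lc_d_Cert_tree lc_d_Cert_tree lc_d_rc_15_1) (@D3.rec (fun _ => (Cert rels S Gen.d)) lc_d_Cert_tree lc_d_rc_22_4 lc_d_rc_15_1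 lc_d_Cert_tree lc_d_rc_12_9 lc_d_rc_24_0 lc_d_Cert_tree lc_d_Cert_tree lc_d_Cert_tree lc_d_rc_15_1 lc_d_rc_17_2 lc_d_Cert_tree lc_d_rc_15_1 lc_d_rc_27_4 lc_d_rc_27_8 lc_d_Cert_tree lc_d_rc_15_1 lc_d_Cert_tree lc_d_rc_23_4 lc_d_rc_15_1 lc_d_rc_15_1 lc_d_rc_8_1 lc_d_Cert_tree lc_d_rc_16_4 lc_d_Cert_tree lc_d_Cert_tree lc_d_rc_8_3 lc_d_rc_15_1 lc_d_Cert_tree lc_d_Cert_tree lc_d_Cert_tree lc_d_Cert_tree lc_d_rc_15_1 lc_d_rc_27_2 lc_d_rc_27_8 lc_d_rc_27_2 lc_d_rc_24_0 lc_d_Cert_tree lc_d_rc_15_1 lc_d_Cert_tree lc_d_Cert_tree lc_d_rc_16_2 lc_d_rc_15_1 lc_d_rc_15_1 lc_d_Cert_tree lc_d_rc_8_1 lc_d_rc_15_1 lc_d_Cert_tree lc_d_Cert_tree lc_d_rc_15_1 lc_d_Cert_tree lc_d_Cert_tree lc_d_Cert_tree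 lc_d_Cert_tree lc_d_rc_15_1 lc_d_Cert_tree lc_d_Cert_tree lc_d_Cert_tree lc_d_Cert_tree lc_d_rc_15_1 lc_d_rc_17_2 lc_d_Cert_tree) (@D3.rec (fun _ => (Cert rels S Gen.d)) lc_d_Cert_tree lc_d_rc_15_1 lc_d_rc_8_3 lc_d_Cert_tree lc_d_rc_16_4 lc_d_rc_16_2 lc_d_rc_8_1 lc_d_rc_15_1 lc_d_Cert_tree lc_d_Cert_tree lc_d_Cert_tree lc_d_rc_8_3 lc_d_rc_8_3 lc_d_Cert_tree lc_d_rc_8_3 lc_d_Cert_tree lc_d_rc_22_4 lc_d_rc_3_1 lc_d_rc_15_1 lc_d_Cert_tree lc_d_rc_25_18 lc_d_rc_24_0 lc_d_Cert_tree lc_d_Cert_tree lc_d_Cert_tree lc_d_rc_15_1 lc_d_rc_17_2 lc_d_Cert_tree lc_d_rc_15_1 lc_d_rc_23_2 lc_d_Cert_tree lc_d_rc_15_1 lc_d_rc_8_3 lc_d_Cert_tree lc_d_Cert_tree lc_d_rc_15_1 lc_d_Cert_tree lc_d_rc_27_10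 lc_d_rc_27_2 lc_d_rc_15_1 lc_d_rc_17_2 lc_d_rc_25_2 lc_d_rc_15_1 lc_d_Cert_tree lc_d_rc_15_1 lc_d_Cert_tree lc_d_Cert_tree lc_d_Cert_tree lc_d_Cert_tree lc_d_rc_15_1 lc_d_rc_17_2 lc_d_Cert_tree lc_d_rc_27_8 lc_d_rc_22_8 lc_d_rc_15_1 lc_d_Cert_tree lc_d_rc_17_2 lc_d_Cert_tree lc_d_Cert_tree lc_d_Cert_tree lc_d_Cert_tree lc_d_rc_15_1) (@D3.rec (fun _ => (Cert rels S Gen.d)) lc_d_Cert_tree lc_d_rc_27_8 lc_d_rc_23_6 lc_d_Cert_tree lc_d_rc_15_1 lc_d_rc_17_2 lc_d_rc_23_6 lc_d_Cert_tree lc_d_rc_3_1 lc_d_Cert_tree lc_d_rc_15_1 lc_d_Cert_tree lc_d_rc_27_10 lc_d_Cert_tree lc_d_rc_15_1 lc_d_rc_17_2 lc_d_Cert_tree lc_d_rc_15_1 lc_d_Cert_tree lc_d_rc_15_1 lc_d_Cert_tree lc_d_rc_15_1 lc_d_rc_15_1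 lc_d_Cert_tree lc_d_Cert_tree lc_d_Cert_tree lc_d_rc_15_1 lc_d_rc_17_2 lc_d_rc_15_1 lc_d_Cert_tree lc_d_rc_8_3 lc_d_Cert_tree lc_d_rc_8_3 lc_d_Cert_tree lc_d_Cert_tree lc_d_Cert_tree lc_d_rc_15_1 lc_d_rc_17_2 lc_d_Cert_tree lc_d_Cert_tree lc_d_Cert_tree lc_d_rc_15_1 lc_d_Cert_tree lc_d_rc_8_1 lc_d_rc_8_3 lc_d_rc_15_1 lc_d_Cert_tree lc_d_Cert_tree lc_d_Cert_tree lc_d_Cert_tree lc_d_rc_17_2 lc_d_Cert_tree lc_d_Cert_tree lc_d_Cert_tree lc_d_rc_15_1 lc_d_rc_3_1 lc_d_Cert_tree lc_d_Cert_tree lc_d_rc_15_1 lc_d_rc_15_1 lc_d_Cert_tree lc_d_Cert_tree) (@D3.rec (fun _ => (Cert rels S Gen.d)) lc_d_rc_15_1 lc_d_Cert_tree lc_d_rc_15_1 lc_d_rc_8_3 lc_d_Cert_tree lc_d_rc_16_2 lc_d_rc_24_0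 lc_d_Cert_tree lc_d_Cert_tree lc_d_rc_15_1 lc_d_Cert_tree lc_d_Cert_tree lc_d_rc_15_1 lc_d_Cert_tree lc_d_Cert_tree lc_d_rc_15_1 lc_d_rc_15_1 lc_d_rc_15_1 lc_d_Cert_tree lc_d_rc_16_4 lc_d_rc_24_5 lc_d_Cert_tree lc_d_rc_23_6 lc_d_Cert_tree lc_d_Cert_tree lc_d_rc_15_1 lc_d_rc_15_1 lc_d_rc_23_6 lc_d_Cert_tree lc_d_rc_27_8 lc_d_Cert_tree lc_d_Cert_tree lc_d_Cert_tree lc_d_rc_15_1 lc_d_rc_25_10 lc_d_rc_15_1 lc_d_Cert_tree lc_d_rc_16_2 lc_d_Cert_tree lc_d_rc_24_0 lc_d_rc_8_3 lc_d_Cert_tree lc_d_rc_8_3 lc_d_Cert_tree lc_d_rc_24_0 lc_d_Cert_tree lc_d_Cert_tree lc_d_Cert_tree lc_d_rc_15_1 lc_d_rc_17_2 lc_d_Cert_tree lc_d_Cert_tree lc_d_rc_15_1 lc_d_rc_27_4 lc_d_Cert_tree lc_d_Cert_tree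 lc_d_rc_15_1 lc_d_rc_24_5 lc_d_Cert_tree lc_d_rc_15_1 lc_d_Cert_tree lc_d_rc_15_1) (@D3.rec (fun _ => (Cert rels S Gen.d)) lc_d_Cert_tree lc_d_rc_27_10 lc_d_rc_27_2 lc_d_rc_15_1 lc_d_rc_17_2 lc_d_rc_8_3 lc_d_Cert_tree lc_d_rc_8_3 lc_d_Cert_tree lc_d_rc_22_8 lc_d_Cert_tree lc_d_Cert_tree lc_d_Cert_tree lc_d_rc_15_1 lc_d_rc_17_2 lc_d_rc_3_3 lc_d_Cert_tree lc_d_rc_27_4 lc_d_Cert_tree lc_d_rc_27_8 lc_d_rc_16_0 lc_d_rc_27_2 lc_d_Cert_tree lc_d_rc_17_2 lc_d_Cert_tree lc_d_rc_8_3 lc_d_Cert_tree lc_d_rc_15_1 lc_d_Cert_tree lc_d_rc_3_3 lc_d_Cert_tree lc_d_rc_15_1 lc_d_Cert_tree lc_d_rc_17_2 lc_d_rc_15_1 lc_d_rc_24_0 lc_d_rc_24_5 lc_d_Cert_tree lc_d_rc_27_8 lc_d_rc_8_3 lc_d_Cert_tree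 lc_d_rc_23_6 lc_d_Cert_tree lc_d_rc_17_2 lc_d_Cert_tree lc_d_Cert_tree lc_d_rc_8_1 lc_d_Cert_tree lc_d_Cert_tree lc_d_rc_15_1 lc_d_rc_3_3 lc_d_Cert_tree lc_d_Cert_tree lc_d_rc_15_1 lc_d_Cert_tree lc_d_rc_23_8 lc_d_Cert_tree lc_d_rc_15_1 lc_d_rc_15_1 lc_d_Cert_tree lc_d_Cert_tree lc_d_rc_16_2) (@D3.rec (fun _ => (Cert rels S Gen.d)) lc_d_Cert_tree lc_d_Cert_tree lc_d_rc_15_1 lc_d_Cert_tree lc_d_rc_8_1 lc_d_rc_15_1 lc_d_Cert_tree lc_d_rc_27_4 lc_d_rc_24_0 lc_d_rc_22_8 lc_d_rc_15_1 lc_d_rc_17_2 lc_d_Cert_tree lc_d_rc_15_1 lc_d_rc_27_4 lc_d_rc_15_1 lc_d_rc_23_8 lc_d_rc_12_1 lc_d_rc_15_1 lc_d_Cert_tree lc_d_rc_17_2 lc_d_Cert_tree lc_d_rc_15_1 lc_d_rc_27_2 lc_d_Cert_tree lc_d_rc_16_2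 lc_d_rc_12_15 lc_d_Cert_tree lc_d_rc_27_4 lc_d_Cert_tree lc_d_Cert_tree lc_d_Cert_tree lc_d_rc_15_1 lc_d_rc_17_2 lc_d_Cert_tree lc_d_rc_15_1 lc_d_rc_27_2 lc_d_Cert_tree lc_d_rc_15_1 lc_d_Cert_tree lc_d_rc_15_1 lc_d_Cert_tree lc_d_Cert_tree lc_d_Cert_tree lc_d_Cert_tree lc_d_rc_15_1 lc_d_rc_16_4 lc_d_Cert_tree lc_d_rc_15_1 lc_d_rc_15_1 lc_d_Cert_tree lc_d_Cert_tree lc_d_rc_15_1 lc_d_rc_17_2 lc_d_Cert_tree lc_d_Cert_tree lc_d_rc_15_1 lc_d_Cert_tree lc_d_Cert_tree lc_d_rc_15_1 lc_d_rc_27_4 lc_d_rc_15_1) (@D3.rec (fun _ => (Cert rels S Gen.d)) lc_d_rc_24_0 lc_d_Cert_tree lc_d_rc_17_2 lc_d_rc_15_1 lc_d_rc_16_2 lc_d_rc_16_4 lc_d_Cert_tree lc_d_rc_15_1 lc_d_rc_16_4 lc_d_rc_8_3 lc_d_rc_23_2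 lc_d_rc_27_2 lc_d_rc_15_1 lc_d_rc_8_1 lc_d_Cert_tree lc_d_Cert_tree lc_d_Cert_tree lc_d_rc_15_1 lc_d_rc_17_2 lc_d_rc_22_6 lc_d_rc_16_4 lc_d_rc_17_2 lc_d_Cert_tree lc_d_Cert_tree lc_d_rc_15_1 lc_d_Cert_tree lc_d_Cert_tree lc_d_Cert_tree lc_d_rc_15_1 lc_d_Cert_tree lc_d_rc_15_1 lc_d_rc_25_6 lc_d_rc_8_3 lc_d_Cert_tree lc_d_rc_16_4 lc_d_Cert_tree lc_d_Cert_tree lc_d_rc_17_2 lc_d_rc_15_1 lc_d_rc_22_8 lc_d_rc_17_2 lc_d_rc_15_1 lc_d_rc_16_2 lc_d_rc_8_3 lc_d_rc_15_1 lc_d_rc_27_4 lc_d_Cert_tree lc_d_rc_15_1 lc_d_rc_17_2 lc_d_Cert_tree lc_d_Cert_tree lc_d_rc_23_2 lc_d_rc_15_1 lc_d_rc_16_4 lc_d_rc_15_1 lc_d_rc_15_1 lc_d_Cert_tree lc_d_rc_17_2 lc_d_rc_27_4 lc_d_rc_16_4 lc_d_Cert_tree lc_d_rc_15_1)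 (@D3.rec (fun _ => (Cert rels S Gen.d)) lc_d_rc_17_2 lc_d_rc_16_4 lc_d_rc_8_3 lc_d_Cert_tree lc_d_rc_27_2 lc_d_rc_3_3 lc_d_rc_27_10 lc_d_rc_17_2 lc_d_Cert_tree lc_d_Cert_tree lc_d_Cert_tree lc_d_rc_15_1 lc_d_rc_17_2 lc_d_rc_15_1 lc_d_rc_16_4 lc_d_Cert_tree lc_d_rc_15_1 lc_d_rc_15_1 lc_d_Cert_tree lc_d_rc_15_1 lc_d_rc_17_2 lc_d_rc_23_6 lc_d_rc_23_6 lc_d_rc_22_6 lc_d_rc_17_2 lc_d_rc_15_1 lc_d_rc_16_2 lc_d_rc_16_0 lc_d_rc_24_5 lc_d_rc_15_1 lc_d_rc_27_4 lc_d_rc_15_1 lc_d_rc_24_0 lc_d_Cert_tree lc_d_rc_16_2 lc_d_rc_15_1 lc_d_rc_27_8 lc_d_Cert_tree lc_d_rc_15_1 lc_d_Cert_tree lc_d_Cert_tree lc_d_rc_16_4 lc_d_Cert_tree lc_d_Cert_tree lc_d_Cert_tree lc_d_rc_15_1 lc_d_rc_17_2 lc_d_Cert_tree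 lc_d_rc_15_1 lc_d_rc_15_1 lc_d_Cert_tree lc_d_rc_3_1 lc_d_rc_23_6 lc_d_Cert_tree lc_d_rc_17_2 lc_d_rc_15_1 lc_d_rc_27_4 lc_d_rc_23_6 lc_d_rc_15_1 lc_d_Cert_tree lc_d_rc_8_3 lc_d_rc_15_1) (@D3.rec (fun _ => (Cert rels S Gen.d)) lc_d_rc_23_2 lc_d_Cert_tree lc_d_rc_15_1 lc_d_Cert_tree lc_d_Cert_tree lc_d_rc_16_4 lc_d_Cert_tree lc_d_Cert_tree lc_d_Cert_tree lc_d_rc_15_1 lc_d_rc_17_2 lc_d_rc_16_4 lc_d_rc_22_8 lc_d_rc_15_1 lc_d_Cert_tree lc_d_rc_17_2 lc_d_Cert_tree lc_d_rc_15_1 lc_d_rc_17_2 lc_d_rc_15_1 lc_d_rc_15_1 lc_d_Cert_tree lc_d_rc_17_2 lc_d_Cert_tree lc_d_rc_15_1 lc_d_rc_27_4 lc_d_Cert_tree lc_d_Cert_tree lc_d_rc_17_2 lc_d_rc_15_1 lc_d_rc_8_3 lc_d_Cert_tree lc_d_rc_15_1 lc_d_Cert_tree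 lc_d_Cert_tree lc_d_rc_15_1 lc_d_Cert_tree lc_d_rc_17_2 lc_d_rc_15_1 lc_d_rc_27_2 lc_d_rc_15_1 lc_d_rc_15_1 lc_d_rc_15_1 lc_d_Cert_tree lc_d_rc_27_4 lc_d_rc_15_1 lc_d_rc_27_2 lc_d_Cert_tree lc_d_Cert_tree lc_d_rc_15_1 lc_d_Cert_tree lc_d_rc_15_1 lc_d_Cert_tree lc_d_rc_23_8 lc_d_rc_15_1 lc_d_rc_22_2 lc_d_rc_8_3 lc_d_rc_23_4 lc_d_Cert_tree lc_d_rc_8_3 lc_d_rc_23_4 lc_d_rc_16_4) (@D3.rec (fun _ => (Cert rels S Gen.d)) lc_d_rc_23_6 lc_d_rc_23_4 lc_d_Cert_tree lc_d_rc_15_1 lc_d_rc_22_2 lc_d_rc_16_4 lc_d_rc_23_6 lc_d_rc_15_1 lc_d_rc_15_1 lc_d_Cert_tree lc_d_Cert_tree lc_d_rc_15_1 lc_d_rc_16_0 lc_d_rc_15_1 lc_d_rc_15_1 lc_d_rc_12_15 lc_d_rc_15_1 lc_d_Cert_tree lc_d_rc_15_1 lc_d_rc_27_8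 lc_d_rc_15_1 lc_d_Cert_tree lc_d_rc_23_8 lc_d_rc_15_1 lc_d_rc_24_5 lc_d_rc_3_3 lc_d_rc_15_1 lc_d_Cert_tree lc_d_rc_8_3 lc_d_rc_15_1 lc_d_rc_16_2 lc_d_rc_27_8 lc_d_rc_16_4 lc_d_Cert_tree lc_d_rc_15_1 lc_d_rc_17_2 lc_d_Cert_tree lc_d_Cert_tree lc_d_rc_15_1 lc_d_rc_15_1 lc_d_Cert_tree lc_d_Cert_tree lc_d_rc_15_1 lc_d_rc_17_2 lc_d_Cert_tree lc_d_Cert_tree lc_d_rc_15_1 lc_d_rc_27_4 lc_d_Cert_tree lc_d_rc_15_1 lc_d_rc_27_4 lc_d_rc_8_3 lc_d_rc_8_1 lc_d_Cert_tree lc_d_rc_17_2 lc_d_rc_16_2 lc_d_rc_27_4 lc_d_rc_16_4 lc_d_rc_8_1 lc_d_rc_15_1 lc_d_rc_22_4 lc_d_rc_17_2)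
def ce_d_2 : D2 → D3 → (Cert rels S Gen.d) := @D2.rec (fun _ => D3 → (Cert rels S Gen.d)) (@D3.rec (fun _ => (Cert rels S Gen.d)) lc_d_rc_15_1 lc_d_rc_15_1 lc_d_rc_16_2 lc_d_Cert_tree lc_d_rc_15_1 lc_d_rc_23_8 lc_d_Cert_tree lc_d_rc_15_1 lc_d_Cert_tree lc_d_rc_15_1 lc_d_Cert_tree lc_d_rc_15_1 lc_d_rc_27_8 lc_d_Cert_tree lc_d_Cert_tree lc_d_Cert_tree lc_d_rc_15_1 lc_d_rc_17_2 lc_d_rc_22_6 lc_d_rc_16_4 lc_d_rc_17_2 lc_d_Cert_tree lc_d_Cert_tree lc_d_rc_15_1 lc_d_rc_15_1 lc_d_Cert_tree lc_d_Cert_tree lc_d_rc_15_1 lc_d_rc_17_2 lc_d_Cert_tree lc_d_Cert_tree lc_d_rc_15_1 lc_d_rc_27_4 lc_d_Cert_tree lc_d_Cert_tree lc_d_rc_15_1 lc_d_rc_27_8 lc_d_rc_22_8 lc_d_rc_15_1 lc_d_Cert_tree lc_d_rc_17_2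 lc_d_rc_15_1 lc_d_rc_15_1 lc_d_rc_15_1 lc_d_rc_16_4 lc_d_rc_15_1 lc_d_rc_15_1 lc_d_rc_12_3 lc_d_rc_16_2 lc_d_rc_15_1 lc_d_rc_27_4 lc_d_Cert_tree lc_d_rc_15_1 lc_d_rc_22_4 lc_d_rc_17_2 lc_d_rc_8_3 lc_d_Cert_tree lc_d_rc_8_3 lc_d_rc_23_2 lc_d_Cert_tree lc_d_Cert_tree lc_d_rc_15_1) (@D3.rec (fun _ => (Cert rels S Gen.d)) lc_d_rc_17_2 lc_d_rc_23_4 lc_d_rc_22_6 lc_d_rc_16_2 lc_d_rc_17_2 lc_d_Cert_tree lc_d_Cert_tree lc_d_Cert_tree lc_d_rc_15_1 lc_d_rc_17_2 lc_d_rc_15_1 lc_d_rc_24_5 lc_d_rc_24_0 lc_d_Cert_tree lc_d_rc_17_2 lc_d_Cert_tree lc_d_rc_15_1 lc_d_rc_17_2 lc_d_Cert_tree lc_d_rc_15_1 lc_d_rc_17_2 lc_d_rc_15_1 lc_d_rc_27_8 lc_d_rc_17_0 lc_d_Cert_tree lc_d_rc_17_2 lc_d_Cert_tree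 lc_d_Cert_tree lc_d_rc_15_1 lc_d_rc_27_4 lc_d_rc_15_1 lc_d_rc_27_8 lc_d_rc_15_1 lc_d_rc_15_1 lc_d_Cert_tree lc_d_rc_17_2 lc_d_rc_15_1 lc_d_rc_8_1 lc_d_Cert_tree lc_d_rc_15_1 lc_d_rc_27_8 lc_d_rc_23_6 lc_d_rc_23_4 lc_d_Cert_tree lc_d_Cert_tree lc_d_rc_16_0 lc_d_rc_15_1 lc_d_rc_24_5 lc_d_Cert_tree lc_d_Cert_tree lc_d_Cert_tree lc_d_rc_15_1 lc_d_rc_27_4 lc_d_Cert_tree lc_d_rc_15_1 lc_d_Cert_tree lc_d_Cert_tree lc_d_Cert_tree lc_d_rc_15_1 lc_d_rc_27_2 lc_d_Cert_tree lc_d_Cert_tree) (@D3.rec (fun _ => (Cert rels S Gen.d)) lc_d_rc_15_1 lc_d_Cert_tree lc_d_rc_23_6 lc_d_Cert_tree lc_d_rc_15_1 lc_d_Cert_tree lc_d_Cert_tree lc_d_Cert_tree lc_d_Cert_tree lc_d_rc_15_1 lc_d_rc_17_2 lc_d_rc_16_4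 lc_d_rc_15_1 lc_d_rc_15_1 lc_d_rc_27_2 lc_d_Cert_tree lc_d_rc_15_1 lc_d_Cert_tree lc_d_rc_15_1 lc_d_rc_8_3 lc_d_Cert_tree lc_d_rc_16_2 lc_d_rc_16_0 lc_d_rc_16_2 lc_d_rc_27_4 lc_d_rc_24_0 lc_d_rc_15_1 lc_d_rc_24_0 lc_d_rc_8_3 lc_d_rc_3_3 lc_d_rc_27_10 lc_d_rc_15_1 lc_d_rc_17_2 lc_d_Cert_tree lc_d_rc_15_1 lc_d_rc_15_1 lc_d_rc_8_1 lc_d_rc_23_6 lc_d_Cert_tree lc_d_Cert_tree lc_d_rc_15_1 lc_d_rc_8_3 lc_d_rc_8_3 lc_d_rc_22_8 lc_d_rc_27_10 lc_d_rc_15_1 lc_d_rc_17_2 lc_d_rc_23_2 lc_d_rc_3_3 lc_d_Cert_tree lc_d_Cert_tree lc_d_rc_8_3 lc_d_Cert_tree lc_d_Cert_tree lc_d_rc_16_4 lc_d_rc_15_1 lc_d_rc_27_2 lc_d_rc_3_1 lc_d_Cert_tree lc_d_rc_16_4 lc_d_rc_8_3 lc_d_Cert_tree) (@D3.rec (fun _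 => (Cert rels S Gen.d)) lc_d_rc_27_4 lc_d_rc_15_1 lc_d_rc_17_2 lc_d_rc_8_3 lc_d_rc_16_2 lc_d_Cert_tree lc_d_Cert_tree lc_d_Cert_tree lc_d_rc_15_1 lc_d_rc_8_3 lc_d_rc_16_2 lc_d_rc_16_4 lc_d_Cert_tree lc_d_rc_23_2 lc_d_rc_8_3 lc_d_rc_15_1 lc_d_rc_15_1 lc_d_Cert_tree lc_d_Cert_tree lc_d_Cert_tree lc_d_rc_15_1 lc_d_rc_15_1 lc_d_rc_3_3 lc_d_rc_8_1 lc_d_rc_24_0 lc_d_Cert_tree lc_d_rc_16_2 lc_d_rc_8_3 lc_d_rc_8_3 lc_d_rc_27_2 lc_d_rc_8_3 lc_d_rc_15_1 lc_d_rc_16_4 lc_d_rc_22_8 lc_d_rc_24_0 lc_d_rc_8_3 lc_d_rc_24_0 lc_d_rc_24_0 lc_d_rc_27_4 lc_d_rc_15_1 lc_d_rc_17_2 lc_d_rc_15_1 lc_d_rc_15_1 lc_d_rc_3_3 lc_d_Cert_tree lc_d_rc_15_1 lc_d_rc_15_1 lc_d_rc_22_2 lc_d_rc_15_1 lc_d_rc_8_3 lc_d_Cert_tree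 lc_d_rc_16_2 lc_d_rc_12_15 lc_d_rc_8_3 lc_d_rc_8_3 lc_d_rc_8_3 lc_d_rc_22_8 lc_d_rc_27_10 lc_d_rc_17_2 lc_d_rc_15_1 lc_d_rc_27_4 lc_d_rc_3_3) (@D3.rec (fun _ => (Cert rels S Gen.d)) lc_d_Cert_tree lc_d_rc_15_1 lc_d_rc_17_0 lc_d_rc_15_1 lc_d_rc_16_4 lc_d_Cert_tree lc_d_rc_15_1 lc_d_rc_17_2 lc_d_Cert_tree lc_d_Cert_tree lc_d_rc_15_1 lc_d_rc_17_2 lc_d_Cert_tree lc_d_Cert_tree lc_d_rc_15_1 lc_d_rc_17_2 lc_d_Cert_tree lc_d_rc_15_1 lc_d_rc_17_2 lc_d_rc_15_1 lc_d_rc_17_2 lc_d_Cert_tree lc_d_rc_15_1 lc_d_rc_8_3 lc_d_Cert_tree lc_d_Cert_tree lc_d_rc_15_1 lc_d_rc_27_4 lc_d_rc_15_1 lc_d_rc_15_1 lc_d_Cert_tree lc_d_rc_17_2 lc_d_rc_15_1 lc_d_rc_27_4 lc_d_Cert_tree lc_d_rc_17_2 lc_d_rc_15_1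 lc_d_Cert_tree lc_d_rc_15_1 lc_d_rc_16_0 lc_d_rc_17_2 lc_d_rc_12_9 lc_d_Cert_tree lc_d_rc_23_4 lc_d_rc_16_4 lc_d_Cert_tree lc_d_rc_15_1 lc_d_rc_22_2 lc_d_rc_16_4 lc_d_rc_8_3 lc_d_rc_15_1 lc_d_rc_27_2 lc_d_rc_23_6 lc_d_Cert_tree lc_d_rc_17_2 lc_d_Cert_tree lc_d_rc_15_1 lc_d_rc_17_2 lc_d_rc_15_1 lc_d_rc_27_8 lc_d_rc_15_1 lc_d_Cert_tree) (@D3.rec (fun _ => (Cert rels S Gen.d)) lc_d_rc_17_2 lc_d_Cert_tree lc_d_rc_15_1 lc_d_rc_27_4 lc_d_rc_15_1 lc_d_rc_27_8 lc_d_rc_24_0 lc_d_rc_8_3 lc_d_Cert_tree lc_d_rc_17_2 lc_d_rc_23_6 lc_d_rc_15_1 lc_d_Cert_tree lc_d_Cert_tree lc_d_rc_8_3 lc_d_rc_15_1 lc_d_rc_15_1 lc_d_Cert_tree lc_d_rc_15_1 lc_d_rc_8_1 lc_d_rc_15_1 lc_d_rc_15_1 lc_d_Cert_tree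 lc_d_rc_16_2 lc_d_rc_3_3 lc_d_rc_27_2 lc_d_Cert_tree lc_d_Cert_tree lc_d_rc_8_1 lc_d_Cert_tree lc_d_Cert_tree lc_d_Cert_tree lc_d_Cert_tree lc_d_Cert_tree lc_d_rc_15_1 lc_d_rc_17_2 lc_d_rc_16_4 lc_d_Cert_tree lc_d_rc_15_1 lc_d_rc_15_1 lc_d_rc_8_3 lc_d_rc_15_1 lc_d_rc_23_6 lc_d_Cert_tree lc_d_rc_16_2 lc_d_rc_27_8 lc_d_rc_24_0 lc_d_rc_8_3 lc_d_rc_8_3 lc_d_rc_15_1 lc_d_rc_16_4 lc_d_rc_23_4 lc_d_rc_16_4 lc_d_rc_8_3 lc_d_rc_24_5 lc_d_rc_27_4 lc_d_rc_15_1 lc_d_rc_17_2 lc_d_rc_15_1 lc_d_rc_15_1 lc_d_rc_27_2 lc_d_rc_3_3) (@D3.rec (fun _ => (Cert rels S Gen.d)) lc_d_rc_8_3 lc_d_Cert_tree lc_d_rc_16_2 lc_d_rc_27_10 lc_d_rc_8_3 lc_d_rc_8_1 lc_d_rc_8_3 lc_d_Cert_tree lc_d_rc_27_10 lc_d_rc_17_2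 lc_d_rc_3_3 lc_d_Cert_tree lc_d_rc_15_1 lc_d_rc_8_3 lc_d_Cert_tree lc_d_Cert_tree lc_d_Cert_tree lc_d_rc_27_4 lc_d_rc_3_1 lc_d_Cert_tree lc_d_rc_16_4 lc_d_rc_8_3 lc_d_rc_24_0 lc_d_rc_27_4 lc_d_rc_15_1 lc_d_rc_17_2 lc_d_rc_8_3 lc_d_rc_16_2 lc_d_rc_15_1 lc_d_rc_27_8 lc_d_Cert_tree lc_d_Cert_tree lc_d_rc_3_3 lc_d_Cert_tree lc_d_Cert_tree lc_d_Cert_tree lc_d_rc_15_1 lc_d_rc_15_1 lc_d_rc_27_4 lc_d_rc_27_8 lc_d_rc_15_1 lc_d_Cert_tree lc_d_rc_16_2 lc_d_rc_27_2 lc_d_rc_24_5 lc_d_rc_23_2 lc_d_rc_8_3 lc_d_rc_15_1 lc_d_rc_8_3 lc_d_rc_22_6 lc_d_rc_27_10 lc_d_rc_15_1 lc_d_rc_17_2 lc_d_rc_8_1 lc_d_rc_23_8 lc_d_rc_15_1 lc_d_rc_23_6 lc_d_rc_3_3 lc_d_rc_8_1 lc_d_rc_23_6 lc_d_rc_15_1 lc_d_rc_15_1)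 (@D3.rec (fun _ => (Cert rels S Gen.d)) lc_d_Cert_tree lc_d_rc_23_6 lc_d_rc_15_1 lc_d_rc_22_2 lc_d_Cert_tree lc_d_Cert_tree lc_d_rc_15_1 lc_d_rc_15_1 lc_d_rc_27_10 lc_d_rc_8_3 lc_d_rc_15_1 lc_d_Cert_tree lc_d_Cert_tree lc_d_rc_23_8 lc_d_rc_24_0 lc_d_rc_15_1 lc_d_rc_8_3 lc_d_rc_8_3 lc_d_rc_24_0 lc_d_rc_27_10 lc_d_rc_15_1 lc_d_rc_17_2 lc_d_rc_8_3 lc_d_rc_24_0 lc_d_rc_3_3 lc_d_rc_15_1 lc_d_rc_15_1 lc_d_rc_8_1 lc_d_Cert_tree lc_d_rc_17_2 lc_d_rc_15_1 lc_d_Cert_tree lc_d_Cert_tree lc_d_Cert_tree lc_d_Cert_tree lc_d_rc_15_1 lc_d_rc_17_2 lc_d_rc_15_1 lc_d_rc_17_2 lc_d_rc_15_1 lc_d_rc_27_8 lc_d_Cert_tree lc_d_rc_17_2 lc_d_rc_15_1 lc_d_rc_15_1 lc_d_Cert_tree lc_d_Cert_tree lc_d_Cert_tree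 lc_d_Cert_tree lc_d_rc_15_1 lc_d_rc_17_2 lc_d_rc_15_1 lc_d_rc_23_2 lc_d_rc_15_1 lc_d_Cert_tree lc_d_rc_17_2 lc_d_rc_15_1 lc_d_rc_17_2 lc_d_rc_15_1 lc_d_rc_8_3 lc_d_Cert_tree lc_d_rc_17_2) (@D3.rec (fun _ => (Cert rels S Gen.d)) lc_d_rc_15_1 lc_d_rc_17_2 lc_d_rc_15_1 lc_d_rc_15_1 lc_d_Cert_tree lc_d_rc_15_1 lc_d_Cert_tree lc_d_rc_24_0 lc_d_Cert_tree lc_d_rc_17_2 lc_d_rc_15_1 lc_d_Cert_tree lc_d_rc_15_1 lc_d_Cert_tree lc_d_rc_17_2 lc_d_rc_23_6 lc_d_Cert_tree lc_d_rc_16_2 lc_d_rc_27_4 lc_d_rc_8_3 lc_d_rc_15_1 lc_d_rc_27_8 lc_d_Cert_tree lc_d_rc_16_2 lc_d_Cert_tree lc_d_Cert_tree lc_d_rc_8_1 lc_d_Cert_tree lc_d_rc_16_4 lc_d_Cert_tree lc_d_Cert_tree lc_d_Cert_tree lc_d_rc_15_1 lc_d_rc_22_4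 lc_d_rc_16_4 lc_d_rc_15_1 lc_d_rc_8_3 lc_d_rc_15_1 lc_d_rc_16_2 lc_d_rc_17_2 lc_d_Cert_tree lc_d_Cert_tree lc_d_Cert_tree lc_d_rc_15_1 lc_d_Cert_tree lc_d_rc_15_1 lc_d_rc_15_1 lc_d_rc_15_1 lc_d_rc_15_1 lc_d_rc_16_2 lc_d_Cert_tree lc_d_rc_15_1 lc_d_Cert_tree lc_d_rc_15_1 lc_d_Cert_tree lc_d_rc_8_3 lc_d_rc_8_3 lc_d_rc_8_3 lc_d_Cert_tree lc_d_rc_15_1 lc_d_rc_27_4 lc_d_rc_15_1) (@D3.rec (fun _ => (Cert rels S Gen.d)) lc_d_rc_16_0 lc_d_rc_15_1 lc_d_Cert_tree lc_d_Cert_tree lc_d_rc_15_1 lc_d_rc_24_5 lc_d_Cert_tree lc_d_Cert_tree lc_d_Cert_tree lc_d_rc_15_1 lc_d_rc_17_2 lc_d_rc_23_6 lc_d_rc_12_9 lc_d_rc_22_6 lc_d_rc_16_4 lc_d_rc_17_2 lc_d_Cert_tree lc_d_Cert_tree lc_d_rc_15_1 lc_d_Cert_tree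 lc_d_Cert_tree lc_d_rc_15_1 lc_d_rc_23_8 lc_d_rc_23_8 lc_d_Cert_tree lc_d_rc_15_1 lc_d_rc_8_1 lc_d_Cert_tree lc_d_rc_22_2 lc_d_rc_22_8 lc_d_rc_15_1 lc_d_rc_27_10 lc_d_rc_15_1 lc_d_rc_15_1 lc_d_Cert_tree lc_d_Cert_tree lc_d_Cert_tree lc_d_rc_15_1 lc_d_Cert_tree lc_d_Cert_tree lc_d_Cert_tree lc_d_rc_15_1 lc_d_rc_17_2 lc_d_Cert_tree lc_d_rc_23_8 lc_d_rc_23_8 lc_d_Cert_tree lc_d_rc_15_1 lc_d_rc_16_4 lc_d_rc_25_2 lc_d_rc_8_3 lc_d_Cert_tree lc_d_rc_15_1 lc_d_Cert_tree lc_d_Cert_tree lc_d_Cert_tree lc_d_Cert_tree lc_d_rc_15_1 lc_d_rc_17_2 lc_d_Cert_tree lc_d_Cert_tree lc_d_Cert_tree) (@D3.rec (fun _ => (Cert rels S Gen.d)) lc_d_rc_15_1 lc_d_rc_17_2 lc_d_Cert_tree lc_d_Cert_tree lc_d_Cert_tree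 lc_d_rc_15_1 lc_d_Cert_tree lc_d_Cert_tree lc_d_rc_15_1 lc_d_rc_17_2 lc_d_Cert_tree lc_d_Cert_tree lc_d_Cert_tree lc_d_Cert_tree lc_d_rc_15_1 lc_d_Cert_tree lc_d_rc_17_2 lc_d_Cert_tree lc_d_Cert_tree lc_d_rc_15_1 lc_d_Cert_tree lc_d_rc_15_1 lc_d_rc_15_1 lc_d_rc_24_0 lc_d_Cert_tree lc_d_rc_16_4 lc_d_rc_17_2 lc_d_Cert_tree lc_d_rc_8_3 lc_d_Cert_tree lc_d_rc_22_2 lc_d_Cert_tree lc_d_Cert_tree lc_d_Cert_tree lc_d_rc_17_2 lc_d_Cert_tree lc_d_Cert_tree lc_d_Cert_tree lc_d_rc_15_1 lc_d_Cert_tree lc_d_rc_15_1 lc_d_Cert_tree lc_d_rc_15_1 lc_d_rc_17_0 lc_d_Cert_tree lc_d_Cert_tree lc_d_rc_15_1 lc_d_rc_17_2 lc_d_rc_15_1 lc_d_rc_3_3 lc_d_rc_24_0 lc_d_Cert_tree lc_d_rc_17_2 lc_d_rc_15_1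 lc_d_rc_27_8 lc_d_rc_23_4 lc_d_Cert_tree lc_d_rc_17_2 lc_d_rc_15_1 lc_d_rc_27_8 lc_d_rc_15_1 lc_d_Cert_tree) (@D3.rec (fun _ => (Cert rels S Gen.d)) lc_d_rc_17_2 lc_d_rc_15_1 lc_d_rc_8_1 lc_d_rc_15_1 lc_d_rc_8_3 lc_d_Cert_tree lc_d_Cert_tree lc_d_rc_8_1 lc_d_rc_15_1 lc_d_rc_27_4 lc_d_Cert_tree lc_d_rc_16_2 lc_d_rc_8_3 lc_d_rc_8_3 lc_d_Cert_tree lc_d_Cert_tree lc_d_Cert_tree lc_d_Cert_tree lc_d_Cert_tree lc_d_Cert_tree lc_d_Cert_tree lc_d_rc_15_1 lc_d_rc_17_2 lc_d_rc_16_4 lc_d_rc_15_1 lc_d_rc_23_4 lc_d_Cert_tree lc_d_rc_16_2 lc_d_rc_16_0 lc_d_rc_15_1 lc_d_rc_17_2 lc_d_rc_23_6 lc_d_rc_15_1 lc_d_Cert_tree lc_d_rc_15_1 lc_d_rc_27_10 lc_d_rc_15_1 lc_d_rc_17_2 lc_d_Cert_tree lc_d_rc_15_1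 lc_d_rc_23_8 lc_d_Cert_tree lc_d_rc_16_2 lc_d_Cert_tree lc_d_rc_15_1 lc_d_Cert_tree lc_d_rc_15_1 lc_d_rc_17_2 lc_d_Cert_tree lc_d_Cert_tree lc_d_Cert_tree lc_d_rc_15_1 lc_d_Cert_tree lc_d_Cert_tree lc_d_Cert_tree lc_d_rc_15_1 lc_d_rc_15_1 lc_d_rc_24_5 lc_d_Cert_tree lc_d_rc_16_4 lc_d_Cert_tree lc_d_rc_15_1) (@D3.rec (fun _ => (Cert rels S Gen.d)) lc_d_rc_27_8 lc_d_rc_15_1 lc_d_rc_27_10 lc_d_rc_17_2 lc_d_Cert_tree lc_d_rc_15_1 lc_d_Cert_tree lc_d_Cert_tree lc_d_rc_15_1 lc_d_rc_22_6 lc_d_Cert_tree lc_d_Cert_tree lc_d_Cert_tree lc_d_rc_15_1 lc_d_rc_8_3 lc_d_rc_23_6 lc_d_rc_23_6 lc_d_rc_16_4 lc_d_Cert_tree lc_d_Cert_tree lc_d_Cert_tree lc_d_rc_8_3 lc_d_rc_16_4 lc_d_rc_8_3 lc_d_rc_16_4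 lc_d_rc_27_10 lc_d_rc_15_1 lc_d_rc_22_2 lc_d_rc_8_3 lc_d_rc_8_3 lc_d_rc_8_3 lc_d_rc_15_1 lc_d_rc_8_1 lc_d_rc_27_2 lc_d_rc_15_1 lc_d_rc_16_4 lc_d_rc_27_2 lc_d_rc_15_1 lc_d_rc_15_1 lc_d_rc_23_4 lc_d_Cert_tree lc_d_rc_16_2 lc_d_rc_24_0 lc_d_rc_8_3 lc_d_rc_8_3 lc_d_Cert_tree lc_d_rc_24_0 lc_d_rc_15_1 lc_d_rc_17_2 lc_d_rc_8_3 lc_d_rc_27_10 lc_d_Cert_tree lc_d_rc_15_1 lc_d_rc_8_3 lc_d_rc_8_3 lc_d_rc_15_1 lc_d_rc_15_1 lc_d_rc_16_4 lc_d_Cert_tree lc_d_Cert_tree lc_d_rc_8_3 lc_d_rc_8_3) (@D3.rec (fun _ => (Cert rels S Gen.d)) lc_d_Cert_tree lc_d_rc_15_1 lc_d_Cert_tree lc_d_Cert_tree lc_d_rc_15_1 lc_d_rc_23_2 lc_d_rc_15_1 lc_d_Cert_tree lc_d_Cert_tree lc_d_Cert_tree lc_d_rc_15_1 lc_d_Cert_tree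 lc_d_Cert_tree lc_d_rc_15_1 lc_d_rc_22_2 lc_d_Cert_tree lc_d_Cert_tree lc_d_Cert_tree lc_d_Cert_tree lc_d_rc_15_1 lc_d_Cert_tree lc_d_Cert_tree lc_d_rc_15_1 lc_d_rc_27_4 lc_d_Cert_tree lc_d_Cert_tree lc_d_Cert_tree lc_d_rc_15_1 lc_d_rc_17_2 lc_d_Cert_tree lc_d_rc_15_1 lc_d_Cert_tree lc_d_rc_15_1 lc_d_rc_24_0 lc_d_rc_23_6 lc_d_Cert_tree lc_d_rc_16_4 lc_d_rc_17_2 lc_d_Cert_tree lc_d_rc_15_1 lc_d_rc_23_4 lc_d_rc_8_3 lc_d_rc_15_1 lc_d_rc_8_3 lc_d_Cert_tree lc_d_Cert_tree lc_d_Cert_tree lc_d_rc_17_2 lc_d_Cert_tree lc_d_rc_15_1 lc_d_rc_27_4 lc_d_rc_15_1 lc_d_rc_8_3 lc_d_rc_8_3 lc_d_rc_22_6 lc_d_Cert_tree lc_d_rc_15_1 lc_d_rc_15_1 lc_d_rc_17_2 lc_d_rc_3_1 lc_d_rc_15_1 lc_d_rc_22_8)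 (@D3.rec (fun _ => (Cert rels S Gen.d)) lc_d_Cert_tree lc_d_rc_15_1 lc_d_rc_27_2 lc_d_Cert_tree lc_d_rc_15_1 lc_d_rc_15_1 lc_d_rc_27_4 lc_d_rc_15_1 lc_d_Cert_tree lc_d_rc_27_4 lc_d_rc_8_3 lc_d_rc_15_1 lc_d_rc_15_1 lc_d_rc_8_3 lc_d_rc_15_1 lc_d_rc_16_4 lc_d_rc_15_1 lc_d_rc_17_2 lc_d_rc_22_6 lc_d_rc_15_1 lc_d_rc_24_0 lc_d_rc_15_1 lc_d_rc_24_5 lc_d_rc_24_5 lc_d_rc_15_1 lc_d_rc_16_4 lc_d_rc_17_2 lc_d_rc_24_5 lc_d_rc_24_5 lc_d_Cert_tree lc_d_rc_15_1 lc_d_Cert_tree lc_d_rc_15_1 lc_d_Cert_tree lc_d_Cert_tree lc_d_rc_15_1 lc_d_rc_17_2 lc_d_rc_15_1 lc_d_rc_17_2 lc_d_Cert_tree lc_d_rc_15_1 lc_d_Cert_tree lc_d_rc_15_1 lc_d_rc_15_1 lc_d_rc_17_2 lc_d_Cert_tree lc_d_rc_15_1 lc_d_Cert_tree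 lc_d_rc_15_1 lc_d_Cert_tree lc_d_rc_15_1 lc_d_Cert_tree lc_d_rc_15_1 lc_d_rc_15_1 lc_d_Cert_tree lc_d_Cert_tree lc_d_Cert_tree lc_d_Cert_tree lc_d_Cert_tree lc_d_rc_15_1 lc_d_rc_17_2 lc_d_rc_22_2) (@D3.rec (fun _ => (Cert rels S Gen.d)) lc_d_rc_22_4 lc_d_rc_15_1 lc_d_rc_17_2 lc_d_rc_22_8 lc_d_rc_17_2 lc_d_Cert_tree lc_d_rc_15_1 lc_d_Cert_tree lc_d_Cert_tree lc_d_rc_15_1 lc_d_Cert_tree lc_d_Cert_tree lc_d_rc_15_1 lc_d_Cert_tree lc_d_Cert_tree lc_d_Cert_tree lc_d_rc_15_1 lc_d_Cert_tree lc_d_Cert_tree lc_d_Cert_tree lc_d_Cert_tree lc_d_Cert_tree lc_d_rc_15_1 lc_d_rc_17_2 lc_d_rc_23_2 lc_d_rc_23_2 lc_d_rc_15_1 lc_d_rc_17_2 lc_d_rc_15_1 lc_d_rc_17_2 lc_d_Cert_tree lc_d_Cert_tree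 lc_d_rc_15_1 lc_d_Cert_tree lc_d_Cert_tree lc_d_Cert_tree lc_d_rc_15_1 lc_d_Cert_tree lc_d_rc_17_2 lc_d_Cert_tree lc_d_Cert_tree lc_d_Cert_tree lc_d_rc_15_1 lc_d_Cert_tree lc_d_rc_17_2 lc_d_rc_8_3 lc_d_Cert_tree lc_d_Cert_tree lc_d_rc_17_2 lc_d_Cert_tree lc_d_rc_15_1 lc_d_rc_17_2 lc_d_Cert_tree lc_d_rc_23_2 lc_d_rc_15_1 lc_d_Cert_tree lc_d_rc_15_1 lc_d_Cert_tree lc_d_Cert_tree lc_d_Cert_tree lc_d_Cert_tree lc_d_rc_15_1) (@D3.rec (fun _ => (Cert rels S Gen.d)) lc_d_rc_17_2 lc_d_Cert_tree lc_d_rc_16_4 lc_d_rc_24_5 lc_d_rc_8_3 lc_d_Cert_tree lc_d_Cert_tree lc_d_rc_16_4 lc_d_Cert_tree lc_d_Cert_tree lc_d_rc_15_1 lc_d_Cert_tree lc_d_Cert_tree lc_d_Cert_tree lc_d_rc_17_2 lc_d_Cert_tree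 lc_d_rc_15_1 lc_d_rc_15_1 lc_d_Cert_tree lc_d_Cert_tree lc_d_Cert_tree lc_d_Cert_tree lc_d_rc_15_1 lc_d_rc_17_2 lc_d_rc_15_1 lc_d_Cert_tree lc_d_Cert_tree lc_d_Cert_tree lc_d_Cert_tree lc_d_rc_15_1 lc_d_rc_17_2 lc_d_Cert_tree lc_d_rc_15_1 lc_d_rc_27_8 lc_d_Cert_tree lc_d_rc_15_1 lc_d_rc_15_1 lc_d_Cert_tree lc_d_rc_15_1 lc_d_rc_15_1 lc_d_rc_15_1 lc_d_rc_22_6 lc_d_rc_15_1 lc_d_rc_15_1 lc_d_rc_23_2 lc_d_rc_15_1 lc_d_rc_15_1 lc_d_rc_23_8 lc_d_rc_24_0 lc_d_rc_15_1 lc_d_rc_15_1 lc_d_rc_16_4 lc_d_rc_8_3 lc_d_Cert_tree lc_d_Cert_tree lc_d_rc_27_4 lc_d_rc_15_1 lc_d_rc_27_2 lc_d_rc_22_6 lc_d_rc_16_4 lc_d_rc_17_2 lc_d_rc_24_5) (@D3.rec (fun _ => (Cert rels S Gen.d)) lc_d_Cert_tree lc_d_Cert_tree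 lc_d_Cert_tree lc_d_rc_16_4 lc_d_Cert_tree lc_d_Cert_tree lc_d_rc_17_2 lc_d_rc_8_3 lc_d_rc_15_1 lc_d_Cert_tree lc_d_rc_15_1 lc_d_rc_27_8 lc_d_rc_15_1 lc_d_Cert_tree lc_d_rc_15_1 lc_d_Cert_tree lc_d_rc_16_4 lc_d_Cert_tree lc_d_Cert_tree lc_d_rc_16_4 lc_d_Cert_tree lc_d_Cert_tree lc_d_Cert_tree lc_d_rc_15_1 lc_d_Cert_tree lc_d_Cert_tree lc_d_rc_8_3 lc_d_rc_17_2 lc_d_rc_3_3 lc_d_Cert_tree lc_d_Cert_tree lc_d_Cert_tree lc_d_rc_15_1 lc_d_rc_17_2 lc_d_rc_27_4 lc_d_Cert_tree lc_d_rc_15_1 lc_d_rc_27_4 lc_d_rc_24_0 lc_d_Cert_tree lc_d_rc_15_1 lc_d_Cert_tree lc_d_rc_8_3 lc_d_Cert_tree lc_d_rc_8_3 lc_d_Cert_tree lc_d_Cert_tree lc_d_Cert_tree lc_d_Cert_tree lc_d_rc_15_1 lc_d_rc_17_2 lc_d_rc_23_6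 lc_d_rc_15_1 lc_d_Cert_tree lc_d_rc_17_2 lc_d_rc_24_5 lc_d_rc_15_1 lc_d_rc_23_8 lc_d_rc_15_1 lc_d_rc_27_2 lc_d_Cert_tree lc_d_rc_27_2) (@D3.rec (fun _ => (Cert rels S Gen.d)) lc_d_rc_8_3 lc_d_rc_15_1 lc_d_rc_27_8 lc_d_rc_23_8 lc_d_rc_23_8 lc_d_rc_16_4 lc_d_rc_23_8 lc_d_rc_8_3 lc_d_rc_15_1 lc_d_rc_15_1 lc_d_Cert_tree lc_d_Cert_tree lc_d_rc_15_1 lc_d_rc_8_1 lc_d_rc_27_2 lc_d_rc_15_1 lc_d_rc_24_0 lc_d_rc_15_1 lc_d_rc_16_4 lc_d_rc_17_2 lc_d_Cert_tree lc_d_rc_15_1 lc_d_Cert_tree lc_d_rc_15_1 lc_d_rc_8_3 lc_d_rc_16_0 lc_d_Cert_tree lc_d_rc_17_2 lc_d_rc_15_1 lc_d_rc_12_15 lc_d_Cert_tree lc_d_rc_15_1 lc_d_rc_23_4 lc_d_rc_16_4 lc_d_rc_8_1 lc_d_rc_15_1 lc_d_rc_16_4 lc_d_rc_24_0 lc_d_Cert_tree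 lc_d_rc_15_1 lc_d_rc_23_2 lc_d_rc_16_4 lc_d_rc_15_1 lc_d_rc_23_8 lc_d_rc_24_0 lc_d_Cert_tree lc_d_rc_15_1 lc_d_rc_23_2 lc_d_Cert_tree lc_d_rc_15_1 lc_d_rc_17_2 lc_d_rc_15_1 lc_d_rc_15_1 lc_d_Cert_tree lc_d_Cert_tree lc_d_rc_24_5 lc_d_Cert_tree lc_d_Cert_tree lc_d_rc_3_1 lc_d_Cert_tree lc_d_rc_15_1 lc_d_rc_8_1) (@D3.rec (fun _ => (Cert rels S Gen.d)) lc_d_rc_15_1 lc_d_rc_15_1 lc_d_rc_22_4 lc_d_rc_17_2 lc_d_Cert_tree lc_d_Cert_tree lc_d_rc_15_1 lc_d_rc_3_1 lc_d_rc_22_6 lc_d_rc_15_1 lc_d_rc_24_0 lc_d_rc_8_3 lc_d_rc_3_3 lc_d_rc_24_5 lc_d_rc_3_3 lc_d_rc_16_2 lc_d_Cert_tree lc_d_rc_23_8 lc_d_rc_15_1 lc_d_Cert_tree lc_d_Cert_tree lc_d_rc_15_1 lc_d_rc_22_2 lc_d_rc_24_5 lc_d_Cert_tree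 lc_d_rc_8_3 lc_d_rc_15_1 lc_d_Cert_tree lc_d_rc_15_1 lc_d_Cert_tree lc_d_rc_15_1 lc_d_rc_17_0 lc_d_rc_27_10 lc_d_rc_15_1 lc_d_Cert_tree lc_d_rc_17_2 lc_d_rc_8_3 lc_d_rc_15_1 lc_d_rc_24_5 lc_d_rc_15_1 lc_d_rc_15_1 lc_d_Cert_tree lc_d_rc_15_1 lc_d_rc_27_4 lc_d_rc_8_3 lc_d_rc_16_4 lc_d_rc_15_1 lc_d_rc_15_1 lc_d_rc_15_1 lc_d_rc_23_2 lc_d_rc_15_1 lc_d_rc_15_1 lc_d_rc_23_8 lc_d_rc_15_1 lc_d_Cert_tree lc_d_rc_8_3 lc_d_Cert_tree lc_d_rc_15_1 lc_d_rc_15_1 lc_d_rc_22_8 lc_d_rc_16_4 lc_d_rc_17_0) (@D3.rec (fun _ => (Cert rels S Gen.d)) lc_d_rc_16_4 lc_d_rc_8_3 lc_d_rc_16_4 lc_d_rc_23_2 lc_d_rc_15_1 lc_d_Cert_tree lc_d_rc_15_1 lc_d_rc_15_1 lc_d_Cert_tree lc_d_rc_23_2 lc_d_Cert_tree lc_d_rc_17_2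 lc_d_rc_27_4 lc_d_rc_16_4 lc_d_rc_27_4 lc_d_rc_8_3 lc_d_rc_27_4 lc_d_rc_22_2 lc_d_Cert_tree lc_d_rc_15_1 lc_d_rc_15_1 lc_d_rc_23_2 lc_d_rc_16_4 lc_d_rc_15_1 lc_d_Cert_tree lc_d_rc_8_1 lc_d_rc_23_2 lc_d_rc_16_4 lc_d_rc_17_2 lc_d_rc_25_18 lc_d_Cert_tree lc_d_Cert_tree lc_d_Cert_tree lc_d_rc_15_1 lc_d_Cert_tree lc_d_rc_15_1 lc_d_rc_25_14 lc_d_Cert_tree lc_d_rc_15_1 lc_d_rc_24_5 lc_d_Cert_tree lc_d_Cert_tree lc_d_Cert_tree lc_d_Cert_tree lc_d_Cert_tree lc_d_Cert_tree lc_d_Cert_tree lc_d_rc_15_1 lc_d_Cert_tree lc_d_rc_15_1 lc_d_rc_17_2 lc_d_rc_12_7 lc_d_Cert_tree lc_d_rc_23_2 lc_d_rc_24_0 lc_d_Cert_tree lc_d_rc_15_1 lc_d_Cert_tree lc_d_Cert_tree lc_d_Cert_tree lc_d_rc_15_1 lc_d_rc_17_2)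 (@D3.rec (fun _ => (Cert rels S Gen.d)) lc_d_rc_3_3 lc_d_Cert_tree lc_d_Cert_tree lc_d_rc_15_1 lc_d_Cert_tree lc_d_Cert_tree lc_d_rc_15_1 lc_d_rc_17_2 lc_d_Cert_tree lc_d_rc_15_1 lc_d_Cert_tree lc_d_Cert_tree lc_d_rc_15_1 lc_d_Cert_tree lc_d_Cert_tree lc_d_Cert_tree lc_d_Cert_tree lc_d_rc_15_1 lc_d_Cert_tree lc_d_rc_23_2 lc_d_rc_27_10 lc_d_rc_22_8 lc_d_Cert_tree lc_d_rc_17_2 lc_d_Cert_tree lc_d_Cert_tree lc_d_rc_15_1 lc_d_rc_17_2 lc_d_Cert_tree lc_d_rc_8_3 lc_d_Cert_tree lc_d_rc_27_4 lc_d_Cert_tree lc_d_rc_16_4 lc_d_Cert_tree lc_d_Cert_tree lc_d_rc_15_1 lc_d_Cert_tree lc_d_rc_15_1 lc_d_rc_8_1 lc_d_Cert_tree lc_d_rc_15_1 lc_d_rc_24_0 lc_d_Cert_tree lc_d_rc_22_2 lc_d_Cert_tree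 lc_d_rc_22_8 lc_d_rc_8_3 lc_d_rc_15_1 lc_d_Cert_tree lc_d_Cert_tree lc_d_Cert_tree lc_d_rc_15_1 lc_d_rc_17_2 lc_d_Cert_tree lc_d_rc_15_1 lc_d_rc_15_1 lc_d_Cert_tree lc_d_rc_15_1 lc_d_rc_15_1 lc_d_Cert_tree lc_d_rc_17_2) (@D3.rec (fun _ => (Cert rels S Gen.d)) lc_d_rc_22_8 lc_d_Cert_tree lc_d_rc_15_1 lc_d_Cert_tree lc_d_Cert_tree lc_d_Cert_tree lc_d_rc_15_1 lc_d_rc_17_2 lc_d_rc_15_1 lc_d_Cert_tree lc_d_rc_15_1 lc_d_rc_15_1 lc_d_rc_15_1 lc_d_Cert_tree lc_d_rc_17_2 lc_d_rc_23_6 lc_d_Cert_tree lc_d_rc_16_4 lc_d_rc_24_0 lc_d_Cert_tree lc_d_Cert_tree lc_d_Cert_tree lc_d_Cert_tree lc_d_Cert_tree lc_d_rc_15_1 lc_d_rc_17_2 lc_d_Cert_tree lc_d_rc_15_1 lc_d_rc_27_4 lc_d_Cert_tree lc_d_rc_15_1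 lc_d_rc_15_1 lc_d_Cert_tree lc_d_rc_15_1 lc_d_Cert_tree lc_d_rc_17_2 lc_d_rc_24_0 lc_d_Cert_tree lc_d_Cert_tree lc_d_Cert_tree lc_d_rc_15_1 lc_d_Cert_tree lc_d_rc_15_1 lc_d_rc_24_5 lc_d_rc_27_2 lc_d_rc_16_4 lc_d_rc_27_2 lc_d_rc_15_1 lc_d_rc_24_5 lc_d_rc_15_1 lc_d_rc_15_1 lc_d_rc_27_4 lc_d_Cert_tree lc_d_rc_15_1 lc_d_rc_15_1 lc_d_rc_15_1 lc_d_Cert_tree lc_d_rc_15_1 lc_d_rc_16_2 lc_d_rc_8_3 lc_d_rc_23_4 lc_d_rc_16_4) (@D3.rec (fun _ => (Cert rels S Gen.d)) lc_d_rc_8_3 lc_d_Cert_tree lc_d_Cert_tree lc_d_Cert_tree lc_d_rc_15_1 lc_d_rc_17_2 lc_d_rc_15_1 lc_d_rc_27_8 lc_d_rc_22_8 lc_d_Cert_tree lc_d_rc_17_2 lc_d_Cert_tree lc_d_rc_15_1 lc_d_rc_27_4 lc_d_rc_15_1 lc_d_rc_8_3 lc_d_rc_15_1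 lc_d_rc_15_1 lc_d_Cert_tree lc_d_rc_17_2 lc_d_rc_15_1 lc_d_rc_27_4 lc_d_rc_15_1 lc_d_rc_27_2 lc_d_rc_15_1 lc_d_Cert_tree lc_d_Cert_tree lc_d_rc_15_1 lc_d_rc_12_15 lc_d_Cert_tree lc_d_rc_15_1 lc_d_rc_8_3 lc_d_rc_15_1 lc_d_rc_27_8 lc_d_Cert_tree lc_d_rc_16_2 lc_d_rc_8_3 lc_d_rc_15_1 lc_d_Cert_tree lc_d_rc_27_4 lc_d_rc_24_5 lc_d_Cert_tree lc_d_Cert_tree lc_d_Cert_tree lc_d_Cert_tree lc_d_Cert_tree lc_d_rc_15_1 lc_d_rc_17_2 lc_d_rc_16_4 lc_d_rc_3_3 lc_d_Cert_tree lc_d_rc_15_1 lc_d_Cert_tree lc_d_Cert_tree lc_d_rc_24_0 lc_d_rc_3_3 lc_d_Cert_tree lc_d_rc_16_4 lc_d_rc_27_10 lc_d_rc_15_1 lc_d_rc_17_2 lc_d_Cert_tree) (@D3.rec (fun _ => (Cert rels S Gen.d)) lc_d_rc_8_3 lc_d_Cert_tree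 lc_d_rc_15_1 lc_d_rc_8_3 lc_d_rc_16_2 lc_d_rc_16_4 lc_d_Cert_tree lc_d_rc_15_1 lc_d_rc_16_2 lc_d_rc_27_4 lc_d_rc_27_2 lc_d_rc_8_3 lc_d_rc_3_1 lc_d_rc_3_3 lc_d_rc_16_4 lc_d_rc_15_1 lc_d_rc_3_3 lc_d_rc_8_3 lc_d_Cert_tree lc_d_rc_15_1 lc_d_rc_16_4 lc_d_Cert_tree lc_d_Cert_tree lc_d_Cert_tree lc_d_rc_15_1 lc_d_rc_22_4 lc_d_rc_16_4 lc_d_rc_3_3 lc_d_Cert_tree lc_d_rc_15_1 lc_d_Cert_tree lc_d_Cert_tree lc_d_rc_24_0 lc_d_rc_3_3 lc_d_Cert_tree lc_d_rc_16_4 lc_d_rc_27_10 lc_d_rc_15_1 lc_d_Cert_tree lc_d_Cert_tree lc_d_rc_3_3 lc_d_Cert_tree lc_d_rc_15_1 lc_d_rc_3_3 lc_d_rc_27_2 lc_d_rc_23_2 lc_d_rc_8_3 lc_d_rc_15_1 lc_d_rc_15_1 lc_d_rc_15_1 lc_d_rc_15_1 lc_d_Cert_tree lc_d_Cert_tree lc_d_rc_15_1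 lc_d_rc_17_2 lc_d_Cert_tree lc_d_rc_15_1 lc_d_rc_17_2 lc_d_rc_15_1 lc_d_rc_24_0 lc_d_Cert_tree lc_d_rc_17_2) (@D3.rec (fun _ => (Cert rels S Gen.d)) lc_d_Cert_tree lc_d_rc_15_1 lc_d_rc_17_2 lc_d_rc_15_1 lc_d_rc_27_8 lc_d_rc_23_6 lc_d_Cert_tree lc_d_rc_17_2 lc_d_rc_15_1 lc_d_rc_27_4 lc_d_rc_15_1 lc_d_rc_23_4 lc_d_rc_15_1 lc_d_Cert_tree lc_d_rc_17_2 lc_d_rc_15_1 lc_d_rc_27_4 lc_d_Cert_tree lc_d_rc_15_1 lc_d_Cert_tree lc_d_rc_8_3 lc_d_Cert_tree lc_d_Cert_tree lc_d_rc_15_1 lc_d_rc_24_5 lc_d_Cert_tree lc_d_rc_15_1 lc_d_rc_24_5 lc_d_rc_15_1 lc_d_rc_27_8 lc_d_Cert_tree lc_d_rc_16_2 lc_d_rc_8_3 lc_d_Cert_tree lc_d_Cert_tree lc_d_rc_15_1 lc_d_Cert_tree lc_d_Cert_tree lc_d_Cert_tree lc_d_Cert_tree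 lc_d_Cert_tree lc_d_rc_15_1 lc_d_rc_17_2 lc_d_rc_16_4 lc_d_Cert_tree lc_d_Cert_tree lc_d_Cert_tree lc_d_rc_15_1 lc_d_rc_27_4 lc_d_rc_3_1 lc_d_Cert_tree lc_d_rc_16_4 lc_d_rc_27_10 lc_d_rc_27_10 lc_d_rc_17_2 lc_d_Cert_tree lc_d_Cert_tree lc_d_Cert_tree lc_d_rc_15_1 lc_d_rc_8_3 lc_d_rc_16_4 lc_d_Cert_tree) (@D3.rec (fun _ => (Cert rels S Gen.d)) lc_d_Cert_tree lc_d_Cert_tree lc_d_rc_23_8 lc_d_rc_23_6 lc_d_rc_8_3 lc_d_Cert_tree lc_d_rc_27_2 lc_d_rc_27_4 lc_d_rc_24_0 lc_d_rc_23_2 lc_d_rc_15_1 lc_d_Cert_tree lc_d_rc_15_1 lc_d_rc_24_5 lc_d_Cert_tree lc_d_rc_16_2 lc_d_rc_23_6 lc_d_Cert_tree lc_d_rc_15_1 lc_d_rc_23_2 lc_d_rc_3_3 lc_d_rc_16_2 lc_d_rc_15_1 lc_d_rc_8_3 lc_d_rc_15_1 lc_d_rc_27_2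 lc_d_rc_27_2 lc_d_Cert_tree lc_d_Cert_tree lc_d_Cert_tree lc_d_Cert_tree lc_d_rc_15_1 lc_d_rc_17_2 lc_d_Cert_tree lc_d_Cert_tree lc_d_rc_15_1 lc_d_Cert_tree lc_d_rc_15_1 lc_d_rc_15_1 lc_d_rc_15_1 lc_d_Cert_tree lc_d_rc_16_4 lc_d_rc_17_2 lc_d_Cert_tree lc_d_rc_8_3 lc_d_Cert_tree lc_d_Cert_tree lc_d_rc_15_1 lc_d_rc_17_2 lc_d_Cert_tree lc_d_rc_15_1 lc_d_Cert_tree lc_d_Cert_tree lc_d_Cert_tree lc_d_rc_15_1 lc_d_rc_17_2 lc_d_Cert_tree lc_d_rc_15_1 lc_d_rc_15_1 lc_d_Cert_tree lc_d_Cert_tree lc_d_rc_15_1) (@D3.rec (fun _ => (Cert rels S Gen.d)) lc_d_Cert_tree lc_d_Cert_tree lc_d_rc_15_1 lc_d_Cert_tree lc_d_Cert_tree lc_d_Cert_tree lc_d_rc_15_1 lc_d_rc_27_2 lc_d_rc_17_2 lc_d_rc_17_0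 lc_d_Cert_tree lc_d_Cert_tree lc_d_rc_17_2 lc_d_Cert_tree lc_d_rc_15_1 lc_d_rc_17_2 lc_d_Cert_tree lc_d_Cert_tree lc_d_Cert_tree lc_d_Cert_tree lc_d_rc_15_1 lc_d_Cert_tree lc_d_rc_15_1 lc_d_Cert_tree lc_d_Cert_tree lc_d_Cert_tree lc_d_Cert_tree lc_d_rc_15_1 lc_d_rc_17_2 lc_d_rc_8_3 lc_d_rc_8_3 lc_d_rc_22_4 lc_d_rc_16_4 lc_d_rc_8_3 lc_d_Cert_tree lc_d_Cert_tree lc_d_rc_8_3 lc_d_Cert_tree lc_d_Cert_tree lc_d_Cert_tree lc_d_Cert_tree lc_d_rc_15_1 lc_d_Cert_tree lc_d_rc_17_2 lc_d_Cert_tree lc_d_Cert_tree lc_d_rc_17_2 lc_d_Cert_tree lc_d_Cert_tree lc_d_rc_15_1 lc_d_Cert_tree lc_d_rc_15_1 lc_d_rc_27_4 lc_d_Cert_tree lc_d_rc_15_1 lc_d_rc_15_1 lc_d_rc_15_1 lc_d_rc_23_4 lc_d_Cert_tree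 lc_d_rc_15_1 lc_d_rc_23_2 lc_d_Cert_tree) (@D3.rec (fun _ => (Cert rels S Gen.d)) lc_d_rc_15_1 lc_d_rc_16_2 lc_d_rc_27_2 lc_d_rc_15_1 lc_d_Cert_tree lc_d_rc_15_1 lc_d_Cert_tree lc_d_rc_15_1 lc_d_rc_15_1 lc_d_rc_24_0 lc_d_Cert_tree lc_d_rc_17_2 lc_d_Cert_tree lc_d_rc_15_1 lc_d_rc_8_1 lc_d_rc_15_1 lc_d_rc_27_4 lc_d_rc_15_1 lc_d_rc_8_3 lc_d_Cert_tree lc_d_rc_16_2 lc_d_rc_15_1 lc_d_Cert_tree lc_d_rc_15_1 lc_d_Cert_tree lc_d_Cert_tree lc_d_Cert_tree lc_d_rc_15_1 lc_d_rc_12_1 lc_d_Cert_tree lc_d_rc_8_3 lc_d_rc_8_3 lc_d_Cert_tree lc_d_rc_16_4 lc_d_Cert_tree lc_d_Cert_tree lc_d_Cert_tree lc_d_rc_15_1 lc_d_rc_17_2 lc_d_rc_16_4 lc_d_rc_23_6 lc_d_rc_24_5 lc_d_Cert_tree lc_d_rc_16_2 lc_d_rc_15_1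 lc_d_Cert_tree lc_d_rc_16_4 lc_d_Cert_tree lc_d_rc_16_4 lc_d_Cert_tree lc_d_Cert_tree lc_d_Cert_tree lc_d_rc_15_1 lc_d_rc_16_2 lc_d_rc_27_10 lc_d_rc_15_1 lc_d_rc_24_5 lc_d_rc_15_1 lc_d_rc_15_1 lc_d_rc_27_4 lc_d_rc_23_6 lc_d_rc_15_1) (@D3.rec (fun _ => (Cert rels S Gen.d)) lc_d_Cert_tree lc_d_Cert_tree lc_d_rc_8_3 lc_d_rc_8_3 lc_d_rc_15_1 lc_d_Cert_tree lc_d_rc_15_1 lc_d_Cert_tree lc_d_rc_16_0 lc_d_rc_15_1 lc_d_rc_16_2 lc_d_rc_22_2 lc_d_Cert_tree lc_d_rc_16_4 lc_d_Cert_tree lc_d_rc_15_1 lc_d_Cert_tree lc_d_Cert_tree lc_d_Cert_tree lc_d_rc_17_2 lc_d_rc_15_1 lc_d_Cert_tree lc_d_rc_16_4 lc_d_Cert_tree lc_d_rc_15_1 lc_d_rc_27_4 lc_d_rc_27_10 lc_d_rc_27_10 lc_d_rc_17_2 lc_d_Cert_tree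 lc_d_rc_15_1 lc_d_Cert_tree lc_d_Cert_tree lc_d_rc_15_1 lc_d_Cert_tree lc_d_Cert_tree lc_d_Cert_tree lc_d_Cert_tree lc_d_rc_15_1 lc_d_rc_15_1 lc_d_rc_23_6 lc_d_rc_15_1 lc_d_rc_16_4 lc_d_Cert_tree lc_d_Cert_tree lc_d_rc_15_1 lc_d_rc_15_1 lc_d_rc_15_1 lc_d_Cert_tree lc_d_rc_16_2 lc_d_Cert_tree lc_d_rc_27_4 lc_d_Cert_tree lc_d_Cert_tree lc_d_Cert_tree lc_d_Cert_tree lc_d_rc_15_1 lc_d_rc_8_1 lc_d_rc_8_1 lc_d_Cert_tree lc_d_rc_16_2 lc_d_rc_8_3) (@D3.rec (fun _ => (Cert rels S Gen.d)) lc_d_rc_23_4 lc_d_rc_16_4 lc_d_rc_16_2 lc_d_rc_23_6 lc_d_rc_8_1 lc_d_Cert_tree lc_d_rc_27_10 lc_d_rc_15_1 lc_d_rc_17_2 lc_d_rc_15_1 lc_d_Cert_tree lc_d_rc_15_1 lc_d_rc_15_1 lc_d_rc_27_4 lc_d_Cert_tree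 lc_d_rc_15_1 lc_d_Cert_tree lc_d_rc_27_2 lc_d_rc_15_1 lc_d_rc_16_4 lc_d_rc_24_5 lc_d_rc_8_3 lc_d_Cert_tree lc_d_Cert_tree lc_d_rc_15_1 lc_d_rc_15_1 lc_d_rc_16_2 lc_d_rc_27_10 lc_d_rc_15_1 lc_d_rc_16_2 lc_d_Cert_tree lc_d_rc_23_2 lc_d_rc_23_6 lc_d_Cert_tree lc_d_rc_15_1 lc_d_rc_16_4 lc_d_Cert_tree lc_d_rc_15_1 lc_d_Cert_tree lc_d_rc_15_1 lc_d_rc_27_4 lc_d_rc_15_1 lc_d_rc_8_1 lc_d_rc_15_1 lc_d_rc_12_15 lc_d_rc_16_2 lc_d_rc_8_3 lc_d_Cert_tree lc_d_rc_15_1 lc_d_Cert_tree lc_d_Cert_tree lc_d_rc_15_1 lc_d_rc_15_1 lc_d_rc_15_1 lc_d_rc_24_0 lc_d_rc_24_5 lc_d_rc_3_1 lc_d_Cert_tree lc_d_Cert_tree lc_d_Cert_tree lc_d_rc_15_1 lc_d_Cert_tree) (@D3.rec (fun _ => (Cert rels S Gen.d)) lc_d_Cert_tree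 lc_d_rc_15_1 lc_d_Cert_tree lc_d_Cert_tree lc_d_Cert_tree lc_d_rc_15_1 lc_d_Cert_tree lc_d_rc_17_2 lc_d_Cert_tree lc_d_Cert_tree lc_d_rc_15_1 lc_d_rc_15_1 lc_d_rc_15_1 lc_d_rc_15_1 lc_d_Cert_tree lc_d_rc_16_4 lc_d_rc_17_2 lc_d_rc_8_3 lc_d_rc_16_4 lc_d_rc_8_3 lc_d_rc_16_4 lc_d_rc_8_3 lc_d_rc_22_6 lc_d_rc_22_4 lc_d_rc_22_2 lc_d_rc_17_2 lc_d_rc_16_4 lc_d_rc_15_1 lc_d_rc_15_1 lc_d_rc_15_1 lc_d_rc_12_3 lc_d_Cert_tree lc_d_rc_16_2 lc_d_rc_15_1 lc_d_Cert_tree lc_d_Cert_tree lc_d_Cert_tree lc_d_rc_15_1 lc_d_rc_17_0 lc_d_Cert_tree lc_d_rc_27_4 lc_d_rc_8_3 lc_d_Cert_tree lc_d_rc_16_4 lc_d_Cert_tree lc_d_Cert_tree lc_d_Cert_tree lc_d_rc_15_1 lc_d_rc_22_4 lc_d_rc_17_2 lc_d_Cert_tree lc_d_rc_15_1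 lc_d_rc_15_1 lc_d_rc_15_1 lc_d_rc_24_5 lc_d_rc_8_3 lc_d_Cert_tree lc_d_rc_15_1 lc_d_rc_8_3 lc_d_rc_23_6 lc_d_rc_16_4 lc_d_rc_23_2) (@D3.rec (fun _ => (Cert rels S Gen.d)) lc_d_Cert_tree lc_d_rc_15_1 lc_d_rc_16_2 lc_d_rc_27_10 lc_d_rc_15_1 lc_d_rc_17_2 lc_d_rc_15_1 lc_d_rc_15_1 lc_d_Cert_tree lc_d_Cert_tree lc_d_rc_15_1 lc_d_Cert_tree lc_d_rc_15_1 lc_d_rc_16_2 lc_d_rc_24_0 lc_d_rc_15_1 lc_d_rc_27_2 lc_d_rc_3_3 lc_d_rc_3_3 lc_d_Cert_tree lc_d_rc_15_1 lc_d_Cert_tree lc_d_rc_15_1 lc_d_Cert_tree lc_d_Cert_tree lc_d_rc_15_1 lc_d_rc_17_2 lc_d_Cert_tree lc_d_rc_16_4 lc_d_Cert_tree lc_d_rc_15_1 lc_d_rc_16_2 lc_d_rc_15_1 lc_d_rc_27_10 lc_d_rc_17_2 lc_d_Cert_tree lc_d_rc_15_1 lc_d_Cert_tree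 lc_d_Cert_tree lc_d_rc_15_1 lc_d_Cert_tree lc_d_Cert_tree lc_d_Cert_tree lc_d_Cert_tree lc_d_rc_15_1 lc_d_rc_15_1 lc_d_rc_23_6 lc_d_rc_15_1 lc_d_rc_16_4 lc_d_Cert_tree lc_d_Cert_tree lc_d_rc_23_4 lc_d_rc_24_0 lc_d_Cert_tree lc_d_rc_16_2 lc_d_rc_8_3 lc_d_rc_16_4 lc_d_rc_8_1 lc_d_rc_8_3 lc_d_Cert_tree lc_d_rc_27_10 lc_d_rc_15_1) (@D3.rec (fun _ => (Cert rels S Gen.d)) lc_d_rc_17_2 lc_d_rc_8_3 lc_d_rc_8_3 lc_d_rc_15_1 lc_d_rc_3_3 lc_d_rc_17_2 lc_d_rc_3_1 lc_d_rc_15_1 lc_d_rc_16_2 lc_d_rc_15_1 lc_d_Cert_tree lc_d_rc_23_6 lc_d_rc_15_1 lc_d_Cert_tree lc_d_Cert_tree lc_d_rc_15_1 lc_d_Cert_tree lc_d_Cert_tree lc_d_rc_27_2 lc_d_rc_27_8 lc_d_rc_24_0 lc_d_Cert_tree lc_d_rc_15_1 lc_d_Cert_tree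 lc_d_rc_24_0 lc_d_rc_8_3 lc_d_Cert_tree lc_d_Cert_tree lc_d_rc_15_1 lc_d_rc_15_1 lc_d_Cert_tree lc_d_rc_27_10 lc_d_rc_15_1 lc_d_rc_16_2 lc_d_rc_23_4 lc_d_rc_27_8 lc_d_rc_15_1 lc_d_rc_16_4 lc_d_rc_15_1 lc_d_rc_15_1 lc_d_rc_15_1 lc_d_rc_16_2 lc_d_rc_23_2 lc_d_Cert_tree lc_d_rc_15_1 lc_d_Cert_tree lc_d_Cert_tree lc_d_rc_15_1 lc_d_Cert_tree lc_d_Cert_tree lc_d_rc_15_1 lc_d_Cert_tree lc_d_Cert_tree lc_d_Cert_tree lc_d_Cert_tree lc_d_rc_15_1 lc_d_rc_15_1 lc_d_rc_16_2 lc_d_Cert_tree lc_d_Cert_tree lc_d_rc_15_1 lc_d_rc_3_3) (@D3.rec (fun _ => (Cert rels S Gen.d)) lc_d_Cert_tree lc_d_rc_15_1 lc_d_Cert_tree lc_d_rc_15_1 lc_d_rc_12_13 lc_d_rc_16_4 lc_d_rc_8_3 lc_d_rc_16_2 lc_d_rc_8_3 lc_d_rc_16_2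 lc_d_rc_8_3 lc_d_rc_22_6 lc_d_rc_23_4 lc_d_rc_27_4 lc_d_rc_17_2 lc_d_rc_16_4 lc_d_rc_15_1 lc_d_Cert_tree lc_d_rc_15_1 lc_d_rc_15_1 lc_d_Cert_tree lc_d_Cert_tree lc_d_rc_15_1 lc_d_rc_15_1 lc_d_rc_24_0 lc_d_Cert_tree lc_d_rc_17_2 lc_d_rc_15_1 lc_d_rc_27_4 lc_d_Cert_tree lc_d_rc_15_1 lc_d_rc_8_3 lc_d_rc_15_1 lc_d_Cert_tree lc_d_rc_16_2 lc_d_rc_15_1 lc_d_rc_8_1 lc_d_Cert_tree lc_d_rc_15_1 lc_d_Cert_tree lc_d_Cert_tree lc_d_Cert_tree lc_d_rc_15_1 lc_d_rc_23_6 lc_d_Cert_tree lc_d_rc_27_4 lc_d_rc_8_3 lc_d_Cert_tree lc_d_rc_16_4 lc_d_Cert_tree lc_d_Cert_tree lc_d_Cert_tree lc_d_rc_15_1 lc_d_rc_17_2 lc_d_rc_16_4 lc_d_Cert_tree lc_d_rc_16_2 lc_d_Cert_tree lc_d_rc_15_1 lc_d_rc_17_2 lc_d_Cert_tree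 lc_d_rc_16_4) (@D3.rec (fun _ => (Cert rels S Gen.d)) lc_d_rc_16_4 lc_d_rc_27_10 lc_d_rc_17_2 lc_d_Cert_tree lc_d_Cert_tree lc_d_Cert_tree lc_d_rc_15_1 lc_d_rc_8_3 lc_d_rc_16_4 lc_d_rc_16_4 lc_d_Cert_tree lc_d_rc_15_1 lc_d_Cert_tree lc_d_rc_15_1 lc_d_rc_17_2 lc_d_rc_15_1 lc_d_rc_15_1 lc_d_rc_24_0 lc_d_Cert_tree lc_d_rc_17_2 lc_d_rc_15_1 lc_d_rc_15_1 lc_d_rc_15_1 lc_d_rc_27_2 lc_d_Cert_tree lc_d_rc_15_1 lc_d_Cert_tree lc_d_rc_8_1 lc_d_rc_15_1 lc_d_Cert_tree lc_d_rc_17_2 lc_d_rc_15_1 lc_d_Cert_tree lc_d_rc_16_2 lc_d_rc_15_1 lc_d_Cert_tree lc_d_Cert_tree lc_d_Cert_tree lc_d_rc_15_1 lc_d_Cert_tree lc_d_rc_16_4 lc_d_rc_8_3 lc_d_Cert_tree lc_d_rc_16_4 lc_d_Cert_tree lc_d_Cert_tree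 lc_d_Cert_tree lc_d_rc_15_1 lc_d_rc_17_2 lc_d_rc_16_4 lc_d_Cert_tree lc_d_rc_16_4 lc_d_Cert_tree lc_d_rc_15_1 lc_d_rc_17_2 lc_d_Cert_tree lc_d_rc_16_4 lc_d_rc_16_4 lc_d_rc_27_10 lc_d_rc_17_2 lc_d_Cert_tree lc_d_Cert_tree) (@D3.rec (fun _ => (Cert rels S Gen.d)) lc_d_Cert_tree lc_d_rc_15_1 lc_d_rc_8_3 lc_d_rc_16_4 lc_d_rc_16_2 lc_d_Cert_tree lc_d_rc_15_1 lc_d_rc_27_2 lc_d_rc_15_1 lc_d_rc_8_3 lc_d_Cert_tree lc_d_rc_15_1 lc_d_rc_23_2 lc_d_rc_17_2 lc_d_rc_15_1 lc_d_rc_8_3 lc_d_Cert_tree lc_d_Cert_tree lc_d_rc_17_2 lc_d_Cert_tree lc_d_rc_16_2 lc_d_Cert_tree lc_d_rc_15_1 lc_d_Cert_tree lc_d_Cert_tree lc_d_Cert_tree lc_d_rc_8_1 lc_d_rc_15_1 lc_d_rc_23_2 lc_d_rc_16_4 lc_d_rc_8_3 lc_d_rc_23_4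 lc_d_Cert_tree lc_d_rc_17_2 lc_d_Cert_tree lc_d_Cert_tree lc_d_rc_23_8 lc_d_rc_15_1 lc_d_rc_17_2 lc_d_Cert_tree lc_d_rc_16_4 lc_d_Cert_tree lc_d_Cert_tree lc_d_Cert_tree lc_d_rc_15_1 lc_d_rc_3_3 lc_d_rc_17_2 lc_d_rc_15_1 lc_d_rc_15_1 lc_d_Cert_tree lc_d_rc_17_2 lc_d_rc_15_1 lc_d_rc_15_1 lc_d_rc_15_1 lc_d_Cert_tree lc_d_rc_16_2 lc_d_rc_15_1 lc_d_rc_27_4 lc_d_Cert_tree lc_d_rc_16_2 lc_d_rc_3_3 lc_d_Cert_tree) (@D3.rec (fun _ => (Cert rels S Gen.d)) lc_d_rc_15_1 lc_d_rc_8_1 lc_d_rc_8_1 lc_d_Cert_tree lc_d_rc_16_4 lc_d_Cert_tree lc_d_Cert_tree lc_d_Cert_tree lc_d_rc_15_1 lc_d_rc_22_4 lc_d_rc_16_4 lc_d_Cert_tree lc_d_Cert_tree lc_d_rc_15_1 lc_d_rc_15_1 lc_d_rc_23_2 lc_d_rc_15_1 lc_d_Cert_tree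 lc_d_rc_17_2 lc_d_rc_15_1 lc_d_rc_3_3 lc_d_rc_15_1 lc_d_rc_8_3 lc_d_Cert_tree lc_d_rc_16_2 lc_d_Cert_tree lc_d_rc_16_2 lc_d_rc_23_6 lc_d_Cert_tree lc_d_rc_16_2 lc_d_Cert_tree lc_d_rc_16_4 lc_d_Cert_tree lc_d_Cert_tree lc_d_Cert_tree lc_d_rc_15_1 lc_d_rc_17_2 lc_d_rc_16_4 lc_d_rc_15_1 lc_d_rc_8_3 lc_d_rc_8_3 lc_d_Cert_tree lc_d_Cert_tree lc_d_rc_16_2 lc_d_rc_15_1 lc_d_rc_22_2 lc_d_rc_15_1 lc_d_rc_15_1 lc_d_rc_27_4 lc_d_rc_23_6 lc_d_rc_23_6 lc_d_rc_15_1 lc_d_Cert_tree lc_d_Cert_tree lc_d_rc_15_1 lc_d_rc_23_2 lc_d_Cert_tree lc_d_rc_16_4 lc_d_Cert_tree lc_d_rc_16_2 lc_d_Cert_tree lc_d_Cert_tree) (@D3.rec (fun _ => (Cert rels S Gen.d)) lc_d_Cert_tree lc_d_rc_15_1 lc_d_Cert_tree lc_d_Cert_tree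 lc_d_rc_23_2 lc_d_rc_15_1 lc_d_rc_17_2 lc_d_rc_15_1 lc_d_Cert_tree lc_d_rc_15_1 lc_d_rc_15_1 lc_d_rc_22_2 lc_d_rc_23_4 lc_d_rc_8_3 lc_d_Cert_tree lc_d_Cert_tree lc_d_rc_27_10 lc_d_rc_15_1 lc_d_rc_27_2 lc_d_rc_24_0 lc_d_Cert_tree lc_d_rc_27_10 lc_d_rc_15_1 lc_d_rc_8_3 lc_d_Cert_tree lc_d_rc_15_1 lc_d_Cert_tree lc_d_rc_8_3 lc_d_rc_16_4 lc_d_rc_15_1 lc_d_rc_17_2 lc_d_Cert_tree lc_d_rc_16_4 lc_d_Cert_tree lc_d_rc_15_1 lc_d_Cert_tree lc_d_rc_3_1 lc_d_rc_23_2 lc_d_Cert_tree lc_d_rc_15_1 lc_d_Cert_tree lc_d_rc_23_8 lc_d_rc_8_1 lc_d_rc_24_5 lc_d_Cert_tree lc_d_Cert_tree lc_d_rc_15_1 lc_d_rc_17_2 lc_d_rc_16_4 lc_d_Cert_tree lc_d_rc_8_1 lc_d_Cert_tree lc_d_rc_15_1 lc_d_rc_3_3 lc_d_rc_16_2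 lc_d_rc_16_2 lc_d_rc_15_1 lc_d_rc_15_1 lc_d_rc_17_2 lc_d_Cert_tree lc_d_rc_24_5 lc_d_rc_15_1) (@D3.rec (fun _ => (Cert rels S Gen.d)) lc_d_rc_23_2 lc_d_Cert_tree lc_d_rc_8_3 lc_d_rc_15_1 lc_d_Cert_tree lc_d_Cert_tree lc_d_Cert_tree lc_d_Cert_tree lc_d_rc_15_1 lc_d_rc_17_2 lc_d_rc_23_6 lc_d_rc_23_6 lc_d_rc_22_8 lc_d_rc_16_4 lc_d_rc_17_2 lc_d_Cert_tree lc_d_Cert_tree lc_d_Cert_tree lc_d_rc_3_1 lc_d_rc_23_4 lc_d_Cert_tree lc_d_rc_16_2 lc_d_rc_12_9 lc_d_rc_22_2 lc_d_Cert_tree lc_d_rc_15_1 lc_d_rc_16_4 lc_d_rc_27_10 lc_d_rc_15_1 lc_d_rc_17_2 lc_d_rc_15_1 lc_d_Cert_tree lc_d_rc_16_2 lc_d_Cert_tree lc_d_rc_15_1 lc_d_Cert_tree lc_d_rc_17_0 lc_d_rc_17_2 lc_d_Cert_tree lc_d_rc_16_2 lc_d_Cert_tree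 lc_d_rc_15_1 lc_d_Cert_tree lc_d_Cert_tree lc_d_rc_16_4 lc_d_rc_15_1 lc_d_Cert_tree lc_d_rc_16_4 lc_d_Cert_tree lc_d_rc_15_1 lc_d_rc_27_10 lc_d_rc_27_10 lc_d_rc_17_2 lc_d_rc_17_2 lc_d_rc_15_1 lc_d_Cert_tree lc_d_Cert_tree lc_d_rc_15_1 lc_d_Cert_tree lc_d_Cert_tree lc_d_Cert_tree lc_d_rc_15_1) (@D3.rec (fun _ => (Cert rels S Gen.d)) lc_d_rc_8_3 lc_d_rc_23_6 lc_d_rc_16_4 lc_d_Cert_tree lc_d_rc_15_1 lc_d_Cert_tree lc_d_rc_16_4 lc_d_Cert_tree lc_d_rc_16_2 lc_d_rc_16_2 lc_d_rc_24_0 lc_d_Cert_tree lc_d_rc_16_4 lc_d_rc_16_2 lc_d_Cert_tree lc_d_rc_27_2 lc_d_Cert_tree lc_d_Cert_tree lc_d_Cert_tree lc_d_rc_15_1 lc_d_Cert_tree lc_d_Cert_tree lc_d_Cert_tree lc_d_rc_17_2 lc_d_rc_27_8 lc_d_rc_15_1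 lc_d_rc_23_2 lc_d_rc_24_5 lc_d_rc_15_1 lc_d_rc_27_2 lc_d_Cert_tree lc_d_rc_16_4 lc_d_Cert_tree lc_d_rc_15_1 lc_d_Cert_tree lc_d_rc_15_1 lc_d_rc_15_1 lc_d_rc_17_2 lc_d_Cert_tree lc_d_rc_15_1 lc_d_Cert_tree lc_d_Cert_tree lc_d_rc_15_1 lc_d_Cert_tree lc_d_Cert_tree lc_d_rc_15_1 lc_d_Cert_tree lc_d_Cert_tree lc_d_Cert_tree lc_d_Cert_tree lc_d_rc_15_1 lc_d_rc_16_4 lc_d_rc_23_2 lc_d_rc_16_4 lc_d_rc_23_2 lc_d_rc_12_13 lc_d_rc_16_4 lc_d_rc_15_1 lc_d_rc_27_2 lc_d_Cert_tree lc_d_rc_16_2 lc_d_rc_24_0) (@D3.rec (fun _ => (Cert rels S Gen.d)) lc_d_rc_27_8 lc_d_Cert_tree lc_d_rc_15_1 lc_d_rc_24_0 lc_d_rc_15_1 lc_d_rc_12_1 lc_d_Cert_tree lc_d_rc_23_8 lc_d_rc_27_4 lc_d_rc_15_1 lc_d_rc_16_2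 lc_d_Cert_tree lc_d_rc_15_1 lc_d_rc_16_4 lc_d_Cert_tree lc_d_rc_16_4 lc_d_Cert_tree lc_d_Cert_tree lc_d_Cert_tree lc_d_rc_15_1 lc_d_Cert_tree lc_d_rc_23_2 lc_d_rc_15_1 lc_d_rc_15_1 lc_d_rc_17_2 lc_d_rc_27_8 lc_d_Cert_tree lc_d_Cert_tree lc_d_Cert_tree lc_d_Cert_tree lc_d_rc_15_1 lc_d_Cert_tree lc_d_rc_24_0 lc_d_Cert_tree lc_d_Cert_tree lc_d_rc_15_1 lc_d_rc_17_2 lc_d_Cert_tree lc_d_rc_16_4 lc_d_rc_8_3 lc_d_Cert_tree lc_d_rc_15_1 lc_d_rc_15_1 lc_d_rc_22_4 lc_d_rc_17_2 lc_d_rc_15_1 lc_d_Cert_tree lc_d_rc_15_1 lc_d_rc_27_4 lc_d_rc_3_3 lc_d_Cert_tree lc_d_rc_15_1 lc_d_Cert_tree lc_d_rc_27_10 lc_d_Cert_tree lc_d_Cert_tree lc_d_rc_15_1 lc_d_rc_8_3 lc_d_rc_8_3 lc_d_Cert_tree lc_d_rc_23_8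 lc_d_rc_23_8) (@D3.rec (fun _ => (Cert rels S Gen.d)) lc_d_Cert_tree lc_d_rc_15_1 lc_d_Cert_tree lc_d_rc_23_8 lc_d_rc_24_0 lc_d_rc_27_2 lc_d_rc_16_0 lc_d_rc_16_4 lc_d_rc_15_1 lc_d_rc_17_2 lc_d_Cert_tree lc_d_rc_23_2 lc_d_rc_15_1 lc_d_rc_27_10 lc_d_rc_15_1 lc_d_rc_27_2 lc_d_Cert_tree lc_d_Cert_tree lc_d_rc_16_4 lc_d_rc_12_1 lc_d_rc_23_2 lc_d_Cert_tree lc_d_rc_15_1 lc_d_Cert_tree lc_d_rc_27_10 lc_d_rc_27_10 lc_d_rc_17_2 lc_d_rc_8_3 lc_d_rc_8_3 lc_d_Cert_tree lc_d_rc_15_1 lc_d_rc_8_3 lc_d_rc_23_4 lc_d_rc_27_2 lc_d_rc_27_4 lc_d_rc_27_8 lc_d_rc_27_2 lc_d_rc_27_4 lc_d_rc_8_3 lc_d_rc_27_4 lc_d_Cert_tree lc_d_Cert_tree lc_d_Cert_tree lc_d_Cert_tree lc_d_rc_15_1 lc_d_Cert_tree lc_d_rc_24_0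 lc_d_rc_23_6 lc_d_rc_27_2 lc_d_rc_15_1 lc_d_rc_17_2 lc_d_Cert_tree lc_d_Cert_tree lc_d_Cert_tree lc_d_rc_15_1 lc_d_rc_15_1 lc_d_rc_8_3 lc_d_rc_24_5 lc_d_rc_22_2 lc_d_rc_3_3 lc_d_Cert_tree lc_d_Cert_tree) (@D3.rec (fun _ => (Cert rels S Gen.d)) lc_d_Cert_tree lc_d_rc_15_1 lc_d_Cert_tree lc_d_rc_17_2 lc_d_Cert_tree lc_d_Cert_tree lc_d_rc_15_1 lc_d_Cert_tree lc_d_rc_15_1 lc_d_rc_23_6 lc_d_rc_8_3 lc_d_Cert_tree lc_d_rc_16_4 lc_d_Cert_tree lc_d_rc_15_1 lc_d_rc_15_1 lc_d_Cert_tree lc_d_Cert_tree lc_d_Cert_tree lc_d_rc_17_2 lc_d_Cert_tree lc_d_Cert_tree lc_d_rc_15_1 lc_d_Cert_tree lc_d_rc_16_4 lc_d_rc_15_1 lc_d_rc_27_4 lc_d_Cert_tree lc_d_rc_3_3 lc_d_rc_15_1 lc_d_rc_16_4 lc_d_rc_15_1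 lc_d_rc_15_1 lc_d_Cert_tree lc_d_rc_16_4 lc_d_Cert_tree lc_d_rc_16_2 lc_d_rc_27_10 lc_d_rc_15_1 lc_d_rc_23_6 lc_d_Cert_tree lc_d_rc_16_4 lc_d_rc_23_6 lc_d_Cert_tree lc_d_rc_27_2 lc_d_Cert_tree lc_d_Cert_tree lc_d_Cert_tree lc_d_rc_15_1 lc_d_Cert_tree lc_d_rc_27_10 lc_d_rc_15_1 lc_d_rc_15_1 lc_d_rc_17_2 lc_d_Cert_tree lc_d_rc_27_8 lc_d_rc_15_1 lc_d_Cert_tree lc_d_rc_15_1 lc_d_rc_15_1 lc_d_rc_27_8 lc_d_Cert_tree) (@D3.rec (fun _ => (Cert rels S Gen.d)) lc_d_Cert_tree lc_d_rc_16_4 lc_d_rc_8_3 lc_d_Cert_tree lc_d_rc_15_1 lc_d_rc_15_1 lc_d_rc_17_2 lc_d_rc_3_3 lc_d_Cert_tree lc_d_rc_8_3 lc_d_rc_8_3 lc_d_Cert_tree lc_d_rc_17_0 lc_d_rc_17_2 lc_d_Cert_tree lc_d_Cert_tree lc_d_rc_15_1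 lc_d_rc_16_4 lc_d_rc_15_1 lc_d_rc_27_4 lc_d_rc_8_3 lc_d_Cert_tree lc_d_rc_27_10 lc_d_rc_27_4 lc_d_rc_17_2 lc_d_rc_24_0 lc_d_Cert_tree lc_d_rc_15_1 lc_d_Cert_tree lc_d_rc_15_1 lc_d_rc_27_10 lc_d_rc_27_10 lc_d_Cert_tree lc_d_rc_15_1 lc_d_rc_15_1 lc_d_rc_25_6 lc_d_rc_27_10 lc_d_rc_17_0 lc_d_rc_15_1 lc_d_rc_15_1 lc_d_rc_23_8 lc_d_rc_15_1 lc_d_Cert_tree lc_d_rc_15_1 lc_d_rc_16_2 lc_d_rc_8_3 lc_d_rc_27_10 lc_d_Cert_tree lc_d_Cert_tree lc_d_rc_15_1 lc_d_rc_16_2 lc_d_Cert_tree lc_d_Cert_tree lc_d_rc_15_1 lc_d_rc_27_2 lc_d_Cert_tree lc_d_Cert_tree lc_d_rc_15_1 lc_d_rc_15_1 lc_d_rc_17_0 lc_d_rc_8_3 lc_d_rc_3_1) (@D3.rec (fun _ => (Cert rels S Gen.d)) lc_d_Cert_tree lc_d_rc_16_2 lc_d_Cert_tree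 lc_d_Cert_tree lc_d_rc_15_1 lc_d_rc_17_2 lc_d_Cert_tree lc_d_Cert_tree lc_d_rc_27_8 lc_d_rc_15_1 lc_d_rc_8_3 lc_d_rc_27_2 lc_d_rc_22_4 lc_d_rc_17_2 lc_d_Cert_tree lc_d_rc_16_4 lc_d_rc_15_1 lc_d_rc_23_2 lc_d_rc_15_1 lc_d_rc_23_6 lc_d_rc_16_4 lc_d_rc_15_1 lc_d_rc_16_4 lc_d_rc_16_4 lc_d_rc_23_4 lc_d_rc_15_1 lc_d_rc_8_3 lc_d_rc_23_2 lc_d_rc_16_4 lc_d_rc_23_4 lc_d_rc_24_5 lc_d_rc_8_3 lc_d_Cert_tree lc_d_rc_3_3 lc_d_rc_15_1 lc_d_rc_15_1 lc_d_rc_17_2 lc_d_rc_15_1 lc_d_rc_8_3 lc_d_Cert_tree lc_d_Cert_tree lc_d_Cert_tree lc_d_rc_15_1 lc_d_Cert_tree lc_d_rc_15_1 lc_d_rc_17_2 lc_d_rc_8_3 lc_d_Cert_tree lc_d_rc_27_4 lc_d_rc_8_3 lc_d_Cert_tree lc_d_Cert_tree lc_d_rc_15_1 lc_d_Cert_tree lc_d_rc_17_2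 lc_d_rc_15_1 lc_d_Cert_tree lc_d_rc_15_1 lc_d_rc_15_1 lc_d_rc_23_6 lc_d_rc_15_1 lc_d_Cert_tree) (@D3.rec (fun _ => (Cert rels S Gen.d)) lc_d_rc_16_4 lc_d_rc_23_4 lc_d_rc_16_4 lc_d_rc_15_1 lc_d_rc_23_2 lc_d_rc_24_5 lc_d_Cert_tree lc_d_rc_3_3 lc_d_Cert_tree lc_d_rc_15_1 lc_d_rc_8_3 lc_d_rc_15_1 lc_d_Cert_tree lc_d_rc_16_4 lc_d_rc_8_3 lc_d_rc_16_4 lc_d_rc_8_3 lc_d_rc_16_4 lc_d_Cert_tree lc_d_Cert_tree lc_d_rc_15_1 lc_d_rc_17_2 lc_d_rc_24_5 lc_d_rc_8_3 lc_d_rc_15_1 lc_d_rc_12_3 lc_d_rc_17_2 lc_d_rc_27_10 lc_d_rc_22_2 lc_d_Cert_tree lc_d_rc_15_1 lc_d_Cert_tree lc_d_rc_15_1 lc_d_Cert_tree lc_d_Cert_tree lc_d_rc_15_1 lc_d_rc_15_1 lc_d_Cert_tree lc_d_rc_15_1 lc_d_rc_17_2 lc_d_rc_8_3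 lc_d_rc_8_3 lc_d_Cert_tree lc_d_Cert_tree lc_d_rc_15_1 lc_d_Cert_tree lc_d_Cert_tree lc_d_Cert_tree lc_d_rc_15_1 lc_d_Cert_tree lc_d_rc_15_1 lc_d_Cert_tree lc_d_Cert_tree lc_d_rc_15_1 lc_d_Cert_tree lc_d_rc_15_1 lc_d_rc_15_1 lc_d_Cert_tree lc_d_Cert_tree lc_d_Cert_tree lc_d_rc_15_1 lc_d_rc_17_2) (@D3.rec (fun _ => (Cert rels S Gen.d)) lc_d_rc_8_3 lc_d_rc_15_1 lc_d_rc_15_1 lc_d_rc_16_4 lc_d_Cert_tree lc_d_Cert_tree lc_d_rc_15_1 lc_d_rc_17_2 lc_d_rc_3_3 lc_d_Cert_tree lc_d_rc_17_2 lc_d_Cert_tree lc_d_rc_15_1 lc_d_Cert_tree lc_d_Cert_tree lc_d_rc_15_1 lc_d_Cert_tree lc_d_rc_15_1 lc_d_Cert_tree lc_d_Cert_tree lc_d_Cert_tree lc_d_rc_15_1 lc_d_rc_8_3 lc_d_rc_15_1 lc_d_rc_22_8 lc_d_Cert_tree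 lc_d_Cert_tree lc_d_rc_8_3 lc_d_rc_15_1 lc_d_rc_3_3 lc_d_rc_24_5 lc_d_rc_15_1 lc_d_rc_17_2 lc_d_Cert_tree lc_d_rc_17_2 lc_d_rc_15_1 lc_d_Cert_tree lc_d_Cert_tree lc_d_rc_15_1 lc_d_rc_15_1 lc_d_Cert_tree lc_d_Cert_tree lc_d_Cert_tree lc_d_rc_15_1 lc_d_rc_17_2 lc_d_rc_22_8 lc_d_Cert_tree lc_d_rc_16_4 lc_d_rc_17_2 lc_d_Cert_tree lc_d_Cert_tree lc_d_Cert_tree lc_d_rc_15_1 lc_d_Cert_tree lc_d_rc_15_1 lc_d_Cert_tree lc_d_Cert_tree lc_d_Cert_tree lc_d_Cert_tree lc_d_rc_15_1 lc_d_rc_17_2 lc_d_rc_27_10) (@D3.rec (fun _ => (Cert rels S Gen.d)) lc_d_rc_15_1 lc_d_Cert_tree lc_d_rc_16_4 lc_d_rc_15_1 lc_d_Cert_tree lc_d_Cert_tree lc_d_rc_8_3 lc_d_Cert_tree lc_d_Cert_tree lc_d_Cert_tree lc_d_Cert_tree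 lc_d_Cert_tree lc_d_rc_15_1 lc_d_Cert_tree lc_d_rc_17_2 lc_d_Cert_tree lc_d_Cert_tree lc_d_rc_17_2 lc_d_Cert_tree lc_d_Cert_tree lc_d_rc_15_1 lc_d_rc_3_3 lc_d_Cert_tree lc_d_Cert_tree lc_d_Cert_tree lc_d_Cert_tree lc_d_rc_15_1 lc_d_rc_27_8 lc_d_rc_15_1 lc_d_Cert_tree lc_d_Cert_tree lc_d_Cert_tree lc_d_rc_15_1 lc_d_rc_8_3 lc_d_rc_15_1 lc_d_rc_8_3 lc_d_rc_3_3 lc_d_Cert_tree lc_d_Cert_tree lc_d_Cert_tree lc_d_rc_15_1 lc_d_rc_3_3 lc_d_Cert_tree lc_d_Cert_tree lc_d_rc_15_1 lc_d_Cert_tree lc_d_Cert_tree lc_d_rc_16_0 lc_d_rc_15_1 lc_d_Cert_tree lc_d_rc_16_4 lc_d_Cert_tree lc_d_Cert_tree lc_d_rc_15_1 lc_d_rc_22_2 lc_d_rc_23_8 lc_d_rc_23_8 lc_d_Cert_tree lc_d_rc_15_1 lc_d_Cert_tree lc_d_Cert_tree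 lc_d_Cert_tree) (@D3.rec (fun _ => (Cert rels S Gen.d)) lc_d_Cert_tree lc_d_rc_15_1 lc_d_rc_17_2 lc_d_Cert_tree lc_d_Cert_tree lc_d_Cert_tree lc_d_Cert_tree lc_d_rc_15_1 lc_d_rc_3_3 lc_d_rc_15_1 lc_d_rc_25_2 lc_d_rc_15_1 lc_d_Cert_tree lc_d_rc_15_1 lc_d_rc_23_4 lc_d_rc_3_1 lc_d_rc_17_2 lc_d_rc_24_5 lc_d_rc_15_1 lc_d_rc_24_5 lc_d_rc_8_3 lc_d_Cert_tree lc_d_rc_15_1 lc_d_Cert_tree lc_d_Cert_tree lc_d_Cert_tree lc_d_rc_23_8 lc_d_rc_24_0 lc_d_rc_15_1 lc_d_rc_15_1 lc_d_rc_17_2 lc_d_rc_22_6 lc_d_Cert_tree lc_d_Cert_tree lc_d_rc_24_5 lc_d_Cert_tree lc_d_rc_27_4 lc_d_Cert_tree lc_d_rc_15_1 lc_d_rc_23_8 lc_d_rc_23_8 lc_d_rc_15_1 lc_d_rc_8_3 lc_d_rc_8_3 lc_d_Cert_tree lc_d_rc_16_4 lc_d_Cert_tree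 lc_d_Cert_tree lc_d_rc_17_2 lc_d_Cert_tree lc_d_Cert_tree lc_d_rc_15_1 lc_d_rc_3_3 lc_d_rc_24_0 lc_d_rc_8_1 lc_d_rc_15_1 lc_d_rc_15_1 lc_d_rc_23_4 lc_d_Cert_tree lc_d_rc_23_8 lc_d_rc_15_1 lc_d_Cert_tree) (@D3.rec (fun _ => (Cert rels S Gen.d)) lc_d_rc_15_1 lc_d_Cert_tree lc_d_rc_22_8 lc_d_Cert_tree lc_d_rc_15_1 lc_d_rc_22_2 lc_d_Cert_tree lc_d_Cert_tree lc_d_rc_15_1 lc_d_rc_15_1 lc_d_rc_24_5 lc_d_rc_15_1 lc_d_rc_17_0 lc_d_rc_16_4 lc_d_rc_23_2 lc_d_rc_8_3 lc_d_rc_15_1 lc_d_Cert_tree lc_d_Cert_tree lc_d_Cert_tree lc_d_rc_15_1 lc_d_rc_17_2 lc_d_Cert_tree lc_d_Cert_tree lc_d_rc_15_1 lc_d_rc_23_2 lc_d_rc_15_1 lc_d_Cert_tree lc_d_rc_15_1 lc_d_Cert_tree lc_d_rc_15_1 lc_d_Cert_tree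 lc_d_Cert_tree lc_d_rc_15_1 lc_d_rc_17_2 lc_d_Cert_tree lc_d_Cert_tree lc_d_rc_15_1 lc_d_rc_15_1 lc_d_Cert_tree lc_d_Cert_tree lc_d_rc_8_3 lc_d_rc_15_1 lc_d_Cert_tree lc_d_rc_27_8 lc_d_rc_15_1 lc_d_rc_15_1 lc_d_rc_22_8 lc_d_rc_16_2 lc_d_rc_8_3 lc_d_rc_22_2 lc_d_rc_16_4 lc_d_rc_22_2 lc_d_rc_23_2 lc_d_rc_22_2 lc_d_rc_16_4 lc_d_Cert_tree lc_d_rc_15_1 lc_d_Cert_tree lc_d_rc_15_1 lc_d_rc_15_1 lc_d_Cert_tree) (@D3.rec (fun _ => (Cert rels S Gen.d)) lc_d_Cert_tree lc_d_rc_15_1 lc_d_Cert_tree lc_d_rc_22_4 lc_d_Cert_tree lc_d_rc_15_1 lc_d_rc_27_10 lc_d_Cert_tree lc_d_rc_15_1 lc_d_rc_23_2 lc_d_rc_16_4 lc_d_Cert_tree lc_d_rc_15_1 lc_d_rc_22_6 lc_d_rc_16_4 lc_d_rc_24_5 lc_d_rc_22_6 lc_d_rc_16_2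 lc_d_rc_24_5 lc_d_rc_15_1 lc_d_rc_23_4 lc_d_Cert_tree lc_d_Cert_tree lc_d_rc_15_1 lc_d_rc_17_2 lc_d_Cert_tree lc_d_rc_15_1 lc_d_rc_16_4 lc_d_Cert_tree lc_d_rc_15_1 lc_d_Cert_tree lc_d_rc_15_1 lc_d_rc_22_6 lc_d_rc_15_1 lc_d_rc_22_4 lc_d_rc_15_1 lc_d_Cert_tree lc_d_rc_15_1 lc_d_rc_22_6 lc_d_rc_16_4 lc_d_rc_15_1 lc_d_Cert_tree lc_d_rc_8_1 lc_d_rc_15_1 lc_d_Cert_tree lc_d_rc_15_1 lc_d_Cert_tree lc_d_rc_15_1 lc_d_rc_17_2 lc_d_rc_16_4 lc_d_rc_8_3 lc_d_rc_8_3 lc_d_rc_16_2 lc_d_rc_15_1 lc_d_rc_22_8 lc_d_rc_16_4 lc_d_rc_22_8 lc_d_rc_8_3 lc_d_rc_15_1 lc_d_Cert_tree lc_d_Cert_tree lc_d_rc_17_2) (@D3.rec (fun _ => (Cert rels S Gen.d)) lc_d_Cert_tree lc_d_rc_16_4 lc_d_Cert_tree lc_d_Cert_tree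 lc_d_rc_17_2 lc_d_rc_3_3 lc_d_rc_15_1 lc_d_Cert_tree lc_d_rc_15_1 lc_d_rc_17_2 lc_d_Cert_tree lc_d_rc_15_1 lc_d_rc_27_4 lc_d_rc_12_15 lc_d_rc_15_1 lc_d_rc_27_8 lc_d_rc_3_3 lc_d_rc_15_1 lc_d_rc_3_1 lc_d_rc_16_4 lc_d_rc_8_3 lc_d_rc_22_6 lc_d_rc_16_4 lc_d_rc_23_6 lc_d_rc_22_2 lc_d_rc_16_4 lc_d_rc_23_8 lc_d_rc_23_2 lc_d_rc_15_1 lc_d_Cert_tree lc_d_Cert_tree lc_d_Cert_tree lc_d_rc_15_1 lc_d_rc_17_2 lc_d_rc_23_4 lc_d_rc_15_1 lc_d_rc_12_13 lc_d_rc_16_4 lc_d_rc_27_4 lc_d_rc_8_3 lc_d_Cert_tree lc_d_rc_23_6 lc_d_rc_23_6 lc_d_rc_17_2 lc_d_Cert_tree lc_d_Cert_tree lc_d_Cert_tree lc_d_rc_15_1 lc_d_rc_15_1 lc_d_rc_16_2 lc_d_rc_15_1 lc_d_rc_16_2 lc_d_rc_8_3 lc_d_rc_16_4 lc_d_Cert_tree lc_d_Cert_tree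 lc_d_rc_15_1 lc_d_rc_23_4 lc_d_rc_15_1 lc_d_Cert_tree lc_d_rc_15_1 lc_d_rc_15_1) (@D3.rec (fun _ => (Cert rels S Gen.d)) lc_d_rc_15_1 lc_d_rc_16_4 lc_d_rc_15_1 lc_d_Cert_tree lc_d_Cert_tree lc_d_rc_15_1 lc_d_Cert_tree lc_d_rc_8_3 lc_d_Cert_tree lc_d_Cert_tree lc_d_rc_15_1 lc_d_Cert_tree lc_d_rc_15_1 lc_d_rc_15_1 lc_d_Cert_tree lc_d_rc_16_4 lc_d_Cert_tree lc_d_rc_15_1 lc_d_Cert_tree lc_d_Cert_tree lc_d_Cert_tree lc_d_Cert_tree lc_d_rc_15_1 lc_d_rc_17_2 lc_d_Cert_tree lc_d_rc_15_1 lc_d_Cert_tree lc_d_rc_23_8 lc_d_rc_15_1 lc_d_rc_8_3 lc_d_rc_24_0 lc_d_Cert_tree lc_d_Cert_tree lc_d_Cert_tree lc_d_Cert_tree lc_d_rc_15_1 lc_d_rc_17_2 lc_d_rc_24_5 lc_d_Cert_tree lc_d_rc_24_5 lc_d_Cert_tree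 lc_d_Cert_tree lc_d_Cert_tree lc_d_Cert_tree lc_d_rc_15_1 lc_d_Cert_tree lc_d_Cert_tree lc_d_rc_15_1 lc_d_Cert_tree lc_d_Cert_tree lc_d_Cert_tree lc_d_rc_15_1 lc_d_rc_15_1 lc_d_rc_15_1 lc_d_Cert_tree lc_d_rc_17_2 lc_d_Cert_tree lc_d_rc_15_1 lc_d_rc_27_4 lc_d_rc_23_2 lc_d_rc_15_1 lc_d_rc_27_8) (@D3.rec (fun _ => (Cert rels S Gen.d)) lc_d_rc_23_6 lc_d_rc_3_3 lc_d_rc_22_6 lc_d_rc_15_1 lc_d_rc_15_1 lc_d_Cert_tree lc_d_rc_15_1 lc_d_Cert_tree lc_d_rc_16_4 lc_d_rc_15_1 lc_d_rc_15_1 lc_d_Cert_tree lc_d_Cert_tree lc_d_Cert_tree lc_d_rc_15_1 lc_d_rc_15_1 lc_d_Cert_tree lc_d_Cert_tree lc_d_Cert_tree lc_d_rc_15_1 lc_d_Cert_tree lc_d_Cert_tree lc_d_rc_15_1 lc_d_Cert_tree lc_d_rc_15_1 lc_d_Cert_tree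 lc_d_rc_15_1 lc_d_rc_23_6 lc_d_Cert_tree lc_d_Cert_tree lc_d_Cert_tree lc_d_Cert_tree lc_d_rc_15_1 lc_d_rc_17_2 lc_d_rc_24_5 lc_d_rc_16_4 lc_d_rc_15_1 lc_d_Cert_tree lc_d_Cert_tree lc_d_rc_23_2 lc_d_rc_8_3 lc_d_rc_15_1 lc_d_rc_16_4 lc_d_Cert_tree lc_d_Cert_tree lc_d_rc_15_1 lc_d_rc_17_2 lc_d_Cert_tree lc_d_rc_15_1 lc_d_Cert_tree lc_d_Cert_tree lc_d_Cert_tree lc_d_rc_17_2 lc_d_rc_8_3 lc_d_rc_24_5 lc_d_Cert_tree lc_d_rc_15_1 lc_d_rc_27_8 lc_d_rc_23_6 lc_d_rc_15_1 lc_d_rc_17_2 lc_d_rc_8_3) (@D3.rec (fun _ => (Cert rels S Gen.d)) lc_d_rc_16_4 lc_d_rc_15_1 lc_d_rc_15_1 lc_d_Cert_tree lc_d_Cert_tree lc_d_rc_27_4 lc_d_rc_15_1 lc_d_rc_15_1 lc_d_rc_23_2 lc_d_Cert_tree lc_d_Cert_tree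 lc_d_Cert_tree lc_d_rc_15_1 lc_d_rc_17_2 lc_d_rc_15_1 lc_d_Cert_tree lc_d_rc_15_1 lc_d_rc_15_1 lc_d_Cert_tree lc_d_rc_8_3 lc_d_rc_23_2 lc_d_Cert_tree lc_d_rc_17_2 lc_d_Cert_tree lc_d_rc_15_1 lc_d_rc_17_2 lc_d_Cert_tree lc_d_Cert_tree lc_d_Cert_tree lc_d_Cert_tree lc_d_Cert_tree lc_d_rc_15_1 lc_d_rc_23_2 lc_d_rc_17_2 lc_d_rc_22_4 lc_d_rc_15_1 lc_d_rc_17_2 lc_d_Cert_tree lc_d_rc_15_1 lc_d_rc_3_3 lc_d_rc_16_0 lc_d_rc_17_2 lc_d_rc_15_1 lc_d_rc_15_1 lc_d_rc_15_1 lc_d_Cert_tree lc_d_Cert_tree lc_d_Cert_tree lc_d_Cert_tree lc_d_rc_15_1 lc_d_rc_17_2 lc_d_rc_23_2 lc_d_Cert_tree lc_d_rc_15_1 lc_d_Cert_tree lc_d_rc_15_1 lc_d_Cert_tree lc_d_Cert_tree lc_d_rc_15_1 lc_d_rc_17_2 lc_d_rc_15_1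 lc_d_Cert_tree) (@D3.rec (fun _ => (Cert rels S Gen.d)) lc_d_Cert_tree lc_d_rc_17_2 lc_d_Cert_tree lc_d_rc_15_1 lc_d_Cert_tree lc_d_Cert_tree lc_d_Cert_tree lc_d_rc_17_2 lc_d_rc_3_1 lc_d_Cert_tree lc_d_Cert_tree lc_d_rc_23_2 lc_d_rc_24_0 lc_d_Cert_tree lc_d_rc_15_1 lc_d_Cert_tree lc_d_Cert_tree lc_d_Cert_tree lc_d_rc_15_1 lc_d_rc_17_2 lc_d_rc_17_0 lc_d_rc_15_1 lc_d_rc_16_4 lc_d_Cert_tree lc_d_rc_15_1 lc_d_Cert_tree lc_d_Cert_tree lc_d_Cert_tree lc_d_rc_15_1 lc_d_rc_17_2 lc_d_Cert_tree lc_d_rc_8_3 lc_d_rc_15_1 lc_d_Cert_tree lc_d_Cert_tree lc_d_rc_24_5 lc_d_rc_15_1 lc_d_Cert_tree lc_d_rc_23_4 lc_d_rc_24_0 lc_d_rc_22_8 lc_d_Cert_tree lc_d_Cert_tree lc_d_Cert_tree lc_d_rc_15_1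 lc_d_rc_17_2 lc_d_Cert_tree lc_d_Cert_tree lc_d_rc_15_1 lc_d_Cert_tree lc_d_Cert_tree lc_d_Cert_tree lc_d_rc_15_1 lc_d_rc_27_2 lc_d_rc_15_1 lc_d_rc_15_1 lc_d_rc_15_1 lc_d_rc_23_6 lc_d_Cert_tree lc_d_Cert_tree lc_d_Cert_tree lc_d_rc_23_2) (@D3.rec (fun _ => (Cert rels S Gen.d)) lc_d_rc_23_2 lc_d_rc_15_1 lc_d_Cert_tree lc_d_Cert_tree lc_d_rc_15_1 lc_d_rc_17_2 lc_d_Cert_tree lc_d_rc_15_1 lc_d_rc_15_1 lc_d_Cert_tree lc_d_Cert_tree lc_d_rc_17_2 lc_d_Cert_tree lc_d_rc_3_3 lc_d_rc_23_2 lc_d_rc_23_8 lc_d_rc_15_1 lc_d_Cert_tree lc_d_Cert_tree lc_d_Cert_tree lc_d_rc_17_2 lc_d_rc_15_1 lc_d_rc_16_4 lc_d_Cert_tree lc_d_rc_15_1 lc_d_Cert_tree lc_d_Cert_tree lc_d_rc_15_1 lc_d_Cert_tree lc_d_rc_17_2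 lc_d_rc_8_3 lc_d_Cert_tree lc_d_rc_15_1 lc_d_Cert_tree lc_d_rc_15_1 lc_d_rc_15_1 lc_d_Cert_tree lc_d_rc_23_2 lc_d_rc_27_2 lc_d_Cert_tree lc_d_rc_15_1 lc_d_rc_8_3 lc_d_Cert_tree lc_d_Cert_tree lc_d_rc_15_1 lc_d_Cert_tree lc_d_rc_15_1 lc_d_rc_17_0 lc_d_Cert_tree lc_d_rc_15_1 lc_d_Cert_tree lc_d_rc_15_1 lc_d_rc_23_6 lc_d_rc_15_1 lc_d_rc_12_5 lc_d_rc_16_4 lc_d_rc_15_1 lc_d_rc_16_4 lc_d_rc_8_3 lc_d_rc_23_4 lc_d_rc_16_2 lc_d_rc_8_3) (@D3.rec (fun _ => (Cert rels S Gen.d)) lc_d_rc_12_11 lc_d_rc_16_4 lc_d_rc_12_3 lc_d_rc_23_4 lc_d_Cert_tree lc_d_rc_15_1 lc_d_rc_15_1 lc_d_rc_15_1 lc_d_rc_16_2 lc_d_rc_16_0 lc_d_rc_23_2 lc_d_rc_23_8 lc_d_Cert_tree lc_d_rc_15_1 lc_d_rc_15_1 lc_d_rc_8_3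 lc_d_rc_8_1 lc_d_Cert_tree lc_d_rc_15_1 lc_d_rc_24_5 lc_d_rc_15_1 lc_d_Cert_tree lc_d_Cert_tree lc_d_rc_15_1 lc_d_rc_15_1 lc_d_rc_15_1 lc_d_Cert_tree lc_d_rc_17_2 lc_d_rc_15_1 lc_d_rc_15_1 lc_d_rc_27_4 lc_d_rc_23_2 lc_d_rc_16_2 lc_d_rc_15_1 lc_d_rc_24_5 lc_d_rc_15_1 lc_d_rc_27_8 lc_d_Cert_tree lc_d_rc_16_2 lc_d_rc_22_8 lc_d_rc_23_2 lc_d_rc_27_4 lc_d_rc_8_3 lc_d_Cert_tree lc_d_rc_16_4 lc_d_Cert_tree lc_d_Cert_tree lc_d_Cert_tree lc_d_rc_15_1 lc_d_rc_17_2 lc_d_rc_16_4 lc_d_Cert_tree lc_d_rc_16_2 lc_d_rc_22_2 lc_d_Cert_tree lc_d_rc_15_1 lc_d_rc_27_10 lc_d_rc_15_1 lc_d_rc_17_2 lc_d_rc_15_1 lc_d_Cert_tree lc_d_rc_8_3) (@D3.rec (fun _ => (Cert rels S Gen.d)) lc_d_Cert_tree lc_d_rc_16_2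 lc_d_rc_8_1 lc_d_rc_15_1 lc_d_Cert_tree lc_d_rc_16_0 lc_d_rc_17_2 lc_d_Cert_tree lc_d_rc_8_1 lc_d_Cert_tree lc_d_rc_15_1 lc_d_Cert_tree lc_d_Cert_tree lc_d_rc_15_1 lc_d_rc_15_1 lc_d_Cert_tree lc_d_rc_16_4 lc_d_Cert_tree lc_d_rc_15_1 lc_d_rc_27_10 lc_d_rc_27_10 lc_d_rc_17_2 lc_d_Cert_tree lc_d_rc_15_1 lc_d_Cert_tree lc_d_rc_15_1 lc_d_rc_15_1 lc_d_rc_8_3 lc_d_rc_24_5 lc_d_Cert_tree lc_d_rc_15_1 lc_d_rc_8_3 lc_d_rc_23_6 lc_d_rc_23_6 lc_d_rc_16_4 lc_d_Cert_tree lc_d_Cert_tree lc_d_rc_16_2 lc_d_rc_17_2 lc_d_rc_16_4 lc_d_rc_27_10 lc_d_rc_15_1 lc_d_rc_17_2 lc_d_rc_23_4 lc_d_rc_16_4 lc_d_rc_23_6 lc_d_Cert_tree lc_d_rc_16_2 lc_d_rc_8_3 lc_d_Cert_tree lc_d_rc_17_0 lc_d_rc_17_2 lc_d_rc_16_4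 lc_d_rc_27_10 lc_d_rc_15_1 lc_d_Cert_tree lc_d_rc_15_1 lc_d_Cert_tree lc_d_Cert_tree lc_d_Cert_tree lc_d_rc_15_1 lc_d_rc_16_4)
def ce_d_3 : D2 → D3 → (Cert rels S Gen.d) := @D2.rec (fun _ => D3 → (Cert rels S Gen.d)) (@D3.rec (fun _ => (Cert rels S Gen.d)) lc_d_Cert_tree lc_d_rc_15_1 lc_d_Cert_tree lc_d_Cert_tree lc_d_rc_15_1 lc_d_rc_3_1 lc_d_Cert_tree lc_d_rc_15_1 lc_d_rc_27_4 lc_d_rc_17_2 lc_d_Cert_tree lc_d_rc_15_1 lc_d_Cert_tree lc_d_rc_15_1 lc_d_rc_3_3 lc_d_Cert_tree lc_d_rc_16_4 lc_d_rc_17_2 lc_d_rc_8_3 lc_d_rc_15_1 lc_d_Cert_tree lc_d_rc_15_1 lc_d_rc_15_1 lc_d_rc_8_3 lc_d_Cert_tree lc_d_rc_23_6 lc_d_rc_15_1 lc_d_rc_17_2 lc_d_rc_16_2 lc_d_rc_27_8 lc_d_Cert_tree lc_d_Cert_tree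 lc_d_rc_3_3 lc_d_rc_27_10 lc_d_rc_15_1 lc_d_rc_15_1 lc_d_rc_23_8 lc_d_rc_23_8 lc_d_rc_15_1 lc_d_Cert_tree lc_d_Cert_tree lc_d_Cert_tree lc_d_rc_17_2 lc_d_rc_25_14 lc_d_Cert_tree lc_d_rc_15_1 lc_d_Cert_tree lc_d_rc_15_1 lc_d_rc_27_8 lc_d_Cert_tree lc_d_rc_15_1 lc_d_rc_27_8 lc_d_Cert_tree lc_d_rc_15_1 lc_d_rc_27_4 lc_d_rc_27_4 lc_d_rc_15_1 lc_d_rc_22_6 lc_d_rc_15_1 lc_d_Cert_tree lc_d_rc_15_1 lc_d_rc_17_2) (@D3.rec (fun _ => (Cert rels S Gen.d)) lc_d_rc_15_1 lc_d_rc_27_8 lc_d_rc_15_1 lc_d_rc_24_5 lc_d_rc_15_1 lc_d_rc_17_2 lc_d_rc_17_2 lc_d_rc_15_1 lc_d_Cert_tree lc_d_rc_15_1 lc_d_Cert_tree lc_d_rc_15_1 lc_d_rc_15_1 lc_d_Cert_tree lc_d_rc_15_1 lc_d_rc_15_1 lc_d_Cert_tree lc_d_rc_15_1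 lc_d_rc_24_0 lc_d_rc_15_1 lc_d_Cert_tree lc_d_rc_8_3 lc_d_rc_22_2 lc_d_Cert_tree lc_d_rc_15_1 lc_d_rc_22_4 lc_d_rc_15_1 lc_d_Cert_tree lc_d_rc_8_3 lc_d_Cert_tree lc_d_rc_15_1 lc_d_rc_17_2 lc_d_rc_3_3 lc_d_rc_15_1 lc_d_rc_15_1 lc_d_rc_15_1 lc_d_Cert_tree lc_d_rc_17_2 lc_d_rc_16_2 lc_d_rc_16_4 lc_d_rc_15_1 lc_d_Cert_tree lc_d_Cert_tree lc_d_rc_15_1 lc_d_rc_23_8 lc_d_Cert_tree lc_d_rc_27_4 lc_d_rc_17_2 lc_d_Cert_tree lc_d_rc_8_1 lc_d_rc_15_1 lc_d_rc_3_3 lc_d_rc_22_2 lc_d_rc_16_4 lc_d_Cert_tree lc_d_rc_15_1 lc_d_Cert_tree lc_d_rc_15_1 lc_d_rc_17_2 lc_d_Cert_tree lc_d_rc_15_1 lc_d_Cert_tree) (@D3.rec (fun _ => (Cert rels S Gen.d)) lc_d_rc_8_1 lc_d_rc_15_1 lc_d_Cert_tree lc_d_rc_23_8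 lc_d_rc_24_0 lc_d_Cert_tree lc_d_rc_15_1 lc_d_Cert_tree lc_d_Cert_tree lc_d_rc_17_2 lc_d_rc_3_3 lc_d_rc_17_0 lc_d_rc_15_1 lc_d_rc_8_3 lc_d_Cert_tree lc_d_rc_24_0 lc_d_Cert_tree lc_d_Cert_tree lc_d_rc_24_0 lc_d_Cert_tree lc_d_rc_15_1 lc_d_Cert_tree lc_d_Cert_tree lc_d_Cert_tree lc_d_Cert_tree lc_d_rc_15_1 lc_d_Cert_tree lc_d_rc_15_1 lc_d_Cert_tree lc_d_rc_16_2 lc_d_Cert_tree lc_d_Cert_tree lc_d_rc_15_1 lc_d_rc_17_2 lc_d_Cert_tree lc_d_rc_15_1 lc_d_Cert_tree lc_d_rc_15_1 lc_d_rc_27_8 lc_d_rc_12_1 lc_d_rc_15_1 lc_d_rc_22_6 lc_d_rc_17_2 lc_d_Cert_tree lc_d_rc_15_1 lc_d_rc_23_2 lc_d_rc_15_1 lc_d_rc_15_1 lc_d_Cert_tree lc_d_rc_15_1 lc_d_rc_27_4 lc_d_rc_15_1 lc_d_rc_8_3 lc_d_rc_15_1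 lc_d_rc_27_4 lc_d_rc_17_2 lc_d_rc_15_1 lc_d_rc_15_1 lc_d_Cert_tree lc_d_Cert_tree lc_d_Cert_tree lc_d_rc_15_1) (@D3.rec (fun _ => (Cert rels S Gen.d)) lc_d_rc_15_1 lc_d_rc_15_1 lc_d_rc_27_10 lc_d_rc_15_1 lc_d_rc_27_2 lc_d_rc_15_1 lc_d_Cert_tree lc_d_rc_15_1 lc_d_Cert_tree lc_d_rc_15_1 lc_d_rc_27_8 lc_d_rc_15_1 lc_d_rc_15_1 lc_d_Cert_tree lc_d_rc_15_1 lc_d_rc_23_8 lc_d_rc_17_0 lc_d_Cert_tree lc_d_Cert_tree lc_d_Cert_tree lc_d_rc_15_1 lc_d_rc_17_2 lc_d_Cert_tree lc_d_Cert_tree lc_d_rc_27_2 lc_d_rc_24_5 lc_d_Cert_tree lc_d_Cert_tree lc_d_Cert_tree lc_d_Cert_tree lc_d_rc_15_1 lc_d_rc_17_2 lc_d_rc_22_6 lc_d_rc_17_2 lc_d_rc_15_1 lc_d_Cert_tree lc_d_rc_23_2 lc_d_rc_15_1 lc_d_Cert_tree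 lc_d_rc_15_1 lc_d_rc_17_2 lc_d_rc_15_1 lc_d_rc_25_2 lc_d_rc_15_1 lc_d_Cert_tree lc_d_rc_15_1 lc_d_rc_16_2 lc_d_rc_23_2 lc_d_rc_27_8 lc_d_rc_15_1 lc_d_Cert_tree lc_d_rc_15_1 lc_d_rc_17_2 lc_d_Cert_tree lc_d_rc_15_1 lc_d_rc_27_4 lc_d_Cert_tree lc_d_rc_15_1 lc_d_rc_8_3 lc_d_rc_24_5 lc_d_rc_15_1 lc_d_rc_16_4) (@D3.rec (fun _ => (Cert rels S Gen.d)) lc_d_rc_23_8 lc_d_Cert_tree lc_d_rc_15_1 lc_d_Cert_tree lc_d_Cert_tree lc_d_rc_15_1 lc_d_rc_17_2 lc_d_rc_24_5 lc_d_rc_15_1 lc_d_Cert_tree lc_d_rc_15_1 lc_d_Cert_tree lc_d_rc_15_1 lc_d_rc_8_3 lc_d_Cert_tree lc_d_Cert_tree lc_d_rc_25_14 lc_d_rc_8_1 lc_d_rc_15_1 lc_d_rc_23_4 lc_d_Cert_tree lc_d_Cert_tree lc_d_rc_15_1 lc_d_rc_17_2 lc_d_rc_15_1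 lc_d_rc_27_4 lc_d_Cert_tree lc_d_rc_15_1 lc_d_Cert_tree lc_d_rc_23_6 lc_d_rc_15_1 lc_d_Cert_tree lc_d_rc_17_2 lc_d_rc_15_1 lc_d_rc_27_4 lc_d_Cert_tree lc_d_rc_15_1 lc_d_Cert_tree lc_d_rc_15_1 lc_d_Cert_tree lc_d_rc_15_1 lc_d_Cert_tree lc_d_Cert_tree lc_d_rc_24_5 lc_d_Cert_tree lc_d_Cert_tree lc_d_Cert_tree lc_d_Cert_tree lc_d_Cert_tree lc_d_rc_15_1 lc_d_rc_15_1 lc_d_rc_22_6 lc_d_rc_15_1 lc_d_Cert_tree lc_d_rc_15_1 lc_d_rc_24_0 lc_d_Cert_tree lc_d_rc_15_1 lc_d_Cert_tree lc_d_rc_8_3 lc_d_Cert_tree lc_d_rc_27_10) (@D3.rec (fun _ => (Cert rels S Gen.d)) lc_d_rc_15_1 lc_d_rc_17_2 lc_d_Cert_tree lc_d_rc_15_1 lc_d_rc_27_8 lc_d_rc_15_1 lc_d_Cert_tree lc_d_Cert_tree lc_d_Cert_tree lc_d_Cert_tree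 lc_d_rc_15_1 lc_d_rc_17_2 lc_d_Cert_tree lc_d_Cert_tree lc_d_rc_15_1 lc_d_rc_17_2 lc_d_Cert_tree lc_d_rc_24_5 lc_d_rc_15_1 lc_d_Cert_tree lc_d_rc_24_5 lc_d_rc_15_1 lc_d_Cert_tree lc_d_rc_15_1 lc_d_rc_15_1 lc_d_Cert_tree lc_d_rc_17_2 lc_d_rc_15_1 lc_d_rc_16_4 lc_d_rc_8_3 lc_d_rc_16_4 lc_d_rc_22_8 lc_d_Cert_tree lc_d_rc_15_1 lc_d_rc_22_4 lc_d_rc_16_4 lc_d_rc_23_8 lc_d_rc_8_1 lc_d_Cert_tree lc_d_Cert_tree lc_d_rc_15_1 lc_d_rc_16_4 lc_d_Cert_tree lc_d_Cert_tree lc_d_rc_15_1 lc_d_rc_15_1 lc_d_rc_22_8 lc_d_rc_27_2 lc_d_rc_15_1 lc_d_Cert_tree lc_d_rc_15_1 lc_d_Cert_tree lc_d_rc_15_1 lc_d_rc_22_6 lc_d_rc_27_4 lc_d_rc_15_1 lc_d_rc_15_1 lc_d_Cert_tree lc_d_Cert_tree lc_d_Cert_tree lc_d_rc_15_1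 lc_d_rc_8_1) (@D3.rec (fun _ => (Cert rels S Gen.d)) lc_d_Cert_tree lc_d_rc_15_1 lc_d_rc_23_6 lc_d_Cert_tree lc_d_Cert_tree lc_d_rc_15_1 lc_d_Cert_tree lc_d_rc_15_1 lc_d_rc_27_8 lc_d_rc_15_1 lc_d_rc_15_1 lc_d_Cert_tree lc_d_rc_17_2 lc_d_rc_8_3 lc_d_rc_15_1 lc_d_Cert_tree lc_d_Cert_tree lc_d_Cert_tree lc_d_rc_15_1 lc_d_rc_27_2 lc_d_Cert_tree lc_d_Cert_tree lc_d_rc_15_1 lc_d_Cert_tree lc_d_Cert_tree lc_d_rc_15_1 lc_d_Cert_tree lc_d_Cert_tree lc_d_rc_15_1 lc_d_Cert_tree lc_d_Cert_tree lc_d_Cert_tree lc_d_rc_15_1 lc_d_rc_17_2 lc_d_rc_27_2 lc_d_rc_15_1 lc_d_rc_15_1 lc_d_rc_22_8 lc_d_Cert_tree lc_d_rc_23_4 lc_d_rc_15_1 lc_d_rc_27_4 lc_d_rc_22_6 lc_d_rc_15_1 lc_d_rc_27_8 lc_d_rc_15_1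 lc_d_Cert_tree lc_d_rc_17_2 lc_d_rc_8_3 lc_d_rc_15_1 lc_d_Cert_tree lc_d_rc_15_1 lc_d_rc_22_6 lc_d_rc_16_4 lc_d_rc_15_1 lc_d_rc_16_4 lc_d_Cert_tree lc_d_Cert_tree lc_d_rc_17_2 lc_d_rc_8_1 lc_d_rc_15_1 lc_d_rc_27_4) (@D3.rec (fun _ => (Cert rels S Gen.d)) lc_d_Cert_tree lc_d_Cert_tree lc_d_rc_15_1 lc_d_Cert_tree lc_d_rc_27_4 lc_d_rc_15_1 lc_d_rc_22_6 lc_d_Cert_tree lc_d_rc_24_0 lc_d_rc_15_1 lc_d_rc_23_2 lc_d_rc_16_4 lc_d_rc_8_1 lc_d_rc_15_1 lc_d_Cert_tree lc_d_rc_17_2 lc_d_rc_17_2 lc_d_Cert_tree lc_d_rc_15_1 lc_d_Cert_tree lc_d_Cert_tree lc_d_rc_22_6 lc_d_rc_15_1 lc_d_rc_16_4 lc_d_rc_15_1 lc_d_rc_24_0 lc_d_rc_17_2 lc_d_Cert_tree lc_d_rc_17_2 lc_d_Cert_tree lc_d_rc_15_1 lc_d_rc_3_3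 lc_d_Cert_tree lc_d_rc_16_4 lc_d_rc_8_1 lc_d_rc_15_1 lc_d_Cert_tree lc_d_rc_8_3 lc_d_rc_17_2 lc_d_Cert_tree lc_d_rc_15_1 lc_d_Cert_tree lc_d_rc_22_4 lc_d_rc_15_1 lc_d_Cert_tree lc_d_rc_15_1 lc_d_rc_23_6 lc_d_Cert_tree lc_d_rc_24_5 lc_d_Cert_tree lc_d_rc_15_1 lc_d_rc_17_2 lc_d_Cert_tree lc_d_Cert_tree lc_d_rc_15_1 lc_d_rc_27_4 lc_d_Cert_tree lc_d_Cert_tree lc_d_rc_15_1 lc_d_rc_8_3 lc_d_rc_23_8 lc_d_Cert_tree) (@D3.rec (fun _ => (Cert rels S Gen.d)) lc_d_rc_15_1 lc_d_rc_8_3 lc_d_rc_16_0 lc_d_rc_16_4 lc_d_Cert_tree lc_d_rc_15_1 lc_d_rc_24_0 lc_d_rc_15_1 lc_d_rc_16_4 lc_d_rc_24_5 lc_d_rc_16_4 lc_d_rc_8_3 lc_d_Cert_tree lc_d_Cert_tree lc_d_rc_23_8 lc_d_rc_15_1 lc_d_Cert_tree lc_d_Cert_tree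 lc_d_rc_15_1 lc_d_rc_17_2 lc_d_rc_15_1 lc_d_rc_15_1 lc_d_Cert_tree lc_d_rc_17_2 lc_d_Cert_tree lc_d_Cert_tree lc_d_Cert_tree lc_d_rc_15_1 lc_d_rc_15_1 lc_d_Cert_tree lc_d_rc_15_1 lc_d_rc_27_8 lc_d_rc_23_2 lc_d_rc_23_2 lc_d_Cert_tree lc_d_rc_16_2 lc_d_rc_27_4 lc_d_Cert_tree lc_d_Cert_tree lc_d_Cert_tree lc_d_rc_15_1 lc_d_Cert_tree lc_d_rc_8_1 lc_d_rc_15_1 lc_d_Cert_tree lc_d_Cert_tree lc_d_rc_16_2 lc_d_rc_15_1 lc_d_rc_3_3 lc_d_Cert_tree lc_d_rc_15_1 lc_d_rc_3_3 lc_d_Cert_tree lc_d_Cert_tree lc_d_Cert_tree lc_d_Cert_tree lc_d_rc_15_1 lc_d_rc_17_2 lc_d_rc_16_4 lc_d_rc_15_1 lc_d_rc_15_1 lc_d_Cert_tree) (@D3.rec (fun _ => (Cert rels S Gen.d)) lc_d_rc_16_2 lc_d_rc_15_1 lc_d_rc_27_2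 lc_d_rc_27_10 lc_d_rc_15_1 lc_d_rc_15_1 lc_d_rc_8_3 lc_d_Cert_tree lc_d_rc_16_4 lc_d_rc_8_3 lc_d_Cert_tree lc_d_Cert_tree lc_d_rc_15_1 lc_d_rc_17_2 lc_d_rc_15_1 lc_d_Cert_tree lc_d_rc_16_4 lc_d_rc_8_3 lc_d_Cert_tree lc_d_rc_15_1 lc_d_rc_15_1 lc_d_rc_17_2 lc_d_Cert_tree lc_d_Cert_tree lc_d_Cert_tree lc_d_rc_15_1 lc_d_rc_8_3 lc_d_rc_16_4 lc_d_Cert_tree lc_d_rc_25_18 lc_d_rc_22_6 lc_d_rc_27_2 lc_d_Cert_tree lc_d_rc_15_1 lc_d_Cert_tree lc_d_rc_16_2 lc_d_rc_8_3 lc_d_rc_27_2 lc_d_rc_15_1 lc_d_rc_15_1 lc_d_rc_24_0 lc_d_rc_15_1 lc_d_Cert_tree lc_d_rc_16_4 lc_d_rc_8_3 lc_d_rc_24_0 lc_d_Cert_tree lc_d_rc_15_1 lc_d_rc_17_2 lc_d_rc_16_4 lc_d_Cert_tree lc_d_rc_12_1 lc_d_rc_15_1 lc_d_Cert_tree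 lc_d_Cert_tree lc_d_rc_15_1 lc_d_Cert_tree lc_d_rc_15_1 lc_d_Cert_tree lc_d_Cert_tree lc_d_Cert_tree lc_d_rc_15_1) (@D3.rec (fun _ => (Cert rels S Gen.d)) lc_d_Cert_tree lc_d_Cert_tree lc_d_rc_15_1 lc_d_rc_17_2 lc_d_rc_15_1 lc_d_rc_23_6 lc_d_rc_22_4 lc_d_rc_17_2 lc_d_rc_15_1 lc_d_rc_27_2 lc_d_rc_15_1 lc_d_rc_24_0 lc_d_rc_15_1 lc_d_rc_24_5 lc_d_rc_16_4 lc_d_rc_15_1 lc_d_Cert_tree lc_d_Cert_tree lc_d_Cert_tree lc_d_rc_15_1 lc_d_rc_16_4 lc_d_rc_3_1 lc_d_rc_8_3 lc_d_rc_16_4 lc_d_rc_3_3 lc_d_rc_27_4 lc_d_rc_8_3 lc_d_rc_15_1 lc_d_rc_24_5 lc_d_Cert_tree lc_d_rc_15_1 lc_d_rc_15_1 lc_d_rc_22_4 lc_d_rc_15_1 lc_d_rc_27_10 lc_d_rc_15_1 lc_d_rc_27_4 lc_d_rc_15_1 lc_d_rc_27_10 lc_d_rc_24_5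 lc_d_rc_23_4 lc_d_rc_23_2 lc_d_rc_23_2 lc_d_rc_24_0 lc_d_Cert_tree lc_d_rc_8_3 lc_d_rc_8_3 lc_d_rc_23_8 lc_d_rc_12_15 lc_d_rc_23_6 lc_d_rc_23_2 lc_d_rc_27_2 lc_d_rc_27_10 lc_d_rc_22_2 lc_d_rc_15_1 lc_d_rc_24_0 lc_d_Cert_tree lc_d_rc_15_1 lc_d_rc_15_1 lc_d_rc_24_0 lc_d_rc_15_1 lc_d_rc_15_1) (@D3.rec (fun _ => (Cert rels S Gen.d)) lc_d_rc_23_8 lc_d_rc_24_5 lc_d_rc_24_0 lc_d_rc_23_2 lc_d_rc_16_4 lc_d_rc_23_4 lc_d_rc_3_3 lc_d_Cert_tree lc_d_Cert_tree lc_d_rc_15_1 lc_d_Cert_tree lc_d_rc_15_1 lc_d_rc_15_1 lc_d_rc_24_0 lc_d_Cert_tree lc_d_Cert_tree lc_d_Cert_tree lc_d_Cert_tree lc_d_rc_15_1 lc_d_Cert_tree lc_d_Cert_tree lc_d_rc_15_1 lc_d_Cert_tree lc_d_Cert_tree lc_d_rc_15_1 lc_d_Cert_tree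 lc_d_rc_22_8 lc_d_rc_15_1 lc_d_rc_27_4 lc_d_rc_8_3 lc_d_Cert_tree lc_d_rc_16_4 lc_d_rc_24_0 lc_d_Cert_tree lc_d_Cert_tree lc_d_rc_15_1 lc_d_rc_17_2 lc_d_rc_8_3 lc_d_Cert_tree lc_d_rc_15_1 lc_d_rc_23_4 lc_d_rc_15_1 lc_d_Cert_tree lc_d_rc_15_1 lc_d_rc_8_3 lc_d_Cert_tree lc_d_rc_17_2 lc_d_rc_8_3 lc_d_rc_17_2 lc_d_rc_15_1 lc_d_rc_15_1 lc_d_rc_23_4 lc_d_Cert_tree lc_d_rc_8_3 lc_d_Cert_tree lc_d_rc_8_3 lc_d_rc_3_3 lc_d_rc_24_5 lc_d_Cert_tree lc_d_rc_16_4 lc_d_rc_23_2 lc_d_rc_15_1) (@D3.rec (fun _ => (Cert rels S Gen.d)) lc_d_rc_15_1 lc_d_rc_23_2 lc_d_rc_15_1 lc_d_rc_8_3 lc_d_rc_16_4 lc_d_rc_27_10 lc_d_rc_8_3 lc_d_rc_22_2 lc_d_rc_23_2 lc_d_rc_15_1 lc_d_rc_16_2 lc_d_rc_8_3 lc_d_rc_27_4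 lc_d_rc_8_3 lc_d_rc_8_3 lc_d_rc_24_5 lc_d_Cert_tree lc_d_Cert_tree lc_d_rc_15_1 lc_d_Cert_tree lc_d_rc_24_5 lc_d_rc_24_5 lc_d_rc_15_1 lc_d_rc_8_3 lc_d_Cert_tree lc_d_rc_15_1 lc_d_Cert_tree lc_d_rc_8_1 lc_d_rc_15_1 lc_d_Cert_tree lc_d_Cert_tree lc_d_Cert_tree lc_d_Cert_tree lc_d_rc_15_1 lc_d_rc_27_4 lc_d_rc_22_4 lc_d_rc_16_4 lc_d_rc_15_1 lc_d_Cert_tree lc_d_rc_27_4 lc_d_rc_15_1 lc_d_rc_17_2 lc_d_rc_16_0 lc_d_rc_27_4 lc_d_rc_15_1 lc_d_rc_27_8 lc_d_rc_22_6 lc_d_rc_16_4 lc_d_rc_15_1 lc_d_Cert_tree lc_d_Cert_tree lc_d_Cert_tree lc_d_rc_17_2 lc_d_rc_15_1 lc_d_rc_15_1 lc_d_rc_15_1 lc_d_rc_27_8 lc_d_Cert_tree lc_d_Cert_tree lc_d_rc_15_1 lc_d_rc_15_1 lc_d_rc_16_4) (@D3.rec (fun _ =>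 (Cert rels S Gen.d)) lc_d_rc_23_2 lc_d_rc_15_1 lc_d_rc_15_1 lc_d_rc_15_1 lc_d_rc_16_2 lc_d_rc_27_8 lc_d_rc_15_1 lc_d_Cert_tree lc_d_Cert_tree lc_d_Cert_tree lc_d_rc_15_1 lc_d_Cert_tree lc_d_Cert_tree lc_d_rc_15_1 lc_d_rc_15_1 lc_d_rc_27_10 lc_d_rc_15_1 lc_d_rc_27_2 lc_d_rc_16_4 lc_d_rc_16_4 lc_d_rc_27_8 lc_d_rc_15_1 lc_d_rc_15_1 lc_d_rc_15_1 lc_d_rc_17_2 lc_d_rc_15_1 lc_d_Cert_tree lc_d_rc_15_1 lc_d_rc_27_8 lc_d_rc_27_10 lc_d_rc_15_1 lc_d_Cert_tree lc_d_rc_15_1 lc_d_Cert_tree lc_d_Cert_tree lc_d_rc_15_1 lc_d_rc_15_1 lc_d_Cert_tree lc_d_Cert_tree lc_d_rc_15_1 lc_d_rc_17_2 lc_d_rc_15_1 lc_d_Cert_tree lc_d_Cert_tree lc_d_rc_16_2 lc_d_rc_16_0 lc_d_rc_15_1 lc_d_rc_16_4 lc_d_rc_8_3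 lc_d_Cert_tree lc_d_Cert_tree lc_d_rc_15_1 lc_d_rc_16_4 lc_d_rc_15_1 lc_d_rc_24_0 lc_d_Cert_tree lc_d_rc_15_1 lc_d_rc_22_2 lc_d_rc_3_3 lc_d_rc_27_4 lc_d_rc_16_0 lc_d_rc_15_1) (@D3.rec (fun _ => (Cert rels S Gen.d)) lc_d_rc_23_2 lc_d_Cert_tree lc_d_rc_15_1 lc_d_rc_17_2 lc_d_Cert_tree lc_d_rc_15_1 lc_d_Cert_tree lc_d_Cert_tree lc_d_rc_15_1 lc_d_Cert_tree lc_d_rc_15_1 lc_d_rc_24_0 lc_d_Cert_tree lc_d_Cert_tree lc_d_Cert_tree lc_d_rc_15_1 lc_d_rc_17_2 lc_d_Cert_tree lc_d_Cert_tree lc_d_rc_15_1 lc_d_Cert_tree lc_d_Cert_tree lc_d_rc_15_1 lc_d_Cert_tree lc_d_Cert_tree lc_d_rc_15_1 lc_d_rc_15_1 lc_d_rc_15_1 lc_d_rc_16_2 lc_d_rc_17_2 lc_d_Cert_tree lc_d_rc_15_1 lc_d_Cert_tree lc_d_rc_27_4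 lc_d_rc_15_1 lc_d_rc_15_1 lc_d_rc_15_1 lc_d_rc_24_5 lc_d_Cert_tree lc_d_Cert_tree lc_d_Cert_tree lc_d_rc_15_1 lc_d_Cert_tree lc_d_rc_15_1 lc_d_Cert_tree lc_d_rc_15_1 lc_d_rc_15_1 lc_d_rc_8_3 lc_d_Cert_tree lc_d_Cert_tree lc_d_rc_15_1 lc_d_rc_15_1 lc_d_rc_24_0 lc_d_Cert_tree lc_d_Cert_tree lc_d_rc_15_1 lc_d_rc_8_3 lc_d_Cert_tree lc_d_rc_27_8 lc_d_rc_8_1 lc_d_rc_15_1 lc_d_Cert_tree) (@D3.rec (fun _ => (Cert rels S Gen.d)) lc_d_rc_3_3 lc_d_Cert_tree lc_d_Cert_tree lc_d_rc_15_1 lc_d_rc_16_4 lc_d_Cert_tree lc_d_rc_8_1 lc_d_rc_8_3 lc_d_Cert_tree lc_d_rc_8_3 lc_d_Cert_tree lc_d_rc_15_1 lc_d_rc_17_2 lc_d_Cert_tree lc_d_Cert_tree lc_d_rc_16_2 lc_d_rc_8_1 lc_d_rc_15_1 lc_d_Cert_tree lc_d_Cert_tree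 lc_d_rc_15_1 lc_d_rc_16_4 lc_d_rc_24_5 lc_d_rc_8_3 lc_d_Cert_tree lc_d_Cert_tree lc_d_rc_17_2 lc_d_Cert_tree lc_d_rc_15_1 lc_d_Cert_tree lc_d_rc_8_1 lc_d_rc_15_1 lc_d_Cert_tree lc_d_rc_22_6 lc_d_rc_15_1 lc_d_Cert_tree lc_d_rc_23_2 lc_d_rc_24_0 lc_d_Cert_tree lc_d_Cert_tree lc_d_Cert_tree lc_d_rc_15_1 lc_d_Cert_tree lc_d_rc_15_1 lc_d_rc_27_4 lc_d_rc_27_2 lc_d_Cert_tree lc_d_rc_15_1 lc_d_rc_8_3 lc_d_rc_27_2 lc_d_Cert_tree lc_d_Cert_tree lc_d_rc_8_3 lc_d_rc_15_1 lc_d_Cert_tree lc_d_Cert_tree lc_d_rc_15_1 lc_d_rc_15_1 lc_d_rc_17_0 lc_d_Cert_tree lc_d_rc_15_1 lc_d_Cert_tree) (@D3.rec (fun _ => (Cert rels S Gen.d)) lc_d_Cert_tree lc_d_rc_15_1 lc_d_rc_24_5 lc_d_rc_23_8 lc_d_rc_8_1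 lc_d_rc_15_1 lc_d_Cert_tree lc_d_rc_15_1 lc_d_rc_17_2 lc_d_Cert_tree lc_d_rc_3_3 lc_d_rc_15_1 lc_d_Cert_tree lc_d_Cert_tree lc_d_Cert_tree lc_d_Cert_tree lc_d_rc_15_1 lc_d_Cert_tree lc_d_Cert_tree lc_d_Cert_tree lc_d_Cert_tree lc_d_rc_15_1 lc_d_rc_17_2 lc_d_rc_27_10 lc_d_Cert_tree lc_d_rc_15_1 lc_d_Cert_tree lc_d_Cert_tree lc_d_rc_23_2 lc_d_Cert_tree lc_d_rc_22_2 lc_d_rc_8_1 lc_d_rc_15_1 lc_d_Cert_tree lc_d_Cert_tree lc_d_Cert_tree lc_d_rc_15_1 lc_d_rc_17_2 lc_d_rc_8_3 lc_d_Cert_tree lc_d_rc_8_1 lc_d_Cert_tree lc_d_rc_3_3 lc_d_rc_23_2 lc_d_rc_15_1 lc_d_Cert_tree lc_d_rc_23_2 lc_d_rc_15_1 lc_d_Cert_tree lc_d_Cert_tree lc_d_Cert_tree lc_d_rc_15_1 lc_d_rc_17_2 lc_d_Cert_tree lc_d_rc_15_1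 lc_d_rc_27_4 lc_d_Cert_tree lc_d_rc_15_1 lc_d_Cert_tree lc_d_rc_8_3 lc_d_Cert_tree lc_d_rc_17_2) (@D3.rec (fun _ => (Cert rels S Gen.d)) lc_d_rc_23_2 lc_d_rc_22_6 lc_d_Cert_tree lc_d_rc_15_1 lc_d_Cert_tree lc_d_Cert_tree lc_d_rc_15_1 lc_d_rc_22_2 lc_d_rc_25_2 lc_d_rc_23_8 lc_d_Cert_tree lc_d_rc_15_1 lc_d_Cert_tree lc_d_Cert_tree lc_d_Cert_tree lc_d_Cert_tree lc_d_rc_15_1 lc_d_rc_17_2 lc_d_Cert_tree lc_d_rc_15_1 lc_d_Cert_tree lc_d_rc_15_1 lc_d_rc_17_2 lc_d_Cert_tree lc_d_rc_15_1 lc_d_Cert_tree lc_d_rc_17_2 lc_d_Cert_tree lc_d_Cert_tree lc_d_rc_8_3 lc_d_rc_15_1 lc_d_rc_15_1 lc_d_Cert_tree lc_d_Cert_tree lc_d_rc_15_1 lc_d_rc_17_2 lc_d_rc_3_3 lc_d_Cert_tree lc_d_Cert_tree lc_d_rc_15_1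 lc_d_rc_17_2 lc_d_Cert_tree lc_d_rc_15_1 lc_d_rc_15_1 lc_d_Cert_tree lc_d_rc_24_5 lc_d_rc_15_1 lc_d_Cert_tree lc_d_rc_15_1 lc_d_Cert_tree lc_d_rc_24_5 lc_d_rc_23_6 lc_d_rc_22_6 lc_d_Cert_tree lc_d_Cert_tree lc_d_Cert_tree lc_d_rc_15_1 lc_d_rc_17_2 lc_d_rc_8_3 lc_d_Cert_tree lc_d_Cert_tree lc_d_rc_8_3) (@D3.rec (fun _ => (Cert rels S Gen.d)) lc_d_Cert_tree lc_d_Cert_tree lc_d_Cert_tree lc_d_rc_15_1 lc_d_rc_17_2 lc_d_Cert_tree lc_d_Cert_tree lc_d_Cert_tree lc_d_rc_15_1 lc_d_rc_3_3 lc_d_Cert_tree lc_d_Cert_tree lc_d_rc_15_1 lc_d_Cert_tree lc_d_rc_16_2 lc_d_rc_17_2 lc_d_Cert_tree lc_d_rc_17_2 lc_d_Cert_tree lc_d_Cert_tree lc_d_Cert_tree lc_d_rc_15_1 lc_d_Cert_tree lc_d_Cert_tree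 lc_d_Cert_tree lc_d_rc_15_1 lc_d_rc_23_6 lc_d_Cert_tree lc_d_rc_3_3 lc_d_rc_15_1 lc_d_rc_17_2 lc_d_rc_15_1 lc_d_rc_23_2 lc_d_rc_15_1 lc_d_rc_16_2 lc_d_Cert_tree lc_d_rc_15_1 lc_d_Cert_tree lc_d_Cert_tree lc_d_rc_3_1 lc_d_rc_15_1 lc_d_rc_15_1 lc_d_Cert_tree lc_d_rc_15_1 lc_d_Cert_tree lc_d_rc_15_1 lc_d_rc_15_1 lc_d_rc_15_1 lc_d_Cert_tree lc_d_rc_15_1 lc_d_Cert_tree lc_d_Cert_tree lc_d_Cert_tree lc_d_Cert_tree lc_d_Cert_tree lc_d_Cert_tree lc_d_rc_15_1 lc_d_rc_8_3 lc_d_Cert_tree lc_d_Cert_tree lc_d_rc_24_5 lc_d_rc_15_1) (@D3.rec (fun _ => (Cert rels S Gen.d)) lc_d_rc_23_2 lc_d_rc_15_1 lc_d_Cert_tree lc_d_rc_8_3 lc_d_rc_16_4 lc_d_rc_23_6 lc_d_rc_15_1 lc_d_Cert_tree lc_d_Cert_tree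 lc_d_Cert_tree lc_d_rc_15_1 lc_d_rc_17_2 lc_d_rc_23_4 lc_d_rc_3_3 lc_d_rc_15_1 lc_d_rc_27_4 lc_d_Cert_tree lc_d_Cert_tree lc_d_rc_15_1 lc_d_Cert_tree lc_d_rc_15_1 lc_d_Cert_tree lc_d_rc_17_2 lc_d_Cert_tree lc_d_rc_15_1 lc_d_rc_27_2 lc_d_rc_15_1 lc_d_rc_15_1 lc_d_rc_16_2 lc_d_rc_15_1 lc_d_Cert_tree lc_d_rc_27_10 lc_d_rc_15_1 lc_d_rc_24_0 lc_d_rc_17_0 lc_d_rc_15_1 lc_d_Cert_tree lc_d_Cert_tree lc_d_Cert_tree lc_d_rc_15_1 lc_d_rc_17_2 lc_d_rc_16_4 lc_d_Cert_tree lc_d_rc_15_1 lc_d_Cert_tree lc_d_rc_15_1 lc_d_rc_8_1 lc_d_Cert_tree lc_d_Cert_tree lc_d_rc_23_8 lc_d_Cert_tree lc_d_Cert_tree lc_d_Cert_tree lc_d_rc_15_1 lc_d_rc_17_2 lc_d_Cert_tree lc_d_rc_15_1 lc_d_Cert_tree lc_d_Cert_tree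 lc_d_Cert_tree lc_d_rc_17_2 lc_d_rc_15_1) (@D3.rec (fun _ => (Cert rels S Gen.d)) lc_d_rc_15_1 lc_d_rc_15_1 lc_d_rc_23_2 lc_d_rc_15_1 lc_d_rc_23_8 lc_d_rc_15_1 lc_d_rc_27_4 lc_d_rc_8_3 lc_d_rc_16_4 lc_d_Cert_tree lc_d_Cert_tree lc_d_Cert_tree lc_d_rc_15_1 lc_d_rc_17_2 lc_d_rc_16_2 lc_d_rc_8_3 lc_d_rc_23_8 lc_d_rc_16_4 lc_d_rc_15_1 lc_d_rc_24_0 lc_d_rc_15_1 lc_d_Cert_tree lc_d_Cert_tree lc_d_rc_17_2 lc_d_Cert_tree lc_d_rc_15_1 lc_d_Cert_tree lc_d_Cert_tree lc_d_rc_15_1 lc_d_rc_17_2 lc_d_rc_8_3 lc_d_Cert_tree lc_d_rc_8_1 lc_d_Cert_tree lc_d_Cert_tree lc_d_rc_15_1 lc_d_Cert_tree lc_d_rc_27_4 lc_d_Cert_tree lc_d_rc_15_1 lc_d_Cert_tree lc_d_Cert_tree lc_d_rc_25_14 lc_d_Cert_tree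 lc_d_rc_8_3 lc_d_rc_15_1 lc_d_Cert_tree lc_d_rc_15_1 lc_d_Cert_tree lc_d_rc_15_1 lc_d_Cert_tree lc_d_rc_15_1 lc_d_rc_22_2 lc_d_Cert_tree lc_d_Cert_tree lc_d_Cert_tree lc_d_rc_15_1 lc_d_rc_8_3 lc_d_rc_15_1 lc_d_rc_27_8 lc_d_rc_27_10 lc_d_rc_15_1) (@D3.rec (fun _ => (Cert rels S Gen.d)) lc_d_Cert_tree lc_d_rc_23_4 lc_d_rc_15_1 lc_d_rc_27_4 lc_d_rc_8_3 lc_d_rc_23_4 lc_d_rc_27_2 lc_d_rc_15_1 lc_d_rc_23_6 lc_d_Cert_tree lc_d_rc_15_1 lc_d_rc_22_4 lc_d_rc_16_4 lc_d_rc_27_8 lc_d_rc_27_4 lc_d_rc_15_1 lc_d_rc_27_8 lc_d_rc_15_1 lc_d_rc_15_1 lc_d_rc_17_2 lc_d_Cert_tree lc_d_rc_16_2 lc_d_rc_15_1 lc_d_Cert_tree lc_d_rc_15_1 lc_d_rc_27_4 lc_d_rc_8_1 lc_d_rc_15_1 lc_d_rc_15_1 lc_d_rc_12_1 lc_d_Cert_tree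 lc_d_rc_24_0 lc_d_rc_15_1 lc_d_Cert_tree lc_d_Cert_tree lc_d_rc_15_1 lc_d_rc_27_2 lc_d_rc_15_1 lc_d_rc_24_0 lc_d_Cert_tree lc_d_Cert_tree lc_d_rc_16_4 lc_d_Cert_tree lc_d_Cert_tree lc_d_rc_15_1 lc_d_Cert_tree lc_d_Cert_tree lc_d_rc_15_1 lc_d_rc_25_18 lc_d_rc_8_3 lc_d_rc_15_1 lc_d_Cert_tree lc_d_rc_23_8 lc_d_Cert_tree lc_d_rc_15_1 lc_d_rc_24_5 lc_d_Cert_tree lc_d_rc_15_1 lc_d_rc_22_4 lc_d_Cert_tree lc_d_rc_15_1 lc_d_rc_15_1) (@D3.rec (fun _ => (Cert rels S Gen.d)) lc_d_rc_16_0 lc_d_rc_22_8 lc_d_rc_16_2 lc_d_rc_24_5 lc_d_rc_17_0 lc_d_rc_17_2 lc_d_rc_27_4 lc_d_rc_8_3 lc_d_Cert_tree lc_d_Cert_tree lc_d_Cert_tree lc_d_Cert_tree lc_d_rc_15_1 lc_d_rc_24_5 lc_d_rc_15_1 lc_d_Cert_tree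 lc_d_rc_8_3 lc_d_rc_24_5 lc_d_Cert_tree lc_d_rc_15_1 lc_d_rc_8_3 lc_d_rc_16_4 lc_d_rc_15_1 lc_d_Cert_tree lc_d_rc_16_4 lc_d_rc_15_1 lc_d_Cert_tree lc_d_Cert_tree lc_d_Cert_tree lc_d_rc_17_2 lc_d_rc_8_3 lc_d_Cert_tree lc_d_Cert_tree lc_d_Cert_tree lc_d_rc_3_3 lc_d_rc_16_4 lc_d_Cert_tree lc_d_rc_16_2 lc_d_Cert_tree lc_d_rc_15_1 lc_d_rc_15_1 lc_d_Cert_tree lc_d_rc_15_1 lc_d_rc_15_1 lc_d_rc_17_2 lc_d_rc_8_1 lc_d_rc_15_1 lc_d_rc_8_3 lc_d_Cert_tree lc_d_rc_15_1 lc_d_rc_3_1 lc_d_rc_15_1 lc_d_rc_22_4 lc_d_rc_16_2 lc_d_rc_24_0 lc_d_Cert_tree lc_d_Cert_tree lc_d_rc_17_2 lc_d_Cert_tree lc_d_rc_8_1 lc_d_rc_15_1 lc_d_Cert_tree) (@D3.rec (fun _ => (Cert rels S Gen.d)) lc_d_rc_8_3 lc_d_rc_23_4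 lc_d_rc_16_4 lc_d_rc_23_8 lc_d_Cert_tree lc_d_rc_23_2 lc_d_rc_15_1 lc_d_rc_22_6 lc_d_rc_27_10 lc_d_rc_15_1 lc_d_rc_17_2 lc_d_Cert_tree lc_d_rc_3_3 lc_d_rc_17_2 lc_d_rc_15_1 lc_d_Cert_tree lc_d_Cert_tree lc_d_rc_15_1 lc_d_rc_17_2 lc_d_rc_3_1 lc_d_rc_15_1 lc_d_Cert_tree lc_d_Cert_tree lc_d_rc_15_1 lc_d_Cert_tree lc_d_Cert_tree lc_d_rc_15_1 lc_d_rc_17_2 lc_d_rc_15_1 lc_d_rc_15_1 lc_d_rc_16_4 lc_d_rc_8_1 lc_d_rc_15_1 lc_d_Cert_tree lc_d_rc_25_6 lc_d_rc_12_1 lc_d_Cert_tree lc_d_rc_15_1 lc_d_Cert_tree lc_d_rc_23_2 lc_d_rc_23_2 lc_d_Cert_tree lc_d_rc_17_2 lc_d_Cert_tree lc_d_rc_15_1 lc_d_rc_22_2 lc_d_Cert_tree lc_d_rc_27_10 lc_d_Cert_tree lc_d_rc_15_1 lc_d_rc_27_4 lc_d_rc_8_1 lc_d_rc_23_2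 lc_d_rc_15_1 lc_d_rc_27_2 lc_d_rc_17_2 lc_d_Cert_tree lc_d_Cert_tree lc_d_rc_15_1 lc_d_rc_15_1 lc_d_Cert_tree lc_d_rc_15_1) (@D3.rec (fun _ => (Cert rels S Gen.d)) lc_d_rc_24_5 lc_d_Cert_tree lc_d_Cert_tree lc_d_Cert_tree lc_d_Cert_tree lc_d_Cert_tree lc_d_rc_15_1 lc_d_rc_24_5 lc_d_rc_23_2 lc_d_Cert_tree lc_d_rc_17_0 lc_d_rc_27_10 lc_d_rc_27_4 lc_d_rc_12_15 lc_d_rc_22_2 lc_d_rc_15_1 lc_d_rc_27_4 lc_d_rc_15_1 lc_d_rc_15_1 lc_d_rc_27_2 lc_d_rc_16_4 lc_d_rc_15_1 lc_d_Cert_tree lc_d_rc_15_1 lc_d_Cert_tree lc_d_rc_15_1 lc_d_Cert_tree lc_d_Cert_tree lc_d_rc_15_1 lc_d_Cert_tree lc_d_rc_3_1 lc_d_rc_15_1 lc_d_rc_17_2 lc_d_rc_24_0 lc_d_rc_24_0 lc_d_rc_15_1 lc_d_Cert_tree lc_d_rc_16_2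 lc_d_Cert_tree lc_d_rc_15_1 lc_d_Cert_tree lc_d_rc_15_1 lc_d_Cert_tree lc_d_rc_22_8 lc_d_Cert_tree lc_d_Cert_tree lc_d_Cert_tree lc_d_rc_15_1 lc_d_rc_17_2 lc_d_Cert_tree lc_d_Cert_tree lc_d_rc_15_1 lc_d_rc_24_5 lc_d_Cert_tree lc_d_Cert_tree lc_d_rc_15_1 lc_d_rc_27_8 lc_d_Cert_tree lc_d_rc_15_1 lc_d_rc_16_4 lc_d_Cert_tree lc_d_rc_15_1) (@D3.rec (fun _ => (Cert rels S Gen.d)) lc_d_rc_27_4 lc_d_rc_15_1 lc_d_Cert_tree lc_d_rc_17_0 lc_d_Cert_tree lc_d_rc_23_8 lc_d_rc_15_1 lc_d_Cert_tree lc_d_rc_15_1 lc_d_Cert_tree lc_d_Cert_tree lc_d_Cert_tree lc_d_Cert_tree lc_d_rc_15_1 lc_d_rc_27_2 lc_d_rc_8_3 lc_d_rc_15_1 lc_d_Cert_tree lc_d_Cert_tree lc_d_Cert_tree lc_d_Cert_tree lc_d_Cert_tree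 lc_d_rc_15_1 lc_d_Cert_tree lc_d_rc_24_5 lc_d_rc_24_0 lc_d_rc_8_3 lc_d_Cert_tree lc_d_rc_17_2 lc_d_rc_23_2 lc_d_rc_15_1 lc_d_rc_17_2 lc_d_rc_27_8 lc_d_rc_8_3 lc_d_Cert_tree lc_d_rc_15_1 lc_d_Cert_tree lc_d_rc_15_1 lc_d_Cert_tree lc_d_rc_25_6 lc_d_rc_22_4 lc_d_rc_15_1 lc_d_rc_15_1 lc_d_Cert_tree lc_d_rc_25_18 lc_d_rc_24_0 lc_d_Cert_tree lc_d_Cert_tree lc_d_Cert_tree lc_d_rc_15_1 lc_d_rc_17_2 lc_d_Cert_tree lc_d_rc_15_1 lc_d_rc_27_4 lc_d_rc_16_4 lc_d_rc_8_3 lc_d_Cert_tree lc_d_Cert_tree lc_d_rc_15_1 lc_d_Cert_tree lc_d_rc_27_10 lc_d_rc_27_2) (@D3.rec (fun _ => (Cert rels S Gen.d)) lc_d_rc_8_3 lc_d_rc_27_4 lc_d_Cert_tree lc_d_Cert_tree lc_d_rc_15_1 lc_d_Cert_tree lc_d_Cert_tree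 lc_d_Cert_tree lc_d_Cert_tree lc_d_rc_15_1 lc_d_Cert_tree lc_d_rc_27_8 lc_d_rc_15_1 lc_d_Cert_tree lc_d_Cert_tree lc_d_rc_15_1 lc_d_rc_17_2 lc_d_Cert_tree lc_d_Cert_tree lc_d_rc_15_1 lc_d_Cert_tree lc_d_Cert_tree lc_d_Cert_tree lc_d_rc_24_5 lc_d_rc_8_3 lc_d_Cert_tree lc_d_Cert_tree lc_d_rc_25_18 lc_d_rc_22_4 lc_d_rc_22_2 lc_d_Cert_tree lc_d_rc_24_0 lc_d_Cert_tree lc_d_Cert_tree lc_d_Cert_tree lc_d_rc_15_1 lc_d_rc_17_2 lc_d_Cert_tree lc_d_rc_15_1 lc_d_Cert_tree lc_d_Cert_tree lc_d_rc_15_1 lc_d_Cert_tree lc_d_rc_23_2 lc_d_rc_27_2 lc_d_rc_15_1 lc_d_rc_17_2 lc_d_rc_25_2 lc_d_rc_8_3 lc_d_rc_15_1 lc_d_Cert_tree lc_d_Cert_tree lc_d_Cert_tree lc_d_Cert_tree lc_d_rc_15_1 lc_d_rc_17_2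 lc_d_Cert_tree lc_d_rc_27_8 lc_d_rc_15_1 lc_d_Cert_tree lc_d_rc_17_2 lc_d_rc_23_8) (@D3.rec (fun _ => (Cert rels S Gen.d)) lc_d_rc_24_0 lc_d_rc_8_3 lc_d_rc_8_1 lc_d_rc_15_1 lc_d_Cert_tree lc_d_rc_23_6 lc_d_Cert_tree lc_d_rc_15_1 lc_d_rc_17_2 lc_d_rc_25_14 lc_d_rc_23_4 lc_d_rc_22_2 lc_d_Cert_tree lc_d_Cert_tree lc_d_rc_15_1 lc_d_rc_17_2 lc_d_rc_8_3 lc_d_Cert_tree lc_d_Cert_tree lc_d_rc_8_3 lc_d_Cert_tree lc_d_rc_15_1 lc_d_Cert_tree lc_d_rc_15_1 lc_d_Cert_tree lc_d_Cert_tree lc_d_rc_15_1 lc_d_Cert_tree lc_d_Cert_tree lc_d_Cert_tree lc_d_Cert_tree lc_d_rc_17_2 lc_d_rc_23_2 lc_d_rc_15_1 lc_d_rc_8_1 lc_d_Cert_tree lc_d_Cert_tree lc_d_rc_15_1 lc_d_Cert_tree lc_d_rc_15_1 lc_d_Cert_tree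 lc_d_rc_27_2 lc_d_rc_15_1 lc_d_Cert_tree lc_d_Cert_tree lc_d_rc_15_1 lc_d_rc_24_5 lc_d_Cert_tree lc_d_rc_15_1 lc_d_Cert_tree lc_d_Cert_tree lc_d_rc_15_1 lc_d_rc_15_1 lc_d_rc_15_1 lc_d_Cert_tree lc_d_Cert_tree lc_d_Cert_tree lc_d_Cert_tree lc_d_rc_15_1 lc_d_Cert_tree lc_d_Cert_tree lc_d_rc_15_1) (@D3.rec (fun _ => (Cert rels S Gen.d)) lc_d_rc_3_3 lc_d_Cert_tree lc_d_rc_15_1 lc_d_Cert_tree lc_d_rc_23_2 lc_d_Cert_tree lc_d_rc_8_3 lc_d_Cert_tree lc_d_Cert_tree lc_d_rc_3_3 lc_d_Cert_tree lc_d_rc_15_1 lc_d_Cert_tree lc_d_rc_24_0 lc_d_rc_22_8 lc_d_rc_8_3 lc_d_Cert_tree lc_d_rc_24_0 lc_d_rc_23_4 lc_d_rc_16_2 lc_d_rc_22_4 lc_d_rc_15_1 lc_d_rc_15_1 lc_d_Cert_tree lc_d_rc_16_4 lc_d_rc_15_1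 lc_d_rc_27_2 lc_d_rc_15_1 lc_d_rc_15_1 lc_d_rc_15_1 lc_d_rc_23_8 lc_d_rc_17_2 lc_d_Cert_tree lc_d_rc_15_1 lc_d_rc_15_1 lc_d_Cert_tree lc_d_Cert_tree lc_d_rc_15_1 lc_d_rc_23_2 lc_d_Cert_tree lc_d_Cert_tree lc_d_rc_15_1 lc_d_rc_17_2 lc_d_rc_16_4 lc_d_rc_15_1 lc_d_rc_15_1 lc_d_rc_17_2 lc_d_Cert_tree lc_d_Cert_tree lc_d_Cert_tree lc_d_rc_15_1 lc_d_rc_17_2 lc_d_rc_15_1 lc_d_rc_15_1 lc_d_Cert_tree lc_d_Cert_tree lc_d_rc_15_1 lc_d_rc_17_2 lc_d_Cert_tree lc_d_rc_23_8 lc_d_Cert_tree lc_d_rc_15_1) (@D3.rec (fun _ => (Cert rels S Gen.d)) lc_d_rc_15_1 lc_d_rc_24_5 lc_d_rc_8_3 lc_d_rc_15_1 lc_d_Cert_tree lc_d_Cert_tree lc_d_Cert_tree lc_d_Cert_tree lc_d_rc_15_1 lc_d_rc_17_2 lc_d_Cert_tree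 lc_d_Cert_tree lc_d_rc_15_1 lc_d_rc_27_2 lc_d_Cert_tree lc_d_Cert_tree lc_d_rc_15_1 lc_d_rc_27_8 lc_d_rc_15_1 lc_d_rc_27_2 lc_d_rc_8_3 lc_d_Cert_tree lc_d_rc_8_3 lc_d_Cert_tree lc_d_Cert_tree lc_d_rc_23_2 lc_d_rc_24_0 lc_d_Cert_tree lc_d_Cert_tree lc_d_rc_15_1 lc_d_rc_16_4 lc_d_Cert_tree lc_d_rc_15_1 lc_d_Cert_tree lc_d_rc_23_2 lc_d_rc_15_1 lc_d_rc_17_2 lc_d_rc_25_2 lc_d_rc_15_1 lc_d_rc_8_3 lc_d_rc_15_1 lc_d_Cert_tree lc_d_Cert_tree lc_d_Cert_tree lc_d_Cert_tree lc_d_rc_15_1 lc_d_rc_17_2 lc_d_Cert_tree lc_d_rc_27_8 lc_d_rc_25_14 lc_d_rc_24_0 lc_d_Cert_tree lc_d_Cert_tree lc_d_rc_15_1 lc_d_Cert_tree lc_d_Cert_tree lc_d_rc_15_1 lc_d_rc_15_1 lc_d_rc_24_0 lc_d_rc_22_8 lc_d_rc_15_1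 lc_d_Cert_tree) (@D3.rec (fun _ => (Cert rels S Gen.d)) lc_d_Cert_tree lc_d_rc_15_1 lc_d_rc_17_2 lc_d_rc_8_3 lc_d_Cert_tree lc_d_Cert_tree lc_d_rc_12_3 lc_d_rc_27_4 lc_d_Cert_tree lc_d_Cert_tree lc_d_rc_15_1 lc_d_rc_17_2 lc_d_rc_8_3 lc_d_rc_15_1 lc_d_Cert_tree lc_d_Cert_tree lc_d_rc_15_1 lc_d_rc_17_2 lc_d_Cert_tree lc_d_Cert_tree lc_d_Cert_tree lc_d_rc_15_1 lc_d_Cert_tree lc_d_Cert_tree lc_d_Cert_tree lc_d_rc_15_1 lc_d_Cert_tree lc_d_rc_23_4 lc_d_rc_15_1 lc_d_Cert_tree lc_d_rc_17_2 lc_d_Cert_tree lc_d_Cert_tree lc_d_Cert_tree lc_d_rc_15_1 lc_d_rc_3_1 lc_d_Cert_tree lc_d_Cert_tree lc_d_rc_15_1 lc_d_Cert_tree lc_d_Cert_tree lc_d_Cert_tree lc_d_rc_15_1 lc_d_Cert_tree lc_d_rc_15_1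 lc_d_Cert_tree lc_d_rc_16_2 lc_d_rc_22_6 lc_d_rc_15_1 lc_d_rc_15_1 lc_d_rc_24_0 lc_d_Cert_tree lc_d_Cert_tree lc_d_rc_15_1 lc_d_Cert_tree lc_d_Cert_tree lc_d_rc_15_1 lc_d_Cert_tree lc_d_Cert_tree lc_d_rc_15_1 lc_d_Cert_tree lc_d_Cert_tree) (@D3.rec (fun _ => (Cert rels S Gen.d)) lc_d_rc_15_1 lc_d_rc_3_3 lc_d_Cert_tree lc_d_rc_27_2 lc_d_rc_15_1 lc_d_Cert_tree lc_d_rc_24_0 lc_d_rc_15_1 lc_d_rc_27_10 lc_d_rc_15_1 lc_d_rc_17_2 lc_d_rc_23_4 lc_d_rc_27_10 lc_d_Cert_tree lc_d_Cert_tree lc_d_rc_15_1 lc_d_rc_27_4 lc_d_rc_23_4 lc_d_Cert_tree lc_d_rc_16_4 lc_d_Cert_tree lc_d_Cert_tree lc_d_Cert_tree lc_d_Cert_tree lc_d_rc_15_1 lc_d_rc_27_2 lc_d_Cert_tree lc_d_Cert_tree lc_d_rc_15_1 lc_d_Cert_tree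 lc_d_rc_23_8 lc_d_Cert_tree lc_d_rc_27_8 lc_d_rc_17_2 lc_d_rc_8_3 lc_d_rc_15_1 lc_d_rc_8_1 lc_d_Cert_tree lc_d_Cert_tree lc_d_rc_15_1 lc_d_rc_15_1 lc_d_Cert_tree lc_d_Cert_tree lc_d_rc_15_1 lc_d_Cert_tree lc_d_rc_15_1 lc_d_rc_15_1 lc_d_Cert_tree lc_d_rc_17_2 lc_d_rc_15_1 lc_d_rc_15_1 lc_d_rc_15_1 lc_d_Cert_tree lc_d_Cert_tree lc_d_rc_15_1 lc_d_Cert_tree lc_d_rc_24_0 lc_d_Cert_tree lc_d_rc_24_5 lc_d_rc_15_1 lc_d_rc_8_3 lc_d_rc_3_3) (@D3.rec (fun _ => (Cert rels S Gen.d)) lc_d_rc_15_1 lc_d_rc_17_2 lc_d_rc_15_1 lc_d_rc_17_2 lc_d_rc_23_4 lc_d_rc_15_1 lc_d_rc_8_3 lc_d_rc_15_1 lc_d_Cert_tree lc_d_rc_15_1 lc_d_Cert_tree lc_d_rc_15_1 lc_d_rc_24_5 lc_d_rc_15_1 lc_d_rc_15_1 lc_d_rc_15_1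 lc_d_Cert_tree lc_d_rc_25_6 lc_d_rc_3_3 lc_d_rc_16_4 lc_d_rc_12_15 lc_d_Cert_tree lc_d_Cert_tree lc_d_rc_15_1 lc_d_rc_17_2 lc_d_Cert_tree lc_d_rc_15_1 lc_d_rc_27_4 lc_d_Cert_tree lc_d_rc_22_4 lc_d_rc_16_0 lc_d_rc_27_10 lc_d_Cert_tree lc_d_rc_15_1 lc_d_rc_15_1 lc_d_rc_23_2 lc_d_rc_8_3 lc_d_rc_15_1 lc_d_Cert_tree lc_d_Cert_tree lc_d_Cert_tree lc_d_rc_15_1 lc_d_rc_17_2 lc_d_Cert_tree lc_d_rc_27_8 lc_d_Cert_tree lc_d_rc_15_1 lc_d_Cert_tree lc_d_Cert_tree lc_d_Cert_tree lc_d_Cert_tree lc_d_rc_15_1 lc_d_rc_17_2 lc_d_Cert_tree lc_d_rc_27_10 lc_d_Cert_tree lc_d_Cert_tree lc_d_Cert_tree lc_d_Cert_tree lc_d_Cert_tree lc_d_rc_15_1 lc_d_rc_16_4) (@D3.rec (fun _ => (Cert rels S Gen.d)) lc_d_rc_24_0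 lc_d_rc_15_1 lc_d_rc_16_2 lc_d_Cert_tree lc_d_rc_23_4 lc_d_rc_15_1 lc_d_Cert_tree lc_d_rc_15_1 lc_d_Cert_tree lc_d_Cert_tree lc_d_Cert_tree lc_d_rc_15_1 lc_d_rc_17_2 lc_d_Cert_tree lc_d_rc_27_8 lc_d_rc_16_0 lc_d_Cert_tree lc_d_rc_8_3 lc_d_Cert_tree lc_d_rc_24_0 lc_d_rc_8_3 lc_d_rc_15_1 lc_d_Cert_tree lc_d_Cert_tree lc_d_Cert_tree lc_d_rc_15_1 lc_d_rc_8_1 lc_d_rc_15_1 lc_d_rc_8_3 lc_d_rc_15_1 lc_d_rc_15_1 lc_d_Cert_tree lc_d_Cert_tree lc_d_rc_15_1 lc_d_rc_17_2 lc_d_rc_24_5 lc_d_rc_24_0 lc_d_rc_15_1 lc_d_Cert_tree lc_d_Cert_tree lc_d_rc_15_1 lc_d_rc_15_1 lc_d_Cert_tree lc_d_rc_8_3 lc_d_Cert_tree lc_d_Cert_tree lc_d_Cert_tree lc_d_rc_15_1 lc_d_rc_17_2 lc_d_Cert_tree lc_d_Cert_tree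 lc_d_rc_15_1 lc_d_Cert_tree lc_d_Cert_tree lc_d_Cert_tree lc_d_rc_15_1 lc_d_Cert_tree lc_d_Cert_tree lc_d_Cert_tree lc_d_Cert_tree lc_d_rc_17_2 lc_d_rc_8_3) (@D3.rec (fun _ => (Cert rels S Gen.d)) lc_d_Cert_tree lc_d_Cert_tree lc_d_rc_15_1 lc_d_rc_15_1 lc_d_Cert_tree lc_d_Cert_tree lc_d_rc_15_1 lc_d_Cert_tree lc_d_rc_15_1 lc_d_Cert_tree lc_d_Cert_tree lc_d_rc_15_1 lc_d_rc_8_3 lc_d_Cert_tree lc_d_rc_15_1 lc_d_Cert_tree lc_d_Cert_tree lc_d_Cert_tree lc_d_Cert_tree lc_d_Cert_tree lc_d_rc_15_1 lc_d_Cert_tree lc_d_rc_15_1 lc_d_rc_15_1 lc_d_rc_15_1 lc_d_rc_23_4 lc_d_Cert_tree lc_d_rc_15_1 lc_d_Cert_tree lc_d_rc_15_1 lc_d_rc_23_2 lc_d_rc_16_4 lc_d_Cert_tree lc_d_rc_15_1 lc_d_Cert_tree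 lc_d_rc_15_1 lc_d_rc_17_2 lc_d_Cert_tree lc_d_rc_15_1 lc_d_Cert_tree lc_d_Cert_tree lc_d_rc_15_1 lc_d_Cert_tree lc_d_Cert_tree lc_d_Cert_tree lc_d_Cert_tree lc_d_rc_15_1 lc_d_rc_17_2 lc_d_rc_23_6 lc_d_rc_22_6 lc_d_rc_16_4 lc_d_rc_17_2 lc_d_rc_27_4 lc_d_rc_15_1 lc_d_rc_27_10 lc_d_rc_27_10 lc_d_Cert_tree lc_d_rc_8_3 lc_d_Cert_tree lc_d_Cert_tree lc_d_rc_15_1 lc_d_rc_23_4) (@D3.rec (fun _ => (Cert rels S Gen.d)) lc_d_Cert_tree lc_d_rc_15_1 lc_d_Cert_tree lc_d_rc_23_4 lc_d_Cert_tree lc_d_rc_8_3 lc_d_rc_15_1 lc_d_rc_15_1 lc_d_Cert_tree lc_d_rc_16_2 lc_d_rc_15_1 lc_d_Cert_tree lc_d_rc_22_4 lc_d_rc_24_0 lc_d_rc_15_1 lc_d_rc_24_0 lc_d_Cert_tree lc_d_rc_24_5 lc_d_Cert_tree lc_d_Cert_tree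 lc_d_rc_16_2 lc_d_rc_8_3 lc_d_rc_22_8 lc_d_rc_8_3 lc_d_rc_3_3 lc_d_rc_17_2 lc_d_rc_15_1 lc_d_Cert_tree lc_d_rc_23_8 lc_d_rc_15_1 lc_d_rc_15_1 lc_d_rc_16_4 lc_d_Cert_tree lc_d_Cert_tree lc_d_rc_23_8 lc_d_rc_27_2 lc_d_rc_15_1 lc_d_Cert_tree lc_d_rc_17_2 lc_d_rc_15_1 lc_d_Cert_tree lc_d_rc_25_6 lc_d_rc_22_8 lc_d_rc_23_4 lc_d_Cert_tree lc_d_rc_23_6 lc_d_rc_15_1 lc_d_Cert_tree lc_d_Cert_tree lc_d_Cert_tree lc_d_rc_15_1 lc_d_rc_17_2 lc_d_Cert_tree lc_d_rc_15_1 lc_d_rc_27_4 lc_d_rc_15_1 lc_d_rc_15_1 lc_d_Cert_tree lc_d_rc_3_3 lc_d_rc_24_5 lc_d_rc_23_6 lc_d_Cert_tree) (@D3.rec (fun _ => (Cert rels S Gen.d)) lc_d_rc_15_1 lc_d_rc_15_1 lc_d_rc_24_0 lc_d_rc_15_1 lc_d_rc_17_2 lc_d_rc_15_1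 lc_d_Cert_tree lc_d_Cert_tree lc_d_Cert_tree lc_d_Cert_tree lc_d_rc_15_1 lc_d_rc_17_2 lc_d_Cert_tree lc_d_rc_3_3 lc_d_rc_23_8 lc_d_Cert_tree lc_d_rc_15_1 lc_d_Cert_tree lc_d_Cert_tree lc_d_Cert_tree lc_d_Cert_tree lc_d_rc_15_1 lc_d_rc_17_2 lc_d_rc_24_5 lc_d_Cert_tree lc_d_Cert_tree lc_d_rc_15_1 lc_d_Cert_tree lc_d_rc_17_2 lc_d_Cert_tree lc_d_rc_15_1 lc_d_rc_8_1 lc_d_Cert_tree lc_d_rc_15_1 lc_d_Cert_tree lc_d_rc_25_6 lc_d_rc_22_8 lc_d_rc_23_4 lc_d_rc_16_4 lc_d_Cert_tree lc_d_Cert_tree lc_d_rc_15_1 lc_d_rc_22_6 lc_d_rc_17_2 lc_d_rc_24_0 lc_d_rc_8_1 lc_d_rc_15_1 lc_d_Cert_tree lc_d_Cert_tree lc_d_Cert_tree lc_d_Cert_tree lc_d_rc_15_1 lc_d_rc_17_2 lc_d_Cert_tree lc_d_rc_8_3 lc_d_rc_15_1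 lc_d_Cert_tree lc_d_rc_15_1 lc_d_Cert_tree lc_d_Cert_tree lc_d_rc_15_1 lc_d_rc_24_0) (@D3.rec (fun _ => (Cert rels S Gen.d)) lc_d_rc_16_4 lc_d_rc_15_1 lc_d_rc_17_2 lc_d_Cert_tree lc_d_Cert_tree lc_d_Cert_tree lc_d_rc_15_1 lc_d_rc_17_2 lc_d_Cert_tree lc_d_rc_15_1 lc_d_Cert_tree lc_d_rc_15_1 lc_d_Cert_tree lc_d_Cert_tree lc_d_Cert_tree lc_d_Cert_tree lc_d_rc_17_2 lc_d_Cert_tree lc_d_Cert_tree lc_d_Cert_tree lc_d_rc_15_1 lc_d_rc_17_2 lc_d_rc_27_2 lc_d_rc_15_1 lc_d_Cert_tree lc_d_Cert_tree lc_d_rc_15_1 lc_d_Cert_tree lc_d_Cert_tree lc_d_rc_15_1 lc_d_Cert_tree lc_d_Cert_tree lc_d_rc_15_1 lc_d_rc_8_1 lc_d_Cert_tree lc_d_rc_15_1 lc_d_rc_15_1 lc_d_Cert_tree lc_d_Cert_tree lc_d_Cert_tree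 lc_d_rc_15_1 lc_d_rc_17_2 lc_d_rc_16_4 lc_d_rc_3_1 lc_d_rc_15_1 lc_d_Cert_tree lc_d_rc_15_1 lc_d_Cert_tree lc_d_rc_15_1 lc_d_Cert_tree lc_d_Cert_tree lc_d_rc_15_1 lc_d_Cert_tree lc_d_rc_15_1 lc_d_rc_15_1 lc_d_rc_16_4 lc_d_rc_17_2 lc_d_Cert_tree lc_d_Cert_tree lc_d_Cert_tree lc_d_Cert_tree lc_d_rc_15_1) (@D3.rec (fun _ => (Cert rels S Gen.d)) lc_d_rc_15_1 lc_d_Cert_tree lc_d_rc_15_1 lc_d_Cert_tree lc_d_rc_8_3 lc_d_rc_16_2 lc_d_rc_24_0 lc_d_rc_15_1 lc_d_rc_23_4 lc_d_Cert_tree lc_d_rc_15_1 lc_d_rc_24_5 lc_d_rc_25_6 lc_d_rc_15_1 lc_d_Cert_tree lc_d_Cert_tree lc_d_Cert_tree lc_d_Cert_tree lc_d_rc_15_1 lc_d_rc_17_2 lc_d_Cert_tree lc_d_rc_8_3 lc_d_Cert_tree lc_d_rc_27_8 lc_d_rc_25_6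 lc_d_rc_15_1 lc_d_rc_16_4 lc_d_rc_15_1 lc_d_rc_17_2 lc_d_Cert_tree lc_d_rc_15_1 lc_d_rc_17_2 lc_d_rc_8_3 lc_d_Cert_tree lc_d_Cert_tree lc_d_Cert_tree lc_d_rc_15_1 lc_d_rc_17_2 lc_d_Cert_tree lc_d_rc_15_1 lc_d_rc_27_4 lc_d_Cert_tree lc_d_rc_15_1 lc_d_Cert_tree lc_d_rc_15_1 lc_d_rc_24_0 lc_d_Cert_tree lc_d_rc_17_2 lc_d_rc_3_1 lc_d_rc_3_1 lc_d_Cert_tree lc_d_rc_15_1 lc_d_rc_8_1 lc_d_Cert_tree lc_d_Cert_tree lc_d_rc_15_1 lc_d_Cert_tree lc_d_Cert_tree lc_d_rc_15_1 lc_d_rc_24_0 lc_d_Cert_tree lc_d_rc_15_1) (@D3.rec (fun _ => (Cert rels S Gen.d)) lc_d_Cert_tree lc_d_Cert_tree lc_d_rc_8_3 lc_d_rc_24_0 lc_d_Cert_tree lc_d_Cert_tree lc_d_rc_23_2 lc_d_rc_23_8 lc_d_rc_15_1 lc_d_Cert_tree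 lc_d_rc_15_1 lc_d_rc_24_5 lc_d_Cert_tree lc_d_rc_17_2 lc_d_rc_8_3 lc_d_rc_24_0 lc_d_rc_16_2 lc_d_rc_24_0 lc_d_Cert_tree lc_d_rc_15_1 lc_d_rc_23_2 lc_d_Cert_tree lc_d_rc_23_2 lc_d_Cert_tree lc_d_rc_15_1 lc_d_rc_17_2 lc_d_rc_24_5 lc_d_rc_24_0 lc_d_rc_16_4 lc_d_rc_15_1 lc_d_rc_17_2 lc_d_Cert_tree lc_d_Cert_tree lc_d_rc_15_1 lc_d_rc_17_2 lc_d_Cert_tree lc_d_rc_15_1 lc_d_rc_27_4 lc_d_Cert_tree lc_d_rc_15_1 lc_d_rc_27_8 lc_d_rc_23_6 lc_d_rc_15_1 lc_d_rc_15_1 lc_d_rc_16_4 lc_d_Cert_tree lc_d_rc_15_1 lc_d_Cert_tree lc_d_rc_8_3 lc_d_Cert_tree lc_d_rc_15_1 lc_d_Cert_tree lc_d_rc_15_1 lc_d_Cert_tree lc_d_rc_15_1 lc_d_rc_23_2 lc_d_rc_15_1 lc_d_rc_3_1 lc_d_rc_15_1 lc_d_rc_15_1 lc_d_rc_15_1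 lc_d_rc_17_0) (@D3.rec (fun _ => (Cert rels S Gen.d)) lc_d_rc_15_1 lc_d_rc_17_2 lc_d_Cert_tree lc_d_rc_15_1 lc_d_Cert_tree lc_d_rc_25_6 lc_d_Cert_tree lc_d_Cert_tree lc_d_rc_15_1 lc_d_Cert_tree lc_d_rc_15_1 lc_d_Cert_tree lc_d_Cert_tree lc_d_Cert_tree lc_d_rc_15_1 lc_d_rc_17_2 lc_d_Cert_tree lc_d_rc_22_4 lc_d_rc_8_3 lc_d_Cert_tree lc_d_rc_23_8 lc_d_rc_27_2 lc_d_Cert_tree lc_d_rc_15_1 lc_d_Cert_tree lc_d_rc_15_1 lc_d_Cert_tree lc_d_rc_15_1 lc_d_rc_17_2 lc_d_Cert_tree lc_d_Cert_tree lc_d_rc_15_1 lc_d_Cert_tree lc_d_Cert_tree lc_d_Cert_tree lc_d_rc_15_1 lc_d_Cert_tree lc_d_rc_15_1 lc_d_Cert_tree lc_d_Cert_tree lc_d_Cert_tree lc_d_rc_15_1 lc_d_rc_17_2 lc_d_Cert_tree lc_d_Cert_tree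 lc_d_rc_15_1 lc_d_Cert_tree lc_d_rc_25_18 lc_d_rc_22_4 lc_d_rc_15_1 lc_d_Cert_tree lc_d_rc_23_4 lc_d_rc_24_5 lc_d_Cert_tree lc_d_Cert_tree lc_d_Cert_tree lc_d_rc_15_1 lc_d_rc_27_2 lc_d_rc_16_4 lc_d_Cert_tree lc_d_rc_8_3 lc_d_rc_16_2) (@D3.rec (fun _ => (Cert rels S Gen.d)) lc_d_rc_15_1 lc_d_Cert_tree lc_d_rc_15_1 lc_d_Cert_tree lc_d_Cert_tree lc_d_Cert_tree lc_d_Cert_tree lc_d_rc_15_1 lc_d_rc_17_2 lc_d_Cert_tree lc_d_Cert_tree lc_d_Cert_tree lc_d_Cert_tree lc_d_rc_15_1 lc_d_Cert_tree lc_d_Cert_tree lc_d_rc_15_1 lc_d_rc_22_2 lc_d_Cert_tree lc_d_Cert_tree lc_d_rc_15_1 lc_d_Cert_tree lc_d_Cert_tree lc_d_rc_15_1 lc_d_rc_17_2 lc_d_rc_15_1 lc_d_Cert_tree lc_d_rc_8_3 lc_d_Cert_tree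 lc_d_rc_8_3 lc_d_rc_16_4 lc_d_Cert_tree lc_d_Cert_tree lc_d_rc_15_1 lc_d_rc_17_2 lc_d_Cert_tree lc_d_rc_15_1 lc_d_Cert_tree lc_d_Cert_tree lc_d_rc_15_1 lc_d_Cert_tree lc_d_rc_15_1 lc_d_rc_15_1 lc_d_Cert_tree lc_d_rc_17_2 lc_d_rc_15_1 lc_d_rc_27_4 lc_d_Cert_tree lc_d_Cert_tree lc_d_rc_15_1 lc_d_Cert_tree lc_d_Cert_tree lc_d_rc_15_1 lc_d_Cert_tree lc_d_rc_15_1 lc_d_rc_27_2 lc_d_Cert_tree lc_d_rc_15_1 lc_d_Cert_tree lc_d_Cert_tree lc_d_rc_15_1 lc_d_Cert_tree) (@D3.rec (fun _ => (Cert rels S Gen.d)) lc_d_rc_3_1 lc_d_rc_15_1 lc_d_Cert_tree lc_d_rc_16_2 lc_d_Cert_tree lc_d_Cert_tree lc_d_rc_15_1 lc_d_rc_24_0 lc_d_rc_17_2 lc_d_rc_8_3 lc_d_Cert_tree lc_d_rc_8_3 lc_d_Cert_tree lc_d_rc_25_6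 lc_d_rc_24_5 lc_d_Cert_tree lc_d_rc_15_1 lc_d_Cert_tree lc_d_rc_3_3 lc_d_rc_15_1 lc_d_rc_23_4 lc_d_Cert_tree lc_d_Cert_tree lc_d_Cert_tree lc_d_rc_15_1 lc_d_rc_16_2 lc_d_rc_3_3 lc_d_rc_15_1 lc_d_rc_23_4 lc_d_Cert_tree lc_d_rc_8_3 lc_d_rc_15_1 lc_d_rc_15_1 lc_d_rc_15_1 lc_d_rc_15_1 lc_d_Cert_tree lc_d_rc_15_1 lc_d_Cert_tree lc_d_rc_15_1 lc_d_Cert_tree lc_d_Cert_tree lc_d_Cert_tree lc_d_Cert_tree lc_d_rc_15_1 lc_d_rc_17_2 lc_d_Cert_tree lc_d_Cert_tree lc_d_rc_15_1 lc_d_Cert_tree lc_d_Cert_tree lc_d_Cert_tree lc_d_Cert_tree lc_d_rc_15_1 lc_d_rc_8_3 lc_d_rc_27_8 lc_d_rc_15_1 lc_d_Cert_tree lc_d_Cert_tree lc_d_rc_15_1 lc_d_rc_15_1 lc_d_Cert_tree lc_d_rc_15_1) (@D3.rec (fun _ => (Cert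 rels S Gen.d)) lc_d_rc_17_2 lc_d_Cert_tree lc_d_rc_15_1 lc_d_Cert_tree lc_d_rc_15_1 lc_d_Cert_tree lc_d_rc_15_1 lc_d_rc_17_2 lc_d_rc_15_1 lc_d_Cert_tree lc_d_rc_15_1 lc_d_rc_15_1 lc_d_Cert_tree lc_d_Cert_tree lc_d_rc_15_1 lc_d_rc_17_2 lc_d_Cert_tree lc_d_rc_15_1 lc_d_Cert_tree lc_d_rc_27_4 lc_d_rc_17_2 lc_d_rc_8_3 lc_d_rc_17_2 lc_d_rc_15_1 lc_d_Cert_tree lc_d_rc_16_0 lc_d_Cert_tree lc_d_Cert_tree lc_d_rc_15_1 lc_d_rc_27_4 lc_d_rc_8_3 lc_d_Cert_tree lc_d_Cert_tree lc_d_rc_25_2 lc_d_rc_3_1 lc_d_Cert_tree lc_d_rc_15_1 lc_d_Cert_tree lc_d_Cert_tree lc_d_Cert_tree lc_d_Cert_tree lc_d_rc_15_1 lc_d_rc_17_2 lc_d_Cert_tree lc_d_rc_15_1 lc_d_Cert_tree lc_d_rc_3_1 lc_d_Cert_tree lc_d_rc_15_1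 lc_d_Cert_tree lc_d_Cert_tree lc_d_Cert_tree lc_d_Cert_tree lc_d_rc_15_1 lc_d_Cert_tree lc_d_Cert_tree lc_d_Cert_tree lc_d_rc_15_1 lc_d_Cert_tree lc_d_Cert_tree lc_d_rc_15_1 lc_d_rc_17_2) (@D3.rec (fun _ => (Cert rels S Gen.d)) lc_d_rc_22_2 lc_d_rc_8_1 lc_d_rc_22_2 lc_d_Cert_tree lc_d_Cert_tree lc_d_rc_15_1 lc_d_rc_15_1 lc_d_Cert_tree lc_d_rc_15_1 lc_d_Cert_tree lc_d_rc_8_3 lc_d_Cert_tree lc_d_Cert_tree lc_d_Cert_tree lc_d_rc_15_1 lc_d_rc_17_2 lc_d_Cert_tree lc_d_rc_15_1 lc_d_Cert_tree lc_d_Cert_tree lc_d_rc_15_1 lc_d_rc_27_8 lc_d_rc_24_5 lc_d_rc_15_1 lc_d_rc_12_13 lc_d_rc_15_1 lc_d_Cert_tree lc_d_Cert_tree lc_d_rc_15_1 lc_d_Cert_tree lc_d_rc_8_1 lc_d_Cert_tree lc_d_rc_15_1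 lc_d_Cert_tree lc_d_Cert_tree lc_d_Cert_tree lc_d_Cert_tree lc_d_Cert_tree lc_d_rc_15_1 lc_d_rc_17_2 lc_d_Cert_tree lc_d_rc_3_1 lc_d_Cert_tree lc_d_rc_15_1 lc_d_rc_23_4 lc_d_rc_17_2 lc_d_Cert_tree lc_d_rc_17_2 lc_d_rc_16_4 lc_d_Cert_tree lc_d_rc_15_1 lc_d_Cert_tree lc_d_Cert_tree lc_d_rc_27_10 lc_d_rc_25_14 lc_d_rc_24_0 lc_d_rc_12_7 lc_d_Cert_tree lc_d_rc_22_6 lc_d_Cert_tree lc_d_rc_15_1 lc_d_rc_15_1) (@D3.rec (fun _ => (Cert rels S Gen.d)) lc_d_rc_15_1 lc_d_rc_8_1 lc_d_rc_15_1 lc_d_rc_27_8 lc_d_Cert_tree lc_d_rc_15_1 lc_d_Cert_tree lc_d_rc_15_1 lc_d_Cert_tree lc_d_Cert_tree lc_d_rc_15_1 lc_d_Cert_tree lc_d_Cert_tree lc_d_rc_15_1 lc_d_rc_15_1 lc_d_Cert_tree lc_d_Cert_tree lc_d_rc_17_2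 lc_d_rc_15_1 lc_d_Cert_tree lc_d_rc_27_10 lc_d_rc_15_1 lc_d_rc_8_1 lc_d_rc_8_3 lc_d_Cert_tree lc_d_rc_27_2 lc_d_rc_16_4 lc_d_rc_15_1 lc_d_rc_24_5 lc_d_rc_15_1 lc_d_rc_25_6 lc_d_rc_8_3 lc_d_Cert_tree lc_d_rc_15_1 lc_d_rc_17_2 lc_d_Cert_tree lc_d_rc_15_1 lc_d_rc_27_4 lc_d_Cert_tree lc_d_Cert_tree lc_d_Cert_tree lc_d_rc_15_1 lc_d_Cert_tree lc_d_Cert_tree lc_d_rc_15_1 lc_d_rc_8_3 lc_d_rc_25_2 lc_d_rc_15_1 lc_d_Cert_tree lc_d_Cert_tree lc_d_rc_15_1 lc_d_rc_17_2 lc_d_rc_17_2 lc_d_Cert_tree lc_d_Cert_tree lc_d_Cert_tree lc_d_Cert_tree lc_d_rc_15_1 lc_d_rc_16_4 lc_d_rc_8_3 lc_d_Cert_tree lc_d_rc_8_3) (@D3.rec (fun _ => (Cert rels S Gen.d)) lc_d_Cert_tree lc_d_Cert_tree lc_d_Cert_tree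 lc_d_rc_15_1 lc_d_rc_17_2 lc_d_Cert_tree lc_d_rc_15_1 lc_d_rc_27_4 lc_d_Cert_tree lc_d_rc_15_1 lc_d_Cert_tree lc_d_Cert_tree lc_d_Cert_tree lc_d_Cert_tree lc_d_rc_17_2 lc_d_Cert_tree lc_d_rc_15_1 lc_d_rc_27_4 lc_d_Cert_tree lc_d_rc_23_6 lc_d_rc_22_2 lc_d_rc_23_4 lc_d_rc_15_1 lc_d_Cert_tree lc_d_Cert_tree lc_d_rc_15_1 lc_d_rc_3_3 lc_d_rc_27_8 lc_d_rc_8_1 lc_d_rc_3_1 lc_d_Cert_tree lc_d_rc_15_1 lc_d_Cert_tree lc_d_rc_15_1 lc_d_Cert_tree lc_d_rc_15_1 lc_d_Cert_tree lc_d_Cert_tree lc_d_rc_15_1 lc_d_rc_25_6 lc_d_rc_23_6 lc_d_Cert_tree lc_d_Cert_tree lc_d_Cert_tree lc_d_rc_15_1 lc_d_Cert_tree lc_d_Cert_tree lc_d_rc_15_1 lc_d_rc_17_2 lc_d_Cert_tree lc_d_rc_15_1 lc_d_rc_27_4 lc_d_Cert_tree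 lc_d_rc_15_1 lc_d_rc_27_8 lc_d_rc_23_2 lc_d_rc_24_0 lc_d_rc_15_1 lc_d_rc_15_1 lc_d_rc_8_3 lc_d_Cert_tree lc_d_rc_25_2) (@D3.rec (fun _ => (Cert rels S Gen.d)) lc_d_rc_3_1 lc_d_rc_15_1 lc_d_Cert_tree lc_d_Cert_tree lc_d_Cert_tree lc_d_rc_15_1 lc_d_Cert_tree lc_d_rc_15_1 lc_d_rc_16_0 lc_d_rc_8_3 lc_d_Cert_tree lc_d_Cert_tree lc_d_Cert_tree lc_d_Cert_tree lc_d_rc_15_1 lc_d_rc_23_8 lc_d_rc_22_8 lc_d_rc_15_1 lc_d_Cert_tree lc_d_Cert_tree lc_d_rc_15_1 lc_d_rc_23_8 lc_d_rc_25_10 lc_d_rc_25_2 lc_d_rc_3_1 lc_d_rc_15_1 lc_d_Cert_tree lc_d_Cert_tree lc_d_rc_15_1 lc_d_Cert_tree lc_d_rc_24_0 lc_d_rc_15_1 lc_d_Cert_tree lc_d_Cert_tree lc_d_rc_24_5 lc_d_rc_15_1 lc_d_Cert_tree lc_d_rc_15_1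 lc_d_Cert_tree lc_d_rc_24_0 lc_d_rc_23_6 lc_d_Cert_tree lc_d_Cert_tree lc_d_Cert_tree lc_d_rc_15_1 lc_d_rc_15_1 lc_d_rc_17_2 lc_d_Cert_tree lc_d_Cert_tree lc_d_rc_15_1 lc_d_rc_17_2 lc_d_rc_27_2 lc_d_rc_15_1 lc_d_rc_27_8 lc_d_Cert_tree lc_d_rc_15_1 lc_d_rc_15_1 lc_d_rc_27_8 lc_d_rc_12_1 lc_d_rc_15_1 lc_d_rc_22_6 lc_d_rc_17_2) (@D3.rec (fun _ => (Cert rels S Gen.d)) lc_d_rc_15_1 lc_d_Cert_tree lc_d_Cert_tree lc_d_rc_15_1 lc_d_rc_15_1 lc_d_rc_16_4 lc_d_Cert_tree lc_d_rc_15_1 lc_d_Cert_tree lc_d_rc_16_2 lc_d_rc_24_5 lc_d_rc_23_4 lc_d_rc_24_5 lc_d_Cert_tree lc_d_Cert_tree lc_d_rc_15_1 lc_d_rc_15_1 lc_d_Cert_tree lc_d_rc_15_1 lc_d_Cert_tree lc_d_Cert_tree lc_d_Cert_tree lc_d_rc_3_3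 lc_d_Cert_tree lc_d_rc_15_1 lc_d_rc_17_2 lc_d_Cert_tree lc_d_rc_3_3 lc_d_Cert_tree lc_d_rc_15_1 lc_d_rc_17_2 lc_d_Cert_tree lc_d_rc_27_2 lc_d_Cert_tree lc_d_Cert_tree lc_d_Cert_tree lc_d_rc_15_1 lc_d_rc_24_0 lc_d_rc_15_1 lc_d_Cert_tree lc_d_rc_8_3 lc_d_Cert_tree lc_d_Cert_tree lc_d_Cert_tree lc_d_rc_15_1 lc_d_rc_17_2 lc_d_Cert_tree lc_d_rc_15_1 lc_d_rc_27_4 lc_d_Cert_tree lc_d_rc_15_1 lc_d_Cert_tree lc_d_rc_23_6 lc_d_rc_15_1 lc_d_rc_12_13 lc_d_rc_17_2 lc_d_Cert_tree lc_d_rc_15_1 lc_d_rc_27_4 lc_d_rc_16_0 lc_d_rc_15_1 lc_d_Cert_tree) (@D3.rec (fun _ => (Cert rels S Gen.d)) lc_d_rc_23_8 lc_d_rc_17_2 lc_d_rc_15_1 lc_d_rc_17_2 lc_d_rc_15_1 lc_d_rc_23_8 lc_d_rc_24_5 lc_d_rc_15_1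 lc_d_Cert_tree lc_d_Cert_tree lc_d_rc_15_1 lc_d_rc_8_3 lc_d_rc_27_8 lc_d_Cert_tree lc_d_rc_15_1 lc_d_rc_27_8 lc_d_rc_17_2 lc_d_rc_15_1 lc_d_Cert_tree lc_d_Cert_tree lc_d_rc_15_1 lc_d_Cert_tree lc_d_rc_15_1 lc_d_rc_25_2 lc_d_Cert_tree lc_d_Cert_tree lc_d_Cert_tree lc_d_Cert_tree lc_d_rc_15_1 lc_d_rc_17_2 lc_d_Cert_tree lc_d_Cert_tree lc_d_rc_15_1 lc_d_rc_17_2 lc_d_Cert_tree lc_d_rc_24_0 lc_d_rc_15_1 lc_d_Cert_tree lc_d_rc_15_1 lc_d_rc_27_8 lc_d_Cert_tree lc_d_rc_15_1 lc_d_rc_23_8 lc_d_rc_17_2 lc_d_Cert_tree lc_d_rc_15_1 lc_d_rc_15_1 lc_d_Cert_tree lc_d_Cert_tree lc_d_rc_27_8 lc_d_Cert_tree lc_d_Cert_tree lc_d_Cert_tree lc_d_rc_15_1 lc_d_rc_17_2 lc_d_Cert_tree lc_d_rc_15_1 lc_d_Cert_tree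 lc_d_Cert_tree lc_d_Cert_tree lc_d_rc_15_1 lc_d_Cert_tree) (@D3.rec (fun _ => (Cert rels S Gen.d)) lc_d_rc_15_1 lc_d_Cert_tree lc_d_rc_15_1 lc_d_Cert_tree lc_d_rc_24_0 lc_d_rc_27_10 lc_d_Cert_tree lc_d_Cert_tree lc_d_Cert_tree lc_d_rc_15_1 lc_d_rc_17_2 lc_d_rc_16_2 lc_d_rc_24_0 lc_d_rc_15_1 lc_d_Cert_tree lc_d_Cert_tree lc_d_Cert_tree lc_d_rc_15_1 lc_d_rc_17_2 lc_d_rc_23_6 lc_d_rc_22_4 lc_d_rc_17_2 lc_d_rc_24_5 lc_d_Cert_tree lc_d_Cert_tree lc_d_rc_15_1 lc_d_Cert_tree lc_d_rc_15_1 lc_d_Cert_tree lc_d_rc_22_8 lc_d_rc_15_1 lc_d_Cert_tree lc_d_rc_23_2 lc_d_rc_24_0 lc_d_Cert_tree lc_d_Cert_tree lc_d_Cert_tree lc_d_rc_15_1 lc_d_rc_17_2 lc_d_Cert_tree lc_d_Cert_tree lc_d_rc_15_1 lc_d_rc_17_2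 lc_d_rc_22_8 lc_d_rc_15_1 lc_d_rc_15_1 lc_d_rc_17_2 lc_d_Cert_tree lc_d_rc_15_1 lc_d_rc_15_1 lc_d_Cert_tree lc_d_Cert_tree lc_d_rc_15_1 lc_d_Cert_tree lc_d_Cert_tree lc_d_Cert_tree lc_d_rc_15_1 lc_d_rc_17_2 lc_d_rc_8_3 lc_d_Cert_tree lc_d_rc_24_0 lc_d_rc_8_3) (@D3.rec (fun _ => (Cert rels S Gen.d)) lc_d_Cert_tree lc_d_Cert_tree lc_d_Cert_tree lc_d_rc_15_1 lc_d_rc_17_2 lc_d_Cert_tree lc_d_rc_15_1 lc_d_Cert_tree lc_d_Cert_tree lc_d_rc_15_1 lc_d_rc_15_1 lc_d_rc_15_1 lc_d_Cert_tree lc_d_rc_17_2 lc_d_rc_3_3 lc_d_Cert_tree lc_d_Cert_tree lc_d_Cert_tree lc_d_Cert_tree lc_d_rc_15_1 lc_d_rc_17_2 lc_d_rc_3_3 lc_d_Cert_tree lc_d_Cert_tree lc_d_Cert_tree lc_d_rc_15_1 lc_d_rc_17_2 lc_d_rc_23_6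 lc_d_rc_8_3 lc_d_rc_3_1 lc_d_Cert_tree lc_d_Cert_tree lc_d_Cert_tree lc_d_rc_15_1 lc_d_rc_17_2 lc_d_Cert_tree lc_d_Cert_tree lc_d_rc_15_1 lc_d_Cert_tree lc_d_rc_24_0 lc_d_Cert_tree lc_d_rc_15_1 lc_d_Cert_tree lc_d_Cert_tree lc_d_Cert_tree lc_d_Cert_tree lc_d_rc_17_2 lc_d_Cert_tree lc_d_Cert_tree lc_d_Cert_tree lc_d_rc_15_1 lc_d_Cert_tree lc_d_Cert_tree lc_d_Cert_tree lc_d_rc_15_1 lc_d_Cert_tree lc_d_rc_23_2 lc_d_Cert_tree lc_d_rc_15_1 lc_d_rc_27_2 lc_d_rc_23_6 lc_d_rc_23_8) (@D3.rec (fun _ => (Cert rels S Gen.d)) lc_d_Cert_tree lc_d_Cert_tree lc_d_rc_15_1 lc_d_rc_12_15 lc_d_Cert_tree lc_d_rc_23_2 lc_d_Cert_tree lc_d_rc_16_4 lc_d_rc_15_1 lc_d_rc_15_1 lc_d_rc_23_2 lc_d_Cert_tree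 lc_d_rc_23_4 lc_d_rc_15_1 lc_d_Cert_tree lc_d_Cert_tree lc_d_rc_23_4 lc_d_rc_15_1 lc_d_Cert_tree lc_d_rc_12_9 lc_d_Cert_tree lc_d_Cert_tree lc_d_rc_15_1 lc_d_rc_22_4 lc_d_Cert_tree lc_d_rc_15_1 lc_d_Cert_tree lc_d_rc_15_1 lc_d_Cert_tree lc_d_Cert_tree lc_d_rc_15_1 lc_d_rc_17_0 lc_d_rc_15_1 lc_d_Cert_tree lc_d_rc_15_1 lc_d_rc_27_2 lc_d_Cert_tree lc_d_rc_15_1 lc_d_rc_27_2 lc_d_rc_8_3 lc_d_Cert_tree lc_d_Cert_tree lc_d_rc_16_2 lc_d_rc_23_6 lc_d_rc_15_1 lc_d_Cert_tree lc_d_rc_15_1 lc_d_Cert_tree lc_d_Cert_tree lc_d_rc_15_1 lc_d_Cert_tree lc_d_rc_15_1 lc_d_Cert_tree lc_d_rc_15_1 lc_d_Cert_tree lc_d_rc_23_6 lc_d_rc_15_1 lc_d_Cert_tree lc_d_Cert_tree lc_d_Cert_tree lc_d_Cert_tree lc_d_Cert_tree)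 (@D3.rec (fun _ => (Cert rels S Gen.d)) lc_d_rc_15_1 lc_d_rc_17_2 lc_d_rc_15_1 lc_d_Cert_tree lc_d_Cert_tree lc_d_rc_15_1 lc_d_rc_27_8 lc_d_Cert_tree lc_d_rc_15_1 lc_d_rc_23_8 lc_d_rc_15_1 lc_d_rc_27_10 lc_d_rc_15_1 lc_d_Cert_tree lc_d_Cert_tree lc_d_rc_15_1 lc_d_Cert_tree lc_d_rc_12_1 lc_d_Cert_tree lc_d_rc_23_8 lc_d_rc_15_1 lc_d_rc_17_2 lc_d_Cert_tree lc_d_rc_15_1 lc_d_rc_15_1 lc_d_rc_16_4 lc_d_Cert_tree lc_d_rc_15_1 lc_d_Cert_tree lc_d_Cert_tree lc_d_rc_15_1 lc_d_rc_15_1 lc_d_Cert_tree lc_d_Cert_tree lc_d_rc_15_1 lc_d_rc_15_1 lc_d_rc_3_1 lc_d_rc_15_1 lc_d_rc_15_1 lc_d_rc_16_4 lc_d_rc_27_4 lc_d_Cert_tree lc_d_rc_15_1 lc_d_Cert_tree lc_d_Cert_tree lc_d_rc_15_1 lc_d_Cert_tree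 lc_d_rc_15_1 lc_d_Cert_tree lc_d_rc_16_0 lc_d_Cert_tree lc_d_rc_15_1 lc_d_rc_22_8 lc_d_rc_16_4 lc_d_rc_8_3 lc_d_Cert_tree lc_d_Cert_tree lc_d_Cert_tree lc_d_rc_15_1 lc_d_rc_17_2 lc_d_Cert_tree lc_d_Cert_tree) (@D3.rec (fun _ => (Cert rels S Gen.d)) lc_d_rc_15_1 lc_d_rc_16_4 lc_d_rc_15_1 lc_d_rc_24_0 lc_d_rc_15_1 lc_d_Cert_tree lc_d_rc_15_1 lc_d_rc_17_2 lc_d_rc_15_1 lc_d_rc_22_4 lc_d_rc_3_3 lc_d_Cert_tree lc_d_rc_15_1 lc_d_rc_8_3 lc_d_Cert_tree lc_d_Cert_tree lc_d_Cert_tree lc_d_rc_15_1 lc_d_rc_17_2 lc_d_Cert_tree lc_d_rc_15_1 lc_d_rc_27_4 lc_d_Cert_tree lc_d_rc_15_1 lc_d_Cert_tree lc_d_rc_15_1 lc_d_rc_3_1 lc_d_Cert_tree lc_d_rc_17_2 lc_d_rc_15_1 lc_d_Cert_tree lc_d_Cert_tree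 lc_d_rc_15_1 lc_d_Cert_tree lc_d_rc_23_6 lc_d_Cert_tree lc_d_Cert_tree lc_d_rc_15_1 lc_d_rc_23_4 lc_d_Cert_tree lc_d_rc_15_1 lc_d_Cert_tree lc_d_Cert_tree lc_d_rc_27_4 lc_d_Cert_tree lc_d_rc_15_1 lc_d_Cert_tree lc_d_rc_15_1 lc_d_rc_15_1 lc_d_Cert_tree lc_d_Cert_tree lc_d_Cert_tree lc_d_rc_15_1 lc_d_rc_17_2 lc_d_Cert_tree lc_d_Cert_tree lc_d_rc_23_8 lc_d_rc_17_2 lc_d_rc_25_2 lc_d_rc_23_8 lc_d_rc_15_1 lc_d_Cert_tree) (@D3.rec (fun _ => (Cert rels S Gen.d)) lc_d_rc_15_1 lc_d_rc_15_1 lc_d_rc_23_8 lc_d_rc_15_1 lc_d_Cert_tree lc_d_rc_15_1 lc_d_rc_17_2 lc_d_rc_8_3 lc_d_Cert_tree lc_d_Cert_tree lc_d_Cert_tree lc_d_rc_15_1 lc_d_rc_17_2 lc_d_rc_16_4 lc_d_rc_15_1 lc_d_Cert_tree lc_d_rc_15_1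 lc_d_rc_27_8 lc_d_rc_23_6 lc_d_rc_23_4 lc_d_Cert_tree lc_d_rc_17_2 lc_d_Cert_tree lc_d_Cert_tree lc_d_rc_15_1 lc_d_Cert_tree lc_d_rc_15_1 lc_d_Cert_tree lc_d_rc_27_4 lc_d_Cert_tree lc_d_Cert_tree lc_d_Cert_tree lc_d_rc_15_1 lc_d_rc_27_10 lc_d_rc_27_2 lc_d_rc_15_1 lc_d_rc_3_3 lc_d_rc_15_1 lc_d_rc_24_5 lc_d_rc_15_1 lc_d_Cert_tree lc_d_rc_12_9 lc_d_Cert_tree lc_d_Cert_tree lc_d_Cert_tree lc_d_rc_15_1 lc_d_rc_15_1 lc_d_Cert_tree lc_d_rc_15_1 lc_d_Cert_tree lc_d_Cert_tree lc_d_rc_15_1 lc_d_Cert_tree lc_d_rc_3_1 lc_d_rc_27_8 lc_d_Cert_tree lc_d_Cert_tree lc_d_rc_15_1 lc_d_Cert_tree lc_d_Cert_tree lc_d_rc_15_1 lc_d_rc_15_1) (@D3.rec (fun _ => (Cert rels S Gen.d)) lc_d_Cert_tree lc_d_Cert_tree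 lc_d_rc_15_1 lc_d_rc_23_8 lc_d_rc_15_1 lc_d_rc_15_1 lc_d_Cert_tree lc_d_Cert_tree lc_d_rc_15_1 lc_d_Cert_tree lc_d_rc_15_1 lc_d_rc_27_4 lc_d_rc_15_1 lc_d_Cert_tree lc_d_rc_8_3 lc_d_rc_15_1 lc_d_rc_15_1 lc_d_rc_23_8 lc_d_rc_15_1 lc_d_Cert_tree lc_d_Cert_tree lc_d_rc_23_8 lc_d_rc_24_5 lc_d_rc_15_1 lc_d_Cert_tree lc_d_rc_24_0 lc_d_rc_15_1 lc_d_Cert_tree lc_d_Cert_tree lc_d_Cert_tree lc_d_rc_15_1 lc_d_Cert_tree lc_d_rc_15_1 lc_d_rc_27_8 lc_d_Cert_tree lc_d_rc_15_1 lc_d_rc_15_1 lc_d_rc_15_1 lc_d_rc_15_1 lc_d_Cert_tree lc_d_Cert_tree lc_d_rc_23_8 lc_d_rc_27_4 lc_d_rc_15_1 lc_d_Cert_tree lc_d_Cert_tree lc_d_rc_17_2 lc_d_rc_27_2 lc_d_rc_15_1 lc_d_Cert_tree lc_d_rc_8_3 lc_d_Cert_tree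 lc_d_rc_15_1 lc_d_rc_15_1 lc_d_Cert_tree lc_d_rc_17_2 lc_d_rc_15_1 lc_d_rc_27_4 lc_d_rc_22_8 lc_d_rc_15_1 lc_d_rc_16_2 lc_d_rc_24_0) (@D3.rec (fun _ => (Cert rels S Gen.d)) lc_d_rc_15_1 lc_d_rc_16_2 lc_d_rc_8_3 lc_d_rc_16_2 lc_d_rc_16_4 lc_d_rc_23_4 lc_d_Cert_tree lc_d_Cert_tree lc_d_rc_15_1 lc_d_rc_22_4 lc_d_rc_16_4 lc_d_Cert_tree lc_d_rc_15_1 lc_d_rc_8_3 lc_d_rc_12_9 lc_d_rc_16_2 lc_d_rc_22_2 lc_d_Cert_tree lc_d_rc_15_1 lc_d_Cert_tree lc_d_Cert_tree lc_d_rc_15_1 lc_d_rc_15_1 lc_d_Cert_tree lc_d_rc_15_1 lc_d_rc_27_4 lc_d_rc_15_1 lc_d_rc_27_2 lc_d_Cert_tree lc_d_Cert_tree lc_d_rc_15_1 lc_d_rc_17_2 lc_d_rc_23_6 lc_d_rc_15_1 lc_d_rc_22_6 lc_d_rc_16_4 lc_d_rc_17_2 lc_d_rc_23_8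 lc_d_rc_15_1 lc_d_rc_15_1 lc_d_rc_16_2 lc_d_rc_23_8 lc_d_rc_17_2 lc_d_Cert_tree lc_d_rc_15_1 lc_d_rc_16_4 lc_d_rc_24_0 lc_d_rc_23_8 lc_d_rc_15_1 lc_d_Cert_tree lc_d_rc_15_1 lc_d_rc_17_2 lc_d_rc_15_1 lc_d_Cert_tree lc_d_Cert_tree lc_d_rc_15_1 lc_d_Cert_tree lc_d_rc_15_1 lc_d_rc_15_1 lc_d_rc_15_1 lc_d_Cert_tree lc_d_rc_16_4) (@D3.rec (fun _ => (Cert rels S Gen.d)) lc_d_Cert_tree lc_d_Cert_tree lc_d_rc_17_2 lc_d_rc_15_1 lc_d_Cert_tree lc_d_Cert_tree lc_d_rc_15_1 lc_d_rc_15_1 lc_d_rc_15_1 lc_d_rc_15_1 lc_d_Cert_tree lc_d_rc_17_2 lc_d_rc_15_1 lc_d_rc_27_4 lc_d_rc_15_1 lc_d_rc_27_4 lc_d_rc_17_2 lc_d_Cert_tree lc_d_Cert_tree lc_d_rc_15_1 lc_d_rc_15_1 lc_d_rc_15_1 lc_d_Cert_tree lc_d_rc_16_2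 lc_d_rc_8_3 lc_d_Cert_tree lc_d_rc_16_2 lc_d_rc_8_1 lc_d_Cert_tree lc_d_Cert_tree lc_d_Cert_tree lc_d_Cert_tree lc_d_Cert_tree lc_d_rc_15_1 lc_d_rc_17_2 lc_d_rc_16_4 lc_d_Cert_tree lc_d_rc_16_2 lc_d_Cert_tree lc_d_rc_15_1 lc_d_rc_27_4 lc_d_rc_27_10 lc_d_rc_27_10 lc_d_rc_17_2 lc_d_Cert_tree lc_d_Cert_tree lc_d_Cert_tree lc_d_rc_15_1 lc_d_rc_16_4 lc_d_rc_15_1 lc_d_rc_15_1 lc_d_rc_27_4 lc_d_rc_15_1 lc_d_rc_23_8 lc_d_rc_23_8 lc_d_rc_3_3 lc_d_Cert_tree lc_d_rc_27_4 lc_d_rc_24_0 lc_d_Cert_tree lc_d_rc_15_1 lc_d_Cert_tree) (@D3.rec (fun _ => (Cert rels S Gen.d)) lc_d_rc_27_2 lc_d_Cert_tree lc_d_Cert_tree lc_d_rc_15_1 lc_d_rc_27_8 lc_d_rc_15_1 lc_d_rc_8_3 lc_d_rc_15_1 lc_d_Cert_tree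 lc_d_rc_16_4 lc_d_rc_17_2 lc_d_rc_8_3 lc_d_rc_27_4 lc_d_rc_15_1 lc_d_rc_15_1 lc_d_rc_17_2 lc_d_rc_16_4 lc_d_rc_15_1 lc_d_rc_16_4 lc_d_Cert_tree lc_d_Cert_tree lc_d_rc_15_1 lc_d_rc_15_1 lc_d_Cert_tree lc_d_Cert_tree lc_d_rc_25_18 lc_d_rc_15_1 lc_d_rc_24_0 lc_d_rc_15_1 lc_d_rc_15_1 lc_d_Cert_tree lc_d_rc_25_10 lc_d_rc_15_1 lc_d_Cert_tree lc_d_Cert_tree lc_d_Cert_tree lc_d_Cert_tree lc_d_rc_15_1 lc_d_rc_27_4 lc_d_rc_17_2 lc_d_rc_16_4 lc_d_rc_8_3 lc_d_rc_8_3 lc_d_Cert_tree lc_d_rc_24_5 lc_d_Cert_tree lc_d_Cert_tree lc_d_rc_23_4 lc_d_rc_15_1 lc_d_Cert_tree lc_d_Cert_tree lc_d_Cert_tree lc_d_rc_17_2 lc_d_Cert_tree lc_d_rc_15_1 lc_d_rc_27_4 lc_d_Cert_tree lc_d_rc_15_1 lc_d_rc_15_1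 lc_d_rc_8_3 lc_d_Cert_tree lc_d_Cert_tree)
def ce_d_4 : D2 → D3 → (Cert rels S Gen.d) := @D2.rec (fun _ => D3 → (Cert rels S Gen.d)) (@D3.rec (fun _ => (Cert rels S Gen.d)) lc_d_Cert_tree lc_d_rc_15_1 lc_d_rc_17_2 lc_d_rc_15_1 lc_d_rc_16_4 lc_d_rc_17_2 lc_d_rc_15_1 lc_d_Cert_tree lc_d_rc_15_1 lc_d_rc_15_1 lc_d_rc_16_4 lc_d_Cert_tree lc_d_Cert_tree lc_d_rc_17_2 lc_d_rc_8_3 lc_d_rc_27_4 lc_d_rc_8_3 lc_d_rc_16_4 lc_d_Cert_tree lc_d_rc_15_1 lc_d_rc_22_4 lc_d_rc_17_0 lc_d_rc_8_3 lc_d_rc_15_1 lc_d_rc_27_2 lc_d_Cert_tree lc_d_Cert_tree lc_d_Cert_tree lc_d_rc_15_1 lc_d_rc_17_2 lc_d_rc_15_1 lc_d_rc_16_4 lc_d_rc_17_2 lc_d_Cert_tree lc_d_rc_23_8 lc_d_rc_15_1 lc_d_rc_3_3 lc_d_Cert_tree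 lc_d_rc_15_1 lc_d_Cert_tree lc_d_rc_8_1 lc_d_Cert_tree lc_d_rc_15_1 lc_d_Cert_tree lc_d_rc_24_0 lc_d_rc_25_10 lc_d_rc_15_1 lc_d_Cert_tree lc_d_rc_15_1 lc_d_rc_25_10 lc_d_rc_8_3 lc_d_rc_16_4 lc_d_rc_17_2 lc_d_Cert_tree lc_d_Cert_tree lc_d_Cert_tree lc_d_Cert_tree lc_d_rc_17_2 lc_d_rc_15_1 lc_d_rc_23_4 lc_d_Cert_tree lc_d_rc_15_1) (@D3.rec (fun _ => (Cert rels S Gen.d)) lc_d_rc_16_2 lc_d_rc_16_2 lc_d_Cert_tree lc_d_rc_17_2 lc_d_rc_8_3 lc_d_rc_23_4 lc_d_Cert_tree lc_d_rc_23_4 lc_d_rc_16_4 lc_d_rc_8_3 lc_d_rc_16_4 lc_d_rc_23_6 lc_d_rc_15_1 lc_d_rc_16_2 lc_d_Cert_tree lc_d_Cert_tree lc_d_Cert_tree lc_d_rc_15_1 lc_d_rc_27_2 lc_d_rc_15_1 lc_d_rc_16_2 lc_d_Cert_tree lc_d_rc_15_1 lc_d_Cert_tree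 lc_d_rc_15_1 lc_d_Cert_tree lc_d_rc_15_1 lc_d_Cert_tree lc_d_Cert_tree lc_d_rc_15_1 lc_d_Cert_tree lc_d_rc_15_1 lc_d_Cert_tree lc_d_rc_15_1 lc_d_rc_23_6 lc_d_rc_23_6 lc_d_rc_15_1 lc_d_rc_16_4 lc_d_rc_17_2 lc_d_rc_15_1 lc_d_rc_15_1 lc_d_Cert_tree lc_d_rc_16_4 lc_d_Cert_tree lc_d_Cert_tree lc_d_rc_15_1 lc_d_rc_17_0 lc_d_Cert_tree lc_d_rc_27_4 lc_d_rc_15_1 lc_d_Cert_tree lc_d_rc_16_4 lc_d_Cert_tree lc_d_Cert_tree lc_d_Cert_tree lc_d_rc_15_1 lc_d_rc_22_4 lc_d_rc_17_2 lc_d_rc_23_4 lc_d_rc_23_6 lc_d_rc_15_1 lc_d_rc_16_2) (@D3.rec (fun _ => (Cert rels S Gen.d)) lc_d_rc_24_0 lc_d_rc_15_1 lc_d_rc_23_4 lc_d_rc_15_1 lc_d_rc_15_1 lc_d_rc_16_2 lc_d_Cert_tree lc_d_rc_15_1 lc_d_rc_15_1 lc_d_rc_27_2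 lc_d_rc_15_1 lc_d_rc_27_4 lc_d_Cert_tree lc_d_rc_15_1 lc_d_rc_15_1 lc_d_Cert_tree lc_d_Cert_tree lc_d_Cert_tree lc_d_Cert_tree lc_d_rc_15_1 lc_d_rc_17_2 lc_d_rc_23_4 lc_d_rc_23_4 lc_d_rc_15_1 lc_d_rc_16_4 lc_d_rc_17_2 lc_d_Cert_tree lc_d_rc_27_4 lc_d_rc_16_4 lc_d_Cert_tree lc_d_rc_15_1 lc_d_rc_22_6 lc_d_rc_16_4 lc_d_rc_15_1 lc_d_rc_23_4 lc_d_Cert_tree lc_d_rc_17_2 lc_d_rc_27_4 lc_d_rc_16_4 lc_d_Cert_tree lc_d_rc_15_1 lc_d_rc_22_6 lc_d_rc_16_4 lc_d_rc_15_1 lc_d_rc_27_4 lc_d_Cert_tree lc_d_rc_16_2 lc_d_rc_27_2 lc_d_Cert_tree lc_d_rc_15_1 lc_d_rc_27_4 lc_d_Cert_tree lc_d_Cert_tree lc_d_Cert_tree lc_d_rc_15_1 lc_d_rc_17_2 lc_d_rc_16_4 lc_d_rc_24_5 lc_d_rc_16_0 lc_d_Cert_tree lc_d_rc_8_3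 lc_d_rc_8_3) (@D3.rec (fun _ => (Cert rels S Gen.d)) lc_d_rc_3_1 lc_d_rc_15_1 lc_d_rc_27_8 lc_d_Cert_tree lc_d_Cert_tree lc_d_rc_12_15 lc_d_rc_15_1 lc_d_rc_3_1 lc_d_Cert_tree lc_d_rc_15_1 lc_d_rc_27_4 lc_d_Cert_tree lc_d_rc_16_4 lc_d_Cert_tree lc_d_Cert_tree lc_d_Cert_tree lc_d_rc_15_1 lc_d_rc_17_2 lc_d_rc_17_2 lc_d_rc_3_3 lc_d_Cert_tree lc_d_rc_16_2 lc_d_rc_23_8 lc_d_rc_27_2 lc_d_rc_24_0 lc_d_rc_16_4 lc_d_rc_15_1 lc_d_rc_16_4 lc_d_rc_8_3 lc_d_Cert_tree lc_d_Cert_tree lc_d_rc_16_2 lc_d_rc_15_1 lc_d_rc_17_2 lc_d_rc_23_4 lc_d_rc_15_1 lc_d_rc_15_1 lc_d_rc_27_2 lc_d_rc_15_1 lc_d_rc_15_1 lc_d_Cert_tree lc_d_Cert_tree lc_d_rc_23_2 lc_d_rc_23_2 lc_d_rc_15_1 lc_d_rc_27_8 lc_d_rc_8_3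 lc_d_Cert_tree lc_d_Cert_tree lc_d_rc_15_1 lc_d_rc_15_1 lc_d_rc_17_2 lc_d_Cert_tree lc_d_Cert_tree lc_d_rc_8_1 lc_d_rc_15_1 lc_d_Cert_tree lc_d_Cert_tree lc_d_Cert_tree lc_d_rc_15_1 lc_d_rc_17_2 lc_d_rc_3_1) (@D3.rec (fun _ => (Cert rels S Gen.d)) lc_d_Cert_tree lc_d_rc_16_4 lc_d_rc_15_1 lc_d_Cert_tree lc_d_Cert_tree lc_d_Cert_tree lc_d_rc_17_2 lc_d_rc_15_1 lc_d_Cert_tree lc_d_rc_15_1 lc_d_Cert_tree lc_d_Cert_tree lc_d_Cert_tree lc_d_Cert_tree lc_d_rc_15_1 lc_d_rc_8_3 lc_d_rc_16_4 lc_d_Cert_tree lc_d_Cert_tree lc_d_Cert_tree lc_d_rc_23_4 lc_d_rc_16_4 lc_d_rc_8_3 lc_d_rc_15_1 lc_d_rc_15_1 lc_d_rc_8_3 lc_d_Cert_tree lc_d_rc_27_4 lc_d_rc_15_1 lc_d_rc_15_1 lc_d_rc_27_2 lc_d_Cert_tree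 lc_d_rc_15_1 lc_d_Cert_tree lc_d_rc_8_1 lc_d_rc_15_1 lc_d_rc_22_4 lc_d_rc_16_2 lc_d_rc_3_3 lc_d_rc_8_3 lc_d_Cert_tree lc_d_Cert_tree lc_d_rc_15_1 lc_d_rc_15_1 lc_d_rc_17_2 lc_d_rc_15_1 lc_d_Cert_tree lc_d_rc_15_1 lc_d_Cert_tree lc_d_rc_15_1 lc_d_rc_8_3 lc_d_rc_8_3 lc_d_Cert_tree lc_d_Cert_tree lc_d_Cert_tree lc_d_rc_15_1 lc_d_rc_17_2 lc_d_rc_12_3 lc_d_rc_16_4 lc_d_rc_17_2 lc_d_rc_15_1 lc_d_rc_15_1) (@D3.rec (fun _ => (Cert rels S Gen.d)) lc_d_Cert_tree lc_d_Cert_tree lc_d_rc_15_1 lc_d_rc_15_1 lc_d_rc_24_0 lc_d_Cert_tree lc_d_rc_17_2 lc_d_rc_15_1 lc_d_rc_8_1 lc_d_rc_15_1 lc_d_rc_15_1 lc_d_rc_17_2 lc_d_Cert_tree lc_d_rc_16_2 lc_d_rc_15_1 lc_d_Cert_tree lc_d_rc_16_2 lc_d_rc_23_6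 lc_d_Cert_tree lc_d_rc_16_2 lc_d_rc_23_4 lc_d_Cert_tree lc_d_rc_8_3 lc_d_Cert_tree lc_d_Cert_tree lc_d_rc_15_1 lc_d_rc_17_2 lc_d_rc_17_0 lc_d_rc_15_1 lc_d_Cert_tree lc_d_rc_15_1 lc_d_rc_17_2 lc_d_rc_15_1 lc_d_rc_16_4 lc_d_Cert_tree lc_d_rc_8_3 lc_d_rc_15_1 lc_d_rc_16_2 lc_d_rc_23_2 lc_d_rc_23_2 lc_d_rc_27_10 lc_d_rc_15_1 lc_d_rc_15_1 lc_d_rc_15_1 lc_d_rc_15_1 lc_d_rc_8_3 lc_d_rc_16_2 lc_d_Cert_tree lc_d_Cert_tree lc_d_rc_27_8 lc_d_Cert_tree lc_d_rc_15_1 lc_d_rc_27_4 lc_d_rc_17_2 lc_d_Cert_tree lc_d_Cert_tree lc_d_rc_15_1 lc_d_Cert_tree lc_d_rc_15_1 lc_d_rc_15_1 lc_d_rc_24_0 lc_d_Cert_tree) (@D3.rec (fun _ => (Cert rels S Gen.d)) lc_d_rc_16_4 lc_d_rc_17_2 lc_d_rc_8_3 lc_d_Cert_tree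 lc_d_rc_15_1 lc_d_rc_15_1 lc_d_rc_17_2 lc_d_rc_16_2 lc_d_rc_15_1 lc_d_rc_15_1 lc_d_Cert_tree lc_d_Cert_tree lc_d_rc_15_1 lc_d_rc_15_1 lc_d_rc_15_1 lc_d_Cert_tree lc_d_rc_17_2 lc_d_rc_15_1 lc_d_rc_8_1 lc_d_Cert_tree lc_d_rc_15_1 lc_d_rc_27_2 lc_d_rc_15_1 lc_d_rc_8_3 lc_d_Cert_tree lc_d_rc_16_2 lc_d_rc_15_1 lc_d_rc_27_8 lc_d_rc_15_1 lc_d_rc_27_8 lc_d_Cert_tree lc_d_rc_16_2 lc_d_rc_23_4 lc_d_Cert_tree lc_d_rc_27_4 lc_d_rc_8_1 lc_d_Cert_tree lc_d_rc_16_4 lc_d_Cert_tree lc_d_rc_23_2 lc_d_Cert_tree lc_d_rc_15_1 lc_d_rc_17_2 lc_d_rc_16_4 lc_d_Cert_tree lc_d_rc_16_2 lc_d_rc_8_3 lc_d_rc_15_1 lc_d_rc_17_2 lc_d_rc_24_0 lc_d_Cert_tree lc_d_rc_16_2 lc_d_rc_8_3 lc_d_rc_8_3 lc_d_Cert_tree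 lc_d_rc_27_4 lc_d_Cert_tree lc_d_rc_15_1 lc_d_rc_24_0 lc_d_rc_22_8 lc_d_rc_24_5 lc_d_Cert_tree) (@D3.rec (fun _ => (Cert rels S Gen.d)) lc_d_rc_15_1 lc_d_rc_8_3 lc_d_rc_16_4 lc_d_Cert_tree lc_d_rc_27_4 lc_d_rc_15_1 lc_d_Cert_tree lc_d_rc_24_0 lc_d_rc_8_3 lc_d_rc_27_8 lc_d_rc_23_4 lc_d_rc_23_2 lc_d_rc_27_4 lc_d_rc_15_1 lc_d_rc_27_4 lc_d_rc_15_1 lc_d_rc_23_6 lc_d_rc_23_6 lc_d_rc_27_10 lc_d_rc_16_2 lc_d_rc_17_2 lc_d_rc_8_3 lc_d_rc_16_4 lc_d_rc_8_1 lc_d_Cert_tree lc_d_rc_23_6 lc_d_rc_15_1 lc_d_rc_17_2 lc_d_rc_16_4 lc_d_rc_15_1 lc_d_rc_15_1 lc_d_rc_27_4 lc_d_rc_15_1 lc_d_rc_15_1 lc_d_rc_23_6 lc_d_Cert_tree lc_d_rc_17_2 lc_d_Cert_tree lc_d_rc_16_2 lc_d_Cert_tree lc_d_rc_27_4 lc_d_Cert_tree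 lc_d_Cert_tree lc_d_Cert_tree lc_d_rc_15_1 lc_d_rc_17_2 lc_d_rc_17_2 lc_d_rc_15_1 lc_d_rc_27_8 lc_d_rc_15_1 lc_d_rc_8_3 lc_d_Cert_tree lc_d_rc_17_2 lc_d_rc_15_1 lc_d_rc_27_8 lc_d_rc_15_1 lc_d_Cert_tree lc_d_rc_17_2 lc_d_Cert_tree lc_d_rc_16_2 lc_d_rc_24_0 lc_d_rc_17_2) (@D3.rec (fun _ => (Cert rels S Gen.d)) lc_d_Cert_tree lc_d_rc_16_4 lc_d_Cert_tree lc_d_Cert_tree lc_d_Cert_tree lc_d_rc_15_1 lc_d_rc_17_2 lc_d_rc_16_4 lc_d_rc_15_1 lc_d_rc_15_1 lc_d_rc_15_1 lc_d_rc_27_4 lc_d_rc_27_8 lc_d_Cert_tree lc_d_rc_16_2 lc_d_Cert_tree lc_d_rc_16_2 lc_d_rc_8_3 lc_d_Cert_tree lc_d_rc_27_4 lc_d_Cert_tree lc_d_rc_16_4 lc_d_Cert_tree lc_d_Cert_tree lc_d_Cert_tree lc_d_rc_15_1 lc_d_rc_22_4 lc_d_rc_16_4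 lc_d_rc_24_0 lc_d_Cert_tree lc_d_rc_16_2 lc_d_rc_15_1 lc_d_rc_15_1 lc_d_rc_24_0 lc_d_rc_15_1 lc_d_rc_16_2 lc_d_rc_24_0 lc_d_rc_8_3 lc_d_Cert_tree lc_d_rc_16_4 lc_d_Cert_tree lc_d_rc_8_3 lc_d_Cert_tree lc_d_Cert_tree lc_d_Cert_tree lc_d_rc_15_1 lc_d_Cert_tree lc_d_Cert_tree lc_d_rc_8_3 lc_d_rc_15_1 lc_d_rc_17_2 lc_d_Cert_tree lc_d_rc_15_1 lc_d_rc_15_1 lc_d_rc_23_2 lc_d_rc_15_1 lc_d_rc_27_8 lc_d_rc_23_6 lc_d_rc_15_1 lc_d_Cert_tree lc_d_rc_16_2 lc_d_rc_27_2) (@D3.rec (fun _ => (Cert rels S Gen.d)) lc_d_rc_15_1 lc_d_rc_27_8 lc_d_rc_23_2 lc_d_Cert_tree lc_d_rc_23_8 lc_d_rc_15_1 lc_d_rc_27_2 lc_d_Cert_tree lc_d_rc_15_1 lc_d_Cert_tree lc_d_rc_27_10 lc_d_rc_15_1 lc_d_rc_15_1 lc_d_rc_17_2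 lc_d_Cert_tree lc_d_Cert_tree lc_d_rc_15_1 lc_d_rc_27_4 lc_d_rc_22_2 lc_d_rc_27_4 lc_d_Cert_tree lc_d_rc_15_1 lc_d_Cert_tree lc_d_rc_15_1 lc_d_rc_15_1 lc_d_Cert_tree lc_d_rc_8_3 lc_d_rc_15_1 lc_d_rc_22_2 lc_d_rc_22_2 lc_d_Cert_tree lc_d_Cert_tree lc_d_Cert_tree lc_d_rc_15_1 lc_d_Cert_tree lc_d_rc_27_4 lc_d_rc_27_4 lc_d_rc_15_1 lc_d_rc_15_1 lc_d_rc_17_2 lc_d_Cert_tree lc_d_rc_15_1 lc_d_rc_15_1 lc_d_Cert_tree lc_d_Cert_tree lc_d_rc_15_1 lc_d_Cert_tree lc_d_Cert_tree lc_d_Cert_tree lc_d_Cert_tree lc_d_rc_15_1 lc_d_rc_17_2 lc_d_rc_23_6 lc_d_rc_12_15 lc_d_rc_12_3 lc_d_rc_16_4 lc_d_rc_17_2 lc_d_Cert_tree lc_d_Cert_tree lc_d_Cert_tree lc_d_rc_12_13 lc_d_rc_16_4) (@D3.rec (fun _ =>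 (Cert rels S Gen.d)) lc_d_Cert_tree lc_d_rc_16_2 lc_d_rc_23_8 lc_d_rc_24_0 lc_d_rc_15_1 lc_d_rc_23_2 lc_d_rc_23_8 lc_d_Cert_tree lc_d_rc_23_8 lc_d_rc_15_1 lc_d_rc_27_8 lc_d_Cert_tree lc_d_rc_16_4 lc_d_Cert_tree lc_d_rc_16_2 lc_d_Cert_tree lc_d_Cert_tree lc_d_Cert_tree lc_d_rc_15_1 lc_d_Cert_tree lc_d_rc_23_8 lc_d_rc_15_1 lc_d_rc_17_2 lc_d_rc_8_3 lc_d_rc_22_6 lc_d_rc_8_3 lc_d_Cert_tree lc_d_rc_25_6 lc_d_rc_23_8 lc_d_rc_3_3 lc_d_rc_23_2 lc_d_rc_22_2 lc_d_rc_24_0 lc_d_rc_16_4 lc_d_rc_15_1 lc_d_rc_16_4 lc_d_rc_15_1 lc_d_Cert_tree lc_d_rc_16_4 lc_d_Cert_tree lc_d_rc_16_2 lc_d_rc_8_1 lc_d_rc_23_4 lc_d_rc_15_1 lc_d_Cert_tree lc_d_Cert_tree lc_d_Cert_tree lc_d_rc_15_1 lc_d_Cert_tree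 lc_d_rc_27_10 lc_d_rc_15_1 lc_d_rc_17_2 lc_d_rc_23_8 lc_d_rc_15_1 lc_d_rc_15_1 lc_d_rc_3_3 lc_d_Cert_tree lc_d_rc_22_8 lc_d_rc_15_1 lc_d_rc_15_1 lc_d_Cert_tree lc_d_rc_17_2) (@D3.rec (fun _ => (Cert rels S Gen.d)) lc_d_rc_8_3 lc_d_Cert_tree lc_d_rc_27_4 lc_d_rc_23_2 lc_d_rc_24_0 lc_d_Cert_tree lc_d_rc_15_1 lc_d_Cert_tree lc_d_Cert_tree lc_d_rc_15_1 lc_d_rc_15_1 lc_d_rc_8_1 lc_d_rc_25_6 lc_d_rc_3_3 lc_d_rc_3_3 lc_d_rc_8_1 lc_d_rc_27_10 lc_d_rc_24_5 lc_d_rc_15_1 lc_d_rc_3_3 lc_d_Cert_tree lc_d_rc_15_1 lc_d_rc_27_2 lc_d_Cert_tree lc_d_Cert_tree lc_d_rc_16_4 lc_d_rc_15_1 lc_d_rc_24_0 lc_d_Cert_tree lc_d_rc_15_1 lc_d_Cert_tree lc_d_rc_27_10 lc_d_rc_15_1 lc_d_rc_17_2 lc_d_rc_15_1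 lc_d_rc_3_1 lc_d_rc_3_3 lc_d_rc_16_2 lc_d_rc_15_1 lc_d_rc_22_8 lc_d_rc_27_4 lc_d_rc_8_3 lc_d_rc_22_2 lc_d_rc_22_6 lc_d_rc_3_3 lc_d_Cert_tree lc_d_rc_22_8 lc_d_Cert_tree lc_d_Cert_tree lc_d_Cert_tree lc_d_rc_15_1 lc_d_rc_27_2 lc_d_rc_17_2 lc_d_rc_24_0 lc_d_Cert_tree lc_d_rc_15_1 lc_d_rc_27_2 lc_d_rc_15_1 lc_d_rc_25_10 lc_d_rc_15_1 lc_d_Cert_tree lc_d_rc_16_2) (@D3.rec (fun _ => (Cert rels S Gen.d)) lc_d_rc_16_4 lc_d_rc_27_10 lc_d_Cert_tree lc_d_Cert_tree lc_d_Cert_tree lc_d_rc_15_1 lc_d_rc_16_2 lc_d_rc_15_1 lc_d_rc_8_1 lc_d_rc_15_1 lc_d_rc_15_1 lc_d_rc_15_1 lc_d_Cert_tree lc_d_rc_16_4 lc_d_Cert_tree lc_d_rc_16_2 lc_d_rc_8_3 lc_d_rc_16_2 lc_d_rc_15_1 lc_d_Cert_tree lc_d_rc_27_2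 lc_d_rc_8_3 lc_d_Cert_tree lc_d_rc_16_4 lc_d_Cert_tree lc_d_Cert_tree lc_d_Cert_tree lc_d_rc_15_1 lc_d_rc_24_0 lc_d_Cert_tree lc_d_Cert_tree lc_d_rc_17_2 lc_d_Cert_tree lc_d_rc_24_0 lc_d_rc_27_2 lc_d_Cert_tree lc_d_rc_16_4 lc_d_rc_8_3 lc_d_rc_27_2 lc_d_rc_15_1 lc_d_rc_15_1 lc_d_rc_17_2 lc_d_rc_23_4 lc_d_rc_15_1 lc_d_rc_8_3 lc_d_Cert_tree lc_d_rc_25_2 lc_d_rc_15_1 lc_d_rc_8_1 lc_d_rc_22_2 lc_d_rc_8_3 lc_d_rc_24_0 lc_d_rc_16_4 lc_d_rc_27_8 lc_d_rc_24_0 lc_d_rc_15_1 lc_d_Cert_tree lc_d_rc_16_4 lc_d_Cert_tree lc_d_rc_16_2 lc_d_rc_8_3 lc_d_rc_8_1) (@D3.rec (fun _ => (Cert rels S Gen.d)) lc_d_rc_8_3 lc_d_Cert_tree lc_d_rc_8_3 lc_d_rc_24_5 lc_d_Cert_tree lc_d_rc_16_4 lc_d_Cert_tree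 lc_d_Cert_tree lc_d_Cert_tree lc_d_rc_15_1 lc_d_Cert_tree lc_d_rc_3_1 lc_d_rc_17_2 lc_d_rc_8_3 lc_d_rc_24_5 lc_d_rc_27_8 lc_d_rc_22_2 lc_d_rc_16_0 lc_d_rc_3_3 lc_d_rc_22_2 lc_d_rc_27_4 lc_d_rc_22_2 lc_d_rc_24_0 lc_d_rc_27_2 lc_d_rc_15_1 lc_d_Cert_tree lc_d_rc_8_3 lc_d_rc_8_3 lc_d_Cert_tree lc_d_Cert_tree lc_d_Cert_tree lc_d_rc_15_1 lc_d_rc_17_2 lc_d_rc_22_6 lc_d_rc_16_4 lc_d_rc_17_2 lc_d_rc_15_1 lc_d_rc_15_1 lc_d_rc_27_4 lc_d_rc_15_1 lc_d_Cert_tree lc_d_rc_17_2 lc_d_rc_15_1 lc_d_rc_17_2 lc_d_rc_15_1 lc_d_rc_27_8 lc_d_rc_15_1 lc_d_Cert_tree lc_d_rc_17_2 lc_d_rc_15_1 lc_d_rc_27_4 lc_d_rc_24_0 lc_d_Cert_tree lc_d_rc_17_2 lc_d_rc_8_1 lc_d_rc_15_1 lc_d_Cert_tree lc_d_rc_17_2 lc_d_rc_15_1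 lc_d_rc_27_4 lc_d_rc_15_1 lc_d_Cert_tree) (@D3.rec (fun _ => (Cert rels S Gen.d)) lc_d_rc_8_3 lc_d_rc_8_3 lc_d_rc_15_1 lc_d_rc_15_1 lc_d_rc_15_1 lc_d_rc_15_1 lc_d_Cert_tree lc_d_rc_16_2 lc_d_rc_27_2 lc_d_Cert_tree lc_d_Cert_tree lc_d_rc_8_1 lc_d_Cert_tree lc_d_Cert_tree lc_d_Cert_tree lc_d_Cert_tree lc_d_rc_15_1 lc_d_rc_17_2 lc_d_rc_16_4 lc_d_Cert_tree lc_d_rc_3_3 lc_d_Cert_tree lc_d_rc_27_4 lc_d_Cert_tree lc_d_rc_15_1 lc_d_rc_22_4 lc_d_rc_17_2 lc_d_rc_8_3 lc_d_Cert_tree lc_d_rc_27_4 lc_d_rc_15_1 lc_d_rc_15_1 lc_d_rc_17_2 lc_d_Cert_tree lc_d_Cert_tree lc_d_rc_27_4 lc_d_rc_15_1 lc_d_Cert_tree lc_d_Cert_tree lc_d_Cert_tree lc_d_rc_15_1 lc_d_rc_17_2 lc_d_Cert_tree lc_d_rc_27_10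 lc_d_rc_27_10 lc_d_rc_17_2 lc_d_Cert_tree lc_d_Cert_tree lc_d_Cert_tree lc_d_rc_15_1 lc_d_rc_17_2 lc_d_rc_16_4 lc_d_Cert_tree lc_d_Cert_tree lc_d_Cert_tree lc_d_Cert_tree lc_d_rc_16_2 lc_d_Cert_tree lc_d_rc_27_4 lc_d_Cert_tree lc_d_Cert_tree lc_d_Cert_tree) (@D3.rec (fun _ => (Cert rels S Gen.d)) lc_d_rc_15_1 lc_d_rc_17_2 lc_d_rc_16_4 lc_d_rc_15_1 lc_d_rc_8_3 lc_d_Cert_tree lc_d_rc_17_2 lc_d_Cert_tree lc_d_rc_16_2 lc_d_rc_24_0 lc_d_rc_8_3 lc_d_Cert_tree lc_d_rc_16_4 lc_d_Cert_tree lc_d_Cert_tree lc_d_Cert_tree lc_d_rc_15_1 lc_d_rc_22_4 lc_d_rc_16_4 lc_d_rc_15_1 lc_d_rc_15_1 lc_d_rc_15_1 lc_d_Cert_tree lc_d_rc_16_2 lc_d_Cert_tree lc_d_rc_16_2 lc_d_rc_15_1 lc_d_Cert_tree lc_d_rc_27_4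 lc_d_Cert_tree lc_d_rc_16_4 lc_d_Cert_tree lc_d_Cert_tree lc_d_Cert_tree lc_d_rc_15_1 lc_d_rc_22_4 lc_d_rc_16_4 lc_d_Cert_tree lc_d_rc_16_4 lc_d_Cert_tree lc_d_rc_16_4 lc_d_Cert_tree lc_d_Cert_tree lc_d_Cert_tree lc_d_rc_15_1 lc_d_Cert_tree lc_d_rc_27_10 lc_d_rc_15_1 lc_d_rc_15_1 lc_d_rc_17_2 lc_d_Cert_tree lc_d_rc_15_1 lc_d_rc_27_8 lc_d_rc_8_3 lc_d_Cert_tree lc_d_rc_16_2 lc_d_rc_8_3 lc_d_rc_15_1 lc_d_rc_16_2 lc_d_Cert_tree lc_d_rc_15_1 lc_d_Cert_tree) (@D3.rec (fun _ => (Cert rels S Gen.d)) lc_d_rc_27_10 lc_d_rc_15_1 lc_d_rc_17_2 lc_d_rc_15_1 lc_d_rc_23_2 lc_d_Cert_tree lc_d_rc_15_1 lc_d_Cert_tree lc_d_Cert_tree lc_d_Cert_tree lc_d_rc_15_1 lc_d_rc_16_4 lc_d_Cert_tree lc_d_rc_16_4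 lc_d_Cert_tree lc_d_rc_15_1 lc_d_Cert_tree lc_d_rc_15_1 lc_d_rc_27_10 lc_d_rc_15_1 lc_d_rc_17_2 lc_d_Cert_tree lc_d_rc_24_5 lc_d_rc_15_1 lc_d_Cert_tree lc_d_Cert_tree lc_d_rc_8_3 lc_d_rc_15_1 lc_d_Cert_tree lc_d_rc_23_2 lc_d_Cert_tree lc_d_Cert_tree lc_d_rc_15_1 lc_d_rc_15_1 lc_d_rc_23_6 lc_d_rc_3_1 lc_d_rc_16_4 lc_d_rc_17_2 lc_d_Cert_tree lc_d_Cert_tree lc_d_Cert_tree lc_d_rc_15_1 lc_d_Cert_tree lc_d_rc_16_4 lc_d_rc_22_4 lc_d_rc_16_2 lc_d_Cert_tree lc_d_rc_16_4 lc_d_rc_16_2 lc_d_Cert_tree lc_d_rc_8_3 lc_d_rc_15_1 lc_d_rc_12_1 lc_d_Cert_tree lc_d_rc_15_1 lc_d_Cert_tree lc_d_Cert_tree lc_d_Cert_tree lc_d_rc_17_2 lc_d_rc_8_3 lc_d_rc_23_8 lc_d_rc_15_1) (@D3.rec (fun _ => (Cert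 rels S Gen.d)) lc_d_rc_16_4 lc_d_rc_8_3 lc_d_rc_15_1 lc_d_rc_15_1 lc_d_rc_17_2 lc_d_rc_8_3 lc_d_Cert_tree lc_d_rc_15_1 lc_d_rc_15_1 lc_d_rc_3_3 lc_d_rc_15_1 lc_d_rc_16_4 lc_d_Cert_tree lc_d_rc_16_4 lc_d_Cert_tree lc_d_rc_16_2 lc_d_rc_27_2 lc_d_rc_8_3 lc_d_Cert_tree lc_d_rc_16_4 lc_d_Cert_tree lc_d_rc_16_4 lc_d_rc_15_1 lc_d_rc_23_2 lc_d_Cert_tree lc_d_rc_15_1 lc_d_Cert_tree lc_d_rc_27_10 lc_d_rc_17_2 lc_d_rc_15_1 lc_d_rc_25_6 lc_d_rc_23_8 lc_d_rc_3_3 lc_d_rc_8_1 lc_d_rc_15_1 lc_d_rc_22_2 lc_d_rc_17_2 lc_d_Cert_tree lc_d_rc_27_4 lc_d_rc_15_1 lc_d_rc_22_4 lc_d_Cert_tree lc_d_rc_15_1 lc_d_Cert_tree lc_d_Cert_tree lc_d_Cert_tree lc_d_rc_27_4 lc_d_rc_25_6 lc_d_rc_23_8 lc_d_rc_3_3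 lc_d_rc_22_8 lc_d_rc_27_10 lc_d_rc_16_4 lc_d_rc_15_1 lc_d_rc_22_2 lc_d_Cert_tree lc_d_rc_15_1 lc_d_rc_24_0 lc_d_rc_15_1 lc_d_rc_27_2 lc_d_Cert_tree lc_d_rc_16_4) (@D3.rec (fun _ => (Cert rels S Gen.d)) lc_d_rc_15_1 lc_d_rc_24_0 lc_d_Cert_tree lc_d_rc_15_1 lc_d_Cert_tree lc_d_rc_27_10 lc_d_rc_27_10 lc_d_rc_17_2 lc_d_rc_25_6 lc_d_rc_15_1 lc_d_rc_3_3 lc_d_rc_24_5 lc_d_rc_22_8 lc_d_rc_27_4 lc_d_rc_8_3 lc_d_rc_15_1 lc_d_rc_8_3 lc_d_rc_3_1 lc_d_Cert_tree lc_d_rc_25_18 lc_d_rc_8_3 lc_d_rc_17_2 lc_d_Cert_tree lc_d_Cert_tree lc_d_rc_8_3 lc_d_rc_15_1 lc_d_Cert_tree lc_d_rc_23_8 lc_d_Cert_tree lc_d_rc_15_1 lc_d_rc_27_8 lc_d_Cert_tree lc_d_rc_23_4 lc_d_rc_15_1 lc_d_rc_27_4 lc_d_rc_15_1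 lc_d_rc_15_1 lc_d_Cert_tree lc_d_rc_16_4 lc_d_rc_22_4 lc_d_rc_16_2 lc_d_rc_24_0 lc_d_rc_15_1 lc_d_Cert_tree lc_d_rc_8_3 lc_d_Cert_tree lc_d_rc_16_4 lc_d_Cert_tree lc_d_rc_23_2 lc_d_Cert_tree lc_d_rc_15_1 lc_d_Cert_tree lc_d_Cert_tree lc_d_Cert_tree lc_d_rc_17_2 lc_d_rc_24_0 lc_d_rc_27_10 lc_d_rc_23_2 lc_d_rc_27_10 lc_d_rc_3_1 lc_d_Cert_tree lc_d_rc_8_3) (@D3.rec (fun _ => (Cert rels S Gen.d)) lc_d_rc_15_1 lc_d_rc_27_4 lc_d_rc_8_3 lc_d_rc_16_4 lc_d_rc_24_0 lc_d_rc_22_2 lc_d_rc_23_2 lc_d_rc_27_10 lc_d_rc_27_4 lc_d_rc_15_1 lc_d_rc_16_4 lc_d_rc_8_3 lc_d_Cert_tree lc_d_Cert_tree lc_d_rc_15_1 lc_d_rc_15_1 lc_d_rc_17_2 lc_d_rc_8_3 lc_d_Cert_tree lc_d_Cert_tree lc_d_rc_15_1 lc_d_rc_15_1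 lc_d_Cert_tree lc_d_rc_16_4 lc_d_Cert_tree lc_d_rc_16_2 lc_d_rc_3_3 lc_d_rc_15_1 lc_d_Cert_tree lc_d_rc_16_4 lc_d_rc_8_3 lc_d_Cert_tree lc_d_rc_16_4 lc_d_Cert_tree lc_d_Cert_tree lc_d_Cert_tree lc_d_rc_15_1 lc_d_Cert_tree lc_d_rc_27_10 lc_d_rc_15_1 lc_d_rc_17_2 lc_d_rc_15_1 lc_d_rc_15_1 lc_d_rc_24_5 lc_d_Cert_tree lc_d_rc_8_3 lc_d_rc_15_1 lc_d_rc_15_1 lc_d_rc_17_2 lc_d_rc_8_3 lc_d_rc_8_3 lc_d_rc_27_8 lc_d_rc_24_0 lc_d_rc_3_3 lc_d_rc_12_3 lc_d_rc_16_4 lc_d_rc_23_4 lc_d_rc_8_1 lc_d_rc_23_6 lc_d_Cert_tree lc_d_Cert_tree lc_d_rc_15_1) (@D3.rec (fun _ => (Cert rels S Gen.d)) lc_d_rc_22_6 lc_d_rc_16_4 lc_d_rc_15_1 lc_d_rc_16_2 lc_d_Cert_tree lc_d_rc_15_1 lc_d_rc_15_1 lc_d_Cert_tree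 lc_d_rc_15_1 lc_d_rc_3_3 lc_d_Cert_tree lc_d_Cert_tree lc_d_Cert_tree lc_d_rc_15_1 lc_d_rc_17_2 lc_d_rc_23_4 lc_d_rc_22_6 lc_d_rc_16_4 lc_d_rc_17_2 lc_d_rc_22_8 lc_d_rc_15_1 lc_d_Cert_tree lc_d_rc_17_2 lc_d_Cert_tree lc_d_rc_16_2 lc_d_rc_23_6 lc_d_Cert_tree lc_d_rc_15_1 lc_d_rc_22_4 lc_d_rc_16_4 lc_d_rc_12_9 lc_d_rc_16_2 lc_d_rc_15_1 lc_d_rc_15_1 lc_d_rc_22_8 lc_d_Cert_tree lc_d_rc_15_1 lc_d_Cert_tree lc_d_Cert_tree lc_d_rc_15_1 lc_d_rc_17_2 lc_d_rc_15_1 lc_d_rc_15_1 lc_d_rc_22_6 lc_d_rc_16_4 lc_d_rc_17_2 lc_d_rc_3_1 lc_d_rc_16_4 lc_d_rc_16_4 lc_d_Cert_tree lc_d_rc_15_1 lc_d_rc_22_4 lc_d_rc_16_4 lc_d_Cert_tree lc_d_rc_17_2 lc_d_rc_15_1 lc_d_Cert_tree lc_d_rc_27_4 lc_d_Cert_tree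 lc_d_rc_15_1 lc_d_rc_22_6 lc_d_rc_16_4) (@D3.rec (fun _ => (Cert rels S Gen.d)) lc_d_Cert_tree lc_d_rc_17_2 lc_d_rc_3_1 lc_d_rc_12_1 lc_d_rc_15_1 lc_d_rc_15_1 lc_d_Cert_tree lc_d_Cert_tree lc_d_rc_15_1 lc_d_rc_15_1 lc_d_rc_27_4 lc_d_Cert_tree lc_d_rc_27_4 lc_d_Cert_tree lc_d_Cert_tree lc_d_rc_15_1 lc_d_rc_15_1 lc_d_rc_16_4 lc_d_Cert_tree lc_d_Cert_tree lc_d_rc_27_10 lc_d_rc_15_1 lc_d_rc_8_3 lc_d_Cert_tree lc_d_rc_16_4 lc_d_Cert_tree lc_d_rc_15_1 lc_d_rc_22_2 lc_d_rc_16_4 lc_d_rc_23_4 lc_d_rc_16_2 lc_d_Cert_tree lc_d_Cert_tree lc_d_rc_15_1 lc_d_Cert_tree lc_d_Cert_tree lc_d_Cert_tree lc_d_rc_17_2 lc_d_rc_15_1 lc_d_Cert_tree lc_d_rc_16_2 lc_d_Cert_tree lc_d_rc_15_1 lc_d_Cert_tree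 lc_d_Cert_tree lc_d_rc_15_1 lc_d_rc_17_2 lc_d_Cert_tree lc_d_rc_15_1 lc_d_Cert_tree lc_d_Cert_tree lc_d_Cert_tree lc_d_rc_15_1 lc_d_rc_17_2 lc_d_Cert_tree lc_d_rc_8_1 lc_d_Cert_tree lc_d_rc_15_1 lc_d_Cert_tree lc_d_Cert_tree lc_d_Cert_tree lc_d_rc_17_2) (@D3.rec (fun _ => (Cert rels S Gen.d)) lc_d_Cert_tree lc_d_rc_15_1 lc_d_Cert_tree lc_d_Cert_tree lc_d_rc_15_1 lc_d_Cert_tree lc_d_Cert_tree lc_d_Cert_tree lc_d_Cert_tree lc_d_rc_15_1 lc_d_rc_8_3 lc_d_rc_12_9 lc_d_rc_23_6 lc_d_rc_16_4 lc_d_Cert_tree lc_d_Cert_tree lc_d_Cert_tree lc_d_rc_16_4 lc_d_rc_15_1 lc_d_rc_16_2 lc_d_rc_24_0 lc_d_rc_17_2 lc_d_rc_8_3 lc_d_Cert_tree lc_d_Cert_tree lc_d_rc_17_2 lc_d_Cert_tree lc_d_rc_15_1 lc_d_rc_15_1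 lc_d_rc_23_8 lc_d_rc_24_0 lc_d_Cert_tree lc_d_rc_15_1 lc_d_Cert_tree lc_d_Cert_tree lc_d_rc_27_10 lc_d_rc_24_0 lc_d_rc_15_1 lc_d_rc_27_2 lc_d_rc_15_1 lc_d_Cert_tree lc_d_rc_16_2 lc_d_rc_8_3 lc_d_Cert_tree lc_d_rc_15_1 lc_d_rc_17_2 lc_d_Cert_tree lc_d_Cert_tree lc_d_Cert_tree lc_d_rc_15_1 lc_d_rc_15_1 lc_d_rc_24_0 lc_d_rc_22_6 lc_d_Cert_tree lc_d_rc_15_1 lc_d_Cert_tree lc_d_rc_23_8 lc_d_rc_15_1 lc_d_Cert_tree lc_d_Cert_tree lc_d_rc_15_1 lc_d_rc_12_15) (@D3.rec (fun _ => (Cert rels S Gen.d)) lc_d_Cert_tree lc_d_Cert_tree lc_d_rc_8_1 lc_d_rc_15_1 lc_d_rc_15_1 lc_d_rc_16_2 lc_d_rc_17_2 lc_d_rc_24_5 lc_d_rc_23_8 lc_d_Cert_tree lc_d_rc_15_1 lc_d_rc_12_15 lc_d_Cert_tree lc_d_Cert_tree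 lc_d_rc_15_1 lc_d_rc_16_2 lc_d_Cert_tree lc_d_rc_8_3 lc_d_Cert_tree lc_d_Cert_tree lc_d_rc_15_1 lc_d_Cert_tree lc_d_rc_17_2 lc_d_Cert_tree lc_d_Cert_tree lc_d_rc_15_1 lc_d_rc_27_8 lc_d_rc_15_1 lc_d_rc_24_0 lc_d_rc_23_6 lc_d_Cert_tree lc_d_rc_16_4 lc_d_rc_17_2 lc_d_Cert_tree lc_d_rc_15_1 lc_d_Cert_tree lc_d_rc_8_3 lc_d_rc_16_4 lc_d_rc_8_3 lc_d_Cert_tree lc_d_Cert_tree lc_d_Cert_tree lc_d_rc_17_2 lc_d_Cert_tree lc_d_rc_15_1 lc_d_rc_25_6 lc_d_rc_15_1 lc_d_Cert_tree lc_d_rc_15_1 lc_d_Cert_tree lc_d_Cert_tree lc_d_rc_15_1 lc_d_rc_15_1 lc_d_rc_16_4 lc_d_rc_15_1 lc_d_rc_16_4 lc_d_rc_8_3 lc_d_Cert_tree lc_d_rc_15_1 lc_d_rc_15_1 lc_d_rc_15_1 lc_d_Cert_tree) (@D3.rec (fun _ => (Cert rels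 S Gen.d)) lc_d_rc_16_2 lc_d_rc_8_3 lc_d_rc_24_0 lc_d_rc_8_3 lc_d_Cert_tree lc_d_Cert_tree lc_d_rc_15_1 lc_d_rc_17_2 lc_d_rc_8_3 lc_d_Cert_tree lc_d_rc_27_4 lc_d_Cert_tree lc_d_rc_15_1 lc_d_Cert_tree lc_d_rc_3_1 lc_d_rc_15_1 lc_d_Cert_tree lc_d_rc_15_1 lc_d_Cert_tree lc_d_rc_8_3 lc_d_rc_8_3 lc_d_rc_15_1 lc_d_Cert_tree lc_d_rc_15_1 lc_d_Cert_tree lc_d_Cert_tree lc_d_rc_15_1 lc_d_rc_17_2 lc_d_rc_15_1 lc_d_rc_15_1 lc_d_rc_22_8 lc_d_rc_17_2 lc_d_rc_15_1 lc_d_rc_15_1 lc_d_Cert_tree lc_d_rc_15_1 lc_d_Cert_tree lc_d_rc_16_4 lc_d_Cert_tree lc_d_Cert_tree lc_d_rc_17_2 lc_d_rc_15_1 lc_d_rc_24_5 lc_d_Cert_tree lc_d_rc_15_1 lc_d_Cert_tree lc_d_rc_8_3 lc_d_rc_23_6 lc_d_rc_15_1 lc_d_Cert_tree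 lc_d_Cert_tree lc_d_Cert_tree lc_d_rc_15_1 lc_d_rc_17_2 lc_d_Cert_tree lc_d_Cert_tree lc_d_rc_15_1 lc_d_rc_17_2 lc_d_rc_15_1 lc_d_Cert_tree lc_d_rc_15_1 lc_d_rc_24_0) (@D3.rec (fun _ => (Cert rels S Gen.d)) lc_d_rc_15_1 lc_d_Cert_tree lc_d_rc_17_2 lc_d_Cert_tree lc_d_rc_15_1 lc_d_Cert_tree lc_d_rc_15_1 lc_d_Cert_tree lc_d_Cert_tree lc_d_rc_15_1 lc_d_rc_17_2 lc_d_rc_22_6 lc_d_rc_17_2 lc_d_Cert_tree lc_d_Cert_tree lc_d_rc_15_1 lc_d_Cert_tree lc_d_Cert_tree lc_d_rc_15_1 lc_d_Cert_tree lc_d_rc_15_1 lc_d_rc_27_2 lc_d_rc_15_1 lc_d_rc_23_8 lc_d_Cert_tree lc_d_Cert_tree lc_d_Cert_tree lc_d_Cert_tree lc_d_rc_15_1 lc_d_rc_17_2 lc_d_Cert_tree lc_d_Cert_tree lc_d_rc_15_1 lc_d_rc_17_2 lc_d_rc_15_1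 lc_d_rc_15_1 lc_d_Cert_tree lc_d_rc_17_2 lc_d_rc_15_1 lc_d_Cert_tree lc_d_rc_24_5 lc_d_rc_15_1 lc_d_Cert_tree lc_d_Cert_tree lc_d_rc_15_1 lc_d_Cert_tree lc_d_rc_23_2 lc_d_rc_24_0 lc_d_rc_15_1 lc_d_Cert_tree lc_d_rc_23_4 lc_d_rc_23_6 lc_d_rc_12_1 lc_d_Cert_tree lc_d_rc_17_2 lc_d_Cert_tree lc_d_rc_15_1 lc_d_rc_17_2 lc_d_Cert_tree lc_d_rc_15_1 lc_d_Cert_tree lc_d_rc_15_1) (@D3.rec (fun _ => (Cert rels S Gen.d)) lc_d_Cert_tree lc_d_Cert_tree lc_d_Cert_tree lc_d_Cert_tree lc_d_rc_15_1 lc_d_rc_17_2 lc_d_rc_23_8 lc_d_rc_15_1 lc_d_rc_22_4 lc_d_rc_16_4 lc_d_rc_8_3 lc_d_rc_8_3 lc_d_Cert_tree lc_d_rc_23_2 lc_d_Cert_tree lc_d_rc_15_1 lc_d_rc_3_3 lc_d_rc_23_2 lc_d_Cert_tree lc_d_rc_15_1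 lc_d_Cert_tree lc_d_rc_15_1 lc_d_Cert_tree lc_d_Cert_tree lc_d_rc_17_2 lc_d_Cert_tree lc_d_Cert_tree lc_d_rc_15_1 lc_d_rc_3_3 lc_d_Cert_tree lc_d_Cert_tree lc_d_Cert_tree lc_d_Cert_tree lc_d_rc_15_1 lc_d_rc_17_2 lc_d_rc_22_2 lc_d_rc_15_1 lc_d_rc_12_3 lc_d_Cert_tree lc_d_Cert_tree lc_d_Cert_tree lc_d_rc_15_1 lc_d_rc_17_2 lc_d_Cert_tree lc_d_Cert_tree lc_d_rc_15_1 lc_d_rc_27_4 lc_d_Cert_tree lc_d_Cert_tree lc_d_rc_15_1 lc_d_Cert_tree lc_d_Cert_tree lc_d_Cert_tree lc_d_Cert_tree lc_d_rc_15_1 lc_d_rc_15_1 lc_d_Cert_tree lc_d_rc_15_1 lc_d_rc_27_4 lc_d_rc_23_6 lc_d_rc_15_1 lc_d_Cert_tree) (@D3.rec (fun _ => (Cert rels S Gen.d)) lc_d_Cert_tree lc_d_rc_15_1 lc_d_rc_27_10 lc_d_rc_15_1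 lc_d_Cert_tree lc_d_rc_15_1 lc_d_rc_27_2 lc_d_rc_15_1 lc_d_rc_15_1 lc_d_rc_15_1 lc_d_Cert_tree lc_d_rc_17_2 lc_d_Cert_tree lc_d_rc_16_2 lc_d_Cert_tree lc_d_rc_27_4 lc_d_Cert_tree lc_d_Cert_tree lc_d_Cert_tree lc_d_rc_15_1 lc_d_rc_22_4 lc_d_rc_16_4 lc_d_rc_23_2 lc_d_rc_16_2 lc_d_Cert_tree lc_d_rc_16_4 lc_d_Cert_tree lc_d_Cert_tree lc_d_Cert_tree lc_d_rc_15_1 lc_d_rc_17_2 lc_d_rc_16_4 lc_d_rc_22_4 lc_d_rc_16_2 lc_d_Cert_tree lc_d_rc_16_4 lc_d_Cert_tree lc_d_Cert_tree lc_d_Cert_tree lc_d_rc_15_1 lc_d_rc_22_4 lc_d_rc_16_4 lc_d_rc_22_4 lc_d_rc_16_2 lc_d_rc_27_8 lc_d_rc_27_2 lc_d_Cert_tree lc_d_rc_16_4 lc_d_Cert_tree lc_d_rc_8_3 lc_d_Cert_tree lc_d_Cert_tree lc_d_Cert_tree lc_d_rc_15_1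 lc_d_Cert_tree lc_d_rc_27_4 lc_d_rc_23_2 lc_d_rc_15_1 lc_d_rc_17_2 lc_d_Cert_tree lc_d_Cert_tree lc_d_rc_15_1) (@D3.rec (fun _ => (Cert rels S Gen.d)) lc_d_Cert_tree lc_d_rc_15_1 lc_d_rc_15_1 lc_d_rc_17_2 lc_d_rc_23_6 lc_d_Cert_tree lc_d_rc_15_1 lc_d_rc_27_4 lc_d_Cert_tree lc_d_rc_15_1 lc_d_Cert_tree lc_d_Cert_tree lc_d_Cert_tree lc_d_rc_15_1 lc_d_rc_15_1 lc_d_Cert_tree lc_d_rc_15_1 lc_d_Cert_tree lc_d_rc_16_4 lc_d_rc_27_10 lc_d_rc_15_1 lc_d_rc_23_6 lc_d_rc_22_6 lc_d_rc_15_1 lc_d_rc_15_1 lc_d_rc_22_8 lc_d_Cert_tree lc_d_rc_8_3 lc_d_rc_15_1 lc_d_Cert_tree lc_d_Cert_tree lc_d_Cert_tree lc_d_Cert_tree lc_d_rc_15_1 lc_d_rc_17_2 lc_d_rc_23_6 lc_d_rc_23_6 lc_d_rc_15_1 lc_d_rc_16_4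 lc_d_rc_17_2 lc_d_Cert_tree lc_d_Cert_tree lc_d_Cert_tree lc_d_Cert_tree lc_d_rc_16_4 lc_d_Cert_tree lc_d_rc_27_2 lc_d_rc_23_2 lc_d_rc_23_4 lc_d_Cert_tree lc_d_rc_15_1 lc_d_Cert_tree lc_d_rc_27_10 lc_d_rc_15_1 lc_d_rc_17_2 lc_d_rc_8_3 lc_d_Cert_tree lc_d_rc_23_8 lc_d_rc_8_3 lc_d_Cert_tree lc_d_rc_15_1 lc_d_rc_24_0) (@D3.rec (fun _ => (Cert rels S Gen.d)) lc_d_rc_27_8 lc_d_rc_15_1 lc_d_Cert_tree lc_d_rc_16_4 lc_d_rc_8_1 lc_d_Cert_tree lc_d_rc_15_1 lc_d_rc_23_4 lc_d_rc_15_1 lc_d_Cert_tree lc_d_rc_15_1 lc_d_rc_27_4 lc_d_rc_27_10 lc_d_rc_16_0 lc_d_rc_16_0 lc_d_rc_8_3 lc_d_rc_24_0 lc_d_Cert_tree lc_d_rc_15_1 lc_d_Cert_tree lc_d_rc_27_8 lc_d_rc_15_1 lc_d_Cert_tree lc_d_rc_16_4 lc_d_rc_15_1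 lc_d_rc_23_2 lc_d_Cert_tree lc_d_rc_15_1 lc_d_Cert_tree lc_d_Cert_tree lc_d_Cert_tree lc_d_rc_15_1 lc_d_rc_8_3 lc_d_rc_23_8 lc_d_rc_8_3 lc_d_Cert_tree lc_d_rc_15_1 lc_d_Cert_tree lc_d_rc_27_2 lc_d_rc_16_0 lc_d_rc_24_0 lc_d_rc_15_1 lc_d_rc_17_2 lc_d_Cert_tree lc_d_rc_15_1 lc_d_rc_27_4 lc_d_rc_15_1 lc_d_rc_27_2 lc_d_rc_24_0 lc_d_rc_16_4 lc_d_Cert_tree lc_d_rc_15_1 lc_d_Cert_tree lc_d_rc_15_1 lc_d_rc_27_10 lc_d_rc_17_2 lc_d_rc_15_1 lc_d_rc_8_3 lc_d_Cert_tree lc_d_rc_15_1 lc_d_rc_16_4 lc_d_rc_27_4) (@D3.rec (fun _ => (Cert rels S Gen.d)) lc_d_rc_27_2 lc_d_rc_27_4 lc_d_rc_8_3 lc_d_rc_27_10 lc_d_Cert_tree lc_d_Cert_tree lc_d_Cert_tree lc_d_rc_15_1 lc_d_Cert_tree lc_d_rc_27_2 lc_d_rc_15_1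 lc_d_rc_17_2 lc_d_Cert_tree lc_d_Cert_tree lc_d_Cert_tree lc_d_Cert_tree lc_d_rc_15_1 lc_d_rc_27_2 lc_d_rc_23_4 lc_d_rc_3_3 lc_d_Cert_tree lc_d_Cert_tree lc_d_Cert_tree lc_d_rc_15_1 lc_d_Cert_tree lc_d_rc_17_2 lc_d_Cert_tree lc_d_Cert_tree lc_d_rc_15_1 lc_d_rc_27_8 lc_d_rc_15_1 lc_d_rc_24_0 lc_d_rc_8_3 lc_d_Cert_tree lc_d_rc_16_4 lc_d_Cert_tree lc_d_rc_15_1 lc_d_rc_15_1 lc_d_Cert_tree lc_d_rc_15_1 lc_d_rc_24_0 lc_d_rc_22_2 lc_d_rc_27_2 lc_d_rc_27_10 lc_d_rc_15_1 lc_d_Cert_tree lc_d_rc_27_10 lc_d_rc_15_1 lc_d_rc_27_4 lc_d_Cert_tree lc_d_rc_27_8 lc_d_rc_15_1 lc_d_rc_8_1 lc_d_rc_8_3 lc_d_rc_8_3 lc_d_rc_24_0 lc_d_rc_8_3 lc_d_rc_15_1 lc_d_rc_16_4 lc_d_rc_15_1 lc_d_rc_8_3 lc_d_rc_16_4)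 (@D3.rec (fun _ => (Cert rels S Gen.d)) lc_d_rc_23_8 lc_d_rc_15_1 lc_d_rc_27_10 lc_d_rc_23_8 lc_d_rc_23_8 lc_d_rc_17_0 lc_d_rc_8_3 lc_d_rc_8_3 lc_d_rc_22_6 lc_d_rc_16_4 lc_d_Cert_tree lc_d_Cert_tree lc_d_rc_16_2 lc_d_rc_15_1 lc_d_rc_16_4 lc_d_rc_15_1 lc_d_Cert_tree lc_d_rc_16_4 lc_d_Cert_tree lc_d_rc_8_3 lc_d_rc_8_3 lc_d_Cert_tree lc_d_rc_16_4 lc_d_Cert_tree lc_d_Cert_tree lc_d_Cert_tree lc_d_rc_15_1 lc_d_Cert_tree lc_d_rc_27_10 lc_d_rc_15_1 lc_d_rc_17_2 lc_d_rc_24_0 lc_d_rc_23_8 lc_d_rc_15_1 lc_d_Cert_tree lc_d_rc_15_1 lc_d_rc_17_2 lc_d_rc_8_3 lc_d_rc_27_4 lc_d_rc_8_3 lc_d_rc_24_5 lc_d_rc_24_5 lc_d_Cert_tree lc_d_rc_15_1 lc_d_rc_8_3 lc_d_rc_8_3 lc_d_rc_23_2 lc_d_rc_24_5 lc_d_Cert_tree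 lc_d_rc_22_6 lc_d_rc_16_4 lc_d_Cert_tree lc_d_Cert_tree lc_d_rc_17_2 lc_d_rc_15_1 lc_d_rc_15_1 lc_d_rc_24_5 lc_d_rc_24_5 lc_d_Cert_tree lc_d_rc_15_1 lc_d_rc_3_1 lc_d_Cert_tree) (@D3.rec (fun _ => (Cert rels S Gen.d)) lc_d_Cert_tree lc_d_rc_25_6 lc_d_rc_15_1 lc_d_rc_23_6 lc_d_rc_17_2 lc_d_rc_15_1 lc_d_rc_17_2 lc_d_rc_8_3 lc_d_Cert_tree lc_d_rc_15_1 lc_d_Cert_tree lc_d_rc_15_1 lc_d_rc_15_1 lc_d_rc_3_1 lc_d_Cert_tree lc_d_Cert_tree lc_d_rc_15_1 lc_d_Cert_tree lc_d_Cert_tree lc_d_rc_15_1 lc_d_rc_17_2 lc_d_rc_23_4 lc_d_Cert_tree lc_d_rc_15_1 lc_d_Cert_tree lc_d_Cert_tree lc_d_rc_15_1 lc_d_Cert_tree lc_d_Cert_tree lc_d_rc_15_1 lc_d_rc_15_1 lc_d_Cert_tree lc_d_Cert_tree lc_d_rc_15_1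 lc_d_rc_8_3 lc_d_rc_24_0 lc_d_rc_15_1 lc_d_Cert_tree lc_d_Cert_tree lc_d_rc_23_8 lc_d_rc_23_8 lc_d_rc_15_1 lc_d_rc_15_1 lc_d_rc_15_1 lc_d_rc_24_0 lc_d_rc_15_1 lc_d_rc_17_2 lc_d_rc_22_4 lc_d_rc_15_1 lc_d_Cert_tree lc_d_Cert_tree lc_d_rc_15_1 lc_d_rc_27_2 lc_d_Cert_tree lc_d_Cert_tree lc_d_Cert_tree lc_d_rc_15_1 lc_d_rc_17_2 lc_d_Cert_tree lc_d_rc_16_4 lc_d_rc_17_2 lc_d_rc_12_15) (@D3.rec (fun _ => (Cert rels S Gen.d)) lc_d_rc_15_1 lc_d_rc_8_3 lc_d_rc_3_3 lc_d_Cert_tree lc_d_Cert_tree lc_d_rc_15_1 lc_d_rc_8_3 lc_d_rc_15_1 lc_d_rc_24_5 lc_d_rc_16_4 lc_d_rc_23_6 lc_d_Cert_tree lc_d_rc_27_2 lc_d_Cert_tree lc_d_rc_22_6 lc_d_Cert_tree lc_d_Cert_tree lc_d_Cert_tree lc_d_rc_15_1 lc_d_Cert_tree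 lc_d_rc_24_5 lc_d_Cert_tree lc_d_Cert_tree lc_d_rc_17_2 lc_d_Cert_tree lc_d_rc_15_1 lc_d_rc_12_1 lc_d_Cert_tree lc_d_rc_8_3 lc_d_Cert_tree lc_d_Cert_tree lc_d_rc_27_8 lc_d_rc_15_1 lc_d_Cert_tree lc_d_rc_16_4 lc_d_rc_16_2 lc_d_rc_8_3 lc_d_rc_23_6 lc_d_rc_3_3 lc_d_Cert_tree lc_d_Cert_tree lc_d_rc_16_0 lc_d_rc_15_1 lc_d_rc_27_2 lc_d_Cert_tree lc_d_Cert_tree lc_d_rc_15_1 lc_d_rc_8_3 lc_d_Cert_tree lc_d_rc_16_0 lc_d_rc_15_1 lc_d_Cert_tree lc_d_rc_16_4 lc_d_Cert_tree lc_d_Cert_tree lc_d_rc_15_1 lc_d_rc_12_13 lc_d_rc_16_4 lc_d_rc_24_5 lc_d_rc_24_5 lc_d_rc_16_4 lc_d_rc_22_4) (@D3.rec (fun _ => (Cert rels S Gen.d)) lc_d_Cert_tree lc_d_rc_22_4 lc_d_rc_3_3 lc_d_rc_15_1 lc_d_rc_17_2 lc_d_rc_22_6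 lc_d_rc_23_4 lc_d_rc_17_2 lc_d_rc_8_3 lc_d_rc_16_4 lc_d_rc_8_3 lc_d_rc_22_6 lc_d_rc_22_6 lc_d_rc_8_3 lc_d_rc_15_1 lc_d_rc_23_8 lc_d_rc_15_1 lc_d_rc_27_4 lc_d_rc_16_2 lc_d_rc_8_1 lc_d_rc_15_1 lc_d_rc_15_1 lc_d_Cert_tree lc_d_rc_23_4 lc_d_rc_3_1 lc_d_rc_22_6 lc_d_rc_16_4 lc_d_rc_24_5 lc_d_rc_15_1 lc_d_rc_24_5 lc_d_rc_25_18 lc_d_rc_15_1 lc_d_Cert_tree lc_d_Cert_tree lc_d_rc_15_1 lc_d_rc_8_1 lc_d_rc_16_2 lc_d_rc_23_6 lc_d_rc_27_4 lc_d_rc_17_2 lc_d_rc_8_1 lc_d_rc_15_1 lc_d_rc_16_4 lc_d_rc_16_4 lc_d_rc_8_3 lc_d_rc_17_2 lc_d_rc_17_2 lc_d_Cert_tree lc_d_rc_15_1 lc_d_rc_22_4 lc_d_Cert_tree lc_d_rc_15_1 lc_d_rc_22_8 lc_d_Cert_tree lc_d_Cert_tree lc_d_Cert_tree lc_d_rc_15_1 lc_d_rc_17_2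 lc_d_Cert_tree lc_d_rc_15_1 lc_d_rc_8_3 lc_d_rc_15_1) (@D3.rec (fun _ => (Cert rels S Gen.d)) lc_d_Cert_tree lc_d_rc_17_2 lc_d_rc_23_4 lc_d_rc_17_2 lc_d_Cert_tree lc_d_Cert_tree lc_d_rc_15_1 lc_d_rc_15_1 lc_d_rc_16_4 lc_d_rc_8_3 lc_d_rc_16_4 lc_d_Cert_tree lc_d_rc_15_1 lc_d_rc_15_1 lc_d_rc_16_4 lc_d_rc_15_1 lc_d_rc_8_3 lc_d_rc_25_14 lc_d_rc_15_1 lc_d_Cert_tree lc_d_rc_16_4 lc_d_rc_22_4 lc_d_Cert_tree lc_d_Cert_tree lc_d_rc_15_1 lc_d_rc_17_2 lc_d_rc_23_8 lc_d_rc_15_1 lc_d_Cert_tree lc_d_Cert_tree lc_d_Cert_tree lc_d_rc_15_1 lc_d_rc_17_2 lc_d_Cert_tree lc_d_rc_15_1 lc_d_Cert_tree lc_d_rc_15_1 lc_d_rc_8_3 lc_d_rc_15_1 lc_d_Cert_tree lc_d_rc_17_2 lc_d_rc_27_4 lc_d_rc_8_3 lc_d_rc_27_8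 lc_d_rc_15_1 lc_d_rc_17_2 lc_d_rc_15_1 lc_d_rc_15_1 lc_d_rc_15_1 lc_d_rc_8_3 lc_d_rc_16_4 lc_d_rc_8_3 lc_d_rc_15_1 lc_d_rc_16_4 lc_d_rc_15_1 lc_d_Cert_tree lc_d_rc_12_11 lc_d_rc_8_3 lc_d_Cert_tree lc_d_rc_15_1 lc_d_rc_15_1 lc_d_Cert_tree) (@D3.rec (fun _ => (Cert rels S Gen.d)) lc_d_Cert_tree lc_d_Cert_tree lc_d_Cert_tree lc_d_rc_15_1 lc_d_rc_17_2 lc_d_rc_15_1 lc_d_rc_23_2 lc_d_rc_15_1 lc_d_rc_15_1 lc_d_Cert_tree lc_d_Cert_tree lc_d_Cert_tree lc_d_rc_15_1 lc_d_rc_17_2 lc_d_rc_23_8 lc_d_rc_24_0 lc_d_rc_15_1 lc_d_Cert_tree lc_d_rc_15_1 lc_d_rc_17_0 lc_d_rc_15_1 lc_d_Cert_tree lc_d_rc_15_1 lc_d_Cert_tree lc_d_rc_15_1 lc_d_rc_24_0 lc_d_rc_15_1 lc_d_Cert_tree lc_d_rc_17_2 lc_d_rc_8_3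 lc_d_rc_27_8 lc_d_rc_8_3 lc_d_rc_27_8 lc_d_rc_15_1 lc_d_rc_17_2 lc_d_rc_8_3 lc_d_rc_16_4 lc_d_rc_15_1 lc_d_rc_15_1 lc_d_Cert_tree lc_d_rc_3_1 lc_d_rc_15_1 lc_d_rc_15_1 lc_d_Cert_tree lc_d_rc_15_1 lc_d_Cert_tree lc_d_rc_8_3 lc_d_rc_23_2 lc_d_rc_12_15 lc_d_rc_17_2 lc_d_rc_15_1 lc_d_rc_15_1 lc_d_Cert_tree lc_d_rc_15_1 lc_d_Cert_tree lc_d_rc_15_1 lc_d_Cert_tree lc_d_rc_17_2 lc_d_rc_24_0 lc_d_rc_8_3 lc_d_rc_3_3 lc_d_Cert_tree) (@D3.rec (fun _ => (Cert rels S Gen.d)) lc_d_rc_17_2 lc_d_Cert_tree lc_d_Cert_tree lc_d_rc_15_1 lc_d_rc_17_2 lc_d_Cert_tree lc_d_rc_15_1 lc_d_rc_16_2 lc_d_rc_15_1 lc_d_rc_23_8 lc_d_rc_15_1 lc_d_rc_15_1 lc_d_Cert_tree lc_d_rc_22_8 lc_d_rc_15_1 lc_d_rc_15_1 lc_d_rc_25_18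 lc_d_Cert_tree lc_d_rc_15_1 lc_d_rc_3_3 lc_d_Cert_tree lc_d_rc_17_2 lc_d_rc_15_1 lc_d_rc_22_6 lc_d_rc_16_4 lc_d_rc_15_1 lc_d_rc_23_2 lc_d_Cert_tree lc_d_Cert_tree lc_d_rc_15_1 lc_d_Cert_tree lc_d_rc_15_1 lc_d_Cert_tree lc_d_Cert_tree lc_d_rc_15_1 lc_d_rc_17_2 lc_d_rc_15_1 lc_d_rc_15_1 lc_d_rc_24_0 lc_d_rc_17_2 lc_d_rc_3_3 lc_d_rc_15_1 lc_d_Cert_tree lc_d_Cert_tree lc_d_Cert_tree lc_d_rc_17_2 lc_d_rc_23_6 lc_d_Cert_tree lc_d_rc_15_1 lc_d_rc_24_0 lc_d_Cert_tree lc_d_Cert_tree lc_d_Cert_tree lc_d_rc_15_1 lc_d_rc_17_2 lc_d_rc_3_3 lc_d_rc_15_1 lc_d_Cert_tree lc_d_Cert_tree lc_d_Cert_tree lc_d_rc_17_2 lc_d_Cert_tree) (@D3.rec (fun _ => (Cert rels S Gen.d)) lc_d_rc_15_1 lc_d_rc_15_1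 lc_d_Cert_tree lc_d_rc_24_5 lc_d_rc_24_5 lc_d_rc_15_1 lc_d_Cert_tree lc_d_rc_15_1 lc_d_rc_24_0 lc_d_rc_22_8 lc_d_Cert_tree lc_d_Cert_tree lc_d_Cert_tree lc_d_rc_15_1 lc_d_rc_17_2 lc_d_Cert_tree lc_d_Cert_tree lc_d_rc_15_1 lc_d_Cert_tree lc_d_Cert_tree lc_d_Cert_tree lc_d_rc_15_1 lc_d_rc_27_2 lc_d_Cert_tree lc_d_rc_15_1 lc_d_rc_15_1 lc_d_rc_15_1 lc_d_Cert_tree lc_d_rc_22_2 lc_d_Cert_tree lc_d_rc_23_2 lc_d_rc_8_3 lc_d_rc_15_1 lc_d_Cert_tree lc_d_rc_8_3 lc_d_Cert_tree lc_d_rc_15_1 lc_d_rc_17_2 lc_d_Cert_tree lc_d_rc_15_1 lc_d_rc_15_1 lc_d_rc_23_6 lc_d_rc_17_2 lc_d_Cert_tree lc_d_rc_8_3 lc_d_rc_23_2 lc_d_rc_23_8 lc_d_rc_15_1 lc_d_rc_8_3 lc_d_Cert_tree lc_d_Cert_tree lc_d_rc_15_1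 lc_d_rc_17_2 lc_d_rc_15_1 lc_d_Cert_tree lc_d_rc_15_1 lc_d_Cert_tree lc_d_rc_23_6 lc_d_rc_15_1 lc_d_rc_27_4 lc_d_rc_17_2 lc_d_rc_24_0) (@D3.rec (fun _ => (Cert rels S Gen.d)) lc_d_Cert_tree lc_d_Cert_tree lc_d_rc_15_1 lc_d_rc_15_1 lc_d_rc_15_1 lc_d_rc_15_1 lc_d_Cert_tree lc_d_rc_17_2 lc_d_rc_27_10 lc_d_Cert_tree lc_d_rc_15_1 lc_d_rc_15_1 lc_d_rc_16_4 lc_d_rc_15_1 lc_d_rc_15_1 lc_d_rc_16_4 lc_d_Cert_tree lc_d_rc_15_1 lc_d_rc_15_1 lc_d_Cert_tree lc_d_rc_8_1 lc_d_rc_23_4 lc_d_rc_16_4 lc_d_rc_8_3 lc_d_rc_12_9 lc_d_rc_16_4 lc_d_rc_12_9 lc_d_rc_23_4 lc_d_rc_8_3 lc_d_rc_15_1 lc_d_rc_15_1 lc_d_rc_15_1 lc_d_rc_15_1 lc_d_rc_15_1 lc_d_rc_15_1 lc_d_rc_17_0 lc_d_rc_15_1 lc_d_rc_16_4 lc_d_Cert_tree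 lc_d_Cert_tree lc_d_rc_17_2 lc_d_rc_23_8 lc_d_rc_27_2 lc_d_Cert_tree lc_d_rc_15_1 lc_d_rc_17_2 lc_d_Cert_tree lc_d_rc_15_1 lc_d_rc_8_3 lc_d_Cert_tree lc_d_rc_16_4 lc_d_rc_8_3 lc_d_Cert_tree lc_d_rc_27_10 lc_d_rc_17_2 lc_d_rc_16_4 lc_d_rc_15_1 lc_d_rc_15_1 lc_d_rc_24_5 lc_d_rc_8_3 lc_d_rc_15_1 lc_d_Cert_tree) (@D3.rec (fun _ => (Cert rels S Gen.d)) lc_d_Cert_tree lc_d_Cert_tree lc_d_rc_17_2 lc_d_Cert_tree lc_d_rc_15_1 lc_d_rc_27_2 lc_d_Cert_tree lc_d_rc_15_1 lc_d_rc_27_8 lc_d_rc_27_4 lc_d_rc_17_0 lc_d_Cert_tree lc_d_rc_15_1 lc_d_Cert_tree lc_d_Cert_tree lc_d_rc_15_1 lc_d_Cert_tree lc_d_Cert_tree lc_d_rc_15_1 lc_d_Cert_tree lc_d_rc_24_0 lc_d_rc_23_4 lc_d_rc_17_2 lc_d_rc_24_0 lc_d_rc_8_1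 lc_d_rc_15_1 lc_d_Cert_tree lc_d_rc_15_1 lc_d_Cert_tree lc_d_rc_15_1 lc_d_Cert_tree lc_d_rc_15_1 lc_d_rc_24_5 lc_d_rc_15_1 lc_d_Cert_tree lc_d_rc_24_0 lc_d_rc_15_1 lc_d_rc_15_1 lc_d_Cert_tree lc_d_rc_22_8 lc_d_Cert_tree lc_d_Cert_tree lc_d_Cert_tree lc_d_rc_15_1 lc_d_rc_17_2 lc_d_rc_27_10 lc_d_Cert_tree lc_d_rc_15_1 lc_d_Cert_tree lc_d_Cert_tree lc_d_Cert_tree lc_d_rc_27_2 lc_d_rc_24_5 lc_d_rc_15_1 lc_d_rc_17_2 lc_d_Cert_tree lc_d_rc_15_1 lc_d_Cert_tree lc_d_rc_15_1 lc_d_rc_27_8 lc_d_rc_23_6 lc_d_rc_22_6) (@D3.rec (fun _ => (Cert rels S Gen.d)) lc_d_rc_17_2 lc_d_rc_24_0 lc_d_Cert_tree lc_d_rc_15_1 lc_d_Cert_tree lc_d_rc_15_1 lc_d_rc_27_8 lc_d_rc_24_5 lc_d_rc_27_2 lc_d_rc_15_1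 lc_d_rc_17_2 lc_d_Cert_tree lc_d_Cert_tree lc_d_rc_23_4 lc_d_rc_15_1 lc_d_rc_27_8 lc_d_rc_15_1 lc_d_rc_27_2 lc_d_rc_3_3 lc_d_rc_24_5 lc_d_rc_15_1 lc_d_rc_15_1 lc_d_Cert_tree lc_d_rc_15_1 lc_d_rc_15_1 lc_d_rc_15_1 lc_d_rc_15_1 lc_d_rc_27_4 lc_d_rc_8_3 lc_d_rc_3_1 lc_d_rc_15_1 lc_d_rc_17_2 lc_d_rc_15_1 lc_d_rc_16_4 lc_d_rc_16_4 lc_d_rc_25_18 lc_d_rc_15_1 lc_d_rc_22_4 lc_d_rc_15_1 lc_d_rc_15_1 lc_d_Cert_tree lc_d_rc_15_1 lc_d_rc_24_0 lc_d_rc_16_4 lc_d_rc_23_2 lc_d_rc_23_4 lc_d_rc_22_8 lc_d_rc_3_3 lc_d_rc_3_3 lc_d_rc_16_2 lc_d_Cert_tree lc_d_Cert_tree lc_d_rc_15_1 lc_d_rc_15_1 lc_d_rc_22_2 lc_d_rc_27_2 lc_d_rc_27_4 lc_d_rc_16_4 lc_d_rc_22_2 lc_d_rc_22_8 lc_d_rc_16_4 lc_d_rc_17_2)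 (@D3.rec (fun _ => (Cert rels S Gen.d)) lc_d_rc_24_5 lc_d_rc_15_1 lc_d_rc_15_1 lc_d_rc_23_2 lc_d_rc_15_1 lc_d_rc_24_0 lc_d_Cert_tree lc_d_Cert_tree lc_d_rc_15_1 lc_d_rc_22_8 lc_d_rc_17_2 lc_d_Cert_tree lc_d_Cert_tree lc_d_rc_16_4 lc_d_rc_15_1 lc_d_rc_17_2 lc_d_rc_8_3 lc_d_rc_15_1 lc_d_Cert_tree lc_d_rc_16_4 lc_d_rc_8_3 lc_d_rc_27_4 lc_d_Cert_tree lc_d_rc_15_1 lc_d_rc_15_1 lc_d_rc_3_3 lc_d_rc_23_2 lc_d_rc_15_1 lc_d_Cert_tree lc_d_rc_16_4 lc_d_rc_8_3 lc_d_rc_24_5 lc_d_Cert_tree lc_d_rc_15_1 lc_d_rc_17_2 lc_d_Cert_tree lc_d_rc_15_1 lc_d_rc_15_1 lc_d_rc_16_2 lc_d_Cert_tree lc_d_Cert_tree lc_d_rc_15_1 lc_d_rc_17_2 lc_d_rc_15_1 lc_d_rc_15_1 lc_d_rc_17_2 lc_d_rc_23_2 lc_d_rc_23_2 lc_d_rc_15_1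 lc_d_Cert_tree lc_d_rc_15_1 lc_d_Cert_tree lc_d_rc_15_1 lc_d_Cert_tree lc_d_rc_24_5 lc_d_rc_15_1 lc_d_rc_27_4 lc_d_rc_15_1 lc_d_rc_27_4 lc_d_rc_16_4 lc_d_rc_8_3 lc_d_rc_16_4) (@D3.rec (fun _ => (Cert rels S Gen.d)) lc_d_rc_15_1 lc_d_rc_15_1 lc_d_rc_8_3 lc_d_Cert_tree lc_d_rc_15_1 lc_d_rc_3_3 lc_d_rc_22_6 lc_d_rc_16_2 lc_d_rc_23_4 lc_d_Cert_tree lc_d_rc_24_5 lc_d_rc_15_1 lc_d_rc_22_2 lc_d_Cert_tree lc_d_Cert_tree lc_d_Cert_tree lc_d_rc_15_1 lc_d_rc_17_2 lc_d_Cert_tree lc_d_Cert_tree lc_d_rc_15_1 lc_d_rc_15_1 lc_d_rc_24_0 lc_d_rc_16_4 lc_d_rc_8_3 lc_d_Cert_tree lc_d_rc_15_1 lc_d_rc_15_1 lc_d_rc_15_1 lc_d_rc_15_1 lc_d_Cert_tree lc_d_rc_15_1 lc_d_rc_27_4 lc_d_rc_15_1 lc_d_rc_8_3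 lc_d_rc_22_6 lc_d_Cert_tree lc_d_Cert_tree lc_d_rc_15_1 lc_d_rc_17_2 lc_d_rc_15_1 lc_d_rc_15_1 lc_d_rc_8_3 lc_d_rc_23_4 lc_d_rc_23_4 lc_d_rc_22_8 lc_d_rc_16_4 lc_d_rc_15_1 lc_d_rc_15_1 lc_d_rc_15_1 lc_d_rc_24_0 lc_d_rc_16_4 lc_d_rc_27_10 lc_d_rc_23_2 lc_d_rc_15_1 lc_d_rc_27_4 lc_d_rc_16_2 lc_d_rc_17_0 lc_d_Cert_tree lc_d_rc_15_1 lc_d_Cert_tree lc_d_Cert_tree) (@D3.rec (fun _ => (Cert rels S Gen.d)) lc_d_rc_15_1 lc_d_Cert_tree lc_d_Cert_tree lc_d_rc_8_3 lc_d_Cert_tree lc_d_rc_8_3 lc_d_Cert_tree lc_d_Cert_tree lc_d_Cert_tree lc_d_rc_27_4 lc_d_rc_8_3 lc_d_Cert_tree lc_d_Cert_tree lc_d_rc_15_1 lc_d_rc_8_3 lc_d_Cert_tree lc_d_Cert_tree lc_d_Cert_tree lc_d_Cert_tree lc_d_rc_15_1 lc_d_Cert_tree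 lc_d_rc_27_4 lc_d_Cert_tree lc_d_rc_27_4 lc_d_Cert_tree lc_d_rc_15_1 lc_d_Cert_tree lc_d_rc_16_4 lc_d_rc_8_3 lc_d_Cert_tree lc_d_rc_15_1 lc_d_Cert_tree lc_d_rc_8_3 lc_d_Cert_tree lc_d_rc_24_0 lc_d_Cert_tree lc_d_rc_15_1 lc_d_rc_16_4 lc_d_rc_8_3 lc_d_Cert_tree lc_d_Cert_tree lc_d_rc_15_1 lc_d_rc_23_8 lc_d_Cert_tree lc_d_rc_15_1 lc_d_Cert_tree lc_d_rc_25_6 lc_d_rc_22_6 lc_d_rc_22_2 lc_d_rc_15_1 lc_d_Cert_tree lc_d_rc_23_2 lc_d_rc_24_0 lc_d_Cert_tree lc_d_rc_15_1 lc_d_rc_8_3 lc_d_Cert_tree lc_d_Cert_tree lc_d_Cert_tree lc_d_rc_15_1 lc_d_rc_16_4 lc_d_rc_27_2) (@D3.rec (fun _ => (Cert rels S Gen.d)) lc_d_Cert_tree lc_d_rc_15_1 lc_d_rc_27_2 lc_d_Cert_tree lc_d_rc_15_1 lc_d_rc_27_10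 lc_d_rc_8_1 lc_d_rc_15_1 lc_d_Cert_tree lc_d_rc_15_1 lc_d_rc_8_1 lc_d_rc_15_1 lc_d_rc_23_2 lc_d_Cert_tree lc_d_rc_15_1 lc_d_Cert_tree lc_d_Cert_tree lc_d_Cert_tree lc_d_Cert_tree lc_d_rc_15_1 lc_d_Cert_tree lc_d_Cert_tree lc_d_Cert_tree lc_d_Cert_tree lc_d_rc_15_1 lc_d_rc_17_2 lc_d_Cert_tree lc_d_rc_16_2 lc_d_rc_24_5 lc_d_Cert_tree lc_d_Cert_tree lc_d_rc_24_5 lc_d_rc_15_1 lc_d_rc_16_4 lc_d_rc_8_3 lc_d_Cert_tree lc_d_rc_8_3 lc_d_Cert_tree lc_d_rc_25_18 lc_d_rc_22_2 lc_d_rc_22_2 lc_d_rc_15_1 lc_d_Cert_tree lc_d_rc_23_2 lc_d_rc_24_0 lc_d_rc_22_2 lc_d_Cert_tree lc_d_Cert_tree lc_d_rc_15_1 lc_d_rc_27_10 lc_d_Cert_tree lc_d_rc_15_1 lc_d_rc_27_4 lc_d_Cert_tree lc_d_rc_15_1 lc_d_Cert_tree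 lc_d_rc_17_0 lc_d_Cert_tree lc_d_rc_17_2 lc_d_Cert_tree lc_d_rc_15_1 lc_d_rc_3_1) (@D3.rec (fun _ => (Cert rels S Gen.d)) lc_d_rc_8_1 lc_d_Cert_tree lc_d_rc_15_1 lc_d_Cert_tree lc_d_rc_12_15 lc_d_Cert_tree lc_d_Cert_tree lc_d_rc_15_1 lc_d_rc_17_2 lc_d_Cert_tree lc_d_rc_15_1 lc_d_rc_8_3 lc_d_rc_15_1 lc_d_Cert_tree lc_d_rc_17_2 lc_d_Cert_tree lc_d_Cert_tree lc_d_Cert_tree lc_d_Cert_tree lc_d_rc_15_1 lc_d_Cert_tree lc_d_rc_16_2 lc_d_rc_15_1 lc_d_rc_17_2 lc_d_Cert_tree lc_d_Cert_tree lc_d_rc_22_2 lc_d_rc_24_0 lc_d_rc_15_1 lc_d_Cert_tree lc_d_Cert_tree lc_d_rc_15_1 lc_d_rc_17_2 lc_d_Cert_tree lc_d_rc_23_4 lc_d_rc_15_1 lc_d_Cert_tree lc_d_rc_24_5 lc_d_rc_15_1 lc_d_Cert_tree lc_d_rc_15_1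 lc_d_Cert_tree lc_d_rc_15_1 lc_d_rc_15_1 lc_d_rc_22_6 lc_d_Cert_tree lc_d_Cert_tree lc_d_Cert_tree lc_d_rc_15_1 lc_d_rc_17_2 lc_d_rc_8_3 lc_d_Cert_tree lc_d_rc_15_1 lc_d_rc_16_4 lc_d_rc_8_3 lc_d_Cert_tree lc_d_Cert_tree lc_d_Cert_tree lc_d_rc_15_1 lc_d_rc_17_2 lc_d_Cert_tree lc_d_Cert_tree) (@D3.rec (fun _ => (Cert rels S Gen.d)) lc_d_rc_8_3 lc_d_rc_15_1 lc_d_Cert_tree lc_d_Cert_tree lc_d_rc_15_1 lc_d_rc_15_1 lc_d_Cert_tree lc_d_rc_23_6 lc_d_rc_22_2 lc_d_Cert_tree lc_d_rc_17_2 lc_d_Cert_tree lc_d_Cert_tree lc_d_Cert_tree lc_d_rc_15_1 lc_d_Cert_tree lc_d_Cert_tree lc_d_Cert_tree lc_d_rc_15_1 lc_d_Cert_tree lc_d_Cert_tree lc_d_rc_15_1 lc_d_Cert_tree lc_d_rc_15_1 lc_d_Cert_tree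 lc_d_Cert_tree lc_d_rc_15_1 lc_d_Cert_tree lc_d_rc_17_0 lc_d_rc_15_1 lc_d_Cert_tree lc_d_rc_15_1 lc_d_Cert_tree lc_d_rc_15_1 lc_d_Cert_tree lc_d_rc_3_3 lc_d_rc_15_1 lc_d_Cert_tree lc_d_rc_3_3 lc_d_Cert_tree lc_d_Cert_tree lc_d_Cert_tree lc_d_rc_15_1 lc_d_rc_17_0 lc_d_Cert_tree lc_d_rc_15_1 lc_d_rc_15_1 lc_d_rc_15_1 lc_d_Cert_tree lc_d_Cert_tree lc_d_Cert_tree lc_d_Cert_tree lc_d_rc_15_1 lc_d_rc_17_2 lc_d_Cert_tree lc_d_rc_15_1 lc_d_rc_15_1 lc_d_Cert_tree lc_d_rc_15_1 lc_d_rc_8_3 lc_d_rc_15_1 lc_d_Cert_tree) (@D3.rec (fun _ => (Cert rels S Gen.d)) lc_d_rc_17_2 lc_d_Cert_tree lc_d_rc_15_1 lc_d_rc_24_0 lc_d_rc_15_1 lc_d_rc_22_2 lc_d_Cert_tree lc_d_rc_15_1 lc_d_rc_3_3 lc_d_Cert_tree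 lc_d_rc_15_1 lc_d_rc_17_2 lc_d_rc_22_4 lc_d_Cert_tree lc_d_rc_15_1 lc_d_rc_15_1 lc_d_Cert_tree lc_d_Cert_tree lc_d_Cert_tree lc_d_rc_15_1 lc_d_rc_17_2 lc_d_rc_27_2 lc_d_rc_15_1 lc_d_Cert_tree lc_d_rc_15_1 lc_d_rc_15_1 lc_d_rc_15_1 lc_d_Cert_tree lc_d_rc_17_2 lc_d_rc_15_1 lc_d_rc_16_0 lc_d_rc_15_1 lc_d_Cert_tree lc_d_rc_15_1 lc_d_rc_23_2 lc_d_rc_27_4 lc_d_rc_8_3 lc_d_rc_24_0 lc_d_Cert_tree lc_d_rc_15_1 lc_d_rc_17_2 lc_d_rc_16_4 lc_d_rc_16_4 lc_d_Cert_tree lc_d_Cert_tree lc_d_rc_24_0 lc_d_rc_15_1 lc_d_Cert_tree lc_d_Cert_tree lc_d_rc_17_2 lc_d_rc_3_1 lc_d_rc_15_1 lc_d_Cert_tree lc_d_Cert_tree lc_d_rc_15_1 lc_d_Cert_tree lc_d_Cert_tree lc_d_rc_15_1 lc_d_rc_17_2 lc_d_Cert_tree lc_d_Cert_tree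 lc_d_rc_15_1) (@D3.rec (fun _ => (Cert rels S Gen.d)) lc_d_rc_17_2 lc_d_rc_27_4 lc_d_Cert_tree lc_d_rc_15_1 lc_d_Cert_tree lc_d_Cert_tree lc_d_Cert_tree lc_d_rc_15_1 lc_d_Cert_tree lc_d_Cert_tree lc_d_Cert_tree lc_d_Cert_tree lc_d_rc_17_2 lc_d_Cert_tree lc_d_Cert_tree lc_d_rc_8_3 lc_d_rc_15_1 lc_d_rc_15_1 lc_d_rc_23_4 lc_d_rc_15_1 lc_d_rc_16_2 lc_d_rc_27_8 lc_d_rc_27_2 lc_d_Cert_tree lc_d_rc_15_1 lc_d_rc_8_3 lc_d_rc_15_1 lc_d_rc_16_2 lc_d_rc_17_2 lc_d_rc_8_1 lc_d_rc_23_4 lc_d_rc_15_1 lc_d_rc_27_4 lc_d_rc_8_3 lc_d_rc_23_4 lc_d_rc_27_4 lc_d_rc_23_6 lc_d_rc_23_4 lc_d_Cert_tree lc_d_rc_15_1 lc_d_rc_22_4 lc_d_rc_16_4 lc_d_Cert_tree lc_d_Cert_tree lc_d_Cert_tree lc_d_rc_15_1 lc_d_Cert_tree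 lc_d_rc_15_1 lc_d_rc_17_2 lc_d_rc_23_4 lc_d_rc_15_1 lc_d_rc_3_1 lc_d_rc_17_0 lc_d_rc_15_1 lc_d_rc_15_1 lc_d_Cert_tree lc_d_rc_15_1 lc_d_rc_27_8 lc_d_rc_27_2 lc_d_rc_27_8 lc_d_rc_15_1 lc_d_rc_27_4) (@D3.rec (fun _ => (Cert rels S Gen.d)) lc_d_rc_8_3 lc_d_rc_15_1 lc_d_rc_16_2 lc_d_rc_22_4 lc_d_rc_27_4 lc_d_Cert_tree lc_d_rc_16_2 lc_d_rc_16_4 lc_d_rc_15_1 lc_d_rc_22_2 lc_d_rc_3_3 lc_d_rc_17_2 lc_d_rc_27_4 lc_d_rc_8_3 lc_d_Cert_tree lc_d_rc_24_0 lc_d_Cert_tree lc_d_Cert_tree lc_d_rc_15_1 lc_d_rc_8_3 lc_d_rc_16_4 lc_d_rc_15_1 lc_d_Cert_tree lc_d_rc_15_1 lc_d_rc_16_4 lc_d_Cert_tree lc_d_rc_15_1 lc_d_rc_15_1 lc_d_rc_8_3 lc_d_rc_15_1 lc_d_rc_15_1 lc_d_rc_15_1 lc_d_rc_8_3 lc_d_rc_15_1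 lc_d_rc_15_1 lc_d_rc_15_1 lc_d_Cert_tree lc_d_rc_17_2 lc_d_rc_15_1 lc_d_rc_16_2 lc_d_rc_16_4 lc_d_Cert_tree lc_d_Cert_tree lc_d_Cert_tree lc_d_rc_15_1 lc_d_rc_17_2 lc_d_rc_17_0 lc_d_rc_15_1 lc_d_rc_15_1 lc_d_Cert_tree lc_d_rc_16_2 lc_d_Cert_tree lc_d_rc_16_2 lc_d_rc_8_3 lc_d_Cert_tree lc_d_rc_27_4 lc_d_Cert_tree lc_d_rc_16_4 lc_d_Cert_tree lc_d_rc_15_1 lc_d_rc_22_2 lc_d_rc_16_4) (@D3.rec (fun _ => (Cert rels S Gen.d)) lc_d_rc_23_6 lc_d_rc_15_1 lc_d_rc_16_2 lc_d_rc_22_2 lc_d_rc_23_4 lc_d_rc_15_1 lc_d_rc_16_2 lc_d_rc_15_1 lc_d_Cert_tree lc_d_rc_16_4 lc_d_Cert_tree lc_d_Cert_tree lc_d_Cert_tree lc_d_rc_15_1 lc_d_Cert_tree lc_d_rc_27_4 lc_d_rc_15_1 lc_d_rc_17_2 lc_d_Cert_tree lc_d_rc_15_1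 lc_d_rc_23_6 lc_d_Cert_tree lc_d_rc_16_2 lc_d_rc_27_10 lc_d_rc_15_1 lc_d_rc_16_2 lc_d_Cert_tree lc_d_rc_15_1 lc_d_Cert_tree lc_d_rc_8_3 lc_d_rc_17_2 lc_d_rc_15_1 lc_d_rc_3_1 lc_d_Cert_tree lc_d_rc_15_1 lc_d_Cert_tree lc_d_Cert_tree lc_d_rc_15_1 lc_d_rc_3_1 lc_d_rc_27_4 lc_d_Cert_tree lc_d_Cert_tree lc_d_Cert_tree lc_d_rc_15_1 lc_d_Cert_tree lc_d_rc_27_10 lc_d_rc_15_1 lc_d_rc_15_1 lc_d_rc_17_2 lc_d_Cert_tree lc_d_rc_15_1 lc_d_Cert_tree lc_d_Cert_tree lc_d_rc_15_1 lc_d_Cert_tree lc_d_Cert_tree lc_d_Cert_tree lc_d_Cert_tree lc_d_rc_15_1 lc_d_rc_17_2 lc_d_rc_23_6 lc_d_rc_23_6) (@D3.rec (fun _ => (Cert rels S Gen.d)) lc_d_rc_22_8 lc_d_rc_16_4 lc_d_rc_17_2 lc_d_Cert_tree lc_d_Cert_tree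 lc_d_Cert_tree lc_d_rc_15_1 lc_d_rc_27_4 lc_d_rc_12_1 lc_d_rc_8_1 lc_d_rc_15_1 lc_d_Cert_tree lc_d_Cert_tree lc_d_Cert_tree lc_d_rc_8_3 lc_d_Cert_tree lc_d_rc_15_1 lc_d_rc_15_1 lc_d_rc_27_2 lc_d_Cert_tree lc_d_rc_15_1 lc_d_rc_22_2 lc_d_rc_15_1 lc_d_Cert_tree lc_d_rc_27_10 lc_d_rc_15_1 lc_d_rc_17_2 lc_d_rc_27_4 lc_d_rc_8_3 lc_d_rc_3_3 lc_d_rc_23_2 lc_d_rc_24_5 lc_d_Cert_tree lc_d_rc_15_1 lc_d_rc_27_2 lc_d_rc_23_2 lc_d_Cert_tree lc_d_rc_15_1 lc_d_rc_3_1 lc_d_rc_23_2 lc_d_rc_15_1 lc_d_rc_16_2 lc_d_rc_16_4 lc_d_Cert_tree lc_d_rc_15_1 lc_d_rc_27_4 lc_d_rc_8_3 lc_d_Cert_tree lc_d_Cert_tree lc_d_Cert_tree lc_d_rc_17_2 lc_d_rc_27_10 lc_d_rc_8_3 lc_d_rc_3_3 lc_d_Cert_tree lc_d_Cert_tree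 lc_d_Cert_tree lc_d_rc_15_1 lc_d_rc_16_2 lc_d_rc_8_3 lc_d_Cert_tree lc_d_rc_16_4) (@D3.rec (fun _ => (Cert rels S Gen.d)) lc_d_rc_27_2 lc_d_rc_27_10 lc_d_rc_17_2 lc_d_Cert_tree lc_d_rc_15_1 lc_d_Cert_tree lc_d_Cert_tree lc_d_rc_15_1 lc_d_Cert_tree lc_d_Cert_tree lc_d_Cert_tree lc_d_Cert_tree lc_d_rc_15_1 lc_d_rc_23_6 lc_d_rc_23_6 lc_d_rc_16_4 lc_d_Cert_tree lc_d_Cert_tree lc_d_Cert_tree lc_d_rc_27_4 lc_d_rc_15_1 lc_d_Cert_tree lc_d_Cert_tree lc_d_Cert_tree lc_d_rc_8_3 lc_d_Cert_tree lc_d_rc_15_1 lc_d_rc_15_1 lc_d_rc_27_2 lc_d_rc_22_4 lc_d_rc_16_4 lc_d_rc_8_3 lc_d_rc_15_1 lc_d_rc_27_10 lc_d_rc_15_1 lc_d_rc_27_4 lc_d_rc_8_3 lc_d_Cert_tree lc_d_Cert_tree lc_d_rc_15_1 lc_d_rc_27_2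 lc_d_rc_24_5 lc_d_Cert_tree lc_d_rc_15_1 lc_d_Cert_tree lc_d_rc_15_1 lc_d_rc_27_4 lc_d_rc_8_1 lc_d_rc_27_10 lc_d_rc_3_3 lc_d_rc_3_3 lc_d_rc_27_8 lc_d_rc_27_2 lc_d_rc_23_8 lc_d_rc_24_0 lc_d_rc_3_3 lc_d_rc_15_1 lc_d_rc_15_1 lc_d_rc_23_6 lc_d_rc_15_1 lc_d_Cert_tree lc_d_rc_17_2) (@D3.rec (fun _ => (Cert rels S Gen.d)) lc_d_rc_15_1 lc_d_rc_27_4 lc_d_rc_15_1 lc_d_Cert_tree lc_d_rc_17_2 lc_d_Cert_tree lc_d_rc_16_4 lc_d_Cert_tree lc_d_rc_27_4 lc_d_Cert_tree lc_d_Cert_tree lc_d_Cert_tree lc_d_rc_15_1 lc_d_rc_17_2 lc_d_rc_16_4 lc_d_rc_15_1 lc_d_rc_27_8 lc_d_rc_3_3 lc_d_Cert_tree lc_d_rc_17_2 lc_d_Cert_tree lc_d_rc_16_2 lc_d_Cert_tree lc_d_rc_16_4 lc_d_Cert_tree lc_d_Cert_tree lc_d_Cert_tree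 lc_d_rc_15_1 lc_d_rc_17_2 lc_d_rc_16_4 lc_d_Cert_tree lc_d_rc_16_2 lc_d_Cert_tree lc_d_rc_8_3 lc_d_Cert_tree lc_d_rc_27_4 lc_d_Cert_tree lc_d_rc_16_4 lc_d_Cert_tree lc_d_Cert_tree lc_d_rc_15_1 lc_d_rc_22_4 lc_d_rc_16_4 lc_d_rc_24_0 lc_d_rc_15_1 lc_d_rc_16_2 lc_d_rc_24_0 lc_d_rc_12_15 lc_d_rc_15_1 lc_d_rc_23_6 lc_d_rc_15_1 lc_d_Cert_tree lc_d_rc_15_1 lc_d_rc_8_3 lc_d_Cert_tree lc_d_rc_16_4 lc_d_Cert_tree lc_d_Cert_tree lc_d_Cert_tree lc_d_rc_15_1 lc_d_Cert_tree lc_d_rc_17_2) (@D3.rec (fun _ => (Cert rels S Gen.d)) lc_d_rc_15_1 lc_d_rc_17_2 lc_d_Cert_tree lc_d_rc_15_1 lc_d_rc_27_8 lc_d_rc_8_3 lc_d_Cert_tree lc_d_rc_16_2 lc_d_rc_27_10 lc_d_rc_15_1 lc_d_rc_16_2 lc_d_Cert_tree lc_d_rc_15_1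 lc_d_Cert_tree lc_d_rc_15_1 lc_d_rc_17_2 lc_d_Cert_tree lc_d_rc_3_3 lc_d_Cert_tree lc_d_rc_15_1 lc_d_rc_16_2 lc_d_Cert_tree lc_d_Cert_tree lc_d_rc_15_1 lc_d_rc_8_3 lc_d_Cert_tree lc_d_rc_16_4 lc_d_Cert_tree lc_d_rc_15_1 lc_d_Cert_tree lc_d_rc_24_5 lc_d_rc_24_0 lc_d_rc_15_1 lc_d_rc_17_2 lc_d_Cert_tree lc_d_rc_15_1 lc_d_Cert_tree lc_d_Cert_tree lc_d_rc_15_1 lc_d_Cert_tree lc_d_rc_27_10 lc_d_rc_16_4 lc_d_Cert_tree lc_d_rc_15_1 lc_d_rc_17_2 lc_d_rc_23_6 lc_d_rc_24_0 lc_d_rc_22_8 lc_d_rc_16_4 lc_d_rc_17_2 lc_d_rc_17_2 lc_d_Cert_tree lc_d_Cert_tree lc_d_Cert_tree lc_d_rc_16_2 lc_d_rc_15_1 lc_d_rc_3_3 lc_d_Cert_tree lc_d_rc_15_1 lc_d_rc_15_1 lc_d_rc_27_2 lc_d_Cert_tree) (@D3.rec (fun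 _ => (Cert rels S Gen.d)) lc_d_Cert_tree lc_d_rc_3_1 lc_d_rc_23_8 lc_d_rc_15_1 lc_d_Cert_tree lc_d_rc_27_10 lc_d_rc_27_10 lc_d_rc_17_2 lc_d_rc_27_4 lc_d_rc_8_3 lc_d_rc_16_4 lc_d_Cert_tree lc_d_Cert_tree lc_d_rc_24_5 lc_d_rc_15_1 lc_d_Cert_tree lc_d_rc_17_2 lc_d_Cert_tree lc_d_rc_16_4 lc_d_rc_15_1 lc_d_rc_27_8 lc_d_rc_15_1 lc_d_rc_16_2 lc_d_rc_17_2 lc_d_rc_23_6 lc_d_rc_24_0 lc_d_rc_17_2 lc_d_rc_15_1 lc_d_Cert_tree lc_d_rc_15_1 lc_d_rc_27_4 lc_d_Cert_tree lc_d_rc_15_1 lc_d_rc_8_3 lc_d_rc_27_4 lc_d_rc_15_1 lc_d_Cert_tree lc_d_rc_15_1 lc_d_rc_23_2 lc_d_Cert_tree lc_d_rc_27_2 lc_d_Cert_tree lc_d_Cert_tree lc_d_rc_24_0 lc_d_rc_15_1 lc_d_rc_23_6 lc_d_Cert_tree lc_d_rc_15_1 lc_d_Cert_tree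 lc_d_rc_27_10 lc_d_rc_17_2 lc_d_rc_23_8 lc_d_rc_24_0 lc_d_Cert_tree lc_d_rc_15_1 lc_d_rc_23_4 lc_d_rc_16_4 lc_d_rc_27_2 lc_d_Cert_tree lc_d_rc_15_1 lc_d_rc_16_2 lc_d_rc_22_2) (@D3.rec (fun _ => (Cert rels S Gen.d)) lc_d_rc_27_10 lc_d_rc_15_1 lc_d_Cert_tree lc_d_rc_15_1 lc_d_Cert_tree lc_d_rc_15_1 lc_d_Cert_tree lc_d_Cert_tree lc_d_rc_15_1 lc_d_rc_27_2 lc_d_rc_17_2 lc_d_Cert_tree lc_d_rc_16_4 lc_d_rc_17_2 lc_d_rc_17_0 lc_d_Cert_tree lc_d_Cert_tree lc_d_Cert_tree lc_d_rc_15_1 lc_d_rc_22_4 lc_d_rc_15_1 lc_d_rc_15_1 lc_d_Cert_tree lc_d_Cert_tree lc_d_rc_22_2 lc_d_rc_15_1 lc_d_rc_23_8 lc_d_rc_15_1 lc_d_Cert_tree lc_d_rc_16_4 lc_d_rc_8_3 lc_d_Cert_tree lc_d_rc_27_2 lc_d_rc_23_8 lc_d_Cert_tree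 lc_d_Cert_tree lc_d_rc_15_1 lc_d_Cert_tree lc_d_rc_17_2 lc_d_Cert_tree lc_d_Cert_tree lc_d_rc_17_2 lc_d_Cert_tree lc_d_Cert_tree lc_d_Cert_tree lc_d_rc_15_1 lc_d_rc_15_1 lc_d_rc_23_6 lc_d_rc_3_3 lc_d_Cert_tree lc_d_rc_15_1 lc_d_rc_27_2 lc_d_Cert_tree lc_d_rc_15_1 lc_d_rc_27_2 lc_d_rc_8_3 lc_d_rc_16_4 lc_d_rc_15_1 lc_d_Cert_tree lc_d_Cert_tree lc_d_rc_15_1 lc_d_rc_22_6) (@D3.rec (fun _ => (Cert rels S Gen.d)) lc_d_Cert_tree lc_d_Cert_tree lc_d_rc_15_1 lc_d_rc_17_2 lc_d_Cert_tree lc_d_rc_15_1 lc_d_rc_15_1 lc_d_rc_15_1 lc_d_rc_15_1 lc_d_rc_22_6 lc_d_rc_17_2 lc_d_rc_15_1 lc_d_rc_15_1 lc_d_rc_22_4 lc_d_Cert_tree lc_d_rc_15_1 lc_d_rc_15_1 lc_d_rc_23_8 lc_d_rc_22_2 lc_d_Cert_tree lc_d_rc_15_1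 lc_d_rc_15_1 lc_d_rc_3_3 lc_d_Cert_tree lc_d_Cert_tree lc_d_Cert_tree lc_d_rc_15_1 lc_d_rc_17_2 lc_d_rc_15_1 lc_d_rc_15_1 lc_d_rc_8_3 lc_d_rc_3_3 lc_d_rc_17_2 lc_d_rc_17_2 lc_d_rc_23_8 lc_d_rc_17_0 lc_d_rc_23_4 lc_d_Cert_tree lc_d_Cert_tree lc_d_rc_8_1 lc_d_rc_15_1 lc_d_rc_24_5 lc_d_rc_24_5 lc_d_rc_23_6 lc_d_rc_15_1 lc_d_rc_17_2 lc_d_Cert_tree lc_d_rc_15_1 lc_d_rc_15_1 lc_d_rc_17_0 lc_d_rc_17_2 lc_d_rc_15_1 lc_d_rc_15_1 lc_d_rc_15_1 lc_d_rc_15_1 lc_d_Cert_tree lc_d_rc_23_4 lc_d_rc_15_1 lc_d_Cert_tree lc_d_rc_15_1 lc_d_Cert_tree lc_d_rc_15_1) (@D3.rec (fun _ => (Cert rels S Gen.d)) lc_d_Cert_tree lc_d_rc_15_1 lc_d_Cert_tree lc_d_Cert_tree lc_d_rc_15_1 lc_d_rc_17_2 lc_d_rc_15_1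 lc_d_rc_15_1 lc_d_Cert_tree lc_d_rc_17_2 lc_d_rc_24_5 lc_d_rc_24_5 lc_d_Cert_tree lc_d_rc_15_1 lc_d_rc_16_4 lc_d_rc_23_6 lc_d_rc_8_3 lc_d_Cert_tree lc_d_rc_15_1 lc_d_Cert_tree lc_d_rc_17_2 lc_d_Cert_tree lc_d_rc_15_1 lc_d_rc_24_0 lc_d_rc_8_1 lc_d_rc_15_1 lc_d_Cert_tree lc_d_Cert_tree lc_d_rc_15_1 lc_d_rc_17_2 lc_d_rc_15_1 lc_d_rc_15_1 lc_d_rc_16_4 lc_d_Cert_tree lc_d_rc_15_1 lc_d_Cert_tree lc_d_rc_23_6 lc_d_rc_15_1 lc_d_rc_17_2 lc_d_Cert_tree lc_d_rc_15_1 lc_d_Cert_tree lc_d_rc_8_1 lc_d_rc_15_1 lc_d_Cert_tree lc_d_rc_15_1 lc_d_rc_15_1 lc_d_Cert_tree lc_d_rc_17_2 lc_d_Cert_tree lc_d_Cert_tree lc_d_rc_15_1 lc_d_rc_17_2 lc_d_Cert_tree lc_d_Cert_tree lc_d_Cert_tree lc_d_rc_15_1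 lc_d_rc_17_2 lc_d_Cert_tree lc_d_Cert_tree lc_d_rc_15_1 lc_d_Cert_tree)
def ce_d_5 : D2 → D3 → (Cert rels S Gen.d) := @D2.rec (fun _ => D3 → (Cert rels S Gen.d)) (@D3.rec (fun _ => (Cert rels S Gen.d)) lc_d_Cert_tree lc_d_Cert_tree lc_d_rc_15_1 lc_d_Cert_tree lc_d_rc_15_1 lc_d_rc_15_1 lc_d_rc_15_1 lc_d_Cert_tree lc_d_rc_27_10 lc_d_Cert_tree lc_d_rc_24_0 lc_d_rc_15_1 lc_d_rc_27_4 lc_d_rc_23_6 lc_d_rc_15_1 lc_d_rc_24_5 lc_d_rc_27_10 lc_d_rc_3_3 lc_d_Cert_tree lc_d_rc_15_1 lc_d_rc_16_0 lc_d_rc_15_1 lc_d_rc_23_4 lc_d_Cert_tree lc_d_rc_16_4 lc_d_rc_17_2 lc_d_rc_16_4 lc_d_Cert_tree lc_d_rc_15_1 lc_d_rc_15_1 lc_d_rc_15_1 lc_d_rc_15_1 lc_d_rc_15_1 lc_d_rc_27_4 lc_d_rc_8_3 lc_d_rc_23_4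 lc_d_rc_15_1 lc_d_Cert_tree lc_d_Cert_tree lc_d_Cert_tree lc_d_rc_15_1 lc_d_Cert_tree lc_d_Cert_tree lc_d_Cert_tree lc_d_rc_15_1 lc_d_rc_16_2 lc_d_Cert_tree lc_d_Cert_tree lc_d_rc_15_1 lc_d_Cert_tree lc_d_rc_15_1 lc_d_Cert_tree lc_d_Cert_tree lc_d_Cert_tree lc_d_rc_15_1 lc_d_rc_22_2 lc_d_rc_16_4 lc_d_rc_15_1 lc_d_rc_15_1 lc_d_rc_24_5 lc_d_Cert_tree lc_d_rc_16_2) (@D3.rec (fun _ => (Cert rels S Gen.d)) lc_d_rc_8_3 lc_d_rc_15_1 lc_d_rc_16_2 lc_d_Cert_tree lc_d_rc_16_4 lc_d_Cert_tree lc_d_rc_16_4 lc_d_Cert_tree lc_d_Cert_tree lc_d_Cert_tree lc_d_rc_15_1 lc_d_Cert_tree lc_d_rc_27_10 lc_d_rc_15_1 lc_d_rc_17_2 lc_d_rc_15_1 lc_d_rc_24_0 lc_d_rc_15_1 lc_d_Cert_tree lc_d_rc_27_10 lc_d_rc_15_1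 lc_d_rc_15_1 lc_d_Cert_tree lc_d_rc_15_1 lc_d_Cert_tree lc_d_rc_15_1 lc_d_rc_23_2 lc_d_rc_27_10 lc_d_rc_15_1 lc_d_rc_3_1 lc_d_Cert_tree lc_d_Cert_tree lc_d_rc_27_4 lc_d_rc_3_3 lc_d_Cert_tree lc_d_rc_15_1 lc_d_Cert_tree lc_d_Cert_tree lc_d_Cert_tree lc_d_rc_27_2 lc_d_rc_16_4 lc_d_Cert_tree lc_d_rc_15_1 lc_d_Cert_tree lc_d_rc_27_10 lc_d_rc_15_1 lc_d_rc_17_2 lc_d_Cert_tree lc_d_rc_15_1 lc_d_Cert_tree lc_d_Cert_tree lc_d_rc_15_1 lc_d_Cert_tree lc_d_Cert_tree lc_d_Cert_tree lc_d_Cert_tree lc_d_rc_15_1 lc_d_rc_17_2 lc_d_rc_23_6 lc_d_rc_23_6 lc_d_rc_22_8 lc_d_rc_16_4) (@D3.rec (fun _ => (Cert rels S Gen.d)) lc_d_rc_17_2 lc_d_Cert_tree lc_d_Cert_tree lc_d_Cert_tree lc_d_Cert_tree lc_d_rc_8_1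 lc_d_rc_24_0 lc_d_Cert_tree lc_d_rc_16_2 lc_d_Cert_tree lc_d_Cert_tree lc_d_Cert_tree lc_d_rc_15_1 lc_d_Cert_tree lc_d_rc_27_10 lc_d_rc_15_1 lc_d_rc_25_18 lc_d_Cert_tree lc_d_rc_16_4 lc_d_Cert_tree lc_d_rc_15_1 lc_d_Cert_tree lc_d_rc_15_1 lc_d_rc_15_1 lc_d_rc_17_2 lc_d_Cert_tree lc_d_rc_15_1 lc_d_Cert_tree lc_d_Cert_tree lc_d_rc_15_1 lc_d_Cert_tree lc_d_Cert_tree lc_d_rc_15_1 lc_d_Cert_tree lc_d_Cert_tree lc_d_rc_23_6 lc_d_rc_15_1 lc_d_rc_8_3 lc_d_rc_22_6 lc_d_rc_23_4 lc_d_rc_22_2 lc_d_rc_17_2 lc_d_rc_15_1 lc_d_rc_24_5 lc_d_rc_24_5 lc_d_rc_16_2 lc_d_Cert_tree lc_d_rc_16_4 lc_d_Cert_tree lc_d_rc_16_2 lc_d_rc_24_0 lc_d_Cert_tree lc_d_rc_16_4 lc_d_Cert_tree lc_d_rc_16_4 lc_d_Cert_tree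 lc_d_Cert_tree lc_d_Cert_tree lc_d_rc_15_1 lc_d_Cert_tree lc_d_rc_17_0 lc_d_rc_15_1) (@D3.rec (fun _ => (Cert rels S Gen.d)) lc_d_rc_8_3 lc_d_rc_12_15 lc_d_rc_24_0 lc_d_Cert_tree lc_d_Cert_tree lc_d_Cert_tree lc_d_Cert_tree lc_d_rc_15_1 lc_d_Cert_tree lc_d_Cert_tree lc_d_Cert_tree lc_d_rc_15_1 lc_d_rc_24_0 lc_d_Cert_tree lc_d_rc_15_1 lc_d_rc_15_1 lc_d_rc_27_2 lc_d_rc_22_4 lc_d_Cert_tree lc_d_rc_15_1 lc_d_Cert_tree lc_d_Cert_tree lc_d_Cert_tree lc_d_rc_17_2 lc_d_rc_15_1 lc_d_rc_23_8 lc_d_Cert_tree lc_d_rc_15_1 lc_d_Cert_tree lc_d_rc_15_1 lc_d_rc_24_5 lc_d_Cert_tree lc_d_Cert_tree lc_d_Cert_tree lc_d_rc_15_1 lc_d_rc_17_2 lc_d_Cert_tree lc_d_Cert_tree lc_d_rc_15_1 lc_d_Cert_tree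 lc_d_rc_15_1 lc_d_rc_27_8 lc_d_Cert_tree lc_d_rc_16_4 lc_d_rc_12_15 lc_d_Cert_tree lc_d_rc_15_1 lc_d_Cert_tree lc_d_rc_15_1 lc_d_rc_27_10 lc_d_rc_17_2 lc_d_rc_24_0 lc_d_rc_24_0 lc_d_Cert_tree lc_d_rc_15_1 lc_d_rc_8_3 lc_d_rc_27_2 lc_d_rc_15_1 lc_d_rc_23_2 lc_d_rc_23_2 lc_d_rc_27_10 lc_d_rc_27_4) (@D3.rec (fun _ => (Cert rels S Gen.d)) lc_d_rc_15_1 lc_d_rc_27_2 lc_d_rc_15_1 lc_d_rc_24_0 lc_d_rc_22_6 lc_d_rc_15_1 lc_d_Cert_tree lc_d_rc_24_0 lc_d_rc_24_5 lc_d_Cert_tree lc_d_rc_15_1 lc_d_rc_17_2 lc_d_Cert_tree lc_d_rc_3_1 lc_d_rc_8_3 lc_d_Cert_tree lc_d_rc_15_1 lc_d_Cert_tree lc_d_rc_22_6 lc_d_rc_15_1 lc_d_rc_22_6 lc_d_rc_3_3 lc_d_Cert_tree lc_d_Cert_tree lc_d_Cert_tree lc_d_rc_15_1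 lc_d_Cert_tree lc_d_rc_17_2 lc_d_Cert_tree lc_d_Cert_tree lc_d_rc_15_1 lc_d_Cert_tree lc_d_rc_15_1 lc_d_rc_3_3 lc_d_rc_15_1 lc_d_rc_17_2 lc_d_rc_16_4 lc_d_Cert_tree lc_d_rc_23_8 lc_d_rc_8_3 lc_d_rc_22_2 lc_d_Cert_tree lc_d_Cert_tree lc_d_rc_17_2 lc_d_rc_17_2 lc_d_rc_15_1 lc_d_Cert_tree lc_d_rc_23_4 lc_d_rc_15_1 lc_d_rc_15_1 lc_d_rc_8_3 lc_d_rc_15_1 lc_d_rc_16_2 lc_d_Cert_tree lc_d_rc_16_4 lc_d_rc_8_1 lc_d_Cert_tree lc_d_rc_16_4 lc_d_Cert_tree lc_d_Cert_tree lc_d_Cert_tree lc_d_rc_15_1) (@D3.rec (fun _ => (Cert rels S Gen.d)) lc_d_Cert_tree lc_d_rc_27_10 lc_d_rc_15_1 lc_d_rc_17_2 lc_d_rc_15_1 lc_d_Cert_tree lc_d_rc_15_1 lc_d_Cert_tree lc_d_rc_15_1 lc_d_Cert_tree lc_d_rc_15_1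 lc_d_Cert_tree lc_d_Cert_tree lc_d_rc_27_2 lc_d_rc_15_1 lc_d_rc_23_6 lc_d_rc_15_1 lc_d_rc_15_1 lc_d_Cert_tree lc_d_rc_8_1 lc_d_Cert_tree lc_d_rc_8_3 lc_d_Cert_tree lc_d_Cert_tree lc_d_rc_3_3 lc_d_rc_15_1 lc_d_Cert_tree lc_d_rc_23_2 lc_d_rc_15_1 lc_d_rc_17_2 lc_d_Cert_tree lc_d_rc_16_4 lc_d_rc_8_3 lc_d_rc_16_2 lc_d_rc_15_1 lc_d_rc_15_1 lc_d_rc_17_2 lc_d_rc_15_1 lc_d_rc_15_1 lc_d_rc_15_1 lc_d_rc_3_3 lc_d_rc_17_2 lc_d_rc_22_6 lc_d_Cert_tree lc_d_rc_15_1 lc_d_rc_24_5 lc_d_rc_8_1 lc_d_rc_22_2 lc_d_rc_8_3 lc_d_rc_22_6 lc_d_rc_16_2 lc_d_rc_16_2 lc_d_rc_15_1 lc_d_rc_16_4 lc_d_rc_16_2 lc_d_rc_15_1 lc_d_rc_16_4 lc_d_Cert_tree lc_d_rc_15_1 lc_d_rc_27_8 lc_d_Cert_tree lc_d_rc_15_1) (@D3.rec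 (fun _ => (Cert rels S Gen.d)) lc_d_Cert_tree lc_d_rc_15_1 lc_d_rc_17_2 lc_d_rc_24_0 lc_d_rc_23_2 lc_d_rc_24_5 lc_d_Cert_tree lc_d_rc_16_4 lc_d_Cert_tree lc_d_Cert_tree lc_d_Cert_tree lc_d_rc_15_1 lc_d_Cert_tree lc_d_rc_27_10 lc_d_rc_15_1 lc_d_rc_16_2 lc_d_Cert_tree lc_d_Cert_tree lc_d_Cert_tree lc_d_rc_3_1 lc_d_rc_16_2 lc_d_rc_27_8 lc_d_rc_15_1 lc_d_rc_17_2 lc_d_rc_15_1 lc_d_rc_15_1 lc_d_rc_15_1 lc_d_rc_8_1 lc_d_rc_15_1 lc_d_rc_27_4 lc_d_rc_8_3 lc_d_rc_27_4 lc_d_rc_15_1 lc_d_rc_8_3 lc_d_rc_27_10 lc_d_rc_15_1 lc_d_Cert_tree lc_d_Cert_tree lc_d_rc_17_2 lc_d_rc_15_1 lc_d_rc_12_7 lc_d_rc_16_4 lc_d_rc_15_1 lc_d_rc_15_1 lc_d_rc_23_2 lc_d_rc_24_0 lc_d_rc_15_1 lc_d_rc_16_2 lc_d_rc_15_1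 lc_d_Cert_tree lc_d_rc_16_2 lc_d_rc_8_3 lc_d_rc_16_4 lc_d_rc_8_3 lc_d_rc_16_4 lc_d_rc_16_4 lc_d_rc_23_4 lc_d_rc_24_5 lc_d_rc_15_1 lc_d_rc_15_1 lc_d_rc_23_6 lc_d_rc_15_1) (@D3.rec (fun _ => (Cert rels S Gen.d)) lc_d_rc_15_1 lc_d_rc_17_2 lc_d_rc_15_1 lc_d_rc_15_1 lc_d_rc_15_1 lc_d_rc_27_8 lc_d_rc_8_3 lc_d_rc_16_4 lc_d_rc_8_3 lc_d_rc_16_4 lc_d_rc_16_4 lc_d_rc_23_4 lc_d_Cert_tree lc_d_Cert_tree lc_d_rc_15_1 lc_d_Cert_tree lc_d_rc_15_1 lc_d_rc_8_3 lc_d_Cert_tree lc_d_rc_15_1 lc_d_rc_15_1 lc_d_rc_15_1 lc_d_Cert_tree lc_d_Cert_tree lc_d_rc_24_0 lc_d_rc_15_1 lc_d_rc_15_1 lc_d_rc_15_1 lc_d_rc_15_1 lc_d_rc_17_2 lc_d_rc_15_1 lc_d_Cert_tree lc_d_Cert_tree lc_d_rc_15_1 lc_d_Cert_tree lc_d_rc_17_2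 lc_d_rc_3_1 lc_d_rc_15_1 lc_d_rc_22_6 lc_d_rc_17_2 lc_d_Cert_tree lc_d_Cert_tree lc_d_rc_17_2 lc_d_rc_15_1 lc_d_Cert_tree lc_d_rc_15_1 lc_d_rc_15_1 lc_d_rc_16_4 lc_d_rc_16_4 lc_d_rc_17_0 lc_d_Cert_tree lc_d_rc_16_4 lc_d_rc_8_3 lc_d_Cert_tree lc_d_rc_16_4 lc_d_rc_8_3 lc_d_Cert_tree lc_d_rc_16_4 lc_d_Cert_tree lc_d_Cert_tree lc_d_Cert_tree lc_d_rc_15_1) (@D3.rec (fun _ => (Cert rels S Gen.d)) lc_d_Cert_tree lc_d_rc_17_2 lc_d_rc_25_18 lc_d_rc_15_1 lc_d_rc_17_2 lc_d_rc_16_4 lc_d_rc_23_4 lc_d_rc_16_4 lc_d_Cert_tree lc_d_Cert_tree lc_d_rc_17_2 lc_d_rc_15_1 lc_d_Cert_tree lc_d_rc_16_4 lc_d_Cert_tree lc_d_rc_15_1 lc_d_rc_17_2 lc_d_rc_8_3 lc_d_rc_15_1 lc_d_rc_15_1 lc_d_rc_8_3 lc_d_rc_8_3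 lc_d_rc_27_4 lc_d_rc_8_3 lc_d_rc_27_2 lc_d_rc_16_4 lc_d_rc_27_8 lc_d_rc_27_4 lc_d_rc_15_1 lc_d_rc_24_0 lc_d_Cert_tree lc_d_rc_16_2 lc_d_Cert_tree lc_d_rc_16_4 lc_d_Cert_tree lc_d_Cert_tree lc_d_Cert_tree lc_d_Cert_tree lc_d_rc_15_1 lc_d_Cert_tree lc_d_rc_8_1 lc_d_rc_8_3 lc_d_rc_17_2 lc_d_rc_8_3 lc_d_rc_24_0 lc_d_rc_15_1 lc_d_Cert_tree lc_d_rc_15_1 lc_d_Cert_tree lc_d_rc_15_1 lc_d_Cert_tree lc_d_rc_15_1 lc_d_rc_15_1 lc_d_rc_15_1 lc_d_rc_17_2 lc_d_rc_15_1 lc_d_Cert_tree lc_d_rc_15_1 lc_d_Cert_tree lc_d_rc_15_1 lc_d_Cert_tree lc_d_Cert_tree) (@D3.rec (fun _ => (Cert rels S Gen.d)) lc_d_rc_8_3 lc_d_rc_17_2 lc_d_rc_16_4 lc_d_Cert_tree lc_d_rc_15_1 lc_d_rc_16_2 lc_d_rc_15_1 lc_d_rc_27_10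 lc_d_rc_17_2 lc_d_rc_3_3 lc_d_rc_15_1 lc_d_Cert_tree lc_d_Cert_tree lc_d_rc_15_1 lc_d_rc_16_2 lc_d_Cert_tree lc_d_Cert_tree lc_d_Cert_tree lc_d_rc_15_1 lc_d_rc_15_1 lc_d_rc_12_9 lc_d_rc_23_6 lc_d_rc_16_4 lc_d_Cert_tree lc_d_Cert_tree lc_d_Cert_tree lc_d_rc_15_1 lc_d_Cert_tree lc_d_rc_16_4 lc_d_Cert_tree lc_d_rc_16_4 lc_d_rc_15_1 lc_d_Cert_tree lc_d_Cert_tree lc_d_rc_15_1 lc_d_rc_24_0 lc_d_Cert_tree lc_d_rc_16_4 lc_d_rc_15_1 lc_d_rc_24_0 lc_d_Cert_tree lc_d_rc_15_1 lc_d_Cert_tree lc_d_rc_27_10 lc_d_rc_15_1 lc_d_rc_17_2 lc_d_rc_24_0 lc_d_rc_16_4 lc_d_rc_8_3 lc_d_rc_27_2 lc_d_rc_16_2 lc_d_rc_15_1 lc_d_rc_17_2 lc_d_rc_8_3 lc_d_rc_24_0 lc_d_rc_24_0 lc_d_Cert_tree lc_d_rc_15_1 lc_d_rc_16_2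 lc_d_rc_22_6 lc_d_rc_27_4 lc_d_rc_15_1) (@D3.rec (fun _ => (Cert rels S Gen.d)) lc_d_rc_15_1 lc_d_rc_24_0 lc_d_rc_16_4 lc_d_rc_24_0 lc_d_Cert_tree lc_d_Cert_tree lc_d_rc_16_4 lc_d_rc_23_6 lc_d_rc_23_2 lc_d_Cert_tree lc_d_rc_15_1 lc_d_Cert_tree lc_d_rc_23_2 lc_d_rc_15_1 lc_d_rc_8_3 lc_d_Cert_tree lc_d_rc_15_1 lc_d_rc_23_8 lc_d_Cert_tree lc_d_rc_15_1 lc_d_rc_8_3 lc_d_rc_15_1 lc_d_rc_27_2 lc_d_Cert_tree lc_d_rc_15_1 lc_d_rc_15_1 lc_d_rc_27_2 lc_d_rc_3_3 lc_d_Cert_tree lc_d_rc_3_3 lc_d_rc_12_1 lc_d_Cert_tree lc_d_rc_15_1 lc_d_Cert_tree lc_d_Cert_tree lc_d_Cert_tree lc_d_rc_17_2 lc_d_rc_25_6 lc_d_rc_15_1 lc_d_Cert_tree lc_d_rc_15_1 lc_d_Cert_tree lc_d_Cert_tree lc_d_Cert_tree lc_d_rc_23_6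 lc_d_rc_15_1 lc_d_rc_17_2 lc_d_Cert_tree lc_d_Cert_tree lc_d_rc_15_1 lc_d_Cert_tree lc_d_rc_27_2 lc_d_rc_22_4 lc_d_Cert_tree lc_d_rc_15_1 lc_d_Cert_tree lc_d_rc_27_10 lc_d_rc_27_10 lc_d_rc_17_2 lc_d_rc_15_1 lc_d_rc_23_2 lc_d_Cert_tree) (@D3.rec (fun _ => (Cert rels S Gen.d)) lc_d_rc_15_1 lc_d_rc_16_2 lc_d_rc_22_6 lc_d_rc_27_10 lc_d_rc_27_4 lc_d_rc_27_2 lc_d_rc_27_4 lc_d_rc_27_4 lc_d_rc_15_1 lc_d_rc_27_2 lc_d_Cert_tree lc_d_Cert_tree lc_d_rc_23_6 lc_d_Cert_tree lc_d_rc_15_1 lc_d_Cert_tree lc_d_Cert_tree lc_d_rc_15_1 lc_d_rc_17_2 lc_d_rc_25_6 lc_d_rc_17_2 lc_d_rc_22_4 lc_d_Cert_tree lc_d_rc_15_1 lc_d_Cert_tree lc_d_rc_22_6 lc_d_rc_15_1 lc_d_rc_23_2 lc_d_rc_3_3 lc_d_Cert_tree lc_d_Cert_tree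 lc_d_Cert_tree lc_d_rc_15_1 lc_d_Cert_tree lc_d_rc_17_2 lc_d_Cert_tree lc_d_Cert_tree lc_d_rc_15_1 lc_d_Cert_tree lc_d_rc_15_1 lc_d_rc_15_1 lc_d_rc_15_1 lc_d_Cert_tree lc_d_rc_16_4 lc_d_Cert_tree lc_d_rc_15_1 lc_d_rc_22_6 lc_d_rc_8_3 lc_d_Cert_tree lc_d_Cert_tree lc_d_Cert_tree lc_d_rc_17_2 lc_d_rc_15_1 lc_d_rc_15_1 lc_d_Cert_tree lc_d_Cert_tree lc_d_rc_15_1 lc_d_rc_27_4 lc_d_rc_15_1 lc_d_rc_3_1 lc_d_rc_8_3 lc_d_Cert_tree) (@D3.rec (fun _ => (Cert rels S Gen.d)) lc_d_rc_16_4 lc_d_Cert_tree lc_d_rc_3_1 lc_d_Cert_tree lc_d_rc_15_1 lc_d_Cert_tree lc_d_rc_27_10 lc_d_rc_15_1 lc_d_rc_17_2 lc_d_rc_12_3 lc_d_rc_16_4 lc_d_rc_16_0 lc_d_rc_15_1 lc_d_rc_17_2 lc_d_rc_8_1 lc_d_Cert_tree lc_d_rc_15_1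 lc_d_rc_23_8 lc_d_rc_15_1 lc_d_Cert_tree lc_d_rc_15_1 lc_d_rc_24_0 lc_d_rc_27_10 lc_d_rc_8_3 lc_d_rc_16_4 lc_d_rc_24_0 lc_d_rc_3_3 lc_d_Cert_tree lc_d_rc_27_4 lc_d_rc_24_5 lc_d_rc_16_2 lc_d_Cert_tree lc_d_rc_15_1 lc_d_rc_17_2 lc_d_rc_15_1 lc_d_rc_8_3 lc_d_Cert_tree lc_d_Cert_tree lc_d_rc_15_1 lc_d_rc_23_2 lc_d_rc_8_1 lc_d_rc_24_0 lc_d_rc_16_4 lc_d_rc_23_4 lc_d_Cert_tree lc_d_rc_15_1 lc_d_Cert_tree lc_d_Cert_tree lc_d_rc_15_1 lc_d_rc_15_1 lc_d_rc_17_2 lc_d_rc_24_5 lc_d_rc_15_1 lc_d_Cert_tree lc_d_rc_15_1 lc_d_rc_12_11 lc_d_rc_27_2 lc_d_rc_27_2 lc_d_rc_24_0 lc_d_rc_24_0 lc_d_rc_15_1 lc_d_rc_15_1) (@D3.rec (fun _ => (Cert rels S Gen.d)) lc_d_rc_23_4 lc_d_rc_16_4 lc_d_rc_15_1 lc_d_rc_8_3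 lc_d_Cert_tree lc_d_Cert_tree lc_d_rc_16_4 lc_d_Cert_tree lc_d_Cert_tree lc_d_Cert_tree lc_d_rc_15_1 lc_d_rc_22_6 lc_d_rc_27_10 lc_d_rc_15_1 lc_d_rc_16_2 lc_d_Cert_tree lc_d_rc_23_4 lc_d_rc_15_1 lc_d_rc_3_1 lc_d_Cert_tree lc_d_rc_15_1 lc_d_rc_3_3 lc_d_rc_15_1 lc_d_rc_15_1 lc_d_rc_15_1 lc_d_rc_27_2 lc_d_rc_15_1 lc_d_Cert_tree lc_d_Cert_tree lc_d_rc_16_4 lc_d_Cert_tree lc_d_Cert_tree lc_d_rc_23_4 lc_d_rc_16_4 lc_d_rc_16_2 lc_d_rc_8_3 lc_d_rc_17_2 lc_d_rc_15_1 lc_d_rc_23_8 lc_d_Cert_tree lc_d_rc_15_1 lc_d_Cert_tree lc_d_rc_23_2 lc_d_Cert_tree lc_d_rc_15_1 lc_d_rc_15_1 lc_d_Cert_tree lc_d_Cert_tree lc_d_rc_15_1 lc_d_rc_8_3 lc_d_rc_15_1 lc_d_rc_17_2 lc_d_rc_23_8 lc_d_Cert_tree lc_d_rc_15_1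 lc_d_Cert_tree lc_d_Cert_tree lc_d_rc_15_1 lc_d_Cert_tree lc_d_rc_15_1 lc_d_rc_3_3 lc_d_rc_15_1) (@D3.rec (fun _ => (Cert rels S Gen.d)) lc_d_rc_8_3 lc_d_rc_15_1 lc_d_rc_24_0 lc_d_Cert_tree lc_d_rc_16_2 lc_d_rc_23_2 lc_d_rc_22_4 lc_d_rc_16_4 lc_d_rc_15_1 lc_d_rc_17_2 lc_d_rc_23_2 lc_d_rc_15_1 lc_d_rc_15_1 lc_d_rc_15_1 lc_d_rc_15_1 lc_d_rc_15_1 lc_d_rc_23_2 lc_d_rc_27_2 lc_d_rc_8_3 lc_d_rc_15_1 lc_d_rc_15_1 lc_d_rc_23_4 lc_d_rc_24_0 lc_d_rc_8_3 lc_d_Cert_tree lc_d_rc_15_1 lc_d_rc_16_4 lc_d_rc_8_3 lc_d_Cert_tree lc_d_rc_15_1 lc_d_rc_17_2 lc_d_rc_15_1 lc_d_Cert_tree lc_d_rc_16_2 lc_d_Cert_tree lc_d_rc_15_1 lc_d_rc_17_2 lc_d_rc_15_1 lc_d_rc_27_4 lc_d_rc_16_2 lc_d_rc_3_3 lc_d_rc_15_1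 lc_d_rc_17_2 lc_d_rc_24_0 lc_d_rc_23_8 lc_d_rc_15_1 lc_d_rc_8_3 lc_d_rc_22_2 lc_d_Cert_tree lc_d_rc_8_3 lc_d_rc_27_2 lc_d_rc_16_4 lc_d_rc_23_4 lc_d_rc_23_8 lc_d_Cert_tree lc_d_Cert_tree lc_d_rc_15_1 lc_d_Cert_tree lc_d_rc_15_1 lc_d_Cert_tree lc_d_Cert_tree lc_d_rc_15_1) (@D3.rec (fun _ => (Cert rels S Gen.d)) lc_d_rc_15_1 lc_d_Cert_tree lc_d_Cert_tree lc_d_rc_15_1 lc_d_Cert_tree lc_d_rc_15_1 lc_d_Cert_tree lc_d_Cert_tree lc_d_rc_15_1 lc_d_rc_22_2 lc_d_rc_16_4 lc_d_rc_3_3 lc_d_rc_15_1 lc_d_rc_16_2 lc_d_rc_24_0 lc_d_rc_15_1 lc_d_rc_23_6 lc_d_rc_24_0 lc_d_rc_15_1 lc_d_rc_16_2 lc_d_rc_24_0 lc_d_rc_23_2 lc_d_rc_16_4 lc_d_rc_24_5 lc_d_rc_27_8 lc_d_Cert_tree lc_d_rc_15_1 lc_d_rc_16_4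 lc_d_rc_27_10 lc_d_rc_17_2 lc_d_rc_23_6 lc_d_Cert_tree lc_d_rc_16_2 lc_d_rc_15_1 lc_d_rc_15_1 lc_d_Cert_tree lc_d_rc_15_1 lc_d_Cert_tree lc_d_rc_15_1 lc_d_Cert_tree lc_d_rc_15_1 lc_d_rc_15_1 lc_d_rc_17_2 lc_d_Cert_tree lc_d_rc_27_4 lc_d_rc_3_3 lc_d_Cert_tree lc_d_rc_15_1 lc_d_Cert_tree lc_d_Cert_tree lc_d_rc_8_3 lc_d_rc_3_3 lc_d_Cert_tree lc_d_rc_16_4 lc_d_Cert_tree lc_d_rc_15_1 lc_d_Cert_tree lc_d_rc_27_10 lc_d_rc_15_1 lc_d_rc_17_2 lc_d_Cert_tree lc_d_rc_15_1) (@D3.rec (fun _ => (Cert rels S Gen.d)) lc_d_Cert_tree lc_d_Cert_tree lc_d_rc_15_1 lc_d_Cert_tree lc_d_Cert_tree lc_d_Cert_tree lc_d_Cert_tree lc_d_rc_15_1 lc_d_rc_17_2 lc_d_rc_23_6 lc_d_rc_23_6 lc_d_rc_12_3 lc_d_rc_16_4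 lc_d_rc_17_2 lc_d_Cert_tree lc_d_Cert_tree lc_d_Cert_tree lc_d_rc_12_1 lc_d_rc_15_1 lc_d_rc_23_2 lc_d_Cert_tree lc_d_Cert_tree lc_d_rc_15_1 lc_d_Cert_tree lc_d_rc_15_1 lc_d_rc_27_2 lc_d_rc_12_15 lc_d_rc_15_1 lc_d_Cert_tree lc_d_rc_15_1 lc_d_rc_27_10 lc_d_rc_17_2 lc_d_rc_27_4 lc_d_rc_15_1 lc_d_rc_15_1 lc_d_rc_27_10 lc_d_Cert_tree lc_d_Cert_tree lc_d_rc_15_1 lc_d_Cert_tree lc_d_rc_17_2 lc_d_rc_3_3 lc_d_Cert_tree lc_d_rc_15_1 lc_d_Cert_tree lc_d_rc_15_1 lc_d_rc_8_3 lc_d_rc_8_1 lc_d_Cert_tree lc_d_rc_16_4 lc_d_rc_16_4 lc_d_Cert_tree lc_d_Cert_tree lc_d_Cert_tree lc_d_rc_15_1 lc_d_Cert_tree lc_d_Cert_tree lc_d_Cert_tree lc_d_Cert_tree lc_d_rc_15_1 lc_d_rc_24_0 lc_d_Cert_tree) (@D3.rec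 (fun _ => (Cert rels S Gen.d)) lc_d_rc_17_2 lc_d_Cert_tree lc_d_Cert_tree lc_d_rc_8_1 lc_d_Cert_tree lc_d_rc_16_2 lc_d_Cert_tree lc_d_Cert_tree lc_d_rc_15_1 lc_d_rc_17_2 lc_d_rc_16_4 lc_d_Cert_tree lc_d_rc_15_1 lc_d_rc_15_1 lc_d_rc_23_4 lc_d_rc_15_1 lc_d_rc_16_2 lc_d_rc_15_1 lc_d_rc_27_8 lc_d_rc_15_1 lc_d_rc_16_2 lc_d_rc_15_1 lc_d_rc_27_4 lc_d_rc_8_3 lc_d_rc_16_4 lc_d_Cert_tree lc_d_rc_15_1 lc_d_rc_22_4 lc_d_rc_16_4 lc_d_Cert_tree lc_d_rc_16_4 lc_d_Cert_tree lc_d_Cert_tree lc_d_Cert_tree lc_d_rc_15_1 lc_d_Cert_tree lc_d_rc_27_10 lc_d_rc_17_2 lc_d_rc_15_1 lc_d_rc_15_1 lc_d_Cert_tree lc_d_rc_15_1 lc_d_Cert_tree lc_d_rc_15_1 lc_d_Cert_tree lc_d_rc_15_1 lc_d_rc_15_1 lc_d_rc_17_2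 lc_d_rc_17_2 lc_d_rc_3_3 lc_d_Cert_tree lc_d_rc_15_1 lc_d_rc_15_1 lc_d_Cert_tree lc_d_rc_8_3 lc_d_rc_15_1 lc_d_rc_16_4 lc_d_Cert_tree lc_d_rc_15_1 lc_d_Cert_tree lc_d_rc_15_1 lc_d_rc_27_10) (@D3.rec (fun _ => (Cert rels S Gen.d)) lc_d_rc_17_2 lc_d_Cert_tree lc_d_rc_15_1 lc_d_rc_16_4 lc_d_rc_22_6 lc_d_rc_15_1 lc_d_rc_24_0 lc_d_Cert_tree lc_d_Cert_tree lc_d_Cert_tree lc_d_rc_15_1 lc_d_rc_17_2 lc_d_rc_23_6 lc_d_rc_23_6 lc_d_rc_3_1 lc_d_rc_16_4 lc_d_rc_17_2 lc_d_Cert_tree lc_d_Cert_tree lc_d_Cert_tree lc_d_rc_12_15 lc_d_rc_15_1 lc_d_Cert_tree lc_d_Cert_tree lc_d_Cert_tree lc_d_rc_22_2 lc_d_Cert_tree lc_d_rc_15_1 lc_d_rc_27_8 lc_d_rc_15_1 lc_d_rc_23_2 lc_d_rc_15_1 lc_d_Cert_tree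 lc_d_rc_27_10 lc_d_rc_27_10 lc_d_rc_17_2 lc_d_rc_27_4 lc_d_rc_15_1 lc_d_rc_15_1 lc_d_Cert_tree lc_d_rc_24_5 lc_d_Cert_tree lc_d_rc_15_1 lc_d_Cert_tree lc_d_rc_17_2 lc_d_Cert_tree lc_d_Cert_tree lc_d_rc_15_1 lc_d_Cert_tree lc_d_rc_15_1 lc_d_rc_23_6 lc_d_rc_23_6 lc_d_Cert_tree lc_d_rc_16_4 lc_d_rc_16_2 lc_d_Cert_tree lc_d_Cert_tree lc_d_rc_16_0 lc_d_Cert_tree lc_d_rc_15_1 lc_d_rc_15_1 lc_d_rc_15_1) (@D3.rec (fun _ => (Cert rels S Gen.d)) lc_d_rc_8_3 lc_d_rc_15_1 lc_d_rc_8_3 lc_d_rc_15_1 lc_d_rc_16_4 lc_d_rc_16_4 lc_d_rc_24_0 lc_d_rc_17_0 lc_d_rc_15_1 lc_d_rc_8_3 lc_d_rc_15_1 lc_d_rc_16_4 lc_d_rc_17_2 lc_d_rc_15_1 lc_d_rc_16_4 lc_d_Cert_tree lc_d_rc_15_1 lc_d_Cert_tree lc_d_rc_27_10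 lc_d_rc_15_1 lc_d_rc_17_2 lc_d_Cert_tree lc_d_rc_15_1 lc_d_Cert_tree lc_d_Cert_tree lc_d_rc_16_4 lc_d_rc_15_1 lc_d_rc_17_2 lc_d_Cert_tree lc_d_rc_15_1 lc_d_Cert_tree lc_d_Cert_tree lc_d_rc_15_1 lc_d_Cert_tree lc_d_rc_25_10 lc_d_rc_24_0 lc_d_rc_3_3 lc_d_rc_23_6 lc_d_rc_12_15 lc_d_rc_22_4 lc_d_rc_16_4 lc_d_Cert_tree lc_d_Cert_tree lc_d_rc_27_4 lc_d_rc_16_4 lc_d_Cert_tree lc_d_rc_15_1 lc_d_rc_16_4 lc_d_Cert_tree lc_d_rc_15_1 lc_d_Cert_tree lc_d_rc_3_3 lc_d_rc_15_1 lc_d_rc_17_2 lc_d_Cert_tree lc_d_rc_17_2 lc_d_Cert_tree lc_d_rc_15_1 lc_d_Cert_tree lc_d_rc_15_1 lc_d_rc_15_1 lc_d_rc_17_2) (@D3.rec (fun _ => (Cert rels S Gen.d)) lc_d_Cert_tree lc_d_rc_15_1 lc_d_Cert_tree lc_d_Cert_tree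 lc_d_rc_15_1 lc_d_Cert_tree lc_d_Cert_tree lc_d_Cert_tree lc_d_rc_3_1 lc_d_rc_15_1 lc_d_rc_3_3 lc_d_rc_22_4 lc_d_rc_16_4 lc_d_Cert_tree lc_d_Cert_tree lc_d_rc_15_1 lc_d_rc_8_3 lc_d_Cert_tree lc_d_rc_16_4 lc_d_Cert_tree lc_d_Cert_tree lc_d_Cert_tree lc_d_rc_15_1 lc_d_rc_17_2 lc_d_rc_16_4 lc_d_rc_22_6 lc_d_rc_16_2 lc_d_rc_15_1 lc_d_rc_23_8 lc_d_rc_15_1 lc_d_Cert_tree lc_d_rc_15_1 lc_d_Cert_tree lc_d_rc_15_1 lc_d_rc_17_2 lc_d_rc_15_1 lc_d_rc_16_2 lc_d_Cert_tree lc_d_rc_15_1 lc_d_Cert_tree lc_d_rc_27_10 lc_d_rc_17_2 lc_d_rc_27_4 lc_d_rc_15_1 lc_d_Cert_tree lc_d_rc_15_1 lc_d_Cert_tree lc_d_rc_15_1 lc_d_rc_8_3 lc_d_rc_8_3 lc_d_Cert_tree lc_d_rc_15_1 lc_d_rc_15_1 lc_d_rc_16_4 lc_d_rc_17_2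 lc_d_Cert_tree lc_d_rc_15_1 lc_d_rc_23_2 lc_d_Cert_tree lc_d_rc_23_4 lc_d_rc_15_1 lc_d_rc_23_4) (@D3.rec (fun _ => (Cert rels S Gen.d)) lc_d_Cert_tree lc_d_Cert_tree lc_d_Cert_tree lc_d_rc_15_1 lc_d_rc_8_3 lc_d_rc_23_6 lc_d_rc_23_6 lc_d_rc_16_4 lc_d_Cert_tree lc_d_Cert_tree lc_d_Cert_tree lc_d_Cert_tree lc_d_Cert_tree lc_d_Cert_tree lc_d_rc_15_1 lc_d_Cert_tree lc_d_Cert_tree lc_d_rc_15_1 lc_d_Cert_tree lc_d_Cert_tree lc_d_rc_16_2 lc_d_Cert_tree lc_d_rc_27_4 lc_d_Cert_tree lc_d_rc_15_1 lc_d_rc_16_4 lc_d_rc_24_0 lc_d_rc_16_2 lc_d_Cert_tree lc_d_rc_16_4 lc_d_Cert_tree lc_d_Cert_tree lc_d_Cert_tree lc_d_Cert_tree lc_d_rc_15_1 lc_d_Cert_tree lc_d_rc_27_10 lc_d_rc_15_1 lc_d_rc_17_2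 lc_d_Cert_tree lc_d_rc_15_1 lc_d_Cert_tree lc_d_rc_16_0 lc_d_rc_17_2 lc_d_rc_12_15 lc_d_rc_27_4 lc_d_rc_3_1 lc_d_rc_23_2 lc_d_Cert_tree lc_d_rc_15_1 lc_d_Cert_tree lc_d_Cert_tree lc_d_rc_8_3 lc_d_rc_3_1 lc_d_Cert_tree lc_d_rc_15_1 lc_d_Cert_tree lc_d_rc_15_1 lc_d_rc_27_10 lc_d_rc_17_2 lc_d_Cert_tree lc_d_rc_15_1) (@D3.rec (fun _ => (Cert rels S Gen.d)) lc_d_Cert_tree lc_d_Cert_tree lc_d_rc_15_1 lc_d_Cert_tree lc_d_Cert_tree lc_d_Cert_tree lc_d_Cert_tree lc_d_rc_15_1 lc_d_rc_17_2 lc_d_rc_23_6 lc_d_rc_23_6 lc_d_rc_12_1 lc_d_rc_16_4 lc_d_rc_17_2 lc_d_Cert_tree lc_d_rc_16_4 lc_d_rc_16_4 lc_d_rc_8_3 lc_d_rc_22_4 lc_d_Cert_tree lc_d_rc_15_1 lc_d_Cert_tree lc_d_rc_15_1 lc_d_rc_15_1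 lc_d_rc_15_1 lc_d_rc_17_2 lc_d_Cert_tree lc_d_rc_16_4 lc_d_rc_15_1 lc_d_rc_16_2 lc_d_rc_24_0 lc_d_rc_27_2 lc_d_rc_23_8 lc_d_rc_16_4 lc_d_rc_15_1 lc_d_rc_16_4 lc_d_rc_8_3 lc_d_Cert_tree lc_d_rc_27_10 lc_d_rc_15_1 lc_d_rc_15_1 lc_d_rc_17_2 lc_d_rc_24_0 lc_d_rc_15_1 lc_d_Cert_tree lc_d_rc_25_10 lc_d_rc_15_1 lc_d_Cert_tree lc_d_rc_16_0 lc_d_rc_15_1 lc_d_rc_17_2 lc_d_Cert_tree lc_d_rc_15_1 lc_d_Cert_tree lc_d_Cert_tree lc_d_rc_15_1 lc_d_Cert_tree lc_d_Cert_tree lc_d_rc_24_0 lc_d_rc_15_1 lc_d_Cert_tree lc_d_Cert_tree) (@D3.rec (fun _ => (Cert rels S Gen.d)) lc_d_Cert_tree lc_d_Cert_tree lc_d_rc_15_1 lc_d_Cert_tree lc_d_rc_3_3 lc_d_rc_15_1 lc_d_Cert_tree lc_d_Cert_tree lc_d_Cert_tree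 lc_d_rc_15_1 lc_d_rc_17_2 lc_d_Cert_tree lc_d_rc_15_1 lc_d_Cert_tree lc_d_rc_27_4 lc_d_rc_27_10 lc_d_rc_16_0 lc_d_Cert_tree lc_d_rc_17_2 lc_d_Cert_tree lc_d_Cert_tree lc_d_rc_8_1 lc_d_rc_15_1 lc_d_rc_16_4 lc_d_rc_22_4 lc_d_rc_16_2 lc_d_rc_16_4 lc_d_Cert_tree lc_d_rc_15_1 lc_d_Cert_tree lc_d_rc_27_10 lc_d_rc_15_1 lc_d_rc_17_2 lc_d_rc_8_3 lc_d_Cert_tree lc_d_Cert_tree lc_d_rc_16_0 lc_d_rc_15_1 lc_d_rc_17_2 lc_d_rc_22_8 lc_d_Cert_tree lc_d_Cert_tree lc_d_Cert_tree lc_d_rc_15_1 lc_d_Cert_tree lc_d_Cert_tree lc_d_Cert_tree lc_d_Cert_tree lc_d_rc_15_1 lc_d_rc_17_2 lc_d_Cert_tree lc_d_rc_27_4 lc_d_Cert_tree lc_d_rc_15_1 lc_d_rc_15_1 lc_d_Cert_tree lc_d_rc_17_2 lc_d_Cert_tree lc_d_Cert_tree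 lc_d_Cert_tree lc_d_rc_15_1 lc_d_rc_8_3) (@D3.rec (fun _ => (Cert rels S Gen.d)) lc_d_Cert_tree lc_d_rc_15_1 lc_d_Cert_tree lc_d_Cert_tree lc_d_Cert_tree lc_d_rc_15_1 lc_d_rc_22_2 lc_d_rc_8_3 lc_d_Cert_tree lc_d_rc_15_1 lc_d_rc_23_2 lc_d_rc_23_2 lc_d_Cert_tree lc_d_rc_15_1 lc_d_Cert_tree lc_d_rc_23_6 lc_d_rc_15_1 lc_d_Cert_tree lc_d_rc_24_0 lc_d_rc_24_0 lc_d_rc_15_1 lc_d_rc_17_2 lc_d_rc_27_2 lc_d_rc_27_2 lc_d_rc_15_1 lc_d_rc_27_4 lc_d_rc_15_1 lc_d_rc_27_2 lc_d_rc_27_2 lc_d_rc_17_2 lc_d_Cert_tree lc_d_rc_15_1 lc_d_Cert_tree lc_d_rc_27_10 lc_d_rc_15_1 lc_d_rc_17_2 lc_d_rc_3_1 lc_d_rc_8_3 lc_d_Cert_tree lc_d_rc_15_1 lc_d_rc_16_2 lc_d_Cert_tree lc_d_Cert_tree lc_d_rc_15_1 lc_d_Cert_tree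 lc_d_rc_27_4 lc_d_Cert_tree lc_d_rc_27_10 lc_d_rc_15_1 lc_d_Cert_tree lc_d_rc_17_2 lc_d_Cert_tree lc_d_Cert_tree lc_d_Cert_tree lc_d_Cert_tree lc_d_rc_15_1 lc_d_rc_27_8 lc_d_rc_23_6 lc_d_rc_22_2 lc_d_rc_23_6 lc_d_rc_23_4 lc_d_rc_3_3) (@D3.rec (fun _ => (Cert rels S Gen.d)) lc_d_rc_16_0 lc_d_Cert_tree lc_d_Cert_tree lc_d_Cert_tree lc_d_Cert_tree lc_d_rc_15_1 lc_d_rc_3_3 lc_d_rc_16_4 lc_d_Cert_tree lc_d_rc_15_1 lc_d_rc_24_0 lc_d_Cert_tree lc_d_Cert_tree lc_d_Cert_tree lc_d_Cert_tree lc_d_rc_15_1 lc_d_Cert_tree lc_d_rc_17_2 lc_d_Cert_tree lc_d_Cert_tree lc_d_rc_15_1 lc_d_Cert_tree lc_d_rc_15_1 lc_d_rc_15_1 lc_d_rc_15_1 lc_d_Cert_tree lc_d_rc_16_4 lc_d_rc_17_2 lc_d_Cert_tree lc_d_rc_15_1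 lc_d_Cert_tree lc_d_rc_15_1 lc_d_Cert_tree lc_d_rc_8_3 lc_d_Cert_tree lc_d_Cert_tree lc_d_Cert_tree lc_d_rc_17_2 lc_d_Cert_tree lc_d_Cert_tree lc_d_Cert_tree lc_d_rc_15_1 lc_d_Cert_tree lc_d_Cert_tree lc_d_rc_15_1 lc_d_rc_15_1 lc_d_Cert_tree lc_d_rc_24_0 lc_d_rc_15_1 lc_d_rc_27_4 lc_d_Cert_tree lc_d_rc_8_3 lc_d_rc_16_0 lc_d_rc_3_1 lc_d_rc_23_2 lc_d_Cert_tree lc_d_rc_15_1 lc_d_Cert_tree lc_d_rc_27_4 lc_d_rc_15_1 lc_d_rc_17_2 lc_d_rc_8_3) (@D3.rec (fun _ => (Cert rels S Gen.d)) lc_d_Cert_tree lc_d_Cert_tree lc_d_Cert_tree lc_d_rc_15_1 lc_d_rc_16_4 lc_d_rc_16_4 lc_d_Cert_tree lc_d_Cert_tree lc_d_Cert_tree lc_d_Cert_tree lc_d_rc_15_1 lc_d_Cert_tree lc_d_rc_27_10 lc_d_rc_17_2 lc_d_Cert_tree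 lc_d_rc_23_6 lc_d_rc_3_1 lc_d_rc_15_1 lc_d_rc_16_4 lc_d_Cert_tree lc_d_rc_15_1 lc_d_rc_24_0 lc_d_Cert_tree lc_d_rc_12_15 lc_d_Cert_tree lc_d_rc_15_1 lc_d_Cert_tree lc_d_Cert_tree lc_d_rc_16_4 lc_d_rc_15_1 lc_d_Cert_tree lc_d_rc_15_1 lc_d_Cert_tree lc_d_rc_15_1 lc_d_Cert_tree lc_d_rc_15_1 lc_d_Cert_tree lc_d_rc_15_1 lc_d_Cert_tree lc_d_rc_15_1 lc_d_rc_15_1 lc_d_Cert_tree lc_d_rc_27_8 lc_d_Cert_tree lc_d_rc_15_1 lc_d_Cert_tree lc_d_rc_27_10 lc_d_rc_27_10 lc_d_rc_17_2 lc_d_rc_15_1 lc_d_rc_15_1 lc_d_rc_23_6 lc_d_rc_15_1 lc_d_rc_27_4 lc_d_Cert_tree lc_d_rc_8_3 lc_d_Cert_tree lc_d_Cert_tree lc_d_Cert_tree lc_d_rc_15_1 lc_d_rc_12_5 lc_d_rc_8_3) (@D3.rec (fun _ => (Cert rels S Gen.d))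 lc_d_rc_22_8 lc_d_Cert_tree lc_d_rc_15_1 lc_d_rc_3_3 lc_d_rc_15_1 lc_d_Cert_tree lc_d_Cert_tree lc_d_rc_15_1 lc_d_Cert_tree lc_d_rc_25_2 lc_d_rc_8_1 lc_d_Cert_tree lc_d_rc_15_1 lc_d_rc_15_1 lc_d_rc_15_1 lc_d_rc_15_1 lc_d_rc_17_2 lc_d_Cert_tree lc_d_rc_16_4 lc_d_Cert_tree lc_d_rc_15_1 lc_d_rc_27_10 lc_d_rc_22_2 lc_d_rc_17_2 lc_d_rc_15_1 lc_d_rc_16_4 lc_d_Cert_tree lc_d_rc_15_1 lc_d_Cert_tree lc_d_Cert_tree lc_d_Cert_tree lc_d_rc_15_1 lc_d_rc_24_0 lc_d_rc_27_10 lc_d_rc_15_1 lc_d_rc_17_2 lc_d_rc_24_0 lc_d_Cert_tree lc_d_rc_15_1 lc_d_Cert_tree lc_d_Cert_tree lc_d_rc_15_1 lc_d_rc_17_2 lc_d_Cert_tree lc_d_rc_15_1 lc_d_Cert_tree lc_d_rc_15_1 lc_d_Cert_tree lc_d_rc_15_1 lc_d_rc_17_2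 lc_d_Cert_tree lc_d_rc_15_1 lc_d_Cert_tree lc_d_Cert_tree lc_d_rc_15_1 lc_d_Cert_tree lc_d_Cert_tree lc_d_Cert_tree lc_d_Cert_tree lc_d_rc_15_1 lc_d_Cert_tree lc_d_Cert_tree) (@D3.rec (fun _ => (Cert rels S Gen.d)) lc_d_Cert_tree lc_d_Cert_tree lc_d_rc_15_1 lc_d_rc_24_5 lc_d_rc_27_2 lc_d_Cert_tree lc_d_rc_15_1 lc_d_rc_27_4 lc_d_Cert_tree lc_d_rc_15_1 lc_d_rc_15_1 lc_d_rc_23_8 lc_d_Cert_tree lc_d_rc_16_4 lc_d_rc_24_0 lc_d_rc_15_1 lc_d_rc_8_3 lc_d_rc_27_2 lc_d_Cert_tree lc_d_rc_15_1 lc_d_Cert_tree lc_d_rc_15_1 lc_d_Cert_tree lc_d_Cert_tree lc_d_Cert_tree lc_d_rc_17_2 lc_d_rc_23_8 lc_d_rc_8_3 lc_d_Cert_tree lc_d_rc_15_1 lc_d_rc_27_2 lc_d_Cert_tree lc_d_Cert_tree lc_d_Cert_tree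 lc_d_rc_15_1 lc_d_rc_17_2 lc_d_rc_15_1 lc_d_Cert_tree lc_d_Cert_tree lc_d_rc_15_1 lc_d_rc_8_3 lc_d_rc_17_0 lc_d_rc_15_1 lc_d_Cert_tree lc_d_Cert_tree lc_d_rc_17_2 lc_d_rc_15_1 lc_d_rc_8_3 lc_d_rc_12_3 lc_d_Cert_tree lc_d_Cert_tree lc_d_rc_15_1 lc_d_Cert_tree lc_d_Cert_tree lc_d_rc_15_1 lc_d_rc_17_2 lc_d_rc_27_10 lc_d_rc_24_0 lc_d_rc_3_1 lc_d_rc_24_0 lc_d_rc_15_1 lc_d_Cert_tree) (@D3.rec (fun _ => (Cert rels S Gen.d)) lc_d_Cert_tree lc_d_rc_15_1 lc_d_Cert_tree lc_d_Cert_tree lc_d_rc_15_1 lc_d_Cert_tree lc_d_Cert_tree lc_d_Cert_tree lc_d_rc_15_1 lc_d_Cert_tree lc_d_rc_15_1 lc_d_rc_16_4 lc_d_rc_15_1 lc_d_rc_15_1 lc_d_Cert_tree lc_d_rc_23_4 lc_d_rc_15_1 lc_d_Cert_tree lc_d_rc_8_3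 lc_d_Cert_tree lc_d_Cert_tree lc_d_rc_15_1 lc_d_rc_16_2 lc_d_rc_24_0 lc_d_rc_22_2 lc_d_Cert_tree lc_d_rc_15_1 lc_d_Cert_tree lc_d_rc_8_1 lc_d_rc_17_2 lc_d_rc_15_1 lc_d_Cert_tree lc_d_rc_16_4 lc_d_rc_15_1 lc_d_rc_15_1 lc_d_rc_8_3 lc_d_rc_23_2 lc_d_rc_16_4 lc_d_rc_8_3 lc_d_Cert_tree lc_d_Cert_tree lc_d_Cert_tree lc_d_rc_15_1 lc_d_rc_17_2 lc_d_rc_24_5 lc_d_Cert_tree lc_d_rc_15_1 lc_d_rc_16_4 lc_d_Cert_tree lc_d_rc_15_1 lc_d_rc_27_4 lc_d_Cert_tree lc_d_rc_17_2 lc_d_Cert_tree lc_d_rc_24_5 lc_d_rc_15_1 lc_d_Cert_tree lc_d_Cert_tree lc_d_rc_15_1 lc_d_rc_22_6 lc_d_Cert_tree lc_d_Cert_tree) (@D3.rec (fun _ => (Cert rels S Gen.d)) lc_d_Cert_tree lc_d_rc_15_1 lc_d_Cert_tree lc_d_rc_23_2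 lc_d_rc_15_1 lc_d_Cert_tree lc_d_Cert_tree lc_d_Cert_tree lc_d_rc_15_1 lc_d_rc_17_2 lc_d_Cert_tree lc_d_rc_27_4 lc_d_rc_8_3 lc_d_Cert_tree lc_d_Cert_tree lc_d_Cert_tree lc_d_Cert_tree lc_d_rc_17_2 lc_d_rc_23_8 lc_d_Cert_tree lc_d_rc_15_1 lc_d_Cert_tree lc_d_Cert_tree lc_d_rc_15_1 lc_d_Cert_tree lc_d_Cert_tree lc_d_Cert_tree lc_d_rc_15_1 lc_d_Cert_tree lc_d_rc_15_1 lc_d_Cert_tree lc_d_rc_15_1 lc_d_rc_8_3 lc_d_Cert_tree lc_d_rc_24_5 lc_d_Cert_tree lc_d_Cert_tree lc_d_rc_15_1 lc_d_rc_17_2 lc_d_rc_27_4 lc_d_rc_17_2 lc_d_rc_15_1 lc_d_rc_27_4 lc_d_Cert_tree lc_d_rc_15_1 lc_d_rc_22_4 lc_d_rc_17_2 lc_d_Cert_tree lc_d_rc_15_1 lc_d_rc_27_4 lc_d_Cert_tree lc_d_Cert_tree lc_d_rc_15_1 lc_d_rc_22_2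 lc_d_rc_15_1 lc_d_rc_22_8 lc_d_rc_22_2 lc_d_rc_22_6 lc_d_rc_8_3 lc_d_rc_3_3 lc_d_Cert_tree lc_d_rc_15_1) (@D3.rec (fun _ => (Cert rels S Gen.d)) lc_d_Cert_tree lc_d_Cert_tree lc_d_rc_15_1 lc_d_rc_15_1 lc_d_rc_8_3 lc_d_Cert_tree lc_d_rc_15_1 lc_d_rc_24_0 lc_d_Cert_tree lc_d_rc_15_1 lc_d_Cert_tree lc_d_rc_15_1 lc_d_rc_23_6 lc_d_Cert_tree lc_d_Cert_tree lc_d_Cert_tree lc_d_rc_15_1 lc_d_rc_17_2 lc_d_Cert_tree lc_d_Cert_tree lc_d_rc_15_1 lc_d_rc_27_4 lc_d_Cert_tree lc_d_Cert_tree lc_d_rc_15_1 lc_d_rc_27_2 lc_d_Cert_tree lc_d_Cert_tree lc_d_Cert_tree lc_d_rc_17_0 lc_d_Cert_tree lc_d_Cert_tree lc_d_rc_15_1 lc_d_rc_15_1 lc_d_Cert_tree lc_d_Cert_tree lc_d_rc_15_1 lc_d_Cert_tree lc_d_rc_15_1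 lc_d_Cert_tree lc_d_rc_15_1 lc_d_rc_24_0 lc_d_Cert_tree lc_d_rc_15_1 lc_d_rc_16_0 lc_d_rc_15_1 lc_d_rc_15_1 lc_d_rc_16_0 lc_d_rc_15_1 lc_d_rc_27_2 lc_d_rc_8_3 lc_d_Cert_tree lc_d_rc_27_10 lc_d_Cert_tree lc_d_rc_23_8 lc_d_rc_27_2 lc_d_rc_8_3 lc_d_rc_22_4 lc_d_rc_15_1 lc_d_rc_15_1 lc_d_rc_17_2 lc_d_Cert_tree) (@D3.rec (fun _ => (Cert rels S Gen.d)) lc_d_rc_15_1 lc_d_rc_8_3 lc_d_Cert_tree lc_d_rc_8_3 lc_d_rc_23_6 lc_d_Cert_tree lc_d_Cert_tree lc_d_rc_15_1 lc_d_Cert_tree lc_d_rc_15_1 lc_d_Cert_tree lc_d_rc_27_10 lc_d_rc_27_10 lc_d_rc_17_2 lc_d_rc_8_3 lc_d_rc_15_1 lc_d_Cert_tree lc_d_rc_23_8 lc_d_rc_23_2 lc_d_Cert_tree lc_d_rc_15_1 lc_d_Cert_tree lc_d_rc_15_1 lc_d_rc_23_8 lc_d_Cert_tree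 lc_d_Cert_tree lc_d_Cert_tree lc_d_rc_15_1 lc_d_rc_17_2 lc_d_Cert_tree lc_d_rc_27_4 lc_d_rc_27_2 lc_d_Cert_tree lc_d_Cert_tree lc_d_rc_15_1 lc_d_Cert_tree lc_d_rc_24_5 lc_d_Cert_tree lc_d_Cert_tree lc_d_rc_15_1 lc_d_rc_27_2 lc_d_rc_15_1 lc_d_rc_8_3 lc_d_Cert_tree lc_d_rc_8_3 lc_d_Cert_tree lc_d_Cert_tree lc_d_rc_8_3 lc_d_rc_8_3 lc_d_rc_16_4 lc_d_rc_8_3 lc_d_rc_8_3 lc_d_rc_23_2 lc_d_Cert_tree lc_d_rc_17_2 lc_d_Cert_tree lc_d_Cert_tree lc_d_rc_15_1 lc_d_Cert_tree lc_d_Cert_tree lc_d_rc_15_1 lc_d_Cert_tree) (@D3.rec (fun _ => (Cert rels S Gen.d)) lc_d_rc_15_1 lc_d_Cert_tree lc_d_Cert_tree lc_d_Cert_tree lc_d_rc_15_1 lc_d_Cert_tree lc_d_rc_24_0 lc_d_rc_15_1 lc_d_Cert_tree lc_d_rc_15_1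 lc_d_rc_15_1 lc_d_Cert_tree lc_d_rc_15_1 lc_d_rc_17_2 lc_d_rc_8_3 lc_d_rc_23_2 lc_d_rc_8_3 lc_d_Cert_tree lc_d_rc_22_4 lc_d_Cert_tree lc_d_rc_23_8 lc_d_rc_23_4 lc_d_rc_15_1 lc_d_Cert_tree lc_d_rc_17_2 lc_d_Cert_tree lc_d_Cert_tree lc_d_rc_15_1 lc_d_Cert_tree lc_d_Cert_tree lc_d_rc_15_1 lc_d_rc_27_8 lc_d_rc_3_3 lc_d_rc_15_1 lc_d_rc_3_3 lc_d_rc_8_3 lc_d_rc_8_3 lc_d_Cert_tree lc_d_rc_24_0 lc_d_rc_8_3 lc_d_Cert_tree lc_d_rc_23_2 lc_d_rc_23_4 lc_d_rc_15_1 lc_d_rc_8_3 lc_d_Cert_tree lc_d_Cert_tree lc_d_Cert_tree lc_d_rc_15_1 lc_d_Cert_tree lc_d_Cert_tree lc_d_Cert_tree lc_d_Cert_tree lc_d_rc_15_1 lc_d_Cert_tree lc_d_rc_17_2 lc_d_Cert_tree lc_d_Cert_tree lc_d_Cert_tree lc_d_rc_15_1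 lc_d_Cert_tree lc_d_rc_17_2) (@D3.rec (fun _ => (Cert rels S Gen.d)) lc_d_rc_3_3 lc_d_Cert_tree lc_d_rc_27_2 lc_d_rc_17_2 lc_d_rc_15_1 lc_d_rc_15_1 lc_d_rc_17_2 lc_d_rc_27_8 lc_d_Cert_tree lc_d_Cert_tree lc_d_Cert_tree lc_d_rc_15_1 lc_d_Cert_tree lc_d_Cert_tree lc_d_rc_15_1 lc_d_rc_27_2 lc_d_Cert_tree lc_d_Cert_tree lc_d_Cert_tree lc_d_rc_15_1 lc_d_rc_17_2 lc_d_Cert_tree lc_d_rc_16_4 lc_d_rc_15_1 lc_d_Cert_tree lc_d_rc_24_5 lc_d_Cert_tree lc_d_Cert_tree lc_d_Cert_tree lc_d_rc_15_1 lc_d_Cert_tree lc_d_Cert_tree lc_d_rc_3_3 lc_d_rc_17_2 lc_d_Cert_tree lc_d_Cert_tree lc_d_rc_15_1 lc_d_rc_3_3 lc_d_Cert_tree lc_d_rc_3_3 lc_d_Cert_tree lc_d_Cert_tree lc_d_rc_15_1 lc_d_rc_15_1 lc_d_rc_15_1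 lc_d_rc_8_1 lc_d_rc_15_1 lc_d_Cert_tree lc_d_rc_17_2 lc_d_rc_15_1 lc_d_Cert_tree lc_d_Cert_tree lc_d_rc_15_1 lc_d_Cert_tree lc_d_Cert_tree lc_d_rc_15_1 lc_d_Cert_tree lc_d_rc_15_1 lc_d_rc_27_10 lc_d_Cert_tree lc_d_Cert_tree lc_d_rc_15_1) (@D3.rec (fun _ => (Cert rels S Gen.d)) lc_d_rc_8_1 lc_d_rc_8_3 lc_d_Cert_tree lc_d_rc_15_1 lc_d_rc_15_1 lc_d_Cert_tree lc_d_rc_15_1 lc_d_rc_8_1 lc_d_rc_8_3 lc_d_Cert_tree lc_d_rc_27_8 lc_d_rc_16_4 lc_d_rc_15_1 lc_d_rc_16_4 lc_d_rc_8_1 lc_d_rc_15_1 lc_d_Cert_tree lc_d_Cert_tree lc_d_Cert_tree lc_d_rc_15_1 lc_d_Cert_tree lc_d_rc_27_10 lc_d_rc_15_1 lc_d_rc_17_2 lc_d_rc_16_4 lc_d_Cert_tree lc_d_rc_15_1 lc_d_Cert_tree lc_d_Cert_tree lc_d_rc_15_1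 lc_d_rc_24_0 lc_d_rc_15_1 lc_d_rc_15_1 lc_d_Cert_tree lc_d_rc_15_1 lc_d_Cert_tree lc_d_rc_15_1 lc_d_rc_17_2 lc_d_Cert_tree lc_d_rc_15_1 lc_d_Cert_tree lc_d_Cert_tree lc_d_rc_15_1 lc_d_Cert_tree lc_d_Cert_tree lc_d_Cert_tree lc_d_Cert_tree lc_d_rc_15_1 lc_d_Cert_tree lc_d_rc_23_6 lc_d_rc_22_4 lc_d_rc_12_7 lc_d_Cert_tree lc_d_rc_23_2 lc_d_Cert_tree lc_d_rc_15_1 lc_d_rc_17_2 lc_d_rc_27_10 lc_d_rc_27_4 lc_d_rc_27_4 lc_d_rc_8_3 lc_d_Cert_tree) (@D3.rec (fun _ => (Cert rels S Gen.d)) lc_d_Cert_tree lc_d_rc_15_1 lc_d_rc_27_10 lc_d_Cert_tree lc_d_rc_17_2 lc_d_rc_15_1 lc_d_Cert_tree lc_d_rc_16_4 lc_d_rc_15_1 lc_d_rc_15_1 lc_d_Cert_tree lc_d_rc_15_1 lc_d_rc_17_2 lc_d_rc_15_1 lc_d_Cert_tree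 lc_d_Cert_tree lc_d_Cert_tree lc_d_rc_17_2 lc_d_rc_23_4 lc_d_rc_3_3 lc_d_rc_23_4 lc_d_rc_8_1 lc_d_Cert_tree lc_d_Cert_tree lc_d_rc_15_1 lc_d_rc_27_2 lc_d_rc_23_4 lc_d_rc_27_4 lc_d_Cert_tree lc_d_rc_15_1 lc_d_rc_24_0 lc_d_Cert_tree lc_d_rc_15_1 lc_d_Cert_tree lc_d_rc_16_0 lc_d_rc_17_0 lc_d_rc_17_2 lc_d_rc_23_2 lc_d_rc_24_5 lc_d_rc_15_1 lc_d_Cert_tree lc_d_rc_24_0 lc_d_rc_15_1 lc_d_rc_17_2 lc_d_rc_15_1 lc_d_Cert_tree lc_d_Cert_tree lc_d_rc_15_1 lc_d_Cert_tree lc_d_Cert_tree lc_d_Cert_tree lc_d_rc_15_1 lc_d_Cert_tree lc_d_rc_8_3 lc_d_rc_27_10 lc_d_rc_3_3 lc_d_rc_3_1 lc_d_Cert_tree lc_d_Cert_tree lc_d_rc_27_10 lc_d_rc_15_1 lc_d_rc_8_1) (@D3.rec (fun _ => (Cert rels S Gen.d)) lc_d_rc_27_4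 lc_d_rc_27_2 lc_d_rc_15_1 lc_d_rc_15_1 lc_d_Cert_tree lc_d_rc_27_10 lc_d_rc_23_8 lc_d_rc_23_2 lc_d_rc_15_1 lc_d_rc_15_1 lc_d_rc_16_4 lc_d_Cert_tree lc_d_Cert_tree lc_d_rc_15_1 lc_d_Cert_tree lc_d_rc_16_4 lc_d_rc_17_2 lc_d_rc_17_2 lc_d_rc_22_4 lc_d_rc_27_4 lc_d_rc_15_1 lc_d_Cert_tree lc_d_rc_16_2 lc_d_Cert_tree lc_d_rc_24_0 lc_d_rc_17_2 lc_d_rc_15_1 lc_d_Cert_tree lc_d_rc_24_5 lc_d_rc_27_4 lc_d_rc_15_1 lc_d_Cert_tree lc_d_rc_16_2 lc_d_Cert_tree lc_d_rc_15_1 lc_d_rc_17_2 lc_d_Cert_tree lc_d_rc_27_4 lc_d_rc_24_5 lc_d_Cert_tree lc_d_rc_15_1 lc_d_rc_8_1 lc_d_rc_3_3 lc_d_rc_15_1 lc_d_rc_16_4 lc_d_rc_23_2 lc_d_rc_16_2 lc_d_rc_15_1 lc_d_rc_8_3 lc_d_rc_17_2 lc_d_Cert_tree lc_d_Cert_tree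 lc_d_rc_15_1 lc_d_rc_15_1 lc_d_rc_3_3 lc_d_rc_8_3 lc_d_rc_15_1 lc_d_rc_24_5 lc_d_Cert_tree lc_d_rc_16_2 lc_d_rc_8_3 lc_d_Cert_tree) (@D3.rec (fun _ => (Cert rels S Gen.d)) lc_d_rc_15_1 lc_d_rc_15_1 lc_d_Cert_tree lc_d_rc_16_4 lc_d_Cert_tree lc_d_rc_16_2 lc_d_rc_27_4 lc_d_rc_8_3 lc_d_rc_24_5 lc_d_Cert_tree lc_d_rc_15_1 lc_d_rc_8_3 lc_d_Cert_tree lc_d_rc_16_4 lc_d_Cert_tree lc_d_Cert_tree lc_d_rc_15_1 lc_d_Cert_tree lc_d_Cert_tree lc_d_Cert_tree lc_d_rc_8_3 lc_d_Cert_tree lc_d_Cert_tree lc_d_rc_15_1 lc_d_Cert_tree lc_d_rc_24_5 lc_d_rc_15_1 lc_d_Cert_tree lc_d_rc_17_2 lc_d_Cert_tree lc_d_rc_15_1 lc_d_rc_27_4 lc_d_rc_15_1 lc_d_Cert_tree lc_d_rc_15_1 lc_d_rc_27_4 lc_d_rc_15_1 lc_d_Cert_tree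 lc_d_rc_8_3 lc_d_rc_23_2 lc_d_rc_16_4 lc_d_Cert_tree lc_d_rc_15_1 lc_d_rc_27_2 lc_d_rc_3_3 lc_d_rc_27_4 lc_d_Cert_tree lc_d_rc_16_4 lc_d_rc_16_4 lc_d_rc_24_0 lc_d_rc_24_0 lc_d_rc_16_4 lc_d_Cert_tree lc_d_rc_8_3 lc_d_rc_15_1 lc_d_Cert_tree lc_d_rc_17_2 lc_d_rc_16_4 lc_d_rc_8_3 lc_d_Cert_tree lc_d_Cert_tree lc_d_rc_17_2) (@D3.rec (fun _ => (Cert rels S Gen.d)) lc_d_rc_15_1 lc_d_Cert_tree lc_d_rc_8_3 lc_d_Cert_tree lc_d_rc_23_8 lc_d_rc_8_3 lc_d_rc_15_1 lc_d_rc_8_1 lc_d_Cert_tree lc_d_Cert_tree lc_d_rc_15_1 lc_d_rc_17_2 lc_d_rc_3_3 lc_d_Cert_tree lc_d_rc_27_4 lc_d_rc_8_3 lc_d_Cert_tree lc_d_Cert_tree lc_d_Cert_tree lc_d_Cert_tree lc_d_rc_17_2 lc_d_Cert_tree lc_d_rc_15_1 lc_d_Cert_tree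 lc_d_Cert_tree lc_d_rc_15_1 lc_d_Cert_tree lc_d_Cert_tree lc_d_Cert_tree lc_d_rc_15_1 lc_d_Cert_tree lc_d_Cert_tree lc_d_Cert_tree lc_d_Cert_tree lc_d_rc_15_1 lc_d_rc_17_2 lc_d_rc_15_1 lc_d_rc_24_5 lc_d_rc_17_2 lc_d_rc_3_1 lc_d_rc_17_2 lc_d_Cert_tree lc_d_rc_27_4 lc_d_Cert_tree lc_d_rc_15_1 lc_d_rc_27_4 lc_d_Cert_tree lc_d_rc_15_1 lc_d_Cert_tree lc_d_rc_22_2 lc_d_rc_15_1 lc_d_rc_15_1 lc_d_rc_8_3 lc_d_rc_24_5 lc_d_rc_15_1 lc_d_rc_27_2 lc_d_rc_3_3 lc_d_Cert_tree lc_d_rc_15_1 lc_d_rc_22_6 lc_d_rc_16_4 lc_d_rc_15_1) (@D3.rec (fun _ => (Cert rels S Gen.d)) lc_d_rc_16_4 lc_d_rc_8_3 lc_d_rc_22_4 lc_d_rc_16_4 lc_d_rc_24_5 lc_d_rc_22_6 lc_d_rc_16_4 lc_d_rc_23_4 lc_d_rc_15_1 lc_d_rc_15_1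 lc_d_Cert_tree lc_d_rc_3_3 lc_d_rc_15_1 lc_d_rc_24_5 lc_d_rc_22_2 lc_d_rc_27_4 lc_d_rc_27_8 lc_d_rc_3_3 lc_d_rc_15_1 lc_d_Cert_tree lc_d_rc_15_1 lc_d_Cert_tree lc_d_rc_16_4 lc_d_rc_24_5 lc_d_Cert_tree lc_d_rc_15_1 lc_d_rc_8_3 lc_d_Cert_tree lc_d_rc_16_4 lc_d_Cert_tree lc_d_Cert_tree lc_d_rc_15_1 lc_d_Cert_tree lc_d_Cert_tree lc_d_rc_15_1 lc_d_rc_17_2 lc_d_Cert_tree lc_d_rc_16_4 lc_d_rc_15_1 lc_d_rc_3_3 lc_d_rc_17_2 lc_d_rc_15_1 lc_d_rc_16_0 lc_d_rc_16_4 lc_d_rc_15_1 lc_d_rc_17_2 lc_d_rc_15_1 lc_d_Cert_tree lc_d_rc_15_1 lc_d_Cert_tree lc_d_rc_15_1 lc_d_rc_15_1 lc_d_rc_24_0 lc_d_rc_17_2 lc_d_rc_17_0 lc_d_rc_22_4 lc_d_rc_16_4 lc_d_rc_22_4 lc_d_rc_8_3 lc_d_rc_16_2 lc_d_rc_15_1 lc_d_rc_16_4)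 (@D3.rec (fun _ => (Cert rels S Gen.d)) lc_d_rc_15_1 lc_d_rc_16_2 lc_d_Cert_tree lc_d_rc_23_2 lc_d_rc_3_3 lc_d_rc_15_1 lc_d_rc_17_2 lc_d_rc_8_3 lc_d_Cert_tree lc_d_Cert_tree lc_d_Cert_tree lc_d_rc_15_1 lc_d_rc_15_1 lc_d_rc_3_1 lc_d_rc_17_2 lc_d_rc_8_3 lc_d_rc_23_4 lc_d_rc_3_1 lc_d_rc_15_1 lc_d_Cert_tree lc_d_Cert_tree lc_d_rc_15_1 lc_d_Cert_tree lc_d_Cert_tree lc_d_Cert_tree lc_d_rc_15_1 lc_d_Cert_tree lc_d_rc_15_1 lc_d_rc_15_1 lc_d_Cert_tree lc_d_rc_16_4 lc_d_Cert_tree lc_d_rc_15_1 lc_d_Cert_tree lc_d_rc_16_4 lc_d_Cert_tree lc_d_rc_15_1 lc_d_Cert_tree lc_d_Cert_tree lc_d_rc_15_1 lc_d_rc_15_1 lc_d_rc_8_3 lc_d_Cert_tree lc_d_Cert_tree lc_d_Cert_tree lc_d_rc_15_1 lc_d_rc_27_2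 lc_d_Cert_tree lc_d_rc_16_4 lc_d_rc_15_1 lc_d_Cert_tree lc_d_Cert_tree lc_d_Cert_tree lc_d_Cert_tree lc_d_rc_15_1 lc_d_Cert_tree lc_d_Cert_tree lc_d_Cert_tree lc_d_rc_15_1 lc_d_rc_17_2 lc_d_Cert_tree lc_d_rc_15_1) (@D3.rec (fun _ => (Cert rels S Gen.d)) lc_d_Cert_tree lc_d_rc_17_2 lc_d_rc_27_8 lc_d_rc_16_4 lc_d_Cert_tree lc_d_rc_8_3 lc_d_rc_17_2 lc_d_rc_3_3 lc_d_Cert_tree lc_d_rc_16_4 lc_d_rc_15_1 lc_d_rc_17_2 lc_d_Cert_tree lc_d_rc_15_1 lc_d_Cert_tree lc_d_rc_15_1 lc_d_Cert_tree lc_d_rc_15_1 lc_d_rc_15_1 lc_d_rc_22_6 lc_d_rc_17_2 lc_d_rc_17_0 lc_d_rc_16_4 lc_d_Cert_tree lc_d_rc_15_1 lc_d_rc_15_1 lc_d_rc_16_2 lc_d_rc_15_1 lc_d_Cert_tree lc_d_rc_16_4 lc_d_rc_15_1 lc_d_rc_15_1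 lc_d_Cert_tree lc_d_rc_16_4 lc_d_rc_15_1 lc_d_Cert_tree lc_d_Cert_tree lc_d_rc_15_1 lc_d_Cert_tree lc_d_Cert_tree lc_d_rc_15_1 lc_d_rc_15_1 lc_d_rc_15_1 lc_d_rc_24_0 lc_d_Cert_tree lc_d_rc_16_2 lc_d_rc_23_4 lc_d_rc_15_1 lc_d_Cert_tree lc_d_rc_16_2 lc_d_rc_15_1 lc_d_Cert_tree lc_d_rc_16_4 lc_d_Cert_tree lc_d_Cert_tree lc_d_rc_15_1 lc_d_Cert_tree lc_d_rc_23_8 lc_d_Cert_tree lc_d_rc_15_1 lc_d_rc_17_2 lc_d_rc_3_3) (@D3.rec (fun _ => (Cert rels S Gen.d)) lc_d_rc_8_3 lc_d_rc_22_6 lc_d_rc_8_3 lc_d_rc_8_3 lc_d_rc_8_3 lc_d_rc_27_4 lc_d_rc_17_2 lc_d_rc_8_1 lc_d_rc_15_1 lc_d_rc_16_4 lc_d_rc_22_2 lc_d_Cert_tree lc_d_rc_15_1 lc_d_rc_15_1 lc_d_Cert_tree lc_d_rc_16_4 lc_d_rc_8_3 lc_d_rc_16_4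 lc_d_rc_15_1 lc_d_Cert_tree lc_d_rc_15_1 lc_d_rc_15_1 lc_d_rc_3_1 lc_d_rc_15_1 lc_d_rc_16_4 lc_d_rc_17_2 lc_d_Cert_tree lc_d_rc_3_3 lc_d_Cert_tree lc_d_Cert_tree lc_d_rc_8_1 lc_d_rc_15_1 lc_d_Cert_tree lc_d_rc_17_2 lc_d_Cert_tree lc_d_rc_24_5 lc_d_Cert_tree lc_d_rc_15_1 lc_d_rc_15_1 lc_d_rc_15_1 lc_d_Cert_tree lc_d_Cert_tree lc_d_Cert_tree lc_d_Cert_tree lc_d_rc_15_1 lc_d_rc_23_2 lc_d_Cert_tree lc_d_rc_15_1 lc_d_Cert_tree lc_d_rc_15_1 lc_d_Cert_tree lc_d_Cert_tree lc_d_rc_15_1 lc_d_rc_17_2 lc_d_rc_15_1 lc_d_rc_15_1 lc_d_rc_24_5 lc_d_rc_17_2 lc_d_rc_8_1 lc_d_Cert_tree lc_d_Cert_tree lc_d_rc_22_2) (@D3.rec (fun _ => (Cert rels S Gen.d)) lc_d_rc_8_3 lc_d_rc_17_0 lc_d_Cert_tree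 lc_d_Cert_tree lc_d_Cert_tree lc_d_rc_15_1 lc_d_Cert_tree lc_d_Cert_tree lc_d_rc_15_1 lc_d_rc_17_2 lc_d_rc_22_6 lc_d_rc_23_6 lc_d_Cert_tree lc_d_rc_23_2 lc_d_rc_24_0 lc_d_rc_24_0 lc_d_rc_15_1 lc_d_Cert_tree lc_d_Cert_tree lc_d_Cert_tree lc_d_rc_15_1 lc_d_rc_17_2 lc_d_rc_8_3 lc_d_Cert_tree lc_d_rc_15_1 lc_d_rc_23_2 lc_d_rc_15_1 lc_d_rc_15_1 lc_d_rc_15_1 lc_d_Cert_tree lc_d_rc_15_1 lc_d_rc_15_1 lc_d_Cert_tree lc_d_rc_8_1 lc_d_rc_24_0 lc_d_rc_15_1 lc_d_Cert_tree lc_d_Cert_tree lc_d_rc_23_2 lc_d_Cert_tree lc_d_rc_15_1 lc_d_Cert_tree lc_d_rc_15_1 lc_d_rc_15_1 lc_d_rc_23_2 lc_d_Cert_tree lc_d_rc_17_2 lc_d_Cert_tree lc_d_Cert_tree lc_d_rc_15_1 lc_d_rc_17_2 lc_d_Cert_tree lc_d_Cert_tree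 lc_d_Cert_tree lc_d_rc_15_1 lc_d_Cert_tree lc_d_Cert_tree lc_d_Cert_tree lc_d_rc_15_1 lc_d_Cert_tree lc_d_rc_16_4 lc_d_Cert_tree) (@D3.rec (fun _ => (Cert rels S Gen.d)) lc_d_Cert_tree lc_d_rc_15_1 lc_d_Cert_tree lc_d_rc_15_1 lc_d_rc_15_1 lc_d_rc_15_1 lc_d_Cert_tree lc_d_Cert_tree lc_d_rc_27_2 lc_d_rc_24_0 lc_d_rc_23_2 lc_d_rc_15_1 lc_d_Cert_tree lc_d_Cert_tree lc_d_Cert_tree lc_d_rc_15_1 lc_d_rc_8_3 lc_d_Cert_tree lc_d_rc_15_1 lc_d_rc_27_4 lc_d_rc_15_1 lc_d_Cert_tree lc_d_Cert_tree lc_d_rc_17_2 lc_d_rc_23_8 lc_d_rc_15_1 lc_d_rc_15_1 lc_d_rc_24_0 lc_d_Cert_tree lc_d_rc_8_3 lc_d_rc_15_1 lc_d_rc_25_18 lc_d_Cert_tree lc_d_rc_15_1 lc_d_Cert_tree lc_d_Cert_tree lc_d_rc_24_5 lc_d_Cert_tree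 lc_d_Cert_tree lc_d_Cert_tree lc_d_Cert_tree lc_d_rc_15_1 lc_d_rc_3_3 lc_d_rc_27_8 lc_d_rc_15_1 lc_d_Cert_tree lc_d_Cert_tree lc_d_rc_15_1 lc_d_rc_15_1 lc_d_rc_8_1 lc_d_Cert_tree lc_d_Cert_tree lc_d_rc_15_1 lc_d_rc_24_5 lc_d_rc_16_4 lc_d_Cert_tree lc_d_rc_15_1 lc_d_Cert_tree lc_d_rc_27_4 lc_d_rc_27_8 lc_d_rc_17_2 lc_d_rc_15_1) (@D3.rec (fun _ => (Cert rels S Gen.d)) lc_d_rc_17_2 lc_d_rc_8_1 lc_d_Cert_tree lc_d_Cert_tree lc_d_rc_15_1 lc_d_Cert_tree lc_d_rc_8_3 lc_d_rc_27_10 lc_d_rc_15_1 lc_d_rc_17_2 lc_d_Cert_tree lc_d_rc_23_6 lc_d_rc_15_1 lc_d_rc_27_4 lc_d_rc_16_4 lc_d_rc_24_0 lc_d_rc_15_1 lc_d_rc_27_4 lc_d_rc_17_2 lc_d_rc_15_1 lc_d_rc_16_4 lc_d_rc_8_3 lc_d_rc_25_10 lc_d_Cert_tree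 lc_d_rc_15_1 lc_d_rc_15_1 lc_d_rc_15_1 lc_d_Cert_tree lc_d_rc_23_2 lc_d_rc_23_6 lc_d_rc_15_1 lc_d_rc_17_2 lc_d_Cert_tree lc_d_Cert_tree lc_d_rc_15_1 lc_d_rc_17_2 lc_d_rc_15_1 lc_d_rc_27_4 lc_d_Cert_tree lc_d_rc_15_1 lc_d_rc_23_6 lc_d_rc_15_1 lc_d_Cert_tree lc_d_rc_17_2 lc_d_rc_15_1 lc_d_Cert_tree lc_d_rc_15_1 lc_d_rc_15_1 lc_d_rc_15_1 lc_d_rc_27_4 lc_d_Cert_tree lc_d_rc_16_2 lc_d_Cert_tree lc_d_rc_15_1 lc_d_rc_22_8 lc_d_rc_16_4 lc_d_rc_15_1 lc_d_rc_16_4 lc_d_rc_8_3 lc_d_rc_22_4 lc_d_rc_22_2 lc_d_rc_15_1) (@D3.rec (fun _ => (Cert rels S Gen.d)) lc_d_rc_15_1 lc_d_Cert_tree lc_d_rc_15_1 lc_d_rc_15_1 lc_d_Cert_tree lc_d_Cert_tree lc_d_Cert_tree lc_d_rc_15_1 lc_d_rc_17_2 lc_d_rc_27_4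 lc_d_rc_23_2 lc_d_rc_24_0 lc_d_rc_12_3 lc_d_rc_17_2 lc_d_rc_8_3 lc_d_rc_15_1 lc_d_rc_3_3 lc_d_rc_15_1 lc_d_rc_15_1 lc_d_rc_15_1 lc_d_rc_17_2 lc_d_rc_16_4 lc_d_rc_15_1 lc_d_rc_15_1 lc_d_Cert_tree lc_d_rc_16_4 lc_d_rc_8_3 lc_d_rc_27_2 lc_d_rc_24_5 lc_d_Cert_tree lc_d_rc_23_8 lc_d_rc_23_2 lc_d_rc_15_1 lc_d_Cert_tree lc_d_Cert_tree lc_d_Cert_tree lc_d_rc_17_2 lc_d_Cert_tree lc_d_rc_15_1 lc_d_rc_15_1 lc_d_rc_15_1 lc_d_rc_27_8 lc_d_rc_15_1 lc_d_Cert_tree lc_d_rc_15_1 lc_d_rc_24_0 lc_d_rc_16_4 lc_d_Cert_tree lc_d_rc_16_4 lc_d_Cert_tree lc_d_rc_17_2 lc_d_Cert_tree lc_d_rc_15_1 lc_d_Cert_tree lc_d_rc_27_4 lc_d_rc_23_2 lc_d_Cert_tree lc_d_rc_8_3 lc_d_rc_8_3 lc_d_rc_15_1 lc_d_Cert_tree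 lc_d_rc_23_8) (@D3.rec (fun _ => (Cert rels S Gen.d)) lc_d_rc_15_1 lc_d_Cert_tree lc_d_Cert_tree lc_d_rc_15_1 lc_d_rc_17_2 lc_d_Cert_tree lc_d_rc_8_3 lc_d_Cert_tree lc_d_Cert_tree lc_d_Cert_tree lc_d_rc_15_1 lc_d_rc_17_2 lc_d_Cert_tree lc_d_rc_15_1 lc_d_rc_3_3 lc_d_rc_8_3 lc_d_rc_16_4 lc_d_Cert_tree lc_d_rc_15_1 lc_d_Cert_tree lc_d_Cert_tree lc_d_Cert_tree lc_d_Cert_tree lc_d_Cert_tree lc_d_rc_15_1 lc_d_rc_17_2 lc_d_Cert_tree lc_d_Cert_tree lc_d_rc_15_1 lc_d_rc_27_4 lc_d_Cert_tree lc_d_Cert_tree lc_d_rc_15_1 lc_d_Cert_tree lc_d_Cert_tree lc_d_Cert_tree lc_d_Cert_tree lc_d_rc_17_2 lc_d_Cert_tree lc_d_rc_24_0 lc_d_rc_15_1 lc_d_rc_15_1 lc_d_rc_3_3 lc_d_rc_8_3 lc_d_rc_23_4 lc_d_rc_8_3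 lc_d_rc_8_3 lc_d_rc_3_3 lc_d_rc_15_1 lc_d_Cert_tree lc_d_rc_15_1 lc_d_rc_15_1 lc_d_rc_15_1 lc_d_Cert_tree lc_d_Cert_tree lc_d_Cert_tree lc_d_rc_15_1 lc_d_Cert_tree lc_d_Cert_tree lc_d_rc_15_1 lc_d_Cert_tree lc_d_rc_15_1) (@D3.rec (fun _ => (Cert rels S Gen.d)) lc_d_rc_8_3 lc_d_rc_17_2 lc_d_rc_15_1 lc_d_rc_15_1 lc_d_rc_3_3 lc_d_rc_23_4 lc_d_rc_15_1 lc_d_rc_16_4 lc_d_rc_24_5 lc_d_rc_15_1 lc_d_rc_15_1 lc_d_Cert_tree lc_d_rc_27_4 lc_d_rc_23_6 lc_d_rc_15_1 lc_d_Cert_tree lc_d_rc_22_4 lc_d_rc_27_10 lc_d_rc_23_8 lc_d_rc_15_1 lc_d_rc_23_6 lc_d_rc_3_3 lc_d_rc_15_1 lc_d_rc_27_8 lc_d_rc_8_3 lc_d_Cert_tree lc_d_rc_17_2 lc_d_rc_15_1 lc_d_rc_22_6 lc_d_rc_16_4 lc_d_rc_8_3 lc_d_rc_15_1 lc_d_rc_15_1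 lc_d_rc_8_3 lc_d_rc_12_15 lc_d_Cert_tree lc_d_rc_27_10 lc_d_rc_15_1 lc_d_rc_23_4 lc_d_rc_15_1 lc_d_rc_15_1 lc_d_rc_15_1 lc_d_rc_23_4 lc_d_Cert_tree lc_d_rc_8_3 lc_d_rc_16_4 lc_d_Cert_tree lc_d_rc_15_1 lc_d_rc_15_1 lc_d_rc_8_3 lc_d_rc_15_1 lc_d_Cert_tree lc_d_rc_27_2 lc_d_rc_15_1 lc_d_rc_8_3 lc_d_Cert_tree lc_d_rc_15_1 lc_d_rc_15_1 lc_d_rc_23_2 lc_d_rc_15_1 lc_d_rc_24_0 lc_d_rc_16_4) (@D3.rec (fun _ => (Cert rels S Gen.d)) lc_d_rc_27_4 lc_d_rc_16_0 lc_d_rc_17_2 lc_d_rc_15_1 lc_d_rc_24_0 lc_d_rc_16_4 lc_d_rc_8_3 lc_d_rc_27_2 lc_d_rc_15_1 lc_d_rc_17_2 lc_d_rc_16_2 lc_d_rc_8_3 lc_d_rc_23_4 lc_d_rc_24_5 lc_d_rc_22_6 lc_d_rc_12_15 lc_d_rc_17_2 lc_d_rc_16_0 lc_d_rc_15_1 lc_d_rc_27_4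 lc_d_Cert_tree lc_d_rc_15_1 lc_d_rc_15_1 lc_d_rc_27_4 lc_d_rc_8_3 lc_d_rc_15_1 lc_d_rc_16_4 lc_d_rc_8_3 lc_d_Cert_tree lc_d_Cert_tree lc_d_rc_15_1 lc_d_rc_16_4 lc_d_rc_23_6 lc_d_rc_23_4 lc_d_Cert_tree lc_d_rc_15_1 lc_d_rc_15_1 lc_d_rc_16_0 lc_d_rc_27_4 lc_d_rc_15_1 lc_d_rc_24_5 lc_d_rc_16_4 lc_d_rc_8_3 lc_d_rc_15_1 lc_d_rc_16_4 lc_d_rc_8_3 lc_d_rc_15_1 lc_d_rc_17_2 lc_d_rc_15_1 lc_d_rc_23_6 lc_d_rc_15_1 lc_d_rc_23_2 lc_d_rc_16_4 lc_d_rc_8_1 lc_d_rc_27_8 lc_d_rc_3_1 lc_d_rc_17_2 lc_d_Cert_tree lc_d_Cert_tree lc_d_rc_15_1 lc_d_rc_8_3 lc_d_rc_15_1) (@D3.rec (fun _ => (Cert rels S Gen.d)) lc_d_Cert_tree lc_d_rc_15_1 lc_d_rc_16_4 lc_d_rc_22_2 lc_d_Cert_tree lc_d_Cert_tree lc_d_rc_17_2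 lc_d_rc_12_15 lc_d_rc_16_2 lc_d_rc_24_0 lc_d_Cert_tree lc_d_Cert_tree lc_d_Cert_tree lc_d_rc_17_2 lc_d_rc_15_1 lc_d_rc_15_1 lc_d_rc_3_3 lc_d_Cert_tree lc_d_Cert_tree lc_d_rc_17_2 lc_d_rc_8_3 lc_d_Cert_tree lc_d_Cert_tree lc_d_rc_22_6 lc_d_rc_16_4 lc_d_rc_17_2 lc_d_rc_15_1 lc_d_rc_15_1 lc_d_rc_27_4 lc_d_Cert_tree lc_d_Cert_tree lc_d_rc_15_1 lc_d_rc_27_4 lc_d_rc_12_1 lc_d_rc_15_1 lc_d_Cert_tree lc_d_rc_27_10 lc_d_rc_27_10 lc_d_rc_23_4 lc_d_rc_15_1 lc_d_rc_15_1 lc_d_rc_27_8 lc_d_rc_3_3 lc_d_Cert_tree lc_d_rc_25_6 lc_d_Cert_tree lc_d_Cert_tree lc_d_rc_15_1 lc_d_rc_17_2 lc_d_rc_12_1 lc_d_rc_17_2 lc_d_rc_15_1 lc_d_rc_15_1 lc_d_rc_24_0 lc_d_rc_25_18 lc_d_rc_16_2 lc_d_rc_15_1 lc_d_rc_27_4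 lc_d_rc_17_2 lc_d_rc_8_3 lc_d_rc_15_1 lc_d_rc_16_2) (@D3.rec (fun _ => (Cert rels S Gen.d)) lc_d_rc_17_2 lc_d_rc_12_1 lc_d_Cert_tree lc_d_rc_15_1 lc_d_rc_27_2 lc_d_rc_17_2 lc_d_rc_16_4 lc_d_rc_8_3 lc_d_rc_27_2 lc_d_Cert_tree lc_d_rc_17_2 lc_d_rc_16_4 lc_d_rc_8_3 lc_d_rc_15_1 lc_d_rc_17_2 lc_d_rc_8_3 lc_d_rc_27_8 lc_d_rc_24_5 lc_d_rc_27_2 lc_d_rc_27_10 lc_d_rc_16_0 lc_d_rc_15_1 lc_d_rc_16_2 lc_d_rc_8_1 lc_d_rc_27_10 lc_d_rc_15_1 lc_d_rc_27_4 lc_d_Cert_tree lc_d_rc_22_6 lc_d_rc_15_1 lc_d_Cert_tree lc_d_rc_17_2 lc_d_rc_15_1 lc_d_rc_22_4 lc_d_rc_17_2 lc_d_rc_8_3 lc_d_rc_22_4 lc_d_rc_16_4 lc_d_rc_8_3 lc_d_rc_22_4 lc_d_rc_23_4 lc_d_rc_22_4 lc_d_Cert_tree lc_d_rc_16_4 lc_d_rc_27_2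 lc_d_rc_15_1 lc_d_rc_16_4 lc_d_rc_27_10 lc_d_Cert_tree lc_d_Cert_tree lc_d_rc_15_1 lc_d_rc_27_4 lc_d_rc_15_1 lc_d_rc_8_3 lc_d_rc_16_4 lc_d_Cert_tree lc_d_rc_15_1 lc_d_rc_15_1 lc_d_rc_15_1 lc_d_rc_24_0 lc_d_rc_24_0 lc_d_Cert_tree) (@D3.rec (fun _ => (Cert rels S Gen.d)) lc_d_rc_15_1 lc_d_rc_23_2 lc_d_Cert_tree lc_d_rc_16_2 lc_d_rc_3_3 lc_d_rc_23_2 lc_d_rc_16_2 lc_d_Cert_tree lc_d_rc_15_1 lc_d_rc_15_1 lc_d_rc_23_4 lc_d_rc_15_1 lc_d_Cert_tree lc_d_rc_8_3 lc_d_rc_16_4 lc_d_rc_15_1 lc_d_rc_15_1 lc_d_rc_12_9 lc_d_rc_16_4 lc_d_rc_15_1 lc_d_Cert_tree lc_d_rc_16_4 lc_d_rc_8_3 lc_d_Cert_tree lc_d_rc_15_1 lc_d_Cert_tree lc_d_rc_15_1 lc_d_rc_15_1 lc_d_Cert_tree lc_d_rc_23_8 lc_d_rc_24_0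 lc_d_rc_15_1 lc_d_Cert_tree lc_d_rc_15_1 lc_d_rc_24_0 lc_d_rc_16_4 lc_d_rc_15_1 lc_d_Cert_tree lc_d_rc_15_1 lc_d_rc_15_1 lc_d_Cert_tree lc_d_rc_15_1 lc_d_Cert_tree lc_d_rc_16_4 lc_d_rc_3_3 lc_d_rc_16_4 lc_d_rc_27_10 lc_d_rc_15_1 lc_d_rc_8_3 lc_d_rc_15_1 lc_d_Cert_tree lc_d_rc_22_4 lc_d_Cert_tree lc_d_Cert_tree lc_d_rc_15_1 lc_d_rc_27_10 lc_d_rc_15_1 lc_d_Cert_tree lc_d_rc_15_1 lc_d_Cert_tree lc_d_rc_15_1 lc_d_rc_24_0) (@D3.rec (fun _ => (Cert rels S Gen.d)) lc_d_rc_15_1 lc_d_Cert_tree lc_d_rc_17_2 lc_d_rc_15_1 lc_d_rc_8_3 lc_d_Cert_tree lc_d_rc_15_1 lc_d_rc_12_1 lc_d_rc_16_4 lc_d_rc_24_5 lc_d_Cert_tree lc_d_rc_24_5 lc_d_rc_16_4 lc_d_rc_3_3 lc_d_rc_15_1 lc_d_Cert_tree lc_d_Cert_tree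 lc_d_Cert_tree lc_d_rc_15_1 lc_d_rc_17_2 lc_d_Cert_tree lc_d_rc_15_1 lc_d_rc_27_4 lc_d_rc_15_1 lc_d_rc_3_3 lc_d_Cert_tree lc_d_rc_17_2 lc_d_rc_24_0 lc_d_rc_27_4 lc_d_Cert_tree lc_d_rc_15_1 lc_d_rc_17_2 lc_d_rc_17_2 lc_d_rc_16_4 lc_d_Cert_tree lc_d_rc_15_1 lc_d_rc_8_3 lc_d_Cert_tree lc_d_rc_15_1 lc_d_rc_17_2 lc_d_Cert_tree lc_d_rc_15_1 lc_d_rc_23_8 lc_d_rc_8_1 lc_d_rc_15_1 lc_d_rc_27_8 lc_d_rc_15_1 lc_d_rc_15_1 lc_d_rc_22_6 lc_d_rc_15_1 lc_d_Cert_tree lc_d_rc_15_1 lc_d_rc_22_6 lc_d_rc_23_6 lc_d_Cert_tree lc_d_Cert_tree lc_d_rc_15_1 lc_d_Cert_tree lc_d_rc_15_1 lc_d_Cert_tree lc_d_rc_15_1 lc_d_Cert_tree) (@D3.rec (fun _ => (Cert rels S Gen.d)) lc_d_rc_27_2 lc_d_rc_24_5 lc_d_Cert_tree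 lc_d_rc_16_2 lc_d_Cert_tree lc_d_rc_16_4 lc_d_Cert_tree lc_d_Cert_tree lc_d_rc_15_1 lc_d_rc_17_2 lc_d_rc_16_4 lc_d_Cert_tree lc_d_rc_15_1 lc_d_rc_8_1 lc_d_rc_16_2 lc_d_rc_27_2 lc_d_rc_23_8 lc_d_rc_15_1 lc_d_rc_16_2 lc_d_rc_27_2 lc_d_rc_8_3 lc_d_Cert_tree lc_d_rc_27_2 lc_d_rc_8_3 lc_d_rc_3_3 lc_d_rc_8_3 lc_d_rc_3_3 lc_d_rc_27_10 lc_d_rc_27_4 lc_d_rc_15_1 lc_d_rc_27_2 lc_d_rc_23_8 lc_d_Cert_tree lc_d_rc_23_8 lc_d_rc_15_1 lc_d_rc_24_0 lc_d_rc_15_1 lc_d_Cert_tree lc_d_rc_22_2 lc_d_rc_8_3 lc_d_Cert_tree lc_d_rc_15_1 lc_d_rc_8_1 lc_d_rc_15_1 lc_d_Cert_tree lc_d_rc_15_1 lc_d_rc_23_2 lc_d_rc_15_1 lc_d_Cert_tree lc_d_Cert_tree lc_d_rc_15_1 lc_d_rc_3_3 lc_d_rc_15_1 lc_d_rc_16_4 lc_d_rc_15_1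 lc_d_Cert_tree lc_d_rc_15_1 lc_d_rc_17_2 lc_d_rc_15_1 lc_d_rc_15_1 lc_d_Cert_tree lc_d_rc_15_1) (@D3.rec (fun _ => (Cert rels S Gen.d)) lc_d_rc_15_1 lc_d_rc_8_3 lc_d_rc_16_4 lc_d_rc_15_1 lc_d_Cert_tree lc_d_Cert_tree lc_d_rc_15_1 lc_d_rc_8_3 lc_d_rc_23_4 lc_d_rc_8_3 lc_d_rc_22_8 lc_d_Cert_tree lc_d_rc_3_3 lc_d_rc_23_8 lc_d_Cert_tree lc_d_rc_15_1 lc_d_Cert_tree lc_d_Cert_tree lc_d_Cert_tree lc_d_rc_15_1 lc_d_rc_17_2 lc_d_Cert_tree lc_d_rc_15_1 lc_d_Cert_tree lc_d_rc_15_1 lc_d_Cert_tree lc_d_rc_23_6 lc_d_Cert_tree lc_d_rc_17_2 lc_d_rc_23_6 lc_d_rc_24_0 lc_d_Cert_tree lc_d_Cert_tree lc_d_rc_17_2 lc_d_rc_16_2 lc_d_rc_3_3 lc_d_rc_15_1 lc_d_Cert_tree lc_d_Cert_tree lc_d_rc_15_1 lc_d_rc_17_2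 lc_d_rc_8_3 lc_d_Cert_tree lc_d_Cert_tree lc_d_rc_22_2 lc_d_rc_22_6 lc_d_Cert_tree lc_d_Cert_tree lc_d_rc_8_3 lc_d_Cert_tree lc_d_Cert_tree lc_d_rc_15_1 lc_d_Cert_tree lc_d_Cert_tree lc_d_Cert_tree lc_d_rc_15_1 lc_d_rc_27_8 lc_d_rc_15_1 lc_d_rc_17_2 lc_d_Cert_tree lc_d_rc_17_2 lc_d_Cert_tree) (@D3.rec (fun _ => (Cert rels S Gen.d)) lc_d_rc_15_1 lc_d_Cert_tree lc_d_rc_16_4 lc_d_Cert_tree lc_d_rc_15_1 lc_d_rc_16_2 lc_d_rc_8_1 lc_d_Cert_tree lc_d_rc_15_1 lc_d_Cert_tree lc_d_Cert_tree lc_d_rc_15_1 lc_d_rc_17_2 lc_d_rc_15_1 lc_d_Cert_tree lc_d_rc_16_4 lc_d_Cert_tree lc_d_rc_27_2 lc_d_rc_23_2 lc_d_rc_23_2 lc_d_Cert_tree lc_d_rc_15_1 lc_d_rc_15_1 lc_d_rc_15_1 lc_d_rc_8_3 lc_d_rc_16_4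 lc_d_rc_15_1 lc_d_Cert_tree lc_d_rc_27_10 lc_d_rc_3_3 lc_d_Cert_tree lc_d_rc_22_4 lc_d_rc_15_1 lc_d_rc_24_0 lc_d_rc_22_2 lc_d_rc_15_1 lc_d_rc_16_4 lc_d_rc_16_4 lc_d_rc_22_4 lc_d_rc_15_1 lc_d_Cert_tree lc_d_Cert_tree lc_d_Cert_tree lc_d_rc_15_1 lc_d_rc_27_10 lc_d_rc_15_1 lc_d_rc_3_3 lc_d_rc_24_0 lc_d_rc_17_2 lc_d_Cert_tree lc_d_rc_15_1 lc_d_Cert_tree lc_d_rc_16_4 lc_d_Cert_tree lc_d_rc_15_1 lc_d_rc_15_1 lc_d_rc_3_3 lc_d_rc_15_1 lc_d_Cert_tree lc_d_Cert_tree lc_d_Cert_tree lc_d_rc_15_1) (@D3.rec (fun _ => (Cert rels S Gen.d)) lc_d_rc_17_2 lc_d_rc_15_1 lc_d_rc_15_1 lc_d_rc_22_8 lc_d_Cert_tree lc_d_rc_15_1 lc_d_Cert_tree lc_d_Cert_tree lc_d_Cert_tree lc_d_rc_15_1 lc_d_rc_17_2 lc_d_Cert_tree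 lc_d_rc_15_1 lc_d_Cert_tree lc_d_rc_15_1 lc_d_Cert_tree lc_d_rc_25_6 lc_d_Cert_tree lc_d_Cert_tree lc_d_rc_15_1 lc_d_rc_23_2 lc_d_rc_17_2 lc_d_rc_15_1 lc_d_rc_24_0 lc_d_rc_16_2 lc_d_rc_17_2 lc_d_Cert_tree lc_d_rc_27_4 lc_d_rc_15_1 lc_d_rc_16_4 lc_d_rc_17_0 lc_d_rc_16_4 lc_d_rc_16_0 lc_d_rc_27_2 lc_d_rc_15_1 lc_d_Cert_tree lc_d_rc_16_4 lc_d_Cert_tree lc_d_rc_15_1 lc_d_Cert_tree lc_d_rc_15_1 lc_d_Cert_tree lc_d_Cert_tree lc_d_Cert_tree lc_d_rc_15_1 lc_d_rc_17_2 lc_d_rc_15_1 lc_d_rc_24_5 lc_d_rc_15_1 lc_d_Cert_tree lc_d_rc_17_2 lc_d_rc_15_1 lc_d_Cert_tree lc_d_rc_8_3 lc_d_Cert_tree lc_d_rc_15_1 lc_d_rc_17_2 lc_d_rc_24_0 lc_d_Cert_tree lc_d_rc_24_5 lc_d_rc_15_1 lc_d_Cert_tree) (@D3.rec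 (fun _ => (Cert rels S Gen.d)) lc_d_Cert_tree lc_d_Cert_tree lc_d_Cert_tree lc_d_rc_15_1 lc_d_rc_17_2 lc_d_Cert_tree lc_d_rc_15_1 lc_d_rc_27_8 lc_d_rc_15_1 lc_d_Cert_tree lc_d_rc_17_2 lc_d_Cert_tree lc_d_rc_16_4 lc_d_Cert_tree lc_d_rc_15_1 lc_d_Cert_tree lc_d_Cert_tree lc_d_Cert_tree lc_d_rc_15_1 lc_d_rc_17_2 lc_d_rc_16_4 lc_d_rc_15_1 lc_d_Cert_tree lc_d_Cert_tree lc_d_Cert_tree lc_d_rc_15_1 lc_d_rc_17_2 lc_d_Cert_tree lc_d_Cert_tree lc_d_rc_15_1 lc_d_rc_27_2 lc_d_Cert_tree lc_d_Cert_tree lc_d_rc_15_1 lc_d_rc_24_0 lc_d_rc_16_4 lc_d_Cert_tree lc_d_rc_15_1 lc_d_Cert_tree lc_d_Cert_tree lc_d_rc_17_2 lc_d_rc_15_1 lc_d_rc_17_2 lc_d_rc_15_1 lc_d_Cert_tree lc_d_Cert_tree lc_d_rc_25_18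 lc_d_rc_8_3 lc_d_rc_22_2 lc_d_rc_15_1 lc_d_Cert_tree lc_d_rc_23_2 lc_d_rc_24_0 lc_d_Cert_tree lc_d_Cert_tree lc_d_rc_15_1 lc_d_rc_17_2 lc_d_rc_15_1 lc_d_rc_15_1 lc_d_rc_15_1 lc_d_Cert_tree lc_d_Cert_tree)
def ce_d_6 : D2 → D3 → (Cert rels S Gen.d) := @D2.rec (fun _ => D3 → (Cert rels S Gen.d)) (@D3.rec (fun _ => (Cert rels S Gen.d)) lc_d_rc_17_2 lc_d_rc_12_15 lc_d_rc_16_4 lc_d_rc_8_3 lc_d_Cert_tree lc_d_Cert_tree lc_d_Cert_tree lc_d_rc_17_2 lc_d_rc_24_5 lc_d_Cert_tree lc_d_rc_15_1 lc_d_Cert_tree lc_d_Cert_tree lc_d_Cert_tree lc_d_Cert_tree lc_d_rc_15_1 lc_d_rc_17_2 lc_d_Cert_tree lc_d_rc_15_1 lc_d_rc_16_4 lc_d_Cert_tree lc_d_rc_15_1 lc_d_Cert_tree lc_d_Cert_tree lc_d_rc_15_1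 lc_d_Cert_tree lc_d_rc_17_2 lc_d_rc_27_10 lc_d_rc_23_8 lc_d_Cert_tree lc_d_rc_15_1 lc_d_rc_15_1 lc_d_rc_16_4 lc_d_rc_23_6 lc_d_rc_27_2 lc_d_rc_15_1 lc_d_rc_17_2 lc_d_rc_24_5 lc_d_rc_24_0 lc_d_rc_23_4 lc_d_rc_24_0 lc_d_rc_15_1 lc_d_Cert_tree lc_d_Cert_tree lc_d_rc_15_1 lc_d_rc_17_2 lc_d_Cert_tree lc_d_rc_8_3 lc_d_Cert_tree lc_d_Cert_tree lc_d_Cert_tree lc_d_rc_15_1 lc_d_rc_17_2 lc_d_Cert_tree lc_d_rc_15_1 lc_d_Cert_tree lc_d_Cert_tree lc_d_rc_15_1 lc_d_Cert_tree lc_d_Cert_tree lc_d_Cert_tree lc_d_rc_17_2) (@D3.rec (fun _ => (Cert rels S Gen.d)) lc_d_rc_3_3 lc_d_rc_15_1 lc_d_Cert_tree lc_d_rc_15_1 lc_d_rc_15_1 lc_d_Cert_tree lc_d_Cert_tree lc_d_rc_15_1 lc_d_Cert_tree lc_d_rc_15_1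 lc_d_Cert_tree lc_d_Cert_tree lc_d_rc_27_2 lc_d_Cert_tree lc_d_rc_15_1 lc_d_rc_17_2 lc_d_rc_24_0 lc_d_Cert_tree lc_d_Cert_tree lc_d_rc_15_1 lc_d_rc_24_0 lc_d_Cert_tree lc_d_rc_15_1 lc_d_Cert_tree lc_d_rc_15_1 lc_d_rc_24_0 lc_d_rc_23_4 lc_d_Cert_tree lc_d_rc_16_4 lc_d_Cert_tree lc_d_rc_16_4 lc_d_Cert_tree lc_d_rc_16_2 lc_d_rc_8_3 lc_d_Cert_tree lc_d_rc_16_4 lc_d_Cert_tree lc_d_Cert_tree lc_d_Cert_tree lc_d_rc_15_1 lc_d_Cert_tree lc_d_rc_15_1 lc_d_Cert_tree lc_d_Cert_tree lc_d_rc_15_1 lc_d_rc_3_1 lc_d_rc_15_1 lc_d_Cert_tree lc_d_rc_15_1 lc_d_rc_15_1 lc_d_rc_22_4 lc_d_rc_16_4 lc_d_Cert_tree lc_d_Cert_tree lc_d_rc_15_1 lc_d_rc_15_1 lc_d_Cert_tree lc_d_rc_15_1 lc_d_Cert_tree lc_d_Cert_tree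 lc_d_Cert_tree lc_d_rc_17_2) (@D3.rec (fun _ => (Cert rels S Gen.d)) lc_d_Cert_tree lc_d_rc_15_1 lc_d_rc_15_1 lc_d_rc_15_1 lc_d_rc_23_2 lc_d_rc_23_8 lc_d_Cert_tree lc_d_rc_15_1 lc_d_Cert_tree lc_d_rc_15_1 lc_d_rc_16_4 lc_d_Cert_tree lc_d_rc_15_1 lc_d_Cert_tree lc_d_Cert_tree lc_d_rc_8_3 lc_d_rc_17_2 lc_d_rc_8_3 lc_d_rc_16_4 lc_d_Cert_tree lc_d_rc_23_8 lc_d_rc_22_4 lc_d_rc_25_10 lc_d_rc_17_2 lc_d_rc_24_5 lc_d_rc_15_1 lc_d_rc_17_2 lc_d_rc_24_5 lc_d_rc_15_1 lc_d_rc_27_4 lc_d_rc_27_8 lc_d_rc_15_1 lc_d_Cert_tree lc_d_rc_15_1 lc_d_rc_23_6 lc_d_rc_22_2 lc_d_rc_15_1 lc_d_Cert_tree lc_d_rc_16_0 lc_d_Cert_tree lc_d_rc_15_1 lc_d_rc_15_1 lc_d_rc_27_4 lc_d_rc_16_4 lc_d_rc_27_10 lc_d_rc_3_3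 lc_d_Cert_tree lc_d_rc_15_1 lc_d_rc_27_2 lc_d_rc_15_1 lc_d_Cert_tree lc_d_rc_15_1 lc_d_Cert_tree lc_d_Cert_tree lc_d_Cert_tree lc_d_Cert_tree lc_d_rc_16_2 lc_d_rc_16_4 lc_d_rc_27_4 lc_d_rc_15_1 lc_d_rc_15_1 lc_d_rc_15_1) (@D3.rec (fun _ => (Cert rels S Gen.d)) lc_d_rc_8_3 lc_d_rc_23_2 lc_d_rc_22_2 lc_d_rc_15_1 lc_d_rc_17_0 lc_d_rc_23_2 lc_d_rc_8_3 lc_d_rc_15_1 lc_d_Cert_tree lc_d_Cert_tree lc_d_rc_15_1 lc_d_Cert_tree lc_d_rc_15_1 lc_d_Cert_tree lc_d_rc_15_1 lc_d_Cert_tree lc_d_Cert_tree lc_d_rc_27_10 lc_d_rc_27_2 lc_d_rc_15_1 lc_d_rc_23_2 lc_d_rc_17_0 lc_d_rc_24_5 lc_d_rc_15_1 lc_d_rc_15_1 lc_d_rc_15_1 lc_d_rc_15_1 lc_d_Cert_tree lc_d_rc_15_1 lc_d_rc_16_4 lc_d_rc_23_6 lc_d_rc_8_3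 lc_d_rc_22_4 lc_d_rc_23_4 lc_d_rc_8_3 lc_d_rc_8_1 lc_d_rc_8_3 lc_d_rc_22_4 lc_d_rc_15_1 lc_d_rc_16_2 lc_d_rc_17_2 lc_d_rc_22_8 lc_d_rc_16_2 lc_d_rc_15_1 lc_d_Cert_tree lc_d_Cert_tree lc_d_rc_27_10 lc_d_rc_17_2 lc_d_Cert_tree lc_d_rc_16_2 lc_d_rc_8_3 lc_d_rc_27_2 lc_d_Cert_tree lc_d_Cert_tree lc_d_rc_17_2 lc_d_rc_17_2 lc_d_Cert_tree lc_d_rc_15_1 lc_d_rc_27_2 lc_d_Cert_tree lc_d_Cert_tree lc_d_Cert_tree) (@D3.rec (fun _ => (Cert rels S Gen.d)) lc_d_rc_15_1 lc_d_rc_16_4 lc_d_Cert_tree lc_d_rc_16_2 lc_d_rc_8_3 lc_d_rc_22_6 lc_d_rc_15_1 lc_d_rc_15_1 lc_d_rc_16_2 lc_d_rc_24_5 lc_d_rc_15_1 lc_d_rc_15_1 lc_d_rc_16_2 lc_d_rc_16_4 lc_d_Cert_tree lc_d_rc_15_1 lc_d_Cert_tree lc_d_Cert_tree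 lc_d_rc_8_1 lc_d_rc_15_1 lc_d_rc_15_1 lc_d_Cert_tree lc_d_rc_15_1 lc_d_Cert_tree lc_d_rc_23_2 lc_d_rc_8_3 lc_d_rc_3_3 lc_d_rc_8_1 lc_d_Cert_tree lc_d_Cert_tree lc_d_Cert_tree lc_d_rc_15_1 lc_d_rc_22_2 lc_d_rc_16_4 lc_d_Cert_tree lc_d_rc_8_3 lc_d_rc_15_1 lc_d_rc_16_2 lc_d_rc_15_1 lc_d_rc_24_0 lc_d_rc_12_15 lc_d_Cert_tree lc_d_rc_27_10 lc_d_rc_8_3 lc_d_rc_17_2 lc_d_rc_23_6 lc_d_rc_15_1 lc_d_rc_16_2 lc_d_rc_15_1 lc_d_rc_16_2 lc_d_rc_8_1 lc_d_rc_15_1 lc_d_Cert_tree lc_d_rc_27_10 lc_d_rc_15_1 lc_d_rc_17_2 lc_d_rc_23_6 lc_d_rc_27_4 lc_d_rc_15_1 lc_d_rc_24_0 lc_d_Cert_tree lc_d_Cert_tree) (@D3.rec (fun _ => (Cert rels S Gen.d)) lc_d_rc_8_3 lc_d_rc_27_2 lc_d_rc_16_4 lc_d_Cert_tree lc_d_rc_15_1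 lc_d_Cert_tree lc_d_rc_27_10 lc_d_rc_15_1 lc_d_rc_17_2 lc_d_rc_8_1 lc_d_rc_15_1 lc_d_Cert_tree lc_d_Cert_tree lc_d_rc_15_1 lc_d_Cert_tree lc_d_Cert_tree lc_d_rc_8_3 lc_d_Cert_tree lc_d_rc_15_1 lc_d_rc_17_2 lc_d_rc_23_6 lc_d_rc_23_6 lc_d_rc_22_8 lc_d_rc_16_4 lc_d_rc_17_2 lc_d_Cert_tree lc_d_rc_15_1 lc_d_Cert_tree lc_d_rc_22_4 lc_d_rc_23_4 lc_d_Cert_tree lc_d_rc_15_1 lc_d_Cert_tree lc_d_rc_27_10 lc_d_rc_15_1 lc_d_rc_17_2 lc_d_rc_8_3 lc_d_rc_23_4 lc_d_rc_8_3 lc_d_Cert_tree lc_d_rc_15_1 lc_d_rc_8_1 lc_d_rc_15_1 lc_d_Cert_tree lc_d_rc_15_1 lc_d_rc_23_2 lc_d_rc_23_2 lc_d_rc_23_2 lc_d_Cert_tree lc_d_rc_15_1 lc_d_Cert_tree lc_d_rc_27_10 lc_d_rc_17_2 lc_d_rc_23_4 lc_d_rc_3_1 lc_d_rc_23_6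 lc_d_rc_16_4 lc_d_rc_15_1 lc_d_Cert_tree lc_d_rc_3_3 lc_d_Cert_tree lc_d_rc_15_1) (@D3.rec (fun _ => (Cert rels S Gen.d)) lc_d_Cert_tree lc_d_Cert_tree lc_d_rc_15_1 lc_d_rc_15_1 lc_d_rc_8_3 lc_d_rc_17_2 lc_d_Cert_tree lc_d_rc_15_1 lc_d_Cert_tree lc_d_Cert_tree lc_d_rc_3_3 lc_d_Cert_tree lc_d_rc_15_1 lc_d_Cert_tree lc_d_rc_15_1 lc_d_rc_27_2 lc_d_rc_15_1 lc_d_rc_23_2 lc_d_Cert_tree lc_d_rc_15_1 lc_d_Cert_tree lc_d_rc_15_1 lc_d_rc_27_10 lc_d_rc_17_2 lc_d_rc_25_6 lc_d_rc_24_0 lc_d_rc_23_6 lc_d_rc_15_1 lc_d_rc_27_4 lc_d_rc_27_4 lc_d_rc_3_3 lc_d_rc_15_1 lc_d_rc_22_2 lc_d_Cert_tree lc_d_rc_15_1 lc_d_Cert_tree lc_d_rc_8_3 lc_d_rc_15_1 lc_d_Cert_tree lc_d_Cert_tree lc_d_rc_3_3 lc_d_rc_8_3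 lc_d_Cert_tree lc_d_rc_16_4 lc_d_Cert_tree lc_d_rc_15_1 lc_d_rc_8_3 lc_d_rc_27_10 lc_d_Cert_tree lc_d_rc_16_4 lc_d_rc_27_2 lc_d_rc_15_1 lc_d_Cert_tree lc_d_rc_27_10 lc_d_rc_23_8 lc_d_rc_22_8 lc_d_rc_15_1 lc_d_rc_15_1 lc_d_rc_23_8 lc_d_Cert_tree lc_d_rc_15_1 lc_d_Cert_tree) (@D3.rec (fun _ => (Cert rels S Gen.d)) lc_d_rc_27_10 lc_d_rc_15_1 lc_d_rc_17_2 lc_d_rc_3_3 lc_d_rc_15_1 lc_d_rc_17_2 lc_d_rc_16_4 lc_d_rc_15_1 lc_d_rc_8_3 lc_d_rc_16_4 lc_d_rc_17_2 lc_d_rc_17_2 lc_d_Cert_tree lc_d_rc_15_1 lc_d_Cert_tree lc_d_rc_27_10 lc_d_rc_16_0 lc_d_rc_15_1 lc_d_rc_3_1 lc_d_Cert_tree lc_d_rc_15_1 lc_d_rc_22_2 lc_d_rc_17_2 lc_d_Cert_tree lc_d_Cert_tree lc_d_rc_17_2 lc_d_rc_23_2 lc_d_rc_24_5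 lc_d_Cert_tree lc_d_rc_15_1 lc_d_Cert_tree lc_d_rc_15_1 lc_d_rc_27_10 lc_d_rc_15_1 lc_d_Cert_tree lc_d_rc_15_1 lc_d_rc_24_0 lc_d_rc_24_0 lc_d_Cert_tree lc_d_rc_15_1 lc_d_rc_23_2 lc_d_rc_15_1 lc_d_Cert_tree lc_d_Cert_tree lc_d_Cert_tree lc_d_rc_15_1 lc_d_rc_16_0 lc_d_rc_17_0 lc_d_rc_15_1 lc_d_rc_23_4 lc_d_rc_15_1 lc_d_rc_23_2 lc_d_rc_17_2 lc_d_rc_27_8 lc_d_rc_15_1 lc_d_rc_27_2 lc_d_rc_23_2 lc_d_Cert_tree lc_d_rc_15_1 lc_d_rc_27_4 lc_d_rc_22_4 lc_d_rc_17_0) (@D3.rec (fun _ => (Cert rels S Gen.d)) lc_d_rc_16_2 lc_d_rc_16_4 lc_d_rc_17_2 lc_d_Cert_tree lc_d_rc_15_1 lc_d_Cert_tree lc_d_rc_22_8 lc_d_rc_15_1 lc_d_rc_15_1 lc_d_rc_17_2 lc_d_rc_16_2 lc_d_rc_8_3 lc_d_Cert_tree lc_d_rc_15_1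 lc_d_rc_24_0 lc_d_Cert_tree lc_d_rc_16_4 lc_d_rc_15_1 lc_d_rc_15_1 lc_d_rc_15_1 lc_d_rc_15_1 lc_d_rc_3_3 lc_d_Cert_tree lc_d_rc_27_10 lc_d_rc_15_1 lc_d_rc_16_2 lc_d_rc_15_1 lc_d_rc_27_4 lc_d_rc_8_3 lc_d_rc_16_4 lc_d_Cert_tree lc_d_Cert_tree lc_d_rc_15_1 lc_d_rc_15_1 lc_d_rc_3_3 lc_d_Cert_tree lc_d_rc_24_5 lc_d_rc_22_4 lc_d_Cert_tree lc_d_Cert_tree lc_d_Cert_tree lc_d_rc_15_1 lc_d_rc_17_2 lc_d_rc_27_10 lc_d_Cert_tree lc_d_rc_15_1 lc_d_rc_27_4 lc_d_Cert_tree lc_d_Cert_tree lc_d_rc_15_1 lc_d_rc_27_8 lc_d_rc_27_4 lc_d_rc_15_1 lc_d_Cert_tree lc_d_rc_8_3 lc_d_rc_15_1 lc_d_rc_15_1 lc_d_rc_8_3 lc_d_Cert_tree lc_d_rc_15_1 lc_d_rc_15_1 lc_d_rc_15_1) (@D3.rec (fun _ => (Cert rels S Gen.d))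 lc_d_rc_16_2 lc_d_rc_15_1 lc_d_rc_15_1 lc_d_rc_15_1 lc_d_rc_16_2 lc_d_Cert_tree lc_d_rc_22_6 lc_d_rc_16_2 lc_d_rc_8_3 lc_d_rc_22_6 lc_d_rc_16_2 lc_d_Cert_tree lc_d_Cert_tree lc_d_rc_15_1 lc_d_rc_17_2 lc_d_rc_23_4 lc_d_rc_22_6 lc_d_rc_17_2 lc_d_Cert_tree lc_d_rc_22_6 lc_d_rc_23_4 lc_d_rc_16_2 lc_d_rc_15_1 lc_d_Cert_tree lc_d_rc_16_4 lc_d_rc_22_6 lc_d_Cert_tree lc_d_rc_15_1 lc_d_rc_15_1 lc_d_rc_8_3 lc_d_rc_3_3 lc_d_rc_16_4 lc_d_rc_15_1 lc_d_Cert_tree lc_d_Cert_tree lc_d_rc_15_1 lc_d_Cert_tree lc_d_Cert_tree lc_d_rc_16_4 lc_d_rc_8_1 lc_d_Cert_tree lc_d_Cert_tree lc_d_Cert_tree lc_d_Cert_tree lc_d_rc_15_1 lc_d_rc_15_1 lc_d_rc_8_3 lc_d_rc_15_1 lc_d_rc_8_3 lc_d_Cert_tree lc_d_rc_23_2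 lc_d_Cert_tree lc_d_rc_15_1 lc_d_rc_8_3 lc_d_rc_22_4 lc_d_rc_27_8 lc_d_rc_15_1 lc_d_rc_15_1 lc_d_rc_15_1 lc_d_Cert_tree lc_d_rc_17_2 lc_d_rc_22_2) (@D3.rec (fun _ => (Cert rels S Gen.d)) lc_d_Cert_tree lc_d_Cert_tree lc_d_rc_15_1 lc_d_rc_23_2 lc_d_rc_23_8 lc_d_rc_15_1 lc_d_Cert_tree lc_d_rc_15_1 lc_d_rc_23_8 lc_d_rc_8_3 lc_d_Cert_tree lc_d_rc_15_1 lc_d_rc_24_5 lc_d_rc_16_2 lc_d_rc_22_8 lc_d_rc_23_2 lc_d_rc_27_10 lc_d_Cert_tree lc_d_rc_15_1 lc_d_rc_27_4 lc_d_rc_23_2 lc_d_Cert_tree lc_d_rc_27_8 lc_d_rc_8_1 lc_d_rc_15_1 lc_d_rc_16_4 lc_d_rc_16_2 lc_d_rc_8_3 lc_d_rc_3_1 lc_d_rc_25_2 lc_d_rc_22_4 lc_d_rc_8_3 lc_d_rc_15_1 lc_d_Cert_tree lc_d_Cert_tree lc_d_rc_15_1 lc_d_rc_17_2 lc_d_Cert_tree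 lc_d_rc_16_4 lc_d_rc_25_6 lc_d_rc_15_1 lc_d_rc_3_1 lc_d_rc_15_1 lc_d_rc_15_1 lc_d_rc_22_2 lc_d_Cert_tree lc_d_rc_15_1 lc_d_rc_27_2 lc_d_Cert_tree lc_d_rc_15_1 lc_d_rc_23_2 lc_d_rc_15_1 lc_d_Cert_tree lc_d_rc_8_3 lc_d_Cert_tree lc_d_rc_15_1 lc_d_Cert_tree lc_d_rc_22_4 lc_d_Cert_tree lc_d_Cert_tree lc_d_Cert_tree lc_d_rc_15_1) (@D3.rec (fun _ => (Cert rels S Gen.d)) lc_d_rc_24_5 lc_d_Cert_tree lc_d_Cert_tree lc_d_rc_15_1 lc_d_rc_16_0 lc_d_rc_3_3 lc_d_rc_23_4 lc_d_rc_3_3 lc_d_Cert_tree lc_d_rc_27_10 lc_d_Cert_tree lc_d_rc_8_3 lc_d_Cert_tree lc_d_Cert_tree lc_d_Cert_tree lc_d_rc_15_1 lc_d_rc_17_2 lc_d_Cert_tree lc_d_rc_27_2 lc_d_rc_3_3 lc_d_rc_15_1 lc_d_rc_23_4 lc_d_Cert_tree lc_d_rc_15_1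 lc_d_rc_17_2 lc_d_rc_3_3 lc_d_rc_24_5 lc_d_Cert_tree lc_d_rc_22_2 lc_d_Cert_tree lc_d_rc_15_1 lc_d_Cert_tree lc_d_Cert_tree lc_d_rc_3_1 lc_d_rc_15_1 lc_d_rc_27_4 lc_d_rc_15_1 lc_d_Cert_tree lc_d_rc_15_1 lc_d_rc_8_1 lc_d_Cert_tree lc_d_rc_15_1 lc_d_rc_27_4 lc_d_Cert_tree lc_d_rc_15_1 lc_d_Cert_tree lc_d_rc_24_0 lc_d_rc_27_8 lc_d_Cert_tree lc_d_rc_15_1 lc_d_Cert_tree lc_d_Cert_tree lc_d_rc_17_2 lc_d_rc_15_1 lc_d_rc_27_4 lc_d_rc_8_1 lc_d_rc_22_6 lc_d_rc_15_1 lc_d_rc_27_8 lc_d_rc_15_1 lc_d_rc_15_1 lc_d_Cert_tree) (@D3.rec (fun _ => (Cert rels S Gen.d)) lc_d_rc_17_2 lc_d_Cert_tree lc_d_rc_15_1 lc_d_rc_15_1 lc_d_rc_12_5 lc_d_rc_15_1 lc_d_rc_15_1 lc_d_rc_16_2 lc_d_rc_8_3 lc_d_rc_23_4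 lc_d_rc_27_8 lc_d_rc_8_1 lc_d_rc_23_2 lc_d_rc_16_4 lc_d_rc_15_1 lc_d_rc_12_15 lc_d_rc_8_3 lc_d_rc_16_4 lc_d_rc_22_6 lc_d_rc_27_2 lc_d_rc_22_2 lc_d_rc_8_3 lc_d_Cert_tree lc_d_Cert_tree lc_d_Cert_tree lc_d_rc_15_1 lc_d_rc_17_2 lc_d_rc_8_3 lc_d_rc_15_1 lc_d_rc_15_1 lc_d_rc_24_0 lc_d_rc_15_1 lc_d_rc_23_6 lc_d_Cert_tree lc_d_Cert_tree lc_d_Cert_tree lc_d_Cert_tree lc_d_rc_15_1 lc_d_Cert_tree lc_d_rc_15_1 lc_d_rc_15_1 lc_d_rc_22_4 lc_d_rc_23_8 lc_d_rc_16_2 lc_d_rc_8_1 lc_d_Cert_tree lc_d_rc_22_6 lc_d_rc_15_1 lc_d_Cert_tree lc_d_Cert_tree lc_d_rc_15_1 lc_d_rc_27_8 lc_d_rc_23_4 lc_d_rc_16_0 lc_d_rc_23_2 lc_d_rc_27_4 lc_d_rc_3_3 lc_d_rc_23_2 lc_d_rc_16_4 lc_d_rc_22_2 lc_d_rc_22_8 lc_d_Cert_tree)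 (@D3.rec (fun _ => (Cert rels S Gen.d)) lc_d_rc_15_1 lc_d_rc_25_6 lc_d_rc_8_3 lc_d_rc_3_3 lc_d_rc_15_1 lc_d_rc_23_2 lc_d_rc_15_1 lc_d_rc_15_1 lc_d_rc_12_1 lc_d_rc_15_1 lc_d_rc_22_6 lc_d_rc_17_2 lc_d_Cert_tree lc_d_rc_15_1 lc_d_rc_15_1 lc_d_Cert_tree lc_d_rc_15_1 lc_d_rc_23_8 lc_d_rc_15_1 lc_d_rc_17_2 lc_d_Cert_tree lc_d_rc_15_1 lc_d_Cert_tree lc_d_Cert_tree lc_d_rc_15_1 lc_d_rc_15_1 lc_d_rc_15_1 lc_d_Cert_tree lc_d_rc_17_2 lc_d_rc_8_3 lc_d_rc_16_4 lc_d_rc_15_1 lc_d_rc_15_1 lc_d_rc_16_4 lc_d_Cert_tree lc_d_Cert_tree lc_d_rc_15_1 lc_d_rc_17_2 lc_d_rc_23_4 lc_d_rc_23_4 lc_d_Cert_tree lc_d_rc_17_2 lc_d_rc_15_1 lc_d_Cert_tree lc_d_Cert_tree lc_d_rc_8_3 lc_d_Cert_tree lc_d_Cert_tree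 lc_d_rc_15_1 lc_d_rc_24_0 lc_d_rc_22_2 lc_d_rc_17_2 lc_d_Cert_tree lc_d_Cert_tree lc_d_rc_17_2 lc_d_rc_15_1 lc_d_rc_16_4 lc_d_rc_23_6 lc_d_Cert_tree lc_d_rc_15_1 lc_d_rc_17_2 lc_d_rc_12_7) (@D3.rec (fun _ => (Cert rels S Gen.d)) lc_d_rc_23_4 lc_d_Cert_tree lc_d_rc_17_2 lc_d_Cert_tree lc_d_rc_15_1 lc_d_rc_27_2 lc_d_rc_15_1 lc_d_rc_15_1 lc_d_rc_3_3 lc_d_rc_27_2 lc_d_rc_8_3 lc_d_rc_16_4 lc_d_Cert_tree lc_d_Cert_tree lc_d_rc_17_2 lc_d_rc_15_1 lc_d_rc_27_2 lc_d_rc_15_1 lc_d_Cert_tree lc_d_rc_22_2 lc_d_rc_15_1 lc_d_rc_8_1 lc_d_Cert_tree lc_d_Cert_tree lc_d_rc_15_1 lc_d_rc_17_2 lc_d_rc_23_4 lc_d_rc_22_6 lc_d_rc_17_2 lc_d_Cert_tree lc_d_Cert_tree lc_d_rc_15_1 lc_d_rc_17_2 lc_d_rc_23_4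 lc_d_Cert_tree lc_d_rc_23_2 lc_d_rc_15_1 lc_d_rc_17_0 lc_d_rc_16_2 lc_d_rc_25_14 lc_d_rc_15_1 lc_d_Cert_tree lc_d_Cert_tree lc_d_Cert_tree lc_d_rc_15_1 lc_d_rc_17_2 lc_d_rc_15_1 lc_d_Cert_tree lc_d_rc_8_3 lc_d_Cert_tree lc_d_rc_15_1 lc_d_Cert_tree lc_d_Cert_tree lc_d_rc_15_1 lc_d_Cert_tree lc_d_Cert_tree lc_d_rc_15_1 lc_d_Cert_tree lc_d_rc_17_2 lc_d_rc_16_2 lc_d_Cert_tree lc_d_rc_15_1) (@D3.rec (fun _ => (Cert rels S Gen.d)) lc_d_Cert_tree lc_d_Cert_tree lc_d_rc_15_1 lc_d_Cert_tree lc_d_rc_8_3 lc_d_rc_16_4 lc_d_rc_15_1 lc_d_rc_16_4 lc_d_rc_16_2 lc_d_rc_15_1 lc_d_Cert_tree lc_d_Cert_tree lc_d_rc_15_1 lc_d_rc_24_5 lc_d_Cert_tree lc_d_rc_15_1 lc_d_rc_15_1 lc_d_rc_15_1 lc_d_Cert_tree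 lc_d_rc_15_1 lc_d_rc_15_1 lc_d_rc_15_1 lc_d_Cert_tree lc_d_rc_8_3 lc_d_rc_15_1 lc_d_rc_24_5 lc_d_Cert_tree lc_d_rc_15_1 lc_d_rc_27_4 lc_d_Cert_tree lc_d_Cert_tree lc_d_rc_15_1 lc_d_rc_17_2 lc_d_rc_22_6 lc_d_rc_8_3 lc_d_Cert_tree lc_d_rc_23_2 lc_d_rc_15_1 lc_d_rc_15_1 lc_d_rc_23_8 lc_d_rc_24_0 lc_d_rc_23_4 lc_d_Cert_tree lc_d_rc_15_1 lc_d_rc_17_2 lc_d_rc_23_2 lc_d_rc_24_0 lc_d_rc_22_8 lc_d_Cert_tree lc_d_rc_15_1 lc_d_rc_17_2 lc_d_rc_27_4 lc_d_rc_23_4 lc_d_rc_8_3 lc_d_rc_17_2 lc_d_rc_15_1 lc_d_Cert_tree lc_d_Cert_tree lc_d_rc_16_2 lc_d_rc_8_3 lc_d_Cert_tree lc_d_Cert_tree) (@D3.rec (fun _ => (Cert rels S Gen.d)) lc_d_Cert_tree lc_d_rc_15_1 lc_d_rc_17_2 lc_d_rc_15_1 lc_d_rc_8_3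 lc_d_Cert_tree lc_d_rc_15_1 lc_d_rc_27_4 lc_d_rc_15_1 lc_d_rc_27_8 lc_d_rc_15_1 lc_d_Cert_tree lc_d_rc_17_2 lc_d_rc_15_1 lc_d_rc_27_2 lc_d_rc_24_5 lc_d_rc_15_1 lc_d_rc_27_2 lc_d_rc_8_1 lc_d_rc_22_6 lc_d_rc_17_2 lc_d_rc_15_1 lc_d_rc_27_4 lc_d_Cert_tree lc_d_rc_23_6 lc_d_rc_22_6 lc_d_rc_15_1 lc_d_rc_24_0 lc_d_Cert_tree lc_d_rc_22_6 lc_d_Cert_tree lc_d_rc_15_1 lc_d_rc_27_2 lc_d_rc_22_4 lc_d_rc_22_6 lc_d_Cert_tree lc_d_rc_22_6 lc_d_rc_15_1 lc_d_Cert_tree lc_d_Cert_tree lc_d_rc_24_0 lc_d_rc_15_1 lc_d_rc_22_2 lc_d_rc_16_2 lc_d_rc_25_18 lc_d_rc_16_4 lc_d_rc_15_1 lc_d_rc_17_2 lc_d_rc_22_8 lc_d_rc_16_4 lc_d_rc_8_3 lc_d_Cert_tree lc_d_Cert_tree lc_d_Cert_tree lc_d_rc_15_1 lc_d_rc_15_1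 lc_d_rc_27_8 lc_d_rc_16_4 lc_d_rc_27_10 lc_d_rc_3_3 lc_d_rc_24_5 lc_d_rc_15_1) (@D3.rec (fun _ => (Cert rels S Gen.d)) lc_d_rc_15_1 lc_d_rc_16_4 lc_d_rc_23_6 lc_d_rc_22_4 lc_d_rc_22_6 lc_d_rc_23_2 lc_d_rc_24_0 lc_d_rc_15_1 lc_d_rc_15_1 lc_d_rc_27_4 lc_d_rc_15_1 lc_d_rc_24_0 lc_d_rc_27_10 lc_d_rc_27_10 lc_d_rc_8_3 lc_d_rc_16_4 lc_d_rc_15_1 lc_d_Cert_tree lc_d_rc_15_1 lc_d_Cert_tree lc_d_rc_8_3 lc_d_Cert_tree lc_d_Cert_tree lc_d_rc_17_2 lc_d_rc_22_4 lc_d_Cert_tree lc_d_Cert_tree lc_d_Cert_tree lc_d_rc_15_1 lc_d_rc_17_2 lc_d_rc_27_2 lc_d_Cert_tree lc_d_rc_15_1 lc_d_rc_8_3 lc_d_rc_15_1 lc_d_rc_3_3 lc_d_Cert_tree lc_d_rc_15_1 lc_d_Cert_tree lc_d_rc_16_2 lc_d_Cert_tree lc_d_rc_16_4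 lc_d_Cert_tree lc_d_Cert_tree lc_d_Cert_tree lc_d_rc_15_1 lc_d_Cert_tree lc_d_rc_15_1 lc_d_Cert_tree lc_d_rc_27_4 lc_d_rc_15_1 lc_d_rc_15_1 lc_d_rc_23_4 lc_d_rc_23_2 lc_d_rc_8_3 lc_d_rc_23_2 lc_d_rc_16_4 lc_d_rc_22_8 lc_d_rc_8_1 lc_d_rc_15_1 lc_d_rc_17_2 lc_d_rc_15_1) (@D3.rec (fun _ => (Cert rels S Gen.d)) lc_d_rc_8_3 lc_d_rc_3_3 lc_d_rc_15_1 lc_d_rc_23_2 lc_d_rc_15_1 lc_d_Cert_tree lc_d_rc_15_1 lc_d_Cert_tree lc_d_Cert_tree lc_d_rc_15_1 lc_d_rc_8_3 lc_d_rc_15_1 lc_d_Cert_tree lc_d_Cert_tree lc_d_rc_15_1 lc_d_rc_27_2 lc_d_Cert_tree lc_d_Cert_tree lc_d_rc_15_1 lc_d_rc_15_1 lc_d_Cert_tree lc_d_rc_8_1 lc_d_rc_15_1 lc_d_Cert_tree lc_d_rc_15_1 lc_d_rc_23_8 lc_d_rc_22_6 lc_d_Cert_tree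 lc_d_Cert_tree lc_d_rc_15_1 lc_d_rc_15_1 lc_d_rc_27_10 lc_d_Cert_tree lc_d_rc_15_1 lc_d_rc_27_10 lc_d_rc_8_3 lc_d_rc_15_1 lc_d_rc_16_2 lc_d_rc_24_0 lc_d_Cert_tree lc_d_rc_17_2 lc_d_Cert_tree lc_d_rc_27_8 lc_d_Cert_tree lc_d_rc_16_4 lc_d_Cert_tree lc_d_Cert_tree lc_d_Cert_tree lc_d_rc_15_1 lc_d_rc_15_1 lc_d_rc_16_4 lc_d_rc_27_2 lc_d_rc_22_8 lc_d_Cert_tree lc_d_rc_15_1 lc_d_rc_17_2 lc_d_rc_8_3 lc_d_rc_15_1 lc_d_rc_3_3 lc_d_Cert_tree lc_d_rc_15_1 lc_d_Cert_tree) (@D3.rec (fun _ => (Cert rels S Gen.d)) lc_d_rc_8_3 lc_d_rc_17_2 lc_d_rc_15_1 lc_d_Cert_tree lc_d_rc_27_4 lc_d_rc_15_1 lc_d_rc_16_2 lc_d_Cert_tree lc_d_rc_27_4 lc_d_Cert_tree lc_d_Cert_tree lc_d_rc_15_1 lc_d_rc_8_3 lc_d_rc_15_1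 lc_d_rc_15_1 lc_d_Cert_tree lc_d_rc_15_1 lc_d_rc_8_1 lc_d_rc_8_3 lc_d_rc_23_4 lc_d_rc_16_4 lc_d_rc_15_1 lc_d_rc_17_2 lc_d_rc_17_2 lc_d_rc_16_4 lc_d_rc_3_3 lc_d_rc_17_2 lc_d_rc_25_2 lc_d_Cert_tree lc_d_rc_27_2 lc_d_Cert_tree lc_d_rc_15_1 lc_d_rc_17_2 lc_d_Cert_tree lc_d_rc_22_6 lc_d_rc_24_0 lc_d_rc_15_1 lc_d_Cert_tree lc_d_Cert_tree lc_d_rc_24_5 lc_d_rc_23_6 lc_d_rc_15_1 lc_d_rc_24_5 lc_d_Cert_tree lc_d_rc_23_6 lc_d_rc_15_1 lc_d_rc_8_3 lc_d_rc_27_4 lc_d_rc_24_5 lc_d_rc_15_1 lc_d_rc_24_5 lc_d_rc_27_2 lc_d_Cert_tree lc_d_rc_15_1 lc_d_rc_3_3 lc_d_rc_15_1 lc_d_rc_16_4 lc_d_Cert_tree lc_d_rc_15_1 lc_d_Cert_tree lc_d_rc_17_2 lc_d_rc_25_2) (@D3.rec (fun _ => (Cert rels S Gen.d)) lc_d_Cert_tree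 lc_d_rc_22_2 lc_d_rc_23_2 lc_d_rc_15_1 lc_d_rc_17_2 lc_d_rc_27_2 lc_d_rc_27_8 lc_d_rc_8_3 lc_d_rc_3_3 lc_d_rc_3_1 lc_d_rc_24_0 lc_d_rc_15_1 lc_d_Cert_tree lc_d_Cert_tree lc_d_rc_15_1 lc_d_rc_25_18 lc_d_rc_24_0 lc_d_Cert_tree lc_d_rc_27_8 lc_d_rc_15_1 lc_d_rc_17_2 lc_d_rc_8_3 lc_d_Cert_tree lc_d_rc_22_4 lc_d_rc_24_5 lc_d_rc_8_3 lc_d_rc_15_1 lc_d_rc_17_2 lc_d_rc_8_3 lc_d_rc_16_2 lc_d_rc_27_4 lc_d_Cert_tree lc_d_rc_15_1 lc_d_rc_17_0 lc_d_rc_15_1 lc_d_rc_17_2 lc_d_rc_16_4 lc_d_Cert_tree lc_d_Cert_tree lc_d_rc_15_1 lc_d_rc_12_1 lc_d_rc_27_4 lc_d_rc_15_1 lc_d_rc_27_4 lc_d_rc_16_4 lc_d_Cert_tree lc_d_Cert_tree lc_d_rc_15_1 lc_d_Cert_tree lc_d_rc_15_1 lc_d_rc_24_5 lc_d_Cert_tree lc_d_rc_15_1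 lc_d_rc_15_1 lc_d_rc_15_1 lc_d_Cert_tree lc_d_rc_16_4 lc_d_rc_22_2 lc_d_rc_27_10 lc_d_Cert_tree lc_d_rc_16_4 lc_d_rc_8_1) (@D3.rec (fun _ => (Cert rels S Gen.d)) lc_d_rc_15_1 lc_d_rc_15_1 lc_d_rc_24_5 lc_d_rc_3_3 lc_d_rc_12_15 lc_d_rc_15_1 lc_d_rc_15_1 lc_d_rc_8_3 lc_d_rc_17_0 lc_d_Cert_tree lc_d_rc_15_1 lc_d_Cert_tree lc_d_Cert_tree lc_d_rc_15_1 lc_d_rc_15_1 lc_d_rc_3_1 lc_d_Cert_tree lc_d_rc_17_2 lc_d_rc_27_4 lc_d_Cert_tree lc_d_rc_15_1 lc_d_rc_24_5 lc_d_Cert_tree lc_d_rc_15_1 lc_d_Cert_tree lc_d_rc_15_1 lc_d_Cert_tree lc_d_Cert_tree lc_d_rc_15_1 lc_d_rc_22_2 lc_d_rc_27_4 lc_d_rc_27_4 lc_d_Cert_tree lc_d_rc_16_2 lc_d_rc_15_1 lc_d_Cert_tree lc_d_Cert_tree lc_d_Cert_tree lc_d_rc_15_1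 lc_d_rc_8_3 lc_d_rc_23_4 lc_d_rc_17_2 lc_d_Cert_tree lc_d_rc_16_4 lc_d_Cert_tree lc_d_Cert_tree lc_d_Cert_tree lc_d_rc_15_1 lc_d_rc_22_8 lc_d_Cert_tree lc_d_rc_15_1 lc_d_rc_27_2 lc_d_rc_15_1 lc_d_Cert_tree lc_d_Cert_tree lc_d_rc_3_3 lc_d_rc_15_1 lc_d_rc_27_8 lc_d_rc_16_4 lc_d_Cert_tree lc_d_rc_16_2 lc_d_rc_3_3) (@D3.rec (fun _ => (Cert rels S Gen.d)) lc_d_rc_15_1 lc_d_Cert_tree lc_d_rc_17_2 lc_d_rc_16_4 lc_d_rc_8_3 lc_d_Cert_tree lc_d_rc_15_1 lc_d_Cert_tree lc_d_rc_15_1 lc_d_rc_3_3 lc_d_rc_22_2 lc_d_rc_17_0 lc_d_Cert_tree lc_d_Cert_tree lc_d_rc_15_1 lc_d_rc_15_1 lc_d_Cert_tree lc_d_Cert_tree lc_d_rc_15_1 lc_d_Cert_tree lc_d_rc_15_1 lc_d_rc_8_1 lc_d_rc_15_1 lc_d_Cert_tree lc_d_Cert_tree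 lc_d_Cert_tree lc_d_rc_15_1 lc_d_rc_23_6 lc_d_rc_23_6 lc_d_rc_15_1 lc_d_rc_16_4 lc_d_rc_17_2 lc_d_Cert_tree lc_d_Cert_tree lc_d_rc_16_4 lc_d_Cert_tree lc_d_Cert_tree lc_d_Cert_tree lc_d_rc_15_1 lc_d_rc_8_3 lc_d_rc_15_1 lc_d_rc_3_3 lc_d_rc_8_3 lc_d_rc_24_0 lc_d_rc_23_4 lc_d_Cert_tree lc_d_rc_16_4 lc_d_rc_12_5 lc_d_rc_16_4 lc_d_Cert_tree lc_d_rc_16_4 lc_d_Cert_tree lc_d_Cert_tree lc_d_Cert_tree lc_d_rc_15_1 lc_d_Cert_tree lc_d_Cert_tree lc_d_Cert_tree lc_d_rc_17_2 lc_d_rc_8_3 lc_d_rc_24_0 lc_d_rc_3_3) (@D3.rec (fun _ => (Cert rels S Gen.d)) lc_d_Cert_tree lc_d_rc_16_4 lc_d_rc_24_0 lc_d_rc_15_1 lc_d_rc_3_3 lc_d_rc_16_4 lc_d_rc_15_1 lc_d_rc_24_5 lc_d_rc_22_6 lc_d_rc_16_4 lc_d_rc_15_1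 lc_d_rc_23_8 lc_d_Cert_tree lc_d_rc_15_1 lc_d_Cert_tree lc_d_rc_17_2 lc_d_rc_15_1 lc_d_rc_17_2 lc_d_rc_8_3 lc_d_rc_24_0 lc_d_rc_3_3 lc_d_Cert_tree lc_d_rc_15_1 lc_d_rc_22_4 lc_d_rc_27_4 lc_d_rc_3_3 lc_d_rc_3_1 lc_d_Cert_tree lc_d_Cert_tree lc_d_rc_15_1 lc_d_rc_27_8 lc_d_rc_17_2 lc_d_Cert_tree lc_d_rc_24_0 lc_d_rc_15_1 lc_d_Cert_tree lc_d_rc_15_1 lc_d_rc_25_6 lc_d_rc_27_10 lc_d_rc_8_3 lc_d_rc_16_4 lc_d_rc_16_4 lc_d_rc_16_2 lc_d_rc_17_2 lc_d_rc_23_4 lc_d_Cert_tree lc_d_rc_15_1 lc_d_rc_8_3 lc_d_rc_23_4 lc_d_rc_8_3 lc_d_Cert_tree lc_d_rc_15_1 lc_d_rc_15_1 lc_d_Cert_tree lc_d_rc_22_4 lc_d_rc_24_0 lc_d_Cert_tree lc_d_rc_15_1 lc_d_Cert_tree lc_d_rc_15_1 lc_d_rc_8_3 lc_d_rc_3_3) (@D3.rec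 (fun _ => (Cert rels S Gen.d)) lc_d_rc_8_3 lc_d_rc_24_5 lc_d_rc_24_5 lc_d_rc_12_5 lc_d_rc_16_4 lc_d_rc_12_15 lc_d_Cert_tree lc_d_rc_15_1 lc_d_Cert_tree lc_d_Cert_tree lc_d_rc_8_3 lc_d_rc_17_2 lc_d_rc_25_6 lc_d_rc_8_3 lc_d_rc_3_3 lc_d_rc_8_3 lc_d_rc_16_4 lc_d_rc_27_10 lc_d_rc_15_1 lc_d_rc_8_3 lc_d_rc_17_2 lc_d_Cert_tree lc_d_Cert_tree lc_d_rc_17_2 lc_d_rc_15_1 lc_d_rc_27_4 lc_d_rc_24_0 lc_d_rc_8_3 lc_d_Cert_tree lc_d_rc_15_1 lc_d_rc_17_2 lc_d_rc_15_1 lc_d_Cert_tree lc_d_rc_15_1 lc_d_rc_24_0 lc_d_rc_15_1 lc_d_rc_17_2 lc_d_rc_15_1 lc_d_rc_3_1 lc_d_rc_15_1 lc_d_Cert_tree lc_d_Cert_tree lc_d_rc_15_1 lc_d_rc_15_1 lc_d_rc_17_2 lc_d_rc_15_1 lc_d_Cert_tree lc_d_Cert_tree lc_d_rc_15_1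 lc_d_rc_27_4 lc_d_Cert_tree lc_d_rc_15_1 lc_d_Cert_tree lc_d_Cert_tree lc_d_Cert_tree lc_d_rc_17_2 lc_d_rc_22_6 lc_d_rc_16_4 lc_d_rc_12_15 lc_d_Cert_tree lc_d_rc_23_8 lc_d_rc_22_6) (@D3.rec (fun _ => (Cert rels S Gen.d)) lc_d_rc_16_2 lc_d_rc_23_8 lc_d_rc_15_1 lc_d_rc_23_8 lc_d_rc_24_5 lc_d_rc_12_1 lc_d_rc_16_4 lc_d_rc_15_1 lc_d_rc_24_5 lc_d_Cert_tree lc_d_Cert_tree lc_d_rc_17_2 lc_d_rc_8_3 lc_d_rc_3_3 lc_d_rc_15_1 lc_d_rc_3_3 lc_d_rc_15_1 lc_d_Cert_tree lc_d_rc_15_1 lc_d_rc_15_1 lc_d_rc_17_2 lc_d_Cert_tree lc_d_Cert_tree lc_d_rc_23_2 lc_d_Cert_tree lc_d_rc_24_5 lc_d_rc_15_1 lc_d_rc_27_2 lc_d_rc_24_0 lc_d_rc_23_2 lc_d_rc_25_2 lc_d_rc_15_1 lc_d_rc_15_1 lc_d_rc_23_6 lc_d_rc_12_3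 lc_d_rc_16_4 lc_d_rc_15_1 lc_d_rc_17_2 lc_d_rc_22_6 lc_d_rc_27_10 lc_d_rc_17_2 lc_d_rc_22_2 lc_d_rc_22_8 lc_d_rc_16_2 lc_d_rc_3_3 lc_d_rc_24_0 lc_d_rc_8_3 lc_d_rc_8_3 lc_d_rc_8_3 lc_d_rc_15_1 lc_d_rc_22_2 lc_d_rc_15_1 lc_d_Cert_tree lc_d_rc_15_1 lc_d_rc_15_1 lc_d_rc_23_8 lc_d_rc_3_3 lc_d_rc_25_6 lc_d_rc_17_0 lc_d_Cert_tree lc_d_rc_27_2 lc_d_rc_8_3) (@D3.rec (fun _ => (Cert rels S Gen.d)) lc_d_rc_16_4 lc_d_rc_27_2 lc_d_rc_27_10 lc_d_rc_15_1 lc_d_rc_17_2 lc_d_rc_3_3 lc_d_rc_27_8 lc_d_rc_22_2 lc_d_rc_23_2 lc_d_rc_8_3 lc_d_rc_15_1 lc_d_rc_15_1 lc_d_rc_17_2 lc_d_rc_24_5 lc_d_rc_8_3 lc_d_rc_23_2 lc_d_rc_16_4 lc_d_rc_8_3 lc_d_rc_17_2 lc_d_rc_23_8 lc_d_rc_8_3 lc_d_rc_8_3 lc_d_Cert_tree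 lc_d_Cert_tree lc_d_rc_16_4 lc_d_Cert_tree lc_d_Cert_tree lc_d_rc_15_1 lc_d_Cert_tree lc_d_rc_15_1 lc_d_rc_15_1 lc_d_rc_27_8 lc_d_Cert_tree lc_d_Cert_tree lc_d_Cert_tree lc_d_rc_15_1 lc_d_rc_15_1 lc_d_Cert_tree lc_d_Cert_tree lc_d_rc_17_2 lc_d_rc_23_4 lc_d_Cert_tree lc_d_rc_15_1 lc_d_Cert_tree lc_d_rc_15_1 lc_d_Cert_tree lc_d_rc_15_1 lc_d_rc_16_2 lc_d_Cert_tree lc_d_rc_15_1 lc_d_rc_16_2 lc_d_rc_16_4 lc_d_Cert_tree lc_d_rc_27_10 lc_d_rc_15_1 lc_d_rc_24_0 lc_d_Cert_tree lc_d_rc_15_1 lc_d_Cert_tree lc_d_rc_16_0 lc_d_Cert_tree lc_d_rc_15_1) (@D3.rec (fun _ => (Cert rels S Gen.d)) lc_d_Cert_tree lc_d_rc_15_1 lc_d_rc_23_2 lc_d_Cert_tree lc_d_Cert_tree lc_d_rc_15_1 lc_d_rc_15_1 lc_d_rc_8_3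 lc_d_rc_16_4 lc_d_rc_15_1 lc_d_rc_8_3 lc_d_rc_16_4 lc_d_Cert_tree lc_d_rc_15_1 lc_d_rc_22_8 lc_d_rc_8_3 lc_d_rc_27_2 lc_d_rc_22_8 lc_d_rc_15_1 lc_d_rc_22_2 lc_d_Cert_tree lc_d_Cert_tree lc_d_Cert_tree lc_d_rc_15_1 lc_d_rc_17_2 lc_d_rc_23_6 lc_d_rc_15_1 lc_d_rc_17_2 lc_d_rc_15_1 lc_d_rc_22_4 lc_d_rc_16_4 lc_d_rc_22_2 lc_d_rc_16_2 lc_d_rc_8_3 lc_d_rc_23_6 lc_d_rc_16_2 lc_d_rc_23_2 lc_d_rc_22_2 lc_d_Cert_tree lc_d_rc_15_1 lc_d_Cert_tree lc_d_rc_16_0 lc_d_rc_3_1 lc_d_rc_17_2 lc_d_rc_8_3 lc_d_Cert_tree lc_d_rc_3_3 lc_d_Cert_tree lc_d_rc_15_1 lc_d_rc_17_2 lc_d_rc_22_4 lc_d_Cert_tree lc_d_rc_16_4 lc_d_Cert_tree lc_d_rc_16_2 lc_d_Cert_tree lc_d_Cert_tree lc_d_Cert_tree lc_d_rc_15_1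 lc_d_rc_8_3 lc_d_rc_24_0 lc_d_rc_3_3) (@D3.rec (fun _ => (Cert rels S Gen.d)) lc_d_rc_15_1 lc_d_Cert_tree lc_d_rc_16_2 lc_d_rc_15_1 lc_d_Cert_tree lc_d_rc_8_3 lc_d_rc_17_2 lc_d_Cert_tree lc_d_rc_15_1 lc_d_rc_12_1 lc_d_rc_22_2 lc_d_Cert_tree lc_d_Cert_tree lc_d_rc_23_4 lc_d_rc_3_3 lc_d_rc_24_5 lc_d_rc_27_2 lc_d_rc_27_10 lc_d_rc_8_3 lc_d_rc_17_2 lc_d_rc_8_3 lc_d_rc_8_3 lc_d_rc_25_18 lc_d_rc_24_0 lc_d_rc_27_2 lc_d_rc_15_1 lc_d_rc_27_10 lc_d_rc_17_2 lc_d_rc_8_3 lc_d_rc_27_4 lc_d_rc_23_8 lc_d_rc_27_2 lc_d_rc_8_3 lc_d_rc_23_8 lc_d_rc_27_8 lc_d_rc_27_10 lc_d_rc_15_1 lc_d_rc_24_5 lc_d_rc_25_2 lc_d_rc_3_1 lc_d_rc_15_1 lc_d_Cert_tree lc_d_Cert_tree lc_d_rc_27_8 lc_d_rc_16_4 lc_d_rc_15_1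 lc_d_rc_17_2 lc_d_rc_15_1 lc_d_rc_16_4 lc_d_rc_27_8 lc_d_rc_8_3 lc_d_rc_3_3 lc_d_rc_8_3 lc_d_rc_22_2 lc_d_rc_15_1 lc_d_Cert_tree lc_d_rc_22_6 lc_d_rc_15_1 lc_d_rc_24_5 lc_d_rc_25_14 lc_d_rc_23_2 lc_d_Cert_tree) (@D3.rec (fun _ => (Cert rels S Gen.d)) lc_d_rc_22_8 lc_d_rc_15_1 lc_d_rc_3_3 lc_d_Cert_tree lc_d_rc_15_1 lc_d_rc_16_2 lc_d_Cert_tree lc_d_Cert_tree lc_d_rc_15_1 lc_d_rc_27_2 lc_d_Cert_tree lc_d_rc_15_1 lc_d_rc_27_8 lc_d_rc_15_1 lc_d_rc_17_2 lc_d_rc_22_8 lc_d_rc_8_3 lc_d_Cert_tree lc_d_rc_27_8 lc_d_rc_27_10 lc_d_rc_17_2 lc_d_rc_23_6 lc_d_rc_15_1 lc_d_Cert_tree lc_d_Cert_tree lc_d_Cert_tree lc_d_rc_15_1 lc_d_rc_17_2 lc_d_rc_8_3 lc_d_rc_17_0 lc_d_rc_27_4 lc_d_rc_8_1 lc_d_rc_27_10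 lc_d_rc_27_8 lc_d_rc_8_3 lc_d_Cert_tree lc_d_rc_15_1 lc_d_rc_8_3 lc_d_rc_17_2 lc_d_Cert_tree lc_d_Cert_tree lc_d_Cert_tree lc_d_rc_15_1 lc_d_rc_17_2 lc_d_rc_8_3 lc_d_rc_15_1 lc_d_rc_8_1 lc_d_rc_27_4 lc_d_rc_15_1 lc_d_rc_27_8 lc_d_rc_15_1 lc_d_rc_22_8 lc_d_rc_15_1 lc_d_rc_3_3 lc_d_Cert_tree lc_d_rc_15_1 lc_d_Cert_tree lc_d_rc_27_10 lc_d_rc_15_1 lc_d_rc_22_4 lc_d_rc_16_2 lc_d_Cert_tree) (@D3.rec (fun _ => (Cert rels S Gen.d)) lc_d_rc_15_1 lc_d_rc_8_3 lc_d_Cert_tree lc_d_rc_8_3 lc_d_rc_8_3 lc_d_rc_17_2 lc_d_rc_8_3 lc_d_rc_3_3 lc_d_rc_15_1 lc_d_Cert_tree lc_d_rc_27_2 lc_d_rc_15_1 lc_d_rc_23_8 lc_d_rc_16_0 lc_d_rc_15_1 lc_d_Cert_tree lc_d_rc_15_1 lc_d_rc_27_10 lc_d_rc_15_1 lc_d_rc_3_3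 lc_d_rc_27_4 lc_d_Cert_tree lc_d_rc_15_1 lc_d_rc_8_3 lc_d_rc_23_8 lc_d_rc_27_4 lc_d_rc_23_2 lc_d_rc_17_2 lc_d_rc_23_4 lc_d_rc_15_1 lc_d_rc_16_0 lc_d_rc_16_4 lc_d_rc_15_1 lc_d_rc_8_3 lc_d_rc_15_1 lc_d_rc_27_2 lc_d_rc_27_2 lc_d_rc_8_1 lc_d_rc_22_4 lc_d_rc_15_1 lc_d_rc_8_3 lc_d_rc_3_3 lc_d_rc_8_3 lc_d_rc_15_1 lc_d_rc_16_2 lc_d_Cert_tree lc_d_rc_15_1 lc_d_Cert_tree lc_d_rc_15_1 lc_d_rc_27_4 lc_d_rc_3_3 lc_d_Cert_tree lc_d_rc_23_6 lc_d_rc_24_0 lc_d_rc_27_8 lc_d_rc_15_1 lc_d_rc_16_4 lc_d_Cert_tree lc_d_rc_15_1 lc_d_rc_3_3 lc_d_Cert_tree lc_d_rc_17_2) (@D3.rec (fun _ => (Cert rels S Gen.d)) lc_d_rc_12_5 lc_d_Cert_tree lc_d_Cert_tree lc_d_Cert_tree lc_d_rc_15_1 lc_d_Cert_tree lc_d_rc_15_1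 lc_d_rc_22_6 lc_d_Cert_tree lc_d_rc_8_3 lc_d_rc_12_15 lc_d_rc_23_8 lc_d_Cert_tree lc_d_rc_15_1 lc_d_rc_15_1 lc_d_Cert_tree lc_d_rc_15_1 lc_d_rc_27_4 lc_d_Cert_tree lc_d_rc_27_4 lc_d_rc_3_3 lc_d_rc_25_18 lc_d_rc_3_1 lc_d_rc_15_1 lc_d_rc_8_3 lc_d_rc_23_6 lc_d_rc_22_2 lc_d_rc_16_2 lc_d_rc_22_2 lc_d_rc_22_6 lc_d_rc_17_0 lc_d_Cert_tree lc_d_rc_15_1 lc_d_rc_17_2 lc_d_rc_8_3 lc_d_rc_15_1 lc_d_rc_8_1 lc_d_rc_27_4 lc_d_rc_16_0 lc_d_rc_3_1 lc_d_rc_27_2 lc_d_rc_15_1 lc_d_rc_24_5 lc_d_Cert_tree lc_d_rc_17_2 lc_d_Cert_tree lc_d_rc_22_2 lc_d_Cert_tree lc_d_rc_15_1 lc_d_Cert_tree lc_d_Cert_tree lc_d_rc_15_1 lc_d_rc_25_6 lc_d_rc_24_0 lc_d_rc_23_4 lc_d_rc_15_1 lc_d_Cert_tree lc_d_rc_27_2 lc_d_rc_15_1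 lc_d_rc_23_2 lc_d_rc_8_3 lc_d_Cert_tree) (@D3.rec (fun _ => (Cert rels S Gen.d)) lc_d_rc_8_3 lc_d_Cert_tree lc_d_Cert_tree lc_d_rc_15_1 lc_d_rc_17_2 lc_d_Cert_tree lc_d_rc_15_1 lc_d_Cert_tree lc_d_rc_15_1 lc_d_rc_16_4 lc_d_rc_15_1 lc_d_rc_3_1 lc_d_Cert_tree lc_d_rc_17_2 lc_d_rc_15_1 lc_d_rc_22_6 lc_d_Cert_tree lc_d_rc_15_1 lc_d_Cert_tree lc_d_rc_15_1 lc_d_Cert_tree lc_d_rc_27_8 lc_d_rc_15_1 lc_d_rc_27_2 lc_d_rc_3_3 lc_d_rc_15_1 lc_d_rc_23_6 lc_d_Cert_tree lc_d_rc_15_1 lc_d_Cert_tree lc_d_rc_15_1 lc_d_Cert_tree lc_d_Cert_tree lc_d_rc_27_8 lc_d_rc_8_1 lc_d_rc_8_3 lc_d_rc_15_1 lc_d_Cert_tree lc_d_rc_27_4 lc_d_rc_15_1 lc_d_rc_15_1 lc_d_Cert_tree lc_d_rc_3_3 lc_d_rc_17_2 lc_d_rc_8_1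 lc_d_rc_27_2 lc_d_Cert_tree lc_d_rc_15_1 lc_d_Cert_tree lc_d_rc_15_1 lc_d_Cert_tree lc_d_rc_15_1 lc_d_Cert_tree lc_d_rc_24_0 lc_d_rc_15_1 lc_d_rc_15_1 lc_d_Cert_tree lc_d_rc_22_4 lc_d_rc_15_1 lc_d_rc_17_2 lc_d_rc_24_5 lc_d_rc_22_4) (@D3.rec (fun _ => (Cert rels S Gen.d)) lc_d_rc_16_2 lc_d_Cert_tree lc_d_rc_16_4 lc_d_Cert_tree lc_d_Cert_tree lc_d_Cert_tree lc_d_rc_15_1 lc_d_rc_23_6 lc_d_rc_24_5 lc_d_rc_15_1 lc_d_rc_16_4 lc_d_rc_8_3 lc_d_Cert_tree lc_d_Cert_tree lc_d_rc_15_1 lc_d_rc_17_2 lc_d_Cert_tree lc_d_rc_15_1 lc_d_rc_22_6 lc_d_rc_15_1 lc_d_rc_15_1 lc_d_rc_27_8 lc_d_rc_24_0 lc_d_rc_8_3 lc_d_Cert_tree lc_d_Cert_tree lc_d_rc_27_10 lc_d_rc_16_0 lc_d_rc_15_1 lc_d_rc_16_2 lc_d_rc_15_1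 lc_d_rc_15_1 lc_d_rc_15_1 lc_d_Cert_tree lc_d_Cert_tree lc_d_Cert_tree lc_d_rc_17_2 lc_d_rc_15_1 lc_d_rc_22_8 lc_d_rc_17_2 lc_d_rc_15_1 lc_d_Cert_tree lc_d_rc_15_1 lc_d_rc_17_2 lc_d_Cert_tree lc_d_rc_16_4 lc_d_Cert_tree lc_d_rc_15_1 lc_d_rc_15_1 lc_d_Cert_tree lc_d_rc_17_2 lc_d_Cert_tree lc_d_rc_15_1 lc_d_rc_15_1 lc_d_rc_8_3 lc_d_rc_15_1 lc_d_rc_24_0 lc_d_rc_12_3 lc_d_rc_8_1 lc_d_Cert_tree lc_d_rc_15_1 lc_d_rc_15_1) (@D3.rec (fun _ => (Cert rels S Gen.d)) lc_d_rc_23_4 lc_d_rc_8_1 lc_d_rc_17_2 lc_d_rc_15_1 lc_d_rc_15_1 lc_d_rc_25_14 lc_d_rc_3_3 lc_d_rc_15_1 lc_d_Cert_tree lc_d_rc_15_1 lc_d_rc_15_1 lc_d_rc_3_3 lc_d_Cert_tree lc_d_rc_3_1 lc_d_rc_15_1 lc_d_Cert_tree lc_d_Cert_tree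 lc_d_rc_15_1 lc_d_rc_17_2 lc_d_rc_16_4 lc_d_rc_23_4 lc_d_rc_15_1 lc_d_rc_17_2 lc_d_rc_8_3 lc_d_rc_16_4 lc_d_rc_27_2 lc_d_rc_8_3 lc_d_Cert_tree lc_d_rc_15_1 lc_d_rc_15_1 lc_d_Cert_tree lc_d_Cert_tree lc_d_Cert_tree lc_d_Cert_tree lc_d_rc_15_1 lc_d_rc_17_2 lc_d_rc_15_1 lc_d_rc_27_4 lc_d_rc_27_2 lc_d_rc_15_1 lc_d_Cert_tree lc_d_rc_23_6 lc_d_rc_22_2 lc_d_Cert_tree lc_d_Cert_tree lc_d_rc_15_1 lc_d_rc_27_4 lc_d_rc_15_1 lc_d_rc_27_2 lc_d_rc_27_2 lc_d_rc_22_4 lc_d_Cert_tree lc_d_rc_24_5 lc_d_rc_15_1 lc_d_rc_24_0 lc_d_rc_3_3 lc_d_rc_27_8 lc_d_rc_15_1 lc_d_rc_23_4 lc_d_rc_15_1 lc_d_rc_24_0 lc_d_rc_8_3) (@D3.rec (fun _ => (Cert rels S Gen.d)) lc_d_rc_25_2 lc_d_rc_15_1 lc_d_rc_24_0 lc_d_rc_16_2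 lc_d_rc_27_10 lc_d_Cert_tree lc_d_rc_15_1 lc_d_Cert_tree lc_d_Cert_tree lc_d_rc_15_1 lc_d_rc_17_2 lc_d_rc_8_3 lc_d_rc_16_2 lc_d_rc_15_1 lc_d_rc_24_5 lc_d_rc_15_1 lc_d_Cert_tree lc_d_Cert_tree lc_d_Cert_tree lc_d_Cert_tree lc_d_rc_15_1 lc_d_rc_17_2 lc_d_Cert_tree lc_d_rc_15_1 lc_d_rc_15_1 lc_d_Cert_tree lc_d_rc_15_1 lc_d_Cert_tree lc_d_Cert_tree lc_d_Cert_tree lc_d_rc_15_1 lc_d_rc_17_2 lc_d_rc_15_1 lc_d_Cert_tree lc_d_rc_17_2 lc_d_rc_15_1 lc_d_rc_8_3 lc_d_rc_23_8 lc_d_rc_15_1 lc_d_Cert_tree lc_d_Cert_tree lc_d_rc_15_1 lc_d_rc_22_8 lc_d_Cert_tree lc_d_rc_15_1 lc_d_Cert_tree lc_d_rc_22_6 lc_d_Cert_tree lc_d_rc_15_1 lc_d_Cert_tree lc_d_rc_15_1 lc_d_Cert_tree lc_d_rc_17_2 lc_d_rc_3_1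 lc_d_Cert_tree lc_d_Cert_tree lc_d_Cert_tree lc_d_rc_15_1 lc_d_rc_17_2 lc_d_Cert_tree lc_d_Cert_tree lc_d_rc_15_1) (@D3.rec (fun _ => (Cert rels S Gen.d)) lc_d_rc_17_2 lc_d_rc_15_1 lc_d_Cert_tree lc_d_rc_15_1 lc_d_Cert_tree lc_d_rc_23_6 lc_d_rc_15_1 lc_d_rc_22_4 lc_d_rc_17_2 lc_d_Cert_tree lc_d_Cert_tree lc_d_rc_15_1 lc_d_rc_24_0 lc_d_Cert_tree lc_d_rc_15_1 lc_d_rc_23_2 lc_d_rc_22_2 lc_d_Cert_tree lc_d_rc_15_1 lc_d_rc_15_1 lc_d_rc_17_0 lc_d_rc_27_2 lc_d_rc_25_2 lc_d_rc_24_0 lc_d_rc_22_2 lc_d_rc_27_2 lc_d_Cert_tree lc_d_Cert_tree lc_d_rc_15_1 lc_d_rc_17_2 lc_d_Cert_tree lc_d_rc_15_1 lc_d_Cert_tree lc_d_rc_15_1 lc_d_rc_3_3 lc_d_Cert_tree lc_d_rc_17_2 lc_d_Cert_tree lc_d_Cert_tree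 lc_d_rc_3_1 lc_d_rc_15_1 lc_d_rc_17_2 lc_d_Cert_tree lc_d_rc_15_1 lc_d_rc_15_1 lc_d_Cert_tree lc_d_Cert_tree lc_d_Cert_tree lc_d_rc_8_3 lc_d_Cert_tree lc_d_rc_15_1 lc_d_rc_17_2 lc_d_rc_8_3 lc_d_rc_23_4 lc_d_rc_8_3 lc_d_Cert_tree lc_d_Cert_tree lc_d_Cert_tree lc_d_rc_15_1 lc_d_rc_17_2 lc_d_Cert_tree lc_d_rc_15_1) (@D3.rec (fun _ => (Cert rels S Gen.d)) lc_d_Cert_tree lc_d_rc_8_3 lc_d_rc_15_1 lc_d_rc_23_6 lc_d_rc_24_5 lc_d_Cert_tree lc_d_rc_17_2 lc_d_Cert_tree lc_d_rc_15_1 lc_d_rc_16_4 lc_d_rc_27_8 lc_d_rc_17_2 lc_d_rc_16_2 lc_d_rc_15_1 lc_d_Cert_tree lc_d_Cert_tree lc_d_rc_15_1 lc_d_Cert_tree lc_d_Cert_tree lc_d_Cert_tree lc_d_Cert_tree lc_d_rc_15_1 lc_d_rc_17_2 lc_d_rc_15_1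 lc_d_Cert_tree lc_d_rc_24_5 lc_d_rc_24_0 lc_d_rc_3_1 lc_d_rc_15_1 lc_d_Cert_tree lc_d_Cert_tree lc_d_Cert_tree lc_d_rc_15_1 lc_d_rc_17_2 lc_d_rc_15_1 lc_d_rc_24_5 lc_d_Cert_tree lc_d_Cert_tree lc_d_rc_15_1 lc_d_Cert_tree lc_d_rc_25_10 lc_d_rc_12_15 lc_d_Cert_tree lc_d_Cert_tree lc_d_Cert_tree lc_d_rc_15_1 lc_d_rc_17_2 lc_d_Cert_tree lc_d_Cert_tree lc_d_rc_15_1 lc_d_rc_17_2 lc_d_Cert_tree lc_d_rc_15_1 lc_d_rc_15_1 lc_d_rc_27_8 lc_d_Cert_tree lc_d_rc_15_1 lc_d_Cert_tree lc_d_rc_17_2 lc_d_rc_15_1 lc_d_rc_15_1 lc_d_rc_27_8) (@D3.rec (fun _ => (Cert rels S Gen.d)) lc_d_Cert_tree lc_d_rc_3_3 lc_d_rc_15_1 lc_d_rc_23_2 lc_d_Cert_tree lc_d_Cert_tree lc_d_rc_15_1 lc_d_Cert_tree lc_d_Cert_tree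 lc_d_Cert_tree lc_d_Cert_tree lc_d_rc_15_1 lc_d_rc_17_2 lc_d_rc_24_0 lc_d_rc_24_5 lc_d_rc_15_1 lc_d_Cert_tree lc_d_Cert_tree lc_d_rc_24_5 lc_d_rc_15_1 lc_d_Cert_tree lc_d_rc_8_3 lc_d_Cert_tree lc_d_Cert_tree lc_d_Cert_tree lc_d_Cert_tree lc_d_Cert_tree lc_d_rc_15_1 lc_d_rc_17_2 lc_d_Cert_tree lc_d_Cert_tree lc_d_rc_15_1 lc_d_rc_17_2 lc_d_rc_22_6 lc_d_rc_22_2 lc_d_Cert_tree lc_d_rc_17_2 lc_d_rc_24_5 lc_d_Cert_tree lc_d_Cert_tree lc_d_Cert_tree lc_d_rc_15_1 lc_d_rc_17_2 lc_d_Cert_tree lc_d_Cert_tree lc_d_rc_15_1 lc_d_rc_17_2 lc_d_rc_15_1 lc_d_rc_15_1 lc_d_Cert_tree lc_d_rc_17_2 lc_d_rc_24_0 lc_d_rc_3_1 lc_d_rc_15_1 lc_d_Cert_tree lc_d_rc_16_4 lc_d_rc_23_6 lc_d_rc_24_5 lc_d_Cert_tree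 lc_d_rc_22_8 lc_d_rc_15_1 lc_d_rc_17_2) (@D3.rec (fun _ => (Cert rels S Gen.d)) lc_d_rc_23_2 lc_d_Cert_tree lc_d_Cert_tree lc_d_Cert_tree lc_d_rc_15_1 lc_d_rc_17_2 lc_d_Cert_tree lc_d_Cert_tree lc_d_Cert_tree lc_d_rc_15_1 lc_d_rc_17_2 lc_d_rc_8_3 lc_d_rc_22_4 lc_d_Cert_tree lc_d_rc_8_3 lc_d_Cert_tree lc_d_rc_8_3 lc_d_Cert_tree lc_d_Cert_tree lc_d_Cert_tree lc_d_rc_15_1 lc_d_rc_17_2 lc_d_Cert_tree lc_d_rc_8_3 lc_d_rc_15_1 lc_d_rc_8_3 lc_d_Cert_tree lc_d_Cert_tree lc_d_rc_15_1 lc_d_Cert_tree lc_d_Cert_tree lc_d_Cert_tree lc_d_Cert_tree lc_d_rc_17_2 lc_d_rc_12_1 lc_d_Cert_tree lc_d_Cert_tree lc_d_Cert_tree lc_d_rc_15_1 lc_d_rc_17_2 lc_d_Cert_tree lc_d_Cert_tree lc_d_rc_15_1 lc_d_rc_17_2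 lc_d_rc_23_6 lc_d_rc_24_5 lc_d_Cert_tree lc_d_Cert_tree lc_d_Cert_tree lc_d_rc_15_1 lc_d_rc_17_2 lc_d_Cert_tree lc_d_rc_15_1 lc_d_Cert_tree lc_d_rc_15_1 lc_d_Cert_tree lc_d_Cert_tree lc_d_rc_15_1 lc_d_Cert_tree lc_d_rc_17_2 lc_d_Cert_tree lc_d_Cert_tree) (@D3.rec (fun _ => (Cert rels S Gen.d)) lc_d_Cert_tree lc_d_rc_15_1 lc_d_Cert_tree lc_d_Cert_tree lc_d_Cert_tree lc_d_rc_15_1 lc_d_rc_15_1 lc_d_rc_15_1 lc_d_rc_15_1 lc_d_Cert_tree lc_d_rc_22_4 lc_d_rc_16_2 lc_d_rc_22_8 lc_d_Cert_tree lc_d_Cert_tree lc_d_rc_15_1 lc_d_rc_17_0 lc_d_rc_15_1 lc_d_rc_22_8 lc_d_Cert_tree lc_d_rc_15_1 lc_d_rc_15_1 lc_d_rc_8_3 lc_d_rc_8_3 lc_d_rc_3_3 lc_d_Cert_tree lc_d_rc_17_2 lc_d_rc_17_2 lc_d_Cert_tree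 lc_d_Cert_tree lc_d_Cert_tree lc_d_Cert_tree lc_d_rc_15_1 lc_d_rc_22_2 lc_d_Cert_tree lc_d_rc_15_1 lc_d_Cert_tree lc_d_rc_15_1 lc_d_rc_16_4 lc_d_rc_15_1 lc_d_rc_15_1 lc_d_rc_23_6 lc_d_Cert_tree lc_d_rc_27_10 lc_d_rc_15_1 lc_d_Cert_tree lc_d_rc_15_1 lc_d_Cert_tree lc_d_Cert_tree lc_d_rc_15_1 lc_d_rc_24_0 lc_d_rc_15_1 lc_d_rc_24_0 lc_d_rc_23_2 lc_d_rc_27_8 lc_d_rc_15_1 lc_d_rc_24_5 lc_d_Cert_tree lc_d_rc_27_2 lc_d_rc_16_4 lc_d_rc_22_2 lc_d_rc_8_3) (@D3.rec (fun _ => (Cert rels S Gen.d)) lc_d_rc_23_4 lc_d_rc_3_3 lc_d_Cert_tree lc_d_Cert_tree lc_d_rc_15_1 lc_d_Cert_tree lc_d_rc_12_3 lc_d_Cert_tree lc_d_Cert_tree lc_d_rc_15_1 lc_d_rc_15_1 lc_d_rc_24_5 lc_d_rc_15_1 lc_d_Cert_tree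 lc_d_Cert_tree lc_d_rc_15_1 lc_d_rc_15_1 lc_d_Cert_tree lc_d_Cert_tree lc_d_rc_15_1 lc_d_Cert_tree lc_d_rc_22_4 lc_d_rc_27_4 lc_d_rc_8_3 lc_d_rc_22_8 lc_d_Cert_tree lc_d_Cert_tree lc_d_Cert_tree lc_d_rc_15_1 lc_d_rc_8_3 lc_d_rc_22_4 lc_d_rc_12_5 lc_d_Cert_tree lc_d_Cert_tree lc_d_rc_15_1 lc_d_rc_15_1 lc_d_rc_15_1 lc_d_Cert_tree lc_d_rc_15_1 lc_d_Cert_tree lc_d_Cert_tree lc_d_rc_15_1 lc_d_Cert_tree lc_d_Cert_tree lc_d_Cert_tree lc_d_Cert_tree lc_d_rc_15_1 lc_d_rc_3_3 lc_d_rc_23_6 lc_d_rc_22_8 lc_d_rc_16_4 lc_d_rc_23_8 lc_d_rc_23_2 lc_d_Cert_tree lc_d_rc_17_2 lc_d_Cert_tree lc_d_rc_15_1 lc_d_rc_17_2 lc_d_rc_16_4 lc_d_rc_15_1 lc_d_rc_16_4 lc_d_rc_17_2) (@D3.rec (fun _ => (Cert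 rels S Gen.d)) lc_d_rc_15_1 lc_d_Cert_tree lc_d_Cert_tree lc_d_Cert_tree lc_d_rc_3_3 lc_d_Cert_tree lc_d_rc_15_1 lc_d_rc_17_2 lc_d_Cert_tree lc_d_Cert_tree lc_d_rc_23_4 lc_d_rc_15_1 lc_d_rc_8_3 lc_d_Cert_tree lc_d_Cert_tree lc_d_Cert_tree lc_d_rc_15_1 lc_d_rc_17_2 lc_d_Cert_tree lc_d_Cert_tree lc_d_rc_15_1 lc_d_rc_27_4 lc_d_rc_16_4 lc_d_rc_15_1 lc_d_rc_23_6 lc_d_Cert_tree lc_d_rc_17_2 lc_d_rc_27_4 lc_d_rc_16_4 lc_d_rc_3_1 lc_d_rc_27_4 lc_d_rc_15_1 lc_d_Cert_tree lc_d_rc_27_8 lc_d_rc_15_1 lc_d_rc_15_1 lc_d_Cert_tree lc_d_rc_15_1 lc_d_Cert_tree lc_d_Cert_tree lc_d_rc_15_1 lc_d_rc_27_4 lc_d_Cert_tree lc_d_rc_27_8 lc_d_Cert_tree lc_d_Cert_tree lc_d_rc_15_1 lc_d_rc_17_2 lc_d_rc_15_1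 lc_d_Cert_tree lc_d_rc_27_2 lc_d_rc_16_2 lc_d_rc_15_1 lc_d_rc_8_3 lc_d_rc_8_3 lc_d_rc_15_1 lc_d_rc_22_8 lc_d_Cert_tree lc_d_Cert_tree lc_d_rc_15_1 lc_d_Cert_tree lc_d_rc_15_1) (@D3.rec (fun _ => (Cert rels S Gen.d)) lc_d_Cert_tree lc_d_Cert_tree lc_d_Cert_tree lc_d_rc_15_1 lc_d_rc_17_2 lc_d_rc_23_6 lc_d_rc_22_6 lc_d_rc_16_2 lc_d_rc_17_2 lc_d_rc_27_2 lc_d_rc_8_3 lc_d_rc_24_0 lc_d_rc_15_1 lc_d_Cert_tree lc_d_Cert_tree lc_d_Cert_tree lc_d_rc_15_1 lc_d_Cert_tree lc_d_Cert_tree lc_d_rc_25_6 lc_d_rc_15_1 lc_d_Cert_tree lc_d_rc_15_1 lc_d_rc_15_1 lc_d_rc_17_0 lc_d_Cert_tree lc_d_Cert_tree lc_d_rc_15_1 lc_d_rc_17_2 lc_d_Cert_tree lc_d_rc_15_1 lc_d_rc_8_3 lc_d_rc_15_1 lc_d_Cert_tree lc_d_rc_15_1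 lc_d_Cert_tree lc_d_rc_17_2 lc_d_Cert_tree lc_d_rc_15_1 lc_d_Cert_tree lc_d_rc_17_2 lc_d_Cert_tree lc_d_rc_15_1 lc_d_rc_27_4 lc_d_Cert_tree lc_d_rc_15_1 lc_d_Cert_tree lc_d_Cert_tree lc_d_Cert_tree lc_d_rc_15_1 lc_d_rc_17_2 lc_d_rc_16_2 lc_d_rc_8_3 lc_d_rc_23_2 lc_d_rc_15_1 lc_d_rc_8_3 lc_d_Cert_tree lc_d_rc_15_1 lc_d_Cert_tree lc_d_Cert_tree lc_d_rc_15_1 lc_d_rc_17_0) (@D3.rec (fun _ => (Cert rels S Gen.d)) lc_d_Cert_tree lc_d_rc_15_1 lc_d_rc_22_2 lc_d_Cert_tree lc_d_Cert_tree lc_d_Cert_tree lc_d_rc_15_1 lc_d_rc_17_2 lc_d_rc_23_6 lc_d_rc_15_1 lc_d_rc_16_2 lc_d_rc_17_2 lc_d_rc_17_0 lc_d_rc_23_2 lc_d_rc_27_8 lc_d_rc_23_6 lc_d_Cert_tree lc_d_rc_15_1 lc_d_rc_3_3 lc_d_rc_8_3 lc_d_Cert_tree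 lc_d_rc_24_0 lc_d_Cert_tree lc_d_rc_25_18 lc_d_rc_15_1 lc_d_rc_8_3 lc_d_rc_27_8 lc_d_rc_24_0 lc_d_rc_15_1 lc_d_rc_8_1 lc_d_rc_15_1 lc_d_rc_27_4 lc_d_rc_15_1 lc_d_Cert_tree lc_d_rc_15_1 lc_d_Cert_tree lc_d_Cert_tree lc_d_Cert_tree lc_d_rc_15_1 lc_d_rc_17_2 lc_d_rc_15_1 lc_d_rc_27_8 lc_d_Cert_tree lc_d_Cert_tree lc_d_rc_17_2 lc_d_Cert_tree lc_d_rc_27_4 lc_d_rc_27_4 lc_d_Cert_tree lc_d_rc_15_1 lc_d_rc_27_2 lc_d_rc_27_4 lc_d_rc_27_2 lc_d_rc_15_1 lc_d_Cert_tree lc_d_rc_15_1 lc_d_rc_27_10 lc_d_rc_25_18 lc_d_Cert_tree lc_d_Cert_tree lc_d_rc_15_1 lc_d_rc_27_2) (@D3.rec (fun _ => (Cert rels S Gen.d)) lc_d_rc_3_3 lc_d_Cert_tree lc_d_rc_15_1 lc_d_Cert_tree lc_d_Cert_tree lc_d_rc_3_3 lc_d_rc_15_1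 lc_d_rc_27_4 lc_d_Cert_tree lc_d_Cert_tree lc_d_Cert_tree lc_d_rc_15_1 lc_d_Cert_tree lc_d_rc_3_3 lc_d_rc_15_1 lc_d_rc_3_1 lc_d_Cert_tree lc_d_rc_8_3 lc_d_rc_16_2 lc_d_Cert_tree lc_d_Cert_tree lc_d_Cert_tree lc_d_rc_3_1 lc_d_rc_15_1 lc_d_rc_8_3 lc_d_rc_8_3 lc_d_Cert_tree lc_d_rc_16_4 lc_d_Cert_tree lc_d_rc_15_1 lc_d_rc_23_2 lc_d_rc_24_0 lc_d_rc_8_3 lc_d_rc_3_3 lc_d_rc_27_10 lc_d_rc_15_1 lc_d_rc_15_1 lc_d_rc_17_2 lc_d_rc_23_4 lc_d_Cert_tree lc_d_rc_15_1 lc_d_rc_8_3 lc_d_rc_15_1 lc_d_rc_3_3 lc_d_rc_15_1 lc_d_rc_8_3 lc_d_Cert_tree lc_d_rc_17_2 lc_d_rc_22_4 lc_d_rc_8_3 lc_d_rc_15_1 lc_d_rc_27_4 lc_d_rc_8_3 lc_d_rc_3_3 lc_d_Cert_tree lc_d_rc_15_1 lc_d_rc_3_3 lc_d_rc_15_1 lc_d_rc_16_4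 lc_d_rc_23_6 lc_d_rc_23_6 lc_d_rc_27_2) (@D3.rec (fun _ => (Cert rels S Gen.d)) lc_d_rc_3_1 lc_d_Cert_tree lc_d_rc_16_2 lc_d_rc_8_3 lc_d_Cert_tree lc_d_Cert_tree lc_d_rc_27_8 lc_d_rc_15_1 lc_d_Cert_tree lc_d_Cert_tree lc_d_Cert_tree lc_d_rc_15_1 lc_d_rc_8_3 lc_d_rc_16_2 lc_d_rc_16_2 lc_d_rc_27_8 lc_d_rc_15_1 lc_d_rc_8_3 lc_d_rc_22_2 lc_d_rc_24_0 lc_d_rc_24_0 lc_d_rc_15_1 lc_d_rc_15_1 lc_d_rc_17_2 lc_d_rc_22_2 lc_d_rc_23_4 lc_d_Cert_tree lc_d_rc_24_5 lc_d_rc_17_2 lc_d_rc_15_1 lc_d_rc_12_13 lc_d_rc_16_4 lc_d_rc_17_2 lc_d_Cert_tree lc_d_rc_15_1 lc_d_rc_8_3 lc_d_rc_22_4 lc_d_rc_16_4 lc_d_rc_8_3 lc_d_rc_24_0 lc_d_rc_27_8 lc_d_rc_27_10 lc_d_rc_15_1 lc_d_rc_15_1 lc_d_rc_8_3 lc_d_rc_8_3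 lc_d_rc_23_6 lc_d_rc_16_0 lc_d_rc_15_1 lc_d_Cert_tree lc_d_rc_15_1 lc_d_rc_15_1 lc_d_rc_27_4 lc_d_rc_27_2 lc_d_rc_8_3 lc_d_rc_27_2 lc_d_Cert_tree lc_d_rc_15_1 lc_d_rc_23_2 lc_d_rc_15_1 lc_d_Cert_tree lc_d_Cert_tree) (@D3.rec (fun _ => (Cert rels S Gen.d)) lc_d_rc_3_3 lc_d_rc_15_1 lc_d_Cert_tree lc_d_Cert_tree lc_d_rc_15_1 lc_d_Cert_tree lc_d_Cert_tree lc_d_rc_3_3 lc_d_Cert_tree lc_d_Cert_tree lc_d_rc_15_1 lc_d_rc_27_4 lc_d_rc_15_1 lc_d_Cert_tree lc_d_Cert_tree lc_d_rc_15_1 lc_d_Cert_tree lc_d_rc_25_18 lc_d_Cert_tree lc_d_Cert_tree lc_d_rc_24_0 lc_d_rc_15_1 lc_d_Cert_tree lc_d_Cert_tree lc_d_rc_16_4 lc_d_rc_27_10 lc_d_rc_15_1 lc_d_rc_8_3 lc_d_rc_15_1 lc_d_rc_16_2 lc_d_rc_15_1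 lc_d_rc_16_4 lc_d_Cert_tree lc_d_Cert_tree lc_d_rc_27_4 lc_d_rc_15_1 lc_d_rc_16_4 lc_d_rc_15_1 lc_d_rc_15_1 lc_d_rc_17_2 lc_d_rc_15_1 lc_d_Cert_tree lc_d_rc_23_2 lc_d_rc_27_8 lc_d_rc_16_4 lc_d_rc_8_3 lc_d_Cert_tree lc_d_rc_15_1 lc_d_rc_22_4 lc_d_rc_16_0 lc_d_rc_27_4 lc_d_Cert_tree lc_d_Cert_tree lc_d_rc_15_1 lc_d_Cert_tree lc_d_rc_15_1 lc_d_rc_16_4 lc_d_Cert_tree lc_d_rc_15_1 lc_d_rc_3_3 lc_d_rc_8_3 lc_d_Cert_tree) (@D3.rec (fun _ => (Cert rels S Gen.d)) lc_d_rc_15_1 lc_d_rc_23_6 lc_d_Cert_tree lc_d_rc_16_4 lc_d_rc_15_1 lc_d_Cert_tree lc_d_rc_22_4 lc_d_Cert_tree lc_d_Cert_tree lc_d_rc_15_1 lc_d_Cert_tree lc_d_rc_8_3 lc_d_rc_15_1 lc_d_Cert_tree lc_d_rc_16_4 lc_d_Cert_tree lc_d_Cert_tree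 lc_d_Cert_tree lc_d_rc_15_1 lc_d_rc_22_6 lc_d_rc_16_0 lc_d_rc_15_1 lc_d_rc_24_0 lc_d_rc_8_3 lc_d_rc_15_1 lc_d_rc_16_4 lc_d_rc_16_4 lc_d_Cert_tree lc_d_rc_23_4 lc_d_Cert_tree lc_d_rc_15_1 lc_d_Cert_tree lc_d_rc_24_5 lc_d_rc_24_0 lc_d_rc_17_2 lc_d_Cert_tree lc_d_rc_8_3 lc_d_rc_3_3 lc_d_Cert_tree lc_d_rc_15_1 lc_d_rc_17_2 lc_d_rc_23_4 lc_d_rc_15_1 lc_d_rc_27_4 lc_d_rc_24_5 lc_d_Cert_tree lc_d_rc_15_1 lc_d_rc_3_3 lc_d_rc_8_3 lc_d_Cert_tree lc_d_rc_15_1 lc_d_rc_17_2 lc_d_Cert_tree lc_d_Cert_tree lc_d_rc_15_1 lc_d_Cert_tree lc_d_Cert_tree lc_d_Cert_tree lc_d_rc_15_1 lc_d_Cert_tree lc_d_rc_17_2 lc_d_rc_8_1) (@D3.rec (fun _ => (Cert rels S Gen.d)) lc_d_rc_15_1 lc_d_rc_8_3 lc_d_rc_25_6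 lc_d_rc_15_1 lc_d_Cert_tree lc_d_rc_15_1 lc_d_rc_3_3 lc_d_rc_16_2 lc_d_rc_22_4 lc_d_rc_15_1 lc_d_Cert_tree lc_d_rc_15_1 lc_d_rc_24_0 lc_d_rc_8_3 lc_d_rc_3_3 lc_d_Cert_tree lc_d_rc_8_3 lc_d_rc_27_10 lc_d_rc_17_2 lc_d_rc_15_1 lc_d_rc_16_4 lc_d_rc_15_1 lc_d_rc_15_1 lc_d_rc_15_1 lc_d_rc_27_4 lc_d_Cert_tree lc_d_rc_15_1 lc_d_rc_25_2 lc_d_rc_27_4 lc_d_Cert_tree lc_d_rc_15_1 lc_d_rc_17_2 lc_d_rc_25_2 lc_d_rc_16_4 lc_d_rc_16_4 lc_d_rc_15_1 lc_d_rc_17_2 lc_d_rc_23_2 lc_d_rc_23_8 lc_d_rc_3_3 lc_d_rc_3_3 lc_d_rc_15_1 lc_d_rc_16_0 lc_d_rc_22_6 lc_d_rc_15_1 lc_d_rc_17_2 lc_d_rc_8_3 lc_d_rc_27_2 lc_d_rc_3_1 lc_d_rc_8_3 lc_d_rc_17_2 lc_d_rc_3_3 lc_d_rc_15_1 lc_d_rc_27_4 lc_d_rc_24_0 lc_d_rc_15_1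 lc_d_rc_17_2 lc_d_Cert_tree lc_d_rc_17_2 lc_d_rc_16_4 lc_d_rc_8_3 lc_d_Cert_tree) (@D3.rec (fun _ => (Cert rels S Gen.d)) lc_d_rc_15_1 lc_d_rc_22_8 lc_d_rc_23_2 lc_d_rc_24_5 lc_d_rc_15_1 lc_d_rc_23_4 lc_d_rc_22_8 lc_d_rc_3_3 lc_d_rc_15_1 lc_d_rc_17_2 lc_d_rc_15_1 lc_d_rc_15_1 lc_d_Cert_tree lc_d_rc_17_2 lc_d_rc_25_2 lc_d_Cert_tree lc_d_rc_3_3 lc_d_rc_15_1 lc_d_rc_25_14 lc_d_rc_24_0 lc_d_rc_16_2 lc_d_rc_3_3 lc_d_rc_15_1 lc_d_rc_8_1 lc_d_Cert_tree lc_d_rc_16_4 lc_d_rc_15_1 lc_d_Cert_tree lc_d_rc_15_1 lc_d_rc_22_4 lc_d_rc_27_2 lc_d_rc_16_2 lc_d_Cert_tree lc_d_rc_15_1 lc_d_rc_15_1 lc_d_rc_8_3 lc_d_rc_16_4 lc_d_Cert_tree lc_d_rc_16_0 lc_d_rc_15_1 lc_d_rc_17_2 lc_d_rc_8_1 lc_d_rc_15_1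 lc_d_Cert_tree lc_d_rc_15_1 lc_d_rc_15_1 lc_d_rc_3_1 lc_d_rc_22_2 lc_d_rc_23_8 lc_d_rc_27_8 lc_d_rc_8_3 lc_d_rc_15_1 lc_d_rc_16_4 lc_d_rc_15_1 lc_d_rc_27_4 lc_d_Cert_tree lc_d_rc_15_1 lc_d_rc_22_2 lc_d_rc_22_6 lc_d_rc_16_4 lc_d_rc_15_1 lc_d_rc_8_3) (@D3.rec (fun _ => (Cert rels S Gen.d)) lc_d_Cert_tree lc_d_rc_23_2 lc_d_rc_15_1 lc_d_rc_16_4 lc_d_rc_15_1 lc_d_rc_15_1 lc_d_rc_23_8 lc_d_rc_16_0 lc_d_rc_15_1 lc_d_Cert_tree lc_d_Cert_tree lc_d_Cert_tree lc_d_rc_15_1 lc_d_rc_16_2 lc_d_rc_15_1 lc_d_rc_8_1 lc_d_rc_23_4 lc_d_Cert_tree lc_d_rc_15_1 lc_d_rc_24_5 lc_d_rc_22_2 lc_d_Cert_tree lc_d_rc_15_1 lc_d_rc_23_8 lc_d_rc_23_8 lc_d_Cert_tree lc_d_rc_15_1 lc_d_rc_15_1 lc_d_rc_15_1 lc_d_rc_23_8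 lc_d_Cert_tree lc_d_rc_15_1 lc_d_rc_15_1 lc_d_Cert_tree lc_d_Cert_tree lc_d_Cert_tree lc_d_rc_15_1 lc_d_rc_17_2 lc_d_Cert_tree lc_d_Cert_tree lc_d_Cert_tree lc_d_rc_12_5 lc_d_Cert_tree lc_d_Cert_tree lc_d_rc_24_5 lc_d_rc_15_1 lc_d_rc_15_1 lc_d_Cert_tree lc_d_Cert_tree lc_d_Cert_tree lc_d_rc_15_1 lc_d_rc_25_2 lc_d_rc_24_0 lc_d_Cert_tree lc_d_rc_15_1 lc_d_rc_8_3 lc_d_Cert_tree lc_d_rc_15_1 lc_d_Cert_tree lc_d_rc_15_1 lc_d_rc_27_4 lc_d_Cert_tree) (@D3.rec (fun _ => (Cert rels S Gen.d)) lc_d_rc_15_1 lc_d_rc_27_8 lc_d_rc_12_3 lc_d_rc_15_1 lc_d_Cert_tree lc_d_rc_17_2 lc_d_rc_15_1 lc_d_rc_23_4 lc_d_Cert_tree lc_d_Cert_tree lc_d_rc_15_1 lc_d_Cert_tree lc_d_rc_15_1 lc_d_Cert_tree lc_d_rc_15_1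 lc_d_rc_27_8 lc_d_Cert_tree lc_d_rc_15_1 lc_d_Cert_tree lc_d_Cert_tree lc_d_rc_15_1 lc_d_rc_27_4 lc_d_rc_8_1 lc_d_rc_15_1 lc_d_rc_15_1 lc_d_rc_27_4 lc_d_rc_17_2 lc_d_rc_16_4 lc_d_rc_15_1 lc_d_Cert_tree lc_d_rc_15_1 lc_d_rc_15_1 lc_d_rc_15_1 lc_d_Cert_tree lc_d_rc_15_1 lc_d_Cert_tree lc_d_rc_15_1 lc_d_rc_16_4 lc_d_rc_15_1 lc_d_Cert_tree lc_d_rc_15_1 lc_d_rc_23_6 lc_d_rc_15_1 lc_d_rc_27_8 lc_d_rc_8_1 lc_d_rc_17_2 lc_d_rc_15_1 lc_d_Cert_tree lc_d_rc_15_1 lc_d_Cert_tree lc_d_rc_15_1 lc_d_rc_23_6 lc_d_rc_15_1 lc_d_Cert_tree lc_d_rc_15_1 lc_d_Cert_tree lc_d_rc_15_1 lc_d_rc_22_6 lc_d_rc_16_4 lc_d_Cert_tree lc_d_rc_15_1 lc_d_rc_23_4) (@D3.rec (fun _ => (Cert rels S Gen.d)) lc_d_rc_24_0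 lc_d_rc_8_3 lc_d_rc_15_1 lc_d_rc_23_2 lc_d_Cert_tree lc_d_rc_24_5 lc_d_rc_24_5 lc_d_rc_15_1 lc_d_Cert_tree lc_d_Cert_tree lc_d_rc_15_1 lc_d_rc_15_1 lc_d_rc_17_2 lc_d_Cert_tree lc_d_rc_8_3 lc_d_Cert_tree lc_d_Cert_tree lc_d_Cert_tree lc_d_Cert_tree lc_d_Cert_tree lc_d_rc_15_1 lc_d_rc_17_2 lc_d_rc_15_1 lc_d_Cert_tree lc_d_Cert_tree lc_d_Cert_tree lc_d_rc_15_1 lc_d_rc_17_2 lc_d_Cert_tree lc_d_rc_15_1 lc_d_rc_27_4 lc_d_rc_15_1 lc_d_Cert_tree lc_d_rc_24_0 lc_d_rc_23_4 lc_d_Cert_tree lc_d_rc_17_2 lc_d_Cert_tree lc_d_rc_15_1 lc_d_rc_27_4 lc_d_Cert_tree lc_d_rc_17_2 lc_d_rc_15_1 lc_d_rc_15_1 lc_d_Cert_tree lc_d_Cert_tree lc_d_Cert_tree lc_d_rc_15_1 lc_d_Cert_tree lc_d_rc_22_6 lc_d_Cert_tree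 lc_d_rc_15_1 lc_d_rc_16_4 lc_d_rc_27_8 lc_d_rc_25_14 lc_d_rc_24_0 lc_d_rc_12_5 lc_d_rc_15_1 lc_d_Cert_tree lc_d_rc_15_1 lc_d_Cert_tree lc_d_rc_15_1) (@D3.rec (fun _ => (Cert rels S Gen.d)) lc_d_rc_15_1 lc_d_Cert_tree lc_d_Cert_tree lc_d_rc_15_1 lc_d_Cert_tree lc_d_rc_15_1 lc_d_rc_17_2 lc_d_Cert_tree lc_d_rc_15_1 lc_d_rc_27_4 lc_d_Cert_tree lc_d_rc_15_1 lc_d_rc_27_8 lc_d_rc_23_6 lc_d_rc_15_1 lc_d_rc_22_6 lc_d_Cert_tree lc_d_rc_15_1 lc_d_rc_15_1 lc_d_Cert_tree lc_d_Cert_tree lc_d_Cert_tree lc_d_rc_15_1 lc_d_rc_17_2 lc_d_Cert_tree lc_d_rc_15_1 lc_d_rc_23_6 lc_d_rc_15_1 lc_d_rc_22_6 lc_d_rc_17_2 lc_d_rc_15_1 lc_d_Cert_tree lc_d_Cert_tree lc_d_rc_15_1 lc_d_rc_15_1 lc_d_rc_15_1 lc_d_rc_15_1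 lc_d_Cert_tree lc_d_rc_15_1 lc_d_rc_8_3 lc_d_rc_8_3 lc_d_rc_24_5 lc_d_Cert_tree lc_d_rc_15_1 lc_d_rc_15_1 lc_d_Cert_tree lc_d_rc_8_3 lc_d_Cert_tree lc_d_Cert_tree lc_d_Cert_tree lc_d_Cert_tree lc_d_rc_15_1 lc_d_rc_17_2 lc_d_Cert_tree lc_d_Cert_tree lc_d_rc_15_1 lc_d_rc_17_2 lc_d_Cert_tree lc_d_rc_15_1 lc_d_rc_27_4 lc_d_rc_15_1 lc_d_Cert_tree) (@D3.rec (fun _ => (Cert rels S Gen.d)) lc_d_rc_23_6 lc_d_rc_15_1 lc_d_rc_22_2 lc_d_rc_17_2 lc_d_Cert_tree lc_d_rc_15_1 lc_d_rc_16_0 lc_d_rc_27_2 lc_d_rc_15_1 lc_d_rc_17_2 lc_d_rc_23_2 lc_d_rc_23_2 lc_d_Cert_tree lc_d_rc_15_1 lc_d_Cert_tree lc_d_Cert_tree lc_d_rc_15_1 lc_d_rc_24_5 lc_d_rc_27_10 lc_d_rc_8_3 lc_d_rc_27_4 lc_d_rc_17_2 lc_d_Cert_tree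 lc_d_Cert_tree lc_d_rc_8_3 lc_d_Cert_tree lc_d_Cert_tree lc_d_rc_15_1 lc_d_rc_17_2 lc_d_Cert_tree lc_d_Cert_tree lc_d_rc_15_1 lc_d_rc_17_2 lc_d_rc_3_3 lc_d_rc_15_1 lc_d_Cert_tree lc_d_rc_15_1 lc_d_rc_27_8 lc_d_Cert_tree lc_d_rc_15_1 lc_d_rc_22_6 lc_d_rc_17_2 lc_d_Cert_tree lc_d_rc_15_1 lc_d_rc_15_1 lc_d_Cert_tree lc_d_rc_27_8 lc_d_Cert_tree lc_d_rc_8_3 lc_d_Cert_tree lc_d_rc_15_1 lc_d_rc_17_2 lc_d_rc_8_3 lc_d_Cert_tree lc_d_rc_8_3 lc_d_rc_3_3 lc_d_Cert_tree lc_d_Cert_tree lc_d_Cert_tree lc_d_rc_15_1 lc_d_rc_24_0 lc_d_Cert_tree) (@D3.rec (fun _ => (Cert rels S Gen.d)) lc_d_Cert_tree lc_d_Cert_tree lc_d_Cert_tree lc_d_rc_15_1 lc_d_rc_17_2 lc_d_rc_15_1 lc_d_Cert_tree lc_d_Cert_tree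 lc_d_rc_15_1 lc_d_rc_17_2 lc_d_rc_23_6 lc_d_rc_23_2 lc_d_rc_17_2 lc_d_rc_15_1 lc_d_Cert_tree lc_d_Cert_tree lc_d_Cert_tree lc_d_rc_23_4 lc_d_rc_23_4 lc_d_rc_15_1 lc_d_rc_8_1 lc_d_Cert_tree lc_d_Cert_tree lc_d_rc_15_1 lc_d_rc_27_2 lc_d_rc_16_2 lc_d_rc_15_1 lc_d_rc_22_6 lc_d_rc_17_2 lc_d_rc_24_0 lc_d_Cert_tree lc_d_Cert_tree lc_d_Cert_tree lc_d_rc_15_1 lc_d_rc_17_2 lc_d_rc_15_1 lc_d_rc_8_3 lc_d_rc_8_3 lc_d_rc_3_1 lc_d_Cert_tree lc_d_Cert_tree lc_d_Cert_tree lc_d_rc_15_1 lc_d_Cert_tree lc_d_Cert_tree lc_d_Cert_tree lc_d_Cert_tree lc_d_Cert_tree lc_d_rc_8_1 lc_d_rc_15_1 lc_d_Cert_tree lc_d_rc_23_6 lc_d_rc_23_4 lc_d_rc_15_1 lc_d_Cert_tree lc_d_rc_15_1 lc_d_rc_12_13 lc_d_Cert_tree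 lc_d_Cert_tree lc_d_rc_15_1 lc_d_Cert_tree lc_d_rc_24_5) (@D3.rec (fun _ => (Cert rels S Gen.d)) lc_d_Cert_tree lc_d_rc_15_1 lc_d_Cert_tree lc_d_rc_23_4 lc_d_rc_15_1 lc_d_Cert_tree lc_d_Cert_tree lc_d_rc_23_4 lc_d_rc_15_1 lc_d_Cert_tree lc_d_rc_23_6 lc_d_rc_23_6 lc_d_Cert_tree lc_d_rc_15_1 lc_d_rc_22_4 lc_d_rc_16_4 lc_d_rc_3_3 lc_d_rc_15_1 lc_d_rc_22_4 lc_d_rc_15_1 lc_d_Cert_tree lc_d_rc_15_1 lc_d_Cert_tree lc_d_Cert_tree lc_d_rc_15_1 lc_d_Cert_tree lc_d_rc_15_1 lc_d_Cert_tree lc_d_rc_15_1 lc_d_rc_23_6 lc_d_rc_15_1 lc_d_Cert_tree lc_d_Cert_tree lc_d_Cert_tree lc_d_Cert_tree lc_d_rc_15_1 lc_d_rc_23_8 lc_d_rc_15_1 lc_d_rc_16_4 lc_d_Cert_tree lc_d_rc_15_1 lc_d_rc_27_8 lc_d_Cert_tree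 lc_d_rc_15_1 lc_d_rc_23_8 lc_d_rc_3_3 lc_d_Cert_tree lc_d_Cert_tree lc_d_rc_15_1 lc_d_Cert_tree lc_d_rc_15_1 lc_d_Cert_tree lc_d_Cert_tree lc_d_rc_15_1 lc_d_Cert_tree lc_d_rc_15_1 lc_d_rc_12_5 lc_d_rc_22_2 lc_d_rc_3_3 lc_d_Cert_tree lc_d_rc_15_1 lc_d_Cert_tree) (@D3.rec (fun _ => (Cert rels S Gen.d)) lc_d_rc_15_1 lc_d_Cert_tree lc_d_rc_15_1 lc_d_rc_12_15 lc_d_Cert_tree lc_d_rc_15_1 lc_d_rc_12_3 lc_d_rc_16_4 lc_d_rc_17_2 lc_d_rc_15_1 lc_d_Cert_tree lc_d_rc_15_1 lc_d_rc_15_1 lc_d_rc_3_1 lc_d_Cert_tree lc_d_rc_15_1 lc_d_rc_23_2 lc_d_rc_23_4 lc_d_rc_23_2 lc_d_rc_27_2 lc_d_rc_27_8 lc_d_rc_15_1 lc_d_Cert_tree lc_d_rc_24_0 lc_d_rc_15_1 lc_d_Cert_tree lc_d_Cert_tree lc_d_rc_15_1 lc_d_Cert_tree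 lc_d_rc_15_1 lc_d_rc_27_8 lc_d_Cert_tree lc_d_rc_15_1 lc_d_rc_23_4 lc_d_rc_15_1 lc_d_rc_23_2 lc_d_Cert_tree lc_d_rc_23_8 lc_d_rc_24_0 lc_d_rc_15_1 lc_d_Cert_tree lc_d_rc_24_0 lc_d_rc_15_1 lc_d_Cert_tree lc_d_Cert_tree lc_d_Cert_tree lc_d_rc_15_1 lc_d_rc_17_2 lc_d_Cert_tree lc_d_Cert_tree lc_d_rc_8_3 lc_d_rc_22_4 lc_d_Cert_tree lc_d_rc_15_1 lc_d_rc_15_1 lc_d_rc_17_2 lc_d_rc_16_4 lc_d_rc_15_1 lc_d_rc_3_3 lc_d_rc_15_1 lc_d_rc_8_3 lc_d_rc_12_1) (@D3.rec (fun _ => (Cert rels S Gen.d)) lc_d_Cert_tree lc_d_rc_25_2 lc_d_rc_15_1 lc_d_rc_23_2 lc_d_rc_15_1 lc_d_rc_15_1 lc_d_rc_15_1 lc_d_rc_27_10 lc_d_rc_17_2 lc_d_rc_16_4 lc_d_Cert_tree lc_d_rc_15_1 lc_d_Cert_tree lc_d_rc_15_1 lc_d_rc_15_1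 lc_d_Cert_tree lc_d_Cert_tree lc_d_Cert_tree lc_d_rc_15_1 lc_d_rc_17_2 lc_d_rc_15_1 lc_d_rc_16_4 lc_d_rc_17_2 lc_d_Cert_tree lc_d_rc_15_1 lc_d_rc_15_1 lc_d_rc_27_10 lc_d_rc_15_1 lc_d_Cert_tree lc_d_rc_17_2 lc_d_Cert_tree lc_d_rc_15_1 lc_d_rc_15_1 lc_d_Cert_tree lc_d_Cert_tree lc_d_Cert_tree lc_d_Cert_tree lc_d_rc_15_1 lc_d_rc_12_1 lc_d_rc_15_1 lc_d_rc_23_4 lc_d_rc_16_4 lc_d_rc_23_2 lc_d_rc_8_1 lc_d_Cert_tree lc_d_rc_8_1 lc_d_rc_23_8 lc_d_Cert_tree lc_d_Cert_tree lc_d_Cert_tree lc_d_rc_12_15 lc_d_Cert_tree lc_d_Cert_tree lc_d_rc_15_1 lc_d_rc_17_2 lc_d_rc_25_18 lc_d_rc_25_18 lc_d_rc_15_1 lc_d_rc_17_2 lc_d_Cert_tree lc_d_rc_15_1 lc_d_rc_27_8)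
def ce_d_7 : D2 → D3 → (Cert rels S Gen.d) := @D2.rec (fun _ => D3 → (Cert rels S Gen.d)) (@D3.rec (fun _ => (Cert rels S Gen.d)) lc_d_Cert_tree lc_d_rc_15_1 lc_d_rc_23_6 lc_d_rc_22_6 lc_d_rc_17_2 lc_d_rc_15_1 lc_d_rc_8_3 lc_d_rc_23_8 lc_d_rc_27_2 lc_d_rc_15_1 lc_d_Cert_tree lc_d_Cert_tree lc_d_rc_15_1 lc_d_rc_15_1 lc_d_Cert_tree lc_d_rc_27_8 lc_d_rc_8_3 lc_d_Cert_tree lc_d_rc_15_1 lc_d_Cert_tree lc_d_rc_15_1 lc_d_rc_17_2 lc_d_Cert_tree lc_d_rc_15_1 lc_d_Cert_tree lc_d_Cert_tree lc_d_rc_15_1 lc_d_rc_15_1 lc_d_Cert_tree lc_d_rc_8_3 lc_d_Cert_tree lc_d_Cert_tree lc_d_Cert_tree lc_d_rc_15_1 lc_d_Cert_tree lc_d_rc_15_1 lc_d_rc_27_8 lc_d_rc_23_6 lc_d_rc_27_8 lc_d_rc_17_2 lc_d_rc_8_3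 lc_d_rc_24_5 lc_d_rc_8_1 lc_d_rc_15_1 lc_d_Cert_tree lc_d_Cert_tree lc_d_rc_15_1 lc_d_rc_27_4 lc_d_rc_23_2 lc_d_rc_15_1 lc_d_Cert_tree lc_d_Cert_tree lc_d_Cert_tree lc_d_Cert_tree lc_d_Cert_tree lc_d_Cert_tree lc_d_rc_15_1 lc_d_rc_17_2 lc_d_Cert_tree lc_d_Cert_tree lc_d_rc_15_1 lc_d_rc_17_2) (@D3.rec (fun _ => (Cert rels S Gen.d)) lc_d_Cert_tree lc_d_rc_15_1 lc_d_rc_27_4 lc_d_Cert_tree lc_d_rc_15_1 lc_d_rc_27_8 lc_d_rc_15_1 lc_d_rc_15_1 lc_d_rc_22_6 lc_d_rc_17_2 lc_d_Cert_tree lc_d_rc_15_1 lc_d_rc_27_8 lc_d_Cert_tree lc_d_Cert_tree lc_d_rc_8_3 lc_d_Cert_tree lc_d_Cert_tree lc_d_rc_15_1 lc_d_Cert_tree lc_d_rc_15_1 lc_d_Cert_tree lc_d_rc_24_0 lc_d_Cert_tree lc_d_Cert_tree lc_d_Cert_tree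 lc_d_rc_15_1 lc_d_Cert_tree lc_d_Cert_tree lc_d_rc_15_1 lc_d_rc_17_2 lc_d_rc_8_3 lc_d_rc_8_1 lc_d_rc_8_1 lc_d_Cert_tree lc_d_Cert_tree lc_d_Cert_tree lc_d_Cert_tree lc_d_Cert_tree lc_d_rc_15_1 lc_d_rc_17_2 lc_d_Cert_tree lc_d_Cert_tree lc_d_rc_15_1 lc_d_rc_17_2 lc_d_rc_3_3 lc_d_rc_15_1 lc_d_Cert_tree lc_d_rc_17_2 lc_d_rc_24_0 lc_d_rc_8_3 lc_d_Cert_tree lc_d_rc_15_1 lc_d_Cert_tree lc_d_Cert_tree lc_d_rc_15_1 lc_d_rc_17_2 lc_d_rc_8_3 lc_d_Cert_tree lc_d_rc_15_1 lc_d_rc_27_4 lc_d_Cert_tree) (@D3.rec (fun _ => (Cert rels S Gen.d)) lc_d_rc_15_1 lc_d_rc_27_8 lc_d_rc_15_1 lc_d_rc_15_1 lc_d_Cert_tree lc_d_rc_17_2 lc_d_rc_15_1 lc_d_rc_23_6 lc_d_rc_22_2 lc_d_rc_8_1 lc_d_rc_24_5 lc_d_rc_15_1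 lc_d_rc_27_4 lc_d_rc_22_2 lc_d_rc_23_4 lc_d_rc_15_1 lc_d_Cert_tree lc_d_rc_25_18 lc_d_rc_22_4 lc_d_rc_22_6 lc_d_rc_17_2 lc_d_Cert_tree lc_d_Cert_tree lc_d_Cert_tree lc_d_rc_15_1 lc_d_Cert_tree lc_d_Cert_tree lc_d_Cert_tree lc_d_rc_15_1 lc_d_Cert_tree lc_d_rc_16_0 lc_d_rc_15_1 lc_d_rc_23_4 lc_d_rc_23_6 lc_d_rc_23_6 lc_d_rc_15_1 lc_d_Cert_tree lc_d_rc_17_0 lc_d_rc_15_1 lc_d_rc_8_3 lc_d_Cert_tree lc_d_Cert_tree lc_d_Cert_tree lc_d_rc_15_1 lc_d_Cert_tree lc_d_rc_15_1 lc_d_rc_15_1 lc_d_Cert_tree lc_d_rc_15_1 lc_d_rc_8_3 lc_d_rc_23_4 lc_d_Cert_tree lc_d_rc_8_3 lc_d_rc_15_1 lc_d_rc_16_4 lc_d_rc_12_15 lc_d_rc_23_6 lc_d_Cert_tree lc_d_rc_15_1 lc_d_rc_22_4 lc_d_Cert_tree lc_d_rc_15_1)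 (@D3.rec (fun _ => (Cert rels S Gen.d)) lc_d_Cert_tree lc_d_rc_15_1 lc_d_rc_27_8 lc_d_Cert_tree lc_d_rc_15_1 lc_d_rc_27_4 lc_d_rc_23_6 lc_d_rc_15_1 lc_d_Cert_tree lc_d_rc_15_1 lc_d_rc_27_2 lc_d_Cert_tree lc_d_rc_15_1 lc_d_rc_27_2 lc_d_rc_23_6 lc_d_rc_15_1 lc_d_rc_16_2 lc_d_rc_17_2 lc_d_rc_15_1 lc_d_rc_8_3 lc_d_Cert_tree lc_d_rc_15_1 lc_d_rc_15_1 lc_d_rc_27_4 lc_d_rc_15_1 lc_d_rc_15_1 lc_d_rc_15_1 lc_d_Cert_tree lc_d_rc_17_2 lc_d_rc_15_1 lc_d_rc_17_2 lc_d_rc_23_6 lc_d_rc_23_6 lc_d_Cert_tree lc_d_rc_15_1 lc_d_Cert_tree lc_d_Cert_tree lc_d_rc_15_1 lc_d_rc_16_2 lc_d_rc_3_3 lc_d_rc_15_1 lc_d_rc_27_8 lc_d_rc_23_2 lc_d_rc_15_1 lc_d_rc_27_2 lc_d_rc_15_1 lc_d_rc_15_1 lc_d_Cert_tree lc_d_rc_22_6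 lc_d_rc_15_1 lc_d_rc_16_2 lc_d_rc_15_1 lc_d_Cert_tree lc_d_rc_27_2 lc_d_rc_15_1 lc_d_Cert_tree lc_d_rc_15_1 lc_d_rc_24_5 lc_d_rc_15_1 lc_d_Cert_tree lc_d_rc_15_1 lc_d_Cert_tree) (@D3.rec (fun _ => (Cert rels S Gen.d)) lc_d_Cert_tree lc_d_rc_15_1 lc_d_Cert_tree lc_d_rc_24_0 lc_d_Cert_tree lc_d_rc_15_1 lc_d_rc_27_8 lc_d_rc_8_3 lc_d_rc_27_2 lc_d_rc_22_4 lc_d_rc_23_8 lc_d_rc_16_4 lc_d_Cert_tree lc_d_Cert_tree lc_d_rc_15_1 lc_d_rc_17_2 lc_d_Cert_tree lc_d_rc_15_1 lc_d_Cert_tree lc_d_Cert_tree lc_d_Cert_tree lc_d_rc_15_1 lc_d_Cert_tree lc_d_rc_15_1 lc_d_rc_15_1 lc_d_Cert_tree lc_d_rc_15_1 lc_d_Cert_tree lc_d_rc_15_1 lc_d_rc_27_4 lc_d_rc_3_1 lc_d_Cert_tree lc_d_rc_8_1 lc_d_rc_15_1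 lc_d_rc_15_1 lc_d_rc_23_6 lc_d_rc_24_5 lc_d_Cert_tree lc_d_rc_16_2 lc_d_Cert_tree lc_d_rc_17_2 lc_d_rc_15_1 lc_d_rc_17_2 lc_d_Cert_tree lc_d_rc_27_4 lc_d_rc_15_1 lc_d_Cert_tree lc_d_rc_17_2 lc_d_rc_22_2 lc_d_rc_15_1 lc_d_rc_24_5 lc_d_Cert_tree lc_d_rc_15_1 lc_d_Cert_tree lc_d_rc_15_1 lc_d_rc_27_8 lc_d_rc_27_4 lc_d_Cert_tree lc_d_rc_15_1 lc_d_rc_15_1 lc_d_rc_24_0 lc_d_rc_15_1) (@D3.rec (fun _ => (Cert rels S Gen.d)) lc_d_Cert_tree lc_d_Cert_tree lc_d_rc_27_10 lc_d_rc_3_3 lc_d_rc_15_1 lc_d_rc_23_8 lc_d_rc_15_1 lc_d_rc_23_8 lc_d_rc_23_8 lc_d_rc_15_1 lc_d_rc_17_2 lc_d_Cert_tree lc_d_rc_16_4 lc_d_rc_22_2 lc_d_Cert_tree lc_d_rc_15_1 lc_d_Cert_tree lc_d_rc_15_1 lc_d_Cert_tree lc_d_rc_15_1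 lc_d_Cert_tree lc_d_rc_15_1 lc_d_rc_8_3 lc_d_rc_22_6 lc_d_rc_24_0 lc_d_rc_22_4 lc_d_rc_27_2 lc_d_rc_23_2 lc_d_rc_16_4 lc_d_rc_15_1 lc_d_rc_24_0 lc_d_rc_15_1 lc_d_rc_15_1 lc_d_Cert_tree lc_d_Cert_tree lc_d_rc_15_1 lc_d_Cert_tree lc_d_rc_25_6 lc_d_rc_16_4 lc_d_Cert_tree lc_d_rc_15_1 lc_d_rc_17_2 lc_d_Cert_tree lc_d_Cert_tree lc_d_rc_15_1 lc_d_Cert_tree lc_d_rc_15_1 lc_d_Cert_tree lc_d_rc_23_6 lc_d_rc_15_1 lc_d_Cert_tree lc_d_rc_17_2 lc_d_Cert_tree lc_d_rc_15_1 lc_d_rc_27_4 lc_d_Cert_tree lc_d_rc_24_0 lc_d_rc_15_1 lc_d_rc_8_3 lc_d_rc_8_3 lc_d_rc_8_3 lc_d_rc_27_8) (@D3.rec (fun _ => (Cert rels S Gen.d)) lc_d_rc_27_10 lc_d_Cert_tree lc_d_rc_15_1 lc_d_rc_16_4 lc_d_Cert_tree lc_d_rc_16_4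 lc_d_Cert_tree lc_d_rc_15_1 lc_d_rc_17_2 lc_d_rc_15_1 lc_d_Cert_tree lc_d_rc_15_1 lc_d_rc_27_4 lc_d_rc_23_4 lc_d_rc_15_1 lc_d_rc_22_4 lc_d_rc_17_2 lc_d_Cert_tree lc_d_rc_15_1 lc_d_rc_15_1 lc_d_Cert_tree lc_d_rc_15_1 lc_d_rc_15_1 lc_d_Cert_tree lc_d_rc_23_6 lc_d_Cert_tree lc_d_Cert_tree lc_d_Cert_tree lc_d_rc_15_1 lc_d_rc_17_2 lc_d_rc_8_3 lc_d_Cert_tree lc_d_rc_15_1 lc_d_rc_17_2 lc_d_Cert_tree lc_d_rc_15_1 lc_d_Cert_tree lc_d_rc_15_1 lc_d_rc_27_8 lc_d_rc_24_0 lc_d_rc_15_1 lc_d_rc_22_6 lc_d_rc_17_2 lc_d_Cert_tree lc_d_Cert_tree lc_d_rc_15_1 lc_d_Cert_tree lc_d_rc_15_1 lc_d_Cert_tree lc_d_rc_15_1 lc_d_Cert_tree lc_d_rc_15_1 lc_d_Cert_tree lc_d_rc_15_1 lc_d_rc_22_4 lc_d_Cert_tree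 lc_d_Cert_tree lc_d_Cert_tree lc_d_rc_15_1 lc_d_rc_16_4 lc_d_rc_27_8 lc_d_rc_27_10) (@D3.rec (fun _ => (Cert rels S Gen.d)) lc_d_rc_15_1 lc_d_rc_16_4 lc_d_Cert_tree lc_d_Cert_tree lc_d_rc_15_1 lc_d_rc_17_2 lc_d_rc_8_3 lc_d_Cert_tree lc_d_Cert_tree lc_d_Cert_tree lc_d_rc_15_1 lc_d_rc_8_3 lc_d_Cert_tree lc_d_rc_15_1 lc_d_rc_27_4 lc_d_Cert_tree lc_d_rc_15_1 lc_d_rc_24_0 lc_d_rc_15_1 lc_d_rc_23_8 lc_d_rc_17_2 lc_d_Cert_tree lc_d_rc_15_1 lc_d_rc_27_4 lc_d_Cert_tree lc_d_Cert_tree lc_d_Cert_tree lc_d_rc_15_1 lc_d_rc_24_5 lc_d_rc_24_0 lc_d_rc_15_1 lc_d_Cert_tree lc_d_rc_15_1 lc_d_Cert_tree lc_d_rc_16_4 lc_d_rc_25_18 lc_d_Cert_tree lc_d_rc_15_1 lc_d_Cert_tree lc_d_Cert_tree lc_d_rc_15_1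 lc_d_rc_17_2 lc_d_rc_15_1 lc_d_rc_27_4 lc_d_rc_12_1 lc_d_rc_15_1 lc_d_rc_24_0 lc_d_rc_24_0 lc_d_Cert_tree lc_d_rc_8_3 lc_d_Cert_tree lc_d_rc_16_4 lc_d_Cert_tree lc_d_Cert_tree lc_d_Cert_tree lc_d_rc_15_1 lc_d_rc_17_2 lc_d_Cert_tree lc_d_Cert_tree lc_d_rc_15_1 lc_d_rc_22_2 lc_d_rc_15_1) (@D3.rec (fun _ => (Cert rels S Gen.d)) lc_d_rc_24_0 lc_d_rc_17_2 lc_d_Cert_tree lc_d_rc_16_4 lc_d_Cert_tree lc_d_Cert_tree lc_d_rc_15_1 lc_d_Cert_tree lc_d_Cert_tree lc_d_rc_15_1 lc_d_rc_8_3 lc_d_rc_23_6 lc_d_rc_23_4 lc_d_rc_27_10 lc_d_rc_15_1 lc_d_rc_24_5 lc_d_Cert_tree lc_d_rc_27_2 lc_d_Cert_tree lc_d_rc_15_1 lc_d_rc_17_2 lc_d_Cert_tree lc_d_Cert_tree lc_d_rc_15_1 lc_d_Cert_tree lc_d_Cert_tree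 lc_d_rc_15_1 lc_d_rc_15_1 lc_d_rc_22_2 lc_d_rc_23_2 lc_d_rc_17_2 lc_d_Cert_tree lc_d_Cert_tree lc_d_Cert_tree lc_d_rc_15_1 lc_d_Cert_tree lc_d_rc_23_2 lc_d_rc_15_1 lc_d_rc_8_3 lc_d_rc_23_6 lc_d_rc_23_6 lc_d_Cert_tree lc_d_Cert_tree lc_d_rc_15_1 lc_d_Cert_tree lc_d_Cert_tree lc_d_Cert_tree lc_d_rc_15_1 lc_d_Cert_tree lc_d_rc_15_1 lc_d_rc_27_8 lc_d_Cert_tree lc_d_rc_17_2 lc_d_rc_15_1 lc_d_rc_17_2 lc_d_Cert_tree lc_d_rc_12_5 lc_d_rc_15_1 lc_d_rc_15_1 lc_d_Cert_tree lc_d_Cert_tree lc_d_rc_15_1) (@D3.rec (fun _ => (Cert rels S Gen.d)) lc_d_rc_15_1 lc_d_rc_22_6 lc_d_Cert_tree lc_d_Cert_tree lc_d_rc_15_1 lc_d_rc_22_4 lc_d_rc_16_4 lc_d_rc_15_1 lc_d_rc_8_3 lc_d_Cert_tree lc_d_rc_15_1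 lc_d_rc_15_1 lc_d_rc_15_1 lc_d_rc_15_1 lc_d_Cert_tree lc_d_rc_15_1 lc_d_Cert_tree lc_d_Cert_tree lc_d_rc_15_1 lc_d_Cert_tree lc_d_rc_23_4 lc_d_rc_15_1 lc_d_rc_23_2 lc_d_Cert_tree lc_d_rc_17_0 lc_d_rc_15_1 lc_d_rc_27_2 lc_d_rc_27_2 lc_d_Cert_tree lc_d_rc_15_1 lc_d_Cert_tree lc_d_rc_15_1 lc_d_rc_27_8 lc_d_rc_16_2 lc_d_Cert_tree lc_d_rc_15_1 lc_d_Cert_tree lc_d_Cert_tree lc_d_rc_15_1 lc_d_Cert_tree lc_d_rc_23_8 lc_d_Cert_tree lc_d_rc_15_1 lc_d_rc_17_2 lc_d_Cert_tree lc_d_rc_15_1 lc_d_rc_3_1 lc_d_rc_15_1 lc_d_rc_16_4 lc_d_rc_15_1 lc_d_rc_27_2 lc_d_Cert_tree lc_d_Cert_tree lc_d_rc_15_1 lc_d_rc_22_4 lc_d_rc_15_1 lc_d_rc_22_6 lc_d_rc_16_4 lc_d_rc_16_4 lc_d_Cert_tree lc_d_rc_15_1 lc_d_rc_8_3)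 (@D3.rec (fun _ => (Cert rels S Gen.d)) lc_d_Cert_tree lc_d_Cert_tree lc_d_Cert_tree lc_d_rc_15_1 lc_d_rc_3_3 lc_d_rc_15_1 lc_d_rc_23_8 lc_d_Cert_tree lc_d_rc_17_2 lc_d_rc_23_2 lc_d_rc_27_10 lc_d_Cert_tree lc_d_rc_15_1 lc_d_Cert_tree lc_d_Cert_tree lc_d_rc_16_0 lc_d_rc_15_1 lc_d_rc_27_4 lc_d_rc_23_2 lc_d_rc_27_2 lc_d_rc_27_10 lc_d_Cert_tree lc_d_Cert_tree lc_d_rc_15_1 lc_d_Cert_tree lc_d_Cert_tree lc_d_rc_15_1 lc_d_Cert_tree lc_d_Cert_tree lc_d_Cert_tree lc_d_rc_15_1 lc_d_Cert_tree lc_d_Cert_tree lc_d_rc_15_1 lc_d_rc_23_8 lc_d_Cert_tree lc_d_rc_24_5 lc_d_rc_15_1 lc_d_rc_27_2 lc_d_Cert_tree lc_d_rc_15_1 lc_d_rc_15_1 lc_d_rc_3_1 lc_d_rc_12_13 lc_d_rc_27_2 lc_d_rc_17_2 lc_d_rc_15_1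 lc_d_rc_16_4 lc_d_rc_8_3 lc_d_Cert_tree lc_d_Cert_tree lc_d_Cert_tree lc_d_rc_17_2 lc_d_rc_16_2 lc_d_rc_23_6 lc_d_rc_16_2 lc_d_Cert_tree lc_d_rc_16_4 lc_d_Cert_tree lc_d_Cert_tree lc_d_rc_27_10 lc_d_rc_23_8) (@D3.rec (fun _ => (Cert rels S Gen.d)) lc_d_rc_15_1 lc_d_rc_24_5 lc_d_Cert_tree lc_d_rc_15_1 lc_d_Cert_tree lc_d_rc_15_1 lc_d_rc_27_8 lc_d_Cert_tree lc_d_Cert_tree lc_d_rc_15_1 lc_d_rc_24_0 lc_d_rc_15_1 lc_d_Cert_tree lc_d_Cert_tree lc_d_rc_27_10 lc_d_rc_27_2 lc_d_rc_15_1 lc_d_rc_15_1 lc_d_rc_27_10 lc_d_rc_15_1 lc_d_rc_27_4 lc_d_rc_23_4 lc_d_Cert_tree lc_d_rc_15_1 lc_d_Cert_tree lc_d_rc_15_1 lc_d_rc_8_3 lc_d_rc_8_3 lc_d_rc_22_6 lc_d_rc_16_4 lc_d_rc_22_4 lc_d_rc_24_0 lc_d_rc_23_8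 lc_d_Cert_tree lc_d_rc_15_1 lc_d_Cert_tree lc_d_Cert_tree lc_d_rc_15_1 lc_d_Cert_tree lc_d_rc_15_1 lc_d_Cert_tree lc_d_rc_25_6 lc_d_rc_8_3 lc_d_rc_3_3 lc_d_rc_8_3 lc_d_rc_15_1 lc_d_rc_16_4 lc_d_Cert_tree lc_d_rc_15_1 lc_d_rc_8_3 lc_d_rc_27_8 lc_d_rc_8_3 lc_d_rc_24_5 lc_d_rc_16_4 lc_d_rc_15_1 lc_d_rc_27_2 lc_d_rc_15_1 lc_d_rc_16_2 lc_d_rc_15_1 lc_d_rc_8_3 lc_d_rc_15_1 lc_d_rc_16_4) (@D3.rec (fun _ => (Cert rels S Gen.d)) lc_d_rc_25_6 lc_d_Cert_tree lc_d_rc_16_4 lc_d_Cert_tree lc_d_Cert_tree lc_d_rc_15_1 lc_d_rc_17_2 lc_d_Cert_tree lc_d_rc_8_3 lc_d_rc_27_4 lc_d_rc_23_8 lc_d_rc_15_1 lc_d_Cert_tree lc_d_rc_15_1 lc_d_rc_27_4 lc_d_rc_15_1 lc_d_rc_15_1 lc_d_rc_15_1 lc_d_rc_15_1 lc_d_rc_12_5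 lc_d_rc_17_2 lc_d_Cert_tree lc_d_rc_15_1 lc_d_rc_27_2 lc_d_rc_15_1 lc_d_rc_15_1 lc_d_rc_27_4 lc_d_rc_27_8 lc_d_rc_15_1 lc_d_rc_16_4 lc_d_Cert_tree lc_d_rc_16_4 lc_d_Cert_tree lc_d_rc_15_1 lc_d_rc_17_2 lc_d_rc_15_1 lc_d_Cert_tree lc_d_rc_15_1 lc_d_rc_27_4 lc_d_Cert_tree lc_d_rc_15_1 lc_d_rc_27_8 lc_d_rc_23_6 lc_d_rc_15_1 lc_d_rc_22_2 lc_d_rc_17_2 lc_d_Cert_tree lc_d_rc_15_1 lc_d_rc_8_3 lc_d_rc_8_3 lc_d_rc_22_2 lc_d_rc_27_10 lc_d_Cert_tree lc_d_rc_15_1 lc_d_rc_16_4 lc_d_rc_23_6 lc_d_rc_15_1 lc_d_Cert_tree lc_d_Cert_tree lc_d_Cert_tree lc_d_rc_15_1 lc_d_rc_17_2) (@D3.rec (fun _ => (Cert rels S Gen.d)) lc_d_Cert_tree lc_d_rc_15_1 lc_d_Cert_tree lc_d_rc_15_1 lc_d_rc_15_1 lc_d_rc_15_1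 lc_d_Cert_tree lc_d_rc_17_2 lc_d_Cert_tree lc_d_Cert_tree lc_d_rc_15_1 lc_d_Cert_tree lc_d_rc_15_1 lc_d_rc_16_0 lc_d_rc_16_0 lc_d_Cert_tree lc_d_rc_15_1 lc_d_rc_12_1 lc_d_rc_8_3 lc_d_rc_27_2 lc_d_rc_15_1 lc_d_rc_16_4 lc_d_rc_22_2 lc_d_rc_25_6 lc_d_rc_24_5 lc_d_Cert_tree lc_d_rc_15_1 lc_d_Cert_tree lc_d_rc_15_1 lc_d_Cert_tree lc_d_rc_8_3 lc_d_rc_16_4 lc_d_rc_16_4 lc_d_Cert_tree lc_d_Cert_tree lc_d_Cert_tree lc_d_rc_15_1 lc_d_rc_25_6 lc_d_rc_15_1 lc_d_Cert_tree lc_d_rc_23_6 lc_d_rc_15_1 lc_d_rc_22_6 lc_d_rc_27_8 lc_d_rc_16_2 lc_d_rc_8_1 lc_d_rc_3_3 lc_d_rc_15_1 lc_d_rc_25_10 lc_d_Cert_tree lc_d_rc_15_1 lc_d_Cert_tree lc_d_rc_15_1 lc_d_rc_27_4 lc_d_Cert_tree lc_d_rc_15_1 lc_d_rc_15_1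 lc_d_rc_15_1 lc_d_Cert_tree lc_d_rc_17_2 lc_d_Cert_tree lc_d_rc_15_1) (@D3.rec (fun _ => (Cert rels S Gen.d)) lc_d_Cert_tree lc_d_Cert_tree lc_d_rc_8_3 lc_d_Cert_tree lc_d_Cert_tree lc_d_rc_15_1 lc_d_Cert_tree lc_d_rc_15_1 lc_d_rc_23_2 lc_d_Cert_tree lc_d_Cert_tree lc_d_rc_15_1 lc_d_Cert_tree lc_d_Cert_tree lc_d_rc_15_1 lc_d_rc_17_2 lc_d_rc_23_4 lc_d_rc_15_1 lc_d_Cert_tree lc_d_rc_16_4 lc_d_Cert_tree lc_d_Cert_tree lc_d_rc_17_2 lc_d_rc_15_1 lc_d_rc_15_1 lc_d_Cert_tree lc_d_rc_17_2 lc_d_Cert_tree lc_d_rc_15_1 lc_d_rc_3_3 lc_d_Cert_tree lc_d_rc_15_1 lc_d_Cert_tree lc_d_rc_16_0 lc_d_rc_15_1 lc_d_rc_15_1 lc_d_rc_15_1 lc_d_rc_23_8 lc_d_rc_17_2 lc_d_Cert_tree lc_d_Cert_tree lc_d_rc_15_1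 lc_d_rc_23_6 lc_d_rc_23_6 lc_d_Cert_tree lc_d_rc_16_4 lc_d_Cert_tree lc_d_Cert_tree lc_d_Cert_tree lc_d_rc_15_1 lc_d_Cert_tree lc_d_rc_22_2 lc_d_Cert_tree lc_d_rc_15_1 lc_d_Cert_tree lc_d_Cert_tree lc_d_rc_15_1 lc_d_Cert_tree lc_d_Cert_tree lc_d_Cert_tree lc_d_rc_15_1 lc_d_Cert_tree) (@D3.rec (fun _ => (Cert rels S Gen.d)) lc_d_Cert_tree lc_d_Cert_tree lc_d_Cert_tree lc_d_rc_15_1 lc_d_rc_22_4 lc_d_rc_16_4 lc_d_rc_16_4 lc_d_rc_15_1 lc_d_Cert_tree lc_d_rc_15_1 lc_d_Cert_tree lc_d_Cert_tree lc_d_rc_15_1 lc_d_rc_15_1 lc_d_rc_15_1 lc_d_rc_15_1 lc_d_rc_16_4 lc_d_rc_15_1 lc_d_Cert_tree lc_d_Cert_tree lc_d_rc_15_1 lc_d_Cert_tree lc_d_rc_12_5 lc_d_Cert_tree lc_d_rc_15_1 lc_d_rc_15_1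 lc_d_rc_8_1 lc_d_rc_15_1 lc_d_rc_23_8 lc_d_rc_15_1 lc_d_rc_24_5 lc_d_rc_22_6 lc_d_rc_15_1 lc_d_rc_15_1 lc_d_rc_3_1 lc_d_rc_8_3 lc_d_rc_17_2 lc_d_rc_15_1 lc_d_rc_24_5 lc_d_rc_15_1 lc_d_Cert_tree lc_d_rc_15_1 lc_d_Cert_tree lc_d_rc_15_1 lc_d_rc_27_8 lc_d_rc_27_10 lc_d_rc_24_0 lc_d_rc_15_1 lc_d_rc_22_8 lc_d_rc_22_6 lc_d_rc_16_4 lc_d_rc_17_2 lc_d_rc_22_6 lc_d_rc_15_1 lc_d_rc_27_10 lc_d_Cert_tree lc_d_rc_15_1 lc_d_rc_22_2 lc_d_rc_23_8 lc_d_rc_27_10 lc_d_Cert_tree lc_d_Cert_tree) (@D3.rec (fun _ => (Cert rels S Gen.d)) lc_d_rc_15_1 lc_d_Cert_tree lc_d_Cert_tree lc_d_rc_15_1 lc_d_rc_27_10 lc_d_rc_24_0 lc_d_Cert_tree lc_d_rc_15_1 lc_d_Cert_tree lc_d_rc_15_1 lc_d_rc_22_6 lc_d_rc_16_4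 lc_d_rc_8_3 lc_d_rc_16_4 lc_d_Cert_tree lc_d_Cert_tree lc_d_rc_17_2 lc_d_Cert_tree lc_d_rc_15_1 lc_d_Cert_tree lc_d_rc_15_1 lc_d_Cert_tree lc_d_rc_15_1 lc_d_Cert_tree lc_d_rc_15_1 lc_d_rc_23_6 lc_d_rc_23_4 lc_d_Cert_tree lc_d_rc_16_4 lc_d_rc_15_1 lc_d_rc_15_1 lc_d_rc_22_2 lc_d_Cert_tree lc_d_rc_15_1 lc_d_rc_15_1 lc_d_rc_22_4 lc_d_rc_15_1 lc_d_rc_16_4 lc_d_rc_27_10 lc_d_rc_27_10 lc_d_rc_27_10 lc_d_Cert_tree lc_d_rc_15_1 lc_d_rc_16_4 lc_d_rc_15_1 lc_d_rc_3_3 lc_d_Cert_tree lc_d_Cert_tree lc_d_Cert_tree lc_d_Cert_tree lc_d_rc_15_1 lc_d_rc_17_2 lc_d_rc_15_1 lc_d_rc_17_2 lc_d_Cert_tree lc_d_rc_15_1 lc_d_Cert_tree lc_d_rc_15_1 lc_d_rc_27_8 lc_d_rc_24_0 lc_d_rc_22_6 lc_d_rc_17_2) (@D3.rec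 (fun _ => (Cert rels S Gen.d)) lc_d_Cert_tree lc_d_rc_15_1 lc_d_rc_8_3 lc_d_Cert_tree lc_d_rc_15_1 lc_d_rc_27_8 lc_d_Cert_tree lc_d_rc_16_4 lc_d_rc_8_1 lc_d_rc_8_3 lc_d_rc_16_4 lc_d_Cert_tree lc_d_Cert_tree lc_d_rc_17_2 lc_d_rc_3_3 lc_d_rc_16_4 lc_d_rc_17_2 lc_d_Cert_tree lc_d_Cert_tree lc_d_rc_15_1 lc_d_rc_17_2 lc_d_rc_15_1 lc_d_rc_22_8 lc_d_rc_17_2 lc_d_Cert_tree lc_d_Cert_tree lc_d_rc_15_1 lc_d_rc_17_2 lc_d_Cert_tree lc_d_rc_15_1 lc_d_rc_27_4 lc_d_rc_15_1 lc_d_rc_15_1 lc_d_rc_23_6 lc_d_Cert_tree lc_d_rc_17_2 lc_d_Cert_tree lc_d_Cert_tree lc_d_rc_15_1 lc_d_rc_15_1 lc_d_rc_15_1 lc_d_rc_15_1 lc_d_rc_16_2 lc_d_Cert_tree lc_d_Cert_tree lc_d_Cert_tree lc_d_rc_15_1 lc_d_Cert_tree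 lc_d_rc_15_1 lc_d_Cert_tree lc_d_rc_27_10 lc_d_rc_15_1 lc_d_rc_24_0 lc_d_rc_8_3 lc_d_rc_23_4 lc_d_Cert_tree lc_d_rc_8_3 lc_d_rc_12_9 lc_d_rc_15_1 lc_d_rc_12_9 lc_d_rc_23_6 lc_d_Cert_tree) (@D3.rec (fun _ => (Cert rels S Gen.d)) lc_d_rc_15_1 lc_d_rc_22_2 lc_d_rc_3_3 lc_d_rc_27_2 lc_d_rc_16_0 lc_d_rc_15_1 lc_d_Cert_tree lc_d_rc_15_1 lc_d_Cert_tree lc_d_Cert_tree lc_d_rc_15_1 lc_d_Cert_tree lc_d_rc_23_4 lc_d_rc_17_2 lc_d_rc_15_1 lc_d_Cert_tree lc_d_rc_17_2 lc_d_rc_15_1 lc_d_rc_3_3 lc_d_Cert_tree lc_d_rc_15_1 lc_d_rc_15_1 lc_d_Cert_tree lc_d_rc_15_1 lc_d_rc_8_1 lc_d_rc_15_1 lc_d_Cert_tree lc_d_rc_27_10 lc_d_rc_15_1 lc_d_rc_17_2 lc_d_Cert_tree lc_d_rc_15_1 lc_d_Cert_tree lc_d_rc_15_1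 lc_d_rc_3_3 lc_d_rc_15_1 lc_d_rc_27_8 lc_d_rc_8_3 lc_d_rc_16_2 lc_d_rc_15_1 lc_d_Cert_tree lc_d_rc_27_10 lc_d_rc_15_1 lc_d_rc_8_3 lc_d_Cert_tree lc_d_Cert_tree lc_d_rc_15_1 lc_d_rc_3_3 lc_d_rc_15_1 lc_d_rc_16_4 lc_d_Cert_tree lc_d_Cert_tree lc_d_rc_15_1 lc_d_rc_24_0 lc_d_Cert_tree lc_d_rc_23_2 lc_d_Cert_tree lc_d_rc_16_4 lc_d_rc_24_0 lc_d_rc_15_1 lc_d_rc_15_1 lc_d_rc_17_2) (@D3.rec (fun _ => (Cert rels S Gen.d)) lc_d_rc_23_6 lc_d_rc_23_6 lc_d_Cert_tree lc_d_rc_17_2 lc_d_rc_8_3 lc_d_rc_16_4 lc_d_rc_16_4 lc_d_Cert_tree lc_d_rc_15_1 lc_d_rc_17_2 lc_d_rc_23_6 lc_d_rc_15_1 lc_d_rc_17_2 lc_d_Cert_tree lc_d_rc_15_1 lc_d_rc_27_4 lc_d_rc_15_1 lc_d_rc_27_8 lc_d_rc_15_1 lc_d_rc_23_6 lc_d_Cert_tree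 lc_d_rc_17_2 lc_d_Cert_tree lc_d_Cert_tree lc_d_rc_15_1 lc_d_rc_15_1 lc_d_rc_16_2 lc_d_Cert_tree lc_d_Cert_tree lc_d_rc_15_1 lc_d_rc_15_1 lc_d_rc_16_2 lc_d_rc_15_1 lc_d_rc_15_1 lc_d_rc_23_4 lc_d_Cert_tree lc_d_rc_12_15 lc_d_rc_24_0 lc_d_Cert_tree lc_d_rc_23_8 lc_d_rc_24_0 lc_d_rc_8_3 lc_d_rc_27_10 lc_d_Cert_tree lc_d_Cert_tree lc_d_rc_15_1 lc_d_Cert_tree lc_d_Cert_tree lc_d_rc_27_4 lc_d_rc_15_1 lc_d_Cert_tree lc_d_Cert_tree lc_d_rc_15_1 lc_d_Cert_tree lc_d_Cert_tree lc_d_rc_23_8 lc_d_rc_15_1 lc_d_rc_23_6 lc_d_rc_12_13 lc_d_Cert_tree lc_d_rc_15_1 lc_d_rc_17_2) (@D3.rec (fun _ => (Cert rels S Gen.d)) lc_d_rc_8_1 lc_d_rc_8_3 lc_d_Cert_tree lc_d_rc_15_1 lc_d_rc_15_1 lc_d_Cert_tree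 lc_d_Cert_tree lc_d_Cert_tree lc_d_rc_16_2 lc_d_rc_22_2 lc_d_rc_16_4 lc_d_rc_23_6 lc_d_rc_16_4 lc_d_Cert_tree lc_d_rc_15_1 lc_d_Cert_tree lc_d_rc_15_1 lc_d_rc_17_2 lc_d_rc_8_3 lc_d_rc_15_1 lc_d_rc_15_1 lc_d_rc_3_3 lc_d_rc_15_1 lc_d_Cert_tree lc_d_Cert_tree lc_d_Cert_tree lc_d_Cert_tree lc_d_rc_15_1 lc_d_rc_17_2 lc_d_rc_8_3 lc_d_Cert_tree lc_d_Cert_tree lc_d_Cert_tree lc_d_rc_15_1 lc_d_rc_17_2 lc_d_Cert_tree lc_d_rc_15_1 lc_d_rc_27_4 lc_d_Cert_tree lc_d_rc_15_1 lc_d_rc_15_1 lc_d_rc_15_1 lc_d_rc_22_4 lc_d_rc_17_2 lc_d_Cert_tree lc_d_rc_15_1 lc_d_rc_27_2 lc_d_Cert_tree lc_d_Cert_tree lc_d_Cert_tree lc_d_rc_15_1 lc_d_rc_15_1 lc_d_rc_8_3 lc_d_Cert_tree lc_d_Cert_tree lc_d_rc_17_0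 lc_d_rc_15_1 lc_d_rc_23_6 lc_d_rc_24_5 lc_d_rc_22_6 lc_d_rc_16_4 lc_d_rc_25_6) (@D3.rec (fun _ => (Cert rels S Gen.d)) lc_d_rc_24_5 lc_d_rc_8_3 lc_d_rc_15_1 lc_d_Cert_tree lc_d_rc_15_1 lc_d_rc_8_3 lc_d_rc_15_1 lc_d_Cert_tree lc_d_rc_15_1 lc_d_Cert_tree lc_d_rc_23_6 lc_d_Cert_tree lc_d_Cert_tree lc_d_rc_15_1 lc_d_Cert_tree lc_d_rc_8_3 lc_d_rc_15_1 lc_d_rc_17_2 lc_d_rc_15_1 lc_d_rc_27_4 lc_d_rc_15_1 lc_d_rc_15_1 lc_d_rc_15_1 lc_d_rc_24_5 lc_d_rc_15_1 lc_d_Cert_tree lc_d_rc_8_3 lc_d_Cert_tree lc_d_Cert_tree lc_d_rc_8_3 lc_d_rc_15_1 lc_d_rc_17_2 lc_d_Cert_tree lc_d_Cert_tree lc_d_rc_15_1 lc_d_rc_17_2 lc_d_Cert_tree lc_d_rc_15_1 lc_d_rc_23_4 lc_d_rc_15_1 lc_d_rc_22_6 lc_d_rc_17_2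 lc_d_Cert_tree lc_d_Cert_tree lc_d_rc_15_1 lc_d_rc_15_1 lc_d_Cert_tree lc_d_rc_15_1 lc_d_Cert_tree lc_d_rc_24_5 lc_d_Cert_tree lc_d_Cert_tree lc_d_Cert_tree lc_d_Cert_tree lc_d_rc_15_1 lc_d_rc_15_1 lc_d_Cert_tree lc_d_rc_8_3 lc_d_Cert_tree lc_d_Cert_tree lc_d_Cert_tree lc_d_rc_15_1) (@D3.rec (fun _ => (Cert rels S Gen.d)) lc_d_rc_17_2 lc_d_Cert_tree lc_d_rc_15_1 lc_d_rc_27_4 lc_d_Cert_tree lc_d_rc_15_1 lc_d_rc_15_1 lc_d_rc_15_1 lc_d_rc_22_4 lc_d_rc_24_5 lc_d_rc_24_5 lc_d_rc_16_4 lc_d_rc_15_1 lc_d_rc_27_4 lc_d_Cert_tree lc_d_rc_15_1 lc_d_Cert_tree lc_d_rc_23_4 lc_d_rc_22_4 lc_d_Cert_tree lc_d_Cert_tree lc_d_rc_15_1 lc_d_rc_17_2 lc_d_Cert_tree lc_d_Cert_tree lc_d_rc_15_1 lc_d_rc_17_2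 lc_d_Cert_tree lc_d_rc_15_1 lc_d_rc_27_4 lc_d_Cert_tree lc_d_rc_15_1 lc_d_rc_27_8 lc_d_rc_15_1 lc_d_rc_15_1 lc_d_rc_24_5 lc_d_rc_17_2 lc_d_Cert_tree lc_d_rc_15_1 lc_d_rc_24_0 lc_d_rc_15_1 lc_d_Cert_tree lc_d_rc_23_2 lc_d_rc_8_3 lc_d_rc_15_1 lc_d_Cert_tree lc_d_rc_15_1 lc_d_Cert_tree lc_d_rc_15_1 lc_d_rc_23_4 lc_d_rc_24_5 lc_d_Cert_tree lc_d_Cert_tree lc_d_Cert_tree lc_d_rc_15_1 lc_d_Cert_tree lc_d_Cert_tree lc_d_rc_15_1 lc_d_rc_17_2 lc_d_rc_23_6 lc_d_rc_15_1 lc_d_rc_17_2) (@D3.rec (fun _ => (Cert rels S Gen.d)) lc_d_Cert_tree lc_d_rc_15_1 lc_d_Cert_tree lc_d_rc_15_1 lc_d_Cert_tree lc_d_rc_23_6 lc_d_rc_24_0 lc_d_Cert_tree lc_d_Cert_tree lc_d_Cert_tree lc_d_rc_15_1 lc_d_rc_17_2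 lc_d_Cert_tree lc_d_Cert_tree lc_d_rc_15_1 lc_d_rc_17_2 lc_d_rc_15_1 lc_d_rc_22_2 lc_d_rc_17_2 lc_d_rc_3_3 lc_d_Cert_tree lc_d_rc_12_15 lc_d_rc_12_15 lc_d_rc_15_1 lc_d_rc_3_3 lc_d_Cert_tree lc_d_Cert_tree lc_d_Cert_tree lc_d_rc_15_1 lc_d_rc_17_2 lc_d_rc_23_6 lc_d_rc_22_2 lc_d_rc_3_3 lc_d_rc_16_4 lc_d_rc_3_3 lc_d_Cert_tree lc_d_rc_17_2 lc_d_Cert_tree lc_d_rc_24_5 lc_d_rc_15_1 lc_d_Cert_tree lc_d_Cert_tree lc_d_rc_24_5 lc_d_rc_15_1 lc_d_Cert_tree lc_d_Cert_tree lc_d_Cert_tree lc_d_Cert_tree lc_d_rc_17_2 lc_d_Cert_tree lc_d_rc_8_3 lc_d_rc_15_1 lc_d_rc_24_5 lc_d_rc_15_1 lc_d_rc_22_4 lc_d_rc_16_2 lc_d_rc_15_1 lc_d_Cert_tree lc_d_rc_17_0 lc_d_rc_15_1 lc_d_Cert_tree lc_d_rc_24_5) (@D3.rec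 (fun _ => (Cert rels S Gen.d)) lc_d_Cert_tree lc_d_rc_15_1 lc_d_rc_8_3 lc_d_rc_24_5 lc_d_Cert_tree lc_d_rc_8_3 lc_d_rc_22_6 lc_d_rc_16_4 lc_d_rc_12_15 lc_d_rc_23_6 lc_d_Cert_tree lc_d_rc_15_1 lc_d_rc_22_2 lc_d_rc_16_4 lc_d_Cert_tree lc_d_rc_15_1 lc_d_rc_25_6 lc_d_Cert_tree lc_d_rc_15_1 lc_d_Cert_tree lc_d_rc_15_1 lc_d_rc_24_0 lc_d_rc_15_1 lc_d_Cert_tree lc_d_rc_27_2 lc_d_rc_15_1 lc_d_rc_27_8 lc_d_Cert_tree lc_d_rc_15_1 lc_d_rc_27_4 lc_d_Cert_tree lc_d_rc_15_1 lc_d_rc_27_8 lc_d_rc_3_3 lc_d_Cert_tree lc_d_rc_15_1 lc_d_rc_25_10 lc_d_rc_12_1 lc_d_rc_3_3 lc_d_rc_27_10 lc_d_rc_15_1 lc_d_Cert_tree lc_d_rc_15_1 lc_d_rc_15_1 lc_d_rc_3_3 lc_d_rc_15_1 lc_d_Cert_tree lc_d_rc_27_2 lc_d_rc_23_2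 lc_d_rc_15_1 lc_d_rc_23_8 lc_d_rc_15_1 lc_d_rc_22_2 lc_d_Cert_tree lc_d_rc_15_1 lc_d_rc_15_1 lc_d_rc_3_1 lc_d_rc_3_1 lc_d_Cert_tree lc_d_rc_15_1 lc_d_rc_8_3 lc_d_Cert_tree) (@D3.rec (fun _ => (Cert rels S Gen.d)) lc_d_Cert_tree lc_d_rc_15_1 lc_d_rc_24_0 lc_d_rc_15_1 lc_d_Cert_tree lc_d_rc_15_1 lc_d_rc_17_2 lc_d_rc_15_1 lc_d_rc_8_3 lc_d_Cert_tree lc_d_rc_15_1 lc_d_Cert_tree lc_d_rc_8_3 lc_d_rc_3_3 lc_d_Cert_tree lc_d_Cert_tree lc_d_Cert_tree lc_d_rc_15_1 lc_d_rc_8_3 lc_d_Cert_tree lc_d_Cert_tree lc_d_rc_15_1 lc_d_rc_27_4 lc_d_rc_8_3 lc_d_Cert_tree lc_d_rc_15_1 lc_d_rc_17_2 lc_d_Cert_tree lc_d_rc_15_1 lc_d_rc_22_6 lc_d_rc_15_1 lc_d_rc_15_1 lc_d_rc_15_1 lc_d_rc_22_6 lc_d_rc_16_4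 lc_d_rc_3_1 lc_d_rc_22_8 lc_d_Cert_tree lc_d_rc_15_1 lc_d_rc_25_6 lc_d_rc_24_0 lc_d_rc_22_2 lc_d_rc_15_1 lc_d_rc_17_2 lc_d_rc_16_4 lc_d_rc_15_1 lc_d_rc_22_2 lc_d_Cert_tree lc_d_rc_15_1 lc_d_Cert_tree lc_d_rc_15_1 lc_d_rc_23_4 lc_d_rc_3_3 lc_d_rc_15_1 lc_d_rc_24_0 lc_d_rc_22_2 lc_d_rc_15_1 lc_d_rc_8_1 lc_d_Cert_tree lc_d_Cert_tree lc_d_rc_15_1 lc_d_Cert_tree) (@D3.rec (fun _ => (Cert rels S Gen.d)) lc_d_rc_15_1 lc_d_rc_27_4 lc_d_Cert_tree lc_d_rc_15_1 lc_d_rc_15_1 lc_d_rc_15_1 lc_d_rc_17_2 lc_d_rc_25_2 lc_d_rc_15_1 lc_d_rc_27_10 lc_d_rc_27_2 lc_d_Cert_tree lc_d_rc_15_1 lc_d_rc_22_4 lc_d_rc_25_2 lc_d_Cert_tree lc_d_rc_15_1 lc_d_rc_27_4 lc_d_rc_15_1 lc_d_Cert_tree lc_d_rc_15_1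 lc_d_Cert_tree lc_d_rc_17_2 lc_d_Cert_tree lc_d_rc_15_1 lc_d_rc_12_7 lc_d_rc_16_4 lc_d_rc_15_1 lc_d_rc_23_8 lc_d_rc_3_3 lc_d_rc_15_1 lc_d_rc_23_2 lc_d_Cert_tree lc_d_rc_25_6 lc_d_Cert_tree lc_d_Cert_tree lc_d_Cert_tree lc_d_rc_15_1 lc_d_Cert_tree lc_d_Cert_tree lc_d_rc_15_1 lc_d_rc_17_2 lc_d_rc_25_6 lc_d_rc_17_0 lc_d_rc_15_1 lc_d_rc_17_2 lc_d_rc_15_1 lc_d_Cert_tree lc_d_rc_22_8 lc_d_rc_23_2 lc_d_rc_15_1 lc_d_Cert_tree lc_d_Cert_tree lc_d_rc_15_1 lc_d_rc_15_1 lc_d_Cert_tree lc_d_rc_17_2 lc_d_Cert_tree lc_d_rc_15_1 lc_d_rc_25_18 lc_d_rc_22_2 lc_d_Cert_tree) (@D3.rec (fun _ => (Cert rels S Gen.d)) lc_d_rc_27_2 lc_d_rc_3_3 lc_d_rc_15_1 lc_d_rc_17_2 lc_d_rc_16_0 lc_d_rc_15_1 lc_d_Cert_tree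 lc_d_rc_17_2 lc_d_rc_27_4 lc_d_rc_8_3 lc_d_rc_3_1 lc_d_rc_15_1 lc_d_rc_3_3 lc_d_rc_27_10 lc_d_rc_27_4 lc_d_rc_15_1 lc_d_rc_22_6 lc_d_rc_27_2 lc_d_rc_15_1 lc_d_rc_3_3 lc_d_rc_15_1 lc_d_rc_17_2 lc_d_rc_27_8 lc_d_rc_25_18 lc_d_rc_8_3 lc_d_rc_3_1 lc_d_rc_23_2 lc_d_rc_15_1 lc_d_rc_22_2 lc_d_rc_15_1 lc_d_rc_15_1 lc_d_rc_17_2 lc_d_rc_15_1 lc_d_rc_3_1 lc_d_rc_27_4 lc_d_rc_25_6 lc_d_rc_23_2 lc_d_rc_3_3 lc_d_Cert_tree lc_d_rc_15_1 lc_d_rc_15_1 lc_d_Cert_tree lc_d_rc_8_3 lc_d_Cert_tree lc_d_rc_15_1 lc_d_Cert_tree lc_d_Cert_tree lc_d_Cert_tree lc_d_Cert_tree lc_d_rc_15_1 lc_d_rc_17_2 lc_d_Cert_tree lc_d_Cert_tree lc_d_rc_15_1 lc_d_rc_17_2 lc_d_Cert_tree lc_d_rc_15_1 lc_d_rc_27_4 lc_d_Cert_tree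 lc_d_rc_15_1 lc_d_Cert_tree lc_d_rc_22_2) (@D3.rec (fun _ => (Cert rels S Gen.d)) lc_d_rc_15_1 lc_d_Cert_tree lc_d_rc_17_2 lc_d_Cert_tree lc_d_rc_15_1 lc_d_Cert_tree lc_d_Cert_tree lc_d_rc_27_8 lc_d_rc_15_1 lc_d_Cert_tree lc_d_rc_15_1 lc_d_Cert_tree lc_d_Cert_tree lc_d_Cert_tree lc_d_rc_15_1 lc_d_Cert_tree lc_d_Cert_tree lc_d_rc_15_1 lc_d_rc_17_2 lc_d_rc_15_1 lc_d_rc_27_4 lc_d_Cert_tree lc_d_rc_15_1 lc_d_rc_27_8 lc_d_rc_23_4 lc_d_rc_15_1 lc_d_rc_12_5 lc_d_rc_24_0 lc_d_rc_15_1 lc_d_Cert_tree lc_d_Cert_tree lc_d_rc_15_1 lc_d_Cert_tree lc_d_rc_15_1 lc_d_Cert_tree lc_d_rc_23_6 lc_d_rc_24_0 lc_d_Cert_tree lc_d_Cert_tree lc_d_Cert_tree lc_d_Cert_tree lc_d_rc_15_1 lc_d_rc_17_2 lc_d_Cert_tree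 lc_d_Cert_tree lc_d_rc_15_1 lc_d_rc_17_2 lc_d_rc_23_6 lc_d_rc_23_6 lc_d_Cert_tree lc_d_rc_17_2 lc_d_rc_23_2 lc_d_Cert_tree lc_d_Cert_tree lc_d_Cert_tree lc_d_Cert_tree lc_d_Cert_tree lc_d_rc_15_1 lc_d_rc_22_2 lc_d_Cert_tree lc_d_rc_15_1 lc_d_rc_17_2) (@D3.rec (fun _ => (Cert rels S Gen.d)) lc_d_rc_15_1 lc_d_rc_12_5 lc_d_rc_3_3 lc_d_rc_23_2 lc_d_Cert_tree lc_d_Cert_tree lc_d_rc_8_3 lc_d_rc_15_1 lc_d_rc_17_2 lc_d_rc_3_3 lc_d_Cert_tree lc_d_rc_15_1 lc_d_rc_23_6 lc_d_rc_15_1 lc_d_Cert_tree lc_d_Cert_tree lc_d_Cert_tree lc_d_rc_15_1 lc_d_rc_17_2 lc_d_Cert_tree lc_d_rc_3_3 lc_d_rc_15_1 lc_d_Cert_tree lc_d_Cert_tree lc_d_Cert_tree lc_d_rc_15_1 lc_d_Cert_tree lc_d_rc_3_3 lc_d_Cert_tree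 lc_d_Cert_tree lc_d_rc_17_2 lc_d_Cert_tree lc_d_Cert_tree lc_d_rc_15_1 lc_d_Cert_tree lc_d_rc_22_6 lc_d_Cert_tree lc_d_rc_15_1 lc_d_Cert_tree lc_d_Cert_tree lc_d_rc_15_1 lc_d_rc_15_1 lc_d_rc_22_6 lc_d_rc_16_2 lc_d_rc_8_3 lc_d_rc_24_5 lc_d_rc_15_1 lc_d_rc_8_3 lc_d_rc_22_4 lc_d_rc_8_3 lc_d_rc_23_4 lc_d_rc_15_1 lc_d_rc_8_3 lc_d_Cert_tree lc_d_rc_15_1 lc_d_Cert_tree lc_d_Cert_tree lc_d_rc_15_1 lc_d_rc_27_8 lc_d_rc_23_6 lc_d_rc_23_4 lc_d_rc_22_6) (@D3.rec (fun _ => (Cert rels S Gen.d)) lc_d_rc_16_2 lc_d_rc_27_4 lc_d_rc_15_1 lc_d_Cert_tree lc_d_Cert_tree lc_d_rc_15_1 lc_d_Cert_tree lc_d_rc_22_6 lc_d_rc_3_3 lc_d_rc_23_8 lc_d_rc_15_1 lc_d_rc_15_1 lc_d_rc_24_0 lc_d_rc_15_1 lc_d_Cert_tree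 lc_d_rc_23_8 lc_d_rc_15_1 lc_d_Cert_tree lc_d_Cert_tree lc_d_Cert_tree lc_d_rc_15_1 lc_d_rc_17_2 lc_d_Cert_tree lc_d_rc_15_1 lc_d_rc_23_6 lc_d_rc_23_2 lc_d_rc_17_2 lc_d_Cert_tree lc_d_rc_15_1 lc_d_rc_8_3 lc_d_rc_27_10 lc_d_rc_27_10 lc_d_Cert_tree lc_d_rc_15_1 lc_d_rc_16_2 lc_d_rc_15_1 lc_d_rc_25_2 lc_d_rc_15_1 lc_d_rc_3_1 lc_d_rc_15_1 lc_d_rc_27_2 lc_d_rc_15_1 lc_d_rc_15_1 lc_d_rc_15_1 lc_d_Cert_tree lc_d_rc_16_4 lc_d_Cert_tree lc_d_Cert_tree lc_d_Cert_tree lc_d_rc_15_1 lc_d_Cert_tree lc_d_Cert_tree lc_d_rc_15_1 lc_d_rc_17_2 lc_d_rc_22_6 lc_d_rc_8_1 lc_d_rc_27_8 lc_d_rc_3_1 lc_d_rc_15_1 lc_d_Cert_tree lc_d_Cert_tree lc_d_rc_15_1) (@D3.rec (fun _ => (Cert rels S Gen.d)) lc_d_rc_3_3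 lc_d_Cert_tree lc_d_rc_15_1 lc_d_rc_8_3 lc_d_rc_17_2 lc_d_Cert_tree lc_d_rc_15_1 lc_d_Cert_tree lc_d_Cert_tree lc_d_rc_15_1 lc_d_rc_8_3 lc_d_rc_15_1 lc_d_rc_17_2 lc_d_rc_17_2 lc_d_Cert_tree lc_d_Cert_tree lc_d_rc_15_1 lc_d_rc_17_0 lc_d_rc_15_1 lc_d_Cert_tree lc_d_rc_8_3 lc_d_rc_24_5 lc_d_rc_3_1 lc_d_rc_17_0 lc_d_rc_15_1 lc_d_rc_15_1 lc_d_rc_25_6 lc_d_rc_3_3 lc_d_rc_27_2 lc_d_rc_15_1 lc_d_rc_23_8 lc_d_rc_15_1 lc_d_rc_15_1 lc_d_rc_27_2 lc_d_rc_24_0 lc_d_Cert_tree lc_d_rc_24_0 lc_d_rc_24_5 lc_d_rc_3_3 lc_d_rc_23_4 lc_d_rc_24_5 lc_d_rc_17_0 lc_d_Cert_tree lc_d_Cert_tree lc_d_rc_15_1 lc_d_rc_3_3 lc_d_Cert_tree lc_d_rc_15_1 lc_d_Cert_tree lc_d_rc_17_2 lc_d_rc_27_2 lc_d_rc_15_1 lc_d_rc_15_1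 lc_d_rc_22_4 lc_d_rc_15_1 lc_d_rc_15_1 lc_d_Cert_tree lc_d_rc_15_1 lc_d_Cert_tree lc_d_rc_15_1 lc_d_Cert_tree lc_d_rc_24_5) (@D3.rec (fun _ => (Cert rels S Gen.d)) lc_d_rc_24_0 lc_d_rc_25_10 lc_d_Cert_tree lc_d_Cert_tree lc_d_Cert_tree lc_d_rc_15_1 lc_d_rc_12_15 lc_d_rc_15_1 lc_d_rc_22_4 lc_d_rc_23_4 lc_d_rc_22_4 lc_d_Cert_tree lc_d_Cert_tree lc_d_Cert_tree lc_d_Cert_tree lc_d_Cert_tree lc_d_Cert_tree lc_d_rc_15_1 lc_d_rc_17_2 lc_d_Cert_tree lc_d_Cert_tree lc_d_rc_15_1 lc_d_rc_17_2 lc_d_rc_3_1 lc_d_rc_22_2 lc_d_rc_17_2 lc_d_rc_24_5 lc_d_rc_8_3 lc_d_Cert_tree lc_d_Cert_tree lc_d_rc_15_1 lc_d_rc_17_2 lc_d_rc_27_2 lc_d_rc_27_4 lc_d_rc_15_1 lc_d_rc_16_4 lc_d_rc_27_4 lc_d_rc_15_1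 lc_d_Cert_tree lc_d_Cert_tree lc_d_rc_15_1 lc_d_Cert_tree lc_d_rc_15_1 lc_d_rc_15_1 lc_d_rc_22_8 lc_d_rc_3_3 lc_d_rc_22_2 lc_d_Cert_tree lc_d_rc_15_1 lc_d_rc_17_2 lc_d_rc_3_3 lc_d_rc_24_5 lc_d_Cert_tree lc_d_Cert_tree lc_d_Cert_tree lc_d_rc_15_1 lc_d_rc_17_2 lc_d_Cert_tree lc_d_Cert_tree lc_d_rc_15_1 lc_d_Cert_tree lc_d_Cert_tree) (@D3.rec (fun _ => (Cert rels S Gen.d)) lc_d_Cert_tree lc_d_rc_15_1 lc_d_rc_16_2 lc_d_Cert_tree lc_d_rc_15_1 lc_d_Cert_tree lc_d_rc_17_2 lc_d_Cert_tree lc_d_Cert_tree lc_d_rc_15_1 lc_d_rc_15_1 lc_d_rc_22_2 lc_d_rc_15_1 lc_d_rc_16_2 lc_d_Cert_tree lc_d_Cert_tree lc_d_rc_15_1 lc_d_rc_27_8 lc_d_rc_24_5 lc_d_Cert_tree lc_d_rc_15_1 lc_d_Cert_tree lc_d_rc_24_5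 lc_d_rc_15_1 lc_d_Cert_tree lc_d_rc_23_4 lc_d_rc_23_4 lc_d_rc_15_1 lc_d_Cert_tree lc_d_rc_22_6 lc_d_rc_23_8 lc_d_Cert_tree lc_d_rc_15_1 lc_d_rc_22_6 lc_d_Cert_tree lc_d_rc_15_1 lc_d_rc_15_1 lc_d_rc_15_1 lc_d_rc_16_2 lc_d_rc_27_2 lc_d_Cert_tree lc_d_rc_15_1 lc_d_rc_24_5 lc_d_rc_8_3 lc_d_rc_16_4 lc_d_rc_16_4 lc_d_rc_23_6 lc_d_rc_15_1 lc_d_Cert_tree lc_d_Cert_tree lc_d_rc_15_1 lc_d_rc_15_1 lc_d_rc_15_1 lc_d_Cert_tree lc_d_rc_8_3 lc_d_rc_22_8 lc_d_rc_15_1 lc_d_rc_15_1 lc_d_Cert_tree lc_d_rc_22_4 lc_d_Cert_tree lc_d_Cert_tree) (@D3.rec (fun _ => (Cert rels S Gen.d)) lc_d_rc_15_1 lc_d_rc_17_2 lc_d_rc_15_1 lc_d_rc_15_1 lc_d_rc_8_3 lc_d_rc_23_2 lc_d_Cert_tree lc_d_rc_22_6 lc_d_Cert_tree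 lc_d_Cert_tree lc_d_Cert_tree lc_d_rc_15_1 lc_d_rc_17_2 lc_d_Cert_tree lc_d_rc_15_1 lc_d_rc_3_3 lc_d_rc_15_1 lc_d_rc_27_8 lc_d_rc_15_1 lc_d_rc_8_3 lc_d_Cert_tree lc_d_Cert_tree lc_d_Cert_tree lc_d_rc_15_1 lc_d_Cert_tree lc_d_Cert_tree lc_d_Cert_tree lc_d_rc_15_1 lc_d_Cert_tree lc_d_Cert_tree lc_d_rc_15_1 lc_d_rc_17_2 lc_d_Cert_tree lc_d_rc_15_1 lc_d_rc_15_1 lc_d_rc_16_2 lc_d_Cert_tree lc_d_Cert_tree lc_d_rc_15_1 lc_d_rc_15_1 lc_d_rc_16_2 lc_d_rc_8_3 lc_d_rc_24_5 lc_d_rc_8_3 lc_d_Cert_tree lc_d_rc_27_10 lc_d_rc_8_3 lc_d_rc_12_15 lc_d_Cert_tree lc_d_rc_15_1 lc_d_Cert_tree lc_d_rc_22_6 lc_d_rc_22_2 lc_d_Cert_tree lc_d_rc_15_1 lc_d_rc_23_6 lc_d_rc_15_1 lc_d_Cert_tree lc_d_Cert_tree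 lc_d_rc_15_1 lc_d_rc_17_2 lc_d_Cert_tree) (@D3.rec (fun _ => (Cert rels S Gen.d)) lc_d_rc_15_1 lc_d_rc_15_1 lc_d_rc_23_6 lc_d_rc_17_0 lc_d_Cert_tree lc_d_rc_15_1 lc_d_rc_27_2 lc_d_Cert_tree lc_d_Cert_tree lc_d_rc_15_1 lc_d_Cert_tree lc_d_Cert_tree lc_d_rc_15_1 lc_d_rc_17_2 lc_d_Cert_tree lc_d_rc_15_1 lc_d_Cert_tree lc_d_rc_15_1 lc_d_rc_23_6 lc_d_rc_15_1 lc_d_rc_15_1 lc_d_rc_24_5 lc_d_Cert_tree lc_d_Cert_tree lc_d_Cert_tree lc_d_Cert_tree lc_d_Cert_tree lc_d_rc_15_1 lc_d_rc_8_3 lc_d_Cert_tree lc_d_Cert_tree lc_d_rc_15_1 lc_d_rc_17_2 lc_d_rc_22_6 lc_d_Cert_tree lc_d_Cert_tree lc_d_rc_24_5 lc_d_rc_12_1 lc_d_Cert_tree lc_d_Cert_tree lc_d_rc_24_0 lc_d_Cert_tree lc_d_Cert_tree lc_d_Cert_tree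 lc_d_rc_15_1 lc_d_Cert_tree lc_d_Cert_tree lc_d_rc_15_1 lc_d_rc_17_2 lc_d_rc_17_2 lc_d_rc_22_8 lc_d_rc_8_3 lc_d_rc_15_1 lc_d_rc_15_1 lc_d_Cert_tree lc_d_Cert_tree lc_d_Cert_tree lc_d_rc_15_1 lc_d_rc_17_2 lc_d_rc_24_5 lc_d_rc_15_1 lc_d_Cert_tree) (@D3.rec (fun _ => (Cert rels S Gen.d)) lc_d_Cert_tree lc_d_Cert_tree lc_d_rc_15_1 lc_d_rc_17_2 lc_d_Cert_tree lc_d_Cert_tree lc_d_rc_23_6 lc_d_rc_23_6 lc_d_rc_15_1 lc_d_rc_17_2 lc_d_rc_8_3 lc_d_rc_17_2 lc_d_Cert_tree lc_d_rc_15_1 lc_d_rc_15_1 lc_d_Cert_tree lc_d_rc_23_6 lc_d_rc_12_1 lc_d_rc_15_1 lc_d_Cert_tree lc_d_rc_23_6 lc_d_rc_23_4 lc_d_rc_15_1 lc_d_rc_17_2 lc_d_Cert_tree lc_d_rc_3_3 lc_d_rc_15_1 lc_d_Cert_tree lc_d_rc_8_3 lc_d_rc_15_1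 lc_d_rc_16_4 lc_d_rc_15_1 lc_d_rc_15_1 lc_d_rc_3_3 lc_d_rc_17_2 lc_d_rc_22_2 lc_d_rc_15_1 lc_d_rc_15_1 lc_d_rc_27_4 lc_d_Cert_tree lc_d_Cert_tree lc_d_rc_15_1 lc_d_Cert_tree lc_d_Cert_tree lc_d_rc_15_1 lc_d_Cert_tree lc_d_rc_17_2 lc_d_Cert_tree lc_d_rc_27_2 lc_d_rc_15_1 lc_d_rc_23_6 lc_d_rc_15_1 lc_d_rc_16_2 lc_d_Cert_tree lc_d_rc_15_1 lc_d_rc_15_1 lc_d_rc_15_1 lc_d_rc_12_9 lc_d_rc_8_3 lc_d_rc_23_4 lc_d_rc_16_2 lc_d_rc_8_3) (@D3.rec (fun _ => (Cert rels S Gen.d)) lc_d_rc_23_4 lc_d_rc_16_4 lc_d_rc_23_6 lc_d_rc_23_4 lc_d_rc_8_3 lc_d_rc_16_4 lc_d_rc_23_2 lc_d_Cert_tree lc_d_rc_15_1 lc_d_Cert_tree lc_d_Cert_tree lc_d_rc_15_1 lc_d_rc_15_1 lc_d_rc_15_1 lc_d_rc_15_1 lc_d_rc_15_1 lc_d_rc_27_2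 lc_d_Cert_tree lc_d_Cert_tree lc_d_rc_15_1 lc_d_Cert_tree lc_d_rc_12_3 lc_d_Cert_tree lc_d_rc_15_1 lc_d_Cert_tree lc_d_Cert_tree lc_d_Cert_tree lc_d_Cert_tree lc_d_rc_15_1 lc_d_rc_23_2 lc_d_rc_23_8 lc_d_rc_15_1 lc_d_rc_17_2 lc_d_rc_23_6 lc_d_rc_23_6 lc_d_rc_17_2 lc_d_rc_27_2 lc_d_rc_15_1 lc_d_rc_27_8 lc_d_rc_27_4 lc_d_rc_15_1 lc_d_rc_27_8 lc_d_rc_15_1 lc_d_Cert_tree lc_d_rc_15_1 lc_d_Cert_tree lc_d_Cert_tree lc_d_Cert_tree lc_d_Cert_tree lc_d_rc_15_1 lc_d_rc_17_2 lc_d_rc_24_5 lc_d_rc_23_2 lc_d_rc_17_2 lc_d_rc_15_1 lc_d_Cert_tree lc_d_Cert_tree lc_d_Cert_tree lc_d_rc_17_2 lc_d_rc_15_1 lc_d_rc_15_1 lc_d_rc_3_3) (@D3.rec (fun _ => (Cert rels S Gen.d)) lc_d_Cert_tree lc_d_rc_15_1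 lc_d_rc_27_10 lc_d_Cert_tree lc_d_Cert_tree lc_d_rc_15_1 lc_d_rc_17_2 lc_d_Cert_tree lc_d_Cert_tree lc_d_rc_15_1 lc_d_rc_27_2 lc_d_Cert_tree lc_d_Cert_tree lc_d_rc_15_1 lc_d_Cert_tree lc_d_rc_3_3 lc_d_rc_22_4 lc_d_Cert_tree lc_d_Cert_tree lc_d_Cert_tree lc_d_rc_15_1 lc_d_rc_17_2 lc_d_Cert_tree lc_d_Cert_tree lc_d_rc_15_1 lc_d_rc_23_2 lc_d_Cert_tree lc_d_Cert_tree lc_d_rc_15_1 lc_d_rc_27_4 lc_d_Cert_tree lc_d_Cert_tree lc_d_rc_15_1 lc_d_Cert_tree lc_d_rc_23_4 lc_d_rc_15_1 lc_d_Cert_tree lc_d_rc_17_2 lc_d_Cert_tree lc_d_Cert_tree lc_d_rc_15_1 lc_d_rc_15_1 lc_d_rc_16_2 lc_d_rc_24_5 lc_d_rc_16_2 lc_d_Cert_tree lc_d_Cert_tree lc_d_Cert_tree lc_d_rc_15_1 lc_d_Cert_tree lc_d_rc_22_2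 lc_d_Cert_tree lc_d_rc_15_1 lc_d_rc_8_3 lc_d_rc_23_4 lc_d_rc_3_3 lc_d_rc_8_3 lc_d_rc_23_4 lc_d_rc_16_4 lc_d_rc_8_3 lc_d_rc_22_6 lc_d_rc_15_1) (@D3.rec (fun _ => (Cert rels S Gen.d)) lc_d_rc_15_1 lc_d_rc_16_2 lc_d_rc_22_8 lc_d_rc_16_2 lc_d_rc_27_10 lc_d_rc_27_4 lc_d_rc_22_2 lc_d_Cert_tree lc_d_rc_15_1 lc_d_rc_15_1 lc_d_rc_17_2 lc_d_Cert_tree lc_d_Cert_tree lc_d_Cert_tree lc_d_Cert_tree lc_d_Cert_tree lc_d_Cert_tree lc_d_rc_15_1 lc_d_rc_15_1 lc_d_rc_24_0 lc_d_rc_23_6 lc_d_rc_22_2 lc_d_rc_15_1 lc_d_rc_8_3 lc_d_Cert_tree lc_d_rc_15_1 lc_d_Cert_tree lc_d_rc_15_1 lc_d_rc_17_2 lc_d_rc_12_5 lc_d_Cert_tree lc_d_Cert_tree lc_d_rc_15_1 lc_d_rc_8_3 lc_d_rc_8_3 lc_d_rc_22_6 lc_d_rc_27_2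 lc_d_rc_22_4 lc_d_Cert_tree lc_d_rc_15_1 lc_d_Cert_tree lc_d_rc_23_2 lc_d_Cert_tree lc_d_rc_15_1 lc_d_rc_17_2 lc_d_Cert_tree lc_d_rc_15_1 lc_d_rc_15_1 lc_d_rc_8_1 lc_d_Cert_tree lc_d_rc_3_1 lc_d_Cert_tree lc_d_rc_17_2 lc_d_Cert_tree lc_d_Cert_tree lc_d_rc_15_1 lc_d_rc_27_4 lc_d_Cert_tree lc_d_Cert_tree lc_d_rc_15_1 lc_d_Cert_tree lc_d_rc_24_0) (@D3.rec (fun _ => (Cert rels S Gen.d)) lc_d_rc_15_1 lc_d_Cert_tree lc_d_rc_17_2 lc_d_Cert_tree lc_d_rc_15_1 lc_d_rc_24_0 lc_d_rc_15_1 lc_d_Cert_tree lc_d_Cert_tree lc_d_rc_15_1 lc_d_rc_15_1 lc_d_rc_24_0 lc_d_rc_16_2 lc_d_Cert_tree lc_d_rc_24_0 lc_d_rc_15_1 lc_d_Cert_tree lc_d_rc_8_3 lc_d_rc_23_8 lc_d_rc_16_4 lc_d_Cert_tree lc_d_Cert_tree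 lc_d_rc_8_3 lc_d_rc_24_5 lc_d_rc_16_2 lc_d_rc_15_1 lc_d_rc_8_3 lc_d_rc_16_2 lc_d_rc_15_1 lc_d_Cert_tree lc_d_rc_15_1 lc_d_rc_22_8 lc_d_rc_15_1 lc_d_rc_15_1 lc_d_rc_25_14 lc_d_rc_15_1 lc_d_rc_24_0 lc_d_Cert_tree lc_d_rc_8_3 lc_d_Cert_tree lc_d_rc_15_1 lc_d_rc_17_2 lc_d_rc_16_4 lc_d_rc_17_2 lc_d_rc_8_3 lc_d_rc_22_8 lc_d_rc_15_1 lc_d_Cert_tree lc_d_Cert_tree lc_d_Cert_tree lc_d_rc_15_1 lc_d_rc_17_2 lc_d_rc_15_1 lc_d_Cert_tree lc_d_rc_15_1 lc_d_rc_23_4 lc_d_Cert_tree lc_d_rc_15_1 lc_d_rc_25_6 lc_d_Cert_tree lc_d_Cert_tree lc_d_Cert_tree) (@D3.rec (fun _ => (Cert rels S Gen.d)) lc_d_rc_15_1 lc_d_rc_17_2 lc_d_rc_22_4 lc_d_Cert_tree lc_d_Cert_tree lc_d_Cert_tree lc_d_rc_15_1 lc_d_rc_17_2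 lc_d_rc_8_3 lc_d_rc_3_3 lc_d_rc_24_5 lc_d_rc_8_1 lc_d_Cert_tree lc_d_Cert_tree lc_d_rc_15_1 lc_d_rc_17_2 lc_d_rc_27_10 lc_d_Cert_tree lc_d_rc_15_1 lc_d_Cert_tree lc_d_Cert_tree lc_d_Cert_tree lc_d_rc_15_1 lc_d_Cert_tree lc_d_rc_15_1 lc_d_rc_15_1 lc_d_Cert_tree lc_d_rc_17_2 lc_d_Cert_tree lc_d_Cert_tree lc_d_Cert_tree lc_d_Cert_tree lc_d_rc_15_1 lc_d_rc_17_2 lc_d_Cert_tree lc_d_rc_15_1 lc_d_rc_27_4 lc_d_Cert_tree lc_d_rc_15_1 lc_d_rc_8_3 lc_d_rc_15_1 lc_d_rc_15_1 lc_d_Cert_tree lc_d_rc_17_2 lc_d_rc_8_3 lc_d_rc_15_1 lc_d_rc_23_4 lc_d_rc_24_0 lc_d_rc_8_3 lc_d_rc_22_2 lc_d_rc_3_3 lc_d_Cert_tree lc_d_rc_15_1 lc_d_rc_23_2 lc_d_rc_15_1 lc_d_Cert_tree lc_d_Cert_tree lc_d_Cert_tree lc_d_rc_15_1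 lc_d_rc_17_2 lc_d_Cert_tree lc_d_Cert_tree) (@D3.rec (fun _ => (Cert rels S Gen.d)) lc_d_Cert_tree lc_d_rc_15_1 lc_d_rc_17_2 lc_d_rc_24_5 lc_d_Cert_tree lc_d_Cert_tree lc_d_rc_15_1 lc_d_rc_15_1 lc_d_rc_24_0 lc_d_Cert_tree lc_d_Cert_tree lc_d_Cert_tree lc_d_rc_15_1 lc_d_rc_17_2 lc_d_Cert_tree lc_d_rc_15_1 lc_d_Cert_tree lc_d_rc_15_1 lc_d_rc_27_8 lc_d_Cert_tree lc_d_Cert_tree lc_d_Cert_tree lc_d_rc_17_2 lc_d_rc_15_1 lc_d_rc_27_4 lc_d_Cert_tree lc_d_rc_15_1 lc_d_rc_27_8 lc_d_Cert_tree lc_d_rc_15_1 lc_d_rc_8_3 lc_d_rc_17_2 lc_d_Cert_tree lc_d_rc_8_3 lc_d_rc_16_4 lc_d_rc_24_5 lc_d_rc_22_4 lc_d_rc_8_3 lc_d_rc_22_2 lc_d_rc_16_2 lc_d_rc_15_1 lc_d_Cert_tree lc_d_Cert_tree lc_d_rc_17_2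 lc_d_Cert_tree lc_d_Cert_tree lc_d_Cert_tree lc_d_rc_15_1 lc_d_Cert_tree lc_d_rc_15_1 lc_d_rc_17_2 lc_d_rc_3_3 lc_d_Cert_tree lc_d_Cert_tree lc_d_Cert_tree lc_d_rc_15_1 lc_d_rc_22_2 lc_d_Cert_tree lc_d_rc_15_1 lc_d_Cert_tree lc_d_rc_15_1 lc_d_rc_27_10) (@D3.rec (fun _ => (Cert rels S Gen.d)) lc_d_rc_15_1 lc_d_rc_24_5 lc_d_rc_17_2 lc_d_rc_23_2 lc_d_Cert_tree lc_d_Cert_tree lc_d_rc_15_1 lc_d_rc_17_2 lc_d_Cert_tree lc_d_rc_15_1 lc_d_rc_23_8 lc_d_rc_8_3 lc_d_Cert_tree lc_d_Cert_tree lc_d_rc_16_0 lc_d_rc_15_1 lc_d_rc_17_2 lc_d_Cert_tree lc_d_Cert_tree lc_d_rc_15_1 lc_d_Cert_tree lc_d_Cert_tree lc_d_Cert_tree lc_d_rc_15_1 lc_d_Cert_tree lc_d_rc_3_3 lc_d_Cert_tree lc_d_rc_17_2 lc_d_Cert_tree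 lc_d_Cert_tree lc_d_rc_15_1 lc_d_Cert_tree lc_d_rc_15_1 lc_d_rc_23_6 lc_d_rc_22_6 lc_d_Cert_tree lc_d_rc_15_1 lc_d_Cert_tree lc_d_Cert_tree lc_d_rc_15_1 lc_d_rc_22_4 lc_d_rc_16_4 lc_d_rc_8_3 lc_d_Cert_tree lc_d_rc_15_1 lc_d_rc_8_3 lc_d_Cert_tree lc_d_rc_16_4 lc_d_Cert_tree lc_d_Cert_tree lc_d_Cert_tree lc_d_rc_15_1 lc_d_rc_24_0 lc_d_rc_16_4 lc_d_Cert_tree lc_d_rc_22_2 lc_d_rc_22_8 lc_d_rc_15_1 lc_d_Cert_tree lc_d_Cert_tree lc_d_Cert_tree lc_d_rc_15_1) (@D3.rec (fun _ => (Cert rels S Gen.d)) lc_d_rc_17_2 lc_d_Cert_tree lc_d_rc_15_1 lc_d_rc_27_4 lc_d_rc_15_1 lc_d_Cert_tree lc_d_rc_15_1 lc_d_Cert_tree lc_d_rc_17_2 lc_d_Cert_tree lc_d_Cert_tree lc_d_Cert_tree lc_d_rc_15_1 lc_d_rc_17_2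 lc_d_rc_15_1 lc_d_rc_27_4 lc_d_rc_15_1 lc_d_Cert_tree lc_d_rc_15_1 lc_d_rc_15_1 lc_d_rc_17_2 lc_d_rc_8_3 lc_d_Cert_tree lc_d_Cert_tree lc_d_Cert_tree lc_d_Cert_tree lc_d_Cert_tree lc_d_Cert_tree lc_d_Cert_tree lc_d_rc_15_1 lc_d_rc_17_2 lc_d_rc_15_1 lc_d_rc_8_3 lc_d_Cert_tree lc_d_rc_15_1 lc_d_rc_23_6 lc_d_rc_8_3 lc_d_Cert_tree lc_d_rc_17_2 lc_d_Cert_tree lc_d_rc_17_2 lc_d_Cert_tree lc_d_rc_15_1 lc_d_Cert_tree lc_d_Cert_tree lc_d_Cert_tree lc_d_rc_15_1 lc_d_Cert_tree lc_d_rc_15_1 lc_d_rc_15_1 lc_d_Cert_tree lc_d_Cert_tree lc_d_Cert_tree lc_d_rc_15_1 lc_d_Cert_tree lc_d_Cert_tree lc_d_rc_24_5 lc_d_rc_16_4 lc_d_Cert_tree lc_d_rc_15_1 lc_d_Cert_tree lc_d_Cert_tree) (@D3.rec (fun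 _ => (Cert rels S Gen.d)) lc_d_Cert_tree lc_d_rc_27_10 lc_d_rc_15_1 lc_d_rc_17_2 lc_d_Cert_tree lc_d_Cert_tree lc_d_rc_15_1 lc_d_rc_23_2 lc_d_rc_8_1 lc_d_Cert_tree lc_d_rc_15_1 lc_d_rc_3_1 lc_d_Cert_tree lc_d_Cert_tree lc_d_Cert_tree lc_d_rc_15_1 lc_d_rc_17_2 lc_d_Cert_tree lc_d_rc_15_1 lc_d_Cert_tree lc_d_Cert_tree lc_d_rc_15_1 lc_d_rc_27_8 lc_d_Cert_tree lc_d_Cert_tree lc_d_rc_15_1 lc_d_Cert_tree lc_d_rc_15_1 lc_d_rc_15_1 lc_d_Cert_tree lc_d_rc_24_0 lc_d_rc_15_1 lc_d_rc_15_1 lc_d_Cert_tree lc_d_rc_15_1 lc_d_rc_8_3 lc_d_rc_15_1 lc_d_Cert_tree lc_d_rc_22_6 lc_d_Cert_tree lc_d_rc_23_2 lc_d_rc_23_8 lc_d_rc_15_1 lc_d_rc_8_3 lc_d_rc_15_1 lc_d_rc_24_5 lc_d_rc_15_1 lc_d_Cert_tree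 lc_d_rc_16_2 lc_d_Cert_tree lc_d_rc_15_1 lc_d_rc_23_6 lc_d_rc_24_0 lc_d_rc_8_1 lc_d_rc_22_6 lc_d_Cert_tree lc_d_Cert_tree lc_d_rc_15_1 lc_d_rc_17_2 lc_d_rc_23_4 lc_d_rc_15_1 lc_d_Cert_tree) (@D3.rec (fun _ => (Cert rels S Gen.d)) lc_d_rc_16_4 lc_d_Cert_tree lc_d_rc_15_1 lc_d_rc_15_1 lc_d_rc_27_4 lc_d_rc_17_2 lc_d_rc_23_2 lc_d_Cert_tree lc_d_rc_15_1 lc_d_Cert_tree lc_d_rc_3_3 lc_d_rc_22_2 lc_d_rc_15_1 lc_d_Cert_tree lc_d_Cert_tree lc_d_Cert_tree lc_d_rc_15_1 lc_d_rc_17_2 lc_d_Cert_tree lc_d_rc_15_1 lc_d_rc_15_1 lc_d_Cert_tree lc_d_rc_15_1 lc_d_Cert_tree lc_d_Cert_tree lc_d_Cert_tree lc_d_rc_15_1 lc_d_rc_17_2 lc_d_rc_15_1 lc_d_Cert_tree lc_d_rc_15_1 lc_d_Cert_tree lc_d_Cert_tree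 lc_d_Cert_tree lc_d_Cert_tree lc_d_rc_15_1 lc_d_rc_8_1 lc_d_rc_16_4 lc_d_rc_3_3 lc_d_Cert_tree lc_d_Cert_tree lc_d_rc_15_1 lc_d_rc_12_3 lc_d_rc_15_1 lc_d_Cert_tree lc_d_rc_15_1 lc_d_rc_8_1 lc_d_rc_15_1 lc_d_Cert_tree lc_d_rc_15_1 lc_d_rc_15_1 lc_d_rc_22_6 lc_d_rc_16_4 lc_d_rc_3_3 lc_d_rc_23_2 lc_d_rc_15_1 lc_d_rc_8_3 lc_d_Cert_tree lc_d_rc_16_4 lc_d_rc_23_4 lc_d_Cert_tree lc_d_Cert_tree) (@D3.rec (fun _ => (Cert rels S Gen.d)) lc_d_rc_15_1 lc_d_Cert_tree lc_d_Cert_tree lc_d_rc_15_1 lc_d_rc_15_1 lc_d_rc_23_6 lc_d_rc_15_1 lc_d_Cert_tree lc_d_rc_15_1 lc_d_Cert_tree lc_d_Cert_tree lc_d_Cert_tree lc_d_rc_15_1 lc_d_rc_22_4 lc_d_rc_15_1 lc_d_rc_23_4 lc_d_Cert_tree lc_d_rc_15_1 lc_d_rc_15_1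 lc_d_Cert_tree lc_d_rc_23_4 lc_d_Cert_tree lc_d_Cert_tree lc_d_Cert_tree lc_d_rc_8_3 lc_d_rc_23_8 lc_d_rc_15_1 lc_d_rc_8_3 lc_d_rc_15_1 lc_d_rc_16_4 lc_d_Cert_tree lc_d_rc_23_8 lc_d_rc_15_1 lc_d_rc_16_2 lc_d_rc_8_1 lc_d_rc_3_3 lc_d_Cert_tree lc_d_Cert_tree lc_d_rc_15_1 lc_d_rc_17_2 lc_d_rc_3_3 lc_d_rc_15_1 lc_d_Cert_tree lc_d_Cert_tree lc_d_rc_15_1 lc_d_rc_15_1 lc_d_Cert_tree lc_d_rc_15_1 lc_d_Cert_tree lc_d_rc_15_1 lc_d_Cert_tree lc_d_Cert_tree lc_d_rc_27_2 lc_d_rc_15_1 lc_d_rc_16_4 lc_d_rc_8_3 lc_d_rc_15_1 lc_d_Cert_tree lc_d_Cert_tree lc_d_rc_15_1 lc_d_rc_8_3 lc_d_rc_23_6) (@D3.rec (fun _ => (Cert rels S Gen.d)) lc_d_rc_15_1 lc_d_rc_23_2 lc_d_rc_16_2 lc_d_rc_15_1 lc_d_rc_23_8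 lc_d_rc_15_1 lc_d_rc_15_1 lc_d_Cert_tree lc_d_Cert_tree lc_d_rc_15_1 lc_d_Cert_tree lc_d_Cert_tree lc_d_Cert_tree lc_d_rc_15_1 lc_d_rc_17_2 lc_d_rc_8_3 lc_d_Cert_tree lc_d_Cert_tree lc_d_rc_15_1 lc_d_rc_15_1 lc_d_rc_17_2 lc_d_rc_22_6 lc_d_rc_17_2 lc_d_Cert_tree lc_d_Cert_tree lc_d_rc_23_2 lc_d_rc_15_1 lc_d_rc_16_4 lc_d_rc_15_1 lc_d_Cert_tree lc_d_rc_15_1 lc_d_rc_15_1 lc_d_rc_22_6 lc_d_Cert_tree lc_d_rc_15_1 lc_d_rc_15_1 lc_d_rc_23_2 lc_d_rc_16_4 lc_d_rc_23_8 lc_d_Cert_tree lc_d_rc_15_1 lc_d_Cert_tree lc_d_rc_15_1 lc_d_rc_22_6 lc_d_rc_16_4 lc_d_rc_15_1 lc_d_rc_16_2 lc_d_rc_8_3 lc_d_Cert_tree lc_d_rc_24_5 lc_d_rc_8_3 lc_d_Cert_tree lc_d_rc_8_3 lc_d_rc_15_1 lc_d_rc_16_2 lc_d_rc_8_3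 lc_d_rc_8_3 lc_d_Cert_tree lc_d_rc_15_1 lc_d_Cert_tree lc_d_Cert_tree lc_d_rc_15_1) (@D3.rec (fun _ => (Cert rels S Gen.d)) lc_d_rc_15_1 lc_d_rc_27_10 lc_d_Cert_tree lc_d_rc_15_1 lc_d_rc_27_8 lc_d_rc_24_5 lc_d_rc_27_10 lc_d_Cert_tree lc_d_rc_15_1 lc_d_rc_12_15 lc_d_rc_3_3 lc_d_rc_15_1 lc_d_rc_27_2 lc_d_rc_15_1 lc_d_Cert_tree lc_d_rc_16_4 lc_d_rc_8_3 lc_d_rc_15_1 lc_d_Cert_tree lc_d_Cert_tree lc_d_rc_17_2 lc_d_rc_8_3 lc_d_Cert_tree lc_d_Cert_tree lc_d_Cert_tree lc_d_rc_15_1 lc_d_rc_17_2 lc_d_Cert_tree lc_d_Cert_tree lc_d_rc_15_1 lc_d_rc_17_2 lc_d_rc_15_1 lc_d_rc_27_8 lc_d_rc_23_4 lc_d_rc_22_4 lc_d_rc_17_2 lc_d_Cert_tree lc_d_rc_15_1 lc_d_rc_15_1 lc_d_rc_27_8 lc_d_Cert_tree lc_d_rc_24_0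 lc_d_Cert_tree lc_d_Cert_tree lc_d_rc_16_4 lc_d_Cert_tree lc_d_Cert_tree lc_d_rc_15_1 lc_d_rc_17_2 lc_d_rc_23_6 lc_d_rc_22_2 lc_d_rc_17_2 lc_d_rc_16_2 lc_d_rc_24_5 lc_d_Cert_tree lc_d_Cert_tree lc_d_Cert_tree lc_d_rc_15_1 lc_d_rc_15_1 lc_d_rc_15_1 lc_d_rc_23_6 lc_d_rc_15_1) (@D3.rec (fun _ => (Cert rels S Gen.d)) lc_d_Cert_tree lc_d_Cert_tree lc_d_rc_15_1 lc_d_rc_17_2 lc_d_Cert_tree lc_d_rc_24_5 lc_d_rc_15_1 lc_d_rc_27_4 lc_d_Cert_tree lc_d_rc_15_1 lc_d_rc_15_1 lc_d_rc_15_1 lc_d_Cert_tree lc_d_rc_17_2 lc_d_Cert_tree lc_d_Cert_tree lc_d_rc_15_1 lc_d_rc_15_1 lc_d_rc_15_1 lc_d_rc_15_1 lc_d_rc_16_2 lc_d_Cert_tree lc_d_Cert_tree lc_d_rc_15_1 lc_d_Cert_tree lc_d_rc_23_8 lc_d_Cert_tree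 lc_d_rc_15_1 lc_d_rc_8_3 lc_d_rc_22_2 lc_d_rc_16_2 lc_d_rc_8_3 lc_d_rc_22_8 lc_d_rc_16_4 lc_d_rc_22_6 lc_d_rc_22_2 lc_d_Cert_tree lc_d_rc_15_1 lc_d_rc_22_6 lc_d_rc_17_2 lc_d_rc_27_8 lc_d_rc_15_1 lc_d_rc_17_2 lc_d_rc_16_4 lc_d_rc_15_1 lc_d_Cert_tree lc_d_rc_15_1 lc_d_rc_15_1 lc_d_rc_17_2 lc_d_Cert_tree lc_d_rc_24_0 lc_d_rc_15_1 lc_d_rc_27_2 lc_d_rc_27_10 lc_d_rc_24_0 lc_d_Cert_tree lc_d_rc_15_1 lc_d_Cert_tree lc_d_rc_15_1 lc_d_Cert_tree lc_d_Cert_tree lc_d_Cert_tree) (@D3.rec (fun _ => (Cert rels S Gen.d)) lc_d_rc_15_1 lc_d_Cert_tree lc_d_rc_3_3 lc_d_Cert_tree lc_d_rc_27_10 lc_d_rc_15_1 lc_d_rc_17_2 lc_d_rc_3_3 lc_d_rc_15_1 lc_d_rc_3_3 lc_d_Cert_tree lc_d_rc_8_3 lc_d_rc_15_1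 lc_d_rc_8_1 lc_d_Cert_tree lc_d_Cert_tree lc_d_Cert_tree lc_d_Cert_tree lc_d_rc_15_1 lc_d_rc_17_2 lc_d_Cert_tree lc_d_Cert_tree lc_d_rc_15_1 lc_d_rc_17_2 lc_d_rc_16_2 lc_d_rc_15_1 lc_d_rc_23_4 lc_d_rc_24_0 lc_d_rc_17_2 lc_d_rc_15_1 lc_d_rc_15_1 lc_d_rc_24_0 lc_d_rc_8_3 lc_d_rc_23_8 lc_d_rc_8_3 lc_d_rc_25_2 lc_d_rc_27_2 lc_d_Cert_tree lc_d_Cert_tree lc_d_rc_23_2 lc_d_rc_15_1 lc_d_rc_3_3 lc_d_rc_22_6 lc_d_rc_8_3 lc_d_rc_24_0 lc_d_Cert_tree lc_d_Cert_tree lc_d_rc_25_6 lc_d_Cert_tree lc_d_rc_15_1 lc_d_rc_17_2 lc_d_rc_8_3 lc_d_rc_15_1 lc_d_rc_22_6 lc_d_rc_17_2 lc_d_rc_23_6 lc_d_rc_24_0 lc_d_rc_3_1 lc_d_Cert_tree lc_d_Cert_tree lc_d_Cert_tree lc_d_rc_15_1) (@D3.rec (fun _ => (Cert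 rels S Gen.d)) lc_d_rc_17_2 lc_d_Cert_tree lc_d_rc_15_1 lc_d_rc_15_1 lc_d_rc_27_4 lc_d_Cert_tree lc_d_rc_24_5 lc_d_rc_15_1 lc_d_Cert_tree lc_d_rc_15_1 lc_d_rc_15_1 lc_d_Cert_tree lc_d_rc_17_2 lc_d_rc_23_8 lc_d_rc_16_2 lc_d_rc_23_6 lc_d_rc_22_4 lc_d_rc_16_4 lc_d_rc_24_5 lc_d_rc_24_5 lc_d_rc_15_1 lc_d_rc_15_1 lc_d_rc_23_4 lc_d_rc_16_2 lc_d_rc_8_3 lc_d_rc_23_4 lc_d_Cert_tree lc_d_rc_22_2 lc_d_rc_23_8 lc_d_rc_23_8 lc_d_Cert_tree lc_d_rc_15_1 lc_d_rc_24_0 lc_d_rc_17_2 lc_d_Cert_tree lc_d_rc_15_1 lc_d_Cert_tree lc_d_Cert_tree lc_d_rc_15_1 lc_d_rc_15_1 lc_d_rc_15_1 lc_d_rc_22_6 lc_d_rc_16_4 lc_d_rc_15_1 lc_d_Cert_tree lc_d_rc_22_2 lc_d_Cert_tree lc_d_rc_22_4 lc_d_rc_15_1 lc_d_rc_23_8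 lc_d_Cert_tree lc_d_rc_15_1 lc_d_rc_24_5 lc_d_Cert_tree lc_d_rc_15_1 lc_d_rc_23_2 lc_d_rc_8_3 lc_d_rc_16_4 lc_d_rc_24_0 lc_d_rc_22_6 lc_d_rc_16_4 lc_d_rc_15_1) (@D3.rec (fun _ => (Cert rels S Gen.d)) lc_d_rc_15_1 lc_d_rc_12_13 lc_d_rc_16_4 lc_d_rc_24_0 lc_d_Cert_tree lc_d_rc_15_1 lc_d_rc_27_2 lc_d_Cert_tree lc_d_Cert_tree lc_d_rc_15_1 lc_d_rc_22_4 lc_d_Cert_tree lc_d_rc_15_1 lc_d_rc_15_1 lc_d_rc_23_6 lc_d_rc_23_6 lc_d_rc_3_3 lc_d_Cert_tree lc_d_rc_15_1 lc_d_Cert_tree lc_d_Cert_tree lc_d_rc_15_1 lc_d_rc_17_2 lc_d_rc_15_1 lc_d_rc_15_1 lc_d_rc_15_1 lc_d_rc_22_2 lc_d_rc_15_1 lc_d_rc_8_3 lc_d_Cert_tree lc_d_rc_15_1 lc_d_rc_27_4 lc_d_rc_15_1 lc_d_Cert_tree lc_d_rc_15_1 lc_d_rc_17_2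 lc_d_rc_24_5 lc_d_Cert_tree lc_d_rc_15_1 lc_d_rc_15_1 lc_d_rc_22_6 lc_d_rc_16_4 lc_d_Cert_tree lc_d_rc_15_1 lc_d_Cert_tree lc_d_rc_15_1 lc_d_rc_22_8 lc_d_rc_16_4 lc_d_rc_15_1 lc_d_rc_24_0 lc_d_rc_22_6 lc_d_rc_3_1 lc_d_rc_15_1 lc_d_Cert_tree lc_d_rc_16_4 lc_d_rc_15_1 lc_d_Cert_tree lc_d_Cert_tree lc_d_Cert_tree lc_d_rc_15_1 lc_d_rc_12_13 lc_d_rc_16_4) (@D3.rec (fun _ => (Cert rels S Gen.d)) lc_d_Cert_tree lc_d_rc_15_1 lc_d_rc_15_1 lc_d_rc_8_3 lc_d_Cert_tree lc_d_Cert_tree lc_d_Cert_tree lc_d_rc_15_1 lc_d_rc_12_13 lc_d_rc_16_4 lc_d_rc_15_1 lc_d_rc_15_1 lc_d_rc_22_6 lc_d_rc_8_1 lc_d_rc_8_3 lc_d_rc_24_5 lc_d_rc_16_4 lc_d_rc_8_3 lc_d_rc_23_6 lc_d_rc_3_1 lc_d_rc_23_6 lc_d_rc_15_1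 lc_d_Cert_tree lc_d_rc_15_1 lc_d_rc_25_14 lc_d_rc_24_0 lc_d_rc_15_1 lc_d_rc_3_3 lc_d_rc_8_3 lc_d_rc_8_3 lc_d_Cert_tree lc_d_rc_15_1 lc_d_rc_8_3 lc_d_rc_23_2 lc_d_rc_23_2 lc_d_rc_8_3 lc_d_rc_23_2 lc_d_Cert_tree lc_d_rc_15_1 lc_d_Cert_tree lc_d_rc_15_1 lc_d_Cert_tree lc_d_Cert_tree lc_d_rc_15_1 lc_d_rc_12_13 lc_d_rc_16_4 lc_d_Cert_tree lc_d_rc_15_1 lc_d_rc_15_1 lc_d_rc_16_2 lc_d_Cert_tree lc_d_Cert_tree lc_d_Cert_tree lc_d_rc_15_1 lc_d_rc_22_4 lc_d_rc_16_4 lc_d_rc_17_0 lc_d_Cert_tree lc_d_rc_16_4 lc_d_rc_8_3 lc_d_rc_15_1 lc_d_rc_16_4) (@D3.rec (fun _ => (Cert rels S Gen.d)) lc_d_rc_8_3 lc_d_rc_23_8 lc_d_rc_16_4 lc_d_Cert_tree lc_d_rc_15_1 lc_d_Cert_tree lc_d_Cert_tree lc_d_Cert_tree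 lc_d_rc_15_1 lc_d_rc_17_2 lc_d_rc_15_1 lc_d_rc_15_1 lc_d_Cert_tree lc_d_rc_15_1 lc_d_rc_3_3 lc_d_rc_15_1 lc_d_Cert_tree lc_d_rc_24_0 lc_d_rc_15_1 lc_d_rc_8_3 lc_d_rc_15_1 lc_d_Cert_tree lc_d_rc_15_1 lc_d_Cert_tree lc_d_rc_15_1 lc_d_rc_27_4 lc_d_rc_16_4 lc_d_Cert_tree lc_d_rc_15_1 lc_d_rc_16_4 lc_d_Cert_tree lc_d_rc_16_2 lc_d_rc_16_2 lc_d_rc_8_3 lc_d_rc_22_6 lc_d_rc_27_10 lc_d_rc_15_1 lc_d_rc_17_2 lc_d_rc_8_3 lc_d_Cert_tree lc_d_rc_24_0 lc_d_rc_15_1 lc_d_rc_17_2 lc_d_Cert_tree lc_d_rc_8_3 lc_d_Cert_tree lc_d_rc_16_4 lc_d_rc_15_1 lc_d_rc_27_2 lc_d_rc_27_10 lc_d_rc_17_2 lc_d_rc_15_1 lc_d_Cert_tree lc_d_Cert_tree lc_d_rc_15_1 lc_d_Cert_tree lc_d_rc_24_5 lc_d_rc_17_2 lc_d_Cert_tree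 lc_d_rc_15_1 lc_d_rc_8_3 lc_d_rc_16_4) (@D3.rec (fun _ => (Cert rels S Gen.d)) lc_d_Cert_tree lc_d_Cert_tree lc_d_Cert_tree lc_d_rc_15_1 lc_d_rc_3_1 lc_d_rc_15_1 lc_d_rc_16_2 lc_d_rc_8_3 lc_d_rc_8_3 lc_d_Cert_tree lc_d_rc_15_1 lc_d_rc_17_2 lc_d_rc_8_1 lc_d_rc_27_2 lc_d_Cert_tree lc_d_rc_15_1 lc_d_Cert_tree lc_d_rc_15_1 lc_d_rc_15_1 lc_d_rc_16_2 lc_d_rc_15_1 lc_d_rc_16_2 lc_d_rc_16_2 lc_d_rc_15_1 lc_d_rc_15_1 lc_d_rc_8_1 lc_d_rc_23_6 lc_d_Cert_tree lc_d_rc_16_4 lc_d_rc_17_2 lc_d_rc_15_1 lc_d_Cert_tree lc_d_rc_8_3 lc_d_rc_16_4 lc_d_rc_8_3 lc_d_Cert_tree lc_d_Cert_tree lc_d_rc_15_1 lc_d_rc_17_2 lc_d_rc_16_4 lc_d_rc_27_4 lc_d_Cert_tree lc_d_rc_8_3 lc_d_rc_3_3 lc_d_rc_8_3 lc_d_Cert_tree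 lc_d_Cert_tree lc_d_rc_17_2 lc_d_rc_15_1 lc_d_Cert_tree lc_d_rc_15_1 lc_d_rc_8_3 lc_d_rc_16_4 lc_d_Cert_tree lc_d_Cert_tree lc_d_rc_17_2 lc_d_rc_15_1 lc_d_rc_17_2 lc_d_rc_8_1 lc_d_rc_15_1 lc_d_rc_23_8 lc_d_rc_15_1) (@D3.rec (fun _ => (Cert rels S Gen.d)) lc_d_Cert_tree lc_d_Cert_tree lc_d_rc_15_1 lc_d_rc_17_2 lc_d_rc_22_6 lc_d_Cert_tree lc_d_rc_15_1 lc_d_rc_8_3 lc_d_rc_15_1 lc_d_rc_27_2 lc_d_rc_3_3 lc_d_Cert_tree lc_d_rc_15_1 lc_d_rc_22_6 lc_d_rc_16_4 lc_d_rc_16_2 lc_d_rc_8_3 lc_d_rc_3_3 lc_d_rc_16_4 lc_d_rc_23_2 lc_d_rc_15_1 lc_d_Cert_tree lc_d_Cert_tree lc_d_Cert_tree lc_d_rc_17_2 lc_d_Cert_tree lc_d_rc_15_1 lc_d_rc_27_4 lc_d_Cert_tree lc_d_rc_15_1 lc_d_Cert_tree lc_d_Cert_tree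 lc_d_Cert_tree lc_d_Cert_tree lc_d_rc_15_1 lc_d_Cert_tree lc_d_rc_15_1 lc_d_Cert_tree lc_d_rc_8_3 lc_d_Cert_tree lc_d_rc_8_3 lc_d_Cert_tree lc_d_rc_16_2 lc_d_Cert_tree lc_d_rc_16_4 lc_d_Cert_tree lc_d_rc_15_1 lc_d_rc_22_2 lc_d_rc_16_4 lc_d_rc_15_1 lc_d_rc_16_2 lc_d_rc_23_2 lc_d_rc_16_2 lc_d_rc_27_8 lc_d_Cert_tree lc_d_rc_16_4 lc_d_Cert_tree lc_d_Cert_tree lc_d_Cert_tree lc_d_rc_15_1 lc_d_Cert_tree lc_d_rc_3_3) (@D3.rec (fun _ => (Cert rels S Gen.d)) lc_d_rc_15_1 lc_d_rc_17_2 lc_d_Cert_tree lc_d_rc_15_1 lc_d_rc_16_2 lc_d_Cert_tree lc_d_rc_15_1 lc_d_Cert_tree lc_d_rc_15_1 lc_d_rc_17_2 lc_d_rc_27_4 lc_d_rc_22_2 lc_d_Cert_tree lc_d_rc_15_1 lc_d_rc_8_3 lc_d_Cert_tree lc_d_rc_15_1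 lc_d_rc_17_2 lc_d_rc_16_4 lc_d_Cert_tree lc_d_rc_15_1 lc_d_Cert_tree lc_d_rc_24_5 lc_d_rc_24_0 lc_d_rc_15_1 lc_d_rc_27_4 lc_d_Cert_tree lc_d_rc_15_1 lc_d_Cert_tree lc_d_Cert_tree lc_d_rc_15_1 lc_d_Cert_tree lc_d_Cert_tree lc_d_Cert_tree lc_d_Cert_tree lc_d_rc_15_1 lc_d_rc_15_1 lc_d_rc_24_0 lc_d_rc_12_3 lc_d_rc_16_4 lc_d_rc_17_2 lc_d_Cert_tree lc_d_rc_27_8 lc_d_rc_27_4 lc_d_rc_15_1 lc_d_Cert_tree lc_d_Cert_tree lc_d_rc_15_1 lc_d_rc_27_4 lc_d_Cert_tree lc_d_rc_15_1 lc_d_rc_16_4 lc_d_rc_27_4 lc_d_rc_8_3 lc_d_Cert_tree lc_d_Cert_tree lc_d_rc_15_1 lc_d_Cert_tree lc_d_Cert_tree lc_d_Cert_tree lc_d_rc_15_1 lc_d_rc_27_8) (@D3.rec (fun _ => (Cert rels S Gen.d)) lc_d_rc_15_1 lc_d_rc_24_5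 lc_d_Cert_tree lc_d_rc_16_4 lc_d_rc_17_2 lc_d_rc_27_2 lc_d_rc_27_10 lc_d_Cert_tree lc_d_rc_15_1 lc_d_rc_22_2 lc_d_rc_27_2 lc_d_rc_17_0 lc_d_Cert_tree lc_d_Cert_tree lc_d_Cert_tree lc_d_rc_15_1 lc_d_rc_27_2 lc_d_Cert_tree lc_d_Cert_tree lc_d_rc_15_1 lc_d_rc_24_0 lc_d_rc_15_1 lc_d_rc_15_1 lc_d_rc_27_8 lc_d_Cert_tree lc_d_rc_15_1 lc_d_rc_27_8 lc_d_Cert_tree lc_d_rc_16_2 lc_d_rc_24_0 lc_d_rc_15_1 lc_d_Cert_tree lc_d_rc_16_4 lc_d_rc_24_5 lc_d_rc_17_2 lc_d_rc_27_2 lc_d_rc_24_5 lc_d_Cert_tree lc_d_rc_27_4 lc_d_rc_15_1 lc_d_rc_27_4 lc_d_rc_17_2 lc_d_rc_15_1 lc_d_rc_17_2 lc_d_rc_17_2 lc_d_rc_16_4 lc_d_rc_15_1 lc_d_rc_8_3 lc_d_rc_27_4 lc_d_rc_8_3 lc_d_rc_16_4 lc_d_Cert_tree lc_d_rc_8_3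 lc_d_rc_15_1 lc_d_Cert_tree lc_d_rc_15_1 lc_d_Cert_tree lc_d_rc_22_4 lc_d_Cert_tree lc_d_Cert_tree lc_d_Cert_tree lc_d_rc_15_1)
def ce_d_8 : D2 → D3 → (Cert rels S Gen.d) := @D2.rec (fun _ => D3 → (Cert rels S Gen.d)) (@D3.rec (fun _ => (Cert rels S Gen.d)) lc_d_rc_23_4 lc_d_rc_15_1 lc_d_rc_15_1 lc_d_rc_27_4 lc_d_Cert_tree lc_d_rc_22_6 lc_d_Cert_tree lc_d_Cert_tree lc_d_rc_15_1 lc_d_rc_15_1 lc_d_Cert_tree lc_d_Cert_tree lc_d_rc_15_1 lc_d_rc_17_2 lc_d_Cert_tree lc_d_rc_15_1 lc_d_rc_8_3 lc_d_rc_15_1 lc_d_rc_15_1 lc_d_Cert_tree lc_d_rc_3_3 lc_d_Cert_tree lc_d_rc_15_1 lc_d_Cert_tree lc_d_rc_17_2 lc_d_rc_16_4 lc_d_rc_24_5 lc_d_rc_22_2 lc_d_Cert_tree lc_d_rc_15_1 lc_d_rc_22_2 lc_d_rc_24_5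 lc_d_rc_16_4 lc_d_rc_8_1 lc_d_rc_15_1 lc_d_rc_16_2 lc_d_rc_15_1 lc_d_rc_22_6 lc_d_Cert_tree lc_d_rc_22_8 lc_d_rc_22_6 lc_d_rc_22_2 lc_d_rc_15_1 lc_d_rc_16_4 lc_d_Cert_tree lc_d_Cert_tree lc_d_rc_15_1 lc_d_rc_8_3 lc_d_Cert_tree lc_d_Cert_tree lc_d_rc_15_1 lc_d_rc_8_3 lc_d_rc_16_4 lc_d_Cert_tree lc_d_rc_15_1 lc_d_rc_15_1 lc_d_rc_15_1 lc_d_Cert_tree lc_d_rc_15_1 lc_d_rc_16_0 lc_d_rc_8_3 lc_d_rc_23_8) (@D3.rec (fun _ => (Cert rels S Gen.d)) lc_d_rc_27_10 lc_d_rc_15_1 lc_d_rc_15_1 lc_d_rc_15_1 lc_d_rc_15_1 lc_d_rc_8_3 lc_d_rc_16_4 lc_d_rc_17_2 lc_d_rc_8_3 lc_d_Cert_tree lc_d_Cert_tree lc_d_Cert_tree lc_d_rc_17_2 lc_d_rc_16_4 lc_d_rc_16_4 lc_d_rc_15_1 lc_d_rc_27_2 lc_d_Cert_tree lc_d_Cert_tree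 lc_d_Cert_tree lc_d_rc_17_2 lc_d_Cert_tree lc_d_rc_15_1 lc_d_rc_27_4 lc_d_Cert_tree lc_d_rc_15_1 lc_d_Cert_tree lc_d_rc_22_2 lc_d_rc_15_1 lc_d_Cert_tree lc_d_rc_15_1 lc_d_rc_16_4 lc_d_rc_15_1 lc_d_rc_17_2 lc_d_Cert_tree lc_d_Cert_tree lc_d_Cert_tree lc_d_rc_15_1 lc_d_rc_15_1 lc_d_rc_16_4 lc_d_Cert_tree lc_d_rc_25_6 lc_d_rc_27_10 lc_d_rc_3_3 lc_d_Cert_tree lc_d_Cert_tree lc_d_Cert_tree lc_d_rc_15_1 lc_d_Cert_tree lc_d_Cert_tree lc_d_rc_15_1 lc_d_rc_27_8 lc_d_rc_15_1 lc_d_rc_8_3 lc_d_rc_15_1 lc_d_Cert_tree lc_d_rc_16_4 lc_d_rc_17_2 lc_d_Cert_tree lc_d_rc_8_3 lc_d_Cert_tree lc_d_Cert_tree) (@D3.rec (fun _ => (Cert rels S Gen.d)) lc_d_rc_15_1 lc_d_rc_17_2 lc_d_Cert_tree lc_d_rc_15_1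 lc_d_Cert_tree lc_d_rc_8_1 lc_d_rc_27_4 lc_d_rc_15_1 lc_d_rc_17_2 lc_d_rc_15_1 lc_d_rc_27_2 lc_d_rc_3_1 lc_d_rc_15_1 lc_d_Cert_tree lc_d_Cert_tree lc_d_Cert_tree lc_d_rc_15_1 lc_d_rc_27_10 lc_d_Cert_tree lc_d_Cert_tree lc_d_rc_15_1 lc_d_rc_17_2 lc_d_rc_23_6 lc_d_rc_16_4 lc_d_rc_16_2 lc_d_rc_24_0 lc_d_rc_16_4 lc_d_Cert_tree lc_d_Cert_tree lc_d_rc_17_2 lc_d_Cert_tree lc_d_rc_15_1 lc_d_rc_15_1 lc_d_rc_17_2 lc_d_Cert_tree lc_d_rc_15_1 lc_d_rc_27_4 lc_d_Cert_tree lc_d_rc_15_1 lc_d_Cert_tree lc_d_rc_23_6 lc_d_rc_15_1 lc_d_rc_22_4 lc_d_rc_16_4 lc_d_Cert_tree lc_d_rc_15_1 lc_d_rc_15_1 lc_d_rc_17_2 lc_d_rc_27_4 lc_d_Cert_tree lc_d_rc_15_1 lc_d_rc_22_2 lc_d_rc_17_2 lc_d_rc_16_2 lc_d_rc_15_1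 lc_d_Cert_tree lc_d_Cert_tree lc_d_Cert_tree lc_d_rc_15_1 lc_d_rc_17_2 lc_d_rc_15_1 lc_d_Cert_tree) (@D3.rec (fun _ => (Cert rels S Gen.d)) lc_d_rc_15_1 lc_d_rc_27_10 lc_d_rc_17_2 lc_d_rc_15_1 lc_d_rc_8_3 lc_d_rc_3_3 lc_d_Cert_tree lc_d_Cert_tree lc_d_rc_12_1 lc_d_rc_8_3 lc_d_Cert_tree lc_d_rc_27_4 lc_d_rc_15_1 lc_d_rc_17_2 lc_d_rc_15_1 lc_d_rc_15_1 lc_d_rc_15_1 lc_d_rc_16_2 lc_d_rc_8_3 lc_d_Cert_tree lc_d_rc_3_3 lc_d_rc_15_1 lc_d_rc_17_2 lc_d_rc_15_1 lc_d_rc_15_1 lc_d_rc_27_10 lc_d_rc_27_10 lc_d_rc_15_1 lc_d_rc_24_5 lc_d_rc_16_2 lc_d_rc_15_1 lc_d_rc_27_2 lc_d_Cert_tree lc_d_rc_15_1 lc_d_rc_15_1 lc_d_rc_23_8 lc_d_rc_24_0 lc_d_rc_16_4 lc_d_Cert_tree lc_d_Cert_tree lc_d_rc_15_1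 lc_d_Cert_tree lc_d_Cert_tree lc_d_rc_15_1 lc_d_rc_12_13 lc_d_rc_16_4 lc_d_rc_15_1 lc_d_rc_16_4 lc_d_rc_15_1 lc_d_rc_16_4 lc_d_rc_8_3 lc_d_Cert_tree lc_d_rc_15_1 lc_d_rc_15_1 lc_d_rc_17_2 lc_d_rc_16_4 lc_d_rc_16_2 lc_d_rc_15_1 lc_d_rc_16_2 lc_d_rc_24_5 lc_d_Cert_tree lc_d_rc_15_1) (@D3.rec (fun _ => (Cert rels S Gen.d)) lc_d_rc_17_2 lc_d_rc_15_1 lc_d_rc_17_2 lc_d_Cert_tree lc_d_rc_15_1 lc_d_Cert_tree lc_d_rc_15_1 lc_d_rc_15_1 lc_d_rc_15_1 lc_d_rc_15_1 lc_d_Cert_tree lc_d_rc_15_1 lc_d_Cert_tree lc_d_rc_15_1 lc_d_rc_17_2 lc_d_rc_16_4 lc_d_Cert_tree lc_d_rc_15_1 lc_d_rc_16_2 lc_d_rc_15_1 lc_d_rc_17_2 lc_d_Cert_tree lc_d_rc_15_1 lc_d_Cert_tree lc_d_Cert_tree lc_d_rc_15_1 lc_d_rc_16_2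 lc_d_Cert_tree lc_d_Cert_tree lc_d_Cert_tree lc_d_rc_15_1 lc_d_rc_15_1 lc_d_rc_12_9 lc_d_rc_23_6 lc_d_rc_16_4 lc_d_Cert_tree lc_d_rc_16_4 lc_d_rc_8_3 lc_d_Cert_tree lc_d_rc_8_3 lc_d_rc_15_1 lc_d_rc_17_2 lc_d_rc_24_5 lc_d_rc_3_1 lc_d_rc_8_3 lc_d_Cert_tree lc_d_Cert_tree lc_d_rc_15_1 lc_d_rc_17_2 lc_d_rc_15_1 lc_d_rc_15_1 lc_d_rc_16_2 lc_d_rc_23_2 lc_d_rc_16_2 lc_d_Cert_tree lc_d_Cert_tree lc_d_rc_15_1 lc_d_rc_16_4 lc_d_Cert_tree lc_d_rc_15_1 lc_d_Cert_tree lc_d_Cert_tree) (@D3.rec (fun _ => (Cert rels S Gen.d)) lc_d_Cert_tree lc_d_rc_15_1 lc_d_rc_27_4 lc_d_rc_17_2 lc_d_Cert_tree lc_d_Cert_tree lc_d_rc_15_1 lc_d_rc_27_8 lc_d_rc_15_1 lc_d_rc_3_3 lc_d_rc_15_1 lc_d_Cert_tree lc_d_rc_16_4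 lc_d_rc_17_2 lc_d_Cert_tree lc_d_rc_15_1 lc_d_rc_16_4 lc_d_rc_8_3 lc_d_rc_16_4 lc_d_rc_8_3 lc_d_Cert_tree lc_d_rc_15_1 lc_d_rc_15_1 lc_d_rc_17_2 lc_d_Cert_tree lc_d_rc_15_1 lc_d_Cert_tree lc_d_rc_15_1 lc_d_rc_17_2 lc_d_rc_15_1 lc_d_rc_27_4 lc_d_rc_17_2 lc_d_rc_23_4 lc_d_rc_8_3 lc_d_Cert_tree lc_d_rc_15_1 lc_d_rc_8_3 lc_d_rc_16_4 lc_d_Cert_tree lc_d_Cert_tree lc_d_Cert_tree lc_d_rc_15_1 lc_d_rc_16_2 lc_d_rc_16_4 lc_d_Cert_tree lc_d_rc_15_1 lc_d_rc_22_4 lc_d_rc_16_4 lc_d_Cert_tree lc_d_rc_15_1 lc_d_rc_22_2 lc_d_rc_15_1 lc_d_rc_16_2 lc_d_rc_17_2 lc_d_Cert_tree lc_d_Cert_tree lc_d_Cert_tree lc_d_rc_15_1 lc_d_rc_8_3 lc_d_rc_16_4 lc_d_rc_16_2 lc_d_Cert_tree) (@D3.rec (fun _ => (Cert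 rels S Gen.d)) lc_d_Cert_tree lc_d_rc_15_1 lc_d_rc_16_2 lc_d_rc_27_8 lc_d_Cert_tree lc_d_rc_15_1 lc_d_Cert_tree lc_d_rc_17_2 lc_d_Cert_tree lc_d_rc_15_1 lc_d_Cert_tree lc_d_Cert_tree lc_d_rc_16_4 lc_d_rc_3_3 lc_d_Cert_tree lc_d_rc_15_1 lc_d_Cert_tree lc_d_Cert_tree lc_d_rc_15_1 lc_d_Cert_tree lc_d_Cert_tree lc_d_Cert_tree lc_d_rc_15_1 lc_d_rc_15_1 lc_d_rc_17_2 lc_d_rc_23_6 lc_d_rc_15_1 lc_d_rc_22_8 lc_d_rc_16_4 lc_d_rc_17_2 lc_d_Cert_tree lc_d_Cert_tree lc_d_rc_16_4 lc_d_Cert_tree lc_d_Cert_tree lc_d_rc_15_1 lc_d_Cert_tree lc_d_rc_27_10 lc_d_rc_15_1 lc_d_rc_17_2 lc_d_Cert_tree lc_d_rc_16_2 lc_d_Cert_tree lc_d_rc_15_1 lc_d_Cert_tree lc_d_rc_3_1 lc_d_rc_15_1 lc_d_rc_3_1 lc_d_rc_23_4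 lc_d_rc_17_2 lc_d_rc_15_1 lc_d_Cert_tree lc_d_Cert_tree lc_d_rc_16_4 lc_d_rc_27_2 lc_d_Cert_tree lc_d_rc_15_1 lc_d_Cert_tree lc_d_rc_27_10 lc_d_rc_15_1 lc_d_rc_17_2 lc_d_rc_15_1) (@D3.rec (fun _ => (Cert rels S Gen.d)) lc_d_Cert_tree lc_d_Cert_tree lc_d_rc_15_1 lc_d_Cert_tree lc_d_Cert_tree lc_d_Cert_tree lc_d_Cert_tree lc_d_rc_15_1 lc_d_rc_8_1 lc_d_rc_23_6 lc_d_rc_12_3 lc_d_rc_16_4 lc_d_rc_17_2 lc_d_Cert_tree lc_d_rc_15_1 lc_d_rc_23_8 lc_d_Cert_tree lc_d_rc_15_1 lc_d_Cert_tree lc_d_rc_17_2 lc_d_rc_8_3 lc_d_rc_8_3 lc_d_Cert_tree lc_d_Cert_tree lc_d_rc_15_1 lc_d_rc_17_2 lc_d_rc_8_3 lc_d_Cert_tree lc_d_rc_25_6 lc_d_rc_23_8 lc_d_rc_15_1 lc_d_Cert_tree lc_d_Cert_tree lc_d_Cert_tree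 lc_d_rc_15_1 lc_d_rc_17_2 lc_d_Cert_tree lc_d_rc_15_1 lc_d_Cert_tree lc_d_rc_27_2 lc_d_rc_15_1 lc_d_rc_27_10 lc_d_rc_16_2 lc_d_rc_17_2 lc_d_rc_15_1 lc_d_rc_16_4 lc_d_rc_16_2 lc_d_rc_15_1 lc_d_rc_16_4 lc_d_Cert_tree lc_d_rc_15_1 lc_d_Cert_tree lc_d_rc_16_4 lc_d_rc_3_3 lc_d_rc_15_1 lc_d_rc_17_2 lc_d_rc_25_6 lc_d_rc_23_8 lc_d_rc_15_1 lc_d_rc_17_0 lc_d_rc_15_1 lc_d_rc_15_1) (@D3.rec (fun _ => (Cert rels S Gen.d)) lc_d_Cert_tree lc_d_rc_15_1 lc_d_rc_27_4 lc_d_Cert_tree lc_d_rc_15_1 lc_d_rc_15_1 lc_d_Cert_tree lc_d_rc_17_2 lc_d_Cert_tree lc_d_rc_15_1 lc_d_rc_12_1 lc_d_Cert_tree lc_d_rc_15_1 lc_d_Cert_tree lc_d_rc_15_1 lc_d_rc_8_1 lc_d_rc_25_10 lc_d_rc_24_5 lc_d_rc_3_3 lc_d_Cert_tree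 lc_d_Cert_tree lc_d_Cert_tree lc_d_rc_15_1 lc_d_rc_17_2 lc_d_Cert_tree lc_d_Cert_tree lc_d_rc_15_1 lc_d_Cert_tree lc_d_rc_15_1 lc_d_rc_27_8 lc_d_rc_15_1 lc_d_rc_27_2 lc_d_rc_17_2 lc_d_rc_16_4 lc_d_Cert_tree lc_d_rc_15_1 lc_d_Cert_tree lc_d_rc_15_1 lc_d_rc_16_0 lc_d_rc_17_2 lc_d_rc_15_1 lc_d_rc_24_5 lc_d_rc_3_3 lc_d_Cert_tree lc_d_Cert_tree lc_d_Cert_tree lc_d_rc_15_1 lc_d_rc_17_2 lc_d_Cert_tree lc_d_rc_15_1 lc_d_rc_27_4 lc_d_rc_27_4 lc_d_Cert_tree lc_d_rc_15_1 lc_d_rc_8_3 lc_d_rc_23_8 lc_d_rc_3_3 lc_d_Cert_tree lc_d_rc_15_1 lc_d_rc_17_2 lc_d_rc_8_3 lc_d_rc_15_1) (@D3.rec (fun _ => (Cert rels S Gen.d)) lc_d_rc_3_3 lc_d_rc_8_1 lc_d_Cert_tree lc_d_rc_15_1 lc_d_rc_17_2 lc_d_rc_3_3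 lc_d_rc_23_2 lc_d_Cert_tree lc_d_Cert_tree lc_d_rc_15_1 lc_d_Cert_tree lc_d_rc_8_3 lc_d_Cert_tree lc_d_Cert_tree lc_d_rc_15_1 lc_d_Cert_tree lc_d_rc_15_1 lc_d_rc_15_1 lc_d_rc_8_3 lc_d_Cert_tree lc_d_rc_16_4 lc_d_Cert_tree lc_d_Cert_tree lc_d_Cert_tree lc_d_rc_17_2 lc_d_Cert_tree lc_d_Cert_tree lc_d_rc_15_1 lc_d_Cert_tree lc_d_rc_15_1 lc_d_rc_27_4 lc_d_Cert_tree lc_d_Cert_tree lc_d_rc_15_1 lc_d_rc_15_1 lc_d_rc_8_3 lc_d_Cert_tree lc_d_Cert_tree lc_d_rc_15_1 lc_d_rc_17_2 lc_d_rc_8_3 lc_d_rc_8_3 lc_d_Cert_tree lc_d_rc_15_1 lc_d_rc_17_2 lc_d_rc_23_8 lc_d_rc_8_3 lc_d_rc_15_1 lc_d_Cert_tree lc_d_rc_15_1 lc_d_rc_22_2 lc_d_rc_27_4 lc_d_Cert_tree lc_d_rc_27_10 lc_d_Cert_tree lc_d_rc_16_4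 lc_d_rc_27_10 lc_d_rc_15_1 lc_d_rc_16_4 lc_d_rc_15_1 lc_d_rc_15_1 lc_d_rc_15_1) (@D3.rec (fun _ => (Cert rels S Gen.d)) lc_d_rc_16_4 lc_d_rc_15_1 lc_d_Cert_tree lc_d_rc_16_0 lc_d_rc_17_2 lc_d_rc_15_1 lc_d_rc_8_3 lc_d_rc_15_1 lc_d_Cert_tree lc_d_rc_15_1 lc_d_rc_17_2 lc_d_Cert_tree lc_d_Cert_tree lc_d_rc_15_1 lc_d_rc_17_0 lc_d_rc_8_3 lc_d_Cert_tree lc_d_Cert_tree lc_d_rc_15_1 lc_d_Cert_tree lc_d_rc_17_2 lc_d_Cert_tree lc_d_rc_15_1 lc_d_rc_15_1 lc_d_rc_27_10 lc_d_rc_17_2 lc_d_rc_27_10 lc_d_rc_15_1 lc_d_rc_15_1 lc_d_rc_16_4 lc_d_rc_27_8 lc_d_rc_3_1 lc_d_rc_27_10 lc_d_rc_15_1 lc_d_rc_15_1 lc_d_rc_15_1 lc_d_rc_15_1 lc_d_Cert_tree lc_d_rc_16_4 lc_d_rc_17_2 lc_d_rc_8_3 lc_d_rc_23_4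 lc_d_rc_3_1 lc_d_rc_15_1 lc_d_rc_17_2 lc_d_rc_16_4 lc_d_Cert_tree lc_d_Cert_tree lc_d_Cert_tree lc_d_rc_15_1 lc_d_Cert_tree lc_d_rc_15_1 lc_d_rc_25_6 lc_d_Cert_tree lc_d_rc_8_3 lc_d_Cert_tree lc_d_rc_15_1 lc_d_Cert_tree lc_d_Cert_tree lc_d_rc_15_1 lc_d_rc_22_2 lc_d_rc_17_2) (@D3.rec (fun _ => (Cert rels S Gen.d)) lc_d_rc_24_0 lc_d_rc_15_1 lc_d_rc_16_2 lc_d_rc_27_8 lc_d_rc_23_2 lc_d_rc_27_2 lc_d_rc_24_0 lc_d_Cert_tree lc_d_rc_16_4 lc_d_Cert_tree lc_d_Cert_tree lc_d_Cert_tree lc_d_rc_15_1 lc_d_rc_8_3 lc_d_rc_27_10 lc_d_rc_17_2 lc_d_rc_23_4 lc_d_rc_15_1 lc_d_rc_16_2 lc_d_Cert_tree lc_d_rc_15_1 lc_d_Cert_tree lc_d_rc_15_1 lc_d_rc_17_2 lc_d_rc_16_2 lc_d_rc_3_3 lc_d_Cert_tree lc_d_rc_15_1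 lc_d_Cert_tree lc_d_Cert_tree lc_d_rc_8_3 lc_d_rc_3_3 lc_d_rc_16_4 lc_d_Cert_tree lc_d_rc_15_1 lc_d_Cert_tree lc_d_rc_8_3 lc_d_rc_27_10 lc_d_rc_17_2 lc_d_rc_22_8 lc_d_rc_15_1 lc_d_Cert_tree lc_d_rc_8_1 lc_d_rc_15_1 lc_d_Cert_tree lc_d_rc_23_6 lc_d_rc_23_6 lc_d_rc_15_1 lc_d_rc_16_4 lc_d_rc_17_2 lc_d_rc_8_3 lc_d_rc_15_1 lc_d_Cert_tree lc_d_Cert_tree lc_d_rc_16_0 lc_d_rc_8_3 lc_d_Cert_tree lc_d_rc_15_1 lc_d_rc_27_2 lc_d_rc_27_4 lc_d_rc_3_3 lc_d_rc_17_2) (@D3.rec (fun _ => (Cert rels S Gen.d)) lc_d_rc_15_1 lc_d_rc_27_4 lc_d_Cert_tree lc_d_rc_25_2 lc_d_rc_24_0 lc_d_rc_27_4 lc_d_Cert_tree lc_d_rc_16_4 lc_d_rc_15_1 lc_d_rc_15_1 lc_d_Cert_tree lc_d_rc_15_1 lc_d_rc_23_2 lc_d_rc_16_2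 lc_d_rc_27_10 lc_d_rc_15_1 lc_d_Cert_tree lc_d_rc_15_1 lc_d_Cert_tree lc_d_Cert_tree lc_d_Cert_tree lc_d_rc_15_1 lc_d_Cert_tree lc_d_rc_17_2 lc_d_Cert_tree lc_d_rc_17_2 lc_d_rc_8_3 lc_d_rc_15_1 lc_d_Cert_tree lc_d_rc_15_1 lc_d_Cert_tree lc_d_Cert_tree lc_d_Cert_tree lc_d_rc_15_1 lc_d_rc_24_0 lc_d_rc_8_3 lc_d_Cert_tree lc_d_rc_16_4 lc_d_Cert_tree lc_d_rc_8_3 lc_d_Cert_tree lc_d_Cert_tree lc_d_Cert_tree lc_d_Cert_tree lc_d_rc_15_1 lc_d_Cert_tree lc_d_rc_17_2 lc_d_rc_3_3 lc_d_rc_27_4 lc_d_rc_17_2 lc_d_rc_16_2 lc_d_rc_24_0 lc_d_rc_15_1 lc_d_rc_8_3 lc_d_rc_27_4 lc_d_rc_17_2 lc_d_Cert_tree lc_d_Cert_tree lc_d_Cert_tree lc_d_Cert_tree lc_d_rc_15_1 lc_d_Cert_tree) (@D3.rec (fun _ =>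 (Cert rels S Gen.d)) lc_d_rc_15_1 lc_d_rc_15_1 lc_d_Cert_tree lc_d_Cert_tree lc_d_Cert_tree lc_d_rc_16_2 lc_d_Cert_tree lc_d_rc_15_1 lc_d_rc_22_2 lc_d_rc_16_4 lc_d_rc_24_0 lc_d_rc_15_1 lc_d_rc_16_2 lc_d_rc_15_1 lc_d_rc_15_1 lc_d_rc_15_1 lc_d_rc_16_2 lc_d_Cert_tree lc_d_rc_16_4 lc_d_Cert_tree lc_d_Cert_tree lc_d_Cert_tree lc_d_Cert_tree lc_d_rc_15_1 lc_d_Cert_tree lc_d_rc_3_3 lc_d_rc_15_1 lc_d_rc_17_2 lc_d_rc_23_6 lc_d_rc_15_1 lc_d_rc_16_2 lc_d_rc_15_1 lc_d_rc_15_1 lc_d_Cert_tree lc_d_rc_15_1 lc_d_Cert_tree lc_d_rc_27_4 lc_d_rc_22_4 lc_d_Cert_tree lc_d_rc_15_1 lc_d_Cert_tree lc_d_Cert_tree lc_d_rc_16_0 lc_d_rc_22_2 lc_d_rc_8_1 lc_d_Cert_tree lc_d_rc_15_1 lc_d_Cert_tree lc_d_rc_15_1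 lc_d_rc_17_2 lc_d_rc_8_1 lc_d_rc_15_1 lc_d_Cert_tree lc_d_rc_24_0 lc_d_Cert_tree lc_d_Cert_tree lc_d_Cert_tree lc_d_Cert_tree lc_d_rc_15_1 lc_d_rc_17_2 lc_d_rc_23_6 lc_d_rc_23_6) (@D3.rec (fun _ => (Cert rels S Gen.d)) lc_d_rc_22_8 lc_d_rc_16_4 lc_d_rc_17_2 lc_d_Cert_tree lc_d_Cert_tree lc_d_Cert_tree lc_d_Cert_tree lc_d_rc_15_1 lc_d_Cert_tree lc_d_rc_15_1 lc_d_rc_17_2 lc_d_rc_23_6 lc_d_rc_23_8 lc_d_Cert_tree lc_d_rc_15_1 lc_d_Cert_tree lc_d_rc_15_1 lc_d_rc_15_1 lc_d_rc_3_3 lc_d_rc_16_4 lc_d_rc_15_1 lc_d_Cert_tree lc_d_Cert_tree lc_d_rc_15_1 lc_d_rc_8_3 lc_d_Cert_tree lc_d_rc_15_1 lc_d_rc_8_3 lc_d_rc_17_2 lc_d_rc_17_2 lc_d_rc_8_3 lc_d_Cert_tree lc_d_rc_3_3 lc_d_rc_24_0 lc_d_rc_17_2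 lc_d_rc_15_1 lc_d_rc_17_0 lc_d_rc_3_3 lc_d_Cert_tree lc_d_rc_16_4 lc_d_Cert_tree lc_d_rc_23_8 lc_d_rc_15_1 lc_d_rc_17_2 lc_d_rc_15_1 lc_d_Cert_tree lc_d_rc_15_1 lc_d_Cert_tree lc_d_rc_15_1 lc_d_rc_27_2 lc_d_rc_15_1 lc_d_rc_8_3 lc_d_rc_16_4 lc_d_rc_22_4 lc_d_rc_16_4 lc_d_rc_23_2 lc_d_rc_23_2 lc_d_rc_15_1 lc_d_rc_27_4 lc_d_rc_8_3 lc_d_rc_17_2 lc_d_Cert_tree) (@D3.rec (fun _ => (Cert rels S Gen.d)) lc_d_Cert_tree lc_d_rc_15_1 lc_d_rc_16_2 lc_d_rc_15_1 lc_d_rc_16_4 lc_d_rc_24_0 lc_d_rc_8_1 lc_d_rc_16_4 lc_d_Cert_tree lc_d_rc_15_1 lc_d_rc_16_4 lc_d_Cert_tree lc_d_rc_15_1 lc_d_Cert_tree lc_d_rc_27_10 lc_d_rc_15_1 lc_d_rc_17_2 lc_d_Cert_tree lc_d_rc_15_1 lc_d_Cert_tree lc_d_rc_16_4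 lc_d_rc_15_1 lc_d_rc_22_2 lc_d_rc_15_1 lc_d_rc_24_5 lc_d_Cert_tree lc_d_rc_15_1 lc_d_rc_23_6 lc_d_rc_25_6 lc_d_rc_17_2 lc_d_rc_8_3 lc_d_rc_15_1 lc_d_rc_17_2 lc_d_rc_23_6 lc_d_rc_23_6 lc_d_rc_22_6 lc_d_rc_16_4 lc_d_rc_17_2 lc_d_Cert_tree lc_d_rc_15_1 lc_d_rc_16_2 lc_d_rc_27_10 lc_d_rc_16_2 lc_d_rc_16_4 lc_d_Cert_tree lc_d_rc_15_1 lc_d_rc_16_4 lc_d_rc_23_2 lc_d_rc_16_2 lc_d_rc_23_8 lc_d_rc_3_1 lc_d_rc_16_4 lc_d_Cert_tree lc_d_rc_15_1 lc_d_rc_22_4 lc_d_rc_16_4 lc_d_Cert_tree lc_d_rc_15_1 lc_d_rc_22_6 lc_d_rc_3_3 lc_d_rc_17_2 lc_d_Cert_tree) (@D3.rec (fun _ => (Cert rels S Gen.d)) lc_d_rc_15_1 lc_d_rc_8_3 lc_d_rc_27_10 lc_d_rc_15_1 lc_d_rc_17_2 lc_d_Cert_tree lc_d_rc_15_1 lc_d_Cert_tree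 lc_d_Cert_tree lc_d_rc_15_1 lc_d_Cert_tree lc_d_Cert_tree lc_d_Cert_tree lc_d_rc_23_6 lc_d_rc_15_1 lc_d_rc_17_2 lc_d_rc_23_6 lc_d_rc_23_6 lc_d_rc_3_1 lc_d_rc_16_4 lc_d_rc_17_2 lc_d_Cert_tree lc_d_rc_23_8 lc_d_rc_16_2 lc_d_rc_15_1 lc_d_rc_16_2 lc_d_rc_15_1 lc_d_Cert_tree lc_d_rc_15_1 lc_d_Cert_tree lc_d_rc_15_1 lc_d_rc_17_2 lc_d_Cert_tree lc_d_rc_15_1 lc_d_Cert_tree lc_d_rc_27_10 lc_d_rc_17_2 lc_d_rc_15_1 lc_d_Cert_tree lc_d_rc_15_1 lc_d_Cert_tree lc_d_rc_16_4 lc_d_rc_8_3 lc_d_Cert_tree lc_d_rc_15_1 lc_d_Cert_tree lc_d_rc_27_10 lc_d_rc_17_2 lc_d_Cert_tree lc_d_rc_15_1 lc_d_Cert_tree lc_d_rc_22_2 lc_d_rc_15_1 lc_d_Cert_tree lc_d_Cert_tree lc_d_Cert_tree lc_d_Cert_tree lc_d_rc_15_1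 lc_d_rc_8_3 lc_d_rc_23_4 lc_d_rc_23_6 lc_d_rc_16_4) (@D3.rec (fun _ => (Cert rels S Gen.d)) lc_d_rc_16_2 lc_d_rc_22_2 lc_d_Cert_tree lc_d_rc_15_1 lc_d_Cert_tree lc_d_rc_27_10 lc_d_rc_15_1 lc_d_rc_17_2 lc_d_rc_16_4 lc_d_rc_8_1 lc_d_rc_16_4 lc_d_rc_15_1 lc_d_rc_8_3 lc_d_Cert_tree lc_d_Cert_tree lc_d_rc_15_1 lc_d_rc_17_2 lc_d_Cert_tree lc_d_rc_15_1 lc_d_rc_22_2 lc_d_rc_15_1 lc_d_rc_15_1 lc_d_rc_17_2 lc_d_Cert_tree lc_d_rc_15_1 lc_d_rc_22_2 lc_d_Cert_tree lc_d_rc_15_1 lc_d_rc_22_6 lc_d_Cert_tree lc_d_rc_15_1 lc_d_rc_22_2 lc_d_Cert_tree lc_d_Cert_tree lc_d_Cert_tree lc_d_rc_15_1 lc_d_Cert_tree lc_d_rc_23_6 lc_d_rc_24_0 lc_d_Cert_tree lc_d_Cert_tree lc_d_Cert_tree lc_d_rc_15_1 lc_d_rc_17_2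 lc_d_Cert_tree lc_d_rc_15_1 lc_d_Cert_tree lc_d_rc_16_2 lc_d_rc_27_10 lc_d_Cert_tree lc_d_rc_17_2 lc_d_Cert_tree lc_d_rc_8_1 lc_d_rc_15_1 lc_d_rc_16_4 lc_d_rc_22_4 lc_d_rc_16_2 lc_d_rc_15_1 lc_d_rc_16_2 lc_d_rc_16_4 lc_d_rc_16_4 lc_d_Cert_tree) (@D3.rec (fun _ => (Cert rels S Gen.d)) lc_d_rc_15_1 lc_d_Cert_tree lc_d_Cert_tree lc_d_rc_15_1 lc_d_rc_17_2 lc_d_rc_15_1 lc_d_rc_16_2 lc_d_rc_15_1 lc_d_Cert_tree lc_d_rc_16_4 lc_d_rc_15_1 lc_d_rc_15_1 lc_d_rc_17_2 lc_d_rc_15_1 lc_d_Cert_tree lc_d_Cert_tree lc_d_Cert_tree lc_d_rc_15_1 lc_d_Cert_tree lc_d_Cert_tree lc_d_Cert_tree lc_d_Cert_tree lc_d_rc_15_1 lc_d_rc_17_2 lc_d_Cert_tree lc_d_Cert_tree lc_d_rc_15_1 lc_d_rc_15_1 lc_d_Cert_tree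 lc_d_rc_17_2 lc_d_Cert_tree lc_d_rc_15_1 lc_d_Cert_tree lc_d_rc_15_1 lc_d_Cert_tree lc_d_Cert_tree lc_d_rc_16_0 lc_d_rc_8_3 lc_d_rc_24_5 lc_d_rc_8_3 lc_d_rc_25_2 lc_d_rc_22_8 lc_d_Cert_tree lc_d_rc_15_1 lc_d_Cert_tree lc_d_rc_23_6 lc_d_rc_15_1 lc_d_Cert_tree lc_d_Cert_tree lc_d_Cert_tree lc_d_rc_15_1 lc_d_rc_17_2 lc_d_rc_23_6 lc_d_Cert_tree lc_d_rc_15_1 lc_d_Cert_tree lc_d_rc_27_2 lc_d_Cert_tree lc_d_rc_16_4 lc_d_rc_8_1 lc_d_rc_15_1 lc_d_Cert_tree) (@D3.rec (fun _ => (Cert rels S Gen.d)) lc_d_rc_27_10 lc_d_rc_15_1 lc_d_rc_15_1 lc_d_rc_17_2 lc_d_rc_27_2 lc_d_rc_22_4 lc_d_Cert_tree lc_d_rc_15_1 lc_d_rc_8_1 lc_d_rc_27_4 lc_d_Cert_tree lc_d_Cert_tree lc_d_rc_15_1 lc_d_rc_23_6 lc_d_Cert_tree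 lc_d_rc_27_4 lc_d_Cert_tree lc_d_rc_15_1 lc_d_rc_15_1 lc_d_rc_17_2 lc_d_Cert_tree lc_d_Cert_tree lc_d_Cert_tree lc_d_Cert_tree lc_d_rc_15_1 lc_d_Cert_tree lc_d_rc_27_4 lc_d_rc_23_6 lc_d_rc_23_6 lc_d_Cert_tree lc_d_rc_15_1 lc_d_rc_17_2 lc_d_Cert_tree lc_d_Cert_tree lc_d_Cert_tree lc_d_rc_15_1 lc_d_Cert_tree lc_d_Cert_tree lc_d_rc_15_1 lc_d_rc_17_2 lc_d_Cert_tree lc_d_Cert_tree lc_d_Cert_tree lc_d_rc_15_1 lc_d_Cert_tree lc_d_Cert_tree lc_d_rc_15_1 lc_d_rc_15_1 lc_d_rc_3_3 lc_d_rc_8_3 lc_d_rc_16_0 lc_d_rc_16_4 lc_d_rc_17_2 lc_d_rc_16_2 lc_d_rc_15_1 lc_d_Cert_tree lc_d_rc_8_3 lc_d_Cert_tree lc_d_rc_8_3 lc_d_Cert_tree lc_d_Cert_tree lc_d_Cert_tree) (@D3.rec (fun _ => (Cert rels S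 Gen.d)) lc_d_rc_17_2 lc_d_Cert_tree lc_d_Cert_tree lc_d_Cert_tree lc_d_rc_15_1 lc_d_Cert_tree lc_d_rc_15_1 lc_d_rc_15_1 lc_d_Cert_tree lc_d_Cert_tree lc_d_rc_15_1 lc_d_rc_27_4 lc_d_rc_8_3 lc_d_Cert_tree lc_d_Cert_tree lc_d_Cert_tree lc_d_rc_15_1 lc_d_Cert_tree lc_d_rc_27_10 lc_d_rc_15_1 lc_d_rc_17_2 lc_d_Cert_tree lc_d_rc_16_4 lc_d_rc_24_0 lc_d_rc_16_4 lc_d_rc_15_1 lc_d_Cert_tree lc_d_rc_27_10 lc_d_rc_15_1 lc_d_rc_17_2 lc_d_Cert_tree lc_d_rc_15_1 lc_d_Cert_tree lc_d_Cert_tree lc_d_rc_17_2 lc_d_Cert_tree lc_d_rc_15_1 lc_d_Cert_tree lc_d_rc_3_3 lc_d_rc_17_2 lc_d_Cert_tree lc_d_rc_15_1 lc_d_Cert_tree lc_d_Cert_tree lc_d_rc_15_1 lc_d_Cert_tree lc_d_rc_25_6 lc_d_Cert_tree lc_d_rc_23_6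 lc_d_rc_15_1 lc_d_rc_24_5 lc_d_rc_15_1 lc_d_rc_24_0 lc_d_Cert_tree lc_d_Cert_tree lc_d_Cert_tree lc_d_rc_15_1 lc_d_rc_17_2 lc_d_rc_27_4 lc_d_Cert_tree lc_d_Cert_tree lc_d_rc_16_4) (@D3.rec (fun _ => (Cert rels S Gen.d)) lc_d_rc_15_1 lc_d_rc_23_8 lc_d_rc_3_1 lc_d_rc_8_3 lc_d_rc_23_2 lc_d_Cert_tree lc_d_rc_15_1 lc_d_Cert_tree lc_d_Cert_tree lc_d_rc_23_2 lc_d_Cert_tree lc_d_rc_16_4 lc_d_Cert_tree lc_d_rc_15_1 lc_d_Cert_tree lc_d_rc_8_1 lc_d_rc_15_1 lc_d_Cert_tree lc_d_Cert_tree lc_d_rc_15_1 lc_d_rc_24_5 lc_d_rc_8_1 lc_d_rc_15_1 lc_d_Cert_tree lc_d_rc_3_3 lc_d_rc_23_8 lc_d_Cert_tree lc_d_rc_15_1 lc_d_rc_23_6 lc_d_rc_8_3 lc_d_rc_22_6 lc_d_Cert_tree lc_d_Cert_tree lc_d_rc_15_1 lc_d_rc_8_3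 lc_d_Cert_tree lc_d_Cert_tree lc_d_Cert_tree lc_d_Cert_tree lc_d_rc_17_2 lc_d_rc_8_3 lc_d_rc_8_1 lc_d_rc_8_3 lc_d_Cert_tree lc_d_rc_15_1 lc_d_rc_8_3 lc_d_rc_27_10 lc_d_rc_15_1 lc_d_rc_23_2 lc_d_Cert_tree lc_d_rc_15_1 lc_d_rc_17_2 lc_d_rc_8_3 lc_d_rc_15_1 lc_d_rc_3_3 lc_d_Cert_tree lc_d_rc_15_1 lc_d_Cert_tree lc_d_rc_16_4 lc_d_rc_16_0 lc_d_rc_15_1 lc_d_rc_15_1) (@D3.rec (fun _ => (Cert rels S Gen.d)) lc_d_Cert_tree lc_d_rc_8_3 lc_d_rc_15_1 lc_d_rc_22_6 lc_d_Cert_tree lc_d_rc_15_1 lc_d_Cert_tree lc_d_rc_23_8 lc_d_rc_15_1 lc_d_Cert_tree lc_d_Cert_tree lc_d_Cert_tree lc_d_rc_15_1 lc_d_rc_17_2 lc_d_Cert_tree lc_d_Cert_tree lc_d_rc_15_1 lc_d_rc_27_4 lc_d_Cert_tree lc_d_rc_27_2 lc_d_Cert_tree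 lc_d_rc_22_8 lc_d_rc_16_4 lc_d_rc_24_0 lc_d_rc_25_6 lc_d_rc_15_1 lc_d_rc_27_8 lc_d_rc_15_1 lc_d_rc_23_8 lc_d_Cert_tree lc_d_rc_15_1 lc_d_rc_8_1 lc_d_rc_15_1 lc_d_Cert_tree lc_d_rc_27_10 lc_d_rc_17_2 lc_d_rc_8_3 lc_d_rc_12_7 lc_d_Cert_tree lc_d_rc_15_1 lc_d_rc_23_8 lc_d_rc_8_3 lc_d_rc_15_1 lc_d_rc_23_4 lc_d_rc_12_15 lc_d_rc_22_6 lc_d_Cert_tree lc_d_rc_15_1 lc_d_rc_23_8 lc_d_rc_15_1 lc_d_rc_17_2 lc_d_Cert_tree lc_d_rc_27_8 lc_d_rc_27_2 lc_d_Cert_tree lc_d_rc_8_1 lc_d_Cert_tree lc_d_rc_27_4 lc_d_Cert_tree lc_d_rc_8_3 lc_d_rc_22_8 lc_d_rc_27_2) (@D3.rec (fun _ => (Cert rels S Gen.d)) lc_d_rc_8_3 lc_d_rc_25_6 lc_d_rc_22_8 lc_d_rc_25_6 lc_d_rc_17_2 lc_d_rc_15_1 lc_d_rc_16_4 lc_d_rc_17_2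 lc_d_Cert_tree lc_d_rc_15_1 lc_d_rc_27_4 lc_d_rc_17_2 lc_d_rc_23_8 lc_d_Cert_tree lc_d_rc_15_1 lc_d_Cert_tree lc_d_Cert_tree lc_d_Cert_tree lc_d_rc_15_1 lc_d_Cert_tree lc_d_rc_17_2 lc_d_rc_3_3 lc_d_Cert_tree lc_d_rc_23_2 lc_d_rc_17_2 lc_d_rc_23_4 lc_d_rc_16_0 lc_d_rc_23_6 lc_d_Cert_tree lc_d_Cert_tree lc_d_rc_15_1 lc_d_Cert_tree lc_d_Cert_tree lc_d_Cert_tree lc_d_rc_16_2 lc_d_Cert_tree lc_d_rc_23_2 lc_d_Cert_tree lc_d_rc_27_4 lc_d_Cert_tree lc_d_Cert_tree lc_d_rc_15_1 lc_d_Cert_tree lc_d_rc_23_8 lc_d_rc_16_0 lc_d_Cert_tree lc_d_Cert_tree lc_d_rc_15_1 lc_d_Cert_tree lc_d_rc_15_1 lc_d_rc_8_1 lc_d_rc_8_1 lc_d_rc_15_1 lc_d_rc_22_4 lc_d_rc_27_4 lc_d_rc_24_0 lc_d_rc_15_1 lc_d_rc_15_1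 lc_d_rc_16_4 lc_d_rc_16_4 lc_d_rc_16_4 lc_d_Cert_tree) (@D3.rec (fun _ => (Cert rels S Gen.d)) lc_d_rc_15_1 lc_d_Cert_tree lc_d_Cert_tree lc_d_Cert_tree lc_d_rc_15_1 lc_d_rc_8_3 lc_d_rc_27_10 lc_d_rc_15_1 lc_d_rc_17_2 lc_d_rc_16_4 lc_d_Cert_tree lc_d_rc_15_1 lc_d_Cert_tree lc_d_Cert_tree lc_d_rc_15_1 lc_d_rc_27_8 lc_d_rc_15_1 lc_d_rc_15_1 lc_d_Cert_tree lc_d_rc_15_1 lc_d_Cert_tree lc_d_rc_17_2 lc_d_rc_17_2 lc_d_Cert_tree lc_d_rc_15_1 lc_d_Cert_tree lc_d_Cert_tree lc_d_rc_15_1 lc_d_rc_23_2 lc_d_rc_16_0 lc_d_Cert_tree lc_d_rc_15_1 lc_d_rc_23_6 lc_d_rc_22_4 lc_d_rc_22_8 lc_d_rc_16_2 lc_d_rc_15_1 lc_d_rc_15_1 lc_d_Cert_tree lc_d_Cert_tree lc_d_rc_15_1 lc_d_rc_27_10 lc_d_rc_8_3 lc_d_rc_15_1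 lc_d_rc_16_4 lc_d_rc_15_1 lc_d_Cert_tree lc_d_rc_15_1 lc_d_Cert_tree lc_d_Cert_tree lc_d_Cert_tree lc_d_rc_17_2 lc_d_rc_15_1 lc_d_rc_24_5 lc_d_rc_22_2 lc_d_rc_22_8 lc_d_rc_16_4 lc_d_rc_16_2 lc_d_rc_15_1 lc_d_Cert_tree lc_d_rc_27_4 lc_d_rc_15_1) (@D3.rec (fun _ => (Cert rels S Gen.d)) lc_d_rc_8_1 lc_d_rc_8_3 lc_d_rc_3_3 lc_d_rc_17_2 lc_d_rc_16_4 lc_d_rc_23_2 lc_d_rc_16_4 lc_d_Cert_tree lc_d_rc_15_1 lc_d_Cert_tree lc_d_rc_17_2 lc_d_rc_15_1 lc_d_rc_22_2 lc_d_rc_15_1 lc_d_rc_15_1 lc_d_rc_15_1 lc_d_rc_15_1 lc_d_Cert_tree lc_d_rc_16_4 lc_d_rc_12_3 lc_d_rc_15_1 lc_d_rc_22_8 lc_d_Cert_tree lc_d_rc_17_2 lc_d_Cert_tree lc_d_rc_15_1 lc_d_Cert_tree lc_d_rc_8_1 lc_d_rc_15_1 lc_d_Cert_tree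 lc_d_rc_23_2 lc_d_rc_24_0 lc_d_Cert_tree lc_d_rc_15_1 lc_d_rc_23_6 lc_d_rc_22_6 lc_d_rc_15_1 lc_d_rc_8_3 lc_d_rc_15_1 lc_d_rc_8_3 lc_d_rc_8_3 lc_d_Cert_tree lc_d_rc_27_2 lc_d_rc_27_2 lc_d_rc_3_3 lc_d_Cert_tree lc_d_Cert_tree lc_d_rc_15_1 lc_d_rc_8_3 lc_d_rc_24_0 lc_d_rc_17_0 lc_d_rc_27_8 lc_d_rc_3_1 lc_d_Cert_tree lc_d_rc_15_1 lc_d_rc_17_2 lc_d_rc_15_1 lc_d_rc_27_4 lc_d_rc_15_1 lc_d_rc_15_1 lc_d_rc_24_0 lc_d_Cert_tree) (@D3.rec (fun _ => (Cert rels S Gen.d)) lc_d_rc_16_4 lc_d_rc_17_2 lc_d_rc_8_3 lc_d_rc_23_4 lc_d_rc_16_2 lc_d_rc_15_1 lc_d_rc_17_2 lc_d_rc_16_4 lc_d_rc_15_1 lc_d_rc_15_1 lc_d_rc_16_2 lc_d_rc_16_2 lc_d_Cert_tree lc_d_rc_15_1 lc_d_rc_16_4 lc_d_rc_17_2 lc_d_rc_15_1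 lc_d_rc_16_2 lc_d_rc_16_4 lc_d_Cert_tree lc_d_rc_15_1 lc_d_rc_16_4 lc_d_rc_16_2 lc_d_rc_16_4 lc_d_Cert_tree lc_d_rc_15_1 lc_d_rc_16_4 lc_d_rc_8_3 lc_d_rc_16_4 lc_d_Cert_tree lc_d_rc_15_1 lc_d_rc_17_2 lc_d_rc_23_2 lc_d_rc_16_2 lc_d_rc_16_4 lc_d_rc_16_0 lc_d_rc_15_1 lc_d_rc_8_3 lc_d_rc_27_10 lc_d_rc_15_1 lc_d_rc_17_2 lc_d_rc_16_2 lc_d_rc_15_1 lc_d_rc_16_2 lc_d_Cert_tree lc_d_rc_15_1 lc_d_rc_17_0 lc_d_rc_15_1 lc_d_rc_17_2 lc_d_Cert_tree lc_d_rc_15_1 lc_d_Cert_tree lc_d_Cert_tree lc_d_Cert_tree lc_d_rc_15_1 lc_d_rc_8_1 lc_d_rc_8_1 lc_d_Cert_tree lc_d_rc_15_1 lc_d_Cert_tree lc_d_rc_23_6 lc_d_Cert_tree) (@D3.rec (fun _ => (Cert rels S Gen.d)) lc_d_rc_15_1 lc_d_rc_17_2 lc_d_Cert_tree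 lc_d_rc_15_1 lc_d_Cert_tree lc_d_Cert_tree lc_d_Cert_tree lc_d_Cert_tree lc_d_rc_15_1 lc_d_rc_17_2 lc_d_rc_23_6 lc_d_rc_22_8 lc_d_rc_16_4 lc_d_rc_17_2 lc_d_rc_8_3 lc_d_Cert_tree lc_d_Cert_tree lc_d_Cert_tree lc_d_rc_15_1 lc_d_Cert_tree lc_d_rc_27_10 lc_d_rc_15_1 lc_d_rc_17_2 lc_d_Cert_tree lc_d_rc_15_1 lc_d_Cert_tree lc_d_Cert_tree lc_d_rc_16_0 lc_d_rc_15_1 lc_d_Cert_tree lc_d_Cert_tree lc_d_Cert_tree lc_d_rc_15_1 lc_d_rc_8_3 lc_d_rc_16_4 lc_d_Cert_tree lc_d_rc_15_1 lc_d_rc_8_3 lc_d_rc_15_1 lc_d_Cert_tree lc_d_Cert_tree lc_d_rc_15_1 lc_d_rc_17_2 lc_d_rc_15_1 lc_d_rc_16_2 lc_d_rc_27_10 lc_d_rc_15_1 lc_d_rc_16_4 lc_d_rc_17_2 lc_d_rc_8_1 lc_d_rc_15_1 lc_d_Cert_tree lc_d_rc_15_1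 lc_d_Cert_tree lc_d_Cert_tree lc_d_rc_16_4 lc_d_rc_27_4 lc_d_rc_8_3 lc_d_rc_8_3 lc_d_rc_3_3 lc_d_Cert_tree lc_d_Cert_tree) (@D3.rec (fun _ => (Cert rels S Gen.d)) lc_d_Cert_tree lc_d_rc_15_1 lc_d_rc_17_2 lc_d_rc_27_2 lc_d_rc_15_1 lc_d_rc_15_1 lc_d_rc_27_8 lc_d_rc_15_1 lc_d_Cert_tree lc_d_rc_17_2 lc_d_Cert_tree lc_d_Cert_tree lc_d_rc_15_1 lc_d_rc_17_2 lc_d_rc_27_4 lc_d_rc_8_3 lc_d_rc_3_3 lc_d_rc_17_2 lc_d_Cert_tree lc_d_Cert_tree lc_d_rc_15_1 lc_d_Cert_tree lc_d_rc_8_3 lc_d_Cert_tree lc_d_Cert_tree lc_d_rc_15_1 lc_d_Cert_tree lc_d_rc_15_1 lc_d_rc_24_0 lc_d_rc_8_3 lc_d_rc_16_2 lc_d_Cert_tree lc_d_rc_25_18 lc_d_Cert_tree lc_d_rc_17_2 lc_d_rc_15_1 lc_d_rc_15_1 lc_d_rc_27_4 lc_d_rc_15_1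 lc_d_rc_27_4 lc_d_Cert_tree lc_d_rc_15_1 lc_d_Cert_tree lc_d_rc_27_10 lc_d_rc_15_1 lc_d_rc_17_2 lc_d_Cert_tree lc_d_rc_15_1 lc_d_Cert_tree lc_d_rc_15_1 lc_d_rc_16_4 lc_d_rc_15_1 lc_d_Cert_tree lc_d_rc_15_1 lc_d_Cert_tree lc_d_Cert_tree lc_d_rc_15_1 lc_d_Cert_tree lc_d_Cert_tree lc_d_Cert_tree lc_d_Cert_tree lc_d_rc_15_1) (@D3.rec (fun _ => (Cert rels S Gen.d)) lc_d_rc_17_2 lc_d_rc_23_6 lc_d_rc_23_6 lc_d_rc_22_8 lc_d_rc_17_2 lc_d_Cert_tree lc_d_rc_15_1 lc_d_rc_8_1 lc_d_Cert_tree lc_d_rc_15_1 lc_d_rc_16_4 lc_d_Cert_tree lc_d_rc_15_1 lc_d_Cert_tree lc_d_rc_16_0 lc_d_rc_15_1 lc_d_rc_23_2 lc_d_rc_15_1 lc_d_rc_17_2 lc_d_Cert_tree lc_d_rc_15_1 lc_d_Cert_tree lc_d_rc_27_2 lc_d_rc_15_1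 lc_d_rc_17_0 lc_d_Cert_tree lc_d_Cert_tree lc_d_rc_15_1 lc_d_rc_15_1 lc_d_rc_8_3 lc_d_rc_23_6 lc_d_rc_23_6 lc_d_rc_16_4 lc_d_Cert_tree lc_d_rc_16_2 lc_d_rc_22_4 lc_d_Cert_tree lc_d_rc_15_1 lc_d_rc_16_2 lc_d_rc_15_1 lc_d_rc_17_2 lc_d_Cert_tree lc_d_rc_15_1 lc_d_rc_16_2 lc_d_rc_27_10 lc_d_rc_17_2 lc_d_rc_23_2 lc_d_rc_12_15 lc_d_Cert_tree lc_d_rc_15_1 lc_d_rc_27_4 lc_d_rc_16_0 lc_d_rc_15_1 lc_d_Cert_tree lc_d_rc_15_1 lc_d_Cert_tree lc_d_rc_15_1 lc_d_rc_17_2 lc_d_Cert_tree lc_d_rc_15_1 lc_d_rc_23_2 lc_d_Cert_tree) (@D3.rec (fun _ => (Cert rels S Gen.d)) lc_d_rc_15_1 lc_d_Cert_tree lc_d_Cert_tree lc_d_Cert_tree lc_d_Cert_tree lc_d_rc_15_1 lc_d_rc_8_3 lc_d_rc_23_6 lc_d_rc_15_1 lc_d_rc_16_4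 lc_d_rc_17_2 lc_d_Cert_tree lc_d_rc_15_1 lc_d_rc_27_2 lc_d_rc_16_0 lc_d_rc_15_1 lc_d_rc_17_2 lc_d_Cert_tree lc_d_rc_15_1 lc_d_Cert_tree lc_d_Cert_tree lc_d_rc_15_1 lc_d_rc_27_2 lc_d_Cert_tree lc_d_rc_15_1 lc_d_Cert_tree lc_d_Cert_tree lc_d_Cert_tree lc_d_Cert_tree lc_d_rc_15_1 lc_d_Cert_tree lc_d_rc_23_2 lc_d_rc_15_1 lc_d_rc_22_2 lc_d_rc_23_8 lc_d_rc_15_1 lc_d_rc_15_1 lc_d_rc_16_0 lc_d_rc_23_2 lc_d_rc_15_1 lc_d_rc_16_2 lc_d_rc_15_1 lc_d_rc_17_0 lc_d_rc_17_2 lc_d_rc_17_2 lc_d_rc_15_1 lc_d_rc_16_2 lc_d_rc_8_3 lc_d_Cert_tree lc_d_rc_15_1 lc_d_Cert_tree lc_d_rc_16_0 lc_d_rc_15_1 lc_d_rc_17_2 lc_d_rc_8_3 lc_d_rc_24_0 lc_d_rc_16_0 lc_d_rc_17_2 lc_d_Cert_tree lc_d_Cert_tree lc_d_Cert_tree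 lc_d_rc_15_1) (@D3.rec (fun _ => (Cert rels S Gen.d)) lc_d_Cert_tree lc_d_rc_22_4 lc_d_rc_22_8 lc_d_rc_22_2 lc_d_rc_15_1 lc_d_rc_24_0 lc_d_Cert_tree lc_d_rc_16_2 lc_d_rc_22_2 lc_d_rc_8_3 lc_d_Cert_tree lc_d_rc_15_1 lc_d_rc_25_2 lc_d_rc_3_3 lc_d_Cert_tree lc_d_rc_15_1 lc_d_Cert_tree lc_d_rc_23_6 lc_d_rc_23_4 lc_d_rc_24_5 lc_d_Cert_tree lc_d_rc_23_2 lc_d_rc_15_1 lc_d_rc_27_2 lc_d_Cert_tree lc_d_rc_15_1 lc_d_rc_24_0 lc_d_rc_15_1 lc_d_rc_27_2 lc_d_rc_23_4 lc_d_Cert_tree lc_d_rc_15_1 lc_d_Cert_tree lc_d_rc_15_1 lc_d_rc_27_10 lc_d_rc_17_2 lc_d_rc_17_2 lc_d_rc_24_0 lc_d_Cert_tree lc_d_rc_15_1 lc_d_Cert_tree lc_d_Cert_tree lc_d_Cert_tree lc_d_Cert_tree lc_d_rc_15_1 lc_d_rc_17_2 lc_d_Cert_tree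 lc_d_rc_27_2 lc_d_Cert_tree lc_d_Cert_tree lc_d_rc_17_2 lc_d_Cert_tree lc_d_Cert_tree lc_d_Cert_tree lc_d_Cert_tree lc_d_rc_15_1 lc_d_Cert_tree lc_d_rc_23_4 lc_d_rc_27_4 lc_d_rc_23_2 lc_d_rc_24_0 lc_d_rc_15_1) (@D3.rec (fun _ => (Cert rels S Gen.d)) lc_d_rc_27_2 lc_d_Cert_tree lc_d_Cert_tree lc_d_Cert_tree lc_d_Cert_tree lc_d_rc_15_1 lc_d_Cert_tree lc_d_rc_16_4 lc_d_rc_22_4 lc_d_rc_15_1 lc_d_rc_17_2 lc_d_rc_3_3 lc_d_rc_3_1 lc_d_Cert_tree lc_d_rc_15_1 lc_d_rc_15_1 lc_d_rc_8_3 lc_d_rc_15_1 lc_d_rc_22_6 lc_d_rc_16_4 lc_d_rc_8_3 lc_d_rc_17_0 lc_d_rc_15_1 lc_d_rc_22_4 lc_d_rc_8_3 lc_d_Cert_tree lc_d_Cert_tree lc_d_Cert_tree lc_d_rc_17_2 lc_d_Cert_tree lc_d_rc_15_1 lc_d_rc_15_1 lc_d_rc_15_1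 lc_d_Cert_tree lc_d_rc_15_1 lc_d_rc_15_1 lc_d_Cert_tree lc_d_Cert_tree lc_d_rc_15_1 lc_d_rc_27_4 lc_d_rc_16_4 lc_d_rc_24_0 lc_d_rc_15_1 lc_d_Cert_tree lc_d_rc_15_1 lc_d_rc_8_3 lc_d_Cert_tree lc_d_rc_27_10 lc_d_rc_15_1 lc_d_rc_17_2 lc_d_rc_22_2 lc_d_rc_8_1 lc_d_rc_15_1 lc_d_Cert_tree lc_d_Cert_tree lc_d_rc_15_1 lc_d_rc_17_2 lc_d_rc_23_6 lc_d_rc_3_3 lc_d_rc_15_1 lc_d_rc_16_4 lc_d_rc_15_1) (@D3.rec (fun _ => (Cert rels S Gen.d)) lc_d_rc_17_2 lc_d_rc_8_3 lc_d_rc_27_2 lc_d_rc_24_5 lc_d_rc_17_2 lc_d_rc_3_1 lc_d_rc_23_2 lc_d_Cert_tree lc_d_rc_15_1 lc_d_rc_23_4 lc_d_rc_12_1 lc_d_Cert_tree lc_d_Cert_tree lc_d_Cert_tree lc_d_rc_15_1 lc_d_rc_23_2 lc_d_Cert_tree lc_d_rc_15_1 lc_d_rc_8_1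 lc_d_Cert_tree lc_d_rc_15_1 lc_d_rc_15_1 lc_d_rc_8_3 lc_d_rc_22_2 lc_d_rc_15_1 lc_d_rc_15_1 lc_d_rc_15_1 lc_d_rc_16_2 lc_d_Cert_tree lc_d_rc_15_1 lc_d_Cert_tree lc_d_rc_23_8 lc_d_Cert_tree lc_d_rc_27_8 lc_d_Cert_tree lc_d_Cert_tree lc_d_rc_15_1 lc_d_Cert_tree lc_d_Cert_tree lc_d_rc_15_1 lc_d_Cert_tree lc_d_rc_23_8 lc_d_rc_24_0 lc_d_Cert_tree lc_d_rc_15_1 lc_d_Cert_tree lc_d_Cert_tree lc_d_rc_15_1 lc_d_Cert_tree lc_d_Cert_tree lc_d_rc_17_2 lc_d_rc_8_3 lc_d_Cert_tree lc_d_rc_15_1 lc_d_Cert_tree lc_d_rc_23_8 lc_d_rc_24_0 lc_d_rc_16_2 lc_d_rc_15_1 lc_d_rc_22_4 lc_d_rc_23_6 lc_d_rc_24_0) (@D3.rec (fun _ => (Cert rels S Gen.d)) lc_d_rc_15_1 lc_d_Cert_tree lc_d_rc_24_5 lc_d_rc_15_1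 lc_d_rc_17_2 lc_d_rc_8_3 lc_d_rc_17_0 lc_d_Cert_tree lc_d_rc_15_1 lc_d_rc_22_2 lc_d_rc_27_8 lc_d_rc_23_2 lc_d_rc_8_1 lc_d_rc_15_1 lc_d_Cert_tree lc_d_Cert_tree lc_d_rc_16_0 lc_d_rc_15_1 lc_d_rc_8_3 lc_d_Cert_tree lc_d_rc_8_3 lc_d_rc_23_2 lc_d_rc_8_3 lc_d_rc_15_1 lc_d_rc_15_1 lc_d_Cert_tree lc_d_rc_22_8 lc_d_Cert_tree lc_d_Cert_tree lc_d_Cert_tree lc_d_rc_15_1 lc_d_rc_17_2 lc_d_Cert_tree lc_d_Cert_tree lc_d_rc_15_1 lc_d_rc_27_4 lc_d_rc_16_4 lc_d_Cert_tree lc_d_rc_15_1 lc_d_rc_27_2 lc_d_Cert_tree lc_d_rc_27_4 lc_d_rc_15_1 lc_d_rc_23_4 lc_d_rc_22_8 lc_d_rc_22_4 lc_d_Cert_tree lc_d_rc_15_1 lc_d_rc_23_8 lc_d_rc_8_3 lc_d_rc_15_1 lc_d_Cert_tree lc_d_rc_15_1 lc_d_Cert_tree lc_d_rc_27_10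 lc_d_rc_17_2 lc_d_rc_8_3 lc_d_rc_22_8 lc_d_Cert_tree lc_d_rc_25_6 lc_d_rc_17_2 lc_d_Cert_tree) (@D3.rec (fun _ => (Cert rels S Gen.d)) lc_d_rc_15_1 lc_d_rc_15_1 lc_d_Cert_tree lc_d_rc_15_1 lc_d_rc_27_10 lc_d_rc_15_1 lc_d_rc_23_2 lc_d_rc_15_1 lc_d_Cert_tree lc_d_rc_27_4 lc_d_Cert_tree lc_d_rc_22_2 lc_d_rc_8_3 lc_d_Cert_tree lc_d_rc_27_2 lc_d_rc_22_4 lc_d_Cert_tree lc_d_rc_8_3 lc_d_Cert_tree lc_d_rc_3_3 lc_d_rc_24_5 lc_d_rc_23_2 lc_d_rc_15_1 lc_d_rc_15_1 lc_d_rc_22_6 lc_d_rc_24_5 lc_d_Cert_tree lc_d_rc_27_2 lc_d_rc_22_2 lc_d_rc_25_6 lc_d_rc_15_1 lc_d_rc_15_1 lc_d_rc_24_5 lc_d_rc_24_5 lc_d_Cert_tree lc_d_rc_15_1 lc_d_Cert_tree lc_d_Cert_tree lc_d_rc_22_2 lc_d_rc_16_4 lc_d_rc_24_5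 lc_d_rc_15_1 lc_d_rc_22_2 lc_d_rc_24_5 lc_d_Cert_tree lc_d_Cert_tree lc_d_rc_15_1 lc_d_Cert_tree lc_d_rc_22_2 lc_d_Cert_tree lc_d_rc_15_1 lc_d_rc_8_1 lc_d_rc_16_0 lc_d_rc_22_4 lc_d_rc_16_4 lc_d_rc_16_4 lc_d_Cert_tree lc_d_rc_15_1 lc_d_rc_27_2 lc_d_rc_16_4 lc_d_rc_8_3 lc_d_Cert_tree) (@D3.rec (fun _ => (Cert rels S Gen.d)) lc_d_rc_27_10 lc_d_rc_15_1 lc_d_rc_17_2 lc_d_rc_16_4 lc_d_rc_15_1 lc_d_rc_15_1 lc_d_rc_22_6 lc_d_Cert_tree lc_d_rc_27_2 lc_d_Cert_tree lc_d_rc_15_1 lc_d_Cert_tree lc_d_rc_15_1 lc_d_rc_17_2 lc_d_rc_8_1 lc_d_rc_15_1 lc_d_Cert_tree lc_d_Cert_tree lc_d_rc_24_0 lc_d_rc_15_1 lc_d_rc_23_6 lc_d_rc_8_3 lc_d_rc_8_3 lc_d_rc_15_1 lc_d_rc_23_8 lc_d_rc_15_1 lc_d_rc_27_8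 lc_d_Cert_tree lc_d_rc_15_1 lc_d_rc_8_1 lc_d_Cert_tree lc_d_rc_15_1 lc_d_rc_15_1 lc_d_rc_23_8 lc_d_rc_15_1 lc_d_Cert_tree lc_d_rc_8_3 lc_d_rc_16_4 lc_d_rc_24_0 lc_d_rc_8_3 lc_d_Cert_tree lc_d_rc_16_4 lc_d_rc_15_1 lc_d_rc_17_2 lc_d_rc_8_3 lc_d_rc_15_1 lc_d_rc_17_2 lc_d_rc_25_6 lc_d_rc_15_1 lc_d_rc_15_1 lc_d_Cert_tree lc_d_rc_15_1 lc_d_rc_17_2 lc_d_rc_15_1 lc_d_rc_15_1 lc_d_rc_27_4 lc_d_Cert_tree lc_d_rc_15_1 lc_d_Cert_tree lc_d_rc_17_2 lc_d_rc_8_1 lc_d_rc_15_1) (@D3.rec (fun _ => (Cert rels S Gen.d)) lc_d_rc_15_1 lc_d_rc_15_1 lc_d_rc_15_1 lc_d_rc_16_4 lc_d_Cert_tree lc_d_rc_15_1 lc_d_rc_27_4 lc_d_Cert_tree lc_d_rc_15_1 lc_d_Cert_tree lc_d_rc_16_4 lc_d_Cert_tree lc_d_rc_15_1 lc_d_Cert_tree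 lc_d_rc_16_4 lc_d_Cert_tree lc_d_rc_15_1 lc_d_Cert_tree lc_d_Cert_tree lc_d_rc_17_2 lc_d_Cert_tree lc_d_rc_15_1 lc_d_rc_25_10 lc_d_Cert_tree lc_d_rc_15_1 lc_d_rc_27_4 lc_d_rc_15_1 lc_d_Cert_tree lc_d_Cert_tree lc_d_rc_15_1 lc_d_rc_8_3 lc_d_Cert_tree lc_d_Cert_tree lc_d_Cert_tree lc_d_Cert_tree lc_d_rc_17_2 lc_d_rc_15_1 lc_d_rc_24_0 lc_d_rc_3_3 lc_d_Cert_tree lc_d_rc_8_1 lc_d_rc_24_5 lc_d_rc_24_5 lc_d_rc_8_3 lc_d_Cert_tree lc_d_rc_27_10 lc_d_rc_15_1 lc_d_rc_17_2 lc_d_rc_17_2 lc_d_Cert_tree lc_d_Cert_tree lc_d_rc_16_0 lc_d_rc_3_3 lc_d_rc_8_3 lc_d_Cert_tree lc_d_rc_15_1 lc_d_Cert_tree lc_d_Cert_tree lc_d_Cert_tree lc_d_rc_15_1 lc_d_rc_8_3 lc_d_rc_16_4) (@D3.rec (fun _ => (Cert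 rels S Gen.d)) lc_d_rc_16_2 lc_d_rc_15_1 lc_d_rc_8_3 lc_d_Cert_tree lc_d_rc_27_4 lc_d_rc_15_1 lc_d_rc_17_2 lc_d_rc_15_1 lc_d_rc_16_4 lc_d_rc_16_2 lc_d_rc_15_1 lc_d_rc_17_2 lc_d_rc_16_2 lc_d_Cert_tree lc_d_rc_15_1 lc_d_rc_17_2 lc_d_rc_15_1 lc_d_rc_15_1 lc_d_rc_15_1 lc_d_rc_15_1 lc_d_rc_15_1 lc_d_rc_16_4 lc_d_rc_17_2 lc_d_rc_15_1 lc_d_rc_16_4 lc_d_rc_8_3 lc_d_rc_17_2 lc_d_rc_15_1 lc_d_rc_15_1 lc_d_rc_17_2 lc_d_rc_16_4 lc_d_rc_16_4 lc_d_rc_16_4 lc_d_Cert_tree lc_d_rc_15_1 lc_d_rc_16_4 lc_d_rc_8_1 lc_d_rc_15_1 lc_d_Cert_tree lc_d_rc_15_1 lc_d_Cert_tree lc_d_Cert_tree lc_d_Cert_tree lc_d_Cert_tree lc_d_rc_15_1 lc_d_rc_8_3 lc_d_rc_16_4 lc_d_Cert_tree lc_d_rc_8_3 lc_d_Cert_tree lc_d_rc_24_0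 lc_d_rc_15_1 lc_d_rc_17_2 lc_d_rc_16_4 lc_d_rc_16_2 lc_d_rc_27_10 lc_d_rc_15_1 lc_d_rc_8_3 lc_d_rc_15_1 lc_d_rc_15_1 lc_d_rc_15_1 lc_d_rc_15_1) (@D3.rec (fun _ => (Cert rels S Gen.d)) lc_d_Cert_tree lc_d_rc_16_4 lc_d_rc_17_2 lc_d_rc_16_2 lc_d_rc_15_1 lc_d_rc_8_3 lc_d_rc_27_8 lc_d_rc_15_1 lc_d_rc_15_1 lc_d_rc_17_2 lc_d_rc_16_4 lc_d_rc_8_3 lc_d_Cert_tree lc_d_rc_15_1 lc_d_rc_17_2 lc_d_rc_15_1 lc_d_rc_27_10 lc_d_rc_17_2 lc_d_Cert_tree lc_d_Cert_tree lc_d_Cert_tree lc_d_rc_15_1 lc_d_rc_8_3 lc_d_rc_16_2 lc_d_Cert_tree lc_d_Cert_tree lc_d_rc_15_1 lc_d_rc_15_1 lc_d_rc_17_2 lc_d_rc_16_4 lc_d_rc_27_4 lc_d_Cert_tree lc_d_rc_15_1 lc_d_Cert_tree lc_d_rc_15_1 lc_d_rc_17_2 lc_d_Cert_tree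 lc_d_Cert_tree lc_d_Cert_tree lc_d_rc_15_1 lc_d_rc_8_3 lc_d_rc_16_4 lc_d_Cert_tree lc_d_Cert_tree lc_d_Cert_tree lc_d_rc_27_2 lc_d_rc_15_1 lc_d_rc_17_2 lc_d_rc_17_0 lc_d_rc_8_3 lc_d_rc_3_3 lc_d_rc_15_1 lc_d_rc_16_2 lc_d_Cert_tree lc_d_rc_15_1 lc_d_rc_24_5 lc_d_rc_15_1 lc_d_rc_15_1 lc_d_rc_17_2 lc_d_Cert_tree lc_d_rc_15_1 lc_d_Cert_tree) (@D3.rec (fun _ => (Cert rels S Gen.d)) lc_d_Cert_tree lc_d_rc_27_2 lc_d_Cert_tree lc_d_rc_15_1 lc_d_Cert_tree lc_d_Cert_tree lc_d_Cert_tree lc_d_Cert_tree lc_d_rc_15_1 lc_d_rc_8_3 lc_d_rc_22_8 lc_d_rc_27_10 lc_d_Cert_tree lc_d_Cert_tree lc_d_Cert_tree lc_d_rc_15_1 lc_d_Cert_tree lc_d_rc_16_2 lc_d_rc_15_1 lc_d_rc_16_0 lc_d_Cert_tree lc_d_rc_15_1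 lc_d_rc_23_2 lc_d_rc_27_10 lc_d_rc_17_2 lc_d_Cert_tree lc_d_Cert_tree lc_d_Cert_tree lc_d_rc_15_1 lc_d_rc_17_2 lc_d_rc_22_8 lc_d_rc_16_4 lc_d_Cert_tree lc_d_rc_15_1 lc_d_Cert_tree lc_d_Cert_tree lc_d_rc_15_1 lc_d_Cert_tree lc_d_Cert_tree lc_d_rc_15_1 lc_d_Cert_tree lc_d_rc_15_1 lc_d_Cert_tree lc_d_rc_22_6 lc_d_rc_17_2 lc_d_rc_15_1 lc_d_rc_17_2 lc_d_rc_16_4 lc_d_rc_15_1 lc_d_rc_24_5 lc_d_rc_15_1 lc_d_rc_16_2 lc_d_rc_16_4 lc_d_Cert_tree lc_d_rc_15_1 lc_d_Cert_tree lc_d_rc_17_2 lc_d_Cert_tree lc_d_Cert_tree lc_d_Cert_tree lc_d_rc_15_1 lc_d_Cert_tree) (@D3.rec (fun _ => (Cert rels S Gen.d)) lc_d_Cert_tree lc_d_Cert_tree lc_d_rc_15_1 lc_d_rc_17_2 lc_d_Cert_tree lc_d_rc_15_1 lc_d_rc_27_4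 lc_d_Cert_tree lc_d_rc_23_8 lc_d_rc_24_0 lc_d_Cert_tree lc_d_rc_15_1 lc_d_Cert_tree lc_d_Cert_tree lc_d_Cert_tree lc_d_Cert_tree lc_d_rc_15_1 lc_d_rc_17_2 lc_d_Cert_tree lc_d_rc_15_1 lc_d_Cert_tree lc_d_rc_15_1 lc_d_rc_27_8 lc_d_rc_15_1 lc_d_Cert_tree lc_d_rc_17_2 lc_d_rc_15_1 lc_d_rc_15_1 lc_d_Cert_tree lc_d_rc_17_2 lc_d_rc_8_3 lc_d_rc_23_8 lc_d_Cert_tree lc_d_rc_15_1 lc_d_Cert_tree lc_d_Cert_tree lc_d_Cert_tree lc_d_Cert_tree lc_d_rc_15_1 lc_d_rc_17_2 lc_d_Cert_tree lc_d_rc_15_1 lc_d_rc_27_4 lc_d_Cert_tree lc_d_rc_15_1 lc_d_Cert_tree lc_d_Cert_tree lc_d_Cert_tree lc_d_rc_15_1 lc_d_rc_16_2 lc_d_Cert_tree lc_d_rc_15_1 lc_d_rc_8_3 lc_d_Cert_tree lc_d_Cert_tree lc_d_Cert_tree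 lc_d_Cert_tree lc_d_rc_15_1 lc_d_Cert_tree lc_d_Cert_tree lc_d_rc_15_1 lc_d_rc_17_2) (@D3.rec (fun _ => (Cert rels S Gen.d)) lc_d_rc_3_3 lc_d_Cert_tree lc_d_Cert_tree lc_d_Cert_tree lc_d_rc_15_1 lc_d_rc_27_8 lc_d_rc_17_2 lc_d_Cert_tree lc_d_Cert_tree lc_d_rc_15_1 lc_d_Cert_tree lc_d_rc_15_1 lc_d_rc_25_10 lc_d_rc_8_3 lc_d_Cert_tree lc_d_rc_16_4 lc_d_Cert_tree lc_d_rc_15_1 lc_d_rc_22_2 lc_d_rc_15_1 lc_d_Cert_tree lc_d_Cert_tree lc_d_Cert_tree lc_d_rc_17_2 lc_d_Cert_tree lc_d_Cert_tree lc_d_rc_15_1 lc_d_rc_15_1 lc_d_rc_15_1 lc_d_rc_27_4 lc_d_rc_3_3 lc_d_rc_15_1 lc_d_rc_15_1 lc_d_rc_8_3 lc_d_rc_8_3 lc_d_Cert_tree lc_d_rc_15_1 lc_d_rc_15_1 lc_d_rc_17_2 lc_d_Cert_tree lc_d_Cert_tree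 lc_d_rc_15_1 lc_d_Cert_tree lc_d_rc_15_1 lc_d_rc_24_0 lc_d_rc_16_4 lc_d_rc_15_1 lc_d_rc_24_0 lc_d_rc_15_1 lc_d_rc_15_1 lc_d_rc_16_4 lc_d_rc_16_4 lc_d_rc_15_1 lc_d_rc_27_2 lc_d_rc_15_1 lc_d_Cert_tree lc_d_rc_24_0 lc_d_rc_15_1 lc_d_Cert_tree lc_d_Cert_tree lc_d_rc_23_8 lc_d_rc_24_0) (@D3.rec (fun _ => (Cert rels S Gen.d)) lc_d_rc_15_1 lc_d_Cert_tree lc_d_Cert_tree lc_d_rc_15_1 lc_d_rc_17_2 lc_d_rc_15_1 lc_d_rc_8_3 lc_d_rc_23_2 lc_d_rc_15_1 lc_d_rc_16_4 lc_d_Cert_tree lc_d_rc_15_1 lc_d_Cert_tree lc_d_Cert_tree lc_d_rc_17_2 lc_d_Cert_tree lc_d_Cert_tree lc_d_rc_15_1 lc_d_Cert_tree lc_d_rc_15_1 lc_d_rc_17_2 lc_d_Cert_tree lc_d_rc_15_1 lc_d_rc_23_2 lc_d_rc_15_1 lc_d_rc_27_2 lc_d_rc_15_1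 lc_d_rc_8_3 lc_d_rc_23_2 lc_d_rc_15_1 lc_d_rc_16_4 lc_d_Cert_tree lc_d_Cert_tree lc_d_rc_17_2 lc_d_Cert_tree lc_d_rc_15_1 lc_d_rc_15_1 lc_d_rc_24_0 lc_d_Cert_tree lc_d_rc_27_8 lc_d_rc_8_3 lc_d_rc_15_1 lc_d_rc_8_3 lc_d_rc_15_1 lc_d_rc_16_4 lc_d_Cert_tree lc_d_Cert_tree lc_d_rc_15_1 lc_d_rc_24_5 lc_d_rc_15_1 lc_d_rc_23_4 lc_d_rc_15_1 lc_d_rc_15_1 lc_d_Cert_tree lc_d_rc_8_3 lc_d_rc_23_4 lc_d_rc_15_1 lc_d_Cert_tree lc_d_Cert_tree lc_d_rc_17_2 lc_d_rc_8_3 lc_d_rc_15_1) (@D3.rec (fun _ => (Cert rels S Gen.d)) lc_d_Cert_tree lc_d_rc_8_3 lc_d_rc_15_1 lc_d_rc_17_2 lc_d_rc_23_4 lc_d_rc_15_1 lc_d_Cert_tree lc_d_rc_15_1 lc_d_rc_27_8 lc_d_rc_15_1 lc_d_rc_23_6 lc_d_Cert_tree lc_d_rc_23_6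 lc_d_rc_15_1 lc_d_rc_17_2 lc_d_rc_15_1 lc_d_rc_23_2 lc_d_Cert_tree lc_d_rc_15_1 lc_d_Cert_tree lc_d_rc_15_1 lc_d_rc_22_2 lc_d_rc_17_2 lc_d_rc_15_1 lc_d_rc_3_3 lc_d_rc_15_1 lc_d_rc_27_8 lc_d_rc_15_1 lc_d_rc_24_0 lc_d_rc_16_2 lc_d_rc_24_0 lc_d_rc_15_1 lc_d_rc_15_1 lc_d_rc_27_4 lc_d_rc_16_4 lc_d_rc_8_3 lc_d_rc_22_4 lc_d_Cert_tree lc_d_rc_8_1 lc_d_rc_22_4 lc_d_Cert_tree lc_d_Cert_tree lc_d_Cert_tree lc_d_rc_16_0 lc_d_rc_15_1 lc_d_Cert_tree lc_d_rc_24_0 lc_d_Cert_tree lc_d_rc_17_2 lc_d_Cert_tree lc_d_Cert_tree lc_d_rc_15_1 lc_d_rc_3_3 lc_d_Cert_tree lc_d_Cert_tree lc_d_Cert_tree lc_d_Cert_tree lc_d_rc_15_1 lc_d_rc_17_2 lc_d_rc_3_3 lc_d_Cert_tree lc_d_rc_16_4) (@D3.rec (fun _ => (Cert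 rels S Gen.d)) lc_d_Cert_tree lc_d_Cert_tree lc_d_rc_17_2 lc_d_rc_8_3 lc_d_rc_3_1 lc_d_rc_3_3 lc_d_Cert_tree lc_d_Cert_tree lc_d_Cert_tree lc_d_rc_15_1 lc_d_rc_17_2 lc_d_Cert_tree lc_d_Cert_tree lc_d_rc_15_1 lc_d_rc_27_4 lc_d_rc_8_1 lc_d_rc_23_2 lc_d_rc_15_1 lc_d_Cert_tree lc_d_Cert_tree lc_d_Cert_tree lc_d_Cert_tree lc_d_rc_15_1 lc_d_rc_22_6 lc_d_rc_23_6 lc_d_rc_15_1 lc_d_rc_15_1 lc_d_Cert_tree lc_d_rc_15_1 lc_d_Cert_tree lc_d_rc_24_5 lc_d_rc_15_1 lc_d_rc_17_2 lc_d_rc_22_6 lc_d_rc_16_4 lc_d_Cert_tree lc_d_Cert_tree lc_d_rc_17_2 lc_d_rc_8_3 lc_d_rc_15_1 lc_d_rc_15_1 lc_d_rc_8_3 lc_d_rc_8_3 lc_d_Cert_tree lc_d_rc_22_8 lc_d_rc_16_4 lc_d_rc_15_1 lc_d_rc_23_2 lc_d_rc_15_1 lc_d_Cert_tree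 lc_d_rc_23_6 lc_d_rc_15_1 lc_d_rc_17_2 lc_d_rc_27_4 lc_d_Cert_tree lc_d_rc_15_1 lc_d_rc_27_4 lc_d_rc_8_1 lc_d_rc_15_1 lc_d_Cert_tree lc_d_Cert_tree lc_d_rc_15_1) (@D3.rec (fun _ => (Cert rels S Gen.d)) lc_d_rc_17_2 lc_d_rc_15_1 lc_d_rc_15_1 lc_d_rc_27_4 lc_d_rc_8_3 lc_d_Cert_tree lc_d_rc_15_1 lc_d_rc_22_8 lc_d_Cert_tree lc_d_Cert_tree lc_d_rc_15_1 lc_d_rc_22_6 lc_d_Cert_tree lc_d_rc_15_1 lc_d_rc_24_5 lc_d_rc_15_1 lc_d_rc_24_5 lc_d_rc_22_8 lc_d_Cert_tree lc_d_rc_3_3 lc_d_Cert_tree lc_d_Cert_tree lc_d_Cert_tree lc_d_rc_15_1 lc_d_rc_8_1 lc_d_rc_23_4 lc_d_rc_23_2 lc_d_Cert_tree lc_d_rc_15_1 lc_d_rc_27_4 lc_d_Cert_tree lc_d_rc_15_1 lc_d_Cert_tree lc_d_rc_15_1 lc_d_Cert_tree lc_d_rc_17_2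 lc_d_rc_16_4 lc_d_rc_15_1 lc_d_rc_15_1 lc_d_Cert_tree lc_d_rc_25_14 lc_d_rc_15_1 lc_d_rc_22_4 lc_d_rc_16_4 lc_d_rc_15_1 lc_d_Cert_tree lc_d_Cert_tree lc_d_Cert_tree lc_d_rc_17_2 lc_d_Cert_tree lc_d_rc_15_1 lc_d_rc_27_4 lc_d_Cert_tree lc_d_rc_15_1 lc_d_Cert_tree lc_d_Cert_tree lc_d_rc_15_1 lc_d_rc_3_3 lc_d_Cert_tree lc_d_Cert_tree lc_d_rc_15_1 lc_d_rc_17_2) (@D3.rec (fun _ => (Cert rels S Gen.d)) lc_d_Cert_tree lc_d_rc_15_1 lc_d_Cert_tree lc_d_rc_22_8 lc_d_rc_24_0 lc_d_Cert_tree lc_d_rc_16_0 lc_d_Cert_tree lc_d_rc_15_1 lc_d_rc_17_2 lc_d_rc_15_1 lc_d_rc_15_1 lc_d_rc_24_0 lc_d_rc_15_1 lc_d_Cert_tree lc_d_rc_17_2 lc_d_Cert_tree lc_d_rc_15_1 lc_d_rc_27_4 lc_d_Cert_tree lc_d_rc_15_1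 lc_d_rc_27_8 lc_d_rc_3_1 lc_d_rc_15_1 lc_d_Cert_tree lc_d_rc_17_2 lc_d_rc_24_5 lc_d_rc_16_4 lc_d_rc_15_1 lc_d_rc_23_2 lc_d_rc_16_4 lc_d_rc_8_3 lc_d_rc_23_4 lc_d_rc_16_4 lc_d_rc_8_3 lc_d_rc_24_5 lc_d_rc_16_2 lc_d_rc_23_6 lc_d_rc_23_6 lc_d_Cert_tree lc_d_rc_15_1 lc_d_rc_22_6 lc_d_rc_16_4 lc_d_Cert_tree lc_d_rc_15_1 lc_d_rc_15_1 lc_d_rc_16_2 lc_d_rc_15_1 lc_d_rc_15_1 lc_d_rc_16_4 lc_d_Cert_tree lc_d_rc_15_1 lc_d_rc_27_4 lc_d_Cert_tree lc_d_rc_15_1 lc_d_Cert_tree lc_d_rc_23_4 lc_d_rc_23_6 lc_d_Cert_tree lc_d_rc_17_2 lc_d_rc_8_3 lc_d_rc_16_4) (@D3.rec (fun _ => (Cert rels S Gen.d)) lc_d_rc_15_1 lc_d_rc_15_1 lc_d_rc_24_5 lc_d_rc_15_1 lc_d_rc_15_1 lc_d_Cert_tree lc_d_rc_15_1 lc_d_rc_12_11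 lc_d_rc_27_4 lc_d_rc_15_1 lc_d_rc_24_0 lc_d_rc_16_2 lc_d_Cert_tree lc_d_Cert_tree lc_d_rc_8_3 lc_d_rc_8_3 lc_d_rc_15_1 lc_d_rc_22_8 lc_d_Cert_tree lc_d_rc_8_3 lc_d_rc_15_1 lc_d_Cert_tree lc_d_rc_16_4 lc_d_Cert_tree lc_d_rc_15_1 lc_d_rc_17_2 lc_d_rc_15_1 lc_d_Cert_tree lc_d_Cert_tree lc_d_rc_15_1 lc_d_rc_8_3 lc_d_Cert_tree lc_d_rc_15_1 lc_d_rc_27_4 lc_d_rc_15_1 lc_d_rc_27_8 lc_d_Cert_tree lc_d_rc_15_1 lc_d_rc_22_4 lc_d_rc_17_2 lc_d_rc_8_3 lc_d_Cert_tree lc_d_rc_8_1 lc_d_rc_16_4 lc_d_rc_23_6 lc_d_rc_15_1 lc_d_rc_8_1 lc_d_rc_15_1 lc_d_rc_22_6 lc_d_rc_16_2 lc_d_rc_22_4 lc_d_Cert_tree lc_d_rc_15_1 lc_d_rc_27_2 lc_d_rc_22_4 lc_d_rc_22_4 lc_d_rc_15_1 lc_d_rc_15_1 lc_d_rc_8_3 lc_d_Cert_tree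 lc_d_Cert_tree lc_d_rc_15_1) (@D3.rec (fun _ => (Cert rels S Gen.d)) lc_d_rc_17_2 lc_d_rc_24_5 lc_d_rc_15_1 lc_d_rc_15_1 lc_d_rc_8_3 lc_d_rc_22_4 lc_d_rc_16_4 lc_d_rc_23_2 lc_d_rc_16_0 lc_d_Cert_tree lc_d_rc_15_1 lc_d_Cert_tree lc_d_rc_15_1 lc_d_rc_23_6 lc_d_Cert_tree lc_d_rc_17_2 lc_d_rc_15_1 lc_d_rc_15_1 lc_d_Cert_tree lc_d_rc_15_1 lc_d_Cert_tree lc_d_Cert_tree lc_d_rc_15_1 lc_d_rc_17_2 lc_d_rc_8_1 lc_d_rc_15_1 lc_d_Cert_tree lc_d_Cert_tree lc_d_rc_15_1 lc_d_rc_17_2 lc_d_rc_15_1 lc_d_rc_15_1 lc_d_Cert_tree lc_d_rc_17_2 lc_d_rc_23_6 lc_d_rc_24_5 lc_d_Cert_tree lc_d_Cert_tree lc_d_rc_23_2 lc_d_rc_8_3 lc_d_Cert_tree lc_d_Cert_tree lc_d_rc_27_10 lc_d_rc_3_1 lc_d_rc_8_1 lc_d_rc_22_6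 lc_d_rc_24_0 lc_d_Cert_tree lc_d_Cert_tree lc_d_rc_15_1 lc_d_rc_17_2 lc_d_rc_3_1 lc_d_rc_15_1 lc_d_rc_16_4 lc_d_rc_15_1 lc_d_rc_15_1 lc_d_rc_16_4 lc_d_Cert_tree lc_d_Cert_tree lc_d_rc_17_2 lc_d_rc_3_3 lc_d_Cert_tree) (@D3.rec (fun _ => (Cert rels S Gen.d)) lc_d_rc_27_2 lc_d_rc_23_4 lc_d_rc_17_0 lc_d_rc_15_1 lc_d_Cert_tree lc_d_rc_27_8 lc_d_rc_16_0 lc_d_rc_15_1 lc_d_rc_17_2 lc_d_Cert_tree lc_d_Cert_tree lc_d_rc_15_1 lc_d_Cert_tree lc_d_Cert_tree lc_d_rc_15_1 lc_d_Cert_tree lc_d_Cert_tree lc_d_Cert_tree lc_d_rc_15_1 lc_d_Cert_tree lc_d_rc_15_1 lc_d_rc_27_4 lc_d_rc_23_6 lc_d_rc_24_0 lc_d_Cert_tree lc_d_rc_17_2 lc_d_rc_3_1 lc_d_rc_3_3 lc_d_rc_8_3 lc_d_rc_15_1 lc_d_Cert_tree lc_d_Cert_tree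 lc_d_Cert_tree lc_d_rc_15_1 lc_d_rc_16_0 lc_d_rc_15_1 lc_d_rc_27_4 lc_d_Cert_tree lc_d_rc_15_1 lc_d_Cert_tree lc_d_Cert_tree lc_d_rc_15_1 lc_d_Cert_tree lc_d_rc_17_2 lc_d_rc_16_4 lc_d_rc_3_3 lc_d_Cert_tree lc_d_Cert_tree lc_d_Cert_tree lc_d_rc_15_1 lc_d_rc_17_2 lc_d_Cert_tree lc_d_rc_15_1 lc_d_rc_27_4 lc_d_Cert_tree lc_d_rc_15_1 lc_d_rc_27_8 lc_d_Cert_tree lc_d_rc_15_1 lc_d_Cert_tree lc_d_rc_17_2 lc_d_rc_3_1) (@D3.rec (fun _ => (Cert rels S Gen.d)) lc_d_Cert_tree lc_d_Cert_tree lc_d_rc_15_1 lc_d_rc_15_1 lc_d_Cert_tree lc_d_rc_15_1 lc_d_rc_27_8 lc_d_rc_15_1 lc_d_Cert_tree lc_d_Cert_tree lc_d_rc_16_2 lc_d_Cert_tree lc_d_rc_27_2 lc_d_rc_27_4 lc_d_Cert_tree lc_d_Cert_tree lc_d_rc_15_1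 lc_d_Cert_tree lc_d_Cert_tree lc_d_rc_15_1 lc_d_rc_15_1 lc_d_Cert_tree lc_d_Cert_tree lc_d_rc_27_10 lc_d_rc_15_1 lc_d_rc_17_2 lc_d_rc_15_1 lc_d_Cert_tree lc_d_rc_15_1 lc_d_rc_27_4 lc_d_Cert_tree lc_d_rc_15_1 lc_d_Cert_tree lc_d_rc_15_1 lc_d_rc_15_1 lc_d_Cert_tree lc_d_rc_23_6 lc_d_rc_24_5 lc_d_rc_12_9 lc_d_rc_16_4 lc_d_rc_15_1 lc_d_rc_15_1 lc_d_rc_16_2 lc_d_rc_15_1 lc_d_rc_23_4 lc_d_rc_15_1 lc_d_rc_23_4 lc_d_rc_16_4 lc_d_rc_23_6 lc_d_rc_23_4 lc_d_Cert_tree lc_d_rc_15_1 lc_d_rc_15_1 lc_d_rc_15_1 lc_d_rc_16_2 lc_d_rc_24_0 lc_d_rc_27_2 lc_d_rc_15_1 lc_d_rc_15_1 lc_d_rc_16_4 lc_d_rc_15_1 lc_d_rc_15_1) (@D3.rec (fun _ => (Cert rels S Gen.d)) lc_d_rc_8_3 lc_d_rc_8_3 lc_d_Cert_tree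 lc_d_rc_15_1 lc_d_rc_16_4 lc_d_Cert_tree lc_d_rc_15_1 lc_d_Cert_tree lc_d_rc_17_2 lc_d_Cert_tree lc_d_rc_15_1 lc_d_rc_24_5 lc_d_Cert_tree lc_d_rc_16_4 lc_d_rc_15_1 lc_d_Cert_tree lc_d_rc_15_1 lc_d_rc_27_8 lc_d_Cert_tree lc_d_rc_15_1 lc_d_Cert_tree lc_d_rc_15_1 lc_d_rc_15_1 lc_d_rc_23_4 lc_d_rc_15_1 lc_d_rc_8_1 lc_d_rc_23_6 lc_d_rc_16_4 lc_d_Cert_tree lc_d_rc_22_8 lc_d_rc_8_3 lc_d_rc_27_2 lc_d_Cert_tree lc_d_rc_15_1 lc_d_Cert_tree lc_d_rc_15_1 lc_d_rc_15_1 lc_d_rc_17_2 lc_d_Cert_tree lc_d_rc_15_1 lc_d_rc_27_2 lc_d_Cert_tree lc_d_rc_15_1 lc_d_Cert_tree lc_d_Cert_tree lc_d_Cert_tree lc_d_Cert_tree lc_d_rc_15_1 lc_d_rc_17_2 lc_d_rc_23_6 lc_d_rc_23_6 lc_d_rc_22_8 lc_d_rc_16_4 lc_d_rc_17_2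 lc_d_rc_8_3 lc_d_Cert_tree lc_d_rc_27_10 lc_d_rc_17_2 lc_d_Cert_tree lc_d_rc_15_1 lc_d_Cert_tree lc_d_rc_16_4) (@D3.rec (fun _ => (Cert rels S Gen.d)) lc_d_rc_17_2 lc_d_Cert_tree lc_d_rc_15_1 lc_d_rc_23_2 lc_d_rc_16_4 lc_d_rc_15_1 lc_d_Cert_tree lc_d_Cert_tree lc_d_Cert_tree lc_d_Cert_tree lc_d_rc_15_1 lc_d_rc_8_3 lc_d_rc_23_6 lc_d_rc_23_6 lc_d_rc_16_4 lc_d_Cert_tree lc_d_rc_15_1 lc_d_Cert_tree lc_d_rc_27_10 lc_d_rc_15_1 lc_d_rc_17_2 lc_d_Cert_tree lc_d_rc_15_1 lc_d_Cert_tree lc_d_rc_16_0 lc_d_rc_15_1 lc_d_rc_27_10 lc_d_Cert_tree lc_d_rc_15_1 lc_d_Cert_tree lc_d_Cert_tree lc_d_rc_15_1 lc_d_Cert_tree lc_d_Cert_tree lc_d_rc_15_1 lc_d_Cert_tree lc_d_Cert_tree lc_d_Cert_tree lc_d_Cert_tree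 lc_d_rc_15_1 lc_d_Cert_tree lc_d_rc_23_6 lc_d_rc_15_1 lc_d_Cert_tree lc_d_Cert_tree lc_d_Cert_tree lc_d_rc_15_1 lc_d_rc_17_2 lc_d_Cert_tree lc_d_Cert_tree lc_d_rc_27_4 lc_d_rc_15_1 lc_d_Cert_tree lc_d_rc_17_2 lc_d_rc_12_15 lc_d_Cert_tree lc_d_rc_15_1 lc_d_Cert_tree lc_d_Cert_tree lc_d_Cert_tree lc_d_rc_15_1 lc_d_Cert_tree) (@D3.rec (fun _ => (Cert rels S Gen.d)) lc_d_Cert_tree lc_d_Cert_tree lc_d_Cert_tree lc_d_rc_15_1 lc_d_rc_17_2 lc_d_rc_22_8 lc_d_rc_16_4 lc_d_Cert_tree lc_d_rc_15_1 lc_d_rc_17_2 lc_d_Cert_tree lc_d_Cert_tree lc_d_rc_15_1 lc_d_rc_8_3 lc_d_rc_8_3 lc_d_Cert_tree lc_d_rc_15_1 lc_d_rc_8_3 lc_d_rc_24_0 lc_d_Cert_tree lc_d_rc_15_1 lc_d_rc_15_1 lc_d_rc_23_6 lc_d_rc_15_1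 lc_d_Cert_tree lc_d_Cert_tree lc_d_Cert_tree lc_d_rc_15_1 lc_d_rc_17_2 lc_d_Cert_tree lc_d_rc_15_1 lc_d_Cert_tree lc_d_rc_15_1 lc_d_rc_8_3 lc_d_Cert_tree lc_d_rc_23_2 lc_d_rc_23_8 lc_d_Cert_tree lc_d_rc_15_1 lc_d_Cert_tree lc_d_Cert_tree lc_d_Cert_tree lc_d_Cert_tree lc_d_rc_15_1 lc_d_rc_17_2 lc_d_Cert_tree lc_d_rc_27_4 lc_d_Cert_tree lc_d_rc_15_1 lc_d_rc_25_6 lc_d_Cert_tree lc_d_rc_22_2 lc_d_Cert_tree lc_d_rc_8_3 lc_d_rc_16_2 lc_d_rc_23_6 lc_d_rc_16_4 lc_d_Cert_tree lc_d_Cert_tree lc_d_rc_16_4 lc_d_Cert_tree lc_d_rc_15_1) (@D3.rec (fun _ => (Cert rels S Gen.d)) lc_d_Cert_tree lc_d_rc_16_4 lc_d_Cert_tree lc_d_rc_15_1 lc_d_rc_17_2 lc_d_Cert_tree lc_d_Cert_tree lc_d_Cert_tree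 lc_d_Cert_tree lc_d_rc_15_1 lc_d_rc_27_4 lc_d_rc_17_2 lc_d_rc_17_2 lc_d_Cert_tree lc_d_rc_15_1 lc_d_Cert_tree lc_d_rc_15_1 lc_d_rc_15_1 lc_d_rc_15_1 lc_d_Cert_tree lc_d_rc_16_4 lc_d_rc_17_2 lc_d_Cert_tree lc_d_rc_15_1 lc_d_Cert_tree lc_d_rc_15_1 lc_d_rc_22_6 lc_d_rc_8_3 lc_d_Cert_tree lc_d_Cert_tree lc_d_Cert_tree lc_d_rc_17_2 lc_d_Cert_tree lc_d_Cert_tree lc_d_rc_8_1 lc_d_rc_15_1 lc_d_Cert_tree lc_d_Cert_tree lc_d_rc_15_1 lc_d_rc_15_1 lc_d_Cert_tree lc_d_rc_15_1 lc_d_Cert_tree lc_d_rc_15_1 lc_d_rc_27_4 lc_d_rc_15_1 lc_d_rc_17_2 lc_d_Cert_tree lc_d_rc_15_1 lc_d_rc_16_4 lc_d_rc_15_1 lc_d_rc_23_2 lc_d_rc_8_3 lc_d_rc_16_2 lc_d_rc_15_1 lc_d_rc_23_8 lc_d_Cert_tree lc_d_rc_15_1 lc_d_rc_23_2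 lc_d_rc_15_1 lc_d_Cert_tree lc_d_rc_15_1) (@D3.rec (fun _ => (Cert rels S Gen.d)) lc_d_rc_24_0 lc_d_rc_15_1 lc_d_rc_17_2 lc_d_Cert_tree lc_d_Cert_tree lc_d_rc_15_1 lc_d_rc_24_0 lc_d_rc_8_3 lc_d_rc_8_1 lc_d_Cert_tree lc_d_rc_15_1 lc_d_rc_15_1 lc_d_Cert_tree lc_d_Cert_tree lc_d_rc_24_5 lc_d_Cert_tree lc_d_rc_27_8 lc_d_rc_15_1 lc_d_rc_15_1 lc_d_rc_8_3 lc_d_Cert_tree lc_d_Cert_tree lc_d_rc_16_4 lc_d_Cert_tree lc_d_rc_15_1 lc_d_Cert_tree lc_d_Cert_tree lc_d_rc_15_1 lc_d_Cert_tree lc_d_rc_15_1 lc_d_Cert_tree lc_d_rc_8_3 lc_d_Cert_tree lc_d_rc_23_8 lc_d_rc_24_0 lc_d_Cert_tree lc_d_rc_15_1 lc_d_rc_15_1 lc_d_rc_16_2 lc_d_rc_23_4 lc_d_rc_23_4 lc_d_rc_15_1 lc_d_rc_27_4 lc_d_rc_15_1 lc_d_Cert_tree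 lc_d_Cert_tree lc_d_rc_8_3 lc_d_Cert_tree lc_d_Cert_tree lc_d_rc_15_1 lc_d_Cert_tree lc_d_rc_23_8 lc_d_rc_8_3 lc_d_Cert_tree lc_d_rc_27_8 lc_d_Cert_tree lc_d_Cert_tree lc_d_rc_15_1 lc_d_Cert_tree lc_d_rc_15_1 lc_d_rc_27_4 lc_d_rc_8_1) (@D3.rec (fun _ => (Cert rels S Gen.d)) lc_d_Cert_tree lc_d_rc_22_2 lc_d_rc_17_2 lc_d_rc_23_8 lc_d_Cert_tree lc_d_rc_15_1 lc_d_Cert_tree lc_d_Cert_tree lc_d_Cert_tree lc_d_Cert_tree lc_d_rc_15_1 lc_d_rc_17_2 lc_d_Cert_tree lc_d_rc_15_1 lc_d_Cert_tree lc_d_Cert_tree lc_d_rc_15_1 lc_d_rc_27_2 lc_d_rc_17_2 lc_d_rc_15_1 lc_d_Cert_tree lc_d_Cert_tree lc_d_rc_24_5 lc_d_Cert_tree lc_d_rc_15_1 lc_d_Cert_tree lc_d_Cert_tree lc_d_rc_8_3 lc_d_rc_16_0 lc_d_rc_15_1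 lc_d_rc_15_1 lc_d_rc_17_2 lc_d_rc_8_3 lc_d_rc_24_0 lc_d_rc_15_1 lc_d_rc_23_6 lc_d_rc_27_2 lc_d_rc_17_2 lc_d_rc_27_2 lc_d_rc_15_1 lc_d_rc_23_4 lc_d_rc_8_3 lc_d_rc_27_2 lc_d_rc_22_2 lc_d_rc_8_3 lc_d_rc_15_1 lc_d_rc_27_10 lc_d_rc_17_2 lc_d_rc_23_8 lc_d_rc_23_2 lc_d_Cert_tree lc_d_rc_15_1 lc_d_Cert_tree lc_d_rc_24_0 lc_d_Cert_tree lc_d_Cert_tree lc_d_rc_15_1 lc_d_rc_17_2 lc_d_Cert_tree lc_d_rc_27_2 lc_d_Cert_tree lc_d_rc_16_0) (@D3.rec (fun _ => (Cert rels S Gen.d)) lc_d_Cert_tree lc_d_rc_24_5 lc_d_Cert_tree lc_d_Cert_tree lc_d_rc_15_1 lc_d_rc_16_4 lc_d_Cert_tree lc_d_rc_15_1 lc_d_rc_15_1 lc_d_rc_27_8 lc_d_rc_15_1 lc_d_rc_23_4 lc_d_rc_24_5 lc_d_rc_15_1 lc_d_rc_24_5 lc_d_rc_24_5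 lc_d_rc_15_1 lc_d_rc_16_4 lc_d_Cert_tree lc_d_rc_8_3 lc_d_rc_15_1 lc_d_rc_15_1 lc_d_Cert_tree lc_d_rc_12_3 lc_d_rc_27_2 lc_d_rc_15_1 lc_d_rc_15_1 lc_d_rc_17_2 lc_d_rc_24_0 lc_d_rc_22_2 lc_d_rc_23_8 lc_d_rc_15_1 lc_d_rc_15_1 lc_d_rc_23_4 lc_d_rc_17_2 lc_d_rc_24_0 lc_d_Cert_tree lc_d_rc_15_1 lc_d_Cert_tree lc_d_rc_15_1 lc_d_rc_16_2 lc_d_Cert_tree lc_d_rc_15_1 lc_d_rc_16_4 lc_d_Cert_tree lc_d_rc_8_3 lc_d_rc_15_1 lc_d_rc_3_3 lc_d_rc_8_3 lc_d_rc_8_3 lc_d_rc_15_1 lc_d_rc_15_1 lc_d_rc_27_8 lc_d_Cert_tree lc_d_Cert_tree lc_d_rc_15_1 lc_d_Cert_tree lc_d_rc_17_2 lc_d_rc_15_1 lc_d_Cert_tree lc_d_Cert_tree lc_d_rc_15_1) (@D3.rec (fun _ => (Cert rels S Gen.d)) lc_d_rc_17_2 lc_d_rc_17_0 lc_d_rc_8_3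 lc_d_rc_27_2 lc_d_rc_17_2 lc_d_rc_16_0 lc_d_rc_15_1 lc_d_rc_17_2 lc_d_rc_23_2 lc_d_Cert_tree lc_d_Cert_tree lc_d_rc_15_1 lc_d_rc_27_2 lc_d_rc_23_2 lc_d_rc_15_1 lc_d_Cert_tree lc_d_rc_24_0 lc_d_rc_3_3 lc_d_Cert_tree lc_d_rc_17_2 lc_d_rc_16_4 lc_d_rc_24_5 lc_d_rc_24_5 lc_d_Cert_tree lc_d_rc_27_8 lc_d_rc_22_8 lc_d_rc_23_2 lc_d_rc_15_1 lc_d_Cert_tree lc_d_rc_8_1 lc_d_rc_27_10 lc_d_Cert_tree lc_d_rc_15_1 lc_d_rc_3_3 lc_d_rc_8_3 lc_d_rc_15_1 lc_d_rc_8_3 lc_d_rc_16_4 lc_d_rc_17_2 lc_d_Cert_tree lc_d_rc_8_3 lc_d_rc_27_4 lc_d_rc_8_3 lc_d_rc_27_8 lc_d_rc_3_3 lc_d_rc_27_10 lc_d_rc_22_6 lc_d_Cert_tree lc_d_rc_15_1 lc_d_rc_8_1 lc_d_rc_8_3 lc_d_rc_15_1 lc_d_rc_15_1 lc_d_Cert_tree lc_d_rc_15_1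 lc_d_rc_8_3 lc_d_rc_27_2 lc_d_Cert_tree lc_d_rc_8_3 lc_d_Cert_tree lc_d_rc_8_3 lc_d_rc_24_5)
def ce_d_9 : D2 → D3 → (Cert rels S Gen.d) := @D2.rec (fun _ => D3 → (Cert rels S Gen.d)) (@D3.rec (fun _ => (Cert rels S Gen.d)) lc_d_rc_8_3 lc_d_Cert_tree lc_d_Cert_tree lc_d_rc_16_0 lc_d_rc_3_1 lc_d_rc_8_3 lc_d_rc_16_4 lc_d_rc_27_4 lc_d_rc_15_1 lc_d_rc_27_4 lc_d_rc_24_5 lc_d_rc_23_4 lc_d_rc_16_4 lc_d_rc_15_1 lc_d_rc_23_6 lc_d_rc_16_4 lc_d_Cert_tree lc_d_rc_22_4 lc_d_rc_23_4 lc_d_rc_27_10 lc_d_rc_15_1 lc_d_rc_8_3 lc_d_rc_15_1 lc_d_rc_27_4 lc_d_Cert_tree lc_d_rc_15_1 lc_d_rc_24_5 lc_d_rc_3_3 lc_d_rc_3_3 lc_d_Cert_tree lc_d_rc_15_1 lc_d_Cert_tree lc_d_Cert_tree lc_d_rc_15_1 lc_d_Cert_tree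 lc_d_rc_16_4 lc_d_Cert_tree lc_d_rc_15_1 lc_d_Cert_tree lc_d_Cert_tree lc_d_rc_17_2 lc_d_Cert_tree lc_d_rc_15_1 lc_d_Cert_tree lc_d_Cert_tree lc_d_rc_15_1 lc_d_Cert_tree lc_d_rc_23_8 lc_d_rc_15_1 lc_d_Cert_tree lc_d_rc_15_1 lc_d_rc_8_1 lc_d_rc_15_1 lc_d_rc_24_5 lc_d_Cert_tree lc_d_rc_15_1 lc_d_rc_27_2 lc_d_Cert_tree lc_d_rc_27_4 lc_d_rc_8_3 lc_d_Cert_tree lc_d_rc_24_5) (@D3.rec (fun _ => (Cert rels S Gen.d)) lc_d_Cert_tree lc_d_Cert_tree lc_d_rc_8_1 lc_d_Cert_tree lc_d_rc_27_4 lc_d_rc_16_4 lc_d_Cert_tree lc_d_rc_16_0 lc_d_rc_15_1 lc_d_rc_8_1 lc_d_rc_16_0 lc_d_rc_24_5 lc_d_rc_17_2 lc_d_rc_3_1 lc_d_rc_3_3 lc_d_rc_24_5 lc_d_rc_16_4 lc_d_Cert_tree lc_d_rc_15_1 lc_d_rc_3_3 lc_d_rc_17_0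 lc_d_rc_15_1 lc_d_rc_24_5 lc_d_Cert_tree lc_d_rc_16_4 lc_d_rc_24_5 lc_d_Cert_tree lc_d_rc_16_2 lc_d_rc_27_8 lc_d_rc_22_6 lc_d_rc_23_6 lc_d_rc_15_1 lc_d_rc_17_2 lc_d_Cert_tree lc_d_rc_15_1 lc_d_Cert_tree lc_d_rc_15_1 lc_d_rc_23_2 lc_d_rc_16_4 lc_d_rc_16_2 lc_d_rc_15_1 lc_d_rc_22_2 lc_d_rc_16_2 lc_d_rc_15_1 lc_d_rc_23_8 lc_d_rc_15_1 lc_d_rc_27_2 lc_d_rc_15_1 lc_d_Cert_tree lc_d_rc_15_1 lc_d_rc_17_2 lc_d_rc_8_3 lc_d_rc_8_3 lc_d_rc_8_3 lc_d_rc_3_1 lc_d_rc_15_1 lc_d_rc_17_2 lc_d_rc_15_1 lc_d_Cert_tree lc_d_rc_16_4 lc_d_rc_15_1 lc_d_Cert_tree) (@D3.rec (fun _ => (Cert rels S Gen.d)) lc_d_rc_15_1 lc_d_Cert_tree lc_d_rc_15_1 lc_d_Cert_tree lc_d_Cert_tree lc_d_rc_23_8 lc_d_rc_15_1 lc_d_rc_15_1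 lc_d_Cert_tree lc_d_Cert_tree lc_d_Cert_tree lc_d_rc_15_1 lc_d_rc_17_2 lc_d_rc_23_2 lc_d_Cert_tree lc_d_rc_15_1 lc_d_Cert_tree lc_d_rc_15_1 lc_d_rc_27_8 lc_d_rc_15_1 lc_d_rc_15_1 lc_d_rc_17_2 lc_d_rc_17_2 lc_d_rc_15_1 lc_d_Cert_tree lc_d_rc_16_4 lc_d_rc_15_1 lc_d_rc_15_1 lc_d_Cert_tree lc_d_Cert_tree lc_d_rc_15_1 lc_d_rc_15_1 lc_d_Cert_tree lc_d_rc_16_2 lc_d_rc_15_1 lc_d_rc_15_1 lc_d_rc_15_1 lc_d_Cert_tree lc_d_rc_16_2 lc_d_rc_23_2 lc_d_rc_16_2 lc_d_Cert_tree lc_d_rc_16_4 lc_d_rc_23_8 lc_d_rc_15_1 lc_d_rc_16_4 lc_d_rc_16_0 lc_d_Cert_tree lc_d_rc_15_1 lc_d_rc_17_2 lc_d_rc_24_5 lc_d_rc_22_6 lc_d_rc_8_3 lc_d_rc_8_3 lc_d_rc_8_3 lc_d_rc_27_4 lc_d_rc_17_2 lc_d_rc_8_3 lc_d_rc_24_0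 lc_d_rc_16_4 lc_d_rc_15_1 lc_d_rc_15_1) (@D3.rec (fun _ => (Cert rels S Gen.d)) lc_d_Cert_tree lc_d_rc_16_4 lc_d_rc_15_1 lc_d_rc_15_1 lc_d_rc_15_1 lc_d_rc_15_1 lc_d_rc_22_8 lc_d_rc_17_2 lc_d_rc_27_2 lc_d_rc_23_2 lc_d_Cert_tree lc_d_rc_15_1 lc_d_rc_22_8 lc_d_rc_23_2 lc_d_Cert_tree lc_d_rc_17_2 lc_d_rc_16_2 lc_d_rc_24_5 lc_d_rc_8_3 lc_d_rc_8_3 lc_d_rc_16_4 lc_d_Cert_tree lc_d_rc_15_1 lc_d_rc_17_2 lc_d_rc_15_1 lc_d_rc_12_13 lc_d_Cert_tree lc_d_rc_16_4 lc_d_rc_24_5 lc_d_Cert_tree lc_d_rc_15_1 lc_d_Cert_tree lc_d_Cert_tree lc_d_rc_8_3 lc_d_Cert_tree lc_d_Cert_tree lc_d_rc_15_1 lc_d_rc_17_2 lc_d_rc_27_2 lc_d_rc_16_2 lc_d_rc_17_2 lc_d_rc_3_3 lc_d_Cert_tree lc_d_rc_15_1 lc_d_Cert_tree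 lc_d_rc_27_10 lc_d_rc_15_1 lc_d_rc_27_4 lc_d_Cert_tree lc_d_rc_15_1 lc_d_rc_15_1 lc_d_rc_8_3 lc_d_rc_22_4 lc_d_Cert_tree lc_d_rc_23_6 lc_d_rc_15_1 lc_d_Cert_tree lc_d_rc_27_2 lc_d_rc_8_3 lc_d_rc_15_1 lc_d_rc_27_4 lc_d_Cert_tree) (@D3.rec (fun _ => (Cert rels S Gen.d)) lc_d_Cert_tree lc_d_Cert_tree lc_d_rc_15_1 lc_d_Cert_tree lc_d_rc_22_8 lc_d_rc_27_8 lc_d_rc_8_3 lc_d_rc_16_0 lc_d_rc_15_1 lc_d_rc_17_2 lc_d_Cert_tree lc_d_Cert_tree lc_d_Cert_tree lc_d_rc_15_1 lc_d_rc_27_4 lc_d_rc_17_0 lc_d_Cert_tree lc_d_rc_15_1 lc_d_rc_8_3 lc_d_rc_16_2 lc_d_Cert_tree lc_d_rc_15_1 lc_d_rc_15_1 lc_d_rc_15_1 lc_d_Cert_tree lc_d_Cert_tree lc_d_rc_27_8 lc_d_rc_23_8 lc_d_rc_15_1 lc_d_rc_15_1 lc_d_Cert_tree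 lc_d_rc_27_10 lc_d_rc_15_1 lc_d_rc_8_3 lc_d_Cert_tree lc_d_rc_15_1 lc_d_rc_27_4 lc_d_rc_15_1 lc_d_rc_15_1 lc_d_Cert_tree lc_d_rc_15_1 lc_d_rc_23_8 lc_d_rc_23_2 lc_d_rc_15_1 lc_d_rc_15_1 lc_d_rc_3_3 lc_d_Cert_tree lc_d_rc_24_0 lc_d_Cert_tree lc_d_rc_17_2 lc_d_Cert_tree lc_d_Cert_tree lc_d_rc_15_1 lc_d_rc_15_1 lc_d_rc_15_1 lc_d_rc_27_2 lc_d_Cert_tree lc_d_rc_15_1 lc_d_Cert_tree lc_d_rc_15_1 lc_d_rc_24_0 lc_d_Cert_tree) (@D3.rec (fun _ => (Cert rels S Gen.d)) lc_d_Cert_tree lc_d_rc_15_1 lc_d_rc_17_2 lc_d_rc_15_1 lc_d_rc_3_1 lc_d_rc_15_1 lc_d_rc_27_2 lc_d_rc_17_2 lc_d_rc_8_1 lc_d_rc_22_2 lc_d_rc_15_1 lc_d_Cert_tree lc_d_rc_22_6 lc_d_rc_27_10 lc_d_rc_15_1 lc_d_rc_27_2 lc_d_rc_15_1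 lc_d_rc_27_4 lc_d_Cert_tree lc_d_rc_15_1 lc_d_rc_23_2 lc_d_rc_24_0 lc_d_rc_15_1 lc_d_rc_8_3 lc_d_rc_27_8 lc_d_rc_23_8 lc_d_rc_24_0 lc_d_rc_17_2 lc_d_rc_16_4 lc_d_rc_27_10 lc_d_rc_24_5 lc_d_rc_15_1 lc_d_rc_27_8 lc_d_rc_27_2 lc_d_rc_8_3 lc_d_rc_17_2 lc_d_rc_23_8 lc_d_rc_15_1 lc_d_rc_3_1 lc_d_rc_17_2 lc_d_rc_8_3 lc_d_rc_8_3 lc_d_rc_16_4 lc_d_rc_15_1 lc_d_rc_23_2 lc_d_rc_8_3 lc_d_rc_22_8 lc_d_Cert_tree lc_d_rc_15_1 lc_d_rc_3_3 lc_d_Cert_tree lc_d_rc_17_0 lc_d_rc_17_2 lc_d_rc_16_4 lc_d_rc_25_18 lc_d_rc_27_2 lc_d_rc_27_4 lc_d_rc_27_2 lc_d_rc_15_1 lc_d_rc_17_2 lc_d_Cert_tree lc_d_rc_15_1) (@D3.rec (fun _ => (Cert rels S Gen.d)) lc_d_Cert_tree lc_d_rc_8_3 lc_d_rc_16_4 lc_d_rc_8_3 lc_d_rc_27_4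 lc_d_rc_15_1 lc_d_rc_17_2 lc_d_rc_16_4 lc_d_rc_27_4 lc_d_rc_22_4 lc_d_rc_17_0 lc_d_rc_17_2 lc_d_rc_17_2 lc_d_rc_15_1 lc_d_Cert_tree lc_d_rc_3_3 lc_d_Cert_tree lc_d_rc_15_1 lc_d_rc_15_1 lc_d_rc_15_1 lc_d_rc_17_2 lc_d_Cert_tree lc_d_Cert_tree lc_d_Cert_tree lc_d_Cert_tree lc_d_rc_15_1 lc_d_rc_17_2 lc_d_rc_23_6 lc_d_Cert_tree lc_d_rc_15_1 lc_d_rc_27_4 lc_d_Cert_tree lc_d_Cert_tree lc_d_rc_15_1 lc_d_rc_8_1 lc_d_rc_16_4 lc_d_rc_15_1 lc_d_Cert_tree lc_d_rc_17_2 lc_d_rc_15_1 lc_d_Cert_tree lc_d_rc_16_4 lc_d_rc_24_5 lc_d_Cert_tree lc_d_rc_27_4 lc_d_rc_8_3 lc_d_Cert_tree lc_d_Cert_tree lc_d_Cert_tree lc_d_rc_15_1 lc_d_rc_17_2 lc_d_rc_16_4 lc_d_rc_15_1 lc_d_rc_16_4 lc_d_rc_15_1 lc_d_rc_15_1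 lc_d_rc_23_4 lc_d_rc_15_1 lc_d_Cert_tree lc_d_rc_15_1 lc_d_rc_8_3 lc_d_rc_16_4) (@D3.rec (fun _ => (Cert rels S Gen.d)) lc_d_rc_15_1 lc_d_Cert_tree lc_d_rc_15_1 lc_d_rc_3_3 lc_d_rc_3_3 lc_d_rc_15_1 lc_d_Cert_tree lc_d_rc_16_4 lc_d_rc_16_4 lc_d_rc_24_0 lc_d_Cert_tree lc_d_rc_27_2 lc_d_rc_24_5 lc_d_rc_15_1 lc_d_rc_16_4 lc_d_rc_8_3 lc_d_rc_27_4 lc_d_rc_15_1 lc_d_rc_15_1 lc_d_rc_17_2 lc_d_rc_15_1 lc_d_rc_15_1 lc_d_Cert_tree lc_d_rc_17_2 lc_d_Cert_tree lc_d_rc_22_6 lc_d_rc_8_3 lc_d_rc_25_18 lc_d_rc_24_5 lc_d_rc_15_1 lc_d_rc_15_1 lc_d_rc_15_1 lc_d_rc_8_3 lc_d_rc_15_1 lc_d_rc_15_1 lc_d_rc_15_1 lc_d_rc_17_2 lc_d_rc_15_1 lc_d_rc_16_4 lc_d_rc_15_1 lc_d_rc_3_1 lc_d_rc_16_4 lc_d_Cert_tree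 lc_d_rc_16_4 lc_d_Cert_tree lc_d_rc_16_4 lc_d_Cert_tree lc_d_Cert_tree lc_d_Cert_tree lc_d_rc_15_1 lc_d_rc_17_2 lc_d_rc_16_4 lc_d_rc_25_18 lc_d_Cert_tree lc_d_rc_15_1 lc_d_rc_16_4 lc_d_rc_8_3 lc_d_Cert_tree lc_d_rc_3_3 lc_d_rc_24_0 lc_d_rc_22_8 lc_d_rc_16_4) (@D3.rec (fun _ => (Cert rels S Gen.d)) lc_d_rc_15_1 lc_d_rc_24_0 lc_d_Cert_tree lc_d_Cert_tree lc_d_rc_15_1 lc_d_rc_27_10 lc_d_rc_16_4 lc_d_rc_15_1 lc_d_rc_15_1 lc_d_Cert_tree lc_d_rc_15_1 lc_d_Cert_tree lc_d_rc_15_1 lc_d_rc_17_2 lc_d_rc_15_1 lc_d_Cert_tree lc_d_rc_27_2 lc_d_rc_15_1 lc_d_Cert_tree lc_d_rc_15_1 lc_d_rc_24_0 lc_d_Cert_tree lc_d_rc_17_2 lc_d_rc_8_3 lc_d_rc_16_4 lc_d_rc_23_4 lc_d_rc_16_4 lc_d_Cert_tree lc_d_Cert_tree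 lc_d_Cert_tree lc_d_rc_15_1 lc_d_rc_17_2 lc_d_rc_15_1 lc_d_rc_15_1 lc_d_rc_3_3 lc_d_rc_15_1 lc_d_Cert_tree lc_d_rc_17_2 lc_d_rc_15_1 lc_d_rc_27_2 lc_d_rc_23_8 lc_d_rc_15_1 lc_d_Cert_tree lc_d_rc_15_1 lc_d_rc_8_3 lc_d_Cert_tree lc_d_rc_27_2 lc_d_rc_17_0 lc_d_rc_27_8 lc_d_Cert_tree lc_d_rc_8_1 lc_d_rc_8_3 lc_d_rc_15_1 lc_d_rc_15_1 lc_d_Cert_tree lc_d_rc_15_1 lc_d_Cert_tree lc_d_rc_16_4 lc_d_rc_8_3 lc_d_Cert_tree lc_d_Cert_tree lc_d_Cert_tree) (@D3.rec (fun _ => (Cert rels S Gen.d)) lc_d_Cert_tree lc_d_Cert_tree lc_d_rc_15_1 lc_d_rc_17_2 lc_d_rc_15_1 lc_d_Cert_tree lc_d_rc_16_4 lc_d_Cert_tree lc_d_rc_8_3 lc_d_rc_23_2 lc_d_Cert_tree lc_d_rc_15_1 lc_d_rc_3_1 lc_d_rc_3_1 lc_d_rc_15_1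 lc_d_Cert_tree lc_d_rc_27_10 lc_d_rc_15_1 lc_d_Cert_tree lc_d_rc_16_4 lc_d_rc_15_1 lc_d_rc_15_1 lc_d_rc_25_18 lc_d_rc_15_1 lc_d_rc_17_0 lc_d_rc_15_1 lc_d_rc_3_3 lc_d_rc_8_3 lc_d_rc_15_1 lc_d_rc_16_4 lc_d_rc_3_3 lc_d_rc_15_1 lc_d_rc_22_4 lc_d_Cert_tree lc_d_rc_15_1 lc_d_rc_12_1 lc_d_rc_24_5 lc_d_rc_15_1 lc_d_rc_22_2 lc_d_rc_23_2 lc_d_Cert_tree lc_d_rc_17_2 lc_d_rc_15_1 lc_d_rc_23_2 lc_d_rc_16_2 lc_d_rc_15_1 lc_d_rc_16_4 lc_d_rc_15_1 lc_d_rc_15_1 lc_d_rc_22_2 lc_d_Cert_tree lc_d_rc_15_1 lc_d_rc_15_1 lc_d_rc_17_2 lc_d_Cert_tree lc_d_rc_17_2 lc_d_rc_15_1 lc_d_rc_3_3 lc_d_Cert_tree lc_d_Cert_tree lc_d_Cert_tree lc_d_rc_17_2) (@D3.rec (fun _ => (Cert rels S Gen.d)) lc_d_rc_16_4 lc_d_rc_22_6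 lc_d_Cert_tree lc_d_rc_25_18 lc_d_rc_24_0 lc_d_Cert_tree lc_d_rc_8_3 lc_d_rc_23_8 lc_d_rc_15_1 lc_d_rc_3_3 lc_d_rc_8_3 lc_d_rc_16_4 lc_d_rc_15_1 lc_d_Cert_tree lc_d_rc_16_4 lc_d_rc_8_3 lc_d_rc_16_4 lc_d_Cert_tree lc_d_rc_15_1 lc_d_rc_17_2 lc_d_rc_16_4 lc_d_rc_23_2 lc_d_rc_8_3 lc_d_rc_23_4 lc_d_Cert_tree lc_d_Cert_tree lc_d_rc_17_2 lc_d_rc_16_4 lc_d_rc_27_4 lc_d_Cert_tree lc_d_Cert_tree lc_d_rc_15_1 lc_d_rc_17_2 lc_d_rc_15_1 lc_d_rc_15_1 lc_d_rc_15_1 lc_d_rc_22_8 lc_d_rc_15_1 lc_d_rc_3_3 lc_d_Cert_tree lc_d_Cert_tree lc_d_Cert_tree lc_d_rc_15_1 lc_d_rc_3_3 lc_d_Cert_tree lc_d_rc_15_1 lc_d_rc_27_8 lc_d_rc_15_1 lc_d_rc_16_4 lc_d_rc_17_2 lc_d_rc_17_2 lc_d_rc_16_4 lc_d_rc_24_5 lc_d_Cert_tree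 lc_d_Cert_tree lc_d_rc_23_2 lc_d_rc_16_4 lc_d_Cert_tree lc_d_Cert_tree lc_d_Cert_tree lc_d_Cert_tree lc_d_rc_15_1) (@D3.rec (fun _ => (Cert rels S Gen.d)) lc_d_rc_17_2 lc_d_Cert_tree lc_d_Cert_tree lc_d_rc_15_1 lc_d_rc_27_4 lc_d_Cert_tree lc_d_Cert_tree lc_d_rc_15_1 lc_d_rc_27_2 lc_d_rc_16_4 lc_d_rc_17_2 lc_d_rc_23_8 lc_d_rc_15_1 lc_d_rc_17_2 lc_d_rc_15_1 lc_d_Cert_tree lc_d_Cert_tree lc_d_Cert_tree lc_d_Cert_tree lc_d_rc_15_1 lc_d_rc_17_2 lc_d_Cert_tree lc_d_rc_15_1 lc_d_Cert_tree lc_d_rc_15_1 lc_d_rc_3_1 lc_d_Cert_tree lc_d_rc_17_2 lc_d_Cert_tree lc_d_Cert_tree lc_d_rc_22_2 lc_d_rc_17_2 lc_d_rc_15_1 lc_d_rc_27_4 lc_d_Cert_tree lc_d_rc_15_1 lc_d_Cert_tree lc_d_rc_15_1 lc_d_Cert_tree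 lc_d_rc_25_18 lc_d_rc_3_3 lc_d_rc_3_1 lc_d_rc_15_1 lc_d_Cert_tree lc_d_Cert_tree lc_d_rc_15_1 lc_d_rc_17_2 lc_d_rc_24_5 lc_d_rc_24_0 lc_d_rc_24_0 lc_d_Cert_tree lc_d_rc_16_4 lc_d_Cert_tree lc_d_rc_15_1 lc_d_rc_23_4 lc_d_rc_8_3 lc_d_Cert_tree lc_d_Cert_tree lc_d_rc_24_5 lc_d_rc_24_5 lc_d_rc_15_1 lc_d_rc_17_2) (@D3.rec (fun _ => (Cert rels S Gen.d)) lc_d_Cert_tree lc_d_Cert_tree lc_d_rc_15_1 lc_d_Cert_tree lc_d_rc_8_1 lc_d_Cert_tree lc_d_rc_15_1 lc_d_rc_27_4 lc_d_Cert_tree lc_d_Cert_tree lc_d_Cert_tree lc_d_rc_17_2 lc_d_rc_15_1 lc_d_Cert_tree lc_d_rc_22_6 lc_d_rc_15_1 lc_d_rc_27_4 lc_d_Cert_tree lc_d_Cert_tree lc_d_rc_15_1 lc_d_rc_17_2 lc_d_rc_15_1 lc_d_rc_8_3 lc_d_Cert_tree lc_d_rc_27_2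 lc_d_Cert_tree lc_d_rc_15_1 lc_d_rc_17_2 lc_d_Cert_tree lc_d_rc_15_1 lc_d_rc_27_2 lc_d_Cert_tree lc_d_rc_15_1 lc_d_rc_27_8 lc_d_Cert_tree lc_d_rc_15_1 lc_d_rc_27_4 lc_d_rc_15_1 lc_d_Cert_tree lc_d_rc_16_4 lc_d_Cert_tree lc_d_rc_16_4 lc_d_Cert_tree lc_d_Cert_tree lc_d_Cert_tree lc_d_Cert_tree lc_d_rc_15_1 lc_d_rc_17_0 lc_d_Cert_tree lc_d_rc_3_3 lc_d_rc_8_3 lc_d_rc_15_1 lc_d_rc_27_4 lc_d_rc_15_1 lc_d_rc_16_2 lc_d_rc_16_4 lc_d_rc_22_4 lc_d_Cert_tree lc_d_Cert_tree lc_d_Cert_tree lc_d_rc_15_1 lc_d_rc_22_2) (@D3.rec (fun _ => (Cert rels S Gen.d)) lc_d_rc_17_2 lc_d_Cert_tree lc_d_rc_15_1 lc_d_Cert_tree lc_d_rc_15_1 lc_d_rc_16_4 lc_d_rc_17_2 lc_d_rc_15_1 lc_d_rc_15_1 lc_d_rc_15_1 lc_d_rc_12_1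 lc_d_rc_16_4 lc_d_rc_8_3 lc_d_rc_16_4 lc_d_Cert_tree lc_d_rc_15_1 lc_d_rc_15_1 lc_d_rc_15_1 lc_d_rc_15_1 lc_d_rc_17_2 lc_d_rc_17_0 lc_d_Cert_tree lc_d_rc_8_3 lc_d_rc_23_2 lc_d_rc_23_2 lc_d_Cert_tree lc_d_rc_23_2 lc_d_rc_15_1 lc_d_rc_8_1 lc_d_rc_24_0 lc_d_rc_23_6 lc_d_rc_15_1 lc_d_rc_17_2 lc_d_rc_17_2 lc_d_rc_15_1 lc_d_rc_15_1 lc_d_rc_15_1 lc_d_Cert_tree lc_d_rc_15_1 lc_d_rc_16_4 lc_d_rc_8_1 lc_d_rc_16_2 lc_d_rc_27_2 lc_d_rc_22_4 lc_d_rc_16_4 lc_d_Cert_tree lc_d_Cert_tree lc_d_rc_15_1 lc_d_rc_27_2 lc_d_Cert_tree lc_d_rc_15_1 lc_d_Cert_tree lc_d_rc_24_0 lc_d_rc_15_1 lc_d_Cert_tree lc_d_rc_3_3 lc_d_rc_17_2 lc_d_rc_8_3 lc_d_rc_8_3 lc_d_rc_15_1 lc_d_rc_3_3 lc_d_rc_15_1) (@D3.rec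 (fun _ => (Cert rels S Gen.d)) lc_d_rc_8_3 lc_d_rc_15_1 lc_d_rc_15_1 lc_d_rc_15_1 lc_d_rc_22_8 lc_d_rc_8_3 lc_d_rc_8_3 lc_d_rc_22_4 lc_d_rc_8_3 lc_d_rc_3_3 lc_d_rc_15_1 lc_d_rc_8_3 lc_d_rc_23_4 lc_d_rc_15_1 lc_d_rc_8_3 lc_d_rc_24_5 lc_d_rc_15_1 lc_d_rc_15_1 lc_d_rc_17_2 lc_d_rc_23_4 lc_d_rc_8_1 lc_d_rc_15_1 lc_d_Cert_tree lc_d_Cert_tree lc_d_rc_15_1 lc_d_rc_17_2 lc_d_rc_23_8 lc_d_rc_17_2 lc_d_rc_15_1 lc_d_rc_16_4 lc_d_rc_15_1 lc_d_rc_15_1 lc_d_rc_16_2 lc_d_rc_15_1 lc_d_Cert_tree lc_d_rc_8_1 lc_d_rc_27_2 lc_d_Cert_tree lc_d_Cert_tree lc_d_rc_3_3 lc_d_rc_8_3 lc_d_rc_17_2 lc_d_rc_8_3 lc_d_rc_22_4 lc_d_rc_15_1 lc_d_rc_15_1 lc_d_rc_17_2 lc_d_rc_24_5 lc_d_Cert_tree lc_d_Cert_tree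 lc_d_Cert_tree lc_d_rc_17_2 lc_d_Cert_tree lc_d_rc_15_1 lc_d_rc_27_2 lc_d_rc_3_1 lc_d_rc_15_1 lc_d_rc_23_4 lc_d_rc_24_0 lc_d_rc_15_1 lc_d_rc_15_1 lc_d_rc_17_2) (@D3.rec (fun _ => (Cert rels S Gen.d)) lc_d_Cert_tree lc_d_rc_16_4 lc_d_rc_17_2 lc_d_rc_15_1 lc_d_Cert_tree lc_d_rc_8_3 lc_d_rc_23_2 lc_d_rc_8_3 lc_d_Cert_tree lc_d_rc_15_1 lc_d_Cert_tree lc_d_rc_15_1 lc_d_rc_15_1 lc_d_rc_17_2 lc_d_rc_15_1 lc_d_rc_3_3 lc_d_rc_15_1 lc_d_rc_17_0 lc_d_rc_27_4 lc_d_rc_16_4 lc_d_Cert_tree lc_d_Cert_tree lc_d_rc_22_4 lc_d_rc_8_3 lc_d_Cert_tree lc_d_rc_24_5 lc_d_rc_22_8 lc_d_Cert_tree lc_d_Cert_tree lc_d_rc_15_1 lc_d_rc_17_2 lc_d_Cert_tree lc_d_Cert_tree lc_d_rc_15_1 lc_d_Cert_tree lc_d_rc_15_1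 lc_d_rc_16_2 lc_d_Cert_tree lc_d_rc_15_1 lc_d_rc_15_1 lc_d_rc_8_3 lc_d_rc_15_1 lc_d_rc_15_1 lc_d_rc_8_3 lc_d_rc_27_4 lc_d_Cert_tree lc_d_rc_15_1 lc_d_Cert_tree lc_d_Cert_tree lc_d_Cert_tree lc_d_rc_15_1 lc_d_Cert_tree lc_d_rc_15_1 lc_d_rc_24_0 lc_d_rc_15_1 lc_d_rc_23_4 lc_d_rc_15_1 lc_d_Cert_tree lc_d_rc_15_1 lc_d_rc_24_0 lc_d_rc_23_8 lc_d_rc_8_3) (@D3.rec (fun _ => (Cert rels S Gen.d)) lc_d_rc_15_1 lc_d_Cert_tree lc_d_Cert_tree lc_d_Cert_tree lc_d_Cert_tree lc_d_rc_15_1 lc_d_rc_17_2 lc_d_Cert_tree lc_d_rc_27_4 lc_d_Cert_tree lc_d_rc_27_8 lc_d_rc_15_1 lc_d_rc_24_0 lc_d_rc_16_4 lc_d_rc_15_1 lc_d_rc_25_14 lc_d_rc_15_1 lc_d_rc_15_1 lc_d_Cert_tree lc_d_rc_15_1 lc_d_Cert_tree lc_d_rc_15_1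 lc_d_rc_24_0 lc_d_rc_3_1 lc_d_rc_15_1 lc_d_rc_16_4 lc_d_rc_25_2 lc_d_rc_23_6 lc_d_Cert_tree lc_d_Cert_tree lc_d_rc_15_1 lc_d_rc_8_1 lc_d_Cert_tree lc_d_Cert_tree lc_d_rc_22_8 lc_d_Cert_tree lc_d_rc_27_4 lc_d_rc_17_2 lc_d_rc_15_1 lc_d_rc_17_2 lc_d_rc_8_3 lc_d_Cert_tree lc_d_Cert_tree lc_d_Cert_tree lc_d_rc_15_1 lc_d_rc_17_2 lc_d_Cert_tree lc_d_rc_15_1 lc_d_Cert_tree lc_d_Cert_tree lc_d_rc_15_1 lc_d_rc_23_6 lc_d_rc_22_2 lc_d_rc_22_8 lc_d_Cert_tree lc_d_rc_17_2 lc_d_rc_16_4 lc_d_rc_23_8 lc_d_rc_15_1 lc_d_Cert_tree lc_d_Cert_tree lc_d_rc_17_2) (@D3.rec (fun _ => (Cert rels S Gen.d)) lc_d_rc_15_1 lc_d_rc_17_2 lc_d_Cert_tree lc_d_rc_15_1 lc_d_rc_27_2 lc_d_rc_8_3 lc_d_rc_15_1 lc_d_rc_17_2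 lc_d_rc_17_0 lc_d_rc_27_2 lc_d_rc_27_2 lc_d_rc_8_3 lc_d_rc_24_0 lc_d_rc_27_8 lc_d_rc_15_1 lc_d_rc_15_1 lc_d_Cert_tree lc_d_rc_17_2 lc_d_rc_8_3 lc_d_rc_15_1 lc_d_rc_15_1 lc_d_Cert_tree lc_d_rc_15_1 lc_d_rc_27_8 lc_d_rc_15_1 lc_d_rc_16_2 lc_d_rc_23_4 lc_d_rc_27_4 lc_d_rc_23_6 lc_d_rc_8_3 lc_d_rc_16_4 lc_d_rc_23_8 lc_d_rc_16_4 lc_d_Cert_tree lc_d_rc_15_1 lc_d_rc_3_3 lc_d_rc_27_4 lc_d_rc_15_1 lc_d_rc_15_1 lc_d_rc_15_1 lc_d_rc_16_2 lc_d_Cert_tree lc_d_rc_15_1 lc_d_rc_15_1 lc_d_rc_15_1 lc_d_Cert_tree lc_d_rc_15_1 lc_d_Cert_tree lc_d_rc_8_1 lc_d_rc_27_4 lc_d_rc_22_4 lc_d_rc_22_8 lc_d_rc_16_4 lc_d_rc_3_3 lc_d_rc_23_6 lc_d_rc_23_4 lc_d_rc_24_0 lc_d_rc_8_3 lc_d_rc_22_6 lc_d_rc_16_4 lc_d_rc_3_3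 lc_d_rc_17_2) (@D3.rec (fun _ => (Cert rels S Gen.d)) lc_d_rc_8_3 lc_d_rc_8_1 lc_d_rc_8_3 lc_d_rc_23_8 lc_d_rc_23_8 lc_d_rc_27_10 lc_d_rc_15_1 lc_d_rc_15_1 lc_d_rc_23_4 lc_d_rc_8_3 lc_d_rc_15_1 lc_d_rc_3_3 lc_d_Cert_tree lc_d_rc_8_3 lc_d_Cert_tree lc_d_rc_15_1 lc_d_Cert_tree lc_d_rc_15_1 lc_d_rc_22_8 lc_d_rc_8_3 lc_d_rc_15_1 lc_d_rc_8_3 lc_d_rc_23_4 lc_d_rc_17_2 lc_d_rc_22_4 lc_d_rc_15_1 lc_d_rc_23_2 lc_d_rc_16_4 lc_d_rc_27_10 lc_d_rc_27_2 lc_d_Cert_tree lc_d_rc_23_8 lc_d_rc_23_2 lc_d_rc_8_3 lc_d_rc_17_2 lc_d_rc_15_1 lc_d_rc_15_1 lc_d_rc_3_3 lc_d_rc_15_1 lc_d_Cert_tree lc_d_rc_8_3 lc_d_Cert_tree lc_d_rc_8_1 lc_d_rc_15_1 lc_d_Cert_tree lc_d_rc_15_1 lc_d_Cert_tree lc_d_Cert_tree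 lc_d_rc_16_4 lc_d_rc_17_2 lc_d_rc_23_6 lc_d_rc_17_2 lc_d_rc_8_3 lc_d_Cert_tree lc_d_rc_15_1 lc_d_rc_22_4 lc_d_rc_16_4 lc_d_Cert_tree lc_d_rc_15_1 lc_d_Cert_tree lc_d_rc_23_2 lc_d_Cert_tree) (@D3.rec (fun _ => (Cert rels S Gen.d)) lc_d_rc_8_3 lc_d_rc_24_0 lc_d_rc_3_3 lc_d_rc_8_3 lc_d_rc_15_1 lc_d_rc_24_0 lc_d_rc_17_0 lc_d_Cert_tree lc_d_rc_16_2 lc_d_rc_3_3 lc_d_Cert_tree lc_d_rc_16_2 lc_d_rc_22_4 lc_d_rc_16_4 lc_d_rc_23_8 lc_d_Cert_tree lc_d_rc_15_1 lc_d_Cert_tree lc_d_Cert_tree lc_d_Cert_tree lc_d_rc_3_3 lc_d_rc_8_3 lc_d_rc_16_4 lc_d_rc_15_1 lc_d_rc_8_3 lc_d_rc_15_1 lc_d_rc_22_6 lc_d_rc_3_3 lc_d_Cert_tree lc_d_Cert_tree lc_d_rc_8_3 lc_d_rc_17_2 lc_d_Cert_tree lc_d_rc_15_1 lc_d_rc_27_4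 lc_d_Cert_tree lc_d_rc_15_1 lc_d_Cert_tree lc_d_rc_12_1 lc_d_rc_15_1 lc_d_rc_17_2 lc_d_Cert_tree lc_d_rc_16_4 lc_d_rc_16_4 lc_d_Cert_tree lc_d_rc_15_1 lc_d_rc_15_1 lc_d_Cert_tree lc_d_rc_15_1 lc_d_rc_17_2 lc_d_Cert_tree lc_d_rc_22_8 lc_d_rc_16_2 lc_d_rc_8_3 lc_d_rc_24_5 lc_d_Cert_tree lc_d_rc_15_1 lc_d_rc_15_1 lc_d_rc_8_3 lc_d_rc_23_2 lc_d_rc_15_1 lc_d_Cert_tree) (@D3.rec (fun _ => (Cert rels S Gen.d)) lc_d_rc_15_1 lc_d_rc_17_2 lc_d_Cert_tree lc_d_rc_15_1 lc_d_Cert_tree lc_d_rc_15_1 lc_d_rc_17_2 lc_d_rc_15_1 lc_d_rc_15_1 lc_d_rc_16_4 lc_d_rc_15_1 lc_d_rc_15_1 lc_d_rc_17_2 lc_d_rc_15_1 lc_d_rc_23_6 lc_d_rc_23_6 lc_d_rc_8_3 lc_d_rc_15_1 lc_d_Cert_tree lc_d_rc_27_8 lc_d_rc_3_3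 lc_d_Cert_tree lc_d_rc_8_3 lc_d_Cert_tree lc_d_rc_15_1 lc_d_rc_24_0 lc_d_Cert_tree lc_d_Cert_tree lc_d_rc_15_1 lc_d_rc_23_6 lc_d_rc_15_1 lc_d_rc_17_2 lc_d_rc_8_3 lc_d_rc_27_8 lc_d_Cert_tree lc_d_Cert_tree lc_d_rc_8_3 lc_d_rc_27_4 lc_d_rc_27_8 lc_d_rc_15_1 lc_d_rc_8_3 lc_d_Cert_tree lc_d_rc_3_3 lc_d_rc_15_1 lc_d_rc_23_6 lc_d_rc_15_1 lc_d_rc_17_2 lc_d_rc_24_0 lc_d_rc_15_1 lc_d_Cert_tree lc_d_rc_15_1 lc_d_Cert_tree lc_d_rc_15_1 lc_d_rc_23_4 lc_d_rc_16_4 lc_d_Cert_tree lc_d_Cert_tree lc_d_rc_15_1 lc_d_rc_15_1 lc_d_rc_15_1 lc_d_Cert_tree lc_d_rc_23_8) (@D3.rec (fun _ => (Cert rels S Gen.d)) lc_d_rc_15_1 lc_d_rc_8_3 lc_d_rc_24_5 lc_d_Cert_tree lc_d_rc_15_1 lc_d_rc_22_4 lc_d_rc_22_2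 lc_d_rc_15_1 lc_d_rc_12_1 lc_d_rc_15_1 lc_d_rc_23_8 lc_d_rc_16_0 lc_d_Cert_tree lc_d_Cert_tree lc_d_rc_15_1 lc_d_rc_24_0 lc_d_rc_15_1 lc_d_rc_22_6 lc_d_rc_15_1 lc_d_Cert_tree lc_d_Cert_tree lc_d_rc_15_1 lc_d_rc_17_2 lc_d_Cert_tree lc_d_rc_15_1 lc_d_rc_27_4 lc_d_rc_15_1 lc_d_rc_27_4 lc_d_Cert_tree lc_d_rc_15_1 lc_d_rc_22_6 lc_d_rc_15_1 lc_d_rc_8_3 lc_d_Cert_tree lc_d_rc_15_1 lc_d_rc_27_4 lc_d_rc_15_1 lc_d_rc_27_4 lc_d_rc_27_10 lc_d_rc_23_4 lc_d_rc_15_1 lc_d_rc_27_8 lc_d_rc_24_0 lc_d_rc_23_8 lc_d_Cert_tree lc_d_Cert_tree lc_d_rc_15_1 lc_d_rc_15_1 lc_d_Cert_tree lc_d_Cert_tree lc_d_rc_15_1 lc_d_rc_15_1 lc_d_rc_24_0 lc_d_Cert_tree lc_d_rc_15_1 lc_d_rc_24_5 lc_d_rc_15_1 lc_d_rc_17_2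 lc_d_rc_8_3 lc_d_rc_3_1 lc_d_rc_24_5 lc_d_rc_23_2) (@D3.rec (fun _ => (Cert rels S Gen.d)) lc_d_rc_3_3 lc_d_Cert_tree lc_d_rc_15_1 lc_d_rc_15_1 lc_d_rc_8_3 lc_d_rc_27_4 lc_d_rc_15_1 lc_d_Cert_tree lc_d_Cert_tree lc_d_rc_15_1 lc_d_rc_16_0 lc_d_rc_8_1 lc_d_rc_8_3 lc_d_Cert_tree lc_d_Cert_tree lc_d_Cert_tree lc_d_Cert_tree lc_d_Cert_tree lc_d_rc_15_1 lc_d_rc_8_3 lc_d_Cert_tree lc_d_rc_8_3 lc_d_Cert_tree lc_d_Cert_tree lc_d_Cert_tree lc_d_rc_15_1 lc_d_rc_17_2 lc_d_rc_22_6 lc_d_rc_25_6 lc_d_rc_15_1 lc_d_Cert_tree lc_d_rc_8_3 lc_d_rc_15_1 lc_d_Cert_tree lc_d_rc_15_1 lc_d_rc_27_8 lc_d_rc_15_1 lc_d_rc_3_3 lc_d_rc_8_3 lc_d_rc_3_3 lc_d_rc_16_4 lc_d_rc_23_4 lc_d_rc_17_2 lc_d_rc_23_2 lc_d_rc_8_1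 lc_d_rc_8_3 lc_d_rc_15_1 lc_d_rc_8_3 lc_d_rc_24_0 lc_d_rc_24_5 lc_d_rc_27_4 lc_d_Cert_tree lc_d_rc_15_1 lc_d_rc_23_4 lc_d_rc_22_2 lc_d_Cert_tree lc_d_rc_24_0 lc_d_rc_16_4 lc_d_rc_15_1 lc_d_rc_17_2 lc_d_rc_23_8 lc_d_rc_25_2) (@D3.rec (fun _ => (Cert rels S Gen.d)) lc_d_rc_8_3 lc_d_rc_22_2 lc_d_rc_27_2 lc_d_rc_16_2 lc_d_rc_23_2 lc_d_rc_8_1 lc_d_rc_22_2 lc_d_rc_24_0 lc_d_rc_15_1 lc_d_Cert_tree lc_d_rc_24_5 lc_d_rc_15_1 lc_d_rc_23_8 lc_d_rc_15_1 lc_d_Cert_tree lc_d_Cert_tree lc_d_rc_24_5 lc_d_rc_15_1 lc_d_Cert_tree lc_d_rc_15_1 lc_d_Cert_tree lc_d_rc_15_1 lc_d_rc_24_0 lc_d_Cert_tree lc_d_Cert_tree lc_d_Cert_tree lc_d_rc_15_1 lc_d_rc_17_2 lc_d_Cert_tree lc_d_rc_15_1 lc_d_rc_17_2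 lc_d_Cert_tree lc_d_rc_15_1 lc_d_rc_15_1 lc_d_rc_27_8 lc_d_rc_24_5 lc_d_rc_23_6 lc_d_rc_15_1 lc_d_rc_17_2 lc_d_Cert_tree lc_d_rc_15_1 lc_d_Cert_tree lc_d_rc_25_2 lc_d_rc_24_0 lc_d_rc_16_2 lc_d_rc_15_1 lc_d_rc_15_1 lc_d_Cert_tree lc_d_rc_22_8 lc_d_rc_22_6 lc_d_rc_23_8 lc_d_Cert_tree lc_d_rc_15_1 lc_d_rc_8_1 lc_d_Cert_tree lc_d_rc_15_1 lc_d_rc_15_1 lc_d_Cert_tree lc_d_rc_17_2 lc_d_Cert_tree lc_d_Cert_tree lc_d_rc_8_3) (@D3.rec (fun _ => (Cert rels S Gen.d)) lc_d_Cert_tree lc_d_Cert_tree lc_d_rc_15_1 lc_d_rc_8_3 lc_d_rc_8_3 lc_d_Cert_tree lc_d_Cert_tree lc_d_rc_17_2 lc_d_rc_24_5 lc_d_rc_15_1 lc_d_rc_27_4 lc_d_Cert_tree lc_d_rc_15_1 lc_d_Cert_tree lc_d_Cert_tree lc_d_rc_15_1 lc_d_rc_27_8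 lc_d_rc_22_8 lc_d_rc_15_1 lc_d_rc_22_2 lc_d_rc_27_2 lc_d_rc_15_1 lc_d_rc_22_2 lc_d_rc_3_3 lc_d_rc_24_0 lc_d_Cert_tree lc_d_rc_15_1 lc_d_rc_23_4 lc_d_rc_15_1 lc_d_rc_23_2 lc_d_rc_15_1 lc_d_rc_15_1 lc_d_rc_27_2 lc_d_rc_3_1 lc_d_rc_8_3 lc_d_Cert_tree lc_d_Cert_tree lc_d_rc_15_1 lc_d_Cert_tree lc_d_rc_23_8 lc_d_rc_17_2 lc_d_rc_8_3 lc_d_rc_27_4 lc_d_rc_15_1 lc_d_rc_22_2 lc_d_Cert_tree lc_d_rc_15_1 lc_d_rc_15_1 lc_d_Cert_tree lc_d_rc_15_1 lc_d_rc_17_2 lc_d_Cert_tree lc_d_rc_15_1 lc_d_rc_16_2 lc_d_Cert_tree lc_d_rc_16_4 lc_d_Cert_tree lc_d_rc_27_2 lc_d_Cert_tree lc_d_Cert_tree lc_d_Cert_tree lc_d_rc_15_1) (@D3.rec (fun _ => (Cert rels S Gen.d)) lc_d_rc_22_2 lc_d_rc_3_3 lc_d_rc_24_5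 lc_d_Cert_tree lc_d_rc_15_1 lc_d_Cert_tree lc_d_rc_22_4 lc_d_rc_8_3 lc_d_rc_15_1 lc_d_Cert_tree lc_d_rc_24_0 lc_d_rc_15_1 lc_d_Cert_tree lc_d_rc_23_2 lc_d_rc_15_1 lc_d_rc_27_2 lc_d_rc_23_8 lc_d_rc_8_3 lc_d_rc_16_2 lc_d_Cert_tree lc_d_Cert_tree lc_d_rc_15_1 lc_d_rc_17_2 lc_d_rc_17_2 lc_d_rc_17_2 lc_d_rc_15_1 lc_d_rc_24_5 lc_d_rc_15_1 lc_d_Cert_tree lc_d_rc_3_3 lc_d_rc_15_1 lc_d_rc_15_1 lc_d_rc_8_1 lc_d_rc_22_4 lc_d_Cert_tree lc_d_rc_15_1 lc_d_rc_12_1 lc_d_Cert_tree lc_d_rc_15_1 lc_d_rc_15_1 lc_d_rc_22_2 lc_d_rc_23_4 lc_d_rc_3_1 lc_d_rc_16_0 lc_d_rc_17_2 lc_d_rc_22_6 lc_d_rc_8_3 lc_d_rc_15_1 lc_d_rc_16_4 lc_d_rc_24_5 lc_d_Cert_tree lc_d_Cert_tree lc_d_rc_15_1 lc_d_rc_27_4 lc_d_rc_24_5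 lc_d_rc_12_15 lc_d_Cert_tree lc_d_rc_23_2 lc_d_Cert_tree lc_d_rc_15_1 lc_d_Cert_tree lc_d_rc_23_8) (@D3.rec (fun _ => (Cert rels S Gen.d)) lc_d_rc_23_8 lc_d_rc_15_1 lc_d_rc_17_2 lc_d_rc_23_6 lc_d_Cert_tree lc_d_rc_24_5 lc_d_rc_23_8 lc_d_rc_8_3 lc_d_Cert_tree lc_d_Cert_tree lc_d_Cert_tree lc_d_rc_15_1 lc_d_rc_17_2 lc_d_rc_27_2 lc_d_rc_15_1 lc_d_Cert_tree lc_d_rc_23_8 lc_d_rc_15_1 lc_d_Cert_tree lc_d_rc_15_1 lc_d_rc_3_3 lc_d_Cert_tree lc_d_rc_17_2 lc_d_rc_3_3 lc_d_rc_17_2 lc_d_Cert_tree lc_d_Cert_tree lc_d_Cert_tree lc_d_rc_15_1 lc_d_rc_17_2 lc_d_rc_16_4 lc_d_rc_23_4 lc_d_Cert_tree lc_d_rc_17_2 lc_d_rc_24_0 lc_d_rc_15_1 lc_d_Cert_tree lc_d_Cert_tree lc_d_Cert_tree lc_d_rc_15_1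 lc_d_rc_17_2 lc_d_Cert_tree lc_d_Cert_tree lc_d_rc_15_1 lc_d_Cert_tree lc_d_Cert_tree lc_d_Cert_tree lc_d_rc_15_1 lc_d_Cert_tree lc_d_Cert_tree lc_d_Cert_tree lc_d_rc_17_2 lc_d_Cert_tree lc_d_Cert_tree lc_d_Cert_tree lc_d_rc_15_1 lc_d_Cert_tree lc_d_rc_15_1 lc_d_Cert_tree lc_d_rc_3_3 lc_d_rc_15_1 lc_d_rc_3_3) (@D3.rec (fun _ => (Cert rels S Gen.d)) lc_d_Cert_tree lc_d_rc_15_1 lc_d_Cert_tree lc_d_Cert_tree lc_d_rc_17_2 lc_d_rc_15_1 lc_d_Cert_tree lc_d_rc_3_3 lc_d_rc_17_2 lc_d_Cert_tree lc_d_rc_15_1 lc_d_rc_17_2 lc_d_rc_8_1 lc_d_rc_15_1 lc_d_rc_16_2 lc_d_rc_8_3 lc_d_rc_15_1 lc_d_Cert_tree lc_d_Cert_tree lc_d_Cert_tree lc_d_Cert_tree lc_d_rc_15_1 lc_d_rc_24_5 lc_d_Cert_tree lc_d_rc_15_1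 lc_d_Cert_tree lc_d_rc_15_1 lc_d_Cert_tree lc_d_rc_15_1 lc_d_Cert_tree lc_d_rc_15_1 lc_d_Cert_tree lc_d_rc_16_4 lc_d_rc_15_1 lc_d_rc_8_1 lc_d_rc_15_1 lc_d_Cert_tree lc_d_Cert_tree lc_d_rc_15_1 lc_d_Cert_tree lc_d_rc_15_1 lc_d_Cert_tree lc_d_Cert_tree lc_d_rc_15_1 lc_d_Cert_tree lc_d_rc_22_6 lc_d_Cert_tree lc_d_rc_15_1 lc_d_rc_15_1 lc_d_Cert_tree lc_d_Cert_tree lc_d_rc_15_1 lc_d_Cert_tree lc_d_rc_15_1 lc_d_Cert_tree lc_d_Cert_tree lc_d_rc_3_1 lc_d_rc_15_1 lc_d_rc_24_5 lc_d_Cert_tree lc_d_rc_16_4 lc_d_Cert_tree) (@D3.rec (fun _ => (Cert rels S Gen.d)) lc_d_Cert_tree lc_d_Cert_tree lc_d_Cert_tree lc_d_rc_15_1 lc_d_rc_15_1 lc_d_Cert_tree lc_d_Cert_tree lc_d_rc_15_1 lc_d_Cert_tree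 lc_d_rc_15_1 lc_d_rc_15_1 lc_d_rc_27_2 lc_d_Cert_tree lc_d_rc_15_1 lc_d_rc_27_10 lc_d_Cert_tree lc_d_rc_15_1 lc_d_rc_23_4 lc_d_Cert_tree lc_d_rc_15_1 lc_d_Cert_tree lc_d_Cert_tree lc_d_Cert_tree lc_d_rc_15_1 lc_d_rc_22_4 lc_d_rc_24_0 lc_d_rc_22_6 lc_d_rc_16_4 lc_d_rc_23_6 lc_d_rc_25_6 lc_d_Cert_tree lc_d_rc_15_1 lc_d_Cert_tree lc_d_Cert_tree lc_d_rc_15_1 lc_d_rc_15_1 lc_d_Cert_tree lc_d_rc_15_1 lc_d_Cert_tree lc_d_rc_15_1 lc_d_rc_16_2 lc_d_rc_15_1 lc_d_Cert_tree lc_d_rc_17_2 lc_d_rc_15_1 lc_d_Cert_tree lc_d_Cert_tree lc_d_Cert_tree lc_d_rc_15_1 lc_d_Cert_tree lc_d_Cert_tree lc_d_Cert_tree lc_d_rc_8_3 lc_d_Cert_tree lc_d_Cert_tree lc_d_rc_15_1 lc_d_rc_15_1 lc_d_rc_23_4 lc_d_rc_23_4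 lc_d_Cert_tree lc_d_rc_8_3 lc_d_rc_8_3) (@D3.rec (fun _ => (Cert rels S Gen.d)) lc_d_rc_15_1 lc_d_rc_24_0 lc_d_Cert_tree lc_d_Cert_tree lc_d_rc_27_10 lc_d_Cert_tree lc_d_rc_15_1 lc_d_rc_17_2 lc_d_rc_16_2 lc_d_rc_17_2 lc_d_Cert_tree lc_d_Cert_tree lc_d_rc_15_1 lc_d_rc_27_10 lc_d_rc_17_2 lc_d_Cert_tree lc_d_Cert_tree lc_d_rc_16_0 lc_d_rc_15_1 lc_d_Cert_tree lc_d_rc_15_1 lc_d_rc_15_1 lc_d_Cert_tree lc_d_rc_15_1 lc_d_Cert_tree lc_d_rc_17_2 lc_d_rc_27_2 lc_d_rc_15_1 lc_d_Cert_tree lc_d_rc_27_10 lc_d_rc_15_1 lc_d_rc_22_2 lc_d_Cert_tree lc_d_Cert_tree lc_d_Cert_tree lc_d_Cert_tree lc_d_Cert_tree lc_d_rc_15_1 lc_d_rc_17_2 lc_d_rc_16_4 lc_d_rc_15_1 lc_d_rc_16_2 lc_d_rc_15_1 lc_d_Cert_tree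 lc_d_rc_8_1 lc_d_Cert_tree lc_d_rc_27_8 lc_d_Cert_tree lc_d_Cert_tree lc_d_Cert_tree lc_d_rc_15_1 lc_d_rc_17_2 lc_d_rc_17_2 lc_d_rc_22_2 lc_d_rc_3_3 lc_d_rc_17_2 lc_d_Cert_tree lc_d_rc_15_1 lc_d_Cert_tree lc_d_rc_15_1 lc_d_Cert_tree lc_d_rc_22_4) (@D3.rec (fun _ => (Cert rels S Gen.d)) lc_d_rc_23_2 lc_d_Cert_tree lc_d_Cert_tree lc_d_Cert_tree lc_d_Cert_tree lc_d_rc_15_1 lc_d_rc_27_10 lc_d_rc_15_1 lc_d_Cert_tree lc_d_Cert_tree lc_d_rc_24_5 lc_d_Cert_tree lc_d_rc_17_2 lc_d_Cert_tree lc_d_rc_15_1 lc_d_rc_17_2 lc_d_rc_15_1 lc_d_Cert_tree lc_d_rc_15_1 lc_d_rc_27_2 lc_d_rc_15_1 lc_d_rc_15_1 lc_d_rc_23_2 lc_d_rc_15_1 lc_d_rc_17_2 lc_d_Cert_tree lc_d_rc_27_10 lc_d_rc_15_1 lc_d_rc_27_4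 lc_d_rc_27_2 lc_d_rc_24_5 lc_d_rc_15_1 lc_d_rc_27_2 lc_d_rc_27_10 lc_d_rc_15_1 lc_d_Cert_tree lc_d_rc_17_2 lc_d_rc_27_8 lc_d_rc_23_8 lc_d_rc_23_4 lc_d_rc_8_1 lc_d_Cert_tree lc_d_Cert_tree lc_d_rc_15_1 lc_d_rc_3_1 lc_d_rc_16_0 lc_d_Cert_tree lc_d_Cert_tree lc_d_rc_15_1 lc_d_rc_27_2 lc_d_rc_24_5 lc_d_rc_23_4 lc_d_Cert_tree lc_d_rc_15_1 lc_d_Cert_tree lc_d_Cert_tree lc_d_rc_15_1 lc_d_Cert_tree lc_d_Cert_tree lc_d_Cert_tree lc_d_rc_15_1 lc_d_rc_27_4) (@D3.rec (fun _ => (Cert rels S Gen.d)) lc_d_Cert_tree lc_d_rc_15_1 lc_d_Cert_tree lc_d_Cert_tree lc_d_rc_15_1 lc_d_rc_17_2 lc_d_Cert_tree lc_d_Cert_tree lc_d_rc_15_1 lc_d_rc_17_2 lc_d_rc_16_4 lc_d_rc_17_2 lc_d_rc_15_1 lc_d_rc_8_3 lc_d_rc_15_1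 lc_d_rc_23_2 lc_d_rc_15_1 lc_d_rc_15_1 lc_d_Cert_tree lc_d_rc_23_4 lc_d_rc_8_3 lc_d_rc_23_6 lc_d_rc_16_2 lc_d_rc_15_1 lc_d_rc_8_3 lc_d_rc_15_1 lc_d_rc_27_10 lc_d_rc_15_1 lc_d_rc_17_2 lc_d_Cert_tree lc_d_Cert_tree lc_d_rc_27_8 lc_d_Cert_tree lc_d_rc_15_1 lc_d_Cert_tree lc_d_Cert_tree lc_d_Cert_tree lc_d_rc_3_3 lc_d_rc_8_3 lc_d_rc_8_3 lc_d_rc_16_4 lc_d_rc_3_3 lc_d_Cert_tree lc_d_rc_15_1 lc_d_rc_16_4 lc_d_rc_27_4 lc_d_rc_15_1 lc_d_Cert_tree lc_d_rc_27_2 lc_d_rc_15_1 lc_d_Cert_tree lc_d_rc_27_10 lc_d_rc_23_4 lc_d_rc_15_1 lc_d_Cert_tree lc_d_Cert_tree lc_d_Cert_tree lc_d_rc_15_1 lc_d_rc_8_3 lc_d_rc_16_4 lc_d_rc_12_1 lc_d_rc_15_1) (@D3.rec (fun _ => (Cert rels S Gen.d)) lc_d_Cert_tree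 lc_d_rc_15_1 lc_d_Cert_tree lc_d_Cert_tree lc_d_rc_15_1 lc_d_rc_23_6 lc_d_rc_23_6 lc_d_Cert_tree lc_d_rc_22_4 lc_d_Cert_tree lc_d_Cert_tree lc_d_rc_15_1 lc_d_rc_16_4 lc_d_rc_3_3 lc_d_rc_3_1 lc_d_rc_27_8 lc_d_Cert_tree lc_d_rc_16_4 lc_d_rc_8_3 lc_d_rc_27_2 lc_d_rc_17_0 lc_d_rc_8_3 lc_d_rc_3_3 lc_d_rc_27_10 lc_d_rc_15_1 lc_d_rc_17_2 lc_d_rc_17_2 lc_d_rc_15_1 lc_d_rc_15_1 lc_d_rc_27_2 lc_d_rc_17_2 lc_d_rc_3_3 lc_d_Cert_tree lc_d_rc_16_4 lc_d_rc_15_1 lc_d_rc_16_2 lc_d_rc_15_1 lc_d_rc_15_1 lc_d_Cert_tree lc_d_rc_15_1 lc_d_Cert_tree lc_d_Cert_tree lc_d_rc_8_3 lc_d_Cert_tree lc_d_rc_15_1 lc_d_rc_8_3 lc_d_rc_16_0 lc_d_rc_27_10 lc_d_rc_8_3 lc_d_rc_24_0 lc_d_rc_15_1 lc_d_rc_8_3 lc_d_rc_8_1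 lc_d_rc_15_1 lc_d_Cert_tree lc_d_Cert_tree lc_d_Cert_tree lc_d_rc_15_1 lc_d_rc_23_6 lc_d_rc_24_0 lc_d_rc_8_3 lc_d_rc_15_1) (@D3.rec (fun _ => (Cert rels S Gen.d)) lc_d_rc_16_4 lc_d_Cert_tree lc_d_rc_15_1 lc_d_rc_24_0 lc_d_rc_8_3 lc_d_rc_3_3 lc_d_rc_16_4 lc_d_rc_15_1 lc_d_rc_8_3 lc_d_Cert_tree lc_d_Cert_tree lc_d_rc_24_5 lc_d_Cert_tree lc_d_Cert_tree lc_d_rc_15_1 lc_d_rc_8_3 lc_d_rc_15_1 lc_d_rc_16_2 lc_d_rc_16_2 lc_d_rc_16_4 lc_d_Cert_tree lc_d_rc_15_1 lc_d_rc_17_2 lc_d_rc_8_3 lc_d_Cert_tree lc_d_rc_15_1 lc_d_rc_27_10 lc_d_rc_17_2 lc_d_rc_8_1 lc_d_rc_15_1 lc_d_Cert_tree lc_d_rc_16_4 lc_d_rc_15_1 lc_d_Cert_tree lc_d_Cert_tree lc_d_Cert_tree lc_d_Cert_tree lc_d_rc_15_1 lc_d_rc_17_2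 lc_d_rc_23_6 lc_d_rc_23_6 lc_d_rc_22_8 lc_d_rc_17_2 lc_d_rc_16_2 lc_d_rc_23_8 lc_d_Cert_tree lc_d_rc_15_1 lc_d_Cert_tree lc_d_Cert_tree lc_d_rc_15_1 lc_d_Cert_tree lc_d_rc_15_1 lc_d_Cert_tree lc_d_rc_15_1 lc_d_Cert_tree lc_d_rc_16_0 lc_d_rc_15_1 lc_d_rc_27_4 lc_d_rc_27_10 lc_d_rc_17_2 lc_d_Cert_tree lc_d_Cert_tree) (@D3.rec (fun _ => (Cert rels S Gen.d)) lc_d_Cert_tree lc_d_rc_15_1 lc_d_rc_8_3 lc_d_rc_16_4 lc_d_rc_17_2 lc_d_rc_8_3 lc_d_Cert_tree lc_d_rc_27_10 lc_d_rc_15_1 lc_d_rc_22_2 lc_d_rc_16_4 lc_d_rc_8_3 lc_d_Cert_tree lc_d_rc_27_10 lc_d_rc_17_2 lc_d_Cert_tree lc_d_rc_15_1 lc_d_Cert_tree lc_d_rc_15_1 lc_d_rc_15_1 lc_d_rc_17_2 lc_d_Cert_tree lc_d_rc_15_1 lc_d_rc_27_2 lc_d_Cert_tree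 lc_d_rc_15_1 lc_d_Cert_tree lc_d_Cert_tree lc_d_Cert_tree lc_d_Cert_tree lc_d_rc_15_1 lc_d_Cert_tree lc_d_rc_3_1 lc_d_Cert_tree lc_d_rc_23_2 lc_d_rc_15_1 lc_d_rc_15_1 lc_d_rc_17_2 lc_d_rc_15_1 lc_d_rc_27_10 lc_d_rc_8_3 lc_d_rc_17_2 lc_d_Cert_tree lc_d_rc_15_1 lc_d_rc_15_1 lc_d_rc_16_4 lc_d_rc_16_0 lc_d_rc_15_1 lc_d_Cert_tree lc_d_rc_3_1 lc_d_rc_17_2 lc_d_rc_8_3 lc_d_Cert_tree lc_d_rc_17_0 lc_d_rc_16_4 lc_d_Cert_tree lc_d_rc_22_4 lc_d_Cert_tree lc_d_rc_15_1 lc_d_Cert_tree lc_d_rc_12_3 lc_d_Cert_tree) (@D3.rec (fun _ => (Cert rels S Gen.d)) lc_d_Cert_tree lc_d_rc_15_1 lc_d_rc_17_2 lc_d_rc_24_5 lc_d_rc_16_4 lc_d_rc_3_1 lc_d_rc_8_3 lc_d_Cert_tree lc_d_rc_23_8 lc_d_rc_3_1 lc_d_Cert_tree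 lc_d_rc_15_1 lc_d_Cert_tree lc_d_rc_23_2 lc_d_rc_15_1 lc_d_Cert_tree lc_d_Cert_tree lc_d_Cert_tree lc_d_rc_15_1 lc_d_rc_17_2 lc_d_Cert_tree lc_d_rc_15_1 lc_d_Cert_tree lc_d_rc_27_2 lc_d_rc_24_0 lc_d_rc_8_1 lc_d_rc_15_1 lc_d_Cert_tree lc_d_rc_27_10 lc_d_rc_24_0 lc_d_rc_15_1 lc_d_rc_17_2 lc_d_rc_23_8 lc_d_rc_24_0 lc_d_Cert_tree lc_d_rc_15_1 lc_d_Cert_tree lc_d_Cert_tree lc_d_rc_24_5 lc_d_rc_16_4 lc_d_rc_15_1 lc_d_rc_23_2 lc_d_rc_27_4 lc_d_rc_16_4 lc_d_rc_16_4 lc_d_rc_17_2 lc_d_Cert_tree lc_d_Cert_tree lc_d_Cert_tree lc_d_rc_15_1 lc_d_rc_24_0 lc_d_rc_23_6 lc_d_rc_22_6 lc_d_rc_15_1 lc_d_rc_17_2 lc_d_Cert_tree lc_d_Cert_tree lc_d_Cert_tree lc_d_rc_15_1 lc_d_Cert_tree lc_d_Cert_tree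 lc_d_rc_15_1) (@D3.rec (fun _ => (Cert rels S Gen.d)) lc_d_rc_27_4 lc_d_Cert_tree lc_d_Cert_tree lc_d_rc_15_1 lc_d_Cert_tree lc_d_rc_17_2 lc_d_Cert_tree lc_d_rc_15_1 lc_d_rc_15_1 lc_d_rc_22_6 lc_d_rc_8_3 lc_d_Cert_tree lc_d_rc_16_4 lc_d_rc_17_2 lc_d_Cert_tree lc_d_rc_15_1 lc_d_Cert_tree lc_d_rc_15_1 lc_d_Cert_tree lc_d_rc_8_3 lc_d_Cert_tree lc_d_Cert_tree lc_d_Cert_tree lc_d_rc_17_2 lc_d_Cert_tree lc_d_rc_15_1 lc_d_Cert_tree lc_d_Cert_tree lc_d_rc_15_1 lc_d_rc_15_1 lc_d_Cert_tree lc_d_Cert_tree lc_d_rc_15_1 lc_d_rc_27_4 lc_d_rc_8_3 lc_d_Cert_tree lc_d_Cert_tree lc_d_rc_16_0 lc_d_rc_17_2 lc_d_rc_8_3 lc_d_rc_16_2 lc_d_rc_17_0 lc_d_Cert_tree lc_d_Cert_tree lc_d_rc_15_1 lc_d_rc_15_1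 lc_d_Cert_tree lc_d_Cert_tree lc_d_rc_15_1 lc_d_rc_27_4 lc_d_Cert_tree lc_d_Cert_tree lc_d_rc_15_1 lc_d_rc_27_2 lc_d_rc_15_1 lc_d_rc_27_2 lc_d_Cert_tree lc_d_rc_15_1 lc_d_Cert_tree lc_d_rc_27_10 lc_d_rc_17_2 lc_d_rc_15_1) (@D3.rec (fun _ => (Cert rels S Gen.d)) lc_d_rc_27_4 lc_d_rc_16_2 lc_d_rc_15_1 lc_d_Cert_tree lc_d_rc_15_1 lc_d_rc_8_3 lc_d_Cert_tree lc_d_rc_27_4 lc_d_rc_8_3 lc_d_Cert_tree lc_d_rc_16_4 lc_d_Cert_tree lc_d_Cert_tree lc_d_rc_22_2 lc_d_Cert_tree lc_d_rc_15_1 lc_d_Cert_tree lc_d_rc_17_2 lc_d_Cert_tree lc_d_Cert_tree lc_d_rc_15_1 lc_d_rc_3_3 lc_d_rc_16_2 lc_d_Cert_tree lc_d_rc_8_3 lc_d_Cert_tree lc_d_rc_27_10 lc_d_rc_8_3 lc_d_rc_25_14 lc_d_rc_25_18 lc_d_rc_15_1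 lc_d_rc_27_4 lc_d_rc_8_1 lc_d_rc_15_1 lc_d_rc_15_1 lc_d_Cert_tree lc_d_rc_15_1 lc_d_rc_17_2 lc_d_rc_15_1 lc_d_rc_27_4 lc_d_rc_15_1 lc_d_rc_27_8 lc_d_Cert_tree lc_d_Cert_tree lc_d_rc_15_1 lc_d_rc_16_2 lc_d_rc_15_1 lc_d_rc_15_1 lc_d_Cert_tree lc_d_rc_15_1 lc_d_rc_8_3 lc_d_Cert_tree lc_d_rc_16_4 lc_d_rc_15_1 lc_d_Cert_tree lc_d_rc_15_1 lc_d_rc_27_10 lc_d_rc_17_2 lc_d_Cert_tree lc_d_rc_27_4 lc_d_Cert_tree lc_d_Cert_tree) (@D3.rec (fun _ => (Cert rels S Gen.d)) lc_d_Cert_tree lc_d_Cert_tree lc_d_Cert_tree lc_d_rc_15_1 lc_d_Cert_tree lc_d_Cert_tree lc_d_rc_15_1 lc_d_rc_17_2 lc_d_Cert_tree lc_d_Cert_tree lc_d_Cert_tree lc_d_rc_15_1 lc_d_Cert_tree lc_d_Cert_tree lc_d_rc_15_1 lc_d_rc_17_2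 lc_d_rc_23_4 lc_d_rc_15_1 lc_d_Cert_tree lc_d_Cert_tree lc_d_rc_15_1 lc_d_rc_15_1 lc_d_rc_25_6 lc_d_rc_8_3 lc_d_rc_22_4 lc_d_rc_16_4 lc_d_rc_15_1 lc_d_rc_22_6 lc_d_rc_15_1 lc_d_Cert_tree lc_d_Cert_tree lc_d_Cert_tree lc_d_rc_17_2 lc_d_Cert_tree lc_d_rc_17_2 lc_d_rc_15_1 lc_d_Cert_tree lc_d_rc_15_1 lc_d_rc_27_4 lc_d_Cert_tree lc_d_rc_15_1 lc_d_rc_15_1 lc_d_Cert_tree lc_d_rc_16_0 lc_d_rc_3_3 lc_d_rc_22_6 lc_d_rc_24_0 lc_d_rc_15_1 lc_d_rc_22_8 lc_d_Cert_tree lc_d_rc_22_4 lc_d_rc_15_1 lc_d_rc_24_5 lc_d_rc_22_6 lc_d_rc_15_1 lc_d_rc_27_2 lc_d_Cert_tree lc_d_rc_15_1 lc_d_rc_15_1 lc_d_rc_8_3 lc_d_rc_16_2 lc_d_rc_15_1) (@D3.rec (fun _ => (Cert rels S Gen.d)) lc_d_rc_24_5 lc_d_rc_27_4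 lc_d_rc_8_3 lc_d_rc_8_3 lc_d_rc_27_4 lc_d_rc_15_1 lc_d_Cert_tree lc_d_Cert_tree lc_d_Cert_tree lc_d_rc_15_1 lc_d_Cert_tree lc_d_Cert_tree lc_d_rc_22_4 lc_d_rc_15_1 lc_d_Cert_tree lc_d_rc_24_5 lc_d_rc_15_1 lc_d_rc_8_1 lc_d_rc_8_3 lc_d_rc_27_8 lc_d_rc_15_1 lc_d_rc_15_1 lc_d_rc_8_3 lc_d_rc_16_4 lc_d_rc_8_3 lc_d_rc_16_4 lc_d_rc_24_5 lc_d_rc_15_1 lc_d_rc_16_4 lc_d_rc_24_0 lc_d_rc_16_2 lc_d_rc_16_2 lc_d_rc_8_1 lc_d_rc_15_1 lc_d_rc_16_4 lc_d_Cert_tree lc_d_rc_15_1 lc_d_Cert_tree lc_d_rc_23_4 lc_d_Cert_tree lc_d_rc_15_1 lc_d_Cert_tree lc_d_Cert_tree lc_d_rc_16_4 lc_d_rc_16_0 lc_d_Cert_tree lc_d_rc_15_1 lc_d_Cert_tree lc_d_rc_22_2 lc_d_rc_15_1 lc_d_Cert_tree lc_d_rc_25_6 lc_d_Cert_tree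 lc_d_rc_3_1 lc_d_rc_15_1 lc_d_rc_8_1 lc_d_rc_23_6 lc_d_rc_23_6 lc_d_rc_17_2 lc_d_rc_16_4 lc_d_rc_17_2 lc_d_Cert_tree) (@D3.rec (fun _ => (Cert rels S Gen.d)) lc_d_Cert_tree lc_d_rc_12_9 lc_d_rc_16_2 lc_d_rc_16_4 lc_d_rc_16_4 lc_d_rc_15_1 lc_d_rc_16_4 lc_d_Cert_tree lc_d_rc_15_1 lc_d_Cert_tree lc_d_rc_17_0 lc_d_rc_17_2 lc_d_Cert_tree lc_d_rc_15_1 lc_d_Cert_tree lc_d_rc_15_1 lc_d_rc_15_1 lc_d_rc_17_2 lc_d_Cert_tree lc_d_rc_15_1 lc_d_Cert_tree lc_d_Cert_tree lc_d_rc_15_1 lc_d_Cert_tree lc_d_Cert_tree lc_d_Cert_tree lc_d_rc_3_1 lc_d_rc_15_1 lc_d_rc_8_1 lc_d_rc_23_6 lc_d_rc_23_4 lc_d_rc_12_1 lc_d_rc_16_4 lc_d_rc_17_2 lc_d_Cert_tree lc_d_Cert_tree lc_d_Cert_tree lc_d_rc_15_1 lc_d_Cert_tree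 lc_d_Cert_tree lc_d_rc_15_1 lc_d_rc_24_5 lc_d_Cert_tree lc_d_rc_15_1 lc_d_rc_3_3 lc_d_rc_15_1 lc_d_rc_17_2 lc_d_rc_15_1 lc_d_Cert_tree lc_d_rc_16_4 lc_d_rc_17_2 lc_d_Cert_tree lc_d_rc_15_1 lc_d_rc_27_2 lc_d_rc_25_6 lc_d_rc_8_3 lc_d_Cert_tree lc_d_rc_15_1 lc_d_rc_8_3 lc_d_rc_23_6 lc_d_rc_16_4 lc_d_rc_3_3) (@D3.rec (fun _ => (Cert rels S Gen.d)) lc_d_rc_16_4 lc_d_rc_8_3 lc_d_Cert_tree lc_d_rc_27_10 lc_d_rc_15_1 lc_d_rc_17_2 lc_d_rc_16_4 lc_d_rc_16_4 lc_d_rc_8_3 lc_d_Cert_tree lc_d_rc_27_10 lc_d_rc_15_1 lc_d_rc_17_2 lc_d_Cert_tree lc_d_rc_15_1 lc_d_Cert_tree lc_d_rc_16_0 lc_d_rc_15_1 lc_d_rc_17_2 lc_d_Cert_tree lc_d_rc_15_1 lc_d_Cert_tree lc_d_rc_23_2 lc_d_rc_15_1 lc_d_rc_27_4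 lc_d_Cert_tree lc_d_Cert_tree lc_d_Cert_tree lc_d_rc_15_1 lc_d_Cert_tree lc_d_rc_22_6 lc_d_Cert_tree lc_d_Cert_tree lc_d_Cert_tree lc_d_rc_15_1 lc_d_rc_17_2 lc_d_rc_17_2 lc_d_rc_15_1 lc_d_Cert_tree lc_d_rc_17_2 lc_d_rc_8_1 lc_d_rc_15_1 lc_d_rc_16_2 lc_d_rc_16_4 lc_d_Cert_tree lc_d_rc_15_1 lc_d_rc_17_0 lc_d_rc_8_1 lc_d_rc_17_2 lc_d_rc_8_3 lc_d_Cert_tree lc_d_rc_15_1 lc_d_rc_17_2 lc_d_Cert_tree lc_d_rc_8_3 lc_d_Cert_tree lc_d_rc_15_1 lc_d_Cert_tree lc_d_rc_16_2 lc_d_Cert_tree lc_d_Cert_tree lc_d_rc_15_1) (@D3.rec (fun _ => (Cert rels S Gen.d)) lc_d_rc_23_2 lc_d_Cert_tree lc_d_rc_22_6 lc_d_Cert_tree lc_d_rc_15_1 lc_d_rc_17_2 lc_d_rc_8_3 lc_d_rc_8_3 lc_d_rc_25_2 lc_d_rc_23_8 lc_d_Cert_tree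 lc_d_rc_15_1 lc_d_rc_23_6 lc_d_rc_15_1 lc_d_rc_12_3 lc_d_Cert_tree lc_d_Cert_tree lc_d_rc_16_2 lc_d_Cert_tree lc_d_rc_15_1 lc_d_rc_16_4 lc_d_rc_15_1 lc_d_rc_27_8 lc_d_Cert_tree lc_d_Cert_tree lc_d_rc_15_1 lc_d_Cert_tree lc_d_rc_15_1 lc_d_rc_15_1 lc_d_rc_17_2 lc_d_rc_25_2 lc_d_rc_24_0 lc_d_Cert_tree lc_d_rc_15_1 lc_d_rc_3_3 lc_d_rc_3_3 lc_d_rc_17_2 lc_d_Cert_tree lc_d_rc_15_1 lc_d_rc_17_2 lc_d_rc_24_0 lc_d_rc_27_4 lc_d_Cert_tree lc_d_rc_15_1 lc_d_Cert_tree lc_d_rc_17_2 lc_d_Cert_tree lc_d_Cert_tree lc_d_Cert_tree lc_d_Cert_tree lc_d_rc_15_1 lc_d_rc_23_8 lc_d_rc_23_4 lc_d_Cert_tree lc_d_rc_15_1 lc_d_rc_17_2 lc_d_rc_25_18 lc_d_rc_22_6 lc_d_Cert_tree lc_d_rc_15_1 lc_d_rc_22_4 lc_d_rc_23_4)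 (@D3.rec (fun _ => (Cert rels S Gen.d)) lc_d_rc_15_1 lc_d_rc_17_2 lc_d_rc_22_6 lc_d_rc_8_3 lc_d_rc_22_4 lc_d_rc_8_3 lc_d_rc_27_2 lc_d_rc_15_1 lc_d_rc_15_1 lc_d_rc_8_3 lc_d_rc_17_2 lc_d_rc_15_1 lc_d_rc_3_3 lc_d_rc_8_3 lc_d_rc_8_3 lc_d_rc_8_3 lc_d_Cert_tree lc_d_rc_12_15 lc_d_rc_17_2 lc_d_rc_8_3 lc_d_rc_23_2 lc_d_rc_27_10 lc_d_Cert_tree lc_d_Cert_tree lc_d_rc_15_1 lc_d_rc_16_4 lc_d_Cert_tree lc_d_Cert_tree lc_d_rc_15_1 lc_d_Cert_tree lc_d_Cert_tree lc_d_rc_15_1 lc_d_Cert_tree lc_d_rc_27_8 lc_d_Cert_tree lc_d_Cert_tree lc_d_rc_15_1 lc_d_rc_15_1 lc_d_rc_27_4 lc_d_rc_17_2 lc_d_rc_15_1 lc_d_rc_15_1 lc_d_rc_27_2 lc_d_rc_16_4 lc_d_rc_27_10 lc_d_rc_17_2 lc_d_rc_15_1 lc_d_Cert_tree lc_d_Cert_tree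 lc_d_Cert_tree lc_d_Cert_tree lc_d_rc_15_1 lc_d_rc_3_3 lc_d_rc_16_2 lc_d_Cert_tree lc_d_rc_27_4 lc_d_rc_8_3 lc_d_Cert_tree lc_d_Cert_tree lc_d_rc_27_8 lc_d_Cert_tree lc_d_rc_23_4) (@D3.rec (fun _ => (Cert rels S Gen.d)) lc_d_rc_15_1 lc_d_rc_27_4 lc_d_rc_24_0 lc_d_rc_15_1 lc_d_Cert_tree lc_d_rc_17_0 lc_d_rc_3_1 lc_d_rc_22_4 lc_d_rc_3_3 lc_d_rc_24_0 lc_d_rc_17_2 lc_d_rc_15_1 lc_d_rc_15_1 lc_d_rc_24_0 lc_d_Cert_tree lc_d_Cert_tree lc_d_rc_15_1 lc_d_rc_15_1 lc_d_rc_25_6 lc_d_rc_22_4 lc_d_rc_15_1 lc_d_rc_24_0 lc_d_rc_23_2 lc_d_rc_8_3 lc_d_rc_16_4 lc_d_rc_8_3 lc_d_rc_23_4 lc_d_rc_23_4 lc_d_rc_22_6 lc_d_rc_15_1 lc_d_rc_8_1 lc_d_Cert_tree lc_d_rc_15_1 lc_d_rc_8_3 lc_d_rc_27_10 lc_d_rc_27_4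 lc_d_rc_8_1 lc_d_rc_15_1 lc_d_rc_24_5 lc_d_rc_15_1 lc_d_rc_23_2 lc_d_rc_24_0 lc_d_rc_15_1 lc_d_rc_24_5 lc_d_rc_15_1 lc_d_rc_15_1 lc_d_rc_22_4 lc_d_Cert_tree lc_d_rc_3_3 lc_d_rc_22_2 lc_d_rc_3_1 lc_d_Cert_tree lc_d_rc_15_1 lc_d_Cert_tree lc_d_Cert_tree lc_d_Cert_tree lc_d_rc_15_1 lc_d_rc_17_2 lc_d_rc_15_1 lc_d_Cert_tree lc_d_rc_16_4 lc_d_rc_8_3) (@D3.rec (fun _ => (Cert rels S Gen.d)) lc_d_rc_17_2 lc_d_Cert_tree lc_d_Cert_tree lc_d_rc_17_2 lc_d_rc_15_1 lc_d_rc_8_3 lc_d_Cert_tree lc_d_Cert_tree lc_d_rc_15_1 lc_d_rc_17_2 lc_d_rc_15_1 lc_d_Cert_tree lc_d_rc_15_1 lc_d_Cert_tree lc_d_rc_15_1 lc_d_rc_17_0 lc_d_rc_22_8 lc_d_Cert_tree lc_d_rc_15_1 lc_d_rc_15_1 lc_d_rc_23_2 lc_d_rc_16_4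 lc_d_rc_27_2 lc_d_rc_16_4 lc_d_rc_27_2 lc_d_rc_23_2 lc_d_rc_8_1 lc_d_rc_15_1 lc_d_rc_23_2 lc_d_rc_24_5 lc_d_rc_16_2 lc_d_rc_15_1 lc_d_rc_15_1 lc_d_rc_15_1 lc_d_rc_15_1 lc_d_rc_24_5 lc_d_Cert_tree lc_d_rc_16_2 lc_d_rc_23_2 lc_d_rc_16_2 lc_d_Cert_tree lc_d_rc_15_1 lc_d_Cert_tree lc_d_Cert_tree lc_d_rc_15_1 lc_d_rc_24_0 lc_d_rc_27_2 lc_d_rc_15_1 lc_d_rc_27_4 lc_d_Cert_tree lc_d_rc_15_1 lc_d_rc_17_2 lc_d_rc_16_2 lc_d_rc_15_1 lc_d_rc_15_1 lc_d_Cert_tree lc_d_rc_16_0 lc_d_rc_8_1 lc_d_rc_15_1 lc_d_Cert_tree lc_d_rc_24_0 lc_d_Cert_tree) (@D3.rec (fun _ => (Cert rels S Gen.d)) lc_d_rc_15_1 lc_d_Cert_tree lc_d_rc_22_2 lc_d_rc_22_8 lc_d_Cert_tree lc_d_rc_17_2 lc_d_Cert_tree lc_d_rc_15_1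 lc_d_rc_27_10 lc_d_rc_27_8 lc_d_Cert_tree lc_d_Cert_tree lc_d_rc_15_1 lc_d_Cert_tree lc_d_Cert_tree lc_d_rc_15_1 lc_d_rc_27_8 lc_d_rc_16_4 lc_d_rc_27_10 lc_d_rc_8_3 lc_d_rc_15_1 lc_d_rc_15_1 lc_d_rc_15_1 lc_d_rc_15_1 lc_d_rc_15_1 lc_d_rc_23_8 lc_d_rc_23_6 lc_d_rc_8_3 lc_d_rc_8_3 lc_d_rc_23_6 lc_d_Cert_tree lc_d_Cert_tree lc_d_rc_23_6 lc_d_rc_15_1 lc_d_rc_8_3 lc_d_rc_22_6 lc_d_rc_17_2 lc_d_rc_15_1 lc_d_rc_15_1 lc_d_rc_15_1 lc_d_rc_3_1 lc_d_rc_15_1 lc_d_rc_22_6 lc_d_rc_16_4 lc_d_rc_27_10 lc_d_rc_16_4 lc_d_rc_15_1 lc_d_rc_27_4 lc_d_rc_3_3 lc_d_rc_15_1 lc_d_rc_27_8 lc_d_rc_23_6 lc_d_rc_15_1 lc_d_rc_16_4 lc_d_rc_8_3 lc_d_Cert_tree lc_d_rc_15_1 lc_d_rc_27_4 lc_d_Cert_tree lc_d_rc_15_1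 lc_d_rc_27_8 lc_d_rc_16_2) (@D3.rec (fun _ => (Cert rels S Gen.d)) lc_d_rc_15_1 lc_d_rc_24_0 lc_d_rc_17_2 lc_d_Cert_tree lc_d_rc_15_1 lc_d_rc_23_2 lc_d_Cert_tree lc_d_rc_23_2 lc_d_rc_16_4 lc_d_rc_8_3 lc_d_Cert_tree lc_d_rc_16_4 lc_d_rc_12_15 lc_d_rc_23_6 lc_d_rc_8_3 lc_d_rc_16_4 lc_d_rc_15_1 lc_d_rc_3_3 lc_d_rc_8_3 lc_d_rc_24_0 lc_d_rc_15_1 lc_d_rc_15_1 lc_d_rc_15_1 lc_d_rc_22_8 lc_d_rc_16_4 lc_d_Cert_tree lc_d_rc_24_5 lc_d_rc_24_5 lc_d_rc_15_1 lc_d_rc_24_0 lc_d_rc_15_1 lc_d_rc_23_2 lc_d_rc_15_1 lc_d_rc_23_6 lc_d_rc_24_0 lc_d_rc_27_8 lc_d_rc_17_2 lc_d_rc_8_3 lc_d_rc_27_4 lc_d_rc_16_4 lc_d_rc_15_1 lc_d_rc_22_2 lc_d_Cert_tree lc_d_rc_8_3 lc_d_rc_27_2 lc_d_rc_23_2 lc_d_rc_15_1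 lc_d_Cert_tree lc_d_rc_15_1 lc_d_Cert_tree lc_d_rc_22_2 lc_d_rc_24_0 lc_d_rc_23_2 lc_d_rc_24_0 lc_d_rc_16_2 lc_d_rc_27_10 lc_d_rc_3_3 lc_d_rc_16_4 lc_d_rc_27_4 lc_d_rc_22_2 lc_d_rc_22_6 lc_d_rc_17_2) (@D3.rec (fun _ => (Cert rels S Gen.d)) lc_d_rc_15_1 lc_d_rc_23_2 lc_d_rc_8_1 lc_d_rc_23_2 lc_d_rc_16_4 lc_d_rc_8_3 lc_d_rc_15_1 lc_d_Cert_tree lc_d_rc_15_1 lc_d_rc_23_2 lc_d_Cert_tree lc_d_rc_15_1 lc_d_rc_3_3 lc_d_rc_8_3 lc_d_rc_15_1 lc_d_Cert_tree lc_d_Cert_tree lc_d_rc_15_1 lc_d_rc_25_18 lc_d_rc_15_1 lc_d_Cert_tree lc_d_rc_8_3 lc_d_Cert_tree lc_d_rc_15_1 lc_d_rc_15_1 lc_d_Cert_tree lc_d_Cert_tree lc_d_rc_8_3 lc_d_rc_15_1 lc_d_Cert_tree lc_d_rc_8_3 lc_d_Cert_tree lc_d_rc_15_1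 lc_d_rc_17_2 lc_d_rc_15_1 lc_d_rc_15_1 lc_d_rc_27_8 lc_d_rc_3_3 lc_d_rc_8_3 lc_d_rc_17_2 lc_d_rc_12_1 lc_d_rc_16_4 lc_d_rc_8_3 lc_d_Cert_tree lc_d_Cert_tree lc_d_Cert_tree lc_d_rc_15_1 lc_d_rc_17_2 lc_d_rc_15_1 lc_d_rc_16_4 lc_d_rc_8_3 lc_d_Cert_tree lc_d_rc_15_1 lc_d_Cert_tree lc_d_rc_15_1 lc_d_Cert_tree lc_d_Cert_tree lc_d_Cert_tree lc_d_Cert_tree lc_d_rc_15_1 lc_d_rc_17_2 lc_d_rc_8_3) (@D3.rec (fun _ => (Cert rels S Gen.d)) lc_d_Cert_tree lc_d_Cert_tree lc_d_rc_15_1 lc_d_Cert_tree lc_d_Cert_tree lc_d_rc_15_1 lc_d_rc_17_2 lc_d_rc_15_1 lc_d_rc_22_2 lc_d_rc_3_1 lc_d_Cert_tree lc_d_rc_3_1 lc_d_rc_17_2 lc_d_rc_23_2 lc_d_rc_24_5 lc_d_rc_27_2 lc_d_rc_27_2 lc_d_rc_24_0 lc_d_rc_15_1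 lc_d_rc_17_2 lc_d_Cert_tree lc_d_rc_15_1 lc_d_Cert_tree lc_d_Cert_tree lc_d_rc_17_2 lc_d_rc_8_3 lc_d_Cert_tree lc_d_Cert_tree lc_d_rc_17_2 lc_d_rc_22_6 lc_d_rc_3_1 lc_d_rc_15_1 lc_d_rc_27_2 lc_d_rc_27_4 lc_d_Cert_tree lc_d_Cert_tree lc_d_rc_15_1 lc_d_rc_17_2 lc_d_Cert_tree lc_d_rc_15_1 lc_d_rc_17_2 lc_d_rc_24_5 lc_d_rc_25_10 lc_d_rc_23_2 lc_d_rc_15_1 lc_d_Cert_tree lc_d_Cert_tree lc_d_rc_15_1 lc_d_rc_17_2 lc_d_rc_23_6 lc_d_rc_3_3 lc_d_rc_22_2 lc_d_rc_27_2 lc_d_rc_27_2 lc_d_rc_15_1 lc_d_rc_24_5 lc_d_rc_8_3 lc_d_rc_16_2 lc_d_rc_8_3 lc_d_rc_12_15 lc_d_rc_15_1 lc_d_rc_15_1) (@D3.rec (fun _ => (Cert rels S Gen.d)) lc_d_rc_15_1 lc_d_rc_17_2 lc_d_Cert_tree lc_d_rc_24_0 lc_d_rc_15_1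 lc_d_Cert_tree lc_d_Cert_tree lc_d_rc_15_1 lc_d_Cert_tree lc_d_Cert_tree lc_d_Cert_tree lc_d_rc_17_2 lc_d_rc_24_5 lc_d_Cert_tree lc_d_rc_15_1 lc_d_rc_3_1 lc_d_rc_15_1 lc_d_rc_17_2 lc_d_Cert_tree lc_d_Cert_tree lc_d_rc_15_1 lc_d_Cert_tree lc_d_rc_15_1 lc_d_rc_8_3 lc_d_rc_17_2 lc_d_rc_23_4 lc_d_Cert_tree lc_d_rc_8_3 lc_d_rc_15_1 lc_d_rc_15_1 lc_d_Cert_tree lc_d_rc_15_1 lc_d_Cert_tree lc_d_rc_15_1 lc_d_Cert_tree lc_d_rc_23_8 lc_d_rc_15_1 lc_d_rc_23_2 lc_d_rc_23_4 lc_d_rc_23_4 lc_d_Cert_tree lc_d_rc_15_1 lc_d_rc_22_6 lc_d_rc_8_3 lc_d_Cert_tree lc_d_rc_16_2 lc_d_Cert_tree lc_d_rc_16_4 lc_d_Cert_tree lc_d_Cert_tree lc_d_Cert_tree lc_d_rc_15_1 lc_d_rc_15_1 lc_d_rc_27_4 lc_d_rc_24_5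 lc_d_rc_23_6 lc_d_rc_15_1 lc_d_rc_16_4 lc_d_rc_17_2 lc_d_rc_15_1 lc_d_Cert_tree lc_d_rc_15_1) (@D3.rec (fun _ => (Cert rels S Gen.d)) lc_d_Cert_tree lc_d_rc_8_3 lc_d_Cert_tree lc_d_rc_8_1 lc_d_rc_17_0 lc_d_rc_27_4 lc_d_Cert_tree lc_d_rc_15_1 lc_d_Cert_tree lc_d_rc_15_1 lc_d_rc_17_2 lc_d_Cert_tree lc_d_rc_16_4 lc_d_rc_15_1 lc_d_rc_17_2 lc_d_Cert_tree lc_d_Cert_tree lc_d_Cert_tree lc_d_rc_15_1 lc_d_rc_16_4 lc_d_rc_8_3 lc_d_rc_23_2 lc_d_rc_27_2 lc_d_rc_23_6 lc_d_rc_15_1 lc_d_rc_16_4 lc_d_rc_15_1 lc_d_rc_16_2 lc_d_rc_16_4 lc_d_Cert_tree lc_d_rc_15_1 lc_d_rc_24_5 lc_d_Cert_tree lc_d_rc_15_1 lc_d_Cert_tree lc_d_rc_23_4 lc_d_rc_23_4 lc_d_rc_16_4 lc_d_rc_15_1 lc_d_rc_15_1 lc_d_rc_22_8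 lc_d_rc_16_4 lc_d_Cert_tree lc_d_rc_15_1 lc_d_rc_15_1 lc_d_Cert_tree lc_d_Cert_tree lc_d_Cert_tree lc_d_Cert_tree lc_d_rc_15_1 lc_d_rc_23_4 lc_d_rc_16_4 lc_d_rc_24_0 lc_d_rc_23_6 lc_d_Cert_tree lc_d_rc_15_1 lc_d_Cert_tree lc_d_rc_15_1 lc_d_rc_17_2 lc_d_Cert_tree lc_d_rc_15_1 lc_d_Cert_tree) (@D3.rec (fun _ => (Cert rels S Gen.d)) lc_d_rc_16_4 lc_d_rc_17_2 lc_d_Cert_tree lc_d_rc_15_1 lc_d_Cert_tree lc_d_Cert_tree lc_d_rc_15_1 lc_d_rc_22_2 lc_d_rc_25_6 lc_d_Cert_tree lc_d_Cert_tree lc_d_rc_15_1 lc_d_rc_8_3 lc_d_rc_23_6 lc_d_rc_23_6 lc_d_rc_16_4 lc_d_Cert_tree lc_d_rc_15_1 lc_d_rc_16_4 lc_d_rc_16_4 lc_d_rc_15_1 lc_d_Cert_tree lc_d_rc_15_1 lc_d_Cert_tree lc_d_rc_27_10 lc_d_rc_15_1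 lc_d_rc_17_2 lc_d_rc_8_3 lc_d_rc_23_4 lc_d_rc_17_2 lc_d_Cert_tree lc_d_rc_15_1 lc_d_Cert_tree lc_d_rc_15_1 lc_d_rc_15_1 lc_d_rc_17_2 lc_d_Cert_tree lc_d_rc_15_1 lc_d_Cert_tree lc_d_rc_16_4 lc_d_rc_15_1 lc_d_Cert_tree lc_d_rc_8_1 lc_d_rc_15_1 lc_d_rc_8_3 lc_d_Cert_tree lc_d_Cert_tree lc_d_Cert_tree lc_d_rc_15_1 lc_d_rc_24_0 lc_d_rc_12_1 lc_d_rc_22_6 lc_d_rc_24_5 lc_d_rc_15_1 lc_d_rc_24_5 lc_d_rc_22_6 lc_d_rc_16_2 lc_d_rc_16_4 lc_d_rc_16_4 lc_d_rc_8_3 lc_d_rc_15_1 lc_d_rc_15_1) (@D3.rec (fun _ => (Cert rels S Gen.d)) lc_d_rc_17_2 lc_d_rc_8_3 lc_d_Cert_tree lc_d_rc_15_1 lc_d_Cert_tree lc_d_Cert_tree lc_d_Cert_tree lc_d_rc_15_1 lc_d_rc_22_8 lc_d_rc_24_5 lc_d_rc_3_3 lc_d_rc_15_1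 lc_d_rc_16_4 lc_d_rc_15_1 lc_d_rc_23_8 lc_d_rc_27_2 lc_d_Cert_tree lc_d_rc_15_1 lc_d_rc_8_1 lc_d_rc_15_1 lc_d_Cert_tree lc_d_Cert_tree lc_d_rc_3_1 lc_d_rc_16_4 lc_d_Cert_tree lc_d_rc_24_0 lc_d_rc_27_10 lc_d_rc_17_0 lc_d_rc_15_1 lc_d_Cert_tree lc_d_rc_23_8 lc_d_rc_24_5 lc_d_Cert_tree lc_d_Cert_tree lc_d_Cert_tree lc_d_rc_15_1 lc_d_rc_17_2 lc_d_rc_27_8 lc_d_rc_15_1 lc_d_rc_8_3 lc_d_rc_15_1 lc_d_rc_27_2 lc_d_rc_27_10 lc_d_rc_15_1 lc_d_rc_27_8 lc_d_rc_23_2 lc_d_rc_15_1 lc_d_Cert_tree lc_d_rc_15_1 lc_d_rc_3_3 lc_d_Cert_tree lc_d_Cert_tree lc_d_Cert_tree lc_d_rc_15_1 lc_d_rc_3_3 lc_d_Cert_tree lc_d_rc_16_2 lc_d_Cert_tree lc_d_Cert_tree lc_d_Cert_tree lc_d_Cert_tree lc_d_Cert_tree)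 (@D3.rec (fun _ => (Cert rels S Gen.d)) lc_d_rc_15_1 lc_d_Cert_tree lc_d_rc_24_5 lc_d_rc_23_4 lc_d_Cert_tree lc_d_rc_15_1 lc_d_rc_17_2 lc_d_Cert_tree lc_d_Cert_tree lc_d_Cert_tree lc_d_rc_15_1 lc_d_Cert_tree lc_d_Cert_tree lc_d_rc_15_1 lc_d_rc_22_8 lc_d_Cert_tree lc_d_Cert_tree lc_d_rc_22_2 lc_d_rc_24_5 lc_d_rc_15_1 lc_d_rc_22_4 lc_d_rc_17_2 lc_d_rc_24_0 lc_d_rc_24_0 lc_d_rc_15_1 lc_d_Cert_tree lc_d_rc_15_1 lc_d_rc_15_1 lc_d_rc_24_0 lc_d_rc_22_4 lc_d_rc_16_4 lc_d_rc_17_2 lc_d_Cert_tree lc_d_rc_15_1 lc_d_rc_27_2 lc_d_rc_15_1 lc_d_Cert_tree lc_d_rc_8_3 lc_d_Cert_tree lc_d_Cert_tree lc_d_Cert_tree lc_d_rc_17_2 lc_d_Cert_tree lc_d_Cert_tree lc_d_Cert_tree lc_d_rc_15_1 lc_d_Cert_tree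 lc_d_Cert_tree lc_d_rc_15_1 lc_d_rc_16_2 lc_d_rc_15_1 lc_d_Cert_tree lc_d_rc_15_1 lc_d_Cert_tree lc_d_Cert_tree lc_d_rc_8_3 lc_d_rc_15_1 lc_d_rc_23_2 lc_d_rc_8_1 lc_d_rc_15_1 lc_d_Cert_tree lc_d_rc_17_2) (@D3.rec (fun _ => (Cert rels S Gen.d)) lc_d_rc_17_2 lc_d_rc_23_4 lc_d_rc_15_1 lc_d_Cert_tree lc_d_rc_8_1 lc_d_rc_15_1 lc_d_Cert_tree lc_d_Cert_tree lc_d_Cert_tree lc_d_Cert_tree lc_d_rc_15_1 lc_d_Cert_tree lc_d_Cert_tree lc_d_Cert_tree lc_d_Cert_tree lc_d_rc_15_1 lc_d_rc_17_2 lc_d_rc_27_2 lc_d_Cert_tree lc_d_rc_15_1 lc_d_Cert_tree lc_d_rc_16_4 lc_d_rc_22_2 lc_d_rc_15_1 lc_d_Cert_tree lc_d_rc_15_1 lc_d_rc_15_1 lc_d_rc_8_3 lc_d_rc_23_8 lc_d_rc_3_1 lc_d_rc_15_1 lc_d_rc_16_2 lc_d_rc_27_2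 lc_d_rc_17_2 lc_d_rc_3_3 lc_d_rc_15_1 lc_d_rc_15_1 lc_d_rc_15_1 lc_d_rc_16_4 lc_d_rc_23_6 lc_d_rc_3_1 lc_d_rc_17_2 lc_d_rc_3_1 lc_d_rc_15_1 lc_d_Cert_tree lc_d_rc_15_1 lc_d_rc_8_3 lc_d_rc_15_1 lc_d_rc_3_1 lc_d_rc_8_3 lc_d_rc_15_1 lc_d_rc_16_4 lc_d_rc_27_2 lc_d_rc_15_1 lc_d_rc_27_4 lc_d_rc_15_1 lc_d_rc_15_1 lc_d_rc_3_1 lc_d_Cert_tree lc_d_rc_15_1 lc_d_rc_23_6 lc_d_rc_8_1) (@D3.rec (fun _ => (Cert rels S Gen.d)) lc_d_rc_8_3 lc_d_rc_15_1 lc_d_rc_16_4 lc_d_rc_15_1 lc_d_Cert_tree lc_d_rc_15_1 lc_d_Cert_tree lc_d_rc_3_3 lc_d_rc_25_2 lc_d_rc_15_1 lc_d_rc_8_1 lc_d_rc_23_4 lc_d_rc_15_1 lc_d_rc_22_6 lc_d_rc_22_2 lc_d_rc_22_2 lc_d_rc_8_3 lc_d_rc_8_3 lc_d_rc_23_6 lc_d_rc_22_2 lc_d_rc_8_3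 lc_d_rc_8_3 lc_d_rc_27_8 lc_d_Cert_tree lc_d_rc_15_1 lc_d_Cert_tree lc_d_Cert_tree lc_d_rc_15_1 lc_d_Cert_tree lc_d_Cert_tree lc_d_rc_15_1 lc_d_Cert_tree lc_d_Cert_tree lc_d_rc_15_1 lc_d_Cert_tree lc_d_Cert_tree lc_d_rc_17_2 lc_d_Cert_tree lc_d_rc_15_1 lc_d_Cert_tree lc_d_Cert_tree lc_d_rc_15_1 lc_d_Cert_tree lc_d_Cert_tree lc_d_Cert_tree lc_d_Cert_tree lc_d_rc_15_1 lc_d_Cert_tree lc_d_Cert_tree lc_d_Cert_tree lc_d_rc_15_1 lc_d_rc_17_2 lc_d_rc_24_0 lc_d_Cert_tree lc_d_rc_15_1 lc_d_rc_15_1 lc_d_rc_8_3 lc_d_rc_15_1 lc_d_rc_8_1 lc_d_Cert_tree lc_d_rc_15_1 lc_d_Cert_tree) (@D3.rec (fun _ => (Cert rels S Gen.d)) lc_d_rc_24_0 lc_d_Cert_tree lc_d_rc_15_1 lc_d_rc_16_4 lc_d_rc_15_1 lc_d_Cert_tree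 lc_d_rc_24_0 lc_d_rc_24_0 lc_d_rc_8_3 lc_d_Cert_tree lc_d_Cert_tree lc_d_rc_15_1 lc_d_rc_8_3 lc_d_rc_22_2 lc_d_rc_24_5 lc_d_rc_15_1 lc_d_rc_15_1 lc_d_rc_24_5 lc_d_rc_15_1 lc_d_rc_27_4 lc_d_rc_15_1 lc_d_rc_16_0 lc_d_rc_8_3 lc_d_Cert_tree lc_d_rc_23_8 lc_d_rc_24_0 lc_d_Cert_tree lc_d_rc_15_1 lc_d_Cert_tree lc_d_rc_23_4 lc_d_Cert_tree lc_d_Cert_tree lc_d_Cert_tree lc_d_rc_15_1 lc_d_rc_17_2 lc_d_Cert_tree lc_d_Cert_tree lc_d_rc_15_1 lc_d_rc_23_4 lc_d_rc_15_1 lc_d_Cert_tree lc_d_rc_15_1 lc_d_rc_27_2 lc_d_rc_8_3 lc_d_rc_8_3 lc_d_rc_16_4 lc_d_rc_24_0 lc_d_rc_3_3 lc_d_rc_15_1 lc_d_Cert_tree lc_d_rc_25_2 lc_d_rc_15_1 lc_d_Cert_tree lc_d_Cert_tree lc_d_rc_15_1 lc_d_rc_17_2 lc_d_rc_8_3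 lc_d_rc_16_4 lc_d_rc_8_3 lc_d_rc_22_4 lc_d_rc_15_1 lc_d_rc_17_2) (@D3.rec (fun _ => (Cert rels S Gen.d)) lc_d_rc_15_1 lc_d_rc_15_1 lc_d_rc_15_1 lc_d_rc_16_0 lc_d_rc_17_2 lc_d_Cert_tree lc_d_rc_15_1 lc_d_Cert_tree lc_d_rc_15_1 lc_d_rc_22_2 lc_d_rc_8_1 lc_d_rc_15_1 lc_d_rc_15_1 lc_d_Cert_tree lc_d_rc_15_1 lc_d_Cert_tree lc_d_rc_27_4 lc_d_rc_17_2 lc_d_rc_17_0 lc_d_Cert_tree lc_d_rc_23_8 lc_d_rc_23_8 lc_d_Cert_tree lc_d_rc_15_1 lc_d_Cert_tree lc_d_rc_23_6 lc_d_rc_12_7 lc_d_Cert_tree lc_d_rc_15_1 lc_d_rc_23_8 lc_d_rc_15_1 lc_d_rc_17_2 lc_d_rc_8_3 lc_d_Cert_tree lc_d_rc_27_4 lc_d_rc_15_1 lc_d_Cert_tree lc_d_rc_25_6 lc_d_Cert_tree lc_d_rc_23_4 lc_d_Cert_tree lc_d_rc_3_3 lc_d_rc_15_1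 lc_d_rc_3_3 lc_d_rc_24_0 lc_d_rc_24_0 lc_d_rc_8_3 lc_d_rc_16_2 lc_d_rc_23_4 lc_d_rc_15_1 lc_d_rc_8_3 lc_d_rc_27_4 lc_d_rc_8_3 lc_d_rc_8_3 lc_d_rc_27_4 lc_d_rc_8_3 lc_d_rc_8_3 lc_d_rc_23_2 lc_d_rc_22_2 lc_d_rc_16_4 lc_d_rc_23_4 lc_d_rc_23_4) (@D3.rec (fun _ => (Cert rels S Gen.d)) lc_d_Cert_tree lc_d_rc_12_15 lc_d_rc_15_1 lc_d_rc_15_1 lc_d_rc_8_3 lc_d_rc_16_4 lc_d_rc_8_3 lc_d_Cert_tree lc_d_Cert_tree lc_d_Cert_tree lc_d_rc_15_1 lc_d_rc_15_1 lc_d_rc_23_6 lc_d_rc_27_10 lc_d_rc_17_2 lc_d_Cert_tree lc_d_rc_16_2 lc_d_rc_15_1 lc_d_rc_3_1 lc_d_Cert_tree lc_d_rc_3_3 lc_d_Cert_tree lc_d_Cert_tree lc_d_Cert_tree lc_d_rc_8_3 lc_d_rc_15_1 lc_d_Cert_tree lc_d_rc_25_6 lc_d_rc_15_1 lc_d_rc_8_3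 lc_d_rc_23_2 lc_d_Cert_tree lc_d_rc_15_1 lc_d_rc_8_3 lc_d_Cert_tree lc_d_rc_23_4 lc_d_rc_24_5 lc_d_rc_15_1 lc_d_Cert_tree lc_d_Cert_tree lc_d_Cert_tree lc_d_Cert_tree lc_d_rc_15_1 lc_d_Cert_tree lc_d_rc_8_1 lc_d_Cert_tree lc_d_Cert_tree lc_d_Cert_tree lc_d_rc_15_1 lc_d_rc_22_6 lc_d_rc_17_2 lc_d_rc_3_3 lc_d_Cert_tree lc_d_rc_17_2 lc_d_rc_23_4 lc_d_rc_15_1 lc_d_rc_17_2 lc_d_rc_27_2 lc_d_rc_8_1 lc_d_Cert_tree lc_d_Cert_tree lc_d_rc_15_1)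
def ce_d_10 : D2 → D3 → (Cert rels S Gen.d) := @D2.rec (fun _ => D3 → (Cert rels S Gen.d)) (@D3.rec (fun _ => (Cert rels S Gen.d)) lc_d_rc_8_1 lc_d_rc_25_6 lc_d_rc_15_1 lc_d_Cert_tree lc_d_Cert_tree lc_d_rc_15_1 lc_d_rc_15_1 lc_d_rc_27_2 lc_d_rc_17_2 lc_d_rc_16_4 lc_d_rc_23_2 lc_d_rc_27_10 lc_d_rc_27_8 lc_d_rc_22_2 lc_d_rc_27_4 lc_d_rc_24_0 lc_d_rc_23_8 lc_d_Cert_tree lc_d_Cert_tree lc_d_rc_17_2 lc_d_Cert_tree lc_d_Cert_tree lc_d_rc_15_1 lc_d_rc_22_6 lc_d_rc_22_2 lc_d_rc_22_2 lc_d_Cert_tree lc_d_rc_8_3 lc_d_rc_22_2 lc_d_rc_22_6 lc_d_rc_23_4 lc_d_rc_15_1 lc_d_Cert_tree lc_d_rc_8_1 lc_d_rc_15_1 lc_d_rc_3_3 lc_d_rc_8_3 lc_d_Cert_tree lc_d_rc_15_1 lc_d_rc_8_3 lc_d_rc_27_2 lc_d_rc_23_2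 lc_d_rc_8_3 lc_d_rc_23_6 lc_d_rc_8_3 lc_d_Cert_tree lc_d_rc_8_3 lc_d_rc_15_1 lc_d_rc_17_2 lc_d_Cert_tree lc_d_rc_15_1 lc_d_rc_3_3 lc_d_rc_8_3 lc_d_rc_15_1 lc_d_rc_17_2 lc_d_rc_8_3 lc_d_Cert_tree lc_d_rc_15_1 lc_d_Cert_tree lc_d_Cert_tree lc_d_rc_15_1 lc_d_Cert_tree) (@D3.rec (fun _ => (Cert rels S Gen.d)) lc_d_Cert_tree lc_d_rc_15_1 lc_d_Cert_tree lc_d_Cert_tree lc_d_Cert_tree lc_d_rc_15_1 lc_d_Cert_tree lc_d_Cert_tree lc_d_rc_16_4 lc_d_Cert_tree lc_d_rc_15_1 lc_d_rc_17_2 lc_d_rc_15_1 lc_d_rc_8_1 lc_d_rc_24_0 lc_d_rc_15_1 lc_d_rc_16_2 lc_d_rc_27_10 lc_d_rc_15_1 lc_d_rc_16_4 lc_d_rc_15_1 lc_d_rc_16_4 lc_d_rc_27_10 lc_d_rc_27_2 lc_d_rc_23_2 lc_d_rc_15_1 lc_d_rc_16_4 lc_d_Cert_tree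 lc_d_rc_15_1 lc_d_rc_27_2 lc_d_rc_15_1 lc_d_Cert_tree lc_d_rc_16_4 lc_d_rc_8_3 lc_d_Cert_tree lc_d_Cert_tree lc_d_Cert_tree lc_d_rc_17_2 lc_d_rc_16_4 lc_d_rc_22_2 lc_d_rc_15_1 lc_d_Cert_tree lc_d_rc_15_1 lc_d_rc_15_1 lc_d_rc_17_2 lc_d_Cert_tree lc_d_rc_15_1 lc_d_Cert_tree lc_d_Cert_tree lc_d_rc_15_1 lc_d_Cert_tree lc_d_rc_22_4 lc_d_rc_15_1 lc_d_Cert_tree lc_d_rc_3_3 lc_d_rc_17_2 lc_d_rc_22_2 lc_d_rc_17_0 lc_d_rc_12_15 lc_d_Cert_tree lc_d_Cert_tree lc_d_Cert_tree) (@D3.rec (fun _ => (Cert rels S Gen.d)) lc_d_rc_15_1 lc_d_rc_17_2 lc_d_rc_27_4 lc_d_Cert_tree lc_d_rc_16_0 lc_d_rc_16_4 lc_d_Cert_tree lc_d_rc_15_1 lc_d_Cert_tree lc_d_rc_15_1 lc_d_rc_8_1 lc_d_rc_17_2 lc_d_rc_3_1 lc_d_rc_8_3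 lc_d_rc_3_1 lc_d_rc_16_4 lc_d_rc_17_2 lc_d_rc_3_3 lc_d_rc_27_4 lc_d_rc_8_1 lc_d_rc_23_8 lc_d_rc_8_3 lc_d_rc_8_3 lc_d_rc_27_8 lc_d_rc_24_5 lc_d_rc_8_3 lc_d_rc_16_4 lc_d_rc_23_6 lc_d_Cert_tree lc_d_rc_22_4 lc_d_Cert_tree lc_d_rc_27_10 lc_d_Cert_tree lc_d_rc_15_1 lc_d_rc_8_3 lc_d_Cert_tree lc_d_rc_8_3 lc_d_rc_15_1 lc_d_rc_16_2 lc_d_rc_8_3 lc_d_rc_24_5 lc_d_rc_17_2 lc_d_rc_17_2 lc_d_rc_8_3 lc_d_rc_15_1 lc_d_rc_17_2 lc_d_rc_15_1 lc_d_rc_17_2 lc_d_rc_23_2 lc_d_Cert_tree lc_d_rc_17_2 lc_d_rc_15_1 lc_d_rc_27_2 lc_d_Cert_tree lc_d_rc_16_2 lc_d_rc_23_2 lc_d_rc_15_1 lc_d_Cert_tree lc_d_Cert_tree lc_d_Cert_tree lc_d_rc_17_2 lc_d_Cert_tree) (@D3.rec (fun _ => (Cert rels S Gen.d)) lc_d_rc_22_2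 lc_d_rc_15_1 lc_d_rc_27_4 lc_d_rc_8_3 lc_d_rc_22_6 lc_d_rc_16_4 lc_d_rc_24_0 lc_d_rc_16_4 lc_d_rc_8_1 lc_d_rc_15_1 lc_d_Cert_tree lc_d_rc_15_1 lc_d_rc_17_2 lc_d_rc_8_1 lc_d_rc_15_1 lc_d_rc_16_4 lc_d_rc_15_1 lc_d_rc_3_3 lc_d_rc_3_3 lc_d_rc_8_3 lc_d_Cert_tree lc_d_rc_15_1 lc_d_Cert_tree lc_d_Cert_tree lc_d_Cert_tree lc_d_rc_15_1 lc_d_rc_17_2 lc_d_rc_15_1 lc_d_Cert_tree lc_d_rc_15_1 lc_d_rc_15_1 lc_d_rc_8_3 lc_d_rc_15_1 lc_d_rc_15_1 lc_d_rc_15_1 lc_d_Cert_tree lc_d_rc_17_2 lc_d_rc_15_1 lc_d_rc_8_3 lc_d_rc_8_1 lc_d_rc_16_0 lc_d_rc_15_1 lc_d_rc_16_4 lc_d_rc_23_8 lc_d_Cert_tree lc_d_rc_8_3 lc_d_rc_15_1 lc_d_rc_3_1 lc_d_rc_15_1 lc_d_rc_16_2 lc_d_rc_16_0 lc_d_rc_8_3 lc_d_Cert_tree lc_d_rc_23_2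 lc_d_rc_15_1 lc_d_rc_24_5 lc_d_rc_15_1 lc_d_Cert_tree lc_d_rc_22_6 lc_d_rc_15_1 lc_d_rc_27_4 lc_d_rc_22_2) (@D3.rec (fun _ => (Cert rels S Gen.d)) lc_d_rc_15_1 lc_d_rc_25_2 lc_d_rc_16_2 lc_d_rc_8_3 lc_d_rc_16_4 lc_d_rc_23_4 lc_d_rc_17_2 lc_d_rc_24_0 lc_d_rc_24_0 lc_d_rc_12_3 lc_d_rc_16_2 lc_d_rc_24_0 lc_d_rc_16_4 lc_d_rc_23_2 lc_d_rc_16_4 lc_d_rc_23_4 lc_d_rc_15_1 lc_d_rc_8_3 lc_d_rc_22_4 lc_d_rc_3_3 lc_d_rc_17_2 lc_d_Cert_tree lc_d_rc_15_1 lc_d_Cert_tree lc_d_rc_27_2 lc_d_rc_3_3 lc_d_rc_16_2 lc_d_Cert_tree lc_d_rc_15_1 lc_d_rc_17_2 lc_d_rc_3_3 lc_d_Cert_tree lc_d_rc_16_4 lc_d_rc_15_1 lc_d_rc_17_2 lc_d_rc_15_1 lc_d_rc_27_4 lc_d_Cert_tree lc_d_Cert_tree lc_d_rc_8_3 lc_d_rc_15_1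 lc_d_rc_15_1 lc_d_rc_27_4 lc_d_rc_17_2 lc_d_rc_8_3 lc_d_rc_22_4 lc_d_Cert_tree lc_d_rc_16_4 lc_d_rc_22_4 lc_d_Cert_tree lc_d_rc_27_4 lc_d_rc_23_4 lc_d_rc_15_1 lc_d_rc_27_10 lc_d_rc_15_1 lc_d_Cert_tree lc_d_rc_16_4 lc_d_rc_15_1 lc_d_rc_17_2 lc_d_rc_8_3 lc_d_rc_27_8 lc_d_rc_15_1) (@D3.rec (fun _ => (Cert rels S Gen.d)) lc_d_rc_15_1 lc_d_Cert_tree lc_d_rc_16_2 lc_d_rc_15_1 lc_d_rc_23_8 lc_d_rc_15_1 lc_d_rc_3_3 lc_d_Cert_tree lc_d_rc_16_4 lc_d_rc_8_1 lc_d_Cert_tree lc_d_rc_15_1 lc_d_rc_15_1 lc_d_rc_15_1 lc_d_Cert_tree lc_d_rc_15_1 lc_d_rc_8_3 lc_d_rc_27_4 lc_d_rc_3_1 lc_d_Cert_tree lc_d_rc_17_2 lc_d_rc_16_4 lc_d_rc_3_1 lc_d_rc_15_1 lc_d_Cert_tree lc_d_rc_15_1 lc_d_rc_23_2 lc_d_Cert_tree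 lc_d_rc_17_2 lc_d_rc_15_1 lc_d_rc_15_1 lc_d_rc_15_1 lc_d_rc_16_2 lc_d_rc_17_2 lc_d_Cert_tree lc_d_Cert_tree lc_d_rc_15_1 lc_d_Cert_tree lc_d_rc_16_4 lc_d_rc_3_3 lc_d_rc_15_1 lc_d_rc_17_2 lc_d_rc_16_4 lc_d_rc_24_5 lc_d_rc_15_1 lc_d_Cert_tree lc_d_rc_27_2 lc_d_rc_23_2 lc_d_rc_16_4 lc_d_rc_8_3 lc_d_rc_23_2 lc_d_Cert_tree lc_d_rc_17_2 lc_d_Cert_tree lc_d_rc_16_4 lc_d_Cert_tree lc_d_Cert_tree lc_d_Cert_tree lc_d_rc_15_1 lc_d_rc_17_0 lc_d_rc_17_2 lc_d_rc_15_1) (@D3.rec (fun _ => (Cert rels S Gen.d)) lc_d_rc_17_2 lc_d_rc_15_1 lc_d_Cert_tree lc_d_rc_16_4 lc_d_rc_8_3 lc_d_rc_27_2 lc_d_Cert_tree lc_d_rc_15_1 lc_d_Cert_tree lc_d_Cert_tree lc_d_Cert_tree lc_d_rc_17_2 lc_d_Cert_tree lc_d_rc_16_4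 lc_d_rc_15_1 lc_d_Cert_tree lc_d_Cert_tree lc_d_rc_17_2 lc_d_Cert_tree lc_d_rc_23_6 lc_d_rc_15_1 lc_d_Cert_tree lc_d_rc_27_10 lc_d_rc_15_1 lc_d_Cert_tree lc_d_Cert_tree lc_d_Cert_tree lc_d_rc_27_8 lc_d_rc_15_1 lc_d_rc_23_6 lc_d_rc_15_1 lc_d_rc_22_6 lc_d_Cert_tree lc_d_rc_17_2 lc_d_rc_23_8 lc_d_rc_22_4 lc_d_rc_15_1 lc_d_rc_22_2 lc_d_rc_27_2 lc_d_rc_15_1 lc_d_rc_27_4 lc_d_rc_27_2 lc_d_rc_16_4 lc_d_rc_15_1 lc_d_rc_27_10 lc_d_Cert_tree lc_d_rc_15_1 lc_d_Cert_tree lc_d_rc_17_2 lc_d_rc_15_1 lc_d_rc_27_4 lc_d_rc_15_1 lc_d_rc_27_8 lc_d_rc_24_5 lc_d_rc_16_4 lc_d_rc_8_3 lc_d_rc_15_1 lc_d_rc_22_8 lc_d_rc_15_1 lc_d_rc_24_0 lc_d_rc_17_2 lc_d_rc_15_1) (@D3.rec (fun _ => (Cert rels S Gen.d))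 lc_d_rc_27_4 lc_d_rc_24_5 lc_d_Cert_tree lc_d_rc_22_4 lc_d_rc_8_3 lc_d_rc_17_2 lc_d_Cert_tree lc_d_rc_3_3 lc_d_rc_23_4 lc_d_rc_24_0 lc_d_rc_15_1 lc_d_rc_3_3 lc_d_Cert_tree lc_d_rc_16_2 lc_d_Cert_tree lc_d_rc_8_3 lc_d_rc_27_4 lc_d_rc_16_4 lc_d_rc_27_8 lc_d_rc_16_4 lc_d_rc_16_4 lc_d_rc_8_1 lc_d_rc_15_1 lc_d_rc_16_4 lc_d_rc_27_10 lc_d_rc_15_1 lc_d_rc_17_2 lc_d_Cert_tree lc_d_rc_15_1 lc_d_rc_27_2 lc_d_rc_15_1 lc_d_rc_15_1 lc_d_rc_17_2 lc_d_Cert_tree lc_d_rc_15_1 lc_d_Cert_tree lc_d_rc_15_1 lc_d_rc_27_2 lc_d_Cert_tree lc_d_rc_15_1 lc_d_rc_27_2 lc_d_Cert_tree lc_d_Cert_tree lc_d_Cert_tree lc_d_rc_15_1 lc_d_rc_12_15 lc_d_rc_22_6 lc_d_rc_23_2 lc_d_rc_27_8 lc_d_rc_15_1 lc_d_rc_8_3 lc_d_rc_22_2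 lc_d_rc_22_8 lc_d_rc_16_2 lc_d_rc_27_2 lc_d_Cert_tree lc_d_rc_24_0 lc_d_rc_15_1 lc_d_rc_17_2 lc_d_Cert_tree lc_d_rc_16_4 lc_d_rc_15_1) (@D3.rec (fun _ => (Cert rels S Gen.d)) lc_d_Cert_tree lc_d_Cert_tree lc_d_Cert_tree lc_d_Cert_tree lc_d_rc_15_1 lc_d_rc_27_10 lc_d_Cert_tree lc_d_rc_27_4 lc_d_Cert_tree lc_d_rc_15_1 lc_d_rc_15_1 lc_d_Cert_tree lc_d_rc_17_2 lc_d_rc_8_3 lc_d_Cert_tree lc_d_rc_15_1 lc_d_Cert_tree lc_d_Cert_tree lc_d_Cert_tree lc_d_rc_3_1 lc_d_rc_25_2 lc_d_rc_3_3 lc_d_Cert_tree lc_d_rc_15_1 lc_d_Cert_tree lc_d_rc_12_15 lc_d_rc_24_5 lc_d_Cert_tree lc_d_Cert_tree lc_d_Cert_tree lc_d_rc_15_1 lc_d_rc_17_2 lc_d_Cert_tree lc_d_rc_15_1 lc_d_Cert_tree lc_d_rc_27_2 lc_d_rc_15_1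 lc_d_rc_24_0 lc_d_rc_17_2 lc_d_rc_23_2 lc_d_rc_27_2 lc_d_Cert_tree lc_d_rc_15_1 lc_d_rc_16_2 lc_d_rc_17_2 lc_d_rc_23_2 lc_d_rc_24_0 lc_d_rc_23_4 lc_d_rc_16_2 lc_d_rc_27_4 lc_d_Cert_tree lc_d_Cert_tree lc_d_rc_15_1 lc_d_rc_16_4 lc_d_rc_24_5 lc_d_rc_15_1 lc_d_rc_17_2 lc_d_Cert_tree lc_d_Cert_tree lc_d_Cert_tree lc_d_rc_15_1 lc_d_rc_12_15) (@D3.rec (fun _ => (Cert rels S Gen.d)) lc_d_rc_27_4 lc_d_rc_22_2 lc_d_rc_3_3 lc_d_Cert_tree lc_d_Cert_tree lc_d_rc_24_5 lc_d_rc_15_1 lc_d_Cert_tree lc_d_rc_17_2 lc_d_Cert_tree lc_d_Cert_tree lc_d_rc_15_1 lc_d_Cert_tree lc_d_rc_15_1 lc_d_rc_15_1 lc_d_rc_15_1 lc_d_Cert_tree lc_d_rc_16_4 lc_d_Cert_tree lc_d_rc_15_1 lc_d_rc_27_2 lc_d_rc_15_1 lc_d_Cert_tree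 lc_d_Cert_tree lc_d_Cert_tree lc_d_rc_17_2 lc_d_Cert_tree lc_d_Cert_tree lc_d_rc_15_1 lc_d_Cert_tree lc_d_Cert_tree lc_d_rc_15_1 lc_d_Cert_tree lc_d_Cert_tree lc_d_rc_15_1 lc_d_rc_27_4 lc_d_rc_16_4 lc_d_Cert_tree lc_d_rc_15_1 lc_d_Cert_tree lc_d_Cert_tree lc_d_rc_15_1 lc_d_Cert_tree lc_d_rc_17_2 lc_d_rc_15_1 lc_d_rc_23_8 lc_d_rc_12_1 lc_d_rc_15_1 lc_d_Cert_tree lc_d_rc_15_1 lc_d_Cert_tree lc_d_rc_15_1 lc_d_rc_15_1 lc_d_rc_17_2 lc_d_rc_23_6 lc_d_rc_16_4 lc_d_Cert_tree lc_d_rc_15_1 lc_d_Cert_tree lc_d_rc_8_3 lc_d_rc_27_2 lc_d_rc_8_3) (@D3.rec (fun _ => (Cert rels S Gen.d)) lc_d_Cert_tree lc_d_rc_23_8 lc_d_rc_23_8 lc_d_Cert_tree lc_d_rc_15_1 lc_d_rc_22_8 lc_d_rc_3_3 lc_d_rc_23_4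 lc_d_Cert_tree lc_d_Cert_tree lc_d_Cert_tree lc_d_rc_15_1 lc_d_rc_8_3 lc_d_rc_24_0 lc_d_Cert_tree lc_d_rc_27_4 lc_d_Cert_tree lc_d_rc_16_4 lc_d_rc_8_3 lc_d_Cert_tree lc_d_rc_15_1 lc_d_rc_15_1 lc_d_rc_24_0 lc_d_rc_15_1 lc_d_rc_17_2 lc_d_rc_15_1 lc_d_Cert_tree lc_d_rc_15_1 lc_d_rc_15_1 lc_d_rc_16_2 lc_d_rc_8_3 lc_d_rc_27_10 lc_d_rc_3_1 lc_d_rc_23_4 lc_d_Cert_tree lc_d_rc_27_2 lc_d_rc_17_2 lc_d_Cert_tree lc_d_Cert_tree lc_d_rc_15_1 lc_d_rc_16_2 lc_d_rc_23_8 lc_d_rc_8_3 lc_d_rc_8_3 lc_d_rc_16_0 lc_d_rc_15_1 lc_d_rc_17_2 lc_d_rc_22_2 lc_d_rc_23_2 lc_d_rc_8_3 lc_d_rc_8_3 lc_d_rc_27_8 lc_d_Cert_tree lc_d_rc_15_1 lc_d_rc_8_1 lc_d_rc_15_1 lc_d_Cert_tree lc_d_rc_15_1 lc_d_rc_15_1 lc_d_rc_8_1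 lc_d_Cert_tree lc_d_Cert_tree) (@D3.rec (fun _ => (Cert rels S Gen.d)) lc_d_rc_23_8 lc_d_rc_24_0 lc_d_Cert_tree lc_d_rc_15_1 lc_d_Cert_tree lc_d_Cert_tree lc_d_Cert_tree lc_d_rc_15_1 lc_d_rc_17_2 lc_d_Cert_tree lc_d_Cert_tree lc_d_rc_15_1 lc_d_Cert_tree lc_d_Cert_tree lc_d_rc_15_1 lc_d_rc_8_3 lc_d_rc_8_3 lc_d_Cert_tree lc_d_rc_24_0 lc_d_rc_3_3 lc_d_rc_16_4 lc_d_rc_15_1 lc_d_rc_3_3 lc_d_rc_25_2 lc_d_rc_23_2 lc_d_Cert_tree lc_d_rc_16_0 lc_d_rc_16_4 lc_d_Cert_tree lc_d_rc_15_1 lc_d_rc_16_0 lc_d_rc_15_1 lc_d_Cert_tree lc_d_rc_15_1 lc_d_Cert_tree lc_d_Cert_tree lc_d_rc_15_1 lc_d_rc_17_2 lc_d_rc_8_3 lc_d_Cert_tree lc_d_rc_15_1 lc_d_rc_23_8 lc_d_Cert_tree lc_d_rc_15_1 lc_d_Cert_tree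 lc_d_Cert_tree lc_d_Cert_tree lc_d_Cert_tree lc_d_rc_15_1 lc_d_rc_17_2 lc_d_Cert_tree lc_d_Cert_tree lc_d_rc_15_1 lc_d_Cert_tree lc_d_Cert_tree lc_d_rc_15_1 lc_d_rc_27_4 lc_d_Cert_tree lc_d_rc_16_4 lc_d_rc_8_3 lc_d_Cert_tree lc_d_rc_15_1) (@D3.rec (fun _ => (Cert rels S Gen.d)) lc_d_Cert_tree lc_d_Cert_tree lc_d_Cert_tree lc_d_rc_15_1 lc_d_rc_17_2 lc_d_rc_15_1 lc_d_rc_15_1 lc_d_rc_15_1 lc_d_rc_15_1 lc_d_rc_15_1 lc_d_rc_27_10 lc_d_rc_17_2 lc_d_Cert_tree lc_d_rc_15_1 lc_d_Cert_tree lc_d_rc_15_1 lc_d_rc_15_1 lc_d_Cert_tree lc_d_rc_15_1 lc_d_rc_16_4 lc_d_Cert_tree lc_d_rc_24_0 lc_d_rc_24_0 lc_d_Cert_tree lc_d_rc_15_1 lc_d_rc_22_8 lc_d_Cert_tree lc_d_rc_27_2 lc_d_rc_23_8 lc_d_rc_15_1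 lc_d_rc_8_3 lc_d_rc_8_3 lc_d_Cert_tree lc_d_rc_27_2 lc_d_rc_15_1 lc_d_Cert_tree lc_d_rc_8_3 lc_d_rc_24_0 lc_d_rc_3_3 lc_d_rc_16_4 lc_d_rc_15_1 lc_d_rc_16_2 lc_d_rc_8_3 lc_d_rc_23_6 lc_d_rc_15_1 lc_d_rc_8_3 lc_d_rc_8_3 lc_d_rc_8_3 lc_d_rc_12_1 lc_d_rc_16_4 lc_d_rc_8_3 lc_d_Cert_tree lc_d_Cert_tree lc_d_rc_15_1 lc_d_rc_16_4 lc_d_Cert_tree lc_d_Cert_tree lc_d_rc_15_1 lc_d_rc_17_2 lc_d_rc_16_4 lc_d_rc_23_4 lc_d_rc_8_3) (@D3.rec (fun _ => (Cert rels S Gen.d)) lc_d_rc_15_1 lc_d_Cert_tree lc_d_Cert_tree lc_d_Cert_tree lc_d_Cert_tree lc_d_rc_15_1 lc_d_rc_17_2 lc_d_rc_15_1 lc_d_rc_23_6 lc_d_rc_17_2 lc_d_rc_24_5 lc_d_rc_22_4 lc_d_rc_8_3 lc_d_rc_24_0 lc_d_rc_16_4 lc_d_rc_22_2 lc_d_Cert_tree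 lc_d_rc_22_4 lc_d_rc_22_2 lc_d_rc_15_1 lc_d_Cert_tree lc_d_Cert_tree lc_d_Cert_tree lc_d_rc_15_1 lc_d_rc_8_3 lc_d_rc_12_15 lc_d_Cert_tree lc_d_Cert_tree lc_d_Cert_tree lc_d_rc_15_1 lc_d_Cert_tree lc_d_Cert_tree lc_d_rc_8_3 lc_d_Cert_tree lc_d_rc_15_1 lc_d_rc_15_1 lc_d_rc_24_0 lc_d_Cert_tree lc_d_Cert_tree lc_d_Cert_tree lc_d_rc_15_1 lc_d_rc_16_4 lc_d_rc_17_2 lc_d_rc_3_3 lc_d_Cert_tree lc_d_Cert_tree lc_d_rc_17_2 lc_d_Cert_tree lc_d_rc_15_1 lc_d_rc_17_2 lc_d_rc_27_8 lc_d_Cert_tree lc_d_Cert_tree lc_d_Cert_tree lc_d_rc_15_1 lc_d_Cert_tree lc_d_Cert_tree lc_d_rc_15_1 lc_d_Cert_tree lc_d_Cert_tree lc_d_Cert_tree lc_d_rc_27_2) (@D3.rec (fun _ => (Cert rels S Gen.d)) lc_d_rc_15_1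 lc_d_rc_22_2 lc_d_Cert_tree lc_d_rc_16_4 lc_d_rc_23_6 lc_d_Cert_tree lc_d_rc_27_4 lc_d_rc_8_3 lc_d_rc_16_0 lc_d_Cert_tree lc_d_Cert_tree lc_d_rc_16_4 lc_d_rc_15_1 lc_d_Cert_tree lc_d_rc_23_8 lc_d_rc_17_2 lc_d_Cert_tree lc_d_Cert_tree lc_d_rc_15_1 lc_d_rc_3_3 lc_d_rc_3_3 lc_d_rc_8_3 lc_d_rc_22_6 lc_d_rc_22_2 lc_d_rc_24_0 lc_d_rc_27_8 lc_d_rc_22_8 lc_d_rc_22_2 lc_d_rc_15_1 lc_d_rc_17_2 lc_d_rc_17_2 lc_d_rc_15_1 lc_d_Cert_tree lc_d_Cert_tree lc_d_rc_15_1 lc_d_rc_8_3 lc_d_rc_8_1 lc_d_Cert_tree lc_d_rc_15_1 lc_d_rc_27_10 lc_d_Cert_tree lc_d_rc_15_1 lc_d_rc_16_4 lc_d_rc_17_2 lc_d_rc_15_1 lc_d_rc_15_1 lc_d_rc_15_1 lc_d_rc_17_2 lc_d_rc_17_2 lc_d_rc_15_1 lc_d_rc_8_1 lc_d_rc_15_1 lc_d_rc_15_1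 lc_d_rc_12_3 lc_d_rc_8_3 lc_d_rc_17_2 lc_d_rc_15_1 lc_d_Cert_tree lc_d_Cert_tree lc_d_Cert_tree lc_d_Cert_tree lc_d_rc_15_1) (@D3.rec (fun _ => (Cert rels S Gen.d)) lc_d_rc_17_2 lc_d_rc_23_2 lc_d_Cert_tree lc_d_Cert_tree lc_d_rc_16_4 lc_d_rc_15_1 lc_d_rc_15_1 lc_d_rc_17_2 lc_d_rc_27_10 lc_d_rc_15_1 lc_d_rc_8_3 lc_d_rc_16_0 lc_d_rc_15_1 lc_d_rc_15_1 lc_d_Cert_tree lc_d_Cert_tree lc_d_Cert_tree lc_d_rc_27_10 lc_d_Cert_tree lc_d_rc_15_1 lc_d_rc_8_3 lc_d_Cert_tree lc_d_rc_16_4 lc_d_rc_15_1 lc_d_rc_23_2 lc_d_Cert_tree lc_d_Cert_tree lc_d_rc_17_2 lc_d_Cert_tree lc_d_rc_15_1 lc_d_rc_27_4 lc_d_rc_8_3 lc_d_rc_16_4 lc_d_rc_16_4 lc_d_rc_23_6 lc_d_Cert_tree lc_d_rc_15_1 lc_d_Cert_tree lc_d_rc_3_1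 lc_d_rc_15_1 lc_d_rc_17_2 lc_d_rc_8_3 lc_d_rc_15_1 lc_d_rc_8_1 lc_d_rc_8_3 lc_d_rc_25_10 lc_d_Cert_tree lc_d_rc_15_1 lc_d_rc_17_2 lc_d_rc_15_1 lc_d_Cert_tree lc_d_Cert_tree lc_d_Cert_tree lc_d_rc_15_1 lc_d_Cert_tree lc_d_Cert_tree lc_d_Cert_tree lc_d_rc_15_1 lc_d_rc_17_2 lc_d_Cert_tree lc_d_rc_15_1 lc_d_rc_17_0) (@D3.rec (fun _ => (Cert rels S Gen.d)) lc_d_Cert_tree lc_d_rc_15_1 lc_d_Cert_tree lc_d_rc_17_2 lc_d_rc_8_3 lc_d_rc_16_4 lc_d_Cert_tree lc_d_rc_15_1 lc_d_rc_8_3 lc_d_rc_16_2 lc_d_Cert_tree lc_d_Cert_tree lc_d_rc_15_1 lc_d_rc_27_2 lc_d_rc_24_0 lc_d_rc_12_3 lc_d_rc_16_4 lc_d_rc_8_3 lc_d_rc_16_4 lc_d_rc_15_1 lc_d_Cert_tree lc_d_Cert_tree lc_d_Cert_tree lc_d_rc_17_2 lc_d_rc_16_2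 lc_d_rc_17_2 lc_d_rc_15_1 lc_d_Cert_tree lc_d_rc_15_1 lc_d_Cert_tree lc_d_rc_15_1 lc_d_rc_17_2 lc_d_Cert_tree lc_d_rc_15_1 lc_d_Cert_tree lc_d_rc_8_1 lc_d_rc_15_1 lc_d_Cert_tree lc_d_rc_23_4 lc_d_rc_23_4 lc_d_rc_17_2 lc_d_rc_15_1 lc_d_rc_23_8 lc_d_rc_15_1 lc_d_rc_24_0 lc_d_rc_17_0 lc_d_rc_15_1 lc_d_rc_15_1 lc_d_rc_16_2 lc_d_rc_15_1 lc_d_Cert_tree lc_d_rc_15_1 lc_d_rc_24_5 lc_d_rc_22_2 lc_d_rc_16_4 lc_d_rc_8_3 lc_d_rc_22_4 lc_d_rc_16_4 lc_d_Cert_tree lc_d_rc_23_4 lc_d_rc_15_1 lc_d_rc_17_2) (@D3.rec (fun _ => (Cert rels S Gen.d)) lc_d_rc_15_1 lc_d_rc_15_1 lc_d_rc_3_3 lc_d_Cert_tree lc_d_rc_16_2 lc_d_rc_27_4 lc_d_rc_15_1 lc_d_Cert_tree lc_d_Cert_tree lc_d_rc_15_1 lc_d_Cert_tree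 lc_d_Cert_tree lc_d_rc_15_1 lc_d_Cert_tree lc_d_rc_23_6 lc_d_rc_17_2 lc_d_rc_17_0 lc_d_rc_15_1 lc_d_rc_27_4 lc_d_rc_8_1 lc_d_rc_15_1 lc_d_Cert_tree lc_d_rc_15_1 lc_d_rc_17_2 lc_d_rc_27_2 lc_d_rc_16_2 lc_d_rc_3_3 lc_d_rc_27_4 lc_d_rc_23_2 lc_d_rc_15_1 lc_d_Cert_tree lc_d_Cert_tree lc_d_rc_15_1 lc_d_rc_8_3 lc_d_Cert_tree lc_d_Cert_tree lc_d_rc_15_1 lc_d_rc_15_1 lc_d_rc_17_2 lc_d_rc_16_4 lc_d_rc_23_8 lc_d_rc_24_0 lc_d_rc_15_1 lc_d_rc_22_4 lc_d_rc_3_3 lc_d_rc_15_1 lc_d_rc_15_1 lc_d_rc_8_1 lc_d_Cert_tree lc_d_rc_16_4 lc_d_rc_27_4 lc_d_rc_8_3 lc_d_rc_15_1 lc_d_rc_17_2 lc_d_rc_15_1 lc_d_rc_15_1 lc_d_rc_15_1 lc_d_rc_15_1 lc_d_rc_15_1 lc_d_rc_12_1 lc_d_rc_16_2 lc_d_rc_3_1) (@D3.rec (fun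 _ => (Cert rels S Gen.d)) lc_d_Cert_tree lc_d_rc_16_2 lc_d_rc_8_3 lc_d_Cert_tree lc_d_Cert_tree lc_d_rc_23_8 lc_d_rc_15_1 lc_d_rc_23_8 lc_d_rc_23_2 lc_d_rc_15_1 lc_d_rc_17_2 lc_d_rc_8_3 lc_d_rc_8_3 lc_d_rc_27_4 lc_d_rc_8_3 lc_d_rc_16_4 lc_d_rc_8_1 lc_d_rc_16_4 lc_d_rc_16_2 lc_d_rc_16_4 lc_d_rc_16_4 lc_d_rc_27_4 lc_d_rc_8_3 lc_d_rc_15_1 lc_d_rc_15_1 lc_d_Cert_tree lc_d_rc_16_4 lc_d_rc_16_0 lc_d_rc_24_5 lc_d_rc_12_11 lc_d_rc_8_3 lc_d_rc_3_3 lc_d_rc_24_0 lc_d_rc_15_1 lc_d_rc_17_2 lc_d_rc_16_2 lc_d_rc_15_1 lc_d_rc_27_4 lc_d_rc_15_1 lc_d_rc_23_2 lc_d_rc_17_2 lc_d_Cert_tree lc_d_rc_15_1 lc_d_rc_17_2 lc_d_rc_8_3 lc_d_rc_22_2 lc_d_rc_16_2 lc_d_rc_24_5 lc_d_Cert_tree lc_d_rc_27_2 lc_d_rc_17_2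 lc_d_rc_3_3 lc_d_rc_8_3 lc_d_rc_25_18 lc_d_rc_3_3 lc_d_rc_17_2 lc_d_rc_24_5 lc_d_rc_15_1 lc_d_rc_3_3 lc_d_Cert_tree lc_d_rc_3_3 lc_d_rc_8_3) (@D3.rec (fun _ => (Cert rels S Gen.d)) lc_d_rc_15_1 lc_d_rc_3_1 lc_d_rc_17_2 lc_d_rc_23_4 lc_d_rc_16_2 lc_d_rc_3_1 lc_d_rc_8_3 lc_d_rc_27_4 lc_d_rc_8_3 lc_d_rc_8_3 lc_d_Cert_tree lc_d_rc_15_1 lc_d_Cert_tree lc_d_Cert_tree lc_d_Cert_tree lc_d_rc_15_1 lc_d_rc_24_5 lc_d_Cert_tree lc_d_rc_15_1 lc_d_rc_16_4 lc_d_rc_15_1 lc_d_rc_23_2 lc_d_Cert_tree lc_d_Cert_tree lc_d_Cert_tree lc_d_rc_15_1 lc_d_rc_24_0 lc_d_rc_16_4 lc_d_rc_15_1 lc_d_rc_16_2 lc_d_Cert_tree lc_d_rc_15_1 lc_d_Cert_tree lc_d_rc_15_1 lc_d_rc_8_1 lc_d_Cert_tree lc_d_rc_15_1 lc_d_Cert_tree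 lc_d_rc_16_4 lc_d_rc_17_2 lc_d_Cert_tree lc_d_rc_15_1 lc_d_Cert_tree lc_d_rc_25_6 lc_d_Cert_tree lc_d_Cert_tree lc_d_rc_15_1 lc_d_rc_8_3 lc_d_rc_23_6 lc_d_rc_16_4 lc_d_Cert_tree lc_d_rc_8_3 lc_d_rc_16_4 lc_d_rc_27_10 lc_d_rc_15_1 lc_d_rc_17_2 lc_d_rc_17_2 lc_d_rc_16_4 lc_d_rc_8_3 lc_d_Cert_tree lc_d_rc_27_10 lc_d_rc_15_1) (@D3.rec (fun _ => (Cert rels S Gen.d)) lc_d_rc_17_2 lc_d_rc_8_3 lc_d_rc_16_0 lc_d_rc_15_1 lc_d_rc_17_2 lc_d_rc_8_3 lc_d_rc_8_3 lc_d_rc_16_4 lc_d_rc_15_1 lc_d_rc_15_1 lc_d_rc_3_1 lc_d_rc_15_1 lc_d_rc_3_1 lc_d_rc_23_2 lc_d_rc_23_2 lc_d_rc_24_0 lc_d_rc_23_4 lc_d_rc_16_4 lc_d_Cert_tree lc_d_rc_15_1 lc_d_Cert_tree lc_d_rc_27_10 lc_d_rc_3_1 lc_d_rc_8_1 lc_d_rc_8_3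 lc_d_Cert_tree lc_d_rc_16_0 lc_d_rc_15_1 lc_d_rc_17_2 lc_d_rc_23_8 lc_d_Cert_tree lc_d_rc_15_1 lc_d_Cert_tree lc_d_rc_15_1 lc_d_rc_23_4 lc_d_Cert_tree lc_d_rc_16_2 lc_d_Cert_tree lc_d_rc_15_1 lc_d_rc_16_2 lc_d_rc_24_5 lc_d_rc_15_1 lc_d_Cert_tree lc_d_rc_17_2 lc_d_Cert_tree lc_d_rc_15_1 lc_d_rc_27_10 lc_d_rc_16_0 lc_d_rc_8_3 lc_d_Cert_tree lc_d_rc_25_2 lc_d_rc_24_0 lc_d_rc_3_1 lc_d_rc_15_1 lc_d_Cert_tree lc_d_rc_15_1 lc_d_rc_27_4 lc_d_Cert_tree lc_d_Cert_tree lc_d_rc_15_1 lc_d_rc_17_2 lc_d_Cert_tree) (@D3.rec (fun _ => (Cert rels S Gen.d)) lc_d_rc_15_1 lc_d_Cert_tree lc_d_rc_16_4 lc_d_Cert_tree lc_d_rc_15_1 lc_d_Cert_tree lc_d_rc_27_10 lc_d_rc_15_1 lc_d_rc_17_2 lc_d_rc_15_1 lc_d_rc_23_8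 lc_d_Cert_tree lc_d_rc_15_1 lc_d_Cert_tree lc_d_rc_27_8 lc_d_Cert_tree lc_d_rc_16_4 lc_d_rc_15_1 lc_d_rc_17_2 lc_d_rc_23_8 lc_d_rc_16_2 lc_d_rc_16_2 lc_d_Cert_tree lc_d_Cert_tree lc_d_Cert_tree lc_d_rc_15_1 lc_d_Cert_tree lc_d_rc_15_1 lc_d_rc_22_4 lc_d_rc_15_1 lc_d_rc_17_2 lc_d_Cert_tree lc_d_Cert_tree lc_d_Cert_tree lc_d_rc_15_1 lc_d_Cert_tree lc_d_rc_27_4 lc_d_rc_15_1 lc_d_rc_17_2 lc_d_rc_25_14 lc_d_Cert_tree lc_d_rc_15_1 lc_d_Cert_tree lc_d_rc_17_2 lc_d_rc_24_0 lc_d_rc_15_1 lc_d_Cert_tree lc_d_rc_15_1 lc_d_Cert_tree lc_d_Cert_tree lc_d_rc_16_4 lc_d_rc_17_2 lc_d_Cert_tree lc_d_rc_15_1 lc_d_rc_15_1 lc_d_rc_17_0 lc_d_rc_8_3 lc_d_Cert_tree lc_d_Cert_tree lc_d_Cert_tree lc_d_rc_17_2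 lc_d_Cert_tree) (@D3.rec (fun _ => (Cert rels S Gen.d)) lc_d_Cert_tree lc_d_Cert_tree lc_d_rc_15_1 lc_d_Cert_tree lc_d_rc_15_1 lc_d_rc_27_4 lc_d_Cert_tree lc_d_Cert_tree lc_d_rc_15_1 lc_d_rc_8_1 lc_d_Cert_tree lc_d_rc_27_2 lc_d_rc_25_18 lc_d_Cert_tree lc_d_rc_8_3 lc_d_Cert_tree lc_d_Cert_tree lc_d_rc_15_1 lc_d_Cert_tree lc_d_rc_15_1 lc_d_rc_27_2 lc_d_rc_17_2 lc_d_rc_15_1 lc_d_rc_15_1 lc_d_rc_8_3 lc_d_Cert_tree lc_d_Cert_tree lc_d_rc_15_1 lc_d_rc_23_8 lc_d_rc_15_1 lc_d_rc_16_4 lc_d_rc_8_3 lc_d_rc_27_10 lc_d_rc_27_4 lc_d_rc_27_2 lc_d_rc_16_4 lc_d_Cert_tree lc_d_rc_16_4 lc_d_Cert_tree lc_d_rc_15_1 lc_d_rc_16_2 lc_d_rc_22_2 lc_d_Cert_tree lc_d_Cert_tree lc_d_rc_15_1 lc_d_Cert_tree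 lc_d_rc_17_2 lc_d_rc_15_1 lc_d_rc_17_2 lc_d_Cert_tree lc_d_rc_15_1 lc_d_rc_17_2 lc_d_rc_27_8 lc_d_rc_15_1 lc_d_rc_24_0 lc_d_rc_12_15 lc_d_Cert_tree lc_d_Cert_tree lc_d_rc_15_1 lc_d_Cert_tree lc_d_Cert_tree lc_d_Cert_tree) (@D3.rec (fun _ => (Cert rels S Gen.d)) lc_d_rc_15_1 lc_d_rc_15_1 lc_d_Cert_tree lc_d_rc_16_4 lc_d_rc_24_5 lc_d_Cert_tree lc_d_rc_27_8 lc_d_Cert_tree lc_d_rc_23_2 lc_d_Cert_tree lc_d_rc_15_1 lc_d_Cert_tree lc_d_Cert_tree lc_d_Cert_tree lc_d_rc_23_4 lc_d_rc_22_2 lc_d_rc_15_1 lc_d_Cert_tree lc_d_rc_15_1 lc_d_rc_27_4 lc_d_rc_24_5 lc_d_rc_15_1 lc_d_Cert_tree lc_d_rc_15_1 lc_d_rc_15_1 lc_d_Cert_tree lc_d_Cert_tree lc_d_rc_15_1 lc_d_Cert_tree lc_d_Cert_tree lc_d_Cert_tree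 lc_d_Cert_tree lc_d_rc_15_1 lc_d_rc_23_6 lc_d_rc_23_6 lc_d_rc_16_4 lc_d_rc_8_3 lc_d_rc_17_2 lc_d_rc_15_1 lc_d_rc_16_4 lc_d_Cert_tree lc_d_rc_15_1 lc_d_Cert_tree lc_d_rc_15_1 lc_d_rc_22_6 lc_d_Cert_tree lc_d_rc_15_1 lc_d_rc_16_4 lc_d_rc_17_2 lc_d_Cert_tree lc_d_rc_15_1 lc_d_rc_16_4 lc_d_Cert_tree lc_d_Cert_tree lc_d_Cert_tree lc_d_rc_15_1 lc_d_rc_17_2 lc_d_rc_15_1 lc_d_rc_22_6 lc_d_rc_16_4 lc_d_rc_17_2 lc_d_Cert_tree) (@D3.rec (fun _ => (Cert rels S Gen.d)) lc_d_Cert_tree lc_d_rc_15_1 lc_d_rc_16_4 lc_d_rc_16_4 lc_d_rc_8_3 lc_d_Cert_tree lc_d_rc_27_10 lc_d_rc_24_5 lc_d_rc_17_2 lc_d_rc_16_2 lc_d_rc_8_3 lc_d_rc_23_2 lc_d_rc_3_3 lc_d_rc_16_0 lc_d_rc_17_2 lc_d_Cert_tree lc_d_rc_16_4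 lc_d_rc_17_2 lc_d_rc_16_4 lc_d_rc_23_2 lc_d_rc_27_10 lc_d_rc_17_2 lc_d_Cert_tree lc_d_Cert_tree lc_d_rc_16_4 lc_d_rc_15_1 lc_d_rc_8_3 lc_d_rc_8_3 lc_d_Cert_tree lc_d_Cert_tree lc_d_Cert_tree lc_d_Cert_tree lc_d_rc_15_1 lc_d_rc_27_2 lc_d_rc_16_0 lc_d_rc_15_1 lc_d_rc_27_4 lc_d_Cert_tree lc_d_rc_15_1 lc_d_rc_27_2 lc_d_Cert_tree lc_d_rc_15_1 lc_d_Cert_tree lc_d_Cert_tree lc_d_Cert_tree lc_d_Cert_tree lc_d_rc_15_1 lc_d_Cert_tree lc_d_rc_27_2 lc_d_rc_23_8 lc_d_rc_15_1 lc_d_rc_15_1 lc_d_rc_23_2 lc_d_rc_27_4 lc_d_rc_8_1 lc_d_rc_8_3 lc_d_rc_25_18 lc_d_rc_27_10 lc_d_rc_15_1 lc_d_rc_17_2 lc_d_Cert_tree lc_d_Cert_tree) (@D3.rec (fun _ => (Cert rels S Gen.d)) lc_d_Cert_tree lc_d_rc_15_1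 lc_d_Cert_tree lc_d_rc_27_2 lc_d_rc_16_0 lc_d_rc_16_2 lc_d_rc_15_1 lc_d_rc_24_0 lc_d_rc_16_4 lc_d_rc_15_1 lc_d_rc_3_3 lc_d_rc_17_2 lc_d_rc_17_2 lc_d_rc_8_3 lc_d_Cert_tree lc_d_rc_8_3 lc_d_rc_27_10 lc_d_Cert_tree lc_d_rc_15_1 lc_d_rc_8_3 lc_d_rc_12_15 lc_d_rc_24_5 lc_d_rc_27_8 lc_d_rc_22_8 lc_d_rc_23_4 lc_d_rc_15_1 lc_d_rc_15_1 lc_d_rc_16_4 lc_d_rc_15_1 lc_d_rc_27_10 lc_d_rc_17_2 lc_d_rc_23_8 lc_d_rc_15_1 lc_d_Cert_tree lc_d_rc_15_1 lc_d_rc_8_1 lc_d_rc_17_0 lc_d_rc_22_2 lc_d_rc_23_4 lc_d_rc_15_1 lc_d_rc_22_8 lc_d_rc_23_4 lc_d_rc_16_2 lc_d_rc_22_4 lc_d_Cert_tree lc_d_Cert_tree lc_d_Cert_tree lc_d_rc_15_1 lc_d_rc_16_4 lc_d_rc_23_6 lc_d_Cert_tree lc_d_Cert_tree lc_d_rc_22_2 lc_d_Cert_tree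 lc_d_Cert_tree lc_d_rc_15_1 lc_d_rc_27_2 lc_d_rc_17_2 lc_d_rc_24_5 lc_d_rc_15_1 lc_d_rc_12_15 lc_d_rc_15_1) (@D3.rec (fun _ => (Cert rels S Gen.d)) lc_d_rc_15_1 lc_d_rc_8_3 lc_d_Cert_tree lc_d_rc_16_4 lc_d_rc_17_2 lc_d_Cert_tree lc_d_rc_15_1 lc_d_rc_27_4 lc_d_rc_15_1 lc_d_rc_27_2 lc_d_rc_8_3 lc_d_rc_8_3 lc_d_rc_27_10 lc_d_rc_16_0 lc_d_rc_17_2 lc_d_Cert_tree lc_d_Cert_tree lc_d_Cert_tree lc_d_rc_15_1 lc_d_Cert_tree lc_d_rc_15_1 lc_d_rc_27_8 lc_d_Cert_tree lc_d_Cert_tree lc_d_rc_15_1 lc_d_rc_8_1 lc_d_Cert_tree lc_d_Cert_tree lc_d_Cert_tree lc_d_Cert_tree lc_d_rc_15_1 lc_d_rc_17_2 lc_d_Cert_tree lc_d_Cert_tree lc_d_rc_15_1 lc_d_rc_15_1 lc_d_rc_15_1 lc_d_Cert_tree lc_d_rc_15_1 lc_d_rc_15_1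 lc_d_rc_3_1 lc_d_rc_24_5 lc_d_Cert_tree lc_d_rc_12_3 lc_d_rc_27_8 lc_d_rc_23_2 lc_d_rc_23_8 lc_d_rc_15_1 lc_d_rc_17_2 lc_d_rc_24_0 lc_d_Cert_tree lc_d_rc_16_4 lc_d_rc_16_2 lc_d_Cert_tree lc_d_Cert_tree lc_d_rc_15_1 lc_d_Cert_tree lc_d_rc_24_5 lc_d_Cert_tree lc_d_Cert_tree lc_d_Cert_tree lc_d_rc_8_1) (@D3.rec (fun _ => (Cert rels S Gen.d)) lc_d_rc_15_1 lc_d_rc_22_8 lc_d_rc_25_10 lc_d_rc_3_3 lc_d_Cert_tree lc_d_Cert_tree lc_d_rc_17_2 lc_d_Cert_tree lc_d_rc_15_1 lc_d_rc_17_2 lc_d_rc_27_2 lc_d_Cert_tree lc_d_rc_17_2 lc_d_Cert_tree lc_d_rc_15_1 lc_d_Cert_tree lc_d_Cert_tree lc_d_rc_15_1 lc_d_rc_17_0 lc_d_Cert_tree lc_d_Cert_tree lc_d_rc_23_4 lc_d_rc_15_1 lc_d_rc_22_2 lc_d_Cert_tree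 lc_d_rc_16_4 lc_d_rc_15_1 lc_d_Cert_tree lc_d_rc_27_8 lc_d_rc_15_1 lc_d_Cert_tree lc_d_Cert_tree lc_d_Cert_tree lc_d_Cert_tree lc_d_rc_15_1 lc_d_Cert_tree lc_d_Cert_tree lc_d_rc_15_1 lc_d_rc_17_2 lc_d_rc_15_1 lc_d_Cert_tree lc_d_Cert_tree lc_d_rc_15_1 lc_d_Cert_tree lc_d_rc_8_1 lc_d_rc_15_1 lc_d_Cert_tree lc_d_rc_24_5 lc_d_rc_15_1 lc_d_rc_24_5 lc_d_rc_16_4 lc_d_rc_8_3 lc_d_Cert_tree lc_d_rc_27_10 lc_d_rc_27_10 lc_d_rc_17_2 lc_d_rc_17_2 lc_d_Cert_tree lc_d_rc_15_1 lc_d_Cert_tree lc_d_rc_8_3 lc_d_rc_17_2) (@D3.rec (fun _ => (Cert rels S Gen.d)) lc_d_rc_8_3 lc_d_rc_17_2 lc_d_Cert_tree lc_d_rc_15_1 lc_d_Cert_tree lc_d_rc_24_5 lc_d_rc_17_2 lc_d_Cert_tree lc_d_rc_3_1 lc_d_rc_8_3 lc_d_rc_15_1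 lc_d_rc_8_3 lc_d_rc_16_4 lc_d_Cert_tree lc_d_rc_23_6 lc_d_Cert_tree lc_d_Cert_tree lc_d_rc_15_1 lc_d_Cert_tree lc_d_Cert_tree lc_d_rc_23_8 lc_d_rc_15_1 lc_d_rc_15_1 lc_d_rc_17_2 lc_d_Cert_tree lc_d_Cert_tree lc_d_rc_16_4 lc_d_rc_8_3 lc_d_rc_24_0 lc_d_Cert_tree lc_d_rc_15_1 lc_d_Cert_tree lc_d_Cert_tree lc_d_Cert_tree lc_d_Cert_tree lc_d_rc_15_1 lc_d_rc_17_2 lc_d_Cert_tree lc_d_rc_15_1 lc_d_Cert_tree lc_d_rc_27_2 lc_d_rc_27_10 lc_d_Cert_tree lc_d_rc_17_2 lc_d_Cert_tree lc_d_rc_8_3 lc_d_Cert_tree lc_d_rc_15_1 lc_d_Cert_tree lc_d_Cert_tree lc_d_rc_15_1 lc_d_rc_17_2 lc_d_Cert_tree lc_d_Cert_tree lc_d_Cert_tree lc_d_rc_15_1 lc_d_Cert_tree lc_d_Cert_tree lc_d_rc_15_1 lc_d_rc_17_2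 lc_d_rc_8_1 lc_d_Cert_tree) (@D3.rec (fun _ => (Cert rels S Gen.d)) lc_d_rc_8_3 lc_d_Cert_tree lc_d_rc_27_10 lc_d_Cert_tree lc_d_rc_8_3 lc_d_Cert_tree lc_d_Cert_tree lc_d_rc_16_0 lc_d_rc_8_1 lc_d_rc_17_2 lc_d_rc_15_1 lc_d_rc_15_1 lc_d_rc_24_5 lc_d_rc_15_1 lc_d_rc_27_4 lc_d_Cert_tree lc_d_rc_24_0 lc_d_rc_15_1 lc_d_rc_15_1 lc_d_rc_17_2 lc_d_rc_27_10 lc_d_rc_15_1 lc_d_Cert_tree lc_d_rc_15_1 lc_d_rc_16_4 lc_d_rc_12_3 lc_d_rc_23_4 lc_d_Cert_tree lc_d_rc_15_1 lc_d_Cert_tree lc_d_Cert_tree lc_d_Cert_tree lc_d_rc_15_1 lc_d_rc_17_2 lc_d_Cert_tree lc_d_rc_16_4 lc_d_rc_15_1 lc_d_rc_27_4 lc_d_rc_17_2 lc_d_Cert_tree lc_d_rc_15_1 lc_d_rc_22_4 lc_d_rc_24_0 lc_d_rc_24_0 lc_d_Cert_tree lc_d_rc_15_1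 lc_d_Cert_tree lc_d_Cert_tree lc_d_Cert_tree lc_d_rc_24_5 lc_d_rc_15_1 lc_d_rc_17_2 lc_d_Cert_tree lc_d_rc_27_4 lc_d_Cert_tree lc_d_rc_24_0 lc_d_rc_8_3 lc_d_rc_27_10 lc_d_rc_15_1 lc_d_Cert_tree lc_d_Cert_tree lc_d_rc_15_1) (@D3.rec (fun _ => (Cert rels S Gen.d)) lc_d_rc_17_2 lc_d_rc_8_3 lc_d_rc_17_2 lc_d_rc_15_1 lc_d_Cert_tree lc_d_Cert_tree lc_d_rc_15_1 lc_d_rc_17_2 lc_d_rc_15_1 lc_d_rc_24_5 lc_d_rc_16_4 lc_d_rc_15_1 lc_d_Cert_tree lc_d_rc_25_2 lc_d_Cert_tree lc_d_rc_8_1 lc_d_rc_15_1 lc_d_Cert_tree lc_d_rc_8_3 lc_d_rc_16_4 lc_d_rc_16_2 lc_d_rc_8_3 lc_d_Cert_tree lc_d_rc_16_0 lc_d_rc_15_1 lc_d_rc_17_2 lc_d_rc_15_1 lc_d_rc_24_5 lc_d_rc_15_1 lc_d_rc_27_4 lc_d_rc_8_3 lc_d_Cert_tree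 lc_d_Cert_tree lc_d_rc_15_1 lc_d_Cert_tree lc_d_rc_15_1 lc_d_rc_17_2 lc_d_Cert_tree lc_d_rc_15_1 lc_d_Cert_tree lc_d_Cert_tree lc_d_rc_15_1 lc_d_Cert_tree lc_d_rc_24_0 lc_d_rc_15_1 lc_d_Cert_tree lc_d_rc_15_1 lc_d_rc_8_1 lc_d_rc_23_6 lc_d_rc_23_6 lc_d_rc_16_4 lc_d_rc_17_2 lc_d_rc_16_4 lc_d_rc_15_1 lc_d_rc_23_2 lc_d_rc_17_2 lc_d_rc_25_18 lc_d_rc_15_1 lc_d_Cert_tree lc_d_rc_8_3 lc_d_Cert_tree lc_d_rc_23_8) (@D3.rec (fun _ => (Cert rels S Gen.d)) lc_d_rc_8_3 lc_d_Cert_tree lc_d_rc_15_1 lc_d_rc_23_8 lc_d_Cert_tree lc_d_Cert_tree lc_d_Cert_tree lc_d_rc_15_1 lc_d_rc_17_2 lc_d_Cert_tree lc_d_rc_27_8 lc_d_rc_8_3 lc_d_rc_23_2 lc_d_rc_8_3 lc_d_rc_23_8 lc_d_rc_24_0 lc_d_rc_17_2 lc_d_rc_15_1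 lc_d_Cert_tree lc_d_Cert_tree lc_d_Cert_tree lc_d_Cert_tree lc_d_rc_15_1 lc_d_rc_17_2 lc_d_Cert_tree lc_d_rc_16_2 lc_d_rc_15_1 lc_d_rc_16_0 lc_d_rc_3_1 lc_d_rc_8_3 lc_d_Cert_tree lc_d_rc_3_1 lc_d_rc_8_1 lc_d_Cert_tree lc_d_rc_15_1 lc_d_rc_27_2 lc_d_Cert_tree lc_d_rc_27_10 lc_d_rc_15_1 lc_d_rc_16_2 lc_d_rc_27_4 lc_d_rc_27_2 lc_d_rc_27_10 lc_d_rc_17_2 lc_d_rc_23_8 lc_d_rc_23_8 lc_d_Cert_tree lc_d_rc_15_1 lc_d_rc_8_3 lc_d_rc_16_2 lc_d_rc_8_3 lc_d_rc_22_8 lc_d_rc_17_2 lc_d_Cert_tree lc_d_rc_27_4 lc_d_Cert_tree lc_d_Cert_tree lc_d_Cert_tree lc_d_rc_15_1 lc_d_rc_8_3 lc_d_rc_25_6 lc_d_rc_25_18) (@D3.rec (fun _ => (Cert rels S Gen.d)) lc_d_Cert_tree lc_d_rc_15_1 lc_d_rc_16_4 lc_d_rc_16_2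 lc_d_rc_3_3 lc_d_rc_3_1 lc_d_Cert_tree lc_d_rc_22_2 lc_d_rc_15_1 lc_d_rc_27_8 lc_d_rc_27_2 lc_d_Cert_tree lc_d_rc_15_1 lc_d_rc_15_1 lc_d_rc_23_2 lc_d_rc_23_8 lc_d_rc_8_1 lc_d_rc_15_1 lc_d_Cert_tree lc_d_rc_15_1 lc_d_Cert_tree lc_d_Cert_tree lc_d_rc_17_2 lc_d_rc_15_1 lc_d_rc_22_8 lc_d_rc_15_1 lc_d_rc_24_5 lc_d_rc_15_1 lc_d_Cert_tree lc_d_rc_24_5 lc_d_rc_15_1 lc_d_rc_27_4 lc_d_rc_8_1 lc_d_rc_15_1 lc_d_Cert_tree lc_d_Cert_tree lc_d_rc_15_1 lc_d_Cert_tree lc_d_rc_8_3 lc_d_Cert_tree lc_d_rc_27_2 lc_d_rc_15_1 lc_d_rc_24_0 lc_d_rc_24_0 lc_d_rc_16_4 lc_d_rc_15_1 lc_d_Cert_tree lc_d_rc_22_2 lc_d_Cert_tree lc_d_Cert_tree lc_d_rc_15_1 lc_d_rc_23_6 lc_d_rc_22_8 lc_d_rc_16_4 lc_d_Cert_tree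 lc_d_rc_15_1 lc_d_Cert_tree lc_d_rc_15_1 lc_d_Cert_tree lc_d_rc_15_1 lc_d_rc_17_2 lc_d_rc_15_1) (@D3.rec (fun _ => (Cert rels S Gen.d)) lc_d_Cert_tree lc_d_Cert_tree lc_d_rc_27_2 lc_d_Cert_tree lc_d_Cert_tree lc_d_Cert_tree lc_d_rc_15_1 lc_d_rc_16_4 lc_d_rc_24_5 lc_d_rc_8_3 lc_d_rc_27_10 lc_d_rc_15_1 lc_d_rc_17_2 lc_d_Cert_tree lc_d_rc_15_1 lc_d_rc_16_2 lc_d_rc_22_4 lc_d_rc_22_2 lc_d_Cert_tree lc_d_rc_15_1 lc_d_Cert_tree lc_d_rc_15_1 lc_d_rc_27_2 lc_d_Cert_tree lc_d_rc_15_1 lc_d_Cert_tree lc_d_Cert_tree lc_d_rc_15_1 lc_d_rc_3_3 lc_d_rc_15_1 lc_d_Cert_tree lc_d_rc_15_1 lc_d_rc_27_8 lc_d_rc_23_8 lc_d_rc_15_1 lc_d_rc_15_1 lc_d_Cert_tree lc_d_Cert_tree lc_d_rc_15_1 lc_d_Cert_tree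 lc_d_rc_8_3 lc_d_Cert_tree lc_d_Cert_tree lc_d_rc_15_1 lc_d_rc_8_3 lc_d_rc_8_3 lc_d_rc_24_5 lc_d_rc_15_1 lc_d_rc_25_2 lc_d_rc_24_5 lc_d_Cert_tree lc_d_rc_15_1 lc_d_Cert_tree lc_d_rc_12_15 lc_d_rc_15_1 lc_d_Cert_tree lc_d_Cert_tree lc_d_Cert_tree lc_d_rc_15_1 lc_d_rc_17_2 lc_d_Cert_tree lc_d_rc_15_1) (@D3.rec (fun _ => (Cert rels S Gen.d)) lc_d_Cert_tree lc_d_rc_27_2 lc_d_rc_27_10 lc_d_rc_16_0 lc_d_Cert_tree lc_d_rc_15_1 lc_d_Cert_tree lc_d_Cert_tree lc_d_rc_23_2 lc_d_rc_27_10 lc_d_rc_15_1 lc_d_rc_17_2 lc_d_Cert_tree lc_d_rc_27_4 lc_d_Cert_tree lc_d_Cert_tree lc_d_Cert_tree lc_d_Cert_tree lc_d_rc_15_1 lc_d_Cert_tree lc_d_rc_23_6 lc_d_Cert_tree lc_d_rc_15_1 lc_d_rc_17_2 lc_d_Cert_tree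 lc_d_Cert_tree lc_d_Cert_tree lc_d_rc_15_1 lc_d_Cert_tree lc_d_Cert_tree lc_d_rc_15_1 lc_d_rc_17_2 lc_d_Cert_tree lc_d_Cert_tree lc_d_Cert_tree lc_d_rc_24_5 lc_d_rc_15_1 lc_d_Cert_tree lc_d_rc_17_2 lc_d_Cert_tree lc_d_rc_15_1 lc_d_rc_15_1 lc_d_rc_15_1 lc_d_rc_15_1 lc_d_Cert_tree lc_d_rc_16_4 lc_d_rc_17_2 lc_d_Cert_tree lc_d_rc_15_1 lc_d_rc_27_8 lc_d_rc_15_1 lc_d_Cert_tree lc_d_rc_8_3 lc_d_Cert_tree lc_d_Cert_tree lc_d_Cert_tree lc_d_rc_17_2 lc_d_rc_17_2 lc_d_rc_15_1 lc_d_Cert_tree lc_d_rc_15_1 lc_d_rc_15_1) (@D3.rec (fun _ => (Cert rels S Gen.d)) lc_d_rc_17_2 lc_d_rc_3_3 lc_d_rc_27_4 lc_d_rc_25_6 lc_d_rc_23_4 lc_d_Cert_tree lc_d_rc_15_1 lc_d_rc_3_1 lc_d_rc_8_3 lc_d_rc_8_3 lc_d_rc_15_1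 lc_d_rc_23_8 lc_d_rc_16_2 lc_d_rc_27_10 lc_d_rc_15_1 lc_d_rc_17_2 lc_d_rc_15_1 lc_d_rc_8_3 lc_d_rc_15_1 lc_d_rc_16_0 lc_d_rc_23_4 lc_d_rc_17_2 lc_d_rc_15_1 lc_d_Cert_tree lc_d_Cert_tree lc_d_rc_15_1 lc_d_rc_17_2 lc_d_rc_8_3 lc_d_rc_23_8 lc_d_rc_3_1 lc_d_rc_17_2 lc_d_Cert_tree lc_d_Cert_tree lc_d_rc_15_1 lc_d_rc_12_15 lc_d_rc_15_1 lc_d_rc_8_3 lc_d_Cert_tree lc_d_Cert_tree lc_d_rc_16_4 lc_d_rc_27_10 lc_d_rc_15_1 lc_d_Cert_tree lc_d_rc_17_2 lc_d_rc_15_1 lc_d_rc_17_2 lc_d_rc_15_1 lc_d_rc_23_8 lc_d_rc_27_10 lc_d_rc_17_2 lc_d_rc_8_1 lc_d_Cert_tree lc_d_Cert_tree lc_d_rc_15_1 lc_d_rc_17_2 lc_d_rc_15_1 lc_d_Cert_tree lc_d_Cert_tree lc_d_rc_23_8 lc_d_rc_23_2 lc_d_rc_15_1 lc_d_rc_15_1)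 (@D3.rec (fun _ => (Cert rels S Gen.d)) lc_d_Cert_tree lc_d_Cert_tree lc_d_Cert_tree lc_d_Cert_tree lc_d_rc_15_1 lc_d_Cert_tree lc_d_Cert_tree lc_d_rc_24_5 lc_d_rc_15_1 lc_d_Cert_tree lc_d_Cert_tree lc_d_rc_15_1 lc_d_rc_17_2 lc_d_Cert_tree lc_d_Cert_tree lc_d_Cert_tree lc_d_rc_15_1 lc_d_Cert_tree lc_d_rc_16_4 lc_d_Cert_tree lc_d_rc_15_1 lc_d_Cert_tree lc_d_rc_22_6 lc_d_rc_15_1 lc_d_Cert_tree lc_d_rc_16_2 lc_d_rc_8_1 lc_d_rc_15_1 lc_d_Cert_tree lc_d_rc_15_1 lc_d_Cert_tree lc_d_rc_24_0 lc_d_rc_24_0 lc_d_rc_22_6 lc_d_Cert_tree lc_d_Cert_tree lc_d_rc_15_1 lc_d_rc_17_2 lc_d_rc_8_3 lc_d_Cert_tree lc_d_rc_8_3 lc_d_rc_16_2 lc_d_Cert_tree lc_d_Cert_tree lc_d_rc_15_1 lc_d_rc_17_2 lc_d_Cert_tree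 lc_d_rc_15_1 lc_d_Cert_tree lc_d_rc_8_3 lc_d_rc_15_1 lc_d_rc_23_2 lc_d_rc_15_1 lc_d_rc_23_2 lc_d_Cert_tree lc_d_rc_17_2 lc_d_Cert_tree lc_d_Cert_tree lc_d_rc_15_1 lc_d_Cert_tree lc_d_rc_16_4 lc_d_rc_15_1) (@D3.rec (fun _ => (Cert rels S Gen.d)) lc_d_rc_27_2 lc_d_Cert_tree lc_d_rc_27_4 lc_d_Cert_tree lc_d_rc_23_2 lc_d_rc_23_8 lc_d_Cert_tree lc_d_rc_15_1 lc_d_rc_17_2 lc_d_rc_15_1 lc_d_Cert_tree lc_d_rc_15_1 lc_d_Cert_tree lc_d_rc_25_10 lc_d_rc_24_0 lc_d_rc_3_3 lc_d_rc_23_2 lc_d_rc_24_0 lc_d_rc_15_1 lc_d_rc_16_4 lc_d_rc_17_2 lc_d_Cert_tree lc_d_rc_16_2 lc_d_Cert_tree lc_d_Cert_tree lc_d_Cert_tree lc_d_rc_15_1 lc_d_Cert_tree lc_d_Cert_tree lc_d_Cert_tree lc_d_rc_15_1 lc_d_rc_17_2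 lc_d_rc_15_1 lc_d_rc_16_0 lc_d_rc_17_2 lc_d_rc_25_6 lc_d_rc_22_6 lc_d_rc_3_1 lc_d_rc_27_8 lc_d_rc_15_1 lc_d_rc_24_5 lc_d_Cert_tree lc_d_rc_15_1 lc_d_rc_3_3 lc_d_rc_27_2 lc_d_Cert_tree lc_d_Cert_tree lc_d_rc_17_2 lc_d_Cert_tree lc_d_Cert_tree lc_d_rc_15_1 lc_d_rc_24_0 lc_d_Cert_tree lc_d_rc_15_1 lc_d_Cert_tree lc_d_rc_15_1 lc_d_Cert_tree lc_d_rc_3_1 lc_d_rc_8_3 lc_d_Cert_tree lc_d_Cert_tree lc_d_Cert_tree) (@D3.rec (fun _ => (Cert rels S Gen.d)) lc_d_Cert_tree lc_d_rc_15_1 lc_d_rc_17_2 lc_d_Cert_tree lc_d_Cert_tree lc_d_rc_15_1 lc_d_rc_17_2 lc_d_Cert_tree lc_d_Cert_tree lc_d_rc_15_1 lc_d_rc_23_4 lc_d_Cert_tree lc_d_rc_15_1 lc_d_rc_15_1 lc_d_rc_15_1 lc_d_Cert_tree lc_d_rc_17_2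 lc_d_Cert_tree lc_d_Cert_tree lc_d_rc_15_1 lc_d_rc_17_2 lc_d_rc_16_4 lc_d_rc_15_1 lc_d_Cert_tree lc_d_Cert_tree lc_d_rc_8_3 lc_d_Cert_tree lc_d_Cert_tree lc_d_rc_15_1 lc_d_rc_17_2 lc_d_Cert_tree lc_d_rc_15_1 lc_d_Cert_tree lc_d_Cert_tree lc_d_rc_15_1 lc_d_Cert_tree lc_d_Cert_tree lc_d_Cert_tree lc_d_rc_8_3 lc_d_rc_15_1 lc_d_rc_23_6 lc_d_rc_16_4 lc_d_rc_15_1 lc_d_rc_25_18 lc_d_rc_17_2 lc_d_rc_15_1 lc_d_rc_15_1 lc_d_Cert_tree lc_d_rc_24_0 lc_d_rc_16_2 lc_d_rc_24_5 lc_d_rc_15_1 lc_d_rc_17_2 lc_d_rc_15_1 lc_d_rc_27_4 lc_d_rc_15_1 lc_d_rc_27_2 lc_d_rc_8_3 lc_d_rc_16_4 lc_d_rc_17_2 lc_d_rc_8_1 lc_d_rc_22_6) (@D3.rec (fun _ => (Cert rels S Gen.d)) lc_d_rc_15_1 lc_d_Cert_tree lc_d_Cert_tree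 lc_d_rc_3_3 lc_d_rc_8_3 lc_d_Cert_tree lc_d_Cert_tree lc_d_rc_24_0 lc_d_Cert_tree lc_d_rc_15_1 lc_d_Cert_tree lc_d_rc_23_8 lc_d_rc_24_0 lc_d_rc_15_1 lc_d_Cert_tree lc_d_Cert_tree lc_d_Cert_tree lc_d_rc_15_1 lc_d_rc_17_2 lc_d_rc_15_1 lc_d_Cert_tree lc_d_rc_8_3 lc_d_rc_27_2 lc_d_Cert_tree lc_d_Cert_tree lc_d_rc_15_1 lc_d_rc_17_2 lc_d_rc_8_3 lc_d_rc_27_4 lc_d_rc_27_2 lc_d_rc_15_1 lc_d_rc_22_8 lc_d_rc_17_2 lc_d_rc_8_3 lc_d_rc_27_10 lc_d_rc_8_3 lc_d_Cert_tree lc_d_rc_22_8 lc_d_rc_27_2 lc_d_rc_8_3 lc_d_rc_23_2 lc_d_rc_23_2 lc_d_Cert_tree lc_d_rc_15_1 lc_d_Cert_tree lc_d_Cert_tree lc_d_Cert_tree lc_d_rc_15_1 lc_d_rc_27_8 lc_d_rc_16_4 lc_d_rc_8_3 lc_d_Cert_tree lc_d_rc_24_5 lc_d_Cert_tree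 lc_d_rc_27_8 lc_d_rc_15_1 lc_d_rc_15_1 lc_d_rc_15_1 lc_d_Cert_tree lc_d_rc_27_10 lc_d_rc_23_4 lc_d_rc_17_2) (@D3.rec (fun _ => (Cert rels S Gen.d)) lc_d_Cert_tree lc_d_rc_24_5 lc_d_rc_15_1 lc_d_rc_27_4 lc_d_Cert_tree lc_d_rc_15_1 lc_d_Cert_tree lc_d_rc_15_1 lc_d_Cert_tree lc_d_rc_16_2 lc_d_rc_15_1 lc_d_Cert_tree lc_d_Cert_tree lc_d_rc_15_1 lc_d_Cert_tree lc_d_Cert_tree lc_d_Cert_tree lc_d_rc_15_1 lc_d_rc_17_2 lc_d_rc_8_1 lc_d_Cert_tree lc_d_rc_15_1 lc_d_rc_15_1 lc_d_Cert_tree lc_d_Cert_tree lc_d_rc_15_1 lc_d_Cert_tree lc_d_rc_15_1 lc_d_rc_17_0 lc_d_Cert_tree lc_d_rc_3_1 lc_d_rc_15_1 lc_d_rc_22_4 lc_d_Cert_tree lc_d_Cert_tree lc_d_rc_8_3 lc_d_rc_23_6 lc_d_rc_23_6 lc_d_rc_15_1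 lc_d_rc_16_2 lc_d_rc_8_3 lc_d_Cert_tree lc_d_rc_8_3 lc_d_rc_27_2 lc_d_rc_16_0 lc_d_rc_22_2 lc_d_rc_25_6 lc_d_rc_15_1 lc_d_Cert_tree lc_d_rc_24_5 lc_d_rc_15_1 lc_d_Cert_tree lc_d_Cert_tree lc_d_rc_15_1 lc_d_rc_25_6 lc_d_Cert_tree lc_d_rc_15_1 lc_d_Cert_tree lc_d_Cert_tree lc_d_Cert_tree lc_d_rc_25_10 lc_d_rc_8_1) (@D3.rec (fun _ => (Cert rels S Gen.d)) lc_d_Cert_tree lc_d_rc_8_3 lc_d_rc_16_4 lc_d_rc_27_4 lc_d_rc_17_2 lc_d_rc_27_10 lc_d_rc_15_1 lc_d_rc_15_1 lc_d_rc_17_2 lc_d_rc_15_1 lc_d_Cert_tree lc_d_Cert_tree lc_d_rc_15_1 lc_d_Cert_tree lc_d_Cert_tree lc_d_Cert_tree lc_d_rc_15_1 lc_d_Cert_tree lc_d_rc_17_2 lc_d_rc_24_0 lc_d_Cert_tree lc_d_rc_15_1 lc_d_Cert_tree lc_d_rc_17_2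 lc_d_rc_23_6 lc_d_Cert_tree lc_d_rc_23_4 lc_d_rc_17_2 lc_d_Cert_tree lc_d_rc_15_1 lc_d_rc_17_2 lc_d_rc_27_4 lc_d_rc_3_3 lc_d_Cert_tree lc_d_rc_15_1 lc_d_rc_24_0 lc_d_rc_15_1 lc_d_rc_16_4 lc_d_Cert_tree lc_d_Cert_tree lc_d_Cert_tree lc_d_rc_15_1 lc_d_rc_22_2 lc_d_rc_3_3 lc_d_rc_15_1 lc_d_rc_16_0 lc_d_rc_16_4 lc_d_rc_23_4 lc_d_Cert_tree lc_d_Cert_tree lc_d_rc_8_3 lc_d_Cert_tree lc_d_Cert_tree lc_d_Cert_tree lc_d_Cert_tree lc_d_rc_15_1 lc_d_Cert_tree lc_d_rc_17_2 lc_d_Cert_tree lc_d_Cert_tree lc_d_rc_8_1 lc_d_Cert_tree) (@D3.rec (fun _ => (Cert rels S Gen.d)) lc_d_rc_25_6 lc_d_Cert_tree lc_d_rc_15_1 lc_d_rc_3_3 lc_d_rc_8_3 lc_d_Cert_tree lc_d_Cert_tree lc_d_rc_15_1 lc_d_rc_17_2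 lc_d_rc_3_3 lc_d_Cert_tree lc_d_Cert_tree lc_d_rc_15_1 lc_d_rc_15_1 lc_d_rc_17_2 lc_d_rc_8_3 lc_d_rc_3_3 lc_d_Cert_tree lc_d_rc_15_1 lc_d_Cert_tree lc_d_Cert_tree lc_d_rc_15_1 lc_d_Cert_tree lc_d_Cert_tree lc_d_Cert_tree lc_d_rc_15_1 lc_d_Cert_tree lc_d_rc_15_1 lc_d_rc_15_1 lc_d_rc_15_1 lc_d_rc_8_1 lc_d_Cert_tree lc_d_rc_15_1 lc_d_Cert_tree lc_d_rc_17_2 lc_d_Cert_tree lc_d_rc_15_1 lc_d_Cert_tree lc_d_rc_16_0 lc_d_rc_15_1 lc_d_rc_22_8 lc_d_rc_23_8 lc_d_rc_15_1 lc_d_rc_8_1 lc_d_rc_17_2 lc_d_rc_15_1 lc_d_Cert_tree lc_d_rc_15_1 lc_d_Cert_tree lc_d_Cert_tree lc_d_rc_15_1 lc_d_rc_16_2 lc_d_Cert_tree lc_d_Cert_tree lc_d_Cert_tree lc_d_rc_15_1 lc_d_rc_15_1 lc_d_rc_15_1 lc_d_rc_16_0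 lc_d_rc_17_2 lc_d_rc_27_4 lc_d_rc_8_3) (@D3.rec (fun _ => (Cert rels S Gen.d)) lc_d_Cert_tree lc_d_Cert_tree lc_d_rc_15_1 lc_d_Cert_tree lc_d_rc_12_15 lc_d_Cert_tree lc_d_Cert_tree lc_d_rc_15_1 lc_d_rc_17_2 lc_d_rc_27_8 lc_d_rc_27_10 lc_d_rc_23_2 lc_d_rc_16_4 lc_d_rc_27_10 lc_d_rc_15_1 lc_d_rc_3_1 lc_d_rc_22_6 lc_d_Cert_tree lc_d_rc_15_1 lc_d_rc_27_2 lc_d_rc_8_1 lc_d_Cert_tree lc_d_rc_15_1 lc_d_rc_15_1 lc_d_rc_16_4 lc_d_rc_15_1 lc_d_Cert_tree lc_d_rc_15_1 lc_d_rc_15_1 lc_d_Cert_tree lc_d_rc_15_1 lc_d_Cert_tree lc_d_rc_15_1 lc_d_Cert_tree lc_d_Cert_tree lc_d_rc_15_1 lc_d_rc_16_2 lc_d_Cert_tree lc_d_rc_15_1 lc_d_Cert_tree lc_d_rc_16_0 lc_d_rc_15_1 lc_d_rc_23_4 lc_d_rc_16_4 lc_d_rc_24_5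 lc_d_Cert_tree lc_d_rc_15_1 lc_d_Cert_tree lc_d_Cert_tree lc_d_Cert_tree lc_d_Cert_tree lc_d_Cert_tree lc_d_Cert_tree lc_d_rc_8_1 lc_d_rc_15_1 lc_d_Cert_tree lc_d_rc_15_1 lc_d_rc_8_3 lc_d_Cert_tree lc_d_rc_23_8 lc_d_Cert_tree lc_d_rc_15_1) (@D3.rec (fun _ => (Cert rels S Gen.d)) lc_d_Cert_tree lc_d_rc_15_1 lc_d_Cert_tree lc_d_Cert_tree lc_d_Cert_tree lc_d_rc_15_1 lc_d_rc_17_2 lc_d_Cert_tree lc_d_rc_15_1 lc_d_rc_8_3 lc_d_rc_16_0 lc_d_rc_27_8 lc_d_Cert_tree lc_d_rc_16_4 lc_d_rc_8_3 lc_d_Cert_tree lc_d_rc_15_1 lc_d_Cert_tree lc_d_rc_3_3 lc_d_rc_16_0 lc_d_rc_27_10 lc_d_rc_15_1 lc_d_rc_8_3 lc_d_rc_15_1 lc_d_rc_17_2 lc_d_rc_16_0 lc_d_rc_22_6 lc_d_rc_15_1 lc_d_rc_8_3 lc_d_rc_24_5 lc_d_rc_15_1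 lc_d_rc_27_2 lc_d_rc_23_8 lc_d_rc_23_8 lc_d_Cert_tree lc_d_rc_15_1 lc_d_rc_23_4 lc_d_rc_22_4 lc_d_rc_16_2 lc_d_rc_15_1 lc_d_rc_23_8 lc_d_rc_15_1 lc_d_rc_23_4 lc_d_Cert_tree lc_d_rc_27_4 lc_d_Cert_tree lc_d_rc_8_3 lc_d_rc_24_5 lc_d_Cert_tree lc_d_Cert_tree lc_d_rc_15_1 lc_d_rc_3_3 lc_d_Cert_tree lc_d_rc_16_4 lc_d_Cert_tree lc_d_Cert_tree lc_d_rc_15_1 lc_d_Cert_tree lc_d_rc_16_0 lc_d_Cert_tree lc_d_rc_15_1 lc_d_rc_15_1) (@D3.rec (fun _ => (Cert rels S Gen.d)) lc_d_rc_3_3 lc_d_Cert_tree lc_d_rc_24_5 lc_d_Cert_tree lc_d_rc_27_8 lc_d_rc_8_1 lc_d_Cert_tree lc_d_Cert_tree lc_d_rc_15_1 lc_d_Cert_tree lc_d_Cert_tree lc_d_Cert_tree lc_d_Cert_tree lc_d_Cert_tree lc_d_rc_24_5 lc_d_Cert_tree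 lc_d_rc_15_1 lc_d_Cert_tree lc_d_rc_8_3 lc_d_Cert_tree lc_d_Cert_tree lc_d_Cert_tree lc_d_rc_15_1 lc_d_Cert_tree lc_d_rc_17_2 lc_d_Cert_tree lc_d_Cert_tree lc_d_Cert_tree lc_d_rc_15_1 lc_d_rc_16_0 lc_d_Cert_tree lc_d_Cert_tree lc_d_rc_15_1 lc_d_Cert_tree lc_d_rc_8_3 lc_d_rc_3_1 lc_d_rc_16_4 lc_d_rc_24_5 lc_d_Cert_tree lc_d_rc_15_1 lc_d_rc_8_3 lc_d_rc_15_1 lc_d_Cert_tree lc_d_rc_27_10 lc_d_rc_27_2 lc_d_rc_17_2 lc_d_rc_27_10 lc_d_rc_15_1 lc_d_rc_15_1 lc_d_rc_16_0 lc_d_rc_8_3 lc_d_rc_23_8 lc_d_rc_27_4 lc_d_rc_22_2 lc_d_Cert_tree lc_d_Cert_tree lc_d_Cert_tree lc_d_Cert_tree lc_d_rc_15_1 lc_d_rc_27_4 lc_d_rc_22_6 lc_d_Cert_tree) (@D3.rec (fun _ => (Cert rels S Gen.d)) lc_d_rc_16_0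 lc_d_rc_15_1 lc_d_Cert_tree lc_d_rc_15_1 lc_d_rc_15_1 lc_d_Cert_tree lc_d_Cert_tree lc_d_rc_16_0 lc_d_rc_15_1 lc_d_rc_16_2 lc_d_rc_8_3 lc_d_Cert_tree lc_d_rc_23_4 lc_d_Cert_tree lc_d_rc_27_8 lc_d_rc_8_3 lc_d_rc_3_3 lc_d_rc_25_2 lc_d_rc_3_1 lc_d_Cert_tree lc_d_rc_15_1 lc_d_Cert_tree lc_d_Cert_tree lc_d_Cert_tree lc_d_Cert_tree lc_d_rc_15_1 lc_d_rc_17_2 lc_d_Cert_tree lc_d_rc_15_1 lc_d_rc_27_4 lc_d_Cert_tree lc_d_Cert_tree lc_d_rc_15_1 lc_d_Cert_tree lc_d_rc_3_3 lc_d_rc_17_2 lc_d_rc_23_4 lc_d_rc_27_4 lc_d_Cert_tree lc_d_rc_15_1 lc_d_Cert_tree lc_d_Cert_tree lc_d_Cert_tree lc_d_rc_15_1 lc_d_rc_17_2 lc_d_Cert_tree lc_d_rc_25_2 lc_d_rc_24_0 lc_d_Cert_tree lc_d_rc_15_1 lc_d_Cert_tree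 lc_d_Cert_tree lc_d_rc_15_1 lc_d_rc_17_2 lc_d_rc_15_1 lc_d_rc_23_8 lc_d_Cert_tree lc_d_rc_15_1 lc_d_Cert_tree lc_d_Cert_tree lc_d_rc_15_1 lc_d_rc_17_2) (@D3.rec (fun _ => (Cert rels S Gen.d)) lc_d_Cert_tree lc_d_rc_23_2 lc_d_rc_15_1 lc_d_Cert_tree lc_d_Cert_tree lc_d_rc_15_1 lc_d_Cert_tree lc_d_rc_15_1 lc_d_rc_8_3 lc_d_rc_23_8 lc_d_rc_24_0 lc_d_Cert_tree lc_d_rc_8_1 lc_d_rc_15_1 lc_d_rc_15_1 lc_d_rc_23_4 lc_d_rc_15_1 lc_d_rc_15_1 lc_d_rc_15_1 lc_d_Cert_tree lc_d_rc_15_1 lc_d_rc_15_1 lc_d_rc_15_1 lc_d_Cert_tree lc_d_rc_3_1 lc_d_rc_23_2 lc_d_rc_8_1 lc_d_rc_15_1 lc_d_rc_23_2 lc_d_rc_16_2 lc_d_Cert_tree lc_d_rc_8_3 lc_d_Cert_tree lc_d_rc_15_1 lc_d_Cert_tree lc_d_rc_15_1 lc_d_Cert_tree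 lc_d_rc_15_1 lc_d_Cert_tree lc_d_rc_15_1 lc_d_Cert_tree lc_d_rc_15_1 lc_d_rc_8_3 lc_d_Cert_tree lc_d_rc_25_2 lc_d_rc_23_2 lc_d_Cert_tree lc_d_rc_15_1 lc_d_Cert_tree lc_d_Cert_tree lc_d_Cert_tree lc_d_Cert_tree lc_d_rc_15_1 lc_d_rc_17_2 lc_d_Cert_tree lc_d_Cert_tree lc_d_rc_15_1 lc_d_rc_27_4 lc_d_Cert_tree lc_d_rc_15_1 lc_d_Cert_tree lc_d_rc_24_5) (@D3.rec (fun _ => (Cert rels S Gen.d)) lc_d_Cert_tree lc_d_rc_15_1 lc_d_rc_27_2 lc_d_rc_15_1 lc_d_rc_16_2 lc_d_rc_23_4 lc_d_Cert_tree lc_d_rc_8_1 lc_d_rc_23_2 lc_d_rc_23_8 lc_d_rc_15_1 lc_d_rc_17_2 lc_d_rc_8_1 lc_d_rc_15_1 lc_d_Cert_tree lc_d_rc_15_1 lc_d_rc_17_2 lc_d_Cert_tree lc_d_Cert_tree lc_d_rc_15_1 lc_d_Cert_tree lc_d_rc_15_1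 lc_d_rc_8_3 lc_d_rc_24_5 lc_d_rc_24_5 lc_d_rc_16_4 lc_d_rc_17_2 lc_d_rc_23_4 lc_d_Cert_tree lc_d_Cert_tree lc_d_rc_16_4 lc_d_rc_24_0 lc_d_rc_15_1 lc_d_rc_15_1 lc_d_rc_17_2 lc_d_rc_23_6 lc_d_rc_15_1 lc_d_rc_12_1 lc_d_rc_15_1 lc_d_Cert_tree lc_d_rc_17_2 lc_d_rc_8_3 lc_d_Cert_tree lc_d_Cert_tree lc_d_rc_15_1 lc_d_rc_3_1 lc_d_Cert_tree lc_d_Cert_tree lc_d_rc_15_1 lc_d_Cert_tree lc_d_Cert_tree lc_d_Cert_tree lc_d_rc_15_1 lc_d_Cert_tree lc_d_rc_15_1 lc_d_rc_16_4 lc_d_rc_27_10 lc_d_rc_15_1 lc_d_rc_17_2 lc_d_rc_17_2 lc_d_rc_23_4 lc_d_rc_22_4) (@D3.rec (fun _ => (Cert rels S Gen.d)) lc_d_rc_24_5 lc_d_rc_22_4 lc_d_rc_15_1 lc_d_Cert_tree lc_d_rc_8_3 lc_d_rc_22_4 lc_d_rc_22_2 lc_d_rc_15_1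 lc_d_rc_15_1 lc_d_rc_23_6 lc_d_rc_23_6 lc_d_rc_15_1 lc_d_rc_23_6 lc_d_rc_24_0 lc_d_rc_15_1 lc_d_rc_16_4 lc_d_Cert_tree lc_d_Cert_tree lc_d_Cert_tree lc_d_rc_15_1 lc_d_Cert_tree lc_d_Cert_tree lc_d_rc_17_2 lc_d_Cert_tree lc_d_rc_15_1 lc_d_rc_17_2 lc_d_rc_24_5 lc_d_Cert_tree lc_d_rc_8_3 lc_d_rc_15_1 lc_d_Cert_tree lc_d_Cert_tree lc_d_rc_15_1 lc_d_Cert_tree lc_d_Cert_tree lc_d_rc_27_4 lc_d_rc_3_3 lc_d_rc_15_1 lc_d_rc_17_2 lc_d_Cert_tree lc_d_rc_8_3 lc_d_Cert_tree lc_d_rc_27_4 lc_d_rc_8_3 lc_d_Cert_tree lc_d_rc_16_4 lc_d_Cert_tree lc_d_Cert_tree lc_d_rc_15_1 lc_d_Cert_tree lc_d_rc_8_3 lc_d_Cert_tree lc_d_rc_16_4 lc_d_Cert_tree lc_d_rc_15_1 lc_d_Cert_tree lc_d_Cert_tree lc_d_rc_3_3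 lc_d_Cert_tree lc_d_Cert_tree lc_d_Cert_tree lc_d_rc_15_1) (@D3.rec (fun _ => (Cert rels S Gen.d)) lc_d_Cert_tree lc_d_rc_15_1 lc_d_rc_15_1 lc_d_rc_8_3 lc_d_Cert_tree lc_d_Cert_tree lc_d_rc_17_2 lc_d_Cert_tree lc_d_Cert_tree lc_d_Cert_tree lc_d_rc_15_1 lc_d_Cert_tree lc_d_Cert_tree lc_d_rc_8_3 lc_d_rc_15_1 lc_d_rc_17_2 lc_d_Cert_tree lc_d_rc_16_4 lc_d_Cert_tree lc_d_rc_15_1 lc_d_Cert_tree lc_d_rc_8_3 lc_d_rc_15_1 lc_d_rc_17_2 lc_d_rc_16_4 lc_d_rc_15_1 lc_d_rc_22_4 lc_d_Cert_tree lc_d_rc_15_1 lc_d_rc_17_2 lc_d_Cert_tree lc_d_Cert_tree lc_d_rc_3_3 lc_d_Cert_tree lc_d_rc_15_1 lc_d_rc_17_2 lc_d_Cert_tree lc_d_rc_15_1 lc_d_rc_8_3 lc_d_rc_15_1 lc_d_rc_8_3 lc_d_Cert_tree lc_d_rc_17_2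 lc_d_rc_15_1 lc_d_rc_23_8 lc_d_Cert_tree lc_d_rc_15_1 lc_d_rc_8_3 lc_d_rc_24_0 lc_d_rc_3_3 lc_d_rc_23_8 lc_d_rc_24_0 lc_d_Cert_tree lc_d_rc_15_1 lc_d_rc_8_3 lc_d_Cert_tree lc_d_rc_23_4 lc_d_rc_22_2 lc_d_rc_22_2 lc_d_rc_15_1 lc_d_rc_15_1 lc_d_Cert_tree) (@D3.rec (fun _ => (Cert rels S Gen.d)) lc_d_Cert_tree lc_d_rc_15_1 lc_d_rc_16_4 lc_d_rc_12_15 lc_d_rc_15_1 lc_d_rc_23_8 lc_d_rc_23_2 lc_d_Cert_tree lc_d_rc_15_1 lc_d_rc_8_3 lc_d_rc_22_2 lc_d_Cert_tree lc_d_Cert_tree lc_d_rc_15_1 lc_d_Cert_tree lc_d_Cert_tree lc_d_rc_15_1 lc_d_Cert_tree lc_d_rc_15_1 lc_d_Cert_tree lc_d_rc_15_1 lc_d_rc_15_1 lc_d_Cert_tree lc_d_rc_27_8 lc_d_Cert_tree lc_d_Cert_tree lc_d_rc_15_1 lc_d_rc_17_2 lc_d_rc_8_3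 lc_d_rc_16_4 lc_d_rc_8_3 lc_d_Cert_tree lc_d_Cert_tree lc_d_Cert_tree lc_d_rc_15_1 lc_d_rc_17_2 lc_d_rc_17_2 lc_d_rc_17_0 lc_d_rc_15_1 lc_d_rc_15_1 lc_d_rc_16_4 lc_d_rc_15_1 lc_d_Cert_tree lc_d_Cert_tree lc_d_Cert_tree lc_d_rc_17_2 lc_d_Cert_tree lc_d_Cert_tree lc_d_rc_15_1 lc_d_Cert_tree lc_d_Cert_tree lc_d_rc_15_1 lc_d_Cert_tree lc_d_rc_15_1 lc_d_rc_27_8 lc_d_Cert_tree lc_d_rc_15_1 lc_d_rc_16_4 lc_d_Cert_tree lc_d_rc_12_1 lc_d_rc_15_1 lc_d_rc_17_2) (@D3.rec (fun _ => (Cert rels S Gen.d)) lc_d_rc_15_1 lc_d_rc_16_2 lc_d_rc_23_8 lc_d_rc_23_2 lc_d_Cert_tree lc_d_rc_15_1 lc_d_rc_16_4 lc_d_Cert_tree lc_d_Cert_tree lc_d_rc_15_1 lc_d_Cert_tree lc_d_Cert_tree lc_d_Cert_tree lc_d_Cert_tree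 lc_d_rc_15_1 lc_d_Cert_tree lc_d_Cert_tree lc_d_rc_27_4 lc_d_rc_15_1 lc_d_rc_24_5 lc_d_rc_22_2 lc_d_Cert_tree lc_d_rc_15_1 lc_d_Cert_tree lc_d_Cert_tree lc_d_rc_15_1 lc_d_Cert_tree lc_d_Cert_tree lc_d_Cert_tree lc_d_Cert_tree lc_d_rc_15_1 lc_d_rc_17_2 lc_d_Cert_tree lc_d_rc_23_4 lc_d_Cert_tree lc_d_rc_15_1 lc_d_rc_17_2 lc_d_rc_23_6 lc_d_Cert_tree lc_d_rc_27_8 lc_d_rc_24_5 lc_d_Cert_tree lc_d_rc_27_4 lc_d_Cert_tree lc_d_rc_15_1 lc_d_Cert_tree lc_d_rc_24_0 lc_d_Cert_tree lc_d_rc_8_3 lc_d_rc_15_1 lc_d_rc_27_4 lc_d_rc_27_2 lc_d_Cert_tree lc_d_rc_15_1 lc_d_Cert_tree lc_d_Cert_tree lc_d_rc_23_8 lc_d_rc_17_2 lc_d_rc_27_10 lc_d_rc_17_0 lc_d_rc_23_6 lc_d_rc_15_1) (@D3.rec (fun _ => (Cert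 rels S Gen.d)) lc_d_rc_16_0 lc_d_rc_3_3 lc_d_rc_15_1 lc_d_rc_16_2 lc_d_rc_15_1 lc_d_rc_8_3 lc_d_Cert_tree lc_d_rc_15_1 lc_d_rc_15_1 lc_d_rc_15_1 lc_d_rc_23_4 lc_d_rc_22_6 lc_d_Cert_tree lc_d_rc_22_4 lc_d_rc_15_1 lc_d_rc_16_2 lc_d_rc_25_6 lc_d_rc_15_1 lc_d_rc_16_0 lc_d_rc_16_2 lc_d_rc_8_3 lc_d_rc_24_0 lc_d_rc_23_4 lc_d_rc_8_3 lc_d_rc_3_3 lc_d_rc_23_2 lc_d_rc_23_8 lc_d_Cert_tree lc_d_rc_15_1 lc_d_Cert_tree lc_d_rc_23_4 lc_d_rc_16_2 lc_d_Cert_tree lc_d_rc_15_1 lc_d_rc_16_4 lc_d_Cert_tree lc_d_rc_15_1 lc_d_rc_16_4 lc_d_rc_27_2 lc_d_Cert_tree lc_d_Cert_tree lc_d_rc_17_0 lc_d_Cert_tree lc_d_rc_15_1 lc_d_rc_8_3 lc_d_rc_23_6 lc_d_Cert_tree lc_d_rc_8_3 lc_d_rc_15_1 lc_d_rc_22_6 lc_d_rc_15_1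 lc_d_rc_23_6 lc_d_Cert_tree lc_d_Cert_tree lc_d_rc_23_8 lc_d_rc_22_4 lc_d_rc_15_1 lc_d_rc_22_2 lc_d_rc_8_3 lc_d_Cert_tree lc_d_rc_15_1 lc_d_Cert_tree) (@D3.rec (fun _ => (Cert rels S Gen.d)) lc_d_rc_16_2 lc_d_rc_24_0 lc_d_rc_15_1 lc_d_rc_22_6 lc_d_rc_16_2 lc_d_rc_15_1 lc_d_rc_23_6 lc_d_rc_27_8 lc_d_rc_15_1 lc_d_Cert_tree lc_d_rc_12_3 lc_d_rc_17_2 lc_d_rc_8_3 lc_d_rc_15_1 lc_d_rc_16_4 lc_d_Cert_tree lc_d_rc_15_1 lc_d_rc_24_0 lc_d_rc_27_10 lc_d_rc_27_2 lc_d_Cert_tree lc_d_rc_15_1 lc_d_rc_27_2 lc_d_Cert_tree lc_d_rc_15_1 lc_d_Cert_tree lc_d_rc_27_4 lc_d_rc_8_3 lc_d_rc_27_4 lc_d_rc_15_1 lc_d_Cert_tree lc_d_rc_15_1 lc_d_Cert_tree lc_d_Cert_tree lc_d_rc_15_1 lc_d_Cert_tree lc_d_Cert_tree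 lc_d_rc_17_2 lc_d_Cert_tree lc_d_rc_15_1 lc_d_Cert_tree lc_d_rc_24_0 lc_d_rc_27_10 lc_d_rc_15_1 lc_d_rc_23_4 lc_d_rc_15_1 lc_d_rc_22_6 lc_d_rc_24_5 lc_d_rc_27_8 lc_d_Cert_tree lc_d_rc_16_0 lc_d_rc_15_1 lc_d_rc_15_1 lc_d_rc_27_4 lc_d_rc_15_1 lc_d_rc_3_3 lc_d_Cert_tree lc_d_Cert_tree lc_d_rc_15_1 lc_d_Cert_tree lc_d_rc_27_2 lc_d_rc_16_0) (@D3.rec (fun _ => (Cert rels S Gen.d)) lc_d_rc_25_14 lc_d_rc_15_1 lc_d_rc_23_4 lc_d_rc_23_6 lc_d_Cert_tree lc_d_rc_23_4 lc_d_rc_8_3 lc_d_Cert_tree lc_d_Cert_tree lc_d_Cert_tree lc_d_Cert_tree lc_d_rc_15_1 lc_d_rc_22_6 lc_d_rc_23_4 lc_d_Cert_tree lc_d_rc_17_2 lc_d_rc_22_4 lc_d_rc_8_3 lc_d_rc_22_4 lc_d_rc_27_8 lc_d_rc_15_1 lc_d_rc_3_3 lc_d_Cert_tree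 lc_d_rc_16_2 lc_d_rc_23_2 lc_d_rc_23_2 lc_d_rc_15_1 lc_d_rc_17_2 lc_d_rc_8_3 lc_d_rc_15_1 lc_d_Cert_tree lc_d_rc_22_8 lc_d_rc_27_4 lc_d_rc_8_3 lc_d_rc_16_0 lc_d_rc_8_1 lc_d_rc_23_8 lc_d_rc_27_8 lc_d_Cert_tree lc_d_rc_15_1 lc_d_Cert_tree lc_d_rc_23_4 lc_d_rc_15_1 lc_d_rc_15_1 lc_d_rc_3_3 lc_d_rc_8_3 lc_d_rc_16_4 lc_d_rc_15_1 lc_d_rc_8_3 lc_d_rc_17_2 lc_d_rc_3_1 lc_d_rc_15_1 lc_d_rc_23_6 lc_d_rc_15_1 lc_d_rc_16_2 lc_d_rc_25_6 lc_d_rc_3_1 lc_d_Cert_tree lc_d_rc_15_1 lc_d_Cert_tree lc_d_Cert_tree lc_d_Cert_tree) (@D3.rec (fun _ => (Cert rels S Gen.d)) lc_d_Cert_tree lc_d_rc_15_1 lc_d_rc_17_2 lc_d_Cert_tree lc_d_Cert_tree lc_d_Cert_tree lc_d_Cert_tree lc_d_rc_3_3 lc_d_rc_22_4 lc_d_rc_23_4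 lc_d_rc_3_3 lc_d_Cert_tree lc_d_rc_15_1 lc_d_rc_15_1 lc_d_rc_15_1 lc_d_Cert_tree lc_d_rc_15_1 lc_d_Cert_tree lc_d_rc_23_6 lc_d_rc_15_1 lc_d_rc_23_2 lc_d_Cert_tree lc_d_Cert_tree lc_d_Cert_tree lc_d_rc_15_1 lc_d_rc_17_2 lc_d_rc_8_3 lc_d_rc_8_3 lc_d_rc_12_15 lc_d_Cert_tree lc_d_Cert_tree lc_d_rc_15_1 lc_d_rc_17_2 lc_d_Cert_tree lc_d_rc_16_4 lc_d_rc_15_1 lc_d_rc_27_4 lc_d_Cert_tree lc_d_rc_27_4 lc_d_rc_15_1 lc_d_rc_3_3 lc_d_rc_15_1 lc_d_rc_15_1 lc_d_Cert_tree lc_d_rc_17_2 lc_d_Cert_tree lc_d_Cert_tree lc_d_rc_15_1 lc_d_Cert_tree lc_d_Cert_tree lc_d_rc_15_1 lc_d_rc_24_0 lc_d_rc_15_1 lc_d_Cert_tree lc_d_rc_3_3 lc_d_Cert_tree lc_d_Cert_tree lc_d_rc_24_0 lc_d_rc_15_1 lc_d_rc_22_4 lc_d_rc_15_1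 lc_d_Cert_tree) (@D3.rec (fun _ => (Cert rels S Gen.d)) lc_d_rc_22_2 lc_d_rc_15_1 lc_d_rc_23_2 lc_d_rc_8_3 lc_d_rc_23_4 lc_d_rc_15_1 lc_d_rc_8_3 lc_d_Cert_tree lc_d_Cert_tree lc_d_rc_24_5 lc_d_Cert_tree lc_d_Cert_tree lc_d_rc_8_3 lc_d_rc_15_1 lc_d_rc_22_2 lc_d_rc_24_0 lc_d_rc_8_1 lc_d_Cert_tree lc_d_rc_15_1 lc_d_rc_27_4 lc_d_Cert_tree lc_d_Cert_tree lc_d_rc_15_1 lc_d_Cert_tree lc_d_rc_23_4 lc_d_rc_3_3 lc_d_Cert_tree lc_d_rc_27_10 lc_d_rc_3_3 lc_d_rc_8_3 lc_d_Cert_tree lc_d_rc_15_1 lc_d_Cert_tree lc_d_rc_15_1 lc_d_Cert_tree lc_d_rc_22_6 lc_d_Cert_tree lc_d_Cert_tree lc_d_rc_15_1 lc_d_Cert_tree lc_d_rc_22_2 lc_d_rc_27_4 lc_d_rc_27_10 lc_d_rc_15_1 lc_d_Cert_tree lc_d_rc_15_1 lc_d_rc_15_1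 lc_d_rc_15_1 lc_d_Cert_tree lc_d_rc_15_1 lc_d_Cert_tree lc_d_Cert_tree lc_d_rc_27_2 lc_d_rc_15_1 lc_d_rc_15_1 lc_d_rc_23_4 lc_d_rc_17_2 lc_d_rc_15_1 lc_d_Cert_tree lc_d_rc_24_0 lc_d_rc_15_1 lc_d_rc_15_1) (@D3.rec (fun _ => (Cert rels S Gen.d)) lc_d_rc_23_6 lc_d_Cert_tree lc_d_Cert_tree lc_d_Cert_tree lc_d_Cert_tree lc_d_rc_15_1 lc_d_rc_17_2 lc_d_rc_24_5 lc_d_rc_3_1 lc_d_Cert_tree lc_d_Cert_tree lc_d_rc_27_4 lc_d_rc_23_2 lc_d_rc_23_2 lc_d_rc_15_1 lc_d_rc_16_4 lc_d_rc_22_4 lc_d_rc_12_15 lc_d_rc_8_3 lc_d_rc_27_2 lc_d_rc_27_8 lc_d_rc_22_4 lc_d_rc_15_1 lc_d_rc_27_8 lc_d_rc_15_1 lc_d_rc_27_10 lc_d_Cert_tree lc_d_rc_17_2 lc_d_rc_15_1 lc_d_rc_8_3 lc_d_rc_3_3 lc_d_rc_16_0 lc_d_Cert_tree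 lc_d_rc_27_10 lc_d_rc_23_8 lc_d_rc_15_1 lc_d_rc_17_2 lc_d_Cert_tree lc_d_rc_15_1 lc_d_rc_15_1 lc_d_rc_8_3 lc_d_rc_17_0 lc_d_rc_27_2 lc_d_rc_8_1 lc_d_rc_15_1 lc_d_rc_23_2 lc_d_rc_15_1 lc_d_Cert_tree lc_d_rc_15_1 lc_d_Cert_tree lc_d_rc_15_1 lc_d_Cert_tree lc_d_rc_27_8 lc_d_Cert_tree lc_d_rc_17_2 lc_d_Cert_tree lc_d_rc_15_1 lc_d_rc_8_3 lc_d_rc_15_1 lc_d_rc_15_1 lc_d_Cert_tree lc_d_Cert_tree) (@D3.rec (fun _ => (Cert rels S Gen.d)) lc_d_rc_27_4 lc_d_rc_15_1 lc_d_Cert_tree lc_d_Cert_tree lc_d_rc_23_4 lc_d_rc_24_5 lc_d_rc_24_5 lc_d_Cert_tree lc_d_Cert_tree lc_d_Cert_tree lc_d_rc_15_1 lc_d_rc_17_2 lc_d_rc_8_3 lc_d_rc_8_3 lc_d_rc_27_8 lc_d_rc_24_5 lc_d_Cert_tree lc_d_rc_23_8 lc_d_Cert_tree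 lc_d_rc_23_2 lc_d_rc_15_1 lc_d_Cert_tree lc_d_rc_8_3 lc_d_rc_15_1 lc_d_rc_16_4 lc_d_rc_8_3 lc_d_rc_3_1 lc_d_rc_16_4 lc_d_rc_15_1 lc_d_rc_3_1 lc_d_rc_15_1 lc_d_rc_27_4 lc_d_Cert_tree lc_d_rc_15_1 lc_d_Cert_tree lc_d_rc_8_3 lc_d_rc_27_2 lc_d_rc_15_1 lc_d_Cert_tree lc_d_rc_15_1 lc_d_rc_15_1 lc_d_rc_16_2 lc_d_rc_8_1 lc_d_rc_15_1 lc_d_Cert_tree lc_d_rc_8_1 lc_d_rc_24_0 lc_d_rc_16_2 lc_d_rc_17_2 lc_d_rc_15_1 lc_d_rc_24_0 lc_d_rc_15_1 lc_d_rc_17_2 lc_d_rc_15_1 lc_d_Cert_tree lc_d_rc_15_1 lc_d_rc_3_3 lc_d_rc_15_1 lc_d_Cert_tree lc_d_Cert_tree lc_d_rc_15_1 lc_d_Cert_tree)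
def ce_d_11 : D2 → D3 → (Cert rels S Gen.d) := @D2.rec (fun _ => D3 → (Cert rels S Gen.d)) (@D3.rec (fun _ => (Cert rels S Gen.d)) lc_d_rc_8_1 lc_d_rc_15_1 lc_d_rc_24_0 lc_d_rc_24_0 lc_d_Cert_tree lc_d_rc_17_2 lc_d_rc_3_3 lc_d_rc_15_1 lc_d_rc_15_1 lc_d_rc_17_2 lc_d_rc_27_2 lc_d_Cert_tree lc_d_rc_27_2 lc_d_Cert_tree lc_d_Cert_tree lc_d_rc_17_0 lc_d_rc_15_1 lc_d_Cert_tree lc_d_rc_16_0 lc_d_Cert_tree lc_d_rc_17_2 lc_d_rc_23_2 lc_d_rc_16_4 lc_d_rc_24_5 lc_d_rc_17_2 lc_d_rc_15_1 lc_d_rc_23_8 lc_d_rc_15_1 lc_d_rc_27_8 lc_d_Cert_tree lc_d_rc_15_1 lc_d_Cert_tree lc_d_Cert_tree lc_d_rc_23_2 lc_d_rc_23_6 lc_d_rc_15_1 lc_d_rc_15_1 lc_d_rc_17_2 lc_d_rc_15_1 lc_d_rc_27_2 lc_d_rc_23_2 lc_d_rc_16_2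 lc_d_rc_23_8 lc_d_rc_24_0 lc_d_rc_15_1 lc_d_rc_27_4 lc_d_rc_15_1 lc_d_rc_24_0 lc_d_rc_16_0 lc_d_rc_15_1 lc_d_rc_24_0 lc_d_rc_15_1 lc_d_Cert_tree lc_d_rc_15_1 lc_d_Cert_tree lc_d_rc_17_2 lc_d_rc_15_1 lc_d_rc_17_2 lc_d_rc_23_2 lc_d_rc_15_1 lc_d_rc_23_6 lc_d_Cert_tree) (@D3.rec (fun _ => (Cert rels S Gen.d)) lc_d_rc_15_1 lc_d_rc_17_0 lc_d_Cert_tree lc_d_rc_15_1 lc_d_Cert_tree lc_d_rc_24_5 lc_d_rc_15_1 lc_d_rc_27_4 lc_d_rc_15_1 lc_d_rc_15_1 lc_d_rc_15_1 lc_d_rc_22_8 lc_d_Cert_tree lc_d_Cert_tree lc_d_Cert_tree lc_d_rc_15_1 lc_d_rc_17_2 lc_d_rc_17_2 lc_d_Cert_tree lc_d_rc_15_1 lc_d_rc_16_4 lc_d_Cert_tree lc_d_Cert_tree lc_d_Cert_tree lc_d_rc_24_5 lc_d_rc_15_1 lc_d_Cert_tree lc_d_Cert_tree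 lc_d_rc_24_5 lc_d_rc_15_1 lc_d_Cert_tree lc_d_rc_27_10 lc_d_rc_27_10 lc_d_rc_27_10 lc_d_rc_3_1 lc_d_rc_15_1 lc_d_rc_15_1 lc_d_rc_15_1 lc_d_rc_8_3 lc_d_rc_23_2 lc_d_rc_15_1 lc_d_rc_15_1 lc_d_Cert_tree lc_d_rc_24_5 lc_d_rc_15_1 lc_d_rc_23_8 lc_d_rc_23_6 lc_d_rc_15_1 lc_d_rc_3_3 lc_d_rc_22_8 lc_d_Cert_tree lc_d_rc_15_1 lc_d_rc_12_3 lc_d_rc_23_2 lc_d_rc_15_1 lc_d_rc_3_3 lc_d_rc_15_1 lc_d_rc_3_3 lc_d_Cert_tree lc_d_Cert_tree lc_d_rc_15_1 lc_d_rc_27_10) (@D3.rec (fun _ => (Cert rels S Gen.d)) lc_d_rc_15_1 lc_d_Cert_tree lc_d_rc_15_1 lc_d_Cert_tree lc_d_rc_23_2 lc_d_rc_15_1 lc_d_Cert_tree lc_d_rc_15_1 lc_d_Cert_tree lc_d_rc_27_8 lc_d_rc_15_1 lc_d_rc_8_3 lc_d_Cert_tree lc_d_rc_15_1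 lc_d_Cert_tree lc_d_rc_15_1 lc_d_Cert_tree lc_d_rc_15_1 lc_d_rc_8_3 lc_d_Cert_tree lc_d_rc_15_1 lc_d_rc_23_4 lc_d_rc_8_1 lc_d_rc_8_1 lc_d_rc_15_1 lc_d_rc_15_1 lc_d_rc_16_0 lc_d_Cert_tree lc_d_Cert_tree lc_d_rc_15_1 lc_d_rc_8_3 lc_d_Cert_tree lc_d_Cert_tree lc_d_rc_8_3 lc_d_Cert_tree lc_d_Cert_tree lc_d_Cert_tree lc_d_rc_17_2 lc_d_rc_17_0 lc_d_Cert_tree lc_d_Cert_tree lc_d_rc_15_1 lc_d_Cert_tree lc_d_rc_15_1 lc_d_rc_16_2 lc_d_Cert_tree lc_d_Cert_tree lc_d_rc_16_0 lc_d_rc_15_1 lc_d_rc_16_2 lc_d_rc_27_2 lc_d_rc_15_1 lc_d_rc_24_5 lc_d_rc_27_2 lc_d_rc_23_2 lc_d_rc_16_4 lc_d_rc_8_3 lc_d_Cert_tree lc_d_rc_27_10 lc_d_rc_17_2 lc_d_rc_3_3 lc_d_Cert_tree) (@D3.rec (fun _ => (Cert rels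 S Gen.d)) lc_d_rc_15_1 lc_d_Cert_tree lc_d_Cert_tree lc_d_Cert_tree lc_d_Cert_tree lc_d_rc_15_1 lc_d_rc_17_2 lc_d_Cert_tree lc_d_rc_15_1 lc_d_rc_27_4 lc_d_Cert_tree lc_d_rc_15_1 lc_d_Cert_tree lc_d_rc_23_6 lc_d_rc_17_2 lc_d_rc_8_1 lc_d_rc_27_10 lc_d_Cert_tree lc_d_rc_15_1 lc_d_Cert_tree lc_d_Cert_tree lc_d_Cert_tree lc_d_rc_15_1 lc_d_rc_17_2 lc_d_Cert_tree lc_d_Cert_tree lc_d_rc_23_2 lc_d_Cert_tree lc_d_Cert_tree lc_d_rc_15_1 lc_d_Cert_tree lc_d_Cert_tree lc_d_rc_15_1 lc_d_rc_17_2 lc_d_Cert_tree lc_d_rc_23_2 lc_d_Cert_tree lc_d_rc_15_1 lc_d_Cert_tree lc_d_Cert_tree lc_d_rc_15_1 lc_d_rc_3_3 lc_d_rc_15_1 lc_d_Cert_tree lc_d_Cert_tree lc_d_rc_15_1 lc_d_Cert_tree lc_d_rc_15_1 lc_d_rc_8_3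 lc_d_rc_8_1 lc_d_rc_15_1 lc_d_rc_15_1 lc_d_rc_15_1 lc_d_rc_15_1 lc_d_Cert_tree lc_d_rc_8_3 lc_d_rc_16_4 lc_d_rc_8_3 lc_d_rc_22_4 lc_d_rc_23_4 lc_d_rc_15_1 lc_d_rc_15_1) (@D3.rec (fun _ => (Cert rels S Gen.d)) lc_d_rc_23_4 lc_d_rc_8_3 lc_d_rc_3_3 lc_d_rc_8_1 lc_d_rc_15_1 lc_d_rc_16_2 lc_d_rc_17_2 lc_d_rc_3_1 lc_d_rc_3_3 lc_d_rc_17_2 lc_d_rc_23_2 lc_d_rc_27_4 lc_d_Cert_tree lc_d_rc_15_1 lc_d_rc_23_2 lc_d_Cert_tree lc_d_Cert_tree lc_d_rc_15_1 lc_d_Cert_tree lc_d_rc_27_10 lc_d_rc_15_1 lc_d_rc_15_1 lc_d_rc_27_2 lc_d_rc_27_4 lc_d_rc_15_1 lc_d_rc_27_2 lc_d_rc_27_2 lc_d_rc_27_2 lc_d_rc_15_1 lc_d_rc_17_2 lc_d_rc_15_1 lc_d_Cert_tree lc_d_rc_15_1 lc_d_Cert_tree lc_d_rc_16_2 lc_d_Cert_tree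 lc_d_rc_15_1 lc_d_rc_23_6 lc_d_rc_15_1 lc_d_rc_16_4 lc_d_rc_12_15 lc_d_rc_27_4 lc_d_Cert_tree lc_d_Cert_tree lc_d_rc_15_1 lc_d_rc_8_3 lc_d_Cert_tree lc_d_rc_22_6 lc_d_rc_15_1 lc_d_rc_27_4 lc_d_Cert_tree lc_d_rc_22_4 lc_d_rc_15_1 lc_d_rc_12_1 lc_d_rc_23_6 lc_d_rc_16_0 lc_d_rc_15_1 lc_d_Cert_tree lc_d_rc_15_1 lc_d_Cert_tree lc_d_rc_15_1 lc_d_Cert_tree) (@D3.rec (fun _ => (Cert rels S Gen.d)) lc_d_Cert_tree lc_d_rc_15_1 lc_d_Cert_tree lc_d_rc_17_0 lc_d_rc_17_2 lc_d_rc_8_3 lc_d_Cert_tree lc_d_rc_15_1 lc_d_rc_23_8 lc_d_Cert_tree lc_d_rc_15_1 lc_d_Cert_tree lc_d_Cert_tree lc_d_Cert_tree lc_d_Cert_tree lc_d_rc_15_1 lc_d_rc_17_2 lc_d_Cert_tree lc_d_rc_15_1 lc_d_Cert_tree lc_d_rc_24_5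 lc_d_Cert_tree lc_d_rc_8_3 lc_d_Cert_tree lc_d_rc_27_2 lc_d_Cert_tree lc_d_rc_16_0 lc_d_rc_3_3 lc_d_rc_15_1 lc_d_rc_17_2 lc_d_rc_8_3 lc_d_rc_23_6 lc_d_rc_22_4 lc_d_rc_17_2 lc_d_Cert_tree lc_d_rc_23_4 lc_d_rc_15_1 lc_d_rc_8_1 lc_d_rc_15_1 lc_d_rc_23_2 lc_d_Cert_tree lc_d_rc_15_1 lc_d_Cert_tree lc_d_Cert_tree lc_d_Cert_tree lc_d_rc_15_1 lc_d_rc_15_1 lc_d_rc_3_3 lc_d_rc_15_1 lc_d_rc_8_1 lc_d_Cert_tree lc_d_rc_15_1 lc_d_Cert_tree lc_d_Cert_tree lc_d_Cert_tree lc_d_rc_24_0 lc_d_rc_15_1 lc_d_rc_16_4 lc_d_rc_8_3 lc_d_Cert_tree lc_d_Cert_tree lc_d_rc_3_1) (@D3.rec (fun _ => (Cert rels S Gen.d)) lc_d_Cert_tree lc_d_rc_15_1 lc_d_rc_27_2 lc_d_rc_27_10 lc_d_rc_15_1 lc_d_rc_15_1 lc_d_Cert_tree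 lc_d_rc_8_1 lc_d_rc_15_1 lc_d_rc_24_5 lc_d_rc_23_2 lc_d_rc_27_4 lc_d_rc_15_1 lc_d_Cert_tree lc_d_Cert_tree lc_d_Cert_tree lc_d_rc_17_2 lc_d_rc_15_1 lc_d_rc_15_1 lc_d_rc_16_2 lc_d_rc_15_1 lc_d_rc_16_4 lc_d_rc_3_3 lc_d_rc_17_2 lc_d_rc_17_2 lc_d_rc_17_2 lc_d_rc_23_8 lc_d_rc_24_0 lc_d_rc_15_1 lc_d_rc_23_4 lc_d_rc_8_3 lc_d_rc_3_3 lc_d_rc_17_2 lc_d_rc_17_2 lc_d_rc_15_1 lc_d_rc_27_4 lc_d_rc_15_1 lc_d_rc_23_8 lc_d_rc_16_2 lc_d_rc_15_1 lc_d_Cert_tree lc_d_rc_17_2 lc_d_rc_15_1 lc_d_rc_15_1 lc_d_rc_15_1 lc_d_rc_27_4 lc_d_rc_15_1 lc_d_rc_3_3 lc_d_rc_27_4 lc_d_rc_8_3 lc_d_rc_8_3 lc_d_rc_22_8 lc_d_rc_16_4 lc_d_rc_27_2 lc_d_rc_8_1 lc_d_rc_23_4 lc_d_Cert_tree lc_d_rc_16_4 lc_d_rc_3_3 lc_d_rc_15_1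 lc_d_rc_17_2 lc_d_rc_8_3) (@D3.rec (fun _ => (Cert rels S Gen.d)) lc_d_rc_27_4 lc_d_rc_15_1 lc_d_rc_27_4 lc_d_rc_15_1 lc_d_rc_3_3 lc_d_rc_8_1 lc_d_rc_16_2 lc_d_rc_8_3 lc_d_rc_16_2 lc_d_Cert_tree lc_d_Cert_tree lc_d_rc_16_0 lc_d_rc_15_1 lc_d_rc_24_5 lc_d_rc_8_3 lc_d_rc_17_2 lc_d_rc_24_5 lc_d_rc_15_1 lc_d_rc_15_1 lc_d_rc_16_4 lc_d_Cert_tree lc_d_rc_15_1 lc_d_Cert_tree lc_d_rc_17_2 lc_d_rc_22_4 lc_d_rc_15_1 lc_d_rc_27_4 lc_d_rc_27_2 lc_d_rc_15_1 lc_d_rc_24_5 lc_d_rc_24_5 lc_d_rc_3_3 lc_d_rc_16_4 lc_d_rc_23_2 lc_d_Cert_tree lc_d_rc_15_1 lc_d_Cert_tree lc_d_rc_8_3 lc_d_rc_16_2 lc_d_rc_15_1 lc_d_rc_16_4 lc_d_Cert_tree lc_d_rc_15_1 lc_d_rc_23_8 lc_d_Cert_tree lc_d_rc_15_1 lc_d_Cert_tree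 lc_d_rc_15_1 lc_d_rc_23_2 lc_d_rc_23_6 lc_d_rc_15_1 lc_d_rc_23_4 lc_d_Cert_tree lc_d_rc_15_1 lc_d_Cert_tree lc_d_rc_25_18 lc_d_rc_15_1 lc_d_rc_27_4 lc_d_Cert_tree lc_d_Cert_tree lc_d_rc_15_1 lc_d_Cert_tree) (@D3.rec (fun _ => (Cert rels S Gen.d)) lc_d_rc_23_2 lc_d_rc_23_2 lc_d_rc_15_1 lc_d_rc_15_1 lc_d_Cert_tree lc_d_rc_24_0 lc_d_rc_23_2 lc_d_rc_23_8 lc_d_rc_15_1 lc_d_Cert_tree lc_d_rc_23_8 lc_d_rc_23_8 lc_d_Cert_tree lc_d_rc_15_1 lc_d_rc_17_2 lc_d_rc_16_4 lc_d_rc_15_1 lc_d_rc_15_1 lc_d_rc_15_1 lc_d_rc_17_2 lc_d_rc_27_2 lc_d_rc_27_2 lc_d_rc_15_1 lc_d_rc_23_2 lc_d_rc_15_1 lc_d_rc_16_4 lc_d_rc_27_2 lc_d_rc_15_1 lc_d_rc_17_0 lc_d_rc_15_1 lc_d_Cert_tree lc_d_rc_3_1 lc_d_rc_27_4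 lc_d_rc_8_3 lc_d_rc_15_1 lc_d_rc_17_2 lc_d_rc_8_3 lc_d_rc_15_1 lc_d_rc_15_1 lc_d_rc_24_0 lc_d_rc_23_6 lc_d_rc_3_3 lc_d_Cert_tree lc_d_Cert_tree lc_d_Cert_tree lc_d_rc_15_1 lc_d_rc_17_2 lc_d_Cert_tree lc_d_rc_8_3 lc_d_rc_17_2 lc_d_rc_3_3 lc_d_Cert_tree lc_d_Cert_tree lc_d_Cert_tree lc_d_rc_15_1 lc_d_rc_17_2 lc_d_Cert_tree lc_d_rc_15_1 lc_d_rc_8_3 lc_d_rc_24_0 lc_d_rc_3_3 lc_d_Cert_tree) (@D3.rec (fun _ => (Cert rels S Gen.d)) lc_d_rc_15_1 lc_d_rc_17_2 lc_d_rc_25_6 lc_d_rc_8_3 lc_d_rc_3_3 lc_d_Cert_tree lc_d_rc_15_1 lc_d_rc_17_2 lc_d_rc_24_5 lc_d_rc_17_2 lc_d_Cert_tree lc_d_rc_24_5 lc_d_Cert_tree lc_d_rc_24_0 lc_d_Cert_tree lc_d_Cert_tree lc_d_rc_8_1 lc_d_Cert_tree lc_d_rc_15_1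 lc_d_rc_27_4 lc_d_Cert_tree lc_d_rc_15_1 lc_d_Cert_tree lc_d_rc_23_6 lc_d_Cert_tree lc_d_rc_17_2 lc_d_rc_23_4 lc_d_rc_17_0 lc_d_Cert_tree lc_d_rc_15_1 lc_d_rc_27_4 lc_d_Cert_tree lc_d_rc_15_1 lc_d_Cert_tree lc_d_rc_15_1 lc_d_rc_15_1 lc_d_Cert_tree lc_d_rc_15_1 lc_d_Cert_tree lc_d_Cert_tree lc_d_Cert_tree lc_d_rc_15_1 lc_d_rc_17_2 lc_d_rc_23_8 lc_d_rc_24_0 lc_d_Cert_tree lc_d_rc_15_1 lc_d_rc_16_4 lc_d_rc_15_1 lc_d_rc_27_8 lc_d_rc_23_2 lc_d_rc_23_2 lc_d_Cert_tree lc_d_rc_15_1 lc_d_Cert_tree lc_d_rc_17_2 lc_d_rc_23_2 lc_d_Cert_tree lc_d_rc_15_1 lc_d_rc_17_2 lc_d_rc_23_2 lc_d_rc_8_3) (@D3.rec (fun _ => (Cert rels S Gen.d)) lc_d_Cert_tree lc_d_rc_15_1 lc_d_Cert_tree lc_d_rc_15_1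 lc_d_Cert_tree lc_d_Cert_tree lc_d_rc_27_8 lc_d_rc_16_0 lc_d_rc_15_1 lc_d_rc_17_2 lc_d_Cert_tree lc_d_rc_16_2 lc_d_rc_15_1 lc_d_rc_16_0 lc_d_rc_8_1 lc_d_Cert_tree lc_d_rc_15_1 lc_d_Cert_tree lc_d_Cert_tree lc_d_Cert_tree lc_d_rc_15_1 lc_d_rc_22_6 lc_d_rc_17_2 lc_d_rc_8_3 lc_d_rc_23_2 lc_d_rc_8_3 lc_d_rc_16_0 lc_d_Cert_tree lc_d_Cert_tree lc_d_rc_17_0 lc_d_Cert_tree lc_d_rc_17_2 lc_d_rc_15_1 lc_d_Cert_tree lc_d_rc_27_10 lc_d_rc_16_0 lc_d_Cert_tree lc_d_rc_15_1 lc_d_rc_8_3 lc_d_rc_15_1 lc_d_rc_24_5 lc_d_rc_16_2 lc_d_rc_15_1 lc_d_Cert_tree lc_d_rc_15_1 lc_d_rc_16_4 lc_d_rc_8_3 lc_d_rc_25_10 lc_d_rc_15_1 lc_d_rc_15_1 lc_d_rc_16_4 lc_d_rc_8_3 lc_d_rc_16_4 lc_d_rc_24_5 lc_d_rc_17_2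 lc_d_rc_24_0 lc_d_rc_15_1 lc_d_rc_16_4 lc_d_rc_8_3 lc_d_rc_27_4 lc_d_rc_16_4 lc_d_rc_8_3) (@D3.rec (fun _ => (Cert rels S Gen.d)) lc_d_rc_22_6 lc_d_rc_8_3 lc_d_rc_27_4 lc_d_rc_8_3 lc_d_rc_22_4 lc_d_rc_16_2 lc_d_rc_24_5 lc_d_rc_22_8 lc_d_rc_15_1 lc_d_rc_22_2 lc_d_rc_22_2 lc_d_rc_17_2 lc_d_rc_27_4 lc_d_rc_8_3 lc_d_rc_15_1 lc_d_rc_15_1 lc_d_rc_27_2 lc_d_rc_16_4 lc_d_rc_15_1 lc_d_rc_16_4 lc_d_rc_8_1 lc_d_rc_15_1 lc_d_rc_15_1 lc_d_rc_15_1 lc_d_rc_17_2 lc_d_rc_3_3 lc_d_rc_16_4 lc_d_rc_23_2 lc_d_Cert_tree lc_d_rc_15_1 lc_d_Cert_tree lc_d_rc_15_1 lc_d_rc_17_2 lc_d_rc_16_4 lc_d_rc_16_4 lc_d_Cert_tree lc_d_rc_15_1 lc_d_rc_17_2 lc_d_rc_8_1 lc_d_rc_17_2 lc_d_Cert_tree lc_d_rc_15_1 lc_d_rc_23_8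 lc_d_rc_8_1 lc_d_rc_15_1 lc_d_Cert_tree lc_d_rc_22_4 lc_d_rc_16_2 lc_d_rc_15_1 lc_d_Cert_tree lc_d_rc_15_1 lc_d_rc_8_3 lc_d_rc_24_5 lc_d_rc_27_8 lc_d_rc_3_3 lc_d_rc_15_1 lc_d_Cert_tree lc_d_rc_24_5 lc_d_rc_8_1 lc_d_rc_17_2 lc_d_rc_23_2 lc_d_rc_27_2) (@D3.rec (fun _ => (Cert rels S Gen.d)) lc_d_rc_16_4 lc_d_rc_16_0 lc_d_rc_15_1 lc_d_rc_17_2 lc_d_rc_23_6 lc_d_rc_15_1 lc_d_Cert_tree lc_d_Cert_tree lc_d_rc_23_2 lc_d_rc_15_1 lc_d_rc_16_0 lc_d_rc_15_1 lc_d_rc_8_1 lc_d_rc_16_4 lc_d_rc_27_4 lc_d_rc_23_4 lc_d_rc_17_2 lc_d_rc_16_4 lc_d_rc_22_6 lc_d_rc_8_3 lc_d_rc_17_2 lc_d_rc_16_4 lc_d_rc_8_3 lc_d_rc_16_2 lc_d_rc_23_4 lc_d_rc_16_0 lc_d_rc_8_3 lc_d_rc_16_4 lc_d_rc_15_1 lc_d_rc_15_1 lc_d_rc_12_3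 lc_d_rc_17_2 lc_d_rc_15_1 lc_d_rc_23_4 lc_d_rc_16_4 lc_d_rc_16_4 lc_d_rc_8_1 lc_d_rc_23_4 lc_d_rc_15_1 lc_d_rc_22_2 lc_d_rc_8_3 lc_d_rc_8_3 lc_d_rc_17_2 lc_d_Cert_tree lc_d_rc_15_1 lc_d_rc_15_1 lc_d_rc_16_0 lc_d_rc_15_1 lc_d_Cert_tree lc_d_rc_15_1 lc_d_rc_8_3 lc_d_rc_15_1 lc_d_Cert_tree lc_d_rc_15_1 lc_d_rc_15_1 lc_d_rc_15_1 lc_d_rc_24_0 lc_d_Cert_tree lc_d_rc_15_1 lc_d_Cert_tree lc_d_rc_15_1 lc_d_rc_27_8) (@D3.rec (fun _ => (Cert rels S Gen.d)) lc_d_rc_17_2 lc_d_rc_15_1 lc_d_rc_17_2 lc_d_Cert_tree lc_d_rc_15_1 lc_d_rc_16_4 lc_d_rc_16_4 lc_d_rc_12_9 lc_d_rc_16_4 lc_d_Cert_tree lc_d_rc_15_1 lc_d_rc_27_4 lc_d_rc_15_1 lc_d_rc_15_1 lc_d_rc_16_4 lc_d_Cert_tree lc_d_rc_15_1 lc_d_Cert_tree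 lc_d_rc_16_2 lc_d_Cert_tree lc_d_rc_17_2 lc_d_rc_15_1 lc_d_rc_17_2 lc_d_rc_17_2 lc_d_Cert_tree lc_d_rc_15_1 lc_d_rc_15_1 lc_d_Cert_tree lc_d_rc_16_4 lc_d_rc_8_3 lc_d_Cert_tree lc_d_rc_16_4 lc_d_Cert_tree lc_d_rc_16_4 lc_d_Cert_tree lc_d_Cert_tree lc_d_rc_15_1 lc_d_rc_16_4 lc_d_rc_24_0 lc_d_rc_15_1 lc_d_rc_17_2 lc_d_rc_15_1 lc_d_Cert_tree lc_d_rc_24_0 lc_d_rc_24_0 lc_d_rc_15_1 lc_d_rc_22_6 lc_d_rc_15_1 lc_d_rc_8_1 lc_d_rc_23_2 lc_d_rc_16_4 lc_d_rc_8_1 lc_d_rc_15_1 lc_d_Cert_tree lc_d_Cert_tree lc_d_rc_15_1 lc_d_rc_15_1 lc_d_Cert_tree lc_d_rc_15_1 lc_d_rc_22_6 lc_d_Cert_tree lc_d_rc_15_1) (@D3.rec (fun _ => (Cert rels S Gen.d)) lc_d_Cert_tree lc_d_rc_24_0 lc_d_rc_15_1 lc_d_rc_22_6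 lc_d_rc_27_2 lc_d_rc_16_0 lc_d_Cert_tree lc_d_rc_15_1 lc_d_rc_17_2 lc_d_rc_15_1 lc_d_rc_24_0 lc_d_Cert_tree lc_d_rc_15_1 lc_d_Cert_tree lc_d_rc_15_1 lc_d_Cert_tree lc_d_rc_17_2 lc_d_rc_15_1 lc_d_rc_16_0 lc_d_rc_16_2 lc_d_Cert_tree lc_d_rc_15_1 lc_d_rc_16_2 lc_d_rc_16_4 lc_d_rc_3_3 lc_d_rc_16_2 lc_d_rc_27_10 lc_d_rc_15_1 lc_d_rc_27_4 lc_d_rc_15_1 lc_d_rc_16_2 lc_d_rc_15_1 lc_d_rc_17_0 lc_d_rc_3_3 lc_d_rc_17_2 lc_d_rc_17_2 lc_d_rc_8_3 lc_d_rc_16_0 lc_d_rc_15_1 lc_d_rc_23_4 lc_d_rc_16_4 lc_d_rc_27_8 lc_d_Cert_tree lc_d_rc_24_5 lc_d_rc_15_1 lc_d_Cert_tree lc_d_rc_27_10 lc_d_rc_15_1 lc_d_rc_27_4 lc_d_rc_8_3 lc_d_rc_23_8 lc_d_rc_16_4 lc_d_rc_22_6 lc_d_rc_8_3 lc_d_rc_17_2 lc_d_rc_16_4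 lc_d_rc_8_1 lc_d_rc_17_2 lc_d_Cert_tree lc_d_Cert_tree lc_d_rc_17_2 lc_d_rc_15_1) (@D3.rec (fun _ => (Cert rels S Gen.d)) lc_d_rc_8_3 lc_d_rc_16_2 lc_d_rc_16_2 lc_d_rc_23_4 lc_d_rc_15_1 lc_d_rc_24_0 lc_d_Cert_tree lc_d_Cert_tree lc_d_Cert_tree lc_d_Cert_tree lc_d_rc_15_1 lc_d_Cert_tree lc_d_rc_15_1 lc_d_rc_15_1 lc_d_rc_16_4 lc_d_rc_24_5 lc_d_rc_15_1 lc_d_rc_23_4 lc_d_rc_16_2 lc_d_rc_22_4 lc_d_Cert_tree lc_d_rc_15_1 lc_d_rc_27_2 lc_d_rc_27_10 lc_d_rc_17_2 lc_d_rc_15_1 lc_d_rc_17_2 lc_d_rc_3_3 lc_d_rc_15_1 lc_d_rc_15_1 lc_d_Cert_tree lc_d_rc_16_4 lc_d_Cert_tree lc_d_rc_15_1 lc_d_rc_8_3 lc_d_Cert_tree lc_d_rc_16_2 lc_d_Cert_tree lc_d_rc_16_4 lc_d_Cert_tree lc_d_Cert_tree lc_d_Cert_tree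 lc_d_rc_15_1 lc_d_Cert_tree lc_d_rc_8_3 lc_d_rc_15_1 lc_d_rc_17_2 lc_d_rc_12_1 lc_d_rc_15_1 lc_d_rc_24_0 lc_d_Cert_tree lc_d_rc_15_1 lc_d_Cert_tree lc_d_Cert_tree lc_d_rc_17_2 lc_d_Cert_tree lc_d_rc_15_1 lc_d_Cert_tree lc_d_rc_17_2 lc_d_Cert_tree lc_d_rc_15_1 lc_d_Cert_tree) (@D3.rec (fun _ => (Cert rels S Gen.d)) lc_d_Cert_tree lc_d_rc_15_1 lc_d_rc_23_2 lc_d_rc_15_1 lc_d_rc_17_2 lc_d_rc_22_6 lc_d_Cert_tree lc_d_rc_27_8 lc_d_rc_15_1 lc_d_rc_27_4 lc_d_Cert_tree lc_d_rc_15_1 lc_d_Cert_tree lc_d_rc_15_1 lc_d_Cert_tree lc_d_Cert_tree lc_d_Cert_tree lc_d_rc_17_2 lc_d_rc_12_15 lc_d_rc_23_4 lc_d_rc_23_4 lc_d_rc_8_3 lc_d_rc_27_2 lc_d_rc_8_3 lc_d_rc_24_0 lc_d_rc_22_8 lc_d_rc_15_1 lc_d_rc_24_5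 lc_d_rc_27_4 lc_d_rc_17_2 lc_d_rc_3_3 lc_d_rc_17_2 lc_d_rc_8_3 lc_d_rc_27_2 lc_d_Cert_tree lc_d_rc_15_1 lc_d_rc_15_1 lc_d_rc_16_4 lc_d_rc_23_8 lc_d_rc_8_1 lc_d_rc_23_8 lc_d_rc_8_1 lc_d_rc_15_1 lc_d_rc_15_1 lc_d_Cert_tree lc_d_rc_16_4 lc_d_rc_15_1 lc_d_rc_16_4 lc_d_rc_23_8 lc_d_rc_16_4 lc_d_rc_8_1 lc_d_rc_15_1 lc_d_rc_15_1 lc_d_rc_16_2 lc_d_rc_16_4 lc_d_Cert_tree lc_d_rc_15_1 lc_d_rc_24_0 lc_d_Cert_tree lc_d_rc_8_3 lc_d_rc_17_2 lc_d_Cert_tree) (@D3.rec (fun _ => (Cert rels S Gen.d)) lc_d_rc_15_1 lc_d_rc_3_3 lc_d_Cert_tree lc_d_rc_15_1 lc_d_rc_17_0 lc_d_Cert_tree lc_d_rc_15_1 lc_d_rc_24_0 lc_d_rc_27_2 lc_d_rc_16_0 lc_d_rc_17_2 lc_d_rc_15_1 lc_d_rc_17_2 lc_d_rc_27_2 lc_d_rc_15_1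 lc_d_rc_15_1 lc_d_rc_15_1 lc_d_rc_16_4 lc_d_Cert_tree lc_d_rc_15_1 lc_d_Cert_tree lc_d_rc_15_1 lc_d_Cert_tree lc_d_rc_15_1 lc_d_rc_17_2 lc_d_rc_15_1 lc_d_rc_17_2 lc_d_rc_15_1 lc_d_rc_24_5 lc_d_rc_27_2 lc_d_rc_23_8 lc_d_rc_8_3 lc_d_rc_15_1 lc_d_rc_17_2 lc_d_rc_3_1 lc_d_rc_15_1 lc_d_rc_3_1 lc_d_rc_15_1 lc_d_Cert_tree lc_d_Cert_tree lc_d_rc_22_2 lc_d_Cert_tree lc_d_rc_15_1 lc_d_rc_24_0 lc_d_rc_27_8 lc_d_rc_15_1 lc_d_rc_27_8 lc_d_rc_16_4 lc_d_rc_16_4 lc_d_rc_17_2 lc_d_rc_22_4 lc_d_rc_16_4 lc_d_rc_16_4 lc_d_rc_27_2 lc_d_rc_23_8 lc_d_rc_24_0 lc_d_rc_3_3 lc_d_rc_15_1 lc_d_Cert_tree lc_d_Cert_tree lc_d_rc_15_1 lc_d_rc_27_10) (@D3.rec (fun _ => (Cert rels S Gen.d)) lc_d_rc_24_5 lc_d_rc_17_2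 lc_d_rc_15_1 lc_d_rc_17_0 lc_d_rc_17_2 lc_d_rc_15_1 lc_d_rc_22_8 lc_d_Cert_tree lc_d_Cert_tree lc_d_Cert_tree lc_d_rc_15_1 lc_d_Cert_tree lc_d_rc_24_0 lc_d_rc_15_1 lc_d_Cert_tree lc_d_Cert_tree lc_d_Cert_tree lc_d_rc_15_1 lc_d_rc_17_2 lc_d_Cert_tree lc_d_Cert_tree lc_d_rc_15_1 lc_d_rc_27_4 lc_d_rc_8_3 lc_d_Cert_tree lc_d_rc_15_1 lc_d_rc_16_2 lc_d_Cert_tree lc_d_rc_15_1 lc_d_rc_15_1 lc_d_rc_15_1 lc_d_Cert_tree lc_d_rc_8_3 lc_d_Cert_tree lc_d_rc_15_1 lc_d_rc_25_6 lc_d_rc_15_1 lc_d_Cert_tree lc_d_rc_8_3 lc_d_rc_15_1 lc_d_rc_17_2 lc_d_Cert_tree lc_d_rc_15_1 lc_d_rc_27_4 lc_d_Cert_tree lc_d_rc_15_1 lc_d_rc_27_2 lc_d_rc_16_0 lc_d_Cert_tree lc_d_rc_17_2 lc_d_rc_15_1 lc_d_rc_27_2 lc_d_rc_8_3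 lc_d_rc_15_1 lc_d_rc_16_2 lc_d_rc_24_5 lc_d_rc_22_8 lc_d_rc_22_6 lc_d_rc_12_15 lc_d_rc_3_1 lc_d_rc_25_18 lc_d_rc_25_18) (@D3.rec (fun _ => (Cert rels S Gen.d)) lc_d_rc_3_3 lc_d_rc_16_2 lc_d_Cert_tree lc_d_rc_15_1 lc_d_rc_17_2 lc_d_rc_16_4 lc_d_rc_23_6 lc_d_rc_15_1 lc_d_rc_17_2 lc_d_rc_15_1 lc_d_rc_3_1 lc_d_rc_27_8 lc_d_rc_23_6 lc_d_rc_16_2 lc_d_rc_3_1 lc_d_rc_15_1 lc_d_rc_22_2 lc_d_rc_3_3 lc_d_rc_12_1 lc_d_rc_15_1 lc_d_Cert_tree lc_d_rc_24_5 lc_d_rc_15_1 lc_d_rc_22_2 lc_d_rc_3_1 lc_d_rc_22_6 lc_d_rc_16_2 lc_d_Cert_tree lc_d_Cert_tree lc_d_rc_15_1 lc_d_rc_22_6 lc_d_rc_8_3 lc_d_rc_16_2 lc_d_rc_16_4 lc_d_rc_8_1 lc_d_Cert_tree lc_d_Cert_tree lc_d_rc_15_1 lc_d_rc_17_2 lc_d_Cert_tree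 lc_d_Cert_tree lc_d_rc_15_1 lc_d_rc_23_4 lc_d_rc_12_15 lc_d_Cert_tree lc_d_rc_15_1 lc_d_rc_27_2 lc_d_Cert_tree lc_d_Cert_tree lc_d_Cert_tree lc_d_rc_17_2 lc_d_rc_15_1 lc_d_rc_27_4 lc_d_rc_8_3 lc_d_rc_15_1 lc_d_rc_3_1 lc_d_Cert_tree lc_d_Cert_tree lc_d_rc_15_1 lc_d_rc_8_1 lc_d_Cert_tree lc_d_Cert_tree) (@D3.rec (fun _ => (Cert rels S Gen.d)) lc_d_rc_15_1 lc_d_rc_27_4 lc_d_rc_15_1 lc_d_Cert_tree lc_d_rc_27_8 lc_d_rc_15_1 lc_d_rc_15_1 lc_d_rc_17_2 lc_d_rc_24_0 lc_d_Cert_tree lc_d_rc_16_0 lc_d_rc_15_1 lc_d_rc_27_8 lc_d_Cert_tree lc_d_rc_15_1 lc_d_rc_27_2 lc_d_Cert_tree lc_d_Cert_tree lc_d_rc_15_1 lc_d_rc_17_2 lc_d_rc_3_3 lc_d_Cert_tree lc_d_rc_15_1 lc_d_rc_27_4 lc_d_rc_16_4 lc_d_Cert_tree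 lc_d_rc_15_1 lc_d_Cert_tree lc_d_rc_15_1 lc_d_rc_15_1 lc_d_Cert_tree lc_d_rc_15_1 lc_d_rc_22_4 lc_d_rc_16_2 lc_d_Cert_tree lc_d_rc_8_3 lc_d_Cert_tree lc_d_rc_27_4 lc_d_Cert_tree lc_d_Cert_tree lc_d_Cert_tree lc_d_rc_15_1 lc_d_Cert_tree lc_d_rc_15_1 lc_d_Cert_tree lc_d_rc_27_10 lc_d_rc_27_10 lc_d_rc_3_3 lc_d_Cert_tree lc_d_rc_17_2 lc_d_rc_23_2 lc_d_rc_23_8 lc_d_rc_23_6 lc_d_rc_3_1 lc_d_Cert_tree lc_d_rc_15_1 lc_d_Cert_tree lc_d_rc_15_1 lc_d_rc_16_0 lc_d_Cert_tree lc_d_Cert_tree lc_d_rc_15_1) (@D3.rec (fun _ => (Cert rels S Gen.d)) lc_d_rc_27_4 lc_d_Cert_tree lc_d_Cert_tree lc_d_rc_15_1 lc_d_rc_27_8 lc_d_rc_27_2 lc_d_Cert_tree lc_d_rc_15_1 lc_d_rc_27_10 lc_d_rc_15_1 lc_d_rc_27_4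 lc_d_Cert_tree lc_d_rc_15_1 lc_d_rc_24_5 lc_d_rc_3_1 lc_d_rc_8_1 lc_d_rc_8_3 lc_d_Cert_tree lc_d_rc_17_0 lc_d_rc_17_2 lc_d_rc_15_1 lc_d_rc_23_6 lc_d_rc_22_8 lc_d_rc_16_2 lc_d_rc_24_0 lc_d_rc_24_0 lc_d_rc_8_1 lc_d_rc_22_4 lc_d_rc_15_1 lc_d_rc_16_4 lc_d_rc_22_6 lc_d_rc_27_8 lc_d_Cert_tree lc_d_rc_15_1 lc_d_rc_16_4 lc_d_rc_15_1 lc_d_rc_27_2 lc_d_rc_23_2 lc_d_rc_15_1 lc_d_Cert_tree lc_d_Cert_tree lc_d_rc_15_1 lc_d_Cert_tree lc_d_rc_15_1 lc_d_rc_15_1 lc_d_rc_22_4 lc_d_rc_15_1 lc_d_Cert_tree lc_d_rc_22_8 lc_d_rc_15_1 lc_d_rc_8_3 lc_d_rc_27_4 lc_d_rc_25_10 lc_d_rc_15_1 lc_d_rc_22_4 lc_d_rc_17_0 lc_d_rc_23_4 lc_d_rc_15_1 lc_d_rc_8_3 lc_d_rc_23_6 lc_d_rc_8_3 lc_d_rc_15_1) (@D3.rec (fun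 _ => (Cert rels S Gen.d)) lc_d_rc_8_3 lc_d_rc_3_3 lc_d_rc_27_8 lc_d_rc_15_1 lc_d_rc_23_2 lc_d_Cert_tree lc_d_rc_15_1 lc_d_rc_12_15 lc_d_Cert_tree lc_d_rc_23_4 lc_d_rc_15_1 lc_d_rc_8_1 lc_d_rc_8_3 lc_d_rc_25_10 lc_d_Cert_tree lc_d_rc_15_1 lc_d_Cert_tree lc_d_rc_16_0 lc_d_rc_15_1 lc_d_rc_17_2 lc_d_rc_8_3 lc_d_Cert_tree lc_d_Cert_tree lc_d_rc_15_1 lc_d_Cert_tree lc_d_Cert_tree lc_d_Cert_tree lc_d_rc_15_1 lc_d_Cert_tree lc_d_rc_24_0 lc_d_rc_27_10 lc_d_Cert_tree lc_d_rc_27_10 lc_d_rc_15_1 lc_d_rc_17_2 lc_d_rc_15_1 lc_d_rc_16_0 lc_d_rc_17_2 lc_d_Cert_tree lc_d_rc_15_1 lc_d_rc_15_1 lc_d_rc_8_3 lc_d_rc_16_4 lc_d_rc_15_1 lc_d_rc_27_4 lc_d_rc_24_0 lc_d_rc_16_2 lc_d_Cert_tree lc_d_rc_15_1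 lc_d_rc_8_3 lc_d_rc_17_2 lc_d_rc_17_2 lc_d_rc_23_4 lc_d_rc_8_3 lc_d_Cert_tree lc_d_rc_15_1 lc_d_Cert_tree lc_d_rc_8_3 lc_d_rc_16_4 lc_d_Cert_tree lc_d_rc_8_3 lc_d_rc_3_3) (@D3.rec (fun _ => (Cert rels S Gen.d)) lc_d_rc_8_1 lc_d_rc_15_1 lc_d_rc_17_2 lc_d_rc_17_2 lc_d_rc_16_4 lc_d_rc_23_8 lc_d_rc_22_4 lc_d_rc_15_1 lc_d_rc_3_3 lc_d_rc_15_1 lc_d_rc_27_4 lc_d_rc_23_8 lc_d_rc_23_8 lc_d_rc_17_2 lc_d_rc_8_1 lc_d_rc_15_1 lc_d_rc_27_2 lc_d_rc_8_1 lc_d_rc_15_1 lc_d_rc_27_8 lc_d_rc_15_1 lc_d_rc_15_1 lc_d_rc_22_8 lc_d_rc_17_2 lc_d_rc_15_1 lc_d_rc_16_2 lc_d_rc_23_2 lc_d_rc_15_1 lc_d_rc_15_1 lc_d_rc_16_4 lc_d_rc_23_4 lc_d_rc_16_2 lc_d_rc_8_1 lc_d_rc_23_4 lc_d_rc_16_4 lc_d_rc_23_6 lc_d_rc_23_4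 lc_d_Cert_tree lc_d_rc_15_1 lc_d_rc_22_6 lc_d_rc_16_4 lc_d_rc_15_1 lc_d_rc_16_2 lc_d_rc_15_1 lc_d_rc_15_1 lc_d_rc_16_4 lc_d_rc_3_3 lc_d_rc_8_3 lc_d_Cert_tree lc_d_Cert_tree lc_d_Cert_tree lc_d_rc_15_1 lc_d_rc_15_1 lc_d_rc_17_2 lc_d_rc_15_1 lc_d_rc_27_4 lc_d_rc_8_1 lc_d_rc_15_1 lc_d_rc_23_8 lc_d_rc_16_4 lc_d_rc_17_2 lc_d_rc_8_3) (@D3.rec (fun _ => (Cert rels S Gen.d)) lc_d_rc_16_2 lc_d_rc_24_5 lc_d_rc_3_3 lc_d_rc_17_2 lc_d_Cert_tree lc_d_rc_23_2 lc_d_rc_8_1 lc_d_rc_8_3 lc_d_rc_12_15 lc_d_rc_8_1 lc_d_rc_24_5 lc_d_rc_3_3 lc_d_rc_8_3 lc_d_rc_22_8 lc_d_Cert_tree lc_d_rc_8_1 lc_d_rc_15_1 lc_d_rc_17_2 lc_d_Cert_tree lc_d_rc_25_2 lc_d_rc_25_14 lc_d_rc_15_1 lc_d_rc_22_2 lc_d_Cert_tree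 lc_d_rc_25_14 lc_d_rc_15_1 lc_d_rc_27_4 lc_d_rc_23_8 lc_d_rc_23_4 lc_d_rc_15_1 lc_d_rc_27_2 lc_d_rc_15_1 lc_d_rc_3_1 lc_d_rc_17_2 lc_d_rc_16_4 lc_d_rc_27_2 lc_d_rc_8_3 lc_d_rc_22_8 lc_d_rc_15_1 lc_d_rc_3_3 lc_d_rc_16_2 lc_d_rc_24_5 lc_d_rc_16_4 lc_d_rc_16_4 lc_d_rc_17_2 lc_d_rc_16_2 lc_d_Cert_tree lc_d_Cert_tree lc_d_rc_8_3 lc_d_rc_15_1 lc_d_rc_22_2 lc_d_rc_15_1 lc_d_rc_24_0 lc_d_rc_15_1 lc_d_rc_8_3 lc_d_rc_8_1 lc_d_rc_15_1 lc_d_rc_3_3 lc_d_rc_22_6 lc_d_rc_16_4 lc_d_rc_15_1 lc_d_Cert_tree) (@D3.rec (fun _ => (Cert rels S Gen.d)) lc_d_rc_23_2 lc_d_rc_15_1 lc_d_rc_24_5 lc_d_Cert_tree lc_d_rc_15_1 lc_d_rc_15_1 lc_d_rc_27_8 lc_d_Cert_tree lc_d_rc_15_1 lc_d_rc_15_1 lc_d_Cert_tree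 lc_d_rc_25_2 lc_d_rc_15_1 lc_d_rc_15_1 lc_d_Cert_tree lc_d_Cert_tree lc_d_rc_17_2 lc_d_rc_17_2 lc_d_rc_15_1 lc_d_rc_27_2 lc_d_rc_17_2 lc_d_rc_25_18 lc_d_rc_15_1 lc_d_rc_27_4 lc_d_rc_15_1 lc_d_Cert_tree lc_d_rc_15_1 lc_d_Cert_tree lc_d_Cert_tree lc_d_rc_15_1 lc_d_rc_15_1 lc_d_rc_17_2 lc_d_rc_15_1 lc_d_Cert_tree lc_d_rc_15_1 lc_d_rc_15_1 lc_d_rc_17_2 lc_d_Cert_tree lc_d_Cert_tree lc_d_rc_15_1 lc_d_rc_17_2 lc_d_Cert_tree lc_d_rc_15_1 lc_d_rc_27_8 lc_d_Cert_tree lc_d_rc_17_2 lc_d_Cert_tree lc_d_Cert_tree lc_d_rc_15_1 lc_d_Cert_tree lc_d_Cert_tree lc_d_rc_15_1 lc_d_rc_16_4 lc_d_Cert_tree lc_d_rc_15_1 lc_d_Cert_tree lc_d_rc_15_1 lc_d_rc_3_1 lc_d_rc_15_1 lc_d_rc_17_2 lc_d_rc_15_1 lc_d_rc_8_3)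 (@D3.rec (fun _ => (Cert rels S Gen.d)) lc_d_rc_24_0 lc_d_Cert_tree lc_d_rc_24_5 lc_d_Cert_tree lc_d_rc_15_1 lc_d_rc_15_1 lc_d_Cert_tree lc_d_rc_15_1 lc_d_rc_15_1 lc_d_rc_15_1 lc_d_Cert_tree lc_d_rc_15_1 lc_d_Cert_tree lc_d_rc_15_1 lc_d_Cert_tree lc_d_Cert_tree lc_d_Cert_tree lc_d_rc_17_2 lc_d_Cert_tree lc_d_Cert_tree lc_d_Cert_tree lc_d_rc_15_1 lc_d_rc_16_4 lc_d_rc_15_1 lc_d_rc_22_4 lc_d_rc_15_1 lc_d_rc_8_3 lc_d_Cert_tree lc_d_rc_16_2 lc_d_rc_15_1 lc_d_Cert_tree lc_d_Cert_tree lc_d_rc_15_1 lc_d_Cert_tree lc_d_Cert_tree lc_d_Cert_tree lc_d_rc_15_1 lc_d_Cert_tree lc_d_Cert_tree lc_d_rc_15_1 lc_d_rc_27_4 lc_d_Cert_tree lc_d_Cert_tree lc_d_rc_15_1 lc_d_Cert_tree lc_d_rc_17_2 lc_d_rc_15_1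 lc_d_rc_17_2 lc_d_rc_15_1 lc_d_rc_15_1 lc_d_rc_24_0 lc_d_rc_16_4 lc_d_rc_24_0 lc_d_rc_24_5 lc_d_rc_12_15 lc_d_rc_24_0 lc_d_rc_16_4 lc_d_rc_23_2 lc_d_rc_15_1 lc_d_Cert_tree lc_d_rc_15_1 lc_d_rc_15_1) (@D3.rec (fun _ => (Cert rels S Gen.d)) lc_d_rc_17_2 lc_d_rc_8_3 lc_d_Cert_tree lc_d_rc_15_1 lc_d_rc_15_1 lc_d_rc_15_1 lc_d_Cert_tree lc_d_rc_22_4 lc_d_rc_16_4 lc_d_rc_15_1 lc_d_rc_15_1 lc_d_Cert_tree lc_d_rc_15_1 lc_d_Cert_tree lc_d_rc_15_1 lc_d_Cert_tree lc_d_Cert_tree lc_d_rc_3_3 lc_d_rc_15_1 lc_d_rc_15_1 lc_d_rc_15_1 lc_d_Cert_tree lc_d_rc_15_1 lc_d_rc_15_1 lc_d_Cert_tree lc_d_rc_3_3 lc_d_rc_16_4 lc_d_rc_24_5 lc_d_rc_16_4 lc_d_rc_23_4 lc_d_rc_16_4 lc_d_rc_22_6 lc_d_rc_24_0 lc_d_rc_15_1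 lc_d_rc_3_3 lc_d_rc_16_4 lc_d_rc_16_4 lc_d_rc_24_0 lc_d_rc_15_1 lc_d_rc_24_0 lc_d_rc_15_1 lc_d_rc_27_4 lc_d_rc_15_1 lc_d_rc_8_3 lc_d_rc_16_2 lc_d_rc_16_4 lc_d_rc_17_2 lc_d_rc_15_1 lc_d_rc_16_4 lc_d_Cert_tree lc_d_rc_15_1 lc_d_rc_15_1 lc_d_rc_22_8 lc_d_rc_3_3 lc_d_rc_3_3 lc_d_rc_3_1 lc_d_rc_8_3 lc_d_rc_15_1 lc_d_rc_8_3 lc_d_rc_8_3 lc_d_rc_24_0 lc_d_rc_16_4) (@D3.rec (fun _ => (Cert rels S Gen.d)) lc_d_Cert_tree lc_d_rc_17_2 lc_d_rc_16_4 lc_d_rc_24_0 lc_d_rc_24_5 lc_d_rc_16_4 lc_d_rc_23_4 lc_d_rc_15_1 lc_d_rc_15_1 lc_d_rc_17_2 lc_d_rc_16_4 lc_d_rc_17_2 lc_d_rc_15_1 lc_d_rc_16_4 lc_d_rc_22_6 lc_d_Cert_tree lc_d_rc_17_0 lc_d_rc_15_1 lc_d_rc_15_1 lc_d_rc_8_3 lc_d_Cert_tree lc_d_rc_3_3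 lc_d_rc_27_4 lc_d_rc_8_3 lc_d_rc_16_4 lc_d_rc_17_0 lc_d_rc_15_1 lc_d_rc_17_2 lc_d_rc_25_6 lc_d_rc_22_2 lc_d_rc_16_4 lc_d_rc_8_3 lc_d_Cert_tree lc_d_rc_27_2 lc_d_rc_27_2 lc_d_rc_17_2 lc_d_rc_8_3 lc_d_rc_3_3 lc_d_rc_27_8 lc_d_rc_8_1 lc_d_rc_24_0 lc_d_rc_17_2 lc_d_rc_22_4 lc_d_rc_8_3 lc_d_rc_12_15 lc_d_rc_24_0 lc_d_rc_16_2 lc_d_rc_15_1 lc_d_rc_27_2 lc_d_rc_8_3 lc_d_rc_8_3 lc_d_rc_27_8 lc_d_rc_27_10 lc_d_rc_15_1 lc_d_rc_16_4 lc_d_rc_24_0 lc_d_rc_15_1 lc_d_rc_16_4 lc_d_rc_15_1 lc_d_rc_27_2 lc_d_rc_27_4 lc_d_rc_16_4) (@D3.rec (fun _ => (Cert rels S Gen.d)) lc_d_rc_15_1 lc_d_Cert_tree lc_d_rc_15_1 lc_d_rc_15_1 lc_d_rc_3_3 lc_d_rc_8_3 lc_d_rc_8_3 lc_d_rc_27_10 lc_d_rc_27_8 lc_d_rc_8_3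 lc_d_rc_15_1 lc_d_rc_17_2 lc_d_rc_3_3 lc_d_rc_8_1 lc_d_rc_16_4 lc_d_rc_27_2 lc_d_rc_15_1 lc_d_rc_15_1 lc_d_rc_17_2 lc_d_rc_25_14 lc_d_rc_22_4 lc_d_rc_27_2 lc_d_rc_23_2 lc_d_rc_16_2 lc_d_rc_15_1 lc_d_rc_15_1 lc_d_rc_24_5 lc_d_rc_24_0 lc_d_rc_22_8 lc_d_rc_15_1 lc_d_rc_15_1 lc_d_Cert_tree lc_d_Cert_tree lc_d_Cert_tree lc_d_Cert_tree lc_d_rc_15_1 lc_d_rc_24_5 lc_d_rc_22_2 lc_d_rc_15_1 lc_d_rc_16_2 lc_d_rc_23_2 lc_d_rc_15_1 lc_d_rc_16_2 lc_d_Cert_tree lc_d_Cert_tree lc_d_rc_17_2 lc_d_rc_23_8 lc_d_Cert_tree lc_d_Cert_tree lc_d_rc_15_1 lc_d_rc_17_2 lc_d_Cert_tree lc_d_rc_15_1 lc_d_Cert_tree lc_d_rc_15_1 lc_d_rc_8_3 lc_d_rc_8_3 lc_d_Cert_tree lc_d_Cert_tree lc_d_rc_17_2 lc_d_Cert_tree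 lc_d_Cert_tree) (@D3.rec (fun _ => (Cert rels S Gen.d)) lc_d_Cert_tree lc_d_rc_15_1 lc_d_rc_17_2 lc_d_rc_22_2 lc_d_rc_15_1 lc_d_rc_8_1 lc_d_Cert_tree lc_d_rc_15_1 lc_d_rc_17_2 lc_d_rc_15_1 lc_d_rc_17_2 lc_d_Cert_tree lc_d_Cert_tree lc_d_rc_17_2 lc_d_rc_23_2 lc_d_rc_22_2 lc_d_rc_23_8 lc_d_rc_15_1 lc_d_rc_24_0 lc_d_rc_8_3 lc_d_rc_23_6 lc_d_rc_8_3 lc_d_rc_16_2 lc_d_rc_16_0 lc_d_rc_15_1 lc_d_rc_24_0 lc_d_rc_15_1 lc_d_rc_15_1 lc_d_rc_15_1 lc_d_Cert_tree lc_d_rc_15_1 lc_d_Cert_tree lc_d_Cert_tree lc_d_Cert_tree lc_d_Cert_tree lc_d_rc_15_1 lc_d_rc_8_3 lc_d_rc_17_2 lc_d_rc_23_2 lc_d_rc_27_8 lc_d_rc_3_1 lc_d_rc_8_3 lc_d_rc_27_10 lc_d_rc_15_1 lc_d_rc_27_8 lc_d_rc_15_1 lc_d_rc_27_4 lc_d_Cert_tree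 lc_d_rc_15_1 lc_d_rc_27_2 lc_d_rc_15_1 lc_d_rc_3_1 lc_d_rc_22_6 lc_d_rc_17_2 lc_d_rc_8_3 lc_d_rc_25_18 lc_d_rc_24_0 lc_d_rc_27_2 lc_d_rc_27_8 lc_d_Cert_tree lc_d_rc_16_0 lc_d_rc_27_4) (@D3.rec (fun _ => (Cert rels S Gen.d)) lc_d_rc_3_3 lc_d_Cert_tree lc_d_rc_17_2 lc_d_rc_17_2 lc_d_Cert_tree lc_d_rc_15_1 lc_d_rc_16_2 lc_d_rc_27_10 lc_d_Cert_tree lc_d_Cert_tree lc_d_rc_17_2 lc_d_rc_24_5 lc_d_rc_23_4 lc_d_rc_15_1 lc_d_rc_17_0 lc_d_Cert_tree lc_d_Cert_tree lc_d_rc_17_2 lc_d_rc_3_3 lc_d_rc_27_2 lc_d_rc_15_1 lc_d_rc_27_2 lc_d_rc_8_3 lc_d_rc_15_1 lc_d_rc_27_10 lc_d_rc_15_1 lc_d_rc_27_4 lc_d_rc_8_3 lc_d_rc_22_4 lc_d_rc_15_1 lc_d_rc_17_2 lc_d_rc_8_1 lc_d_rc_17_2 lc_d_rc_27_4 lc_d_rc_8_3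 lc_d_rc_23_8 lc_d_rc_24_5 lc_d_rc_16_2 lc_d_rc_22_8 lc_d_Cert_tree lc_d_rc_16_4 lc_d_rc_8_3 lc_d_rc_16_4 lc_d_rc_8_3 lc_d_rc_8_3 lc_d_rc_8_3 lc_d_Cert_tree lc_d_rc_15_1 lc_d_rc_27_4 lc_d_rc_3_3 lc_d_rc_17_2 lc_d_rc_8_3 lc_d_Cert_tree lc_d_rc_27_8 lc_d_rc_8_3 lc_d_Cert_tree lc_d_rc_15_1 lc_d_rc_8_3 lc_d_rc_15_1 lc_d_rc_17_2 lc_d_rc_3_3 lc_d_Cert_tree) (@D3.rec (fun _ => (Cert rels S Gen.d)) lc_d_Cert_tree lc_d_rc_15_1 lc_d_Cert_tree lc_d_rc_16_4 lc_d_rc_16_0 lc_d_rc_15_1 lc_d_rc_27_8 lc_d_rc_16_4 lc_d_Cert_tree lc_d_rc_16_2 lc_d_rc_8_3 lc_d_Cert_tree lc_d_rc_23_8 lc_d_rc_15_1 lc_d_rc_15_1 lc_d_Cert_tree lc_d_Cert_tree lc_d_rc_16_2 lc_d_rc_17_0 lc_d_rc_16_4 lc_d_Cert_tree lc_d_Cert_tree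 lc_d_rc_15_1 lc_d_Cert_tree lc_d_rc_16_4 lc_d_rc_15_1 lc_d_Cert_tree lc_d_rc_16_4 lc_d_rc_8_1 lc_d_Cert_tree lc_d_rc_15_1 lc_d_Cert_tree lc_d_rc_16_4 lc_d_rc_15_1 lc_d_rc_15_1 lc_d_rc_16_4 lc_d_rc_8_1 lc_d_rc_24_5 lc_d_rc_16_4 lc_d_rc_23_2 lc_d_rc_27_2 lc_d_Cert_tree lc_d_Cert_tree lc_d_rc_17_2 lc_d_Cert_tree lc_d_rc_24_0 lc_d_rc_15_1 lc_d_rc_24_5 lc_d_rc_15_1 lc_d_Cert_tree lc_d_Cert_tree lc_d_rc_15_1 lc_d_rc_15_1 lc_d_rc_27_2 lc_d_rc_8_1 lc_d_rc_15_1 lc_d_rc_22_6 lc_d_Cert_tree lc_d_rc_15_1 lc_d_rc_24_5 lc_d_rc_15_1 lc_d_rc_24_5) (@D3.rec (fun _ => (Cert rels S Gen.d)) lc_d_rc_8_3 lc_d_rc_8_3 lc_d_Cert_tree lc_d_Cert_tree lc_d_Cert_tree lc_d_rc_15_1 lc_d_rc_17_2 lc_d_rc_23_6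 lc_d_rc_23_4 lc_d_rc_17_2 lc_d_rc_27_10 lc_d_rc_23_8 lc_d_rc_12_3 lc_d_rc_15_1 lc_d_rc_16_4 lc_d_rc_17_2 lc_d_rc_16_4 lc_d_Cert_tree lc_d_rc_15_1 lc_d_rc_24_0 lc_d_rc_16_4 lc_d_rc_8_1 lc_d_rc_15_1 lc_d_rc_27_2 lc_d_rc_16_4 lc_d_Cert_tree lc_d_Cert_tree lc_d_rc_22_2 lc_d_rc_3_1 lc_d_rc_16_2 lc_d_rc_8_3 lc_d_rc_15_1 lc_d_rc_27_2 lc_d_rc_15_1 lc_d_rc_8_3 lc_d_Cert_tree lc_d_Cert_tree lc_d_Cert_tree lc_d_rc_15_1 lc_d_rc_17_2 lc_d_rc_15_1 lc_d_Cert_tree lc_d_rc_15_1 lc_d_Cert_tree lc_d_rc_16_4 lc_d_rc_15_1 lc_d_Cert_tree lc_d_rc_16_4 lc_d_Cert_tree lc_d_rc_8_3 lc_d_rc_16_4 lc_d_Cert_tree lc_d_rc_15_1 lc_d_rc_15_1 lc_d_rc_23_2 lc_d_rc_24_5 lc_d_rc_24_0 lc_d_Cert_tree lc_d_Cert_tree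 lc_d_rc_15_1 lc_d_rc_17_2 lc_d_rc_23_6) (@D3.rec (fun _ => (Cert rels S Gen.d)) lc_d_rc_15_1 lc_d_rc_23_2 lc_d_Cert_tree lc_d_rc_17_2 lc_d_rc_24_0 lc_d_rc_15_1 lc_d_Cert_tree lc_d_Cert_tree lc_d_Cert_tree lc_d_rc_15_1 lc_d_rc_17_2 lc_d_rc_8_1 lc_d_Cert_tree lc_d_rc_17_0 lc_d_rc_17_2 lc_d_rc_3_3 lc_d_Cert_tree lc_d_rc_8_3 lc_d_rc_3_3 lc_d_rc_15_1 lc_d_rc_17_2 lc_d_Cert_tree lc_d_rc_24_5 lc_d_rc_15_1 lc_d_rc_27_4 lc_d_Cert_tree lc_d_rc_23_8 lc_d_rc_15_1 lc_d_Cert_tree lc_d_Cert_tree lc_d_Cert_tree lc_d_rc_27_4 lc_d_rc_17_2 lc_d_rc_15_1 lc_d_rc_3_3 lc_d_Cert_tree lc_d_rc_16_2 lc_d_Cert_tree lc_d_rc_16_4 lc_d_rc_3_3 lc_d_rc_15_1 lc_d_rc_16_2 lc_d_Cert_tree lc_d_Cert_tree lc_d_Cert_tree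 lc_d_rc_15_1 lc_d_rc_22_4 lc_d_rc_15_1 lc_d_rc_8_3 lc_d_rc_15_1 lc_d_rc_3_3 lc_d_rc_3_3 lc_d_rc_17_2 lc_d_rc_15_1 lc_d_rc_16_2 lc_d_rc_23_8 lc_d_rc_24_0 lc_d_rc_15_1 lc_d_rc_8_1 lc_d_Cert_tree lc_d_rc_17_2 lc_d_rc_23_4) (@D3.rec (fun _ => (Cert rels S Gen.d)) lc_d_rc_15_1 lc_d_rc_27_4 lc_d_rc_27_8 lc_d_rc_27_10 lc_d_rc_27_4 lc_d_rc_23_8 lc_d_rc_8_3 lc_d_rc_27_2 lc_d_rc_15_1 lc_d_rc_16_4 lc_d_rc_15_1 lc_d_rc_23_2 lc_d_rc_16_2 lc_d_Cert_tree lc_d_rc_27_2 lc_d_rc_15_1 lc_d_Cert_tree lc_d_rc_15_1 lc_d_rc_15_1 lc_d_rc_17_2 lc_d_rc_24_5 lc_d_rc_15_1 lc_d_rc_15_1 lc_d_rc_23_8 lc_d_rc_16_4 lc_d_rc_15_1 lc_d_Cert_tree lc_d_rc_15_1 lc_d_rc_17_2 lc_d_rc_8_1 lc_d_rc_22_4 lc_d_rc_23_2 lc_d_rc_8_1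 lc_d_rc_15_1 lc_d_Cert_tree lc_d_Cert_tree lc_d_rc_16_2 lc_d_rc_15_1 lc_d_Cert_tree lc_d_rc_15_1 lc_d_rc_17_2 lc_d_rc_15_1 lc_d_Cert_tree lc_d_Cert_tree lc_d_rc_24_5 lc_d_Cert_tree lc_d_rc_15_1 lc_d_rc_23_6 lc_d_rc_23_4 lc_d_rc_22_8 lc_d_rc_16_4 lc_d_rc_17_2 lc_d_Cert_tree lc_d_rc_15_1 lc_d_rc_27_10 lc_d_rc_15_1 lc_d_rc_27_2 lc_d_rc_3_1 lc_d_rc_27_8 lc_d_rc_16_4 lc_d_rc_17_2 lc_d_rc_8_1) (@D3.rec (fun _ => (Cert rels S Gen.d)) lc_d_rc_15_1 lc_d_rc_15_1 lc_d_rc_8_3 lc_d_rc_27_2 lc_d_rc_25_14 lc_d_rc_8_3 lc_d_rc_3_3 lc_d_rc_22_4 lc_d_Cert_tree lc_d_rc_8_1 lc_d_rc_24_5 lc_d_Cert_tree lc_d_Cert_tree lc_d_rc_8_3 lc_d_rc_27_4 lc_d_rc_23_4 lc_d_rc_23_2 lc_d_rc_16_2 lc_d_rc_24_0 lc_d_rc_16_4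 lc_d_rc_8_1 lc_d_rc_15_1 lc_d_Cert_tree lc_d_Cert_tree lc_d_rc_27_2 lc_d_rc_24_5 lc_d_Cert_tree lc_d_rc_23_2 lc_d_rc_25_18 lc_d_Cert_tree lc_d_rc_15_1 lc_d_rc_16_4 lc_d_Cert_tree lc_d_Cert_tree lc_d_rc_15_1 lc_d_rc_17_2 lc_d_rc_15_1 lc_d_rc_17_2 lc_d_rc_23_2 lc_d_rc_16_2 lc_d_Cert_tree lc_d_Cert_tree lc_d_rc_15_1 lc_d_Cert_tree lc_d_rc_8_3 lc_d_Cert_tree lc_d_Cert_tree lc_d_Cert_tree lc_d_rc_15_1 lc_d_rc_17_2 lc_d_Cert_tree lc_d_rc_15_1 lc_d_rc_24_0 lc_d_rc_15_1 lc_d_Cert_tree lc_d_rc_16_4 lc_d_Cert_tree lc_d_Cert_tree lc_d_Cert_tree lc_d_rc_16_4 lc_d_Cert_tree lc_d_rc_15_1) (@D3.rec (fun _ => (Cert rels S Gen.d)) lc_d_rc_15_1 lc_d_rc_15_1 lc_d_Cert_tree lc_d_rc_17_2 lc_d_Cert_tree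 lc_d_Cert_tree lc_d_Cert_tree lc_d_Cert_tree lc_d_Cert_tree lc_d_rc_15_1 lc_d_rc_17_2 lc_d_rc_16_4 lc_d_rc_16_4 lc_d_rc_15_1 lc_d_rc_24_0 lc_d_rc_8_1 lc_d_Cert_tree lc_d_rc_17_2 lc_d_rc_15_1 lc_d_rc_8_1 lc_d_rc_15_1 lc_d_rc_16_4 lc_d_Cert_tree lc_d_Cert_tree lc_d_rc_15_1 lc_d_rc_17_2 lc_d_rc_15_1 lc_d_rc_15_1 lc_d_rc_27_4 lc_d_rc_8_3 lc_d_rc_23_2 lc_d_rc_24_0 lc_d_rc_15_1 lc_d_rc_3_3 lc_d_rc_8_3 lc_d_Cert_tree lc_d_Cert_tree lc_d_Cert_tree lc_d_rc_15_1 lc_d_rc_17_2 lc_d_rc_15_1 lc_d_rc_3_1 lc_d_rc_23_2 lc_d_rc_15_1 lc_d_Cert_tree lc_d_Cert_tree lc_d_rc_8_3 lc_d_rc_22_4 lc_d_rc_15_1 lc_d_rc_17_2 lc_d_rc_15_1 lc_d_rc_23_2 lc_d_rc_15_1 lc_d_rc_27_4 lc_d_rc_15_1 lc_d_rc_15_1 lc_d_Cert_tree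 lc_d_rc_23_6 lc_d_rc_8_3 lc_d_Cert_tree lc_d_rc_17_2 lc_d_rc_15_1) (@D3.rec (fun _ => (Cert rels S Gen.d)) lc_d_rc_23_6 lc_d_Cert_tree lc_d_rc_16_4 lc_d_rc_15_1 lc_d_Cert_tree lc_d_rc_17_2 lc_d_rc_24_5 lc_d_Cert_tree lc_d_rc_15_1 lc_d_rc_8_1 lc_d_rc_8_1 lc_d_Cert_tree lc_d_rc_16_4 lc_d_Cert_tree lc_d_Cert_tree lc_d_Cert_tree lc_d_rc_15_1 lc_d_rc_22_4 lc_d_rc_16_4 lc_d_rc_27_2 lc_d_Cert_tree lc_d_rc_15_1 lc_d_rc_17_2 lc_d_Cert_tree lc_d_rc_15_1 lc_d_rc_27_10 lc_d_rc_3_3 lc_d_rc_23_4 lc_d_rc_3_3 lc_d_Cert_tree lc_d_Cert_tree lc_d_Cert_tree lc_d_Cert_tree lc_d_rc_15_1 lc_d_rc_17_2 lc_d_rc_3_1 lc_d_rc_15_1 lc_d_rc_27_2 lc_d_rc_15_1 lc_d_Cert_tree lc_d_rc_17_2 lc_d_Cert_tree lc_d_rc_15_1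 lc_d_rc_17_2 lc_d_rc_15_1 lc_d_rc_17_2 lc_d_Cert_tree lc_d_Cert_tree lc_d_rc_15_1 lc_d_rc_25_2 lc_d_Cert_tree lc_d_Cert_tree lc_d_rc_15_1 lc_d_rc_27_8 lc_d_rc_15_1 lc_d_rc_27_4 lc_d_Cert_tree lc_d_rc_15_1 lc_d_rc_23_2 lc_d_rc_15_1 lc_d_Cert_tree lc_d_rc_3_3) (@D3.rec (fun _ => (Cert rels S Gen.d)) lc_d_rc_15_1 lc_d_rc_27_2 lc_d_rc_15_1 lc_d_rc_27_8 lc_d_Cert_tree lc_d_rc_15_1 lc_d_Cert_tree lc_d_Cert_tree lc_d_rc_16_2 lc_d_rc_8_1 lc_d_rc_8_3 lc_d_rc_15_1 lc_d_Cert_tree lc_d_rc_12_5 lc_d_Cert_tree lc_d_rc_15_1 lc_d_rc_17_2 lc_d_rc_16_4 lc_d_rc_15_1 lc_d_rc_15_1 lc_d_rc_16_4 lc_d_Cert_tree lc_d_rc_15_1 lc_d_Cert_tree lc_d_rc_15_1 lc_d_rc_17_2 lc_d_rc_23_2 lc_d_rc_24_0 lc_d_Cert_tree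 lc_d_rc_15_1 lc_d_rc_16_2 lc_d_rc_15_1 lc_d_Cert_tree lc_d_rc_15_1 lc_d_rc_27_4 lc_d_Cert_tree lc_d_rc_23_6 lc_d_rc_15_1 lc_d_Cert_tree lc_d_Cert_tree lc_d_rc_15_1 lc_d_rc_24_0 lc_d_rc_15_1 lc_d_rc_22_6 lc_d_rc_16_4 lc_d_rc_17_2 lc_d_Cert_tree lc_d_rc_15_1 lc_d_rc_15_1 lc_d_rc_15_1 lc_d_Cert_tree lc_d_rc_27_10 lc_d_rc_15_1 lc_d_rc_27_4 lc_d_Cert_tree lc_d_Cert_tree lc_d_rc_8_3 lc_d_Cert_tree lc_d_rc_15_1 lc_d_Cert_tree lc_d_Cert_tree lc_d_rc_8_3) (@D3.rec (fun _ => (Cert rels S Gen.d)) lc_d_rc_3_3 lc_d_Cert_tree lc_d_Cert_tree lc_d_rc_15_1 lc_d_rc_15_1 lc_d_rc_3_3 lc_d_rc_8_3 lc_d_Cert_tree lc_d_rc_15_1 lc_d_Cert_tree lc_d_rc_17_2 lc_d_rc_17_2 lc_d_rc_15_1 lc_d_rc_17_2 lc_d_rc_15_1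 lc_d_rc_24_0 lc_d_rc_3_1 lc_d_rc_15_1 lc_d_rc_16_2 lc_d_rc_15_1 lc_d_rc_15_1 lc_d_rc_15_1 lc_d_rc_24_5 lc_d_rc_23_6 lc_d_rc_16_4 lc_d_rc_3_1 lc_d_rc_16_4 lc_d_rc_15_1 lc_d_Cert_tree lc_d_rc_15_1 lc_d_Cert_tree lc_d_rc_8_3 lc_d_rc_15_1 lc_d_rc_22_2 lc_d_rc_8_3 lc_d_rc_24_5 lc_d_rc_27_10 lc_d_rc_17_2 lc_d_rc_23_6 lc_d_rc_23_2 lc_d_rc_15_1 lc_d_rc_15_1 lc_d_rc_15_1 lc_d_rc_25_18 lc_d_rc_15_1 lc_d_rc_17_2 lc_d_rc_17_2 lc_d_rc_16_4 lc_d_rc_8_3 lc_d_rc_15_1 lc_d_Cert_tree lc_d_Cert_tree lc_d_rc_27_10 lc_d_rc_27_10 lc_d_rc_15_1 lc_d_rc_3_1 lc_d_Cert_tree lc_d_rc_15_1 lc_d_rc_23_8 lc_d_rc_15_1 lc_d_rc_15_1 lc_d_rc_17_2) (@D3.rec (fun _ => (Cert rels S Gen.d)) lc_d_rc_24_5 lc_d_rc_15_1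 lc_d_Cert_tree lc_d_Cert_tree lc_d_rc_15_1 lc_d_rc_17_2 lc_d_Cert_tree lc_d_rc_15_1 lc_d_rc_17_2 lc_d_rc_17_2 lc_d_rc_15_1 lc_d_rc_22_6 lc_d_rc_25_2 lc_d_Cert_tree lc_d_rc_15_1 lc_d_Cert_tree lc_d_rc_15_1 lc_d_rc_8_3 lc_d_rc_16_2 lc_d_rc_17_2 lc_d_Cert_tree lc_d_rc_8_3 lc_d_Cert_tree lc_d_Cert_tree lc_d_rc_17_2 lc_d_Cert_tree lc_d_Cert_tree lc_d_Cert_tree lc_d_rc_15_1 lc_d_rc_8_1 lc_d_Cert_tree lc_d_rc_15_1 lc_d_rc_17_2 lc_d_Cert_tree lc_d_Cert_tree lc_d_rc_8_1 lc_d_rc_15_1 lc_d_rc_8_3 lc_d_rc_17_2 lc_d_Cert_tree lc_d_rc_15_1 lc_d_rc_17_2 lc_d_Cert_tree lc_d_rc_24_0 lc_d_rc_24_5 lc_d_rc_15_1 lc_d_Cert_tree lc_d_Cert_tree lc_d_Cert_tree lc_d_Cert_tree lc_d_rc_15_1 lc_d_rc_17_2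 lc_d_rc_3_3 lc_d_rc_15_1 lc_d_Cert_tree lc_d_rc_15_1 lc_d_rc_3_1 lc_d_rc_15_1 lc_d_rc_15_1 lc_d_Cert_tree lc_d_rc_17_2 lc_d_rc_16_4) (@D3.rec (fun _ => (Cert rels S Gen.d)) lc_d_rc_16_4 lc_d_Cert_tree lc_d_rc_15_1 lc_d_rc_22_2 lc_d_rc_15_1 lc_d_rc_22_6 lc_d_rc_15_1 lc_d_rc_12_5 lc_d_Cert_tree lc_d_rc_15_1 lc_d_Cert_tree lc_d_rc_16_4 lc_d_rc_8_3 lc_d_rc_15_1 lc_d_rc_23_2 lc_d_Cert_tree lc_d_rc_15_1 lc_d_rc_23_8 lc_d_rc_17_2 lc_d_Cert_tree lc_d_rc_16_2 lc_d_rc_22_4 lc_d_rc_15_1 lc_d_Cert_tree lc_d_Cert_tree lc_d_Cert_tree lc_d_rc_15_1 lc_d_Cert_tree lc_d_Cert_tree lc_d_rc_15_1 lc_d_rc_17_2 lc_d_rc_23_6 lc_d_rc_15_1 lc_d_rc_27_4 lc_d_Cert_tree lc_d_rc_15_1 lc_d_rc_27_8 lc_d_rc_15_1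 lc_d_rc_15_1 lc_d_Cert_tree lc_d_rc_17_2 lc_d_Cert_tree lc_d_rc_15_1 lc_d_rc_15_1 lc_d_Cert_tree lc_d_Cert_tree lc_d_rc_23_2 lc_d_rc_23_2 lc_d_Cert_tree lc_d_rc_15_1 lc_d_rc_17_2 lc_d_rc_16_2 lc_d_rc_17_0 lc_d_rc_15_1 lc_d_Cert_tree lc_d_rc_24_5 lc_d_rc_8_3 lc_d_rc_27_4 lc_d_rc_3_3 lc_d_rc_15_1 lc_d_Cert_tree lc_d_rc_24_5) (@D3.rec (fun _ => (Cert rels S Gen.d)) lc_d_rc_15_1 lc_d_rc_16_4 lc_d_Cert_tree lc_d_rc_15_1 lc_d_rc_3_3 lc_d_Cert_tree lc_d_rc_15_1 lc_d_rc_17_2 lc_d_rc_23_6 lc_d_rc_15_1 lc_d_rc_22_6 lc_d_rc_16_4 lc_d_rc_17_2 lc_d_Cert_tree lc_d_rc_17_2 lc_d_rc_12_1 lc_d_Cert_tree lc_d_Cert_tree lc_d_Cert_tree lc_d_rc_15_1 lc_d_rc_17_2 lc_d_Cert_tree lc_d_Cert_tree lc_d_rc_15_1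 lc_d_rc_17_2 lc_d_Cert_tree lc_d_rc_15_1 lc_d_rc_23_6 lc_d_rc_15_1 lc_d_rc_22_6 lc_d_rc_17_2 lc_d_Cert_tree lc_d_rc_15_1 lc_d_rc_15_1 lc_d_Cert_tree lc_d_rc_15_1 lc_d_Cert_tree lc_d_Cert_tree lc_d_rc_17_2 lc_d_rc_15_1 lc_d_rc_27_4 lc_d_Cert_tree lc_d_rc_15_1 lc_d_Cert_tree lc_d_rc_15_1 lc_d_rc_16_0 lc_d_rc_15_1 lc_d_rc_15_1 lc_d_Cert_tree lc_d_Cert_tree lc_d_rc_16_4 lc_d_rc_15_1 lc_d_rc_17_2 lc_d_rc_15_1 lc_d_Cert_tree lc_d_rc_27_4 lc_d_rc_3_3 lc_d_rc_8_3 lc_d_rc_17_2 lc_d_rc_22_8 lc_d_rc_25_2 lc_d_rc_15_1) (@D3.rec (fun _ => (Cert rels S Gen.d)) lc_d_rc_15_1 lc_d_rc_22_8 lc_d_Cert_tree lc_d_rc_22_8 lc_d_rc_16_2 lc_d_Cert_tree lc_d_Cert_tree lc_d_Cert_tree lc_d_Cert_tree lc_d_rc_15_1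 lc_d_rc_17_2 lc_d_rc_8_3 lc_d_Cert_tree lc_d_Cert_tree lc_d_rc_24_0 lc_d_rc_15_1 lc_d_rc_27_4 lc_d_rc_3_3 lc_d_rc_15_1 lc_d_Cert_tree lc_d_rc_15_1 lc_d_Cert_tree lc_d_rc_17_2 lc_d_rc_15_1 lc_d_rc_15_1 lc_d_rc_23_2 lc_d_rc_16_0 lc_d_Cert_tree lc_d_rc_15_1 lc_d_Cert_tree lc_d_rc_15_1 lc_d_rc_23_4 lc_d_rc_8_3 lc_d_rc_17_2 lc_d_rc_8_3 lc_d_rc_24_0 lc_d_rc_24_5 lc_d_Cert_tree lc_d_rc_15_1 lc_d_rc_23_8 lc_d_rc_15_1 lc_d_rc_27_4 lc_d_rc_15_1 lc_d_rc_16_4 lc_d_Cert_tree lc_d_rc_15_1 lc_d_rc_27_2 lc_d_rc_22_6 lc_d_Cert_tree lc_d_rc_15_1 lc_d_rc_27_8 lc_d_rc_16_0 lc_d_Cert_tree lc_d_rc_15_1 lc_d_rc_24_5 lc_d_Cert_tree lc_d_rc_17_0 lc_d_rc_15_1 lc_d_rc_27_4 lc_d_Cert_tree lc_d_rc_15_1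 lc_d_Cert_tree) (@D3.rec (fun _ => (Cert rels S Gen.d)) lc_d_rc_22_6 lc_d_rc_24_0 lc_d_rc_17_2 lc_d_rc_15_1 lc_d_Cert_tree lc_d_rc_24_5 lc_d_rc_27_2 lc_d_Cert_tree lc_d_rc_15_1 lc_d_rc_27_4 lc_d_rc_15_1 lc_d_rc_15_1 lc_d_rc_27_4 lc_d_rc_16_2 lc_d_Cert_tree lc_d_rc_27_2 lc_d_rc_15_1 lc_d_rc_22_2 lc_d_rc_24_5 lc_d_Cert_tree lc_d_rc_8_3 lc_d_rc_15_1 lc_d_rc_15_1 lc_d_rc_15_1 lc_d_rc_16_4 lc_d_rc_17_2 lc_d_rc_15_1 lc_d_Cert_tree lc_d_rc_3_3 lc_d_rc_8_3 lc_d_rc_27_2 lc_d_rc_23_4 lc_d_rc_15_1 lc_d_Cert_tree lc_d_rc_17_2 lc_d_rc_23_2 lc_d_Cert_tree lc_d_Cert_tree lc_d_rc_3_1 lc_d_rc_16_2 lc_d_Cert_tree lc_d_Cert_tree lc_d_Cert_tree lc_d_rc_15_1 lc_d_rc_17_2 lc_d_rc_15_1 lc_d_rc_15_1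 lc_d_rc_15_1 lc_d_rc_17_2 lc_d_rc_23_6 lc_d_rc_22_8 lc_d_rc_17_2 lc_d_Cert_tree lc_d_Cert_tree lc_d_rc_15_1 lc_d_rc_17_2 lc_d_rc_15_1 lc_d_rc_23_8 lc_d_rc_8_3 lc_d_rc_16_4 lc_d_Cert_tree lc_d_rc_16_4) (@D3.rec (fun _ => (Cert rels S Gen.d)) lc_d_rc_15_1 lc_d_rc_17_2 lc_d_rc_27_10 lc_d_rc_27_10 lc_d_rc_15_1 lc_d_Cert_tree lc_d_Cert_tree lc_d_rc_15_1 lc_d_rc_27_2 lc_d_Cert_tree lc_d_Cert_tree lc_d_Cert_tree lc_d_rc_17_2 lc_d_rc_15_1 lc_d_Cert_tree lc_d_rc_15_1 lc_d_rc_23_6 lc_d_Cert_tree lc_d_rc_24_5 lc_d_rc_16_4 lc_d_Cert_tree lc_d_rc_17_2 lc_d_rc_15_1 lc_d_rc_15_1 lc_d_Cert_tree lc_d_rc_8_1 lc_d_rc_12_13 lc_d_rc_15_1 lc_d_Cert_tree lc_d_rc_8_1 lc_d_rc_15_1 lc_d_rc_15_1 lc_d_Cert_tree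 lc_d_rc_12_15 lc_d_Cert_tree lc_d_Cert_tree lc_d_rc_15_1 lc_d_rc_22_4 lc_d_rc_16_4 lc_d_Cert_tree lc_d_rc_15_1 lc_d_rc_27_4 lc_d_rc_15_1 lc_d_rc_23_2 lc_d_rc_24_0 lc_d_rc_17_2 lc_d_Cert_tree lc_d_rc_15_1 lc_d_Cert_tree lc_d_Cert_tree lc_d_rc_15_1 lc_d_Cert_tree lc_d_rc_15_1 lc_d_Cert_tree lc_d_Cert_tree lc_d_Cert_tree lc_d_rc_17_2 lc_d_rc_15_1 lc_d_Cert_tree lc_d_rc_15_1 lc_d_Cert_tree lc_d_rc_15_1) (@D3.rec (fun _ => (Cert rels S Gen.d)) lc_d_Cert_tree lc_d_Cert_tree lc_d_Cert_tree lc_d_rc_15_1 lc_d_rc_12_15 lc_d_rc_15_1 lc_d_rc_3_3 lc_d_Cert_tree lc_d_rc_15_1 lc_d_rc_22_8 lc_d_rc_23_4 lc_d_Cert_tree lc_d_rc_15_1 lc_d_rc_23_4 lc_d_Cert_tree lc_d_rc_3_3 lc_d_rc_22_8 lc_d_rc_8_3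 lc_d_rc_22_2 lc_d_Cert_tree lc_d_rc_23_2 lc_d_rc_15_1 lc_d_rc_12_9 lc_d_rc_16_0 lc_d_rc_15_1 lc_d_rc_17_0 lc_d_Cert_tree lc_d_rc_8_1 lc_d_rc_15_1 lc_d_Cert_tree lc_d_Cert_tree lc_d_rc_15_1 lc_d_rc_17_2 lc_d_Cert_tree lc_d_rc_15_1 lc_d_Cert_tree lc_d_rc_3_3 lc_d_rc_17_2 lc_d_rc_23_2 lc_d_Cert_tree lc_d_rc_15_1 lc_d_Cert_tree lc_d_rc_16_2 lc_d_rc_23_4 lc_d_Cert_tree lc_d_rc_8_1 lc_d_Cert_tree lc_d_rc_15_1 lc_d_Cert_tree lc_d_Cert_tree lc_d_rc_15_1 lc_d_rc_15_1 lc_d_Cert_tree lc_d_rc_15_1 lc_d_rc_23_2 lc_d_Cert_tree lc_d_rc_15_1 lc_d_Cert_tree lc_d_Cert_tree lc_d_Cert_tree lc_d_Cert_tree lc_d_rc_15_1) (@D3.rec (fun _ => (Cert rels S Gen.d)) lc_d_rc_23_6 lc_d_rc_22_8 lc_d_rc_16_4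 lc_d_rc_15_1 lc_d_rc_3_3 lc_d_rc_15_1 lc_d_rc_8_3 lc_d_rc_15_1 lc_d_Cert_tree lc_d_rc_16_4 lc_d_rc_15_1 lc_d_rc_15_1 lc_d_rc_8_3 lc_d_rc_16_2 lc_d_rc_8_3 lc_d_Cert_tree lc_d_rc_15_1 lc_d_rc_17_2 lc_d_rc_15_1 lc_d_rc_16_4 lc_d_rc_15_1 lc_d_rc_15_1 lc_d_rc_8_1 lc_d_rc_8_3 lc_d_rc_16_4 lc_d_rc_15_1 lc_d_rc_24_5 lc_d_Cert_tree lc_d_rc_15_1 lc_d_Cert_tree lc_d_rc_8_3 lc_d_rc_15_1 lc_d_Cert_tree lc_d_Cert_tree lc_d_rc_15_1 lc_d_rc_17_2 lc_d_rc_17_2 lc_d_rc_15_1 lc_d_rc_15_1 lc_d_rc_23_2 lc_d_rc_8_3 lc_d_rc_16_4 lc_d_rc_8_1 lc_d_rc_15_1 lc_d_rc_15_1 lc_d_rc_24_0 lc_d_rc_17_2 lc_d_rc_15_1 lc_d_rc_15_1 lc_d_Cert_tree lc_d_rc_16_2 lc_d_rc_3_3 lc_d_rc_15_1 lc_d_rc_17_2 lc_d_rc_15_1 lc_d_rc_22_8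 lc_d_rc_23_2 lc_d_rc_24_0 lc_d_rc_16_2 lc_d_rc_15_1 lc_d_rc_22_2 lc_d_Cert_tree) (@D3.rec (fun _ => (Cert rels S Gen.d)) lc_d_rc_22_2 lc_d_rc_15_1 lc_d_Cert_tree lc_d_rc_23_4 lc_d_rc_24_5 lc_d_rc_25_14 lc_d_rc_8_3 lc_d_Cert_tree lc_d_rc_27_2 lc_d_rc_15_1 lc_d_Cert_tree lc_d_Cert_tree lc_d_rc_23_4 lc_d_rc_17_2 lc_d_Cert_tree lc_d_rc_16_4 lc_d_rc_16_4 lc_d_rc_3_1 lc_d_rc_8_1 lc_d_rc_22_4 lc_d_rc_3_3 lc_d_rc_15_1 lc_d_rc_8_1 lc_d_rc_16_4 lc_d_Cert_tree lc_d_rc_27_2 lc_d_rc_15_1 lc_d_rc_17_2 lc_d_rc_15_1 lc_d_rc_16_0 lc_d_rc_15_1 lc_d_rc_16_0 lc_d_rc_17_2 lc_d_rc_16_0 lc_d_rc_23_2 lc_d_rc_27_10 lc_d_rc_15_1 lc_d_rc_27_2 lc_d_rc_15_1 lc_d_rc_27_4 lc_d_rc_16_2 lc_d_rc_3_3 lc_d_rc_15_1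 lc_d_rc_15_1 lc_d_rc_15_1 lc_d_rc_17_2 lc_d_Cert_tree lc_d_rc_15_1 lc_d_Cert_tree lc_d_rc_15_1 lc_d_rc_15_1 lc_d_rc_24_0 lc_d_rc_17_2 lc_d_rc_23_2 lc_d_rc_15_1 lc_d_rc_8_1 lc_d_Cert_tree lc_d_rc_8_3 lc_d_rc_8_3 lc_d_rc_8_3 lc_d_rc_15_1 lc_d_rc_24_0) (@D3.rec (fun _ => (Cert rels S Gen.d)) lc_d_rc_8_3 lc_d_rc_17_2 lc_d_rc_15_1 lc_d_rc_15_1 lc_d_Cert_tree lc_d_Cert_tree lc_d_rc_24_5 lc_d_rc_15_1 lc_d_Cert_tree lc_d_rc_15_1 lc_d_Cert_tree lc_d_rc_16_4 lc_d_Cert_tree lc_d_rc_15_1 lc_d_Cert_tree lc_d_rc_16_4 lc_d_rc_16_0 lc_d_Cert_tree lc_d_Cert_tree lc_d_rc_15_1 lc_d_Cert_tree lc_d_rc_15_1 lc_d_rc_8_1 lc_d_rc_16_4 lc_d_rc_27_10 lc_d_rc_15_1 lc_d_rc_8_3 lc_d_rc_23_4 lc_d_rc_17_0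 lc_d_rc_8_3 lc_d_rc_27_4 lc_d_rc_15_1 lc_d_rc_25_2 lc_d_rc_15_1 lc_d_rc_22_8 lc_d_rc_22_2 lc_d_rc_3_1 lc_d_rc_15_1 lc_d_Cert_tree lc_d_rc_15_1 lc_d_rc_23_4 lc_d_rc_24_0 lc_d_rc_8_3 lc_d_rc_25_10 lc_d_rc_3_3 lc_d_rc_8_3 lc_d_rc_15_1 lc_d_rc_8_3 lc_d_rc_23_8 lc_d_rc_16_2 lc_d_rc_23_4 lc_d_rc_27_4 lc_d_rc_17_2 lc_d_Cert_tree lc_d_Cert_tree lc_d_rc_15_1 lc_d_rc_17_2 lc_d_rc_25_6 lc_d_rc_15_1 lc_d_rc_3_3 lc_d_Cert_tree lc_d_rc_16_0) (@D3.rec (fun _ => (Cert rels S Gen.d)) lc_d_rc_15_1 lc_d_rc_17_2 lc_d_Cert_tree lc_d_rc_16_0 lc_d_rc_15_1 lc_d_rc_24_0 lc_d_rc_22_8 lc_d_rc_24_5 lc_d_rc_3_3 lc_d_rc_15_1 lc_d_rc_27_8 lc_d_rc_3_3 lc_d_rc_16_2 lc_d_rc_23_4 lc_d_rc_17_2 lc_d_rc_23_4 lc_d_rc_15_1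 lc_d_rc_27_4 lc_d_rc_15_1 lc_d_rc_23_4 lc_d_rc_23_4 lc_d_rc_8_1 lc_d_Cert_tree lc_d_Cert_tree lc_d_rc_15_1 lc_d_rc_22_8 lc_d_rc_23_2 lc_d_rc_23_2 lc_d_rc_3_3 lc_d_rc_24_5 lc_d_Cert_tree lc_d_rc_15_1 lc_d_Cert_tree lc_d_Cert_tree lc_d_rc_15_1 lc_d_rc_16_4 lc_d_rc_15_1 lc_d_rc_27_2 lc_d_rc_25_18 lc_d_Cert_tree lc_d_rc_16_4 lc_d_rc_3_1 lc_d_Cert_tree lc_d_Cert_tree lc_d_rc_15_1 lc_d_Cert_tree lc_d_Cert_tree lc_d_Cert_tree lc_d_rc_16_2 lc_d_rc_23_4 lc_d_rc_15_1 lc_d_rc_8_3 lc_d_rc_8_3 lc_d_rc_27_2 lc_d_rc_22_4 lc_d_rc_16_2 lc_d_Cert_tree lc_d_rc_15_1 lc_d_rc_17_2 lc_d_rc_15_1 lc_d_rc_8_1 lc_d_rc_15_1) (@D3.rec (fun _ => (Cert rels S Gen.d)) lc_d_Cert_tree lc_d_Cert_tree lc_d_rc_15_1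 lc_d_Cert_tree lc_d_rc_16_4 lc_d_Cert_tree lc_d_rc_25_2 lc_d_rc_24_0 lc_d_rc_8_3 lc_d_rc_15_1 lc_d_rc_23_4 lc_d_rc_16_4 lc_d_rc_24_0 lc_d_rc_15_1 lc_d_rc_8_1 lc_d_rc_15_1 lc_d_rc_24_0 lc_d_Cert_tree lc_d_rc_27_10 lc_d_rc_17_2 lc_d_rc_3_3 lc_d_Cert_tree lc_d_rc_16_2 lc_d_rc_17_2 lc_d_Cert_tree lc_d_rc_15_1 lc_d_rc_27_4 lc_d_rc_17_2 lc_d_rc_15_1 lc_d_rc_27_8 lc_d_Cert_tree lc_d_Cert_tree lc_d_Cert_tree lc_d_rc_15_1 lc_d_rc_8_3 lc_d_rc_23_6 lc_d_rc_23_6 lc_d_rc_16_4 lc_d_Cert_tree lc_d_rc_23_6 lc_d_rc_15_1 lc_d_Cert_tree lc_d_rc_27_10 lc_d_rc_17_2 lc_d_rc_8_3 lc_d_Cert_tree lc_d_rc_27_4 lc_d_rc_17_2 lc_d_rc_8_3 lc_d_rc_27_8 lc_d_rc_8_3 lc_d_rc_27_4 lc_d_rc_25_10 lc_d_rc_24_0 lc_d_Cert_tree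 lc_d_rc_23_8 lc_d_rc_23_4 lc_d_rc_15_1 lc_d_rc_22_2 lc_d_rc_27_4 lc_d_rc_27_2 lc_d_rc_8_3) (@D3.rec (fun _ => (Cert rels S Gen.d)) lc_d_Cert_tree lc_d_rc_15_1 lc_d_rc_15_1 lc_d_rc_8_3 lc_d_Cert_tree lc_d_Cert_tree lc_d_Cert_tree lc_d_rc_15_1 lc_d_rc_17_2 lc_d_Cert_tree lc_d_Cert_tree lc_d_Cert_tree lc_d_Cert_tree lc_d_Cert_tree lc_d_rc_8_3 lc_d_rc_22_2 lc_d_rc_27_4 lc_d_rc_8_3 lc_d_Cert_tree lc_d_Cert_tree lc_d_rc_15_1 lc_d_rc_17_2 lc_d_Cert_tree lc_d_rc_15_1 lc_d_Cert_tree lc_d_rc_16_4 lc_d_rc_27_10 lc_d_rc_15_1 lc_d_rc_17_2 lc_d_rc_17_2 lc_d_rc_15_1 lc_d_rc_3_1 lc_d_rc_15_1 lc_d_Cert_tree lc_d_Cert_tree lc_d_Cert_tree lc_d_Cert_tree lc_d_rc_15_1 lc_d_rc_17_2 lc_d_Cert_tree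 lc_d_rc_27_4 lc_d_Cert_tree lc_d_rc_25_6 lc_d_rc_23_6 lc_d_rc_3_3 lc_d_Cert_tree lc_d_rc_23_2 lc_d_Cert_tree lc_d_rc_15_1 lc_d_rc_17_2 lc_d_Cert_tree lc_d_rc_24_0 lc_d_rc_3_1 lc_d_Cert_tree lc_d_rc_15_1 lc_d_Cert_tree lc_d_Cert_tree lc_d_rc_15_1 lc_d_rc_23_8 lc_d_Cert_tree lc_d_rc_17_2 lc_d_rc_3_3) (@D3.rec (fun _ => (Cert rels S Gen.d)) lc_d_rc_3_3 lc_d_rc_15_1 lc_d_Cert_tree lc_d_rc_3_3 lc_d_rc_24_5 lc_d_rc_12_15 lc_d_rc_15_1 lc_d_rc_23_4 lc_d_rc_23_6 lc_d_Cert_tree lc_d_rc_16_4 lc_d_rc_17_2 lc_d_rc_8_1 lc_d_rc_15_1 lc_d_Cert_tree lc_d_rc_15_1 lc_d_Cert_tree lc_d_rc_8_3 lc_d_rc_22_2 lc_d_Cert_tree lc_d_Cert_tree lc_d_rc_17_2 lc_d_rc_22_8 lc_d_Cert_tree lc_d_Cert_tree lc_d_rc_15_1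 lc_d_rc_24_0 lc_d_Cert_tree lc_d_rc_27_4 lc_d_Cert_tree lc_d_rc_15_1 lc_d_rc_8_3 lc_d_rc_27_2 lc_d_rc_8_3 lc_d_rc_23_8 lc_d_rc_15_1 lc_d_Cert_tree lc_d_rc_15_1 lc_d_Cert_tree lc_d_rc_27_10 lc_d_rc_23_2 lc_d_rc_15_1 lc_d_rc_16_4 lc_d_Cert_tree lc_d_Cert_tree lc_d_Cert_tree lc_d_rc_8_3 lc_d_rc_22_6 lc_d_rc_27_2 lc_d_rc_15_1 lc_d_rc_23_2 lc_d_rc_15_1 lc_d_rc_8_3 lc_d_rc_3_3 lc_d_rc_24_5 lc_d_rc_8_3 lc_d_rc_16_2 lc_d_rc_24_0 lc_d_rc_15_1 lc_d_rc_15_1 lc_d_rc_8_3 lc_d_rc_8_3) (@D3.rec (fun _ => (Cert rels S Gen.d)) lc_d_rc_15_1 lc_d_rc_23_8 lc_d_Cert_tree lc_d_rc_15_1 lc_d_Cert_tree lc_d_rc_23_2 lc_d_rc_15_1 lc_d_Cert_tree lc_d_Cert_tree lc_d_rc_15_1 lc_d_rc_17_2 lc_d_Cert_tree lc_d_rc_24_5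 lc_d_rc_8_1 lc_d_Cert_tree lc_d_rc_16_2 lc_d_rc_16_4 lc_d_Cert_tree lc_d_rc_8_1 lc_d_rc_15_1 lc_d_rc_8_3 lc_d_rc_8_3 lc_d_Cert_tree lc_d_rc_15_1 lc_d_Cert_tree lc_d_rc_16_2 lc_d_rc_15_1 lc_d_Cert_tree lc_d_rc_15_1 lc_d_rc_16_4 lc_d_Cert_tree lc_d_Cert_tree lc_d_rc_15_1 lc_d_rc_8_3 lc_d_rc_24_5 lc_d_rc_27_2 lc_d_rc_24_5 lc_d_Cert_tree lc_d_Cert_tree lc_d_Cert_tree lc_d_rc_15_1 lc_d_rc_27_4 lc_d_rc_15_1 lc_d_rc_27_10 lc_d_rc_15_1 lc_d_rc_15_1 lc_d_rc_24_0 lc_d_rc_8_1 lc_d_rc_15_1 lc_d_rc_24_5 lc_d_Cert_tree lc_d_rc_15_1 lc_d_rc_22_8 lc_d_rc_8_3 lc_d_rc_15_1 lc_d_rc_8_3 lc_d_rc_23_2 lc_d_rc_3_1 lc_d_rc_15_1 lc_d_rc_16_2 lc_d_rc_15_1 lc_d_rc_27_4) (@D3.rec (fun _ => (Cert rels S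 Gen.d)) lc_d_rc_23_2 lc_d_rc_27_4 lc_d_rc_27_4 lc_d_rc_22_6 lc_d_Cert_tree lc_d_rc_8_1 lc_d_Cert_tree lc_d_rc_16_4 lc_d_Cert_tree lc_d_rc_24_5 lc_d_rc_8_3 lc_d_rc_3_3 lc_d_rc_3_1 lc_d_rc_3_3 lc_d_rc_15_1 lc_d_rc_15_1 lc_d_Cert_tree lc_d_rc_15_1 lc_d_rc_27_4 lc_d_Cert_tree lc_d_rc_15_1 lc_d_Cert_tree lc_d_rc_23_2 lc_d_rc_15_1 lc_d_rc_16_4 lc_d_Cert_tree lc_d_Cert_tree lc_d_rc_15_1 lc_d_rc_24_0 lc_d_rc_15_1 lc_d_Cert_tree lc_d_rc_8_1 lc_d_rc_15_1 lc_d_Cert_tree lc_d_rc_16_4 lc_d_rc_27_10 lc_d_rc_3_3 lc_d_rc_23_8 lc_d_rc_27_2 lc_d_rc_15_1 lc_d_Cert_tree lc_d_rc_16_0 lc_d_rc_27_10 lc_d_rc_25_18 lc_d_rc_24_0 lc_d_rc_15_1 lc_d_rc_8_3 lc_d_rc_27_2 lc_d_rc_8_3 lc_d_rc_27_2 lc_d_rc_15_1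 lc_d_rc_27_8 lc_d_Cert_tree lc_d_rc_22_2 lc_d_rc_15_1 lc_d_Cert_tree lc_d_Cert_tree lc_d_rc_27_10 lc_d_rc_23_2 lc_d_rc_15_1 lc_d_rc_17_2 lc_d_rc_23_4) (@D3.rec (fun _ => (Cert rels S Gen.d)) lc_d_rc_22_2 lc_d_rc_27_2 lc_d_Cert_tree lc_d_rc_16_4 lc_d_rc_15_1 lc_d_rc_27_2 lc_d_rc_8_1 lc_d_rc_15_1 lc_d_Cert_tree lc_d_rc_24_0 lc_d_rc_3_1 lc_d_rc_15_1 lc_d_rc_16_4 lc_d_rc_15_1 lc_d_rc_23_2 lc_d_Cert_tree lc_d_rc_15_1 lc_d_Cert_tree lc_d_Cert_tree lc_d_Cert_tree lc_d_rc_15_1 lc_d_rc_17_2 lc_d_Cert_tree lc_d_rc_16_4 lc_d_rc_16_4 lc_d_Cert_tree lc_d_rc_15_1 lc_d_rc_16_0 lc_d_rc_3_1 lc_d_rc_16_2 lc_d_rc_8_3 lc_d_rc_8_1 lc_d_rc_15_1 lc_d_rc_15_1 lc_d_rc_15_1 lc_d_rc_15_1 lc_d_rc_15_1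 lc_d_rc_16_4 lc_d_rc_16_4 lc_d_rc_15_1 lc_d_rc_24_0 lc_d_rc_16_2 lc_d_rc_16_4 lc_d_rc_16_2 lc_d_rc_15_1 lc_d_rc_24_0 lc_d_Cert_tree lc_d_Cert_tree lc_d_rc_15_1 lc_d_Cert_tree lc_d_rc_15_1 lc_d_rc_3_1 lc_d_rc_27_2 lc_d_rc_15_1 lc_d_rc_8_3 lc_d_rc_17_2 lc_d_rc_16_4 lc_d_rc_17_0 lc_d_rc_16_2 lc_d_rc_16_2 lc_d_rc_8_3 lc_d_rc_23_2) (@D3.rec (fun _ => (Cert rels S Gen.d)) lc_d_rc_23_2 lc_d_rc_15_1 lc_d_rc_16_2 lc_d_rc_16_4 lc_d_rc_8_3 lc_d_rc_15_1 lc_d_rc_16_2 lc_d_rc_3_3 lc_d_rc_15_1 lc_d_rc_16_4 lc_d_rc_17_2 lc_d_rc_15_1 lc_d_rc_27_4 lc_d_Cert_tree lc_d_rc_15_1 lc_d_rc_17_2 lc_d_rc_17_2 lc_d_rc_8_3 lc_d_rc_17_2 lc_d_Cert_tree lc_d_Cert_tree lc_d_rc_15_1 lc_d_rc_16_2 lc_d_rc_15_1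 lc_d_Cert_tree lc_d_rc_15_1 lc_d_rc_27_4 lc_d_rc_27_4 lc_d_rc_8_3 lc_d_rc_24_5 lc_d_rc_16_4 lc_d_rc_27_4 lc_d_rc_27_4 lc_d_rc_15_1 lc_d_rc_16_2 lc_d_rc_22_6 lc_d_rc_22_6 lc_d_rc_23_4 lc_d_rc_15_1 lc_d_rc_15_1 lc_d_rc_16_4 lc_d_rc_15_1 lc_d_rc_23_6 lc_d_rc_15_1 lc_d_rc_22_8 lc_d_Cert_tree lc_d_rc_27_10 lc_d_rc_15_1 lc_d_rc_15_1 lc_d_rc_17_2 lc_d_rc_27_4 lc_d_rc_15_1 lc_d_rc_25_6 lc_d_rc_15_1 lc_d_rc_27_8 lc_d_rc_22_8 lc_d_rc_12_3 lc_d_rc_17_2 lc_d_Cert_tree lc_d_Cert_tree lc_d_rc_15_1 lc_d_rc_15_1) (@D3.rec (fun _ => (Cert rels S Gen.d)) lc_d_rc_15_1 lc_d_Cert_tree lc_d_rc_15_1 lc_d_rc_27_8 lc_d_Cert_tree lc_d_rc_16_2 lc_d_rc_15_1 lc_d_rc_15_1 lc_d_rc_15_1 lc_d_rc_8_1 lc_d_rc_27_4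 lc_d_Cert_tree lc_d_rc_27_4 lc_d_rc_27_2 lc_d_rc_27_10 lc_d_rc_15_1 lc_d_rc_15_1 lc_d_rc_15_1 lc_d_rc_23_8 lc_d_rc_17_2 lc_d_rc_17_2 lc_d_rc_15_1 lc_d_rc_15_1 lc_d_rc_3_3 lc_d_rc_8_3 lc_d_rc_22_8 lc_d_rc_27_10 lc_d_rc_15_1 lc_d_rc_17_2 lc_d_rc_15_1 lc_d_rc_27_4 lc_d_Cert_tree lc_d_rc_15_1 lc_d_rc_27_8 lc_d_rc_24_0 lc_d_rc_15_1 lc_d_rc_22_4 lc_d_rc_17_2 lc_d_Cert_tree lc_d_rc_8_3 lc_d_rc_16_4 lc_d_rc_15_1 lc_d_rc_15_1 lc_d_rc_12_15 lc_d_rc_24_5 lc_d_rc_16_4 lc_d_Cert_tree lc_d_rc_15_1 lc_d_rc_22_4 lc_d_rc_27_10 lc_d_rc_8_3 lc_d_rc_12_1 lc_d_rc_3_3 lc_d_rc_22_2 lc_d_Cert_tree lc_d_rc_15_1 lc_d_rc_23_6 lc_d_rc_23_4 lc_d_rc_16_4 lc_d_rc_8_3 lc_d_Cert_tree lc_d_rc_17_0)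
def ce_d_12 : D2 → D3 → (Cert rels S Gen.d) := @D2.rec (fun _ => D3 → (Cert rels S Gen.d)) (@D3.rec (fun _ => (Cert rels S Gen.d)) lc_d_rc_24_5 lc_d_Cert_tree lc_d_rc_16_4 lc_d_rc_24_5 lc_d_rc_17_2 lc_d_Cert_tree lc_d_Cert_tree lc_d_rc_15_1 lc_d_Cert_tree lc_d_rc_15_1 lc_d_Cert_tree lc_d_rc_15_1 lc_d_rc_15_1 lc_d_Cert_tree lc_d_rc_15_1 lc_d_Cert_tree lc_d_rc_16_4 lc_d_Cert_tree lc_d_Cert_tree lc_d_rc_15_1 lc_d_Cert_tree lc_d_rc_15_1 lc_d_rc_25_18 lc_d_rc_15_1 lc_d_Cert_tree lc_d_Cert_tree lc_d_Cert_tree lc_d_rc_15_1 lc_d_rc_23_6 lc_d_rc_12_7 lc_d_rc_16_4 lc_d_Cert_tree lc_d_rc_8_3 lc_d_rc_24_5 lc_d_Cert_tree lc_d_rc_27_2 lc_d_rc_8_3 lc_d_rc_3_3 lc_d_Cert_tree lc_d_rc_17_2 lc_d_rc_15_1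 lc_d_rc_27_4 lc_d_rc_15_1 lc_d_rc_16_2 lc_d_rc_8_3 lc_d_Cert_tree lc_d_Cert_tree lc_d_Cert_tree lc_d_rc_15_1 lc_d_rc_8_3 lc_d_rc_8_1 lc_d_rc_15_1 lc_d_Cert_tree lc_d_rc_3_3 lc_d_Cert_tree lc_d_rc_15_1 lc_d_rc_8_3 lc_d_rc_23_8 lc_d_rc_15_1 lc_d_rc_16_4 lc_d_rc_15_1 lc_d_Cert_tree) (@D3.rec (fun _ => (Cert rels S Gen.d)) lc_d_rc_8_3 lc_d_rc_24_5 lc_d_rc_24_5 lc_d_Cert_tree lc_d_rc_15_1 lc_d_rc_12_15 lc_d_rc_15_1 lc_d_rc_16_4 lc_d_rc_8_3 lc_d_Cert_tree lc_d_rc_27_2 lc_d_rc_24_5 lc_d_Cert_tree lc_d_Cert_tree lc_d_rc_15_1 lc_d_rc_24_5 lc_d_rc_16_2 lc_d_rc_22_6 lc_d_rc_24_0 lc_d_Cert_tree lc_d_rc_16_2 lc_d_rc_15_1 lc_d_rc_24_5 lc_d_rc_15_1 lc_d_rc_15_1 lc_d_rc_15_1 lc_d_rc_27_10 lc_d_rc_15_1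 lc_d_Cert_tree lc_d_rc_25_14 lc_d_rc_15_1 lc_d_rc_16_4 lc_d_rc_22_2 lc_d_rc_3_3 lc_d_rc_3_3 lc_d_rc_8_3 lc_d_rc_16_4 lc_d_rc_3_1 lc_d_rc_25_2 lc_d_Cert_tree lc_d_Cert_tree lc_d_rc_15_1 lc_d_rc_17_2 lc_d_rc_15_1 lc_d_rc_17_2 lc_d_rc_15_1 lc_d_rc_23_4 lc_d_rc_22_6 lc_d_rc_17_2 lc_d_Cert_tree lc_d_rc_15_1 lc_d_rc_15_1 lc_d_rc_24_5 lc_d_rc_24_5 lc_d_rc_23_8 lc_d_rc_15_1 lc_d_rc_17_0 lc_d_rc_24_0 lc_d_Cert_tree lc_d_Cert_tree lc_d_rc_15_1 lc_d_rc_17_2) (@D3.rec (fun _ => (Cert rels S Gen.d)) lc_d_rc_24_0 lc_d_rc_25_14 lc_d_rc_22_6 lc_d_rc_16_4 lc_d_Cert_tree lc_d_rc_15_1 lc_d_rc_17_2 lc_d_rc_22_8 lc_d_rc_12_9 lc_d_rc_15_1 lc_d_rc_23_6 lc_d_Cert_tree lc_d_rc_15_1 lc_d_Cert_tree lc_d_rc_24_0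 lc_d_rc_15_1 lc_d_rc_22_8 lc_d_rc_15_1 lc_d_Cert_tree lc_d_Cert_tree lc_d_rc_15_1 lc_d_rc_16_4 lc_d_rc_15_1 lc_d_rc_27_4 lc_d_rc_8_1 lc_d_rc_15_1 lc_d_rc_23_2 lc_d_rc_15_1 lc_d_rc_15_1 lc_d_rc_27_4 lc_d_rc_15_1 lc_d_rc_8_3 lc_d_Cert_tree lc_d_Cert_tree lc_d_rc_8_3 lc_d_Cert_tree lc_d_rc_27_4 lc_d_rc_17_2 lc_d_rc_15_1 lc_d_rc_17_2 lc_d_rc_17_0 lc_d_rc_15_1 lc_d_rc_23_4 lc_d_rc_15_1 lc_d_rc_8_1 lc_d_rc_15_1 lc_d_rc_27_4 lc_d_rc_15_1 lc_d_rc_23_2 lc_d_Cert_tree lc_d_rc_17_2 lc_d_rc_15_1 lc_d_rc_27_4 lc_d_rc_24_5 lc_d_rc_15_1 lc_d_rc_15_1 lc_d_Cert_tree lc_d_rc_23_2 lc_d_rc_15_1 lc_d_rc_24_0 lc_d_rc_15_1 lc_d_Cert_tree) (@D3.rec (fun _ => (Cert rels S Gen.d)) lc_d_rc_15_1 lc_d_Cert_tree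 lc_d_Cert_tree lc_d_rc_15_1 lc_d_rc_17_2 lc_d_rc_16_0 lc_d_rc_15_1 lc_d_Cert_tree lc_d_Cert_tree lc_d_rc_15_1 lc_d_Cert_tree lc_d_rc_23_2 lc_d_rc_24_5 lc_d_rc_15_1 lc_d_rc_27_8 lc_d_Cert_tree lc_d_rc_8_3 lc_d_Cert_tree lc_d_Cert_tree lc_d_Cert_tree lc_d_rc_15_1 lc_d_Cert_tree lc_d_rc_15_1 lc_d_rc_8_3 lc_d_rc_8_3 lc_d_Cert_tree lc_d_Cert_tree lc_d_Cert_tree lc_d_Cert_tree lc_d_rc_15_1 lc_d_rc_27_2 lc_d_rc_15_1 lc_d_rc_15_1 lc_d_rc_15_1 lc_d_rc_8_3 lc_d_rc_22_6 lc_d_rc_16_2 lc_d_rc_27_2 lc_d_rc_22_2 lc_d_Cert_tree lc_d_rc_27_2 lc_d_rc_22_6 lc_d_Cert_tree lc_d_Cert_tree lc_d_Cert_tree lc_d_rc_15_1 lc_d_rc_17_2 lc_d_rc_15_1 lc_d_rc_15_1 lc_d_rc_3_3 lc_d_rc_23_8 lc_d_rc_23_2 lc_d_rc_24_5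 lc_d_rc_24_0 lc_d_rc_8_3 lc_d_rc_23_8 lc_d_rc_8_3 lc_d_rc_8_3 lc_d_rc_15_1 lc_d_rc_23_8 lc_d_rc_15_1 lc_d_rc_15_1) (@D3.rec (fun _ => (Cert rels S Gen.d)) lc_d_rc_24_5 lc_d_rc_27_8 lc_d_rc_15_1 lc_d_rc_27_2 lc_d_rc_27_10 lc_d_rc_27_10 lc_d_rc_17_2 lc_d_rc_8_3 lc_d_rc_23_4 lc_d_rc_27_8 lc_d_Cert_tree lc_d_Cert_tree lc_d_rc_22_6 lc_d_rc_8_3 lc_d_rc_23_2 lc_d_rc_3_1 lc_d_rc_16_4 lc_d_Cert_tree lc_d_rc_15_1 lc_d_rc_15_1 lc_d_rc_3_3 lc_d_rc_3_3 lc_d_rc_17_2 lc_d_rc_15_1 lc_d_rc_8_3 lc_d_rc_24_0 lc_d_rc_8_3 lc_d_Cert_tree lc_d_rc_15_1 lc_d_Cert_tree lc_d_rc_15_1 lc_d_rc_15_1 lc_d_rc_15_1 lc_d_rc_16_4 lc_d_rc_8_3 lc_d_rc_15_1 lc_d_Cert_tree lc_d_rc_15_1 lc_d_rc_17_2 lc_d_rc_15_1 lc_d_rc_16_4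 lc_d_rc_15_1 lc_d_rc_8_3 lc_d_Cert_tree lc_d_rc_17_2 lc_d_rc_15_1 lc_d_rc_15_1 lc_d_rc_27_2 lc_d_rc_22_8 lc_d_Cert_tree lc_d_rc_8_3 lc_d_rc_8_3 lc_d_rc_27_2 lc_d_rc_8_3 lc_d_rc_23_6 lc_d_rc_23_4 lc_d_Cert_tree lc_d_rc_15_1 lc_d_rc_23_6 lc_d_rc_15_1 lc_d_Cert_tree lc_d_rc_27_4) (@D3.rec (fun _ => (Cert rels S Gen.d)) lc_d_rc_24_5 lc_d_Cert_tree lc_d_rc_27_4 lc_d_rc_8_3 lc_d_rc_15_1 lc_d_Cert_tree lc_d_rc_24_0 lc_d_rc_15_1 lc_d_rc_16_4 lc_d_rc_15_1 lc_d_rc_3_1 lc_d_rc_8_1 lc_d_rc_23_4 lc_d_rc_16_2 lc_d_rc_23_4 lc_d_rc_16_4 lc_d_rc_23_6 lc_d_rc_23_6 lc_d_rc_8_3 lc_d_rc_17_0 lc_d_Cert_tree lc_d_Cert_tree lc_d_rc_15_1 lc_d_rc_15_1 lc_d_rc_16_2 lc_d_rc_15_1 lc_d_Cert_tree lc_d_rc_15_1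 lc_d_rc_15_1 lc_d_rc_23_8 lc_d_rc_17_2 lc_d_rc_15_1 lc_d_Cert_tree lc_d_rc_16_2 lc_d_rc_15_1 lc_d_rc_15_1 lc_d_Cert_tree lc_d_rc_16_4 lc_d_Cert_tree lc_d_rc_23_4 lc_d_Cert_tree lc_d_Cert_tree lc_d_Cert_tree lc_d_Cert_tree lc_d_rc_15_1 lc_d_rc_23_8 lc_d_rc_16_4 lc_d_rc_27_10 lc_d_rc_25_18 lc_d_rc_3_3 lc_d_rc_16_4 lc_d_rc_16_2 lc_d_Cert_tree lc_d_Cert_tree lc_d_rc_17_2 lc_d_rc_15_1 lc_d_rc_24_5 lc_d_Cert_tree lc_d_rc_15_1 lc_d_rc_27_8 lc_d_rc_15_1 lc_d_rc_15_1) (@D3.rec (fun _ => (Cert rels S Gen.d)) lc_d_Cert_tree lc_d_rc_17_2 lc_d_rc_16_4 lc_d_rc_8_1 lc_d_rc_16_4 lc_d_Cert_tree lc_d_rc_15_1 lc_d_rc_22_4 lc_d_rc_16_4 lc_d_rc_15_1 lc_d_Cert_tree lc_d_rc_15_1 lc_d_rc_17_2 lc_d_rc_27_4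 lc_d_rc_15_1 lc_d_rc_15_1 lc_d_rc_22_2 lc_d_Cert_tree lc_d_rc_3_3 lc_d_Cert_tree lc_d_rc_3_3 lc_d_rc_15_1 lc_d_rc_8_1 lc_d_rc_15_1 lc_d_rc_23_6 lc_d_Cert_tree lc_d_rc_27_2 lc_d_rc_15_1 lc_d_rc_17_2 lc_d_rc_27_4 lc_d_rc_17_2 lc_d_rc_15_1 lc_d_rc_27_8 lc_d_rc_15_1 lc_d_rc_12_1 lc_d_rc_17_2 lc_d_rc_16_2 lc_d_rc_8_1 lc_d_rc_16_4 lc_d_rc_23_6 lc_d_Cert_tree lc_d_rc_15_1 lc_d_rc_22_4 lc_d_rc_16_4 lc_d_rc_15_1 lc_d_rc_15_1 lc_d_rc_16_2 lc_d_rc_15_1 lc_d_rc_16_2 lc_d_rc_16_2 lc_d_rc_8_3 lc_d_Cert_tree lc_d_rc_17_2 lc_d_Cert_tree lc_d_rc_15_1 lc_d_rc_27_4 lc_d_Cert_tree lc_d_rc_15_1 lc_d_rc_3_3 lc_d_rc_22_6 lc_d_rc_16_2 lc_d_Cert_tree) (@D3.rec (fun _ => (Cert rels S Gen.d)) lc_d_rc_23_4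 lc_d_rc_25_10 lc_d_rc_15_1 lc_d_rc_8_1 lc_d_rc_24_5 lc_d_rc_15_1 lc_d_rc_17_2 lc_d_rc_15_1 lc_d_rc_27_8 lc_d_rc_23_6 lc_d_rc_15_1 lc_d_rc_25_2 lc_d_rc_17_2 lc_d_rc_22_2 lc_d_rc_8_3 lc_d_rc_16_4 lc_d_rc_15_1 lc_d_rc_23_4 lc_d_rc_15_1 lc_d_rc_27_4 lc_d_rc_22_8 lc_d_rc_17_2 lc_d_rc_27_4 lc_d_rc_15_1 lc_d_rc_15_1 lc_d_rc_17_2 lc_d_rc_12_3 lc_d_rc_8_3 lc_d_Cert_tree lc_d_Cert_tree lc_d_Cert_tree lc_d_rc_17_2 lc_d_rc_27_2 lc_d_rc_22_4 lc_d_Cert_tree lc_d_Cert_tree lc_d_rc_15_1 lc_d_rc_17_2 lc_d_Cert_tree lc_d_Cert_tree lc_d_rc_15_1 lc_d_rc_27_4 lc_d_rc_23_4 lc_d_Cert_tree lc_d_rc_15_1 lc_d_rc_22_6 lc_d_Cert_tree lc_d_Cert_tree lc_d_rc_17_2 lc_d_rc_15_1 lc_d_rc_27_10 lc_d_rc_3_3 lc_d_rc_27_10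 lc_d_rc_15_1 lc_d_Cert_tree lc_d_rc_16_0 lc_d_Cert_tree lc_d_rc_22_2 lc_d_rc_15_1 lc_d_rc_15_1 lc_d_rc_27_2 lc_d_Cert_tree) (@D3.rec (fun _ => (Cert rels S Gen.d)) lc_d_Cert_tree lc_d_rc_27_2 lc_d_rc_15_1 lc_d_rc_27_8 lc_d_Cert_tree lc_d_rc_23_8 lc_d_rc_15_1 lc_d_rc_22_6 lc_d_Cert_tree lc_d_rc_15_1 lc_d_rc_27_4 lc_d_rc_8_3 lc_d_Cert_tree lc_d_rc_16_4 lc_d_Cert_tree lc_d_Cert_tree lc_d_rc_15_1 lc_d_rc_17_2 lc_d_rc_16_4 lc_d_rc_15_1 lc_d_Cert_tree lc_d_rc_27_2 lc_d_rc_15_1 lc_d_Cert_tree lc_d_rc_15_1 lc_d_rc_17_2 lc_d_rc_15_1 lc_d_rc_15_1 lc_d_rc_16_4 lc_d_Cert_tree lc_d_rc_17_2 lc_d_rc_16_4 lc_d_Cert_tree lc_d_Cert_tree lc_d_Cert_tree lc_d_rc_27_10 lc_d_rc_15_1 lc_d_rc_3_3 lc_d_rc_15_1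 lc_d_rc_15_1 lc_d_rc_17_2 lc_d_rc_23_8 lc_d_rc_15_1 lc_d_Cert_tree lc_d_rc_15_1 lc_d_rc_15_1 lc_d_rc_16_2 lc_d_rc_17_2 lc_d_rc_16_4 lc_d_rc_16_4 lc_d_rc_15_1 lc_d_rc_15_1 lc_d_rc_15_1 lc_d_Cert_tree lc_d_rc_15_1 lc_d_rc_27_2 lc_d_rc_15_1 lc_d_rc_15_1 lc_d_rc_16_2 lc_d_rc_8_3 lc_d_rc_16_0 lc_d_rc_3_3) (@D3.rec (fun _ => (Cert rels S Gen.d)) lc_d_rc_3_3 lc_d_Cert_tree lc_d_rc_15_1 lc_d_rc_15_1 lc_d_rc_17_2 lc_d_rc_16_4 lc_d_Cert_tree lc_d_rc_16_4 lc_d_rc_8_3 lc_d_rc_3_3 lc_d_rc_25_18 lc_d_rc_23_2 lc_d_rc_15_1 lc_d_rc_17_2 lc_d_rc_23_4 lc_d_rc_15_1 lc_d_Cert_tree lc_d_rc_17_2 lc_d_rc_3_3 lc_d_rc_15_1 lc_d_rc_8_3 lc_d_rc_8_1 lc_d_rc_22_4 lc_d_rc_17_2 lc_d_rc_16_4 lc_d_rc_24_5 lc_d_rc_16_4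 lc_d_rc_24_0 lc_d_rc_22_6 lc_d_rc_15_1 lc_d_rc_15_1 lc_d_rc_3_3 lc_d_rc_15_1 lc_d_rc_17_2 lc_d_rc_8_3 lc_d_Cert_tree lc_d_Cert_tree lc_d_rc_15_1 lc_d_rc_17_2 lc_d_rc_15_1 lc_d_rc_15_1 lc_d_rc_23_2 lc_d_rc_17_2 lc_d_rc_16_2 lc_d_rc_8_3 lc_d_rc_23_6 lc_d_rc_22_2 lc_d_rc_15_1 lc_d_rc_27_8 lc_d_rc_27_8 lc_d_rc_16_2 lc_d_rc_16_4 lc_d_rc_15_1 lc_d_rc_16_2 lc_d_rc_8_3 lc_d_rc_8_3 lc_d_rc_16_2 lc_d_rc_23_4 lc_d_rc_22_2 lc_d_rc_15_1 lc_d_rc_23_2 lc_d_rc_15_1) (@D3.rec (fun _ => (Cert rels S Gen.d)) lc_d_rc_16_4 lc_d_rc_12_1 lc_d_Cert_tree lc_d_rc_15_1 lc_d_rc_27_2 lc_d_Cert_tree lc_d_rc_24_0 lc_d_rc_15_1 lc_d_Cert_tree lc_d_rc_16_4 lc_d_rc_8_3 lc_d_Cert_tree lc_d_rc_8_3 lc_d_rc_15_1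 lc_d_rc_8_1 lc_d_Cert_tree lc_d_rc_15_1 lc_d_rc_3_1 lc_d_rc_15_1 lc_d_Cert_tree lc_d_rc_22_4 lc_d_rc_15_1 lc_d_Cert_tree lc_d_rc_25_14 lc_d_rc_22_2 lc_d_rc_15_1 lc_d_rc_24_0 lc_d_rc_15_1 lc_d_rc_22_4 lc_d_Cert_tree lc_d_rc_23_8 lc_d_rc_8_3 lc_d_rc_8_1 lc_d_rc_17_2 lc_d_rc_16_4 lc_d_rc_25_6 lc_d_rc_8_3 lc_d_rc_3_3 lc_d_rc_3_3 lc_d_rc_24_0 lc_d_rc_3_3 lc_d_rc_15_1 lc_d_rc_16_4 lc_d_rc_8_1 lc_d_rc_15_1 lc_d_rc_15_1 lc_d_rc_23_4 lc_d_rc_16_4 lc_d_rc_27_8 lc_d_rc_27_4 lc_d_rc_17_2 lc_d_rc_23_2 lc_d_rc_16_4 lc_d_rc_22_4 lc_d_rc_8_3 lc_d_rc_8_3 lc_d_rc_3_3 lc_d_rc_8_1 lc_d_rc_8_3 lc_d_rc_27_4 lc_d_rc_16_4 lc_d_rc_24_5) (@D3.rec (fun _ => (Cert rels S Gen.d)) lc_d_rc_8_3 lc_d_rc_16_2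 lc_d_rc_24_5 lc_d_rc_16_2 lc_d_rc_15_1 lc_d_rc_15_1 lc_d_rc_23_2 lc_d_Cert_tree lc_d_rc_15_1 lc_d_rc_23_8 lc_d_rc_24_0 lc_d_Cert_tree lc_d_Cert_tree lc_d_Cert_tree lc_d_rc_15_1 lc_d_rc_17_2 lc_d_rc_8_3 lc_d_rc_15_1 lc_d_rc_8_3 lc_d_Cert_tree lc_d_rc_12_1 lc_d_rc_15_1 lc_d_rc_17_2 lc_d_rc_15_1 lc_d_rc_15_1 lc_d_rc_15_1 lc_d_rc_27_4 lc_d_rc_15_1 lc_d_rc_15_1 lc_d_Cert_tree lc_d_rc_17_2 lc_d_rc_23_2 lc_d_rc_23_8 lc_d_rc_16_4 lc_d_rc_15_1 lc_d_Cert_tree lc_d_rc_27_4 lc_d_Cert_tree lc_d_Cert_tree lc_d_Cert_tree lc_d_Cert_tree lc_d_rc_15_1 lc_d_Cert_tree lc_d_rc_15_1 lc_d_rc_27_8 lc_d_Cert_tree lc_d_rc_15_1 lc_d_Cert_tree lc_d_rc_15_1 lc_d_Cert_tree lc_d_rc_15_1 lc_d_rc_23_4 lc_d_Cert_tree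 lc_d_Cert_tree lc_d_rc_15_1 lc_d_rc_12_1 lc_d_rc_23_6 lc_d_rc_16_4 lc_d_rc_15_1 lc_d_rc_22_8 lc_d_rc_8_1 lc_d_rc_15_1) (@D3.rec (fun _ => (Cert rels S Gen.d)) lc_d_rc_27_8 lc_d_rc_15_1 lc_d_rc_16_4 lc_d_rc_8_3 lc_d_rc_17_2 lc_d_rc_8_3 lc_d_rc_27_2 lc_d_rc_25_2 lc_d_rc_8_3 lc_d_rc_8_1 lc_d_rc_8_1 lc_d_rc_23_6 lc_d_rc_17_2 lc_d_rc_8_3 lc_d_Cert_tree lc_d_rc_27_4 lc_d_rc_24_5 lc_d_Cert_tree lc_d_Cert_tree lc_d_Cert_tree lc_d_rc_15_1 lc_d_Cert_tree lc_d_Cert_tree lc_d_Cert_tree lc_d_rc_15_1 lc_d_Cert_tree lc_d_rc_23_4 lc_d_rc_15_1 lc_d_rc_16_2 lc_d_rc_15_1 lc_d_Cert_tree lc_d_Cert_tree lc_d_Cert_tree lc_d_rc_15_1 lc_d_rc_15_1 lc_d_rc_23_8 lc_d_rc_15_1 lc_d_rc_8_3 lc_d_rc_16_2 lc_d_rc_15_1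 lc_d_rc_27_10 lc_d_rc_15_1 lc_d_Cert_tree lc_d_rc_15_1 lc_d_rc_3_1 lc_d_rc_16_4 lc_d_rc_17_2 lc_d_rc_3_3 lc_d_rc_8_3 lc_d_rc_15_1 lc_d_rc_16_4 lc_d_rc_8_3 lc_d_rc_16_4 lc_d_rc_8_3 lc_d_rc_8_3 lc_d_Cert_tree lc_d_rc_12_1 lc_d_rc_15_1 lc_d_rc_17_2 lc_d_rc_8_1 lc_d_rc_15_1 lc_d_rc_15_1) (@D3.rec (fun _ => (Cert rels S Gen.d)) lc_d_rc_22_2 lc_d_rc_27_2 lc_d_rc_15_1 lc_d_rc_8_1 lc_d_rc_22_2 lc_d_rc_27_2 lc_d_Cert_tree lc_d_rc_15_1 lc_d_Cert_tree lc_d_rc_16_4 lc_d_rc_16_4 lc_d_rc_15_1 lc_d_Cert_tree lc_d_rc_15_1 lc_d_rc_12_5 lc_d_rc_17_2 lc_d_rc_8_3 lc_d_Cert_tree lc_d_rc_15_1 lc_d_rc_27_4 lc_d_Cert_tree lc_d_rc_15_1 lc_d_rc_15_1 lc_d_Cert_tree lc_d_Cert_tree lc_d_Cert_tree lc_d_rc_15_1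 lc_d_rc_24_5 lc_d_rc_22_4 lc_d_rc_22_6 lc_d_rc_8_3 lc_d_rc_8_1 lc_d_rc_27_2 lc_d_rc_23_4 lc_d_rc_24_0 lc_d_Cert_tree lc_d_rc_15_1 lc_d_rc_17_2 lc_d_rc_17_2 lc_d_rc_24_5 lc_d_Cert_tree lc_d_rc_24_5 lc_d_Cert_tree lc_d_Cert_tree lc_d_rc_22_2 lc_d_Cert_tree lc_d_rc_15_1 lc_d_rc_12_1 lc_d_rc_22_8 lc_d_rc_22_2 lc_d_Cert_tree lc_d_rc_15_1 lc_d_rc_8_3 lc_d_rc_27_4 lc_d_rc_15_1 lc_d_rc_15_1 lc_d_rc_27_4 lc_d_rc_15_1 lc_d_rc_15_1 lc_d_rc_27_8 lc_d_rc_22_8 lc_d_rc_15_1) (@D3.rec (fun _ => (Cert rels S Gen.d)) lc_d_rc_25_6 lc_d_rc_15_1 lc_d_rc_8_3 lc_d_rc_27_8 lc_d_rc_15_1 lc_d_rc_15_1 lc_d_rc_17_2 lc_d_rc_24_0 lc_d_rc_8_3 lc_d_rc_27_10 lc_d_rc_27_2 lc_d_rc_15_1 lc_d_rc_8_3 lc_d_Cert_tree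 lc_d_rc_15_1 lc_d_rc_27_4 lc_d_Cert_tree lc_d_rc_15_1 lc_d_rc_24_0 lc_d_rc_27_2 lc_d_Cert_tree lc_d_rc_27_4 lc_d_rc_15_1 lc_d_rc_16_0 lc_d_rc_15_1 lc_d_rc_23_2 lc_d_rc_8_3 lc_d_rc_16_2 lc_d_rc_17_2 lc_d_rc_15_1 lc_d_rc_8_3 lc_d_Cert_tree lc_d_rc_15_1 lc_d_rc_15_1 lc_d_rc_23_4 lc_d_rc_15_1 lc_d_rc_15_1 lc_d_rc_15_1 lc_d_rc_22_4 lc_d_rc_15_1 lc_d_Cert_tree lc_d_Cert_tree lc_d_rc_15_1 lc_d_rc_24_5 lc_d_rc_27_2 lc_d_rc_8_3 lc_d_rc_15_1 lc_d_rc_15_1 lc_d_rc_23_4 lc_d_rc_16_0 lc_d_rc_8_3 lc_d_rc_23_6 lc_d_rc_15_1 lc_d_rc_17_2 lc_d_rc_16_2 lc_d_rc_23_8 lc_d_Cert_tree lc_d_rc_3_3 lc_d_Cert_tree lc_d_rc_24_5 lc_d_rc_22_2 lc_d_rc_23_2) (@D3.rec (fun _ => (Cert rels S Gen.d)) lc_d_Cert_tree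 lc_d_Cert_tree lc_d_rc_15_1 lc_d_rc_23_6 lc_d_rc_24_0 lc_d_rc_15_1 lc_d_rc_12_3 lc_d_rc_15_1 lc_d_rc_15_1 lc_d_Cert_tree lc_d_rc_15_1 lc_d_rc_15_1 lc_d_rc_23_8 lc_d_rc_15_1 lc_d_rc_23_6 lc_d_rc_15_1 lc_d_rc_17_2 lc_d_Cert_tree lc_d_rc_22_2 lc_d_rc_15_1 lc_d_rc_16_2 lc_d_rc_8_3 lc_d_rc_24_5 lc_d_rc_3_3 lc_d_rc_27_8 lc_d_rc_23_6 lc_d_rc_17_2 lc_d_Cert_tree lc_d_rc_3_3 lc_d_rc_27_10 lc_d_rc_8_3 lc_d_Cert_tree lc_d_Cert_tree lc_d_rc_8_3 lc_d_rc_15_1 lc_d_rc_8_3 lc_d_rc_27_4 lc_d_rc_8_3 lc_d_rc_15_1 lc_d_rc_15_1 lc_d_rc_8_1 lc_d_rc_15_1 lc_d_Cert_tree lc_d_rc_15_1 lc_d_rc_15_1 lc_d_rc_15_1 lc_d_Cert_tree lc_d_rc_15_1 lc_d_rc_24_5 lc_d_rc_8_3 lc_d_rc_23_2 lc_d_rc_27_2 lc_d_rc_15_1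 lc_d_rc_3_3 lc_d_Cert_tree lc_d_rc_15_1 lc_d_rc_22_4 lc_d_rc_16_4 lc_d_rc_15_1 lc_d_rc_8_3 lc_d_rc_23_8 lc_d_rc_23_8) (@D3.rec (fun _ => (Cert rels S Gen.d)) lc_d_rc_8_3 lc_d_rc_15_1 lc_d_rc_8_3 lc_d_rc_8_3 lc_d_rc_24_0 lc_d_Cert_tree lc_d_rc_24_0 lc_d_rc_15_1 lc_d_rc_23_4 lc_d_rc_15_1 lc_d_rc_16_4 lc_d_rc_23_6 lc_d_rc_15_1 lc_d_rc_27_2 lc_d_rc_15_1 lc_d_rc_12_3 lc_d_rc_22_8 lc_d_rc_16_2 lc_d_Cert_tree lc_d_Cert_tree lc_d_rc_15_1 lc_d_rc_17_2 lc_d_rc_23_6 lc_d_rc_15_1 lc_d_Cert_tree lc_d_rc_15_1 lc_d_Cert_tree lc_d_rc_15_1 lc_d_Cert_tree lc_d_rc_17_2 lc_d_rc_15_1 lc_d_Cert_tree lc_d_rc_27_4 lc_d_Cert_tree lc_d_Cert_tree lc_d_Cert_tree lc_d_Cert_tree lc_d_rc_15_1 lc_d_rc_22_2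 lc_d_rc_15_1 lc_d_Cert_tree lc_d_rc_15_1 lc_d_rc_8_3 lc_d_rc_17_0 lc_d_rc_15_1 lc_d_Cert_tree lc_d_rc_27_8 lc_d_rc_15_1 lc_d_Cert_tree lc_d_rc_17_2 lc_d_rc_15_1 lc_d_rc_15_1 lc_d_rc_8_3 lc_d_rc_23_6 lc_d_Cert_tree lc_d_rc_16_2 lc_d_rc_15_1 lc_d_rc_8_3 lc_d_rc_22_2 lc_d_Cert_tree lc_d_Cert_tree lc_d_Cert_tree) (@D3.rec (fun _ => (Cert rels S Gen.d)) lc_d_rc_15_1 lc_d_rc_15_1 lc_d_rc_3_1 lc_d_rc_23_2 lc_d_rc_15_1 lc_d_rc_15_1 lc_d_rc_17_2 lc_d_rc_15_1 lc_d_rc_15_1 lc_d_Cert_tree lc_d_rc_15_1 lc_d_Cert_tree lc_d_rc_15_1 lc_d_Cert_tree lc_d_rc_15_1 lc_d_Cert_tree lc_d_Cert_tree lc_d_Cert_tree lc_d_rc_15_1 lc_d_rc_8_3 lc_d_rc_22_6 lc_d_rc_17_0 lc_d_rc_15_1 lc_d_Cert_tree lc_d_rc_17_2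 lc_d_rc_24_0 lc_d_rc_27_2 lc_d_rc_15_1 lc_d_rc_27_8 lc_d_rc_15_1 lc_d_rc_23_6 lc_d_rc_17_2 lc_d_Cert_tree lc_d_rc_3_3 lc_d_Cert_tree lc_d_rc_27_2 lc_d_Cert_tree lc_d_Cert_tree lc_d_rc_15_1 lc_d_Cert_tree lc_d_rc_23_4 lc_d_rc_27_10 lc_d_rc_23_2 lc_d_rc_8_1 lc_d_rc_27_4 lc_d_rc_15_1 lc_d_rc_16_4 lc_d_rc_24_0 lc_d_rc_15_1 lc_d_Cert_tree lc_d_Cert_tree lc_d_Cert_tree lc_d_rc_15_1 lc_d_rc_16_4 lc_d_rc_8_1 lc_d_rc_22_2 lc_d_Cert_tree lc_d_rc_15_1 lc_d_Cert_tree lc_d_rc_15_1 lc_d_rc_23_6 lc_d_Cert_tree) (@D3.rec (fun _ => (Cert rels S Gen.d)) lc_d_rc_15_1 lc_d_rc_27_2 lc_d_rc_27_2 lc_d_Cert_tree lc_d_rc_15_1 lc_d_Cert_tree lc_d_Cert_tree lc_d_Cert_tree lc_d_rc_15_1 lc_d_rc_15_1 lc_d_rc_15_1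 lc_d_Cert_tree lc_d_rc_3_3 lc_d_Cert_tree lc_d_Cert_tree lc_d_rc_24_5 lc_d_rc_15_1 lc_d_rc_27_2 lc_d_Cert_tree lc_d_rc_15_1 lc_d_rc_15_1 lc_d_rc_25_6 lc_d_rc_15_1 lc_d_Cert_tree lc_d_rc_16_4 lc_d_rc_15_1 lc_d_rc_22_8 lc_d_rc_15_1 lc_d_rc_8_1 lc_d_rc_23_8 lc_d_rc_17_2 lc_d_rc_3_1 lc_d_Cert_tree lc_d_rc_15_1 lc_d_Cert_tree lc_d_rc_15_1 lc_d_Cert_tree lc_d_rc_27_10 lc_d_rc_17_2 lc_d_rc_15_1 lc_d_Cert_tree lc_d_rc_15_1 lc_d_rc_25_6 lc_d_Cert_tree lc_d_Cert_tree lc_d_rc_15_1 lc_d_rc_22_6 lc_d_rc_16_4 lc_d_rc_24_5 lc_d_rc_16_0 lc_d_Cert_tree lc_d_rc_8_3 lc_d_Cert_tree lc_d_Cert_tree lc_d_rc_3_3 lc_d_rc_15_1 lc_d_rc_16_0 lc_d_rc_8_3 lc_d_rc_22_2 lc_d_Cert_tree lc_d_rc_15_1 lc_d_rc_24_5)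 (@D3.rec (fun _ => (Cert rels S Gen.d)) lc_d_rc_8_3 lc_d_rc_25_18 lc_d_rc_15_1 lc_d_rc_17_2 lc_d_Cert_tree lc_d_rc_15_1 lc_d_rc_8_3 lc_d_Cert_tree lc_d_rc_15_1 lc_d_Cert_tree lc_d_rc_15_1 lc_d_rc_16_4 lc_d_Cert_tree lc_d_Cert_tree lc_d_Cert_tree lc_d_rc_15_1 lc_d_rc_15_1 lc_d_rc_23_6 lc_d_rc_15_1 lc_d_Cert_tree lc_d_rc_25_14 lc_d_rc_8_3 lc_d_rc_15_1 lc_d_rc_24_5 lc_d_rc_24_0 lc_d_rc_15_1 lc_d_rc_27_4 lc_d_rc_15_1 lc_d_rc_24_5 lc_d_Cert_tree lc_d_Cert_tree lc_d_rc_8_3 lc_d_Cert_tree lc_d_rc_23_4 lc_d_Cert_tree lc_d_rc_25_14 lc_d_Cert_tree lc_d_rc_15_1 lc_d_rc_8_3 lc_d_rc_8_3 lc_d_rc_17_0 lc_d_rc_8_3 lc_d_rc_22_6 lc_d_rc_8_3 lc_d_rc_8_3 lc_d_rc_27_2 lc_d_rc_17_2 lc_d_rc_17_2 lc_d_rc_8_3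 lc_d_rc_15_1 lc_d_rc_3_1 lc_d_rc_23_8 lc_d_Cert_tree lc_d_rc_15_1 lc_d_Cert_tree lc_d_rc_3_3 lc_d_Cert_tree lc_d_rc_22_2 lc_d_rc_15_1 lc_d_rc_27_4 lc_d_Cert_tree lc_d_rc_3_1) (@D3.rec (fun _ => (Cert rels S Gen.d)) lc_d_Cert_tree lc_d_rc_22_2 lc_d_rc_24_5 lc_d_Cert_tree lc_d_Cert_tree lc_d_rc_15_1 lc_d_Cert_tree lc_d_rc_15_1 lc_d_rc_8_3 lc_d_rc_3_1 lc_d_rc_27_8 lc_d_Cert_tree lc_d_rc_8_3 lc_d_rc_23_2 lc_d_rc_15_1 lc_d_rc_8_3 lc_d_rc_15_1 lc_d_rc_24_0 lc_d_rc_15_1 lc_d_Cert_tree lc_d_Cert_tree lc_d_rc_23_4 lc_d_rc_23_8 lc_d_rc_22_2 lc_d_rc_27_4 lc_d_rc_23_4 lc_d_rc_24_0 lc_d_Cert_tree lc_d_rc_15_1 lc_d_Cert_tree lc_d_rc_27_2 lc_d_rc_12_1 lc_d_rc_27_4 lc_d_rc_24_0 lc_d_rc_15_1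 lc_d_rc_22_2 lc_d_rc_22_2 lc_d_rc_15_1 lc_d_Cert_tree lc_d_rc_15_1 lc_d_rc_23_2 lc_d_Cert_tree lc_d_rc_16_2 lc_d_rc_23_8 lc_d_Cert_tree lc_d_rc_23_2 lc_d_rc_25_6 lc_d_rc_17_2 lc_d_rc_8_3 lc_d_rc_8_3 lc_d_rc_8_3 lc_d_rc_8_1 lc_d_rc_15_1 lc_d_rc_24_0 lc_d_rc_8_3 lc_d_Cert_tree lc_d_rc_15_1 lc_d_Cert_tree lc_d_rc_15_1 lc_d_rc_8_3 lc_d_rc_23_2 lc_d_rc_8_3) (@D3.rec (fun _ => (Cert rels S Gen.d)) lc_d_rc_23_8 lc_d_rc_23_2 lc_d_Cert_tree lc_d_rc_15_1 lc_d_Cert_tree lc_d_rc_23_6 lc_d_rc_27_4 lc_d_rc_15_1 lc_d_rc_8_3 lc_d_Cert_tree lc_d_rc_27_4 lc_d_rc_24_5 lc_d_Cert_tree lc_d_Cert_tree lc_d_rc_3_3 lc_d_rc_22_2 lc_d_rc_12_1 lc_d_rc_8_3 lc_d_rc_16_4 lc_d_rc_15_1 lc_d_Cert_tree lc_d_rc_15_1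 lc_d_rc_17_2 lc_d_rc_8_3 lc_d_Cert_tree lc_d_rc_23_8 lc_d_rc_23_8 lc_d_Cert_tree lc_d_rc_15_1 lc_d_Cert_tree lc_d_Cert_tree lc_d_Cert_tree lc_d_Cert_tree lc_d_rc_15_1 lc_d_rc_17_2 lc_d_Cert_tree lc_d_rc_15_1 lc_d_Cert_tree lc_d_rc_15_1 lc_d_Cert_tree lc_d_Cert_tree lc_d_rc_24_5 lc_d_Cert_tree lc_d_Cert_tree lc_d_rc_3_3 lc_d_rc_23_4 lc_d_rc_15_1 lc_d_rc_17_0 lc_d_rc_25_18 lc_d_Cert_tree lc_d_rc_16_4 lc_d_rc_8_3 lc_d_rc_17_2 lc_d_rc_17_2 lc_d_rc_15_1 lc_d_rc_27_4 lc_d_rc_15_1 lc_d_rc_16_4 lc_d_rc_16_2 lc_d_rc_15_1 lc_d_Cert_tree lc_d_rc_15_1) (@D3.rec (fun _ => (Cert rels S Gen.d)) lc_d_Cert_tree lc_d_rc_17_2 lc_d_rc_15_1 lc_d_rc_22_4 lc_d_rc_15_1 lc_d_rc_17_2 lc_d_rc_8_3 lc_d_Cert_tree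 lc_d_rc_24_0 lc_d_rc_24_0 lc_d_rc_22_6 lc_d_rc_8_3 lc_d_rc_23_6 lc_d_rc_16_4 lc_d_rc_15_1 lc_d_rc_8_3 lc_d_Cert_tree lc_d_rc_23_2 lc_d_rc_15_1 lc_d_rc_27_4 lc_d_rc_8_3 lc_d_rc_16_4 lc_d_Cert_tree lc_d_Cert_tree lc_d_rc_17_2 lc_d_Cert_tree lc_d_rc_15_1 lc_d_rc_17_0 lc_d_rc_8_1 lc_d_rc_15_1 lc_d_rc_15_1 lc_d_rc_15_1 lc_d_Cert_tree lc_d_rc_16_2 lc_d_rc_17_2 lc_d_rc_27_2 lc_d_Cert_tree lc_d_rc_15_1 lc_d_Cert_tree lc_d_Cert_tree lc_d_Cert_tree lc_d_rc_27_10 lc_d_rc_15_1 lc_d_rc_17_2 lc_d_Cert_tree lc_d_rc_15_1 lc_d_rc_15_1 lc_d_Cert_tree lc_d_Cert_tree lc_d_rc_15_1 lc_d_rc_22_4 lc_d_rc_17_2 lc_d_Cert_tree lc_d_Cert_tree lc_d_Cert_tree lc_d_rc_17_2 lc_d_rc_8_3 lc_d_Cert_tree lc_d_Cert_tree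 lc_d_Cert_tree lc_d_rc_15_1 lc_d_rc_17_2) (@D3.rec (fun _ => (Cert rels S Gen.d)) lc_d_rc_15_1 lc_d_rc_8_3 lc_d_rc_27_2 lc_d_Cert_tree lc_d_rc_23_4 lc_d_Cert_tree lc_d_Cert_tree lc_d_rc_15_1 lc_d_rc_17_2 lc_d_Cert_tree lc_d_rc_8_3 lc_d_rc_3_3 lc_d_Cert_tree lc_d_Cert_tree lc_d_Cert_tree lc_d_rc_17_2 lc_d_rc_8_1 lc_d_rc_24_5 lc_d_Cert_tree lc_d_Cert_tree lc_d_rc_15_1 lc_d_rc_27_2 lc_d_Cert_tree lc_d_rc_15_1 lc_d_rc_24_5 lc_d_rc_15_1 lc_d_Cert_tree lc_d_Cert_tree lc_d_Cert_tree lc_d_rc_15_1 lc_d_rc_17_2 lc_d_Cert_tree lc_d_rc_3_3 lc_d_Cert_tree lc_d_rc_17_2 lc_d_Cert_tree lc_d_rc_15_1 lc_d_rc_15_1 lc_d_rc_22_2 lc_d_rc_23_2 lc_d_rc_24_5 lc_d_rc_15_1 lc_d_rc_15_1 lc_d_rc_24_5 lc_d_rc_27_8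 lc_d_rc_15_1 lc_d_rc_15_1 lc_d_rc_16_4 lc_d_rc_3_3 lc_d_rc_23_4 lc_d_Cert_tree lc_d_rc_23_2 lc_d_rc_15_1 lc_d_rc_17_2 lc_d_rc_22_2 lc_d_rc_22_8 lc_d_rc_8_3 lc_d_rc_25_2 lc_d_rc_22_6 lc_d_rc_3_3 lc_d_rc_22_4 lc_d_rc_3_3) (@D3.rec (fun _ => (Cert rels S Gen.d)) lc_d_rc_3_3 lc_d_rc_8_3 lc_d_rc_3_3 lc_d_rc_15_1 lc_d_rc_23_4 lc_d_rc_3_3 lc_d_rc_22_6 lc_d_rc_8_3 lc_d_rc_3_3 lc_d_rc_15_1 lc_d_rc_24_5 lc_d_rc_15_1 lc_d_rc_24_5 lc_d_rc_15_1 lc_d_rc_22_2 lc_d_rc_27_10 lc_d_Cert_tree lc_d_rc_8_3 lc_d_rc_8_3 lc_d_rc_15_1 lc_d_rc_15_1 lc_d_rc_15_1 lc_d_rc_3_3 lc_d_rc_8_3 lc_d_rc_22_2 lc_d_rc_8_3 lc_d_rc_22_8 lc_d_rc_17_2 lc_d_rc_3_3 lc_d_rc_3_3 lc_d_rc_17_2 lc_d_rc_27_10 lc_d_rc_24_0 lc_d_rc_27_4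 lc_d_rc_8_3 lc_d_rc_8_1 lc_d_rc_3_3 lc_d_rc_15_1 lc_d_rc_3_3 lc_d_Cert_tree lc_d_Cert_tree lc_d_rc_24_5 lc_d_rc_15_1 lc_d_rc_27_4 lc_d_Cert_tree lc_d_rc_8_3 lc_d_rc_15_1 lc_d_rc_15_1 lc_d_rc_15_1 lc_d_rc_8_3 lc_d_Cert_tree lc_d_Cert_tree lc_d_rc_15_1 lc_d_rc_23_6 lc_d_rc_22_6 lc_d_Cert_tree lc_d_Cert_tree lc_d_rc_8_1 lc_d_rc_16_4 lc_d_rc_16_4 lc_d_rc_15_1 lc_d_rc_15_1) (@D3.rec (fun _ => (Cert rels S Gen.d)) lc_d_rc_16_2 lc_d_rc_24_0 lc_d_rc_15_1 lc_d_rc_15_1 lc_d_rc_15_1 lc_d_rc_15_1 lc_d_Cert_tree lc_d_rc_8_1 lc_d_rc_27_2 lc_d_Cert_tree lc_d_rc_15_1 lc_d_Cert_tree lc_d_rc_15_1 lc_d_rc_8_3 lc_d_rc_8_3 lc_d_rc_23_4 lc_d_Cert_tree lc_d_rc_3_1 lc_d_rc_15_1 lc_d_rc_17_2 lc_d_rc_15_1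 lc_d_Cert_tree lc_d_Cert_tree lc_d_rc_15_1 lc_d_Cert_tree lc_d_rc_15_1 lc_d_rc_23_4 lc_d_rc_15_1 lc_d_Cert_tree lc_d_rc_16_4 lc_d_rc_24_5 lc_d_rc_24_5 lc_d_rc_27_2 lc_d_rc_22_6 lc_d_rc_15_1 lc_d_rc_15_1 lc_d_rc_27_2 lc_d_rc_8_3 lc_d_rc_15_1 lc_d_Cert_tree lc_d_Cert_tree lc_d_rc_27_10 lc_d_rc_27_4 lc_d_rc_15_1 lc_d_rc_8_3 lc_d_rc_15_1 lc_d_rc_15_1 lc_d_rc_3_1 lc_d_rc_15_1 lc_d_rc_15_1 lc_d_Cert_tree lc_d_rc_15_1 lc_d_rc_27_4 lc_d_Cert_tree lc_d_rc_15_1 lc_d_rc_8_3 lc_d_rc_25_6 lc_d_rc_3_3 lc_d_rc_16_4 lc_d_rc_3_3 lc_d_rc_22_4 lc_d_rc_24_0) (@D3.rec (fun _ => (Cert rels S Gen.d)) lc_d_rc_3_1 lc_d_rc_15_1 lc_d_rc_8_3 lc_d_rc_16_2 lc_d_Cert_tree lc_d_rc_3_3 lc_d_Cert_tree lc_d_Cert_tree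 lc_d_rc_17_2 lc_d_Cert_tree lc_d_rc_8_3 lc_d_Cert_tree lc_d_rc_23_2 lc_d_Cert_tree lc_d_rc_24_5 lc_d_rc_15_1 lc_d_Cert_tree lc_d_rc_17_2 lc_d_Cert_tree lc_d_rc_15_1 lc_d_Cert_tree lc_d_rc_15_1 lc_d_rc_23_6 lc_d_rc_27_4 lc_d_rc_22_6 lc_d_rc_17_2 lc_d_rc_15_1 lc_d_rc_8_3 lc_d_rc_22_4 lc_d_rc_27_8 lc_d_rc_8_3 lc_d_Cert_tree lc_d_rc_15_1 lc_d_rc_17_2 lc_d_rc_8_3 lc_d_rc_17_2 lc_d_rc_23_6 lc_d_rc_15_1 lc_d_rc_8_3 lc_d_rc_25_6 lc_d_Cert_tree lc_d_rc_16_0 lc_d_rc_15_1 lc_d_rc_22_6 lc_d_rc_17_0 lc_d_rc_15_1 lc_d_rc_23_2 lc_d_Cert_tree lc_d_rc_15_1 lc_d_rc_24_5 lc_d_Cert_tree lc_d_rc_27_4 lc_d_rc_15_1 lc_d_Cert_tree lc_d_Cert_tree lc_d_rc_3_1 lc_d_rc_25_6 lc_d_rc_15_1 lc_d_rc_15_1 lc_d_rc_8_1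 lc_d_rc_17_2 lc_d_rc_8_3) (@D3.rec (fun _ => (Cert rels S Gen.d)) lc_d_Cert_tree lc_d_rc_15_1 lc_d_Cert_tree lc_d_rc_15_1 lc_d_Cert_tree lc_d_rc_22_4 lc_d_rc_17_2 lc_d_rc_15_1 lc_d_Cert_tree lc_d_Cert_tree lc_d_rc_15_1 lc_d_Cert_tree lc_d_Cert_tree lc_d_Cert_tree lc_d_rc_15_1 lc_d_rc_15_1 lc_d_rc_24_5 lc_d_Cert_tree lc_d_rc_8_3 lc_d_rc_24_0 lc_d_rc_3_3 lc_d_Cert_tree lc_d_rc_3_3 lc_d_Cert_tree lc_d_rc_8_3 lc_d_rc_15_1 lc_d_rc_15_1 lc_d_rc_23_4 lc_d_rc_8_1 lc_d_rc_3_3 lc_d_rc_23_2 lc_d_rc_15_1 lc_d_rc_15_1 lc_d_rc_17_2 lc_d_rc_3_3 lc_d_rc_24_5 lc_d_rc_15_1 lc_d_rc_8_3 lc_d_rc_8_3 lc_d_rc_8_1 lc_d_rc_15_1 lc_d_rc_15_1 lc_d_rc_27_2 lc_d_rc_8_1 lc_d_rc_15_1 lc_d_rc_27_4 lc_d_rc_8_3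 lc_d_Cert_tree lc_d_rc_8_3 lc_d_rc_27_4 lc_d_rc_15_1 lc_d_rc_23_2 lc_d_rc_27_4 lc_d_rc_17_2 lc_d_rc_15_1 lc_d_rc_27_2 lc_d_rc_27_4 lc_d_rc_15_1 lc_d_rc_27_8 lc_d_rc_27_4 lc_d_rc_27_8 lc_d_rc_3_3) (@D3.rec (fun _ => (Cert rels S Gen.d)) lc_d_rc_15_1 lc_d_rc_15_1 lc_d_rc_27_4 lc_d_Cert_tree lc_d_rc_27_8 lc_d_rc_24_5 lc_d_rc_15_1 lc_d_rc_24_5 lc_d_Cert_tree lc_d_rc_15_1 lc_d_rc_27_8 lc_d_rc_15_1 lc_d_rc_24_0 lc_d_rc_24_5 lc_d_rc_17_2 lc_d_rc_27_2 lc_d_rc_3_3 lc_d_rc_16_4 lc_d_rc_3_3 lc_d_rc_8_3 lc_d_rc_15_1 lc_d_rc_15_1 lc_d_rc_16_4 lc_d_rc_27_4 lc_d_rc_15_1 lc_d_rc_17_2 lc_d_rc_23_2 lc_d_rc_22_6 lc_d_Cert_tree lc_d_Cert_tree lc_d_rc_15_1 lc_d_rc_8_3 lc_d_rc_15_1 lc_d_rc_15_1 lc_d_rc_27_4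 lc_d_rc_15_1 lc_d_rc_27_4 lc_d_rc_15_1 lc_d_rc_16_4 lc_d_rc_27_8 lc_d_rc_22_2 lc_d_rc_8_3 lc_d_rc_15_1 lc_d_rc_27_4 lc_d_rc_15_1 lc_d_rc_24_0 lc_d_rc_23_4 lc_d_rc_8_3 lc_d_rc_15_1 lc_d_rc_23_6 lc_d_rc_16_4 lc_d_rc_15_1 lc_d_rc_24_0 lc_d_rc_27_10 lc_d_rc_8_3 lc_d_rc_22_4 lc_d_rc_23_6 lc_d_rc_15_1 lc_d_rc_15_1 lc_d_rc_17_2 lc_d_rc_17_2 lc_d_rc_15_1) (@D3.rec (fun _ => (Cert rels S Gen.d)) lc_d_rc_27_4 lc_d_Cert_tree lc_d_rc_15_1 lc_d_rc_22_2 lc_d_rc_17_2 lc_d_rc_8_3 lc_d_rc_17_2 lc_d_rc_25_6 lc_d_rc_15_1 lc_d_Cert_tree lc_d_rc_15_1 lc_d_rc_15_1 lc_d_rc_15_1 lc_d_rc_15_1 lc_d_rc_15_1 lc_d_rc_15_1 lc_d_Cert_tree lc_d_rc_15_1 lc_d_rc_27_8 lc_d_rc_3_3 lc_d_Cert_tree lc_d_rc_17_2 lc_d_rc_23_2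 lc_d_rc_27_10 lc_d_rc_27_8 lc_d_rc_15_1 lc_d_rc_8_3 lc_d_rc_27_4 lc_d_rc_8_1 lc_d_rc_27_2 lc_d_Cert_tree lc_d_rc_15_1 lc_d_rc_27_4 lc_d_rc_23_6 lc_d_rc_22_2 lc_d_rc_23_2 lc_d_Cert_tree lc_d_rc_17_2 lc_d_rc_15_1 lc_d_rc_17_2 lc_d_rc_15_1 lc_d_Cert_tree lc_d_rc_27_2 lc_d_rc_15_1 lc_d_rc_27_4 lc_d_Cert_tree lc_d_rc_23_8 lc_d_rc_17_2 lc_d_rc_23_2 lc_d_rc_15_1 lc_d_rc_12_11 lc_d_rc_15_1 lc_d_rc_15_1 lc_d_rc_27_2 lc_d_rc_8_3 lc_d_rc_27_10 lc_d_rc_15_1 lc_d_Cert_tree lc_d_rc_16_2 lc_d_Cert_tree lc_d_rc_23_2 lc_d_rc_15_1) (@D3.rec (fun _ => (Cert rels S Gen.d)) lc_d_rc_15_1 lc_d_rc_15_1 lc_d_rc_17_2 lc_d_rc_15_1 lc_d_rc_27_8 lc_d_rc_15_1 lc_d_rc_16_4 lc_d_Cert_tree lc_d_rc_27_10 lc_d_rc_15_1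 lc_d_rc_17_2 lc_d_rc_15_1 lc_d_rc_8_3 lc_d_rc_8_1 lc_d_rc_16_0 lc_d_rc_8_3 lc_d_rc_27_8 lc_d_rc_8_3 lc_d_rc_25_2 lc_d_rc_8_3 lc_d_rc_27_4 lc_d_rc_15_1 lc_d_rc_15_1 lc_d_rc_23_2 lc_d_Cert_tree lc_d_Cert_tree lc_d_Cert_tree lc_d_rc_15_1 lc_d_rc_8_3 lc_d_rc_16_2 lc_d_rc_27_8 lc_d_Cert_tree lc_d_rc_17_2 lc_d_rc_15_1 lc_d_rc_17_2 lc_d_rc_3_1 lc_d_Cert_tree lc_d_rc_15_1 lc_d_rc_17_2 lc_d_rc_8_3 lc_d_Cert_tree lc_d_rc_15_1 lc_d_Cert_tree lc_d_rc_15_1 lc_d_rc_27_10 lc_d_rc_27_2 lc_d_rc_15_1 lc_d_rc_23_6 lc_d_rc_15_1 lc_d_rc_22_6 lc_d_rc_15_1 lc_d_rc_15_1 lc_d_rc_17_0 lc_d_Cert_tree lc_d_rc_8_3 lc_d_rc_3_3 lc_d_rc_15_1 lc_d_rc_8_3 lc_d_rc_27_10 lc_d_rc_16_0 lc_d_rc_15_1 lc_d_rc_8_3)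 (@D3.rec (fun _ => (Cert rels S Gen.d)) lc_d_rc_15_1 lc_d_rc_17_0 lc_d_rc_27_4 lc_d_rc_15_1 lc_d_rc_15_1 lc_d_rc_15_1 lc_d_rc_27_4 lc_d_rc_8_3 lc_d_rc_27_10 lc_d_rc_15_1 lc_d_rc_8_3 lc_d_rc_23_4 lc_d_rc_17_2 lc_d_rc_8_3 lc_d_rc_27_4 lc_d_rc_8_3 lc_d_rc_15_1 lc_d_rc_3_3 lc_d_rc_27_4 lc_d_rc_8_3 lc_d_rc_27_8 lc_d_rc_22_6 lc_d_Cert_tree lc_d_rc_15_1 lc_d_rc_17_2 lc_d_rc_8_3 lc_d_rc_15_1 lc_d_rc_17_2 lc_d_rc_17_0 lc_d_rc_8_3 lc_d_rc_15_1 lc_d_rc_27_8 lc_d_rc_8_3 lc_d_rc_8_3 lc_d_Cert_tree lc_d_rc_24_0 lc_d_rc_23_2 lc_d_rc_15_1 lc_d_rc_15_1 lc_d_rc_23_6 lc_d_rc_27_2 lc_d_rc_15_1 lc_d_rc_23_4 lc_d_rc_8_1 lc_d_rc_15_1 lc_d_rc_22_4 lc_d_rc_8_1 lc_d_rc_15_1 lc_d_rc_15_1 lc_d_Cert_tree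 lc_d_Cert_tree lc_d_rc_15_1 lc_d_rc_27_4 lc_d_rc_27_8 lc_d_Cert_tree lc_d_rc_15_1 lc_d_rc_27_4 lc_d_rc_24_0 lc_d_Cert_tree lc_d_rc_17_2 lc_d_rc_8_3 lc_d_rc_15_1) (@D3.rec (fun _ => (Cert rels S Gen.d)) lc_d_rc_15_1 lc_d_Cert_tree lc_d_Cert_tree lc_d_Cert_tree lc_d_rc_15_1 lc_d_rc_15_1 lc_d_Cert_tree lc_d_rc_8_3 lc_d_rc_15_1 lc_d_rc_15_1 lc_d_rc_22_6 lc_d_Cert_tree lc_d_rc_15_1 lc_d_rc_22_2 lc_d_rc_16_2 lc_d_Cert_tree lc_d_rc_15_1 lc_d_Cert_tree lc_d_rc_23_4 lc_d_rc_22_4 lc_d_rc_3_3 lc_d_rc_15_1 lc_d_Cert_tree lc_d_rc_15_1 lc_d_rc_23_4 lc_d_rc_27_2 lc_d_rc_16_2 lc_d_rc_15_1 lc_d_rc_27_4 lc_d_rc_15_1 lc_d_Cert_tree lc_d_Cert_tree lc_d_rc_15_1 lc_d_rc_15_1 lc_d_rc_15_1 lc_d_Cert_tree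 lc_d_rc_16_2 lc_d_rc_27_8 lc_d_rc_27_2 lc_d_rc_15_1 lc_d_rc_15_1 lc_d_rc_27_8 lc_d_rc_27_10 lc_d_rc_15_1 lc_d_rc_27_8 lc_d_rc_27_2 lc_d_rc_15_1 lc_d_rc_23_6 lc_d_rc_15_1 lc_d_rc_25_2 lc_d_rc_15_1 lc_d_rc_15_1 lc_d_rc_27_2 lc_d_rc_8_1 lc_d_rc_15_1 lc_d_rc_23_2 lc_d_rc_15_1 lc_d_Cert_tree lc_d_rc_15_1 lc_d_rc_12_1 lc_d_rc_3_3 lc_d_rc_12_5) (@D3.rec (fun _ => (Cert rels S Gen.d)) lc_d_rc_15_1 lc_d_rc_8_1 lc_d_Cert_tree lc_d_rc_15_1 lc_d_Cert_tree lc_d_Cert_tree lc_d_rc_15_1 lc_d_rc_8_3 lc_d_Cert_tree lc_d_rc_8_3 lc_d_Cert_tree lc_d_rc_15_1 lc_d_rc_27_2 lc_d_rc_27_4 lc_d_rc_23_4 lc_d_Cert_tree lc_d_rc_22_8 lc_d_rc_16_4 lc_d_rc_15_1 lc_d_Cert_tree lc_d_rc_15_1 lc_d_rc_15_1 lc_d_Cert_tree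 lc_d_rc_15_1 lc_d_Cert_tree lc_d_Cert_tree lc_d_rc_15_1 lc_d_Cert_tree lc_d_Cert_tree lc_d_Cert_tree lc_d_rc_15_1 lc_d_rc_23_6 lc_d_rc_23_4 lc_d_rc_23_8 lc_d_Cert_tree lc_d_rc_15_1 lc_d_Cert_tree lc_d_rc_16_4 lc_d_rc_16_0 lc_d_rc_23_8 lc_d_rc_25_6 lc_d_rc_23_4 lc_d_rc_24_5 lc_d_Cert_tree lc_d_rc_15_1 lc_d_Cert_tree lc_d_rc_15_1 lc_d_rc_23_8 lc_d_Cert_tree lc_d_rc_15_1 lc_d_rc_22_2 lc_d_rc_23_4 lc_d_rc_8_3 lc_d_rc_15_1 lc_d_rc_16_2 lc_d_rc_8_3 lc_d_Cert_tree lc_d_rc_27_10 lc_d_rc_17_2 lc_d_rc_15_1 lc_d_Cert_tree lc_d_rc_15_1) (@D3.rec (fun _ => (Cert rels S Gen.d)) lc_d_rc_15_1 lc_d_rc_3_3 lc_d_Cert_tree lc_d_Cert_tree lc_d_rc_8_3 lc_d_rc_16_4 lc_d_rc_15_1 lc_d_rc_27_2 lc_d_Cert_tree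 lc_d_rc_15_1 lc_d_Cert_tree lc_d_rc_15_1 lc_d_rc_16_2 lc_d_rc_15_1 lc_d_rc_17_2 lc_d_rc_16_2 lc_d_rc_17_2 lc_d_rc_15_1 lc_d_Cert_tree lc_d_Cert_tree lc_d_Cert_tree lc_d_rc_15_1 lc_d_rc_17_2 lc_d_rc_23_4 lc_d_rc_17_2 lc_d_Cert_tree lc_d_rc_15_1 lc_d_rc_15_1 lc_d_rc_23_2 lc_d_rc_3_3 lc_d_Cert_tree lc_d_rc_15_1 lc_d_rc_17_2 lc_d_rc_8_3 lc_d_rc_16_0 lc_d_Cert_tree lc_d_rc_15_1 lc_d_rc_22_6 lc_d_rc_16_2 lc_d_rc_16_4 lc_d_rc_27_4 lc_d_rc_27_2 lc_d_rc_8_3 lc_d_rc_3_3 lc_d_Cert_tree lc_d_rc_16_4 lc_d_rc_15_1 lc_d_rc_17_2 lc_d_rc_22_6 lc_d_rc_27_2 lc_d_rc_16_4 lc_d_rc_24_5 lc_d_Cert_tree lc_d_Cert_tree lc_d_Cert_tree lc_d_Cert_tree lc_d_rc_15_1 lc_d_rc_22_6 lc_d_rc_16_0 lc_d_rc_15_1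 lc_d_rc_27_8 lc_d_rc_15_1) (@D3.rec (fun _ => (Cert rels S Gen.d)) lc_d_rc_8_3 lc_d_Cert_tree lc_d_rc_22_4 lc_d_rc_15_1 lc_d_Cert_tree lc_d_rc_15_1 lc_d_rc_17_2 lc_d_rc_22_8 lc_d_rc_23_4 lc_d_rc_3_3 lc_d_rc_17_2 lc_d_rc_8_3 lc_d_rc_16_4 lc_d_rc_22_6 lc_d_rc_27_8 lc_d_rc_3_3 lc_d_Cert_tree lc_d_rc_15_1 lc_d_rc_23_2 lc_d_rc_8_3 lc_d_rc_8_3 lc_d_rc_16_4 lc_d_rc_15_1 lc_d_rc_17_2 lc_d_rc_16_0 lc_d_Cert_tree lc_d_rc_15_1 lc_d_rc_17_2 lc_d_rc_15_1 lc_d_rc_22_2 lc_d_rc_23_6 lc_d_rc_15_1 lc_d_Cert_tree lc_d_rc_23_6 lc_d_rc_15_1 lc_d_rc_22_8 lc_d_rc_17_2 lc_d_rc_15_1 lc_d_rc_15_1 lc_d_rc_16_2 lc_d_rc_23_2 lc_d_rc_8_3 lc_d_rc_23_2 lc_d_rc_25_2 lc_d_rc_15_1 lc_d_rc_16_2 lc_d_rc_15_1 lc_d_rc_8_3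 lc_d_rc_23_4 lc_d_rc_16_4 lc_d_rc_23_4 lc_d_rc_12_7 lc_d_rc_23_6 lc_d_rc_16_4 lc_d_rc_15_1 lc_d_Cert_tree lc_d_rc_8_3 lc_d_rc_15_1 lc_d_rc_15_1 lc_d_rc_17_2 lc_d_rc_16_2 lc_d_rc_15_1) (@D3.rec (fun _ => (Cert rels S Gen.d)) lc_d_rc_8_3 lc_d_rc_24_5 lc_d_rc_22_6 lc_d_rc_15_1 lc_d_rc_24_0 lc_d_rc_16_2 lc_d_rc_3_1 lc_d_rc_17_2 lc_d_rc_16_2 lc_d_rc_8_3 lc_d_Cert_tree lc_d_Cert_tree lc_d_Cert_tree lc_d_rc_23_4 lc_d_Cert_tree lc_d_rc_17_2 lc_d_rc_16_4 lc_d_rc_15_1 lc_d_rc_27_10 lc_d_rc_25_18 lc_d_rc_25_6 lc_d_rc_15_1 lc_d_Cert_tree lc_d_rc_15_1 lc_d_Cert_tree lc_d_rc_15_1 lc_d_rc_17_2 lc_d_rc_15_1 lc_d_rc_23_2 lc_d_rc_24_5 lc_d_rc_8_3 lc_d_rc_25_18 lc_d_rc_27_2 lc_d_Cert_tree lc_d_Cert_tree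 lc_d_rc_8_3 lc_d_rc_15_1 lc_d_rc_27_4 lc_d_rc_15_1 lc_d_rc_24_0 lc_d_rc_16_4 lc_d_rc_15_1 lc_d_rc_15_1 lc_d_rc_15_1 lc_d_Cert_tree lc_d_rc_17_2 lc_d_Cert_tree lc_d_rc_15_1 lc_d_rc_22_2 lc_d_rc_23_2 lc_d_Cert_tree lc_d_rc_15_1 lc_d_rc_25_18 lc_d_rc_23_2 lc_d_Cert_tree lc_d_rc_8_3 lc_d_rc_15_1 lc_d_rc_17_2 lc_d_rc_15_1 lc_d_rc_17_2 lc_d_Cert_tree lc_d_rc_15_1) (@D3.rec (fun _ => (Cert rels S Gen.d)) lc_d_rc_15_1 lc_d_Cert_tree lc_d_Cert_tree lc_d_rc_17_2 lc_d_Cert_tree lc_d_Cert_tree lc_d_Cert_tree lc_d_rc_8_1 lc_d_rc_15_1 lc_d_rc_17_2 lc_d_rc_23_6 lc_d_rc_23_6 lc_d_Cert_tree lc_d_rc_24_5 lc_d_Cert_tree lc_d_rc_8_3 lc_d_Cert_tree lc_d_Cert_tree lc_d_rc_22_4 lc_d_rc_15_1 lc_d_rc_17_2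 lc_d_rc_15_1 lc_d_rc_15_1 lc_d_rc_17_2 lc_d_rc_23_6 lc_d_rc_22_8 lc_d_Cert_tree lc_d_rc_16_4 lc_d_rc_15_1 lc_d_rc_24_5 lc_d_rc_8_3 lc_d_rc_15_1 lc_d_rc_17_2 lc_d_rc_22_8 lc_d_rc_3_1 lc_d_Cert_tree lc_d_rc_15_1 lc_d_Cert_tree lc_d_Cert_tree lc_d_rc_15_1 lc_d_rc_15_1 lc_d_rc_17_2 lc_d_Cert_tree lc_d_rc_15_1 lc_d_Cert_tree lc_d_rc_15_1 lc_d_rc_25_6 lc_d_rc_22_2 lc_d_Cert_tree lc_d_rc_16_4 lc_d_rc_15_1 lc_d_rc_17_2 lc_d_Cert_tree lc_d_Cert_tree lc_d_rc_15_1 lc_d_rc_27_4 lc_d_Cert_tree lc_d_Cert_tree lc_d_rc_15_1 lc_d_Cert_tree lc_d_rc_24_5 lc_d_rc_17_2) (@D3.rec (fun _ => (Cert rels S Gen.d)) lc_d_rc_15_1 lc_d_Cert_tree lc_d_rc_15_1 lc_d_Cert_tree lc_d_rc_17_2 lc_d_rc_15_1 lc_d_rc_8_3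 lc_d_rc_17_2 lc_d_rc_15_1 lc_d_rc_17_2 lc_d_rc_22_8 lc_d_Cert_tree lc_d_Cert_tree lc_d_rc_15_1 lc_d_rc_3_3 lc_d_Cert_tree lc_d_rc_15_1 lc_d_rc_8_1 lc_d_rc_22_8 lc_d_rc_17_0 lc_d_rc_8_1 lc_d_rc_24_0 lc_d_rc_24_0 lc_d_rc_16_4 lc_d_rc_23_2 lc_d_rc_15_1 lc_d_Cert_tree lc_d_rc_15_1 lc_d_rc_15_1 lc_d_rc_16_0 lc_d_rc_15_1 lc_d_rc_24_5 lc_d_Cert_tree lc_d_rc_15_1 lc_d_rc_15_1 lc_d_rc_8_3 lc_d_rc_22_2 lc_d_rc_25_2 lc_d_rc_25_6 lc_d_rc_8_3 lc_d_rc_16_2 lc_d_rc_15_1 lc_d_rc_8_1 lc_d_rc_3_3 lc_d_rc_27_4 lc_d_rc_16_0 lc_d_rc_3_3 lc_d_rc_27_4 lc_d_rc_16_4 lc_d_rc_23_4 lc_d_rc_15_1 lc_d_rc_17_2 lc_d_Cert_tree lc_d_rc_15_1 lc_d_rc_23_6 lc_d_Cert_tree lc_d_rc_17_2 lc_d_rc_27_10 lc_d_rc_15_1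 lc_d_Cert_tree lc_d_rc_15_1 lc_d_Cert_tree) (@D3.rec (fun _ => (Cert rels S Gen.d)) lc_d_Cert_tree lc_d_Cert_tree lc_d_Cert_tree lc_d_rc_15_1 lc_d_rc_17_2 lc_d_Cert_tree lc_d_rc_15_1 lc_d_rc_22_8 lc_d_rc_15_1 lc_d_Cert_tree lc_d_Cert_tree lc_d_rc_8_1 lc_d_rc_23_2 lc_d_rc_15_1 lc_d_rc_22_8 lc_d_rc_3_3 lc_d_rc_3_1 lc_d_rc_15_1 lc_d_rc_16_0 lc_d_rc_8_3 lc_d_rc_15_1 lc_d_rc_15_1 lc_d_rc_15_1 lc_d_rc_23_2 lc_d_Cert_tree lc_d_rc_3_3 lc_d_rc_24_5 lc_d_rc_15_1 lc_d_rc_15_1 lc_d_rc_16_0 lc_d_rc_17_2 lc_d_rc_3_3 lc_d_rc_15_1 lc_d_rc_24_0 lc_d_rc_16_2 lc_d_Cert_tree lc_d_Cert_tree lc_d_rc_15_1 lc_d_rc_16_0 lc_d_Cert_tree lc_d_rc_15_1 lc_d_rc_27_4 lc_d_rc_15_1 lc_d_rc_27_8 lc_d_rc_23_6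 lc_d_rc_17_0 lc_d_rc_17_2 lc_d_rc_16_0 lc_d_rc_15_1 lc_d_Cert_tree lc_d_rc_27_8 lc_d_rc_8_3 lc_d_rc_23_2 lc_d_Cert_tree lc_d_rc_15_1 lc_d_Cert_tree lc_d_rc_15_1 lc_d_rc_15_1 lc_d_Cert_tree lc_d_rc_16_4 lc_d_rc_8_3 lc_d_Cert_tree) (@D3.rec (fun _ => (Cert rels S Gen.d)) lc_d_rc_16_4 lc_d_Cert_tree lc_d_rc_8_3 lc_d_Cert_tree lc_d_rc_15_1 lc_d_rc_22_6 lc_d_rc_16_4 lc_d_rc_15_1 lc_d_rc_16_4 lc_d_rc_24_5 lc_d_rc_15_1 lc_d_rc_27_4 lc_d_Cert_tree lc_d_Cert_tree lc_d_rc_24_0 lc_d_rc_24_0 lc_d_rc_17_0 lc_d_rc_16_4 lc_d_rc_22_8 lc_d_rc_15_1 lc_d_rc_24_0 lc_d_rc_15_1 lc_d_rc_15_1 lc_d_rc_23_8 lc_d_rc_15_1 lc_d_Cert_tree lc_d_rc_15_1 lc_d_rc_25_6 lc_d_rc_8_3 lc_d_Cert_tree lc_d_rc_15_1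 lc_d_rc_17_2 lc_d_rc_23_6 lc_d_rc_3_1 lc_d_rc_22_6 lc_d_rc_16_4 lc_d_rc_17_2 lc_d_rc_24_0 lc_d_rc_24_5 lc_d_rc_15_1 lc_d_rc_15_1 lc_d_rc_8_3 lc_d_rc_16_4 lc_d_Cert_tree lc_d_rc_8_1 lc_d_rc_8_3 lc_d_Cert_tree lc_d_rc_15_1 lc_d_rc_17_2 lc_d_rc_15_1 lc_d_rc_15_1 lc_d_rc_17_2 lc_d_rc_8_3 lc_d_rc_16_4 lc_d_rc_15_1 lc_d_rc_22_2 lc_d_rc_15_1 lc_d_rc_17_2 lc_d_Cert_tree lc_d_rc_16_4 lc_d_Cert_tree lc_d_rc_15_1) (@D3.rec (fun _ => (Cert rels S Gen.d)) lc_d_rc_17_2 lc_d_Cert_tree lc_d_rc_24_0 lc_d_rc_23_2 lc_d_rc_15_1 lc_d_rc_17_2 lc_d_Cert_tree lc_d_rc_15_1 lc_d_rc_15_1 lc_d_rc_17_2 lc_d_rc_15_1 lc_d_rc_27_8 lc_d_Cert_tree lc_d_Cert_tree lc_d_Cert_tree lc_d_rc_17_2 lc_d_rc_16_0 lc_d_rc_15_1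 lc_d_rc_27_4 lc_d_Cert_tree lc_d_rc_15_1 lc_d_Cert_tree lc_d_rc_15_1 lc_d_rc_23_6 lc_d_Cert_tree lc_d_rc_17_2 lc_d_Cert_tree lc_d_rc_15_1 lc_d_rc_15_1 lc_d_rc_23_2 lc_d_Cert_tree lc_d_rc_16_4 lc_d_Cert_tree lc_d_rc_16_2 lc_d_Cert_tree lc_d_Cert_tree lc_d_rc_15_1 lc_d_Cert_tree lc_d_rc_8_1 lc_d_Cert_tree lc_d_rc_16_4 lc_d_Cert_tree lc_d_Cert_tree lc_d_Cert_tree lc_d_rc_15_1 lc_d_rc_22_4 lc_d_rc_15_1 lc_d_rc_23_6 lc_d_rc_3_3 lc_d_rc_15_1 lc_d_rc_15_1 lc_d_Cert_tree lc_d_Cert_tree lc_d_Cert_tree lc_d_rc_15_1 lc_d_rc_17_2 lc_d_Cert_tree lc_d_rc_15_1 lc_d_rc_15_1 lc_d_rc_27_2 lc_d_Cert_tree lc_d_rc_15_1) (@D3.rec (fun _ => (Cert rels S Gen.d)) lc_d_Cert_tree lc_d_rc_15_1 lc_d_Cert_tree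 lc_d_rc_15_1 lc_d_Cert_tree lc_d_Cert_tree lc_d_rc_15_1 lc_d_rc_22_2 lc_d_rc_22_4 lc_d_rc_15_1 lc_d_rc_16_4 lc_d_rc_17_2 lc_d_rc_8_1 lc_d_Cert_tree lc_d_rc_17_2 lc_d_rc_17_2 lc_d_rc_15_1 lc_d_rc_17_2 lc_d_rc_15_1 lc_d_Cert_tree lc_d_rc_15_1 lc_d_rc_16_4 lc_d_rc_15_1 lc_d_rc_17_2 lc_d_rc_15_1 lc_d_rc_15_1 lc_d_Cert_tree lc_d_rc_27_10 lc_d_rc_15_1 lc_d_rc_17_2 lc_d_Cert_tree lc_d_Cert_tree lc_d_rc_15_1 lc_d_rc_16_4 lc_d_Cert_tree lc_d_rc_8_3 lc_d_rc_15_1 lc_d_rc_27_8 lc_d_rc_23_6 lc_d_rc_15_1 lc_d_Cert_tree lc_d_rc_17_2 lc_d_rc_22_8 lc_d_rc_15_1 lc_d_rc_27_4 lc_d_rc_24_0 lc_d_rc_15_1 lc_d_rc_23_6 lc_d_rc_8_3 lc_d_rc_17_2 lc_d_rc_8_3 lc_d_rc_23_8 lc_d_Cert_tree lc_d_rc_15_1 lc_d_rc_17_2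 lc_d_rc_16_4 lc_d_rc_23_8 lc_d_Cert_tree lc_d_rc_16_0 lc_d_rc_15_1 lc_d_rc_17_2 lc_d_Cert_tree) (@D3.rec (fun _ => (Cert rels S Gen.d)) lc_d_rc_15_1 lc_d_Cert_tree lc_d_rc_15_1 lc_d_rc_15_1 lc_d_rc_17_2 lc_d_rc_15_1 lc_d_rc_15_1 lc_d_rc_15_1 lc_d_rc_27_8 lc_d_rc_23_6 lc_d_rc_23_4 lc_d_Cert_tree lc_d_rc_17_2 lc_d_rc_8_1 lc_d_rc_8_3 lc_d_rc_16_4 lc_d_Cert_tree lc_d_Cert_tree lc_d_Cert_tree lc_d_rc_15_1 lc_d_rc_17_2 lc_d_rc_16_2 lc_d_rc_24_5 lc_d_rc_22_4 lc_d_rc_27_2 lc_d_rc_15_1 lc_d_rc_8_1 lc_d_rc_27_2 lc_d_rc_15_1 lc_d_Cert_tree lc_d_rc_8_3 lc_d_rc_8_3 lc_d_rc_27_10 lc_d_rc_15_1 lc_d_rc_12_1 lc_d_rc_27_4 lc_d_rc_23_4 lc_d_rc_15_1 lc_d_rc_17_2 lc_d_Cert_tree lc_d_Cert_tree lc_d_rc_15_1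 lc_d_rc_17_2 lc_d_rc_8_3 lc_d_rc_15_1 lc_d_rc_17_2 lc_d_rc_15_1 lc_d_rc_24_5 lc_d_Cert_tree lc_d_Cert_tree lc_d_rc_17_2 lc_d_Cert_tree lc_d_Cert_tree lc_d_rc_15_1 lc_d_rc_17_2 lc_d_Cert_tree lc_d_rc_15_1 lc_d_rc_27_4 lc_d_rc_24_5 lc_d_rc_27_4 lc_d_rc_15_1 lc_d_Cert_tree) (@D3.rec (fun _ => (Cert rels S Gen.d)) lc_d_rc_3_1 lc_d_rc_15_1 lc_d_rc_22_2 lc_d_rc_17_2 lc_d_Cert_tree lc_d_Cert_tree lc_d_rc_15_1 lc_d_rc_22_6 lc_d_rc_15_1 lc_d_Cert_tree lc_d_Cert_tree lc_d_rc_15_1 lc_d_rc_15_1 lc_d_Cert_tree lc_d_rc_8_3 lc_d_rc_15_1 lc_d_rc_17_2 lc_d_rc_27_2 lc_d_rc_15_1 lc_d_Cert_tree lc_d_rc_8_3 lc_d_rc_15_1 lc_d_rc_17_2 lc_d_rc_23_6 lc_d_rc_23_6 lc_d_rc_3_3 lc_d_rc_17_2 lc_d_rc_23_4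 lc_d_rc_15_1 lc_d_rc_8_3 lc_d_rc_27_8 lc_d_rc_24_0 lc_d_rc_8_1 lc_d_rc_22_4 lc_d_rc_16_2 lc_d_rc_15_1 lc_d_rc_8_3 lc_d_rc_8_3 lc_d_rc_15_1 lc_d_Cert_tree lc_d_rc_15_1 lc_d_rc_24_5 lc_d_rc_17_2 lc_d_Cert_tree lc_d_rc_17_2 lc_d_rc_15_1 lc_d_rc_17_2 lc_d_rc_8_1 lc_d_rc_17_2 lc_d_rc_15_1 lc_d_Cert_tree lc_d_rc_8_1 lc_d_rc_3_3 lc_d_rc_15_1 lc_d_Cert_tree lc_d_rc_23_6 lc_d_rc_22_4 lc_d_rc_17_0 lc_d_rc_15_1 lc_d_rc_22_6 lc_d_rc_16_4 lc_d_rc_15_1) (@D3.rec (fun _ => (Cert rels S Gen.d)) lc_d_rc_23_2 lc_d_rc_17_2 lc_d_rc_15_1 lc_d_rc_23_2 lc_d_rc_15_1 lc_d_rc_15_1 lc_d_rc_27_8 lc_d_rc_23_6 lc_d_rc_23_6 lc_d_rc_8_3 lc_d_rc_17_2 lc_d_rc_15_1 lc_d_rc_27_4 lc_d_Cert_tree lc_d_rc_15_1 lc_d_rc_15_1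 lc_d_rc_15_1 lc_d_rc_17_2 lc_d_rc_15_1 lc_d_Cert_tree lc_d_Cert_tree lc_d_Cert_tree lc_d_rc_15_1 lc_d_rc_17_2 lc_d_rc_15_1 lc_d_Cert_tree lc_d_rc_15_1 lc_d_rc_27_8 lc_d_Cert_tree lc_d_rc_15_1 lc_d_Cert_tree lc_d_rc_17_2 lc_d_Cert_tree lc_d_rc_15_1 lc_d_rc_15_1 lc_d_rc_15_1 lc_d_rc_15_1 lc_d_Cert_tree lc_d_rc_8_3 lc_d_rc_15_1 lc_d_rc_17_2 lc_d_Cert_tree lc_d_rc_15_1 lc_d_rc_3_3 lc_d_rc_3_3 lc_d_rc_27_2 lc_d_rc_23_8 lc_d_rc_23_8 lc_d_rc_27_4 lc_d_rc_15_1 lc_d_rc_17_2 lc_d_Cert_tree lc_d_rc_15_1 lc_d_rc_3_3 lc_d_Cert_tree lc_d_rc_15_1 lc_d_rc_27_2 lc_d_rc_15_1 lc_d_rc_8_3 lc_d_rc_12_1 lc_d_Cert_tree lc_d_rc_15_1) (@D3.rec (fun _ => (Cert rels S Gen.d)) lc_d_rc_8_3 lc_d_rc_15_1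 lc_d_Cert_tree lc_d_rc_15_1 lc_d_rc_23_6 lc_d_Cert_tree lc_d_rc_22_4 lc_d_rc_16_2 lc_d_rc_8_3 lc_d_rc_22_8 lc_d_rc_16_4 lc_d_rc_22_4 lc_d_rc_15_1 lc_d_rc_8_1 lc_d_rc_23_2 lc_d_rc_23_8 lc_d_rc_24_0 lc_d_rc_22_2 lc_d_rc_15_1 lc_d_rc_15_1 lc_d_rc_16_2 lc_d_rc_8_3 lc_d_Cert_tree lc_d_rc_24_0 lc_d_rc_24_0 lc_d_rc_15_1 lc_d_rc_8_3 lc_d_Cert_tree lc_d_rc_3_3 lc_d_rc_8_3 lc_d_Cert_tree lc_d_rc_23_2 lc_d_rc_22_2 lc_d_Cert_tree lc_d_rc_27_10 lc_d_Cert_tree lc_d_rc_15_1 lc_d_rc_17_2 lc_d_rc_3_3 lc_d_rc_17_2 lc_d_rc_15_1 lc_d_rc_8_1 lc_d_Cert_tree lc_d_rc_16_0 lc_d_rc_15_1 lc_d_Cert_tree lc_d_Cert_tree lc_d_Cert_tree lc_d_rc_15_1 lc_d_rc_15_1 lc_d_rc_23_6 lc_d_rc_8_3 lc_d_Cert_tree lc_d_rc_16_4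 lc_d_Cert_tree lc_d_rc_16_4 lc_d_rc_17_0 lc_d_rc_23_8 lc_d_rc_27_8 lc_d_Cert_tree lc_d_rc_15_1 lc_d_rc_25_6) (@D3.rec (fun _ => (Cert rels S Gen.d)) lc_d_rc_25_18 lc_d_rc_22_2 lc_d_rc_15_1 lc_d_rc_23_2 lc_d_rc_16_4 lc_d_rc_8_3 lc_d_rc_15_1 lc_d_rc_15_1 lc_d_rc_22_2 lc_d_rc_8_3 lc_d_rc_16_2 lc_d_rc_8_1 lc_d_rc_24_5 lc_d_rc_8_3 lc_d_rc_8_1 lc_d_rc_24_0 lc_d_rc_22_2 lc_d_rc_15_1 lc_d_rc_24_5 lc_d_rc_8_3 lc_d_Cert_tree lc_d_rc_3_3 lc_d_rc_8_3 lc_d_rc_27_8 lc_d_Cert_tree lc_d_rc_15_1 lc_d_rc_15_1 lc_d_Cert_tree lc_d_rc_23_6 lc_d_rc_22_8 lc_d_rc_15_1 lc_d_Cert_tree lc_d_rc_27_2 lc_d_rc_16_4 lc_d_rc_15_1 lc_d_rc_8_3 lc_d_rc_17_0 lc_d_rc_27_2 lc_d_rc_15_1 lc_d_rc_15_1 lc_d_rc_23_2 lc_d_rc_24_0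 lc_d_rc_24_0 lc_d_rc_16_4 lc_d_Cert_tree lc_d_rc_15_1 lc_d_rc_15_1 lc_d_rc_15_1 lc_d_rc_15_1 lc_d_rc_16_4 lc_d_rc_24_5 lc_d_rc_23_2 lc_d_rc_15_1 lc_d_rc_15_1 lc_d_rc_16_4 lc_d_rc_15_1 lc_d_Cert_tree lc_d_rc_8_3 lc_d_rc_8_1 lc_d_rc_15_1 lc_d_Cert_tree lc_d_rc_15_1) (@D3.rec (fun _ => (Cert rels S Gen.d)) lc_d_rc_15_1 lc_d_rc_15_1 lc_d_rc_8_3 lc_d_rc_15_1 lc_d_rc_23_6 lc_d_rc_15_1 lc_d_rc_24_5 lc_d_rc_16_4 lc_d_rc_16_0 lc_d_rc_15_1 lc_d_Cert_tree lc_d_Cert_tree lc_d_rc_15_1 lc_d_Cert_tree lc_d_Cert_tree lc_d_Cert_tree lc_d_rc_15_1 lc_d_rc_16_4 lc_d_rc_8_3 lc_d_rc_27_2 lc_d_Cert_tree lc_d_Cert_tree lc_d_Cert_tree lc_d_rc_15_1 lc_d_rc_8_1 lc_d_Cert_tree lc_d_rc_15_1 lc_d_rc_17_2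 lc_d_rc_25_6 lc_d_rc_23_6 lc_d_Cert_tree lc_d_rc_15_1 lc_d_Cert_tree lc_d_rc_15_1 lc_d_rc_17_2 lc_d_Cert_tree lc_d_rc_8_1 lc_d_rc_15_1 lc_d_Cert_tree lc_d_Cert_tree lc_d_rc_15_1 lc_d_Cert_tree lc_d_rc_15_1 lc_d_rc_15_1 lc_d_rc_15_1 lc_d_Cert_tree lc_d_rc_8_1 lc_d_rc_8_3 lc_d_Cert_tree lc_d_rc_15_1 lc_d_Cert_tree lc_d_rc_8_3 lc_d_rc_27_2 lc_d_Cert_tree lc_d_Cert_tree lc_d_rc_22_2 lc_d_rc_8_3 lc_d_rc_15_1 lc_d_rc_25_14 lc_d_rc_16_2 lc_d_rc_15_1 lc_d_rc_8_1) (@D3.rec (fun _ => (Cert rels S Gen.d)) lc_d_rc_15_1 lc_d_Cert_tree lc_d_rc_8_3 lc_d_Cert_tree lc_d_rc_16_4 lc_d_Cert_tree lc_d_Cert_tree lc_d_rc_15_1 lc_d_rc_8_1 lc_d_rc_15_1 lc_d_Cert_tree lc_d_rc_25_18 lc_d_rc_15_1 lc_d_Cert_tree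 lc_d_Cert_tree lc_d_rc_8_3 lc_d_Cert_tree lc_d_rc_15_1 lc_d_rc_17_2 lc_d_rc_15_1 lc_d_Cert_tree lc_d_rc_17_2 lc_d_Cert_tree lc_d_rc_24_5 lc_d_rc_15_1 lc_d_rc_16_4 lc_d_rc_15_1 lc_d_rc_15_1 lc_d_rc_3_3 lc_d_rc_27_10 lc_d_rc_16_2 lc_d_rc_15_1 lc_d_Cert_tree lc_d_Cert_tree lc_d_rc_15_1 lc_d_rc_24_5 lc_d_Cert_tree lc_d_rc_15_1 lc_d_rc_17_0 lc_d_rc_15_1 lc_d_Cert_tree lc_d_rc_17_2 lc_d_Cert_tree lc_d_rc_17_2 lc_d_rc_15_1 lc_d_rc_15_1 lc_d_rc_15_1 lc_d_rc_23_6 lc_d_rc_23_4 lc_d_Cert_tree lc_d_rc_8_3 lc_d_rc_16_2 lc_d_Cert_tree lc_d_rc_8_1 lc_d_rc_12_1 lc_d_Cert_tree lc_d_Cert_tree lc_d_rc_15_1 lc_d_rc_22_4 lc_d_rc_3_3 lc_d_rc_27_2 lc_d_rc_16_4) (@D3.rec (fun _ => (Cert rels S Gen.d))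 lc_d_rc_8_3 lc_d_Cert_tree lc_d_Cert_tree lc_d_rc_15_1 lc_d_Cert_tree lc_d_rc_23_2 lc_d_rc_8_3 lc_d_rc_17_0 lc_d_rc_15_1 lc_d_rc_22_4 lc_d_rc_8_1 lc_d_rc_15_1 lc_d_rc_23_2 lc_d_rc_15_1 lc_d_Cert_tree lc_d_rc_16_2 lc_d_rc_17_0 lc_d_rc_15_1 lc_d_Cert_tree lc_d_rc_15_1 lc_d_Cert_tree lc_d_Cert_tree lc_d_Cert_tree lc_d_Cert_tree lc_d_rc_15_1 lc_d_rc_17_2 lc_d_Cert_tree lc_d_rc_15_1 lc_d_rc_22_6 lc_d_rc_16_4 lc_d_rc_17_2 lc_d_rc_3_3 lc_d_Cert_tree lc_d_rc_15_1 lc_d_rc_23_2 lc_d_rc_22_2 lc_d_rc_8_3 lc_d_Cert_tree lc_d_rc_8_1 lc_d_Cert_tree lc_d_Cert_tree lc_d_rc_15_1 lc_d_rc_25_10 lc_d_rc_15_1 lc_d_rc_3_1 lc_d_rc_8_3 lc_d_rc_15_1 lc_d_Cert_tree lc_d_Cert_tree lc_d_Cert_tree lc_d_rc_15_1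 lc_d_Cert_tree lc_d_rc_15_1 lc_d_Cert_tree lc_d_Cert_tree lc_d_Cert_tree lc_d_rc_15_1 lc_d_rc_15_1 lc_d_Cert_tree lc_d_rc_17_2 lc_d_Cert_tree lc_d_Cert_tree) (@D3.rec (fun _ => (Cert rels S Gen.d)) lc_d_rc_15_1 lc_d_rc_27_2 lc_d_rc_15_1 lc_d_rc_23_8 lc_d_rc_23_8 lc_d_rc_15_1 lc_d_rc_16_2 lc_d_rc_17_2 lc_d_rc_15_1 lc_d_rc_15_1 lc_d_rc_8_3 lc_d_rc_27_10 lc_d_rc_17_2 lc_d_rc_16_2 lc_d_rc_8_3 lc_d_Cert_tree lc_d_Cert_tree lc_d_Cert_tree lc_d_rc_15_1 lc_d_Cert_tree lc_d_rc_15_1 lc_d_rc_15_1 lc_d_rc_15_1 lc_d_rc_15_1 lc_d_Cert_tree lc_d_Cert_tree lc_d_rc_15_1 lc_d_rc_16_0 lc_d_Cert_tree lc_d_Cert_tree lc_d_rc_15_1 lc_d_rc_25_10 lc_d_Cert_tree lc_d_rc_24_5 lc_d_rc_23_2 lc_d_Cert_tree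 lc_d_Cert_tree lc_d_rc_15_1 lc_d_rc_17_2 lc_d_Cert_tree lc_d_Cert_tree lc_d_rc_15_1 lc_d_rc_27_4 lc_d_rc_15_1 lc_d_rc_24_0 lc_d_rc_23_4 lc_d_Cert_tree lc_d_rc_17_2 lc_d_rc_15_1 lc_d_rc_15_1 lc_d_rc_15_1 lc_d_rc_8_3 lc_d_rc_16_4 lc_d_Cert_tree lc_d_rc_16_4 lc_d_Cert_tree lc_d_Cert_tree lc_d_rc_15_1 lc_d_rc_16_4 lc_d_rc_8_1 lc_d_Cert_tree lc_d_rc_16_4) (@D3.rec (fun _ => (Cert rels S Gen.d)) lc_d_Cert_tree lc_d_Cert_tree lc_d_Cert_tree lc_d_rc_15_1 lc_d_rc_22_4 lc_d_rc_16_4 lc_d_rc_15_1 lc_d_rc_22_6 lc_d_rc_16_4 lc_d_Cert_tree lc_d_rc_15_1 lc_d_Cert_tree lc_d_rc_23_2 lc_d_rc_23_8 lc_d_Cert_tree lc_d_rc_15_1 lc_d_Cert_tree lc_d_rc_16_0 lc_d_Cert_tree lc_d_rc_15_1 lc_d_rc_23_8 lc_d_rc_22_6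 lc_d_rc_24_5 lc_d_rc_15_1 lc_d_rc_27_4 lc_d_rc_15_1 lc_d_rc_24_0 lc_d_rc_15_1 lc_d_Cert_tree lc_d_Cert_tree lc_d_rc_15_1 lc_d_rc_17_2 lc_d_rc_15_1 lc_d_rc_15_1 lc_d_rc_22_6 lc_d_rc_16_4 lc_d_rc_17_2 lc_d_rc_8_3 lc_d_rc_8_3 lc_d_Cert_tree lc_d_rc_24_0 lc_d_rc_15_1 lc_d_Cert_tree lc_d_rc_15_1 lc_d_Cert_tree lc_d_Cert_tree lc_d_rc_16_4 lc_d_rc_23_2 lc_d_rc_15_1 lc_d_Cert_tree lc_d_rc_23_2 lc_d_rc_15_1 lc_d_rc_15_1 lc_d_Cert_tree lc_d_Cert_tree lc_d_rc_15_1 lc_d_rc_8_3 lc_d_rc_16_2 lc_d_rc_22_2 lc_d_rc_3_1 lc_d_rc_22_6 lc_d_rc_15_1) (@D3.rec (fun _ => (Cert rels S Gen.d)) lc_d_rc_17_2 lc_d_rc_24_5 lc_d_Cert_tree lc_d_rc_15_1 lc_d_rc_15_1 lc_d_rc_23_8 lc_d_rc_27_4 lc_d_Cert_tree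 lc_d_rc_16_2 lc_d_rc_17_2 lc_d_rc_17_0 lc_d_rc_15_1 lc_d_rc_12_15 lc_d_Cert_tree lc_d_rc_15_1 lc_d_rc_3_1 lc_d_rc_16_4 lc_d_rc_16_2 lc_d_rc_15_1 lc_d_rc_16_4 lc_d_rc_15_1 lc_d_rc_16_2 lc_d_rc_3_3 lc_d_rc_17_2 lc_d_rc_8_3 lc_d_rc_8_3 lc_d_rc_15_1 lc_d_rc_27_2 lc_d_rc_3_3 lc_d_rc_15_1 lc_d_rc_23_4 lc_d_rc_8_3 lc_d_rc_15_1 lc_d_rc_17_2 lc_d_rc_17_0 lc_d_rc_3_3 lc_d_rc_15_1 lc_d_Cert_tree lc_d_rc_15_1 lc_d_rc_3_3 lc_d_Cert_tree lc_d_rc_15_1 lc_d_rc_12_15 lc_d_rc_22_6 lc_d_rc_15_1 lc_d_Cert_tree lc_d_Cert_tree lc_d_Cert_tree lc_d_rc_17_2 lc_d_rc_22_8 lc_d_rc_16_2 lc_d_rc_3_3 lc_d_rc_15_1 lc_d_rc_24_5 lc_d_Cert_tree lc_d_rc_27_8 lc_d_rc_15_1 lc_d_rc_27_2 lc_d_rc_15_1 lc_d_rc_15_1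 lc_d_rc_15_1 lc_d_rc_17_2) (@D3.rec (fun _ => (Cert rels S Gen.d)) lc_d_rc_15_1 lc_d_rc_17_2 lc_d_Cert_tree lc_d_rc_16_4 lc_d_rc_27_8 lc_d_rc_15_1 lc_d_rc_23_4 lc_d_rc_23_6 lc_d_rc_27_8 lc_d_Cert_tree lc_d_rc_27_2 lc_d_Cert_tree lc_d_rc_8_3 lc_d_rc_23_8 lc_d_Cert_tree lc_d_rc_15_1 lc_d_Cert_tree lc_d_Cert_tree lc_d_rc_15_1 lc_d_rc_15_1 lc_d_rc_17_2 lc_d_rc_22_2 lc_d_rc_15_1 lc_d_rc_16_4 lc_d_rc_23_8 lc_d_rc_16_2 lc_d_rc_27_4 lc_d_rc_15_1 lc_d_rc_3_3 lc_d_rc_15_1 lc_d_rc_22_4 lc_d_rc_24_5 lc_d_rc_15_1 lc_d_rc_8_3 lc_d_rc_15_1 lc_d_Cert_tree lc_d_rc_25_14 lc_d_rc_3_3 lc_d_rc_17_0 lc_d_rc_15_1 lc_d_rc_23_6 lc_d_rc_15_1 lc_d_rc_22_8 lc_d_rc_16_4 lc_d_rc_15_1 lc_d_rc_27_2 lc_d_Cert_tree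 lc_d_rc_27_2 lc_d_rc_3_1 lc_d_rc_24_0 lc_d_rc_15_1 lc_d_rc_23_8 lc_d_Cert_tree lc_d_Cert_tree lc_d_Cert_tree lc_d_rc_15_1 lc_d_rc_15_1 lc_d_Cert_tree lc_d_rc_15_1 lc_d_rc_15_1 lc_d_rc_27_10 lc_d_Cert_tree) (@D3.rec (fun _ => (Cert rels S Gen.d)) lc_d_rc_3_3 lc_d_rc_24_0 lc_d_Cert_tree lc_d_rc_16_2 lc_d_Cert_tree lc_d_rc_15_1 lc_d_rc_16_2 lc_d_Cert_tree lc_d_rc_15_1 lc_d_rc_16_0 lc_d_rc_27_2 lc_d_Cert_tree lc_d_Cert_tree lc_d_rc_3_1 lc_d_rc_16_4 lc_d_rc_27_10 lc_d_rc_23_4 lc_d_rc_17_2 lc_d_rc_15_1 lc_d_rc_15_1 lc_d_Cert_tree lc_d_rc_17_0 lc_d_rc_3_3 lc_d_rc_8_3 lc_d_rc_8_1 lc_d_rc_22_2 lc_d_rc_15_1 lc_d_Cert_tree lc_d_Cert_tree lc_d_rc_16_4 lc_d_rc_17_2 lc_d_rc_8_3 lc_d_rc_8_3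 lc_d_rc_8_3 lc_d_rc_25_10 lc_d_Cert_tree lc_d_rc_15_1 lc_d_rc_3_1 lc_d_Cert_tree lc_d_rc_15_1 lc_d_rc_15_1 lc_d_rc_8_3 lc_d_rc_16_2 lc_d_rc_25_10 lc_d_rc_23_2 lc_d_rc_3_3 lc_d_rc_15_1 lc_d_rc_16_2 lc_d_rc_16_4 lc_d_Cert_tree lc_d_rc_15_1 lc_d_Cert_tree lc_d_rc_27_10 lc_d_rc_15_1 lc_d_rc_17_2 lc_d_rc_3_1 lc_d_rc_15_1 lc_d_rc_27_8 lc_d_rc_15_1 lc_d_rc_23_8 lc_d_rc_25_6 lc_d_rc_3_1) (@D3.rec (fun _ => (Cert rels S Gen.d)) lc_d_rc_3_3 lc_d_rc_3_3 lc_d_Cert_tree lc_d_Cert_tree lc_d_rc_15_1 lc_d_Cert_tree lc_d_rc_17_2 lc_d_Cert_tree lc_d_rc_15_1 lc_d_rc_23_4 lc_d_rc_15_1 lc_d_rc_8_3 lc_d_rc_27_10 lc_d_Cert_tree lc_d_rc_16_2 lc_d_rc_8_3 lc_d_rc_15_1 lc_d_rc_12_3 lc_d_rc_8_3 lc_d_rc_8_3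 lc_d_rc_16_4 lc_d_rc_8_3 lc_d_rc_17_2 lc_d_rc_15_1 lc_d_rc_3_3 lc_d_rc_17_2 lc_d_rc_15_1 lc_d_rc_16_4 lc_d_rc_8_3 lc_d_rc_16_4 lc_d_rc_15_1 lc_d_rc_23_8 lc_d_rc_16_2 lc_d_rc_8_3 lc_d_rc_16_2 lc_d_rc_15_1 lc_d_rc_27_8 lc_d_Cert_tree lc_d_rc_8_1 lc_d_rc_27_8 lc_d_rc_8_1 lc_d_rc_8_1 lc_d_rc_22_6 lc_d_rc_17_0 lc_d_rc_15_1 lc_d_rc_27_2 lc_d_rc_3_3 lc_d_rc_3_3 lc_d_rc_15_1 lc_d_rc_8_1 lc_d_rc_15_1 lc_d_rc_15_1 lc_d_rc_17_0 lc_d_rc_23_2 lc_d_Cert_tree lc_d_rc_15_1 lc_d_Cert_tree lc_d_rc_22_6 lc_d_Cert_tree lc_d_rc_15_1 lc_d_rc_15_1 lc_d_rc_22_6) (@D3.rec (fun _ => (Cert rels S Gen.d)) lc_d_rc_15_1 lc_d_rc_15_1 lc_d_Cert_tree lc_d_rc_23_6 lc_d_rc_15_1 lc_d_rc_22_6 lc_d_Cert_tree lc_d_rc_23_8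 lc_d_rc_24_0 lc_d_rc_15_1 lc_d_Cert_tree lc_d_rc_22_6 lc_d_rc_15_1 lc_d_rc_15_1 lc_d_rc_8_3 lc_d_rc_17_2 lc_d_rc_23_6 lc_d_rc_22_4 lc_d_rc_15_1 lc_d_Cert_tree lc_d_Cert_tree lc_d_Cert_tree lc_d_rc_15_1 lc_d_rc_17_2 lc_d_rc_8_3 lc_d_rc_8_1 lc_d_rc_17_2 lc_d_Cert_tree lc_d_Cert_tree lc_d_rc_15_1 lc_d_rc_23_2 lc_d_rc_23_2 lc_d_rc_27_4 lc_d_rc_15_1 lc_d_rc_12_1 lc_d_rc_16_2 lc_d_Cert_tree lc_d_rc_15_1 lc_d_rc_15_1 lc_d_rc_27_2 lc_d_rc_15_1 lc_d_rc_3_3 lc_d_rc_27_8 lc_d_rc_22_2 lc_d_rc_8_3 lc_d_rc_8_3 lc_d_Cert_tree lc_d_Cert_tree lc_d_Cert_tree lc_d_rc_15_1 lc_d_rc_8_3 lc_d_rc_15_1 lc_d_rc_8_3 lc_d_Cert_tree lc_d_rc_27_8 lc_d_rc_15_1 lc_d_Cert_tree lc_d_Cert_tree lc_d_Cert_tree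 lc_d_rc_25_10 lc_d_Cert_tree lc_d_rc_22_6) (@D3.rec (fun _ => (Cert rels S Gen.d)) lc_d_Cert_tree lc_d_Cert_tree lc_d_rc_15_1 lc_d_Cert_tree lc_d_Cert_tree lc_d_rc_15_1 lc_d_rc_8_3 lc_d_rc_15_1 lc_d_rc_16_0 lc_d_rc_17_2 lc_d_rc_15_1 lc_d_rc_17_2 lc_d_rc_15_1 lc_d_rc_12_3 lc_d_Cert_tree lc_d_Cert_tree lc_d_rc_15_1 lc_d_Cert_tree lc_d_rc_8_3 lc_d_rc_25_10 lc_d_rc_15_1 lc_d_rc_3_3 lc_d_rc_15_1 lc_d_rc_15_1 lc_d_rc_27_4 lc_d_rc_27_10 lc_d_rc_17_2 lc_d_rc_3_3 lc_d_Cert_tree lc_d_rc_15_1 lc_d_rc_23_6 lc_d_rc_15_1 lc_d_rc_3_1 lc_d_rc_15_1 lc_d_rc_25_10 lc_d_rc_3_1 lc_d_rc_15_1 lc_d_rc_23_6 lc_d_rc_15_1 lc_d_rc_3_1 lc_d_rc_15_1 lc_d_rc_16_4 lc_d_rc_8_3 lc_d_rc_22_4 lc_d_rc_16_4 lc_d_Cert_tree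 lc_d_rc_15_1 lc_d_rc_27_8 lc_d_Cert_tree lc_d_rc_15_1 lc_d_rc_22_4 lc_d_Cert_tree lc_d_rc_15_1 lc_d_rc_8_3 lc_d_rc_25_18 lc_d_rc_22_2 lc_d_rc_15_1 lc_d_Cert_tree lc_d_rc_23_2 lc_d_rc_24_0 lc_d_rc_15_1 lc_d_rc_15_1) (@D3.rec (fun _ => (Cert rels S Gen.d)) lc_d_rc_8_1 lc_d_Cert_tree lc_d_rc_16_2 lc_d_rc_24_5 lc_d_Cert_tree lc_d_rc_24_0 lc_d_Cert_tree lc_d_rc_15_1 lc_d_Cert_tree lc_d_Cert_tree lc_d_rc_15_1 lc_d_rc_15_1 lc_d_Cert_tree lc_d_Cert_tree lc_d_Cert_tree lc_d_rc_15_1 lc_d_rc_22_8 lc_d_rc_27_4 lc_d_rc_24_0 lc_d_rc_16_4 lc_d_rc_8_3 lc_d_Cert_tree lc_d_rc_27_2 lc_d_rc_24_5 lc_d_Cert_tree lc_d_rc_24_0 lc_d_rc_16_4 lc_d_rc_15_1 lc_d_rc_8_3 lc_d_Cert_tree lc_d_rc_15_1 lc_d_rc_8_3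 lc_d_rc_23_8 lc_d_rc_23_8 lc_d_rc_3_1 lc_d_rc_15_1 lc_d_Cert_tree lc_d_rc_22_6 lc_d_Cert_tree lc_d_rc_15_1 lc_d_rc_27_2 lc_d_Cert_tree lc_d_rc_24_5 lc_d_Cert_tree lc_d_rc_22_6 lc_d_rc_12_15 lc_d_rc_15_1 lc_d_rc_22_2 lc_d_rc_17_2 lc_d_rc_8_1 lc_d_Cert_tree lc_d_Cert_tree lc_d_rc_15_1 lc_d_rc_22_2 lc_d_rc_15_1 lc_d_rc_23_2 lc_d_rc_16_2 lc_d_Cert_tree lc_d_Cert_tree lc_d_rc_15_1 lc_d_rc_17_2 lc_d_rc_24_0)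
def ce_d_13 : D2 → D3 → (Cert rels S Gen.d) := @D2.rec (fun _ => D3 → (Cert rels S Gen.d)) (@D3.rec (fun _ => (Cert rels S Gen.d)) lc_d_rc_17_2 lc_d_rc_24_0 lc_d_Cert_tree lc_d_rc_15_1 lc_d_Cert_tree lc_d_Cert_tree lc_d_Cert_tree lc_d_Cert_tree lc_d_rc_15_1 lc_d_Cert_tree lc_d_Cert_tree lc_d_rc_27_4 lc_d_rc_27_10 lc_d_rc_15_1 lc_d_rc_27_2 lc_d_rc_16_0 lc_d_rc_24_0 lc_d_Cert_tree lc_d_rc_15_1 lc_d_rc_27_4 lc_d_rc_8_1 lc_d_rc_15_1 lc_d_rc_16_4 lc_d_Cert_tree lc_d_rc_27_8 lc_d_rc_24_0 lc_d_rc_15_1 lc_d_rc_24_0 lc_d_rc_22_2 lc_d_rc_16_4 lc_d_Cert_tree lc_d_rc_15_1 lc_d_rc_15_1 lc_d_rc_17_2 lc_d_rc_16_4 lc_d_rc_8_3 lc_d_rc_23_8 lc_d_rc_23_8 lc_d_Cert_tree lc_d_rc_15_1 lc_d_rc_3_1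 lc_d_Cert_tree lc_d_rc_24_5 lc_d_Cert_tree lc_d_rc_27_2 lc_d_Cert_tree lc_d_rc_15_1 lc_d_rc_23_2 lc_d_rc_22_2 lc_d_rc_16_4 lc_d_rc_8_3 lc_d_rc_23_6 lc_d_rc_24_0 lc_d_rc_15_1 lc_d_rc_16_4 lc_d_rc_15_1 lc_d_Cert_tree lc_d_rc_3_3 lc_d_rc_8_3 lc_d_rc_16_4 lc_d_rc_24_0 lc_d_rc_8_3) (@D3.rec (fun _ => (Cert rels S Gen.d)) lc_d_rc_16_2 lc_d_rc_16_0 lc_d_rc_12_1 lc_d_rc_15_1 lc_d_rc_27_2 lc_d_rc_25_2 lc_d_rc_27_10 lc_d_rc_16_0 lc_d_rc_8_3 lc_d_rc_23_2 lc_d_rc_3_3 lc_d_rc_3_1 lc_d_Cert_tree lc_d_Cert_tree lc_d_rc_15_1 lc_d_rc_24_0 lc_d_Cert_tree lc_d_rc_15_1 lc_d_Cert_tree lc_d_rc_8_3 lc_d_rc_27_4 lc_d_rc_27_10 lc_d_rc_3_3 lc_d_rc_15_1 lc_d_rc_22_8 lc_d_rc_17_2 lc_d_Cert_tree lc_d_rc_8_1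 lc_d_rc_15_1 lc_d_rc_17_2 lc_d_rc_8_1 lc_d_rc_15_1 lc_d_rc_15_1 lc_d_rc_3_3 lc_d_rc_8_3 lc_d_rc_8_3 lc_d_rc_15_1 lc_d_rc_27_8 lc_d_rc_15_1 lc_d_rc_27_8 lc_d_rc_15_1 lc_d_rc_27_2 lc_d_rc_15_1 lc_d_rc_15_1 lc_d_rc_22_6 lc_d_rc_8_3 lc_d_rc_8_3 lc_d_rc_27_10 lc_d_rc_24_5 lc_d_rc_17_2 lc_d_rc_15_1 lc_d_rc_15_1 lc_d_rc_27_2 lc_d_rc_8_3 lc_d_rc_24_0 lc_d_rc_27_8 lc_d_rc_3_3 lc_d_rc_23_4 lc_d_rc_15_1 lc_d_rc_17_2 lc_d_rc_8_3 lc_d_rc_8_3) (@D3.rec (fun _ => (Cert rels S Gen.d)) lc_d_Cert_tree lc_d_rc_22_4 lc_d_Cert_tree lc_d_rc_15_1 lc_d_Cert_tree lc_d_rc_8_3 lc_d_rc_8_3 lc_d_rc_17_0 lc_d_rc_15_1 lc_d_rc_15_1 lc_d_rc_16_4 lc_d_rc_3_3 lc_d_Cert_tree lc_d_Cert_tree lc_d_rc_15_1 lc_d_rc_15_1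 lc_d_rc_8_3 lc_d_rc_17_0 lc_d_rc_15_1 lc_d_rc_8_3 lc_d_Cert_tree lc_d_rc_15_1 lc_d_Cert_tree lc_d_rc_15_1 lc_d_Cert_tree lc_d_rc_27_2 lc_d_rc_23_6 lc_d_rc_15_1 lc_d_Cert_tree lc_d_rc_15_1 lc_d_rc_16_2 lc_d_rc_24_5 lc_d_rc_15_1 lc_d_rc_8_3 lc_d_rc_8_3 lc_d_rc_15_1 lc_d_rc_27_10 lc_d_Cert_tree lc_d_rc_15_1 lc_d_rc_15_1 lc_d_rc_16_4 lc_d_rc_8_3 lc_d_Cert_tree lc_d_Cert_tree lc_d_rc_15_1 lc_d_rc_22_6 lc_d_rc_16_4 lc_d_rc_8_3 lc_d_Cert_tree lc_d_rc_24_5 lc_d_Cert_tree lc_d_rc_15_1 lc_d_rc_17_2 lc_d_rc_15_1 lc_d_Cert_tree lc_d_rc_15_1 lc_d_rc_22_6 lc_d_rc_17_2 lc_d_rc_23_8 lc_d_rc_15_1 lc_d_rc_15_1 lc_d_rc_15_1) (@D3.rec (fun _ => (Cert rels S Gen.d)) lc_d_rc_16_2 lc_d_rc_15_1 lc_d_rc_15_1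 lc_d_rc_15_1 lc_d_rc_27_8 lc_d_Cert_tree lc_d_rc_15_1 lc_d_rc_27_10 lc_d_rc_27_2 lc_d_rc_15_1 lc_d_rc_17_2 lc_d_rc_15_1 lc_d_rc_15_1 lc_d_rc_15_1 lc_d_rc_12_9 lc_d_rc_16_4 lc_d_Cert_tree lc_d_rc_8_3 lc_d_Cert_tree lc_d_rc_15_1 lc_d_Cert_tree lc_d_rc_15_1 lc_d_rc_23_4 lc_d_rc_15_1 lc_d_Cert_tree lc_d_Cert_tree lc_d_Cert_tree lc_d_rc_15_1 lc_d_rc_15_1 lc_d_rc_23_6 lc_d_rc_15_1 lc_d_rc_16_2 lc_d_Cert_tree lc_d_Cert_tree lc_d_rc_15_1 lc_d_rc_15_1 lc_d_rc_15_1 lc_d_rc_16_2 lc_d_rc_8_3 lc_d_rc_24_5 lc_d_Cert_tree lc_d_rc_8_3 lc_d_rc_23_4 lc_d_rc_12_9 lc_d_rc_23_6 lc_d_Cert_tree lc_d_rc_15_1 lc_d_rc_22_4 lc_d_rc_16_4 lc_d_Cert_tree lc_d_rc_15_1 lc_d_Cert_tree lc_d_Cert_tree lc_d_rc_15_1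 lc_d_rc_8_1 lc_d_rc_15_1 lc_d_rc_15_1 lc_d_rc_15_1 lc_d_Cert_tree lc_d_rc_8_3 lc_d_rc_15_1 lc_d_rc_15_1) (@D3.rec (fun _ => (Cert rels S Gen.d)) lc_d_rc_23_8 lc_d_Cert_tree lc_d_rc_15_1 lc_d_rc_24_5 lc_d_rc_3_3 lc_d_rc_15_1 lc_d_rc_27_8 lc_d_rc_15_1 lc_d_Cert_tree lc_d_rc_27_2 lc_d_rc_15_1 lc_d_rc_22_6 lc_d_rc_15_1 lc_d_rc_23_6 lc_d_rc_15_1 lc_d_rc_15_1 lc_d_rc_15_1 lc_d_rc_24_0 lc_d_rc_22_4 lc_d_rc_15_1 lc_d_rc_22_8 lc_d_Cert_tree lc_d_rc_15_1 lc_d_rc_16_4 lc_d_rc_17_2 lc_d_rc_15_1 lc_d_rc_15_1 lc_d_rc_23_2 lc_d_rc_27_2 lc_d_Cert_tree lc_d_rc_8_3 lc_d_rc_15_1 lc_d_rc_16_4 lc_d_rc_27_2 lc_d_rc_27_4 lc_d_rc_16_4 lc_d_rc_24_5 lc_d_rc_15_1 lc_d_rc_16_4 lc_d_rc_8_3 lc_d_Cert_tree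 lc_d_rc_15_1 lc_d_Cert_tree lc_d_rc_16_4 lc_d_rc_27_10 lc_d_rc_16_0 lc_d_rc_16_4 lc_d_rc_15_1 lc_d_rc_16_4 lc_d_rc_27_2 lc_d_rc_8_1 lc_d_rc_15_1 lc_d_rc_16_2 lc_d_rc_25_6 lc_d_rc_27_4 lc_d_rc_16_4 lc_d_rc_27_2 lc_d_rc_27_10 lc_d_rc_8_3 lc_d_rc_15_1 lc_d_rc_16_4 lc_d_rc_23_2) (@D3.rec (fun _ => (Cert rels S Gen.d)) lc_d_rc_15_1 lc_d_rc_15_1 lc_d_rc_8_3 lc_d_Cert_tree lc_d_Cert_tree lc_d_rc_17_2 lc_d_rc_27_10 lc_d_rc_16_0 lc_d_rc_27_8 lc_d_rc_15_1 lc_d_rc_16_2 lc_d_rc_15_1 lc_d_Cert_tree lc_d_Cert_tree lc_d_Cert_tree lc_d_Cert_tree lc_d_Cert_tree lc_d_rc_15_1 lc_d_rc_15_1 lc_d_rc_23_4 lc_d_rc_24_5 lc_d_rc_15_1 lc_d_rc_22_4 lc_d_rc_17_2 lc_d_rc_15_1 lc_d_rc_16_4 lc_d_Cert_tree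 lc_d_rc_15_1 lc_d_rc_23_2 lc_d_Cert_tree lc_d_Cert_tree lc_d_rc_15_1 lc_d_rc_17_2 lc_d_rc_15_1 lc_d_rc_15_1 lc_d_rc_25_6 lc_d_Cert_tree lc_d_rc_15_1 lc_d_rc_24_5 lc_d_rc_8_3 lc_d_rc_24_0 lc_d_rc_22_6 lc_d_rc_17_2 lc_d_Cert_tree lc_d_rc_15_1 lc_d_Cert_tree lc_d_rc_15_1 lc_d_rc_15_1 lc_d_rc_27_8 lc_d_rc_15_1 lc_d_rc_24_0 lc_d_Cert_tree lc_d_rc_17_2 lc_d_Cert_tree lc_d_rc_15_1 lc_d_rc_15_1 lc_d_rc_15_1 lc_d_rc_24_5 lc_d_rc_16_2 lc_d_rc_3_1 lc_d_Cert_tree lc_d_rc_15_1) (@D3.rec (fun _ => (Cert rels S Gen.d)) lc_d_rc_8_3 lc_d_rc_17_0 lc_d_rc_27_4 lc_d_rc_24_5 lc_d_rc_3_3 lc_d_rc_22_6 lc_d_Cert_tree lc_d_rc_15_1 lc_d_rc_22_6 lc_d_rc_24_5 lc_d_rc_15_1 lc_d_rc_15_1 lc_d_rc_12_5 lc_d_rc_16_2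 lc_d_rc_27_2 lc_d_rc_3_3 lc_d_rc_15_1 lc_d_rc_15_1 lc_d_Cert_tree lc_d_rc_15_1 lc_d_Cert_tree lc_d_rc_15_1 lc_d_Cert_tree lc_d_rc_25_2 lc_d_rc_22_4 lc_d_rc_12_15 lc_d_Cert_tree lc_d_Cert_tree lc_d_rc_15_1 lc_d_rc_27_4 lc_d_rc_15_1 lc_d_rc_24_5 lc_d_rc_24_5 lc_d_rc_15_1 lc_d_rc_16_2 lc_d_rc_8_3 lc_d_rc_22_4 lc_d_Cert_tree lc_d_rc_15_1 lc_d_rc_17_2 lc_d_rc_15_1 lc_d_rc_15_1 lc_d_Cert_tree lc_d_rc_27_2 lc_d_Cert_tree lc_d_rc_15_1 lc_d_rc_17_2 lc_d_rc_15_1 lc_d_Cert_tree lc_d_rc_15_1 lc_d_Cert_tree lc_d_Cert_tree lc_d_rc_15_1 lc_d_rc_23_4 lc_d_rc_15_1 lc_d_rc_8_3 lc_d_rc_17_2 lc_d_rc_15_1 lc_d_rc_3_3 lc_d_rc_16_2 lc_d_Cert_tree lc_d_Cert_tree) (@D3.rec (fun _ => (Cert rels S Gen.d))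 lc_d_rc_15_1 lc_d_rc_15_1 lc_d_rc_16_2 lc_d_rc_8_3 lc_d_rc_22_4 lc_d_Cert_tree lc_d_rc_8_3 lc_d_rc_22_4 lc_d_Cert_tree lc_d_rc_8_3 lc_d_rc_15_1 lc_d_rc_8_3 lc_d_rc_16_2 lc_d_rc_15_1 lc_d_Cert_tree lc_d_Cert_tree lc_d_rc_15_1 lc_d_Cert_tree lc_d_Cert_tree lc_d_Cert_tree lc_d_rc_15_1 lc_d_rc_22_2 lc_d_rc_15_1 lc_d_Cert_tree lc_d_rc_17_2 lc_d_Cert_tree lc_d_Cert_tree lc_d_rc_15_1 lc_d_rc_15_1 lc_d_rc_16_4 lc_d_rc_15_1 lc_d_rc_15_1 lc_d_rc_3_1 lc_d_rc_8_3 lc_d_rc_22_6 lc_d_rc_16_4 lc_d_rc_3_1 lc_d_rc_23_4 lc_d_rc_8_3 lc_d_rc_16_4 lc_d_rc_15_1 lc_d_rc_22_2 lc_d_Cert_tree lc_d_rc_15_1 lc_d_rc_15_1 lc_d_rc_15_1 lc_d_rc_15_1 lc_d_rc_17_2 lc_d_rc_15_1 lc_d_rc_16_4 lc_d_rc_15_1 lc_d_rc_23_4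 lc_d_Cert_tree lc_d_Cert_tree lc_d_rc_23_4 lc_d_rc_23_4 lc_d_rc_15_1 lc_d_rc_23_4 lc_d_rc_24_0 lc_d_rc_22_6 lc_d_rc_15_1 lc_d_Cert_tree) (@D3.rec (fun _ => (Cert rels S Gen.d)) lc_d_rc_15_1 lc_d_Cert_tree lc_d_Cert_tree lc_d_rc_15_1 lc_d_rc_25_14 lc_d_Cert_tree lc_d_rc_15_1 lc_d_rc_27_4 lc_d_Cert_tree lc_d_Cert_tree lc_d_rc_15_1 lc_d_Cert_tree lc_d_rc_17_2 lc_d_rc_24_0 lc_d_Cert_tree lc_d_rc_17_2 lc_d_Cert_tree lc_d_rc_15_1 lc_d_rc_27_4 lc_d_rc_15_1 lc_d_rc_24_5 lc_d_rc_15_1 lc_d_rc_22_2 lc_d_rc_17_2 lc_d_Cert_tree lc_d_rc_15_1 lc_d_rc_15_1 lc_d_rc_24_0 lc_d_rc_24_0 lc_d_rc_16_2 lc_d_rc_3_3 lc_d_Cert_tree lc_d_rc_15_1 lc_d_rc_8_3 lc_d_rc_22_6 lc_d_rc_3_3 lc_d_rc_23_4 lc_d_rc_16_4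 lc_d_rc_8_3 lc_d_rc_22_6 lc_d_rc_16_4 lc_d_rc_15_1 lc_d_rc_22_4 lc_d_rc_16_4 lc_d_rc_3_3 lc_d_rc_15_1 lc_d_rc_17_2 lc_d_rc_17_2 lc_d_rc_24_0 lc_d_rc_15_1 lc_d_Cert_tree lc_d_rc_15_1 lc_d_Cert_tree lc_d_Cert_tree lc_d_rc_8_3 lc_d_rc_15_1 lc_d_rc_15_1 lc_d_rc_17_2 lc_d_rc_23_6 lc_d_rc_22_2 lc_d_rc_15_1 lc_d_rc_15_1) (@D3.rec (fun _ => (Cert rels S Gen.d)) lc_d_rc_15_1 lc_d_rc_3_1 lc_d_Cert_tree lc_d_Cert_tree lc_d_rc_15_1 lc_d_rc_15_1 lc_d_Cert_tree lc_d_Cert_tree lc_d_rc_17_2 lc_d_rc_15_1 lc_d_rc_22_4 lc_d_rc_15_1 lc_d_rc_15_1 lc_d_Cert_tree lc_d_rc_17_2 lc_d_rc_16_4 lc_d_Cert_tree lc_d_rc_12_1 lc_d_rc_15_1 lc_d_rc_15_1 lc_d_rc_16_2 lc_d_rc_15_1 lc_d_rc_16_2 lc_d_rc_8_3 lc_d_rc_24_0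 lc_d_rc_16_4 lc_d_rc_12_1 lc_d_rc_22_2 lc_d_rc_8_1 lc_d_rc_12_1 lc_d_rc_16_4 lc_d_rc_15_1 lc_d_rc_8_3 lc_d_rc_16_2 lc_d_Cert_tree lc_d_rc_15_1 lc_d_rc_23_2 lc_d_rc_27_4 lc_d_rc_15_1 lc_d_rc_27_10 lc_d_Cert_tree lc_d_rc_8_3 lc_d_rc_27_2 lc_d_rc_15_1 lc_d_rc_27_2 lc_d_rc_16_4 lc_d_rc_17_2 lc_d_rc_16_4 lc_d_rc_15_1 lc_d_Cert_tree lc_d_rc_16_4 lc_d_rc_15_1 lc_d_Cert_tree lc_d_rc_15_1 lc_d_rc_17_2 lc_d_rc_15_1 lc_d_rc_8_1 lc_d_Cert_tree lc_d_rc_12_3 lc_d_rc_15_1 lc_d_rc_15_1 lc_d_Cert_tree) (@D3.rec (fun _ => (Cert rels S Gen.d)) lc_d_Cert_tree lc_d_rc_15_1 lc_d_rc_17_2 lc_d_Cert_tree lc_d_rc_15_1 lc_d_Cert_tree lc_d_Cert_tree lc_d_Cert_tree lc_d_rc_15_1 lc_d_rc_22_2 lc_d_rc_15_1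 lc_d_rc_23_4 lc_d_rc_8_3 lc_d_rc_17_2 lc_d_rc_15_1 lc_d_Cert_tree lc_d_rc_15_1 lc_d_rc_27_4 lc_d_rc_15_1 lc_d_Cert_tree lc_d_rc_17_2 lc_d_rc_8_3 lc_d_rc_3_3 lc_d_rc_22_2 lc_d_rc_22_6 lc_d_rc_8_3 lc_d_rc_22_6 lc_d_rc_16_4 lc_d_Cert_tree lc_d_rc_15_1 lc_d_rc_15_1 lc_d_rc_27_2 lc_d_rc_15_1 lc_d_rc_8_3 lc_d_rc_8_3 lc_d_rc_27_8 lc_d_rc_15_1 lc_d_rc_27_4 lc_d_Cert_tree lc_d_rc_15_1 lc_d_rc_27_8 lc_d_rc_8_3 lc_d_Cert_tree lc_d_rc_8_3 lc_d_rc_16_4 lc_d_rc_8_3 lc_d_rc_3_3 lc_d_rc_15_1 lc_d_rc_15_1 lc_d_rc_15_1 lc_d_Cert_tree lc_d_rc_3_3 lc_d_rc_15_1 lc_d_Cert_tree lc_d_rc_17_2 lc_d_rc_17_2 lc_d_rc_15_1 lc_d_rc_22_2 lc_d_rc_17_0 lc_d_rc_3_3 lc_d_Cert_tree lc_d_rc_15_1) (@D3.rec (fun _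 => (Cert rels S Gen.d)) lc_d_rc_15_1 lc_d_rc_15_1 lc_d_Cert_tree lc_d_rc_15_1 lc_d_rc_27_4 lc_d_Cert_tree lc_d_rc_24_5 lc_d_rc_15_1 lc_d_rc_15_1 lc_d_rc_8_1 lc_d_rc_15_1 lc_d_Cert_tree lc_d_rc_12_1 lc_d_rc_22_6 lc_d_rc_15_1 lc_d_rc_8_3 lc_d_rc_15_1 lc_d_rc_15_1 lc_d_Cert_tree lc_d_rc_23_2 lc_d_rc_15_1 lc_d_Cert_tree lc_d_rc_23_2 lc_d_Cert_tree lc_d_rc_23_8 lc_d_rc_24_0 lc_d_rc_15_1 lc_d_rc_8_3 lc_d_rc_15_1 lc_d_rc_15_1 lc_d_rc_16_4 lc_d_Cert_tree lc_d_rc_8_3 lc_d_rc_23_6 lc_d_rc_24_0 lc_d_rc_24_5 lc_d_rc_27_8 lc_d_rc_15_1 lc_d_rc_15_1 lc_d_rc_15_1 lc_d_rc_15_1 lc_d_rc_22_2 lc_d_Cert_tree lc_d_rc_15_1 lc_d_Cert_tree lc_d_Cert_tree lc_d_rc_8_3 lc_d_rc_27_4 lc_d_rc_15_1 lc_d_rc_8_3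 lc_d_rc_22_6 lc_d_Cert_tree lc_d_rc_15_1 lc_d_rc_8_3 lc_d_rc_15_1 lc_d_Cert_tree lc_d_Cert_tree lc_d_rc_15_1 lc_d_Cert_tree lc_d_rc_22_4 lc_d_rc_3_1 lc_d_rc_27_2) (@D3.rec (fun _ => (Cert rels S Gen.d)) lc_d_Cert_tree lc_d_Cert_tree lc_d_rc_15_1 lc_d_rc_17_2 lc_d_Cert_tree lc_d_Cert_tree lc_d_rc_15_1 lc_d_Cert_tree lc_d_rc_15_1 lc_d_rc_27_4 lc_d_rc_15_1 lc_d_rc_17_2 lc_d_rc_15_1 lc_d_rc_16_4 lc_d_rc_15_1 lc_d_rc_27_2 lc_d_Cert_tree lc_d_rc_15_1 lc_d_Cert_tree lc_d_rc_15_1 lc_d_rc_8_3 lc_d_rc_16_4 lc_d_Cert_tree lc_d_Cert_tree lc_d_Cert_tree lc_d_rc_8_3 lc_d_Cert_tree lc_d_Cert_tree lc_d_Cert_tree lc_d_rc_15_1 lc_d_rc_12_13 lc_d_rc_16_4 lc_d_rc_24_5 lc_d_rc_15_1 lc_d_rc_15_1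 lc_d_Cert_tree lc_d_rc_15_1 lc_d_Cert_tree lc_d_rc_8_3 lc_d_rc_27_8 lc_d_rc_17_2 lc_d_rc_15_1 lc_d_rc_8_3 lc_d_rc_16_4 lc_d_Cert_tree lc_d_rc_15_1 lc_d_rc_16_2 lc_d_rc_15_1 lc_d_rc_15_1 lc_d_rc_23_6 lc_d_Cert_tree lc_d_rc_15_1 lc_d_Cert_tree lc_d_rc_15_1 lc_d_Cert_tree lc_d_rc_15_1 lc_d_Cert_tree lc_d_Cert_tree lc_d_rc_3_1 lc_d_rc_15_1 lc_d_rc_3_3 lc_d_rc_3_1) (@D3.rec (fun _ => (Cert rels S Gen.d)) lc_d_rc_24_5 lc_d_rc_23_4 lc_d_rc_15_1 lc_d_rc_15_1 lc_d_rc_23_6 lc_d_rc_24_5 lc_d_rc_23_2 lc_d_rc_16_2 lc_d_rc_15_1 lc_d_rc_15_1 lc_d_rc_15_1 lc_d_rc_15_1 lc_d_Cert_tree lc_d_Cert_tree lc_d_rc_15_1 lc_d_rc_23_4 lc_d_Cert_tree lc_d_rc_27_10 lc_d_rc_15_1 lc_d_rc_8_3 lc_d_Cert_tree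 lc_d_Cert_tree lc_d_rc_15_1 lc_d_rc_15_1 lc_d_rc_12_13 lc_d_Cert_tree lc_d_Cert_tree lc_d_rc_27_4 lc_d_rc_15_1 lc_d_rc_8_3 lc_d_rc_8_3 lc_d_Cert_tree lc_d_rc_3_3 lc_d_rc_8_3 lc_d_Cert_tree lc_d_rc_15_1 lc_d_rc_16_4 lc_d_rc_23_2 lc_d_rc_27_10 lc_d_rc_8_1 lc_d_rc_15_1 lc_d_rc_15_1 lc_d_rc_25_6 lc_d_rc_23_8 lc_d_Cert_tree lc_d_rc_15_1 lc_d_rc_16_4 lc_d_rc_8_3 lc_d_rc_15_1 lc_d_Cert_tree lc_d_rc_16_4 lc_d_rc_8_3 lc_d_rc_22_8 lc_d_Cert_tree lc_d_Cert_tree lc_d_rc_17_2 lc_d_rc_15_1 lc_d_Cert_tree lc_d_rc_17_2 lc_d_rc_22_6 lc_d_rc_27_8 lc_d_rc_15_1) (@D3.rec (fun _ => (Cert rels S Gen.d)) lc_d_rc_8_3 lc_d_rc_8_3 lc_d_Cert_tree lc_d_rc_23_6 lc_d_Cert_tree lc_d_rc_15_1 lc_d_rc_8_3 lc_d_rc_24_5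 lc_d_rc_16_4 lc_d_rc_15_1 lc_d_rc_24_5 lc_d_rc_3_1 lc_d_rc_15_1 lc_d_rc_15_1 lc_d_rc_8_3 lc_d_Cert_tree lc_d_rc_15_1 lc_d_rc_8_1 lc_d_rc_22_6 lc_d_rc_16_4 lc_d_Cert_tree lc_d_rc_15_1 lc_d_Cert_tree lc_d_rc_17_2 lc_d_rc_15_1 lc_d_rc_12_13 lc_d_Cert_tree lc_d_rc_15_1 lc_d_rc_15_1 lc_d_rc_22_4 lc_d_rc_16_2 lc_d_Cert_tree lc_d_Cert_tree lc_d_rc_17_2 lc_d_rc_15_1 lc_d_rc_15_1 lc_d_rc_16_4 lc_d_rc_8_3 lc_d_rc_16_4 lc_d_rc_12_5 lc_d_rc_15_1 lc_d_rc_8_3 lc_d_Cert_tree lc_d_Cert_tree lc_d_rc_15_1 lc_d_rc_15_1 lc_d_rc_17_2 lc_d_rc_15_1 lc_d_rc_8_3 lc_d_rc_23_2 lc_d_Cert_tree lc_d_rc_15_1 lc_d_Cert_tree lc_d_Cert_tree lc_d_rc_15_1 lc_d_rc_17_2 lc_d_Cert_tree lc_d_rc_15_1 lc_d_Cert_tree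 lc_d_rc_15_1 lc_d_rc_22_4 lc_d_rc_17_2) (@D3.rec (fun _ => (Cert rels S Gen.d)) lc_d_Cert_tree lc_d_rc_15_1 lc_d_rc_15_1 lc_d_rc_27_10 lc_d_rc_27_10 lc_d_rc_27_10 lc_d_rc_8_1 lc_d_Cert_tree lc_d_rc_15_1 lc_d_rc_16_4 lc_d_Cert_tree lc_d_Cert_tree lc_d_rc_3_3 lc_d_rc_8_3 lc_d_rc_15_1 lc_d_rc_23_8 lc_d_rc_16_4 lc_d_rc_15_1 lc_d_rc_23_2 lc_d_rc_3_3 lc_d_rc_24_0 lc_d_rc_23_8 lc_d_Cert_tree lc_d_rc_15_1 lc_d_rc_16_4 lc_d_Cert_tree lc_d_rc_27_2 lc_d_rc_15_1 lc_d_rc_24_5 lc_d_rc_27_2 lc_d_rc_16_0 lc_d_Cert_tree lc_d_rc_3_3 lc_d_Cert_tree lc_d_rc_15_1 lc_d_Cert_tree lc_d_rc_3_1 lc_d_Cert_tree lc_d_Cert_tree lc_d_rc_15_1 lc_d_rc_15_1 lc_d_rc_22_2 lc_d_rc_15_1 lc_d_rc_16_4 lc_d_rc_17_2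 lc_d_rc_8_3 lc_d_Cert_tree lc_d_Cert_tree lc_d_Cert_tree lc_d_rc_17_2 lc_d_rc_27_4 lc_d_Cert_tree lc_d_Cert_tree lc_d_Cert_tree lc_d_rc_15_1 lc_d_rc_16_2 lc_d_rc_15_1 lc_d_rc_16_2 lc_d_rc_15_1 lc_d_rc_17_2 lc_d_rc_25_10 lc_d_rc_24_0) (@D3.rec (fun _ => (Cert rels S Gen.d)) lc_d_rc_23_4 lc_d_rc_15_1 lc_d_rc_16_4 lc_d_Cert_tree lc_d_rc_3_3 lc_d_rc_15_1 lc_d_Cert_tree lc_d_rc_17_2 lc_d_rc_15_1 lc_d_rc_15_1 lc_d_rc_15_1 lc_d_rc_3_3 lc_d_rc_8_1 lc_d_Cert_tree lc_d_rc_16_4 lc_d_rc_8_1 lc_d_rc_16_4 lc_d_rc_8_3 lc_d_rc_16_2 lc_d_rc_8_3 lc_d_Cert_tree lc_d_Cert_tree lc_d_Cert_tree lc_d_rc_17_2 lc_d_Cert_tree lc_d_Cert_tree lc_d_rc_15_1 lc_d_rc_8_3 lc_d_Cert_tree lc_d_rc_23_2 lc_d_rc_15_1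 lc_d_Cert_tree lc_d_Cert_tree lc_d_rc_15_1 lc_d_rc_24_5 lc_d_rc_15_1 lc_d_rc_23_2 lc_d_rc_24_0 lc_d_rc_22_2 lc_d_Cert_tree lc_d_Cert_tree lc_d_rc_15_1 lc_d_rc_27_4 lc_d_rc_22_4 lc_d_rc_3_1 lc_d_rc_15_1 lc_d_rc_16_2 lc_d_rc_15_1 lc_d_rc_15_1 lc_d_rc_17_2 lc_d_rc_27_8 lc_d_rc_15_1 lc_d_rc_17_2 lc_d_rc_17_2 lc_d_Cert_tree lc_d_rc_15_1 lc_d_rc_15_1 lc_d_rc_15_1 lc_d_rc_16_2 lc_d_rc_23_2 lc_d_Cert_tree lc_d_rc_15_1) (@D3.rec (fun _ => (Cert rels S Gen.d)) lc_d_rc_15_1 lc_d_rc_16_4 lc_d_rc_15_1 lc_d_rc_12_15 lc_d_rc_16_2 lc_d_rc_15_1 lc_d_rc_16_4 lc_d_rc_15_1 lc_d_rc_15_1 lc_d_rc_24_0 lc_d_Cert_tree lc_d_rc_15_1 lc_d_Cert_tree lc_d_rc_22_2 lc_d_rc_15_1 lc_d_Cert_tree lc_d_rc_15_1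 lc_d_rc_15_1 lc_d_rc_16_2 lc_d_rc_17_2 lc_d_rc_15_1 lc_d_Cert_tree lc_d_rc_15_1 lc_d_Cert_tree lc_d_Cert_tree lc_d_Cert_tree lc_d_rc_15_1 lc_d_rc_17_2 lc_d_rc_24_0 lc_d_rc_17_2 lc_d_rc_27_2 lc_d_rc_24_0 lc_d_rc_15_1 lc_d_rc_15_1 lc_d_rc_15_1 lc_d_rc_25_6 lc_d_Cert_tree lc_d_rc_15_1 lc_d_rc_27_8 lc_d_rc_27_10 lc_d_rc_15_1 lc_d_rc_16_4 lc_d_rc_3_3 lc_d_Cert_tree lc_d_rc_15_1 lc_d_rc_17_2 lc_d_Cert_tree lc_d_rc_15_1 lc_d_rc_22_4 lc_d_rc_15_1 lc_d_rc_27_4 lc_d_Cert_tree lc_d_rc_15_1 lc_d_Cert_tree lc_d_rc_15_1 lc_d_rc_15_1 lc_d_Cert_tree lc_d_rc_3_1 lc_d_rc_15_1 lc_d_rc_15_1 lc_d_rc_16_2 lc_d_rc_16_2) (@D3.rec (fun _ => (Cert rels S Gen.d)) lc_d_Cert_tree lc_d_rc_8_3 lc_d_Cert_tree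 lc_d_rc_8_3 lc_d_Cert_tree lc_d_rc_3_1 lc_d_Cert_tree lc_d_rc_15_1 lc_d_rc_15_1 lc_d_rc_3_1 lc_d_rc_16_4 lc_d_rc_15_1 lc_d_Cert_tree lc_d_rc_15_1 lc_d_rc_8_3 lc_d_rc_3_1 lc_d_rc_15_1 lc_d_rc_16_4 lc_d_Cert_tree lc_d_rc_15_1 lc_d_rc_16_4 lc_d_Cert_tree lc_d_rc_15_1 lc_d_rc_27_4 lc_d_rc_15_1 lc_d_rc_3_1 lc_d_rc_15_1 lc_d_rc_17_2 lc_d_Cert_tree lc_d_rc_17_2 lc_d_Cert_tree lc_d_rc_15_1 lc_d_rc_27_4 lc_d_rc_15_1 lc_d_rc_3_3 lc_d_rc_15_1 lc_d_Cert_tree lc_d_rc_17_2 lc_d_rc_15_1 lc_d_rc_15_1 lc_d_rc_24_5 lc_d_rc_16_2 lc_d_Cert_tree lc_d_Cert_tree lc_d_rc_15_1 lc_d_rc_15_1 lc_d_rc_24_5 lc_d_rc_16_2 lc_d_rc_23_4 lc_d_rc_24_5 lc_d_Cert_tree lc_d_rc_8_3 lc_d_rc_24_5 lc_d_rc_16_4 lc_d_rc_15_1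 lc_d_rc_23_8 lc_d_rc_8_1 lc_d_rc_15_1 lc_d_rc_15_1 lc_d_rc_23_8 lc_d_rc_16_2 lc_d_rc_15_1) (@D3.rec (fun _ => (Cert rels S Gen.d)) lc_d_Cert_tree lc_d_Cert_tree lc_d_rc_15_1 lc_d_rc_17_2 lc_d_Cert_tree lc_d_rc_15_1 lc_d_Cert_tree lc_d_rc_15_1 lc_d_Cert_tree lc_d_rc_15_1 lc_d_rc_22_4 lc_d_Cert_tree lc_d_rc_15_1 lc_d_Cert_tree lc_d_Cert_tree lc_d_rc_15_1 lc_d_rc_17_2 lc_d_rc_27_10 lc_d_rc_22_8 lc_d_rc_15_1 lc_d_rc_27_2 lc_d_Cert_tree lc_d_rc_15_1 lc_d_rc_15_1 lc_d_rc_15_1 lc_d_Cert_tree lc_d_rc_15_1 lc_d_rc_27_4 lc_d_rc_15_1 lc_d_Cert_tree lc_d_rc_3_1 lc_d_rc_15_1 lc_d_rc_17_2 lc_d_rc_23_2 lc_d_Cert_tree lc_d_rc_15_1 lc_d_rc_17_2 lc_d_rc_27_4 lc_d_rc_27_2 lc_d_rc_15_1 lc_d_rc_16_4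 lc_d_rc_15_1 lc_d_Cert_tree lc_d_rc_15_1 lc_d_rc_27_4 lc_d_rc_15_1 lc_d_rc_27_8 lc_d_rc_23_6 lc_d_rc_15_1 lc_d_rc_15_1 lc_d_rc_17_2 lc_d_rc_15_1 lc_d_rc_27_4 lc_d_Cert_tree lc_d_rc_15_1 lc_d_rc_15_1 lc_d_rc_15_1 lc_d_rc_12_3 lc_d_rc_17_2 lc_d_rc_16_4 lc_d_rc_8_3 lc_d_rc_16_4) (@D3.rec (fun _ => (Cert rels S Gen.d)) lc_d_Cert_tree lc_d_rc_15_1 lc_d_rc_22_6 lc_d_rc_16_4 lc_d_rc_16_4 lc_d_Cert_tree lc_d_Cert_tree lc_d_Cert_tree lc_d_rc_15_1 lc_d_rc_22_4 lc_d_Cert_tree lc_d_rc_15_1 lc_d_Cert_tree lc_d_rc_15_1 lc_d_rc_22_4 lc_d_rc_17_2 lc_d_Cert_tree lc_d_Cert_tree lc_d_rc_15_1 lc_d_rc_15_1 lc_d_rc_15_1 lc_d_rc_22_8 lc_d_rc_16_2 lc_d_rc_17_2 lc_d_rc_16_0 lc_d_rc_15_1 lc_d_rc_8_1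 lc_d_rc_22_2 lc_d_rc_8_3 lc_d_rc_22_2 lc_d_rc_3_3 lc_d_rc_8_3 lc_d_rc_22_6 lc_d_rc_16_4 lc_d_rc_22_6 lc_d_Cert_tree lc_d_rc_15_1 lc_d_rc_23_2 lc_d_rc_16_4 lc_d_rc_8_3 lc_d_Cert_tree lc_d_rc_15_1 lc_d_Cert_tree lc_d_rc_16_2 lc_d_rc_27_8 lc_d_rc_24_0 lc_d_Cert_tree lc_d_Cert_tree lc_d_Cert_tree lc_d_Cert_tree lc_d_rc_15_1 lc_d_rc_27_8 lc_d_rc_8_3 lc_d_rc_27_4 lc_d_Cert_tree lc_d_rc_23_8 lc_d_rc_22_4 lc_d_Cert_tree lc_d_rc_15_1 lc_d_Cert_tree lc_d_rc_15_1 lc_d_rc_27_2) (@D3.rec (fun _ => (Cert rels S Gen.d)) lc_d_rc_15_1 lc_d_rc_27_8 lc_d_rc_15_1 lc_d_rc_15_1 lc_d_Cert_tree lc_d_Cert_tree lc_d_rc_15_1 lc_d_rc_15_1 lc_d_Cert_tree lc_d_rc_15_1 lc_d_rc_8_3 lc_d_rc_15_1 lc_d_rc_15_1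 lc_d_rc_17_2 lc_d_rc_24_0 lc_d_rc_23_2 lc_d_rc_24_0 lc_d_rc_15_1 lc_d_rc_17_2 lc_d_rc_15_1 lc_d_rc_12_7 lc_d_rc_16_4 lc_d_rc_23_8 lc_d_rc_16_4 lc_d_rc_23_6 lc_d_rc_15_1 lc_d_rc_8_3 lc_d_Cert_tree lc_d_Cert_tree lc_d_rc_8_3 lc_d_rc_15_1 lc_d_rc_17_2 lc_d_rc_3_1 lc_d_rc_15_1 lc_d_Cert_tree lc_d_rc_15_1 lc_d_Cert_tree lc_d_rc_23_8 lc_d_rc_15_1 lc_d_rc_15_1 lc_d_rc_15_1 lc_d_Cert_tree lc_d_Cert_tree lc_d_rc_15_1 lc_d_rc_16_2 lc_d_rc_15_1 lc_d_rc_8_3 lc_d_Cert_tree lc_d_Cert_tree lc_d_rc_15_1 lc_d_rc_15_1 lc_d_rc_17_2 lc_d_rc_24_0 lc_d_rc_3_3 lc_d_Cert_tree lc_d_Cert_tree lc_d_rc_17_2 lc_d_rc_8_3 lc_d_rc_27_10 lc_d_rc_27_2 lc_d_rc_15_1 lc_d_rc_17_2) (@D3.rec (fun _ => (Cert rels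 S Gen.d)) lc_d_rc_15_1 lc_d_rc_15_1 lc_d_rc_15_1 lc_d_rc_17_2 lc_d_rc_8_3 lc_d_Cert_tree lc_d_rc_8_3 lc_d_rc_8_1 lc_d_Cert_tree lc_d_rc_15_1 lc_d_rc_8_3 lc_d_rc_16_2 lc_d_Cert_tree lc_d_Cert_tree lc_d_Cert_tree lc_d_rc_15_1 lc_d_rc_22_6 lc_d_rc_15_1 lc_d_rc_15_1 lc_d_rc_27_8 lc_d_rc_22_2 lc_d_rc_16_2 lc_d_rc_15_1 lc_d_rc_15_1 lc_d_rc_23_2 lc_d_rc_16_2 lc_d_rc_23_6 lc_d_rc_24_0 lc_d_rc_16_4 lc_d_rc_8_3 lc_d_rc_22_4 lc_d_rc_3_3 lc_d_rc_23_8 lc_d_rc_3_3 lc_d_Cert_tree lc_d_rc_15_1 lc_d_Cert_tree lc_d_rc_15_1 lc_d_rc_15_1 lc_d_rc_15_1 lc_d_rc_16_2 lc_d_rc_8_3 lc_d_rc_16_4 lc_d_rc_22_6 lc_d_Cert_tree lc_d_Cert_tree lc_d_rc_15_1 lc_d_rc_22_4 lc_d_rc_16_4 lc_d_rc_8_3 lc_d_rc_15_1 lc_d_rc_15_1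 lc_d_rc_16_2 lc_d_rc_23_8 lc_d_rc_8_3 lc_d_rc_8_1 lc_d_rc_8_3 lc_d_rc_23_6 lc_d_rc_16_4 lc_d_rc_24_0 lc_d_rc_8_3 lc_d_Cert_tree) (@D3.rec (fun _ => (Cert rels S Gen.d)) lc_d_Cert_tree lc_d_Cert_tree lc_d_rc_15_1 lc_d_rc_17_2 lc_d_rc_15_1 lc_d_rc_24_0 lc_d_Cert_tree lc_d_rc_17_2 lc_d_rc_15_1 lc_d_rc_15_1 lc_d_rc_15_1 lc_d_rc_15_1 lc_d_rc_15_1 lc_d_Cert_tree lc_d_Cert_tree lc_d_rc_15_1 lc_d_rc_8_1 lc_d_rc_15_1 lc_d_rc_22_2 lc_d_rc_15_1 lc_d_rc_8_3 lc_d_rc_24_5 lc_d_rc_15_1 lc_d_rc_15_1 lc_d_rc_15_1 lc_d_rc_8_3 lc_d_rc_3_3 lc_d_rc_27_4 lc_d_rc_27_2 lc_d_rc_8_3 lc_d_rc_23_2 lc_d_rc_25_18 lc_d_rc_15_1 lc_d_rc_15_1 lc_d_rc_17_2 lc_d_rc_15_1 lc_d_rc_22_4 lc_d_rc_3_1 lc_d_rc_15_1 lc_d_Cert_tree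 lc_d_rc_15_1 lc_d_rc_16_4 lc_d_rc_8_3 lc_d_rc_15_1 lc_d_rc_15_1 lc_d_rc_15_1 lc_d_rc_17_2 lc_d_rc_22_2 lc_d_rc_15_1 lc_d_Cert_tree lc_d_rc_15_1 lc_d_rc_15_1 lc_d_Cert_tree lc_d_rc_17_2 lc_d_Cert_tree lc_d_rc_15_1 lc_d_rc_17_2 lc_d_rc_24_0 lc_d_rc_27_8 lc_d_rc_15_1 lc_d_rc_24_5 lc_d_rc_16_2) (@D3.rec (fun _ => (Cert rels S Gen.d)) lc_d_Cert_tree lc_d_Cert_tree lc_d_rc_8_1 lc_d_Cert_tree lc_d_Cert_tree lc_d_rc_22_2 lc_d_rc_8_3 lc_d_rc_16_2 lc_d_rc_15_1 lc_d_rc_27_2 lc_d_Cert_tree lc_d_Cert_tree lc_d_rc_17_2 lc_d_rc_15_1 lc_d_rc_15_1 lc_d_rc_3_1 lc_d_rc_17_2 lc_d_rc_15_1 lc_d_rc_27_4 lc_d_rc_3_1 lc_d_rc_15_1 lc_d_Cert_tree lc_d_rc_15_1 lc_d_Cert_tree lc_d_rc_15_1 lc_d_rc_15_1 lc_d_Cert_tree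 lc_d_rc_3_3 lc_d_Cert_tree lc_d_rc_15_1 lc_d_rc_15_1 lc_d_rc_15_1 lc_d_rc_22_2 lc_d_rc_16_2 lc_d_Cert_tree lc_d_rc_16_4 lc_d_rc_15_1 lc_d_rc_22_4 lc_d_rc_15_1 lc_d_Cert_tree lc_d_rc_15_1 lc_d_rc_15_1 lc_d_rc_15_1 lc_d_rc_16_2 lc_d_rc_17_0 lc_d_rc_8_3 lc_d_Cert_tree lc_d_Cert_tree lc_d_Cert_tree lc_d_rc_15_1 lc_d_rc_22_4 lc_d_rc_16_4 lc_d_rc_15_1 lc_d_rc_23_6 lc_d_rc_22_8 lc_d_rc_16_4 lc_d_rc_8_3 lc_d_rc_24_0 lc_d_rc_15_1 lc_d_rc_8_3 lc_d_rc_23_6 lc_d_rc_15_1) (@D3.rec (fun _ => (Cert rels S Gen.d)) lc_d_rc_15_1 lc_d_rc_24_0 lc_d_Cert_tree lc_d_rc_15_1 lc_d_Cert_tree lc_d_rc_27_10 lc_d_rc_24_0 lc_d_rc_24_5 lc_d_rc_15_1 lc_d_rc_15_1 lc_d_Cert_tree lc_d_rc_15_1 lc_d_rc_15_1 lc_d_rc_22_4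 lc_d_rc_16_4 lc_d_Cert_tree lc_d_rc_15_1 lc_d_rc_12_1 lc_d_Cert_tree lc_d_Cert_tree lc_d_rc_15_1 lc_d_rc_15_1 lc_d_rc_16_4 lc_d_Cert_tree lc_d_rc_15_1 lc_d_rc_15_1 lc_d_rc_15_1 lc_d_rc_16_2 lc_d_rc_15_1 lc_d_Cert_tree lc_d_Cert_tree lc_d_Cert_tree lc_d_rc_15_1 lc_d_rc_22_4 lc_d_rc_16_4 lc_d_Cert_tree lc_d_rc_16_4 lc_d_rc_8_3 lc_d_rc_23_6 lc_d_Cert_tree lc_d_rc_8_3 lc_d_rc_24_5 lc_d_rc_16_4 lc_d_rc_23_8 lc_d_rc_15_1 lc_d_Cert_tree lc_d_rc_15_1 lc_d_rc_22_6 lc_d_Cert_tree lc_d_Cert_tree lc_d_rc_15_1 lc_d_rc_25_10 lc_d_rc_15_1 lc_d_rc_8_3 lc_d_rc_15_1 lc_d_rc_23_2 lc_d_rc_8_3 lc_d_rc_8_3 lc_d_rc_8_3 lc_d_rc_15_1 lc_d_rc_22_4 lc_d_rc_15_1) (@D3.rec (fun _ => (Cert rels S Gen.d))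 lc_d_rc_23_4 lc_d_rc_15_1 lc_d_rc_3_1 lc_d_rc_8_3 lc_d_Cert_tree lc_d_rc_15_1 lc_d_rc_16_4 lc_d_rc_16_0 lc_d_rc_27_10 lc_d_rc_15_1 lc_d_rc_16_4 lc_d_rc_17_0 lc_d_Cert_tree lc_d_rc_15_1 lc_d_rc_8_3 lc_d_rc_25_18 lc_d_rc_27_10 lc_d_Cert_tree lc_d_rc_15_1 lc_d_rc_16_4 lc_d_Cert_tree lc_d_Cert_tree lc_d_rc_3_3 lc_d_rc_8_3 lc_d_rc_27_2 lc_d_rc_8_3 lc_d_rc_16_4 lc_d_rc_8_3 lc_d_rc_22_6 lc_d_Cert_tree lc_d_Cert_tree lc_d_rc_17_2 lc_d_rc_23_8 lc_d_rc_27_8 lc_d_rc_24_0 lc_d_rc_16_4 lc_d_rc_15_1 lc_d_rc_15_1 lc_d_rc_15_1 lc_d_rc_16_4 lc_d_rc_15_1 lc_d_rc_27_4 lc_d_rc_8_3 lc_d_rc_16_4 lc_d_rc_27_10 lc_d_rc_15_1 lc_d_rc_24_5 lc_d_rc_17_0 lc_d_Cert_tree lc_d_rc_15_1 lc_d_rc_22_2 lc_d_rc_16_2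 lc_d_rc_24_5 lc_d_rc_23_4 lc_d_rc_15_1 lc_d_rc_8_1 lc_d_rc_3_3 lc_d_Cert_tree lc_d_rc_15_1 lc_d_rc_8_3 lc_d_rc_3_3 lc_d_rc_16_4) (@D3.rec (fun _ => (Cert rels S Gen.d)) lc_d_rc_8_3 lc_d_rc_17_2 lc_d_rc_16_4 lc_d_rc_24_0 lc_d_rc_24_5 lc_d_rc_15_1 lc_d_rc_15_1 lc_d_rc_8_3 lc_d_rc_15_1 lc_d_rc_8_3 lc_d_rc_12_5 lc_d_rc_16_2 lc_d_Cert_tree lc_d_rc_15_1 lc_d_rc_23_8 lc_d_rc_22_6 lc_d_rc_16_4 lc_d_rc_8_3 lc_d_rc_27_4 lc_d_rc_27_10 lc_d_rc_23_8 lc_d_rc_3_3 lc_d_rc_15_1 lc_d_rc_3_3 lc_d_rc_17_0 lc_d_rc_16_4 lc_d_rc_15_1 lc_d_rc_15_1 lc_d_rc_23_6 lc_d_rc_15_1 lc_d_rc_16_4 lc_d_Cert_tree lc_d_Cert_tree lc_d_rc_17_2 lc_d_rc_15_1 lc_d_rc_15_1 lc_d_rc_27_4 lc_d_rc_17_2 lc_d_rc_3_3 lc_d_rc_15_1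 lc_d_rc_15_1 lc_d_rc_22_6 lc_d_rc_16_2 lc_d_rc_16_2 lc_d_rc_8_3 lc_d_rc_22_4 lc_d_rc_16_4 lc_d_rc_15_1 lc_d_rc_8_3 lc_d_rc_15_1 lc_d_rc_16_2 lc_d_rc_15_1 lc_d_rc_16_4 lc_d_rc_16_4 lc_d_rc_22_8 lc_d_rc_8_3 lc_d_rc_15_1 lc_d_rc_8_3 lc_d_rc_16_0 lc_d_rc_15_1 lc_d_rc_17_2 lc_d_Cert_tree) (@D3.rec (fun _ => (Cert rels S Gen.d)) lc_d_Cert_tree lc_d_rc_15_1 lc_d_Cert_tree lc_d_Cert_tree lc_d_rc_15_1 lc_d_rc_22_8 lc_d_rc_15_1 lc_d_rc_15_1 lc_d_rc_8_3 lc_d_rc_17_2 lc_d_Cert_tree lc_d_rc_15_1 lc_d_rc_15_1 lc_d_rc_8_3 lc_d_rc_17_2 lc_d_rc_15_1 lc_d_rc_22_2 lc_d_rc_16_4 lc_d_Cert_tree lc_d_Cert_tree lc_d_rc_15_1 lc_d_rc_15_1 lc_d_rc_22_2 lc_d_rc_22_2 lc_d_rc_8_3 lc_d_rc_22_2 lc_d_rc_3_3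 lc_d_rc_8_3 lc_d_rc_15_1 lc_d_rc_16_4 lc_d_rc_22_2 lc_d_rc_23_2 lc_d_rc_8_3 lc_d_rc_22_4 lc_d_rc_16_4 lc_d_rc_15_1 lc_d_Cert_tree lc_d_Cert_tree lc_d_rc_15_1 lc_d_rc_12_5 lc_d_rc_15_1 lc_d_rc_15_1 lc_d_rc_22_2 lc_d_rc_16_4 lc_d_rc_24_0 lc_d_rc_15_1 lc_d_rc_22_6 lc_d_rc_16_4 lc_d_rc_27_10 lc_d_rc_27_10 lc_d_Cert_tree lc_d_rc_15_1 lc_d_rc_16_4 lc_d_rc_23_2 lc_d_rc_23_8 lc_d_Cert_tree lc_d_rc_15_1 lc_d_rc_8_3 lc_d_rc_16_2 lc_d_Cert_tree lc_d_Cert_tree lc_d_rc_15_1) (@D3.rec (fun _ => (Cert rels S Gen.d)) lc_d_Cert_tree lc_d_Cert_tree lc_d_rc_15_1 lc_d_rc_27_2 lc_d_rc_15_1 lc_d_rc_8_3 lc_d_Cert_tree lc_d_rc_16_4 lc_d_Cert_tree lc_d_Cert_tree lc_d_rc_17_2 lc_d_rc_15_1 lc_d_rc_22_2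 lc_d_Cert_tree lc_d_rc_23_6 lc_d_rc_15_1 lc_d_Cert_tree lc_d_rc_15_1 lc_d_Cert_tree lc_d_Cert_tree lc_d_Cert_tree lc_d_rc_17_2 lc_d_rc_15_1 lc_d_rc_15_1 lc_d_rc_15_1 lc_d_rc_23_6 lc_d_Cert_tree lc_d_Cert_tree lc_d_rc_15_1 lc_d_rc_15_1 lc_d_rc_22_6 lc_d_rc_16_2 lc_d_rc_15_1 lc_d_rc_22_2 lc_d_rc_16_4 lc_d_rc_23_6 lc_d_rc_22_2 lc_d_rc_16_4 lc_d_rc_8_3 lc_d_rc_17_2 lc_d_rc_16_4 lc_d_rc_22_2 lc_d_Cert_tree lc_d_rc_8_3 lc_d_rc_22_4 lc_d_rc_12_15 lc_d_rc_15_1 lc_d_rc_15_1 lc_d_rc_16_2 lc_d_Cert_tree lc_d_rc_15_1 lc_d_Cert_tree lc_d_rc_15_1 lc_d_Cert_tree lc_d_rc_17_0 lc_d_rc_15_1 lc_d_rc_16_4 lc_d_Cert_tree lc_d_Cert_tree lc_d_Cert_tree lc_d_Cert_tree lc_d_Cert_tree) (@D3.rec (fun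 _ => (Cert rels S Gen.d)) lc_d_rc_15_1 lc_d_rc_15_1 lc_d_rc_15_1 lc_d_rc_23_2 lc_d_rc_3_1 lc_d_Cert_tree lc_d_rc_15_1 lc_d_rc_15_1 lc_d_rc_15_1 lc_d_rc_17_2 lc_d_rc_8_3 lc_d_rc_24_5 lc_d_rc_16_2 lc_d_rc_8_3 lc_d_rc_15_1 lc_d_rc_16_4 lc_d_rc_12_9 lc_d_Cert_tree lc_d_rc_22_2 lc_d_rc_24_5 lc_d_rc_15_1 lc_d_Cert_tree lc_d_rc_15_1 lc_d_Cert_tree lc_d_Cert_tree lc_d_rc_17_2 lc_d_rc_15_1 lc_d_rc_16_4 lc_d_rc_15_1 lc_d_rc_8_3 lc_d_Cert_tree lc_d_rc_15_1 lc_d_Cert_tree lc_d_rc_15_1 lc_d_Cert_tree lc_d_rc_17_2 lc_d_Cert_tree lc_d_rc_15_1 lc_d_rc_15_1 lc_d_rc_24_0 lc_d_rc_22_4 lc_d_rc_8_3 lc_d_rc_16_4 lc_d_rc_27_4 lc_d_rc_23_4 lc_d_rc_23_2 lc_d_rc_8_3 lc_d_rc_22_4 lc_d_rc_16_2 lc_d_rc_15_1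 lc_d_rc_3_3 lc_d_rc_15_1 lc_d_rc_15_1 lc_d_rc_16_2 lc_d_rc_8_3 lc_d_rc_15_1 lc_d_Cert_tree lc_d_rc_15_1 lc_d_Cert_tree lc_d_rc_15_1 lc_d_rc_15_1 lc_d_rc_15_1) (@D3.rec (fun _ => (Cert rels S Gen.d)) lc_d_rc_15_1 lc_d_rc_8_3 lc_d_rc_16_4 lc_d_rc_24_5 lc_d_rc_15_1 lc_d_rc_27_10 lc_d_rc_23_4 lc_d_rc_22_4 lc_d_Cert_tree lc_d_Cert_tree lc_d_rc_15_1 lc_d_rc_17_2 lc_d_rc_15_1 lc_d_rc_15_1 lc_d_rc_3_3 lc_d_rc_17_2 lc_d_rc_15_1 lc_d_rc_23_8 lc_d_rc_15_1 lc_d_Cert_tree lc_d_Cert_tree lc_d_rc_15_1 lc_d_rc_15_1 lc_d_rc_3_3 lc_d_rc_16_4 lc_d_Cert_tree lc_d_rc_16_4 lc_d_Cert_tree lc_d_rc_16_4 lc_d_Cert_tree lc_d_Cert_tree lc_d_rc_17_2 lc_d_rc_17_2 lc_d_Cert_tree lc_d_rc_15_1 lc_d_rc_15_1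 lc_d_rc_27_4 lc_d_rc_15_1 lc_d_rc_8_1 lc_d_rc_15_1 lc_d_Cert_tree lc_d_Cert_tree lc_d_rc_27_8 lc_d_rc_17_2 lc_d_rc_15_1 lc_d_rc_15_1 lc_d_rc_22_6 lc_d_rc_16_4 lc_d_rc_23_2 lc_d_rc_15_1 lc_d_rc_17_2 lc_d_rc_24_0 lc_d_Cert_tree lc_d_rc_15_1 lc_d_Cert_tree lc_d_Cert_tree lc_d_Cert_tree lc_d_rc_15_1 lc_d_rc_17_2 lc_d_rc_23_4 lc_d_rc_15_1 lc_d_rc_17_2) (@D3.rec (fun _ => (Cert rels S Gen.d)) lc_d_rc_15_1 lc_d_Cert_tree lc_d_rc_15_1 lc_d_Cert_tree lc_d_rc_23_6 lc_d_rc_16_2 lc_d_rc_8_3 lc_d_rc_27_10 lc_d_rc_12_15 lc_d_rc_15_1 lc_d_rc_15_1 lc_d_Cert_tree lc_d_rc_15_1 lc_d_Cert_tree lc_d_rc_22_2 lc_d_rc_24_0 lc_d_rc_24_0 lc_d_Cert_tree lc_d_Cert_tree lc_d_rc_15_1 lc_d_rc_16_4 lc_d_rc_22_2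 lc_d_rc_22_6 lc_d_rc_15_1 lc_d_rc_27_2 lc_d_Cert_tree lc_d_Cert_tree lc_d_rc_17_2 lc_d_Cert_tree lc_d_rc_22_6 lc_d_rc_15_1 lc_d_rc_8_3 lc_d_rc_17_0 lc_d_rc_15_1 lc_d_Cert_tree lc_d_Cert_tree lc_d_Cert_tree lc_d_rc_17_2 lc_d_rc_8_3 lc_d_Cert_tree lc_d_rc_25_2 lc_d_rc_15_1 lc_d_rc_16_2 lc_d_rc_8_3 lc_d_rc_16_4 lc_d_rc_15_1 lc_d_rc_8_3 lc_d_rc_15_1 lc_d_rc_15_1 lc_d_rc_16_2 lc_d_Cert_tree lc_d_Cert_tree lc_d_Cert_tree lc_d_Cert_tree lc_d_Cert_tree lc_d_rc_15_1 lc_d_rc_22_2 lc_d_rc_16_2 lc_d_rc_17_2 lc_d_rc_3_3 lc_d_Cert_tree lc_d_rc_15_1) (@D3.rec (fun _ => (Cert rels S Gen.d)) lc_d_rc_22_6 lc_d_rc_16_4 lc_d_Cert_tree lc_d_rc_15_1 lc_d_rc_15_1 lc_d_Cert_tree lc_d_rc_23_6 lc_d_rc_27_8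 lc_d_Cert_tree lc_d_Cert_tree lc_d_rc_17_2 lc_d_rc_15_1 lc_d_rc_8_3 lc_d_rc_22_8 lc_d_rc_17_2 lc_d_rc_8_3 lc_d_rc_22_2 lc_d_rc_16_4 lc_d_rc_15_1 lc_d_Cert_tree lc_d_Cert_tree lc_d_Cert_tree lc_d_rc_15_1 lc_d_rc_17_2 lc_d_rc_22_6 lc_d_rc_27_2 lc_d_rc_8_3 lc_d_rc_23_2 lc_d_rc_27_8 lc_d_Cert_tree lc_d_rc_15_1 lc_d_rc_16_4 lc_d_Cert_tree lc_d_Cert_tree lc_d_rc_15_1 lc_d_rc_15_1 lc_d_rc_22_2 lc_d_rc_16_2 lc_d_Cert_tree lc_d_rc_15_1 lc_d_rc_15_1 lc_d_rc_15_1 lc_d_rc_27_8 lc_d_rc_8_1 lc_d_rc_8_3 lc_d_Cert_tree lc_d_Cert_tree lc_d_rc_27_10 lc_d_rc_15_1 lc_d_rc_15_1 lc_d_rc_15_1 lc_d_Cert_tree lc_d_rc_17_0 lc_d_rc_15_1 lc_d_rc_15_1 lc_d_rc_17_2 lc_d_rc_15_1 lc_d_rc_17_2 lc_d_rc_8_3 lc_d_rc_27_2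 lc_d_rc_15_1 lc_d_rc_16_4) (@D3.rec (fun _ => (Cert rels S Gen.d)) lc_d_rc_8_1 lc_d_Cert_tree lc_d_Cert_tree lc_d_Cert_tree lc_d_rc_15_1 lc_d_rc_16_4 lc_d_rc_8_3 lc_d_rc_16_4 lc_d_rc_8_3 lc_d_rc_16_4 lc_d_rc_8_1 lc_d_rc_22_8 lc_d_Cert_tree lc_d_Cert_tree lc_d_rc_17_2 lc_d_rc_27_2 lc_d_rc_27_10 lc_d_rc_3_1 lc_d_rc_15_1 lc_d_rc_16_4 lc_d_rc_24_0 lc_d_rc_27_10 lc_d_rc_15_1 lc_d_Cert_tree lc_d_Cert_tree lc_d_rc_15_1 lc_d_rc_15_1 lc_d_rc_15_1 lc_d_rc_23_6 lc_d_rc_15_1 lc_d_Cert_tree lc_d_rc_17_0 lc_d_Cert_tree lc_d_Cert_tree lc_d_rc_22_8 lc_d_rc_27_10 lc_d_rc_23_2 lc_d_rc_3_3 lc_d_rc_8_3 lc_d_rc_27_8 lc_d_rc_15_1 lc_d_rc_22_2 lc_d_rc_23_2 lc_d_Cert_tree lc_d_rc_3_3 lc_d_rc_15_1 lc_d_rc_3_3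 lc_d_Cert_tree lc_d_Cert_tree lc_d_rc_15_1 lc_d_rc_17_2 lc_d_rc_22_6 lc_d_rc_3_3 lc_d_rc_15_1 lc_d_Cert_tree lc_d_rc_27_4 lc_d_rc_24_5 lc_d_Cert_tree lc_d_Cert_tree lc_d_rc_15_1 lc_d_Cert_tree lc_d_rc_23_2) (@D3.rec (fun _ => (Cert rels S Gen.d)) lc_d_rc_15_1 lc_d_rc_15_1 lc_d_rc_15_1 lc_d_Cert_tree lc_d_Cert_tree lc_d_rc_23_2 lc_d_rc_15_1 lc_d_Cert_tree lc_d_Cert_tree lc_d_rc_15_1 lc_d_rc_17_2 lc_d_rc_22_6 lc_d_Cert_tree lc_d_rc_16_4 lc_d_rc_15_1 lc_d_rc_15_1 lc_d_rc_27_2 lc_d_rc_15_1 lc_d_rc_27_8 lc_d_rc_15_1 lc_d_Cert_tree lc_d_rc_15_1 lc_d_rc_24_0 lc_d_rc_8_3 lc_d_Cert_tree lc_d_rc_24_5 lc_d_rc_8_1 lc_d_rc_15_1 lc_d_rc_15_1 lc_d_Cert_tree lc_d_Cert_tree lc_d_rc_15_1 lc_d_rc_17_2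 lc_d_rc_22_6 lc_d_rc_24_0 lc_d_Cert_tree lc_d_rc_15_1 lc_d_rc_16_0 lc_d_rc_22_4 lc_d_rc_16_4 lc_d_Cert_tree lc_d_Cert_tree lc_d_rc_15_1 lc_d_rc_23_2 lc_d_rc_16_4 lc_d_rc_15_1 lc_d_rc_16_4 lc_d_rc_8_3 lc_d_rc_3_3 lc_d_rc_17_0 lc_d_rc_8_3 lc_d_rc_15_1 lc_d_rc_22_6 lc_d_Cert_tree lc_d_Cert_tree lc_d_rc_8_1 lc_d_rc_16_4 lc_d_rc_3_3 lc_d_rc_16_4 lc_d_rc_24_5 lc_d_rc_27_2 lc_d_rc_23_2) (@D3.rec (fun _ => (Cert rels S Gen.d)) lc_d_rc_24_0 lc_d_rc_8_3 lc_d_rc_8_3 lc_d_rc_3_1 lc_d_rc_16_2 lc_d_Cert_tree lc_d_rc_15_1 lc_d_rc_15_1 lc_d_rc_17_2 lc_d_Cert_tree lc_d_Cert_tree lc_d_rc_15_1 lc_d_rc_27_4 lc_d_Cert_tree lc_d_rc_23_2 lc_d_rc_15_1 lc_d_Cert_tree lc_d_rc_17_2 lc_d_Cert_tree lc_d_Cert_tree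 lc_d_rc_8_3 lc_d_rc_22_8 lc_d_rc_22_6 lc_d_rc_8_3 lc_d_rc_22_6 lc_d_rc_15_1 lc_d_rc_23_8 lc_d_rc_23_8 lc_d_rc_15_1 lc_d_Cert_tree lc_d_Cert_tree lc_d_Cert_tree lc_d_rc_15_1 lc_d_Cert_tree lc_d_rc_15_1 lc_d_rc_8_3 lc_d_rc_22_6 lc_d_rc_16_4 lc_d_rc_23_4 lc_d_rc_22_2 lc_d_rc_15_1 lc_d_rc_22_6 lc_d_rc_16_4 lc_d_rc_15_1 lc_d_rc_27_8 lc_d_rc_22_4 lc_d_rc_16_2 lc_d_Cert_tree lc_d_rc_15_1 lc_d_rc_15_1 lc_d_rc_23_2 lc_d_rc_16_2 lc_d_rc_8_3 lc_d_rc_22_8 lc_d_rc_3_3 lc_d_rc_8_3 lc_d_rc_23_2 lc_d_rc_16_4 lc_d_rc_22_2 lc_d_rc_22_6 lc_d_Cert_tree lc_d_rc_15_1) (@D3.rec (fun _ => (Cert rels S Gen.d)) lc_d_Cert_tree lc_d_rc_27_4 lc_d_rc_15_1 lc_d_rc_17_2 lc_d_rc_15_1 lc_d_rc_15_1 lc_d_rc_24_0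 lc_d_rc_23_4 lc_d_rc_24_5 lc_d_rc_15_1 lc_d_rc_16_4 lc_d_rc_15_1 lc_d_rc_8_3 lc_d_rc_3_1 lc_d_rc_23_8 lc_d_rc_23_2 lc_d_rc_15_1 lc_d_rc_15_1 lc_d_rc_15_1 lc_d_rc_16_4 lc_d_rc_23_2 lc_d_rc_3_3 lc_d_rc_25_18 lc_d_rc_15_1 lc_d_rc_8_3 lc_d_rc_22_4 lc_d_Cert_tree lc_d_Cert_tree lc_d_rc_16_0 lc_d_rc_8_3 lc_d_rc_24_0 lc_d_rc_16_0 lc_d_rc_15_1 lc_d_rc_12_9 lc_d_rc_16_4 lc_d_Cert_tree lc_d_rc_15_1 lc_d_rc_15_1 lc_d_rc_24_5 lc_d_rc_16_4 lc_d_rc_23_8 lc_d_rc_23_8 lc_d_rc_15_1 lc_d_rc_15_1 lc_d_Cert_tree lc_d_Cert_tree lc_d_rc_15_1 lc_d_rc_15_1 lc_d_Cert_tree lc_d_rc_8_3 lc_d_rc_24_5 lc_d_Cert_tree lc_d_Cert_tree lc_d_rc_3_3 lc_d_rc_15_1 lc_d_rc_27_10 lc_d_rc_24_5 lc_d_rc_15_1 lc_d_rc_27_4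 lc_d_rc_24_0 lc_d_rc_3_3 lc_d_rc_8_3) (@D3.rec (fun _ => (Cert rels S Gen.d)) lc_d_rc_23_2 lc_d_rc_15_1 lc_d_rc_8_3 lc_d_Cert_tree lc_d_Cert_tree lc_d_Cert_tree lc_d_rc_27_2 lc_d_rc_22_6 lc_d_Cert_tree lc_d_Cert_tree lc_d_rc_15_1 lc_d_rc_17_2 lc_d_Cert_tree lc_d_rc_8_3 lc_d_rc_17_2 lc_d_Cert_tree lc_d_rc_15_1 lc_d_rc_15_1 lc_d_Cert_tree lc_d_Cert_tree lc_d_rc_15_1 lc_d_rc_27_2 lc_d_rc_15_1 lc_d_rc_15_1 lc_d_Cert_tree lc_d_rc_17_2 lc_d_rc_15_1 lc_d_rc_23_2 lc_d_rc_15_1 lc_d_rc_23_4 lc_d_rc_24_5 lc_d_rc_17_0 lc_d_rc_17_2 lc_d_rc_15_1 lc_d_rc_15_1 lc_d_rc_8_3 lc_d_rc_15_1 lc_d_rc_24_5 lc_d_rc_8_3 lc_d_rc_23_2 lc_d_Cert_tree lc_d_rc_16_4 lc_d_rc_8_3 lc_d_Cert_tree lc_d_rc_15_1 lc_d_rc_15_1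 lc_d_rc_12_9 lc_d_rc_16_2 lc_d_rc_17_2 lc_d_rc_8_3 lc_d_rc_15_1 lc_d_rc_15_1 lc_d_rc_27_4 lc_d_rc_15_1 lc_d_Cert_tree lc_d_rc_17_2 lc_d_rc_15_1 lc_d_rc_15_1 lc_d_rc_3_3 lc_d_rc_16_2 lc_d_Cert_tree lc_d_Cert_tree) (@D3.rec (fun _ => (Cert rels S Gen.d)) lc_d_rc_15_1 lc_d_rc_15_1 lc_d_rc_15_1 lc_d_rc_24_5 lc_d_rc_8_3 lc_d_rc_23_4 lc_d_rc_16_4 lc_d_rc_8_3 lc_d_rc_22_4 lc_d_rc_16_4 lc_d_rc_15_1 lc_d_rc_27_4 lc_d_rc_15_1 lc_d_rc_27_2 lc_d_rc_23_8 lc_d_rc_3_3 lc_d_rc_3_3 lc_d_rc_3_3 lc_d_rc_27_8 lc_d_rc_15_1 lc_d_Cert_tree lc_d_rc_16_4 lc_d_Cert_tree lc_d_Cert_tree lc_d_rc_22_2 lc_d_Cert_tree lc_d_rc_15_1 lc_d_Cert_tree lc_d_Cert_tree lc_d_rc_15_1 lc_d_Cert_tree lc_d_rc_15_1 lc_d_rc_27_8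 lc_d_rc_23_6 lc_d_rc_15_1 lc_d_rc_22_4 lc_d_rc_17_2 lc_d_rc_15_1 lc_d_rc_17_2 lc_d_rc_22_6 lc_d_rc_15_1 lc_d_Cert_tree lc_d_rc_8_1 lc_d_rc_15_1 lc_d_rc_22_2 lc_d_rc_24_5 lc_d_rc_8_3 lc_d_rc_22_2 lc_d_rc_3_1 lc_d_rc_8_3 lc_d_rc_23_2 lc_d_rc_16_4 lc_d_rc_23_2 lc_d_rc_22_6 lc_d_Cert_tree lc_d_rc_15_1 lc_d_rc_22_4 lc_d_rc_16_4 lc_d_rc_15_1 lc_d_rc_17_2 lc_d_rc_8_1 lc_d_rc_15_1) (@D3.rec (fun _ => (Cert rels S Gen.d)) lc_d_rc_17_2 lc_d_rc_16_4 lc_d_rc_15_1 lc_d_rc_22_2 lc_d_rc_15_1 lc_d_rc_22_2 lc_d_rc_16_4 lc_d_rc_27_2 lc_d_rc_16_0 lc_d_rc_27_8 lc_d_rc_27_2 lc_d_rc_15_1 lc_d_rc_8_3 lc_d_rc_22_6 lc_d_rc_16_4 lc_d_rc_24_5 lc_d_Cert_tree lc_d_rc_24_5 lc_d_Cert_tree lc_d_rc_16_4 lc_d_rc_16_2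 lc_d_Cert_tree lc_d_Cert_tree lc_d_rc_17_2 lc_d_rc_16_4 lc_d_rc_16_4 lc_d_rc_8_3 lc_d_rc_15_1 lc_d_rc_23_4 lc_d_rc_15_1 lc_d_rc_15_1 lc_d_rc_23_4 lc_d_rc_23_4 lc_d_rc_22_2 lc_d_rc_15_1 lc_d_rc_16_4 lc_d_rc_27_2 lc_d_rc_15_1 lc_d_rc_8_3 lc_d_Cert_tree lc_d_Cert_tree lc_d_rc_15_1 lc_d_Cert_tree lc_d_rc_16_4 lc_d_rc_8_3 lc_d_rc_15_1 lc_d_rc_23_6 lc_d_rc_24_5 lc_d_rc_24_5 lc_d_Cert_tree lc_d_rc_15_1 lc_d_rc_15_1 lc_d_rc_16_4 lc_d_rc_8_3 lc_d_rc_16_4 lc_d_rc_15_1 lc_d_rc_22_6 lc_d_rc_17_2 lc_d_rc_27_4 lc_d_rc_3_3 lc_d_rc_24_5 lc_d_rc_15_1) (@D3.rec (fun _ => (Cert rels S Gen.d)) lc_d_rc_15_1 lc_d_rc_15_1 lc_d_rc_15_1 lc_d_rc_15_1 lc_d_rc_15_1 lc_d_rc_24_0 lc_d_rc_16_2 lc_d_Cert_tree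 lc_d_Cert_tree lc_d_rc_15_1 lc_d_rc_22_2 lc_d_rc_16_4 lc_d_rc_16_2 lc_d_rc_8_3 lc_d_rc_17_2 lc_d_rc_24_0 lc_d_rc_15_1 lc_d_rc_8_1 lc_d_rc_15_1 lc_d_rc_23_2 lc_d_rc_15_1 lc_d_rc_22_4 lc_d_rc_16_4 lc_d_rc_15_1 lc_d_Cert_tree lc_d_rc_15_1 lc_d_rc_16_2 lc_d_rc_15_1 lc_d_rc_27_2 lc_d_rc_15_1 lc_d_rc_15_1 lc_d_Cert_tree lc_d_rc_22_6 lc_d_rc_15_1 lc_d_rc_8_1 lc_d_Cert_tree lc_d_rc_15_1 lc_d_Cert_tree lc_d_rc_15_1 lc_d_rc_24_0 lc_d_rc_23_2 lc_d_rc_15_1 lc_d_rc_15_1 lc_d_rc_23_6 lc_d_rc_22_4 lc_d_rc_17_2 lc_d_rc_15_1 lc_d_rc_27_2 lc_d_rc_16_4 lc_d_rc_8_1 lc_d_rc_15_1 lc_d_rc_15_1 lc_d_rc_17_2 lc_d_rc_3_3 lc_d_rc_15_1 lc_d_rc_27_4 lc_d_rc_15_1 lc_d_rc_8_3 lc_d_rc_8_3 lc_d_rc_16_4 lc_d_Cert_tree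 lc_d_rc_15_1) (@D3.rec (fun _ => (Cert rels S Gen.d)) lc_d_rc_24_0 lc_d_rc_16_2 lc_d_rc_15_1 lc_d_rc_15_1 lc_d_rc_15_1 lc_d_rc_22_2 lc_d_Cert_tree lc_d_Cert_tree lc_d_rc_15_1 lc_d_Cert_tree lc_d_rc_16_4 lc_d_Cert_tree lc_d_rc_16_4 lc_d_Cert_tree lc_d_rc_16_4 lc_d_rc_17_2 lc_d_rc_23_2 lc_d_rc_17_2 lc_d_rc_17_2 lc_d_rc_15_1 lc_d_rc_15_1 lc_d_rc_8_1 lc_d_rc_8_3 lc_d_rc_8_3 lc_d_rc_22_4 lc_d_rc_27_2 lc_d_rc_24_5 lc_d_rc_27_2 lc_d_rc_22_6 lc_d_rc_22_2 lc_d_rc_15_1 lc_d_Cert_tree lc_d_Cert_tree lc_d_Cert_tree lc_d_rc_17_2 lc_d_rc_15_1 lc_d_Cert_tree lc_d_rc_15_1 lc_d_rc_15_1 lc_d_Cert_tree lc_d_rc_16_4 lc_d_Cert_tree lc_d_rc_15_1 lc_d_rc_8_3 lc_d_Cert_tree lc_d_rc_3_1 lc_d_rc_15_1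 lc_d_rc_15_1 lc_d_rc_8_3 lc_d_rc_24_5 lc_d_rc_15_1 lc_d_rc_15_1 lc_d_rc_27_4 lc_d_rc_24_0 lc_d_rc_15_1 lc_d_Cert_tree lc_d_Cert_tree lc_d_Cert_tree lc_d_rc_15_1 lc_d_rc_17_2 lc_d_rc_3_1 lc_d_rc_8_3) (@D3.rec (fun _ => (Cert rels S Gen.d)) lc_d_rc_15_1 lc_d_Cert_tree lc_d_rc_8_1 lc_d_rc_15_1 lc_d_rc_16_2 lc_d_Cert_tree lc_d_Cert_tree lc_d_rc_15_1 lc_d_rc_17_2 lc_d_rc_8_1 lc_d_rc_15_1 lc_d_rc_3_3 lc_d_rc_8_1 lc_d_rc_15_1 lc_d_rc_8_1 lc_d_Cert_tree lc_d_Cert_tree lc_d_Cert_tree lc_d_rc_15_1 lc_d_rc_8_3 lc_d_rc_23_6 lc_d_rc_16_2 lc_d_Cert_tree lc_d_Cert_tree lc_d_Cert_tree lc_d_rc_16_4 lc_d_rc_22_6 lc_d_Cert_tree lc_d_Cert_tree lc_d_Cert_tree lc_d_rc_15_1 lc_d_rc_22_8 lc_d_rc_16_4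 lc_d_rc_15_1 lc_d_rc_15_1 lc_d_rc_27_2 lc_d_rc_15_1 lc_d_rc_22_8 lc_d_rc_16_4 lc_d_rc_8_3 lc_d_rc_3_3 lc_d_rc_3_1 lc_d_rc_23_6 lc_d_rc_17_2 lc_d_rc_16_4 lc_d_rc_8_1 lc_d_Cert_tree lc_d_Cert_tree lc_d_rc_8_3 lc_d_rc_17_2 lc_d_rc_15_1 lc_d_rc_15_1 lc_d_rc_17_2 lc_d_rc_27_8 lc_d_rc_16_2 lc_d_rc_15_1 lc_d_rc_8_1 lc_d_rc_3_3 lc_d_rc_15_1 lc_d_rc_8_3 lc_d_Cert_tree lc_d_Cert_tree) (@D3.rec (fun _ => (Cert rels S Gen.d)) lc_d_rc_15_1 lc_d_rc_15_1 lc_d_rc_17_2 lc_d_rc_15_1 lc_d_rc_23_2 lc_d_rc_17_2 lc_d_rc_8_3 lc_d_rc_8_3 lc_d_rc_8_1 lc_d_rc_8_1 lc_d_rc_8_3 lc_d_rc_16_2 lc_d_rc_27_4 lc_d_rc_27_10 lc_d_rc_27_10 lc_d_rc_27_2 lc_d_rc_15_1 lc_d_rc_16_4 lc_d_rc_23_2 lc_d_rc_16_4 lc_d_Cert_tree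 lc_d_rc_3_3 lc_d_rc_15_1 lc_d_rc_8_3 lc_d_rc_16_2 lc_d_rc_8_3 lc_d_rc_8_3 lc_d_rc_22_4 lc_d_rc_16_4 lc_d_rc_8_3 lc_d_rc_16_4 lc_d_rc_8_3 lc_d_Cert_tree lc_d_Cert_tree lc_d_rc_15_1 lc_d_rc_17_2 lc_d_rc_16_4 lc_d_rc_3_3 lc_d_rc_15_1 lc_d_rc_15_1 lc_d_rc_15_1 lc_d_rc_15_1 lc_d_rc_16_0 lc_d_rc_27_10 lc_d_rc_23_2 lc_d_rc_8_3 lc_d_rc_17_2 lc_d_rc_27_8 lc_d_rc_24_5 lc_d_rc_17_0 lc_d_Cert_tree lc_d_rc_15_1 lc_d_rc_16_4 lc_d_rc_27_10 lc_d_rc_15_1 lc_d_rc_15_1 lc_d_rc_24_0 lc_d_Cert_tree lc_d_rc_15_1 lc_d_rc_8_3 lc_d_Cert_tree lc_d_rc_15_1) (@D3.rec (fun _ => (Cert rels S Gen.d)) lc_d_rc_22_2 lc_d_rc_8_3 lc_d_rc_15_1 lc_d_rc_16_0 lc_d_rc_15_1 lc_d_rc_8_3 lc_d_rc_15_1 lc_d_rc_15_1 lc_d_rc_15_1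 lc_d_rc_15_1 lc_d_rc_24_0 lc_d_rc_15_1 lc_d_rc_22_6 lc_d_rc_16_4 lc_d_rc_17_2 lc_d_rc_22_6 lc_d_Cert_tree lc_d_Cert_tree lc_d_rc_17_2 lc_d_rc_8_3 lc_d_rc_15_1 lc_d_rc_15_1 lc_d_rc_16_4 lc_d_Cert_tree lc_d_rc_15_1 lc_d_rc_17_2 lc_d_rc_8_1 lc_d_Cert_tree lc_d_rc_15_1 lc_d_rc_27_2 lc_d_Cert_tree lc_d_Cert_tree lc_d_rc_15_1 lc_d_Cert_tree lc_d_Cert_tree lc_d_rc_15_1 lc_d_rc_15_1 lc_d_rc_15_1 lc_d_rc_22_4 lc_d_rc_17_2 lc_d_rc_15_1 lc_d_rc_24_0 lc_d_rc_15_1 lc_d_rc_24_0 lc_d_rc_15_1 lc_d_rc_22_6 lc_d_rc_3_3 lc_d_Cert_tree lc_d_rc_23_2 lc_d_rc_3_1 lc_d_rc_15_1 lc_d_rc_22_2 lc_d_rc_16_4 lc_d_rc_8_3 lc_d_rc_27_2 lc_d_rc_8_3 lc_d_rc_3_3 lc_d_rc_3_3 lc_d_rc_17_2 lc_d_rc_15_1 lc_d_Cert_tree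 lc_d_Cert_tree) (@D3.rec (fun _ => (Cert rels S Gen.d)) lc_d_Cert_tree lc_d_rc_17_2 lc_d_rc_8_1 lc_d_rc_22_6 lc_d_rc_22_6 lc_d_rc_22_2 lc_d_rc_22_6 lc_d_Cert_tree lc_d_Cert_tree lc_d_Cert_tree lc_d_rc_15_1 lc_d_rc_17_2 lc_d_rc_22_8 lc_d_rc_8_3 lc_d_Cert_tree lc_d_rc_16_4 lc_d_rc_27_4 lc_d_rc_15_1 lc_d_rc_27_2 lc_d_rc_15_1 lc_d_rc_22_4 lc_d_Cert_tree lc_d_Cert_tree lc_d_rc_17_2 lc_d_rc_16_4 lc_d_rc_16_4 lc_d_rc_15_1 lc_d_Cert_tree lc_d_rc_15_1 lc_d_rc_17_2 lc_d_Cert_tree lc_d_Cert_tree lc_d_rc_15_1 lc_d_rc_27_4 lc_d_Cert_tree lc_d_Cert_tree lc_d_rc_15_1 lc_d_rc_27_8 lc_d_rc_15_1 lc_d_rc_15_1 lc_d_Cert_tree lc_d_rc_17_2 lc_d_Cert_tree lc_d_rc_17_2 lc_d_rc_15_1 lc_d_rc_23_2 lc_d_rc_15_1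 lc_d_rc_15_1 lc_d_rc_15_1 lc_d_rc_15_1 lc_d_rc_16_2 lc_d_rc_16_2 lc_d_rc_23_4 lc_d_rc_8_1 lc_d_rc_15_1 lc_d_rc_8_3 lc_d_rc_15_1 lc_d_rc_15_1 lc_d_rc_3_1 lc_d_rc_22_4 lc_d_rc_16_2 lc_d_rc_15_1) (@D3.rec (fun _ => (Cert rels S Gen.d)) lc_d_rc_15_1 lc_d_rc_23_8 lc_d_rc_16_2 lc_d_rc_15_1 lc_d_Cert_tree lc_d_rc_8_3 lc_d_Cert_tree lc_d_rc_15_1 lc_d_rc_27_4 lc_d_Cert_tree lc_d_Cert_tree lc_d_rc_15_1 lc_d_rc_27_8 lc_d_rc_8_3 lc_d_rc_16_4 lc_d_rc_15_1 lc_d_rc_16_4 lc_d_Cert_tree lc_d_rc_15_1 lc_d_rc_27_4 lc_d_rc_15_1 lc_d_rc_15_1 lc_d_rc_15_1 lc_d_rc_17_2 lc_d_rc_8_3 lc_d_rc_16_4 lc_d_rc_16_0 lc_d_rc_22_4 lc_d_rc_8_3 lc_d_rc_15_1 lc_d_rc_15_1 lc_d_rc_17_2 lc_d_rc_15_1 lc_d_rc_23_6 lc_d_rc_15_1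 lc_d_Cert_tree lc_d_rc_16_2 lc_d_Cert_tree lc_d_rc_16_4 lc_d_Cert_tree lc_d_rc_27_4 lc_d_Cert_tree lc_d_rc_16_4 lc_d_Cert_tree lc_d_Cert_tree lc_d_rc_8_1 lc_d_rc_15_1 lc_d_rc_17_2 lc_d_rc_16_2 lc_d_Cert_tree lc_d_rc_15_1 lc_d_rc_15_1 lc_d_rc_8_1 lc_d_rc_15_1 lc_d_rc_15_1 lc_d_Cert_tree lc_d_rc_16_2 lc_d_rc_27_2 lc_d_rc_25_10 lc_d_rc_8_3 lc_d_rc_15_1 lc_d_rc_16_4) (@D3.rec (fun _ => (Cert rels S Gen.d)) lc_d_rc_22_2 lc_d_rc_24_0 lc_d_rc_8_3 lc_d_Cert_tree lc_d_Cert_tree lc_d_Cert_tree lc_d_rc_17_2 lc_d_rc_15_1 lc_d_Cert_tree lc_d_rc_15_1 lc_d_rc_27_8 lc_d_rc_22_6 lc_d_rc_15_1 lc_d_rc_27_2 lc_d_rc_16_4 lc_d_rc_15_1 lc_d_rc_8_1 lc_d_rc_15_1 lc_d_rc_15_1 lc_d_rc_8_3 lc_d_rc_8_3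 lc_d_Cert_tree lc_d_Cert_tree lc_d_rc_15_1 lc_d_rc_15_1 lc_d_rc_15_1 lc_d_rc_23_4 lc_d_rc_3_1 lc_d_Cert_tree lc_d_rc_27_4 lc_d_rc_3_3 lc_d_rc_15_1 lc_d_Cert_tree lc_d_Cert_tree lc_d_Cert_tree lc_d_rc_15_1 lc_d_rc_17_2 lc_d_rc_3_1 lc_d_rc_15_1 lc_d_rc_16_4 lc_d_rc_15_1 lc_d_Cert_tree lc_d_rc_15_1 lc_d_rc_27_10 lc_d_rc_17_2 lc_d_rc_15_1 lc_d_Cert_tree lc_d_rc_15_1 lc_d_rc_23_4 lc_d_Cert_tree lc_d_Cert_tree lc_d_Cert_tree lc_d_rc_15_1 lc_d_rc_8_3 lc_d_rc_16_4 lc_d_rc_15_1 lc_d_Cert_tree lc_d_Cert_tree lc_d_Cert_tree lc_d_rc_15_1 lc_d_Cert_tree lc_d_Cert_tree) (@D3.rec (fun _ => (Cert rels S Gen.d)) lc_d_rc_15_1 lc_d_rc_22_2 lc_d_rc_17_2 lc_d_rc_15_1 lc_d_rc_15_1 lc_d_rc_27_2 lc_d_rc_3_3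 lc_d_Cert_tree lc_d_Cert_tree lc_d_rc_15_1 lc_d_rc_17_2 lc_d_rc_15_1 lc_d_rc_8_3 lc_d_rc_12_1 lc_d_rc_16_4 lc_d_rc_24_0 lc_d_rc_16_4 lc_d_rc_8_3 lc_d_Cert_tree lc_d_Cert_tree lc_d_Cert_tree lc_d_rc_15_1 lc_d_rc_17_2 lc_d_rc_8_3 lc_d_rc_27_2 lc_d_rc_3_1 lc_d_rc_15_1 lc_d_rc_27_4 lc_d_rc_15_1 lc_d_rc_27_4 lc_d_rc_3_3 lc_d_rc_15_1 lc_d_rc_24_5 lc_d_rc_3_1 lc_d_rc_27_2 lc_d_rc_8_3 lc_d_Cert_tree lc_d_Cert_tree lc_d_rc_15_1 lc_d_rc_15_1 lc_d_rc_25_2 lc_d_rc_17_2 lc_d_rc_22_6 lc_d_rc_3_3 lc_d_rc_27_4 lc_d_rc_15_1 lc_d_rc_16_4 lc_d_rc_15_1 lc_d_rc_16_4 lc_d_rc_24_0 lc_d_rc_12_13 lc_d_rc_16_2 lc_d_rc_27_2 lc_d_rc_17_2 lc_d_rc_8_3 lc_d_rc_23_8 lc_d_rc_15_1 lc_d_rc_24_0 lc_d_Cert_tree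 lc_d_Cert_tree lc_d_rc_16_0 lc_d_rc_15_1) (@D3.rec (fun _ => (Cert rels S Gen.d)) lc_d_rc_17_2 lc_d_rc_15_1 lc_d_rc_23_4 lc_d_rc_16_4 lc_d_rc_15_1 lc_d_Cert_tree lc_d_rc_15_1 lc_d_rc_16_4 lc_d_Cert_tree lc_d_Cert_tree lc_d_rc_15_1 lc_d_rc_27_4 lc_d_Cert_tree lc_d_Cert_tree lc_d_rc_15_1 lc_d_rc_27_8 lc_d_rc_15_1 lc_d_rc_15_1 lc_d_Cert_tree lc_d_Cert_tree lc_d_rc_15_1 lc_d_rc_3_3 lc_d_rc_15_1 lc_d_rc_25_10 lc_d_rc_3_3 lc_d_rc_3_1 lc_d_rc_23_4 lc_d_rc_8_3 lc_d_rc_8_3 lc_d_rc_25_10 lc_d_rc_27_2 lc_d_rc_17_2 lc_d_rc_8_3 lc_d_rc_16_4 lc_d_rc_3_3 lc_d_rc_27_2 lc_d_rc_15_1 lc_d_rc_22_2 lc_d_rc_16_4 lc_d_rc_16_4 lc_d_rc_22_4 lc_d_rc_15_1 lc_d_rc_27_4 lc_d_rc_16_2 lc_d_rc_15_1 lc_d_rc_15_1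 lc_d_rc_15_1 lc_d_Cert_tree lc_d_rc_16_2 lc_d_Cert_tree lc_d_rc_16_2 lc_d_Cert_tree lc_d_rc_16_4 lc_d_Cert_tree lc_d_rc_16_4 lc_d_Cert_tree lc_d_Cert_tree lc_d_rc_22_6 lc_d_rc_15_1 lc_d_rc_22_4 lc_d_Cert_tree lc_d_rc_15_1) (@D3.rec (fun _ => (Cert rels S Gen.d)) lc_d_rc_15_1 lc_d_rc_3_3 lc_d_rc_27_4 lc_d_rc_24_0 lc_d_rc_3_3 lc_d_rc_16_2 lc_d_rc_16_0 lc_d_rc_27_8 lc_d_Cert_tree lc_d_Cert_tree lc_d_rc_17_2 lc_d_rc_15_1 lc_d_rc_15_1 lc_d_rc_3_3 lc_d_rc_24_5 lc_d_rc_27_2 lc_d_rc_15_1 lc_d_rc_16_2 lc_d_rc_8_3 lc_d_rc_27_10 lc_d_rc_8_3 lc_d_Cert_tree lc_d_rc_15_1 lc_d_rc_24_5 lc_d_rc_3_3 lc_d_Cert_tree lc_d_rc_27_4 lc_d_rc_15_1 lc_d_rc_16_4 lc_d_Cert_tree lc_d_Cert_tree lc_d_rc_15_1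 lc_d_rc_17_2 lc_d_rc_17_0 lc_d_rc_15_1 lc_d_rc_15_1 lc_d_rc_8_3 lc_d_rc_15_1 lc_d_rc_27_10 lc_d_rc_27_10 lc_d_rc_17_2 lc_d_rc_8_3 lc_d_Cert_tree lc_d_rc_8_3 lc_d_rc_8_3 lc_d_rc_27_10 lc_d_rc_16_4 lc_d_rc_8_3 lc_d_rc_15_1 lc_d_rc_15_1 lc_d_rc_3_1 lc_d_rc_15_1 lc_d_Cert_tree lc_d_rc_16_0 lc_d_rc_15_1 lc_d_rc_15_1 lc_d_Cert_tree lc_d_Cert_tree lc_d_rc_15_1 lc_d_rc_17_2 lc_d_rc_15_1 lc_d_rc_15_1) (@D3.rec (fun _ => (Cert rels S Gen.d)) lc_d_rc_15_1 lc_d_rc_3_1 lc_d_rc_3_3 lc_d_rc_8_1 lc_d_Cert_tree lc_d_rc_27_10 lc_d_rc_3_3 lc_d_rc_15_1 lc_d_rc_25_18 lc_d_rc_15_1 lc_d_rc_15_1 lc_d_rc_17_2 lc_d_rc_8_3 lc_d_rc_8_3 lc_d_rc_8_3 lc_d_Cert_tree lc_d_rc_15_1 lc_d_rc_16_0 lc_d_rc_15_1 lc_d_rc_27_4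 lc_d_rc_15_1 lc_d_rc_15_1 lc_d_Cert_tree lc_d_rc_27_4 lc_d_Cert_tree lc_d_Cert_tree lc_d_rc_15_1 lc_d_Cert_tree lc_d_rc_15_1 lc_d_rc_8_1 lc_d_rc_15_1 lc_d_rc_22_8 lc_d_rc_15_1 lc_d_rc_8_3 lc_d_rc_8_3 lc_d_rc_8_3 lc_d_rc_23_8 lc_d_Cert_tree lc_d_rc_15_1 lc_d_rc_16_4 lc_d_rc_15_1 lc_d_rc_15_1 lc_d_rc_27_4 lc_d_rc_17_2 lc_d_rc_8_3 lc_d_rc_27_2 lc_d_rc_3_1 lc_d_rc_15_1 lc_d_rc_3_1 lc_d_Cert_tree lc_d_Cert_tree lc_d_rc_15_1 lc_d_rc_17_2 lc_d_rc_15_1 lc_d_Cert_tree lc_d_rc_25_14 lc_d_rc_15_1 lc_d_rc_23_6 lc_d_rc_15_1 lc_d_Cert_tree lc_d_rc_17_2 lc_d_rc_12_3) (@D3.rec (fun _ => (Cert rels S Gen.d)) lc_d_Cert_tree lc_d_rc_8_3 lc_d_Cert_tree lc_d_rc_15_1 lc_d_rc_17_2 lc_d_rc_8_1 lc_d_rc_15_1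 lc_d_rc_27_4 lc_d_Cert_tree lc_d_rc_15_1 lc_d_rc_27_2 lc_d_rc_15_1 lc_d_rc_17_2 lc_d_Cert_tree lc_d_Cert_tree lc_d_rc_15_1 lc_d_rc_15_1 lc_d_rc_22_6 lc_d_rc_16_2 lc_d_rc_15_1 lc_d_rc_23_6 lc_d_rc_16_4 lc_d_rc_24_5 lc_d_rc_22_2 lc_d_rc_22_4 lc_d_rc_8_1 lc_d_rc_15_1 lc_d_rc_16_4 lc_d_rc_15_1 lc_d_rc_15_1 lc_d_rc_16_2 lc_d_Cert_tree lc_d_rc_15_1 lc_d_Cert_tree lc_d_rc_15_1 lc_d_Cert_tree lc_d_rc_23_6 lc_d_rc_15_1 lc_d_rc_16_4 lc_d_rc_22_2 lc_d_Cert_tree lc_d_rc_3_3 lc_d_rc_15_1 lc_d_rc_22_6 lc_d_rc_15_1 lc_d_Cert_tree lc_d_rc_15_1 lc_d_rc_16_2 lc_d_rc_23_2 lc_d_rc_15_1 lc_d_rc_16_4 lc_d_rc_15_1 lc_d_Cert_tree lc_d_Cert_tree lc_d_Cert_tree lc_d_Cert_tree lc_d_Cert_tree lc_d_rc_15_1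 lc_d_rc_22_2 lc_d_rc_8_3 lc_d_rc_15_1 lc_d_rc_17_2) (@D3.rec (fun _ => (Cert rels S Gen.d)) lc_d_Cert_tree lc_d_rc_15_1 lc_d_rc_22_4 lc_d_Cert_tree lc_d_Cert_tree lc_d_rc_15_1 lc_d_rc_17_2 lc_d_rc_15_1 lc_d_rc_27_4 lc_d_rc_17_2 lc_d_rc_15_1 lc_d_rc_23_4 lc_d_rc_16_4 lc_d_rc_15_1 lc_d_rc_27_4 lc_d_rc_27_10 lc_d_rc_27_4 lc_d_Cert_tree lc_d_Cert_tree lc_d_rc_17_2 lc_d_rc_16_0 lc_d_rc_23_4 lc_d_rc_16_2 lc_d_rc_8_3 lc_d_rc_15_1 lc_d_rc_16_4 lc_d_rc_8_3 lc_d_Cert_tree lc_d_Cert_tree lc_d_rc_15_1 lc_d_rc_3_3 lc_d_Cert_tree lc_d_Cert_tree lc_d_Cert_tree lc_d_rc_15_1 lc_d_rc_17_2 lc_d_Cert_tree lc_d_Cert_tree lc_d_rc_15_1 lc_d_rc_27_4 lc_d_Cert_tree lc_d_rc_3_1 lc_d_rc_15_1 lc_d_Cert_tree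 lc_d_rc_17_2 lc_d_Cert_tree lc_d_rc_24_5 lc_d_rc_15_1 lc_d_rc_27_4 lc_d_Cert_tree lc_d_rc_15_1 lc_d_rc_23_6 lc_d_rc_15_1 lc_d_rc_22_8 lc_d_rc_17_2 lc_d_Cert_tree lc_d_rc_17_2 lc_d_rc_15_1 lc_d_rc_22_8 lc_d_rc_16_4 lc_d_rc_23_6 lc_d_rc_23_4) (@D3.rec (fun _ => (Cert rels S Gen.d)) lc_d_rc_17_2 lc_d_rc_8_3 lc_d_rc_22_6 lc_d_rc_16_4 lc_d_rc_15_1 lc_d_rc_23_6 lc_d_rc_8_3 lc_d_rc_16_4 lc_d_rc_15_1 lc_d_rc_15_1 lc_d_rc_15_1 lc_d_rc_15_1 lc_d_rc_16_4 lc_d_rc_23_8 lc_d_rc_15_1 lc_d_rc_15_1 lc_d_rc_22_8 lc_d_rc_15_1 lc_d_Cert_tree lc_d_rc_15_1 lc_d_Cert_tree lc_d_Cert_tree lc_d_rc_15_1 lc_d_rc_17_2 lc_d_rc_15_1 lc_d_rc_27_4 lc_d_Cert_tree lc_d_rc_15_1 lc_d_rc_27_2 lc_d_rc_15_1 lc_d_rc_15_1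 lc_d_rc_12_13 lc_d_rc_3_3 lc_d_rc_25_6 lc_d_rc_16_2 lc_d_rc_8_3 lc_d_rc_22_8 lc_d_rc_15_1 lc_d_rc_27_4 lc_d_Cert_tree lc_d_Cert_tree lc_d_rc_15_1 lc_d_rc_8_3 lc_d_Cert_tree lc_d_rc_24_5 lc_d_rc_15_1 lc_d_rc_8_3 lc_d_Cert_tree lc_d_rc_27_10 lc_d_rc_15_1 lc_d_Cert_tree lc_d_rc_23_6 lc_d_rc_15_1 lc_d_Cert_tree lc_d_rc_17_2 lc_d_Cert_tree lc_d_Cert_tree lc_d_rc_15_1 lc_d_rc_15_1 lc_d_rc_23_2 lc_d_rc_16_2 lc_d_Cert_tree) (@D3.rec (fun _ => (Cert rels S Gen.d)) lc_d_Cert_tree lc_d_rc_15_1 lc_d_rc_24_5 lc_d_rc_15_1 lc_d_rc_8_3 lc_d_rc_23_4 lc_d_rc_16_4 lc_d_rc_8_1 lc_d_rc_15_1 lc_d_rc_16_2 lc_d_rc_8_3 lc_d_Cert_tree lc_d_Cert_tree lc_d_Cert_tree lc_d_Cert_tree lc_d_rc_15_1 lc_d_Cert_tree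 lc_d_rc_15_1 lc_d_rc_22_4 lc_d_Cert_tree lc_d_rc_27_8 lc_d_rc_16_4 lc_d_rc_15_1 lc_d_rc_17_2 lc_d_rc_15_1 lc_d_rc_27_4 lc_d_rc_22_2 lc_d_Cert_tree lc_d_rc_17_2 lc_d_Cert_tree lc_d_rc_15_1 lc_d_Cert_tree lc_d_rc_16_0 lc_d_rc_15_1 lc_d_Cert_tree lc_d_rc_23_4 lc_d_rc_15_1 lc_d_Cert_tree lc_d_rc_17_2 lc_d_rc_15_1 lc_d_rc_8_1 lc_d_rc_15_1 lc_d_rc_15_1 lc_d_rc_22_2 lc_d_rc_16_2 lc_d_Cert_tree lc_d_Cert_tree lc_d_rc_15_1 lc_d_rc_15_1 lc_d_rc_22_6 lc_d_rc_16_2 lc_d_rc_8_3 lc_d_rc_22_2 lc_d_rc_15_1 lc_d_rc_8_3 lc_d_rc_23_4 lc_d_rc_16_4 lc_d_rc_8_3 lc_d_rc_22_4 lc_d_rc_16_4 lc_d_rc_15_1 lc_d_rc_22_2) (@D3.rec (fun _ => (Cert rels S Gen.d)) lc_d_rc_15_1 lc_d_Cert_tree lc_d_Cert_tree lc_d_rc_15_1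 lc_d_Cert_tree lc_d_Cert_tree lc_d_rc_3_1 lc_d_rc_15_1 lc_d_rc_15_1 lc_d_Cert_tree lc_d_rc_15_1 lc_d_rc_23_2 lc_d_rc_8_3 lc_d_rc_22_8 lc_d_Cert_tree lc_d_Cert_tree lc_d_rc_15_1 lc_d_rc_17_2 lc_d_rc_15_1 lc_d_rc_15_1 lc_d_rc_27_4 lc_d_Cert_tree lc_d_rc_23_2 lc_d_rc_15_1 lc_d_Cert_tree lc_d_rc_8_1 lc_d_rc_15_1 lc_d_rc_22_4 lc_d_Cert_tree lc_d_rc_15_1 lc_d_rc_27_4 lc_d_rc_15_1 lc_d_Cert_tree lc_d_rc_23_6 lc_d_rc_23_6 lc_d_Cert_tree lc_d_rc_17_2 lc_d_rc_15_1 lc_d_rc_16_4 lc_d_rc_23_4 lc_d_rc_8_3 lc_d_Cert_tree lc_d_rc_15_1 lc_d_Cert_tree lc_d_rc_15_1 lc_d_rc_15_1 lc_d_rc_17_2 lc_d_rc_15_1 lc_d_rc_27_2 lc_d_rc_8_3 lc_d_Cert_tree lc_d_Cert_tree lc_d_rc_15_1 lc_d_rc_17_2 lc_d_Cert_tree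 lc_d_rc_15_1 lc_d_rc_27_4 lc_d_rc_15_1 lc_d_rc_15_1 lc_d_rc_23_8 lc_d_rc_22_6 lc_d_rc_17_2) (@D3.rec (fun _ => (Cert rels S Gen.d)) lc_d_rc_15_1 lc_d_Cert_tree lc_d_rc_15_1 lc_d_rc_27_8 lc_d_rc_27_10 lc_d_rc_15_1 lc_d_rc_24_0 lc_d_rc_17_2 lc_d_rc_8_3 lc_d_rc_16_4 lc_d_rc_23_8 lc_d_rc_24_0 lc_d_rc_8_3 lc_d_rc_22_8 lc_d_rc_16_4 lc_d_rc_24_0 lc_d_rc_22_2 lc_d_rc_22_2 lc_d_rc_15_1 lc_d_Cert_tree lc_d_rc_15_1 lc_d_rc_24_5 lc_d_rc_22_6 lc_d_rc_24_0 lc_d_rc_15_1 lc_d_rc_24_0 lc_d_rc_15_1 lc_d_rc_27_4 lc_d_Cert_tree lc_d_rc_15_1 lc_d_rc_27_8 lc_d_rc_15_1 lc_d_rc_15_1 lc_d_Cert_tree lc_d_rc_17_2 lc_d_rc_8_3 lc_d_rc_24_5 lc_d_rc_8_3 lc_d_rc_16_4 lc_d_rc_15_1 lc_d_rc_15_1 lc_d_rc_17_2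 lc_d_rc_27_4 lc_d_rc_8_1 lc_d_rc_15_1 lc_d_rc_25_18 lc_d_Cert_tree lc_d_rc_22_6 lc_d_rc_15_1 lc_d_Cert_tree lc_d_rc_24_0 lc_d_rc_27_4 lc_d_rc_15_1 lc_d_rc_23_4 lc_d_rc_22_4 lc_d_Cert_tree lc_d_rc_27_8 lc_d_rc_15_1 lc_d_rc_17_2 lc_d_Cert_tree lc_d_Cert_tree lc_d_rc_15_1) (@D3.rec (fun _ => (Cert rels S Gen.d)) lc_d_rc_15_1 lc_d_Cert_tree lc_d_rc_8_3 lc_d_rc_22_6 lc_d_Cert_tree lc_d_rc_27_10 lc_d_rc_15_1 lc_d_rc_27_4 lc_d_Cert_tree lc_d_rc_22_6 lc_d_rc_15_1 lc_d_rc_27_4 lc_d_Cert_tree lc_d_rc_3_1 lc_d_rc_15_1 lc_d_rc_16_2 lc_d_rc_23_4 lc_d_rc_16_0 lc_d_Cert_tree lc_d_rc_15_1 lc_d_rc_22_2 lc_d_rc_16_2 lc_d_Cert_tree lc_d_rc_15_1 lc_d_rc_15_1 lc_d_Cert_tree lc_d_Cert_tree lc_d_rc_27_2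 lc_d_rc_24_0 lc_d_rc_8_3 lc_d_rc_15_1 lc_d_rc_16_4 lc_d_rc_23_4 lc_d_rc_24_0 lc_d_rc_8_3 lc_d_rc_12_15 lc_d_rc_23_4 lc_d_rc_15_1 lc_d_rc_22_2 lc_d_rc_15_1 lc_d_rc_27_2 lc_d_rc_15_1 lc_d_rc_22_2 lc_d_rc_15_1 lc_d_rc_24_5 lc_d_rc_15_1 lc_d_rc_8_3 lc_d_Cert_tree lc_d_rc_23_6 lc_d_rc_16_0 lc_d_rc_15_1 lc_d_rc_16_0 lc_d_rc_22_2 lc_d_rc_15_1 lc_d_rc_27_10 lc_d_Cert_tree lc_d_rc_23_2 lc_d_rc_15_1 lc_d_rc_8_3 lc_d_Cert_tree lc_d_Cert_tree lc_d_Cert_tree)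
def ce_d_14 : D2 → D3 → (Cert rels S Gen.d) := @D2.rec (fun _ => D3 → (Cert rels S Gen.d)) (@D3.rec (fun _ => (Cert rels S Gen.d)) lc_d_rc_15_1 lc_d_rc_17_2 lc_d_rc_15_1 lc_d_rc_15_1 lc_d_rc_16_4 lc_d_rc_8_3 lc_d_rc_16_2 lc_d_rc_15_1 lc_d_Cert_tree lc_d_rc_17_2 lc_d_rc_8_3 lc_d_Cert_tree lc_d_rc_15_1 lc_d_Cert_tree lc_d_rc_25_10 lc_d_rc_23_6 lc_d_Cert_tree lc_d_rc_15_1 lc_d_rc_8_3 lc_d_rc_16_4 lc_d_Cert_tree lc_d_Cert_tree lc_d_Cert_tree lc_d_Cert_tree lc_d_Cert_tree lc_d_Cert_tree lc_d_rc_15_1 lc_d_rc_22_4 lc_d_rc_16_4 lc_d_rc_15_1 lc_d_Cert_tree lc_d_rc_15_1 lc_d_rc_23_4 lc_d_rc_23_2 lc_d_rc_27_10 lc_d_rc_15_1 lc_d_rc_15_1 lc_d_rc_8_3 lc_d_rc_15_1 lc_d_rc_16_4 lc_d_rc_17_2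 lc_d_rc_24_0 lc_d_rc_16_4 lc_d_rc_8_3 lc_d_rc_3_3 lc_d_rc_22_6 lc_d_rc_23_4 lc_d_rc_15_1 lc_d_rc_17_2 lc_d_rc_3_3 lc_d_rc_22_6 lc_d_rc_22_2 lc_d_rc_15_1 lc_d_rc_16_4 lc_d_Cert_tree lc_d_rc_15_1 lc_d_rc_15_1 lc_d_rc_15_1 lc_d_rc_16_2 lc_d_rc_15_1 lc_d_rc_27_4 lc_d_rc_3_3) (@D3.rec (fun _ => (Cert rels S Gen.d)) lc_d_rc_22_6 lc_d_rc_8_3 lc_d_Cert_tree lc_d_rc_8_3 lc_d_rc_16_0 lc_d_rc_8_3 lc_d_rc_15_1 lc_d_rc_15_1 lc_d_rc_16_4 lc_d_rc_8_3 lc_d_rc_15_1 lc_d_rc_24_5 lc_d_rc_16_4 lc_d_rc_22_6 lc_d_rc_23_4 lc_d_rc_8_3 lc_d_rc_22_6 lc_d_Cert_tree lc_d_Cert_tree lc_d_rc_15_1 lc_d_rc_17_2 lc_d_rc_8_3 lc_d_rc_15_1 lc_d_rc_15_1 lc_d_rc_15_1 lc_d_rc_8_3 lc_d_rc_24_5 lc_d_rc_8_3 lc_d_Cert_tree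 lc_d_Cert_tree lc_d_rc_15_1 lc_d_rc_15_1 lc_d_rc_17_2 lc_d_rc_17_2 lc_d_Cert_tree lc_d_rc_8_3 lc_d_rc_8_3 lc_d_Cert_tree lc_d_rc_15_1 lc_d_rc_17_2 lc_d_rc_3_1 lc_d_rc_15_1 lc_d_Cert_tree lc_d_rc_15_1 lc_d_rc_24_0 lc_d_rc_22_2 lc_d_rc_25_10 lc_d_rc_25_10 lc_d_rc_15_1 lc_d_rc_22_2 lc_d_Cert_tree lc_d_rc_15_1 lc_d_Cert_tree lc_d_rc_15_1 lc_d_Cert_tree lc_d_rc_8_3 lc_d_rc_27_2 lc_d_Cert_tree lc_d_Cert_tree lc_d_rc_15_1 lc_d_rc_17_2 lc_d_rc_15_1) (@D3.rec (fun _ => (Cert rels S Gen.d)) lc_d_rc_27_4 lc_d_rc_3_3 lc_d_rc_15_1 lc_d_rc_15_1 lc_d_rc_23_6 lc_d_rc_23_2 lc_d_rc_3_3 lc_d_Cert_tree lc_d_Cert_tree lc_d_Cert_tree lc_d_rc_15_1 lc_d_rc_17_2 lc_d_Cert_tree lc_d_Cert_tree lc_d_rc_15_1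 lc_d_rc_17_2 lc_d_rc_24_5 lc_d_rc_27_4 lc_d_rc_23_4 lc_d_rc_15_1 lc_d_Cert_tree lc_d_rc_15_1 lc_d_Cert_tree lc_d_rc_17_2 lc_d_rc_24_0 lc_d_rc_8_3 lc_d_rc_15_1 lc_d_rc_23_2 lc_d_rc_27_4 lc_d_rc_27_2 lc_d_rc_15_1 lc_d_rc_16_2 lc_d_rc_24_5 lc_d_rc_15_1 lc_d_rc_8_3 lc_d_Cert_tree lc_d_Cert_tree lc_d_rc_3_1 lc_d_rc_15_1 lc_d_rc_15_1 lc_d_rc_16_2 lc_d_rc_15_1 lc_d_Cert_tree lc_d_rc_23_2 lc_d_rc_8_1 lc_d_rc_15_1 lc_d_rc_27_4 lc_d_rc_15_1 lc_d_rc_24_0 lc_d_rc_15_1 lc_d_Cert_tree lc_d_rc_15_1 lc_d_rc_16_2 lc_d_rc_8_1 lc_d_rc_15_1 lc_d_rc_17_2 lc_d_rc_3_3 lc_d_rc_15_1 lc_d_Cert_tree lc_d_rc_27_8 lc_d_Cert_tree lc_d_rc_15_1) (@D3.rec (fun _ => (Cert rels S Gen.d)) lc_d_rc_27_4 lc_d_rc_22_4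 lc_d_rc_15_1 lc_d_Cert_tree lc_d_rc_15_1 lc_d_rc_23_2 lc_d_rc_15_1 lc_d_rc_15_1 lc_d_rc_12_3 lc_d_rc_16_2 lc_d_rc_23_2 lc_d_Cert_tree lc_d_rc_15_1 lc_d_rc_22_6 lc_d_rc_15_1 lc_d_rc_8_3 lc_d_rc_3_3 lc_d_rc_16_2 lc_d_rc_8_3 lc_d_rc_17_2 lc_d_rc_16_4 lc_d_rc_16_4 lc_d_rc_15_1 lc_d_rc_3_3 lc_d_rc_23_6 lc_d_rc_24_5 lc_d_rc_15_1 lc_d_rc_3_3 lc_d_rc_16_4 lc_d_rc_8_3 lc_d_Cert_tree lc_d_rc_27_10 lc_d_rc_27_10 lc_d_rc_15_1 lc_d_rc_16_4 lc_d_rc_3_3 lc_d_rc_23_2 lc_d_rc_16_4 lc_d_rc_27_10 lc_d_rc_23_8 lc_d_rc_27_2 lc_d_rc_15_1 lc_d_rc_16_4 lc_d_rc_17_2 lc_d_rc_27_2 lc_d_rc_15_1 lc_d_rc_15_1 lc_d_Cert_tree lc_d_rc_8_1 lc_d_rc_8_3 lc_d_Cert_tree lc_d_rc_16_0 lc_d_rc_15_1 lc_d_rc_17_2 lc_d_rc_8_3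 lc_d_Cert_tree lc_d_Cert_tree lc_d_rc_15_1 lc_d_Cert_tree lc_d_Cert_tree lc_d_rc_15_1 lc_d_rc_17_2) (@D3.rec (fun _ => (Cert rels S Gen.d)) lc_d_Cert_tree lc_d_rc_15_1 lc_d_rc_27_4 lc_d_Cert_tree lc_d_Cert_tree lc_d_rc_15_1 lc_d_rc_8_3 lc_d_rc_15_1 lc_d_rc_15_1 lc_d_Cert_tree lc_d_rc_22_2 lc_d_rc_23_2 lc_d_rc_15_1 lc_d_rc_27_8 lc_d_Cert_tree lc_d_rc_15_1 lc_d_rc_15_1 lc_d_rc_27_8 lc_d_rc_16_4 lc_d_rc_15_1 lc_d_rc_17_2 lc_d_Cert_tree lc_d_Cert_tree lc_d_Cert_tree lc_d_rc_15_1 lc_d_rc_16_4 lc_d_rc_15_1 lc_d_rc_15_1 lc_d_rc_23_4 lc_d_rc_15_1 lc_d_Cert_tree lc_d_Cert_tree lc_d_rc_15_1 lc_d_rc_27_4 lc_d_Cert_tree lc_d_Cert_tree lc_d_Cert_tree lc_d_rc_15_1 lc_d_rc_27_2 lc_d_Cert_tree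 lc_d_rc_24_0 lc_d_rc_15_1 lc_d_rc_17_2 lc_d_rc_17_2 lc_d_rc_17_2 lc_d_rc_15_1 lc_d_rc_17_2 lc_d_Cert_tree lc_d_rc_15_1 lc_d_rc_16_0 lc_d_rc_8_3 lc_d_rc_16_4 lc_d_rc_25_6 lc_d_rc_27_2 lc_d_rc_8_3 lc_d_rc_24_0 lc_d_rc_15_1 lc_d_rc_8_3 lc_d_rc_3_3 lc_d_rc_8_3 lc_d_rc_27_4 lc_d_rc_27_10) (@D3.rec (fun _ => (Cert rels S Gen.d)) lc_d_rc_15_1 lc_d_Cert_tree lc_d_Cert_tree lc_d_Cert_tree lc_d_Cert_tree lc_d_Cert_tree lc_d_rc_15_1 lc_d_rc_22_6 lc_d_rc_15_1 lc_d_Cert_tree lc_d_rc_15_1 lc_d_rc_15_1 lc_d_rc_17_2 lc_d_Cert_tree lc_d_Cert_tree lc_d_rc_15_1 lc_d_rc_22_8 lc_d_rc_15_1 lc_d_rc_27_4 lc_d_Cert_tree lc_d_rc_15_1 lc_d_rc_27_8 lc_d_rc_23_4 lc_d_rc_24_0 lc_d_Cert_tree lc_d_rc_17_2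 lc_d_Cert_tree lc_d_rc_15_1 lc_d_Cert_tree lc_d_rc_15_1 lc_d_Cert_tree lc_d_rc_23_6 lc_d_rc_15_1 lc_d_Cert_tree lc_d_rc_17_2 lc_d_Cert_tree lc_d_Cert_tree lc_d_rc_15_1 lc_d_rc_15_1 lc_d_rc_22_2 lc_d_rc_16_2 lc_d_rc_15_1 lc_d_rc_27_4 lc_d_rc_23_2 lc_d_Cert_tree lc_d_rc_15_1 lc_d_rc_8_3 lc_d_rc_16_4 lc_d_rc_8_3 lc_d_rc_16_4 lc_d_rc_24_0 lc_d_rc_24_5 lc_d_Cert_tree lc_d_rc_15_1 lc_d_rc_22_2 lc_d_rc_16_4 lc_d_rc_15_1 lc_d_rc_22_8 lc_d_rc_16_2 lc_d_rc_27_2 lc_d_rc_15_1 lc_d_rc_15_1) (@D3.rec (fun _ => (Cert rels S Gen.d)) lc_d_rc_23_6 lc_d_rc_22_6 lc_d_rc_15_1 lc_d_Cert_tree lc_d_rc_15_1 lc_d_Cert_tree lc_d_rc_15_1 lc_d_rc_17_2 lc_d_rc_15_1 lc_d_rc_24_0 lc_d_Cert_tree lc_d_Cert_tree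 lc_d_rc_15_1 lc_d_rc_27_4 lc_d_Cert_tree lc_d_rc_15_1 lc_d_Cert_tree lc_d_rc_23_4 lc_d_rc_15_1 lc_d_rc_24_5 lc_d_rc_17_2 lc_d_rc_23_2 lc_d_rc_17_0 lc_d_Cert_tree lc_d_Cert_tree lc_d_rc_15_1 lc_d_rc_27_4 lc_d_rc_23_2 lc_d_rc_16_2 lc_d_rc_8_1 lc_d_rc_16_2 lc_d_rc_8_3 lc_d_rc_8_3 lc_d_Cert_tree lc_d_Cert_tree lc_d_rc_15_1 lc_d_rc_15_1 lc_d_Cert_tree lc_d_rc_8_3 lc_d_Cert_tree lc_d_rc_15_1 lc_d_rc_22_2 lc_d_Cert_tree lc_d_Cert_tree lc_d_Cert_tree lc_d_rc_15_1 lc_d_rc_17_2 lc_d_Cert_tree lc_d_rc_8_1 lc_d_rc_15_1 lc_d_rc_16_4 lc_d_Cert_tree lc_d_Cert_tree lc_d_rc_15_1 lc_d_rc_17_2 lc_d_Cert_tree lc_d_rc_15_1 lc_d_rc_27_2 lc_d_Cert_tree lc_d_Cert_tree lc_d_rc_15_1 lc_d_rc_23_6) (@D3.rec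 (fun _ => (Cert rels S Gen.d)) lc_d_rc_15_1 lc_d_Cert_tree lc_d_Cert_tree lc_d_rc_17_2 lc_d_Cert_tree lc_d_rc_15_1 lc_d_rc_15_1 lc_d_rc_27_8 lc_d_rc_15_1 lc_d_rc_15_1 lc_d_Cert_tree lc_d_rc_17_2 lc_d_rc_8_3 lc_d_rc_16_4 lc_d_rc_8_3 lc_d_Cert_tree lc_d_rc_15_1 lc_d_rc_22_8 lc_d_rc_15_1 lc_d_Cert_tree lc_d_rc_15_1 lc_d_rc_15_1 lc_d_rc_15_1 lc_d_rc_16_0 lc_d_rc_15_1 lc_d_rc_24_5 lc_d_rc_15_1 lc_d_rc_27_8 lc_d_rc_15_1 lc_d_rc_15_1 lc_d_Cert_tree lc_d_rc_27_4 lc_d_Cert_tree lc_d_rc_15_1 lc_d_rc_15_1 lc_d_rc_15_1 lc_d_rc_17_2 lc_d_rc_8_3 lc_d_rc_8_3 lc_d_rc_24_0 lc_d_Cert_tree lc_d_rc_12_3 lc_d_rc_17_2 lc_d_Cert_tree lc_d_Cert_tree lc_d_rc_15_1 lc_d_rc_17_2 lc_d_rc_15_1 lc_d_rc_27_4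 lc_d_Cert_tree lc_d_rc_23_6 lc_d_rc_15_1 lc_d_Cert_tree lc_d_rc_17_2 lc_d_rc_8_3 lc_d_rc_27_2 lc_d_rc_24_5 lc_d_rc_15_1 lc_d_rc_23_2 lc_d_rc_8_3 lc_d_rc_15_1 lc_d_rc_23_6) (@D3.rec (fun _ => (Cert rels S Gen.d)) lc_d_rc_22_4 lc_d_rc_15_1 lc_d_rc_3_3 lc_d_rc_17_2 lc_d_rc_15_1 lc_d_rc_8_1 lc_d_rc_15_1 lc_d_rc_27_8 lc_d_rc_3_3 lc_d_Cert_tree lc_d_rc_17_2 lc_d_Cert_tree lc_d_Cert_tree lc_d_rc_15_1 lc_d_rc_3_1 lc_d_rc_22_2 lc_d_rc_27_8 lc_d_rc_8_3 lc_d_rc_23_6 lc_d_rc_8_3 lc_d_rc_15_1 lc_d_rc_3_3 lc_d_rc_27_4 lc_d_rc_15_1 lc_d_rc_17_2 lc_d_Cert_tree lc_d_Cert_tree lc_d_rc_15_1 lc_d_Cert_tree lc_d_rc_27_2 lc_d_rc_15_1 lc_d_rc_15_1 lc_d_rc_8_3 lc_d_Cert_tree lc_d_rc_15_1 lc_d_rc_15_1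 lc_d_rc_17_2 lc_d_rc_8_3 lc_d_Cert_tree lc_d_rc_16_4 lc_d_Cert_tree lc_d_Cert_tree lc_d_rc_15_1 lc_d_Cert_tree lc_d_Cert_tree lc_d_Cert_tree lc_d_rc_22_6 lc_d_rc_15_1 lc_d_rc_17_2 lc_d_Cert_tree lc_d_rc_15_1 lc_d_rc_15_1 lc_d_Cert_tree lc_d_rc_24_0 lc_d_rc_24_0 lc_d_Cert_tree lc_d_rc_8_1 lc_d_rc_27_8 lc_d_rc_23_8 lc_d_rc_15_1 lc_d_rc_8_3 lc_d_Cert_tree) (@D3.rec (fun _ => (Cert rels S Gen.d)) lc_d_rc_23_4 lc_d_rc_24_5 lc_d_rc_15_1 lc_d_rc_17_2 lc_d_rc_15_1 lc_d_rc_15_1 lc_d_rc_15_1 lc_d_rc_3_3 lc_d_rc_23_2 lc_d_rc_16_2 lc_d_rc_24_0 lc_d_rc_23_2 lc_d_rc_8_3 lc_d_Cert_tree lc_d_rc_17_2 lc_d_rc_24_0 lc_d_rc_17_2 lc_d_rc_3_3 lc_d_rc_8_3 lc_d_rc_8_3 lc_d_rc_12_3 lc_d_Cert_tree lc_d_Cert_tree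 lc_d_rc_17_2 lc_d_rc_15_1 lc_d_rc_8_3 lc_d_rc_8_3 lc_d_rc_27_10 lc_d_rc_15_1 lc_d_rc_8_3 lc_d_rc_8_3 lc_d_rc_24_5 lc_d_rc_8_3 lc_d_rc_16_4 lc_d_rc_8_3 lc_d_rc_15_1 lc_d_rc_3_3 lc_d_Cert_tree lc_d_Cert_tree lc_d_Cert_tree lc_d_rc_15_1 lc_d_rc_22_2 lc_d_rc_15_1 lc_d_rc_15_1 lc_d_rc_15_1 lc_d_rc_22_4 lc_d_rc_23_6 lc_d_rc_23_4 lc_d_rc_22_8 lc_d_rc_8_3 lc_d_rc_24_0 lc_d_rc_8_3 lc_d_Cert_tree lc_d_rc_8_3 lc_d_rc_22_4 lc_d_Cert_tree lc_d_rc_8_3 lc_d_Cert_tree lc_d_rc_8_3 lc_d_rc_15_1 lc_d_rc_17_2 lc_d_rc_15_1) (@D3.rec (fun _ => (Cert rels S Gen.d)) lc_d_rc_15_1 lc_d_rc_15_1 lc_d_rc_3_1 lc_d_rc_3_3 lc_d_rc_8_1 lc_d_rc_15_1 lc_d_rc_3_3 lc_d_rc_3_3 lc_d_rc_15_1 lc_d_rc_8_3 lc_d_rc_27_4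 lc_d_rc_8_3 lc_d_rc_3_3 lc_d_rc_22_6 lc_d_Cert_tree lc_d_Cert_tree lc_d_rc_15_1 lc_d_Cert_tree lc_d_Cert_tree lc_d_rc_15_1 lc_d_Cert_tree lc_d_Cert_tree lc_d_rc_15_1 lc_d_rc_27_2 lc_d_Cert_tree lc_d_rc_15_1 lc_d_rc_15_1 lc_d_rc_15_1 lc_d_Cert_tree lc_d_rc_17_2 lc_d_Cert_tree lc_d_Cert_tree lc_d_rc_15_1 lc_d_rc_3_1 lc_d_rc_8_3 lc_d_rc_23_2 lc_d_rc_16_4 lc_d_rc_15_1 lc_d_rc_8_3 lc_d_rc_22_4 lc_d_rc_16_4 lc_d_Cert_tree lc_d_rc_15_1 lc_d_rc_3_1 lc_d_rc_27_10 lc_d_rc_15_1 lc_d_Cert_tree lc_d_rc_15_1 lc_d_Cert_tree lc_d_rc_15_1 lc_d_Cert_tree lc_d_rc_15_1 lc_d_Cert_tree lc_d_rc_17_2 lc_d_Cert_tree lc_d_Cert_tree lc_d_rc_22_4 lc_d_Cert_tree lc_d_rc_15_1 lc_d_rc_15_1 lc_d_Cert_tree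 lc_d_rc_15_1) (@D3.rec (fun _ => (Cert rels S Gen.d)) lc_d_rc_15_1 lc_d_rc_15_1 lc_d_rc_27_8 lc_d_rc_8_3 lc_d_rc_15_1 lc_d_rc_16_4 lc_d_rc_15_1 lc_d_rc_15_1 lc_d_rc_27_2 lc_d_rc_15_1 lc_d_rc_17_2 lc_d_rc_15_1 lc_d_rc_17_2 lc_d_rc_8_3 lc_d_Cert_tree lc_d_rc_15_1 lc_d_Cert_tree lc_d_Cert_tree lc_d_rc_15_1 lc_d_rc_15_1 lc_d_rc_15_1 lc_d_rc_8_3 lc_d_Cert_tree lc_d_rc_8_3 lc_d_rc_15_1 lc_d_rc_15_1 lc_d_rc_23_6 lc_d_rc_27_8 lc_d_rc_15_1 lc_d_rc_22_2 lc_d_rc_15_1 lc_d_rc_8_3 lc_d_rc_16_2 lc_d_Cert_tree lc_d_rc_25_18 lc_d_rc_15_1 lc_d_rc_15_1 lc_d_rc_8_3 lc_d_rc_17_2 lc_d_Cert_tree lc_d_Cert_tree lc_d_Cert_tree lc_d_rc_15_1 lc_d_rc_15_1 lc_d_rc_22_6 lc_d_rc_17_0 lc_d_rc_23_8 lc_d_rc_15_1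 lc_d_rc_23_2 lc_d_rc_24_5 lc_d_rc_16_4 lc_d_rc_23_8 lc_d_rc_17_2 lc_d_rc_17_2 lc_d_rc_8_3 lc_d_rc_27_8 lc_d_rc_15_1 lc_d_rc_3_3 lc_d_Cert_tree lc_d_rc_15_1 lc_d_rc_23_2 lc_d_rc_27_10) (@D3.rec (fun _ => (Cert rels S Gen.d)) lc_d_rc_27_10 lc_d_Cert_tree lc_d_rc_15_1 lc_d_Cert_tree lc_d_rc_27_10 lc_d_Cert_tree lc_d_rc_15_1 lc_d_Cert_tree lc_d_Cert_tree lc_d_rc_15_1 lc_d_rc_27_4 lc_d_rc_8_3 lc_d_rc_23_6 lc_d_rc_23_4 lc_d_rc_16_2 lc_d_rc_15_1 lc_d_rc_22_6 lc_d_rc_15_1 lc_d_rc_24_0 lc_d_rc_8_3 lc_d_rc_16_4 lc_d_rc_15_1 lc_d_rc_25_2 lc_d_Cert_tree lc_d_rc_15_1 lc_d_rc_8_1 lc_d_rc_24_5 lc_d_rc_15_1 lc_d_rc_15_1 lc_d_rc_22_4 lc_d_Cert_tree lc_d_rc_15_1 lc_d_Cert_tree lc_d_rc_15_1 lc_d_Cert_tree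 lc_d_Cert_tree lc_d_rc_15_1 lc_d_Cert_tree lc_d_rc_15_1 lc_d_rc_27_8 lc_d_rc_15_1 lc_d_rc_23_4 lc_d_rc_22_8 lc_d_rc_27_4 lc_d_rc_16_4 lc_d_rc_8_3 lc_d_rc_15_1 lc_d_Cert_tree lc_d_rc_15_1 lc_d_rc_17_2 lc_d_rc_8_1 lc_d_rc_23_8 lc_d_rc_15_1 lc_d_rc_24_5 lc_d_Cert_tree lc_d_rc_15_1 lc_d_rc_17_2 lc_d_rc_15_1 lc_d_rc_15_1 lc_d_Cert_tree lc_d_rc_8_3 lc_d_rc_15_1) (@D3.rec (fun _ => (Cert rels S Gen.d)) lc_d_Cert_tree lc_d_rc_17_2 lc_d_rc_15_1 lc_d_rc_8_3 lc_d_rc_15_1 lc_d_rc_27_8 lc_d_rc_15_1 lc_d_rc_23_6 lc_d_Cert_tree lc_d_rc_17_2 lc_d_rc_8_3 lc_d_rc_3_3 lc_d_rc_8_1 lc_d_rc_23_4 lc_d_rc_16_4 lc_d_Cert_tree lc_d_Cert_tree lc_d_Cert_tree lc_d_Cert_tree lc_d_rc_15_1 lc_d_rc_17_2 lc_d_rc_15_1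 lc_d_rc_15_1 lc_d_Cert_tree lc_d_rc_17_2 lc_d_rc_8_3 lc_d_rc_22_8 lc_d_rc_27_4 lc_d_rc_15_1 lc_d_rc_15_1 lc_d_rc_16_4 lc_d_rc_8_3 lc_d_rc_15_1 lc_d_Cert_tree lc_d_Cert_tree lc_d_rc_15_1 lc_d_rc_8_3 lc_d_rc_8_3 lc_d_rc_24_0 lc_d_Cert_tree lc_d_Cert_tree lc_d_Cert_tree lc_d_rc_15_1 lc_d_rc_17_2 lc_d_rc_15_1 lc_d_rc_27_8 lc_d_rc_17_2 lc_d_rc_17_2 lc_d_Cert_tree lc_d_rc_23_2 lc_d_rc_12_1 lc_d_rc_16_4 lc_d_rc_17_0 lc_d_rc_15_1 lc_d_rc_17_2 lc_d_rc_15_1 lc_d_Cert_tree lc_d_rc_15_1 lc_d_rc_27_8 lc_d_rc_8_3 lc_d_rc_15_1 lc_d_Cert_tree) (@D3.rec (fun _ => (Cert rels S Gen.d)) lc_d_rc_17_2 lc_d_Cert_tree lc_d_Cert_tree lc_d_rc_15_1 lc_d_Cert_tree lc_d_Cert_tree lc_d_rc_15_1 lc_d_rc_15_1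 lc_d_rc_15_1 lc_d_Cert_tree lc_d_rc_15_1 lc_d_Cert_tree lc_d_rc_15_1 lc_d_rc_24_5 lc_d_rc_8_3 lc_d_Cert_tree lc_d_Cert_tree lc_d_rc_15_1 lc_d_Cert_tree lc_d_rc_15_1 lc_d_rc_27_2 lc_d_Cert_tree lc_d_rc_15_1 lc_d_Cert_tree lc_d_rc_22_2 lc_d_rc_15_1 lc_d_rc_27_4 lc_d_rc_8_3 lc_d_rc_23_2 lc_d_rc_16_4 lc_d_Cert_tree lc_d_Cert_tree lc_d_rc_15_1 lc_d_Cert_tree lc_d_rc_15_1 lc_d_rc_15_1 lc_d_rc_3_3 lc_d_rc_3_1 lc_d_rc_15_1 lc_d_Cert_tree lc_d_rc_16_2 lc_d_Cert_tree lc_d_Cert_tree lc_d_rc_8_3 lc_d_rc_23_2 lc_d_Cert_tree lc_d_Cert_tree lc_d_rc_17_2 lc_d_rc_15_1 lc_d_rc_15_1 lc_d_rc_27_8 lc_d_Cert_tree lc_d_rc_16_2 lc_d_Cert_tree lc_d_Cert_tree lc_d_rc_8_3 lc_d_Cert_tree lc_d_Cert_tree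 lc_d_rc_15_1 lc_d_rc_15_1 lc_d_rc_17_2 lc_d_rc_23_4) (@D3.rec (fun _ => (Cert rels S Gen.d)) lc_d_rc_8_3 lc_d_rc_22_2 lc_d_rc_15_1 lc_d_Cert_tree lc_d_rc_8_3 lc_d_Cert_tree lc_d_Cert_tree lc_d_Cert_tree lc_d_rc_15_1 lc_d_rc_17_2 lc_d_Cert_tree lc_d_Cert_tree lc_d_rc_15_1 lc_d_Cert_tree lc_d_Cert_tree lc_d_rc_15_1 lc_d_rc_17_2 lc_d_rc_8_3 lc_d_rc_16_2 lc_d_rc_15_1 lc_d_rc_15_1 lc_d_rc_16_2 lc_d_Cert_tree lc_d_rc_27_4 lc_d_rc_15_1 lc_d_rc_15_1 lc_d_rc_15_1 lc_d_Cert_tree lc_d_rc_16_2 lc_d_rc_27_8 lc_d_rc_27_8 lc_d_rc_8_3 lc_d_rc_17_0 lc_d_Cert_tree lc_d_rc_15_1 lc_d_rc_17_2 lc_d_rc_15_1 lc_d_rc_15_1 lc_d_rc_16_4 lc_d_Cert_tree lc_d_Cert_tree lc_d_rc_15_1 lc_d_rc_17_2 lc_d_Cert_tree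 lc_d_rc_15_1 lc_d_rc_16_2 lc_d_rc_24_0 lc_d_rc_15_1 lc_d_Cert_tree lc_d_rc_23_6 lc_d_Cert_tree lc_d_rc_8_3 lc_d_rc_15_1 lc_d_rc_16_4 lc_d_rc_15_1 lc_d_rc_8_3 lc_d_rc_15_1 lc_d_rc_23_2 lc_d_Cert_tree lc_d_Cert_tree lc_d_Cert_tree lc_d_rc_15_1) (@D3.rec (fun _ => (Cert rels S Gen.d)) lc_d_rc_17_2 lc_d_Cert_tree lc_d_rc_15_1 lc_d_rc_15_1 lc_d_rc_17_2 lc_d_Cert_tree lc_d_rc_17_2 lc_d_Cert_tree lc_d_rc_27_2 lc_d_rc_8_1 lc_d_rc_15_1 lc_d_rc_17_2 lc_d_Cert_tree lc_d_rc_15_1 lc_d_rc_17_2 lc_d_Cert_tree lc_d_Cert_tree lc_d_rc_15_1 lc_d_Cert_tree lc_d_rc_15_1 lc_d_Cert_tree lc_d_rc_15_1 lc_d_rc_8_3 lc_d_rc_22_4 lc_d_rc_17_2 lc_d_rc_15_1 lc_d_rc_27_4 lc_d_Cert_tree lc_d_rc_16_2 lc_d_Cert_tree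 lc_d_rc_16_2 lc_d_rc_8_3 lc_d_Cert_tree lc_d_rc_27_4 lc_d_Cert_tree lc_d_rc_8_3 lc_d_Cert_tree lc_d_rc_8_3 lc_d_rc_15_1 lc_d_Cert_tree lc_d_Cert_tree lc_d_rc_15_1 lc_d_rc_15_1 lc_d_rc_3_3 lc_d_rc_15_1 lc_d_Cert_tree lc_d_rc_15_1 lc_d_rc_24_0 lc_d_Cert_tree lc_d_rc_8_1 lc_d_rc_24_0 lc_d_rc_15_1 lc_d_Cert_tree lc_d_Cert_tree lc_d_rc_15_1 lc_d_Cert_tree lc_d_rc_27_2 lc_d_Cert_tree lc_d_rc_15_1 lc_d_rc_17_2 lc_d_Cert_tree lc_d_rc_15_1) (@D3.rec (fun _ => (Cert rels S Gen.d)) lc_d_rc_3_1 lc_d_rc_24_5 lc_d_rc_16_4 lc_d_rc_15_1 lc_d_rc_3_3 lc_d_rc_23_2 lc_d_Cert_tree lc_d_rc_16_2 lc_d_Cert_tree lc_d_rc_27_4 lc_d_Cert_tree lc_d_rc_17_2 lc_d_Cert_tree lc_d_rc_15_1 lc_d_rc_15_1 lc_d_rc_3_3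 lc_d_rc_24_0 lc_d_rc_15_1 lc_d_Cert_tree lc_d_rc_16_2 lc_d_rc_23_8 lc_d_rc_23_2 lc_d_rc_17_2 lc_d_rc_15_1 lc_d_Cert_tree lc_d_rc_23_4 lc_d_rc_23_8 lc_d_rc_27_2 lc_d_rc_3_3 lc_d_Cert_tree lc_d_rc_16_2 lc_d_Cert_tree lc_d_Cert_tree lc_d_rc_15_1 lc_d_rc_17_2 lc_d_rc_24_5 lc_d_Cert_tree lc_d_Cert_tree lc_d_rc_8_3 lc_d_rc_8_3 lc_d_rc_15_1 lc_d_rc_22_8 lc_d_rc_15_1 lc_d_rc_16_4 lc_d_Cert_tree lc_d_rc_17_2 lc_d_rc_15_1 lc_d_rc_8_1 lc_d_rc_8_3 lc_d_Cert_tree lc_d_rc_15_1 lc_d_rc_27_4 lc_d_Cert_tree lc_d_rc_15_1 lc_d_Cert_tree lc_d_rc_8_3 lc_d_Cert_tree lc_d_rc_17_2 lc_d_rc_15_1 lc_d_rc_23_8 lc_d_rc_8_3 lc_d_rc_16_4) (@D3.rec (fun _ => (Cert rels S Gen.d)) lc_d_rc_8_3 lc_d_rc_16_4 lc_d_rc_15_1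 lc_d_rc_15_1 lc_d_rc_3_1 lc_d_rc_16_0 lc_d_rc_15_1 lc_d_Cert_tree lc_d_rc_15_1 lc_d_rc_22_6 lc_d_Cert_tree lc_d_rc_15_1 lc_d_rc_27_4 lc_d_rc_15_1 lc_d_Cert_tree lc_d_rc_24_0 lc_d_rc_24_0 lc_d_rc_17_2 lc_d_Cert_tree lc_d_Cert_tree lc_d_rc_15_1 lc_d_rc_22_2 lc_d_rc_15_1 lc_d_rc_22_6 lc_d_rc_16_4 lc_d_rc_8_3 lc_d_rc_3_1 lc_d_rc_8_3 lc_d_rc_16_4 lc_d_rc_23_8 lc_d_rc_8_3 lc_d_Cert_tree lc_d_rc_15_1 lc_d_rc_15_1 lc_d_rc_27_10 lc_d_rc_8_3 lc_d_rc_15_1 lc_d_rc_3_3 lc_d_rc_23_4 lc_d_rc_15_1 lc_d_rc_15_1 lc_d_rc_23_4 lc_d_rc_23_4 lc_d_Cert_tree lc_d_rc_15_1 lc_d_rc_27_4 lc_d_Cert_tree lc_d_rc_15_1 lc_d_rc_27_8 lc_d_rc_15_1 lc_d_rc_15_1 lc_d_Cert_tree lc_d_rc_17_2 lc_d_rc_8_1 lc_d_rc_15_1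 lc_d_rc_12_3 lc_d_rc_15_1 lc_d_Cert_tree lc_d_Cert_tree lc_d_rc_15_1 lc_d_rc_15_1 lc_d_rc_24_5) (@D3.rec (fun _ => (Cert rels S Gen.d)) lc_d_rc_15_1 lc_d_rc_17_2 lc_d_Cert_tree lc_d_rc_15_1 lc_d_rc_15_1 lc_d_Cert_tree lc_d_rc_15_1 lc_d_rc_23_2 lc_d_rc_15_1 lc_d_rc_15_1 lc_d_Cert_tree lc_d_Cert_tree lc_d_rc_15_1 lc_d_rc_27_4 lc_d_rc_15_1 lc_d_rc_3_1 lc_d_rc_15_1 lc_d_rc_17_2 lc_d_rc_8_3 lc_d_rc_27_4 lc_d_Cert_tree lc_d_rc_23_8 lc_d_Cert_tree lc_d_rc_23_2 lc_d_rc_15_1 lc_d_rc_15_1 lc_d_rc_17_2 lc_d_rc_22_2 lc_d_rc_15_1 lc_d_rc_17_2 lc_d_rc_15_1 lc_d_rc_17_2 lc_d_rc_8_3 lc_d_Cert_tree lc_d_rc_17_2 lc_d_Cert_tree lc_d_Cert_tree lc_d_Cert_tree lc_d_Cert_tree lc_d_rc_15_1 lc_d_rc_17_2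 lc_d_Cert_tree lc_d_rc_15_1 lc_d_rc_17_2 lc_d_rc_3_3 lc_d_rc_15_1 lc_d_rc_17_2 lc_d_rc_8_3 lc_d_rc_16_0 lc_d_rc_17_2 lc_d_rc_15_1 lc_d_rc_23_6 lc_d_rc_24_5 lc_d_rc_15_1 lc_d_rc_8_3 lc_d_rc_24_0 lc_d_rc_27_8 lc_d_rc_27_4 lc_d_rc_8_3 lc_d_rc_8_3 lc_d_rc_15_1 lc_d_rc_15_1) (@D3.rec (fun _ => (Cert rels S Gen.d)) lc_d_rc_17_2 lc_d_rc_23_2 lc_d_Cert_tree lc_d_rc_8_3 lc_d_rc_15_1 lc_d_Cert_tree lc_d_rc_15_1 lc_d_rc_17_2 lc_d_Cert_tree lc_d_rc_15_1 lc_d_rc_17_0 lc_d_rc_15_1 lc_d_rc_23_6 lc_d_rc_27_2 lc_d_rc_15_1 lc_d_rc_23_2 lc_d_rc_23_6 lc_d_Cert_tree lc_d_rc_24_0 lc_d_rc_16_0 lc_d_Cert_tree lc_d_rc_15_1 lc_d_rc_15_1 lc_d_rc_17_0 lc_d_rc_17_2 lc_d_Cert_tree lc_d_Cert_tree lc_d_rc_15_1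 lc_d_Cert_tree lc_d_rc_8_1 lc_d_rc_27_4 lc_d_rc_15_1 lc_d_rc_27_2 lc_d_Cert_tree lc_d_rc_23_2 lc_d_rc_16_4 lc_d_rc_16_4 lc_d_rc_8_3 lc_d_rc_23_8 lc_d_Cert_tree lc_d_rc_23_6 lc_d_rc_24_0 lc_d_Cert_tree lc_d_rc_15_1 lc_d_rc_8_3 lc_d_rc_22_8 lc_d_rc_8_1 lc_d_rc_16_4 lc_d_rc_15_1 lc_d_Cert_tree lc_d_rc_16_2 lc_d_Cert_tree lc_d_rc_17_2 lc_d_rc_24_5 lc_d_rc_8_3 lc_d_rc_15_1 lc_d_Cert_tree lc_d_rc_15_1 lc_d_Cert_tree lc_d_Cert_tree lc_d_Cert_tree lc_d_Cert_tree) (@D3.rec (fun _ => (Cert rels S Gen.d)) lc_d_rc_15_1 lc_d_rc_3_3 lc_d_Cert_tree lc_d_rc_15_1 lc_d_rc_27_4 lc_d_rc_8_3 lc_d_Cert_tree lc_d_rc_16_4 lc_d_Cert_tree lc_d_Cert_tree lc_d_Cert_tree lc_d_rc_15_1 lc_d_rc_17_2 lc_d_rc_17_2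 lc_d_rc_15_1 lc_d_rc_3_3 lc_d_rc_23_8 lc_d_rc_15_1 lc_d_Cert_tree lc_d_rc_3_3 lc_d_rc_27_10 lc_d_rc_15_1 lc_d_rc_8_1 lc_d_rc_15_1 lc_d_rc_16_4 lc_d_rc_12_15 lc_d_rc_27_2 lc_d_rc_27_4 lc_d_rc_27_2 lc_d_rc_25_2 lc_d_rc_27_10 lc_d_rc_16_4 lc_d_rc_15_1 lc_d_Cert_tree lc_d_Cert_tree lc_d_rc_15_1 lc_d_rc_17_2 lc_d_rc_15_1 lc_d_Cert_tree lc_d_rc_8_1 lc_d_Cert_tree lc_d_rc_16_0 lc_d_rc_24_5 lc_d_rc_3_1 lc_d_Cert_tree lc_d_Cert_tree lc_d_rc_15_1 lc_d_rc_8_3 lc_d_Cert_tree lc_d_rc_15_1 lc_d_rc_3_3 lc_d_rc_24_5 lc_d_rc_15_1 lc_d_rc_15_1 lc_d_rc_3_3 lc_d_rc_23_6 lc_d_Cert_tree lc_d_rc_16_2 lc_d_rc_8_3 lc_d_rc_16_4 lc_d_rc_8_3 lc_d_rc_3_1) (@D3.rec (fun _ => (Cert rels S Gen.d)) lc_d_rc_8_3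 lc_d_rc_15_1 lc_d_rc_27_10 lc_d_rc_22_4 lc_d_rc_3_1 lc_d_rc_8_3 lc_d_rc_27_2 lc_d_rc_15_1 lc_d_rc_15_1 lc_d_rc_27_8 lc_d_rc_23_6 lc_d_rc_15_1 lc_d_Cert_tree lc_d_rc_15_1 lc_d_rc_8_1 lc_d_Cert_tree lc_d_rc_15_1 lc_d_rc_15_1 lc_d_rc_15_1 lc_d_rc_16_4 lc_d_rc_15_1 lc_d_rc_17_2 lc_d_rc_15_1 lc_d_Cert_tree lc_d_rc_15_1 lc_d_rc_15_1 lc_d_rc_23_2 lc_d_rc_23_6 lc_d_rc_15_1 lc_d_rc_27_4 lc_d_rc_15_1 lc_d_rc_15_1 lc_d_Cert_tree lc_d_rc_17_2 lc_d_rc_23_4 lc_d_rc_8_1 lc_d_rc_22_4 lc_d_rc_16_4 lc_d_Cert_tree lc_d_rc_15_1 lc_d_Cert_tree lc_d_rc_15_1 lc_d_Cert_tree lc_d_Cert_tree lc_d_rc_15_1 lc_d_rc_17_2 lc_d_rc_15_1 lc_d_rc_15_1 lc_d_Cert_tree lc_d_rc_24_0 lc_d_rc_15_1 lc_d_rc_15_1 lc_d_rc_24_0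 lc_d_rc_22_4 lc_d_rc_17_2 lc_d_rc_8_3 lc_d_rc_16_4 lc_d_rc_8_3 lc_d_rc_24_5 lc_d_rc_16_4 lc_d_rc_15_1 lc_d_rc_15_1) (@D3.rec (fun _ => (Cert rels S Gen.d)) lc_d_rc_15_1 lc_d_rc_8_3 lc_d_rc_23_4 lc_d_Cert_tree lc_d_rc_8_3 lc_d_rc_8_1 lc_d_rc_15_1 lc_d_rc_15_1 lc_d_Cert_tree lc_d_rc_8_3 lc_d_rc_15_1 lc_d_rc_27_8 lc_d_Cert_tree lc_d_rc_15_1 lc_d_rc_27_8 lc_d_rc_15_1 lc_d_rc_15_1 lc_d_rc_15_1 lc_d_rc_8_3 lc_d_rc_23_2 lc_d_Cert_tree lc_d_rc_15_1 lc_d_Cert_tree lc_d_rc_15_1 lc_d_rc_23_4 lc_d_Cert_tree lc_d_rc_15_1 lc_d_rc_24_0 lc_d_Cert_tree lc_d_rc_16_4 lc_d_Cert_tree lc_d_Cert_tree lc_d_rc_15_1 lc_d_rc_17_2 lc_d_Cert_tree lc_d_rc_15_1 lc_d_rc_3_3 lc_d_rc_15_1 lc_d_rc_8_3 lc_d_rc_15_1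 lc_d_rc_8_3 lc_d_Cert_tree lc_d_rc_17_2 lc_d_rc_15_1 lc_d_rc_27_4 lc_d_rc_22_2 lc_d_rc_15_1 lc_d_rc_22_2 lc_d_rc_24_0 lc_d_Cert_tree lc_d_Cert_tree lc_d_rc_8_3 lc_d_rc_15_1 lc_d_Cert_tree lc_d_rc_15_1 lc_d_rc_15_1 lc_d_rc_15_1 lc_d_rc_24_5 lc_d_Cert_tree lc_d_rc_16_2 lc_d_rc_16_2 lc_d_rc_17_2) (@D3.rec (fun _ => (Cert rels S Gen.d)) lc_d_Cert_tree lc_d_Cert_tree lc_d_rc_8_3 lc_d_rc_15_1 lc_d_Cert_tree lc_d_rc_15_1 lc_d_rc_15_1 lc_d_Cert_tree lc_d_Cert_tree lc_d_Cert_tree lc_d_rc_8_3 lc_d_rc_15_1 lc_d_rc_17_2 lc_d_rc_24_5 lc_d_rc_23_2 lc_d_rc_27_4 lc_d_rc_8_1 lc_d_rc_23_6 lc_d_rc_16_4 lc_d_Cert_tree lc_d_Cert_tree lc_d_rc_15_1 lc_d_Cert_tree lc_d_rc_15_1 lc_d_rc_15_1 lc_d_rc_15_1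 lc_d_rc_15_1 lc_d_Cert_tree lc_d_rc_16_2 lc_d_rc_3_1 lc_d_rc_27_2 lc_d_rc_23_8 lc_d_Cert_tree lc_d_rc_8_3 lc_d_Cert_tree lc_d_rc_8_3 lc_d_rc_24_0 lc_d_Cert_tree lc_d_rc_15_1 lc_d_Cert_tree lc_d_rc_15_1 lc_d_rc_24_0 lc_d_rc_15_1 lc_d_rc_8_3 lc_d_rc_27_8 lc_d_rc_15_1 lc_d_Cert_tree lc_d_Cert_tree lc_d_rc_15_1 lc_d_rc_8_3 lc_d_rc_22_4 lc_d_rc_15_1 lc_d_rc_15_1 lc_d_rc_15_1 lc_d_rc_17_2 lc_d_rc_22_8 lc_d_rc_3_3 lc_d_Cert_tree lc_d_rc_8_3 lc_d_rc_8_3 lc_d_Cert_tree lc_d_Cert_tree) (@D3.rec (fun _ => (Cert rels S Gen.d)) lc_d_Cert_tree lc_d_rc_17_2 lc_d_rc_15_1 lc_d_Cert_tree lc_d_rc_16_4 lc_d_rc_8_3 lc_d_Cert_tree lc_d_Cert_tree lc_d_rc_23_6 lc_d_rc_17_2 lc_d_rc_15_1 lc_d_rc_15_1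 lc_d_Cert_tree lc_d_rc_27_2 lc_d_rc_16_2 lc_d_rc_22_8 lc_d_Cert_tree lc_d_rc_8_3 lc_d_Cert_tree lc_d_Cert_tree lc_d_rc_15_1 lc_d_rc_8_3 lc_d_rc_15_1 lc_d_rc_15_1 lc_d_rc_8_3 lc_d_Cert_tree lc_d_Cert_tree lc_d_Cert_tree lc_d_rc_15_1 lc_d_rc_17_2 lc_d_rc_22_8 lc_d_rc_15_1 lc_d_rc_15_1 lc_d_rc_15_1 lc_d_Cert_tree lc_d_rc_15_1 lc_d_rc_15_1 lc_d_rc_15_1 lc_d_rc_22_8 lc_d_rc_23_6 lc_d_rc_23_8 lc_d_Cert_tree lc_d_Cert_tree lc_d_rc_23_6 lc_d_rc_27_4 lc_d_rc_8_3 lc_d_rc_27_2 lc_d_rc_27_10 lc_d_rc_3_3 lc_d_rc_8_1 lc_d_rc_25_2 lc_d_rc_15_1 lc_d_rc_22_8 lc_d_Cert_tree lc_d_rc_15_1 lc_d_rc_8_3 lc_d_rc_22_8 lc_d_rc_17_2 lc_d_rc_8_3 lc_d_rc_25_14 lc_d_rc_23_4 lc_d_rc_15_1) (@D3.rec (fun _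 => (Cert rels S Gen.d)) lc_d_rc_16_4 lc_d_Cert_tree lc_d_rc_15_1 lc_d_rc_23_4 lc_d_rc_15_1 lc_d_Cert_tree lc_d_rc_22_8 lc_d_Cert_tree lc_d_rc_15_1 lc_d_Cert_tree lc_d_rc_27_10 lc_d_rc_17_2 lc_d_rc_15_1 lc_d_rc_3_3 lc_d_rc_23_6 lc_d_Cert_tree lc_d_rc_16_4 lc_d_rc_22_6 lc_d_rc_15_1 lc_d_Cert_tree lc_d_rc_15_1 lc_d_rc_15_1 lc_d_rc_22_4 lc_d_rc_17_2 lc_d_Cert_tree lc_d_rc_15_1 lc_d_rc_15_1 lc_d_Cert_tree lc_d_rc_16_2 lc_d_Cert_tree lc_d_rc_22_2 lc_d_Cert_tree lc_d_Cert_tree lc_d_rc_15_1 lc_d_Cert_tree lc_d_rc_15_1 lc_d_rc_16_4 lc_d_Cert_tree lc_d_Cert_tree lc_d_Cert_tree lc_d_rc_15_1 lc_d_rc_17_2 lc_d_Cert_tree lc_d_rc_15_1 lc_d_rc_15_1 lc_d_rc_15_1 lc_d_rc_27_4 lc_d_rc_8_3 lc_d_rc_23_6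 lc_d_rc_15_1 lc_d_rc_16_2 lc_d_rc_27_4 lc_d_rc_17_2 lc_d_Cert_tree lc_d_Cert_tree lc_d_rc_23_8 lc_d_rc_15_1 lc_d_Cert_tree lc_d_Cert_tree lc_d_rc_15_1 lc_d_rc_8_3 lc_d_rc_23_8) (@D3.rec (fun _ => (Cert rels S Gen.d)) lc_d_Cert_tree lc_d_Cert_tree lc_d_rc_15_1 lc_d_rc_15_1 lc_d_rc_24_0 lc_d_rc_23_2 lc_d_Cert_tree lc_d_rc_8_1 lc_d_rc_23_2 lc_d_rc_16_4 lc_d_Cert_tree lc_d_Cert_tree lc_d_Cert_tree lc_d_rc_15_1 lc_d_rc_17_2 lc_d_rc_17_2 lc_d_rc_15_1 lc_d_rc_15_1 lc_d_rc_17_2 lc_d_rc_8_3 lc_d_rc_22_4 lc_d_rc_22_6 lc_d_Cert_tree lc_d_Cert_tree lc_d_Cert_tree lc_d_rc_17_2 lc_d_Cert_tree lc_d_rc_15_1 lc_d_rc_15_1 lc_d_rc_3_3 lc_d_rc_15_1 lc_d_rc_15_1 lc_d_rc_16_2 lc_d_rc_27_10 lc_d_rc_27_2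 lc_d_Cert_tree lc_d_Cert_tree lc_d_rc_15_1 lc_d_rc_17_2 lc_d_rc_3_1 lc_d_rc_15_1 lc_d_Cert_tree lc_d_rc_8_3 lc_d_Cert_tree lc_d_Cert_tree lc_d_rc_15_1 lc_d_rc_17_2 lc_d_rc_15_1 lc_d_rc_16_4 lc_d_rc_8_3 lc_d_rc_15_1 lc_d_rc_22_4 lc_d_rc_17_2 lc_d_Cert_tree lc_d_rc_15_1 lc_d_rc_3_3 lc_d_Cert_tree lc_d_rc_15_1 lc_d_rc_3_3 lc_d_Cert_tree lc_d_rc_8_3 lc_d_rc_3_3) (@D3.rec (fun _ => (Cert rels S Gen.d)) lc_d_rc_8_3 lc_d_rc_22_4 lc_d_rc_15_1 lc_d_rc_15_1 lc_d_rc_15_1 lc_d_rc_8_1 lc_d_Cert_tree lc_d_rc_16_2 lc_d_rc_15_1 lc_d_rc_15_1 lc_d_rc_17_2 lc_d_rc_27_4 lc_d_rc_15_1 lc_d_rc_8_3 lc_d_rc_16_2 lc_d_rc_8_1 lc_d_rc_16_0 lc_d_rc_16_4 lc_d_rc_16_2 lc_d_rc_22_4 lc_d_rc_8_3 lc_d_rc_16_2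 lc_d_rc_8_3 lc_d_rc_17_0 lc_d_rc_3_1 lc_d_rc_15_1 lc_d_rc_3_3 lc_d_rc_8_3 lc_d_rc_15_1 lc_d_Cert_tree lc_d_rc_16_4 lc_d_rc_17_2 lc_d_Cert_tree lc_d_Cert_tree lc_d_rc_17_2 lc_d_rc_16_4 lc_d_rc_16_4 lc_d_rc_24_5 lc_d_rc_15_1 lc_d_Cert_tree lc_d_Cert_tree lc_d_rc_15_1 lc_d_rc_23_2 lc_d_rc_16_0 lc_d_rc_15_1 lc_d_rc_17_2 lc_d_rc_15_1 lc_d_Cert_tree lc_d_rc_15_1 lc_d_Cert_tree lc_d_rc_17_2 lc_d_Cert_tree lc_d_rc_15_1 lc_d_rc_8_3 lc_d_rc_24_5 lc_d_rc_24_0 lc_d_rc_15_1 lc_d_Cert_tree lc_d_rc_15_1 lc_d_rc_16_4 lc_d_Cert_tree lc_d_rc_15_1) (@D3.rec (fun _ => (Cert rels S Gen.d)) lc_d_Cert_tree lc_d_rc_15_1 lc_d_rc_27_8 lc_d_rc_15_1 lc_d_rc_22_4 lc_d_rc_17_2 lc_d_rc_3_1 lc_d_rc_16_4 lc_d_Cert_tree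 lc_d_Cert_tree lc_d_rc_15_1 lc_d_rc_17_2 lc_d_rc_15_1 lc_d_rc_15_1 lc_d_rc_3_1 lc_d_rc_15_1 lc_d_rc_17_2 lc_d_rc_27_4 lc_d_rc_24_5 lc_d_rc_15_1 lc_d_Cert_tree lc_d_rc_15_1 lc_d_Cert_tree lc_d_rc_15_1 lc_d_rc_22_2 lc_d_rc_22_6 lc_d_rc_17_2 lc_d_rc_17_2 lc_d_rc_15_1 lc_d_Cert_tree lc_d_rc_8_1 lc_d_rc_22_2 lc_d_rc_15_1 lc_d_rc_27_4 lc_d_rc_15_1 lc_d_Cert_tree lc_d_rc_15_1 lc_d_Cert_tree lc_d_rc_22_8 lc_d_Cert_tree lc_d_rc_15_1 lc_d_rc_17_2 lc_d_rc_16_4 lc_d_rc_8_3 lc_d_rc_24_5 lc_d_rc_16_4 lc_d_rc_23_4 lc_d_rc_15_1 lc_d_rc_12_1 lc_d_rc_23_2 lc_d_rc_15_1 lc_d_rc_23_8 lc_d_Cert_tree lc_d_rc_25_14 lc_d_rc_15_1 lc_d_rc_17_2 lc_d_rc_15_1 lc_d_rc_27_2 lc_d_rc_15_1 lc_d_rc_27_8 lc_d_rc_17_0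 lc_d_Cert_tree) (@D3.rec (fun _ => (Cert rels S Gen.d)) lc_d_rc_17_2 lc_d_rc_15_1 lc_d_rc_16_0 lc_d_rc_15_1 lc_d_rc_16_2 lc_d_rc_3_3 lc_d_rc_15_1 lc_d_rc_23_2 lc_d_rc_16_2 lc_d_rc_27_10 lc_d_Cert_tree lc_d_rc_3_3 lc_d_rc_27_4 lc_d_rc_15_1 lc_d_rc_27_4 lc_d_Cert_tree lc_d_Cert_tree lc_d_Cert_tree lc_d_rc_15_1 lc_d_rc_17_2 lc_d_rc_17_2 lc_d_Cert_tree lc_d_rc_16_2 lc_d_rc_15_1 lc_d_rc_17_2 lc_d_rc_8_3 lc_d_Cert_tree lc_d_rc_8_3 lc_d_Cert_tree lc_d_rc_23_8 lc_d_rc_22_2 lc_d_rc_25_2 lc_d_rc_8_3 lc_d_rc_24_5 lc_d_Cert_tree lc_d_rc_22_4 lc_d_rc_15_1 lc_d_rc_23_4 lc_d_rc_16_4 lc_d_Cert_tree lc_d_rc_15_1 lc_d_rc_15_1 lc_d_rc_17_2 lc_d_rc_15_1 lc_d_rc_15_1 lc_d_rc_22_8 lc_d_rc_17_2 lc_d_rc_15_1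 lc_d_rc_15_1 lc_d_rc_15_1 lc_d_rc_8_3 lc_d_rc_15_1 lc_d_Cert_tree lc_d_rc_17_2 lc_d_rc_15_1 lc_d_rc_27_2 lc_d_rc_15_1 lc_d_rc_15_1 lc_d_Cert_tree lc_d_rc_15_1 lc_d_rc_17_2 lc_d_Cert_tree) (@D3.rec (fun _ => (Cert rels S Gen.d)) lc_d_rc_15_1 lc_d_rc_27_2 lc_d_rc_15_1 lc_d_rc_24_5 lc_d_rc_15_1 lc_d_rc_15_1 lc_d_rc_23_8 lc_d_rc_17_2 lc_d_rc_15_1 lc_d_rc_15_1 lc_d_Cert_tree lc_d_rc_15_1 lc_d_Cert_tree lc_d_rc_15_1 lc_d_rc_27_8 lc_d_Cert_tree lc_d_rc_16_2 lc_d_Cert_tree lc_d_Cert_tree lc_d_rc_15_1 lc_d_Cert_tree lc_d_rc_15_1 lc_d_Cert_tree lc_d_rc_15_1 lc_d_rc_16_2 lc_d_Cert_tree lc_d_Cert_tree lc_d_Cert_tree lc_d_rc_15_1 lc_d_rc_17_2 lc_d_rc_8_1 lc_d_rc_15_1 lc_d_rc_23_4 lc_d_rc_16_0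 lc_d_rc_16_2 lc_d_rc_27_4 lc_d_rc_27_2 lc_d_rc_27_10 lc_d_rc_15_1 lc_d_rc_15_1 lc_d_rc_23_8 lc_d_rc_27_4 lc_d_rc_15_1 lc_d_rc_15_1 lc_d_Cert_tree lc_d_rc_3_3 lc_d_rc_16_4 lc_d_rc_23_2 lc_d_rc_15_1 lc_d_rc_22_4 lc_d_rc_23_2 lc_d_rc_17_2 lc_d_Cert_tree lc_d_Cert_tree lc_d_rc_15_1 lc_d_rc_17_2 lc_d_Cert_tree lc_d_rc_16_4 lc_d_Cert_tree lc_d_Cert_tree lc_d_rc_17_2 lc_d_Cert_tree) (@D3.rec (fun _ => (Cert rels S Gen.d)) lc_d_rc_24_5 lc_d_Cert_tree lc_d_Cert_tree lc_d_rc_3_1 lc_d_rc_15_1 lc_d_rc_23_8 lc_d_rc_23_4 lc_d_rc_23_4 lc_d_rc_23_2 lc_d_Cert_tree lc_d_rc_3_1 lc_d_rc_15_1 lc_d_rc_17_2 lc_d_rc_15_1 lc_d_rc_8_3 lc_d_Cert_tree lc_d_Cert_tree lc_d_rc_15_1 lc_d_rc_17_2 lc_d_Cert_tree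 lc_d_rc_15_1 lc_d_rc_27_8 lc_d_rc_24_0 lc_d_rc_15_1 lc_d_Cert_tree lc_d_rc_24_5 lc_d_rc_24_0 lc_d_Cert_tree lc_d_rc_15_1 lc_d_rc_3_3 lc_d_rc_17_2 lc_d_rc_15_1 lc_d_rc_27_4 lc_d_Cert_tree lc_d_rc_15_1 lc_d_rc_15_1 lc_d_rc_27_2 lc_d_rc_15_1 lc_d_rc_12_1 lc_d_rc_15_1 lc_d_rc_16_2 lc_d_rc_15_1 lc_d_rc_22_4 lc_d_rc_16_4 lc_d_rc_8_3 lc_d_rc_22_2 lc_d_Cert_tree lc_d_rc_8_3 lc_d_rc_22_6 lc_d_rc_16_4 lc_d_rc_23_8 lc_d_rc_24_0 lc_d_rc_8_3 lc_d_rc_22_4 lc_d_rc_16_4 lc_d_rc_24_5 lc_d_rc_8_1 lc_d_Cert_tree lc_d_Cert_tree lc_d_rc_15_1 lc_d_rc_17_2 lc_d_rc_15_1) (@D3.rec (fun _ => (Cert rels S Gen.d)) lc_d_rc_17_2 lc_d_rc_15_1 lc_d_rc_23_2 lc_d_rc_17_2 lc_d_rc_15_1 lc_d_rc_15_1 lc_d_rc_25_2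 lc_d_rc_27_2 lc_d_rc_8_3 lc_d_rc_24_5 lc_d_rc_15_1 lc_d_rc_17_2 lc_d_rc_15_1 lc_d_rc_27_4 lc_d_rc_3_3 lc_d_rc_17_2 lc_d_Cert_tree lc_d_rc_27_2 lc_d_rc_8_3 lc_d_rc_15_1 lc_d_Cert_tree lc_d_Cert_tree lc_d_rc_15_1 lc_d_rc_15_1 lc_d_rc_15_1 lc_d_rc_15_1 lc_d_Cert_tree lc_d_rc_8_1 lc_d_rc_15_1 lc_d_rc_16_0 lc_d_rc_15_1 lc_d_rc_15_1 lc_d_rc_15_1 lc_d_Cert_tree lc_d_rc_15_1 lc_d_rc_8_3 lc_d_rc_15_1 lc_d_rc_27_4 lc_d_Cert_tree lc_d_Cert_tree lc_d_rc_22_6 lc_d_rc_15_1 lc_d_rc_17_2 lc_d_rc_16_4 lc_d_rc_15_1 lc_d_rc_15_1 lc_d_rc_15_1 lc_d_rc_8_3 lc_d_rc_24_0 lc_d_Cert_tree lc_d_rc_8_1 lc_d_rc_23_8 lc_d_rc_15_1 lc_d_rc_24_0 lc_d_rc_16_4 lc_d_rc_23_4 lc_d_rc_15_1 lc_d_rc_23_4 lc_d_rc_23_4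 lc_d_rc_8_3 lc_d_rc_22_6 lc_d_rc_27_4) (@D3.rec (fun _ => (Cert rels S Gen.d)) lc_d_rc_15_1 lc_d_rc_15_1 lc_d_rc_17_2 lc_d_rc_12_13 lc_d_rc_15_1 lc_d_rc_15_1 lc_d_rc_23_2 lc_d_rc_15_1 lc_d_Cert_tree lc_d_rc_16_2 lc_d_rc_8_3 lc_d_Cert_tree lc_d_rc_16_4 lc_d_rc_15_1 lc_d_Cert_tree lc_d_rc_8_3 lc_d_rc_15_1 lc_d_Cert_tree lc_d_rc_15_1 lc_d_Cert_tree lc_d_Cert_tree lc_d_Cert_tree lc_d_rc_17_2 lc_d_rc_23_6 lc_d_Cert_tree lc_d_rc_16_4 lc_d_Cert_tree lc_d_rc_15_1 lc_d_rc_16_2 lc_d_Cert_tree lc_d_Cert_tree lc_d_rc_17_2 lc_d_rc_22_4 lc_d_rc_15_1 lc_d_rc_17_0 lc_d_Cert_tree lc_d_rc_15_1 lc_d_Cert_tree lc_d_Cert_tree lc_d_Cert_tree lc_d_Cert_tree lc_d_rc_15_1 lc_d_rc_8_3 lc_d_rc_16_2 lc_d_Cert_tree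 lc_d_rc_25_6 lc_d_Cert_tree lc_d_Cert_tree lc_d_rc_15_1 lc_d_rc_17_2 lc_d_Cert_tree lc_d_rc_22_2 lc_d_rc_23_2 lc_d_rc_16_0 lc_d_Cert_tree lc_d_rc_15_1 lc_d_rc_17_2 lc_d_rc_15_1 lc_d_rc_27_4 lc_d_Cert_tree lc_d_rc_16_2 lc_d_rc_15_1) (@D3.rec (fun _ => (Cert rels S Gen.d)) lc_d_rc_8_3 lc_d_rc_15_1 lc_d_Cert_tree lc_d_rc_17_2 lc_d_Cert_tree lc_d_rc_15_1 lc_d_rc_15_1 lc_d_rc_15_1 lc_d_rc_15_1 lc_d_rc_15_1 lc_d_rc_16_2 lc_d_rc_23_2 lc_d_rc_16_4 lc_d_Cert_tree lc_d_rc_15_1 lc_d_rc_16_4 lc_d_rc_23_2 lc_d_Cert_tree lc_d_rc_17_2 lc_d_rc_15_1 lc_d_rc_22_2 lc_d_rc_16_2 lc_d_Cert_tree lc_d_rc_15_1 lc_d_rc_3_3 lc_d_rc_15_1 lc_d_rc_27_4 lc_d_Cert_tree lc_d_rc_15_1 lc_d_Cert_tree lc_d_rc_15_1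 lc_d_rc_23_6 lc_d_rc_8_3 lc_d_rc_17_2 lc_d_rc_15_1 lc_d_rc_15_1 lc_d_rc_24_0 lc_d_rc_3_1 lc_d_rc_27_2 lc_d_rc_15_1 lc_d_Cert_tree lc_d_rc_15_1 lc_d_rc_15_1 lc_d_rc_24_0 lc_d_rc_16_4 lc_d_rc_8_3 lc_d_rc_15_1 lc_d_rc_22_2 lc_d_rc_15_1 lc_d_rc_15_1 lc_d_rc_8_3 lc_d_rc_15_1 lc_d_rc_17_2 lc_d_Cert_tree lc_d_Cert_tree lc_d_rc_15_1 lc_d_rc_17_2 lc_d_Cert_tree lc_d_rc_24_0 lc_d_rc_15_1 lc_d_Cert_tree lc_d_rc_16_4) (@D3.rec (fun _ => (Cert rels S Gen.d)) lc_d_rc_15_1 lc_d_rc_3_3 lc_d_Cert_tree lc_d_rc_17_2 lc_d_rc_23_6 lc_d_rc_23_4 lc_d_Cert_tree lc_d_rc_16_2 lc_d_rc_15_1 lc_d_rc_15_1 lc_d_Cert_tree lc_d_rc_16_2 lc_d_Cert_tree lc_d_rc_8_3 lc_d_Cert_tree lc_d_rc_24_0 lc_d_rc_15_1 lc_d_Cert_tree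 lc_d_rc_15_1 lc_d_rc_22_6 lc_d_rc_16_4 lc_d_rc_15_1 lc_d_Cert_tree lc_d_Cert_tree lc_d_rc_15_1 lc_d_Cert_tree lc_d_rc_15_1 lc_d_rc_27_2 lc_d_Cert_tree lc_d_rc_8_3 lc_d_Cert_tree lc_d_rc_15_1 lc_d_rc_15_1 lc_d_rc_15_1 lc_d_rc_8_3 lc_d_rc_15_1 lc_d_Cert_tree lc_d_rc_15_1 lc_d_rc_15_1 lc_d_rc_12_1 lc_d_Cert_tree lc_d_rc_15_1 lc_d_rc_27_2 lc_d_rc_8_3 lc_d_Cert_tree lc_d_rc_17_2 lc_d_rc_23_2 lc_d_Cert_tree lc_d_Cert_tree lc_d_rc_15_1 lc_d_rc_15_1 lc_d_rc_27_10 lc_d_rc_15_1 lc_d_rc_15_1 lc_d_rc_15_1 lc_d_rc_15_1 lc_d_Cert_tree lc_d_rc_15_1 lc_d_Cert_tree lc_d_rc_27_10 lc_d_rc_23_8 lc_d_rc_23_8) (@D3.rec (fun _ => (Cert rels S Gen.d)) lc_d_rc_15_1 lc_d_rc_17_2 lc_d_rc_15_1 lc_d_rc_8_3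 lc_d_rc_15_1 lc_d_rc_15_1 lc_d_rc_15_1 lc_d_Cert_tree lc_d_rc_27_2 lc_d_rc_15_1 lc_d_rc_17_2 lc_d_Cert_tree lc_d_rc_17_2 lc_d_Cert_tree lc_d_Cert_tree lc_d_rc_15_1 lc_d_rc_15_1 lc_d_rc_23_2 lc_d_rc_23_2 lc_d_Cert_tree lc_d_rc_15_1 lc_d_Cert_tree lc_d_rc_15_1 lc_d_Cert_tree lc_d_rc_15_1 lc_d_rc_27_2 lc_d_rc_15_1 lc_d_rc_15_1 lc_d_rc_15_1 lc_d_rc_8_3 lc_d_Cert_tree lc_d_Cert_tree lc_d_rc_17_2 lc_d_Cert_tree lc_d_rc_15_1 lc_d_Cert_tree lc_d_rc_24_0 lc_d_rc_15_1 lc_d_rc_3_3 lc_d_rc_25_14 lc_d_rc_15_1 lc_d_rc_16_4 lc_d_rc_15_1 lc_d_rc_16_0 lc_d_rc_23_6 lc_d_rc_12_3 lc_d_rc_16_4 lc_d_rc_17_2 lc_d_rc_17_2 lc_d_rc_15_1 lc_d_rc_22_4 lc_d_rc_15_1 lc_d_rc_15_1 lc_d_rc_15_1 lc_d_rc_15_1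 lc_d_Cert_tree lc_d_rc_16_2 lc_d_rc_15_1 lc_d_rc_15_1 lc_d_rc_15_1 lc_d_rc_22_4 lc_d_Cert_tree) (@D3.rec (fun _ => (Cert rels S Gen.d)) lc_d_rc_15_1 lc_d_rc_8_1 lc_d_rc_22_8 lc_d_rc_27_8 lc_d_rc_8_1 lc_d_Cert_tree lc_d_rc_16_4 lc_d_rc_22_4 lc_d_Cert_tree lc_d_Cert_tree lc_d_rc_15_1 lc_d_rc_16_4 lc_d_rc_15_1 lc_d_rc_3_3 lc_d_rc_3_3 lc_d_rc_8_3 lc_d_rc_16_2 lc_d_Cert_tree lc_d_rc_15_1 lc_d_rc_12_15 lc_d_Cert_tree lc_d_rc_15_1 lc_d_Cert_tree lc_d_rc_23_2 lc_d_Cert_tree lc_d_rc_15_1 lc_d_rc_15_1 lc_d_rc_8_3 lc_d_rc_16_2 lc_d_rc_23_2 lc_d_rc_15_1 lc_d_Cert_tree lc_d_Cert_tree lc_d_rc_15_1 lc_d_rc_17_2 lc_d_Cert_tree lc_d_rc_15_1 lc_d_Cert_tree lc_d_rc_8_3 lc_d_Cert_tree lc_d_rc_23_4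 lc_d_Cert_tree lc_d_rc_25_6 lc_d_rc_15_1 lc_d_rc_3_3 lc_d_rc_27_2 lc_d_rc_16_2 lc_d_rc_17_2 lc_d_rc_24_5 lc_d_rc_15_1 lc_d_rc_8_3 lc_d_rc_15_1 lc_d_Cert_tree lc_d_rc_15_1 lc_d_rc_23_2 lc_d_rc_27_8 lc_d_rc_17_2 lc_d_rc_23_2 lc_d_rc_22_4 lc_d_rc_15_1 lc_d_rc_17_2 lc_d_rc_16_4) (@D3.rec (fun _ => (Cert rels S Gen.d)) lc_d_rc_15_1 lc_d_rc_8_1 lc_d_rc_23_6 lc_d_rc_22_6 lc_d_rc_16_4 lc_d_rc_8_3 lc_d_rc_15_1 lc_d_rc_15_1 lc_d_rc_23_6 lc_d_rc_24_0 lc_d_rc_15_1 lc_d_rc_17_2 lc_d_rc_8_3 lc_d_rc_8_1 lc_d_rc_15_1 lc_d_rc_25_14 lc_d_rc_15_1 lc_d_rc_15_1 lc_d_rc_3_3 lc_d_rc_16_2 lc_d_rc_24_5 lc_d_rc_15_1 lc_d_rc_22_6 lc_d_rc_15_1 lc_d_rc_27_8 lc_d_rc_15_1 lc_d_rc_15_1 lc_d_rc_17_2 lc_d_rc_15_1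 lc_d_Cert_tree lc_d_rc_27_4 lc_d_rc_15_1 lc_d_Cert_tree lc_d_rc_15_1 lc_d_rc_25_10 lc_d_rc_15_1 lc_d_rc_15_1 lc_d_rc_17_2 lc_d_rc_24_5 lc_d_rc_15_1 lc_d_Cert_tree lc_d_rc_22_6 lc_d_rc_15_1 lc_d_rc_27_10 lc_d_rc_15_1 lc_d_rc_22_8 lc_d_rc_17_2 lc_d_rc_15_1 lc_d_rc_3_3 lc_d_rc_23_4 lc_d_Cert_tree lc_d_rc_15_1 lc_d_rc_17_2 lc_d_rc_16_0 lc_d_rc_3_3 lc_d_Cert_tree lc_d_Cert_tree lc_d_rc_15_1 lc_d_rc_17_2 lc_d_rc_8_1 lc_d_rc_3_1 lc_d_rc_8_1) (@D3.rec (fun _ => (Cert rels S Gen.d)) lc_d_Cert_tree lc_d_rc_15_1 lc_d_rc_15_1 lc_d_rc_17_2 lc_d_rc_8_1 lc_d_Cert_tree lc_d_rc_15_1 lc_d_rc_27_4 lc_d_rc_15_1 lc_d_rc_8_3 lc_d_rc_27_10 lc_d_Cert_tree lc_d_rc_17_0 lc_d_rc_16_4 lc_d_rc_3_3 lc_d_rc_16_0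 lc_d_Cert_tree lc_d_Cert_tree lc_d_Cert_tree lc_d_rc_23_4 lc_d_rc_15_1 lc_d_rc_27_4 lc_d_rc_15_1 lc_d_rc_15_1 lc_d_rc_23_6 lc_d_rc_23_6 lc_d_Cert_tree lc_d_rc_22_8 lc_d_rc_15_1 lc_d_rc_24_0 lc_d_Cert_tree lc_d_Cert_tree lc_d_rc_15_1 lc_d_rc_8_3 lc_d_rc_22_6 lc_d_rc_16_4 lc_d_rc_22_2 lc_d_rc_23_4 lc_d_Cert_tree lc_d_rc_15_1 lc_d_rc_15_1 lc_d_rc_17_2 lc_d_rc_3_1 lc_d_rc_15_1 lc_d_rc_24_5 lc_d_rc_16_4 lc_d_rc_8_1 lc_d_Cert_tree lc_d_rc_15_1 lc_d_rc_15_1 lc_d_rc_17_2 lc_d_rc_24_0 lc_d_rc_8_3 lc_d_rc_23_2 lc_d_Cert_tree lc_d_Cert_tree lc_d_rc_16_2 lc_d_rc_17_2 lc_d_rc_15_1 lc_d_rc_16_4 lc_d_rc_27_2 lc_d_rc_27_10) (@D3.rec (fun _ => (Cert rels S Gen.d)) lc_d_rc_17_2 lc_d_rc_15_1 lc_d_rc_16_2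 lc_d_Cert_tree lc_d_rc_15_1 lc_d_Cert_tree lc_d_rc_25_6 lc_d_rc_23_4 lc_d_Cert_tree lc_d_rc_15_1 lc_d_rc_16_4 lc_d_Cert_tree lc_d_rc_15_1 lc_d_rc_15_1 lc_d_rc_3_3 lc_d_rc_15_1 lc_d_rc_15_1 lc_d_Cert_tree lc_d_rc_27_8 lc_d_rc_24_0 lc_d_rc_15_1 lc_d_rc_12_5 lc_d_rc_3_1 lc_d_rc_23_8 lc_d_rc_3_1 lc_d_rc_15_1 lc_d_rc_23_4 lc_d_rc_16_4 lc_d_rc_15_1 lc_d_rc_15_1 lc_d_rc_15_1 lc_d_rc_15_1 lc_d_rc_15_1 lc_d_Cert_tree lc_d_rc_16_4 lc_d_Cert_tree lc_d_Cert_tree lc_d_rc_16_0 lc_d_Cert_tree lc_d_rc_15_1 lc_d_Cert_tree lc_d_Cert_tree lc_d_rc_16_2 lc_d_rc_15_1 lc_d_Cert_tree lc_d_rc_16_4 lc_d_Cert_tree lc_d_Cert_tree lc_d_rc_15_1 lc_d_rc_16_4 lc_d_Cert_tree lc_d_Cert_tree lc_d_rc_22_4 lc_d_rc_15_1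 lc_d_rc_22_8 lc_d_rc_27_4 lc_d_rc_15_1 lc_d_rc_15_1 lc_d_rc_17_2 lc_d_rc_24_5 lc_d_rc_15_1 lc_d_rc_15_1) (@D3.rec (fun _ => (Cert rels S Gen.d)) lc_d_Cert_tree lc_d_rc_15_1 lc_d_Cert_tree lc_d_rc_16_4 lc_d_rc_8_3 lc_d_Cert_tree lc_d_Cert_tree lc_d_Cert_tree lc_d_rc_17_2 lc_d_Cert_tree lc_d_Cert_tree lc_d_rc_15_1 lc_d_rc_16_2 lc_d_rc_15_1 lc_d_Cert_tree lc_d_Cert_tree lc_d_Cert_tree lc_d_rc_17_2 lc_d_rc_23_4 lc_d_rc_24_5 lc_d_rc_3_3 lc_d_rc_8_3 lc_d_rc_22_2 lc_d_Cert_tree lc_d_rc_12_13 lc_d_rc_15_1 lc_d_Cert_tree lc_d_rc_8_1 lc_d_rc_15_1 lc_d_Cert_tree lc_d_Cert_tree lc_d_rc_22_4 lc_d_rc_27_8 lc_d_rc_17_2 lc_d_rc_8_3 lc_d_rc_16_4 lc_d_rc_15_1 lc_d_rc_24_5 lc_d_rc_15_1 lc_d_rc_16_4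 lc_d_rc_27_4 lc_d_rc_27_10 lc_d_rc_27_2 lc_d_rc_15_1 lc_d_rc_15_1 lc_d_rc_8_3 lc_d_rc_23_4 lc_d_rc_15_1 lc_d_rc_15_1 lc_d_rc_15_1 lc_d_Cert_tree lc_d_rc_15_1 lc_d_rc_16_4 lc_d_rc_8_3 lc_d_rc_8_3 lc_d_rc_15_1 lc_d_rc_15_1 lc_d_rc_3_1 lc_d_Cert_tree lc_d_rc_16_4 lc_d_Cert_tree lc_d_rc_16_2) (@D3.rec (fun _ => (Cert rels S Gen.d)) lc_d_rc_27_10 lc_d_Cert_tree lc_d_rc_8_3 lc_d_rc_16_4 lc_d_rc_8_3 lc_d_rc_16_4 lc_d_rc_3_1 lc_d_rc_3_3 lc_d_Cert_tree lc_d_rc_17_2 lc_d_rc_22_8 lc_d_rc_22_2 lc_d_rc_15_1 lc_d_rc_8_3 lc_d_rc_16_4 lc_d_Cert_tree lc_d_Cert_tree lc_d_rc_15_1 lc_d_rc_8_3 lc_d_rc_15_1 lc_d_rc_16_2 lc_d_Cert_tree lc_d_rc_16_4 lc_d_rc_3_3 lc_d_Cert_tree lc_d_Cert_tree lc_d_rc_15_1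 lc_d_Cert_tree lc_d_Cert_tree lc_d_rc_15_1 lc_d_rc_17_2 lc_d_rc_3_3 lc_d_Cert_tree lc_d_rc_17_2 lc_d_Cert_tree lc_d_Cert_tree lc_d_rc_3_1 lc_d_Cert_tree lc_d_rc_15_1 lc_d_rc_17_2 lc_d_Cert_tree lc_d_rc_15_1 lc_d_Cert_tree lc_d_rc_8_3 lc_d_Cert_tree lc_d_rc_16_2 lc_d_rc_23_6 lc_d_rc_25_14 lc_d_Cert_tree lc_d_rc_17_2 lc_d_rc_8_1 lc_d_rc_16_4 lc_d_Cert_tree lc_d_rc_27_4 lc_d_rc_15_1 lc_d_rc_15_1 lc_d_rc_25_18 lc_d_Cert_tree lc_d_rc_15_1 lc_d_rc_8_3 lc_d_Cert_tree lc_d_Cert_tree) (@D3.rec (fun _ => (Cert rels S Gen.d)) lc_d_rc_15_1 lc_d_rc_8_3 lc_d_rc_23_4 lc_d_rc_16_4 lc_d_rc_8_3 lc_d_rc_23_4 lc_d_rc_8_3 lc_d_rc_16_4 lc_d_Cert_tree lc_d_Cert_tree lc_d_rc_15_1 lc_d_rc_17_2 lc_d_rc_3_1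 lc_d_rc_8_3 lc_d_rc_8_3 lc_d_rc_16_4 lc_d_rc_15_1 lc_d_Cert_tree lc_d_rc_8_3 lc_d_rc_15_1 lc_d_rc_17_2 lc_d_rc_8_3 lc_d_rc_8_3 lc_d_rc_15_1 lc_d_rc_27_2 lc_d_rc_8_3 lc_d_Cert_tree lc_d_rc_15_1 lc_d_rc_8_3 lc_d_Cert_tree lc_d_Cert_tree lc_d_Cert_tree lc_d_rc_17_2 lc_d_rc_8_3 lc_d_rc_15_1 lc_d_rc_23_8 lc_d_rc_8_3 lc_d_rc_3_3 lc_d_Cert_tree lc_d_rc_15_1 lc_d_rc_23_8 lc_d_rc_24_0 lc_d_rc_15_1 lc_d_rc_15_1 lc_d_rc_16_2 lc_d_rc_3_3 lc_d_rc_3_3 lc_d_rc_15_1 lc_d_rc_8_3 lc_d_Cert_tree lc_d_rc_27_4 lc_d_rc_15_1 lc_d_Cert_tree lc_d_Cert_tree lc_d_rc_15_1 lc_d_rc_27_10 lc_d_rc_15_1 lc_d_Cert_tree lc_d_rc_16_4 lc_d_rc_15_1 lc_d_rc_15_1 lc_d_rc_24_0) (@D3.rec (fun _ => (Cert rels S Gen.d))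 lc_d_Cert_tree lc_d_rc_16_4 lc_d_Cert_tree lc_d_Cert_tree lc_d_rc_16_0 lc_d_rc_8_3 lc_d_rc_27_10 lc_d_rc_27_2 lc_d_rc_15_1 lc_d_rc_16_4 lc_d_rc_23_6 lc_d_rc_15_1 lc_d_Cert_tree lc_d_rc_15_1 lc_d_rc_17_2 lc_d_rc_23_8 lc_d_rc_23_2 lc_d_rc_16_0 lc_d_rc_15_1 lc_d_rc_16_4 lc_d_rc_15_1 lc_d_Cert_tree lc_d_rc_27_10 lc_d_rc_15_1 lc_d_rc_24_5 lc_d_rc_15_1 lc_d_rc_24_0 lc_d_rc_3_3 lc_d_rc_8_3 lc_d_rc_22_8 lc_d_rc_27_4 lc_d_rc_8_1 lc_d_rc_17_0 lc_d_rc_15_1 lc_d_rc_8_1 lc_d_rc_17_2 lc_d_rc_15_1 lc_d_rc_15_1 lc_d_rc_27_2 lc_d_rc_15_1 lc_d_Cert_tree lc_d_rc_15_1 lc_d_Cert_tree lc_d_rc_15_1 lc_d_rc_27_8 lc_d_rc_15_1 lc_d_rc_15_1 lc_d_Cert_tree lc_d_rc_17_2 lc_d_rc_15_1 lc_d_rc_15_1 lc_d_Cert_tree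 lc_d_rc_17_2 lc_d_rc_22_8 lc_d_rc_16_2 lc_d_rc_23_6 lc_d_rc_3_3 lc_d_rc_17_2 lc_d_rc_8_1 lc_d_rc_17_2 lc_d_rc_15_1 lc_d_rc_15_1) (@D3.rec (fun _ => (Cert rels S Gen.d)) lc_d_rc_15_1 lc_d_rc_22_2 lc_d_rc_16_2 lc_d_rc_15_1 lc_d_rc_15_1 lc_d_Cert_tree lc_d_rc_15_1 lc_d_rc_15_1 lc_d_Cert_tree lc_d_Cert_tree lc_d_rc_17_2 lc_d_Cert_tree lc_d_rc_15_1 lc_d_rc_27_4 lc_d_rc_15_1 lc_d_rc_15_1 lc_d_rc_3_1 lc_d_rc_16_4 lc_d_rc_22_4 lc_d_rc_16_4 lc_d_rc_15_1 lc_d_rc_15_1 lc_d_rc_27_4 lc_d_rc_15_1 lc_d_rc_24_0 lc_d_rc_15_1 lc_d_rc_24_0 lc_d_rc_8_3 lc_d_rc_16_4 lc_d_rc_8_3 lc_d_rc_8_3 lc_d_rc_8_3 lc_d_rc_15_1 lc_d_rc_24_0 lc_d_rc_15_1 lc_d_rc_27_10 lc_d_rc_15_1 lc_d_Cert_tree lc_d_rc_17_2 lc_d_rc_22_8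 lc_d_rc_17_0 lc_d_Cert_tree lc_d_rc_15_1 lc_d_rc_15_1 lc_d_rc_15_1 lc_d_rc_15_1 lc_d_rc_22_2 lc_d_rc_16_2 lc_d_rc_8_1 lc_d_rc_15_1 lc_d_rc_12_1 lc_d_rc_16_4 lc_d_rc_17_0 lc_d_rc_22_2 lc_d_rc_27_4 lc_d_rc_12_3 lc_d_rc_16_4 lc_d_rc_17_2 lc_d_Cert_tree lc_d_rc_15_1 lc_d_rc_17_2 lc_d_rc_16_4) (@D3.rec (fun _ => (Cert rels S Gen.d)) lc_d_rc_8_3 lc_d_rc_15_1 lc_d_rc_15_1 lc_d_rc_15_1 lc_d_rc_15_1 lc_d_Cert_tree lc_d_rc_27_8 lc_d_rc_15_1 lc_d_rc_8_3 lc_d_rc_12_5 lc_d_rc_16_4 lc_d_rc_24_0 lc_d_rc_17_0 lc_d_rc_22_8 lc_d_Cert_tree lc_d_Cert_tree lc_d_rc_17_2 lc_d_rc_15_1 lc_d_rc_15_1 lc_d_rc_27_8 lc_d_rc_15_1 lc_d_rc_15_1 lc_d_Cert_tree lc_d_Cert_tree lc_d_rc_27_10 lc_d_rc_12_15 lc_d_rc_15_1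 lc_d_rc_15_1 lc_d_Cert_tree lc_d_Cert_tree lc_d_rc_15_1 lc_d_rc_15_1 lc_d_rc_17_2 lc_d_rc_15_1 lc_d_Cert_tree lc_d_rc_16_2 lc_d_rc_22_6 lc_d_rc_8_3 lc_d_rc_16_2 lc_d_Cert_tree lc_d_Cert_tree lc_d_rc_17_2 lc_d_rc_8_1 lc_d_Cert_tree lc_d_rc_16_2 lc_d_rc_3_3 lc_d_Cert_tree lc_d_rc_15_1 lc_d_rc_27_10 lc_d_rc_17_2 lc_d_rc_8_3 lc_d_rc_8_3 lc_d_rc_17_2 lc_d_rc_8_3 lc_d_rc_12_3 lc_d_rc_15_1 lc_d_rc_8_3 lc_d_Cert_tree lc_d_Cert_tree lc_d_rc_27_2 lc_d_rc_22_6 lc_d_rc_22_2) (@D3.rec (fun _ => (Cert rels S Gen.d)) lc_d_rc_24_0 lc_d_rc_16_4 lc_d_rc_22_4 lc_d_rc_23_6 lc_d_rc_24_0 lc_d_rc_25_6 lc_d_rc_27_2 lc_d_rc_15_1 lc_d_rc_16_4 lc_d_rc_8_3 lc_d_rc_16_4 lc_d_rc_8_1 lc_d_rc_8_3 lc_d_rc_15_1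 lc_d_rc_27_2 lc_d_rc_8_3 lc_d_rc_25_6 lc_d_rc_27_4 lc_d_rc_15_1 lc_d_rc_15_1 lc_d_rc_27_2 lc_d_rc_15_1 lc_d_rc_22_2 lc_d_rc_3_1 lc_d_rc_16_0 lc_d_rc_15_1 lc_d_rc_15_1 lc_d_rc_15_1 lc_d_rc_27_8 lc_d_rc_3_3 lc_d_rc_15_1 lc_d_rc_23_8 lc_d_Cert_tree lc_d_rc_3_3 lc_d_rc_15_1 lc_d_rc_17_2 lc_d_rc_24_0 lc_d_rc_27_4 lc_d_Cert_tree lc_d_rc_15_1 lc_d_rc_15_1 lc_d_rc_17_2 lc_d_rc_15_1 lc_d_rc_12_15 lc_d_rc_15_1 lc_d_Cert_tree lc_d_rc_27_10 lc_d_rc_15_1 lc_d_rc_17_2 lc_d_rc_22_6 lc_d_rc_16_4 lc_d_Cert_tree lc_d_rc_15_1 lc_d_rc_8_3 lc_d_rc_3_3 lc_d_rc_15_1 lc_d_rc_23_8 lc_d_Cert_tree lc_d_rc_8_1 lc_d_rc_15_1 lc_d_Cert_tree lc_d_rc_15_1) (@D3.rec (fun _ => (Cert rels S Gen.d)) lc_d_rc_27_8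 lc_d_rc_15_1 lc_d_rc_15_1 lc_d_Cert_tree lc_d_rc_17_2 lc_d_rc_24_5 lc_d_rc_16_2 lc_d_rc_15_1 lc_d_rc_23_4 lc_d_rc_24_5 lc_d_rc_15_1 lc_d_rc_27_8 lc_d_rc_27_8 lc_d_Cert_tree lc_d_rc_17_2 lc_d_rc_22_2 lc_d_rc_16_4 lc_d_rc_22_6 lc_d_rc_3_1 lc_d_rc_23_8 lc_d_rc_17_2 lc_d_rc_22_4 lc_d_rc_17_2 lc_d_rc_22_6 lc_d_rc_16_4 lc_d_rc_22_2 lc_d_rc_16_4 lc_d_rc_8_3 lc_d_rc_8_3 lc_d_rc_27_10 lc_d_rc_8_3 lc_d_rc_16_4 lc_d_rc_15_1 lc_d_rc_15_1 lc_d_rc_15_1 lc_d_rc_27_4 lc_d_rc_27_8 lc_d_rc_24_0 lc_d_rc_15_1 lc_d_Cert_tree lc_d_rc_8_3 lc_d_rc_16_4 lc_d_rc_8_3 lc_d_rc_8_3 lc_d_rc_15_1 lc_d_rc_25_6 lc_d_rc_15_1 lc_d_rc_17_2 lc_d_rc_15_1 lc_d_rc_23_6 lc_d_rc_23_4 lc_d_rc_15_1 lc_d_rc_17_2 lc_d_rc_16_4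 lc_d_rc_8_3 lc_d_rc_16_4 lc_d_rc_8_1 lc_d_rc_17_2 lc_d_rc_15_1 lc_d_rc_15_1 lc_d_rc_27_2 lc_d_rc_22_4) (@D3.rec (fun _ => (Cert rels S Gen.d)) lc_d_rc_24_0 lc_d_rc_16_2 lc_d_rc_16_2 lc_d_rc_27_10 lc_d_rc_15_1 lc_d_rc_17_2 lc_d_rc_27_2 lc_d_rc_15_1 lc_d_rc_27_4 lc_d_Cert_tree lc_d_rc_15_1 lc_d_rc_15_1 lc_d_rc_27_10 lc_d_rc_15_1 lc_d_Cert_tree lc_d_rc_17_2 lc_d_rc_3_3 lc_d_rc_3_1 lc_d_rc_15_1 lc_d_rc_15_1 lc_d_rc_23_8 lc_d_rc_27_10 lc_d_rc_23_6 lc_d_rc_15_1 lc_d_rc_16_4 lc_d_rc_22_2 lc_d_rc_15_1 lc_d_rc_24_0 lc_d_rc_3_1 lc_d_rc_23_4 lc_d_rc_15_1 lc_d_rc_27_2 lc_d_rc_15_1 lc_d_Cert_tree lc_d_Cert_tree lc_d_Cert_tree lc_d_Cert_tree lc_d_rc_15_1 lc_d_rc_16_0 lc_d_rc_8_3 lc_d_Cert_tree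 lc_d_rc_27_4 lc_d_Cert_tree lc_d_Cert_tree lc_d_Cert_tree lc_d_rc_16_4 lc_d_rc_15_1 lc_d_rc_17_2 lc_d_rc_16_4 lc_d_rc_24_5 lc_d_rc_3_1 lc_d_Cert_tree lc_d_rc_22_6 lc_d_rc_22_2 lc_d_Cert_tree lc_d_Cert_tree lc_d_Cert_tree lc_d_rc_17_2 lc_d_rc_3_3 lc_d_rc_3_3 lc_d_rc_22_2 lc_d_rc_16_2) (@D3.rec (fun _ => (Cert rels S Gen.d)) lc_d_rc_8_3 lc_d_rc_23_8 lc_d_rc_8_3 lc_d_Cert_tree lc_d_Cert_tree lc_d_rc_15_1 lc_d_rc_17_2 lc_d_rc_16_2 lc_d_rc_22_8 lc_d_rc_27_2 lc_d_rc_27_8 lc_d_rc_27_10 lc_d_rc_15_1 lc_d_rc_17_2 lc_d_rc_8_3 lc_d_rc_17_2 lc_d_rc_8_3 lc_d_rc_27_2 lc_d_Cert_tree lc_d_rc_3_1 lc_d_rc_15_1 lc_d_rc_8_3 lc_d_rc_17_0 lc_d_Cert_tree lc_d_Cert_tree lc_d_Cert_tree lc_d_rc_27_2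 lc_d_rc_15_1 lc_d_rc_22_8 lc_d_rc_16_4 lc_d_rc_15_1 lc_d_rc_15_1 lc_d_rc_15_1 lc_d_rc_23_6 lc_d_rc_25_2 lc_d_rc_8_3 lc_d_rc_3_3 lc_d_rc_16_4 lc_d_rc_23_4 lc_d_rc_24_0 lc_d_rc_16_4 lc_d_rc_12_15 lc_d_rc_15_1 lc_d_Cert_tree lc_d_Cert_tree lc_d_rc_17_2 lc_d_rc_3_1 lc_d_rc_17_2 lc_d_rc_24_5 lc_d_Cert_tree lc_d_rc_24_0 lc_d_rc_15_1 lc_d_rc_8_3 lc_d_Cert_tree lc_d_Cert_tree lc_d_rc_15_1 lc_d_rc_15_1 lc_d_rc_17_2 lc_d_rc_8_3 lc_d_rc_15_1 lc_d_rc_24_0 lc_d_rc_27_2) (@D3.rec (fun _ => (Cert rels S Gen.d)) lc_d_rc_15_1 lc_d_rc_22_6 lc_d_rc_17_0 lc_d_rc_15_1 lc_d_rc_8_3 lc_d_rc_16_2 lc_d_rc_23_8 lc_d_rc_27_10 lc_d_rc_23_4 lc_d_rc_27_10 lc_d_rc_27_2 lc_d_rc_3_3 lc_d_rc_8_3 lc_d_rc_8_3 lc_d_rc_16_2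 lc_d_Cert_tree lc_d_Cert_tree lc_d_rc_17_2 lc_d_rc_8_3 lc_d_rc_8_3 lc_d_rc_16_4 lc_d_rc_22_6 lc_d_rc_22_6 lc_d_rc_8_3 lc_d_Cert_tree lc_d_rc_27_10 lc_d_rc_15_1 lc_d_rc_17_2 lc_d_rc_8_3 lc_d_rc_15_1 lc_d_rc_23_2 lc_d_Cert_tree lc_d_rc_15_1 lc_d_rc_27_4 lc_d_rc_15_1 lc_d_rc_22_2 lc_d_rc_22_4 lc_d_Cert_tree lc_d_rc_15_1 lc_d_rc_22_4 lc_d_rc_15_1 lc_d_rc_16_4 lc_d_rc_8_3 lc_d_rc_3_1 lc_d_Cert_tree lc_d_rc_15_1 lc_d_rc_24_5 lc_d_rc_15_1 lc_d_rc_27_4 lc_d_Cert_tree lc_d_rc_15_1 lc_d_Cert_tree lc_d_rc_17_2 lc_d_rc_15_1 lc_d_rc_3_1 lc_d_rc_16_4 lc_d_rc_8_3 lc_d_rc_16_4 lc_d_rc_16_2 lc_d_rc_3_3 lc_d_rc_15_1 lc_d_rc_22_8) (@D3.rec (fun _ => (Cert rels S Gen.d)) lc_d_rc_16_4 lc_d_rc_22_2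 lc_d_rc_27_10 lc_d_rc_24_5 lc_d_rc_15_1 lc_d_rc_8_3 lc_d_rc_22_6 lc_d_rc_16_4 lc_d_rc_23_4 lc_d_rc_16_4 lc_d_rc_8_3 lc_d_Cert_tree lc_d_rc_27_10 lc_d_rc_15_1 lc_d_rc_15_1 lc_d_Cert_tree lc_d_rc_8_3 lc_d_Cert_tree lc_d_rc_22_2 lc_d_Cert_tree lc_d_rc_15_1 lc_d_rc_16_4 lc_d_rc_24_0 lc_d_Cert_tree lc_d_rc_15_1 lc_d_rc_17_2 lc_d_Cert_tree lc_d_Cert_tree lc_d_Cert_tree lc_d_rc_17_2 lc_d_rc_8_3 lc_d_rc_22_6 lc_d_rc_16_4 lc_d_rc_8_3 lc_d_rc_22_2 lc_d_rc_3_3 lc_d_rc_23_4 lc_d_rc_22_2 lc_d_rc_8_3 lc_d_rc_27_8 lc_d_rc_16_2 lc_d_rc_27_10 lc_d_rc_15_1 lc_d_rc_17_0 lc_d_rc_22_2 lc_d_rc_22_2 lc_d_Cert_tree lc_d_rc_15_1 lc_d_rc_3_3 lc_d_rc_17_0 lc_d_rc_17_2 lc_d_rc_22_6 lc_d_rc_16_4 lc_d_rc_15_1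 lc_d_rc_22_6 lc_d_rc_15_1 lc_d_rc_27_4 lc_d_rc_15_1 lc_d_rc_8_3 lc_d_rc_15_1 lc_d_Cert_tree lc_d_rc_16_4) (@D3.rec (fun _ => (Cert rels S Gen.d)) lc_d_rc_8_3 lc_d_Cert_tree lc_d_rc_27_10 lc_d_rc_8_1 lc_d_rc_16_0 lc_d_Cert_tree lc_d_rc_15_1 lc_d_rc_15_1 lc_d_rc_8_3 lc_d_rc_8_1 lc_d_Cert_tree lc_d_rc_15_1 lc_d_rc_15_1 lc_d_rc_27_4 lc_d_rc_15_1 lc_d_rc_15_1 lc_d_rc_24_0 lc_d_Cert_tree lc_d_rc_8_1 lc_d_rc_8_3 lc_d_Cert_tree lc_d_rc_16_4 lc_d_rc_23_6 lc_d_rc_17_2 lc_d_rc_8_3 lc_d_rc_23_4 lc_d_rc_15_1 lc_d_rc_17_0 lc_d_rc_22_2 lc_d_rc_3_3 lc_d_rc_12_1 lc_d_rc_8_1 lc_d_rc_16_4 lc_d_rc_27_2 lc_d_rc_23_8 lc_d_rc_12_3 lc_d_rc_3_3 lc_d_Cert_tree lc_d_rc_27_4 lc_d_rc_17_2 lc_d_rc_27_4 lc_d_Cert_tree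 lc_d_rc_15_1 lc_d_rc_17_2 lc_d_rc_15_1 lc_d_Cert_tree lc_d_rc_27_4 lc_d_rc_8_3 lc_d_Cert_tree lc_d_Cert_tree lc_d_rc_27_10 lc_d_rc_15_1 lc_d_rc_27_8 lc_d_rc_8_3 lc_d_rc_22_4 lc_d_Cert_tree lc_d_rc_8_3 lc_d_rc_15_1 lc_d_rc_15_1 lc_d_rc_27_4 lc_d_rc_8_3 lc_d_Cert_tree) (@D3.rec (fun _ => (Cert rels S Gen.d)) lc_d_rc_8_3 lc_d_rc_3_3 lc_d_rc_23_8 lc_d_rc_3_3 lc_d_rc_23_8 lc_d_Cert_tree lc_d_rc_15_1 lc_d_rc_16_4 lc_d_rc_24_0 lc_d_rc_3_3 lc_d_rc_12_15 lc_d_rc_22_6 lc_d_rc_23_6 lc_d_rc_15_1 lc_d_rc_15_1 lc_d_rc_27_10 lc_d_rc_27_8 lc_d_rc_15_1 lc_d_rc_16_4 lc_d_rc_17_2 lc_d_rc_15_1 lc_d_rc_16_4 lc_d_rc_15_1 lc_d_rc_15_1 lc_d_rc_15_1 lc_d_Cert_tree lc_d_rc_8_3 lc_d_Cert_tree lc_d_rc_23_4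 lc_d_rc_23_6 lc_d_rc_3_1 lc_d_Cert_tree lc_d_Cert_tree lc_d_rc_15_1 lc_d_rc_22_2 lc_d_rc_12_15 lc_d_Cert_tree lc_d_rc_15_1 lc_d_rc_15_1 lc_d_rc_15_1 lc_d_rc_27_2 lc_d_rc_15_1 lc_d_rc_15_1 lc_d_rc_15_1 lc_d_rc_24_0 lc_d_Cert_tree lc_d_rc_15_1 lc_d_rc_15_1 lc_d_Cert_tree lc_d_Cert_tree lc_d_rc_16_4 lc_d_rc_16_4 lc_d_rc_17_0 lc_d_rc_22_6 lc_d_rc_17_2 lc_d_rc_15_1 lc_d_rc_16_2 lc_d_rc_15_1 lc_d_rc_15_1 lc_d_rc_17_2 lc_d_rc_15_1 lc_d_Cert_tree) (@D3.rec (fun _ => (Cert rels S Gen.d)) lc_d_rc_16_4 lc_d_rc_8_1 lc_d_rc_23_6 lc_d_rc_16_0 lc_d_rc_15_1 lc_d_rc_17_2 lc_d_rc_15_1 lc_d_rc_22_8 lc_d_rc_16_4 lc_d_rc_8_3 lc_d_rc_27_4 lc_d_rc_15_1 lc_d_rc_17_2 lc_d_Cert_tree lc_d_Cert_tree lc_d_Cert_tree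 lc_d_rc_15_1 lc_d_rc_22_4 lc_d_Cert_tree lc_d_rc_15_1 lc_d_rc_8_1 lc_d_rc_22_6 lc_d_rc_15_1 lc_d_rc_27_4 lc_d_Cert_tree lc_d_rc_22_4 lc_d_rc_15_1 lc_d_rc_17_0 lc_d_Cert_tree lc_d_Cert_tree lc_d_rc_24_5 lc_d_rc_17_2 lc_d_rc_23_2 lc_d_rc_3_3 lc_d_rc_27_10 lc_d_rc_3_3 lc_d_rc_3_3 lc_d_rc_23_8 lc_d_rc_16_4 lc_d_rc_15_1 lc_d_rc_23_2 lc_d_rc_22_2 lc_d_rc_17_0 lc_d_rc_8_3 lc_d_rc_15_1 lc_d_rc_17_2 lc_d_rc_3_3 lc_d_rc_24_0 lc_d_rc_15_1 lc_d_rc_8_3 lc_d_rc_16_4 lc_d_Cert_tree lc_d_rc_15_1 lc_d_rc_17_2 lc_d_rc_12_13 lc_d_rc_15_1 lc_d_rc_27_4 lc_d_rc_16_4 lc_d_rc_27_10 lc_d_rc_17_2 lc_d_Cert_tree lc_d_Cert_tree) (@D3.rec (fun _ => (Cert rels S Gen.d)) lc_d_rc_23_8 lc_d_rc_15_1 lc_d_rc_16_4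 lc_d_rc_23_6 lc_d_rc_15_1 lc_d_rc_17_0 lc_d_rc_16_4 lc_d_rc_17_2 lc_d_rc_8_3 lc_d_rc_3_3 lc_d_rc_15_1 lc_d_rc_8_3 lc_d_rc_23_4 lc_d_rc_24_5 lc_d_rc_24_0 lc_d_rc_24_0 lc_d_rc_16_2 lc_d_rc_22_8 lc_d_rc_23_8 lc_d_rc_15_1 lc_d_Cert_tree lc_d_rc_15_1 lc_d_rc_17_2 lc_d_rc_15_1 lc_d_Cert_tree lc_d_rc_16_2 lc_d_rc_22_2 lc_d_rc_15_1 lc_d_Cert_tree lc_d_rc_27_2 lc_d_rc_15_1 lc_d_rc_27_4 lc_d_rc_8_1 lc_d_rc_23_2 lc_d_rc_24_0 lc_d_rc_15_1 lc_d_rc_3_3 lc_d_rc_16_4 lc_d_rc_15_1 lc_d_rc_23_2 lc_d_rc_8_1 lc_d_rc_17_2 lc_d_Cert_tree lc_d_rc_15_1 lc_d_Cert_tree lc_d_rc_27_2 lc_d_rc_15_1 lc_d_rc_24_0 lc_d_rc_3_3 lc_d_rc_15_1 lc_d_rc_8_3 lc_d_rc_22_4 lc_d_Cert_tree lc_d_rc_17_2 lc_d_rc_25_6 lc_d_Cert_tree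 lc_d_rc_3_3 lc_d_rc_15_1 lc_d_rc_8_3 lc_d_rc_3_3 lc_d_rc_16_4 lc_d_Cert_tree) (@D3.rec (fun _ => (Cert rels S Gen.d)) lc_d_Cert_tree lc_d_Cert_tree lc_d_rc_17_2 lc_d_rc_15_1 lc_d_Cert_tree lc_d_rc_15_1 lc_d_rc_27_4 lc_d_rc_15_1 lc_d_rc_16_2 lc_d_rc_16_2 lc_d_rc_16_4 lc_d_rc_24_0 lc_d_rc_23_6 lc_d_rc_17_2 lc_d_rc_3_1 lc_d_rc_17_2 lc_d_rc_3_3 lc_d_rc_23_2 lc_d_rc_15_1 lc_d_rc_24_5 lc_d_rc_16_2 lc_d_rc_15_1 lc_d_rc_15_1 lc_d_rc_16_4 lc_d_Cert_tree lc_d_Cert_tree lc_d_rc_15_1 lc_d_rc_17_2 lc_d_rc_23_4 lc_d_rc_15_1 lc_d_rc_27_4 lc_d_rc_15_1 lc_d_rc_8_1 lc_d_rc_8_1 lc_d_rc_17_2 lc_d_rc_15_1 lc_d_rc_27_2 lc_d_rc_16_2 lc_d_rc_27_10 lc_d_rc_15_1 lc_d_rc_17_2 lc_d_rc_22_4 lc_d_Cert_tree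 lc_d_rc_16_4 lc_d_rc_23_6 lc_d_rc_16_4 lc_d_rc_3_1 lc_d_rc_22_2 lc_d_rc_3_1 lc_d_rc_23_2 lc_d_rc_23_2 lc_d_Cert_tree lc_d_rc_15_1 lc_d_Cert_tree lc_d_rc_17_2 lc_d_rc_8_1 lc_d_rc_23_4 lc_d_rc_17_2 lc_d_rc_16_4 lc_d_rc_3_3 lc_d_rc_8_3 lc_d_rc_15_1) (@D3.rec (fun _ => (Cert rels S Gen.d)) lc_d_Cert_tree lc_d_rc_15_1 lc_d_rc_17_2 lc_d_rc_22_6 lc_d_rc_16_4 lc_d_rc_15_1 lc_d_rc_23_4 lc_d_rc_17_2 lc_d_rc_3_1 lc_d_rc_8_3 lc_d_rc_3_3 lc_d_Cert_tree lc_d_Cert_tree lc_d_Cert_tree lc_d_rc_15_1 lc_d_rc_17_2 lc_d_rc_17_2 lc_d_Cert_tree lc_d_rc_15_1 lc_d_rc_27_4 lc_d_rc_8_3 lc_d_Cert_tree lc_d_rc_16_4 lc_d_Cert_tree lc_d_Cert_tree lc_d_rc_15_1 lc_d_rc_27_4 lc_d_rc_3_3 lc_d_rc_8_3 lc_d_rc_15_1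 lc_d_rc_27_4 lc_d_Cert_tree lc_d_rc_15_1 lc_d_rc_24_5 lc_d_rc_15_1 lc_d_rc_16_4 lc_d_rc_23_6 lc_d_Cert_tree lc_d_rc_16_4 lc_d_rc_17_2 lc_d_rc_15_1 lc_d_rc_15_1 lc_d_rc_27_8 lc_d_Cert_tree lc_d_rc_22_8 lc_d_rc_15_1 lc_d_Cert_tree lc_d_rc_27_4 lc_d_rc_15_1 lc_d_rc_27_4 lc_d_rc_15_1 lc_d_rc_27_8 lc_d_rc_15_1 lc_d_Cert_tree lc_d_rc_17_2 lc_d_rc_8_3 lc_d_rc_15_1 lc_d_rc_17_2 lc_d_rc_8_3 lc_d_rc_15_1 lc_d_rc_16_2 lc_d_rc_15_1)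
def ce_d_15 : D2 → D3 → (Cert rels S Gen.d) := @D2.rec (fun _ => D3 → (Cert rels S Gen.d)) (@D3.rec (fun _ => (Cert rels S Gen.d)) lc_d_rc_27_8 lc_d_Cert_tree lc_d_Cert_tree lc_d_rc_15_1 lc_d_rc_8_3 lc_d_rc_24_0 lc_d_rc_15_1 lc_d_rc_17_2 lc_d_rc_27_4 lc_d_rc_8_3 lc_d_rc_17_0 lc_d_rc_15_1 lc_d_rc_24_0 lc_d_Cert_tree lc_d_rc_15_1 lc_d_rc_12_15 lc_d_rc_27_10 lc_d_rc_16_2 lc_d_rc_15_1 lc_d_Cert_tree lc_d_rc_27_4 lc_d_rc_15_1 lc_d_rc_15_1 lc_d_rc_15_1 lc_d_rc_15_1 lc_d_rc_24_0 lc_d_Cert_tree lc_d_rc_16_2 lc_d_rc_24_5 lc_d_rc_3_3 lc_d_rc_23_4 lc_d_rc_15_1 lc_d_Cert_tree lc_d_Cert_tree lc_d_rc_15_1 lc_d_Cert_tree lc_d_rc_15_1 lc_d_Cert_tree lc_d_Cert_tree lc_d_rc_15_1 lc_d_Cert_tree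 lc_d_rc_25_6 lc_d_Cert_tree lc_d_Cert_tree lc_d_rc_15_1 lc_d_rc_23_6 lc_d_rc_23_4 lc_d_rc_16_4 lc_d_Cert_tree lc_d_Cert_tree lc_d_Cert_tree lc_d_rc_15_1 lc_d_rc_12_1 lc_d_rc_16_4 lc_d_Cert_tree lc_d_rc_15_1 lc_d_Cert_tree lc_d_rc_22_8 lc_d_rc_15_1 lc_d_Cert_tree lc_d_Cert_tree lc_d_rc_15_1) (@D3.rec (fun _ => (Cert rels S Gen.d)) lc_d_rc_3_3 lc_d_rc_16_0 lc_d_rc_8_3 lc_d_rc_15_1 lc_d_Cert_tree lc_d_rc_15_1 lc_d_rc_17_2 lc_d_rc_8_3 lc_d_Cert_tree lc_d_Cert_tree lc_d_rc_15_1 lc_d_rc_8_3 lc_d_rc_16_4 lc_d_Cert_tree lc_d_rc_8_3 lc_d_Cert_tree lc_d_rc_17_2 lc_d_rc_8_3 lc_d_Cert_tree lc_d_rc_15_1 lc_d_rc_17_2 lc_d_Cert_tree lc_d_rc_15_1 lc_d_Cert_tree lc_d_rc_15_1 lc_d_rc_15_1 lc_d_rc_27_4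 lc_d_Cert_tree lc_d_rc_15_1 lc_d_Cert_tree lc_d_Cert_tree lc_d_rc_15_1 lc_d_Cert_tree lc_d_rc_22_2 lc_d_rc_24_5 lc_d_rc_22_4 lc_d_rc_15_1 lc_d_Cert_tree lc_d_rc_3_3 lc_d_Cert_tree lc_d_Cert_tree lc_d_Cert_tree lc_d_rc_15_1 lc_d_rc_17_2 lc_d_Cert_tree lc_d_rc_16_4 lc_d_Cert_tree lc_d_rc_17_2 lc_d_rc_15_1 lc_d_rc_8_3 lc_d_Cert_tree lc_d_rc_8_1 lc_d_Cert_tree lc_d_Cert_tree lc_d_rc_22_2 lc_d_rc_15_1 lc_d_Cert_tree lc_d_Cert_tree lc_d_Cert_tree lc_d_Cert_tree lc_d_rc_15_1 lc_d_rc_17_2) (@D3.rec (fun _ => (Cert rels S Gen.d)) lc_d_Cert_tree lc_d_rc_22_4 lc_d_rc_8_3 lc_d_Cert_tree lc_d_rc_17_2 lc_d_rc_3_3 lc_d_rc_23_4 lc_d_rc_15_1 lc_d_rc_15_1 lc_d_rc_23_2 lc_d_rc_27_2 lc_d_rc_27_2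 lc_d_rc_8_3 lc_d_rc_17_2 lc_d_rc_17_2 lc_d_rc_15_1 lc_d_Cert_tree lc_d_rc_16_4 lc_d_rc_17_2 lc_d_rc_8_3 lc_d_rc_23_8 lc_d_Cert_tree lc_d_rc_15_1 lc_d_Cert_tree lc_d_Cert_tree lc_d_Cert_tree lc_d_Cert_tree lc_d_rc_15_1 lc_d_rc_17_2 lc_d_Cert_tree lc_d_rc_27_4 lc_d_Cert_tree lc_d_rc_27_4 lc_d_Cert_tree lc_d_Cert_tree lc_d_Cert_tree lc_d_rc_15_1 lc_d_rc_15_1 lc_d_Cert_tree lc_d_rc_15_1 lc_d_rc_24_5 lc_d_Cert_tree lc_d_Cert_tree lc_d_Cert_tree lc_d_rc_15_1 lc_d_Cert_tree lc_d_Cert_tree lc_d_rc_15_1 lc_d_rc_17_2 lc_d_rc_22_6 lc_d_rc_15_1 lc_d_rc_25_10 lc_d_rc_8_1 lc_d_rc_15_1 lc_d_Cert_tree lc_d_rc_15_1 lc_d_rc_23_8 lc_d_rc_15_1 lc_d_rc_15_1 lc_d_rc_8_3 lc_d_Cert_tree lc_d_rc_8_3)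 (@D3.rec (fun _ => (Cert rels S Gen.d)) lc_d_Cert_tree lc_d_rc_8_3 lc_d_Cert_tree lc_d_Cert_tree lc_d_rc_8_3 lc_d_rc_17_2 lc_d_Cert_tree lc_d_Cert_tree lc_d_Cert_tree lc_d_rc_15_1 lc_d_rc_8_3 lc_d_rc_17_2 lc_d_rc_27_4 lc_d_rc_3_3 lc_d_Cert_tree lc_d_rc_16_2 lc_d_Cert_tree lc_d_rc_15_1 lc_d_rc_27_4 lc_d_rc_24_5 lc_d_rc_16_4 lc_d_rc_15_1 lc_d_rc_8_3 lc_d_Cert_tree lc_d_rc_27_2 lc_d_rc_15_1 lc_d_rc_15_1 lc_d_rc_15_1 lc_d_Cert_tree lc_d_Cert_tree lc_d_rc_15_1 lc_d_rc_27_4 lc_d_rc_22_4 lc_d_rc_27_4 lc_d_rc_15_1 lc_d_rc_15_1 lc_d_rc_15_1 lc_d_Cert_tree lc_d_rc_15_1 lc_d_Cert_tree lc_d_rc_22_8 lc_d_rc_8_3 lc_d_rc_22_8 lc_d_rc_23_2 lc_d_rc_15_1 lc_d_rc_24_5 lc_d_rc_27_2 lc_d_rc_8_3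 lc_d_rc_15_1 lc_d_rc_15_1 lc_d_rc_16_4 lc_d_rc_15_1 lc_d_rc_15_1 lc_d_rc_15_1 lc_d_rc_12_1 lc_d_rc_16_2 lc_d_rc_15_1 lc_d_rc_24_5 lc_d_rc_15_1 lc_d_rc_8_3 lc_d_Cert_tree lc_d_rc_16_2) (@D3.rec (fun _ => (Cert rels S Gen.d)) lc_d_rc_15_1 lc_d_rc_23_2 lc_d_rc_16_2 lc_d_rc_15_1 lc_d_rc_17_0 lc_d_rc_17_2 lc_d_rc_24_5 lc_d_rc_16_0 lc_d_rc_15_1 lc_d_rc_27_4 lc_d_rc_15_1 lc_d_rc_15_1 lc_d_rc_17_2 lc_d_rc_16_2 lc_d_rc_15_1 lc_d_rc_17_2 lc_d_rc_23_2 lc_d_rc_15_1 lc_d_rc_15_1 lc_d_rc_22_4 lc_d_rc_17_2 lc_d_rc_27_8 lc_d_rc_17_2 lc_d_rc_22_8 lc_d_rc_27_8 lc_d_rc_8_1 lc_d_rc_22_2 lc_d_rc_15_1 lc_d_rc_22_8 lc_d_rc_3_1 lc_d_rc_16_4 lc_d_rc_16_2 lc_d_rc_16_4 lc_d_rc_8_3 lc_d_rc_8_3 lc_d_rc_3_3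 lc_d_rc_15_1 lc_d_rc_8_3 lc_d_rc_15_1 lc_d_rc_16_4 lc_d_rc_15_1 lc_d_rc_15_1 lc_d_rc_15_1 lc_d_rc_15_1 lc_d_rc_15_1 lc_d_rc_15_1 lc_d_rc_27_2 lc_d_rc_15_1 lc_d_rc_15_1 lc_d_Cert_tree lc_d_rc_15_1 lc_d_rc_15_1 lc_d_rc_23_4 lc_d_rc_16_0 lc_d_rc_17_2 lc_d_rc_15_1 lc_d_rc_15_1 lc_d_Cert_tree lc_d_rc_27_2 lc_d_rc_24_5 lc_d_rc_15_1 lc_d_rc_16_4) (@D3.rec (fun _ => (Cert rels S Gen.d)) lc_d_rc_15_1 lc_d_rc_27_4 lc_d_rc_3_1 lc_d_rc_22_6 lc_d_Cert_tree lc_d_rc_15_1 lc_d_rc_3_3 lc_d_rc_24_5 lc_d_rc_15_1 lc_d_rc_3_3 lc_d_Cert_tree lc_d_rc_16_4 lc_d_Cert_tree lc_d_rc_8_3 lc_d_rc_27_8 lc_d_rc_27_2 lc_d_Cert_tree lc_d_rc_15_1 lc_d_rc_15_1 lc_d_rc_27_2 lc_d_rc_16_0 lc_d_rc_24_5 lc_d_rc_15_1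 lc_d_rc_8_1 lc_d_rc_15_1 lc_d_rc_15_1 lc_d_rc_27_4 lc_d_rc_15_1 lc_d_rc_8_3 lc_d_rc_16_0 lc_d_rc_15_1 lc_d_rc_15_1 lc_d_rc_24_5 lc_d_Cert_tree lc_d_rc_15_1 lc_d_rc_22_2 lc_d_rc_15_1 lc_d_rc_8_3 lc_d_rc_15_1 lc_d_rc_3_3 lc_d_rc_15_1 lc_d_rc_15_1 lc_d_rc_8_3 lc_d_rc_27_2 lc_d_rc_23_4 lc_d_rc_8_3 lc_d_rc_12_3 lc_d_Cert_tree lc_d_rc_22_6 lc_d_rc_23_6 lc_d_rc_23_4 lc_d_rc_17_2 lc_d_rc_16_4 lc_d_rc_15_1 lc_d_rc_15_1 lc_d_rc_15_1 lc_d_rc_8_1 lc_d_rc_15_1 lc_d_rc_17_2 lc_d_rc_27_4 lc_d_rc_15_1 lc_d_rc_27_2) (@D3.rec (fun _ => (Cert rels S Gen.d)) lc_d_rc_15_1 lc_d_rc_15_1 lc_d_rc_16_2 lc_d_rc_15_1 lc_d_Cert_tree lc_d_Cert_tree lc_d_Cert_tree lc_d_rc_17_2 lc_d_rc_22_4 lc_d_rc_16_4 lc_d_Cert_tree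 lc_d_rc_17_2 lc_d_rc_16_4 lc_d_Cert_tree lc_d_rc_15_1 lc_d_rc_17_2 lc_d_rc_27_10 lc_d_rc_15_1 lc_d_rc_27_4 lc_d_rc_23_2 lc_d_rc_15_1 lc_d_Cert_tree lc_d_rc_24_5 lc_d_rc_15_1 lc_d_rc_15_1 lc_d_rc_15_1 lc_d_rc_17_0 lc_d_rc_15_1 lc_d_rc_16_2 lc_d_rc_8_3 lc_d_rc_3_1 lc_d_Cert_tree lc_d_rc_15_1 lc_d_rc_8_1 lc_d_rc_15_1 lc_d_Cert_tree lc_d_rc_27_10 lc_d_rc_15_1 lc_d_rc_17_2 lc_d_rc_3_1 lc_d_Cert_tree lc_d_Cert_tree lc_d_rc_16_2 lc_d_rc_15_1 lc_d_rc_27_10 lc_d_rc_17_2 lc_d_rc_3_3 lc_d_Cert_tree lc_d_rc_8_1 lc_d_rc_16_0 lc_d_rc_15_1 lc_d_rc_22_4 lc_d_rc_17_2 lc_d_Cert_tree lc_d_Cert_tree lc_d_rc_15_1 lc_d_rc_27_4 lc_d_rc_15_1 lc_d_rc_15_1 lc_d_rc_24_5 lc_d_Cert_tree lc_d_rc_16_4) (@D3.rec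 (fun _ => (Cert rels S Gen.d)) lc_d_Cert_tree lc_d_Cert_tree lc_d_rc_17_2 lc_d_rc_15_1 lc_d_rc_8_3 lc_d_rc_15_1 lc_d_rc_15_1 lc_d_rc_15_1 lc_d_Cert_tree lc_d_rc_16_2 lc_d_rc_15_1 lc_d_rc_15_1 lc_d_rc_12_1 lc_d_rc_16_2 lc_d_rc_15_1 lc_d_rc_15_1 lc_d_Cert_tree lc_d_rc_16_4 lc_d_rc_24_5 lc_d_Cert_tree lc_d_Cert_tree lc_d_Cert_tree lc_d_Cert_tree lc_d_Cert_tree lc_d_Cert_tree lc_d_Cert_tree lc_d_rc_15_1 lc_d_rc_12_3 lc_d_rc_17_2 lc_d_rc_23_6 lc_d_Cert_tree lc_d_rc_17_2 lc_d_Cert_tree lc_d_rc_15_1 lc_d_rc_15_1 lc_d_rc_24_0 lc_d_rc_15_1 lc_d_Cert_tree lc_d_rc_15_1 lc_d_rc_17_2 lc_d_rc_8_1 lc_d_rc_15_1 lc_d_rc_27_4 lc_d_rc_8_1 lc_d_rc_16_2 lc_d_Cert_tree lc_d_Cert_tree lc_d_Cert_tree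 lc_d_rc_15_1 lc_d_rc_15_1 lc_d_rc_15_1 lc_d_rc_3_3 lc_d_rc_16_4 lc_d_Cert_tree lc_d_Cert_tree lc_d_rc_15_1 lc_d_rc_15_1 lc_d_rc_15_1 lc_d_rc_27_2 lc_d_rc_8_3 lc_d_rc_15_1 lc_d_rc_27_4) (@D3.rec (fun _ => (Cert rels S Gen.d)) lc_d_rc_15_1 lc_d_Cert_tree lc_d_rc_17_2 lc_d_rc_16_2 lc_d_Cert_tree lc_d_Cert_tree lc_d_rc_17_2 lc_d_Cert_tree lc_d_rc_17_2 lc_d_rc_16_4 lc_d_rc_17_2 lc_d_Cert_tree lc_d_rc_15_1 lc_d_rc_3_1 lc_d_rc_22_2 lc_d_rc_8_3 lc_d_rc_15_1 lc_d_rc_27_4 lc_d_Cert_tree lc_d_rc_22_8 lc_d_rc_15_1 lc_d_rc_15_1 lc_d_rc_15_1 lc_d_Cert_tree lc_d_rc_23_4 lc_d_rc_23_4 lc_d_Cert_tree lc_d_rc_17_2 lc_d_rc_8_1 lc_d_rc_3_1 lc_d_Cert_tree lc_d_rc_15_1 lc_d_rc_15_1 lc_d_rc_15_1 lc_d_rc_17_0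 lc_d_rc_15_1 lc_d_rc_16_2 lc_d_rc_3_1 lc_d_rc_27_2 lc_d_rc_27_4 lc_d_Cert_tree lc_d_rc_16_0 lc_d_rc_15_1 lc_d_Cert_tree lc_d_rc_15_1 lc_d_Cert_tree lc_d_rc_23_8 lc_d_rc_15_1 lc_d_rc_27_2 lc_d_rc_8_3 lc_d_rc_16_4 lc_d_rc_8_3 lc_d_rc_16_4 lc_d_rc_8_3 lc_d_rc_27_10 lc_d_rc_17_2 lc_d_rc_8_3 lc_d_rc_3_3 lc_d_rc_22_2 lc_d_rc_15_1 lc_d_rc_16_4 lc_d_rc_15_1) (@D3.rec (fun _ => (Cert rels S Gen.d)) lc_d_rc_16_4 lc_d_rc_16_0 lc_d_rc_8_1 lc_d_rc_16_0 lc_d_Cert_tree lc_d_Cert_tree lc_d_Cert_tree lc_d_rc_15_1 lc_d_rc_8_3 lc_d_Cert_tree lc_d_rc_27_4 lc_d_rc_24_0 lc_d_rc_3_3 lc_d_Cert_tree lc_d_rc_15_1 lc_d_rc_17_2 lc_d_rc_15_1 lc_d_rc_15_1 lc_d_rc_27_2 lc_d_rc_15_1 lc_d_rc_17_2 lc_d_rc_25_6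 lc_d_rc_24_0 lc_d_rc_3_3 lc_d_Cert_tree lc_d_Cert_tree lc_d_Cert_tree lc_d_rc_15_1 lc_d_rc_17_2 lc_d_rc_27_4 lc_d_rc_8_3 lc_d_Cert_tree lc_d_rc_23_4 lc_d_rc_24_5 lc_d_Cert_tree lc_d_rc_3_1 lc_d_rc_27_2 lc_d_rc_15_1 lc_d_rc_27_4 lc_d_rc_15_1 lc_d_rc_16_2 lc_d_rc_8_3 lc_d_rc_25_10 lc_d_rc_17_2 lc_d_rc_15_1 lc_d_rc_8_1 lc_d_rc_15_1 lc_d_rc_17_2 lc_d_rc_27_2 lc_d_rc_17_2 lc_d_rc_3_3 lc_d_rc_15_1 lc_d_rc_16_4 lc_d_rc_16_4 lc_d_Cert_tree lc_d_Cert_tree lc_d_rc_23_6 lc_d_rc_23_6 lc_d_rc_15_1 lc_d_Cert_tree lc_d_rc_15_1 lc_d_rc_25_18) (@D3.rec (fun _ => (Cert rels S Gen.d)) lc_d_Cert_tree lc_d_rc_27_4 lc_d_rc_22_2 lc_d_rc_16_4 lc_d_Cert_tree lc_d_rc_23_2 lc_d_rc_17_2 lc_d_rc_8_3 lc_d_rc_16_2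 lc_d_rc_27_10 lc_d_rc_15_1 lc_d_rc_17_2 lc_d_Cert_tree lc_d_rc_15_1 lc_d_rc_15_1 lc_d_rc_17_2 lc_d_rc_24_0 lc_d_Cert_tree lc_d_rc_16_4 lc_d_rc_27_10 lc_d_rc_15_1 lc_d_rc_17_2 lc_d_rc_15_1 lc_d_rc_15_1 lc_d_rc_24_0 lc_d_rc_15_1 lc_d_Cert_tree lc_d_rc_15_1 lc_d_Cert_tree lc_d_rc_15_1 lc_d_rc_15_1 lc_d_rc_17_2 lc_d_rc_8_3 lc_d_rc_22_8 lc_d_rc_15_1 lc_d_rc_27_10 lc_d_rc_17_2 lc_d_Cert_tree lc_d_rc_16_4 lc_d_rc_3_1 lc_d_rc_15_1 lc_d_rc_17_2 lc_d_rc_15_1 lc_d_rc_16_4 lc_d_Cert_tree lc_d_rc_17_2 lc_d_rc_15_1 lc_d_rc_23_8 lc_d_rc_15_1 lc_d_rc_17_2 lc_d_Cert_tree lc_d_Cert_tree lc_d_rc_15_1 lc_d_rc_24_5 lc_d_rc_23_4 lc_d_rc_17_2 lc_d_rc_8_3 lc_d_rc_15_1 lc_d_rc_16_4 lc_d_rc_16_4 lc_d_rc_16_2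 lc_d_Cert_tree) (@D3.rec (fun _ => (Cert rels S Gen.d)) lc_d_rc_8_3 lc_d_Cert_tree lc_d_rc_27_10 lc_d_rc_15_1 lc_d_rc_17_2 lc_d_rc_8_1 lc_d_rc_15_1 lc_d_rc_22_2 lc_d_rc_15_1 lc_d_rc_22_2 lc_d_rc_3_3 lc_d_rc_22_8 lc_d_rc_16_4 lc_d_rc_25_2 lc_d_rc_3_3 lc_d_Cert_tree lc_d_rc_15_1 lc_d_Cert_tree lc_d_Cert_tree lc_d_rc_15_1 lc_d_rc_17_2 lc_d_Cert_tree lc_d_rc_15_1 lc_d_Cert_tree lc_d_rc_8_3 lc_d_rc_17_2 lc_d_rc_24_5 lc_d_rc_8_1 lc_d_Cert_tree lc_d_rc_15_1 lc_d_Cert_tree lc_d_Cert_tree lc_d_Cert_tree lc_d_Cert_tree lc_d_rc_15_1 lc_d_rc_17_2 lc_d_Cert_tree lc_d_rc_16_4 lc_d_rc_15_1 lc_d_rc_27_10 lc_d_rc_17_2 lc_d_rc_25_2 lc_d_rc_3_1 lc_d_Cert_tree lc_d_rc_15_1 lc_d_rc_24_0 lc_d_rc_24_5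 lc_d_rc_23_4 lc_d_rc_23_4 lc_d_rc_24_0 lc_d_rc_27_4 lc_d_Cert_tree lc_d_rc_8_3 lc_d_rc_8_3 lc_d_rc_15_1 lc_d_rc_23_2 lc_d_rc_8_3 lc_d_rc_15_1 lc_d_rc_17_2 lc_d_Cert_tree lc_d_rc_23_4 lc_d_rc_17_2) (@D3.rec (fun _ => (Cert rels S Gen.d)) lc_d_rc_15_1 lc_d_rc_8_3 lc_d_rc_27_4 lc_d_rc_17_2 lc_d_rc_3_3 lc_d_rc_8_3 lc_d_Cert_tree lc_d_Cert_tree lc_d_rc_15_1 lc_d_rc_27_4 lc_d_rc_3_1 lc_d_rc_24_5 lc_d_Cert_tree lc_d_rc_15_1 lc_d_Cert_tree lc_d_rc_15_1 lc_d_rc_15_1 lc_d_rc_23_2 lc_d_rc_8_3 lc_d_rc_27_2 lc_d_Cert_tree lc_d_rc_15_1 lc_d_rc_16_2 lc_d_rc_15_1 lc_d_Cert_tree lc_d_rc_8_3 lc_d_Cert_tree lc_d_rc_17_2 lc_d_rc_15_1 lc_d_Cert_tree lc_d_rc_15_1 lc_d_rc_17_2 lc_d_rc_15_1 lc_d_rc_23_8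 lc_d_rc_8_1 lc_d_Cert_tree lc_d_rc_15_1 lc_d_rc_17_2 lc_d_rc_16_4 lc_d_Cert_tree lc_d_rc_15_1 lc_d_rc_17_2 lc_d_rc_17_2 lc_d_rc_15_1 lc_d_rc_15_1 lc_d_Cert_tree lc_d_rc_15_1 lc_d_rc_27_10 lc_d_rc_15_1 lc_d_rc_3_3 lc_d_rc_24_0 lc_d_Cert_tree lc_d_rc_16_2 lc_d_Cert_tree lc_d_Cert_tree lc_d_rc_17_2 lc_d_rc_25_14 lc_d_rc_15_1 lc_d_rc_17_2 lc_d_rc_27_10 lc_d_rc_15_1 lc_d_rc_15_1) (@D3.rec (fun _ => (Cert rels S Gen.d)) lc_d_rc_17_2 lc_d_rc_15_1 lc_d_rc_15_1 lc_d_rc_15_1 lc_d_rc_15_1 lc_d_rc_27_10 lc_d_rc_15_1 lc_d_rc_17_2 lc_d_Cert_tree lc_d_rc_15_1 lc_d_rc_15_1 lc_d_rc_17_2 lc_d_rc_23_6 lc_d_rc_15_1 lc_d_rc_15_1 lc_d_rc_8_1 lc_d_rc_15_1 lc_d_Cert_tree lc_d_Cert_tree lc_d_rc_16_2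 lc_d_rc_17_2 lc_d_rc_27_10 lc_d_rc_15_1 lc_d_rc_15_1 lc_d_Cert_tree lc_d_rc_16_2 lc_d_rc_27_2 lc_d_rc_15_1 lc_d_Cert_tree lc_d_rc_16_2 lc_d_rc_12_3 lc_d_rc_16_4 lc_d_rc_22_2 lc_d_rc_27_8 lc_d_Cert_tree lc_d_rc_15_1 lc_d_Cert_tree lc_d_rc_15_1 lc_d_rc_8_1 lc_d_rc_15_1 lc_d_rc_17_2 lc_d_Cert_tree lc_d_rc_15_1 lc_d_Cert_tree lc_d_rc_16_4 lc_d_rc_27_8 lc_d_rc_17_2 lc_d_rc_24_0 lc_d_rc_23_2 lc_d_rc_27_10 lc_d_rc_15_1 lc_d_rc_17_2 lc_d_rc_15_1 lc_d_rc_23_6 lc_d_rc_15_1 lc_d_rc_8_1 lc_d_rc_17_2 lc_d_Cert_tree lc_d_rc_15_1 lc_d_rc_17_2 lc_d_rc_8_3 lc_d_rc_17_2) (@D3.rec (fun _ => (Cert rels S Gen.d)) lc_d_rc_27_4 lc_d_rc_8_3 lc_d_rc_3_3 lc_d_rc_16_4 lc_d_Cert_tree lc_d_Cert_tree lc_d_rc_24_5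 lc_d_rc_15_1 lc_d_rc_15_1 lc_d_rc_15_1 lc_d_rc_16_4 lc_d_rc_27_4 lc_d_rc_3_3 lc_d_rc_17_2 lc_d_rc_15_1 lc_d_rc_24_5 lc_d_rc_23_2 lc_d_rc_3_3 lc_d_rc_24_5 lc_d_rc_8_3 lc_d_Cert_tree lc_d_rc_15_1 lc_d_rc_8_1 lc_d_rc_23_2 lc_d_rc_27_10 lc_d_rc_17_2 lc_d_rc_15_1 lc_d_rc_15_1 lc_d_rc_15_1 lc_d_rc_15_1 lc_d_rc_8_3 lc_d_Cert_tree lc_d_rc_17_2 lc_d_rc_25_6 lc_d_rc_25_10 lc_d_rc_27_8 lc_d_rc_15_1 lc_d_rc_8_1 lc_d_rc_22_6 lc_d_rc_16_4 lc_d_rc_17_2 lc_d_rc_15_1 lc_d_rc_27_2 lc_d_rc_27_4 lc_d_rc_3_1 lc_d_Cert_tree lc_d_Cert_tree lc_d_rc_15_1 lc_d_rc_27_8 lc_d_rc_17_2 lc_d_Cert_tree lc_d_rc_15_1 lc_d_rc_17_0 lc_d_rc_15_1 lc_d_rc_3_3 lc_d_Cert_tree lc_d_rc_17_0 lc_d_Cert_tree lc_d_rc_24_0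 lc_d_rc_8_3 lc_d_rc_15_1 lc_d_rc_15_1) (@D3.rec (fun _ => (Cert rels S Gen.d)) lc_d_rc_15_1 lc_d_rc_8_3 lc_d_Cert_tree lc_d_rc_27_10 lc_d_rc_17_2 lc_d_rc_25_2 lc_d_rc_3_3 lc_d_Cert_tree lc_d_rc_15_1 lc_d_rc_15_1 lc_d_rc_15_1 lc_d_rc_8_1 lc_d_rc_22_6 lc_d_Cert_tree lc_d_rc_15_1 lc_d_Cert_tree lc_d_Cert_tree lc_d_Cert_tree lc_d_Cert_tree lc_d_rc_15_1 lc_d_rc_27_4 lc_d_Cert_tree lc_d_rc_15_1 lc_d_Cert_tree lc_d_rc_27_2 lc_d_Cert_tree lc_d_Cert_tree lc_d_Cert_tree lc_d_rc_15_1 lc_d_Cert_tree lc_d_Cert_tree lc_d_rc_15_1 lc_d_rc_17_2 lc_d_Cert_tree lc_d_Cert_tree lc_d_rc_15_1 lc_d_Cert_tree lc_d_rc_15_1 lc_d_rc_17_2 lc_d_rc_15_1 lc_d_rc_22_6 lc_d_Cert_tree lc_d_rc_15_1 lc_d_rc_8_3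 lc_d_rc_17_2 lc_d_Cert_tree lc_d_Cert_tree lc_d_rc_15_1 lc_d_Cert_tree lc_d_rc_23_6 lc_d_rc_15_1 lc_d_rc_17_2 lc_d_Cert_tree lc_d_rc_15_1 lc_d_Cert_tree lc_d_rc_8_3 lc_d_Cert_tree lc_d_rc_8_3 lc_d_rc_8_3 lc_d_rc_23_6 lc_d_Cert_tree lc_d_Cert_tree) (@D3.rec (fun _ => (Cert rels S Gen.d)) lc_d_Cert_tree lc_d_Cert_tree lc_d_rc_15_1 lc_d_Cert_tree lc_d_rc_15_1 lc_d_rc_16_2 lc_d_rc_15_1 lc_d_rc_22_8 lc_d_Cert_tree lc_d_rc_15_1 lc_d_rc_23_8 lc_d_rc_23_2 lc_d_rc_27_8 lc_d_rc_15_1 lc_d_Cert_tree lc_d_Cert_tree lc_d_rc_23_8 lc_d_rc_15_1 lc_d_rc_15_1 lc_d_rc_17_2 lc_d_rc_15_1 lc_d_rc_3_3 lc_d_rc_15_1 lc_d_rc_3_1 lc_d_rc_8_3 lc_d_rc_23_2 lc_d_rc_15_1 lc_d_rc_22_8 lc_d_rc_15_1 lc_d_Cert_tree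 lc_d_Cert_tree lc_d_rc_15_1 lc_d_Cert_tree lc_d_rc_15_1 lc_d_rc_15_1 lc_d_rc_8_3 lc_d_rc_8_3 lc_d_rc_15_1 lc_d_rc_16_4 lc_d_Cert_tree lc_d_Cert_tree lc_d_rc_15_1 lc_d_rc_17_2 lc_d_rc_27_4 lc_d_Cert_tree lc_d_rc_15_1 lc_d_rc_23_2 lc_d_rc_27_2 lc_d_rc_22_2 lc_d_rc_8_3 lc_d_rc_16_4 lc_d_rc_15_1 lc_d_Cert_tree lc_d_rc_16_2 lc_d_rc_15_1 lc_d_rc_22_6 lc_d_rc_15_1 lc_d_rc_27_4 lc_d_rc_27_4 lc_d_rc_27_4 lc_d_rc_23_6 lc_d_rc_15_1) (@D3.rec (fun _ => (Cert rels S Gen.d)) lc_d_Cert_tree lc_d_rc_15_1 lc_d_rc_3_1 lc_d_Cert_tree lc_d_Cert_tree lc_d_rc_15_1 lc_d_Cert_tree lc_d_rc_15_1 lc_d_rc_22_2 lc_d_rc_24_0 lc_d_Cert_tree lc_d_rc_23_4 lc_d_rc_15_1 lc_d_Cert_tree lc_d_rc_22_4 lc_d_rc_24_5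 lc_d_rc_24_5 lc_d_rc_15_1 lc_d_rc_8_3 lc_d_rc_15_1 lc_d_rc_15_1 lc_d_rc_23_6 lc_d_rc_16_4 lc_d_rc_16_4 lc_d_rc_15_1 lc_d_Cert_tree lc_d_rc_8_3 lc_d_Cert_tree lc_d_rc_23_4 lc_d_rc_23_4 lc_d_rc_17_2 lc_d_rc_15_1 lc_d_rc_8_3 lc_d_rc_15_1 lc_d_Cert_tree lc_d_rc_8_3 lc_d_rc_15_1 lc_d_Cert_tree lc_d_rc_15_1 lc_d_Cert_tree lc_d_rc_3_3 lc_d_Cert_tree lc_d_rc_27_10 lc_d_rc_15_1 lc_d_rc_17_2 lc_d_rc_3_3 lc_d_Cert_tree lc_d_Cert_tree lc_d_Cert_tree lc_d_rc_15_1 lc_d_rc_17_2 lc_d_rc_16_2 lc_d_rc_15_1 lc_d_rc_25_6 lc_d_rc_8_3 lc_d_rc_15_1 lc_d_Cert_tree lc_d_Cert_tree lc_d_rc_15_1 lc_d_Cert_tree lc_d_Cert_tree lc_d_rc_15_1) (@D3.rec (fun _ => (Cert rels S Gen.d)) lc_d_Cert_tree lc_d_Cert_tree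 lc_d_rc_27_8 lc_d_rc_3_3 lc_d_rc_15_1 lc_d_rc_8_1 lc_d_Cert_tree lc_d_rc_15_1 lc_d_Cert_tree lc_d_rc_15_1 lc_d_Cert_tree lc_d_rc_15_1 lc_d_rc_15_1 lc_d_rc_17_2 lc_d_rc_8_1 lc_d_rc_15_1 lc_d_rc_16_4 lc_d_rc_8_1 lc_d_rc_15_1 lc_d_Cert_tree lc_d_rc_27_4 lc_d_rc_23_4 lc_d_rc_15_1 lc_d_rc_8_3 lc_d_rc_17_2 lc_d_rc_27_2 lc_d_rc_23_8 lc_d_rc_3_3 lc_d_rc_16_0 lc_d_rc_17_2 lc_d_rc_8_3 lc_d_rc_17_2 lc_d_rc_23_8 lc_d_rc_24_0 lc_d_Cert_tree lc_d_rc_15_1 lc_d_rc_22_2 lc_d_Cert_tree lc_d_rc_15_1 lc_d_rc_27_4 lc_d_rc_15_1 lc_d_Cert_tree lc_d_rc_17_2 lc_d_Cert_tree lc_d_Cert_tree lc_d_rc_15_1 lc_d_Cert_tree lc_d_Cert_tree lc_d_rc_25_6 lc_d_rc_15_1 lc_d_rc_23_4 lc_d_rc_23_4 lc_d_Cert_tree lc_d_rc_8_1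 lc_d_rc_15_1 lc_d_rc_27_4 lc_d_Cert_tree lc_d_Cert_tree lc_d_rc_15_1 lc_d_rc_27_2 lc_d_rc_22_6 lc_d_rc_16_2) (@D3.rec (fun _ => (Cert rels S Gen.d)) lc_d_rc_8_1 lc_d_rc_15_1 lc_d_rc_17_2 lc_d_rc_3_1 lc_d_rc_8_3 lc_d_rc_8_3 lc_d_rc_15_1 lc_d_rc_8_3 lc_d_Cert_tree lc_d_rc_23_2 lc_d_rc_23_8 lc_d_Cert_tree lc_d_rc_15_1 lc_d_rc_22_4 lc_d_Cert_tree lc_d_rc_22_2 lc_d_Cert_tree lc_d_rc_15_1 lc_d_rc_17_2 lc_d_rc_24_0 lc_d_rc_27_2 lc_d_rc_15_1 lc_d_Cert_tree lc_d_rc_3_3 lc_d_rc_8_3 lc_d_Cert_tree lc_d_rc_27_4 lc_d_rc_15_1 lc_d_rc_15_1 lc_d_rc_16_4 lc_d_Cert_tree lc_d_rc_15_1 lc_d_Cert_tree lc_d_rc_15_1 lc_d_rc_27_8 lc_d_rc_15_1 lc_d_rc_15_1 lc_d_rc_27_4 lc_d_rc_17_2 lc_d_rc_23_2 lc_d_rc_15_1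 lc_d_rc_16_2 lc_d_rc_15_1 lc_d_rc_15_1 lc_d_rc_27_2 lc_d_rc_27_8 lc_d_rc_17_2 lc_d_rc_15_1 lc_d_Cert_tree lc_d_rc_27_4 lc_d_rc_27_4 lc_d_rc_27_8 lc_d_rc_27_2 lc_d_rc_27_4 lc_d_rc_15_1 lc_d_rc_15_1 lc_d_rc_17_2 lc_d_rc_25_6 lc_d_rc_23_8 lc_d_Cert_tree lc_d_rc_15_1 lc_d_Cert_tree) (@D3.rec (fun _ => (Cert rels S Gen.d)) lc_d_Cert_tree lc_d_Cert_tree lc_d_rc_15_1 lc_d_rc_22_2 lc_d_rc_27_4 lc_d_Cert_tree lc_d_rc_8_3 lc_d_Cert_tree lc_d_rc_3_3 lc_d_rc_27_4 lc_d_rc_15_1 lc_d_rc_15_1 lc_d_rc_15_1 lc_d_Cert_tree lc_d_rc_15_1 lc_d_rc_27_4 lc_d_Cert_tree lc_d_rc_15_1 lc_d_rc_23_6 lc_d_rc_15_1 lc_d_rc_17_2 lc_d_Cert_tree lc_d_rc_15_1 lc_d_rc_23_2 lc_d_Cert_tree lc_d_rc_15_1 lc_d_rc_16_2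 lc_d_rc_15_1 lc_d_Cert_tree lc_d_rc_15_1 lc_d_Cert_tree lc_d_rc_24_5 lc_d_rc_15_1 lc_d_Cert_tree lc_d_rc_25_14 lc_d_rc_22_4 lc_d_rc_15_1 lc_d_rc_17_2 lc_d_rc_15_1 lc_d_rc_15_1 lc_d_rc_27_8 lc_d_rc_17_2 lc_d_rc_24_5 lc_d_rc_23_8 lc_d_rc_8_3 lc_d_rc_23_2 lc_d_Cert_tree lc_d_rc_23_2 lc_d_rc_15_1 lc_d_rc_25_6 lc_d_Cert_tree lc_d_rc_15_1 lc_d_rc_15_1 lc_d_rc_15_1 lc_d_Cert_tree lc_d_rc_17_2 lc_d_Cert_tree lc_d_rc_16_0 lc_d_Cert_tree lc_d_rc_27_4 lc_d_rc_8_1 lc_d_rc_8_1) (@D3.rec (fun _ => (Cert rels S Gen.d)) lc_d_rc_15_1 lc_d_Cert_tree lc_d_rc_24_0 lc_d_rc_3_1 lc_d_rc_8_1 lc_d_Cert_tree lc_d_rc_15_1 lc_d_rc_16_2 lc_d_rc_17_2 lc_d_Cert_tree lc_d_rc_12_15 lc_d_rc_27_10 lc_d_rc_15_1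 lc_d_rc_17_2 lc_d_rc_22_4 lc_d_rc_23_4 lc_d_Cert_tree lc_d_Cert_tree lc_d_rc_15_1 lc_d_Cert_tree lc_d_rc_8_1 lc_d_rc_15_1 lc_d_rc_16_4 lc_d_rc_22_8 lc_d_Cert_tree lc_d_Cert_tree lc_d_rc_15_1 lc_d_rc_22_2 lc_d_rc_15_1 lc_d_rc_16_4 lc_d_rc_8_3 lc_d_Cert_tree lc_d_Cert_tree lc_d_rc_24_5 lc_d_rc_8_3 lc_d_rc_16_4 lc_d_rc_17_2 lc_d_rc_15_1 lc_d_rc_16_2 lc_d_rc_23_6 lc_d_rc_23_2 lc_d_rc_17_2 lc_d_Cert_tree lc_d_rc_16_0 lc_d_rc_15_1 lc_d_Cert_tree lc_d_rc_15_1 lc_d_rc_27_4 lc_d_rc_15_1 lc_d_rc_27_8 lc_d_Cert_tree lc_d_rc_15_1 lc_d_rc_27_4 lc_d_rc_8_1 lc_d_rc_15_1 lc_d_rc_27_8 lc_d_rc_23_6 lc_d_rc_23_6 lc_d_rc_22_6 lc_d_rc_24_0 lc_d_rc_15_1 lc_d_Cert_tree) (@D3.rec (fun _ => (Cert rels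 S Gen.d)) lc_d_rc_15_1 lc_d_rc_15_1 lc_d_rc_16_2 lc_d_rc_25_10 lc_d_rc_15_1 lc_d_rc_24_5 lc_d_rc_15_1 lc_d_rc_15_1 lc_d_Cert_tree lc_d_rc_27_2 lc_d_rc_8_3 lc_d_rc_24_0 lc_d_rc_3_3 lc_d_Cert_tree lc_d_Cert_tree lc_d_Cert_tree lc_d_rc_15_1 lc_d_rc_27_4 lc_d_rc_15_1 lc_d_rc_15_1 lc_d_rc_17_2 lc_d_rc_8_1 lc_d_rc_3_3 lc_d_rc_15_1 lc_d_Cert_tree lc_d_Cert_tree lc_d_rc_15_1 lc_d_rc_17_2 lc_d_rc_24_5 lc_d_Cert_tree lc_d_rc_24_5 lc_d_Cert_tree lc_d_Cert_tree lc_d_Cert_tree lc_d_rc_15_1 lc_d_rc_23_6 lc_d_rc_23_4 lc_d_rc_8_1 lc_d_rc_15_1 lc_d_rc_8_3 lc_d_Cert_tree lc_d_rc_15_1 lc_d_rc_15_1 lc_d_rc_27_4 lc_d_rc_8_3 lc_d_Cert_tree lc_d_rc_17_2 lc_d_rc_15_1 lc_d_rc_16_0 lc_d_Cert_tree lc_d_Cert_tree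 lc_d_rc_17_2 lc_d_rc_17_0 lc_d_Cert_tree lc_d_rc_15_1 lc_d_rc_16_4 lc_d_rc_15_1 lc_d_rc_8_3 lc_d_Cert_tree lc_d_Cert_tree lc_d_rc_24_5 lc_d_Cert_tree) (@D3.rec (fun _ => (Cert rels S Gen.d)) lc_d_Cert_tree lc_d_Cert_tree lc_d_Cert_tree lc_d_Cert_tree lc_d_rc_15_1 lc_d_rc_17_2 lc_d_rc_15_1 lc_d_Cert_tree lc_d_rc_17_2 lc_d_rc_3_1 lc_d_rc_15_1 lc_d_rc_8_3 lc_d_Cert_tree lc_d_rc_15_1 lc_d_rc_27_4 lc_d_Cert_tree lc_d_Cert_tree lc_d_rc_15_1 lc_d_Cert_tree lc_d_Cert_tree lc_d_rc_15_1 lc_d_rc_15_1 lc_d_Cert_tree lc_d_rc_27_8 lc_d_rc_15_1 lc_d_rc_17_2 lc_d_rc_23_8 lc_d_rc_23_8 lc_d_Cert_tree lc_d_rc_15_1 lc_d_rc_16_4 lc_d_rc_8_3 lc_d_Cert_tree lc_d_rc_16_2 lc_d_rc_8_3 lc_d_rc_27_2 lc_d_rc_15_1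 lc_d_rc_17_2 lc_d_Cert_tree lc_d_rc_16_4 lc_d_Cert_tree lc_d_rc_3_1 lc_d_rc_16_0 lc_d_rc_16_4 lc_d_rc_22_4 lc_d_Cert_tree lc_d_Cert_tree lc_d_Cert_tree lc_d_rc_15_1 lc_d_rc_17_2 lc_d_rc_8_1 lc_d_rc_15_1 lc_d_rc_16_2 lc_d_rc_15_1 lc_d_rc_15_1 lc_d_rc_8_3 lc_d_rc_27_4 lc_d_rc_8_3 lc_d_rc_16_4 lc_d_rc_17_2 lc_d_Cert_tree lc_d_rc_8_1) (@D3.rec (fun _ => (Cert rels S Gen.d)) lc_d_rc_15_1 lc_d_rc_17_2 lc_d_Cert_tree lc_d_rc_15_1 lc_d_Cert_tree lc_d_rc_25_6 lc_d_rc_22_6 lc_d_rc_15_1 lc_d_rc_15_1 lc_d_rc_24_0 lc_d_rc_22_8 lc_d_rc_16_4 lc_d_rc_16_0 lc_d_rc_25_6 lc_d_rc_23_8 lc_d_rc_15_1 lc_d_rc_16_4 lc_d_rc_8_1 lc_d_rc_15_1 lc_d_Cert_tree lc_d_rc_8_1 lc_d_rc_15_1 lc_d_rc_16_4 lc_d_rc_15_1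 lc_d_rc_17_2 lc_d_rc_15_1 lc_d_rc_15_1 lc_d_rc_16_4 lc_d_rc_27_8 lc_d_rc_3_3 lc_d_rc_8_3 lc_d_rc_24_5 lc_d_rc_15_1 lc_d_rc_15_1 lc_d_rc_17_2 lc_d_rc_24_0 lc_d_Cert_tree lc_d_rc_24_0 lc_d_rc_17_2 lc_d_rc_8_1 lc_d_rc_15_1 lc_d_rc_23_2 lc_d_rc_16_0 lc_d_rc_15_1 lc_d_rc_17_2 lc_d_Cert_tree lc_d_rc_15_1 lc_d_rc_15_1 lc_d_rc_16_0 lc_d_rc_15_1 lc_d_Cert_tree lc_d_rc_8_3 lc_d_rc_15_1 lc_d_rc_3_1 lc_d_rc_23_8 lc_d_rc_15_1 lc_d_rc_27_8 lc_d_rc_27_4 lc_d_rc_8_3 lc_d_Cert_tree lc_d_rc_27_10 lc_d_rc_17_2) (@D3.rec (fun _ => (Cert rels S Gen.d)) lc_d_rc_15_1 lc_d_Cert_tree lc_d_rc_24_5 lc_d_rc_23_2 lc_d_rc_15_1 lc_d_rc_17_2 lc_d_rc_23_4 lc_d_rc_24_5 lc_d_rc_8_3 lc_d_rc_8_3 lc_d_rc_23_2 lc_d_rc_15_1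 lc_d_rc_24_5 lc_d_Cert_tree lc_d_rc_15_1 lc_d_Cert_tree lc_d_rc_23_6 lc_d_rc_15_1 lc_d_rc_27_2 lc_d_rc_24_0 lc_d_rc_24_0 lc_d_rc_15_1 lc_d_rc_17_2 lc_d_rc_22_2 lc_d_rc_15_1 lc_d_rc_22_6 lc_d_rc_16_4 lc_d_rc_17_2 lc_d_rc_22_2 lc_d_rc_15_1 lc_d_rc_15_1 lc_d_Cert_tree lc_d_Cert_tree lc_d_Cert_tree lc_d_rc_15_1 lc_d_rc_17_2 lc_d_rc_27_4 lc_d_Cert_tree lc_d_rc_8_1 lc_d_rc_27_2 lc_d_rc_15_1 lc_d_rc_15_1 lc_d_rc_15_1 lc_d_rc_27_4 lc_d_rc_22_6 lc_d_rc_12_1 lc_d_rc_27_8 lc_d_Cert_tree lc_d_rc_15_1 lc_d_rc_15_1 lc_d_rc_27_8 lc_d_rc_16_2 lc_d_rc_22_6 lc_d_rc_22_4 lc_d_rc_17_2 lc_d_rc_8_3 lc_d_rc_27_2 lc_d_rc_24_0 lc_d_Cert_tree lc_d_rc_15_1 lc_d_rc_27_2 lc_d_rc_15_1) (@D3.rec (fun _ =>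 (Cert rels S Gen.d)) lc_d_Cert_tree lc_d_Cert_tree lc_d_rc_15_1 lc_d_rc_15_1 lc_d_Cert_tree lc_d_Cert_tree lc_d_rc_15_1 lc_d_rc_8_3 lc_d_rc_22_8 lc_d_rc_15_1 lc_d_rc_15_1 lc_d_rc_15_1 lc_d_rc_8_3 lc_d_rc_23_8 lc_d_rc_23_2 lc_d_rc_15_1 lc_d_rc_17_2 lc_d_rc_16_2 lc_d_rc_15_1 lc_d_rc_15_1 lc_d_rc_15_1 lc_d_rc_15_1 lc_d_rc_23_2 lc_d_Cert_tree lc_d_rc_17_2 lc_d_rc_15_1 lc_d_Cert_tree lc_d_rc_15_1 lc_d_rc_15_1 lc_d_rc_23_6 lc_d_Cert_tree lc_d_rc_23_2 lc_d_rc_15_1 lc_d_rc_24_0 lc_d_Cert_tree lc_d_rc_23_2 lc_d_rc_15_1 lc_d_Cert_tree lc_d_rc_15_1 lc_d_Cert_tree lc_d_rc_15_1 lc_d_rc_24_5 lc_d_rc_16_4 lc_d_rc_15_1 lc_d_rc_15_1 lc_d_rc_16_4 lc_d_rc_15_1 lc_d_rc_16_4 lc_d_rc_23_2 lc_d_rc_15_1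 lc_d_rc_27_4 lc_d_rc_12_3 lc_d_rc_15_1 lc_d_Cert_tree lc_d_rc_15_1 lc_d_rc_8_3 lc_d_rc_27_10 lc_d_rc_15_1 lc_d_rc_23_6 lc_d_rc_15_1 lc_d_rc_22_8 lc_d_rc_3_1) (@D3.rec (fun _ => (Cert rels S Gen.d)) lc_d_rc_17_2 lc_d_Cert_tree lc_d_rc_15_1 lc_d_rc_17_2 lc_d_Cert_tree lc_d_rc_8_3 lc_d_rc_16_2 lc_d_rc_23_4 lc_d_Cert_tree lc_d_rc_23_4 lc_d_rc_27_10 lc_d_rc_15_1 lc_d_rc_15_1 lc_d_rc_15_1 lc_d_rc_8_1 lc_d_rc_15_1 lc_d_Cert_tree lc_d_rc_22_2 lc_d_rc_3_1 lc_d_rc_15_1 lc_d_rc_23_6 lc_d_rc_16_4 lc_d_Cert_tree lc_d_Cert_tree lc_d_rc_15_1 lc_d_rc_16_4 lc_d_rc_8_1 lc_d_rc_15_1 lc_d_rc_27_4 lc_d_rc_15_1 lc_d_rc_8_1 lc_d_rc_15_1 lc_d_Cert_tree lc_d_rc_15_1 lc_d_rc_17_2 lc_d_rc_8_3 lc_d_rc_17_2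 lc_d_Cert_tree lc_d_rc_15_1 lc_d_rc_8_3 lc_d_rc_16_4 lc_d_Cert_tree lc_d_rc_8_3 lc_d_rc_27_4 lc_d_rc_17_2 lc_d_rc_16_4 lc_d_rc_16_4 lc_d_rc_8_3 lc_d_rc_27_2 lc_d_rc_27_2 lc_d_rc_23_2 lc_d_rc_25_18 lc_d_Cert_tree lc_d_rc_15_1 lc_d_rc_23_2 lc_d_rc_15_1 lc_d_Cert_tree lc_d_rc_15_1 lc_d_rc_27_2 lc_d_rc_15_1 lc_d_rc_15_1 lc_d_Cert_tree) (@D3.rec (fun _ => (Cert rels S Gen.d)) lc_d_rc_25_6 lc_d_Cert_tree lc_d_rc_27_2 lc_d_rc_15_1 lc_d_Cert_tree lc_d_rc_22_6 lc_d_Cert_tree lc_d_rc_27_10 lc_d_rc_15_1 lc_d_rc_15_1 lc_d_rc_17_2 lc_d_rc_23_2 lc_d_rc_15_1 lc_d_rc_8_3 lc_d_rc_27_10 lc_d_rc_8_3 lc_d_rc_22_6 lc_d_rc_24_0 lc_d_rc_24_0 lc_d_rc_8_3 lc_d_rc_15_1 lc_d_Cert_tree lc_d_Cert_tree lc_d_Cert_tree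 lc_d_rc_15_1 lc_d_Cert_tree lc_d_Cert_tree lc_d_rc_8_3 lc_d_rc_8_3 lc_d_Cert_tree lc_d_rc_25_6 lc_d_rc_23_6 lc_d_rc_3_1 lc_d_rc_15_1 lc_d_Cert_tree lc_d_rc_23_2 lc_d_rc_23_6 lc_d_Cert_tree lc_d_Cert_tree lc_d_Cert_tree lc_d_rc_15_1 lc_d_rc_17_2 lc_d_Cert_tree lc_d_rc_15_1 lc_d_Cert_tree lc_d_rc_27_2 lc_d_rc_23_2 lc_d_rc_17_2 lc_d_rc_25_2 lc_d_rc_23_6 lc_d_rc_3_1 lc_d_rc_15_1 lc_d_Cert_tree lc_d_Cert_tree lc_d_Cert_tree lc_d_Cert_tree lc_d_rc_15_1 lc_d_rc_17_2 lc_d_Cert_tree lc_d_rc_24_0 lc_d_rc_24_0 lc_d_rc_8_3) (@D3.rec (fun _ => (Cert rels S Gen.d)) lc_d_Cert_tree lc_d_rc_24_5 lc_d_Cert_tree lc_d_rc_15_1 lc_d_rc_17_2 lc_d_Cert_tree lc_d_rc_15_1 lc_d_rc_17_2 lc_d_Cert_tree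 lc_d_rc_8_1 lc_d_rc_15_1 lc_d_Cert_tree lc_d_rc_17_2 lc_d_Cert_tree lc_d_rc_15_1 lc_d_rc_15_1 lc_d_rc_23_6 lc_d_rc_23_4 lc_d_rc_22_2 lc_d_rc_8_1 lc_d_rc_17_2 lc_d_Cert_tree lc_d_rc_15_1 lc_d_Cert_tree lc_d_Cert_tree lc_d_rc_8_3 lc_d_rc_22_6 lc_d_Cert_tree lc_d_Cert_tree lc_d_rc_17_2 lc_d_Cert_tree lc_d_Cert_tree lc_d_rc_15_1 lc_d_rc_8_3 lc_d_rc_15_1 lc_d_rc_15_1 lc_d_rc_3_3 lc_d_rc_15_1 lc_d_rc_23_8 lc_d_rc_23_8 lc_d_rc_15_1 lc_d_rc_17_0 lc_d_rc_12_3 lc_d_rc_15_1 lc_d_rc_17_2 lc_d_rc_8_3 lc_d_rc_15_1 lc_d_rc_27_2 lc_d_rc_12_3 lc_d_rc_24_0 lc_d_rc_22_4 lc_d_rc_15_1 lc_d_rc_15_1 lc_d_Cert_tree lc_d_rc_15_1 lc_d_Cert_tree lc_d_rc_8_3 lc_d_Cert_tree lc_d_rc_16_4 lc_d_Cert_tree lc_d_Cert_tree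 lc_d_Cert_tree) (@D3.rec (fun _ => (Cert rels S Gen.d)) lc_d_rc_15_1 lc_d_rc_17_2 lc_d_Cert_tree lc_d_Cert_tree lc_d_rc_15_1 lc_d_rc_8_3 lc_d_Cert_tree lc_d_rc_27_2 lc_d_rc_27_10 lc_d_rc_15_1 lc_d_rc_16_2 lc_d_rc_3_3 lc_d_rc_3_3 lc_d_rc_16_4 lc_d_rc_24_0 lc_d_Cert_tree lc_d_rc_24_0 lc_d_rc_24_0 lc_d_Cert_tree lc_d_rc_15_1 lc_d_rc_15_1 lc_d_rc_17_2 lc_d_Cert_tree lc_d_rc_24_0 lc_d_rc_3_3 lc_d_rc_27_10 lc_d_rc_16_0 lc_d_Cert_tree lc_d_rc_22_8 lc_d_rc_15_1 lc_d_rc_27_10 lc_d_rc_15_1 lc_d_Cert_tree lc_d_rc_27_10 lc_d_rc_15_1 lc_d_rc_15_1 lc_d_rc_15_1 lc_d_rc_8_3 lc_d_rc_27_2 lc_d_rc_22_6 lc_d_rc_15_1 lc_d_rc_15_1 lc_d_Cert_tree lc_d_rc_15_1 lc_d_rc_27_10 lc_d_rc_24_5 lc_d_rc_15_1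 lc_d_Cert_tree lc_d_rc_15_1 lc_d_rc_8_3 lc_d_rc_22_4 lc_d_rc_27_10 lc_d_rc_17_2 lc_d_rc_8_3 lc_d_rc_16_2 lc_d_rc_17_0 lc_d_rc_17_2 lc_d_rc_16_2 lc_d_Cert_tree lc_d_rc_15_1 lc_d_rc_23_2 lc_d_rc_15_1) (@D3.rec (fun _ => (Cert rels S Gen.d)) lc_d_Cert_tree lc_d_Cert_tree lc_d_rc_16_4 lc_d_rc_15_1 lc_d_rc_16_4 lc_d_Cert_tree lc_d_Cert_tree lc_d_Cert_tree lc_d_rc_22_2 lc_d_rc_15_1 lc_d_Cert_tree lc_d_Cert_tree lc_d_rc_23_8 lc_d_rc_23_8 lc_d_rc_15_1 lc_d_rc_23_2 lc_d_rc_24_5 lc_d_rc_27_2 lc_d_rc_16_4 lc_d_rc_17_2 lc_d_rc_16_0 lc_d_Cert_tree lc_d_rc_15_1 lc_d_rc_3_3 lc_d_rc_16_2 lc_d_rc_23_4 lc_d_rc_15_1 lc_d_rc_16_4 lc_d_Cert_tree lc_d_Cert_tree lc_d_rc_15_1 lc_d_rc_8_1 lc_d_rc_8_3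 lc_d_Cert_tree lc_d_Cert_tree lc_d_Cert_tree lc_d_rc_15_1 lc_d_rc_8_3 lc_d_rc_16_2 lc_d_rc_23_4 lc_d_rc_22_2 lc_d_rc_15_1 lc_d_rc_15_1 lc_d_rc_22_4 lc_d_Cert_tree lc_d_rc_17_2 lc_d_rc_8_3 lc_d_rc_15_1 lc_d_rc_3_3 lc_d_rc_17_2 lc_d_Cert_tree lc_d_rc_15_1 lc_d_rc_22_4 lc_d_rc_15_1 lc_d_rc_16_2 lc_d_rc_8_3 lc_d_Cert_tree lc_d_rc_27_4 lc_d_rc_15_1 lc_d_rc_17_2 lc_d_Cert_tree lc_d_rc_15_1) (@D3.rec (fun _ => (Cert rels S Gen.d)) lc_d_rc_8_1 lc_d_Cert_tree lc_d_rc_8_1 lc_d_rc_15_1 lc_d_rc_17_2 lc_d_Cert_tree lc_d_rc_24_5 lc_d_Cert_tree lc_d_rc_15_1 lc_d_rc_24_0 lc_d_rc_15_1 lc_d_rc_27_10 lc_d_Cert_tree lc_d_rc_23_2 lc_d_Cert_tree lc_d_rc_15_1 lc_d_rc_8_3 lc_d_rc_16_4 lc_d_Cert_tree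 lc_d_Cert_tree lc_d_rc_23_8 lc_d_rc_8_3 lc_d_Cert_tree lc_d_rc_15_1 lc_d_rc_8_3 lc_d_rc_27_2 lc_d_rc_16_4 lc_d_rc_16_4 lc_d_rc_8_1 lc_d_Cert_tree lc_d_rc_15_1 lc_d_rc_3_3 lc_d_rc_22_6 lc_d_rc_22_2 lc_d_rc_22_8 lc_d_Cert_tree lc_d_rc_27_4 lc_d_Cert_tree lc_d_rc_17_2 lc_d_Cert_tree lc_d_Cert_tree lc_d_rc_15_1 lc_d_Cert_tree lc_d_rc_16_2 lc_d_rc_15_1 lc_d_rc_16_4 lc_d_rc_25_2 lc_d_rc_15_1 lc_d_rc_22_6 lc_d_rc_15_1 lc_d_rc_8_1 lc_d_rc_15_1 lc_d_rc_23_6 lc_d_rc_23_6 lc_d_Cert_tree lc_d_rc_16_0 lc_d_rc_8_3 lc_d_rc_15_1 lc_d_rc_8_3 lc_d_rc_17_2 lc_d_rc_15_1 lc_d_rc_23_8) (@D3.rec (fun _ => (Cert rels S Gen.d)) lc_d_rc_25_2 lc_d_Cert_tree lc_d_rc_17_2 lc_d_Cert_tree lc_d_rc_17_2 lc_d_rc_3_3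 lc_d_rc_15_1 lc_d_rc_8_3 lc_d_rc_8_3 lc_d_Cert_tree lc_d_Cert_tree lc_d_rc_15_1 lc_d_rc_17_2 lc_d_Cert_tree lc_d_rc_15_1 lc_d_rc_8_1 lc_d_rc_24_0 lc_d_rc_15_1 lc_d_rc_17_2 lc_d_rc_8_3 lc_d_Cert_tree lc_d_rc_15_1 lc_d_rc_17_2 lc_d_rc_8_3 lc_d_rc_24_0 lc_d_rc_23_8 lc_d_Cert_tree lc_d_rc_15_1 lc_d_rc_23_2 lc_d_Cert_tree lc_d_Cert_tree lc_d_Cert_tree lc_d_rc_15_1 lc_d_rc_17_2 lc_d_Cert_tree lc_d_rc_27_8 lc_d_rc_3_1 lc_d_rc_17_2 lc_d_Cert_tree lc_d_rc_15_1 lc_d_rc_22_4 lc_d_Cert_tree lc_d_rc_15_1 lc_d_rc_17_2 lc_d_Cert_tree lc_d_rc_16_4 lc_d_rc_22_2 lc_d_rc_27_10 lc_d_Cert_tree lc_d_rc_15_1 lc_d_Cert_tree lc_d_Cert_tree lc_d_Cert_tree lc_d_rc_8_3 lc_d_rc_15_1 lc_d_rc_17_2 lc_d_rc_27_4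 lc_d_rc_27_2 lc_d_rc_25_2 lc_d_rc_16_4 lc_d_Cert_tree lc_d_rc_15_1) (@D3.rec (fun _ => (Cert rels S Gen.d)) lc_d_Cert_tree lc_d_rc_27_4 lc_d_rc_27_8 lc_d_rc_27_4 lc_d_rc_15_1 lc_d_rc_22_2 lc_d_rc_27_4 lc_d_rc_27_4 lc_d_rc_25_6 lc_d_Cert_tree lc_d_Cert_tree lc_d_rc_15_1 lc_d_rc_12_15 lc_d_rc_16_2 lc_d_rc_15_1 lc_d_rc_16_4 lc_d_Cert_tree lc_d_Cert_tree lc_d_rc_22_2 lc_d_rc_16_4 lc_d_rc_15_1 lc_d_rc_22_2 lc_d_Cert_tree lc_d_Cert_tree lc_d_Cert_tree lc_d_rc_15_1 lc_d_rc_16_4 lc_d_rc_17_2 lc_d_Cert_tree lc_d_Cert_tree lc_d_rc_15_1 lc_d_rc_22_6 lc_d_rc_15_1 lc_d_rc_15_1 lc_d_rc_15_1 lc_d_Cert_tree lc_d_rc_16_4 lc_d_rc_15_1 lc_d_Cert_tree lc_d_rc_15_1 lc_d_rc_8_3 lc_d_Cert_tree lc_d_rc_17_2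 lc_d_rc_8_3 lc_d_rc_23_2 lc_d_rc_23_8 lc_d_Cert_tree lc_d_rc_15_1 lc_d_rc_17_0 lc_d_rc_16_2 lc_d_rc_17_2 lc_d_rc_15_1 lc_d_rc_16_4 lc_d_rc_16_4 lc_d_rc_16_4 lc_d_rc_16_0 lc_d_Cert_tree lc_d_rc_17_2 lc_d_Cert_tree lc_d_Cert_tree lc_d_rc_15_1 lc_d_Cert_tree) (@D3.rec (fun _ => (Cert rels S Gen.d)) lc_d_rc_15_1 lc_d_rc_17_2 lc_d_rc_8_1 lc_d_rc_15_1 lc_d_rc_27_4 lc_d_rc_23_8 lc_d_rc_17_2 lc_d_rc_24_5 lc_d_rc_15_1 lc_d_rc_8_3 lc_d_rc_22_6 lc_d_rc_22_2 lc_d_rc_22_6 lc_d_rc_8_3 lc_d_rc_3_3 lc_d_rc_17_2 lc_d_rc_8_3 lc_d_rc_15_1 lc_d_Cert_tree lc_d_Cert_tree lc_d_Cert_tree lc_d_rc_15_1 lc_d_rc_22_8 lc_d_Cert_tree lc_d_Cert_tree lc_d_Cert_tree lc_d_rc_15_1 lc_d_rc_8_3 lc_d_Cert_tree lc_d_Cert_tree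 lc_d_rc_15_1 lc_d_Cert_tree lc_d_rc_23_8 lc_d_Cert_tree lc_d_rc_15_1 lc_d_Cert_tree lc_d_rc_15_1 lc_d_Cert_tree lc_d_rc_15_1 lc_d_rc_12_15 lc_d_rc_8_3 lc_d_Cert_tree lc_d_Cert_tree lc_d_Cert_tree lc_d_rc_15_1 lc_d_rc_17_2 lc_d_rc_8_3 lc_d_rc_16_2 lc_d_rc_8_3 lc_d_rc_16_4 lc_d_Cert_tree lc_d_rc_16_0 lc_d_rc_15_1 lc_d_rc_17_2 lc_d_Cert_tree lc_d_rc_15_1 lc_d_Cert_tree lc_d_rc_15_1 lc_d_Cert_tree lc_d_rc_15_1 lc_d_rc_15_1 lc_d_Cert_tree) (@D3.rec (fun _ => (Cert rels S Gen.d)) lc_d_rc_17_2 lc_d_Cert_tree lc_d_Cert_tree lc_d_rc_15_1 lc_d_Cert_tree lc_d_rc_16_4 lc_d_rc_15_1 lc_d_rc_17_2 lc_d_rc_24_0 lc_d_rc_27_4 lc_d_rc_17_2 lc_d_rc_3_3 lc_d_rc_27_10 lc_d_rc_15_1 lc_d_rc_24_5 lc_d_rc_8_1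 lc_d_rc_15_1 lc_d_Cert_tree lc_d_rc_15_1 lc_d_rc_15_1 lc_d_rc_17_2 lc_d_rc_27_4 lc_d_rc_8_3 lc_d_Cert_tree lc_d_rc_17_2 lc_d_rc_8_3 lc_d_Cert_tree lc_d_rc_17_2 lc_d_rc_15_1 lc_d_rc_17_2 lc_d_rc_23_6 lc_d_rc_15_1 lc_d_rc_3_1 lc_d_rc_15_1 lc_d_rc_3_3 lc_d_Cert_tree lc_d_rc_16_4 lc_d_rc_15_1 lc_d_rc_17_2 lc_d_rc_15_1 lc_d_rc_27_4 lc_d_rc_8_3 lc_d_Cert_tree lc_d_rc_15_1 lc_d_rc_23_8 lc_d_rc_3_3 lc_d_rc_16_2 lc_d_rc_15_1 lc_d_rc_17_2 lc_d_rc_27_4 lc_d_rc_15_1 lc_d_rc_23_4 lc_d_rc_27_2 lc_d_rc_17_2 lc_d_rc_8_3 lc_d_rc_23_8 lc_d_rc_24_5 lc_d_rc_15_1 lc_d_rc_15_1 lc_d_rc_23_2 lc_d_rc_8_3 lc_d_rc_15_1) (@D3.rec (fun _ => (Cert rels S Gen.d)) lc_d_Cert_tree lc_d_rc_15_1 lc_d_Cert_tree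 lc_d_rc_22_8 lc_d_rc_25_6 lc_d_rc_22_8 lc_d_rc_23_2 lc_d_Cert_tree lc_d_rc_8_1 lc_d_rc_15_1 lc_d_rc_17_2 lc_d_rc_24_0 lc_d_rc_15_1 lc_d_rc_17_2 lc_d_Cert_tree lc_d_rc_15_1 lc_d_rc_27_4 lc_d_rc_16_4 lc_d_rc_15_1 lc_d_rc_15_1 lc_d_rc_15_1 lc_d_Cert_tree lc_d_rc_17_2 lc_d_Cert_tree lc_d_rc_15_1 lc_d_Cert_tree lc_d_rc_15_1 lc_d_Cert_tree lc_d_Cert_tree lc_d_Cert_tree lc_d_rc_8_3 lc_d_Cert_tree lc_d_rc_15_1 lc_d_rc_17_2 lc_d_Cert_tree lc_d_Cert_tree lc_d_Cert_tree lc_d_rc_15_1 lc_d_rc_16_4 lc_d_rc_25_2 lc_d_rc_24_0 lc_d_Cert_tree lc_d_rc_15_1 lc_d_rc_3_3 lc_d_rc_3_3 lc_d_rc_8_3 lc_d_rc_15_1 lc_d_rc_15_1 lc_d_rc_3_3 lc_d_Cert_tree lc_d_rc_22_2 lc_d_Cert_tree lc_d_Cert_tree lc_d_rc_3_3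 lc_d_rc_23_6 lc_d_Cert_tree lc_d_rc_8_3 lc_d_rc_8_3 lc_d_Cert_tree lc_d_rc_15_1 lc_d_Cert_tree lc_d_rc_22_4) (@D3.rec (fun _ => (Cert rels S Gen.d)) lc_d_rc_23_8 lc_d_rc_8_3 lc_d_Cert_tree lc_d_rc_8_3 lc_d_rc_8_3 lc_d_rc_15_1 lc_d_rc_16_4 lc_d_rc_15_1 lc_d_rc_8_3 lc_d_Cert_tree lc_d_Cert_tree lc_d_rc_15_1 lc_d_rc_17_2 lc_d_rc_27_8 lc_d_rc_15_1 lc_d_Cert_tree lc_d_rc_15_1 lc_d_rc_23_2 lc_d_rc_15_1 lc_d_rc_15_1 lc_d_Cert_tree lc_d_rc_17_2 lc_d_rc_15_1 lc_d_rc_15_1 lc_d_rc_23_2 lc_d_rc_15_1 lc_d_rc_27_2 lc_d_rc_25_2 lc_d_rc_15_1 lc_d_rc_17_2 lc_d_rc_25_6 lc_d_rc_15_1 lc_d_rc_16_0 lc_d_rc_12_15 lc_d_rc_23_8 lc_d_rc_27_8 lc_d_rc_15_1 lc_d_rc_16_4 lc_d_rc_27_4 lc_d_rc_15_1 lc_d_Cert_tree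 lc_d_rc_17_2 lc_d_rc_8_3 lc_d_rc_3_3 lc_d_rc_23_2 lc_d_rc_8_3 lc_d_Cert_tree lc_d_rc_15_1 lc_d_rc_3_3 lc_d_rc_8_3 lc_d_rc_23_8 lc_d_rc_22_6 lc_d_rc_16_2 lc_d_rc_23_4 lc_d_rc_8_3 lc_d_Cert_tree lc_d_rc_23_6 lc_d_rc_15_1 lc_d_Cert_tree lc_d_rc_27_4 lc_d_rc_15_1 lc_d_rc_27_4) (@D3.rec (fun _ => (Cert rels S Gen.d)) lc_d_rc_15_1 lc_d_rc_23_4 lc_d_rc_15_1 lc_d_rc_15_1 lc_d_rc_16_4 lc_d_rc_16_0 lc_d_Cert_tree lc_d_rc_15_1 lc_d_rc_16_4 lc_d_rc_23_4 lc_d_rc_23_2 lc_d_rc_16_4 lc_d_rc_24_5 lc_d_rc_3_3 lc_d_Cert_tree lc_d_rc_15_1 lc_d_rc_27_2 lc_d_Cert_tree lc_d_Cert_tree lc_d_rc_15_1 lc_d_rc_8_3 lc_d_rc_15_1 lc_d_rc_8_3 lc_d_Cert_tree lc_d_rc_8_1 lc_d_rc_15_1 lc_d_rc_16_4 lc_d_rc_8_3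 lc_d_rc_15_1 lc_d_Cert_tree lc_d_Cert_tree lc_d_Cert_tree lc_d_rc_15_1 lc_d_rc_17_2 lc_d_Cert_tree lc_d_rc_12_5 lc_d_rc_15_1 lc_d_rc_15_1 lc_d_rc_25_18 lc_d_rc_16_0 lc_d_rc_15_1 lc_d_rc_15_1 lc_d_rc_15_1 lc_d_rc_15_1 lc_d_rc_17_2 lc_d_rc_17_2 lc_d_Cert_tree lc_d_Cert_tree lc_d_rc_15_1 lc_d_Cert_tree lc_d_Cert_tree lc_d_rc_15_1 lc_d_rc_27_4 lc_d_rc_15_1 lc_d_rc_16_4 lc_d_rc_15_1 lc_d_rc_24_0 lc_d_rc_3_1 lc_d_rc_12_13 lc_d_Cert_tree lc_d_Cert_tree lc_d_rc_15_1) (@D3.rec (fun _ => (Cert rels S Gen.d)) lc_d_rc_16_0 lc_d_rc_23_6 lc_d_rc_8_3 lc_d_rc_15_1 lc_d_rc_17_2 lc_d_rc_23_6 lc_d_rc_15_1 lc_d_rc_22_8 lc_d_rc_17_2 lc_d_rc_15_1 lc_d_Cert_tree lc_d_rc_15_1 lc_d_Cert_tree lc_d_Cert_tree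 lc_d_Cert_tree lc_d_rc_15_1 lc_d_rc_15_1 lc_d_rc_3_1 lc_d_Cert_tree lc_d_rc_17_2 lc_d_rc_25_6 lc_d_rc_15_1 lc_d_Cert_tree lc_d_Cert_tree lc_d_Cert_tree lc_d_rc_15_1 lc_d_Cert_tree lc_d_rc_27_8 lc_d_rc_15_1 lc_d_rc_22_2 lc_d_rc_17_0 lc_d_rc_24_5 lc_d_rc_12_15 lc_d_rc_27_4 lc_d_rc_24_5 lc_d_Cert_tree lc_d_rc_24_0 lc_d_rc_16_0 lc_d_rc_27_4 lc_d_rc_12_1 lc_d_rc_3_3 lc_d_rc_25_14 lc_d_rc_15_1 lc_d_rc_3_3 lc_d_rc_3_3 lc_d_Cert_tree lc_d_rc_27_10 lc_d_rc_27_2 lc_d_rc_15_1 lc_d_rc_17_2 lc_d_rc_3_3 lc_d_rc_15_1 lc_d_Cert_tree lc_d_rc_3_3 lc_d_rc_15_1 lc_d_rc_27_8 lc_d_rc_15_1 lc_d_rc_24_0 lc_d_rc_3_3 lc_d_rc_27_2 lc_d_rc_15_1 lc_d_rc_8_1) (@D3.rec (fun _ => (Cert rels S Gen.d)) lc_d_rc_15_1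 lc_d_Cert_tree lc_d_rc_27_8 lc_d_rc_15_1 lc_d_Cert_tree lc_d_rc_3_3 lc_d_rc_15_1 lc_d_Cert_tree lc_d_Cert_tree lc_d_rc_15_1 lc_d_rc_23_2 lc_d_Cert_tree lc_d_rc_15_1 lc_d_Cert_tree lc_d_rc_23_2 lc_d_rc_15_1 lc_d_rc_23_2 lc_d_rc_15_1 lc_d_rc_27_2 lc_d_rc_17_2 lc_d_rc_15_1 lc_d_rc_16_4 lc_d_Cert_tree lc_d_rc_15_1 lc_d_rc_17_2 lc_d_Cert_tree lc_d_Cert_tree lc_d_rc_16_0 lc_d_rc_27_10 lc_d_Cert_tree lc_d_Cert_tree lc_d_rc_15_1 lc_d_Cert_tree lc_d_rc_15_1 lc_d_rc_27_4 lc_d_Cert_tree lc_d_rc_8_3 lc_d_rc_15_1 lc_d_rc_27_4 lc_d_Cert_tree lc_d_rc_27_10 lc_d_rc_23_8 lc_d_rc_15_1 lc_d_rc_16_0 lc_d_Cert_tree lc_d_Cert_tree lc_d_rc_27_8 lc_d_Cert_tree lc_d_rc_15_1 lc_d_Cert_tree lc_d_Cert_tree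 lc_d_rc_15_1 lc_d_rc_17_2 lc_d_rc_23_8 lc_d_rc_23_8 lc_d_rc_15_1 lc_d_Cert_tree lc_d_rc_15_1 lc_d_rc_17_2 lc_d_Cert_tree lc_d_rc_15_1 lc_d_rc_17_2) (@D3.rec (fun _ => (Cert rels S Gen.d)) lc_d_rc_23_2 lc_d_Cert_tree lc_d_rc_15_1 lc_d_Cert_tree lc_d_Cert_tree lc_d_rc_27_2 lc_d_rc_27_2 lc_d_rc_15_1 lc_d_rc_17_2 lc_d_rc_25_14 lc_d_rc_15_1 lc_d_rc_27_4 lc_d_rc_3_1 lc_d_rc_23_8 lc_d_rc_22_4 lc_d_rc_15_1 lc_d_Cert_tree lc_d_Cert_tree lc_d_Cert_tree lc_d_rc_15_1 lc_d_rc_17_2 lc_d_rc_25_6 lc_d_rc_25_6 lc_d_rc_15_1 lc_d_rc_15_1 lc_d_Cert_tree lc_d_Cert_tree lc_d_rc_15_1 lc_d_rc_17_2 lc_d_Cert_tree lc_d_Cert_tree lc_d_Cert_tree lc_d_rc_15_1 lc_d_Cert_tree lc_d_Cert_tree lc_d_rc_15_1 lc_d_rc_25_6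 lc_d_rc_27_4 lc_d_Cert_tree lc_d_rc_15_1 lc_d_Cert_tree lc_d_rc_16_2 lc_d_rc_8_3 lc_d_Cert_tree lc_d_rc_8_3 lc_d_rc_16_4 lc_d_Cert_tree lc_d_Cert_tree lc_d_rc_15_1 lc_d_rc_17_2 lc_d_Cert_tree lc_d_rc_24_5 lc_d_rc_15_1 lc_d_Cert_tree lc_d_rc_24_0 lc_d_rc_15_1 lc_d_Cert_tree lc_d_rc_23_4 lc_d_rc_15_1 lc_d_Cert_tree lc_d_rc_17_2 lc_d_rc_16_4) (@D3.rec (fun _ => (Cert rels S Gen.d)) lc_d_rc_23_2 lc_d_rc_15_1 lc_d_Cert_tree lc_d_rc_15_1 lc_d_Cert_tree lc_d_rc_16_0 lc_d_rc_8_3 lc_d_rc_27_8 lc_d_rc_22_2 lc_d_rc_8_3 lc_d_rc_15_1 lc_d_rc_22_8 lc_d_rc_16_0 lc_d_rc_23_8 lc_d_rc_15_1 lc_d_Cert_tree lc_d_rc_15_1 lc_d_rc_16_0 lc_d_rc_15_1 lc_d_rc_23_4 lc_d_rc_24_0 lc_d_rc_3_1 lc_d_rc_15_1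 lc_d_Cert_tree lc_d_rc_27_2 lc_d_rc_15_1 lc_d_rc_15_1 lc_d_rc_25_6 lc_d_Cert_tree lc_d_rc_8_3 lc_d_rc_15_1 lc_d_rc_24_0 lc_d_rc_25_18 lc_d_rc_23_2 lc_d_rc_23_6 lc_d_rc_16_4 lc_d_rc_22_2 lc_d_rc_15_1 lc_d_rc_27_4 lc_d_rc_3_3 lc_d_rc_15_1 lc_d_rc_15_1 lc_d_rc_15_1 lc_d_rc_16_4 lc_d_Cert_tree lc_d_rc_8_3 lc_d_rc_17_0 lc_d_Cert_tree lc_d_Cert_tree lc_d_rc_15_1 lc_d_rc_17_2 lc_d_Cert_tree lc_d_rc_15_1 lc_d_Cert_tree lc_d_Cert_tree lc_d_Cert_tree lc_d_rc_23_8 lc_d_rc_23_8 lc_d_rc_15_1 lc_d_Cert_tree lc_d_rc_15_1 lc_d_rc_27_10) (@D3.rec (fun _ => (Cert rels S Gen.d)) lc_d_rc_16_2 lc_d_rc_15_1 lc_d_Cert_tree lc_d_Cert_tree lc_d_Cert_tree lc_d_rc_15_1 lc_d_rc_17_2 lc_d_rc_23_8 lc_d_rc_3_1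 lc_d_rc_12_3 lc_d_rc_24_0 lc_d_rc_8_3 lc_d_rc_25_2 lc_d_rc_15_1 lc_d_rc_23_4 lc_d_rc_8_3 lc_d_rc_8_3 lc_d_rc_16_0 lc_d_rc_23_6 lc_d_rc_27_2 lc_d_rc_15_1 lc_d_rc_8_3 lc_d_rc_24_0 lc_d_Cert_tree lc_d_rc_17_0 lc_d_Cert_tree lc_d_rc_23_2 lc_d_rc_8_3 lc_d_Cert_tree lc_d_rc_15_1 lc_d_rc_8_1 lc_d_Cert_tree lc_d_Cert_tree lc_d_rc_23_2 lc_d_rc_15_1 lc_d_rc_17_2 lc_d_Cert_tree lc_d_Cert_tree lc_d_rc_25_6 lc_d_Cert_tree lc_d_rc_15_1 lc_d_Cert_tree lc_d_rc_15_1 lc_d_Cert_tree lc_d_rc_22_2 lc_d_rc_8_1 lc_d_Cert_tree lc_d_rc_8_3 lc_d_rc_15_1 lc_d_rc_15_1 lc_d_rc_24_0 lc_d_rc_27_10 lc_d_Cert_tree lc_d_rc_15_1 lc_d_rc_15_1 lc_d_Cert_tree lc_d_rc_8_3 lc_d_rc_23_2 lc_d_Cert_tree lc_d_Cert_tree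 lc_d_rc_15_1 lc_d_rc_17_2) (@D3.rec (fun _ => (Cert rels S Gen.d)) lc_d_rc_22_4 lc_d_Cert_tree lc_d_rc_15_1 lc_d_rc_27_4 lc_d_Cert_tree lc_d_rc_15_1 lc_d_rc_15_1 lc_d_rc_24_5 lc_d_rc_15_1 lc_d_rc_15_1 lc_d_rc_22_4 lc_d_rc_17_2 lc_d_rc_15_1 lc_d_Cert_tree lc_d_rc_22_2 lc_d_rc_15_1 lc_d_rc_8_3 lc_d_Cert_tree lc_d_Cert_tree lc_d_rc_15_1 lc_d_Cert_tree lc_d_Cert_tree lc_d_rc_22_8 lc_d_rc_15_1 lc_d_rc_8_3 lc_d_Cert_tree lc_d_rc_23_6 lc_d_rc_23_2 lc_d_rc_16_4 lc_d_rc_15_1 lc_d_rc_16_0 lc_d_Cert_tree lc_d_rc_15_1 lc_d_rc_16_2 lc_d_rc_3_3 lc_d_rc_8_3 lc_d_rc_16_4 lc_d_rc_8_3 lc_d_rc_27_2 lc_d_rc_15_1 lc_d_rc_17_2 lc_d_Cert_tree lc_d_rc_23_4 lc_d_rc_3_3 lc_d_rc_8_3 lc_d_rc_23_4 lc_d_rc_15_1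 lc_d_rc_23_4 lc_d_Cert_tree lc_d_rc_15_1 lc_d_rc_23_4 lc_d_rc_24_5 lc_d_Cert_tree lc_d_rc_3_3 lc_d_rc_12_3 lc_d_rc_16_4 lc_d_rc_15_1 lc_d_rc_15_1 lc_d_Cert_tree lc_d_Cert_tree lc_d_Cert_tree lc_d_rc_15_1) (@D3.rec (fun _ => (Cert rels S Gen.d)) lc_d_rc_17_2 lc_d_rc_8_3 lc_d_rc_23_2 lc_d_rc_15_1 lc_d_rc_15_1 lc_d_rc_15_1 lc_d_Cert_tree lc_d_rc_17_2 lc_d_Cert_tree lc_d_rc_15_1 lc_d_Cert_tree lc_d_Cert_tree lc_d_rc_15_1 lc_d_rc_24_5 lc_d_rc_24_0 lc_d_rc_15_1 lc_d_Cert_tree lc_d_rc_15_1 lc_d_rc_27_2 lc_d_rc_8_3 lc_d_Cert_tree lc_d_rc_25_6 lc_d_rc_16_0 lc_d_rc_24_5 lc_d_rc_27_4 lc_d_rc_15_1 lc_d_rc_15_1 lc_d_rc_15_1 lc_d_Cert_tree lc_d_Cert_tree lc_d_rc_15_1 lc_d_Cert_tree lc_d_rc_15_1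 lc_d_rc_27_2 lc_d_rc_15_1 lc_d_Cert_tree lc_d_Cert_tree lc_d_rc_15_1 lc_d_rc_27_8 lc_d_rc_17_2 lc_d_rc_15_1 lc_d_rc_15_1 lc_d_rc_27_8 lc_d_Cert_tree lc_d_rc_17_2 lc_d_rc_15_1 lc_d_rc_22_2 lc_d_rc_3_1 lc_d_Cert_tree lc_d_rc_15_1 lc_d_rc_17_2 lc_d_rc_24_0 lc_d_rc_15_1 lc_d_rc_15_1 lc_d_rc_16_4 lc_d_rc_23_2 lc_d_rc_27_2 lc_d_rc_15_1 lc_d_Cert_tree lc_d_rc_15_1 lc_d_Cert_tree lc_d_rc_15_1) (@D3.rec (fun _ => (Cert rels S Gen.d)) lc_d_rc_22_8 lc_d_rc_24_0 lc_d_rc_15_1 lc_d_Cert_tree lc_d_rc_15_1 lc_d_Cert_tree lc_d_rc_15_1 lc_d_Cert_tree lc_d_rc_15_1 lc_d_rc_15_1 lc_d_rc_15_1 lc_d_rc_22_8 lc_d_Cert_tree lc_d_rc_25_14 lc_d_rc_15_1 lc_d_rc_15_1 lc_d_Cert_tree lc_d_Cert_tree lc_d_Cert_tree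 lc_d_rc_15_1 lc_d_rc_8_1 lc_d_Cert_tree lc_d_rc_15_1 lc_d_rc_27_8 lc_d_Cert_tree lc_d_rc_15_1 lc_d_Cert_tree lc_d_rc_15_1 lc_d_Cert_tree lc_d_rc_8_3 lc_d_Cert_tree lc_d_rc_27_4 lc_d_rc_15_1 lc_d_rc_15_1 lc_d_Cert_tree lc_d_Cert_tree lc_d_rc_25_6 lc_d_Cert_tree lc_d_Cert_tree lc_d_rc_15_1 lc_d_rc_23_4 lc_d_rc_15_1 lc_d_rc_27_8 lc_d_rc_17_2 lc_d_rc_15_1 lc_d_rc_24_0 lc_d_rc_15_1 lc_d_rc_27_4 lc_d_rc_16_4 lc_d_rc_15_1 lc_d_rc_15_1 lc_d_rc_16_2 lc_d_rc_24_5 lc_d_rc_16_4 lc_d_rc_23_6 lc_d_rc_17_2 lc_d_rc_25_18 lc_d_rc_3_3 lc_d_rc_15_1 lc_d_rc_15_1 lc_d_rc_17_2 lc_d_rc_27_8) (@D3.rec (fun _ => (Cert rels S Gen.d)) lc_d_Cert_tree lc_d_Cert_tree lc_d_rc_15_1 lc_d_rc_17_2 lc_d_rc_27_8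 lc_d_rc_15_1 lc_d_rc_27_4 lc_d_rc_8_3 lc_d_rc_8_3 lc_d_rc_15_1 lc_d_Cert_tree lc_d_Cert_tree lc_d_rc_15_1 lc_d_rc_24_0 lc_d_rc_15_1 lc_d_Cert_tree lc_d_Cert_tree lc_d_rc_17_0 lc_d_rc_15_1 lc_d_rc_22_8 lc_d_rc_15_1 lc_d_rc_25_6 lc_d_Cert_tree lc_d_Cert_tree lc_d_rc_3_1 lc_d_rc_15_1 lc_d_rc_27_4 lc_d_rc_16_2 lc_d_Cert_tree lc_d_rc_15_1 lc_d_rc_15_1 lc_d_rc_8_3 lc_d_rc_3_3 lc_d_rc_16_4 lc_d_rc_8_3 lc_d_rc_22_6 lc_d_Cert_tree lc_d_rc_15_1 lc_d_rc_17_2 lc_d_rc_8_3 lc_d_rc_24_0 lc_d_rc_23_2 lc_d_rc_15_1 lc_d_rc_17_2 lc_d_rc_3_3 lc_d_rc_15_1 lc_d_rc_27_2 lc_d_rc_16_4 lc_d_rc_8_3 lc_d_rc_15_1 lc_d_rc_27_8 lc_d_rc_24_5 lc_d_rc_16_4 lc_d_rc_23_8 lc_d_Cert_tree lc_d_rc_15_1 lc_d_rc_23_2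 lc_d_rc_16_2 lc_d_rc_23_2 lc_d_rc_27_8 lc_d_rc_15_1 lc_d_rc_17_2) (@D3.rec (fun _ => (Cert rels S Gen.d)) lc_d_rc_25_2 lc_d_rc_15_1 lc_d_Cert_tree lc_d_rc_8_3 lc_d_rc_15_1 lc_d_rc_8_3 lc_d_rc_22_2 lc_d_rc_15_1 lc_d_Cert_tree lc_d_Cert_tree lc_d_rc_17_2 lc_d_rc_15_1 lc_d_rc_24_0 lc_d_Cert_tree lc_d_rc_15_1 lc_d_rc_8_1 lc_d_rc_16_0 lc_d_rc_16_0 lc_d_rc_3_3 lc_d_rc_16_4 lc_d_Cert_tree lc_d_rc_25_18 lc_d_rc_23_4 lc_d_rc_24_0 lc_d_Cert_tree lc_d_rc_8_3 lc_d_rc_15_1 lc_d_rc_23_6 lc_d_rc_17_2 lc_d_rc_25_6 lc_d_rc_15_1 lc_d_rc_8_3 lc_d_rc_27_8 lc_d_rc_27_4 lc_d_rc_22_6 lc_d_rc_15_1 lc_d_rc_23_8 lc_d_rc_3_1 lc_d_rc_15_1 lc_d_rc_27_2 lc_d_rc_3_3 lc_d_rc_15_1 lc_d_rc_24_0 lc_d_rc_15_1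 lc_d_rc_17_2 lc_d_rc_3_1 lc_d_rc_24_5 lc_d_rc_15_1 lc_d_rc_8_3 lc_d_rc_22_4 lc_d_rc_8_3 lc_d_rc_17_2 lc_d_rc_22_8 lc_d_rc_24_0 lc_d_rc_22_4 lc_d_rc_15_1 lc_d_Cert_tree lc_d_rc_3_1 lc_d_rc_15_1 lc_d_rc_17_2 lc_d_rc_23_8 lc_d_Cert_tree) (@D3.rec (fun _ => (Cert rels S Gen.d)) lc_d_rc_15_1 lc_d_rc_16_4 lc_d_rc_24_5 lc_d_Cert_tree lc_d_Cert_tree lc_d_rc_8_3 lc_d_rc_15_1 lc_d_rc_23_2 lc_d_rc_16_4 lc_d_rc_17_2 lc_d_rc_16_2 lc_d_rc_15_1 lc_d_rc_15_1 lc_d_Cert_tree lc_d_rc_16_2 lc_d_rc_22_4 lc_d_rc_16_4 lc_d_Cert_tree lc_d_rc_15_1 lc_d_rc_24_0 lc_d_rc_24_5 lc_d_rc_15_1 lc_d_Cert_tree lc_d_rc_12_1 lc_d_rc_15_1 lc_d_rc_15_1 lc_d_rc_17_2 lc_d_rc_16_4 lc_d_rc_3_1 lc_d_rc_3_1 lc_d_rc_3_3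 lc_d_rc_15_1 lc_d_rc_23_8 lc_d_rc_8_3 lc_d_rc_27_4 lc_d_rc_8_3 lc_d_rc_16_4 lc_d_rc_16_4 lc_d_Cert_tree lc_d_Cert_tree lc_d_rc_8_3 lc_d_rc_16_4 lc_d_rc_27_4 lc_d_rc_17_2 lc_d_Cert_tree lc_d_rc_15_1 lc_d_rc_22_2 lc_d_rc_22_8 lc_d_rc_22_2 lc_d_rc_15_1 lc_d_rc_16_4 lc_d_rc_16_4 lc_d_rc_8_3 lc_d_rc_27_10 lc_d_rc_17_2 lc_d_rc_8_3 lc_d_rc_17_2 lc_d_rc_8_3 lc_d_rc_8_3 lc_d_rc_15_1 lc_d_rc_16_4 lc_d_rc_17_2) (@D3.rec (fun _ => (Cert rels S Gen.d)) lc_d_rc_16_2 lc_d_rc_27_2 lc_d_rc_23_8 lc_d_rc_23_8 lc_d_Cert_tree lc_d_rc_15_1 lc_d_rc_16_2 lc_d_Cert_tree lc_d_Cert_tree lc_d_rc_8_3 lc_d_rc_27_10 lc_d_rc_17_2 lc_d_rc_23_4 lc_d_rc_15_1 lc_d_rc_3_1 lc_d_rc_15_1 lc_d_rc_16_4 lc_d_rc_15_1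 lc_d_rc_16_2 lc_d_rc_27_10 lc_d_rc_22_6 lc_d_rc_15_1 lc_d_rc_17_2 lc_d_rc_3_3 lc_d_Cert_tree lc_d_rc_16_2 lc_d_rc_16_0 lc_d_rc_27_2 lc_d_rc_8_3 lc_d_rc_16_2 lc_d_Cert_tree lc_d_Cert_tree lc_d_rc_15_1 lc_d_rc_17_0 lc_d_rc_25_18 lc_d_rc_12_1 lc_d_rc_23_8 lc_d_rc_15_1 lc_d_rc_15_1 lc_d_rc_15_1 lc_d_rc_15_1 lc_d_rc_15_1 lc_d_rc_27_2 lc_d_rc_24_5 lc_d_rc_17_2 lc_d_rc_17_0 lc_d_Cert_tree lc_d_rc_15_1 lc_d_Cert_tree lc_d_rc_22_6 lc_d_rc_15_1 lc_d_rc_3_3 lc_d_rc_16_4 lc_d_rc_27_4 lc_d_Cert_tree lc_d_rc_15_1 lc_d_rc_15_1 lc_d_rc_17_2 lc_d_rc_23_2 lc_d_rc_23_2 lc_d_rc_17_2 lc_d_rc_15_1) (@D3.rec (fun _ => (Cert rels S Gen.d)) lc_d_rc_27_2 lc_d_rc_23_4 lc_d_rc_15_1 lc_d_rc_15_1 lc_d_rc_23_2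 lc_d_rc_15_1 lc_d_Cert_tree lc_d_rc_24_5 lc_d_rc_15_1 lc_d_Cert_tree lc_d_rc_15_1 lc_d_Cert_tree lc_d_rc_15_1 lc_d_Cert_tree lc_d_rc_15_1 lc_d_rc_23_6 lc_d_rc_15_1 lc_d_Cert_tree lc_d_rc_16_4 lc_d_rc_17_2 lc_d_rc_15_1 lc_d_rc_8_3 lc_d_rc_16_2 lc_d_Cert_tree lc_d_rc_15_1 lc_d_rc_27_10 lc_d_rc_22_4 lc_d_rc_15_1 lc_d_rc_15_1 lc_d_rc_27_2 lc_d_rc_15_1 lc_d_rc_16_2 lc_d_rc_23_8 lc_d_rc_23_8 lc_d_rc_22_2 lc_d_rc_15_1 lc_d_Cert_tree lc_d_rc_23_8 lc_d_rc_23_2 lc_d_rc_15_1 lc_d_rc_17_2 lc_d_rc_16_4 lc_d_Cert_tree lc_d_rc_23_2 lc_d_Cert_tree lc_d_rc_15_1 lc_d_Cert_tree lc_d_Cert_tree lc_d_Cert_tree lc_d_Cert_tree lc_d_rc_15_1 lc_d_rc_15_1 lc_d_rc_15_1 lc_d_rc_3_3 lc_d_Cert_tree lc_d_rc_25_6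 lc_d_rc_22_4 lc_d_rc_15_1 lc_d_Cert_tree lc_d_rc_17_2 lc_d_rc_16_2 lc_d_rc_22_4) (@D3.rec (fun _ => (Cert rels S Gen.d)) lc_d_rc_15_1 lc_d_rc_15_1 lc_d_rc_15_1 lc_d_rc_12_3 lc_d_rc_22_4 lc_d_rc_27_8 lc_d_rc_23_6 lc_d_rc_23_6 lc_d_rc_17_2 lc_d_rc_15_1 lc_d_rc_24_5 lc_d_rc_15_1 lc_d_Cert_tree lc_d_rc_24_5 lc_d_Cert_tree lc_d_Cert_tree lc_d_rc_8_1 lc_d_rc_15_1 lc_d_rc_17_2 lc_d_rc_15_1 lc_d_rc_27_8 lc_d_rc_23_6 lc_d_rc_15_1 lc_d_rc_22_8 lc_d_rc_17_2 lc_d_rc_15_1 lc_d_rc_27_4 lc_d_rc_15_1 lc_d_rc_27_4 lc_d_rc_27_10 lc_d_rc_15_1 lc_d_rc_15_1 lc_d_Cert_tree lc_d_rc_15_1 lc_d_rc_16_4 lc_d_rc_8_3 lc_d_rc_17_2 lc_d_rc_15_1 lc_d_rc_15_1 lc_d_rc_24_0 lc_d_rc_15_1 lc_d_rc_8_3 lc_d_rc_24_0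 lc_d_rc_27_2 lc_d_rc_24_5 lc_d_rc_22_2 lc_d_rc_16_2 lc_d_rc_24_5 lc_d_rc_23_2 lc_d_Cert_tree lc_d_rc_25_10 lc_d_rc_24_0 lc_d_rc_15_1 lc_d_rc_16_4 lc_d_rc_8_1 lc_d_rc_15_1 lc_d_rc_8_1 lc_d_rc_15_1 lc_d_rc_27_8 lc_d_rc_15_1 lc_d_rc_15_1 lc_d_rc_27_8) (@D3.rec (fun _ => (Cert rels S Gen.d)) lc_d_rc_17_2 lc_d_Cert_tree lc_d_rc_23_2 lc_d_rc_15_1 lc_d_rc_17_2 lc_d_Cert_tree lc_d_rc_15_1 lc_d_rc_27_4 lc_d_Cert_tree lc_d_rc_15_1 lc_d_rc_15_1 lc_d_rc_15_1 lc_d_rc_16_4 lc_d_rc_17_2 lc_d_Cert_tree lc_d_rc_3_1 lc_d_Cert_tree lc_d_Cert_tree lc_d_rc_15_1 lc_d_Cert_tree lc_d_rc_23_2 lc_d_Cert_tree lc_d_rc_15_1 lc_d_Cert_tree lc_d_rc_17_2 lc_d_Cert_tree lc_d_Cert_tree lc_d_Cert_tree lc_d_rc_15_1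 lc_d_rc_17_2 lc_d_Cert_tree lc_d_rc_24_5 lc_d_rc_24_0 lc_d_Cert_tree lc_d_rc_15_1 lc_d_Cert_tree lc_d_rc_15_1 lc_d_Cert_tree lc_d_rc_15_1 lc_d_Cert_tree lc_d_Cert_tree lc_d_rc_15_1 lc_d_rc_17_2 lc_d_rc_16_2 lc_d_rc_8_3 lc_d_Cert_tree lc_d_Cert_tree lc_d_rc_24_0 lc_d_Cert_tree lc_d_Cert_tree lc_d_Cert_tree lc_d_rc_17_2 lc_d_Cert_tree lc_d_Cert_tree lc_d_rc_15_1 lc_d_rc_27_4 lc_d_rc_8_1 lc_d_rc_15_1 lc_d_rc_27_8 lc_d_rc_23_4 lc_d_rc_23_4 lc_d_rc_16_2) (@D3.rec (fun _ => (Cert rels S Gen.d)) lc_d_rc_27_2 lc_d_rc_27_2 lc_d_rc_24_0 lc_d_rc_8_1 lc_d_Cert_tree lc_d_rc_15_1 lc_d_rc_27_2 lc_d_rc_8_3 lc_d_rc_23_8 lc_d_rc_15_1 lc_d_rc_15_1 lc_d_rc_17_2 lc_d_rc_16_4 lc_d_rc_15_1 lc_d_rc_8_3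 lc_d_rc_8_3 lc_d_rc_17_0 lc_d_rc_15_1 lc_d_rc_22_2 lc_d_Cert_tree lc_d_Cert_tree lc_d_rc_16_0 lc_d_rc_15_1 lc_d_rc_3_1 lc_d_Cert_tree lc_d_Cert_tree lc_d_rc_27_2 lc_d_Cert_tree lc_d_rc_16_4 lc_d_rc_27_10 lc_d_rc_15_1 lc_d_rc_23_4 lc_d_rc_16_2 lc_d_rc_15_1 lc_d_rc_15_1 lc_d_rc_22_2 lc_d_rc_23_8 lc_d_rc_22_2 lc_d_rc_15_1 lc_d_rc_3_3 lc_d_rc_16_2 lc_d_rc_15_1 lc_d_rc_23_2 lc_d_Cert_tree lc_d_Cert_tree lc_d_rc_25_18 lc_d_Cert_tree lc_d_rc_15_1 lc_d_rc_16_4 lc_d_rc_17_2 lc_d_Cert_tree lc_d_rc_15_1 lc_d_rc_15_1 lc_d_rc_15_1 lc_d_rc_15_1 lc_d_rc_27_10 lc_d_rc_17_2 lc_d_rc_27_8 lc_d_rc_15_1 lc_d_Cert_tree lc_d_rc_15_1 lc_d_rc_8_3) (@D3.rec (fun _ => (Cert rels S Gen.d)) lc_d_Cert_tree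 lc_d_rc_16_4 lc_d_Cert_tree lc_d_rc_15_1 lc_d_rc_27_4 lc_d_Cert_tree lc_d_rc_23_8 lc_d_Cert_tree lc_d_rc_16_4 lc_d_rc_15_1 lc_d_rc_16_4 lc_d_rc_15_1 lc_d_Cert_tree lc_d_rc_15_1 lc_d_rc_27_2 lc_d_rc_15_1 lc_d_rc_8_1 lc_d_rc_15_1 lc_d_rc_27_2 lc_d_rc_24_0 lc_d_rc_23_4 lc_d_rc_15_1 lc_d_rc_15_1 lc_d_Cert_tree lc_d_Cert_tree lc_d_rc_15_1 lc_d_rc_15_1 lc_d_Cert_tree lc_d_Cert_tree lc_d_rc_3_3 lc_d_rc_15_1 lc_d_rc_24_5 lc_d_rc_8_3 lc_d_rc_15_1 lc_d_Cert_tree lc_d_rc_15_1 lc_d_rc_17_2 lc_d_rc_15_1 lc_d_Cert_tree lc_d_Cert_tree lc_d_rc_15_1 lc_d_Cert_tree lc_d_rc_15_1 lc_d_Cert_tree lc_d_rc_15_1 lc_d_rc_27_10 lc_d_rc_15_1 lc_d_rc_17_2 lc_d_rc_8_3 lc_d_rc_15_1 lc_d_rc_3_1 lc_d_Cert_tree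 lc_d_rc_15_1 lc_d_rc_16_2 lc_d_rc_22_4 lc_d_rc_23_6 lc_d_rc_16_2 lc_d_rc_22_2 lc_d_rc_17_2 lc_d_rc_15_1 lc_d_Cert_tree lc_d_rc_15_1) (@D3.rec (fun _ => (Cert rels S Gen.d)) lc_d_rc_8_3 lc_d_rc_22_4 lc_d_rc_23_4 lc_d_rc_22_8 lc_d_rc_27_10 lc_d_rc_8_3 lc_d_rc_8_1 lc_d_rc_8_3 lc_d_Cert_tree lc_d_rc_24_0 lc_d_rc_17_2 lc_d_Cert_tree lc_d_rc_15_1 lc_d_rc_8_3 lc_d_rc_23_2 lc_d_rc_23_4 lc_d_rc_27_2 lc_d_rc_27_2 lc_d_rc_25_2 lc_d_rc_15_1 lc_d_Cert_tree lc_d_rc_15_1 lc_d_Cert_tree lc_d_Cert_tree lc_d_rc_23_2 lc_d_rc_23_8 lc_d_rc_15_1 lc_d_rc_16_4 lc_d_rc_16_4 lc_d_Cert_tree lc_d_Cert_tree lc_d_rc_22_4 lc_d_rc_15_1 lc_d_rc_8_3 lc_d_Cert_tree lc_d_Cert_tree lc_d_Cert_tree lc_d_rc_15_1 lc_d_Cert_tree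 lc_d_rc_16_2 lc_d_rc_15_1 lc_d_rc_16_4 lc_d_Cert_tree lc_d_Cert_tree lc_d_rc_15_1 lc_d_rc_15_1 lc_d_rc_22_4 lc_d_rc_17_2 lc_d_Cert_tree lc_d_rc_15_1 lc_d_rc_15_1 lc_d_Cert_tree lc_d_rc_15_1 lc_d_rc_8_3 lc_d_rc_3_3 lc_d_Cert_tree lc_d_rc_16_4 lc_d_rc_15_1 lc_d_rc_22_4 lc_d_rc_8_3 lc_d_rc_15_1 lc_d_Cert_tree) (@D3.rec (fun _ => (Cert rels S Gen.d)) lc_d_rc_15_1 lc_d_rc_17_2 lc_d_rc_25_2 lc_d_rc_3_1 lc_d_Cert_tree lc_d_rc_15_1 lc_d_rc_25_18 lc_d_rc_16_4 lc_d_rc_16_2 lc_d_rc_17_2 lc_d_Cert_tree lc_d_Cert_tree lc_d_Cert_tree lc_d_rc_15_1 lc_d_rc_23_2 lc_d_rc_3_1 lc_d_rc_15_1 lc_d_Cert_tree lc_d_Cert_tree lc_d_Cert_tree lc_d_rc_15_1 lc_d_rc_15_1 lc_d_rc_16_2 lc_d_rc_17_2 lc_d_Cert_tree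 lc_d_Cert_tree lc_d_rc_15_1 lc_d_Cert_tree lc_d_Cert_tree lc_d_rc_15_1 lc_d_rc_8_1 lc_d_rc_22_6 lc_d_rc_15_1 lc_d_rc_27_2 lc_d_Cert_tree lc_d_rc_12_1 lc_d_rc_15_1 lc_d_rc_24_0 lc_d_rc_15_1 lc_d_Cert_tree lc_d_rc_15_1 lc_d_rc_3_1 lc_d_rc_15_1 lc_d_rc_8_3 lc_d_Cert_tree lc_d_Cert_tree lc_d_rc_15_1 lc_d_rc_16_0 lc_d_rc_15_1 lc_d_Cert_tree lc_d_rc_8_3 lc_d_rc_16_2 lc_d_rc_8_3 lc_d_rc_27_8 lc_d_rc_15_1 lc_d_rc_15_1 lc_d_rc_16_0 lc_d_rc_15_1 lc_d_rc_23_4 lc_d_rc_23_4 lc_d_rc_23_4 lc_d_Cert_tree) (@D3.rec (fun _ => (Cert rels S Gen.d)) lc_d_Cert_tree lc_d_rc_25_6 lc_d_rc_17_2 lc_d_rc_15_1 lc_d_rc_16_4 lc_d_rc_22_4 lc_d_rc_15_1 lc_d_rc_25_2 lc_d_rc_24_0 lc_d_rc_17_2 lc_d_Cert_tree lc_d_rc_8_3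 lc_d_rc_15_1 lc_d_rc_27_8 lc_d_rc_3_1 lc_d_rc_15_1 lc_d_Cert_tree lc_d_rc_15_1 lc_d_Cert_tree lc_d_rc_15_1 lc_d_rc_24_0 lc_d_rc_8_1 lc_d_rc_8_3 lc_d_Cert_tree lc_d_rc_15_1 lc_d_rc_8_3 lc_d_rc_23_8 lc_d_rc_24_5 lc_d_rc_8_3 lc_d_rc_8_1 lc_d_rc_15_1 lc_d_rc_3_3 lc_d_rc_8_3 lc_d_Cert_tree lc_d_Cert_tree lc_d_rc_15_1 lc_d_rc_24_0 lc_d_rc_15_1 lc_d_Cert_tree lc_d_rc_3_3 lc_d_rc_17_0 lc_d_rc_22_6 lc_d_rc_3_3 lc_d_rc_3_3 lc_d_rc_24_5 lc_d_rc_15_1 lc_d_Cert_tree lc_d_rc_8_3 lc_d_rc_23_6 lc_d_rc_8_3 lc_d_rc_27_2 lc_d_rc_16_4 lc_d_Cert_tree lc_d_rc_15_1 lc_d_rc_8_3 lc_d_rc_15_1 lc_d_rc_8_3 lc_d_rc_15_1 lc_d_Cert_tree lc_d_rc_16_2 lc_d_rc_24_0 lc_d_Cert_tree)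
def ce_d_16 : D2 → D3 → (Cert rels S Gen.d) := @D2.rec (fun _ => D3 → (Cert rels S Gen.d)) (@D3.rec (fun _ => (Cert rels S Gen.d)) lc_d_rc_15_1 lc_d_rc_8_3 lc_d_rc_27_8 lc_d_rc_8_1 lc_d_rc_15_1 lc_d_rc_27_10 lc_d_rc_17_2 lc_d_rc_15_1 lc_d_rc_23_6 lc_d_rc_8_3 lc_d_rc_15_1 lc_d_rc_24_5 lc_d_Cert_tree lc_d_rc_15_1 lc_d_rc_3_3 lc_d_rc_27_8 lc_d_rc_15_1 lc_d_rc_24_5 lc_d_rc_27_8 lc_d_rc_15_1 lc_d_rc_25_6 lc_d_rc_3_3 lc_d_Cert_tree lc_d_Cert_tree lc_d_rc_15_1 lc_d_rc_23_8 lc_d_rc_24_0 lc_d_rc_15_1 lc_d_rc_17_2 lc_d_Cert_tree lc_d_rc_27_4 lc_d_rc_15_1 lc_d_rc_23_2 lc_d_rc_22_4 lc_d_rc_15_1 lc_d_rc_22_2 lc_d_rc_17_2 lc_d_rc_15_1 lc_d_rc_27_4 lc_d_Cert_tree lc_d_rc_15_1 lc_d_rc_16_4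 lc_d_rc_15_1 lc_d_Cert_tree lc_d_rc_15_1 lc_d_rc_27_8 lc_d_Cert_tree lc_d_Cert_tree lc_d_rc_15_1 lc_d_rc_27_4 lc_d_Cert_tree lc_d_Cert_tree lc_d_rc_15_1 lc_d_Cert_tree lc_d_rc_15_1 lc_d_rc_3_1 lc_d_Cert_tree lc_d_Cert_tree lc_d_rc_15_1 lc_d_rc_22_6 lc_d_rc_8_3 lc_d_rc_15_1) (@D3.rec (fun _ => (Cert rels S Gen.d)) lc_d_rc_22_8 lc_d_rc_24_5 lc_d_rc_23_4 lc_d_rc_15_1 lc_d_rc_15_1 lc_d_rc_8_3 lc_d_rc_27_4 lc_d_rc_23_6 lc_d_rc_8_3 lc_d_rc_8_3 lc_d_rc_16_4 lc_d_rc_22_8 lc_d_Cert_tree lc_d_Cert_tree lc_d_rc_15_1 lc_d_Cert_tree lc_d_Cert_tree lc_d_rc_15_1 lc_d_rc_27_2 lc_d_Cert_tree lc_d_rc_15_1 lc_d_Cert_tree lc_d_rc_25_6 lc_d_Cert_tree lc_d_rc_15_1 lc_d_rc_8_1 lc_d_rc_24_0 lc_d_rc_24_0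 lc_d_rc_8_3 lc_d_Cert_tree lc_d_Cert_tree lc_d_rc_15_1 lc_d_rc_17_2 lc_d_rc_27_10 lc_d_rc_15_1 lc_d_rc_17_2 lc_d_rc_23_8 lc_d_rc_24_0 lc_d_rc_22_2 lc_d_rc_17_2 lc_d_Cert_tree lc_d_rc_8_1 lc_d_rc_8_3 lc_d_Cert_tree lc_d_Cert_tree lc_d_rc_24_0 lc_d_rc_15_1 lc_d_rc_23_4 lc_d_rc_22_2 lc_d_rc_15_1 lc_d_rc_8_3 lc_d_rc_3_1 lc_d_Cert_tree lc_d_rc_22_4 lc_d_rc_8_1 lc_d_rc_8_3 lc_d_rc_15_1 lc_d_Cert_tree lc_d_rc_8_3 lc_d_rc_3_3 lc_d_rc_23_8 lc_d_rc_24_0) (@D3.rec (fun _ => (Cert rels S Gen.d)) lc_d_rc_15_1 lc_d_rc_24_0 lc_d_rc_17_2 lc_d_rc_27_8 lc_d_rc_27_2 lc_d_rc_24_0 lc_d_rc_15_1 lc_d_rc_22_8 lc_d_Cert_tree lc_d_rc_24_0 lc_d_rc_15_1 lc_d_Cert_tree lc_d_rc_8_1 lc_d_rc_22_8 lc_d_rc_15_1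 lc_d_Cert_tree lc_d_rc_15_1 lc_d_rc_23_2 lc_d_rc_15_1 lc_d_rc_8_3 lc_d_rc_27_4 lc_d_rc_8_3 lc_d_rc_27_2 lc_d_rc_23_4 lc_d_rc_15_1 lc_d_rc_23_2 lc_d_rc_15_1 lc_d_rc_15_1 lc_d_rc_24_5 lc_d_rc_15_1 lc_d_rc_15_1 lc_d_Cert_tree lc_d_rc_15_1 lc_d_rc_27_8 lc_d_rc_27_2 lc_d_rc_3_1 lc_d_rc_3_3 lc_d_rc_8_3 lc_d_rc_16_0 lc_d_Cert_tree lc_d_rc_15_1 lc_d_rc_16_0 lc_d_rc_16_2 lc_d_rc_8_1 lc_d_rc_15_1 lc_d_Cert_tree lc_d_Cert_tree lc_d_rc_8_3 lc_d_Cert_tree lc_d_rc_16_4 lc_d_rc_3_3 lc_d_rc_8_3 lc_d_rc_15_1 lc_d_rc_8_3 lc_d_rc_15_1 lc_d_rc_15_1 lc_d_rc_22_2 lc_d_rc_8_3 lc_d_rc_15_1 lc_d_rc_15_1 lc_d_rc_8_3 lc_d_rc_27_8) (@D3.rec (fun _ => (Cert rels S Gen.d)) lc_d_rc_27_4 lc_d_rc_25_2 lc_d_rc_3_3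 lc_d_rc_17_2 lc_d_rc_27_4 lc_d_rc_25_6 lc_d_Cert_tree lc_d_rc_15_1 lc_d_rc_24_5 lc_d_rc_22_6 lc_d_rc_3_3 lc_d_rc_15_1 lc_d_rc_15_1 lc_d_rc_16_4 lc_d_rc_15_1 lc_d_rc_27_4 lc_d_rc_8_3 lc_d_rc_16_2 lc_d_rc_27_10 lc_d_rc_24_0 lc_d_rc_15_1 lc_d_rc_22_2 lc_d_Cert_tree lc_d_rc_15_1 lc_d_rc_24_0 lc_d_rc_15_1 lc_d_rc_23_2 lc_d_rc_23_6 lc_d_rc_15_1 lc_d_rc_15_1 lc_d_Cert_tree lc_d_Cert_tree lc_d_rc_15_1 lc_d_rc_15_1 lc_d_rc_16_2 lc_d_rc_23_4 lc_d_rc_16_4 lc_d_rc_15_1 lc_d_Cert_tree lc_d_rc_15_1 lc_d_rc_15_1 lc_d_rc_3_1 lc_d_rc_23_4 lc_d_rc_22_2 lc_d_rc_8_1 lc_d_rc_15_1 lc_d_rc_3_3 lc_d_rc_8_1 lc_d_rc_15_1 lc_d_rc_22_8 lc_d_rc_23_2 lc_d_rc_15_1 lc_d_rc_15_1 lc_d_rc_23_8 lc_d_rc_25_6 lc_d_rc_15_1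 lc_d_rc_24_5 lc_d_rc_27_8 lc_d_rc_15_1 lc_d_rc_27_2 lc_d_rc_22_2 lc_d_rc_16_2) (@D3.rec (fun _ => (Cert rels S Gen.d)) lc_d_rc_15_1 lc_d_Cert_tree lc_d_rc_27_8 lc_d_rc_15_1 lc_d_rc_12_1 lc_d_rc_15_1 lc_d_rc_3_1 lc_d_rc_15_1 lc_d_rc_8_1 lc_d_Cert_tree lc_d_rc_8_3 lc_d_rc_25_2 lc_d_Cert_tree lc_d_rc_15_1 lc_d_rc_27_4 lc_d_Cert_tree lc_d_Cert_tree lc_d_rc_15_1 lc_d_rc_23_8 lc_d_rc_23_8 lc_d_rc_15_1 lc_d_rc_15_1 lc_d_rc_23_4 lc_d_rc_25_2 lc_d_rc_16_4 lc_d_rc_8_1 lc_d_rc_15_1 lc_d_rc_17_2 lc_d_Cert_tree lc_d_rc_15_1 lc_d_rc_25_2 lc_d_rc_23_4 lc_d_rc_15_1 lc_d_Cert_tree lc_d_rc_15_1 lc_d_Cert_tree lc_d_rc_23_2 lc_d_rc_17_0 lc_d_Cert_tree lc_d_rc_15_1 lc_d_rc_22_4 lc_d_rc_24_5 lc_d_rc_8_3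 lc_d_rc_15_1 lc_d_rc_16_2 lc_d_rc_22_4 lc_d_rc_27_8 lc_d_rc_8_3 lc_d_Cert_tree lc_d_rc_15_1 lc_d_rc_15_1 lc_d_rc_15_1 lc_d_rc_17_2 lc_d_rc_24_0 lc_d_rc_23_6 lc_d_rc_15_1 lc_d_rc_12_1 lc_d_rc_17_2 lc_d_rc_8_1 lc_d_Cert_tree lc_d_rc_15_1 lc_d_rc_23_2) (@D3.rec (fun _ => (Cert rels S Gen.d)) lc_d_rc_3_1 lc_d_rc_23_2 lc_d_rc_3_3 lc_d_rc_8_3 lc_d_rc_16_2 lc_d_Cert_tree lc_d_rc_16_2 lc_d_rc_15_1 lc_d_rc_3_1 lc_d_rc_22_2 lc_d_rc_15_1 lc_d_rc_16_0 lc_d_rc_22_2 lc_d_rc_3_3 lc_d_rc_3_1 lc_d_rc_16_4 lc_d_rc_15_1 lc_d_rc_25_14 lc_d_rc_23_8 lc_d_rc_22_2 lc_d_rc_3_3 lc_d_Cert_tree lc_d_Cert_tree lc_d_rc_15_1 lc_d_rc_8_3 lc_d_Cert_tree lc_d_Cert_tree lc_d_rc_15_1 lc_d_rc_22_2 lc_d_rc_27_10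 lc_d_rc_15_1 lc_d_rc_15_1 lc_d_Cert_tree lc_d_rc_15_1 lc_d_rc_27_2 lc_d_rc_23_6 lc_d_rc_15_1 lc_d_rc_17_2 lc_d_rc_15_1 lc_d_rc_23_2 lc_d_rc_17_0 lc_d_rc_15_1 lc_d_Cert_tree lc_d_rc_17_2 lc_d_Cert_tree lc_d_rc_8_1 lc_d_rc_3_3 lc_d_rc_15_1 lc_d_Cert_tree lc_d_Cert_tree lc_d_rc_23_2 lc_d_rc_24_0 lc_d_rc_15_1 lc_d_Cert_tree lc_d_rc_25_6 lc_d_rc_8_3 lc_d_rc_15_1 lc_d_rc_23_8 lc_d_rc_27_8 lc_d_rc_8_3 lc_d_rc_8_1 lc_d_rc_23_8) (@D3.rec (fun _ => (Cert rels S Gen.d)) lc_d_Cert_tree lc_d_rc_15_1 lc_d_rc_3_3 lc_d_Cert_tree lc_d_rc_23_2 lc_d_rc_15_1 lc_d_rc_15_1 lc_d_rc_27_2 lc_d_rc_25_6 lc_d_rc_25_6 lc_d_rc_27_2 lc_d_rc_15_1 lc_d_rc_23_8 lc_d_rc_3_3 lc_d_Cert_tree lc_d_rc_15_1 lc_d_rc_8_3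 lc_d_rc_23_2 lc_d_Cert_tree lc_d_rc_15_1 lc_d_rc_23_4 lc_d_rc_8_3 lc_d_rc_27_2 lc_d_Cert_tree lc_d_Cert_tree lc_d_rc_15_1 lc_d_rc_17_2 lc_d_rc_8_3 lc_d_rc_27_8 lc_d_rc_15_1 lc_d_rc_23_6 lc_d_rc_24_5 lc_d_Cert_tree lc_d_rc_27_10 lc_d_rc_8_1 lc_d_Cert_tree lc_d_rc_15_1 lc_d_rc_8_1 lc_d_rc_15_1 lc_d_rc_8_3 lc_d_rc_8_3 lc_d_rc_15_1 lc_d_Cert_tree lc_d_rc_15_1 lc_d_rc_8_3 lc_d_rc_15_1 lc_d_rc_15_1 lc_d_rc_8_3 lc_d_rc_22_4 lc_d_rc_15_1 lc_d_Cert_tree lc_d_rc_15_1 lc_d_rc_8_3 lc_d_rc_8_3 lc_d_Cert_tree lc_d_rc_15_1 lc_d_Cert_tree lc_d_rc_15_1 lc_d_Cert_tree lc_d_rc_15_1 lc_d_Cert_tree lc_d_rc_22_2) (@D3.rec (fun _ => (Cert rels S Gen.d)) lc_d_rc_16_4 lc_d_rc_24_0 lc_d_rc_24_0 lc_d_rc_15_1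 lc_d_rc_15_1 lc_d_rc_23_6 lc_d_rc_15_1 lc_d_Cert_tree lc_d_rc_15_1 lc_d_rc_27_2 lc_d_rc_27_2 lc_d_Cert_tree lc_d_rc_15_1 lc_d_rc_16_4 lc_d_rc_16_2 lc_d_rc_15_1 lc_d_rc_24_5 lc_d_rc_27_4 lc_d_rc_3_1 lc_d_rc_15_1 lc_d_rc_8_3 lc_d_Cert_tree lc_d_rc_16_4 lc_d_rc_8_3 lc_d_rc_15_1 lc_d_rc_17_2 lc_d_rc_25_18 lc_d_rc_22_6 lc_d_rc_15_1 lc_d_rc_8_3 lc_d_rc_16_2 lc_d_rc_15_1 lc_d_rc_24_0 lc_d_rc_15_1 lc_d_rc_3_1 lc_d_rc_15_1 lc_d_Cert_tree lc_d_rc_15_1 lc_d_rc_25_2 lc_d_rc_3_1 lc_d_rc_8_3 lc_d_rc_3_3 lc_d_rc_15_1 lc_d_rc_15_1 lc_d_rc_8_3 lc_d_rc_15_1 lc_d_rc_16_4 lc_d_rc_3_1 lc_d_rc_8_3 lc_d_rc_24_5 lc_d_rc_27_8 lc_d_rc_23_6 lc_d_rc_15_1 lc_d_Cert_tree lc_d_rc_23_8 lc_d_rc_16_4 lc_d_Cert_tree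 lc_d_rc_15_1 lc_d_Cert_tree lc_d_rc_15_1 lc_d_rc_8_3 lc_d_rc_27_10) (@D3.rec (fun _ => (Cert rels S Gen.d)) lc_d_rc_15_1 lc_d_rc_22_8 lc_d_Cert_tree lc_d_Cert_tree lc_d_rc_15_1 lc_d_Cert_tree lc_d_rc_16_4 lc_d_rc_15_1 lc_d_rc_15_1 lc_d_rc_27_8 lc_d_rc_8_3 lc_d_Cert_tree lc_d_Cert_tree lc_d_rc_8_3 lc_d_Cert_tree lc_d_rc_27_2 lc_d_rc_3_1 lc_d_Cert_tree lc_d_Cert_tree lc_d_rc_15_1 lc_d_rc_17_2 lc_d_rc_15_1 lc_d_rc_15_1 lc_d_Cert_tree lc_d_rc_17_2 lc_d_rc_27_4 lc_d_rc_15_1 lc_d_rc_12_15 lc_d_rc_15_1 lc_d_rc_17_2 lc_d_rc_8_3 lc_d_rc_3_1 lc_d_rc_17_2 lc_d_rc_22_2 lc_d_rc_16_4 lc_d_rc_8_3 lc_d_Cert_tree lc_d_rc_15_1 lc_d_rc_17_2 lc_d_rc_15_1 lc_d_rc_3_3 lc_d_Cert_tree lc_d_rc_15_1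 lc_d_rc_16_2 lc_d_rc_15_1 lc_d_Cert_tree lc_d_rc_15_1 lc_d_rc_16_2 lc_d_rc_25_6 lc_d_rc_3_1 lc_d_Cert_tree lc_d_rc_15_1 lc_d_rc_24_0 lc_d_rc_27_4 lc_d_rc_15_1 lc_d_rc_15_1 lc_d_Cert_tree lc_d_rc_8_3 lc_d_rc_15_1 lc_d_rc_8_1 lc_d_rc_15_1 lc_d_Cert_tree) (@D3.rec (fun _ => (Cert rels S Gen.d)) lc_d_rc_27_8 lc_d_Cert_tree lc_d_rc_16_4 lc_d_rc_15_1 lc_d_rc_17_2 lc_d_rc_16_4 lc_d_rc_15_1 lc_d_rc_23_2 lc_d_rc_23_8 lc_d_rc_15_1 lc_d_rc_22_6 lc_d_rc_25_2 lc_d_rc_3_3 lc_d_rc_23_6 lc_d_rc_15_1 lc_d_rc_15_1 lc_d_rc_27_4 lc_d_rc_27_8 lc_d_Cert_tree lc_d_rc_16_0 lc_d_rc_15_1 lc_d_rc_17_2 lc_d_rc_22_4 lc_d_rc_15_1 lc_d_rc_15_1 lc_d_rc_8_1 lc_d_Cert_tree lc_d_rc_16_0 lc_d_rc_15_1 lc_d_rc_15_1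 lc_d_Cert_tree lc_d_rc_15_1 lc_d_Cert_tree lc_d_rc_15_1 lc_d_Cert_tree lc_d_Cert_tree lc_d_rc_15_1 lc_d_rc_27_4 lc_d_rc_16_4 lc_d_Cert_tree lc_d_rc_27_4 lc_d_Cert_tree lc_d_rc_15_1 lc_d_Cert_tree lc_d_rc_15_1 lc_d_rc_27_10 lc_d_rc_3_1 lc_d_rc_15_1 lc_d_rc_17_2 lc_d_rc_16_4 lc_d_rc_17_2 lc_d_rc_16_2 lc_d_Cert_tree lc_d_Cert_tree lc_d_rc_15_1 lc_d_Cert_tree lc_d_rc_15_1 lc_d_Cert_tree lc_d_rc_15_1 lc_d_rc_27_10 lc_d_rc_3_3 lc_d_Cert_tree) (@D3.rec (fun _ => (Cert rels S Gen.d)) lc_d_rc_15_1 lc_d_rc_22_2 lc_d_rc_3_3 lc_d_Cert_tree lc_d_Cert_tree lc_d_Cert_tree lc_d_rc_15_1 lc_d_Cert_tree lc_d_rc_17_2 lc_d_Cert_tree lc_d_rc_15_1 lc_d_rc_15_1 lc_d_rc_8_3 lc_d_rc_27_2 lc_d_rc_17_0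 lc_d_rc_3_3 lc_d_Cert_tree lc_d_Cert_tree lc_d_rc_3_1 lc_d_Cert_tree lc_d_rc_27_4 lc_d_rc_8_3 lc_d_rc_23_2 lc_d_rc_15_1 lc_d_rc_16_4 lc_d_rc_12_3 lc_d_rc_16_4 lc_d_rc_15_1 lc_d_rc_17_2 lc_d_rc_16_2 lc_d_rc_15_1 lc_d_rc_16_4 lc_d_rc_17_2 lc_d_rc_23_2 lc_d_rc_16_4 lc_d_rc_24_0 lc_d_rc_16_4 lc_d_rc_23_2 lc_d_rc_16_4 lc_d_rc_15_1 lc_d_rc_16_4 lc_d_rc_24_0 lc_d_rc_22_4 lc_d_rc_8_3 lc_d_rc_15_1 lc_d_rc_17_2 lc_d_rc_15_1 lc_d_rc_15_1 lc_d_rc_16_4 lc_d_rc_15_1 lc_d_rc_15_1 lc_d_rc_17_2 lc_d_rc_25_2 lc_d_rc_3_3 lc_d_rc_3_3 lc_d_rc_3_3 lc_d_rc_27_10 lc_d_rc_27_2 lc_d_rc_15_1 lc_d_rc_8_1 lc_d_rc_24_5 lc_d_rc_27_4) (@D3.rec (fun _ => (Cert rels S Gen.d)) lc_d_rc_16_0 lc_d_rc_16_2 lc_d_rc_16_4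 lc_d_rc_24_5 lc_d_rc_15_1 lc_d_Cert_tree lc_d_rc_3_1 lc_d_rc_16_4 lc_d_rc_17_2 lc_d_rc_17_2 lc_d_rc_24_0 lc_d_Cert_tree lc_d_rc_15_1 lc_d_rc_16_4 lc_d_rc_27_10 lc_d_rc_27_10 lc_d_rc_15_1 lc_d_rc_16_4 lc_d_Cert_tree lc_d_rc_15_1 lc_d_rc_15_1 lc_d_rc_27_10 lc_d_rc_8_1 lc_d_Cert_tree lc_d_rc_15_1 lc_d_rc_17_2 lc_d_rc_3_3 lc_d_Cert_tree lc_d_rc_24_5 lc_d_rc_15_1 lc_d_Cert_tree lc_d_rc_17_2 lc_d_Cert_tree lc_d_rc_3_3 lc_d_rc_15_1 lc_d_rc_8_3 lc_d_rc_15_1 lc_d_rc_25_2 lc_d_rc_15_1 lc_d_rc_8_1 lc_d_rc_16_4 lc_d_Cert_tree lc_d_rc_15_1 lc_d_rc_23_4 lc_d_rc_17_2 lc_d_rc_15_1 lc_d_rc_15_1 lc_d_rc_16_2 lc_d_Cert_tree lc_d_rc_22_2 lc_d_rc_17_2 lc_d_rc_16_2 lc_d_rc_24_0 lc_d_rc_15_1 lc_d_rc_22_2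 lc_d_Cert_tree lc_d_rc_16_2 lc_d_rc_15_1 lc_d_rc_15_1 lc_d_rc_23_8 lc_d_rc_16_4 lc_d_Cert_tree) (@D3.rec (fun _ => (Cert rels S Gen.d)) lc_d_Cert_tree lc_d_rc_16_4 lc_d_Cert_tree lc_d_rc_3_3 lc_d_rc_15_1 lc_d_rc_15_1 lc_d_rc_27_4 lc_d_rc_17_2 lc_d_rc_16_4 lc_d_Cert_tree lc_d_rc_15_1 lc_d_rc_17_2 lc_d_Cert_tree lc_d_rc_15_1 lc_d_rc_17_2 lc_d_rc_15_1 lc_d_rc_27_4 lc_d_rc_3_3 lc_d_rc_17_2 lc_d_rc_27_10 lc_d_rc_8_3 lc_d_rc_8_1 lc_d_rc_27_2 lc_d_rc_16_4 lc_d_Cert_tree lc_d_Cert_tree lc_d_Cert_tree lc_d_rc_3_3 lc_d_rc_15_1 lc_d_rc_27_4 lc_d_rc_27_4 lc_d_rc_3_3 lc_d_Cert_tree lc_d_Cert_tree lc_d_Cert_tree lc_d_rc_15_1 lc_d_Cert_tree lc_d_rc_17_2 lc_d_rc_24_0 lc_d_rc_17_2 lc_d_rc_15_1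 lc_d_rc_15_1 lc_d_rc_24_0 lc_d_rc_23_8 lc_d_rc_15_1 lc_d_rc_17_2 lc_d_rc_15_1 lc_d_Cert_tree lc_d_rc_17_2 lc_d_rc_15_1 lc_d_rc_15_1 lc_d_rc_15_1 lc_d_rc_3_3 lc_d_rc_8_3 lc_d_rc_3_1 lc_d_rc_15_1 lc_d_rc_16_4 lc_d_rc_17_2 lc_d_Cert_tree lc_d_rc_16_0 lc_d_rc_15_1 lc_d_rc_22_2) (@D3.rec (fun _ => (Cert rels S Gen.d)) lc_d_rc_15_1 lc_d_rc_16_4 lc_d_rc_15_1 lc_d_rc_27_8 lc_d_rc_3_3 lc_d_Cert_tree lc_d_Cert_tree lc_d_rc_24_5 lc_d_rc_15_1 lc_d_Cert_tree lc_d_rc_17_2 lc_d_rc_22_8 lc_d_rc_15_1 lc_d_rc_15_1 lc_d_rc_25_14 lc_d_rc_27_10 lc_d_Cert_tree lc_d_rc_16_4 lc_d_rc_16_2 lc_d_rc_8_3 lc_d_Cert_tree lc_d_rc_17_2 lc_d_rc_15_1 lc_d_rc_15_1 lc_d_rc_15_1 lc_d_rc_27_4 lc_d_Cert_tree lc_d_rc_23_6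 lc_d_rc_8_1 lc_d_rc_16_4 lc_d_rc_17_2 lc_d_Cert_tree lc_d_rc_16_2 lc_d_rc_23_2 lc_d_rc_23_8 lc_d_rc_15_1 lc_d_rc_8_3 lc_d_Cert_tree lc_d_rc_17_2 lc_d_Cert_tree lc_d_rc_15_1 lc_d_rc_16_2 lc_d_rc_15_1 lc_d_rc_17_2 lc_d_rc_27_4 lc_d_Cert_tree lc_d_rc_15_1 lc_d_rc_15_1 lc_d_rc_3_3 lc_d_rc_15_1 lc_d_rc_27_8 lc_d_rc_27_10 lc_d_rc_15_1 lc_d_rc_15_1 lc_d_rc_23_4 lc_d_Cert_tree lc_d_rc_15_1 lc_d_rc_3_1 lc_d_rc_23_8 lc_d_Cert_tree lc_d_Cert_tree lc_d_rc_15_1) (@D3.rec (fun _ => (Cert rels S Gen.d)) lc_d_Cert_tree lc_d_rc_8_3 lc_d_Cert_tree lc_d_Cert_tree lc_d_rc_15_1 lc_d_Cert_tree lc_d_rc_15_1 lc_d_rc_15_1 lc_d_rc_15_1 lc_d_Cert_tree lc_d_rc_16_2 lc_d_rc_8_3 lc_d_rc_24_0 lc_d_Cert_tree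 lc_d_rc_22_2 lc_d_rc_15_1 lc_d_rc_15_1 lc_d_rc_27_4 lc_d_rc_8_3 lc_d_rc_24_0 lc_d_Cert_tree lc_d_rc_15_1 lc_d_Cert_tree lc_d_rc_22_4 lc_d_rc_15_1 lc_d_rc_15_1 lc_d_rc_8_1 lc_d_rc_3_3 lc_d_Cert_tree lc_d_rc_15_1 lc_d_rc_8_3 lc_d_rc_16_2 lc_d_rc_27_4 lc_d_Cert_tree lc_d_Cert_tree lc_d_rc_15_1 lc_d_Cert_tree lc_d_rc_24_5 lc_d_rc_15_1 lc_d_Cert_tree lc_d_rc_15_1 lc_d_rc_15_1 lc_d_rc_24_0 lc_d_Cert_tree lc_d_rc_16_4 lc_d_rc_17_2 lc_d_Cert_tree lc_d_Cert_tree lc_d_Cert_tree lc_d_rc_23_4 lc_d_rc_17_2 lc_d_rc_15_1 lc_d_rc_8_3 lc_d_rc_3_1 lc_d_rc_15_1 lc_d_rc_23_8 lc_d_rc_24_5 lc_d_rc_15_1 lc_d_rc_15_1 lc_d_rc_25_18 lc_d_rc_24_0 lc_d_rc_15_1) (@D3.rec (fun _ => (Cert rels S Gen.d)) lc_d_Cert_tree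 lc_d_rc_15_1 lc_d_rc_15_1 lc_d_Cert_tree lc_d_rc_8_3 lc_d_rc_23_4 lc_d_rc_15_1 lc_d_Cert_tree lc_d_rc_15_1 lc_d_rc_24_0 lc_d_rc_15_1 lc_d_rc_8_3 lc_d_rc_16_0 lc_d_rc_3_1 lc_d_rc_15_1 lc_d_rc_17_2 lc_d_rc_24_0 lc_d_rc_23_4 lc_d_rc_17_2 lc_d_rc_16_2 lc_d_rc_17_2 lc_d_rc_16_4 lc_d_rc_24_0 lc_d_rc_16_4 lc_d_Cert_tree lc_d_rc_17_0 lc_d_Cert_tree lc_d_rc_15_1 lc_d_rc_27_4 lc_d_rc_12_15 lc_d_rc_15_1 lc_d_Cert_tree lc_d_rc_24_5 lc_d_rc_15_1 lc_d_Cert_tree lc_d_Cert_tree lc_d_rc_25_6 lc_d_rc_15_1 lc_d_rc_16_4 lc_d_rc_15_1 lc_d_Cert_tree lc_d_rc_8_3 lc_d_rc_15_1 lc_d_Cert_tree lc_d_Cert_tree lc_d_rc_8_3 lc_d_Cert_tree lc_d_rc_15_1 lc_d_rc_17_2 lc_d_rc_23_2 lc_d_Cert_tree lc_d_rc_15_1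 lc_d_rc_17_2 lc_d_Cert_tree lc_d_rc_15_1 lc_d_rc_27_4 lc_d_rc_15_1 lc_d_rc_23_4 lc_d_Cert_tree lc_d_rc_17_2 lc_d_rc_22_2 lc_d_rc_15_1) (@D3.rec (fun _ => (Cert rels S Gen.d)) lc_d_rc_23_2 lc_d_rc_22_2 lc_d_Cert_tree lc_d_rc_15_1 lc_d_rc_15_1 lc_d_Cert_tree lc_d_rc_12_15 lc_d_rc_17_2 lc_d_Cert_tree lc_d_rc_15_1 lc_d_Cert_tree lc_d_rc_15_1 lc_d_Cert_tree lc_d_rc_25_6 lc_d_rc_22_6 lc_d_rc_15_1 lc_d_rc_17_2 lc_d_Cert_tree lc_d_Cert_tree lc_d_rc_15_1 lc_d_rc_23_8 lc_d_rc_15_1 lc_d_Cert_tree lc_d_rc_15_1 lc_d_rc_23_2 lc_d_rc_15_1 lc_d_Cert_tree lc_d_rc_17_2 lc_d_Cert_tree lc_d_rc_15_1 lc_d_Cert_tree lc_d_rc_15_1 lc_d_Cert_tree lc_d_rc_15_1 lc_d_rc_27_2 lc_d_Cert_tree lc_d_Cert_tree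 lc_d_rc_22_6 lc_d_rc_15_1 lc_d_rc_8_3 lc_d_rc_15_1 lc_d_rc_24_5 lc_d_rc_15_1 lc_d_rc_15_1 lc_d_rc_23_8 lc_d_rc_27_2 lc_d_rc_15_1 lc_d_rc_8_3 lc_d_rc_3_1 lc_d_Cert_tree lc_d_rc_24_5 lc_d_rc_15_1 lc_d_rc_15_1 lc_d_rc_16_0 lc_d_rc_23_8 lc_d_rc_15_1 lc_d_rc_17_2 lc_d_Cert_tree lc_d_rc_15_1 lc_d_rc_27_4 lc_d_rc_15_1 lc_d_rc_17_2) (@D3.rec (fun _ => (Cert rels S Gen.d)) lc_d_rc_27_2 lc_d_rc_15_1 lc_d_rc_15_1 lc_d_rc_23_6 lc_d_rc_15_1 lc_d_rc_8_1 lc_d_rc_12_3 lc_d_rc_15_1 lc_d_rc_22_8 lc_d_Cert_tree lc_d_Cert_tree lc_d_rc_15_1 lc_d_rc_15_1 lc_d_rc_22_8 lc_d_rc_3_3 lc_d_rc_8_3 lc_d_rc_22_4 lc_d_rc_23_4 lc_d_rc_15_1 lc_d_Cert_tree lc_d_rc_16_4 lc_d_rc_15_1 lc_d_rc_27_10 lc_d_rc_15_1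 lc_d_rc_15_1 lc_d_rc_24_0 lc_d_Cert_tree lc_d_rc_8_3 lc_d_rc_15_1 lc_d_rc_15_1 lc_d_rc_15_1 lc_d_rc_22_4 lc_d_rc_22_2 lc_d_rc_15_1 lc_d_rc_27_2 lc_d_rc_24_5 lc_d_Cert_tree lc_d_rc_15_1 lc_d_Cert_tree lc_d_rc_3_3 lc_d_rc_17_0 lc_d_Cert_tree lc_d_rc_22_2 lc_d_rc_8_3 lc_d_rc_15_1 lc_d_rc_23_4 lc_d_rc_15_1 lc_d_rc_23_4 lc_d_rc_17_2 lc_d_Cert_tree lc_d_rc_15_1 lc_d_rc_8_3 lc_d_rc_15_1 lc_d_rc_22_4 lc_d_rc_15_1 lc_d_rc_23_8 lc_d_Cert_tree lc_d_rc_15_1 lc_d_rc_8_1 lc_d_rc_3_3 lc_d_rc_23_6 lc_d_rc_27_2) (@D3.rec (fun _ => (Cert rels S Gen.d)) lc_d_rc_17_2 lc_d_Cert_tree lc_d_rc_22_2 lc_d_Cert_tree lc_d_rc_15_1 lc_d_rc_27_4 lc_d_rc_15_1 lc_d_rc_3_3 lc_d_Cert_tree lc_d_rc_8_3 lc_d_rc_15_1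 lc_d_rc_17_2 lc_d_Cert_tree lc_d_rc_16_4 lc_d_rc_24_5 lc_d_rc_15_1 lc_d_rc_8_3 lc_d_rc_24_0 lc_d_rc_15_1 lc_d_Cert_tree lc_d_rc_22_4 lc_d_Cert_tree lc_d_rc_17_2 lc_d_rc_25_14 lc_d_rc_24_0 lc_d_rc_15_1 lc_d_rc_3_3 lc_d_rc_8_3 lc_d_rc_8_3 lc_d_rc_3_3 lc_d_rc_3_3 lc_d_Cert_tree lc_d_rc_27_2 lc_d_rc_15_1 lc_d_Cert_tree lc_d_rc_15_1 lc_d_rc_17_2 lc_d_Cert_tree lc_d_rc_15_1 lc_d_rc_27_2 lc_d_rc_17_2 lc_d_rc_15_1 lc_d_rc_24_5 lc_d_rc_15_1 lc_d_rc_15_1 lc_d_Cert_tree lc_d_rc_16_0 lc_d_rc_15_1 lc_d_rc_17_0 lc_d_rc_15_1 lc_d_rc_15_1 lc_d_Cert_tree lc_d_rc_8_3 lc_d_rc_22_4 lc_d_rc_27_4 lc_d_rc_15_1 lc_d_rc_15_1 lc_d_rc_27_2 lc_d_rc_8_3 lc_d_rc_23_8 lc_d_rc_24_0 lc_d_rc_8_1) (@D3.rec (fun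 _ => (Cert rels S Gen.d)) lc_d_Cert_tree lc_d_rc_15_1 lc_d_rc_16_2 lc_d_rc_8_1 lc_d_rc_22_6 lc_d_rc_15_1 lc_d_Cert_tree lc_d_Cert_tree lc_d_rc_8_1 lc_d_rc_15_1 lc_d_rc_17_2 lc_d_Cert_tree lc_d_rc_25_2 lc_d_rc_8_3 lc_d_rc_15_1 lc_d_rc_8_3 lc_d_rc_23_4 lc_d_rc_8_3 lc_d_rc_16_2 lc_d_rc_27_4 lc_d_Cert_tree lc_d_Cert_tree lc_d_rc_17_2 lc_d_Cert_tree lc_d_rc_8_3 lc_d_rc_17_2 lc_d_rc_22_4 lc_d_Cert_tree lc_d_rc_15_1 lc_d_Cert_tree lc_d_Cert_tree lc_d_Cert_tree lc_d_rc_16_4 lc_d_Cert_tree lc_d_Cert_tree lc_d_rc_15_1 lc_d_rc_16_4 lc_d_Cert_tree lc_d_rc_15_1 lc_d_rc_17_2 lc_d_Cert_tree lc_d_rc_27_4 lc_d_Cert_tree lc_d_rc_15_1 lc_d_rc_15_1 lc_d_Cert_tree lc_d_rc_22_8 lc_d_rc_15_1 lc_d_Cert_tree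 lc_d_rc_16_0 lc_d_rc_15_1 lc_d_Cert_tree lc_d_rc_17_2 lc_d_rc_8_3 lc_d_rc_3_3 lc_d_rc_22_6 lc_d_rc_24_5 lc_d_rc_15_1 lc_d_Cert_tree lc_d_rc_15_1 lc_d_rc_15_1 lc_d_rc_16_4) (@D3.rec (fun _ => (Cert rels S Gen.d)) lc_d_rc_24_0 lc_d_rc_15_1 lc_d_rc_15_1 lc_d_Cert_tree lc_d_rc_27_4 lc_d_rc_23_4 lc_d_rc_8_3 lc_d_rc_15_1 lc_d_rc_16_4 lc_d_rc_15_1 lc_d_rc_23_4 lc_d_Cert_tree lc_d_rc_17_2 lc_d_rc_24_5 lc_d_rc_15_1 lc_d_rc_3_1 lc_d_rc_22_4 lc_d_rc_8_1 lc_d_rc_16_0 lc_d_rc_16_4 lc_d_rc_8_1 lc_d_rc_24_5 lc_d_Cert_tree lc_d_rc_3_3 lc_d_rc_27_4 lc_d_rc_17_2 lc_d_rc_17_2 lc_d_rc_16_4 lc_d_rc_15_1 lc_d_rc_27_4 lc_d_Cert_tree lc_d_rc_22_4 lc_d_rc_15_1 lc_d_Cert_tree lc_d_rc_15_1 lc_d_rc_15_1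 lc_d_rc_15_1 lc_d_rc_16_4 lc_d_rc_24_5 lc_d_rc_16_2 lc_d_rc_23_8 lc_d_rc_15_1 lc_d_Cert_tree lc_d_rc_16_4 lc_d_rc_8_3 lc_d_rc_15_1 lc_d_rc_17_2 lc_d_rc_15_1 lc_d_rc_17_2 lc_d_rc_24_5 lc_d_rc_16_0 lc_d_rc_15_1 lc_d_rc_27_4 lc_d_rc_16_4 lc_d_rc_23_4 lc_d_rc_15_1 lc_d_Cert_tree lc_d_rc_15_1 lc_d_rc_22_6 lc_d_rc_16_4 lc_d_rc_23_4 lc_d_rc_16_4) (@D3.rec (fun _ => (Cert rels S Gen.d)) lc_d_rc_12_3 lc_d_rc_16_4 lc_d_rc_15_1 lc_d_rc_24_5 lc_d_rc_27_4 lc_d_rc_23_8 lc_d_Cert_tree lc_d_rc_15_1 lc_d_rc_27_4 lc_d_Cert_tree lc_d_Cert_tree lc_d_rc_15_1 lc_d_Cert_tree lc_d_Cert_tree lc_d_rc_17_2 lc_d_rc_8_1 lc_d_rc_15_1 lc_d_rc_27_4 lc_d_Cert_tree lc_d_rc_27_10 lc_d_Cert_tree lc_d_rc_17_2 lc_d_rc_15_1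 lc_d_rc_16_4 lc_d_rc_15_1 lc_d_rc_24_5 lc_d_rc_16_2 lc_d_rc_27_4 lc_d_rc_8_3 lc_d_rc_16_4 lc_d_rc_24_5 lc_d_rc_15_1 lc_d_rc_15_1 lc_d_rc_27_4 lc_d_rc_8_1 lc_d_rc_22_2 lc_d_rc_16_4 lc_d_rc_15_1 lc_d_rc_24_0 lc_d_Cert_tree lc_d_rc_15_1 lc_d_rc_16_2 lc_d_rc_16_2 lc_d_Cert_tree lc_d_Cert_tree lc_d_rc_16_2 lc_d_rc_16_2 lc_d_rc_15_1 lc_d_rc_8_3 lc_d_rc_8_3 lc_d_rc_15_1 lc_d_rc_22_2 lc_d_rc_23_8 lc_d_rc_27_2 lc_d_Cert_tree lc_d_rc_17_2 lc_d_Cert_tree lc_d_Cert_tree lc_d_rc_8_3 lc_d_rc_15_1 lc_d_rc_17_2 lc_d_Cert_tree) (@D3.rec (fun _ => (Cert rels S Gen.d)) lc_d_rc_8_1 lc_d_rc_8_3 lc_d_Cert_tree lc_d_rc_15_1 lc_d_rc_17_2 lc_d_rc_8_1 lc_d_rc_23_6 lc_d_rc_15_1 lc_d_rc_16_4 lc_d_rc_15_1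 lc_d_rc_16_0 lc_d_rc_24_0 lc_d_rc_15_1 lc_d_rc_16_4 lc_d_rc_17_2 lc_d_rc_15_1 lc_d_Cert_tree lc_d_Cert_tree lc_d_Cert_tree lc_d_rc_15_1 lc_d_rc_15_1 lc_d_rc_15_1 lc_d_rc_15_1 lc_d_Cert_tree lc_d_rc_22_6 lc_d_rc_16_2 lc_d_rc_15_1 lc_d_Cert_tree lc_d_Cert_tree lc_d_rc_15_1 lc_d_rc_17_2 lc_d_Cert_tree lc_d_rc_15_1 lc_d_rc_15_1 lc_d_Cert_tree lc_d_rc_16_0 lc_d_rc_15_1 lc_d_Cert_tree lc_d_rc_17_2 lc_d_rc_12_1 lc_d_rc_16_2 lc_d_rc_8_3 lc_d_rc_15_1 lc_d_rc_15_1 lc_d_rc_16_2 lc_d_rc_17_2 lc_d_rc_23_6 lc_d_rc_15_1 lc_d_rc_27_4 lc_d_Cert_tree lc_d_rc_15_1 lc_d_Cert_tree lc_d_rc_24_5 lc_d_rc_8_3 lc_d_rc_23_4 lc_d_rc_27_8 lc_d_rc_15_1 lc_d_rc_17_2 lc_d_rc_15_1 lc_d_Cert_tree lc_d_rc_8_1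 lc_d_rc_15_1) (@D3.rec (fun _ => (Cert rels S Gen.d)) lc_d_rc_23_6 lc_d_rc_23_6 lc_d_rc_12_3 lc_d_rc_17_2 lc_d_rc_3_3 lc_d_rc_23_2 lc_d_rc_22_6 lc_d_rc_15_1 lc_d_rc_8_1 lc_d_rc_8_1 lc_d_rc_15_1 lc_d_rc_17_2 lc_d_rc_24_0 lc_d_rc_27_2 lc_d_rc_24_0 lc_d_rc_17_2 lc_d_rc_15_1 lc_d_rc_12_15 lc_d_rc_16_2 lc_d_rc_8_3 lc_d_rc_27_8 lc_d_rc_15_1 lc_d_rc_15_1 lc_d_rc_15_1 lc_d_Cert_tree lc_d_rc_15_1 lc_d_rc_27_4 lc_d_rc_15_1 lc_d_rc_15_1 lc_d_rc_15_1 lc_d_Cert_tree lc_d_rc_8_3 lc_d_rc_16_4 lc_d_rc_22_4 lc_d_rc_15_1 lc_d_rc_17_2 lc_d_Cert_tree lc_d_rc_25_18 lc_d_rc_15_1 lc_d_rc_27_8 lc_d_rc_23_6 lc_d_rc_24_0 lc_d_rc_17_2 lc_d_rc_8_3 lc_d_Cert_tree lc_d_rc_16_4 lc_d_rc_17_2 lc_d_rc_15_1 lc_d_rc_15_1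 lc_d_rc_27_4 lc_d_Cert_tree lc_d_rc_8_3 lc_d_rc_27_4 lc_d_rc_16_4 lc_d_Cert_tree lc_d_rc_15_1 lc_d_rc_3_1 lc_d_rc_8_3 lc_d_rc_27_2 lc_d_rc_8_3 lc_d_Cert_tree lc_d_Cert_tree) (@D3.rec (fun _ => (Cert rels S Gen.d)) lc_d_rc_15_1 lc_d_rc_17_2 lc_d_rc_16_2 lc_d_rc_22_4 lc_d_rc_8_3 lc_d_rc_16_2 lc_d_rc_15_1 lc_d_rc_16_0 lc_d_Cert_tree lc_d_rc_16_4 lc_d_rc_22_8 lc_d_rc_15_1 lc_d_rc_24_0 lc_d_Cert_tree lc_d_rc_15_1 lc_d_rc_15_1 lc_d_rc_16_2 lc_d_rc_23_2 lc_d_rc_8_3 lc_d_rc_17_2 lc_d_rc_15_1 lc_d_rc_27_10 lc_d_Cert_tree lc_d_rc_15_1 lc_d_rc_8_3 lc_d_rc_15_1 lc_d_rc_15_1 lc_d_rc_15_1 lc_d_rc_12_15 lc_d_Cert_tree lc_d_rc_23_6 lc_d_rc_23_4 lc_d_rc_15_1 lc_d_rc_3_3 lc_d_rc_24_0 lc_d_rc_16_4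 lc_d_rc_3_3 lc_d_Cert_tree lc_d_rc_15_1 lc_d_rc_17_2 lc_d_rc_25_10 lc_d_Cert_tree lc_d_Cert_tree lc_d_rc_15_1 lc_d_rc_17_2 lc_d_Cert_tree lc_d_Cert_tree lc_d_rc_15_1 lc_d_Cert_tree lc_d_rc_8_1 lc_d_Cert_tree lc_d_rc_15_1 lc_d_Cert_tree lc_d_Cert_tree lc_d_Cert_tree lc_d_Cert_tree lc_d_rc_15_1 lc_d_rc_15_1 lc_d_rc_15_1 lc_d_rc_15_1 lc_d_rc_15_1 lc_d_rc_15_1) (@D3.rec (fun _ => (Cert rels S Gen.d)) lc_d_rc_16_2 lc_d_rc_17_2 lc_d_rc_3_3 lc_d_rc_15_1 lc_d_Cert_tree lc_d_rc_15_1 lc_d_rc_15_1 lc_d_rc_16_4 lc_d_Cert_tree lc_d_Cert_tree lc_d_rc_15_1 lc_d_rc_12_5 lc_d_rc_8_3 lc_d_rc_17_2 lc_d_Cert_tree lc_d_rc_17_2 lc_d_Cert_tree lc_d_rc_15_1 lc_d_rc_17_2 lc_d_rc_15_1 lc_d_rc_23_6 lc_d_rc_15_1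 lc_d_rc_25_6 lc_d_rc_17_2 lc_d_rc_22_4 lc_d_rc_22_4 lc_d_rc_17_2 lc_d_rc_23_8 lc_d_rc_24_5 lc_d_rc_23_4 lc_d_rc_15_1 lc_d_rc_3_3 lc_d_Cert_tree lc_d_rc_23_4 lc_d_rc_15_1 lc_d_rc_8_3 lc_d_rc_24_0 lc_d_rc_15_1 lc_d_Cert_tree lc_d_rc_15_1 lc_d_rc_15_1 lc_d_rc_23_2 lc_d_rc_16_2 lc_d_rc_27_4 lc_d_rc_24_0 lc_d_rc_17_0 lc_d_rc_15_1 lc_d_rc_15_1 lc_d_rc_23_6 lc_d_rc_24_5 lc_d_Cert_tree lc_d_rc_27_10 lc_d_rc_15_1 lc_d_rc_24_5 lc_d_rc_15_1 lc_d_rc_15_1 lc_d_Cert_tree lc_d_rc_8_1 lc_d_Cert_tree lc_d_rc_15_1 lc_d_rc_15_1 lc_d_rc_3_1) (@D3.rec (fun _ => (Cert rels S Gen.d)) lc_d_rc_15_1 lc_d_rc_15_1 lc_d_Cert_tree lc_d_rc_17_2 lc_d_rc_8_3 lc_d_rc_15_1 lc_d_rc_17_2 lc_d_rc_3_3 lc_d_rc_16_4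 lc_d_rc_15_1 lc_d_rc_8_1 lc_d_Cert_tree lc_d_Cert_tree lc_d_Cert_tree lc_d_rc_8_3 lc_d_rc_15_1 lc_d_rc_17_2 lc_d_rc_8_3 lc_d_rc_27_4 lc_d_rc_27_2 lc_d_rc_15_1 lc_d_rc_17_2 lc_d_rc_17_0 lc_d_rc_15_1 lc_d_rc_8_3 lc_d_rc_17_2 lc_d_rc_3_1 lc_d_rc_23_2 lc_d_rc_16_4 lc_d_rc_23_4 lc_d_rc_23_2 lc_d_rc_17_0 lc_d_rc_8_3 lc_d_rc_25_18 lc_d_rc_22_8 lc_d_rc_24_0 lc_d_rc_15_1 lc_d_rc_17_2 lc_d_rc_16_4 lc_d_rc_27_10 lc_d_Cert_tree lc_d_rc_15_1 lc_d_rc_8_1 lc_d_rc_23_4 lc_d_rc_15_1 lc_d_rc_27_2 lc_d_rc_3_1 lc_d_rc_15_1 lc_d_rc_15_1 lc_d_rc_22_2 lc_d_rc_16_0 lc_d_rc_8_3 lc_d_rc_27_10 lc_d_rc_27_4 lc_d_rc_17_2 lc_d_rc_23_2 lc_d_rc_16_4 lc_d_rc_22_6 lc_d_rc_16_0 lc_d_rc_24_0 lc_d_rc_15_1 lc_d_rc_22_2)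 (@D3.rec (fun _ => (Cert rels S Gen.d)) lc_d_rc_16_4 lc_d_rc_8_3 lc_d_rc_15_1 lc_d_rc_17_2 lc_d_Cert_tree lc_d_rc_16_4 lc_d_rc_8_3 lc_d_rc_17_0 lc_d_Cert_tree lc_d_rc_16_2 lc_d_rc_17_2 lc_d_rc_22_4 lc_d_rc_16_4 lc_d_rc_8_3 lc_d_rc_27_4 lc_d_Cert_tree lc_d_Cert_tree lc_d_rc_16_0 lc_d_rc_23_2 lc_d_rc_16_2 lc_d_rc_8_3 lc_d_rc_8_3 lc_d_rc_23_6 lc_d_rc_17_2 lc_d_rc_15_1 lc_d_Cert_tree lc_d_Cert_tree lc_d_Cert_tree lc_d_rc_15_1 lc_d_rc_8_3 lc_d_rc_24_0 lc_d_rc_23_2 lc_d_rc_27_10 lc_d_rc_27_10 lc_d_rc_15_1 lc_d_rc_15_1 lc_d_rc_15_1 lc_d_rc_16_4 lc_d_Cert_tree lc_d_rc_15_1 lc_d_rc_17_2 lc_d_rc_17_2 lc_d_rc_27_2 lc_d_Cert_tree lc_d_rc_15_1 lc_d_rc_17_2 lc_d_rc_15_1 lc_d_rc_8_1 lc_d_rc_27_8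 lc_d_rc_27_2 lc_d_rc_16_2 lc_d_rc_12_15 lc_d_rc_15_1 lc_d_Cert_tree lc_d_rc_23_2 lc_d_rc_27_8 lc_d_rc_27_10 lc_d_rc_15_1 lc_d_rc_16_0 lc_d_rc_24_5 lc_d_rc_27_4 lc_d_rc_8_1) (@D3.rec (fun _ => (Cert rels S Gen.d)) lc_d_rc_15_1 lc_d_rc_24_5 lc_d_rc_16_4 lc_d_rc_23_8 lc_d_rc_23_8 lc_d_rc_3_3 lc_d_Cert_tree lc_d_Cert_tree lc_d_rc_8_1 lc_d_rc_22_4 lc_d_rc_15_1 lc_d_rc_15_1 lc_d_Cert_tree lc_d_Cert_tree lc_d_rc_17_2 lc_d_rc_15_1 lc_d_rc_15_1 lc_d_rc_22_4 lc_d_rc_17_2 lc_d_rc_17_2 lc_d_rc_15_1 lc_d_rc_15_1 lc_d_rc_23_2 lc_d_rc_24_0 lc_d_Cert_tree lc_d_Cert_tree lc_d_rc_15_1 lc_d_rc_27_2 lc_d_rc_15_1 lc_d_rc_22_8 lc_d_rc_15_1 lc_d_rc_16_0 lc_d_rc_15_1 lc_d_Cert_tree lc_d_rc_23_2 lc_d_rc_17_2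 lc_d_rc_22_4 lc_d_rc_16_4 lc_d_rc_15_1 lc_d_rc_15_1 lc_d_rc_23_4 lc_d_rc_16_4 lc_d_rc_24_5 lc_d_rc_3_3 lc_d_Cert_tree lc_d_rc_15_1 lc_d_rc_15_1 lc_d_rc_15_1 lc_d_rc_23_4 lc_d_rc_22_8 lc_d_rc_16_2 lc_d_rc_22_2 lc_d_rc_16_4 lc_d_rc_15_1 lc_d_rc_27_4 lc_d_rc_8_1 lc_d_rc_16_4 lc_d_rc_23_2 lc_d_rc_22_2 lc_d_rc_17_2 lc_d_rc_15_1 lc_d_Cert_tree) (@D3.rec (fun _ => (Cert rels S Gen.d)) lc_d_Cert_tree lc_d_Cert_tree lc_d_rc_15_1 lc_d_rc_17_2 lc_d_rc_22_2 lc_d_rc_8_3 lc_d_rc_15_1 lc_d_rc_8_3 lc_d_rc_22_8 lc_d_rc_27_10 lc_d_rc_27_10 lc_d_rc_16_2 lc_d_Cert_tree lc_d_Cert_tree lc_d_rc_15_1 lc_d_rc_17_2 lc_d_Cert_tree lc_d_rc_27_2 lc_d_rc_24_0 lc_d_rc_23_8 lc_d_rc_15_1 lc_d_rc_15_1 lc_d_rc_15_1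 lc_d_rc_8_3 lc_d_rc_15_1 lc_d_rc_17_2 lc_d_rc_22_4 lc_d_rc_23_6 lc_d_rc_27_4 lc_d_Cert_tree lc_d_Cert_tree lc_d_rc_17_2 lc_d_rc_15_1 lc_d_rc_27_4 lc_d_rc_15_1 lc_d_rc_27_4 lc_d_rc_15_1 lc_d_rc_22_4 lc_d_rc_3_1 lc_d_rc_22_4 lc_d_rc_16_2 lc_d_Cert_tree lc_d_Cert_tree lc_d_rc_15_1 lc_d_rc_16_0 lc_d_rc_15_1 lc_d_rc_24_5 lc_d_rc_8_1 lc_d_rc_8_3 lc_d_Cert_tree lc_d_Cert_tree lc_d_rc_15_1 lc_d_rc_17_2 lc_d_rc_23_4 lc_d_rc_15_1 lc_d_Cert_tree lc_d_rc_8_3 lc_d_Cert_tree lc_d_rc_15_1 lc_d_rc_15_1 lc_d_rc_15_1 lc_d_rc_17_2) (@D3.rec (fun _ => (Cert rels S Gen.d)) lc_d_rc_8_3 lc_d_rc_15_1 lc_d_Cert_tree lc_d_rc_15_1 lc_d_rc_27_8 lc_d_rc_8_3 lc_d_rc_24_5 lc_d_rc_17_2 lc_d_rc_16_4 lc_d_rc_16_4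 lc_d_Cert_tree lc_d_Cert_tree lc_d_rc_3_3 lc_d_rc_15_1 lc_d_rc_22_8 lc_d_rc_27_8 lc_d_rc_8_1 lc_d_rc_15_1 lc_d_Cert_tree lc_d_rc_15_1 lc_d_rc_8_1 lc_d_rc_15_1 lc_d_rc_27_4 lc_d_Cert_tree lc_d_rc_15_1 lc_d_rc_27_8 lc_d_rc_17_2 lc_d_rc_8_3 lc_d_rc_27_4 lc_d_rc_15_1 lc_d_rc_15_1 lc_d_rc_17_2 lc_d_rc_24_5 lc_d_rc_16_4 lc_d_rc_23_6 lc_d_rc_15_1 lc_d_rc_17_2 lc_d_rc_15_1 lc_d_rc_8_3 lc_d_rc_15_1 lc_d_Cert_tree lc_d_rc_15_1 lc_d_rc_16_0 lc_d_rc_15_1 lc_d_rc_17_2 lc_d_rc_24_5 lc_d_rc_24_0 lc_d_rc_15_1 lc_d_rc_15_1 lc_d_rc_17_2 lc_d_Cert_tree lc_d_rc_8_3 lc_d_rc_15_1 lc_d_rc_27_4 lc_d_rc_15_1 lc_d_rc_8_1 lc_d_rc_15_1 lc_d_rc_23_6 lc_d_Cert_tree lc_d_rc_15_1 lc_d_rc_16_2 lc_d_Cert_tree)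 (@D3.rec (fun _ => (Cert rels S Gen.d)) lc_d_rc_15_1 lc_d_rc_15_1 lc_d_Cert_tree lc_d_rc_27_2 lc_d_rc_15_1 lc_d_rc_23_2 lc_d_Cert_tree lc_d_rc_17_2 lc_d_rc_15_1 lc_d_Cert_tree lc_d_rc_8_3 lc_d_rc_8_1 lc_d_Cert_tree lc_d_rc_15_1 lc_d_Cert_tree lc_d_rc_16_2 lc_d_rc_24_0 lc_d_Cert_tree lc_d_rc_16_4 lc_d_Cert_tree lc_d_rc_16_2 lc_d_rc_16_0 lc_d_Cert_tree lc_d_rc_15_1 lc_d_rc_17_2 lc_d_Cert_tree lc_d_Cert_tree lc_d_Cert_tree lc_d_rc_3_3 lc_d_rc_27_10 lc_d_rc_15_1 lc_d_rc_15_1 lc_d_rc_16_2 lc_d_Cert_tree lc_d_Cert_tree lc_d_rc_15_1 lc_d_rc_27_4 lc_d_Cert_tree lc_d_rc_15_1 lc_d_rc_27_2 lc_d_Cert_tree lc_d_rc_16_2 lc_d_rc_15_1 lc_d_rc_23_4 lc_d_rc_15_1 lc_d_rc_16_2 lc_d_rc_15_1 lc_d_rc_27_4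 lc_d_rc_15_1 lc_d_rc_8_1 lc_d_rc_15_1 lc_d_Cert_tree lc_d_rc_15_1 lc_d_rc_15_1 lc_d_rc_27_4 lc_d_rc_16_4 lc_d_rc_15_1 lc_d_rc_22_4 lc_d_rc_17_2 lc_d_Cert_tree lc_d_Cert_tree lc_d_rc_15_1) (@D3.rec (fun _ => (Cert rels S Gen.d)) lc_d_Cert_tree lc_d_rc_15_1 lc_d_rc_27_4 lc_d_Cert_tree lc_d_rc_15_1 lc_d_Cert_tree lc_d_Cert_tree lc_d_rc_22_6 lc_d_rc_17_2 lc_d_rc_3_3 lc_d_Cert_tree lc_d_rc_15_1 lc_d_rc_8_1 lc_d_rc_23_4 lc_d_rc_15_1 lc_d_rc_16_2 lc_d_rc_15_1 lc_d_rc_27_2 lc_d_rc_3_3 lc_d_Cert_tree lc_d_Cert_tree lc_d_rc_15_1 lc_d_rc_15_1 lc_d_rc_15_1 lc_d_rc_16_2 lc_d_rc_23_2 lc_d_rc_23_4 lc_d_rc_15_1 lc_d_rc_8_3 lc_d_rc_12_9 lc_d_rc_16_4 lc_d_rc_23_2 lc_d_rc_23_6 lc_d_Cert_tree lc_d_rc_15_1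 lc_d_rc_22_6 lc_d_rc_16_4 lc_d_rc_24_5 lc_d_rc_17_2 lc_d_rc_15_1 lc_d_rc_3_1 lc_d_rc_17_2 lc_d_rc_24_5 lc_d_rc_15_1 lc_d_Cert_tree lc_d_Cert_tree lc_d_rc_23_6 lc_d_rc_22_4 lc_d_rc_16_2 lc_d_rc_27_10 lc_d_rc_27_4 lc_d_rc_8_3 lc_d_Cert_tree lc_d_Cert_tree lc_d_rc_15_1 lc_d_rc_3_3 lc_d_rc_24_0 lc_d_rc_15_1 lc_d_rc_16_2 lc_d_rc_24_5 lc_d_rc_27_2 lc_d_rc_23_6) (@D3.rec (fun _ => (Cert rels S Gen.d)) lc_d_rc_23_2 lc_d_rc_15_1 lc_d_rc_22_2 lc_d_rc_15_1 lc_d_rc_17_2 lc_d_Cert_tree lc_d_rc_22_8 lc_d_rc_15_1 lc_d_rc_15_1 lc_d_rc_15_1 lc_d_rc_17_2 lc_d_rc_15_1 lc_d_rc_15_1 lc_d_Cert_tree lc_d_rc_17_2 lc_d_rc_15_1 lc_d_rc_23_4 lc_d_rc_3_1 lc_d_Cert_tree lc_d_rc_15_1 lc_d_rc_17_2 lc_d_rc_15_1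 lc_d_rc_8_3 lc_d_rc_15_1 lc_d_rc_27_4 lc_d_Cert_tree lc_d_rc_15_1 lc_d_rc_16_2 lc_d_rc_15_1 lc_d_rc_15_1 lc_d_rc_17_2 lc_d_rc_22_4 lc_d_Cert_tree lc_d_rc_15_1 lc_d_rc_15_1 lc_d_rc_15_1 lc_d_rc_23_4 lc_d_Cert_tree lc_d_rc_16_2 lc_d_rc_8_1 lc_d_rc_15_1 lc_d_rc_27_8 lc_d_rc_8_3 lc_d_Cert_tree lc_d_rc_15_1 lc_d_rc_15_1 lc_d_rc_8_3 lc_d_Cert_tree lc_d_rc_16_4 lc_d_Cert_tree lc_d_Cert_tree lc_d_Cert_tree lc_d_rc_15_1 lc_d_rc_23_2 lc_d_rc_24_5 lc_d_rc_12_3 lc_d_rc_8_3 lc_d_Cert_tree lc_d_Cert_tree lc_d_rc_15_1 lc_d_rc_17_2 lc_d_Cert_tree) (@D3.rec (fun _ => (Cert rels S Gen.d)) lc_d_rc_8_3 lc_d_rc_8_3 lc_d_rc_17_2 lc_d_rc_16_2 lc_d_rc_15_1 lc_d_rc_17_2 lc_d_rc_16_4 lc_d_rc_15_1 lc_d_Cert_tree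 lc_d_Cert_tree lc_d_Cert_tree lc_d_rc_17_2 lc_d_rc_8_3 lc_d_Cert_tree lc_d_Cert_tree lc_d_Cert_tree lc_d_rc_17_2 lc_d_rc_15_1 lc_d_rc_22_8 lc_d_rc_15_1 lc_d_rc_16_2 lc_d_Cert_tree lc_d_Cert_tree lc_d_Cert_tree lc_d_rc_15_1 lc_d_rc_16_4 lc_d_rc_15_1 lc_d_rc_27_8 lc_d_rc_8_3 lc_d_rc_15_1 lc_d_Cert_tree lc_d_rc_15_1 lc_d_rc_17_2 lc_d_rc_27_2 lc_d_rc_15_1 lc_d_rc_8_3 lc_d_rc_8_3 lc_d_rc_23_8 lc_d_rc_16_0 lc_d_rc_17_2 lc_d_rc_8_3 lc_d_rc_23_6 lc_d_rc_16_4 lc_d_rc_15_1 lc_d_rc_17_2 lc_d_rc_3_3 lc_d_rc_17_2 lc_d_rc_15_1 lc_d_Cert_tree lc_d_rc_8_3 lc_d_rc_15_1 lc_d_Cert_tree lc_d_rc_23_8 lc_d_rc_15_1 lc_d_rc_15_1 lc_d_rc_16_0 lc_d_rc_23_2 lc_d_rc_23_2 lc_d_rc_8_1 lc_d_rc_15_1 lc_d_rc_3_3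 lc_d_rc_27_2) (@D3.rec (fun _ => (Cert rels S Gen.d)) lc_d_rc_25_10 lc_d_rc_3_3 lc_d_rc_27_2 lc_d_rc_15_1 lc_d_Cert_tree lc_d_rc_27_8 lc_d_rc_15_1 lc_d_rc_8_3 lc_d_rc_15_1 lc_d_rc_23_4 lc_d_rc_23_8 lc_d_rc_23_2 lc_d_rc_17_2 lc_d_rc_15_1 lc_d_rc_17_2 lc_d_rc_27_8 lc_d_rc_15_1 lc_d_rc_17_2 lc_d_rc_12_1 lc_d_rc_17_2 lc_d_rc_15_1 lc_d_rc_16_4 lc_d_rc_3_3 lc_d_rc_8_3 lc_d_Cert_tree lc_d_rc_16_4 lc_d_Cert_tree lc_d_Cert_tree lc_d_rc_17_2 lc_d_rc_15_1 lc_d_rc_24_0 lc_d_rc_25_6 lc_d_rc_17_2 lc_d_rc_8_3 lc_d_rc_23_2 lc_d_rc_8_3 lc_d_rc_15_1 lc_d_Cert_tree lc_d_rc_27_2 lc_d_rc_23_2 lc_d_rc_23_8 lc_d_rc_15_1 lc_d_rc_16_4 lc_d_rc_25_2 lc_d_rc_24_5 lc_d_rc_22_2 lc_d_rc_15_1 lc_d_rc_3_3 lc_d_rc_27_2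 lc_d_rc_8_3 lc_d_rc_15_1 lc_d_rc_27_2 lc_d_rc_15_1 lc_d_rc_8_1 lc_d_rc_8_3 lc_d_Cert_tree lc_d_rc_15_1 lc_d_rc_23_4 lc_d_rc_22_4 lc_d_Cert_tree lc_d_rc_15_1 lc_d_rc_16_4) (@D3.rec (fun _ => (Cert rels S Gen.d)) lc_d_rc_15_1 lc_d_rc_24_0 lc_d_rc_8_3 lc_d_rc_3_1 lc_d_rc_16_4 lc_d_rc_17_2 lc_d_Cert_tree lc_d_rc_3_3 lc_d_rc_3_3 lc_d_rc_8_1 lc_d_rc_27_2 lc_d_rc_17_2 lc_d_rc_22_6 lc_d_rc_22_2 lc_d_rc_15_1 lc_d_rc_3_1 lc_d_Cert_tree lc_d_rc_8_1 lc_d_rc_15_1 lc_d_rc_17_2 lc_d_rc_25_6 lc_d_rc_24_0 lc_d_rc_24_0 lc_d_rc_25_10 lc_d_rc_15_1 lc_d_Cert_tree lc_d_Cert_tree lc_d_rc_15_1 lc_d_rc_27_10 lc_d_rc_15_1 lc_d_rc_22_2 lc_d_rc_22_2 lc_d_Cert_tree lc_d_Cert_tree lc_d_rc_8_3 lc_d_rc_15_1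 lc_d_rc_23_2 lc_d_rc_25_6 lc_d_rc_25_14 lc_d_rc_22_2 lc_d_Cert_tree lc_d_Cert_tree lc_d_rc_15_1 lc_d_rc_17_2 lc_d_rc_3_3 lc_d_Cert_tree lc_d_rc_22_2 lc_d_rc_8_3 lc_d_rc_15_1 lc_d_rc_27_4 lc_d_rc_17_2 lc_d_Cert_tree lc_d_rc_3_3 lc_d_rc_15_1 lc_d_Cert_tree lc_d_rc_15_1 lc_d_rc_23_2 lc_d_rc_23_6 lc_d_rc_22_8 lc_d_rc_16_4 lc_d_Cert_tree lc_d_rc_15_1) (@D3.rec (fun _ => (Cert rels S Gen.d)) lc_d_Cert_tree lc_d_rc_15_1 lc_d_rc_24_5 lc_d_Cert_tree lc_d_Cert_tree lc_d_rc_17_2 lc_d_rc_15_1 lc_d_rc_22_2 lc_d_rc_24_0 lc_d_rc_3_3 lc_d_Cert_tree lc_d_rc_15_1 lc_d_rc_8_3 lc_d_rc_15_1 lc_d_rc_24_0 lc_d_Cert_tree lc_d_rc_15_1 lc_d_rc_8_1 lc_d_Cert_tree lc_d_rc_23_6 lc_d_rc_23_6 lc_d_rc_15_1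 lc_d_rc_17_2 lc_d_rc_22_2 lc_d_rc_22_8 lc_d_rc_23_8 lc_d_rc_23_2 lc_d_rc_15_1 lc_d_rc_15_1 lc_d_Cert_tree lc_d_Cert_tree lc_d_rc_22_6 lc_d_rc_22_2 lc_d_rc_15_1 lc_d_rc_24_5 lc_d_rc_22_2 lc_d_rc_24_0 lc_d_rc_15_1 lc_d_Cert_tree lc_d_Cert_tree lc_d_rc_15_1 lc_d_rc_17_2 lc_d_Cert_tree lc_d_Cert_tree lc_d_Cert_tree lc_d_rc_15_1 lc_d_Cert_tree lc_d_Cert_tree lc_d_rc_15_1 lc_d_Cert_tree lc_d_Cert_tree lc_d_rc_15_1 lc_d_Cert_tree lc_d_Cert_tree lc_d_Cert_tree lc_d_rc_15_1 lc_d_Cert_tree lc_d_rc_15_1 lc_d_Cert_tree lc_d_rc_15_1 lc_d_rc_24_0 lc_d_Cert_tree) (@D3.rec (fun _ => (Cert rels S Gen.d)) lc_d_Cert_tree lc_d_Cert_tree lc_d_rc_15_1 lc_d_rc_17_2 lc_d_rc_15_1 lc_d_rc_8_3 lc_d_rc_8_3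 lc_d_rc_16_2 lc_d_Cert_tree lc_d_Cert_tree lc_d_rc_15_1 lc_d_rc_17_2 lc_d_Cert_tree lc_d_rc_15_1 lc_d_Cert_tree lc_d_rc_15_1 lc_d_Cert_tree lc_d_rc_15_1 lc_d_rc_23_8 lc_d_Cert_tree lc_d_rc_17_2 lc_d_Cert_tree lc_d_Cert_tree lc_d_rc_15_1 lc_d_rc_15_1 lc_d_Cert_tree lc_d_Cert_tree lc_d_rc_27_4 lc_d_rc_23_2 lc_d_Cert_tree lc_d_rc_15_1 lc_d_rc_17_2 lc_d_rc_8_3 lc_d_rc_24_0 lc_d_rc_23_8 lc_d_rc_17_2 lc_d_Cert_tree lc_d_rc_15_1 lc_d_rc_16_4 lc_d_rc_25_6 lc_d_rc_24_5 lc_d_rc_15_1 lc_d_Cert_tree lc_d_rc_22_2 lc_d_rc_15_1 lc_d_Cert_tree lc_d_rc_15_1 lc_d_Cert_tree lc_d_rc_15_1 lc_d_rc_15_1 lc_d_Cert_tree lc_d_Cert_tree lc_d_Cert_tree lc_d_rc_16_2 lc_d_rc_15_1 lc_d_rc_17_2 lc_d_Cert_tree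 lc_d_rc_25_18 lc_d_rc_15_1 lc_d_rc_22_2 lc_d_rc_27_10 lc_d_rc_15_1) (@D3.rec (fun _ => (Cert rels S Gen.d)) lc_d_rc_27_4 lc_d_Cert_tree lc_d_rc_15_1 lc_d_rc_15_1 lc_d_rc_15_1 lc_d_rc_24_0 lc_d_rc_17_2 lc_d_Cert_tree lc_d_rc_15_1 lc_d_Cert_tree lc_d_rc_15_1 lc_d_rc_23_8 lc_d_rc_25_6 lc_d_rc_3_3 lc_d_rc_8_1 lc_d_rc_27_2 lc_d_rc_15_1 lc_d_rc_15_1 lc_d_rc_15_1 lc_d_rc_27_2 lc_d_Cert_tree lc_d_rc_23_8 lc_d_rc_8_1 lc_d_rc_8_1 lc_d_rc_15_1 lc_d_rc_23_4 lc_d_rc_22_2 lc_d_rc_3_3 lc_d_rc_15_1 lc_d_Cert_tree lc_d_rc_16_4 lc_d_rc_22_2 lc_d_rc_25_6 lc_d_rc_15_1 lc_d_rc_25_10 lc_d_rc_23_8 lc_d_rc_23_2 lc_d_rc_25_14 lc_d_rc_24_0 lc_d_rc_15_1 lc_d_Cert_tree lc_d_rc_8_3 lc_d_Cert_tree lc_d_Cert_tree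 lc_d_rc_15_1 lc_d_rc_17_2 lc_d_rc_12_15 lc_d_rc_15_1 lc_d_rc_8_1 lc_d_rc_15_1 lc_d_rc_27_8 lc_d_rc_15_1 lc_d_rc_15_1 lc_d_Cert_tree lc_d_rc_17_2 lc_d_Cert_tree lc_d_rc_15_1 lc_d_rc_17_2 lc_d_Cert_tree lc_d_rc_15_1 lc_d_rc_22_6 lc_d_Cert_tree) (@D3.rec (fun _ => (Cert rels S Gen.d)) lc_d_Cert_tree lc_d_rc_27_4 lc_d_rc_15_1 lc_d_rc_24_5 lc_d_Cert_tree lc_d_rc_15_1 lc_d_Cert_tree lc_d_rc_23_6 lc_d_Cert_tree lc_d_Cert_tree lc_d_Cert_tree lc_d_Cert_tree lc_d_rc_15_1 lc_d_rc_17_2 lc_d_Cert_tree lc_d_Cert_tree lc_d_rc_15_1 lc_d_rc_17_2 lc_d_Cert_tree lc_d_rc_15_1 lc_d_rc_27_4 lc_d_Cert_tree lc_d_rc_15_1 lc_d_rc_15_1 lc_d_rc_22_8 lc_d_rc_17_2 lc_d_Cert_tree lc_d_rc_15_1 lc_d_rc_25_18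 lc_d_rc_15_1 lc_d_rc_25_6 lc_d_Cert_tree lc_d_rc_16_4 lc_d_Cert_tree lc_d_rc_24_5 lc_d_rc_15_1 lc_d_Cert_tree lc_d_Cert_tree lc_d_Cert_tree lc_d_rc_15_1 lc_d_rc_8_3 lc_d_rc_3_3 lc_d_rc_17_2 lc_d_rc_8_3 lc_d_rc_27_2 lc_d_rc_17_2 lc_d_rc_15_1 lc_d_Cert_tree lc_d_rc_15_1 lc_d_rc_22_2 lc_d_Cert_tree lc_d_rc_15_1 lc_d_rc_16_4 lc_d_rc_17_2 lc_d_Cert_tree lc_d_Cert_tree lc_d_Cert_tree lc_d_rc_15_1 lc_d_rc_17_2 lc_d_Cert_tree lc_d_Cert_tree lc_d_Cert_tree) (@D3.rec (fun _ => (Cert rels S Gen.d)) lc_d_rc_15_1 lc_d_rc_16_2 lc_d_rc_24_0 lc_d_rc_17_2 lc_d_rc_15_1 lc_d_rc_23_6 lc_d_rc_15_1 lc_d_rc_17_2 lc_d_rc_15_1 lc_d_Cert_tree lc_d_rc_15_1 lc_d_rc_15_1 lc_d_rc_27_4 lc_d_rc_22_8 lc_d_rc_8_3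 lc_d_rc_8_1 lc_d_rc_15_1 lc_d_rc_17_2 lc_d_rc_24_0 lc_d_rc_24_0 lc_d_rc_15_1 lc_d_Cert_tree lc_d_rc_22_8 lc_d_rc_23_6 lc_d_rc_17_2 lc_d_Cert_tree lc_d_rc_24_5 lc_d_rc_27_8 lc_d_rc_25_6 lc_d_rc_8_3 lc_d_Cert_tree lc_d_Cert_tree lc_d_rc_15_1 lc_d_rc_27_8 lc_d_rc_22_8 lc_d_rc_12_15 lc_d_Cert_tree lc_d_rc_15_1 lc_d_rc_17_2 lc_d_rc_15_1 lc_d_rc_15_1 lc_d_rc_22_4 lc_d_rc_16_4 lc_d_rc_8_3 lc_d_Cert_tree lc_d_rc_16_4 lc_d_rc_22_8 lc_d_rc_16_4 lc_d_rc_24_5 lc_d_rc_15_1 lc_d_rc_8_1 lc_d_rc_15_1 lc_d_Cert_tree lc_d_rc_8_1 lc_d_Cert_tree lc_d_Cert_tree lc_d_rc_17_2 lc_d_rc_24_0 lc_d_rc_15_1 lc_d_rc_25_2 lc_d_rc_15_1 lc_d_rc_8_1) (@D3.rec (fun _ => (Cert rels S Gen.d)) lc_d_rc_23_4 lc_d_Cert_tree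 lc_d_Cert_tree lc_d_rc_15_1 lc_d_rc_17_2 lc_d_rc_15_1 lc_d_Cert_tree lc_d_rc_8_3 lc_d_rc_23_8 lc_d_rc_25_18 lc_d_rc_16_4 lc_d_rc_15_1 lc_d_rc_3_1 lc_d_rc_15_1 lc_d_rc_16_2 lc_d_rc_15_1 lc_d_rc_15_1 lc_d_rc_15_1 lc_d_rc_24_5 lc_d_rc_15_1 lc_d_Cert_tree lc_d_Cert_tree lc_d_rc_24_5 lc_d_rc_15_1 lc_d_rc_27_8 lc_d_rc_22_2 lc_d_rc_15_1 lc_d_rc_15_1 lc_d_Cert_tree lc_d_rc_15_1 lc_d_Cert_tree lc_d_rc_22_6 lc_d_rc_27_4 lc_d_rc_15_1 lc_d_rc_15_1 lc_d_Cert_tree lc_d_rc_15_1 lc_d_rc_27_2 lc_d_Cert_tree lc_d_rc_15_1 lc_d_Cert_tree lc_d_rc_23_2 lc_d_rc_23_2 lc_d_rc_15_1 lc_d_rc_8_1 lc_d_rc_23_2 lc_d_rc_15_1 lc_d_Cert_tree lc_d_rc_15_1 lc_d_rc_22_6 lc_d_rc_23_2 lc_d_rc_23_4 lc_d_rc_27_8 lc_d_rc_22_6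 lc_d_rc_24_0 lc_d_rc_27_10 lc_d_Cert_tree lc_d_rc_15_1 lc_d_rc_16_4 lc_d_rc_23_4 lc_d_rc_15_1 lc_d_rc_3_3) (@D3.rec (fun _ => (Cert rels S Gen.d)) lc_d_rc_3_3 lc_d_rc_8_1 lc_d_rc_23_2 lc_d_rc_23_2 lc_d_rc_3_3 lc_d_rc_17_2 lc_d_rc_8_3 lc_d_rc_24_5 lc_d_rc_16_4 lc_d_rc_15_1 lc_d_Cert_tree lc_d_rc_15_1 lc_d_rc_15_1 lc_d_rc_15_1 lc_d_rc_16_0 lc_d_rc_16_4 lc_d_rc_15_1 lc_d_rc_15_1 lc_d_rc_8_3 lc_d_rc_23_2 lc_d_Cert_tree lc_d_rc_15_1 lc_d_rc_17_2 lc_d_rc_8_1 lc_d_rc_15_1 lc_d_rc_8_1 lc_d_rc_15_1 lc_d_Cert_tree lc_d_rc_8_1 lc_d_rc_24_5 lc_d_rc_15_1 lc_d_rc_27_4 lc_d_Cert_tree lc_d_rc_16_0 lc_d_rc_8_3 lc_d_rc_15_1 lc_d_rc_3_3 lc_d_rc_8_1 lc_d_Cert_tree lc_d_rc_8_3 lc_d_Cert_tree lc_d_rc_15_1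 lc_d_Cert_tree lc_d_Cert_tree lc_d_rc_15_1 lc_d_rc_17_2 lc_d_rc_24_5 lc_d_rc_24_5 lc_d_rc_23_8 lc_d_rc_8_3 lc_d_rc_15_1 lc_d_Cert_tree lc_d_rc_8_3 lc_d_rc_8_3 lc_d_rc_24_5 lc_d_rc_24_5 lc_d_rc_22_2 lc_d_rc_16_4 lc_d_rc_27_4 lc_d_rc_15_1 lc_d_Cert_tree lc_d_rc_15_1) (@D3.rec (fun _ => (Cert rels S Gen.d)) lc_d_rc_17_2 lc_d_rc_24_0 lc_d_rc_22_2 lc_d_rc_15_1 lc_d_Cert_tree lc_d_Cert_tree lc_d_rc_15_1 lc_d_rc_25_2 lc_d_rc_3_1 lc_d_Cert_tree lc_d_rc_15_1 lc_d_Cert_tree lc_d_Cert_tree lc_d_Cert_tree lc_d_rc_15_1 lc_d_rc_23_8 lc_d_rc_3_1 lc_d_rc_3_3 lc_d_Cert_tree lc_d_rc_15_1 lc_d_rc_23_8 lc_d_rc_16_0 lc_d_rc_15_1 lc_d_Cert_tree lc_d_rc_15_1 lc_d_rc_17_2 lc_d_rc_15_1 lc_d_rc_15_1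 lc_d_Cert_tree lc_d_rc_8_3 lc_d_Cert_tree lc_d_rc_15_1 lc_d_rc_3_3 lc_d_rc_23_6 lc_d_rc_15_1 lc_d_Cert_tree lc_d_rc_16_2 lc_d_rc_15_1 lc_d_rc_15_1 lc_d_rc_8_3 lc_d_rc_24_5 lc_d_rc_8_3 lc_d_rc_8_1 lc_d_rc_17_2 lc_d_rc_23_2 lc_d_rc_8_1 lc_d_Cert_tree lc_d_Cert_tree lc_d_rc_23_8 lc_d_rc_15_1 lc_d_Cert_tree lc_d_rc_15_1 lc_d_rc_23_4 lc_d_rc_3_3 lc_d_rc_8_3 lc_d_Cert_tree lc_d_rc_3_1 lc_d_rc_15_1 lc_d_Cert_tree lc_d_rc_15_1 lc_d_rc_15_1 lc_d_rc_17_2) (@D3.rec (fun _ => (Cert rels S Gen.d)) lc_d_Cert_tree lc_d_rc_27_8 lc_d_rc_15_1 lc_d_rc_15_1 lc_d_rc_16_4 lc_d_rc_24_5 lc_d_Cert_tree lc_d_rc_27_4 lc_d_Cert_tree lc_d_Cert_tree lc_d_rc_15_1 lc_d_rc_24_0 lc_d_rc_16_0 lc_d_Cert_tree lc_d_rc_15_1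 lc_d_Cert_tree lc_d_rc_8_3 lc_d_rc_15_1 lc_d_rc_25_18 lc_d_Cert_tree lc_d_rc_16_0 lc_d_rc_15_1 lc_d_rc_15_1 lc_d_rc_17_2 lc_d_rc_8_1 lc_d_rc_3_3 lc_d_rc_15_1 lc_d_rc_23_4 lc_d_rc_24_5 lc_d_rc_22_4 lc_d_rc_15_1 lc_d_rc_23_8 lc_d_rc_17_0 lc_d_rc_15_1 lc_d_rc_16_4 lc_d_Cert_tree lc_d_rc_15_1 lc_d_rc_17_2 lc_d_rc_27_10 lc_d_rc_8_3 lc_d_rc_15_1 lc_d_Cert_tree lc_d_rc_16_4 lc_d_rc_15_1 lc_d_rc_17_2 lc_d_rc_15_1 lc_d_rc_27_4 lc_d_rc_15_1 lc_d_rc_15_1 lc_d_rc_17_2 lc_d_Cert_tree lc_d_rc_15_1 lc_d_rc_23_4 lc_d_rc_27_2 lc_d_rc_15_1 lc_d_rc_27_4 lc_d_Cert_tree lc_d_rc_15_1 lc_d_rc_3_3 lc_d_rc_8_1 lc_d_rc_23_2 lc_d_rc_17_2) (@D3.rec (fun _ => (Cert rels S Gen.d)) lc_d_rc_15_1 lc_d_rc_23_4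 lc_d_rc_15_1 lc_d_rc_15_1 lc_d_rc_3_1 lc_d_rc_27_2 lc_d_rc_16_0 lc_d_rc_15_1 lc_d_rc_23_4 lc_d_rc_15_1 lc_d_rc_8_3 lc_d_rc_15_1 lc_d_rc_16_4 lc_d_rc_8_3 lc_d_Cert_tree lc_d_rc_8_3 lc_d_Cert_tree lc_d_rc_15_1 lc_d_rc_27_2 lc_d_rc_17_2 lc_d_rc_16_0 lc_d_rc_23_8 lc_d_rc_8_3 lc_d_rc_8_3 lc_d_rc_3_3 lc_d_rc_8_3 lc_d_rc_23_4 lc_d_Cert_tree lc_d_Cert_tree lc_d_rc_27_2 lc_d_rc_15_1 lc_d_rc_12_13 lc_d_rc_15_1 lc_d_Cert_tree lc_d_Cert_tree lc_d_rc_27_2 lc_d_rc_16_4 lc_d_Cert_tree lc_d_rc_15_1 lc_d_rc_16_0 lc_d_rc_17_2 lc_d_rc_16_4 lc_d_rc_15_1 lc_d_Cert_tree lc_d_rc_15_1 lc_d_rc_23_6 lc_d_rc_15_1 lc_d_rc_24_0 lc_d_rc_17_2 lc_d_rc_15_1 lc_d_Cert_tree lc_d_rc_15_1 lc_d_rc_17_0 lc_d_rc_22_2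 lc_d_rc_15_1 lc_d_Cert_tree lc_d_rc_15_1 lc_d_rc_16_2 lc_d_rc_15_1 lc_d_Cert_tree lc_d_rc_23_4 lc_d_rc_15_1) (@D3.rec (fun _ => (Cert rels S Gen.d)) lc_d_Cert_tree lc_d_rc_23_8 lc_d_rc_23_8 lc_d_rc_15_1 lc_d_rc_24_5 lc_d_Cert_tree lc_d_rc_16_2 lc_d_rc_8_3 lc_d_Cert_tree lc_d_rc_16_4 lc_d_rc_27_2 lc_d_rc_8_3 lc_d_rc_16_4 lc_d_rc_3_3 lc_d_Cert_tree lc_d_rc_27_10 lc_d_Cert_tree lc_d_rc_15_1 lc_d_rc_22_4 lc_d_rc_27_8 lc_d_rc_15_1 lc_d_rc_27_2 lc_d_rc_15_1 lc_d_rc_25_2 lc_d_rc_23_8 lc_d_rc_3_3 lc_d_rc_27_10 lc_d_rc_8_3 lc_d_rc_24_5 lc_d_rc_22_4 lc_d_rc_16_4 lc_d_rc_27_10 lc_d_rc_15_1 lc_d_rc_17_2 lc_d_rc_8_3 lc_d_rc_8_3 lc_d_rc_8_3 lc_d_rc_8_3 lc_d_rc_15_1 lc_d_rc_17_2 lc_d_rc_3_3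 lc_d_rc_15_1 lc_d_rc_17_2 lc_d_rc_27_8 lc_d_rc_8_1 lc_d_rc_15_1 lc_d_Cert_tree lc_d_rc_22_8 lc_d_rc_27_4 lc_d_rc_15_1 lc_d_rc_15_1 lc_d_rc_3_3 lc_d_Cert_tree lc_d_rc_15_1 lc_d_rc_16_4 lc_d_rc_15_1 lc_d_Cert_tree lc_d_rc_15_1 lc_d_rc_23_6 lc_d_rc_8_3 lc_d_rc_8_3 lc_d_rc_22_4) (@D3.rec (fun _ => (Cert rels S Gen.d)) lc_d_rc_15_1 lc_d_rc_15_1 lc_d_rc_27_2 lc_d_rc_27_2 lc_d_rc_15_1 lc_d_rc_15_1 lc_d_Cert_tree lc_d_rc_15_1 lc_d_rc_15_1 lc_d_rc_24_0 lc_d_rc_17_2 lc_d_rc_22_2 lc_d_rc_27_2 lc_d_rc_24_5 lc_d_rc_23_8 lc_d_rc_16_2 lc_d_rc_16_0 lc_d_Cert_tree lc_d_rc_17_2 lc_d_rc_15_1 lc_d_rc_27_8 lc_d_Cert_tree lc_d_rc_15_1 lc_d_Cert_tree lc_d_rc_24_5 lc_d_Cert_tree lc_d_rc_27_2 lc_d_rc_23_4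 lc_d_rc_15_1 lc_d_rc_16_4 lc_d_rc_22_4 lc_d_Cert_tree lc_d_rc_15_1 lc_d_rc_27_4 lc_d_Cert_tree lc_d_rc_16_0 lc_d_rc_17_2 lc_d_rc_15_1 lc_d_rc_8_3 lc_d_rc_22_8 lc_d_rc_17_2 lc_d_Cert_tree lc_d_rc_8_1 lc_d_rc_15_1 lc_d_rc_8_3 lc_d_rc_15_1 lc_d_rc_24_5 lc_d_rc_23_2 lc_d_Cert_tree lc_d_rc_15_1 lc_d_rc_15_1 lc_d_rc_15_1 lc_d_rc_8_3 lc_d_rc_22_8 lc_d_rc_8_1 lc_d_rc_15_1 lc_d_Cert_tree lc_d_rc_23_2 lc_d_rc_24_5 lc_d_rc_23_4 lc_d_rc_3_3 lc_d_rc_16_4) (@D3.rec (fun _ => (Cert rels S Gen.d)) lc_d_rc_17_2 lc_d_rc_16_4 lc_d_rc_15_1 lc_d_rc_17_2 lc_d_rc_15_1 lc_d_rc_15_1 lc_d_rc_8_3 lc_d_rc_22_4 lc_d_rc_15_1 lc_d_rc_27_8 lc_d_rc_15_1 lc_d_rc_8_3 lc_d_rc_8_1 lc_d_rc_15_1 lc_d_rc_27_4 lc_d_rc_16_4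 lc_d_Cert_tree lc_d_rc_15_1 lc_d_rc_27_4 lc_d_rc_8_3 lc_d_rc_24_0 lc_d_rc_15_1 lc_d_Cert_tree lc_d_rc_27_10 lc_d_rc_23_4 lc_d_rc_3_3 lc_d_rc_3_3 lc_d_rc_23_2 lc_d_Cert_tree lc_d_Cert_tree lc_d_rc_16_0 lc_d_rc_15_1 lc_d_rc_17_2 lc_d_rc_15_1 lc_d_rc_3_1 lc_d_rc_24_0 lc_d_rc_16_4 lc_d_rc_8_3 lc_d_rc_27_8 lc_d_rc_16_4 lc_d_rc_8_3 lc_d_rc_27_4 lc_d_rc_15_1 lc_d_rc_8_3 lc_d_rc_3_3 lc_d_rc_15_1 lc_d_rc_3_1 lc_d_rc_27_8 lc_d_rc_15_1 lc_d_rc_27_8 lc_d_rc_15_1 lc_d_rc_22_2 lc_d_rc_8_3 lc_d_rc_15_1 lc_d_rc_16_4 lc_d_rc_15_1 lc_d_rc_16_0 lc_d_rc_15_1 lc_d_rc_3_1 lc_d_rc_15_1 lc_d_Cert_tree lc_d_Cert_tree) (@D3.rec (fun _ => (Cert rels S Gen.d)) lc_d_rc_15_1 lc_d_Cert_tree lc_d_rc_8_3 lc_d_rc_17_2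 lc_d_rc_25_6 lc_d_rc_17_2 lc_d_Cert_tree lc_d_rc_15_1 lc_d_Cert_tree lc_d_Cert_tree lc_d_Cert_tree lc_d_Cert_tree lc_d_rc_15_1 lc_d_rc_3_3 lc_d_Cert_tree lc_d_rc_15_1 lc_d_rc_8_3 lc_d_rc_3_3 lc_d_Cert_tree lc_d_rc_15_1 lc_d_Cert_tree lc_d_Cert_tree lc_d_rc_15_1 lc_d_rc_25_6 lc_d_rc_15_1 lc_d_Cert_tree lc_d_rc_15_1 lc_d_Cert_tree lc_d_Cert_tree lc_d_rc_15_1 lc_d_rc_3_3 lc_d_rc_15_1 lc_d_Cert_tree lc_d_rc_8_3 lc_d_Cert_tree lc_d_rc_15_1 lc_d_rc_15_1 lc_d_rc_27_10 lc_d_rc_23_4 lc_d_rc_8_3 lc_d_Cert_tree lc_d_rc_23_8 lc_d_Cert_tree lc_d_rc_15_1 lc_d_rc_25_10 lc_d_rc_15_1 lc_d_rc_15_1 lc_d_rc_23_2 lc_d_rc_15_1 lc_d_rc_24_0 lc_d_rc_22_4 lc_d_rc_15_1 lc_d_rc_17_2 lc_d_Cert_tree lc_d_rc_15_1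 lc_d_rc_3_1 lc_d_Cert_tree lc_d_rc_15_1 lc_d_Cert_tree lc_d_rc_15_1 lc_d_Cert_tree lc_d_rc_15_1) (@D3.rec (fun _ => (Cert rels S Gen.d)) lc_d_Cert_tree lc_d_rc_23_4 lc_d_rc_23_6 lc_d_rc_15_1 lc_d_rc_27_2 lc_d_Cert_tree lc_d_rc_23_4 lc_d_rc_15_1 lc_d_rc_27_4 lc_d_rc_22_6 lc_d_rc_22_4 lc_d_rc_8_3 lc_d_rc_23_2 lc_d_rc_24_5 lc_d_rc_23_8 lc_d_rc_8_3 lc_d_Cert_tree lc_d_rc_15_1 lc_d_rc_8_3 lc_d_rc_16_4 lc_d_Cert_tree lc_d_rc_15_1 lc_d_rc_23_8 lc_d_rc_16_4 lc_d_Cert_tree lc_d_rc_15_1 lc_d_Cert_tree lc_d_rc_8_3 lc_d_rc_27_4 lc_d_rc_8_3 lc_d_rc_15_1 lc_d_rc_16_4 lc_d_rc_15_1 lc_d_rc_23_2 lc_d_rc_8_3 lc_d_rc_27_2 lc_d_rc_3_3 lc_d_rc_15_1 lc_d_rc_16_2 lc_d_rc_8_3 lc_d_rc_15_1 lc_d_Cert_tree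 lc_d_Cert_tree lc_d_rc_8_3 lc_d_Cert_tree lc_d_rc_22_4 lc_d_Cert_tree lc_d_rc_15_1 lc_d_rc_3_3 lc_d_rc_17_2 lc_d_rc_17_2 lc_d_rc_8_3 lc_d_rc_27_10 lc_d_rc_8_3 lc_d_rc_16_4 lc_d_rc_24_0 lc_d_Cert_tree lc_d_rc_15_1 lc_d_rc_27_8 lc_d_rc_17_0 lc_d_rc_24_5 lc_d_rc_15_1) (@D3.rec (fun _ => (Cert rels S Gen.d)) lc_d_Cert_tree lc_d_Cert_tree lc_d_rc_15_1 lc_d_rc_25_2 lc_d_rc_27_10 lc_d_rc_27_10 lc_d_rc_17_2 lc_d_rc_27_4 lc_d_rc_15_1 lc_d_Cert_tree lc_d_Cert_tree lc_d_rc_15_1 lc_d_rc_17_2 lc_d_rc_8_3 lc_d_rc_8_3 lc_d_rc_15_1 lc_d_rc_23_8 lc_d_rc_22_6 lc_d_Cert_tree lc_d_Cert_tree lc_d_rc_15_1 lc_d_rc_17_2 lc_d_Cert_tree lc_d_rc_15_1 lc_d_rc_16_0 lc_d_rc_15_1 lc_d_rc_27_4 lc_d_rc_15_1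 lc_d_rc_17_2 lc_d_rc_23_8 lc_d_rc_16_4 lc_d_rc_15_1 lc_d_rc_27_2 lc_d_rc_17_2 lc_d_rc_15_1 lc_d_rc_27_2 lc_d_rc_23_6 lc_d_rc_27_10 lc_d_Cert_tree lc_d_rc_16_4 lc_d_rc_15_1 lc_d_rc_27_4 lc_d_rc_16_4 lc_d_rc_17_2 lc_d_rc_15_1 lc_d_rc_27_8 lc_d_rc_8_3 lc_d_rc_15_1 lc_d_rc_15_1 lc_d_rc_22_2 lc_d_rc_15_1 lc_d_Cert_tree lc_d_rc_15_1 lc_d_rc_27_2 lc_d_rc_16_0 lc_d_rc_17_2 lc_d_rc_17_2 lc_d_rc_23_2 lc_d_rc_16_4 lc_d_rc_24_5 lc_d_rc_16_4 lc_d_rc_15_1) (@D3.rec (fun _ => (Cert rels S Gen.d)) lc_d_rc_23_8 lc_d_rc_22_8 lc_d_rc_15_1 lc_d_rc_22_4 lc_d_rc_15_1 lc_d_rc_15_1 lc_d_rc_17_2 lc_d_rc_15_1 lc_d_rc_16_4 lc_d_rc_8_1 lc_d_rc_15_1 lc_d_rc_22_6 lc_d_rc_27_2 lc_d_Cert_tree lc_d_rc_15_1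 lc_d_rc_15_1 lc_d_rc_22_6 lc_d_rc_24_0 lc_d_rc_15_1 lc_d_rc_8_3 lc_d_rc_22_2 lc_d_rc_16_2 lc_d_rc_17_0 lc_d_rc_15_1 lc_d_rc_16_2 lc_d_rc_15_1 lc_d_rc_16_2 lc_d_rc_17_2 lc_d_rc_15_1 lc_d_rc_15_1 lc_d_rc_15_1 lc_d_rc_22_8 lc_d_rc_22_2 lc_d_rc_15_1 lc_d_rc_27_4 lc_d_rc_3_3 lc_d_rc_8_3 lc_d_Cert_tree lc_d_rc_8_3 lc_d_rc_3_3 lc_d_rc_17_2 lc_d_rc_16_4 lc_d_rc_12_3 lc_d_rc_16_4 lc_d_Cert_tree lc_d_rc_15_1 lc_d_rc_27_10 lc_d_rc_27_4 lc_d_rc_15_1 lc_d_rc_17_2 lc_d_rc_17_2 lc_d_rc_16_4 lc_d_rc_8_3 lc_d_rc_3_3 lc_d_rc_25_6 lc_d_Cert_tree lc_d_rc_16_0 lc_d_rc_15_1 lc_d_rc_8_3 lc_d_rc_8_3 lc_d_rc_24_0 lc_d_rc_15_1) (@D3.rec (fun _ => (Cert rels S Gen.d)) lc_d_rc_27_2 lc_d_rc_16_0 lc_d_rc_15_1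 lc_d_rc_27_4 lc_d_rc_15_1 lc_d_Cert_tree lc_d_Cert_tree lc_d_rc_3_3 lc_d_rc_16_4 lc_d_rc_27_8 lc_d_rc_27_4 lc_d_rc_22_4 lc_d_rc_15_1 lc_d_rc_27_8 lc_d_rc_3_3 lc_d_rc_8_3 lc_d_rc_17_2 lc_d_rc_24_5 lc_d_rc_16_4 lc_d_rc_8_3 lc_d_rc_15_1 lc_d_Cert_tree lc_d_rc_15_1 lc_d_Cert_tree lc_d_rc_15_1 lc_d_Cert_tree lc_d_rc_15_1 lc_d_rc_17_2 lc_d_rc_15_1 lc_d_Cert_tree lc_d_Cert_tree lc_d_rc_15_1 lc_d_rc_12_15 lc_d_Cert_tree lc_d_Cert_tree lc_d_rc_3_3 lc_d_Cert_tree lc_d_rc_8_3 lc_d_rc_16_0 lc_d_rc_15_1 lc_d_rc_17_2 lc_d_Cert_tree lc_d_rc_15_1 lc_d_rc_3_3 lc_d_rc_16_2 lc_d_rc_16_4 lc_d_rc_16_2 lc_d_rc_8_3 lc_d_Cert_tree lc_d_rc_8_3 lc_d_Cert_tree lc_d_rc_8_3 lc_d_rc_3_3 lc_d_Cert_tree lc_d_rc_15_1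 lc_d_rc_15_1 lc_d_Cert_tree lc_d_rc_25_18 lc_d_rc_15_1 lc_d_rc_17_2 lc_d_rc_16_0 lc_d_Cert_tree) (@D3.rec (fun _ => (Cert rels S Gen.d)) lc_d_rc_8_3 lc_d_rc_23_2 lc_d_rc_23_2 lc_d_rc_15_1 lc_d_rc_17_0 lc_d_rc_23_2 lc_d_Cert_tree lc_d_rc_17_0 lc_d_rc_15_1 lc_d_Cert_tree lc_d_rc_24_5 lc_d_rc_15_1 lc_d_rc_17_2 lc_d_Cert_tree lc_d_rc_15_1 lc_d_Cert_tree lc_d_rc_15_1 lc_d_rc_15_1 lc_d_Cert_tree lc_d_rc_15_1 lc_d_rc_15_1 lc_d_rc_27_8 lc_d_Cert_tree lc_d_Cert_tree lc_d_rc_15_1 lc_d_rc_17_2 lc_d_rc_27_4 lc_d_Cert_tree lc_d_rc_15_1 lc_d_rc_8_3 lc_d_rc_15_1 lc_d_Cert_tree lc_d_rc_15_1 lc_d_rc_17_2 lc_d_Cert_tree lc_d_Cert_tree lc_d_Cert_tree lc_d_rc_15_1 lc_d_rc_17_2 lc_d_rc_15_1 lc_d_rc_15_1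 lc_d_Cert_tree lc_d_Cert_tree lc_d_rc_15_1 lc_d_rc_15_1 lc_d_rc_15_1 lc_d_rc_22_2 lc_d_rc_15_1 lc_d_rc_3_3 lc_d_rc_3_3 lc_d_Cert_tree lc_d_rc_15_1 lc_d_rc_27_4 lc_d_Cert_tree lc_d_rc_16_4 lc_d_rc_15_1 lc_d_Cert_tree lc_d_rc_15_1 lc_d_rc_23_2 lc_d_rc_23_8 lc_d_rc_15_1 lc_d_Cert_tree) (@D3.rec (fun _ => (Cert rels S Gen.d)) lc_d_rc_15_1 lc_d_Cert_tree lc_d_rc_27_4 lc_d_rc_8_3 lc_d_rc_3_3 lc_d_rc_3_3 lc_d_rc_27_2 lc_d_rc_8_3 lc_d_Cert_tree lc_d_rc_22_6 lc_d_Cert_tree lc_d_rc_24_0 lc_d_rc_16_2 lc_d_rc_15_1 lc_d_rc_27_4 lc_d_rc_8_3 lc_d_Cert_tree lc_d_rc_27_10 lc_d_rc_15_1 lc_d_rc_15_1 lc_d_rc_16_0 lc_d_rc_15_1 lc_d_rc_27_4 lc_d_rc_3_3 lc_d_Cert_tree lc_d_rc_22_4 lc_d_rc_8_3 lc_d_rc_27_8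 lc_d_rc_15_1 lc_d_rc_17_0 lc_d_rc_22_2 lc_d_rc_15_1 lc_d_rc_27_10 lc_d_rc_8_1 lc_d_rc_15_1 lc_d_Cert_tree lc_d_rc_15_1 lc_d_rc_15_1 lc_d_rc_15_1 lc_d_rc_27_2 lc_d_rc_8_3 lc_d_rc_23_8 lc_d_rc_16_4 lc_d_rc_8_3 lc_d_rc_15_1 lc_d_rc_3_3 lc_d_Cert_tree lc_d_rc_15_1 lc_d_rc_3_1 lc_d_rc_8_3 lc_d_rc_15_1 lc_d_rc_17_0 lc_d_rc_15_1 lc_d_rc_8_3 lc_d_rc_22_2 lc_d_Cert_tree lc_d_rc_15_1 lc_d_rc_16_2 lc_d_Cert_tree lc_d_rc_15_1 lc_d_rc_8_3 lc_d_rc_24_0) (@D3.rec (fun _ => (Cert rels S Gen.d)) lc_d_rc_27_8 lc_d_rc_8_3 lc_d_rc_22_2 lc_d_rc_16_4 lc_d_rc_27_8 lc_d_rc_8_3 lc_d_Cert_tree lc_d_rc_8_3 lc_d_Cert_tree lc_d_rc_23_2 lc_d_rc_15_1 lc_d_rc_24_5 lc_d_rc_22_2 lc_d_rc_27_10 lc_d_rc_15_1 lc_d_rc_15_1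 lc_d_rc_16_2 lc_d_Cert_tree lc_d_rc_15_1 lc_d_rc_8_3 lc_d_rc_12_1 lc_d_rc_12_1 lc_d_rc_8_3 lc_d_rc_22_2 lc_d_rc_27_4 lc_d_rc_16_4 lc_d_rc_17_2 lc_d_rc_23_2 lc_d_rc_17_0 lc_d_rc_15_1 lc_d_rc_8_3 lc_d_rc_23_8 lc_d_rc_8_3 lc_d_rc_15_1 lc_d_rc_8_1 lc_d_rc_15_1 lc_d_rc_23_2 lc_d_rc_15_1 lc_d_rc_24_0 lc_d_Cert_tree lc_d_rc_15_1 lc_d_rc_23_4 lc_d_rc_15_1 lc_d_Cert_tree lc_d_Cert_tree lc_d_rc_27_10 lc_d_rc_17_2 lc_d_rc_15_1 lc_d_rc_8_1 lc_d_rc_22_4 lc_d_rc_15_1 lc_d_rc_16_2 lc_d_rc_15_1 lc_d_rc_17_2 lc_d_rc_8_3 lc_d_rc_27_4 lc_d_rc_23_6 lc_d_Cert_tree lc_d_rc_15_1 lc_d_Cert_tree lc_d_rc_27_10 lc_d_rc_15_1) (@D3.rec (fun _ => (Cert rels S Gen.d)) lc_d_rc_15_1 lc_d_rc_17_2 lc_d_rc_27_8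 lc_d_rc_15_1 lc_d_Cert_tree lc_d_rc_17_2 lc_d_rc_15_1 lc_d_rc_23_8 lc_d_Cert_tree lc_d_rc_15_1 lc_d_rc_15_1 lc_d_rc_3_1 lc_d_Cert_tree lc_d_rc_15_1 lc_d_rc_27_4 lc_d_rc_15_1 lc_d_rc_27_4 lc_d_rc_15_1 lc_d_rc_24_0 lc_d_Cert_tree lc_d_rc_17_2 lc_d_rc_15_1 lc_d_rc_15_1 lc_d_rc_8_3 lc_d_Cert_tree lc_d_rc_15_1 lc_d_rc_27_8 lc_d_Cert_tree lc_d_rc_15_1 lc_d_Cert_tree lc_d_Cert_tree lc_d_rc_17_2 lc_d_rc_8_3 lc_d_Cert_tree lc_d_rc_27_4 lc_d_rc_8_3 lc_d_Cert_tree lc_d_rc_22_8 lc_d_Cert_tree lc_d_rc_15_1 lc_d_rc_17_2 lc_d_rc_16_4 lc_d_rc_24_0 lc_d_rc_15_1 lc_d_Cert_tree lc_d_rc_15_1 lc_d_Cert_tree lc_d_rc_27_2 lc_d_Cert_tree lc_d_rc_15_1 lc_d_rc_23_4 lc_d_Cert_tree lc_d_rc_15_1 lc_d_Cert_tree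 lc_d_rc_15_1 lc_d_rc_15_1 lc_d_Cert_tree lc_d_rc_15_1 lc_d_rc_15_1 lc_d_rc_15_1 lc_d_rc_16_4 lc_d_rc_17_2) (@D3.rec (fun _ => (Cert rels S Gen.d)) lc_d_rc_8_3 lc_d_rc_27_10 lc_d_rc_27_10 lc_d_rc_3_3 lc_d_Cert_tree lc_d_rc_15_1 lc_d_rc_16_4 lc_d_rc_15_1 lc_d_rc_24_5 lc_d_rc_24_0 lc_d_rc_24_5 lc_d_rc_15_1 lc_d_rc_8_3 lc_d_rc_16_4 lc_d_rc_23_2 lc_d_rc_16_4 lc_d_rc_23_2 lc_d_rc_23_8 lc_d_rc_15_1 lc_d_rc_23_2 lc_d_rc_15_1 lc_d_Cert_tree lc_d_rc_24_5 lc_d_rc_23_4 lc_d_rc_17_2 lc_d_Cert_tree lc_d_rc_8_3 lc_d_rc_15_1 lc_d_rc_3_3 lc_d_rc_17_2 lc_d_rc_15_1 lc_d_rc_22_2 lc_d_rc_16_2 lc_d_rc_15_1 lc_d_rc_8_3 lc_d_rc_16_4 lc_d_rc_15_1 lc_d_rc_27_2 lc_d_rc_15_1 lc_d_Cert_tree lc_d_rc_15_1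 lc_d_rc_27_4 lc_d_Cert_tree lc_d_rc_16_2 lc_d_rc_23_4 lc_d_rc_22_4 lc_d_rc_16_4 lc_d_rc_8_3 lc_d_rc_16_4 lc_d_rc_8_3 lc_d_rc_17_2 lc_d_rc_15_1 lc_d_rc_23_4 lc_d_rc_15_1 lc_d_rc_15_1 lc_d_Cert_tree lc_d_rc_17_2 lc_d_rc_15_1 lc_d_rc_17_2 lc_d_rc_24_5 lc_d_rc_15_1 lc_d_rc_23_2)
def ce_d_17 : D2 → D3 → (Cert rels S Gen.d) := @D2.rec (fun _ => D3 → (Cert rels S Gen.d)) (@D3.rec (fun _ => (Cert rels S Gen.d)) lc_d_rc_16_0 lc_d_rc_15_1 lc_d_rc_23_4 lc_d_rc_25_6 lc_d_rc_8_3 lc_d_rc_15_1 lc_d_rc_15_1 lc_d_rc_16_2 lc_d_rc_17_2 lc_d_rc_27_2 lc_d_rc_27_4 lc_d_rc_22_2 lc_d_rc_15_1 lc_d_rc_15_1 lc_d_rc_24_5 lc_d_Cert_tree lc_d_rc_27_4 lc_d_rc_17_2 lc_d_rc_3_3 lc_d_rc_16_4 lc_d_Cert_tree lc_d_rc_8_3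 lc_d_rc_15_1 lc_d_rc_24_0 lc_d_rc_15_1 lc_d_Cert_tree lc_d_Cert_tree lc_d_rc_15_1 lc_d_rc_17_2 lc_d_rc_23_4 lc_d_rc_27_8 lc_d_rc_16_2 lc_d_rc_23_8 lc_d_rc_16_4 lc_d_rc_16_0 lc_d_rc_15_1 lc_d_rc_8_3 lc_d_rc_16_4 lc_d_rc_15_1 lc_d_Cert_tree lc_d_rc_15_1 lc_d_rc_17_2 lc_d_rc_8_1 lc_d_Cert_tree lc_d_rc_17_2 lc_d_Cert_tree lc_d_rc_15_1 lc_d_rc_8_3 lc_d_rc_15_1 lc_d_Cert_tree lc_d_Cert_tree lc_d_Cert_tree lc_d_rc_17_2 lc_d_rc_15_1 lc_d_rc_17_2 lc_d_rc_16_4 lc_d_Cert_tree lc_d_Cert_tree lc_d_Cert_tree lc_d_rc_15_1 lc_d_rc_17_2 lc_d_Cert_tree) (@D3.rec (fun _ => (Cert rels S Gen.d)) lc_d_Cert_tree lc_d_rc_15_1 lc_d_Cert_tree lc_d_rc_16_0 lc_d_rc_15_1 lc_d_rc_27_8 lc_d_rc_15_1 lc_d_rc_8_1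 lc_d_Cert_tree lc_d_rc_17_2 lc_d_Cert_tree lc_d_Cert_tree lc_d_rc_16_4 lc_d_rc_8_3 lc_d_rc_27_2 lc_d_Cert_tree lc_d_Cert_tree lc_d_Cert_tree lc_d_Cert_tree lc_d_Cert_tree lc_d_rc_15_1 lc_d_rc_22_4 lc_d_rc_16_4 lc_d_rc_15_1 lc_d_rc_16_4 lc_d_rc_15_1 lc_d_rc_8_3 lc_d_rc_27_4 lc_d_rc_15_1 lc_d_rc_24_5 lc_d_rc_15_1 lc_d_rc_27_4 lc_d_rc_27_8 lc_d_rc_15_1 lc_d_rc_16_2 lc_d_rc_3_3 lc_d_rc_17_2 lc_d_rc_8_1 lc_d_rc_23_6 lc_d_rc_23_4 lc_d_rc_23_2 lc_d_rc_3_1 lc_d_Cert_tree lc_d_rc_16_4 lc_d_Cert_tree lc_d_rc_15_1 lc_d_rc_12_1 lc_d_rc_16_4 lc_d_Cert_tree lc_d_rc_15_1 lc_d_rc_22_8 lc_d_rc_16_4 lc_d_Cert_tree lc_d_rc_15_1 lc_d_Cert_tree lc_d_rc_15_1 lc_d_Cert_tree lc_d_rc_15_1 lc_d_Cert_tree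 lc_d_rc_15_1 lc_d_Cert_tree lc_d_Cert_tree) (@D3.rec (fun _ => (Cert rels S Gen.d)) lc_d_rc_15_1 lc_d_rc_23_6 lc_d_rc_23_6 lc_d_rc_22_6 lc_d_rc_27_8 lc_d_rc_17_2 lc_d_rc_8_3 lc_d_rc_27_10 lc_d_rc_27_10 lc_d_rc_15_1 lc_d_rc_24_5 lc_d_rc_15_1 lc_d_rc_27_4 lc_d_rc_23_8 lc_d_rc_15_1 lc_d_rc_17_0 lc_d_rc_3_3 lc_d_rc_15_1 lc_d_rc_15_1 lc_d_Cert_tree lc_d_rc_15_1 lc_d_rc_16_4 lc_d_rc_16_2 lc_d_rc_22_2 lc_d_rc_27_4 lc_d_rc_15_1 lc_d_rc_23_2 lc_d_rc_27_2 lc_d_Cert_tree lc_d_Cert_tree lc_d_rc_15_1 lc_d_rc_3_1 lc_d_Cert_tree lc_d_rc_3_1 lc_d_rc_24_5 lc_d_rc_16_4 lc_d_Cert_tree lc_d_rc_15_1 lc_d_rc_17_2 lc_d_rc_15_1 lc_d_rc_23_8 lc_d_rc_27_4 lc_d_Cert_tree lc_d_rc_15_1 lc_d_rc_17_2 lc_d_rc_3_1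 lc_d_rc_22_2 lc_d_rc_8_3 lc_d_rc_17_2 lc_d_rc_24_5 lc_d_rc_24_5 lc_d_Cert_tree lc_d_rc_15_1 lc_d_rc_27_10 lc_d_rc_23_2 lc_d_rc_16_4 lc_d_rc_8_1 lc_d_Cert_tree lc_d_rc_27_4 lc_d_Cert_tree lc_d_rc_15_1 lc_d_rc_12_3) (@D3.rec (fun _ => (Cert rels S Gen.d)) lc_d_rc_16_4 lc_d_Cert_tree lc_d_Cert_tree lc_d_rc_15_1 lc_d_rc_17_2 lc_d_rc_23_4 lc_d_rc_15_1 lc_d_rc_15_1 lc_d_rc_27_2 lc_d_rc_8_3 lc_d_rc_15_1 lc_d_Cert_tree lc_d_Cert_tree lc_d_rc_16_2 lc_d_rc_15_1 lc_d_rc_24_0 lc_d_rc_12_1 lc_d_rc_27_2 lc_d_rc_23_2 lc_d_rc_16_4 lc_d_rc_15_1 lc_d_rc_17_0 lc_d_rc_15_1 lc_d_rc_8_3 lc_d_Cert_tree lc_d_rc_15_1 lc_d_rc_17_2 lc_d_rc_15_1 lc_d_rc_16_4 lc_d_rc_15_1 lc_d_rc_17_2 lc_d_rc_23_8 lc_d_rc_15_1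 lc_d_rc_15_1 lc_d_rc_15_1 lc_d_rc_8_3 lc_d_rc_15_1 lc_d_Cert_tree lc_d_rc_15_1 lc_d_rc_27_8 lc_d_rc_23_4 lc_d_Cert_tree lc_d_rc_16_4 lc_d_rc_17_2 lc_d_rc_17_2 lc_d_rc_16_4 lc_d_rc_24_0 lc_d_rc_8_3 lc_d_Cert_tree lc_d_rc_24_0 lc_d_rc_23_2 lc_d_rc_15_1 lc_d_rc_27_10 lc_d_rc_8_1 lc_d_rc_15_1 lc_d_rc_27_4 lc_d_Cert_tree lc_d_rc_15_1 lc_d_rc_27_8 lc_d_Cert_tree lc_d_rc_27_2 lc_d_rc_15_1) (@D3.rec (fun _ => (Cert rels S Gen.d)) lc_d_rc_15_1 lc_d_rc_17_0 lc_d_rc_15_1 lc_d_rc_23_2 lc_d_rc_22_2 lc_d_rc_3_1 lc_d_rc_17_0 lc_d_Cert_tree lc_d_rc_24_5 lc_d_rc_15_1 lc_d_rc_8_1 lc_d_rc_15_1 lc_d_rc_16_4 lc_d_rc_8_3 lc_d_rc_8_3 lc_d_Cert_tree lc_d_rc_15_1 lc_d_rc_17_2 lc_d_rc_8_3 lc_d_rc_15_1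 lc_d_rc_17_2 lc_d_rc_23_4 lc_d_rc_15_1 lc_d_rc_27_4 lc_d_Cert_tree lc_d_rc_15_1 lc_d_rc_15_1 lc_d_rc_15_1 lc_d_rc_17_2 lc_d_rc_15_1 lc_d_rc_27_2 lc_d_rc_15_1 lc_d_rc_22_6 lc_d_Cert_tree lc_d_rc_3_1 lc_d_rc_15_1 lc_d_rc_15_1 lc_d_rc_27_8 lc_d_Cert_tree lc_d_rc_17_2 lc_d_rc_15_1 lc_d_rc_15_1 lc_d_rc_15_1 lc_d_Cert_tree lc_d_rc_17_2 lc_d_rc_16_4 lc_d_rc_15_1 lc_d_rc_15_1 lc_d_rc_27_10 lc_d_rc_15_1 lc_d_rc_27_4 lc_d_rc_15_1 lc_d_rc_15_1 lc_d_rc_24_0 lc_d_rc_17_2 lc_d_rc_15_1 lc_d_rc_15_1 lc_d_rc_15_1 lc_d_rc_3_3 lc_d_rc_23_2 lc_d_rc_23_2 lc_d_Cert_tree) (@D3.rec (fun _ => (Cert rels S Gen.d)) lc_d_rc_15_1 lc_d_rc_17_2 lc_d_rc_3_3 lc_d_rc_15_1 lc_d_rc_3_3 lc_d_rc_8_3 lc_d_rc_15_1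 lc_d_rc_23_4 lc_d_rc_8_3 lc_d_rc_16_4 lc_d_rc_16_0 lc_d_rc_3_3 lc_d_rc_15_1 lc_d_rc_15_1 lc_d_rc_3_3 lc_d_rc_17_2 lc_d_rc_15_1 lc_d_rc_25_6 lc_d_rc_15_1 lc_d_rc_3_3 lc_d_Cert_tree lc_d_rc_17_0 lc_d_rc_16_4 lc_d_rc_15_1 lc_d_rc_17_2 lc_d_rc_8_3 lc_d_Cert_tree lc_d_rc_15_1 lc_d_rc_17_2 lc_d_rc_23_6 lc_d_rc_15_1 lc_d_rc_12_3 lc_d_rc_17_2 lc_d_rc_8_1 lc_d_rc_3_3 lc_d_rc_15_1 lc_d_rc_16_2 lc_d_Cert_tree lc_d_rc_8_3 lc_d_rc_15_1 lc_d_rc_8_3 lc_d_rc_15_1 lc_d_rc_27_4 lc_d_rc_24_0 lc_d_rc_16_4 lc_d_Cert_tree lc_d_Cert_tree lc_d_rc_15_1 lc_d_rc_24_0 lc_d_rc_16_0 lc_d_rc_15_1 lc_d_rc_27_2 lc_d_rc_3_3 lc_d_rc_24_5 lc_d_Cert_tree lc_d_rc_15_1 lc_d_rc_15_1 lc_d_Cert_tree lc_d_rc_17_2 lc_d_rc_15_1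 lc_d_rc_15_1 lc_d_rc_15_1) (@D3.rec (fun _ => (Cert rels S Gen.d)) lc_d_rc_24_0 lc_d_rc_23_6 lc_d_rc_15_1 lc_d_Cert_tree lc_d_Cert_tree lc_d_rc_23_4 lc_d_rc_15_1 lc_d_rc_25_10 lc_d_rc_15_1 lc_d_rc_24_5 lc_d_rc_8_1 lc_d_rc_15_1 lc_d_rc_15_1 lc_d_rc_15_1 lc_d_rc_16_4 lc_d_rc_15_1 lc_d_rc_8_3 lc_d_rc_15_1 lc_d_rc_15_1 lc_d_rc_16_4 lc_d_rc_17_2 lc_d_rc_15_1 lc_d_Cert_tree lc_d_rc_15_1 lc_d_rc_15_1 lc_d_rc_23_4 lc_d_rc_24_0 lc_d_rc_12_1 lc_d_rc_16_2 lc_d_rc_17_2 lc_d_rc_22_2 lc_d_Cert_tree lc_d_rc_17_0 lc_d_Cert_tree lc_d_Cert_tree lc_d_Cert_tree lc_d_Cert_tree lc_d_rc_15_1 lc_d_rc_24_0 lc_d_rc_15_1 lc_d_rc_15_1 lc_d_rc_8_3 lc_d_rc_3_3 lc_d_rc_25_18 lc_d_rc_15_1 lc_d_rc_15_1 lc_d_rc_3_1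 lc_d_rc_24_0 lc_d_Cert_tree lc_d_rc_15_1 lc_d_Cert_tree lc_d_rc_15_1 lc_d_rc_16_4 lc_d_Cert_tree lc_d_rc_15_1 lc_d_rc_23_2 lc_d_rc_17_2 lc_d_rc_3_1 lc_d_rc_23_8 lc_d_rc_23_2 lc_d_Cert_tree lc_d_rc_15_1) (@D3.rec (fun _ => (Cert rels S Gen.d)) lc_d_Cert_tree lc_d_rc_17_2 lc_d_rc_15_1 lc_d_rc_17_2 lc_d_rc_15_1 lc_d_Cert_tree lc_d_rc_15_1 lc_d_Cert_tree lc_d_Cert_tree lc_d_rc_15_1 lc_d_Cert_tree lc_d_Cert_tree lc_d_rc_15_1 lc_d_rc_15_1 lc_d_rc_24_0 lc_d_rc_22_6 lc_d_rc_16_4 lc_d_rc_23_2 lc_d_rc_15_1 lc_d_rc_23_4 lc_d_rc_16_2 lc_d_rc_15_1 lc_d_rc_23_2 lc_d_rc_15_1 lc_d_rc_16_0 lc_d_rc_15_1 lc_d_rc_15_1 lc_d_rc_16_4 lc_d_rc_23_6 lc_d_rc_15_1 lc_d_rc_16_4 lc_d_rc_27_4 lc_d_rc_24_5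 lc_d_rc_15_1 lc_d_Cert_tree lc_d_rc_15_1 lc_d_rc_8_3 lc_d_rc_22_4 lc_d_Cert_tree lc_d_rc_15_1 lc_d_rc_15_1 lc_d_rc_8_3 lc_d_rc_8_3 lc_d_rc_15_1 lc_d_rc_3_3 lc_d_rc_23_2 lc_d_rc_23_6 lc_d_rc_15_1 lc_d_rc_8_3 lc_d_rc_15_1 lc_d_rc_27_4 lc_d_rc_24_0 lc_d_rc_27_4 lc_d_rc_8_1 lc_d_rc_8_1 lc_d_rc_15_1 lc_d_rc_16_4 lc_d_rc_15_1 lc_d_rc_15_1 lc_d_rc_15_1 lc_d_rc_15_1 lc_d_rc_17_2) (@D3.rec (fun _ => (Cert rels S Gen.d)) lc_d_rc_8_3 lc_d_rc_15_1 lc_d_rc_15_1 lc_d_rc_15_1 lc_d_rc_27_4 lc_d_Cert_tree lc_d_rc_24_0 lc_d_rc_15_1 lc_d_rc_15_1 lc_d_rc_15_1 lc_d_rc_3_1 lc_d_rc_8_3 lc_d_rc_8_3 lc_d_Cert_tree lc_d_rc_15_1 lc_d_Cert_tree lc_d_Cert_tree lc_d_rc_23_8 lc_d_rc_15_1 lc_d_rc_27_2 lc_d_rc_17_2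 lc_d_rc_8_3 lc_d_rc_12_1 lc_d_rc_8_3 lc_d_rc_23_2 lc_d_rc_27_10 lc_d_rc_15_1 lc_d_rc_23_8 lc_d_rc_22_2 lc_d_rc_8_3 lc_d_rc_3_3 lc_d_rc_16_2 lc_d_rc_16_4 lc_d_rc_8_1 lc_d_rc_15_1 lc_d_rc_8_3 lc_d_rc_27_4 lc_d_rc_8_1 lc_d_rc_24_0 lc_d_rc_16_4 lc_d_rc_15_1 lc_d_Cert_tree lc_d_rc_15_1 lc_d_rc_16_2 lc_d_rc_15_1 lc_d_rc_15_1 lc_d_rc_16_2 lc_d_rc_8_3 lc_d_rc_16_0 lc_d_rc_23_2 lc_d_rc_8_3 lc_d_rc_15_1 lc_d_rc_3_3 lc_d_Cert_tree lc_d_rc_15_1 lc_d_rc_22_8 lc_d_rc_23_6 lc_d_rc_8_1 lc_d_Cert_tree lc_d_rc_8_3 lc_d_Cert_tree lc_d_rc_15_1) (@D3.rec (fun _ => (Cert rels S Gen.d)) lc_d_rc_8_1 lc_d_rc_15_1 lc_d_rc_15_1 lc_d_rc_8_3 lc_d_rc_15_1 lc_d_rc_23_2 lc_d_rc_15_1 lc_d_rc_24_0 lc_d_Cert_tree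 lc_d_rc_8_3 lc_d_rc_15_1 lc_d_rc_27_4 lc_d_rc_17_0 lc_d_rc_15_1 lc_d_rc_27_8 lc_d_rc_15_1 lc_d_rc_15_1 lc_d_rc_15_1 lc_d_rc_24_5 lc_d_rc_16_2 lc_d_rc_23_2 lc_d_rc_15_1 lc_d_rc_3_3 lc_d_rc_17_2 lc_d_rc_23_8 lc_d_rc_23_6 lc_d_rc_15_1 lc_d_rc_15_1 lc_d_rc_16_2 lc_d_rc_15_1 lc_d_rc_16_2 lc_d_rc_22_6 lc_d_rc_15_1 lc_d_rc_24_5 lc_d_rc_17_2 lc_d_rc_16_4 lc_d_rc_24_5 lc_d_rc_23_8 lc_d_rc_27_4 lc_d_rc_15_1 lc_d_rc_15_1 lc_d_rc_22_8 lc_d_rc_24_5 lc_d_rc_15_1 lc_d_rc_22_2 lc_d_rc_17_0 lc_d_rc_22_6 lc_d_rc_27_4 lc_d_rc_27_10 lc_d_rc_15_1 lc_d_rc_15_1 lc_d_rc_15_1 lc_d_rc_24_0 lc_d_rc_15_1 lc_d_rc_8_3 lc_d_rc_15_1 lc_d_rc_15_1 lc_d_rc_27_4 lc_d_rc_8_1 lc_d_rc_15_1 lc_d_rc_27_8 lc_d_rc_15_1)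 (@D3.rec (fun _ => (Cert rels S Gen.d)) lc_d_rc_15_1 lc_d_rc_15_1 lc_d_rc_3_3 lc_d_rc_16_4 lc_d_rc_15_1 lc_d_rc_27_8 lc_d_rc_15_1 lc_d_rc_15_1 lc_d_rc_23_8 lc_d_rc_27_4 lc_d_rc_15_1 lc_d_rc_15_1 lc_d_Cert_tree lc_d_rc_15_1 lc_d_rc_27_2 lc_d_Cert_tree lc_d_rc_22_6 lc_d_Cert_tree lc_d_rc_15_1 lc_d_rc_23_8 lc_d_rc_15_1 lc_d_rc_15_1 lc_d_rc_23_2 lc_d_rc_8_3 lc_d_Cert_tree lc_d_Cert_tree lc_d_Cert_tree lc_d_rc_15_1 lc_d_rc_23_2 lc_d_rc_24_0 lc_d_Cert_tree lc_d_Cert_tree lc_d_Cert_tree lc_d_rc_15_1 lc_d_rc_17_2 lc_d_Cert_tree lc_d_rc_15_1 lc_d_rc_27_8 lc_d_rc_27_8 lc_d_rc_15_1 lc_d_rc_27_4 lc_d_Cert_tree lc_d_rc_15_1 lc_d_rc_17_2 lc_d_rc_15_1 lc_d_rc_27_4 lc_d_rc_15_1 lc_d_rc_15_1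 lc_d_rc_8_3 lc_d_rc_16_4 lc_d_rc_15_1 lc_d_rc_17_2 lc_d_Cert_tree lc_d_rc_15_1 lc_d_rc_22_6 lc_d_Cert_tree lc_d_rc_15_1 lc_d_rc_15_1 lc_d_Cert_tree lc_d_rc_16_4 lc_d_rc_8_1 lc_d_rc_3_1) (@D3.rec (fun _ => (Cert rels S Gen.d)) lc_d_rc_16_4 lc_d_rc_23_4 lc_d_rc_24_0 lc_d_rc_27_8 lc_d_rc_27_2 lc_d_rc_15_1 lc_d_Cert_tree lc_d_rc_15_1 lc_d_rc_17_2 lc_d_rc_15_1 lc_d_Cert_tree lc_d_Cert_tree lc_d_rc_15_1 lc_d_rc_27_10 lc_d_rc_15_1 lc_d_rc_15_1 lc_d_rc_17_2 lc_d_rc_15_1 lc_d_rc_15_1 lc_d_rc_15_1 lc_d_rc_15_1 lc_d_rc_17_2 lc_d_rc_27_4 lc_d_rc_12_1 lc_d_rc_17_2 lc_d_rc_24_0 lc_d_rc_15_1 lc_d_Cert_tree lc_d_rc_22_2 lc_d_Cert_tree lc_d_rc_15_1 lc_d_rc_17_2 lc_d_rc_15_1 lc_d_rc_27_8 lc_d_rc_8_1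 lc_d_rc_16_4 lc_d_rc_15_1 lc_d_rc_15_1 lc_d_rc_15_1 lc_d_rc_27_2 lc_d_rc_17_2 lc_d_Cert_tree lc_d_rc_22_2 lc_d_rc_15_1 lc_d_Cert_tree lc_d_Cert_tree lc_d_Cert_tree lc_d_rc_15_1 lc_d_rc_15_1 lc_d_rc_27_4 lc_d_rc_27_2 lc_d_rc_8_3 lc_d_rc_15_1 lc_d_Cert_tree lc_d_rc_8_3 lc_d_rc_17_2 lc_d_Cert_tree lc_d_rc_15_1 lc_d_rc_3_3 lc_d_Cert_tree lc_d_rc_15_1 lc_d_rc_16_4) (@D3.rec (fun _ => (Cert rels S Gen.d)) lc_d_rc_15_1 lc_d_Cert_tree lc_d_rc_15_1 lc_d_rc_22_4 lc_d_rc_15_1 lc_d_rc_27_2 lc_d_rc_15_1 lc_d_rc_15_1 lc_d_rc_15_1 lc_d_rc_16_4 lc_d_rc_27_8 lc_d_rc_8_3 lc_d_Cert_tree lc_d_rc_17_2 lc_d_rc_25_14 lc_d_rc_15_1 lc_d_Cert_tree lc_d_rc_15_1 lc_d_rc_15_1 lc_d_rc_27_2 lc_d_rc_8_3 lc_d_rc_15_1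 lc_d_rc_16_4 lc_d_rc_23_8 lc_d_rc_22_4 lc_d_Cert_tree lc_d_rc_15_1 lc_d_rc_15_1 lc_d_rc_23_2 lc_d_rc_8_3 lc_d_rc_15_1 lc_d_rc_23_2 lc_d_rc_8_3 lc_d_rc_15_1 lc_d_rc_23_4 lc_d_rc_15_1 lc_d_rc_3_3 lc_d_rc_15_1 lc_d_rc_16_4 lc_d_rc_12_1 lc_d_rc_16_2 lc_d_rc_27_2 lc_d_rc_15_1 lc_d_rc_16_2 lc_d_rc_15_1 lc_d_rc_27_4 lc_d_rc_27_2 lc_d_rc_8_3 lc_d_Cert_tree lc_d_Cert_tree lc_d_rc_15_1 lc_d_rc_15_1 lc_d_rc_15_1 lc_d_rc_15_1 lc_d_rc_23_4 lc_d_rc_24_0 lc_d_rc_16_4 lc_d_rc_27_10 lc_d_rc_3_3 lc_d_rc_17_2 lc_d_rc_27_10 lc_d_rc_16_2) (@D3.rec (fun _ => (Cert rels S Gen.d)) lc_d_rc_22_4 lc_d_rc_16_2 lc_d_rc_25_14 lc_d_rc_24_0 lc_d_rc_24_0 lc_d_rc_8_3 lc_d_rc_15_1 lc_d_rc_3_3 lc_d_rc_15_1 lc_d_rc_16_2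 lc_d_rc_8_3 lc_d_rc_15_1 lc_d_rc_27_8 lc_d_rc_3_3 lc_d_rc_12_15 lc_d_rc_15_1 lc_d_rc_16_4 lc_d_rc_15_1 lc_d_rc_8_3 lc_d_rc_15_1 lc_d_rc_3_3 lc_d_rc_15_1 lc_d_rc_17_0 lc_d_rc_3_3 lc_d_rc_27_2 lc_d_rc_3_3 lc_d_rc_8_3 lc_d_rc_25_2 lc_d_rc_15_1 lc_d_Cert_tree lc_d_rc_25_2 lc_d_rc_24_0 lc_d_rc_23_4 lc_d_rc_8_3 lc_d_rc_24_5 lc_d_Cert_tree lc_d_rc_15_1 lc_d_rc_8_1 lc_d_rc_23_4 lc_d_rc_27_2 lc_d_rc_22_2 lc_d_Cert_tree lc_d_rc_15_1 lc_d_rc_15_1 lc_d_rc_16_0 lc_d_rc_16_0 lc_d_rc_15_1 lc_d_rc_22_2 lc_d_rc_16_4 lc_d_rc_3_3 lc_d_rc_17_2 lc_d_Cert_tree lc_d_rc_15_1 lc_d_rc_15_1 lc_d_rc_27_10 lc_d_rc_27_4 lc_d_rc_15_1 lc_d_rc_22_8 lc_d_rc_23_8 lc_d_rc_22_8 lc_d_rc_15_1 lc_d_rc_17_2) (@D3.rec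 (fun _ => (Cert rels S Gen.d)) lc_d_rc_12_15 lc_d_rc_27_2 lc_d_rc_8_3 lc_d_rc_15_1 lc_d_Cert_tree lc_d_rc_8_1 lc_d_rc_24_5 lc_d_rc_15_1 lc_d_rc_15_1 lc_d_rc_16_4 lc_d_rc_24_5 lc_d_Cert_tree lc_d_Cert_tree lc_d_rc_8_3 lc_d_Cert_tree lc_d_rc_23_8 lc_d_Cert_tree lc_d_rc_15_1 lc_d_rc_12_15 lc_d_Cert_tree lc_d_rc_15_1 lc_d_Cert_tree lc_d_Cert_tree lc_d_rc_15_1 lc_d_rc_24_5 lc_d_rc_16_0 lc_d_rc_27_2 lc_d_rc_3_3 lc_d_rc_23_4 lc_d_rc_8_3 lc_d_rc_8_1 lc_d_Cert_tree lc_d_Cert_tree lc_d_rc_8_1 lc_d_rc_15_1 lc_d_rc_27_2 lc_d_Cert_tree lc_d_rc_16_2 lc_d_rc_15_1 lc_d_rc_15_1 lc_d_rc_15_1 lc_d_rc_8_3 lc_d_Cert_tree lc_d_rc_8_3 lc_d_rc_23_2 lc_d_rc_15_1 lc_d_rc_15_1 lc_d_Cert_tree lc_d_Cert_tree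 lc_d_rc_24_5 lc_d_rc_24_5 lc_d_rc_15_1 lc_d_rc_22_6 lc_d_rc_15_1 lc_d_rc_8_3 lc_d_rc_15_1 lc_d_rc_23_4 lc_d_rc_15_1 lc_d_rc_8_3 lc_d_rc_22_6 lc_d_rc_8_3 lc_d_Cert_tree) (@D3.rec (fun _ => (Cert rels S Gen.d)) lc_d_rc_8_3 lc_d_rc_23_6 lc_d_rc_17_2 lc_d_Cert_tree lc_d_rc_23_6 lc_d_rc_15_1 lc_d_rc_8_3 lc_d_rc_23_6 lc_d_Cert_tree lc_d_rc_15_1 lc_d_rc_27_4 lc_d_rc_22_6 lc_d_rc_16_4 lc_d_rc_15_1 lc_d_rc_15_1 lc_d_rc_24_0 lc_d_rc_15_1 lc_d_rc_16_2 lc_d_rc_15_1 lc_d_rc_23_2 lc_d_Cert_tree lc_d_rc_15_1 lc_d_rc_27_4 lc_d_rc_23_6 lc_d_rc_16_4 lc_d_rc_16_4 lc_d_Cert_tree lc_d_Cert_tree lc_d_rc_15_1 lc_d_Cert_tree lc_d_rc_17_2 lc_d_rc_16_4 lc_d_rc_15_1 lc_d_rc_25_18 lc_d_Cert_tree lc_d_rc_15_1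 lc_d_rc_17_2 lc_d_rc_8_3 lc_d_Cert_tree lc_d_rc_23_8 lc_d_rc_15_1 lc_d_rc_17_2 lc_d_rc_24_0 lc_d_rc_17_2 lc_d_rc_27_4 lc_d_rc_15_1 lc_d_rc_16_4 lc_d_rc_16_4 lc_d_rc_15_1 lc_d_rc_15_1 lc_d_rc_16_4 lc_d_rc_15_1 lc_d_rc_15_1 lc_d_rc_23_4 lc_d_rc_15_1 lc_d_rc_17_2 lc_d_Cert_tree lc_d_rc_22_2 lc_d_rc_15_1 lc_d_rc_15_1 lc_d_rc_8_1 lc_d_rc_27_8) (@D3.rec (fun _ => (Cert rels S Gen.d)) lc_d_rc_27_2 lc_d_rc_23_2 lc_d_rc_8_3 lc_d_rc_8_3 lc_d_rc_22_4 lc_d_Cert_tree lc_d_rc_15_1 lc_d_rc_8_3 lc_d_rc_15_1 lc_d_rc_27_4 lc_d_rc_15_1 lc_d_rc_25_6 lc_d_rc_22_2 lc_d_rc_23_4 lc_d_rc_8_1 lc_d_rc_15_1 lc_d_rc_15_1 lc_d_rc_8_3 lc_d_rc_16_2 lc_d_rc_15_1 lc_d_rc_15_1 lc_d_rc_23_6 lc_d_rc_8_3 lc_d_Cert_tree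 lc_d_rc_16_4 lc_d_rc_17_2 lc_d_rc_15_1 lc_d_rc_17_2 lc_d_rc_24_5 lc_d_rc_15_1 lc_d_Cert_tree lc_d_rc_15_1 lc_d_rc_15_1 lc_d_rc_27_8 lc_d_rc_3_1 lc_d_rc_3_3 lc_d_rc_27_10 lc_d_Cert_tree lc_d_rc_15_1 lc_d_rc_15_1 lc_d_rc_27_4 lc_d_rc_25_6 lc_d_rc_17_2 lc_d_Cert_tree lc_d_rc_15_1 lc_d_rc_23_4 lc_d_rc_23_4 lc_d_Cert_tree lc_d_rc_15_1 lc_d_rc_24_0 lc_d_rc_3_1 lc_d_rc_23_2 lc_d_rc_16_4 lc_d_Cert_tree lc_d_rc_15_1 lc_d_rc_15_1 lc_d_rc_3_3 lc_d_rc_23_6 lc_d_rc_16_2 lc_d_Cert_tree lc_d_rc_15_1 lc_d_rc_22_4) (@D3.rec (fun _ => (Cert rels S Gen.d)) lc_d_rc_27_8 lc_d_rc_27_4 lc_d_Cert_tree lc_d_Cert_tree lc_d_rc_15_1 lc_d_rc_22_6 lc_d_rc_15_1 lc_d_rc_8_3 lc_d_rc_16_0 lc_d_rc_8_3 lc_d_Cert_tree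 lc_d_Cert_tree lc_d_rc_15_1 lc_d_rc_17_2 lc_d_Cert_tree lc_d_rc_15_1 lc_d_rc_22_2 lc_d_rc_8_1 lc_d_rc_22_6 lc_d_rc_17_2 lc_d_rc_15_1 lc_d_rc_27_4 lc_d_rc_15_1 lc_d_rc_17_2 lc_d_Cert_tree lc_d_rc_17_2 lc_d_rc_15_1 lc_d_rc_27_4 lc_d_rc_15_1 lc_d_rc_16_2 lc_d_rc_22_2 lc_d_rc_16_2 lc_d_rc_15_1 lc_d_rc_22_8 lc_d_rc_27_4 lc_d_Cert_tree lc_d_rc_16_4 lc_d_rc_15_1 lc_d_rc_15_1 lc_d_rc_8_3 lc_d_rc_23_6 lc_d_Cert_tree lc_d_rc_8_3 lc_d_Cert_tree lc_d_rc_15_1 lc_d_rc_8_3 lc_d_Cert_tree lc_d_rc_16_2 lc_d_rc_23_6 lc_d_rc_3_3 lc_d_rc_27_8 lc_d_rc_12_3 lc_d_rc_27_8 lc_d_Cert_tree lc_d_rc_15_1 lc_d_rc_15_1 lc_d_rc_17_2 lc_d_Cert_tree lc_d_rc_23_8 lc_d_rc_23_8 lc_d_rc_27_8 lc_d_Cert_tree) (@D3.rec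 (fun _ => (Cert rels S Gen.d)) lc_d_rc_15_1 lc_d_Cert_tree lc_d_Cert_tree lc_d_Cert_tree lc_d_rc_15_1 lc_d_rc_16_4 lc_d_rc_8_3 lc_d_rc_15_1 lc_d_rc_23_2 lc_d_rc_15_1 lc_d_rc_17_2 lc_d_rc_25_18 lc_d_Cert_tree lc_d_Cert_tree lc_d_Cert_tree lc_d_Cert_tree lc_d_rc_15_1 lc_d_rc_22_6 lc_d_rc_16_2 lc_d_rc_17_2 lc_d_rc_16_0 lc_d_rc_27_8 lc_d_Cert_tree lc_d_rc_15_1 lc_d_rc_16_0 lc_d_rc_27_10 lc_d_rc_15_1 lc_d_rc_15_1 lc_d_rc_24_0 lc_d_rc_17_0 lc_d_Cert_tree lc_d_rc_15_1 lc_d_rc_15_1 lc_d_Cert_tree lc_d_rc_15_1 lc_d_rc_17_2 lc_d_rc_24_5 lc_d_rc_15_1 lc_d_Cert_tree lc_d_rc_8_3 lc_d_rc_15_1 lc_d_rc_27_4 lc_d_rc_23_6 lc_d_rc_15_1 lc_d_rc_23_8 lc_d_Cert_tree lc_d_rc_15_1 lc_d_rc_17_2 lc_d_rc_3_1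 lc_d_rc_15_1 lc_d_rc_15_1 lc_d_rc_17_2 lc_d_Cert_tree lc_d_rc_15_1 lc_d_Cert_tree lc_d_rc_15_1 lc_d_Cert_tree lc_d_rc_23_4 lc_d_rc_23_6 lc_d_Cert_tree lc_d_rc_17_2 lc_d_rc_8_3) (@D3.rec (fun _ => (Cert rels S Gen.d)) lc_d_rc_27_4 lc_d_rc_8_3 lc_d_rc_15_1 lc_d_rc_27_4 lc_d_rc_15_1 lc_d_rc_27_10 lc_d_rc_3_3 lc_d_Cert_tree lc_d_Cert_tree lc_d_rc_8_3 lc_d_rc_12_1 lc_d_rc_27_2 lc_d_rc_8_3 lc_d_Cert_tree lc_d_rc_8_3 lc_d_Cert_tree lc_d_rc_15_1 lc_d_rc_22_4 lc_d_rc_8_3 lc_d_Cert_tree lc_d_rc_27_4 lc_d_rc_27_2 lc_d_rc_15_1 lc_d_rc_16_4 lc_d_rc_15_1 lc_d_rc_15_1 lc_d_rc_22_8 lc_d_rc_23_2 lc_d_rc_12_15 lc_d_rc_17_2 lc_d_Cert_tree lc_d_rc_27_2 lc_d_rc_23_6 lc_d_rc_15_1 lc_d_Cert_tree lc_d_rc_8_3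 lc_d_rc_8_3 lc_d_Cert_tree lc_d_rc_15_1 lc_d_rc_23_6 lc_d_rc_27_4 lc_d_Cert_tree lc_d_rc_15_1 lc_d_rc_27_2 lc_d_rc_24_5 lc_d_rc_15_1 lc_d_Cert_tree lc_d_rc_24_5 lc_d_rc_27_2 lc_d_rc_15_1 lc_d_Cert_tree lc_d_rc_27_10 lc_d_rc_27_10 lc_d_rc_15_1 lc_d_rc_17_2 lc_d_Cert_tree lc_d_rc_3_3 lc_d_rc_16_4 lc_d_Cert_tree lc_d_Cert_tree lc_d_rc_15_1 lc_d_rc_17_2) (@D3.rec (fun _ => (Cert rels S Gen.d)) lc_d_Cert_tree lc_d_rc_15_1 lc_d_rc_23_2 lc_d_Cert_tree lc_d_rc_15_1 lc_d_Cert_tree lc_d_rc_15_1 lc_d_rc_3_3 lc_d_Cert_tree lc_d_rc_17_2 lc_d_Cert_tree lc_d_rc_15_1 lc_d_rc_27_4 lc_d_rc_15_1 lc_d_rc_15_1 lc_d_rc_27_2 lc_d_rc_17_2 lc_d_Cert_tree lc_d_rc_15_1 lc_d_rc_15_1 lc_d_rc_3_1 lc_d_rc_22_6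 lc_d_rc_16_2 lc_d_rc_8_3 lc_d_rc_24_0 lc_d_rc_3_3 lc_d_rc_23_8 lc_d_Cert_tree lc_d_rc_23_2 lc_d_rc_8_3 lc_d_rc_16_4 lc_d_rc_27_8 lc_d_Cert_tree lc_d_rc_15_1 lc_d_Cert_tree lc_d_Cert_tree lc_d_rc_15_1 lc_d_rc_3_1 lc_d_rc_16_2 lc_d_Cert_tree lc_d_rc_15_1 lc_d_Cert_tree lc_d_rc_15_1 lc_d_rc_22_8 lc_d_rc_27_2 lc_d_rc_15_1 lc_d_rc_23_6 lc_d_Cert_tree lc_d_Cert_tree lc_d_rc_27_10 lc_d_rc_27_10 lc_d_rc_15_1 lc_d_rc_22_8 lc_d_rc_16_4 lc_d_rc_16_4 lc_d_rc_15_1 lc_d_rc_17_2 lc_d_rc_24_0 lc_d_rc_15_1 lc_d_Cert_tree lc_d_Cert_tree lc_d_rc_15_1) (@D3.rec (fun _ => (Cert rels S Gen.d)) lc_d_rc_3_3 lc_d_rc_17_2 lc_d_rc_24_0 lc_d_rc_8_3 lc_d_Cert_tree lc_d_rc_27_10 lc_d_rc_15_1 lc_d_rc_27_4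 lc_d_rc_27_2 lc_d_rc_15_1 lc_d_rc_27_8 lc_d_rc_23_4 lc_d_rc_15_1 lc_d_rc_22_8 lc_d_rc_3_3 lc_d_rc_15_1 lc_d_rc_17_2 lc_d_Cert_tree lc_d_rc_16_2 lc_d_rc_15_1 lc_d_rc_15_1 lc_d_rc_3_1 lc_d_rc_27_2 lc_d_rc_27_2 lc_d_rc_23_2 lc_d_rc_8_3 lc_d_Cert_tree lc_d_rc_15_1 lc_d_rc_15_1 lc_d_rc_15_1 lc_d_rc_15_1 lc_d_rc_15_1 lc_d_rc_23_2 lc_d_rc_22_2 lc_d_rc_23_2 lc_d_rc_23_4 lc_d_rc_24_5 lc_d_Cert_tree lc_d_rc_8_1 lc_d_rc_8_3 lc_d_Cert_tree lc_d_rc_23_6 lc_d_Cert_tree lc_d_rc_15_1 lc_d_rc_8_3 lc_d_rc_22_2 lc_d_rc_16_4 lc_d_rc_15_1 lc_d_rc_15_1 lc_d_rc_27_4 lc_d_rc_15_1 lc_d_rc_17_2 lc_d_Cert_tree lc_d_rc_15_1 lc_d_Cert_tree lc_d_rc_8_1 lc_d_rc_15_1 lc_d_rc_15_1 lc_d_Cert_tree lc_d_Cert_tree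 lc_d_rc_15_1 lc_d_rc_16_4) (@D3.rec (fun _ => (Cert rels S Gen.d)) lc_d_rc_8_1 lc_d_rc_23_2 lc_d_rc_16_4 lc_d_rc_15_1 lc_d_rc_8_3 lc_d_rc_15_1 lc_d_rc_8_3 lc_d_Cert_tree lc_d_rc_15_1 lc_d_Cert_tree lc_d_Cert_tree lc_d_rc_15_1 lc_d_rc_15_1 lc_d_rc_15_1 lc_d_rc_23_8 lc_d_Cert_tree lc_d_rc_15_1 lc_d_rc_8_3 lc_d_rc_3_3 lc_d_rc_8_1 lc_d_rc_15_1 lc_d_Cert_tree lc_d_Cert_tree lc_d_Cert_tree lc_d_rc_15_1 lc_d_rc_17_2 lc_d_rc_24_5 lc_d_rc_15_1 lc_d_rc_16_2 lc_d_Cert_tree lc_d_Cert_tree lc_d_rc_15_1 lc_d_rc_3_1 lc_d_rc_27_8 lc_d_rc_16_0 lc_d_rc_15_1 lc_d_Cert_tree lc_d_Cert_tree lc_d_rc_23_4 lc_d_rc_23_4 lc_d_rc_17_2 lc_d_Cert_tree lc_d_rc_23_4 lc_d_rc_15_1 lc_d_Cert_tree lc_d_Cert_tree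 lc_d_rc_16_0 lc_d_rc_15_1 lc_d_Cert_tree lc_d_rc_15_1 lc_d_rc_15_1 lc_d_Cert_tree lc_d_rc_17_2 lc_d_rc_22_2 lc_d_rc_3_3 lc_d_rc_25_18 lc_d_Cert_tree lc_d_rc_15_1 lc_d_rc_17_0 lc_d_rc_27_10 lc_d_Cert_tree lc_d_rc_15_1) (@D3.rec (fun _ => (Cert rels S Gen.d)) lc_d_Cert_tree lc_d_rc_16_4 lc_d_rc_15_1 lc_d_rc_8_3 lc_d_rc_15_1 lc_d_rc_8_3 lc_d_Cert_tree lc_d_rc_15_1 lc_d_Cert_tree lc_d_rc_15_1 lc_d_Cert_tree lc_d_rc_8_3 lc_d_rc_16_4 lc_d_rc_27_10 lc_d_rc_16_0 lc_d_rc_27_2 lc_d_rc_27_4 lc_d_rc_16_4 lc_d_rc_22_8 lc_d_rc_16_0 lc_d_rc_15_1 lc_d_rc_3_1 lc_d_rc_15_1 lc_d_rc_23_2 lc_d_rc_22_4 lc_d_rc_15_1 lc_d_rc_8_3 lc_d_rc_8_3 lc_d_rc_15_1 lc_d_rc_27_4 lc_d_Cert_tree lc_d_rc_15_1 lc_d_Cert_tree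 lc_d_Cert_tree lc_d_rc_15_1 lc_d_rc_15_1 lc_d_Cert_tree lc_d_rc_17_2 lc_d_rc_16_4 lc_d_Cert_tree lc_d_Cert_tree lc_d_rc_15_1 lc_d_rc_15_1 lc_d_rc_23_8 lc_d_rc_23_8 lc_d_rc_8_3 lc_d_rc_15_1 lc_d_rc_15_1 lc_d_rc_23_6 lc_d_Cert_tree lc_d_rc_22_4 lc_d_rc_15_1 lc_d_Cert_tree lc_d_Cert_tree lc_d_rc_16_0 lc_d_rc_15_1 lc_d_rc_27_8 lc_d_Cert_tree lc_d_Cert_tree lc_d_rc_17_2 lc_d_rc_8_3 lc_d_rc_8_3) (@D3.rec (fun _ => (Cert rels S Gen.d)) lc_d_rc_3_1 lc_d_rc_15_1 lc_d_Cert_tree lc_d_rc_24_5 lc_d_Cert_tree lc_d_rc_27_4 lc_d_rc_15_1 lc_d_rc_8_3 lc_d_rc_16_4 lc_d_rc_23_2 lc_d_rc_12_1 lc_d_rc_24_5 lc_d_rc_3_3 lc_d_rc_23_2 lc_d_Cert_tree lc_d_rc_15_1 lc_d_rc_17_2 lc_d_rc_16_4 lc_d_Cert_tree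 lc_d_rc_15_1 lc_d_rc_22_6 lc_d_rc_25_18 lc_d_rc_15_1 lc_d_rc_17_2 lc_d_rc_17_0 lc_d_rc_15_1 lc_d_rc_15_1 lc_d_Cert_tree lc_d_Cert_tree lc_d_rc_22_8 lc_d_rc_17_0 lc_d_rc_17_2 lc_d_rc_8_1 lc_d_rc_15_1 lc_d_Cert_tree lc_d_rc_15_1 lc_d_rc_24_0 lc_d_rc_23_4 lc_d_Cert_tree lc_d_Cert_tree lc_d_Cert_tree lc_d_rc_15_1 lc_d_rc_17_2 lc_d_rc_15_1 lc_d_rc_27_4 lc_d_rc_27_2 lc_d_rc_15_1 lc_d_rc_23_6 lc_d_rc_15_1 lc_d_Cert_tree lc_d_rc_17_2 lc_d_Cert_tree lc_d_rc_15_1 lc_d_rc_27_2 lc_d_rc_23_2 lc_d_rc_17_0 lc_d_rc_15_1 lc_d_rc_15_1 lc_d_rc_23_6 lc_d_Cert_tree lc_d_Cert_tree lc_d_rc_8_1) (@D3.rec (fun _ => (Cert rels S Gen.d)) lc_d_rc_15_1 lc_d_rc_16_2 lc_d_rc_15_1 lc_d_rc_15_1 lc_d_Cert_tree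 lc_d_rc_16_0 lc_d_rc_16_0 lc_d_rc_15_1 lc_d_rc_27_4 lc_d_Cert_tree lc_d_Cert_tree lc_d_rc_15_1 lc_d_rc_22_2 lc_d_rc_23_2 lc_d_rc_22_2 lc_d_rc_23_2 lc_d_rc_15_1 lc_d_rc_27_10 lc_d_Cert_tree lc_d_rc_15_1 lc_d_rc_15_1 lc_d_rc_15_1 lc_d_rc_3_3 lc_d_rc_15_1 lc_d_rc_15_1 lc_d_rc_27_10 lc_d_Cert_tree lc_d_rc_15_1 lc_d_rc_23_8 lc_d_rc_15_1 lc_d_rc_12_13 lc_d_Cert_tree lc_d_rc_27_8 lc_d_rc_24_0 lc_d_rc_15_1 lc_d_rc_15_1 lc_d_rc_27_4 lc_d_rc_15_1 lc_d_rc_27_2 lc_d_Cert_tree lc_d_rc_23_4 lc_d_rc_15_1 lc_d_rc_15_1 lc_d_rc_3_3 lc_d_rc_8_3 lc_d_rc_23_4 lc_d_Cert_tree lc_d_rc_15_1 lc_d_rc_17_2 lc_d_Cert_tree lc_d_Cert_tree lc_d_rc_15_1 lc_d_rc_15_1 lc_d_rc_17_2 lc_d_Cert_tree lc_d_rc_12_15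 lc_d_rc_16_2 lc_d_rc_22_2 lc_d_rc_22_6 lc_d_rc_8_1 lc_d_rc_22_4 lc_d_rc_17_2) (@D3.rec (fun _ => (Cert rels S Gen.d)) lc_d_rc_3_1 lc_d_rc_22_4 lc_d_rc_3_3 lc_d_rc_8_3 lc_d_Cert_tree lc_d_Cert_tree lc_d_Cert_tree lc_d_rc_15_1 lc_d_rc_24_0 lc_d_rc_16_0 lc_d_rc_22_2 lc_d_rc_15_1 lc_d_Cert_tree lc_d_Cert_tree lc_d_Cert_tree lc_d_rc_15_1 lc_d_rc_8_3 lc_d_rc_16_4 lc_d_rc_3_3 lc_d_Cert_tree lc_d_rc_15_1 lc_d_rc_22_6 lc_d_rc_15_1 lc_d_Cert_tree lc_d_rc_23_6 lc_d_rc_8_1 lc_d_Cert_tree lc_d_Cert_tree lc_d_rc_15_1 lc_d_rc_12_1 lc_d_rc_15_1 lc_d_Cert_tree lc_d_rc_16_4 lc_d_rc_8_3 lc_d_Cert_tree lc_d_rc_16_4 lc_d_Cert_tree lc_d_Cert_tree lc_d_rc_8_1 lc_d_rc_15_1 lc_d_rc_27_10 lc_d_rc_24_0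 lc_d_rc_27_8 lc_d_rc_22_2 lc_d_rc_16_4 lc_d_Cert_tree lc_d_rc_24_5 lc_d_rc_15_1 lc_d_rc_15_1 lc_d_rc_23_6 lc_d_rc_23_8 lc_d_rc_23_8 lc_d_rc_15_1 lc_d_rc_27_8 lc_d_rc_17_2 lc_d_rc_15_1 lc_d_rc_15_1 lc_d_Cert_tree lc_d_rc_3_3 lc_d_rc_23_2 lc_d_Cert_tree lc_d_rc_15_1) (@D3.rec (fun _ => (Cert rels S Gen.d)) lc_d_rc_15_1 lc_d_rc_8_3 lc_d_rc_8_3 lc_d_Cert_tree lc_d_rc_15_1 lc_d_rc_15_1 lc_d_rc_17_2 lc_d_rc_8_1 lc_d_Cert_tree lc_d_rc_17_2 lc_d_rc_15_1 lc_d_Cert_tree lc_d_rc_15_1 lc_d_Cert_tree lc_d_rc_15_1 lc_d_rc_24_5 lc_d_rc_15_1 lc_d_rc_3_1 lc_d_rc_15_1 lc_d_Cert_tree lc_d_rc_15_1 lc_d_rc_22_8 lc_d_rc_23_8 lc_d_Cert_tree lc_d_rc_15_1 lc_d_rc_27_8 lc_d_Cert_tree lc_d_rc_15_1 lc_d_rc_23_4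 lc_d_rc_15_1 lc_d_rc_22_6 lc_d_rc_15_1 lc_d_rc_8_3 lc_d_Cert_tree lc_d_rc_27_2 lc_d_rc_15_1 lc_d_rc_24_0 lc_d_rc_15_1 lc_d_rc_22_6 lc_d_rc_16_4 lc_d_Cert_tree lc_d_rc_15_1 lc_d_Cert_tree lc_d_Cert_tree lc_d_Cert_tree lc_d_rc_15_1 lc_d_rc_16_2 lc_d_Cert_tree lc_d_Cert_tree lc_d_Cert_tree lc_d_rc_15_1 lc_d_rc_8_3 lc_d_rc_16_2 lc_d_rc_23_8 lc_d_rc_27_10 lc_d_Cert_tree lc_d_rc_15_1 lc_d_rc_16_4 lc_d_Cert_tree lc_d_Cert_tree lc_d_Cert_tree lc_d_rc_15_1) (@D3.rec (fun _ => (Cert rels S Gen.d)) lc_d_rc_8_3 lc_d_rc_16_2 lc_d_Cert_tree lc_d_rc_8_3 lc_d_Cert_tree lc_d_rc_15_1 lc_d_rc_17_0 lc_d_rc_24_5 lc_d_rc_15_1 lc_d_rc_25_6 lc_d_Cert_tree lc_d_rc_15_1 lc_d_rc_15_1 lc_d_rc_15_1 lc_d_rc_15_1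 lc_d_rc_22_6 lc_d_rc_16_4 lc_d_rc_8_3 lc_d_rc_16_2 lc_d_rc_8_3 lc_d_rc_22_4 lc_d_rc_8_3 lc_d_Cert_tree lc_d_Cert_tree lc_d_rc_16_0 lc_d_rc_17_2 lc_d_rc_27_10 lc_d_rc_15_1 lc_d_rc_17_2 lc_d_rc_24_5 lc_d_rc_15_1 lc_d_rc_8_1 lc_d_rc_15_1 lc_d_rc_12_3 lc_d_rc_23_4 lc_d_rc_22_2 lc_d_Cert_tree lc_d_rc_8_3 lc_d_Cert_tree lc_d_rc_15_1 lc_d_Cert_tree lc_d_rc_16_4 lc_d_rc_15_1 lc_d_Cert_tree lc_d_rc_23_4 lc_d_rc_16_2 lc_d_Cert_tree lc_d_Cert_tree lc_d_rc_8_3 lc_d_rc_12_3 lc_d_Cert_tree lc_d_Cert_tree lc_d_Cert_tree lc_d_rc_15_1 lc_d_rc_22_4 lc_d_rc_15_1 lc_d_rc_22_6 lc_d_rc_16_4 lc_d_rc_23_8 lc_d_rc_23_8 lc_d_Cert_tree lc_d_rc_15_1) (@D3.rec (fun _ => (Cert rels S Gen.d)) lc_d_rc_8_1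 lc_d_rc_15_1 lc_d_rc_15_1 lc_d_rc_12_1 lc_d_rc_23_2 lc_d_Cert_tree lc_d_rc_15_1 lc_d_rc_22_4 lc_d_rc_15_1 lc_d_rc_27_10 lc_d_rc_15_1 lc_d_rc_27_4 lc_d_rc_15_1 lc_d_Cert_tree lc_d_rc_8_3 lc_d_rc_15_1 lc_d_rc_15_1 lc_d_rc_15_1 lc_d_rc_12_3 lc_d_rc_3_1 lc_d_rc_15_1 lc_d_rc_15_1 lc_d_rc_16_0 lc_d_rc_15_1 lc_d_rc_23_4 lc_d_rc_15_1 lc_d_rc_27_2 lc_d_rc_23_2 lc_d_rc_27_10 lc_d_rc_3_3 lc_d_rc_8_3 lc_d_rc_15_1 lc_d_Cert_tree lc_d_rc_3_1 lc_d_rc_27_4 lc_d_rc_15_1 lc_d_rc_16_4 lc_d_rc_3_3 lc_d_rc_16_4 lc_d_rc_22_6 lc_d_rc_27_8 lc_d_rc_15_1 lc_d_rc_27_10 lc_d_rc_27_2 lc_d_Cert_tree lc_d_rc_16_2 lc_d_rc_17_2 lc_d_rc_16_4 lc_d_rc_23_8 lc_d_rc_15_1 lc_d_rc_17_2 lc_d_rc_15_1 lc_d_rc_3_1 lc_d_Cert_tree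 lc_d_rc_23_2 lc_d_rc_22_2 lc_d_Cert_tree lc_d_rc_15_1 lc_d_rc_8_1 lc_d_rc_15_1 lc_d_rc_16_0 lc_d_rc_15_1) (@D3.rec (fun _ => (Cert rels S Gen.d)) lc_d_rc_15_1 lc_d_Cert_tree lc_d_rc_15_1 lc_d_rc_15_1 lc_d_Cert_tree lc_d_rc_16_0 lc_d_rc_27_8 lc_d_rc_15_1 lc_d_rc_3_3 lc_d_rc_8_3 lc_d_rc_16_4 lc_d_rc_8_3 lc_d_rc_12_1 lc_d_rc_8_1 lc_d_rc_15_1 lc_d_rc_22_4 lc_d_rc_22_2 lc_d_rc_22_4 lc_d_rc_15_1 lc_d_rc_8_3 lc_d_rc_16_4 lc_d_rc_15_1 lc_d_rc_8_1 lc_d_rc_15_1 lc_d_rc_15_1 lc_d_Cert_tree lc_d_Cert_tree lc_d_rc_15_1 lc_d_rc_23_4 lc_d_rc_3_1 lc_d_rc_15_1 lc_d_rc_8_1 lc_d_rc_15_1 lc_d_rc_15_1 lc_d_rc_12_1 lc_d_rc_16_4 lc_d_rc_17_2 lc_d_rc_25_10 lc_d_rc_23_8 lc_d_rc_22_2 lc_d_rc_17_2 lc_d_rc_15_1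 lc_d_Cert_tree lc_d_rc_16_2 lc_d_rc_23_4 lc_d_Cert_tree lc_d_rc_15_1 lc_d_rc_15_1 lc_d_rc_8_3 lc_d_rc_3_3 lc_d_rc_15_1 lc_d_Cert_tree lc_d_Cert_tree lc_d_rc_17_2 lc_d_rc_24_5 lc_d_rc_24_5 lc_d_rc_15_1 lc_d_Cert_tree lc_d_rc_3_1 lc_d_rc_24_5 lc_d_rc_24_5 lc_d_rc_15_1) (@D3.rec (fun _ => (Cert rels S Gen.d)) lc_d_rc_15_1 lc_d_rc_23_2 lc_d_rc_24_0 lc_d_rc_22_8 lc_d_rc_17_2 lc_d_rc_8_3 lc_d_rc_23_2 lc_d_rc_27_2 lc_d_rc_15_1 lc_d_Cert_tree lc_d_Cert_tree lc_d_rc_15_1 lc_d_rc_27_4 lc_d_rc_15_1 lc_d_Cert_tree lc_d_rc_15_1 lc_d_Cert_tree lc_d_rc_15_1 lc_d_rc_15_1 lc_d_rc_15_1 lc_d_rc_15_1 lc_d_rc_17_2 lc_d_rc_27_8 lc_d_rc_15_1 lc_d_rc_27_4 lc_d_rc_15_1 lc_d_rc_3_3 lc_d_rc_15_1 lc_d_rc_17_2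 lc_d_Cert_tree lc_d_rc_15_1 lc_d_rc_15_1 lc_d_rc_3_3 lc_d_rc_15_1 lc_d_Cert_tree lc_d_rc_17_2 lc_d_rc_16_2 lc_d_rc_15_1 lc_d_rc_3_3 lc_d_rc_23_8 lc_d_rc_24_0 lc_d_rc_27_4 lc_d_rc_17_0 lc_d_rc_15_1 lc_d_rc_22_8 lc_d_Cert_tree lc_d_rc_16_2 lc_d_rc_15_1 lc_d_rc_15_1 lc_d_rc_16_2 lc_d_rc_16_2 lc_d_rc_8_3 lc_d_rc_8_3 lc_d_rc_27_8 lc_d_rc_16_2 lc_d_Cert_tree lc_d_rc_15_1 lc_d_rc_22_4 lc_d_rc_16_4 lc_d_rc_27_4 lc_d_rc_22_8 lc_d_rc_15_1) (@D3.rec (fun _ => (Cert rels S Gen.d)) lc_d_rc_8_1 lc_d_rc_15_1 lc_d_Cert_tree lc_d_rc_15_1 lc_d_rc_23_8 lc_d_rc_16_4 lc_d_rc_16_4 lc_d_Cert_tree lc_d_Cert_tree lc_d_rc_15_1 lc_d_Cert_tree lc_d_rc_27_2 lc_d_rc_8_1 lc_d_rc_15_1 lc_d_rc_23_4 lc_d_rc_15_1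 lc_d_rc_22_6 lc_d_rc_15_1 lc_d_rc_27_8 lc_d_rc_24_5 lc_d_rc_8_3 lc_d_rc_24_5 lc_d_Cert_tree lc_d_rc_23_8 lc_d_rc_15_1 lc_d_rc_24_5 lc_d_rc_15_1 lc_d_Cert_tree lc_d_rc_23_2 lc_d_rc_22_6 lc_d_rc_27_2 lc_d_rc_15_1 lc_d_Cert_tree lc_d_rc_15_1 lc_d_rc_16_4 lc_d_rc_15_1 lc_d_rc_15_1 lc_d_rc_16_0 lc_d_rc_24_0 lc_d_rc_15_1 lc_d_Cert_tree lc_d_rc_23_2 lc_d_rc_15_1 lc_d_rc_8_1 lc_d_Cert_tree lc_d_rc_15_1 lc_d_rc_22_4 lc_d_Cert_tree lc_d_rc_15_1 lc_d_rc_15_1 lc_d_rc_23_4 lc_d_rc_15_1 lc_d_rc_15_1 lc_d_rc_27_8 lc_d_rc_23_6 lc_d_rc_23_4 lc_d_rc_22_8 lc_d_rc_16_4 lc_d_rc_17_2 lc_d_Cert_tree lc_d_rc_15_1 lc_d_rc_15_1) (@D3.rec (fun _ => (Cert rels S Gen.d)) lc_d_rc_22_4 lc_d_rc_17_0 lc_d_rc_22_8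 lc_d_rc_16_4 lc_d_rc_22_2 lc_d_rc_24_5 lc_d_rc_15_1 lc_d_rc_27_2 lc_d_rc_16_4 lc_d_rc_15_1 lc_d_rc_17_2 lc_d_rc_8_3 lc_d_rc_16_4 lc_d_rc_15_1 lc_d_rc_8_3 lc_d_rc_23_6 lc_d_rc_15_1 lc_d_rc_8_3 lc_d_rc_17_0 lc_d_rc_16_4 lc_d_rc_15_1 lc_d_rc_15_1 lc_d_rc_15_1 lc_d_rc_15_1 lc_d_rc_15_1 lc_d_rc_23_6 lc_d_rc_15_1 lc_d_Cert_tree lc_d_rc_23_2 lc_d_rc_16_0 lc_d_rc_15_1 lc_d_rc_8_3 lc_d_rc_3_1 lc_d_Cert_tree lc_d_rc_15_1 lc_d_rc_16_0 lc_d_rc_23_2 lc_d_rc_23_2 lc_d_rc_22_8 lc_d_rc_8_3 lc_d_Cert_tree lc_d_rc_15_1 lc_d_rc_16_4 lc_d_Cert_tree lc_d_rc_15_1 lc_d_Cert_tree lc_d_rc_12_15 lc_d_rc_3_3 lc_d_rc_23_2 lc_d_rc_23_8 lc_d_rc_3_1 lc_d_rc_12_15 lc_d_Cert_tree lc_d_rc_15_1 lc_d_Cert_tree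 lc_d_rc_15_1 lc_d_rc_22_2 lc_d_Cert_tree lc_d_rc_15_1 lc_d_rc_27_4 lc_d_rc_15_1 lc_d_rc_15_1) (@D3.rec (fun _ => (Cert rels S Gen.d)) lc_d_rc_24_0 lc_d_Cert_tree lc_d_rc_16_4 lc_d_rc_16_2 lc_d_rc_23_6 lc_d_rc_23_4 lc_d_rc_15_1 lc_d_Cert_tree lc_d_rc_15_1 lc_d_rc_15_1 lc_d_rc_15_1 lc_d_rc_23_6 lc_d_rc_8_3 lc_d_rc_22_6 lc_d_rc_8_1 lc_d_rc_22_2 lc_d_rc_3_3 lc_d_rc_15_1 lc_d_rc_17_2 lc_d_rc_15_1 lc_d_rc_24_0 lc_d_rc_15_1 lc_d_rc_23_6 lc_d_rc_8_3 lc_d_rc_15_1 lc_d_rc_22_4 lc_d_rc_3_3 lc_d_Cert_tree lc_d_rc_27_8 lc_d_rc_23_8 lc_d_rc_23_8 lc_d_rc_3_3 lc_d_rc_15_1 lc_d_rc_22_8 lc_d_rc_17_2 lc_d_rc_8_1 lc_d_Cert_tree lc_d_rc_8_3 lc_d_rc_3_1 lc_d_rc_23_2 lc_d_rc_25_2 lc_d_rc_25_6 lc_d_rc_12_15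 lc_d_rc_8_3 lc_d_rc_17_2 lc_d_rc_8_3 lc_d_rc_15_1 lc_d_rc_16_4 lc_d_rc_15_1 lc_d_rc_8_3 lc_d_rc_16_0 lc_d_rc_17_2 lc_d_rc_8_3 lc_d_rc_17_2 lc_d_rc_15_1 lc_d_rc_15_1 lc_d_rc_12_15 lc_d_rc_15_1 lc_d_rc_22_8 lc_d_Cert_tree lc_d_rc_15_1 lc_d_rc_23_6) (@D3.rec (fun _ => (Cert rels S Gen.d)) lc_d_rc_8_1 lc_d_Cert_tree lc_d_rc_15_1 lc_d_rc_27_4 lc_d_rc_24_5 lc_d_Cert_tree lc_d_rc_15_1 lc_d_rc_15_1 lc_d_rc_27_8 lc_d_rc_8_3 lc_d_rc_24_5 lc_d_rc_24_5 lc_d_Cert_tree lc_d_rc_16_4 lc_d_Cert_tree lc_d_rc_22_2 lc_d_rc_15_1 lc_d_rc_16_4 lc_d_rc_22_2 lc_d_rc_24_5 lc_d_rc_22_2 lc_d_rc_24_0 lc_d_rc_24_0 lc_d_Cert_tree lc_d_Cert_tree lc_d_Cert_tree lc_d_Cert_tree lc_d_rc_15_1 lc_d_rc_16_4 lc_d_rc_15_1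 lc_d_rc_8_1 lc_d_rc_17_2 lc_d_rc_24_5 lc_d_rc_22_4 lc_d_rc_15_1 lc_d_rc_16_0 lc_d_rc_15_1 lc_d_rc_22_2 lc_d_rc_8_3 lc_d_rc_16_2 lc_d_rc_27_10 lc_d_rc_17_2 lc_d_rc_8_3 lc_d_Cert_tree lc_d_Cert_tree lc_d_rc_23_4 lc_d_rc_17_2 lc_d_Cert_tree lc_d_rc_23_4 lc_d_Cert_tree lc_d_rc_15_1 lc_d_rc_16_4 lc_d_rc_15_1 lc_d_rc_23_2 lc_d_rc_23_8 lc_d_rc_22_2 lc_d_Cert_tree lc_d_rc_15_1 lc_d_rc_27_2 lc_d_rc_27_4 lc_d_rc_27_2 lc_d_rc_3_3) (@D3.rec (fun _ => (Cert rels S Gen.d)) lc_d_rc_8_3 lc_d_rc_16_4 lc_d_rc_15_1 lc_d_rc_8_1 lc_d_rc_15_1 lc_d_rc_23_4 lc_d_Cert_tree lc_d_Cert_tree lc_d_rc_16_4 lc_d_Cert_tree lc_d_rc_15_1 lc_d_Cert_tree lc_d_rc_22_2 lc_d_Cert_tree lc_d_Cert_tree lc_d_rc_15_1 lc_d_rc_8_3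 lc_d_rc_15_1 lc_d_rc_15_1 lc_d_rc_15_1 lc_d_rc_8_3 lc_d_rc_17_2 lc_d_rc_15_1 lc_d_Cert_tree lc_d_rc_8_3 lc_d_rc_27_2 lc_d_rc_22_8 lc_d_rc_23_8 lc_d_Cert_tree lc_d_rc_15_1 lc_d_rc_22_4 lc_d_rc_16_2 lc_d_rc_23_6 lc_d_rc_15_1 lc_d_rc_23_8 lc_d_rc_15_1 lc_d_Cert_tree lc_d_rc_15_1 lc_d_rc_22_4 lc_d_rc_27_8 lc_d_Cert_tree lc_d_rc_15_1 lc_d_rc_25_2 lc_d_rc_24_0 lc_d_rc_8_1 lc_d_rc_15_1 lc_d_Cert_tree lc_d_Cert_tree lc_d_Cert_tree lc_d_rc_15_1 lc_d_rc_24_0 lc_d_rc_15_1 lc_d_rc_22_2 lc_d_rc_8_1 lc_d_rc_16_0 lc_d_Cert_tree lc_d_Cert_tree lc_d_rc_15_1 lc_d_rc_23_4 lc_d_rc_17_2 lc_d_rc_24_0 lc_d_rc_3_3) (@D3.rec (fun _ => (Cert rels S Gen.d)) lc_d_rc_15_1 lc_d_Cert_tree lc_d_rc_15_1 lc_d_rc_15_1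 lc_d_rc_15_1 lc_d_rc_17_2 lc_d_rc_16_4 lc_d_Cert_tree lc_d_Cert_tree lc_d_rc_17_2 lc_d_rc_24_0 lc_d_rc_24_0 lc_d_rc_17_2 lc_d_Cert_tree lc_d_rc_15_1 lc_d_rc_8_1 lc_d_rc_16_4 lc_d_rc_23_8 lc_d_rc_15_1 lc_d_rc_15_1 lc_d_rc_15_1 lc_d_rc_25_2 lc_d_rc_15_1 lc_d_Cert_tree lc_d_rc_15_1 lc_d_rc_8_1 lc_d_rc_15_1 lc_d_rc_23_8 lc_d_rc_27_8 lc_d_rc_15_1 lc_d_rc_17_2 lc_d_rc_27_8 lc_d_rc_22_4 lc_d_rc_22_8 lc_d_Cert_tree lc_d_rc_15_1 lc_d_rc_15_1 lc_d_rc_27_2 lc_d_rc_27_2 lc_d_rc_25_6 lc_d_rc_24_0 lc_d_rc_3_1 lc_d_rc_15_1 lc_d_rc_27_8 lc_d_Cert_tree lc_d_rc_15_1 lc_d_rc_8_1 lc_d_rc_22_6 lc_d_rc_15_1 lc_d_rc_27_2 lc_d_rc_24_0 lc_d_rc_12_13 lc_d_rc_15_1 lc_d_Cert_tree lc_d_rc_15_1 lc_d_Cert_tree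 lc_d_rc_15_1 lc_d_rc_3_3 lc_d_rc_8_3 lc_d_Cert_tree lc_d_rc_24_5 lc_d_rc_8_3) (@D3.rec (fun _ => (Cert rels S Gen.d)) lc_d_rc_15_1 lc_d_rc_17_2 lc_d_rc_8_3 lc_d_Cert_tree lc_d_Cert_tree lc_d_Cert_tree lc_d_rc_15_1 lc_d_rc_17_2 lc_d_rc_8_3 lc_d_rc_8_3 lc_d_rc_23_2 lc_d_rc_23_6 lc_d_rc_15_1 lc_d_rc_15_1 lc_d_rc_17_2 lc_d_rc_22_8 lc_d_rc_23_2 lc_d_rc_23_8 lc_d_rc_25_2 lc_d_rc_22_4 lc_d_rc_15_1 lc_d_rc_8_3 lc_d_rc_25_6 lc_d_rc_23_4 lc_d_rc_16_0 lc_d_rc_27_8 lc_d_rc_15_1 lc_d_rc_3_3 lc_d_rc_23_8 lc_d_rc_23_8 lc_d_rc_16_4 lc_d_rc_8_1 lc_d_rc_15_1 lc_d_Cert_tree lc_d_rc_25_14 lc_d_rc_15_1 lc_d_rc_27_4 lc_d_rc_8_3 lc_d_rc_15_1 lc_d_Cert_tree lc_d_rc_23_2 lc_d_rc_23_6 lc_d_rc_22_4 lc_d_rc_8_3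 lc_d_rc_23_8 lc_d_rc_24_0 lc_d_rc_15_1 lc_d_rc_17_2 lc_d_rc_23_2 lc_d_rc_22_2 lc_d_rc_15_1 lc_d_rc_24_5 lc_d_rc_15_1 lc_d_rc_23_4 lc_d_Cert_tree lc_d_rc_17_2 lc_d_rc_15_1 lc_d_rc_27_8 lc_d_Cert_tree lc_d_Cert_tree lc_d_rc_15_1 lc_d_rc_25_2) (@D3.rec (fun _ => (Cert rels S Gen.d)) lc_d_rc_15_1 lc_d_rc_8_1 lc_d_rc_22_6 lc_d_Cert_tree lc_d_rc_8_3 lc_d_rc_25_18 lc_d_rc_15_1 lc_d_rc_16_4 lc_d_rc_15_1 lc_d_rc_23_6 lc_d_rc_8_3 lc_d_rc_27_2 lc_d_rc_22_6 lc_d_rc_15_1 lc_d_rc_17_2 lc_d_rc_8_3 lc_d_rc_15_1 lc_d_rc_8_1 lc_d_rc_22_4 lc_d_rc_22_2 lc_d_rc_15_1 lc_d_rc_22_2 lc_d_rc_15_1 lc_d_rc_23_6 lc_d_rc_15_1 lc_d_rc_27_2 lc_d_rc_3_3 lc_d_rc_22_4 lc_d_rc_17_2 lc_d_rc_24_0 lc_d_rc_15_1 lc_d_rc_23_8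 lc_d_rc_15_1 lc_d_rc_27_2 lc_d_rc_27_10 lc_d_rc_17_2 lc_d_rc_25_6 lc_d_rc_8_3 lc_d_rc_24_5 lc_d_rc_15_1 lc_d_rc_27_4 lc_d_rc_8_3 lc_d_rc_8_3 lc_d_rc_17_2 lc_d_rc_8_3 lc_d_rc_8_3 lc_d_rc_22_2 lc_d_rc_27_8 lc_d_rc_15_1 lc_d_rc_8_1 lc_d_rc_22_4 lc_d_Cert_tree lc_d_rc_15_1 lc_d_rc_15_1 lc_d_rc_15_1 lc_d_rc_17_2 lc_d_rc_17_2 lc_d_rc_16_4 lc_d_rc_8_3 lc_d_rc_16_4 lc_d_Cert_tree lc_d_rc_15_1) (@D3.rec (fun _ => (Cert rels S Gen.d)) lc_d_rc_27_4 lc_d_Cert_tree lc_d_Cert_tree lc_d_rc_15_1 lc_d_rc_15_1 lc_d_rc_8_3 lc_d_rc_24_0 lc_d_rc_22_6 lc_d_rc_8_3 lc_d_rc_22_2 lc_d_rc_17_2 lc_d_rc_8_3 lc_d_rc_16_2 lc_d_rc_22_2 lc_d_rc_22_4 lc_d_rc_17_2 lc_d_Cert_tree lc_d_rc_15_1 lc_d_rc_23_2 lc_d_rc_15_1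 lc_d_rc_23_2 lc_d_rc_15_1 lc_d_Cert_tree lc_d_rc_23_8 lc_d_rc_8_1 lc_d_rc_23_8 lc_d_rc_24_0 lc_d_rc_15_1 lc_d_rc_8_3 lc_d_rc_15_1 lc_d_rc_15_1 lc_d_rc_17_2 lc_d_rc_15_1 lc_d_rc_22_2 lc_d_rc_12_1 lc_d_Cert_tree lc_d_rc_15_1 lc_d_rc_22_4 lc_d_rc_17_2 lc_d_rc_17_0 lc_d_rc_24_5 lc_d_rc_17_2 lc_d_rc_15_1 lc_d_rc_24_5 lc_d_rc_15_1 lc_d_rc_3_1 lc_d_rc_15_1 lc_d_rc_16_0 lc_d_rc_15_1 lc_d_rc_22_4 lc_d_rc_16_4 lc_d_Cert_tree lc_d_rc_24_5 lc_d_rc_16_4 lc_d_rc_24_5 lc_d_rc_24_5 lc_d_rc_16_4 lc_d_rc_15_1 lc_d_Cert_tree lc_d_Cert_tree lc_d_rc_15_1 lc_d_rc_22_8) (@D3.rec (fun _ => (Cert rels S Gen.d)) lc_d_rc_22_8 lc_d_rc_24_0 lc_d_rc_23_8 lc_d_rc_17_2 lc_d_rc_16_2 lc_d_rc_23_8 lc_d_rc_15_1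 lc_d_rc_15_1 lc_d_rc_3_3 lc_d_Cert_tree lc_d_Cert_tree lc_d_Cert_tree lc_d_Cert_tree lc_d_rc_15_1 lc_d_rc_17_2 lc_d_rc_23_8 lc_d_rc_23_8 lc_d_rc_15_1 lc_d_rc_15_1 lc_d_rc_23_6 lc_d_rc_3_3 lc_d_rc_8_1 lc_d_Cert_tree lc_d_Cert_tree lc_d_rc_15_1 lc_d_rc_16_2 lc_d_rc_17_0 lc_d_rc_15_1 lc_d_Cert_tree lc_d_Cert_tree lc_d_rc_15_1 lc_d_rc_23_2 lc_d_Cert_tree lc_d_Cert_tree lc_d_Cert_tree lc_d_rc_15_1 lc_d_rc_15_1 lc_d_rc_15_1 lc_d_rc_16_2 lc_d_rc_15_1 lc_d_rc_8_1 lc_d_rc_17_2 lc_d_rc_15_1 lc_d_rc_15_1 lc_d_rc_27_2 lc_d_rc_15_1 lc_d_rc_15_1 lc_d_Cert_tree lc_d_rc_15_1 lc_d_rc_27_2 lc_d_rc_27_4 lc_d_rc_15_1 lc_d_Cert_tree lc_d_rc_15_1 lc_d_rc_27_4 lc_d_rc_23_8 lc_d_rc_8_3 lc_d_rc_16_2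 lc_d_rc_24_0 lc_d_rc_15_1 lc_d_rc_27_10 lc_d_rc_27_4) (@D3.rec (fun _ => (Cert rels S Gen.d)) lc_d_rc_15_1 lc_d_rc_17_2 lc_d_rc_8_1 lc_d_rc_15_1 lc_d_rc_16_0 lc_d_rc_8_1 lc_d_rc_15_1 lc_d_Cert_tree lc_d_rc_15_1 lc_d_rc_23_2 lc_d_rc_8_1 lc_d_rc_15_1 lc_d_Cert_tree lc_d_rc_15_1 lc_d_rc_27_4 lc_d_rc_15_1 lc_d_rc_27_2 lc_d_Cert_tree lc_d_rc_16_2 lc_d_rc_16_2 lc_d_rc_24_0 lc_d_rc_27_10 lc_d_rc_15_1 lc_d_rc_27_4 lc_d_rc_15_1 lc_d_rc_23_2 lc_d_rc_15_1 lc_d_rc_3_3 lc_d_rc_17_2 lc_d_rc_27_10 lc_d_rc_15_1 lc_d_rc_27_2 lc_d_rc_15_1 lc_d_rc_15_1 lc_d_rc_22_6 lc_d_Cert_tree lc_d_rc_8_1 lc_d_Cert_tree lc_d_rc_15_1 lc_d_rc_27_4 lc_d_rc_17_2 lc_d_rc_15_1 lc_d_rc_15_1 lc_d_rc_22_6 lc_d_rc_15_1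 lc_d_rc_16_4 lc_d_Cert_tree lc_d_rc_23_2 lc_d_rc_15_1 lc_d_rc_16_4 lc_d_rc_15_1 lc_d_rc_12_5 lc_d_rc_8_3 lc_d_rc_17_2 lc_d_rc_15_1 lc_d_rc_3_3 lc_d_rc_15_1 lc_d_rc_15_1 lc_d_rc_23_2 lc_d_rc_16_4 lc_d_rc_16_2 lc_d_rc_15_1) (@D3.rec (fun _ => (Cert rels S Gen.d)) lc_d_rc_23_8 lc_d_rc_15_1 lc_d_rc_15_1 lc_d_rc_24_5 lc_d_rc_8_3 lc_d_rc_24_5 lc_d_Cert_tree lc_d_Cert_tree lc_d_rc_8_3 lc_d_Cert_tree lc_d_Cert_tree lc_d_rc_8_3 lc_d_rc_3_3 lc_d_rc_15_1 lc_d_rc_8_1 lc_d_rc_15_1 lc_d_rc_15_1 lc_d_rc_17_2 lc_d_rc_16_2 lc_d_rc_15_1 lc_d_rc_16_0 lc_d_rc_15_1 lc_d_rc_27_2 lc_d_rc_8_3 lc_d_Cert_tree lc_d_rc_15_1 lc_d_rc_27_2 lc_d_rc_16_4 lc_d_rc_15_1 lc_d_rc_15_1 lc_d_rc_27_10 lc_d_rc_17_2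 lc_d_Cert_tree lc_d_rc_15_1 lc_d_rc_27_4 lc_d_rc_15_1 lc_d_rc_16_4 lc_d_rc_15_1 lc_d_Cert_tree lc_d_rc_15_1 lc_d_rc_16_4 lc_d_rc_24_0 lc_d_Cert_tree lc_d_rc_15_1 lc_d_rc_3_1 lc_d_rc_15_1 lc_d_rc_25_2 lc_d_rc_8_3 lc_d_rc_15_1 lc_d_Cert_tree lc_d_rc_15_1 lc_d_Cert_tree lc_d_rc_15_1 lc_d_rc_27_10 lc_d_rc_15_1 lc_d_rc_17_2 lc_d_rc_15_1 lc_d_rc_12_1 lc_d_rc_17_2 lc_d_Cert_tree lc_d_rc_15_1 lc_d_rc_15_1) (@D3.rec (fun _ => (Cert rels S Gen.d)) lc_d_rc_15_1 lc_d_rc_27_4 lc_d_rc_15_1 lc_d_Cert_tree lc_d_rc_15_1 lc_d_rc_25_6 lc_d_rc_24_0 lc_d_rc_15_1 lc_d_rc_17_2 lc_d_rc_15_1 lc_d_rc_17_2 lc_d_rc_17_2 lc_d_rc_23_4 lc_d_rc_25_14 lc_d_rc_16_4 lc_d_rc_22_8 lc_d_rc_24_0 lc_d_Cert_tree lc_d_rc_15_1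 lc_d_rc_8_3 lc_d_rc_15_1 lc_d_rc_23_8 lc_d_rc_27_8 lc_d_rc_16_4 lc_d_rc_23_4 lc_d_rc_8_3 lc_d_rc_8_1 lc_d_rc_24_5 lc_d_rc_15_1 lc_d_Cert_tree lc_d_rc_25_2 lc_d_rc_15_1 lc_d_rc_23_2 lc_d_rc_17_2 lc_d_rc_3_3 lc_d_Cert_tree lc_d_rc_8_3 lc_d_rc_22_2 lc_d_rc_3_3 lc_d_Cert_tree lc_d_rc_15_1 lc_d_rc_17_2 lc_d_rc_15_1 lc_d_rc_3_3 lc_d_rc_16_0 lc_d_rc_15_1 lc_d_rc_22_2 lc_d_rc_17_2 lc_d_rc_15_1 lc_d_rc_27_8 lc_d_rc_27_4 lc_d_rc_23_4 lc_d_rc_15_1 lc_d_rc_22_4 lc_d_rc_15_1 lc_d_rc_8_1 lc_d_rc_23_2 lc_d_rc_15_1 lc_d_rc_16_2 lc_d_rc_27_2 lc_d_rc_15_1 lc_d_rc_22_2) (@D3.rec (fun _ => (Cert rels S Gen.d)) lc_d_rc_8_3 lc_d_rc_15_1 lc_d_rc_15_1 lc_d_rc_23_4 lc_d_rc_8_3 lc_d_rc_17_2 lc_d_rc_8_1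 lc_d_rc_15_1 lc_d_rc_8_3 lc_d_rc_15_1 lc_d_rc_15_1 lc_d_rc_8_3 lc_d_rc_25_6 lc_d_rc_23_6 lc_d_rc_8_1 lc_d_rc_8_3 lc_d_rc_22_2 lc_d_rc_3_3 lc_d_rc_15_1 lc_d_Cert_tree lc_d_rc_15_1 lc_d_rc_15_1 lc_d_Cert_tree lc_d_rc_25_6 lc_d_rc_3_1 lc_d_rc_17_2 lc_d_Cert_tree lc_d_rc_15_1 lc_d_Cert_tree lc_d_rc_15_1 lc_d_rc_22_2 lc_d_rc_16_4 lc_d_rc_15_1 lc_d_rc_27_2 lc_d_rc_15_1 lc_d_Cert_tree lc_d_rc_8_3 lc_d_rc_17_2 lc_d_rc_15_1 lc_d_rc_17_2 lc_d_rc_23_8 lc_d_rc_24_0 lc_d_rc_8_3 lc_d_rc_8_3 lc_d_rc_27_10 lc_d_rc_23_6 lc_d_rc_17_2 lc_d_rc_3_1 lc_d_rc_3_3 lc_d_rc_15_1 lc_d_rc_16_2 lc_d_rc_23_8 lc_d_rc_8_3 lc_d_Cert_tree lc_d_rc_15_1 lc_d_rc_8_1 lc_d_rc_16_2 lc_d_rc_23_8 lc_d_rc_15_1 lc_d_rc_15_1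 lc_d_rc_22_2 lc_d_rc_24_0) (@D3.rec (fun _ => (Cert rels S Gen.d)) lc_d_rc_8_3 lc_d_Cert_tree lc_d_rc_15_1 lc_d_Cert_tree lc_d_Cert_tree lc_d_Cert_tree lc_d_Cert_tree lc_d_rc_15_1 lc_d_rc_17_2 lc_d_Cert_tree lc_d_rc_15_1 lc_d_Cert_tree lc_d_rc_27_2 lc_d_rc_24_0 lc_d_Cert_tree lc_d_Cert_tree lc_d_rc_15_1 lc_d_rc_3_3 lc_d_Cert_tree lc_d_rc_15_1 lc_d_rc_3_3 lc_d_rc_3_3 lc_d_rc_8_3 lc_d_rc_22_4 lc_d_rc_16_4 lc_d_rc_15_1 lc_d_rc_17_2 lc_d_rc_3_1 lc_d_rc_15_1 lc_d_rc_22_4 lc_d_Cert_tree lc_d_rc_17_2 lc_d_rc_17_2 lc_d_rc_22_8 lc_d_rc_15_1 lc_d_Cert_tree lc_d_rc_24_5 lc_d_rc_16_4 lc_d_Cert_tree lc_d_rc_15_1 lc_d_Cert_tree lc_d_rc_8_3 lc_d_rc_8_3 lc_d_rc_22_6 lc_d_rc_17_2 lc_d_Cert_tree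 lc_d_Cert_tree lc_d_Cert_tree lc_d_rc_15_1 lc_d_Cert_tree lc_d_rc_15_1 lc_d_rc_27_4 lc_d_rc_8_3 lc_d_Cert_tree lc_d_rc_17_2 lc_d_rc_15_1 lc_d_rc_17_2 lc_d_rc_27_10 lc_d_rc_24_5 lc_d_rc_16_0 lc_d_Cert_tree lc_d_rc_24_5) (@D3.rec (fun _ => (Cert rels S Gen.d)) lc_d_rc_8_3 lc_d_Cert_tree lc_d_rc_15_1 lc_d_rc_24_0 lc_d_Cert_tree lc_d_Cert_tree lc_d_rc_15_1 lc_d_rc_16_4 lc_d_rc_15_1 lc_d_rc_24_0 lc_d_rc_8_3 lc_d_Cert_tree lc_d_rc_15_1 lc_d_rc_8_1 lc_d_Cert_tree lc_d_Cert_tree lc_d_Cert_tree lc_d_rc_15_1 lc_d_rc_8_3 lc_d_Cert_tree lc_d_rc_27_4 lc_d_Cert_tree lc_d_rc_3_3 lc_d_rc_3_1 lc_d_rc_15_1 lc_d_Cert_tree lc_d_rc_8_3 lc_d_rc_15_1 lc_d_rc_8_3 lc_d_rc_24_0 lc_d_Cert_tree lc_d_rc_24_0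 lc_d_rc_15_1 lc_d_rc_8_1 lc_d_Cert_tree lc_d_rc_15_1 lc_d_rc_3_1 lc_d_rc_3_1 lc_d_rc_24_0 lc_d_rc_22_2 lc_d_rc_15_1 lc_d_rc_15_1 lc_d_Cert_tree lc_d_rc_24_0 lc_d_rc_23_2 lc_d_Cert_tree lc_d_rc_15_1 lc_d_Cert_tree lc_d_rc_23_2 lc_d_Cert_tree lc_d_Cert_tree lc_d_rc_15_1 lc_d_rc_16_2 lc_d_rc_22_6 lc_d_rc_23_6 lc_d_Cert_tree lc_d_rc_22_2 lc_d_Cert_tree lc_d_Cert_tree lc_d_Cert_tree lc_d_rc_15_1 lc_d_Cert_tree) (@D3.rec (fun _ => (Cert rels S Gen.d)) lc_d_rc_15_1 lc_d_rc_27_4 lc_d_rc_15_1 lc_d_rc_17_2 lc_d_rc_22_2 lc_d_rc_15_1 lc_d_Cert_tree lc_d_rc_15_1 lc_d_rc_15_1 lc_d_rc_17_2 lc_d_Cert_tree lc_d_rc_15_1 lc_d_rc_8_3 lc_d_rc_16_2 lc_d_rc_25_2 lc_d_rc_23_2 lc_d_rc_15_1 lc_d_rc_16_2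 lc_d_rc_17_0 lc_d_rc_8_3 lc_d_rc_27_2 lc_d_rc_24_5 lc_d_rc_27_10 lc_d_rc_15_1 lc_d_rc_17_2 lc_d_rc_24_5 lc_d_Cert_tree lc_d_rc_17_2 lc_d_Cert_tree lc_d_rc_15_1 lc_d_rc_27_2 lc_d_rc_17_2 lc_d_rc_3_3 lc_d_rc_17_2 lc_d_Cert_tree lc_d_rc_27_4 lc_d_rc_25_6 lc_d_rc_23_2 lc_d_Cert_tree lc_d_rc_27_2 lc_d_rc_15_1 lc_d_rc_27_2 lc_d_rc_22_8 lc_d_rc_16_4 lc_d_rc_22_4 lc_d_rc_15_1 lc_d_rc_8_1 lc_d_rc_17_2 lc_d_rc_25_6 lc_d_rc_3_3 lc_d_rc_15_1 lc_d_Cert_tree lc_d_rc_15_1 lc_d_rc_16_4 lc_d_rc_15_1 lc_d_rc_17_2 lc_d_rc_25_6 lc_d_rc_23_8 lc_d_rc_15_1 lc_d_Cert_tree lc_d_rc_15_1 lc_d_rc_15_1) (@D3.rec (fun _ => (Cert rels S Gen.d)) lc_d_rc_17_2 lc_d_rc_8_3 lc_d_rc_3_3 lc_d_rc_24_5 lc_d_rc_15_1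 lc_d_rc_22_4 lc_d_rc_27_4 lc_d_rc_15_1 lc_d_rc_25_18 lc_d_rc_15_1 lc_d_rc_3_3 lc_d_rc_22_4 lc_d_Cert_tree lc_d_Cert_tree lc_d_rc_22_2 lc_d_rc_15_1 lc_d_Cert_tree lc_d_Cert_tree lc_d_rc_15_1 lc_d_rc_16_4 lc_d_rc_8_3 lc_d_rc_24_0 lc_d_rc_27_2 lc_d_rc_24_5 lc_d_rc_15_1 lc_d_Cert_tree lc_d_Cert_tree lc_d_rc_8_3 lc_d_rc_15_1 lc_d_Cert_tree lc_d_rc_15_1 lc_d_rc_3_1 lc_d_rc_15_1 lc_d_rc_15_1 lc_d_Cert_tree lc_d_rc_27_2 lc_d_rc_25_2 lc_d_rc_23_6 lc_d_rc_15_1 lc_d_rc_17_2 lc_d_rc_8_3 lc_d_rc_16_2 lc_d_rc_22_8 lc_d_Cert_tree lc_d_rc_15_1 lc_d_rc_24_5 lc_d_rc_17_2 lc_d_rc_15_1 lc_d_rc_15_1 lc_d_rc_15_1 lc_d_rc_3_3 lc_d_rc_23_4 lc_d_rc_23_4 lc_d_Cert_tree lc_d_rc_17_2 lc_d_rc_27_2 lc_d_rc_27_4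 lc_d_rc_27_2 lc_d_rc_27_10 lc_d_Cert_tree lc_d_rc_15_1 lc_d_rc_17_2) (@D3.rec (fun _ => (Cert rels S Gen.d)) lc_d_rc_15_1 lc_d_rc_3_3 lc_d_rc_3_1 lc_d_rc_16_4 lc_d_rc_25_6 lc_d_rc_22_6 lc_d_rc_17_0 lc_d_rc_15_1 lc_d_rc_24_5 lc_d_Cert_tree lc_d_rc_15_1 lc_d_rc_15_1 lc_d_Cert_tree lc_d_rc_15_1 lc_d_rc_23_8 lc_d_Cert_tree lc_d_rc_15_1 lc_d_rc_27_8 lc_d_rc_15_1 lc_d_rc_22_2 lc_d_rc_15_1 lc_d_rc_23_8 lc_d_rc_23_8 lc_d_rc_15_1 lc_d_rc_23_4 lc_d_rc_24_0 lc_d_rc_17_2 lc_d_rc_8_1 lc_d_rc_15_1 lc_d_rc_8_3 lc_d_rc_8_1 lc_d_rc_15_1 lc_d_rc_3_3 lc_d_rc_25_14 lc_d_rc_15_1 lc_d_rc_24_5 lc_d_rc_15_1 lc_d_rc_27_2 lc_d_Cert_tree lc_d_Cert_tree lc_d_rc_23_2 lc_d_rc_15_1 lc_d_rc_12_3 lc_d_rc_16_4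 lc_d_rc_24_5 lc_d_Cert_tree lc_d_rc_15_1 lc_d_Cert_tree lc_d_rc_15_1 lc_d_rc_8_3 lc_d_rc_15_1 lc_d_rc_16_2 lc_d_rc_8_3 lc_d_rc_27_4 lc_d_rc_23_8 lc_d_rc_8_3 lc_d_rc_22_2 lc_d_rc_22_6 lc_d_rc_15_1 lc_d_rc_15_1 lc_d_rc_3_3 lc_d_rc_15_1) (@D3.rec (fun _ => (Cert rels S Gen.d)) lc_d_rc_27_10 lc_d_rc_24_5 lc_d_Cert_tree lc_d_rc_24_5 lc_d_rc_27_8 lc_d_Cert_tree lc_d_rc_15_1 lc_d_rc_23_8 lc_d_rc_23_2 lc_d_Cert_tree lc_d_rc_15_1 lc_d_rc_27_2 lc_d_rc_22_6 lc_d_rc_15_1 lc_d_rc_27_4 lc_d_rc_15_1 lc_d_rc_23_8 lc_d_rc_15_1 lc_d_rc_24_5 lc_d_rc_23_8 lc_d_rc_23_4 lc_d_rc_24_0 lc_d_rc_24_5 lc_d_rc_15_1 lc_d_rc_22_2 lc_d_rc_15_1 lc_d_rc_8_1 lc_d_rc_15_1 lc_d_rc_23_4 lc_d_rc_15_1 lc_d_Cert_tree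 lc_d_rc_17_2 lc_d_rc_27_8 lc_d_rc_15_1 lc_d_rc_15_1 lc_d_rc_3_3 lc_d_rc_8_3 lc_d_rc_16_4 lc_d_Cert_tree lc_d_rc_15_1 lc_d_rc_17_2 lc_d_rc_15_1 lc_d_rc_15_1 lc_d_rc_22_4 lc_d_rc_22_8 lc_d_rc_24_5 lc_d_rc_15_1 lc_d_Cert_tree lc_d_rc_15_1 lc_d_rc_15_1 lc_d_rc_23_2 lc_d_rc_15_1 lc_d_rc_24_0 lc_d_rc_15_1 lc_d_rc_15_1 lc_d_Cert_tree lc_d_rc_16_2 lc_d_rc_3_3 lc_d_rc_27_2 lc_d_rc_23_4 lc_d_rc_15_1 lc_d_rc_27_8) (@D3.rec (fun _ => (Cert rels S Gen.d)) lc_d_Cert_tree lc_d_rc_17_2 lc_d_rc_15_1 lc_d_rc_8_1 lc_d_rc_8_3 lc_d_rc_15_1 lc_d_rc_22_4 lc_d_rc_23_4 lc_d_rc_15_1 lc_d_rc_22_4 lc_d_rc_17_2 lc_d_rc_16_4 lc_d_rc_17_0 lc_d_rc_16_4 lc_d_rc_8_3 lc_d_rc_15_1 lc_d_rc_8_3 lc_d_rc_24_5 lc_d_rc_3_3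 lc_d_Cert_tree lc_d_rc_16_2 lc_d_rc_16_2 lc_d_rc_15_1 lc_d_rc_23_8 lc_d_rc_3_3 lc_d_rc_15_1 lc_d_rc_16_4 lc_d_rc_17_2 lc_d_rc_27_10 lc_d_rc_8_3 lc_d_rc_24_0 lc_d_rc_27_4 lc_d_rc_27_4 lc_d_rc_15_1 lc_d_rc_27_2 lc_d_Cert_tree lc_d_rc_15_1 lc_d_rc_22_8 lc_d_rc_16_2 lc_d_rc_16_4 lc_d_rc_15_1 lc_d_rc_27_4 lc_d_rc_15_1 lc_d_rc_16_0 lc_d_rc_15_1 lc_d_rc_22_6 lc_d_rc_15_1 lc_d_Cert_tree lc_d_rc_15_1 lc_d_Cert_tree lc_d_rc_8_1 lc_d_rc_15_1 lc_d_rc_15_1 lc_d_Cert_tree lc_d_rc_8_3 lc_d_rc_15_1 lc_d_rc_24_0 lc_d_rc_16_2 lc_d_rc_23_8 lc_d_rc_23_8 lc_d_rc_22_8 lc_d_rc_8_1) (@D3.rec (fun _ => (Cert rels S Gen.d)) lc_d_rc_15_1 lc_d_rc_16_0 lc_d_rc_15_1 lc_d_rc_15_1 lc_d_rc_17_2 lc_d_rc_8_1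 lc_d_rc_15_1 lc_d_rc_16_2 lc_d_rc_8_1 lc_d_rc_15_1 lc_d_rc_8_1 lc_d_Cert_tree lc_d_rc_15_1 lc_d_rc_15_1 lc_d_Cert_tree lc_d_rc_15_1 lc_d_rc_15_1 lc_d_rc_15_1 lc_d_rc_27_8 lc_d_rc_23_4 lc_d_rc_23_2 lc_d_rc_8_3 lc_d_rc_16_0 lc_d_rc_27_10 lc_d_rc_15_1 lc_d_rc_17_2 lc_d_rc_17_0 lc_d_rc_15_1 lc_d_rc_24_5 lc_d_rc_8_1 lc_d_rc_15_1 lc_d_rc_3_3 lc_d_rc_24_5 lc_d_rc_15_1 lc_d_rc_16_4 lc_d_rc_24_0 lc_d_rc_15_1 lc_d_rc_23_4 lc_d_rc_15_1 lc_d_rc_8_3 lc_d_rc_12_15 lc_d_rc_24_5 lc_d_rc_23_4 lc_d_rc_22_8 lc_d_rc_16_4 lc_d_rc_8_3 lc_d_rc_3_3 lc_d_rc_23_2 lc_d_rc_8_3 lc_d_rc_27_2 lc_d_rc_15_1 lc_d_rc_27_4 lc_d_Cert_tree lc_d_rc_15_1 lc_d_rc_16_2 lc_d_rc_15_1 lc_d_rc_8_3 lc_d_rc_3_1 lc_d_rc_23_6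 lc_d_rc_8_1 lc_d_rc_25_2 lc_d_rc_8_3) (@D3.rec (fun _ => (Cert rels S Gen.d)) lc_d_rc_8_3 lc_d_rc_15_1 lc_d_rc_27_4 lc_d_rc_8_3 lc_d_rc_23_8 lc_d_rc_8_3 lc_d_rc_17_2 lc_d_rc_16_0 lc_d_rc_15_1 lc_d_rc_15_1 lc_d_rc_15_1 lc_d_rc_15_1 lc_d_rc_17_2 lc_d_Cert_tree lc_d_rc_15_1 lc_d_rc_23_6 lc_d_rc_23_6 lc_d_Cert_tree lc_d_rc_17_2 lc_d_rc_22_4 lc_d_rc_16_4 lc_d_rc_25_2 lc_d_rc_15_1 lc_d_rc_22_6 lc_d_rc_16_4 lc_d_rc_15_1 lc_d_rc_17_2 lc_d_rc_24_0 lc_d_rc_23_8 lc_d_rc_3_3 lc_d_rc_17_2 lc_d_rc_23_4 lc_d_rc_3_3 lc_d_rc_15_1 lc_d_rc_8_1 lc_d_rc_15_1 lc_d_rc_27_4 lc_d_rc_16_2 lc_d_rc_15_1 lc_d_rc_27_10 lc_d_rc_16_4 lc_d_rc_15_1 lc_d_rc_8_3 lc_d_Cert_tree lc_d_rc_15_1 lc_d_rc_16_2 lc_d_rc_8_3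 lc_d_rc_23_8 lc_d_rc_15_1 lc_d_rc_27_10 lc_d_rc_22_4 lc_d_rc_8_1 lc_d_rc_15_1 lc_d_rc_16_4 lc_d_rc_16_4 lc_d_Cert_tree lc_d_Cert_tree lc_d_rc_15_1 lc_d_rc_15_1 lc_d_rc_15_1 lc_d_rc_15_1 lc_d_rc_27_10) (@D3.rec (fun _ => (Cert rels S Gen.d)) lc_d_rc_15_1 lc_d_rc_17_2 lc_d_rc_15_1 lc_d_rc_15_1 lc_d_rc_27_2 lc_d_rc_3_3 lc_d_Cert_tree lc_d_rc_16_2 lc_d_rc_16_4 lc_d_Cert_tree lc_d_rc_15_1 lc_d_rc_27_2 lc_d_rc_15_1 lc_d_rc_15_1 lc_d_rc_3_1 lc_d_rc_8_3 lc_d_rc_15_1 lc_d_rc_24_0 lc_d_rc_25_14 lc_d_rc_8_3 lc_d_rc_8_3 lc_d_rc_15_1 lc_d_Cert_tree lc_d_rc_15_1 lc_d_rc_15_1 lc_d_rc_15_1 lc_d_rc_27_10 lc_d_rc_15_1 lc_d_rc_15_1 lc_d_rc_22_8 lc_d_rc_15_1 lc_d_rc_8_1 lc_d_rc_16_2 lc_d_rc_25_18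 lc_d_Cert_tree lc_d_rc_16_4 lc_d_rc_15_1 lc_d_rc_15_1 lc_d_rc_23_2 lc_d_rc_23_2 lc_d_rc_16_4 lc_d_rc_8_1 lc_d_rc_15_1 lc_d_rc_15_1 lc_d_rc_8_3 lc_d_rc_3_3 lc_d_Cert_tree lc_d_Cert_tree lc_d_Cert_tree lc_d_rc_15_1 lc_d_rc_8_3 lc_d_rc_8_3 lc_d_rc_27_10 lc_d_rc_15_1 lc_d_rc_15_1 lc_d_rc_16_2 lc_d_Cert_tree lc_d_rc_15_1 lc_d_rc_12_1 lc_d_rc_27_4 lc_d_rc_23_8 lc_d_rc_3_3) (@D3.rec (fun _ => (Cert rels S Gen.d)) lc_d_rc_15_1 lc_d_rc_15_1 lc_d_Cert_tree lc_d_rc_15_1 lc_d_rc_27_2 lc_d_rc_16_4 lc_d_Cert_tree lc_d_Cert_tree lc_d_rc_23_8 lc_d_rc_15_1 lc_d_rc_8_3 lc_d_Cert_tree lc_d_rc_15_1 lc_d_rc_17_0 lc_d_rc_16_4 lc_d_rc_8_3 lc_d_rc_15_1 lc_d_rc_15_1 lc_d_rc_27_4 lc_d_rc_27_4 lc_d_Cert_tree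 lc_d_rc_16_4 lc_d_rc_16_2 lc_d_rc_16_2 lc_d_rc_15_1 lc_d_rc_24_0 lc_d_rc_15_1 lc_d_rc_15_1 lc_d_rc_17_2 lc_d_rc_3_1 lc_d_rc_27_8 lc_d_rc_15_1 lc_d_rc_15_1 lc_d_rc_15_1 lc_d_rc_3_3 lc_d_rc_8_1 lc_d_Cert_tree lc_d_rc_15_1 lc_d_rc_24_5 lc_d_Cert_tree lc_d_rc_27_10 lc_d_rc_8_3 lc_d_rc_22_8 lc_d_rc_17_2 lc_d_rc_23_8 lc_d_rc_22_6 lc_d_rc_8_3 lc_d_rc_15_1 lc_d_rc_27_10 lc_d_rc_27_10 lc_d_rc_15_1 lc_d_rc_15_1 lc_d_rc_16_4 lc_d_rc_23_2 lc_d_rc_27_4 lc_d_rc_3_3 lc_d_rc_15_1 lc_d_rc_15_1 lc_d_rc_15_1 lc_d_rc_15_1 lc_d_rc_27_2 lc_d_rc_16_2) (@D3.rec (fun _ => (Cert rels S Gen.d)) lc_d_rc_16_2 lc_d_rc_25_18 lc_d_rc_15_1 lc_d_rc_15_1 lc_d_rc_27_4 lc_d_rc_16_2 lc_d_rc_16_0 lc_d_rc_8_1 lc_d_rc_27_4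 lc_d_rc_8_3 lc_d_rc_16_4 lc_d_rc_23_6 lc_d_rc_22_8 lc_d_rc_24_0 lc_d_rc_16_4 lc_d_rc_15_1 lc_d_rc_24_0 lc_d_rc_8_1 lc_d_Cert_tree lc_d_rc_16_4 lc_d_rc_15_1 lc_d_rc_22_6 lc_d_rc_16_2 lc_d_rc_17_2 lc_d_rc_8_1 lc_d_rc_17_2 lc_d_rc_15_1 lc_d_rc_16_4 lc_d_rc_3_1 lc_d_rc_3_3 lc_d_Cert_tree lc_d_Cert_tree lc_d_rc_15_1 lc_d_rc_22_8 lc_d_rc_27_4 lc_d_Cert_tree lc_d_rc_8_3 lc_d_Cert_tree lc_d_rc_3_3 lc_d_Cert_tree lc_d_Cert_tree lc_d_rc_16_2 lc_d_rc_8_1 lc_d_rc_24_5 lc_d_rc_8_3 lc_d_Cert_tree lc_d_rc_15_1 lc_d_rc_17_2 lc_d_rc_27_4 lc_d_rc_27_2 lc_d_rc_16_4 lc_d_rc_15_1 lc_d_rc_16_4 lc_d_rc_16_4 lc_d_rc_16_4 lc_d_rc_15_1 lc_d_rc_27_2 lc_d_rc_24_5 lc_d_Cert_tree lc_d_rc_15_1 lc_d_rc_16_4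 lc_d_rc_22_4) (@D3.rec (fun _ => (Cert rels S Gen.d)) lc_d_rc_22_8 lc_d_rc_16_4 lc_d_rc_15_1 lc_d_rc_3_3 lc_d_rc_15_1 lc_d_rc_24_5 lc_d_rc_22_4 lc_d_rc_16_2 lc_d_rc_8_3 lc_d_Cert_tree lc_d_rc_15_1 lc_d_rc_17_2 lc_d_rc_17_2 lc_d_rc_15_1 lc_d_rc_3_1 lc_d_rc_23_2 lc_d_rc_24_5 lc_d_rc_17_2 lc_d_rc_15_1 lc_d_rc_15_1 lc_d_rc_27_4 lc_d_rc_3_3 lc_d_Cert_tree lc_d_rc_15_1 lc_d_rc_15_1 lc_d_Cert_tree lc_d_rc_23_8 lc_d_rc_17_2 lc_d_rc_8_3 lc_d_rc_15_1 lc_d_Cert_tree lc_d_rc_15_1 lc_d_rc_15_1 lc_d_rc_16_4 lc_d_rc_15_1 lc_d_rc_15_1 lc_d_rc_27_8 lc_d_rc_15_1 lc_d_rc_23_8 lc_d_rc_15_1 lc_d_rc_15_1 lc_d_rc_15_1 lc_d_rc_15_1 lc_d_rc_27_4 lc_d_rc_3_3 lc_d_rc_15_1 lc_d_rc_27_8 lc_d_rc_24_0 lc_d_rc_17_2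 lc_d_rc_15_1 lc_d_Cert_tree lc_d_Cert_tree lc_d_Cert_tree lc_d_rc_16_2 lc_d_rc_17_2 lc_d_Cert_tree lc_d_Cert_tree lc_d_rc_15_1 lc_d_Cert_tree lc_d_rc_24_5 lc_d_rc_15_1 lc_d_Cert_tree) (@D3.rec (fun _ => (Cert rels S Gen.d)) lc_d_Cert_tree lc_d_rc_15_1 lc_d_rc_17_2 lc_d_rc_24_0 lc_d_rc_22_6 lc_d_rc_16_2 lc_d_rc_17_2 lc_d_Cert_tree lc_d_rc_27_10 lc_d_rc_15_1 lc_d_rc_16_2 lc_d_rc_15_1 lc_d_rc_8_1 lc_d_rc_15_1 lc_d_rc_15_1 lc_d_rc_27_2 lc_d_rc_16_2 lc_d_rc_15_1 lc_d_rc_17_2 lc_d_rc_15_1 lc_d_rc_15_1 lc_d_rc_15_1 lc_d_rc_12_1 lc_d_rc_17_2 lc_d_rc_15_1 lc_d_rc_15_1 lc_d_rc_15_1 lc_d_Cert_tree lc_d_rc_15_1 lc_d_Cert_tree lc_d_Cert_tree lc_d_rc_23_4 lc_d_rc_23_2 lc_d_rc_17_2 lc_d_rc_23_6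 lc_d_rc_17_0 lc_d_rc_15_1 lc_d_rc_15_1 lc_d_rc_15_1 lc_d_rc_3_3 lc_d_rc_8_3 lc_d_rc_3_3 lc_d_rc_23_8 lc_d_rc_27_2 lc_d_rc_17_0 lc_d_rc_15_1 lc_d_Cert_tree lc_d_rc_17_2 lc_d_rc_15_1 lc_d_rc_17_2 lc_d_Cert_tree lc_d_rc_15_1 lc_d_Cert_tree lc_d_rc_16_0 lc_d_rc_15_1 lc_d_rc_17_2 lc_d_rc_17_2 lc_d_rc_27_2 lc_d_rc_15_1 lc_d_rc_15_1 lc_d_rc_16_2 lc_d_rc_25_10)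
def ce_d_18 : D2 → D3 → (Cert rels S Gen.d) := @D2.rec (fun _ => D3 → (Cert rels S Gen.d)) (@D3.rec (fun _ => (Cert rels S Gen.d)) lc_d_rc_16_0 lc_d_rc_15_1 lc_d_rc_17_2 lc_d_rc_15_1 lc_d_rc_8_3 lc_d_rc_15_1 lc_d_rc_15_1 lc_d_rc_15_1 lc_d_rc_22_4 lc_d_rc_17_2 lc_d_rc_27_8 lc_d_rc_15_1 lc_d_rc_3_3 lc_d_rc_8_3 lc_d_rc_24_5 lc_d_rc_27_4 lc_d_rc_15_1 lc_d_rc_8_3 lc_d_rc_23_2 lc_d_rc_15_1 lc_d_rc_15_1 lc_d_rc_22_8 lc_d_rc_22_2 lc_d_rc_15_1 lc_d_rc_8_3 lc_d_rc_3_1 lc_d_rc_15_1 lc_d_Cert_tree lc_d_rc_17_2 lc_d_rc_24_5 lc_d_rc_17_2 lc_d_rc_15_1 lc_d_rc_8_3 lc_d_rc_17_2 lc_d_rc_8_3 lc_d_rc_17_2 lc_d_Cert_tree lc_d_rc_16_4 lc_d_rc_15_1 lc_d_Cert_tree lc_d_rc_27_2 lc_d_Cert_tree lc_d_Cert_tree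 lc_d_rc_27_2 lc_d_rc_17_2 lc_d_rc_16_4 lc_d_rc_8_3 lc_d_rc_15_1 lc_d_rc_15_1 lc_d_rc_27_2 lc_d_rc_3_3 lc_d_rc_27_8 lc_d_rc_23_6 lc_d_rc_23_6 lc_d_rc_22_8 lc_d_rc_15_1 lc_d_rc_22_2 lc_d_Cert_tree lc_d_rc_15_1 lc_d_rc_22_6 lc_d_rc_16_4 lc_d_rc_8_1) (@D3.rec (fun _ => (Cert rels S Gen.d)) lc_d_rc_27_4 lc_d_rc_15_1 lc_d_Cert_tree lc_d_rc_22_4 lc_d_rc_15_1 lc_d_Cert_tree lc_d_rc_22_2 lc_d_Cert_tree lc_d_rc_15_1 lc_d_rc_22_2 lc_d_rc_22_6 lc_d_rc_15_1 lc_d_rc_27_4 lc_d_rc_23_6 lc_d_rc_24_5 lc_d_rc_16_4 lc_d_rc_15_1 lc_d_Cert_tree lc_d_rc_16_0 lc_d_rc_24_0 lc_d_rc_8_3 lc_d_rc_16_4 lc_d_rc_15_1 lc_d_rc_15_1 lc_d_Cert_tree lc_d_rc_23_4 lc_d_rc_22_8 lc_d_rc_27_2 lc_d_rc_15_1 lc_d_rc_27_2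 lc_d_rc_15_1 lc_d_rc_17_2 lc_d_Cert_tree lc_d_rc_8_1 lc_d_rc_24_5 lc_d_rc_16_4 lc_d_rc_15_1 lc_d_rc_15_1 lc_d_rc_27_4 lc_d_Cert_tree lc_d_rc_15_1 lc_d_rc_27_2 lc_d_rc_22_2 lc_d_rc_15_1 lc_d_rc_23_8 lc_d_rc_8_1 lc_d_rc_8_3 lc_d_Cert_tree lc_d_rc_15_1 lc_d_rc_22_8 lc_d_rc_15_1 lc_d_rc_15_1 lc_d_rc_17_2 lc_d_Cert_tree lc_d_rc_15_1 lc_d_rc_22_8 lc_d_rc_8_3 lc_d_Cert_tree lc_d_rc_16_2 lc_d_rc_15_1 lc_d_rc_15_1 lc_d_rc_22_6) (@D3.rec (fun _ => (Cert rels S Gen.d)) lc_d_rc_8_1 lc_d_rc_15_1 lc_d_rc_8_3 lc_d_rc_15_1 lc_d_rc_27_2 lc_d_rc_15_1 lc_d_rc_24_0 lc_d_rc_8_3 lc_d_rc_15_1 lc_d_Cert_tree lc_d_rc_15_1 lc_d_rc_24_5 lc_d_rc_27_4 lc_d_rc_17_0 lc_d_rc_15_1 lc_d_rc_15_1 lc_d_rc_16_4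 lc_d_rc_8_1 lc_d_rc_15_1 lc_d_rc_22_2 lc_d_rc_15_1 lc_d_rc_16_2 lc_d_rc_8_1 lc_d_rc_8_3 lc_d_rc_15_1 lc_d_rc_22_8 lc_d_rc_8_3 lc_d_rc_15_1 lc_d_rc_17_0 lc_d_rc_15_1 lc_d_rc_15_1 lc_d_rc_8_3 lc_d_rc_8_3 lc_d_rc_8_1 lc_d_rc_24_0 lc_d_rc_8_3 lc_d_rc_23_2 lc_d_rc_3_1 lc_d_rc_15_1 lc_d_rc_17_2 lc_d_rc_17_2 lc_d_Cert_tree lc_d_rc_15_1 lc_d_rc_16_2 lc_d_rc_8_3 lc_d_rc_17_2 lc_d_Cert_tree lc_d_rc_15_1 lc_d_rc_27_2 lc_d_rc_8_3 lc_d_rc_15_1 lc_d_rc_23_2 lc_d_rc_8_3 lc_d_rc_22_2 lc_d_rc_25_14 lc_d_rc_8_3 lc_d_rc_22_6 lc_d_rc_16_4 lc_d_rc_8_3 lc_d_rc_8_3 lc_d_Cert_tree lc_d_rc_25_2) (@D3.rec (fun _ => (Cert rels S Gen.d)) lc_d_rc_23_2 lc_d_Cert_tree lc_d_rc_15_1 lc_d_rc_16_4 lc_d_Cert_tree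 lc_d_rc_15_1 lc_d_rc_8_3 lc_d_rc_15_1 lc_d_rc_15_1 lc_d_rc_16_4 lc_d_rc_15_1 lc_d_rc_8_3 lc_d_rc_15_1 lc_d_rc_15_1 lc_d_rc_16_4 lc_d_Cert_tree lc_d_Cert_tree lc_d_rc_17_2 lc_d_rc_8_3 lc_d_rc_16_4 lc_d_rc_23_8 lc_d_rc_23_8 lc_d_Cert_tree lc_d_rc_15_1 lc_d_rc_23_8 lc_d_rc_23_8 lc_d_Cert_tree lc_d_rc_15_1 lc_d_rc_8_3 lc_d_rc_22_2 lc_d_rc_24_0 lc_d_rc_8_3 lc_d_rc_15_1 lc_d_rc_3_3 lc_d_rc_16_2 lc_d_rc_22_8 lc_d_Cert_tree lc_d_rc_15_1 lc_d_rc_3_1 lc_d_rc_15_1 lc_d_rc_27_8 lc_d_Cert_tree lc_d_rc_25_14 lc_d_Cert_tree lc_d_rc_15_1 lc_d_Cert_tree lc_d_rc_3_1 lc_d_rc_15_1 lc_d_rc_17_2 lc_d_Cert_tree lc_d_Cert_tree lc_d_rc_27_4 lc_d_rc_15_1 lc_d_rc_8_1 lc_d_rc_22_6 lc_d_rc_24_0 lc_d_rc_8_1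 lc_d_rc_15_1 lc_d_rc_8_3 lc_d_rc_22_4 lc_d_rc_25_6 lc_d_rc_24_0) (@D3.rec (fun _ => (Cert rels S Gen.d)) lc_d_Cert_tree lc_d_rc_15_1 lc_d_rc_8_3 lc_d_rc_15_1 lc_d_rc_23_2 lc_d_rc_23_2 lc_d_rc_8_3 lc_d_Cert_tree lc_d_rc_15_1 lc_d_rc_15_1 lc_d_Cert_tree lc_d_Cert_tree lc_d_Cert_tree lc_d_rc_17_2 lc_d_rc_15_1 lc_d_rc_15_1 lc_d_rc_8_3 lc_d_rc_17_2 lc_d_rc_8_3 lc_d_rc_25_2 lc_d_rc_15_1 lc_d_rc_22_2 lc_d_rc_15_1 lc_d_rc_15_1 lc_d_rc_22_8 lc_d_rc_16_4 lc_d_rc_25_2 lc_d_rc_22_6 lc_d_rc_15_1 lc_d_rc_16_2 lc_d_rc_3_3 lc_d_rc_22_6 lc_d_rc_15_1 lc_d_rc_3_1 lc_d_rc_15_1 lc_d_rc_8_1 lc_d_rc_8_3 lc_d_Cert_tree lc_d_Cert_tree lc_d_rc_15_1 lc_d_rc_17_2 lc_d_rc_16_0 lc_d_Cert_tree lc_d_Cert_tree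 lc_d_rc_23_8 lc_d_rc_24_0 lc_d_rc_15_1 lc_d_rc_15_1 lc_d_Cert_tree lc_d_rc_23_2 lc_d_rc_15_1 lc_d_rc_25_6 lc_d_rc_24_0 lc_d_rc_22_2 lc_d_rc_15_1 lc_d_rc_27_4 lc_d_rc_16_4 lc_d_rc_24_5 lc_d_rc_15_1 lc_d_Cert_tree lc_d_Cert_tree lc_d_rc_23_4) (@D3.rec (fun _ => (Cert rels S Gen.d)) lc_d_rc_15_1 lc_d_rc_25_2 lc_d_rc_15_1 lc_d_rc_3_3 lc_d_rc_24_0 lc_d_rc_23_2 lc_d_rc_8_1 lc_d_rc_16_2 lc_d_rc_22_2 lc_d_rc_22_6 lc_d_rc_23_4 lc_d_rc_27_4 lc_d_rc_16_4 lc_d_rc_22_8 lc_d_rc_16_4 lc_d_Cert_tree lc_d_rc_17_2 lc_d_rc_25_2 lc_d_rc_16_0 lc_d_rc_15_1 lc_d_rc_15_1 lc_d_Cert_tree lc_d_rc_15_1 lc_d_rc_22_4 lc_d_rc_15_1 lc_d_Cert_tree lc_d_rc_15_1 lc_d_rc_15_1 lc_d_rc_8_3 lc_d_rc_22_6 lc_d_rc_24_5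 lc_d_rc_24_0 lc_d_rc_22_2 lc_d_rc_8_3 lc_d_rc_27_4 lc_d_rc_16_0 lc_d_rc_27_4 lc_d_rc_23_2 lc_d_rc_27_2 lc_d_rc_27_2 lc_d_rc_27_2 lc_d_rc_15_1 lc_d_rc_15_1 lc_d_rc_15_1 lc_d_Cert_tree lc_d_rc_15_1 lc_d_rc_16_2 lc_d_rc_23_4 lc_d_rc_23_4 lc_d_rc_22_2 lc_d_rc_15_1 lc_d_rc_15_1 lc_d_rc_27_10 lc_d_rc_27_10 lc_d_rc_23_4 lc_d_rc_15_1 lc_d_rc_8_3 lc_d_rc_15_1 lc_d_Cert_tree lc_d_rc_8_3 lc_d_rc_23_4 lc_d_rc_16_4) (@D3.rec (fun _ => (Cert rels S Gen.d)) lc_d_rc_15_1 lc_d_rc_23_2 lc_d_rc_25_6 lc_d_rc_23_6 lc_d_rc_15_1 lc_d_rc_3_3 lc_d_rc_24_0 lc_d_rc_15_1 lc_d_rc_8_3 lc_d_rc_27_8 lc_d_rc_15_1 lc_d_rc_15_1 lc_d_rc_15_1 lc_d_rc_17_0 lc_d_rc_15_1 lc_d_rc_15_1 lc_d_rc_22_4 lc_d_rc_17_2 lc_d_rc_8_3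 lc_d_rc_15_1 lc_d_rc_27_2 lc_d_rc_27_4 lc_d_rc_15_1 lc_d_rc_3_3 lc_d_Cert_tree lc_d_rc_15_1 lc_d_rc_25_2 lc_d_rc_25_2 lc_d_Cert_tree lc_d_rc_3_3 lc_d_rc_23_4 lc_d_rc_15_1 lc_d_rc_8_3 lc_d_Cert_tree lc_d_rc_15_1 lc_d_Cert_tree lc_d_rc_15_1 lc_d_Cert_tree lc_d_rc_15_1 lc_d_rc_8_3 lc_d_Cert_tree lc_d_rc_15_1 lc_d_rc_25_6 lc_d_rc_24_5 lc_d_rc_15_1 lc_d_rc_27_4 lc_d_rc_24_5 lc_d_rc_24_0 lc_d_rc_15_1 lc_d_Cert_tree lc_d_rc_15_1 lc_d_rc_3_1 lc_d_Cert_tree lc_d_rc_15_1 lc_d_Cert_tree lc_d_rc_8_3 lc_d_Cert_tree lc_d_rc_17_0 lc_d_rc_15_1 lc_d_rc_17_2 lc_d_rc_8_3 lc_d_Cert_tree) (@D3.rec (fun _ => (Cert rels S Gen.d)) lc_d_rc_8_3 lc_d_rc_8_3 lc_d_rc_15_1 lc_d_rc_24_0 lc_d_rc_15_1 lc_d_rc_22_2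 lc_d_rc_15_1 lc_d_rc_15_1 lc_d_rc_24_0 lc_d_rc_17_2 lc_d_Cert_tree lc_d_rc_25_18 lc_d_rc_15_1 lc_d_rc_22_6 lc_d_rc_23_4 lc_d_rc_15_1 lc_d_rc_16_2 lc_d_rc_15_1 lc_d_rc_27_2 lc_d_rc_15_1 lc_d_rc_23_8 lc_d_rc_17_2 lc_d_Cert_tree lc_d_Cert_tree lc_d_rc_15_1 lc_d_rc_8_1 lc_d_rc_23_4 lc_d_rc_15_1 lc_d_rc_22_2 lc_d_rc_15_1 lc_d_Cert_tree lc_d_rc_8_1 lc_d_rc_15_1 lc_d_rc_22_6 lc_d_rc_15_1 lc_d_rc_8_3 lc_d_rc_8_3 lc_d_rc_16_2 lc_d_rc_23_6 lc_d_Cert_tree lc_d_rc_16_2 lc_d_rc_17_2 lc_d_rc_22_2 lc_d_rc_27_8 lc_d_rc_12_13 lc_d_rc_23_2 lc_d_rc_8_3 lc_d_Cert_tree lc_d_rc_17_2 lc_d_Cert_tree lc_d_rc_15_1 lc_d_rc_15_1 lc_d_rc_15_1 lc_d_rc_16_4 lc_d_rc_8_3 lc_d_rc_3_1 lc_d_rc_27_2 lc_d_rc_8_3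 lc_d_rc_24_5 lc_d_Cert_tree lc_d_rc_23_8 lc_d_rc_24_0) (@D3.rec (fun _ => (Cert rels S Gen.d)) lc_d_rc_22_8 lc_d_Cert_tree lc_d_rc_22_8 lc_d_rc_15_1 lc_d_rc_17_2 lc_d_rc_27_2 lc_d_Cert_tree lc_d_Cert_tree lc_d_rc_15_1 lc_d_rc_3_3 lc_d_rc_22_8 lc_d_rc_15_1 lc_d_rc_23_4 lc_d_rc_15_1 lc_d_rc_3_3 lc_d_rc_15_1 lc_d_rc_16_4 lc_d_rc_22_4 lc_d_rc_22_2 lc_d_rc_15_1 lc_d_rc_17_2 lc_d_rc_15_1 lc_d_rc_23_8 lc_d_rc_3_3 lc_d_Cert_tree lc_d_Cert_tree lc_d_rc_15_1 lc_d_rc_16_2 lc_d_rc_23_2 lc_d_Cert_tree lc_d_rc_15_1 lc_d_rc_27_4 lc_d_Cert_tree lc_d_rc_15_1 lc_d_rc_27_8 lc_d_Cert_tree lc_d_Cert_tree lc_d_Cert_tree lc_d_rc_15_1 lc_d_Cert_tree lc_d_rc_15_1 lc_d_rc_22_2 lc_d_rc_8_1 lc_d_rc_15_1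 lc_d_rc_23_6 lc_d_rc_22_6 lc_d_rc_15_1 lc_d_rc_8_3 lc_d_Cert_tree lc_d_rc_15_1 lc_d_Cert_tree lc_d_rc_27_4 lc_d_rc_27_2 lc_d_rc_8_3 lc_d_rc_3_1 lc_d_rc_15_1 lc_d_Cert_tree lc_d_rc_23_6 lc_d_Cert_tree lc_d_rc_15_1 lc_d_rc_17_2 lc_d_Cert_tree) (@D3.rec (fun _ => (Cert rels S Gen.d)) lc_d_rc_15_1 lc_d_Cert_tree lc_d_rc_15_1 lc_d_rc_24_0 lc_d_rc_15_1 lc_d_rc_24_5 lc_d_Cert_tree lc_d_Cert_tree lc_d_Cert_tree lc_d_rc_15_1 lc_d_rc_22_2 lc_d_Cert_tree lc_d_Cert_tree lc_d_rc_8_3 lc_d_rc_12_15 lc_d_rc_15_1 lc_d_rc_8_3 lc_d_Cert_tree lc_d_Cert_tree lc_d_rc_15_1 lc_d_rc_17_2 lc_d_rc_8_1 lc_d_rc_15_1 lc_d_rc_15_1 lc_d_Cert_tree lc_d_rc_8_1 lc_d_rc_15_1 lc_d_Cert_tree lc_d_rc_15_1 lc_d_rc_22_6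 lc_d_rc_15_1 lc_d_rc_24_0 lc_d_rc_22_8 lc_d_Cert_tree lc_d_Cert_tree lc_d_Cert_tree lc_d_rc_15_1 lc_d_rc_23_2 lc_d_rc_16_0 lc_d_rc_15_1 lc_d_rc_22_2 lc_d_Cert_tree lc_d_rc_15_1 lc_d_Cert_tree lc_d_rc_15_1 lc_d_Cert_tree lc_d_rc_23_6 lc_d_rc_15_1 lc_d_rc_22_8 lc_d_rc_17_2 lc_d_rc_16_4 lc_d_Cert_tree lc_d_rc_15_1 lc_d_rc_8_3 lc_d_Cert_tree lc_d_rc_15_1 lc_d_Cert_tree lc_d_rc_23_8 lc_d_rc_15_1 lc_d_rc_3_3 lc_d_rc_27_2 lc_d_rc_15_1) (@D3.rec (fun _ => (Cert rels S Gen.d)) lc_d_rc_23_2 lc_d_rc_8_3 lc_d_rc_27_8 lc_d_rc_24_5 lc_d_Cert_tree lc_d_rc_16_2 lc_d_rc_15_1 lc_d_rc_8_3 lc_d_rc_27_4 lc_d_rc_15_1 lc_d_rc_23_6 lc_d_rc_15_1 lc_d_rc_17_2 lc_d_rc_8_3 lc_d_Cert_tree lc_d_rc_8_3 lc_d_rc_8_3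 lc_d_rc_15_1 lc_d_rc_27_2 lc_d_rc_12_1 lc_d_rc_27_4 lc_d_rc_17_2 lc_d_rc_15_1 lc_d_rc_24_5 lc_d_rc_24_0 lc_d_Cert_tree lc_d_rc_22_4 lc_d_rc_24_0 lc_d_rc_15_1 lc_d_rc_22_6 lc_d_rc_8_3 lc_d_Cert_tree lc_d_rc_27_4 lc_d_rc_8_3 lc_d_Cert_tree lc_d_rc_15_1 lc_d_rc_23_8 lc_d_rc_8_3 lc_d_rc_15_1 lc_d_Cert_tree lc_d_rc_3_3 lc_d_rc_24_5 lc_d_rc_23_2 lc_d_rc_23_2 lc_d_Cert_tree lc_d_Cert_tree lc_d_rc_23_2 lc_d_rc_23_8 lc_d_rc_16_4 lc_d_rc_3_3 lc_d_rc_15_1 lc_d_Cert_tree lc_d_rc_3_3 lc_d_rc_15_1 lc_d_rc_17_2 lc_d_rc_15_1 lc_d_rc_24_5 lc_d_rc_15_1 lc_d_rc_15_1 lc_d_Cert_tree lc_d_rc_8_3 lc_d_Cert_tree) (@D3.rec (fun _ => (Cert rels S Gen.d)) lc_d_rc_27_8 lc_d_rc_8_3 lc_d_rc_22_8 lc_d_rc_8_3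 lc_d_rc_3_3 lc_d_rc_27_2 lc_d_rc_3_3 lc_d_Cert_tree lc_d_rc_8_3 lc_d_rc_15_1 lc_d_rc_3_3 lc_d_rc_23_8 lc_d_rc_3_3 lc_d_rc_8_3 lc_d_Cert_tree lc_d_Cert_tree lc_d_Cert_tree lc_d_rc_15_1 lc_d_Cert_tree lc_d_Cert_tree lc_d_rc_15_1 lc_d_Cert_tree lc_d_Cert_tree lc_d_Cert_tree lc_d_rc_15_1 lc_d_Cert_tree lc_d_Cert_tree lc_d_rc_15_1 lc_d_rc_15_1 lc_d_rc_22_8 lc_d_rc_27_8 lc_d_rc_15_1 lc_d_Cert_tree lc_d_Cert_tree lc_d_rc_15_1 lc_d_rc_24_0 lc_d_rc_24_0 lc_d_Cert_tree lc_d_rc_15_1 lc_d_Cert_tree lc_d_Cert_tree lc_d_Cert_tree lc_d_rc_25_18 lc_d_rc_15_1 lc_d_rc_15_1 lc_d_Cert_tree lc_d_rc_15_1 lc_d_Cert_tree lc_d_rc_23_8 lc_d_rc_8_3 lc_d_rc_15_1 lc_d_Cert_tree lc_d_Cert_tree lc_d_rc_15_1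 lc_d_rc_8_3 lc_d_rc_3_1 lc_d_rc_17_2 lc_d_rc_15_1 lc_d_Cert_tree lc_d_rc_12_15 lc_d_rc_15_1 lc_d_rc_15_1) (@D3.rec (fun _ => (Cert rels S Gen.d)) lc_d_rc_8_1 lc_d_rc_24_5 lc_d_rc_15_1 lc_d_Cert_tree lc_d_rc_27_8 lc_d_rc_15_1 lc_d_rc_22_2 lc_d_rc_15_1 lc_d_rc_17_0 lc_d_rc_15_1 lc_d_rc_15_1 lc_d_rc_22_8 lc_d_Cert_tree lc_d_Cert_tree lc_d_rc_15_1 lc_d_rc_16_0 lc_d_Cert_tree lc_d_Cert_tree lc_d_rc_15_1 lc_d_rc_17_2 lc_d_rc_22_2 lc_d_rc_15_1 lc_d_rc_15_1 lc_d_rc_8_3 lc_d_rc_15_1 lc_d_rc_17_2 lc_d_Cert_tree lc_d_rc_15_1 lc_d_rc_27_4 lc_d_rc_17_0 lc_d_rc_15_1 lc_d_rc_3_3 lc_d_rc_15_1 lc_d_rc_24_0 lc_d_rc_8_3 lc_d_rc_16_4 lc_d_Cert_tree lc_d_rc_24_5 lc_d_rc_24_0 lc_d_rc_15_1 lc_d_Cert_tree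 lc_d_rc_15_1 lc_d_rc_24_5 lc_d_rc_23_2 lc_d_Cert_tree lc_d_rc_15_1 lc_d_rc_16_4 lc_d_Cert_tree lc_d_rc_27_10 lc_d_rc_8_3 lc_d_Cert_tree lc_d_rc_15_1 lc_d_rc_23_8 lc_d_rc_3_1 lc_d_rc_16_2 lc_d_rc_27_2 lc_d_rc_15_1 lc_d_rc_8_3 lc_d_rc_8_1 lc_d_rc_15_1 lc_d_rc_23_2 lc_d_rc_8_3) (@D3.rec (fun _ => (Cert rels S Gen.d)) lc_d_rc_8_1 lc_d_rc_8_3 lc_d_Cert_tree lc_d_rc_27_2 lc_d_rc_24_0 lc_d_rc_15_1 lc_d_rc_17_0 lc_d_rc_15_1 lc_d_rc_8_3 lc_d_Cert_tree lc_d_rc_8_3 lc_d_rc_15_1 lc_d_rc_24_0 lc_d_rc_15_1 lc_d_rc_24_0 lc_d_rc_22_8 lc_d_rc_22_8 lc_d_rc_8_3 lc_d_rc_8_3 lc_d_rc_15_1 lc_d_rc_16_0 lc_d_Cert_tree lc_d_Cert_tree lc_d_rc_15_1 lc_d_rc_16_4 lc_d_rc_8_1 lc_d_rc_15_1 lc_d_rc_27_2 lc_d_rc_15_1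 lc_d_rc_27_8 lc_d_rc_15_1 lc_d_rc_23_6 lc_d_rc_22_4 lc_d_rc_17_2 lc_d_rc_15_1 lc_d_Cert_tree lc_d_rc_15_1 lc_d_Cert_tree lc_d_rc_16_4 lc_d_rc_15_1 lc_d_rc_27_2 lc_d_Cert_tree lc_d_rc_15_1 lc_d_rc_25_18 lc_d_rc_17_0 lc_d_rc_24_5 lc_d_rc_16_4 lc_d_rc_24_0 lc_d_Cert_tree lc_d_rc_15_1 lc_d_rc_22_2 lc_d_rc_16_0 lc_d_rc_16_0 lc_d_rc_15_1 lc_d_rc_17_2 lc_d_rc_15_1 lc_d_rc_24_5 lc_d_rc_23_6 lc_d_Cert_tree lc_d_rc_15_1 lc_d_Cert_tree lc_d_Cert_tree) (@D3.rec (fun _ => (Cert rels S Gen.d)) lc_d_rc_15_1 lc_d_rc_27_2 lc_d_rc_16_0 lc_d_rc_22_4 lc_d_Cert_tree lc_d_rc_17_2 lc_d_rc_16_4 lc_d_rc_22_6 lc_d_rc_8_1 lc_d_rc_8_3 lc_d_rc_16_4 lc_d_rc_15_1 lc_d_rc_23_2 lc_d_rc_15_1 lc_d_rc_8_3 lc_d_rc_24_0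 lc_d_rc_8_1 lc_d_rc_8_3 lc_d_rc_23_8 lc_d_rc_23_8 lc_d_Cert_tree lc_d_rc_15_1 lc_d_rc_17_0 lc_d_rc_16_2 lc_d_rc_15_1 lc_d_rc_15_1 lc_d_rc_22_2 lc_d_Cert_tree lc_d_Cert_tree lc_d_rc_15_1 lc_d_rc_17_0 lc_d_Cert_tree lc_d_rc_15_1 lc_d_rc_15_1 lc_d_rc_15_1 lc_d_Cert_tree lc_d_rc_15_1 lc_d_rc_22_4 lc_d_rc_15_1 lc_d_rc_3_3 lc_d_rc_22_4 lc_d_Cert_tree lc_d_rc_24_0 lc_d_rc_23_6 lc_d_rc_15_1 lc_d_rc_15_1 lc_d_rc_16_2 lc_d_rc_8_3 lc_d_Cert_tree lc_d_Cert_tree lc_d_Cert_tree lc_d_rc_15_1 lc_d_rc_17_2 lc_d_rc_8_3 lc_d_rc_27_4 lc_d_rc_15_1 lc_d_rc_23_6 lc_d_rc_15_1 lc_d_rc_22_4 lc_d_rc_17_2 lc_d_rc_8_1 lc_d_Cert_tree) (@D3.rec (fun _ => (Cert rels S Gen.d)) lc_d_Cert_tree lc_d_rc_15_1 lc_d_Cert_tree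 lc_d_rc_15_1 lc_d_rc_15_1 lc_d_Cert_tree lc_d_rc_22_2 lc_d_rc_15_1 lc_d_rc_17_0 lc_d_rc_15_1 lc_d_Cert_tree lc_d_rc_8_3 lc_d_rc_23_4 lc_d_rc_3_3 lc_d_rc_16_4 lc_d_rc_23_4 lc_d_rc_23_2 lc_d_rc_16_2 lc_d_Cert_tree lc_d_rc_27_4 lc_d_rc_8_1 lc_d_Cert_tree lc_d_rc_23_6 lc_d_rc_3_3 lc_d_rc_15_1 lc_d_Cert_tree lc_d_Cert_tree lc_d_rc_15_1 lc_d_rc_27_4 lc_d_rc_27_8 lc_d_rc_23_8 lc_d_rc_15_1 lc_d_rc_8_1 lc_d_rc_15_1 lc_d_rc_27_4 lc_d_rc_15_1 lc_d_rc_8_3 lc_d_rc_17_0 lc_d_rc_8_3 lc_d_rc_23_2 lc_d_rc_15_1 lc_d_rc_15_1 lc_d_Cert_tree lc_d_rc_8_1 lc_d_rc_17_2 lc_d_rc_15_1 lc_d_rc_27_2 lc_d_rc_15_1 lc_d_Cert_tree lc_d_rc_15_1 lc_d_rc_15_1 lc_d_rc_27_8 lc_d_rc_3_3 lc_d_rc_15_1 lc_d_rc_27_2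 lc_d_rc_24_5 lc_d_Cert_tree lc_d_rc_27_10 lc_d_rc_15_1 lc_d_rc_17_2 lc_d_rc_15_1 lc_d_rc_8_3) (@D3.rec (fun _ => (Cert rels S Gen.d)) lc_d_Cert_tree lc_d_rc_27_2 lc_d_rc_23_2 lc_d_rc_27_4 lc_d_rc_24_5 lc_d_rc_27_4 lc_d_rc_3_3 lc_d_rc_15_1 lc_d_rc_15_1 lc_d_rc_16_4 lc_d_Cert_tree lc_d_rc_22_6 lc_d_rc_15_1 lc_d_rc_15_1 lc_d_rc_15_1 lc_d_Cert_tree lc_d_rc_15_1 lc_d_rc_15_1 lc_d_Cert_tree lc_d_rc_27_2 lc_d_rc_15_1 lc_d_Cert_tree lc_d_rc_15_1 lc_d_rc_17_2 lc_d_rc_15_1 lc_d_Cert_tree lc_d_rc_15_1 lc_d_rc_8_3 lc_d_rc_15_1 lc_d_Cert_tree lc_d_rc_17_2 lc_d_rc_15_1 lc_d_rc_8_3 lc_d_rc_27_4 lc_d_rc_15_1 lc_d_rc_16_2 lc_d_rc_17_2 lc_d_rc_23_4 lc_d_rc_22_4 lc_d_rc_22_2 lc_d_Cert_tree lc_d_rc_23_2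 lc_d_rc_15_1 lc_d_rc_24_5 lc_d_rc_27_2 lc_d_Cert_tree lc_d_rc_15_1 lc_d_rc_22_4 lc_d_rc_22_4 lc_d_rc_15_1 lc_d_rc_27_4 lc_d_Cert_tree lc_d_rc_22_8 lc_d_rc_27_2 lc_d_rc_16_2 lc_d_rc_27_2 lc_d_Cert_tree lc_d_Cert_tree lc_d_rc_15_1 lc_d_rc_16_4 lc_d_rc_24_0 lc_d_rc_15_1) (@D3.rec (fun _ => (Cert rels S Gen.d)) lc_d_rc_16_4 lc_d_rc_8_3 lc_d_rc_23_8 lc_d_rc_15_1 lc_d_rc_8_3 lc_d_rc_8_3 lc_d_rc_17_0 lc_d_rc_8_3 lc_d_rc_15_1 lc_d_rc_27_4 lc_d_rc_24_0 lc_d_rc_15_1 lc_d_rc_15_1 lc_d_Cert_tree lc_d_rc_15_1 lc_d_rc_24_0 lc_d_rc_24_5 lc_d_rc_8_3 lc_d_rc_15_1 lc_d_rc_15_1 lc_d_rc_23_2 lc_d_rc_8_3 lc_d_rc_16_4 lc_d_rc_15_1 lc_d_rc_27_4 lc_d_rc_27_10 lc_d_rc_8_3 lc_d_rc_8_3 lc_d_rc_27_10 lc_d_rc_15_1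 lc_d_rc_27_4 lc_d_rc_16_4 lc_d_rc_22_4 lc_d_rc_8_3 lc_d_Cert_tree lc_d_rc_15_1 lc_d_Cert_tree lc_d_rc_8_3 lc_d_rc_8_1 lc_d_rc_23_2 lc_d_rc_15_1 lc_d_rc_15_1 lc_d_rc_8_3 lc_d_rc_23_2 lc_d_rc_24_0 lc_d_rc_17_0 lc_d_rc_22_8 lc_d_rc_15_1 lc_d_rc_8_3 lc_d_rc_27_4 lc_d_rc_25_14 lc_d_rc_16_4 lc_d_rc_24_0 lc_d_rc_15_1 lc_d_rc_15_1 lc_d_rc_15_1 lc_d_rc_27_2 lc_d_rc_24_5 lc_d_rc_27_4 lc_d_rc_27_2 lc_d_rc_8_3 lc_d_rc_8_3) (@D3.rec (fun _ => (Cert rels S Gen.d)) lc_d_rc_27_4 lc_d_rc_15_1 lc_d_rc_24_0 lc_d_rc_15_1 lc_d_rc_15_1 lc_d_Cert_tree lc_d_Cert_tree lc_d_rc_15_1 lc_d_rc_27_4 lc_d_rc_15_1 lc_d_Cert_tree lc_d_rc_15_1 lc_d_rc_27_4 lc_d_rc_15_1 lc_d_rc_15_1 lc_d_rc_15_1 lc_d_rc_23_8 lc_d_rc_17_2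 lc_d_rc_15_1 lc_d_rc_15_1 lc_d_rc_16_4 lc_d_rc_15_1 lc_d_rc_8_3 lc_d_Cert_tree lc_d_rc_15_1 lc_d_rc_8_3 lc_d_rc_15_1 lc_d_rc_27_10 lc_d_rc_15_1 lc_d_rc_8_1 lc_d_rc_8_1 lc_d_rc_25_6 lc_d_rc_15_1 lc_d_rc_17_2 lc_d_rc_23_4 lc_d_rc_15_1 lc_d_rc_15_1 lc_d_rc_23_2 lc_d_Cert_tree lc_d_rc_15_1 lc_d_Cert_tree lc_d_rc_16_0 lc_d_rc_17_2 lc_d_rc_16_2 lc_d_rc_16_4 lc_d_rc_24_0 lc_d_rc_16_4 lc_d_Cert_tree lc_d_rc_16_4 lc_d_rc_17_2 lc_d_rc_16_4 lc_d_Cert_tree lc_d_rc_15_1 lc_d_rc_17_2 lc_d_Cert_tree lc_d_rc_15_1 lc_d_rc_16_0 lc_d_rc_15_1 lc_d_rc_17_2 lc_d_Cert_tree lc_d_rc_27_4 lc_d_Cert_tree) (@D3.rec (fun _ => (Cert rels S Gen.d)) lc_d_rc_15_1 lc_d_rc_17_2 lc_d_rc_15_1 lc_d_Cert_tree lc_d_rc_16_2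 lc_d_Cert_tree lc_d_rc_16_2 lc_d_rc_15_1 lc_d_rc_15_1 lc_d_Cert_tree lc_d_rc_27_8 lc_d_rc_15_1 lc_d_rc_16_4 lc_d_rc_15_1 lc_d_rc_8_3 lc_d_rc_3_1 lc_d_Cert_tree lc_d_Cert_tree lc_d_Cert_tree lc_d_rc_15_1 lc_d_rc_17_2 lc_d_Cert_tree lc_d_Cert_tree lc_d_rc_15_1 lc_d_Cert_tree lc_d_rc_15_1 lc_d_rc_17_0 lc_d_rc_16_0 lc_d_rc_17_0 lc_d_rc_17_2 lc_d_rc_23_2 lc_d_rc_22_2 lc_d_Cert_tree lc_d_Cert_tree lc_d_Cert_tree lc_d_rc_15_1 lc_d_rc_15_1 lc_d_rc_16_4 lc_d_rc_16_0 lc_d_rc_23_2 lc_d_rc_8_1 lc_d_rc_22_6 lc_d_rc_15_1 lc_d_Cert_tree lc_d_Cert_tree lc_d_Cert_tree lc_d_rc_15_1 lc_d_rc_25_18 lc_d_rc_8_3 lc_d_rc_15_1 lc_d_rc_15_1 lc_d_rc_17_2 lc_d_rc_16_4 lc_d_rc_27_10 lc_d_rc_15_1 lc_d_Cert_tree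 lc_d_rc_22_6 lc_d_Cert_tree lc_d_rc_27_2 lc_d_Cert_tree lc_d_Cert_tree lc_d_rc_3_3) (@D3.rec (fun _ => (Cert rels S Gen.d)) lc_d_rc_15_1 lc_d_Cert_tree lc_d_rc_15_1 lc_d_Cert_tree lc_d_rc_15_1 lc_d_rc_24_0 lc_d_rc_23_6 lc_d_rc_15_1 lc_d_Cert_tree lc_d_rc_17_2 lc_d_rc_23_2 lc_d_rc_22_2 lc_d_rc_15_1 lc_d_rc_16_0 lc_d_rc_23_8 lc_d_Cert_tree lc_d_Cert_tree lc_d_rc_15_1 lc_d_Cert_tree lc_d_Cert_tree lc_d_Cert_tree lc_d_rc_15_1 lc_d_rc_17_2 lc_d_rc_23_2 lc_d_rc_27_2 lc_d_rc_22_2 lc_d_rc_24_5 lc_d_Cert_tree lc_d_rc_27_4 lc_d_rc_27_2 lc_d_rc_27_2 lc_d_rc_15_1 lc_d_rc_17_2 lc_d_rc_8_3 lc_d_rc_15_1 lc_d_rc_15_1 lc_d_rc_15_1 lc_d_rc_24_5 lc_d_rc_15_1 lc_d_rc_16_4 lc_d_rc_16_4 lc_d_rc_15_1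 lc_d_rc_17_2 lc_d_rc_3_3 lc_d_rc_3_1 lc_d_rc_15_1 lc_d_rc_3_1 lc_d_rc_22_2 lc_d_rc_15_1 lc_d_rc_8_3 lc_d_rc_15_1 lc_d_rc_3_3 lc_d_rc_8_3 lc_d_rc_15_1 lc_d_Cert_tree lc_d_Cert_tree lc_d_rc_15_1 lc_d_rc_27_8 lc_d_rc_8_1 lc_d_rc_15_1 lc_d_rc_27_2 lc_d_rc_3_3) (@D3.rec (fun _ => (Cert rels S Gen.d)) lc_d_rc_8_3 lc_d_rc_16_4 lc_d_rc_8_3 lc_d_rc_8_3 lc_d_rc_15_1 lc_d_rc_8_1 lc_d_rc_15_1 lc_d_rc_15_1 lc_d_rc_16_2 lc_d_rc_15_1 lc_d_Cert_tree lc_d_rc_17_2 lc_d_rc_24_5 lc_d_rc_17_2 lc_d_rc_23_2 lc_d_rc_24_0 lc_d_rc_22_6 lc_d_Cert_tree lc_d_rc_27_10 lc_d_rc_23_2 lc_d_rc_15_1 lc_d_rc_17_2 lc_d_rc_27_8 lc_d_rc_15_1 lc_d_rc_15_1 lc_d_rc_17_2 lc_d_rc_15_1 lc_d_rc_8_3 lc_d_rc_22_2 lc_d_rc_15_1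 lc_d_rc_27_4 lc_d_Cert_tree lc_d_rc_15_1 lc_d_rc_23_8 lc_d_rc_16_4 lc_d_rc_8_3 lc_d_rc_17_2 lc_d_rc_23_4 lc_d_rc_15_1 lc_d_rc_25_2 lc_d_rc_15_1 lc_d_rc_8_3 lc_d_rc_23_4 lc_d_rc_27_2 lc_d_rc_15_1 lc_d_rc_3_3 lc_d_rc_3_1 lc_d_rc_23_2 lc_d_rc_15_1 lc_d_rc_8_3 lc_d_rc_15_1 lc_d_rc_3_1 lc_d_rc_15_1 lc_d_rc_27_8 lc_d_rc_15_1 lc_d_Cert_tree lc_d_Cert_tree lc_d_rc_15_1 lc_d_rc_22_4 lc_d_rc_27_10 lc_d_rc_15_1 lc_d_rc_17_2) (@D3.rec (fun _ => (Cert rels S Gen.d)) lc_d_rc_8_1 lc_d_rc_15_1 lc_d_rc_15_1 lc_d_rc_15_1 lc_d_rc_24_5 lc_d_rc_17_2 lc_d_rc_27_10 lc_d_rc_15_1 lc_d_rc_23_4 lc_d_rc_27_4 lc_d_rc_27_8 lc_d_rc_23_4 lc_d_rc_15_1 lc_d_rc_8_3 lc_d_rc_16_2 lc_d_rc_15_1 lc_d_rc_15_1 lc_d_rc_8_3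 lc_d_rc_24_5 lc_d_Cert_tree lc_d_rc_8_1 lc_d_rc_24_5 lc_d_rc_15_1 lc_d_rc_16_4 lc_d_rc_27_8 lc_d_rc_16_2 lc_d_rc_15_1 lc_d_rc_16_4 lc_d_rc_15_1 lc_d_rc_23_8 lc_d_rc_16_4 lc_d_rc_17_2 lc_d_rc_15_1 lc_d_rc_8_1 lc_d_rc_8_3 lc_d_rc_16_4 lc_d_rc_23_2 lc_d_rc_27_2 lc_d_rc_8_3 lc_d_rc_27_4 lc_d_rc_15_1 lc_d_rc_27_8 lc_d_rc_12_3 lc_d_rc_16_2 lc_d_rc_22_2 lc_d_rc_16_2 lc_d_rc_3_3 lc_d_rc_27_8 lc_d_rc_16_2 lc_d_rc_15_1 lc_d_rc_17_2 lc_d_rc_8_3 lc_d_rc_24_5 lc_d_Cert_tree lc_d_rc_15_1 lc_d_rc_17_2 lc_d_rc_8_3 lc_d_rc_16_4 lc_d_rc_15_1 lc_d_rc_17_2 lc_d_rc_15_1 lc_d_rc_3_3) (@D3.rec (fun _ => (Cert rels S Gen.d)) lc_d_rc_8_3 lc_d_rc_8_3 lc_d_rc_15_1 lc_d_rc_15_1 lc_d_rc_17_2 lc_d_rc_17_2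 lc_d_rc_27_4 lc_d_rc_15_1 lc_d_rc_22_6 lc_d_rc_17_0 lc_d_Cert_tree lc_d_rc_15_1 lc_d_rc_17_2 lc_d_rc_16_0 lc_d_rc_27_4 lc_d_rc_8_3 lc_d_rc_15_1 lc_d_rc_16_2 lc_d_rc_15_1 lc_d_rc_8_3 lc_d_rc_17_2 lc_d_rc_16_2 lc_d_rc_17_2 lc_d_rc_15_1 lc_d_rc_23_6 lc_d_rc_22_6 lc_d_rc_15_1 lc_d_rc_24_0 lc_d_rc_17_2 lc_d_rc_8_3 lc_d_rc_15_1 lc_d_rc_8_3 lc_d_rc_27_4 lc_d_rc_15_1 lc_d_rc_16_2 lc_d_rc_15_1 lc_d_rc_15_1 lc_d_rc_15_1 lc_d_rc_16_2 lc_d_rc_22_2 lc_d_rc_16_2 lc_d_rc_15_1 lc_d_rc_22_4 lc_d_rc_23_4 lc_d_rc_22_2 lc_d_rc_16_4 lc_d_rc_22_4 lc_d_rc_16_4 lc_d_rc_3_3 lc_d_rc_22_2 lc_d_rc_3_3 lc_d_rc_15_1 lc_d_rc_22_6 lc_d_rc_23_6 lc_d_rc_15_1 lc_d_rc_17_2 lc_d_rc_15_1 lc_d_rc_22_6 lc_d_rc_15_1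 lc_d_rc_15_1 lc_d_rc_8_1 lc_d_rc_23_4) (@D3.rec (fun _ => (Cert rels S Gen.d)) lc_d_rc_15_1 lc_d_rc_16_4 lc_d_rc_23_8 lc_d_Cert_tree lc_d_rc_15_1 lc_d_rc_15_1 lc_d_rc_27_10 lc_d_rc_24_5 lc_d_rc_15_1 lc_d_rc_15_1 lc_d_rc_8_3 lc_d_Cert_tree lc_d_rc_17_2 lc_d_rc_16_4 lc_d_rc_24_0 lc_d_rc_15_1 lc_d_rc_24_0 lc_d_rc_8_3 lc_d_rc_15_1 lc_d_Cert_tree lc_d_rc_16_4 lc_d_rc_27_4 lc_d_rc_15_1 lc_d_rc_15_1 lc_d_rc_27_2 lc_d_Cert_tree lc_d_Cert_tree lc_d_rc_17_2 lc_d_rc_23_2 lc_d_rc_16_4 lc_d_rc_15_1 lc_d_rc_15_1 lc_d_rc_22_6 lc_d_rc_8_1 lc_d_rc_23_4 lc_d_rc_17_2 lc_d_rc_27_2 lc_d_rc_15_1 lc_d_rc_15_1 lc_d_rc_15_1 lc_d_rc_22_6 lc_d_rc_17_2 lc_d_rc_15_1 lc_d_rc_27_4 lc_d_rc_15_1 lc_d_rc_8_3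 lc_d_rc_3_3 lc_d_rc_15_1 lc_d_rc_23_6 lc_d_rc_23_6 lc_d_rc_16_2 lc_d_rc_16_4 lc_d_rc_16_4 lc_d_rc_17_2 lc_d_rc_15_1 lc_d_rc_17_0 lc_d_rc_8_3 lc_d_rc_8_3 lc_d_rc_17_2 lc_d_rc_25_18 lc_d_rc_8_3 lc_d_rc_15_1) (@D3.rec (fun _ => (Cert rels S Gen.d)) lc_d_rc_8_1 lc_d_rc_23_6 lc_d_rc_12_1 lc_d_rc_24_5 lc_d_rc_15_1 lc_d_rc_22_2 lc_d_rc_27_4 lc_d_rc_15_1 lc_d_rc_27_4 lc_d_rc_15_1 lc_d_rc_15_1 lc_d_rc_27_2 lc_d_rc_15_1 lc_d_Cert_tree lc_d_rc_8_3 lc_d_rc_17_0 lc_d_rc_17_2 lc_d_rc_15_1 lc_d_rc_15_1 lc_d_rc_15_1 lc_d_rc_27_4 lc_d_rc_16_4 lc_d_rc_27_4 lc_d_rc_15_1 lc_d_rc_27_2 lc_d_Cert_tree lc_d_rc_15_1 lc_d_rc_15_1 lc_d_rc_8_3 lc_d_Cert_tree lc_d_rc_15_1 lc_d_rc_8_3 lc_d_rc_12_13 lc_d_rc_8_1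 lc_d_rc_8_1 lc_d_rc_8_3 lc_d_rc_16_2 lc_d_rc_15_1 lc_d_Cert_tree lc_d_rc_15_1 lc_d_rc_23_6 lc_d_rc_16_2 lc_d_rc_27_4 lc_d_rc_15_1 lc_d_rc_16_0 lc_d_rc_17_2 lc_d_rc_27_10 lc_d_rc_27_4 lc_d_rc_24_5 lc_d_rc_27_4 lc_d_rc_15_1 lc_d_rc_27_8 lc_d_rc_15_1 lc_d_rc_15_1 lc_d_rc_27_4 lc_d_rc_8_3 lc_d_rc_23_6 lc_d_rc_27_4 lc_d_Cert_tree lc_d_rc_15_1 lc_d_rc_15_1 lc_d_rc_8_3) (@D3.rec (fun _ => (Cert rels S Gen.d)) lc_d_rc_15_1 lc_d_rc_27_4 lc_d_rc_17_2 lc_d_rc_15_1 lc_d_rc_22_4 lc_d_rc_27_4 lc_d_rc_27_4 lc_d_Cert_tree lc_d_rc_23_2 lc_d_rc_15_1 lc_d_rc_27_4 lc_d_rc_27_10 lc_d_rc_17_2 lc_d_rc_24_5 lc_d_Cert_tree lc_d_rc_15_1 lc_d_rc_24_0 lc_d_rc_16_4 lc_d_rc_15_1 lc_d_rc_24_0 lc_d_rc_27_4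 lc_d_rc_15_1 lc_d_rc_15_1 lc_d_rc_27_4 lc_d_rc_17_2 lc_d_rc_23_8 lc_d_rc_3_1 lc_d_rc_16_4 lc_d_rc_23_8 lc_d_rc_15_1 lc_d_rc_8_3 lc_d_rc_15_1 lc_d_rc_3_3 lc_d_rc_12_1 lc_d_rc_17_2 lc_d_rc_17_0 lc_d_rc_27_4 lc_d_rc_8_3 lc_d_Cert_tree lc_d_Cert_tree lc_d_rc_23_8 lc_d_rc_23_8 lc_d_rc_15_1 lc_d_rc_15_1 lc_d_rc_22_8 lc_d_rc_22_6 lc_d_rc_22_4 lc_d_rc_23_4 lc_d_rc_15_1 lc_d_rc_16_2 lc_d_rc_8_3 lc_d_rc_27_4 lc_d_rc_3_1 lc_d_rc_15_1 lc_d_rc_23_6 lc_d_rc_15_1 lc_d_rc_27_2 lc_d_rc_8_3 lc_d_rc_22_2 lc_d_rc_22_6 lc_d_rc_15_1 lc_d_rc_27_4) (@D3.rec (fun _ => (Cert rels S Gen.d)) lc_d_rc_8_3 lc_d_rc_15_1 lc_d_rc_15_1 lc_d_rc_15_1 lc_d_rc_3_1 lc_d_Cert_tree lc_d_rc_23_8 lc_d_rc_24_0 lc_d_rc_27_8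 lc_d_rc_8_3 lc_d_rc_8_3 lc_d_rc_27_8 lc_d_rc_23_2 lc_d_rc_15_1 lc_d_rc_8_3 lc_d_rc_8_3 lc_d_rc_23_2 lc_d_rc_15_1 lc_d_rc_15_1 lc_d_rc_27_8 lc_d_Cert_tree lc_d_rc_17_2 lc_d_rc_23_2 lc_d_rc_15_1 lc_d_Cert_tree lc_d_rc_8_1 lc_d_rc_23_2 lc_d_rc_24_0 lc_d_rc_15_1 lc_d_rc_15_1 lc_d_rc_16_0 lc_d_rc_17_0 lc_d_rc_15_1 lc_d_rc_16_0 lc_d_rc_15_1 lc_d_rc_27_4 lc_d_rc_15_1 lc_d_Cert_tree lc_d_rc_15_1 lc_d_rc_22_4 lc_d_rc_27_2 lc_d_rc_15_1 lc_d_rc_3_3 lc_d_rc_17_2 lc_d_rc_16_4 lc_d_rc_15_1 lc_d_rc_8_3 lc_d_rc_15_1 lc_d_rc_17_2 lc_d_rc_15_1 lc_d_rc_23_2 lc_d_rc_23_2 lc_d_Cert_tree lc_d_rc_15_1 lc_d_rc_22_4 lc_d_Cert_tree lc_d_rc_15_1 lc_d_rc_17_2 lc_d_rc_15_1 lc_d_rc_15_1 lc_d_rc_15_1 lc_d_rc_27_2)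 (@D3.rec (fun _ => (Cert rels S Gen.d)) lc_d_rc_15_1 lc_d_rc_15_1 lc_d_rc_27_2 lc_d_rc_8_3 lc_d_rc_24_0 lc_d_rc_15_1 lc_d_Cert_tree lc_d_rc_15_1 lc_d_rc_3_1 lc_d_Cert_tree lc_d_rc_17_2 lc_d_rc_22_2 lc_d_rc_15_1 lc_d_rc_17_2 lc_d_rc_8_3 lc_d_rc_16_2 lc_d_rc_8_3 lc_d_Cert_tree lc_d_rc_24_5 lc_d_rc_8_3 lc_d_rc_15_1 lc_d_rc_24_0 lc_d_Cert_tree lc_d_rc_15_1 lc_d_rc_23_4 lc_d_rc_15_1 lc_d_rc_15_1 lc_d_Cert_tree lc_d_rc_17_2 lc_d_Cert_tree lc_d_rc_15_1 lc_d_rc_27_2 lc_d_rc_15_1 lc_d_rc_15_1 lc_d_rc_24_5 lc_d_rc_27_4 lc_d_rc_15_1 lc_d_rc_15_1 lc_d_rc_8_3 lc_d_Cert_tree lc_d_rc_17_2 lc_d_rc_27_2 lc_d_rc_8_3 lc_d_rc_15_1 lc_d_rc_27_4 lc_d_rc_8_3 lc_d_rc_24_0 lc_d_rc_15_1 lc_d_rc_8_3 lc_d_rc_8_3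 lc_d_rc_23_2 lc_d_rc_8_3 lc_d_rc_3_3 lc_d_rc_8_3 lc_d_rc_15_1 lc_d_rc_27_2 lc_d_rc_3_3 lc_d_rc_22_6 lc_d_rc_15_1 lc_d_rc_23_4 lc_d_rc_15_1 lc_d_rc_17_2) (@D3.rec (fun _ => (Cert rels S Gen.d)) lc_d_rc_22_2 lc_d_Cert_tree lc_d_rc_17_2 lc_d_rc_3_3 lc_d_Cert_tree lc_d_rc_15_1 lc_d_rc_25_2 lc_d_Cert_tree lc_d_rc_15_1 lc_d_rc_15_1 lc_d_rc_15_1 lc_d_rc_25_2 lc_d_rc_15_1 lc_d_rc_22_4 lc_d_rc_16_2 lc_d_rc_15_1 lc_d_rc_15_1 lc_d_rc_15_1 lc_d_rc_15_1 lc_d_Cert_tree lc_d_rc_8_3 lc_d_rc_27_4 lc_d_rc_24_5 lc_d_rc_23_6 lc_d_Cert_tree lc_d_rc_27_2 lc_d_rc_17_2 lc_d_rc_27_10 lc_d_rc_15_1 lc_d_rc_17_2 lc_d_rc_27_2 lc_d_rc_8_3 lc_d_Cert_tree lc_d_rc_24_0 lc_d_rc_15_1 lc_d_rc_12_15 lc_d_rc_15_1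 lc_d_rc_15_1 lc_d_rc_12_3 lc_d_rc_24_0 lc_d_rc_16_0 lc_d_rc_15_1 lc_d_rc_24_0 lc_d_rc_22_4 lc_d_rc_16_4 lc_d_rc_22_6 lc_d_rc_8_3 lc_d_rc_15_1 lc_d_Cert_tree lc_d_rc_17_0 lc_d_rc_15_1 lc_d_rc_27_2 lc_d_rc_15_1 lc_d_rc_17_2 lc_d_rc_23_2 lc_d_rc_25_18 lc_d_rc_15_1 lc_d_rc_3_3 lc_d_rc_24_5 lc_d_rc_23_4 lc_d_rc_27_4 lc_d_rc_3_3) (@D3.rec (fun _ => (Cert rels S Gen.d)) lc_d_rc_16_0 lc_d_Cert_tree lc_d_rc_17_2 lc_d_rc_15_1 lc_d_rc_17_2 lc_d_Cert_tree lc_d_rc_15_1 lc_d_rc_3_3 lc_d_rc_23_4 lc_d_rc_15_1 lc_d_rc_27_8 lc_d_rc_23_6 lc_d_rc_15_1 lc_d_rc_27_4 lc_d_Cert_tree lc_d_rc_15_1 lc_d_rc_22_2 lc_d_rc_23_6 lc_d_rc_23_6 lc_d_rc_22_4 lc_d_rc_15_1 lc_d_Cert_tree lc_d_rc_15_1 lc_d_rc_27_2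 lc_d_rc_15_1 lc_d_rc_15_1 lc_d_rc_15_1 lc_d_rc_23_2 lc_d_rc_27_4 lc_d_rc_25_2 lc_d_rc_8_3 lc_d_Cert_tree lc_d_rc_15_1 lc_d_Cert_tree lc_d_Cert_tree lc_d_rc_15_1 lc_d_rc_15_1 lc_d_rc_23_8 lc_d_Cert_tree lc_d_rc_15_1 lc_d_rc_8_1 lc_d_Cert_tree lc_d_rc_15_1 lc_d_rc_15_1 lc_d_rc_8_3 lc_d_rc_22_6 lc_d_rc_15_1 lc_d_rc_8_3 lc_d_rc_15_1 lc_d_rc_22_8 lc_d_Cert_tree lc_d_rc_15_1 lc_d_Cert_tree lc_d_Cert_tree lc_d_rc_23_2 lc_d_Cert_tree lc_d_rc_15_1 lc_d_rc_17_2 lc_d_Cert_tree lc_d_Cert_tree lc_d_rc_8_3 lc_d_rc_17_2) (@D3.rec (fun _ => (Cert rels S Gen.d)) lc_d_rc_27_4 lc_d_Cert_tree lc_d_rc_15_1 lc_d_rc_23_4 lc_d_rc_17_2 lc_d_rc_25_18 lc_d_rc_15_1 lc_d_Cert_tree lc_d_Cert_tree lc_d_rc_15_1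 lc_d_rc_15_1 lc_d_rc_27_4 lc_d_rc_8_3 lc_d_rc_3_1 lc_d_rc_23_6 lc_d_Cert_tree lc_d_rc_15_1 lc_d_rc_15_1 lc_d_rc_17_0 lc_d_rc_27_4 lc_d_rc_24_5 lc_d_rc_17_0 lc_d_rc_15_1 lc_d_rc_23_6 lc_d_rc_15_1 lc_d_rc_17_2 lc_d_rc_16_2 lc_d_rc_8_3 lc_d_Cert_tree lc_d_rc_15_1 lc_d_Cert_tree lc_d_Cert_tree lc_d_rc_16_4 lc_d_rc_15_1 lc_d_rc_17_2 lc_d_Cert_tree lc_d_rc_15_1 lc_d_rc_22_4 lc_d_rc_15_1 lc_d_rc_27_4 lc_d_rc_15_1 lc_d_rc_15_1 lc_d_rc_22_4 lc_d_Cert_tree lc_d_Cert_tree lc_d_rc_15_1 lc_d_rc_8_3 lc_d_Cert_tree lc_d_rc_15_1 lc_d_Cert_tree lc_d_rc_23_8 lc_d_rc_23_8 lc_d_rc_22_2 lc_d_Cert_tree lc_d_rc_17_2 lc_d_rc_15_1 lc_d_rc_15_1 lc_d_rc_15_1 lc_d_rc_23_2 lc_d_rc_3_1 lc_d_rc_15_1 lc_d_Cert_tree)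 (@D3.rec (fun _ => (Cert rels S Gen.d)) lc_d_rc_8_3 lc_d_Cert_tree lc_d_rc_15_1 lc_d_rc_16_4 lc_d_Cert_tree lc_d_Cert_tree lc_d_rc_8_3 lc_d_Cert_tree lc_d_rc_15_1 lc_d_Cert_tree lc_d_rc_15_1 lc_d_rc_22_2 lc_d_rc_27_4 lc_d_rc_15_1 lc_d_rc_15_1 lc_d_rc_27_4 lc_d_rc_16_4 lc_d_Cert_tree lc_d_Cert_tree lc_d_Cert_tree lc_d_rc_15_1 lc_d_rc_16_4 lc_d_Cert_tree lc_d_rc_27_10 lc_d_rc_23_2 lc_d_rc_8_1 lc_d_rc_15_1 lc_d_Cert_tree lc_d_rc_16_0 lc_d_rc_15_1 lc_d_rc_27_4 lc_d_rc_27_8 lc_d_rc_3_3 lc_d_rc_15_1 lc_d_rc_16_4 lc_d_rc_15_1 lc_d_rc_8_3 lc_d_rc_15_1 lc_d_rc_24_5 lc_d_rc_8_3 lc_d_rc_22_6 lc_d_rc_8_3 lc_d_rc_8_3 lc_d_rc_15_1 lc_d_rc_23_2 lc_d_rc_3_3 lc_d_rc_8_3 lc_d_rc_3_1 lc_d_rc_15_1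 lc_d_rc_16_4 lc_d_rc_24_0 lc_d_Cert_tree lc_d_Cert_tree lc_d_Cert_tree lc_d_rc_15_1 lc_d_rc_17_2 lc_d_Cert_tree lc_d_Cert_tree lc_d_rc_24_0 lc_d_Cert_tree lc_d_rc_15_1 lc_d_rc_15_1) (@D3.rec (fun _ => (Cert rels S Gen.d)) lc_d_rc_27_4 lc_d_rc_8_3 lc_d_rc_24_5 lc_d_Cert_tree lc_d_rc_8_3 lc_d_Cert_tree lc_d_rc_15_1 lc_d_rc_23_2 lc_d_rc_24_0 lc_d_rc_24_0 lc_d_Cert_tree lc_d_Cert_tree lc_d_rc_15_1 lc_d_rc_15_1 lc_d_rc_27_10 lc_d_rc_23_8 lc_d_rc_15_1 lc_d_rc_22_2 lc_d_Cert_tree lc_d_rc_15_1 lc_d_Cert_tree lc_d_rc_15_1 lc_d_rc_24_0 lc_d_rc_17_2 lc_d_rc_15_1 lc_d_rc_22_4 lc_d_rc_8_3 lc_d_rc_15_1 lc_d_rc_16_0 lc_d_rc_22_4 lc_d_rc_25_14 lc_d_Cert_tree lc_d_rc_22_8 lc_d_rc_15_1 lc_d_rc_15_1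 lc_d_rc_3_3 lc_d_rc_8_3 lc_d_rc_15_1 lc_d_rc_24_5 lc_d_rc_24_0 lc_d_rc_16_0 lc_d_rc_16_4 lc_d_rc_8_3 lc_d_Cert_tree lc_d_Cert_tree lc_d_rc_17_2 lc_d_rc_15_1 lc_d_rc_24_0 lc_d_rc_27_8 lc_d_Cert_tree lc_d_rc_15_1 lc_d_rc_17_2 lc_d_rc_3_1 lc_d_rc_15_1 lc_d_rc_27_8 lc_d_rc_27_10 lc_d_rc_15_1 lc_d_rc_23_8 lc_d_rc_23_8 lc_d_Cert_tree lc_d_rc_15_1 lc_d_rc_16_4) (@D3.rec (fun _ => (Cert rels S Gen.d)) lc_d_rc_8_3 lc_d_Cert_tree lc_d_Cert_tree lc_d_rc_15_1 lc_d_rc_16_4 lc_d_Cert_tree lc_d_rc_15_1 lc_d_Cert_tree lc_d_rc_23_8 lc_d_rc_23_8 lc_d_rc_3_3 lc_d_rc_15_1 lc_d_rc_8_3 lc_d_rc_24_5 lc_d_Cert_tree lc_d_rc_15_1 lc_d_rc_15_1 lc_d_Cert_tree lc_d_rc_17_2 lc_d_Cert_tree lc_d_rc_16_0 lc_d_Cert_tree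 lc_d_rc_15_1 lc_d_rc_17_2 lc_d_Cert_tree lc_d_Cert_tree lc_d_rc_15_1 lc_d_rc_23_4 lc_d_rc_24_5 lc_d_rc_15_1 lc_d_Cert_tree lc_d_rc_15_1 lc_d_rc_27_8 lc_d_rc_15_1 lc_d_rc_12_3 lc_d_rc_17_2 lc_d_rc_15_1 lc_d_rc_3_1 lc_d_Cert_tree lc_d_rc_15_1 lc_d_Cert_tree lc_d_rc_15_1 lc_d_rc_8_3 lc_d_rc_22_2 lc_d_rc_15_1 lc_d_rc_3_1 lc_d_Cert_tree lc_d_rc_23_2 lc_d_rc_15_1 lc_d_Cert_tree lc_d_rc_3_3 lc_d_rc_23_6 lc_d_rc_15_1 lc_d_Cert_tree lc_d_rc_8_1 lc_d_rc_15_1 lc_d_rc_15_1 lc_d_Cert_tree lc_d_rc_15_1 lc_d_rc_27_4 lc_d_rc_8_1 lc_d_Cert_tree) (@D3.rec (fun _ => (Cert rels S Gen.d)) lc_d_rc_15_1 lc_d_rc_27_4 lc_d_rc_17_0 lc_d_Cert_tree lc_d_rc_8_1 lc_d_rc_22_6 lc_d_rc_22_6 lc_d_rc_15_1 lc_d_rc_15_1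 lc_d_rc_15_1 lc_d_rc_8_3 lc_d_rc_24_0 lc_d_Cert_tree lc_d_rc_15_1 lc_d_rc_16_4 lc_d_rc_15_1 lc_d_rc_8_3 lc_d_rc_8_3 lc_d_Cert_tree lc_d_rc_15_1 lc_d_rc_22_8 lc_d_rc_16_2 lc_d_Cert_tree lc_d_rc_15_1 lc_d_rc_24_0 lc_d_rc_15_1 lc_d_rc_27_4 lc_d_rc_23_6 lc_d_rc_15_1 lc_d_rc_22_4 lc_d_Cert_tree lc_d_rc_15_1 lc_d_rc_17_0 lc_d_Cert_tree lc_d_rc_15_1 lc_d_rc_16_4 lc_d_Cert_tree lc_d_rc_15_1 lc_d_rc_15_1 lc_d_rc_27_2 lc_d_rc_8_3 lc_d_rc_8_3 lc_d_rc_3_3 lc_d_rc_17_2 lc_d_rc_15_1 lc_d_rc_15_1 lc_d_rc_15_1 lc_d_rc_16_2 lc_d_rc_23_2 lc_d_rc_8_1 lc_d_rc_15_1 lc_d_rc_27_2 lc_d_rc_22_2 lc_d_rc_15_1 lc_d_rc_22_2 lc_d_rc_15_1 lc_d_rc_15_1 lc_d_rc_23_2 lc_d_rc_15_1 lc_d_Cert_tree lc_d_Cert_tree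 lc_d_Cert_tree) (@D3.rec (fun _ => (Cert rels S Gen.d)) lc_d_rc_22_6 lc_d_rc_27_4 lc_d_Cert_tree lc_d_Cert_tree lc_d_rc_15_1 lc_d_rc_17_2 lc_d_rc_15_1 lc_d_Cert_tree lc_d_rc_24_5 lc_d_rc_15_1 lc_d_rc_27_4 lc_d_Cert_tree lc_d_rc_24_5 lc_d_rc_15_1 lc_d_rc_27_2 lc_d_rc_15_1 lc_d_Cert_tree lc_d_rc_17_2 lc_d_rc_15_1 lc_d_rc_17_0 lc_d_rc_22_8 lc_d_rc_17_2 lc_d_rc_24_5 lc_d_rc_16_4 lc_d_rc_27_2 lc_d_rc_16_4 lc_d_rc_15_1 lc_d_rc_8_1 lc_d_rc_8_1 lc_d_rc_27_10 lc_d_rc_27_2 lc_d_rc_15_1 lc_d_rc_3_3 lc_d_rc_15_1 lc_d_rc_27_4 lc_d_Cert_tree lc_d_rc_15_1 lc_d_rc_23_4 lc_d_rc_15_1 lc_d_rc_15_1 lc_d_rc_15_1 lc_d_rc_15_1 lc_d_rc_8_3 lc_d_rc_27_2 lc_d_rc_8_3 lc_d_rc_15_1 lc_d_rc_15_1 lc_d_rc_16_4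 lc_d_rc_24_5 lc_d_rc_15_1 lc_d_rc_23_6 lc_d_rc_24_0 lc_d_rc_22_2 lc_d_rc_15_1 lc_d_rc_3_3 lc_d_rc_15_1 lc_d_rc_3_3 lc_d_rc_15_1 lc_d_rc_17_2 lc_d_rc_22_4 lc_d_rc_15_1 lc_d_rc_12_15) (@D3.rec (fun _ => (Cert rels S Gen.d)) lc_d_rc_22_2 lc_d_rc_15_1 lc_d_rc_15_1 lc_d_rc_17_2 lc_d_rc_8_3 lc_d_rc_8_1 lc_d_rc_22_4 lc_d_rc_16_0 lc_d_rc_27_8 lc_d_rc_15_1 lc_d_rc_27_8 lc_d_rc_27_4 lc_d_rc_15_1 lc_d_rc_27_10 lc_d_rc_15_1 lc_d_rc_17_2 lc_d_rc_15_1 lc_d_rc_15_1 lc_d_rc_16_4 lc_d_Cert_tree lc_d_rc_15_1 lc_d_rc_12_13 lc_d_rc_8_3 lc_d_rc_23_4 lc_d_rc_27_10 lc_d_rc_15_1 lc_d_rc_15_1 lc_d_rc_17_2 lc_d_rc_15_1 lc_d_rc_17_0 lc_d_rc_27_2 lc_d_rc_23_8 lc_d_rc_24_0 lc_d_rc_15_1 lc_d_rc_22_2 lc_d_rc_15_1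 lc_d_rc_8_3 lc_d_rc_16_2 lc_d_rc_15_1 lc_d_rc_16_4 lc_d_rc_23_6 lc_d_rc_16_4 lc_d_rc_15_1 lc_d_rc_22_6 lc_d_rc_3_1 lc_d_rc_23_2 lc_d_rc_15_1 lc_d_rc_8_3 lc_d_rc_16_0 lc_d_rc_3_3 lc_d_rc_17_0 lc_d_Cert_tree lc_d_rc_23_6 lc_d_rc_24_5 lc_d_rc_15_1 lc_d_rc_22_2 lc_d_rc_15_1 lc_d_rc_8_3 lc_d_rc_27_4 lc_d_rc_15_1 lc_d_rc_22_4 lc_d_rc_15_1) (@D3.rec (fun _ => (Cert rels S Gen.d)) lc_d_rc_15_1 lc_d_rc_22_2 lc_d_rc_8_3 lc_d_rc_24_5 lc_d_rc_27_2 lc_d_rc_22_6 lc_d_rc_15_1 lc_d_rc_8_1 lc_d_rc_22_8 lc_d_rc_15_1 lc_d_rc_27_4 lc_d_rc_27_10 lc_d_rc_12_1 lc_d_rc_16_4 lc_d_rc_27_2 lc_d_rc_27_4 lc_d_rc_8_3 lc_d_rc_8_3 lc_d_rc_16_4 lc_d_rc_23_2 lc_d_rc_8_3 lc_d_rc_15_1 lc_d_rc_15_1 lc_d_rc_17_2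 lc_d_rc_16_4 lc_d_rc_23_2 lc_d_rc_15_1 lc_d_rc_16_4 lc_d_rc_15_1 lc_d_rc_16_4 lc_d_rc_8_3 lc_d_rc_8_3 lc_d_Cert_tree lc_d_rc_15_1 lc_d_rc_27_4 lc_d_rc_15_1 lc_d_rc_15_1 lc_d_rc_15_1 lc_d_rc_15_1 lc_d_rc_17_2 lc_d_rc_27_2 lc_d_rc_16_0 lc_d_Cert_tree lc_d_rc_8_3 lc_d_rc_8_3 lc_d_Cert_tree lc_d_rc_22_6 lc_d_Cert_tree lc_d_Cert_tree lc_d_Cert_tree lc_d_rc_15_1 lc_d_rc_17_2 lc_d_rc_23_8 lc_d_rc_16_0 lc_d_rc_15_1 lc_d_rc_17_2 lc_d_rc_27_2 lc_d_rc_15_1 lc_d_rc_8_1 lc_d_rc_15_1 lc_d_rc_15_1 lc_d_rc_15_1) (@D3.rec (fun _ => (Cert rels S Gen.d)) lc_d_Cert_tree lc_d_rc_17_2 lc_d_rc_27_2 lc_d_Cert_tree lc_d_rc_15_1 lc_d_Cert_tree lc_d_rc_15_1 lc_d_rc_15_1 lc_d_Cert_tree lc_d_rc_16_2 lc_d_rc_15_1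 lc_d_rc_16_4 lc_d_rc_24_5 lc_d_rc_24_0 lc_d_rc_27_2 lc_d_rc_8_3 lc_d_rc_8_1 lc_d_Cert_tree lc_d_rc_3_3 lc_d_rc_15_1 lc_d_rc_15_1 lc_d_rc_23_2 lc_d_rc_16_0 lc_d_rc_15_1 lc_d_rc_25_6 lc_d_rc_23_2 lc_d_rc_12_15 lc_d_rc_15_1 lc_d_rc_15_1 lc_d_rc_15_1 lc_d_rc_15_1 lc_d_Cert_tree lc_d_rc_23_2 lc_d_rc_22_2 lc_d_rc_15_1 lc_d_rc_15_1 lc_d_rc_15_1 lc_d_rc_27_8 lc_d_rc_15_1 lc_d_rc_3_3 lc_d_rc_15_1 lc_d_rc_17_2 lc_d_rc_16_2 lc_d_rc_16_4 lc_d_rc_16_0 lc_d_rc_8_3 lc_d_rc_23_8 lc_d_rc_15_1 lc_d_rc_27_8 lc_d_rc_24_5 lc_d_rc_15_1 lc_d_rc_15_1 lc_d_rc_17_2 lc_d_rc_24_0 lc_d_rc_15_1 lc_d_rc_23_8 lc_d_rc_15_1 lc_d_rc_27_10 lc_d_rc_25_6 lc_d_rc_3_3 lc_d_rc_23_2 lc_d_rc_15_1) (@D3.rec (fun _ =>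 (Cert rels S Gen.d)) lc_d_rc_15_1 lc_d_rc_15_1 lc_d_rc_3_1 lc_d_rc_15_1 lc_d_rc_27_4 lc_d_Cert_tree lc_d_rc_15_1 lc_d_rc_27_2 lc_d_rc_15_1 lc_d_rc_25_10 lc_d_rc_8_3 lc_d_rc_17_2 lc_d_Cert_tree lc_d_rc_23_8 lc_d_rc_24_0 lc_d_rc_15_1 lc_d_rc_16_0 lc_d_Cert_tree lc_d_rc_15_1 lc_d_rc_17_2 lc_d_Cert_tree lc_d_rc_15_1 lc_d_rc_23_4 lc_d_rc_15_1 lc_d_rc_3_3 lc_d_rc_17_2 lc_d_Cert_tree lc_d_rc_15_1 lc_d_rc_15_1 lc_d_Cert_tree lc_d_rc_15_1 lc_d_rc_8_3 lc_d_rc_17_2 lc_d_rc_3_3 lc_d_Cert_tree lc_d_rc_15_1 lc_d_rc_8_3 lc_d_rc_15_1 lc_d_Cert_tree lc_d_rc_16_2 lc_d_rc_15_1 lc_d_rc_17_2 lc_d_rc_15_1 lc_d_rc_15_1 lc_d_rc_8_1 lc_d_Cert_tree lc_d_Cert_tree lc_d_rc_15_1 lc_d_rc_17_2 lc_d_Cert_tree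 lc_d_rc_16_2 lc_d_Cert_tree lc_d_Cert_tree lc_d_rc_16_0 lc_d_rc_27_10 lc_d_rc_15_1 lc_d_rc_8_1 lc_d_rc_23_4 lc_d_Cert_tree lc_d_rc_15_1 lc_d_rc_22_2 lc_d_rc_15_1) (@D3.rec (fun _ => (Cert rels S Gen.d)) lc_d_rc_15_1 lc_d_rc_27_4 lc_d_rc_22_4 lc_d_Cert_tree lc_d_rc_15_1 lc_d_Cert_tree lc_d_rc_23_2 lc_d_rc_23_2 lc_d_rc_22_6 lc_d_rc_16_4 lc_d_rc_24_0 lc_d_rc_8_3 lc_d_rc_3_1 lc_d_rc_15_1 lc_d_Cert_tree lc_d_rc_16_0 lc_d_rc_27_10 lc_d_rc_15_1 lc_d_rc_17_2 lc_d_rc_8_3 lc_d_rc_25_2 lc_d_rc_15_1 lc_d_rc_15_1 lc_d_rc_22_2 lc_d_Cert_tree lc_d_rc_15_1 lc_d_rc_16_4 lc_d_rc_15_1 lc_d_rc_22_4 lc_d_Cert_tree lc_d_rc_24_5 lc_d_Cert_tree lc_d_rc_16_4 lc_d_rc_27_8 lc_d_rc_8_3 lc_d_rc_8_3 lc_d_rc_23_8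 lc_d_rc_15_1 lc_d_rc_27_2 lc_d_rc_24_0 lc_d_rc_16_2 lc_d_rc_24_0 lc_d_rc_24_0 lc_d_rc_8_3 lc_d_rc_24_5 lc_d_rc_24_5 lc_d_rc_15_1 lc_d_rc_16_4 lc_d_rc_3_3 lc_d_Cert_tree lc_d_rc_16_2 lc_d_rc_27_10 lc_d_rc_15_1 lc_d_rc_22_8 lc_d_rc_15_1 lc_d_Cert_tree lc_d_rc_16_2 lc_d_rc_27_2 lc_d_rc_15_1 lc_d_rc_15_1 lc_d_rc_22_4 lc_d_rc_12_5) (@D3.rec (fun _ => (Cert rels S Gen.d)) lc_d_rc_16_4 lc_d_rc_8_1 lc_d_rc_15_1 lc_d_rc_15_1 lc_d_rc_27_8 lc_d_rc_22_8 lc_d_rc_8_3 lc_d_Cert_tree lc_d_rc_15_1 lc_d_rc_3_3 lc_d_rc_8_3 lc_d_rc_27_4 lc_d_rc_17_0 lc_d_rc_27_4 lc_d_rc_17_2 lc_d_rc_15_1 lc_d_rc_8_3 lc_d_rc_27_10 lc_d_rc_16_4 lc_d_rc_15_1 lc_d_rc_25_2 lc_d_Cert_tree lc_d_rc_15_1 lc_d_rc_27_4 lc_d_rc_15_1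 lc_d_rc_16_2 lc_d_rc_15_1 lc_d_rc_17_2 lc_d_rc_23_2 lc_d_rc_25_6 lc_d_rc_3_3 lc_d_Cert_tree lc_d_Cert_tree lc_d_Cert_tree lc_d_rc_15_1 lc_d_rc_17_2 lc_d_Cert_tree lc_d_Cert_tree lc_d_rc_15_1 lc_d_rc_27_4 lc_d_rc_8_3 lc_d_Cert_tree lc_d_rc_27_4 lc_d_rc_15_1 lc_d_rc_17_2 lc_d_rc_23_6 lc_d_rc_15_1 lc_d_rc_8_3 lc_d_Cert_tree lc_d_rc_15_1 lc_d_rc_16_2 lc_d_rc_15_1 lc_d_rc_22_6 lc_d_rc_16_4 lc_d_rc_24_5 lc_d_rc_15_1 lc_d_rc_24_5 lc_d_rc_15_1 lc_d_rc_22_2 lc_d_rc_16_4 lc_d_rc_23_8 lc_d_rc_22_2) (@D3.rec (fun _ => (Cert rels S Gen.d)) lc_d_rc_16_2 lc_d_rc_22_4 lc_d_rc_27_4 lc_d_rc_27_4 lc_d_rc_17_2 lc_d_rc_15_1 lc_d_rc_23_4 lc_d_rc_15_1 lc_d_rc_17_0 lc_d_rc_16_2 lc_d_rc_15_1 lc_d_rc_15_1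 lc_d_rc_3_3 lc_d_rc_22_6 lc_d_rc_8_3 lc_d_rc_8_3 lc_d_rc_8_3 lc_d_rc_17_2 lc_d_rc_8_3 lc_d_rc_17_2 lc_d_rc_3_3 lc_d_rc_22_4 lc_d_rc_15_1 lc_d_Cert_tree lc_d_rc_15_1 lc_d_rc_16_4 lc_d_rc_8_3 lc_d_rc_24_5 lc_d_rc_8_1 lc_d_rc_24_5 lc_d_rc_24_5 lc_d_rc_3_3 lc_d_rc_17_2 lc_d_rc_3_1 lc_d_rc_22_8 lc_d_rc_16_2 lc_d_rc_27_10 lc_d_rc_8_3 lc_d_rc_27_2 lc_d_rc_27_2 lc_d_rc_27_10 lc_d_rc_15_1 lc_d_rc_8_3 lc_d_rc_8_3 lc_d_rc_8_1 lc_d_rc_24_5 lc_d_rc_22_6 lc_d_rc_24_0 lc_d_rc_27_10 lc_d_rc_27_10 lc_d_rc_24_5 lc_d_rc_3_3 lc_d_rc_15_1 lc_d_rc_3_3 lc_d_rc_22_8 lc_d_rc_27_10 lc_d_rc_24_0 lc_d_rc_27_8 lc_d_rc_24_0 lc_d_rc_24_0 lc_d_rc_8_1 lc_d_rc_15_1) (@D3.rec (fun _ => (Cert rels S Gen.d)) lc_d_rc_16_4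 lc_d_Cert_tree lc_d_rc_15_1 lc_d_Cert_tree lc_d_Cert_tree lc_d_Cert_tree lc_d_rc_15_1 lc_d_rc_8_3 lc_d_rc_15_1 lc_d_rc_17_0 lc_d_rc_3_3 lc_d_Cert_tree lc_d_rc_8_3 lc_d_Cert_tree lc_d_Cert_tree lc_d_rc_23_6 lc_d_rc_15_1 lc_d_rc_16_4 lc_d_rc_17_2 lc_d_rc_23_4 lc_d_Cert_tree lc_d_rc_22_2 lc_d_rc_15_1 lc_d_Cert_tree lc_d_rc_16_2 lc_d_rc_15_1 lc_d_Cert_tree lc_d_rc_15_1 lc_d_rc_15_1 lc_d_rc_23_6 lc_d_rc_16_2 lc_d_rc_8_3 lc_d_rc_16_2 lc_d_rc_23_6 lc_d_rc_15_1 lc_d_rc_8_3 lc_d_rc_23_2 lc_d_rc_15_1 lc_d_rc_17_2 lc_d_rc_15_1 lc_d_rc_23_8 lc_d_rc_22_2 lc_d_rc_15_1 lc_d_rc_15_1 lc_d_rc_15_1 lc_d_rc_15_1 lc_d_rc_16_4 lc_d_rc_3_3 lc_d_rc_15_1 lc_d_rc_23_8 lc_d_rc_3_1 lc_d_rc_15_1 lc_d_Cert_tree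 lc_d_rc_22_4 lc_d_rc_15_1 lc_d_rc_15_1 lc_d_rc_17_2 lc_d_rc_27_8 lc_d_rc_22_8 lc_d_rc_23_4 lc_d_Cert_tree lc_d_rc_15_1) (@D3.rec (fun _ => (Cert rels S Gen.d)) lc_d_rc_27_2 lc_d_rc_27_4 lc_d_rc_15_1 lc_d_rc_15_1 lc_d_rc_3_3 lc_d_rc_24_5 lc_d_rc_16_0 lc_d_rc_24_0 lc_d_rc_27_2 lc_d_rc_25_6 lc_d_Cert_tree lc_d_rc_17_2 lc_d_rc_15_1 lc_d_Cert_tree lc_d_rc_15_1 lc_d_rc_25_18 lc_d_rc_22_8 lc_d_rc_16_4 lc_d_Cert_tree lc_d_rc_15_1 lc_d_rc_15_1 lc_d_rc_17_2 lc_d_rc_15_1 lc_d_rc_23_8 lc_d_rc_23_8 lc_d_rc_16_0 lc_d_rc_16_4 lc_d_rc_16_0 lc_d_rc_3_3 lc_d_rc_15_1 lc_d_rc_15_1 lc_d_rc_27_8 lc_d_rc_16_2 lc_d_rc_25_2 lc_d_rc_23_6 lc_d_rc_3_3 lc_d_rc_22_4 lc_d_rc_3_3 lc_d_rc_15_1 lc_d_rc_23_2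 lc_d_rc_3_3 lc_d_rc_15_1 lc_d_rc_16_4 lc_d_rc_8_3 lc_d_rc_3_3 lc_d_Cert_tree lc_d_rc_27_8 lc_d_rc_25_18 lc_d_rc_22_8 lc_d_rc_17_2 lc_d_rc_8_3 lc_d_rc_15_1 lc_d_rc_23_2 lc_d_rc_8_3 lc_d_rc_24_0 lc_d_rc_23_6 lc_d_Cert_tree lc_d_rc_15_1 lc_d_rc_24_0 lc_d_rc_3_3 lc_d_rc_15_1 lc_d_rc_8_3) (@D3.rec (fun _ => (Cert rels S Gen.d)) lc_d_rc_3_3 lc_d_rc_17_2 lc_d_rc_22_2 lc_d_Cert_tree lc_d_rc_15_1 lc_d_rc_23_6 lc_d_rc_24_5 lc_d_rc_17_2 lc_d_Cert_tree lc_d_Cert_tree lc_d_rc_15_1 lc_d_rc_27_2 lc_d_Cert_tree lc_d_rc_15_1 lc_d_rc_27_4 lc_d_rc_23_6 lc_d_rc_15_1 lc_d_rc_3_3 lc_d_rc_23_8 lc_d_rc_16_2 lc_d_rc_15_1 lc_d_rc_16_2 lc_d_rc_15_1 lc_d_rc_15_1 lc_d_rc_15_1 lc_d_rc_16_2 lc_d_rc_16_4 lc_d_rc_23_8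 lc_d_rc_16_4 lc_d_Cert_tree lc_d_rc_15_1 lc_d_rc_22_8 lc_d_rc_8_3 lc_d_rc_15_1 lc_d_Cert_tree lc_d_rc_15_1 lc_d_rc_16_4 lc_d_rc_22_2 lc_d_rc_22_2 lc_d_Cert_tree lc_d_rc_15_1 lc_d_rc_8_1 lc_d_Cert_tree lc_d_rc_27_2 lc_d_rc_22_8 lc_d_Cert_tree lc_d_Cert_tree lc_d_rc_22_8 lc_d_rc_27_4 lc_d_Cert_tree lc_d_rc_15_1 lc_d_rc_17_2 lc_d_rc_8_3 lc_d_Cert_tree lc_d_Cert_tree lc_d_rc_22_2 lc_d_Cert_tree lc_d_rc_15_1 lc_d_rc_15_1 lc_d_rc_23_4 lc_d_rc_15_1 lc_d_rc_8_3) (@D3.rec (fun _ => (Cert rels S Gen.d)) lc_d_Cert_tree lc_d_rc_17_2 lc_d_Cert_tree lc_d_rc_15_1 lc_d_rc_15_1 lc_d_rc_17_2 lc_d_rc_24_0 lc_d_Cert_tree lc_d_rc_15_1 lc_d_rc_8_1 lc_d_rc_27_4 lc_d_rc_15_1 lc_d_rc_27_4 lc_d_rc_15_1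 lc_d_Cert_tree lc_d_rc_22_8 lc_d_Cert_tree lc_d_rc_15_1 lc_d_rc_27_8 lc_d_rc_23_8 lc_d_rc_23_4 lc_d_rc_3_3 lc_d_rc_15_1 lc_d_Cert_tree lc_d_Cert_tree lc_d_rc_15_1 lc_d_rc_17_2 lc_d_rc_27_10 lc_d_rc_27_2 lc_d_Cert_tree lc_d_rc_15_1 lc_d_rc_24_0 lc_d_rc_16_4 lc_d_rc_23_6 lc_d_rc_15_1 lc_d_rc_15_1 lc_d_rc_17_2 lc_d_rc_8_3 lc_d_rc_24_0 lc_d_rc_15_1 lc_d_rc_16_4 lc_d_rc_16_4 lc_d_rc_8_3 lc_d_rc_15_1 lc_d_rc_15_1 lc_d_Cert_tree lc_d_rc_23_4 lc_d_rc_23_2 lc_d_Cert_tree lc_d_rc_8_3 lc_d_rc_15_1 lc_d_rc_17_2 lc_d_rc_8_3 lc_d_Cert_tree lc_d_Cert_tree lc_d_rc_22_2 lc_d_rc_15_1 lc_d_rc_15_1 lc_d_Cert_tree lc_d_rc_17_2 lc_d_rc_22_8 lc_d_rc_15_1) (@D3.rec (fun _ => (Cert rels S Gen.d)) lc_d_rc_8_1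 lc_d_rc_15_1 lc_d_Cert_tree lc_d_rc_15_1 lc_d_rc_27_10 lc_d_rc_15_1 lc_d_rc_3_3 lc_d_Cert_tree lc_d_rc_15_1 lc_d_Cert_tree lc_d_rc_15_1 lc_d_rc_22_4 lc_d_rc_16_0 lc_d_Cert_tree lc_d_rc_15_1 lc_d_rc_15_1 lc_d_Cert_tree lc_d_rc_17_2 lc_d_Cert_tree lc_d_rc_15_1 lc_d_Cert_tree lc_d_rc_23_6 lc_d_rc_22_4 lc_d_Cert_tree lc_d_rc_17_2 lc_d_Cert_tree lc_d_rc_15_1 lc_d_rc_17_2 lc_d_rc_24_0 lc_d_rc_27_2 lc_d_rc_22_4 lc_d_rc_27_4 lc_d_rc_15_1 lc_d_rc_24_5 lc_d_rc_16_4 lc_d_rc_25_2 lc_d_rc_8_3 lc_d_rc_3_3 lc_d_rc_15_1 lc_d_rc_27_4 lc_d_rc_27_4 lc_d_Cert_tree lc_d_Cert_tree lc_d_rc_17_2 lc_d_Cert_tree lc_d_rc_15_1 lc_d_rc_8_3 lc_d_rc_3_3 lc_d_Cert_tree lc_d_rc_27_2 lc_d_rc_24_0 lc_d_rc_3_3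 lc_d_Cert_tree lc_d_rc_16_0 lc_d_rc_15_1 lc_d_rc_27_2 lc_d_rc_15_1 lc_d_rc_27_4 lc_d_rc_15_1 lc_d_rc_15_1 lc_d_Cert_tree lc_d_rc_15_1) (@D3.rec (fun _ => (Cert rels S Gen.d)) lc_d_rc_27_4 lc_d_rc_8_1 lc_d_rc_15_1 lc_d_rc_3_3 lc_d_rc_16_0 lc_d_Cert_tree lc_d_rc_22_6 lc_d_rc_15_1 lc_d_rc_3_3 lc_d_Cert_tree lc_d_rc_15_1 lc_d_Cert_tree lc_d_rc_15_1 lc_d_Cert_tree lc_d_rc_25_6 lc_d_rc_17_2 lc_d_rc_27_4 lc_d_rc_15_1 lc_d_rc_24_0 lc_d_rc_15_1 lc_d_rc_27_8 lc_d_rc_15_1 lc_d_Cert_tree lc_d_rc_15_1 lc_d_rc_23_6 lc_d_rc_23_4 lc_d_rc_15_1 lc_d_rc_27_8 lc_d_rc_23_6 lc_d_rc_24_0 lc_d_rc_3_1 lc_d_rc_24_5 lc_d_rc_15_1 lc_d_rc_27_10 lc_d_rc_16_0 lc_d_rc_15_1 lc_d_rc_27_2 lc_d_rc_27_4 lc_d_rc_27_2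 lc_d_rc_3_3 lc_d_rc_23_6 lc_d_rc_15_1 lc_d_rc_24_5 lc_d_rc_8_3 lc_d_rc_27_4 lc_d_rc_8_3 lc_d_rc_15_1 lc_d_rc_15_1 lc_d_rc_24_0 lc_d_rc_3_3 lc_d_rc_23_4 lc_d_rc_16_0 lc_d_rc_8_1 lc_d_rc_8_3 lc_d_Cert_tree lc_d_rc_15_1 lc_d_rc_15_1 lc_d_rc_24_0 lc_d_rc_15_1 lc_d_rc_3_3 lc_d_rc_15_1 lc_d_rc_15_1) (@D3.rec (fun _ => (Cert rels S Gen.d)) lc_d_rc_17_2 lc_d_Cert_tree lc_d_Cert_tree lc_d_rc_15_1 lc_d_rc_17_2 lc_d_rc_27_8 lc_d_rc_27_8 lc_d_rc_15_1 lc_d_rc_15_1 lc_d_rc_24_5 lc_d_rc_17_2 lc_d_rc_16_4 lc_d_rc_23_6 lc_d_rc_15_1 lc_d_rc_15_1 lc_d_rc_27_2 lc_d_rc_22_4 lc_d_Cert_tree lc_d_rc_24_0 lc_d_rc_15_1 lc_d_rc_27_10 lc_d_rc_27_2 lc_d_rc_15_1 lc_d_rc_15_1 lc_d_Cert_tree lc_d_rc_27_10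 lc_d_rc_15_1 lc_d_rc_8_3 lc_d_rc_27_2 lc_d_rc_3_3 lc_d_rc_8_3 lc_d_rc_3_3 lc_d_rc_15_1 lc_d_rc_3_3 lc_d_rc_17_2 lc_d_rc_15_1 lc_d_rc_25_18 lc_d_rc_8_3 lc_d_rc_23_8 lc_d_rc_15_1 lc_d_rc_23_4 lc_d_rc_22_4 lc_d_Cert_tree lc_d_rc_8_3 lc_d_rc_15_1 lc_d_rc_8_1 lc_d_rc_15_1 lc_d_Cert_tree lc_d_rc_15_1 lc_d_rc_8_3 lc_d_Cert_tree lc_d_rc_16_4 lc_d_rc_24_5 lc_d_rc_15_1 lc_d_rc_16_4 lc_d_rc_17_2 lc_d_rc_3_3 lc_d_rc_24_5 lc_d_rc_23_8 lc_d_Cert_tree lc_d_rc_15_1 lc_d_rc_22_4) (@D3.rec (fun _ => (Cert rels S Gen.d)) lc_d_rc_15_1 lc_d_rc_3_3 lc_d_rc_8_3 lc_d_rc_25_2 lc_d_Cert_tree lc_d_rc_15_1 lc_d_Cert_tree lc_d_rc_27_4 lc_d_rc_15_1 lc_d_rc_24_5 lc_d_rc_15_1 lc_d_Cert_tree lc_d_rc_15_1 lc_d_Cert_tree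 lc_d_rc_15_1 lc_d_rc_24_0 lc_d_rc_27_10 lc_d_rc_17_2 lc_d_rc_3_3 lc_d_rc_15_1 lc_d_Cert_tree lc_d_rc_15_1 lc_d_Cert_tree lc_d_rc_22_4 lc_d_rc_15_1 lc_d_rc_17_2 lc_d_rc_15_1 lc_d_rc_8_3 lc_d_rc_23_4 lc_d_rc_8_1 lc_d_rc_16_2 lc_d_rc_23_8 lc_d_rc_15_1 lc_d_Cert_tree lc_d_rc_15_1 lc_d_rc_25_2 lc_d_rc_15_1 lc_d_Cert_tree lc_d_rc_15_1 lc_d_rc_8_3 lc_d_rc_27_2 lc_d_rc_16_0 lc_d_rc_23_8 lc_d_rc_15_1 lc_d_Cert_tree lc_d_rc_15_1 lc_d_rc_27_8 lc_d_Cert_tree lc_d_Cert_tree lc_d_rc_17_2 lc_d_rc_15_1 lc_d_rc_16_4 lc_d_Cert_tree lc_d_rc_12_1 lc_d_rc_3_3 lc_d_rc_24_0 lc_d_rc_15_1 lc_d_rc_8_3 lc_d_rc_17_2 lc_d_Cert_tree lc_d_rc_25_2 lc_d_rc_15_1) (@D3.rec (fun _ => (Cert rels S Gen.d)) lc_d_rc_16_4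 lc_d_rc_15_1 lc_d_rc_8_3 lc_d_rc_12_3 lc_d_rc_8_3 lc_d_rc_16_4 lc_d_rc_17_2 lc_d_Cert_tree lc_d_rc_8_3 lc_d_rc_8_3 lc_d_rc_8_3 lc_d_rc_15_1 lc_d_rc_17_2 lc_d_Cert_tree lc_d_rc_15_1 lc_d_rc_23_8 lc_d_rc_15_1 lc_d_Cert_tree lc_d_rc_15_1 lc_d_rc_16_4 lc_d_rc_17_2 lc_d_rc_8_3 lc_d_rc_17_2 lc_d_rc_22_4 lc_d_rc_24_0 lc_d_rc_15_1 lc_d_rc_8_1 lc_d_rc_15_1 lc_d_rc_27_8 lc_d_rc_16_2 lc_d_rc_3_3 lc_d_rc_15_1 lc_d_rc_23_2 lc_d_rc_25_2 lc_d_rc_15_1 lc_d_rc_8_3 lc_d_rc_15_1 lc_d_rc_27_2 lc_d_rc_27_10 lc_d_rc_17_2 lc_d_rc_23_6 lc_d_rc_22_6 lc_d_Cert_tree lc_d_Cert_tree lc_d_rc_24_5 lc_d_rc_15_1 lc_d_rc_27_4 lc_d_rc_17_2 lc_d_rc_22_8 lc_d_rc_3_3 lc_d_rc_15_1 lc_d_Cert_tree lc_d_rc_27_10 lc_d_rc_23_2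 lc_d_rc_16_4 lc_d_rc_17_0 lc_d_rc_8_3 lc_d_rc_15_1 lc_d_rc_15_1 lc_d_rc_15_1 lc_d_rc_8_1 lc_d_rc_15_1) (@D3.rec (fun _ => (Cert rels S Gen.d)) lc_d_rc_22_8 lc_d_rc_15_1 lc_d_rc_15_1 lc_d_rc_16_2 lc_d_rc_15_1 lc_d_rc_15_1 lc_d_rc_17_2 lc_d_rc_17_0 lc_d_rc_16_0 lc_d_rc_12_1 lc_d_rc_23_8 lc_d_Cert_tree lc_d_rc_15_1 lc_d_rc_15_1 lc_d_rc_16_2 lc_d_rc_27_4 lc_d_rc_23_8 lc_d_rc_17_0 lc_d_rc_23_4 lc_d_rc_15_1 lc_d_Cert_tree lc_d_rc_15_1 lc_d_rc_23_4 lc_d_rc_15_1 lc_d_rc_15_1 lc_d_rc_27_2 lc_d_Cert_tree lc_d_rc_23_2 lc_d_rc_15_1 lc_d_rc_23_4 lc_d_rc_15_1 lc_d_rc_16_4 lc_d_rc_8_3 lc_d_rc_27_10 lc_d_Cert_tree lc_d_rc_24_0 lc_d_rc_12_15 lc_d_rc_15_1 lc_d_rc_15_1 lc_d_rc_27_8 lc_d_rc_16_2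 lc_d_rc_8_3 lc_d_rc_23_2 lc_d_rc_15_1 lc_d_rc_8_3 lc_d_rc_24_5 lc_d_rc_17_2 lc_d_rc_8_3 lc_d_rc_15_1 lc_d_rc_24_5 lc_d_rc_17_2 lc_d_Cert_tree lc_d_rc_15_1 lc_d_rc_15_1 lc_d_rc_12_15 lc_d_rc_8_1 lc_d_rc_15_1 lc_d_Cert_tree lc_d_rc_15_1 lc_d_rc_22_2 lc_d_rc_15_1 lc_d_rc_23_6) (@D3.rec (fun _ => (Cert rels S Gen.d)) lc_d_rc_8_3 lc_d_rc_8_3 lc_d_Cert_tree lc_d_rc_16_4 lc_d_rc_15_1 lc_d_rc_8_3 lc_d_rc_23_4 lc_d_rc_23_4 lc_d_rc_17_2 lc_d_rc_8_3 lc_d_rc_8_3 lc_d_rc_16_4 lc_d_rc_22_6 lc_d_rc_22_2 lc_d_rc_16_4 lc_d_rc_23_4 lc_d_rc_17_2 lc_d_Cert_tree lc_d_rc_25_18 lc_d_rc_8_3 lc_d_Cert_tree lc_d_rc_15_1 lc_d_rc_25_2 lc_d_rc_24_5 lc_d_rc_27_4 lc_d_rc_8_3 lc_d_Cert_tree lc_d_rc_15_1 lc_d_rc_15_1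 lc_d_rc_27_10 lc_d_rc_3_3 lc_d_rc_8_3 lc_d_rc_15_1 lc_d_rc_8_3 lc_d_Cert_tree lc_d_rc_15_1 lc_d_rc_27_8 lc_d_rc_8_3 lc_d_rc_27_4 lc_d_rc_15_1 lc_d_rc_24_0 lc_d_rc_8_3 lc_d_Cert_tree lc_d_rc_15_1 lc_d_rc_15_1 lc_d_rc_23_6 lc_d_Cert_tree lc_d_rc_22_2 lc_d_rc_23_4 lc_d_rc_15_1 lc_d_rc_8_3 lc_d_rc_8_3 lc_d_rc_16_4 lc_d_rc_8_3 lc_d_rc_15_1 lc_d_rc_15_1 lc_d_Cert_tree lc_d_Cert_tree lc_d_rc_15_1 lc_d_rc_15_1 lc_d_rc_15_1 lc_d_rc_16_4) (@D3.rec (fun _ => (Cert rels S Gen.d)) lc_d_rc_24_0 lc_d_rc_25_6 lc_d_Cert_tree lc_d_rc_8_3 lc_d_rc_22_4 lc_d_rc_15_1 lc_d_rc_8_3 lc_d_Cert_tree lc_d_rc_15_1 lc_d_Cert_tree lc_d_rc_15_1 lc_d_Cert_tree lc_d_rc_15_1 lc_d_rc_16_0 lc_d_Cert_tree lc_d_rc_15_1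 lc_d_rc_8_3 lc_d_rc_17_2 lc_d_rc_16_0 lc_d_rc_22_2 lc_d_rc_17_2 lc_d_rc_27_8 lc_d_Cert_tree lc_d_rc_15_1 lc_d_rc_15_1 lc_d_rc_15_1 lc_d_rc_16_4 lc_d_rc_8_3 lc_d_Cert_tree lc_d_rc_16_4 lc_d_rc_24_5 lc_d_Cert_tree lc_d_rc_15_1 lc_d_rc_8_3 lc_d_Cert_tree lc_d_rc_15_1 lc_d_rc_17_2 lc_d_rc_15_1 lc_d_rc_17_2 lc_d_Cert_tree lc_d_rc_15_1 lc_d_rc_3_3 lc_d_Cert_tree lc_d_rc_27_2 lc_d_rc_3_3 lc_d_rc_15_1 lc_d_rc_23_2 lc_d_rc_27_2 lc_d_rc_22_2 lc_d_rc_24_5 lc_d_rc_17_0 lc_d_rc_8_3 lc_d_rc_22_2 lc_d_rc_16_4 lc_d_Cert_tree lc_d_rc_15_1 lc_d_Cert_tree lc_d_rc_15_1 lc_d_rc_8_1 lc_d_rc_15_1 lc_d_rc_27_2 lc_d_rc_15_1) (@D3.rec (fun _ => (Cert rels S Gen.d)) lc_d_rc_22_6 lc_d_rc_16_0 lc_d_rc_15_1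 lc_d_rc_27_2 lc_d_rc_15_1 lc_d_Cert_tree lc_d_rc_15_1 lc_d_rc_27_4 lc_d_rc_16_4 lc_d_rc_15_1 lc_d_Cert_tree lc_d_Cert_tree lc_d_rc_15_1 lc_d_rc_16_4 lc_d_rc_27_10 lc_d_rc_15_1 lc_d_rc_15_1 lc_d_rc_23_6 lc_d_Cert_tree lc_d_rc_17_2 lc_d_rc_15_1 lc_d_rc_27_4 lc_d_rc_15_1 lc_d_rc_27_2 lc_d_rc_27_4 lc_d_rc_15_1 lc_d_rc_15_1 lc_d_rc_8_3 lc_d_rc_3_1 lc_d_rc_15_1 lc_d_rc_23_8 lc_d_rc_15_1 lc_d_rc_8_3 lc_d_rc_27_2 lc_d_Cert_tree lc_d_rc_8_3 lc_d_rc_8_1 lc_d_rc_23_6 lc_d_rc_15_1 lc_d_Cert_tree lc_d_rc_17_2 lc_d_Cert_tree lc_d_rc_15_1 lc_d_rc_15_1 lc_d_rc_27_8 lc_d_rc_15_1 lc_d_rc_15_1 lc_d_rc_23_4 lc_d_rc_23_4 lc_d_rc_15_1 lc_d_rc_17_2 lc_d_Cert_tree lc_d_rc_15_1 lc_d_rc_15_1 lc_d_rc_24_0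 lc_d_rc_15_1 lc_d_rc_8_3 lc_d_rc_24_5 lc_d_rc_23_4 lc_d_rc_15_1 lc_d_rc_27_10 lc_d_rc_15_1) (@D3.rec (fun _ => (Cert rels S Gen.d)) lc_d_rc_16_2 lc_d_rc_15_1 lc_d_rc_15_1 lc_d_rc_17_2 lc_d_rc_15_1 lc_d_rc_27_4 lc_d_rc_8_1 lc_d_rc_15_1 lc_d_Cert_tree lc_d_rc_22_8 lc_d_Cert_tree lc_d_rc_24_5 lc_d_rc_8_3 lc_d_rc_15_1 lc_d_rc_8_3 lc_d_rc_15_1 lc_d_rc_16_4 lc_d_rc_23_8 lc_d_rc_25_10 lc_d_rc_15_1 lc_d_Cert_tree lc_d_rc_3_3 lc_d_rc_15_1 lc_d_rc_27_10 lc_d_rc_12_13 lc_d_Cert_tree lc_d_rc_15_1 lc_d_Cert_tree lc_d_rc_15_1 lc_d_rc_15_1 lc_d_rc_24_0 lc_d_rc_15_1 lc_d_rc_15_1 lc_d_rc_3_3 lc_d_rc_8_1 lc_d_rc_3_1 lc_d_rc_27_4 lc_d_rc_15_1 lc_d_rc_27_4 lc_d_rc_3_3 lc_d_rc_15_1 lc_d_rc_17_2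 lc_d_Cert_tree lc_d_rc_15_1 lc_d_rc_15_1 lc_d_Cert_tree lc_d_rc_23_6 lc_d_rc_22_8 lc_d_Cert_tree lc_d_rc_22_2 lc_d_rc_15_1 lc_d_rc_17_0 lc_d_rc_22_4 lc_d_rc_15_1 lc_d_rc_8_3 lc_d_Cert_tree lc_d_rc_27_4 lc_d_rc_8_3 lc_d_rc_22_4 lc_d_rc_15_1 lc_d_rc_15_1 lc_d_rc_27_8) (@D3.rec (fun _ => (Cert rels S Gen.d)) lc_d_rc_22_4 lc_d_rc_15_1 lc_d_rc_16_4 lc_d_rc_22_2 lc_d_rc_15_1 lc_d_rc_17_2 lc_d_rc_27_2 lc_d_rc_15_1 lc_d_rc_24_0 lc_d_rc_23_8 lc_d_rc_3_1 lc_d_rc_27_4 lc_d_rc_15_1 lc_d_rc_24_5 lc_d_Cert_tree lc_d_rc_15_1 lc_d_rc_15_1 lc_d_rc_27_2 lc_d_rc_15_1 lc_d_rc_3_3 lc_d_Cert_tree lc_d_rc_15_1 lc_d_rc_25_6 lc_d_rc_27_4 lc_d_rc_15_1 lc_d_rc_27_2 lc_d_rc_24_5 lc_d_Cert_tree lc_d_rc_23_2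 lc_d_Cert_tree lc_d_rc_15_1 lc_d_rc_23_6 lc_d_rc_27_10 lc_d_rc_16_0 lc_d_rc_15_1 lc_d_rc_15_1 lc_d_rc_15_1 lc_d_Cert_tree lc_d_rc_8_3 lc_d_Cert_tree lc_d_Cert_tree lc_d_Cert_tree lc_d_rc_15_1 lc_d_rc_17_2 lc_d_rc_27_10 lc_d_rc_15_1 lc_d_rc_15_1 lc_d_rc_24_5 lc_d_rc_8_1 lc_d_rc_22_6 lc_d_rc_24_5 lc_d_rc_15_1 lc_d_rc_12_1 lc_d_rc_17_2 lc_d_rc_27_8 lc_d_rc_17_2 lc_d_rc_15_1 lc_d_rc_16_0 lc_d_rc_15_1 lc_d_rc_24_0 lc_d_rc_23_2 lc_d_rc_16_4) (@D3.rec (fun _ => (Cert rels S Gen.d)) lc_d_rc_8_3 lc_d_rc_23_2 lc_d_rc_15_1 lc_d_Cert_tree lc_d_rc_23_6 lc_d_rc_8_3 lc_d_Cert_tree lc_d_Cert_tree lc_d_rc_27_2 lc_d_rc_15_1 lc_d_rc_17_2 lc_d_rc_27_10 lc_d_rc_23_8 lc_d_rc_15_1 lc_d_rc_27_8 lc_d_rc_16_4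 lc_d_rc_15_1 lc_d_rc_22_2 lc_d_rc_15_1 lc_d_rc_15_1 lc_d_Cert_tree lc_d_rc_17_2 lc_d_Cert_tree lc_d_rc_15_1 lc_d_Cert_tree lc_d_rc_16_0 lc_d_rc_15_1 lc_d_rc_16_4 lc_d_rc_23_4 lc_d_rc_15_1 lc_d_rc_17_2 lc_d_rc_8_1 lc_d_rc_17_2 lc_d_rc_15_1 lc_d_rc_15_1 lc_d_rc_27_4 lc_d_rc_15_1 lc_d_rc_27_4 lc_d_rc_15_1 lc_d_rc_17_2 lc_d_rc_23_4 lc_d_Cert_tree lc_d_rc_17_2 lc_d_rc_3_3 lc_d_rc_15_1 lc_d_rc_8_1 lc_d_Cert_tree lc_d_rc_15_1 lc_d_rc_27_2 lc_d_rc_15_1 lc_d_Cert_tree lc_d_rc_15_1 lc_d_rc_8_3 lc_d_rc_27_8 lc_d_rc_25_10 lc_d_rc_16_2 lc_d_rc_15_1 lc_d_rc_17_2 lc_d_Cert_tree lc_d_rc_15_1 lc_d_rc_27_2 lc_d_rc_23_4)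
def ce_d_19 : D2 → D3 → (Cert rels S Gen.d) := @D2.rec (fun _ => D3 → (Cert rels S Gen.d)) (@D3.rec (fun _ => (Cert rels S Gen.d)) lc_d_rc_23_4 lc_d_rc_17_0 lc_d_rc_17_2 lc_d_rc_27_10 lc_d_rc_16_4 lc_d_Cert_tree lc_d_rc_15_1 lc_d_rc_17_2 lc_d_rc_24_0 lc_d_rc_8_3 lc_d_rc_17_2 lc_d_Cert_tree lc_d_rc_23_4 lc_d_rc_15_1 lc_d_rc_17_2 lc_d_rc_27_4 lc_d_Cert_tree lc_d_rc_25_14 lc_d_rc_15_1 lc_d_rc_27_8 lc_d_rc_23_8 lc_d_rc_8_3 lc_d_rc_16_0 lc_d_rc_15_1 lc_d_rc_17_2 lc_d_Cert_tree lc_d_Cert_tree lc_d_rc_15_1 lc_d_rc_22_6 lc_d_Cert_tree lc_d_rc_27_4 lc_d_rc_8_3 lc_d_rc_16_4 lc_d_rc_23_8 lc_d_rc_15_1 lc_d_rc_15_1 lc_d_rc_15_1 lc_d_rc_8_3 lc_d_Cert_tree lc_d_rc_24_5 lc_d_rc_24_5 lc_d_rc_27_8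 lc_d_rc_15_1 lc_d_rc_25_6 lc_d_rc_15_1 lc_d_Cert_tree lc_d_Cert_tree lc_d_rc_17_2 lc_d_rc_15_1 lc_d_rc_8_1 lc_d_rc_23_4 lc_d_rc_16_4 lc_d_rc_15_1 lc_d_rc_24_0 lc_d_rc_8_1 lc_d_Cert_tree lc_d_rc_15_1 lc_d_rc_15_1 lc_d_rc_17_2 lc_d_rc_15_1 lc_d_rc_15_1 lc_d_rc_15_1) (@D3.rec (fun _ => (Cert rels S Gen.d)) lc_d_rc_22_4 lc_d_rc_17_2 lc_d_rc_22_8 lc_d_rc_15_1 lc_d_rc_23_8 lc_d_rc_22_8 lc_d_rc_8_3 lc_d_rc_23_8 lc_d_rc_24_0 lc_d_rc_15_1 lc_d_rc_8_3 lc_d_rc_16_2 lc_d_rc_15_1 lc_d_rc_22_4 lc_d_rc_15_1 lc_d_Cert_tree lc_d_Cert_tree lc_d_rc_22_4 lc_d_Cert_tree lc_d_Cert_tree lc_d_rc_15_1 lc_d_rc_17_2 lc_d_rc_25_18 lc_d_rc_15_1 lc_d_rc_15_1 lc_d_rc_27_2 lc_d_rc_24_5 lc_d_rc_15_1 lc_d_rc_27_4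 lc_d_rc_22_4 lc_d_rc_17_2 lc_d_Cert_tree lc_d_rc_15_1 lc_d_rc_15_1 lc_d_Cert_tree lc_d_rc_15_1 lc_d_rc_17_2 lc_d_rc_27_4 lc_d_rc_15_1 lc_d_rc_17_2 lc_d_rc_23_4 lc_d_Cert_tree lc_d_rc_17_2 lc_d_rc_15_1 lc_d_rc_27_4 lc_d_rc_27_4 lc_d_rc_16_0 lc_d_rc_15_1 lc_d_rc_3_1 lc_d_rc_15_1 lc_d_rc_27_8 lc_d_rc_22_8 lc_d_rc_17_2 lc_d_rc_22_8 lc_d_rc_24_5 lc_d_rc_3_1 lc_d_Cert_tree lc_d_rc_24_0 lc_d_rc_15_1 lc_d_rc_15_1 lc_d_rc_8_1 lc_d_rc_8_3) (@D3.rec (fun _ => (Cert rels S Gen.d)) lc_d_rc_8_1 lc_d_Cert_tree lc_d_Cert_tree lc_d_rc_15_1 lc_d_rc_15_1 lc_d_rc_8_1 lc_d_rc_15_1 lc_d_Cert_tree lc_d_rc_3_3 lc_d_rc_15_1 lc_d_Cert_tree lc_d_rc_16_0 lc_d_rc_15_1 lc_d_rc_22_2 lc_d_rc_16_0 lc_d_rc_3_3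 lc_d_rc_24_0 lc_d_rc_15_1 lc_d_rc_16_2 lc_d_rc_23_2 lc_d_rc_24_0 lc_d_rc_22_2 lc_d_Cert_tree lc_d_Cert_tree lc_d_rc_15_1 lc_d_rc_17_2 lc_d_Cert_tree lc_d_rc_8_3 lc_d_rc_22_4 lc_d_rc_16_4 lc_d_rc_23_8 lc_d_rc_8_1 lc_d_rc_16_4 lc_d_rc_12_5 lc_d_Cert_tree lc_d_rc_15_1 lc_d_rc_17_2 lc_d_rc_8_1 lc_d_rc_16_0 lc_d_rc_15_1 lc_d_rc_27_4 lc_d_rc_23_4 lc_d_Cert_tree lc_d_Cert_tree lc_d_rc_15_1 lc_d_rc_3_3 lc_d_Cert_tree lc_d_rc_23_2 lc_d_Cert_tree lc_d_Cert_tree lc_d_rc_15_1 lc_d_Cert_tree lc_d_Cert_tree lc_d_rc_15_1 lc_d_rc_22_2 lc_d_rc_27_4 lc_d_rc_8_1 lc_d_Cert_tree lc_d_rc_15_1 lc_d_rc_27_8 lc_d_Cert_tree lc_d_rc_15_1) (@D3.rec (fun _ => (Cert rels S Gen.d)) lc_d_rc_23_2 lc_d_rc_8_1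 lc_d_rc_15_1 lc_d_rc_8_3 lc_d_rc_8_3 lc_d_rc_27_8 lc_d_rc_15_1 lc_d_rc_8_3 lc_d_rc_17_2 lc_d_rc_27_4 lc_d_rc_15_1 lc_d_rc_16_0 lc_d_rc_25_14 lc_d_rc_27_8 lc_d_rc_15_1 lc_d_rc_27_8 lc_d_rc_15_1 lc_d_Cert_tree lc_d_rc_27_2 lc_d_rc_15_1 lc_d_rc_17_2 lc_d_rc_24_0 lc_d_rc_23_8 lc_d_rc_3_1 lc_d_rc_24_0 lc_d_rc_24_0 lc_d_rc_23_4 lc_d_Cert_tree lc_d_Cert_tree lc_d_rc_3_3 lc_d_Cert_tree lc_d_rc_15_1 lc_d_rc_17_2 lc_d_rc_23_8 lc_d_rc_23_8 lc_d_rc_23_2 lc_d_Cert_tree lc_d_rc_15_1 lc_d_rc_15_1 lc_d_rc_27_2 lc_d_rc_15_1 lc_d_rc_15_1 lc_d_rc_3_3 lc_d_rc_8_1 lc_d_Cert_tree lc_d_rc_27_2 lc_d_rc_15_1 lc_d_rc_16_2 lc_d_Cert_tree lc_d_rc_15_1 lc_d_Cert_tree lc_d_rc_15_1 lc_d_Cert_tree lc_d_rc_15_1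 lc_d_rc_15_1 lc_d_rc_15_1 lc_d_Cert_tree lc_d_rc_17_2 lc_d_rc_15_1 lc_d_rc_23_8 lc_d_Cert_tree lc_d_rc_3_1) (@D3.rec (fun _ => (Cert rels S Gen.d)) lc_d_rc_17_2 lc_d_rc_8_3 lc_d_rc_16_2 lc_d_rc_3_1 lc_d_rc_15_1 lc_d_rc_15_1 lc_d_Cert_tree lc_d_rc_23_2 lc_d_rc_24_0 lc_d_rc_15_1 lc_d_Cert_tree lc_d_Cert_tree lc_d_rc_15_1 lc_d_rc_17_2 lc_d_rc_3_3 lc_d_rc_15_1 lc_d_rc_15_1 lc_d_rc_15_1 lc_d_rc_15_1 lc_d_rc_17_2 lc_d_rc_17_2 lc_d_rc_8_1 lc_d_rc_15_1 lc_d_rc_17_2 lc_d_rc_15_1 lc_d_rc_24_5 lc_d_rc_15_1 lc_d_rc_8_1 lc_d_rc_8_3 lc_d_rc_15_1 lc_d_Cert_tree lc_d_rc_17_0 lc_d_rc_15_1 lc_d_rc_8_3 lc_d_rc_27_4 lc_d_Cert_tree lc_d_rc_16_2 lc_d_rc_25_2 lc_d_rc_27_8 lc_d_rc_15_1 lc_d_rc_16_2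 lc_d_rc_17_2 lc_d_rc_15_1 lc_d_rc_27_4 lc_d_rc_8_3 lc_d_rc_15_1 lc_d_rc_8_3 lc_d_rc_25_6 lc_d_rc_15_1 lc_d_rc_27_4 lc_d_Cert_tree lc_d_rc_15_1 lc_d_rc_15_1 lc_d_rc_17_2 lc_d_rc_15_1 lc_d_Cert_tree lc_d_rc_25_10 lc_d_rc_8_3 lc_d_rc_15_1 lc_d_Cert_tree lc_d_rc_25_18 lc_d_rc_15_1) (@D3.rec (fun _ => (Cert rels S Gen.d)) lc_d_rc_15_1 lc_d_rc_15_1 lc_d_rc_8_1 lc_d_rc_22_2 lc_d_rc_15_1 lc_d_rc_15_1 lc_d_Cert_tree lc_d_rc_22_4 lc_d_rc_22_4 lc_d_rc_15_1 lc_d_rc_12_15 lc_d_rc_24_5 lc_d_rc_8_3 lc_d_rc_24_5 lc_d_rc_27_8 lc_d_rc_3_3 lc_d_rc_22_8 lc_d_Cert_tree lc_d_rc_15_1 lc_d_rc_3_3 lc_d_rc_22_8 lc_d_Cert_tree lc_d_rc_16_0 lc_d_rc_15_1 lc_d_rc_17_2 lc_d_Cert_tree lc_d_rc_24_5 lc_d_rc_15_1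 lc_d_rc_8_3 lc_d_rc_27_4 lc_d_rc_8_3 lc_d_rc_27_8 lc_d_rc_15_1 lc_d_rc_15_1 lc_d_rc_8_1 lc_d_rc_8_3 lc_d_rc_15_1 lc_d_rc_22_8 lc_d_rc_25_10 lc_d_rc_8_1 lc_d_rc_16_4 lc_d_rc_15_1 lc_d_rc_15_1 lc_d_rc_17_2 lc_d_rc_15_1 lc_d_rc_15_1 lc_d_rc_23_2 lc_d_rc_12_3 lc_d_rc_27_4 lc_d_rc_8_1 lc_d_rc_15_1 lc_d_rc_15_1 lc_d_rc_16_2 lc_d_rc_15_1 lc_d_rc_22_4 lc_d_Cert_tree lc_d_rc_8_3 lc_d_Cert_tree lc_d_rc_15_1 lc_d_rc_16_2 lc_d_rc_15_1 lc_d_rc_15_1) (@D3.rec (fun _ => (Cert rels S Gen.d)) lc_d_rc_8_3 lc_d_rc_16_2 lc_d_rc_15_1 lc_d_rc_15_1 lc_d_rc_3_3 lc_d_rc_15_1 lc_d_rc_8_1 lc_d_rc_8_3 lc_d_Cert_tree lc_d_rc_8_3 lc_d_Cert_tree lc_d_rc_23_6 lc_d_rc_17_2 lc_d_rc_3_1 lc_d_rc_16_4 lc_d_rc_15_1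 lc_d_rc_16_4 lc_d_Cert_tree lc_d_Cert_tree lc_d_rc_15_1 lc_d_Cert_tree lc_d_Cert_tree lc_d_rc_15_1 lc_d_rc_17_2 lc_d_rc_23_4 lc_d_rc_27_4 lc_d_rc_15_1 lc_d_rc_27_2 lc_d_rc_15_1 lc_d_rc_27_2 lc_d_rc_22_6 lc_d_Cert_tree lc_d_rc_15_1 lc_d_rc_27_8 lc_d_Cert_tree lc_d_Cert_tree lc_d_rc_15_1 lc_d_Cert_tree lc_d_rc_15_1 lc_d_rc_15_1 lc_d_rc_15_1 lc_d_rc_22_6 lc_d_rc_3_3 lc_d_rc_8_3 lc_d_rc_17_2 lc_d_rc_25_10 lc_d_rc_8_3 lc_d_rc_23_4 lc_d_rc_16_4 lc_d_rc_15_1 lc_d_rc_24_0 lc_d_rc_22_4 lc_d_rc_15_1 lc_d_rc_8_3 lc_d_rc_27_2 lc_d_rc_23_8 lc_d_rc_17_2 lc_d_rc_15_1 lc_d_rc_27_2 lc_d_Cert_tree lc_d_Cert_tree lc_d_rc_15_1) (@D3.rec (fun _ => (Cert rels S Gen.d)) lc_d_rc_15_1 lc_d_rc_16_2 lc_d_rc_24_5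 lc_d_rc_23_6 lc_d_rc_16_0 lc_d_rc_15_1 lc_d_rc_23_4 lc_d_Cert_tree lc_d_rc_22_6 lc_d_rc_15_1 lc_d_rc_27_2 lc_d_rc_22_4 lc_d_rc_15_1 lc_d_rc_15_1 lc_d_rc_15_1 lc_d_rc_24_0 lc_d_rc_8_3 lc_d_rc_8_1 lc_d_rc_8_3 lc_d_rc_8_3 lc_d_rc_16_4 lc_d_rc_15_1 lc_d_rc_23_8 lc_d_rc_8_3 lc_d_rc_27_10 lc_d_rc_16_4 lc_d_Cert_tree lc_d_Cert_tree lc_d_rc_15_1 lc_d_rc_17_2 lc_d_Cert_tree lc_d_rc_15_1 lc_d_rc_15_1 lc_d_rc_15_1 lc_d_rc_22_6 lc_d_Cert_tree lc_d_rc_15_1 lc_d_rc_25_2 lc_d_rc_3_3 lc_d_rc_27_2 lc_d_rc_16_2 lc_d_rc_15_1 lc_d_rc_23_2 lc_d_rc_15_1 lc_d_rc_23_6 lc_d_rc_8_3 lc_d_Cert_tree lc_d_rc_8_1 lc_d_rc_22_2 lc_d_rc_25_6 lc_d_rc_3_1 lc_d_rc_3_3 lc_d_rc_3_3 lc_d_rc_16_4 lc_d_rc_24_0 lc_d_rc_15_1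 lc_d_rc_16_4 lc_d_rc_23_2 lc_d_rc_23_2 lc_d_rc_8_1 lc_d_rc_3_3 lc_d_rc_3_3) (@D3.rec (fun _ => (Cert rels S Gen.d)) lc_d_Cert_tree lc_d_rc_15_1 lc_d_rc_17_2 lc_d_rc_8_3 lc_d_rc_15_1 lc_d_rc_8_3 lc_d_rc_3_1 lc_d_Cert_tree lc_d_rc_16_0 lc_d_rc_15_1 lc_d_rc_22_2 lc_d_Cert_tree lc_d_rc_15_1 lc_d_Cert_tree lc_d_rc_15_1 lc_d_rc_27_2 lc_d_rc_3_3 lc_d_Cert_tree lc_d_rc_17_2 lc_d_rc_15_1 lc_d_rc_8_3 lc_d_Cert_tree lc_d_rc_15_1 lc_d_rc_27_2 lc_d_rc_15_1 lc_d_rc_23_8 lc_d_rc_27_2 lc_d_rc_15_1 lc_d_rc_15_1 lc_d_rc_22_4 lc_d_rc_15_1 lc_d_Cert_tree lc_d_rc_16_0 lc_d_rc_27_8 lc_d_rc_15_1 lc_d_rc_15_1 lc_d_Cert_tree lc_d_rc_15_1 lc_d_rc_17_2 lc_d_rc_15_1 lc_d_rc_27_8 lc_d_rc_15_1 lc_d_rc_22_6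 lc_d_rc_17_2 lc_d_rc_15_1 lc_d_Cert_tree lc_d_Cert_tree lc_d_rc_15_1 lc_d_Cert_tree lc_d_rc_15_1 lc_d_rc_15_1 lc_d_rc_8_1 lc_d_rc_16_0 lc_d_rc_15_1 lc_d_rc_15_1 lc_d_Cert_tree lc_d_rc_15_1 lc_d_rc_17_2 lc_d_rc_22_8 lc_d_rc_27_2 lc_d_rc_8_3 lc_d_rc_15_1) (@D3.rec (fun _ => (Cert rels S Gen.d)) lc_d_rc_17_2 lc_d_rc_23_6 lc_d_rc_23_6 lc_d_rc_15_1 lc_d_rc_17_2 lc_d_rc_3_3 lc_d_Cert_tree lc_d_rc_17_2 lc_d_rc_15_1 lc_d_rc_15_1 lc_d_Cert_tree lc_d_rc_16_4 lc_d_rc_15_1 lc_d_rc_27_2 lc_d_rc_15_1 lc_d_Cert_tree lc_d_rc_15_1 lc_d_rc_23_8 lc_d_rc_17_2 lc_d_Cert_tree lc_d_Cert_tree lc_d_Cert_tree lc_d_rc_15_1 lc_d_rc_17_2 lc_d_rc_16_0 lc_d_Cert_tree lc_d_rc_15_1 lc_d_rc_17_2 lc_d_Cert_tree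 lc_d_rc_17_2 lc_d_rc_15_1 lc_d_rc_16_4 lc_d_Cert_tree lc_d_rc_15_1 lc_d_Cert_tree lc_d_Cert_tree lc_d_rc_15_1 lc_d_Cert_tree lc_d_rc_16_4 lc_d_rc_8_1 lc_d_Cert_tree lc_d_rc_17_2 lc_d_Cert_tree lc_d_rc_15_1 lc_d_rc_17_2 lc_d_rc_23_4 lc_d_Cert_tree lc_d_rc_15_1 lc_d_rc_23_4 lc_d_rc_15_1 lc_d_rc_8_3 lc_d_rc_16_4 lc_d_rc_8_3 lc_d_rc_17_2 lc_d_rc_27_8 lc_d_rc_8_3 lc_d_rc_22_6 lc_d_Cert_tree lc_d_rc_23_6 lc_d_rc_22_6 lc_d_rc_15_1 lc_d_rc_15_1) (@D3.rec (fun _ => (Cert rels S Gen.d)) lc_d_rc_8_3 lc_d_rc_8_3 lc_d_rc_27_10 lc_d_rc_27_10 lc_d_rc_25_6 lc_d_rc_15_1 lc_d_rc_15_1 lc_d_rc_23_4 lc_d_rc_3_3 lc_d_rc_15_1 lc_d_Cert_tree lc_d_Cert_tree lc_d_Cert_tree lc_d_rc_15_1 lc_d_rc_17_2 lc_d_Cert_tree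 lc_d_Cert_tree lc_d_Cert_tree lc_d_rc_15_1 lc_d_rc_27_2 lc_d_Cert_tree lc_d_rc_15_1 lc_d_rc_27_8 lc_d_Cert_tree lc_d_Cert_tree lc_d_rc_15_1 lc_d_rc_15_1 lc_d_rc_24_0 lc_d_rc_15_1 lc_d_rc_15_1 lc_d_rc_27_4 lc_d_rc_25_6 lc_d_rc_23_8 lc_d_rc_3_3 lc_d_rc_15_1 lc_d_rc_15_1 lc_d_rc_16_2 lc_d_rc_3_3 lc_d_rc_15_1 lc_d_rc_22_2 lc_d_rc_15_1 lc_d_rc_16_0 lc_d_rc_23_4 lc_d_rc_27_4 lc_d_Cert_tree lc_d_rc_15_1 lc_d_rc_8_3 lc_d_rc_3_1 lc_d_rc_27_2 lc_d_rc_8_3 lc_d_rc_8_1 lc_d_rc_16_4 lc_d_rc_15_1 lc_d_rc_16_4 lc_d_rc_15_1 lc_d_rc_3_3 lc_d_rc_16_4 lc_d_rc_8_3 lc_d_rc_15_1 lc_d_rc_27_10 lc_d_rc_24_0 lc_d_Cert_tree) (@D3.rec (fun _ => (Cert rels S Gen.d)) lc_d_rc_15_1 lc_d_rc_27_2 lc_d_Cert_tree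 lc_d_rc_15_1 lc_d_Cert_tree lc_d_rc_27_4 lc_d_rc_15_1 lc_d_rc_15_1 lc_d_rc_15_1 lc_d_rc_17_2 lc_d_rc_27_4 lc_d_Cert_tree lc_d_rc_15_1 lc_d_rc_27_8 lc_d_rc_8_3 lc_d_rc_12_1 lc_d_rc_15_1 lc_d_rc_17_2 lc_d_rc_16_4 lc_d_rc_15_1 lc_d_rc_22_6 lc_d_rc_16_4 lc_d_rc_23_8 lc_d_rc_22_2 lc_d_rc_16_4 lc_d_rc_16_4 lc_d_rc_24_0 lc_d_rc_16_4 lc_d_Cert_tree lc_d_rc_15_1 lc_d_rc_17_2 lc_d_rc_15_1 lc_d_rc_15_1 lc_d_rc_12_3 lc_d_rc_17_2 lc_d_rc_15_1 lc_d_Cert_tree lc_d_rc_15_1 lc_d_rc_15_1 lc_d_Cert_tree lc_d_Cert_tree lc_d_Cert_tree lc_d_Cert_tree lc_d_Cert_tree lc_d_rc_15_1 lc_d_rc_15_1 lc_d_Cert_tree lc_d_rc_15_1 lc_d_rc_27_2 lc_d_rc_17_0 lc_d_rc_15_1 lc_d_Cert_tree lc_d_rc_15_1 lc_d_rc_15_1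 lc_d_rc_15_1 lc_d_rc_16_0 lc_d_rc_16_0 lc_d_rc_24_5 lc_d_rc_15_1 lc_d_Cert_tree lc_d_rc_8_1 lc_d_rc_15_1) (@D3.rec (fun _ => (Cert rels S Gen.d)) lc_d_rc_15_1 lc_d_Cert_tree lc_d_rc_16_4 lc_d_rc_15_1 lc_d_rc_22_4 lc_d_Cert_tree lc_d_rc_15_1 lc_d_rc_15_1 lc_d_rc_17_2 lc_d_rc_15_1 lc_d_rc_23_4 lc_d_Cert_tree lc_d_rc_17_2 lc_d_rc_16_4 lc_d_rc_15_1 lc_d_Cert_tree lc_d_rc_16_0 lc_d_rc_15_1 lc_d_rc_22_4 lc_d_rc_15_1 lc_d_Cert_tree lc_d_rc_3_1 lc_d_Cert_tree lc_d_Cert_tree lc_d_Cert_tree lc_d_Cert_tree lc_d_rc_15_1 lc_d_rc_15_1 lc_d_Cert_tree lc_d_rc_15_1 lc_d_rc_27_2 lc_d_rc_15_1 lc_d_rc_15_1 lc_d_rc_16_4 lc_d_Cert_tree lc_d_rc_16_4 lc_d_rc_22_8 lc_d_rc_15_1 lc_d_Cert_tree lc_d_rc_24_0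 lc_d_rc_8_3 lc_d_rc_16_4 lc_d_rc_15_1 lc_d_rc_17_2 lc_d_rc_23_4 lc_d_rc_3_3 lc_d_rc_22_4 lc_d_rc_8_1 lc_d_rc_16_2 lc_d_rc_15_1 lc_d_rc_17_2 lc_d_rc_22_6 lc_d_Cert_tree lc_d_rc_15_1 lc_d_rc_8_3 lc_d_rc_27_2 lc_d_rc_23_4 lc_d_rc_24_0 lc_d_rc_22_2 lc_d_Cert_tree lc_d_rc_22_6 lc_d_rc_15_1) (@D3.rec (fun _ => (Cert rels S Gen.d)) lc_d_rc_8_1 lc_d_rc_27_10 lc_d_rc_15_1 lc_d_rc_23_6 lc_d_rc_24_0 lc_d_rc_17_2 lc_d_rc_8_3 lc_d_rc_22_8 lc_d_rc_16_2 lc_d_rc_15_1 lc_d_rc_17_2 lc_d_rc_8_3 lc_d_rc_8_3 lc_d_rc_16_2 lc_d_rc_24_5 lc_d_rc_15_1 lc_d_Cert_tree lc_d_rc_15_1 lc_d_Cert_tree lc_d_rc_15_1 lc_d_rc_12_13 lc_d_rc_17_2 lc_d_Cert_tree lc_d_Cert_tree lc_d_rc_15_1 lc_d_rc_22_2 lc_d_Cert_tree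 lc_d_Cert_tree lc_d_Cert_tree lc_d_rc_15_1 lc_d_rc_8_3 lc_d_rc_24_5 lc_d_Cert_tree lc_d_rc_16_2 lc_d_rc_8_3 lc_d_rc_24_5 lc_d_rc_16_4 lc_d_rc_15_1 lc_d_rc_24_5 lc_d_rc_23_8 lc_d_rc_15_1 lc_d_Cert_tree lc_d_rc_15_1 lc_d_rc_22_6 lc_d_rc_16_4 lc_d_Cert_tree lc_d_rc_15_1 lc_d_Cert_tree lc_d_rc_15_1 lc_d_rc_15_1 lc_d_rc_12_5 lc_d_Cert_tree lc_d_rc_15_1 lc_d_rc_24_0 lc_d_rc_23_8 lc_d_rc_16_2 lc_d_Cert_tree lc_d_rc_15_1 lc_d_rc_22_4 lc_d_rc_15_1 lc_d_rc_15_1 lc_d_rc_27_4) (@D3.rec (fun _ => (Cert rels S Gen.d)) lc_d_rc_8_3 lc_d_rc_25_2 lc_d_rc_27_10 lc_d_Cert_tree lc_d_rc_15_1 lc_d_rc_17_2 lc_d_rc_15_1 lc_d_rc_15_1 lc_d_rc_15_1 lc_d_rc_16_4 lc_d_rc_17_2 lc_d_rc_16_4 lc_d_rc_17_2 lc_d_Cert_tree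 lc_d_rc_15_1 lc_d_rc_22_2 lc_d_rc_8_3 lc_d_rc_15_1 lc_d_rc_8_3 lc_d_Cert_tree lc_d_rc_15_1 lc_d_rc_16_2 lc_d_rc_8_3 lc_d_Cert_tree lc_d_Cert_tree lc_d_Cert_tree lc_d_rc_17_2 lc_d_rc_3_1 lc_d_rc_15_1 lc_d_rc_16_4 lc_d_rc_15_1 lc_d_rc_15_1 lc_d_rc_15_1 lc_d_Cert_tree lc_d_rc_15_1 lc_d_rc_15_1 lc_d_Cert_tree lc_d_rc_15_1 lc_d_Cert_tree lc_d_rc_15_1 lc_d_rc_15_1 lc_d_Cert_tree lc_d_Cert_tree lc_d_rc_16_0 lc_d_rc_25_2 lc_d_rc_15_1 lc_d_rc_17_2 lc_d_rc_23_2 lc_d_Cert_tree lc_d_rc_15_1 lc_d_rc_22_2 lc_d_Cert_tree lc_d_rc_15_1 lc_d_rc_15_1 lc_d_rc_23_6 lc_d_rc_22_4 lc_d_rc_17_2 lc_d_rc_15_1 lc_d_rc_22_6 lc_d_rc_15_1 lc_d_rc_8_3 lc_d_rc_3_3) (@D3.rec (fun _ => (Cert rels S Gen.d)) lc_d_rc_8_1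 lc_d_rc_23_4 lc_d_rc_8_1 lc_d_rc_15_1 lc_d_rc_24_0 lc_d_rc_15_1 lc_d_rc_15_1 lc_d_rc_16_4 lc_d_rc_3_1 lc_d_rc_24_0 lc_d_rc_15_1 lc_d_Cert_tree lc_d_rc_15_1 lc_d_rc_24_0 lc_d_rc_15_1 lc_d_rc_22_4 lc_d_rc_16_4 lc_d_rc_27_4 lc_d_rc_15_1 lc_d_Cert_tree lc_d_rc_15_1 lc_d_rc_27_4 lc_d_rc_15_1 lc_d_Cert_tree lc_d_Cert_tree lc_d_rc_27_2 lc_d_rc_15_1 lc_d_rc_8_3 lc_d_rc_27_8 lc_d_rc_24_5 lc_d_Cert_tree lc_d_rc_23_2 lc_d_rc_15_1 lc_d_rc_8_3 lc_d_rc_15_1 lc_d_rc_17_2 lc_d_rc_22_4 lc_d_Cert_tree lc_d_rc_15_1 lc_d_Cert_tree lc_d_rc_8_3 lc_d_rc_15_1 lc_d_rc_3_3 lc_d_rc_24_0 lc_d_rc_17_2 lc_d_rc_24_5 lc_d_rc_15_1 lc_d_rc_27_4 lc_d_rc_17_0 lc_d_rc_24_5 lc_d_rc_15_1 lc_d_rc_16_0 lc_d_rc_15_1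 lc_d_Cert_tree lc_d_rc_17_2 lc_d_rc_22_2 lc_d_rc_22_4 lc_d_rc_15_1 lc_d_rc_16_2 lc_d_rc_15_1 lc_d_rc_17_0 lc_d_rc_23_6) (@D3.rec (fun _ => (Cert rels S Gen.d)) lc_d_rc_15_1 lc_d_rc_15_1 lc_d_rc_16_2 lc_d_Cert_tree lc_d_rc_17_2 lc_d_rc_15_1 lc_d_rc_12_1 lc_d_rc_16_4 lc_d_rc_8_3 lc_d_Cert_tree lc_d_rc_16_4 lc_d_rc_8_3 lc_d_rc_12_3 lc_d_rc_16_2 lc_d_Cert_tree lc_d_Cert_tree lc_d_Cert_tree lc_d_rc_15_1 lc_d_rc_22_2 lc_d_rc_16_4 lc_d_rc_27_4 lc_d_rc_15_1 lc_d_rc_22_4 lc_d_rc_15_1 lc_d_rc_8_3 lc_d_rc_15_1 lc_d_rc_23_4 lc_d_rc_22_6 lc_d_rc_27_8 lc_d_rc_15_1 lc_d_rc_15_1 lc_d_rc_15_1 lc_d_rc_24_5 lc_d_rc_23_2 lc_d_rc_16_0 lc_d_rc_15_1 lc_d_rc_16_4 lc_d_rc_8_3 lc_d_rc_8_3 lc_d_rc_15_1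 lc_d_rc_16_0 lc_d_rc_23_4 lc_d_rc_15_1 lc_d_rc_16_4 lc_d_rc_17_2 lc_d_rc_8_3 lc_d_Cert_tree lc_d_rc_15_1 lc_d_Cert_tree lc_d_Cert_tree lc_d_rc_15_1 lc_d_rc_23_2 lc_d_rc_24_5 lc_d_rc_23_4 lc_d_rc_15_1 lc_d_rc_27_4 lc_d_rc_15_1 lc_d_rc_15_1 lc_d_rc_8_1 lc_d_rc_22_6 lc_d_rc_15_1 lc_d_Cert_tree) (@D3.rec (fun _ => (Cert rels S Gen.d)) lc_d_rc_15_1 lc_d_rc_15_1 lc_d_rc_22_4 lc_d_rc_27_8 lc_d_rc_15_1 lc_d_rc_22_6 lc_d_rc_3_3 lc_d_rc_8_3 lc_d_rc_8_3 lc_d_Cert_tree lc_d_rc_22_4 lc_d_rc_15_1 lc_d_rc_16_0 lc_d_rc_24_5 lc_d_rc_15_1 lc_d_rc_15_1 lc_d_rc_17_2 lc_d_rc_15_1 lc_d_rc_23_2 lc_d_rc_3_1 lc_d_rc_24_5 lc_d_rc_27_4 lc_d_rc_16_0 lc_d_rc_8_3 lc_d_rc_22_6 lc_d_rc_15_1 lc_d_rc_27_10 lc_d_rc_22_8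 lc_d_Cert_tree lc_d_rc_15_1 lc_d_rc_23_4 lc_d_Cert_tree lc_d_rc_15_1 lc_d_rc_27_2 lc_d_rc_23_6 lc_d_rc_8_1 lc_d_rc_25_2 lc_d_rc_15_1 lc_d_rc_15_1 lc_d_rc_16_4 lc_d_rc_15_1 lc_d_rc_15_1 lc_d_rc_27_10 lc_d_rc_15_1 lc_d_rc_8_3 lc_d_rc_16_2 lc_d_rc_15_1 lc_d_rc_16_2 lc_d_rc_22_4 lc_d_rc_15_1 lc_d_rc_27_4 lc_d_rc_3_3 lc_d_rc_15_1 lc_d_Cert_tree lc_d_rc_15_1 lc_d_rc_8_3 lc_d_rc_17_0 lc_d_rc_17_2 lc_d_Cert_tree lc_d_Cert_tree lc_d_Cert_tree lc_d_Cert_tree) (@D3.rec (fun _ => (Cert rels S Gen.d)) lc_d_rc_15_1 lc_d_rc_17_2 lc_d_rc_15_1 lc_d_rc_17_2 lc_d_rc_27_2 lc_d_rc_15_1 lc_d_rc_27_4 lc_d_rc_8_1 lc_d_rc_15_1 lc_d_rc_17_2 lc_d_rc_23_4 lc_d_rc_3_3 lc_d_rc_27_2 lc_d_rc_8_3 lc_d_rc_16_4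 lc_d_rc_24_0 lc_d_rc_27_4 lc_d_Cert_tree lc_d_rc_23_8 lc_d_rc_15_1 lc_d_rc_16_4 lc_d_rc_15_1 lc_d_rc_27_8 lc_d_rc_15_1 lc_d_rc_24_0 lc_d_rc_15_1 lc_d_Cert_tree lc_d_rc_8_1 lc_d_rc_16_0 lc_d_rc_15_1 lc_d_rc_15_1 lc_d_rc_27_8 lc_d_rc_17_2 lc_d_rc_15_1 lc_d_rc_27_4 lc_d_Cert_tree lc_d_rc_15_1 lc_d_rc_15_1 lc_d_rc_8_3 lc_d_Cert_tree lc_d_rc_24_0 lc_d_rc_15_1 lc_d_rc_15_1 lc_d_rc_15_1 lc_d_rc_23_2 lc_d_Cert_tree lc_d_rc_8_3 lc_d_rc_23_8 lc_d_Cert_tree lc_d_Cert_tree lc_d_rc_8_3 lc_d_Cert_tree lc_d_rc_15_1 lc_d_rc_8_3 lc_d_rc_27_4 lc_d_rc_8_3 lc_d_rc_22_4 lc_d_rc_16_4 lc_d_rc_24_0 lc_d_Cert_tree lc_d_rc_15_1 lc_d_rc_22_6) (@D3.rec (fun _ => (Cert rels S Gen.d)) lc_d_rc_15_1 lc_d_rc_23_2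 lc_d_rc_23_8 lc_d_rc_23_2 lc_d_rc_15_1 lc_d_rc_23_2 lc_d_rc_15_1 lc_d_Cert_tree lc_d_rc_15_1 lc_d_rc_17_0 lc_d_rc_27_4 lc_d_rc_15_1 lc_d_rc_15_1 lc_d_rc_22_4 lc_d_rc_24_5 lc_d_rc_15_1 lc_d_rc_15_1 lc_d_Cert_tree lc_d_rc_15_1 lc_d_rc_3_3 lc_d_rc_15_1 lc_d_rc_16_4 lc_d_Cert_tree lc_d_Cert_tree lc_d_Cert_tree lc_d_rc_15_1 lc_d_rc_17_2 lc_d_rc_15_1 lc_d_rc_17_2 lc_d_rc_24_5 lc_d_rc_8_3 lc_d_rc_24_0 lc_d_rc_15_1 lc_d_Cert_tree lc_d_rc_15_1 lc_d_rc_22_4 lc_d_rc_16_2 lc_d_rc_27_10 lc_d_rc_8_3 lc_d_rc_15_1 lc_d_rc_15_1 lc_d_rc_15_1 lc_d_rc_15_1 lc_d_rc_12_15 lc_d_rc_15_1 lc_d_rc_15_1 lc_d_rc_27_8 lc_d_rc_23_2 lc_d_rc_15_1 lc_d_rc_27_4 lc_d_rc_23_4 lc_d_rc_23_4 lc_d_rc_15_1 lc_d_Cert_tree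 lc_d_rc_15_1 lc_d_rc_27_2 lc_d_rc_23_8 lc_d_rc_24_0 lc_d_Cert_tree lc_d_rc_8_3 lc_d_Cert_tree lc_d_Cert_tree) (@D3.rec (fun _ => (Cert rels S Gen.d)) lc_d_rc_8_3 lc_d_rc_22_6 lc_d_rc_27_4 lc_d_rc_17_2 lc_d_Cert_tree lc_d_Cert_tree lc_d_rc_15_1 lc_d_Cert_tree lc_d_rc_16_2 lc_d_rc_16_4 lc_d_rc_8_3 lc_d_rc_15_1 lc_d_rc_8_1 lc_d_rc_15_1 lc_d_Cert_tree lc_d_rc_22_2 lc_d_rc_15_1 lc_d_rc_15_1 lc_d_Cert_tree lc_d_rc_15_1 lc_d_rc_27_8 lc_d_rc_8_3 lc_d_rc_24_5 lc_d_Cert_tree lc_d_Cert_tree lc_d_rc_15_1 lc_d_rc_17_2 lc_d_rc_15_1 lc_d_rc_27_2 lc_d_Cert_tree lc_d_rc_15_1 lc_d_Cert_tree lc_d_rc_8_1 lc_d_rc_16_4 lc_d_rc_15_1 lc_d_rc_15_1 lc_d_Cert_tree lc_d_rc_27_4 lc_d_rc_15_1 lc_d_rc_27_4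 lc_d_rc_22_4 lc_d_rc_3_1 lc_d_rc_15_1 lc_d_rc_15_1 lc_d_Cert_tree lc_d_rc_22_2 lc_d_rc_15_1 lc_d_rc_15_1 lc_d_rc_15_1 lc_d_Cert_tree lc_d_rc_24_0 lc_d_rc_22_2 lc_d_rc_24_0 lc_d_rc_17_2 lc_d_rc_25_14 lc_d_rc_15_1 lc_d_rc_17_2 lc_d_rc_27_8 lc_d_rc_15_1 lc_d_rc_23_4 lc_d_rc_23_2 lc_d_rc_27_2) (@D3.rec (fun _ => (Cert rels S Gen.d)) lc_d_rc_17_2 lc_d_rc_15_1 lc_d_rc_17_2 lc_d_rc_23_6 lc_d_rc_16_2 lc_d_Cert_tree lc_d_Cert_tree lc_d_rc_17_0 lc_d_rc_15_1 lc_d_Cert_tree lc_d_rc_12_3 lc_d_rc_16_2 lc_d_rc_15_1 lc_d_rc_23_6 lc_d_Cert_tree lc_d_rc_17_2 lc_d_rc_15_1 lc_d_rc_16_4 lc_d_rc_23_6 lc_d_rc_27_4 lc_d_rc_22_2 lc_d_rc_23_2 lc_d_rc_23_2 lc_d_rc_25_10 lc_d_rc_15_1 lc_d_rc_8_3 lc_d_rc_15_1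 lc_d_rc_27_4 lc_d_rc_15_1 lc_d_rc_23_2 lc_d_rc_22_4 lc_d_rc_8_3 lc_d_rc_3_1 lc_d_rc_16_2 lc_d_rc_23_8 lc_d_Cert_tree lc_d_rc_3_1 lc_d_rc_22_6 lc_d_Cert_tree lc_d_rc_15_1 lc_d_rc_3_3 lc_d_Cert_tree lc_d_rc_15_1 lc_d_Cert_tree lc_d_rc_15_1 lc_d_rc_15_1 lc_d_rc_22_2 lc_d_Cert_tree lc_d_Cert_tree lc_d_rc_15_1 lc_d_rc_8_3 lc_d_rc_15_1 lc_d_Cert_tree lc_d_rc_24_5 lc_d_rc_15_1 lc_d_rc_15_1 lc_d_rc_15_1 lc_d_rc_24_0 lc_d_rc_15_1 lc_d_rc_27_2 lc_d_rc_17_2 lc_d_rc_23_4) (@D3.rec (fun _ => (Cert rels S Gen.d)) lc_d_rc_24_0 lc_d_rc_15_1 lc_d_rc_22_4 lc_d_Cert_tree lc_d_Cert_tree lc_d_rc_23_4 lc_d_rc_15_1 lc_d_Cert_tree lc_d_Cert_tree lc_d_rc_24_5 lc_d_rc_15_1 lc_d_rc_16_4 lc_d_rc_15_1 lc_d_rc_15_1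 lc_d_rc_15_1 lc_d_rc_8_3 lc_d_rc_12_15 lc_d_Cert_tree lc_d_rc_8_1 lc_d_rc_8_3 lc_d_rc_15_1 lc_d_Cert_tree lc_d_rc_22_2 lc_d_rc_27_2 lc_d_rc_23_2 lc_d_rc_16_4 lc_d_rc_23_4 lc_d_rc_15_1 lc_d_rc_15_1 lc_d_rc_27_4 lc_d_rc_15_1 lc_d_rc_27_10 lc_d_rc_15_1 lc_d_rc_12_13 lc_d_rc_17_2 lc_d_rc_22_4 lc_d_Cert_tree lc_d_rc_23_6 lc_d_rc_15_1 lc_d_Cert_tree lc_d_Cert_tree lc_d_rc_15_1 lc_d_rc_17_2 lc_d_rc_23_4 lc_d_rc_16_0 lc_d_rc_27_4 lc_d_rc_17_2 lc_d_rc_3_3 lc_d_rc_15_1 lc_d_rc_27_10 lc_d_rc_15_1 lc_d_Cert_tree lc_d_rc_23_8 lc_d_rc_27_4 lc_d_rc_24_0 lc_d_rc_15_1 lc_d_Cert_tree lc_d_rc_15_1 lc_d_rc_8_3 lc_d_rc_23_6 lc_d_Cert_tree lc_d_Cert_tree) (@D3.rec (fun _ => (Cert rels S Gen.d)) lc_d_rc_15_1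 lc_d_rc_24_0 lc_d_Cert_tree lc_d_rc_15_1 lc_d_rc_15_1 lc_d_Cert_tree lc_d_rc_23_4 lc_d_rc_15_1 lc_d_rc_8_3 lc_d_rc_15_1 lc_d_rc_16_4 lc_d_rc_23_8 lc_d_rc_23_2 lc_d_rc_22_8 lc_d_rc_17_2 lc_d_rc_8_1 lc_d_rc_15_1 lc_d_rc_16_4 lc_d_rc_15_1 lc_d_rc_17_2 lc_d_Cert_tree lc_d_rc_15_1 lc_d_rc_27_4 lc_d_Cert_tree lc_d_rc_15_1 lc_d_rc_27_2 lc_d_rc_3_3 lc_d_rc_15_1 lc_d_Cert_tree lc_d_rc_15_1 lc_d_rc_23_6 lc_d_rc_8_1 lc_d_rc_15_1 lc_d_rc_15_1 lc_d_rc_27_4 lc_d_rc_27_2 lc_d_rc_15_1 lc_d_rc_15_1 lc_d_rc_8_1 lc_d_rc_3_1 lc_d_rc_17_2 lc_d_rc_15_1 lc_d_rc_16_4 lc_d_rc_23_4 lc_d_rc_16_4 lc_d_rc_15_1 lc_d_rc_15_1 lc_d_rc_8_3 lc_d_rc_16_0 lc_d_rc_25_6 lc_d_Cert_tree lc_d_rc_3_3 lc_d_rc_16_4 lc_d_rc_24_0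 lc_d_rc_23_8 lc_d_rc_23_4 lc_d_rc_8_1 lc_d_rc_15_1 lc_d_rc_15_1 lc_d_Cert_tree lc_d_rc_15_1 lc_d_rc_22_8) (@D3.rec (fun _ => (Cert rels S Gen.d)) lc_d_rc_17_2 lc_d_rc_15_1 lc_d_rc_8_3 lc_d_rc_23_2 lc_d_rc_15_1 lc_d_Cert_tree lc_d_rc_15_1 lc_d_rc_27_4 lc_d_Cert_tree lc_d_rc_17_2 lc_d_rc_16_4 lc_d_rc_15_1 lc_d_rc_8_3 lc_d_Cert_tree lc_d_rc_15_1 lc_d_rc_15_1 lc_d_rc_24_0 lc_d_rc_15_1 lc_d_rc_12_13 lc_d_rc_15_1 lc_d_rc_24_5 lc_d_rc_15_1 lc_d_rc_24_5 lc_d_rc_15_1 lc_d_rc_16_4 lc_d_Cert_tree lc_d_rc_8_3 lc_d_Cert_tree lc_d_rc_16_4 lc_d_rc_25_6 lc_d_rc_15_1 lc_d_rc_8_1 lc_d_rc_15_1 lc_d_rc_16_4 lc_d_rc_8_3 lc_d_rc_15_1 lc_d_rc_15_1 lc_d_rc_3_3 lc_d_rc_3_1 lc_d_rc_15_1 lc_d_rc_15_1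 lc_d_rc_15_1 lc_d_rc_22_2 lc_d_rc_15_1 lc_d_rc_8_3 lc_d_rc_15_1 lc_d_rc_15_1 lc_d_rc_15_1 lc_d_rc_22_8 lc_d_rc_15_1 lc_d_rc_15_1 lc_d_rc_17_2 lc_d_rc_8_3 lc_d_rc_24_0 lc_d_Cert_tree lc_d_rc_27_8 lc_d_rc_23_4 lc_d_rc_15_1 lc_d_rc_16_4 lc_d_rc_27_8 lc_d_rc_15_1 lc_d_rc_24_0) (@D3.rec (fun _ => (Cert rels S Gen.d)) lc_d_rc_15_1 lc_d_rc_22_8 lc_d_rc_15_1 lc_d_rc_17_2 lc_d_rc_15_1 lc_d_rc_15_1 lc_d_rc_8_1 lc_d_rc_15_1 lc_d_rc_15_1 lc_d_rc_12_15 lc_d_Cert_tree lc_d_rc_15_1 lc_d_rc_17_2 lc_d_rc_24_0 lc_d_rc_3_1 lc_d_rc_22_8 lc_d_rc_15_1 lc_d_rc_15_1 lc_d_rc_15_1 lc_d_rc_15_1 lc_d_rc_15_1 lc_d_rc_22_8 lc_d_rc_15_1 lc_d_Cert_tree lc_d_Cert_tree lc_d_rc_15_1 lc_d_rc_8_3 lc_d_rc_27_10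 lc_d_rc_27_10 lc_d_rc_15_1 lc_d_rc_8_3 lc_d_Cert_tree lc_d_rc_15_1 lc_d_Cert_tree lc_d_rc_15_1 lc_d_rc_22_2 lc_d_rc_16_0 lc_d_rc_17_2 lc_d_Cert_tree lc_d_rc_15_1 lc_d_rc_15_1 lc_d_Cert_tree lc_d_rc_15_1 lc_d_rc_16_4 lc_d_rc_15_1 lc_d_rc_15_1 lc_d_rc_15_1 lc_d_Cert_tree lc_d_rc_24_5 lc_d_Cert_tree lc_d_rc_27_4 lc_d_rc_3_3 lc_d_rc_16_0 lc_d_Cert_tree lc_d_rc_22_2 lc_d_rc_3_3 lc_d_rc_15_1 lc_d_rc_3_3 lc_d_rc_8_1 lc_d_rc_22_4 lc_d_rc_15_1 lc_d_rc_23_4) (@D3.rec (fun _ => (Cert rels S Gen.d)) lc_d_Cert_tree lc_d_rc_22_4 lc_d_rc_16_4 lc_d_rc_8_3 lc_d_rc_16_4 lc_d_rc_8_3 lc_d_rc_8_3 lc_d_rc_3_3 lc_d_rc_27_2 lc_d_rc_15_1 lc_d_rc_23_6 lc_d_rc_15_1 lc_d_rc_17_2 lc_d_rc_15_1 lc_d_rc_22_6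 lc_d_Cert_tree lc_d_rc_15_1 lc_d_rc_16_4 lc_d_rc_15_1 lc_d_rc_15_1 lc_d_rc_15_1 lc_d_rc_8_3 lc_d_rc_15_1 lc_d_rc_15_1 lc_d_Cert_tree lc_d_rc_15_1 lc_d_Cert_tree lc_d_rc_8_1 lc_d_rc_15_1 lc_d_rc_25_6 lc_d_rc_23_4 lc_d_rc_12_1 lc_d_Cert_tree lc_d_rc_25_14 lc_d_Cert_tree lc_d_rc_15_1 lc_d_rc_8_1 lc_d_Cert_tree lc_d_Cert_tree lc_d_rc_15_1 lc_d_rc_24_5 lc_d_rc_17_0 lc_d_rc_22_4 lc_d_rc_15_1 lc_d_rc_16_4 lc_d_rc_15_1 lc_d_rc_16_4 lc_d_rc_23_4 lc_d_rc_15_1 lc_d_rc_23_8 lc_d_rc_15_1 lc_d_rc_27_2 lc_d_rc_15_1 lc_d_rc_15_1 lc_d_Cert_tree lc_d_rc_15_1 lc_d_rc_15_1 lc_d_rc_16_4 lc_d_rc_24_5 lc_d_rc_15_1 lc_d_Cert_tree lc_d_rc_15_1) (@D3.rec (fun _ => (Cert rels S Gen.d)) lc_d_rc_15_1 lc_d_rc_15_1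 lc_d_rc_24_5 lc_d_rc_15_1 lc_d_rc_27_8 lc_d_rc_15_1 lc_d_Cert_tree lc_d_Cert_tree lc_d_rc_15_1 lc_d_Cert_tree lc_d_rc_17_2 lc_d_rc_15_1 lc_d_rc_23_4 lc_d_rc_27_2 lc_d_rc_17_2 lc_d_rc_15_1 lc_d_rc_27_10 lc_d_rc_15_1 lc_d_rc_22_2 lc_d_rc_15_1 lc_d_rc_27_4 lc_d_rc_15_1 lc_d_rc_15_1 lc_d_rc_15_1 lc_d_rc_27_2 lc_d_rc_8_1 lc_d_rc_15_1 lc_d_rc_15_1 lc_d_Cert_tree lc_d_Cert_tree lc_d_rc_23_8 lc_d_rc_24_0 lc_d_rc_15_1 lc_d_rc_8_3 lc_d_rc_24_0 lc_d_rc_27_10 lc_d_rc_17_2 lc_d_rc_8_3 lc_d_rc_24_5 lc_d_rc_24_5 lc_d_rc_3_3 lc_d_rc_27_10 lc_d_rc_23_8 lc_d_rc_15_1 lc_d_rc_15_1 lc_d_rc_16_4 lc_d_rc_23_2 lc_d_rc_27_10 lc_d_rc_15_1 lc_d_rc_24_5 lc_d_rc_27_4 lc_d_rc_24_5 lc_d_rc_27_4 lc_d_rc_15_1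 lc_d_rc_27_2 lc_d_rc_27_4 lc_d_rc_3_3 lc_d_rc_16_4 lc_d_rc_27_8 lc_d_rc_15_1 lc_d_rc_27_8 lc_d_Cert_tree) (@D3.rec (fun _ => (Cert rels S Gen.d)) lc_d_rc_15_1 lc_d_rc_3_3 lc_d_Cert_tree lc_d_rc_15_1 lc_d_rc_27_4 lc_d_rc_15_1 lc_d_rc_22_2 lc_d_rc_15_1 lc_d_rc_3_3 lc_d_rc_22_2 lc_d_rc_25_2 lc_d_rc_27_10 lc_d_rc_15_1 lc_d_rc_27_10 lc_d_rc_8_3 lc_d_rc_17_0 lc_d_rc_15_1 lc_d_rc_27_4 lc_d_rc_8_3 lc_d_rc_23_4 lc_d_rc_15_1 lc_d_rc_22_4 lc_d_rc_8_1 lc_d_rc_15_1 lc_d_rc_15_1 lc_d_rc_15_1 lc_d_Cert_tree lc_d_Cert_tree lc_d_rc_15_1 lc_d_rc_27_4 lc_d_Cert_tree lc_d_Cert_tree lc_d_rc_15_1 lc_d_Cert_tree lc_d_rc_24_0 lc_d_rc_23_8 lc_d_rc_15_1 lc_d_rc_23_4 lc_d_rc_17_2 lc_d_rc_15_1 lc_d_rc_16_4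 lc_d_rc_15_1 lc_d_rc_15_1 lc_d_rc_27_2 lc_d_rc_17_2 lc_d_rc_16_0 lc_d_rc_3_3 lc_d_rc_8_1 lc_d_rc_24_5 lc_d_rc_17_0 lc_d_rc_23_4 lc_d_rc_15_1 lc_d_rc_27_4 lc_d_Cert_tree lc_d_Cert_tree lc_d_rc_15_1 lc_d_rc_17_2 lc_d_rc_15_1 lc_d_rc_27_4 lc_d_rc_15_1 lc_d_rc_15_1 lc_d_rc_27_4) (@D3.rec (fun _ => (Cert rels S Gen.d)) lc_d_rc_17_2 lc_d_rc_15_1 lc_d_rc_23_6 lc_d_rc_15_1 lc_d_rc_17_2 lc_d_Cert_tree lc_d_rc_15_1 lc_d_rc_27_4 lc_d_rc_23_6 lc_d_Cert_tree lc_d_rc_15_1 lc_d_rc_22_2 lc_d_rc_25_6 lc_d_rc_22_2 lc_d_rc_15_1 lc_d_Cert_tree lc_d_Cert_tree lc_d_Cert_tree lc_d_rc_15_1 lc_d_rc_17_2 lc_d_rc_16_2 lc_d_rc_23_4 lc_d_rc_17_0 lc_d_rc_24_0 lc_d_rc_24_0 lc_d_rc_15_1 lc_d_Cert_tree lc_d_rc_3_3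 lc_d_rc_24_0 lc_d_rc_24_5 lc_d_rc_27_2 lc_d_Cert_tree lc_d_Cert_tree lc_d_rc_15_1 lc_d_rc_17_2 lc_d_rc_27_10 lc_d_rc_16_0 lc_d_rc_15_1 lc_d_rc_17_2 lc_d_rc_24_0 lc_d_rc_15_1 lc_d_rc_17_2 lc_d_rc_15_1 lc_d_rc_22_6 lc_d_rc_17_2 lc_d_Cert_tree lc_d_rc_15_1 lc_d_rc_15_1 lc_d_rc_24_5 lc_d_rc_8_3 lc_d_rc_22_8 lc_d_rc_17_0 lc_d_rc_15_1 lc_d_Cert_tree lc_d_rc_15_1 lc_d_rc_15_1 lc_d_Cert_tree lc_d_Cert_tree lc_d_Cert_tree lc_d_Cert_tree lc_d_rc_15_1 lc_d_rc_17_2) (@D3.rec (fun _ => (Cert rels S Gen.d)) lc_d_rc_16_4 lc_d_rc_16_0 lc_d_rc_15_1 lc_d_rc_17_2 lc_d_rc_3_3 lc_d_Cert_tree lc_d_rc_17_2 lc_d_rc_16_0 lc_d_rc_24_5 lc_d_rc_17_0 lc_d_rc_16_0 lc_d_rc_3_3 lc_d_rc_15_1 lc_d_Cert_tree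 lc_d_rc_23_6 lc_d_rc_8_1 lc_d_rc_23_8 lc_d_Cert_tree lc_d_rc_15_1 lc_d_rc_17_2 lc_d_Cert_tree lc_d_rc_16_0 lc_d_rc_15_1 lc_d_rc_17_2 lc_d_rc_23_6 lc_d_rc_22_6 lc_d_rc_17_2 lc_d_Cert_tree lc_d_rc_15_1 lc_d_rc_12_15 lc_d_rc_24_5 lc_d_Cert_tree lc_d_Cert_tree lc_d_rc_15_1 lc_d_rc_25_10 lc_d_Cert_tree lc_d_Cert_tree lc_d_rc_15_1 lc_d_Cert_tree lc_d_Cert_tree lc_d_Cert_tree lc_d_Cert_tree lc_d_rc_15_1 lc_d_rc_17_2 lc_d_rc_22_4 lc_d_rc_15_1 lc_d_rc_8_3 lc_d_rc_24_5 lc_d_rc_27_4 lc_d_Cert_tree lc_d_rc_3_3 lc_d_rc_15_1 lc_d_Cert_tree lc_d_rc_8_3 lc_d_rc_16_4 lc_d_rc_8_3 lc_d_Cert_tree lc_d_rc_8_3 lc_d_rc_15_1 lc_d_rc_15_1 lc_d_rc_15_1 lc_d_rc_16_4) (@D3.rec (fun _ => (Cert rels S Gen.d))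 lc_d_rc_27_10 lc_d_rc_15_1 lc_d_rc_8_3 lc_d_rc_15_1 lc_d_rc_23_2 lc_d_rc_22_2 lc_d_rc_25_14 lc_d_rc_16_4 lc_d_Cert_tree lc_d_rc_15_1 lc_d_rc_25_10 lc_d_rc_15_1 lc_d_rc_24_0 lc_d_rc_24_0 lc_d_Cert_tree lc_d_rc_15_1 lc_d_rc_3_3 lc_d_rc_15_1 lc_d_rc_27_2 lc_d_rc_23_8 lc_d_rc_15_1 lc_d_rc_8_3 lc_d_rc_25_2 lc_d_rc_15_1 lc_d_rc_8_1 lc_d_rc_15_1 lc_d_rc_27_4 lc_d_rc_8_3 lc_d_Cert_tree lc_d_rc_16_4 lc_d_rc_15_1 lc_d_rc_22_2 lc_d_rc_25_6 lc_d_rc_15_1 lc_d_rc_3_1 lc_d_rc_15_1 lc_d_rc_16_4 lc_d_rc_24_0 lc_d_rc_15_1 lc_d_Cert_tree lc_d_rc_15_1 lc_d_rc_22_2 lc_d_rc_27_2 lc_d_rc_24_0 lc_d_rc_15_1 lc_d_Cert_tree lc_d_rc_8_3 lc_d_Cert_tree lc_d_Cert_tree lc_d_Cert_tree lc_d_rc_15_1 lc_d_rc_17_2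 lc_d_Cert_tree lc_d_Cert_tree lc_d_rc_15_1 lc_d_rc_17_2 lc_d_rc_17_2 lc_d_rc_15_1 lc_d_rc_27_4 lc_d_rc_15_1 lc_d_rc_23_6 lc_d_rc_15_1) (@D3.rec (fun _ => (Cert rels S Gen.d)) lc_d_rc_22_4 lc_d_rc_17_2 lc_d_Cert_tree lc_d_rc_15_1 lc_d_Cert_tree lc_d_rc_15_1 lc_d_rc_27_2 lc_d_rc_17_2 lc_d_rc_15_1 lc_d_rc_27_4 lc_d_Cert_tree lc_d_rc_15_1 lc_d_rc_15_1 lc_d_rc_15_1 lc_d_rc_15_1 lc_d_rc_15_1 lc_d_rc_3_3 lc_d_rc_8_1 lc_d_Cert_tree lc_d_rc_8_1 lc_d_rc_17_0 lc_d_rc_15_1 lc_d_rc_15_1 lc_d_rc_17_2 lc_d_Cert_tree lc_d_rc_8_1 lc_d_rc_15_1 lc_d_Cert_tree lc_d_rc_15_1 lc_d_rc_15_1 lc_d_rc_15_1 lc_d_rc_17_0 lc_d_rc_22_2 lc_d_rc_23_8 lc_d_rc_15_1 lc_d_rc_17_2 lc_d_rc_15_1 lc_d_rc_27_2 lc_d_Cert_tree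 lc_d_rc_8_3 lc_d_rc_23_2 lc_d_rc_15_1 lc_d_rc_27_4 lc_d_rc_15_1 lc_d_rc_8_3 lc_d_rc_24_0 lc_d_rc_24_0 lc_d_rc_15_1 lc_d_rc_23_4 lc_d_rc_25_2 lc_d_rc_15_1 lc_d_Cert_tree lc_d_rc_15_1 lc_d_Cert_tree lc_d_rc_16_4 lc_d_rc_27_10 lc_d_rc_23_6 lc_d_rc_3_3 lc_d_rc_15_1 lc_d_rc_23_4 lc_d_rc_8_1 lc_d_rc_15_1) (@D3.rec (fun _ => (Cert rels S Gen.d)) lc_d_rc_15_1 lc_d_Cert_tree lc_d_Cert_tree lc_d_Cert_tree lc_d_rc_15_1 lc_d_rc_17_2 lc_d_rc_24_0 lc_d_rc_23_2 lc_d_rc_15_1 lc_d_Cert_tree lc_d_rc_15_1 lc_d_rc_17_2 lc_d_rc_8_3 lc_d_Cert_tree lc_d_Cert_tree lc_d_Cert_tree lc_d_rc_15_1 lc_d_rc_8_3 lc_d_rc_8_3 lc_d_rc_17_2 lc_d_rc_24_5 lc_d_rc_15_1 lc_d_rc_24_5 lc_d_rc_17_0 lc_d_rc_15_1 lc_d_Cert_tree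 lc_d_rc_15_1 lc_d_Cert_tree lc_d_rc_15_1 lc_d_rc_8_3 lc_d_rc_23_2 lc_d_rc_15_1 lc_d_Cert_tree lc_d_rc_3_3 lc_d_rc_15_1 lc_d_rc_23_8 lc_d_Cert_tree lc_d_Cert_tree lc_d_Cert_tree lc_d_rc_15_1 lc_d_rc_17_2 lc_d_rc_23_2 lc_d_rc_8_1 lc_d_rc_15_1 lc_d_rc_23_6 lc_d_rc_16_4 lc_d_rc_15_1 lc_d_rc_27_2 lc_d_rc_15_1 lc_d_rc_15_1 lc_d_rc_17_2 lc_d_rc_24_0 lc_d_rc_22_2 lc_d_rc_15_1 lc_d_Cert_tree lc_d_Cert_tree lc_d_rc_15_1 lc_d_rc_8_3 lc_d_rc_16_0 lc_d_rc_15_1 lc_d_rc_15_1 lc_d_rc_17_2) (@D3.rec (fun _ => (Cert rels S Gen.d)) lc_d_rc_15_1 lc_d_Cert_tree lc_d_rc_23_2 lc_d_Cert_tree lc_d_Cert_tree lc_d_Cert_tree lc_d_rc_15_1 lc_d_rc_17_2 lc_d_Cert_tree lc_d_rc_15_1 lc_d_rc_3_3 lc_d_rc_15_1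 lc_d_Cert_tree lc_d_rc_17_2 lc_d_rc_22_2 lc_d_rc_15_1 lc_d_rc_24_0 lc_d_rc_15_1 lc_d_Cert_tree lc_d_rc_15_1 lc_d_rc_16_4 lc_d_rc_15_1 lc_d_rc_15_1 lc_d_rc_17_2 lc_d_rc_15_1 lc_d_Cert_tree lc_d_rc_8_1 lc_d_rc_15_1 lc_d_rc_27_8 lc_d_rc_15_1 lc_d_rc_15_1 lc_d_rc_22_8 lc_d_rc_16_4 lc_d_rc_24_0 lc_d_rc_15_1 lc_d_rc_16_4 lc_d_rc_23_4 lc_d_rc_15_1 lc_d_rc_8_1 lc_d_Cert_tree lc_d_rc_15_1 lc_d_rc_23_4 lc_d_rc_24_0 lc_d_rc_23_2 lc_d_rc_16_2 lc_d_Cert_tree lc_d_rc_15_1 lc_d_Cert_tree lc_d_rc_15_1 lc_d_rc_27_2 lc_d_rc_16_4 lc_d_Cert_tree lc_d_rc_8_3 lc_d_rc_15_1 lc_d_rc_15_1 lc_d_rc_22_4 lc_d_rc_8_1 lc_d_rc_15_1 lc_d_rc_27_8 lc_d_rc_15_1 lc_d_rc_15_1 lc_d_rc_12_9) (@D3.rec (fun _ => (Cert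 rels S Gen.d)) lc_d_Cert_tree lc_d_rc_15_1 lc_d_rc_27_8 lc_d_rc_27_4 lc_d_rc_8_3 lc_d_rc_23_8 lc_d_rc_17_2 lc_d_Cert_tree lc_d_rc_15_1 lc_d_rc_15_1 lc_d_rc_8_1 lc_d_Cert_tree lc_d_rc_15_1 lc_d_rc_22_6 lc_d_Cert_tree lc_d_rc_8_3 lc_d_rc_15_1 lc_d_rc_27_2 lc_d_rc_15_1 lc_d_Cert_tree lc_d_rc_3_3 lc_d_rc_15_1 lc_d_Cert_tree lc_d_Cert_tree lc_d_Cert_tree lc_d_rc_15_1 lc_d_Cert_tree lc_d_Cert_tree lc_d_rc_15_1 lc_d_rc_27_4 lc_d_rc_15_1 lc_d_rc_15_1 lc_d_rc_17_2 lc_d_rc_17_2 lc_d_Cert_tree lc_d_rc_15_1 lc_d_rc_8_1 lc_d_Cert_tree lc_d_rc_15_1 lc_d_rc_8_1 lc_d_rc_24_0 lc_d_rc_15_1 lc_d_rc_3_1 lc_d_rc_23_8 lc_d_rc_15_1 lc_d_rc_15_1 lc_d_rc_3_1 lc_d_rc_25_14 lc_d_rc_3_3 lc_d_rc_8_3 lc_d_rc_15_1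 lc_d_Cert_tree lc_d_rc_23_4 lc_d_rc_15_1 lc_d_rc_15_1 lc_d_Cert_tree lc_d_rc_22_6 lc_d_rc_15_1 lc_d_rc_23_2 lc_d_Cert_tree lc_d_Cert_tree lc_d_Cert_tree) (@D3.rec (fun _ => (Cert rels S Gen.d)) lc_d_rc_15_1 lc_d_rc_16_4 lc_d_rc_23_6 lc_d_rc_22_6 lc_d_rc_17_2 lc_d_Cert_tree lc_d_rc_15_1 lc_d_rc_15_1 lc_d_rc_15_1 lc_d_rc_15_1 lc_d_rc_22_4 lc_d_rc_22_8 lc_d_rc_24_5 lc_d_rc_25_2 lc_d_rc_8_1 lc_d_rc_24_5 lc_d_rc_3_3 lc_d_rc_15_1 lc_d_rc_16_4 lc_d_rc_15_1 lc_d_rc_23_4 lc_d_rc_24_5 lc_d_Cert_tree lc_d_Cert_tree lc_d_rc_8_3 lc_d_rc_8_3 lc_d_rc_16_4 lc_d_rc_24_5 lc_d_rc_17_2 lc_d_Cert_tree lc_d_Cert_tree lc_d_rc_15_1 lc_d_rc_3_3 lc_d_rc_17_2 lc_d_rc_23_6 lc_d_Cert_tree lc_d_rc_8_3 lc_d_Cert_tree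 lc_d_rc_15_1 lc_d_rc_27_4 lc_d_rc_8_1 lc_d_rc_8_3 lc_d_rc_23_2 lc_d_rc_24_5 lc_d_Cert_tree lc_d_rc_27_4 lc_d_rc_15_1 lc_d_rc_22_2 lc_d_rc_15_1 lc_d_Cert_tree lc_d_rc_15_1 lc_d_rc_8_3 lc_d_rc_3_3 lc_d_rc_16_0 lc_d_rc_8_3 lc_d_rc_24_5 lc_d_rc_8_3 lc_d_rc_23_4 lc_d_Cert_tree lc_d_rc_15_1 lc_d_rc_22_2 lc_d_rc_16_4) (@D3.rec (fun _ => (Cert rels S Gen.d)) lc_d_rc_15_1 lc_d_rc_8_3 lc_d_Cert_tree lc_d_Cert_tree lc_d_rc_17_2 lc_d_rc_15_1 lc_d_rc_27_8 lc_d_rc_15_1 lc_d_rc_27_8 lc_d_rc_12_3 lc_d_rc_27_2 lc_d_rc_15_1 lc_d_rc_8_1 lc_d_Cert_tree lc_d_rc_15_1 lc_d_rc_27_2 lc_d_Cert_tree lc_d_Cert_tree lc_d_rc_15_1 lc_d_rc_17_2 lc_d_rc_22_4 lc_d_rc_27_2 lc_d_rc_24_0 lc_d_rc_15_1 lc_d_rc_17_2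 lc_d_rc_8_3 lc_d_rc_22_4 lc_d_rc_3_3 lc_d_rc_8_3 lc_d_Cert_tree lc_d_rc_8_3 lc_d_rc_27_4 lc_d_rc_24_0 lc_d_rc_15_1 lc_d_rc_27_2 lc_d_rc_27_10 lc_d_rc_24_0 lc_d_rc_27_4 lc_d_rc_8_1 lc_d_rc_15_1 lc_d_rc_27_4 lc_d_rc_8_1 lc_d_rc_15_1 lc_d_Cert_tree lc_d_Cert_tree lc_d_rc_17_2 lc_d_rc_3_3 lc_d_rc_17_0 lc_d_rc_3_1 lc_d_rc_17_2 lc_d_rc_15_1 lc_d_rc_12_15 lc_d_rc_15_1 lc_d_rc_8_3 lc_d_Cert_tree lc_d_rc_17_0 lc_d_rc_15_1 lc_d_Cert_tree lc_d_rc_16_4 lc_d_rc_3_3 lc_d_rc_15_1 lc_d_rc_25_6) (@D3.rec (fun _ => (Cert rels S Gen.d)) lc_d_rc_16_4 lc_d_rc_17_2 lc_d_Cert_tree lc_d_rc_8_3 lc_d_rc_15_1 lc_d_rc_15_1 lc_d_rc_22_4 lc_d_rc_22_6 lc_d_rc_16_0 lc_d_Cert_tree lc_d_rc_15_1 lc_d_rc_24_0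 lc_d_rc_12_3 lc_d_rc_15_1 lc_d_Cert_tree lc_d_rc_23_4 lc_d_rc_3_3 lc_d_rc_8_1 lc_d_rc_15_1 lc_d_rc_22_2 lc_d_rc_15_1 lc_d_Cert_tree lc_d_rc_15_1 lc_d_rc_25_6 lc_d_rc_8_3 lc_d_rc_15_1 lc_d_rc_16_4 lc_d_rc_15_1 lc_d_rc_24_0 lc_d_rc_15_1 lc_d_rc_27_2 lc_d_rc_15_1 lc_d_Cert_tree lc_d_rc_16_4 lc_d_rc_15_1 lc_d_rc_22_6 lc_d_rc_16_4 lc_d_rc_16_0 lc_d_rc_15_1 lc_d_rc_15_1 lc_d_Cert_tree lc_d_rc_15_1 lc_d_rc_27_4 lc_d_rc_17_2 lc_d_rc_27_4 lc_d_rc_16_4 lc_d_rc_15_1 lc_d_rc_27_2 lc_d_rc_22_6 lc_d_rc_16_4 lc_d_rc_3_1 lc_d_rc_23_8 lc_d_rc_3_1 lc_d_rc_16_4 lc_d_rc_15_1 lc_d_rc_15_1 lc_d_rc_15_1 lc_d_rc_22_8 lc_d_rc_27_4 lc_d_rc_16_2 lc_d_rc_16_0 lc_d_rc_27_4) (@D3.rec (fun _ => (Cert rels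 S Gen.d)) lc_d_rc_15_1 lc_d_rc_16_4 lc_d_rc_15_1 lc_d_rc_3_1 lc_d_rc_24_0 lc_d_rc_15_1 lc_d_rc_15_1 lc_d_rc_15_1 lc_d_rc_15_1 lc_d_rc_8_1 lc_d_rc_15_1 lc_d_rc_15_1 lc_d_rc_23_2 lc_d_rc_22_6 lc_d_rc_15_1 lc_d_Cert_tree lc_d_rc_15_1 lc_d_Cert_tree lc_d_rc_24_0 lc_d_rc_15_1 lc_d_Cert_tree lc_d_rc_24_0 lc_d_rc_15_1 lc_d_rc_24_5 lc_d_rc_27_4 lc_d_rc_27_2 lc_d_rc_15_1 lc_d_rc_27_4 lc_d_rc_3_1 lc_d_rc_16_0 lc_d_rc_15_1 lc_d_rc_8_1 lc_d_rc_15_1 lc_d_rc_27_2 lc_d_rc_8_3 lc_d_Cert_tree lc_d_rc_8_3 lc_d_rc_15_1 lc_d_rc_17_2 lc_d_rc_27_10 lc_d_rc_15_1 lc_d_rc_27_2 lc_d_rc_24_0 lc_d_rc_15_1 lc_d_rc_15_1 lc_d_rc_16_0 lc_d_rc_17_2 lc_d_Cert_tree lc_d_rc_15_1 lc_d_rc_27_4 lc_d_rc_24_0 lc_d_rc_15_1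 lc_d_rc_15_1 lc_d_rc_17_2 lc_d_rc_15_1 lc_d_rc_15_1 lc_d_rc_15_1 lc_d_rc_27_8 lc_d_rc_17_2 lc_d_rc_27_4 lc_d_rc_15_1 lc_d_rc_15_1) (@D3.rec (fun _ => (Cert rels S Gen.d)) lc_d_rc_8_3 lc_d_Cert_tree lc_d_rc_16_0 lc_d_rc_27_8 lc_d_rc_15_1 lc_d_rc_25_2 lc_d_rc_22_2 lc_d_rc_8_1 lc_d_rc_15_1 lc_d_rc_15_1 lc_d_rc_23_4 lc_d_rc_15_1 lc_d_rc_15_1 lc_d_rc_22_8 lc_d_Cert_tree lc_d_rc_3_3 lc_d_rc_15_1 lc_d_rc_24_5 lc_d_Cert_tree lc_d_rc_15_1 lc_d_rc_27_4 lc_d_rc_15_1 lc_d_rc_25_18 lc_d_Cert_tree lc_d_rc_24_5 lc_d_rc_15_1 lc_d_rc_24_5 lc_d_rc_25_18 lc_d_rc_27_10 lc_d_rc_15_1 lc_d_rc_8_3 lc_d_rc_8_3 lc_d_rc_3_3 lc_d_rc_15_1 lc_d_rc_3_3 lc_d_rc_15_1 lc_d_rc_23_2 lc_d_rc_17_0 lc_d_rc_8_3 lc_d_rc_15_1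 lc_d_rc_8_3 lc_d_rc_15_1 lc_d_rc_16_2 lc_d_rc_22_2 lc_d_rc_15_1 lc_d_rc_16_4 lc_d_rc_22_6 lc_d_rc_12_15 lc_d_rc_8_3 lc_d_rc_24_0 lc_d_rc_22_4 lc_d_rc_24_5 lc_d_rc_25_2 lc_d_Cert_tree lc_d_rc_8_3 lc_d_rc_24_5 lc_d_rc_15_1 lc_d_rc_16_4 lc_d_rc_15_1 lc_d_rc_24_0 lc_d_rc_27_2 lc_d_rc_15_1) (@D3.rec (fun _ => (Cert rels S Gen.d)) lc_d_rc_15_1 lc_d_rc_17_2 lc_d_rc_24_0 lc_d_rc_27_2 lc_d_rc_15_1 lc_d_rc_27_8 lc_d_rc_27_2 lc_d_rc_15_1 lc_d_rc_17_2 lc_d_rc_16_4 lc_d_rc_15_1 lc_d_Cert_tree lc_d_rc_15_1 lc_d_rc_8_1 lc_d_rc_15_1 lc_d_rc_27_2 lc_d_rc_16_4 lc_d_rc_23_2 lc_d_rc_16_0 lc_d_rc_15_1 lc_d_rc_23_4 lc_d_rc_15_1 lc_d_rc_22_4 lc_d_rc_24_5 lc_d_rc_23_2 lc_d_Cert_tree lc_d_rc_23_6 lc_d_rc_15_1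 lc_d_Cert_tree lc_d_rc_3_3 lc_d_rc_16_0 lc_d_rc_23_8 lc_d_rc_23_4 lc_d_rc_22_2 lc_d_rc_8_3 lc_d_Cert_tree lc_d_Cert_tree lc_d_rc_8_3 lc_d_Cert_tree lc_d_Cert_tree lc_d_Cert_tree lc_d_Cert_tree lc_d_rc_15_1 lc_d_rc_15_1 lc_d_rc_15_1 lc_d_rc_8_3 lc_d_Cert_tree lc_d_rc_23_8 lc_d_Cert_tree lc_d_rc_15_1 lc_d_Cert_tree lc_d_rc_25_14 lc_d_rc_27_10 lc_d_rc_16_0 lc_d_rc_15_1 lc_d_rc_17_2 lc_d_rc_3_3 lc_d_rc_8_1 lc_d_Cert_tree lc_d_Cert_tree lc_d_rc_15_1 lc_d_rc_17_2) (@D3.rec (fun _ => (Cert rels S Gen.d)) lc_d_rc_8_3 lc_d_rc_27_10 lc_d_rc_8_3 lc_d_rc_15_1 lc_d_rc_15_1 lc_d_rc_16_4 lc_d_Cert_tree lc_d_rc_15_1 lc_d_rc_24_0 lc_d_rc_16_2 lc_d_rc_22_8 lc_d_rc_8_3 lc_d_rc_16_4 lc_d_rc_22_4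 lc_d_rc_15_1 lc_d_rc_22_4 lc_d_rc_3_3 lc_d_rc_15_1 lc_d_Cert_tree lc_d_rc_22_4 lc_d_rc_27_10 lc_d_rc_8_3 lc_d_rc_15_1 lc_d_rc_15_1 lc_d_Cert_tree lc_d_rc_15_1 lc_d_rc_24_0 lc_d_rc_8_3 lc_d_rc_16_2 lc_d_rc_16_0 lc_d_rc_27_4 lc_d_rc_23_8 lc_d_rc_15_1 lc_d_rc_15_1 lc_d_rc_8_1 lc_d_rc_15_1 lc_d_rc_15_1 lc_d_rc_27_8 lc_d_rc_15_1 lc_d_rc_3_3 lc_d_rc_15_1 lc_d_Cert_tree lc_d_rc_15_1 lc_d_rc_27_8 lc_d_rc_15_1 lc_d_Cert_tree lc_d_Cert_tree lc_d_rc_16_0 lc_d_rc_15_1 lc_d_rc_8_1 lc_d_rc_22_8 lc_d_Cert_tree lc_d_rc_15_1 lc_d_rc_22_6 lc_d_rc_23_2 lc_d_rc_24_0 lc_d_rc_15_1 lc_d_rc_8_1 lc_d_rc_15_1 lc_d_rc_27_8 lc_d_Cert_tree lc_d_Cert_tree) (@D3.rec (fun _ => (Cert rels S Gen.d)) lc_d_rc_27_4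 lc_d_rc_15_1 lc_d_rc_15_1 lc_d_rc_15_1 lc_d_rc_15_1 lc_d_Cert_tree lc_d_rc_15_1 lc_d_rc_22_6 lc_d_rc_23_4 lc_d_rc_15_1 lc_d_rc_17_2 lc_d_rc_8_3 lc_d_rc_22_4 lc_d_rc_22_4 lc_d_rc_27_8 lc_d_rc_3_1 lc_d_rc_12_1 lc_d_rc_24_0 lc_d_rc_15_1 lc_d_rc_8_3 lc_d_rc_3_3 lc_d_rc_15_1 lc_d_rc_3_3 lc_d_rc_24_5 lc_d_rc_27_8 lc_d_Cert_tree lc_d_rc_15_1 lc_d_rc_22_4 lc_d_rc_27_10 lc_d_rc_15_1 lc_d_rc_16_0 lc_d_Cert_tree lc_d_rc_23_6 lc_d_rc_15_1 lc_d_Cert_tree lc_d_rc_23_2 lc_d_rc_15_1 lc_d_rc_27_4 lc_d_rc_22_4 lc_d_rc_16_2 lc_d_rc_22_2 lc_d_rc_24_5 lc_d_rc_24_5 lc_d_rc_15_1 lc_d_rc_24_0 lc_d_rc_24_0 lc_d_rc_15_1 lc_d_rc_15_1 lc_d_rc_8_3 lc_d_Cert_tree lc_d_rc_8_3 lc_d_rc_16_4 lc_d_rc_8_3 lc_d_rc_3_1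 lc_d_rc_15_1 lc_d_rc_17_2 lc_d_rc_17_2 lc_d_rc_15_1 lc_d_rc_27_2 lc_d_rc_15_1 lc_d_rc_25_14 lc_d_rc_27_2) (@D3.rec (fun _ => (Cert rels S Gen.d)) lc_d_rc_8_3 lc_d_rc_15_1 lc_d_rc_3_3 lc_d_Cert_tree lc_d_rc_16_4 lc_d_rc_15_1 lc_d_rc_8_3 lc_d_rc_8_3 lc_d_rc_12_3 lc_d_rc_3_3 lc_d_rc_23_6 lc_d_rc_3_3 lc_d_rc_16_4 lc_d_rc_17_0 lc_d_rc_8_3 lc_d_rc_27_8 lc_d_rc_16_2 lc_d_rc_15_1 lc_d_rc_8_3 lc_d_rc_15_1 lc_d_rc_22_2 lc_d_rc_3_1 lc_d_rc_22_2 lc_d_Cert_tree lc_d_rc_15_1 lc_d_Cert_tree lc_d_rc_15_1 lc_d_rc_17_2 lc_d_rc_23_4 lc_d_Cert_tree lc_d_rc_8_3 lc_d_Cert_tree lc_d_rc_15_1 lc_d_rc_17_2 lc_d_rc_15_1 lc_d_rc_23_4 lc_d_rc_15_1 lc_d_rc_17_2 lc_d_Cert_tree lc_d_rc_15_1 lc_d_rc_8_1 lc_d_rc_15_1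 lc_d_rc_15_1 lc_d_rc_15_1 lc_d_rc_17_0 lc_d_rc_17_2 lc_d_Cert_tree lc_d_rc_15_1 lc_d_Cert_tree lc_d_rc_15_1 lc_d_rc_12_3 lc_d_rc_15_1 lc_d_Cert_tree lc_d_Cert_tree lc_d_rc_15_1 lc_d_rc_8_3 lc_d_rc_24_5 lc_d_Cert_tree lc_d_rc_8_3 lc_d_rc_22_4 lc_d_rc_22_4 lc_d_rc_23_4) (@D3.rec (fun _ => (Cert rels S Gen.d)) lc_d_rc_23_4 lc_d_rc_15_1 lc_d_rc_23_6 lc_d_rc_15_1 lc_d_rc_22_8 lc_d_Cert_tree lc_d_rc_3_1 lc_d_rc_16_0 lc_d_rc_16_4 lc_d_rc_24_0 lc_d_rc_15_1 lc_d_rc_15_1 lc_d_Cert_tree lc_d_Cert_tree lc_d_Cert_tree lc_d_rc_15_1 lc_d_rc_15_1 lc_d_rc_22_8 lc_d_rc_8_3 lc_d_Cert_tree lc_d_rc_27_4 lc_d_rc_16_0 lc_d_rc_24_0 lc_d_Cert_tree lc_d_Cert_tree lc_d_rc_15_1 lc_d_Cert_tree lc_d_rc_15_1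 lc_d_rc_27_4 lc_d_Cert_tree lc_d_rc_15_1 lc_d_Cert_tree lc_d_rc_3_3 lc_d_rc_15_1 lc_d_rc_22_6 lc_d_rc_17_2 lc_d_rc_15_1 lc_d_rc_17_2 lc_d_rc_3_3 lc_d_rc_8_3 lc_d_rc_8_1 lc_d_Cert_tree lc_d_rc_15_1 lc_d_rc_27_2 lc_d_Cert_tree lc_d_rc_15_1 lc_d_rc_15_1 lc_d_rc_27_2 lc_d_rc_27_10 lc_d_rc_15_1 lc_d_Cert_tree lc_d_rc_17_2 lc_d_rc_3_3 lc_d_Cert_tree lc_d_rc_15_1 lc_d_rc_15_1 lc_d_rc_15_1 lc_d_rc_24_5 lc_d_rc_16_2 lc_d_Cert_tree lc_d_Cert_tree lc_d_rc_15_1) (@D3.rec (fun _ => (Cert rels S Gen.d)) lc_d_rc_16_2 lc_d_rc_12_9 lc_d_rc_16_2 lc_d_rc_8_1 lc_d_rc_23_4 lc_d_rc_22_4 lc_d_rc_22_2 lc_d_rc_24_0 lc_d_rc_23_2 lc_d_rc_15_1 lc_d_rc_23_2 lc_d_rc_15_1 lc_d_rc_12_5 lc_d_rc_16_4 lc_d_rc_3_3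 lc_d_rc_15_1 lc_d_Cert_tree lc_d_rc_23_6 lc_d_rc_15_1 lc_d_rc_25_18 lc_d_rc_23_6 lc_d_rc_8_3 lc_d_rc_23_8 lc_d_rc_16_2 lc_d_rc_24_0 lc_d_rc_15_1 lc_d_Cert_tree lc_d_Cert_tree lc_d_rc_15_1 lc_d_rc_8_3 lc_d_rc_12_9 lc_d_rc_22_8 lc_d_rc_15_1 lc_d_rc_3_3 lc_d_Cert_tree lc_d_rc_15_1 lc_d_rc_17_2 lc_d_rc_15_1 lc_d_rc_27_2 lc_d_rc_22_2 lc_d_rc_27_4 lc_d_rc_23_8 lc_d_rc_24_0 lc_d_rc_15_1 lc_d_rc_27_8 lc_d_rc_15_1 lc_d_rc_22_2 lc_d_rc_8_3 lc_d_rc_23_4 lc_d_Cert_tree lc_d_rc_3_1 lc_d_rc_17_0 lc_d_rc_15_1 lc_d_rc_15_1 lc_d_rc_24_0 lc_d_rc_15_1 lc_d_rc_22_4 lc_d_rc_27_10 lc_d_rc_15_1 lc_d_rc_27_2 lc_d_rc_15_1 lc_d_rc_24_5) (@D3.rec (fun _ => (Cert rels S Gen.d)) lc_d_rc_15_1 lc_d_rc_15_1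 lc_d_rc_8_3 lc_d_Cert_tree lc_d_rc_27_2 lc_d_rc_3_3 lc_d_rc_23_6 lc_d_rc_16_4 lc_d_rc_15_1 lc_d_Cert_tree lc_d_rc_15_1 lc_d_rc_8_3 lc_d_rc_15_1 lc_d_rc_16_4 lc_d_rc_15_1 lc_d_Cert_tree lc_d_rc_15_1 lc_d_Cert_tree lc_d_rc_22_4 lc_d_rc_15_1 lc_d_rc_3_3 lc_d_rc_24_0 lc_d_rc_15_1 lc_d_rc_15_1 lc_d_rc_16_2 lc_d_rc_15_1 lc_d_rc_15_1 lc_d_rc_15_1 lc_d_rc_22_8 lc_d_rc_16_2 lc_d_rc_15_1 lc_d_rc_27_4 lc_d_rc_17_2 lc_d_rc_15_1 lc_d_rc_27_8 lc_d_rc_23_6 lc_d_rc_15_1 lc_d_rc_23_2 lc_d_rc_24_5 lc_d_rc_23_2 lc_d_rc_16_0 lc_d_rc_15_1 lc_d_rc_23_2 lc_d_rc_8_1 lc_d_rc_27_8 lc_d_rc_27_4 lc_d_rc_27_4 lc_d_Cert_tree lc_d_rc_15_1 lc_d_rc_15_1 lc_d_rc_16_4 lc_d_Cert_tree lc_d_rc_15_1 lc_d_rc_16_4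 lc_d_rc_22_4 lc_d_rc_8_3 lc_d_rc_16_0 lc_d_rc_23_4 lc_d_rc_15_1 lc_d_rc_27_2 lc_d_rc_3_3 lc_d_rc_15_1) (@D3.rec (fun _ => (Cert rels S Gen.d)) lc_d_rc_22_6 lc_d_rc_15_1 lc_d_rc_22_8 lc_d_rc_27_8 lc_d_rc_15_1 lc_d_rc_16_0 lc_d_rc_24_5 lc_d_rc_22_4 lc_d_rc_15_1 lc_d_rc_24_5 lc_d_rc_23_4 lc_d_rc_24_5 lc_d_rc_16_4 lc_d_rc_8_3 lc_d_rc_22_4 lc_d_Cert_tree lc_d_rc_15_1 lc_d_rc_15_1 lc_d_rc_12_15 lc_d_rc_23_8 lc_d_rc_3_3 lc_d_rc_8_1 lc_d_rc_15_1 lc_d_rc_16_4 lc_d_rc_15_1 lc_d_Cert_tree lc_d_rc_15_1 lc_d_rc_17_2 lc_d_rc_16_2 lc_d_rc_24_5 lc_d_rc_15_1 lc_d_rc_24_5 lc_d_rc_15_1 lc_d_Cert_tree lc_d_Cert_tree lc_d_rc_17_2 lc_d_rc_24_5 lc_d_rc_24_0 lc_d_rc_8_3 lc_d_rc_15_1 lc_d_rc_15_1 lc_d_rc_22_6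 lc_d_rc_15_1 lc_d_rc_15_1 lc_d_rc_23_6 lc_d_rc_23_4 lc_d_rc_23_4 lc_d_rc_8_3 lc_d_rc_8_3 lc_d_rc_16_0 lc_d_rc_15_1 lc_d_Cert_tree lc_d_rc_27_2 lc_d_Cert_tree lc_d_rc_16_0 lc_d_rc_15_1 lc_d_rc_3_3 lc_d_rc_17_0 lc_d_rc_15_1 lc_d_rc_25_6 lc_d_rc_15_1 lc_d_rc_8_1) (@D3.rec (fun _ => (Cert rels S Gen.d)) lc_d_rc_8_3 lc_d_rc_17_2 lc_d_Cert_tree lc_d_rc_8_3 lc_d_rc_15_1 lc_d_rc_15_1 lc_d_rc_15_1 lc_d_rc_27_10 lc_d_rc_24_5 lc_d_rc_15_1 lc_d_Cert_tree lc_d_rc_16_2 lc_d_rc_3_1 lc_d_rc_8_3 lc_d_rc_15_1 lc_d_rc_16_4 lc_d_rc_15_1 lc_d_rc_27_4 lc_d_rc_15_1 lc_d_rc_27_8 lc_d_Cert_tree lc_d_rc_15_1 lc_d_Cert_tree lc_d_rc_15_1 lc_d_rc_27_4 lc_d_rc_27_10 lc_d_rc_16_4 lc_d_rc_24_5 lc_d_rc_23_2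 lc_d_rc_22_4 lc_d_rc_15_1 lc_d_rc_15_1 lc_d_rc_22_4 lc_d_rc_27_8 lc_d_rc_17_0 lc_d_rc_15_1 lc_d_rc_15_1 lc_d_rc_8_1 lc_d_rc_15_1 lc_d_rc_23_6 lc_d_rc_23_4 lc_d_rc_8_3 lc_d_Cert_tree lc_d_rc_15_1 lc_d_rc_8_1 lc_d_rc_15_1 lc_d_rc_24_5 lc_d_rc_8_1 lc_d_rc_15_1 lc_d_Cert_tree lc_d_rc_22_4 lc_d_rc_15_1 lc_d_rc_17_2 lc_d_rc_22_4 lc_d_rc_8_3 lc_d_rc_27_10 lc_d_rc_27_2 lc_d_rc_3_3 lc_d_rc_15_1 lc_d_rc_3_3 lc_d_rc_3_3 lc_d_rc_15_1) (@D3.rec (fun _ => (Cert rels S Gen.d)) lc_d_rc_17_0 lc_d_rc_15_1 lc_d_rc_15_1 lc_d_rc_23_6 lc_d_rc_16_2 lc_d_rc_27_2 lc_d_rc_24_0 lc_d_rc_15_1 lc_d_rc_8_1 lc_d_rc_23_8 lc_d_rc_8_3 lc_d_rc_27_2 lc_d_rc_3_3 lc_d_Cert_tree lc_d_Cert_tree lc_d_rc_27_8 lc_d_rc_15_1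 lc_d_rc_15_1 lc_d_Cert_tree lc_d_rc_27_2 lc_d_rc_23_2 lc_d_rc_15_1 lc_d_rc_23_8 lc_d_rc_15_1 lc_d_rc_23_2 lc_d_rc_27_8 lc_d_rc_27_2 lc_d_rc_3_1 lc_d_rc_24_0 lc_d_rc_23_8 lc_d_rc_22_2 lc_d_rc_15_1 lc_d_rc_23_2 lc_d_rc_23_2 lc_d_rc_17_0 lc_d_rc_15_1 lc_d_rc_27_10 lc_d_rc_17_2 lc_d_rc_22_8 lc_d_rc_22_4 lc_d_rc_25_2 lc_d_Cert_tree lc_d_rc_27_2 lc_d_rc_17_2 lc_d_rc_15_1 lc_d_rc_25_6 lc_d_rc_16_2 lc_d_rc_22_2 lc_d_rc_16_4 lc_d_rc_15_1 lc_d_rc_15_1 lc_d_rc_16_4 lc_d_rc_16_0 lc_d_rc_15_1 lc_d_rc_24_0 lc_d_rc_8_3 lc_d_rc_3_3 lc_d_rc_23_2 lc_d_Cert_tree lc_d_rc_15_1 lc_d_rc_16_2 lc_d_rc_27_2) (@D3.rec (fun _ => (Cert rels S Gen.d)) lc_d_rc_27_4 lc_d_rc_23_2 lc_d_rc_24_0 lc_d_rc_15_1 lc_d_rc_16_0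 lc_d_rc_8_3 lc_d_rc_27_4 lc_d_rc_23_8 lc_d_Cert_tree lc_d_Cert_tree lc_d_rc_17_2 lc_d_rc_23_8 lc_d_rc_22_2 lc_d_rc_15_1 lc_d_rc_17_2 lc_d_rc_3_3 lc_d_rc_17_2 lc_d_Cert_tree lc_d_rc_15_1 lc_d_rc_17_0 lc_d_rc_15_1 lc_d_rc_23_2 lc_d_rc_15_1 lc_d_rc_15_1 lc_d_rc_27_8 lc_d_Cert_tree lc_d_Cert_tree lc_d_rc_15_1 lc_d_rc_17_2 lc_d_rc_23_2 lc_d_rc_15_1 lc_d_Cert_tree lc_d_rc_24_0 lc_d_rc_27_4 lc_d_Cert_tree lc_d_Cert_tree lc_d_rc_15_1 lc_d_rc_17_2 lc_d_rc_15_1 lc_d_rc_23_2 lc_d_Cert_tree lc_d_rc_27_2 lc_d_rc_15_1 lc_d_rc_27_2 lc_d_rc_24_5 lc_d_rc_27_4 lc_d_rc_24_0 lc_d_rc_27_2 lc_d_rc_15_1 lc_d_rc_15_1 lc_d_Cert_tree lc_d_Cert_tree lc_d_Cert_tree lc_d_rc_15_1 lc_d_rc_17_2 lc_d_Cert_tree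 lc_d_rc_8_3 lc_d_Cert_tree lc_d_rc_8_3 lc_d_Cert_tree lc_d_rc_15_1 lc_d_rc_3_3) (@D3.rec (fun _ => (Cert rels S Gen.d)) lc_d_rc_15_1 lc_d_rc_15_1 lc_d_rc_15_1 lc_d_rc_17_0 lc_d_rc_22_4 lc_d_rc_25_14 lc_d_rc_16_2 lc_d_rc_15_1 lc_d_rc_23_6 lc_d_rc_16_2 lc_d_rc_16_4 lc_d_rc_8_1 lc_d_rc_16_4 lc_d_Cert_tree lc_d_rc_27_2 lc_d_rc_27_10 lc_d_rc_15_1 lc_d_rc_17_2 lc_d_Cert_tree lc_d_rc_15_1 lc_d_Cert_tree lc_d_rc_12_15 lc_d_rc_15_1 lc_d_rc_22_6 lc_d_rc_23_4 lc_d_rc_23_4 lc_d_Cert_tree lc_d_rc_17_2 lc_d_rc_15_1 lc_d_rc_22_4 lc_d_rc_16_4 lc_d_Cert_tree lc_d_rc_27_10 lc_d_rc_15_1 lc_d_Cert_tree lc_d_rc_15_1 lc_d_rc_17_2 lc_d_rc_15_1 lc_d_rc_15_1 lc_d_Cert_tree lc_d_rc_15_1 lc_d_rc_16_4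 lc_d_rc_8_3 lc_d_Cert_tree lc_d_rc_15_1 lc_d_rc_24_0 lc_d_rc_15_1 lc_d_rc_8_3 lc_d_rc_24_5 lc_d_rc_27_4 lc_d_rc_15_1 lc_d_rc_8_3 lc_d_rc_8_1 lc_d_rc_15_1 lc_d_Cert_tree lc_d_rc_23_6 lc_d_rc_16_4 lc_d_Cert_tree lc_d_rc_23_6 lc_d_rc_23_8 lc_d_rc_15_1 lc_d_rc_17_2) (@D3.rec (fun _ => (Cert rels S Gen.d)) lc_d_rc_24_0 lc_d_rc_15_1 lc_d_rc_27_8 lc_d_rc_22_4 lc_d_rc_8_3 lc_d_rc_23_4 lc_d_rc_16_2 lc_d_rc_15_1 lc_d_rc_8_1 lc_d_rc_27_2 lc_d_Cert_tree lc_d_rc_17_0 lc_d_rc_16_4 lc_d_rc_15_1 lc_d_rc_27_10 lc_d_rc_15_1 lc_d_rc_15_1 lc_d_Cert_tree lc_d_rc_27_2 lc_d_rc_8_3 lc_d_rc_15_1 lc_d_rc_15_1 lc_d_rc_8_1 lc_d_rc_15_1 lc_d_rc_23_2 lc_d_rc_15_1 lc_d_rc_15_1 lc_d_Cert_tree lc_d_rc_15_1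 lc_d_rc_23_6 lc_d_Cert_tree lc_d_rc_15_1 lc_d_rc_27_2 lc_d_rc_17_2 lc_d_rc_22_4 lc_d_rc_15_1 lc_d_rc_3_1 lc_d_rc_3_3 lc_d_rc_15_1 lc_d_rc_15_1 lc_d_rc_15_1 lc_d_Cert_tree lc_d_rc_16_2 lc_d_rc_23_2 lc_d_rc_15_1 lc_d_rc_23_2 lc_d_rc_23_4 lc_d_rc_15_1 lc_d_rc_15_1 lc_d_rc_15_1 lc_d_rc_15_1 lc_d_rc_8_3 lc_d_rc_15_1 lc_d_rc_16_2 lc_d_rc_15_1 lc_d_rc_15_1 lc_d_rc_27_2 lc_d_rc_24_5 lc_d_rc_15_1 lc_d_rc_24_0 lc_d_rc_27_10 lc_d_rc_15_1) (@D3.rec (fun _ => (Cert rels S Gen.d)) lc_d_rc_15_1 lc_d_rc_27_4 lc_d_Cert_tree lc_d_rc_15_1 lc_d_rc_23_6 lc_d_rc_23_6 lc_d_rc_27_10 lc_d_rc_15_1 lc_d_rc_27_4 lc_d_rc_27_4 lc_d_rc_15_1 lc_d_rc_27_4 lc_d_Cert_tree lc_d_rc_15_1 lc_d_Cert_tree lc_d_Cert_tree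 lc_d_rc_15_1 lc_d_rc_22_4 lc_d_rc_23_4 lc_d_rc_15_1 lc_d_rc_16_2 lc_d_rc_23_4 lc_d_rc_15_1 lc_d_rc_8_3 lc_d_rc_16_4 lc_d_rc_15_1 lc_d_rc_15_1 lc_d_rc_8_3 lc_d_rc_16_4 lc_d_rc_15_1 lc_d_Cert_tree lc_d_rc_17_2 lc_d_Cert_tree lc_d_Cert_tree lc_d_rc_15_1 lc_d_rc_17_2 lc_d_Cert_tree lc_d_Cert_tree lc_d_rc_15_1 lc_d_rc_17_2 lc_d_Cert_tree lc_d_rc_15_1 lc_d_Cert_tree lc_d_rc_15_1 lc_d_rc_22_8 lc_d_rc_27_2 lc_d_rc_17_2 lc_d_Cert_tree lc_d_rc_15_1 lc_d_rc_27_2 lc_d_rc_15_1 lc_d_rc_25_2 lc_d_rc_23_8 lc_d_rc_3_1 lc_d_Cert_tree lc_d_Cert_tree lc_d_rc_15_1 lc_d_rc_22_2 lc_d_rc_25_10 lc_d_rc_8_1 lc_d_rc_16_4 lc_d_rc_16_4) (@D3.rec (fun _ => (Cert rels S Gen.d)) lc_d_rc_15_1 lc_d_Cert_tree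 lc_d_rc_22_8 lc_d_rc_8_3 lc_d_rc_16_4 lc_d_Cert_tree lc_d_Cert_tree lc_d_Cert_tree lc_d_rc_15_1 lc_d_rc_17_2 lc_d_Cert_tree lc_d_Cert_tree lc_d_rc_15_1 lc_d_rc_17_2 lc_d_rc_15_1 lc_d_rc_23_6 lc_d_rc_15_1 lc_d_rc_22_6 lc_d_rc_17_2 lc_d_rc_27_4 lc_d_rc_15_1 lc_d_rc_24_5 lc_d_rc_23_4 lc_d_rc_15_1 lc_d_Cert_tree lc_d_rc_22_2 lc_d_rc_27_10 lc_d_rc_15_1 lc_d_Cert_tree lc_d_rc_25_18 lc_d_Cert_tree lc_d_rc_15_1 lc_d_Cert_tree lc_d_rc_16_0 lc_d_rc_27_2 lc_d_rc_15_1 lc_d_Cert_tree lc_d_Cert_tree lc_d_rc_15_1 lc_d_rc_17_2 lc_d_rc_8_3 lc_d_Cert_tree lc_d_rc_15_1 lc_d_rc_17_2 lc_d_rc_16_0 lc_d_rc_16_4 lc_d_rc_17_2 lc_d_rc_25_2 lc_d_rc_15_1 lc_d_rc_27_2 lc_d_rc_16_4 lc_d_rc_15_1 lc_d_Cert_tree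 lc_d_rc_15_1 lc_d_rc_15_1 lc_d_rc_8_3 lc_d_Cert_tree lc_d_Cert_tree lc_d_rc_15_1 lc_d_Cert_tree lc_d_Cert_tree lc_d_rc_15_1) (@D3.rec (fun _ => (Cert rels S Gen.d)) lc_d_rc_17_2 lc_d_rc_23_6 lc_d_rc_15_1 lc_d_rc_24_0 lc_d_rc_27_4 lc_d_Cert_tree lc_d_rc_15_1 lc_d_rc_17_2 lc_d_rc_15_1 lc_d_Cert_tree lc_d_Cert_tree lc_d_Cert_tree lc_d_rc_15_1 lc_d_rc_17_2 lc_d_rc_8_3 lc_d_Cert_tree lc_d_rc_15_1 lc_d_rc_8_3 lc_d_rc_8_3 lc_d_rc_16_4 lc_d_rc_15_1 lc_d_rc_3_3 lc_d_rc_17_0 lc_d_rc_24_5 lc_d_rc_16_4 lc_d_rc_15_1 lc_d_rc_3_3 lc_d_rc_3_3 lc_d_Cert_tree lc_d_rc_8_3 lc_d_rc_12_15 lc_d_rc_16_4 lc_d_rc_8_3 lc_d_rc_16_4 lc_d_Cert_tree lc_d_rc_8_3 lc_d_rc_15_1 lc_d_rc_8_3 lc_d_rc_23_8 lc_d_rc_8_1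 lc_d_rc_22_6 lc_d_rc_24_0 lc_d_rc_22_4 lc_d_rc_3_3 lc_d_rc_15_1 lc_d_rc_8_1 lc_d_rc_15_1 lc_d_rc_15_1 lc_d_rc_27_8 lc_d_rc_23_8 lc_d_rc_24_0 lc_d_rc_15_1 lc_d_rc_3_1 lc_d_rc_15_1 lc_d_rc_16_2 lc_d_rc_27_4 lc_d_rc_15_1 lc_d_rc_8_1 lc_d_rc_15_1 lc_d_Cert_tree lc_d_rc_15_1 lc_d_rc_8_3) (@D3.rec (fun _ => (Cert rels S Gen.d)) lc_d_rc_27_4 lc_d_rc_8_1 lc_d_rc_16_4 lc_d_rc_17_2 lc_d_rc_15_1 lc_d_rc_23_8 lc_d_rc_23_8 lc_d_rc_23_6 lc_d_rc_15_1 lc_d_Cert_tree lc_d_rc_27_4 lc_d_rc_17_2 lc_d_rc_15_1 lc_d_rc_15_1 lc_d_rc_23_2 lc_d_rc_23_8 lc_d_rc_27_8 lc_d_rc_3_1 lc_d_rc_15_1 lc_d_rc_16_4 lc_d_rc_15_1 lc_d_rc_16_4 lc_d_rc_8_3 lc_d_rc_16_4 lc_d_rc_15_1 lc_d_rc_15_1 lc_d_rc_16_0 lc_d_rc_16_0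 lc_d_Cert_tree lc_d_rc_15_1 lc_d_rc_17_0 lc_d_rc_23_4 lc_d_rc_15_1 lc_d_rc_23_6 lc_d_rc_15_1 lc_d_rc_8_3 lc_d_rc_16_4 lc_d_rc_16_0 lc_d_rc_15_1 lc_d_rc_17_2 lc_d_rc_27_8 lc_d_rc_22_4 lc_d_Cert_tree lc_d_rc_15_1 lc_d_rc_8_3 lc_d_rc_15_1 lc_d_rc_15_1 lc_d_rc_23_8 lc_d_rc_27_4 lc_d_rc_15_1 lc_d_rc_27_8 lc_d_Cert_tree lc_d_Cert_tree lc_d_rc_15_1 lc_d_rc_8_3 lc_d_rc_24_0 lc_d_rc_22_6 lc_d_rc_3_3 lc_d_Cert_tree lc_d_rc_15_1 lc_d_rc_25_6 lc_d_rc_23_4) (@D3.rec (fun _ => (Cert rels S Gen.d)) lc_d_rc_23_4 lc_d_rc_15_1 lc_d_rc_8_3 lc_d_rc_15_1 lc_d_Cert_tree lc_d_Cert_tree lc_d_rc_23_2 lc_d_rc_15_1 lc_d_rc_12_3 lc_d_rc_23_6 lc_d_rc_15_1 lc_d_rc_15_1 lc_d_rc_17_2 lc_d_Cert_tree lc_d_rc_15_1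 lc_d_rc_8_1 lc_d_rc_15_1 lc_d_rc_27_4 lc_d_rc_23_6 lc_d_rc_15_1 lc_d_rc_22_4 lc_d_rc_17_2 lc_d_rc_17_2 lc_d_rc_15_1 lc_d_rc_15_1 lc_d_rc_15_1 lc_d_rc_24_0 lc_d_rc_23_8 lc_d_rc_15_1 lc_d_rc_8_3 lc_d_rc_15_1 lc_d_rc_24_5 lc_d_rc_15_1 lc_d_rc_8_3 lc_d_rc_27_2 lc_d_rc_17_2 lc_d_rc_8_3 lc_d_rc_22_4 lc_d_rc_27_10 lc_d_rc_15_1 lc_d_Cert_tree lc_d_rc_17_2 lc_d_Cert_tree lc_d_rc_15_1 lc_d_rc_15_1 lc_d_rc_24_0 lc_d_rc_8_3 lc_d_rc_8_3 lc_d_rc_16_0 lc_d_Cert_tree lc_d_rc_15_1 lc_d_Cert_tree lc_d_rc_23_6 lc_d_rc_15_1 lc_d_rc_23_2 lc_d_Cert_tree lc_d_Cert_tree lc_d_Cert_tree lc_d_rc_15_1 lc_d_rc_17_2 lc_d_rc_17_2 lc_d_rc_3_3) (@D3.rec (fun _ => (Cert rels S Gen.d)) lc_d_rc_15_1 lc_d_rc_15_1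 lc_d_rc_3_3 lc_d_rc_15_1 lc_d_rc_22_2 lc_d_rc_22_8 lc_d_rc_15_1 lc_d_rc_24_0 lc_d_rc_17_2 lc_d_Cert_tree lc_d_Cert_tree lc_d_Cert_tree lc_d_rc_15_1 lc_d_rc_17_2 lc_d_rc_27_2 lc_d_rc_15_1 lc_d_rc_17_2 lc_d_rc_15_1 lc_d_rc_17_0 lc_d_Cert_tree lc_d_rc_15_1 lc_d_Cert_tree lc_d_rc_15_1 lc_d_rc_24_5 lc_d_Cert_tree lc_d_rc_15_1 lc_d_rc_15_1 lc_d_rc_22_4 lc_d_rc_8_3 lc_d_rc_27_2 lc_d_rc_24_5 lc_d_rc_8_3 lc_d_rc_8_1 lc_d_Cert_tree lc_d_rc_15_1 lc_d_rc_27_10 lc_d_rc_8_3 lc_d_rc_24_0 lc_d_rc_27_2 lc_d_rc_16_4 lc_d_rc_15_1 lc_d_Cert_tree lc_d_rc_3_3 lc_d_rc_15_1 lc_d_rc_15_1 lc_d_rc_8_3 lc_d_rc_15_1 lc_d_rc_27_2 lc_d_rc_17_2 lc_d_Cert_tree lc_d_rc_8_3 lc_d_rc_27_4 lc_d_Cert_tree lc_d_rc_16_0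 lc_d_rc_8_1 lc_d_rc_22_8 lc_d_rc_23_6 lc_d_rc_27_8 lc_d_rc_24_5 lc_d_rc_23_4 lc_d_rc_15_1 lc_d_rc_16_2)
def ce_d_20 : D2 → D3 → (Cert rels S Gen.d) := @D2.rec (fun _ => D3 → (Cert rels S Gen.d)) (@D3.rec (fun _ => (Cert rels S Gen.d)) lc_d_rc_15_1 lc_d_rc_23_4 lc_d_rc_16_4 lc_d_rc_15_1 lc_d_rc_16_2 lc_d_rc_16_4 lc_d_rc_27_10 lc_d_rc_17_2 lc_d_rc_22_4 lc_d_rc_8_3 lc_d_rc_23_2 lc_d_rc_15_1 lc_d_rc_17_2 lc_d_rc_16_4 lc_d_rc_15_1 lc_d_rc_3_3 lc_d_rc_3_1 lc_d_rc_27_2 lc_d_rc_15_1 lc_d_rc_15_1 lc_d_rc_22_2 lc_d_rc_16_2 lc_d_rc_8_3 lc_d_rc_8_3 lc_d_rc_16_0 lc_d_rc_17_2 lc_d_rc_3_1 lc_d_rc_16_2 lc_d_Cert_tree lc_d_rc_15_1 lc_d_rc_27_2 lc_d_rc_27_10 lc_d_rc_15_1 lc_d_rc_27_8 lc_d_Cert_tree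 lc_d_rc_15_1 lc_d_rc_23_8 lc_d_rc_16_4 lc_d_rc_3_1 lc_d_rc_8_1 lc_d_rc_17_2 lc_d_rc_24_0 lc_d_rc_17_2 lc_d_rc_17_2 lc_d_rc_8_3 lc_d_rc_15_1 lc_d_rc_3_3 lc_d_rc_27_4 lc_d_rc_23_8 lc_d_rc_17_2 lc_d_rc_15_1 lc_d_rc_16_4 lc_d_rc_23_4 lc_d_rc_8_3 lc_d_rc_27_8 lc_d_rc_16_4 lc_d_rc_22_8 lc_d_rc_23_6 lc_d_rc_16_2 lc_d_rc_8_3 lc_d_rc_3_1 lc_d_rc_15_1) (@D3.rec (fun _ => (Cert rels S Gen.d)) lc_d_rc_27_8 lc_d_rc_24_0 lc_d_rc_8_3 lc_d_rc_16_0 lc_d_rc_24_0 lc_d_rc_15_1 lc_d_rc_17_2 lc_d_rc_8_3 lc_d_rc_15_1 lc_d_Cert_tree lc_d_rc_27_10 lc_d_rc_8_3 lc_d_rc_15_1 lc_d_rc_15_1 lc_d_rc_16_2 lc_d_rc_23_2 lc_d_rc_15_1 lc_d_rc_27_8 lc_d_Cert_tree lc_d_rc_15_1 lc_d_rc_17_2 lc_d_rc_23_4 lc_d_rc_15_1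 lc_d_rc_27_8 lc_d_rc_16_2 lc_d_rc_12_1 lc_d_rc_15_1 lc_d_Cert_tree lc_d_rc_8_3 lc_d_rc_15_1 lc_d_rc_15_1 lc_d_rc_23_4 lc_d_rc_22_4 lc_d_Cert_tree lc_d_rc_15_1 lc_d_rc_27_8 lc_d_Cert_tree lc_d_rc_15_1 lc_d_rc_27_4 lc_d_rc_15_1 lc_d_rc_16_4 lc_d_rc_3_1 lc_d_Cert_tree lc_d_rc_15_1 lc_d_Cert_tree lc_d_rc_15_1 lc_d_rc_15_1 lc_d_rc_15_1 lc_d_Cert_tree lc_d_rc_15_1 lc_d_rc_15_1 lc_d_rc_23_8 lc_d_rc_22_6 lc_d_rc_23_8 lc_d_rc_17_2 lc_d_Cert_tree lc_d_rc_15_1 lc_d_Cert_tree lc_d_rc_8_1 lc_d_rc_15_1 lc_d_rc_15_1 lc_d_rc_17_2) (@D3.rec (fun _ => (Cert rels S Gen.d)) lc_d_Cert_tree lc_d_rc_15_1 lc_d_rc_3_3 lc_d_rc_22_8 lc_d_rc_15_1 lc_d_rc_16_2 lc_d_rc_15_1 lc_d_rc_27_8 lc_d_rc_16_4 lc_d_rc_27_2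 lc_d_rc_8_3 lc_d_rc_27_2 lc_d_rc_24_0 lc_d_rc_22_2 lc_d_Cert_tree lc_d_rc_25_10 lc_d_rc_22_2 lc_d_rc_15_1 lc_d_rc_17_2 lc_d_rc_16_4 lc_d_rc_15_1 lc_d_rc_16_2 lc_d_rc_15_1 lc_d_rc_17_2 lc_d_rc_24_5 lc_d_rc_15_1 lc_d_Cert_tree lc_d_rc_17_2 lc_d_rc_15_1 lc_d_rc_27_4 lc_d_Cert_tree lc_d_Cert_tree lc_d_Cert_tree lc_d_rc_15_1 lc_d_rc_17_2 lc_d_rc_8_1 lc_d_rc_15_1 lc_d_rc_27_8 lc_d_rc_15_1 lc_d_rc_23_6 lc_d_rc_22_6 lc_d_rc_17_2 lc_d_Cert_tree lc_d_rc_15_1 lc_d_rc_24_0 lc_d_rc_15_1 lc_d_Cert_tree lc_d_rc_22_8 lc_d_Cert_tree lc_d_Cert_tree lc_d_rc_15_1 lc_d_rc_12_15 lc_d_rc_23_6 lc_d_rc_15_1 lc_d_rc_8_3 lc_d_rc_17_2 lc_d_rc_15_1 lc_d_rc_23_4 lc_d_rc_24_5 lc_d_rc_12_15 lc_d_Cert_tree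 lc_d_rc_25_14) (@D3.rec (fun _ => (Cert rels S Gen.d)) lc_d_rc_15_1 lc_d_rc_15_1 lc_d_rc_8_1 lc_d_rc_3_3 lc_d_rc_22_6 lc_d_rc_17_2 lc_d_rc_3_3 lc_d_rc_27_2 lc_d_rc_27_2 lc_d_rc_23_8 lc_d_rc_15_1 lc_d_rc_17_2 lc_d_rc_8_3 lc_d_rc_3_3 lc_d_Cert_tree lc_d_Cert_tree lc_d_rc_15_1 lc_d_rc_17_2 lc_d_rc_8_3 lc_d_Cert_tree lc_d_rc_25_18 lc_d_rc_15_1 lc_d_rc_25_2 lc_d_rc_12_15 lc_d_rc_15_1 lc_d_rc_3_3 lc_d_rc_8_3 lc_d_rc_15_1 lc_d_rc_15_1 lc_d_rc_15_1 lc_d_rc_23_4 lc_d_rc_22_6 lc_d_rc_16_2 lc_d_rc_15_1 lc_d_rc_17_0 lc_d_rc_15_1 lc_d_rc_12_1 lc_d_rc_16_2 lc_d_Cert_tree lc_d_rc_15_1 lc_d_rc_15_1 lc_d_Cert_tree lc_d_rc_15_1 lc_d_rc_22_6 lc_d_rc_8_3 lc_d_rc_23_2 lc_d_Cert_tree lc_d_rc_15_1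 lc_d_rc_15_1 lc_d_rc_15_1 lc_d_rc_23_4 lc_d_rc_15_1 lc_d_rc_16_2 lc_d_rc_8_3 lc_d_Cert_tree lc_d_rc_15_1 lc_d_rc_22_6 lc_d_rc_16_4 lc_d_rc_15_1 lc_d_rc_15_1 lc_d_rc_15_1 lc_d_rc_24_0) (@D3.rec (fun _ => (Cert rels S Gen.d)) lc_d_rc_15_1 lc_d_rc_15_1 lc_d_rc_8_1 lc_d_rc_15_1 lc_d_rc_8_1 lc_d_rc_15_1 lc_d_rc_23_8 lc_d_rc_27_4 lc_d_rc_15_1 lc_d_rc_15_1 lc_d_rc_16_4 lc_d_rc_15_1 lc_d_rc_8_3 lc_d_rc_15_1 lc_d_rc_17_2 lc_d_rc_17_0 lc_d_rc_23_6 lc_d_rc_22_2 lc_d_rc_8_3 lc_d_rc_17_2 lc_d_rc_8_3 lc_d_rc_24_5 lc_d_rc_15_1 lc_d_Cert_tree lc_d_Cert_tree lc_d_rc_24_0 lc_d_rc_23_8 lc_d_rc_15_1 lc_d_rc_22_2 lc_d_rc_22_4 lc_d_rc_23_4 lc_d_rc_15_1 lc_d_rc_24_5 lc_d_rc_16_2 lc_d_rc_15_1 lc_d_Cert_tree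 lc_d_rc_15_1 lc_d_rc_27_8 lc_d_rc_24_5 lc_d_rc_15_1 lc_d_rc_27_2 lc_d_Cert_tree lc_d_rc_22_4 lc_d_rc_15_1 lc_d_rc_17_2 lc_d_rc_3_3 lc_d_rc_15_1 lc_d_rc_3_3 lc_d_rc_16_4 lc_d_rc_15_1 lc_d_rc_17_2 lc_d_rc_8_1 lc_d_rc_15_1 lc_d_rc_27_4 lc_d_rc_24_5 lc_d_rc_24_0 lc_d_rc_15_1 lc_d_Cert_tree lc_d_rc_15_1 lc_d_rc_15_1 lc_d_rc_15_1 lc_d_rc_24_0) (@D3.rec (fun _ => (Cert rels S Gen.d)) lc_d_rc_15_1 lc_d_rc_15_1 lc_d_rc_23_2 lc_d_rc_24_0 lc_d_rc_3_3 lc_d_rc_8_3 lc_d_Cert_tree lc_d_rc_15_1 lc_d_Cert_tree lc_d_rc_15_1 lc_d_rc_24_0 lc_d_rc_15_1 lc_d_rc_25_10 lc_d_rc_22_2 lc_d_rc_15_1 lc_d_rc_23_6 lc_d_rc_22_6 lc_d_Cert_tree lc_d_rc_25_10 lc_d_rc_3_3 lc_d_rc_15_1 lc_d_rc_8_3 lc_d_rc_15_1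 lc_d_rc_27_10 lc_d_rc_27_10 lc_d_rc_22_2 lc_d_rc_8_1 lc_d_rc_8_3 lc_d_rc_15_1 lc_d_rc_15_1 lc_d_rc_15_1 lc_d_rc_23_2 lc_d_rc_8_3 lc_d_rc_17_2 lc_d_rc_15_1 lc_d_rc_3_3 lc_d_rc_16_4 lc_d_rc_23_4 lc_d_rc_22_2 lc_d_rc_15_1 lc_d_rc_8_3 lc_d_rc_25_2 lc_d_rc_3_3 lc_d_rc_3_1 lc_d_rc_16_0 lc_d_rc_16_4 lc_d_rc_3_3 lc_d_rc_8_3 lc_d_rc_25_2 lc_d_rc_23_8 lc_d_rc_17_2 lc_d_rc_8_3 lc_d_rc_8_3 lc_d_rc_3_1 lc_d_rc_15_1 lc_d_rc_3_1 lc_d_rc_15_1 lc_d_rc_8_1 lc_d_rc_8_1 lc_d_rc_15_1 lc_d_rc_17_2 lc_d_rc_8_3) (@D3.rec (fun _ => (Cert rels S Gen.d)) lc_d_rc_25_18 lc_d_rc_22_6 lc_d_rc_3_1 lc_d_rc_15_1 lc_d_rc_15_1 lc_d_rc_27_4 lc_d_rc_24_5 lc_d_rc_27_10 lc_d_rc_15_1 lc_d_rc_3_3 lc_d_rc_22_4 lc_d_rc_8_3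 lc_d_rc_15_1 lc_d_rc_16_4 lc_d_rc_17_2 lc_d_rc_27_2 lc_d_rc_8_3 lc_d_rc_27_4 lc_d_rc_15_1 lc_d_rc_22_2 lc_d_rc_24_5 lc_d_rc_23_4 lc_d_rc_25_2 lc_d_rc_16_2 lc_d_rc_15_1 lc_d_rc_15_1 lc_d_rc_16_2 lc_d_rc_17_2 lc_d_rc_27_2 lc_d_rc_15_1 lc_d_rc_8_3 lc_d_rc_23_6 lc_d_rc_15_1 lc_d_rc_8_3 lc_d_rc_15_1 lc_d_rc_12_13 lc_d_rc_22_8 lc_d_rc_23_8 lc_d_rc_16_0 lc_d_rc_3_3 lc_d_rc_27_2 lc_d_rc_27_4 lc_d_rc_15_1 lc_d_rc_8_3 lc_d_rc_16_0 lc_d_rc_24_0 lc_d_rc_15_1 lc_d_rc_15_1 lc_d_rc_16_0 lc_d_rc_15_1 lc_d_rc_12_1 lc_d_rc_3_3 lc_d_rc_8_3 lc_d_rc_22_4 lc_d_rc_8_3 lc_d_rc_27_4 lc_d_rc_3_3 lc_d_rc_17_2 lc_d_rc_25_18 lc_d_rc_3_3 lc_d_rc_24_0 lc_d_rc_15_1) (@D3.rec (fun _ => (Cert rels S Gen.d))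 lc_d_rc_3_1 lc_d_rc_8_3 lc_d_rc_8_3 lc_d_rc_16_2 lc_d_rc_8_3 lc_d_rc_8_1 lc_d_Cert_tree lc_d_rc_22_2 lc_d_rc_3_3 lc_d_rc_17_2 lc_d_rc_15_1 lc_d_rc_17_2 lc_d_rc_15_1 lc_d_rc_8_3 lc_d_rc_27_4 lc_d_rc_15_1 lc_d_rc_16_0 lc_d_rc_22_4 lc_d_rc_15_1 lc_d_rc_15_1 lc_d_rc_16_2 lc_d_rc_24_5 lc_d_rc_17_2 lc_d_rc_16_4 lc_d_rc_15_1 lc_d_rc_3_3 lc_d_rc_15_1 lc_d_rc_15_1 lc_d_rc_15_1 lc_d_rc_24_0 lc_d_rc_12_7 lc_d_rc_16_2 lc_d_rc_8_1 lc_d_rc_27_2 lc_d_rc_17_2 lc_d_Cert_tree lc_d_rc_27_4 lc_d_rc_8_1 lc_d_Cert_tree lc_d_Cert_tree lc_d_rc_15_1 lc_d_rc_22_2 lc_d_rc_16_4 lc_d_rc_8_3 lc_d_rc_27_4 lc_d_rc_8_1 lc_d_rc_22_8 lc_d_Cert_tree lc_d_rc_15_1 lc_d_rc_15_1 lc_d_rc_8_3 lc_d_rc_23_8 lc_d_rc_25_2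 lc_d_rc_15_1 lc_d_rc_27_4 lc_d_rc_17_2 lc_d_rc_15_1 lc_d_rc_17_2 lc_d_rc_15_1 lc_d_rc_16_2 lc_d_rc_3_3 lc_d_rc_15_1) (@D3.rec (fun _ => (Cert rels S Gen.d)) lc_d_rc_22_4 lc_d_rc_23_2 lc_d_rc_15_1 lc_d_rc_3_1 lc_d_rc_17_2 lc_d_rc_23_2 lc_d_rc_23_2 lc_d_rc_22_4 lc_d_rc_15_1 lc_d_rc_17_2 lc_d_rc_15_1 lc_d_rc_27_2 lc_d_Cert_tree lc_d_rc_8_1 lc_d_rc_8_1 lc_d_rc_15_1 lc_d_Cert_tree lc_d_Cert_tree lc_d_Cert_tree lc_d_rc_27_4 lc_d_rc_15_1 lc_d_rc_25_2 lc_d_rc_25_2 lc_d_rc_17_2 lc_d_rc_22_6 lc_d_rc_16_4 lc_d_rc_15_1 lc_d_rc_27_2 lc_d_rc_23_2 lc_d_rc_16_2 lc_d_rc_22_6 lc_d_rc_16_2 lc_d_rc_23_2 lc_d_rc_15_1 lc_d_rc_15_1 lc_d_rc_16_2 lc_d_Cert_tree lc_d_rc_15_1 lc_d_rc_15_1 lc_d_rc_8_3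 lc_d_rc_8_3 lc_d_rc_15_1 lc_d_rc_8_3 lc_d_rc_15_1 lc_d_rc_8_3 lc_d_rc_16_2 lc_d_rc_22_2 lc_d_rc_15_1 lc_d_rc_24_0 lc_d_rc_15_1 lc_d_rc_15_1 lc_d_Cert_tree lc_d_rc_15_1 lc_d_rc_3_3 lc_d_Cert_tree lc_d_rc_15_1 lc_d_rc_27_4 lc_d_rc_16_4 lc_d_rc_23_4 lc_d_rc_16_2 lc_d_Cert_tree lc_d_rc_17_0) (@D3.rec (fun _ => (Cert rels S Gen.d)) lc_d_rc_15_1 lc_d_rc_17_0 lc_d_rc_23_6 lc_d_rc_23_6 lc_d_rc_17_2 lc_d_rc_15_1 lc_d_rc_16_2 lc_d_rc_23_2 lc_d_rc_27_2 lc_d_rc_15_1 lc_d_rc_15_1 lc_d_rc_3_3 lc_d_rc_27_4 lc_d_rc_15_1 lc_d_rc_22_2 lc_d_rc_16_4 lc_d_rc_23_2 lc_d_rc_15_1 lc_d_rc_16_0 lc_d_rc_15_1 lc_d_rc_23_6 lc_d_rc_22_6 lc_d_rc_15_1 lc_d_rc_24_5 lc_d_rc_22_2 lc_d_rc_15_1 lc_d_rc_27_4 lc_d_rc_22_6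 lc_d_rc_15_1 lc_d_rc_8_3 lc_d_rc_27_10 lc_d_rc_17_2 lc_d_rc_3_3 lc_d_Cert_tree lc_d_rc_23_8 lc_d_Cert_tree lc_d_rc_27_4 lc_d_rc_27_8 lc_d_rc_17_2 lc_d_rc_17_2 lc_d_rc_15_1 lc_d_rc_16_2 lc_d_rc_15_1 lc_d_rc_27_2 lc_d_rc_3_3 lc_d_rc_27_10 lc_d_rc_16_0 lc_d_rc_15_1 lc_d_rc_23_4 lc_d_rc_27_4 lc_d_rc_8_3 lc_d_rc_16_4 lc_d_rc_22_4 lc_d_rc_8_3 lc_d_rc_25_2 lc_d_rc_3_3 lc_d_rc_3_1 lc_d_rc_27_10 lc_d_rc_15_1 lc_d_rc_23_2 lc_d_rc_15_1 lc_d_rc_25_14) (@D3.rec (fun _ => (Cert rels S Gen.d)) lc_d_rc_23_2 lc_d_rc_12_1 lc_d_Cert_tree lc_d_rc_15_1 lc_d_rc_15_1 lc_d_rc_15_1 lc_d_rc_25_6 lc_d_rc_3_1 lc_d_Cert_tree lc_d_rc_15_1 lc_d_Cert_tree lc_d_rc_25_18 lc_d_rc_24_0 lc_d_rc_23_2 lc_d_Cert_tree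 lc_d_rc_22_2 lc_d_Cert_tree lc_d_rc_15_1 lc_d_rc_8_1 lc_d_rc_8_3 lc_d_rc_27_10 lc_d_rc_27_8 lc_d_rc_24_5 lc_d_rc_23_4 lc_d_rc_24_0 lc_d_rc_25_2 lc_d_Cert_tree lc_d_rc_15_1 lc_d_rc_15_1 lc_d_rc_16_2 lc_d_rc_25_2 lc_d_Cert_tree lc_d_Cert_tree lc_d_rc_17_2 lc_d_rc_8_3 lc_d_rc_8_1 lc_d_rc_16_4 lc_d_rc_16_4 lc_d_rc_23_4 lc_d_Cert_tree lc_d_rc_15_1 lc_d_rc_15_1 lc_d_rc_16_2 lc_d_rc_17_2 lc_d_Cert_tree lc_d_rc_15_1 lc_d_Cert_tree lc_d_rc_27_10 lc_d_rc_16_4 lc_d_rc_17_2 lc_d_rc_27_4 lc_d_rc_24_0 lc_d_rc_8_1 lc_d_rc_15_1 lc_d_Cert_tree lc_d_rc_15_1 lc_d_rc_27_10 lc_d_rc_15_1 lc_d_Cert_tree lc_d_rc_15_1 lc_d_rc_23_8 lc_d_rc_17_2) (@D3.rec (fun _ => (Cert rels S Gen.d)) lc_d_Cert_tree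 lc_d_rc_15_1 lc_d_rc_22_6 lc_d_Cert_tree lc_d_rc_15_1 lc_d_rc_24_5 lc_d_rc_24_0 lc_d_rc_15_1 lc_d_Cert_tree lc_d_rc_15_1 lc_d_Cert_tree lc_d_Cert_tree lc_d_Cert_tree lc_d_Cert_tree lc_d_rc_15_1 lc_d_Cert_tree lc_d_rc_16_4 lc_d_rc_8_3 lc_d_Cert_tree lc_d_rc_3_1 lc_d_rc_8_3 lc_d_rc_23_4 lc_d_rc_27_2 lc_d_Cert_tree lc_d_rc_8_3 lc_d_rc_17_2 lc_d_Cert_tree lc_d_rc_15_1 lc_d_Cert_tree lc_d_rc_23_2 lc_d_rc_24_0 lc_d_Cert_tree lc_d_Cert_tree lc_d_Cert_tree lc_d_rc_15_1 lc_d_rc_17_2 lc_d_Cert_tree lc_d_rc_15_1 lc_d_rc_27_2 lc_d_rc_15_1 lc_d_rc_27_2 lc_d_rc_15_1 lc_d_rc_16_2 lc_d_rc_16_0 lc_d_rc_22_2 lc_d_rc_15_1 lc_d_rc_8_3 lc_d_rc_24_5 lc_d_rc_15_1 lc_d_Cert_tree lc_d_rc_15_1 lc_d_rc_24_5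 lc_d_Cert_tree lc_d_rc_16_0 lc_d_rc_15_1 lc_d_rc_8_3 lc_d_rc_16_2 lc_d_rc_22_6 lc_d_Cert_tree lc_d_rc_15_1 lc_d_rc_16_2 lc_d_rc_8_1) (@D3.rec (fun _ => (Cert rels S Gen.d)) lc_d_rc_16_0 lc_d_rc_8_3 lc_d_rc_15_1 lc_d_rc_8_3 lc_d_rc_8_3 lc_d_rc_8_3 lc_d_Cert_tree lc_d_rc_12_15 lc_d_rc_15_1 lc_d_rc_25_2 lc_d_rc_15_1 lc_d_rc_22_4 lc_d_rc_15_1 lc_d_rc_15_1 lc_d_rc_15_1 lc_d_rc_12_15 lc_d_rc_22_6 lc_d_rc_27_2 lc_d_rc_15_1 lc_d_rc_24_5 lc_d_rc_24_5 lc_d_rc_3_3 lc_d_rc_23_8 lc_d_rc_27_2 lc_d_rc_3_3 lc_d_rc_23_4 lc_d_rc_8_3 lc_d_rc_16_0 lc_d_rc_27_4 lc_d_rc_24_5 lc_d_rc_27_4 lc_d_rc_8_3 lc_d_rc_8_3 lc_d_rc_27_4 lc_d_Cert_tree lc_d_rc_15_1 lc_d_Cert_tree lc_d_rc_22_2 lc_d_rc_16_0 lc_d_rc_15_1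 lc_d_rc_15_1 lc_d_rc_3_3 lc_d_rc_16_0 lc_d_rc_17_2 lc_d_rc_15_1 lc_d_rc_15_1 lc_d_rc_17_2 lc_d_rc_8_3 lc_d_rc_27_10 lc_d_rc_27_8 lc_d_rc_15_1 lc_d_rc_16_2 lc_d_rc_24_5 lc_d_rc_24_0 lc_d_rc_22_8 lc_d_rc_15_1 lc_d_rc_22_2 lc_d_rc_12_1 lc_d_rc_16_0 lc_d_rc_27_2 lc_d_rc_15_1 lc_d_rc_8_3) (@D3.rec (fun _ => (Cert rels S Gen.d)) lc_d_rc_16_2 lc_d_rc_23_4 lc_d_rc_25_2 lc_d_rc_15_1 lc_d_rc_16_2 lc_d_rc_24_0 lc_d_rc_15_1 lc_d_rc_8_3 lc_d_rc_27_4 lc_d_rc_8_3 lc_d_Cert_tree lc_d_rc_23_6 lc_d_rc_15_1 lc_d_Cert_tree lc_d_rc_24_5 lc_d_rc_23_6 lc_d_rc_23_4 lc_d_rc_17_2 lc_d_rc_8_3 lc_d_rc_23_4 lc_d_rc_15_1 lc_d_rc_16_4 lc_d_rc_23_6 lc_d_rc_17_2 lc_d_rc_15_1 lc_d_rc_15_1 lc_d_rc_17_2 lc_d_Cert_tree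 lc_d_rc_15_1 lc_d_Cert_tree lc_d_rc_22_4 lc_d_rc_23_8 lc_d_rc_16_0 lc_d_rc_15_1 lc_d_rc_23_8 lc_d_rc_16_2 lc_d_Cert_tree lc_d_rc_17_2 lc_d_rc_16_4 lc_d_Cert_tree lc_d_rc_27_4 lc_d_rc_17_2 lc_d_rc_8_3 lc_d_rc_16_4 lc_d_rc_24_5 lc_d_rc_24_0 lc_d_rc_15_1 lc_d_rc_16_0 lc_d_rc_15_1 lc_d_rc_27_10 lc_d_rc_12_15 lc_d_rc_15_1 lc_d_rc_23_2 lc_d_rc_27_2 lc_d_rc_12_15 lc_d_rc_15_1 lc_d_Cert_tree lc_d_rc_3_3 lc_d_rc_15_1 lc_d_rc_3_3 lc_d_rc_8_3 lc_d_rc_17_2) (@D3.rec (fun _ => (Cert rels S Gen.d)) lc_d_rc_17_2 lc_d_rc_16_4 lc_d_rc_22_4 lc_d_Cert_tree lc_d_rc_25_10 lc_d_rc_15_1 lc_d_rc_15_1 lc_d_rc_27_10 lc_d_rc_27_2 lc_d_rc_15_1 lc_d_rc_23_2 lc_d_rc_27_10 lc_d_rc_15_1 lc_d_rc_16_2 lc_d_rc_16_4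 lc_d_rc_15_1 lc_d_rc_16_2 lc_d_rc_25_2 lc_d_Cert_tree lc_d_rc_15_1 lc_d_rc_8_3 lc_d_rc_3_3 lc_d_Cert_tree lc_d_rc_15_1 lc_d_rc_3_3 lc_d_rc_15_1 lc_d_rc_8_3 lc_d_rc_17_2 lc_d_rc_15_1 lc_d_rc_17_0 lc_d_rc_3_3 lc_d_rc_27_2 lc_d_rc_15_1 lc_d_rc_15_1 lc_d_rc_16_2 lc_d_rc_15_1 lc_d_rc_16_0 lc_d_rc_15_1 lc_d_rc_23_6 lc_d_rc_27_2 lc_d_rc_24_5 lc_d_rc_15_1 lc_d_rc_27_2 lc_d_rc_15_1 lc_d_rc_3_1 lc_d_rc_22_6 lc_d_rc_17_2 lc_d_rc_17_2 lc_d_rc_15_1 lc_d_rc_27_4 lc_d_Cert_tree lc_d_rc_15_1 lc_d_rc_15_1 lc_d_rc_17_2 lc_d_rc_15_1 lc_d_rc_27_2 lc_d_rc_3_1 lc_d_rc_15_1 lc_d_rc_16_4 lc_d_rc_16_2 lc_d_Cert_tree lc_d_rc_24_0) (@D3.rec (fun _ => (Cert rels S Gen.d)) lc_d_rc_15_1 lc_d_rc_17_2 lc_d_Cert_tree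 lc_d_rc_15_1 lc_d_rc_15_1 lc_d_Cert_tree lc_d_rc_8_1 lc_d_rc_16_2 lc_d_rc_22_8 lc_d_rc_8_3 lc_d_rc_15_1 lc_d_rc_22_4 lc_d_rc_15_1 lc_d_rc_12_15 lc_d_rc_15_1 lc_d_rc_17_2 lc_d_rc_8_1 lc_d_rc_15_1 lc_d_rc_23_2 lc_d_rc_24_0 lc_d_rc_15_1 lc_d_rc_27_8 lc_d_rc_23_2 lc_d_rc_12_1 lc_d_Cert_tree lc_d_Cert_tree lc_d_rc_16_4 lc_d_rc_15_1 lc_d_rc_22_2 lc_d_rc_8_3 lc_d_rc_25_10 lc_d_rc_8_3 lc_d_rc_3_3 lc_d_rc_8_3 lc_d_rc_15_1 lc_d_rc_15_1 lc_d_rc_22_8 lc_d_rc_23_2 lc_d_rc_27_8 lc_d_rc_8_3 lc_d_rc_24_5 lc_d_rc_8_3 lc_d_rc_15_1 lc_d_Cert_tree lc_d_Cert_tree lc_d_rc_16_4 lc_d_rc_15_1 lc_d_Cert_tree lc_d_rc_3_3 lc_d_rc_17_2 lc_d_rc_15_1 lc_d_rc_16_0 lc_d_rc_17_2 lc_d_rc_8_3 lc_d_rc_16_4 lc_d_rc_23_4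 lc_d_Cert_tree lc_d_rc_24_0 lc_d_rc_15_1 lc_d_rc_27_2 lc_d_rc_15_1 lc_d_rc_27_8) (@D3.rec (fun _ => (Cert rels S Gen.d)) lc_d_rc_24_0 lc_d_rc_25_10 lc_d_rc_22_6 lc_d_rc_27_2 lc_d_rc_24_0 lc_d_rc_8_3 lc_d_rc_16_2 lc_d_rc_24_0 lc_d_rc_17_2 lc_d_rc_8_1 lc_d_rc_8_3 lc_d_rc_15_1 lc_d_rc_27_4 lc_d_Cert_tree lc_d_rc_8_1 lc_d_rc_15_1 lc_d_rc_27_2 lc_d_rc_8_3 lc_d_rc_8_3 lc_d_rc_23_4 lc_d_rc_15_1 lc_d_rc_25_18 lc_d_rc_24_0 lc_d_rc_15_1 lc_d_rc_15_1 lc_d_rc_15_1 lc_d_Cert_tree lc_d_rc_15_1 lc_d_rc_3_3 lc_d_Cert_tree lc_d_rc_17_2 lc_d_Cert_tree lc_d_rc_8_3 lc_d_Cert_tree lc_d_rc_15_1 lc_d_rc_23_2 lc_d_Cert_tree lc_d_rc_15_1 lc_d_rc_8_3 lc_d_rc_23_6 lc_d_rc_3_3 lc_d_Cert_tree lc_d_rc_16_2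 lc_d_rc_15_1 lc_d_rc_23_2 lc_d_rc_17_0 lc_d_rc_15_1 lc_d_rc_12_3 lc_d_rc_15_1 lc_d_rc_24_5 lc_d_rc_8_1 lc_d_rc_15_1 lc_d_rc_15_1 lc_d_rc_16_4 lc_d_rc_15_1 lc_d_rc_15_1 lc_d_rc_15_1 lc_d_rc_15_1 lc_d_rc_22_4 lc_d_rc_27_2 lc_d_rc_3_3 lc_d_rc_8_3) (@D3.rec (fun _ => (Cert rels S Gen.d)) lc_d_rc_15_1 lc_d_Cert_tree lc_d_rc_15_1 lc_d_rc_23_2 lc_d_rc_23_8 lc_d_rc_27_8 lc_d_rc_15_1 lc_d_rc_15_1 lc_d_rc_24_5 lc_d_rc_15_1 lc_d_rc_15_1 lc_d_rc_15_1 lc_d_rc_16_2 lc_d_rc_3_3 lc_d_rc_23_4 lc_d_rc_23_8 lc_d_rc_16_4 lc_d_rc_8_1 lc_d_rc_15_1 lc_d_rc_8_1 lc_d_rc_15_1 lc_d_rc_8_3 lc_d_rc_3_3 lc_d_rc_23_8 lc_d_rc_15_1 lc_d_rc_22_2 lc_d_rc_8_1 lc_d_rc_23_6 lc_d_rc_17_0 lc_d_rc_15_1 lc_d_rc_8_1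 lc_d_rc_12_1 lc_d_rc_17_0 lc_d_rc_16_0 lc_d_rc_8_1 lc_d_rc_15_1 lc_d_rc_17_2 lc_d_rc_8_1 lc_d_rc_23_4 lc_d_rc_15_1 lc_d_rc_27_8 lc_d_rc_16_4 lc_d_rc_27_2 lc_d_Cert_tree lc_d_rc_15_1 lc_d_rc_22_4 lc_d_rc_15_1 lc_d_Cert_tree lc_d_rc_8_1 lc_d_rc_15_1 lc_d_rc_27_8 lc_d_rc_8_3 lc_d_rc_17_2 lc_d_rc_15_1 lc_d_rc_16_2 lc_d_rc_8_3 lc_d_rc_22_4 lc_d_rc_3_3 lc_d_rc_17_2 lc_d_rc_23_4 lc_d_rc_15_1 lc_d_rc_16_2) (@D3.rec (fun _ => (Cert rels S Gen.d)) lc_d_Cert_tree lc_d_rc_15_1 lc_d_rc_12_15 lc_d_rc_23_2 lc_d_rc_15_1 lc_d_Cert_tree lc_d_rc_15_1 lc_d_rc_23_2 lc_d_Cert_tree lc_d_rc_15_1 lc_d_rc_16_2 lc_d_rc_27_2 lc_d_rc_15_1 lc_d_rc_15_1 lc_d_rc_17_0 lc_d_rc_3_3 lc_d_rc_17_2 lc_d_rc_15_1 lc_d_rc_27_8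 lc_d_rc_15_1 lc_d_rc_16_4 lc_d_Cert_tree lc_d_rc_12_15 lc_d_Cert_tree lc_d_rc_8_3 lc_d_rc_24_5 lc_d_rc_27_4 lc_d_rc_15_1 lc_d_rc_23_6 lc_d_rc_8_3 lc_d_rc_17_0 lc_d_Cert_tree lc_d_rc_23_6 lc_d_rc_15_1 lc_d_rc_16_0 lc_d_rc_3_3 lc_d_rc_16_4 lc_d_Cert_tree lc_d_rc_8_3 lc_d_rc_15_1 lc_d_rc_27_4 lc_d_rc_15_1 lc_d_rc_15_1 lc_d_rc_24_0 lc_d_rc_15_1 lc_d_rc_15_1 lc_d_rc_27_4 lc_d_rc_22_8 lc_d_rc_27_8 lc_d_rc_15_1 lc_d_rc_15_1 lc_d_rc_23_2 lc_d_rc_27_4 lc_d_rc_17_2 lc_d_rc_15_1 lc_d_Cert_tree lc_d_rc_15_1 lc_d_rc_16_2 lc_d_rc_22_2 lc_d_rc_22_6 lc_d_rc_15_1 lc_d_Cert_tree) (@D3.rec (fun _ => (Cert rels S Gen.d)) lc_d_rc_27_4 lc_d_rc_24_5 lc_d_rc_15_1 lc_d_rc_23_6 lc_d_Cert_tree lc_d_rc_15_1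 lc_d_rc_23_8 lc_d_rc_8_3 lc_d_rc_17_2 lc_d_rc_27_8 lc_d_rc_27_4 lc_d_rc_15_1 lc_d_rc_15_1 lc_d_rc_15_1 lc_d_rc_24_0 lc_d_rc_16_4 lc_d_rc_3_3 lc_d_rc_27_4 lc_d_rc_24_5 lc_d_rc_15_1 lc_d_rc_15_1 lc_d_rc_15_1 lc_d_rc_12_9 lc_d_rc_16_4 lc_d_rc_22_8 lc_d_rc_15_1 lc_d_rc_17_0 lc_d_rc_15_1 lc_d_rc_24_0 lc_d_rc_8_3 lc_d_rc_15_1 lc_d_rc_22_4 lc_d_rc_15_1 lc_d_rc_16_0 lc_d_rc_27_4 lc_d_rc_24_0 lc_d_rc_8_1 lc_d_rc_8_3 lc_d_rc_23_2 lc_d_rc_23_2 lc_d_rc_15_1 lc_d_rc_27_2 lc_d_Cert_tree lc_d_rc_8_3 lc_d_rc_8_1 lc_d_rc_27_10 lc_d_Cert_tree lc_d_rc_15_1 lc_d_rc_23_2 lc_d_rc_22_6 lc_d_rc_17_2 lc_d_rc_27_4 lc_d_rc_22_4 lc_d_rc_8_3 lc_d_rc_15_1 lc_d_rc_22_2 lc_d_rc_24_0 lc_d_rc_24_0 lc_d_rc_15_1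 lc_d_rc_27_4 lc_d_rc_17_2 lc_d_rc_15_1) (@D3.rec (fun _ => (Cert rels S Gen.d)) lc_d_Cert_tree lc_d_rc_15_1 lc_d_rc_27_2 lc_d_rc_27_8 lc_d_rc_15_1 lc_d_rc_8_1 lc_d_rc_24_5 lc_d_rc_15_1 lc_d_Cert_tree lc_d_rc_15_1 lc_d_rc_15_1 lc_d_rc_22_4 lc_d_Cert_tree lc_d_rc_23_6 lc_d_rc_23_8 lc_d_rc_15_1 lc_d_Cert_tree lc_d_rc_3_1 lc_d_rc_17_2 lc_d_rc_23_8 lc_d_rc_23_8 lc_d_rc_15_1 lc_d_Cert_tree lc_d_rc_15_1 lc_d_rc_22_8 lc_d_rc_8_3 lc_d_rc_17_0 lc_d_rc_23_2 lc_d_rc_15_1 lc_d_rc_16_4 lc_d_rc_16_2 lc_d_rc_16_0 lc_d_rc_15_1 lc_d_rc_8_1 lc_d_rc_16_2 lc_d_rc_22_6 lc_d_rc_8_1 lc_d_rc_15_1 lc_d_rc_8_1 lc_d_rc_15_1 lc_d_rc_23_6 lc_d_rc_17_2 lc_d_rc_23_8 lc_d_Cert_tree lc_d_rc_15_1 lc_d_rc_25_6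 lc_d_rc_16_4 lc_d_rc_12_15 lc_d_rc_15_1 lc_d_rc_23_4 lc_d_rc_17_2 lc_d_rc_16_4 lc_d_rc_24_0 lc_d_rc_8_1 lc_d_rc_16_4 lc_d_rc_8_3 lc_d_rc_16_4 lc_d_rc_15_1 lc_d_rc_22_4 lc_d_rc_15_1 lc_d_rc_16_2 lc_d_rc_22_6) (@D3.rec (fun _ => (Cert rels S Gen.d)) lc_d_rc_22_4 lc_d_rc_27_4 lc_d_rc_16_4 lc_d_rc_24_0 lc_d_rc_16_4 lc_d_rc_17_2 lc_d_Cert_tree lc_d_rc_27_10 lc_d_rc_15_1 lc_d_rc_17_2 lc_d_rc_8_3 lc_d_rc_22_4 lc_d_rc_22_2 lc_d_rc_15_1 lc_d_rc_17_2 lc_d_rc_15_1 lc_d_rc_8_3 lc_d_rc_24_0 lc_d_rc_15_1 lc_d_rc_17_2 lc_d_Cert_tree lc_d_rc_15_1 lc_d_rc_25_6 lc_d_rc_17_2 lc_d_rc_3_1 lc_d_rc_15_1 lc_d_rc_8_3 lc_d_rc_16_2 lc_d_rc_16_2 lc_d_rc_23_4 lc_d_rc_23_4 lc_d_rc_8_3 lc_d_Cert_tree lc_d_rc_27_10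 lc_d_rc_16_4 lc_d_Cert_tree lc_d_rc_15_1 lc_d_rc_17_2 lc_d_rc_15_1 lc_d_rc_8_3 lc_d_Cert_tree lc_d_rc_15_1 lc_d_Cert_tree lc_d_rc_25_18 lc_d_Cert_tree lc_d_Cert_tree lc_d_rc_15_1 lc_d_rc_27_4 lc_d_rc_22_2 lc_d_rc_16_4 lc_d_rc_16_0 lc_d_rc_16_4 lc_d_rc_3_3 lc_d_rc_3_1 lc_d_rc_24_0 lc_d_Cert_tree lc_d_rc_15_1 lc_d_rc_17_2 lc_d_Cert_tree lc_d_rc_16_4 lc_d_rc_27_4 lc_d_rc_25_2) (@D3.rec (fun _ => (Cert rels S Gen.d)) lc_d_rc_27_8 lc_d_rc_8_3 lc_d_rc_15_1 lc_d_rc_17_2 lc_d_rc_15_1 lc_d_rc_23_4 lc_d_rc_15_1 lc_d_rc_27_4 lc_d_rc_8_3 lc_d_rc_16_4 lc_d_rc_15_1 lc_d_rc_15_1 lc_d_rc_24_5 lc_d_rc_16_4 lc_d_rc_15_1 lc_d_rc_8_3 lc_d_rc_27_2 lc_d_rc_17_2 lc_d_rc_27_10 lc_d_rc_22_6 lc_d_rc_3_3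 lc_d_rc_8_3 lc_d_rc_16_4 lc_d_rc_23_4 lc_d_rc_3_3 lc_d_rc_22_2 lc_d_rc_25_14 lc_d_rc_16_2 lc_d_rc_15_1 lc_d_rc_15_1 lc_d_rc_15_1 lc_d_rc_27_4 lc_d_rc_17_2 lc_d_rc_15_1 lc_d_rc_15_1 lc_d_rc_27_8 lc_d_rc_8_3 lc_d_rc_16_2 lc_d_rc_15_1 lc_d_rc_15_1 lc_d_rc_15_1 lc_d_rc_17_2 lc_d_rc_15_1 lc_d_rc_25_18 lc_d_Cert_tree lc_d_rc_15_1 lc_d_rc_15_1 lc_d_Cert_tree lc_d_rc_27_8 lc_d_rc_8_3 lc_d_rc_15_1 lc_d_rc_27_4 lc_d_rc_15_1 lc_d_rc_17_2 lc_d_rc_15_1 lc_d_rc_8_3 lc_d_rc_27_8 lc_d_rc_24_5 lc_d_rc_17_2 lc_d_rc_17_0 lc_d_rc_15_1 lc_d_rc_27_2) (@D3.rec (fun _ => (Cert rels S Gen.d)) lc_d_rc_8_3 lc_d_rc_17_2 lc_d_rc_15_1 lc_d_Cert_tree lc_d_rc_15_1 lc_d_rc_27_8 lc_d_rc_15_1 lc_d_rc_15_1 lc_d_Cert_tree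 lc_d_rc_17_2 lc_d_rc_15_1 lc_d_rc_15_1 lc_d_rc_23_4 lc_d_rc_3_1 lc_d_rc_15_1 lc_d_rc_15_1 lc_d_Cert_tree lc_d_rc_25_18 lc_d_rc_8_3 lc_d_rc_15_1 lc_d_rc_15_1 lc_d_rc_15_1 lc_d_rc_15_1 lc_d_rc_15_1 lc_d_Cert_tree lc_d_rc_15_1 lc_d_rc_25_14 lc_d_rc_15_1 lc_d_rc_23_2 lc_d_rc_15_1 lc_d_rc_16_4 lc_d_rc_8_3 lc_d_rc_16_0 lc_d_rc_15_1 lc_d_rc_27_4 lc_d_rc_24_5 lc_d_rc_15_1 lc_d_Cert_tree lc_d_rc_15_1 lc_d_rc_22_6 lc_d_rc_23_6 lc_d_rc_23_4 lc_d_Cert_tree lc_d_rc_15_1 lc_d_rc_23_6 lc_d_rc_23_4 lc_d_rc_12_3 lc_d_rc_15_1 lc_d_rc_24_5 lc_d_rc_24_5 lc_d_Cert_tree lc_d_rc_22_2 lc_d_rc_15_1 lc_d_rc_16_4 lc_d_rc_15_1 lc_d_rc_15_1 lc_d_rc_3_3 lc_d_Cert_tree lc_d_rc_16_0 lc_d_rc_15_1 lc_d_rc_12_3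 lc_d_rc_15_1) (@D3.rec (fun _ => (Cert rels S Gen.d)) lc_d_rc_15_1 lc_d_rc_15_1 lc_d_rc_15_1 lc_d_rc_16_4 lc_d_rc_15_1 lc_d_rc_15_1 lc_d_rc_15_1 lc_d_rc_16_2 lc_d_rc_23_8 lc_d_rc_15_1 lc_d_rc_3_3 lc_d_rc_8_3 lc_d_rc_23_2 lc_d_rc_15_1 lc_d_Cert_tree lc_d_rc_23_4 lc_d_Cert_tree lc_d_rc_15_1 lc_d_rc_15_1 lc_d_rc_23_8 lc_d_Cert_tree lc_d_rc_15_1 lc_d_rc_15_1 lc_d_rc_15_1 lc_d_rc_15_1 lc_d_rc_8_3 lc_d_rc_17_2 lc_d_rc_3_3 lc_d_rc_15_1 lc_d_rc_16_4 lc_d_rc_17_2 lc_d_rc_16_2 lc_d_rc_8_1 lc_d_rc_15_1 lc_d_rc_22_8 lc_d_rc_8_3 lc_d_rc_15_1 lc_d_rc_15_1 lc_d_rc_15_1 lc_d_rc_27_4 lc_d_rc_3_3 lc_d_rc_15_1 lc_d_rc_27_4 lc_d_rc_23_6 lc_d_rc_22_4 lc_d_rc_17_2 lc_d_rc_16_4 lc_d_rc_16_4 lc_d_rc_16_2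 lc_d_rc_8_3 lc_d_rc_17_0 lc_d_rc_15_1 lc_d_rc_8_3 lc_d_Cert_tree lc_d_Cert_tree lc_d_rc_15_1 lc_d_rc_17_2 lc_d_Cert_tree lc_d_rc_15_1 lc_d_rc_27_10 lc_d_rc_15_1 lc_d_rc_15_1) (@D3.rec (fun _ => (Cert rels S Gen.d)) lc_d_rc_16_0 lc_d_rc_15_1 lc_d_rc_22_4 lc_d_rc_22_8 lc_d_rc_15_1 lc_d_rc_8_3 lc_d_Cert_tree lc_d_rc_24_0 lc_d_rc_22_2 lc_d_rc_15_1 lc_d_rc_15_1 lc_d_rc_22_4 lc_d_Cert_tree lc_d_rc_15_1 lc_d_Cert_tree lc_d_rc_16_4 lc_d_rc_3_3 lc_d_rc_15_1 lc_d_rc_15_1 lc_d_rc_22_4 lc_d_rc_15_1 lc_d_rc_17_2 lc_d_rc_23_8 lc_d_rc_15_1 lc_d_rc_15_1 lc_d_rc_3_3 lc_d_rc_23_8 lc_d_rc_15_1 lc_d_rc_17_2 lc_d_rc_15_1 lc_d_rc_15_1 lc_d_rc_3_3 lc_d_rc_16_0 lc_d_rc_15_1 lc_d_rc_8_3 lc_d_rc_16_0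 lc_d_rc_24_5 lc_d_rc_3_3 lc_d_Cert_tree lc_d_rc_17_2 lc_d_rc_15_1 lc_d_rc_3_3 lc_d_Cert_tree lc_d_rc_27_2 lc_d_rc_16_2 lc_d_rc_27_4 lc_d_rc_15_1 lc_d_rc_16_4 lc_d_rc_8_3 lc_d_rc_25_14 lc_d_rc_23_8 lc_d_rc_15_1 lc_d_rc_15_1 lc_d_rc_15_1 lc_d_rc_15_1 lc_d_rc_3_3 lc_d_rc_17_2 lc_d_rc_17_0 lc_d_rc_17_2 lc_d_rc_15_1 lc_d_rc_15_1 lc_d_rc_24_5) (@D3.rec (fun _ => (Cert rels S Gen.d)) lc_d_rc_27_2 lc_d_rc_23_4 lc_d_rc_8_3 lc_d_rc_23_4 lc_d_rc_8_1 lc_d_rc_25_14 lc_d_rc_23_8 lc_d_rc_17_2 lc_d_rc_15_1 lc_d_rc_27_2 lc_d_Cert_tree lc_d_rc_16_2 lc_d_rc_27_8 lc_d_rc_15_1 lc_d_rc_23_6 lc_d_Cert_tree lc_d_rc_15_1 lc_d_rc_8_3 lc_d_rc_15_1 lc_d_rc_17_2 lc_d_rc_8_3 lc_d_Cert_tree lc_d_rc_17_2 lc_d_rc_15_1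 lc_d_rc_27_4 lc_d_rc_24_0 lc_d_Cert_tree lc_d_rc_15_1 lc_d_rc_27_10 lc_d_rc_16_4 lc_d_rc_16_4 lc_d_rc_27_4 lc_d_rc_16_4 lc_d_Cert_tree lc_d_rc_15_1 lc_d_Cert_tree lc_d_rc_15_1 lc_d_rc_22_2 lc_d_Cert_tree lc_d_rc_15_1 lc_d_Cert_tree lc_d_Cert_tree lc_d_rc_15_1 lc_d_rc_23_4 lc_d_rc_22_6 lc_d_rc_16_4 lc_d_rc_23_2 lc_d_rc_15_1 lc_d_rc_15_1 lc_d_Cert_tree lc_d_rc_15_1 lc_d_rc_27_4 lc_d_rc_15_1 lc_d_rc_15_1 lc_d_rc_27_4 lc_d_rc_15_1 lc_d_rc_23_8 lc_d_rc_23_4 lc_d_rc_24_0 lc_d_rc_17_2 lc_d_rc_15_1 lc_d_rc_15_1) (@D3.rec (fun _ => (Cert rels S Gen.d)) lc_d_rc_23_2 lc_d_rc_15_1 lc_d_rc_8_3 lc_d_rc_15_1 lc_d_rc_24_5 lc_d_rc_15_1 lc_d_rc_15_1 lc_d_rc_15_1 lc_d_rc_15_1 lc_d_rc_16_4 lc_d_Cert_tree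 lc_d_rc_15_1 lc_d_rc_24_0 lc_d_rc_23_6 lc_d_rc_15_1 lc_d_rc_15_1 lc_d_rc_17_2 lc_d_rc_8_3 lc_d_rc_15_1 lc_d_rc_15_1 lc_d_rc_17_2 lc_d_rc_15_1 lc_d_rc_22_8 lc_d_rc_17_2 lc_d_rc_15_1 lc_d_rc_24_5 lc_d_rc_15_1 lc_d_rc_15_1 lc_d_rc_3_1 lc_d_rc_8_3 lc_d_rc_16_4 lc_d_rc_17_2 lc_d_rc_15_1 lc_d_Cert_tree lc_d_rc_15_1 lc_d_rc_27_2 lc_d_rc_15_1 lc_d_rc_24_0 lc_d_rc_8_3 lc_d_rc_15_1 lc_d_rc_24_5 lc_d_rc_15_1 lc_d_rc_27_10 lc_d_rc_15_1 lc_d_rc_23_8 lc_d_rc_15_1 lc_d_rc_15_1 lc_d_rc_22_8 lc_d_rc_17_2 lc_d_rc_16_2 lc_d_rc_15_1 lc_d_rc_16_2 lc_d_rc_15_1 lc_d_Cert_tree lc_d_rc_15_1 lc_d_rc_22_2 lc_d_rc_27_10 lc_d_rc_8_3 lc_d_rc_8_1 lc_d_Cert_tree lc_d_rc_15_1 lc_d_rc_23_2) (@D3.rec (fun _ =>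 (Cert rels S Gen.d)) lc_d_rc_15_1 lc_d_rc_15_1 lc_d_rc_15_1 lc_d_rc_15_1 lc_d_rc_15_1 lc_d_rc_27_4 lc_d_rc_8_3 lc_d_rc_23_6 lc_d_rc_15_1 lc_d_rc_8_3 lc_d_rc_24_5 lc_d_rc_16_4 lc_d_rc_8_3 lc_d_Cert_tree lc_d_rc_15_1 lc_d_rc_15_1 lc_d_rc_24_0 lc_d_rc_27_10 lc_d_rc_3_3 lc_d_rc_23_8 lc_d_rc_15_1 lc_d_rc_17_2 lc_d_rc_3_3 lc_d_Cert_tree lc_d_rc_23_8 lc_d_rc_15_1 lc_d_Cert_tree lc_d_rc_8_3 lc_d_rc_3_1 lc_d_rc_23_2 lc_d_rc_15_1 lc_d_rc_15_1 lc_d_rc_15_1 lc_d_rc_15_1 lc_d_rc_15_1 lc_d_Cert_tree lc_d_rc_3_1 lc_d_rc_16_4 lc_d_rc_15_1 lc_d_rc_16_4 lc_d_rc_15_1 lc_d_rc_17_2 lc_d_rc_15_1 lc_d_rc_15_1 lc_d_rc_22_4 lc_d_rc_16_4 lc_d_rc_23_8 lc_d_rc_23_8 lc_d_rc_16_4 lc_d_rc_15_1 lc_d_rc_17_2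 lc_d_rc_17_0 lc_d_rc_15_1 lc_d_Cert_tree lc_d_rc_24_0 lc_d_rc_15_1 lc_d_rc_15_1 lc_d_rc_22_8 lc_d_rc_22_6 lc_d_Cert_tree lc_d_rc_15_1 lc_d_Cert_tree) (@D3.rec (fun _ => (Cert rels S Gen.d)) lc_d_rc_15_1 lc_d_rc_22_2 lc_d_rc_24_0 lc_d_rc_8_3 lc_d_rc_15_1 lc_d_Cert_tree lc_d_rc_24_5 lc_d_rc_15_1 lc_d_rc_22_6 lc_d_rc_16_4 lc_d_rc_8_1 lc_d_rc_15_1 lc_d_Cert_tree lc_d_rc_15_1 lc_d_rc_22_6 lc_d_rc_15_1 lc_d_rc_16_2 lc_d_rc_8_1 lc_d_rc_15_1 lc_d_rc_16_4 lc_d_rc_23_8 lc_d_rc_15_1 lc_d_Cert_tree lc_d_rc_15_1 lc_d_rc_8_1 lc_d_rc_24_5 lc_d_rc_8_3 lc_d_rc_16_4 lc_d_rc_15_1 lc_d_rc_15_1 lc_d_rc_16_2 lc_d_rc_23_2 lc_d_rc_16_2 lc_d_rc_22_6 lc_d_Cert_tree lc_d_rc_15_1 lc_d_rc_17_2 lc_d_rc_8_3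 lc_d_Cert_tree lc_d_rc_15_1 lc_d_rc_15_1 lc_d_rc_27_4 lc_d_rc_3_3 lc_d_rc_24_5 lc_d_rc_15_1 lc_d_rc_27_4 lc_d_rc_8_1 lc_d_rc_15_1 lc_d_rc_15_1 lc_d_rc_23_6 lc_d_Cert_tree lc_d_rc_25_14 lc_d_rc_23_2 lc_d_rc_15_1 lc_d_rc_22_6 lc_d_rc_15_1 lc_d_rc_16_2 lc_d_Cert_tree lc_d_rc_27_4 lc_d_rc_22_4 lc_d_rc_24_0 lc_d_rc_15_1) (@D3.rec (fun _ => (Cert rels S Gen.d)) lc_d_rc_8_1 lc_d_Cert_tree lc_d_Cert_tree lc_d_rc_15_1 lc_d_rc_17_2 lc_d_rc_27_4 lc_d_rc_17_2 lc_d_Cert_tree lc_d_Cert_tree lc_d_rc_15_1 lc_d_rc_17_2 lc_d_Cert_tree lc_d_rc_15_1 lc_d_rc_27_4 lc_d_rc_8_3 lc_d_rc_15_1 lc_d_Cert_tree lc_d_rc_15_1 lc_d_rc_17_2 lc_d_rc_17_2 lc_d_rc_16_4 lc_d_rc_16_4 lc_d_rc_22_8 lc_d_rc_8_3 lc_d_rc_16_4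 lc_d_rc_15_1 lc_d_rc_3_3 lc_d_rc_16_2 lc_d_rc_17_2 lc_d_Cert_tree lc_d_rc_23_4 lc_d_rc_15_1 lc_d_rc_17_2 lc_d_rc_27_10 lc_d_rc_8_3 lc_d_rc_8_3 lc_d_rc_15_1 lc_d_rc_16_2 lc_d_rc_15_1 lc_d_rc_15_1 lc_d_rc_17_2 lc_d_rc_24_5 lc_d_rc_15_1 lc_d_rc_8_3 lc_d_rc_15_1 lc_d_rc_27_10 lc_d_rc_16_4 lc_d_rc_27_4 lc_d_Cert_tree lc_d_rc_15_1 lc_d_rc_25_6 lc_d_rc_15_1 lc_d_rc_22_2 lc_d_rc_15_1 lc_d_rc_22_2 lc_d_rc_15_1 lc_d_rc_27_8 lc_d_rc_23_4 lc_d_rc_15_1 lc_d_rc_27_4 lc_d_rc_17_2 lc_d_rc_22_8) (@D3.rec (fun _ => (Cert rels S Gen.d)) lc_d_rc_16_0 lc_d_rc_24_0 lc_d_rc_15_1 lc_d_rc_23_2 lc_d_rc_15_1 lc_d_Cert_tree lc_d_rc_16_0 lc_d_rc_16_4 lc_d_rc_15_1 lc_d_rc_8_3 lc_d_rc_15_1 lc_d_rc_8_3 lc_d_Cert_tree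 lc_d_rc_15_1 lc_d_rc_22_6 lc_d_rc_22_6 lc_d_Cert_tree lc_d_Cert_tree lc_d_Cert_tree lc_d_rc_15_1 lc_d_rc_17_2 lc_d_rc_15_1 lc_d_rc_3_1 lc_d_rc_15_1 lc_d_Cert_tree lc_d_rc_17_2 lc_d_rc_3_3 lc_d_rc_16_2 lc_d_rc_23_2 lc_d_rc_22_2 lc_d_rc_15_1 lc_d_rc_27_8 lc_d_rc_24_0 lc_d_rc_8_3 lc_d_rc_15_1 lc_d_rc_15_1 lc_d_rc_17_0 lc_d_rc_3_3 lc_d_rc_15_1 lc_d_rc_27_4 lc_d_rc_17_2 lc_d_rc_15_1 lc_d_rc_17_0 lc_d_rc_3_3 lc_d_Cert_tree lc_d_rc_17_2 lc_d_rc_16_0 lc_d_rc_24_0 lc_d_rc_15_1 lc_d_rc_17_2 lc_d_rc_27_4 lc_d_rc_17_2 lc_d_rc_15_1 lc_d_rc_27_4 lc_d_rc_16_2 lc_d_rc_27_2 lc_d_rc_17_2 lc_d_rc_25_18 lc_d_rc_3_3 lc_d_rc_15_1 lc_d_rc_8_3 lc_d_rc_23_4) (@D3.rec (fun _ => (Cert rels S Gen.d)) lc_d_rc_15_1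 lc_d_rc_8_3 lc_d_rc_8_3 lc_d_rc_15_1 lc_d_rc_22_2 lc_d_Cert_tree lc_d_rc_17_0 lc_d_rc_17_0 lc_d_rc_27_10 lc_d_rc_15_1 lc_d_rc_8_3 lc_d_rc_15_1 lc_d_rc_15_1 lc_d_rc_27_4 lc_d_rc_23_4 lc_d_rc_15_1 lc_d_rc_15_1 lc_d_rc_23_4 lc_d_rc_17_2 lc_d_rc_8_3 lc_d_rc_8_1 lc_d_rc_23_2 lc_d_rc_8_3 lc_d_rc_15_1 lc_d_rc_16_4 lc_d_rc_8_3 lc_d_rc_22_2 lc_d_rc_15_1 lc_d_rc_15_1 lc_d_rc_15_1 lc_d_rc_17_2 lc_d_rc_16_0 lc_d_rc_15_1 lc_d_rc_15_1 lc_d_rc_17_2 lc_d_rc_22_2 lc_d_rc_16_4 lc_d_rc_17_0 lc_d_rc_27_8 lc_d_rc_16_0 lc_d_rc_8_3 lc_d_rc_17_2 lc_d_rc_17_0 lc_d_rc_15_1 lc_d_rc_22_2 lc_d_rc_15_1 lc_d_rc_25_14 lc_d_rc_16_0 lc_d_rc_27_10 lc_d_rc_15_1 lc_d_rc_23_6 lc_d_rc_24_0 lc_d_rc_16_2 lc_d_rc_22_6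 lc_d_rc_27_10 lc_d_rc_15_1 lc_d_rc_16_2 lc_d_rc_23_2 lc_d_rc_16_4 lc_d_rc_22_4 lc_d_rc_15_1 lc_d_rc_15_1) (@D3.rec (fun _ => (Cert rels S Gen.d)) lc_d_rc_16_2 lc_d_rc_17_2 lc_d_rc_23_6 lc_d_rc_27_10 lc_d_rc_15_1 lc_d_rc_17_2 lc_d_rc_27_10 lc_d_rc_16_4 lc_d_rc_17_2 lc_d_rc_15_1 lc_d_rc_15_1 lc_d_rc_15_1 lc_d_rc_22_8 lc_d_rc_15_1 lc_d_rc_23_8 lc_d_rc_24_0 lc_d_Cert_tree lc_d_rc_27_10 lc_d_rc_23_2 lc_d_rc_15_1 lc_d_rc_17_2 lc_d_Cert_tree lc_d_rc_17_2 lc_d_rc_16_4 lc_d_Cert_tree lc_d_rc_8_1 lc_d_rc_8_1 lc_d_rc_3_3 lc_d_rc_23_8 lc_d_rc_15_1 lc_d_rc_17_2 lc_d_Cert_tree lc_d_rc_23_8 lc_d_rc_15_1 lc_d_rc_27_10 lc_d_rc_17_2 lc_d_rc_27_2 lc_d_rc_16_0 lc_d_rc_16_4 lc_d_rc_23_6 lc_d_rc_8_3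 lc_d_rc_23_8 lc_d_rc_27_10 lc_d_rc_15_1 lc_d_rc_8_3 lc_d_rc_27_10 lc_d_rc_15_1 lc_d_rc_16_2 lc_d_rc_23_8 lc_d_rc_15_1 lc_d_Cert_tree lc_d_rc_15_1 lc_d_rc_8_3 lc_d_rc_24_0 lc_d_rc_15_1 lc_d_Cert_tree lc_d_rc_15_1 lc_d_rc_8_3 lc_d_rc_22_4 lc_d_rc_12_13 lc_d_rc_8_1 lc_d_Cert_tree) (@D3.rec (fun _ => (Cert rels S Gen.d)) lc_d_rc_16_2 lc_d_rc_8_3 lc_d_rc_27_8 lc_d_rc_15_1 lc_d_rc_17_2 lc_d_rc_16_2 lc_d_rc_15_1 lc_d_rc_8_3 lc_d_rc_8_3 lc_d_rc_27_4 lc_d_rc_23_4 lc_d_rc_27_4 lc_d_rc_17_2 lc_d_rc_27_2 lc_d_rc_27_2 lc_d_rc_15_1 lc_d_rc_27_4 lc_d_rc_3_1 lc_d_rc_17_2 lc_d_rc_17_0 lc_d_Cert_tree lc_d_rc_27_2 lc_d_rc_25_10 lc_d_rc_15_1 lc_d_rc_16_4 lc_d_rc_15_1 lc_d_rc_27_8 lc_d_rc_27_4 lc_d_rc_3_1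 lc_d_rc_15_1 lc_d_rc_23_4 lc_d_rc_8_1 lc_d_rc_16_2 lc_d_rc_15_1 lc_d_rc_16_0 lc_d_rc_16_4 lc_d_rc_15_1 lc_d_rc_27_4 lc_d_rc_15_1 lc_d_rc_16_4 lc_d_rc_15_1 lc_d_rc_15_1 lc_d_rc_23_4 lc_d_rc_23_6 lc_d_rc_15_1 lc_d_Cert_tree lc_d_rc_23_4 lc_d_rc_15_1 lc_d_Cert_tree lc_d_rc_23_6 lc_d_rc_22_4 lc_d_rc_24_0 lc_d_rc_17_2 lc_d_rc_27_2 lc_d_rc_15_1 lc_d_rc_27_2 lc_d_rc_15_1 lc_d_rc_27_8 lc_d_rc_15_1 lc_d_rc_15_1 lc_d_rc_15_1 lc_d_rc_27_4) (@D3.rec (fun _ => (Cert rels S Gen.d)) lc_d_rc_17_2 lc_d_rc_15_1 lc_d_rc_27_8 lc_d_rc_15_1 lc_d_rc_8_3 lc_d_rc_17_2 lc_d_rc_15_1 lc_d_Cert_tree lc_d_Cert_tree lc_d_rc_16_4 lc_d_Cert_tree lc_d_Cert_tree lc_d_Cert_tree lc_d_Cert_tree lc_d_rc_15_1 lc_d_rc_15_1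 lc_d_rc_27_4 lc_d_Cert_tree lc_d_rc_15_1 lc_d_rc_15_1 lc_d_rc_27_4 lc_d_rc_15_1 lc_d_rc_15_1 lc_d_Cert_tree lc_d_rc_22_2 lc_d_rc_17_2 lc_d_rc_22_2 lc_d_rc_8_1 lc_d_Cert_tree lc_d_rc_15_1 lc_d_rc_22_2 lc_d_Cert_tree lc_d_rc_15_1 lc_d_rc_15_1 lc_d_Cert_tree lc_d_rc_15_1 lc_d_Cert_tree lc_d_rc_15_1 lc_d_Cert_tree lc_d_Cert_tree lc_d_rc_15_1 lc_d_rc_24_5 lc_d_rc_15_1 lc_d_rc_12_7 lc_d_rc_16_4 lc_d_rc_27_2 lc_d_rc_15_1 lc_d_rc_15_1 lc_d_Cert_tree lc_d_rc_15_1 lc_d_rc_27_4 lc_d_rc_8_3 lc_d_rc_23_4 lc_d_rc_15_1 lc_d_rc_15_1 lc_d_rc_15_1 lc_d_rc_15_1 lc_d_rc_17_2 lc_d_rc_16_4 lc_d_rc_22_2 lc_d_rc_22_2 lc_d_rc_22_2) (@D3.rec (fun _ => (Cert rels S Gen.d)) lc_d_rc_3_3 lc_d_rc_16_4 lc_d_rc_24_0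 lc_d_rc_15_1 lc_d_rc_15_1 lc_d_rc_27_4 lc_d_rc_22_8 lc_d_rc_15_1 lc_d_rc_27_8 lc_d_rc_15_1 lc_d_rc_22_8 lc_d_rc_17_2 lc_d_rc_8_3 lc_d_rc_24_5 lc_d_rc_15_1 lc_d_rc_17_2 lc_d_rc_15_1 lc_d_Cert_tree lc_d_rc_8_3 lc_d_Cert_tree lc_d_rc_8_3 lc_d_rc_17_2 lc_d_rc_15_1 lc_d_rc_3_3 lc_d_rc_23_4 lc_d_rc_15_1 lc_d_rc_27_10 lc_d_rc_8_1 lc_d_rc_16_0 lc_d_rc_23_4 lc_d_rc_27_2 lc_d_rc_8_3 lc_d_Cert_tree lc_d_rc_16_0 lc_d_rc_15_1 lc_d_rc_16_0 lc_d_rc_3_3 lc_d_rc_16_0 lc_d_rc_27_4 lc_d_Cert_tree lc_d_rc_16_4 lc_d_rc_16_0 lc_d_rc_8_3 lc_d_rc_15_1 lc_d_rc_22_2 lc_d_rc_15_1 lc_d_rc_16_4 lc_d_rc_16_4 lc_d_Cert_tree lc_d_Cert_tree lc_d_Cert_tree lc_d_rc_15_1 lc_d_Cert_tree lc_d_rc_24_0 lc_d_rc_17_2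 lc_d_rc_16_4 lc_d_Cert_tree lc_d_rc_15_1 lc_d_rc_22_4 lc_d_rc_16_4 lc_d_rc_3_3 lc_d_rc_16_4) (@D3.rec (fun _ => (Cert rels S Gen.d)) lc_d_rc_15_1 lc_d_rc_24_0 lc_d_rc_24_5 lc_d_rc_15_1 lc_d_rc_17_0 lc_d_Cert_tree lc_d_rc_25_10 lc_d_rc_17_2 lc_d_rc_16_4 lc_d_rc_16_0 lc_d_rc_15_1 lc_d_rc_22_4 lc_d_rc_3_3 lc_d_rc_15_1 lc_d_rc_17_2 lc_d_rc_15_1 lc_d_rc_27_2 lc_d_Cert_tree lc_d_rc_15_1 lc_d_rc_24_0 lc_d_rc_8_3 lc_d_Cert_tree lc_d_rc_15_1 lc_d_rc_23_2 lc_d_rc_16_4 lc_d_rc_27_8 lc_d_Cert_tree lc_d_rc_27_10 lc_d_rc_15_1 lc_d_rc_23_6 lc_d_Cert_tree lc_d_rc_17_2 lc_d_rc_27_2 lc_d_rc_15_1 lc_d_rc_15_1 lc_d_rc_27_2 lc_d_rc_15_1 lc_d_rc_27_8 lc_d_rc_8_3 lc_d_rc_15_1 lc_d_rc_27_8 lc_d_rc_15_1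 lc_d_rc_15_1 lc_d_rc_23_2 lc_d_rc_3_3 lc_d_rc_25_10 lc_d_rc_17_2 lc_d_rc_12_3 lc_d_rc_15_1 lc_d_rc_15_1 lc_d_rc_15_1 lc_d_rc_15_1 lc_d_rc_23_4 lc_d_rc_17_2 lc_d_rc_15_1 lc_d_rc_23_6 lc_d_rc_17_2 lc_d_rc_3_3 lc_d_Cert_tree lc_d_rc_15_1 lc_d_rc_25_2 lc_d_rc_15_1) (@D3.rec (fun _ => (Cert rels S Gen.d)) lc_d_rc_8_3 lc_d_rc_23_6 lc_d_rc_15_1 lc_d_rc_27_4 lc_d_rc_15_1 lc_d_rc_15_1 lc_d_rc_15_1 lc_d_rc_15_1 lc_d_rc_15_1 lc_d_rc_16_2 lc_d_rc_16_2 lc_d_rc_15_1 lc_d_rc_15_1 lc_d_rc_15_1 lc_d_rc_15_1 lc_d_rc_16_2 lc_d_rc_8_3 lc_d_rc_16_2 lc_d_Cert_tree lc_d_rc_16_2 lc_d_rc_22_8 lc_d_rc_22_4 lc_d_Cert_tree lc_d_rc_15_1 lc_d_rc_17_2 lc_d_rc_15_1 lc_d_Cert_tree lc_d_rc_22_4 lc_d_rc_22_4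 lc_d_rc_15_1 lc_d_rc_15_1 lc_d_Cert_tree lc_d_rc_15_1 lc_d_rc_15_1 lc_d_rc_23_2 lc_d_rc_23_2 lc_d_Cert_tree lc_d_Cert_tree lc_d_rc_15_1 lc_d_rc_22_4 lc_d_rc_3_3 lc_d_rc_22_2 lc_d_rc_8_3 lc_d_rc_15_1 lc_d_rc_15_1 lc_d_rc_23_6 lc_d_rc_16_4 lc_d_rc_17_2 lc_d_rc_16_2 lc_d_rc_22_6 lc_d_rc_16_4 lc_d_rc_8_3 lc_d_rc_27_2 lc_d_rc_16_2 lc_d_Cert_tree lc_d_Cert_tree lc_d_Cert_tree lc_d_rc_15_1 lc_d_rc_22_2 lc_d_Cert_tree lc_d_Cert_tree lc_d_Cert_tree) (@D3.rec (fun _ => (Cert rels S Gen.d)) lc_d_rc_15_1 lc_d_rc_17_2 lc_d_Cert_tree lc_d_rc_15_1 lc_d_rc_23_8 lc_d_rc_8_3 lc_d_rc_15_1 lc_d_rc_23_8 lc_d_Cert_tree lc_d_rc_15_1 lc_d_rc_22_4 lc_d_rc_23_6 lc_d_rc_15_1 lc_d_rc_22_6 lc_d_rc_16_0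 lc_d_rc_24_0 lc_d_rc_3_1 lc_d_Cert_tree lc_d_rc_15_1 lc_d_rc_15_1 lc_d_rc_22_2 lc_d_Cert_tree lc_d_rc_15_1 lc_d_rc_23_4 lc_d_rc_22_6 lc_d_rc_23_6 lc_d_rc_22_2 lc_d_rc_15_1 lc_d_rc_15_1 lc_d_Cert_tree lc_d_Cert_tree lc_d_Cert_tree lc_d_rc_15_1 lc_d_rc_16_4 lc_d_rc_8_1 lc_d_rc_16_4 lc_d_rc_8_1 lc_d_Cert_tree lc_d_rc_23_4 lc_d_rc_15_1 lc_d_rc_8_3 lc_d_rc_16_0 lc_d_rc_17_2 lc_d_rc_8_3 lc_d_rc_22_4 lc_d_rc_27_10 lc_d_rc_15_1 lc_d_Cert_tree lc_d_Cert_tree lc_d_Cert_tree lc_d_rc_15_1 lc_d_rc_15_1 lc_d_rc_17_0 lc_d_rc_15_1 lc_d_rc_3_3 lc_d_rc_16_2 lc_d_rc_23_2 lc_d_rc_8_3 lc_d_rc_16_4 lc_d_rc_15_1 lc_d_rc_15_1 lc_d_rc_15_1) (@D3.rec (fun _ => (Cert rels S Gen.d)) lc_d_rc_8_3 lc_d_rc_15_1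 lc_d_rc_3_1 lc_d_rc_15_1 lc_d_rc_12_3 lc_d_rc_15_1 lc_d_rc_15_1 lc_d_rc_23_4 lc_d_rc_8_3 lc_d_rc_27_10 lc_d_rc_24_0 lc_d_rc_23_8 lc_d_Cert_tree lc_d_rc_15_1 lc_d_rc_27_2 lc_d_rc_15_1 lc_d_rc_27_4 lc_d_rc_3_3 lc_d_rc_23_8 lc_d_rc_15_1 lc_d_rc_8_3 lc_d_rc_24_5 lc_d_rc_23_4 lc_d_rc_8_3 lc_d_rc_17_2 lc_d_rc_3_3 lc_d_rc_15_1 lc_d_rc_16_4 lc_d_rc_8_3 lc_d_rc_15_1 lc_d_rc_27_2 lc_d_rc_27_4 lc_d_rc_27_10 lc_d_rc_27_10 lc_d_rc_22_8 lc_d_rc_22_4 lc_d_rc_15_1 lc_d_rc_8_3 lc_d_rc_24_5 lc_d_rc_15_1 lc_d_rc_17_2 lc_d_rc_23_8 lc_d_rc_15_1 lc_d_rc_15_1 lc_d_Cert_tree lc_d_Cert_tree lc_d_rc_15_1 lc_d_rc_15_1 lc_d_rc_27_10 lc_d_rc_15_1 lc_d_rc_15_1 lc_d_rc_17_2 lc_d_rc_15_1 lc_d_rc_23_6 lc_d_rc_23_6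 lc_d_rc_23_2 lc_d_rc_17_2 lc_d_Cert_tree lc_d_rc_15_1 lc_d_rc_12_1 lc_d_rc_27_4 lc_d_Cert_tree) (@D3.rec (fun _ => (Cert rels S Gen.d)) lc_d_rc_17_2 lc_d_rc_15_1 lc_d_rc_17_0 lc_d_rc_25_2 lc_d_rc_15_1 lc_d_rc_3_3 lc_d_rc_22_4 lc_d_rc_3_3 lc_d_rc_17_2 lc_d_rc_22_8 lc_d_rc_15_1 lc_d_rc_23_6 lc_d_rc_16_4 lc_d_rc_15_1 lc_d_rc_17_2 lc_d_rc_3_3 lc_d_rc_15_1 lc_d_rc_16_4 lc_d_Cert_tree lc_d_Cert_tree lc_d_rc_15_1 lc_d_Cert_tree lc_d_rc_15_1 lc_d_rc_27_4 lc_d_rc_15_1 lc_d_rc_15_1 lc_d_rc_15_1 lc_d_rc_23_2 lc_d_rc_22_2 lc_d_rc_23_2 lc_d_rc_16_4 lc_d_rc_15_1 lc_d_Cert_tree lc_d_rc_15_1 lc_d_rc_15_1 lc_d_rc_25_18 lc_d_rc_8_3 lc_d_rc_3_3 lc_d_rc_15_1 lc_d_rc_15_1 lc_d_Cert_tree lc_d_rc_17_2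 lc_d_Cert_tree lc_d_rc_15_1 lc_d_rc_16_2 lc_d_Cert_tree lc_d_Cert_tree lc_d_rc_8_1 lc_d_Cert_tree lc_d_rc_15_1 lc_d_rc_15_1 lc_d_rc_24_5 lc_d_rc_15_1 lc_d_rc_15_1 lc_d_rc_27_8 lc_d_rc_23_6 lc_d_rc_17_2 lc_d_Cert_tree lc_d_rc_17_2 lc_d_rc_23_6 lc_d_rc_15_1 lc_d_rc_17_2) (@D3.rec (fun _ => (Cert rels S Gen.d)) lc_d_rc_27_4 lc_d_Cert_tree lc_d_Cert_tree lc_d_Cert_tree lc_d_rc_15_1 lc_d_rc_17_2 lc_d_rc_8_3 lc_d_rc_27_10 lc_d_Cert_tree lc_d_Cert_tree lc_d_Cert_tree lc_d_rc_15_1 lc_d_rc_17_2 lc_d_rc_15_1 lc_d_rc_15_1 lc_d_rc_27_2 lc_d_rc_23_2 lc_d_rc_8_3 lc_d_rc_8_3 lc_d_rc_8_3 lc_d_rc_24_5 lc_d_rc_24_5 lc_d_rc_15_1 lc_d_rc_23_6 lc_d_rc_15_1 lc_d_rc_3_3 lc_d_rc_15_1 lc_d_rc_8_3 lc_d_Cert_tree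 lc_d_rc_27_8 lc_d_rc_15_1 lc_d_rc_23_8 lc_d_rc_15_1 lc_d_rc_15_1 lc_d_rc_15_1 lc_d_rc_25_2 lc_d_rc_23_4 lc_d_rc_3_3 lc_d_rc_16_2 lc_d_rc_15_1 lc_d_rc_25_14 lc_d_rc_15_1 lc_d_rc_15_1 lc_d_rc_27_2 lc_d_rc_15_1 lc_d_rc_24_5 lc_d_Cert_tree lc_d_rc_15_1 lc_d_rc_15_1 lc_d_rc_27_4 lc_d_rc_8_3 lc_d_rc_15_1 lc_d_Cert_tree lc_d_rc_15_1 lc_d_rc_12_1 lc_d_rc_17_2 lc_d_rc_8_1 lc_d_rc_15_1 lc_d_rc_15_1 lc_d_Cert_tree lc_d_rc_16_2 lc_d_rc_3_3) (@D3.rec (fun _ => (Cert rels S Gen.d)) lc_d_rc_15_1 lc_d_rc_15_1 lc_d_rc_22_2 lc_d_rc_27_2 lc_d_rc_23_6 lc_d_rc_8_3 lc_d_rc_8_1 lc_d_rc_24_5 lc_d_rc_16_2 lc_d_rc_15_1 lc_d_rc_23_2 lc_d_Cert_tree lc_d_rc_15_1 lc_d_rc_23_8 lc_d_rc_15_1 lc_d_rc_8_3 lc_d_rc_22_2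 lc_d_rc_27_2 lc_d_rc_17_2 lc_d_rc_15_1 lc_d_Cert_tree lc_d_rc_15_1 lc_d_rc_8_3 lc_d_rc_15_1 lc_d_rc_8_3 lc_d_rc_27_4 lc_d_rc_15_1 lc_d_rc_27_8 lc_d_rc_16_2 lc_d_rc_22_6 lc_d_rc_12_3 lc_d_rc_16_4 lc_d_rc_17_2 lc_d_rc_12_3 lc_d_Cert_tree lc_d_rc_17_2 lc_d_rc_3_3 lc_d_Cert_tree lc_d_rc_15_1 lc_d_rc_16_0 lc_d_rc_12_3 lc_d_Cert_tree lc_d_Cert_tree lc_d_rc_16_4 lc_d_rc_8_1 lc_d_Cert_tree lc_d_rc_15_1 lc_d_rc_24_5 lc_d_Cert_tree lc_d_rc_15_1 lc_d_rc_16_4 lc_d_rc_8_1 lc_d_Cert_tree lc_d_rc_15_1 lc_d_rc_8_3 lc_d_Cert_tree lc_d_rc_17_2 lc_d_rc_27_4 lc_d_rc_8_1 lc_d_rc_27_4 lc_d_rc_8_3 lc_d_Cert_tree) (@D3.rec (fun _ => (Cert rels S Gen.d)) lc_d_rc_8_3 lc_d_rc_3_3 lc_d_rc_8_3 lc_d_rc_16_2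 lc_d_rc_23_2 lc_d_rc_15_1 lc_d_rc_23_8 lc_d_rc_16_4 lc_d_Cert_tree lc_d_Cert_tree lc_d_rc_15_1 lc_d_rc_17_2 lc_d_rc_15_1 lc_d_Cert_tree lc_d_rc_15_1 lc_d_rc_15_1 lc_d_rc_15_1 lc_d_Cert_tree lc_d_rc_17_2 lc_d_rc_15_1 lc_d_rc_27_4 lc_d_rc_24_0 lc_d_rc_15_1 lc_d_rc_27_10 lc_d_rc_15_1 lc_d_rc_8_3 lc_d_rc_17_2 lc_d_rc_15_1 lc_d_rc_12_1 lc_d_rc_15_1 lc_d_rc_8_3 lc_d_rc_24_0 lc_d_rc_22_2 lc_d_rc_16_2 lc_d_rc_23_8 lc_d_rc_24_5 lc_d_rc_16_4 lc_d_rc_25_14 lc_d_rc_15_1 lc_d_rc_27_4 lc_d_rc_15_1 lc_d_rc_3_3 lc_d_rc_8_1 lc_d_Cert_tree lc_d_rc_22_2 lc_d_rc_15_1 lc_d_rc_15_1 lc_d_rc_16_2 lc_d_rc_15_1 lc_d_rc_23_8 lc_d_rc_17_2 lc_d_rc_15_1 lc_d_rc_15_1 lc_d_rc_8_3 lc_d_rc_15_1 lc_d_rc_17_2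 lc_d_rc_15_1 lc_d_rc_27_4 lc_d_rc_15_1 lc_d_rc_22_4 lc_d_rc_22_8 lc_d_rc_15_1) (@D3.rec (fun _ => (Cert rels S Gen.d)) lc_d_rc_17_2 lc_d_rc_27_4 lc_d_rc_8_3 lc_d_rc_15_1 lc_d_Cert_tree lc_d_rc_17_2 lc_d_rc_15_1 lc_d_rc_27_4 lc_d_rc_23_8 lc_d_rc_12_1 lc_d_rc_8_3 lc_d_rc_15_1 lc_d_rc_16_2 lc_d_rc_27_2 lc_d_rc_15_1 lc_d_rc_17_2 lc_d_rc_25_6 lc_d_rc_22_4 lc_d_rc_15_1 lc_d_rc_15_1 lc_d_rc_15_1 lc_d_rc_22_2 lc_d_rc_15_1 lc_d_Cert_tree lc_d_Cert_tree lc_d_Cert_tree lc_d_rc_17_2 lc_d_rc_25_18 lc_d_Cert_tree lc_d_rc_16_0 lc_d_rc_15_1 lc_d_rc_27_2 lc_d_rc_27_4 lc_d_rc_15_1 lc_d_rc_27_4 lc_d_rc_23_4 lc_d_Cert_tree lc_d_rc_23_6 lc_d_rc_22_2 lc_d_rc_15_1 lc_d_rc_22_6 lc_d_rc_22_8 lc_d_rc_16_4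 lc_d_rc_22_6 lc_d_Cert_tree lc_d_rc_8_1 lc_d_rc_15_1 lc_d_rc_22_2 lc_d_rc_16_2 lc_d_rc_8_3 lc_d_Cert_tree lc_d_rc_16_4 lc_d_rc_22_4 lc_d_rc_15_1 lc_d_rc_15_1 lc_d_rc_15_1 lc_d_rc_25_14 lc_d_Cert_tree lc_d_rc_27_2 lc_d_rc_8_3 lc_d_rc_23_8 lc_d_rc_15_1) (@D3.rec (fun _ => (Cert rels S Gen.d)) lc_d_rc_8_3 lc_d_rc_24_5 lc_d_rc_27_4 lc_d_rc_15_1 lc_d_rc_15_1 lc_d_rc_15_1 lc_d_rc_27_8 lc_d_rc_8_1 lc_d_rc_24_0 lc_d_rc_15_1 lc_d_Cert_tree lc_d_rc_25_10 lc_d_rc_15_1 lc_d_rc_15_1 lc_d_rc_27_4 lc_d_rc_8_3 lc_d_rc_27_8 lc_d_rc_15_1 lc_d_rc_22_4 lc_d_Cert_tree lc_d_rc_15_1 lc_d_rc_15_1 lc_d_rc_16_4 lc_d_rc_22_4 lc_d_rc_15_1 lc_d_rc_15_1 lc_d_rc_27_2 lc_d_rc_15_1 lc_d_rc_24_0 lc_d_rc_27_10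 lc_d_rc_15_1 lc_d_rc_27_4 lc_d_rc_23_6 lc_d_rc_15_1 lc_d_rc_23_4 lc_d_rc_16_4 lc_d_rc_8_3 lc_d_rc_24_0 lc_d_rc_24_0 lc_d_rc_22_2 lc_d_Cert_tree lc_d_rc_15_1 lc_d_rc_15_1 lc_d_rc_3_3 lc_d_rc_27_4 lc_d_rc_15_1 lc_d_rc_15_1 lc_d_rc_16_4 lc_d_rc_16_4 lc_d_rc_17_2 lc_d_rc_3_1 lc_d_rc_15_1 lc_d_rc_15_1 lc_d_rc_15_1 lc_d_rc_16_2 lc_d_rc_3_1 lc_d_rc_15_1 lc_d_rc_15_1 lc_d_rc_8_3 lc_d_rc_17_0 lc_d_rc_15_1 lc_d_rc_17_2) (@D3.rec (fun _ => (Cert rels S Gen.d)) lc_d_rc_27_8 lc_d_rc_15_1 lc_d_Cert_tree lc_d_rc_15_1 lc_d_rc_23_4 lc_d_rc_24_5 lc_d_rc_17_2 lc_d_rc_8_3 lc_d_rc_27_8 lc_d_rc_3_3 lc_d_rc_16_2 lc_d_rc_17_2 lc_d_rc_12_1 lc_d_rc_22_2 lc_d_rc_16_4 lc_d_rc_15_1 lc_d_Cert_tree lc_d_rc_15_1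 lc_d_Cert_tree lc_d_rc_23_4 lc_d_rc_15_1 lc_d_rc_16_4 lc_d_rc_17_2 lc_d_rc_23_6 lc_d_rc_15_1 lc_d_rc_27_8 lc_d_rc_8_3 lc_d_rc_15_1 lc_d_rc_8_3 lc_d_rc_17_2 lc_d_rc_8_3 lc_d_rc_17_0 lc_d_Cert_tree lc_d_rc_27_4 lc_d_rc_24_5 lc_d_rc_27_4 lc_d_rc_15_1 lc_d_rc_27_10 lc_d_rc_27_8 lc_d_Cert_tree lc_d_rc_15_1 lc_d_rc_17_2 lc_d_Cert_tree lc_d_rc_15_1 lc_d_rc_15_1 lc_d_rc_15_1 lc_d_rc_15_1 lc_d_rc_8_1 lc_d_rc_24_5 lc_d_rc_15_1 lc_d_rc_8_1 lc_d_rc_24_5 lc_d_rc_15_1 lc_d_rc_23_6 lc_d_rc_15_1 lc_d_rc_3_3 lc_d_rc_15_1 lc_d_rc_15_1 lc_d_rc_16_4 lc_d_rc_15_1 lc_d_rc_15_1 lc_d_rc_27_2) (@D3.rec (fun _ => (Cert rels S Gen.d)) lc_d_rc_15_1 lc_d_rc_15_1 lc_d_rc_27_4 lc_d_rc_23_2 lc_d_rc_22_4 lc_d_rc_16_4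 lc_d_Cert_tree lc_d_Cert_tree lc_d_rc_15_1 lc_d_rc_23_6 lc_d_rc_15_1 lc_d_rc_23_2 lc_d_rc_15_1 lc_d_rc_22_8 lc_d_rc_16_4 lc_d_rc_15_1 lc_d_rc_24_0 lc_d_rc_16_0 lc_d_rc_22_6 lc_d_rc_15_1 lc_d_rc_17_2 lc_d_rc_3_1 lc_d_rc_8_3 lc_d_rc_16_2 lc_d_rc_15_1 lc_d_rc_17_2 lc_d_rc_8_3 lc_d_rc_16_0 lc_d_rc_3_3 lc_d_rc_24_0 lc_d_rc_17_2 lc_d_rc_15_1 lc_d_rc_8_3 lc_d_rc_27_8 lc_d_rc_27_4 lc_d_rc_22_8 lc_d_rc_8_3 lc_d_rc_15_1 lc_d_rc_15_1 lc_d_rc_22_8 lc_d_rc_16_2 lc_d_rc_16_2 lc_d_rc_15_1 lc_d_rc_23_8 lc_d_rc_15_1 lc_d_rc_15_1 lc_d_rc_15_1 lc_d_Cert_tree lc_d_rc_8_3 lc_d_Cert_tree lc_d_rc_27_4 lc_d_rc_24_5 lc_d_rc_15_1 lc_d_rc_8_3 lc_d_rc_15_1 lc_d_rc_27_4 lc_d_rc_15_1 lc_d_Cert_tree lc_d_Cert_tree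 lc_d_rc_15_1 lc_d_rc_15_1 lc_d_rc_15_1) (@D3.rec (fun _ => (Cert rels S Gen.d)) lc_d_rc_22_8 lc_d_rc_16_4 lc_d_rc_15_1 lc_d_rc_16_4 lc_d_rc_15_1 lc_d_rc_15_1 lc_d_rc_27_2 lc_d_rc_15_1 lc_d_rc_3_3 lc_d_rc_16_0 lc_d_rc_15_1 lc_d_rc_16_2 lc_d_rc_27_2 lc_d_rc_15_1 lc_d_Cert_tree lc_d_Cert_tree lc_d_rc_15_1 lc_d_rc_15_1 lc_d_rc_23_4 lc_d_rc_15_1 lc_d_rc_15_1 lc_d_Cert_tree lc_d_rc_15_1 lc_d_rc_15_1 lc_d_rc_24_5 lc_d_rc_3_3 lc_d_rc_15_1 lc_d_rc_25_10 lc_d_Cert_tree lc_d_rc_22_2 lc_d_rc_16_4 lc_d_rc_23_4 lc_d_rc_23_4 lc_d_rc_23_4 lc_d_rc_15_1 lc_d_rc_22_8 lc_d_rc_12_3 lc_d_rc_15_1 lc_d_rc_22_4 lc_d_Cert_tree lc_d_Cert_tree lc_d_rc_3_1 lc_d_rc_15_1 lc_d_Cert_tree lc_d_Cert_tree lc_d_rc_27_8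 lc_d_rc_15_1 lc_d_rc_27_2 lc_d_rc_22_2 lc_d_rc_23_4 lc_d_rc_15_1 lc_d_rc_8_1 lc_d_rc_24_5 lc_d_rc_8_3 lc_d_rc_22_2 lc_d_rc_15_1 lc_d_rc_16_4 lc_d_rc_15_1 lc_d_Cert_tree lc_d_rc_15_1 lc_d_rc_12_1 lc_d_rc_23_8) (@D3.rec (fun _ => (Cert rels S Gen.d)) lc_d_rc_24_0 lc_d_rc_8_3 lc_d_rc_15_1 lc_d_rc_24_0 lc_d_Cert_tree lc_d_Cert_tree lc_d_rc_15_1 lc_d_rc_17_2 lc_d_rc_23_2 lc_d_rc_15_1 lc_d_rc_25_18 lc_d_rc_8_3 lc_d_rc_23_2 lc_d_rc_15_1 lc_d_rc_8_3 lc_d_rc_25_6 lc_d_rc_8_3 lc_d_Cert_tree lc_d_rc_27_8 lc_d_rc_15_1 lc_d_rc_27_4 lc_d_rc_15_1 lc_d_rc_8_3 lc_d_rc_15_1 lc_d_rc_8_3 lc_d_rc_8_1 lc_d_rc_27_10 lc_d_rc_15_1 lc_d_Cert_tree lc_d_rc_15_1 lc_d_rc_8_3 lc_d_rc_3_1 lc_d_Cert_tree lc_d_rc_16_4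 lc_d_rc_8_1 lc_d_rc_16_4 lc_d_rc_17_2 lc_d_rc_22_6 lc_d_rc_15_1 lc_d_rc_15_1 lc_d_rc_24_0 lc_d_rc_27_4 lc_d_rc_3_3 lc_d_rc_15_1 lc_d_rc_8_3 lc_d_rc_15_1 lc_d_rc_24_0 lc_d_rc_22_6 lc_d_rc_15_1 lc_d_rc_24_0 lc_d_rc_24_5 lc_d_rc_16_2 lc_d_rc_15_1 lc_d_rc_16_2 lc_d_rc_17_2 lc_d_rc_23_2 lc_d_rc_15_1 lc_d_rc_15_1 lc_d_rc_15_1 lc_d_rc_17_2 lc_d_rc_17_2 lc_d_rc_15_1) (@D3.rec (fun _ => (Cert rels S Gen.d)) lc_d_rc_3_3 lc_d_rc_3_3 lc_d_rc_15_1 lc_d_rc_23_6 lc_d_rc_17_2 lc_d_Cert_tree lc_d_rc_23_6 lc_d_rc_17_0 lc_d_rc_3_3 lc_d_rc_16_4 lc_d_rc_3_1 lc_d_rc_15_1 lc_d_rc_23_2 lc_d_rc_22_8 lc_d_rc_8_3 lc_d_rc_15_1 lc_d_rc_17_2 lc_d_rc_15_1 lc_d_rc_8_3 lc_d_rc_23_6 lc_d_rc_15_1 lc_d_rc_17_2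 lc_d_rc_15_1 lc_d_rc_25_2 lc_d_rc_27_2 lc_d_rc_16_4 lc_d_rc_23_4 lc_d_rc_23_6 lc_d_Cert_tree lc_d_rc_3_1 lc_d_rc_15_1 lc_d_rc_22_2 lc_d_rc_27_2 lc_d_rc_8_1 lc_d_rc_15_1 lc_d_rc_22_2 lc_d_rc_23_8 lc_d_rc_15_1 lc_d_rc_8_3 lc_d_rc_15_1 lc_d_rc_16_4 lc_d_rc_16_2 lc_d_rc_15_1 lc_d_rc_8_1 lc_d_rc_15_1 lc_d_rc_16_0 lc_d_rc_16_4 lc_d_rc_27_4 lc_d_rc_15_1 lc_d_rc_27_4 lc_d_rc_27_8 lc_d_rc_27_8 lc_d_rc_8_3 lc_d_rc_15_1 lc_d_rc_24_5 lc_d_rc_27_2 lc_d_rc_17_2 lc_d_rc_24_5 lc_d_rc_8_3 lc_d_rc_22_2 lc_d_rc_8_3 lc_d_rc_23_2) (@D3.rec (fun _ => (Cert rels S Gen.d)) lc_d_rc_24_0 lc_d_rc_15_1 lc_d_rc_24_5 lc_d_rc_15_1 lc_d_rc_27_2 lc_d_rc_24_0 lc_d_rc_16_4 lc_d_rc_8_3 lc_d_rc_15_1 lc_d_rc_8_3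 lc_d_rc_17_2 lc_d_rc_3_1 lc_d_rc_17_2 lc_d_rc_15_1 lc_d_rc_15_1 lc_d_rc_27_4 lc_d_rc_15_1 lc_d_rc_8_3 lc_d_rc_15_1 lc_d_rc_16_4 lc_d_rc_23_8 lc_d_rc_15_1 lc_d_rc_15_1 lc_d_rc_22_2 lc_d_rc_23_2 lc_d_rc_15_1 lc_d_rc_15_1 lc_d_Cert_tree lc_d_rc_15_1 lc_d_rc_22_6 lc_d_rc_8_1 lc_d_rc_25_6 lc_d_rc_8_3 lc_d_rc_15_1 lc_d_rc_16_4 lc_d_rc_16_0 lc_d_Cert_tree lc_d_rc_15_1 lc_d_rc_17_2 lc_d_rc_22_6 lc_d_Cert_tree lc_d_rc_15_1 lc_d_rc_15_1 lc_d_rc_15_1 lc_d_rc_8_3 lc_d_Cert_tree lc_d_rc_8_1 lc_d_rc_16_4 lc_d_rc_22_2 lc_d_Cert_tree lc_d_rc_17_2 lc_d_rc_8_3 lc_d_rc_16_4 lc_d_rc_23_4 lc_d_rc_22_4 lc_d_rc_15_1 lc_d_rc_17_2 lc_d_rc_22_4 lc_d_rc_22_4 lc_d_rc_23_8 lc_d_rc_24_0 lc_d_rc_16_2) (@D3.rec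 (fun _ => (Cert rels S Gen.d)) lc_d_rc_24_5 lc_d_rc_17_2 lc_d_rc_27_2 lc_d_rc_27_10 lc_d_rc_16_0 lc_d_rc_15_1 lc_d_rc_17_2 lc_d_rc_8_1 lc_d_Cert_tree lc_d_rc_15_1 lc_d_rc_27_4 lc_d_Cert_tree lc_d_rc_8_3 lc_d_rc_15_1 lc_d_rc_25_2 lc_d_rc_16_0 lc_d_rc_15_1 lc_d_rc_15_1 lc_d_rc_8_3 lc_d_Cert_tree lc_d_rc_15_1 lc_d_rc_16_0 lc_d_rc_8_3 lc_d_rc_12_1 lc_d_rc_22_8 lc_d_rc_23_6 lc_d_rc_15_1 lc_d_rc_8_3 lc_d_rc_3_3 lc_d_rc_3_3 lc_d_rc_24_0 lc_d_rc_17_2 lc_d_rc_8_3 lc_d_rc_22_6 lc_d_rc_16_4 lc_d_rc_8_3 lc_d_rc_24_0 lc_d_rc_15_1 lc_d_rc_16_4 lc_d_rc_23_2 lc_d_rc_22_4 lc_d_rc_15_1 lc_d_rc_8_3 lc_d_rc_3_3 lc_d_rc_15_1 lc_d_rc_8_1 lc_d_rc_8_3 lc_d_rc_8_3 lc_d_Cert_tree lc_d_Cert_tree lc_d_Cert_tree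 lc_d_Cert_tree lc_d_Cert_tree lc_d_rc_15_1 lc_d_Cert_tree lc_d_rc_24_0 lc_d_Cert_tree lc_d_rc_16_2 lc_d_rc_15_1 lc_d_rc_15_1 lc_d_Cert_tree lc_d_rc_16_0) (@D3.rec (fun _ => (Cert rels S Gen.d)) lc_d_rc_27_10 lc_d_Cert_tree lc_d_rc_17_2 lc_d_rc_27_8 lc_d_Cert_tree lc_d_rc_27_8 lc_d_rc_23_8 lc_d_rc_15_1 lc_d_Cert_tree lc_d_rc_15_1 lc_d_rc_23_4 lc_d_rc_8_1 lc_d_rc_15_1 lc_d_rc_12_15 lc_d_rc_15_1 lc_d_rc_27_2 lc_d_rc_27_2 lc_d_Cert_tree lc_d_Cert_tree lc_d_rc_15_1 lc_d_rc_17_2 lc_d_rc_16_2 lc_d_Cert_tree lc_d_rc_15_1 lc_d_rc_8_1 lc_d_Cert_tree lc_d_rc_15_1 lc_d_rc_8_3 lc_d_rc_12_15 lc_d_rc_3_3 lc_d_rc_27_10 lc_d_rc_23_4 lc_d_rc_22_4 lc_d_rc_27_10 lc_d_rc_27_10 lc_d_rc_8_1 lc_d_rc_16_0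 lc_d_rc_24_5 lc_d_rc_22_8 lc_d_rc_24_0 lc_d_rc_27_8 lc_d_rc_27_2 lc_d_rc_15_1 lc_d_rc_3_3 lc_d_rc_8_3 lc_d_rc_15_1 lc_d_Cert_tree lc_d_rc_27_4 lc_d_rc_15_1 lc_d_rc_27_4 lc_d_rc_24_0 lc_d_rc_15_1 lc_d_rc_17_2 lc_d_rc_8_3 lc_d_rc_16_4 lc_d_rc_23_8 lc_d_rc_27_10 lc_d_rc_8_3 lc_d_rc_3_3 lc_d_rc_8_3 lc_d_rc_23_6 lc_d_Cert_tree) (@D3.rec (fun _ => (Cert rels S Gen.d)) lc_d_rc_15_1 lc_d_rc_8_3 lc_d_rc_16_4 lc_d_rc_8_1 lc_d_rc_15_1 lc_d_rc_25_18 lc_d_Cert_tree lc_d_rc_17_2 lc_d_rc_22_4 lc_d_Cert_tree lc_d_Cert_tree lc_d_rc_15_1 lc_d_rc_22_2 lc_d_Cert_tree lc_d_rc_16_0 lc_d_rc_8_3 lc_d_rc_3_1 lc_d_rc_15_1 lc_d_rc_15_1 lc_d_rc_16_2 lc_d_rc_23_8 lc_d_rc_8_3 lc_d_rc_16_2 lc_d_rc_23_2 lc_d_rc_8_1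 lc_d_Cert_tree lc_d_rc_3_3 lc_d_rc_25_18 lc_d_rc_15_1 lc_d_rc_22_6 lc_d_rc_3_1 lc_d_rc_8_1 lc_d_rc_22_8 lc_d_rc_15_1 lc_d_rc_16_4 lc_d_rc_15_1 lc_d_rc_23_6 lc_d_rc_15_1 lc_d_Cert_tree lc_d_rc_16_4 lc_d_rc_22_8 lc_d_rc_15_1 lc_d_Cert_tree lc_d_Cert_tree lc_d_rc_23_6 lc_d_rc_25_18 lc_d_rc_17_2 lc_d_rc_15_1 lc_d_rc_8_3 lc_d_Cert_tree lc_d_rc_15_1 lc_d_rc_24_0 lc_d_rc_24_0 lc_d_rc_8_3 lc_d_Cert_tree lc_d_rc_15_1 lc_d_rc_17_2 lc_d_rc_8_1 lc_d_rc_25_18 lc_d_rc_3_1 lc_d_rc_23_6 lc_d_Cert_tree) (@D3.rec (fun _ => (Cert rels S Gen.d)) lc_d_rc_12_15 lc_d_rc_3_1 lc_d_rc_27_4 lc_d_rc_8_3 lc_d_rc_16_4 lc_d_Cert_tree lc_d_Cert_tree lc_d_rc_15_1 lc_d_rc_8_3 lc_d_rc_15_1 lc_d_rc_8_3 lc_d_rc_23_2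 lc_d_rc_23_6 lc_d_rc_15_1 lc_d_rc_24_5 lc_d_rc_17_2 lc_d_rc_15_1 lc_d_rc_8_3 lc_d_rc_25_14 lc_d_rc_8_3 lc_d_rc_22_4 lc_d_Cert_tree lc_d_Cert_tree lc_d_Cert_tree lc_d_rc_15_1 lc_d_rc_17_2 lc_d_Cert_tree lc_d_rc_25_2 lc_d_rc_15_1 lc_d_rc_23_4 lc_d_Cert_tree lc_d_rc_15_1 lc_d_rc_3_3 lc_d_rc_15_1 lc_d_rc_15_1 lc_d_rc_17_2 lc_d_Cert_tree lc_d_Cert_tree lc_d_rc_15_1 lc_d_Cert_tree lc_d_rc_15_1 lc_d_Cert_tree lc_d_rc_15_1 lc_d_rc_17_2 lc_d_rc_15_1 lc_d_rc_15_1 lc_d_rc_27_2 lc_d_rc_3_3 lc_d_rc_22_6 lc_d_rc_17_0 lc_d_rc_3_3 lc_d_Cert_tree lc_d_rc_27_4 lc_d_rc_15_1 lc_d_rc_8_1 lc_d_rc_15_1 lc_d_rc_27_2 lc_d_rc_3_1 lc_d_rc_22_8 lc_d_rc_17_2 lc_d_Cert_tree lc_d_rc_15_1) (@D3.rec (fun _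 => (Cert rels S Gen.d)) lc_d_rc_15_1 lc_d_rc_23_2 lc_d_rc_27_4 lc_d_rc_23_4 lc_d_rc_24_5 lc_d_rc_22_6 lc_d_Cert_tree lc_d_rc_16_2 lc_d_Cert_tree lc_d_rc_15_1 lc_d_rc_17_2 lc_d_Cert_tree lc_d_Cert_tree lc_d_rc_15_1 lc_d_rc_17_2 lc_d_rc_15_1 lc_d_rc_8_3 lc_d_Cert_tree lc_d_rc_15_1 lc_d_rc_15_1 lc_d_rc_17_2 lc_d_rc_15_1 lc_d_Cert_tree lc_d_Cert_tree lc_d_rc_15_1 lc_d_rc_22_4 lc_d_rc_16_2 lc_d_rc_15_1 lc_d_rc_22_4 lc_d_rc_16_4 lc_d_Cert_tree lc_d_rc_8_3 lc_d_rc_15_1 lc_d_rc_8_3 lc_d_rc_8_3 lc_d_rc_25_2 lc_d_rc_8_1 lc_d_rc_15_1 lc_d_rc_8_3 lc_d_rc_22_4 lc_d_rc_22_6 lc_d_rc_15_1 lc_d_rc_24_0 lc_d_rc_23_2 lc_d_Cert_tree lc_d_Cert_tree lc_d_rc_15_1 lc_d_rc_8_1 lc_d_rc_23_2 lc_d_rc_17_0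 lc_d_Cert_tree lc_d_rc_15_1 lc_d_rc_8_3 lc_d_Cert_tree lc_d_rc_8_3 lc_d_rc_15_1 lc_d_rc_17_2 lc_d_rc_15_1 lc_d_rc_15_1 lc_d_rc_8_1 lc_d_rc_27_4 lc_d_rc_15_1) (@D3.rec (fun _ => (Cert rels S Gen.d)) lc_d_Cert_tree lc_d_rc_24_0 lc_d_Cert_tree lc_d_Cert_tree lc_d_rc_15_1 lc_d_rc_27_2 lc_d_rc_8_1 lc_d_rc_22_2 lc_d_rc_16_4 lc_d_rc_22_2 lc_d_Cert_tree lc_d_Cert_tree lc_d_rc_23_6 lc_d_rc_23_6 lc_d_rc_22_8 lc_d_rc_15_1 lc_d_rc_24_5 lc_d_rc_12_1 lc_d_Cert_tree lc_d_rc_17_2 lc_d_rc_25_10 lc_d_rc_3_3 lc_d_Cert_tree lc_d_Cert_tree lc_d_rc_15_1 lc_d_rc_17_2 lc_d_rc_3_3 lc_d_Cert_tree lc_d_rc_24_5 lc_d_rc_25_18 lc_d_rc_15_1 lc_d_rc_17_2 lc_d_rc_23_8 lc_d_rc_15_1 lc_d_rc_3_1 lc_d_rc_24_0 lc_d_rc_24_0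 lc_d_rc_22_8 lc_d_rc_22_6 lc_d_rc_15_1 lc_d_rc_27_8 lc_d_rc_15_1 lc_d_Cert_tree lc_d_rc_3_3 lc_d_rc_23_4 lc_d_Cert_tree lc_d_rc_15_1 lc_d_rc_22_4 lc_d_rc_22_4 lc_d_rc_15_1 lc_d_rc_27_2 lc_d_rc_15_1 lc_d_rc_17_2 lc_d_rc_22_6 lc_d_rc_8_1 lc_d_Cert_tree lc_d_rc_15_1 lc_d_rc_22_8 lc_d_rc_24_0 lc_d_rc_15_1 lc_d_rc_27_2 lc_d_rc_23_2) (@D3.rec (fun _ => (Cert rels S Gen.d)) lc_d_rc_15_1 lc_d_rc_23_2 lc_d_rc_15_1 lc_d_rc_23_2 lc_d_rc_23_8 lc_d_rc_3_1 lc_d_rc_22_6 lc_d_rc_27_2 lc_d_rc_24_5 lc_d_rc_15_1 lc_d_rc_22_8 lc_d_rc_16_4 lc_d_rc_15_1 lc_d_rc_22_4 lc_d_rc_15_1 lc_d_rc_24_5 lc_d_rc_15_1 lc_d_rc_15_1 lc_d_rc_22_4 lc_d_Cert_tree lc_d_rc_15_1 lc_d_Cert_tree lc_d_rc_15_1 lc_d_rc_15_1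 lc_d_rc_8_1 lc_d_rc_15_1 lc_d_rc_24_0 lc_d_rc_16_4 lc_d_rc_27_10 lc_d_Cert_tree lc_d_rc_24_5 lc_d_rc_16_4 lc_d_rc_8_3 lc_d_rc_23_8 lc_d_rc_15_1 lc_d_rc_16_4 lc_d_rc_23_8 lc_d_rc_23_8 lc_d_rc_3_3 lc_d_Cert_tree lc_d_rc_15_1 lc_d_rc_3_3 lc_d_rc_25_6 lc_d_rc_24_0 lc_d_rc_23_4 lc_d_rc_15_1 lc_d_rc_12_15 lc_d_rc_15_1 lc_d_rc_27_2 lc_d_rc_16_2 lc_d_Cert_tree lc_d_rc_8_3 lc_d_rc_15_1 lc_d_rc_15_1 lc_d_rc_8_3 lc_d_rc_8_3 lc_d_rc_15_1 lc_d_Cert_tree lc_d_rc_15_1 lc_d_rc_15_1 lc_d_rc_23_6 lc_d_rc_12_1)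
def ce_d_21 : D2 → D3 → (Cert rels S Gen.d) := @D2.rec (fun _ => D3 → (Cert rels S Gen.d)) (@D3.rec (fun _ => (Cert rels S Gen.d)) lc_d_rc_17_2 lc_d_Cert_tree lc_d_rc_15_1 lc_d_rc_23_4 lc_d_rc_23_8 lc_d_rc_15_1 lc_d_rc_16_2 lc_d_rc_22_2 lc_d_rc_15_1 lc_d_rc_8_1 lc_d_Cert_tree lc_d_rc_15_1 lc_d_rc_16_0 lc_d_rc_8_1 lc_d_rc_3_3 lc_d_rc_15_1 lc_d_rc_27_4 lc_d_rc_22_8 lc_d_rc_16_2 lc_d_rc_15_1 lc_d_rc_23_4 lc_d_rc_8_1 lc_d_rc_3_3 lc_d_rc_15_1 lc_d_rc_27_8 lc_d_rc_15_1 lc_d_Cert_tree lc_d_rc_15_1 lc_d_rc_8_3 lc_d_rc_16_4 lc_d_rc_8_1 lc_d_rc_22_2 lc_d_rc_15_1 lc_d_rc_22_6 lc_d_rc_15_1 lc_d_rc_15_1 lc_d_rc_8_3 lc_d_rc_24_0 lc_d_rc_15_1 lc_d_rc_16_2 lc_d_Cert_tree lc_d_rc_8_3 lc_d_rc_15_1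 lc_d_rc_15_1 lc_d_rc_24_5 lc_d_rc_17_2 lc_d_rc_15_1 lc_d_rc_23_4 lc_d_rc_15_1 lc_d_rc_23_4 lc_d_rc_16_4 lc_d_rc_3_3 lc_d_Cert_tree lc_d_rc_8_3 lc_d_rc_22_6 lc_d_rc_15_1 lc_d_rc_16_4 lc_d_rc_15_1 lc_d_rc_22_6 lc_d_rc_15_1 lc_d_rc_16_4 lc_d_rc_22_2) (@D3.rec (fun _ => (Cert rels S Gen.d)) lc_d_rc_15_1 lc_d_rc_22_4 lc_d_rc_8_1 lc_d_rc_24_0 lc_d_rc_22_8 lc_d_rc_15_1 lc_d_rc_27_2 lc_d_rc_16_4 lc_d_Cert_tree lc_d_rc_15_1 lc_d_Cert_tree lc_d_rc_15_1 lc_d_rc_16_4 lc_d_rc_23_4 lc_d_rc_24_0 lc_d_rc_22_4 lc_d_rc_8_3 lc_d_rc_15_1 lc_d_rc_15_1 lc_d_rc_16_4 lc_d_rc_8_3 lc_d_rc_3_1 lc_d_Cert_tree lc_d_rc_15_1 lc_d_rc_22_6 lc_d_Cert_tree lc_d_rc_15_1 lc_d_rc_22_4 lc_d_rc_16_4 lc_d_rc_15_1 lc_d_rc_8_3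 lc_d_rc_15_1 lc_d_Cert_tree lc_d_rc_23_6 lc_d_rc_22_4 lc_d_rc_27_4 lc_d_rc_15_1 lc_d_rc_27_2 lc_d_rc_22_4 lc_d_rc_16_4 lc_d_rc_22_8 lc_d_rc_23_8 lc_d_rc_23_2 lc_d_rc_15_1 lc_d_rc_15_1 lc_d_rc_23_8 lc_d_rc_23_8 lc_d_rc_22_2 lc_d_rc_27_2 lc_d_rc_24_0 lc_d_rc_23_8 lc_d_rc_15_1 lc_d_rc_15_1 lc_d_Cert_tree lc_d_Cert_tree lc_d_rc_15_1 lc_d_rc_17_2 lc_d_rc_17_2 lc_d_rc_15_1 lc_d_rc_27_4 lc_d_rc_22_4 lc_d_rc_17_2) (@D3.rec (fun _ => (Cert rels S Gen.d)) lc_d_rc_8_3 lc_d_rc_8_3 lc_d_Cert_tree lc_d_rc_15_1 lc_d_rc_16_4 lc_d_rc_15_1 lc_d_rc_8_3 lc_d_Cert_tree lc_d_rc_15_1 lc_d_rc_15_1 lc_d_rc_23_2 lc_d_rc_8_1 lc_d_rc_16_4 lc_d_rc_8_3 lc_d_rc_16_2 lc_d_rc_15_1 lc_d_Cert_tree lc_d_rc_23_2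 lc_d_Cert_tree lc_d_Cert_tree lc_d_rc_15_1 lc_d_rc_17_2 lc_d_rc_15_1 lc_d_rc_17_2 lc_d_Cert_tree lc_d_rc_15_1 lc_d_rc_15_1 lc_d_rc_15_1 lc_d_Cert_tree lc_d_rc_17_2 lc_d_Cert_tree lc_d_rc_15_1 lc_d_rc_8_3 lc_d_rc_8_1 lc_d_Cert_tree lc_d_rc_15_1 lc_d_rc_22_2 lc_d_rc_16_4 lc_d_rc_22_4 lc_d_rc_16_4 lc_d_rc_24_5 lc_d_rc_22_4 lc_d_rc_8_3 lc_d_rc_15_1 lc_d_rc_23_4 lc_d_rc_17_2 lc_d_rc_8_3 lc_d_rc_15_1 lc_d_rc_27_4 lc_d_rc_15_1 lc_d_rc_8_3 lc_d_rc_15_1 lc_d_rc_17_2 lc_d_rc_23_8 lc_d_Cert_tree lc_d_rc_15_1 lc_d_rc_23_2 lc_d_rc_3_1 lc_d_rc_16_4 lc_d_Cert_tree lc_d_rc_15_1 lc_d_Cert_tree) (@D3.rec (fun _ => (Cert rels S Gen.d)) lc_d_rc_23_8 lc_d_rc_27_8 lc_d_rc_23_6 lc_d_rc_17_2 lc_d_rc_15_1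 lc_d_rc_15_1 lc_d_rc_15_1 lc_d_rc_27_4 lc_d_rc_8_3 lc_d_rc_24_0 lc_d_rc_23_4 lc_d_rc_16_4 lc_d_Cert_tree lc_d_rc_15_1 lc_d_rc_22_8 lc_d_rc_27_4 lc_d_rc_15_1 lc_d_rc_17_0 lc_d_rc_15_1 lc_d_Cert_tree lc_d_rc_15_1 lc_d_rc_8_3 lc_d_rc_27_2 lc_d_rc_15_1 lc_d_rc_27_4 lc_d_rc_23_8 lc_d_rc_15_1 lc_d_rc_27_8 lc_d_rc_27_10 lc_d_rc_15_1 lc_d_rc_15_1 lc_d_rc_23_6 lc_d_rc_27_4 lc_d_Cert_tree lc_d_rc_15_1 lc_d_rc_27_10 lc_d_rc_16_2 lc_d_rc_17_2 lc_d_rc_23_2 lc_d_rc_16_4 lc_d_rc_16_4 lc_d_rc_8_3 lc_d_rc_15_1 lc_d_Cert_tree lc_d_rc_24_0 lc_d_rc_22_2 lc_d_rc_27_2 lc_d_rc_27_8 lc_d_rc_15_1 lc_d_rc_15_1 lc_d_rc_23_2 lc_d_rc_27_4 lc_d_rc_15_1 lc_d_rc_8_3 lc_d_rc_22_4 lc_d_rc_8_3 lc_d_rc_3_1 lc_d_rc_15_1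 lc_d_rc_23_8 lc_d_rc_22_4 lc_d_Cert_tree lc_d_Cert_tree) (@D3.rec (fun _ => (Cert rels S Gen.d)) lc_d_rc_15_1 lc_d_rc_27_4 lc_d_rc_8_1 lc_d_rc_24_5 lc_d_rc_27_8 lc_d_rc_22_4 lc_d_rc_24_5 lc_d_rc_27_2 lc_d_rc_3_3 lc_d_rc_27_4 lc_d_rc_23_6 lc_d_rc_22_2 lc_d_rc_3_1 lc_d_rc_15_1 lc_d_rc_22_8 lc_d_rc_16_2 lc_d_rc_27_4 lc_d_rc_8_1 lc_d_rc_16_4 lc_d_rc_16_4 lc_d_Cert_tree lc_d_rc_15_1 lc_d_rc_15_1 lc_d_rc_17_2 lc_d_Cert_tree lc_d_rc_15_1 lc_d_rc_25_2 lc_d_rc_15_1 lc_d_rc_3_3 lc_d_rc_15_1 lc_d_rc_23_2 lc_d_rc_3_3 lc_d_rc_8_3 lc_d_rc_15_1 lc_d_rc_23_6 lc_d_rc_15_1 lc_d_rc_22_6 lc_d_rc_8_3 lc_d_rc_3_3 lc_d_Cert_tree lc_d_rc_17_2 lc_d_rc_24_0 lc_d_rc_22_2 lc_d_rc_8_1 lc_d_rc_15_1 lc_d_Cert_tree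 lc_d_rc_27_10 lc_d_rc_8_3 lc_d_Cert_tree lc_d_rc_16_4 lc_d_rc_17_2 lc_d_rc_15_1 lc_d_rc_12_15 lc_d_rc_27_4 lc_d_rc_16_0 lc_d_rc_15_1 lc_d_rc_15_1 lc_d_rc_17_2 lc_d_Cert_tree lc_d_rc_15_1 lc_d_rc_25_6 lc_d_Cert_tree) (@D3.rec (fun _ => (Cert rels S Gen.d)) lc_d_rc_3_1 lc_d_rc_15_1 lc_d_rc_27_4 lc_d_Cert_tree lc_d_rc_3_1 lc_d_rc_15_1 lc_d_rc_8_3 lc_d_rc_15_1 lc_d_rc_3_1 lc_d_rc_15_1 lc_d_rc_15_1 lc_d_Cert_tree lc_d_rc_24_0 lc_d_rc_8_3 lc_d_rc_15_1 lc_d_rc_27_10 lc_d_Cert_tree lc_d_rc_15_1 lc_d_rc_24_0 lc_d_rc_23_4 lc_d_Cert_tree lc_d_rc_15_1 lc_d_Cert_tree lc_d_rc_15_1 lc_d_rc_15_1 lc_d_rc_27_10 lc_d_rc_15_1 lc_d_rc_27_2 lc_d_Cert_tree lc_d_rc_15_1 lc_d_rc_15_1 lc_d_rc_15_1 lc_d_rc_15_1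 lc_d_rc_15_1 lc_d_rc_8_3 lc_d_rc_23_4 lc_d_rc_8_3 lc_d_Cert_tree lc_d_Cert_tree lc_d_rc_15_1 lc_d_rc_22_4 lc_d_rc_17_2 lc_d_rc_23_6 lc_d_rc_23_2 lc_d_rc_8_1 lc_d_Cert_tree lc_d_rc_15_1 lc_d_Cert_tree lc_d_rc_8_3 lc_d_rc_8_3 lc_d_rc_15_1 lc_d_rc_15_1 lc_d_rc_24_0 lc_d_rc_27_4 lc_d_rc_16_2 lc_d_rc_23_6 lc_d_rc_16_0 lc_d_rc_3_3 lc_d_rc_15_1 lc_d_rc_12_15 lc_d_rc_15_1 lc_d_rc_23_2) (@D3.rec (fun _ => (Cert rels S Gen.d)) lc_d_Cert_tree lc_d_rc_15_1 lc_d_rc_16_4 lc_d_rc_23_8 lc_d_rc_24_0 lc_d_rc_3_3 lc_d_rc_15_1 lc_d_Cert_tree lc_d_rc_8_3 lc_d_rc_3_3 lc_d_rc_3_1 lc_d_rc_25_6 lc_d_rc_8_1 lc_d_rc_15_1 lc_d_rc_8_3 lc_d_rc_8_1 lc_d_rc_3_3 lc_d_rc_15_1 lc_d_rc_8_3 lc_d_rc_3_3 lc_d_rc_24_5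 lc_d_rc_16_4 lc_d_rc_15_1 lc_d_rc_16_4 lc_d_rc_8_3 lc_d_rc_23_4 lc_d_rc_8_3 lc_d_rc_22_4 lc_d_rc_17_2 lc_d_rc_15_1 lc_d_rc_8_3 lc_d_rc_15_1 lc_d_rc_22_6 lc_d_rc_15_1 lc_d_rc_24_5 lc_d_rc_15_1 lc_d_rc_8_3 lc_d_rc_12_15 lc_d_rc_8_3 lc_d_rc_15_1 lc_d_rc_25_6 lc_d_rc_15_1 lc_d_rc_22_6 lc_d_rc_16_4 lc_d_rc_8_3 lc_d_rc_23_4 lc_d_Cert_tree lc_d_Cert_tree lc_d_rc_17_2 lc_d_rc_8_3 lc_d_rc_15_1 lc_d_rc_27_2 lc_d_rc_15_1 lc_d_rc_15_1 lc_d_rc_27_4 lc_d_rc_15_1 lc_d_rc_8_3 lc_d_rc_8_3 lc_d_Cert_tree lc_d_rc_15_1 lc_d_rc_23_4 lc_d_rc_15_1) (@D3.rec (fun _ => (Cert rels S Gen.d)) lc_d_rc_3_1 lc_d_rc_15_1 lc_d_rc_25_2 lc_d_rc_15_1 lc_d_rc_27_4 lc_d_rc_15_1 lc_d_rc_27_4 lc_d_rc_15_1 lc_d_rc_17_2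 lc_d_rc_23_4 lc_d_rc_17_2 lc_d_rc_27_4 lc_d_rc_15_1 lc_d_rc_16_4 lc_d_rc_15_1 lc_d_rc_8_3 lc_d_Cert_tree lc_d_rc_16_2 lc_d_rc_12_1 lc_d_rc_15_1 lc_d_rc_15_1 lc_d_rc_17_2 lc_d_rc_15_1 lc_d_rc_17_2 lc_d_Cert_tree lc_d_rc_8_3 lc_d_rc_23_2 lc_d_rc_15_1 lc_d_rc_16_4 lc_d_rc_15_1 lc_d_rc_23_4 lc_d_rc_17_2 lc_d_rc_17_2 lc_d_rc_22_6 lc_d_rc_15_1 lc_d_rc_15_1 lc_d_rc_15_1 lc_d_rc_17_0 lc_d_Cert_tree lc_d_rc_15_1 lc_d_rc_16_4 lc_d_rc_8_3 lc_d_rc_16_0 lc_d_rc_15_1 lc_d_rc_15_1 lc_d_rc_15_1 lc_d_rc_3_3 lc_d_rc_16_2 lc_d_rc_16_4 lc_d_rc_23_6 lc_d_rc_23_2 lc_d_rc_8_1 lc_d_Cert_tree lc_d_rc_16_4 lc_d_rc_24_0 lc_d_rc_15_1 lc_d_rc_24_0 lc_d_rc_24_0 lc_d_rc_22_6 lc_d_rc_15_1 lc_d_rc_27_4 lc_d_rc_27_10)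 (@D3.rec (fun _ => (Cert rels S Gen.d)) lc_d_rc_24_0 lc_d_rc_15_1 lc_d_rc_15_1 lc_d_rc_8_3 lc_d_rc_3_1 lc_d_rc_15_1 lc_d_rc_17_2 lc_d_rc_16_2 lc_d_rc_16_4 lc_d_rc_15_1 lc_d_Cert_tree lc_d_rc_8_3 lc_d_rc_16_0 lc_d_rc_15_1 lc_d_rc_15_1 lc_d_rc_17_0 lc_d_rc_3_3 lc_d_rc_15_1 lc_d_rc_17_2 lc_d_rc_24_0 lc_d_rc_17_2 lc_d_rc_27_2 lc_d_rc_15_1 lc_d_rc_8_1 lc_d_rc_15_1 lc_d_rc_17_2 lc_d_rc_15_1 lc_d_rc_8_3 lc_d_rc_15_1 lc_d_Cert_tree lc_d_Cert_tree lc_d_rc_15_1 lc_d_rc_15_1 lc_d_Cert_tree lc_d_Cert_tree lc_d_rc_23_8 lc_d_rc_15_1 lc_d_rc_23_6 lc_d_rc_12_1 lc_d_rc_8_1 lc_d_rc_17_2 lc_d_rc_15_1 lc_d_rc_16_4 lc_d_rc_27_10 lc_d_rc_3_3 lc_d_rc_17_2 lc_d_rc_3_3 lc_d_Cert_tree lc_d_rc_15_1 lc_d_Cert_tree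 lc_d_rc_24_5 lc_d_rc_15_1 lc_d_rc_27_8 lc_d_rc_15_1 lc_d_rc_27_4 lc_d_rc_15_1 lc_d_rc_15_1 lc_d_rc_15_1 lc_d_Cert_tree lc_d_rc_8_3 lc_d_rc_22_2 lc_d_rc_22_6) (@D3.rec (fun _ => (Cert rels S Gen.d)) lc_d_rc_27_10 lc_d_rc_16_4 lc_d_rc_27_8 lc_d_rc_23_4 lc_d_rc_8_3 lc_d_rc_27_4 lc_d_rc_8_3 lc_d_rc_17_0 lc_d_rc_15_1 lc_d_rc_17_0 lc_d_rc_15_1 lc_d_rc_8_3 lc_d_rc_15_1 lc_d_rc_24_5 lc_d_rc_17_0 lc_d_rc_15_1 lc_d_rc_3_3 lc_d_rc_16_0 lc_d_rc_24_0 lc_d_rc_15_1 lc_d_rc_15_1 lc_d_rc_12_1 lc_d_rc_17_2 lc_d_rc_15_1 lc_d_rc_15_1 lc_d_rc_17_2 lc_d_rc_16_2 lc_d_rc_16_2 lc_d_rc_17_2 lc_d_rc_15_1 lc_d_rc_8_3 lc_d_rc_27_2 lc_d_rc_24_5 lc_d_rc_15_1 lc_d_rc_15_1 lc_d_rc_27_4 lc_d_rc_3_3 lc_d_rc_3_3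 lc_d_rc_15_1 lc_d_rc_15_1 lc_d_rc_24_0 lc_d_rc_22_6 lc_d_rc_15_1 lc_d_rc_16_4 lc_d_rc_15_1 lc_d_rc_15_1 lc_d_rc_15_1 lc_d_rc_23_8 lc_d_rc_16_4 lc_d_rc_3_3 lc_d_rc_15_1 lc_d_rc_15_1 lc_d_rc_23_2 lc_d_rc_15_1 lc_d_rc_8_3 lc_d_rc_25_2 lc_d_rc_27_4 lc_d_Cert_tree lc_d_rc_15_1 lc_d_rc_17_2 lc_d_rc_16_2 lc_d_rc_8_3) (@D3.rec (fun _ => (Cert rels S Gen.d)) lc_d_rc_3_1 lc_d_rc_22_2 lc_d_rc_15_1 lc_d_rc_23_2 lc_d_rc_15_1 lc_d_rc_15_1 lc_d_Cert_tree lc_d_Cert_tree lc_d_rc_15_1 lc_d_Cert_tree lc_d_rc_24_0 lc_d_rc_24_5 lc_d_rc_16_4 lc_d_Cert_tree lc_d_rc_17_2 lc_d_rc_15_1 lc_d_rc_27_10 lc_d_rc_17_2 lc_d_rc_22_2 lc_d_rc_22_4 lc_d_rc_15_1 lc_d_rc_27_2 lc_d_rc_15_1 lc_d_rc_16_4 lc_d_rc_3_3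 lc_d_Cert_tree lc_d_Cert_tree lc_d_rc_15_1 lc_d_rc_8_3 lc_d_rc_22_2 lc_d_rc_27_4 lc_d_rc_15_1 lc_d_rc_17_2 lc_d_rc_8_3 lc_d_rc_22_8 lc_d_rc_27_4 lc_d_rc_15_1 lc_d_rc_24_5 lc_d_rc_8_3 lc_d_rc_16_4 lc_d_rc_15_1 lc_d_rc_8_3 lc_d_rc_27_10 lc_d_rc_27_4 lc_d_rc_17_2 lc_d_rc_15_1 lc_d_rc_16_2 lc_d_Cert_tree lc_d_rc_15_1 lc_d_rc_17_2 lc_d_rc_15_1 lc_d_rc_27_2 lc_d_rc_15_1 lc_d_rc_16_2 lc_d_Cert_tree lc_d_rc_8_3 lc_d_rc_3_3 lc_d_Cert_tree lc_d_rc_15_1 lc_d_rc_15_1 lc_d_rc_15_1 lc_d_rc_15_1) (@D3.rec (fun _ => (Cert rels S Gen.d)) lc_d_rc_16_2 lc_d_rc_8_3 lc_d_rc_3_3 lc_d_rc_27_10 lc_d_rc_15_1 lc_d_rc_17_2 lc_d_rc_15_1 lc_d_rc_16_0 lc_d_rc_15_1 lc_d_rc_8_3 lc_d_rc_16_4 lc_d_rc_22_2 lc_d_rc_17_2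 lc_d_rc_16_4 lc_d_rc_15_1 lc_d_rc_8_3 lc_d_rc_8_1 lc_d_rc_23_2 lc_d_rc_15_1 lc_d_rc_15_1 lc_d_rc_8_1 lc_d_rc_24_5 lc_d_rc_15_1 lc_d_rc_15_1 lc_d_rc_15_1 lc_d_Cert_tree lc_d_rc_15_1 lc_d_Cert_tree lc_d_Cert_tree lc_d_rc_27_8 lc_d_rc_15_1 lc_d_rc_22_6 lc_d_rc_16_2 lc_d_rc_22_6 lc_d_rc_15_1 lc_d_rc_23_6 lc_d_rc_23_6 lc_d_rc_27_4 lc_d_rc_15_1 lc_d_rc_17_2 lc_d_rc_15_1 lc_d_rc_27_4 lc_d_Cert_tree lc_d_rc_15_1 lc_d_rc_15_1 lc_d_rc_15_1 lc_d_rc_24_5 lc_d_rc_15_1 lc_d_rc_16_2 lc_d_rc_8_3 lc_d_rc_15_1 lc_d_rc_15_1 lc_d_rc_12_9 lc_d_rc_16_2 lc_d_rc_27_4 lc_d_rc_8_3 lc_d_rc_16_4 lc_d_rc_16_2 lc_d_rc_15_1 lc_d_rc_12_13 lc_d_rc_16_4 lc_d_rc_27_10) (@D3.rec (fun _ => (Cert rels S Gen.d))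 lc_d_rc_15_1 lc_d_rc_17_2 lc_d_rc_8_3 lc_d_rc_8_3 lc_d_Cert_tree lc_d_Cert_tree lc_d_rc_17_2 lc_d_rc_24_0 lc_d_rc_15_1 lc_d_Cert_tree lc_d_rc_15_1 lc_d_rc_8_3 lc_d_rc_8_1 lc_d_rc_16_2 lc_d_rc_27_8 lc_d_rc_15_1 lc_d_rc_16_2 lc_d_rc_15_1 lc_d_rc_16_4 lc_d_rc_15_1 lc_d_rc_8_3 lc_d_rc_15_1 lc_d_rc_8_1 lc_d_rc_15_1 lc_d_rc_8_3 lc_d_rc_3_3 lc_d_Cert_tree lc_d_rc_15_1 lc_d_rc_27_4 lc_d_rc_22_4 lc_d_rc_24_5 lc_d_rc_8_3 lc_d_rc_15_1 lc_d_rc_16_2 lc_d_rc_16_0 lc_d_rc_16_4 lc_d_rc_22_8 lc_d_rc_22_4 lc_d_rc_16_2 lc_d_rc_24_0 lc_d_rc_15_1 lc_d_Cert_tree lc_d_Cert_tree lc_d_rc_15_1 lc_d_rc_8_3 lc_d_rc_16_2 lc_d_Cert_tree lc_d_Cert_tree lc_d_rc_16_4 lc_d_rc_8_3 lc_d_Cert_tree lc_d_rc_15_1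 lc_d_rc_17_2 lc_d_rc_8_3 lc_d_rc_27_4 lc_d_rc_15_1 lc_d_rc_15_1 lc_d_rc_17_2 lc_d_rc_15_1 lc_d_rc_17_2 lc_d_rc_15_1 lc_d_rc_15_1) (@D3.rec (fun _ => (Cert rels S Gen.d)) lc_d_rc_3_3 lc_d_rc_16_2 lc_d_rc_24_0 lc_d_rc_15_1 lc_d_rc_15_1 lc_d_rc_3_3 lc_d_rc_8_3 lc_d_rc_27_4 lc_d_rc_25_10 lc_d_rc_8_3 lc_d_rc_17_2 lc_d_rc_15_1 lc_d_rc_8_3 lc_d_rc_22_4 lc_d_rc_3_3 lc_d_rc_3_3 lc_d_rc_23_4 lc_d_rc_24_5 lc_d_rc_15_1 lc_d_rc_22_8 lc_d_rc_16_2 lc_d_rc_8_3 lc_d_rc_16_4 lc_d_rc_17_2 lc_d_rc_23_2 lc_d_rc_23_8 lc_d_Cert_tree lc_d_rc_15_1 lc_d_rc_22_2 lc_d_rc_16_2 lc_d_rc_16_4 lc_d_rc_24_0 lc_d_rc_3_3 lc_d_rc_8_3 lc_d_rc_3_3 lc_d_Cert_tree lc_d_rc_17_2 lc_d_Cert_tree lc_d_Cert_tree lc_d_Cert_tree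 lc_d_rc_15_1 lc_d_rc_17_2 lc_d_rc_15_1 lc_d_rc_15_1 lc_d_rc_15_1 lc_d_rc_15_1 lc_d_rc_15_1 lc_d_Cert_tree lc_d_rc_15_1 lc_d_Cert_tree lc_d_rc_17_2 lc_d_rc_23_2 lc_d_rc_3_1 lc_d_Cert_tree lc_d_rc_15_1 lc_d_Cert_tree lc_d_rc_15_1 lc_d_rc_27_2 lc_d_Cert_tree lc_d_rc_17_2 lc_d_Cert_tree lc_d_rc_8_3) (@D3.rec (fun _ => (Cert rels S Gen.d)) lc_d_rc_15_1 lc_d_rc_15_1 lc_d_rc_27_8 lc_d_Cert_tree lc_d_rc_27_2 lc_d_rc_17_2 lc_d_rc_16_4 lc_d_rc_8_3 lc_d_rc_15_1 lc_d_rc_27_4 lc_d_Cert_tree lc_d_rc_15_1 lc_d_rc_22_4 lc_d_rc_27_4 lc_d_rc_15_1 lc_d_rc_15_1 lc_d_rc_15_1 lc_d_rc_15_1 lc_d_rc_23_4 lc_d_rc_15_1 lc_d_Cert_tree lc_d_rc_15_1 lc_d_rc_15_1 lc_d_rc_3_3 lc_d_rc_27_10 lc_d_rc_16_4 lc_d_Cert_tree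 lc_d_rc_15_1 lc_d_rc_27_10 lc_d_Cert_tree lc_d_rc_15_1 lc_d_rc_27_4 lc_d_rc_15_1 lc_d_rc_15_1 lc_d_rc_15_1 lc_d_rc_22_6 lc_d_rc_16_4 lc_d_rc_17_2 lc_d_rc_8_3 lc_d_rc_15_1 lc_d_rc_15_1 lc_d_rc_8_1 lc_d_rc_8_3 lc_d_rc_17_2 lc_d_rc_8_3 lc_d_rc_15_1 lc_d_rc_17_2 lc_d_rc_15_1 lc_d_rc_3_3 lc_d_Cert_tree lc_d_rc_17_2 lc_d_rc_15_1 lc_d_rc_15_1 lc_d_rc_15_1 lc_d_rc_27_8 lc_d_rc_15_1 lc_d_rc_3_3 lc_d_rc_16_0 lc_d_rc_8_3 lc_d_rc_3_3 lc_d_rc_23_8 lc_d_rc_17_2) (@D3.rec (fun _ => (Cert rels S Gen.d)) lc_d_rc_8_1 lc_d_rc_15_1 lc_d_rc_8_3 lc_d_rc_16_4 lc_d_rc_27_10 lc_d_rc_15_1 lc_d_rc_17_2 lc_d_rc_17_0 lc_d_rc_17_2 lc_d_Cert_tree lc_d_rc_15_1 lc_d_rc_24_5 lc_d_rc_15_1 lc_d_rc_24_0 lc_d_rc_15_1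 lc_d_rc_22_2 lc_d_rc_25_2 lc_d_rc_24_5 lc_d_rc_15_1 lc_d_rc_23_4 lc_d_rc_17_2 lc_d_rc_23_2 lc_d_rc_17_2 lc_d_rc_15_1 lc_d_rc_17_2 lc_d_rc_15_1 lc_d_rc_23_4 lc_d_rc_27_8 lc_d_rc_17_2 lc_d_rc_15_1 lc_d_rc_22_6 lc_d_rc_17_2 lc_d_rc_27_10 lc_d_rc_15_1 lc_d_rc_23_2 lc_d_rc_16_4 lc_d_rc_15_1 lc_d_rc_27_4 lc_d_rc_15_1 lc_d_rc_16_2 lc_d_rc_15_1 lc_d_rc_16_4 lc_d_rc_17_2 lc_d_rc_16_4 lc_d_rc_8_3 lc_d_rc_8_3 lc_d_rc_22_6 lc_d_rc_27_4 lc_d_Cert_tree lc_d_rc_22_8 lc_d_rc_17_2 lc_d_Cert_tree lc_d_rc_15_1 lc_d_rc_15_1 lc_d_rc_24_0 lc_d_rc_15_1 lc_d_rc_17_2 lc_d_rc_27_4 lc_d_rc_15_1 lc_d_rc_23_2 lc_d_rc_15_1 lc_d_rc_17_2) (@D3.rec (fun _ => (Cert rels S Gen.d)) lc_d_Cert_tree lc_d_rc_8_3 lc_d_rc_15_1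 lc_d_Cert_tree lc_d_rc_15_1 lc_d_rc_16_4 lc_d_rc_17_2 lc_d_rc_16_4 lc_d_rc_16_4 lc_d_rc_8_3 lc_d_rc_15_1 lc_d_rc_15_1 lc_d_rc_22_4 lc_d_rc_22_2 lc_d_rc_23_2 lc_d_rc_15_1 lc_d_rc_17_2 lc_d_rc_8_3 lc_d_rc_27_10 lc_d_rc_17_2 lc_d_rc_8_3 lc_d_rc_27_10 lc_d_rc_23_8 lc_d_Cert_tree lc_d_rc_15_1 lc_d_rc_16_2 lc_d_Cert_tree lc_d_rc_15_1 lc_d_rc_8_1 lc_d_rc_27_8 lc_d_rc_15_1 lc_d_rc_15_1 lc_d_rc_17_2 lc_d_rc_17_2 lc_d_Cert_tree lc_d_Cert_tree lc_d_rc_3_3 lc_d_rc_3_3 lc_d_rc_15_1 lc_d_rc_27_2 lc_d_rc_27_8 lc_d_rc_15_1 lc_d_rc_22_8 lc_d_rc_17_2 lc_d_rc_17_2 lc_d_rc_15_1 lc_d_rc_3_3 lc_d_rc_8_1 lc_d_rc_22_4 lc_d_rc_8_3 lc_d_Cert_tree lc_d_Cert_tree lc_d_rc_15_1 lc_d_rc_16_4 lc_d_rc_8_1 lc_d_rc_15_1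 lc_d_rc_27_8 lc_d_Cert_tree lc_d_rc_15_1 lc_d_Cert_tree lc_d_rc_15_1 lc_d_rc_16_4) (@D3.rec (fun _ => (Cert rels S Gen.d)) lc_d_rc_15_1 lc_d_rc_22_4 lc_d_rc_15_1 lc_d_Cert_tree lc_d_Cert_tree lc_d_rc_15_1 lc_d_rc_15_1 lc_d_rc_15_1 lc_d_rc_15_1 lc_d_rc_22_6 lc_d_rc_16_4 lc_d_rc_23_2 lc_d_rc_23_2 lc_d_Cert_tree lc_d_rc_15_1 lc_d_rc_15_1 lc_d_rc_24_5 lc_d_rc_25_2 lc_d_rc_22_6 lc_d_Cert_tree lc_d_rc_15_1 lc_d_rc_17_2 lc_d_rc_25_2 lc_d_Cert_tree lc_d_Cert_tree lc_d_rc_15_1 lc_d_rc_17_2 lc_d_Cert_tree lc_d_Cert_tree lc_d_rc_15_1 lc_d_rc_17_2 lc_d_Cert_tree lc_d_rc_15_1 lc_d_rc_27_4 lc_d_rc_15_1 lc_d_rc_8_3 lc_d_rc_15_1 lc_d_rc_12_13 lc_d_rc_16_4 lc_d_rc_8_3 lc_d_rc_12_15 lc_d_rc_15_1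 lc_d_rc_15_1 lc_d_rc_16_2 lc_d_rc_17_2 lc_d_rc_12_15 lc_d_rc_27_2 lc_d_rc_8_3 lc_d_rc_25_6 lc_d_rc_15_1 lc_d_rc_3_3 lc_d_rc_17_2 lc_d_rc_3_3 lc_d_Cert_tree lc_d_rc_3_3 lc_d_rc_22_4 lc_d_rc_24_0 lc_d_Cert_tree lc_d_Cert_tree lc_d_rc_15_1 lc_d_rc_22_4 lc_d_rc_17_2) (@D3.rec (fun _ => (Cert rels S Gen.d)) lc_d_rc_16_2 lc_d_Cert_tree lc_d_rc_15_1 lc_d_Cert_tree lc_d_rc_15_1 lc_d_rc_23_8 lc_d_rc_23_8 lc_d_rc_15_1 lc_d_rc_17_2 lc_d_Cert_tree lc_d_rc_15_1 lc_d_Cert_tree lc_d_rc_15_1 lc_d_Cert_tree lc_d_rc_25_6 lc_d_Cert_tree lc_d_rc_3_1 lc_d_rc_15_1 lc_d_rc_16_2 lc_d_rc_15_1 lc_d_rc_8_1 lc_d_rc_15_1 lc_d_rc_15_1 lc_d_rc_23_4 lc_d_Cert_tree lc_d_rc_15_1 lc_d_rc_16_2 lc_d_rc_27_2 lc_d_rc_16_4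 lc_d_Cert_tree lc_d_Cert_tree lc_d_Cert_tree lc_d_rc_15_1 lc_d_rc_15_1 lc_d_rc_16_0 lc_d_rc_25_6 lc_d_rc_16_4 lc_d_rc_16_2 lc_d_rc_8_3 lc_d_rc_17_2 lc_d_rc_8_1 lc_d_rc_23_2 lc_d_rc_22_4 lc_d_rc_17_2 lc_d_rc_12_15 lc_d_rc_27_4 lc_d_rc_15_1 lc_d_rc_27_4 lc_d_rc_16_4 lc_d_rc_24_0 lc_d_rc_17_2 lc_d_rc_15_1 lc_d_rc_16_2 lc_d_rc_8_3 lc_d_rc_27_10 lc_d_rc_3_3 lc_d_Cert_tree lc_d_rc_15_1 lc_d_rc_17_2 lc_d_rc_15_1 lc_d_rc_23_8 lc_d_rc_23_8) (@D3.rec (fun _ => (Cert rels S Gen.d)) lc_d_rc_27_8 lc_d_rc_15_1 lc_d_rc_25_6 lc_d_Cert_tree lc_d_Cert_tree lc_d_rc_15_1 lc_d_rc_27_2 lc_d_rc_22_4 lc_d_Cert_tree lc_d_Cert_tree lc_d_rc_15_1 lc_d_rc_8_1 lc_d_rc_24_0 lc_d_rc_25_18 lc_d_rc_8_3 lc_d_Cert_tree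 lc_d_rc_15_1 lc_d_rc_16_4 lc_d_rc_16_4 lc_d_Cert_tree lc_d_rc_15_1 lc_d_Cert_tree lc_d_rc_15_1 lc_d_Cert_tree lc_d_rc_15_1 lc_d_rc_15_1 lc_d_rc_16_4 lc_d_rc_8_3 lc_d_rc_16_2 lc_d_rc_15_1 lc_d_rc_23_8 lc_d_rc_17_2 lc_d_rc_3_3 lc_d_rc_3_1 lc_d_rc_23_4 lc_d_rc_24_0 lc_d_rc_3_3 lc_d_rc_8_3 lc_d_rc_15_1 lc_d_rc_15_1 lc_d_rc_8_3 lc_d_Cert_tree lc_d_rc_17_2 lc_d_rc_8_1 lc_d_rc_27_2 lc_d_rc_22_4 lc_d_rc_15_1 lc_d_Cert_tree lc_d_rc_16_4 lc_d_Cert_tree lc_d_rc_15_1 lc_d_Cert_tree lc_d_rc_15_1 lc_d_rc_15_1 lc_d_rc_25_6 lc_d_rc_23_4 lc_d_rc_8_3 lc_d_rc_15_1 lc_d_rc_16_2 lc_d_rc_8_3 lc_d_rc_15_1 lc_d_rc_22_2) (@D3.rec (fun _ => (Cert rels S Gen.d)) lc_d_Cert_tree lc_d_rc_15_1 lc_d_rc_16_4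 lc_d_rc_8_3 lc_d_rc_27_2 lc_d_rc_22_2 lc_d_rc_17_2 lc_d_rc_15_1 lc_d_rc_27_8 lc_d_rc_8_3 lc_d_rc_8_3 lc_d_rc_27_8 lc_d_rc_16_4 lc_d_rc_15_1 lc_d_rc_27_4 lc_d_rc_23_2 lc_d_rc_15_1 lc_d_rc_27_2 lc_d_rc_15_1 lc_d_rc_23_2 lc_d_rc_27_8 lc_d_rc_3_3 lc_d_rc_12_1 lc_d_rc_16_4 lc_d_rc_17_2 lc_d_rc_27_4 lc_d_rc_15_1 lc_d_rc_17_2 lc_d_rc_15_1 lc_d_rc_23_4 lc_d_rc_27_4 lc_d_rc_15_1 lc_d_rc_15_1 lc_d_rc_15_1 lc_d_rc_17_0 lc_d_rc_15_1 lc_d_Cert_tree lc_d_rc_8_3 lc_d_rc_8_3 lc_d_rc_15_1 lc_d_rc_3_1 lc_d_rc_15_1 lc_d_rc_15_1 lc_d_rc_15_1 lc_d_rc_27_2 lc_d_rc_15_1 lc_d_rc_8_3 lc_d_rc_15_1 lc_d_rc_15_1 lc_d_rc_15_1 lc_d_rc_27_2 lc_d_rc_17_2 lc_d_rc_23_8 lc_d_rc_15_1 lc_d_rc_15_1 lc_d_rc_23_6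 lc_d_rc_17_0 lc_d_rc_23_4 lc_d_rc_8_3 lc_d_rc_23_8 lc_d_rc_23_2 lc_d_rc_16_2) (@D3.rec (fun _ => (Cert rels S Gen.d)) lc_d_rc_15_1 lc_d_rc_27_4 lc_d_rc_8_3 lc_d_rc_15_1 lc_d_rc_23_6 lc_d_rc_16_2 lc_d_rc_15_1 lc_d_rc_8_3 lc_d_rc_16_2 lc_d_rc_25_10 lc_d_rc_22_2 lc_d_rc_16_2 lc_d_rc_15_1 lc_d_Cert_tree lc_d_rc_17_2 lc_d_rc_8_3 lc_d_rc_8_3 lc_d_rc_16_0 lc_d_rc_17_2 lc_d_rc_15_1 lc_d_rc_27_4 lc_d_rc_15_1 lc_d_rc_23_4 lc_d_rc_23_6 lc_d_Cert_tree lc_d_rc_17_2 lc_d_rc_8_3 lc_d_Cert_tree lc_d_rc_16_2 lc_d_rc_8_1 lc_d_Cert_tree lc_d_rc_16_4 lc_d_Cert_tree lc_d_Cert_tree lc_d_Cert_tree lc_d_rc_15_1 lc_d_rc_15_1 lc_d_rc_16_2 lc_d_rc_15_1 lc_d_rc_15_1 lc_d_rc_16_4 lc_d_Cert_tree lc_d_rc_15_1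 lc_d_Cert_tree lc_d_rc_15_1 lc_d_rc_27_2 lc_d_rc_15_1 lc_d_rc_8_1 lc_d_rc_15_1 lc_d_rc_15_1 lc_d_rc_15_1 lc_d_rc_3_3 lc_d_Cert_tree lc_d_rc_15_1 lc_d_rc_8_3 lc_d_rc_22_6 lc_d_rc_16_4 lc_d_rc_15_1 lc_d_rc_16_0 lc_d_rc_16_4 lc_d_rc_16_0 lc_d_rc_15_1) (@D3.rec (fun _ => (Cert rels S Gen.d)) lc_d_rc_15_1 lc_d_rc_8_1 lc_d_rc_15_1 lc_d_rc_16_4 lc_d_rc_23_4 lc_d_rc_22_8 lc_d_rc_16_2 lc_d_rc_27_8 lc_d_rc_16_4 lc_d_rc_8_3 lc_d_rc_8_3 lc_d_rc_16_4 lc_d_rc_15_1 lc_d_rc_27_2 lc_d_rc_24_0 lc_d_rc_16_0 lc_d_rc_15_1 lc_d_rc_8_1 lc_d_rc_15_1 lc_d_rc_23_2 lc_d_Cert_tree lc_d_Cert_tree lc_d_rc_15_1 lc_d_rc_22_6 lc_d_rc_16_4 lc_d_rc_8_3 lc_d_rc_23_2 lc_d_rc_23_8 lc_d_rc_3_1 lc_d_rc_15_1 lc_d_rc_25_2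 lc_d_rc_3_1 lc_d_rc_17_2 lc_d_rc_15_1 lc_d_rc_27_8 lc_d_rc_27_10 lc_d_rc_17_2 lc_d_rc_15_1 lc_d_rc_23_4 lc_d_rc_15_1 lc_d_rc_15_1 lc_d_rc_27_4 lc_d_rc_27_10 lc_d_rc_15_1 lc_d_rc_15_1 lc_d_rc_17_0 lc_d_rc_15_1 lc_d_rc_3_3 lc_d_rc_15_1 lc_d_rc_15_1 lc_d_rc_24_0 lc_d_rc_15_1 lc_d_rc_8_1 lc_d_rc_15_1 lc_d_rc_8_1 lc_d_rc_15_1 lc_d_Cert_tree lc_d_rc_15_1 lc_d_rc_16_0 lc_d_rc_17_2 lc_d_rc_15_1 lc_d_Cert_tree) (@D3.rec (fun _ => (Cert rels S Gen.d)) lc_d_rc_22_4 lc_d_rc_15_1 lc_d_rc_22_6 lc_d_rc_8_3 lc_d_rc_12_15 lc_d_rc_15_1 lc_d_rc_15_1 lc_d_rc_27_8 lc_d_Cert_tree lc_d_rc_15_1 lc_d_rc_27_4 lc_d_rc_15_1 lc_d_rc_3_1 lc_d_rc_27_10 lc_d_rc_27_10 lc_d_rc_3_3 lc_d_rc_23_4 lc_d_rc_8_3 lc_d_rc_16_2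 lc_d_rc_16_0 lc_d_rc_15_1 lc_d_rc_15_1 lc_d_rc_15_1 lc_d_rc_8_1 lc_d_rc_16_2 lc_d_rc_23_8 lc_d_rc_24_5 lc_d_rc_15_1 lc_d_rc_16_4 lc_d_rc_15_1 lc_d_rc_8_3 lc_d_rc_15_1 lc_d_rc_27_10 lc_d_Cert_tree lc_d_rc_27_8 lc_d_rc_15_1 lc_d_rc_17_2 lc_d_rc_15_1 lc_d_rc_15_1 lc_d_rc_27_2 lc_d_rc_23_2 lc_d_Cert_tree lc_d_rc_8_3 lc_d_rc_8_1 lc_d_rc_24_5 lc_d_rc_8_1 lc_d_rc_15_1 lc_d_rc_15_1 lc_d_rc_15_1 lc_d_rc_24_0 lc_d_rc_3_1 lc_d_rc_15_1 lc_d_rc_8_3 lc_d_rc_16_4 lc_d_rc_23_4 lc_d_rc_22_6 lc_d_rc_23_2 lc_d_Cert_tree lc_d_rc_8_3 lc_d_rc_15_1 lc_d_rc_22_6 lc_d_rc_8_3) (@D3.rec (fun _ => (Cert rels S Gen.d)) lc_d_rc_16_0 lc_d_rc_22_4 lc_d_rc_16_2 lc_d_rc_8_3 lc_d_rc_22_4 lc_d_rc_22_4 lc_d_rc_23_4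 lc_d_rc_15_1 lc_d_rc_15_1 lc_d_Cert_tree lc_d_rc_23_4 lc_d_rc_25_2 lc_d_rc_17_2 lc_d_rc_3_3 lc_d_rc_27_4 lc_d_rc_8_3 lc_d_rc_15_1 lc_d_rc_23_8 lc_d_rc_16_0 lc_d_rc_27_10 lc_d_Cert_tree lc_d_rc_15_1 lc_d_rc_16_4 lc_d_rc_27_2 lc_d_rc_27_10 lc_d_Cert_tree lc_d_rc_15_1 lc_d_Cert_tree lc_d_rc_15_1 lc_d_rc_27_2 lc_d_rc_23_2 lc_d_rc_15_1 lc_d_rc_22_4 lc_d_rc_15_1 lc_d_Cert_tree lc_d_rc_15_1 lc_d_rc_27_4 lc_d_rc_15_1 lc_d_Cert_tree lc_d_rc_16_4 lc_d_rc_8_3 lc_d_Cert_tree lc_d_rc_24_0 lc_d_rc_15_1 lc_d_rc_17_2 lc_d_rc_16_2 lc_d_rc_15_1 lc_d_rc_24_0 lc_d_rc_15_1 lc_d_rc_3_1 lc_d_Cert_tree lc_d_Cert_tree lc_d_rc_15_1 lc_d_rc_16_0 lc_d_rc_15_1 lc_d_rc_27_2 lc_d_rc_8_3 lc_d_rc_27_10 lc_d_rc_8_3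 lc_d_rc_15_1 lc_d_rc_25_2 lc_d_rc_3_1) (@D3.rec (fun _ => (Cert rels S Gen.d)) lc_d_rc_15_1 lc_d_rc_15_1 lc_d_rc_27_8 lc_d_rc_23_8 lc_d_rc_8_1 lc_d_rc_23_4 lc_d_rc_25_10 lc_d_rc_22_4 lc_d_rc_22_2 lc_d_rc_15_1 lc_d_rc_16_2 lc_d_rc_27_10 lc_d_Cert_tree lc_d_rc_15_1 lc_d_rc_16_4 lc_d_rc_15_1 lc_d_rc_16_4 lc_d_rc_15_1 lc_d_rc_15_1 lc_d_Cert_tree lc_d_rc_15_1 lc_d_rc_15_1 lc_d_rc_16_4 lc_d_rc_15_1 lc_d_rc_3_3 lc_d_rc_15_1 lc_d_rc_22_6 lc_d_rc_27_4 lc_d_rc_15_1 lc_d_rc_27_4 lc_d_rc_8_3 lc_d_rc_16_4 lc_d_rc_24_5 lc_d_rc_22_4 lc_d_rc_15_1 lc_d_rc_23_4 lc_d_rc_24_5 lc_d_rc_22_4 lc_d_rc_8_3 lc_d_rc_15_1 lc_d_rc_8_3 lc_d_rc_8_1 lc_d_rc_8_3 lc_d_rc_3_3 lc_d_rc_15_1 lc_d_rc_24_0 lc_d_rc_15_1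 lc_d_rc_15_1 lc_d_rc_15_1 lc_d_rc_12_1 lc_d_rc_16_0 lc_d_rc_15_1 lc_d_rc_3_3 lc_d_rc_8_1 lc_d_rc_24_5 lc_d_rc_15_1 lc_d_rc_16_2 lc_d_rc_8_3 lc_d_rc_22_4 lc_d_rc_3_3 lc_d_rc_15_1 lc_d_rc_15_1) (@D3.rec (fun _ => (Cert rels S Gen.d)) lc_d_rc_15_1 lc_d_rc_8_1 lc_d_rc_15_1 lc_d_rc_3_1 lc_d_rc_3_3 lc_d_rc_15_1 lc_d_rc_8_3 lc_d_rc_8_1 lc_d_rc_15_1 lc_d_rc_16_4 lc_d_rc_12_15 lc_d_rc_15_1 lc_d_rc_8_3 lc_d_Cert_tree lc_d_rc_15_1 lc_d_rc_8_3 lc_d_Cert_tree lc_d_rc_15_1 lc_d_rc_23_4 lc_d_rc_15_1 lc_d_rc_15_1 lc_d_rc_16_2 lc_d_Cert_tree lc_d_rc_27_8 lc_d_rc_8_1 lc_d_rc_8_1 lc_d_rc_15_1 lc_d_rc_23_8 lc_d_rc_8_3 lc_d_rc_15_1 lc_d_rc_16_4 lc_d_rc_23_4 lc_d_rc_23_4 lc_d_rc_8_3 lc_d_rc_15_1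 lc_d_rc_23_8 lc_d_rc_22_4 lc_d_rc_15_1 lc_d_rc_15_1 lc_d_rc_15_1 lc_d_rc_16_2 lc_d_rc_15_1 lc_d_rc_16_0 lc_d_rc_16_4 lc_d_rc_17_0 lc_d_rc_16_2 lc_d_rc_23_6 lc_d_rc_22_2 lc_d_rc_15_1 lc_d_rc_8_3 lc_d_rc_17_2 lc_d_rc_16_2 lc_d_rc_15_1 lc_d_rc_15_1 lc_d_rc_15_1 lc_d_rc_22_4 lc_d_rc_24_5 lc_d_rc_24_5 lc_d_rc_24_5 lc_d_rc_25_14 lc_d_rc_3_1 lc_d_rc_24_0) (@D3.rec (fun _ => (Cert rels S Gen.d)) lc_d_rc_15_1 lc_d_rc_15_1 lc_d_rc_23_8 lc_d_Cert_tree lc_d_rc_15_1 lc_d_rc_16_2 lc_d_rc_23_8 lc_d_rc_27_10 lc_d_rc_3_1 lc_d_rc_8_3 lc_d_rc_23_8 lc_d_rc_3_3 lc_d_rc_24_5 lc_d_rc_15_1 lc_d_rc_17_0 lc_d_rc_16_0 lc_d_rc_16_2 lc_d_rc_25_18 lc_d_rc_15_1 lc_d_rc_15_1 lc_d_rc_8_3 lc_d_rc_8_3 lc_d_rc_23_6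 lc_d_rc_15_1 lc_d_rc_22_2 lc_d_rc_15_1 lc_d_rc_23_2 lc_d_Cert_tree lc_d_rc_15_1 lc_d_Cert_tree lc_d_Cert_tree lc_d_Cert_tree lc_d_rc_15_1 lc_d_Cert_tree lc_d_rc_15_1 lc_d_rc_8_3 lc_d_rc_24_5 lc_d_rc_27_4 lc_d_rc_8_3 lc_d_rc_8_3 lc_d_rc_16_4 lc_d_rc_3_3 lc_d_rc_8_1 lc_d_rc_23_8 lc_d_rc_24_0 lc_d_rc_3_3 lc_d_rc_16_4 lc_d_rc_15_1 lc_d_Cert_tree lc_d_rc_15_1 lc_d_rc_23_8 lc_d_rc_3_3 lc_d_Cert_tree lc_d_rc_15_1 lc_d_rc_24_5 lc_d_rc_8_1 lc_d_rc_27_4 lc_d_rc_15_1 lc_d_rc_8_1 lc_d_rc_22_4 lc_d_Cert_tree lc_d_Cert_tree) (@D3.rec (fun _ => (Cert rels S Gen.d)) lc_d_rc_22_4 lc_d_rc_15_1 lc_d_Cert_tree lc_d_rc_15_1 lc_d_rc_17_2 lc_d_rc_24_5 lc_d_rc_15_1 lc_d_rc_27_4 lc_d_rc_15_1 lc_d_rc_15_1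 lc_d_rc_15_1 lc_d_Cert_tree lc_d_rc_17_2 lc_d_rc_16_4 lc_d_rc_15_1 lc_d_rc_27_2 lc_d_rc_15_1 lc_d_Cert_tree lc_d_rc_15_1 lc_d_rc_15_1 lc_d_rc_15_1 lc_d_rc_22_6 lc_d_rc_16_2 lc_d_rc_8_1 lc_d_rc_15_1 lc_d_Cert_tree lc_d_rc_15_1 lc_d_rc_8_3 lc_d_rc_24_0 lc_d_rc_27_4 lc_d_rc_8_3 lc_d_rc_8_3 lc_d_rc_15_1 lc_d_rc_12_15 lc_d_rc_15_1 lc_d_rc_8_3 lc_d_rc_8_1 lc_d_rc_3_3 lc_d_rc_16_2 lc_d_rc_15_1 lc_d_rc_24_5 lc_d_rc_27_10 lc_d_rc_17_0 lc_d_rc_15_1 lc_d_rc_27_4 lc_d_rc_15_1 lc_d_rc_27_4 lc_d_rc_15_1 lc_d_rc_27_4 lc_d_rc_15_1 lc_d_rc_16_4 lc_d_rc_15_1 lc_d_rc_16_2 lc_d_rc_15_1 lc_d_rc_3_3 lc_d_rc_16_4 lc_d_rc_15_1 lc_d_rc_16_4 lc_d_rc_27_8 lc_d_rc_23_4 lc_d_rc_23_8 lc_d_Cert_tree) (@D3.rec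 (fun _ => (Cert rels S Gen.d)) lc_d_rc_15_1 lc_d_rc_23_4 lc_d_rc_15_1 lc_d_rc_15_1 lc_d_rc_27_2 lc_d_rc_15_1 lc_d_rc_15_1 lc_d_rc_16_4 lc_d_rc_15_1 lc_d_rc_17_2 lc_d_rc_24_5 lc_d_rc_8_3 lc_d_rc_23_2 lc_d_rc_16_4 lc_d_Cert_tree lc_d_Cert_tree lc_d_Cert_tree lc_d_rc_15_1 lc_d_rc_27_10 lc_d_rc_16_2 lc_d_rc_17_2 lc_d_rc_15_1 lc_d_rc_27_8 lc_d_rc_27_10 lc_d_rc_15_1 lc_d_rc_15_1 lc_d_rc_3_3 lc_d_rc_22_4 lc_d_rc_15_1 lc_d_rc_15_1 lc_d_Cert_tree lc_d_rc_17_2 lc_d_Cert_tree lc_d_rc_15_1 lc_d_rc_27_4 lc_d_rc_27_4 lc_d_Cert_tree lc_d_rc_15_1 lc_d_rc_22_4 lc_d_Cert_tree lc_d_rc_15_1 lc_d_rc_27_4 lc_d_rc_23_6 lc_d_rc_23_6 lc_d_rc_22_6 lc_d_rc_15_1 lc_d_rc_17_2 lc_d_rc_24_5 lc_d_rc_15_1 lc_d_rc_15_1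 lc_d_rc_27_8 lc_d_rc_16_2 lc_d_rc_27_2 lc_d_rc_15_1 lc_d_rc_17_2 lc_d_rc_17_2 lc_d_rc_15_1 lc_d_rc_15_1 lc_d_Cert_tree lc_d_rc_17_2 lc_d_rc_15_1 lc_d_Cert_tree) (@D3.rec (fun _ => (Cert rels S Gen.d)) lc_d_rc_15_1 lc_d_rc_17_2 lc_d_rc_8_1 lc_d_rc_15_1 lc_d_rc_27_4 lc_d_rc_22_6 lc_d_rc_27_8 lc_d_Cert_tree lc_d_rc_15_1 lc_d_rc_17_2 lc_d_rc_22_6 lc_d_rc_15_1 lc_d_rc_8_1 lc_d_rc_15_1 lc_d_rc_15_1 lc_d_rc_27_8 lc_d_rc_16_0 lc_d_rc_15_1 lc_d_rc_15_1 lc_d_rc_27_2 lc_d_rc_16_4 lc_d_rc_15_1 lc_d_rc_24_0 lc_d_rc_15_1 lc_d_rc_15_1 lc_d_rc_17_2 lc_d_rc_15_1 lc_d_rc_23_6 lc_d_rc_23_6 lc_d_rc_8_3 lc_d_rc_17_2 lc_d_rc_15_1 lc_d_rc_24_0 lc_d_rc_24_0 lc_d_rc_24_5 lc_d_rc_22_2 lc_d_rc_15_1 lc_d_rc_23_2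 lc_d_rc_16_0 lc_d_rc_8_3 lc_d_rc_15_1 lc_d_Cert_tree lc_d_rc_16_4 lc_d_rc_8_3 lc_d_rc_15_1 lc_d_rc_15_1 lc_d_Cert_tree lc_d_rc_15_1 lc_d_rc_15_1 lc_d_rc_27_4 lc_d_rc_15_1 lc_d_rc_27_4 lc_d_rc_15_1 lc_d_rc_8_3 lc_d_rc_17_0 lc_d_rc_16_2 lc_d_rc_3_3 lc_d_Cert_tree lc_d_rc_8_1 lc_d_rc_15_1 lc_d_rc_27_10 lc_d_rc_3_3) (@D3.rec (fun _ => (Cert rels S Gen.d)) lc_d_rc_3_1 lc_d_rc_23_8 lc_d_rc_24_0 lc_d_rc_27_10 lc_d_rc_8_1 lc_d_rc_8_3 lc_d_rc_24_0 lc_d_rc_23_2 lc_d_rc_15_1 lc_d_rc_23_2 lc_d_rc_15_1 lc_d_rc_22_4 lc_d_rc_3_3 lc_d_rc_25_2 lc_d_rc_22_6 lc_d_rc_27_8 lc_d_rc_24_0 lc_d_rc_25_6 lc_d_rc_24_0 lc_d_rc_15_1 lc_d_rc_8_3 lc_d_rc_8_3 lc_d_rc_23_6 lc_d_rc_23_8 lc_d_rc_24_0 lc_d_rc_15_1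 lc_d_rc_22_4 lc_d_rc_3_3 lc_d_rc_27_4 lc_d_rc_8_3 lc_d_Cert_tree lc_d_Cert_tree lc_d_rc_16_0 lc_d_rc_15_1 lc_d_rc_15_1 lc_d_rc_3_1 lc_d_rc_15_1 lc_d_rc_16_2 lc_d_rc_27_8 lc_d_rc_25_6 lc_d_Cert_tree lc_d_rc_15_1 lc_d_rc_15_1 lc_d_rc_15_1 lc_d_rc_23_6 lc_d_Cert_tree lc_d_rc_8_3 lc_d_rc_15_1 lc_d_Cert_tree lc_d_rc_15_1 lc_d_rc_22_4 lc_d_rc_15_1 lc_d_rc_8_1 lc_d_rc_22_4 lc_d_Cert_tree lc_d_rc_25_18 lc_d_rc_3_3 lc_d_rc_3_1 lc_d_rc_27_2 lc_d_rc_8_3 lc_d_rc_15_1 lc_d_rc_15_1) (@D3.rec (fun _ => (Cert rels S Gen.d)) lc_d_rc_8_1 lc_d_rc_3_1 lc_d_rc_15_1 lc_d_rc_23_8 lc_d_rc_22_4 lc_d_rc_15_1 lc_d_rc_15_1 lc_d_rc_16_4 lc_d_rc_23_4 lc_d_rc_17_2 lc_d_rc_27_4 lc_d_rc_15_1 lc_d_rc_24_0 lc_d_rc_12_15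 lc_d_rc_23_4 lc_d_rc_3_3 lc_d_rc_16_4 lc_d_rc_15_1 lc_d_Cert_tree lc_d_rc_15_1 lc_d_rc_8_3 lc_d_rc_16_2 lc_d_rc_15_1 lc_d_rc_15_1 lc_d_rc_16_4 lc_d_rc_17_2 lc_d_rc_15_1 lc_d_rc_15_1 lc_d_rc_15_1 lc_d_Cert_tree lc_d_rc_15_1 lc_d_rc_15_1 lc_d_Cert_tree lc_d_rc_27_10 lc_d_rc_17_2 lc_d_rc_27_4 lc_d_rc_22_6 lc_d_rc_15_1 lc_d_rc_15_1 lc_d_rc_27_2 lc_d_rc_8_3 lc_d_rc_27_4 lc_d_rc_15_1 lc_d_rc_15_1 lc_d_rc_15_1 lc_d_rc_23_2 lc_d_rc_24_5 lc_d_rc_15_1 lc_d_rc_22_2 lc_d_rc_15_1 lc_d_Cert_tree lc_d_rc_15_1 lc_d_rc_22_4 lc_d_rc_27_2 lc_d_rc_15_1 lc_d_rc_3_3 lc_d_rc_3_3 lc_d_rc_8_3 lc_d_rc_3_1 lc_d_rc_16_2 lc_d_rc_24_5 lc_d_Cert_tree) (@D3.rec (fun _ => (Cert rels S Gen.d)) lc_d_rc_15_1 lc_d_rc_12_3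 lc_d_Cert_tree lc_d_rc_15_1 lc_d_rc_24_5 lc_d_Cert_tree lc_d_rc_15_1 lc_d_rc_3_1 lc_d_rc_15_1 lc_d_rc_25_2 lc_d_rc_15_1 lc_d_rc_17_2 lc_d_rc_8_3 lc_d_rc_3_1 lc_d_rc_15_1 lc_d_rc_15_1 lc_d_rc_16_4 lc_d_rc_8_1 lc_d_rc_8_3 lc_d_rc_16_4 lc_d_rc_23_6 lc_d_rc_17_2 lc_d_rc_15_1 lc_d_rc_24_5 lc_d_rc_3_1 lc_d_rc_8_3 lc_d_rc_15_1 lc_d_rc_24_0 lc_d_rc_22_4 lc_d_rc_15_1 lc_d_rc_24_5 lc_d_rc_15_1 lc_d_rc_27_2 lc_d_rc_24_5 lc_d_rc_23_8 lc_d_rc_15_1 lc_d_rc_22_4 lc_d_rc_3_3 lc_d_rc_23_8 lc_d_rc_3_3 lc_d_rc_3_3 lc_d_rc_15_1 lc_d_rc_25_10 lc_d_rc_22_6 lc_d_rc_22_2 lc_d_rc_23_8 lc_d_rc_15_1 lc_d_rc_22_2 lc_d_rc_25_6 lc_d_rc_8_3 lc_d_rc_27_10 lc_d_rc_15_1 lc_d_rc_3_3 lc_d_rc_27_2 lc_d_rc_24_5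 lc_d_rc_15_1 lc_d_rc_27_4 lc_d_rc_23_4 lc_d_rc_22_4 lc_d_rc_24_0 lc_d_rc_15_1 lc_d_rc_25_14) (@D3.rec (fun _ => (Cert rels S Gen.d)) lc_d_rc_23_8 lc_d_rc_12_1 lc_d_rc_15_1 lc_d_rc_8_3 lc_d_rc_8_3 lc_d_rc_24_5 lc_d_rc_15_1 lc_d_rc_27_2 lc_d_rc_15_1 lc_d_rc_15_1 lc_d_rc_22_2 lc_d_rc_8_3 lc_d_rc_23_4 lc_d_rc_23_6 lc_d_rc_3_3 lc_d_rc_25_18 lc_d_rc_23_8 lc_d_Cert_tree lc_d_rc_15_1 lc_d_rc_15_1 lc_d_rc_27_10 lc_d_rc_22_4 lc_d_rc_15_1 lc_d_rc_15_1 lc_d_rc_27_2 lc_d_rc_15_1 lc_d_rc_27_2 lc_d_rc_15_1 lc_d_rc_16_0 lc_d_rc_15_1 lc_d_rc_16_4 lc_d_Cert_tree lc_d_rc_15_1 lc_d_rc_16_4 lc_d_Cert_tree lc_d_rc_15_1 lc_d_rc_15_1 lc_d_rc_22_4 lc_d_rc_16_4 lc_d_Cert_tree lc_d_Cert_tree lc_d_rc_17_2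 lc_d_Cert_tree lc_d_rc_15_1 lc_d_rc_3_1 lc_d_rc_27_2 lc_d_rc_8_1 lc_d_rc_15_1 lc_d_rc_24_0 lc_d_rc_24_0 lc_d_rc_24_5 lc_d_rc_15_1 lc_d_rc_27_4 lc_d_rc_15_1 lc_d_rc_24_5 lc_d_rc_15_1 lc_d_rc_15_1 lc_d_rc_16_4 lc_d_rc_24_5 lc_d_rc_8_3 lc_d_rc_8_1 lc_d_rc_24_0) (@D3.rec (fun _ => (Cert rels S Gen.d)) lc_d_rc_15_1 lc_d_rc_15_1 lc_d_rc_16_2 lc_d_rc_3_3 lc_d_rc_27_4 lc_d_rc_12_3 lc_d_rc_24_0 lc_d_rc_24_0 lc_d_rc_23_2 lc_d_rc_15_1 lc_d_rc_27_8 lc_d_rc_8_3 lc_d_rc_15_1 lc_d_rc_3_3 lc_d_rc_27_4 lc_d_rc_23_6 lc_d_rc_23_4 lc_d_rc_22_2 lc_d_rc_15_1 lc_d_rc_3_3 lc_d_rc_15_1 lc_d_rc_15_1 lc_d_Cert_tree lc_d_rc_27_10 lc_d_rc_8_3 lc_d_rc_24_5 lc_d_rc_15_1 lc_d_rc_16_2 lc_d_rc_17_2 lc_d_rc_23_4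 lc_d_rc_27_10 lc_d_rc_17_2 lc_d_rc_8_3 lc_d_rc_27_2 lc_d_rc_16_2 lc_d_rc_23_4 lc_d_rc_8_3 lc_d_rc_22_4 lc_d_rc_22_8 lc_d_rc_23_2 lc_d_rc_27_4 lc_d_rc_22_4 lc_d_rc_27_8 lc_d_rc_27_10 lc_d_rc_17_2 lc_d_rc_27_8 lc_d_rc_27_10 lc_d_rc_27_4 lc_d_rc_16_2 lc_d_rc_23_2 lc_d_rc_15_1 lc_d_rc_16_2 lc_d_rc_3_3 lc_d_rc_27_4 lc_d_rc_27_8 lc_d_rc_27_10 lc_d_rc_15_1 lc_d_rc_16_4 lc_d_rc_15_1 lc_d_rc_15_1 lc_d_rc_15_1 lc_d_rc_15_1) (@D3.rec (fun _ => (Cert rels S Gen.d)) lc_d_rc_16_2 lc_d_rc_27_8 lc_d_rc_8_3 lc_d_rc_22_4 lc_d_rc_15_1 lc_d_rc_23_8 lc_d_rc_8_1 lc_d_rc_27_4 lc_d_rc_8_3 lc_d_rc_15_1 lc_d_rc_27_4 lc_d_rc_15_1 lc_d_rc_15_1 lc_d_rc_16_2 lc_d_rc_27_8 lc_d_rc_17_2 lc_d_rc_15_1 lc_d_rc_24_5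 lc_d_rc_16_2 lc_d_rc_8_3 lc_d_rc_23_2 lc_d_rc_23_6 lc_d_rc_27_2 lc_d_rc_16_2 lc_d_rc_15_1 lc_d_rc_15_1 lc_d_rc_17_2 lc_d_rc_25_10 lc_d_rc_17_2 lc_d_rc_16_4 lc_d_rc_15_1 lc_d_rc_16_0 lc_d_rc_15_1 lc_d_rc_27_2 lc_d_rc_17_2 lc_d_rc_15_1 lc_d_rc_8_1 lc_d_rc_24_5 lc_d_rc_24_5 lc_d_rc_17_2 lc_d_Cert_tree lc_d_rc_8_3 lc_d_Cert_tree lc_d_rc_23_2 lc_d_rc_23_2 lc_d_rc_15_1 lc_d_rc_23_2 lc_d_rc_3_3 lc_d_rc_3_3 lc_d_rc_22_2 lc_d_rc_17_2 lc_d_rc_15_1 lc_d_rc_15_1 lc_d_rc_15_1 lc_d_rc_27_8 lc_d_rc_12_5 lc_d_rc_22_2 lc_d_rc_15_1 lc_d_rc_3_3 lc_d_rc_17_2 lc_d_rc_22_4 lc_d_rc_22_8) (@D3.rec (fun _ => (Cert rels S Gen.d)) lc_d_rc_15_1 lc_d_rc_17_2 lc_d_rc_25_2 lc_d_rc_27_10 lc_d_rc_3_3 lc_d_rc_25_6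 lc_d_rc_24_0 lc_d_rc_22_2 lc_d_rc_15_1 lc_d_rc_3_3 lc_d_Cert_tree lc_d_rc_22_2 lc_d_rc_15_1 lc_d_rc_16_4 lc_d_rc_17_0 lc_d_rc_16_4 lc_d_rc_3_3 lc_d_rc_27_8 lc_d_rc_15_1 lc_d_rc_8_3 lc_d_rc_8_1 lc_d_rc_27_10 lc_d_rc_23_6 lc_d_rc_15_1 lc_d_rc_8_3 lc_d_rc_27_10 lc_d_rc_16_2 lc_d_rc_15_1 lc_d_rc_27_2 lc_d_rc_16_0 lc_d_rc_23_4 lc_d_rc_15_1 lc_d_rc_16_2 lc_d_rc_17_2 lc_d_rc_24_0 lc_d_rc_16_2 lc_d_rc_8_1 lc_d_rc_15_1 lc_d_Cert_tree lc_d_rc_15_1 lc_d_rc_15_1 lc_d_rc_27_2 lc_d_rc_24_0 lc_d_rc_24_5 lc_d_rc_3_3 lc_d_rc_8_3 lc_d_rc_23_8 lc_d_rc_27_4 lc_d_rc_27_4 lc_d_rc_8_3 lc_d_rc_8_3 lc_d_rc_23_4 lc_d_rc_15_1 lc_d_rc_15_1 lc_d_Cert_tree lc_d_rc_15_1 lc_d_rc_15_1 lc_d_rc_15_1 lc_d_rc_15_1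 lc_d_rc_15_1 lc_d_rc_15_1 lc_d_rc_15_1) (@D3.rec (fun _ => (Cert rels S Gen.d)) lc_d_rc_8_3 lc_d_rc_15_1 lc_d_rc_27_8 lc_d_rc_15_1 lc_d_rc_8_3 lc_d_rc_15_1 lc_d_rc_8_3 lc_d_rc_15_1 lc_d_rc_8_3 lc_d_rc_23_2 lc_d_Cert_tree lc_d_rc_15_1 lc_d_rc_15_1 lc_d_rc_15_1 lc_d_rc_27_4 lc_d_rc_24_0 lc_d_rc_27_2 lc_d_rc_17_0 lc_d_rc_15_1 lc_d_rc_15_1 lc_d_rc_15_1 lc_d_rc_23_2 lc_d_rc_15_1 lc_d_rc_23_6 lc_d_rc_15_1 lc_d_rc_23_6 lc_d_Cert_tree lc_d_rc_15_1 lc_d_rc_15_1 lc_d_rc_8_1 lc_d_rc_15_1 lc_d_rc_16_4 lc_d_rc_3_1 lc_d_rc_22_8 lc_d_rc_16_4 lc_d_rc_15_1 lc_d_Cert_tree lc_d_rc_15_1 lc_d_rc_23_4 lc_d_rc_27_10 lc_d_rc_27_2 lc_d_rc_22_2 lc_d_rc_8_3 lc_d_rc_8_3 lc_d_rc_23_4 lc_d_rc_16_4 lc_d_rc_3_3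 lc_d_rc_27_4 lc_d_rc_17_2 lc_d_rc_24_5 lc_d_rc_24_5 lc_d_rc_3_3 lc_d_rc_15_1 lc_d_rc_12_13 lc_d_rc_16_4 lc_d_rc_8_3 lc_d_rc_8_1 lc_d_rc_27_4 lc_d_rc_22_6 lc_d_rc_15_1 lc_d_rc_15_1 lc_d_rc_22_2) (@D3.rec (fun _ => (Cert rels S Gen.d)) lc_d_Cert_tree lc_d_rc_15_1 lc_d_Cert_tree lc_d_Cert_tree lc_d_rc_15_1 lc_d_rc_16_4 lc_d_rc_15_1 lc_d_rc_23_4 lc_d_rc_15_1 lc_d_rc_17_2 lc_d_rc_15_1 lc_d_rc_8_3 lc_d_rc_27_8 lc_d_rc_8_1 lc_d_Cert_tree lc_d_rc_15_1 lc_d_rc_8_3 lc_d_Cert_tree lc_d_Cert_tree lc_d_rc_3_3 lc_d_rc_25_2 lc_d_rc_24_0 lc_d_rc_23_2 lc_d_rc_15_1 lc_d_rc_15_1 lc_d_rc_3_1 lc_d_rc_15_1 lc_d_rc_8_1 lc_d_Cert_tree lc_d_rc_15_1 lc_d_rc_12_15 lc_d_rc_8_3 lc_d_rc_15_1 lc_d_rc_15_1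 lc_d_rc_15_1 lc_d_Cert_tree lc_d_rc_15_1 lc_d_rc_24_5 lc_d_Cert_tree lc_d_rc_15_1 lc_d_rc_16_4 lc_d_rc_8_1 lc_d_rc_15_1 lc_d_rc_15_1 lc_d_rc_15_1 lc_d_rc_24_0 lc_d_rc_23_8 lc_d_rc_8_3 lc_d_rc_15_1 lc_d_rc_3_3 lc_d_rc_15_1 lc_d_rc_27_4 lc_d_rc_15_1 lc_d_rc_17_2 lc_d_rc_17_2 lc_d_rc_15_1 lc_d_rc_17_2 lc_d_rc_27_4 lc_d_rc_15_1 lc_d_rc_15_1 lc_d_rc_27_2 lc_d_rc_15_1) (@D3.rec (fun _ => (Cert rels S Gen.d)) lc_d_rc_8_3 lc_d_rc_8_3 lc_d_rc_3_3 lc_d_rc_3_3 lc_d_rc_15_1 lc_d_rc_15_1 lc_d_rc_3_3 lc_d_rc_27_4 lc_d_rc_27_10 lc_d_rc_15_1 lc_d_rc_16_0 lc_d_rc_15_1 lc_d_rc_3_3 lc_d_rc_23_2 lc_d_rc_15_1 lc_d_rc_15_1 lc_d_rc_8_3 lc_d_rc_15_1 lc_d_rc_22_4 lc_d_rc_8_3 lc_d_rc_15_1 lc_d_rc_25_2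 lc_d_rc_15_1 lc_d_rc_8_1 lc_d_rc_15_1 lc_d_rc_15_1 lc_d_rc_24_5 lc_d_rc_15_1 lc_d_rc_24_0 lc_d_rc_27_8 lc_d_rc_22_4 lc_d_rc_27_2 lc_d_rc_24_5 lc_d_rc_15_1 lc_d_rc_8_3 lc_d_Cert_tree lc_d_Cert_tree lc_d_rc_15_1 lc_d_rc_27_2 lc_d_rc_22_4 lc_d_rc_15_1 lc_d_rc_15_1 lc_d_rc_15_1 lc_d_rc_27_4 lc_d_rc_17_2 lc_d_rc_8_1 lc_d_rc_16_4 lc_d_rc_27_8 lc_d_rc_15_1 lc_d_rc_16_4 lc_d_rc_23_6 lc_d_rc_15_1 lc_d_rc_23_4 lc_d_rc_15_1 lc_d_rc_17_2 lc_d_rc_17_2 lc_d_rc_24_5 lc_d_Cert_tree lc_d_rc_15_1 lc_d_rc_15_1 lc_d_rc_24_0 lc_d_rc_8_3) (@D3.rec (fun _ => (Cert rels S Gen.d)) lc_d_rc_16_2 lc_d_rc_23_4 lc_d_rc_23_2 lc_d_rc_3_1 lc_d_rc_17_2 lc_d_rc_16_0 lc_d_rc_27_4 lc_d_rc_15_1 lc_d_rc_27_4 lc_d_rc_24_5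 lc_d_rc_23_6 lc_d_rc_17_2 lc_d_Cert_tree lc_d_Cert_tree lc_d_rc_24_5 lc_d_rc_15_1 lc_d_rc_17_2 lc_d_rc_15_1 lc_d_rc_8_3 lc_d_rc_15_1 lc_d_rc_27_4 lc_d_Cert_tree lc_d_rc_15_1 lc_d_rc_23_8 lc_d_rc_23_6 lc_d_rc_15_1 lc_d_Cert_tree lc_d_rc_16_4 lc_d_rc_27_2 lc_d_rc_15_1 lc_d_rc_15_1 lc_d_rc_27_4 lc_d_rc_15_1 lc_d_rc_17_2 lc_d_rc_27_8 lc_d_Cert_tree lc_d_rc_27_8 lc_d_Cert_tree lc_d_rc_15_1 lc_d_rc_27_4 lc_d_Cert_tree lc_d_rc_24_0 lc_d_rc_27_4 lc_d_rc_27_2 lc_d_rc_23_4 lc_d_rc_8_3 lc_d_rc_17_2 lc_d_rc_22_4 lc_d_rc_15_1 lc_d_rc_27_8 lc_d_rc_23_6 lc_d_rc_15_1 lc_d_rc_8_3 lc_d_rc_17_2 lc_d_rc_15_1 lc_d_rc_15_1 lc_d_rc_15_1 lc_d_rc_22_4 lc_d_rc_23_6 lc_d_rc_15_1 lc_d_rc_24_5 lc_d_rc_22_4)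 (@D3.rec (fun _ => (Cert rels S Gen.d)) lc_d_rc_8_3 lc_d_rc_16_0 lc_d_rc_15_1 lc_d_rc_8_1 lc_d_rc_16_4 lc_d_rc_27_8 lc_d_rc_8_3 lc_d_rc_23_4 lc_d_rc_16_2 lc_d_rc_16_4 lc_d_rc_27_8 lc_d_rc_8_1 lc_d_rc_17_0 lc_d_rc_8_3 lc_d_rc_23_2 lc_d_rc_16_2 lc_d_rc_16_2 lc_d_rc_27_2 lc_d_rc_15_1 lc_d_rc_27_4 lc_d_rc_15_1 lc_d_rc_23_2 lc_d_rc_23_2 lc_d_rc_8_3 lc_d_rc_8_3 lc_d_Cert_tree lc_d_Cert_tree lc_d_rc_17_2 lc_d_rc_25_10 lc_d_rc_15_1 lc_d_rc_15_1 lc_d_rc_15_1 lc_d_rc_15_1 lc_d_rc_22_6 lc_d_rc_22_6 lc_d_rc_15_1 lc_d_rc_24_5 lc_d_rc_15_1 lc_d_rc_8_3 lc_d_rc_17_2 lc_d_rc_15_1 lc_d_rc_8_3 lc_d_rc_15_1 lc_d_rc_15_1 lc_d_rc_8_1 lc_d_rc_23_6 lc_d_rc_24_0 lc_d_rc_24_0 lc_d_rc_15_1 lc_d_rc_15_1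 lc_d_rc_23_2 lc_d_rc_22_8 lc_d_rc_22_2 lc_d_rc_17_2 lc_d_rc_16_4 lc_d_rc_17_2 lc_d_rc_8_3 lc_d_rc_15_1 lc_d_rc_22_4 lc_d_rc_16_4 lc_d_rc_15_1 lc_d_rc_24_5) (@D3.rec (fun _ => (Cert rels S Gen.d)) lc_d_rc_22_6 lc_d_Cert_tree lc_d_rc_15_1 lc_d_Cert_tree lc_d_rc_15_1 lc_d_rc_22_6 lc_d_rc_16_2 lc_d_rc_15_1 lc_d_rc_15_1 lc_d_rc_23_4 lc_d_rc_17_2 lc_d_rc_24_0 lc_d_rc_15_1 lc_d_rc_17_2 lc_d_rc_15_1 lc_d_rc_22_8 lc_d_rc_16_2 lc_d_rc_16_2 lc_d_rc_22_4 lc_d_Cert_tree lc_d_rc_16_0 lc_d_rc_15_1 lc_d_rc_22_4 lc_d_rc_16_4 lc_d_Cert_tree lc_d_rc_15_1 lc_d_rc_23_8 lc_d_rc_15_1 lc_d_rc_22_4 lc_d_rc_15_1 lc_d_Cert_tree lc_d_rc_22_6 lc_d_rc_15_1 lc_d_rc_17_2 lc_d_rc_8_3 lc_d_rc_15_1 lc_d_rc_23_2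 lc_d_rc_15_1 lc_d_rc_15_1 lc_d_rc_15_1 lc_d_rc_3_3 lc_d_rc_24_0 lc_d_rc_15_1 lc_d_Cert_tree lc_d_rc_23_4 lc_d_rc_15_1 lc_d_rc_22_2 lc_d_rc_17_2 lc_d_rc_15_1 lc_d_rc_3_1 lc_d_Cert_tree lc_d_rc_15_1 lc_d_rc_17_2 lc_d_rc_27_10 lc_d_rc_17_2 lc_d_rc_16_4 lc_d_rc_23_4 lc_d_rc_8_3 lc_d_rc_17_2 lc_d_rc_16_2 lc_d_rc_27_4 lc_d_rc_15_1) (@D3.rec (fun _ => (Cert rels S Gen.d)) lc_d_rc_15_1 lc_d_rc_8_3 lc_d_rc_22_4 lc_d_rc_15_1 lc_d_rc_15_1 lc_d_rc_16_4 lc_d_rc_23_4 lc_d_rc_15_1 lc_d_rc_8_3 lc_d_rc_15_1 lc_d_rc_16_4 lc_d_rc_15_1 lc_d_rc_23_4 lc_d_rc_17_2 lc_d_rc_15_1 lc_d_rc_27_2 lc_d_rc_23_8 lc_d_rc_15_1 lc_d_rc_27_4 lc_d_rc_23_6 lc_d_rc_8_3 lc_d_rc_16_4 lc_d_rc_17_2 lc_d_rc_15_1 lc_d_rc_15_1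 lc_d_Cert_tree lc_d_rc_15_1 lc_d_rc_27_2 lc_d_rc_15_1 lc_d_rc_27_4 lc_d_rc_16_4 lc_d_rc_23_6 lc_d_rc_15_1 lc_d_rc_17_2 lc_d_rc_15_1 lc_d_rc_16_0 lc_d_rc_8_1 lc_d_rc_23_2 lc_d_rc_17_2 lc_d_rc_17_2 lc_d_rc_8_3 lc_d_rc_15_1 lc_d_rc_15_1 lc_d_rc_15_1 lc_d_rc_24_5 lc_d_rc_24_0 lc_d_rc_24_0 lc_d_rc_27_8 lc_d_rc_15_1 lc_d_rc_24_5 lc_d_rc_8_3 lc_d_rc_17_0 lc_d_rc_16_0 lc_d_rc_8_3 lc_d_rc_15_1 lc_d_rc_27_10 lc_d_rc_16_4 lc_d_rc_27_10 lc_d_rc_15_1 lc_d_rc_15_1 lc_d_rc_15_1 lc_d_rc_15_1) (@D3.rec (fun _ => (Cert rels S Gen.d)) lc_d_rc_27_10 lc_d_rc_23_8 lc_d_rc_27_8 lc_d_rc_8_1 lc_d_rc_17_2 lc_d_rc_15_1 lc_d_rc_16_4 lc_d_rc_12_15 lc_d_rc_15_1 lc_d_rc_16_4 lc_d_rc_27_4 lc_d_rc_15_1 lc_d_rc_16_4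 lc_d_Cert_tree lc_d_rc_15_1 lc_d_Cert_tree lc_d_rc_15_1 lc_d_rc_16_4 lc_d_rc_15_1 lc_d_rc_25_6 lc_d_rc_16_0 lc_d_rc_3_1 lc_d_rc_15_1 lc_d_rc_17_2 lc_d_rc_15_1 lc_d_rc_22_6 lc_d_rc_16_4 lc_d_rc_17_2 lc_d_rc_16_4 lc_d_rc_15_1 lc_d_rc_15_1 lc_d_Cert_tree lc_d_rc_8_3 lc_d_rc_8_3 lc_d_rc_16_0 lc_d_rc_15_1 lc_d_Cert_tree lc_d_rc_22_6 lc_d_rc_22_8 lc_d_Cert_tree lc_d_rc_22_4 lc_d_rc_17_2 lc_d_rc_15_1 lc_d_rc_8_1 lc_d_rc_16_0 lc_d_rc_15_1 lc_d_rc_27_8 lc_d_rc_15_1 lc_d_rc_15_1 lc_d_rc_27_4 lc_d_rc_15_1 lc_d_rc_15_1 lc_d_rc_22_2 lc_d_rc_15_1 lc_d_rc_15_1 lc_d_rc_27_2 lc_d_rc_8_3 lc_d_rc_16_2 lc_d_rc_15_1 lc_d_rc_27_4 lc_d_rc_15_1 lc_d_rc_22_4) (@D3.rec (fun _ => (Cert rels S Gen.d))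 lc_d_rc_15_1 lc_d_rc_24_5 lc_d_Cert_tree lc_d_rc_15_1 lc_d_rc_8_3 lc_d_rc_15_1 lc_d_rc_15_1 lc_d_rc_23_2 lc_d_Cert_tree lc_d_rc_15_1 lc_d_rc_23_2 lc_d_rc_15_1 lc_d_rc_8_1 lc_d_rc_15_1 lc_d_rc_23_2 lc_d_rc_22_2 lc_d_Cert_tree lc_d_rc_15_1 lc_d_rc_24_5 lc_d_rc_23_4 lc_d_rc_3_3 lc_d_rc_15_1 lc_d_rc_23_4 lc_d_rc_24_0 lc_d_rc_15_1 lc_d_rc_22_2 lc_d_rc_23_6 lc_d_rc_16_2 lc_d_rc_17_0 lc_d_rc_16_0 lc_d_rc_16_2 lc_d_rc_23_6 lc_d_rc_15_1 lc_d_rc_12_1 lc_d_rc_22_4 lc_d_rc_8_1 lc_d_rc_15_1 lc_d_rc_15_1 lc_d_rc_24_0 lc_d_Cert_tree lc_d_rc_16_4 lc_d_rc_16_0 lc_d_rc_15_1 lc_d_rc_16_4 lc_d_rc_25_6 lc_d_rc_15_1 lc_d_rc_17_2 lc_d_rc_23_6 lc_d_Cert_tree lc_d_rc_15_1 lc_d_rc_27_10 lc_d_rc_25_2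 lc_d_rc_8_3 lc_d_rc_15_1 lc_d_rc_16_4 lc_d_rc_8_3 lc_d_rc_17_2 lc_d_rc_15_1 lc_d_rc_16_4 lc_d_rc_17_2 lc_d_rc_8_3 lc_d_rc_16_4) (@D3.rec (fun _ => (Cert rels S Gen.d)) lc_d_rc_8_3 lc_d_rc_3_1 lc_d_rc_15_1 lc_d_rc_17_2 lc_d_rc_27_2 lc_d_rc_23_6 lc_d_rc_24_0 lc_d_rc_15_1 lc_d_rc_8_3 lc_d_rc_15_1 lc_d_rc_8_3 lc_d_rc_15_1 lc_d_rc_15_1 lc_d_rc_17_2 lc_d_rc_8_3 lc_d_rc_3_3 lc_d_rc_23_2 lc_d_rc_17_2 lc_d_rc_15_1 lc_d_rc_23_4 lc_d_rc_15_1 lc_d_rc_15_1 lc_d_rc_16_0 lc_d_rc_17_2 lc_d_rc_15_1 lc_d_rc_27_8 lc_d_rc_15_1 lc_d_rc_17_2 lc_d_rc_15_1 lc_d_rc_16_2 lc_d_rc_23_6 lc_d_rc_22_6 lc_d_rc_22_4 lc_d_rc_16_2 lc_d_rc_27_4 lc_d_rc_15_1 lc_d_rc_15_1 lc_d_rc_8_3 lc_d_Cert_tree lc_d_Cert_tree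 lc_d_rc_15_1 lc_d_rc_24_5 lc_d_rc_16_2 lc_d_rc_23_6 lc_d_Cert_tree lc_d_rc_25_2 lc_d_rc_8_3 lc_d_rc_8_1 lc_d_rc_23_8 lc_d_rc_15_1 lc_d_rc_17_0 lc_d_Cert_tree lc_d_rc_8_3 lc_d_rc_15_1 lc_d_rc_15_1 lc_d_rc_23_2 lc_d_Cert_tree lc_d_rc_16_4 lc_d_rc_8_1 lc_d_rc_17_2 lc_d_rc_16_4 lc_d_rc_23_8) (@D3.rec (fun _ => (Cert rels S Gen.d)) lc_d_rc_15_1 lc_d_rc_22_6 lc_d_rc_15_1 lc_d_rc_8_3 lc_d_rc_16_2 lc_d_rc_15_1 lc_d_rc_23_4 lc_d_rc_23_4 lc_d_Cert_tree lc_d_rc_16_4 lc_d_rc_8_3 lc_d_rc_16_2 lc_d_rc_16_4 lc_d_Cert_tree lc_d_Cert_tree lc_d_Cert_tree lc_d_rc_15_1 lc_d_Cert_tree lc_d_rc_23_4 lc_d_rc_15_1 lc_d_rc_17_2 lc_d_rc_15_1 lc_d_rc_22_2 lc_d_Cert_tree lc_d_rc_15_1 lc_d_Cert_tree lc_d_rc_15_1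 lc_d_Cert_tree lc_d_rc_16_4 lc_d_rc_24_0 lc_d_rc_15_1 lc_d_rc_15_1 lc_d_Cert_tree lc_d_rc_15_1 lc_d_rc_22_4 lc_d_rc_17_2 lc_d_Cert_tree lc_d_rc_15_1 lc_d_rc_15_1 lc_d_rc_25_10 lc_d_rc_3_3 lc_d_Cert_tree lc_d_rc_15_1 lc_d_rc_8_1 lc_d_rc_23_4 lc_d_rc_16_2 lc_d_rc_25_6 lc_d_Cert_tree lc_d_rc_8_3 lc_d_Cert_tree lc_d_rc_23_6 lc_d_rc_22_4 lc_d_rc_22_2 lc_d_rc_15_1 lc_d_rc_15_1 lc_d_rc_15_1 lc_d_rc_16_4 lc_d_Cert_tree lc_d_Cert_tree lc_d_rc_15_1 lc_d_rc_16_2 lc_d_rc_15_1) (@D3.rec (fun _ => (Cert rels S Gen.d)) lc_d_rc_15_1 lc_d_rc_16_2 lc_d_rc_8_1 lc_d_Cert_tree lc_d_rc_15_1 lc_d_rc_16_4 lc_d_rc_23_8 lc_d_rc_24_0 lc_d_rc_16_0 lc_d_rc_15_1 lc_d_rc_16_4 lc_d_Cert_tree lc_d_rc_27_4 lc_d_rc_22_4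 lc_d_rc_15_1 lc_d_rc_16_4 lc_d_Cert_tree lc_d_rc_15_1 lc_d_rc_15_1 lc_d_rc_23_6 lc_d_rc_24_5 lc_d_rc_12_13 lc_d_rc_16_4 lc_d_rc_8_3 lc_d_rc_16_4 lc_d_rc_8_3 lc_d_Cert_tree lc_d_rc_3_3 lc_d_rc_17_0 lc_d_rc_23_6 lc_d_rc_15_1 lc_d_rc_17_2 lc_d_rc_16_2 lc_d_rc_15_1 lc_d_rc_17_2 lc_d_rc_8_3 lc_d_rc_15_1 lc_d_rc_15_1 lc_d_rc_15_1 lc_d_rc_24_0 lc_d_rc_3_3 lc_d_rc_15_1 lc_d_rc_17_2 lc_d_rc_15_1 lc_d_rc_15_1 lc_d_rc_23_6 lc_d_rc_15_1 lc_d_Cert_tree lc_d_rc_8_3 lc_d_rc_15_1 lc_d_Cert_tree lc_d_rc_27_4 lc_d_rc_8_3 lc_d_rc_22_8 lc_d_rc_3_1 lc_d_rc_24_0 lc_d_rc_25_6 lc_d_rc_15_1 lc_d_rc_22_2 lc_d_rc_22_4 lc_d_rc_17_2 lc_d_rc_15_1) (@D3.rec (fun _ => (Cert rels S Gen.d)) lc_d_rc_8_3 lc_d_rc_22_4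 lc_d_Cert_tree lc_d_rc_8_1 lc_d_rc_8_1 lc_d_rc_23_8 lc_d_rc_8_3 lc_d_rc_15_1 lc_d_rc_3_1 lc_d_rc_22_8 lc_d_rc_22_2 lc_d_rc_16_2 lc_d_rc_17_2 lc_d_Cert_tree lc_d_rc_15_1 lc_d_rc_15_1 lc_d_rc_15_1 lc_d_rc_8_1 lc_d_rc_27_2 lc_d_rc_17_2 lc_d_rc_8_1 lc_d_rc_8_3 lc_d_rc_16_4 lc_d_rc_24_0 lc_d_rc_15_1 lc_d_rc_23_2 lc_d_rc_23_4 lc_d_rc_16_2 lc_d_rc_27_4 lc_d_Cert_tree lc_d_rc_15_1 lc_d_rc_27_2 lc_d_rc_15_1 lc_d_rc_3_3 lc_d_rc_24_0 lc_d_rc_12_15 lc_d_rc_15_1 lc_d_rc_22_4 lc_d_rc_27_4 lc_d_rc_17_2 lc_d_rc_15_1 lc_d_rc_16_4 lc_d_rc_3_3 lc_d_rc_15_1 lc_d_rc_27_2 lc_d_rc_16_4 lc_d_rc_23_6 lc_d_rc_15_1 lc_d_rc_15_1 lc_d_rc_15_1 lc_d_rc_23_4 lc_d_rc_15_1 lc_d_rc_22_6 lc_d_rc_17_2 lc_d_rc_15_1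 lc_d_rc_22_6 lc_d_rc_17_2 lc_d_rc_15_1 lc_d_rc_16_2 lc_d_rc_8_3 lc_d_rc_8_1 lc_d_rc_15_1) (@D3.rec (fun _ => (Cert rels S Gen.d)) lc_d_rc_22_2 lc_d_rc_16_2 lc_d_rc_15_1 lc_d_rc_15_1 lc_d_rc_23_8 lc_d_rc_23_6 lc_d_rc_17_2 lc_d_rc_15_1 lc_d_rc_15_1 lc_d_rc_24_0 lc_d_rc_16_2 lc_d_rc_3_3 lc_d_rc_15_1 lc_d_rc_22_2 lc_d_rc_23_4 lc_d_rc_22_4 lc_d_rc_8_3 lc_d_rc_22_4 lc_d_rc_15_1 lc_d_rc_23_8 lc_d_rc_15_1 lc_d_rc_15_1 lc_d_rc_15_1 lc_d_rc_27_4 lc_d_rc_15_1 lc_d_rc_8_1 lc_d_rc_15_1 lc_d_rc_27_10 lc_d_rc_15_1 lc_d_rc_22_4 lc_d_rc_17_2 lc_d_rc_27_10 lc_d_rc_23_6 lc_d_rc_15_1 lc_d_rc_15_1 lc_d_rc_22_8 lc_d_rc_16_2 lc_d_rc_22_4 lc_d_rc_24_5 lc_d_rc_22_8 lc_d_rc_27_2 lc_d_rc_23_8 lc_d_rc_27_2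 lc_d_rc_22_4 lc_d_rc_17_0 lc_d_rc_15_1 lc_d_rc_16_2 lc_d_rc_23_8 lc_d_rc_15_1 lc_d_rc_8_3 lc_d_rc_8_3 lc_d_rc_8_1 lc_d_rc_25_14 lc_d_rc_15_1 lc_d_rc_15_1 lc_d_rc_24_5 lc_d_rc_23_8 lc_d_rc_8_3 lc_d_rc_24_0 lc_d_rc_8_3 lc_d_rc_15_1 lc_d_rc_15_1) (@D3.rec (fun _ => (Cert rels S Gen.d)) lc_d_rc_25_10 lc_d_rc_17_2 lc_d_rc_22_6 lc_d_rc_8_3 lc_d_Cert_tree lc_d_rc_23_2 lc_d_rc_15_1 lc_d_rc_8_3 lc_d_rc_15_1 lc_d_rc_8_3 lc_d_rc_22_4 lc_d_rc_23_6 lc_d_rc_15_1 lc_d_Cert_tree lc_d_rc_3_3 lc_d_rc_24_0 lc_d_rc_24_0 lc_d_rc_22_4 lc_d_rc_22_8 lc_d_rc_16_2 lc_d_rc_27_4 lc_d_rc_15_1 lc_d_rc_8_1 lc_d_rc_15_1 lc_d_rc_15_1 lc_d_rc_25_14 lc_d_rc_23_2 lc_d_rc_15_1 lc_d_rc_23_6 lc_d_rc_15_1 lc_d_rc_17_2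 lc_d_rc_3_1 lc_d_rc_15_1 lc_d_rc_15_1 lc_d_Cert_tree lc_d_rc_15_1 lc_d_rc_22_4 lc_d_rc_16_2 lc_d_rc_8_1 lc_d_rc_22_8 lc_d_rc_15_1 lc_d_rc_27_8 lc_d_rc_8_3 lc_d_rc_22_4 lc_d_rc_16_4 lc_d_rc_3_3 lc_d_rc_27_2 lc_d_rc_15_1 lc_d_rc_12_3 lc_d_rc_16_4 lc_d_rc_15_1 lc_d_rc_3_3 lc_d_rc_15_1 lc_d_rc_15_1 lc_d_rc_27_4 lc_d_rc_12_3 lc_d_rc_15_1 lc_d_rc_15_1 lc_d_rc_15_1 lc_d_rc_16_0 lc_d_rc_16_4 lc_d_rc_15_1) (@D3.rec (fun _ => (Cert rels S Gen.d)) lc_d_rc_27_2 lc_d_rc_24_0 lc_d_rc_17_2 lc_d_rc_15_1 lc_d_rc_22_6 lc_d_rc_17_2 lc_d_rc_8_3 lc_d_rc_15_1 lc_d_rc_22_4 lc_d_rc_15_1 lc_d_rc_27_2 lc_d_rc_23_6 lc_d_rc_24_0 lc_d_Cert_tree lc_d_rc_16_2 lc_d_Cert_tree lc_d_Cert_tree lc_d_rc_17_2 lc_d_rc_15_1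 lc_d_rc_15_1 lc_d_rc_27_8 lc_d_rc_15_1 lc_d_rc_15_1 lc_d_rc_15_1 lc_d_rc_8_3 lc_d_rc_8_3 lc_d_rc_8_3 lc_d_rc_8_1 lc_d_rc_15_1 lc_d_rc_15_1 lc_d_rc_27_2 lc_d_rc_25_2 lc_d_rc_8_1 lc_d_Cert_tree lc_d_rc_27_8 lc_d_rc_27_4 lc_d_Cert_tree lc_d_rc_15_1 lc_d_rc_16_4 lc_d_rc_27_4 lc_d_rc_27_8 lc_d_rc_24_0 lc_d_rc_15_1 lc_d_rc_27_8 lc_d_rc_8_3 lc_d_rc_8_3 lc_d_rc_15_1 lc_d_rc_15_1 lc_d_rc_27_4 lc_d_rc_15_1 lc_d_rc_22_4 lc_d_rc_17_2 lc_d_rc_24_0 lc_d_rc_15_1 lc_d_rc_22_4 lc_d_rc_15_1 lc_d_rc_27_10 lc_d_rc_16_4 lc_d_rc_24_0 lc_d_rc_15_1 lc_d_rc_16_0 lc_d_rc_15_1) (@D3.rec (fun _ => (Cert rels S Gen.d)) lc_d_rc_15_1 lc_d_rc_27_8 lc_d_rc_15_1 lc_d_rc_15_1 lc_d_rc_27_10 lc_d_rc_15_1 lc_d_rc_15_1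 lc_d_rc_24_0 lc_d_Cert_tree lc_d_rc_15_1 lc_d_rc_16_4 lc_d_rc_24_5 lc_d_rc_24_0 lc_d_rc_15_1 lc_d_Cert_tree lc_d_rc_27_10 lc_d_rc_15_1 lc_d_rc_17_2 lc_d_rc_15_1 lc_d_rc_8_3 lc_d_rc_23_4 lc_d_rc_15_1 lc_d_Cert_tree lc_d_rc_27_2 lc_d_rc_27_10 lc_d_rc_3_3 lc_d_rc_15_1 lc_d_Cert_tree lc_d_Cert_tree lc_d_rc_23_8 lc_d_rc_24_5 lc_d_rc_22_4 lc_d_rc_8_3 lc_d_rc_23_4 lc_d_rc_22_4 lc_d_rc_15_1 lc_d_rc_22_2 lc_d_rc_22_4 lc_d_rc_3_3 lc_d_Cert_tree lc_d_rc_8_3 lc_d_rc_8_3 lc_d_rc_15_1 lc_d_rc_3_3 lc_d_rc_15_1 lc_d_rc_16_2 lc_d_rc_22_4 lc_d_rc_27_2 lc_d_rc_15_1 lc_d_rc_15_1 lc_d_rc_15_1 lc_d_rc_12_15 lc_d_rc_22_2 lc_d_rc_27_4 lc_d_rc_23_2 lc_d_rc_15_1 lc_d_rc_15_1 lc_d_rc_3_1 lc_d_rc_3_1 lc_d_rc_15_1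 lc_d_rc_22_4 lc_d_rc_23_8) (@D3.rec (fun _ => (Cert rels S Gen.d)) lc_d_rc_24_0 lc_d_rc_23_8 lc_d_rc_24_5 lc_d_rc_24_0 lc_d_rc_16_0 lc_d_rc_23_2 lc_d_rc_15_1 lc_d_rc_16_2 lc_d_rc_8_3 lc_d_Cert_tree lc_d_rc_15_1 lc_d_rc_17_2 lc_d_rc_15_1 lc_d_rc_23_6 lc_d_rc_27_8 lc_d_rc_17_2 lc_d_rc_15_1 lc_d_rc_16_4 lc_d_rc_27_8 lc_d_rc_15_1 lc_d_rc_23_4 lc_d_rc_3_3 lc_d_rc_8_3 lc_d_rc_12_15 lc_d_rc_8_3 lc_d_rc_24_0 lc_d_rc_24_0 lc_d_rc_27_8 lc_d_rc_8_1 lc_d_rc_15_1 lc_d_rc_23_8 lc_d_rc_24_0 lc_d_rc_8_3 lc_d_rc_23_8 lc_d_rc_3_3 lc_d_rc_15_1 lc_d_rc_15_1 lc_d_rc_17_2 lc_d_rc_27_8 lc_d_rc_15_1 lc_d_rc_16_4 lc_d_rc_8_1 lc_d_Cert_tree lc_d_rc_15_1 lc_d_rc_16_2 lc_d_Cert_tree lc_d_rc_16_4 lc_d_rc_15_1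 lc_d_rc_15_1 lc_d_rc_24_0 lc_d_rc_16_2 lc_d_rc_22_2 lc_d_Cert_tree lc_d_rc_17_2 lc_d_rc_22_8 lc_d_rc_17_2 lc_d_Cert_tree lc_d_rc_15_1 lc_d_rc_27_4 lc_d_rc_22_8 lc_d_rc_8_3 lc_d_rc_15_1) (@D3.rec (fun _ => (Cert rels S Gen.d)) lc_d_rc_15_1 lc_d_rc_3_3 lc_d_rc_25_2 lc_d_rc_15_1 lc_d_Cert_tree lc_d_rc_16_2 lc_d_rc_8_1 lc_d_rc_16_4 lc_d_rc_15_1 lc_d_rc_15_1 lc_d_rc_17_2 lc_d_rc_12_3 lc_d_rc_17_2 lc_d_rc_22_8 lc_d_rc_8_1 lc_d_rc_24_5 lc_d_rc_15_1 lc_d_rc_24_0 lc_d_rc_15_1 lc_d_rc_24_0 lc_d_rc_24_0 lc_d_rc_15_1 lc_d_rc_22_2 lc_d_rc_23_2 lc_d_rc_17_2 lc_d_rc_15_1 lc_d_rc_27_4 lc_d_rc_16_4 lc_d_rc_23_6 lc_d_rc_15_1 lc_d_rc_27_4 lc_d_rc_15_1 lc_d_rc_16_4 lc_d_rc_24_5 lc_d_rc_8_3 lc_d_rc_24_0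 lc_d_rc_15_1 lc_d_rc_22_2 lc_d_rc_8_1 lc_d_rc_12_13 lc_d_Cert_tree lc_d_rc_24_5 lc_d_rc_27_8 lc_d_rc_12_9 lc_d_Cert_tree lc_d_Cert_tree lc_d_rc_15_1 lc_d_Cert_tree lc_d_rc_8_3 lc_d_rc_3_3 lc_d_Cert_tree lc_d_Cert_tree lc_d_Cert_tree lc_d_Cert_tree lc_d_rc_15_1 lc_d_rc_17_2 lc_d_rc_27_4 lc_d_rc_15_1 lc_d_rc_23_2 lc_d_rc_15_1 lc_d_rc_17_2 lc_d_rc_16_4) (@D3.rec (fun _ => (Cert rels S Gen.d)) lc_d_rc_15_1 lc_d_Cert_tree lc_d_rc_27_4 lc_d_rc_22_6 lc_d_rc_15_1 lc_d_Cert_tree lc_d_rc_22_8 lc_d_rc_15_1 lc_d_rc_16_2 lc_d_rc_8_3 lc_d_rc_8_3 lc_d_rc_22_4 lc_d_rc_15_1 lc_d_rc_15_1 lc_d_rc_15_1 lc_d_rc_23_4 lc_d_rc_8_3 lc_d_rc_27_2 lc_d_rc_15_1 lc_d_rc_23_4 lc_d_rc_22_6 lc_d_rc_16_2 lc_d_rc_27_2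 lc_d_rc_15_1 lc_d_Cert_tree lc_d_rc_27_8 lc_d_rc_15_1 lc_d_rc_27_10 lc_d_rc_27_2 lc_d_rc_15_1 lc_d_rc_16_0 lc_d_rc_27_8 lc_d_rc_27_2 lc_d_Cert_tree lc_d_rc_15_1 lc_d_rc_15_1 lc_d_rc_27_10 lc_d_rc_17_2 lc_d_rc_8_3 lc_d_rc_16_4 lc_d_rc_23_2 lc_d_rc_23_8 lc_d_rc_17_2 lc_d_rc_15_1 lc_d_rc_15_1 lc_d_rc_27_8 lc_d_rc_27_2 lc_d_rc_27_4 lc_d_rc_15_1 lc_d_rc_15_1 lc_d_rc_17_0 lc_d_rc_15_1 lc_d_rc_8_3 lc_d_rc_8_3 lc_d_Cert_tree lc_d_rc_27_4 lc_d_Cert_tree lc_d_rc_15_1 lc_d_rc_17_0 lc_d_rc_15_1 lc_d_rc_15_1 lc_d_rc_16_4) (@D3.rec (fun _ => (Cert rels S Gen.d)) lc_d_rc_27_10 lc_d_rc_15_1 lc_d_rc_12_1 lc_d_rc_24_0 lc_d_rc_15_1 lc_d_rc_15_1 lc_d_rc_27_2 lc_d_rc_8_1 lc_d_rc_15_1 lc_d_rc_23_6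 lc_d_rc_25_14 lc_d_rc_8_3 lc_d_rc_15_1 lc_d_rc_22_6 lc_d_rc_16_2 lc_d_rc_23_6 lc_d_rc_8_1 lc_d_rc_15_1 lc_d_rc_8_1 lc_d_rc_15_1 lc_d_rc_15_1 lc_d_rc_22_4 lc_d_rc_15_1 lc_d_rc_16_0 lc_d_rc_15_1 lc_d_rc_23_4 lc_d_rc_25_2 lc_d_rc_15_1 lc_d_rc_23_4 lc_d_rc_16_4 lc_d_rc_22_8 lc_d_rc_16_2 lc_d_rc_15_1 lc_d_rc_16_2 lc_d_rc_15_1 lc_d_rc_22_2 lc_d_rc_8_1 lc_d_rc_15_1 lc_d_rc_27_4 lc_d_rc_12_15 lc_d_rc_15_1 lc_d_rc_15_1 lc_d_rc_22_4 lc_d_rc_8_3 lc_d_rc_17_2 lc_d_rc_8_1 lc_d_rc_16_2 lc_d_rc_8_3 lc_d_rc_15_1 lc_d_Cert_tree lc_d_rc_17_2 lc_d_rc_25_2 lc_d_rc_15_1 lc_d_rc_15_1 lc_d_rc_15_1 lc_d_rc_25_6 lc_d_rc_15_1 lc_d_rc_3_3 lc_d_rc_15_1 lc_d_rc_15_1 lc_d_rc_17_2 lc_d_rc_8_1) (@D3.rec (fun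 _ => (Cert rels S Gen.d)) lc_d_Cert_tree lc_d_rc_15_1 lc_d_rc_16_0 lc_d_rc_15_1 lc_d_rc_8_3 lc_d_rc_22_4 lc_d_rc_3_1 lc_d_rc_16_2 lc_d_Cert_tree lc_d_rc_15_1 lc_d_rc_17_2 lc_d_rc_15_1 lc_d_rc_23_2 lc_d_rc_15_1 lc_d_rc_16_4 lc_d_Cert_tree lc_d_rc_15_1 lc_d_rc_15_1 lc_d_rc_8_3 lc_d_Cert_tree lc_d_rc_3_3 lc_d_rc_15_1 lc_d_rc_24_0 lc_d_rc_15_1 lc_d_rc_22_4 lc_d_rc_22_4 lc_d_rc_24_0 lc_d_rc_16_4 lc_d_rc_17_2 lc_d_rc_27_4 lc_d_rc_17_2 lc_d_rc_15_1 lc_d_Cert_tree lc_d_Cert_tree lc_d_rc_24_5 lc_d_rc_15_1 lc_d_rc_16_4 lc_d_rc_25_10 lc_d_rc_15_1 lc_d_Cert_tree lc_d_rc_15_1 lc_d_rc_3_3 lc_d_rc_16_2 lc_d_rc_8_3 lc_d_rc_17_2 lc_d_rc_24_5 lc_d_rc_15_1 lc_d_rc_17_2 lc_d_rc_15_1 lc_d_rc_17_2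 lc_d_rc_23_4 lc_d_rc_24_0 lc_d_rc_3_3 lc_d_rc_16_0 lc_d_rc_24_0 lc_d_rc_15_1 lc_d_rc_15_1 lc_d_Cert_tree lc_d_rc_15_1 lc_d_rc_23_6 lc_d_rc_15_1 lc_d_rc_22_4)
def ce_d_22 : D2 → D3 → (Cert rels S Gen.d) := @D2.rec (fun _ => D3 → (Cert rels S Gen.d)) (@D3.rec (fun _ => (Cert rels S Gen.d)) lc_d_rc_15_1 lc_d_rc_8_3 lc_d_rc_12_3 lc_d_rc_24_0 lc_d_rc_27_4 lc_d_rc_8_1 lc_d_Cert_tree lc_d_rc_23_6 lc_d_rc_16_4 lc_d_rc_22_6 lc_d_Cert_tree lc_d_Cert_tree lc_d_rc_15_1 lc_d_rc_22_4 lc_d_rc_15_1 lc_d_Cert_tree lc_d_rc_17_2 lc_d_rc_15_1 lc_d_Cert_tree lc_d_Cert_tree lc_d_Cert_tree lc_d_rc_15_1 lc_d_rc_15_1 lc_d_rc_12_7 lc_d_rc_16_2 lc_d_rc_15_1 lc_d_rc_22_6 lc_d_rc_15_1 lc_d_rc_25_2 lc_d_rc_8_3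 lc_d_rc_15_1 lc_d_Cert_tree lc_d_rc_15_1 lc_d_rc_15_1 lc_d_rc_15_1 lc_d_rc_23_8 lc_d_rc_24_0 lc_d_rc_8_3 lc_d_rc_15_1 lc_d_rc_27_2 lc_d_rc_15_1 lc_d_rc_23_4 lc_d_Cert_tree lc_d_rc_16_2 lc_d_Cert_tree lc_d_rc_16_4 lc_d_rc_3_3 lc_d_Cert_tree lc_d_Cert_tree lc_d_rc_16_4 lc_d_Cert_tree lc_d_Cert_tree lc_d_rc_8_1 lc_d_rc_15_1 lc_d_rc_8_3 lc_d_rc_15_1 lc_d_rc_15_1 lc_d_rc_22_8 lc_d_rc_8_1 lc_d_rc_15_1 lc_d_rc_16_4 lc_d_Cert_tree) (@D3.rec (fun _ => (Cert rels S Gen.d)) lc_d_rc_16_0 lc_d_rc_23_2 lc_d_rc_27_2 lc_d_rc_15_1 lc_d_rc_17_2 lc_d_rc_8_1 lc_d_rc_15_1 lc_d_Cert_tree lc_d_rc_16_0 lc_d_rc_16_2 lc_d_rc_16_2 lc_d_rc_24_5 lc_d_rc_15_1 lc_d_rc_16_4 lc_d_rc_22_2 lc_d_rc_17_2 lc_d_rc_15_1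 lc_d_rc_15_1 lc_d_rc_3_3 lc_d_rc_8_1 lc_d_rc_8_1 lc_d_rc_15_1 lc_d_Cert_tree lc_d_Cert_tree lc_d_rc_16_0 lc_d_rc_17_2 lc_d_Cert_tree lc_d_rc_15_1 lc_d_rc_24_5 lc_d_Cert_tree lc_d_rc_15_1 lc_d_Cert_tree lc_d_Cert_tree lc_d_rc_22_4 lc_d_Cert_tree lc_d_rc_15_1 lc_d_rc_8_1 lc_d_rc_16_4 lc_d_rc_15_1 lc_d_rc_8_3 lc_d_rc_16_2 lc_d_rc_16_4 lc_d_rc_3_3 lc_d_rc_8_3 lc_d_rc_8_3 lc_d_rc_16_0 lc_d_rc_16_4 lc_d_rc_16_2 lc_d_Cert_tree lc_d_Cert_tree lc_d_rc_22_2 lc_d_rc_15_1 lc_d_rc_8_1 lc_d_Cert_tree lc_d_rc_15_1 lc_d_rc_22_6 lc_d_rc_8_1 lc_d_rc_3_3 lc_d_rc_15_1 lc_d_rc_22_6 lc_d_rc_15_1 lc_d_rc_27_8) (@D3.rec (fun _ => (Cert rels S Gen.d)) lc_d_rc_15_1 lc_d_rc_23_2 lc_d_rc_22_4 lc_d_Cert_tree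 lc_d_rc_15_1 lc_d_rc_16_2 lc_d_rc_8_3 lc_d_rc_27_10 lc_d_rc_15_1 lc_d_rc_16_4 lc_d_rc_23_6 lc_d_rc_15_1 lc_d_rc_16_0 lc_d_rc_27_4 lc_d_Cert_tree lc_d_rc_15_1 lc_d_rc_15_1 lc_d_rc_22_4 lc_d_rc_24_0 lc_d_rc_16_4 lc_d_rc_16_2 lc_d_rc_17_2 lc_d_rc_8_3 lc_d_rc_16_4 lc_d_rc_8_3 lc_d_rc_15_1 lc_d_rc_16_4 lc_d_rc_27_10 lc_d_rc_23_6 lc_d_rc_23_4 lc_d_rc_16_4 lc_d_rc_8_1 lc_d_Cert_tree lc_d_rc_15_1 lc_d_Cert_tree lc_d_rc_8_1 lc_d_rc_24_0 lc_d_rc_24_5 lc_d_rc_15_1 lc_d_rc_22_6 lc_d_rc_15_1 lc_d_rc_8_1 lc_d_rc_22_6 lc_d_rc_15_1 lc_d_rc_16_4 lc_d_rc_8_3 lc_d_rc_3_3 lc_d_rc_15_1 lc_d_rc_8_1 lc_d_rc_15_1 lc_d_rc_22_4 lc_d_rc_8_1 lc_d_rc_16_2 lc_d_rc_15_1 lc_d_rc_3_1 lc_d_rc_16_0 lc_d_rc_22_6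 lc_d_rc_15_1 lc_d_rc_3_3 lc_d_rc_24_0 lc_d_rc_15_1 lc_d_rc_17_2) (@D3.rec (fun _ => (Cert rels S Gen.d)) lc_d_rc_15_1 lc_d_Cert_tree lc_d_rc_23_6 lc_d_rc_15_1 lc_d_rc_23_8 lc_d_Cert_tree lc_d_rc_8_3 lc_d_rc_24_5 lc_d_rc_16_0 lc_d_rc_8_3 lc_d_rc_15_1 lc_d_rc_17_2 lc_d_rc_15_1 lc_d_rc_27_4 lc_d_rc_22_2 lc_d_rc_27_2 lc_d_rc_16_2 lc_d_rc_15_1 lc_d_Cert_tree lc_d_rc_15_1 lc_d_rc_3_1 lc_d_rc_15_1 lc_d_rc_15_1 lc_d_rc_23_4 lc_d_rc_15_1 lc_d_rc_15_1 lc_d_Cert_tree lc_d_rc_15_1 lc_d_rc_3_1 lc_d_rc_12_3 lc_d_rc_15_1 lc_d_rc_27_4 lc_d_rc_22_2 lc_d_rc_15_1 lc_d_rc_8_1 lc_d_rc_16_2 lc_d_rc_23_4 lc_d_rc_24_0 lc_d_rc_15_1 lc_d_rc_23_6 lc_d_rc_23_4 lc_d_rc_15_1 lc_d_rc_16_4 lc_d_rc_15_1 lc_d_rc_22_4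 lc_d_rc_16_2 lc_d_rc_8_3 lc_d_rc_15_1 lc_d_rc_27_8 lc_d_rc_8_3 lc_d_rc_22_8 lc_d_rc_8_1 lc_d_rc_15_1 lc_d_Cert_tree lc_d_rc_15_1 lc_d_rc_15_1 lc_d_Cert_tree lc_d_rc_27_4 lc_d_rc_25_6 lc_d_rc_24_5 lc_d_rc_15_1 lc_d_rc_24_0) (@D3.rec (fun _ => (Cert rels S Gen.d)) lc_d_rc_17_0 lc_d_rc_23_8 lc_d_rc_24_0 lc_d_rc_15_1 lc_d_rc_15_1 lc_d_rc_3_3 lc_d_rc_17_2 lc_d_rc_8_1 lc_d_Cert_tree lc_d_rc_25_2 lc_d_rc_24_5 lc_d_rc_23_2 lc_d_rc_23_6 lc_d_rc_15_1 lc_d_rc_22_4 lc_d_rc_12_15 lc_d_rc_15_1 lc_d_rc_15_1 lc_d_rc_27_2 lc_d_rc_16_4 lc_d_rc_16_4 lc_d_Cert_tree lc_d_Cert_tree lc_d_Cert_tree lc_d_rc_17_2 lc_d_rc_22_4 lc_d_rc_16_2 lc_d_Cert_tree lc_d_rc_15_1 lc_d_rc_15_1 lc_d_Cert_tree lc_d_Cert_tree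 lc_d_rc_27_4 lc_d_rc_15_1 lc_d_rc_15_1 lc_d_rc_22_4 lc_d_rc_15_1 lc_d_rc_3_3 lc_d_rc_15_1 lc_d_rc_22_6 lc_d_rc_16_2 lc_d_rc_23_4 lc_d_rc_15_1 lc_d_rc_22_8 lc_d_rc_22_2 lc_d_Cert_tree lc_d_rc_15_1 lc_d_rc_22_4 lc_d_rc_15_1 lc_d_rc_15_1 lc_d_rc_3_3 lc_d_rc_15_1 lc_d_rc_15_1 lc_d_rc_8_3 lc_d_rc_22_2 lc_d_rc_15_1 lc_d_rc_15_1 lc_d_rc_27_10 lc_d_Cert_tree lc_d_rc_24_5 lc_d_rc_24_5 lc_d_rc_15_1) (@D3.rec (fun _ => (Cert rels S Gen.d)) lc_d_rc_15_1 lc_d_rc_8_1 lc_d_rc_15_1 lc_d_rc_16_4 lc_d_rc_15_1 lc_d_rc_16_2 lc_d_Cert_tree lc_d_rc_8_3 lc_d_rc_8_3 lc_d_rc_23_6 lc_d_rc_3_3 lc_d_rc_17_0 lc_d_rc_15_1 lc_d_Cert_tree lc_d_rc_16_4 lc_d_rc_17_2 lc_d_rc_15_1 lc_d_Cert_tree lc_d_rc_17_2 lc_d_rc_12_3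 lc_d_rc_15_1 lc_d_rc_17_0 lc_d_rc_27_4 lc_d_rc_15_1 lc_d_rc_3_3 lc_d_rc_15_1 lc_d_rc_23_2 lc_d_rc_15_1 lc_d_rc_8_3 lc_d_rc_15_1 lc_d_rc_16_2 lc_d_rc_22_4 lc_d_rc_16_2 lc_d_rc_17_0 lc_d_rc_3_3 lc_d_rc_15_1 lc_d_rc_15_1 lc_d_rc_23_6 lc_d_rc_15_1 lc_d_rc_15_1 lc_d_rc_27_4 lc_d_rc_15_1 lc_d_rc_24_0 lc_d_rc_15_1 lc_d_rc_23_6 lc_d_rc_16_4 lc_d_rc_16_2 lc_d_rc_8_1 lc_d_rc_15_1 lc_d_rc_24_5 lc_d_rc_22_6 lc_d_rc_8_3 lc_d_rc_15_1 lc_d_rc_16_4 lc_d_rc_8_1 lc_d_rc_16_0 lc_d_Cert_tree lc_d_rc_27_8 lc_d_rc_17_2 lc_d_rc_15_1 lc_d_rc_24_0 lc_d_rc_24_5) (@D3.rec (fun _ => (Cert rels S Gen.d)) lc_d_rc_15_1 lc_d_rc_27_2 lc_d_rc_16_0 lc_d_Cert_tree lc_d_rc_24_0 lc_d_rc_15_1 lc_d_rc_15_1 lc_d_Cert_tree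 lc_d_rc_27_2 lc_d_rc_15_1 lc_d_rc_15_1 lc_d_rc_23_4 lc_d_rc_3_3 lc_d_rc_24_5 lc_d_Cert_tree lc_d_rc_15_1 lc_d_rc_15_1 lc_d_rc_8_3 lc_d_rc_22_8 lc_d_rc_15_1 lc_d_rc_17_2 lc_d_rc_27_4 lc_d_rc_3_1 lc_d_rc_22_4 lc_d_rc_8_3 lc_d_rc_3_3 lc_d_rc_23_2 lc_d_rc_15_1 lc_d_rc_8_3 lc_d_rc_15_1 lc_d_rc_22_6 lc_d_rc_15_1 lc_d_rc_15_1 lc_d_rc_15_1 lc_d_rc_8_3 lc_d_Cert_tree lc_d_rc_15_1 lc_d_rc_15_1 lc_d_rc_17_2 lc_d_rc_15_1 lc_d_rc_22_2 lc_d_rc_15_1 lc_d_Cert_tree lc_d_rc_15_1 lc_d_rc_22_4 lc_d_rc_22_4 lc_d_rc_12_1 lc_d_rc_22_8 lc_d_rc_27_4 lc_d_Cert_tree lc_d_rc_15_1 lc_d_rc_15_1 lc_d_rc_17_2 lc_d_rc_15_1 lc_d_rc_23_6 lc_d_rc_15_1 lc_d_Cert_tree lc_d_rc_3_1 lc_d_rc_15_1 lc_d_rc_8_3 lc_d_rc_27_4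 lc_d_rc_15_1) (@D3.rec (fun _ => (Cert rels S Gen.d)) lc_d_rc_15_1 lc_d_rc_16_0 lc_d_rc_15_1 lc_d_rc_23_2 lc_d_rc_8_3 lc_d_Cert_tree lc_d_rc_15_1 lc_d_Cert_tree lc_d_rc_27_8 lc_d_rc_15_1 lc_d_Cert_tree lc_d_rc_15_1 lc_d_rc_27_8 lc_d_rc_27_4 lc_d_Cert_tree lc_d_rc_17_2 lc_d_rc_24_0 lc_d_rc_17_2 lc_d_rc_3_1 lc_d_rc_27_4 lc_d_rc_12_15 lc_d_rc_15_1 lc_d_rc_15_1 lc_d_rc_17_2 lc_d_rc_16_2 lc_d_rc_23_8 lc_d_rc_27_10 lc_d_rc_24_0 lc_d_rc_22_2 lc_d_rc_15_1 lc_d_rc_16_4 lc_d_rc_22_2 lc_d_rc_15_1 lc_d_Cert_tree lc_d_rc_23_8 lc_d_rc_23_2 lc_d_rc_27_2 lc_d_rc_15_1 lc_d_rc_15_1 lc_d_rc_25_2 lc_d_rc_23_6 lc_d_rc_15_1 lc_d_rc_16_2 lc_d_rc_22_6 lc_d_rc_3_1 lc_d_rc_17_2 lc_d_rc_15_1 lc_d_rc_15_1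 lc_d_rc_23_2 lc_d_rc_23_2 lc_d_rc_15_1 lc_d_rc_25_2 lc_d_rc_15_1 lc_d_rc_15_1 lc_d_rc_15_1 lc_d_rc_23_8 lc_d_rc_23_2 lc_d_rc_15_1 lc_d_rc_16_4 lc_d_rc_15_1 lc_d_rc_15_1 lc_d_rc_27_4) (@D3.rec (fun _ => (Cert rels S Gen.d)) lc_d_rc_17_2 lc_d_rc_15_1 lc_d_rc_8_3 lc_d_rc_22_4 lc_d_Cert_tree lc_d_rc_23_2 lc_d_rc_8_1 lc_d_rc_15_1 lc_d_rc_15_1 lc_d_rc_15_1 lc_d_Cert_tree lc_d_rc_22_6 lc_d_rc_8_3 lc_d_rc_15_1 lc_d_rc_8_3 lc_d_rc_22_8 lc_d_rc_8_3 lc_d_rc_22_8 lc_d_rc_8_3 lc_d_rc_23_8 lc_d_Cert_tree lc_d_rc_16_4 lc_d_rc_23_8 lc_d_rc_3_1 lc_d_rc_15_1 lc_d_rc_8_3 lc_d_rc_24_5 lc_d_Cert_tree lc_d_rc_15_1 lc_d_rc_8_3 lc_d_rc_24_0 lc_d_rc_22_4 lc_d_rc_16_4 lc_d_rc_22_6 lc_d_rc_8_3 lc_d_Cert_tree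 lc_d_rc_27_10 lc_d_rc_23_4 lc_d_rc_15_1 lc_d_rc_24_5 lc_d_rc_15_1 lc_d_rc_8_3 lc_d_rc_27_10 lc_d_rc_15_1 lc_d_rc_23_8 lc_d_rc_3_3 lc_d_rc_17_2 lc_d_rc_23_8 lc_d_rc_24_0 lc_d_rc_22_2 lc_d_rc_15_1 lc_d_rc_8_1 lc_d_rc_16_4 lc_d_rc_25_14 lc_d_rc_15_1 lc_d_rc_17_2 lc_d_rc_23_2 lc_d_rc_23_2 lc_d_rc_24_0 lc_d_rc_15_1 lc_d_rc_3_1 lc_d_rc_15_1) (@D3.rec (fun _ => (Cert rels S Gen.d)) lc_d_rc_27_4 lc_d_Cert_tree lc_d_rc_15_1 lc_d_rc_16_4 lc_d_rc_24_0 lc_d_rc_24_0 lc_d_rc_3_1 lc_d_rc_15_1 lc_d_rc_24_0 lc_d_rc_27_2 lc_d_rc_15_1 lc_d_rc_25_6 lc_d_rc_27_4 lc_d_rc_15_1 lc_d_rc_16_4 lc_d_rc_15_1 lc_d_rc_8_1 lc_d_rc_15_1 lc_d_rc_15_1 lc_d_rc_22_6 lc_d_rc_15_1 lc_d_rc_15_1 lc_d_rc_16_4 lc_d_rc_15_1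 lc_d_Cert_tree lc_d_rc_15_1 lc_d_rc_23_6 lc_d_rc_8_3 lc_d_rc_24_5 lc_d_rc_12_3 lc_d_rc_15_1 lc_d_rc_8_3 lc_d_rc_23_2 lc_d_Cert_tree lc_d_rc_15_1 lc_d_rc_23_4 lc_d_rc_3_3 lc_d_rc_8_3 lc_d_rc_15_1 lc_d_rc_15_1 lc_d_rc_15_1 lc_d_rc_3_3 lc_d_rc_8_1 lc_d_rc_8_1 lc_d_rc_16_4 lc_d_Cert_tree lc_d_rc_15_1 lc_d_rc_15_1 lc_d_rc_15_1 lc_d_rc_3_3 lc_d_rc_3_3 lc_d_rc_15_1 lc_d_rc_15_1 lc_d_rc_16_4 lc_d_rc_15_1 lc_d_rc_15_1 lc_d_rc_8_1 lc_d_rc_8_1 lc_d_rc_23_4 lc_d_rc_24_5 lc_d_rc_15_1 lc_d_rc_15_1) (@D3.rec (fun _ => (Cert rels S Gen.d)) lc_d_rc_8_3 lc_d_rc_3_3 lc_d_rc_17_2 lc_d_rc_15_1 lc_d_rc_15_1 lc_d_Cert_tree lc_d_rc_8_1 lc_d_rc_23_8 lc_d_rc_24_0 lc_d_rc_15_1 lc_d_rc_17_2 lc_d_rc_8_1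 lc_d_rc_15_1 lc_d_rc_15_1 lc_d_rc_24_5 lc_d_rc_3_1 lc_d_rc_15_1 lc_d_Cert_tree lc_d_rc_15_1 lc_d_rc_23_2 lc_d_rc_23_8 lc_d_rc_15_1 lc_d_rc_27_10 lc_d_rc_15_1 lc_d_rc_15_1 lc_d_rc_17_2 lc_d_rc_24_0 lc_d_Cert_tree lc_d_rc_15_1 lc_d_rc_22_4 lc_d_rc_17_2 lc_d_rc_27_10 lc_d_rc_23_2 lc_d_Cert_tree lc_d_rc_15_1 lc_d_rc_23_2 lc_d_rc_22_8 lc_d_rc_23_8 lc_d_Cert_tree lc_d_rc_15_1 lc_d_rc_24_5 lc_d_rc_15_1 lc_d_rc_27_8 lc_d_rc_8_3 lc_d_rc_8_3 lc_d_rc_17_2 lc_d_rc_25_2 lc_d_rc_23_2 lc_d_rc_3_3 lc_d_rc_15_1 lc_d_rc_8_3 lc_d_rc_15_1 lc_d_rc_15_1 lc_d_rc_17_0 lc_d_rc_24_5 lc_d_rc_27_10 lc_d_rc_8_3 lc_d_rc_8_3 lc_d_rc_15_1 lc_d_rc_16_4 lc_d_Cert_tree lc_d_rc_15_1) (@D3.rec (fun _ => (Cert rels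 S Gen.d)) lc_d_rc_16_4 lc_d_rc_23_8 lc_d_rc_15_1 lc_d_rc_24_5 lc_d_rc_16_4 lc_d_rc_16_4 lc_d_rc_24_0 lc_d_rc_22_6 lc_d_rc_15_1 lc_d_rc_12_15 lc_d_rc_22_4 lc_d_rc_15_1 lc_d_rc_27_8 lc_d_rc_27_10 lc_d_rc_3_1 lc_d_rc_15_1 lc_d_Cert_tree lc_d_rc_25_18 lc_d_rc_27_2 lc_d_rc_15_1 lc_d_rc_15_1 lc_d_rc_17_2 lc_d_rc_15_1 lc_d_rc_8_3 lc_d_rc_22_2 lc_d_rc_15_1 lc_d_rc_22_4 lc_d_rc_8_1 lc_d_rc_8_1 lc_d_rc_15_1 lc_d_rc_24_0 lc_d_rc_16_4 lc_d_rc_17_2 lc_d_rc_16_2 lc_d_rc_8_1 lc_d_rc_8_3 lc_d_rc_27_8 lc_d_rc_27_2 lc_d_rc_16_0 lc_d_rc_8_1 lc_d_rc_15_1 lc_d_rc_15_1 lc_d_rc_3_1 lc_d_rc_8_1 lc_d_rc_15_1 lc_d_Cert_tree lc_d_rc_15_1 lc_d_rc_3_3 lc_d_rc_24_0 lc_d_rc_23_8 lc_d_rc_3_3 lc_d_rc_16_2 lc_d_rc_15_1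 lc_d_rc_27_2 lc_d_rc_15_1 lc_d_rc_8_3 lc_d_rc_22_4 lc_d_rc_15_1 lc_d_rc_3_3 lc_d_rc_15_1 lc_d_rc_16_2 lc_d_rc_15_1) (@D3.rec (fun _ => (Cert rels S Gen.d)) lc_d_rc_12_1 lc_d_rc_15_1 lc_d_rc_23_2 lc_d_rc_27_10 lc_d_rc_8_3 lc_d_rc_16_4 lc_d_rc_27_10 lc_d_rc_27_10 lc_d_rc_3_3 lc_d_rc_27_10 lc_d_rc_3_3 lc_d_rc_8_3 lc_d_rc_15_1 lc_d_rc_23_4 lc_d_rc_8_3 lc_d_rc_23_6 lc_d_rc_23_6 lc_d_rc_17_2 lc_d_rc_27_4 lc_d_rc_15_1 lc_d_rc_15_1 lc_d_rc_8_3 lc_d_Cert_tree lc_d_rc_3_3 lc_d_rc_16_4 lc_d_rc_3_3 lc_d_rc_25_18 lc_d_rc_15_1 lc_d_Cert_tree lc_d_rc_27_2 lc_d_rc_15_1 lc_d_rc_15_1 lc_d_rc_15_1 lc_d_rc_23_8 lc_d_rc_17_2 lc_d_rc_24_0 lc_d_rc_24_0 lc_d_Cert_tree lc_d_rc_15_1 lc_d_rc_23_6 lc_d_rc_8_3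 lc_d_rc_15_1 lc_d_rc_16_4 lc_d_rc_12_3 lc_d_rc_22_4 lc_d_rc_15_1 lc_d_rc_15_1 lc_d_Cert_tree lc_d_rc_15_1 lc_d_rc_15_1 lc_d_rc_22_4 lc_d_rc_17_2 lc_d_rc_22_4 lc_d_rc_15_1 lc_d_rc_22_6 lc_d_rc_27_4 lc_d_rc_8_3 lc_d_rc_12_9 lc_d_rc_16_4 lc_d_rc_8_3 lc_d_rc_15_1 lc_d_rc_27_2) (@D3.rec (fun _ => (Cert rels S Gen.d)) lc_d_rc_27_4 lc_d_rc_3_3 lc_d_rc_15_1 lc_d_rc_27_8 lc_d_rc_8_3 lc_d_rc_15_1 lc_d_rc_8_3 lc_d_rc_27_4 lc_d_Cert_tree lc_d_rc_23_2 lc_d_rc_23_2 lc_d_Cert_tree lc_d_rc_15_1 lc_d_rc_15_1 lc_d_rc_15_1 lc_d_rc_15_1 lc_d_rc_27_4 lc_d_rc_15_1 lc_d_rc_24_0 lc_d_Cert_tree lc_d_rc_16_2 lc_d_rc_24_0 lc_d_rc_15_1 lc_d_rc_22_6 lc_d_rc_16_4 lc_d_rc_15_1 lc_d_rc_27_10 lc_d_rc_8_3 lc_d_rc_17_0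 lc_d_rc_16_2 lc_d_Cert_tree lc_d_rc_17_2 lc_d_rc_15_1 lc_d_rc_15_1 lc_d_rc_15_1 lc_d_rc_15_1 lc_d_rc_15_1 lc_d_rc_27_4 lc_d_rc_17_0 lc_d_rc_15_1 lc_d_rc_3_3 lc_d_rc_22_2 lc_d_rc_15_1 lc_d_rc_3_3 lc_d_rc_8_3 lc_d_rc_16_2 lc_d_rc_23_4 lc_d_rc_15_1 lc_d_rc_15_1 lc_d_rc_23_4 lc_d_rc_8_3 lc_d_rc_15_1 lc_d_rc_22_4 lc_d_rc_8_1 lc_d_Cert_tree lc_d_Cert_tree lc_d_Cert_tree lc_d_rc_15_1 lc_d_rc_8_3 lc_d_rc_16_4 lc_d_rc_22_2 lc_d_rc_15_1) (@D3.rec (fun _ => (Cert rels S Gen.d)) lc_d_rc_22_4 lc_d_rc_16_2 lc_d_rc_15_1 lc_d_rc_15_1 lc_d_rc_17_0 lc_d_rc_23_4 lc_d_rc_15_1 lc_d_rc_23_2 lc_d_rc_16_2 lc_d_rc_8_3 lc_d_rc_15_1 lc_d_rc_16_4 lc_d_rc_8_3 lc_d_rc_24_0 lc_d_rc_15_1 lc_d_rc_8_3 lc_d_Cert_tree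 lc_d_Cert_tree lc_d_rc_15_1 lc_d_rc_15_1 lc_d_rc_17_2 lc_d_rc_8_3 lc_d_rc_15_1 lc_d_rc_15_1 lc_d_rc_16_2 lc_d_rc_16_0 lc_d_rc_16_2 lc_d_rc_3_3 lc_d_rc_8_3 lc_d_rc_3_3 lc_d_rc_15_1 lc_d_rc_15_1 lc_d_rc_16_4 lc_d_rc_8_3 lc_d_rc_23_4 lc_d_rc_8_1 lc_d_rc_27_4 lc_d_rc_8_3 lc_d_rc_24_5 lc_d_rc_23_4 lc_d_rc_15_1 lc_d_rc_15_1 lc_d_rc_16_4 lc_d_rc_16_2 lc_d_rc_15_1 lc_d_rc_8_3 lc_d_rc_23_6 lc_d_rc_17_2 lc_d_rc_8_3 lc_d_rc_23_8 lc_d_rc_22_8 lc_d_rc_22_2 lc_d_rc_16_4 lc_d_Cert_tree lc_d_Cert_tree lc_d_rc_17_2 lc_d_rc_23_2 lc_d_rc_24_0 lc_d_rc_8_3 lc_d_rc_15_1 lc_d_rc_15_1 lc_d_rc_24_0) (@D3.rec (fun _ => (Cert rels S Gen.d)) lc_d_rc_22_4 lc_d_rc_3_1 lc_d_rc_8_3 lc_d_rc_27_8 lc_d_rc_15_1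 lc_d_rc_22_6 lc_d_rc_15_1 lc_d_rc_17_2 lc_d_rc_27_10 lc_d_rc_24_0 lc_d_rc_15_1 lc_d_rc_12_13 lc_d_Cert_tree lc_d_rc_16_2 lc_d_rc_15_1 lc_d_rc_17_2 lc_d_rc_8_1 lc_d_rc_22_8 lc_d_rc_25_2 lc_d_rc_15_1 lc_d_rc_16_2 lc_d_rc_15_1 lc_d_rc_27_4 lc_d_rc_22_8 lc_d_rc_23_2 lc_d_rc_27_8 lc_d_rc_3_3 lc_d_rc_27_8 lc_d_rc_24_5 lc_d_rc_23_4 lc_d_rc_24_0 lc_d_rc_16_0 lc_d_rc_8_3 lc_d_rc_27_8 lc_d_rc_25_2 lc_d_rc_23_4 lc_d_rc_3_3 lc_d_rc_16_2 lc_d_rc_23_2 lc_d_rc_24_0 lc_d_rc_15_1 lc_d_rc_17_2 lc_d_Cert_tree lc_d_rc_22_2 lc_d_rc_15_1 lc_d_rc_27_4 lc_d_rc_16_4 lc_d_rc_8_3 lc_d_rc_24_5 lc_d_Cert_tree lc_d_rc_17_2 lc_d_rc_16_2 lc_d_rc_15_1 lc_d_rc_15_1 lc_d_Cert_tree lc_d_Cert_tree lc_d_rc_15_1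 lc_d_rc_16_0 lc_d_rc_15_1 lc_d_rc_8_3 lc_d_rc_3_1 lc_d_rc_15_1) (@D3.rec (fun _ => (Cert rels S Gen.d)) lc_d_rc_27_8 lc_d_rc_15_1 lc_d_rc_23_4 lc_d_rc_3_3 lc_d_rc_12_13 lc_d_rc_16_4 lc_d_rc_8_3 lc_d_rc_8_3 lc_d_rc_22_4 lc_d_rc_3_3 lc_d_rc_15_1 lc_d_rc_15_1 lc_d_rc_17_2 lc_d_rc_15_1 lc_d_Cert_tree lc_d_rc_15_1 lc_d_rc_15_1 lc_d_rc_27_10 lc_d_rc_15_1 lc_d_rc_24_5 lc_d_rc_17_2 lc_d_rc_15_1 lc_d_rc_22_2 lc_d_rc_24_5 lc_d_rc_15_1 lc_d_rc_16_2 lc_d_rc_15_1 lc_d_rc_8_3 lc_d_rc_24_5 lc_d_rc_8_1 lc_d_rc_17_2 lc_d_rc_23_2 lc_d_Cert_tree lc_d_rc_17_0 lc_d_rc_24_0 lc_d_rc_15_1 lc_d_rc_8_1 lc_d_rc_15_1 lc_d_rc_15_1 lc_d_rc_3_3 lc_d_rc_16_4 lc_d_rc_22_4 lc_d_rc_15_1 lc_d_rc_8_3 lc_d_rc_22_4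 lc_d_rc_27_4 lc_d_rc_22_6 lc_d_Cert_tree lc_d_Cert_tree lc_d_rc_3_1 lc_d_rc_24_5 lc_d_rc_15_1 lc_d_rc_22_6 lc_d_rc_16_2 lc_d_rc_8_1 lc_d_rc_15_1 lc_d_rc_15_1 lc_d_rc_24_0 lc_d_rc_22_4 lc_d_rc_16_2 lc_d_rc_22_4 lc_d_rc_8_3) (@D3.rec (fun _ => (Cert rels S Gen.d)) lc_d_rc_8_3 lc_d_rc_27_8 lc_d_rc_27_10 lc_d_rc_24_0 lc_d_rc_17_2 lc_d_rc_8_3 lc_d_rc_16_2 lc_d_rc_16_2 lc_d_rc_15_1 lc_d_rc_15_1 lc_d_rc_8_1 lc_d_Cert_tree lc_d_rc_16_2 lc_d_rc_8_3 lc_d_rc_23_4 lc_d_rc_25_18 lc_d_rc_23_4 lc_d_rc_16_2 lc_d_rc_8_3 lc_d_rc_27_8 lc_d_rc_15_1 lc_d_rc_27_10 lc_d_rc_17_2 lc_d_rc_22_6 lc_d_rc_27_10 lc_d_rc_16_0 lc_d_rc_16_0 lc_d_rc_15_1 lc_d_rc_15_1 lc_d_rc_16_2 lc_d_rc_16_2 lc_d_rc_15_1 lc_d_rc_15_1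 lc_d_rc_3_3 lc_d_rc_16_2 lc_d_rc_15_1 lc_d_rc_8_3 lc_d_rc_16_2 lc_d_rc_15_1 lc_d_rc_15_1 lc_d_rc_17_2 lc_d_rc_27_4 lc_d_Cert_tree lc_d_rc_15_1 lc_d_Cert_tree lc_d_rc_15_1 lc_d_rc_15_1 lc_d_rc_23_4 lc_d_rc_22_4 lc_d_rc_3_3 lc_d_rc_15_1 lc_d_rc_15_1 lc_d_rc_23_4 lc_d_rc_15_1 lc_d_rc_15_1 lc_d_rc_15_1 lc_d_rc_23_4 lc_d_rc_17_2 lc_d_rc_15_1 lc_d_rc_17_2 lc_d_rc_22_8 lc_d_rc_15_1) (@D3.rec (fun _ => (Cert rels S Gen.d)) lc_d_rc_17_2 lc_d_rc_15_1 lc_d_rc_15_1 lc_d_rc_17_0 lc_d_rc_8_3 lc_d_rc_17_2 lc_d_rc_23_2 lc_d_rc_27_4 lc_d_rc_15_1 lc_d_rc_15_1 lc_d_rc_3_3 lc_d_rc_15_1 lc_d_rc_23_2 lc_d_rc_16_4 lc_d_rc_15_1 lc_d_rc_15_1 lc_d_rc_12_13 lc_d_rc_16_4 lc_d_rc_8_3 lc_d_Cert_tree lc_d_rc_8_3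 lc_d_Cert_tree lc_d_Cert_tree lc_d_Cert_tree lc_d_rc_17_2 lc_d_rc_23_6 lc_d_rc_22_2 lc_d_rc_16_2 lc_d_rc_15_1 lc_d_rc_23_6 lc_d_rc_17_2 lc_d_rc_15_1 lc_d_rc_15_1 lc_d_rc_15_1 lc_d_rc_3_3 lc_d_rc_15_1 lc_d_rc_15_1 lc_d_rc_23_8 lc_d_rc_16_4 lc_d_rc_25_2 lc_d_rc_16_0 lc_d_rc_24_5 lc_d_Cert_tree lc_d_rc_8_3 lc_d_rc_15_1 lc_d_rc_16_0 lc_d_rc_17_2 lc_d_rc_8_3 lc_d_rc_23_8 lc_d_rc_15_1 lc_d_rc_8_3 lc_d_rc_27_2 lc_d_Cert_tree lc_d_rc_17_2 lc_d_rc_23_8 lc_d_rc_15_1 lc_d_rc_3_3 lc_d_rc_8_3 lc_d_rc_16_2 lc_d_rc_17_2 lc_d_rc_3_3 lc_d_rc_17_2) (@D3.rec (fun _ => (Cert rels S Gen.d)) lc_d_Cert_tree lc_d_rc_15_1 lc_d_Cert_tree lc_d_rc_15_1 lc_d_rc_27_4 lc_d_rc_3_1 lc_d_Cert_tree lc_d_rc_15_1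 lc_d_Cert_tree lc_d_rc_15_1 lc_d_rc_15_1 lc_d_rc_15_1 lc_d_rc_8_3 lc_d_Cert_tree lc_d_rc_16_2 lc_d_rc_8_3 lc_d_Cert_tree lc_d_rc_16_4 lc_d_Cert_tree lc_d_Cert_tree lc_d_rc_16_0 lc_d_rc_15_1 lc_d_rc_17_2 lc_d_rc_15_1 lc_d_rc_15_1 lc_d_rc_15_1 lc_d_rc_15_1 lc_d_rc_16_4 lc_d_rc_8_3 lc_d_rc_3_3 lc_d_rc_8_3 lc_d_rc_15_1 lc_d_rc_22_8 lc_d_rc_16_4 lc_d_rc_15_1 lc_d_rc_27_8 lc_d_rc_22_4 lc_d_rc_15_1 lc_d_rc_15_1 lc_d_Cert_tree lc_d_rc_15_1 lc_d_rc_3_3 lc_d_rc_16_4 lc_d_rc_15_1 lc_d_rc_15_1 lc_d_rc_3_1 lc_d_rc_8_3 lc_d_rc_3_1 lc_d_rc_17_2 lc_d_rc_8_3 lc_d_rc_17_0 lc_d_rc_16_2 lc_d_rc_15_1 lc_d_rc_15_1 lc_d_rc_8_3 lc_d_rc_16_4 lc_d_rc_8_3 lc_d_rc_27_4 lc_d_rc_15_1 lc_d_Cert_tree lc_d_rc_15_1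 lc_d_rc_15_1) (@D3.rec (fun _ => (Cert rels S Gen.d)) lc_d_rc_24_0 lc_d_rc_15_1 lc_d_rc_15_1 lc_d_rc_23_4 lc_d_rc_16_2 lc_d_Cert_tree lc_d_rc_15_1 lc_d_rc_27_4 lc_d_rc_15_1 lc_d_Cert_tree lc_d_rc_15_1 lc_d_Cert_tree lc_d_rc_8_3 lc_d_rc_8_3 lc_d_Cert_tree lc_d_rc_3_3 lc_d_rc_22_6 lc_d_rc_15_1 lc_d_rc_24_5 lc_d_rc_17_0 lc_d_rc_15_1 lc_d_rc_15_1 lc_d_rc_27_8 lc_d_rc_17_0 lc_d_rc_8_3 lc_d_rc_23_2 lc_d_rc_27_4 lc_d_rc_23_2 lc_d_rc_16_2 lc_d_rc_8_3 lc_d_rc_22_2 lc_d_rc_8_3 lc_d_rc_17_2 lc_d_rc_15_1 lc_d_rc_15_1 lc_d_rc_24_0 lc_d_rc_12_3 lc_d_rc_16_2 lc_d_rc_23_2 lc_d_rc_24_0 lc_d_rc_8_3 lc_d_rc_17_2 lc_d_rc_8_3 lc_d_rc_8_3 lc_d_rc_17_0 lc_d_rc_15_1 lc_d_rc_15_1 lc_d_rc_22_8 lc_d_rc_22_4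 lc_d_rc_8_3 lc_d_rc_8_3 lc_d_rc_27_10 lc_d_rc_22_4 lc_d_rc_8_1 lc_d_rc_8_3 lc_d_rc_27_4 lc_d_rc_23_2 lc_d_rc_16_2 lc_d_rc_17_2 lc_d_rc_8_3 lc_d_rc_17_2 lc_d_rc_25_2) (@D3.rec (fun _ => (Cert rels S Gen.d)) lc_d_rc_23_2 lc_d_rc_27_4 lc_d_rc_23_4 lc_d_rc_23_4 lc_d_Cert_tree lc_d_rc_16_4 lc_d_rc_15_1 lc_d_rc_27_10 lc_d_rc_15_1 lc_d_rc_27_2 lc_d_rc_15_1 lc_d_rc_3_3 lc_d_rc_15_1 lc_d_rc_27_8 lc_d_rc_15_1 lc_d_Cert_tree lc_d_rc_23_4 lc_d_rc_15_1 lc_d_rc_23_2 lc_d_rc_17_2 lc_d_rc_23_4 lc_d_rc_23_8 lc_d_rc_23_2 lc_d_rc_23_6 lc_d_rc_23_6 lc_d_Cert_tree lc_d_rc_3_3 lc_d_rc_15_1 lc_d_rc_15_1 lc_d_rc_15_1 lc_d_rc_15_1 lc_d_rc_27_4 lc_d_rc_24_5 lc_d_rc_16_4 lc_d_Cert_tree lc_d_rc_15_1 lc_d_rc_16_4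 lc_d_Cert_tree lc_d_Cert_tree lc_d_rc_12_15 lc_d_rc_15_1 lc_d_rc_22_8 lc_d_rc_15_1 lc_d_rc_15_1 lc_d_rc_3_3 lc_d_rc_27_8 lc_d_rc_8_3 lc_d_rc_16_4 lc_d_rc_16_2 lc_d_rc_15_1 lc_d_rc_17_2 lc_d_rc_27_10 lc_d_rc_15_1 lc_d_rc_17_2 lc_d_rc_15_1 lc_d_rc_22_6 lc_d_rc_8_1 lc_d_rc_15_1 lc_d_rc_16_2 lc_d_rc_23_8 lc_d_rc_27_2 lc_d_rc_3_3) (@D3.rec (fun _ => (Cert rels S Gen.d)) lc_d_rc_17_2 lc_d_rc_8_3 lc_d_rc_15_1 lc_d_rc_16_4 lc_d_rc_25_10 lc_d_rc_17_2 lc_d_rc_16_4 lc_d_Cert_tree lc_d_rc_16_2 lc_d_rc_8_3 lc_d_rc_15_1 lc_d_rc_17_2 lc_d_rc_15_1 lc_d_rc_16_2 lc_d_rc_23_2 lc_d_rc_3_3 lc_d_rc_16_4 lc_d_rc_8_3 lc_d_rc_17_0 lc_d_rc_8_3 lc_d_rc_15_1 lc_d_rc_3_3 lc_d_rc_16_4 lc_d_rc_15_1 lc_d_rc_15_1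 lc_d_rc_17_2 lc_d_rc_15_1 lc_d_rc_8_3 lc_d_rc_15_1 lc_d_rc_15_1 lc_d_rc_27_4 lc_d_Cert_tree lc_d_rc_15_1 lc_d_rc_22_4 lc_d_rc_17_2 lc_d_rc_15_1 lc_d_rc_27_4 lc_d_rc_24_5 lc_d_rc_22_6 lc_d_rc_15_1 lc_d_rc_15_1 lc_d_rc_27_8 lc_d_rc_15_1 lc_d_rc_24_5 lc_d_rc_3_1 lc_d_rc_23_6 lc_d_rc_24_5 lc_d_rc_27_4 lc_d_rc_16_2 lc_d_rc_24_5 lc_d_rc_15_1 lc_d_rc_15_1 lc_d_rc_3_3 lc_d_rc_16_2 lc_d_rc_15_1 lc_d_rc_15_1 lc_d_Cert_tree lc_d_rc_15_1 lc_d_rc_17_2 lc_d_rc_22_2 lc_d_Cert_tree lc_d_rc_8_3) (@D3.rec (fun _ => (Cert rels S Gen.d)) lc_d_rc_27_2 lc_d_rc_8_3 lc_d_rc_8_3 lc_d_rc_22_4 lc_d_rc_15_1 lc_d_rc_15_1 lc_d_rc_15_1 lc_d_Cert_tree lc_d_rc_15_1 lc_d_rc_22_4 lc_d_rc_16_2 lc_d_rc_15_1 lc_d_rc_8_3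 lc_d_Cert_tree lc_d_rc_17_2 lc_d_Cert_tree lc_d_rc_16_4 lc_d_Cert_tree lc_d_Cert_tree lc_d_rc_17_2 lc_d_rc_23_2 lc_d_rc_23_6 lc_d_rc_15_1 lc_d_Cert_tree lc_d_rc_15_1 lc_d_rc_16_4 lc_d_rc_16_0 lc_d_rc_22_4 lc_d_rc_16_4 lc_d_rc_15_1 lc_d_rc_24_0 lc_d_rc_27_2 lc_d_rc_8_3 lc_d_rc_16_4 lc_d_Cert_tree lc_d_rc_15_1 lc_d_rc_15_1 lc_d_rc_8_3 lc_d_rc_17_2 lc_d_Cert_tree lc_d_rc_15_1 lc_d_rc_16_4 lc_d_rc_15_1 lc_d_rc_15_1 lc_d_rc_15_1 lc_d_rc_27_4 lc_d_rc_8_3 lc_d_rc_25_6 lc_d_rc_16_0 lc_d_rc_24_5 lc_d_rc_23_6 lc_d_rc_15_1 lc_d_rc_16_4 lc_d_Cert_tree lc_d_rc_15_1 lc_d_rc_3_3 lc_d_rc_23_2 lc_d_rc_24_5 lc_d_rc_16_2 lc_d_Cert_tree lc_d_rc_15_1 lc_d_rc_23_4) (@D3.rec (fun _ => (Cert rels S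 Gen.d)) lc_d_rc_8_3 lc_d_Cert_tree lc_d_rc_27_10 lc_d_rc_15_1 lc_d_rc_15_1 lc_d_rc_16_2 lc_d_rc_8_3 lc_d_rc_15_1 lc_d_rc_24_0 lc_d_rc_24_0 lc_d_Cert_tree lc_d_rc_22_4 lc_d_rc_16_4 lc_d_rc_8_3 lc_d_rc_8_3 lc_d_rc_25_10 lc_d_rc_17_2 lc_d_Cert_tree lc_d_rc_15_1 lc_d_Cert_tree lc_d_rc_15_1 lc_d_rc_8_3 lc_d_rc_24_5 lc_d_Cert_tree lc_d_Cert_tree lc_d_rc_22_2 lc_d_rc_15_1 lc_d_rc_16_2 lc_d_Cert_tree lc_d_rc_16_4 lc_d_rc_22_4 lc_d_rc_27_10 lc_d_rc_24_5 lc_d_Cert_tree lc_d_rc_15_1 lc_d_Cert_tree lc_d_rc_16_2 lc_d_Cert_tree lc_d_rc_24_0 lc_d_Cert_tree lc_d_rc_15_1 lc_d_rc_22_8 lc_d_rc_16_0 lc_d_rc_15_1 lc_d_rc_27_10 lc_d_rc_24_5 lc_d_rc_15_1 lc_d_rc_15_1 lc_d_Cert_tree lc_d_Cert_tree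 lc_d_rc_3_3 lc_d_rc_8_3 lc_d_rc_15_1 lc_d_rc_17_2 lc_d_rc_15_1 lc_d_rc_22_4 lc_d_rc_15_1 lc_d_rc_16_2 lc_d_rc_22_8 lc_d_rc_22_4 lc_d_Cert_tree lc_d_rc_15_1) (@D3.rec (fun _ => (Cert rels S Gen.d)) lc_d_rc_16_4 lc_d_rc_27_10 lc_d_rc_17_2 lc_d_rc_15_1 lc_d_rc_15_1 lc_d_rc_17_2 lc_d_rc_8_3 lc_d_rc_16_2 lc_d_rc_8_3 lc_d_rc_23_4 lc_d_rc_15_1 lc_d_rc_3_3 lc_d_Cert_tree lc_d_rc_15_1 lc_d_rc_15_1 lc_d_rc_15_1 lc_d_rc_17_2 lc_d_rc_15_1 lc_d_rc_17_0 lc_d_Cert_tree lc_d_rc_15_1 lc_d_Cert_tree lc_d_rc_23_6 lc_d_rc_15_1 lc_d_rc_16_0 lc_d_rc_25_2 lc_d_rc_8_1 lc_d_rc_3_3 lc_d_rc_15_1 lc_d_rc_22_4 lc_d_rc_16_0 lc_d_rc_15_1 lc_d_rc_27_2 lc_d_rc_17_2 lc_d_rc_25_14 lc_d_rc_15_1 lc_d_rc_3_1 lc_d_rc_8_3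 lc_d_rc_23_2 lc_d_rc_25_18 lc_d_rc_3_3 lc_d_rc_17_2 lc_d_rc_22_2 lc_d_rc_3_3 lc_d_rc_17_2 lc_d_rc_8_1 lc_d_rc_23_4 lc_d_rc_15_1 lc_d_rc_24_0 lc_d_rc_3_3 lc_d_rc_8_3 lc_d_rc_8_1 lc_d_Cert_tree lc_d_rc_15_1 lc_d_rc_25_2 lc_d_rc_24_0 lc_d_rc_15_1 lc_d_rc_8_1 lc_d_rc_23_8 lc_d_rc_22_6 lc_d_rc_23_6 lc_d_rc_15_1) (@D3.rec (fun _ => (Cert rels S Gen.d)) lc_d_rc_15_1 lc_d_rc_15_1 lc_d_rc_23_2 lc_d_rc_15_1 lc_d_rc_27_8 lc_d_Cert_tree lc_d_rc_15_1 lc_d_rc_27_4 lc_d_rc_17_2 lc_d_rc_22_2 lc_d_rc_15_1 lc_d_rc_15_1 lc_d_rc_15_1 lc_d_rc_8_3 lc_d_rc_23_6 lc_d_rc_15_1 lc_d_rc_16_4 lc_d_rc_8_3 lc_d_rc_3_3 lc_d_rc_15_1 lc_d_rc_23_6 lc_d_rc_3_3 lc_d_rc_15_1 lc_d_rc_22_6 lc_d_rc_16_2 lc_d_Cert_tree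 lc_d_rc_15_1 lc_d_rc_3_1 lc_d_Cert_tree lc_d_Cert_tree lc_d_rc_15_1 lc_d_rc_15_1 lc_d_rc_24_5 lc_d_rc_15_1 lc_d_rc_23_2 lc_d_rc_3_3 lc_d_rc_15_1 lc_d_rc_16_0 lc_d_rc_15_1 lc_d_rc_8_1 lc_d_rc_27_2 lc_d_rc_8_3 lc_d_rc_17_2 lc_d_rc_8_1 lc_d_rc_8_1 lc_d_rc_24_0 lc_d_rc_15_1 lc_d_rc_16_4 lc_d_rc_27_4 lc_d_rc_23_8 lc_d_rc_22_2 lc_d_rc_15_1 lc_d_rc_16_4 lc_d_Cert_tree lc_d_rc_15_1 lc_d_rc_15_1 lc_d_rc_15_1 lc_d_rc_22_6 lc_d_rc_15_1 lc_d_rc_15_1 lc_d_rc_23_2 lc_d_rc_27_4) (@D3.rec (fun _ => (Cert rels S Gen.d)) lc_d_rc_27_8 lc_d_rc_15_1 lc_d_rc_17_2 lc_d_rc_3_3 lc_d_rc_23_8 lc_d_rc_15_1 lc_d_rc_15_1 lc_d_rc_16_4 lc_d_rc_8_3 lc_d_rc_8_3 lc_d_rc_22_6 lc_d_rc_15_1 lc_d_rc_15_1 lc_d_rc_23_8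 lc_d_rc_23_2 lc_d_rc_3_3 lc_d_rc_16_4 lc_d_rc_27_2 lc_d_rc_15_1 lc_d_rc_22_4 lc_d_rc_22_4 lc_d_rc_15_1 lc_d_rc_16_2 lc_d_rc_22_8 lc_d_rc_16_4 lc_d_rc_23_8 lc_d_rc_15_1 lc_d_rc_22_8 lc_d_rc_16_4 lc_d_rc_25_14 lc_d_rc_15_1 lc_d_rc_15_1 lc_d_rc_27_10 lc_d_rc_3_3 lc_d_Cert_tree lc_d_Cert_tree lc_d_Cert_tree lc_d_rc_15_1 lc_d_rc_15_1 lc_d_Cert_tree lc_d_rc_15_1 lc_d_rc_8_3 lc_d_rc_27_8 lc_d_rc_23_8 lc_d_Cert_tree lc_d_rc_27_4 lc_d_rc_8_1 lc_d_Cert_tree lc_d_rc_27_8 lc_d_rc_15_1 lc_d_rc_15_1 lc_d_rc_15_1 lc_d_rc_25_10 lc_d_rc_3_3 lc_d_rc_25_2 lc_d_rc_3_3 lc_d_rc_27_4 lc_d_rc_15_1 lc_d_rc_17_0 lc_d_rc_3_3 lc_d_rc_15_1 lc_d_Cert_tree) (@D3.rec (fun _ => (Cert rels S Gen.d)) lc_d_rc_16_4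 lc_d_rc_22_4 lc_d_rc_8_3 lc_d_rc_23_6 lc_d_Cert_tree lc_d_rc_24_5 lc_d_rc_24_0 lc_d_Cert_tree lc_d_rc_27_10 lc_d_rc_15_1 lc_d_rc_17_2 lc_d_rc_15_1 lc_d_rc_15_1 lc_d_rc_15_1 lc_d_rc_23_8 lc_d_rc_23_8 lc_d_rc_22_2 lc_d_rc_8_3 lc_d_rc_15_1 lc_d_rc_3_3 lc_d_rc_17_2 lc_d_rc_27_8 lc_d_rc_16_4 lc_d_Cert_tree lc_d_rc_22_4 lc_d_rc_8_3 lc_d_rc_27_10 lc_d_rc_3_3 lc_d_rc_22_2 lc_d_rc_25_10 lc_d_rc_25_2 lc_d_rc_3_3 lc_d_rc_8_3 lc_d_rc_15_1 lc_d_rc_15_1 lc_d_rc_16_2 lc_d_rc_15_1 lc_d_rc_27_4 lc_d_rc_8_3 lc_d_rc_3_1 lc_d_rc_15_1 lc_d_rc_15_1 lc_d_rc_15_1 lc_d_rc_22_6 lc_d_rc_15_1 lc_d_rc_15_1 lc_d_rc_15_1 lc_d_rc_23_6 lc_d_rc_22_4 lc_d_rc_16_4 lc_d_rc_15_1 lc_d_rc_16_2 lc_d_rc_3_3 lc_d_rc_22_2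 lc_d_rc_8_3 lc_d_rc_22_6 lc_d_rc_22_2 lc_d_rc_15_1 lc_d_rc_3_1 lc_d_rc_8_1 lc_d_rc_3_3 lc_d_rc_16_4) (@D3.rec (fun _ => (Cert rels S Gen.d)) lc_d_rc_15_1 lc_d_rc_15_1 lc_d_rc_17_2 lc_d_rc_23_2 lc_d_rc_15_1 lc_d_rc_15_1 lc_d_rc_16_4 lc_d_rc_15_1 lc_d_rc_3_3 lc_d_rc_17_0 lc_d_rc_15_1 lc_d_rc_15_1 lc_d_Cert_tree lc_d_rc_16_2 lc_d_rc_16_4 lc_d_rc_8_3 lc_d_rc_15_1 lc_d_rc_17_2 lc_d_rc_17_2 lc_d_rc_15_1 lc_d_rc_27_8 lc_d_rc_15_1 lc_d_Cert_tree lc_d_rc_3_3 lc_d_Cert_tree lc_d_rc_15_1 lc_d_rc_15_1 lc_d_rc_15_1 lc_d_rc_17_2 lc_d_rc_15_1 lc_d_rc_24_5 lc_d_rc_16_4 lc_d_rc_15_1 lc_d_rc_22_4 lc_d_rc_8_1 lc_d_rc_15_1 lc_d_rc_17_0 lc_d_rc_15_1 lc_d_Cert_tree lc_d_rc_15_1 lc_d_rc_27_10 lc_d_rc_27_2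 lc_d_rc_17_2 lc_d_rc_16_0 lc_d_rc_15_1 lc_d_rc_16_4 lc_d_Cert_tree lc_d_rc_15_1 lc_d_rc_27_4 lc_d_rc_15_1 lc_d_rc_24_0 lc_d_rc_23_2 lc_d_rc_17_2 lc_d_rc_15_1 lc_d_rc_22_2 lc_d_rc_15_1 lc_d_rc_22_8 lc_d_rc_16_2 lc_d_rc_8_3 lc_d_rc_16_4 lc_d_rc_15_1 lc_d_rc_22_2) (@D3.rec (fun _ => (Cert rels S Gen.d)) lc_d_rc_15_1 lc_d_rc_23_2 lc_d_rc_16_4 lc_d_rc_23_2 lc_d_rc_17_2 lc_d_rc_23_8 lc_d_rc_27_4 lc_d_rc_15_1 lc_d_Cert_tree lc_d_rc_16_4 lc_d_Cert_tree lc_d_rc_17_2 lc_d_rc_16_4 lc_d_rc_15_1 lc_d_rc_15_1 lc_d_rc_17_2 lc_d_rc_17_2 lc_d_rc_12_5 lc_d_rc_16_4 lc_d_rc_24_5 lc_d_rc_15_1 lc_d_rc_27_10 lc_d_rc_15_1 lc_d_rc_23_8 lc_d_rc_16_4 lc_d_rc_17_2 lc_d_rc_15_1 lc_d_rc_22_2 lc_d_Cert_tree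 lc_d_rc_15_1 lc_d_Cert_tree lc_d_rc_15_1 lc_d_rc_15_1 lc_d_rc_8_3 lc_d_rc_15_1 lc_d_rc_17_0 lc_d_rc_15_1 lc_d_rc_15_1 lc_d_Cert_tree lc_d_rc_22_4 lc_d_rc_16_4 lc_d_rc_8_3 lc_d_rc_16_4 lc_d_rc_27_10 lc_d_rc_15_1 lc_d_rc_17_2 lc_d_rc_16_4 lc_d_rc_15_1 lc_d_rc_15_1 lc_d_Cert_tree lc_d_rc_15_1 lc_d_rc_8_1 lc_d_rc_15_1 lc_d_rc_27_4 lc_d_rc_15_1 lc_d_rc_16_2 lc_d_rc_15_1 lc_d_rc_25_14 lc_d_rc_16_0 lc_d_rc_8_3 lc_d_rc_15_1 lc_d_rc_15_1) (@D3.rec (fun _ => (Cert rels S Gen.d)) lc_d_rc_15_1 lc_d_rc_8_3 lc_d_rc_15_1 lc_d_Cert_tree lc_d_rc_16_2 lc_d_rc_16_2 lc_d_rc_17_2 lc_d_rc_8_1 lc_d_Cert_tree lc_d_rc_3_3 lc_d_rc_17_2 lc_d_rc_22_6 lc_d_rc_16_4 lc_d_rc_17_2 lc_d_rc_22_8 lc_d_rc_16_2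 lc_d_rc_8_3 lc_d_rc_12_15 lc_d_rc_15_1 lc_d_rc_22_6 lc_d_Cert_tree lc_d_Cert_tree lc_d_rc_17_2 lc_d_rc_15_1 lc_d_rc_15_1 lc_d_Cert_tree lc_d_rc_22_2 lc_d_Cert_tree lc_d_Cert_tree lc_d_rc_17_2 lc_d_rc_8_3 lc_d_Cert_tree lc_d_rc_16_2 lc_d_Cert_tree lc_d_Cert_tree lc_d_rc_15_1 lc_d_rc_22_4 lc_d_rc_27_10 lc_d_rc_22_4 lc_d_rc_17_2 lc_d_rc_3_1 lc_d_rc_17_2 lc_d_rc_16_4 lc_d_rc_15_1 lc_d_rc_22_8 lc_d_rc_17_2 lc_d_rc_15_1 lc_d_Cert_tree lc_d_rc_16_2 lc_d_rc_24_0 lc_d_rc_25_10 lc_d_rc_3_3 lc_d_rc_22_4 lc_d_rc_23_2 lc_d_rc_15_1 lc_d_rc_15_1 lc_d_rc_17_2 lc_d_rc_15_1 lc_d_rc_25_2 lc_d_rc_15_1 lc_d_Cert_tree lc_d_rc_15_1) (@D3.rec (fun _ => (Cert rels S Gen.d)) lc_d_rc_15_1 lc_d_rc_15_1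 lc_d_rc_27_2 lc_d_rc_8_3 lc_d_rc_15_1 lc_d_rc_15_1 lc_d_rc_27_4 lc_d_rc_15_1 lc_d_rc_27_4 lc_d_rc_15_1 lc_d_rc_15_1 lc_d_rc_15_1 lc_d_rc_15_1 lc_d_rc_15_1 lc_d_rc_15_1 lc_d_rc_27_2 lc_d_rc_16_2 lc_d_rc_17_2 lc_d_rc_27_10 lc_d_rc_22_4 lc_d_rc_12_15 lc_d_rc_16_4 lc_d_rc_17_2 lc_d_rc_15_1 lc_d_rc_27_4 lc_d_rc_15_1 lc_d_rc_15_1 lc_d_rc_3_1 lc_d_rc_27_8 lc_d_rc_27_2 lc_d_rc_8_3 lc_d_Cert_tree lc_d_rc_27_10 lc_d_rc_15_1 lc_d_rc_17_2 lc_d_Cert_tree lc_d_rc_15_1 lc_d_rc_15_1 lc_d_rc_15_1 lc_d_rc_24_0 lc_d_rc_8_3 lc_d_rc_27_10 lc_d_rc_17_2 lc_d_rc_3_3 lc_d_rc_23_6 lc_d_rc_23_6 lc_d_rc_16_4 lc_d_Cert_tree lc_d_Cert_tree lc_d_Cert_tree lc_d_rc_8_3 lc_d_rc_24_0 lc_d_rc_27_8 lc_d_rc_15_1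 lc_d_Cert_tree lc_d_Cert_tree lc_d_rc_15_1 lc_d_rc_15_1 lc_d_rc_8_3 lc_d_rc_8_3 lc_d_rc_17_0 lc_d_rc_15_1) (@D3.rec (fun _ => (Cert rels S Gen.d)) lc_d_rc_16_4 lc_d_rc_8_3 lc_d_rc_15_1 lc_d_rc_8_3 lc_d_rc_8_3 lc_d_rc_16_4 lc_d_rc_15_1 lc_d_rc_15_1 lc_d_Cert_tree lc_d_Cert_tree lc_d_rc_15_1 lc_d_rc_17_2 lc_d_rc_15_1 lc_d_rc_27_4 lc_d_rc_15_1 lc_d_rc_27_8 lc_d_rc_15_1 lc_d_rc_24_0 lc_d_Cert_tree lc_d_rc_17_2 lc_d_rc_8_3 lc_d_rc_22_6 lc_d_rc_16_4 lc_d_rc_27_8 lc_d_rc_15_1 lc_d_rc_22_4 lc_d_rc_8_3 lc_d_rc_3_1 lc_d_Cert_tree lc_d_Cert_tree lc_d_rc_15_1 lc_d_rc_17_2 lc_d_rc_15_1 lc_d_rc_17_2 lc_d_rc_15_1 lc_d_rc_23_2 lc_d_rc_16_2 lc_d_rc_15_1 lc_d_Cert_tree lc_d_rc_15_1 lc_d_Cert_tree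 lc_d_rc_8_3 lc_d_rc_16_4 lc_d_rc_15_1 lc_d_Cert_tree lc_d_rc_16_2 lc_d_rc_27_2 lc_d_rc_8_3 lc_d_rc_15_1 lc_d_rc_17_2 lc_d_rc_3_3 lc_d_Cert_tree lc_d_rc_15_1 lc_d_rc_24_0 lc_d_rc_3_3 lc_d_Cert_tree lc_d_rc_15_1 lc_d_rc_8_3 lc_d_Cert_tree lc_d_rc_17_2 lc_d_rc_15_1 lc_d_rc_27_4) (@D3.rec (fun _ => (Cert rels S Gen.d)) lc_d_rc_15_1 lc_d_rc_27_8 lc_d_rc_15_1 lc_d_rc_15_1 lc_d_rc_27_4 lc_d_Cert_tree lc_d_rc_8_3 lc_d_rc_3_1 lc_d_rc_24_5 lc_d_rc_15_1 lc_d_rc_27_8 lc_d_rc_23_6 lc_d_rc_12_1 lc_d_rc_23_6 lc_d_rc_16_0 lc_d_Cert_tree lc_d_rc_15_1 lc_d_rc_15_1 lc_d_Cert_tree lc_d_rc_24_0 lc_d_rc_22_2 lc_d_rc_16_2 lc_d_rc_17_2 lc_d_rc_17_0 lc_d_rc_23_4 lc_d_rc_22_4 lc_d_rc_15_1 lc_d_rc_15_1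 lc_d_rc_15_1 lc_d_rc_15_1 lc_d_rc_15_1 lc_d_rc_16_2 lc_d_rc_22_4 lc_d_rc_17_0 lc_d_rc_27_4 lc_d_rc_8_3 lc_d_rc_16_4 lc_d_rc_8_1 lc_d_rc_15_1 lc_d_rc_23_2 lc_d_rc_16_2 lc_d_rc_8_3 lc_d_rc_22_4 lc_d_rc_15_1 lc_d_rc_17_0 lc_d_rc_17_2 lc_d_rc_15_1 lc_d_rc_15_1 lc_d_rc_27_8 lc_d_rc_24_0 lc_d_rc_15_1 lc_d_rc_15_1 lc_d_rc_16_2 lc_d_rc_27_10 lc_d_rc_24_0 lc_d_rc_8_3 lc_d_rc_17_2 lc_d_rc_24_5 lc_d_rc_8_3 lc_d_rc_17_2 lc_d_rc_15_1 lc_d_rc_8_1) (@D3.rec (fun _ => (Cert rels S Gen.d)) lc_d_rc_8_3 lc_d_rc_27_4 lc_d_Cert_tree lc_d_Cert_tree lc_d_rc_15_1 lc_d_rc_17_2 lc_d_rc_23_4 lc_d_rc_22_8 lc_d_rc_16_4 lc_d_rc_8_3 lc_d_rc_24_5 lc_d_rc_8_3 lc_d_rc_23_2 lc_d_rc_15_1 lc_d_rc_22_2 lc_d_rc_17_2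 lc_d_rc_15_1 lc_d_Cert_tree lc_d_rc_27_10 lc_d_rc_15_1 lc_d_rc_17_2 lc_d_rc_27_2 lc_d_rc_15_1 lc_d_rc_17_2 lc_d_rc_15_1 lc_d_rc_3_3 lc_d_Cert_tree lc_d_rc_17_2 lc_d_rc_15_1 lc_d_Cert_tree lc_d_Cert_tree lc_d_rc_15_1 lc_d_rc_15_1 lc_d_rc_16_4 lc_d_rc_22_2 lc_d_rc_15_1 lc_d_rc_3_3 lc_d_rc_8_3 lc_d_rc_15_1 lc_d_rc_15_1 lc_d_rc_27_8 lc_d_rc_8_3 lc_d_rc_15_1 lc_d_rc_24_0 lc_d_rc_17_2 lc_d_rc_23_4 lc_d_rc_16_4 lc_d_rc_16_2 lc_d_rc_15_1 lc_d_rc_15_1 lc_d_rc_3_1 lc_d_rc_8_3 lc_d_rc_8_3 lc_d_rc_8_3 lc_d_rc_24_5 lc_d_rc_27_10 lc_d_Cert_tree lc_d_Cert_tree lc_d_rc_15_1 lc_d_rc_3_1 lc_d_rc_27_2 lc_d_rc_16_2) (@D3.rec (fun _ => (Cert rels S Gen.d)) lc_d_rc_3_3 lc_d_rc_15_1 lc_d_Cert_tree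 lc_d_rc_16_4 lc_d_rc_15_1 lc_d_rc_27_8 lc_d_rc_24_0 lc_d_rc_22_8 lc_d_rc_17_2 lc_d_rc_23_6 lc_d_rc_15_1 lc_d_rc_15_1 lc_d_rc_16_2 lc_d_rc_16_2 lc_d_rc_15_1 lc_d_rc_22_4 lc_d_rc_16_0 lc_d_rc_15_1 lc_d_rc_15_1 lc_d_rc_15_1 lc_d_rc_8_3 lc_d_rc_12_3 lc_d_rc_16_2 lc_d_rc_17_2 lc_d_rc_22_2 lc_d_rc_16_0 lc_d_rc_3_1 lc_d_rc_15_1 lc_d_rc_16_4 lc_d_rc_22_2 lc_d_rc_15_1 lc_d_Cert_tree lc_d_rc_15_1 lc_d_rc_27_4 lc_d_Cert_tree lc_d_rc_15_1 lc_d_rc_27_2 lc_d_rc_23_6 lc_d_rc_24_0 lc_d_Cert_tree lc_d_rc_8_3 lc_d_rc_15_1 lc_d_rc_22_2 lc_d_rc_15_1 lc_d_rc_22_8 lc_d_rc_15_1 lc_d_rc_15_1 lc_d_rc_3_3 lc_d_rc_15_1 lc_d_rc_15_1 lc_d_rc_16_2 lc_d_rc_16_4 lc_d_rc_22_2 lc_d_rc_27_2 lc_d_rc_23_6 lc_d_rc_15_1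 lc_d_rc_15_1 lc_d_rc_27_10 lc_d_rc_27_4 lc_d_rc_27_10 lc_d_rc_15_1 lc_d_rc_17_2) (@D3.rec (fun _ => (Cert rels S Gen.d)) lc_d_rc_25_6 lc_d_rc_24_5 lc_d_rc_15_1 lc_d_rc_17_2 lc_d_rc_15_1 lc_d_rc_23_2 lc_d_rc_15_1 lc_d_rc_27_10 lc_d_rc_15_1 lc_d_rc_17_2 lc_d_rc_27_10 lc_d_rc_15_1 lc_d_rc_15_1 lc_d_rc_12_1 lc_d_rc_17_2 lc_d_rc_15_1 lc_d_rc_3_1 lc_d_rc_16_0 lc_d_rc_16_4 lc_d_rc_17_2 lc_d_rc_15_1 lc_d_rc_8_3 lc_d_Cert_tree lc_d_rc_27_2 lc_d_rc_15_1 lc_d_rc_15_1 lc_d_rc_15_1 lc_d_rc_15_1 lc_d_rc_22_8 lc_d_rc_16_2 lc_d_rc_22_2 lc_d_rc_16_2 lc_d_rc_8_3 lc_d_rc_3_3 lc_d_rc_27_4 lc_d_rc_17_2 lc_d_rc_16_4 lc_d_rc_24_0 lc_d_rc_24_5 lc_d_rc_16_4 lc_d_rc_15_1 lc_d_rc_15_1 lc_d_rc_24_5 lc_d_rc_24_5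 lc_d_rc_24_0 lc_d_rc_23_2 lc_d_rc_15_1 lc_d_rc_17_2 lc_d_rc_17_2 lc_d_Cert_tree lc_d_rc_27_8 lc_d_rc_3_3 lc_d_rc_23_2 lc_d_rc_16_2 lc_d_Cert_tree lc_d_Cert_tree lc_d_rc_8_3 lc_d_rc_22_2 lc_d_rc_8_3 lc_d_rc_15_1 lc_d_rc_27_2 lc_d_rc_17_2) (@D3.rec (fun _ => (Cert rels S Gen.d)) lc_d_rc_15_1 lc_d_rc_16_4 lc_d_rc_8_3 lc_d_Cert_tree lc_d_Cert_tree lc_d_Cert_tree lc_d_rc_17_2 lc_d_rc_15_1 lc_d_rc_27_2 lc_d_rc_8_3 lc_d_rc_24_0 lc_d_rc_15_1 lc_d_rc_16_0 lc_d_rc_15_1 lc_d_rc_15_1 lc_d_rc_17_2 lc_d_rc_22_4 lc_d_rc_23_4 lc_d_rc_15_1 lc_d_rc_16_2 lc_d_Cert_tree lc_d_rc_3_3 lc_d_rc_24_0 lc_d_rc_17_2 lc_d_rc_17_2 lc_d_rc_16_4 lc_d_rc_15_1 lc_d_rc_17_2 lc_d_rc_23_6 lc_d_rc_15_1 lc_d_rc_23_4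 lc_d_rc_22_2 lc_d_rc_16_4 lc_d_rc_16_4 lc_d_rc_22_8 lc_d_rc_22_4 lc_d_rc_15_1 lc_d_rc_15_1 lc_d_rc_22_2 lc_d_rc_15_1 lc_d_rc_12_3 lc_d_rc_24_0 lc_d_rc_8_3 lc_d_rc_15_1 lc_d_rc_23_2 lc_d_rc_3_1 lc_d_rc_15_1 lc_d_rc_15_1 lc_d_rc_15_1 lc_d_rc_17_2 lc_d_Cert_tree lc_d_rc_27_4 lc_d_rc_23_2 lc_d_rc_24_0 lc_d_rc_15_1 lc_d_rc_8_3 lc_d_rc_8_3 lc_d_rc_15_1 lc_d_rc_24_0 lc_d_Cert_tree lc_d_Cert_tree lc_d_rc_17_2) (@D3.rec (fun _ => (Cert rels S Gen.d)) lc_d_rc_15_1 lc_d_Cert_tree lc_d_rc_16_0 lc_d_rc_27_8 lc_d_rc_16_2 lc_d_rc_17_2 lc_d_rc_27_4 lc_d_rc_8_3 lc_d_rc_16_0 lc_d_Cert_tree lc_d_rc_15_1 lc_d_rc_16_4 lc_d_rc_15_1 lc_d_Cert_tree lc_d_rc_15_1 lc_d_rc_17_2 lc_d_rc_15_1 lc_d_rc_8_1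 lc_d_rc_15_1 lc_d_rc_27_4 lc_d_rc_15_1 lc_d_Cert_tree lc_d_rc_15_1 lc_d_rc_22_2 lc_d_rc_16_4 lc_d_rc_15_1 lc_d_rc_15_1 lc_d_rc_16_2 lc_d_rc_8_3 lc_d_rc_23_8 lc_d_rc_3_3 lc_d_rc_22_2 lc_d_rc_27_10 lc_d_rc_15_1 lc_d_rc_17_2 lc_d_rc_23_4 lc_d_rc_8_3 lc_d_rc_17_2 lc_d_rc_16_2 lc_d_rc_27_10 lc_d_rc_16_2 lc_d_rc_15_1 lc_d_rc_15_1 lc_d_rc_16_4 lc_d_rc_23_2 lc_d_rc_16_4 lc_d_rc_8_3 lc_d_Cert_tree lc_d_Cert_tree lc_d_rc_15_1 lc_d_rc_17_2 lc_d_rc_15_1 lc_d_rc_8_3 lc_d_rc_8_3 lc_d_rc_16_4 lc_d_rc_27_10 lc_d_rc_17_2 lc_d_rc_22_2 lc_d_rc_22_8 lc_d_rc_8_3 lc_d_rc_16_4 lc_d_rc_15_1) (@D3.rec (fun _ => (Cert rels S Gen.d)) lc_d_rc_16_4 lc_d_rc_3_1 lc_d_rc_15_1 lc_d_rc_27_10 lc_d_Cert_tree lc_d_rc_15_1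 lc_d_rc_15_1 lc_d_rc_24_0 lc_d_rc_15_1 lc_d_rc_16_2 lc_d_rc_15_1 lc_d_rc_8_3 lc_d_rc_17_0 lc_d_rc_27_10 lc_d_rc_15_1 lc_d_rc_17_2 lc_d_rc_15_1 lc_d_rc_15_1 lc_d_rc_15_1 lc_d_rc_23_4 lc_d_rc_15_1 lc_d_rc_22_4 lc_d_rc_16_4 lc_d_rc_15_1 lc_d_Cert_tree lc_d_Cert_tree lc_d_rc_17_2 lc_d_rc_24_5 lc_d_rc_23_8 lc_d_rc_8_3 lc_d_rc_8_3 lc_d_rc_24_0 lc_d_rc_15_1 lc_d_rc_22_4 lc_d_rc_16_4 lc_d_rc_8_3 lc_d_rc_27_2 lc_d_Cert_tree lc_d_rc_17_2 lc_d_rc_8_3 lc_d_rc_15_1 lc_d_rc_15_1 lc_d_Cert_tree lc_d_rc_15_1 lc_d_rc_17_2 lc_d_Cert_tree lc_d_rc_15_1 lc_d_rc_8_1 lc_d_rc_23_2 lc_d_rc_15_1 lc_d_Cert_tree lc_d_rc_23_6 lc_d_rc_15_1 lc_d_rc_16_4 lc_d_rc_17_2 lc_d_rc_15_1 lc_d_rc_3_1 lc_d_rc_8_1 lc_d_rc_15_1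 lc_d_rc_15_1 lc_d_rc_8_3 lc_d_rc_23_8) (@D3.rec (fun _ => (Cert rels S Gen.d)) lc_d_rc_3_3 lc_d_rc_27_2 lc_d_rc_8_3 lc_d_rc_15_1 lc_d_Cert_tree lc_d_rc_15_1 lc_d_rc_15_1 lc_d_rc_16_2 lc_d_rc_22_8 lc_d_rc_3_3 lc_d_rc_22_6 lc_d_rc_8_3 lc_d_rc_23_8 lc_d_rc_23_8 lc_d_rc_3_3 lc_d_rc_8_3 lc_d_rc_15_1 lc_d_rc_27_2 lc_d_rc_15_1 lc_d_rc_23_8 lc_d_rc_27_8 lc_d_rc_15_1 lc_d_rc_15_1 lc_d_rc_15_1 lc_d_Cert_tree lc_d_rc_15_1 lc_d_rc_23_4 lc_d_rc_15_1 lc_d_rc_16_2 lc_d_rc_15_1 lc_d_rc_3_3 lc_d_rc_15_1 lc_d_rc_24_0 lc_d_rc_23_2 lc_d_rc_16_2 lc_d_rc_8_3 lc_d_rc_22_8 lc_d_rc_16_4 lc_d_rc_22_2 lc_d_rc_17_0 lc_d_rc_17_0 lc_d_rc_15_1 lc_d_rc_17_2 lc_d_rc_24_0 lc_d_rc_23_2 lc_d_rc_15_1 lc_d_rc_16_4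 lc_d_rc_23_6 lc_d_rc_22_2 lc_d_rc_3_1 lc_d_rc_15_1 lc_d_rc_8_3 lc_d_rc_15_1 lc_d_rc_16_2 lc_d_rc_15_1 lc_d_rc_15_1 lc_d_rc_17_2 lc_d_rc_8_3 lc_d_rc_3_3 lc_d_rc_17_2 lc_d_rc_16_0 lc_d_rc_15_1) (@D3.rec (fun _ => (Cert rels S Gen.d)) lc_d_rc_16_4 lc_d_rc_15_1 lc_d_rc_17_2 lc_d_rc_15_1 lc_d_Cert_tree lc_d_rc_15_1 lc_d_rc_15_1 lc_d_rc_27_8 lc_d_rc_3_3 lc_d_rc_16_0 lc_d_rc_16_2 lc_d_rc_16_0 lc_d_rc_16_0 lc_d_rc_17_2 lc_d_rc_3_3 lc_d_rc_15_1 lc_d_rc_15_1 lc_d_rc_27_10 lc_d_rc_15_1 lc_d_rc_17_2 lc_d_rc_27_10 lc_d_rc_15_1 lc_d_rc_27_4 lc_d_rc_15_1 lc_d_rc_15_1 lc_d_rc_24_5 lc_d_rc_24_5 lc_d_rc_23_2 lc_d_rc_3_3 lc_d_rc_17_2 lc_d_rc_8_3 lc_d_rc_3_3 lc_d_rc_15_1 lc_d_rc_16_4 lc_d_rc_24_5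 lc_d_rc_16_2 lc_d_rc_15_1 lc_d_Cert_tree lc_d_rc_15_1 lc_d_rc_15_1 lc_d_rc_8_3 lc_d_rc_17_0 lc_d_rc_8_3 lc_d_rc_8_1 lc_d_rc_27_4 lc_d_rc_23_2 lc_d_rc_17_2 lc_d_rc_15_1 lc_d_rc_8_3 lc_d_rc_17_2 lc_d_rc_16_4 lc_d_rc_15_1 lc_d_Cert_tree lc_d_Cert_tree lc_d_rc_23_6 lc_d_rc_16_0 lc_d_Cert_tree lc_d_rc_15_1 lc_d_rc_15_1 lc_d_rc_23_6 lc_d_Cert_tree lc_d_rc_27_2) (@D3.rec (fun _ => (Cert rels S Gen.d)) lc_d_rc_15_1 lc_d_rc_22_6 lc_d_rc_23_8 lc_d_rc_15_1 lc_d_rc_15_1 lc_d_rc_27_4 lc_d_rc_15_1 lc_d_rc_15_1 lc_d_rc_24_0 lc_d_rc_22_2 lc_d_rc_16_4 lc_d_rc_15_1 lc_d_rc_8_3 lc_d_Cert_tree lc_d_Cert_tree lc_d_rc_15_1 lc_d_rc_8_1 lc_d_rc_22_8 lc_d_rc_16_4 lc_d_rc_8_3 lc_d_rc_23_4 lc_d_rc_17_2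 lc_d_rc_23_8 lc_d_rc_24_0 lc_d_rc_27_2 lc_d_rc_16_2 lc_d_rc_15_1 lc_d_rc_17_2 lc_d_rc_3_3 lc_d_rc_8_1 lc_d_rc_8_3 lc_d_Cert_tree lc_d_Cert_tree lc_d_rc_15_1 lc_d_rc_17_2 lc_d_rc_3_3 lc_d_rc_15_1 lc_d_rc_16_4 lc_d_rc_23_2 lc_d_rc_8_3 lc_d_Cert_tree lc_d_rc_8_3 lc_d_rc_8_1 lc_d_rc_15_1 lc_d_rc_22_2 lc_d_rc_15_1 lc_d_rc_16_4 lc_d_rc_27_2 lc_d_rc_15_1 lc_d_rc_8_1 lc_d_rc_12_15 lc_d_rc_12_15 lc_d_Cert_tree lc_d_rc_23_2 lc_d_rc_24_0 lc_d_rc_23_8 lc_d_rc_15_1 lc_d_rc_15_1 lc_d_rc_3_3 lc_d_rc_15_1 lc_d_rc_12_15 lc_d_rc_16_2) (@D3.rec (fun _ => (Cert rels S Gen.d)) lc_d_rc_15_1 lc_d_rc_16_4 lc_d_rc_15_1 lc_d_rc_15_1 lc_d_rc_15_1 lc_d_rc_15_1 lc_d_rc_27_2 lc_d_rc_16_4 lc_d_rc_8_3 lc_d_rc_8_3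 lc_d_Cert_tree lc_d_Cert_tree lc_d_rc_16_0 lc_d_Cert_tree lc_d_Cert_tree lc_d_rc_15_1 lc_d_rc_8_3 lc_d_rc_15_1 lc_d_Cert_tree lc_d_rc_16_2 lc_d_rc_27_10 lc_d_rc_8_3 lc_d_rc_23_8 lc_d_rc_15_1 lc_d_rc_17_2 lc_d_rc_27_4 lc_d_rc_15_1 lc_d_rc_27_8 lc_d_rc_15_1 lc_d_rc_15_1 lc_d_rc_15_1 lc_d_rc_15_1 lc_d_rc_22_4 lc_d_rc_16_4 lc_d_rc_8_3 lc_d_Cert_tree lc_d_Cert_tree lc_d_Cert_tree lc_d_rc_17_2 lc_d_rc_8_1 lc_d_rc_15_1 lc_d_Cert_tree lc_d_rc_15_1 lc_d_rc_17_2 lc_d_rc_17_2 lc_d_rc_3_3 lc_d_rc_15_1 lc_d_rc_8_3 lc_d_rc_15_1 lc_d_rc_17_2 lc_d_rc_15_1 lc_d_Cert_tree lc_d_Cert_tree lc_d_rc_15_1 lc_d_rc_15_1 lc_d_rc_17_2 lc_d_rc_15_1 lc_d_rc_8_3 lc_d_rc_16_2 lc_d_rc_23_8 lc_d_rc_24_0 lc_d_rc_22_6)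 (@D3.rec (fun _ => (Cert rels S Gen.d)) lc_d_rc_15_1 lc_d_rc_15_1 lc_d_rc_8_1 lc_d_rc_22_2 lc_d_rc_15_1 lc_d_rc_27_2 lc_d_rc_16_4 lc_d_rc_8_1 lc_d_rc_15_1 lc_d_rc_15_1 lc_d_rc_3_3 lc_d_rc_24_0 lc_d_rc_8_3 lc_d_rc_23_8 lc_d_rc_15_1 lc_d_rc_15_1 lc_d_rc_24_0 lc_d_rc_23_8 lc_d_rc_3_3 lc_d_rc_24_0 lc_d_rc_3_3 lc_d_rc_25_18 lc_d_Cert_tree lc_d_rc_17_2 lc_d_rc_27_10 lc_d_rc_15_1 lc_d_rc_15_1 lc_d_rc_22_8 lc_d_rc_16_4 lc_d_rc_23_4 lc_d_rc_24_5 lc_d_rc_17_2 lc_d_rc_15_1 lc_d_Cert_tree lc_d_rc_15_1 lc_d_Cert_tree lc_d_rc_17_0 lc_d_rc_22_2 lc_d_rc_23_8 lc_d_rc_23_2 lc_d_rc_16_4 lc_d_rc_17_0 lc_d_rc_15_1 lc_d_rc_15_1 lc_d_rc_15_1 lc_d_rc_12_15 lc_d_rc_15_1 lc_d_rc_15_1 lc_d_rc_3_1 lc_d_rc_16_4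 lc_d_rc_22_8 lc_d_rc_22_2 lc_d_rc_17_2 lc_d_rc_24_5 lc_d_rc_15_1 lc_d_rc_27_4 lc_d_rc_23_2 lc_d_rc_15_1 lc_d_rc_3_3 lc_d_Cert_tree lc_d_rc_8_3 lc_d_rc_15_1) (@D3.rec (fun _ => (Cert rels S Gen.d)) lc_d_rc_17_2 lc_d_rc_27_10 lc_d_rc_15_1 lc_d_rc_17_2 lc_d_rc_16_4 lc_d_rc_27_4 lc_d_rc_8_1 lc_d_rc_15_1 lc_d_rc_27_8 lc_d_rc_8_1 lc_d_rc_15_1 lc_d_rc_12_15 lc_d_rc_8_3 lc_d_rc_15_1 lc_d_rc_17_0 lc_d_rc_27_4 lc_d_rc_16_4 lc_d_rc_8_3 lc_d_rc_15_1 lc_d_rc_15_1 lc_d_rc_15_1 lc_d_rc_16_2 lc_d_rc_27_2 lc_d_rc_22_6 lc_d_rc_25_6 lc_d_rc_8_3 lc_d_rc_17_2 lc_d_rc_3_3 lc_d_rc_8_3 lc_d_rc_15_1 lc_d_rc_22_6 lc_d_rc_8_3 lc_d_rc_27_8 lc_d_rc_25_18 lc_d_rc_8_3 lc_d_rc_16_4 lc_d_rc_16_4 lc_d_rc_17_0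 lc_d_rc_15_1 lc_d_rc_27_8 lc_d_rc_27_10 lc_d_rc_8_3 lc_d_rc_27_2 lc_d_rc_27_10 lc_d_rc_23_6 lc_d_rc_17_2 lc_d_rc_15_1 lc_d_rc_15_1 lc_d_rc_8_3 lc_d_rc_16_4 lc_d_rc_8_3 lc_d_rc_8_3 lc_d_rc_3_3 lc_d_rc_16_0 lc_d_rc_17_2 lc_d_rc_15_1 lc_d_rc_24_5 lc_d_rc_27_8 lc_d_rc_24_5 lc_d_rc_27_4 lc_d_rc_24_0 lc_d_rc_8_3) (@D3.rec (fun _ => (Cert rels S Gen.d)) lc_d_rc_27_4 lc_d_rc_16_4 lc_d_rc_16_4 lc_d_rc_8_3 lc_d_rc_17_2 lc_d_Cert_tree lc_d_rc_15_1 lc_d_Cert_tree lc_d_rc_15_1 lc_d_rc_27_4 lc_d_Cert_tree lc_d_rc_8_3 lc_d_rc_16_2 lc_d_rc_22_2 lc_d_rc_16_0 lc_d_rc_22_2 lc_d_rc_27_10 lc_d_rc_27_4 lc_d_rc_27_2 lc_d_rc_16_4 lc_d_rc_17_0 lc_d_rc_15_1 lc_d_rc_15_1 lc_d_rc_17_0 lc_d_rc_17_2 lc_d_rc_24_5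 lc_d_rc_15_1 lc_d_rc_15_1 lc_d_rc_15_1 lc_d_rc_15_1 lc_d_rc_8_3 lc_d_rc_15_1 lc_d_rc_3_3 lc_d_rc_23_6 lc_d_rc_16_0 lc_d_rc_16_2 lc_d_rc_8_3 lc_d_rc_16_4 lc_d_rc_23_2 lc_d_rc_22_2 lc_d_rc_27_10 lc_d_rc_15_1 lc_d_rc_23_2 lc_d_rc_16_4 lc_d_rc_17_0 lc_d_rc_16_4 lc_d_rc_12_1 lc_d_rc_12_1 lc_d_rc_15_1 lc_d_rc_15_1 lc_d_rc_15_1 lc_d_Cert_tree lc_d_rc_27_10 lc_d_rc_15_1 lc_d_rc_17_2 lc_d_rc_15_1 lc_d_rc_15_1 lc_d_rc_27_2 lc_d_rc_15_1 lc_d_Cert_tree lc_d_rc_27_2 lc_d_rc_8_3) (@D3.rec (fun _ => (Cert rels S Gen.d)) lc_d_rc_23_4 lc_d_rc_24_0 lc_d_rc_3_3 lc_d_rc_3_1 lc_d_rc_27_4 lc_d_rc_15_1 lc_d_rc_3_3 lc_d_rc_15_1 lc_d_Cert_tree lc_d_rc_16_4 lc_d_rc_8_3 lc_d_rc_17_2 lc_d_Cert_tree lc_d_rc_15_1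 lc_d_rc_17_2 lc_d_rc_15_1 lc_d_rc_17_0 lc_d_rc_8_3 lc_d_rc_16_2 lc_d_rc_8_3 lc_d_rc_27_8 lc_d_rc_27_4 lc_d_rc_16_4 lc_d_rc_15_1 lc_d_rc_15_1 lc_d_rc_8_3 lc_d_Cert_tree lc_d_rc_27_10 lc_d_rc_15_1 lc_d_rc_17_2 lc_d_rc_24_0 lc_d_rc_15_1 lc_d_Cert_tree lc_d_rc_8_3 lc_d_Cert_tree lc_d_rc_15_1 lc_d_rc_23_4 lc_d_rc_15_1 lc_d_rc_8_3 lc_d_rc_16_4 lc_d_rc_8_3 lc_d_rc_22_8 lc_d_rc_15_1 lc_d_rc_15_1 lc_d_rc_17_2 lc_d_rc_15_1 lc_d_rc_15_1 lc_d_rc_24_0 lc_d_rc_8_1 lc_d_rc_8_3 lc_d_rc_16_4 lc_d_Cert_tree lc_d_rc_15_1 lc_d_rc_17_2 lc_d_rc_16_2 lc_d_rc_27_2 lc_d_rc_15_1 lc_d_rc_27_4 lc_d_Cert_tree lc_d_rc_16_2 lc_d_rc_17_2 lc_d_rc_15_1) (@D3.rec (fun _ => (Cert rels S Gen.d)) lc_d_rc_17_2 lc_d_rc_24_0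 lc_d_rc_15_1 lc_d_rc_8_3 lc_d_rc_15_1 lc_d_rc_3_3 lc_d_rc_16_4 lc_d_rc_25_14 lc_d_rc_15_1 lc_d_rc_15_1 lc_d_rc_15_1 lc_d_rc_15_1 lc_d_Cert_tree lc_d_rc_16_2 lc_d_rc_22_2 lc_d_rc_16_4 lc_d_rc_24_5 lc_d_rc_23_6 lc_d_rc_27_2 lc_d_rc_16_2 lc_d_rc_23_2 lc_d_rc_15_1 lc_d_Cert_tree lc_d_rc_23_4 lc_d_Cert_tree lc_d_rc_17_2 lc_d_rc_15_1 lc_d_rc_15_1 lc_d_rc_16_4 lc_d_Cert_tree lc_d_rc_15_1 lc_d_Cert_tree lc_d_rc_16_2 lc_d_Cert_tree lc_d_rc_15_1 lc_d_rc_15_1 lc_d_rc_27_2 lc_d_rc_15_1 lc_d_rc_8_3 lc_d_rc_12_3 lc_d_rc_15_1 lc_d_rc_27_4 lc_d_Cert_tree lc_d_Cert_tree lc_d_rc_15_1 lc_d_rc_3_1 lc_d_Cert_tree lc_d_Cert_tree lc_d_rc_16_4 lc_d_rc_15_1 lc_d_rc_17_2 lc_d_Cert_tree lc_d_rc_16_4 lc_d_rc_16_4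 lc_d_rc_27_4 lc_d_rc_15_1 lc_d_rc_15_1 lc_d_rc_3_3 lc_d_rc_15_1 lc_d_rc_24_0 lc_d_rc_24_0 lc_d_rc_16_2) (@D3.rec (fun _ => (Cert rels S Gen.d)) lc_d_Cert_tree lc_d_rc_25_14 lc_d_rc_3_3 lc_d_Cert_tree lc_d_rc_8_3 lc_d_rc_22_6 lc_d_rc_15_1 lc_d_rc_17_2 lc_d_rc_8_3 lc_d_rc_12_1 lc_d_rc_27_4 lc_d_rc_8_3 lc_d_rc_16_4 lc_d_Cert_tree lc_d_rc_17_2 lc_d_Cert_tree lc_d_rc_16_4 lc_d_rc_8_3 lc_d_rc_22_6 lc_d_rc_23_6 lc_d_rc_27_10 lc_d_rc_8_3 lc_d_rc_15_1 lc_d_rc_17_0 lc_d_Cert_tree lc_d_Cert_tree lc_d_rc_3_3 lc_d_rc_8_3 lc_d_rc_16_2 lc_d_Cert_tree lc_d_rc_24_0 lc_d_rc_15_1 lc_d_rc_8_1 lc_d_rc_15_1 lc_d_rc_16_4 lc_d_rc_24_0 lc_d_rc_17_0 lc_d_rc_15_1 lc_d_rc_15_1 lc_d_rc_22_2 lc_d_Cert_tree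 lc_d_rc_15_1 lc_d_rc_17_2 lc_d_rc_15_1 lc_d_rc_15_1 lc_d_rc_15_1 lc_d_rc_15_1 lc_d_rc_15_1 lc_d_rc_27_8 lc_d_rc_24_0 lc_d_Cert_tree lc_d_rc_8_1 lc_d_Cert_tree lc_d_Cert_tree lc_d_rc_16_2 lc_d_Cert_tree lc_d_rc_3_1 lc_d_Cert_tree lc_d_Cert_tree lc_d_Cert_tree lc_d_rc_15_1 lc_d_rc_23_2) (@D3.rec (fun _ => (Cert rels S Gen.d)) lc_d_rc_16_2 lc_d_rc_27_10 lc_d_rc_17_2 lc_d_rc_15_1 lc_d_Cert_tree lc_d_rc_16_4 lc_d_rc_3_3 lc_d_rc_17_2 lc_d_rc_15_1 lc_d_Cert_tree lc_d_rc_15_1 lc_d_rc_15_1 lc_d_rc_8_3 lc_d_rc_23_6 lc_d_rc_15_1 lc_d_rc_15_1 lc_d_rc_23_8 lc_d_rc_15_1 lc_d_rc_27_4 lc_d_rc_8_3 lc_d_rc_16_0 lc_d_rc_24_0 lc_d_Cert_tree lc_d_Cert_tree lc_d_rc_22_6 lc_d_rc_15_1 lc_d_rc_27_2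 lc_d_rc_15_1 lc_d_rc_3_1 lc_d_rc_8_3 lc_d_rc_27_4 lc_d_rc_8_3 lc_d_Cert_tree lc_d_rc_16_4 lc_d_rc_15_1 lc_d_rc_17_2 lc_d_Cert_tree lc_d_rc_23_6 lc_d_rc_8_3 lc_d_rc_8_3 lc_d_rc_27_8 lc_d_rc_23_4 lc_d_rc_17_2 lc_d_rc_3_3 lc_d_rc_8_3 lc_d_rc_22_4 lc_d_rc_23_4 lc_d_Cert_tree lc_d_rc_15_1 lc_d_rc_17_2 lc_d_rc_24_5 lc_d_rc_27_4 lc_d_rc_16_4 lc_d_rc_23_8 lc_d_rc_15_1 lc_d_rc_15_1 lc_d_rc_15_1 lc_d_rc_16_4 lc_d_rc_15_1 lc_d_rc_3_1 lc_d_rc_8_3 lc_d_Cert_tree) (@D3.rec (fun _ => (Cert rels S Gen.d)) lc_d_rc_17_2 lc_d_Cert_tree lc_d_rc_12_15 lc_d_rc_15_1 lc_d_rc_15_1 lc_d_rc_17_2 lc_d_Cert_tree lc_d_rc_16_2 lc_d_rc_8_3 lc_d_rc_15_1 lc_d_rc_15_1 lc_d_rc_22_4 lc_d_rc_17_2 lc_d_rc_8_3 lc_d_rc_23_6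 lc_d_rc_3_1 lc_d_rc_16_4 lc_d_rc_3_3 lc_d_rc_16_4 lc_d_rc_12_13 lc_d_rc_16_2 lc_d_rc_23_2 lc_d_rc_16_4 lc_d_rc_23_2 lc_d_rc_17_2 lc_d_Cert_tree lc_d_rc_15_1 lc_d_rc_22_6 lc_d_rc_27_4 lc_d_rc_15_1 lc_d_rc_15_1 lc_d_rc_17_2 lc_d_Cert_tree lc_d_rc_15_1 lc_d_rc_16_4 lc_d_rc_23_8 lc_d_rc_23_4 lc_d_rc_15_1 lc_d_rc_17_2 lc_d_rc_8_3 lc_d_Cert_tree lc_d_rc_15_1 lc_d_rc_27_4 lc_d_rc_23_6 lc_d_rc_15_1 lc_d_rc_17_2 lc_d_rc_15_1 lc_d_rc_15_1 lc_d_Cert_tree lc_d_rc_27_10 lc_d_rc_15_1 lc_d_rc_16_2 lc_d_rc_22_4 lc_d_rc_15_1 lc_d_rc_27_4 lc_d_rc_15_1 lc_d_rc_25_2 lc_d_rc_3_3 lc_d_rc_15_1 lc_d_rc_16_0 lc_d_rc_16_4 lc_d_Cert_tree) (@D3.rec (fun _ => (Cert rels S Gen.d)) lc_d_rc_16_2 lc_d_rc_8_1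 lc_d_rc_8_3 lc_d_rc_8_1 lc_d_Cert_tree lc_d_rc_27_2 lc_d_Cert_tree lc_d_rc_15_1 lc_d_Cert_tree lc_d_Cert_tree lc_d_rc_27_4 lc_d_rc_15_1 lc_d_rc_12_13 lc_d_rc_27_10 lc_d_rc_15_1 lc_d_rc_15_1 lc_d_rc_16_2 lc_d_Cert_tree lc_d_Cert_tree lc_d_rc_23_2 lc_d_rc_8_1 lc_d_rc_16_4 lc_d_rc_17_2 lc_d_rc_17_2 lc_d_rc_16_4 lc_d_rc_22_4 lc_d_rc_8_3 lc_d_rc_25_2 lc_d_rc_8_3 lc_d_rc_27_4 lc_d_rc_15_1 lc_d_Cert_tree lc_d_rc_27_2 lc_d_rc_16_4 lc_d_rc_23_2 lc_d_rc_15_1 lc_d_rc_17_2 lc_d_rc_8_1 lc_d_rc_8_3 lc_d_rc_15_1 lc_d_rc_16_4 lc_d_rc_15_1 lc_d_Cert_tree lc_d_rc_27_10 lc_d_rc_15_1 lc_d_rc_27_8 lc_d_rc_17_2 lc_d_rc_8_3 lc_d_rc_15_1 lc_d_rc_15_1 lc_d_rc_17_2 lc_d_rc_24_0 lc_d_rc_15_1 lc_d_rc_17_2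 lc_d_rc_3_3 lc_d_rc_15_1 lc_d_Cert_tree lc_d_Cert_tree lc_d_rc_22_2 lc_d_rc_22_6 lc_d_rc_15_1 lc_d_rc_22_4) (@D3.rec (fun _ => (Cert rels S Gen.d)) lc_d_rc_24_0 lc_d_rc_27_4 lc_d_rc_16_0 lc_d_rc_24_0 lc_d_Cert_tree lc_d_rc_15_1 lc_d_rc_27_4 lc_d_rc_15_1 lc_d_rc_17_2 lc_d_Cert_tree lc_d_rc_15_1 lc_d_Cert_tree lc_d_rc_16_2 lc_d_rc_25_6 lc_d_rc_16_4 lc_d_rc_22_2 lc_d_rc_15_1 lc_d_rc_8_3 lc_d_rc_23_4 lc_d_rc_15_1 lc_d_rc_22_6 lc_d_rc_8_1 lc_d_rc_24_5 lc_d_rc_15_1 lc_d_rc_23_4 lc_d_rc_15_1 lc_d_rc_27_2 lc_d_rc_22_4 lc_d_rc_15_1 lc_d_rc_22_6 lc_d_rc_17_0 lc_d_rc_27_10 lc_d_rc_27_10 lc_d_rc_15_1 lc_d_rc_24_0 lc_d_rc_23_2 lc_d_Cert_tree lc_d_rc_23_4 lc_d_rc_15_1 lc_d_rc_3_3 lc_d_rc_25_6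 lc_d_rc_15_1 lc_d_rc_27_2 lc_d_rc_15_1 lc_d_rc_3_3 lc_d_rc_3_3 lc_d_rc_24_5 lc_d_rc_3_3 lc_d_rc_15_1 lc_d_rc_3_3 lc_d_rc_3_3 lc_d_rc_3_1 lc_d_rc_24_5 lc_d_rc_8_3 lc_d_rc_17_2 lc_d_rc_8_1 lc_d_rc_15_1 lc_d_rc_24_0 lc_d_rc_3_3 lc_d_rc_16_4 lc_d_rc_8_3 lc_d_rc_24_5) (@D3.rec (fun _ => (Cert rels S Gen.d)) lc_d_rc_8_3 lc_d_Cert_tree lc_d_rc_15_1 lc_d_rc_22_8 lc_d_rc_15_1 lc_d_Cert_tree lc_d_rc_27_4 lc_d_rc_15_1 lc_d_Cert_tree lc_d_rc_8_3 lc_d_rc_15_1 lc_d_rc_27_8 lc_d_rc_15_1 lc_d_rc_27_8 lc_d_rc_17_2 lc_d_rc_15_1 lc_d_rc_15_1 lc_d_rc_15_1 lc_d_rc_24_0 lc_d_Cert_tree lc_d_rc_16_2 lc_d_rc_8_3 lc_d_rc_27_10 lc_d_rc_17_2 lc_d_rc_15_1 lc_d_rc_8_1 lc_d_rc_27_4 lc_d_Cert_tree lc_d_Cert_tree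 lc_d_rc_17_2 lc_d_rc_3_3 lc_d_rc_15_1 lc_d_rc_8_3 lc_d_rc_17_0 lc_d_Cert_tree lc_d_rc_16_2 lc_d_rc_15_1 lc_d_rc_22_4 lc_d_rc_15_1 lc_d_rc_23_2 lc_d_Cert_tree lc_d_Cert_tree lc_d_Cert_tree lc_d_rc_15_1 lc_d_rc_22_4 lc_d_rc_27_10 lc_d_rc_15_1 lc_d_rc_15_1 lc_d_rc_15_1 lc_d_rc_12_3 lc_d_rc_27_2 lc_d_rc_23_2 lc_d_rc_24_0 lc_d_rc_3_1 lc_d_rc_16_2 lc_d_rc_3_3 lc_d_rc_23_6 lc_d_rc_17_2 lc_d_rc_3_3 lc_d_rc_27_8 lc_d_Cert_tree lc_d_rc_15_1) (@D3.rec (fun _ => (Cert rels S Gen.d)) lc_d_rc_17_2 lc_d_rc_8_1 lc_d_rc_16_4 lc_d_rc_15_1 lc_d_rc_8_1 lc_d_Cert_tree lc_d_rc_15_1 lc_d_Cert_tree lc_d_rc_24_0 lc_d_rc_27_10 lc_d_Cert_tree lc_d_rc_17_2 lc_d_rc_8_3 lc_d_rc_27_10 lc_d_rc_22_6 lc_d_rc_8_3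 lc_d_rc_15_1 lc_d_rc_22_4 lc_d_Cert_tree lc_d_Cert_tree lc_d_rc_17_2 lc_d_rc_15_1 lc_d_rc_15_1 lc_d_rc_15_1 lc_d_rc_15_1 lc_d_Cert_tree lc_d_rc_16_2 lc_d_rc_24_0 lc_d_rc_16_4 lc_d_Cert_tree lc_d_rc_15_1 lc_d_rc_17_2 lc_d_rc_15_1 lc_d_rc_27_2 lc_d_rc_15_1 lc_d_rc_16_4 lc_d_Cert_tree lc_d_rc_17_2 lc_d_Cert_tree lc_d_rc_3_3 lc_d_Cert_tree lc_d_rc_27_8 lc_d_Cert_tree lc_d_Cert_tree lc_d_Cert_tree lc_d_rc_17_0 lc_d_rc_15_1 lc_d_rc_23_6 lc_d_rc_15_1 lc_d_rc_15_1 lc_d_rc_15_1 lc_d_rc_17_2 lc_d_Cert_tree lc_d_rc_27_4 lc_d_Cert_tree lc_d_rc_15_1 lc_d_rc_15_1 lc_d_rc_3_3 lc_d_rc_17_2 lc_d_rc_8_3 lc_d_Cert_tree lc_d_rc_23_6) (@D3.rec (fun _ => (Cert rels S Gen.d)) lc_d_rc_16_0 lc_d_rc_15_1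 lc_d_rc_17_2 lc_d_rc_24_0 lc_d_rc_3_1 lc_d_Cert_tree lc_d_rc_15_1 lc_d_rc_17_2 lc_d_rc_15_1 lc_d_rc_15_1 lc_d_rc_15_1 lc_d_rc_15_1 lc_d_rc_22_2 lc_d_rc_23_6 lc_d_rc_16_0 lc_d_rc_23_4 lc_d_Cert_tree lc_d_rc_16_4 lc_d_Cert_tree lc_d_rc_15_1 lc_d_rc_17_2 lc_d_rc_17_2 lc_d_rc_3_3 lc_d_rc_23_4 lc_d_rc_17_0 lc_d_rc_16_2 lc_d_rc_27_4 lc_d_rc_24_5 lc_d_rc_15_1 lc_d_rc_27_4 lc_d_rc_8_1 lc_d_rc_17_2 lc_d_rc_15_1 lc_d_rc_27_8 lc_d_rc_27_4 lc_d_Cert_tree lc_d_rc_8_3 lc_d_rc_15_1 lc_d_rc_15_1 lc_d_rc_27_8 lc_d_rc_16_4 lc_d_rc_16_0 lc_d_rc_16_2 lc_d_rc_15_1 lc_d_rc_8_3 lc_d_rc_22_2 lc_d_rc_16_4 lc_d_Cert_tree lc_d_rc_17_2 lc_d_rc_15_1 lc_d_rc_15_1 lc_d_rc_17_2 lc_d_rc_15_1 lc_d_rc_27_4 lc_d_rc_23_4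 lc_d_rc_15_1 lc_d_Cert_tree lc_d_rc_27_2 lc_d_rc_8_3 lc_d_rc_24_0 lc_d_rc_15_1 lc_d_rc_24_0) (@D3.rec (fun _ => (Cert rels S Gen.d)) lc_d_rc_23_2 lc_d_rc_23_2 lc_d_Cert_tree lc_d_Cert_tree lc_d_rc_15_1 lc_d_Cert_tree lc_d_Cert_tree lc_d_rc_15_1 lc_d_Cert_tree lc_d_rc_15_1 lc_d_rc_24_0 lc_d_rc_15_1 lc_d_rc_15_1 lc_d_Cert_tree lc_d_rc_17_2 lc_d_rc_8_3 lc_d_rc_16_4 lc_d_rc_15_1 lc_d_Cert_tree lc_d_rc_15_1 lc_d_Cert_tree lc_d_rc_23_8 lc_d_rc_15_1 lc_d_rc_15_1 lc_d_rc_16_0 lc_d_Cert_tree lc_d_rc_15_1 lc_d_rc_15_1 lc_d_rc_16_4 lc_d_rc_8_1 lc_d_rc_16_2 lc_d_rc_24_5 lc_d_rc_3_3 lc_d_rc_16_4 lc_d_rc_22_8 lc_d_rc_22_4 lc_d_rc_15_1 lc_d_rc_23_6 lc_d_rc_15_1 lc_d_rc_15_1 lc_d_rc_17_2 lc_d_rc_22_4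 lc_d_rc_15_1 lc_d_rc_15_1 lc_d_rc_15_1 lc_d_rc_22_2 lc_d_rc_15_1 lc_d_rc_15_1 lc_d_rc_22_6 lc_d_rc_17_2 lc_d_rc_16_0 lc_d_Cert_tree lc_d_rc_17_2 lc_d_rc_22_8 lc_d_rc_15_1 lc_d_rc_16_2 lc_d_rc_8_3 lc_d_rc_16_4 lc_d_rc_17_2 lc_d_rc_23_8 lc_d_rc_24_5 lc_d_rc_23_2) (@D3.rec (fun _ => (Cert rels S Gen.d)) lc_d_rc_23_6 lc_d_rc_16_2 lc_d_rc_3_3 lc_d_Cert_tree lc_d_rc_23_8 lc_d_rc_15_1 lc_d_rc_27_4 lc_d_rc_8_3 lc_d_rc_8_3 lc_d_rc_16_2 lc_d_rc_8_3 lc_d_rc_27_4 lc_d_rc_3_3 lc_d_rc_16_4 lc_d_Cert_tree lc_d_rc_15_1 lc_d_rc_17_2 lc_d_rc_8_3 lc_d_rc_3_3 lc_d_rc_23_2 lc_d_rc_15_1 lc_d_Cert_tree lc_d_rc_15_1 lc_d_rc_27_8 lc_d_Cert_tree lc_d_rc_15_1 lc_d_Cert_tree lc_d_rc_17_2 lc_d_rc_8_3 lc_d_rc_15_1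 lc_d_rc_24_0 lc_d_Cert_tree lc_d_rc_16_4 lc_d_rc_15_1 lc_d_rc_15_1 lc_d_rc_22_8 lc_d_rc_16_4 lc_d_Cert_tree lc_d_rc_24_0 lc_d_rc_25_10 lc_d_rc_22_2 lc_d_rc_8_3 lc_d_rc_8_3 lc_d_rc_27_8 lc_d_rc_23_2 lc_d_rc_3_3 lc_d_rc_22_8 lc_d_rc_15_1 lc_d_rc_17_2 lc_d_rc_12_13 lc_d_rc_8_1 lc_d_rc_22_6 lc_d_rc_15_1 lc_d_rc_27_4 lc_d_rc_15_1 lc_d_rc_27_4 lc_d_rc_16_2 lc_d_rc_15_1 lc_d_rc_23_2 lc_d_rc_8_3 lc_d_rc_25_14 lc_d_rc_27_4)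
def ce_d_23 : D2 → D3 → (Cert rels S Gen.d) := @D2.rec (fun _ => D3 → (Cert rels S Gen.d)) (@D3.rec (fun _ => (Cert rels S Gen.d)) lc_d_rc_8_3 lc_d_rc_24_5 lc_d_Cert_tree lc_d_rc_17_2 lc_d_rc_24_5 lc_d_Cert_tree lc_d_rc_3_1 lc_d_rc_15_1 lc_d_rc_8_1 lc_d_rc_24_0 lc_d_rc_15_1 lc_d_rc_27_4 lc_d_rc_23_2 lc_d_rc_16_4 lc_d_rc_15_1 lc_d_rc_8_3 lc_d_rc_17_2 lc_d_rc_8_3 lc_d_rc_3_1 lc_d_rc_8_3 lc_d_rc_15_1 lc_d_rc_8_1 lc_d_rc_24_0 lc_d_rc_15_1 lc_d_rc_24_5 lc_d_rc_15_1 lc_d_rc_16_0 lc_d_rc_24_5 lc_d_rc_27_2 lc_d_rc_15_1 lc_d_rc_17_2 lc_d_rc_24_0 lc_d_rc_17_0 lc_d_rc_15_1 lc_d_Cert_tree lc_d_rc_15_1 lc_d_rc_24_5 lc_d_Cert_tree lc_d_rc_27_10 lc_d_rc_15_1 lc_d_rc_3_1 lc_d_rc_12_15 lc_d_rc_15_1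 lc_d_rc_27_4 lc_d_rc_16_2 lc_d_rc_15_1 lc_d_Cert_tree lc_d_rc_8_3 lc_d_rc_22_6 lc_d_rc_3_3 lc_d_rc_8_3 lc_d_rc_15_1 lc_d_rc_8_3 lc_d_rc_17_2 lc_d_rc_8_3 lc_d_rc_8_3 lc_d_rc_15_1 lc_d_rc_15_1 lc_d_rc_15_1 lc_d_rc_27_4 lc_d_rc_15_1 lc_d_rc_23_8) (@D3.rec (fun _ => (Cert rels S Gen.d)) lc_d_rc_25_14 lc_d_rc_15_1 lc_d_rc_16_2 lc_d_rc_15_1 lc_d_rc_16_4 lc_d_Cert_tree lc_d_Cert_tree lc_d_rc_17_2 lc_d_rc_16_4 lc_d_rc_24_0 lc_d_rc_16_0 lc_d_Cert_tree lc_d_rc_23_4 lc_d_rc_8_1 lc_d_Cert_tree lc_d_rc_15_1 lc_d_rc_16_4 lc_d_rc_22_4 lc_d_rc_12_15 lc_d_rc_3_3 lc_d_rc_8_3 lc_d_rc_15_1 lc_d_rc_22_4 lc_d_rc_8_3 lc_d_rc_17_2 lc_d_rc_22_2 lc_d_rc_15_1 lc_d_rc_15_1 lc_d_rc_22_2 lc_d_rc_8_1 lc_d_rc_24_0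 lc_d_rc_23_4 lc_d_rc_3_3 lc_d_rc_3_1 lc_d_rc_15_1 lc_d_Cert_tree lc_d_Cert_tree lc_d_Cert_tree lc_d_rc_15_1 lc_d_rc_15_1 lc_d_Cert_tree lc_d_rc_27_4 lc_d_Cert_tree lc_d_rc_17_2 lc_d_rc_3_3 lc_d_rc_8_3 lc_d_rc_3_3 lc_d_rc_8_3 lc_d_rc_23_8 lc_d_rc_17_0 lc_d_rc_16_4 lc_d_rc_22_4 lc_d_rc_22_8 lc_d_rc_3_3 lc_d_rc_8_1 lc_d_Cert_tree lc_d_Cert_tree lc_d_rc_23_2 lc_d_rc_23_8 lc_d_Cert_tree lc_d_rc_16_4 lc_d_Cert_tree) (@D3.rec (fun _ => (Cert rels S Gen.d)) lc_d_rc_15_1 lc_d_rc_16_0 lc_d_rc_22_2 lc_d_rc_3_3 lc_d_rc_23_4 lc_d_rc_16_0 lc_d_rc_16_2 lc_d_rc_16_0 lc_d_rc_15_1 lc_d_rc_15_1 lc_d_rc_27_4 lc_d_rc_8_1 lc_d_rc_27_4 lc_d_rc_15_1 lc_d_rc_22_2 lc_d_rc_8_3 lc_d_rc_16_4 lc_d_rc_27_2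 lc_d_Cert_tree lc_d_Cert_tree lc_d_rc_22_2 lc_d_rc_23_2 lc_d_rc_15_1 lc_d_rc_16_4 lc_d_Cert_tree lc_d_rc_16_4 lc_d_Cert_tree lc_d_rc_27_8 lc_d_rc_8_1 lc_d_rc_12_15 lc_d_Cert_tree lc_d_rc_8_3 lc_d_Cert_tree lc_d_rc_16_0 lc_d_Cert_tree lc_d_rc_15_1 lc_d_Cert_tree lc_d_Cert_tree lc_d_rc_15_1 lc_d_rc_17_2 lc_d_rc_22_6 lc_d_rc_23_8 lc_d_rc_15_1 lc_d_Cert_tree lc_d_rc_15_1 lc_d_rc_8_3 lc_d_rc_15_1 lc_d_rc_12_15 lc_d_rc_15_1 lc_d_rc_24_5 lc_d_rc_8_3 lc_d_Cert_tree lc_d_Cert_tree lc_d_rc_27_4 lc_d_rc_27_8 lc_d_Cert_tree lc_d_rc_15_1 lc_d_rc_27_2 lc_d_rc_27_2 lc_d_rc_23_8 lc_d_rc_24_0 lc_d_rc_27_2) (@D3.rec (fun _ => (Cert rels S Gen.d)) lc_d_rc_27_10 lc_d_rc_3_3 lc_d_Cert_tree lc_d_Cert_tree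 lc_d_Cert_tree lc_d_rc_15_1 lc_d_rc_17_2 lc_d_Cert_tree lc_d_rc_15_1 lc_d_rc_27_4 lc_d_Cert_tree lc_d_Cert_tree lc_d_rc_15_1 lc_d_rc_27_4 lc_d_rc_8_3 lc_d_rc_15_1 lc_d_rc_15_1 lc_d_rc_15_1 lc_d_rc_27_8 lc_d_rc_27_8 lc_d_rc_15_1 lc_d_Cert_tree lc_d_rc_15_1 lc_d_rc_23_6 lc_d_rc_15_1 lc_d_rc_27_10 lc_d_rc_15_1 lc_d_rc_15_1 lc_d_rc_15_1 lc_d_rc_15_1 lc_d_rc_27_4 lc_d_rc_15_1 lc_d_rc_15_1 lc_d_Cert_tree lc_d_rc_15_1 lc_d_rc_17_2 lc_d_rc_27_4 lc_d_rc_22_2 lc_d_rc_15_1 lc_d_rc_23_8 lc_d_rc_23_8 lc_d_rc_16_0 lc_d_Cert_tree lc_d_rc_15_1 lc_d_rc_15_1 lc_d_rc_17_0 lc_d_rc_15_1 lc_d_rc_15_1 lc_d_rc_16_2 lc_d_rc_27_2 lc_d_rc_16_4 lc_d_rc_22_4 lc_d_rc_17_2 lc_d_rc_8_1 lc_d_rc_27_4 lc_d_Cert_tree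 lc_d_rc_23_2 lc_d_rc_15_1 lc_d_rc_17_2 lc_d_rc_3_3 lc_d_rc_24_5 lc_d_rc_27_2) (@D3.rec (fun _ => (Cert rels S Gen.d)) lc_d_rc_8_3 lc_d_rc_22_6 lc_d_rc_27_10 lc_d_rc_25_18 lc_d_rc_3_1 lc_d_rc_15_1 lc_d_rc_15_1 lc_d_rc_23_4 lc_d_rc_23_2 lc_d_rc_27_4 lc_d_rc_15_1 lc_d_rc_15_1 lc_d_rc_17_2 lc_d_rc_15_1 lc_d_rc_16_4 lc_d_rc_3_3 lc_d_rc_27_2 lc_d_rc_27_2 lc_d_rc_3_3 lc_d_rc_8_3 lc_d_Cert_tree lc_d_rc_8_3 lc_d_rc_17_2 lc_d_rc_24_5 lc_d_rc_24_5 lc_d_rc_15_1 lc_d_rc_16_4 lc_d_rc_23_6 lc_d_rc_22_8 lc_d_rc_15_1 lc_d_rc_12_3 lc_d_Cert_tree lc_d_Cert_tree lc_d_rc_17_2 lc_d_Cert_tree lc_d_rc_15_1 lc_d_Cert_tree lc_d_rc_15_1 lc_d_rc_27_4 lc_d_rc_15_1 lc_d_rc_8_1 lc_d_rc_15_1 lc_d_rc_15_1 lc_d_rc_17_2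 lc_d_rc_16_0 lc_d_rc_15_1 lc_d_rc_8_3 lc_d_rc_16_4 lc_d_rc_3_1 lc_d_rc_15_1 lc_d_rc_16_2 lc_d_rc_8_3 lc_d_rc_16_4 lc_d_rc_8_3 lc_d_rc_15_1 lc_d_rc_27_10 lc_d_rc_3_3 lc_d_rc_8_3 lc_d_rc_15_1 lc_d_rc_8_3 lc_d_rc_8_1 lc_d_rc_27_10) (@D3.rec (fun _ => (Cert rels S Gen.d)) lc_d_rc_17_2 lc_d_rc_15_1 lc_d_rc_23_2 lc_d_rc_17_0 lc_d_rc_3_1 lc_d_rc_3_3 lc_d_rc_8_3 lc_d_rc_24_0 lc_d_Cert_tree lc_d_rc_15_1 lc_d_rc_17_2 lc_d_rc_16_4 lc_d_rc_16_2 lc_d_Cert_tree lc_d_Cert_tree lc_d_rc_17_2 lc_d_rc_16_2 lc_d_rc_15_1 lc_d_rc_24_0 lc_d_rc_17_2 lc_d_rc_15_1 lc_d_rc_8_3 lc_d_rc_16_2 lc_d_Cert_tree lc_d_rc_8_1 lc_d_rc_16_2 lc_d_rc_15_1 lc_d_rc_15_1 lc_d_rc_16_4 lc_d_rc_8_3 lc_d_rc_27_4 lc_d_rc_15_1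 lc_d_rc_17_2 lc_d_rc_24_0 lc_d_Cert_tree lc_d_rc_17_2 lc_d_rc_16_0 lc_d_rc_8_1 lc_d_rc_27_10 lc_d_rc_25_18 lc_d_rc_27_4 lc_d_rc_16_2 lc_d_rc_24_5 lc_d_rc_24_5 lc_d_rc_8_3 lc_d_rc_8_3 lc_d_rc_15_1 lc_d_rc_15_1 lc_d_rc_17_2 lc_d_rc_15_1 lc_d_rc_15_1 lc_d_rc_16_0 lc_d_rc_8_3 lc_d_rc_22_4 lc_d_rc_27_10 lc_d_rc_15_1 lc_d_rc_8_1 lc_d_rc_8_1 lc_d_rc_15_1 lc_d_rc_16_0 lc_d_rc_15_1 lc_d_rc_8_3) (@D3.rec (fun _ => (Cert rels S Gen.d)) lc_d_rc_27_4 lc_d_rc_8_1 lc_d_rc_8_3 lc_d_rc_16_4 lc_d_rc_16_4 lc_d_rc_8_3 lc_d_rc_3_3 lc_d_rc_27_2 lc_d_rc_23_6 lc_d_rc_15_1 lc_d_rc_15_1 lc_d_rc_16_2 lc_d_rc_15_1 lc_d_Cert_tree lc_d_rc_15_1 lc_d_rc_15_1 lc_d_Cert_tree lc_d_rc_15_1 lc_d_rc_15_1 lc_d_rc_16_4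 lc_d_rc_15_1 lc_d_rc_3_1 lc_d_Cert_tree lc_d_rc_15_1 lc_d_rc_3_3 lc_d_rc_8_3 lc_d_rc_16_2 lc_d_rc_3_3 lc_d_rc_16_4 lc_d_rc_17_2 lc_d_rc_27_4 lc_d_rc_3_3 lc_d_rc_8_3 lc_d_rc_16_4 lc_d_rc_15_1 lc_d_rc_8_3 lc_d_rc_8_3 lc_d_rc_15_1 lc_d_rc_15_1 lc_d_rc_15_1 lc_d_rc_15_1 lc_d_rc_15_1 lc_d_rc_22_4 lc_d_rc_16_4 lc_d_rc_8_3 lc_d_rc_22_4 lc_d_rc_3_1 lc_d_rc_17_2 lc_d_rc_15_1 lc_d_rc_17_0 lc_d_rc_17_2 lc_d_Cert_tree lc_d_rc_3_1 lc_d_rc_23_6 lc_d_rc_15_1 lc_d_rc_16_2 lc_d_rc_27_8 lc_d_rc_8_3 lc_d_rc_22_6 lc_d_Cert_tree lc_d_rc_8_3 lc_d_rc_16_2) (@D3.rec (fun _ => (Cert rels S Gen.d)) lc_d_rc_15_1 lc_d_Cert_tree lc_d_rc_16_2 lc_d_rc_3_3 lc_d_rc_15_1 lc_d_rc_15_1 lc_d_rc_15_1 lc_d_rc_3_3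 lc_d_rc_17_2 lc_d_rc_23_4 lc_d_Cert_tree lc_d_rc_27_4 lc_d_rc_8_3 lc_d_rc_22_2 lc_d_rc_8_1 lc_d_rc_15_1 lc_d_rc_15_1 lc_d_rc_15_1 lc_d_rc_24_0 lc_d_rc_17_2 lc_d_rc_23_2 lc_d_rc_3_3 lc_d_rc_3_3 lc_d_rc_15_1 lc_d_rc_15_1 lc_d_rc_15_1 lc_d_rc_27_2 lc_d_rc_16_0 lc_d_rc_16_4 lc_d_rc_25_2 lc_d_rc_27_10 lc_d_Cert_tree lc_d_rc_15_1 lc_d_rc_8_3 lc_d_rc_16_4 lc_d_rc_23_4 lc_d_rc_23_4 lc_d_rc_16_2 lc_d_rc_16_4 lc_d_rc_8_1 lc_d_rc_15_1 lc_d_rc_16_4 lc_d_rc_17_0 lc_d_rc_15_1 lc_d_rc_16_2 lc_d_rc_27_10 lc_d_rc_15_1 lc_d_rc_15_1 lc_d_rc_17_2 lc_d_rc_23_4 lc_d_rc_25_14 lc_d_rc_15_1 lc_d_rc_16_4 lc_d_rc_27_10 lc_d_rc_24_5 lc_d_rc_23_2 lc_d_rc_15_1 lc_d_rc_27_2 lc_d_rc_15_1 lc_d_rc_15_1 lc_d_rc_17_2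 lc_d_rc_8_1) (@D3.rec (fun _ => (Cert rels S Gen.d)) lc_d_rc_15_1 lc_d_rc_16_2 lc_d_rc_27_10 lc_d_rc_15_1 lc_d_rc_16_4 lc_d_Cert_tree lc_d_rc_16_4 lc_d_rc_16_4 lc_d_rc_27_10 lc_d_rc_15_1 lc_d_rc_16_2 lc_d_rc_16_0 lc_d_rc_8_3 lc_d_rc_23_2 lc_d_rc_15_1 lc_d_rc_22_2 lc_d_rc_17_2 lc_d_rc_8_3 lc_d_rc_25_2 lc_d_rc_8_3 lc_d_rc_22_2 lc_d_rc_24_0 lc_d_rc_23_2 lc_d_rc_22_6 lc_d_rc_15_1 lc_d_rc_27_8 lc_d_rc_24_5 lc_d_rc_15_1 lc_d_Cert_tree lc_d_rc_15_1 lc_d_rc_27_2 lc_d_Cert_tree lc_d_rc_17_0 lc_d_rc_15_1 lc_d_rc_23_6 lc_d_rc_15_1 lc_d_rc_16_4 lc_d_rc_16_2 lc_d_rc_8_1 lc_d_rc_15_1 lc_d_Cert_tree lc_d_rc_27_2 lc_d_rc_8_1 lc_d_rc_15_1 lc_d_rc_22_4 lc_d_rc_22_4 lc_d_rc_17_0 lc_d_rc_15_1 lc_d_rc_23_2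 lc_d_rc_15_1 lc_d_rc_8_3 lc_d_Cert_tree lc_d_rc_27_4 lc_d_Cert_tree lc_d_rc_17_2 lc_d_rc_15_1 lc_d_rc_22_4 lc_d_rc_27_2 lc_d_rc_23_4 lc_d_rc_17_2 lc_d_rc_8_3 lc_d_Cert_tree) (@D3.rec (fun _ => (Cert rels S Gen.d)) lc_d_rc_24_5 lc_d_rc_24_0 lc_d_rc_24_5 lc_d_rc_15_1 lc_d_rc_24_5 lc_d_rc_22_8 lc_d_rc_15_1 lc_d_rc_15_1 lc_d_rc_16_2 lc_d_rc_15_1 lc_d_rc_25_6 lc_d_rc_17_2 lc_d_rc_3_1 lc_d_rc_24_5 lc_d_rc_15_1 lc_d_rc_15_1 lc_d_rc_27_10 lc_d_rc_15_1 lc_d_rc_8_1 lc_d_rc_15_1 lc_d_rc_27_8 lc_d_rc_24_5 lc_d_rc_23_4 lc_d_rc_16_0 lc_d_rc_24_0 lc_d_rc_8_3 lc_d_rc_15_1 lc_d_rc_15_1 lc_d_Cert_tree lc_d_rc_27_4 lc_d_rc_15_1 lc_d_rc_27_10 lc_d_rc_15_1 lc_d_rc_27_4 lc_d_rc_17_2 lc_d_rc_22_6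 lc_d_rc_22_2 lc_d_rc_15_1 lc_d_rc_27_2 lc_d_rc_15_1 lc_d_rc_27_8 lc_d_rc_15_1 lc_d_rc_22_6 lc_d_rc_8_3 lc_d_rc_16_0 lc_d_rc_16_4 lc_d_Cert_tree lc_d_rc_8_3 lc_d_rc_17_2 lc_d_rc_8_3 lc_d_rc_8_3 lc_d_rc_15_1 lc_d_rc_17_2 lc_d_rc_3_3 lc_d_rc_15_1 lc_d_rc_27_4 lc_d_Cert_tree lc_d_rc_15_1 lc_d_rc_15_1 lc_d_rc_15_1 lc_d_rc_15_1 lc_d_rc_15_1) (@D3.rec (fun _ => (Cert rels S Gen.d)) lc_d_rc_23_4 lc_d_rc_8_3 lc_d_Cert_tree lc_d_Cert_tree lc_d_Cert_tree lc_d_rc_16_4 lc_d_rc_17_0 lc_d_rc_16_4 lc_d_rc_27_8 lc_d_rc_27_10 lc_d_rc_17_2 lc_d_rc_23_6 lc_d_rc_16_2 lc_d_rc_8_3 lc_d_rc_8_1 lc_d_rc_15_1 lc_d_rc_27_4 lc_d_rc_17_2 lc_d_Cert_tree lc_d_rc_27_4 lc_d_rc_8_3 lc_d_rc_23_8 lc_d_rc_15_1 lc_d_rc_17_2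 lc_d_rc_12_15 lc_d_rc_15_1 lc_d_rc_3_1 lc_d_Cert_tree lc_d_rc_25_2 lc_d_rc_15_1 lc_d_rc_27_4 lc_d_rc_27_8 lc_d_rc_8_1 lc_d_rc_3_3 lc_d_Cert_tree lc_d_rc_3_3 lc_d_rc_16_2 lc_d_rc_27_4 lc_d_rc_15_1 lc_d_rc_17_2 lc_d_rc_17_0 lc_d_rc_23_2 lc_d_rc_15_1 lc_d_rc_27_4 lc_d_rc_8_1 lc_d_rc_23_8 lc_d_rc_15_1 lc_d_Cert_tree lc_d_rc_17_2 lc_d_rc_27_10 lc_d_rc_8_3 lc_d_rc_3_3 lc_d_rc_8_3 lc_d_rc_23_4 lc_d_rc_17_2 lc_d_rc_27_10 lc_d_rc_15_1 lc_d_rc_16_4 lc_d_rc_3_3 lc_d_rc_15_1 lc_d_rc_15_1 lc_d_rc_17_2) (@D3.rec (fun _ => (Cert rels S Gen.d)) lc_d_rc_24_5 lc_d_rc_15_1 lc_d_rc_15_1 lc_d_rc_15_1 lc_d_rc_3_3 lc_d_rc_27_10 lc_d_rc_15_1 lc_d_rc_16_2 lc_d_rc_22_6 lc_d_rc_17_2 lc_d_rc_24_0 lc_d_rc_23_2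 lc_d_rc_17_2 lc_d_rc_3_3 lc_d_rc_17_2 lc_d_rc_15_1 lc_d_rc_8_1 lc_d_rc_3_3 lc_d_rc_22_2 lc_d_rc_23_2 lc_d_Cert_tree lc_d_rc_15_1 lc_d_rc_17_2 lc_d_Cert_tree lc_d_Cert_tree lc_d_rc_15_1 lc_d_rc_27_4 lc_d_rc_8_3 lc_d_Cert_tree lc_d_rc_23_8 lc_d_rc_16_4 lc_d_rc_8_3 lc_d_rc_15_1 lc_d_rc_3_3 lc_d_Cert_tree lc_d_rc_15_1 lc_d_rc_15_1 lc_d_rc_16_0 lc_d_rc_15_1 lc_d_rc_22_8 lc_d_rc_8_3 lc_d_rc_8_3 lc_d_rc_16_4 lc_d_Cert_tree lc_d_rc_25_6 lc_d_rc_16_0 lc_d_rc_15_1 lc_d_rc_12_15 lc_d_rc_22_6 lc_d_rc_17_2 lc_d_rc_15_1 lc_d_rc_27_4 lc_d_rc_24_0 lc_d_Cert_tree lc_d_rc_8_3 lc_d_rc_27_4 lc_d_rc_27_4 lc_d_rc_23_6 lc_d_rc_23_2 lc_d_rc_8_3 lc_d_rc_16_4 lc_d_rc_3_3) (@D3.rec (fun _ => (Cert rels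 S Gen.d)) lc_d_rc_24_0 lc_d_Cert_tree lc_d_rc_8_3 lc_d_rc_8_3 lc_d_rc_23_2 lc_d_rc_22_2 lc_d_rc_22_2 lc_d_rc_27_10 lc_d_rc_24_0 lc_d_rc_8_1 lc_d_rc_22_6 lc_d_rc_15_1 lc_d_rc_27_8 lc_d_rc_22_4 lc_d_rc_15_1 lc_d_rc_24_5 lc_d_rc_8_3 lc_d_rc_27_4 lc_d_rc_23_4 lc_d_rc_15_1 lc_d_rc_15_1 lc_d_rc_16_0 lc_d_rc_15_1 lc_d_rc_17_0 lc_d_rc_8_3 lc_d_rc_23_4 lc_d_rc_3_3 lc_d_Cert_tree lc_d_rc_16_4 lc_d_rc_16_0 lc_d_rc_15_1 lc_d_rc_24_5 lc_d_rc_3_3 lc_d_Cert_tree lc_d_rc_16_0 lc_d_rc_8_1 lc_d_rc_3_3 lc_d_rc_15_1 lc_d_rc_22_6 lc_d_rc_15_1 lc_d_Cert_tree lc_d_rc_15_1 lc_d_rc_15_1 lc_d_rc_8_3 lc_d_rc_27_4 lc_d_rc_17_0 lc_d_rc_27_4 lc_d_rc_8_3 lc_d_Cert_tree lc_d_rc_8_3 lc_d_rc_3_1 lc_d_rc_23_6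 lc_d_Cert_tree lc_d_rc_27_2 lc_d_rc_8_3 lc_d_rc_8_1 lc_d_rc_15_1 lc_d_rc_17_2 lc_d_rc_15_1 lc_d_rc_15_1 lc_d_rc_23_4 lc_d_rc_23_2) (@D3.rec (fun _ => (Cert rels S Gen.d)) lc_d_rc_12_3 lc_d_Cert_tree lc_d_rc_8_3 lc_d_rc_24_0 lc_d_rc_15_1 lc_d_rc_15_1 lc_d_rc_27_4 lc_d_rc_15_1 lc_d_rc_3_3 lc_d_Cert_tree lc_d_rc_8_3 lc_d_rc_8_1 lc_d_rc_15_1 lc_d_Cert_tree lc_d_rc_24_5 lc_d_rc_15_1 lc_d_Cert_tree lc_d_rc_15_1 lc_d_rc_15_1 lc_d_rc_8_3 lc_d_rc_22_8 lc_d_rc_17_2 lc_d_rc_15_1 lc_d_rc_23_2 lc_d_rc_27_2 lc_d_rc_15_1 lc_d_rc_15_1 lc_d_rc_15_1 lc_d_rc_17_2 lc_d_rc_15_1 lc_d_rc_22_4 lc_d_rc_23_2 lc_d_rc_22_6 lc_d_Cert_tree lc_d_rc_15_1 lc_d_Cert_tree lc_d_rc_15_1 lc_d_Cert_tree lc_d_rc_15_1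 lc_d_rc_22_4 lc_d_rc_17_2 lc_d_rc_15_1 lc_d_rc_15_1 lc_d_rc_15_1 lc_d_rc_8_3 lc_d_rc_27_10 lc_d_rc_16_2 lc_d_rc_15_1 lc_d_rc_27_4 lc_d_rc_15_1 lc_d_rc_15_1 lc_d_rc_15_1 lc_d_rc_8_3 lc_d_rc_8_3 lc_d_rc_27_4 lc_d_rc_8_3 lc_d_rc_8_3 lc_d_rc_16_0 lc_d_rc_16_0 lc_d_rc_15_1 lc_d_rc_23_2 lc_d_rc_15_1) (@D3.rec (fun _ => (Cert rels S Gen.d)) lc_d_rc_15_1 lc_d_rc_12_3 lc_d_rc_17_2 lc_d_rc_15_1 lc_d_rc_8_3 lc_d_rc_8_3 lc_d_rc_8_3 lc_d_rc_16_2 lc_d_rc_22_2 lc_d_rc_15_1 lc_d_rc_17_2 lc_d_rc_27_4 lc_d_rc_15_1 lc_d_rc_22_2 lc_d_Cert_tree lc_d_rc_15_1 lc_d_rc_8_3 lc_d_rc_8_3 lc_d_rc_22_6 lc_d_rc_17_2 lc_d_rc_15_1 lc_d_rc_3_3 lc_d_rc_16_4 lc_d_rc_27_10 lc_d_rc_16_2 lc_d_rc_8_3 lc_d_rc_8_3 lc_d_rc_22_6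 lc_d_Cert_tree lc_d_rc_15_1 lc_d_rc_17_2 lc_d_rc_15_1 lc_d_rc_24_5 lc_d_rc_15_1 lc_d_Cert_tree lc_d_rc_16_2 lc_d_rc_15_1 lc_d_rc_15_1 lc_d_rc_24_0 lc_d_rc_15_1 lc_d_rc_15_1 lc_d_rc_17_0 lc_d_rc_15_1 lc_d_rc_15_1 lc_d_rc_24_5 lc_d_rc_15_1 lc_d_rc_15_1 lc_d_rc_27_4 lc_d_rc_15_1 lc_d_rc_27_8 lc_d_rc_12_9 lc_d_rc_16_2 lc_d_rc_15_1 lc_d_rc_27_4 lc_d_rc_24_0 lc_d_rc_22_4 lc_d_Cert_tree lc_d_rc_12_1 lc_d_rc_22_8 lc_d_rc_8_1 lc_d_Cert_tree lc_d_rc_16_4) (@D3.rec (fun _ => (Cert rels S Gen.d)) lc_d_rc_23_2 lc_d_Cert_tree lc_d_Cert_tree lc_d_rc_8_1 lc_d_rc_15_1 lc_d_rc_3_3 lc_d_rc_27_10 lc_d_rc_15_1 lc_d_rc_17_2 lc_d_rc_25_18 lc_d_rc_15_1 lc_d_Cert_tree lc_d_rc_23_2 lc_d_rc_8_1 lc_d_rc_15_1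 lc_d_Cert_tree lc_d_rc_16_4 lc_d_rc_15_1 lc_d_Cert_tree lc_d_rc_15_1 lc_d_rc_27_4 lc_d_rc_17_2 lc_d_Cert_tree lc_d_rc_15_1 lc_d_rc_3_3 lc_d_rc_23_4 lc_d_rc_15_1 lc_d_rc_24_5 lc_d_rc_25_14 lc_d_rc_22_2 lc_d_rc_24_5 lc_d_rc_23_4 lc_d_rc_23_6 lc_d_rc_15_1 lc_d_rc_22_4 lc_d_rc_16_4 lc_d_rc_17_2 lc_d_Cert_tree lc_d_rc_15_1 lc_d_rc_3_1 lc_d_rc_23_2 lc_d_rc_17_2 lc_d_rc_23_2 lc_d_rc_24_5 lc_d_rc_3_3 lc_d_rc_15_1 lc_d_rc_17_2 lc_d_rc_15_1 lc_d_rc_27_2 lc_d_rc_27_10 lc_d_rc_15_1 lc_d_rc_27_4 lc_d_rc_17_2 lc_d_rc_27_8 lc_d_Cert_tree lc_d_rc_16_4 lc_d_rc_8_1 lc_d_rc_27_4 lc_d_rc_23_6 lc_d_rc_25_6 lc_d_rc_17_2 lc_d_rc_8_3) (@D3.rec (fun _ => (Cert rels S Gen.d)) lc_d_Cert_tree lc_d_rc_8_3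 lc_d_rc_24_5 lc_d_rc_25_6 lc_d_rc_23_4 lc_d_rc_15_1 lc_d_rc_16_2 lc_d_rc_27_10 lc_d_rc_15_1 lc_d_rc_22_2 lc_d_rc_8_1 lc_d_rc_24_5 lc_d_rc_15_1 lc_d_rc_25_18 lc_d_rc_15_1 lc_d_rc_27_2 lc_d_rc_15_1 lc_d_rc_8_3 lc_d_rc_27_2 lc_d_rc_27_2 lc_d_rc_8_3 lc_d_rc_16_4 lc_d_rc_8_3 lc_d_Cert_tree lc_d_rc_15_1 lc_d_rc_23_2 lc_d_Cert_tree lc_d_rc_8_3 lc_d_rc_15_1 lc_d_rc_22_6 lc_d_rc_22_2 lc_d_rc_15_1 lc_d_rc_27_4 lc_d_rc_8_3 lc_d_rc_22_6 lc_d_rc_15_1 lc_d_rc_15_1 lc_d_rc_8_3 lc_d_rc_27_4 lc_d_rc_25_18 lc_d_rc_22_4 lc_d_rc_15_1 lc_d_rc_8_3 lc_d_rc_8_1 lc_d_rc_24_0 lc_d_rc_15_1 lc_d_Cert_tree lc_d_rc_15_1 lc_d_rc_27_2 lc_d_rc_15_1 lc_d_rc_17_2 lc_d_rc_23_2 lc_d_rc_8_3 lc_d_rc_22_4 lc_d_rc_15_1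 lc_d_rc_15_1 lc_d_rc_8_1 lc_d_rc_22_4 lc_d_rc_3_3 lc_d_rc_12_15 lc_d_rc_23_2 lc_d_rc_15_1) (@D3.rec (fun _ => (Cert rels S Gen.d)) lc_d_rc_8_3 lc_d_rc_24_5 lc_d_Cert_tree lc_d_rc_8_1 lc_d_Cert_tree lc_d_rc_24_0 lc_d_rc_23_8 lc_d_rc_3_3 lc_d_rc_15_1 lc_d_Cert_tree lc_d_rc_15_1 lc_d_rc_22_2 lc_d_rc_8_1 lc_d_rc_15_1 lc_d_rc_8_3 lc_d_rc_3_3 lc_d_rc_17_2 lc_d_rc_25_18 lc_d_rc_24_5 lc_d_rc_15_1 lc_d_rc_27_4 lc_d_rc_3_1 lc_d_rc_24_0 lc_d_rc_24_5 lc_d_rc_15_1 lc_d_rc_15_1 lc_d_rc_15_1 lc_d_rc_23_8 lc_d_rc_15_1 lc_d_rc_16_0 lc_d_rc_16_2 lc_d_Cert_tree lc_d_rc_16_4 lc_d_rc_17_2 lc_d_Cert_tree lc_d_Cert_tree lc_d_rc_15_1 lc_d_rc_16_2 lc_d_rc_16_2 lc_d_rc_15_1 lc_d_rc_27_4 lc_d_rc_15_1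 lc_d_rc_8_3 lc_d_rc_15_1 lc_d_rc_15_1 lc_d_rc_15_1 lc_d_rc_15_1 lc_d_rc_23_8 lc_d_rc_17_2 lc_d_rc_8_3 lc_d_rc_27_4 lc_d_rc_15_1 lc_d_rc_15_1 lc_d_rc_8_3 lc_d_rc_17_0 lc_d_rc_22_4 lc_d_rc_27_8 lc_d_rc_3_3 lc_d_rc_22_8 lc_d_rc_23_2 lc_d_rc_27_2 lc_d_rc_15_1) (@D3.rec (fun _ => (Cert rels S Gen.d)) lc_d_rc_15_1 lc_d_Cert_tree lc_d_rc_27_10 lc_d_rc_15_1 lc_d_rc_15_1 lc_d_rc_17_2 lc_d_rc_15_1 lc_d_rc_17_0 lc_d_rc_16_4 lc_d_rc_8_3 lc_d_rc_15_1 lc_d_rc_25_18 lc_d_rc_15_1 lc_d_rc_17_2 lc_d_rc_8_3 lc_d_Cert_tree lc_d_rc_15_1 lc_d_rc_15_1 lc_d_rc_25_6 lc_d_rc_24_0 lc_d_rc_3_1 lc_d_rc_16_4 lc_d_rc_15_1 lc_d_rc_22_2 lc_d_rc_15_1 lc_d_rc_27_4 lc_d_rc_8_3 lc_d_rc_15_1 lc_d_rc_15_1 lc_d_rc_24_0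 lc_d_rc_27_10 lc_d_rc_17_2 lc_d_rc_8_3 lc_d_rc_25_18 lc_d_rc_15_1 lc_d_rc_15_1 lc_d_rc_22_4 lc_d_rc_3_3 lc_d_rc_8_3 lc_d_rc_15_1 lc_d_rc_8_1 lc_d_rc_15_1 lc_d_rc_17_2 lc_d_rc_17_0 lc_d_rc_8_3 lc_d_rc_15_1 lc_d_rc_17_0 lc_d_rc_22_4 lc_d_rc_24_5 lc_d_Cert_tree lc_d_rc_17_2 lc_d_Cert_tree lc_d_rc_16_4 lc_d_rc_23_8 lc_d_rc_16_2 lc_d_rc_17_2 lc_d_Cert_tree lc_d_rc_16_0 lc_d_rc_15_1 lc_d_rc_17_2 lc_d_rc_3_3 lc_d_Cert_tree) (@D3.rec (fun _ => (Cert rels S Gen.d)) lc_d_rc_8_3 lc_d_rc_15_1 lc_d_rc_8_3 lc_d_rc_27_2 lc_d_rc_15_1 lc_d_rc_17_2 lc_d_rc_27_4 lc_d_rc_22_2 lc_d_rc_15_1 lc_d_rc_27_4 lc_d_rc_27_4 lc_d_rc_12_1 lc_d_rc_15_1 lc_d_Cert_tree lc_d_rc_17_2 lc_d_rc_25_14 lc_d_rc_3_3 lc_d_rc_8_3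 lc_d_rc_15_1 lc_d_rc_15_1 lc_d_rc_15_1 lc_d_rc_15_1 lc_d_rc_15_1 lc_d_rc_27_4 lc_d_rc_27_10 lc_d_rc_16_2 lc_d_rc_15_1 lc_d_rc_27_2 lc_d_rc_15_1 lc_d_rc_27_8 lc_d_rc_27_2 lc_d_rc_27_4 lc_d_rc_3_3 lc_d_rc_3_1 lc_d_rc_8_3 lc_d_Cert_tree lc_d_rc_22_8 lc_d_rc_15_1 lc_d_rc_15_1 lc_d_rc_23_2 lc_d_rc_16_2 lc_d_rc_23_6 lc_d_rc_15_1 lc_d_Cert_tree lc_d_rc_15_1 lc_d_rc_17_2 lc_d_rc_15_1 lc_d_rc_16_2 lc_d_Cert_tree lc_d_rc_27_2 lc_d_rc_15_1 lc_d_rc_16_4 lc_d_rc_24_0 lc_d_Cert_tree lc_d_rc_15_1 lc_d_rc_27_4 lc_d_rc_15_1 lc_d_rc_17_2 lc_d_rc_15_1 lc_d_rc_22_8 lc_d_Cert_tree lc_d_rc_15_1) (@D3.rec (fun _ => (Cert rels S Gen.d)) lc_d_rc_27_10 lc_d_rc_22_4 lc_d_rc_17_2 lc_d_rc_25_18 lc_d_rc_15_1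 lc_d_rc_3_3 lc_d_rc_17_2 lc_d_rc_16_0 lc_d_rc_15_1 lc_d_rc_27_4 lc_d_rc_8_1 lc_d_rc_15_1 lc_d_rc_3_3 lc_d_rc_23_6 lc_d_rc_24_0 lc_d_rc_23_6 lc_d_rc_15_1 lc_d_rc_15_1 lc_d_rc_8_3 lc_d_rc_8_3 lc_d_rc_23_2 lc_d_rc_24_5 lc_d_rc_15_1 lc_d_rc_27_2 lc_d_rc_8_1 lc_d_rc_15_1 lc_d_rc_15_1 lc_d_rc_16_2 lc_d_rc_27_10 lc_d_rc_24_0 lc_d_rc_8_1 lc_d_rc_8_3 lc_d_rc_24_5 lc_d_rc_15_1 lc_d_rc_27_2 lc_d_rc_24_5 lc_d_rc_15_1 lc_d_Cert_tree lc_d_rc_8_1 lc_d_rc_15_1 lc_d_rc_27_2 lc_d_rc_15_1 lc_d_rc_15_1 lc_d_rc_27_2 lc_d_rc_15_1 lc_d_rc_15_1 lc_d_rc_3_3 lc_d_rc_8_1 lc_d_rc_15_1 lc_d_rc_15_1 lc_d_rc_25_18 lc_d_rc_22_8 lc_d_rc_16_4 lc_d_rc_15_1 lc_d_rc_15_1 lc_d_rc_15_1 lc_d_rc_8_3 lc_d_rc_3_3 lc_d_rc_3_3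 lc_d_rc_8_3 lc_d_rc_23_6 lc_d_rc_15_1) (@D3.rec (fun _ => (Cert rels S Gen.d)) lc_d_rc_27_10 lc_d_rc_3_1 lc_d_rc_8_3 lc_d_Cert_tree lc_d_rc_24_0 lc_d_rc_27_10 lc_d_rc_24_0 lc_d_rc_24_0 lc_d_rc_3_3 lc_d_Cert_tree lc_d_rc_15_1 lc_d_rc_3_1 lc_d_rc_15_1 lc_d_rc_8_3 lc_d_rc_3_3 lc_d_Cert_tree lc_d_rc_27_4 lc_d_rc_24_5 lc_d_Cert_tree lc_d_Cert_tree lc_d_rc_27_8 lc_d_rc_27_4 lc_d_rc_16_4 lc_d_rc_27_10 lc_d_rc_15_1 lc_d_rc_15_1 lc_d_rc_17_2 lc_d_rc_8_3 lc_d_Cert_tree lc_d_rc_15_1 lc_d_rc_15_1 lc_d_rc_27_4 lc_d_rc_8_1 lc_d_rc_24_5 lc_d_rc_15_1 lc_d_rc_24_5 lc_d_rc_15_1 lc_d_rc_15_1 lc_d_rc_17_2 lc_d_Cert_tree lc_d_rc_22_2 lc_d_rc_12_1 lc_d_rc_27_10 lc_d_rc_3_1 lc_d_Cert_tree lc_d_Cert_tree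 lc_d_Cert_tree lc_d_rc_15_1 lc_d_rc_3_3 lc_d_rc_15_1 lc_d_rc_8_3 lc_d_Cert_tree lc_d_rc_8_1 lc_d_rc_15_1 lc_d_rc_17_2 lc_d_Cert_tree lc_d_rc_24_0 lc_d_rc_23_8 lc_d_rc_3_3 lc_d_rc_22_4 lc_d_rc_25_2 lc_d_rc_8_3) (@D3.rec (fun _ => (Cert rels S Gen.d)) lc_d_rc_15_1 lc_d_rc_22_2 lc_d_rc_8_3 lc_d_rc_17_2 lc_d_rc_16_4 lc_d_rc_3_1 lc_d_rc_3_1 lc_d_rc_22_6 lc_d_rc_8_1 lc_d_rc_15_1 lc_d_rc_22_6 lc_d_rc_15_1 lc_d_rc_8_1 lc_d_rc_22_4 lc_d_rc_3_1 lc_d_rc_15_1 lc_d_rc_22_6 lc_d_rc_16_4 lc_d_rc_8_1 lc_d_rc_23_4 lc_d_rc_3_1 lc_d_rc_15_1 lc_d_rc_16_2 lc_d_rc_23_2 lc_d_rc_24_0 lc_d_rc_15_1 lc_d_rc_17_0 lc_d_rc_16_2 lc_d_rc_25_6 lc_d_rc_23_8 lc_d_rc_3_3 lc_d_rc_25_6 lc_d_rc_15_1 lc_d_rc_23_4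 lc_d_rc_24_5 lc_d_rc_8_3 lc_d_rc_15_1 lc_d_rc_24_5 lc_d_rc_15_1 lc_d_rc_15_1 lc_d_rc_22_2 lc_d_rc_27_8 lc_d_rc_16_2 lc_d_rc_15_1 lc_d_rc_3_1 lc_d_rc_23_4 lc_d_rc_15_1 lc_d_rc_15_1 lc_d_rc_15_1 lc_d_rc_3_3 lc_d_rc_23_8 lc_d_rc_15_1 lc_d_rc_17_2 lc_d_rc_16_0 lc_d_rc_8_1 lc_d_rc_15_1 lc_d_rc_16_2 lc_d_rc_3_3 lc_d_rc_16_2 lc_d_rc_8_3 lc_d_rc_15_1 lc_d_rc_15_1) (@D3.rec (fun _ => (Cert rels S Gen.d)) lc_d_rc_16_4 lc_d_rc_27_2 lc_d_Cert_tree lc_d_rc_15_1 lc_d_rc_16_4 lc_d_rc_15_1 lc_d_rc_22_6 lc_d_rc_15_1 lc_d_rc_12_1 lc_d_rc_17_2 lc_d_rc_12_15 lc_d_rc_15_1 lc_d_rc_24_5 lc_d_rc_16_2 lc_d_rc_15_1 lc_d_rc_25_10 lc_d_rc_8_3 lc_d_Cert_tree lc_d_rc_15_1 lc_d_rc_15_1 lc_d_rc_15_1 lc_d_rc_3_3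 lc_d_rc_15_1 lc_d_rc_15_1 lc_d_rc_22_6 lc_d_rc_16_2 lc_d_rc_27_8 lc_d_rc_17_2 lc_d_rc_22_2 lc_d_rc_17_2 lc_d_rc_3_3 lc_d_rc_16_4 lc_d_rc_17_2 lc_d_rc_27_10 lc_d_rc_22_4 lc_d_rc_22_2 lc_d_rc_15_1 lc_d_Cert_tree lc_d_rc_3_3 lc_d_rc_22_8 lc_d_rc_8_3 lc_d_rc_8_3 lc_d_rc_23_2 lc_d_rc_15_1 lc_d_rc_17_2 lc_d_rc_15_1 lc_d_rc_24_5 lc_d_rc_15_1 lc_d_rc_15_1 lc_d_rc_15_1 lc_d_rc_16_4 lc_d_rc_15_1 lc_d_rc_22_6 lc_d_rc_16_2 lc_d_rc_24_0 lc_d_rc_17_2 lc_d_rc_25_18 lc_d_rc_22_2 lc_d_rc_23_2 lc_d_rc_24_0 lc_d_rc_3_3 lc_d_rc_15_1) (@D3.rec (fun _ => (Cert rels S Gen.d)) lc_d_rc_22_6 lc_d_rc_16_2 lc_d_rc_15_1 lc_d_rc_15_1 lc_d_rc_15_1 lc_d_rc_23_2 lc_d_rc_15_1 lc_d_rc_15_1 lc_d_rc_15_1 lc_d_rc_15_1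 lc_d_rc_17_2 lc_d_rc_15_1 lc_d_rc_3_3 lc_d_rc_15_1 lc_d_rc_24_0 lc_d_rc_15_1 lc_d_Cert_tree lc_d_rc_16_2 lc_d_rc_16_4 lc_d_rc_17_2 lc_d_rc_16_2 lc_d_rc_22_4 lc_d_rc_3_1 lc_d_rc_22_8 lc_d_rc_8_3 lc_d_rc_27_4 lc_d_rc_23_2 lc_d_rc_24_5 lc_d_rc_15_1 lc_d_rc_27_10 lc_d_rc_22_6 lc_d_rc_15_1 lc_d_rc_16_4 lc_d_rc_3_3 lc_d_rc_3_1 lc_d_rc_15_1 lc_d_rc_15_1 lc_d_rc_17_2 lc_d_Cert_tree lc_d_rc_3_3 lc_d_rc_15_1 lc_d_rc_16_4 lc_d_rc_24_0 lc_d_rc_15_1 lc_d_rc_15_1 lc_d_rc_15_1 lc_d_Cert_tree lc_d_rc_23_6 lc_d_rc_15_1 lc_d_rc_22_8 lc_d_rc_17_2 lc_d_rc_3_3 lc_d_rc_15_1 lc_d_rc_27_4 lc_d_rc_15_1 lc_d_rc_16_4 lc_d_Cert_tree lc_d_rc_16_2 lc_d_rc_15_1 lc_d_rc_8_3 lc_d_Cert_tree lc_d_rc_15_1) (@D3.rec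 (fun _ => (Cert rels S Gen.d)) lc_d_Cert_tree lc_d_rc_3_3 lc_d_rc_23_8 lc_d_Cert_tree lc_d_rc_15_1 lc_d_rc_22_2 lc_d_rc_16_4 lc_d_rc_15_1 lc_d_rc_3_3 lc_d_rc_15_1 lc_d_rc_22_4 lc_d_rc_16_2 lc_d_rc_8_3 lc_d_rc_24_0 lc_d_rc_22_4 lc_d_rc_22_2 lc_d_rc_15_1 lc_d_rc_15_1 lc_d_rc_16_0 lc_d_rc_8_3 lc_d_rc_23_4 lc_d_rc_16_2 lc_d_rc_15_1 lc_d_rc_17_2 lc_d_rc_8_3 lc_d_rc_15_1 lc_d_rc_17_2 lc_d_rc_23_4 lc_d_rc_27_2 lc_d_rc_8_3 lc_d_Cert_tree lc_d_Cert_tree lc_d_rc_3_1 lc_d_rc_3_1 lc_d_rc_23_2 lc_d_rc_15_1 lc_d_rc_16_4 lc_d_rc_24_5 lc_d_rc_17_2 lc_d_rc_23_4 lc_d_Cert_tree lc_d_rc_27_10 lc_d_rc_27_2 lc_d_rc_3_3 lc_d_rc_27_4 lc_d_rc_15_1 lc_d_rc_3_1 lc_d_rc_8_1 lc_d_rc_16_4 lc_d_rc_8_1 lc_d_rc_22_6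 lc_d_rc_27_4 lc_d_rc_15_1 lc_d_rc_23_2 lc_d_rc_27_4 lc_d_rc_27_10 lc_d_rc_8_3 lc_d_rc_17_2 lc_d_Cert_tree lc_d_rc_8_3 lc_d_rc_15_1 lc_d_rc_15_1) (@D3.rec (fun _ => (Cert rels S Gen.d)) lc_d_rc_24_5 lc_d_Cert_tree lc_d_rc_15_1 lc_d_Cert_tree lc_d_rc_23_6 lc_d_rc_23_6 lc_d_rc_22_8 lc_d_rc_17_2 lc_d_rc_15_1 lc_d_rc_27_4 lc_d_rc_15_1 lc_d_rc_8_3 lc_d_rc_16_4 lc_d_rc_8_3 lc_d_rc_16_4 lc_d_rc_8_1 lc_d_rc_16_2 lc_d_rc_27_10 lc_d_rc_16_0 lc_d_rc_22_8 lc_d_rc_27_4 lc_d_rc_15_1 lc_d_rc_27_4 lc_d_Cert_tree lc_d_rc_15_1 lc_d_rc_27_8 lc_d_rc_23_6 lc_d_rc_23_6 lc_d_rc_23_2 lc_d_Cert_tree lc_d_rc_15_1 lc_d_rc_27_4 lc_d_rc_8_3 lc_d_rc_17_0 lc_d_rc_15_1 lc_d_rc_15_1 lc_d_rc_27_2 lc_d_rc_12_1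 lc_d_rc_23_4 lc_d_rc_15_1 lc_d_rc_8_3 lc_d_rc_24_0 lc_d_rc_27_4 lc_d_rc_8_3 lc_d_rc_23_2 lc_d_rc_23_4 lc_d_rc_22_6 lc_d_rc_27_4 lc_d_rc_15_1 lc_d_rc_22_2 lc_d_Cert_tree lc_d_rc_15_1 lc_d_rc_15_1 lc_d_rc_3_3 lc_d_rc_15_1 lc_d_rc_15_1 lc_d_rc_8_3 lc_d_rc_16_2 lc_d_rc_27_10 lc_d_rc_23_8 lc_d_rc_16_4 lc_d_rc_15_1) (@D3.rec (fun _ => (Cert rels S Gen.d)) lc_d_rc_15_1 lc_d_rc_17_0 lc_d_rc_15_1 lc_d_rc_23_8 lc_d_rc_15_1 lc_d_rc_15_1 lc_d_rc_22_2 lc_d_rc_3_1 lc_d_rc_22_2 lc_d_rc_8_1 lc_d_rc_15_1 lc_d_rc_3_1 lc_d_Cert_tree lc_d_rc_17_2 lc_d_rc_15_1 lc_d_rc_8_1 lc_d_rc_17_2 lc_d_rc_15_1 lc_d_rc_15_1 lc_d_rc_15_1 lc_d_rc_8_1 lc_d_rc_15_1 lc_d_rc_27_4 lc_d_rc_15_1 lc_d_rc_24_0 lc_d_rc_16_4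 lc_d_rc_15_1 lc_d_rc_27_10 lc_d_Cert_tree lc_d_rc_15_1 lc_d_rc_16_4 lc_d_rc_17_2 lc_d_rc_23_8 lc_d_rc_16_2 lc_d_rc_12_1 lc_d_rc_16_4 lc_d_rc_15_1 lc_d_rc_22_2 lc_d_rc_12_13 lc_d_rc_15_1 lc_d_rc_24_0 lc_d_rc_16_4 lc_d_rc_25_10 lc_d_rc_15_1 lc_d_rc_23_6 lc_d_rc_23_4 lc_d_rc_12_1 lc_d_rc_15_1 lc_d_Cert_tree lc_d_Cert_tree lc_d_rc_15_1 lc_d_rc_22_4 lc_d_rc_8_3 lc_d_rc_23_2 lc_d_rc_15_1 lc_d_rc_23_4 lc_d_rc_23_2 lc_d_rc_27_8 lc_d_rc_8_1 lc_d_rc_24_0 lc_d_rc_16_2 lc_d_rc_27_10) (@D3.rec (fun _ => (Cert rels S Gen.d)) lc_d_rc_23_4 lc_d_rc_27_2 lc_d_rc_15_1 lc_d_rc_22_2 lc_d_rc_17_2 lc_d_rc_3_3 lc_d_rc_16_4 lc_d_rc_16_4 lc_d_rc_8_3 lc_d_rc_8_3 lc_d_rc_27_10 lc_d_rc_15_1 lc_d_rc_17_2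 lc_d_rc_15_1 lc_d_rc_15_1 lc_d_rc_3_1 lc_d_rc_15_1 lc_d_rc_22_8 lc_d_rc_16_2 lc_d_rc_23_8 lc_d_rc_8_3 lc_d_rc_23_4 lc_d_rc_23_8 lc_d_Cert_tree lc_d_rc_15_1 lc_d_rc_17_2 lc_d_rc_22_2 lc_d_rc_8_3 lc_d_rc_22_2 lc_d_rc_15_1 lc_d_Cert_tree lc_d_rc_17_2 lc_d_rc_15_1 lc_d_rc_24_0 lc_d_rc_16_4 lc_d_rc_8_3 lc_d_rc_16_2 lc_d_rc_23_4 lc_d_rc_17_2 lc_d_rc_16_4 lc_d_rc_24_0 lc_d_rc_27_10 lc_d_Cert_tree lc_d_rc_8_3 lc_d_rc_8_3 lc_d_rc_23_4 lc_d_rc_16_4 lc_d_rc_15_1 lc_d_rc_17_2 lc_d_rc_15_1 lc_d_rc_15_1 lc_d_Cert_tree lc_d_rc_15_1 lc_d_rc_15_1 lc_d_Cert_tree lc_d_Cert_tree lc_d_rc_15_1 lc_d_rc_8_3 lc_d_rc_23_8 lc_d_rc_24_5 lc_d_rc_15_1 lc_d_rc_8_3) (@D3.rec (fun _ => (Cert rels S Gen.d))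 lc_d_Cert_tree lc_d_rc_8_3 lc_d_rc_15_1 lc_d_rc_8_3 lc_d_rc_17_0 lc_d_rc_15_1 lc_d_rc_3_3 lc_d_rc_17_2 lc_d_rc_15_1 lc_d_rc_17_0 lc_d_rc_15_1 lc_d_rc_22_2 lc_d_rc_22_4 lc_d_rc_16_2 lc_d_rc_15_1 lc_d_rc_12_3 lc_d_rc_8_1 lc_d_rc_8_1 lc_d_rc_22_4 lc_d_rc_23_2 lc_d_rc_24_0 lc_d_rc_15_1 lc_d_rc_27_8 lc_d_rc_15_1 lc_d_rc_8_3 lc_d_rc_27_4 lc_d_rc_15_1 lc_d_rc_23_8 lc_d_rc_15_1 lc_d_rc_22_2 lc_d_rc_8_3 lc_d_rc_8_1 lc_d_rc_27_10 lc_d_rc_15_1 lc_d_rc_8_3 lc_d_rc_27_8 lc_d_rc_8_1 lc_d_rc_15_1 lc_d_rc_3_3 lc_d_rc_15_1 lc_d_rc_17_0 lc_d_rc_17_2 lc_d_rc_17_2 lc_d_rc_15_1 lc_d_rc_15_1 lc_d_rc_27_4 lc_d_rc_15_1 lc_d_rc_23_8 lc_d_rc_22_6 lc_d_rc_17_2 lc_d_rc_15_1 lc_d_rc_15_1 lc_d_rc_15_1 lc_d_rc_16_2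 lc_d_rc_8_1 lc_d_rc_15_1 lc_d_rc_16_2 lc_d_rc_3_3 lc_d_rc_12_9 lc_d_rc_23_4 lc_d_rc_3_1 lc_d_rc_16_4) (@D3.rec (fun _ => (Cert rels S Gen.d)) lc_d_rc_15_1 lc_d_rc_15_1 lc_d_rc_22_6 lc_d_rc_15_1 lc_d_rc_15_1 lc_d_rc_12_3 lc_d_rc_16_2 lc_d_rc_27_4 lc_d_rc_8_1 lc_d_rc_16_4 lc_d_rc_24_0 lc_d_rc_23_2 lc_d_rc_8_3 lc_d_rc_16_4 lc_d_rc_17_2 lc_d_Cert_tree lc_d_rc_8_1 lc_d_rc_23_4 lc_d_rc_17_2 lc_d_rc_8_1 lc_d_rc_16_4 lc_d_rc_8_3 lc_d_rc_15_1 lc_d_rc_17_2 lc_d_rc_3_3 lc_d_rc_8_3 lc_d_rc_8_3 lc_d_rc_27_10 lc_d_rc_15_1 lc_d_rc_15_1 lc_d_rc_24_0 lc_d_rc_8_3 lc_d_rc_3_3 lc_d_rc_12_1 lc_d_rc_15_1 lc_d_rc_15_1 lc_d_rc_22_4 lc_d_rc_27_4 lc_d_rc_8_1 lc_d_rc_16_4 lc_d_rc_15_1 lc_d_rc_3_3 lc_d_rc_8_3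 lc_d_rc_16_4 lc_d_rc_8_3 lc_d_rc_15_1 lc_d_rc_15_1 lc_d_rc_15_1 lc_d_rc_27_4 lc_d_rc_23_8 lc_d_rc_16_4 lc_d_rc_23_2 lc_d_rc_8_3 lc_d_rc_23_2 lc_d_rc_15_1 lc_d_rc_15_1 lc_d_rc_8_3 lc_d_rc_22_6 lc_d_rc_16_4 lc_d_rc_12_1 lc_d_rc_24_0 lc_d_rc_8_3) (@D3.rec (fun _ => (Cert rels S Gen.d)) lc_d_rc_24_5 lc_d_rc_15_1 lc_d_rc_15_1 lc_d_rc_24_5 lc_d_rc_22_4 lc_d_rc_15_1 lc_d_rc_15_1 lc_d_rc_17_0 lc_d_rc_15_1 lc_d_Cert_tree lc_d_rc_8_1 lc_d_rc_15_1 lc_d_rc_22_2 lc_d_rc_17_2 lc_d_rc_8_3 lc_d_rc_15_1 lc_d_rc_22_6 lc_d_rc_17_2 lc_d_rc_15_1 lc_d_rc_15_1 lc_d_rc_23_2 lc_d_rc_24_0 lc_d_rc_15_1 lc_d_rc_16_0 lc_d_rc_15_1 lc_d_rc_16_4 lc_d_rc_16_4 lc_d_rc_15_1 lc_d_rc_16_4 lc_d_rc_24_5 lc_d_rc_16_4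 lc_d_rc_8_1 lc_d_rc_15_1 lc_d_rc_15_1 lc_d_rc_27_2 lc_d_rc_8_1 lc_d_rc_27_4 lc_d_rc_15_1 lc_d_rc_15_1 lc_d_rc_23_8 lc_d_rc_15_1 lc_d_rc_22_4 lc_d_rc_16_2 lc_d_rc_23_8 lc_d_rc_16_4 lc_d_rc_16_2 lc_d_rc_22_2 lc_d_rc_3_3 lc_d_rc_17_2 lc_d_rc_25_18 lc_d_rc_15_1 lc_d_rc_8_1 lc_d_rc_12_3 lc_d_rc_27_4 lc_d_Cert_tree lc_d_rc_27_2 lc_d_rc_27_4 lc_d_Cert_tree lc_d_rc_8_3 lc_d_rc_23_4 lc_d_rc_15_1 lc_d_rc_17_2) (@D3.rec (fun _ => (Cert rels S Gen.d)) lc_d_rc_15_1 lc_d_rc_16_4 lc_d_rc_8_3 lc_d_rc_25_6 lc_d_rc_24_0 lc_d_rc_3_3 lc_d_rc_23_2 lc_d_rc_16_4 lc_d_rc_15_1 lc_d_rc_16_0 lc_d_Cert_tree lc_d_rc_27_4 lc_d_rc_15_1 lc_d_rc_16_0 lc_d_rc_15_1 lc_d_rc_27_2 lc_d_rc_22_4 lc_d_rc_17_2 lc_d_rc_3_1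 lc_d_rc_27_2 lc_d_rc_24_5 lc_d_rc_24_5 lc_d_rc_24_0 lc_d_rc_27_4 lc_d_rc_25_2 lc_d_rc_15_1 lc_d_rc_8_3 lc_d_rc_16_4 lc_d_Cert_tree lc_d_rc_15_1 lc_d_rc_15_1 lc_d_rc_24_0 lc_d_rc_3_3 lc_d_rc_22_4 lc_d_rc_15_1 lc_d_rc_16_4 lc_d_rc_25_2 lc_d_rc_24_0 lc_d_rc_27_4 lc_d_rc_22_2 lc_d_rc_15_1 lc_d_rc_3_3 lc_d_rc_17_2 lc_d_rc_8_3 lc_d_rc_24_5 lc_d_rc_27_4 lc_d_rc_3_3 lc_d_rc_8_3 lc_d_rc_15_1 lc_d_rc_23_8 lc_d_rc_24_5 lc_d_Cert_tree lc_d_rc_27_10 lc_d_rc_16_0 lc_d_Cert_tree lc_d_Cert_tree lc_d_rc_15_1 lc_d_rc_8_1 lc_d_rc_15_1 lc_d_rc_8_1 lc_d_rc_24_0 lc_d_rc_15_1) (@D3.rec (fun _ => (Cert rels S Gen.d)) lc_d_rc_27_8 lc_d_rc_15_1 lc_d_rc_15_1 lc_d_rc_15_1 lc_d_rc_15_1 lc_d_rc_15_1 lc_d_Cert_tree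 lc_d_rc_15_1 lc_d_rc_8_3 lc_d_rc_22_4 lc_d_Cert_tree lc_d_rc_8_3 lc_d_rc_17_2 lc_d_rc_15_1 lc_d_rc_8_3 lc_d_rc_8_3 lc_d_rc_12_3 lc_d_rc_15_1 lc_d_rc_24_0 lc_d_rc_16_2 lc_d_rc_8_3 lc_d_rc_15_1 lc_d_rc_8_1 lc_d_rc_17_0 lc_d_rc_17_2 lc_d_rc_16_4 lc_d_rc_16_4 lc_d_Cert_tree lc_d_rc_15_1 lc_d_rc_17_2 lc_d_rc_15_1 lc_d_rc_24_0 lc_d_rc_24_0 lc_d_rc_16_2 lc_d_rc_15_1 lc_d_rc_27_4 lc_d_rc_16_2 lc_d_rc_16_2 lc_d_rc_17_2 lc_d_rc_3_3 lc_d_rc_16_4 lc_d_rc_23_4 lc_d_rc_3_3 lc_d_rc_15_1 lc_d_rc_16_0 lc_d_rc_23_4 lc_d_rc_3_3 lc_d_rc_27_4 lc_d_rc_15_1 lc_d_rc_23_8 lc_d_rc_24_0 lc_d_rc_8_3 lc_d_rc_8_3 lc_d_rc_8_3 lc_d_rc_8_3 lc_d_rc_15_1 lc_d_Cert_tree lc_d_rc_15_1 lc_d_rc_24_0 lc_d_rc_8_1 lc_d_rc_15_1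 lc_d_rc_27_4) (@D3.rec (fun _ => (Cert rels S Gen.d)) lc_d_rc_27_2 lc_d_rc_15_1 lc_d_rc_15_1 lc_d_rc_15_1 lc_d_rc_27_10 lc_d_rc_27_10 lc_d_rc_24_0 lc_d_rc_3_1 lc_d_rc_3_3 lc_d_rc_8_3 lc_d_rc_24_0 lc_d_rc_15_1 lc_d_rc_3_3 lc_d_rc_16_2 lc_d_rc_8_3 lc_d_rc_3_3 lc_d_rc_15_1 lc_d_rc_22_2 lc_d_rc_22_6 lc_d_rc_15_1 lc_d_rc_22_4 lc_d_rc_22_8 lc_d_rc_16_4 lc_d_rc_8_3 lc_d_rc_22_8 lc_d_rc_17_2 lc_d_rc_8_3 lc_d_rc_22_4 lc_d_rc_15_1 lc_d_rc_16_2 lc_d_rc_24_0 lc_d_rc_15_1 lc_d_rc_17_2 lc_d_rc_8_3 lc_d_rc_16_4 lc_d_rc_15_1 lc_d_rc_27_4 lc_d_rc_8_3 lc_d_rc_15_1 lc_d_Cert_tree lc_d_rc_8_3 lc_d_rc_15_1 lc_d_rc_16_2 lc_d_rc_8_1 lc_d_rc_15_1 lc_d_rc_15_1 lc_d_rc_16_2 lc_d_rc_17_2 lc_d_rc_15_1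 lc_d_rc_15_1 lc_d_Cert_tree lc_d_rc_15_1 lc_d_Cert_tree lc_d_rc_17_2 lc_d_rc_23_6 lc_d_rc_16_0 lc_d_rc_16_2 lc_d_Cert_tree lc_d_rc_15_1 lc_d_rc_8_3 lc_d_rc_8_3 lc_d_rc_23_4) (@D3.rec (fun _ => (Cert rels S Gen.d)) lc_d_rc_3_1 lc_d_rc_16_4 lc_d_rc_23_2 lc_d_rc_17_2 lc_d_rc_15_1 lc_d_rc_25_18 lc_d_rc_15_1 lc_d_rc_15_1 lc_d_rc_15_1 lc_d_rc_15_1 lc_d_rc_15_1 lc_d_rc_15_1 lc_d_rc_17_2 lc_d_rc_15_1 lc_d_Cert_tree lc_d_rc_15_1 lc_d_rc_27_8 lc_d_rc_15_1 lc_d_rc_17_2 lc_d_rc_3_3 lc_d_rc_23_2 lc_d_rc_24_5 lc_d_rc_27_4 lc_d_rc_27_2 lc_d_rc_15_1 lc_d_rc_15_1 lc_d_rc_23_8 lc_d_rc_15_1 lc_d_rc_22_6 lc_d_rc_15_1 lc_d_rc_15_1 lc_d_rc_8_1 lc_d_rc_8_3 lc_d_rc_3_3 lc_d_rc_24_5 lc_d_rc_15_1 lc_d_rc_15_1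 lc_d_rc_16_2 lc_d_rc_8_3 lc_d_rc_16_4 lc_d_Cert_tree lc_d_Cert_tree lc_d_rc_17_2 lc_d_rc_15_1 lc_d_rc_25_2 lc_d_rc_23_8 lc_d_rc_3_3 lc_d_rc_24_0 lc_d_rc_3_3 lc_d_rc_24_5 lc_d_rc_3_3 lc_d_rc_8_1 lc_d_rc_24_5 lc_d_rc_23_4 lc_d_rc_24_5 lc_d_Cert_tree lc_d_rc_15_1 lc_d_rc_24_0 lc_d_rc_24_0 lc_d_rc_17_2 lc_d_Cert_tree lc_d_rc_15_1) (@D3.rec (fun _ => (Cert rels S Gen.d)) lc_d_rc_17_2 lc_d_rc_15_1 lc_d_rc_15_1 lc_d_rc_3_3 lc_d_rc_3_3 lc_d_rc_15_1 lc_d_rc_8_3 lc_d_rc_17_2 lc_d_rc_23_8 lc_d_rc_16_2 lc_d_rc_8_3 lc_d_Cert_tree lc_d_rc_15_1 lc_d_rc_15_1 lc_d_rc_15_1 lc_d_rc_8_3 lc_d_rc_8_3 lc_d_rc_16_2 lc_d_rc_27_10 lc_d_rc_17_2 lc_d_rc_16_2 lc_d_rc_22_4 lc_d_rc_23_8 lc_d_rc_17_2 lc_d_rc_15_1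 lc_d_rc_23_2 lc_d_rc_16_4 lc_d_rc_22_2 lc_d_rc_17_2 lc_d_rc_24_5 lc_d_rc_27_4 lc_d_rc_15_1 lc_d_rc_27_4 lc_d_rc_12_15 lc_d_rc_23_8 lc_d_rc_3_3 lc_d_rc_24_0 lc_d_rc_15_1 lc_d_rc_15_1 lc_d_Cert_tree lc_d_rc_16_4 lc_d_rc_27_10 lc_d_rc_27_10 lc_d_rc_17_2 lc_d_rc_8_3 lc_d_rc_3_3 lc_d_rc_25_14 lc_d_rc_27_10 lc_d_rc_3_1 lc_d_rc_24_0 lc_d_rc_27_10 lc_d_rc_16_4 lc_d_rc_22_4 lc_d_rc_23_2 lc_d_rc_15_1 lc_d_rc_15_1 lc_d_rc_23_4 lc_d_rc_24_0 lc_d_rc_8_3 lc_d_rc_15_1 lc_d_rc_3_3 lc_d_rc_15_1) (@D3.rec (fun _ => (Cert rels S Gen.d)) lc_d_rc_24_5 lc_d_rc_8_3 lc_d_rc_8_3 lc_d_rc_16_2 lc_d_rc_15_1 lc_d_rc_15_1 lc_d_Cert_tree lc_d_rc_15_1 lc_d_Cert_tree lc_d_rc_15_1 lc_d_rc_23_6 lc_d_rc_15_1 lc_d_rc_8_3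 lc_d_rc_17_2 lc_d_rc_15_1 lc_d_rc_24_0 lc_d_Cert_tree lc_d_rc_27_4 lc_d_rc_15_1 lc_d_rc_27_2 lc_d_rc_15_1 lc_d_rc_27_4 lc_d_Cert_tree lc_d_rc_8_3 lc_d_Cert_tree lc_d_rc_3_3 lc_d_rc_8_3 lc_d_Cert_tree lc_d_Cert_tree lc_d_Cert_tree lc_d_rc_8_3 lc_d_rc_15_1 lc_d_rc_8_3 lc_d_rc_23_6 lc_d_rc_22_2 lc_d_rc_15_1 lc_d_rc_15_1 lc_d_rc_16_4 lc_d_rc_3_3 lc_d_rc_27_10 lc_d_rc_17_2 lc_d_rc_8_3 lc_d_Cert_tree lc_d_rc_8_3 lc_d_rc_16_4 lc_d_rc_15_1 lc_d_rc_15_1 lc_d_rc_25_2 lc_d_rc_23_8 lc_d_rc_15_1 lc_d_rc_8_1 lc_d_rc_15_1 lc_d_rc_15_1 lc_d_rc_12_3 lc_d_Cert_tree lc_d_rc_15_1 lc_d_rc_15_1 lc_d_rc_15_1 lc_d_rc_25_2 lc_d_rc_8_3 lc_d_rc_8_3 lc_d_rc_8_3) (@D3.rec (fun _ => (Cert rels S Gen.d))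 lc_d_rc_15_1 lc_d_rc_8_3 lc_d_rc_17_2 lc_d_rc_23_6 lc_d_rc_17_2 lc_d_rc_15_1 lc_d_rc_8_3 lc_d_rc_27_4 lc_d_rc_8_3 lc_d_rc_16_2 lc_d_rc_23_2 lc_d_rc_15_1 lc_d_rc_15_1 lc_d_rc_15_1 lc_d_rc_15_1 lc_d_rc_27_4 lc_d_rc_15_1 lc_d_rc_27_8 lc_d_rc_15_1 lc_d_rc_23_4 lc_d_Cert_tree lc_d_rc_15_1 lc_d_rc_17_2 lc_d_rc_17_2 lc_d_rc_15_1 lc_d_rc_15_1 lc_d_rc_27_8 lc_d_rc_23_6 lc_d_rc_15_1 lc_d_rc_16_2 lc_d_rc_15_1 lc_d_rc_15_1 lc_d_rc_15_1 lc_d_rc_16_2 lc_d_rc_23_4 lc_d_rc_16_2 lc_d_rc_15_1 lc_d_Cert_tree lc_d_rc_22_4 lc_d_Cert_tree lc_d_Cert_tree lc_d_rc_16_0 lc_d_rc_15_1 lc_d_rc_22_4 lc_d_rc_16_4 lc_d_rc_27_10 lc_d_Cert_tree lc_d_rc_15_1 lc_d_rc_15_1 lc_d_rc_23_4 lc_d_rc_3_1 lc_d_rc_27_4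 lc_d_rc_27_10 lc_d_rc_27_4 lc_d_rc_15_1 lc_d_rc_22_6 lc_d_rc_17_0 lc_d_rc_15_1 lc_d_rc_8_3 lc_d_rc_27_4 lc_d_rc_25_6 lc_d_rc_15_1) (@D3.rec (fun _ => (Cert rels S Gen.d)) lc_d_rc_17_2 lc_d_rc_15_1 lc_d_rc_22_2 lc_d_rc_15_1 lc_d_rc_15_1 lc_d_rc_15_1 lc_d_rc_15_1 lc_d_rc_8_3 lc_d_rc_16_2 lc_d_rc_8_3 lc_d_rc_3_3 lc_d_rc_27_4 lc_d_rc_15_1 lc_d_rc_17_2 lc_d_rc_8_3 lc_d_Cert_tree lc_d_rc_8_1 lc_d_rc_8_1 lc_d_rc_23_8 lc_d_Cert_tree lc_d_rc_15_1 lc_d_rc_15_1 lc_d_rc_17_2 lc_d_rc_8_1 lc_d_rc_16_4 lc_d_rc_15_1 lc_d_Cert_tree lc_d_rc_17_2 lc_d_rc_22_2 lc_d_rc_16_4 lc_d_rc_23_4 lc_d_rc_27_10 lc_d_rc_12_1 lc_d_rc_8_3 lc_d_Cert_tree lc_d_rc_8_3 lc_d_Cert_tree lc_d_Cert_tree lc_d_rc_3_1 lc_d_rc_15_1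 lc_d_rc_8_3 lc_d_rc_3_1 lc_d_Cert_tree lc_d_rc_27_10 lc_d_rc_15_1 lc_d_Cert_tree lc_d_rc_8_1 lc_d_rc_8_3 lc_d_rc_8_1 lc_d_rc_8_3 lc_d_rc_15_1 lc_d_rc_17_2 lc_d_rc_3_3 lc_d_rc_16_4 lc_d_rc_16_4 lc_d_rc_15_1 lc_d_rc_15_1 lc_d_rc_22_8 lc_d_rc_22_6 lc_d_rc_15_1 lc_d_rc_27_4 lc_d_rc_23_4) (@D3.rec (fun _ => (Cert rels S Gen.d)) lc_d_rc_8_3 lc_d_rc_17_2 lc_d_rc_22_2 lc_d_rc_16_2 lc_d_rc_15_1 lc_d_rc_23_2 lc_d_rc_15_1 lc_d_rc_15_1 lc_d_rc_27_8 lc_d_rc_15_1 lc_d_rc_8_1 lc_d_rc_16_2 lc_d_rc_15_1 lc_d_rc_15_1 lc_d_rc_16_4 lc_d_rc_8_3 lc_d_rc_8_3 lc_d_rc_15_1 lc_d_rc_8_1 lc_d_rc_15_1 lc_d_rc_15_1 lc_d_rc_24_5 lc_d_rc_17_0 lc_d_rc_15_1 lc_d_rc_16_2 lc_d_rc_8_3 lc_d_Cert_tree lc_d_rc_8_1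 lc_d_rc_27_10 lc_d_rc_15_1 lc_d_rc_15_1 lc_d_rc_24_5 lc_d_rc_23_6 lc_d_rc_24_0 lc_d_rc_3_3 lc_d_rc_15_1 lc_d_rc_15_1 lc_d_rc_16_0 lc_d_rc_16_2 lc_d_rc_15_1 lc_d_rc_8_1 lc_d_rc_15_1 lc_d_Cert_tree lc_d_rc_15_1 lc_d_rc_17_2 lc_d_rc_15_1 lc_d_Cert_tree lc_d_rc_15_1 lc_d_rc_24_0 lc_d_rc_15_1 lc_d_rc_15_1 lc_d_rc_17_2 lc_d_rc_15_1 lc_d_rc_16_4 lc_d_rc_15_1 lc_d_rc_23_2 lc_d_rc_3_3 lc_d_rc_15_1 lc_d_rc_27_8 lc_d_rc_8_3 lc_d_rc_24_0 lc_d_Cert_tree) (@D3.rec (fun _ => (Cert rels S Gen.d)) lc_d_rc_17_2 lc_d_rc_15_1 lc_d_Cert_tree lc_d_rc_15_1 lc_d_rc_24_5 lc_d_rc_16_2 lc_d_rc_15_1 lc_d_rc_8_3 lc_d_rc_15_1 lc_d_rc_27_4 lc_d_Cert_tree lc_d_rc_16_2 lc_d_rc_3_1 lc_d_rc_8_1 lc_d_rc_8_1 lc_d_rc_17_2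 lc_d_rc_15_1 lc_d_rc_16_2 lc_d_Cert_tree lc_d_rc_17_0 lc_d_rc_15_1 lc_d_rc_24_0 lc_d_rc_16_4 lc_d_rc_15_1 lc_d_rc_15_1 lc_d_rc_15_1 lc_d_rc_22_6 lc_d_rc_16_2 lc_d_rc_8_1 lc_d_rc_27_4 lc_d_rc_22_6 lc_d_Cert_tree lc_d_rc_15_1 lc_d_rc_22_2 lc_d_rc_16_2 lc_d_Cert_tree lc_d_rc_8_1 lc_d_Cert_tree lc_d_rc_15_1 lc_d_rc_17_2 lc_d_rc_12_1 lc_d_rc_25_18 lc_d_rc_25_6 lc_d_Cert_tree lc_d_rc_3_1 lc_d_rc_15_1 lc_d_rc_8_3 lc_d_rc_22_6 lc_d_Cert_tree lc_d_rc_17_0 lc_d_rc_22_8 lc_d_rc_15_1 lc_d_rc_15_1 lc_d_rc_15_1 lc_d_rc_16_2 lc_d_rc_23_4 lc_d_rc_16_2 lc_d_rc_23_4 lc_d_rc_16_0 lc_d_rc_8_1 lc_d_rc_15_1 lc_d_rc_15_1) (@D3.rec (fun _ => (Cert rels S Gen.d)) lc_d_rc_27_4 lc_d_rc_22_8 lc_d_rc_22_2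 lc_d_rc_8_3 lc_d_rc_15_1 lc_d_rc_3_3 lc_d_rc_24_0 lc_d_rc_8_3 lc_d_rc_15_1 lc_d_rc_3_3 lc_d_rc_8_3 lc_d_rc_15_1 lc_d_rc_27_4 lc_d_rc_25_2 lc_d_rc_22_8 lc_d_rc_15_1 lc_d_rc_27_4 lc_d_rc_23_2 lc_d_rc_22_4 lc_d_Cert_tree lc_d_rc_17_2 lc_d_rc_16_2 lc_d_rc_15_1 lc_d_Cert_tree lc_d_rc_15_1 lc_d_rc_8_3 lc_d_rc_27_4 lc_d_rc_8_3 lc_d_rc_22_8 lc_d_rc_12_1 lc_d_rc_16_0 lc_d_rc_15_1 lc_d_rc_27_10 lc_d_rc_27_8 lc_d_rc_12_1 lc_d_rc_15_1 lc_d_rc_12_3 lc_d_rc_25_2 lc_d_rc_15_1 lc_d_rc_15_1 lc_d_rc_27_10 lc_d_rc_27_4 lc_d_rc_15_1 lc_d_rc_15_1 lc_d_rc_16_2 lc_d_rc_8_3 lc_d_rc_22_4 lc_d_rc_27_2 lc_d_rc_23_4 lc_d_rc_3_3 lc_d_rc_8_3 lc_d_rc_27_10 lc_d_rc_15_1 lc_d_rc_22_2 lc_d_rc_15_1 lc_d_rc_15_1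 lc_d_rc_15_1 lc_d_Cert_tree lc_d_rc_23_8 lc_d_rc_15_1 lc_d_rc_15_1 lc_d_rc_16_0) (@D3.rec (fun _ => (Cert rels S Gen.d)) lc_d_rc_16_4 lc_d_rc_15_1 lc_d_rc_22_8 lc_d_rc_8_1 lc_d_rc_15_1 lc_d_rc_22_8 lc_d_rc_15_1 lc_d_rc_24_5 lc_d_rc_8_1 lc_d_rc_15_1 lc_d_rc_22_6 lc_d_rc_23_6 lc_d_rc_27_2 lc_d_rc_22_4 lc_d_rc_15_1 lc_d_rc_24_5 lc_d_rc_15_1 lc_d_Cert_tree lc_d_rc_23_6 lc_d_rc_15_1 lc_d_rc_15_1 lc_d_rc_8_3 lc_d_rc_15_1 lc_d_rc_24_0 lc_d_rc_15_1 lc_d_Cert_tree lc_d_rc_8_3 lc_d_rc_15_1 lc_d_rc_17_2 lc_d_rc_15_1 lc_d_rc_3_1 lc_d_rc_17_2 lc_d_rc_15_1 lc_d_Cert_tree lc_d_rc_16_4 lc_d_Cert_tree lc_d_rc_8_3 lc_d_rc_15_1 lc_d_Cert_tree lc_d_rc_16_2 lc_d_Cert_tree lc_d_rc_16_4 lc_d_rc_15_1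 lc_d_rc_27_2 lc_d_rc_15_1 lc_d_rc_3_3 lc_d_rc_3_3 lc_d_rc_23_8 lc_d_rc_8_1 lc_d_rc_27_2 lc_d_rc_8_3 lc_d_rc_24_0 lc_d_Cert_tree lc_d_rc_25_6 lc_d_rc_27_2 lc_d_rc_3_3 lc_d_Cert_tree lc_d_Cert_tree lc_d_Cert_tree lc_d_rc_15_1 lc_d_rc_27_8 lc_d_rc_15_1) (@D3.rec (fun _ => (Cert rels S Gen.d)) lc_d_Cert_tree lc_d_Cert_tree lc_d_rc_16_4 lc_d_rc_8_3 lc_d_rc_17_2 lc_d_rc_16_4 lc_d_rc_24_5 lc_d_rc_8_3 lc_d_rc_8_3 lc_d_rc_16_0 lc_d_rc_17_2 lc_d_rc_8_3 lc_d_rc_22_4 lc_d_rc_3_3 lc_d_rc_16_2 lc_d_rc_22_4 lc_d_rc_22_8 lc_d_rc_15_1 lc_d_rc_17_2 lc_d_rc_23_2 lc_d_rc_23_2 lc_d_rc_8_3 lc_d_rc_15_1 lc_d_rc_12_15 lc_d_rc_27_2 lc_d_rc_23_2 lc_d_Cert_tree lc_d_rc_15_1 lc_d_rc_15_1 lc_d_rc_27_2 lc_d_rc_3_3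 lc_d_rc_8_3 lc_d_rc_17_2 lc_d_Cert_tree lc_d_rc_15_1 lc_d_rc_3_3 lc_d_rc_27_8 lc_d_rc_8_1 lc_d_rc_8_3 lc_d_rc_24_5 lc_d_rc_8_3 lc_d_rc_15_1 lc_d_rc_15_1 lc_d_rc_15_1 lc_d_rc_16_4 lc_d_rc_25_18 lc_d_rc_8_3 lc_d_rc_17_2 lc_d_rc_16_2 lc_d_rc_22_4 lc_d_rc_8_3 lc_d_rc_16_4 lc_d_rc_24_5 lc_d_rc_24_0 lc_d_rc_8_3 lc_d_rc_3_3 lc_d_rc_15_1 lc_d_rc_23_6 lc_d_rc_22_8 lc_d_rc_17_2 lc_d_rc_27_4 lc_d_rc_12_1) (@D3.rec (fun _ => (Cert rels S Gen.d)) lc_d_rc_15_1 lc_d_rc_15_1 lc_d_rc_17_2 lc_d_rc_3_3 lc_d_Cert_tree lc_d_rc_15_1 lc_d_Cert_tree lc_d_rc_27_4 lc_d_rc_22_2 lc_d_rc_8_3 lc_d_rc_8_3 lc_d_rc_23_6 lc_d_rc_24_5 lc_d_rc_16_4 lc_d_rc_24_5 lc_d_rc_22_6 lc_d_rc_8_3 lc_d_rc_24_0 lc_d_rc_24_5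 lc_d_rc_3_1 lc_d_rc_17_0 lc_d_rc_15_1 lc_d_rc_23_8 lc_d_rc_8_3 lc_d_rc_3_3 lc_d_rc_27_8 lc_d_rc_27_8 lc_d_rc_15_1 lc_d_rc_15_1 lc_d_rc_16_0 lc_d_rc_15_1 lc_d_rc_15_1 lc_d_Cert_tree lc_d_rc_15_1 lc_d_rc_15_1 lc_d_rc_15_1 lc_d_Cert_tree lc_d_rc_17_0 lc_d_rc_16_2 lc_d_rc_15_1 lc_d_rc_3_3 lc_d_rc_17_0 lc_d_rc_17_0 lc_d_Cert_tree lc_d_rc_16_2 lc_d_rc_8_1 lc_d_Cert_tree lc_d_rc_16_2 lc_d_rc_23_2 lc_d_rc_23_2 lc_d_rc_15_1 lc_d_rc_22_2 lc_d_rc_15_1 lc_d_rc_15_1 lc_d_rc_15_1 lc_d_rc_15_1 lc_d_rc_22_8 lc_d_rc_8_3 lc_d_rc_15_1 lc_d_rc_17_2 lc_d_rc_8_1 lc_d_rc_16_4) (@D3.rec (fun _ => (Cert rels S Gen.d)) lc_d_rc_8_1 lc_d_rc_17_2 lc_d_rc_8_1 lc_d_rc_3_1 lc_d_rc_8_3 lc_d_rc_12_1 lc_d_rc_15_1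 lc_d_rc_15_1 lc_d_rc_15_1 lc_d_rc_22_8 lc_d_rc_15_1 lc_d_Cert_tree lc_d_rc_15_1 lc_d_rc_17_2 lc_d_rc_27_8 lc_d_rc_15_1 lc_d_rc_3_3 lc_d_rc_15_1 lc_d_rc_15_1 lc_d_Cert_tree lc_d_rc_27_10 lc_d_rc_15_1 lc_d_rc_15_1 lc_d_rc_12_15 lc_d_rc_17_0 lc_d_rc_15_1 lc_d_rc_15_1 lc_d_rc_15_1 lc_d_rc_3_3 lc_d_rc_15_1 lc_d_rc_3_3 lc_d_rc_24_0 lc_d_rc_15_1 lc_d_rc_8_3 lc_d_rc_16_2 lc_d_rc_16_2 lc_d_rc_24_5 lc_d_rc_27_4 lc_d_rc_8_1 lc_d_rc_16_4 lc_d_rc_15_1 lc_d_rc_16_2 lc_d_rc_15_1 lc_d_rc_22_6 lc_d_rc_16_4 lc_d_rc_23_6 lc_d_rc_16_2 lc_d_rc_27_2 lc_d_rc_15_1 lc_d_rc_15_1 lc_d_rc_15_1 lc_d_rc_3_3 lc_d_rc_8_3 lc_d_rc_23_6 lc_d_rc_8_3 lc_d_Cert_tree lc_d_rc_15_1 lc_d_rc_15_1 lc_d_Cert_tree lc_d_rc_8_3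 lc_d_rc_17_2 lc_d_rc_16_0) (@D3.rec (fun _ => (Cert rels S Gen.d)) lc_d_rc_15_1 lc_d_rc_8_3 lc_d_rc_23_6 lc_d_rc_15_1 lc_d_rc_15_1 lc_d_rc_15_1 lc_d_rc_3_3 lc_d_rc_8_3 lc_d_rc_15_1 lc_d_rc_27_4 lc_d_rc_3_3 lc_d_rc_27_2 lc_d_Cert_tree lc_d_rc_3_3 lc_d_Cert_tree lc_d_rc_8_3 lc_d_rc_15_1 lc_d_rc_15_1 lc_d_rc_15_1 lc_d_rc_15_1 lc_d_rc_27_4 lc_d_rc_15_1 lc_d_rc_27_4 lc_d_rc_8_3 lc_d_rc_15_1 lc_d_rc_24_0 lc_d_Cert_tree lc_d_rc_15_1 lc_d_rc_27_4 lc_d_rc_15_1 lc_d_rc_22_4 lc_d_rc_15_1 lc_d_rc_3_3 lc_d_rc_24_5 lc_d_rc_27_4 lc_d_rc_22_6 lc_d_rc_16_4 lc_d_rc_27_4 lc_d_rc_27_4 lc_d_rc_15_1 lc_d_Cert_tree lc_d_rc_24_0 lc_d_rc_15_1 lc_d_rc_27_2 lc_d_rc_15_1 lc_d_rc_15_1 lc_d_rc_27_2 lc_d_rc_15_1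 lc_d_rc_27_4 lc_d_rc_3_3 lc_d_rc_15_1 lc_d_rc_12_1 lc_d_rc_27_2 lc_d_rc_16_4 lc_d_rc_22_8 lc_d_rc_22_4 lc_d_rc_15_1 lc_d_Cert_tree lc_d_rc_15_1 lc_d_rc_15_1 lc_d_rc_24_0 lc_d_rc_17_2) (@D3.rec (fun _ => (Cert rels S Gen.d)) lc_d_rc_8_3 lc_d_rc_27_10 lc_d_rc_15_1 lc_d_rc_15_1 lc_d_rc_15_1 lc_d_rc_27_4 lc_d_rc_17_2 lc_d_rc_15_1 lc_d_rc_8_1 lc_d_rc_23_2 lc_d_rc_12_15 lc_d_rc_15_1 lc_d_rc_24_0 lc_d_rc_16_4 lc_d_rc_15_1 lc_d_rc_16_4 lc_d_rc_24_5 lc_d_rc_22_2 lc_d_rc_24_5 lc_d_rc_15_1 lc_d_rc_8_3 lc_d_rc_16_2 lc_d_rc_24_0 lc_d_rc_23_4 lc_d_rc_8_3 lc_d_rc_22_2 lc_d_rc_16_2 lc_d_rc_27_4 lc_d_rc_16_4 lc_d_rc_15_1 lc_d_rc_23_4 lc_d_rc_15_1 lc_d_rc_23_6 lc_d_rc_16_2 lc_d_Cert_tree lc_d_rc_22_4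 lc_d_rc_24_0 lc_d_rc_17_2 lc_d_rc_25_6 lc_d_rc_16_0 lc_d_rc_12_1 lc_d_rc_8_3 lc_d_rc_22_8 lc_d_rc_16_4 lc_d_rc_8_3 lc_d_rc_15_1 lc_d_rc_15_1 lc_d_rc_15_1 lc_d_rc_24_5 lc_d_rc_15_1 lc_d_rc_17_2 lc_d_rc_23_6 lc_d_rc_15_1 lc_d_rc_17_2 lc_d_rc_23_2 lc_d_rc_27_4 lc_d_rc_22_2 lc_d_rc_16_4 lc_d_Cert_tree lc_d_rc_15_1 lc_d_rc_22_2 lc_d_rc_3_1) (@D3.rec (fun _ => (Cert rels S Gen.d)) lc_d_Cert_tree lc_d_rc_8_1 lc_d_rc_27_4 lc_d_rc_15_1 lc_d_rc_27_10 lc_d_rc_15_1 lc_d_rc_27_4 lc_d_rc_23_8 lc_d_rc_15_1 lc_d_rc_15_1 lc_d_rc_17_0 lc_d_rc_15_1 lc_d_rc_24_5 lc_d_rc_15_1 lc_d_rc_17_2 lc_d_Cert_tree lc_d_rc_16_4 lc_d_rc_23_2 lc_d_rc_15_1 lc_d_rc_24_5 lc_d_rc_15_1 lc_d_rc_27_2 lc_d_rc_15_1 lc_d_rc_8_1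 lc_d_rc_23_6 lc_d_rc_15_1 lc_d_rc_22_4 lc_d_rc_17_2 lc_d_rc_24_0 lc_d_rc_15_1 lc_d_rc_15_1 lc_d_rc_15_1 lc_d_rc_23_2 lc_d_rc_16_2 lc_d_rc_8_1 lc_d_rc_15_1 lc_d_rc_16_4 lc_d_rc_15_1 lc_d_rc_15_1 lc_d_Cert_tree lc_d_Cert_tree lc_d_rc_24_5 lc_d_rc_15_1 lc_d_Cert_tree lc_d_rc_15_1 lc_d_rc_15_1 lc_d_rc_23_2 lc_d_rc_16_2 lc_d_rc_23_2 lc_d_rc_16_4 lc_d_rc_15_1 lc_d_rc_15_1 lc_d_rc_3_3 lc_d_rc_17_0 lc_d_rc_23_4 lc_d_rc_24_5 lc_d_rc_27_4 lc_d_rc_15_1 lc_d_rc_15_1 lc_d_rc_16_0 lc_d_rc_15_1 lc_d_rc_15_1) (@D3.rec (fun _ => (Cert rels S Gen.d)) lc_d_rc_23_6 lc_d_Cert_tree lc_d_rc_8_3 lc_d_rc_15_1 lc_d_rc_8_3 lc_d_rc_15_1 lc_d_rc_17_0 lc_d_rc_3_1 lc_d_rc_15_1 lc_d_rc_15_1 lc_d_rc_25_18 lc_d_Cert_tree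 lc_d_rc_23_6 lc_d_rc_17_2 lc_d_rc_15_1 lc_d_rc_15_1 lc_d_rc_16_4 lc_d_rc_22_6 lc_d_rc_12_15 lc_d_rc_17_2 lc_d_rc_15_1 lc_d_rc_22_4 lc_d_rc_15_1 lc_d_rc_23_6 lc_d_rc_15_1 lc_d_rc_15_1 lc_d_rc_24_5 lc_d_rc_23_2 lc_d_rc_16_2 lc_d_rc_12_1 lc_d_Cert_tree lc_d_rc_16_2 lc_d_rc_23_2 lc_d_Cert_tree lc_d_rc_15_1 lc_d_rc_22_4 lc_d_rc_8_3 lc_d_rc_23_6 lc_d_rc_17_2 lc_d_rc_15_1 lc_d_rc_8_3 lc_d_rc_15_1 lc_d_rc_25_2 lc_d_rc_8_3 lc_d_rc_15_1 lc_d_rc_8_3 lc_d_rc_22_6 lc_d_rc_8_1 lc_d_rc_22_8 lc_d_rc_15_1 lc_d_rc_15_1 lc_d_rc_22_2 lc_d_rc_17_2 lc_d_rc_16_2 lc_d_Cert_tree lc_d_rc_15_1 lc_d_Cert_tree lc_d_rc_8_3 lc_d_rc_15_1 lc_d_rc_17_2 lc_d_rc_15_1 lc_d_rc_8_3) (@D3.rec (fun _ => (Cert rels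 S Gen.d)) lc_d_rc_8_1 lc_d_rc_3_3 lc_d_rc_8_1 lc_d_rc_27_10 lc_d_rc_8_1 lc_d_rc_15_1 lc_d_rc_3_3 lc_d_rc_15_1 lc_d_rc_27_4 lc_d_rc_27_4 lc_d_rc_8_3 lc_d_rc_23_6 lc_d_Cert_tree lc_d_rc_17_2 lc_d_rc_22_4 lc_d_Cert_tree lc_d_rc_8_3 lc_d_rc_16_4 lc_d_Cert_tree lc_d_rc_15_1 lc_d_rc_17_2 lc_d_rc_3_3 lc_d_rc_8_3 lc_d_rc_3_3 lc_d_rc_24_5 lc_d_rc_27_8 lc_d_rc_23_6 lc_d_rc_15_1 lc_d_rc_22_2 lc_d_rc_17_0 lc_d_rc_8_3 lc_d_rc_15_1 lc_d_rc_15_1 lc_d_rc_15_1 lc_d_rc_27_2 lc_d_rc_17_2 lc_d_rc_3_3 lc_d_rc_22_2 lc_d_rc_27_4 lc_d_rc_15_1 lc_d_Cert_tree lc_d_Cert_tree lc_d_rc_15_1 lc_d_rc_15_1 lc_d_rc_27_2 lc_d_rc_3_3 lc_d_rc_16_2 lc_d_rc_25_18 lc_d_rc_24_0 lc_d_rc_15_1 lc_d_rc_24_5 lc_d_rc_15_1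 lc_d_rc_27_2 lc_d_rc_27_10 lc_d_rc_3_3 lc_d_rc_15_1 lc_d_rc_25_10 lc_d_rc_15_1 lc_d_rc_8_3 lc_d_rc_15_1 lc_d_rc_8_3 lc_d_rc_15_1) (@D3.rec (fun _ => (Cert rels S Gen.d)) lc_d_rc_16_2 lc_d_rc_15_1 lc_d_rc_15_1 lc_d_Cert_tree lc_d_rc_8_3 lc_d_rc_27_8 lc_d_rc_15_1 lc_d_rc_27_10 lc_d_rc_27_10 lc_d_rc_8_1 lc_d_rc_22_6 lc_d_rc_15_1 lc_d_Cert_tree lc_d_rc_8_1 lc_d_rc_12_13 lc_d_rc_3_3 lc_d_rc_8_3 lc_d_rc_8_3 lc_d_rc_16_4 lc_d_rc_27_2 lc_d_rc_17_2 lc_d_rc_15_1 lc_d_rc_15_1 lc_d_rc_22_4 lc_d_rc_27_2 lc_d_rc_15_1 lc_d_rc_8_3 lc_d_rc_15_1 lc_d_rc_17_2 lc_d_rc_16_4 lc_d_Cert_tree lc_d_rc_15_1 lc_d_rc_22_8 lc_d_rc_8_1 lc_d_rc_15_1 lc_d_rc_23_8 lc_d_rc_23_8 lc_d_rc_15_1 lc_d_rc_16_2 lc_d_rc_15_1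 lc_d_rc_15_1 lc_d_rc_15_1 lc_d_rc_15_1 lc_d_rc_15_1 lc_d_rc_15_1 lc_d_rc_17_2 lc_d_rc_15_1 lc_d_rc_17_2 lc_d_rc_16_4 lc_d_Cert_tree lc_d_rc_27_4 lc_d_rc_12_15 lc_d_rc_15_1 lc_d_rc_12_15 lc_d_rc_15_1 lc_d_rc_22_2 lc_d_rc_3_3 lc_d_rc_23_2 lc_d_rc_15_1 lc_d_rc_23_4 lc_d_rc_24_0 lc_d_rc_24_5) (@D3.rec (fun _ => (Cert rels S Gen.d)) lc_d_rc_22_4 lc_d_rc_17_2 lc_d_rc_25_2 lc_d_rc_15_1 lc_d_rc_22_4 lc_d_rc_17_2 lc_d_rc_15_1 lc_d_rc_15_1 lc_d_rc_15_1 lc_d_rc_24_5 lc_d_rc_16_4 lc_d_rc_15_1 lc_d_rc_8_1 lc_d_rc_8_3 lc_d_Cert_tree lc_d_rc_15_1 lc_d_rc_8_1 lc_d_rc_3_3 lc_d_rc_16_4 lc_d_rc_17_0 lc_d_rc_16_4 lc_d_rc_22_2 lc_d_rc_16_2 lc_d_rc_8_3 lc_d_Cert_tree lc_d_rc_16_0 lc_d_rc_23_6 lc_d_rc_15_1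 lc_d_rc_8_3 lc_d_rc_16_0 lc_d_rc_17_2 lc_d_rc_27_10 lc_d_rc_15_1 lc_d_Cert_tree lc_d_rc_17_2 lc_d_rc_3_1 lc_d_rc_22_8 lc_d_rc_22_4 lc_d_rc_23_2 lc_d_rc_15_1 lc_d_rc_27_4 lc_d_rc_16_0 lc_d_rc_15_1 lc_d_Cert_tree lc_d_rc_15_1 lc_d_rc_17_2 lc_d_rc_24_5 lc_d_rc_15_1 lc_d_rc_16_4 lc_d_rc_15_1 lc_d_rc_15_1 lc_d_rc_16_2 lc_d_rc_15_1 lc_d_rc_15_1 lc_d_rc_23_6 lc_d_rc_22_8 lc_d_rc_16_4 lc_d_rc_22_4 lc_d_rc_27_10 lc_d_rc_15_1 lc_d_rc_15_1 lc_d_rc_15_1) (@D3.rec (fun _ => (Cert rels S Gen.d)) lc_d_Cert_tree lc_d_rc_22_6 lc_d_rc_24_0 lc_d_rc_15_1 lc_d_rc_15_1 lc_d_rc_24_0 lc_d_rc_23_2 lc_d_Cert_tree lc_d_rc_15_1 lc_d_rc_8_3 lc_d_rc_23_2 lc_d_rc_17_2 lc_d_rc_24_0 lc_d_rc_24_5 lc_d_rc_15_1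 lc_d_rc_27_4 lc_d_rc_15_1 lc_d_rc_27_10 lc_d_rc_8_3 lc_d_rc_23_2 lc_d_rc_8_3 lc_d_rc_27_10 lc_d_rc_23_2 lc_d_rc_17_2 lc_d_Cert_tree lc_d_rc_16_2 lc_d_Cert_tree lc_d_Cert_tree lc_d_Cert_tree lc_d_Cert_tree lc_d_Cert_tree lc_d_rc_15_1 lc_d_rc_27_4 lc_d_rc_23_4 lc_d_rc_24_0 lc_d_rc_17_2 lc_d_rc_17_2 lc_d_rc_15_1 lc_d_rc_15_1 lc_d_rc_15_1 lc_d_Cert_tree lc_d_rc_27_4 lc_d_rc_15_1 lc_d_rc_16_2 lc_d_Cert_tree lc_d_rc_16_4 lc_d_Cert_tree lc_d_Cert_tree lc_d_Cert_tree lc_d_rc_15_1 lc_d_rc_16_2 lc_d_rc_8_3 lc_d_rc_16_2 lc_d_rc_17_2 lc_d_rc_16_2 lc_d_rc_8_3 lc_d_Cert_tree lc_d_rc_23_8 lc_d_rc_23_8 lc_d_rc_15_1 lc_d_rc_8_3 lc_d_rc_27_8) (@D3.rec (fun _ => (Cert rels S Gen.d)) lc_d_rc_8_1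 lc_d_rc_16_2 lc_d_rc_23_2 lc_d_rc_15_1 lc_d_rc_22_2 lc_d_rc_23_6 lc_d_rc_23_4 lc_d_rc_17_2 lc_d_rc_15_1 lc_d_Cert_tree lc_d_rc_15_1 lc_d_rc_27_10 lc_d_rc_15_1 lc_d_rc_16_4 lc_d_rc_17_2 lc_d_rc_15_1 lc_d_rc_15_1 lc_d_rc_16_4 lc_d_rc_15_1 lc_d_rc_17_0 lc_d_rc_22_8 lc_d_Cert_tree lc_d_rc_3_3 lc_d_rc_23_4 lc_d_rc_15_1 lc_d_rc_27_4 lc_d_rc_24_5 lc_d_rc_27_8 lc_d_rc_15_1 lc_d_rc_15_1 lc_d_rc_8_3 lc_d_rc_15_1 lc_d_rc_16_2 lc_d_rc_27_2 lc_d_Cert_tree lc_d_rc_23_8 lc_d_rc_15_1 lc_d_Cert_tree lc_d_rc_23_2 lc_d_rc_15_1 lc_d_rc_15_1 lc_d_rc_17_2 lc_d_rc_15_1 lc_d_rc_15_1 lc_d_Cert_tree lc_d_rc_8_3 lc_d_Cert_tree lc_d_rc_16_4 lc_d_rc_24_0 lc_d_rc_15_1 lc_d_rc_17_2 lc_d_rc_3_3 lc_d_Cert_tree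 lc_d_rc_16_4 lc_d_rc_27_10 lc_d_rc_17_2 lc_d_rc_17_2 lc_d_rc_3_1 lc_d_rc_8_3 lc_d_rc_27_4 lc_d_rc_16_2 lc_d_rc_15_1) (@D3.rec (fun _ => (Cert rels S Gen.d)) lc_d_rc_17_2 lc_d_rc_22_4 lc_d_rc_16_2 lc_d_rc_15_1 lc_d_rc_22_8 lc_d_rc_16_4 lc_d_rc_8_3 lc_d_rc_8_3 lc_d_Cert_tree lc_d_rc_15_1 lc_d_rc_15_1 lc_d_rc_24_5 lc_d_rc_3_3 lc_d_rc_16_2 lc_d_rc_17_2 lc_d_rc_15_1 lc_d_rc_27_4 lc_d_rc_15_1 lc_d_rc_24_5 lc_d_rc_23_2 lc_d_rc_15_1 lc_d_rc_15_1 lc_d_rc_16_2 lc_d_rc_25_2 lc_d_rc_15_1 lc_d_rc_17_2 lc_d_rc_25_10 lc_d_Cert_tree lc_d_rc_16_4 lc_d_rc_23_8 lc_d_rc_17_2 lc_d_rc_15_1 lc_d_rc_17_0 lc_d_Cert_tree lc_d_rc_16_2 lc_d_Cert_tree lc_d_Cert_tree lc_d_rc_8_1 lc_d_rc_17_2 lc_d_rc_15_1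 lc_d_rc_15_1 lc_d_rc_16_2 lc_d_rc_15_1 lc_d_rc_15_1 lc_d_rc_23_6 lc_d_rc_8_3 lc_d_rc_8_3 lc_d_rc_16_4 lc_d_rc_15_1 lc_d_rc_15_1 lc_d_rc_17_2 lc_d_rc_15_1 lc_d_rc_15_1 lc_d_rc_15_1 lc_d_rc_17_0 lc_d_rc_17_0 lc_d_rc_17_2 lc_d_rc_15_1 lc_d_rc_24_0 lc_d_rc_16_2 lc_d_rc_16_4 lc_d_rc_15_1) (@D3.rec (fun _ => (Cert rels S Gen.d)) lc_d_rc_15_1 lc_d_rc_23_2 lc_d_rc_8_3 lc_d_rc_27_10 lc_d_rc_27_4 lc_d_rc_3_3 lc_d_rc_16_4 lc_d_rc_15_1 lc_d_rc_24_0 lc_d_rc_15_1 lc_d_rc_15_1 lc_d_rc_27_2 lc_d_rc_22_4 lc_d_rc_27_4 lc_d_rc_24_5 lc_d_rc_3_3 lc_d_rc_27_4 lc_d_rc_15_1 lc_d_rc_16_0 lc_d_rc_15_1 lc_d_rc_15_1 lc_d_rc_15_1 lc_d_rc_15_1 lc_d_rc_8_3 lc_d_Cert_tree lc_d_rc_17_2 lc_d_rc_22_8 lc_d_rc_17_2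 lc_d_Cert_tree lc_d_rc_16_2 lc_d_Cert_tree lc_d_Cert_tree lc_d_rc_15_1 lc_d_rc_17_2 lc_d_rc_15_1 lc_d_rc_15_1 lc_d_rc_23_2 lc_d_rc_15_1 lc_d_rc_15_1 lc_d_rc_15_1 lc_d_rc_15_1 lc_d_rc_8_3 lc_d_rc_17_2 lc_d_rc_15_1 lc_d_rc_23_4 lc_d_rc_16_0 lc_d_rc_17_2 lc_d_rc_17_2 lc_d_Cert_tree lc_d_rc_16_0 lc_d_Cert_tree lc_d_rc_16_0 lc_d_rc_17_2 lc_d_rc_16_2 lc_d_rc_23_2 lc_d_rc_23_4 lc_d_rc_15_1 lc_d_rc_27_4 lc_d_rc_27_4 lc_d_rc_24_5 lc_d_rc_24_0 lc_d_rc_16_4) (@D3.rec (fun _ => (Cert rels S Gen.d)) lc_d_rc_8_3 lc_d_rc_15_1 lc_d_rc_15_1 lc_d_rc_15_1 lc_d_rc_17_2 lc_d_rc_15_1 lc_d_rc_22_6 lc_d_rc_27_2 lc_d_rc_8_1 lc_d_rc_15_1 lc_d_rc_15_1 lc_d_rc_8_3 lc_d_rc_16_4 lc_d_rc_16_4 lc_d_rc_15_1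 lc_d_rc_15_1 lc_d_rc_3_1 lc_d_rc_8_3 lc_d_rc_8_3 lc_d_Cert_tree lc_d_rc_15_1 lc_d_rc_15_1 lc_d_rc_8_1 lc_d_rc_15_1 lc_d_rc_8_3 lc_d_rc_3_1 lc_d_rc_17_2 lc_d_rc_24_0 lc_d_rc_15_1 lc_d_rc_3_1 lc_d_rc_15_1 lc_d_rc_27_2 lc_d_rc_24_0 lc_d_rc_23_4 lc_d_rc_22_4 lc_d_rc_15_1 lc_d_rc_17_2 lc_d_rc_15_1 lc_d_rc_24_0 lc_d_rc_24_0 lc_d_rc_8_3 lc_d_Cert_tree lc_d_rc_15_1 lc_d_rc_27_10 lc_d_rc_15_1 lc_d_rc_23_4 lc_d_rc_15_1 lc_d_rc_16_2 lc_d_rc_15_1 lc_d_rc_23_2 lc_d_rc_17_0 lc_d_rc_15_1 lc_d_rc_27_10 lc_d_rc_15_1 lc_d_rc_27_4 lc_d_rc_15_1 lc_d_rc_15_1 lc_d_rc_3_1 lc_d_rc_17_0 lc_d_rc_16_0 lc_d_rc_15_1 lc_d_rc_23_6) (@D3.rec (fun _ => (Cert rels S Gen.d)) lc_d_rc_24_0 lc_d_rc_16_2 lc_d_Cert_tree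 lc_d_rc_15_1 lc_d_Cert_tree lc_d_rc_17_2 lc_d_rc_15_1 lc_d_rc_15_1 lc_d_Cert_tree lc_d_rc_12_3 lc_d_rc_15_1 lc_d_rc_27_10 lc_d_rc_8_3 lc_d_rc_27_2 lc_d_rc_15_1 lc_d_rc_27_4 lc_d_rc_23_4 lc_d_rc_22_6 lc_d_rc_17_2 lc_d_rc_8_3 lc_d_rc_23_6 lc_d_rc_24_0 lc_d_rc_24_5 lc_d_rc_22_2 lc_d_rc_17_2 lc_d_rc_27_4 lc_d_rc_15_1 lc_d_rc_15_1 lc_d_rc_15_1 lc_d_rc_27_4 lc_d_rc_24_5 lc_d_rc_15_1 lc_d_rc_8_3 lc_d_rc_22_6 lc_d_rc_3_3 lc_d_Cert_tree lc_d_rc_15_1 lc_d_rc_8_3 lc_d_rc_23_4 lc_d_rc_27_4 lc_d_rc_15_1 lc_d_rc_24_0 lc_d_rc_15_1 lc_d_rc_15_1 lc_d_rc_15_1 lc_d_rc_23_6 lc_d_rc_27_4 lc_d_rc_16_4 lc_d_Cert_tree lc_d_Cert_tree lc_d_rc_15_1 lc_d_rc_8_3 lc_d_rc_16_4 lc_d_rc_8_3 lc_d_rc_15_1 lc_d_rc_15_1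 lc_d_rc_15_1 lc_d_rc_27_10 lc_d_rc_15_1 lc_d_rc_25_14 lc_d_rc_16_4 lc_d_rc_15_1)
def ce_d_24 : D2 → D3 → (Cert rels S Gen.d) := @D2.rec (fun _ => D3 → (Cert rels S Gen.d)) (@D3.rec (fun _ => (Cert rels S Gen.d)) lc_d_rc_15_1 lc_d_rc_17_2 lc_d_rc_15_1 lc_d_Cert_tree lc_d_rc_8_3 lc_d_rc_16_2 lc_d_rc_17_2 lc_d_rc_23_6 lc_d_rc_17_2 lc_d_rc_27_4 lc_d_rc_8_3 lc_d_rc_27_4 lc_d_rc_8_3 lc_d_rc_27_4 lc_d_Cert_tree lc_d_rc_12_3 lc_d_Cert_tree lc_d_rc_27_2 lc_d_Cert_tree lc_d_Cert_tree lc_d_rc_22_4 lc_d_rc_15_1 lc_d_rc_23_4 lc_d_rc_15_1 lc_d_rc_16_4 lc_d_rc_15_1 lc_d_rc_27_4 lc_d_rc_3_3 lc_d_rc_22_6 lc_d_rc_3_3 lc_d_rc_23_2 lc_d_rc_17_2 lc_d_rc_16_4 lc_d_rc_15_1 lc_d_rc_23_8 lc_d_rc_16_4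 lc_d_rc_16_2 lc_d_rc_16_4 lc_d_rc_23_4 lc_d_rc_27_4 lc_d_rc_15_1 lc_d_rc_15_1 lc_d_rc_22_2 lc_d_rc_17_2 lc_d_rc_8_3 lc_d_rc_3_3 lc_d_rc_15_1 lc_d_rc_15_1 lc_d_rc_17_2 lc_d_rc_15_1 lc_d_rc_24_5 lc_d_rc_15_1 lc_d_Cert_tree lc_d_rc_15_1 lc_d_rc_15_1 lc_d_rc_15_1 lc_d_rc_17_2 lc_d_rc_23_2 lc_d_rc_15_1 lc_d_rc_22_6 lc_d_Cert_tree lc_d_rc_15_1) (@D3.rec (fun _ => (Cert rels S Gen.d)) lc_d_rc_15_1 lc_d_rc_24_5 lc_d_rc_22_4 lc_d_rc_16_2 lc_d_rc_8_1 lc_d_rc_22_8 lc_d_rc_15_1 lc_d_rc_22_4 lc_d_rc_15_1 lc_d_rc_15_1 lc_d_rc_17_2 lc_d_rc_23_4 lc_d_rc_15_1 lc_d_rc_3_1 lc_d_rc_8_1 lc_d_rc_27_4 lc_d_rc_23_6 lc_d_rc_23_4 lc_d_rc_27_2 lc_d_Cert_tree lc_d_rc_16_2 lc_d_Cert_tree lc_d_rc_16_4 lc_d_rc_16_4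 lc_d_rc_25_18 lc_d_rc_24_0 lc_d_rc_22_4 lc_d_rc_15_1 lc_d_rc_8_3 lc_d_rc_8_3 lc_d_rc_3_1 lc_d_Cert_tree lc_d_rc_16_4 lc_d_Cert_tree lc_d_rc_15_1 lc_d_rc_15_1 lc_d_rc_16_0 lc_d_rc_23_6 lc_d_rc_23_6 lc_d_rc_8_3 lc_d_rc_15_1 lc_d_rc_15_1 lc_d_rc_15_1 lc_d_rc_15_1 lc_d_Cert_tree lc_d_rc_15_1 lc_d_rc_15_1 lc_d_rc_25_14 lc_d_rc_3_1 lc_d_rc_27_4 lc_d_rc_15_1 lc_d_rc_16_2 lc_d_rc_15_1 lc_d_rc_15_1 lc_d_rc_17_2 lc_d_rc_15_1 lc_d_rc_8_3 lc_d_rc_15_1 lc_d_rc_8_3 lc_d_rc_8_1 lc_d_rc_24_0 lc_d_rc_16_2) (@D3.rec (fun _ => (Cert rels S Gen.d)) lc_d_rc_17_2 lc_d_rc_15_1 lc_d_rc_23_2 lc_d_rc_22_8 lc_d_rc_23_6 lc_d_rc_22_2 lc_d_rc_8_3 lc_d_rc_3_3 lc_d_rc_24_5 lc_d_rc_27_4 lc_d_rc_24_0 lc_d_Cert_tree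 lc_d_rc_15_1 lc_d_rc_15_1 lc_d_rc_17_2 lc_d_rc_17_2 lc_d_rc_8_3 lc_d_rc_12_15 lc_d_Cert_tree lc_d_rc_15_1 lc_d_rc_27_8 lc_d_rc_15_1 lc_d_rc_15_1 lc_d_rc_15_1 lc_d_Cert_tree lc_d_rc_8_3 lc_d_rc_8_3 lc_d_rc_15_1 lc_d_rc_23_6 lc_d_rc_15_1 lc_d_rc_16_2 lc_d_rc_8_1 lc_d_rc_23_2 lc_d_rc_16_4 lc_d_rc_15_1 lc_d_rc_22_8 lc_d_Cert_tree lc_d_rc_15_1 lc_d_Cert_tree lc_d_rc_17_2 lc_d_rc_15_1 lc_d_rc_24_0 lc_d_rc_15_1 lc_d_Cert_tree lc_d_rc_8_3 lc_d_rc_15_1 lc_d_rc_15_1 lc_d_Cert_tree lc_d_Cert_tree lc_d_rc_27_10 lc_d_rc_8_3 lc_d_rc_15_1 lc_d_rc_16_2 lc_d_rc_17_2 lc_d_rc_16_2 lc_d_rc_27_2 lc_d_rc_15_1 lc_d_rc_27_4 lc_d_Cert_tree lc_d_rc_15_1 lc_d_rc_17_2 lc_d_rc_15_1) (@D3.rec (fun _ => (Cert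 rels S Gen.d)) lc_d_rc_15_1 lc_d_rc_24_0 lc_d_rc_17_2 lc_d_rc_15_1 lc_d_rc_22_6 lc_d_rc_17_2 lc_d_Cert_tree lc_d_rc_8_3 lc_d_rc_8_3 lc_d_rc_16_4 lc_d_rc_27_2 lc_d_rc_17_2 lc_d_rc_15_1 lc_d_rc_3_3 lc_d_rc_15_1 lc_d_rc_27_2 lc_d_rc_23_6 lc_d_rc_15_1 lc_d_rc_22_6 lc_d_rc_15_1 lc_d_rc_22_2 lc_d_rc_15_1 lc_d_rc_3_3 lc_d_Cert_tree lc_d_rc_8_1 lc_d_Cert_tree lc_d_rc_16_2 lc_d_Cert_tree lc_d_rc_15_1 lc_d_rc_24_0 lc_d_rc_25_14 lc_d_Cert_tree lc_d_rc_8_3 lc_d_rc_8_3 lc_d_Cert_tree lc_d_rc_8_3 lc_d_rc_27_2 lc_d_rc_15_1 lc_d_rc_24_0 lc_d_rc_22_6 lc_d_rc_15_1 lc_d_rc_22_2 lc_d_rc_15_1 lc_d_Cert_tree lc_d_rc_15_1 lc_d_rc_3_3 lc_d_Cert_tree lc_d_rc_8_3 lc_d_Cert_tree lc_d_rc_8_3 lc_d_Cert_tree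 lc_d_rc_16_2 lc_d_rc_8_3 lc_d_Cert_tree lc_d_Cert_tree lc_d_rc_15_1 lc_d_rc_15_1 lc_d_Cert_tree lc_d_rc_15_1 lc_d_rc_15_1 lc_d_rc_17_2 lc_d_rc_24_0) (@D3.rec (fun _ => (Cert rels S Gen.d)) lc_d_rc_3_1 lc_d_rc_3_1 lc_d_rc_16_4 lc_d_rc_25_18 lc_d_rc_16_0 lc_d_rc_22_2 lc_d_rc_8_3 lc_d_rc_16_0 lc_d_rc_23_8 lc_d_rc_17_2 lc_d_rc_8_3 lc_d_Cert_tree lc_d_rc_3_3 lc_d_rc_16_4 lc_d_Cert_tree lc_d_rc_15_1 lc_d_Cert_tree lc_d_Cert_tree lc_d_rc_8_3 lc_d_rc_17_2 lc_d_rc_3_3 lc_d_rc_8_1 lc_d_rc_16_4 lc_d_rc_24_5 lc_d_rc_23_2 lc_d_rc_15_1 lc_d_rc_17_2 lc_d_rc_15_1 lc_d_rc_15_1 lc_d_Cert_tree lc_d_rc_16_4 lc_d_rc_23_6 lc_d_Cert_tree lc_d_rc_15_1 lc_d_rc_24_5 lc_d_Cert_tree lc_d_rc_16_2 lc_d_rc_17_2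 lc_d_rc_3_1 lc_d_rc_3_3 lc_d_rc_3_3 lc_d_Cert_tree lc_d_Cert_tree lc_d_rc_15_1 lc_d_rc_12_1 lc_d_rc_15_1 lc_d_rc_27_8 lc_d_rc_15_1 lc_d_rc_16_4 lc_d_rc_8_3 lc_d_rc_22_2 lc_d_rc_22_8 lc_d_rc_15_1 lc_d_rc_15_1 lc_d_rc_15_1 lc_d_rc_8_3 lc_d_rc_22_6 lc_d_rc_23_6 lc_d_rc_24_0 lc_d_rc_23_6 lc_d_rc_24_0 lc_d_rc_3_3) (@D3.rec (fun _ => (Cert rels S Gen.d)) lc_d_rc_22_4 lc_d_rc_15_1 lc_d_rc_22_2 lc_d_rc_16_2 lc_d_rc_27_4 lc_d_rc_15_1 lc_d_rc_8_3 lc_d_rc_3_3 lc_d_rc_8_3 lc_d_rc_15_1 lc_d_rc_23_8 lc_d_rc_24_0 lc_d_rc_15_1 lc_d_rc_15_1 lc_d_Cert_tree lc_d_rc_22_4 lc_d_rc_15_1 lc_d_rc_3_3 lc_d_rc_16_4 lc_d_rc_22_6 lc_d_rc_15_1 lc_d_rc_17_0 lc_d_rc_15_1 lc_d_rc_17_2 lc_d_rc_8_3 lc_d_Cert_tree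 lc_d_rc_15_1 lc_d_rc_8_3 lc_d_rc_15_1 lc_d_rc_8_3 lc_d_rc_23_4 lc_d_rc_15_1 lc_d_rc_27_4 lc_d_Cert_tree lc_d_rc_27_8 lc_d_Cert_tree lc_d_rc_15_1 lc_d_rc_8_1 lc_d_rc_15_1 lc_d_rc_23_2 lc_d_rc_15_1 lc_d_rc_3_3 lc_d_rc_8_3 lc_d_rc_3_3 lc_d_rc_17_0 lc_d_rc_27_2 lc_d_Cert_tree lc_d_rc_27_4 lc_d_Cert_tree lc_d_Cert_tree lc_d_rc_15_1 lc_d_rc_22_4 lc_d_rc_16_4 lc_d_Cert_tree lc_d_rc_8_3 lc_d_rc_22_8 lc_d_rc_16_4 lc_d_rc_27_10 lc_d_rc_27_10 lc_d_rc_27_2 lc_d_rc_15_1 lc_d_rc_15_1) (@D3.rec (fun _ => (Cert rels S Gen.d)) lc_d_rc_22_4 lc_d_rc_16_4 lc_d_rc_8_3 lc_d_Cert_tree lc_d_Cert_tree lc_d_Cert_tree lc_d_rc_15_1 lc_d_rc_25_14 lc_d_rc_23_4 lc_d_rc_15_1 lc_d_rc_8_3 lc_d_rc_15_1 lc_d_rc_27_4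 lc_d_rc_27_4 lc_d_rc_8_3 lc_d_rc_15_1 lc_d_rc_27_4 lc_d_rc_27_2 lc_d_rc_27_2 lc_d_rc_15_1 lc_d_rc_8_3 lc_d_Cert_tree lc_d_rc_27_2 lc_d_rc_24_0 lc_d_rc_22_2 lc_d_rc_15_1 lc_d_rc_15_1 lc_d_rc_24_0 lc_d_rc_15_1 lc_d_rc_16_2 lc_d_Cert_tree lc_d_rc_16_4 lc_d_rc_22_4 lc_d_rc_23_4 lc_d_rc_15_1 lc_d_rc_22_4 lc_d_rc_23_2 lc_d_rc_16_0 lc_d_rc_15_1 lc_d_rc_27_4 lc_d_rc_16_0 lc_d_rc_8_1 lc_d_rc_15_1 lc_d_rc_3_1 lc_d_rc_22_4 lc_d_rc_15_1 lc_d_rc_23_4 lc_d_rc_8_1 lc_d_rc_15_1 lc_d_rc_15_1 lc_d_Cert_tree lc_d_Cert_tree lc_d_rc_15_1 lc_d_rc_27_8 lc_d_Cert_tree lc_d_Cert_tree lc_d_rc_15_1 lc_d_rc_17_2 lc_d_rc_23_6 lc_d_rc_24_0 lc_d_rc_22_6 lc_d_rc_16_2) (@D3.rec (fun _ => (Cert rels S Gen.d))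 lc_d_rc_17_2 lc_d_rc_15_1 lc_d_rc_3_3 lc_d_rc_16_2 lc_d_rc_15_1 lc_d_rc_8_3 lc_d_rc_8_3 lc_d_rc_23_4 lc_d_rc_23_6 lc_d_rc_22_8 lc_d_rc_3_1 lc_d_rc_23_2 lc_d_rc_24_5 lc_d_Cert_tree lc_d_rc_24_5 lc_d_rc_3_3 lc_d_rc_8_3 lc_d_rc_24_5 lc_d_rc_17_2 lc_d_rc_22_2 lc_d_rc_15_1 lc_d_rc_15_1 lc_d_rc_16_4 lc_d_rc_3_3 lc_d_rc_3_3 lc_d_rc_24_0 lc_d_rc_15_1 lc_d_rc_8_3 lc_d_rc_24_0 lc_d_rc_15_1 lc_d_rc_16_0 lc_d_rc_15_1 lc_d_rc_22_2 lc_d_rc_16_2 lc_d_rc_8_3 lc_d_rc_3_3 lc_d_rc_15_1 lc_d_rc_24_0 lc_d_rc_3_3 lc_d_rc_8_3 lc_d_Cert_tree lc_d_Cert_tree lc_d_rc_15_1 lc_d_rc_15_1 lc_d_rc_27_2 lc_d_rc_22_6 lc_d_rc_17_2 lc_d_rc_15_1 lc_d_Cert_tree lc_d_rc_23_6 lc_d_rc_15_1 lc_d_rc_27_4 lc_d_rc_3_1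 lc_d_rc_15_1 lc_d_rc_22_4 lc_d_rc_15_1 lc_d_rc_12_3 lc_d_rc_17_2 lc_d_rc_17_0 lc_d_rc_16_4 lc_d_Cert_tree lc_d_Cert_tree) (@D3.rec (fun _ => (Cert rels S Gen.d)) lc_d_rc_3_3 lc_d_rc_8_3 lc_d_rc_16_2 lc_d_rc_16_0 lc_d_rc_24_0 lc_d_rc_22_4 lc_d_rc_15_1 lc_d_rc_24_0 lc_d_rc_27_4 lc_d_rc_15_1 lc_d_rc_15_1 lc_d_rc_22_2 lc_d_rc_15_1 lc_d_rc_27_4 lc_d_rc_17_0 lc_d_rc_22_2 lc_d_rc_16_4 lc_d_rc_15_1 lc_d_rc_3_3 lc_d_rc_27_2 lc_d_rc_27_2 lc_d_rc_15_1 lc_d_rc_3_3 lc_d_rc_15_1 lc_d_Cert_tree lc_d_rc_12_1 lc_d_rc_15_1 lc_d_rc_17_2 lc_d_rc_24_0 lc_d_rc_22_6 lc_d_rc_8_3 lc_d_rc_27_10 lc_d_rc_15_1 lc_d_rc_22_6 lc_d_rc_15_1 lc_d_rc_27_2 lc_d_rc_15_1 lc_d_rc_17_2 lc_d_rc_16_4 lc_d_rc_16_4 lc_d_rc_3_3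 lc_d_rc_17_2 lc_d_rc_27_4 lc_d_rc_15_1 lc_d_rc_3_3 lc_d_rc_8_3 lc_d_rc_15_1 lc_d_rc_3_3 lc_d_rc_16_2 lc_d_rc_17_2 lc_d_rc_3_3 lc_d_rc_15_1 lc_d_rc_27_4 lc_d_rc_3_3 lc_d_rc_16_4 lc_d_rc_8_3 lc_d_rc_8_3 lc_d_rc_24_5 lc_d_rc_27_4 lc_d_rc_8_3 lc_d_rc_27_4 lc_d_rc_23_2) (@D3.rec (fun _ => (Cert rels S Gen.d)) lc_d_rc_23_6 lc_d_rc_22_4 lc_d_rc_3_3 lc_d_rc_23_2 lc_d_Cert_tree lc_d_rc_15_1 lc_d_rc_17_0 lc_d_rc_23_4 lc_d_rc_15_1 lc_d_rc_8_1 lc_d_rc_17_2 lc_d_rc_22_4 lc_d_Cert_tree lc_d_rc_16_0 lc_d_rc_12_1 lc_d_rc_15_1 lc_d_rc_16_4 lc_d_rc_17_2 lc_d_rc_15_1 lc_d_rc_16_2 lc_d_rc_17_2 lc_d_rc_17_2 lc_d_rc_27_4 lc_d_rc_24_0 lc_d_rc_17_2 lc_d_rc_23_8 lc_d_rc_25_14 lc_d_rc_22_2 lc_d_rc_17_2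 lc_d_rc_27_2 lc_d_rc_3_3 lc_d_Cert_tree lc_d_rc_15_1 lc_d_rc_23_6 lc_d_rc_17_2 lc_d_rc_16_4 lc_d_rc_8_1 lc_d_rc_8_3 lc_d_rc_15_1 lc_d_rc_16_4 lc_d_Cert_tree lc_d_rc_15_1 lc_d_rc_16_4 lc_d_rc_22_4 lc_d_rc_15_1 lc_d_rc_17_2 lc_d_rc_15_1 lc_d_rc_8_3 lc_d_rc_15_1 lc_d_rc_8_3 lc_d_rc_23_4 lc_d_rc_8_3 lc_d_rc_27_4 lc_d_rc_17_2 lc_d_Cert_tree lc_d_Cert_tree lc_d_rc_15_1 lc_d_rc_16_2 lc_d_rc_22_8 lc_d_Cert_tree lc_d_rc_15_1 lc_d_rc_15_1) (@D3.rec (fun _ => (Cert rels S Gen.d)) lc_d_rc_15_1 lc_d_rc_15_1 lc_d_Cert_tree lc_d_rc_8_3 lc_d_rc_8_3 lc_d_rc_15_1 lc_d_rc_15_1 lc_d_rc_15_1 lc_d_rc_23_4 lc_d_rc_15_1 lc_d_rc_22_6 lc_d_rc_8_3 lc_d_rc_16_2 lc_d_rc_24_5 lc_d_rc_15_1 lc_d_rc_8_1 lc_d_rc_15_1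 lc_d_rc_8_3 lc_d_rc_15_1 lc_d_rc_24_0 lc_d_rc_17_2 lc_d_rc_3_3 lc_d_rc_16_4 lc_d_rc_16_2 lc_d_rc_16_2 lc_d_rc_23_4 lc_d_rc_23_6 lc_d_rc_15_1 lc_d_rc_27_2 lc_d_Cert_tree lc_d_rc_8_3 lc_d_rc_15_1 lc_d_rc_27_4 lc_d_rc_17_0 lc_d_rc_27_2 lc_d_rc_8_3 lc_d_rc_17_0 lc_d_rc_15_1 lc_d_rc_23_2 lc_d_Cert_tree lc_d_rc_8_1 lc_d_rc_15_1 lc_d_rc_15_1 lc_d_Cert_tree lc_d_rc_24_5 lc_d_rc_15_1 lc_d_rc_27_4 lc_d_rc_16_4 lc_d_rc_15_1 lc_d_rc_15_1 lc_d_rc_22_2 lc_d_rc_16_0 lc_d_rc_12_15 lc_d_rc_16_0 lc_d_rc_16_4 lc_d_Cert_tree lc_d_rc_17_2 lc_d_rc_16_2 lc_d_rc_15_1 lc_d_rc_15_1 lc_d_rc_15_1 lc_d_rc_22_4) (@D3.rec (fun _ => (Cert rels S Gen.d)) lc_d_rc_17_2 lc_d_rc_8_3 lc_d_rc_16_2 lc_d_rc_23_2 lc_d_rc_27_10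 lc_d_rc_15_1 lc_d_rc_23_6 lc_d_rc_16_4 lc_d_rc_8_3 lc_d_rc_17_2 lc_d_rc_12_15 lc_d_rc_15_1 lc_d_rc_23_6 lc_d_rc_17_2 lc_d_rc_22_4 lc_d_rc_16_4 lc_d_rc_27_2 lc_d_rc_22_2 lc_d_rc_8_1 lc_d_rc_15_1 lc_d_rc_24_5 lc_d_Cert_tree lc_d_rc_15_1 lc_d_rc_16_4 lc_d_rc_15_1 lc_d_rc_23_6 lc_d_rc_15_1 lc_d_rc_15_1 lc_d_rc_17_2 lc_d_rc_23_4 lc_d_rc_15_1 lc_d_rc_23_2 lc_d_rc_15_1 lc_d_rc_8_1 lc_d_rc_22_8 lc_d_rc_22_2 lc_d_rc_16_4 lc_d_rc_15_1 lc_d_rc_27_2 lc_d_rc_3_1 lc_d_rc_8_1 lc_d_rc_3_3 lc_d_Cert_tree lc_d_rc_24_0 lc_d_rc_15_1 lc_d_rc_17_2 lc_d_rc_12_13 lc_d_rc_27_10 lc_d_Cert_tree lc_d_Cert_tree lc_d_rc_15_1 lc_d_rc_17_2 lc_d_rc_3_3 lc_d_rc_8_3 lc_d_rc_22_4 lc_d_rc_22_2 lc_d_rc_23_4 lc_d_rc_24_0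 lc_d_rc_15_1 lc_d_rc_27_8 lc_d_rc_27_8 lc_d_rc_8_3) (@D3.rec (fun _ => (Cert rels S Gen.d)) lc_d_rc_15_1 lc_d_rc_15_1 lc_d_rc_22_8 lc_d_rc_17_2 lc_d_rc_22_4 lc_d_rc_8_1 lc_d_rc_22_8 lc_d_rc_8_3 lc_d_rc_3_1 lc_d_rc_15_1 lc_d_rc_16_4 lc_d_rc_23_2 lc_d_rc_16_4 lc_d_rc_15_1 lc_d_rc_16_2 lc_d_rc_23_2 lc_d_rc_16_4 lc_d_Cert_tree lc_d_rc_15_1 lc_d_rc_17_2 lc_d_rc_16_2 lc_d_rc_15_1 lc_d_rc_23_4 lc_d_rc_23_8 lc_d_rc_16_4 lc_d_rc_3_3 lc_d_rc_16_4 lc_d_rc_8_1 lc_d_rc_15_1 lc_d_rc_16_2 lc_d_rc_17_2 lc_d_rc_15_1 lc_d_rc_27_4 lc_d_rc_15_1 lc_d_rc_17_0 lc_d_rc_24_0 lc_d_rc_24_5 lc_d_rc_16_0 lc_d_rc_24_0 lc_d_rc_27_2 lc_d_rc_22_2 lc_d_Cert_tree lc_d_rc_15_1 lc_d_rc_23_8 lc_d_rc_17_2 lc_d_rc_24_0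 lc_d_rc_16_0 lc_d_rc_8_1 lc_d_rc_16_4 lc_d_rc_3_3 lc_d_rc_15_1 lc_d_rc_8_3 lc_d_rc_27_10 lc_d_rc_8_1 lc_d_rc_15_1 lc_d_rc_23_8 lc_d_rc_16_2 lc_d_rc_15_1 lc_d_Cert_tree lc_d_rc_16_4 lc_d_rc_17_2 lc_d_rc_15_1) (@D3.rec (fun _ => (Cert rels S Gen.d)) lc_d_Cert_tree lc_d_rc_27_10 lc_d_rc_15_1 lc_d_rc_3_1 lc_d_Cert_tree lc_d_rc_15_1 lc_d_rc_17_2 lc_d_rc_16_2 lc_d_rc_15_1 lc_d_rc_15_1 lc_d_Cert_tree lc_d_rc_23_6 lc_d_rc_8_3 lc_d_rc_17_2 lc_d_rc_24_0 lc_d_rc_15_1 lc_d_rc_8_1 lc_d_rc_15_1 lc_d_Cert_tree lc_d_rc_8_3 lc_d_rc_3_1 lc_d_rc_15_1 lc_d_rc_15_1 lc_d_rc_23_8 lc_d_rc_23_6 lc_d_rc_22_4 lc_d_rc_12_3 lc_d_rc_16_2 lc_d_rc_17_2 lc_d_rc_22_4 lc_d_rc_15_1 lc_d_rc_16_4 lc_d_rc_22_8 lc_d_rc_23_6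 lc_d_rc_23_2 lc_d_rc_17_2 lc_d_rc_8_3 lc_d_rc_15_1 lc_d_rc_15_1 lc_d_rc_17_2 lc_d_rc_8_1 lc_d_Cert_tree lc_d_rc_8_3 lc_d_rc_22_8 lc_d_rc_25_14 lc_d_rc_22_8 lc_d_rc_22_2 lc_d_Cert_tree lc_d_rc_16_4 lc_d_rc_15_1 lc_d_rc_25_2 lc_d_rc_15_1 lc_d_rc_15_1 lc_d_rc_15_1 lc_d_rc_17_2 lc_d_rc_23_8 lc_d_rc_15_1 lc_d_rc_22_6 lc_d_rc_16_4 lc_d_rc_27_10 lc_d_rc_8_1 lc_d_rc_15_1) (@D3.rec (fun _ => (Cert rels S Gen.d)) lc_d_rc_27_4 lc_d_rc_15_1 lc_d_rc_15_1 lc_d_rc_24_0 lc_d_rc_3_3 lc_d_rc_15_1 lc_d_rc_16_0 lc_d_rc_24_5 lc_d_rc_15_1 lc_d_rc_27_8 lc_d_rc_27_2 lc_d_rc_3_3 lc_d_rc_15_1 lc_d_rc_15_1 lc_d_rc_8_3 lc_d_rc_24_0 lc_d_rc_24_5 lc_d_rc_8_3 lc_d_rc_27_4 lc_d_rc_15_1 lc_d_rc_17_2 lc_d_rc_15_1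 lc_d_Cert_tree lc_d_rc_17_2 lc_d_rc_23_2 lc_d_rc_27_2 lc_d_rc_15_1 lc_d_rc_8_1 lc_d_rc_15_1 lc_d_rc_27_8 lc_d_rc_15_1 lc_d_rc_15_1 lc_d_Cert_tree lc_d_rc_17_2 lc_d_rc_15_1 lc_d_Cert_tree lc_d_rc_16_2 lc_d_Cert_tree lc_d_Cert_tree lc_d_rc_15_1 lc_d_Cert_tree lc_d_Cert_tree lc_d_rc_3_1 lc_d_Cert_tree lc_d_Cert_tree lc_d_rc_15_1 lc_d_rc_8_3 lc_d_rc_8_3 lc_d_rc_16_2 lc_d_rc_15_1 lc_d_rc_15_1 lc_d_rc_3_1 lc_d_rc_15_1 lc_d_rc_24_0 lc_d_rc_15_1 lc_d_rc_15_1 lc_d_rc_15_1 lc_d_rc_15_1 lc_d_rc_15_1 lc_d_rc_24_0 lc_d_rc_17_0 lc_d_rc_23_6) (@D3.rec (fun _ => (Cert rels S Gen.d)) lc_d_Cert_tree lc_d_rc_3_1 lc_d_rc_17_2 lc_d_rc_23_2 lc_d_rc_8_3 lc_d_Cert_tree lc_d_rc_15_1 lc_d_rc_8_1 lc_d_rc_27_4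 lc_d_rc_8_3 lc_d_rc_17_2 lc_d_Cert_tree lc_d_rc_16_4 lc_d_rc_15_1 lc_d_rc_16_2 lc_d_Cert_tree lc_d_rc_17_2 lc_d_rc_8_3 lc_d_rc_17_0 lc_d_rc_25_18 lc_d_rc_15_1 lc_d_rc_27_4 lc_d_rc_15_1 lc_d_rc_27_4 lc_d_rc_15_1 lc_d_rc_15_1 lc_d_rc_17_2 lc_d_rc_24_5 lc_d_rc_16_4 lc_d_rc_24_0 lc_d_rc_23_2 lc_d_rc_16_2 lc_d_rc_8_3 lc_d_rc_15_1 lc_d_rc_23_8 lc_d_rc_22_8 lc_d_Cert_tree lc_d_rc_8_3 lc_d_rc_27_2 lc_d_rc_15_1 lc_d_rc_8_3 lc_d_rc_15_1 lc_d_rc_22_4 lc_d_rc_8_3 lc_d_Cert_tree lc_d_rc_27_10 lc_d_rc_15_1 lc_d_rc_15_1 lc_d_rc_17_2 lc_d_rc_22_4 lc_d_rc_16_2 lc_d_rc_16_4 lc_d_rc_27_8 lc_d_rc_17_0 lc_d_rc_15_1 lc_d_rc_17_2 lc_d_rc_22_8 lc_d_rc_8_3 lc_d_rc_22_4 lc_d_rc_15_1 lc_d_rc_8_3 lc_d_rc_16_4)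 (@D3.rec (fun _ => (Cert rels S Gen.d)) lc_d_Cert_tree lc_d_rc_15_1 lc_d_rc_15_1 lc_d_rc_8_1 lc_d_rc_15_1 lc_d_rc_22_4 lc_d_rc_23_8 lc_d_rc_22_4 lc_d_rc_16_4 lc_d_rc_22_2 lc_d_rc_23_6 lc_d_rc_17_2 lc_d_rc_16_4 lc_d_rc_8_3 lc_d_rc_15_1 lc_d_Cert_tree lc_d_rc_16_2 lc_d_rc_24_0 lc_d_rc_22_4 lc_d_rc_15_1 lc_d_rc_17_2 lc_d_Cert_tree lc_d_rc_25_18 lc_d_rc_15_1 lc_d_rc_17_2 lc_d_rc_8_3 lc_d_rc_8_3 lc_d_rc_8_3 lc_d_rc_16_2 lc_d_rc_8_1 lc_d_Cert_tree lc_d_rc_16_0 lc_d_rc_3_3 lc_d_rc_8_1 lc_d_rc_22_6 lc_d_rc_22_6 lc_d_rc_16_4 lc_d_rc_27_10 lc_d_rc_17_2 lc_d_rc_23_8 lc_d_rc_16_4 lc_d_rc_16_4 lc_d_Cert_tree lc_d_rc_15_1 lc_d_rc_3_3 lc_d_rc_15_1 lc_d_Cert_tree lc_d_rc_16_2 lc_d_rc_16_0 lc_d_rc_8_1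 lc_d_rc_15_1 lc_d_rc_22_6 lc_d_rc_3_3 lc_d_rc_17_2 lc_d_rc_25_14 lc_d_rc_27_2 lc_d_rc_23_8 lc_d_rc_15_1 lc_d_rc_27_2 lc_d_Cert_tree lc_d_rc_16_0 lc_d_rc_22_6) (@D3.rec (fun _ => (Cert rels S Gen.d)) lc_d_rc_15_1 lc_d_rc_24_0 lc_d_rc_15_1 lc_d_rc_22_8 lc_d_rc_15_1 lc_d_rc_15_1 lc_d_Cert_tree lc_d_rc_16_4 lc_d_Cert_tree lc_d_rc_15_1 lc_d_rc_8_3 lc_d_rc_15_1 lc_d_rc_15_1 lc_d_rc_17_2 lc_d_rc_8_3 lc_d_rc_8_1 lc_d_rc_3_1 lc_d_rc_15_1 lc_d_rc_15_1 lc_d_Cert_tree lc_d_Cert_tree lc_d_rc_15_1 lc_d_Cert_tree lc_d_rc_15_1 lc_d_rc_8_3 lc_d_rc_16_2 lc_d_rc_8_3 lc_d_Cert_tree lc_d_rc_15_1 lc_d_rc_3_1 lc_d_rc_3_3 lc_d_rc_15_1 lc_d_rc_17_2 lc_d_rc_3_3 lc_d_rc_24_5 lc_d_rc_23_4 lc_d_rc_15_1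 lc_d_rc_27_2 lc_d_rc_15_1 lc_d_rc_8_1 lc_d_rc_23_4 lc_d_rc_15_1 lc_d_rc_22_2 lc_d_rc_15_1 lc_d_rc_23_4 lc_d_rc_23_6 lc_d_rc_22_6 lc_d_rc_23_6 lc_d_rc_23_4 lc_d_rc_22_4 lc_d_rc_8_1 lc_d_rc_25_2 lc_d_rc_15_1 lc_d_rc_8_3 lc_d_rc_27_4 lc_d_rc_17_2 lc_d_rc_15_1 lc_d_rc_27_8 lc_d_rc_15_1 lc_d_rc_15_1 lc_d_rc_16_0 lc_d_rc_17_2) (@D3.rec (fun _ => (Cert rels S Gen.d)) lc_d_rc_15_1 lc_d_rc_15_1 lc_d_rc_15_1 lc_d_rc_15_1 lc_d_rc_22_4 lc_d_rc_17_2 lc_d_rc_8_3 lc_d_rc_15_1 lc_d_rc_16_4 lc_d_rc_15_1 lc_d_rc_16_4 lc_d_rc_23_2 lc_d_rc_15_1 lc_d_rc_15_1 lc_d_rc_23_6 lc_d_rc_23_6 lc_d_rc_16_4 lc_d_rc_3_1 lc_d_rc_8_3 lc_d_rc_15_1 lc_d_rc_22_4 lc_d_Cert_tree lc_d_rc_15_1 lc_d_rc_27_10 lc_d_rc_15_1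 lc_d_rc_8_1 lc_d_rc_15_1 lc_d_rc_22_6 lc_d_Cert_tree lc_d_rc_24_0 lc_d_rc_17_0 lc_d_rc_23_6 lc_d_rc_22_6 lc_d_rc_15_1 lc_d_rc_15_1 lc_d_rc_15_1 lc_d_rc_22_6 lc_d_rc_23_6 lc_d_rc_3_1 lc_d_rc_15_1 lc_d_rc_15_1 lc_d_rc_24_0 lc_d_rc_23_4 lc_d_rc_15_1 lc_d_rc_3_3 lc_d_rc_27_8 lc_d_rc_23_4 lc_d_rc_22_4 lc_d_rc_8_1 lc_d_rc_3_3 lc_d_rc_16_2 lc_d_rc_24_5 lc_d_rc_23_4 lc_d_rc_27_10 lc_d_rc_23_6 lc_d_rc_15_1 lc_d_rc_24_0 lc_d_rc_22_4 lc_d_rc_23_4 lc_d_rc_27_10 lc_d_rc_17_2 lc_d_rc_27_2) (@D3.rec (fun _ => (Cert rels S Gen.d)) lc_d_rc_24_5 lc_d_rc_8_3 lc_d_rc_17_2 lc_d_rc_15_1 lc_d_rc_17_2 lc_d_rc_15_1 lc_d_rc_3_1 lc_d_rc_15_1 lc_d_rc_12_13 lc_d_rc_24_5 lc_d_rc_16_0 lc_d_rc_15_1 lc_d_Cert_tree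 lc_d_rc_23_4 lc_d_rc_17_2 lc_d_rc_12_3 lc_d_rc_22_2 lc_d_Cert_tree lc_d_rc_15_1 lc_d_rc_22_2 lc_d_rc_8_1 lc_d_rc_23_2 lc_d_rc_23_2 lc_d_rc_23_2 lc_d_Cert_tree lc_d_rc_15_1 lc_d_rc_3_3 lc_d_rc_8_1 lc_d_rc_15_1 lc_d_Cert_tree lc_d_rc_3_3 lc_d_rc_15_1 lc_d_Cert_tree lc_d_rc_15_1 lc_d_rc_3_3 lc_d_rc_8_3 lc_d_rc_15_1 lc_d_rc_3_1 lc_d_rc_15_1 lc_d_rc_8_3 lc_d_rc_12_15 lc_d_Cert_tree lc_d_rc_16_4 lc_d_rc_15_1 lc_d_rc_8_3 lc_d_rc_15_1 lc_d_rc_23_6 lc_d_rc_8_3 lc_d_rc_15_1 lc_d_Cert_tree lc_d_rc_15_1 lc_d_rc_8_3 lc_d_rc_15_1 lc_d_rc_27_10 lc_d_rc_8_3 lc_d_Cert_tree lc_d_rc_17_2 lc_d_rc_23_4 lc_d_rc_23_8 lc_d_Cert_tree lc_d_rc_15_1 lc_d_rc_22_4) (@D3.rec (fun _ => (Cert rels S Gen.d))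 lc_d_rc_16_4 lc_d_rc_16_4 lc_d_rc_15_1 lc_d_rc_15_1 lc_d_rc_27_8 lc_d_rc_15_1 lc_d_rc_16_0 lc_d_rc_27_4 lc_d_rc_15_1 lc_d_rc_24_0 lc_d_rc_15_1 lc_d_rc_27_8 lc_d_rc_16_0 lc_d_rc_22_6 lc_d_rc_22_4 lc_d_rc_27_2 lc_d_rc_3_1 lc_d_rc_15_1 lc_d_rc_23_2 lc_d_rc_15_1 lc_d_rc_15_1 lc_d_rc_23_8 lc_d_rc_17_2 lc_d_rc_15_1 lc_d_rc_27_4 lc_d_rc_27_8 lc_d_rc_15_1 lc_d_rc_24_0 lc_d_rc_27_2 lc_d_rc_15_1 lc_d_rc_15_1 lc_d_rc_22_4 lc_d_rc_17_2 lc_d_rc_8_1 lc_d_rc_15_1 lc_d_rc_24_5 lc_d_rc_15_1 lc_d_rc_3_1 lc_d_rc_8_3 lc_d_rc_24_5 lc_d_rc_15_1 lc_d_rc_24_5 lc_d_rc_17_0 lc_d_rc_27_10 lc_d_rc_15_1 lc_d_rc_8_1 lc_d_rc_16_4 lc_d_rc_8_3 lc_d_rc_15_1 lc_d_rc_27_4 lc_d_rc_15_1 lc_d_rc_15_1 lc_d_rc_27_4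 lc_d_Cert_tree lc_d_Cert_tree lc_d_rc_15_1 lc_d_rc_16_0 lc_d_rc_24_5 lc_d_rc_24_5 lc_d_rc_15_1 lc_d_Cert_tree lc_d_rc_15_1) (@D3.rec (fun _ => (Cert rels S Gen.d)) lc_d_rc_8_3 lc_d_rc_22_4 lc_d_rc_22_4 lc_d_rc_15_1 lc_d_Cert_tree lc_d_rc_23_6 lc_d_Cert_tree lc_d_rc_15_1 lc_d_rc_16_0 lc_d_rc_8_3 lc_d_rc_16_2 lc_d_rc_16_0 lc_d_rc_22_4 lc_d_Cert_tree lc_d_rc_8_3 lc_d_rc_22_4 lc_d_rc_27_8 lc_d_rc_27_2 lc_d_rc_27_2 lc_d_rc_22_2 lc_d_rc_8_1 lc_d_rc_8_3 lc_d_rc_15_1 lc_d_rc_8_1 lc_d_rc_22_8 lc_d_rc_24_5 lc_d_rc_15_1 lc_d_rc_15_1 lc_d_rc_17_2 lc_d_rc_27_10 lc_d_rc_15_1 lc_d_rc_3_3 lc_d_rc_15_1 lc_d_rc_17_2 lc_d_rc_25_2 lc_d_rc_15_1 lc_d_rc_24_0 lc_d_rc_16_4 lc_d_rc_16_2 lc_d_rc_22_2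 lc_d_rc_8_1 lc_d_rc_22_6 lc_d_rc_15_1 lc_d_rc_15_1 lc_d_rc_17_2 lc_d_rc_8_3 lc_d_rc_15_1 lc_d_rc_27_8 lc_d_rc_16_0 lc_d_rc_16_4 lc_d_rc_15_1 lc_d_rc_23_4 lc_d_rc_24_0 lc_d_rc_16_4 lc_d_Cert_tree lc_d_rc_15_1 lc_d_rc_23_2 lc_d_rc_3_3 lc_d_rc_16_4 lc_d_rc_15_1 lc_d_rc_27_8 lc_d_rc_23_8) (@D3.rec (fun _ => (Cert rels S Gen.d)) lc_d_rc_15_1 lc_d_rc_15_1 lc_d_rc_8_3 lc_d_rc_24_5 lc_d_rc_24_0 lc_d_rc_24_5 lc_d_rc_22_8 lc_d_rc_16_0 lc_d_Cert_tree lc_d_rc_15_1 lc_d_rc_27_2 lc_d_rc_23_6 lc_d_rc_15_1 lc_d_rc_15_1 lc_d_rc_15_1 lc_d_rc_3_1 lc_d_rc_15_1 lc_d_rc_27_2 lc_d_Cert_tree lc_d_rc_15_1 lc_d_rc_15_1 lc_d_rc_23_4 lc_d_rc_3_1 lc_d_rc_22_8 lc_d_Cert_tree lc_d_rc_15_1 lc_d_rc_22_2 lc_d_rc_22_6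 lc_d_rc_27_2 lc_d_rc_15_1 lc_d_rc_15_1 lc_d_rc_22_6 lc_d_rc_16_2 lc_d_rc_24_5 lc_d_rc_16_2 lc_d_rc_17_2 lc_d_rc_23_4 lc_d_rc_25_10 lc_d_rc_16_4 lc_d_rc_24_5 lc_d_rc_15_1 lc_d_Cert_tree lc_d_rc_24_0 lc_d_rc_27_8 lc_d_rc_15_1 lc_d_rc_8_3 lc_d_rc_3_3 lc_d_rc_8_3 lc_d_Cert_tree lc_d_Cert_tree lc_d_rc_15_1 lc_d_rc_17_2 lc_d_rc_22_2 lc_d_rc_3_3 lc_d_rc_8_3 lc_d_rc_27_4 lc_d_rc_8_3 lc_d_rc_24_0 lc_d_rc_17_2 lc_d_rc_8_3 lc_d_rc_15_1 lc_d_rc_22_6) (@D3.rec (fun _ => (Cert rels S Gen.d)) lc_d_rc_15_1 lc_d_rc_8_3 lc_d_rc_15_1 lc_d_rc_12_1 lc_d_rc_16_4 lc_d_rc_22_6 lc_d_rc_15_1 lc_d_rc_8_3 lc_d_rc_16_4 lc_d_rc_16_4 lc_d_rc_22_2 lc_d_rc_8_3 lc_d_rc_15_1 lc_d_Cert_tree lc_d_rc_15_1 lc_d_rc_23_6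 lc_d_rc_15_1 lc_d_rc_22_4 lc_d_rc_15_1 lc_d_rc_24_5 lc_d_rc_8_3 lc_d_rc_22_4 lc_d_rc_17_2 lc_d_rc_8_3 lc_d_rc_23_4 lc_d_rc_15_1 lc_d_rc_27_4 lc_d_rc_16_2 lc_d_rc_24_5 lc_d_rc_15_1 lc_d_rc_3_3 lc_d_rc_12_13 lc_d_rc_3_1 lc_d_rc_12_15 lc_d_rc_16_4 lc_d_rc_23_8 lc_d_rc_22_6 lc_d_rc_15_1 lc_d_rc_17_2 lc_d_rc_23_4 lc_d_rc_15_1 lc_d_rc_17_2 lc_d_Cert_tree lc_d_Cert_tree lc_d_rc_3_3 lc_d_rc_15_1 lc_d_rc_27_8 lc_d_Cert_tree lc_d_rc_15_1 lc_d_rc_17_2 lc_d_rc_15_1 lc_d_rc_22_4 lc_d_rc_17_2 lc_d_rc_27_8 lc_d_rc_3_3 lc_d_rc_22_6 lc_d_rc_17_2 lc_d_rc_22_4 lc_d_rc_12_1 lc_d_Cert_tree lc_d_rc_15_1 lc_d_rc_23_2) (@D3.rec (fun _ => (Cert rels S Gen.d)) lc_d_rc_15_1 lc_d_rc_17_2 lc_d_rc_17_2 lc_d_rc_16_4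 lc_d_rc_24_5 lc_d_rc_16_4 lc_d_rc_15_1 lc_d_rc_23_2 lc_d_rc_15_1 lc_d_Cert_tree lc_d_rc_17_2 lc_d_rc_15_1 lc_d_rc_8_3 lc_d_rc_23_4 lc_d_rc_3_3 lc_d_rc_15_1 lc_d_rc_27_4 lc_d_rc_22_4 lc_d_rc_15_1 lc_d_rc_16_2 lc_d_rc_15_1 lc_d_rc_8_1 lc_d_rc_23_6 lc_d_rc_27_4 lc_d_rc_22_6 lc_d_rc_16_4 lc_d_rc_15_1 lc_d_rc_24_5 lc_d_rc_27_2 lc_d_rc_23_6 lc_d_rc_3_3 lc_d_rc_15_1 lc_d_rc_23_4 lc_d_rc_16_4 lc_d_rc_15_1 lc_d_rc_25_6 lc_d_rc_23_4 lc_d_rc_22_2 lc_d_rc_8_3 lc_d_rc_24_0 lc_d_rc_16_2 lc_d_rc_15_1 lc_d_Cert_tree lc_d_rc_15_1 lc_d_rc_17_2 lc_d_rc_3_3 lc_d_rc_17_2 lc_d_rc_8_1 lc_d_rc_8_3 lc_d_rc_15_1 lc_d_Cert_tree lc_d_rc_8_3 lc_d_rc_15_1 lc_d_rc_22_8 lc_d_rc_23_6 lc_d_rc_23_6 lc_d_rc_17_2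 lc_d_rc_8_3 lc_d_rc_16_4 lc_d_rc_22_4 lc_d_rc_27_4 lc_d_rc_27_2) (@D3.rec (fun _ => (Cert rels S Gen.d)) lc_d_rc_16_2 lc_d_rc_17_2 lc_d_rc_15_1 lc_d_rc_17_2 lc_d_rc_15_1 lc_d_rc_17_2 lc_d_rc_16_0 lc_d_rc_8_1 lc_d_rc_17_0 lc_d_rc_23_2 lc_d_rc_15_1 lc_d_rc_22_6 lc_d_Cert_tree lc_d_rc_15_1 lc_d_rc_15_1 lc_d_rc_27_8 lc_d_rc_25_10 lc_d_rc_17_2 lc_d_rc_16_4 lc_d_rc_15_1 lc_d_rc_27_10 lc_d_rc_25_2 lc_d_rc_3_1 lc_d_rc_16_4 lc_d_rc_23_8 lc_d_rc_15_1 lc_d_rc_3_1 lc_d_rc_15_1 lc_d_rc_16_2 lc_d_rc_8_3 lc_d_rc_15_1 lc_d_rc_16_0 lc_d_rc_15_1 lc_d_rc_24_5 lc_d_rc_8_3 lc_d_Cert_tree lc_d_rc_15_1 lc_d_rc_24_0 lc_d_rc_22_4 lc_d_rc_25_18 lc_d_rc_8_1 lc_d_rc_16_4 lc_d_rc_15_1 lc_d_Cert_tree lc_d_rc_16_4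 lc_d_rc_23_2 lc_d_rc_8_3 lc_d_Cert_tree lc_d_rc_27_2 lc_d_Cert_tree lc_d_rc_16_2 lc_d_rc_23_8 lc_d_rc_15_1 lc_d_rc_16_0 lc_d_rc_8_3 lc_d_rc_8_3 lc_d_rc_3_1 lc_d_rc_15_1 lc_d_rc_22_2 lc_d_rc_25_10 lc_d_rc_22_2 lc_d_rc_16_4) (@D3.rec (fun _ => (Cert rels S Gen.d)) lc_d_rc_15_1 lc_d_rc_22_6 lc_d_rc_23_4 lc_d_rc_15_1 lc_d_Cert_tree lc_d_rc_16_2 lc_d_rc_15_1 lc_d_rc_15_1 lc_d_rc_16_4 lc_d_Cert_tree lc_d_rc_8_3 lc_d_Cert_tree lc_d_rc_15_1 lc_d_Cert_tree lc_d_rc_15_1 lc_d_rc_15_1 lc_d_rc_27_4 lc_d_rc_15_1 lc_d_rc_15_1 lc_d_rc_23_4 lc_d_rc_16_2 lc_d_rc_15_1 lc_d_Cert_tree lc_d_rc_15_1 lc_d_rc_22_8 lc_d_rc_16_4 lc_d_rc_24_0 lc_d_rc_15_1 lc_d_rc_15_1 lc_d_rc_15_1 lc_d_rc_17_2 lc_d_rc_15_1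 lc_d_rc_16_4 lc_d_rc_15_1 lc_d_rc_22_4 lc_d_rc_17_2 lc_d_rc_8_1 lc_d_rc_15_1 lc_d_Cert_tree lc_d_rc_15_1 lc_d_rc_24_5 lc_d_rc_23_8 lc_d_rc_22_4 lc_d_rc_12_15 lc_d_rc_22_2 lc_d_rc_23_6 lc_d_rc_22_8 lc_d_rc_16_2 lc_d_rc_22_8 lc_d_rc_22_4 lc_d_rc_24_5 lc_d_Cert_tree lc_d_Cert_tree lc_d_rc_27_4 lc_d_rc_3_3 lc_d_Cert_tree lc_d_rc_15_1 lc_d_rc_15_1 lc_d_rc_16_4 lc_d_rc_22_2 lc_d_rc_15_1 lc_d_rc_22_6) (@D3.rec (fun _ => (Cert rels S Gen.d)) lc_d_Cert_tree lc_d_Cert_tree lc_d_rc_17_2 lc_d_rc_3_1 lc_d_rc_16_4 lc_d_rc_15_1 lc_d_rc_27_8 lc_d_Cert_tree lc_d_rc_15_1 lc_d_rc_27_4 lc_d_rc_15_1 lc_d_Cert_tree lc_d_rc_24_0 lc_d_rc_15_1 lc_d_rc_3_1 lc_d_rc_17_0 lc_d_rc_16_0 lc_d_rc_24_0 lc_d_rc_15_1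 lc_d_Cert_tree lc_d_rc_17_2 lc_d_rc_15_1 lc_d_rc_8_3 lc_d_rc_17_2 lc_d_rc_8_3 lc_d_rc_3_1 lc_d_rc_16_4 lc_d_rc_16_4 lc_d_rc_15_1 lc_d_rc_16_4 lc_d_rc_15_1 lc_d_rc_23_2 lc_d_rc_15_1 lc_d_rc_27_8 lc_d_rc_15_1 lc_d_rc_22_4 lc_d_rc_16_2 lc_d_rc_23_4 lc_d_rc_16_4 lc_d_rc_24_0 lc_d_rc_16_0 lc_d_rc_8_3 lc_d_rc_3_1 lc_d_rc_22_6 lc_d_rc_15_1 lc_d_Cert_tree lc_d_rc_25_2 lc_d_rc_23_6 lc_d_rc_22_2 lc_d_Cert_tree lc_d_rc_15_1 lc_d_rc_17_2 lc_d_rc_3_3 lc_d_Cert_tree lc_d_rc_12_1 lc_d_rc_15_1 lc_d_rc_22_8 lc_d_rc_15_1 lc_d_rc_27_4 lc_d_Cert_tree lc_d_rc_27_4 lc_d_rc_15_1) (@D3.rec (fun _ => (Cert rels S Gen.d)) lc_d_rc_17_2 lc_d_rc_24_5 lc_d_rc_8_3 lc_d_rc_8_3 lc_d_Cert_tree lc_d_rc_15_1 lc_d_rc_17_2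 lc_d_rc_15_1 lc_d_rc_16_4 lc_d_rc_3_3 lc_d_Cert_tree lc_d_rc_27_4 lc_d_rc_15_1 lc_d_Cert_tree lc_d_rc_16_2 lc_d_rc_8_1 lc_d_rc_15_1 lc_d_rc_16_4 lc_d_rc_27_2 lc_d_rc_15_1 lc_d_rc_15_1 lc_d_rc_8_3 lc_d_rc_27_10 lc_d_rc_15_1 lc_d_Cert_tree lc_d_rc_16_4 lc_d_rc_23_2 lc_d_rc_27_2 lc_d_rc_15_1 lc_d_rc_15_1 lc_d_rc_27_4 lc_d_rc_17_2 lc_d_rc_22_2 lc_d_rc_27_2 lc_d_rc_15_1 lc_d_rc_15_1 lc_d_rc_15_1 lc_d_rc_23_8 lc_d_rc_23_2 lc_d_rc_15_1 lc_d_rc_3_3 lc_d_rc_16_0 lc_d_rc_22_2 lc_d_rc_15_1 lc_d_rc_17_2 lc_d_rc_15_1 lc_d_rc_17_2 lc_d_rc_3_3 lc_d_rc_15_1 lc_d_Cert_tree lc_d_Cert_tree lc_d_rc_15_1 lc_d_rc_15_1 lc_d_rc_23_6 lc_d_rc_8_3 lc_d_rc_16_4 lc_d_rc_24_0 lc_d_rc_15_1 lc_d_rc_27_4 lc_d_rc_23_2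 lc_d_rc_15_1 lc_d_rc_27_10) (@D3.rec (fun _ => (Cert rels S Gen.d)) lc_d_rc_15_1 lc_d_rc_27_2 lc_d_rc_17_2 lc_d_rc_22_8 lc_d_rc_16_2 lc_d_rc_23_2 lc_d_rc_12_1 lc_d_rc_22_4 lc_d_rc_15_1 lc_d_rc_8_3 lc_d_rc_8_1 lc_d_rc_15_1 lc_d_rc_12_11 lc_d_rc_15_1 lc_d_rc_27_2 lc_d_rc_15_1 lc_d_rc_8_3 lc_d_Cert_tree lc_d_rc_17_2 lc_d_rc_24_0 lc_d_rc_15_1 lc_d_Cert_tree lc_d_rc_15_1 lc_d_rc_15_1 lc_d_rc_3_1 lc_d_rc_15_1 lc_d_rc_15_1 lc_d_rc_22_4 lc_d_rc_23_4 lc_d_rc_23_2 lc_d_rc_27_2 lc_d_rc_27_2 lc_d_rc_15_1 lc_d_rc_17_2 lc_d_rc_3_3 lc_d_rc_15_1 lc_d_rc_16_4 lc_d_rc_27_4 lc_d_Cert_tree lc_d_rc_15_1 lc_d_rc_27_2 lc_d_rc_24_0 lc_d_Cert_tree lc_d_rc_15_1 lc_d_rc_23_8 lc_d_rc_27_10 lc_d_rc_15_1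 lc_d_rc_15_1 lc_d_rc_17_2 lc_d_Cert_tree lc_d_rc_16_4 lc_d_rc_8_3 lc_d_rc_3_1 lc_d_rc_27_4 lc_d_rc_8_3 lc_d_rc_17_2 lc_d_rc_27_10 lc_d_rc_23_4 lc_d_rc_3_3 lc_d_rc_16_4 lc_d_rc_17_2 lc_d_Cert_tree) (@D3.rec (fun _ => (Cert rels S Gen.d)) lc_d_rc_15_1 lc_d_rc_27_4 lc_d_rc_24_0 lc_d_rc_15_1 lc_d_rc_22_4 lc_d_rc_15_1 lc_d_rc_15_1 lc_d_rc_17_2 lc_d_rc_3_3 lc_d_rc_8_3 lc_d_rc_15_1 lc_d_rc_16_4 lc_d_rc_22_8 lc_d_rc_8_3 lc_d_rc_27_10 lc_d_rc_15_1 lc_d_rc_15_1 lc_d_rc_8_3 lc_d_rc_15_1 lc_d_rc_12_1 lc_d_rc_3_3 lc_d_rc_24_5 lc_d_rc_15_1 lc_d_rc_17_2 lc_d_rc_17_0 lc_d_rc_16_0 lc_d_rc_27_4 lc_d_rc_8_1 lc_d_Cert_tree lc_d_rc_3_3 lc_d_rc_15_1 lc_d_rc_27_8 lc_d_rc_16_4 lc_d_rc_27_4 lc_d_rc_22_4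 lc_d_rc_12_15 lc_d_rc_15_1 lc_d_rc_22_4 lc_d_rc_15_1 lc_d_rc_8_1 lc_d_rc_15_1 lc_d_rc_15_1 lc_d_rc_8_3 lc_d_rc_15_1 lc_d_rc_27_10 lc_d_rc_8_3 lc_d_rc_27_8 lc_d_rc_24_5 lc_d_Cert_tree lc_d_rc_3_1 lc_d_rc_3_3 lc_d_rc_15_1 lc_d_rc_23_2 lc_d_rc_15_1 lc_d_rc_3_1 lc_d_rc_22_4 lc_d_rc_16_2 lc_d_rc_24_0 lc_d_rc_15_1 lc_d_rc_22_4 lc_d_rc_8_3 lc_d_rc_25_10) (@D3.rec (fun _ => (Cert rels S Gen.d)) lc_d_rc_17_2 lc_d_rc_3_3 lc_d_rc_15_1 lc_d_rc_27_4 lc_d_rc_15_1 lc_d_rc_27_2 lc_d_rc_22_4 lc_d_rc_3_3 lc_d_rc_15_1 lc_d_Cert_tree lc_d_rc_3_3 lc_d_rc_16_2 lc_d_rc_27_10 lc_d_rc_15_1 lc_d_rc_15_1 lc_d_rc_15_1 lc_d_rc_17_2 lc_d_rc_15_1 lc_d_rc_27_4 lc_d_rc_15_1 lc_d_Cert_tree lc_d_rc_22_4 lc_d_rc_24_5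 lc_d_rc_15_1 lc_d_rc_27_4 lc_d_rc_8_1 lc_d_rc_27_2 lc_d_rc_8_3 lc_d_rc_15_1 lc_d_rc_27_10 lc_d_rc_27_4 lc_d_rc_23_8 lc_d_rc_23_8 lc_d_rc_27_8 lc_d_Cert_tree lc_d_Cert_tree lc_d_rc_22_2 lc_d_rc_15_1 lc_d_rc_15_1 lc_d_Cert_tree lc_d_Cert_tree lc_d_rc_16_4 lc_d_rc_16_0 lc_d_rc_27_2 lc_d_rc_27_8 lc_d_rc_8_1 lc_d_rc_27_10 lc_d_Cert_tree lc_d_rc_24_5 lc_d_rc_16_4 lc_d_rc_23_2 lc_d_rc_15_1 lc_d_rc_25_2 lc_d_rc_15_1 lc_d_Cert_tree lc_d_rc_15_1 lc_d_rc_15_1 lc_d_rc_27_8 lc_d_Cert_tree lc_d_rc_16_2 lc_d_rc_16_0 lc_d_Cert_tree) (@D3.rec (fun _ => (Cert rels S Gen.d)) lc_d_rc_8_3 lc_d_Cert_tree lc_d_rc_16_4 lc_d_rc_16_4 lc_d_rc_15_1 lc_d_rc_22_8 lc_d_rc_15_1 lc_d_rc_16_4 lc_d_rc_16_2 lc_d_rc_27_4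 lc_d_rc_15_1 lc_d_rc_17_2 lc_d_Cert_tree lc_d_rc_23_8 lc_d_rc_15_1 lc_d_rc_17_2 lc_d_rc_8_3 lc_d_rc_27_4 lc_d_rc_17_0 lc_d_rc_22_4 lc_d_rc_15_1 lc_d_rc_16_0 lc_d_rc_15_1 lc_d_rc_15_1 lc_d_rc_15_1 lc_d_rc_27_4 lc_d_rc_24_5 lc_d_rc_22_2 lc_d_rc_24_5 lc_d_rc_16_4 lc_d_rc_22_2 lc_d_rc_8_3 lc_d_rc_22_4 lc_d_rc_12_3 lc_d_rc_16_2 lc_d_rc_16_2 lc_d_rc_16_4 lc_d_rc_8_3 lc_d_rc_23_4 lc_d_rc_23_4 lc_d_rc_8_3 lc_d_rc_17_2 lc_d_rc_24_0 lc_d_rc_22_2 lc_d_rc_15_1 lc_d_rc_8_3 lc_d_rc_15_1 lc_d_rc_3_1 lc_d_rc_3_3 lc_d_rc_24_0 lc_d_rc_15_1 lc_d_rc_22_4 lc_d_rc_23_2 lc_d_rc_23_6 lc_d_rc_15_1 lc_d_rc_23_2 lc_d_rc_24_0 lc_d_rc_16_4 lc_d_rc_27_4 lc_d_rc_15_1 lc_d_rc_17_2 lc_d_Cert_tree) (@D3.rec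 (fun _ => (Cert rels S Gen.d)) lc_d_rc_8_3 lc_d_rc_12_15 lc_d_rc_22_4 lc_d_rc_15_1 lc_d_rc_24_0 lc_d_rc_8_3 lc_d_rc_16_4 lc_d_rc_27_10 lc_d_rc_8_3 lc_d_rc_17_2 lc_d_rc_24_5 lc_d_rc_15_1 lc_d_rc_23_6 lc_d_rc_15_1 lc_d_rc_22_8 lc_d_rc_17_2 lc_d_rc_16_4 lc_d_Cert_tree lc_d_rc_16_2 lc_d_rc_22_4 lc_d_Cert_tree lc_d_rc_16_4 lc_d_Cert_tree lc_d_Cert_tree lc_d_rc_15_1 lc_d_Cert_tree lc_d_rc_16_4 lc_d_rc_23_8 lc_d_rc_17_2 lc_d_rc_27_2 lc_d_rc_22_2 lc_d_rc_8_3 lc_d_rc_8_1 lc_d_rc_15_1 lc_d_rc_15_1 lc_d_rc_15_1 lc_d_rc_15_1 lc_d_rc_16_2 lc_d_rc_23_2 lc_d_rc_16_4 lc_d_Cert_tree lc_d_rc_8_3 lc_d_rc_15_1 lc_d_rc_27_2 lc_d_Cert_tree lc_d_rc_23_6 lc_d_rc_15_1 lc_d_rc_17_2 lc_d_rc_15_1 lc_d_rc_8_3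 lc_d_rc_8_3 lc_d_rc_8_1 lc_d_rc_27_10 lc_d_rc_15_1 lc_d_rc_12_5 lc_d_rc_24_5 lc_d_rc_15_1 lc_d_rc_27_4 lc_d_rc_23_4 lc_d_rc_15_1 lc_d_rc_15_1 lc_d_rc_17_2) (@D3.rec (fun _ => (Cert rels S Gen.d)) lc_d_rc_3_1 lc_d_rc_16_2 lc_d_rc_15_1 lc_d_rc_22_8 lc_d_rc_15_1 lc_d_rc_8_3 lc_d_rc_16_4 lc_d_rc_27_10 lc_d_rc_27_8 lc_d_rc_16_4 lc_d_rc_15_1 lc_d_rc_15_1 lc_d_rc_27_2 lc_d_rc_15_1 lc_d_rc_23_4 lc_d_rc_22_2 lc_d_rc_15_1 lc_d_rc_15_1 lc_d_rc_27_8 lc_d_rc_15_1 lc_d_rc_12_3 lc_d_rc_27_2 lc_d_rc_15_1 lc_d_rc_15_1 lc_d_rc_27_4 lc_d_rc_27_4 lc_d_rc_8_3 lc_d_rc_15_1 lc_d_rc_22_2 lc_d_rc_16_4 lc_d_rc_24_5 lc_d_rc_8_1 lc_d_rc_22_8 lc_d_rc_15_1 lc_d_rc_17_2 lc_d_rc_22_2 lc_d_rc_3_1 lc_d_rc_8_3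 lc_d_Cert_tree lc_d_rc_8_3 lc_d_rc_15_1 lc_d_rc_15_1 lc_d_rc_24_0 lc_d_rc_22_4 lc_d_rc_15_1 lc_d_rc_15_1 lc_d_rc_8_3 lc_d_rc_8_3 lc_d_rc_22_2 lc_d_rc_25_10 lc_d_rc_15_1 lc_d_rc_17_2 lc_d_rc_15_1 lc_d_rc_17_2 lc_d_rc_22_2 lc_d_rc_15_1 lc_d_rc_3_3 lc_d_rc_17_2 lc_d_rc_15_1 lc_d_rc_17_2 lc_d_rc_23_4 lc_d_rc_15_1) (@D3.rec (fun _ => (Cert rels S Gen.d)) lc_d_rc_16_2 lc_d_rc_15_1 lc_d_rc_22_2 lc_d_rc_17_2 lc_d_rc_15_1 lc_d_rc_27_4 lc_d_rc_12_13 lc_d_rc_15_1 lc_d_Cert_tree lc_d_rc_3_1 lc_d_rc_15_1 lc_d_rc_27_8 lc_d_rc_23_2 lc_d_rc_16_2 lc_d_Cert_tree lc_d_rc_16_2 lc_d_rc_22_2 lc_d_Cert_tree lc_d_Cert_tree lc_d_rc_15_1 lc_d_rc_24_5 lc_d_rc_27_8 lc_d_rc_27_2 lc_d_rc_15_1 lc_d_rc_15_1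 lc_d_Cert_tree lc_d_rc_22_4 lc_d_Cert_tree lc_d_rc_8_1 lc_d_rc_15_1 lc_d_rc_3_1 lc_d_rc_16_4 lc_d_rc_16_0 lc_d_rc_15_1 lc_d_rc_17_2 lc_d_rc_8_3 lc_d_rc_15_1 lc_d_rc_3_3 lc_d_rc_8_3 lc_d_rc_8_3 lc_d_rc_8_3 lc_d_rc_15_1 lc_d_rc_15_1 lc_d_rc_24_5 lc_d_rc_15_1 lc_d_rc_17_2 lc_d_Cert_tree lc_d_rc_15_1 lc_d_rc_17_2 lc_d_rc_23_2 lc_d_rc_3_3 lc_d_rc_15_1 lc_d_rc_3_1 lc_d_rc_15_1 lc_d_rc_3_1 lc_d_rc_24_0 lc_d_rc_22_2 lc_d_rc_15_1 lc_d_rc_8_3 lc_d_Cert_tree lc_d_rc_22_4 lc_d_rc_15_1) (@D3.rec (fun _ => (Cert rels S Gen.d)) lc_d_rc_16_0 lc_d_rc_8_1 lc_d_rc_27_10 lc_d_rc_24_0 lc_d_rc_3_3 lc_d_rc_17_2 lc_d_rc_27_10 lc_d_rc_8_1 lc_d_Cert_tree lc_d_rc_17_2 lc_d_rc_12_1 lc_d_rc_16_4 lc_d_rc_24_5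 lc_d_rc_27_2 lc_d_rc_23_4 lc_d_rc_15_1 lc_d_rc_15_1 lc_d_rc_27_2 lc_d_rc_8_1 lc_d_rc_27_10 lc_d_rc_16_0 lc_d_rc_17_2 lc_d_rc_27_10 lc_d_rc_16_2 lc_d_rc_15_1 lc_d_Cert_tree lc_d_rc_8_3 lc_d_Cert_tree lc_d_rc_15_1 lc_d_rc_8_3 lc_d_rc_22_4 lc_d_rc_8_3 lc_d_Cert_tree lc_d_Cert_tree lc_d_rc_15_1 lc_d_rc_22_6 lc_d_rc_15_1 lc_d_rc_25_18 lc_d_Cert_tree lc_d_rc_27_2 lc_d_Cert_tree lc_d_rc_22_2 lc_d_rc_27_2 lc_d_rc_8_3 lc_d_rc_27_8 lc_d_rc_27_2 lc_d_rc_24_5 lc_d_rc_24_5 lc_d_rc_27_10 lc_d_rc_15_1 lc_d_rc_15_1 lc_d_rc_15_1 lc_d_rc_15_1 lc_d_rc_22_2 lc_d_rc_17_2 lc_d_rc_15_1 lc_d_rc_15_1 lc_d_rc_15_1 lc_d_Cert_tree lc_d_Cert_tree lc_d_rc_15_1 lc_d_Cert_tree) (@D3.rec (fun _ => (Cert rels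 S Gen.d)) lc_d_rc_3_3 lc_d_rc_17_2 lc_d_rc_24_0 lc_d_rc_23_4 lc_d_rc_17_2 lc_d_Cert_tree lc_d_rc_24_0 lc_d_rc_15_1 lc_d_rc_8_3 lc_d_rc_15_1 lc_d_rc_17_2 lc_d_rc_8_3 lc_d_Cert_tree lc_d_rc_15_1 lc_d_rc_15_1 lc_d_rc_24_5 lc_d_rc_15_1 lc_d_rc_24_5 lc_d_rc_15_1 lc_d_rc_15_1 lc_d_rc_8_3 lc_d_rc_15_1 lc_d_Cert_tree lc_d_Cert_tree lc_d_rc_15_1 lc_d_rc_24_5 lc_d_rc_15_1 lc_d_rc_27_4 lc_d_rc_8_3 lc_d_rc_17_0 lc_d_rc_8_3 lc_d_rc_22_4 lc_d_rc_8_3 lc_d_rc_24_0 lc_d_rc_8_1 lc_d_rc_27_4 lc_d_rc_22_2 lc_d_rc_15_1 lc_d_rc_22_6 lc_d_rc_27_10 lc_d_rc_8_3 lc_d_rc_15_1 lc_d_rc_8_1 lc_d_rc_22_4 lc_d_rc_15_1 lc_d_rc_27_8 lc_d_rc_24_5 lc_d_rc_15_1 lc_d_rc_15_1 lc_d_rc_24_0 lc_d_rc_16_2 lc_d_rc_8_3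 lc_d_rc_22_8 lc_d_rc_16_0 lc_d_rc_27_10 lc_d_rc_17_2 lc_d_rc_16_2 lc_d_rc_15_1 lc_d_rc_15_1 lc_d_rc_16_4 lc_d_rc_16_4 lc_d_rc_8_3) (@D3.rec (fun _ => (Cert rels S Gen.d)) lc_d_Cert_tree lc_d_Cert_tree lc_d_rc_15_1 lc_d_rc_17_2 lc_d_rc_8_3 lc_d_rc_25_14 lc_d_rc_8_3 lc_d_rc_23_4 lc_d_rc_12_15 lc_d_rc_17_0 lc_d_rc_8_1 lc_d_Cert_tree lc_d_rc_15_1 lc_d_rc_15_1 lc_d_rc_16_2 lc_d_Cert_tree lc_d_rc_16_4 lc_d_rc_16_0 lc_d_rc_3_3 lc_d_rc_15_1 lc_d_rc_17_2 lc_d_rc_16_2 lc_d_rc_15_1 lc_d_rc_17_2 lc_d_rc_15_1 lc_d_rc_15_1 lc_d_rc_27_4 lc_d_rc_8_3 lc_d_rc_24_0 lc_d_Cert_tree lc_d_rc_23_6 lc_d_rc_17_2 lc_d_rc_24_0 lc_d_rc_8_3 lc_d_rc_8_3 lc_d_rc_16_4 lc_d_rc_23_4 lc_d_rc_24_0 lc_d_rc_22_2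 lc_d_rc_16_2 lc_d_rc_15_1 lc_d_rc_17_2 lc_d_rc_23_4 lc_d_rc_8_3 lc_d_rc_24_0 lc_d_rc_3_3 lc_d_rc_24_5 lc_d_rc_23_8 lc_d_rc_15_1 lc_d_rc_8_3 lc_d_rc_15_1 lc_d_rc_16_4 lc_d_rc_24_5 lc_d_rc_27_10 lc_d_rc_15_1 lc_d_rc_27_8 lc_d_rc_8_3 lc_d_rc_15_1 lc_d_rc_27_10 lc_d_rc_15_1 lc_d_rc_8_3 lc_d_rc_25_2) (@D3.rec (fun _ => (Cert rels S Gen.d)) lc_d_rc_8_3 lc_d_Cert_tree lc_d_rc_16_4 lc_d_rc_15_1 lc_d_rc_15_1 lc_d_rc_17_2 lc_d_rc_27_4 lc_d_rc_8_1 lc_d_rc_12_13 lc_d_rc_8_3 lc_d_rc_15_1 lc_d_rc_15_1 lc_d_rc_3_1 lc_d_rc_15_1 lc_d_rc_8_3 lc_d_rc_8_3 lc_d_rc_27_10 lc_d_rc_16_2 lc_d_rc_17_2 lc_d_rc_16_4 lc_d_Cert_tree lc_d_rc_15_1 lc_d_rc_16_2 lc_d_rc_23_2 lc_d_rc_17_2 lc_d_rc_22_4 lc_d_rc_15_1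 lc_d_rc_15_1 lc_d_rc_22_6 lc_d_rc_15_1 lc_d_rc_22_6 lc_d_rc_8_3 lc_d_rc_17_2 lc_d_rc_27_10 lc_d_rc_17_2 lc_d_rc_27_10 lc_d_rc_17_2 lc_d_rc_24_5 lc_d_rc_16_4 lc_d_rc_8_3 lc_d_rc_17_0 lc_d_rc_22_2 lc_d_rc_16_4 lc_d_rc_8_3 lc_d_rc_16_2 lc_d_Cert_tree lc_d_rc_17_2 lc_d_rc_15_1 lc_d_rc_15_1 lc_d_rc_17_2 lc_d_rc_15_1 lc_d_rc_8_1 lc_d_rc_23_4 lc_d_rc_27_4 lc_d_rc_27_10 lc_d_rc_8_3 lc_d_Cert_tree lc_d_rc_27_10 lc_d_rc_15_1 lc_d_rc_27_10 lc_d_rc_15_1 lc_d_rc_15_1) (@D3.rec (fun _ => (Cert rels S Gen.d)) lc_d_rc_8_3 lc_d_rc_15_1 lc_d_Cert_tree lc_d_rc_16_4 lc_d_rc_15_1 lc_d_rc_17_2 lc_d_rc_23_2 lc_d_rc_15_1 lc_d_Cert_tree lc_d_rc_16_4 lc_d_Cert_tree lc_d_Cert_tree lc_d_rc_15_1 lc_d_rc_24_5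 lc_d_rc_8_3 lc_d_rc_15_1 lc_d_rc_8_3 lc_d_Cert_tree lc_d_rc_24_0 lc_d_rc_15_1 lc_d_rc_27_8 lc_d_rc_27_2 lc_d_rc_15_1 lc_d_rc_17_2 lc_d_rc_17_2 lc_d_rc_3_3 lc_d_rc_25_18 lc_d_rc_17_2 lc_d_rc_8_3 lc_d_rc_16_2 lc_d_Cert_tree lc_d_rc_8_3 lc_d_rc_23_4 lc_d_rc_27_2 lc_d_rc_3_1 lc_d_rc_17_2 lc_d_rc_15_1 lc_d_rc_15_1 lc_d_rc_27_2 lc_d_rc_17_2 lc_d_rc_15_1 lc_d_rc_16_2 lc_d_rc_12_1 lc_d_rc_17_2 lc_d_rc_23_6 lc_d_rc_8_1 lc_d_rc_16_2 lc_d_rc_15_1 lc_d_rc_16_0 lc_d_rc_16_2 lc_d_rc_15_1 lc_d_rc_16_2 lc_d_rc_16_4 lc_d_rc_8_3 lc_d_rc_16_4 lc_d_rc_27_2 lc_d_rc_22_4 lc_d_rc_15_1 lc_d_rc_8_3 lc_d_rc_27_4 lc_d_rc_27_2 lc_d_rc_15_1) (@D3.rec (fun _ => (Cert rels S Gen.d)) lc_d_rc_15_1 lc_d_rc_3_3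 lc_d_rc_16_2 lc_d_rc_15_1 lc_d_rc_12_5 lc_d_rc_24_5 lc_d_rc_27_8 lc_d_rc_15_1 lc_d_rc_8_3 lc_d_rc_16_4 lc_d_rc_24_5 lc_d_rc_15_1 lc_d_Cert_tree lc_d_rc_16_2 lc_d_rc_16_4 lc_d_rc_27_2 lc_d_rc_17_2 lc_d_rc_3_3 lc_d_rc_15_1 lc_d_rc_17_2 lc_d_rc_15_1 lc_d_rc_25_2 lc_d_rc_15_1 lc_d_rc_3_3 lc_d_rc_16_2 lc_d_rc_3_3 lc_d_rc_15_1 lc_d_rc_12_1 lc_d_rc_27_4 lc_d_rc_27_8 lc_d_rc_8_3 lc_d_rc_17_2 lc_d_rc_24_5 lc_d_rc_15_1 lc_d_rc_16_2 lc_d_rc_8_1 lc_d_rc_27_2 lc_d_rc_17_2 lc_d_rc_15_1 lc_d_rc_23_6 lc_d_rc_12_15 lc_d_rc_12_1 lc_d_rc_23_2 lc_d_rc_22_4 lc_d_Cert_tree lc_d_rc_15_1 lc_d_Cert_tree lc_d_rc_25_14 lc_d_rc_3_3 lc_d_rc_16_4 lc_d_rc_15_1 lc_d_rc_27_4 lc_d_rc_16_2 lc_d_rc_24_0 lc_d_rc_15_1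 lc_d_rc_23_8 lc_d_Cert_tree lc_d_rc_16_2 lc_d_rc_24_0 lc_d_rc_22_4 lc_d_rc_27_10 lc_d_rc_15_1) (@D3.rec (fun _ => (Cert rels S Gen.d)) lc_d_Cert_tree lc_d_rc_22_6 lc_d_rc_15_1 lc_d_rc_17_0 lc_d_rc_23_2 lc_d_rc_3_1 lc_d_rc_15_1 lc_d_rc_22_2 lc_d_rc_24_5 lc_d_rc_17_2 lc_d_rc_15_1 lc_d_rc_25_10 lc_d_rc_12_15 lc_d_rc_12_3 lc_d_rc_25_2 lc_d_rc_3_3 lc_d_rc_8_3 lc_d_rc_22_2 lc_d_rc_24_0 lc_d_rc_3_3 lc_d_rc_27_2 lc_d_rc_27_10 lc_d_rc_15_1 lc_d_rc_17_2 lc_d_rc_8_1 lc_d_rc_15_1 lc_d_rc_15_1 lc_d_rc_22_2 lc_d_rc_16_4 lc_d_rc_17_2 lc_d_rc_8_3 lc_d_rc_8_1 lc_d_rc_24_0 lc_d_rc_8_1 lc_d_rc_17_0 lc_d_rc_15_1 lc_d_rc_16_4 lc_d_Cert_tree lc_d_rc_15_1 lc_d_rc_17_2 lc_d_rc_16_4 lc_d_rc_15_1 lc_d_rc_16_4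 lc_d_rc_22_2 lc_d_rc_16_4 lc_d_rc_17_0 lc_d_rc_22_6 lc_d_rc_22_4 lc_d_rc_15_1 lc_d_Cert_tree lc_d_rc_16_0 lc_d_rc_15_1 lc_d_rc_12_1 lc_d_rc_27_8 lc_d_rc_15_1 lc_d_rc_15_1 lc_d_rc_16_2 lc_d_rc_24_0 lc_d_rc_23_4 lc_d_rc_16_2 lc_d_rc_8_1 lc_d_rc_15_1) (@D3.rec (fun _ => (Cert rels S Gen.d)) lc_d_rc_27_4 lc_d_rc_8_3 lc_d_rc_22_8 lc_d_rc_16_2 lc_d_rc_22_4 lc_d_rc_3_1 lc_d_rc_8_3 lc_d_rc_15_1 lc_d_rc_16_4 lc_d_rc_22_6 lc_d_rc_15_1 lc_d_rc_8_1 lc_d_rc_8_3 lc_d_rc_16_2 lc_d_rc_8_3 lc_d_rc_23_4 lc_d_rc_24_0 lc_d_rc_3_3 lc_d_rc_16_4 lc_d_rc_15_1 lc_d_rc_12_1 lc_d_rc_15_1 lc_d_rc_27_8 lc_d_rc_8_3 lc_d_Cert_tree lc_d_rc_8_1 lc_d_rc_23_8 lc_d_rc_16_4 lc_d_rc_23_2 lc_d_rc_22_8 lc_d_rc_15_1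 lc_d_rc_8_3 lc_d_rc_16_2 lc_d_rc_15_1 lc_d_rc_3_3 lc_d_rc_16_4 lc_d_rc_17_2 lc_d_rc_23_6 lc_d_rc_22_2 lc_d_rc_27_4 lc_d_rc_15_1 lc_d_Cert_tree lc_d_rc_15_1 lc_d_rc_27_4 lc_d_rc_15_1 lc_d_rc_23_6 lc_d_rc_22_4 lc_d_rc_16_2 lc_d_rc_23_6 lc_d_rc_15_1 lc_d_rc_15_1 lc_d_rc_23_2 lc_d_rc_22_8 lc_d_rc_8_3 lc_d_rc_17_2 lc_d_rc_15_1 lc_d_rc_8_3 lc_d_rc_15_1 lc_d_rc_8_3 lc_d_rc_27_4 lc_d_rc_15_1 lc_d_rc_27_4) (@D3.rec (fun _ => (Cert rels S Gen.d)) lc_d_rc_24_0 lc_d_rc_15_1 lc_d_rc_27_8 lc_d_rc_16_4 lc_d_rc_23_8 lc_d_rc_27_10 lc_d_rc_8_1 lc_d_rc_23_8 lc_d_rc_17_2 lc_d_rc_23_6 lc_d_rc_23_4 lc_d_rc_8_3 lc_d_rc_22_2 lc_d_rc_8_3 lc_d_rc_22_8 lc_d_rc_24_5 lc_d_Cert_tree lc_d_rc_27_4 lc_d_rc_15_1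 lc_d_rc_27_4 lc_d_rc_16_0 lc_d_rc_17_2 lc_d_rc_8_3 lc_d_rc_27_10 lc_d_rc_27_10 lc_d_rc_25_18 lc_d_rc_17_2 lc_d_rc_27_4 lc_d_rc_16_0 lc_d_rc_8_3 lc_d_rc_15_1 lc_d_rc_8_3 lc_d_rc_8_1 lc_d_rc_15_1 lc_d_rc_16_4 lc_d_rc_24_0 lc_d_rc_24_0 lc_d_rc_17_2 lc_d_rc_27_4 lc_d_rc_8_3 lc_d_rc_24_5 lc_d_rc_16_2 lc_d_rc_15_1 lc_d_rc_8_3 lc_d_rc_27_8 lc_d_rc_8_3 lc_d_rc_23_6 lc_d_rc_23_2 lc_d_rc_16_4 lc_d_rc_16_2 lc_d_rc_16_0 lc_d_rc_15_1 lc_d_rc_15_1 lc_d_rc_16_2 lc_d_rc_15_1 lc_d_rc_15_1 lc_d_Cert_tree lc_d_rc_17_2 lc_d_Cert_tree lc_d_rc_15_1 lc_d_rc_16_4 lc_d_Cert_tree) (@D3.rec (fun _ => (Cert rels S Gen.d)) lc_d_rc_15_1 lc_d_rc_22_2 lc_d_rc_15_1 lc_d_rc_22_4 lc_d_rc_23_4 lc_d_rc_15_1 lc_d_rc_15_1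 lc_d_rc_8_3 lc_d_rc_17_0 lc_d_rc_27_10 lc_d_rc_27_4 lc_d_rc_15_1 lc_d_rc_22_8 lc_d_rc_8_3 lc_d_rc_22_4 lc_d_Cert_tree lc_d_Cert_tree lc_d_rc_27_2 lc_d_rc_22_4 lc_d_rc_22_2 lc_d_rc_8_1 lc_d_rc_27_2 lc_d_rc_22_2 lc_d_Cert_tree lc_d_rc_15_1 lc_d_rc_17_2 lc_d_rc_27_8 lc_d_rc_22_2 lc_d_rc_15_1 lc_d_rc_16_2 lc_d_rc_24_5 lc_d_rc_8_3 lc_d_rc_15_1 lc_d_rc_23_4 lc_d_rc_15_1 lc_d_rc_22_6 lc_d_rc_15_1 lc_d_rc_24_0 lc_d_rc_15_1 lc_d_rc_23_2 lc_d_rc_15_1 lc_d_rc_15_1 lc_d_rc_22_6 lc_d_rc_15_1 lc_d_rc_15_1 lc_d_rc_27_4 lc_d_rc_17_2 lc_d_rc_27_4 lc_d_rc_8_3 lc_d_rc_8_3 lc_d_rc_27_4 lc_d_rc_15_1 lc_d_rc_16_2 lc_d_rc_8_1 lc_d_rc_15_1 lc_d_rc_16_2 lc_d_Cert_tree lc_d_rc_17_2 lc_d_rc_8_3 lc_d_rc_27_4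 lc_d_rc_8_3 lc_d_Cert_tree) (@D3.rec (fun _ => (Cert rels S Gen.d)) lc_d_rc_23_2 lc_d_rc_27_4 lc_d_rc_27_8 lc_d_rc_27_4 lc_d_rc_27_2 lc_d_rc_22_2 lc_d_rc_15_1 lc_d_rc_15_1 lc_d_rc_27_10 lc_d_rc_8_3 lc_d_Cert_tree lc_d_Cert_tree lc_d_rc_17_2 lc_d_rc_16_4 lc_d_rc_15_1 lc_d_rc_27_4 lc_d_rc_15_1 lc_d_Cert_tree lc_d_rc_17_2 lc_d_rc_23_2 lc_d_rc_15_1 lc_d_rc_16_2 lc_d_rc_24_5 lc_d_Cert_tree lc_d_Cert_tree lc_d_rc_16_4 lc_d_rc_17_0 lc_d_rc_22_6 lc_d_rc_15_1 lc_d_rc_16_2 lc_d_rc_15_1 lc_d_rc_17_2 lc_d_rc_15_1 lc_d_rc_27_8 lc_d_rc_15_1 lc_d_rc_17_2 lc_d_Cert_tree lc_d_rc_8_3 lc_d_rc_17_2 lc_d_rc_22_4 lc_d_rc_25_2 lc_d_rc_15_1 lc_d_rc_8_1 lc_d_rc_17_2 lc_d_rc_15_1 lc_d_rc_15_1 lc_d_rc_15_1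 lc_d_rc_23_6 lc_d_rc_23_6 lc_d_rc_22_6 lc_d_rc_17_2 lc_d_rc_17_2 lc_d_rc_15_1 lc_d_rc_27_4 lc_d_rc_17_2 lc_d_rc_15_1 lc_d_rc_15_1 lc_d_rc_15_1 lc_d_rc_24_5 lc_d_rc_15_1 lc_d_rc_15_1 lc_d_rc_17_2) (@D3.rec (fun _ => (Cert rels S Gen.d)) lc_d_rc_24_0 lc_d_rc_16_0 lc_d_rc_15_1 lc_d_rc_22_2 lc_d_rc_22_4 lc_d_rc_27_4 lc_d_rc_3_3 lc_d_rc_22_2 lc_d_rc_15_1 lc_d_rc_8_1 lc_d_rc_15_1 lc_d_rc_16_2 lc_d_rc_27_4 lc_d_rc_8_1 lc_d_rc_15_1 lc_d_rc_24_0 lc_d_rc_24_0 lc_d_rc_23_8 lc_d_rc_3_3 lc_d_rc_27_10 lc_d_rc_27_2 lc_d_rc_15_1 lc_d_rc_27_4 lc_d_rc_15_1 lc_d_rc_23_4 lc_d_rc_27_8 lc_d_rc_16_2 lc_d_Cert_tree lc_d_rc_16_0 lc_d_rc_15_1 lc_d_rc_22_8 lc_d_rc_3_3 lc_d_rc_17_2 lc_d_Cert_tree lc_d_rc_24_0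 lc_d_rc_24_0 lc_d_rc_23_4 lc_d_rc_17_0 lc_d_Cert_tree lc_d_rc_23_4 lc_d_rc_15_1 lc_d_rc_3_3 lc_d_rc_23_2 lc_d_rc_8_3 lc_d_rc_23_2 lc_d_rc_16_4 lc_d_rc_22_2 lc_d_rc_15_1 lc_d_rc_27_2 lc_d_rc_8_1 lc_d_rc_15_1 lc_d_rc_24_0 lc_d_rc_15_1 lc_d_rc_15_1 lc_d_rc_3_3 lc_d_rc_15_1 lc_d_rc_23_4 lc_d_rc_24_5 lc_d_Cert_tree lc_d_rc_15_1 lc_d_rc_15_1 lc_d_rc_23_4) (@D3.rec (fun _ => (Cert rels S Gen.d)) lc_d_rc_15_1 lc_d_rc_23_4 lc_d_Cert_tree lc_d_rc_15_1 lc_d_rc_27_8 lc_d_rc_27_10 lc_d_rc_15_1 lc_d_rc_27_4 lc_d_rc_16_4 lc_d_Cert_tree lc_d_rc_15_1 lc_d_rc_3_3 lc_d_rc_15_1 lc_d_Cert_tree lc_d_rc_27_2 lc_d_rc_16_4 lc_d_rc_15_1 lc_d_Cert_tree lc_d_rc_23_2 lc_d_rc_22_4 lc_d_rc_17_2 lc_d_Cert_tree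 lc_d_rc_15_1 lc_d_rc_17_0 lc_d_rc_15_1 lc_d_rc_15_1 lc_d_rc_3_3 lc_d_rc_15_1 lc_d_rc_15_1 lc_d_rc_8_3 lc_d_rc_23_8 lc_d_rc_23_8 lc_d_rc_8_1 lc_d_rc_8_3 lc_d_rc_15_1 lc_d_Cert_tree lc_d_rc_15_1 lc_d_rc_8_1 lc_d_Cert_tree lc_d_Cert_tree lc_d_rc_16_0 lc_d_rc_15_1 lc_d_rc_23_2 lc_d_rc_8_3 lc_d_rc_15_1 lc_d_rc_3_3 lc_d_rc_22_8 lc_d_Cert_tree lc_d_rc_22_8 lc_d_rc_27_4 lc_d_rc_15_1 lc_d_rc_22_6 lc_d_rc_3_3 lc_d_rc_17_0 lc_d_rc_17_2 lc_d_rc_22_2 lc_d_rc_24_5 lc_d_rc_15_1 lc_d_Cert_tree lc_d_rc_15_1 lc_d_rc_15_1 lc_d_rc_15_1) (@D3.rec (fun _ => (Cert rels S Gen.d)) lc_d_rc_22_4 lc_d_rc_16_4 lc_d_Cert_tree lc_d_rc_24_0 lc_d_rc_22_8 lc_d_rc_17_2 lc_d_rc_15_1 lc_d_rc_15_1 lc_d_Cert_tree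 lc_d_rc_15_1 lc_d_rc_8_3 lc_d_rc_22_2 lc_d_rc_23_8 lc_d_rc_15_1 lc_d_rc_8_3 lc_d_rc_27_4 lc_d_rc_27_10 lc_d_rc_15_1 lc_d_rc_8_1 lc_d_Cert_tree lc_d_Cert_tree lc_d_rc_15_1 lc_d_rc_27_4 lc_d_Cert_tree lc_d_Cert_tree lc_d_rc_22_2 lc_d_rc_25_2 lc_d_rc_22_2 lc_d_rc_15_1 lc_d_Cert_tree lc_d_Cert_tree lc_d_rc_15_1 lc_d_rc_17_2 lc_d_rc_3_1 lc_d_rc_27_8 lc_d_rc_15_1 lc_d_Cert_tree lc_d_rc_27_4 lc_d_rc_15_1 lc_d_rc_17_2 lc_d_Cert_tree lc_d_rc_8_3 lc_d_rc_27_4 lc_d_Cert_tree lc_d_Cert_tree lc_d_rc_15_1 lc_d_rc_27_8 lc_d_rc_8_3 lc_d_rc_24_5 lc_d_Cert_tree lc_d_rc_15_1 lc_d_rc_15_1 lc_d_rc_15_1 lc_d_rc_23_2 lc_d_rc_23_4 lc_d_rc_15_1 lc_d_rc_23_2 lc_d_rc_17_2 lc_d_rc_22_2 lc_d_rc_15_1 lc_d_rc_15_1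 lc_d_rc_15_1) (@D3.rec (fun _ => (Cert rels S Gen.d)) lc_d_rc_17_2 lc_d_rc_8_1 lc_d_rc_17_2 lc_d_rc_15_1 lc_d_rc_16_2 lc_d_rc_15_1 lc_d_rc_15_1 lc_d_rc_23_4 lc_d_rc_15_1 lc_d_rc_8_1 lc_d_Cert_tree lc_d_rc_8_3 lc_d_rc_15_1 lc_d_Cert_tree lc_d_Cert_tree lc_d_rc_25_18 lc_d_rc_15_1 lc_d_rc_17_2 lc_d_Cert_tree lc_d_Cert_tree lc_d_rc_15_1 lc_d_rc_17_2 lc_d_rc_15_1 lc_d_rc_15_1 lc_d_rc_15_1 lc_d_rc_15_1 lc_d_rc_22_4 lc_d_rc_17_2 lc_d_rc_23_6 lc_d_rc_15_1 lc_d_rc_3_1 lc_d_rc_23_8 lc_d_rc_23_6 lc_d_rc_8_1 lc_d_rc_15_1 lc_d_rc_17_2 lc_d_rc_27_8 lc_d_rc_8_3 lc_d_rc_3_3 lc_d_rc_23_6 lc_d_rc_8_3 lc_d_rc_17_2 lc_d_Cert_tree lc_d_rc_23_8 lc_d_rc_23_2 lc_d_rc_8_3 lc_d_rc_27_8 lc_d_rc_15_1 lc_d_rc_15_1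 lc_d_rc_27_8 lc_d_rc_12_3 lc_d_rc_15_1 lc_d_rc_8_3 lc_d_rc_8_3 lc_d_rc_15_1 lc_d_Cert_tree lc_d_Cert_tree lc_d_rc_25_2 lc_d_rc_15_1 lc_d_rc_27_8 lc_d_rc_25_18 lc_d_rc_8_3) (@D3.rec (fun _ => (Cert rels S Gen.d)) lc_d_rc_15_1 lc_d_rc_17_2 lc_d_rc_22_6 lc_d_rc_15_1 lc_d_rc_27_4 lc_d_rc_27_4 lc_d_rc_15_1 lc_d_rc_23_4 lc_d_rc_15_1 lc_d_rc_17_2 lc_d_rc_15_1 lc_d_rc_15_1 lc_d_rc_27_2 lc_d_rc_15_1 lc_d_rc_15_1 lc_d_rc_15_1 lc_d_rc_8_3 lc_d_rc_15_1 lc_d_rc_15_1 lc_d_rc_15_1 lc_d_rc_24_0 lc_d_rc_17_2 lc_d_rc_16_2 lc_d_rc_23_4 lc_d_rc_23_4 lc_d_Cert_tree lc_d_rc_15_1 lc_d_rc_27_4 lc_d_rc_22_4 lc_d_rc_15_1 lc_d_rc_25_10 lc_d_rc_15_1 lc_d_Cert_tree lc_d_rc_15_1 lc_d_Cert_tree lc_d_rc_25_10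 lc_d_rc_24_0 lc_d_rc_15_1 lc_d_rc_8_1 lc_d_rc_25_6 lc_d_rc_8_3 lc_d_rc_15_1 lc_d_rc_17_2 lc_d_Cert_tree lc_d_rc_15_1 lc_d_rc_16_4 lc_d_rc_23_4 lc_d_rc_15_1 lc_d_rc_17_2 lc_d_rc_15_1 lc_d_rc_16_4 lc_d_rc_17_2 lc_d_rc_15_1 lc_d_rc_22_4 lc_d_rc_16_2 lc_d_rc_23_6 lc_d_rc_8_3 lc_d_rc_12_1 lc_d_Cert_tree lc_d_rc_15_1 lc_d_rc_3_3 lc_d_rc_16_2) (@D3.rec (fun _ => (Cert rels S Gen.d)) lc_d_rc_25_14 lc_d_rc_22_4 lc_d_rc_15_1 lc_d_rc_27_2 lc_d_rc_15_1 lc_d_rc_24_5 lc_d_rc_15_1 lc_d_rc_27_4 lc_d_rc_16_4 lc_d_rc_23_8 lc_d_rc_15_1 lc_d_rc_22_4 lc_d_rc_15_1 lc_d_rc_22_2 lc_d_rc_16_4 lc_d_rc_15_1 lc_d_rc_23_2 lc_d_rc_23_4 lc_d_rc_8_1 lc_d_rc_22_6 lc_d_rc_8_3 lc_d_rc_15_1 lc_d_rc_22_2 lc_d_rc_15_1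 lc_d_rc_17_2 lc_d_rc_22_6 lc_d_rc_15_1 lc_d_rc_27_8 lc_d_rc_22_4 lc_d_rc_16_0 lc_d_rc_15_1 lc_d_rc_17_0 lc_d_rc_15_1 lc_d_rc_27_2 lc_d_rc_23_4 lc_d_rc_15_1 lc_d_rc_15_1 lc_d_rc_15_1 lc_d_rc_23_6 lc_d_rc_15_1 lc_d_rc_8_3 lc_d_rc_24_0 lc_d_rc_24_0 lc_d_rc_22_4 lc_d_rc_16_2 lc_d_Cert_tree lc_d_rc_27_2 lc_d_rc_15_1 lc_d_rc_15_1 lc_d_rc_27_2 lc_d_Cert_tree lc_d_rc_15_1 lc_d_rc_8_3 lc_d_rc_24_0 lc_d_rc_16_2 lc_d_rc_8_3 lc_d_rc_3_3 lc_d_rc_15_1 lc_d_rc_16_2 lc_d_rc_16_4 lc_d_rc_24_0 lc_d_rc_16_4) (@D3.rec (fun _ => (Cert rels S Gen.d)) lc_d_rc_8_3 lc_d_rc_16_2 lc_d_rc_23_4 lc_d_Cert_tree lc_d_rc_15_1 lc_d_rc_17_2 lc_d_rc_23_4 lc_d_rc_17_2 lc_d_rc_17_0 lc_d_rc_24_5 lc_d_rc_24_5 lc_d_rc_16_4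 lc_d_rc_25_18 lc_d_rc_3_3 lc_d_rc_8_3 lc_d_rc_24_0 lc_d_rc_22_2 lc_d_rc_17_2 lc_d_rc_24_5 lc_d_rc_23_8 lc_d_rc_8_3 lc_d_Cert_tree lc_d_rc_27_8 lc_d_rc_16_4 lc_d_rc_27_10 lc_d_rc_15_1 lc_d_rc_22_2 lc_d_rc_17_0 lc_d_rc_17_2 lc_d_rc_16_4 lc_d_rc_15_1 lc_d_rc_16_4 lc_d_rc_15_1 lc_d_rc_15_1 lc_d_rc_15_1 lc_d_rc_15_1 lc_d_rc_15_1 lc_d_rc_23_2 lc_d_rc_24_5 lc_d_rc_15_1 lc_d_rc_27_4 lc_d_rc_23_6 lc_d_rc_23_4 lc_d_rc_17_0 lc_d_rc_15_1 lc_d_rc_12_15 lc_d_rc_17_2 lc_d_rc_23_8 lc_d_rc_17_2 lc_d_Cert_tree lc_d_Cert_tree lc_d_Cert_tree lc_d_rc_15_1 lc_d_rc_17_2 lc_d_Cert_tree lc_d_rc_8_1 lc_d_rc_22_6 lc_d_rc_16_2 lc_d_rc_8_3 lc_d_rc_15_1 lc_d_rc_8_3 lc_d_rc_16_4) (@D3.rec (fun _ => (Cert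 rels S Gen.d)) lc_d_rc_27_4 lc_d_rc_8_3 lc_d_rc_8_3 lc_d_rc_27_4 lc_d_rc_17_2 lc_d_Cert_tree lc_d_rc_8_1 lc_d_rc_23_2 lc_d_rc_15_1 lc_d_rc_27_4 lc_d_rc_15_1 lc_d_rc_15_1 lc_d_rc_24_0 lc_d_rc_15_1 lc_d_rc_27_8 lc_d_rc_27_8 lc_d_rc_15_1 lc_d_rc_24_5 lc_d_Cert_tree lc_d_rc_24_0 lc_d_rc_17_2 lc_d_rc_15_1 lc_d_rc_15_1 lc_d_rc_15_1 lc_d_rc_15_1 lc_d_rc_24_0 lc_d_rc_23_8 lc_d_Cert_tree lc_d_rc_15_1 lc_d_rc_15_1 lc_d_rc_27_2 lc_d_rc_15_1 lc_d_rc_23_2 lc_d_rc_8_3 lc_d_rc_27_2 lc_d_rc_8_3 lc_d_rc_15_1 lc_d_rc_17_2 lc_d_rc_25_6 lc_d_rc_15_1 lc_d_rc_27_8 lc_d_rc_8_3 lc_d_rc_27_2 lc_d_rc_15_1 lc_d_rc_3_1 lc_d_rc_15_1 lc_d_rc_15_1 lc_d_rc_15_1 lc_d_rc_16_0 lc_d_rc_15_1 lc_d_rc_22_4 lc_d_rc_8_1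 lc_d_rc_8_3 lc_d_rc_17_2 lc_d_rc_23_6 lc_d_Cert_tree lc_d_rc_17_2 lc_d_rc_22_2 lc_d_rc_8_3 lc_d_rc_8_3 lc_d_rc_15_1 lc_d_rc_8_3) (@D3.rec (fun _ => (Cert rels S Gen.d)) lc_d_rc_15_1 lc_d_rc_27_4 lc_d_rc_25_10 lc_d_rc_27_2 lc_d_rc_22_4 lc_d_rc_24_5 lc_d_rc_24_0 lc_d_rc_8_3 lc_d_rc_24_0 lc_d_rc_22_4 lc_d_rc_23_8 lc_d_rc_23_8 lc_d_rc_15_1 lc_d_rc_8_1 lc_d_rc_23_6 lc_d_rc_22_8 lc_d_rc_22_2 lc_d_rc_15_1 lc_d_Cert_tree lc_d_rc_15_1 lc_d_Cert_tree lc_d_rc_22_2 lc_d_rc_16_4 lc_d_rc_8_3 lc_d_rc_16_0 lc_d_Cert_tree lc_d_Cert_tree lc_d_rc_3_3 lc_d_rc_15_1 lc_d_rc_25_2 lc_d_rc_25_18 lc_d_rc_8_3 lc_d_rc_23_2 lc_d_Cert_tree lc_d_rc_15_1 lc_d_rc_16_2 lc_d_rc_16_4 lc_d_rc_16_4 lc_d_Cert_tree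 lc_d_rc_8_1 lc_d_rc_15_1 lc_d_rc_17_0 lc_d_rc_23_6 lc_d_rc_15_1 lc_d_rc_17_2 lc_d_rc_16_2 lc_d_rc_15_1 lc_d_rc_15_1 lc_d_rc_12_3 lc_d_rc_15_1 lc_d_rc_27_8 lc_d_rc_27_10 lc_d_rc_15_1 lc_d_rc_17_2 lc_d_rc_15_1 lc_d_rc_22_8 lc_d_rc_8_1 lc_d_rc_15_1 lc_d_rc_17_2 lc_d_Cert_tree lc_d_rc_15_1 lc_d_rc_27_4) (@D3.rec (fun _ => (Cert rels S Gen.d)) lc_d_rc_24_0 lc_d_rc_15_1 lc_d_rc_8_3 lc_d_rc_15_1 lc_d_rc_12_15 lc_d_rc_15_1 lc_d_rc_8_3 lc_d_rc_15_1 lc_d_rc_22_8 lc_d_rc_16_2 lc_d_rc_17_2 lc_d_rc_23_6 lc_d_rc_22_2 lc_d_rc_24_5 lc_d_rc_12_1 lc_d_rc_15_1 lc_d_rc_22_2 lc_d_Cert_tree lc_d_rc_15_1 lc_d_rc_16_0 lc_d_rc_8_3 lc_d_rc_3_3 lc_d_rc_16_4 lc_d_rc_8_3 lc_d_rc_24_5 lc_d_rc_16_4 lc_d_rc_22_8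 lc_d_rc_22_2 lc_d_rc_15_1 lc_d_rc_17_2 lc_d_rc_12_3 lc_d_rc_17_2 lc_d_rc_16_0 lc_d_rc_24_0 lc_d_Cert_tree lc_d_rc_15_1 lc_d_rc_17_0 lc_d_rc_15_1 lc_d_rc_27_4 lc_d_rc_27_2 lc_d_rc_15_1 lc_d_rc_27_8 lc_d_rc_8_3 lc_d_rc_15_1 lc_d_rc_23_6 lc_d_rc_15_1 lc_d_rc_15_1 lc_d_rc_24_5 lc_d_rc_24_5 lc_d_rc_15_1 lc_d_rc_3_3 lc_d_rc_16_4 lc_d_rc_15_1 lc_d_rc_15_1 lc_d_rc_27_4 lc_d_rc_15_1 lc_d_rc_15_1 lc_d_rc_15_1 lc_d_rc_23_4 lc_d_rc_24_5 lc_d_rc_15_1 lc_d_rc_17_2) (@D3.rec (fun _ => (Cert rels S Gen.d)) lc_d_Cert_tree lc_d_rc_22_4 lc_d_rc_16_2 lc_d_rc_17_0 lc_d_rc_17_2 lc_d_rc_15_1 lc_d_rc_15_1 lc_d_rc_23_6 lc_d_rc_27_10 lc_d_rc_23_8 lc_d_rc_16_4 lc_d_rc_16_0 lc_d_rc_27_10 lc_d_rc_16_4 lc_d_Cert_tree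 lc_d_rc_15_1 lc_d_rc_15_1 lc_d_rc_8_3 lc_d_rc_8_1 lc_d_rc_15_1 lc_d_rc_24_5 lc_d_rc_27_10 lc_d_rc_3_3 lc_d_rc_25_10 lc_d_rc_15_1 lc_d_rc_24_5 lc_d_rc_27_4 lc_d_rc_15_1 lc_d_rc_15_1 lc_d_rc_8_3 lc_d_rc_16_4 lc_d_rc_8_1 lc_d_rc_15_1 lc_d_rc_16_2 lc_d_rc_24_0 lc_d_rc_15_1 lc_d_rc_27_4 lc_d_rc_27_4 lc_d_rc_27_2 lc_d_rc_15_1 lc_d_rc_8_1 lc_d_rc_23_4 lc_d_rc_15_1 lc_d_rc_15_1 lc_d_rc_16_4 lc_d_rc_27_8 lc_d_rc_15_1 lc_d_rc_17_2 lc_d_rc_27_2 lc_d_rc_15_1 lc_d_rc_16_2 lc_d_rc_16_0 lc_d_rc_3_3 lc_d_rc_23_2 lc_d_rc_23_2 lc_d_rc_8_1 lc_d_rc_22_2 lc_d_rc_15_1 lc_d_rc_24_5 lc_d_rc_15_1 lc_d_rc_23_6 lc_d_rc_17_2) (@D3.rec (fun _ => (Cert rels S Gen.d)) lc_d_rc_23_6 lc_d_rc_24_0 lc_d_rc_15_1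 lc_d_rc_27_2 lc_d_rc_15_1 lc_d_rc_24_0 lc_d_rc_24_0 lc_d_rc_15_1 lc_d_rc_15_1 lc_d_rc_16_2 lc_d_rc_8_3 lc_d_rc_15_1 lc_d_rc_15_1 lc_d_rc_22_2 lc_d_rc_15_1 lc_d_rc_27_8 lc_d_rc_17_2 lc_d_rc_24_0 lc_d_Cert_tree lc_d_rc_8_1 lc_d_Cert_tree lc_d_rc_16_2 lc_d_rc_8_1 lc_d_rc_27_10 lc_d_rc_15_1 lc_d_rc_17_2 lc_d_Cert_tree lc_d_rc_15_1 lc_d_rc_17_2 lc_d_rc_15_1 lc_d_rc_17_2 lc_d_rc_15_1 lc_d_rc_16_2 lc_d_rc_12_1 lc_d_rc_24_0 lc_d_rc_15_1 lc_d_rc_3_3 lc_d_rc_17_2 lc_d_rc_23_4 lc_d_rc_3_1 lc_d_Cert_tree lc_d_rc_27_4 lc_d_rc_15_1 lc_d_Cert_tree lc_d_rc_12_1 lc_d_rc_23_8 lc_d_rc_27_2 lc_d_rc_23_8 lc_d_rc_8_3 lc_d_rc_22_2 lc_d_rc_15_1 lc_d_rc_17_2 lc_d_rc_17_2 lc_d_rc_8_3 lc_d_rc_27_8 lc_d_rc_24_5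 lc_d_rc_27_2 lc_d_rc_15_1 lc_d_rc_15_1 lc_d_rc_27_2 lc_d_rc_15_1 lc_d_rc_27_4) (@D3.rec (fun _ => (Cert rels S Gen.d)) lc_d_rc_23_2 lc_d_rc_24_0 lc_d_rc_27_4 lc_d_Cert_tree lc_d_rc_8_3 lc_d_rc_15_1 lc_d_rc_25_2 lc_d_rc_15_1 lc_d_rc_15_1 lc_d_rc_16_4 lc_d_rc_27_10 lc_d_rc_15_1 lc_d_rc_17_2 lc_d_rc_12_15 lc_d_rc_24_5 lc_d_rc_15_1 lc_d_rc_27_4 lc_d_rc_12_15 lc_d_rc_24_5 lc_d_rc_27_4 lc_d_rc_15_1 lc_d_rc_8_1 lc_d_rc_27_4 lc_d_rc_8_1 lc_d_rc_16_4 lc_d_rc_8_3 lc_d_rc_15_1 lc_d_rc_8_3 lc_d_rc_23_4 lc_d_rc_27_10 lc_d_rc_15_1 lc_d_rc_22_6 lc_d_rc_17_2 lc_d_rc_16_2 lc_d_rc_15_1 lc_d_rc_17_2 lc_d_rc_27_10 lc_d_rc_27_4 lc_d_rc_16_2 lc_d_rc_22_2 lc_d_rc_16_4 lc_d_rc_16_4 lc_d_rc_22_4 lc_d_rc_15_1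 lc_d_rc_15_1 lc_d_rc_17_2 lc_d_rc_15_1 lc_d_rc_15_1 lc_d_rc_8_3 lc_d_rc_23_4 lc_d_rc_15_1 lc_d_rc_17_2 lc_d_rc_23_4 lc_d_rc_17_2 lc_d_rc_23_6 lc_d_rc_15_1 lc_d_rc_3_3 lc_d_rc_15_1 lc_d_rc_22_2 lc_d_rc_15_1 lc_d_rc_17_2 lc_d_rc_15_1)
def ce_d_25 : D2 → D3 → (Cert rels S Gen.d) := @D2.rec (fun _ => D3 → (Cert rels S Gen.d)) (@D3.rec (fun _ => (Cert rels S Gen.d)) lc_d_rc_24_5 lc_d_rc_3_3 lc_d_rc_15_1 lc_d_rc_15_1 lc_d_rc_22_4 lc_d_rc_12_1 lc_d_rc_15_1 lc_d_rc_15_1 lc_d_rc_24_5 lc_d_rc_23_4 lc_d_rc_15_1 lc_d_rc_15_1 lc_d_rc_15_1 lc_d_rc_16_4 lc_d_rc_23_8 lc_d_rc_15_1 lc_d_rc_8_3 lc_d_rc_15_1 lc_d_rc_24_5 lc_d_rc_15_1 lc_d_rc_15_1 lc_d_rc_3_1 lc_d_Cert_tree lc_d_Cert_tree lc_d_rc_15_1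 lc_d_rc_15_1 lc_d_rc_17_2 lc_d_rc_23_6 lc_d_rc_23_2 lc_d_rc_17_2 lc_d_rc_15_1 lc_d_rc_15_1 lc_d_rc_24_5 lc_d_rc_15_1 lc_d_rc_12_15 lc_d_rc_15_1 lc_d_rc_15_1 lc_d_rc_24_0 lc_d_rc_17_2 lc_d_rc_15_1 lc_d_Cert_tree lc_d_rc_15_1 lc_d_rc_23_6 lc_d_rc_15_1 lc_d_rc_17_2 lc_d_rc_15_1 lc_d_rc_16_2 lc_d_rc_23_8 lc_d_rc_22_4 lc_d_rc_15_1 lc_d_rc_15_1 lc_d_rc_22_2 lc_d_rc_15_1 lc_d_rc_17_2 lc_d_rc_8_1 lc_d_rc_8_3 lc_d_rc_15_1 lc_d_rc_22_2 lc_d_rc_17_2 lc_d_rc_17_2 lc_d_rc_3_3 lc_d_rc_24_0) (@D3.rec (fun _ => (Cert rels S Gen.d)) lc_d_rc_15_1 lc_d_rc_24_0 lc_d_Cert_tree lc_d_rc_15_1 lc_d_rc_22_4 lc_d_rc_17_2 lc_d_rc_27_8 lc_d_rc_25_18 lc_d_rc_17_2 lc_d_rc_27_4 lc_d_rc_3_3 lc_d_rc_27_2 lc_d_rc_15_1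 lc_d_rc_16_0 lc_d_rc_15_1 lc_d_rc_17_2 lc_d_rc_8_1 lc_d_rc_23_4 lc_d_rc_15_1 lc_d_rc_8_1 lc_d_rc_3_3 lc_d_rc_27_2 lc_d_rc_16_0 lc_d_rc_17_0 lc_d_rc_15_1 lc_d_rc_17_2 lc_d_rc_15_1 lc_d_rc_22_4 lc_d_rc_15_1 lc_d_rc_27_4 lc_d_rc_8_3 lc_d_rc_22_4 lc_d_rc_24_5 lc_d_rc_23_2 lc_d_rc_15_1 lc_d_rc_8_1 lc_d_rc_17_2 lc_d_rc_15_1 lc_d_rc_8_3 lc_d_rc_8_3 lc_d_rc_8_3 lc_d_rc_8_3 lc_d_rc_22_4 lc_d_rc_27_4 lc_d_rc_8_3 lc_d_rc_15_1 lc_d_rc_15_1 lc_d_rc_17_2 lc_d_rc_22_8 lc_d_rc_23_8 lc_d_rc_22_2 lc_d_rc_15_1 lc_d_rc_24_5 lc_d_rc_15_1 lc_d_rc_27_4 lc_d_rc_15_1 lc_d_Cert_tree lc_d_rc_16_2 lc_d_rc_24_5 lc_d_rc_27_4 lc_d_Cert_tree lc_d_rc_3_3) (@D3.rec (fun _ => (Cert rels S Gen.d)) lc_d_rc_17_2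 lc_d_rc_27_4 lc_d_rc_8_3 lc_d_rc_16_4 lc_d_rc_25_2 lc_d_rc_15_1 lc_d_rc_17_2 lc_d_rc_27_4 lc_d_rc_15_1 lc_d_rc_8_3 lc_d_rc_17_2 lc_d_rc_8_3 lc_d_rc_15_1 lc_d_rc_16_4 lc_d_rc_3_1 lc_d_rc_15_1 lc_d_Cert_tree lc_d_rc_15_1 lc_d_Cert_tree lc_d_rc_16_0 lc_d_rc_15_1 lc_d_rc_3_1 lc_d_rc_16_2 lc_d_rc_24_0 lc_d_rc_3_3 lc_d_rc_15_1 lc_d_rc_8_3 lc_d_rc_15_1 lc_d_rc_8_3 lc_d_rc_23_8 lc_d_rc_22_2 lc_d_rc_15_1 lc_d_rc_17_2 lc_d_rc_15_1 lc_d_rc_22_2 lc_d_rc_8_3 lc_d_rc_24_5 lc_d_rc_17_2 lc_d_rc_15_1 lc_d_rc_25_2 lc_d_rc_15_1 lc_d_rc_15_1 lc_d_rc_27_2 lc_d_rc_8_1 lc_d_rc_22_8 lc_d_Cert_tree lc_d_rc_22_2 lc_d_rc_15_1 lc_d_rc_15_1 lc_d_rc_24_5 lc_d_rc_23_2 lc_d_rc_15_1 lc_d_rc_22_6 lc_d_rc_27_4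 lc_d_rc_15_1 lc_d_Cert_tree lc_d_rc_8_1 lc_d_rc_24_5 lc_d_rc_15_1 lc_d_rc_15_1 lc_d_rc_22_4 lc_d_rc_17_2) (@D3.rec (fun _ => (Cert rels S Gen.d)) lc_d_rc_15_1 lc_d_rc_15_1 lc_d_rc_8_3 lc_d_rc_27_4 lc_d_rc_8_3 lc_d_rc_22_4 lc_d_rc_22_6 lc_d_rc_27_10 lc_d_rc_15_1 lc_d_rc_17_2 lc_d_rc_15_1 lc_d_rc_15_1 lc_d_rc_27_4 lc_d_rc_8_3 lc_d_rc_24_0 lc_d_rc_17_2 lc_d_rc_15_1 lc_d_rc_16_4 lc_d_rc_27_2 lc_d_rc_3_3 lc_d_rc_23_2 lc_d_rc_17_2 lc_d_rc_27_2 lc_d_rc_23_2 lc_d_rc_16_4 lc_d_rc_22_4 lc_d_rc_15_1 lc_d_rc_8_1 lc_d_rc_16_0 lc_d_rc_27_8 lc_d_rc_16_4 lc_d_rc_27_4 lc_d_rc_23_4 lc_d_rc_15_1 lc_d_rc_22_4 lc_d_rc_27_2 lc_d_rc_27_2 lc_d_rc_8_3 lc_d_rc_15_1 lc_d_rc_22_4 lc_d_rc_15_1 lc_d_rc_23_6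 lc_d_rc_8_3 lc_d_rc_25_6 lc_d_rc_22_2 lc_d_rc_24_0 lc_d_rc_27_10 lc_d_rc_27_2 lc_d_rc_27_2 lc_d_rc_15_1 lc_d_Cert_tree lc_d_Cert_tree lc_d_rc_15_1 lc_d_rc_12_15 lc_d_rc_25_18 lc_d_rc_15_1 lc_d_rc_15_1 lc_d_rc_27_10 lc_d_rc_8_3 lc_d_rc_22_2 lc_d_rc_15_1 lc_d_rc_27_8) (@D3.rec (fun _ => (Cert rels S Gen.d)) lc_d_Cert_tree lc_d_rc_15_1 lc_d_rc_27_2 lc_d_rc_24_5 lc_d_rc_22_2 lc_d_rc_15_1 lc_d_Cert_tree lc_d_rc_15_1 lc_d_rc_15_1 lc_d_rc_27_4 lc_d_rc_17_0 lc_d_rc_16_4 lc_d_rc_15_1 lc_d_rc_8_3 lc_d_rc_8_3 lc_d_rc_15_1 lc_d_rc_16_2 lc_d_rc_8_3 lc_d_rc_25_18 lc_d_rc_15_1 lc_d_rc_8_1 lc_d_rc_27_8 lc_d_rc_15_1 lc_d_rc_15_1 lc_d_rc_24_5 lc_d_rc_15_1 lc_d_rc_16_0 lc_d_rc_15_1 lc_d_Cert_tree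 lc_d_rc_15_1 lc_d_rc_27_4 lc_d_Cert_tree lc_d_rc_15_1 lc_d_rc_23_6 lc_d_rc_8_3 lc_d_rc_15_1 lc_d_rc_8_3 lc_d_rc_24_0 lc_d_rc_15_1 lc_d_rc_15_1 lc_d_rc_8_3 lc_d_rc_8_3 lc_d_rc_3_3 lc_d_rc_8_3 lc_d_rc_24_0 lc_d_Cert_tree lc_d_rc_22_4 lc_d_rc_15_1 lc_d_rc_22_2 lc_d_Cert_tree lc_d_Cert_tree lc_d_rc_15_1 lc_d_rc_3_3 lc_d_rc_22_4 lc_d_rc_17_2 lc_d_rc_15_1 lc_d_rc_24_0 lc_d_rc_15_1 lc_d_rc_24_0 lc_d_rc_16_4 lc_d_rc_23_4 lc_d_rc_23_8) (@D3.rec (fun _ => (Cert rels S Gen.d)) lc_d_rc_15_1 lc_d_rc_15_1 lc_d_rc_15_1 lc_d_rc_24_5 lc_d_rc_27_2 lc_d_rc_24_0 lc_d_rc_8_3 lc_d_rc_27_2 lc_d_rc_8_1 lc_d_rc_15_1 lc_d_Cert_tree lc_d_rc_27_2 lc_d_rc_24_5 lc_d_Cert_tree lc_d_rc_17_2 lc_d_rc_8_3 lc_d_rc_25_2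 lc_d_rc_24_5 lc_d_rc_15_1 lc_d_rc_15_1 lc_d_rc_27_2 lc_d_rc_15_1 lc_d_rc_27_2 lc_d_rc_25_2 lc_d_rc_15_1 lc_d_rc_17_2 lc_d_rc_8_3 lc_d_rc_16_2 lc_d_rc_3_1 lc_d_rc_8_3 lc_d_rc_24_0 lc_d_rc_15_1 lc_d_rc_3_3 lc_d_rc_8_3 lc_d_rc_25_2 lc_d_rc_27_10 lc_d_rc_15_1 lc_d_rc_24_5 lc_d_rc_15_1 lc_d_rc_22_4 lc_d_Cert_tree lc_d_rc_15_1 lc_d_rc_8_3 lc_d_rc_15_1 lc_d_rc_15_1 lc_d_rc_16_0 lc_d_rc_15_1 lc_d_rc_24_5 lc_d_rc_15_1 lc_d_rc_25_18 lc_d_rc_15_1 lc_d_rc_15_1 lc_d_rc_12_15 lc_d_rc_15_1 lc_d_rc_27_2 lc_d_rc_15_1 lc_d_rc_15_1 lc_d_rc_22_6 lc_d_rc_17_2 lc_d_rc_15_1 lc_d_rc_15_1 lc_d_rc_22_2) (@D3.rec (fun _ => (Cert rels S Gen.d)) lc_d_rc_22_4 lc_d_rc_22_2 lc_d_rc_15_1 lc_d_rc_16_4 lc_d_rc_15_1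 lc_d_rc_24_5 lc_d_rc_16_4 lc_d_rc_15_1 lc_d_rc_24_5 lc_d_rc_16_4 lc_d_rc_8_3 lc_d_rc_3_3 lc_d_rc_15_1 lc_d_rc_27_10 lc_d_rc_15_1 lc_d_rc_8_3 lc_d_rc_16_4 lc_d_rc_15_1 lc_d_rc_17_2 lc_d_rc_25_6 lc_d_rc_27_8 lc_d_rc_8_3 lc_d_rc_23_8 lc_d_rc_15_1 lc_d_rc_27_2 lc_d_rc_16_4 lc_d_Cert_tree lc_d_rc_15_1 lc_d_Cert_tree lc_d_rc_15_1 lc_d_rc_15_1 lc_d_rc_24_5 lc_d_rc_23_8 lc_d_Cert_tree lc_d_rc_15_1 lc_d_rc_24_5 lc_d_rc_22_6 lc_d_rc_15_1 lc_d_rc_16_0 lc_d_Cert_tree lc_d_rc_15_1 lc_d_Cert_tree lc_d_rc_15_1 lc_d_rc_15_1 lc_d_rc_15_1 lc_d_rc_17_2 lc_d_rc_8_1 lc_d_rc_15_1 lc_d_rc_15_1 lc_d_rc_8_3 lc_d_rc_22_2 lc_d_rc_15_1 lc_d_rc_16_4 lc_d_rc_3_1 lc_d_rc_3_1 lc_d_rc_15_1 lc_d_rc_17_2 lc_d_rc_8_1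 lc_d_rc_23_2 lc_d_rc_8_3 lc_d_rc_16_4 lc_d_rc_8_3) (@D3.rec (fun _ => (Cert rels S Gen.d)) lc_d_rc_16_4 lc_d_Cert_tree lc_d_Cert_tree lc_d_rc_15_1 lc_d_rc_22_4 lc_d_rc_24_5 lc_d_rc_15_1 lc_d_Cert_tree lc_d_rc_15_1 lc_d_rc_22_6 lc_d_rc_15_1 lc_d_rc_15_1 lc_d_rc_15_1 lc_d_rc_17_2 lc_d_rc_17_2 lc_d_rc_24_5 lc_d_rc_17_2 lc_d_rc_15_1 lc_d_rc_16_4 lc_d_rc_8_1 lc_d_rc_8_1 lc_d_rc_12_15 lc_d_rc_24_0 lc_d_rc_15_1 lc_d_rc_22_2 lc_d_rc_8_3 lc_d_rc_16_4 lc_d_rc_15_1 lc_d_rc_16_4 lc_d_rc_8_1 lc_d_rc_3_3 lc_d_Cert_tree lc_d_Cert_tree lc_d_rc_15_1 lc_d_rc_22_8 lc_d_rc_27_2 lc_d_Cert_tree lc_d_rc_15_1 lc_d_rc_15_1 lc_d_rc_17_2 lc_d_rc_22_6 lc_d_rc_23_2 lc_d_rc_3_3 lc_d_rc_23_6 lc_d_rc_23_6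 lc_d_rc_15_1 lc_d_rc_22_2 lc_d_rc_27_4 lc_d_rc_12_9 lc_d_rc_17_2 lc_d_rc_8_1 lc_d_rc_24_0 lc_d_rc_16_4 lc_d_rc_23_8 lc_d_rc_23_8 lc_d_rc_25_6 lc_d_rc_22_4 lc_d_rc_25_10 lc_d_rc_22_2 lc_d_rc_22_4 lc_d_rc_15_1 lc_d_rc_24_5) (@D3.rec (fun _ => (Cert rels S Gen.d)) lc_d_Cert_tree lc_d_rc_15_1 lc_d_rc_25_6 lc_d_rc_15_1 lc_d_rc_15_1 lc_d_rc_22_4 lc_d_rc_16_2 lc_d_Cert_tree lc_d_Cert_tree lc_d_rc_15_1 lc_d_rc_25_6 lc_d_rc_8_3 lc_d_rc_23_2 lc_d_Cert_tree lc_d_Cert_tree lc_d_rc_15_1 lc_d_rc_27_4 lc_d_rc_15_1 lc_d_rc_22_8 lc_d_rc_17_2 lc_d_Cert_tree lc_d_rc_23_4 lc_d_rc_15_1 lc_d_rc_15_1 lc_d_rc_17_2 lc_d_rc_8_1 lc_d_rc_15_1 lc_d_Cert_tree lc_d_rc_15_1 lc_d_rc_23_6 lc_d_rc_22_6 lc_d_rc_17_2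 lc_d_rc_24_5 lc_d_rc_23_2 lc_d_rc_24_5 lc_d_rc_8_3 lc_d_Cert_tree lc_d_Cert_tree lc_d_Cert_tree lc_d_rc_15_1 lc_d_Cert_tree lc_d_rc_15_1 lc_d_rc_23_6 lc_d_rc_15_1 lc_d_rc_23_4 lc_d_rc_25_6 lc_d_Cert_tree lc_d_rc_23_8 lc_d_rc_15_1 lc_d_rc_24_0 lc_d_rc_25_2 lc_d_rc_15_1 lc_d_rc_22_6 lc_d_rc_23_2 lc_d_rc_15_1 lc_d_Cert_tree lc_d_rc_22_2 lc_d_rc_15_1 lc_d_Cert_tree lc_d_rc_15_1 lc_d_rc_15_1 lc_d_rc_23_2) (@D3.rec (fun _ => (Cert rels S Gen.d)) lc_d_rc_15_1 lc_d_rc_8_3 lc_d_rc_16_2 lc_d_rc_8_1 lc_d_rc_3_3 lc_d_rc_23_4 lc_d_rc_22_2 lc_d_rc_16_4 lc_d_rc_24_5 lc_d_rc_15_1 lc_d_rc_8_3 lc_d_rc_27_4 lc_d_rc_24_5 lc_d_rc_17_2 lc_d_rc_24_5 lc_d_rc_8_1 lc_d_rc_23_8 lc_d_Cert_tree lc_d_rc_15_1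 lc_d_rc_15_1 lc_d_rc_22_6 lc_d_rc_16_2 lc_d_Cert_tree lc_d_rc_3_3 lc_d_rc_23_4 lc_d_rc_15_1 lc_d_rc_22_2 lc_d_rc_23_6 lc_d_rc_23_4 lc_d_rc_22_4 lc_d_rc_15_1 lc_d_Cert_tree lc_d_Cert_tree lc_d_rc_15_1 lc_d_rc_8_3 lc_d_rc_15_1 lc_d_Cert_tree lc_d_rc_15_1 lc_d_Cert_tree lc_d_rc_25_18 lc_d_rc_15_1 lc_d_rc_15_1 lc_d_rc_22_4 lc_d_rc_16_4 lc_d_rc_8_3 lc_d_rc_22_4 lc_d_rc_15_1 lc_d_rc_15_1 lc_d_rc_23_2 lc_d_rc_15_1 lc_d_rc_15_1 lc_d_rc_15_1 lc_d_rc_15_1 lc_d_rc_15_1 lc_d_rc_23_2 lc_d_rc_3_3 lc_d_rc_15_1 lc_d_rc_23_8 lc_d_rc_15_1 lc_d_rc_23_2 lc_d_rc_16_4 lc_d_rc_24_5) (@D3.rec (fun _ => (Cert rels S Gen.d)) lc_d_rc_12_15 lc_d_rc_8_3 lc_d_rc_15_1 lc_d_rc_22_4 lc_d_rc_22_6 lc_d_rc_22_6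 lc_d_rc_22_4 lc_d_rc_15_1 lc_d_rc_15_1 lc_d_rc_15_1 lc_d_rc_17_0 lc_d_rc_15_1 lc_d_rc_23_6 lc_d_rc_12_3 lc_d_rc_24_0 lc_d_rc_22_2 lc_d_rc_15_1 lc_d_rc_24_5 lc_d_rc_17_2 lc_d_rc_15_1 lc_d_rc_22_8 lc_d_rc_17_2 lc_d_rc_16_4 lc_d_rc_24_5 lc_d_rc_15_1 lc_d_rc_15_1 lc_d_rc_22_4 lc_d_rc_17_2 lc_d_rc_15_1 lc_d_rc_23_6 lc_d_Cert_tree lc_d_rc_15_1 lc_d_rc_23_4 lc_d_rc_16_0 lc_d_rc_22_6 lc_d_Cert_tree lc_d_rc_15_1 lc_d_rc_22_2 lc_d_rc_8_3 lc_d_rc_22_4 lc_d_rc_16_4 lc_d_rc_8_3 lc_d_rc_16_4 lc_d_rc_27_2 lc_d_rc_23_2 lc_d_rc_15_1 lc_d_rc_15_1 lc_d_rc_15_1 lc_d_rc_8_3 lc_d_rc_15_1 lc_d_rc_8_3 lc_d_rc_3_1 lc_d_Cert_tree lc_d_rc_22_2 lc_d_rc_27_2 lc_d_rc_15_1 lc_d_rc_23_4 lc_d_rc_24_0 lc_d_rc_16_4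 lc_d_rc_15_1 lc_d_rc_3_3 lc_d_rc_15_1) (@D3.rec (fun _ => (Cert rels S Gen.d)) lc_d_Cert_tree lc_d_rc_15_1 lc_d_rc_15_1 lc_d_rc_22_6 lc_d_rc_23_4 lc_d_rc_25_10 lc_d_rc_22_8 lc_d_rc_15_1 lc_d_rc_8_3 lc_d_Cert_tree lc_d_Cert_tree lc_d_rc_15_1 lc_d_rc_17_2 lc_d_rc_27_4 lc_d_rc_15_1 lc_d_rc_27_4 lc_d_rc_23_6 lc_d_rc_15_1 lc_d_rc_3_1 lc_d_rc_22_2 lc_d_rc_15_1 lc_d_rc_17_2 lc_d_rc_15_1 lc_d_rc_3_3 lc_d_rc_8_3 lc_d_Cert_tree lc_d_rc_16_4 lc_d_rc_8_3 lc_d_Cert_tree lc_d_rc_16_4 lc_d_rc_15_1 lc_d_rc_15_1 lc_d_Cert_tree lc_d_Cert_tree lc_d_rc_15_1 lc_d_rc_15_1 lc_d_rc_25_2 lc_d_rc_15_1 lc_d_rc_8_1 lc_d_rc_22_8 lc_d_rc_3_1 lc_d_rc_15_1 lc_d_rc_15_1 lc_d_rc_23_8 lc_d_rc_15_1 lc_d_rc_22_4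 lc_d_rc_15_1 lc_d_rc_15_1 lc_d_rc_24_0 lc_d_rc_15_1 lc_d_rc_8_3 lc_d_rc_15_1 lc_d_rc_17_2 lc_d_rc_8_3 lc_d_rc_16_2 lc_d_rc_8_3 lc_d_rc_16_4 lc_d_rc_24_5 lc_d_rc_15_1 lc_d_rc_16_2 lc_d_rc_15_1 lc_d_rc_15_1) (@D3.rec (fun _ => (Cert rels S Gen.d)) lc_d_rc_8_3 lc_d_rc_8_3 lc_d_rc_27_4 lc_d_rc_15_1 lc_d_rc_24_0 lc_d_rc_22_6 lc_d_rc_8_3 lc_d_rc_15_1 lc_d_rc_23_8 lc_d_rc_15_1 lc_d_rc_25_6 lc_d_rc_15_1 lc_d_rc_3_1 lc_d_rc_16_4 lc_d_rc_22_4 lc_d_rc_15_1 lc_d_rc_24_0 lc_d_rc_15_1 lc_d_rc_3_1 lc_d_rc_3_3 lc_d_rc_15_1 lc_d_rc_23_6 lc_d_rc_23_2 lc_d_rc_17_0 lc_d_rc_17_2 lc_d_Cert_tree lc_d_rc_25_18 lc_d_rc_24_0 lc_d_rc_15_1 lc_d_Cert_tree lc_d_rc_27_4 lc_d_rc_17_2 lc_d_rc_15_1 lc_d_rc_27_4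 lc_d_rc_24_5 lc_d_rc_15_1 lc_d_Cert_tree lc_d_rc_24_5 lc_d_rc_24_5 lc_d_Cert_tree lc_d_rc_8_3 lc_d_rc_15_1 lc_d_rc_27_2 lc_d_rc_23_8 lc_d_rc_24_0 lc_d_rc_15_1 lc_d_rc_22_2 lc_d_rc_15_1 lc_d_rc_8_3 lc_d_rc_15_1 lc_d_rc_8_3 lc_d_rc_17_2 lc_d_Cert_tree lc_d_rc_15_1 lc_d_rc_24_0 lc_d_rc_15_1 lc_d_rc_24_5 lc_d_rc_3_1 lc_d_rc_15_1 lc_d_rc_24_5 lc_d_rc_3_1 lc_d_rc_16_4) (@D3.rec (fun _ => (Cert rels S Gen.d)) lc_d_rc_27_2 lc_d_rc_23_2 lc_d_rc_17_2 lc_d_rc_3_3 lc_d_rc_22_8 lc_d_rc_12_15 lc_d_rc_8_3 lc_d_rc_24_5 lc_d_rc_27_4 lc_d_rc_15_1 lc_d_Cert_tree lc_d_rc_15_1 lc_d_rc_25_2 lc_d_rc_27_4 lc_d_rc_25_10 lc_d_rc_8_3 lc_d_rc_15_1 lc_d_rc_17_2 lc_d_rc_15_1 lc_d_rc_24_0 lc_d_rc_16_2 lc_d_rc_12_9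 lc_d_rc_27_2 lc_d_rc_15_1 lc_d_rc_12_15 lc_d_rc_15_1 lc_d_rc_15_1 lc_d_rc_24_0 lc_d_rc_16_2 lc_d_rc_15_1 lc_d_rc_15_1 lc_d_rc_22_2 lc_d_rc_16_2 lc_d_rc_8_1 lc_d_rc_27_4 lc_d_rc_24_5 lc_d_rc_27_2 lc_d_rc_23_6 lc_d_rc_8_1 lc_d_rc_25_2 lc_d_rc_23_4 lc_d_rc_15_1 lc_d_rc_23_2 lc_d_rc_12_15 lc_d_rc_27_4 lc_d_rc_27_2 lc_d_rc_15_1 lc_d_rc_23_6 lc_d_rc_15_1 lc_d_rc_17_2 lc_d_rc_23_6 lc_d_rc_16_0 lc_d_Cert_tree lc_d_Cert_tree lc_d_rc_23_4 lc_d_rc_15_1 lc_d_rc_15_1 lc_d_rc_22_6 lc_d_rc_15_1 lc_d_rc_15_1 lc_d_rc_15_1 lc_d_rc_22_6) (@D3.rec (fun _ => (Cert rels S Gen.d)) lc_d_rc_27_2 lc_d_rc_3_3 lc_d_Cert_tree lc_d_rc_15_1 lc_d_rc_27_4 lc_d_Cert_tree lc_d_Cert_tree lc_d_rc_8_3 lc_d_rc_15_1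 lc_d_rc_17_2 lc_d_rc_8_1 lc_d_rc_15_1 lc_d_rc_24_0 lc_d_rc_22_6 lc_d_rc_17_2 lc_d_rc_24_5 lc_d_rc_8_1 lc_d_rc_15_1 lc_d_rc_15_1 lc_d_rc_3_3 lc_d_rc_23_2 lc_d_rc_3_3 lc_d_rc_15_1 lc_d_rc_22_2 lc_d_rc_8_1 lc_d_rc_15_1 lc_d_rc_15_1 lc_d_rc_8_3 lc_d_Cert_tree lc_d_rc_3_1 lc_d_rc_15_1 lc_d_rc_25_2 lc_d_rc_27_2 lc_d_Cert_tree lc_d_Cert_tree lc_d_rc_15_1 lc_d_rc_12_15 lc_d_rc_27_4 lc_d_rc_15_1 lc_d_rc_8_3 lc_d_rc_17_2 lc_d_rc_15_1 lc_d_rc_27_4 lc_d_rc_17_2 lc_d_rc_15_1 lc_d_rc_22_4 lc_d_rc_24_0 lc_d_rc_27_2 lc_d_rc_8_1 lc_d_rc_15_1 lc_d_Cert_tree lc_d_rc_17_2 lc_d_rc_15_1 lc_d_rc_8_3 lc_d_rc_3_3 lc_d_rc_24_0 lc_d_Cert_tree lc_d_rc_15_1 lc_d_rc_27_4 lc_d_rc_15_1 lc_d_rc_15_1 lc_d_rc_17_2)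 (@D3.rec (fun _ => (Cert rels S Gen.d)) lc_d_Cert_tree lc_d_rc_25_2 lc_d_rc_15_1 lc_d_rc_23_4 lc_d_rc_15_1 lc_d_rc_15_1 lc_d_rc_16_4 lc_d_rc_16_2 lc_d_rc_27_2 lc_d_rc_15_1 lc_d_rc_15_1 lc_d_rc_15_1 lc_d_rc_17_2 lc_d_rc_8_3 lc_d_rc_16_2 lc_d_rc_3_3 lc_d_rc_16_0 lc_d_rc_15_1 lc_d_rc_22_6 lc_d_rc_16_4 lc_d_rc_23_2 lc_d_Cert_tree lc_d_Cert_tree lc_d_rc_15_1 lc_d_rc_15_1 lc_d_rc_15_1 lc_d_rc_15_1 lc_d_rc_15_1 lc_d_rc_22_2 lc_d_rc_15_1 lc_d_rc_8_3 lc_d_rc_16_4 lc_d_rc_15_1 lc_d_rc_27_4 lc_d_rc_15_1 lc_d_rc_27_2 lc_d_rc_15_1 lc_d_rc_15_1 lc_d_rc_8_1 lc_d_rc_15_1 lc_d_rc_16_4 lc_d_rc_17_2 lc_d_rc_15_1 lc_d_rc_15_1 lc_d_rc_16_2 lc_d_rc_15_1 lc_d_rc_15_1 lc_d_rc_3_3 lc_d_rc_22_2 lc_d_rc_3_1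 lc_d_Cert_tree lc_d_rc_15_1 lc_d_rc_24_5 lc_d_rc_16_2 lc_d_rc_22_6 lc_d_rc_17_2 lc_d_rc_16_4 lc_d_rc_15_1 lc_d_rc_16_4 lc_d_rc_3_3 lc_d_rc_15_1 lc_d_rc_27_8) (@D3.rec (fun _ => (Cert rels S Gen.d)) lc_d_rc_23_6 lc_d_rc_8_1 lc_d_rc_15_1 lc_d_rc_23_4 lc_d_rc_15_1 lc_d_rc_17_2 lc_d_rc_8_3 lc_d_rc_22_6 lc_d_rc_15_1 lc_d_rc_22_2 lc_d_rc_15_1 lc_d_rc_15_1 lc_d_rc_15_1 lc_d_rc_24_0 lc_d_rc_17_2 lc_d_rc_8_3 lc_d_rc_23_4 lc_d_rc_15_1 lc_d_rc_23_6 lc_d_rc_27_4 lc_d_rc_17_0 lc_d_rc_27_8 lc_d_rc_24_5 lc_d_rc_8_3 lc_d_rc_15_1 lc_d_rc_15_1 lc_d_rc_15_1 lc_d_rc_23_4 lc_d_rc_16_4 lc_d_rc_17_2 lc_d_rc_15_1 lc_d_rc_27_2 lc_d_rc_25_6 lc_d_rc_23_8 lc_d_rc_22_6 lc_d_rc_8_3 lc_d_rc_23_2 lc_d_rc_15_1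 lc_d_rc_15_1 lc_d_rc_24_5 lc_d_Cert_tree lc_d_rc_22_4 lc_d_rc_16_4 lc_d_rc_24_0 lc_d_rc_8_3 lc_d_rc_27_2 lc_d_rc_16_4 lc_d_rc_23_4 lc_d_rc_15_1 lc_d_rc_16_2 lc_d_rc_16_4 lc_d_rc_25_18 lc_d_rc_16_4 lc_d_rc_16_2 lc_d_rc_15_1 lc_d_rc_16_4 lc_d_rc_23_4 lc_d_rc_17_2 lc_d_rc_27_4 lc_d_rc_3_1 lc_d_rc_16_0 lc_d_rc_24_5) (@D3.rec (fun _ => (Cert rels S Gen.d)) lc_d_rc_15_1 lc_d_rc_8_1 lc_d_rc_27_8 lc_d_rc_22_4 lc_d_rc_15_1 lc_d_rc_27_8 lc_d_rc_25_6 lc_d_rc_22_6 lc_d_rc_8_3 lc_d_rc_27_2 lc_d_rc_15_1 lc_d_rc_23_2 lc_d_rc_3_1 lc_d_rc_8_1 lc_d_rc_15_1 lc_d_rc_27_4 lc_d_rc_8_3 lc_d_rc_15_1 lc_d_rc_23_4 lc_d_rc_8_3 lc_d_rc_17_2 lc_d_rc_27_8 lc_d_rc_12_1 lc_d_rc_22_6 lc_d_rc_23_8 lc_d_rc_22_4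 lc_d_rc_22_4 lc_d_rc_15_1 lc_d_rc_8_3 lc_d_rc_17_0 lc_d_rc_8_3 lc_d_rc_8_3 lc_d_rc_8_3 lc_d_rc_15_1 lc_d_rc_24_0 lc_d_rc_8_3 lc_d_rc_27_8 lc_d_rc_23_8 lc_d_rc_16_4 lc_d_rc_17_2 lc_d_rc_22_2 lc_d_rc_15_1 lc_d_rc_15_1 lc_d_rc_15_1 lc_d_rc_15_1 lc_d_rc_15_1 lc_d_rc_24_0 lc_d_rc_23_2 lc_d_rc_15_1 lc_d_Cert_tree lc_d_rc_15_1 lc_d_rc_16_2 lc_d_rc_24_5 lc_d_rc_27_4 lc_d_rc_23_2 lc_d_rc_8_3 lc_d_rc_16_0 lc_d_rc_15_1 lc_d_rc_3_3 lc_d_rc_17_2 lc_d_rc_15_1 lc_d_Cert_tree) (@D3.rec (fun _ => (Cert rels S Gen.d)) lc_d_rc_15_1 lc_d_rc_3_3 lc_d_Cert_tree lc_d_rc_15_1 lc_d_rc_15_1 lc_d_rc_3_3 lc_d_rc_3_3 lc_d_rc_3_1 lc_d_rc_3_3 lc_d_rc_22_6 lc_d_rc_16_4 lc_d_rc_16_4 lc_d_rc_22_2 lc_d_rc_22_4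 lc_d_rc_15_1 lc_d_rc_22_2 lc_d_rc_16_4 lc_d_rc_15_1 lc_d_rc_16_4 lc_d_rc_27_10 lc_d_rc_15_1 lc_d_rc_16_0 lc_d_rc_27_10 lc_d_rc_3_3 lc_d_rc_16_0 lc_d_rc_15_1 lc_d_rc_17_2 lc_d_rc_24_0 lc_d_rc_15_1 lc_d_rc_25_14 lc_d_rc_3_3 lc_d_rc_15_1 lc_d_Cert_tree lc_d_rc_16_4 lc_d_rc_17_2 lc_d_rc_15_1 lc_d_rc_22_8 lc_d_rc_24_5 lc_d_rc_22_4 lc_d_rc_3_1 lc_d_rc_8_3 lc_d_rc_16_2 lc_d_rc_23_4 lc_d_rc_16_4 lc_d_rc_22_2 lc_d_rc_15_1 lc_d_rc_12_3 lc_d_rc_17_2 lc_d_rc_27_2 lc_d_rc_15_1 lc_d_rc_15_1 lc_d_rc_15_1 lc_d_rc_15_1 lc_d_rc_8_3 lc_d_rc_8_3 lc_d_rc_3_3 lc_d_rc_8_3 lc_d_Cert_tree lc_d_rc_27_4 lc_d_rc_15_1 lc_d_rc_17_0 lc_d_rc_16_4) (@D3.rec (fun _ => (Cert rels S Gen.d)) lc_d_rc_24_0 lc_d_rc_15_1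 lc_d_rc_24_0 lc_d_rc_23_2 lc_d_rc_25_6 lc_d_rc_24_0 lc_d_rc_22_8 lc_d_rc_16_4 lc_d_rc_25_6 lc_d_rc_3_3 lc_d_rc_15_1 lc_d_rc_17_2 lc_d_rc_25_6 lc_d_rc_23_6 lc_d_rc_3_3 lc_d_Cert_tree lc_d_Cert_tree lc_d_Cert_tree lc_d_rc_15_1 lc_d_rc_3_3 lc_d_rc_8_3 lc_d_rc_3_3 lc_d_rc_25_2 lc_d_rc_17_2 lc_d_rc_17_0 lc_d_rc_15_1 lc_d_rc_16_2 lc_d_rc_15_1 lc_d_rc_23_2 lc_d_rc_8_3 lc_d_rc_16_4 lc_d_Cert_tree lc_d_rc_24_0 lc_d_rc_15_1 lc_d_rc_17_2 lc_d_rc_15_1 lc_d_rc_23_8 lc_d_rc_23_2 lc_d_rc_15_1 lc_d_rc_17_2 lc_d_rc_15_1 lc_d_rc_15_1 lc_d_rc_16_4 lc_d_rc_25_6 lc_d_rc_23_8 lc_d_rc_3_1 lc_d_rc_15_1 lc_d_rc_8_3 lc_d_rc_3_1 lc_d_rc_17_0 lc_d_rc_22_4 lc_d_rc_15_1 lc_d_rc_8_3 lc_d_rc_27_4 lc_d_rc_3_3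 lc_d_rc_15_1 lc_d_Cert_tree lc_d_rc_8_3 lc_d_Cert_tree lc_d_rc_15_1 lc_d_rc_15_1 lc_d_rc_8_3) (@D3.rec (fun _ => (Cert rels S Gen.d)) lc_d_rc_22_6 lc_d_rc_23_4 lc_d_rc_25_6 lc_d_rc_15_1 lc_d_rc_16_4 lc_d_rc_3_3 lc_d_rc_12_1 lc_d_rc_23_2 lc_d_rc_15_1 lc_d_rc_8_3 lc_d_rc_17_2 lc_d_rc_15_1 lc_d_rc_15_1 lc_d_rc_23_6 lc_d_rc_25_2 lc_d_rc_15_1 lc_d_rc_22_2 lc_d_rc_8_3 lc_d_rc_22_8 lc_d_rc_24_0 lc_d_rc_8_3 lc_d_rc_24_0 lc_d_rc_15_1 lc_d_rc_23_4 lc_d_rc_15_1 lc_d_rc_8_3 lc_d_Cert_tree lc_d_rc_15_1 lc_d_rc_22_2 lc_d_rc_8_1 lc_d_rc_15_1 lc_d_rc_27_4 lc_d_rc_15_1 lc_d_rc_15_1 lc_d_rc_15_1 lc_d_rc_15_1 lc_d_rc_15_1 lc_d_rc_24_5 lc_d_rc_23_2 lc_d_rc_23_8 lc_d_rc_3_1 lc_d_Cert_tree lc_d_rc_15_1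 lc_d_rc_15_1 lc_d_rc_22_4 lc_d_rc_3_3 lc_d_rc_17_2 lc_d_Cert_tree lc_d_Cert_tree lc_d_Cert_tree lc_d_Cert_tree lc_d_rc_15_1 lc_d_rc_17_2 lc_d_rc_15_1 lc_d_rc_15_1 lc_d_Cert_tree lc_d_Cert_tree lc_d_rc_15_1 lc_d_rc_17_2 lc_d_Cert_tree lc_d_rc_15_1 lc_d_Cert_tree) (@D3.rec (fun _ => (Cert rels S Gen.d)) lc_d_rc_15_1 lc_d_rc_27_2 lc_d_rc_15_1 lc_d_rc_24_5 lc_d_rc_17_2 lc_d_rc_8_1 lc_d_rc_15_1 lc_d_rc_15_1 lc_d_rc_27_4 lc_d_rc_15_1 lc_d_rc_23_4 lc_d_rc_16_4 lc_d_Cert_tree lc_d_rc_15_1 lc_d_rc_17_2 lc_d_rc_23_4 lc_d_rc_15_1 lc_d_rc_15_1 lc_d_rc_8_3 lc_d_rc_15_1 lc_d_rc_24_5 lc_d_Cert_tree lc_d_rc_15_1 lc_d_rc_24_0 lc_d_rc_17_2 lc_d_rc_22_4 lc_d_rc_15_1 lc_d_rc_24_5 lc_d_rc_27_8 lc_d_rc_8_3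 lc_d_Cert_tree lc_d_Cert_tree lc_d_Cert_tree lc_d_rc_15_1 lc_d_rc_17_2 lc_d_rc_8_3 lc_d_rc_16_4 lc_d_Cert_tree lc_d_Cert_tree lc_d_rc_15_1 lc_d_rc_17_2 lc_d_rc_15_1 lc_d_rc_17_2 lc_d_rc_17_2 lc_d_Cert_tree lc_d_Cert_tree lc_d_rc_15_1 lc_d_rc_17_2 lc_d_rc_12_3 lc_d_rc_17_2 lc_d_rc_15_1 lc_d_rc_22_2 lc_d_rc_3_1 lc_d_Cert_tree lc_d_rc_22_2 lc_d_Cert_tree lc_d_Cert_tree lc_d_rc_15_1 lc_d_rc_17_2 lc_d_rc_24_5 lc_d_rc_15_1 lc_d_rc_16_4) (@D3.rec (fun _ => (Cert rels S Gen.d)) lc_d_rc_3_3 lc_d_rc_8_1 lc_d_rc_22_4 lc_d_rc_3_3 lc_d_rc_8_3 lc_d_rc_22_4 lc_d_rc_16_2 lc_d_rc_22_2 lc_d_Cert_tree lc_d_rc_23_6 lc_d_rc_17_2 lc_d_rc_27_2 lc_d_rc_22_4 lc_d_rc_15_1 lc_d_rc_22_4 lc_d_Cert_tree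 lc_d_rc_25_14 lc_d_rc_15_1 lc_d_rc_17_2 lc_d_rc_25_6 lc_d_rc_23_8 lc_d_rc_15_1 lc_d_rc_15_1 lc_d_rc_25_2 lc_d_rc_24_0 lc_d_rc_3_3 lc_d_rc_23_4 lc_d_rc_23_4 lc_d_rc_22_2 lc_d_rc_23_4 lc_d_rc_15_1 lc_d_rc_27_4 lc_d_rc_25_6 lc_d_rc_15_1 lc_d_Cert_tree lc_d_rc_25_10 lc_d_rc_8_3 lc_d_rc_25_18 lc_d_rc_15_1 lc_d_rc_17_2 lc_d_rc_15_1 lc_d_rc_27_4 lc_d_rc_15_1 lc_d_rc_23_6 lc_d_rc_16_4 lc_d_rc_22_6 lc_d_rc_22_2 lc_d_rc_23_6 lc_d_rc_24_5 lc_d_rc_17_2 lc_d_rc_24_0 lc_d_rc_24_0 lc_d_rc_27_8 lc_d_rc_23_2 lc_d_rc_12_3 lc_d_rc_24_0 lc_d_rc_15_1 lc_d_rc_8_1 lc_d_rc_22_6 lc_d_Cert_tree lc_d_Cert_tree lc_d_rc_15_1) (@D3.rec (fun _ => (Cert rels S Gen.d)) lc_d_rc_17_2 lc_d_rc_15_1 lc_d_rc_15_1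 lc_d_rc_12_3 lc_d_rc_16_0 lc_d_rc_24_0 lc_d_rc_15_1 lc_d_rc_27_2 lc_d_rc_15_1 lc_d_rc_22_6 lc_d_rc_15_1 lc_d_rc_3_3 lc_d_rc_8_1 lc_d_rc_15_1 lc_d_rc_16_0 lc_d_rc_15_1 lc_d_rc_8_3 lc_d_rc_3_1 lc_d_rc_17_2 lc_d_rc_15_1 lc_d_rc_8_1 lc_d_rc_15_1 lc_d_rc_23_8 lc_d_rc_8_1 lc_d_Cert_tree lc_d_rc_15_1 lc_d_rc_27_2 lc_d_rc_16_4 lc_d_Cert_tree lc_d_rc_15_1 lc_d_rc_15_1 lc_d_rc_8_3 lc_d_rc_8_3 lc_d_Cert_tree lc_d_Cert_tree lc_d_rc_15_1 lc_d_rc_17_2 lc_d_rc_16_2 lc_d_rc_15_1 lc_d_rc_17_2 lc_d_rc_15_1 lc_d_rc_27_4 lc_d_rc_15_1 lc_d_rc_24_5 lc_d_rc_8_3 lc_d_rc_23_2 lc_d_rc_17_0 lc_d_rc_23_2 lc_d_rc_17_2 lc_d_rc_15_1 lc_d_rc_22_6 lc_d_rc_23_8 lc_d_rc_22_6 lc_d_rc_15_1 lc_d_rc_15_1 lc_d_rc_17_2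 lc_d_rc_15_1 lc_d_rc_27_4 lc_d_rc_8_1 lc_d_rc_15_1 lc_d_rc_15_1 lc_d_rc_27_4) (@D3.rec (fun _ => (Cert rels S Gen.d)) lc_d_rc_8_1 lc_d_rc_12_3 lc_d_rc_15_1 lc_d_rc_3_3 lc_d_rc_15_1 lc_d_rc_15_1 lc_d_rc_3_3 lc_d_rc_15_1 lc_d_rc_15_1 lc_d_rc_27_4 lc_d_rc_16_4 lc_d_rc_15_1 lc_d_rc_27_4 lc_d_rc_15_1 lc_d_rc_23_8 lc_d_rc_22_4 lc_d_rc_15_1 lc_d_rc_27_8 lc_d_rc_22_4 lc_d_rc_8_3 lc_d_rc_24_5 lc_d_rc_17_2 lc_d_rc_8_1 lc_d_rc_16_4 lc_d_rc_16_4 lc_d_rc_15_1 lc_d_rc_22_2 lc_d_rc_23_6 lc_d_rc_8_3 lc_d_rc_8_3 lc_d_rc_23_4 lc_d_rc_8_1 lc_d_rc_15_1 lc_d_rc_24_5 lc_d_rc_15_1 lc_d_rc_16_4 lc_d_rc_24_0 lc_d_rc_17_2 lc_d_rc_15_1 lc_d_rc_8_3 lc_d_rc_15_1 lc_d_rc_17_2 lc_d_rc_15_1 lc_d_rc_15_1 lc_d_rc_23_8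 lc_d_rc_16_2 lc_d_rc_23_4 lc_d_rc_27_4 lc_d_rc_16_4 lc_d_Cert_tree lc_d_rc_3_1 lc_d_rc_15_1 lc_d_rc_25_2 lc_d_rc_15_1 lc_d_rc_25_2 lc_d_rc_27_10 lc_d_rc_15_1 lc_d_rc_3_3 lc_d_rc_8_3 lc_d_rc_23_8 lc_d_rc_22_4 lc_d_rc_12_3) (@D3.rec (fun _ => (Cert rels S Gen.d)) lc_d_rc_3_3 lc_d_rc_15_1 lc_d_rc_16_2 lc_d_rc_23_6 lc_d_rc_15_1 lc_d_rc_17_2 lc_d_rc_8_3 lc_d_rc_15_1 lc_d_rc_3_3 lc_d_rc_15_1 lc_d_rc_15_1 lc_d_rc_16_0 lc_d_rc_27_4 lc_d_rc_24_0 lc_d_rc_24_5 lc_d_rc_23_4 lc_d_rc_15_1 lc_d_rc_22_2 lc_d_rc_15_1 lc_d_rc_27_2 lc_d_rc_22_4 lc_d_rc_24_5 lc_d_rc_15_1 lc_d_rc_24_5 lc_d_Cert_tree lc_d_rc_15_1 lc_d_rc_27_2 lc_d_rc_3_3 lc_d_rc_8_3 lc_d_rc_16_0 lc_d_rc_12_15 lc_d_rc_22_2 lc_d_rc_24_0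 lc_d_rc_23_2 lc_d_rc_3_3 lc_d_rc_15_1 lc_d_rc_15_1 lc_d_rc_15_1 lc_d_rc_17_0 lc_d_rc_16_2 lc_d_rc_15_1 lc_d_rc_15_1 lc_d_rc_22_8 lc_d_rc_12_15 lc_d_rc_16_4 lc_d_rc_15_1 lc_d_rc_8_3 lc_d_rc_15_1 lc_d_rc_15_1 lc_d_rc_8_3 lc_d_rc_3_3 lc_d_rc_15_1 lc_d_rc_23_2 lc_d_rc_24_0 lc_d_rc_17_2 lc_d_rc_15_1 lc_d_rc_15_1 lc_d_rc_15_1 lc_d_rc_22_4 lc_d_rc_15_1 lc_d_rc_15_1 lc_d_rc_27_4) (@D3.rec (fun _ => (Cert rels S Gen.d)) lc_d_rc_25_2 lc_d_rc_16_2 lc_d_rc_8_3 lc_d_rc_15_1 lc_d_rc_8_3 lc_d_rc_17_2 lc_d_rc_3_1 lc_d_rc_24_0 lc_d_rc_3_3 lc_d_rc_8_3 lc_d_rc_16_4 lc_d_rc_15_1 lc_d_rc_27_4 lc_d_rc_24_0 lc_d_rc_22_2 lc_d_rc_15_1 lc_d_rc_16_4 lc_d_rc_3_3 lc_d_rc_15_1 lc_d_rc_17_2 lc_d_rc_3_3 lc_d_rc_3_3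 lc_d_rc_24_5 lc_d_rc_16_4 lc_d_rc_25_2 lc_d_Cert_tree lc_d_rc_23_8 lc_d_rc_8_3 lc_d_rc_23_6 lc_d_rc_22_8 lc_d_rc_15_1 lc_d_rc_8_3 lc_d_rc_15_1 lc_d_rc_25_2 lc_d_rc_22_4 lc_d_rc_15_1 lc_d_rc_17_2 lc_d_rc_8_1 lc_d_rc_23_2 lc_d_rc_23_2 lc_d_rc_27_2 lc_d_rc_23_6 lc_d_rc_15_1 lc_d_rc_8_1 lc_d_Cert_tree lc_d_rc_27_10 lc_d_rc_15_1 lc_d_rc_15_1 lc_d_rc_15_1 lc_d_rc_24_0 lc_d_rc_15_1 lc_d_rc_22_4 lc_d_rc_8_1 lc_d_rc_3_1 lc_d_rc_15_1 lc_d_rc_16_4 lc_d_rc_17_2 lc_d_rc_23_2 lc_d_rc_24_0 lc_d_rc_8_3 lc_d_rc_15_1 lc_d_rc_15_1) (@D3.rec (fun _ => (Cert rels S Gen.d)) lc_d_rc_17_2 lc_d_rc_16_2 lc_d_rc_15_1 lc_d_rc_24_5 lc_d_rc_8_1 lc_d_rc_15_1 lc_d_rc_15_1 lc_d_rc_23_2 lc_d_rc_17_2 lc_d_rc_15_1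 lc_d_Cert_tree lc_d_rc_16_4 lc_d_rc_8_3 lc_d_rc_27_2 lc_d_rc_15_1 lc_d_rc_22_2 lc_d_rc_15_1 lc_d_rc_15_1 lc_d_rc_16_2 lc_d_rc_22_4 lc_d_rc_15_1 lc_d_rc_15_1 lc_d_rc_12_1 lc_d_rc_17_2 lc_d_rc_27_4 lc_d_rc_15_1 lc_d_rc_24_5 lc_d_rc_27_8 lc_d_rc_15_1 lc_d_rc_16_2 lc_d_rc_15_1 lc_d_rc_15_1 lc_d_rc_22_2 lc_d_rc_17_2 lc_d_rc_15_1 lc_d_rc_15_1 lc_d_rc_15_1 lc_d_rc_23_6 lc_d_rc_17_2 lc_d_rc_15_1 lc_d_rc_17_2 lc_d_rc_22_4 lc_d_rc_27_4 lc_d_rc_25_2 lc_d_rc_24_5 lc_d_rc_15_1 lc_d_rc_8_1 lc_d_rc_16_0 lc_d_rc_27_4 lc_d_rc_22_6 lc_d_rc_15_1 lc_d_rc_22_4 lc_d_rc_23_6 lc_d_rc_16_4 lc_d_rc_15_1 lc_d_rc_15_1 lc_d_rc_15_1 lc_d_rc_22_4 lc_d_rc_23_2 lc_d_rc_16_2 lc_d_rc_22_2 lc_d_rc_15_1) (@D3.rec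 (fun _ => (Cert rels S Gen.d)) lc_d_rc_3_1 lc_d_rc_8_1 lc_d_rc_15_1 lc_d_Cert_tree lc_d_rc_15_1 lc_d_rc_15_1 lc_d_rc_27_2 lc_d_rc_24_5 lc_d_rc_24_0 lc_d_rc_17_2 lc_d_rc_8_1 lc_d_rc_15_1 lc_d_rc_16_4 lc_d_Cert_tree lc_d_Cert_tree lc_d_rc_15_1 lc_d_rc_8_1 lc_d_rc_17_2 lc_d_Cert_tree lc_d_rc_15_1 lc_d_rc_15_1 lc_d_rc_16_2 lc_d_Cert_tree lc_d_rc_15_1 lc_d_rc_16_2 lc_d_rc_15_1 lc_d_rc_27_4 lc_d_rc_12_3 lc_d_rc_17_0 lc_d_rc_8_3 lc_d_rc_27_2 lc_d_Cert_tree lc_d_rc_22_6 lc_d_rc_23_2 lc_d_rc_27_2 lc_d_rc_15_1 lc_d_rc_8_3 lc_d_rc_15_1 lc_d_rc_23_2 lc_d_rc_3_3 lc_d_Cert_tree lc_d_rc_15_1 lc_d_rc_17_2 lc_d_rc_17_0 lc_d_rc_15_1 lc_d_rc_25_2 lc_d_rc_23_8 lc_d_rc_17_2 lc_d_rc_24_5 lc_d_rc_8_3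 lc_d_rc_3_1 lc_d_rc_15_1 lc_d_rc_15_1 lc_d_rc_24_0 lc_d_rc_15_1 lc_d_rc_16_2 lc_d_rc_23_4 lc_d_rc_24_5 lc_d_rc_15_1 lc_d_rc_23_4 lc_d_rc_17_2 lc_d_rc_16_2) (@D3.rec (fun _ => (Cert rels S Gen.d)) lc_d_rc_15_1 lc_d_rc_23_8 lc_d_rc_15_1 lc_d_rc_16_4 lc_d_rc_23_4 lc_d_rc_15_1 lc_d_rc_15_1 lc_d_rc_16_4 lc_d_rc_15_1 lc_d_rc_17_2 lc_d_rc_27_8 lc_d_rc_8_1 lc_d_rc_24_0 lc_d_rc_15_1 lc_d_rc_23_8 lc_d_rc_8_3 lc_d_rc_8_3 lc_d_rc_8_3 lc_d_rc_24_5 lc_d_rc_17_0 lc_d_rc_8_1 lc_d_rc_15_1 lc_d_Cert_tree lc_d_rc_17_2 lc_d_rc_15_1 lc_d_Cert_tree lc_d_rc_15_1 lc_d_rc_15_1 lc_d_rc_15_1 lc_d_rc_24_5 lc_d_rc_15_1 lc_d_rc_15_1 lc_d_rc_3_3 lc_d_rc_8_1 lc_d_rc_15_1 lc_d_rc_3_3 lc_d_rc_15_1 lc_d_rc_24_5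 lc_d_rc_15_1 lc_d_rc_16_4 lc_d_Cert_tree lc_d_rc_27_4 lc_d_rc_15_1 lc_d_rc_3_3 lc_d_rc_15_1 lc_d_rc_16_4 lc_d_rc_15_1 lc_d_rc_22_2 lc_d_rc_15_1 lc_d_rc_17_2 lc_d_rc_16_4 lc_d_Cert_tree lc_d_rc_15_1 lc_d_rc_23_6 lc_d_rc_22_8 lc_d_rc_3_3 lc_d_rc_15_1 lc_d_rc_17_2 lc_d_rc_22_2 lc_d_Cert_tree lc_d_Cert_tree lc_d_rc_15_1) (@D3.rec (fun _ => (Cert rels S Gen.d)) lc_d_rc_8_3 lc_d_rc_8_3 lc_d_rc_22_2 lc_d_rc_16_4 lc_d_rc_23_2 lc_d_rc_16_4 lc_d_rc_27_10 lc_d_rc_12_15 lc_d_rc_15_1 lc_d_rc_17_2 lc_d_rc_27_10 lc_d_rc_15_1 lc_d_rc_15_1 lc_d_rc_24_0 lc_d_rc_17_2 lc_d_rc_3_3 lc_d_rc_8_1 lc_d_rc_15_1 lc_d_rc_8_3 lc_d_rc_27_2 lc_d_rc_27_4 lc_d_rc_23_2 lc_d_rc_17_2 lc_d_Cert_tree lc_d_rc_15_1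 lc_d_rc_12_3 lc_d_rc_3_3 lc_d_rc_23_8 lc_d_rc_8_3 lc_d_rc_15_1 lc_d_rc_8_1 lc_d_rc_15_1 lc_d_Cert_tree lc_d_rc_15_1 lc_d_rc_8_3 lc_d_rc_22_2 lc_d_rc_8_1 lc_d_rc_23_2 lc_d_rc_15_1 lc_d_rc_15_1 lc_d_rc_24_0 lc_d_rc_8_1 lc_d_rc_15_1 lc_d_rc_22_6 lc_d_rc_16_2 lc_d_rc_22_6 lc_d_rc_15_1 lc_d_rc_15_1 lc_d_rc_15_1 lc_d_rc_23_8 lc_d_rc_16_2 lc_d_rc_17_2 lc_d_rc_23_2 lc_d_rc_8_3 lc_d_rc_25_10 lc_d_rc_23_6 lc_d_rc_15_1 lc_d_rc_8_1 lc_d_rc_15_1 lc_d_rc_8_3 lc_d_rc_27_2 lc_d_rc_27_8) (@D3.rec (fun _ => (Cert rels S Gen.d)) lc_d_rc_15_1 lc_d_rc_23_8 lc_d_rc_15_1 lc_d_Cert_tree lc_d_rc_15_1 lc_d_rc_16_2 lc_d_rc_24_0 lc_d_rc_23_4 lc_d_rc_3_3 lc_d_rc_24_5 lc_d_rc_15_1 lc_d_rc_15_1 lc_d_rc_15_1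 lc_d_rc_22_4 lc_d_rc_17_2 lc_d_rc_15_1 lc_d_rc_27_2 lc_d_rc_15_1 lc_d_rc_27_2 lc_d_rc_24_0 lc_d_rc_23_4 lc_d_rc_23_4 lc_d_rc_17_2 lc_d_rc_17_2 lc_d_rc_24_0 lc_d_rc_23_8 lc_d_rc_23_8 lc_d_rc_15_1 lc_d_rc_23_4 lc_d_rc_24_5 lc_d_rc_17_2 lc_d_rc_16_4 lc_d_rc_15_1 lc_d_rc_22_4 lc_d_rc_22_6 lc_d_rc_27_8 lc_d_rc_23_4 lc_d_rc_15_1 lc_d_rc_17_0 lc_d_rc_15_1 lc_d_rc_3_1 lc_d_rc_8_3 lc_d_rc_16_4 lc_d_rc_27_8 lc_d_rc_23_4 lc_d_rc_27_4 lc_d_Cert_tree lc_d_rc_15_1 lc_d_rc_16_4 lc_d_rc_17_2 lc_d_rc_15_1 lc_d_rc_17_2 lc_d_rc_17_2 lc_d_rc_15_1 lc_d_rc_15_1 lc_d_rc_23_6 lc_d_rc_23_4 lc_d_rc_22_4 lc_d_rc_16_2 lc_d_rc_22_4 lc_d_rc_22_6 lc_d_rc_8_3) (@D3.rec (fun _ => (Cert rels S Gen.d)) lc_d_rc_8_3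 lc_d_rc_8_1 lc_d_Cert_tree lc_d_rc_16_2 lc_d_Cert_tree lc_d_Cert_tree lc_d_rc_15_1 lc_d_rc_22_6 lc_d_rc_27_4 lc_d_rc_8_1 lc_d_rc_15_1 lc_d_rc_15_1 lc_d_rc_23_4 lc_d_rc_15_1 lc_d_rc_24_0 lc_d_rc_15_1 lc_d_rc_22_6 lc_d_rc_16_4 lc_d_rc_15_1 lc_d_rc_12_13 lc_d_rc_15_1 lc_d_rc_3_3 lc_d_rc_15_1 lc_d_rc_27_4 lc_d_Cert_tree lc_d_Cert_tree lc_d_rc_15_1 lc_d_rc_15_1 lc_d_rc_17_2 lc_d_rc_23_6 lc_d_rc_12_1 lc_d_rc_16_4 lc_d_rc_17_2 lc_d_rc_22_6 lc_d_rc_15_1 lc_d_rc_15_1 lc_d_rc_15_1 lc_d_rc_16_2 lc_d_rc_8_1 lc_d_rc_25_18 lc_d_rc_3_3 lc_d_rc_22_2 lc_d_rc_15_1 lc_d_rc_15_1 lc_d_rc_23_2 lc_d_rc_8_3 lc_d_rc_25_6 lc_d_rc_23_8 lc_d_rc_15_1 lc_d_rc_23_2 lc_d_rc_22_6 lc_d_rc_15_1 lc_d_rc_16_2 lc_d_rc_16_2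 lc_d_rc_15_1 lc_d_rc_15_1 lc_d_rc_16_0 lc_d_rc_15_1 lc_d_rc_15_1 lc_d_rc_15_1 lc_d_Cert_tree lc_d_rc_15_1) (@D3.rec (fun _ => (Cert rels S Gen.d)) lc_d_rc_15_1 lc_d_rc_25_18 lc_d_rc_27_10 lc_d_rc_15_1 lc_d_rc_3_3 lc_d_rc_8_3 lc_d_rc_27_10 lc_d_rc_24_5 lc_d_rc_24_0 lc_d_rc_27_2 lc_d_rc_3_3 lc_d_rc_15_1 lc_d_rc_15_1 lc_d_rc_12_15 lc_d_rc_27_8 lc_d_rc_27_4 lc_d_rc_15_1 lc_d_rc_8_3 lc_d_rc_3_3 lc_d_rc_15_1 lc_d_rc_12_15 lc_d_rc_15_1 lc_d_rc_27_4 lc_d_rc_23_6 lc_d_rc_15_1 lc_d_rc_15_1 lc_d_rc_15_1 lc_d_Cert_tree lc_d_rc_17_2 lc_d_rc_8_3 lc_d_rc_23_2 lc_d_rc_16_2 lc_d_rc_24_0 lc_d_rc_16_4 lc_d_rc_15_1 lc_d_rc_8_3 lc_d_rc_15_1 lc_d_rc_16_2 lc_d_rc_8_3 lc_d_rc_22_6 lc_d_rc_16_4 lc_d_rc_8_3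 lc_d_rc_12_1 lc_d_rc_16_4 lc_d_rc_3_3 lc_d_rc_22_2 lc_d_rc_15_1 lc_d_rc_22_4 lc_d_rc_15_1 lc_d_rc_27_2 lc_d_rc_27_10 lc_d_rc_16_2 lc_d_rc_23_4 lc_d_rc_22_6 lc_d_rc_15_1 lc_d_rc_23_2 lc_d_rc_15_1 lc_d_rc_8_3 lc_d_rc_25_6 lc_d_rc_8_3 lc_d_rc_24_5 lc_d_rc_23_2) (@D3.rec (fun _ => (Cert rels S Gen.d)) lc_d_rc_15_1 lc_d_rc_23_4 lc_d_rc_15_1 lc_d_rc_22_8 lc_d_rc_24_0 lc_d_rc_15_1 lc_d_rc_27_2 lc_d_rc_23_4 lc_d_rc_27_8 lc_d_rc_24_5 lc_d_rc_8_1 lc_d_rc_23_4 lc_d_rc_15_1 lc_d_rc_24_5 lc_d_rc_8_1 lc_d_rc_16_4 lc_d_rc_8_1 lc_d_rc_15_1 lc_d_rc_27_8 lc_d_rc_15_1 lc_d_rc_16_4 lc_d_rc_27_4 lc_d_rc_24_5 lc_d_rc_8_3 lc_d_rc_15_1 lc_d_rc_8_3 lc_d_rc_15_1 lc_d_rc_15_1 lc_d_rc_8_3 lc_d_rc_16_4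 lc_d_rc_8_1 lc_d_rc_23_2 lc_d_rc_23_4 lc_d_rc_15_1 lc_d_rc_27_2 lc_d_rc_23_6 lc_d_rc_25_10 lc_d_rc_15_1 lc_d_rc_15_1 lc_d_rc_16_4 lc_d_rc_27_10 lc_d_rc_16_2 lc_d_rc_22_2 lc_d_rc_15_1 lc_d_rc_25_2 lc_d_rc_15_1 lc_d_rc_17_2 lc_d_rc_3_3 lc_d_rc_8_3 lc_d_rc_15_1 lc_d_rc_8_1 lc_d_rc_15_1 lc_d_Cert_tree lc_d_rc_12_15 lc_d_rc_8_3 lc_d_rc_15_1 lc_d_rc_27_8 lc_d_rc_23_6 lc_d_rc_22_8 lc_d_rc_17_2 lc_d_rc_15_1 lc_d_rc_27_4) (@D3.rec (fun _ => (Cert rels S Gen.d)) lc_d_rc_8_3 lc_d_rc_16_4 lc_d_rc_16_2 lc_d_rc_3_3 lc_d_rc_24_0 lc_d_rc_22_2 lc_d_rc_15_1 lc_d_rc_15_1 lc_d_rc_15_1 lc_d_rc_15_1 lc_d_rc_16_4 lc_d_rc_12_15 lc_d_rc_22_4 lc_d_rc_15_1 lc_d_rc_16_0 lc_d_rc_8_3 lc_d_rc_24_5 lc_d_rc_27_4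 lc_d_rc_15_1 lc_d_rc_24_5 lc_d_rc_15_1 lc_d_rc_16_4 lc_d_rc_24_0 lc_d_rc_15_1 lc_d_rc_27_8 lc_d_rc_15_1 lc_d_rc_8_3 lc_d_rc_8_3 lc_d_rc_22_6 lc_d_rc_24_0 lc_d_rc_16_2 lc_d_rc_8_3 lc_d_rc_22_4 lc_d_rc_15_1 lc_d_rc_17_0 lc_d_Cert_tree lc_d_rc_27_4 lc_d_rc_15_1 lc_d_rc_15_1 lc_d_rc_15_1 lc_d_rc_27_8 lc_d_rc_24_5 lc_d_rc_22_2 lc_d_rc_25_18 lc_d_rc_23_4 lc_d_rc_15_1 lc_d_rc_24_0 lc_d_rc_15_1 lc_d_rc_16_4 lc_d_rc_27_8 lc_d_rc_15_1 lc_d_rc_22_4 lc_d_rc_15_1 lc_d_rc_15_1 lc_d_rc_15_1 lc_d_rc_24_5 lc_d_rc_15_1 lc_d_rc_15_1 lc_d_rc_8_1 lc_d_rc_15_1 lc_d_rc_27_8 lc_d_rc_17_2) (@D3.rec (fun _ => (Cert rels S Gen.d)) lc_d_rc_8_3 lc_d_rc_16_0 lc_d_rc_23_8 lc_d_rc_8_3 lc_d_rc_22_4 lc_d_rc_27_2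 lc_d_rc_23_2 lc_d_rc_3_1 lc_d_rc_23_2 lc_d_rc_15_1 lc_d_rc_22_4 lc_d_rc_17_0 lc_d_rc_16_2 lc_d_rc_16_0 lc_d_rc_23_8 lc_d_Cert_tree lc_d_Cert_tree lc_d_rc_8_3 lc_d_rc_15_1 lc_d_rc_15_1 lc_d_rc_27_10 lc_d_rc_27_4 lc_d_rc_17_2 lc_d_rc_17_2 lc_d_rc_25_18 lc_d_rc_15_1 lc_d_rc_23_6 lc_d_rc_17_0 lc_d_rc_12_1 lc_d_rc_8_1 lc_d_rc_15_1 lc_d_rc_27_8 lc_d_rc_23_2 lc_d_rc_15_1 lc_d_rc_15_1 lc_d_rc_15_1 lc_d_rc_17_2 lc_d_rc_16_2 lc_d_rc_15_1 lc_d_rc_8_3 lc_d_rc_15_1 lc_d_rc_27_4 lc_d_rc_24_5 lc_d_rc_16_2 lc_d_rc_15_1 lc_d_Cert_tree lc_d_rc_24_5 lc_d_rc_24_0 lc_d_rc_15_1 lc_d_rc_8_3 lc_d_rc_23_6 lc_d_rc_23_4 lc_d_rc_16_2 lc_d_rc_23_2 lc_d_rc_16_4 lc_d_rc_16_0 lc_d_rc_22_4 lc_d_rc_15_1 lc_d_rc_27_2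 lc_d_rc_23_4 lc_d_rc_15_1 lc_d_rc_15_1) (@D3.rec (fun _ => (Cert rels S Gen.d)) lc_d_rc_15_1 lc_d_rc_27_4 lc_d_rc_15_1 lc_d_rc_15_1 lc_d_rc_23_6 lc_d_rc_12_9 lc_d_rc_15_1 lc_d_rc_27_2 lc_d_rc_22_6 lc_d_rc_15_1 lc_d_rc_22_8 lc_d_Cert_tree lc_d_Cert_tree lc_d_rc_15_1 lc_d_rc_15_1 lc_d_rc_27_8 lc_d_rc_15_1 lc_d_rc_15_1 lc_d_rc_22_4 lc_d_rc_15_1 lc_d_rc_15_1 lc_d_rc_8_3 lc_d_rc_8_3 lc_d_rc_15_1 lc_d_rc_22_2 lc_d_rc_27_4 lc_d_rc_15_1 lc_d_rc_15_1 lc_d_rc_15_1 lc_d_rc_27_2 lc_d_rc_25_6 lc_d_Cert_tree lc_d_Cert_tree lc_d_Cert_tree lc_d_rc_15_1 lc_d_rc_17_2 lc_d_rc_23_6 lc_d_rc_24_0 lc_d_rc_17_2 lc_d_rc_15_1 lc_d_rc_15_1 lc_d_rc_27_2 lc_d_rc_15_1 lc_d_rc_23_8 lc_d_rc_16_0 lc_d_rc_16_0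 lc_d_rc_15_1 lc_d_rc_22_2 lc_d_rc_27_4 lc_d_rc_27_4 lc_d_rc_15_1 lc_d_rc_15_1 lc_d_rc_17_2 lc_d_rc_15_1 lc_d_rc_22_2 lc_d_rc_17_2 lc_d_rc_27_4 lc_d_rc_23_2 lc_d_Cert_tree lc_d_rc_15_1 lc_d_rc_23_4 lc_d_rc_15_1) (@D3.rec (fun _ => (Cert rels S Gen.d)) lc_d_rc_15_1 lc_d_rc_15_1 lc_d_rc_17_0 lc_d_rc_17_2 lc_d_Cert_tree lc_d_rc_8_3 lc_d_rc_15_1 lc_d_Cert_tree lc_d_Cert_tree lc_d_rc_27_2 lc_d_rc_3_3 lc_d_rc_15_1 lc_d_rc_16_4 lc_d_rc_25_14 lc_d_rc_15_1 lc_d_rc_8_3 lc_d_rc_3_3 lc_d_rc_15_1 lc_d_rc_17_2 lc_d_rc_22_6 lc_d_rc_15_1 lc_d_rc_8_1 lc_d_rc_15_1 lc_d_rc_16_4 lc_d_rc_15_1 lc_d_Cert_tree lc_d_rc_23_8 lc_d_rc_15_1 lc_d_Cert_tree lc_d_rc_15_1 lc_d_rc_15_1 lc_d_rc_24_0 lc_d_rc_15_1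 lc_d_rc_17_2 lc_d_Cert_tree lc_d_rc_15_1 lc_d_rc_24_5 lc_d_rc_23_4 lc_d_rc_15_1 lc_d_rc_23_2 lc_d_rc_17_2 lc_d_rc_15_1 lc_d_rc_8_1 lc_d_rc_8_1 lc_d_rc_24_5 lc_d_rc_15_1 lc_d_rc_27_4 lc_d_Cert_tree lc_d_rc_22_8 lc_d_rc_15_1 lc_d_Cert_tree lc_d_rc_25_6 lc_d_rc_16_0 lc_d_rc_27_4 lc_d_rc_17_2 lc_d_Cert_tree lc_d_rc_15_1 lc_d_rc_16_0 lc_d_Cert_tree lc_d_rc_8_1 lc_d_rc_15_1 lc_d_rc_12_15) (@D3.rec (fun _ => (Cert rels S Gen.d)) lc_d_rc_15_1 lc_d_rc_24_5 lc_d_rc_27_8 lc_d_rc_15_1 lc_d_rc_15_1 lc_d_Cert_tree lc_d_rc_16_2 lc_d_rc_8_3 lc_d_rc_22_8 lc_d_Cert_tree lc_d_rc_12_1 lc_d_rc_24_0 lc_d_rc_16_0 lc_d_rc_15_1 lc_d_rc_12_1 lc_d_rc_15_1 lc_d_rc_17_2 lc_d_rc_15_1 lc_d_rc_3_3 lc_d_rc_23_8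 lc_d_rc_27_4 lc_d_rc_15_1 lc_d_rc_24_5 lc_d_rc_22_4 lc_d_rc_16_4 lc_d_rc_8_3 lc_d_rc_22_4 lc_d_Cert_tree lc_d_rc_3_1 lc_d_rc_15_1 lc_d_rc_8_3 lc_d_rc_16_4 lc_d_rc_8_3 lc_d_rc_12_1 lc_d_rc_27_2 lc_d_rc_23_4 lc_d_rc_15_1 lc_d_rc_22_6 lc_d_rc_15_1 lc_d_Cert_tree lc_d_rc_16_2 lc_d_rc_3_1 lc_d_rc_24_5 lc_d_rc_15_1 lc_d_rc_16_2 lc_d_rc_15_1 lc_d_rc_8_1 lc_d_rc_16_4 lc_d_rc_15_1 lc_d_rc_22_6 lc_d_rc_15_1 lc_d_rc_15_1 lc_d_rc_15_1 lc_d_Cert_tree lc_d_rc_15_1 lc_d_rc_8_3 lc_d_rc_3_3 lc_d_rc_8_3 lc_d_rc_15_1 lc_d_rc_24_5 lc_d_rc_15_1 lc_d_rc_23_6) (@D3.rec (fun _ => (Cert rels S Gen.d)) lc_d_rc_15_1 lc_d_rc_17_2 lc_d_rc_17_2 lc_d_rc_25_6 lc_d_rc_12_1 lc_d_rc_15_1 lc_d_rc_12_13 lc_d_rc_23_6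 lc_d_rc_23_2 lc_d_Cert_tree lc_d_rc_15_1 lc_d_rc_15_1 lc_d_rc_24_0 lc_d_Cert_tree lc_d_rc_15_1 lc_d_rc_16_2 lc_d_rc_8_3 lc_d_rc_24_0 lc_d_rc_15_1 lc_d_rc_3_3 lc_d_rc_15_1 lc_d_rc_27_4 lc_d_rc_15_1 lc_d_rc_15_1 lc_d_rc_15_1 lc_d_rc_27_4 lc_d_rc_15_1 lc_d_rc_27_4 lc_d_rc_16_0 lc_d_rc_15_1 lc_d_rc_24_0 lc_d_rc_22_4 lc_d_rc_15_1 lc_d_rc_8_3 lc_d_rc_12_3 lc_d_rc_22_2 lc_d_rc_17_2 lc_d_rc_3_3 lc_d_rc_22_6 lc_d_rc_3_1 lc_d_rc_3_1 lc_d_rc_8_3 lc_d_rc_12_1 lc_d_rc_16_4 lc_d_Cert_tree lc_d_rc_15_1 lc_d_rc_22_2 lc_d_rc_15_1 lc_d_rc_22_8 lc_d_rc_15_1 lc_d_rc_23_4 lc_d_rc_15_1 lc_d_rc_23_4 lc_d_rc_15_1 lc_d_rc_27_2 lc_d_rc_15_1 lc_d_rc_22_2 lc_d_rc_22_4 lc_d_rc_17_2 lc_d_rc_27_8 lc_d_rc_15_1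 lc_d_rc_17_2) (@D3.rec (fun _ => (Cert rels S Gen.d)) lc_d_rc_15_1 lc_d_rc_15_1 lc_d_Cert_tree lc_d_rc_16_4 lc_d_rc_17_0 lc_d_rc_15_1 lc_d_rc_22_4 lc_d_rc_22_8 lc_d_rc_8_3 lc_d_rc_16_0 lc_d_rc_15_1 lc_d_rc_23_6 lc_d_rc_23_4 lc_d_rc_22_6 lc_d_rc_15_1 lc_d_rc_24_5 lc_d_rc_15_1 lc_d_rc_22_8 lc_d_rc_17_2 lc_d_rc_16_4 lc_d_rc_8_3 lc_d_rc_17_2 lc_d_rc_16_4 lc_d_rc_15_1 lc_d_rc_3_3 lc_d_rc_22_4 lc_d_rc_27_8 lc_d_rc_16_0 lc_d_Cert_tree lc_d_rc_15_1 lc_d_rc_17_2 lc_d_rc_27_4 lc_d_rc_27_10 lc_d_rc_27_2 lc_d_rc_27_4 lc_d_rc_15_1 lc_d_rc_8_1 lc_d_rc_24_5 lc_d_rc_15_1 lc_d_rc_27_8 lc_d_rc_24_0 lc_d_rc_8_3 lc_d_rc_17_2 lc_d_rc_23_8 lc_d_rc_27_2 lc_d_rc_15_1 lc_d_rc_27_2 lc_d_rc_15_1 lc_d_rc_8_3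 lc_d_rc_27_2 lc_d_rc_22_4 lc_d_rc_16_2 lc_d_rc_8_3 lc_d_rc_24_0 lc_d_rc_3_3 lc_d_rc_22_2 lc_d_rc_16_0 lc_d_rc_15_1 lc_d_rc_15_1 lc_d_rc_27_2 lc_d_rc_15_1 lc_d_rc_27_4) (@D3.rec (fun _ => (Cert rels S Gen.d)) lc_d_rc_23_2 lc_d_rc_16_0 lc_d_rc_15_1 lc_d_rc_17_2 lc_d_rc_15_1 lc_d_rc_23_4 lc_d_rc_15_1 lc_d_rc_24_0 lc_d_rc_8_3 lc_d_rc_3_3 lc_d_rc_17_2 lc_d_rc_15_1 lc_d_rc_24_0 lc_d_rc_24_0 lc_d_rc_24_0 lc_d_rc_8_3 lc_d_rc_15_1 lc_d_rc_22_4 lc_d_rc_17_2 lc_d_rc_15_1 lc_d_Cert_tree lc_d_rc_16_2 lc_d_Cert_tree lc_d_Cert_tree lc_d_rc_3_3 lc_d_Cert_tree lc_d_rc_22_2 lc_d_Cert_tree lc_d_rc_15_1 lc_d_rc_22_6 lc_d_rc_15_1 lc_d_rc_8_3 lc_d_rc_16_4 lc_d_rc_27_4 lc_d_rc_15_1 lc_d_rc_16_0 lc_d_rc_27_2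 lc_d_rc_23_2 lc_d_rc_15_1 lc_d_rc_15_1 lc_d_rc_15_1 lc_d_rc_23_2 lc_d_rc_17_2 lc_d_rc_15_1 lc_d_rc_8_3 lc_d_Cert_tree lc_d_rc_3_3 lc_d_rc_8_1 lc_d_rc_15_1 lc_d_rc_22_4 lc_d_rc_8_3 lc_d_rc_15_1 lc_d_rc_15_1 lc_d_rc_22_6 lc_d_rc_15_1 lc_d_Cert_tree lc_d_rc_15_1 lc_d_Cert_tree lc_d_rc_15_1 lc_d_rc_15_1 lc_d_rc_3_3 lc_d_rc_15_1) (@D3.rec (fun _ => (Cert rels S Gen.d)) lc_d_rc_16_4 lc_d_rc_3_3 lc_d_rc_16_0 lc_d_rc_15_1 lc_d_rc_15_1 lc_d_rc_15_1 lc_d_rc_22_2 lc_d_rc_16_4 lc_d_rc_15_1 lc_d_rc_15_1 lc_d_rc_24_5 lc_d_rc_16_4 lc_d_rc_15_1 lc_d_rc_27_2 lc_d_rc_15_1 lc_d_rc_15_1 lc_d_rc_22_4 lc_d_rc_17_2 lc_d_rc_15_1 lc_d_rc_27_8 lc_d_rc_22_6 lc_d_rc_15_1 lc_d_rc_8_3 lc_d_rc_8_3 lc_d_rc_15_1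 lc_d_rc_17_2 lc_d_rc_16_4 lc_d_rc_12_13 lc_d_rc_3_1 lc_d_rc_16_0 lc_d_rc_15_1 lc_d_rc_24_0 lc_d_rc_16_2 lc_d_rc_17_2 lc_d_Cert_tree lc_d_rc_22_2 lc_d_rc_15_1 lc_d_rc_24_0 lc_d_rc_15_1 lc_d_rc_16_2 lc_d_rc_24_0 lc_d_rc_15_1 lc_d_rc_8_1 lc_d_rc_27_4 lc_d_rc_8_1 lc_d_rc_8_3 lc_d_rc_15_1 lc_d_Cert_tree lc_d_Cert_tree lc_d_rc_8_1 lc_d_rc_15_1 lc_d_rc_27_4 lc_d_rc_23_6 lc_d_rc_15_1 lc_d_rc_8_3 lc_d_rc_15_1 lc_d_rc_8_3 lc_d_rc_22_2 lc_d_rc_16_4 lc_d_rc_23_2 lc_d_rc_15_1 lc_d_rc_24_0) (@D3.rec (fun _ => (Cert rels S Gen.d)) lc_d_rc_15_1 lc_d_Cert_tree lc_d_rc_15_1 lc_d_rc_15_1 lc_d_rc_24_0 lc_d_rc_15_1 lc_d_rc_15_1 lc_d_rc_15_1 lc_d_rc_15_1 lc_d_rc_22_2 lc_d_rc_16_2 lc_d_rc_15_1 lc_d_rc_17_2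 lc_d_rc_15_1 lc_d_Cert_tree lc_d_Cert_tree lc_d_rc_15_1 lc_d_rc_15_1 lc_d_rc_15_1 lc_d_rc_27_8 lc_d_rc_15_1 lc_d_rc_27_4 lc_d_rc_15_1 lc_d_rc_3_3 lc_d_rc_17_2 lc_d_rc_16_4 lc_d_rc_27_4 lc_d_rc_27_4 lc_d_rc_22_6 lc_d_rc_27_10 lc_d_rc_25_10 lc_d_Cert_tree lc_d_rc_27_10 lc_d_rc_25_2 lc_d_rc_17_2 lc_d_rc_3_3 lc_d_rc_15_1 lc_d_rc_3_3 lc_d_rc_8_1 lc_d_rc_16_4 lc_d_rc_17_2 lc_d_rc_15_1 lc_d_rc_15_1 lc_d_rc_23_6 lc_d_rc_16_0 lc_d_rc_17_2 lc_d_rc_15_1 lc_d_rc_27_2 lc_d_rc_15_1 lc_d_rc_8_1 lc_d_rc_23_4 lc_d_rc_23_4 lc_d_rc_23_4 lc_d_rc_15_1 lc_d_rc_22_2 lc_d_rc_16_4 lc_d_rc_15_1 lc_d_rc_25_6 lc_d_rc_15_1 lc_d_rc_23_4 lc_d_Cert_tree lc_d_rc_24_5) (@D3.rec (fun _ => (Cert rels S Gen.d))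 lc_d_rc_15_1 lc_d_rc_8_3 lc_d_rc_22_2 lc_d_rc_15_1 lc_d_rc_15_1 lc_d_rc_15_1 lc_d_rc_8_3 lc_d_rc_24_0 lc_d_rc_24_0 lc_d_rc_23_4 lc_d_rc_24_0 lc_d_rc_22_2 lc_d_rc_27_4 lc_d_rc_22_6 lc_d_rc_15_1 lc_d_rc_23_4 lc_d_rc_16_2 lc_d_rc_8_3 lc_d_Cert_tree lc_d_rc_8_3 lc_d_rc_15_1 lc_d_rc_17_2 lc_d_rc_16_2 lc_d_rc_17_2 lc_d_rc_3_3 lc_d_rc_27_10 lc_d_rc_8_1 lc_d_rc_17_2 lc_d_rc_15_1 lc_d_rc_15_1 lc_d_rc_24_5 lc_d_rc_15_1 lc_d_rc_15_1 lc_d_Cert_tree lc_d_rc_15_1 lc_d_rc_22_8 lc_d_rc_27_8 lc_d_rc_22_2 lc_d_rc_15_1 lc_d_rc_27_10 lc_d_rc_24_0 lc_d_rc_15_1 lc_d_rc_17_2 lc_d_rc_15_1 lc_d_rc_23_2 lc_d_rc_24_5 lc_d_rc_8_3 lc_d_Cert_tree lc_d_rc_22_8 lc_d_rc_24_5 lc_d_rc_24_0 lc_d_rc_27_8 lc_d_rc_24_0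 lc_d_rc_16_2 lc_d_rc_3_3 lc_d_rc_24_5 lc_d_rc_23_8 lc_d_rc_24_0 lc_d_rc_27_8 lc_d_rc_15_1 lc_d_rc_23_6 lc_d_rc_24_0) (@D3.rec (fun _ => (Cert rels S Gen.d)) lc_d_rc_22_6 lc_d_rc_8_3 lc_d_rc_16_4 lc_d_rc_15_1 lc_d_rc_15_1 lc_d_rc_23_6 lc_d_rc_22_6 lc_d_rc_16_4 lc_d_rc_27_10 lc_d_rc_17_2 lc_d_rc_16_4 lc_d_rc_15_1 lc_d_rc_15_1 lc_d_rc_15_1 lc_d_rc_12_3 lc_d_rc_27_4 lc_d_rc_16_4 lc_d_rc_24_5 lc_d_rc_16_4 lc_d_rc_16_4 lc_d_rc_27_10 lc_d_rc_8_1 lc_d_rc_15_1 lc_d_rc_22_4 lc_d_rc_3_3 lc_d_rc_17_2 lc_d_Cert_tree lc_d_rc_15_1 lc_d_rc_23_4 lc_d_rc_27_4 lc_d_rc_23_6 lc_d_rc_23_4 lc_d_rc_12_1 lc_d_rc_23_8 lc_d_rc_15_1 lc_d_rc_8_3 lc_d_rc_23_2 lc_d_Cert_tree lc_d_rc_27_10 lc_d_rc_8_1 lc_d_rc_16_0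 lc_d_rc_15_1 lc_d_rc_16_4 lc_d_rc_15_1 lc_d_rc_15_1 lc_d_rc_27_4 lc_d_rc_15_1 lc_d_rc_8_3 lc_d_rc_16_2 lc_d_rc_16_4 lc_d_rc_15_1 lc_d_rc_27_4 lc_d_rc_24_5 lc_d_rc_8_3 lc_d_rc_27_8 lc_d_rc_15_1 lc_d_rc_8_1 lc_d_rc_15_1 lc_d_rc_15_1 lc_d_rc_3_1 lc_d_rc_16_0 lc_d_rc_16_0) (@D3.rec (fun _ => (Cert rels S Gen.d)) lc_d_rc_27_10 lc_d_rc_15_1 lc_d_rc_15_1 lc_d_rc_15_1 lc_d_rc_22_4 lc_d_rc_16_4 lc_d_rc_16_2 lc_d_rc_15_1 lc_d_rc_16_4 lc_d_rc_23_4 lc_d_rc_23_8 lc_d_rc_3_3 lc_d_rc_16_2 lc_d_rc_15_1 lc_d_rc_23_2 lc_d_rc_15_1 lc_d_rc_12_15 lc_d_rc_25_6 lc_d_rc_15_1 lc_d_rc_15_1 lc_d_rc_27_8 lc_d_rc_15_1 lc_d_rc_3_3 lc_d_rc_22_6 lc_d_rc_16_4 lc_d_rc_8_3 lc_d_rc_16_2 lc_d_rc_27_4 lc_d_rc_15_1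 lc_d_rc_8_3 lc_d_rc_3_3 lc_d_rc_16_2 lc_d_rc_15_1 lc_d_Cert_tree lc_d_rc_15_1 lc_d_rc_8_3 lc_d_rc_16_0 lc_d_rc_27_2 lc_d_rc_23_4 lc_d_rc_15_1 lc_d_rc_16_4 lc_d_rc_15_1 lc_d_rc_22_4 lc_d_rc_16_4 lc_d_rc_3_3 lc_d_rc_8_3 lc_d_rc_24_5 lc_d_rc_25_2 lc_d_rc_25_18 lc_d_Cert_tree lc_d_rc_15_1 lc_d_Cert_tree lc_d_rc_8_3 lc_d_rc_22_4 lc_d_rc_22_4 lc_d_rc_15_1 lc_d_rc_3_3 lc_d_rc_27_2 lc_d_rc_24_5 lc_d_rc_15_1 lc_d_rc_27_2 lc_d_rc_12_5) (@D3.rec (fun _ => (Cert rels S Gen.d)) lc_d_rc_8_3 lc_d_rc_8_3 lc_d_rc_15_1 lc_d_rc_3_3 lc_d_rc_15_1 lc_d_rc_22_4 lc_d_rc_16_2 lc_d_rc_22_8 lc_d_rc_22_4 lc_d_rc_8_3 lc_d_rc_8_1 lc_d_rc_15_1 lc_d_rc_22_4 lc_d_rc_23_4 lc_d_rc_16_0 lc_d_rc_8_3 lc_d_rc_3_3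 lc_d_rc_17_0 lc_d_rc_16_2 lc_d_rc_8_1 lc_d_rc_3_3 lc_d_rc_15_1 lc_d_rc_27_4 lc_d_rc_8_3 lc_d_rc_23_2 lc_d_rc_27_4 lc_d_rc_27_10 lc_d_rc_15_1 lc_d_rc_23_2 lc_d_rc_15_1 lc_d_rc_27_2 lc_d_rc_24_5 lc_d_rc_15_1 lc_d_rc_15_1 lc_d_rc_16_4 lc_d_Cert_tree lc_d_rc_23_6 lc_d_rc_15_1 lc_d_rc_12_5 lc_d_rc_16_4 lc_d_rc_15_1 lc_d_rc_17_2 lc_d_rc_24_0 lc_d_rc_15_1 lc_d_rc_15_1 lc_d_rc_16_4 lc_d_rc_15_1 lc_d_rc_15_1 lc_d_rc_15_1 lc_d_rc_8_1 lc_d_rc_15_1 lc_d_rc_16_4 lc_d_rc_15_1 lc_d_rc_22_6 lc_d_rc_16_4 lc_d_rc_15_1 lc_d_rc_27_4 lc_d_Cert_tree lc_d_rc_15_1 lc_d_rc_8_3 lc_d_rc_22_4 lc_d_Cert_tree) (@D3.rec (fun _ => (Cert rels S Gen.d)) lc_d_rc_17_2 lc_d_rc_22_2 lc_d_rc_15_1 lc_d_rc_27_2 lc_d_rc_24_5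 lc_d_rc_24_0 lc_d_rc_17_0 lc_d_rc_23_6 lc_d_rc_22_4 lc_d_rc_16_2 lc_d_rc_3_3 lc_d_rc_8_1 lc_d_rc_15_1 lc_d_rc_15_1 lc_d_rc_15_1 lc_d_rc_27_4 lc_d_rc_15_1 lc_d_rc_3_3 lc_d_rc_8_3 lc_d_Cert_tree lc_d_rc_15_1 lc_d_rc_15_1 lc_d_rc_24_0 lc_d_rc_22_2 lc_d_rc_27_4 lc_d_rc_8_3 lc_d_rc_16_2 lc_d_rc_8_1 lc_d_rc_16_4 lc_d_rc_15_1 lc_d_rc_27_4 lc_d_rc_25_18 lc_d_rc_16_2 lc_d_rc_16_4 lc_d_rc_15_1 lc_d_rc_15_1 lc_d_rc_22_2 lc_d_rc_27_8 lc_d_rc_22_4 lc_d_rc_15_1 lc_d_rc_23_4 lc_d_rc_15_1 lc_d_rc_16_4 lc_d_rc_15_1 lc_d_rc_23_8 lc_d_Cert_tree lc_d_rc_15_1 lc_d_rc_23_6 lc_d_rc_15_1 lc_d_rc_25_2 lc_d_rc_22_2 lc_d_rc_8_3 lc_d_rc_16_4 lc_d_rc_16_2 lc_d_rc_8_3 lc_d_rc_15_1 lc_d_rc_16_4 lc_d_rc_8_3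 lc_d_rc_12_15 lc_d_rc_15_1 lc_d_rc_15_1 lc_d_rc_15_1) (@D3.rec (fun _ => (Cert rels S Gen.d)) lc_d_rc_15_1 lc_d_rc_15_1 lc_d_rc_22_4 lc_d_rc_24_5 lc_d_rc_8_3 lc_d_rc_27_4 lc_d_rc_16_4 lc_d_rc_15_1 lc_d_rc_16_4 lc_d_rc_15_1 lc_d_rc_8_1 lc_d_rc_15_1 lc_d_rc_24_0 lc_d_Cert_tree lc_d_rc_16_0 lc_d_rc_8_3 lc_d_rc_15_1 lc_d_rc_17_2 lc_d_rc_15_1 lc_d_rc_15_1 lc_d_rc_23_6 lc_d_rc_22_4 lc_d_rc_8_3 lc_d_rc_17_2 lc_d_rc_15_1 lc_d_rc_8_3 lc_d_rc_8_3 lc_d_rc_23_8 lc_d_rc_15_1 lc_d_rc_27_4 lc_d_rc_15_1 lc_d_rc_15_1 lc_d_rc_15_1 lc_d_rc_22_4 lc_d_rc_17_2 lc_d_rc_15_1 lc_d_rc_27_2 lc_d_rc_15_1 lc_d_rc_23_8 lc_d_rc_17_0 lc_d_rc_15_1 lc_d_rc_24_0 lc_d_rc_24_0 lc_d_rc_27_2 lc_d_rc_16_0 lc_d_rc_8_1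 lc_d_rc_15_1 lc_d_rc_8_3 lc_d_Cert_tree lc_d_rc_15_1 lc_d_rc_15_1 lc_d_rc_15_1 lc_d_rc_27_2 lc_d_rc_17_2 lc_d_rc_22_6 lc_d_rc_12_1 lc_d_rc_22_6 lc_d_rc_3_1 lc_d_rc_15_1 lc_d_rc_15_1 lc_d_rc_24_0 lc_d_rc_15_1) (@D3.rec (fun _ => (Cert rels S Gen.d)) lc_d_rc_22_6 lc_d_rc_8_1 lc_d_rc_15_1 lc_d_rc_15_1 lc_d_rc_27_4 lc_d_rc_8_3 lc_d_rc_15_1 lc_d_rc_27_4 lc_d_rc_23_2 lc_d_rc_15_1 lc_d_rc_27_4 lc_d_rc_15_1 lc_d_rc_15_1 lc_d_rc_27_8 lc_d_rc_27_4 lc_d_rc_15_1 lc_d_rc_15_1 lc_d_rc_16_2 lc_d_rc_23_4 lc_d_rc_22_4 lc_d_rc_15_1 lc_d_rc_17_0 lc_d_rc_22_8 lc_d_rc_15_1 lc_d_rc_15_1 lc_d_rc_16_4 lc_d_rc_12_13 lc_d_rc_17_2 lc_d_Cert_tree lc_d_rc_16_4 lc_d_rc_3_3 lc_d_rc_27_4 lc_d_rc_23_8 lc_d_rc_15_1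 lc_d_rc_27_10 lc_d_rc_15_1 lc_d_rc_15_1 lc_d_rc_15_1 lc_d_rc_15_1 lc_d_rc_12_5 lc_d_Cert_tree lc_d_rc_15_1 lc_d_rc_16_2 lc_d_rc_15_1 lc_d_rc_15_1 lc_d_rc_22_6 lc_d_rc_8_1 lc_d_rc_27_10 lc_d_rc_22_4 lc_d_rc_3_3 lc_d_rc_16_2 lc_d_rc_23_4 lc_d_rc_17_2 lc_d_rc_15_1 lc_d_rc_27_8 lc_d_rc_15_1 lc_d_rc_17_0 lc_d_rc_16_2 lc_d_rc_3_3 lc_d_rc_15_1 lc_d_rc_17_2 lc_d_rc_22_2) (@D3.rec (fun _ => (Cert rels S Gen.d)) lc_d_rc_15_1 lc_d_rc_3_1 lc_d_rc_8_3 lc_d_rc_8_3 lc_d_rc_27_2 lc_d_rc_24_0 lc_d_rc_22_8 lc_d_rc_23_4 lc_d_rc_23_8 lc_d_rc_27_10 lc_d_rc_15_1 lc_d_rc_25_2 lc_d_rc_27_10 lc_d_rc_3_3 lc_d_rc_15_1 lc_d_rc_15_1 lc_d_rc_23_6 lc_d_rc_3_3 lc_d_rc_15_1 lc_d_rc_8_1 lc_d_rc_15_1 lc_d_rc_27_4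 lc_d_rc_15_1 lc_d_rc_15_1 lc_d_rc_12_9 lc_d_rc_15_1 lc_d_rc_24_0 lc_d_rc_8_3 lc_d_rc_3_3 lc_d_rc_24_0 lc_d_rc_15_1 lc_d_rc_23_4 lc_d_rc_15_1 lc_d_rc_8_3 lc_d_rc_8_3 lc_d_rc_8_1 lc_d_rc_15_1 lc_d_rc_27_2 lc_d_rc_8_3 lc_d_rc_22_2 lc_d_rc_22_6 lc_d_rc_24_5 lc_d_rc_16_2 lc_d_rc_8_3 lc_d_rc_17_0 lc_d_Cert_tree lc_d_rc_24_0 lc_d_rc_3_3 lc_d_rc_15_1 lc_d_rc_16_0 lc_d_rc_15_1 lc_d_rc_17_2 lc_d_rc_22_6 lc_d_rc_22_6 lc_d_rc_15_1 lc_d_rc_8_1 lc_d_rc_22_6 lc_d_rc_15_1 lc_d_rc_22_6 lc_d_rc_27_8 lc_d_rc_27_4 lc_d_rc_15_1) (@D3.rec (fun _ => (Cert rels S Gen.d)) lc_d_rc_23_8 lc_d_rc_27_10 lc_d_rc_24_5 lc_d_Cert_tree lc_d_rc_8_1 lc_d_rc_3_3 lc_d_rc_27_4 lc_d_Cert_tree lc_d_rc_15_1 lc_d_rc_16_4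 lc_d_rc_15_1 lc_d_rc_8_1 lc_d_rc_17_2 lc_d_rc_15_1 lc_d_Cert_tree lc_d_rc_15_1 lc_d_rc_17_2 lc_d_rc_8_3 lc_d_rc_15_1 lc_d_rc_22_6 lc_d_rc_8_3 lc_d_rc_3_1 lc_d_rc_8_3 lc_d_rc_15_1 lc_d_rc_24_0 lc_d_rc_15_1 lc_d_rc_16_0 lc_d_rc_8_3 lc_d_rc_15_1 lc_d_rc_27_8 lc_d_rc_8_3 lc_d_rc_23_8 lc_d_rc_15_1 lc_d_rc_8_3 lc_d_rc_8_1 lc_d_rc_15_1 lc_d_rc_24_5 lc_d_rc_27_8 lc_d_rc_15_1 lc_d_Cert_tree lc_d_rc_16_4 lc_d_rc_15_1 lc_d_rc_8_3 lc_d_rc_8_1 lc_d_rc_25_6 lc_d_rc_23_2 lc_d_rc_15_1 lc_d_rc_16_4 lc_d_rc_23_8 lc_d_rc_15_1 lc_d_rc_15_1 lc_d_rc_16_0 lc_d_rc_8_3 lc_d_Cert_tree lc_d_rc_22_8 lc_d_rc_15_1 lc_d_rc_8_3 lc_d_Cert_tree lc_d_rc_15_1 lc_d_rc_3_3 lc_d_rc_16_0 lc_d_rc_3_3) (@D3.rec (fun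 _ => (Cert rels S Gen.d)) lc_d_rc_8_3 lc_d_rc_15_1 lc_d_rc_15_1 lc_d_Cert_tree lc_d_rc_15_1 lc_d_rc_27_8 lc_d_rc_15_1 lc_d_Cert_tree lc_d_rc_23_8 lc_d_rc_15_1 lc_d_rc_22_2 lc_d_rc_16_2 lc_d_rc_16_4 lc_d_Cert_tree lc_d_rc_15_1 lc_d_rc_16_4 lc_d_rc_23_8 lc_d_rc_24_0 lc_d_Cert_tree lc_d_rc_15_1 lc_d_rc_22_4 lc_d_Cert_tree lc_d_rc_15_1 lc_d_rc_8_1 lc_d_rc_24_0 lc_d_rc_3_3 lc_d_rc_8_3 lc_d_rc_17_2 lc_d_rc_15_1 lc_d_rc_27_4 lc_d_Cert_tree lc_d_rc_15_1 lc_d_rc_27_4 lc_d_rc_22_6 lc_d_Cert_tree lc_d_rc_15_1 lc_d_rc_22_4 lc_d_rc_3_3 lc_d_rc_8_3 lc_d_rc_15_1 lc_d_rc_3_1 lc_d_rc_12_3 lc_d_rc_27_2 lc_d_Cert_tree lc_d_Cert_tree lc_d_rc_15_1 lc_d_rc_15_1 lc_d_rc_17_2 lc_d_rc_8_3 lc_d_rc_17_0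 lc_d_rc_15_1 lc_d_rc_16_4 lc_d_rc_8_3 lc_d_rc_15_1 lc_d_rc_27_4 lc_d_rc_3_1 lc_d_rc_8_1 lc_d_rc_15_1 lc_d_rc_22_8 lc_d_rc_25_18 lc_d_rc_27_4 lc_d_rc_16_0) (@D3.rec (fun _ => (Cert rels S Gen.d)) lc_d_rc_3_3 lc_d_rc_15_1 lc_d_rc_12_1 lc_d_rc_15_1 lc_d_rc_15_1 lc_d_rc_24_5 lc_d_rc_17_2 lc_d_rc_15_1 lc_d_rc_3_1 lc_d_rc_24_0 lc_d_rc_22_6 lc_d_rc_15_1 lc_d_rc_24_5 lc_d_rc_15_1 lc_d_rc_15_1 lc_d_rc_16_2 lc_d_rc_8_3 lc_d_rc_24_0 lc_d_rc_22_2 lc_d_rc_3_3 lc_d_rc_15_1 lc_d_rc_24_5 lc_d_rc_16_2 lc_d_rc_15_1 lc_d_rc_15_1 lc_d_rc_17_2 lc_d_rc_15_1 lc_d_rc_16_4 lc_d_rc_8_3 lc_d_rc_8_1 lc_d_rc_24_0 lc_d_rc_15_1 lc_d_rc_27_10 lc_d_rc_27_2 lc_d_rc_15_1 lc_d_rc_24_0 lc_d_rc_23_4 lc_d_rc_12_3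 lc_d_rc_24_0 lc_d_rc_3_1 lc_d_rc_8_3 lc_d_rc_27_2 lc_d_rc_23_6 lc_d_rc_23_8 lc_d_rc_15_1 lc_d_rc_8_3 lc_d_rc_23_4 lc_d_rc_23_6 lc_d_rc_25_6 lc_d_rc_15_1 lc_d_rc_3_3 lc_d_rc_3_1 lc_d_rc_3_1 lc_d_rc_22_2 lc_d_rc_16_4 lc_d_rc_22_8 lc_d_rc_22_6 lc_d_rc_25_14 lc_d_Cert_tree lc_d_rc_15_1 lc_d_rc_15_1 lc_d_rc_23_6) (@D3.rec (fun _ => (Cert rels S Gen.d)) lc_d_rc_27_10 lc_d_rc_3_3 lc_d_rc_16_2 lc_d_rc_15_1 lc_d_rc_15_1 lc_d_rc_15_1 lc_d_rc_23_4 lc_d_rc_17_2 lc_d_rc_24_5 lc_d_rc_16_4 lc_d_rc_16_0 lc_d_rc_15_1 lc_d_rc_8_3 lc_d_rc_15_1 lc_d_rc_24_5 lc_d_rc_15_1 lc_d_rc_27_8 lc_d_rc_22_2 lc_d_rc_15_1 lc_d_rc_27_10 lc_d_rc_23_6 lc_d_rc_15_1 lc_d_rc_27_4 lc_d_rc_8_1 lc_d_rc_27_2 lc_d_rc_24_0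 lc_d_rc_15_1 lc_d_rc_8_3 lc_d_rc_22_8 lc_d_rc_27_10 lc_d_Cert_tree lc_d_rc_16_2 lc_d_rc_22_4 lc_d_rc_15_1 lc_d_rc_8_3 lc_d_rc_15_1 lc_d_rc_8_3 lc_d_rc_22_2 lc_d_rc_16_2 lc_d_rc_24_5 lc_d_rc_16_2 lc_d_rc_25_2 lc_d_rc_27_4 lc_d_Cert_tree lc_d_rc_15_1 lc_d_rc_8_3 lc_d_rc_22_6 lc_d_rc_15_1 lc_d_rc_27_8 lc_d_rc_15_1 lc_d_rc_15_1 lc_d_rc_27_8 lc_d_Cert_tree lc_d_rc_15_1 lc_d_rc_27_4 lc_d_rc_24_0 lc_d_rc_22_4 lc_d_rc_15_1 lc_d_rc_22_6 lc_d_rc_8_3 lc_d_rc_8_3 lc_d_rc_15_1) (@D3.rec (fun _ => (Cert rels S Gen.d)) lc_d_rc_3_3 lc_d_rc_23_4 lc_d_rc_8_3 lc_d_rc_23_8 lc_d_rc_24_0 lc_d_rc_16_4 lc_d_rc_27_4 lc_d_rc_25_2 lc_d_rc_15_1 lc_d_rc_27_2 lc_d_rc_23_6 lc_d_rc_12_15 lc_d_rc_24_5 lc_d_rc_3_3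 lc_d_rc_15_1 lc_d_rc_27_4 lc_d_rc_23_2 lc_d_rc_16_0 lc_d_rc_15_1 lc_d_rc_27_10 lc_d_rc_8_3 lc_d_rc_22_4 lc_d_rc_15_1 lc_d_rc_15_1 lc_d_rc_3_3 lc_d_rc_15_1 lc_d_rc_23_2 lc_d_rc_8_1 lc_d_rc_27_8 lc_d_rc_23_6 lc_d_rc_15_1 lc_d_rc_15_1 lc_d_rc_17_2 lc_d_rc_27_8 lc_d_rc_22_4 lc_d_rc_16_4 lc_d_rc_15_1 lc_d_rc_8_3 lc_d_rc_15_1 lc_d_rc_15_1 lc_d_rc_17_2 lc_d_rc_23_4 lc_d_rc_24_5 lc_d_rc_23_2 lc_d_rc_15_1 lc_d_rc_22_4 lc_d_rc_15_1 lc_d_rc_15_1 lc_d_rc_8_3 lc_d_rc_22_2 lc_d_rc_24_0 lc_d_rc_25_18 lc_d_rc_17_2 lc_d_rc_8_3 lc_d_rc_3_1 lc_d_rc_15_1 lc_d_rc_15_1 lc_d_rc_24_0 lc_d_rc_16_4 lc_d_rc_27_2 lc_d_rc_17_2 lc_d_rc_27_8) (@D3.rec (fun _ => (Cert rels S Gen.d)) lc_d_rc_16_0 lc_d_rc_15_1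 lc_d_rc_16_2 lc_d_rc_15_1 lc_d_rc_8_3 lc_d_rc_15_1 lc_d_rc_24_0 lc_d_rc_3_3 lc_d_rc_15_1 lc_d_rc_16_4 lc_d_rc_22_6 lc_d_rc_23_4 lc_d_rc_24_5 lc_d_rc_15_1 lc_d_rc_15_1 lc_d_rc_27_4 lc_d_rc_15_1 lc_d_rc_8_1 lc_d_rc_8_3 lc_d_rc_22_4 lc_d_rc_15_1 lc_d_rc_27_4 lc_d_rc_15_1 lc_d_rc_8_1 lc_d_rc_24_5 lc_d_rc_8_3 lc_d_rc_15_1 lc_d_rc_24_5 lc_d_rc_16_0 lc_d_rc_17_2 lc_d_rc_23_2 lc_d_rc_27_2 lc_d_rc_22_8 lc_d_rc_16_2 lc_d_rc_27_10 lc_d_rc_15_1 lc_d_rc_8_1 lc_d_rc_15_1 lc_d_rc_16_0 lc_d_rc_3_1 lc_d_rc_15_1 lc_d_rc_15_1 lc_d_rc_15_1 lc_d_rc_27_2 lc_d_rc_12_1 lc_d_rc_27_4 lc_d_rc_24_0 lc_d_rc_15_1 lc_d_rc_23_2 lc_d_rc_16_0 lc_d_rc_27_2 lc_d_rc_15_1 lc_d_rc_17_2 lc_d_rc_15_1 lc_d_rc_25_2 lc_d_rc_27_4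 lc_d_rc_8_3 lc_d_rc_8_1 lc_d_Cert_tree lc_d_Cert_tree lc_d_rc_8_1 lc_d_rc_15_1) (@D3.rec (fun _ => (Cert rels S Gen.d)) lc_d_rc_27_4 lc_d_rc_15_1 lc_d_rc_27_8 lc_d_rc_8_3 lc_d_rc_27_10 lc_d_rc_16_0 lc_d_rc_17_2 lc_d_rc_8_3 lc_d_rc_15_1 lc_d_rc_15_1 lc_d_rc_15_1 lc_d_rc_15_1 lc_d_rc_23_6 lc_d_rc_22_4 lc_d_rc_3_3 lc_d_rc_24_0 lc_d_rc_3_3 lc_d_rc_22_2 lc_d_rc_15_1 lc_d_rc_27_10 lc_d_rc_16_0 lc_d_rc_15_1 lc_d_rc_8_1 lc_d_rc_24_5 lc_d_rc_27_8 lc_d_Cert_tree lc_d_rc_15_1 lc_d_rc_12_1 lc_d_rc_17_0 lc_d_rc_16_2 lc_d_rc_15_1 lc_d_rc_24_0 lc_d_rc_15_1 lc_d_rc_17_0 lc_d_rc_25_2 lc_d_rc_24_5 lc_d_rc_27_4 lc_d_rc_8_3 lc_d_rc_8_3 lc_d_rc_8_3 lc_d_rc_16_4 lc_d_rc_8_3 lc_d_rc_22_4 lc_d_rc_15_1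 lc_d_rc_27_4 lc_d_rc_8_3 lc_d_rc_15_1 lc_d_rc_15_1 lc_d_rc_22_4 lc_d_rc_15_1 lc_d_rc_8_3 lc_d_rc_25_2 lc_d_rc_23_6 lc_d_rc_22_6 lc_d_rc_22_4 lc_d_rc_15_1 lc_d_rc_8_1 lc_d_rc_8_3 lc_d_rc_15_1 lc_d_rc_8_3 lc_d_rc_8_3 lc_d_rc_15_1)
def ce_d_26 : D2 → D3 → (Cert rels S Gen.d) := @D2.rec (fun _ => D3 → (Cert rels S Gen.d)) (@D3.rec (fun _ => (Cert rels S Gen.d)) lc_d_rc_15_1 lc_d_Cert_tree lc_d_rc_8_1 lc_d_rc_8_3 lc_d_rc_16_2 lc_d_rc_24_5 lc_d_rc_24_5 lc_d_rc_27_4 lc_d_rc_23_6 lc_d_rc_24_5 lc_d_rc_15_1 lc_d_rc_16_2 lc_d_rc_15_1 lc_d_rc_27_4 lc_d_rc_15_1 lc_d_rc_22_6 lc_d_rc_8_3 lc_d_rc_15_1 lc_d_rc_23_8 lc_d_rc_15_1 lc_d_rc_3_3 lc_d_rc_15_1 lc_d_rc_27_4 lc_d_rc_8_3 lc_d_rc_22_4 lc_d_rc_23_4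 lc_d_rc_22_8 lc_d_rc_22_8 lc_d_rc_12_1 lc_d_rc_16_4 lc_d_rc_22_4 lc_d_rc_15_1 lc_d_rc_15_1 lc_d_rc_15_1 lc_d_Cert_tree lc_d_rc_8_3 lc_d_rc_3_3 lc_d_rc_27_10 lc_d_rc_15_1 lc_d_rc_17_2 lc_d_rc_27_4 lc_d_rc_8_3 lc_d_rc_8_3 lc_d_rc_27_4 lc_d_rc_15_1 lc_d_rc_24_0 lc_d_rc_27_2 lc_d_rc_22_4 lc_d_rc_22_2 lc_d_rc_15_1 lc_d_rc_8_3 lc_d_rc_15_1 lc_d_rc_8_3 lc_d_rc_24_5 lc_d_rc_15_1 lc_d_rc_15_1 lc_d_rc_15_1 lc_d_rc_23_2 lc_d_rc_8_3 lc_d_rc_23_6 lc_d_rc_23_8 lc_d_rc_15_1) (@D3.rec (fun _ => (Cert rels S Gen.d)) lc_d_rc_17_2 lc_d_rc_8_3 lc_d_rc_8_1 lc_d_rc_8_3 lc_d_rc_8_3 lc_d_rc_16_0 lc_d_rc_27_2 lc_d_rc_17_0 lc_d_rc_15_1 lc_d_rc_15_1 lc_d_rc_23_8 lc_d_rc_23_6 lc_d_rc_15_1 lc_d_rc_22_6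 lc_d_rc_24_0 lc_d_rc_8_3 lc_d_rc_15_1 lc_d_rc_15_1 lc_d_rc_23_4 lc_d_rc_23_4 lc_d_rc_8_1 lc_d_rc_15_1 lc_d_rc_8_3 lc_d_rc_17_2 lc_d_rc_25_18 lc_d_rc_15_1 lc_d_rc_22_4 lc_d_rc_16_2 lc_d_Cert_tree lc_d_rc_15_1 lc_d_rc_17_2 lc_d_Cert_tree lc_d_rc_15_1 lc_d_rc_17_2 lc_d_rc_15_1 lc_d_rc_24_5 lc_d_rc_27_2 lc_d_rc_27_4 lc_d_rc_25_2 lc_d_rc_15_1 lc_d_rc_17_2 lc_d_rc_15_1 lc_d_rc_16_4 lc_d_rc_25_2 lc_d_Cert_tree lc_d_rc_22_6 lc_d_rc_15_1 lc_d_rc_22_8 lc_d_rc_15_1 lc_d_Cert_tree lc_d_rc_8_3 lc_d_rc_23_2 lc_d_rc_15_1 lc_d_rc_8_3 lc_d_Cert_tree lc_d_rc_22_8 lc_d_rc_27_4 lc_d_rc_17_0 lc_d_rc_17_2 lc_d_rc_15_1 lc_d_rc_15_1 lc_d_Cert_tree) (@D3.rec (fun _ => (Cert rels S Gen.d)) lc_d_Cert_tree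 lc_d_rc_15_1 lc_d_rc_22_2 lc_d_rc_16_4 lc_d_rc_24_5 lc_d_rc_27_4 lc_d_rc_22_2 lc_d_rc_15_1 lc_d_rc_24_5 lc_d_rc_16_4 lc_d_rc_24_5 lc_d_rc_15_1 lc_d_rc_15_1 lc_d_rc_22_2 lc_d_rc_22_8 lc_d_rc_16_4 lc_d_rc_3_3 lc_d_Cert_tree lc_d_rc_23_4 lc_d_rc_16_4 lc_d_rc_23_2 lc_d_rc_27_4 lc_d_rc_15_1 lc_d_rc_15_1 lc_d_rc_15_1 lc_d_rc_27_10 lc_d_rc_24_0 lc_d_rc_15_1 lc_d_rc_17_2 lc_d_rc_8_3 lc_d_rc_8_1 lc_d_rc_15_1 lc_d_rc_27_4 lc_d_rc_15_1 lc_d_rc_15_1 lc_d_rc_25_2 lc_d_rc_8_3 lc_d_Cert_tree lc_d_rc_22_2 lc_d_rc_17_2 lc_d_rc_15_1 lc_d_rc_16_0 lc_d_rc_8_3 lc_d_rc_15_1 lc_d_rc_27_2 lc_d_rc_15_1 lc_d_rc_15_1 lc_d_rc_23_8 lc_d_rc_16_4 lc_d_rc_24_5 lc_d_rc_15_1 lc_d_rc_23_2 lc_d_rc_15_1 lc_d_rc_15_1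 lc_d_rc_15_1 lc_d_rc_8_3 lc_d_rc_24_0 lc_d_rc_15_1 lc_d_rc_3_1 lc_d_rc_15_1 lc_d_rc_16_4 lc_d_rc_27_10) (@D3.rec (fun _ => (Cert rels S Gen.d)) lc_d_rc_15_1 lc_d_rc_23_2 lc_d_rc_15_1 lc_d_rc_15_1 lc_d_rc_27_4 lc_d_rc_22_4 lc_d_rc_25_18 lc_d_rc_16_4 lc_d_rc_8_1 lc_d_rc_22_2 lc_d_rc_15_1 lc_d_rc_23_6 lc_d_rc_23_2 lc_d_rc_15_1 lc_d_rc_22_8 lc_d_rc_24_0 lc_d_rc_8_3 lc_d_rc_15_1 lc_d_rc_16_2 lc_d_rc_25_2 lc_d_rc_22_2 lc_d_rc_15_1 lc_d_rc_27_4 lc_d_rc_15_1 lc_d_rc_27_10 lc_d_rc_16_2 lc_d_rc_27_2 lc_d_rc_17_2 lc_d_rc_16_0 lc_d_rc_24_5 lc_d_rc_8_3 lc_d_rc_23_2 lc_d_Cert_tree lc_d_rc_8_3 lc_d_rc_15_1 lc_d_rc_27_2 lc_d_rc_15_1 lc_d_rc_15_1 lc_d_rc_15_1 lc_d_rc_15_1 lc_d_rc_22_2 lc_d_rc_15_1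 lc_d_rc_15_1 lc_d_rc_24_5 lc_d_Cert_tree lc_d_rc_15_1 lc_d_rc_15_1 lc_d_rc_8_3 lc_d_rc_24_5 lc_d_rc_16_4 lc_d_rc_8_3 lc_d_rc_15_1 lc_d_rc_23_4 lc_d_rc_27_2 lc_d_rc_15_1 lc_d_rc_24_0 lc_d_rc_17_2 lc_d_rc_22_8 lc_d_rc_16_4 lc_d_rc_22_8 lc_d_rc_12_3 lc_d_rc_15_1) (@D3.rec (fun _ => (Cert rels S Gen.d)) lc_d_rc_24_5 lc_d_rc_24_5 lc_d_rc_15_1 lc_d_rc_15_1 lc_d_rc_23_4 lc_d_rc_22_6 lc_d_rc_22_2 lc_d_rc_8_3 lc_d_rc_15_1 lc_d_rc_15_1 lc_d_rc_23_8 lc_d_rc_8_3 lc_d_rc_22_4 lc_d_rc_15_1 lc_d_rc_27_4 lc_d_rc_15_1 lc_d_rc_3_3 lc_d_rc_15_1 lc_d_rc_8_3 lc_d_rc_12_15 lc_d_rc_27_4 lc_d_rc_22_4 lc_d_rc_23_4 lc_d_rc_15_1 lc_d_rc_15_1 lc_d_rc_24_0 lc_d_rc_27_2 lc_d_rc_15_1 lc_d_Cert_tree lc_d_rc_16_2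 lc_d_rc_3_1 lc_d_rc_15_1 lc_d_Cert_tree lc_d_rc_16_2 lc_d_rc_15_1 lc_d_rc_3_3 lc_d_rc_23_4 lc_d_rc_15_1 lc_d_rc_22_6 lc_d_rc_15_1 lc_d_rc_16_2 lc_d_Cert_tree lc_d_rc_8_3 lc_d_Cert_tree lc_d_rc_15_1 lc_d_Cert_tree lc_d_rc_16_4 lc_d_rc_15_1 lc_d_rc_17_2 lc_d_rc_17_2 lc_d_rc_15_1 lc_d_rc_15_1 lc_d_rc_22_4 lc_d_rc_25_14 lc_d_rc_17_2 lc_d_rc_15_1 lc_d_rc_3_1 lc_d_rc_22_8 lc_d_rc_24_5 lc_d_rc_15_1 lc_d_rc_27_4 lc_d_rc_16_0) (@D3.rec (fun _ => (Cert rels S Gen.d)) lc_d_rc_15_1 lc_d_rc_15_1 lc_d_rc_8_3 lc_d_rc_16_0 lc_d_rc_17_2 lc_d_rc_8_3 lc_d_rc_16_4 lc_d_rc_8_3 lc_d_rc_24_0 lc_d_rc_15_1 lc_d_rc_22_6 lc_d_rc_24_0 lc_d_rc_16_4 lc_d_rc_22_4 lc_d_rc_12_3 lc_d_rc_17_2 lc_d_rc_24_5 lc_d_rc_8_3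 lc_d_rc_3_3 lc_d_rc_17_2 lc_d_rc_3_3 lc_d_rc_17_2 lc_d_rc_15_1 lc_d_rc_24_5 lc_d_rc_8_3 lc_d_rc_23_6 lc_d_rc_27_4 lc_d_rc_15_1 lc_d_rc_25_6 lc_d_rc_27_4 lc_d_rc_17_2 lc_d_Cert_tree lc_d_rc_8_1 lc_d_rc_27_10 lc_d_rc_15_1 lc_d_rc_8_3 lc_d_rc_3_1 lc_d_rc_8_3 lc_d_rc_23_6 lc_d_rc_15_1 lc_d_rc_8_3 lc_d_rc_23_4 lc_d_rc_23_4 lc_d_rc_3_3 lc_d_rc_15_1 lc_d_rc_8_1 lc_d_rc_15_1 lc_d_rc_27_10 lc_d_rc_15_1 lc_d_rc_16_4 lc_d_rc_22_2 lc_d_rc_17_2 lc_d_rc_15_1 lc_d_rc_15_1 lc_d_rc_15_1 lc_d_rc_16_4 lc_d_rc_25_14 lc_d_rc_15_1 lc_d_rc_15_1 lc_d_rc_27_10 lc_d_rc_16_0 lc_d_rc_27_10) (@D3.rec (fun _ => (Cert rels S Gen.d)) lc_d_rc_17_2 lc_d_rc_22_6 lc_d_rc_22_6 lc_d_rc_27_2 lc_d_rc_23_4 lc_d_rc_27_2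 lc_d_rc_23_6 lc_d_Cert_tree lc_d_rc_15_1 lc_d_rc_15_1 lc_d_Cert_tree lc_d_rc_15_1 lc_d_rc_8_3 lc_d_rc_8_1 lc_d_rc_15_1 lc_d_Cert_tree lc_d_rc_15_1 lc_d_rc_15_1 lc_d_rc_12_3 lc_d_rc_16_4 lc_d_Cert_tree lc_d_Cert_tree lc_d_rc_17_2 lc_d_rc_15_1 lc_d_rc_15_1 lc_d_rc_15_1 lc_d_rc_15_1 lc_d_rc_15_1 lc_d_rc_24_0 lc_d_rc_8_3 lc_d_rc_27_2 lc_d_rc_17_2 lc_d_rc_8_3 lc_d_rc_27_4 lc_d_rc_17_2 lc_d_rc_15_1 lc_d_rc_15_1 lc_d_rc_15_1 lc_d_rc_27_8 lc_d_rc_24_5 lc_d_Cert_tree lc_d_rc_15_1 lc_d_rc_16_0 lc_d_Cert_tree lc_d_rc_15_1 lc_d_rc_15_1 lc_d_rc_15_1 lc_d_rc_27_4 lc_d_rc_15_1 lc_d_rc_17_2 lc_d_rc_15_1 lc_d_Cert_tree lc_d_rc_15_1 lc_d_rc_15_1 lc_d_rc_8_3 lc_d_rc_22_4 lc_d_rc_3_3 lc_d_rc_8_1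 lc_d_Cert_tree lc_d_rc_17_2 lc_d_Cert_tree lc_d_rc_15_1) (@D3.rec (fun _ => (Cert rels S Gen.d)) lc_d_rc_16_0 lc_d_rc_15_1 lc_d_rc_27_2 lc_d_rc_17_0 lc_d_rc_15_1 lc_d_rc_27_2 lc_d_rc_15_1 lc_d_rc_17_0 lc_d_rc_23_2 lc_d_rc_23_4 lc_d_rc_24_0 lc_d_rc_15_1 lc_d_Cert_tree lc_d_rc_8_1 lc_d_rc_15_1 lc_d_Cert_tree lc_d_rc_15_1 lc_d_rc_27_4 lc_d_rc_15_1 lc_d_rc_17_2 lc_d_rc_8_3 lc_d_rc_16_4 lc_d_rc_23_6 lc_d_rc_15_1 lc_d_rc_16_4 lc_d_rc_22_4 lc_d_rc_15_1 lc_d_rc_17_2 lc_d_rc_3_3 lc_d_rc_15_1 lc_d_rc_15_1 lc_d_rc_23_6 lc_d_rc_17_2 lc_d_rc_15_1 lc_d_rc_8_3 lc_d_rc_22_4 lc_d_rc_16_4 lc_d_rc_8_3 lc_d_rc_15_1 lc_d_Cert_tree lc_d_rc_15_1 lc_d_rc_17_2 lc_d_rc_3_1 lc_d_rc_15_1 lc_d_rc_27_8 lc_d_rc_27_4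 lc_d_rc_27_4 lc_d_rc_17_2 lc_d_rc_17_2 lc_d_rc_27_4 lc_d_rc_15_1 lc_d_rc_3_1 lc_d_rc_22_4 lc_d_rc_27_4 lc_d_rc_15_1 lc_d_rc_16_0 lc_d_rc_24_0 lc_d_rc_24_5 lc_d_Cert_tree lc_d_rc_15_1 lc_d_rc_22_6 lc_d_rc_27_4) (@D3.rec (fun _ => (Cert rels S Gen.d)) lc_d_rc_8_1 lc_d_rc_16_4 lc_d_rc_15_1 lc_d_rc_23_4 lc_d_rc_8_3 lc_d_rc_15_1 lc_d_rc_3_1 lc_d_rc_8_3 lc_d_rc_17_2 lc_d_rc_16_4 lc_d_rc_15_1 lc_d_Cert_tree lc_d_rc_15_1 lc_d_rc_16_4 lc_d_rc_27_4 lc_d_rc_3_3 lc_d_rc_17_2 lc_d_Cert_tree lc_d_rc_15_1 lc_d_rc_17_2 lc_d_rc_15_1 lc_d_rc_8_3 lc_d_rc_16_2 lc_d_rc_15_1 lc_d_rc_23_4 lc_d_rc_25_6 lc_d_rc_22_2 lc_d_rc_23_4 lc_d_rc_22_4 lc_d_rc_24_0 lc_d_rc_22_6 lc_d_rc_15_1 lc_d_rc_8_1 lc_d_rc_24_0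 lc_d_Cert_tree lc_d_rc_15_1 lc_d_rc_15_1 lc_d_rc_16_0 lc_d_rc_15_1 lc_d_rc_27_4 lc_d_rc_8_3 lc_d_rc_27_4 lc_d_rc_22_4 lc_d_rc_8_1 lc_d_rc_15_1 lc_d_rc_17_2 lc_d_rc_16_4 lc_d_rc_3_3 lc_d_rc_15_1 lc_d_rc_15_1 lc_d_rc_15_1 lc_d_rc_27_2 lc_d_rc_15_1 lc_d_rc_15_1 lc_d_rc_22_4 lc_d_rc_15_1 lc_d_rc_16_2 lc_d_rc_17_2 lc_d_rc_16_4 lc_d_rc_15_1 lc_d_rc_15_1 lc_d_rc_8_3) (@D3.rec (fun _ => (Cert rels S Gen.d)) lc_d_rc_8_3 lc_d_rc_8_3 lc_d_Cert_tree lc_d_rc_15_1 lc_d_rc_27_4 lc_d_rc_3_3 lc_d_rc_15_1 lc_d_rc_15_1 lc_d_rc_24_0 lc_d_rc_15_1 lc_d_rc_27_4 lc_d_rc_27_2 lc_d_rc_8_1 lc_d_rc_8_3 lc_d_rc_15_1 lc_d_Cert_tree lc_d_rc_15_1 lc_d_Cert_tree lc_d_rc_24_0 lc_d_rc_15_1 lc_d_rc_16_4 lc_d_rc_8_3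 lc_d_rc_23_6 lc_d_rc_22_4 lc_d_Cert_tree lc_d_rc_17_2 lc_d_rc_15_1 lc_d_rc_15_1 lc_d_rc_22_8 lc_d_rc_23_4 lc_d_rc_16_0 lc_d_rc_24_5 lc_d_rc_27_2 lc_d_rc_8_1 lc_d_rc_22_8 lc_d_Cert_tree lc_d_rc_25_10 lc_d_rc_8_3 lc_d_rc_8_1 lc_d_rc_16_4 lc_d_rc_27_4 lc_d_rc_15_1 lc_d_rc_25_18 lc_d_rc_23_4 lc_d_rc_15_1 lc_d_rc_22_6 lc_d_Cert_tree lc_d_rc_22_4 lc_d_rc_15_1 lc_d_rc_24_0 lc_d_rc_22_6 lc_d_rc_15_1 lc_d_rc_16_4 lc_d_rc_15_1 lc_d_rc_27_4 lc_d_rc_24_0 lc_d_rc_15_1 lc_d_Cert_tree lc_d_rc_8_3 lc_d_Cert_tree lc_d_rc_23_6 lc_d_rc_16_0) (@D3.rec (fun _ => (Cert rels S Gen.d)) lc_d_Cert_tree lc_d_rc_17_2 lc_d_rc_27_10 lc_d_rc_15_1 lc_d_rc_27_2 lc_d_rc_22_4 lc_d_rc_15_1 lc_d_rc_3_1 lc_d_rc_17_2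 lc_d_rc_16_0 lc_d_rc_15_1 lc_d_rc_15_1 lc_d_rc_16_2 lc_d_rc_25_2 lc_d_rc_15_1 lc_d_rc_3_3 lc_d_rc_15_1 lc_d_rc_23_4 lc_d_rc_15_1 lc_d_rc_22_6 lc_d_rc_27_2 lc_d_rc_16_4 lc_d_rc_15_1 lc_d_rc_25_6 lc_d_rc_24_0 lc_d_rc_15_1 lc_d_rc_27_4 lc_d_rc_16_4 lc_d_rc_15_1 lc_d_rc_8_1 lc_d_Cert_tree lc_d_rc_15_1 lc_d_rc_15_1 lc_d_rc_16_2 lc_d_rc_27_10 lc_d_rc_16_0 lc_d_rc_15_1 lc_d_rc_17_2 lc_d_rc_15_1 lc_d_rc_23_4 lc_d_rc_15_1 lc_d_rc_27_10 lc_d_rc_3_3 lc_d_rc_15_1 lc_d_rc_22_2 lc_d_rc_8_1 lc_d_rc_15_1 lc_d_rc_27_2 lc_d_rc_16_0 lc_d_rc_15_1 lc_d_rc_22_4 lc_d_rc_24_5 lc_d_rc_3_3 lc_d_rc_15_1 lc_d_rc_27_8 lc_d_Cert_tree lc_d_rc_24_0 lc_d_rc_23_2 lc_d_rc_15_1 lc_d_rc_27_4 lc_d_rc_15_1 lc_d_rc_27_2)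 (@D3.rec (fun _ => (Cert rels S Gen.d)) lc_d_rc_16_0 lc_d_rc_15_1 lc_d_rc_22_2 lc_d_rc_22_4 lc_d_rc_24_0 lc_d_rc_16_4 lc_d_rc_8_3 lc_d_rc_22_8 lc_d_rc_25_18 lc_d_rc_15_1 lc_d_rc_15_1 lc_d_Cert_tree lc_d_rc_24_0 lc_d_rc_3_3 lc_d_rc_12_11 lc_d_rc_15_1 lc_d_rc_27_4 lc_d_rc_24_5 lc_d_rc_24_5 lc_d_rc_23_4 lc_d_rc_8_3 lc_d_rc_16_4 lc_d_rc_15_1 lc_d_rc_8_3 lc_d_rc_3_1 lc_d_rc_8_1 lc_d_rc_24_0 lc_d_rc_24_0 lc_d_rc_15_1 lc_d_rc_23_8 lc_d_rc_24_0 lc_d_rc_16_2 lc_d_rc_8_3 lc_d_rc_3_3 lc_d_rc_15_1 lc_d_rc_15_1 lc_d_rc_27_10 lc_d_rc_8_1 lc_d_rc_23_2 lc_d_rc_15_1 lc_d_rc_15_1 lc_d_rc_3_3 lc_d_Cert_tree lc_d_rc_16_4 lc_d_rc_15_1 lc_d_rc_3_1 lc_d_rc_27_2 lc_d_rc_15_1 lc_d_rc_15_1 lc_d_rc_24_0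 lc_d_Cert_tree lc_d_rc_16_4 lc_d_rc_8_1 lc_d_rc_16_4 lc_d_rc_24_0 lc_d_rc_24_5 lc_d_rc_23_2 lc_d_rc_23_2 lc_d_rc_15_1 lc_d_rc_15_1 lc_d_Cert_tree lc_d_rc_23_6) (@D3.rec (fun _ => (Cert rels S Gen.d)) lc_d_rc_23_4 lc_d_rc_17_2 lc_d_rc_8_1 lc_d_rc_23_8 lc_d_rc_15_1 lc_d_rc_22_8 lc_d_rc_22_6 lc_d_rc_15_1 lc_d_rc_12_1 lc_d_rc_23_4 lc_d_rc_15_1 lc_d_rc_8_3 lc_d_rc_8_3 lc_d_rc_22_4 lc_d_rc_22_2 lc_d_rc_24_5 lc_d_rc_27_8 lc_d_rc_15_1 lc_d_rc_23_6 lc_d_rc_22_8 lc_d_rc_16_0 lc_d_rc_8_3 lc_d_rc_8_3 lc_d_rc_16_2 lc_d_rc_24_0 lc_d_rc_22_4 lc_d_rc_23_2 lc_d_rc_16_0 lc_d_rc_24_5 lc_d_rc_15_1 lc_d_rc_16_4 lc_d_rc_23_2 lc_d_rc_24_0 lc_d_rc_27_4 lc_d_rc_15_1 lc_d_rc_27_2 lc_d_rc_23_4 lc_d_rc_3_3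 lc_d_rc_23_6 lc_d_rc_15_1 lc_d_rc_17_2 lc_d_rc_8_3 lc_d_rc_8_3 lc_d_rc_27_8 lc_d_rc_3_1 lc_d_rc_15_1 lc_d_rc_8_3 lc_d_rc_24_5 lc_d_rc_3_3 lc_d_rc_24_0 lc_d_rc_17_2 lc_d_rc_8_3 lc_d_rc_17_0 lc_d_rc_24_0 lc_d_rc_25_6 lc_d_rc_8_3 lc_d_rc_23_2 lc_d_rc_15_1 lc_d_rc_15_1 lc_d_rc_8_3 lc_d_rc_3_3 lc_d_rc_15_1) (@D3.rec (fun _ => (Cert rels S Gen.d)) lc_d_rc_24_0 lc_d_rc_8_3 lc_d_Cert_tree lc_d_rc_8_3 lc_d_rc_27_2 lc_d_rc_15_1 lc_d_rc_24_0 lc_d_rc_15_1 lc_d_rc_8_3 lc_d_rc_27_10 lc_d_rc_22_2 lc_d_rc_22_8 lc_d_rc_22_4 lc_d_rc_15_1 lc_d_rc_27_2 lc_d_rc_24_5 lc_d_rc_3_3 lc_d_rc_3_3 lc_d_rc_8_3 lc_d_rc_15_1 lc_d_rc_27_8 lc_d_rc_8_3 lc_d_rc_15_1 lc_d_rc_15_1 lc_d_rc_23_2 lc_d_rc_15_1 lc_d_rc_22_4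 lc_d_rc_17_2 lc_d_rc_27_4 lc_d_rc_8_1 lc_d_rc_15_1 lc_d_rc_24_0 lc_d_rc_15_1 lc_d_Cert_tree lc_d_rc_17_2 lc_d_rc_23_4 lc_d_rc_15_1 lc_d_rc_22_4 lc_d_rc_16_2 lc_d_rc_23_4 lc_d_rc_23_4 lc_d_rc_23_4 lc_d_rc_8_1 lc_d_rc_15_1 lc_d_rc_22_6 lc_d_rc_16_2 lc_d_rc_23_6 lc_d_rc_22_6 lc_d_rc_22_6 lc_d_rc_16_4 lc_d_rc_15_1 lc_d_rc_22_8 lc_d_rc_16_4 lc_d_rc_12_1 lc_d_Cert_tree lc_d_rc_15_1 lc_d_rc_27_4 lc_d_rc_17_2 lc_d_rc_15_1 lc_d_Cert_tree lc_d_rc_15_1 lc_d_rc_25_14) (@D3.rec (fun _ => (Cert rels S Gen.d)) lc_d_rc_15_1 lc_d_rc_22_2 lc_d_rc_25_10 lc_d_rc_15_1 lc_d_rc_15_1 lc_d_rc_24_5 lc_d_rc_27_4 lc_d_rc_25_2 lc_d_rc_24_0 lc_d_rc_15_1 lc_d_rc_17_2 lc_d_rc_15_1 lc_d_rc_15_1 lc_d_rc_27_4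 lc_d_rc_8_1 lc_d_rc_15_1 lc_d_rc_22_8 lc_d_rc_23_4 lc_d_rc_15_1 lc_d_rc_15_1 lc_d_rc_27_10 lc_d_rc_8_1 lc_d_rc_16_4 lc_d_rc_22_6 lc_d_rc_16_0 lc_d_rc_15_1 lc_d_rc_22_2 lc_d_rc_16_4 lc_d_rc_15_1 lc_d_rc_15_1 lc_d_rc_15_1 lc_d_rc_15_1 lc_d_rc_16_2 lc_d_rc_12_15 lc_d_rc_15_1 lc_d_rc_15_1 lc_d_rc_17_0 lc_d_rc_22_6 lc_d_rc_16_4 lc_d_rc_23_8 lc_d_rc_24_0 lc_d_rc_24_0 lc_d_rc_24_0 lc_d_rc_24_0 lc_d_rc_22_4 lc_d_rc_8_3 lc_d_rc_3_1 lc_d_rc_27_2 lc_d_rc_15_1 lc_d_rc_22_4 lc_d_rc_27_4 lc_d_rc_8_3 lc_d_rc_23_2 lc_d_rc_24_0 lc_d_rc_8_1 lc_d_rc_27_8 lc_d_rc_3_3 lc_d_rc_3_1 lc_d_rc_17_2 lc_d_rc_15_1 lc_d_rc_8_1 lc_d_rc_16_4) (@D3.rec (fun _ => (Cert rels S Gen.d)) lc_d_rc_23_2 lc_d_rc_16_4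 lc_d_rc_15_1 lc_d_rc_15_1 lc_d_rc_15_1 lc_d_rc_16_4 lc_d_rc_22_8 lc_d_rc_8_3 lc_d_rc_23_8 lc_d_rc_24_0 lc_d_rc_15_1 lc_d_rc_16_2 lc_d_rc_22_6 lc_d_rc_16_4 lc_d_rc_15_1 lc_d_rc_27_4 lc_d_rc_15_1 lc_d_rc_8_3 lc_d_rc_15_1 lc_d_Cert_tree lc_d_rc_16_4 lc_d_rc_27_2 lc_d_Cert_tree lc_d_rc_3_3 lc_d_rc_24_0 lc_d_Cert_tree lc_d_Cert_tree lc_d_rc_15_1 lc_d_rc_15_1 lc_d_rc_15_1 lc_d_rc_8_3 lc_d_rc_22_6 lc_d_rc_23_4 lc_d_rc_22_2 lc_d_rc_17_2 lc_d_rc_3_1 lc_d_rc_25_6 lc_d_rc_24_0 lc_d_rc_15_1 lc_d_rc_25_18 lc_d_rc_24_0 lc_d_rc_15_1 lc_d_rc_16_2 lc_d_rc_15_1 lc_d_rc_27_8 lc_d_rc_15_1 lc_d_rc_17_2 lc_d_rc_16_4 lc_d_rc_15_1 lc_d_rc_17_0 lc_d_rc_22_4 lc_d_rc_27_10 lc_d_rc_15_1 lc_d_rc_15_1 lc_d_rc_15_1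 lc_d_rc_15_1 lc_d_rc_15_1 lc_d_rc_17_2 lc_d_rc_15_1 lc_d_rc_23_4 lc_d_rc_8_3 lc_d_rc_17_2) (@D3.rec (fun _ => (Cert rels S Gen.d)) lc_d_rc_3_1 lc_d_rc_8_3 lc_d_rc_22_6 lc_d_rc_15_1 lc_d_rc_17_2 lc_d_rc_8_1 lc_d_rc_15_1 lc_d_rc_25_14 lc_d_rc_24_0 lc_d_rc_22_4 lc_d_rc_3_3 lc_d_rc_15_1 lc_d_rc_3_3 lc_d_rc_22_6 lc_d_rc_22_2 lc_d_rc_8_3 lc_d_rc_23_6 lc_d_rc_23_8 lc_d_rc_8_3 lc_d_rc_15_1 lc_d_rc_24_0 lc_d_rc_15_1 lc_d_rc_15_1 lc_d_Cert_tree lc_d_rc_17_2 lc_d_rc_25_2 lc_d_rc_17_0 lc_d_rc_17_0 lc_d_rc_15_1 lc_d_rc_23_6 lc_d_rc_15_1 lc_d_rc_22_2 lc_d_rc_8_1 lc_d_rc_15_1 lc_d_rc_22_8 lc_d_rc_22_6 lc_d_rc_15_1 lc_d_rc_15_1 lc_d_rc_16_2 lc_d_rc_15_1 lc_d_rc_16_2 lc_d_rc_22_8 lc_d_rc_22_2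 lc_d_rc_15_1 lc_d_rc_12_15 lc_d_rc_15_1 lc_d_rc_3_1 lc_d_rc_12_15 lc_d_Cert_tree lc_d_rc_8_1 lc_d_rc_23_8 lc_d_rc_15_1 lc_d_rc_24_0 lc_d_rc_23_6 lc_d_rc_23_2 lc_d_rc_23_8 lc_d_rc_8_1 lc_d_rc_27_2 lc_d_rc_15_1 lc_d_rc_16_0 lc_d_rc_3_3 lc_d_rc_8_3) (@D3.rec (fun _ => (Cert rels S Gen.d)) lc_d_rc_16_0 lc_d_rc_15_1 lc_d_rc_27_2 lc_d_rc_22_2 lc_d_rc_3_3 lc_d_rc_25_10 lc_d_rc_15_1 lc_d_rc_3_1 lc_d_rc_8_1 lc_d_rc_16_0 lc_d_rc_15_1 lc_d_rc_27_4 lc_d_rc_8_1 lc_d_rc_15_1 lc_d_rc_27_8 lc_d_rc_15_1 lc_d_rc_27_4 lc_d_rc_27_8 lc_d_rc_8_3 lc_d_rc_16_4 lc_d_rc_15_1 lc_d_rc_15_1 lc_d_rc_24_0 lc_d_rc_15_1 lc_d_Cert_tree lc_d_rc_27_10 lc_d_rc_15_1 lc_d_rc_16_2 lc_d_rc_8_1 lc_d_rc_15_1 lc_d_Cert_tree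 lc_d_rc_15_1 lc_d_rc_3_3 lc_d_rc_17_0 lc_d_rc_15_1 lc_d_rc_15_1 lc_d_rc_17_2 lc_d_Cert_tree lc_d_rc_15_1 lc_d_rc_17_0 lc_d_rc_17_2 lc_d_rc_15_1 lc_d_rc_15_1 lc_d_rc_15_1 lc_d_rc_27_10 lc_d_rc_23_8 lc_d_rc_15_1 lc_d_rc_8_1 lc_d_rc_24_0 lc_d_Cert_tree lc_d_rc_15_1 lc_d_rc_27_4 lc_d_rc_8_3 lc_d_Cert_tree lc_d_Cert_tree lc_d_rc_16_2 lc_d_rc_15_1 lc_d_rc_17_2 lc_d_rc_25_2 lc_d_rc_25_2 lc_d_rc_3_3 lc_d_rc_15_1) (@D3.rec (fun _ => (Cert rels S Gen.d)) lc_d_rc_22_8 lc_d_rc_8_1 lc_d_rc_22_6 lc_d_rc_16_4 lc_d_rc_22_2 lc_d_Cert_tree lc_d_rc_16_0 lc_d_rc_15_1 lc_d_rc_8_3 lc_d_rc_22_2 lc_d_rc_8_3 lc_d_rc_22_4 lc_d_rc_27_8 lc_d_rc_8_1 lc_d_rc_23_6 lc_d_rc_23_4 lc_d_rc_15_1 lc_d_rc_22_4 lc_d_rc_27_8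 lc_d_rc_8_3 lc_d_rc_15_1 lc_d_rc_27_10 lc_d_rc_15_1 lc_d_rc_15_1 lc_d_rc_3_3 lc_d_rc_22_8 lc_d_rc_22_2 lc_d_rc_15_1 lc_d_rc_15_1 lc_d_rc_3_1 lc_d_rc_15_1 lc_d_rc_17_2 lc_d_rc_8_3 lc_d_rc_22_6 lc_d_rc_27_10 lc_d_rc_3_1 lc_d_rc_8_1 lc_d_rc_22_6 lc_d_rc_16_4 lc_d_rc_15_1 lc_d_rc_23_6 lc_d_rc_15_1 lc_d_rc_27_4 lc_d_rc_27_4 lc_d_rc_16_4 lc_d_rc_23_2 lc_d_rc_15_1 lc_d_rc_22_8 lc_d_rc_16_2 lc_d_rc_16_4 lc_d_rc_8_1 lc_d_rc_8_1 lc_d_rc_15_1 lc_d_rc_27_10 lc_d_rc_15_1 lc_d_rc_17_2 lc_d_rc_24_0 lc_d_rc_27_4 lc_d_rc_23_2 lc_d_rc_17_2 lc_d_rc_15_1 lc_d_rc_17_2) (@D3.rec (fun _ => (Cert rels S Gen.d)) lc_d_rc_15_1 lc_d_rc_17_2 lc_d_rc_22_2 lc_d_rc_15_1 lc_d_rc_15_1 lc_d_rc_17_2 lc_d_rc_15_1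 lc_d_rc_27_4 lc_d_rc_15_1 lc_d_rc_15_1 lc_d_Cert_tree lc_d_rc_15_1 lc_d_rc_25_14 lc_d_rc_15_1 lc_d_rc_24_0 lc_d_rc_15_1 lc_d_rc_27_4 lc_d_rc_15_1 lc_d_rc_27_8 lc_d_rc_16_2 lc_d_Cert_tree lc_d_rc_15_1 lc_d_rc_24_0 lc_d_rc_27_4 lc_d_rc_23_4 lc_d_rc_25_6 lc_d_rc_15_1 lc_d_rc_22_4 lc_d_rc_25_6 lc_d_rc_15_1 lc_d_rc_3_1 lc_d_rc_8_3 lc_d_rc_16_4 lc_d_Cert_tree lc_d_rc_15_1 lc_d_rc_17_2 lc_d_rc_27_2 lc_d_rc_16_4 lc_d_rc_16_4 lc_d_rc_17_2 lc_d_rc_17_0 lc_d_rc_16_2 lc_d_rc_15_1 lc_d_rc_15_1 lc_d_rc_8_1 lc_d_rc_8_1 lc_d_rc_15_1 lc_d_rc_15_1 lc_d_rc_17_0 lc_d_rc_16_4 lc_d_rc_15_1 lc_d_rc_16_4 lc_d_rc_15_1 lc_d_rc_27_2 lc_d_rc_15_1 lc_d_rc_15_1 lc_d_rc_3_3 lc_d_rc_17_0 lc_d_rc_12_13 lc_d_rc_16_4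 lc_d_rc_8_1 lc_d_rc_15_1) (@D3.rec (fun _ => (Cert rels S Gen.d)) lc_d_rc_22_6 lc_d_rc_25_18 lc_d_rc_17_2 lc_d_rc_15_1 lc_d_rc_15_1 lc_d_rc_24_0 lc_d_rc_17_2 lc_d_rc_17_2 lc_d_rc_27_10 lc_d_rc_15_1 lc_d_rc_15_1 lc_d_rc_15_1 lc_d_rc_27_2 lc_d_rc_15_1 lc_d_rc_27_8 lc_d_rc_16_4 lc_d_Cert_tree lc_d_rc_15_1 lc_d_rc_8_3 lc_d_rc_22_2 lc_d_rc_23_6 lc_d_rc_15_1 lc_d_rc_15_1 lc_d_rc_22_2 lc_d_rc_16_4 lc_d_rc_15_1 lc_d_rc_17_2 lc_d_rc_15_1 lc_d_rc_15_1 lc_d_rc_27_4 lc_d_rc_15_1 lc_d_rc_8_3 lc_d_rc_15_1 lc_d_rc_15_1 lc_d_Cert_tree lc_d_rc_27_4 lc_d_rc_15_1 lc_d_rc_8_3 lc_d_rc_25_18 lc_d_rc_3_3 lc_d_rc_24_0 lc_d_rc_15_1 lc_d_rc_17_2 lc_d_rc_15_1 lc_d_rc_15_1 lc_d_rc_8_1 lc_d_rc_3_1 lc_d_rc_3_1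 lc_d_rc_15_1 lc_d_rc_17_0 lc_d_rc_23_4 lc_d_rc_8_3 lc_d_rc_12_13 lc_d_rc_8_3 lc_d_Cert_tree lc_d_rc_15_1 lc_d_rc_15_1 lc_d_rc_15_1 lc_d_rc_24_0 lc_d_rc_15_1 lc_d_rc_15_1 lc_d_rc_15_1) (@D3.rec (fun _ => (Cert rels S Gen.d)) lc_d_rc_12_9 lc_d_rc_15_1 lc_d_rc_23_4 lc_d_rc_27_8 lc_d_rc_12_9 lc_d_rc_23_6 lc_d_rc_8_3 lc_d_rc_15_1 lc_d_rc_23_8 lc_d_rc_3_3 lc_d_rc_15_1 lc_d_rc_23_4 lc_d_rc_15_1 lc_d_rc_25_2 lc_d_rc_16_4 lc_d_rc_22_4 lc_d_rc_15_1 lc_d_rc_8_1 lc_d_rc_15_1 lc_d_rc_24_0 lc_d_rc_24_0 lc_d_rc_16_2 lc_d_rc_16_4 lc_d_rc_17_0 lc_d_rc_3_3 lc_d_rc_27_4 lc_d_rc_15_1 lc_d_rc_8_3 lc_d_rc_15_1 lc_d_Cert_tree lc_d_Cert_tree lc_d_rc_24_0 lc_d_rc_15_1 lc_d_rc_25_6 lc_d_rc_15_1 lc_d_rc_3_3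 lc_d_rc_15_1 lc_d_rc_17_2 lc_d_rc_16_2 lc_d_rc_15_1 lc_d_rc_27_4 lc_d_rc_8_3 lc_d_rc_22_6 lc_d_rc_15_1 lc_d_rc_15_1 lc_d_rc_17_2 lc_d_rc_15_1 lc_d_rc_15_1 lc_d_rc_27_2 lc_d_rc_15_1 lc_d_rc_15_1 lc_d_rc_15_1 lc_d_rc_15_1 lc_d_rc_23_4 lc_d_rc_23_4 lc_d_rc_22_6 lc_d_rc_17_2 lc_d_rc_16_2 lc_d_rc_15_1 lc_d_rc_8_3 lc_d_rc_16_0 lc_d_rc_15_1) (@D3.rec (fun _ => (Cert rels S Gen.d)) lc_d_rc_23_2 lc_d_rc_15_1 lc_d_rc_25_2 lc_d_rc_3_3 lc_d_rc_3_1 lc_d_rc_27_4 lc_d_Cert_tree lc_d_rc_16_4 lc_d_rc_15_1 lc_d_rc_27_4 lc_d_rc_25_10 lc_d_Cert_tree lc_d_rc_17_2 lc_d_rc_15_1 lc_d_rc_27_8 lc_d_rc_15_1 lc_d_rc_15_1 lc_d_rc_27_4 lc_d_rc_15_1 lc_d_Cert_tree lc_d_rc_12_3 lc_d_rc_17_2 lc_d_rc_23_2 lc_d_rc_15_1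 lc_d_rc_27_8 lc_d_rc_15_1 lc_d_rc_16_2 lc_d_rc_16_2 lc_d_rc_15_1 lc_d_rc_17_2 lc_d_rc_15_1 lc_d_rc_15_1 lc_d_rc_15_1 lc_d_rc_8_1 lc_d_rc_15_1 lc_d_rc_27_2 lc_d_rc_17_0 lc_d_rc_8_3 lc_d_rc_23_8 lc_d_rc_23_8 lc_d_rc_15_1 lc_d_rc_17_2 lc_d_rc_24_0 lc_d_rc_17_2 lc_d_rc_15_1 lc_d_Cert_tree lc_d_rc_15_1 lc_d_rc_27_8 lc_d_rc_23_6 lc_d_rc_23_6 lc_d_rc_15_1 lc_d_rc_15_1 lc_d_rc_23_2 lc_d_rc_27_4 lc_d_rc_16_4 lc_d_rc_17_2 lc_d_rc_24_0 lc_d_rc_23_2 lc_d_rc_22_6 lc_d_rc_3_3 lc_d_rc_3_3 lc_d_rc_15_1) (@D3.rec (fun _ => (Cert rels S Gen.d)) lc_d_rc_3_3 lc_d_rc_8_3 lc_d_rc_15_1 lc_d_rc_23_6 lc_d_rc_15_1 lc_d_rc_16_0 lc_d_rc_25_18 lc_d_rc_16_4 lc_d_rc_3_3 lc_d_rc_24_0 lc_d_rc_8_3 lc_d_rc_17_2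 lc_d_rc_25_18 lc_d_rc_17_2 lc_d_rc_15_1 lc_d_rc_22_2 lc_d_rc_16_4 lc_d_rc_8_1 lc_d_rc_15_1 lc_d_Cert_tree lc_d_rc_8_3 lc_d_rc_15_1 lc_d_rc_12_3 lc_d_rc_16_2 lc_d_rc_23_2 lc_d_rc_16_4 lc_d_rc_16_2 lc_d_rc_15_1 lc_d_rc_8_1 lc_d_rc_24_5 lc_d_rc_17_2 lc_d_rc_22_6 lc_d_rc_15_1 lc_d_rc_3_3 lc_d_rc_15_1 lc_d_rc_25_2 lc_d_rc_15_1 lc_d_rc_27_4 lc_d_rc_23_6 lc_d_rc_16_2 lc_d_rc_17_2 lc_d_Cert_tree lc_d_rc_27_8 lc_d_rc_24_5 lc_d_rc_27_8 lc_d_rc_16_4 lc_d_rc_23_6 lc_d_rc_22_2 lc_d_Cert_tree lc_d_rc_15_1 lc_d_rc_15_1 lc_d_rc_3_3 lc_d_rc_16_4 lc_d_rc_23_4 lc_d_rc_22_6 lc_d_rc_17_0 lc_d_rc_17_2 lc_d_rc_15_1 lc_d_rc_15_1 lc_d_rc_17_0 lc_d_rc_16_4 lc_d_rc_15_1) (@D3.rec (fun _ => (Cert rels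 S Gen.d)) lc_d_rc_24_0 lc_d_rc_8_3 lc_d_rc_15_1 lc_d_rc_8_3 lc_d_rc_15_1 lc_d_rc_16_2 lc_d_rc_8_3 lc_d_rc_8_3 lc_d_rc_15_1 lc_d_rc_3_3 lc_d_rc_12_15 lc_d_rc_8_3 lc_d_rc_17_2 lc_d_rc_16_4 lc_d_rc_12_1 lc_d_rc_15_1 lc_d_Cert_tree lc_d_rc_15_1 lc_d_rc_16_0 lc_d_rc_8_1 lc_d_rc_3_3 lc_d_rc_3_1 lc_d_rc_17_0 lc_d_rc_15_1 lc_d_rc_17_2 lc_d_rc_8_3 lc_d_Cert_tree lc_d_rc_15_1 lc_d_rc_15_1 lc_d_Cert_tree lc_d_rc_15_1 lc_d_rc_17_0 lc_d_rc_15_1 lc_d_rc_27_4 lc_d_rc_15_1 lc_d_rc_27_10 lc_d_rc_15_1 lc_d_rc_27_4 lc_d_rc_3_3 lc_d_rc_27_8 lc_d_rc_15_1 lc_d_rc_15_1 lc_d_rc_15_1 lc_d_rc_24_0 lc_d_rc_12_1 lc_d_rc_17_2 lc_d_rc_15_1 lc_d_rc_27_8 lc_d_rc_16_4 lc_d_rc_16_4 lc_d_rc_17_2 lc_d_rc_15_1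 lc_d_rc_17_0 lc_d_rc_24_0 lc_d_rc_24_0 lc_d_rc_15_1 lc_d_rc_27_4 lc_d_rc_22_4 lc_d_rc_24_0 lc_d_rc_16_2 lc_d_rc_8_1 lc_d_rc_3_3) (@D3.rec (fun _ => (Cert rels S Gen.d)) lc_d_rc_8_1 lc_d_rc_8_3 lc_d_rc_23_2 lc_d_rc_17_2 lc_d_rc_3_1 lc_d_rc_15_1 lc_d_rc_27_4 lc_d_rc_8_3 lc_d_rc_27_2 lc_d_rc_15_1 lc_d_rc_17_2 lc_d_rc_8_1 lc_d_rc_27_8 lc_d_rc_17_0 lc_d_rc_17_0 lc_d_rc_27_4 lc_d_rc_15_1 lc_d_rc_15_1 lc_d_rc_15_1 lc_d_rc_27_10 lc_d_rc_22_2 lc_d_rc_15_1 lc_d_rc_15_1 lc_d_rc_15_1 lc_d_rc_27_2 lc_d_rc_8_1 lc_d_rc_8_3 lc_d_rc_22_2 lc_d_rc_22_4 lc_d_rc_24_5 lc_d_rc_15_1 lc_d_rc_15_1 lc_d_rc_24_0 lc_d_rc_15_1 lc_d_rc_16_2 lc_d_rc_24_0 lc_d_rc_24_5 lc_d_rc_15_1 lc_d_rc_27_4 lc_d_rc_22_6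 lc_d_rc_23_2 lc_d_rc_8_1 lc_d_rc_8_1 lc_d_rc_3_3 lc_d_rc_15_1 lc_d_rc_15_1 lc_d_rc_15_1 lc_d_rc_17_0 lc_d_rc_16_2 lc_d_rc_3_3 lc_d_rc_15_1 lc_d_rc_8_3 lc_d_rc_16_4 lc_d_rc_8_3 lc_d_rc_8_3 lc_d_rc_15_1 lc_d_rc_8_1 lc_d_rc_23_4 lc_d_rc_8_3 lc_d_rc_8_3 lc_d_rc_16_4 lc_d_rc_8_3) (@D3.rec (fun _ => (Cert rels S Gen.d)) lc_d_rc_15_1 lc_d_rc_15_1 lc_d_rc_24_0 lc_d_rc_16_4 lc_d_rc_15_1 lc_d_rc_15_1 lc_d_rc_15_1 lc_d_rc_15_1 lc_d_Cert_tree lc_d_rc_17_2 lc_d_rc_3_3 lc_d_rc_27_10 lc_d_rc_15_1 lc_d_rc_15_1 lc_d_rc_27_8 lc_d_rc_16_2 lc_d_rc_15_1 lc_d_Cert_tree lc_d_rc_17_2 lc_d_Cert_tree lc_d_rc_15_1 lc_d_rc_8_3 lc_d_rc_8_1 lc_d_rc_15_1 lc_d_rc_15_1 lc_d_rc_27_4 lc_d_rc_16_2 lc_d_rc_15_1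 lc_d_rc_15_1 lc_d_rc_8_3 lc_d_rc_8_3 lc_d_rc_22_2 lc_d_rc_15_1 lc_d_rc_22_4 lc_d_rc_15_1 lc_d_rc_23_6 lc_d_rc_24_0 lc_d_rc_15_1 lc_d_rc_27_4 lc_d_rc_15_1 lc_d_rc_23_6 lc_d_rc_15_1 lc_d_rc_22_4 lc_d_rc_17_2 lc_d_Cert_tree lc_d_rc_15_1 lc_d_rc_15_1 lc_d_rc_27_8 lc_d_rc_16_4 lc_d_rc_16_4 lc_d_rc_15_1 lc_d_rc_3_3 lc_d_rc_27_8 lc_d_rc_27_8 lc_d_rc_23_8 lc_d_rc_16_4 lc_d_rc_24_5 lc_d_rc_27_10 lc_d_rc_15_1 lc_d_rc_24_5 lc_d_rc_15_1 lc_d_rc_3_3) (@D3.rec (fun _ => (Cert rels S Gen.d)) lc_d_rc_15_1 lc_d_rc_24_0 lc_d_rc_15_1 lc_d_rc_15_1 lc_d_rc_27_4 lc_d_rc_27_2 lc_d_rc_8_3 lc_d_rc_16_4 lc_d_rc_23_2 lc_d_rc_15_1 lc_d_rc_27_10 lc_d_rc_17_2 lc_d_rc_16_0 lc_d_rc_15_1 lc_d_rc_27_10 lc_d_rc_22_4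 lc_d_rc_22_6 lc_d_rc_15_1 lc_d_rc_22_4 lc_d_rc_15_1 lc_d_rc_8_3 lc_d_rc_8_1 lc_d_rc_27_2 lc_d_Cert_tree lc_d_rc_15_1 lc_d_rc_23_6 lc_d_Cert_tree lc_d_rc_16_2 lc_d_rc_15_1 lc_d_Cert_tree lc_d_Cert_tree lc_d_rc_23_4 lc_d_rc_15_1 lc_d_Cert_tree lc_d_rc_8_3 lc_d_Cert_tree lc_d_Cert_tree lc_d_rc_15_1 lc_d_rc_22_6 lc_d_rc_16_2 lc_d_Cert_tree lc_d_rc_15_1 lc_d_rc_22_4 lc_d_rc_27_10 lc_d_rc_27_10 lc_d_rc_16_4 lc_d_rc_23_2 lc_d_rc_8_3 lc_d_rc_8_1 lc_d_rc_15_1 lc_d_rc_23_8 lc_d_rc_15_1 lc_d_rc_17_2 lc_d_rc_8_1 lc_d_rc_15_1 lc_d_rc_27_2 lc_d_rc_15_1 lc_d_rc_17_2 lc_d_rc_16_0 lc_d_rc_27_10 lc_d_Cert_tree lc_d_rc_15_1) (@D3.rec (fun _ => (Cert rels S Gen.d)) lc_d_rc_27_2 lc_d_rc_27_2 lc_d_rc_16_0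 lc_d_rc_15_1 lc_d_rc_15_1 lc_d_rc_15_1 lc_d_rc_27_10 lc_d_rc_15_1 lc_d_rc_15_1 lc_d_rc_27_4 lc_d_rc_15_1 lc_d_rc_15_1 lc_d_rc_16_0 lc_d_rc_15_1 lc_d_rc_22_2 lc_d_rc_15_1 lc_d_rc_27_4 lc_d_rc_8_3 lc_d_rc_16_4 lc_d_rc_8_1 lc_d_rc_22_2 lc_d_rc_3_1 lc_d_rc_15_1 lc_d_rc_16_0 lc_d_rc_17_2 lc_d_rc_17_2 lc_d_rc_15_1 lc_d_rc_27_4 lc_d_rc_15_1 lc_d_rc_15_1 lc_d_rc_22_8 lc_d_rc_15_1 lc_d_rc_15_1 lc_d_rc_23_4 lc_d_rc_22_8 lc_d_rc_16_2 lc_d_rc_15_1 lc_d_rc_22_4 lc_d_rc_16_4 lc_d_rc_15_1 lc_d_rc_15_1 lc_d_rc_15_1 lc_d_rc_15_1 lc_d_rc_22_4 lc_d_rc_8_3 lc_d_rc_16_4 lc_d_rc_8_3 lc_d_rc_15_1 lc_d_rc_27_10 lc_d_rc_16_2 lc_d_rc_23_2 lc_d_rc_22_2 lc_d_rc_3_3 lc_d_rc_8_1 lc_d_rc_27_10 lc_d_rc_15_1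 lc_d_rc_17_2 lc_d_rc_15_1 lc_d_rc_27_2 lc_d_rc_15_1 lc_d_Cert_tree lc_d_Cert_tree) (@D3.rec (fun _ => (Cert rels S Gen.d)) lc_d_rc_3_3 lc_d_rc_27_10 lc_d_rc_27_2 lc_d_rc_27_4 lc_d_rc_8_3 lc_d_Cert_tree lc_d_rc_15_1 lc_d_rc_22_2 lc_d_rc_17_0 lc_d_rc_16_4 lc_d_rc_24_0 lc_d_rc_23_4 lc_d_rc_15_1 lc_d_rc_22_6 lc_d_rc_8_1 lc_d_rc_27_10 lc_d_rc_27_10 lc_d_Cert_tree lc_d_rc_15_1 lc_d_rc_8_1 lc_d_rc_16_4 lc_d_rc_16_2 lc_d_rc_27_10 lc_d_rc_17_2 lc_d_rc_24_0 lc_d_rc_24_5 lc_d_rc_15_1 lc_d_rc_15_1 lc_d_rc_15_1 lc_d_rc_16_2 lc_d_rc_23_4 lc_d_rc_8_3 lc_d_rc_8_3 lc_d_rc_8_1 lc_d_rc_24_0 lc_d_rc_27_2 lc_d_rc_15_1 lc_d_rc_27_2 lc_d_rc_23_6 lc_d_rc_22_6 lc_d_rc_27_2 lc_d_rc_8_1 lc_d_rc_23_2 lc_d_rc_8_1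 lc_d_rc_22_4 lc_d_rc_15_1 lc_d_rc_17_2 lc_d_rc_16_0 lc_d_rc_16_4 lc_d_rc_8_3 lc_d_rc_8_1 lc_d_rc_15_1 lc_d_rc_23_4 lc_d_rc_24_0 lc_d_rc_17_0 lc_d_rc_8_3 lc_d_rc_22_2 lc_d_rc_15_1 lc_d_rc_22_6 lc_d_rc_23_8 lc_d_rc_15_1 lc_d_rc_16_2) (@D3.rec (fun _ => (Cert rels S Gen.d)) lc_d_rc_15_1 lc_d_Cert_tree lc_d_rc_17_2 lc_d_rc_23_4 lc_d_rc_22_8 lc_d_rc_16_2 lc_d_rc_8_1 lc_d_Cert_tree lc_d_rc_15_1 lc_d_rc_15_1 lc_d_rc_22_6 lc_d_rc_15_1 lc_d_rc_15_1 lc_d_rc_8_3 lc_d_rc_15_1 lc_d_rc_27_4 lc_d_rc_15_1 lc_d_rc_23_2 lc_d_rc_8_1 lc_d_rc_15_1 lc_d_rc_15_1 lc_d_rc_15_1 lc_d_rc_8_1 lc_d_rc_15_1 lc_d_rc_27_4 lc_d_rc_16_2 lc_d_rc_27_4 lc_d_rc_27_10 lc_d_Cert_tree lc_d_rc_8_3 lc_d_rc_22_6 lc_d_rc_15_1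 lc_d_rc_22_4 lc_d_rc_15_1 lc_d_rc_27_8 lc_d_rc_24_5 lc_d_rc_15_1 lc_d_Cert_tree lc_d_rc_15_1 lc_d_rc_15_1 lc_d_rc_22_4 lc_d_Cert_tree lc_d_Cert_tree lc_d_rc_15_1 lc_d_rc_23_6 lc_d_rc_12_11 lc_d_rc_16_4 lc_d_rc_15_1 lc_d_rc_8_3 lc_d_rc_8_3 lc_d_Cert_tree lc_d_rc_24_5 lc_d_Cert_tree lc_d_rc_23_4 lc_d_rc_15_1 lc_d_rc_22_2 lc_d_rc_12_15 lc_d_rc_23_2 lc_d_rc_15_1 lc_d_rc_15_1 lc_d_rc_15_1 lc_d_rc_15_1) (@D3.rec (fun _ => (Cert rels S Gen.d)) lc_d_rc_17_2 lc_d_rc_15_1 lc_d_rc_3_1 lc_d_rc_22_2 lc_d_rc_8_3 lc_d_rc_22_2 lc_d_rc_24_0 lc_d_rc_27_4 lc_d_rc_23_2 lc_d_rc_27_10 lc_d_rc_15_1 lc_d_rc_17_2 lc_d_rc_24_0 lc_d_rc_23_2 lc_d_rc_24_5 lc_d_rc_15_1 lc_d_rc_8_3 lc_d_rc_8_1 lc_d_rc_24_0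 lc_d_rc_15_1 lc_d_rc_27_8 lc_d_rc_15_1 lc_d_rc_27_4 lc_d_rc_25_6 lc_d_rc_15_1 lc_d_rc_12_15 lc_d_rc_27_4 lc_d_Cert_tree lc_d_rc_15_1 lc_d_rc_23_4 lc_d_rc_17_2 lc_d_rc_15_1 lc_d_rc_27_4 lc_d_rc_8_3 lc_d_rc_15_1 lc_d_rc_25_6 lc_d_rc_15_1 lc_d_rc_12_1 lc_d_rc_16_2 lc_d_rc_15_1 lc_d_rc_8_1 lc_d_rc_24_5 lc_d_rc_15_1 lc_d_rc_27_10 lc_d_rc_15_1 lc_d_rc_15_1 lc_d_rc_27_10 lc_d_rc_8_1 lc_d_Cert_tree lc_d_rc_23_2 lc_d_Cert_tree lc_d_Cert_tree lc_d_rc_16_4 lc_d_rc_27_2 lc_d_rc_17_2 lc_d_rc_12_15 lc_d_rc_22_4 lc_d_rc_15_1 lc_d_rc_27_4 lc_d_rc_22_6 lc_d_rc_17_0 lc_d_rc_27_8) (@D3.rec (fun _ => (Cert rels S Gen.d)) lc_d_Cert_tree lc_d_rc_3_1 lc_d_rc_16_4 lc_d_rc_24_0 lc_d_rc_15_1 lc_d_rc_25_6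 lc_d_rc_24_0 lc_d_rc_15_1 lc_d_rc_8_1 lc_d_rc_17_2 lc_d_rc_16_4 lc_d_rc_15_1 lc_d_rc_8_3 lc_d_rc_22_4 lc_d_rc_8_3 lc_d_rc_3_3 lc_d_rc_15_1 lc_d_rc_15_1 lc_d_rc_16_4 lc_d_Cert_tree lc_d_rc_15_1 lc_d_rc_8_3 lc_d_rc_24_0 lc_d_rc_15_1 lc_d_rc_27_4 lc_d_rc_22_8 lc_d_rc_27_8 lc_d_rc_27_2 lc_d_rc_24_0 lc_d_rc_15_1 lc_d_Cert_tree lc_d_rc_17_2 lc_d_rc_17_2 lc_d_rc_8_1 lc_d_rc_27_2 lc_d_rc_8_3 lc_d_rc_15_1 lc_d_rc_23_4 lc_d_rc_17_2 lc_d_rc_16_4 lc_d_rc_16_4 lc_d_rc_15_1 lc_d_rc_22_6 lc_d_rc_3_3 lc_d_rc_17_2 lc_d_rc_3_3 lc_d_rc_15_1 lc_d_rc_8_3 lc_d_rc_15_1 lc_d_rc_15_1 lc_d_rc_16_4 lc_d_rc_27_8 lc_d_rc_15_1 lc_d_rc_8_3 lc_d_rc_8_3 lc_d_rc_23_4 lc_d_rc_27_10 lc_d_rc_17_2 lc_d_rc_22_6 lc_d_rc_3_3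 lc_d_rc_15_1 lc_d_rc_23_2) (@D3.rec (fun _ => (Cert rels S Gen.d)) lc_d_rc_15_1 lc_d_rc_27_4 lc_d_rc_15_1 lc_d_rc_17_0 lc_d_rc_12_15 lc_d_rc_23_2 lc_d_rc_15_1 lc_d_rc_27_8 lc_d_rc_27_8 lc_d_rc_24_0 lc_d_rc_27_2 lc_d_rc_15_1 lc_d_rc_22_6 lc_d_rc_15_1 lc_d_rc_15_1 lc_d_rc_17_2 lc_d_rc_22_4 lc_d_rc_22_2 lc_d_rc_3_3 lc_d_rc_16_4 lc_d_rc_3_1 lc_d_rc_15_1 lc_d_rc_8_3 lc_d_rc_23_4 lc_d_rc_15_1 lc_d_rc_15_1 lc_d_rc_15_1 lc_d_rc_8_3 lc_d_rc_17_2 lc_d_rc_15_1 lc_d_rc_15_1 lc_d_rc_15_1 lc_d_rc_22_4 lc_d_rc_8_3 lc_d_rc_16_4 lc_d_Cert_tree lc_d_Cert_tree lc_d_Cert_tree lc_d_rc_15_1 lc_d_rc_17_2 lc_d_rc_25_18 lc_d_rc_24_0 lc_d_rc_15_1 lc_d_rc_17_2 lc_d_rc_15_1 lc_d_rc_15_1 lc_d_rc_27_8 lc_d_rc_22_4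 lc_d_rc_27_4 lc_d_rc_24_0 lc_d_rc_8_3 lc_d_rc_22_6 lc_d_rc_17_2 lc_d_rc_22_4 lc_d_rc_15_1 lc_d_rc_27_4 lc_d_rc_27_2 lc_d_rc_15_1 lc_d_rc_3_3 lc_d_rc_27_8 lc_d_rc_8_3 lc_d_rc_27_4) (@D3.rec (fun _ => (Cert rels S Gen.d)) lc_d_Cert_tree lc_d_Cert_tree lc_d_rc_15_1 lc_d_rc_3_3 lc_d_rc_8_3 lc_d_rc_27_4 lc_d_Cert_tree lc_d_Cert_tree lc_d_rc_15_1 lc_d_rc_17_2 lc_d_rc_3_3 lc_d_rc_27_10 lc_d_rc_15_1 lc_d_rc_15_1 lc_d_rc_22_6 lc_d_rc_8_3 lc_d_rc_25_14 lc_d_Cert_tree lc_d_rc_22_4 lc_d_rc_16_4 lc_d_Cert_tree lc_d_Cert_tree lc_d_Cert_tree lc_d_rc_15_1 lc_d_rc_12_3 lc_d_rc_23_4 lc_d_rc_8_1 lc_d_rc_8_1 lc_d_Cert_tree lc_d_rc_15_1 lc_d_rc_22_6 lc_d_rc_25_2 lc_d_Cert_tree lc_d_Cert_tree lc_d_rc_22_2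 lc_d_Cert_tree lc_d_rc_24_0 lc_d_rc_15_1 lc_d_rc_27_4 lc_d_rc_8_3 lc_d_rc_15_1 lc_d_rc_17_2 lc_d_rc_8_1 lc_d_rc_8_3 lc_d_rc_15_1 lc_d_Cert_tree lc_d_rc_12_1 lc_d_rc_27_8 lc_d_Cert_tree lc_d_Cert_tree lc_d_rc_15_1 lc_d_Cert_tree lc_d_rc_15_1 lc_d_rc_27_2 lc_d_rc_22_6 lc_d_rc_3_3 lc_d_rc_25_2 lc_d_rc_23_8 lc_d_rc_8_3 lc_d_rc_15_1 lc_d_rc_8_1 lc_d_rc_23_6) (@D3.rec (fun _ => (Cert rels S Gen.d)) lc_d_rc_16_0 lc_d_rc_15_1 lc_d_rc_17_2 lc_d_Cert_tree lc_d_rc_15_1 lc_d_rc_22_6 lc_d_rc_17_2 lc_d_rc_15_1 lc_d_Cert_tree lc_d_rc_15_1 lc_d_rc_27_4 lc_d_rc_15_1 lc_d_rc_22_8 lc_d_Cert_tree lc_d_rc_15_1 lc_d_rc_15_1 lc_d_Cert_tree lc_d_rc_15_1 lc_d_rc_15_1 lc_d_rc_24_0 lc_d_rc_15_1 lc_d_rc_15_1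 lc_d_Cert_tree lc_d_Cert_tree lc_d_rc_15_1 lc_d_rc_27_4 lc_d_rc_8_3 lc_d_rc_15_1 lc_d_rc_16_4 lc_d_rc_15_1 lc_d_rc_22_4 lc_d_rc_15_1 lc_d_rc_23_8 lc_d_rc_22_2 lc_d_rc_15_1 lc_d_rc_17_2 lc_d_rc_23_6 lc_d_rc_24_0 lc_d_rc_23_2 lc_d_rc_23_8 lc_d_rc_15_1 lc_d_rc_15_1 lc_d_rc_15_1 lc_d_rc_8_1 lc_d_rc_15_1 lc_d_rc_24_0 lc_d_rc_24_0 lc_d_rc_15_1 lc_d_rc_16_4 lc_d_rc_8_3 lc_d_rc_15_1 lc_d_rc_27_8 lc_d_rc_17_2 lc_d_rc_8_3 lc_d_Cert_tree lc_d_rc_17_2 lc_d_rc_24_5 lc_d_rc_15_1 lc_d_Cert_tree lc_d_rc_25_2 lc_d_rc_15_1 lc_d_Cert_tree) (@D3.rec (fun _ => (Cert rels S Gen.d)) lc_d_rc_25_2 lc_d_rc_15_1 lc_d_Cert_tree lc_d_rc_17_2 lc_d_Cert_tree lc_d_rc_15_1 lc_d_rc_12_1 lc_d_Cert_tree lc_d_Cert_tree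 lc_d_rc_15_1 lc_d_rc_23_8 lc_d_rc_23_4 lc_d_rc_16_2 lc_d_rc_15_1 lc_d_rc_8_3 lc_d_rc_24_5 lc_d_rc_16_4 lc_d_rc_8_3 lc_d_rc_24_5 lc_d_rc_16_2 lc_d_rc_23_8 lc_d_rc_15_1 lc_d_rc_8_1 lc_d_rc_15_1 lc_d_rc_22_4 lc_d_rc_16_2 lc_d_rc_15_1 lc_d_Cert_tree lc_d_rc_15_1 lc_d_rc_15_1 lc_d_rc_23_2 lc_d_rc_22_4 lc_d_rc_27_10 lc_d_rc_15_1 lc_d_Cert_tree lc_d_rc_15_1 lc_d_rc_15_1 lc_d_rc_15_1 lc_d_rc_27_4 lc_d_rc_22_6 lc_d_rc_24_0 lc_d_rc_8_3 lc_d_rc_15_1 lc_d_rc_27_4 lc_d_rc_22_6 lc_d_rc_16_4 lc_d_rc_3_3 lc_d_rc_8_3 lc_d_rc_15_1 lc_d_rc_27_4 lc_d_rc_24_0 lc_d_rc_16_4 lc_d_rc_27_2 lc_d_rc_15_1 lc_d_Cert_tree lc_d_rc_12_1 lc_d_rc_16_2 lc_d_rc_15_1 lc_d_rc_15_1 lc_d_rc_22_2 lc_d_rc_15_1 lc_d_rc_27_4)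 (@D3.rec (fun _ => (Cert rels S Gen.d)) lc_d_rc_8_3 lc_d_rc_15_1 lc_d_rc_17_2 lc_d_rc_8_3 lc_d_rc_3_1 lc_d_rc_27_2 lc_d_rc_15_1 lc_d_rc_15_1 lc_d_rc_15_1 lc_d_rc_23_6 lc_d_rc_22_4 lc_d_rc_15_1 lc_d_rc_8_1 lc_d_rc_22_8 lc_d_rc_8_1 lc_d_rc_15_1 lc_d_rc_27_4 lc_d_rc_15_1 lc_d_rc_27_10 lc_d_rc_22_8 lc_d_rc_17_2 lc_d_rc_15_1 lc_d_rc_27_4 lc_d_rc_8_3 lc_d_rc_22_6 lc_d_rc_25_10 lc_d_rc_22_4 lc_d_rc_15_1 lc_d_rc_15_1 lc_d_rc_8_3 lc_d_rc_8_1 lc_d_rc_24_5 lc_d_rc_27_2 lc_d_rc_22_6 lc_d_rc_16_4 lc_d_rc_15_1 lc_d_rc_24_0 lc_d_rc_15_1 lc_d_rc_15_1 lc_d_Cert_tree lc_d_rc_23_2 lc_d_rc_23_8 lc_d_rc_24_0 lc_d_rc_24_0 lc_d_rc_17_2 lc_d_rc_27_10 lc_d_rc_15_1 lc_d_rc_8_3 lc_d_rc_15_1 lc_d_rc_15_1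 lc_d_rc_15_1 lc_d_rc_27_8 lc_d_rc_27_4 lc_d_Cert_tree lc_d_rc_15_1 lc_d_rc_22_6 lc_d_rc_25_18 lc_d_rc_3_3 lc_d_rc_8_3 lc_d_Cert_tree lc_d_rc_25_2 lc_d_rc_27_4) (@D3.rec (fun _ => (Cert rels S Gen.d)) lc_d_rc_3_3 lc_d_rc_27_8 lc_d_rc_15_1 lc_d_rc_16_2 lc_d_rc_8_3 lc_d_Cert_tree lc_d_rc_15_1 lc_d_rc_17_2 lc_d_rc_15_1 lc_d_rc_8_3 lc_d_rc_17_2 lc_d_rc_3_3 lc_d_rc_23_6 lc_d_rc_15_1 lc_d_rc_16_4 lc_d_rc_16_2 lc_d_rc_16_4 lc_d_rc_15_1 lc_d_rc_22_4 lc_d_rc_8_3 lc_d_rc_15_1 lc_d_rc_15_1 lc_d_rc_25_18 lc_d_rc_15_1 lc_d_rc_15_1 lc_d_rc_8_3 lc_d_rc_22_4 lc_d_rc_27_2 lc_d_rc_25_10 lc_d_rc_15_1 lc_d_rc_23_2 lc_d_rc_15_1 lc_d_rc_12_1 lc_d_rc_16_4 lc_d_rc_24_0 lc_d_rc_15_1 lc_d_rc_22_6 lc_d_Cert_tree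 lc_d_Cert_tree lc_d_rc_15_1 lc_d_rc_25_14 lc_d_rc_22_4 lc_d_rc_15_1 lc_d_Cert_tree lc_d_Cert_tree lc_d_rc_15_1 lc_d_Cert_tree lc_d_rc_15_1 lc_d_rc_27_4 lc_d_rc_15_1 lc_d_rc_27_8 lc_d_rc_25_2 lc_d_rc_15_1 lc_d_rc_17_2 lc_d_rc_15_1 lc_d_rc_27_4 lc_d_rc_15_1 lc_d_rc_15_1 lc_d_rc_23_8 lc_d_rc_22_4 lc_d_rc_16_4 lc_d_rc_17_2) (@D3.rec (fun _ => (Cert rels S Gen.d)) lc_d_rc_15_1 lc_d_rc_27_2 lc_d_rc_15_1 lc_d_rc_15_1 lc_d_rc_8_3 lc_d_rc_12_15 lc_d_rc_17_0 lc_d_rc_25_6 lc_d_rc_15_1 lc_d_rc_15_1 lc_d_rc_24_0 lc_d_rc_16_4 lc_d_rc_24_0 lc_d_rc_16_4 lc_d_rc_23_2 lc_d_rc_15_1 lc_d_rc_24_0 lc_d_rc_23_4 lc_d_rc_8_3 lc_d_rc_15_1 lc_d_rc_15_1 lc_d_rc_15_1 lc_d_rc_17_2 lc_d_rc_15_1 lc_d_rc_8_3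 lc_d_rc_15_1 lc_d_rc_23_4 lc_d_rc_12_15 lc_d_rc_8_3 lc_d_rc_3_3 lc_d_rc_15_1 lc_d_rc_24_5 lc_d_rc_3_3 lc_d_rc_12_3 lc_d_rc_8_3 lc_d_rc_15_1 lc_d_Cert_tree lc_d_rc_24_0 lc_d_rc_15_1 lc_d_rc_15_1 lc_d_rc_24_5 lc_d_rc_15_1 lc_d_rc_23_6 lc_d_rc_8_3 lc_d_rc_8_3 lc_d_rc_15_1 lc_d_Cert_tree lc_d_rc_15_1 lc_d_rc_27_8 lc_d_rc_15_1 lc_d_rc_27_4 lc_d_rc_23_6 lc_d_rc_22_4 lc_d_rc_16_2 lc_d_rc_15_1 lc_d_rc_8_3 lc_d_rc_15_1 lc_d_rc_17_2 lc_d_rc_8_1 lc_d_rc_16_4 lc_d_rc_3_1 lc_d_rc_15_1) (@D3.rec (fun _ => (Cert rels S Gen.d)) lc_d_rc_16_0 lc_d_Cert_tree lc_d_rc_22_4 lc_d_rc_15_1 lc_d_rc_17_2 lc_d_rc_3_1 lc_d_rc_15_1 lc_d_Cert_tree lc_d_rc_25_2 lc_d_rc_24_0 lc_d_rc_15_1 lc_d_rc_17_2 lc_d_rc_24_0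 lc_d_rc_15_1 lc_d_rc_22_6 lc_d_rc_16_4 lc_d_rc_12_7 lc_d_rc_8_3 lc_d_rc_22_6 lc_d_rc_23_6 lc_d_rc_16_4 lc_d_rc_8_1 lc_d_rc_16_0 lc_d_Cert_tree lc_d_rc_15_1 lc_d_rc_17_2 lc_d_rc_15_1 lc_d_rc_27_4 lc_d_rc_16_0 lc_d_rc_24_0 lc_d_rc_8_3 lc_d_rc_24_5 lc_d_rc_16_2 lc_d_rc_23_6 lc_d_rc_22_2 lc_d_rc_15_1 lc_d_rc_22_6 lc_d_rc_15_1 lc_d_rc_15_1 lc_d_rc_27_8 lc_d_rc_24_5 lc_d_Cert_tree lc_d_rc_8_3 lc_d_rc_15_1 lc_d_rc_15_1 lc_d_rc_15_1 lc_d_Cert_tree lc_d_rc_23_6 lc_d_rc_16_4 lc_d_rc_27_2 lc_d_rc_17_2 lc_d_rc_8_3 lc_d_rc_27_2 lc_d_rc_23_8 lc_d_rc_22_6 lc_d_rc_15_1 lc_d_rc_27_4 lc_d_rc_23_2 lc_d_rc_16_0 lc_d_rc_8_1 lc_d_rc_27_4 lc_d_rc_16_4) (@D3.rec (fun _ => (Cert rels S Gen.d)) lc_d_rc_8_3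 lc_d_rc_23_4 lc_d_rc_3_1 lc_d_rc_16_4 lc_d_rc_23_4 lc_d_rc_8_3 lc_d_rc_27_2 lc_d_rc_15_1 lc_d_rc_15_1 lc_d_rc_22_6 lc_d_rc_15_1 lc_d_rc_16_4 lc_d_rc_22_8 lc_d_rc_15_1 lc_d_Cert_tree lc_d_rc_23_8 lc_d_rc_15_1 lc_d_rc_16_2 lc_d_rc_8_3 lc_d_rc_23_4 lc_d_rc_8_1 lc_d_rc_15_1 lc_d_rc_15_1 lc_d_rc_15_1 lc_d_Cert_tree lc_d_rc_15_1 lc_d_rc_15_1 lc_d_Cert_tree lc_d_rc_15_1 lc_d_rc_15_1 lc_d_rc_24_0 lc_d_rc_15_1 lc_d_rc_3_3 lc_d_rc_23_6 lc_d_rc_22_4 lc_d_rc_17_2 lc_d_rc_8_1 lc_d_rc_27_4 lc_d_rc_8_3 lc_d_rc_8_1 lc_d_rc_8_3 lc_d_rc_3_3 lc_d_rc_16_4 lc_d_rc_15_1 lc_d_rc_16_2 lc_d_rc_16_0 lc_d_rc_22_4 lc_d_rc_8_1 lc_d_rc_22_2 lc_d_rc_8_3 lc_d_rc_12_1 lc_d_rc_16_4 lc_d_rc_8_3 lc_d_rc_8_3 lc_d_rc_27_4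 lc_d_rc_27_2 lc_d_rc_27_10 lc_d_rc_3_1 lc_d_rc_15_1 lc_d_rc_27_2 lc_d_Cert_tree lc_d_rc_17_2) (@D3.rec (fun _ => (Cert rels S Gen.d)) lc_d_rc_23_2 lc_d_rc_22_8 lc_d_rc_15_1 lc_d_rc_17_0 lc_d_rc_27_10 lc_d_rc_23_8 lc_d_rc_24_5 lc_d_rc_27_2 lc_d_rc_23_2 lc_d_rc_15_1 lc_d_rc_8_3 lc_d_rc_16_2 lc_d_rc_27_4 lc_d_rc_8_3 lc_d_rc_8_3 lc_d_rc_23_8 lc_d_rc_15_1 lc_d_rc_15_1 lc_d_Cert_tree lc_d_rc_8_3 lc_d_rc_25_18 lc_d_rc_24_0 lc_d_rc_8_3 lc_d_rc_24_5 lc_d_rc_15_1 lc_d_rc_15_1 lc_d_rc_16_4 lc_d_rc_8_3 lc_d_rc_16_0 lc_d_rc_12_1 lc_d_rc_15_1 lc_d_rc_24_5 lc_d_rc_15_1 lc_d_Cert_tree lc_d_rc_15_1 lc_d_rc_8_3 lc_d_rc_15_1 lc_d_rc_17_2 lc_d_rc_15_1 lc_d_rc_16_0 lc_d_rc_22_2 lc_d_rc_27_2 lc_d_rc_27_4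 lc_d_rc_8_3 lc_d_rc_17_2 lc_d_rc_27_10 lc_d_rc_27_2 lc_d_rc_15_1 lc_d_rc_15_1 lc_d_rc_22_6 lc_d_rc_15_1 lc_d_Cert_tree lc_d_rc_12_1 lc_d_rc_8_1 lc_d_rc_16_2 lc_d_rc_27_10 lc_d_rc_15_1 lc_d_rc_8_3 lc_d_rc_27_2 lc_d_rc_15_1 lc_d_rc_17_2 lc_d_Cert_tree) (@D3.rec (fun _ => (Cert rels S Gen.d)) lc_d_rc_15_1 lc_d_rc_15_1 lc_d_Cert_tree lc_d_rc_23_4 lc_d_rc_24_5 lc_d_rc_8_1 lc_d_Cert_tree lc_d_rc_25_14 lc_d_Cert_tree lc_d_rc_15_1 lc_d_rc_24_0 lc_d_Cert_tree lc_d_rc_16_0 lc_d_Cert_tree lc_d_rc_16_0 lc_d_rc_27_10 lc_d_rc_15_1 lc_d_rc_8_3 lc_d_rc_12_3 lc_d_rc_16_2 lc_d_rc_27_4 lc_d_rc_15_1 lc_d_rc_24_5 lc_d_rc_3_3 lc_d_rc_22_8 lc_d_rc_15_1 lc_d_rc_24_5 lc_d_rc_15_1 lc_d_rc_27_4 lc_d_rc_8_3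 lc_d_rc_22_2 lc_d_rc_27_8 lc_d_rc_15_1 lc_d_rc_22_2 lc_d_rc_15_1 lc_d_rc_22_8 lc_d_rc_8_3 lc_d_rc_3_3 lc_d_rc_12_15 lc_d_rc_16_2 lc_d_rc_16_0 lc_d_rc_15_1 lc_d_rc_15_1 lc_d_rc_15_1 lc_d_rc_24_0 lc_d_Cert_tree lc_d_rc_23_2 lc_d_rc_15_1 lc_d_rc_15_1 lc_d_rc_16_4 lc_d_rc_16_0 lc_d_rc_16_0 lc_d_rc_15_1 lc_d_rc_27_4 lc_d_rc_27_4 lc_d_rc_12_15 lc_d_rc_15_1 lc_d_rc_17_2 lc_d_Cert_tree lc_d_rc_15_1 lc_d_rc_8_3 lc_d_rc_15_1) (@D3.rec (fun _ => (Cert rels S Gen.d)) lc_d_rc_15_1 lc_d_rc_8_3 lc_d_rc_15_1 lc_d_rc_8_1 lc_d_rc_15_1 lc_d_rc_27_4 lc_d_rc_22_8 lc_d_rc_16_4 lc_d_rc_27_8 lc_d_rc_15_1 lc_d_rc_23_6 lc_d_rc_22_6 lc_d_rc_15_1 lc_d_rc_22_6 lc_d_rc_15_1 lc_d_rc_8_1 lc_d_rc_23_4 lc_d_rc_8_3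 lc_d_rc_8_3 lc_d_Cert_tree lc_d_rc_3_1 lc_d_rc_8_1 lc_d_rc_15_1 lc_d_rc_23_6 lc_d_rc_27_2 lc_d_rc_17_2 lc_d_rc_8_3 lc_d_rc_15_1 lc_d_Cert_tree lc_d_rc_23_8 lc_d_rc_15_1 lc_d_rc_22_8 lc_d_rc_23_4 lc_d_rc_8_1 lc_d_rc_22_4 lc_d_rc_8_3 lc_d_rc_16_2 lc_d_rc_16_4 lc_d_rc_15_1 lc_d_rc_15_1 lc_d_rc_16_2 lc_d_rc_27_4 lc_d_rc_22_4 lc_d_Cert_tree lc_d_rc_15_1 lc_d_rc_24_0 lc_d_rc_16_4 lc_d_rc_22_2 lc_d_rc_15_1 lc_d_rc_22_4 lc_d_rc_15_1 lc_d_rc_15_1 lc_d_rc_8_3 lc_d_rc_22_8 lc_d_rc_8_1 lc_d_rc_15_1 lc_d_rc_17_2 lc_d_rc_15_1 lc_d_rc_15_1 lc_d_rc_12_1 lc_d_rc_17_0 lc_d_rc_22_6) (@D3.rec (fun _ => (Cert rels S Gen.d)) lc_d_rc_15_1 lc_d_rc_15_1 lc_d_rc_23_2 lc_d_rc_15_1 lc_d_rc_16_4 lc_d_rc_3_3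 lc_d_rc_17_2 lc_d_rc_17_2 lc_d_rc_12_9 lc_d_rc_15_1 lc_d_rc_24_5 lc_d_rc_27_2 lc_d_rc_8_1 lc_d_rc_17_0 lc_d_rc_8_3 lc_d_rc_27_10 lc_d_rc_16_2 lc_d_rc_15_1 lc_d_rc_23_6 lc_d_rc_15_1 lc_d_rc_15_1 lc_d_rc_22_4 lc_d_rc_8_3 lc_d_rc_15_1 lc_d_rc_15_1 lc_d_rc_15_1 lc_d_rc_16_2 lc_d_rc_16_2 lc_d_rc_27_10 lc_d_rc_15_1 lc_d_rc_23_8 lc_d_rc_15_1 lc_d_rc_27_4 lc_d_rc_15_1 lc_d_rc_15_1 lc_d_rc_8_1 lc_d_rc_15_1 lc_d_rc_27_2 lc_d_Cert_tree lc_d_rc_15_1 lc_d_rc_8_3 lc_d_rc_17_2 lc_d_rc_15_1 lc_d_rc_15_1 lc_d_rc_16_4 lc_d_rc_22_4 lc_d_rc_8_3 lc_d_rc_8_3 lc_d_rc_15_1 lc_d_rc_27_2 lc_d_rc_8_3 lc_d_rc_27_2 lc_d_rc_8_3 lc_d_rc_22_2 lc_d_rc_23_6 lc_d_rc_15_1 lc_d_rc_27_2 lc_d_rc_16_4 lc_d_rc_15_1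 lc_d_rc_8_3 lc_d_rc_23_2 lc_d_rc_15_1) (@D3.rec (fun _ => (Cert rels S Gen.d)) lc_d_rc_27_8 lc_d_rc_15_1 lc_d_rc_8_1 lc_d_rc_23_4 lc_d_rc_15_1 lc_d_rc_8_3 lc_d_rc_8_3 lc_d_rc_15_1 lc_d_rc_15_1 lc_d_rc_16_4 lc_d_rc_16_2 lc_d_rc_17_0 lc_d_rc_8_3 lc_d_Cert_tree lc_d_rc_15_1 lc_d_rc_15_1 lc_d_Cert_tree lc_d_Cert_tree lc_d_rc_15_1 lc_d_rc_15_1 lc_d_rc_24_5 lc_d_Cert_tree lc_d_rc_15_1 lc_d_rc_23_2 lc_d_rc_15_1 lc_d_rc_3_1 lc_d_rc_24_0 lc_d_rc_15_1 lc_d_rc_22_2 lc_d_rc_16_0 lc_d_rc_15_1 lc_d_rc_23_8 lc_d_rc_15_1 lc_d_rc_15_1 lc_d_rc_23_2 lc_d_rc_27_8 lc_d_rc_12_15 lc_d_rc_22_4 lc_d_rc_27_10 lc_d_rc_15_1 lc_d_rc_23_6 lc_d_rc_15_1 lc_d_rc_15_1 lc_d_rc_3_1 lc_d_rc_15_1 lc_d_rc_15_1 lc_d_rc_27_10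 lc_d_Cert_tree lc_d_Cert_tree lc_d_rc_15_1 lc_d_rc_16_4 lc_d_rc_23_8 lc_d_rc_15_1 lc_d_rc_17_2 lc_d_rc_23_2 lc_d_rc_24_0 lc_d_rc_15_1 lc_d_rc_23_2 lc_d_rc_22_8 lc_d_rc_22_4 lc_d_rc_3_3 lc_d_rc_8_3) (@D3.rec (fun _ => (Cert rels S Gen.d)) lc_d_rc_23_8 lc_d_rc_3_3 lc_d_rc_8_3 lc_d_rc_27_4 lc_d_rc_22_2 lc_d_rc_17_2 lc_d_rc_27_10 lc_d_rc_15_1 lc_d_Cert_tree lc_d_Cert_tree lc_d_rc_8_3 lc_d_rc_15_1 lc_d_rc_15_1 lc_d_rc_17_2 lc_d_rc_23_6 lc_d_rc_15_1 lc_d_rc_22_8 lc_d_rc_15_1 lc_d_rc_23_2 lc_d_rc_8_3 lc_d_rc_15_1 lc_d_rc_3_1 lc_d_rc_15_1 lc_d_Cert_tree lc_d_Cert_tree lc_d_Cert_tree lc_d_rc_15_1 lc_d_rc_8_3 lc_d_rc_27_10 lc_d_rc_15_1 lc_d_rc_15_1 lc_d_rc_17_2 lc_d_rc_22_6 lc_d_rc_15_1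 lc_d_rc_15_1 lc_d_rc_23_8 lc_d_rc_8_1 lc_d_rc_15_1 lc_d_rc_16_4 lc_d_rc_22_4 lc_d_rc_15_1 lc_d_rc_25_18 lc_d_rc_27_10 lc_d_rc_15_1 lc_d_Cert_tree lc_d_Cert_tree lc_d_rc_15_1 lc_d_rc_15_1 lc_d_rc_23_4 lc_d_rc_23_4 lc_d_rc_8_3 lc_d_rc_15_1 lc_d_rc_27_4 lc_d_rc_15_1 lc_d_rc_27_2 lc_d_rc_15_1 lc_d_rc_8_1 lc_d_rc_3_3 lc_d_rc_8_3 lc_d_rc_15_1 lc_d_rc_17_2 lc_d_rc_3_3) (@D3.rec (fun _ => (Cert rels S Gen.d)) lc_d_rc_3_3 lc_d_rc_15_1 lc_d_rc_27_4 lc_d_rc_12_15 lc_d_rc_15_1 lc_d_rc_27_10 lc_d_rc_16_0 lc_d_rc_27_4 lc_d_rc_8_1 lc_d_rc_16_2 lc_d_rc_15_1 lc_d_rc_27_4 lc_d_rc_15_1 lc_d_rc_16_2 lc_d_rc_8_3 lc_d_rc_23_4 lc_d_rc_27_2 lc_d_rc_23_6 lc_d_rc_8_3 lc_d_rc_16_4 lc_d_rc_15_1 lc_d_rc_16_0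 lc_d_rc_15_1 lc_d_rc_15_1 lc_d_Cert_tree lc_d_Cert_tree lc_d_rc_16_0 lc_d_rc_15_1 lc_d_rc_15_1 lc_d_rc_27_4 lc_d_rc_23_2 lc_d_rc_15_1 lc_d_rc_22_6 lc_d_rc_15_1 lc_d_rc_22_6 lc_d_rc_8_3 lc_d_rc_15_1 lc_d_rc_23_6 lc_d_rc_16_4 lc_d_rc_15_1 lc_d_rc_16_2 lc_d_rc_16_4 lc_d_rc_15_1 lc_d_rc_27_8 lc_d_rc_27_2 lc_d_rc_16_0 lc_d_rc_15_1 lc_d_rc_16_2 lc_d_rc_15_1 lc_d_rc_16_4 lc_d_rc_15_1 lc_d_rc_15_1 lc_d_rc_15_1 lc_d_rc_15_1 lc_d_rc_16_0 lc_d_rc_15_1 lc_d_rc_27_8 lc_d_rc_8_3 lc_d_rc_8_3 lc_d_rc_22_6 lc_d_rc_27_10 lc_d_rc_25_6) (@D3.rec (fun _ => (Cert rels S Gen.d)) lc_d_rc_15_1 lc_d_rc_15_1 lc_d_rc_27_8 lc_d_rc_3_1 lc_d_rc_23_4 lc_d_rc_15_1 lc_d_rc_25_6 lc_d_rc_27_10 lc_d_rc_15_1 lc_d_rc_16_2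 lc_d_rc_24_0 lc_d_rc_27_10 lc_d_rc_3_1 lc_d_rc_15_1 lc_d_rc_15_1 lc_d_rc_15_1 lc_d_rc_15_1 lc_d_rc_15_1 lc_d_Cert_tree lc_d_rc_15_1 lc_d_rc_8_3 lc_d_rc_15_1 lc_d_rc_8_3 lc_d_rc_15_1 lc_d_rc_23_2 lc_d_rc_15_1 lc_d_rc_17_2 lc_d_rc_24_5 lc_d_Cert_tree lc_d_rc_15_1 lc_d_rc_8_3 lc_d_rc_17_2 lc_d_rc_8_3 lc_d_rc_22_2 lc_d_rc_27_10 lc_d_rc_8_3 lc_d_rc_15_1 lc_d_rc_23_4 lc_d_rc_22_2 lc_d_rc_27_2 lc_d_rc_16_4 lc_d_rc_27_2 lc_d_rc_8_3 lc_d_rc_25_6 lc_d_rc_15_1 lc_d_rc_27_10 lc_d_rc_22_4 lc_d_rc_16_0 lc_d_rc_17_2 lc_d_rc_25_2 lc_d_rc_15_1 lc_d_rc_12_3 lc_d_rc_27_10 lc_d_rc_8_1 lc_d_rc_23_2 lc_d_rc_27_4 lc_d_rc_15_1 lc_d_rc_8_3 lc_d_rc_15_1 lc_d_rc_3_3 lc_d_rc_25_2 lc_d_rc_27_4) (@D3.rec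 (fun _ => (Cert rels S Gen.d)) lc_d_rc_27_4 lc_d_rc_24_0 lc_d_rc_24_5 lc_d_rc_25_6 lc_d_rc_15_1 lc_d_rc_17_2 lc_d_rc_8_3 lc_d_rc_27_8 lc_d_rc_8_3 lc_d_rc_27_10 lc_d_rc_27_10 lc_d_rc_15_1 lc_d_rc_15_1 lc_d_rc_22_6 lc_d_rc_22_6 lc_d_rc_3_3 lc_d_Cert_tree lc_d_rc_15_1 lc_d_rc_16_4 lc_d_rc_22_6 lc_d_rc_27_8 lc_d_rc_27_4 lc_d_rc_23_2 lc_d_rc_15_1 lc_d_Cert_tree lc_d_rc_15_1 lc_d_Cert_tree lc_d_rc_23_2 lc_d_rc_25_10 lc_d_rc_15_1 lc_d_rc_23_2 lc_d_rc_8_3 lc_d_Cert_tree lc_d_rc_15_1 lc_d_rc_16_0 lc_d_rc_15_1 lc_d_rc_17_2 lc_d_rc_15_1 lc_d_rc_15_1 lc_d_rc_15_1 lc_d_rc_15_1 lc_d_rc_15_1 lc_d_rc_8_3 lc_d_rc_15_1 lc_d_rc_27_10 lc_d_rc_15_1 lc_d_rc_27_10 lc_d_rc_24_5 lc_d_rc_17_2 lc_d_rc_15_1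 lc_d_rc_15_1 lc_d_rc_16_4 lc_d_rc_16_0 lc_d_rc_27_8 lc_d_rc_15_1 lc_d_rc_17_2 lc_d_rc_15_1 lc_d_rc_15_1 lc_d_rc_23_2 lc_d_rc_15_1 lc_d_rc_17_0 lc_d_rc_8_1) (@D3.rec (fun _ => (Cert rels S Gen.d)) lc_d_Cert_tree lc_d_rc_15_1 lc_d_rc_16_2 lc_d_rc_15_1 lc_d_rc_15_1 lc_d_rc_17_2 lc_d_rc_8_3 lc_d_rc_15_1 lc_d_rc_27_2 lc_d_rc_15_1 lc_d_rc_15_1 lc_d_rc_8_1 lc_d_rc_24_0 lc_d_rc_15_1 lc_d_rc_22_4 lc_d_rc_15_1 lc_d_rc_15_1 lc_d_rc_17_0 lc_d_rc_17_2 lc_d_rc_22_2 lc_d_rc_15_1 lc_d_rc_23_6 lc_d_rc_16_4 lc_d_rc_15_1 lc_d_rc_3_3 lc_d_rc_16_4 lc_d_rc_27_8 lc_d_rc_8_3 lc_d_rc_23_6 lc_d_rc_15_1 lc_d_rc_17_2 lc_d_rc_22_4 lc_d_rc_22_6 lc_d_Cert_tree lc_d_rc_27_2 lc_d_rc_15_1 lc_d_rc_27_2 lc_d_rc_15_1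 lc_d_rc_15_1 lc_d_rc_23_4 lc_d_rc_22_4 lc_d_rc_17_2 lc_d_rc_23_2 lc_d_rc_15_1 lc_d_rc_24_5 lc_d_rc_8_1 lc_d_rc_15_1 lc_d_rc_15_1 lc_d_rc_8_3 lc_d_Cert_tree lc_d_rc_12_15 lc_d_rc_15_1 lc_d_Cert_tree lc_d_rc_15_1 lc_d_rc_12_15 lc_d_rc_15_1 lc_d_rc_27_4 lc_d_rc_27_4 lc_d_rc_15_1 lc_d_rc_3_3 lc_d_rc_15_1 lc_d_rc_23_8) (@D3.rec (fun _ => (Cert rels S Gen.d)) lc_d_rc_27_2 lc_d_rc_27_8 lc_d_rc_23_2 lc_d_rc_15_1 lc_d_rc_15_1 lc_d_rc_15_1 lc_d_rc_8_3 lc_d_rc_15_1 lc_d_rc_17_2 lc_d_rc_16_2 lc_d_rc_17_2 lc_d_rc_23_2 lc_d_rc_27_8 lc_d_rc_24_0 lc_d_rc_15_1 lc_d_rc_15_1 lc_d_rc_27_4 lc_d_rc_15_1 lc_d_Cert_tree lc_d_rc_27_8 lc_d_rc_23_2 lc_d_rc_15_1 lc_d_rc_8_3 lc_d_rc_8_3 lc_d_rc_15_1 lc_d_Cert_tree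 lc_d_rc_15_1 lc_d_rc_16_4 lc_d_rc_16_0 lc_d_rc_17_0 lc_d_rc_15_1 lc_d_rc_27_4 lc_d_rc_15_1 lc_d_rc_27_8 lc_d_rc_3_3 lc_d_rc_27_4 lc_d_rc_15_1 lc_d_rc_8_3 lc_d_rc_16_2 lc_d_rc_24_0 lc_d_rc_8_3 lc_d_rc_15_1 lc_d_rc_27_2 lc_d_rc_27_4 lc_d_rc_15_1 lc_d_rc_15_1 lc_d_Cert_tree lc_d_rc_15_1 lc_d_rc_27_8 lc_d_rc_22_2 lc_d_rc_15_1 lc_d_rc_8_3 lc_d_rc_27_4 lc_d_rc_16_4 lc_d_rc_15_1 lc_d_rc_27_2 lc_d_rc_15_1 lc_d_rc_16_4 lc_d_rc_24_5 lc_d_rc_8_3 lc_d_rc_27_8 lc_d_rc_8_1) (@D3.rec (fun _ => (Cert rels S Gen.d)) lc_d_rc_15_1 lc_d_rc_16_0 lc_d_rc_23_2 lc_d_rc_16_0 lc_d_rc_3_3 lc_d_rc_15_1 lc_d_rc_15_1 lc_d_rc_23_8 lc_d_rc_8_3 lc_d_rc_15_1 lc_d_rc_16_2 lc_d_rc_27_8 lc_d_rc_3_3 lc_d_rc_15_1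 lc_d_rc_27_2 lc_d_rc_8_1 lc_d_rc_15_1 lc_d_rc_8_3 lc_d_rc_8_3 lc_d_rc_15_1 lc_d_rc_8_1 lc_d_rc_15_1 lc_d_rc_15_1 lc_d_rc_8_3 lc_d_rc_27_4 lc_d_Cert_tree lc_d_rc_15_1 lc_d_rc_22_4 lc_d_rc_15_1 lc_d_rc_23_4 lc_d_Cert_tree lc_d_rc_17_2 lc_d_rc_23_8 lc_d_rc_23_2 lc_d_rc_15_1 lc_d_rc_15_1 lc_d_rc_17_2 lc_d_rc_8_3 lc_d_rc_22_4 lc_d_rc_24_0 lc_d_rc_22_4 lc_d_rc_15_1 lc_d_rc_27_2 lc_d_rc_15_1 lc_d_Cert_tree lc_d_rc_3_3 lc_d_rc_23_2 lc_d_rc_27_2 lc_d_rc_8_3 lc_d_rc_3_3 lc_d_rc_8_3 lc_d_Cert_tree lc_d_rc_27_2 lc_d_rc_15_1 lc_d_rc_22_4 lc_d_rc_16_4 lc_d_rc_8_3 lc_d_rc_15_1 lc_d_rc_24_0 lc_d_rc_16_4 lc_d_rc_8_3 lc_d_rc_27_10) (@D3.rec (fun _ => (Cert rels S Gen.d)) lc_d_rc_22_4 lc_d_Cert_tree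 lc_d_rc_15_1 lc_d_rc_3_1 lc_d_rc_15_1 lc_d_rc_16_4 lc_d_rc_8_3 lc_d_rc_27_2 lc_d_rc_15_1 lc_d_rc_17_2 lc_d_rc_15_1 lc_d_rc_15_1 lc_d_rc_27_4 lc_d_rc_25_2 lc_d_rc_15_1 lc_d_rc_27_2 lc_d_rc_15_1 lc_d_rc_15_1 lc_d_rc_23_4 lc_d_rc_22_6 lc_d_rc_16_4 lc_d_rc_17_2 lc_d_rc_22_2 lc_d_rc_23_4 lc_d_rc_15_1 lc_d_Cert_tree lc_d_Cert_tree lc_d_rc_15_1 lc_d_rc_8_3 lc_d_rc_15_1 lc_d_rc_8_3 lc_d_Cert_tree lc_d_rc_15_1 lc_d_rc_24_0 lc_d_rc_15_1 lc_d_rc_23_4 lc_d_Cert_tree lc_d_Cert_tree lc_d_rc_3_1 lc_d_rc_15_1 lc_d_rc_8_3 lc_d_rc_8_1 lc_d_rc_8_3 lc_d_Cert_tree lc_d_rc_16_4 lc_d_rc_16_0 lc_d_rc_27_10 lc_d_rc_15_1 lc_d_rc_27_10 lc_d_rc_16_2 lc_d_rc_8_3 lc_d_rc_23_2 lc_d_rc_15_1 lc_d_rc_16_4 lc_d_rc_16_0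 lc_d_rc_3_3 lc_d_rc_16_2 lc_d_rc_8_3 lc_d_rc_16_4 lc_d_rc_8_3 lc_d_rc_16_4 lc_d_rc_22_6) (@D3.rec (fun _ => (Cert rels S Gen.d)) lc_d_rc_8_3 lc_d_rc_22_8 lc_d_rc_27_2 lc_d_rc_15_1 lc_d_rc_22_4 lc_d_rc_15_1 lc_d_rc_23_4 lc_d_rc_27_2 lc_d_rc_27_4 lc_d_rc_8_3 lc_d_rc_15_1 lc_d_rc_15_1 lc_d_rc_15_1 lc_d_rc_23_6 lc_d_rc_16_0 lc_d_rc_17_2 lc_d_rc_16_2 lc_d_rc_3_3 lc_d_rc_8_1 lc_d_rc_23_8 lc_d_rc_15_1 lc_d_rc_8_1 lc_d_rc_8_1 lc_d_rc_15_1 lc_d_rc_16_4 lc_d_rc_27_2 lc_d_rc_15_1 lc_d_rc_27_4 lc_d_rc_15_1 lc_d_rc_15_1 lc_d_rc_27_4 lc_d_rc_15_1 lc_d_rc_17_2 lc_d_rc_15_1 lc_d_rc_17_2 lc_d_rc_17_2 lc_d_rc_16_4 lc_d_Cert_tree lc_d_rc_17_2 lc_d_rc_15_1 lc_d_rc_15_1 lc_d_rc_15_1 lc_d_rc_17_2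 lc_d_Cert_tree lc_d_rc_15_1 lc_d_rc_22_4 lc_d_rc_15_1 lc_d_rc_24_5 lc_d_rc_15_1 lc_d_rc_15_1 lc_d_rc_8_1 lc_d_rc_15_1 lc_d_rc_15_1 lc_d_rc_15_1 lc_d_rc_15_1 lc_d_rc_15_1 lc_d_rc_3_3 lc_d_rc_23_4 lc_d_rc_22_6 lc_d_rc_17_2 lc_d_rc_24_5 lc_d_rc_15_1) (@D3.rec (fun _ => (Cert rels S Gen.d)) lc_d_rc_15_1 lc_d_rc_27_4 lc_d_rc_15_1 lc_d_rc_15_1 lc_d_rc_23_8 lc_d_rc_17_2 lc_d_rc_15_1 lc_d_rc_15_1 lc_d_rc_15_1 lc_d_rc_15_1 lc_d_rc_15_1 lc_d_rc_17_0 lc_d_rc_16_2 lc_d_rc_27_8 lc_d_rc_22_8 lc_d_rc_27_4 lc_d_rc_15_1 lc_d_rc_17_2 lc_d_Cert_tree lc_d_rc_15_1 lc_d_rc_15_1 lc_d_rc_22_6 lc_d_rc_22_2 lc_d_rc_16_4 lc_d_rc_16_0 lc_d_rc_8_3 lc_d_rc_15_1 lc_d_Cert_tree lc_d_rc_15_1 lc_d_rc_15_1 lc_d_Cert_tree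 lc_d_rc_15_1 lc_d_rc_15_1 lc_d_rc_15_1 lc_d_rc_12_15 lc_d_rc_27_10 lc_d_rc_15_1 lc_d_rc_24_0 lc_d_Cert_tree lc_d_rc_16_2 lc_d_rc_23_4 lc_d_rc_22_4 lc_d_rc_15_1 lc_d_rc_17_2 lc_d_rc_16_0 lc_d_rc_15_1 lc_d_Cert_tree lc_d_rc_8_3 lc_d_Cert_tree lc_d_rc_23_6 lc_d_rc_15_1 lc_d_rc_16_2 lc_d_rc_8_1 lc_d_rc_27_2 lc_d_rc_17_2 lc_d_rc_15_1 lc_d_rc_8_3 lc_d_rc_15_1 lc_d_rc_25_18 lc_d_rc_22_6 lc_d_rc_15_1 lc_d_rc_27_10) (@D3.rec (fun _ => (Cert rels S Gen.d)) lc_d_rc_24_0 lc_d_rc_23_4 lc_d_rc_27_2 lc_d_rc_23_4 lc_d_rc_15_1 lc_d_rc_15_1 lc_d_rc_23_2 lc_d_rc_25_2 lc_d_Cert_tree lc_d_rc_15_1 lc_d_rc_27_4 lc_d_rc_27_8 lc_d_rc_15_1 lc_d_rc_8_3 lc_d_rc_8_3 lc_d_rc_16_0 lc_d_rc_15_1 lc_d_rc_8_3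 lc_d_rc_16_4 lc_d_rc_8_3 lc_d_rc_8_1 lc_d_rc_27_4 lc_d_rc_23_4 lc_d_rc_24_0 lc_d_rc_8_3 lc_d_rc_23_4 lc_d_rc_17_2 lc_d_rc_15_1 lc_d_rc_17_0 lc_d_rc_27_2 lc_d_rc_17_2 lc_d_rc_15_1 lc_d_rc_16_4 lc_d_rc_15_1 lc_d_rc_15_1 lc_d_rc_27_8 lc_d_Cert_tree lc_d_rc_15_1 lc_d_rc_15_1 lc_d_rc_22_6 lc_d_rc_15_1 lc_d_rc_15_1 lc_d_rc_15_1 lc_d_rc_23_6 lc_d_rc_27_10 lc_d_rc_27_2 lc_d_rc_16_4 lc_d_rc_23_2 lc_d_rc_15_1 lc_d_rc_15_1 lc_d_rc_15_1 lc_d_rc_25_18 lc_d_rc_15_1 lc_d_rc_15_1 lc_d_rc_17_2 lc_d_rc_15_1 lc_d_rc_15_1 lc_d_rc_23_4 lc_d_rc_27_10 lc_d_rc_23_8 lc_d_rc_23_2 lc_d_rc_15_1) (@D3.rec (fun _ => (Cert rels S Gen.d)) lc_d_rc_8_3 lc_d_rc_16_4 lc_d_rc_3_1 lc_d_rc_15_1 lc_d_rc_15_1 lc_d_rc_15_1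 lc_d_rc_27_8 lc_d_rc_27_4 lc_d_rc_12_15 lc_d_rc_15_1 lc_d_rc_27_4 lc_d_rc_16_4 lc_d_rc_15_1 lc_d_rc_27_10 lc_d_rc_17_2 lc_d_rc_16_4 lc_d_rc_15_1 lc_d_rc_16_0 lc_d_rc_15_1 lc_d_rc_15_1 lc_d_rc_15_1 lc_d_rc_8_3 lc_d_rc_15_1 lc_d_rc_15_1 lc_d_rc_8_3 lc_d_rc_27_2 lc_d_rc_27_10 lc_d_rc_24_0 lc_d_rc_24_5 lc_d_rc_15_1 lc_d_rc_3_1 lc_d_rc_15_1 lc_d_rc_17_0 lc_d_rc_23_2 lc_d_rc_15_1 lc_d_rc_23_6 lc_d_rc_15_1 lc_d_rc_16_4 lc_d_rc_17_2 lc_d_rc_15_1 lc_d_rc_17_2 lc_d_rc_27_4 lc_d_rc_15_1 lc_d_rc_22_4 lc_d_rc_16_2 lc_d_rc_15_1 lc_d_rc_3_1 lc_d_rc_23_4 lc_d_rc_23_2 lc_d_rc_15_1 lc_d_rc_15_1 lc_d_rc_15_1 lc_d_rc_15_1 lc_d_rc_24_0 lc_d_rc_15_1 lc_d_rc_15_1 lc_d_rc_16_2 lc_d_rc_23_2 lc_d_rc_22_4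 lc_d_rc_15_1 lc_d_rc_15_1 lc_d_rc_3_3) (@D3.rec (fun _ => (Cert rels S Gen.d)) lc_d_rc_15_1 lc_d_rc_23_6 lc_d_rc_15_1 lc_d_rc_17_2 lc_d_rc_15_1 lc_d_rc_17_2 lc_d_rc_15_1 lc_d_rc_27_2 lc_d_rc_23_6 lc_d_rc_15_1 lc_d_rc_17_2 lc_d_rc_27_4 lc_d_rc_25_6 lc_d_rc_12_3 lc_d_rc_8_3 lc_d_rc_15_1 lc_d_rc_15_1 lc_d_rc_15_1 lc_d_rc_15_1 lc_d_rc_8_1 lc_d_rc_15_1 lc_d_rc_22_4 lc_d_rc_16_4 lc_d_rc_15_1 lc_d_rc_27_4 lc_d_rc_15_1 lc_d_rc_16_4 lc_d_rc_23_4 lc_d_rc_16_4 lc_d_rc_15_1 lc_d_rc_15_1 lc_d_rc_23_8 lc_d_rc_15_1 lc_d_rc_15_1 lc_d_rc_23_4 lc_d_rc_22_6 lc_d_rc_15_1 lc_d_rc_15_1 lc_d_rc_17_2 lc_d_rc_8_3 lc_d_rc_23_6 lc_d_rc_15_1 lc_d_rc_8_3 lc_d_rc_23_2 lc_d_rc_8_1 lc_d_rc_22_4 lc_d_rc_15_1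 lc_d_rc_27_2 lc_d_rc_24_0 lc_d_rc_15_1 lc_d_rc_15_1 lc_d_rc_27_2 lc_d_rc_15_1 lc_d_rc_15_1 lc_d_rc_15_1 lc_d_rc_27_2 lc_d_rc_27_2 lc_d_rc_8_1 lc_d_rc_15_1 lc_d_rc_17_0 lc_d_rc_16_2 lc_d_rc_15_1)
def ce_d_27 : D2 → D3 → (Cert rels S Gen.d) := @D2.rec (fun _ => D3 → (Cert rels S Gen.d)) (@D3.rec (fun _ => (Cert rels S Gen.d)) lc_d_rc_27_10 lc_d_rc_15_1 lc_d_rc_17_2 lc_d_rc_15_1 lc_d_rc_3_3 lc_d_rc_16_2 lc_d_rc_27_4 lc_d_rc_23_2 lc_d_rc_22_2 lc_d_rc_23_2 lc_d_Cert_tree lc_d_rc_25_2 lc_d_rc_25_14 lc_d_rc_15_1 lc_d_rc_16_4 lc_d_rc_22_2 lc_d_rc_23_8 lc_d_rc_25_10 lc_d_rc_15_1 lc_d_rc_3_1 lc_d_Cert_tree lc_d_rc_16_0 lc_d_Cert_tree lc_d_Cert_tree lc_d_rc_15_1 lc_d_rc_27_4 lc_d_Cert_tree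 lc_d_rc_15_1 lc_d_rc_12_15 lc_d_Cert_tree lc_d_rc_15_1 lc_d_rc_15_1 lc_d_rc_15_1 lc_d_rc_25_14 lc_d_rc_15_1 lc_d_rc_22_6 lc_d_rc_16_4 lc_d_rc_8_3 lc_d_rc_8_3 lc_d_Cert_tree lc_d_rc_15_1 lc_d_rc_15_1 lc_d_rc_23_6 lc_d_rc_17_2 lc_d_rc_22_8 lc_d_rc_8_1 lc_d_rc_15_1 lc_d_rc_22_2 lc_d_rc_15_1 lc_d_rc_16_4 lc_d_rc_15_1 lc_d_rc_3_3 lc_d_rc_3_3 lc_d_rc_15_1 lc_d_rc_15_1 lc_d_rc_23_6 lc_d_rc_16_4 lc_d_rc_8_3 lc_d_rc_15_1 lc_d_rc_3_1 lc_d_rc_12_3 lc_d_rc_15_1) (@D3.rec (fun _ => (Cert rels S Gen.d)) lc_d_rc_15_1 lc_d_rc_22_4 lc_d_rc_23_8 lc_d_rc_15_1 lc_d_rc_15_1 lc_d_rc_16_2 lc_d_rc_15_1 lc_d_rc_24_5 lc_d_rc_15_1 lc_d_rc_23_8 lc_d_rc_24_5 lc_d_rc_15_1 lc_d_rc_23_4 lc_d_rc_23_4 lc_d_rc_24_0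 lc_d_rc_15_1 lc_d_rc_16_2 lc_d_rc_15_1 lc_d_rc_27_2 lc_d_rc_16_2 lc_d_rc_15_1 lc_d_rc_22_6 lc_d_rc_8_1 lc_d_rc_17_0 lc_d_rc_22_2 lc_d_rc_17_2 lc_d_rc_16_0 lc_d_rc_22_6 lc_d_rc_16_2 lc_d_rc_22_8 lc_d_rc_23_6 lc_d_rc_24_0 lc_d_rc_8_1 lc_d_rc_22_4 lc_d_rc_16_4 lc_d_rc_15_1 lc_d_rc_15_1 lc_d_rc_16_2 lc_d_rc_8_1 lc_d_rc_24_0 lc_d_rc_15_1 lc_d_rc_27_2 lc_d_rc_8_1 lc_d_rc_16_4 lc_d_rc_15_1 lc_d_rc_23_4 lc_d_rc_15_1 lc_d_rc_22_6 lc_d_rc_15_1 lc_d_rc_15_1 lc_d_rc_15_1 lc_d_rc_25_6 lc_d_rc_8_3 lc_d_rc_8_1 lc_d_rc_8_3 lc_d_rc_8_3 lc_d_rc_15_1 lc_d_rc_15_1 lc_d_rc_15_1 lc_d_rc_22_4 lc_d_rc_17_2 lc_d_rc_15_1) (@D3.rec (fun _ => (Cert rels S Gen.d)) lc_d_rc_8_3 lc_d_rc_15_1 lc_d_rc_16_2 lc_d_rc_15_1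 lc_d_rc_22_2 lc_d_rc_15_1 lc_d_rc_16_2 lc_d_rc_27_4 lc_d_rc_25_18 lc_d_rc_27_10 lc_d_rc_23_4 lc_d_rc_23_6 lc_d_rc_22_6 lc_d_rc_17_2 lc_d_rc_15_1 lc_d_rc_8_3 lc_d_rc_15_1 lc_d_rc_3_3 lc_d_rc_15_1 lc_d_rc_24_0 lc_d_rc_8_3 lc_d_rc_15_1 lc_d_rc_22_8 lc_d_rc_22_4 lc_d_rc_22_6 lc_d_rc_17_2 lc_d_rc_8_3 lc_d_rc_8_1 lc_d_rc_15_1 lc_d_rc_24_5 lc_d_rc_23_2 lc_d_rc_23_4 lc_d_rc_17_0 lc_d_rc_15_1 lc_d_rc_17_2 lc_d_rc_24_0 lc_d_rc_22_2 lc_d_rc_15_1 lc_d_rc_15_1 lc_d_rc_22_8 lc_d_rc_17_2 lc_d_rc_24_5 lc_d_rc_24_0 lc_d_rc_22_2 lc_d_rc_16_4 lc_d_rc_15_1 lc_d_rc_15_1 lc_d_rc_23_2 lc_d_rc_24_0 lc_d_Cert_tree lc_d_rc_27_10 lc_d_Cert_tree lc_d_rc_15_1 lc_d_rc_8_3 lc_d_rc_15_1 lc_d_rc_15_1 lc_d_rc_8_3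 lc_d_rc_15_1 lc_d_rc_15_1 lc_d_Cert_tree lc_d_rc_17_2 lc_d_rc_23_2) (@D3.rec (fun _ => (Cert rels S Gen.d)) lc_d_rc_15_1 lc_d_rc_17_2 lc_d_rc_8_3 lc_d_rc_24_0 lc_d_rc_27_10 lc_d_rc_15_1 lc_d_rc_15_1 lc_d_rc_24_5 lc_d_rc_15_1 lc_d_rc_15_1 lc_d_rc_17_2 lc_d_rc_15_1 lc_d_rc_16_4 lc_d_rc_8_3 lc_d_rc_16_4 lc_d_rc_16_4 lc_d_rc_15_1 lc_d_rc_8_3 lc_d_rc_15_1 lc_d_rc_8_3 lc_d_rc_16_4 lc_d_rc_8_3 lc_d_rc_8_1 lc_d_rc_15_1 lc_d_rc_15_1 lc_d_rc_15_1 lc_d_rc_27_2 lc_d_rc_22_8 lc_d_rc_8_3 lc_d_rc_23_2 lc_d_rc_15_1 lc_d_rc_15_1 lc_d_rc_27_8 lc_d_rc_23_6 lc_d_rc_15_1 lc_d_rc_22_6 lc_d_rc_8_3 lc_d_rc_27_4 lc_d_rc_15_1 lc_d_rc_16_4 lc_d_rc_24_0 lc_d_rc_8_3 lc_d_rc_8_3 lc_d_rc_3_3 lc_d_rc_8_3 lc_d_rc_8_1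 lc_d_rc_8_3 lc_d_rc_24_0 lc_d_rc_15_1 lc_d_rc_22_8 lc_d_rc_24_5 lc_d_rc_8_3 lc_d_rc_24_5 lc_d_rc_27_4 lc_d_rc_15_1 lc_d_rc_8_1 lc_d_rc_8_1 lc_d_rc_16_4 lc_d_rc_23_8 lc_d_rc_3_1 lc_d_rc_15_1 lc_d_rc_15_1) (@D3.rec (fun _ => (Cert rels S Gen.d)) lc_d_rc_8_3 lc_d_rc_22_8 lc_d_rc_8_3 lc_d_rc_8_3 lc_d_rc_8_3 lc_d_rc_24_5 lc_d_rc_23_8 lc_d_rc_27_8 lc_d_rc_15_1 lc_d_rc_8_3 lc_d_rc_8_1 lc_d_rc_23_8 lc_d_rc_8_3 lc_d_rc_24_5 lc_d_rc_16_4 lc_d_rc_24_0 lc_d_rc_27_2 lc_d_rc_23_4 lc_d_rc_23_4 lc_d_rc_24_0 lc_d_rc_24_0 lc_d_rc_23_6 lc_d_rc_16_0 lc_d_rc_15_1 lc_d_rc_15_1 lc_d_rc_27_10 lc_d_rc_15_1 lc_d_rc_3_3 lc_d_Cert_tree lc_d_rc_15_1 lc_d_rc_15_1 lc_d_rc_15_1 lc_d_rc_22_4 lc_d_rc_12_3 lc_d_rc_16_2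 lc_d_rc_15_1 lc_d_rc_24_0 lc_d_rc_15_1 lc_d_rc_15_1 lc_d_rc_17_2 lc_d_rc_23_4 lc_d_rc_22_6 lc_d_rc_27_8 lc_d_rc_15_1 lc_d_rc_15_1 lc_d_rc_15_1 lc_d_rc_15_1 lc_d_rc_22_6 lc_d_rc_15_1 lc_d_rc_27_4 lc_d_rc_12_15 lc_d_rc_25_2 lc_d_rc_23_8 lc_d_rc_17_0 lc_d_rc_15_1 lc_d_rc_3_3 lc_d_rc_24_5 lc_d_rc_12_3 lc_d_rc_16_2 lc_d_rc_22_4 lc_d_rc_15_1 lc_d_rc_23_2) (@D3.rec (fun _ => (Cert rels S Gen.d)) lc_d_rc_15_1 lc_d_rc_24_0 lc_d_rc_24_0 lc_d_rc_22_6 lc_d_rc_8_1 lc_d_rc_15_1 lc_d_rc_15_1 lc_d_rc_8_1 lc_d_rc_17_2 lc_d_rc_15_1 lc_d_rc_27_4 lc_d_rc_23_4 lc_d_rc_16_4 lc_d_rc_27_4 lc_d_rc_24_0 lc_d_rc_15_1 lc_d_rc_27_2 lc_d_rc_22_2 lc_d_rc_8_3 lc_d_rc_16_4 lc_d_rc_8_3 lc_d_rc_15_1 lc_d_rc_8_3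 lc_d_rc_15_1 lc_d_rc_3_3 lc_d_rc_15_1 lc_d_rc_15_1 lc_d_rc_27_2 lc_d_rc_15_1 lc_d_rc_22_6 lc_d_rc_15_1 lc_d_rc_27_8 lc_d_rc_15_1 lc_d_rc_8_3 lc_d_rc_22_6 lc_d_rc_17_2 lc_d_rc_15_1 lc_d_rc_24_0 lc_d_rc_23_4 lc_d_Cert_tree lc_d_rc_17_2 lc_d_rc_15_1 lc_d_rc_17_2 lc_d_rc_8_3 lc_d_rc_8_1 lc_d_rc_27_8 lc_d_rc_25_14 lc_d_rc_3_1 lc_d_rc_15_1 lc_d_rc_27_2 lc_d_rc_8_3 lc_d_rc_8_3 lc_d_rc_24_5 lc_d_rc_27_2 lc_d_rc_3_1 lc_d_rc_27_4 lc_d_rc_16_2 lc_d_rc_8_3 lc_d_rc_15_1 lc_d_rc_12_13 lc_d_Cert_tree lc_d_rc_24_5) (@D3.rec (fun _ => (Cert rels S Gen.d)) lc_d_rc_15_1 lc_d_rc_24_5 lc_d_rc_15_1 lc_d_rc_27_2 lc_d_rc_24_5 lc_d_rc_15_1 lc_d_rc_22_6 lc_d_rc_15_1 lc_d_rc_8_3 lc_d_rc_24_0 lc_d_rc_16_4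 lc_d_rc_15_1 lc_d_rc_17_2 lc_d_rc_8_3 lc_d_rc_25_6 lc_d_rc_15_1 lc_d_rc_12_1 lc_d_rc_15_1 lc_d_rc_8_3 lc_d_rc_8_3 lc_d_rc_27_8 lc_d_rc_8_3 lc_d_rc_24_0 lc_d_rc_15_1 lc_d_rc_23_2 lc_d_rc_8_3 lc_d_rc_15_1 lc_d_rc_15_1 lc_d_rc_27_4 lc_d_rc_15_1 lc_d_rc_17_2 lc_d_rc_8_3 lc_d_rc_16_4 lc_d_rc_15_1 lc_d_rc_15_1 lc_d_rc_27_8 lc_d_rc_15_1 lc_d_rc_15_1 lc_d_rc_23_8 lc_d_rc_15_1 lc_d_rc_27_2 lc_d_rc_12_15 lc_d_rc_15_1 lc_d_rc_16_2 lc_d_rc_15_1 lc_d_rc_27_4 lc_d_rc_22_2 lc_d_rc_27_4 lc_d_rc_23_4 lc_d_rc_8_1 lc_d_rc_15_1 lc_d_rc_22_2 lc_d_rc_3_3 lc_d_rc_27_10 lc_d_rc_15_1 lc_d_rc_15_1 lc_d_rc_8_3 lc_d_rc_3_3 lc_d_rc_27_8 lc_d_rc_15_1 lc_d_rc_27_4 lc_d_rc_8_3) (@D3.rec (fun _ => (Cert rels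 S Gen.d)) lc_d_rc_15_1 lc_d_rc_27_4 lc_d_rc_16_2 lc_d_Cert_tree lc_d_rc_16_0 lc_d_rc_8_3 lc_d_rc_22_4 lc_d_rc_8_3 lc_d_rc_27_4 lc_d_Cert_tree lc_d_Cert_tree lc_d_rc_3_3 lc_d_rc_8_3 lc_d_rc_12_15 lc_d_rc_15_1 lc_d_Cert_tree lc_d_rc_23_2 lc_d_rc_16_2 lc_d_rc_15_1 lc_d_rc_27_4 lc_d_rc_15_1 lc_d_rc_8_1 lc_d_rc_16_4 lc_d_rc_16_2 lc_d_rc_15_1 lc_d_rc_15_1 lc_d_rc_22_6 lc_d_rc_17_2 lc_d_rc_23_8 lc_d_rc_15_1 lc_d_rc_15_1 lc_d_rc_15_1 lc_d_rc_24_5 lc_d_rc_16_2 lc_d_rc_23_8 lc_d_rc_8_1 lc_d_rc_15_1 lc_d_rc_27_4 lc_d_rc_24_0 lc_d_rc_24_5 lc_d_rc_15_1 lc_d_Cert_tree lc_d_rc_12_7 lc_d_rc_16_4 lc_d_rc_12_1 lc_d_rc_24_5 lc_d_rc_15_1 lc_d_Cert_tree lc_d_rc_25_6 lc_d_rc_15_1 lc_d_rc_27_8 lc_d_rc_15_1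 lc_d_rc_23_6 lc_d_rc_15_1 lc_d_rc_8_1 lc_d_rc_16_2 lc_d_rc_15_1 lc_d_rc_24_0 lc_d_rc_15_1 lc_d_rc_15_1 lc_d_rc_15_1 lc_d_rc_15_1) (@D3.rec (fun _ => (Cert rels S Gen.d)) lc_d_rc_27_8 lc_d_rc_8_3 lc_d_rc_15_1 lc_d_rc_17_0 lc_d_rc_8_3 lc_d_rc_17_2 lc_d_rc_3_3 lc_d_rc_15_1 lc_d_rc_22_4 lc_d_rc_27_8 lc_d_rc_15_1 lc_d_rc_22_4 lc_d_rc_27_2 lc_d_rc_15_1 lc_d_rc_15_1 lc_d_rc_15_1 lc_d_rc_8_3 lc_d_rc_23_6 lc_d_rc_23_6 lc_d_rc_8_3 lc_d_rc_17_2 lc_d_rc_15_1 lc_d_Cert_tree lc_d_rc_15_1 lc_d_rc_27_2 lc_d_rc_24_5 lc_d_rc_16_2 lc_d_rc_8_1 lc_d_rc_22_4 lc_d_rc_27_8 lc_d_rc_23_4 lc_d_rc_15_1 lc_d_rc_25_14 lc_d_rc_22_8 lc_d_rc_15_1 lc_d_rc_17_2 lc_d_rc_27_2 lc_d_rc_15_1 lc_d_rc_23_2 lc_d_rc_17_2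 lc_d_rc_27_2 lc_d_rc_27_2 lc_d_rc_17_2 lc_d_rc_15_1 lc_d_rc_15_1 lc_d_rc_15_1 lc_d_rc_15_1 lc_d_rc_15_1 lc_d_rc_12_13 lc_d_rc_15_1 lc_d_rc_15_1 lc_d_rc_24_5 lc_d_Cert_tree lc_d_rc_23_4 lc_d_rc_23_4 lc_d_rc_23_4 lc_d_rc_16_2 lc_d_rc_15_1 lc_d_rc_22_2 lc_d_Cert_tree lc_d_rc_15_1 lc_d_rc_3_3) (@D3.rec (fun _ => (Cert rels S Gen.d)) lc_d_rc_15_1 lc_d_rc_15_1 lc_d_rc_15_1 lc_d_rc_15_1 lc_d_rc_15_1 lc_d_rc_3_3 lc_d_rc_15_1 lc_d_rc_27_2 lc_d_rc_8_3 lc_d_rc_8_3 lc_d_rc_17_0 lc_d_rc_15_1 lc_d_rc_15_1 lc_d_rc_23_6 lc_d_rc_8_3 lc_d_rc_15_1 lc_d_rc_23_6 lc_d_rc_15_1 lc_d_rc_15_1 lc_d_rc_16_4 lc_d_rc_15_1 lc_d_rc_15_1 lc_d_rc_15_1 lc_d_rc_8_3 lc_d_rc_23_6 lc_d_rc_15_1 lc_d_rc_8_3 lc_d_rc_17_0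 lc_d_rc_17_2 lc_d_rc_15_1 lc_d_rc_17_2 lc_d_rc_23_4 lc_d_rc_15_1 lc_d_rc_16_4 lc_d_rc_15_1 lc_d_rc_24_0 lc_d_rc_15_1 lc_d_rc_17_2 lc_d_rc_15_1 lc_d_rc_24_0 lc_d_rc_16_2 lc_d_rc_15_1 lc_d_rc_23_6 lc_d_Cert_tree lc_d_rc_15_1 lc_d_rc_8_3 lc_d_rc_22_4 lc_d_rc_27_2 lc_d_rc_12_5 lc_d_rc_22_4 lc_d_rc_15_1 lc_d_rc_15_1 lc_d_rc_15_1 lc_d_Cert_tree lc_d_rc_15_1 lc_d_rc_15_1 lc_d_rc_17_2 lc_d_rc_15_1 lc_d_rc_23_2 lc_d_rc_15_1 lc_d_rc_22_6 lc_d_rc_8_1) (@D3.rec (fun _ => (Cert rels S Gen.d)) lc_d_rc_8_3 lc_d_rc_22_6 lc_d_Cert_tree lc_d_rc_27_10 lc_d_rc_16_0 lc_d_rc_17_2 lc_d_rc_22_4 lc_d_rc_8_3 lc_d_rc_8_3 lc_d_rc_15_1 lc_d_rc_22_2 lc_d_rc_16_4 lc_d_rc_25_2 lc_d_rc_8_1 lc_d_rc_8_3 lc_d_rc_15_1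 lc_d_rc_12_15 lc_d_rc_15_1 lc_d_rc_27_10 lc_d_rc_15_1 lc_d_rc_15_1 lc_d_rc_23_4 lc_d_rc_15_1 lc_d_rc_15_1 lc_d_rc_27_4 lc_d_rc_23_2 lc_d_rc_8_3 lc_d_rc_24_5 lc_d_rc_15_1 lc_d_rc_15_1 lc_d_rc_27_2 lc_d_rc_15_1 lc_d_rc_8_3 lc_d_rc_23_6 lc_d_rc_22_4 lc_d_rc_17_2 lc_d_rc_22_6 lc_d_rc_15_1 lc_d_rc_15_1 lc_d_rc_27_4 lc_d_rc_3_3 lc_d_rc_22_4 lc_d_rc_15_1 lc_d_rc_27_4 lc_d_rc_27_2 lc_d_rc_8_3 lc_d_rc_8_3 lc_d_rc_22_2 lc_d_rc_24_5 lc_d_rc_15_1 lc_d_rc_15_1 lc_d_rc_22_8 lc_d_rc_17_2 lc_d_rc_15_1 lc_d_rc_3_3 lc_d_rc_15_1 lc_d_rc_22_4 lc_d_rc_16_4 lc_d_rc_8_3 lc_d_rc_8_3 lc_d_rc_17_2 lc_d_rc_23_4) (@D3.rec (fun _ => (Cert rels S Gen.d)) lc_d_rc_15_1 lc_d_rc_25_6 lc_d_rc_24_0 lc_d_rc_23_4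 lc_d_rc_3_3 lc_d_rc_3_3 lc_d_rc_15_1 lc_d_rc_27_8 lc_d_rc_15_1 lc_d_rc_24_5 lc_d_rc_22_2 lc_d_rc_15_1 lc_d_rc_8_1 lc_d_rc_15_1 lc_d_rc_16_4 lc_d_rc_15_1 lc_d_rc_16_4 lc_d_rc_15_1 lc_d_rc_22_2 lc_d_rc_8_1 lc_d_rc_15_1 lc_d_rc_15_1 lc_d_rc_3_3 lc_d_rc_27_10 lc_d_rc_15_1 lc_d_rc_15_1 lc_d_Cert_tree lc_d_rc_15_1 lc_d_rc_23_6 lc_d_rc_27_10 lc_d_rc_15_1 lc_d_rc_8_3 lc_d_rc_24_5 lc_d_rc_16_4 lc_d_rc_12_1 lc_d_rc_22_4 lc_d_rc_3_3 lc_d_rc_15_1 lc_d_rc_25_6 lc_d_rc_15_1 lc_d_rc_15_1 lc_d_rc_15_1 lc_d_rc_15_1 lc_d_rc_22_6 lc_d_rc_17_2 lc_d_rc_24_5 lc_d_rc_17_2 lc_d_rc_15_1 lc_d_rc_8_3 lc_d_rc_15_1 lc_d_rc_23_2 lc_d_rc_15_1 lc_d_rc_23_6 lc_d_rc_23_6 lc_d_rc_15_1 lc_d_rc_17_2 lc_d_rc_27_2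 lc_d_rc_15_1 lc_d_rc_16_0 lc_d_rc_8_3 lc_d_rc_23_6 lc_d_rc_15_1) (@D3.rec (fun _ => (Cert rels S Gen.d)) lc_d_rc_27_2 lc_d_rc_15_1 lc_d_rc_15_1 lc_d_rc_15_1 lc_d_rc_15_1 lc_d_rc_27_2 lc_d_rc_12_1 lc_d_rc_27_4 lc_d_rc_15_1 lc_d_rc_15_1 lc_d_rc_16_2 lc_d_rc_15_1 lc_d_rc_27_10 lc_d_rc_15_1 lc_d_rc_27_8 lc_d_rc_12_1 lc_d_rc_15_1 lc_d_rc_24_5 lc_d_rc_27_4 lc_d_rc_15_1 lc_d_rc_15_1 lc_d_Cert_tree lc_d_rc_15_1 lc_d_rc_23_4 lc_d_rc_16_4 lc_d_rc_27_10 lc_d_rc_8_3 lc_d_rc_22_4 lc_d_rc_8_3 lc_d_rc_16_4 lc_d_rc_22_4 lc_d_rc_27_2 lc_d_rc_16_0 lc_d_rc_15_1 lc_d_rc_15_1 lc_d_rc_24_0 lc_d_Cert_tree lc_d_rc_15_1 lc_d_rc_22_4 lc_d_rc_16_4 lc_d_rc_15_1 lc_d_rc_15_1 lc_d_rc_27_4 lc_d_rc_23_4 lc_d_rc_23_6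 lc_d_rc_12_3 lc_d_rc_3_3 lc_d_rc_15_1 lc_d_rc_16_0 lc_d_rc_27_8 lc_d_rc_27_2 lc_d_rc_22_8 lc_d_rc_15_1 lc_d_rc_3_3 lc_d_rc_8_3 lc_d_rc_15_1 lc_d_rc_22_4 lc_d_rc_24_5 lc_d_rc_15_1 lc_d_rc_15_1 lc_d_rc_22_8 lc_d_rc_23_4) (@D3.rec (fun _ => (Cert rels S Gen.d)) lc_d_rc_15_1 lc_d_rc_27_2 lc_d_rc_15_1 lc_d_rc_27_2 lc_d_rc_16_4 lc_d_rc_15_1 lc_d_rc_15_1 lc_d_rc_15_1 lc_d_rc_27_4 lc_d_rc_15_1 lc_d_rc_17_2 lc_d_rc_22_4 lc_d_rc_22_4 lc_d_rc_15_1 lc_d_rc_24_0 lc_d_rc_15_1 lc_d_rc_8_3 lc_d_rc_15_1 lc_d_rc_8_1 lc_d_rc_15_1 lc_d_rc_15_1 lc_d_rc_22_8 lc_d_rc_16_4 lc_d_rc_17_2 lc_d_rc_3_3 lc_d_rc_15_1 lc_d_rc_12_1 lc_d_rc_15_1 lc_d_rc_23_4 lc_d_rc_12_1 lc_d_rc_17_2 lc_d_rc_15_1 lc_d_rc_24_0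 lc_d_rc_22_8 lc_d_rc_22_8 lc_d_rc_15_1 lc_d_rc_15_1 lc_d_rc_8_1 lc_d_rc_15_1 lc_d_Cert_tree lc_d_rc_23_4 lc_d_rc_23_4 lc_d_rc_8_3 lc_d_rc_27_2 lc_d_rc_15_1 lc_d_rc_27_2 lc_d_rc_15_1 lc_d_rc_17_2 lc_d_rc_15_1 lc_d_rc_27_2 lc_d_rc_15_1 lc_d_rc_27_10 lc_d_rc_22_2 lc_d_rc_17_2 lc_d_rc_22_2 lc_d_rc_16_2 lc_d_rc_16_2 lc_d_rc_17_2 lc_d_rc_8_3 lc_d_rc_16_4 lc_d_rc_8_3 lc_d_rc_23_2) (@D3.rec (fun _ => (Cert rels S Gen.d)) lc_d_rc_16_4 lc_d_rc_22_2 lc_d_rc_23_2 lc_d_rc_15_1 lc_d_rc_27_8 lc_d_rc_15_1 lc_d_rc_16_4 lc_d_rc_22_4 lc_d_rc_8_1 lc_d_rc_8_3 lc_d_rc_22_4 lc_d_rc_16_4 lc_d_rc_8_3 lc_d_Cert_tree lc_d_rc_8_3 lc_d_rc_17_2 lc_d_rc_15_1 lc_d_rc_27_2 lc_d_rc_15_1 lc_d_rc_22_4 lc_d_rc_23_6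 lc_d_rc_15_1 lc_d_rc_27_4 lc_d_rc_16_2 lc_d_rc_15_1 lc_d_rc_23_2 lc_d_rc_8_3 lc_d_rc_23_6 lc_d_rc_12_1 lc_d_rc_15_1 lc_d_rc_27_2 lc_d_rc_15_1 lc_d_rc_27_8 lc_d_rc_27_4 lc_d_rc_27_8 lc_d_rc_22_4 lc_d_rc_16_4 lc_d_rc_15_1 lc_d_rc_22_4 lc_d_rc_22_4 lc_d_rc_27_4 lc_d_rc_16_4 lc_d_rc_8_1 lc_d_rc_15_1 lc_d_rc_17_2 lc_d_rc_16_4 lc_d_rc_8_1 lc_d_rc_15_1 lc_d_rc_8_1 lc_d_rc_15_1 lc_d_rc_22_6 lc_d_rc_22_2 lc_d_rc_8_3 lc_d_rc_17_0 lc_d_rc_16_2 lc_d_rc_16_2 lc_d_rc_15_1 lc_d_rc_8_3 lc_d_rc_22_8 lc_d_rc_3_1 lc_d_rc_15_1 lc_d_rc_16_4) (@D3.rec (fun _ => (Cert rels S Gen.d)) lc_d_rc_22_6 lc_d_rc_16_2 lc_d_rc_3_3 lc_d_rc_24_5 lc_d_rc_22_6 lc_d_rc_22_6 lc_d_rc_15_1 lc_d_rc_15_1 lc_d_rc_15_1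 lc_d_rc_17_2 lc_d_rc_24_5 lc_d_rc_3_1 lc_d_Cert_tree lc_d_rc_22_8 lc_d_rc_16_4 lc_d_rc_15_1 lc_d_rc_17_2 lc_d_rc_15_1 lc_d_rc_3_3 lc_d_rc_15_1 lc_d_rc_8_3 lc_d_rc_17_2 lc_d_Cert_tree lc_d_rc_15_1 lc_d_rc_17_2 lc_d_rc_8_1 lc_d_rc_8_3 lc_d_rc_22_6 lc_d_rc_22_4 lc_d_rc_22_4 lc_d_rc_15_1 lc_d_rc_8_3 lc_d_rc_22_2 lc_d_rc_3_1 lc_d_rc_17_0 lc_d_rc_23_2 lc_d_rc_15_1 lc_d_rc_8_3 lc_d_rc_15_1 lc_d_rc_3_3 lc_d_rc_15_1 lc_d_rc_27_10 lc_d_rc_15_1 lc_d_rc_15_1 lc_d_rc_8_3 lc_d_rc_27_4 lc_d_rc_17_2 lc_d_rc_15_1 lc_d_rc_8_3 lc_d_rc_8_1 lc_d_rc_3_3 lc_d_rc_15_1 lc_d_rc_12_15 lc_d_rc_15_1 lc_d_rc_8_3 lc_d_rc_22_4 lc_d_rc_27_2 lc_d_rc_22_2 lc_d_rc_15_1 lc_d_rc_27_2 lc_d_rc_24_0 lc_d_rc_15_1) (@D3.rec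 (fun _ => (Cert rels S Gen.d)) lc_d_rc_23_6 lc_d_Cert_tree lc_d_rc_8_1 lc_d_rc_15_1 lc_d_rc_15_1 lc_d_Cert_tree lc_d_rc_27_2 lc_d_rc_15_1 lc_d_rc_8_3 lc_d_rc_8_1 lc_d_rc_15_1 lc_d_rc_16_4 lc_d_rc_23_6 lc_d_rc_8_1 lc_d_rc_15_1 lc_d_Cert_tree lc_d_rc_16_2 lc_d_rc_8_1 lc_d_rc_15_1 lc_d_rc_22_4 lc_d_rc_3_3 lc_d_rc_8_1 lc_d_rc_15_1 lc_d_rc_15_1 lc_d_rc_15_1 lc_d_rc_23_6 lc_d_rc_15_1 lc_d_rc_27_2 lc_d_rc_8_1 lc_d_rc_15_1 lc_d_rc_27_8 lc_d_rc_17_0 lc_d_rc_22_4 lc_d_rc_25_2 lc_d_rc_16_4 lc_d_rc_8_1 lc_d_rc_15_1 lc_d_rc_12_13 lc_d_rc_16_4 lc_d_rc_8_1 lc_d_rc_8_1 lc_d_rc_22_6 lc_d_rc_27_2 lc_d_rc_15_1 lc_d_rc_8_3 lc_d_rc_27_2 lc_d_Cert_tree lc_d_rc_16_2 lc_d_rc_15_1 lc_d_rc_27_10 lc_d_rc_12_1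 lc_d_Cert_tree lc_d_rc_15_1 lc_d_rc_15_1 lc_d_rc_27_4 lc_d_rc_27_4 lc_d_rc_16_4 lc_d_rc_15_1 lc_d_Cert_tree lc_d_rc_17_2 lc_d_rc_27_10 lc_d_rc_15_1) (@D3.rec (fun _ => (Cert rels S Gen.d)) lc_d_rc_8_3 lc_d_rc_3_3 lc_d_rc_8_3 lc_d_rc_16_4 lc_d_rc_15_1 lc_d_Cert_tree lc_d_rc_15_1 lc_d_rc_15_1 lc_d_rc_15_1 lc_d_rc_8_3 lc_d_rc_16_4 lc_d_rc_23_2 lc_d_rc_16_2 lc_d_Cert_tree lc_d_rc_15_1 lc_d_rc_24_5 lc_d_rc_15_1 lc_d_rc_8_1 lc_d_rc_25_6 lc_d_rc_16_0 lc_d_rc_15_1 lc_d_rc_8_3 lc_d_rc_24_5 lc_d_rc_23_8 lc_d_rc_27_2 lc_d_rc_15_1 lc_d_rc_25_2 lc_d_rc_24_0 lc_d_rc_3_1 lc_d_rc_22_2 lc_d_rc_23_8 lc_d_rc_3_3 lc_d_rc_8_3 lc_d_rc_27_2 lc_d_rc_15_1 lc_d_rc_22_8 lc_d_rc_16_4 lc_d_rc_8_3 lc_d_Cert_tree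 lc_d_rc_17_2 lc_d_rc_27_2 lc_d_rc_15_1 lc_d_rc_16_4 lc_d_rc_8_1 lc_d_rc_15_1 lc_d_rc_15_1 lc_d_rc_27_4 lc_d_rc_15_1 lc_d_rc_25_6 lc_d_rc_15_1 lc_d_rc_15_1 lc_d_rc_23_8 lc_d_rc_24_5 lc_d_rc_15_1 lc_d_rc_15_1 lc_d_rc_15_1 lc_d_rc_23_6 lc_d_rc_27_10 lc_d_rc_16_0 lc_d_rc_3_3 lc_d_rc_24_0 lc_d_rc_3_3) (@D3.rec (fun _ => (Cert rels S Gen.d)) lc_d_rc_15_1 lc_d_rc_22_8 lc_d_rc_8_3 lc_d_rc_15_1 lc_d_Cert_tree lc_d_rc_15_1 lc_d_rc_15_1 lc_d_rc_3_3 lc_d_rc_25_6 lc_d_rc_8_3 lc_d_rc_8_3 lc_d_rc_16_2 lc_d_rc_15_1 lc_d_rc_12_15 lc_d_rc_15_1 lc_d_rc_15_1 lc_d_rc_27_10 lc_d_rc_8_3 lc_d_rc_15_1 lc_d_rc_17_0 lc_d_rc_16_0 lc_d_rc_15_1 lc_d_rc_22_4 lc_d_rc_15_1 lc_d_rc_27_4 lc_d_rc_15_1 lc_d_rc_16_4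 lc_d_rc_24_5 lc_d_rc_16_4 lc_d_rc_15_1 lc_d_rc_15_1 lc_d_rc_8_3 lc_d_rc_24_5 lc_d_rc_16_0 lc_d_rc_27_10 lc_d_rc_3_3 lc_d_rc_15_1 lc_d_rc_23_8 lc_d_rc_23_2 lc_d_rc_15_1 lc_d_rc_15_1 lc_d_rc_3_3 lc_d_rc_27_2 lc_d_rc_15_1 lc_d_rc_27_2 lc_d_rc_15_1 lc_d_rc_17_2 lc_d_rc_15_1 lc_d_rc_15_1 lc_d_rc_15_1 lc_d_rc_23_2 lc_d_rc_15_1 lc_d_rc_12_15 lc_d_rc_22_2 lc_d_rc_15_1 lc_d_rc_25_10 lc_d_rc_15_1 lc_d_rc_22_6 lc_d_rc_27_4 lc_d_rc_23_8 lc_d_rc_16_4 lc_d_rc_15_1) (@D3.rec (fun _ => (Cert rels S Gen.d)) lc_d_rc_15_1 lc_d_rc_27_10 lc_d_rc_16_2 lc_d_rc_24_5 lc_d_rc_16_0 lc_d_rc_15_1 lc_d_rc_22_4 lc_d_rc_27_10 lc_d_rc_15_1 lc_d_rc_23_2 lc_d_rc_15_1 lc_d_rc_22_2 lc_d_rc_3_3 lc_d_rc_15_1 lc_d_rc_23_2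 lc_d_rc_15_1 lc_d_rc_25_6 lc_d_rc_27_8 lc_d_rc_17_2 lc_d_rc_15_1 lc_d_rc_12_15 lc_d_rc_15_1 lc_d_rc_15_1 lc_d_rc_23_6 lc_d_rc_16_2 lc_d_rc_12_15 lc_d_rc_8_1 lc_d_rc_16_2 lc_d_Cert_tree lc_d_rc_17_2 lc_d_rc_22_4 lc_d_rc_12_15 lc_d_rc_16_0 lc_d_rc_15_1 lc_d_rc_22_4 lc_d_rc_16_2 lc_d_rc_16_4 lc_d_rc_23_4 lc_d_rc_24_0 lc_d_rc_16_0 lc_d_rc_15_1 lc_d_rc_17_0 lc_d_rc_22_4 lc_d_rc_8_1 lc_d_rc_16_4 lc_d_rc_27_4 lc_d_rc_16_4 lc_d_rc_15_1 lc_d_rc_27_4 lc_d_rc_22_4 lc_d_rc_16_0 lc_d_rc_8_3 lc_d_rc_22_4 lc_d_rc_27_2 lc_d_rc_27_2 lc_d_rc_8_3 lc_d_rc_16_4 lc_d_rc_15_1 lc_d_rc_8_1 lc_d_rc_8_3 lc_d_rc_16_0 lc_d_rc_8_3) (@D3.rec (fun _ => (Cert rels S Gen.d)) lc_d_rc_15_1 lc_d_rc_27_4 lc_d_rc_22_2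 lc_d_rc_16_2 lc_d_rc_27_4 lc_d_rc_15_1 lc_d_rc_15_1 lc_d_rc_15_1 lc_d_rc_27_10 lc_d_rc_8_1 lc_d_rc_15_1 lc_d_rc_12_7 lc_d_rc_16_2 lc_d_rc_16_4 lc_d_rc_23_2 lc_d_rc_15_1 lc_d_rc_17_0 lc_d_rc_15_1 lc_d_rc_22_2 lc_d_rc_8_3 lc_d_rc_23_2 lc_d_rc_15_1 lc_d_rc_8_3 lc_d_rc_23_6 lc_d_rc_16_0 lc_d_rc_8_3 lc_d_rc_27_4 lc_d_rc_24_0 lc_d_rc_16_4 lc_d_rc_24_0 lc_d_rc_8_3 lc_d_rc_15_1 lc_d_rc_25_10 lc_d_rc_8_1 lc_d_rc_15_1 lc_d_rc_15_1 lc_d_rc_23_6 lc_d_rc_3_1 lc_d_rc_17_2 lc_d_rc_8_3 lc_d_rc_12_15 lc_d_rc_15_1 lc_d_rc_15_1 lc_d_rc_23_4 lc_d_rc_15_1 lc_d_rc_8_3 lc_d_rc_3_3 lc_d_rc_8_3 lc_d_rc_22_6 lc_d_rc_27_4 lc_d_rc_15_1 lc_d_rc_15_1 lc_d_rc_17_0 lc_d_rc_23_8 lc_d_rc_24_0 lc_d_rc_23_4 lc_d_rc_15_1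 lc_d_rc_12_15 lc_d_rc_15_1 lc_d_rc_15_1 lc_d_rc_22_6 lc_d_rc_15_1) (@D3.rec (fun _ => (Cert rels S Gen.d)) lc_d_rc_15_1 lc_d_rc_15_1 lc_d_rc_15_1 lc_d_rc_15_1 lc_d_rc_17_2 lc_d_rc_27_2 lc_d_rc_17_2 lc_d_rc_17_2 lc_d_rc_15_1 lc_d_rc_15_1 lc_d_rc_17_0 lc_d_rc_27_4 lc_d_rc_15_1 lc_d_rc_3_3 lc_d_rc_23_4 lc_d_rc_12_1 lc_d_rc_15_1 lc_d_rc_16_2 lc_d_rc_15_1 lc_d_rc_15_1 lc_d_rc_22_2 lc_d_rc_3_1 lc_d_rc_16_4 lc_d_rc_15_1 lc_d_rc_24_0 lc_d_rc_16_4 lc_d_rc_22_2 lc_d_rc_15_1 lc_d_rc_3_1 lc_d_rc_15_1 lc_d_rc_24_5 lc_d_rc_17_2 lc_d_rc_3_3 lc_d_rc_15_1 lc_d_rc_17_2 lc_d_rc_16_4 lc_d_rc_22_2 lc_d_rc_16_4 lc_d_rc_15_1 lc_d_rc_27_4 lc_d_rc_15_1 lc_d_rc_27_4 lc_d_rc_23_2 lc_d_rc_15_1 lc_d_rc_3_1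 lc_d_rc_15_1 lc_d_rc_27_4 lc_d_rc_16_2 lc_d_Cert_tree lc_d_rc_17_2 lc_d_rc_23_4 lc_d_rc_15_1 lc_d_rc_22_6 lc_d_rc_23_4 lc_d_rc_8_1 lc_d_rc_16_4 lc_d_rc_16_2 lc_d_rc_15_1 lc_d_rc_27_4 lc_d_rc_8_3 lc_d_rc_16_4 lc_d_rc_8_3) (@D3.rec (fun _ => (Cert rels S Gen.d)) lc_d_rc_22_4 lc_d_rc_22_6 lc_d_rc_23_2 lc_d_rc_24_0 lc_d_rc_15_1 lc_d_rc_15_1 lc_d_rc_12_1 lc_d_rc_15_1 lc_d_rc_8_3 lc_d_rc_22_4 lc_d_rc_15_1 lc_d_rc_8_3 lc_d_rc_15_1 lc_d_rc_15_1 lc_d_rc_8_3 lc_d_rc_16_4 lc_d_rc_15_1 lc_d_rc_22_6 lc_d_rc_27_4 lc_d_rc_15_1 lc_d_rc_23_2 lc_d_rc_8_3 lc_d_Cert_tree lc_d_rc_15_1 lc_d_rc_15_1 lc_d_rc_3_3 lc_d_rc_8_3 lc_d_rc_23_6 lc_d_rc_27_4 lc_d_rc_15_1 lc_d_rc_16_2 lc_d_rc_15_1 lc_d_rc_8_3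 lc_d_rc_23_2 lc_d_rc_22_4 lc_d_rc_15_1 lc_d_rc_25_2 lc_d_rc_27_4 lc_d_rc_15_1 lc_d_rc_22_8 lc_d_rc_12_15 lc_d_rc_22_4 lc_d_rc_22_4 lc_d_rc_8_3 lc_d_rc_24_0 lc_d_rc_27_4 lc_d_rc_3_3 lc_d_rc_23_8 lc_d_rc_12_3 lc_d_rc_8_3 lc_d_rc_27_2 lc_d_rc_25_10 lc_d_rc_16_2 lc_d_rc_22_8 lc_d_rc_24_0 lc_d_rc_23_4 lc_d_rc_15_1 lc_d_rc_8_3 lc_d_rc_16_4 lc_d_rc_24_5 lc_d_rc_17_2 lc_d_rc_3_1) (@D3.rec (fun _ => (Cert rels S Gen.d)) lc_d_Cert_tree lc_d_rc_8_3 lc_d_rc_8_3 lc_d_rc_23_6 lc_d_rc_8_3 lc_d_rc_23_8 lc_d_rc_15_1 lc_d_rc_27_10 lc_d_Cert_tree lc_d_Cert_tree lc_d_rc_15_1 lc_d_rc_22_4 lc_d_rc_22_8 lc_d_rc_24_0 lc_d_rc_15_1 lc_d_rc_15_1 lc_d_Cert_tree lc_d_rc_22_2 lc_d_rc_15_1 lc_d_rc_15_1 lc_d_rc_22_8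 lc_d_rc_16_0 lc_d_rc_16_0 lc_d_Cert_tree lc_d_rc_15_1 lc_d_rc_15_1 lc_d_rc_8_3 lc_d_rc_15_1 lc_d_Cert_tree lc_d_rc_8_1 lc_d_rc_15_1 lc_d_rc_23_4 lc_d_rc_23_2 lc_d_rc_24_0 lc_d_rc_23_8 lc_d_rc_27_10 lc_d_rc_23_2 lc_d_rc_16_0 lc_d_rc_17_2 lc_d_rc_12_9 lc_d_rc_8_1 lc_d_rc_25_2 lc_d_rc_25_18 lc_d_rc_23_8 lc_d_rc_15_1 lc_d_rc_15_1 lc_d_rc_17_2 lc_d_rc_15_1 lc_d_rc_15_1 lc_d_rc_15_1 lc_d_Cert_tree lc_d_rc_8_3 lc_d_rc_27_2 lc_d_rc_15_1 lc_d_rc_8_3 lc_d_rc_24_5 lc_d_rc_16_4 lc_d_rc_27_10 lc_d_rc_17_2 lc_d_rc_27_4 lc_d_rc_24_5 lc_d_rc_8_1) (@D3.rec (fun _ => (Cert rels S Gen.d)) lc_d_rc_27_4 lc_d_rc_15_1 lc_d_rc_15_1 lc_d_rc_15_1 lc_d_rc_15_1 lc_d_rc_25_6 lc_d_rc_15_1 lc_d_rc_22_4 lc_d_rc_15_1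 lc_d_rc_15_1 lc_d_rc_27_4 lc_d_Cert_tree lc_d_rc_22_2 lc_d_rc_24_0 lc_d_Cert_tree lc_d_rc_22_2 lc_d_rc_15_1 lc_d_rc_12_3 lc_d_rc_3_3 lc_d_Cert_tree lc_d_rc_15_1 lc_d_rc_27_2 lc_d_rc_3_3 lc_d_rc_15_1 lc_d_rc_15_1 lc_d_rc_23_8 lc_d_rc_17_2 lc_d_rc_23_4 lc_d_rc_25_6 lc_d_rc_3_3 lc_d_rc_3_3 lc_d_rc_22_6 lc_d_rc_8_3 lc_d_rc_8_3 lc_d_rc_8_3 lc_d_rc_15_1 lc_d_rc_15_1 lc_d_rc_8_3 lc_d_rc_15_1 lc_d_rc_24_0 lc_d_rc_22_2 lc_d_Cert_tree lc_d_Cert_tree lc_d_rc_3_3 lc_d_rc_17_0 lc_d_rc_17_2 lc_d_rc_27_4 lc_d_rc_15_1 lc_d_rc_27_4 lc_d_rc_16_2 lc_d_rc_23_8 lc_d_rc_22_2 lc_d_rc_22_6 lc_d_rc_15_1 lc_d_rc_24_5 lc_d_rc_27_4 lc_d_rc_3_1 lc_d_rc_16_2 lc_d_rc_15_1 lc_d_rc_24_0 lc_d_rc_15_1 lc_d_rc_22_2)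 (@D3.rec (fun _ => (Cert rels S Gen.d)) lc_d_rc_15_1 lc_d_rc_23_4 lc_d_rc_24_5 lc_d_rc_22_4 lc_d_rc_15_1 lc_d_rc_27_2 lc_d_rc_23_6 lc_d_rc_15_1 lc_d_rc_27_4 lc_d_rc_16_2 lc_d_rc_8_3 lc_d_rc_17_2 lc_d_rc_12_15 lc_d_rc_3_3 lc_d_rc_3_1 lc_d_rc_15_1 lc_d_rc_8_3 lc_d_rc_8_3 lc_d_rc_8_3 lc_d_rc_27_2 lc_d_rc_22_4 lc_d_rc_16_0 lc_d_rc_8_1 lc_d_rc_15_1 lc_d_rc_8_1 lc_d_rc_15_1 lc_d_Cert_tree lc_d_rc_15_1 lc_d_rc_15_1 lc_d_rc_8_1 lc_d_rc_3_3 lc_d_rc_24_5 lc_d_rc_27_8 lc_d_rc_3_3 lc_d_rc_22_4 lc_d_rc_24_5 lc_d_rc_15_1 lc_d_rc_16_2 lc_d_rc_24_0 lc_d_rc_15_1 lc_d_rc_8_1 lc_d_rc_24_5 lc_d_rc_15_1 lc_d_rc_8_3 lc_d_rc_25_6 lc_d_rc_25_18 lc_d_rc_8_3 lc_d_rc_22_2 lc_d_rc_22_6 lc_d_rc_27_10 lc_d_rc_15_1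 lc_d_rc_15_1 lc_d_rc_12_1 lc_d_rc_15_1 lc_d_rc_17_2 lc_d_rc_22_6 lc_d_rc_8_3 lc_d_rc_16_2 lc_d_rc_23_4 lc_d_rc_15_1 lc_d_rc_15_1 lc_d_rc_22_6) (@D3.rec (fun _ => (Cert rels S Gen.d)) lc_d_rc_27_10 lc_d_rc_8_3 lc_d_rc_15_1 lc_d_rc_3_1 lc_d_rc_8_3 lc_d_rc_16_4 lc_d_rc_3_1 lc_d_rc_15_1 lc_d_rc_23_4 lc_d_rc_15_1 lc_d_rc_17_2 lc_d_rc_24_0 lc_d_rc_23_2 lc_d_rc_23_6 lc_d_rc_23_4 lc_d_rc_16_0 lc_d_rc_17_2 lc_d_rc_27_4 lc_d_rc_15_1 lc_d_rc_22_2 lc_d_rc_15_1 lc_d_rc_22_4 lc_d_Cert_tree lc_d_rc_15_1 lc_d_rc_23_2 lc_d_rc_8_1 lc_d_rc_15_1 lc_d_rc_8_3 lc_d_rc_22_2 lc_d_rc_22_4 lc_d_rc_24_5 lc_d_rc_22_8 lc_d_rc_22_4 lc_d_rc_24_5 lc_d_rc_25_10 lc_d_rc_23_2 lc_d_rc_24_0 lc_d_rc_27_8 lc_d_rc_15_1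 lc_d_rc_8_3 lc_d_rc_15_1 lc_d_rc_15_1 lc_d_rc_22_6 lc_d_rc_23_4 lc_d_rc_15_1 lc_d_rc_8_3 lc_d_rc_16_4 lc_d_rc_3_3 lc_d_rc_24_0 lc_d_rc_15_1 lc_d_rc_16_2 lc_d_rc_23_6 lc_d_rc_17_2 lc_d_rc_16_4 lc_d_rc_16_4 lc_d_rc_22_4 lc_d_rc_16_4 lc_d_rc_8_1 lc_d_rc_15_1 lc_d_rc_15_1 lc_d_rc_27_2 lc_d_rc_15_1) (@D3.rec (fun _ => (Cert rels S Gen.d)) lc_d_rc_15_1 lc_d_rc_15_1 lc_d_rc_23_2 lc_d_rc_23_2 lc_d_rc_8_1 lc_d_rc_23_4 lc_d_rc_17_2 lc_d_rc_8_1 lc_d_rc_8_3 lc_d_rc_27_2 lc_d_rc_25_14 lc_d_rc_15_1 lc_d_rc_3_1 lc_d_rc_22_8 lc_d_rc_24_0 lc_d_rc_27_8 lc_d_rc_23_4 lc_d_rc_15_1 lc_d_rc_15_1 lc_d_rc_16_2 lc_d_rc_15_1 lc_d_rc_8_1 lc_d_rc_15_1 lc_d_rc_15_1 lc_d_rc_22_4 lc_d_rc_8_1 lc_d_rc_15_1 lc_d_rc_22_8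 lc_d_rc_22_4 lc_d_rc_27_2 lc_d_rc_16_4 lc_d_rc_15_1 lc_d_rc_17_2 lc_d_rc_8_3 lc_d_rc_24_0 lc_d_rc_15_1 lc_d_rc_8_3 lc_d_rc_15_1 lc_d_rc_15_1 lc_d_rc_25_2 lc_d_rc_27_8 lc_d_rc_22_4 lc_d_rc_24_5 lc_d_rc_27_4 lc_d_rc_8_3 lc_d_rc_12_1 lc_d_rc_22_8 lc_d_rc_22_4 lc_d_rc_16_4 lc_d_rc_17_2 lc_d_rc_8_3 lc_d_rc_15_1 lc_d_rc_16_4 lc_d_rc_27_10 lc_d_rc_8_3 lc_d_rc_8_3 lc_d_rc_27_8 lc_d_rc_16_4 lc_d_rc_15_1 lc_d_rc_27_10 lc_d_rc_8_3 lc_d_rc_24_5) (@D3.rec (fun _ => (Cert rels S Gen.d)) lc_d_rc_23_4 lc_d_rc_8_3 lc_d_rc_15_1 lc_d_rc_27_8 lc_d_rc_17_2 lc_d_rc_15_1 lc_d_rc_22_4 lc_d_rc_23_4 lc_d_rc_17_2 lc_d_rc_23_2 lc_d_rc_22_2 lc_d_rc_16_4 lc_d_rc_24_0 lc_d_rc_15_1 lc_d_rc_8_3 lc_d_rc_22_4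 lc_d_rc_23_4 lc_d_rc_8_1 lc_d_rc_17_2 lc_d_rc_22_2 lc_d_rc_22_6 lc_d_rc_17_2 lc_d_rc_8_1 lc_d_rc_27_4 lc_d_rc_8_3 lc_d_rc_8_1 lc_d_rc_27_4 lc_d_rc_24_5 lc_d_rc_15_1 lc_d_rc_27_2 lc_d_rc_15_1 lc_d_Cert_tree lc_d_rc_15_1 lc_d_rc_27_4 lc_d_rc_16_2 lc_d_rc_24_5 lc_d_rc_8_3 lc_d_rc_22_4 lc_d_rc_23_6 lc_d_rc_15_1 lc_d_rc_22_6 lc_d_rc_15_1 lc_d_rc_15_1 lc_d_rc_8_1 lc_d_rc_15_1 lc_d_rc_15_1 lc_d_rc_27_4 lc_d_rc_24_5 lc_d_rc_12_5 lc_d_rc_22_4 lc_d_rc_8_1 lc_d_rc_8_3 lc_d_rc_15_1 lc_d_rc_8_1 lc_d_rc_15_1 lc_d_rc_23_6 lc_d_rc_23_6 lc_d_rc_23_2 lc_d_rc_12_15 lc_d_rc_15_1 lc_d_rc_27_4 lc_d_rc_3_1) (@D3.rec (fun _ => (Cert rels S Gen.d)) lc_d_rc_22_6 lc_d_rc_15_1 lc_d_rc_8_3 lc_d_rc_15_1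 lc_d_rc_15_1 lc_d_rc_8_1 lc_d_rc_15_1 lc_d_rc_16_4 lc_d_rc_15_1 lc_d_rc_23_6 lc_d_rc_22_2 lc_d_rc_22_2 lc_d_rc_15_1 lc_d_rc_16_2 lc_d_rc_22_6 lc_d_rc_15_1 lc_d_rc_23_2 lc_d_rc_15_1 lc_d_rc_27_4 lc_d_rc_3_3 lc_d_rc_27_8 lc_d_rc_24_0 lc_d_rc_23_4 lc_d_rc_17_2 lc_d_rc_3_3 lc_d_rc_24_5 lc_d_rc_8_3 lc_d_rc_22_4 lc_d_rc_16_2 lc_d_rc_23_4 lc_d_rc_15_1 lc_d_rc_23_8 lc_d_Cert_tree lc_d_rc_15_1 lc_d_rc_15_1 lc_d_rc_8_3 lc_d_rc_22_8 lc_d_rc_16_4 lc_d_rc_27_2 lc_d_rc_23_2 lc_d_rc_8_3 lc_d_rc_8_1 lc_d_rc_22_2 lc_d_rc_8_3 lc_d_Cert_tree lc_d_rc_22_4 lc_d_rc_24_0 lc_d_rc_15_1 lc_d_rc_8_3 lc_d_rc_15_1 lc_d_rc_27_10 lc_d_rc_16_2 lc_d_rc_15_1 lc_d_rc_15_1 lc_d_rc_16_4 lc_d_rc_8_1 lc_d_rc_16_2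 lc_d_rc_16_4 lc_d_rc_23_4 lc_d_rc_27_2 lc_d_rc_8_1 lc_d_rc_23_4) (@D3.rec (fun _ => (Cert rels S Gen.d)) lc_d_rc_16_0 lc_d_rc_15_1 lc_d_rc_8_3 lc_d_rc_23_2 lc_d_rc_8_1 lc_d_rc_8_3 lc_d_rc_15_1 lc_d_Cert_tree lc_d_rc_15_1 lc_d_rc_23_4 lc_d_rc_15_1 lc_d_rc_15_1 lc_d_rc_23_4 lc_d_rc_16_0 lc_d_rc_15_1 lc_d_rc_27_2 lc_d_rc_17_0 lc_d_Cert_tree lc_d_rc_25_10 lc_d_rc_17_0 lc_d_rc_8_3 lc_d_rc_8_3 lc_d_rc_15_1 lc_d_rc_17_0 lc_d_rc_15_1 lc_d_rc_15_1 lc_d_rc_17_2 lc_d_rc_22_4 lc_d_rc_15_1 lc_d_rc_8_3 lc_d_rc_15_1 lc_d_rc_27_2 lc_d_rc_8_3 lc_d_rc_16_2 lc_d_rc_8_3 lc_d_rc_15_1 lc_d_rc_27_2 lc_d_rc_16_4 lc_d_rc_15_1 lc_d_rc_27_8 lc_d_rc_23_4 lc_d_rc_17_2 lc_d_rc_23_4 lc_d_rc_22_4 lc_d_rc_16_4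 lc_d_rc_15_1 lc_d_rc_8_3 lc_d_rc_16_4 lc_d_rc_16_4 lc_d_rc_15_1 lc_d_rc_15_1 lc_d_rc_8_3 lc_d_rc_27_4 lc_d_rc_27_8 lc_d_rc_23_6 lc_d_rc_17_2 lc_d_rc_17_2 lc_d_rc_16_4 lc_d_rc_27_10 lc_d_rc_24_0 lc_d_rc_22_2 lc_d_Cert_tree) (@D3.rec (fun _ => (Cert rels S Gen.d)) lc_d_rc_24_0 lc_d_rc_8_3 lc_d_rc_25_18 lc_d_rc_15_1 lc_d_rc_3_3 lc_d_rc_25_6 lc_d_rc_17_2 lc_d_rc_27_10 lc_d_rc_24_0 lc_d_rc_27_2 lc_d_rc_16_4 lc_d_rc_8_3 lc_d_rc_15_1 lc_d_rc_27_2 lc_d_rc_15_1 lc_d_rc_15_1 lc_d_rc_27_4 lc_d_rc_15_1 lc_d_rc_8_3 lc_d_rc_15_1 lc_d_rc_15_1 lc_d_Cert_tree lc_d_rc_17_2 lc_d_rc_23_6 lc_d_rc_8_3 lc_d_rc_27_8 lc_d_rc_22_8 lc_d_rc_16_0 lc_d_rc_22_8 lc_d_rc_3_3 lc_d_rc_22_2 lc_d_rc_16_2 lc_d_rc_3_3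 lc_d_rc_3_3 lc_d_rc_8_1 lc_d_rc_8_1 lc_d_rc_15_1 lc_d_rc_8_1 lc_d_rc_8_1 lc_d_rc_8_3 lc_d_rc_16_4 lc_d_rc_12_15 lc_d_rc_15_1 lc_d_rc_27_4 lc_d_rc_15_1 lc_d_rc_22_8 lc_d_rc_23_4 lc_d_rc_27_8 lc_d_rc_16_4 lc_d_rc_16_2 lc_d_rc_27_10 lc_d_rc_15_1 lc_d_rc_16_0 lc_d_rc_15_1 lc_d_rc_8_3 lc_d_rc_23_2 lc_d_rc_23_4 lc_d_rc_16_0 lc_d_rc_16_4 lc_d_rc_15_1 lc_d_rc_23_2 lc_d_rc_8_3) (@D3.rec (fun _ => (Cert rels S Gen.d)) lc_d_rc_27_4 lc_d_rc_16_2 lc_d_rc_22_4 lc_d_rc_23_2 lc_d_Cert_tree lc_d_rc_27_4 lc_d_rc_8_3 lc_d_Cert_tree lc_d_rc_15_1 lc_d_rc_8_1 lc_d_rc_24_0 lc_d_rc_8_3 lc_d_rc_23_4 lc_d_rc_16_0 lc_d_rc_15_1 lc_d_rc_8_3 lc_d_rc_27_8 lc_d_Cert_tree lc_d_rc_15_1 lc_d_Cert_tree lc_d_rc_27_2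 lc_d_Cert_tree lc_d_rc_15_1 lc_d_rc_8_3 lc_d_rc_24_5 lc_d_rc_23_2 lc_d_Cert_tree lc_d_Cert_tree lc_d_Cert_tree lc_d_rc_15_1 lc_d_rc_16_0 lc_d_rc_23_8 lc_d_rc_15_1 lc_d_rc_23_4 lc_d_rc_15_1 lc_d_rc_12_15 lc_d_rc_15_1 lc_d_rc_27_8 lc_d_rc_15_1 lc_d_rc_24_5 lc_d_rc_17_2 lc_d_Cert_tree lc_d_rc_15_1 lc_d_Cert_tree lc_d_rc_15_1 lc_d_rc_3_3 lc_d_rc_24_0 lc_d_rc_3_3 lc_d_Cert_tree lc_d_rc_8_1 lc_d_rc_15_1 lc_d_rc_15_1 lc_d_rc_8_3 lc_d_rc_8_3 lc_d_rc_24_5 lc_d_rc_8_3 lc_d_rc_3_3 lc_d_rc_23_2 lc_d_rc_27_10 lc_d_rc_25_14 lc_d_rc_15_1 lc_d_rc_8_3) (@D3.rec (fun _ => (Cert rels S Gen.d)) lc_d_rc_15_1 lc_d_Cert_tree lc_d_rc_16_4 lc_d_rc_25_6 lc_d_rc_23_4 lc_d_rc_17_2 lc_d_rc_16_4 lc_d_rc_17_2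 lc_d_Cert_tree lc_d_rc_8_3 lc_d_Cert_tree lc_d_rc_15_1 lc_d_rc_22_6 lc_d_Cert_tree lc_d_rc_8_1 lc_d_rc_27_8 lc_d_rc_23_2 lc_d_rc_15_1 lc_d_rc_22_2 lc_d_Cert_tree lc_d_rc_15_1 lc_d_rc_12_1 lc_d_rc_27_4 lc_d_rc_27_10 lc_d_rc_15_1 lc_d_rc_16_4 lc_d_rc_23_4 lc_d_rc_23_4 lc_d_rc_15_1 lc_d_Cert_tree lc_d_rc_15_1 lc_d_Cert_tree lc_d_rc_15_1 lc_d_rc_15_1 lc_d_rc_15_1 lc_d_rc_12_9 lc_d_rc_8_1 lc_d_rc_15_1 lc_d_rc_22_2 lc_d_rc_27_4 lc_d_rc_27_8 lc_d_rc_15_1 lc_d_rc_15_1 lc_d_rc_22_8 lc_d_rc_16_4 lc_d_rc_15_1 lc_d_Cert_tree lc_d_Cert_tree lc_d_rc_24_5 lc_d_rc_16_4 lc_d_rc_15_1 lc_d_rc_3_3 lc_d_rc_8_1 lc_d_rc_16_2 lc_d_rc_23_4 lc_d_rc_24_5 lc_d_rc_27_10 lc_d_rc_15_1 lc_d_rc_22_2 lc_d_Cert_tree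 lc_d_rc_15_1 lc_d_rc_15_1) (@D3.rec (fun _ => (Cert rels S Gen.d)) lc_d_rc_15_1 lc_d_rc_8_3 lc_d_rc_23_4 lc_d_rc_3_1 lc_d_rc_15_1 lc_d_rc_16_2 lc_d_rc_15_1 lc_d_rc_22_2 lc_d_rc_23_2 lc_d_rc_23_8 lc_d_rc_24_0 lc_d_Cert_tree lc_d_rc_15_1 lc_d_rc_3_3 lc_d_rc_15_1 lc_d_rc_27_4 lc_d_rc_8_1 lc_d_rc_15_1 lc_d_rc_16_0 lc_d_rc_15_1 lc_d_rc_27_2 lc_d_rc_27_4 lc_d_rc_15_1 lc_d_Cert_tree lc_d_rc_22_8 lc_d_rc_23_4 lc_d_rc_15_1 lc_d_rc_22_2 lc_d_rc_23_4 lc_d_rc_16_2 lc_d_rc_24_0 lc_d_rc_8_3 lc_d_rc_24_0 lc_d_rc_8_3 lc_d_rc_15_1 lc_d_rc_27_4 lc_d_rc_24_0 lc_d_rc_15_1 lc_d_rc_8_3 lc_d_rc_22_8 lc_d_rc_23_8 lc_d_rc_23_2 lc_d_rc_15_1 lc_d_rc_3_3 lc_d_rc_22_4 lc_d_Cert_tree lc_d_rc_8_3 lc_d_rc_8_3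 lc_d_rc_16_4 lc_d_Cert_tree lc_d_rc_3_3 lc_d_rc_16_0 lc_d_rc_15_1 lc_d_rc_15_1 lc_d_rc_25_2 lc_d_rc_16_4 lc_d_rc_15_1 lc_d_Cert_tree lc_d_rc_15_1 lc_d_rc_17_2 lc_d_rc_27_4 lc_d_rc_8_3) (@D3.rec (fun _ => (Cert rels S Gen.d)) lc_d_Cert_tree lc_d_rc_15_1 lc_d_rc_15_1 lc_d_rc_8_1 lc_d_rc_23_2 lc_d_rc_23_4 lc_d_rc_22_6 lc_d_rc_16_4 lc_d_rc_15_1 lc_d_rc_24_0 lc_d_Cert_tree lc_d_rc_15_1 lc_d_Cert_tree lc_d_rc_15_1 lc_d_Cert_tree lc_d_rc_15_1 lc_d_rc_15_1 lc_d_rc_15_1 lc_d_rc_22_6 lc_d_rc_8_1 lc_d_rc_15_1 lc_d_rc_27_2 lc_d_rc_15_1 lc_d_rc_3_3 lc_d_rc_15_1 lc_d_rc_8_1 lc_d_rc_15_1 lc_d_rc_15_1 lc_d_rc_25_6 lc_d_rc_3_1 lc_d_rc_15_1 lc_d_rc_15_1 lc_d_rc_23_2 lc_d_rc_3_3 lc_d_rc_3_3 lc_d_rc_15_1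 lc_d_rc_17_2 lc_d_rc_16_0 lc_d_rc_15_1 lc_d_rc_27_4 lc_d_rc_15_1 lc_d_rc_15_1 lc_d_rc_15_1 lc_d_rc_8_1 lc_d_rc_27_2 lc_d_rc_15_1 lc_d_rc_8_1 lc_d_rc_3_3 lc_d_rc_15_1 lc_d_rc_22_4 lc_d_rc_24_0 lc_d_rc_17_2 lc_d_Cert_tree lc_d_rc_22_2 lc_d_rc_22_2 lc_d_Cert_tree lc_d_rc_27_2 lc_d_rc_15_1 lc_d_rc_22_6 lc_d_rc_22_6 lc_d_rc_27_2 lc_d_rc_27_10) (@D3.rec (fun _ => (Cert rels S Gen.d)) lc_d_Cert_tree lc_d_rc_24_0 lc_d_rc_15_1 lc_d_rc_23_6 lc_d_rc_27_4 lc_d_Cert_tree lc_d_rc_22_8 lc_d_rc_16_4 lc_d_rc_23_2 lc_d_rc_27_4 lc_d_rc_25_14 lc_d_rc_22_2 lc_d_rc_3_3 lc_d_rc_24_5 lc_d_rc_8_3 lc_d_rc_15_1 lc_d_rc_15_1 lc_d_rc_12_3 lc_d_rc_24_5 lc_d_rc_8_3 lc_d_rc_24_5 lc_d_rc_23_4 lc_d_rc_24_0 lc_d_rc_15_1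 lc_d_rc_23_4 lc_d_rc_15_1 lc_d_rc_22_2 lc_d_rc_22_8 lc_d_rc_16_4 lc_d_rc_24_0 lc_d_rc_22_2 lc_d_rc_15_1 lc_d_rc_16_0 lc_d_rc_27_2 lc_d_rc_15_1 lc_d_rc_17_2 lc_d_Cert_tree lc_d_rc_15_1 lc_d_rc_8_3 lc_d_rc_15_1 lc_d_rc_8_1 lc_d_rc_8_3 lc_d_rc_3_3 lc_d_rc_16_4 lc_d_rc_15_1 lc_d_rc_24_0 lc_d_rc_15_1 lc_d_rc_22_4 lc_d_rc_24_5 lc_d_rc_23_8 lc_d_rc_17_2 lc_d_rc_12_1 lc_d_rc_15_1 lc_d_rc_12_1 lc_d_rc_15_1 lc_d_rc_22_6 lc_d_rc_27_8 lc_d_rc_23_2 lc_d_Cert_tree lc_d_rc_15_1 lc_d_rc_3_1 lc_d_rc_23_2) (@D3.rec (fun _ => (Cert rels S Gen.d)) lc_d_rc_27_4 lc_d_rc_15_1 lc_d_rc_8_1 lc_d_rc_16_4 lc_d_rc_15_1 lc_d_rc_17_2 lc_d_rc_23_2 lc_d_rc_16_4 lc_d_rc_17_2 lc_d_rc_3_3 lc_d_rc_16_4 lc_d_rc_27_10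 lc_d_rc_15_1 lc_d_rc_17_2 lc_d_rc_16_0 lc_d_rc_24_5 lc_d_rc_23_4 lc_d_rc_25_2 lc_d_rc_8_1 lc_d_rc_27_2 lc_d_rc_15_1 lc_d_rc_16_2 lc_d_rc_15_1 lc_d_rc_15_1 lc_d_rc_16_4 lc_d_rc_15_1 lc_d_rc_27_4 lc_d_rc_8_3 lc_d_rc_24_0 lc_d_rc_8_1 lc_d_rc_27_4 lc_d_rc_15_1 lc_d_rc_23_4 lc_d_rc_27_8 lc_d_rc_3_3 lc_d_rc_15_1 lc_d_rc_15_1 lc_d_rc_17_2 lc_d_rc_15_1 lc_d_rc_27_2 lc_d_rc_16_0 lc_d_rc_8_3 lc_d_rc_15_1 lc_d_rc_3_3 lc_d_rc_17_0 lc_d_rc_22_2 lc_d_rc_22_8 lc_d_rc_23_4 lc_d_rc_23_4 lc_d_rc_27_4 lc_d_rc_3_3 lc_d_rc_25_14 lc_d_rc_3_3 lc_d_rc_15_1 lc_d_rc_27_2 lc_d_rc_17_2 lc_d_rc_8_1 lc_d_rc_15_1 lc_d_rc_27_2 lc_d_rc_23_4 lc_d_rc_27_4 lc_d_rc_15_1) (@D3.rec (fun _ => (Cert rels S Gen.d))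 lc_d_rc_16_4 lc_d_rc_24_5 lc_d_rc_15_1 lc_d_rc_22_4 lc_d_rc_8_3 lc_d_rc_8_3 lc_d_rc_27_2 lc_d_rc_8_3 lc_d_rc_22_4 lc_d_rc_15_1 lc_d_rc_8_3 lc_d_rc_24_5 lc_d_rc_22_6 lc_d_rc_17_2 lc_d_rc_27_2 lc_d_rc_16_2 lc_d_Cert_tree lc_d_rc_15_1 lc_d_rc_16_2 lc_d_rc_12_1 lc_d_rc_16_4 lc_d_rc_17_2 lc_d_rc_16_4 lc_d_rc_8_3 lc_d_rc_15_1 lc_d_rc_3_1 lc_d_rc_16_2 lc_d_rc_3_3 lc_d_rc_16_0 lc_d_rc_8_1 lc_d_rc_27_8 lc_d_rc_27_4 lc_d_rc_8_3 lc_d_rc_15_1 lc_d_rc_23_4 lc_d_rc_24_5 lc_d_rc_22_8 lc_d_rc_22_6 lc_d_rc_24_5 lc_d_rc_15_1 lc_d_rc_22_6 lc_d_rc_16_2 lc_d_rc_15_1 lc_d_rc_25_2 lc_d_rc_16_2 lc_d_rc_25_6 lc_d_rc_23_8 lc_d_rc_8_3 lc_d_rc_15_1 lc_d_rc_8_3 lc_d_rc_23_8 lc_d_rc_15_1 lc_d_rc_15_1 lc_d_rc_15_1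 lc_d_rc_24_0 lc_d_rc_16_2 lc_d_rc_15_1 lc_d_Cert_tree lc_d_rc_15_1 lc_d_rc_12_15 lc_d_Cert_tree lc_d_rc_15_1) (@D3.rec (fun _ => (Cert rels S Gen.d)) lc_d_rc_15_1 lc_d_rc_27_2 lc_d_rc_27_4 lc_d_rc_15_1 lc_d_rc_22_4 lc_d_rc_27_2 lc_d_rc_8_3 lc_d_rc_22_8 lc_d_rc_16_4 lc_d_rc_15_1 lc_d_rc_17_2 lc_d_rc_27_2 lc_d_rc_3_3 lc_d_rc_3_1 lc_d_rc_15_1 lc_d_rc_8_3 lc_d_rc_3_1 lc_d_rc_15_1 lc_d_rc_15_1 lc_d_rc_8_3 lc_d_rc_8_3 lc_d_rc_15_1 lc_d_rc_27_2 lc_d_rc_27_10 lc_d_rc_12_3 lc_d_rc_8_3 lc_d_rc_27_4 lc_d_rc_8_3 lc_d_rc_17_2 lc_d_rc_3_1 lc_d_rc_27_2 lc_d_rc_16_4 lc_d_rc_8_1 lc_d_rc_24_0 lc_d_rc_22_2 lc_d_rc_16_4 lc_d_rc_27_4 lc_d_rc_16_2 lc_d_rc_22_4 lc_d_rc_23_6 lc_d_rc_15_1 lc_d_Cert_tree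 lc_d_rc_17_2 lc_d_rc_15_1 lc_d_rc_22_6 lc_d_rc_8_1 lc_d_rc_12_1 lc_d_rc_16_2 lc_d_rc_23_4 lc_d_Cert_tree lc_d_rc_15_1 lc_d_rc_22_4 lc_d_rc_8_3 lc_d_rc_22_6 lc_d_rc_17_2 lc_d_rc_17_2 lc_d_rc_23_8 lc_d_rc_8_1 lc_d_rc_15_1 lc_d_rc_8_3 lc_d_rc_16_2 lc_d_rc_23_4) (@D3.rec (fun _ => (Cert rels S Gen.d)) lc_d_rc_22_2 lc_d_rc_22_4 lc_d_rc_8_3 lc_d_rc_16_0 lc_d_rc_8_3 lc_d_rc_24_5 lc_d_rc_8_3 lc_d_rc_15_1 lc_d_rc_16_4 lc_d_rc_16_0 lc_d_rc_24_0 lc_d_rc_8_3 lc_d_rc_3_3 lc_d_rc_16_2 lc_d_rc_15_1 lc_d_rc_24_0 lc_d_rc_15_1 lc_d_rc_17_2 lc_d_rc_27_4 lc_d_rc_3_3 lc_d_rc_8_3 lc_d_rc_23_2 lc_d_rc_15_1 lc_d_rc_16_2 lc_d_rc_23_6 lc_d_rc_27_2 lc_d_rc_15_1 lc_d_rc_15_1 lc_d_rc_15_1 lc_d_rc_15_1 lc_d_rc_23_4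 lc_d_rc_16_4 lc_d_rc_17_2 lc_d_rc_24_0 lc_d_rc_15_1 lc_d_rc_17_2 lc_d_rc_15_1 lc_d_rc_24_5 lc_d_rc_27_2 lc_d_rc_27_4 lc_d_rc_3_3 lc_d_rc_27_10 lc_d_rc_15_1 lc_d_rc_8_3 lc_d_rc_27_4 lc_d_rc_8_3 lc_d_rc_15_1 lc_d_rc_15_1 lc_d_rc_27_8 lc_d_rc_27_2 lc_d_rc_23_8 lc_d_rc_8_3 lc_d_rc_15_1 lc_d_Cert_tree lc_d_rc_15_1 lc_d_rc_15_1 lc_d_rc_15_1 lc_d_rc_22_4 lc_d_rc_15_1 lc_d_rc_17_2 lc_d_rc_8_3 lc_d_rc_15_1) (@D3.rec (fun _ => (Cert rels S Gen.d)) lc_d_rc_15_1 lc_d_rc_15_1 lc_d_rc_15_1 lc_d_rc_16_2 lc_d_rc_27_4 lc_d_rc_23_6 lc_d_rc_3_3 lc_d_rc_15_1 lc_d_rc_24_0 lc_d_rc_15_1 lc_d_rc_8_1 lc_d_rc_23_2 lc_d_rc_23_2 lc_d_rc_15_1 lc_d_rc_15_1 lc_d_rc_23_6 lc_d_rc_17_2 lc_d_rc_15_1 lc_d_rc_17_2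 lc_d_rc_22_2 lc_d_rc_8_3 lc_d_rc_27_4 lc_d_rc_8_3 lc_d_Cert_tree lc_d_rc_15_1 lc_d_rc_3_3 lc_d_rc_23_2 lc_d_rc_23_8 lc_d_rc_15_1 lc_d_rc_17_0 lc_d_rc_17_2 lc_d_rc_15_1 lc_d_rc_8_3 lc_d_rc_27_4 lc_d_rc_24_5 lc_d_rc_12_13 lc_d_rc_16_2 lc_d_rc_8_3 lc_d_rc_22_4 lc_d_rc_16_4 lc_d_rc_8_3 lc_d_rc_15_1 lc_d_rc_16_0 lc_d_rc_24_5 lc_d_rc_8_3 lc_d_rc_12_15 lc_d_rc_15_1 lc_d_rc_15_1 lc_d_rc_24_5 lc_d_rc_27_10 lc_d_rc_16_4 lc_d_rc_27_2 lc_d_rc_16_4 lc_d_rc_15_1 lc_d_rc_27_10 lc_d_rc_15_1 lc_d_rc_27_10 lc_d_rc_3_3 lc_d_rc_3_1 lc_d_rc_23_4 lc_d_rc_3_1 lc_d_rc_8_3) (@D3.rec (fun _ => (Cert rels S Gen.d)) lc_d_rc_17_2 lc_d_rc_27_4 lc_d_rc_15_1 lc_d_rc_22_2 lc_d_rc_15_1 lc_d_rc_27_4 lc_d_rc_15_1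 lc_d_rc_24_5 lc_d_rc_15_1 lc_d_rc_8_1 lc_d_rc_15_1 lc_d_rc_15_1 lc_d_rc_3_3 lc_d_rc_25_14 lc_d_rc_15_1 lc_d_rc_17_2 lc_d_rc_3_3 lc_d_rc_23_2 lc_d_rc_8_3 lc_d_rc_17_2 lc_d_rc_15_1 lc_d_rc_15_1 lc_d_rc_15_1 lc_d_rc_16_2 lc_d_rc_15_1 lc_d_rc_15_1 lc_d_rc_12_1 lc_d_rc_15_1 lc_d_rc_8_3 lc_d_rc_15_1 lc_d_rc_12_3 lc_d_rc_15_1 lc_d_rc_15_1 lc_d_rc_16_2 lc_d_rc_15_1 lc_d_rc_15_1 lc_d_rc_27_10 lc_d_rc_27_2 lc_d_rc_15_1 lc_d_rc_27_4 lc_d_rc_15_1 lc_d_rc_15_1 lc_d_rc_16_2 lc_d_rc_15_1 lc_d_rc_17_2 lc_d_Cert_tree lc_d_Cert_tree lc_d_rc_15_1 lc_d_rc_17_2 lc_d_rc_16_4 lc_d_rc_8_3 lc_d_rc_15_1 lc_d_rc_15_1 lc_d_rc_17_0 lc_d_rc_15_1 lc_d_rc_15_1 lc_d_rc_8_1 lc_d_rc_25_14 lc_d_rc_15_1 lc_d_rc_17_0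 lc_d_rc_15_1 lc_d_rc_27_2) (@D3.rec (fun _ => (Cert rels S Gen.d)) lc_d_rc_15_1 lc_d_rc_24_0 lc_d_rc_17_2 lc_d_rc_23_6 lc_d_rc_16_4 lc_d_rc_22_8 lc_d_rc_27_4 lc_d_rc_23_6 lc_d_rc_16_4 lc_d_rc_12_15 lc_d_rc_15_1 lc_d_rc_3_3 lc_d_rc_15_1 lc_d_rc_15_1 lc_d_rc_23_2 lc_d_rc_15_1 lc_d_rc_27_2 lc_d_rc_25_18 lc_d_rc_17_2 lc_d_rc_15_1 lc_d_rc_15_1 lc_d_rc_27_4 lc_d_rc_16_2 lc_d_rc_15_1 lc_d_rc_15_1 lc_d_rc_15_1 lc_d_rc_15_1 lc_d_rc_15_1 lc_d_rc_8_1 lc_d_rc_24_0 lc_d_rc_15_1 lc_d_rc_15_1 lc_d_rc_12_1 lc_d_rc_15_1 lc_d_rc_24_5 lc_d_rc_24_5 lc_d_rc_22_2 lc_d_rc_15_1 lc_d_rc_24_5 lc_d_rc_15_1 lc_d_rc_8_3 lc_d_rc_23_2 lc_d_rc_15_1 lc_d_rc_8_3 lc_d_rc_27_4 lc_d_rc_8_3 lc_d_rc_15_1 lc_d_rc_17_2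 lc_d_rc_16_2 lc_d_rc_15_1 lc_d_rc_23_8 lc_d_rc_24_0 lc_d_rc_17_0 lc_d_rc_23_8 lc_d_rc_15_1 lc_d_rc_25_2 lc_d_rc_24_0 lc_d_rc_17_0 lc_d_rc_15_1 lc_d_rc_16_4 lc_d_rc_22_2 lc_d_rc_22_4) (@D3.rec (fun _ => (Cert rels S Gen.d)) lc_d_rc_23_4 lc_d_rc_22_4 lc_d_rc_22_2 lc_d_rc_22_2 lc_d_rc_24_0 lc_d_rc_15_1 lc_d_rc_8_3 lc_d_rc_15_1 lc_d_rc_8_1 lc_d_rc_16_2 lc_d_rc_3_3 lc_d_rc_17_2 lc_d_rc_15_1 lc_d_rc_3_1 lc_d_rc_16_0 lc_d_rc_22_6 lc_d_rc_15_1 lc_d_rc_23_8 lc_d_rc_24_0 lc_d_rc_12_1 lc_d_rc_25_6 lc_d_rc_8_1 lc_d_rc_8_3 lc_d_Cert_tree lc_d_rc_23_4 lc_d_rc_24_0 lc_d_rc_27_4 lc_d_rc_15_1 lc_d_Cert_tree lc_d_rc_27_4 lc_d_rc_16_4 lc_d_rc_15_1 lc_d_rc_3_3 lc_d_Cert_tree lc_d_rc_3_3 lc_d_rc_8_3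 lc_d_rc_15_1 lc_d_rc_22_2 lc_d_Cert_tree lc_d_rc_27_4 lc_d_rc_23_8 lc_d_rc_15_1 lc_d_rc_23_2 lc_d_Cert_tree lc_d_rc_27_8 lc_d_rc_15_1 lc_d_rc_8_3 lc_d_rc_15_1 lc_d_rc_23_4 lc_d_rc_22_2 lc_d_rc_22_8 lc_d_rc_15_1 lc_d_rc_16_0 lc_d_rc_24_0 lc_d_rc_8_3 lc_d_rc_8_1 lc_d_rc_15_1 lc_d_rc_27_4 lc_d_rc_12_15 lc_d_rc_15_1 lc_d_rc_22_4 lc_d_rc_15_1) (@D3.rec (fun _ => (Cert rels S Gen.d)) lc_d_rc_8_3 lc_d_rc_27_8 lc_d_rc_15_1 lc_d_rc_23_6 lc_d_rc_22_6 lc_d_rc_8_3 lc_d_rc_23_6 lc_d_rc_15_1 lc_d_rc_16_2 lc_d_rc_22_8 lc_d_rc_8_1 lc_d_rc_15_1 lc_d_rc_15_1 lc_d_rc_8_3 lc_d_rc_25_18 lc_d_rc_15_1 lc_d_rc_22_6 lc_d_rc_15_1 lc_d_rc_3_1 lc_d_rc_15_1 lc_d_rc_15_1 lc_d_rc_24_0 lc_d_rc_15_1 lc_d_rc_16_4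 lc_d_rc_22_6 lc_d_rc_15_1 lc_d_rc_17_2 lc_d_rc_25_6 lc_d_rc_23_4 lc_d_rc_15_1 lc_d_rc_8_1 lc_d_rc_15_1 lc_d_rc_27_8 lc_d_rc_3_3 lc_d_rc_8_3 lc_d_rc_3_1 lc_d_rc_17_0 lc_d_rc_25_2 lc_d_rc_8_3 lc_d_rc_22_4 lc_d_rc_27_2 lc_d_rc_15_1 lc_d_rc_27_4 lc_d_rc_24_0 lc_d_rc_24_5 lc_d_rc_24_5 lc_d_rc_8_1 lc_d_rc_15_1 lc_d_rc_15_1 lc_d_rc_3_3 lc_d_rc_22_4 lc_d_rc_12_15 lc_d_rc_22_4 lc_d_rc_15_1 lc_d_rc_15_1 lc_d_rc_15_1 lc_d_rc_15_1 lc_d_rc_8_1 lc_d_rc_17_2 lc_d_rc_16_4 lc_d_rc_22_4 lc_d_rc_12_1) (@D3.rec (fun _ => (Cert rels S Gen.d)) lc_d_rc_8_1 lc_d_rc_24_5 lc_d_rc_12_1 lc_d_rc_16_2 lc_d_rc_15_1 lc_d_rc_15_1 lc_d_rc_15_1 lc_d_rc_23_4 lc_d_rc_8_1 lc_d_rc_15_1 lc_d_rc_22_8 lc_d_rc_15_1 lc_d_rc_15_1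 lc_d_rc_16_2 lc_d_rc_8_3 lc_d_rc_27_2 lc_d_rc_15_1 lc_d_rc_23_6 lc_d_rc_22_4 lc_d_rc_27_10 lc_d_rc_8_3 lc_d_rc_24_5 lc_d_rc_23_4 lc_d_rc_8_3 lc_d_rc_27_8 lc_d_rc_15_1 lc_d_rc_17_2 lc_d_rc_24_5 lc_d_rc_15_1 lc_d_rc_8_3 lc_d_rc_8_3 lc_d_rc_16_4 lc_d_rc_8_3 lc_d_rc_8_3 lc_d_rc_23_2 lc_d_rc_15_1 lc_d_rc_22_4 lc_d_rc_8_3 lc_d_rc_15_1 lc_d_rc_8_3 lc_d_rc_15_1 lc_d_rc_22_2 lc_d_rc_22_4 lc_d_rc_8_3 lc_d_rc_24_0 lc_d_rc_16_2 lc_d_rc_15_1 lc_d_rc_24_5 lc_d_rc_16_4 lc_d_rc_15_1 lc_d_rc_15_1 lc_d_rc_22_4 lc_d_rc_23_4 lc_d_rc_24_0 lc_d_rc_3_3 lc_d_Cert_tree lc_d_rc_15_1 lc_d_Cert_tree lc_d_rc_15_1 lc_d_rc_16_2 lc_d_rc_22_2 lc_d_rc_16_4) (@D3.rec (fun _ => (Cert rels S Gen.d)) lc_d_rc_22_6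 lc_d_rc_16_4 lc_d_rc_23_6 lc_d_rc_15_1 lc_d_rc_27_8 lc_d_rc_8_3 lc_d_rc_16_4 lc_d_rc_17_2 lc_d_rc_8_3 lc_d_rc_16_4 lc_d_rc_15_1 lc_d_rc_16_2 lc_d_rc_8_3 lc_d_rc_15_1 lc_d_rc_16_0 lc_d_rc_8_3 lc_d_rc_23_6 lc_d_rc_15_1 lc_d_rc_15_1 lc_d_rc_3_3 lc_d_rc_17_0 lc_d_rc_8_3 lc_d_rc_22_4 lc_d_rc_22_4 lc_d_rc_25_10 lc_d_rc_16_0 lc_d_rc_22_4 lc_d_rc_8_3 lc_d_rc_15_1 lc_d_rc_23_4 lc_d_rc_25_2 lc_d_Cert_tree lc_d_rc_15_1 lc_d_rc_12_15 lc_d_rc_15_1 lc_d_rc_15_1 lc_d_rc_15_1 lc_d_rc_8_1 lc_d_rc_25_2 lc_d_rc_24_5 lc_d_rc_15_1 lc_d_Cert_tree lc_d_rc_8_3 lc_d_rc_23_4 lc_d_rc_15_1 lc_d_rc_17_0 lc_d_rc_22_4 lc_d_rc_15_1 lc_d_Cert_tree lc_d_rc_8_3 lc_d_rc_8_3 lc_d_rc_17_2 lc_d_rc_12_15 lc_d_rc_15_1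 lc_d_rc_22_2 lc_d_rc_25_6 lc_d_rc_15_1 lc_d_rc_15_1 lc_d_rc_3_3 lc_d_rc_15_1 lc_d_rc_8_3 lc_d_rc_27_2) (@D3.rec (fun _ => (Cert rels S Gen.d)) lc_d_rc_15_1 lc_d_rc_3_3 lc_d_rc_17_0 lc_d_rc_24_0 lc_d_rc_15_1 lc_d_rc_8_1 lc_d_rc_27_8 lc_d_rc_15_1 lc_d_rc_27_4 lc_d_rc_17_2 lc_d_rc_22_6 lc_d_rc_15_1 lc_d_rc_25_2 lc_d_rc_15_1 lc_d_rc_8_1 lc_d_rc_23_8 lc_d_rc_27_2 lc_d_rc_23_2 lc_d_rc_16_4 lc_d_rc_3_3 lc_d_rc_15_1 lc_d_rc_8_3 lc_d_rc_23_6 lc_d_rc_15_1 lc_d_rc_15_1 lc_d_rc_24_5 lc_d_rc_8_1 lc_d_rc_15_1 lc_d_rc_27_8 lc_d_rc_15_1 lc_d_rc_27_10 lc_d_rc_24_0 lc_d_rc_23_6 lc_d_rc_16_2 lc_d_rc_27_4 lc_d_rc_3_3 lc_d_rc_17_2 lc_d_rc_24_5 lc_d_rc_8_1 lc_d_rc_24_5 lc_d_rc_15_1 lc_d_rc_15_1 lc_d_rc_15_1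 lc_d_rc_16_2 lc_d_rc_24_5 lc_d_rc_3_3 lc_d_rc_15_1 lc_d_rc_15_1 lc_d_rc_15_1 lc_d_rc_23_2 lc_d_rc_15_1 lc_d_rc_15_1 lc_d_rc_15_1 lc_d_rc_15_1 lc_d_rc_15_1 lc_d_rc_23_6 lc_d_rc_16_2 lc_d_rc_15_1 lc_d_rc_27_2 lc_d_rc_24_0 lc_d_rc_15_1 lc_d_rc_22_2) (@D3.rec (fun _ => (Cert rels S Gen.d)) lc_d_rc_27_2 lc_d_rc_24_0 lc_d_rc_16_2 lc_d_rc_16_2 lc_d_rc_12_3 lc_d_Cert_tree lc_d_rc_8_1 lc_d_rc_15_1 lc_d_rc_15_1 lc_d_rc_15_1 lc_d_rc_8_1 lc_d_rc_17_2 lc_d_rc_17_2 lc_d_rc_15_1 lc_d_rc_25_14 lc_d_rc_15_1 lc_d_rc_3_3 lc_d_rc_27_4 lc_d_rc_27_4 lc_d_rc_15_1 lc_d_rc_3_3 lc_d_rc_17_2 lc_d_Cert_tree lc_d_rc_15_1 lc_d_Cert_tree lc_d_rc_15_1 lc_d_rc_22_2 lc_d_Cert_tree lc_d_rc_25_14 lc_d_rc_24_0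 lc_d_rc_15_1 lc_d_rc_16_2 lc_d_rc_15_1 lc_d_rc_24_5 lc_d_rc_15_1 lc_d_rc_23_6 lc_d_rc_15_1 lc_d_rc_22_2 lc_d_rc_15_1 lc_d_rc_23_6 lc_d_rc_27_2 lc_d_rc_16_2 lc_d_rc_15_1 lc_d_rc_15_1 lc_d_rc_22_4 lc_d_rc_17_2 lc_d_Cert_tree lc_d_rc_24_5 lc_d_rc_22_4 lc_d_Cert_tree lc_d_Cert_tree lc_d_rc_15_1 lc_d_rc_23_2 lc_d_rc_27_2 lc_d_rc_15_1 lc_d_rc_8_1 lc_d_rc_16_2 lc_d_Cert_tree lc_d_rc_16_4 lc_d_rc_27_4 lc_d_Cert_tree lc_d_rc_16_0) (@D3.rec (fun _ => (Cert rels S Gen.d)) lc_d_rc_15_1 lc_d_rc_8_3 lc_d_rc_25_6 lc_d_rc_15_1 lc_d_rc_24_5 lc_d_rc_15_1 lc_d_rc_27_8 lc_d_rc_27_4 lc_d_rc_8_3 lc_d_Cert_tree lc_d_rc_15_1 lc_d_rc_15_1 lc_d_rc_27_2 lc_d_rc_27_8 lc_d_rc_15_1 lc_d_rc_15_1 lc_d_Cert_tree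 lc_d_rc_8_3 lc_d_rc_16_2 lc_d_rc_23_6 lc_d_rc_15_1 lc_d_rc_15_1 lc_d_rc_23_2 lc_d_rc_15_1 lc_d_Cert_tree lc_d_Cert_tree lc_d_rc_23_8 lc_d_rc_15_1 lc_d_rc_22_6 lc_d_rc_27_2 lc_d_rc_16_2 lc_d_rc_24_5 lc_d_rc_15_1 lc_d_rc_27_4 lc_d_rc_16_4 lc_d_rc_23_6 lc_d_rc_23_4 lc_d_rc_24_5 lc_d_rc_27_4 lc_d_Cert_tree lc_d_rc_15_1 lc_d_rc_3_1 lc_d_rc_24_5 lc_d_rc_15_1 lc_d_rc_15_1 lc_d_rc_8_1 lc_d_rc_15_1 lc_d_rc_27_2 lc_d_rc_15_1 lc_d_rc_24_5 lc_d_rc_27_10 lc_d_rc_22_4 lc_d_rc_15_1 lc_d_rc_17_0 lc_d_Cert_tree lc_d_rc_22_4 lc_d_rc_25_6 lc_d_rc_8_1 lc_d_rc_15_1 lc_d_rc_15_1 lc_d_rc_22_4 lc_d_rc_25_2) (@D3.rec (fun _ => (Cert rels S Gen.d)) lc_d_rc_8_3 lc_d_rc_15_1 lc_d_rc_22_6 lc_d_rc_17_2 lc_d_rc_8_3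 lc_d_rc_23_2 lc_d_rc_3_3 lc_d_rc_27_10 lc_d_rc_3_3 lc_d_rc_15_1 lc_d_rc_3_3 lc_d_rc_23_4 lc_d_rc_15_1 lc_d_Cert_tree lc_d_rc_15_1 lc_d_rc_22_4 lc_d_rc_22_2 lc_d_rc_27_10 lc_d_rc_17_2 lc_d_rc_15_1 lc_d_rc_8_3 lc_d_rc_24_5 lc_d_rc_3_3 lc_d_rc_15_1 lc_d_rc_15_1 lc_d_rc_15_1 lc_d_rc_27_2 lc_d_rc_15_1 lc_d_Cert_tree lc_d_rc_24_0 lc_d_rc_24_0 lc_d_rc_16_0 lc_d_rc_25_18 lc_d_rc_15_1 lc_d_Cert_tree lc_d_rc_25_6 lc_d_rc_15_1 lc_d_rc_8_1 lc_d_rc_22_6 lc_d_rc_15_1 lc_d_rc_16_2 lc_d_rc_23_8 lc_d_rc_15_1 lc_d_rc_22_2 lc_d_rc_15_1 lc_d_rc_16_2 lc_d_rc_15_1 lc_d_rc_15_1 lc_d_rc_3_3 lc_d_rc_17_2 lc_d_Cert_tree lc_d_rc_15_1 lc_d_rc_23_8 lc_d_rc_22_4 lc_d_rc_15_1 lc_d_rc_15_1 lc_d_rc_15_1 lc_d_rc_15_1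 lc_d_rc_27_4 lc_d_rc_23_4 lc_d_rc_16_4 lc_d_rc_27_10) (@D3.rec (fun _ => (Cert rels S Gen.d)) lc_d_rc_23_4 lc_d_rc_15_1 lc_d_rc_3_3 lc_d_rc_24_5 lc_d_rc_15_1 lc_d_rc_15_1 lc_d_rc_8_3 lc_d_rc_22_8 lc_d_rc_22_6 lc_d_rc_15_1 lc_d_rc_27_2 lc_d_rc_27_2 lc_d_Cert_tree lc_d_Cert_tree lc_d_rc_15_1 lc_d_rc_8_3 lc_d_rc_22_4 lc_d_rc_24_0 lc_d_rc_15_1 lc_d_rc_17_2 lc_d_rc_22_4 lc_d_rc_15_1 lc_d_Cert_tree lc_d_rc_15_1 lc_d_Cert_tree lc_d_rc_8_1 lc_d_rc_24_5 lc_d_rc_16_4 lc_d_rc_27_2 lc_d_rc_24_0 lc_d_rc_25_2 lc_d_rc_12_15 lc_d_rc_3_3 lc_d_rc_15_1 lc_d_rc_23_6 lc_d_rc_23_6 lc_d_rc_15_1 lc_d_rc_23_4 lc_d_rc_15_1 lc_d_rc_22_6 lc_d_rc_3_1 lc_d_rc_22_4 lc_d_rc_8_3 lc_d_rc_24_0 lc_d_rc_22_4 lc_d_rc_15_1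 lc_d_rc_23_2 lc_d_rc_15_1 lc_d_Cert_tree lc_d_rc_15_1 lc_d_rc_12_15 lc_d_rc_22_6 lc_d_rc_17_0 lc_d_rc_8_3 lc_d_rc_16_4 lc_d_rc_8_3 lc_d_Cert_tree lc_d_Cert_tree lc_d_rc_8_3 lc_d_rc_8_1 lc_d_rc_15_1 lc_d_rc_8_1) (@D3.rec (fun _ => (Cert rels S Gen.d)) lc_d_rc_15_1 lc_d_rc_22_4 lc_d_rc_15_1 lc_d_rc_8_3 lc_d_rc_8_1 lc_d_rc_15_1 lc_d_rc_22_6 lc_d_rc_15_1 lc_d_rc_17_2 lc_d_rc_8_3 lc_d_rc_8_3 lc_d_rc_8_1 lc_d_rc_22_4 lc_d_rc_27_2 lc_d_rc_22_2 lc_d_rc_15_1 lc_d_rc_27_2 lc_d_Cert_tree lc_d_rc_15_1 lc_d_rc_3_3 lc_d_rc_15_1 lc_d_Cert_tree lc_d_rc_15_1 lc_d_rc_3_3 lc_d_rc_15_1 lc_d_Cert_tree lc_d_rc_15_1 lc_d_rc_17_2 lc_d_rc_15_1 lc_d_rc_15_1 lc_d_rc_8_1 lc_d_rc_15_1 lc_d_rc_15_1 lc_d_rc_8_1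 lc_d_rc_16_4 lc_d_rc_15_1 lc_d_rc_27_4 lc_d_rc_8_1 lc_d_rc_23_8 lc_d_rc_15_1 lc_d_rc_23_6 lc_d_rc_22_6 lc_d_Cert_tree lc_d_Cert_tree lc_d_rc_15_1 lc_d_rc_22_8 lc_d_rc_27_10 lc_d_rc_12_1 lc_d_rc_27_4 lc_d_rc_16_2 lc_d_rc_22_4 lc_d_rc_15_1 lc_d_rc_22_2 lc_d_rc_15_1 lc_d_rc_27_4 lc_d_rc_23_4 lc_d_rc_25_10 lc_d_rc_8_1 lc_d_rc_8_3 lc_d_rc_16_4 lc_d_rc_27_2 lc_d_rc_24_0) (@D3.rec (fun _ => (Cert rels S Gen.d)) lc_d_rc_22_2 lc_d_rc_22_8 lc_d_rc_15_1 lc_d_rc_27_4 lc_d_rc_27_2 lc_d_rc_15_1 lc_d_rc_8_3 lc_d_rc_24_0 lc_d_rc_8_1 lc_d_rc_15_1 lc_d_rc_8_3 lc_d_rc_17_0 lc_d_rc_16_2 lc_d_rc_25_18 lc_d_rc_22_4 lc_d_rc_15_1 lc_d_rc_15_1 lc_d_rc_15_1 lc_d_rc_8_3 lc_d_rc_22_8 lc_d_rc_23_6 lc_d_rc_24_5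 lc_d_rc_15_1 lc_d_Cert_tree lc_d_rc_15_1 lc_d_rc_23_4 lc_d_rc_15_1 lc_d_rc_22_4 lc_d_rc_3_3 lc_d_rc_15_1 lc_d_rc_15_1 lc_d_rc_27_10 lc_d_rc_24_0 lc_d_rc_8_3 lc_d_rc_15_1 lc_d_rc_22_2 lc_d_rc_15_1 lc_d_rc_8_1 lc_d_rc_23_6 lc_d_rc_15_1 lc_d_rc_25_18 lc_d_rc_22_4 lc_d_rc_15_1 lc_d_rc_15_1 lc_d_rc_8_3 lc_d_rc_15_1 lc_d_rc_22_6 lc_d_rc_15_1 lc_d_rc_24_0 lc_d_rc_22_4 lc_d_rc_15_1 lc_d_rc_17_0 lc_d_rc_8_3 lc_d_rc_12_15 lc_d_rc_22_4 lc_d_rc_16_2 lc_d_rc_16_4 lc_d_rc_16_0 lc_d_Cert_tree lc_d_rc_15_1 lc_d_rc_22_2 lc_d_rc_16_0) (@D3.rec (fun _ => (Cert rels S Gen.d)) lc_d_rc_12_15 lc_d_rc_23_2 lc_d_rc_24_0 lc_d_rc_3_3 lc_d_rc_22_4 lc_d_rc_12_15 lc_d_rc_22_6 lc_d_rc_23_6 lc_d_rc_23_4 lc_d_rc_15_1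 lc_d_rc_22_2 lc_d_rc_24_0 lc_d_rc_15_1 lc_d_rc_27_4 lc_d_rc_15_1 lc_d_rc_23_4 lc_d_rc_8_1 lc_d_rc_23_4 lc_d_rc_15_1 lc_d_Cert_tree lc_d_rc_8_3 lc_d_rc_3_3 lc_d_rc_15_1 lc_d_rc_25_2 lc_d_rc_23_2 lc_d_rc_15_1 lc_d_rc_8_1 lc_d_rc_16_2 lc_d_rc_15_1 lc_d_rc_15_1 lc_d_rc_22_6 lc_d_rc_16_4 lc_d_rc_15_1 lc_d_rc_23_2 lc_d_rc_15_1 lc_d_rc_15_1 lc_d_rc_15_1 lc_d_rc_15_1 lc_d_rc_15_1 lc_d_rc_24_5 lc_d_rc_23_2 lc_d_rc_16_4 lc_d_rc_15_1 lc_d_rc_15_1 lc_d_rc_27_8 lc_d_rc_15_1 lc_d_rc_22_4 lc_d_rc_27_4 lc_d_rc_27_10 lc_d_rc_15_1 lc_d_rc_16_4 lc_d_rc_15_1 lc_d_rc_15_1 lc_d_rc_15_1 lc_d_rc_17_2 lc_d_rc_15_1 lc_d_rc_27_10 lc_d_rc_27_10 lc_d_rc_15_1 lc_d_rc_15_1 lc_d_rc_15_1 lc_d_rc_22_2) (@D3.rec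 (fun _ => (Cert rels S Gen.d)) lc_d_rc_15_1 lc_d_rc_15_1 lc_d_rc_15_1 lc_d_rc_15_1 lc_d_rc_27_2 lc_d_rc_27_8 lc_d_rc_22_4 lc_d_rc_15_1 lc_d_rc_25_2 lc_d_rc_24_5 lc_d_rc_25_18 lc_d_rc_8_3 lc_d_rc_15_1 lc_d_rc_27_2 lc_d_rc_15_1 lc_d_rc_15_1 lc_d_rc_22_8 lc_d_rc_8_1 lc_d_rc_15_1 lc_d_rc_8_3 lc_d_rc_27_8 lc_d_rc_27_4 lc_d_rc_16_4 lc_d_rc_22_8 lc_d_rc_16_2 lc_d_rc_23_6 lc_d_rc_22_6 lc_d_rc_8_1 lc_d_rc_15_1 lc_d_rc_15_1 lc_d_rc_15_1 lc_d_rc_15_1 lc_d_rc_12_1 lc_d_rc_27_2 lc_d_Cert_tree lc_d_rc_15_1 lc_d_rc_3_3 lc_d_rc_23_4 lc_d_rc_23_2 lc_d_rc_24_5 lc_d_rc_24_5 lc_d_rc_15_1 lc_d_rc_23_4 lc_d_rc_8_1 lc_d_rc_22_6 lc_d_rc_24_0 lc_d_rc_25_14 lc_d_rc_27_2 lc_d_rc_16_2 lc_d_rc_8_3 lc_d_rc_15_1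 lc_d_rc_15_1 lc_d_rc_15_1 lc_d_rc_15_1 lc_d_rc_22_4 lc_d_rc_8_3 lc_d_rc_23_6 lc_d_rc_15_1 lc_d_rc_27_4 lc_d_rc_3_3 lc_d_rc_17_2 lc_d_rc_27_2) (@D3.rec (fun _ => (Cert rels S Gen.d)) lc_d_Cert_tree lc_d_rc_8_1 lc_d_rc_24_0 lc_d_rc_24_0 lc_d_rc_27_8 lc_d_rc_15_1 lc_d_rc_8_3 lc_d_rc_23_6 lc_d_rc_15_1 lc_d_rc_22_2 lc_d_rc_3_3 lc_d_rc_17_0 lc_d_rc_16_2 lc_d_rc_24_0 lc_d_rc_3_3 lc_d_rc_16_4 lc_d_rc_8_3 lc_d_rc_27_4 lc_d_rc_8_3 lc_d_rc_27_8 lc_d_rc_22_6 lc_d_rc_15_1 lc_d_rc_8_1 lc_d_rc_15_1 lc_d_rc_24_0 lc_d_rc_15_1 lc_d_rc_15_1 lc_d_rc_8_3 lc_d_rc_3_1 lc_d_rc_27_2 lc_d_rc_27_10 lc_d_rc_15_1 lc_d_rc_23_2 lc_d_rc_24_5 lc_d_rc_16_2 lc_d_rc_15_1 lc_d_rc_15_1 lc_d_rc_3_1 lc_d_rc_17_2 lc_d_rc_22_2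 lc_d_rc_3_1 lc_d_rc_15_1 lc_d_rc_23_2 lc_d_rc_27_2 lc_d_rc_15_1 lc_d_rc_17_2 lc_d_rc_15_1 lc_d_rc_27_4 lc_d_rc_8_3 lc_d_rc_8_1 lc_d_rc_15_1 lc_d_rc_17_2 lc_d_rc_15_1 lc_d_rc_17_2 lc_d_rc_3_3 lc_d_rc_27_8 lc_d_rc_27_4 lc_d_rc_15_1 lc_d_rc_22_6 lc_d_rc_27_2 lc_d_Cert_tree lc_d_rc_24_0) (@D3.rec (fun _ => (Cert rels S Gen.d)) lc_d_rc_15_1 lc_d_rc_17_2 lc_d_Cert_tree lc_d_rc_15_1 lc_d_rc_17_2 lc_d_rc_15_1 lc_d_rc_3_3 lc_d_rc_8_3 lc_d_rc_27_2 lc_d_rc_17_2 lc_d_rc_15_1 lc_d_rc_15_1 lc_d_rc_17_2 lc_d_rc_15_1 lc_d_rc_27_8 lc_d_rc_15_1 lc_d_rc_16_4 lc_d_rc_25_2 lc_d_rc_27_4 lc_d_rc_15_1 lc_d_rc_8_3 lc_d_rc_15_1 lc_d_rc_17_2 lc_d_rc_15_1 lc_d_rc_22_4 lc_d_rc_24_5 lc_d_rc_27_10 lc_d_rc_27_4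 lc_d_rc_15_1 lc_d_rc_15_1 lc_d_rc_15_1 lc_d_rc_22_6 lc_d_rc_8_3 lc_d_rc_27_2 lc_d_rc_22_4 lc_d_rc_22_4 lc_d_rc_27_10 lc_d_rc_23_4 lc_d_rc_15_1 lc_d_rc_15_1 lc_d_rc_17_2 lc_d_rc_24_5 lc_d_rc_15_1 lc_d_rc_15_1 lc_d_rc_22_2 lc_d_rc_22_4 lc_d_rc_16_0 lc_d_rc_15_1 lc_d_rc_15_1 lc_d_rc_22_6 lc_d_rc_16_4 lc_d_rc_12_1 lc_d_rc_16_0 lc_d_rc_15_1 lc_d_rc_8_1 lc_d_rc_22_2 lc_d_rc_16_0 lc_d_rc_15_1 lc_d_rc_15_1 lc_d_rc_27_2 lc_d_rc_15_1 lc_d_rc_17_2) (@D3.rec (fun _ => (Cert rels S Gen.d)) lc_d_Cert_tree lc_d_rc_15_1 lc_d_rc_15_1 lc_d_rc_16_0 lc_d_rc_15_1 lc_d_rc_17_2 lc_d_rc_8_1 lc_d_rc_15_1 lc_d_rc_22_4 lc_d_rc_17_2 lc_d_rc_15_1 lc_d_rc_15_1 lc_d_rc_27_4 lc_d_rc_27_4 lc_d_rc_22_6 lc_d_rc_17_2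 lc_d_rc_8_3 lc_d_rc_16_0 lc_d_rc_8_1 lc_d_rc_27_4 lc_d_rc_23_8 lc_d_rc_24_0 lc_d_rc_15_1 lc_d_rc_3_1 lc_d_rc_3_1 lc_d_rc_8_3 lc_d_rc_15_1 lc_d_rc_8_1 lc_d_rc_15_1 lc_d_rc_8_3 lc_d_rc_27_10 lc_d_rc_8_3 lc_d_rc_24_0 lc_d_rc_24_5 lc_d_rc_8_3 lc_d_rc_15_1 lc_d_rc_27_2 lc_d_rc_15_1 lc_d_rc_17_2 lc_d_rc_8_3 lc_d_Cert_tree lc_d_rc_15_1 lc_d_rc_16_2 lc_d_rc_27_10 lc_d_rc_15_1 lc_d_rc_15_1 lc_d_rc_17_2 lc_d_rc_27_4 lc_d_rc_27_2 lc_d_rc_27_2 lc_d_rc_15_1 lc_d_rc_22_8 lc_d_rc_17_2 lc_d_rc_15_1 lc_d_rc_27_2 lc_d_rc_27_2 lc_d_rc_8_3 lc_d_rc_24_5 lc_d_rc_27_4 lc_d_rc_16_4 lc_d_rc_23_6 lc_d_rc_22_2)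
def ce_d_28 : D2 → D3 → (Cert rels S Gen.d) := @D2.rec (fun _ => D3 → (Cert rels S Gen.d)) (@D3.rec (fun _ => (Cert rels S Gen.d)) lc_d_rc_27_8 lc_d_rc_8_3 lc_d_rc_27_8 lc_d_rc_16_2 lc_d_rc_15_1 lc_d_rc_27_2 lc_d_rc_8_1 lc_d_rc_15_1 lc_d_rc_15_1 lc_d_rc_15_1 lc_d_rc_16_4 lc_d_rc_17_2 lc_d_rc_23_8 lc_d_rc_27_8 lc_d_rc_16_2 lc_d_rc_8_1 lc_d_rc_27_2 lc_d_rc_12_15 lc_d_rc_24_5 lc_d_rc_23_2 lc_d_rc_27_4 lc_d_rc_8_1 lc_d_rc_23_2 lc_d_rc_25_18 lc_d_rc_27_8 lc_d_rc_16_4 lc_d_rc_8_1 lc_d_rc_17_2 lc_d_rc_24_0 lc_d_rc_22_2 lc_d_rc_3_3 lc_d_rc_24_5 lc_d_rc_8_1 lc_d_rc_27_8 lc_d_rc_15_1 lc_d_rc_17_2 lc_d_rc_8_3 lc_d_rc_3_3 lc_d_rc_15_1 lc_d_rc_22_6 lc_d_rc_17_0 lc_d_rc_15_1 lc_d_rc_23_4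 lc_d_rc_27_4 lc_d_rc_15_1 lc_d_rc_17_2 lc_d_rc_22_8 lc_d_rc_27_2 lc_d_rc_27_4 lc_d_rc_17_0 lc_d_rc_23_4 lc_d_rc_15_1 lc_d_rc_16_4 lc_d_rc_15_1 lc_d_rc_25_2 lc_d_rc_16_4 lc_d_rc_16_0 lc_d_rc_27_10 lc_d_rc_8_1 lc_d_rc_15_1 lc_d_rc_23_2 lc_d_rc_15_1) (@D3.rec (fun _ => (Cert rels S Gen.d)) lc_d_rc_15_1 lc_d_rc_22_4 lc_d_rc_15_1 lc_d_rc_15_1 lc_d_rc_8_3 lc_d_rc_27_2 lc_d_rc_23_8 lc_d_rc_15_1 lc_d_rc_25_14 lc_d_rc_15_1 lc_d_rc_15_1 lc_d_rc_17_2 lc_d_rc_16_4 lc_d_rc_8_3 lc_d_rc_22_8 lc_d_rc_8_3 lc_d_rc_8_3 lc_d_rc_8_3 lc_d_rc_3_3 lc_d_rc_16_4 lc_d_rc_24_5 lc_d_rc_25_2 lc_d_rc_15_1 lc_d_rc_23_4 lc_d_rc_17_0 lc_d_rc_15_1 lc_d_rc_15_1 lc_d_rc_22_8 lc_d_rc_15_1 lc_d_rc_23_4 lc_d_rc_15_1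 lc_d_rc_15_1 lc_d_rc_27_10 lc_d_rc_24_5 lc_d_rc_8_3 lc_d_rc_27_4 lc_d_rc_15_1 lc_d_rc_15_1 lc_d_rc_27_2 lc_d_rc_23_2 lc_d_rc_27_2 lc_d_rc_15_1 lc_d_rc_25_10 lc_d_rc_8_1 lc_d_rc_15_1 lc_d_rc_17_0 lc_d_rc_22_6 lc_d_rc_3_1 lc_d_rc_15_1 lc_d_rc_15_1 lc_d_rc_27_2 lc_d_rc_15_1 lc_d_rc_16_4 lc_d_rc_24_0 lc_d_rc_16_4 lc_d_rc_22_4 lc_d_rc_15_1 lc_d_rc_24_5 lc_d_rc_25_6 lc_d_rc_24_0 lc_d_rc_16_2 lc_d_rc_8_3) (@D3.rec (fun _ => (Cert rels S Gen.d)) lc_d_rc_27_2 lc_d_rc_8_3 lc_d_rc_15_1 lc_d_rc_8_3 lc_d_rc_15_1 lc_d_rc_3_1 lc_d_Cert_tree lc_d_rc_8_3 lc_d_rc_8_3 lc_d_rc_27_4 lc_d_rc_8_3 lc_d_Cert_tree lc_d_rc_16_4 lc_d_Cert_tree lc_d_rc_15_1 lc_d_rc_16_4 lc_d_rc_3_3 lc_d_rc_22_2 lc_d_rc_16_0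 lc_d_rc_8_3 lc_d_rc_17_0 lc_d_rc_17_2 lc_d_rc_8_3 lc_d_rc_23_4 lc_d_rc_3_3 lc_d_rc_12_1 lc_d_rc_23_8 lc_d_rc_23_4 lc_d_rc_15_1 lc_d_rc_15_1 lc_d_rc_15_1 lc_d_rc_23_2 lc_d_rc_17_0 lc_d_rc_15_1 lc_d_rc_15_1 lc_d_rc_15_1 lc_d_rc_8_3 lc_d_rc_12_1 lc_d_rc_17_2 lc_d_Cert_tree lc_d_rc_15_1 lc_d_rc_15_1 lc_d_rc_8_3 lc_d_rc_27_4 lc_d_rc_23_8 lc_d_Cert_tree lc_d_rc_15_1 lc_d_rc_15_1 lc_d_rc_22_8 lc_d_rc_17_2 lc_d_rc_27_4 lc_d_rc_8_3 lc_d_rc_16_2 lc_d_rc_8_3 lc_d_rc_3_3 lc_d_rc_15_1 lc_d_rc_8_3 lc_d_rc_22_6 lc_d_rc_22_4 lc_d_rc_25_6 lc_d_rc_24_5 lc_d_rc_15_1) (@D3.rec (fun _ => (Cert rels S Gen.d)) lc_d_rc_8_3 lc_d_rc_8_3 lc_d_rc_27_2 lc_d_rc_17_2 lc_d_rc_22_4 lc_d_rc_3_3 lc_d_rc_16_2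 lc_d_rc_24_5 lc_d_rc_15_1 lc_d_rc_8_3 lc_d_rc_27_4 lc_d_Cert_tree lc_d_rc_15_1 lc_d_rc_23_6 lc_d_rc_15_1 lc_d_rc_24_5 lc_d_rc_22_4 lc_d_rc_12_9 lc_d_rc_23_6 lc_d_rc_8_1 lc_d_rc_15_1 lc_d_rc_22_4 lc_d_rc_15_1 lc_d_rc_23_6 lc_d_rc_15_1 lc_d_rc_8_1 lc_d_rc_17_2 lc_d_rc_15_1 lc_d_rc_16_2 lc_d_rc_15_1 lc_d_rc_22_2 lc_d_rc_15_1 lc_d_rc_8_1 lc_d_Cert_tree lc_d_Cert_tree lc_d_rc_22_4 lc_d_rc_22_4 lc_d_rc_8_3 lc_d_rc_15_1 lc_d_rc_15_1 lc_d_rc_12_1 lc_d_rc_15_1 lc_d_rc_15_1 lc_d_rc_15_1 lc_d_rc_27_4 lc_d_rc_8_3 lc_d_rc_8_1 lc_d_rc_15_1 lc_d_rc_25_14 lc_d_rc_15_1 lc_d_rc_23_4 lc_d_rc_27_2 lc_d_rc_15_1 lc_d_rc_22_4 lc_d_rc_22_2 lc_d_rc_27_2 lc_d_rc_17_2 lc_d_rc_15_1 lc_d_rc_23_4 lc_d_Cert_tree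 lc_d_rc_8_3 lc_d_rc_24_0) (@D3.rec (fun _ => (Cert rels S Gen.d)) lc_d_rc_16_4 lc_d_rc_17_2 lc_d_rc_22_6 lc_d_rc_23_6 lc_d_rc_22_4 lc_d_Cert_tree lc_d_rc_15_1 lc_d_rc_23_6 lc_d_rc_24_5 lc_d_rc_8_3 lc_d_rc_8_3 lc_d_rc_8_3 lc_d_rc_15_1 lc_d_rc_23_4 lc_d_rc_15_1 lc_d_rc_17_2 lc_d_rc_15_1 lc_d_rc_16_0 lc_d_rc_17_2 lc_d_rc_17_2 lc_d_rc_23_6 lc_d_rc_12_1 lc_d_rc_15_1 lc_d_rc_15_1 lc_d_rc_23_4 lc_d_rc_22_6 lc_d_rc_15_1 lc_d_rc_23_4 lc_d_rc_12_3 lc_d_rc_22_6 lc_d_rc_22_4 lc_d_rc_8_3 lc_d_rc_16_4 lc_d_rc_15_1 lc_d_rc_23_6 lc_d_Cert_tree lc_d_rc_22_2 lc_d_rc_15_1 lc_d_rc_15_1 lc_d_rc_17_2 lc_d_rc_22_6 lc_d_rc_8_1 lc_d_rc_27_2 lc_d_rc_17_2 lc_d_rc_15_1 lc_d_rc_23_6 lc_d_rc_15_1 lc_d_rc_12_1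 lc_d_rc_8_1 lc_d_rc_12_1 lc_d_rc_16_0 lc_d_rc_15_1 lc_d_rc_8_3 lc_d_rc_24_0 lc_d_rc_8_3 lc_d_rc_24_0 lc_d_rc_3_3 lc_d_rc_22_4 lc_d_rc_15_1 lc_d_Cert_tree lc_d_rc_15_1 lc_d_rc_15_1) (@D3.rec (fun _ => (Cert rels S Gen.d)) lc_d_rc_23_2 lc_d_rc_23_4 lc_d_rc_27_4 lc_d_rc_22_4 lc_d_rc_15_1 lc_d_rc_8_1 lc_d_rc_15_1 lc_d_rc_15_1 lc_d_rc_23_8 lc_d_rc_23_8 lc_d_rc_3_3 lc_d_rc_3_1 lc_d_rc_3_3 lc_d_rc_27_2 lc_d_rc_25_14 lc_d_rc_15_1 lc_d_rc_12_15 lc_d_rc_22_2 lc_d_rc_8_3 lc_d_rc_22_8 lc_d_rc_15_1 lc_d_rc_8_3 lc_d_rc_8_1 lc_d_rc_8_1 lc_d_rc_15_1 lc_d_rc_27_4 lc_d_rc_22_6 lc_d_rc_25_10 lc_d_rc_15_1 lc_d_rc_22_2 lc_d_rc_22_6 lc_d_rc_16_2 lc_d_rc_8_1 lc_d_rc_15_1 lc_d_rc_15_1 lc_d_rc_8_3 lc_d_rc_15_1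 lc_d_rc_16_4 lc_d_rc_24_0 lc_d_rc_8_1 lc_d_rc_3_1 lc_d_rc_15_1 lc_d_rc_8_3 lc_d_rc_16_4 lc_d_rc_22_4 lc_d_rc_3_3 lc_d_rc_22_8 lc_d_rc_16_4 lc_d_Cert_tree lc_d_Cert_tree lc_d_rc_15_1 lc_d_rc_17_2 lc_d_Cert_tree lc_d_Cert_tree lc_d_rc_15_1 lc_d_rc_3_3 lc_d_Cert_tree lc_d_rc_15_1 lc_d_rc_27_8 lc_d_rc_8_3 lc_d_Cert_tree lc_d_rc_27_2) (@D3.rec (fun _ => (Cert rels S Gen.d)) lc_d_rc_15_1 lc_d_rc_15_1 lc_d_rc_16_0 lc_d_rc_3_1 lc_d_rc_15_1 lc_d_rc_22_4 lc_d_rc_15_1 lc_d_rc_27_4 lc_d_rc_8_3 lc_d_rc_15_1 lc_d_rc_22_6 lc_d_rc_27_2 lc_d_rc_23_8 lc_d_rc_22_4 lc_d_rc_15_1 lc_d_rc_23_4 lc_d_rc_27_8 lc_d_rc_15_1 lc_d_rc_8_3 lc_d_rc_15_1 lc_d_rc_15_1 lc_d_Cert_tree lc_d_rc_27_4 lc_d_rc_27_10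 lc_d_rc_15_1 lc_d_rc_8_3 lc_d_rc_16_4 lc_d_rc_3_3 lc_d_rc_15_1 lc_d_rc_15_1 lc_d_rc_22_2 lc_d_rc_15_1 lc_d_rc_15_1 lc_d_rc_27_4 lc_d_rc_15_1 lc_d_rc_17_2 lc_d_rc_24_0 lc_d_rc_15_1 lc_d_rc_16_2 lc_d_rc_15_1 lc_d_rc_15_1 lc_d_rc_15_1 lc_d_rc_8_3 lc_d_rc_27_4 lc_d_rc_8_3 lc_d_rc_8_1 lc_d_rc_17_2 lc_d_rc_24_5 lc_d_rc_15_1 lc_d_rc_8_1 lc_d_rc_15_1 lc_d_rc_15_1 lc_d_rc_22_2 lc_d_rc_15_1 lc_d_rc_23_4 lc_d_rc_12_15 lc_d_rc_15_1 lc_d_rc_15_1 lc_d_rc_15_1 lc_d_rc_16_4 lc_d_rc_17_2 lc_d_rc_15_1) (@D3.rec (fun _ => (Cert rels S Gen.d)) lc_d_rc_8_3 lc_d_rc_15_1 lc_d_rc_8_3 lc_d_rc_15_1 lc_d_rc_8_3 lc_d_rc_24_5 lc_d_rc_23_4 lc_d_rc_15_1 lc_d_rc_8_3 lc_d_rc_23_4 lc_d_rc_15_1 lc_d_rc_22_4 lc_d_rc_15_1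 lc_d_rc_27_2 lc_d_rc_15_1 lc_d_rc_15_1 lc_d_rc_17_2 lc_d_rc_8_1 lc_d_rc_15_1 lc_d_rc_27_2 lc_d_rc_8_3 lc_d_rc_8_3 lc_d_rc_15_1 lc_d_rc_8_3 lc_d_rc_27_4 lc_d_rc_15_1 lc_d_rc_24_5 lc_d_rc_27_2 lc_d_rc_15_1 lc_d_rc_17_2 lc_d_rc_16_2 lc_d_rc_16_4 lc_d_Cert_tree lc_d_rc_23_8 lc_d_rc_16_2 lc_d_rc_15_1 lc_d_rc_8_3 lc_d_rc_16_0 lc_d_rc_15_1 lc_d_rc_8_3 lc_d_rc_15_1 lc_d_rc_23_6 lc_d_Cert_tree lc_d_rc_15_1 lc_d_rc_16_2 lc_d_rc_15_1 lc_d_rc_15_1 lc_d_rc_8_1 lc_d_rc_15_1 lc_d_rc_22_2 lc_d_rc_22_4 lc_d_rc_22_4 lc_d_rc_8_3 lc_d_rc_15_1 lc_d_rc_24_0 lc_d_rc_24_0 lc_d_rc_23_8 lc_d_rc_3_3 lc_d_rc_8_3 lc_d_rc_8_3 lc_d_rc_15_1 lc_d_rc_15_1) (@D3.rec (fun _ => (Cert rels S Gen.d)) lc_d_rc_15_1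 lc_d_rc_15_1 lc_d_rc_8_3 lc_d_rc_22_2 lc_d_rc_8_3 lc_d_rc_22_8 lc_d_rc_27_8 lc_d_rc_15_1 lc_d_rc_16_4 lc_d_rc_3_3 lc_d_rc_25_2 lc_d_rc_22_8 lc_d_rc_25_6 lc_d_rc_15_1 lc_d_rc_15_1 lc_d_rc_22_8 lc_d_rc_15_1 lc_d_rc_15_1 lc_d_rc_15_1 lc_d_rc_24_5 lc_d_rc_24_0 lc_d_rc_23_4 lc_d_rc_22_6 lc_d_rc_15_1 lc_d_Cert_tree lc_d_rc_16_4 lc_d_Cert_tree lc_d_rc_15_1 lc_d_rc_8_1 lc_d_rc_27_4 lc_d_rc_16_0 lc_d_rc_15_1 lc_d_rc_16_4 lc_d_rc_27_4 lc_d_rc_3_1 lc_d_rc_15_1 lc_d_rc_27_10 lc_d_rc_8_3 lc_d_rc_8_3 lc_d_rc_25_6 lc_d_rc_15_1 lc_d_rc_15_1 lc_d_rc_22_4 lc_d_rc_17_2 lc_d_rc_15_1 lc_d_rc_8_3 lc_d_rc_15_1 lc_d_rc_8_3 lc_d_rc_17_0 lc_d_rc_3_3 lc_d_rc_16_4 lc_d_rc_17_0 lc_d_rc_15_1 lc_d_rc_24_5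 lc_d_rc_23_2 lc_d_rc_22_2 lc_d_rc_22_4 lc_d_rc_23_2 lc_d_rc_17_2 lc_d_rc_25_6 lc_d_rc_22_4 lc_d_rc_15_1) (@D3.rec (fun _ => (Cert rels S Gen.d)) lc_d_rc_23_4 lc_d_rc_27_2 lc_d_rc_23_4 lc_d_rc_15_1 lc_d_rc_22_4 lc_d_rc_23_4 lc_d_rc_22_8 lc_d_rc_15_1 lc_d_rc_3_3 lc_d_Cert_tree lc_d_rc_22_6 lc_d_rc_15_1 lc_d_rc_15_1 lc_d_rc_22_8 lc_d_rc_25_18 lc_d_rc_15_1 lc_d_Cert_tree lc_d_rc_15_1 lc_d_rc_15_1 lc_d_rc_8_3 lc_d_rc_8_3 lc_d_rc_15_1 lc_d_rc_22_6 lc_d_rc_23_6 lc_d_rc_15_1 lc_d_rc_15_1 lc_d_rc_27_4 lc_d_rc_16_0 lc_d_rc_15_1 lc_d_rc_27_8 lc_d_rc_25_14 lc_d_rc_15_1 lc_d_rc_16_2 lc_d_rc_15_1 lc_d_rc_25_2 lc_d_rc_15_1 lc_d_rc_8_3 lc_d_rc_3_3 lc_d_rc_16_2 lc_d_rc_16_4 lc_d_rc_22_4 lc_d_rc_24_5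 lc_d_rc_15_1 lc_d_rc_15_1 lc_d_rc_15_1 lc_d_rc_24_5 lc_d_rc_15_1 lc_d_rc_15_1 lc_d_rc_15_1 lc_d_rc_16_0 lc_d_rc_17_2 lc_d_rc_22_6 lc_d_rc_8_3 lc_d_rc_15_1 lc_d_rc_15_1 lc_d_rc_15_1 lc_d_rc_3_3 lc_d_rc_8_3 lc_d_Cert_tree lc_d_rc_17_0 lc_d_rc_15_1 lc_d_rc_16_0) (@D3.rec (fun _ => (Cert rels S Gen.d)) lc_d_rc_16_0 lc_d_rc_12_15 lc_d_rc_23_2 lc_d_rc_8_3 lc_d_rc_12_1 lc_d_rc_22_4 lc_d_rc_3_3 lc_d_rc_27_10 lc_d_rc_15_1 lc_d_rc_15_1 lc_d_rc_15_1 lc_d_rc_27_8 lc_d_rc_3_3 lc_d_rc_24_5 lc_d_rc_15_1 lc_d_rc_23_2 lc_d_rc_16_4 lc_d_rc_24_5 lc_d_rc_15_1 lc_d_rc_8_3 lc_d_rc_23_2 lc_d_rc_23_4 lc_d_rc_27_8 lc_d_rc_27_4 lc_d_rc_17_2 lc_d_rc_27_8 lc_d_rc_27_10 lc_d_rc_3_3 lc_d_rc_27_4 lc_d_rc_16_4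 lc_d_rc_17_0 lc_d_rc_15_1 lc_d_rc_16_4 lc_d_rc_15_1 lc_d_rc_23_2 lc_d_rc_8_3 lc_d_rc_16_2 lc_d_rc_23_8 lc_d_rc_15_1 lc_d_rc_23_2 lc_d_rc_15_1 lc_d_rc_27_2 lc_d_rc_27_10 lc_d_rc_15_1 lc_d_rc_27_2 lc_d_rc_15_1 lc_d_rc_15_1 lc_d_rc_22_6 lc_d_rc_17_2 lc_d_rc_27_10 lc_d_rc_15_1 lc_d_rc_17_2 lc_d_rc_27_2 lc_d_rc_22_6 lc_d_rc_15_1 lc_d_Cert_tree lc_d_rc_15_1 lc_d_rc_22_6 lc_d_rc_27_4 lc_d_rc_15_1 lc_d_rc_15_1 lc_d_rc_16_2) (@D3.rec (fun _ => (Cert rels S Gen.d)) lc_d_rc_15_1 lc_d_rc_22_6 lc_d_rc_15_1 lc_d_rc_27_10 lc_d_rc_27_10 lc_d_rc_27_2 lc_d_rc_16_4 lc_d_rc_15_1 lc_d_rc_27_8 lc_d_rc_24_5 lc_d_rc_27_10 lc_d_rc_15_1 lc_d_rc_23_8 lc_d_rc_22_6 lc_d_rc_22_2 lc_d_rc_3_1 lc_d_rc_27_2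 lc_d_rc_15_1 lc_d_rc_12_15 lc_d_rc_15_1 lc_d_rc_8_3 lc_d_rc_23_6 lc_d_rc_8_3 lc_d_rc_24_5 lc_d_rc_8_1 lc_d_rc_25_18 lc_d_rc_8_3 lc_d_rc_15_1 lc_d_rc_27_2 lc_d_rc_24_5 lc_d_rc_23_8 lc_d_rc_15_1 lc_d_rc_15_1 lc_d_rc_24_0 lc_d_rc_24_5 lc_d_rc_27_4 lc_d_rc_27_8 lc_d_rc_8_1 lc_d_rc_24_5 lc_d_rc_22_4 lc_d_rc_23_2 lc_d_rc_15_1 lc_d_rc_27_4 lc_d_rc_27_4 lc_d_rc_16_0 lc_d_Cert_tree lc_d_rc_15_1 lc_d_rc_22_6 lc_d_rc_16_0 lc_d_rc_15_1 lc_d_rc_17_2 lc_d_rc_15_1 lc_d_Cert_tree lc_d_rc_15_1 lc_d_rc_16_0 lc_d_rc_17_0 lc_d_rc_24_0 lc_d_rc_27_4 lc_d_rc_8_3 lc_d_rc_27_8 lc_d_rc_27_4 lc_d_rc_27_2) (@D3.rec (fun _ => (Cert rels S Gen.d)) lc_d_rc_3_3 lc_d_rc_15_1 lc_d_rc_8_3 lc_d_rc_24_0 lc_d_rc_27_2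 lc_d_rc_15_1 lc_d_rc_15_1 lc_d_rc_27_4 lc_d_rc_15_1 lc_d_rc_16_2 lc_d_rc_16_4 lc_d_rc_15_1 lc_d_rc_27_10 lc_d_rc_17_2 lc_d_rc_16_4 lc_d_rc_15_1 lc_d_rc_15_1 lc_d_rc_22_6 lc_d_rc_16_2 lc_d_rc_15_1 lc_d_rc_8_3 lc_d_rc_15_1 lc_d_rc_15_1 lc_d_rc_27_4 lc_d_rc_8_3 lc_d_rc_15_1 lc_d_rc_15_1 lc_d_rc_27_2 lc_d_rc_15_1 lc_d_rc_15_1 lc_d_rc_16_4 lc_d_rc_16_2 lc_d_rc_15_1 lc_d_rc_3_3 lc_d_rc_15_1 lc_d_rc_15_1 lc_d_rc_15_1 lc_d_rc_22_2 lc_d_rc_8_1 lc_d_rc_25_2 lc_d_rc_8_3 lc_d_rc_27_2 lc_d_rc_16_0 lc_d_rc_15_1 lc_d_rc_17_2 lc_d_rc_22_6 lc_d_rc_22_4 lc_d_rc_8_3 lc_d_rc_27_2 lc_d_rc_24_0 lc_d_rc_15_1 lc_d_rc_27_10 lc_d_rc_8_3 lc_d_rc_22_2 lc_d_rc_15_1 lc_d_rc_27_2 lc_d_rc_15_1 lc_d_rc_16_2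 lc_d_rc_25_2 lc_d_rc_22_2 lc_d_rc_3_1 lc_d_rc_15_1) (@D3.rec (fun _ => (Cert rels S Gen.d)) lc_d_rc_8_3 lc_d_rc_8_1 lc_d_rc_27_2 lc_d_rc_15_1 lc_d_rc_24_5 lc_d_rc_8_1 lc_d_rc_8_3 lc_d_rc_27_4 lc_d_rc_8_3 lc_d_rc_8_3 lc_d_rc_27_2 lc_d_rc_27_4 lc_d_rc_15_1 lc_d_rc_8_3 lc_d_rc_15_1 lc_d_rc_22_2 lc_d_rc_17_2 lc_d_rc_27_4 lc_d_Cert_tree lc_d_rc_27_2 lc_d_rc_15_1 lc_d_rc_8_1 lc_d_rc_15_1 lc_d_rc_27_4 lc_d_rc_15_1 lc_d_rc_27_2 lc_d_rc_15_1 lc_d_rc_22_4 lc_d_rc_17_2 lc_d_rc_15_1 lc_d_rc_15_1 lc_d_rc_15_1 lc_d_rc_16_2 lc_d_rc_3_3 lc_d_rc_16_4 lc_d_rc_15_1 lc_d_rc_27_4 lc_d_rc_8_3 lc_d_rc_3_1 lc_d_rc_15_1 lc_d_rc_8_3 lc_d_rc_22_8 lc_d_rc_22_2 lc_d_rc_15_1 lc_d_rc_17_2 lc_d_rc_8_3 lc_d_rc_16_4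 lc_d_rc_3_3 lc_d_rc_17_2 lc_d_rc_16_2 lc_d_rc_15_1 lc_d_rc_15_1 lc_d_rc_15_1 lc_d_rc_15_1 lc_d_rc_22_4 lc_d_rc_23_2 lc_d_rc_15_1 lc_d_rc_3_3 lc_d_rc_27_4 lc_d_rc_27_8 lc_d_rc_15_1 lc_d_rc_8_3) (@D3.rec (fun _ => (Cert rels S Gen.d)) lc_d_rc_15_1 lc_d_rc_15_1 lc_d_rc_15_1 lc_d_rc_22_4 lc_d_rc_15_1 lc_d_rc_15_1 lc_d_rc_15_1 lc_d_rc_27_2 lc_d_rc_22_8 lc_d_rc_8_3 lc_d_rc_27_4 lc_d_rc_22_4 lc_d_rc_8_3 lc_d_rc_15_1 lc_d_rc_15_1 lc_d_rc_15_1 lc_d_rc_15_1 lc_d_rc_3_1 lc_d_rc_15_1 lc_d_rc_16_2 lc_d_rc_15_1 lc_d_rc_27_2 lc_d_rc_15_1 lc_d_rc_22_6 lc_d_rc_22_4 lc_d_Cert_tree lc_d_rc_15_1 lc_d_rc_15_1 lc_d_rc_15_1 lc_d_rc_23_4 lc_d_rc_17_2 lc_d_rc_15_1 lc_d_rc_8_3 lc_d_rc_8_3 lc_d_rc_22_6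 lc_d_rc_15_1 lc_d_rc_8_1 lc_d_rc_23_6 lc_d_rc_15_1 lc_d_rc_16_2 lc_d_rc_27_4 lc_d_Cert_tree lc_d_rc_27_10 lc_d_Cert_tree lc_d_rc_15_1 lc_d_rc_17_2 lc_d_rc_24_5 lc_d_rc_22_6 lc_d_rc_17_2 lc_d_rc_15_1 lc_d_rc_27_2 lc_d_rc_16_0 lc_d_rc_12_1 lc_d_rc_23_2 lc_d_rc_8_1 lc_d_rc_15_1 lc_d_rc_16_4 lc_d_rc_8_3 lc_d_rc_12_1 lc_d_rc_8_3 lc_d_rc_12_1 lc_d_rc_17_2) (@D3.rec (fun _ => (Cert rels S Gen.d)) lc_d_Cert_tree lc_d_rc_3_1 lc_d_rc_15_1 lc_d_rc_16_2 lc_d_rc_27_8 lc_d_rc_15_1 lc_d_rc_22_4 lc_d_rc_27_8 lc_d_rc_15_1 lc_d_rc_25_10 lc_d_rc_15_1 lc_d_rc_22_4 lc_d_rc_16_4 lc_d_rc_23_6 lc_d_rc_16_2 lc_d_rc_8_1 lc_d_rc_8_1 lc_d_rc_16_4 lc_d_rc_17_2 lc_d_rc_15_1 lc_d_rc_15_1 lc_d_rc_22_4 lc_d_rc_15_1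 lc_d_rc_25_2 lc_d_rc_15_1 lc_d_rc_3_3 lc_d_rc_16_4 lc_d_rc_3_3 lc_d_rc_24_0 lc_d_rc_3_3 lc_d_rc_24_5 lc_d_rc_22_2 lc_d_rc_8_3 lc_d_rc_15_1 lc_d_rc_16_2 lc_d_rc_3_3 lc_d_rc_24_0 lc_d_rc_24_5 lc_d_rc_22_6 lc_d_rc_25_14 lc_d_rc_12_1 lc_d_rc_23_2 lc_d_rc_23_6 lc_d_rc_27_2 lc_d_rc_8_3 lc_d_Cert_tree lc_d_Cert_tree lc_d_rc_15_1 lc_d_rc_23_6 lc_d_rc_23_6 lc_d_rc_22_6 lc_d_rc_24_0 lc_d_rc_15_1 lc_d_rc_15_1 lc_d_rc_8_1 lc_d_rc_8_3 lc_d_rc_17_2 lc_d_rc_16_4 lc_d_rc_16_2 lc_d_rc_16_2 lc_d_rc_27_10 lc_d_rc_17_0) (@D3.rec (fun _ => (Cert rels S Gen.d)) lc_d_rc_15_1 lc_d_rc_16_4 lc_d_rc_3_1 lc_d_rc_16_4 lc_d_Cert_tree lc_d_rc_15_1 lc_d_rc_8_1 lc_d_rc_27_8 lc_d_rc_8_3 lc_d_rc_16_4 lc_d_Cert_tree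 lc_d_Cert_tree lc_d_rc_15_1 lc_d_rc_15_1 lc_d_rc_22_6 lc_d_rc_27_2 lc_d_rc_15_1 lc_d_rc_24_0 lc_d_rc_24_5 lc_d_rc_15_1 lc_d_rc_15_1 lc_d_rc_16_4 lc_d_rc_23_2 lc_d_rc_23_8 lc_d_rc_22_2 lc_d_rc_15_1 lc_d_rc_27_10 lc_d_rc_16_4 lc_d_rc_3_3 lc_d_rc_17_2 lc_d_rc_15_1 lc_d_rc_15_1 lc_d_rc_25_10 lc_d_rc_15_1 lc_d_rc_15_1 lc_d_rc_12_3 lc_d_rc_8_3 lc_d_rc_24_5 lc_d_rc_16_4 lc_d_rc_15_1 lc_d_rc_8_3 lc_d_rc_12_15 lc_d_rc_22_4 lc_d_rc_8_1 lc_d_rc_15_1 lc_d_rc_22_4 lc_d_rc_15_1 lc_d_rc_15_1 lc_d_rc_23_4 lc_d_rc_15_1 lc_d_rc_27_10 lc_d_rc_24_5 lc_d_rc_22_8 lc_d_rc_24_0 lc_d_rc_8_3 lc_d_rc_22_4 lc_d_rc_22_2 lc_d_rc_3_3 lc_d_rc_15_1 lc_d_rc_27_4 lc_d_rc_15_1 lc_d_rc_15_1) (@D3.rec (fun _ =>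 (Cert rels S Gen.d)) lc_d_rc_25_10 lc_d_rc_27_10 lc_d_rc_8_3 lc_d_rc_8_3 lc_d_rc_8_3 lc_d_rc_22_4 lc_d_rc_23_2 lc_d_rc_15_1 lc_d_rc_15_1 lc_d_rc_17_0 lc_d_rc_23_2 lc_d_rc_17_2 lc_d_rc_17_2 lc_d_rc_15_1 lc_d_rc_25_18 lc_d_rc_15_1 lc_d_rc_3_1 lc_d_rc_27_4 lc_d_rc_22_4 lc_d_rc_23_4 lc_d_rc_15_1 lc_d_rc_24_5 lc_d_rc_15_1 lc_d_rc_3_3 lc_d_rc_8_1 lc_d_rc_17_2 lc_d_rc_15_1 lc_d_Cert_tree lc_d_rc_15_1 lc_d_rc_8_3 lc_d_rc_16_4 lc_d_rc_23_6 lc_d_rc_22_4 lc_d_rc_22_2 lc_d_rc_15_1 lc_d_rc_22_4 lc_d_rc_23_8 lc_d_rc_16_0 lc_d_rc_15_1 lc_d_rc_23_2 lc_d_rc_15_1 lc_d_Cert_tree lc_d_Cert_tree lc_d_rc_15_1 lc_d_rc_27_2 lc_d_rc_15_1 lc_d_rc_8_3 lc_d_rc_23_4 lc_d_rc_15_1 lc_d_rc_22_4 lc_d_rc_15_1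 lc_d_rc_27_4 lc_d_Cert_tree lc_d_rc_15_1 lc_d_rc_17_2 lc_d_rc_15_1 lc_d_rc_15_1 lc_d_rc_23_4 lc_d_rc_17_2 lc_d_rc_27_2 lc_d_rc_24_0 lc_d_rc_27_2) (@D3.rec (fun _ => (Cert rels S Gen.d)) lc_d_rc_8_3 lc_d_rc_8_3 lc_d_rc_8_3 lc_d_rc_8_3 lc_d_rc_27_2 lc_d_rc_15_1 lc_d_rc_22_6 lc_d_rc_15_1 lc_d_rc_27_4 lc_d_rc_15_1 lc_d_rc_23_6 lc_d_rc_22_4 lc_d_rc_22_6 lc_d_rc_22_4 lc_d_rc_23_2 lc_d_rc_15_1 lc_d_rc_8_3 lc_d_rc_27_2 lc_d_rc_15_1 lc_d_rc_24_5 lc_d_rc_16_4 lc_d_rc_23_2 lc_d_rc_15_1 lc_d_rc_15_1 lc_d_rc_15_1 lc_d_rc_16_2 lc_d_rc_23_4 lc_d_rc_8_1 lc_d_rc_23_4 lc_d_rc_23_6 lc_d_rc_23_6 lc_d_rc_12_15 lc_d_rc_15_1 lc_d_rc_15_1 lc_d_rc_15_1 lc_d_rc_15_1 lc_d_rc_15_1 lc_d_rc_15_1 lc_d_rc_27_2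 lc_d_rc_8_1 lc_d_rc_15_1 lc_d_rc_24_5 lc_d_rc_8_3 lc_d_rc_25_18 lc_d_rc_22_8 lc_d_rc_27_2 lc_d_rc_15_1 lc_d_rc_8_3 lc_d_rc_16_4 lc_d_rc_27_4 lc_d_rc_8_3 lc_d_rc_15_1 lc_d_rc_8_1 lc_d_rc_15_1 lc_d_rc_15_1 lc_d_rc_8_1 lc_d_rc_15_1 lc_d_rc_15_1 lc_d_rc_25_14 lc_d_rc_24_5 lc_d_rc_17_2 lc_d_rc_15_1) (@D3.rec (fun _ => (Cert rels S Gen.d)) lc_d_rc_16_2 lc_d_rc_27_2 lc_d_rc_15_1 lc_d_rc_12_15 lc_d_rc_23_2 lc_d_rc_8_3 lc_d_rc_15_1 lc_d_rc_15_1 lc_d_rc_3_3 lc_d_rc_15_1 lc_d_rc_16_4 lc_d_rc_15_1 lc_d_rc_8_1 lc_d_rc_15_1 lc_d_rc_8_1 lc_d_rc_3_3 lc_d_rc_12_15 lc_d_rc_15_1 lc_d_rc_24_0 lc_d_rc_15_1 lc_d_rc_15_1 lc_d_rc_24_0 lc_d_rc_15_1 lc_d_rc_16_2 lc_d_rc_24_0 lc_d_rc_22_6 lc_d_rc_27_4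 lc_d_rc_15_1 lc_d_rc_15_1 lc_d_rc_23_8 lc_d_rc_8_3 lc_d_rc_23_2 lc_d_rc_27_2 lc_d_rc_27_10 lc_d_rc_22_4 lc_d_rc_17_2 lc_d_rc_15_1 lc_d_rc_15_1 lc_d_rc_3_3 lc_d_rc_15_1 lc_d_rc_24_0 lc_d_rc_27_10 lc_d_rc_15_1 lc_d_rc_24_5 lc_d_rc_24_5 lc_d_rc_24_0 lc_d_rc_16_4 lc_d_rc_15_1 lc_d_rc_27_2 lc_d_rc_15_1 lc_d_rc_23_6 lc_d_rc_23_6 lc_d_rc_8_3 lc_d_rc_22_2 lc_d_rc_8_3 lc_d_rc_16_4 lc_d_rc_15_1 lc_d_rc_15_1 lc_d_rc_8_3 lc_d_rc_27_4 lc_d_rc_15_1 lc_d_rc_8_1) (@D3.rec (fun _ => (Cert rels S Gen.d)) lc_d_rc_15_1 lc_d_rc_15_1 lc_d_rc_23_6 lc_d_rc_25_2 lc_d_rc_8_3 lc_d_rc_15_1 lc_d_rc_15_1 lc_d_rc_16_4 lc_d_rc_22_8 lc_d_Cert_tree lc_d_rc_8_1 lc_d_rc_8_3 lc_d_rc_17_2 lc_d_rc_15_1 lc_d_rc_16_2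 lc_d_rc_15_1 lc_d_rc_23_8 lc_d_rc_8_3 lc_d_rc_8_3 lc_d_rc_27_2 lc_d_rc_8_3 lc_d_rc_8_3 lc_d_rc_27_2 lc_d_rc_27_10 lc_d_rc_15_1 lc_d_rc_3_1 lc_d_rc_15_1 lc_d_rc_17_2 lc_d_rc_15_1 lc_d_rc_15_1 lc_d_rc_3_3 lc_d_rc_15_1 lc_d_rc_24_0 lc_d_rc_27_2 lc_d_Cert_tree lc_d_rc_22_6 lc_d_rc_15_1 lc_d_rc_27_4 lc_d_rc_15_1 lc_d_rc_15_1 lc_d_rc_23_2 lc_d_rc_17_2 lc_d_rc_22_2 lc_d_rc_27_8 lc_d_rc_15_1 lc_d_rc_8_3 lc_d_rc_15_1 lc_d_rc_22_4 lc_d_rc_24_5 lc_d_rc_27_8 lc_d_rc_15_1 lc_d_rc_15_1 lc_d_rc_17_0 lc_d_rc_25_18 lc_d_rc_25_18 lc_d_rc_27_2 lc_d_rc_15_1 lc_d_rc_15_1 lc_d_rc_16_2 lc_d_rc_15_1 lc_d_rc_15_1 lc_d_rc_3_1) (@D3.rec (fun _ => (Cert rels S Gen.d)) lc_d_rc_27_2 lc_d_rc_17_2 lc_d_rc_17_2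 lc_d_rc_22_8 lc_d_rc_25_14 lc_d_rc_27_10 lc_d_rc_15_1 lc_d_rc_16_2 lc_d_rc_27_4 lc_d_rc_3_3 lc_d_rc_16_4 lc_d_rc_8_3 lc_d_rc_22_4 lc_d_rc_15_1 lc_d_rc_27_10 lc_d_rc_3_1 lc_d_rc_8_3 lc_d_rc_8_3 lc_d_rc_15_1 lc_d_rc_16_4 lc_d_rc_12_3 lc_d_rc_15_1 lc_d_rc_27_2 lc_d_rc_27_8 lc_d_rc_27_10 lc_d_rc_16_4 lc_d_rc_22_2 lc_d_rc_8_1 lc_d_rc_16_4 lc_d_rc_3_3 lc_d_rc_24_0 lc_d_rc_8_3 lc_d_rc_24_5 lc_d_rc_27_2 lc_d_rc_24_0 lc_d_rc_15_1 lc_d_rc_8_3 lc_d_rc_16_2 lc_d_Cert_tree lc_d_rc_16_0 lc_d_rc_15_1 lc_d_rc_3_3 lc_d_rc_8_1 lc_d_rc_27_8 lc_d_rc_25_18 lc_d_rc_8_3 lc_d_rc_25_18 lc_d_rc_15_1 lc_d_rc_23_4 lc_d_rc_8_3 lc_d_rc_16_4 lc_d_rc_16_0 lc_d_rc_27_10 lc_d_rc_15_1 lc_d_rc_8_3 lc_d_Cert_tree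 lc_d_rc_3_1 lc_d_rc_15_1 lc_d_rc_3_3 lc_d_rc_27_2 lc_d_rc_25_14 lc_d_rc_15_1) (@D3.rec (fun _ => (Cert rels S Gen.d)) lc_d_rc_16_4 lc_d_rc_8_3 lc_d_rc_25_18 lc_d_rc_15_1 lc_d_rc_15_1 lc_d_rc_17_2 lc_d_Cert_tree lc_d_Cert_tree lc_d_rc_15_1 lc_d_rc_22_4 lc_d_rc_16_4 lc_d_rc_27_10 lc_d_rc_15_1 lc_d_rc_16_0 lc_d_rc_8_3 lc_d_rc_27_4 lc_d_rc_3_3 lc_d_rc_8_3 lc_d_rc_24_0 lc_d_rc_3_3 lc_d_rc_15_1 lc_d_rc_3_3 lc_d_Cert_tree lc_d_rc_27_8 lc_d_rc_16_0 lc_d_rc_3_3 lc_d_rc_16_0 lc_d_rc_16_0 lc_d_rc_15_1 lc_d_rc_17_2 lc_d_rc_23_4 lc_d_rc_3_1 lc_d_rc_15_1 lc_d_rc_24_0 lc_d_rc_8_3 lc_d_rc_24_5 lc_d_rc_27_4 lc_d_rc_8_3 lc_d_rc_23_2 lc_d_rc_8_3 lc_d_rc_15_1 lc_d_Cert_tree lc_d_rc_8_3 lc_d_rc_16_2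 lc_d_rc_27_8 lc_d_rc_22_4 lc_d_rc_16_4 lc_d_rc_3_3 lc_d_rc_22_8 lc_d_rc_3_3 lc_d_Cert_tree lc_d_rc_15_1 lc_d_rc_15_1 lc_d_rc_15_1 lc_d_rc_17_2 lc_d_rc_22_8 lc_d_rc_27_2 lc_d_rc_8_3 lc_d_rc_8_3 lc_d_rc_23_6 lc_d_rc_16_0 lc_d_rc_15_1) (@D3.rec (fun _ => (Cert rels S Gen.d)) lc_d_rc_23_4 lc_d_rc_27_4 lc_d_rc_22_6 lc_d_rc_22_6 lc_d_rc_27_10 lc_d_rc_15_1 lc_d_rc_15_1 lc_d_rc_16_4 lc_d_rc_17_2 lc_d_rc_15_1 lc_d_Cert_tree lc_d_rc_15_1 lc_d_rc_22_4 lc_d_rc_8_3 lc_d_rc_15_1 lc_d_rc_15_1 lc_d_rc_17_2 lc_d_rc_15_1 lc_d_rc_23_6 lc_d_rc_23_2 lc_d_rc_8_1 lc_d_rc_15_1 lc_d_rc_8_1 lc_d_rc_15_1 lc_d_rc_8_3 lc_d_rc_15_1 lc_d_rc_8_3 lc_d_rc_23_6 lc_d_rc_27_2 lc_d_rc_8_3 lc_d_rc_3_1 lc_d_rc_15_1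 lc_d_rc_15_1 lc_d_rc_22_2 lc_d_rc_23_2 lc_d_rc_3_3 lc_d_rc_15_1 lc_d_rc_3_1 lc_d_rc_22_2 lc_d_rc_15_1 lc_d_rc_8_1 lc_d_rc_15_1 lc_d_rc_17_0 lc_d_rc_24_0 lc_d_rc_15_1 lc_d_rc_8_3 lc_d_rc_15_1 lc_d_rc_17_2 lc_d_rc_15_1 lc_d_rc_22_4 lc_d_rc_17_2 lc_d_rc_27_10 lc_d_rc_15_1 lc_d_rc_15_1 lc_d_rc_15_1 lc_d_rc_15_1 lc_d_rc_25_14 lc_d_rc_15_1 lc_d_rc_15_1 lc_d_rc_27_2 lc_d_rc_8_3 lc_d_rc_22_2) (@D3.rec (fun _ => (Cert rels S Gen.d)) lc_d_rc_16_4 lc_d_rc_24_5 lc_d_rc_8_3 lc_d_rc_8_1 lc_d_rc_15_1 lc_d_rc_15_1 lc_d_rc_27_10 lc_d_rc_23_4 lc_d_rc_15_1 lc_d_rc_23_4 lc_d_rc_24_0 lc_d_rc_27_2 lc_d_rc_23_6 lc_d_rc_24_0 lc_d_rc_23_6 lc_d_rc_12_13 lc_d_rc_15_1 lc_d_rc_15_1 lc_d_rc_27_4 lc_d_rc_15_1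 lc_d_rc_24_5 lc_d_rc_15_1 lc_d_rc_15_1 lc_d_rc_27_4 lc_d_rc_15_1 lc_d_rc_15_1 lc_d_rc_15_1 lc_d_rc_27_8 lc_d_rc_12_1 lc_d_rc_8_3 lc_d_rc_23_4 lc_d_rc_15_1 lc_d_rc_15_1 lc_d_rc_16_4 lc_d_rc_15_1 lc_d_rc_23_8 lc_d_rc_3_3 lc_d_rc_8_3 lc_d_rc_15_1 lc_d_rc_27_4 lc_d_rc_24_5 lc_d_rc_15_1 lc_d_rc_22_2 lc_d_Cert_tree lc_d_rc_15_1 lc_d_rc_22_6 lc_d_rc_15_1 lc_d_rc_24_0 lc_d_rc_15_1 lc_d_Cert_tree lc_d_rc_27_2 lc_d_rc_25_14 lc_d_rc_23_4 lc_d_rc_8_3 lc_d_rc_23_4 lc_d_rc_25_10 lc_d_rc_27_4 lc_d_rc_24_0 lc_d_rc_15_1 lc_d_rc_15_1 lc_d_rc_8_3 lc_d_rc_27_4) (@D3.rec (fun _ => (Cert rels S Gen.d)) lc_d_rc_15_1 lc_d_rc_23_8 lc_d_rc_15_1 lc_d_rc_27_4 lc_d_rc_27_8 lc_d_rc_15_1 lc_d_rc_16_4 lc_d_rc_24_0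 lc_d_rc_15_1 lc_d_rc_27_10 lc_d_rc_15_1 lc_d_rc_16_4 lc_d_rc_16_4 lc_d_rc_23_2 lc_d_rc_24_5 lc_d_rc_3_1 lc_d_rc_8_3 lc_d_rc_8_3 lc_d_rc_27_10 lc_d_rc_27_2 lc_d_Cert_tree lc_d_rc_17_2 lc_d_rc_15_1 lc_d_rc_23_6 lc_d_rc_3_3 lc_d_rc_8_3 lc_d_rc_15_1 lc_d_rc_24_0 lc_d_rc_16_2 lc_d_rc_15_1 lc_d_rc_3_3 lc_d_rc_23_4 lc_d_rc_16_4 lc_d_rc_15_1 lc_d_rc_8_1 lc_d_rc_23_6 lc_d_rc_15_1 lc_d_rc_15_1 lc_d_rc_3_3 lc_d_rc_22_8 lc_d_rc_24_0 lc_d_rc_24_0 lc_d_rc_15_1 lc_d_rc_27_4 lc_d_rc_23_6 lc_d_rc_22_8 lc_d_rc_15_1 lc_d_rc_8_3 lc_d_rc_15_1 lc_d_rc_16_4 lc_d_rc_25_2 lc_d_rc_15_1 lc_d_rc_27_2 lc_d_rc_27_8 lc_d_rc_27_2 lc_d_rc_27_2 lc_d_rc_8_3 lc_d_rc_15_1 lc_d_rc_16_2 lc_d_rc_27_10 lc_d_rc_15_1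 lc_d_rc_15_1) (@D3.rec (fun _ => (Cert rels S Gen.d)) lc_d_rc_24_0 lc_d_rc_15_1 lc_d_rc_27_2 lc_d_rc_15_1 lc_d_rc_22_2 lc_d_rc_17_2 lc_d_rc_27_10 lc_d_rc_15_1 lc_d_rc_17_2 lc_d_rc_24_0 lc_d_rc_15_1 lc_d_rc_3_3 lc_d_rc_22_6 lc_d_rc_27_10 lc_d_rc_15_1 lc_d_rc_27_2 lc_d_rc_27_8 lc_d_rc_23_8 lc_d_rc_15_1 lc_d_rc_16_0 lc_d_rc_15_1 lc_d_rc_27_2 lc_d_rc_22_4 lc_d_rc_15_1 lc_d_rc_27_4 lc_d_rc_25_18 lc_d_rc_17_2 lc_d_rc_27_4 lc_d_rc_27_10 lc_d_rc_15_1 lc_d_rc_22_4 lc_d_rc_17_2 lc_d_rc_24_5 lc_d_rc_16_4 lc_d_rc_22_4 lc_d_Cert_tree lc_d_rc_15_1 lc_d_rc_15_1 lc_d_rc_15_1 lc_d_rc_27_2 lc_d_rc_15_1 lc_d_rc_12_1 lc_d_rc_23_4 lc_d_rc_16_4 lc_d_rc_15_1 lc_d_rc_15_1 lc_d_rc_12_1 lc_d_rc_17_2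 lc_d_rc_17_2 lc_d_rc_27_10 lc_d_Cert_tree lc_d_rc_15_1 lc_d_rc_27_4 lc_d_rc_15_1 lc_d_rc_15_1 lc_d_rc_22_4 lc_d_rc_17_2 lc_d_rc_15_1 lc_d_rc_15_1 lc_d_rc_15_1 lc_d_Cert_tree lc_d_rc_27_4) (@D3.rec (fun _ => (Cert rels S Gen.d)) lc_d_rc_27_10 lc_d_rc_15_1 lc_d_rc_23_4 lc_d_rc_3_3 lc_d_rc_27_4 lc_d_rc_17_2 lc_d_rc_15_1 lc_d_rc_23_2 lc_d_rc_15_1 lc_d_rc_17_2 lc_d_rc_16_4 lc_d_rc_23_8 lc_d_rc_15_1 lc_d_rc_17_2 lc_d_rc_17_2 lc_d_rc_17_2 lc_d_rc_27_4 lc_d_rc_15_1 lc_d_rc_15_1 lc_d_rc_15_1 lc_d_rc_17_2 lc_d_rc_16_2 lc_d_rc_15_1 lc_d_Cert_tree lc_d_rc_15_1 lc_d_rc_27_4 lc_d_rc_23_4 lc_d_rc_15_1 lc_d_rc_22_4 lc_d_rc_15_1 lc_d_rc_8_3 lc_d_rc_16_4 lc_d_rc_8_3 lc_d_rc_15_1 lc_d_rc_27_4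 lc_d_rc_15_1 lc_d_rc_16_4 lc_d_rc_27_4 lc_d_rc_22_4 lc_d_rc_22_4 lc_d_rc_24_5 lc_d_rc_15_1 lc_d_rc_22_4 lc_d_rc_15_1 lc_d_rc_27_8 lc_d_rc_27_2 lc_d_rc_8_3 lc_d_rc_16_4 lc_d_rc_16_4 lc_d_rc_16_4 lc_d_rc_15_1 lc_d_rc_27_10 lc_d_rc_15_1 lc_d_rc_23_4 lc_d_rc_27_8 lc_d_rc_16_2 lc_d_rc_8_3 lc_d_rc_22_4 lc_d_rc_8_3 lc_d_rc_8_3 lc_d_rc_8_1 lc_d_rc_3_1) (@D3.rec (fun _ => (Cert rels S Gen.d)) lc_d_rc_22_8 lc_d_rc_15_1 lc_d_rc_15_1 lc_d_rc_16_4 lc_d_rc_22_2 lc_d_rc_15_1 lc_d_rc_12_15 lc_d_rc_15_1 lc_d_rc_23_6 lc_d_rc_8_3 lc_d_rc_17_2 lc_d_rc_23_4 lc_d_rc_15_1 lc_d_rc_3_1 lc_d_rc_27_2 lc_d_rc_27_4 lc_d_rc_15_1 lc_d_rc_27_10 lc_d_rc_17_2 lc_d_rc_27_2 lc_d_rc_15_1 lc_d_rc_24_0 lc_d_rc_17_2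 lc_d_rc_22_4 lc_d_rc_15_1 lc_d_rc_22_4 lc_d_rc_27_10 lc_d_rc_16_0 lc_d_rc_15_1 lc_d_rc_23_2 lc_d_rc_15_1 lc_d_rc_15_1 lc_d_rc_15_1 lc_d_rc_27_8 lc_d_rc_15_1 lc_d_rc_12_15 lc_d_rc_8_3 lc_d_rc_15_1 lc_d_rc_24_5 lc_d_Cert_tree lc_d_rc_15_1 lc_d_rc_8_1 lc_d_rc_15_1 lc_d_rc_27_4 lc_d_rc_25_6 lc_d_rc_15_1 lc_d_rc_17_2 lc_d_rc_15_1 lc_d_rc_8_3 lc_d_rc_12_15 lc_d_rc_15_1 lc_d_rc_15_1 lc_d_rc_8_3 lc_d_rc_3_3 lc_d_rc_23_4 lc_d_rc_16_4 lc_d_rc_15_1 lc_d_rc_27_4 lc_d_rc_15_1 lc_d_rc_27_2 lc_d_rc_22_6 lc_d_rc_15_1) (@D3.rec (fun _ => (Cert rels S Gen.d)) lc_d_rc_22_8 lc_d_rc_15_1 lc_d_rc_15_1 lc_d_Cert_tree lc_d_rc_15_1 lc_d_rc_23_8 lc_d_rc_3_3 lc_d_rc_27_2 lc_d_Cert_tree lc_d_rc_15_1 lc_d_rc_15_1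 lc_d_rc_24_0 lc_d_rc_15_1 lc_d_rc_27_4 lc_d_rc_23_4 lc_d_rc_15_1 lc_d_rc_27_8 lc_d_rc_15_1 lc_d_rc_3_3 lc_d_rc_23_2 lc_d_rc_15_1 lc_d_rc_17_2 lc_d_rc_12_3 lc_d_rc_3_3 lc_d_rc_8_3 lc_d_rc_16_4 lc_d_rc_17_2 lc_d_rc_16_4 lc_d_rc_16_4 lc_d_rc_3_3 lc_d_rc_3_3 lc_d_rc_27_8 lc_d_rc_15_1 lc_d_rc_24_0 lc_d_rc_24_0 lc_d_rc_16_4 lc_d_rc_27_2 lc_d_rc_24_0 lc_d_rc_8_3 lc_d_rc_15_1 lc_d_rc_15_1 lc_d_rc_8_3 lc_d_rc_16_0 lc_d_rc_15_1 lc_d_rc_8_3 lc_d_rc_15_1 lc_d_rc_16_4 lc_d_rc_8_3 lc_d_rc_27_4 lc_d_Cert_tree lc_d_Cert_tree lc_d_rc_15_1 lc_d_rc_22_6 lc_d_Cert_tree lc_d_rc_16_4 lc_d_rc_15_1 lc_d_rc_3_3 lc_d_rc_15_1 lc_d_rc_27_10 lc_d_rc_3_3 lc_d_rc_15_1 lc_d_rc_16_0) (@D3.rec (fun _ => (Cert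 rels S Gen.d)) lc_d_rc_15_1 lc_d_rc_23_4 lc_d_rc_8_3 lc_d_rc_24_5 lc_d_rc_16_2 lc_d_rc_8_3 lc_d_rc_24_5 lc_d_rc_15_1 lc_d_rc_23_2 lc_d_rc_27_8 lc_d_rc_15_1 lc_d_rc_22_6 lc_d_rc_16_4 lc_d_rc_23_8 lc_d_rc_27_10 lc_d_rc_16_2 lc_d_rc_12_1 lc_d_rc_15_1 lc_d_rc_15_1 lc_d_rc_8_3 lc_d_rc_27_4 lc_d_rc_8_1 lc_d_rc_15_1 lc_d_rc_15_1 lc_d_rc_17_0 lc_d_rc_16_0 lc_d_rc_16_4 lc_d_rc_17_2 lc_d_rc_27_10 lc_d_rc_8_3 lc_d_rc_23_2 lc_d_rc_8_3 lc_d_rc_22_2 lc_d_rc_17_2 lc_d_rc_23_8 lc_d_rc_8_3 lc_d_rc_8_3 lc_d_rc_8_1 lc_d_rc_22_6 lc_d_rc_16_4 lc_d_rc_8_3 lc_d_rc_8_3 lc_d_rc_27_4 lc_d_rc_24_0 lc_d_rc_15_1 lc_d_rc_15_1 lc_d_rc_15_1 lc_d_rc_15_1 lc_d_rc_8_3 lc_d_rc_15_1 lc_d_rc_3_3 lc_d_rc_15_1 lc_d_rc_16_4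 lc_d_Cert_tree lc_d_rc_15_1 lc_d_rc_27_8 lc_d_rc_16_4 lc_d_rc_15_1 lc_d_rc_15_1 lc_d_rc_24_5 lc_d_rc_15_1 lc_d_rc_24_0) (@D3.rec (fun _ => (Cert rels S Gen.d)) lc_d_rc_15_1 lc_d_rc_27_10 lc_d_rc_22_6 lc_d_rc_15_1 lc_d_rc_16_0 lc_d_rc_22_4 lc_d_rc_17_2 lc_d_rc_16_2 lc_d_rc_15_1 lc_d_rc_22_4 lc_d_rc_22_6 lc_d_rc_8_1 lc_d_rc_27_10 lc_d_rc_25_10 lc_d_rc_23_4 lc_d_rc_27_4 lc_d_rc_22_4 lc_d_rc_22_4 lc_d_rc_8_3 lc_d_rc_15_1 lc_d_rc_22_6 lc_d_rc_15_1 lc_d_rc_16_2 lc_d_rc_15_1 lc_d_rc_23_6 lc_d_rc_16_0 lc_d_rc_16_4 lc_d_rc_27_4 lc_d_rc_17_2 lc_d_rc_22_6 lc_d_rc_27_10 lc_d_rc_27_10 lc_d_rc_15_1 lc_d_rc_15_1 lc_d_rc_16_0 lc_d_rc_15_1 lc_d_rc_15_1 lc_d_rc_3_1 lc_d_rc_8_1 lc_d_rc_23_4 lc_d_rc_15_1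 lc_d_rc_22_2 lc_d_rc_24_5 lc_d_rc_27_8 lc_d_rc_15_1 lc_d_rc_15_1 lc_d_rc_15_1 lc_d_rc_23_4 lc_d_rc_8_1 lc_d_rc_15_1 lc_d_rc_3_3 lc_d_rc_3_3 lc_d_rc_15_1 lc_d_rc_16_2 lc_d_rc_22_4 lc_d_rc_17_2 lc_d_rc_3_3 lc_d_rc_27_8 lc_d_Cert_tree lc_d_rc_16_4 lc_d_rc_15_1 lc_d_rc_24_5) (@D3.rec (fun _ => (Cert rels S Gen.d)) lc_d_rc_15_1 lc_d_rc_27_4 lc_d_rc_15_1 lc_d_rc_27_2 lc_d_rc_24_5 lc_d_rc_16_0 lc_d_rc_15_1 lc_d_rc_16_0 lc_d_rc_24_5 lc_d_rc_24_5 lc_d_rc_8_3 lc_d_rc_17_2 lc_d_rc_3_3 lc_d_rc_27_2 lc_d_rc_3_3 lc_d_rc_16_4 lc_d_rc_12_1 lc_d_rc_15_1 lc_d_rc_27_2 lc_d_rc_15_1 lc_d_rc_3_1 lc_d_rc_8_3 lc_d_rc_8_3 lc_d_rc_23_2 lc_d_rc_23_4 lc_d_rc_23_2 lc_d_rc_24_5 lc_d_rc_15_1 lc_d_rc_15_1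 lc_d_rc_8_3 lc_d_rc_23_4 lc_d_rc_27_4 lc_d_rc_8_3 lc_d_rc_23_6 lc_d_rc_15_1 lc_d_rc_16_4 lc_d_rc_8_1 lc_d_rc_27_4 lc_d_rc_15_1 lc_d_rc_15_1 lc_d_rc_16_2 lc_d_rc_15_1 lc_d_rc_16_4 lc_d_rc_8_1 lc_d_rc_8_3 lc_d_rc_15_1 lc_d_rc_24_0 lc_d_rc_27_4 lc_d_rc_8_3 lc_d_rc_8_3 lc_d_rc_8_3 lc_d_rc_8_3 lc_d_rc_16_4 lc_d_rc_8_1 lc_d_rc_15_1 lc_d_Cert_tree lc_d_Cert_tree lc_d_rc_15_1 lc_d_rc_15_1 lc_d_rc_27_4 lc_d_rc_15_1 lc_d_rc_15_1) (@D3.rec (fun _ => (Cert rels S Gen.d)) lc_d_rc_27_2 lc_d_Cert_tree lc_d_rc_15_1 lc_d_rc_16_4 lc_d_rc_15_1 lc_d_rc_8_3 lc_d_rc_27_10 lc_d_rc_16_2 lc_d_rc_16_0 lc_d_rc_3_3 lc_d_rc_8_3 lc_d_rc_23_4 lc_d_rc_15_1 lc_d_rc_16_2 lc_d_rc_25_6 lc_d_rc_3_3 lc_d_rc_8_3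 lc_d_rc_17_2 lc_d_rc_24_5 lc_d_rc_27_2 lc_d_rc_15_1 lc_d_rc_15_1 lc_d_rc_27_4 lc_d_rc_15_1 lc_d_rc_23_2 lc_d_rc_3_3 lc_d_rc_22_2 lc_d_rc_22_4 lc_d_rc_8_3 lc_d_rc_8_3 lc_d_rc_27_10 lc_d_rc_27_4 lc_d_rc_27_2 lc_d_rc_24_5 lc_d_rc_15_1 lc_d_rc_15_1 lc_d_rc_17_2 lc_d_rc_3_1 lc_d_rc_15_1 lc_d_rc_22_6 lc_d_rc_27_2 lc_d_rc_24_5 lc_d_rc_22_6 lc_d_rc_22_6 lc_d_rc_12_3 lc_d_rc_15_1 lc_d_rc_27_4 lc_d_rc_15_1 lc_d_rc_16_4 lc_d_rc_15_1 lc_d_rc_23_8 lc_d_rc_27_2 lc_d_Cert_tree lc_d_rc_15_1 lc_d_rc_15_1 lc_d_rc_15_1 lc_d_rc_16_2 lc_d_rc_17_0 lc_d_rc_22_4 lc_d_rc_15_1 lc_d_rc_22_2 lc_d_rc_16_0) (@D3.rec (fun _ => (Cert rels S Gen.d)) lc_d_rc_15_1 lc_d_rc_17_2 lc_d_rc_16_2 lc_d_rc_12_15 lc_d_rc_15_1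 lc_d_rc_22_4 lc_d_rc_8_1 lc_d_rc_23_4 lc_d_rc_24_0 lc_d_rc_22_4 lc_d_rc_23_2 lc_d_rc_3_3 lc_d_rc_8_3 lc_d_rc_15_1 lc_d_rc_16_0 lc_d_rc_24_5 lc_d_rc_22_6 lc_d_rc_15_1 lc_d_rc_27_10 lc_d_rc_27_4 lc_d_rc_17_2 lc_d_rc_15_1 lc_d_rc_23_8 lc_d_rc_3_3 lc_d_rc_8_3 lc_d_rc_16_2 lc_d_rc_15_1 lc_d_rc_15_1 lc_d_rc_15_1 lc_d_rc_15_1 lc_d_rc_24_0 lc_d_rc_16_4 lc_d_rc_15_1 lc_d_rc_8_3 lc_d_rc_8_1 lc_d_rc_15_1 lc_d_rc_15_1 lc_d_rc_17_2 lc_d_rc_17_2 lc_d_rc_17_0 lc_d_rc_16_4 lc_d_rc_12_15 lc_d_rc_15_1 lc_d_rc_22_4 lc_d_rc_16_2 lc_d_rc_8_3 lc_d_rc_27_2 lc_d_rc_24_0 lc_d_rc_15_1 lc_d_rc_27_8 lc_d_rc_12_15 lc_d_rc_16_0 lc_d_rc_25_18 lc_d_rc_15_1 lc_d_rc_24_0 lc_d_rc_8_1 lc_d_rc_24_5 lc_d_rc_8_1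 lc_d_rc_24_5 lc_d_rc_27_8 lc_d_rc_23_4 lc_d_rc_23_2) (@D3.rec (fun _ => (Cert rels S Gen.d)) lc_d_rc_15_1 lc_d_rc_17_2 lc_d_rc_15_1 lc_d_rc_15_1 lc_d_rc_27_4 lc_d_rc_23_6 lc_d_rc_24_0 lc_d_rc_15_1 lc_d_rc_8_3 lc_d_rc_22_8 lc_d_rc_15_1 lc_d_rc_17_2 lc_d_rc_15_1 lc_d_rc_15_1 lc_d_rc_27_4 lc_d_rc_22_4 lc_d_rc_17_2 lc_d_rc_8_1 lc_d_rc_15_1 lc_d_rc_22_4 lc_d_rc_16_2 lc_d_rc_15_1 lc_d_rc_27_4 lc_d_rc_15_1 lc_d_rc_15_1 lc_d_rc_23_2 lc_d_rc_23_2 lc_d_rc_15_1 lc_d_rc_16_2 lc_d_rc_15_1 lc_d_rc_15_1 lc_d_rc_17_2 lc_d_rc_15_1 lc_d_rc_23_6 lc_d_rc_22_8 lc_d_rc_8_3 lc_d_rc_27_8 lc_d_rc_8_3 lc_d_rc_22_6 lc_d_rc_16_4 lc_d_rc_15_1 lc_d_rc_8_3 lc_d_rc_8_3 lc_d_rc_16_4 lc_d_rc_17_2 lc_d_rc_17_2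 lc_d_rc_15_1 lc_d_Cert_tree lc_d_rc_22_8 lc_d_rc_23_4 lc_d_rc_15_1 lc_d_rc_22_2 lc_d_rc_8_3 lc_d_rc_23_6 lc_d_rc_16_2 lc_d_rc_15_1 lc_d_rc_27_10 lc_d_rc_8_3 lc_d_rc_27_2 lc_d_rc_15_1 lc_d_rc_8_3 lc_d_rc_24_0) (@D3.rec (fun _ => (Cert rels S Gen.d)) lc_d_rc_25_18 lc_d_rc_27_10 lc_d_rc_24_0 lc_d_rc_15_1 lc_d_rc_15_1 lc_d_rc_27_4 lc_d_rc_15_1 lc_d_rc_15_1 lc_d_rc_15_1 lc_d_rc_3_1 lc_d_rc_17_2 lc_d_rc_15_1 lc_d_rc_27_4 lc_d_rc_15_1 lc_d_rc_27_8 lc_d_rc_8_1 lc_d_rc_15_1 lc_d_rc_27_4 lc_d_rc_23_2 lc_d_rc_25_18 lc_d_rc_12_3 lc_d_rc_16_4 lc_d_rc_16_0 lc_d_rc_15_1 lc_d_rc_15_1 lc_d_rc_24_0 lc_d_rc_3_1 lc_d_rc_23_2 lc_d_rc_15_1 lc_d_rc_16_4 lc_d_rc_24_0 lc_d_rc_15_1 lc_d_rc_22_4 lc_d_rc_27_10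 lc_d_rc_17_2 lc_d_rc_16_2 lc_d_rc_16_4 lc_d_rc_27_2 lc_d_rc_23_8 lc_d_rc_22_2 lc_d_rc_8_1 lc_d_rc_22_4 lc_d_rc_17_2 lc_d_rc_23_4 lc_d_Cert_tree lc_d_rc_15_1 lc_d_rc_3_1 lc_d_rc_22_4 lc_d_rc_24_5 lc_d_rc_15_1 lc_d_rc_27_2 lc_d_rc_22_4 lc_d_rc_15_1 lc_d_rc_3_3 lc_d_rc_15_1 lc_d_rc_15_1 lc_d_rc_23_4 lc_d_rc_23_2 lc_d_rc_23_2 lc_d_rc_12_3 lc_d_Cert_tree lc_d_rc_15_1) (@D3.rec (fun _ => (Cert rels S Gen.d)) lc_d_rc_15_1 lc_d_rc_12_3 lc_d_rc_16_4 lc_d_rc_23_8 lc_d_rc_23_8 lc_d_rc_3_1 lc_d_rc_8_3 lc_d_rc_24_0 lc_d_rc_22_2 lc_d_rc_8_3 lc_d_Cert_tree lc_d_rc_17_2 lc_d_rc_22_4 lc_d_rc_22_4 lc_d_rc_17_0 lc_d_rc_27_2 lc_d_rc_8_3 lc_d_rc_3_3 lc_d_rc_8_3 lc_d_rc_8_3 lc_d_rc_15_1 lc_d_rc_22_2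 lc_d_rc_27_10 lc_d_rc_16_0 lc_d_rc_24_5 lc_d_rc_8_3 lc_d_rc_15_1 lc_d_rc_16_4 lc_d_rc_8_3 lc_d_rc_27_2 lc_d_rc_15_1 lc_d_rc_23_2 lc_d_rc_15_1 lc_d_rc_15_1 lc_d_rc_12_13 lc_d_rc_15_1 lc_d_Cert_tree lc_d_rc_15_1 lc_d_rc_16_0 lc_d_rc_15_1 lc_d_rc_23_2 lc_d_rc_15_1 lc_d_Cert_tree lc_d_rc_15_1 lc_d_rc_15_1 lc_d_rc_17_2 lc_d_rc_15_1 lc_d_rc_27_10 lc_d_rc_16_0 lc_d_rc_15_1 lc_d_rc_15_1 lc_d_rc_15_1 lc_d_rc_8_3 lc_d_rc_23_4 lc_d_rc_16_0 lc_d_Cert_tree lc_d_rc_27_4 lc_d_rc_25_2 lc_d_rc_12_13 lc_d_rc_27_4 lc_d_rc_15_1 lc_d_rc_22_6) (@D3.rec (fun _ => (Cert rels S Gen.d)) lc_d_rc_8_3 lc_d_rc_15_1 lc_d_rc_15_1 lc_d_rc_15_1 lc_d_rc_17_2 lc_d_rc_22_4 lc_d_rc_22_8 lc_d_rc_27_2 lc_d_rc_16_0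 lc_d_rc_15_1 lc_d_rc_8_1 lc_d_rc_27_10 lc_d_rc_15_1 lc_d_rc_25_10 lc_d_rc_17_2 lc_d_rc_16_4 lc_d_Cert_tree lc_d_rc_15_1 lc_d_rc_27_2 lc_d_rc_17_0 lc_d_rc_16_4 lc_d_rc_15_1 lc_d_rc_8_3 lc_d_rc_3_1 lc_d_Cert_tree lc_d_rc_15_1 lc_d_rc_15_1 lc_d_rc_8_3 lc_d_Cert_tree lc_d_rc_12_15 lc_d_rc_15_1 lc_d_rc_22_4 lc_d_Cert_tree lc_d_rc_15_1 lc_d_rc_27_8 lc_d_Cert_tree lc_d_rc_15_1 lc_d_rc_23_8 lc_d_rc_15_1 lc_d_rc_23_4 lc_d_rc_27_2 lc_d_rc_15_1 lc_d_rc_3_3 lc_d_rc_17_2 lc_d_rc_16_4 lc_d_rc_15_1 lc_d_rc_3_1 lc_d_rc_8_3 lc_d_rc_8_3 lc_d_rc_15_1 lc_d_rc_15_1 lc_d_rc_15_1 lc_d_rc_8_1 lc_d_rc_22_6 lc_d_rc_3_3 lc_d_rc_17_2 lc_d_Cert_tree lc_d_rc_17_2 lc_d_rc_23_6 lc_d_rc_15_1 lc_d_rc_23_6 lc_d_rc_24_0)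 (@D3.rec (fun _ => (Cert rels S Gen.d)) lc_d_rc_15_1 lc_d_rc_24_0 lc_d_rc_17_2 lc_d_rc_23_2 lc_d_rc_24_5 lc_d_rc_27_10 lc_d_rc_8_3 lc_d_rc_24_5 lc_d_rc_27_8 lc_d_rc_27_4 lc_d_rc_23_2 lc_d_rc_23_6 lc_d_Cert_tree lc_d_rc_15_1 lc_d_rc_15_1 lc_d_rc_27_4 lc_d_rc_24_5 lc_d_rc_15_1 lc_d_rc_8_3 lc_d_rc_27_2 lc_d_rc_17_2 lc_d_rc_8_3 lc_d_rc_23_6 lc_d_rc_15_1 lc_d_rc_15_1 lc_d_rc_15_1 lc_d_rc_16_0 lc_d_rc_17_0 lc_d_rc_16_4 lc_d_Cert_tree lc_d_rc_15_1 lc_d_rc_15_1 lc_d_rc_3_3 lc_d_rc_15_1 lc_d_rc_16_4 lc_d_rc_23_4 lc_d_rc_16_2 lc_d_rc_8_3 lc_d_rc_15_1 lc_d_rc_15_1 lc_d_Cert_tree lc_d_rc_23_6 lc_d_rc_23_6 lc_d_rc_8_3 lc_d_rc_27_4 lc_d_Cert_tree lc_d_rc_27_4 lc_d_rc_3_3 lc_d_rc_8_1 lc_d_rc_27_4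 lc_d_rc_8_3 lc_d_rc_25_2 lc_d_Cert_tree lc_d_rc_15_1 lc_d_rc_15_1 lc_d_rc_23_8 lc_d_rc_16_2 lc_d_rc_3_3 lc_d_rc_27_10 lc_d_rc_15_1 lc_d_rc_27_2 lc_d_rc_23_8) (@D3.rec (fun _ => (Cert rels S Gen.d)) lc_d_rc_27_8 lc_d_rc_15_1 lc_d_rc_24_5 lc_d_rc_27_2 lc_d_Cert_tree lc_d_rc_15_1 lc_d_rc_27_4 lc_d_rc_22_4 lc_d_rc_16_4 lc_d_rc_8_3 lc_d_rc_15_1 lc_d_rc_22_4 lc_d_rc_17_0 lc_d_rc_22_4 lc_d_rc_25_14 lc_d_rc_15_1 lc_d_rc_8_3 lc_d_rc_16_2 lc_d_rc_15_1 lc_d_rc_3_3 lc_d_rc_15_1 lc_d_rc_24_5 lc_d_rc_17_2 lc_d_rc_27_4 lc_d_rc_15_1 lc_d_rc_15_1 lc_d_rc_25_10 lc_d_rc_15_1 lc_d_rc_17_2 lc_d_rc_8_3 lc_d_rc_8_3 lc_d_rc_8_1 lc_d_rc_27_4 lc_d_rc_15_1 lc_d_rc_17_2 lc_d_rc_16_4 lc_d_rc_15_1 lc_d_rc_22_4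 lc_d_rc_15_1 lc_d_rc_16_4 lc_d_Cert_tree lc_d_Cert_tree lc_d_rc_15_1 lc_d_rc_17_2 lc_d_rc_23_2 lc_d_rc_15_1 lc_d_rc_27_2 lc_d_Cert_tree lc_d_rc_15_1 lc_d_rc_16_2 lc_d_rc_27_2 lc_d_rc_23_4 lc_d_rc_15_1 lc_d_rc_27_8 lc_d_Cert_tree lc_d_rc_27_10 lc_d_rc_15_1 lc_d_rc_16_4 lc_d_Cert_tree lc_d_rc_8_3 lc_d_rc_15_1 lc_d_rc_15_1) (@D3.rec (fun _ => (Cert rels S Gen.d)) lc_d_rc_15_1 lc_d_rc_16_0 lc_d_rc_8_3 lc_d_Cert_tree lc_d_rc_27_4 lc_d_rc_23_6 lc_d_rc_23_2 lc_d_rc_15_1 lc_d_rc_8_3 lc_d_rc_15_1 lc_d_rc_24_0 lc_d_rc_22_4 lc_d_rc_27_2 lc_d_rc_15_1 lc_d_rc_17_2 lc_d_rc_17_0 lc_d_rc_3_3 lc_d_rc_15_1 lc_d_rc_27_8 lc_d_rc_15_1 lc_d_rc_15_1 lc_d_rc_23_2 lc_d_rc_16_4 lc_d_rc_15_1 lc_d_rc_22_2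 lc_d_rc_8_3 lc_d_rc_16_2 lc_d_rc_17_0 lc_d_rc_27_10 lc_d_rc_16_4 lc_d_rc_8_3 lc_d_rc_27_2 lc_d_rc_15_1 lc_d_rc_16_4 lc_d_rc_22_2 lc_d_rc_22_4 lc_d_rc_23_2 lc_d_rc_15_1 lc_d_rc_15_1 lc_d_rc_15_1 lc_d_rc_8_3 lc_d_rc_15_1 lc_d_rc_23_2 lc_d_rc_22_2 lc_d_rc_22_8 lc_d_rc_27_4 lc_d_rc_15_1 lc_d_rc_17_2 lc_d_rc_22_4 lc_d_rc_15_1 lc_d_rc_15_1 lc_d_rc_15_1 lc_d_rc_22_6 lc_d_rc_27_4 lc_d_rc_15_1 lc_d_rc_22_6 lc_d_rc_24_0 lc_d_rc_16_2 lc_d_rc_22_6 lc_d_rc_27_10 lc_d_rc_27_4 lc_d_rc_15_1) (@D3.rec (fun _ => (Cert rels S Gen.d)) lc_d_rc_17_2 lc_d_rc_16_4 lc_d_rc_23_4 lc_d_rc_8_3 lc_d_rc_15_1 lc_d_rc_15_1 lc_d_rc_3_1 lc_d_rc_24_0 lc_d_rc_24_0 lc_d_rc_15_1 lc_d_rc_16_4 lc_d_rc_27_4 lc_d_rc_15_1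 lc_d_rc_17_2 lc_d_rc_16_0 lc_d_rc_25_2 lc_d_rc_22_2 lc_d_rc_3_3 lc_d_rc_15_1 lc_d_rc_27_2 lc_d_rc_15_1 lc_d_rc_3_3 lc_d_rc_23_2 lc_d_rc_15_1 lc_d_rc_23_2 lc_d_rc_27_10 lc_d_rc_15_1 lc_d_rc_16_4 lc_d_rc_8_3 lc_d_rc_27_4 lc_d_rc_22_6 lc_d_rc_25_18 lc_d_rc_22_4 lc_d_rc_22_8 lc_d_rc_22_8 lc_d_rc_16_4 lc_d_rc_8_1 lc_d_rc_23_2 lc_d_rc_17_0 lc_d_rc_12_15 lc_d_rc_8_3 lc_d_rc_27_4 lc_d_rc_15_1 lc_d_rc_16_4 lc_d_rc_3_1 lc_d_rc_8_3 lc_d_rc_15_1 lc_d_rc_15_1 lc_d_rc_23_4 lc_d_rc_23_4 lc_d_rc_17_2 lc_d_rc_15_1 lc_d_rc_8_3 lc_d_rc_27_10 lc_d_rc_24_0 lc_d_rc_8_3 lc_d_rc_15_1 lc_d_rc_23_4 lc_d_rc_8_3 lc_d_rc_22_4 lc_d_rc_23_4 lc_d_rc_15_1) (@D3.rec (fun _ => (Cert rels S Gen.d)) lc_d_rc_15_1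 lc_d_rc_16_4 lc_d_rc_23_4 lc_d_rc_27_4 lc_d_rc_15_1 lc_d_rc_15_1 lc_d_rc_27_8 lc_d_rc_23_4 lc_d_rc_24_0 lc_d_rc_8_3 lc_d_rc_27_4 lc_d_rc_15_1 lc_d_rc_17_0 lc_d_rc_17_2 lc_d_rc_15_1 lc_d_rc_15_1 lc_d_rc_16_4 lc_d_rc_27_8 lc_d_rc_15_1 lc_d_rc_17_2 lc_d_rc_24_0 lc_d_rc_15_1 lc_d_rc_25_18 lc_d_rc_3_3 lc_d_rc_15_1 lc_d_rc_15_1 lc_d_rc_15_1 lc_d_rc_27_4 lc_d_rc_24_0 lc_d_rc_17_2 lc_d_rc_22_2 lc_d_rc_23_8 lc_d_rc_23_4 lc_d_rc_17_2 lc_d_rc_3_1 lc_d_rc_8_3 lc_d_rc_17_0 lc_d_rc_15_1 lc_d_rc_15_1 lc_d_rc_15_1 lc_d_rc_8_1 lc_d_rc_22_4 lc_d_rc_3_3 lc_d_rc_24_5 lc_d_rc_8_3 lc_d_rc_24_0 lc_d_rc_27_10 lc_d_rc_16_0 lc_d_rc_23_2 lc_d_rc_15_1 lc_d_rc_15_1 lc_d_rc_15_1 lc_d_rc_17_2 lc_d_rc_8_3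 lc_d_rc_8_3 lc_d_rc_17_0 lc_d_rc_8_1 lc_d_rc_16_4 lc_d_rc_15_1 lc_d_rc_15_1 lc_d_rc_23_2 lc_d_rc_22_4) (@D3.rec (fun _ => (Cert rels S Gen.d)) lc_d_rc_15_1 lc_d_Cert_tree lc_d_rc_8_1 lc_d_rc_15_1 lc_d_rc_15_1 lc_d_rc_15_1 lc_d_rc_22_8 lc_d_rc_3_3 lc_d_rc_15_1 lc_d_rc_3_1 lc_d_rc_16_4 lc_d_rc_17_2 lc_d_rc_15_1 lc_d_rc_23_2 lc_d_rc_23_2 lc_d_rc_15_1 lc_d_rc_3_3 lc_d_rc_15_1 lc_d_rc_23_4 lc_d_rc_15_1 lc_d_rc_8_3 lc_d_rc_15_1 lc_d_Cert_tree lc_d_rc_15_1 lc_d_rc_24_5 lc_d_rc_15_1 lc_d_rc_16_4 lc_d_rc_27_8 lc_d_rc_27_4 lc_d_Cert_tree lc_d_rc_15_1 lc_d_rc_15_1 lc_d_rc_27_2 lc_d_rc_15_1 lc_d_rc_15_1 lc_d_rc_15_1 lc_d_rc_8_3 lc_d_rc_17_2 lc_d_rc_17_2 lc_d_rc_16_2 lc_d_rc_16_2 lc_d_rc_24_0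 lc_d_rc_15_1 lc_d_rc_15_1 lc_d_rc_24_0 lc_d_rc_22_6 lc_d_rc_16_4 lc_d_rc_3_3 lc_d_rc_27_2 lc_d_rc_12_15 lc_d_rc_27_4 lc_d_rc_23_2 lc_d_rc_27_2 lc_d_rc_15_1 lc_d_rc_16_2 lc_d_rc_23_4 lc_d_rc_15_1 lc_d_rc_24_0 lc_d_rc_15_1 lc_d_rc_15_1 lc_d_rc_15_1 lc_d_rc_16_4) (@D3.rec (fun _ => (Cert rels S Gen.d)) lc_d_rc_8_3 lc_d_rc_8_1 lc_d_rc_15_1 lc_d_rc_15_1 lc_d_rc_27_4 lc_d_rc_15_1 lc_d_rc_16_2 lc_d_rc_23_6 lc_d_rc_24_0 lc_d_rc_15_1 lc_d_rc_12_15 lc_d_rc_15_1 lc_d_rc_8_3 lc_d_rc_25_2 lc_d_rc_22_4 lc_d_rc_15_1 lc_d_rc_3_3 lc_d_rc_15_1 lc_d_rc_15_1 lc_d_Cert_tree lc_d_rc_23_8 lc_d_rc_15_1 lc_d_rc_15_1 lc_d_rc_17_2 lc_d_rc_15_1 lc_d_rc_17_2 lc_d_rc_15_1 lc_d_rc_27_4 lc_d_rc_23_4 lc_d_rc_27_10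 lc_d_rc_15_1 lc_d_rc_17_2 lc_d_rc_8_3 lc_d_rc_25_2 lc_d_rc_15_1 lc_d_rc_3_1 lc_d_rc_27_4 lc_d_rc_15_1 lc_d_rc_15_1 lc_d_rc_23_6 lc_d_rc_22_4 lc_d_rc_15_1 lc_d_rc_3_1 lc_d_rc_17_2 lc_d_rc_23_8 lc_d_rc_17_2 lc_d_rc_12_15 lc_d_rc_15_1 lc_d_rc_15_1 lc_d_rc_25_10 lc_d_rc_23_6 lc_d_rc_23_2 lc_d_rc_15_1 lc_d_rc_27_2 lc_d_rc_15_1 lc_d_rc_12_15 lc_d_rc_15_1 lc_d_rc_15_1 lc_d_rc_8_1 lc_d_rc_15_1 lc_d_rc_15_1 lc_d_rc_15_1) (@D3.rec (fun _ => (Cert rels S Gen.d)) lc_d_rc_8_3 lc_d_rc_8_1 lc_d_Cert_tree lc_d_rc_23_8 lc_d_rc_23_8 lc_d_rc_15_1 lc_d_rc_22_2 lc_d_rc_25_2 lc_d_rc_25_6 lc_d_rc_27_4 lc_d_rc_15_1 lc_d_rc_23_8 lc_d_rc_15_1 lc_d_rc_27_4 lc_d_rc_23_8 lc_d_rc_15_1 lc_d_rc_16_0 lc_d_rc_16_0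 lc_d_rc_16_0 lc_d_rc_24_5 lc_d_rc_15_1 lc_d_rc_15_1 lc_d_rc_22_8 lc_d_rc_23_4 lc_d_Cert_tree lc_d_rc_25_2 lc_d_rc_15_1 lc_d_rc_8_3 lc_d_rc_27_2 lc_d_rc_23_2 lc_d_rc_22_4 lc_d_rc_15_1 lc_d_rc_23_6 lc_d_rc_8_3 lc_d_rc_8_3 lc_d_rc_15_1 lc_d_rc_22_2 lc_d_Cert_tree lc_d_rc_15_1 lc_d_rc_15_1 lc_d_rc_24_0 lc_d_rc_27_4 lc_d_Cert_tree lc_d_rc_22_4 lc_d_Cert_tree lc_d_rc_15_1 lc_d_rc_15_1 lc_d_rc_17_2 lc_d_rc_16_4 lc_d_rc_22_2 lc_d_rc_24_0 lc_d_rc_16_4 lc_d_rc_8_3 lc_d_rc_15_1 lc_d_rc_25_18 lc_d_rc_24_0 lc_d_rc_15_1 lc_d_rc_22_6 lc_d_rc_22_4 lc_d_rc_15_1 lc_d_rc_16_0 lc_d_rc_17_2) (@D3.rec (fun _ => (Cert rels S Gen.d)) lc_d_rc_23_4 lc_d_rc_24_0 lc_d_rc_22_2 lc_d_rc_27_4 lc_d_rc_8_3 lc_d_rc_15_1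 lc_d_rc_15_1 lc_d_rc_27_2 lc_d_rc_15_1 lc_d_rc_15_1 lc_d_rc_25_18 lc_d_Cert_tree lc_d_Cert_tree lc_d_rc_15_1 lc_d_rc_15_1 lc_d_rc_15_1 lc_d_rc_27_2 lc_d_rc_15_1 lc_d_rc_16_0 lc_d_rc_16_0 lc_d_rc_15_1 lc_d_rc_8_3 lc_d_rc_22_4 lc_d_rc_27_2 lc_d_rc_8_3 lc_d_rc_16_4 lc_d_rc_15_1 lc_d_rc_15_1 lc_d_rc_22_4 lc_d_rc_22_2 lc_d_rc_15_1 lc_d_rc_23_4 lc_d_rc_25_6 lc_d_rc_24_0 lc_d_rc_8_3 lc_d_rc_3_1 lc_d_rc_8_3 lc_d_rc_8_3 lc_d_rc_16_4 lc_d_rc_27_8 lc_d_rc_15_1 lc_d_rc_15_1 lc_d_rc_15_1 lc_d_rc_8_1 lc_d_rc_25_6 lc_d_rc_27_2 lc_d_rc_22_8 lc_d_rc_27_8 lc_d_rc_15_1 lc_d_rc_8_3 lc_d_rc_15_1 lc_d_rc_3_3 lc_d_rc_22_8 lc_d_rc_27_8 lc_d_rc_27_10 lc_d_rc_27_4 lc_d_rc_15_1 lc_d_rc_8_1 lc_d_rc_15_1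 lc_d_rc_22_6 lc_d_rc_15_1 lc_d_rc_8_3) (@D3.rec (fun _ => (Cert rels S Gen.d)) lc_d_rc_22_2 lc_d_rc_3_3 lc_d_rc_15_1 lc_d_rc_24_5 lc_d_rc_24_0 lc_d_rc_16_4 lc_d_rc_16_4 lc_d_rc_12_1 lc_d_rc_15_1 lc_d_rc_16_4 lc_d_rc_17_0 lc_d_rc_15_1 lc_d_rc_15_1 lc_d_rc_27_2 lc_d_rc_24_0 lc_d_rc_8_1 lc_d_rc_27_10 lc_d_rc_15_1 lc_d_rc_3_3 lc_d_rc_24_5 lc_d_rc_27_8 lc_d_rc_22_4 lc_d_rc_8_1 lc_d_rc_24_5 lc_d_rc_8_3 lc_d_rc_22_4 lc_d_rc_22_6 lc_d_rc_23_4 lc_d_rc_3_3 lc_d_rc_8_3 lc_d_rc_3_3 lc_d_rc_15_1 lc_d_rc_8_1 lc_d_rc_27_2 lc_d_rc_8_3 lc_d_rc_17_0 lc_d_rc_15_1 lc_d_rc_22_6 lc_d_rc_16_4 lc_d_rc_27_4 lc_d_rc_24_0 lc_d_rc_8_3 lc_d_rc_22_6 lc_d_rc_3_1 lc_d_rc_3_3 lc_d_rc_15_1 lc_d_rc_22_4 lc_d_rc_15_1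 lc_d_rc_22_4 lc_d_rc_12_15 lc_d_rc_8_3 lc_d_Cert_tree lc_d_rc_15_1 lc_d_rc_15_1 lc_d_rc_17_0 lc_d_rc_8_3 lc_d_rc_16_0 lc_d_rc_15_1 lc_d_rc_24_0 lc_d_rc_17_0 lc_d_rc_12_15 lc_d_rc_16_4) (@D3.rec (fun _ => (Cert rels S Gen.d)) lc_d_rc_3_1 lc_d_rc_16_0 lc_d_rc_22_4 lc_d_rc_15_1 lc_d_rc_23_2 lc_d_rc_16_4 lc_d_Cert_tree lc_d_rc_15_1 lc_d_rc_27_2 lc_d_Cert_tree lc_d_rc_16_2 lc_d_rc_15_1 lc_d_rc_15_1 lc_d_rc_8_1 lc_d_rc_17_2 lc_d_rc_15_1 lc_d_rc_3_3 lc_d_rc_15_1 lc_d_rc_15_1 lc_d_rc_16_4 lc_d_rc_15_1 lc_d_rc_8_1 lc_d_rc_24_0 lc_d_rc_8_3 lc_d_rc_8_3 lc_d_rc_15_1 lc_d_rc_8_3 lc_d_rc_23_4 lc_d_rc_8_3 lc_d_rc_15_1 lc_d_rc_23_2 lc_d_rc_15_1 lc_d_rc_22_8 lc_d_rc_15_1 lc_d_rc_8_3 lc_d_rc_22_6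 lc_d_rc_8_3 lc_d_rc_24_5 lc_d_rc_15_1 lc_d_rc_24_5 lc_d_Cert_tree lc_d_rc_15_1 lc_d_rc_22_8 lc_d_rc_17_0 lc_d_rc_15_1 lc_d_rc_15_1 lc_d_rc_16_4 lc_d_rc_27_8 lc_d_rc_24_0 lc_d_rc_15_1 lc_d_Cert_tree lc_d_rc_22_6 lc_d_rc_16_0 lc_d_rc_15_1 lc_d_rc_16_4 lc_d_rc_16_4 lc_d_rc_15_1 lc_d_rc_15_1 lc_d_rc_27_10 lc_d_rc_22_8 lc_d_rc_17_2 lc_d_rc_24_0) (@D3.rec (fun _ => (Cert rels S Gen.d)) lc_d_rc_15_1 lc_d_rc_8_3 lc_d_rc_24_0 lc_d_rc_24_0 lc_d_rc_27_4 lc_d_rc_3_3 lc_d_rc_27_8 lc_d_rc_22_4 lc_d_rc_24_5 lc_d_rc_27_4 lc_d_rc_15_1 lc_d_rc_15_1 lc_d_rc_22_4 lc_d_rc_23_6 lc_d_rc_12_13 lc_d_rc_3_3 lc_d_rc_15_1 lc_d_rc_16_4 lc_d_rc_16_4 lc_d_rc_15_1 lc_d_rc_27_2 lc_d_rc_15_1 lc_d_rc_22_4 lc_d_rc_24_0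 lc_d_rc_27_8 lc_d_rc_24_5 lc_d_rc_22_2 lc_d_rc_23_2 lc_d_rc_12_9 lc_d_rc_23_4 lc_d_rc_15_1 lc_d_rc_17_0 lc_d_rc_16_0 lc_d_rc_15_1 lc_d_rc_8_1 lc_d_rc_23_4 lc_d_rc_15_1 lc_d_rc_23_4 lc_d_rc_15_1 lc_d_rc_17_0 lc_d_rc_27_10 lc_d_rc_15_1 lc_d_rc_3_1 lc_d_rc_22_6 lc_d_rc_15_1 lc_d_Cert_tree lc_d_rc_15_1 lc_d_rc_16_4 lc_d_rc_12_11 lc_d_Cert_tree lc_d_rc_27_2 lc_d_rc_15_1 lc_d_rc_23_4 lc_d_rc_27_4 lc_d_rc_8_3 lc_d_rc_27_4 lc_d_rc_16_4 lc_d_rc_22_4 lc_d_rc_23_4 lc_d_rc_27_10 lc_d_rc_25_14 lc_d_rc_27_4) (@D3.rec (fun _ => (Cert rels S Gen.d)) lc_d_rc_24_0 lc_d_rc_15_1 lc_d_rc_16_2 lc_d_rc_15_1 lc_d_rc_23_4 lc_d_rc_15_1 lc_d_rc_23_6 lc_d_Cert_tree lc_d_rc_15_1 lc_d_rc_27_2 lc_d_rc_15_1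 lc_d_rc_23_2 lc_d_rc_15_1 lc_d_rc_3_3 lc_d_rc_8_1 lc_d_rc_15_1 lc_d_rc_27_4 lc_d_rc_3_3 lc_d_rc_15_1 lc_d_rc_22_8 lc_d_rc_16_2 lc_d_rc_27_4 lc_d_rc_3_3 lc_d_rc_15_1 lc_d_rc_25_10 lc_d_rc_23_6 lc_d_rc_15_1 lc_d_rc_8_1 lc_d_rc_16_2 lc_d_rc_22_4 lc_d_rc_15_1 lc_d_rc_22_2 lc_d_rc_15_1 lc_d_rc_23_6 lc_d_rc_12_1 lc_d_rc_17_2 lc_d_rc_23_8 lc_d_rc_24_0 lc_d_rc_22_2 lc_d_rc_27_2 lc_d_Cert_tree lc_d_rc_15_1 lc_d_rc_17_2 lc_d_rc_27_2 lc_d_rc_24_5 lc_d_rc_23_6 lc_d_rc_27_4 lc_d_Cert_tree lc_d_rc_22_8 lc_d_rc_15_1 lc_d_rc_17_2 lc_d_rc_15_1 lc_d_rc_15_1 lc_d_rc_15_1 lc_d_rc_15_1 lc_d_rc_17_2 lc_d_rc_15_1 lc_d_rc_15_1 lc_d_rc_27_2 lc_d_Cert_tree lc_d_rc_17_2 lc_d_rc_22_6) (@D3.rec (fun _ =>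 (Cert rels S Gen.d)) lc_d_rc_15_1 lc_d_rc_27_4 lc_d_rc_8_3 lc_d_rc_22_2 lc_d_rc_17_2 lc_d_rc_22_2 lc_d_rc_17_0 lc_d_rc_3_3 lc_d_rc_15_1 lc_d_rc_15_1 lc_d_rc_22_6 lc_d_rc_22_2 lc_d_rc_27_2 lc_d_rc_16_0 lc_d_rc_23_6 lc_d_rc_15_1 lc_d_rc_17_2 lc_d_rc_8_3 lc_d_rc_8_3 lc_d_rc_16_0 lc_d_rc_15_1 lc_d_rc_15_1 lc_d_rc_15_1 lc_d_rc_27_4 lc_d_Cert_tree lc_d_rc_24_5 lc_d_rc_15_1 lc_d_rc_27_2 lc_d_Cert_tree lc_d_rc_15_1 lc_d_rc_17_2 lc_d_rc_15_1 lc_d_Cert_tree lc_d_rc_17_2 lc_d_rc_17_0 lc_d_rc_27_4 lc_d_rc_8_1 lc_d_rc_27_10 lc_d_rc_15_1 lc_d_Cert_tree lc_d_rc_17_2 lc_d_rc_22_2 lc_d_rc_27_10 lc_d_rc_15_1 lc_d_rc_22_4 lc_d_rc_22_2 lc_d_rc_24_0 lc_d_rc_15_1 lc_d_rc_17_2 lc_d_rc_15_1 lc_d_rc_22_4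 lc_d_rc_23_8 lc_d_rc_15_1 lc_d_rc_22_6 lc_d_rc_22_4 lc_d_rc_24_5 lc_d_rc_15_1 lc_d_rc_24_5 lc_d_rc_17_2 lc_d_Cert_tree lc_d_rc_15_1 lc_d_Cert_tree) (@D3.rec (fun _ => (Cert rels S Gen.d)) lc_d_rc_17_2 lc_d_rc_23_4 lc_d_rc_8_1 lc_d_rc_16_2 lc_d_rc_15_1 lc_d_rc_27_8 lc_d_rc_22_6 lc_d_rc_25_18 lc_d_rc_24_0 lc_d_rc_15_1 lc_d_rc_27_10 lc_d_rc_15_1 lc_d_rc_24_0 lc_d_rc_15_1 lc_d_rc_27_4 lc_d_rc_15_1 lc_d_rc_15_1 lc_d_rc_8_3 lc_d_rc_23_6 lc_d_rc_23_4 lc_d_rc_27_2 lc_d_rc_15_1 lc_d_rc_17_2 lc_d_rc_15_1 lc_d_rc_27_4 lc_d_rc_16_0 lc_d_rc_15_1 lc_d_rc_17_2 lc_d_rc_15_1 lc_d_rc_15_1 lc_d_rc_23_8 lc_d_rc_17_2 lc_d_rc_27_2 lc_d_rc_3_3 lc_d_rc_17_2 lc_d_rc_16_2 lc_d_rc_15_1 lc_d_rc_17_2 lc_d_rc_27_4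 lc_d_rc_15_1 lc_d_rc_22_4 lc_d_rc_15_1 lc_d_rc_23_2 lc_d_Cert_tree lc_d_rc_15_1 lc_d_rc_16_4 lc_d_rc_15_1 lc_d_rc_24_5 lc_d_rc_22_4 lc_d_rc_23_8 lc_d_rc_15_1 lc_d_rc_8_3 lc_d_rc_22_6 lc_d_rc_15_1 lc_d_rc_8_3 lc_d_rc_8_3 lc_d_rc_8_3 lc_d_rc_24_5 lc_d_rc_22_6 lc_d_rc_8_1 lc_d_rc_23_2 lc_d_rc_27_4) (@D3.rec (fun _ => (Cert rels S Gen.d)) lc_d_rc_25_6 lc_d_rc_22_4 lc_d_rc_15_1 lc_d_rc_8_3 lc_d_rc_8_3 lc_d_rc_3_3 lc_d_rc_3_3 lc_d_rc_17_2 lc_d_rc_24_5 lc_d_rc_16_4 lc_d_rc_15_1 lc_d_rc_22_8 lc_d_rc_24_0 lc_d_rc_24_5 lc_d_Cert_tree lc_d_rc_23_8 lc_d_rc_23_2 lc_d_rc_15_1 lc_d_rc_27_4 lc_d_rc_15_1 lc_d_rc_15_1 lc_d_rc_17_2 lc_d_rc_8_1 lc_d_rc_15_1 lc_d_rc_27_4 lc_d_rc_15_1 lc_d_rc_25_6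 lc_d_rc_15_1 lc_d_rc_17_2 lc_d_rc_15_1 lc_d_Cert_tree lc_d_rc_15_1 lc_d_rc_23_2 lc_d_rc_15_1 lc_d_rc_12_13 lc_d_rc_17_2 lc_d_rc_23_4 lc_d_rc_27_10 lc_d_rc_16_4 lc_d_rc_24_5 lc_d_rc_16_2 lc_d_rc_12_15 lc_d_rc_17_0 lc_d_rc_16_2 lc_d_rc_8_3 lc_d_rc_16_4 lc_d_rc_16_4 lc_d_Cert_tree lc_d_rc_15_1 lc_d_rc_15_1 lc_d_rc_27_4 lc_d_rc_16_2 lc_d_rc_22_6 lc_d_rc_15_1 lc_d_rc_16_4 lc_d_rc_8_3 lc_d_rc_8_3 lc_d_rc_23_8 lc_d_rc_15_1 lc_d_rc_15_1 lc_d_rc_15_1 lc_d_rc_8_1) (@D3.rec (fun _ => (Cert rels S Gen.d)) lc_d_rc_15_1 lc_d_rc_8_3 lc_d_rc_27_2 lc_d_Cert_tree lc_d_rc_23_2 lc_d_rc_15_1 lc_d_rc_15_1 lc_d_rc_8_1 lc_d_Cert_tree lc_d_rc_27_10 lc_d_rc_15_1 lc_d_rc_15_1 lc_d_rc_17_2 lc_d_Cert_tree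 lc_d_Cert_tree lc_d_rc_22_6 lc_d_rc_15_1 lc_d_rc_15_1 lc_d_rc_17_2 lc_d_Cert_tree lc_d_rc_15_1 lc_d_Cert_tree lc_d_rc_15_1 lc_d_rc_15_1 lc_d_rc_22_8 lc_d_rc_17_2 lc_d_rc_27_4 lc_d_rc_15_1 lc_d_Cert_tree lc_d_Cert_tree lc_d_rc_15_1 lc_d_rc_15_1 lc_d_rc_15_1 lc_d_rc_15_1 lc_d_rc_15_1 lc_d_rc_12_3 lc_d_rc_22_4 lc_d_rc_27_10 lc_d_rc_15_1 lc_d_rc_27_2 lc_d_rc_27_4 lc_d_Cert_tree lc_d_rc_27_10 lc_d_rc_8_1 lc_d_rc_15_1 lc_d_rc_17_2 lc_d_rc_15_1 lc_d_rc_15_1 lc_d_rc_15_1 lc_d_rc_3_3 lc_d_rc_15_1 lc_d_rc_17_2 lc_d_rc_23_2 lc_d_rc_22_2 lc_d_rc_15_1 lc_d_rc_23_6 lc_d_rc_15_1 lc_d_rc_15_1 lc_d_rc_23_6 lc_d_rc_23_8 lc_d_rc_15_1 lc_d_rc_17_2) (@D3.rec (fun _ => (Cert rels S Gen.d)) lc_d_rc_23_4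 lc_d_rc_15_1 lc_d_rc_8_1 lc_d_rc_27_8 lc_d_rc_25_2 lc_d_rc_16_0 lc_d_rc_15_1 lc_d_rc_17_2 lc_d_rc_15_1 lc_d_Cert_tree lc_d_rc_15_1 lc_d_rc_23_8 lc_d_rc_15_1 lc_d_rc_24_0 lc_d_rc_17_2 lc_d_rc_15_1 lc_d_rc_27_4 lc_d_rc_15_1 lc_d_rc_23_8 lc_d_rc_16_2 lc_d_rc_17_0 lc_d_rc_15_1 lc_d_rc_15_1 lc_d_rc_16_2 lc_d_rc_8_3 lc_d_Cert_tree lc_d_rc_23_4 lc_d_rc_17_2 lc_d_rc_27_10 lc_d_rc_15_1 lc_d_rc_27_8 lc_d_rc_8_3 lc_d_rc_24_5 lc_d_rc_16_4 lc_d_rc_8_3 lc_d_rc_22_4 lc_d_rc_16_2 lc_d_rc_8_3 lc_d_rc_15_1 lc_d_rc_16_4 lc_d_rc_22_4 lc_d_rc_15_1 lc_d_rc_17_2 lc_d_rc_15_1 lc_d_rc_15_1 lc_d_rc_24_5 lc_d_rc_15_1 lc_d_rc_12_9 lc_d_rc_23_4 lc_d_rc_3_1 lc_d_rc_15_1 lc_d_rc_15_1 lc_d_rc_15_1 lc_d_rc_16_2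 lc_d_rc_15_1 lc_d_rc_16_4 lc_d_rc_8_3 lc_d_rc_15_1 lc_d_rc_22_8 lc_d_rc_24_0 lc_d_rc_8_3 lc_d_rc_15_1) (@D3.rec (fun _ => (Cert rels S Gen.d)) lc_d_rc_27_4 lc_d_rc_15_1 lc_d_rc_15_1 lc_d_rc_23_6 lc_d_rc_27_2 lc_d_rc_15_1 lc_d_rc_3_3 lc_d_rc_27_4 lc_d_rc_23_8 lc_d_rc_27_4 lc_d_rc_15_1 lc_d_rc_22_2 lc_d_rc_15_1 lc_d_rc_15_1 lc_d_rc_16_4 lc_d_rc_24_0 lc_d_rc_15_1 lc_d_rc_23_6 lc_d_rc_23_4 lc_d_rc_22_4 lc_d_rc_22_2 lc_d_rc_15_1 lc_d_rc_15_1 lc_d_rc_22_2 lc_d_rc_23_4 lc_d_rc_8_3 lc_d_rc_23_6 lc_d_rc_16_4 lc_d_rc_17_2 lc_d_rc_23_2 lc_d_rc_12_3 lc_d_rc_22_4 lc_d_rc_25_6 lc_d_rc_15_1 lc_d_rc_15_1 lc_d_rc_8_3 lc_d_rc_27_8 lc_d_rc_24_5 lc_d_rc_27_4 lc_d_rc_27_8 lc_d_rc_23_4 lc_d_rc_16_2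 lc_d_rc_3_3 lc_d_rc_25_6 lc_d_rc_16_0 lc_d_rc_15_1 lc_d_rc_23_2 lc_d_rc_17_2 lc_d_rc_15_1 lc_d_rc_16_4 lc_d_rc_24_5 lc_d_rc_27_4 lc_d_rc_16_0 lc_d_rc_23_2 lc_d_rc_15_1 lc_d_rc_16_4 lc_d_rc_15_1 lc_d_rc_24_5 lc_d_rc_15_1 lc_d_rc_17_0 lc_d_rc_23_4 lc_d_rc_23_4) (@D3.rec (fun _ => (Cert rels S Gen.d)) lc_d_rc_22_4 lc_d_rc_15_1 lc_d_rc_22_6 lc_d_rc_27_4 lc_d_rc_22_4 lc_d_rc_8_3 lc_d_rc_16_4 lc_d_rc_27_2 lc_d_rc_15_1 lc_d_rc_24_0 lc_d_rc_25_2 lc_d_rc_15_1 lc_d_rc_27_2 lc_d_rc_23_6 lc_d_rc_27_2 lc_d_rc_23_8 lc_d_rc_16_4 lc_d_rc_15_1 lc_d_rc_15_1 lc_d_rc_27_2 lc_d_rc_27_10 lc_d_rc_27_2 lc_d_rc_15_1 lc_d_rc_15_1 lc_d_rc_27_10 lc_d_rc_23_2 lc_d_rc_15_1 lc_d_rc_8_3 lc_d_rc_3_1 lc_d_rc_25_2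 lc_d_rc_15_1 lc_d_rc_16_4 lc_d_rc_16_4 lc_d_rc_16_4 lc_d_rc_15_1 lc_d_rc_8_3 lc_d_rc_23_8 lc_d_rc_15_1 lc_d_rc_23_2 lc_d_rc_17_2 lc_d_rc_22_8 lc_d_rc_24_5 lc_d_rc_27_4 lc_d_rc_16_0 lc_d_rc_15_1 lc_d_rc_15_1 lc_d_rc_16_4 lc_d_rc_15_1 lc_d_rc_3_1 lc_d_rc_12_3 lc_d_rc_15_1 lc_d_rc_25_18 lc_d_rc_24_0 lc_d_rc_3_3 lc_d_rc_24_5 lc_d_rc_15_1 lc_d_rc_27_2 lc_d_rc_23_6 lc_d_rc_22_4 lc_d_rc_8_1 lc_d_rc_15_1 lc_d_rc_15_1) (@D3.rec (fun _ => (Cert rels S Gen.d)) lc_d_rc_15_1 lc_d_rc_15_1 lc_d_rc_17_2 lc_d_rc_27_10 lc_d_rc_23_2 lc_d_rc_24_5 lc_d_rc_23_4 lc_d_rc_15_1 lc_d_rc_17_2 lc_d_rc_15_1 lc_d_rc_22_4 lc_d_rc_8_1 lc_d_rc_15_1 lc_d_rc_8_3 lc_d_rc_24_5 lc_d_rc_27_2 lc_d_rc_8_3 lc_d_rc_22_4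 lc_d_rc_8_3 lc_d_rc_24_0 lc_d_rc_16_0 lc_d_rc_24_0 lc_d_rc_15_1 lc_d_rc_15_1 lc_d_rc_15_1 lc_d_rc_8_3 lc_d_rc_22_4 lc_d_rc_15_1 lc_d_rc_27_2 lc_d_rc_16_0 lc_d_rc_8_3 lc_d_rc_23_4 lc_d_rc_22_2 lc_d_Cert_tree lc_d_rc_15_1 lc_d_rc_23_2 lc_d_rc_8_3 lc_d_rc_23_4 lc_d_rc_16_4 lc_d_rc_23_6 lc_d_rc_23_4 lc_d_rc_22_8 lc_d_rc_22_4 lc_d_rc_22_4 lc_d_rc_8_1 lc_d_rc_15_1 lc_d_rc_15_1 lc_d_rc_8_3 lc_d_rc_15_1 lc_d_rc_15_1 lc_d_rc_3_1 lc_d_rc_8_3 lc_d_rc_22_8 lc_d_Cert_tree lc_d_rc_25_18 lc_d_Cert_tree lc_d_rc_15_1 lc_d_rc_22_4 lc_d_rc_15_1 lc_d_rc_23_4 lc_d_rc_8_3 lc_d_rc_8_1)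
def ce_d_29 : D2 → D3 → (Cert rels S Gen.d) := @D2.rec (fun _ => D3 → (Cert rels S Gen.d)) (@D3.rec (fun _ => (Cert rels S Gen.d)) lc_d_rc_15_1 lc_d_rc_23_8 lc_d_rc_22_4 lc_d_Cert_tree lc_d_rc_15_1 lc_d_rc_17_2 lc_d_rc_15_1 lc_d_rc_12_1 lc_d_rc_23_4 lc_d_rc_8_3 lc_d_rc_17_0 lc_d_rc_15_1 lc_d_rc_23_6 lc_d_Cert_tree lc_d_rc_8_1 lc_d_rc_16_4 lc_d_rc_15_1 lc_d_rc_24_0 lc_d_rc_3_1 lc_d_rc_15_1 lc_d_rc_27_4 lc_d_rc_27_4 lc_d_rc_24_0 lc_d_rc_12_1 lc_d_rc_15_1 lc_d_rc_15_1 lc_d_rc_15_1 lc_d_rc_15_1 lc_d_rc_27_2 lc_d_rc_27_8 lc_d_rc_27_10 lc_d_rc_22_4 lc_d_rc_22_2 lc_d_rc_15_1 lc_d_rc_27_10 lc_d_rc_15_1 lc_d_rc_17_2 lc_d_rc_24_5 lc_d_rc_15_1 lc_d_Cert_tree lc_d_rc_27_2 lc_d_rc_27_10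 lc_d_rc_27_10 lc_d_rc_22_2 lc_d_rc_23_4 lc_d_rc_8_3 lc_d_rc_23_4 lc_d_rc_8_3 lc_d_rc_24_5 lc_d_rc_15_1 lc_d_rc_23_2 lc_d_rc_15_1 lc_d_rc_24_5 lc_d_rc_27_2 lc_d_rc_27_4 lc_d_rc_15_1 lc_d_rc_8_3 lc_d_rc_8_3 lc_d_rc_24_5 lc_d_rc_24_0 lc_d_rc_27_4 lc_d_rc_16_4) (@D3.rec (fun _ => (Cert rels S Gen.d)) lc_d_rc_23_6 lc_d_rc_8_3 lc_d_rc_16_2 lc_d_rc_15_1 lc_d_rc_8_3 lc_d_rc_27_4 lc_d_rc_17_0 lc_d_rc_23_8 lc_d_rc_22_2 lc_d_rc_15_1 lc_d_rc_23_4 lc_d_rc_27_2 lc_d_rc_8_1 lc_d_rc_27_10 lc_d_rc_8_3 lc_d_rc_16_4 lc_d_rc_8_1 lc_d_rc_24_0 lc_d_rc_12_3 lc_d_rc_24_0 lc_d_rc_27_8 lc_d_rc_27_10 lc_d_rc_15_1 lc_d_rc_15_1 lc_d_rc_27_8 lc_d_rc_24_5 lc_d_rc_24_5 lc_d_rc_15_1 lc_d_rc_27_4 lc_d_rc_27_10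 lc_d_rc_15_1 lc_d_rc_8_3 lc_d_rc_3_3 lc_d_rc_23_4 lc_d_rc_15_1 lc_d_rc_27_4 lc_d_rc_27_10 lc_d_rc_27_2 lc_d_rc_15_1 lc_d_rc_15_1 lc_d_rc_17_2 lc_d_rc_15_1 lc_d_rc_16_4 lc_d_rc_15_1 lc_d_rc_8_3 lc_d_rc_23_4 lc_d_rc_24_0 lc_d_rc_3_3 lc_d_rc_8_3 lc_d_rc_16_4 lc_d_rc_15_1 lc_d_rc_27_8 lc_d_rc_15_1 lc_d_rc_16_0 lc_d_rc_3_3 lc_d_rc_15_1 lc_d_rc_15_1 lc_d_rc_22_2 lc_d_rc_23_4 lc_d_rc_15_1 lc_d_rc_15_1 lc_d_rc_27_8) (@D3.rec (fun _ => (Cert rels S Gen.d)) lc_d_rc_17_2 lc_d_rc_27_10 lc_d_rc_8_3 lc_d_rc_15_1 lc_d_rc_27_4 lc_d_rc_15_1 lc_d_rc_15_1 lc_d_rc_15_1 lc_d_rc_27_2 lc_d_rc_17_2 lc_d_rc_24_5 lc_d_rc_22_8 lc_d_rc_22_4 lc_d_rc_23_4 lc_d_rc_23_4 lc_d_rc_15_1 lc_d_rc_8_3 lc_d_rc_22_8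 lc_d_rc_23_4 lc_d_rc_27_4 lc_d_Cert_tree lc_d_rc_15_1 lc_d_rc_8_3 lc_d_rc_15_1 lc_d_rc_22_6 lc_d_rc_8_3 lc_d_rc_27_10 lc_d_rc_15_1 lc_d_rc_8_3 lc_d_rc_23_2 lc_d_rc_24_5 lc_d_rc_27_4 lc_d_rc_8_3 lc_d_rc_24_0 lc_d_rc_15_1 lc_d_rc_15_1 lc_d_rc_8_3 lc_d_rc_15_1 lc_d_rc_23_2 lc_d_rc_15_1 lc_d_rc_17_2 lc_d_rc_15_1 lc_d_rc_15_1 lc_d_rc_15_1 lc_d_rc_16_2 lc_d_rc_23_6 lc_d_rc_15_1 lc_d_rc_8_3 lc_d_rc_22_6 lc_d_rc_15_1 lc_d_rc_24_0 lc_d_rc_8_3 lc_d_rc_8_1 lc_d_rc_15_1 lc_d_rc_27_4 lc_d_rc_15_1 lc_d_rc_17_2 lc_d_rc_15_1 lc_d_rc_8_3 lc_d_rc_16_2 lc_d_rc_8_3 lc_d_rc_24_5) (@D3.rec (fun _ => (Cert rels S Gen.d)) lc_d_rc_15_1 lc_d_rc_16_2 lc_d_rc_3_3 lc_d_rc_23_6 lc_d_rc_15_1 lc_d_rc_27_10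 lc_d_rc_24_0 lc_d_rc_15_1 lc_d_Cert_tree lc_d_rc_15_1 lc_d_rc_17_0 lc_d_rc_17_2 lc_d_rc_8_3 lc_d_rc_15_1 lc_d_rc_23_2 lc_d_rc_15_1 lc_d_rc_8_3 lc_d_rc_15_1 lc_d_rc_16_4 lc_d_rc_15_1 lc_d_Cert_tree lc_d_rc_8_3 lc_d_rc_15_1 lc_d_rc_17_2 lc_d_rc_24_5 lc_d_rc_15_1 lc_d_Cert_tree lc_d_rc_3_3 lc_d_rc_15_1 lc_d_rc_8_3 lc_d_rc_27_2 lc_d_rc_15_1 lc_d_rc_22_6 lc_d_rc_17_0 lc_d_rc_15_1 lc_d_rc_27_8 lc_d_rc_17_2 lc_d_rc_8_3 lc_d_rc_16_4 lc_d_rc_17_2 lc_d_rc_16_0 lc_d_rc_15_1 lc_d_rc_22_2 lc_d_rc_8_3 lc_d_rc_8_3 lc_d_rc_23_8 lc_d_rc_23_2 lc_d_rc_15_1 lc_d_rc_8_1 lc_d_rc_25_2 lc_d_rc_15_1 lc_d_rc_16_2 lc_d_rc_15_1 lc_d_rc_24_0 lc_d_rc_27_4 lc_d_rc_15_1 lc_d_rc_15_1 lc_d_rc_22_4 lc_d_rc_23_8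 lc_d_rc_15_1 lc_d_rc_8_3 lc_d_rc_3_3) (@D3.rec (fun _ => (Cert rels S Gen.d)) lc_d_rc_8_3 lc_d_rc_8_1 lc_d_rc_22_4 lc_d_rc_8_3 lc_d_rc_15_1 lc_d_Cert_tree lc_d_rc_8_3 lc_d_rc_15_1 lc_d_rc_15_1 lc_d_Cert_tree lc_d_rc_15_1 lc_d_rc_3_3 lc_d_rc_17_0 lc_d_rc_24_5 lc_d_rc_15_1 lc_d_rc_27_10 lc_d_rc_15_1 lc_d_rc_27_2 lc_d_rc_8_1 lc_d_rc_15_1 lc_d_rc_15_1 lc_d_rc_15_1 lc_d_rc_27_4 lc_d_rc_16_4 lc_d_Cert_tree lc_d_Cert_tree lc_d_Cert_tree lc_d_rc_15_1 lc_d_rc_27_4 lc_d_rc_23_6 lc_d_rc_25_18 lc_d_rc_15_1 lc_d_rc_12_13 lc_d_rc_27_8 lc_d_rc_15_1 lc_d_rc_8_3 lc_d_rc_8_3 lc_d_rc_16_4 lc_d_rc_17_2 lc_d_rc_3_3 lc_d_rc_24_5 lc_d_rc_23_2 lc_d_Cert_tree lc_d_rc_15_1 lc_d_rc_27_4 lc_d_rc_15_1 lc_d_rc_8_3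 lc_d_rc_16_2 lc_d_rc_12_3 lc_d_Cert_tree lc_d_rc_15_1 lc_d_rc_15_1 lc_d_rc_8_3 lc_d_Cert_tree lc_d_rc_15_1 lc_d_rc_8_3 lc_d_rc_3_3 lc_d_rc_8_3 lc_d_rc_17_2 lc_d_rc_27_10 lc_d_rc_24_0 lc_d_rc_15_1) (@D3.rec (fun _ => (Cert rels S Gen.d)) lc_d_rc_15_1 lc_d_rc_23_8 lc_d_rc_15_1 lc_d_rc_22_8 lc_d_rc_8_3 lc_d_rc_16_4 lc_d_rc_27_2 lc_d_rc_22_4 lc_d_rc_17_0 lc_d_rc_8_3 lc_d_rc_8_3 lc_d_rc_17_2 lc_d_rc_27_10 lc_d_rc_24_0 lc_d_rc_8_1 lc_d_rc_8_3 lc_d_rc_16_4 lc_d_rc_16_4 lc_d_rc_22_2 lc_d_rc_3_1 lc_d_rc_8_3 lc_d_rc_15_1 lc_d_rc_8_3 lc_d_rc_15_1 lc_d_rc_3_3 lc_d_rc_8_1 lc_d_Cert_tree lc_d_rc_15_1 lc_d_rc_15_1 lc_d_rc_15_1 lc_d_rc_15_1 lc_d_rc_23_6 lc_d_rc_16_4 lc_d_rc_22_6 lc_d_rc_16_2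 lc_d_rc_15_1 lc_d_rc_16_2 lc_d_rc_27_2 lc_d_rc_23_2 lc_d_rc_23_4 lc_d_rc_15_1 lc_d_rc_27_4 lc_d_rc_15_1 lc_d_rc_8_3 lc_d_rc_15_1 lc_d_rc_23_4 lc_d_rc_15_1 lc_d_rc_27_2 lc_d_rc_15_1 lc_d_rc_15_1 lc_d_rc_15_1 lc_d_rc_22_6 lc_d_rc_27_4 lc_d_rc_12_15 lc_d_rc_8_3 lc_d_rc_27_2 lc_d_rc_15_1 lc_d_rc_23_2 lc_d_rc_25_2 lc_d_rc_27_4 lc_d_rc_23_4 lc_d_rc_22_6) (@D3.rec (fun _ => (Cert rels S Gen.d)) lc_d_rc_25_6 lc_d_rc_27_10 lc_d_rc_27_4 lc_d_rc_27_10 lc_d_rc_23_2 lc_d_rc_15_1 lc_d_rc_23_2 lc_d_rc_17_2 lc_d_rc_23_4 lc_d_rc_15_1 lc_d_rc_16_0 lc_d_rc_22_8 lc_d_rc_27_8 lc_d_rc_22_4 lc_d_rc_27_10 lc_d_rc_15_1 lc_d_rc_23_4 lc_d_rc_25_2 lc_d_rc_22_6 lc_d_rc_8_3 lc_d_rc_3_3 lc_d_rc_8_3 lc_d_rc_22_4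 lc_d_rc_15_1 lc_d_rc_27_2 lc_d_rc_22_4 lc_d_rc_17_0 lc_d_rc_15_1 lc_d_rc_8_3 lc_d_rc_17_2 lc_d_rc_23_4 lc_d_rc_15_1 lc_d_rc_15_1 lc_d_rc_16_2 lc_d_rc_24_0 lc_d_rc_8_1 lc_d_rc_8_3 lc_d_rc_25_10 lc_d_rc_15_1 lc_d_rc_8_3 lc_d_rc_15_1 lc_d_rc_15_1 lc_d_rc_15_1 lc_d_rc_25_2 lc_d_rc_16_4 lc_d_rc_15_1 lc_d_rc_27_2 lc_d_rc_16_2 lc_d_rc_8_3 lc_d_rc_3_3 lc_d_rc_24_0 lc_d_rc_15_1 lc_d_rc_22_4 lc_d_Cert_tree lc_d_rc_15_1 lc_d_rc_15_1 lc_d_rc_16_0 lc_d_rc_23_6 lc_d_rc_15_1 lc_d_rc_27_2 lc_d_rc_15_1 lc_d_rc_8_3) (@D3.rec (fun _ => (Cert rels S Gen.d)) lc_d_rc_23_6 lc_d_rc_8_3 lc_d_rc_3_3 lc_d_rc_8_1 lc_d_rc_15_1 lc_d_rc_8_3 lc_d_rc_23_2 lc_d_rc_27_2 lc_d_rc_15_1 lc_d_rc_12_13 lc_d_rc_8_3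 lc_d_rc_25_2 lc_d_rc_15_1 lc_d_rc_15_1 lc_d_rc_24_0 lc_d_rc_15_1 lc_d_rc_23_4 lc_d_rc_8_3 lc_d_rc_15_1 lc_d_rc_27_8 lc_d_rc_15_1 lc_d_rc_27_2 lc_d_rc_24_0 lc_d_rc_8_3 lc_d_rc_24_5 lc_d_rc_24_5 lc_d_rc_15_1 lc_d_rc_12_1 lc_d_rc_24_0 lc_d_rc_8_1 lc_d_rc_27_4 lc_d_rc_15_1 lc_d_rc_24_0 lc_d_rc_15_1 lc_d_rc_22_2 lc_d_rc_23_8 lc_d_rc_22_6 lc_d_rc_8_3 lc_d_rc_8_3 lc_d_rc_23_4 lc_d_rc_15_1 lc_d_rc_24_0 lc_d_rc_15_1 lc_d_rc_27_4 lc_d_rc_23_2 lc_d_rc_15_1 lc_d_rc_24_0 lc_d_rc_15_1 lc_d_rc_15_1 lc_d_rc_12_1 lc_d_rc_24_0 lc_d_rc_15_1 lc_d_rc_15_1 lc_d_rc_25_18 lc_d_rc_15_1 lc_d_rc_27_4 lc_d_rc_15_1 lc_d_rc_17_2 lc_d_rc_15_1 lc_d_rc_12_15 lc_d_rc_15_1 lc_d_rc_23_2) (@D3.rec (fun _ => (Cert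 rels S Gen.d)) lc_d_rc_16_2 lc_d_rc_27_4 lc_d_rc_15_1 lc_d_rc_23_8 lc_d_rc_27_10 lc_d_rc_15_1 lc_d_rc_17_2 lc_d_rc_27_4 lc_d_rc_15_1 lc_d_rc_23_4 lc_d_rc_17_2 lc_d_rc_15_1 lc_d_rc_27_2 lc_d_rc_15_1 lc_d_rc_15_1 lc_d_rc_27_4 lc_d_rc_23_4 lc_d_rc_15_1 lc_d_rc_15_1 lc_d_rc_15_1 lc_d_Cert_tree lc_d_rc_8_1 lc_d_rc_23_4 lc_d_rc_17_2 lc_d_rc_15_1 lc_d_rc_17_2 lc_d_rc_24_5 lc_d_rc_15_1 lc_d_rc_27_2 lc_d_Cert_tree lc_d_rc_8_3 lc_d_Cert_tree lc_d_rc_27_8 lc_d_rc_15_1 lc_d_rc_15_1 lc_d_rc_16_4 lc_d_rc_17_2 lc_d_Cert_tree lc_d_rc_15_1 lc_d_rc_15_1 lc_d_rc_15_1 lc_d_rc_23_6 lc_d_rc_22_6 lc_d_Cert_tree lc_d_rc_15_1 lc_d_rc_24_0 lc_d_rc_16_2 lc_d_rc_8_3 lc_d_rc_22_4 lc_d_rc_22_4 lc_d_rc_8_1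 lc_d_rc_15_1 lc_d_rc_15_1 lc_d_rc_15_1 lc_d_rc_27_4 lc_d_rc_15_1 lc_d_rc_23_2 lc_d_rc_22_8 lc_d_rc_15_1 lc_d_rc_27_4 lc_d_rc_23_4 lc_d_rc_15_1) (@D3.rec (fun _ => (Cert rels S Gen.d)) lc_d_rc_8_1 lc_d_rc_24_5 lc_d_rc_23_8 lc_d_rc_23_2 lc_d_rc_15_1 lc_d_rc_15_1 lc_d_rc_15_1 lc_d_rc_27_4 lc_d_rc_16_0 lc_d_rc_8_3 lc_d_rc_15_1 lc_d_rc_16_0 lc_d_rc_3_3 lc_d_rc_22_6 lc_d_rc_15_1 lc_d_rc_15_1 lc_d_rc_8_3 lc_d_rc_16_2 lc_d_rc_15_1 lc_d_rc_22_8 lc_d_rc_23_2 lc_d_rc_22_8 lc_d_Cert_tree lc_d_rc_15_1 lc_d_rc_15_1 lc_d_rc_23_4 lc_d_rc_17_2 lc_d_rc_8_3 lc_d_rc_27_4 lc_d_rc_23_2 lc_d_rc_22_4 lc_d_rc_15_1 lc_d_rc_8_3 lc_d_rc_12_1 lc_d_rc_22_6 lc_d_rc_23_6 lc_d_rc_22_8 lc_d_rc_3_3 lc_d_rc_27_4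 lc_d_rc_8_3 lc_d_rc_15_1 lc_d_rc_15_1 lc_d_rc_17_2 lc_d_rc_15_1 lc_d_rc_27_2 lc_d_rc_16_2 lc_d_rc_27_10 lc_d_rc_15_1 lc_d_rc_3_3 lc_d_rc_15_1 lc_d_rc_8_3 lc_d_rc_27_8 lc_d_rc_16_4 lc_d_rc_16_4 lc_d_rc_8_1 lc_d_rc_3_1 lc_d_rc_15_1 lc_d_Cert_tree lc_d_rc_15_1 lc_d_rc_15_1 lc_d_rc_23_2 lc_d_rc_8_3) (@D3.rec (fun _ => (Cert rels S Gen.d)) lc_d_rc_8_1 lc_d_rc_8_1 lc_d_rc_27_2 lc_d_rc_15_1 lc_d_rc_8_1 lc_d_rc_15_1 lc_d_rc_16_2 lc_d_rc_16_4 lc_d_rc_17_2 lc_d_rc_27_4 lc_d_rc_15_1 lc_d_rc_27_2 lc_d_rc_15_1 lc_d_rc_3_1 lc_d_rc_17_2 lc_d_rc_22_2 lc_d_rc_17_2 lc_d_rc_23_4 lc_d_rc_15_1 lc_d_rc_27_2 lc_d_rc_16_2 lc_d_rc_22_2 lc_d_rc_27_2 lc_d_rc_15_1 lc_d_rc_27_2 lc_d_rc_8_3 lc_d_rc_27_2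 lc_d_rc_15_1 lc_d_rc_23_2 lc_d_rc_27_8 lc_d_rc_15_1 lc_d_rc_24_5 lc_d_rc_8_3 lc_d_rc_8_3 lc_d_Cert_tree lc_d_rc_27_8 lc_d_rc_27_10 lc_d_rc_27_2 lc_d_rc_15_1 lc_d_rc_8_3 lc_d_rc_8_1 lc_d_rc_15_1 lc_d_rc_15_1 lc_d_Cert_tree lc_d_rc_25_14 lc_d_rc_15_1 lc_d_rc_16_2 lc_d_rc_22_4 lc_d_rc_25_2 lc_d_rc_8_3 lc_d_Cert_tree lc_d_rc_15_1 lc_d_rc_17_2 lc_d_rc_27_4 lc_d_rc_15_1 lc_d_rc_8_3 lc_d_rc_15_1 lc_d_rc_22_4 lc_d_rc_23_4 lc_d_rc_16_4 lc_d_rc_17_2 lc_d_rc_15_1) (@D3.rec (fun _ => (Cert rels S Gen.d)) lc_d_rc_8_1 lc_d_rc_15_1 lc_d_rc_23_4 lc_d_rc_15_1 lc_d_rc_3_3 lc_d_rc_17_2 lc_d_rc_23_4 lc_d_rc_8_3 lc_d_rc_8_1 lc_d_rc_16_2 lc_d_rc_23_8 lc_d_rc_8_3 lc_d_rc_15_1 lc_d_Cert_tree lc_d_rc_27_4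 lc_d_rc_15_1 lc_d_rc_15_1 lc_d_Cert_tree lc_d_rc_25_14 lc_d_rc_15_1 lc_d_rc_8_3 lc_d_rc_23_2 lc_d_rc_24_5 lc_d_rc_15_1 lc_d_rc_22_4 lc_d_Cert_tree lc_d_rc_15_1 lc_d_rc_15_1 lc_d_rc_15_1 lc_d_rc_15_1 lc_d_rc_17_2 lc_d_rc_15_1 lc_d_rc_16_0 lc_d_rc_12_1 lc_d_rc_22_6 lc_d_rc_17_2 lc_d_rc_3_3 lc_d_rc_17_2 lc_d_rc_16_4 lc_d_rc_22_4 lc_d_rc_22_2 lc_d_rc_15_1 lc_d_rc_8_3 lc_d_rc_15_1 lc_d_rc_23_4 lc_d_rc_3_3 lc_d_rc_27_10 lc_d_rc_27_10 lc_d_rc_15_1 lc_d_rc_27_8 lc_d_rc_16_2 lc_d_rc_15_1 lc_d_rc_15_1 lc_d_rc_27_10 lc_d_rc_15_1 lc_d_rc_15_1 lc_d_rc_15_1 lc_d_rc_23_2 lc_d_rc_17_2 lc_d_rc_17_2 lc_d_rc_15_1 lc_d_rc_8_1) (@D3.rec (fun _ => (Cert rels S Gen.d)) lc_d_rc_27_2 lc_d_rc_24_0 lc_d_rc_17_2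 lc_d_rc_15_1 lc_d_rc_15_1 lc_d_rc_15_1 lc_d_rc_15_1 lc_d_rc_15_1 lc_d_rc_22_6 lc_d_rc_17_2 lc_d_rc_15_1 lc_d_rc_15_1 lc_d_rc_16_2 lc_d_rc_22_4 lc_d_rc_17_0 lc_d_rc_27_4 lc_d_rc_27_8 lc_d_rc_15_1 lc_d_rc_27_4 lc_d_rc_24_5 lc_d_rc_12_15 lc_d_rc_27_4 lc_d_rc_8_1 lc_d_rc_27_10 lc_d_rc_15_1 lc_d_rc_15_1 lc_d_rc_16_0 lc_d_rc_16_4 lc_d_rc_15_1 lc_d_rc_15_1 lc_d_rc_22_6 lc_d_rc_15_1 lc_d_rc_24_0 lc_d_rc_23_4 lc_d_rc_23_4 lc_d_rc_16_2 lc_d_rc_24_0 lc_d_rc_8_1 lc_d_rc_27_2 lc_d_rc_8_3 lc_d_rc_15_1 lc_d_rc_22_4 lc_d_rc_8_1 lc_d_rc_12_15 lc_d_rc_8_3 lc_d_rc_16_0 lc_d_rc_17_2 lc_d_rc_3_3 lc_d_rc_15_1 lc_d_rc_22_2 lc_d_rc_24_0 lc_d_rc_17_2 lc_d_rc_15_1 lc_d_rc_17_2 lc_d_rc_15_1 lc_d_rc_8_3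 lc_d_rc_8_3 lc_d_rc_16_0 lc_d_rc_8_3 lc_d_rc_15_1 lc_d_rc_27_2 lc_d_rc_15_1) (@D3.rec (fun _ => (Cert rels S Gen.d)) lc_d_rc_16_2 lc_d_rc_23_8 lc_d_rc_15_1 lc_d_rc_15_1 lc_d_rc_24_0 lc_d_rc_15_1 lc_d_rc_15_1 lc_d_rc_22_2 lc_d_rc_27_8 lc_d_rc_15_1 lc_d_rc_23_4 lc_d_rc_15_1 lc_d_rc_22_4 lc_d_rc_8_3 lc_d_rc_16_2 lc_d_rc_22_2 lc_d_rc_16_4 lc_d_rc_15_1 lc_d_rc_15_1 lc_d_rc_17_2 lc_d_rc_22_8 lc_d_rc_15_1 lc_d_rc_27_4 lc_d_rc_8_3 lc_d_rc_16_4 lc_d_rc_23_4 lc_d_rc_15_1 lc_d_rc_17_2 lc_d_rc_25_10 lc_d_rc_15_1 lc_d_rc_15_1 lc_d_rc_22_4 lc_d_rc_8_1 lc_d_rc_22_4 lc_d_rc_22_2 lc_d_rc_16_2 lc_d_rc_23_4 lc_d_rc_17_2 lc_d_rc_27_2 lc_d_rc_8_3 lc_d_rc_15_1 lc_d_rc_8_1 lc_d_rc_8_3 lc_d_rc_15_1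 lc_d_rc_8_3 lc_d_rc_15_1 lc_d_rc_22_4 lc_d_rc_16_4 lc_d_rc_15_1 lc_d_rc_27_4 lc_d_rc_27_4 lc_d_rc_15_1 lc_d_rc_17_2 lc_d_rc_15_1 lc_d_rc_27_8 lc_d_rc_15_1 lc_d_rc_15_1 lc_d_rc_12_15 lc_d_rc_15_1 lc_d_rc_17_2 lc_d_rc_8_3 lc_d_rc_23_2) (@D3.rec (fun _ => (Cert rels S Gen.d)) lc_d_rc_22_2 lc_d_rc_15_1 lc_d_rc_15_1 lc_d_rc_27_2 lc_d_rc_15_1 lc_d_rc_16_0 lc_d_rc_15_1 lc_d_rc_3_3 lc_d_rc_17_2 lc_d_rc_8_3 lc_d_rc_23_2 lc_d_Cert_tree lc_d_rc_15_1 lc_d_rc_23_4 lc_d_rc_23_4 lc_d_rc_15_1 lc_d_rc_17_2 lc_d_rc_8_1 lc_d_rc_22_2 lc_d_rc_15_1 lc_d_rc_22_2 lc_d_rc_16_2 lc_d_rc_8_3 lc_d_rc_16_4 lc_d_rc_23_2 lc_d_rc_8_3 lc_d_rc_24_0 lc_d_rc_15_1 lc_d_rc_16_2 lc_d_rc_27_10 lc_d_rc_15_1 lc_d_rc_3_3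 lc_d_rc_15_1 lc_d_rc_15_1 lc_d_rc_27_2 lc_d_rc_15_1 lc_d_rc_15_1 lc_d_rc_16_4 lc_d_rc_15_1 lc_d_rc_3_1 lc_d_rc_27_4 lc_d_rc_15_1 lc_d_rc_15_1 lc_d_rc_24_5 lc_d_rc_15_1 lc_d_rc_8_3 lc_d_rc_8_3 lc_d_rc_27_2 lc_d_rc_16_0 lc_d_rc_8_3 lc_d_rc_8_3 lc_d_rc_17_2 lc_d_rc_15_1 lc_d_rc_3_1 lc_d_rc_23_4 lc_d_rc_23_2 lc_d_rc_15_1 lc_d_rc_22_6 lc_d_rc_17_2 lc_d_rc_23_8 lc_d_rc_15_1 lc_d_rc_17_2) (@D3.rec (fun _ => (Cert rels S Gen.d)) lc_d_rc_15_1 lc_d_rc_15_1 lc_d_rc_15_1 lc_d_rc_16_0 lc_d_rc_15_1 lc_d_rc_16_4 lc_d_rc_24_0 lc_d_rc_17_2 lc_d_rc_15_1 lc_d_rc_15_1 lc_d_rc_23_2 lc_d_rc_15_1 lc_d_rc_15_1 lc_d_rc_3_3 lc_d_Cert_tree lc_d_rc_15_1 lc_d_rc_3_1 lc_d_rc_3_3 lc_d_rc_15_1 lc_d_rc_12_15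 lc_d_rc_22_2 lc_d_rc_16_2 lc_d_rc_16_0 lc_d_rc_15_1 lc_d_rc_15_1 lc_d_rc_23_4 lc_d_rc_17_2 lc_d_rc_27_4 lc_d_rc_15_1 lc_d_rc_3_3 lc_d_rc_8_3 lc_d_rc_23_8 lc_d_rc_25_10 lc_d_rc_15_1 lc_d_rc_23_4 lc_d_rc_27_2 lc_d_rc_27_2 lc_d_rc_8_3 lc_d_rc_25_18 lc_d_rc_16_2 lc_d_rc_15_1 lc_d_rc_15_1 lc_d_rc_17_2 lc_d_rc_15_1 lc_d_rc_15_1 lc_d_rc_8_1 lc_d_rc_12_9 lc_d_rc_27_8 lc_d_rc_24_5 lc_d_rc_23_4 lc_d_rc_23_6 lc_d_rc_16_4 lc_d_rc_15_1 lc_d_rc_22_6 lc_d_rc_16_2 lc_d_rc_16_0 lc_d_rc_15_1 lc_d_rc_27_10 lc_d_rc_16_0 lc_d_rc_16_0 lc_d_rc_15_1 lc_d_rc_27_4) (@D3.rec (fun _ => (Cert rels S Gen.d)) lc_d_rc_8_3 lc_d_rc_15_1 lc_d_rc_8_3 lc_d_rc_15_1 lc_d_rc_27_4 lc_d_rc_17_2 lc_d_rc_15_1 lc_d_rc_15_1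 lc_d_rc_15_1 lc_d_rc_23_6 lc_d_rc_8_3 lc_d_rc_16_4 lc_d_rc_15_1 lc_d_rc_15_1 lc_d_rc_15_1 lc_d_rc_12_15 lc_d_rc_15_1 lc_d_rc_8_1 lc_d_rc_15_1 lc_d_rc_27_8 lc_d_rc_16_4 lc_d_rc_24_5 lc_d_rc_24_5 lc_d_rc_22_6 lc_d_rc_16_4 lc_d_rc_8_3 lc_d_rc_23_6 lc_d_rc_25_14 lc_d_rc_15_1 lc_d_rc_27_4 lc_d_rc_15_1 lc_d_rc_27_2 lc_d_rc_27_10 lc_d_rc_16_4 lc_d_rc_16_4 lc_d_rc_8_3 lc_d_rc_16_0 lc_d_rc_24_0 lc_d_rc_27_10 lc_d_rc_17_2 lc_d_rc_3_1 lc_d_rc_16_0 lc_d_rc_16_0 lc_d_rc_15_1 lc_d_rc_27_4 lc_d_rc_15_1 lc_d_rc_22_6 lc_d_rc_17_2 lc_d_rc_12_15 lc_d_rc_15_1 lc_d_rc_25_18 lc_d_rc_23_6 lc_d_rc_25_18 lc_d_rc_8_3 lc_d_rc_8_3 lc_d_rc_23_4 lc_d_rc_16_4 lc_d_rc_24_5 lc_d_rc_23_4 lc_d_rc_12_9 lc_d_rc_3_3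 lc_d_rc_17_0) (@D3.rec (fun _ => (Cert rels S Gen.d)) lc_d_rc_15_1 lc_d_rc_17_2 lc_d_rc_15_1 lc_d_rc_15_1 lc_d_rc_15_1 lc_d_rc_22_6 lc_d_rc_27_4 lc_d_rc_8_3 lc_d_rc_16_2 lc_d_rc_16_4 lc_d_rc_22_4 lc_d_rc_15_1 lc_d_rc_8_3 lc_d_rc_15_1 lc_d_rc_22_4 lc_d_rc_23_4 lc_d_rc_23_2 lc_d_rc_3_3 lc_d_rc_15_1 lc_d_rc_17_2 lc_d_rc_16_2 lc_d_rc_8_3 lc_d_rc_8_3 lc_d_rc_23_2 lc_d_rc_27_8 lc_d_rc_8_1 lc_d_rc_16_2 lc_d_rc_17_2 lc_d_rc_15_1 lc_d_rc_15_1 lc_d_Cert_tree lc_d_rc_15_1 lc_d_rc_8_3 lc_d_rc_23_2 lc_d_rc_15_1 lc_d_Cert_tree lc_d_rc_15_1 lc_d_rc_8_3 lc_d_rc_8_3 lc_d_rc_23_2 lc_d_rc_16_0 lc_d_rc_15_1 lc_d_rc_8_3 lc_d_rc_8_3 lc_d_rc_23_6 lc_d_rc_15_1 lc_d_rc_17_2 lc_d_rc_15_1 lc_d_rc_8_3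 lc_d_rc_27_4 lc_d_rc_12_15 lc_d_rc_15_1 lc_d_rc_8_3 lc_d_rc_25_2 lc_d_rc_22_4 lc_d_rc_27_4 lc_d_rc_15_1 lc_d_rc_15_1 lc_d_rc_16_2 lc_d_rc_22_2 lc_d_rc_8_1 lc_d_rc_12_3) (@D3.rec (fun _ => (Cert rels S Gen.d)) lc_d_rc_27_8 lc_d_rc_15_1 lc_d_rc_15_1 lc_d_rc_15_1 lc_d_rc_8_3 lc_d_rc_8_3 lc_d_rc_8_3 lc_d_rc_15_1 lc_d_rc_16_0 lc_d_rc_23_2 lc_d_rc_27_10 lc_d_rc_16_4 lc_d_rc_3_3 lc_d_rc_16_4 lc_d_rc_27_4 lc_d_rc_27_8 lc_d_rc_22_6 lc_d_rc_16_2 lc_d_rc_17_2 lc_d_rc_17_2 lc_d_rc_16_0 lc_d_rc_16_4 lc_d_rc_8_3 lc_d_rc_8_3 lc_d_rc_24_5 lc_d_rc_16_2 lc_d_rc_27_4 lc_d_rc_23_6 lc_d_rc_24_0 lc_d_rc_15_1 lc_d_rc_3_3 lc_d_rc_16_4 lc_d_rc_15_1 lc_d_rc_15_1 lc_d_rc_22_4 lc_d_rc_24_5 lc_d_rc_22_6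 lc_d_rc_8_3 lc_d_rc_8_3 lc_d_rc_16_4 lc_d_rc_27_2 lc_d_rc_15_1 lc_d_rc_23_2 lc_d_rc_15_1 lc_d_rc_25_6 lc_d_rc_15_1 lc_d_rc_24_5 lc_d_Cert_tree lc_d_rc_17_2 lc_d_rc_15_1 lc_d_rc_27_2 lc_d_rc_25_14 lc_d_rc_27_10 lc_d_rc_23_4 lc_d_rc_23_6 lc_d_rc_17_2 lc_d_rc_8_1 lc_d_rc_24_0 lc_d_rc_27_4 lc_d_rc_15_1 lc_d_rc_22_6 lc_d_rc_15_1) (@D3.rec (fun _ => (Cert rels S Gen.d)) lc_d_rc_15_1 lc_d_rc_15_1 lc_d_rc_27_2 lc_d_rc_22_8 lc_d_rc_15_1 lc_d_rc_15_1 lc_d_rc_27_2 lc_d_rc_15_1 lc_d_rc_12_1 lc_d_rc_27_10 lc_d_rc_17_0 lc_d_rc_3_1 lc_d_rc_24_0 lc_d_rc_27_4 lc_d_rc_16_0 lc_d_rc_17_0 lc_d_rc_27_2 lc_d_rc_22_4 lc_d_rc_15_1 lc_d_rc_16_2 lc_d_rc_22_2 lc_d_rc_15_1 lc_d_rc_8_3 lc_d_rc_22_4 lc_d_rc_27_4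 lc_d_rc_8_3 lc_d_rc_23_2 lc_d_rc_27_2 lc_d_rc_15_1 lc_d_rc_24_0 lc_d_rc_16_2 lc_d_rc_16_4 lc_d_rc_27_4 lc_d_rc_15_1 lc_d_rc_15_1 lc_d_Cert_tree lc_d_rc_24_0 lc_d_rc_8_3 lc_d_rc_15_1 lc_d_rc_23_2 lc_d_rc_15_1 lc_d_Cert_tree lc_d_rc_17_0 lc_d_rc_3_3 lc_d_rc_23_4 lc_d_rc_22_8 lc_d_rc_15_1 lc_d_rc_15_1 lc_d_rc_3_1 lc_d_rc_15_1 lc_d_rc_16_2 lc_d_rc_15_1 lc_d_rc_3_1 lc_d_rc_22_2 lc_d_rc_8_1 lc_d_rc_27_4 lc_d_rc_22_2 lc_d_rc_15_1 lc_d_rc_15_1 lc_d_rc_16_2 lc_d_rc_16_2 lc_d_rc_27_10) (@D3.rec (fun _ => (Cert rels S Gen.d)) lc_d_rc_8_3 lc_d_rc_15_1 lc_d_rc_17_2 lc_d_rc_16_4 lc_d_rc_15_1 lc_d_rc_25_2 lc_d_rc_15_1 lc_d_rc_15_1 lc_d_rc_17_2 lc_d_rc_8_3 lc_d_rc_16_0 lc_d_rc_8_1 lc_d_rc_27_8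 lc_d_rc_16_4 lc_d_rc_22_8 lc_d_rc_15_1 lc_d_rc_27_2 lc_d_rc_23_6 lc_d_rc_24_5 lc_d_rc_15_1 lc_d_rc_22_4 lc_d_rc_15_1 lc_d_rc_12_13 lc_d_Cert_tree lc_d_rc_15_1 lc_d_rc_27_2 lc_d_rc_24_0 lc_d_rc_23_2 lc_d_rc_25_6 lc_d_rc_3_1 lc_d_rc_15_1 lc_d_rc_22_4 lc_d_rc_15_1 lc_d_rc_24_5 lc_d_rc_16_2 lc_d_rc_12_15 lc_d_rc_15_1 lc_d_rc_23_4 lc_d_rc_15_1 lc_d_rc_15_1 lc_d_rc_16_4 lc_d_rc_25_18 lc_d_rc_23_8 lc_d_rc_22_2 lc_d_rc_15_1 lc_d_rc_22_2 lc_d_rc_15_1 lc_d_rc_27_2 lc_d_rc_15_1 lc_d_rc_15_1 lc_d_rc_8_3 lc_d_rc_15_1 lc_d_rc_8_3 lc_d_rc_24_5 lc_d_rc_15_1 lc_d_rc_16_0 lc_d_rc_16_0 lc_d_rc_15_1 lc_d_rc_27_4 lc_d_rc_15_1 lc_d_rc_27_4 lc_d_rc_23_6) (@D3.rec (fun _ => (Cert rels S Gen.d)) lc_d_rc_15_1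 lc_d_rc_8_1 lc_d_rc_15_1 lc_d_rc_8_1 lc_d_rc_8_1 lc_d_rc_23_2 lc_d_rc_15_1 lc_d_rc_27_4 lc_d_rc_8_3 lc_d_rc_27_2 lc_d_rc_15_1 lc_d_rc_24_5 lc_d_rc_27_2 lc_d_rc_15_1 lc_d_rc_23_2 lc_d_rc_24_5 lc_d_rc_25_2 lc_d_rc_15_1 lc_d_rc_16_2 lc_d_rc_16_0 lc_d_rc_8_1 lc_d_rc_15_1 lc_d_rc_17_2 lc_d_rc_15_1 lc_d_rc_15_1 lc_d_rc_22_4 lc_d_rc_17_2 lc_d_rc_15_1 lc_d_rc_16_0 lc_d_Cert_tree lc_d_rc_15_1 lc_d_rc_22_6 lc_d_rc_15_1 lc_d_rc_27_10 lc_d_rc_15_1 lc_d_rc_17_2 lc_d_rc_25_6 lc_d_rc_23_2 lc_d_rc_17_2 lc_d_Cert_tree lc_d_rc_15_1 lc_d_rc_23_2 lc_d_rc_27_8 lc_d_rc_22_4 lc_d_rc_15_1 lc_d_rc_3_3 lc_d_rc_8_3 lc_d_rc_15_1 lc_d_rc_15_1 lc_d_rc_27_2 lc_d_rc_8_1 lc_d_rc_24_5 lc_d_rc_3_1 lc_d_rc_8_1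 lc_d_rc_25_2 lc_d_rc_24_0 lc_d_Cert_tree lc_d_rc_22_6 lc_d_rc_15_1 lc_d_rc_8_3 lc_d_rc_15_1 lc_d_rc_27_2) (@D3.rec (fun _ => (Cert rels S Gen.d)) lc_d_rc_22_6 lc_d_rc_15_1 lc_d_rc_27_10 lc_d_rc_27_2 lc_d_rc_15_1 lc_d_rc_15_1 lc_d_rc_3_1 lc_d_rc_15_1 lc_d_rc_27_2 lc_d_rc_15_1 lc_d_rc_17_0 lc_d_rc_15_1 lc_d_rc_15_1 lc_d_rc_24_0 lc_d_rc_22_2 lc_d_rc_22_8 lc_d_rc_15_1 lc_d_rc_15_1 lc_d_rc_16_2 lc_d_rc_23_2 lc_d_rc_23_2 lc_d_rc_8_3 lc_d_rc_22_4 lc_d_rc_27_2 lc_d_rc_8_3 lc_d_rc_8_3 lc_d_rc_8_3 lc_d_rc_15_1 lc_d_rc_24_5 lc_d_rc_15_1 lc_d_rc_15_1 lc_d_rc_17_2 lc_d_rc_3_1 lc_d_rc_15_1 lc_d_rc_8_1 lc_d_rc_15_1 lc_d_rc_17_2 lc_d_rc_27_8 lc_d_rc_16_2 lc_d_rc_15_1 lc_d_rc_15_1 lc_d_rc_27_2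 lc_d_rc_8_3 lc_d_rc_15_1 lc_d_rc_24_0 lc_d_rc_17_2 lc_d_rc_16_4 lc_d_rc_27_4 lc_d_rc_15_1 lc_d_rc_15_1 lc_d_rc_27_4 lc_d_rc_8_1 lc_d_rc_15_1 lc_d_rc_15_1 lc_d_rc_27_4 lc_d_rc_8_3 lc_d_rc_23_2 lc_d_rc_3_3 lc_d_rc_24_0 lc_d_rc_24_0 lc_d_rc_3_1 lc_d_rc_15_1) (@D3.rec (fun _ => (Cert rels S Gen.d)) lc_d_rc_24_5 lc_d_rc_8_3 lc_d_rc_24_0 lc_d_rc_15_1 lc_d_rc_15_1 lc_d_rc_15_1 lc_d_rc_15_1 lc_d_rc_15_1 lc_d_rc_15_1 lc_d_rc_22_4 lc_d_rc_8_3 lc_d_rc_22_8 lc_d_rc_8_3 lc_d_rc_16_4 lc_d_rc_8_3 lc_d_rc_27_8 lc_d_rc_15_1 lc_d_rc_16_4 lc_d_rc_23_2 lc_d_rc_27_10 lc_d_rc_22_4 lc_d_rc_22_4 lc_d_rc_15_1 lc_d_rc_25_18 lc_d_Cert_tree lc_d_rc_8_3 lc_d_rc_15_1 lc_d_rc_15_1 lc_d_rc_23_2 lc_d_rc_27_2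 lc_d_rc_16_4 lc_d_rc_15_1 lc_d_Cert_tree lc_d_rc_15_1 lc_d_rc_16_0 lc_d_rc_24_5 lc_d_rc_24_5 lc_d_rc_3_1 lc_d_rc_8_1 lc_d_rc_23_6 lc_d_rc_12_1 lc_d_rc_27_4 lc_d_rc_15_1 lc_d_rc_24_0 lc_d_rc_24_0 lc_d_rc_15_1 lc_d_rc_15_1 lc_d_rc_3_3 lc_d_rc_24_5 lc_d_rc_8_3 lc_d_rc_8_3 lc_d_rc_15_1 lc_d_rc_15_1 lc_d_rc_27_2 lc_d_rc_27_8 lc_d_rc_22_4 lc_d_rc_15_1 lc_d_rc_15_1 lc_d_rc_17_0 lc_d_rc_15_1 lc_d_rc_27_4 lc_d_rc_27_10) (@D3.rec (fun _ => (Cert rels S Gen.d)) lc_d_rc_22_4 lc_d_rc_15_1 lc_d_rc_15_1 lc_d_rc_27_4 lc_d_rc_15_1 lc_d_rc_17_2 lc_d_rc_16_4 lc_d_rc_8_3 lc_d_rc_16_0 lc_d_rc_27_2 lc_d_rc_15_1 lc_d_rc_24_0 lc_d_rc_16_4 lc_d_rc_17_0 lc_d_rc_15_1 lc_d_rc_17_2 lc_d_rc_23_4 lc_d_rc_27_4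 lc_d_rc_15_1 lc_d_rc_15_1 lc_d_rc_15_1 lc_d_rc_8_3 lc_d_rc_8_1 lc_d_Cert_tree lc_d_rc_15_1 lc_d_rc_17_2 lc_d_rc_8_3 lc_d_rc_15_1 lc_d_rc_16_4 lc_d_rc_24_5 lc_d_rc_15_1 lc_d_rc_15_1 lc_d_rc_23_2 lc_d_rc_3_3 lc_d_rc_15_1 lc_d_rc_23_8 lc_d_rc_15_1 lc_d_rc_16_4 lc_d_rc_15_1 lc_d_rc_23_2 lc_d_rc_15_1 lc_d_rc_8_3 lc_d_rc_24_5 lc_d_rc_15_1 lc_d_rc_8_1 lc_d_rc_25_2 lc_d_rc_15_1 lc_d_rc_15_1 lc_d_rc_22_6 lc_d_rc_22_8 lc_d_rc_15_1 lc_d_rc_8_3 lc_d_rc_8_3 lc_d_rc_23_8 lc_d_rc_3_1 lc_d_rc_27_4 lc_d_rc_22_2 lc_d_rc_17_2 lc_d_rc_25_6 lc_d_rc_24_0 lc_d_rc_16_4 lc_d_rc_24_5) (@D3.rec (fun _ => (Cert rels S Gen.d)) lc_d_rc_15_1 lc_d_rc_16_4 lc_d_rc_22_8 lc_d_rc_3_3 lc_d_rc_25_2 lc_d_rc_8_3 lc_d_rc_15_1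 lc_d_rc_12_1 lc_d_rc_16_4 lc_d_rc_15_1 lc_d_rc_15_1 lc_d_rc_15_1 lc_d_rc_27_8 lc_d_rc_17_2 lc_d_rc_27_2 lc_d_rc_12_9 lc_d_Cert_tree lc_d_rc_15_1 lc_d_rc_15_1 lc_d_rc_8_1 lc_d_rc_15_1 lc_d_Cert_tree lc_d_rc_15_1 lc_d_rc_24_0 lc_d_rc_15_1 lc_d_rc_15_1 lc_d_rc_16_2 lc_d_rc_22_4 lc_d_rc_17_2 lc_d_rc_3_3 lc_d_rc_15_1 lc_d_rc_16_0 lc_d_rc_15_1 lc_d_rc_17_2 lc_d_rc_15_1 lc_d_rc_15_1 lc_d_rc_3_3 lc_d_rc_24_0 lc_d_rc_15_1 lc_d_rc_17_2 lc_d_rc_27_8 lc_d_rc_23_4 lc_d_rc_15_1 lc_d_rc_8_1 lc_d_rc_27_10 lc_d_Cert_tree lc_d_rc_23_8 lc_d_rc_16_4 lc_d_rc_15_1 lc_d_rc_12_1 lc_d_rc_15_1 lc_d_rc_22_2 lc_d_rc_16_2 lc_d_rc_22_2 lc_d_rc_3_1 lc_d_rc_22_6 lc_d_rc_22_2 lc_d_rc_15_1 lc_d_rc_15_1 lc_d_rc_16_4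 lc_d_rc_8_1 lc_d_rc_27_4) (@D3.rec (fun _ => (Cert rels S Gen.d)) lc_d_rc_8_1 lc_d_rc_15_1 lc_d_rc_27_8 lc_d_rc_15_1 lc_d_rc_22_4 lc_d_rc_27_4 lc_d_rc_15_1 lc_d_rc_15_1 lc_d_rc_8_3 lc_d_rc_22_4 lc_d_rc_16_2 lc_d_rc_23_6 lc_d_rc_16_2 lc_d_rc_15_1 lc_d_rc_8_3 lc_d_rc_8_3 lc_d_rc_8_3 lc_d_rc_23_6 lc_d_rc_8_3 lc_d_rc_15_1 lc_d_rc_27_4 lc_d_rc_3_1 lc_d_rc_8_1 lc_d_rc_17_0 lc_d_rc_3_3 lc_d_rc_15_1 lc_d_rc_17_0 lc_d_rc_16_0 lc_d_rc_15_1 lc_d_rc_3_1 lc_d_rc_8_3 lc_d_rc_23_6 lc_d_rc_15_1 lc_d_rc_22_4 lc_d_rc_15_1 lc_d_rc_16_2 lc_d_rc_17_2 lc_d_rc_27_2 lc_d_rc_15_1 lc_d_rc_17_0 lc_d_rc_15_1 lc_d_rc_17_0 lc_d_rc_15_1 lc_d_rc_23_2 lc_d_rc_27_8 lc_d_rc_27_4 lc_d_rc_22_4 lc_d_rc_15_1 lc_d_rc_15_1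 lc_d_rc_15_1 lc_d_rc_8_3 lc_d_rc_22_4 lc_d_rc_17_2 lc_d_rc_15_1 lc_d_rc_27_4 lc_d_rc_22_4 lc_d_rc_24_0 lc_d_rc_24_0 lc_d_rc_27_8 lc_d_rc_22_4 lc_d_rc_15_1 lc_d_rc_27_2) (@D3.rec (fun _ => (Cert rels S Gen.d)) lc_d_rc_8_1 lc_d_rc_15_1 lc_d_rc_23_2 lc_d_rc_15_1 lc_d_rc_23_6 lc_d_rc_8_1 lc_d_rc_23_6 lc_d_rc_15_1 lc_d_rc_15_1 lc_d_rc_15_1 lc_d_rc_15_1 lc_d_rc_22_8 lc_d_rc_15_1 lc_d_rc_15_1 lc_d_rc_16_2 lc_d_rc_16_4 lc_d_rc_15_1 lc_d_rc_16_4 lc_d_rc_15_1 lc_d_rc_3_3 lc_d_rc_8_3 lc_d_rc_8_3 lc_d_Cert_tree lc_d_rc_15_1 lc_d_rc_22_6 lc_d_rc_15_1 lc_d_rc_15_1 lc_d_rc_23_8 lc_d_rc_8_1 lc_d_rc_16_4 lc_d_rc_8_1 lc_d_rc_16_4 lc_d_rc_25_18 lc_d_rc_17_2 lc_d_rc_15_1 lc_d_rc_27_2 lc_d_rc_22_6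 lc_d_rc_22_2 lc_d_rc_27_4 lc_d_rc_15_1 lc_d_rc_3_3 lc_d_rc_15_1 lc_d_rc_8_3 lc_d_rc_15_1 lc_d_rc_15_1 lc_d_rc_27_2 lc_d_rc_16_4 lc_d_rc_23_2 lc_d_rc_8_3 lc_d_rc_15_1 lc_d_rc_22_8 lc_d_rc_8_3 lc_d_rc_27_8 lc_d_rc_23_2 lc_d_rc_15_1 lc_d_rc_15_1 lc_d_rc_8_1 lc_d_rc_15_1 lc_d_rc_16_4 lc_d_rc_23_6 lc_d_rc_23_2 lc_d_rc_16_4) (@D3.rec (fun _ => (Cert rels S Gen.d)) lc_d_rc_8_3 lc_d_rc_27_10 lc_d_rc_22_6 lc_d_rc_24_5 lc_d_rc_8_1 lc_d_rc_27_8 lc_d_rc_15_1 lc_d_rc_24_5 lc_d_rc_15_1 lc_d_rc_15_1 lc_d_rc_8_3 lc_d_rc_15_1 lc_d_rc_15_1 lc_d_rc_17_2 lc_d_rc_15_1 lc_d_rc_25_18 lc_d_rc_23_4 lc_d_rc_16_2 lc_d_rc_8_3 lc_d_rc_8_3 lc_d_rc_22_6 lc_d_rc_16_2 lc_d_rc_24_0 lc_d_rc_15_1 lc_d_rc_8_1 lc_d_rc_8_3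 lc_d_rc_8_3 lc_d_rc_27_4 lc_d_rc_24_5 lc_d_rc_17_2 lc_d_rc_23_2 lc_d_rc_22_2 lc_d_rc_24_5 lc_d_rc_15_1 lc_d_rc_24_5 lc_d_rc_27_4 lc_d_rc_3_1 lc_d_rc_8_3 lc_d_rc_16_4 lc_d_rc_15_1 lc_d_rc_17_2 lc_d_rc_22_4 lc_d_rc_8_1 lc_d_rc_22_2 lc_d_rc_15_1 lc_d_rc_16_0 lc_d_rc_15_1 lc_d_rc_15_1 lc_d_rc_17_0 lc_d_rc_27_8 lc_d_rc_15_1 lc_d_rc_15_1 lc_d_rc_15_1 lc_d_rc_24_5 lc_d_rc_15_1 lc_d_rc_27_4 lc_d_rc_23_6 lc_d_rc_23_8 lc_d_rc_17_2 lc_d_rc_15_1 lc_d_rc_16_0 lc_d_rc_27_8) (@D3.rec (fun _ => (Cert rels S Gen.d)) lc_d_rc_22_4 lc_d_rc_15_1 lc_d_rc_16_4 lc_d_rc_24_5 lc_d_rc_15_1 lc_d_rc_17_2 lc_d_rc_24_5 lc_d_rc_27_10 lc_d_rc_16_4 lc_d_rc_15_1 lc_d_rc_24_0 lc_d_rc_16_4 lc_d_rc_27_8 lc_d_rc_8_1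 lc_d_rc_15_1 lc_d_rc_8_3 lc_d_Cert_tree lc_d_rc_23_4 lc_d_rc_25_6 lc_d_rc_15_1 lc_d_rc_23_4 lc_d_rc_15_1 lc_d_rc_27_2 lc_d_rc_23_8 lc_d_rc_16_2 lc_d_rc_27_2 lc_d_rc_15_1 lc_d_rc_15_1 lc_d_rc_15_1 lc_d_rc_17_2 lc_d_rc_15_1 lc_d_rc_23_4 lc_d_rc_15_1 lc_d_rc_17_2 lc_d_rc_15_1 lc_d_rc_27_2 lc_d_rc_15_1 lc_d_rc_17_2 lc_d_rc_16_4 lc_d_rc_3_3 lc_d_rc_8_3 lc_d_rc_27_4 lc_d_rc_15_1 lc_d_rc_27_8 lc_d_rc_27_10 lc_d_rc_27_4 lc_d_rc_3_3 lc_d_rc_16_4 lc_d_rc_15_1 lc_d_rc_17_2 lc_d_rc_8_3 lc_d_rc_27_10 lc_d_rc_22_2 lc_d_rc_15_1 lc_d_rc_16_0 lc_d_rc_27_4 lc_d_rc_15_1 lc_d_rc_22_2 lc_d_rc_16_2 lc_d_rc_17_2 lc_d_rc_16_4 lc_d_rc_17_2) (@D3.rec (fun _ => (Cert rels S Gen.d)) lc_d_rc_17_0 lc_d_rc_8_1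 lc_d_rc_16_0 lc_d_rc_15_1 lc_d_rc_27_8 lc_d_rc_3_1 lc_d_rc_16_4 lc_d_rc_17_2 lc_d_rc_16_2 lc_d_rc_27_4 lc_d_rc_23_6 lc_d_rc_17_2 lc_d_rc_27_4 lc_d_rc_22_8 lc_d_rc_22_2 lc_d_Cert_tree lc_d_rc_16_2 lc_d_rc_15_1 lc_d_rc_23_2 lc_d_rc_27_10 lc_d_rc_15_1 lc_d_rc_23_2 lc_d_rc_17_2 lc_d_rc_15_1 lc_d_rc_15_1 lc_d_rc_17_2 lc_d_rc_27_10 lc_d_rc_15_1 lc_d_rc_17_2 lc_d_rc_27_4 lc_d_rc_16_2 lc_d_rc_25_2 lc_d_rc_15_1 lc_d_rc_25_18 lc_d_rc_8_3 lc_d_rc_15_1 lc_d_rc_27_4 lc_d_rc_22_4 lc_d_rc_27_4 lc_d_rc_27_10 lc_d_rc_15_1 lc_d_rc_27_2 lc_d_rc_24_0 lc_d_Cert_tree lc_d_rc_23_4 lc_d_rc_22_6 lc_d_rc_24_0 lc_d_rc_15_1 lc_d_rc_15_1 lc_d_rc_16_4 lc_d_rc_22_2 lc_d_rc_27_4 lc_d_rc_15_1 lc_d_rc_27_2 lc_d_rc_15_1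 lc_d_rc_27_8 lc_d_rc_25_18 lc_d_rc_27_4 lc_d_rc_22_4 lc_d_rc_12_15 lc_d_rc_23_6 lc_d_rc_15_1) (@D3.rec (fun _ => (Cert rels S Gen.d)) lc_d_rc_15_1 lc_d_rc_24_5 lc_d_rc_22_4 lc_d_rc_15_1 lc_d_rc_15_1 lc_d_rc_16_0 lc_d_rc_17_2 lc_d_rc_23_2 lc_d_rc_16_4 lc_d_rc_15_1 lc_d_rc_15_1 lc_d_rc_17_0 lc_d_rc_17_2 lc_d_rc_15_1 lc_d_rc_8_1 lc_d_rc_15_1 lc_d_rc_15_1 lc_d_rc_15_1 lc_d_rc_22_4 lc_d_rc_15_1 lc_d_rc_15_1 lc_d_rc_15_1 lc_d_rc_16_4 lc_d_rc_15_1 lc_d_rc_27_4 lc_d_rc_25_10 lc_d_rc_27_10 lc_d_rc_15_1 lc_d_rc_22_6 lc_d_rc_15_1 lc_d_rc_24_0 lc_d_rc_15_1 lc_d_Cert_tree lc_d_rc_15_1 lc_d_rc_8_1 lc_d_rc_8_3 lc_d_rc_16_2 lc_d_rc_23_4 lc_d_rc_17_2 lc_d_rc_27_4 lc_d_rc_15_1 lc_d_rc_15_1 lc_d_rc_22_6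 lc_d_rc_22_8 lc_d_rc_15_1 lc_d_rc_8_1 lc_d_rc_16_4 lc_d_rc_16_0 lc_d_rc_15_1 lc_d_rc_24_0 lc_d_rc_23_2 lc_d_rc_15_1 lc_d_rc_3_3 lc_d_rc_16_0 lc_d_rc_27_4 lc_d_rc_15_1 lc_d_rc_27_2 lc_d_rc_22_8 lc_d_rc_22_4 lc_d_rc_15_1 lc_d_rc_27_10 lc_d_rc_22_4) (@D3.rec (fun _ => (Cert rels S Gen.d)) lc_d_rc_15_1 lc_d_rc_22_4 lc_d_rc_22_8 lc_d_rc_16_4 lc_d_rc_3_3 lc_d_rc_15_1 lc_d_rc_8_1 lc_d_rc_15_1 lc_d_rc_17_2 lc_d_rc_8_1 lc_d_rc_27_8 lc_d_rc_15_1 lc_d_rc_15_1 lc_d_rc_23_6 lc_d_rc_24_0 lc_d_rc_16_2 lc_d_rc_22_6 lc_d_rc_22_2 lc_d_rc_15_1 lc_d_rc_22_2 lc_d_rc_8_1 lc_d_rc_15_1 lc_d_rc_16_2 lc_d_rc_23_2 lc_d_rc_8_3 lc_d_rc_16_2 lc_d_rc_8_3 lc_d_rc_15_1 lc_d_rc_23_6 lc_d_rc_15_1 lc_d_rc_27_2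 lc_d_rc_15_1 lc_d_rc_15_1 lc_d_rc_27_2 lc_d_rc_8_3 lc_d_rc_16_2 lc_d_rc_17_2 lc_d_rc_8_1 lc_d_rc_15_1 lc_d_rc_22_4 lc_d_rc_15_1 lc_d_rc_8_3 lc_d_rc_12_3 lc_d_rc_16_2 lc_d_rc_24_0 lc_d_rc_25_2 lc_d_rc_16_0 lc_d_rc_3_1 lc_d_rc_22_4 lc_d_rc_15_1 lc_d_rc_24_0 lc_d_rc_23_2 lc_d_rc_15_1 lc_d_rc_22_4 lc_d_rc_22_6 lc_d_rc_15_1 lc_d_rc_3_3 lc_d_rc_8_3 lc_d_rc_15_1 lc_d_rc_15_1 lc_d_rc_15_1 lc_d_rc_27_2) (@D3.rec (fun _ => (Cert rels S Gen.d)) lc_d_rc_15_1 lc_d_rc_3_1 lc_d_rc_15_1 lc_d_rc_16_2 lc_d_rc_22_6 lc_d_rc_27_8 lc_d_Cert_tree lc_d_rc_15_1 lc_d_rc_15_1 lc_d_rc_15_1 lc_d_rc_8_3 lc_d_Cert_tree lc_d_rc_15_1 lc_d_rc_8_3 lc_d_Cert_tree lc_d_rc_8_3 lc_d_rc_15_1 lc_d_rc_15_1 lc_d_rc_15_1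 lc_d_rc_27_2 lc_d_rc_3_3 lc_d_rc_22_4 lc_d_rc_16_2 lc_d_rc_24_0 lc_d_rc_25_10 lc_d_rc_23_6 lc_d_rc_15_1 lc_d_rc_15_1 lc_d_rc_27_4 lc_d_rc_24_0 lc_d_rc_15_1 lc_d_rc_15_1 lc_d_rc_23_4 lc_d_rc_15_1 lc_d_rc_22_4 lc_d_rc_17_2 lc_d_Cert_tree lc_d_rc_15_1 lc_d_rc_8_3 lc_d_rc_22_4 lc_d_rc_15_1 lc_d_rc_15_1 lc_d_rc_8_3 lc_d_rc_8_3 lc_d_rc_8_3 lc_d_rc_15_1 lc_d_rc_8_3 lc_d_rc_22_2 lc_d_rc_15_1 lc_d_rc_23_4 lc_d_rc_22_8 lc_d_rc_3_1 lc_d_rc_15_1 lc_d_rc_27_2 lc_d_rc_15_1 lc_d_rc_15_1 lc_d_rc_24_0 lc_d_rc_15_1 lc_d_rc_8_3 lc_d_rc_15_1 lc_d_rc_27_4 lc_d_Cert_tree) (@D3.rec (fun _ => (Cert rels S Gen.d)) lc_d_Cert_tree lc_d_rc_15_1 lc_d_rc_15_1 lc_d_rc_27_8 lc_d_rc_15_1 lc_d_rc_23_6 lc_d_rc_8_1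 lc_d_rc_23_6 lc_d_rc_15_1 lc_d_rc_15_1 lc_d_rc_8_3 lc_d_rc_3_3 lc_d_rc_22_2 lc_d_rc_8_3 lc_d_rc_15_1 lc_d_rc_17_2 lc_d_rc_3_3 lc_d_rc_15_1 lc_d_Cert_tree lc_d_Cert_tree lc_d_rc_15_1 lc_d_rc_15_1 lc_d_rc_16_2 lc_d_rc_8_3 lc_d_rc_12_15 lc_d_rc_8_3 lc_d_rc_16_2 lc_d_rc_15_1 lc_d_rc_24_5 lc_d_rc_27_4 lc_d_rc_8_3 lc_d_rc_22_2 lc_d_rc_8_3 lc_d_rc_17_2 lc_d_rc_15_1 lc_d_rc_15_1 lc_d_rc_17_0 lc_d_rc_15_1 lc_d_rc_22_4 lc_d_rc_8_3 lc_d_rc_27_2 lc_d_rc_17_0 lc_d_rc_8_1 lc_d_rc_16_4 lc_d_rc_17_0 lc_d_rc_16_2 lc_d_rc_8_3 lc_d_rc_16_2 lc_d_Cert_tree lc_d_Cert_tree lc_d_rc_27_2 lc_d_rc_15_1 lc_d_rc_22_2 lc_d_rc_23_8 lc_d_rc_8_3 lc_d_rc_16_4 lc_d_rc_23_4 lc_d_rc_8_3 lc_d_rc_15_1 lc_d_rc_3_1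 lc_d_rc_15_1 lc_d_rc_17_2) (@D3.rec (fun _ => (Cert rels S Gen.d)) lc_d_rc_3_3 lc_d_rc_15_1 lc_d_rc_15_1 lc_d_rc_22_6 lc_d_rc_27_4 lc_d_rc_27_8 lc_d_rc_27_4 lc_d_rc_8_1 lc_d_rc_15_1 lc_d_rc_15_1 lc_d_rc_27_10 lc_d_rc_15_1 lc_d_rc_15_1 lc_d_rc_27_4 lc_d_rc_15_1 lc_d_rc_23_6 lc_d_rc_23_6 lc_d_rc_22_8 lc_d_rc_15_1 lc_d_rc_15_1 lc_d_rc_22_4 lc_d_rc_15_1 lc_d_rc_8_1 lc_d_rc_16_2 lc_d_rc_23_2 lc_d_rc_8_1 lc_d_rc_22_4 lc_d_rc_27_8 lc_d_rc_15_1 lc_d_rc_15_1 lc_d_rc_15_1 lc_d_rc_25_6 lc_d_rc_15_1 lc_d_rc_16_0 lc_d_rc_16_2 lc_d_rc_23_2 lc_d_rc_15_1 lc_d_rc_27_2 lc_d_rc_15_1 lc_d_rc_15_1 lc_d_rc_8_3 lc_d_rc_15_1 lc_d_rc_15_1 lc_d_rc_23_6 lc_d_rc_22_4 lc_d_rc_15_1 lc_d_rc_8_3 lc_d_rc_16_2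 lc_d_rc_23_2 lc_d_rc_16_2 lc_d_rc_8_1 lc_d_rc_8_3 lc_d_rc_15_1 lc_d_rc_15_1 lc_d_rc_16_2 lc_d_rc_23_4 lc_d_rc_15_1 lc_d_rc_15_1 lc_d_rc_22_4 lc_d_rc_24_0 lc_d_rc_17_0 lc_d_rc_15_1) (@D3.rec (fun _ => (Cert rels S Gen.d)) lc_d_rc_16_4 lc_d_rc_24_0 lc_d_rc_22_4 lc_d_rc_17_2 lc_d_rc_23_2 lc_d_rc_16_0 lc_d_rc_27_4 lc_d_rc_15_1 lc_d_rc_15_1 lc_d_rc_15_1 lc_d_rc_8_3 lc_d_rc_8_3 lc_d_rc_15_1 lc_d_rc_27_2 lc_d_rc_17_2 lc_d_rc_23_4 lc_d_rc_8_1 lc_d_Cert_tree lc_d_rc_27_2 lc_d_rc_24_0 lc_d_rc_27_4 lc_d_rc_24_5 lc_d_rc_15_1 lc_d_rc_27_4 lc_d_rc_27_4 lc_d_rc_27_4 lc_d_Cert_tree lc_d_rc_22_6 lc_d_rc_15_1 lc_d_rc_3_3 lc_d_rc_22_8 lc_d_rc_16_4 lc_d_rc_8_3 lc_d_rc_15_1 lc_d_rc_15_1 lc_d_rc_22_4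 lc_d_rc_27_2 lc_d_rc_23_6 lc_d_rc_22_4 lc_d_rc_16_2 lc_d_rc_8_1 lc_d_rc_15_1 lc_d_rc_8_3 lc_d_rc_15_1 lc_d_rc_8_3 lc_d_rc_22_2 lc_d_rc_8_3 lc_d_rc_27_2 lc_d_rc_15_1 lc_d_rc_15_1 lc_d_rc_16_2 lc_d_rc_3_3 lc_d_rc_24_0 lc_d_rc_15_1 lc_d_rc_8_3 lc_d_rc_12_15 lc_d_rc_27_2 lc_d_rc_15_1 lc_d_rc_15_1 lc_d_rc_8_3 lc_d_rc_27_4 lc_d_rc_17_2) (@D3.rec (fun _ => (Cert rels S Gen.d)) lc_d_rc_17_0 lc_d_rc_15_1 lc_d_rc_23_8 lc_d_rc_23_2 lc_d_rc_15_1 lc_d_rc_17_2 lc_d_rc_23_8 lc_d_rc_15_1 lc_d_rc_8_3 lc_d_rc_15_1 lc_d_rc_23_2 lc_d_rc_3_3 lc_d_rc_22_8 lc_d_rc_8_3 lc_d_rc_27_8 lc_d_rc_16_4 lc_d_rc_24_0 lc_d_rc_15_1 lc_d_rc_25_18 lc_d_rc_27_4 lc_d_rc_24_0 lc_d_rc_8_1 lc_d_rc_15_1 lc_d_rc_22_8 lc_d_rc_15_1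 lc_d_rc_8_1 lc_d_rc_15_1 lc_d_rc_15_1 lc_d_rc_8_3 lc_d_rc_27_4 lc_d_rc_15_1 lc_d_rc_3_3 lc_d_rc_22_2 lc_d_rc_15_1 lc_d_rc_27_4 lc_d_Cert_tree lc_d_rc_15_1 lc_d_rc_8_3 lc_d_rc_3_3 lc_d_rc_27_4 lc_d_rc_23_2 lc_d_rc_15_1 lc_d_rc_27_8 lc_d_rc_24_0 lc_d_rc_24_0 lc_d_rc_27_2 lc_d_rc_27_10 lc_d_rc_8_3 lc_d_rc_8_3 lc_d_rc_23_4 lc_d_rc_15_1 lc_d_rc_24_0 lc_d_rc_15_1 lc_d_rc_27_10 lc_d_rc_27_10 lc_d_rc_8_3 lc_d_rc_17_2 lc_d_rc_22_8 lc_d_rc_15_1 lc_d_rc_8_3 lc_d_rc_15_1 lc_d_rc_15_1) (@D3.rec (fun _ => (Cert rels S Gen.d)) lc_d_rc_22_2 lc_d_rc_8_1 lc_d_rc_15_1 lc_d_rc_22_6 lc_d_rc_27_4 lc_d_rc_15_1 lc_d_rc_3_3 lc_d_rc_16_0 lc_d_rc_16_2 lc_d_rc_22_4 lc_d_rc_24_5 lc_d_rc_17_2 lc_d_rc_22_4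 lc_d_rc_27_4 lc_d_rc_8_3 lc_d_rc_15_1 lc_d_rc_15_1 lc_d_rc_8_3 lc_d_rc_23_4 lc_d_rc_17_2 lc_d_rc_8_1 lc_d_rc_15_1 lc_d_rc_15_1 lc_d_rc_22_6 lc_d_rc_23_6 lc_d_rc_17_2 lc_d_rc_27_8 lc_d_rc_15_1 lc_d_rc_8_1 lc_d_rc_15_1 lc_d_rc_15_1 lc_d_rc_15_1 lc_d_rc_27_4 lc_d_rc_15_1 lc_d_rc_15_1 lc_d_rc_15_1 lc_d_rc_23_4 lc_d_rc_17_2 lc_d_rc_15_1 lc_d_rc_8_3 lc_d_rc_8_3 lc_d_rc_8_1 lc_d_rc_22_6 lc_d_rc_16_4 lc_d_rc_15_1 lc_d_rc_23_8 lc_d_rc_3_3 lc_d_rc_8_1 lc_d_rc_27_10 lc_d_rc_15_1 lc_d_rc_3_3 lc_d_rc_15_1 lc_d_rc_8_3 lc_d_rc_15_1 lc_d_rc_15_1 lc_d_rc_15_1 lc_d_rc_15_1 lc_d_rc_24_5 lc_d_rc_23_4 lc_d_rc_22_6 lc_d_rc_27_2 lc_d_rc_8_3) (@D3.rec (fun _ => (Cert rels S Gen.d)) lc_d_rc_15_1 lc_d_rc_15_1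 lc_d_rc_17_2 lc_d_rc_27_10 lc_d_rc_15_1 lc_d_rc_15_1 lc_d_rc_27_2 lc_d_rc_27_4 lc_d_rc_23_2 lc_d_rc_15_1 lc_d_rc_8_3 lc_d_rc_16_4 lc_d_rc_24_0 lc_d_rc_27_4 lc_d_rc_15_1 lc_d_rc_27_2 lc_d_rc_25_6 lc_d_rc_8_3 lc_d_rc_8_3 lc_d_rc_23_8 lc_d_rc_15_1 lc_d_rc_17_2 lc_d_rc_27_4 lc_d_rc_15_1 lc_d_rc_16_2 lc_d_rc_15_1 lc_d_rc_15_1 lc_d_rc_27_8 lc_d_rc_23_6 lc_d_rc_22_8 lc_d_rc_8_3 lc_d_rc_15_1 lc_d_rc_12_1 lc_d_rc_23_6 lc_d_rc_15_1 lc_d_rc_23_2 lc_d_rc_27_2 lc_d_rc_23_8 lc_d_rc_12_15 lc_d_rc_24_0 lc_d_rc_15_1 lc_d_rc_24_5 lc_d_rc_8_3 lc_d_rc_15_1 lc_d_rc_27_10 lc_d_rc_16_2 lc_d_rc_17_2 lc_d_rc_15_1 lc_d_rc_22_6 lc_d_rc_15_1 lc_d_rc_15_1 lc_d_rc_24_5 lc_d_rc_22_2 lc_d_rc_24_0 lc_d_rc_8_3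 lc_d_rc_24_0 lc_d_rc_8_1 lc_d_rc_27_2 lc_d_rc_24_5 lc_d_rc_8_3 lc_d_rc_8_3 lc_d_rc_15_1) (@D3.rec (fun _ => (Cert rels S Gen.d)) lc_d_rc_27_10 lc_d_rc_15_1 lc_d_rc_15_1 lc_d_rc_23_4 lc_d_rc_16_4 lc_d_rc_23_2 lc_d_rc_24_0 lc_d_rc_17_0 lc_d_rc_16_0 lc_d_rc_15_1 lc_d_rc_27_4 lc_d_rc_8_3 lc_d_rc_24_0 lc_d_rc_22_2 lc_d_rc_23_8 lc_d_rc_24_0 lc_d_rc_15_1 lc_d_rc_8_3 lc_d_rc_15_1 lc_d_rc_17_2 lc_d_rc_23_6 lc_d_rc_15_1 lc_d_rc_3_1 lc_d_rc_16_0 lc_d_rc_3_3 lc_d_rc_3_1 lc_d_rc_17_2 lc_d_rc_27_10 lc_d_rc_24_5 lc_d_rc_3_1 lc_d_rc_8_1 lc_d_rc_23_2 lc_d_rc_15_1 lc_d_rc_8_3 lc_d_rc_8_3 lc_d_rc_15_1 lc_d_rc_16_0 lc_d_rc_16_4 lc_d_Cert_tree lc_d_rc_16_4 lc_d_rc_15_1 lc_d_rc_23_8 lc_d_rc_8_1 lc_d_rc_15_1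 lc_d_rc_15_1 lc_d_rc_15_1 lc_d_rc_15_1 lc_d_rc_8_3 lc_d_rc_8_3 lc_d_rc_23_8 lc_d_rc_15_1 lc_d_Cert_tree lc_d_rc_15_1 lc_d_rc_8_3 lc_d_rc_8_1 lc_d_rc_15_1 lc_d_rc_17_0 lc_d_rc_15_1 lc_d_rc_27_4 lc_d_rc_24_5 lc_d_rc_17_2 lc_d_rc_22_6) (@D3.rec (fun _ => (Cert rels S Gen.d)) lc_d_rc_23_6 lc_d_rc_15_1 lc_d_rc_15_1 lc_d_rc_15_1 lc_d_rc_22_4 lc_d_rc_16_2 lc_d_rc_15_1 lc_d_rc_22_8 lc_d_rc_15_1 lc_d_rc_15_1 lc_d_rc_16_4 lc_d_rc_3_3 lc_d_rc_17_2 lc_d_rc_3_1 lc_d_rc_15_1 lc_d_Cert_tree lc_d_rc_15_1 lc_d_rc_15_1 lc_d_rc_16_4 lc_d_rc_8_1 lc_d_rc_24_0 lc_d_rc_24_0 lc_d_rc_27_8 lc_d_rc_24_0 lc_d_rc_15_1 lc_d_rc_8_3 lc_d_rc_25_10 lc_d_rc_23_4 lc_d_rc_15_1 lc_d_rc_27_2 lc_d_rc_22_4 lc_d_rc_25_6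 lc_d_rc_8_3 lc_d_rc_22_2 lc_d_rc_3_3 lc_d_rc_22_2 lc_d_rc_15_1 lc_d_rc_8_3 lc_d_rc_15_1 lc_d_rc_8_1 lc_d_rc_27_2 lc_d_rc_17_0 lc_d_rc_15_1 lc_d_rc_24_5 lc_d_Cert_tree lc_d_rc_27_2 lc_d_rc_16_4 lc_d_rc_23_2 lc_d_rc_15_1 lc_d_rc_27_8 lc_d_rc_15_1 lc_d_rc_23_4 lc_d_rc_15_1 lc_d_rc_17_2 lc_d_rc_24_5 lc_d_rc_3_1 lc_d_rc_22_6 lc_d_rc_27_10 lc_d_rc_15_1 lc_d_rc_3_1 lc_d_rc_8_3 lc_d_rc_15_1) (@D3.rec (fun _ => (Cert rels S Gen.d)) lc_d_rc_27_10 lc_d_rc_24_0 lc_d_rc_27_10 lc_d_rc_8_1 lc_d_Cert_tree lc_d_rc_8_3 lc_d_rc_15_1 lc_d_rc_22_4 lc_d_rc_16_4 lc_d_rc_17_0 lc_d_rc_8_1 lc_d_rc_15_1 lc_d_rc_3_3 lc_d_rc_15_1 lc_d_rc_15_1 lc_d_rc_17_2 lc_d_rc_3_3 lc_d_rc_24_5 lc_d_rc_3_3 lc_d_rc_3_1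 lc_d_rc_8_3 lc_d_rc_15_1 lc_d_rc_24_5 lc_d_rc_27_2 lc_d_rc_22_4 lc_d_rc_22_4 lc_d_rc_27_4 lc_d_rc_15_1 lc_d_rc_27_8 lc_d_rc_12_1 lc_d_rc_22_4 lc_d_rc_3_1 lc_d_rc_16_4 lc_d_rc_24_5 lc_d_rc_27_2 lc_d_rc_15_1 lc_d_rc_15_1 lc_d_rc_15_1 lc_d_rc_17_0 lc_d_rc_15_1 lc_d_rc_16_0 lc_d_rc_16_0 lc_d_rc_15_1 lc_d_rc_23_6 lc_d_rc_17_2 lc_d_rc_8_3 lc_d_rc_15_1 lc_d_rc_22_6 lc_d_rc_17_2 lc_d_rc_15_1 lc_d_rc_15_1 lc_d_rc_16_4 lc_d_rc_27_4 lc_d_rc_15_1 lc_d_rc_16_4 lc_d_rc_27_10 lc_d_rc_12_15 lc_d_rc_27_2 lc_d_rc_15_1 lc_d_rc_12_1 lc_d_rc_15_1 lc_d_rc_15_1) (@D3.rec (fun _ => (Cert rels S Gen.d)) lc_d_rc_8_1 lc_d_rc_15_1 lc_d_rc_15_1 lc_d_rc_23_2 lc_d_rc_23_6 lc_d_rc_15_1 lc_d_rc_25_6 lc_d_rc_27_8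 lc_d_rc_15_1 lc_d_rc_24_0 lc_d_rc_15_1 lc_d_rc_17_0 lc_d_rc_27_10 lc_d_rc_25_2 lc_d_rc_15_1 lc_d_rc_27_8 lc_d_rc_15_1 lc_d_rc_17_2 lc_d_rc_15_1 lc_d_rc_23_4 lc_d_rc_25_14 lc_d_rc_23_4 lc_d_rc_12_1 lc_d_Cert_tree lc_d_rc_15_1 lc_d_rc_15_1 lc_d_rc_8_1 lc_d_rc_23_8 lc_d_rc_27_8 lc_d_rc_22_6 lc_d_rc_27_2 lc_d_rc_27_4 lc_d_rc_16_0 lc_d_rc_17_2 lc_d_rc_22_4 lc_d_rc_15_1 lc_d_rc_22_2 lc_d_rc_15_1 lc_d_rc_17_2 lc_d_rc_15_1 lc_d_Cert_tree lc_d_rc_15_1 lc_d_rc_8_3 lc_d_rc_8_3 lc_d_rc_25_6 lc_d_rc_15_1 lc_d_rc_23_6 lc_d_rc_8_1 lc_d_rc_8_3 lc_d_Cert_tree lc_d_rc_15_1 lc_d_rc_15_1 lc_d_rc_22_2 lc_d_rc_15_1 lc_d_rc_23_2 lc_d_rc_3_3 lc_d_rc_3_3 lc_d_rc_24_0 lc_d_rc_8_3 lc_d_rc_3_1 lc_d_rc_17_2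 lc_d_rc_25_10) (@D3.rec (fun _ => (Cert rels S Gen.d)) lc_d_rc_8_3 lc_d_rc_24_5 lc_d_rc_24_0 lc_d_rc_16_4 lc_d_rc_15_1 lc_d_rc_8_1 lc_d_rc_15_1 lc_d_rc_27_2 lc_d_rc_22_4 lc_d_rc_15_1 lc_d_rc_8_3 lc_d_rc_3_3 lc_d_rc_27_10 lc_d_rc_15_1 lc_d_rc_15_1 lc_d_rc_8_1 lc_d_rc_22_4 lc_d_rc_3_3 lc_d_rc_23_8 lc_d_rc_22_4 lc_d_rc_15_1 lc_d_rc_17_2 lc_d_rc_22_4 lc_d_rc_15_1 lc_d_rc_3_3 lc_d_rc_8_3 lc_d_rc_16_4 lc_d_rc_27_4 lc_d_rc_8_3 lc_d_rc_22_4 lc_d_rc_22_4 lc_d_rc_25_18 lc_d_Cert_tree lc_d_rc_8_3 lc_d_rc_15_1 lc_d_rc_24_0 lc_d_rc_16_0 lc_d_rc_8_1 lc_d_rc_27_10 lc_d_rc_15_1 lc_d_rc_15_1 lc_d_rc_17_2 lc_d_rc_15_1 lc_d_rc_16_2 lc_d_rc_25_2 lc_d_rc_15_1 lc_d_rc_8_3 lc_d_rc_24_0 lc_d_Cert_tree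 lc_d_rc_15_1 lc_d_rc_8_1 lc_d_rc_17_2 lc_d_rc_23_4 lc_d_rc_15_1 lc_d_rc_25_10 lc_d_rc_24_0 lc_d_rc_24_0 lc_d_rc_17_2 lc_d_rc_23_4 lc_d_rc_3_3 lc_d_rc_15_1 lc_d_rc_25_2) (@D3.rec (fun _ => (Cert rels S Gen.d)) lc_d_rc_15_1 lc_d_rc_27_4 lc_d_rc_8_3 lc_d_Cert_tree lc_d_rc_8_3 lc_d_rc_8_3 lc_d_rc_15_1 lc_d_rc_23_6 lc_d_rc_16_4 lc_d_Cert_tree lc_d_rc_15_1 lc_d_rc_8_3 lc_d_rc_17_0 lc_d_rc_27_4 lc_d_rc_15_1 lc_d_rc_27_4 lc_d_rc_15_1 lc_d_rc_25_2 lc_d_rc_15_1 lc_d_rc_17_2 lc_d_rc_22_2 lc_d_rc_15_1 lc_d_rc_15_1 lc_d_rc_27_4 lc_d_rc_8_3 lc_d_rc_15_1 lc_d_rc_15_1 lc_d_rc_12_15 lc_d_rc_15_1 lc_d_rc_15_1 lc_d_rc_16_2 lc_d_rc_16_4 lc_d_rc_8_3 lc_d_rc_16_2 lc_d_rc_15_1 lc_d_rc_16_4 lc_d_rc_15_1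 lc_d_rc_16_4 lc_d_rc_16_0 lc_d_Cert_tree lc_d_rc_15_1 lc_d_Cert_tree lc_d_rc_15_1 lc_d_rc_15_1 lc_d_rc_12_3 lc_d_rc_17_2 lc_d_rc_27_2 lc_d_rc_8_3 lc_d_rc_16_4 lc_d_rc_15_1 lc_d_rc_15_1 lc_d_rc_16_4 lc_d_rc_16_4 lc_d_rc_15_1 lc_d_rc_16_4 lc_d_rc_15_1 lc_d_rc_22_4 lc_d_rc_22_2 lc_d_rc_15_1 lc_d_rc_27_4 lc_d_rc_22_8 lc_d_rc_17_2) (@D3.rec (fun _ => (Cert rels S Gen.d)) lc_d_Cert_tree lc_d_rc_15_1 lc_d_Cert_tree lc_d_rc_15_1 lc_d_rc_27_8 lc_d_rc_15_1 lc_d_rc_23_4 lc_d_rc_27_4 lc_d_rc_17_2 lc_d_rc_24_5 lc_d_rc_16_2 lc_d_rc_15_1 lc_d_rc_24_5 lc_d_rc_16_4 lc_d_rc_8_3 lc_d_rc_16_2 lc_d_rc_23_2 lc_d_Cert_tree lc_d_rc_15_1 lc_d_rc_15_1 lc_d_rc_23_8 lc_d_rc_16_4 lc_d_rc_22_4 lc_d_rc_16_4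 lc_d_rc_8_3 lc_d_rc_25_2 lc_d_rc_17_2 lc_d_rc_8_3 lc_d_rc_15_1 lc_d_Cert_tree lc_d_rc_8_1 lc_d_rc_27_2 lc_d_rc_16_0 lc_d_rc_8_3 lc_d_rc_8_3 lc_d_rc_27_4 lc_d_rc_23_4 lc_d_rc_22_8 lc_d_rc_15_1 lc_d_rc_22_4 lc_d_rc_15_1 lc_d_rc_27_2 lc_d_rc_16_2 lc_d_rc_27_10 lc_d_rc_25_2 lc_d_rc_15_1 lc_d_rc_17_2 lc_d_rc_17_2 lc_d_rc_15_1 lc_d_rc_27_8 lc_d_rc_23_6 lc_d_rc_24_0 lc_d_rc_27_4 lc_d_rc_17_2 lc_d_rc_8_1 lc_d_rc_23_8 lc_d_rc_8_3 lc_d_rc_15_1 lc_d_rc_8_3 lc_d_rc_16_4 lc_d_rc_15_1 lc_d_rc_15_1) (@D3.rec (fun _ => (Cert rels S Gen.d)) lc_d_rc_15_1 lc_d_rc_15_1 lc_d_rc_27_4 lc_d_rc_23_8 lc_d_rc_23_8 lc_d_rc_15_1 lc_d_rc_15_1 lc_d_rc_27_4 lc_d_rc_16_2 lc_d_rc_27_10 lc_d_rc_17_2 lc_d_rc_15_1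 lc_d_Cert_tree lc_d_rc_15_1 lc_d_rc_15_1 lc_d_rc_27_8 lc_d_rc_22_2 lc_d_rc_24_0 lc_d_rc_16_0 lc_d_rc_17_2 lc_d_rc_25_14 lc_d_Cert_tree lc_d_rc_24_0 lc_d_rc_15_1 lc_d_rc_27_2 lc_d_rc_27_4 lc_d_rc_3_1 lc_d_rc_17_2 lc_d_rc_15_1 lc_d_rc_23_2 lc_d_rc_8_1 lc_d_rc_15_1 lc_d_rc_27_8 lc_d_rc_15_1 lc_d_rc_27_2 lc_d_rc_15_1 lc_d_rc_16_4 lc_d_rc_23_6 lc_d_rc_15_1 lc_d_rc_8_3 lc_d_rc_15_1 lc_d_rc_24_5 lc_d_rc_8_3 lc_d_rc_8_3 lc_d_rc_27_2 lc_d_rc_23_4 lc_d_rc_22_8 lc_d_rc_22_2 lc_d_rc_15_1 lc_d_rc_22_2 lc_d_rc_16_4 lc_d_rc_27_10 lc_d_rc_27_10 lc_d_rc_17_2 lc_d_rc_27_2 lc_d_rc_8_3 lc_d_rc_17_0 lc_d_rc_15_1 lc_d_rc_15_1 lc_d_rc_15_1 lc_d_rc_24_5 lc_d_rc_15_1) (@D3.rec (fun _ => (Cert rels S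 Gen.d)) lc_d_rc_17_2 lc_d_rc_3_3 lc_d_rc_16_2 lc_d_rc_22_6 lc_d_rc_15_1 lc_d_rc_27_4 lc_d_rc_23_4 lc_d_rc_22_4 lc_d_rc_8_3 lc_d_rc_15_1 lc_d_rc_3_3 lc_d_rc_12_13 lc_d_rc_25_14 lc_d_Cert_tree lc_d_rc_15_1 lc_d_rc_12_13 lc_d_rc_27_4 lc_d_rc_23_6 lc_d_rc_8_3 lc_d_rc_16_4 lc_d_rc_22_2 lc_d_rc_22_8 lc_d_rc_17_0 lc_d_rc_12_1 lc_d_rc_27_4 lc_d_rc_27_10 lc_d_Cert_tree lc_d_rc_15_1 lc_d_rc_15_1 lc_d_rc_27_4 lc_d_rc_24_0 lc_d_rc_15_1 lc_d_rc_17_2 lc_d_rc_16_4 lc_d_rc_27_10 lc_d_rc_8_3 lc_d_rc_23_2 lc_d_rc_15_1 lc_d_rc_3_3 lc_d_rc_16_4 lc_d_rc_27_2 lc_d_rc_15_1 lc_d_rc_15_1 lc_d_rc_16_0 lc_d_rc_16_4 lc_d_rc_27_4 lc_d_rc_15_1 lc_d_rc_15_1 lc_d_rc_27_4 lc_d_rc_22_4 lc_d_rc_27_2 lc_d_rc_3_3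 lc_d_rc_15_1 lc_d_rc_15_1 lc_d_rc_16_4 lc_d_rc_15_1 lc_d_rc_22_8 lc_d_rc_16_4 lc_d_rc_22_4 lc_d_rc_12_1 lc_d_rc_16_4 lc_d_rc_8_3) (@D3.rec (fun _ => (Cert rels S Gen.d)) lc_d_rc_27_2 lc_d_rc_15_1 lc_d_rc_16_2 lc_d_rc_15_1 lc_d_rc_12_1 lc_d_rc_17_0 lc_d_rc_24_0 lc_d_rc_24_0 lc_d_rc_17_2 lc_d_rc_17_0 lc_d_rc_16_4 lc_d_rc_27_2 lc_d_rc_8_1 lc_d_Cert_tree lc_d_rc_8_1 lc_d_rc_22_6 lc_d_rc_15_1 lc_d_rc_15_1 lc_d_rc_15_1 lc_d_rc_15_1 lc_d_rc_3_3 lc_d_rc_24_5 lc_d_rc_3_1 lc_d_rc_17_2 lc_d_rc_8_3 lc_d_rc_16_4 lc_d_rc_27_2 lc_d_rc_27_4 lc_d_rc_15_1 lc_d_rc_22_4 lc_d_Cert_tree lc_d_rc_15_1 lc_d_rc_22_2 lc_d_rc_15_1 lc_d_rc_8_3 lc_d_rc_15_1 lc_d_rc_22_6 lc_d_rc_15_1 lc_d_rc_15_1 lc_d_rc_17_2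 lc_d_rc_23_4 lc_d_rc_23_4 lc_d_rc_22_4 lc_d_rc_17_2 lc_d_rc_27_10 lc_d_Cert_tree lc_d_rc_15_1 lc_d_rc_16_0 lc_d_rc_16_4 lc_d_rc_23_2 lc_d_rc_17_2 lc_d_rc_16_2 lc_d_rc_17_2 lc_d_rc_15_1 lc_d_rc_22_2 lc_d_rc_27_8 lc_d_rc_15_1 lc_d_rc_16_0 lc_d_rc_15_1 lc_d_rc_15_1 lc_d_rc_8_1 lc_d_rc_15_1) (@D3.rec (fun _ => (Cert rels S Gen.d)) lc_d_rc_23_4 lc_d_rc_15_1 lc_d_rc_16_0 lc_d_rc_15_1 lc_d_rc_15_1 lc_d_rc_15_1 lc_d_rc_22_4 lc_d_rc_23_6 lc_d_rc_15_1 lc_d_rc_15_1 lc_d_rc_15_1 lc_d_rc_8_3 lc_d_rc_15_1 lc_d_rc_22_4 lc_d_rc_8_1 lc_d_rc_16_2 lc_d_rc_15_1 lc_d_rc_22_6 lc_d_rc_15_1 lc_d_rc_15_1 lc_d_rc_17_0 lc_d_rc_27_10 lc_d_Cert_tree lc_d_rc_3_3 lc_d_rc_15_1 lc_d_rc_15_1 lc_d_rc_3_1 lc_d_rc_3_3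 lc_d_rc_24_0 lc_d_rc_15_1 lc_d_rc_15_1 lc_d_rc_15_1 lc_d_rc_16_4 lc_d_rc_15_1 lc_d_rc_17_0 lc_d_rc_16_4 lc_d_Cert_tree lc_d_rc_16_2 lc_d_rc_15_1 lc_d_rc_24_0 lc_d_rc_24_0 lc_d_rc_15_1 lc_d_rc_24_0 lc_d_rc_15_1 lc_d_rc_3_3 lc_d_rc_15_1 lc_d_rc_15_1 lc_d_rc_15_1 lc_d_rc_15_1 lc_d_rc_24_5 lc_d_rc_22_4 lc_d_rc_27_8 lc_d_rc_27_10 lc_d_rc_15_1 lc_d_rc_15_1 lc_d_rc_15_1 lc_d_rc_8_3 lc_d_rc_3_3 lc_d_rc_8_1 lc_d_rc_16_4 lc_d_rc_27_4 lc_d_rc_15_1) (@D3.rec (fun _ => (Cert rels S Gen.d)) lc_d_rc_15_1 lc_d_rc_15_1 lc_d_rc_27_4 lc_d_rc_15_1 lc_d_rc_3_3 lc_d_rc_23_8 lc_d_rc_15_1 lc_d_rc_3_3 lc_d_rc_27_2 lc_d_rc_22_4 lc_d_rc_16_4 lc_d_rc_22_4 lc_d_rc_15_1 lc_d_rc_25_6 lc_d_rc_15_1 lc_d_rc_15_1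 lc_d_rc_23_6 lc_d_rc_17_2 lc_d_rc_8_1 lc_d_Cert_tree lc_d_rc_15_1 lc_d_rc_3_3 lc_d_rc_25_2 lc_d_rc_22_4 lc_d_rc_8_3 lc_d_rc_16_4 lc_d_rc_17_0 lc_d_rc_3_3 lc_d_rc_16_4 lc_d_rc_27_4 lc_d_rc_8_3 lc_d_rc_24_5 lc_d_rc_22_6 lc_d_rc_23_6 lc_d_rc_25_14 lc_d_rc_27_2 lc_d_rc_16_4 lc_d_rc_15_1 lc_d_rc_22_4 lc_d_rc_8_3 lc_d_rc_17_0 lc_d_rc_15_1 lc_d_rc_27_4 lc_d_rc_25_2 lc_d_rc_15_1 lc_d_rc_16_4 lc_d_rc_27_8 lc_d_rc_15_1 lc_d_rc_16_2 lc_d_rc_16_4 lc_d_rc_16_2 lc_d_rc_23_2 lc_d_rc_16_2 lc_d_rc_8_1 lc_d_rc_22_6 lc_d_rc_15_1 lc_d_rc_15_1 lc_d_rc_22_2 lc_d_rc_8_3 lc_d_rc_8_1 lc_d_rc_22_6 lc_d_rc_27_2) (@D3.rec (fun _ => (Cert rels S Gen.d)) lc_d_rc_15_1 lc_d_rc_17_2 lc_d_rc_16_2 lc_d_rc_15_1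 lc_d_rc_15_1 lc_d_rc_16_4 lc_d_rc_15_1 lc_d_rc_15_1 lc_d_rc_17_0 lc_d_rc_8_3 lc_d_rc_8_3 lc_d_rc_15_1 lc_d_rc_15_1 lc_d_rc_15_1 lc_d_rc_12_5 lc_d_rc_3_3 lc_d_rc_16_2 lc_d_rc_15_1 lc_d_rc_15_1 lc_d_rc_15_1 lc_d_rc_27_4 lc_d_rc_3_3 lc_d_rc_27_8 lc_d_rc_24_5 lc_d_rc_25_18 lc_d_rc_16_4 lc_d_rc_24_5 lc_d_rc_3_3 lc_d_rc_24_5 lc_d_rc_15_1 lc_d_rc_22_8 lc_d_rc_15_1 lc_d_rc_15_1 lc_d_rc_15_1 lc_d_rc_15_1 lc_d_rc_15_1 lc_d_rc_23_8 lc_d_rc_16_2 lc_d_rc_12_9 lc_d_rc_22_2 lc_d_rc_17_0 lc_d_rc_17_0 lc_d_rc_15_1 lc_d_rc_27_4 lc_d_rc_15_1 lc_d_rc_22_2 lc_d_rc_15_1 lc_d_rc_8_3 lc_d_rc_24_5 lc_d_rc_22_2 lc_d_rc_16_2 lc_d_rc_16_4 lc_d_rc_3_3 lc_d_rc_8_1 lc_d_rc_12_13 lc_d_rc_16_4 lc_d_rc_17_2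 lc_d_rc_24_0 lc_d_rc_3_1 lc_d_rc_24_5 lc_d_rc_8_3 lc_d_rc_24_0) (@D3.rec (fun _ => (Cert rels S Gen.d)) lc_d_rc_27_8 lc_d_rc_23_8 lc_d_rc_24_0 lc_d_rc_25_10 lc_d_rc_24_5 lc_d_rc_15_1 lc_d_rc_8_3 lc_d_rc_8_1 lc_d_rc_27_4 lc_d_rc_15_1 lc_d_rc_24_5 lc_d_rc_24_5 lc_d_rc_16_0 lc_d_rc_8_3 lc_d_rc_15_1 lc_d_rc_8_3 lc_d_rc_16_4 lc_d_rc_24_5 lc_d_rc_15_1 lc_d_rc_17_2 lc_d_rc_23_4 lc_d_rc_15_1 lc_d_rc_12_15 lc_d_rc_17_0 lc_d_rc_17_2 lc_d_rc_8_3 lc_d_rc_25_6 lc_d_Cert_tree lc_d_rc_27_2 lc_d_rc_24_5 lc_d_rc_8_3 lc_d_rc_15_1 lc_d_rc_15_1 lc_d_Cert_tree lc_d_rc_15_1 lc_d_rc_15_1 lc_d_rc_16_2 lc_d_rc_8_1 lc_d_rc_22_6 lc_d_rc_23_6 lc_d_rc_15_1 lc_d_rc_17_2 lc_d_rc_16_4 lc_d_rc_16_2 lc_d_rc_15_1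 lc_d_rc_15_1 lc_d_rc_15_1 lc_d_rc_8_3 lc_d_rc_22_6 lc_d_rc_15_1 lc_d_rc_15_1 lc_d_rc_24_5 lc_d_rc_8_3 lc_d_rc_16_2 lc_d_rc_3_3 lc_d_rc_15_1 lc_d_rc_8_1 lc_d_rc_15_1 lc_d_rc_3_3 lc_d_rc_15_1 lc_d_rc_25_6 lc_d_rc_16_0) (@D3.rec (fun _ => (Cert rels S Gen.d)) lc_d_rc_8_3 lc_d_rc_8_1 lc_d_rc_23_2 lc_d_rc_27_8 lc_d_rc_15_1 lc_d_rc_8_3 lc_d_rc_23_6 lc_d_rc_17_2 lc_d_rc_24_0 lc_d_rc_16_4 lc_d_rc_15_1 lc_d_rc_27_4 lc_d_rc_15_1 lc_d_rc_3_3 lc_d_rc_15_1 lc_d_rc_17_2 lc_d_rc_22_4 lc_d_rc_22_4 lc_d_rc_15_1 lc_d_rc_15_1 lc_d_rc_15_1 lc_d_rc_24_0 lc_d_rc_15_1 lc_d_rc_23_2 lc_d_rc_23_6 lc_d_rc_23_2 lc_d_rc_22_2 lc_d_rc_24_5 lc_d_rc_8_1 lc_d_rc_22_4 lc_d_rc_22_4 lc_d_rc_27_8 lc_d_rc_8_3 lc_d_rc_27_4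 lc_d_rc_15_1 lc_d_rc_15_1 lc_d_rc_24_5 lc_d_rc_27_8 lc_d_rc_27_10 lc_d_rc_16_4 lc_d_rc_15_1 lc_d_rc_15_1 lc_d_rc_15_1 lc_d_rc_15_1 lc_d_rc_23_6 lc_d_rc_15_1 lc_d_rc_22_8 lc_d_rc_17_2 lc_d_rc_15_1 lc_d_rc_15_1 lc_d_rc_23_6 lc_d_rc_15_1 lc_d_rc_15_1 lc_d_rc_15_1 lc_d_rc_23_4 lc_d_rc_16_0 lc_d_rc_15_1 lc_d_rc_15_1 lc_d_rc_15_1 lc_d_rc_15_1 lc_d_rc_15_1 lc_d_rc_23_2) (@D3.rec (fun _ => (Cert rels S Gen.d)) lc_d_rc_15_1 lc_d_Cert_tree lc_d_rc_15_1 lc_d_rc_17_2 lc_d_rc_27_2 lc_d_rc_12_1 lc_d_rc_15_1 lc_d_rc_15_1 lc_d_rc_16_0 lc_d_rc_15_1 lc_d_rc_17_0 lc_d_rc_15_1 lc_d_rc_8_3 lc_d_rc_8_3 lc_d_rc_16_4 lc_d_rc_24_5 lc_d_rc_15_1 lc_d_rc_15_1 lc_d_rc_15_1 lc_d_rc_24_0 lc_d_rc_8_3 lc_d_rc_16_4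 lc_d_rc_17_0 lc_d_rc_24_0 lc_d_rc_22_2 lc_d_rc_17_2 lc_d_rc_22_4 lc_d_rc_3_3 lc_d_rc_15_1 lc_d_rc_16_4 lc_d_rc_23_4 lc_d_rc_22_2 lc_d_rc_22_4 lc_d_rc_23_4 lc_d_rc_15_1 lc_d_rc_17_0 lc_d_rc_23_4 lc_d_rc_17_2 lc_d_rc_23_4 lc_d_rc_15_1 lc_d_rc_16_2 lc_d_rc_8_1 lc_d_rc_12_1 lc_d_rc_15_1 lc_d_rc_27_10 lc_d_rc_8_1 lc_d_rc_15_1 lc_d_rc_15_1 lc_d_rc_17_0 lc_d_rc_15_1 lc_d_rc_23_4 lc_d_rc_15_1 lc_d_rc_17_2 lc_d_rc_15_1 lc_d_rc_15_1 lc_d_rc_12_1 lc_d_rc_17_2 lc_d_rc_27_2 lc_d_rc_8_1 lc_d_rc_23_8 lc_d_rc_23_6 lc_d_rc_15_1) (@D3.rec (fun _ => (Cert rels S Gen.d)) lc_d_rc_16_2 lc_d_rc_15_1 lc_d_rc_27_2 lc_d_rc_16_2 lc_d_rc_15_1 lc_d_rc_3_3 lc_d_rc_15_1 lc_d_rc_15_1 lc_d_rc_16_2 lc_d_rc_23_4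 lc_d_rc_16_4 lc_d_rc_12_5 lc_d_rc_15_1 lc_d_rc_15_1 lc_d_rc_23_4 lc_d_rc_16_2 lc_d_rc_15_1 lc_d_rc_15_1 lc_d_rc_3_1 lc_d_rc_15_1 lc_d_rc_8_3 lc_d_rc_3_1 lc_d_rc_15_1 lc_d_rc_16_4 lc_d_rc_15_1 lc_d_rc_15_1 lc_d_rc_16_4 lc_d_Cert_tree lc_d_rc_15_1 lc_d_rc_22_2 lc_d_rc_17_2 lc_d_rc_15_1 lc_d_rc_15_1 lc_d_rc_15_1 lc_d_rc_3_3 lc_d_rc_23_6 lc_d_rc_17_2 lc_d_rc_15_1 lc_d_rc_16_4 lc_d_rc_15_1 lc_d_rc_24_0 lc_d_rc_15_1 lc_d_rc_15_1 lc_d_rc_15_1 lc_d_rc_8_1 lc_d_rc_22_8 lc_d_rc_15_1 lc_d_rc_15_1 lc_d_rc_15_1 lc_d_rc_15_1 lc_d_rc_15_1 lc_d_rc_12_9 lc_d_rc_16_2 lc_d_rc_24_5 lc_d_rc_16_4 lc_d_rc_8_1 lc_d_rc_15_1 lc_d_rc_15_1 lc_d_rc_27_2 lc_d_rc_15_1 lc_d_rc_24_0 lc_d_rc_17_2) (@D3.rec (fun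 _ => (Cert rels S Gen.d)) lc_d_rc_8_1 lc_d_rc_17_0 lc_d_rc_8_3 lc_d_rc_17_2 lc_d_rc_15_1 lc_d_rc_23_2 lc_d_rc_27_8 lc_d_rc_16_0 lc_d_rc_22_6 lc_d_rc_8_1 lc_d_rc_15_1 lc_d_rc_3_1 lc_d_rc_15_1 lc_d_rc_22_8 lc_d_Cert_tree lc_d_rc_15_1 lc_d_rc_23_6 lc_d_rc_15_1 lc_d_rc_15_1 lc_d_rc_22_6 lc_d_rc_15_1 lc_d_rc_15_1 lc_d_rc_27_4 lc_d_rc_15_1 lc_d_rc_27_2 lc_d_rc_15_1 lc_d_rc_8_3 lc_d_rc_15_1 lc_d_rc_27_2 lc_d_rc_8_1 lc_d_Cert_tree lc_d_rc_15_1 lc_d_rc_17_0 lc_d_rc_22_4 lc_d_rc_15_1 lc_d_rc_24_5 lc_d_rc_27_4 lc_d_rc_24_0 lc_d_rc_15_1 lc_d_rc_15_1 lc_d_rc_22_8 lc_d_rc_22_2 lc_d_rc_16_4 lc_d_rc_15_1 lc_d_rc_25_2 lc_d_rc_15_1 lc_d_rc_15_1 lc_d_rc_16_0 lc_d_rc_17_2 lc_d_rc_22_6 lc_d_rc_15_1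 lc_d_rc_8_1 lc_d_rc_15_1 lc_d_rc_15_1 lc_d_rc_27_2 lc_d_rc_24_0 lc_d_rc_23_4 lc_d_rc_8_3 lc_d_rc_16_2 lc_d_rc_24_5 lc_d_rc_8_3 lc_d_rc_15_1) (@D3.rec (fun _ => (Cert rels S Gen.d)) lc_d_rc_12_1 lc_d_rc_24_5 lc_d_rc_15_1 lc_d_rc_15_1 lc_d_rc_8_1 lc_d_rc_22_8 lc_d_rc_23_2 lc_d_rc_24_0 lc_d_rc_15_1 lc_d_rc_15_1 lc_d_rc_22_2 lc_d_rc_17_2 lc_d_rc_15_1 lc_d_rc_22_8 lc_d_rc_23_4 lc_d_rc_24_0 lc_d_rc_16_4 lc_d_rc_8_3 lc_d_rc_15_1 lc_d_rc_22_2 lc_d_rc_24_5 lc_d_rc_15_1 lc_d_rc_15_1 lc_d_rc_27_8 lc_d_rc_15_1 lc_d_rc_8_3 lc_d_rc_24_0 lc_d_rc_17_2 lc_d_rc_3_3 lc_d_rc_27_2 lc_d_Cert_tree lc_d_rc_17_2 lc_d_rc_17_0 lc_d_Cert_tree lc_d_rc_27_8 lc_d_Cert_tree lc_d_rc_15_1 lc_d_Cert_tree lc_d_rc_24_0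 lc_d_rc_23_8 lc_d_rc_16_0 lc_d_rc_15_1 lc_d_rc_15_1 lc_d_rc_23_8 lc_d_rc_27_2 lc_d_rc_15_1 lc_d_rc_16_0 lc_d_rc_15_1 lc_d_rc_15_1 lc_d_rc_23_6 lc_d_rc_15_1 lc_d_rc_27_4 lc_d_rc_3_3 lc_d_rc_27_4 lc_d_rc_22_4 lc_d_rc_15_1 lc_d_rc_22_6 lc_d_rc_15_1 lc_d_rc_23_8 lc_d_rc_22_8 lc_d_rc_22_4 lc_d_rc_16_2) (@D3.rec (fun _ => (Cert rels S Gen.d)) lc_d_rc_22_8 lc_d_rc_15_1 lc_d_rc_27_10 lc_d_rc_16_2 lc_d_rc_17_2 lc_d_rc_22_6 lc_d_rc_15_1 lc_d_rc_15_1 lc_d_rc_22_6 lc_d_rc_22_6 lc_d_rc_22_4 lc_d_rc_25_18 lc_d_rc_27_2 lc_d_rc_15_1 lc_d_rc_27_2 lc_d_rc_15_1 lc_d_rc_8_1 lc_d_rc_15_1 lc_d_Cert_tree lc_d_rc_15_1 lc_d_rc_15_1 lc_d_rc_8_1 lc_d_rc_3_1 lc_d_rc_15_1 lc_d_rc_27_4 lc_d_rc_15_1 lc_d_rc_3_3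 lc_d_rc_15_1 lc_d_rc_8_1 lc_d_rc_15_1 lc_d_rc_16_2 lc_d_rc_3_3 lc_d_rc_27_8 lc_d_rc_15_1 lc_d_rc_15_1 lc_d_rc_16_4 lc_d_rc_23_6 lc_d_rc_15_1 lc_d_rc_17_2 lc_d_rc_12_15 lc_d_rc_16_4 lc_d_rc_15_1 lc_d_rc_8_3 lc_d_rc_17_0 lc_d_rc_15_1 lc_d_rc_15_1 lc_d_rc_22_6 lc_d_rc_16_4 lc_d_rc_16_0 lc_d_rc_8_3 lc_d_rc_22_4 lc_d_rc_27_8 lc_d_rc_17_2 lc_d_rc_22_4 lc_d_rc_15_1 lc_d_rc_23_8 lc_d_rc_15_1 lc_d_rc_23_2 lc_d_rc_15_1 lc_d_rc_27_4 lc_d_rc_27_4 lc_d_rc_15_1)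
def ce_d_30 : D2 → D3 → (Cert rels S Gen.d) := @D2.rec (fun _ => D3 → (Cert rels S Gen.d)) (@D3.rec (fun _ => (Cert rels S Gen.d)) lc_d_rc_23_4 lc_d_rc_27_4 lc_d_rc_25_2 lc_d_rc_16_0 lc_d_rc_22_8 lc_d_rc_15_1 lc_d_rc_27_10 lc_d_rc_22_4 lc_d_rc_15_1 lc_d_rc_8_1 lc_d_rc_22_4 lc_d_rc_27_4 lc_d_rc_15_1 lc_d_rc_22_4 lc_d_rc_8_1 lc_d_rc_23_8 lc_d_rc_8_1 lc_d_rc_25_2 lc_d_rc_27_2 lc_d_rc_8_3 lc_d_rc_15_1 lc_d_rc_27_2 lc_d_rc_27_10 lc_d_rc_22_2 lc_d_rc_17_2 lc_d_rc_15_1 lc_d_rc_25_2 lc_d_rc_16_4 lc_d_rc_15_1 lc_d_rc_27_2 lc_d_rc_25_2 lc_d_rc_12_15 lc_d_rc_27_2 lc_d_rc_24_0 lc_d_rc_15_1 lc_d_rc_22_6 lc_d_rc_15_1 lc_d_rc_15_1 lc_d_rc_23_8 lc_d_rc_27_4 lc_d_rc_3_3 lc_d_rc_16_2 lc_d_rc_27_10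 lc_d_rc_15_1 lc_d_rc_15_1 lc_d_rc_16_4 lc_d_rc_24_5 lc_d_rc_24_5 lc_d_rc_15_1 lc_d_rc_27_4 lc_d_rc_15_1 lc_d_rc_27_8 lc_d_rc_22_2 lc_d_rc_16_4 lc_d_rc_15_1 lc_d_rc_8_1 lc_d_rc_16_4 lc_d_rc_16_4 lc_d_rc_22_6 lc_d_rc_23_2 lc_d_rc_23_8 lc_d_rc_23_2) (@D3.rec (fun _ => (Cert rels S Gen.d)) lc_d_rc_23_2 lc_d_rc_15_1 lc_d_rc_27_2 lc_d_rc_23_2 lc_d_rc_22_8 lc_d_rc_15_1 lc_d_rc_3_3 lc_d_rc_22_4 lc_d_rc_12_13 lc_d_rc_15_1 lc_d_rc_24_0 lc_d_rc_16_2 lc_d_rc_3_3 lc_d_rc_8_1 lc_d_rc_3_3 lc_d_rc_17_2 lc_d_rc_15_1 lc_d_rc_24_0 lc_d_rc_27_4 lc_d_rc_15_1 lc_d_rc_16_4 lc_d_rc_15_1 lc_d_rc_8_3 lc_d_rc_24_0 lc_d_rc_3_3 lc_d_rc_16_0 lc_d_rc_22_6 lc_d_rc_24_0 lc_d_rc_24_0 lc_d_rc_15_1 lc_d_rc_24_0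 lc_d_rc_22_6 lc_d_rc_16_2 lc_d_rc_17_2 lc_d_rc_3_3 lc_d_rc_17_0 lc_d_rc_16_4 lc_d_rc_8_3 lc_d_rc_24_0 lc_d_rc_23_8 lc_d_rc_15_1 lc_d_rc_22_4 lc_d_rc_15_1 lc_d_rc_15_1 lc_d_rc_15_1 lc_d_Cert_tree lc_d_rc_15_1 lc_d_rc_23_4 lc_d_rc_8_3 lc_d_rc_16_2 lc_d_Cert_tree lc_d_rc_16_4 lc_d_rc_3_3 lc_d_rc_24_0 lc_d_rc_22_6 lc_d_rc_15_1 lc_d_rc_8_1 lc_d_Cert_tree lc_d_rc_27_8 lc_d_rc_15_1 lc_d_rc_25_2 lc_d_rc_22_4) (@D3.rec (fun _ => (Cert rels S Gen.d)) lc_d_rc_15_1 lc_d_rc_22_4 lc_d_rc_15_1 lc_d_rc_3_3 lc_d_rc_15_1 lc_d_rc_8_3 lc_d_rc_23_4 lc_d_rc_12_13 lc_d_rc_17_2 lc_d_rc_12_9 lc_d_rc_22_6 lc_d_rc_17_0 lc_d_rc_22_6 lc_d_rc_16_4 lc_d_rc_15_1 lc_d_rc_12_3 lc_d_rc_16_2 lc_d_rc_22_2 lc_d_rc_8_1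 lc_d_rc_15_1 lc_d_rc_22_2 lc_d_rc_22_4 lc_d_rc_16_0 lc_d_rc_15_1 lc_d_rc_15_1 lc_d_rc_12_1 lc_d_rc_8_1 lc_d_rc_8_3 lc_d_rc_27_2 lc_d_rc_27_8 lc_d_rc_27_4 lc_d_rc_15_1 lc_d_rc_22_4 lc_d_rc_15_1 lc_d_rc_25_2 lc_d_rc_16_2 lc_d_rc_8_3 lc_d_rc_15_1 lc_d_rc_15_1 lc_d_rc_8_3 lc_d_rc_17_2 lc_d_rc_17_2 lc_d_rc_15_1 lc_d_rc_27_2 lc_d_rc_27_2 lc_d_rc_15_1 lc_d_rc_15_1 lc_d_rc_24_0 lc_d_rc_23_6 lc_d_rc_15_1 lc_d_rc_22_8 lc_d_rc_23_2 lc_d_rc_8_3 lc_d_rc_27_10 lc_d_rc_27_2 lc_d_rc_15_1 lc_d_rc_15_1 lc_d_rc_15_1 lc_d_rc_22_6 lc_d_rc_15_1 lc_d_rc_16_2 lc_d_rc_15_1) (@D3.rec (fun _ => (Cert rels S Gen.d)) lc_d_rc_15_1 lc_d_rc_27_8 lc_d_rc_8_3 lc_d_rc_17_2 lc_d_rc_27_8 lc_d_rc_12_1 lc_d_rc_17_2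 lc_d_Cert_tree lc_d_Cert_tree lc_d_Cert_tree lc_d_rc_15_1 lc_d_rc_3_1 lc_d_rc_15_1 lc_d_rc_16_4 lc_d_rc_8_3 lc_d_rc_17_2 lc_d_rc_15_1 lc_d_rc_17_2 lc_d_rc_24_0 lc_d_rc_16_2 lc_d_rc_8_3 lc_d_rc_15_1 lc_d_rc_15_1 lc_d_rc_15_1 lc_d_rc_15_1 lc_d_rc_15_1 lc_d_rc_8_3 lc_d_rc_27_2 lc_d_rc_24_0 lc_d_rc_22_6 lc_d_rc_27_4 lc_d_rc_23_2 lc_d_rc_24_0 lc_d_rc_15_1 lc_d_rc_15_1 lc_d_rc_8_3 lc_d_rc_22_8 lc_d_rc_3_1 lc_d_rc_22_4 lc_d_rc_15_1 lc_d_rc_16_0 lc_d_rc_15_1 lc_d_rc_3_3 lc_d_rc_3_3 lc_d_rc_15_1 lc_d_rc_24_0 lc_d_rc_8_3 lc_d_rc_15_1 lc_d_rc_15_1 lc_d_rc_16_4 lc_d_rc_23_4 lc_d_rc_8_3 lc_d_rc_12_1 lc_d_rc_23_2 lc_d_rc_24_0 lc_d_rc_15_1 lc_d_rc_24_5 lc_d_rc_15_1 lc_d_rc_27_10 lc_d_rc_15_1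 lc_d_rc_23_8 lc_d_rc_15_1) (@D3.rec (fun _ => (Cert rels S Gen.d)) lc_d_rc_15_1 lc_d_rc_15_1 lc_d_rc_8_1 lc_d_rc_15_1 lc_d_rc_15_1 lc_d_rc_22_6 lc_d_rc_16_2 lc_d_rc_15_1 lc_d_rc_12_15 lc_d_rc_8_3 lc_d_rc_8_1 lc_d_rc_16_2 lc_d_rc_24_0 lc_d_Cert_tree lc_d_rc_16_4 lc_d_rc_8_1 lc_d_rc_27_4 lc_d_rc_27_4 lc_d_rc_22_2 lc_d_rc_8_3 lc_d_rc_16_4 lc_d_rc_27_4 lc_d_rc_27_4 lc_d_rc_22_6 lc_d_rc_15_1 lc_d_rc_24_5 lc_d_rc_16_4 lc_d_rc_8_3 lc_d_rc_17_0 lc_d_rc_15_1 lc_d_rc_8_3 lc_d_rc_8_1 lc_d_rc_15_1 lc_d_rc_24_0 lc_d_rc_3_1 lc_d_rc_24_0 lc_d_rc_12_15 lc_d_rc_17_2 lc_d_rc_22_6 lc_d_rc_15_1 lc_d_rc_24_0 lc_d_rc_22_2 lc_d_rc_23_2 lc_d_rc_15_1 lc_d_rc_22_2 lc_d_rc_15_1 lc_d_rc_22_2 lc_d_rc_16_4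 lc_d_rc_27_10 lc_d_rc_15_1 lc_d_rc_8_1 lc_d_rc_8_3 lc_d_rc_15_1 lc_d_rc_27_4 lc_d_rc_24_0 lc_d_rc_15_1 lc_d_rc_27_8 lc_d_rc_15_1 lc_d_rc_16_4 lc_d_rc_24_0 lc_d_rc_8_3 lc_d_rc_24_5) (@D3.rec (fun _ => (Cert rels S Gen.d)) lc_d_rc_15_1 lc_d_rc_22_4 lc_d_rc_22_4 lc_d_rc_15_1 lc_d_rc_8_1 lc_d_rc_27_2 lc_d_rc_27_10 lc_d_rc_15_1 lc_d_rc_17_2 lc_d_rc_27_8 lc_d_rc_27_4 lc_d_rc_24_5 lc_d_rc_27_4 lc_d_rc_27_8 lc_d_rc_12_15 lc_d_rc_25_2 lc_d_rc_8_1 lc_d_rc_23_6 lc_d_rc_3_3 lc_d_rc_17_2 lc_d_rc_3_3 lc_d_rc_15_1 lc_d_rc_27_2 lc_d_rc_8_3 lc_d_rc_22_4 lc_d_rc_15_1 lc_d_rc_8_3 lc_d_rc_15_1 lc_d_rc_27_10 lc_d_rc_25_10 lc_d_rc_15_1 lc_d_rc_27_4 lc_d_rc_15_1 lc_d_rc_16_2 lc_d_rc_3_3 lc_d_rc_15_1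 lc_d_rc_16_0 lc_d_rc_15_1 lc_d_Cert_tree lc_d_rc_16_2 lc_d_rc_17_2 lc_d_rc_16_4 lc_d_rc_8_3 lc_d_Cert_tree lc_d_rc_27_4 lc_d_rc_15_1 lc_d_rc_8_3 lc_d_rc_25_2 lc_d_rc_23_2 lc_d_Cert_tree lc_d_rc_15_1 lc_d_rc_8_3 lc_d_rc_27_10 lc_d_rc_22_2 lc_d_rc_15_1 lc_d_rc_27_4 lc_d_rc_27_2 lc_d_rc_8_3 lc_d_rc_27_4 lc_d_rc_27_10 lc_d_rc_27_10 lc_d_rc_27_8) (@D3.rec (fun _ => (Cert rels S Gen.d)) lc_d_rc_23_4 lc_d_rc_8_3 lc_d_rc_27_2 lc_d_rc_16_0 lc_d_rc_23_4 lc_d_rc_8_1 lc_d_rc_15_1 lc_d_rc_16_4 lc_d_rc_3_3 lc_d_rc_15_1 lc_d_rc_15_1 lc_d_rc_8_1 lc_d_rc_8_3 lc_d_rc_22_8 lc_d_rc_16_2 lc_d_rc_16_0 lc_d_rc_8_1 lc_d_rc_15_1 lc_d_rc_24_0 lc_d_rc_27_2 lc_d_rc_15_1 lc_d_rc_8_3 lc_d_rc_25_2 lc_d_rc_3_1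 lc_d_rc_15_1 lc_d_rc_15_1 lc_d_rc_24_0 lc_d_rc_15_1 lc_d_Cert_tree lc_d_rc_3_3 lc_d_rc_22_6 lc_d_rc_15_1 lc_d_rc_8_1 lc_d_rc_15_1 lc_d_rc_15_1 lc_d_rc_24_0 lc_d_rc_24_0 lc_d_rc_15_1 lc_d_rc_16_4 lc_d_rc_27_10 lc_d_rc_17_2 lc_d_rc_15_1 lc_d_rc_27_4 lc_d_rc_17_0 lc_d_rc_15_1 lc_d_rc_3_3 lc_d_Cert_tree lc_d_rc_22_2 lc_d_rc_3_3 lc_d_Cert_tree lc_d_rc_27_4 lc_d_rc_22_2 lc_d_rc_8_1 lc_d_rc_3_1 lc_d_rc_16_4 lc_d_rc_27_2 lc_d_rc_8_3 lc_d_rc_23_2 lc_d_rc_15_1 lc_d_rc_27_8 lc_d_rc_16_4 lc_d_rc_24_5) (@D3.rec (fun _ => (Cert rels S Gen.d)) lc_d_rc_22_4 lc_d_rc_15_1 lc_d_rc_16_2 lc_d_Cert_tree lc_d_rc_16_4 lc_d_rc_15_1 lc_d_rc_15_1 lc_d_rc_8_3 lc_d_rc_23_6 lc_d_rc_16_4 lc_d_rc_16_4 lc_d_rc_23_2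 lc_d_rc_16_4 lc_d_rc_22_4 lc_d_rc_12_15 lc_d_rc_17_2 lc_d_rc_15_1 lc_d_rc_3_3 lc_d_Cert_tree lc_d_rc_23_6 lc_d_Cert_tree lc_d_rc_8_3 lc_d_rc_23_8 lc_d_rc_23_8 lc_d_rc_12_3 lc_d_rc_8_3 lc_d_rc_27_4 lc_d_rc_15_1 lc_d_rc_15_1 lc_d_rc_15_1 lc_d_rc_15_1 lc_d_rc_27_2 lc_d_rc_24_5 lc_d_rc_15_1 lc_d_rc_15_1 lc_d_rc_15_1 lc_d_rc_15_1 lc_d_rc_27_8 lc_d_rc_15_1 lc_d_rc_15_1 lc_d_rc_8_3 lc_d_rc_16_2 lc_d_rc_27_10 lc_d_rc_17_2 lc_d_rc_15_1 lc_d_rc_15_1 lc_d_rc_15_1 lc_d_rc_8_3 lc_d_rc_23_2 lc_d_rc_22_4 lc_d_Cert_tree lc_d_rc_15_1 lc_d_rc_15_1 lc_d_rc_16_0 lc_d_rc_16_2 lc_d_rc_25_2 lc_d_rc_15_1 lc_d_rc_16_4 lc_d_rc_16_2 lc_d_rc_16_4 lc_d_rc_23_8 lc_d_rc_15_1) (@D3.rec (fun _ => (Cert rels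 S Gen.d)) lc_d_rc_17_2 lc_d_rc_22_6 lc_d_Cert_tree lc_d_rc_15_1 lc_d_rc_23_8 lc_d_rc_22_4 lc_d_rc_23_6 lc_d_rc_17_0 lc_d_rc_15_1 lc_d_rc_15_1 lc_d_rc_15_1 lc_d_rc_22_2 lc_d_rc_23_6 lc_d_rc_8_1 lc_d_rc_15_1 lc_d_rc_24_0 lc_d_rc_27_8 lc_d_rc_16_2 lc_d_rc_17_2 lc_d_rc_17_0 lc_d_rc_27_10 lc_d_rc_27_4 lc_d_rc_16_4 lc_d_rc_15_1 lc_d_rc_15_1 lc_d_rc_22_6 lc_d_rc_17_2 lc_d_rc_16_2 lc_d_rc_25_2 lc_d_rc_15_1 lc_d_rc_15_1 lc_d_rc_15_1 lc_d_rc_15_1 lc_d_rc_23_2 lc_d_rc_23_8 lc_d_rc_22_6 lc_d_rc_15_1 lc_d_rc_27_2 lc_d_rc_27_2 lc_d_rc_15_1 lc_d_rc_16_4 lc_d_rc_22_4 lc_d_rc_8_3 lc_d_rc_22_4 lc_d_rc_22_2 lc_d_rc_15_1 lc_d_rc_17_0 lc_d_rc_27_4 lc_d_rc_15_1 lc_d_rc_16_4 lc_d_rc_24_5 lc_d_rc_27_10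 lc_d_rc_15_1 lc_d_rc_17_2 lc_d_rc_12_15 lc_d_rc_3_3 lc_d_rc_16_4 lc_d_rc_22_6 lc_d_rc_22_4 lc_d_rc_16_4 lc_d_rc_27_2 lc_d_rc_27_10) (@D3.rec (fun _ => (Cert rels S Gen.d)) lc_d_rc_24_0 lc_d_rc_8_1 lc_d_rc_23_4 lc_d_rc_8_3 lc_d_rc_22_2 lc_d_rc_27_8 lc_d_rc_22_4 lc_d_rc_24_0 lc_d_rc_15_1 lc_d_rc_8_1 lc_d_rc_15_1 lc_d_rc_15_1 lc_d_rc_27_10 lc_d_rc_15_1 lc_d_rc_23_8 lc_d_rc_15_1 lc_d_rc_25_2 lc_d_rc_8_1 lc_d_rc_15_1 lc_d_rc_23_4 lc_d_rc_8_3 lc_d_rc_16_4 lc_d_rc_15_1 lc_d_rc_8_3 lc_d_rc_12_1 lc_d_rc_22_4 lc_d_rc_8_3 lc_d_rc_27_4 lc_d_Cert_tree lc_d_rc_15_1 lc_d_rc_15_1 lc_d_rc_15_1 lc_d_rc_15_1 lc_d_rc_27_4 lc_d_rc_15_1 lc_d_rc_8_3 lc_d_rc_16_4 lc_d_rc_22_6 lc_d_rc_15_1 lc_d_rc_22_2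 lc_d_rc_8_3 lc_d_rc_15_1 lc_d_rc_27_4 lc_d_rc_15_1 lc_d_rc_24_0 lc_d_rc_24_0 lc_d_rc_22_2 lc_d_rc_15_1 lc_d_rc_27_8 lc_d_rc_17_2 lc_d_rc_23_2 lc_d_rc_27_10 lc_d_rc_8_3 lc_d_rc_8_3 lc_d_rc_15_1 lc_d_rc_27_4 lc_d_rc_16_4 lc_d_rc_23_4 lc_d_rc_17_2 lc_d_rc_8_1 lc_d_rc_15_1 lc_d_rc_8_3) (@D3.rec (fun _ => (Cert rels S Gen.d)) lc_d_rc_3_3 lc_d_rc_22_6 lc_d_rc_15_1 lc_d_rc_16_2 lc_d_rc_15_1 lc_d_rc_15_1 lc_d_rc_17_2 lc_d_rc_15_1 lc_d_rc_15_1 lc_d_rc_16_2 lc_d_rc_25_10 lc_d_rc_8_3 lc_d_rc_8_3 lc_d_rc_16_2 lc_d_rc_15_1 lc_d_rc_15_1 lc_d_rc_16_0 lc_d_rc_8_3 lc_d_rc_8_3 lc_d_rc_17_0 lc_d_rc_23_4 lc_d_rc_16_0 lc_d_rc_15_1 lc_d_rc_15_1 lc_d_rc_8_3 lc_d_rc_8_1 lc_d_rc_22_4 lc_d_rc_22_2 lc_d_rc_27_10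 lc_d_rc_15_1 lc_d_rc_16_4 lc_d_rc_16_2 lc_d_rc_15_1 lc_d_rc_15_1 lc_d_rc_15_1 lc_d_rc_12_13 lc_d_rc_16_4 lc_d_rc_8_3 lc_d_rc_12_15 lc_d_rc_16_4 lc_d_rc_8_3 lc_d_rc_23_2 lc_d_rc_16_4 lc_d_rc_22_4 lc_d_rc_27_2 lc_d_rc_12_13 lc_d_rc_23_4 lc_d_rc_16_2 lc_d_rc_27_8 lc_d_rc_27_10 lc_d_rc_15_1 lc_d_rc_17_2 lc_d_rc_22_2 lc_d_rc_16_2 lc_d_rc_25_6 lc_d_rc_16_0 lc_d_rc_15_1 lc_d_rc_27_4 lc_d_rc_27_8 lc_d_rc_23_4 lc_d_rc_23_4 lc_d_rc_15_1) (@D3.rec (fun _ => (Cert rels S Gen.d)) lc_d_rc_15_1 lc_d_rc_15_1 lc_d_rc_23_6 lc_d_rc_15_1 lc_d_rc_15_1 lc_d_rc_23_8 lc_d_rc_15_1 lc_d_rc_24_5 lc_d_rc_24_0 lc_d_rc_24_5 lc_d_rc_27_2 lc_d_rc_8_3 lc_d_rc_15_1 lc_d_rc_27_2 lc_d_rc_16_4 lc_d_rc_23_6 lc_d_rc_22_2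 lc_d_rc_16_4 lc_d_rc_23_2 lc_d_rc_8_3 lc_d_rc_15_1 lc_d_rc_24_5 lc_d_rc_8_3 lc_d_rc_8_3 lc_d_rc_25_6 lc_d_rc_23_8 lc_d_rc_23_8 lc_d_rc_16_2 lc_d_rc_22_6 lc_d_rc_23_6 lc_d_rc_15_1 lc_d_rc_27_2 lc_d_rc_24_0 lc_d_rc_8_3 lc_d_rc_15_1 lc_d_rc_15_1 lc_d_rc_8_3 lc_d_rc_23_8 lc_d_rc_8_1 lc_d_rc_22_8 lc_d_rc_8_1 lc_d_rc_16_4 lc_d_rc_16_0 lc_d_rc_8_3 lc_d_rc_15_1 lc_d_rc_15_1 lc_d_rc_16_4 lc_d_rc_16_2 lc_d_rc_15_1 lc_d_rc_15_1 lc_d_rc_16_4 lc_d_rc_15_1 lc_d_rc_16_2 lc_d_rc_17_2 lc_d_rc_3_1 lc_d_rc_16_2 lc_d_rc_16_4 lc_d_rc_16_4 lc_d_rc_27_4 lc_d_Cert_tree lc_d_rc_16_2 lc_d_rc_22_2) (@D3.rec (fun _ => (Cert rels S Gen.d)) lc_d_rc_16_4 lc_d_rc_17_2 lc_d_rc_8_3 lc_d_rc_22_6 lc_d_rc_17_2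 lc_d_rc_22_2 lc_d_rc_16_2 lc_d_rc_15_1 lc_d_rc_15_1 lc_d_rc_3_1 lc_d_rc_15_1 lc_d_rc_27_10 lc_d_rc_16_0 lc_d_rc_15_1 lc_d_rc_15_1 lc_d_rc_24_5 lc_d_rc_24_5 lc_d_rc_12_1 lc_d_rc_15_1 lc_d_rc_22_4 lc_d_rc_22_6 lc_d_rc_27_10 lc_d_rc_27_10 lc_d_rc_15_1 lc_d_Cert_tree lc_d_rc_16_4 lc_d_Cert_tree lc_d_rc_15_1 lc_d_rc_22_4 lc_d_rc_17_2 lc_d_rc_15_1 lc_d_rc_15_1 lc_d_rc_27_2 lc_d_rc_27_4 lc_d_rc_15_1 lc_d_rc_27_8 lc_d_rc_8_3 lc_d_rc_16_4 lc_d_rc_3_3 lc_d_rc_22_4 lc_d_rc_15_1 lc_d_rc_12_15 lc_d_rc_16_4 lc_d_rc_24_0 lc_d_rc_27_2 lc_d_rc_15_1 lc_d_rc_17_2 lc_d_rc_23_6 lc_d_rc_23_2 lc_d_rc_16_0 lc_d_rc_27_8 lc_d_rc_24_5 lc_d_rc_17_0 lc_d_rc_8_3 lc_d_rc_8_3 lc_d_rc_15_1 lc_d_rc_8_3 lc_d_rc_22_6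 lc_d_rc_27_2 lc_d_rc_15_1 lc_d_rc_15_1 lc_d_rc_15_1) (@D3.rec (fun _ => (Cert rels S Gen.d)) lc_d_rc_24_0 lc_d_rc_27_4 lc_d_rc_15_1 lc_d_rc_27_2 lc_d_rc_8_1 lc_d_rc_16_4 lc_d_rc_8_3 lc_d_Cert_tree lc_d_rc_15_1 lc_d_rc_16_4 lc_d_rc_23_4 lc_d_rc_8_3 lc_d_rc_15_1 lc_d_Cert_tree lc_d_Cert_tree lc_d_rc_27_2 lc_d_rc_27_4 lc_d_Cert_tree lc_d_rc_23_8 lc_d_rc_15_1 lc_d_rc_22_4 lc_d_rc_27_4 lc_d_rc_23_6 lc_d_rc_16_4 lc_d_rc_17_2 lc_d_rc_8_3 lc_d_rc_27_4 lc_d_rc_8_3 lc_d_rc_27_8 lc_d_rc_8_3 lc_d_rc_15_1 lc_d_rc_8_3 lc_d_rc_15_1 lc_d_rc_27_2 lc_d_rc_15_1 lc_d_rc_16_0 lc_d_Cert_tree lc_d_rc_15_1 lc_d_rc_15_1 lc_d_rc_8_3 lc_d_rc_22_6 lc_d_rc_27_10 lc_d_rc_15_1 lc_d_rc_15_1 lc_d_rc_24_5 lc_d_rc_16_0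 lc_d_Cert_tree lc_d_rc_15_1 lc_d_Cert_tree lc_d_rc_15_1 lc_d_rc_24_5 lc_d_rc_15_1 lc_d_rc_22_4 lc_d_rc_15_1 lc_d_rc_17_2 lc_d_rc_15_1 lc_d_rc_27_4 lc_d_rc_15_1 lc_d_rc_17_2 lc_d_rc_16_4 lc_d_Cert_tree lc_d_rc_17_2) (@D3.rec (fun _ => (Cert rels S Gen.d)) lc_d_rc_15_1 lc_d_rc_15_1 lc_d_rc_16_0 lc_d_rc_15_1 lc_d_rc_17_2 lc_d_rc_22_8 lc_d_rc_16_4 lc_d_rc_15_1 lc_d_rc_15_1 lc_d_rc_15_1 lc_d_rc_15_1 lc_d_rc_24_5 lc_d_rc_22_2 lc_d_rc_23_4 lc_d_rc_15_1 lc_d_rc_15_1 lc_d_rc_27_8 lc_d_rc_16_2 lc_d_rc_16_2 lc_d_rc_15_1 lc_d_rc_17_2 lc_d_rc_8_3 lc_d_rc_27_4 lc_d_rc_15_1 lc_d_rc_27_8 lc_d_rc_22_6 lc_d_rc_25_6 lc_d_rc_15_1 lc_d_rc_27_8 lc_d_rc_27_2 lc_d_rc_15_1 lc_d_rc_24_5 lc_d_rc_22_4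 lc_d_rc_16_2 lc_d_rc_15_1 lc_d_rc_15_1 lc_d_rc_8_3 lc_d_rc_15_1 lc_d_rc_15_1 lc_d_rc_12_15 lc_d_rc_15_1 lc_d_rc_27_2 lc_d_rc_8_1 lc_d_rc_3_3 lc_d_rc_22_4 lc_d_rc_15_1 lc_d_rc_22_2 lc_d_rc_8_1 lc_d_rc_16_4 lc_d_rc_27_10 lc_d_rc_16_4 lc_d_rc_16_4 lc_d_Cert_tree lc_d_rc_17_2 lc_d_rc_27_10 lc_d_rc_8_1 lc_d_rc_15_1 lc_d_rc_16_4 lc_d_Cert_tree lc_d_rc_15_1 lc_d_rc_23_4 lc_d_rc_24_0) (@D3.rec (fun _ => (Cert rels S Gen.d)) lc_d_rc_15_1 lc_d_rc_16_2 lc_d_rc_8_1 lc_d_rc_15_1 lc_d_rc_23_4 lc_d_rc_15_1 lc_d_rc_15_1 lc_d_rc_27_2 lc_d_rc_23_4 lc_d_rc_15_1 lc_d_rc_27_4 lc_d_rc_8_3 lc_d_rc_15_1 lc_d_rc_15_1 lc_d_rc_15_1 lc_d_rc_22_4 lc_d_rc_27_10 lc_d_rc_15_1 lc_d_rc_17_2 lc_d_rc_15_1 lc_d_rc_15_1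 lc_d_rc_17_2 lc_d_rc_12_1 lc_d_Cert_tree lc_d_rc_15_1 lc_d_rc_15_1 lc_d_rc_15_1 lc_d_rc_15_1 lc_d_rc_15_1 lc_d_rc_8_1 lc_d_rc_15_1 lc_d_rc_15_1 lc_d_rc_16_4 lc_d_rc_16_2 lc_d_rc_23_4 lc_d_rc_8_3 lc_d_rc_8_1 lc_d_rc_15_1 lc_d_rc_12_15 lc_d_rc_8_1 lc_d_rc_8_1 lc_d_rc_8_3 lc_d_rc_22_4 lc_d_rc_15_1 lc_d_rc_3_3 lc_d_rc_22_4 lc_d_rc_8_1 lc_d_rc_22_8 lc_d_rc_23_4 lc_d_rc_16_4 lc_d_rc_17_2 lc_d_rc_23_4 lc_d_rc_27_10 lc_d_rc_8_1 lc_d_rc_8_3 lc_d_rc_15_1 lc_d_rc_23_4 lc_d_rc_15_1 lc_d_rc_15_1 lc_d_rc_17_2 lc_d_rc_27_4 lc_d_rc_15_1) (@D3.rec (fun _ => (Cert rels S Gen.d)) lc_d_rc_8_3 lc_d_rc_22_6 lc_d_rc_15_1 lc_d_rc_8_3 lc_d_rc_23_6 lc_d_rc_15_1 lc_d_rc_27_2 lc_d_rc_15_1 lc_d_rc_3_3 lc_d_rc_15_1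 lc_d_rc_16_4 lc_d_rc_3_3 lc_d_rc_16_4 lc_d_rc_27_8 lc_d_rc_24_5 lc_d_rc_15_1 lc_d_rc_8_3 lc_d_rc_16_4 lc_d_rc_15_1 lc_d_rc_27_2 lc_d_rc_15_1 lc_d_rc_17_2 lc_d_rc_22_6 lc_d_rc_27_4 lc_d_rc_27_4 lc_d_rc_12_15 lc_d_rc_22_6 lc_d_rc_16_0 lc_d_rc_8_3 lc_d_rc_8_3 lc_d_rc_22_2 lc_d_rc_8_1 lc_d_rc_22_6 lc_d_rc_15_1 lc_d_rc_27_4 lc_d_rc_15_1 lc_d_rc_22_2 lc_d_rc_15_1 lc_d_rc_15_1 lc_d_rc_22_6 lc_d_rc_8_3 lc_d_rc_8_3 lc_d_rc_15_1 lc_d_rc_23_6 lc_d_rc_15_1 lc_d_rc_27_8 lc_d_rc_8_3 lc_d_rc_22_8 lc_d_rc_15_1 lc_d_rc_8_3 lc_d_rc_16_4 lc_d_rc_23_2 lc_d_rc_8_1 lc_d_rc_15_1 lc_d_rc_17_2 lc_d_rc_25_6 lc_d_rc_17_0 lc_d_rc_23_6 lc_d_rc_8_3 lc_d_rc_8_3 lc_d_rc_15_1 lc_d_rc_15_1) (@D3.rec (fun _ =>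 (Cert rels S Gen.d)) lc_d_rc_23_4 lc_d_rc_8_3 lc_d_rc_8_3 lc_d_rc_16_4 lc_d_rc_24_5 lc_d_rc_15_1 lc_d_rc_15_1 lc_d_rc_3_3 lc_d_rc_17_2 lc_d_rc_24_0 lc_d_rc_15_1 lc_d_rc_15_1 lc_d_rc_15_1 lc_d_rc_22_6 lc_d_rc_27_8 lc_d_Cert_tree lc_d_rc_15_1 lc_d_rc_8_3 lc_d_rc_15_1 lc_d_rc_22_4 lc_d_rc_27_4 lc_d_rc_15_1 lc_d_Cert_tree lc_d_rc_16_2 lc_d_rc_8_3 lc_d_Cert_tree lc_d_rc_24_0 lc_d_rc_15_1 lc_d_rc_22_2 lc_d_rc_27_4 lc_d_rc_16_2 lc_d_rc_23_2 lc_d_rc_25_18 lc_d_Cert_tree lc_d_rc_15_1 lc_d_rc_15_1 lc_d_rc_15_1 lc_d_rc_12_15 lc_d_rc_15_1 lc_d_rc_8_3 lc_d_rc_16_2 lc_d_rc_22_2 lc_d_rc_15_1 lc_d_rc_16_2 lc_d_rc_8_3 lc_d_rc_16_4 lc_d_rc_16_4 lc_d_rc_27_2 lc_d_rc_15_1 lc_d_rc_23_6 lc_d_rc_15_1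 lc_d_rc_3_3 lc_d_rc_8_3 lc_d_rc_3_1 lc_d_rc_15_1 lc_d_rc_24_0 lc_d_rc_17_0 lc_d_rc_15_1 lc_d_rc_15_1 lc_d_Cert_tree lc_d_rc_27_2 lc_d_rc_23_2) (@D3.rec (fun _ => (Cert rels S Gen.d)) lc_d_rc_15_1 lc_d_rc_17_2 lc_d_rc_16_2 lc_d_rc_22_2 lc_d_rc_3_3 lc_d_rc_3_3 lc_d_rc_22_8 lc_d_rc_15_1 lc_d_rc_24_0 lc_d_rc_8_3 lc_d_rc_22_6 lc_d_rc_15_1 lc_d_rc_27_2 lc_d_rc_16_4 lc_d_rc_15_1 lc_d_rc_8_3 lc_d_rc_25_2 lc_d_rc_15_1 lc_d_rc_24_5 lc_d_Cert_tree lc_d_rc_15_1 lc_d_rc_23_2 lc_d_rc_24_0 lc_d_rc_15_1 lc_d_rc_27_2 lc_d_rc_27_2 lc_d_rc_17_2 lc_d_rc_8_3 lc_d_rc_16_0 lc_d_rc_15_1 lc_d_rc_22_4 lc_d_rc_15_1 lc_d_Cert_tree lc_d_rc_15_1 lc_d_rc_23_6 lc_d_rc_16_4 lc_d_rc_27_2 lc_d_rc_17_2 lc_d_rc_3_3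 lc_d_rc_8_3 lc_d_rc_3_1 lc_d_rc_15_1 lc_d_rc_23_4 lc_d_rc_3_3 lc_d_rc_27_2 lc_d_rc_8_3 lc_d_rc_15_1 lc_d_rc_3_3 lc_d_rc_27_10 lc_d_rc_27_2 lc_d_rc_8_1 lc_d_rc_27_10 lc_d_rc_15_1 lc_d_rc_8_3 lc_d_rc_15_1 lc_d_rc_15_1 lc_d_Cert_tree lc_d_rc_3_3 lc_d_rc_3_3 lc_d_rc_15_1 lc_d_Cert_tree lc_d_rc_23_6) (@D3.rec (fun _ => (Cert rels S Gen.d)) lc_d_rc_16_2 lc_d_rc_17_0 lc_d_Cert_tree lc_d_Cert_tree lc_d_Cert_tree lc_d_rc_22_2 lc_d_rc_15_1 lc_d_rc_22_8 lc_d_rc_15_1 lc_d_rc_15_1 lc_d_rc_8_3 lc_d_rc_17_2 lc_d_rc_8_3 lc_d_rc_8_3 lc_d_rc_3_3 lc_d_rc_23_8 lc_d_rc_8_3 lc_d_rc_15_1 lc_d_rc_16_2 lc_d_rc_17_2 lc_d_rc_15_1 lc_d_rc_24_0 lc_d_rc_15_1 lc_d_rc_15_1 lc_d_rc_16_2 lc_d_rc_16_4 lc_d_rc_16_4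 lc_d_rc_27_4 lc_d_rc_24_0 lc_d_rc_15_1 lc_d_rc_22_6 lc_d_rc_15_1 lc_d_rc_3_3 lc_d_rc_16_4 lc_d_rc_15_1 lc_d_rc_8_3 lc_d_rc_25_10 lc_d_rc_15_1 lc_d_rc_15_1 lc_d_rc_27_4 lc_d_rc_27_4 lc_d_rc_15_1 lc_d_rc_15_1 lc_d_rc_8_3 lc_d_rc_12_1 lc_d_rc_27_2 lc_d_rc_16_2 lc_d_rc_22_6 lc_d_rc_8_3 lc_d_rc_16_4 lc_d_rc_15_1 lc_d_rc_22_4 lc_d_rc_3_3 lc_d_rc_17_0 lc_d_rc_8_3 lc_d_rc_15_1 lc_d_rc_22_4 lc_d_rc_8_3 lc_d_rc_15_1 lc_d_rc_8_3 lc_d_rc_8_1 lc_d_rc_22_4) (@D3.rec (fun _ => (Cert rels S Gen.d)) lc_d_rc_8_3 lc_d_rc_15_1 lc_d_rc_23_2 lc_d_rc_23_4 lc_d_rc_15_1 lc_d_rc_27_8 lc_d_rc_22_2 lc_d_rc_15_1 lc_d_rc_24_5 lc_d_rc_12_15 lc_d_rc_15_1 lc_d_rc_12_1 lc_d_rc_24_5 lc_d_rc_27_4 lc_d_rc_24_0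 lc_d_rc_15_1 lc_d_rc_16_2 lc_d_rc_16_0 lc_d_rc_15_1 lc_d_rc_15_1 lc_d_rc_16_2 lc_d_rc_15_1 lc_d_rc_16_4 lc_d_rc_15_1 lc_d_rc_16_0 lc_d_rc_27_10 lc_d_rc_16_4 lc_d_rc_16_2 lc_d_rc_8_3 lc_d_rc_16_4 lc_d_rc_8_3 lc_d_rc_27_8 lc_d_rc_22_6 lc_d_rc_3_3 lc_d_rc_15_1 lc_d_rc_16_4 lc_d_rc_8_3 lc_d_rc_15_1 lc_d_rc_12_1 lc_d_rc_17_2 lc_d_rc_15_1 lc_d_rc_3_3 lc_d_rc_27_8 lc_d_rc_15_1 lc_d_rc_16_4 lc_d_rc_8_3 lc_d_rc_16_4 lc_d_rc_22_8 lc_d_rc_22_4 lc_d_rc_24_0 lc_d_rc_27_8 lc_d_rc_15_1 lc_d_rc_3_1 lc_d_rc_16_0 lc_d_rc_15_1 lc_d_rc_23_2 lc_d_rc_22_4 lc_d_rc_3_3 lc_d_rc_8_3 lc_d_rc_16_2 lc_d_rc_15_1 lc_d_rc_8_3) (@D3.rec (fun _ => (Cert rels S Gen.d)) lc_d_Cert_tree lc_d_Cert_tree lc_d_rc_15_1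 lc_d_rc_25_14 lc_d_rc_24_0 lc_d_rc_17_2 lc_d_rc_25_10 lc_d_rc_16_4 lc_d_rc_8_1 lc_d_rc_17_2 lc_d_rc_15_1 lc_d_rc_22_8 lc_d_rc_24_5 lc_d_rc_27_8 lc_d_rc_24_0 lc_d_rc_16_2 lc_d_rc_22_2 lc_d_rc_15_1 lc_d_Cert_tree lc_d_rc_22_4 lc_d_rc_23_2 lc_d_rc_15_1 lc_d_rc_16_4 lc_d_rc_23_2 lc_d_rc_16_2 lc_d_rc_22_4 lc_d_rc_16_2 lc_d_rc_22_8 lc_d_rc_15_1 lc_d_rc_8_3 lc_d_rc_22_2 lc_d_rc_27_2 lc_d_rc_17_2 lc_d_rc_22_8 lc_d_rc_15_1 lc_d_rc_15_1 lc_d_Cert_tree lc_d_rc_16_0 lc_d_rc_17_2 lc_d_rc_15_1 lc_d_rc_24_0 lc_d_rc_16_4 lc_d_rc_17_2 lc_d_rc_8_3 lc_d_rc_25_2 lc_d_rc_27_10 lc_d_rc_15_1 lc_d_rc_17_0 lc_d_rc_15_1 lc_d_rc_22_2 lc_d_rc_22_2 lc_d_rc_22_4 lc_d_rc_17_0 lc_d_rc_8_3 lc_d_rc_22_2 lc_d_rc_27_4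 lc_d_rc_22_6 lc_d_rc_3_1 lc_d_rc_25_14 lc_d_rc_27_2 lc_d_rc_23_6 lc_d_rc_15_1) (@D3.rec (fun _ => (Cert rels S Gen.d)) lc_d_rc_17_2 lc_d_rc_8_3 lc_d_rc_27_10 lc_d_rc_8_3 lc_d_rc_3_3 lc_d_rc_27_8 lc_d_rc_22_8 lc_d_rc_8_3 lc_d_rc_27_2 lc_d_rc_23_2 lc_d_rc_3_3 lc_d_rc_8_3 lc_d_rc_8_3 lc_d_rc_15_1 lc_d_rc_27_4 lc_d_rc_3_3 lc_d_rc_8_3 lc_d_rc_3_3 lc_d_rc_27_2 lc_d_rc_8_1 lc_d_rc_24_5 lc_d_rc_15_1 lc_d_rc_27_2 lc_d_rc_27_2 lc_d_rc_8_1 lc_d_rc_25_2 lc_d_rc_15_1 lc_d_rc_15_1 lc_d_rc_15_1 lc_d_rc_8_1 lc_d_rc_3_1 lc_d_rc_16_4 lc_d_rc_16_2 lc_d_rc_24_0 lc_d_rc_8_3 lc_d_rc_22_4 lc_d_rc_27_10 lc_d_rc_16_4 lc_d_rc_8_3 lc_d_rc_27_8 lc_d_rc_17_2 lc_d_rc_22_4 lc_d_rc_8_3 lc_d_rc_17_2 lc_d_rc_23_2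 lc_d_rc_8_3 lc_d_rc_15_1 lc_d_rc_24_0 lc_d_rc_15_1 lc_d_rc_27_8 lc_d_rc_15_1 lc_d_rc_8_3 lc_d_rc_27_8 lc_d_rc_27_10 lc_d_rc_15_1 lc_d_rc_3_1 lc_d_rc_17_2 lc_d_rc_3_3 lc_d_rc_3_1 lc_d_rc_27_2 lc_d_rc_24_0 lc_d_rc_24_5) (@D3.rec (fun _ => (Cert rels S Gen.d)) lc_d_rc_12_13 lc_d_rc_8_3 lc_d_rc_3_3 lc_d_rc_15_1 lc_d_rc_3_1 lc_d_rc_15_1 lc_d_rc_8_3 lc_d_rc_23_2 lc_d_rc_15_1 lc_d_rc_15_1 lc_d_rc_16_4 lc_d_rc_8_3 lc_d_rc_12_15 lc_d_rc_27_4 lc_d_rc_15_1 lc_d_rc_23_2 lc_d_rc_15_1 lc_d_rc_17_2 lc_d_rc_12_15 lc_d_rc_8_1 lc_d_rc_24_5 lc_d_rc_8_3 lc_d_rc_8_3 lc_d_rc_24_5 lc_d_rc_23_2 lc_d_rc_15_1 lc_d_rc_22_8 lc_d_rc_17_2 lc_d_rc_15_1 lc_d_rc_15_1 lc_d_rc_27_4 lc_d_rc_3_3 lc_d_rc_15_1 lc_d_rc_15_1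 lc_d_rc_15_1 lc_d_rc_15_1 lc_d_rc_23_2 lc_d_rc_16_2 lc_d_rc_24_5 lc_d_rc_16_2 lc_d_rc_12_3 lc_d_rc_16_4 lc_d_rc_24_5 lc_d_rc_15_1 lc_d_rc_27_4 lc_d_rc_23_6 lc_d_rc_15_1 lc_d_rc_3_1 lc_d_rc_15_1 lc_d_rc_16_2 lc_d_rc_15_1 lc_d_rc_8_3 lc_d_rc_22_2 lc_d_rc_16_4 lc_d_rc_24_5 lc_d_Cert_tree lc_d_rc_15_1 lc_d_rc_23_2 lc_d_rc_22_4 lc_d_rc_15_1 lc_d_rc_27_8 lc_d_rc_22_6) (@D3.rec (fun _ => (Cert rels S Gen.d)) lc_d_rc_16_4 lc_d_rc_22_6 lc_d_rc_15_1 lc_d_rc_8_3 lc_d_rc_16_4 lc_d_rc_15_1 lc_d_rc_22_2 lc_d_rc_15_1 lc_d_rc_3_1 lc_d_rc_24_5 lc_d_rc_17_2 lc_d_rc_8_1 lc_d_rc_27_4 lc_d_rc_8_1 lc_d_rc_27_2 lc_d_rc_15_1 lc_d_rc_23_4 lc_d_rc_15_1 lc_d_rc_27_8 lc_d_rc_24_0 lc_d_rc_27_10 lc_d_rc_22_6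 lc_d_rc_25_10 lc_d_rc_24_0 lc_d_rc_3_1 lc_d_rc_8_3 lc_d_rc_3_3 lc_d_rc_15_1 lc_d_rc_22_2 lc_d_rc_8_3 lc_d_Cert_tree lc_d_rc_8_3 lc_d_rc_22_4 lc_d_rc_16_4 lc_d_rc_22_4 lc_d_rc_23_4 lc_d_rc_27_2 lc_d_rc_15_1 lc_d_rc_3_3 lc_d_rc_15_1 lc_d_rc_15_1 lc_d_rc_22_2 lc_d_rc_8_3 lc_d_rc_22_6 lc_d_rc_17_2 lc_d_rc_22_4 lc_d_rc_16_2 lc_d_rc_16_2 lc_d_rc_27_10 lc_d_rc_27_2 lc_d_rc_23_8 lc_d_rc_27_4 lc_d_rc_15_1 lc_d_rc_22_4 lc_d_rc_8_3 lc_d_rc_16_4 lc_d_rc_15_1 lc_d_rc_15_1 lc_d_rc_15_1 lc_d_rc_15_1 lc_d_rc_15_1 lc_d_rc_27_8) (@D3.rec (fun _ => (Cert rels S Gen.d)) lc_d_rc_22_4 lc_d_rc_15_1 lc_d_rc_24_0 lc_d_rc_3_3 lc_d_rc_24_0 lc_d_rc_15_1 lc_d_rc_8_3 lc_d_rc_22_4 lc_d_rc_16_2 lc_d_rc_15_1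 lc_d_rc_15_1 lc_d_rc_17_2 lc_d_rc_8_3 lc_d_rc_24_5 lc_d_rc_16_4 lc_d_rc_15_1 lc_d_rc_15_1 lc_d_rc_3_3 lc_d_rc_15_1 lc_d_rc_16_2 lc_d_rc_15_1 lc_d_rc_15_1 lc_d_rc_27_2 lc_d_rc_15_1 lc_d_rc_8_1 lc_d_rc_15_1 lc_d_Cert_tree lc_d_rc_17_2 lc_d_rc_16_4 lc_d_rc_22_4 lc_d_rc_15_1 lc_d_rc_15_1 lc_d_rc_15_1 lc_d_rc_23_4 lc_d_rc_22_4 lc_d_rc_23_4 lc_d_rc_15_1 lc_d_rc_15_1 lc_d_rc_17_2 lc_d_rc_16_4 lc_d_rc_16_4 lc_d_rc_25_18 lc_d_rc_25_2 lc_d_rc_15_1 lc_d_rc_27_10 lc_d_rc_15_1 lc_d_rc_16_4 lc_d_rc_8_3 lc_d_rc_16_4 lc_d_rc_25_2 lc_d_rc_16_0 lc_d_rc_3_3 lc_d_rc_22_2 lc_d_rc_25_2 lc_d_rc_27_10 lc_d_rc_17_2 lc_d_rc_16_0 lc_d_rc_24_5 lc_d_rc_15_1 lc_d_rc_8_3 lc_d_rc_16_2 lc_d_rc_16_4) (@D3.rec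 (fun _ => (Cert rels S Gen.d)) lc_d_rc_23_4 lc_d_rc_8_3 lc_d_rc_15_1 lc_d_rc_25_10 lc_d_rc_27_10 lc_d_rc_24_0 lc_d_rc_22_6 lc_d_rc_27_4 lc_d_rc_24_5 lc_d_rc_3_3 lc_d_rc_16_0 lc_d_rc_15_1 lc_d_rc_16_2 lc_d_rc_8_3 lc_d_rc_3_3 lc_d_rc_15_1 lc_d_rc_15_1 lc_d_rc_23_2 lc_d_rc_15_1 lc_d_rc_17_2 lc_d_rc_15_1 lc_d_Cert_tree lc_d_rc_16_2 lc_d_rc_15_1 lc_d_rc_15_1 lc_d_rc_22_2 lc_d_rc_15_1 lc_d_rc_22_2 lc_d_rc_25_2 lc_d_rc_3_3 lc_d_rc_8_3 lc_d_rc_16_2 lc_d_rc_23_6 lc_d_rc_16_4 lc_d_Cert_tree lc_d_rc_8_3 lc_d_rc_22_8 lc_d_rc_16_4 lc_d_rc_15_1 lc_d_rc_8_1 lc_d_rc_27_10 lc_d_rc_27_4 lc_d_rc_3_3 lc_d_rc_22_4 lc_d_rc_15_1 lc_d_rc_15_1 lc_d_rc_24_0 lc_d_rc_3_3 lc_d_rc_24_0 lc_d_rc_23_4 lc_d_rc_3_3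 lc_d_rc_27_8 lc_d_rc_8_3 lc_d_rc_24_5 lc_d_rc_24_5 lc_d_rc_27_4 lc_d_rc_17_2 lc_d_rc_15_1 lc_d_rc_22_8 lc_d_rc_23_8 lc_d_rc_15_1 lc_d_rc_27_4) (@D3.rec (fun _ => (Cert rels S Gen.d)) lc_d_rc_27_4 lc_d_rc_15_1 lc_d_rc_15_1 lc_d_rc_8_3 lc_d_rc_24_5 lc_d_rc_23_6 lc_d_rc_15_1 lc_d_rc_3_3 lc_d_rc_15_1 lc_d_rc_17_2 lc_d_rc_15_1 lc_d_rc_27_8 lc_d_rc_15_1 lc_d_rc_23_6 lc_d_rc_23_6 lc_d_rc_16_2 lc_d_rc_25_18 lc_d_rc_27_4 lc_d_rc_16_2 lc_d_rc_16_2 lc_d_rc_27_10 lc_d_rc_27_2 lc_d_rc_17_2 lc_d_rc_16_0 lc_d_rc_17_2 lc_d_rc_15_1 lc_d_rc_16_2 lc_d_rc_8_3 lc_d_rc_15_1 lc_d_rc_24_5 lc_d_rc_8_3 lc_d_rc_24_5 lc_d_rc_22_4 lc_d_rc_15_1 lc_d_rc_12_1 lc_d_rc_23_8 lc_d_rc_15_1 lc_d_rc_27_8 lc_d_rc_8_1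 lc_d_rc_17_2 lc_d_rc_24_0 lc_d_rc_15_1 lc_d_rc_23_8 lc_d_rc_15_1 lc_d_rc_8_3 lc_d_rc_17_2 lc_d_rc_15_1 lc_d_rc_8_1 lc_d_rc_15_1 lc_d_rc_15_1 lc_d_rc_15_1 lc_d_rc_16_0 lc_d_rc_15_1 lc_d_rc_15_1 lc_d_rc_8_1 lc_d_rc_24_0 lc_d_rc_15_1 lc_d_rc_3_1 lc_d_rc_17_2 lc_d_rc_15_1 lc_d_rc_8_3 lc_d_rc_15_1) (@D3.rec (fun _ => (Cert rels S Gen.d)) lc_d_rc_27_2 lc_d_rc_15_1 lc_d_rc_24_5 lc_d_rc_8_3 lc_d_Cert_tree lc_d_rc_8_3 lc_d_rc_24_0 lc_d_rc_23_2 lc_d_rc_8_3 lc_d_rc_15_1 lc_d_rc_22_2 lc_d_rc_8_3 lc_d_rc_15_1 lc_d_rc_24_0 lc_d_rc_8_3 lc_d_rc_23_4 lc_d_rc_22_2 lc_d_rc_25_18 lc_d_Cert_tree lc_d_rc_15_1 lc_d_rc_24_0 lc_d_rc_12_15 lc_d_Cert_tree lc_d_rc_16_0 lc_d_rc_27_4 lc_d_rc_22_8 lc_d_rc_8_3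 lc_d_rc_8_3 lc_d_rc_22_2 lc_d_rc_17_0 lc_d_rc_22_4 lc_d_rc_15_1 lc_d_rc_23_2 lc_d_rc_17_2 lc_d_rc_23_6 lc_d_rc_8_1 lc_d_rc_24_0 lc_d_rc_22_2 lc_d_rc_15_1 lc_d_rc_17_0 lc_d_rc_24_0 lc_d_rc_15_1 lc_d_rc_15_1 lc_d_rc_16_0 lc_d_rc_3_1 lc_d_rc_17_2 lc_d_rc_22_6 lc_d_rc_22_8 lc_d_rc_15_1 lc_d_rc_23_2 lc_d_rc_23_6 lc_d_rc_15_1 lc_d_rc_27_8 lc_d_rc_16_0 lc_d_rc_15_1 lc_d_rc_27_4 lc_d_rc_8_1 lc_d_rc_22_4 lc_d_rc_15_1 lc_d_rc_8_1 lc_d_rc_15_1 lc_d_rc_12_15) (@D3.rec (fun _ => (Cert rels S Gen.d)) lc_d_rc_22_2 lc_d_rc_15_1 lc_d_rc_24_0 lc_d_rc_16_4 lc_d_Cert_tree lc_d_Cert_tree lc_d_rc_3_1 lc_d_rc_15_1 lc_d_rc_16_2 lc_d_rc_24_0 lc_d_rc_12_1 lc_d_rc_22_2 lc_d_rc_27_8 lc_d_rc_8_3 lc_d_rc_8_3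 lc_d_rc_15_1 lc_d_rc_3_3 lc_d_rc_15_1 lc_d_rc_15_1 lc_d_rc_3_3 lc_d_rc_25_2 lc_d_rc_8_3 lc_d_rc_23_2 lc_d_rc_15_1 lc_d_rc_16_0 lc_d_rc_15_1 lc_d_rc_24_0 lc_d_rc_17_2 lc_d_rc_15_1 lc_d_rc_8_3 lc_d_rc_8_3 lc_d_rc_8_3 lc_d_rc_15_1 lc_d_rc_15_1 lc_d_rc_27_4 lc_d_rc_15_1 lc_d_rc_23_8 lc_d_rc_22_6 lc_d_rc_16_2 lc_d_rc_15_1 lc_d_rc_23_2 lc_d_rc_24_5 lc_d_rc_3_3 lc_d_rc_16_0 lc_d_rc_27_4 lc_d_rc_8_3 lc_d_rc_17_0 lc_d_rc_8_3 lc_d_rc_22_4 lc_d_rc_27_4 lc_d_rc_27_2 lc_d_rc_23_8 lc_d_rc_16_0 lc_d_rc_8_3 lc_d_rc_27_2 lc_d_rc_24_0 lc_d_rc_23_8 lc_d_rc_24_0 lc_d_rc_24_0 lc_d_rc_8_3 lc_d_rc_15_1 lc_d_rc_15_1) (@D3.rec (fun _ => (Cert rels S Gen.d)) lc_d_rc_27_2 lc_d_rc_23_8 lc_d_rc_22_4 lc_d_rc_8_1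 lc_d_rc_27_8 lc_d_rc_3_3 lc_d_rc_15_1 lc_d_rc_27_8 lc_d_rc_15_1 lc_d_rc_22_6 lc_d_rc_12_3 lc_d_rc_3_1 lc_d_rc_17_0 lc_d_rc_24_0 lc_d_rc_23_6 lc_d_rc_27_4 lc_d_rc_23_2 lc_d_rc_23_4 lc_d_rc_22_8 lc_d_rc_15_1 lc_d_rc_3_3 lc_d_rc_15_1 lc_d_rc_8_1 lc_d_rc_15_1 lc_d_rc_27_4 lc_d_rc_15_1 lc_d_rc_24_0 lc_d_rc_16_2 lc_d_rc_15_1 lc_d_rc_8_3 lc_d_rc_15_1 lc_d_rc_15_1 lc_d_rc_17_2 lc_d_rc_12_15 lc_d_rc_22_4 lc_d_rc_16_4 lc_d_rc_8_3 lc_d_rc_15_1 lc_d_rc_23_4 lc_d_rc_15_1 lc_d_rc_22_4 lc_d_rc_16_4 lc_d_rc_15_1 lc_d_rc_15_1 lc_d_rc_22_2 lc_d_rc_16_0 lc_d_rc_27_4 lc_d_rc_8_3 lc_d_rc_27_2 lc_d_rc_8_3 lc_d_rc_8_1 lc_d_rc_16_0 lc_d_rc_27_4 lc_d_Cert_tree lc_d_rc_8_3 lc_d_rc_8_3 lc_d_rc_15_1 lc_d_rc_23_2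 lc_d_rc_16_2 lc_d_rc_15_1 lc_d_rc_17_2 lc_d_rc_8_3) (@D3.rec (fun _ => (Cert rels S Gen.d)) lc_d_rc_12_15 lc_d_rc_16_4 lc_d_rc_23_6 lc_d_rc_22_2 lc_d_rc_15_1 lc_d_rc_8_3 lc_d_rc_15_1 lc_d_rc_8_3 lc_d_rc_27_4 lc_d_rc_22_8 lc_d_rc_16_4 lc_d_rc_27_4 lc_d_rc_15_1 lc_d_Cert_tree lc_d_rc_16_0 lc_d_Cert_tree lc_d_rc_15_1 lc_d_Cert_tree lc_d_rc_15_1 lc_d_rc_15_1 lc_d_rc_8_3 lc_d_rc_8_3 lc_d_rc_15_1 lc_d_rc_15_1 lc_d_rc_3_1 lc_d_rc_27_8 lc_d_rc_15_1 lc_d_rc_8_1 lc_d_rc_15_1 lc_d_rc_15_1 lc_d_rc_3_3 lc_d_rc_16_4 lc_d_rc_23_2 lc_d_rc_8_3 lc_d_rc_22_8 lc_d_rc_15_1 lc_d_rc_27_4 lc_d_rc_27_10 lc_d_rc_8_3 lc_d_rc_27_2 lc_d_Cert_tree lc_d_rc_15_1 lc_d_rc_8_3 lc_d_rc_16_0 lc_d_rc_15_1 lc_d_rc_8_3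 lc_d_rc_15_1 lc_d_rc_25_18 lc_d_rc_23_4 lc_d_rc_15_1 lc_d_rc_15_1 lc_d_rc_8_3 lc_d_rc_23_4 lc_d_rc_8_3 lc_d_rc_16_0 lc_d_rc_27_4 lc_d_rc_15_1 lc_d_rc_16_0 lc_d_rc_17_2 lc_d_rc_23_2 lc_d_rc_15_1 lc_d_rc_23_2) (@D3.rec (fun _ => (Cert rels S Gen.d)) lc_d_rc_15_1 lc_d_rc_23_2 lc_d_rc_23_2 lc_d_rc_3_3 lc_d_rc_15_1 lc_d_rc_8_3 lc_d_rc_22_6 lc_d_rc_27_2 lc_d_rc_27_4 lc_d_rc_15_1 lc_d_rc_16_2 lc_d_rc_23_2 lc_d_rc_25_18 lc_d_rc_15_1 lc_d_rc_16_2 lc_d_rc_23_6 lc_d_rc_16_2 lc_d_rc_22_8 lc_d_rc_16_4 lc_d_rc_23_6 lc_d_rc_15_1 lc_d_rc_16_0 lc_d_rc_16_2 lc_d_rc_17_0 lc_d_rc_16_0 lc_d_rc_17_2 lc_d_rc_23_2 lc_d_rc_15_1 lc_d_rc_24_5 lc_d_rc_16_4 lc_d_rc_8_3 lc_d_rc_22_4 lc_d_rc_15_1 lc_d_rc_17_2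 lc_d_rc_16_2 lc_d_rc_15_1 lc_d_rc_27_4 lc_d_rc_15_1 lc_d_rc_17_2 lc_d_rc_15_1 lc_d_rc_27_10 lc_d_rc_22_2 lc_d_rc_15_1 lc_d_rc_15_1 lc_d_rc_16_4 lc_d_rc_16_0 lc_d_rc_8_3 lc_d_rc_16_2 lc_d_rc_17_2 lc_d_rc_16_0 lc_d_rc_15_1 lc_d_rc_23_2 lc_d_rc_15_1 lc_d_rc_15_1 lc_d_rc_23_4 lc_d_rc_17_0 lc_d_rc_27_4 lc_d_rc_23_4 lc_d_Cert_tree lc_d_rc_12_3 lc_d_rc_22_4 lc_d_rc_16_2) (@D3.rec (fun _ => (Cert rels S Gen.d)) lc_d_rc_15_1 lc_d_rc_15_1 lc_d_Cert_tree lc_d_rc_8_3 lc_d_rc_15_1 lc_d_rc_22_8 lc_d_rc_16_0 lc_d_Cert_tree lc_d_rc_17_2 lc_d_rc_15_1 lc_d_rc_16_0 lc_d_rc_23_6 lc_d_rc_17_2 lc_d_rc_17_0 lc_d_rc_27_10 lc_d_rc_15_1 lc_d_rc_22_6 lc_d_rc_15_1 lc_d_rc_16_2 lc_d_rc_15_1 lc_d_rc_8_3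 lc_d_rc_22_2 lc_d_rc_8_1 lc_d_rc_15_1 lc_d_Cert_tree lc_d_rc_15_1 lc_d_rc_15_1 lc_d_rc_27_10 lc_d_rc_3_1 lc_d_rc_16_4 lc_d_rc_15_1 lc_d_rc_27_10 lc_d_rc_24_5 lc_d_rc_15_1 lc_d_rc_15_1 lc_d_rc_24_0 lc_d_rc_22_6 lc_d_rc_16_2 lc_d_rc_27_4 lc_d_rc_15_1 lc_d_rc_8_3 lc_d_rc_8_1 lc_d_rc_15_1 lc_d_Cert_tree lc_d_rc_15_1 lc_d_rc_17_2 lc_d_rc_17_2 lc_d_rc_24_5 lc_d_rc_16_4 lc_d_rc_17_2 lc_d_rc_24_5 lc_d_rc_24_5 lc_d_rc_27_10 lc_d_rc_15_1 lc_d_rc_8_3 lc_d_rc_24_0 lc_d_rc_8_3 lc_d_rc_27_2 lc_d_rc_16_2 lc_d_rc_15_1 lc_d_rc_16_0 lc_d_rc_15_1) (@D3.rec (fun _ => (Cert rels S Gen.d)) lc_d_rc_15_1 lc_d_rc_27_8 lc_d_rc_15_1 lc_d_rc_3_3 lc_d_rc_15_1 lc_d_rc_15_1 lc_d_rc_15_1 lc_d_rc_15_1 lc_d_rc_15_1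 lc_d_rc_22_2 lc_d_rc_15_1 lc_d_rc_27_10 lc_d_rc_16_4 lc_d_rc_15_1 lc_d_rc_17_2 lc_d_rc_15_1 lc_d_rc_17_2 lc_d_rc_15_1 lc_d_rc_15_1 lc_d_rc_24_0 lc_d_rc_17_2 lc_d_rc_15_1 lc_d_rc_16_2 lc_d_rc_8_3 lc_d_rc_22_2 lc_d_rc_16_2 lc_d_rc_22_2 lc_d_rc_8_1 lc_d_rc_15_1 lc_d_rc_16_4 lc_d_rc_25_2 lc_d_rc_15_1 lc_d_rc_3_3 lc_d_rc_8_3 lc_d_rc_23_6 lc_d_rc_23_6 lc_d_rc_15_1 lc_d_rc_15_1 lc_d_rc_17_2 lc_d_rc_27_4 lc_d_rc_16_4 lc_d_rc_15_1 lc_d_rc_15_1 lc_d_rc_27_4 lc_d_rc_3_1 lc_d_rc_16_4 lc_d_rc_17_2 lc_d_Cert_tree lc_d_rc_3_1 lc_d_Cert_tree lc_d_rc_15_1 lc_d_rc_25_14 lc_d_rc_17_2 lc_d_rc_8_1 lc_d_rc_15_1 lc_d_rc_22_2 lc_d_rc_16_0 lc_d_rc_23_8 lc_d_rc_15_1 lc_d_rc_15_1 lc_d_rc_16_2 lc_d_rc_8_1)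 (@D3.rec (fun _ => (Cert rels S Gen.d)) lc_d_rc_15_1 lc_d_rc_23_8 lc_d_rc_27_4 lc_d_rc_3_3 lc_d_rc_15_1 lc_d_rc_16_2 lc_d_rc_12_1 lc_d_rc_23_4 lc_d_rc_8_1 lc_d_rc_15_1 lc_d_rc_15_1 lc_d_rc_22_4 lc_d_rc_22_2 lc_d_rc_17_2 lc_d_rc_22_4 lc_d_rc_8_3 lc_d_rc_22_6 lc_d_rc_16_4 lc_d_rc_3_3 lc_d_rc_16_4 lc_d_rc_15_1 lc_d_rc_27_8 lc_d_rc_16_0 lc_d_rc_23_2 lc_d_rc_16_2 lc_d_rc_15_1 lc_d_rc_22_2 lc_d_Cert_tree lc_d_rc_8_3 lc_d_rc_8_3 lc_d_rc_16_4 lc_d_rc_8_1 lc_d_rc_8_3 lc_d_rc_17_2 lc_d_rc_22_2 lc_d_rc_27_4 lc_d_rc_22_8 lc_d_rc_8_3 lc_d_rc_8_1 lc_d_rc_3_1 lc_d_rc_23_4 lc_d_rc_23_4 lc_d_rc_8_3 lc_d_rc_15_1 lc_d_rc_15_1 lc_d_rc_15_1 lc_d_rc_22_8 lc_d_rc_17_2 lc_d_rc_3_3 lc_d_rc_8_1 lc_d_rc_27_4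 lc_d_rc_15_1 lc_d_rc_15_1 lc_d_rc_15_1 lc_d_rc_15_1 lc_d_rc_17_2 lc_d_rc_16_4 lc_d_rc_23_2 lc_d_rc_15_1 lc_d_rc_15_1 lc_d_rc_15_1 lc_d_rc_8_1) (@D3.rec (fun _ => (Cert rels S Gen.d)) lc_d_rc_15_1 lc_d_rc_8_3 lc_d_rc_22_8 lc_d_rc_3_3 lc_d_rc_15_1 lc_d_rc_3_3 lc_d_rc_16_4 lc_d_rc_15_1 lc_d_rc_15_1 lc_d_rc_23_4 lc_d_rc_22_6 lc_d_rc_24_5 lc_d_rc_16_4 lc_d_rc_16_0 lc_d_rc_16_4 lc_d_rc_3_3 lc_d_rc_16_4 lc_d_Cert_tree lc_d_rc_16_2 lc_d_rc_27_4 lc_d_rc_15_1 lc_d_rc_15_1 lc_d_rc_15_1 lc_d_rc_15_1 lc_d_rc_17_2 lc_d_rc_8_3 lc_d_rc_23_2 lc_d_rc_17_2 lc_d_rc_16_2 lc_d_rc_16_2 lc_d_rc_16_4 lc_d_rc_16_2 lc_d_rc_24_0 lc_d_rc_23_4 lc_d_rc_15_1 lc_d_rc_15_1 lc_d_rc_24_5 lc_d_rc_16_2 lc_d_rc_15_1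 lc_d_rc_8_3 lc_d_rc_8_3 lc_d_rc_16_2 lc_d_rc_3_3 lc_d_rc_16_2 lc_d_rc_23_8 lc_d_rc_15_1 lc_d_rc_27_10 lc_d_rc_15_1 lc_d_rc_16_2 lc_d_rc_16_4 lc_d_rc_15_1 lc_d_rc_16_2 lc_d_rc_3_3 lc_d_rc_27_2 lc_d_rc_15_1 lc_d_rc_8_3 lc_d_rc_27_4 lc_d_rc_16_2 lc_d_rc_23_2 lc_d_rc_23_6 lc_d_rc_27_4 lc_d_rc_27_4) (@D3.rec (fun _ => (Cert rels S Gen.d)) lc_d_rc_12_13 lc_d_rc_15_1 lc_d_rc_15_1 lc_d_rc_16_4 lc_d_rc_22_4 lc_d_rc_22_4 lc_d_rc_15_1 lc_d_rc_15_1 lc_d_rc_23_2 lc_d_rc_15_1 lc_d_rc_8_3 lc_d_rc_27_2 lc_d_rc_15_1 lc_d_rc_15_1 lc_d_rc_27_2 lc_d_rc_27_2 lc_d_rc_15_1 lc_d_rc_8_3 lc_d_rc_27_4 lc_d_rc_27_4 lc_d_rc_15_1 lc_d_rc_27_4 lc_d_rc_15_1 lc_d_rc_23_6 lc_d_rc_17_2 lc_d_rc_3_3 lc_d_rc_15_1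 lc_d_rc_27_4 lc_d_rc_15_1 lc_d_rc_24_5 lc_d_rc_24_0 lc_d_rc_17_2 lc_d_rc_16_4 lc_d_rc_15_1 lc_d_rc_15_1 lc_d_rc_15_1 lc_d_rc_15_1 lc_d_rc_24_0 lc_d_rc_15_1 lc_d_rc_17_0 lc_d_rc_15_1 lc_d_rc_15_1 lc_d_rc_16_2 lc_d_rc_22_4 lc_d_rc_16_2 lc_d_rc_22_4 lc_d_rc_15_1 lc_d_rc_15_1 lc_d_rc_24_5 lc_d_rc_12_1 lc_d_rc_27_4 lc_d_rc_27_10 lc_d_rc_23_8 lc_d_rc_8_3 lc_d_rc_16_2 lc_d_rc_3_1 lc_d_rc_16_4 lc_d_rc_17_0 lc_d_rc_17_0 lc_d_rc_16_2 lc_d_rc_17_2 lc_d_rc_3_3) (@D3.rec (fun _ => (Cert rels S Gen.d)) lc_d_rc_15_1 lc_d_rc_17_2 lc_d_rc_17_2 lc_d_rc_8_3 lc_d_rc_16_4 lc_d_rc_16_4 lc_d_rc_15_1 lc_d_rc_16_0 lc_d_rc_27_10 lc_d_rc_22_4 lc_d_rc_25_18 lc_d_rc_16_4 lc_d_rc_3_3 lc_d_rc_27_4 lc_d_rc_16_2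 lc_d_rc_15_1 lc_d_rc_3_3 lc_d_rc_17_2 lc_d_rc_8_3 lc_d_rc_22_4 lc_d_rc_15_1 lc_d_rc_22_4 lc_d_rc_15_1 lc_d_rc_27_2 lc_d_rc_23_6 lc_d_rc_17_2 lc_d_rc_23_2 lc_d_rc_3_3 lc_d_rc_27_2 lc_d_rc_23_4 lc_d_rc_22_6 lc_d_rc_8_1 lc_d_rc_15_1 lc_d_rc_3_3 lc_d_rc_16_4 lc_d_rc_17_2 lc_d_rc_8_1 lc_d_rc_16_0 lc_d_rc_8_1 lc_d_rc_15_1 lc_d_rc_8_3 lc_d_rc_12_1 lc_d_rc_23_6 lc_d_rc_8_3 lc_d_rc_16_4 lc_d_rc_27_10 lc_d_rc_24_5 lc_d_rc_17_2 lc_d_rc_15_1 lc_d_rc_22_2 lc_d_rc_15_1 lc_d_rc_15_1 lc_d_rc_15_1 lc_d_rc_3_3 lc_d_rc_27_10 lc_d_rc_8_3 lc_d_rc_15_1 lc_d_rc_15_1 lc_d_rc_15_1 lc_d_rc_15_1 lc_d_rc_17_2 lc_d_rc_24_5) (@D3.rec (fun _ => (Cert rels S Gen.d)) lc_d_rc_15_1 lc_d_rc_8_3 lc_d_rc_22_8 lc_d_rc_15_1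 lc_d_rc_27_2 lc_d_rc_15_1 lc_d_rc_8_3 lc_d_rc_15_1 lc_d_rc_25_2 lc_d_rc_24_5 lc_d_rc_17_2 lc_d_rc_24_0 lc_d_rc_15_1 lc_d_rc_22_4 lc_d_rc_16_4 lc_d_rc_15_1 lc_d_rc_15_1 lc_d_rc_8_3 lc_d_rc_24_0 lc_d_rc_8_3 lc_d_rc_8_3 lc_d_rc_27_8 lc_d_rc_16_4 lc_d_rc_27_4 lc_d_rc_15_1 lc_d_rc_17_2 lc_d_rc_16_4 lc_d_rc_8_3 lc_d_rc_15_1 lc_d_rc_17_2 lc_d_rc_8_3 lc_d_rc_17_0 lc_d_rc_27_4 lc_d_rc_27_8 lc_d_rc_8_3 lc_d_rc_22_4 lc_d_rc_15_1 lc_d_rc_8_3 lc_d_rc_23_2 lc_d_rc_23_2 lc_d_rc_24_5 lc_d_rc_27_8 lc_d_rc_16_0 lc_d_rc_15_1 lc_d_rc_23_8 lc_d_rc_17_0 lc_d_rc_16_2 lc_d_rc_8_1 lc_d_rc_23_4 lc_d_rc_8_1 lc_d_rc_23_6 lc_d_rc_17_2 lc_d_rc_16_4 lc_d_rc_15_1 lc_d_rc_17_2 lc_d_rc_15_1 lc_d_rc_8_3 lc_d_rc_8_1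 lc_d_rc_15_1 lc_d_rc_16_0 lc_d_rc_27_4 lc_d_rc_15_1) (@D3.rec (fun _ => (Cert rels S Gen.d)) lc_d_rc_22_2 lc_d_rc_17_2 lc_d_rc_22_2 lc_d_rc_16_2 lc_d_rc_8_1 lc_d_rc_15_1 lc_d_rc_27_8 lc_d_rc_27_2 lc_d_rc_15_1 lc_d_rc_15_1 lc_d_rc_22_2 lc_d_rc_16_4 lc_d_rc_8_3 lc_d_rc_24_5 lc_d_rc_16_4 lc_d_rc_17_2 lc_d_Cert_tree lc_d_rc_8_3 lc_d_rc_8_3 lc_d_rc_15_1 lc_d_rc_15_1 lc_d_rc_22_8 lc_d_rc_16_4 lc_d_rc_16_2 lc_d_rc_16_2 lc_d_rc_16_2 lc_d_rc_27_4 lc_d_Cert_tree lc_d_rc_25_6 lc_d_rc_16_0 lc_d_rc_24_0 lc_d_rc_16_2 lc_d_rc_22_4 lc_d_rc_15_1 lc_d_rc_15_1 lc_d_rc_8_1 lc_d_rc_15_1 lc_d_rc_15_1 lc_d_rc_15_1 lc_d_rc_17_2 lc_d_rc_3_3 lc_d_rc_15_1 lc_d_rc_16_0 lc_d_rc_8_3 lc_d_rc_3_3 lc_d_rc_16_2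 lc_d_rc_8_3 lc_d_rc_16_4 lc_d_Cert_tree lc_d_rc_15_1 lc_d_Cert_tree lc_d_rc_27_10 lc_d_rc_15_1 lc_d_rc_15_1 lc_d_rc_16_4 lc_d_rc_23_2 lc_d_rc_3_1 lc_d_rc_23_2 lc_d_rc_24_0 lc_d_rc_23_8 lc_d_rc_8_3 lc_d_rc_3_1) (@D3.rec (fun _ => (Cert rels S Gen.d)) lc_d_rc_8_1 lc_d_rc_8_1 lc_d_rc_8_1 lc_d_rc_15_1 lc_d_rc_16_4 lc_d_rc_12_15 lc_d_rc_8_1 lc_d_rc_12_15 lc_d_rc_15_1 lc_d_rc_15_1 lc_d_rc_22_2 lc_d_rc_16_4 lc_d_rc_23_8 lc_d_rc_23_2 lc_d_rc_27_10 lc_d_rc_15_1 lc_d_rc_17_2 lc_d_rc_8_1 lc_d_rc_15_1 lc_d_rc_8_1 lc_d_rc_15_1 lc_d_rc_15_1 lc_d_rc_15_1 lc_d_rc_23_2 lc_d_rc_16_4 lc_d_rc_16_4 lc_d_rc_15_1 lc_d_rc_16_0 lc_d_rc_16_4 lc_d_rc_8_3 lc_d_rc_17_2 lc_d_rc_15_1 lc_d_rc_8_3 lc_d_rc_16_4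 lc_d_rc_15_1 lc_d_rc_3_1 lc_d_rc_3_3 lc_d_rc_17_2 lc_d_rc_8_3 lc_d_rc_15_1 lc_d_rc_16_2 lc_d_rc_24_5 lc_d_rc_8_1 lc_d_rc_23_6 lc_d_rc_16_2 lc_d_rc_8_3 lc_d_rc_24_5 lc_d_rc_23_4 lc_d_rc_23_8 lc_d_rc_3_3 lc_d_rc_15_1 lc_d_rc_16_4 lc_d_rc_15_1 lc_d_rc_22_4 lc_d_rc_15_1 lc_d_rc_27_2 lc_d_rc_24_0 lc_d_rc_15_1 lc_d_rc_8_3 lc_d_rc_3_3 lc_d_rc_3_3 lc_d_rc_23_2) (@D3.rec (fun _ => (Cert rels S Gen.d)) lc_d_rc_3_1 lc_d_rc_24_0 lc_d_rc_8_1 lc_d_rc_15_1 lc_d_rc_27_10 lc_d_rc_27_10 lc_d_rc_15_1 lc_d_rc_17_2 lc_d_rc_23_8 lc_d_rc_3_3 lc_d_rc_16_2 lc_d_rc_3_3 lc_d_rc_8_1 lc_d_rc_22_6 lc_d_rc_27_10 lc_d_rc_27_8 lc_d_rc_22_4 lc_d_rc_8_3 lc_d_rc_17_0 lc_d_rc_15_1 lc_d_rc_15_1 lc_d_rc_3_3 lc_d_Cert_tree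 lc_d_rc_15_1 lc_d_rc_3_3 lc_d_rc_22_6 lc_d_rc_27_4 lc_d_rc_15_1 lc_d_rc_15_1 lc_d_rc_27_10 lc_d_rc_27_2 lc_d_rc_8_1 lc_d_rc_8_3 lc_d_rc_16_4 lc_d_rc_15_1 lc_d_rc_27_8 lc_d_rc_17_2 lc_d_rc_12_13 lc_d_rc_23_2 lc_d_rc_15_1 lc_d_rc_15_1 lc_d_rc_27_8 lc_d_rc_27_8 lc_d_rc_15_1 lc_d_rc_16_2 lc_d_rc_15_1 lc_d_rc_17_0 lc_d_rc_24_0 lc_d_rc_23_4 lc_d_rc_15_1 lc_d_rc_22_6 lc_d_rc_24_5 lc_d_rc_8_3 lc_d_rc_25_2 lc_d_rc_3_3 lc_d_rc_22_6 lc_d_rc_17_2 lc_d_rc_8_1 lc_d_rc_17_2 lc_d_rc_15_1 lc_d_rc_23_4 lc_d_rc_15_1) (@D3.rec (fun _ => (Cert rels S Gen.d)) lc_d_rc_22_8 lc_d_rc_16_2 lc_d_rc_24_0 lc_d_rc_15_1 lc_d_rc_12_3 lc_d_rc_22_2 lc_d_rc_15_1 lc_d_rc_8_3 lc_d_rc_12_15 lc_d_rc_22_2 lc_d_Cert_tree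 lc_d_rc_16_2 lc_d_rc_8_3 lc_d_rc_27_2 lc_d_rc_27_10 lc_d_rc_17_2 lc_d_rc_8_3 lc_d_rc_15_1 lc_d_rc_23_4 lc_d_rc_16_0 lc_d_rc_12_3 lc_d_Cert_tree lc_d_rc_8_3 lc_d_rc_15_1 lc_d_rc_23_8 lc_d_rc_15_1 lc_d_rc_24_5 lc_d_rc_22_4 lc_d_rc_15_1 lc_d_rc_24_5 lc_d_rc_15_1 lc_d_rc_15_1 lc_d_rc_16_2 lc_d_rc_24_0 lc_d_rc_23_8 lc_d_rc_27_4 lc_d_rc_8_3 lc_d_rc_15_1 lc_d_rc_22_4 lc_d_rc_17_0 lc_d_rc_15_1 lc_d_rc_8_1 lc_d_rc_8_1 lc_d_rc_27_8 lc_d_rc_8_3 lc_d_rc_16_4 lc_d_rc_15_1 lc_d_rc_8_1 lc_d_rc_15_1 lc_d_rc_8_3 lc_d_rc_15_1 lc_d_rc_27_4 lc_d_rc_17_2 lc_d_rc_8_1 lc_d_rc_15_1 lc_d_rc_8_3 lc_d_rc_17_2 lc_d_rc_15_1 lc_d_rc_22_8 lc_d_rc_16_2 lc_d_rc_15_1 lc_d_rc_22_6) (@D3.rec (fun _ => (Cert rels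 S Gen.d)) lc_d_Cert_tree lc_d_rc_17_2 lc_d_rc_27_4 lc_d_rc_15_1 lc_d_rc_15_1 lc_d_rc_23_6 lc_d_rc_17_2 lc_d_rc_8_3 lc_d_rc_8_3 lc_d_rc_8_3 lc_d_rc_8_1 lc_d_rc_27_10 lc_d_rc_15_1 lc_d_rc_27_4 lc_d_rc_27_2 lc_d_rc_15_1 lc_d_rc_12_1 lc_d_rc_15_1 lc_d_rc_15_1 lc_d_rc_15_1 lc_d_rc_15_1 lc_d_rc_16_4 lc_d_rc_12_15 lc_d_rc_8_3 lc_d_rc_27_2 lc_d_rc_15_1 lc_d_rc_22_4 lc_d_rc_15_1 lc_d_rc_22_2 lc_d_rc_23_6 lc_d_rc_15_1 lc_d_rc_24_5 lc_d_rc_15_1 lc_d_rc_27_2 lc_d_rc_23_6 lc_d_rc_23_4 lc_d_rc_17_2 lc_d_rc_8_1 lc_d_rc_15_1 lc_d_rc_8_3 lc_d_rc_8_3 lc_d_rc_23_2 lc_d_rc_22_4 lc_d_rc_15_1 lc_d_rc_8_1 lc_d_rc_15_1 lc_d_rc_8_1 lc_d_rc_15_1 lc_d_rc_27_8 lc_d_rc_27_4 lc_d_rc_25_18 lc_d_rc_17_2 lc_d_rc_8_3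 lc_d_rc_24_5 lc_d_rc_22_6 lc_d_rc_16_2 lc_d_rc_27_2 lc_d_rc_3_3 lc_d_rc_24_0 lc_d_rc_15_1 lc_d_rc_27_2 lc_d_rc_8_3) (@D3.rec (fun _ => (Cert rels S Gen.d)) lc_d_rc_15_1 lc_d_rc_27_4 lc_d_rc_15_1 lc_d_rc_15_1 lc_d_rc_16_4 lc_d_rc_17_2 lc_d_rc_22_2 lc_d_rc_8_1 lc_d_rc_16_0 lc_d_rc_15_1 lc_d_rc_8_3 lc_d_rc_27_8 lc_d_rc_15_1 lc_d_Cert_tree lc_d_rc_16_0 lc_d_rc_16_0 lc_d_rc_15_1 lc_d_rc_17_2 lc_d_rc_15_1 lc_d_rc_15_1 lc_d_rc_15_1 lc_d_rc_27_4 lc_d_rc_27_2 lc_d_rc_16_0 lc_d_rc_15_1 lc_d_rc_27_4 lc_d_rc_23_4 lc_d_rc_15_1 lc_d_rc_27_4 lc_d_rc_15_1 lc_d_rc_15_1 lc_d_rc_22_8 lc_d_rc_3_1 lc_d_rc_15_1 lc_d_rc_15_1 lc_d_rc_23_8 lc_d_rc_15_1 lc_d_rc_15_1 lc_d_rc_3_1 lc_d_rc_16_0 lc_d_rc_23_2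 lc_d_rc_15_1 lc_d_rc_16_0 lc_d_rc_15_1 lc_d_rc_16_4 lc_d_rc_22_2 lc_d_rc_22_8 lc_d_rc_3_1 lc_d_rc_3_1 lc_d_rc_15_1 lc_d_rc_27_4 lc_d_rc_8_1 lc_d_rc_15_1 lc_d_rc_17_0 lc_d_rc_15_1 lc_d_rc_17_2 lc_d_rc_24_0 lc_d_rc_8_3 lc_d_rc_8_3 lc_d_rc_22_8 lc_d_rc_23_2 lc_d_rc_15_1) (@D3.rec (fun _ => (Cert rels S Gen.d)) lc_d_rc_15_1 lc_d_rc_15_1 lc_d_rc_16_2 lc_d_rc_17_0 lc_d_rc_16_2 lc_d_rc_16_0 lc_d_rc_3_1 lc_d_rc_17_2 lc_d_rc_24_5 lc_d_rc_8_3 lc_d_rc_27_4 lc_d_rc_15_1 lc_d_rc_8_3 lc_d_rc_15_1 lc_d_rc_8_1 lc_d_rc_16_2 lc_d_rc_16_0 lc_d_rc_17_2 lc_d_rc_15_1 lc_d_rc_8_1 lc_d_rc_16_4 lc_d_rc_15_1 lc_d_rc_27_4 lc_d_rc_24_5 lc_d_rc_16_2 lc_d_rc_16_0 lc_d_rc_15_1 lc_d_rc_23_2 lc_d_rc_23_6 lc_d_rc_15_1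 lc_d_rc_15_1 lc_d_rc_22_2 lc_d_rc_17_2 lc_d_rc_15_1 lc_d_rc_8_3 lc_d_rc_15_1 lc_d_Cert_tree lc_d_rc_15_1 lc_d_rc_8_1 lc_d_rc_22_2 lc_d_rc_15_1 lc_d_rc_22_2 lc_d_rc_23_6 lc_d_rc_22_2 lc_d_rc_22_6 lc_d_rc_8_1 lc_d_rc_15_1 lc_d_rc_15_1 lc_d_rc_24_0 lc_d_rc_3_1 lc_d_rc_24_5 lc_d_rc_23_8 lc_d_rc_27_2 lc_d_rc_15_1 lc_d_rc_15_1 lc_d_rc_25_18 lc_d_rc_17_2 lc_d_rc_8_1 lc_d_rc_16_0 lc_d_rc_3_3 lc_d_rc_15_1 lc_d_rc_15_1) (@D3.rec (fun _ => (Cert rels S Gen.d)) lc_d_rc_3_3 lc_d_rc_22_8 lc_d_rc_15_1 lc_d_rc_23_2 lc_d_rc_27_10 lc_d_rc_12_1 lc_d_rc_23_4 lc_d_rc_15_1 lc_d_rc_15_1 lc_d_rc_22_2 lc_d_rc_15_1 lc_d_Cert_tree lc_d_rc_16_4 lc_d_rc_15_1 lc_d_rc_16_4 lc_d_rc_8_3 lc_d_rc_15_1 lc_d_rc_8_3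 lc_d_rc_27_10 lc_d_rc_15_1 lc_d_rc_17_2 lc_d_rc_15_1 lc_d_rc_15_1 lc_d_rc_23_6 lc_d_rc_15_1 lc_d_rc_27_10 lc_d_rc_15_1 lc_d_rc_16_2 lc_d_rc_22_6 lc_d_rc_27_10 lc_d_rc_15_1 lc_d_rc_27_4 lc_d_rc_22_6 lc_d_rc_27_4 lc_d_rc_27_2 lc_d_rc_27_8 lc_d_rc_16_2 lc_d_rc_8_3 lc_d_rc_16_0 lc_d_rc_25_2 lc_d_rc_27_8 lc_d_rc_3_3 lc_d_rc_3_3 lc_d_rc_16_2 lc_d_rc_27_2 lc_d_rc_15_1 lc_d_rc_8_1 lc_d_rc_15_1 lc_d_rc_27_4 lc_d_rc_27_8 lc_d_rc_15_1 lc_d_rc_15_1 lc_d_rc_22_4 lc_d_rc_27_2 lc_d_rc_16_4 lc_d_rc_24_0 lc_d_Cert_tree lc_d_rc_16_4 lc_d_rc_16_0 lc_d_rc_15_1 lc_d_rc_15_1 lc_d_rc_15_1) (@D3.rec (fun _ => (Cert rels S Gen.d)) lc_d_Cert_tree lc_d_rc_15_1 lc_d_rc_16_0 lc_d_rc_15_1 lc_d_rc_15_1 lc_d_rc_15_1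 lc_d_rc_16_4 lc_d_rc_23_4 lc_d_rc_24_5 lc_d_rc_27_4 lc_d_rc_24_5 lc_d_rc_22_2 lc_d_rc_8_3 lc_d_rc_15_1 lc_d_rc_15_1 lc_d_rc_3_3 lc_d_rc_15_1 lc_d_rc_17_2 lc_d_rc_3_3 lc_d_rc_16_0 lc_d_rc_22_8 lc_d_rc_22_2 lc_d_rc_27_4 lc_d_rc_15_1 lc_d_rc_25_2 lc_d_rc_27_10 lc_d_rc_15_1 lc_d_rc_3_1 lc_d_rc_15_1 lc_d_rc_27_8 lc_d_rc_8_3 lc_d_rc_24_0 lc_d_rc_3_3 lc_d_rc_27_10 lc_d_rc_15_1 lc_d_rc_16_0 lc_d_rc_15_1 lc_d_rc_22_2 lc_d_rc_16_4 lc_d_rc_16_4 lc_d_rc_15_1 lc_d_rc_8_3 lc_d_Cert_tree lc_d_Cert_tree lc_d_rc_17_2 lc_d_rc_15_1 lc_d_rc_15_1 lc_d_rc_15_1 lc_d_rc_17_2 lc_d_rc_15_1 lc_d_rc_22_2 lc_d_rc_8_1 lc_d_rc_15_1 lc_d_rc_16_2 lc_d_rc_15_1 lc_d_rc_15_1 lc_d_rc_27_4 lc_d_rc_15_1 lc_d_rc_15_1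 lc_d_rc_22_2 lc_d_rc_22_6 lc_d_rc_16_2) (@D3.rec (fun _ => (Cert rels S Gen.d)) lc_d_rc_17_2 lc_d_rc_15_1 lc_d_rc_15_1 lc_d_rc_15_1 lc_d_rc_24_0 lc_d_rc_15_1 lc_d_rc_25_2 lc_d_rc_15_1 lc_d_rc_23_2 lc_d_rc_15_1 lc_d_rc_15_1 lc_d_rc_16_2 lc_d_rc_15_1 lc_d_rc_22_6 lc_d_rc_15_1 lc_d_rc_27_4 lc_d_rc_24_0 lc_d_rc_15_1 lc_d_rc_27_2 lc_d_rc_24_0 lc_d_rc_16_2 lc_d_rc_24_0 lc_d_rc_15_1 lc_d_rc_27_8 lc_d_rc_15_1 lc_d_rc_23_2 lc_d_rc_17_0 lc_d_rc_16_4 lc_d_rc_16_2 lc_d_rc_15_1 lc_d_rc_15_1 lc_d_rc_24_5 lc_d_rc_23_8 lc_d_rc_17_2 lc_d_rc_17_2 lc_d_rc_8_1 lc_d_rc_15_1 lc_d_rc_15_1 lc_d_rc_12_15 lc_d_rc_27_8 lc_d_Cert_tree lc_d_rc_15_1 lc_d_rc_15_1 lc_d_rc_23_2 lc_d_rc_22_2 lc_d_rc_17_0 lc_d_rc_8_1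 lc_d_rc_15_1 lc_d_rc_16_0 lc_d_rc_8_3 lc_d_rc_15_1 lc_d_rc_23_6 lc_d_rc_15_1 lc_d_rc_16_0 lc_d_rc_8_3 lc_d_Cert_tree lc_d_rc_15_1 lc_d_rc_27_8 lc_d_rc_22_8 lc_d_rc_8_1 lc_d_rc_8_3 lc_d_rc_16_2) (@D3.rec (fun _ => (Cert rels S Gen.d)) lc_d_rc_22_6 lc_d_rc_8_1 lc_d_rc_15_1 lc_d_rc_22_4 lc_d_rc_24_0 lc_d_rc_15_1 lc_d_rc_15_1 lc_d_rc_16_4 lc_d_rc_15_1 lc_d_rc_16_0 lc_d_rc_16_4 lc_d_rc_15_1 lc_d_rc_17_2 lc_d_rc_12_1 lc_d_rc_15_1 lc_d_rc_15_1 lc_d_rc_17_2 lc_d_rc_23_2 lc_d_rc_22_2 lc_d_rc_15_1 lc_d_rc_16_4 lc_d_rc_15_1 lc_d_rc_23_2 lc_d_rc_15_1 lc_d_rc_17_2 lc_d_rc_15_1 lc_d_rc_25_2 lc_d_rc_15_1 lc_d_rc_8_1 lc_d_Cert_tree lc_d_rc_15_1 lc_d_rc_15_1 lc_d_rc_16_4 lc_d_rc_17_2 lc_d_rc_8_3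 lc_d_rc_17_2 lc_d_rc_15_1 lc_d_rc_8_3 lc_d_rc_15_1 lc_d_rc_15_1 lc_d_rc_24_0 lc_d_rc_15_1 lc_d_rc_8_1 lc_d_rc_8_1 lc_d_rc_15_1 lc_d_rc_24_5 lc_d_rc_16_4 lc_d_rc_24_5 lc_d_rc_15_1 lc_d_rc_12_15 lc_d_rc_15_1 lc_d_rc_27_4 lc_d_rc_23_4 lc_d_rc_22_8 lc_d_rc_25_18 lc_d_rc_3_3 lc_d_rc_23_4 lc_d_rc_16_4 lc_d_rc_27_4 lc_d_rc_27_2 lc_d_rc_22_2 lc_d_rc_27_2) (@D3.rec (fun _ => (Cert rels S Gen.d)) lc_d_rc_23_2 lc_d_rc_24_0 lc_d_rc_15_1 lc_d_rc_15_1 lc_d_rc_15_1 lc_d_rc_8_1 lc_d_rc_27_2 lc_d_rc_23_4 lc_d_rc_23_2 lc_d_rc_8_3 lc_d_rc_15_1 lc_d_rc_23_8 lc_d_rc_23_4 lc_d_rc_27_10 lc_d_rc_15_1 lc_d_rc_8_3 lc_d_rc_15_1 lc_d_rc_16_0 lc_d_rc_27_4 lc_d_rc_24_0 lc_d_Cert_tree lc_d_rc_15_1 lc_d_rc_3_3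 lc_d_rc_24_0 lc_d_rc_27_4 lc_d_rc_8_3 lc_d_rc_15_1 lc_d_rc_15_1 lc_d_rc_8_1 lc_d_rc_15_1 lc_d_rc_16_4 lc_d_rc_15_1 lc_d_rc_25_2 lc_d_rc_16_4 lc_d_rc_24_5 lc_d_rc_8_3 lc_d_rc_22_8 lc_d_rc_15_1 lc_d_rc_8_1 lc_d_rc_15_1 lc_d_rc_15_1 lc_d_rc_15_1 lc_d_rc_24_0 lc_d_rc_15_1 lc_d_rc_15_1 lc_d_rc_24_5 lc_d_rc_15_1 lc_d_rc_25_2 lc_d_rc_15_1 lc_d_rc_15_1 lc_d_rc_15_1 lc_d_rc_15_1 lc_d_rc_8_1 lc_d_rc_27_2 lc_d_rc_27_10 lc_d_rc_3_3 lc_d_rc_8_3 lc_d_rc_15_1 lc_d_rc_24_0 lc_d_rc_16_2 lc_d_rc_27_2 lc_d_rc_15_1) (@D3.rec (fun _ => (Cert rels S Gen.d)) lc_d_rc_24_5 lc_d_rc_17_2 lc_d_rc_15_1 lc_d_rc_15_1 lc_d_rc_23_2 lc_d_rc_15_1 lc_d_rc_8_1 lc_d_rc_15_1 lc_d_rc_15_1 lc_d_rc_15_1 lc_d_rc_15_1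 lc_d_rc_23_8 lc_d_rc_8_1 lc_d_rc_15_1 lc_d_rc_15_1 lc_d_rc_22_2 lc_d_rc_8_3 lc_d_rc_17_2 lc_d_rc_15_1 lc_d_rc_15_1 lc_d_rc_15_1 lc_d_rc_15_1 lc_d_rc_27_2 lc_d_Cert_tree lc_d_Cert_tree lc_d_rc_25_2 lc_d_Cert_tree lc_d_rc_8_3 lc_d_rc_15_1 lc_d_rc_24_5 lc_d_rc_15_1 lc_d_rc_15_1 lc_d_rc_23_4 lc_d_rc_23_4 lc_d_rc_17_2 lc_d_rc_15_1 lc_d_rc_15_1 lc_d_rc_15_1 lc_d_rc_27_2 lc_d_rc_17_2 lc_d_rc_22_4 lc_d_rc_15_1 lc_d_rc_23_4 lc_d_rc_15_1 lc_d_rc_16_4 lc_d_rc_16_4 lc_d_rc_15_1 lc_d_rc_12_15 lc_d_rc_23_6 lc_d_rc_16_0 lc_d_rc_17_2 lc_d_rc_27_8 lc_d_rc_15_1 lc_d_rc_22_8 lc_d_rc_17_2 lc_d_rc_23_2 lc_d_rc_3_3 lc_d_rc_27_4 lc_d_rc_16_4 lc_d_rc_15_1 lc_d_rc_17_0 lc_d_rc_17_2) (@D3.rec (fun _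 => (Cert rels S Gen.d)) lc_d_rc_8_3 lc_d_rc_27_2 lc_d_rc_22_4 lc_d_rc_15_1 lc_d_rc_15_1 lc_d_rc_15_1 lc_d_rc_15_1 lc_d_rc_23_4 lc_d_rc_15_1 lc_d_rc_24_0 lc_d_rc_15_1 lc_d_rc_23_2 lc_d_rc_8_3 lc_d_rc_15_1 lc_d_rc_8_3 lc_d_rc_12_3 lc_d_rc_12_15 lc_d_rc_17_2 lc_d_rc_23_2 lc_d_rc_15_1 lc_d_rc_17_2 lc_d_rc_22_2 lc_d_rc_27_2 lc_d_rc_16_2 lc_d_rc_16_4 lc_d_rc_24_0 lc_d_rc_24_0 lc_d_rc_16_4 lc_d_rc_15_1 lc_d_rc_16_2 lc_d_rc_15_1 lc_d_rc_15_1 lc_d_rc_3_3 lc_d_rc_24_0 lc_d_rc_16_2 lc_d_rc_27_2 lc_d_rc_27_10 lc_d_rc_3_3 lc_d_rc_15_1 lc_d_rc_16_0 lc_d_rc_15_1 lc_d_rc_22_2 lc_d_rc_27_10 lc_d_rc_17_2 lc_d_rc_15_1 lc_d_rc_15_1 lc_d_rc_8_3 lc_d_rc_15_1 lc_d_rc_27_4 lc_d_rc_24_5 lc_d_rc_27_2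 lc_d_rc_22_6 lc_d_rc_16_2 lc_d_rc_22_4 lc_d_rc_16_4 lc_d_rc_23_8 lc_d_rc_25_10 lc_d_rc_27_10 lc_d_rc_15_1 lc_d_rc_23_4 lc_d_rc_15_1 lc_d_rc_15_1) (@D3.rec (fun _ => (Cert rels S Gen.d)) lc_d_rc_15_1 lc_d_rc_15_1 lc_d_rc_16_0 lc_d_rc_15_1 lc_d_rc_3_3 lc_d_rc_15_1 lc_d_rc_22_4 lc_d_rc_15_1 lc_d_rc_27_8 lc_d_rc_15_1 lc_d_rc_16_2 lc_d_rc_17_2 lc_d_rc_24_5 lc_d_rc_15_1 lc_d_rc_8_1 lc_d_rc_8_3 lc_d_rc_15_1 lc_d_rc_8_1 lc_d_rc_15_1 lc_d_rc_23_2 lc_d_rc_16_4 lc_d_rc_27_10 lc_d_rc_15_1 lc_d_rc_23_4 lc_d_rc_15_1 lc_d_rc_23_8 lc_d_rc_8_3 lc_d_rc_8_3 lc_d_rc_24_0 lc_d_rc_16_4 lc_d_rc_23_2 lc_d_rc_8_3 lc_d_rc_16_4 lc_d_rc_8_3 lc_d_rc_17_2 lc_d_rc_23_6 lc_d_rc_15_1 lc_d_rc_8_3 lc_d_rc_27_2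 lc_d_rc_23_8 lc_d_rc_25_2 lc_d_rc_8_1 lc_d_rc_8_1 lc_d_rc_3_3 lc_d_rc_3_1 lc_d_rc_8_1 lc_d_rc_3_1 lc_d_rc_8_3 lc_d_rc_23_2 lc_d_rc_8_3 lc_d_rc_27_2 lc_d_rc_15_1 lc_d_rc_22_4 lc_d_rc_8_1 lc_d_rc_15_1 lc_d_rc_22_2 lc_d_rc_8_3 lc_d_rc_16_4 lc_d_rc_15_1 lc_d_rc_8_3 lc_d_rc_27_8 lc_d_rc_15_1) (@D3.rec (fun _ => (Cert rels S Gen.d)) lc_d_rc_15_1 lc_d_rc_15_1 lc_d_rc_15_1 lc_d_rc_24_5 lc_d_rc_22_2 lc_d_rc_16_4 lc_d_rc_23_6 lc_d_rc_23_6 lc_d_rc_24_5 lc_d_rc_16_4 lc_d_rc_16_0 lc_d_rc_16_4 lc_d_rc_25_2 lc_d_rc_15_1 lc_d_rc_8_3 lc_d_rc_22_4 lc_d_rc_15_1 lc_d_rc_27_4 lc_d_rc_22_6 lc_d_rc_15_1 lc_d_rc_27_2 lc_d_rc_15_1 lc_d_rc_22_4 lc_d_rc_16_4 lc_d_rc_15_1 lc_d_rc_23_6 lc_d_rc_15_1 lc_d_rc_16_4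 lc_d_rc_3_3 lc_d_rc_15_1 lc_d_rc_15_1 lc_d_rc_15_1 lc_d_rc_16_4 lc_d_rc_3_1 lc_d_rc_27_4 lc_d_rc_15_1 lc_d_rc_15_1 lc_d_rc_8_3 lc_d_rc_15_1 lc_d_rc_15_1 lc_d_rc_15_1 lc_d_rc_3_1 lc_d_rc_15_1 lc_d_rc_17_2 lc_d_rc_16_4 lc_d_rc_24_5 lc_d_rc_15_1 lc_d_rc_15_1 lc_d_rc_23_2 lc_d_rc_16_2 lc_d_rc_8_3 lc_d_rc_15_1 lc_d_rc_8_3 lc_d_rc_12_15 lc_d_rc_15_1 lc_d_rc_22_6 lc_d_rc_17_2 lc_d_rc_23_4 lc_d_rc_15_1 lc_d_rc_15_1 lc_d_rc_22_6 lc_d_rc_27_2) (@D3.rec (fun _ => (Cert rels S Gen.d)) lc_d_rc_17_2 lc_d_rc_23_2 lc_d_rc_15_1 lc_d_rc_25_18 lc_d_rc_22_2 lc_d_rc_17_2 lc_d_rc_15_1 lc_d_rc_3_3 lc_d_rc_8_3 lc_d_rc_23_8 lc_d_rc_16_2 lc_d_rc_15_1 lc_d_rc_24_0 lc_d_rc_27_4 lc_d_rc_16_2 lc_d_rc_15_1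 lc_d_rc_8_1 lc_d_rc_8_1 lc_d_rc_15_1 lc_d_rc_27_2 lc_d_rc_23_4 lc_d_rc_12_3 lc_d_rc_24_0 lc_d_rc_15_1 lc_d_rc_23_2 lc_d_rc_12_15 lc_d_rc_23_2 lc_d_rc_23_8 lc_d_rc_15_1 lc_d_rc_8_3 lc_d_Cert_tree lc_d_rc_16_0 lc_d_rc_15_1 lc_d_rc_27_4 lc_d_rc_8_3 lc_d_rc_15_1 lc_d_rc_22_4 lc_d_rc_16_0 lc_d_rc_16_2 lc_d_rc_16_4 lc_d_rc_15_1 lc_d_rc_16_4 lc_d_rc_15_1 lc_d_rc_15_1 lc_d_rc_15_1 lc_d_rc_16_4 lc_d_rc_23_2 lc_d_rc_16_4 lc_d_rc_8_3 lc_d_rc_15_1 lc_d_rc_15_1 lc_d_rc_27_10 lc_d_rc_8_3 lc_d_rc_15_1 lc_d_rc_27_10 lc_d_rc_16_2 lc_d_rc_15_1 lc_d_rc_8_1 lc_d_rc_27_2 lc_d_rc_8_1 lc_d_rc_15_1 lc_d_rc_15_1) (@D3.rec (fun _ => (Cert rels S Gen.d)) lc_d_rc_16_4 lc_d_rc_3_1 lc_d_rc_8_3 lc_d_rc_15_1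 lc_d_rc_8_1 lc_d_rc_23_2 lc_d_rc_15_1 lc_d_rc_16_4 lc_d_rc_25_2 lc_d_rc_27_2 lc_d_rc_17_0 lc_d_rc_16_2 lc_d_rc_23_6 lc_d_rc_15_1 lc_d_rc_23_4 lc_d_rc_3_1 lc_d_rc_8_3 lc_d_rc_16_0 lc_d_rc_23_4 lc_d_rc_22_6 lc_d_rc_25_18 lc_d_rc_22_2 lc_d_rc_12_1 lc_d_rc_15_1 lc_d_rc_15_1 lc_d_rc_8_1 lc_d_rc_24_0 lc_d_rc_15_1 lc_d_rc_22_6 lc_d_rc_23_2 lc_d_rc_8_3 lc_d_rc_22_4 lc_d_rc_27_4 lc_d_rc_24_0 lc_d_rc_3_3 lc_d_rc_24_0 lc_d_rc_12_5 lc_d_rc_15_1 lc_d_rc_3_3 lc_d_rc_23_2 lc_d_rc_25_18 lc_d_rc_3_3 lc_d_rc_15_1 lc_d_rc_22_2 lc_d_rc_23_6 lc_d_rc_23_2 lc_d_rc_15_1 lc_d_rc_15_1 lc_d_rc_16_4 lc_d_rc_8_1 lc_d_rc_15_1 lc_d_rc_15_1 lc_d_rc_15_1 lc_d_rc_3_3 lc_d_rc_22_2 lc_d_rc_22_8 lc_d_rc_22_6 lc_d_rc_16_4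 lc_d_rc_25_10 lc_d_rc_8_3 lc_d_rc_22_2 lc_d_rc_16_4) (@D3.rec (fun _ => (Cert rels S Gen.d)) lc_d_rc_8_3 lc_d_rc_15_1 lc_d_rc_8_1 lc_d_rc_27_2 lc_d_rc_23_8 lc_d_rc_3_3 lc_d_rc_15_1 lc_d_rc_15_1 lc_d_rc_27_4 lc_d_rc_27_2 lc_d_rc_8_1 lc_d_rc_17_2 lc_d_rc_15_1 lc_d_rc_3_3 lc_d_rc_22_6 lc_d_rc_15_1 lc_d_rc_12_15 lc_d_rc_16_4 lc_d_rc_3_3 lc_d_rc_12_15 lc_d_rc_8_3 lc_d_rc_23_4 lc_d_rc_16_0 lc_d_rc_17_2 lc_d_rc_15_1 lc_d_rc_27_8 lc_d_rc_27_10 lc_d_rc_24_5 lc_d_rc_27_10 lc_d_rc_16_2 lc_d_rc_22_6 lc_d_rc_22_4 lc_d_rc_15_1 lc_d_rc_3_3 lc_d_rc_27_4 lc_d_rc_27_2 lc_d_rc_27_4 lc_d_rc_27_8 lc_d_rc_23_8 lc_d_rc_27_10 lc_d_rc_27_10 lc_d_rc_3_3 lc_d_rc_15_1 lc_d_rc_8_3 lc_d_rc_8_1 lc_d_rc_12_15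 lc_d_rc_23_2 lc_d_rc_16_2 lc_d_rc_16_4 lc_d_rc_15_1 lc_d_rc_8_3 lc_d_rc_24_5 lc_d_rc_23_4 lc_d_rc_24_0 lc_d_rc_15_1 lc_d_rc_8_3 lc_d_rc_8_3 lc_d_rc_15_1 lc_d_rc_16_0 lc_d_rc_3_3 lc_d_rc_27_2 lc_d_rc_24_0) (@D3.rec (fun _ => (Cert rels S Gen.d)) lc_d_rc_22_6 lc_d_rc_15_1 lc_d_rc_27_8 lc_d_rc_3_1 lc_d_rc_15_1 lc_d_rc_16_2 lc_d_rc_8_3 lc_d_rc_24_0 lc_d_rc_24_5 lc_d_rc_23_4 lc_d_rc_15_1 lc_d_rc_24_5 lc_d_rc_27_2 lc_d_rc_25_2 lc_d_rc_8_3 lc_d_rc_22_4 lc_d_rc_15_1 lc_d_rc_23_4 lc_d_rc_8_3 lc_d_rc_27_8 lc_d_rc_17_0 lc_d_rc_27_2 lc_d_rc_16_4 lc_d_rc_8_3 lc_d_rc_22_2 lc_d_rc_24_0 lc_d_rc_27_4 lc_d_rc_27_2 lc_d_rc_23_6 lc_d_rc_23_4 lc_d_rc_17_2 lc_d_rc_3_3 lc_d_rc_24_5 lc_d_rc_8_3 lc_d_rc_24_5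 lc_d_rc_12_5 lc_d_rc_8_3 lc_d_rc_8_3 lc_d_rc_24_0 lc_d_rc_27_4 lc_d_rc_15_1 lc_d_rc_22_4 lc_d_rc_27_4 lc_d_rc_15_1 lc_d_rc_27_8 lc_d_rc_15_1 lc_d_rc_27_4 lc_d_rc_17_0 lc_d_rc_15_1 lc_d_rc_22_8 lc_d_rc_15_1 lc_d_rc_27_2 lc_d_rc_27_4 lc_d_rc_24_5 lc_d_rc_15_1 lc_d_rc_23_6 lc_d_rc_22_2 lc_d_rc_23_4 lc_d_rc_3_1 lc_d_rc_24_0 lc_d_rc_15_1 lc_d_rc_24_5)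
def ce_d_31 : D2 → D3 → (Cert rels S Gen.d) := @D2.rec (fun _ => D3 → (Cert rels S Gen.d)) (@D3.rec (fun _ => (Cert rels S Gen.d)) lc_d_rc_22_6 lc_d_rc_27_10 lc_d_rc_8_3 lc_d_rc_8_3 lc_d_rc_22_2 lc_d_rc_24_5 lc_d_rc_8_3 lc_d_rc_16_2 lc_d_rc_22_8 lc_d_rc_27_2 lc_d_rc_17_2 lc_d_rc_15_1 lc_d_rc_16_4 lc_d_rc_15_1 lc_d_rc_27_4 lc_d_rc_27_2 lc_d_rc_16_2 lc_d_rc_15_1 lc_d_rc_16_0 lc_d_rc_8_3 lc_d_rc_15_1 lc_d_rc_15_1 lc_d_rc_27_4 lc_d_rc_15_1 lc_d_rc_17_2 lc_d_rc_3_3 lc_d_rc_27_10 lc_d_rc_15_1 lc_d_rc_17_2 lc_d_rc_8_1 lc_d_rc_24_5 lc_d_rc_27_4 lc_d_rc_15_1 lc_d_rc_16_0 lc_d_rc_23_2 lc_d_rc_17_2 lc_d_rc_8_3 lc_d_rc_15_1 lc_d_rc_15_1 lc_d_rc_15_1 lc_d_rc_22_6 lc_d_rc_15_1 lc_d_rc_15_1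 lc_d_rc_23_6 lc_d_rc_15_1 lc_d_rc_27_2 lc_d_rc_27_2 lc_d_rc_16_4 lc_d_rc_24_0 lc_d_rc_22_2 lc_d_rc_3_3 lc_d_rc_17_2 lc_d_rc_15_1 lc_d_rc_27_2 lc_d_rc_8_1 lc_d_rc_17_0 lc_d_rc_27_4 lc_d_rc_15_1 lc_d_rc_8_3 lc_d_rc_16_0 lc_d_rc_8_1 lc_d_rc_15_1) (@D3.rec (fun _ => (Cert rels S Gen.d)) lc_d_rc_3_3 lc_d_rc_27_4 lc_d_rc_15_1 lc_d_rc_15_1 lc_d_rc_17_2 lc_d_rc_15_1 lc_d_rc_8_3 lc_d_rc_3_3 lc_d_rc_27_10 lc_d_rc_15_1 lc_d_rc_16_0 lc_d_rc_15_1 lc_d_rc_15_1 lc_d_rc_15_1 lc_d_rc_22_6 lc_d_rc_22_8 lc_d_rc_15_1 lc_d_rc_15_1 lc_d_rc_16_0 lc_d_rc_25_10 lc_d_rc_22_6 lc_d_rc_8_3 lc_d_Cert_tree lc_d_rc_8_3 lc_d_rc_25_2 lc_d_rc_22_2 lc_d_rc_25_18 lc_d_rc_24_0 lc_d_rc_27_2 lc_d_rc_12_1 lc_d_rc_16_4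 lc_d_rc_22_8 lc_d_rc_16_2 lc_d_rc_16_2 lc_d_rc_16_4 lc_d_rc_15_1 lc_d_rc_15_1 lc_d_rc_15_1 lc_d_rc_3_3 lc_d_rc_27_8 lc_d_rc_8_3 lc_d_rc_16_2 lc_d_rc_23_2 lc_d_rc_17_0 lc_d_rc_17_2 lc_d_rc_22_8 lc_d_rc_8_3 lc_d_rc_15_1 lc_d_rc_27_4 lc_d_rc_23_2 lc_d_rc_16_2 lc_d_rc_27_2 lc_d_rc_15_1 lc_d_rc_15_1 lc_d_rc_27_4 lc_d_rc_16_4 lc_d_rc_8_3 lc_d_rc_16_4 lc_d_rc_23_4 lc_d_rc_23_6 lc_d_rc_16_4 lc_d_rc_23_2) (@D3.rec (fun _ => (Cert rels S Gen.d)) lc_d_rc_17_2 lc_d_rc_15_1 lc_d_rc_8_3 lc_d_rc_17_2 lc_d_rc_15_1 lc_d_rc_22_6 lc_d_rc_15_1 lc_d_rc_15_1 lc_d_rc_27_4 lc_d_rc_22_4 lc_d_rc_15_1 lc_d_rc_16_2 lc_d_rc_22_2 lc_d_rc_16_4 lc_d_rc_23_6 lc_d_rc_15_1 lc_d_rc_25_2 lc_d_rc_17_2 lc_d_rc_27_10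 lc_d_rc_15_1 lc_d_rc_8_3 lc_d_rc_24_5 lc_d_rc_15_1 lc_d_rc_23_8 lc_d_rc_23_6 lc_d_rc_24_5 lc_d_rc_15_1 lc_d_rc_16_4 lc_d_rc_15_1 lc_d_rc_3_1 lc_d_rc_22_2 lc_d_rc_15_1 lc_d_rc_27_2 lc_d_rc_15_1 lc_d_rc_25_18 lc_d_rc_15_1 lc_d_rc_8_3 lc_d_rc_15_1 lc_d_rc_24_5 lc_d_rc_8_3 lc_d_rc_27_2 lc_d_rc_8_3 lc_d_rc_16_4 lc_d_rc_27_2 lc_d_rc_8_3 lc_d_rc_27_4 lc_d_rc_22_8 lc_d_rc_15_1 lc_d_rc_16_0 lc_d_rc_15_1 lc_d_rc_24_0 lc_d_rc_15_1 lc_d_rc_15_1 lc_d_rc_15_1 lc_d_rc_27_4 lc_d_rc_15_1 lc_d_rc_17_2 lc_d_rc_24_0 lc_d_rc_16_4 lc_d_rc_8_1 lc_d_rc_15_1 lc_d_rc_8_3) (@D3.rec (fun _ => (Cert rels S Gen.d)) lc_d_rc_23_6 lc_d_rc_23_4 lc_d_rc_15_1 lc_d_rc_23_4 lc_d_rc_24_0 lc_d_rc_8_1 lc_d_rc_15_1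 lc_d_rc_27_4 lc_d_rc_27_10 lc_d_rc_16_4 lc_d_rc_15_1 lc_d_rc_15_1 lc_d_rc_15_1 lc_d_rc_16_0 lc_d_rc_8_3 lc_d_rc_27_10 lc_d_rc_15_1 lc_d_rc_8_3 lc_d_rc_3_3 lc_d_rc_8_3 lc_d_rc_8_1 lc_d_rc_15_1 lc_d_rc_8_1 lc_d_rc_8_3 lc_d_rc_15_1 lc_d_rc_22_8 lc_d_rc_16_4 lc_d_rc_3_3 lc_d_rc_16_2 lc_d_rc_16_2 lc_d_rc_22_8 lc_d_rc_23_6 lc_d_rc_22_2 lc_d_rc_8_3 lc_d_rc_27_2 lc_d_rc_22_4 lc_d_rc_3_3 lc_d_rc_15_1 lc_d_rc_16_4 lc_d_rc_23_6 lc_d_rc_8_3 lc_d_rc_17_2 lc_d_rc_27_4 lc_d_rc_17_2 lc_d_rc_15_1 lc_d_rc_17_0 lc_d_rc_22_2 lc_d_rc_23_4 lc_d_rc_17_2 lc_d_rc_15_1 lc_d_rc_24_5 lc_d_rc_3_3 lc_d_rc_16_2 lc_d_rc_8_3 lc_d_rc_27_10 lc_d_rc_16_0 lc_d_rc_27_2 lc_d_rc_8_3 lc_d_rc_16_4 lc_d_rc_15_1 lc_d_rc_15_1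 lc_d_rc_27_2) (@D3.rec (fun _ => (Cert rels S Gen.d)) lc_d_rc_8_3 lc_d_rc_23_2 lc_d_rc_15_1 lc_d_rc_15_1 lc_d_rc_15_1 lc_d_rc_3_1 lc_d_rc_15_1 lc_d_rc_22_8 lc_d_rc_27_4 lc_d_rc_24_5 lc_d_rc_16_2 lc_d_rc_15_1 lc_d_rc_15_1 lc_d_rc_25_2 lc_d_rc_22_2 lc_d_rc_16_4 lc_d_rc_22_6 lc_d_rc_24_5 lc_d_rc_27_4 lc_d_rc_23_4 lc_d_rc_8_3 lc_d_rc_16_4 lc_d_rc_24_0 lc_d_rc_23_2 lc_d_rc_15_1 lc_d_rc_27_4 lc_d_rc_8_1 lc_d_rc_22_4 lc_d_rc_25_2 lc_d_rc_24_0 lc_d_rc_8_3 lc_d_rc_15_1 lc_d_rc_15_1 lc_d_rc_16_4 lc_d_rc_27_10 lc_d_rc_23_4 lc_d_rc_17_2 lc_d_rc_23_8 lc_d_rc_15_1 lc_d_rc_27_10 lc_d_rc_15_1 lc_d_rc_27_4 lc_d_rc_15_1 lc_d_rc_27_10 lc_d_rc_27_4 lc_d_rc_22_8 lc_d_rc_15_1 lc_d_rc_25_2 lc_d_rc_16_2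 lc_d_rc_15_1 lc_d_rc_17_2 lc_d_rc_23_4 lc_d_rc_22_4 lc_d_rc_8_3 lc_d_rc_16_0 lc_d_rc_17_2 lc_d_rc_15_1 lc_d_rc_15_1 lc_d_rc_15_1 lc_d_rc_16_0 lc_d_rc_15_1 lc_d_rc_17_0) (@D3.rec (fun _ => (Cert rels S Gen.d)) lc_d_rc_8_1 lc_d_rc_8_3 lc_d_rc_16_2 lc_d_rc_8_3 lc_d_rc_15_1 lc_d_rc_24_0 lc_d_rc_22_6 lc_d_rc_23_8 lc_d_rc_15_1 lc_d_rc_16_0 lc_d_rc_16_4 lc_d_rc_25_18 lc_d_rc_24_0 lc_d_rc_8_3 lc_d_rc_23_6 lc_d_rc_15_1 lc_d_rc_8_3 lc_d_rc_16_4 lc_d_rc_23_4 lc_d_rc_23_4 lc_d_rc_8_3 lc_d_rc_16_4 lc_d_rc_22_4 lc_d_rc_16_4 lc_d_rc_27_4 lc_d_rc_15_1 lc_d_rc_16_2 lc_d_rc_27_10 lc_d_rc_27_2 lc_d_rc_8_3 lc_d_rc_15_1 lc_d_rc_8_1 lc_d_rc_15_1 lc_d_rc_22_2 lc_d_rc_16_4 lc_d_rc_8_1 lc_d_rc_8_3 lc_d_rc_15_1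 lc_d_rc_8_3 lc_d_rc_16_4 lc_d_rc_8_3 lc_d_rc_15_1 lc_d_rc_25_2 lc_d_rc_24_5 lc_d_rc_3_3 lc_d_rc_8_1 lc_d_rc_8_1 lc_d_rc_8_3 lc_d_rc_15_1 lc_d_rc_3_3 lc_d_rc_15_1 lc_d_rc_27_10 lc_d_rc_12_15 lc_d_rc_27_2 lc_d_rc_17_2 lc_d_rc_22_6 lc_d_rc_15_1 lc_d_rc_8_3 lc_d_rc_22_4 lc_d_rc_16_4 lc_d_rc_23_2 lc_d_rc_22_8) (@D3.rec (fun _ => (Cert rels S Gen.d)) lc_d_rc_17_2 lc_d_rc_8_1 lc_d_rc_15_1 lc_d_rc_27_10 lc_d_rc_27_10 lc_d_rc_15_1 lc_d_rc_15_1 lc_d_rc_27_2 lc_d_rc_25_2 lc_d_rc_27_2 lc_d_rc_15_1 lc_d_rc_15_1 lc_d_rc_24_5 lc_d_rc_17_2 lc_d_rc_8_3 lc_d_rc_15_1 lc_d_rc_15_1 lc_d_rc_23_6 lc_d_rc_23_2 lc_d_rc_27_8 lc_d_rc_15_1 lc_d_rc_8_1 lc_d_rc_8_3 lc_d_rc_24_5 lc_d_rc_16_0 lc_d_rc_23_2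 lc_d_rc_24_0 lc_d_rc_15_1 lc_d_rc_15_1 lc_d_rc_15_1 lc_d_rc_15_1 lc_d_rc_25_2 lc_d_rc_24_0 lc_d_rc_24_5 lc_d_rc_17_2 lc_d_rc_8_3 lc_d_rc_15_1 lc_d_rc_23_2 lc_d_rc_23_2 lc_d_rc_15_1 lc_d_rc_24_0 lc_d_rc_15_1 lc_d_rc_16_4 lc_d_rc_27_4 lc_d_rc_27_2 lc_d_rc_16_4 lc_d_rc_24_0 lc_d_rc_16_0 lc_d_rc_3_3 lc_d_rc_15_1 lc_d_rc_27_8 lc_d_rc_15_1 lc_d_rc_3_3 lc_d_rc_27_10 lc_d_rc_15_1 lc_d_rc_15_1 lc_d_rc_24_0 lc_d_rc_16_0 lc_d_rc_15_1 lc_d_rc_27_4 lc_d_rc_15_1 lc_d_rc_24_0) (@D3.rec (fun _ => (Cert rels S Gen.d)) lc_d_rc_15_1 lc_d_rc_16_2 lc_d_rc_17_2 lc_d_rc_3_3 lc_d_rc_15_1 lc_d_rc_23_6 lc_d_rc_8_3 lc_d_rc_15_1 lc_d_rc_15_1 lc_d_rc_23_2 lc_d_rc_15_1 lc_d_rc_23_6 lc_d_rc_25_10 lc_d_rc_17_0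 lc_d_rc_12_13 lc_d_rc_23_2 lc_d_rc_15_1 lc_d_rc_24_0 lc_d_rc_22_2 lc_d_rc_15_1 lc_d_rc_15_1 lc_d_rc_15_1 lc_d_rc_23_2 lc_d_rc_8_3 lc_d_rc_23_4 lc_d_rc_15_1 lc_d_rc_27_4 lc_d_rc_15_1 lc_d_rc_22_4 lc_d_rc_22_2 lc_d_rc_22_4 lc_d_rc_15_1 lc_d_rc_27_2 lc_d_rc_15_1 lc_d_rc_8_3 lc_d_rc_16_4 lc_d_rc_12_15 lc_d_rc_15_1 lc_d_rc_22_6 lc_d_rc_22_8 lc_d_rc_23_6 lc_d_rc_15_1 lc_d_rc_8_3 lc_d_rc_16_2 lc_d_rc_8_1 lc_d_rc_16_2 lc_d_rc_15_1 lc_d_rc_16_2 lc_d_rc_23_4 lc_d_rc_17_2 lc_d_Cert_tree lc_d_rc_15_1 lc_d_rc_15_1 lc_d_rc_16_2 lc_d_rc_15_1 lc_d_rc_27_4 lc_d_rc_24_0 lc_d_rc_15_1 lc_d_rc_27_8 lc_d_rc_23_2 lc_d_rc_15_1 lc_d_rc_23_4) (@D3.rec (fun _ => (Cert rels S Gen.d)) lc_d_rc_15_1 lc_d_rc_15_1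 lc_d_rc_23_6 lc_d_rc_15_1 lc_d_rc_24_0 lc_d_rc_27_2 lc_d_rc_15_1 lc_d_rc_8_3 lc_d_rc_17_2 lc_d_rc_23_2 lc_d_rc_15_1 lc_d_rc_24_5 lc_d_rc_8_1 lc_d_rc_22_2 lc_d_rc_15_1 lc_d_rc_22_6 lc_d_rc_23_4 lc_d_rc_27_4 lc_d_rc_24_5 lc_d_rc_24_5 lc_d_rc_22_6 lc_d_rc_22_2 lc_d_rc_23_2 lc_d_rc_23_2 lc_d_rc_3_3 lc_d_rc_15_1 lc_d_rc_16_2 lc_d_rc_8_3 lc_d_rc_16_2 lc_d_rc_16_2 lc_d_rc_22_8 lc_d_rc_22_4 lc_d_rc_15_1 lc_d_rc_8_3 lc_d_rc_24_5 lc_d_rc_23_4 lc_d_rc_8_3 lc_d_rc_16_2 lc_d_rc_8_1 lc_d_rc_16_4 lc_d_rc_15_1 lc_d_rc_27_2 lc_d_rc_15_1 lc_d_rc_27_4 lc_d_rc_27_10 lc_d_rc_15_1 lc_d_rc_17_2 lc_d_rc_12_15 lc_d_rc_15_1 lc_d_rc_22_4 lc_d_rc_15_1 lc_d_rc_27_4 lc_d_rc_27_4 lc_d_rc_15_1 lc_d_rc_16_4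 lc_d_rc_17_2 lc_d_rc_8_3 lc_d_rc_23_6 lc_d_rc_23_4 lc_d_rc_15_1 lc_d_rc_24_0 lc_d_rc_24_0) (@D3.rec (fun _ => (Cert rels S Gen.d)) lc_d_rc_16_4 lc_d_rc_8_1 lc_d_rc_16_0 lc_d_rc_22_2 lc_d_rc_27_10 lc_d_rc_8_1 lc_d_rc_16_0 lc_d_rc_8_3 lc_d_rc_17_2 lc_d_rc_16_4 lc_d_rc_17_0 lc_d_rc_16_4 lc_d_rc_23_2 lc_d_rc_16_4 lc_d_rc_22_6 lc_d_rc_22_4 lc_d_rc_16_2 lc_d_rc_27_2 lc_d_rc_16_4 lc_d_rc_15_1 lc_d_rc_15_1 lc_d_rc_3_3 lc_d_rc_24_0 lc_d_rc_15_1 lc_d_rc_8_1 lc_d_rc_15_1 lc_d_rc_17_2 lc_d_rc_3_1 lc_d_rc_8_1 lc_d_rc_8_3 lc_d_rc_24_5 lc_d_rc_15_1 lc_d_rc_16_4 lc_d_rc_15_1 lc_d_rc_15_1 lc_d_rc_27_4 lc_d_rc_15_1 lc_d_rc_23_4 lc_d_rc_3_3 lc_d_rc_17_2 lc_d_rc_16_4 lc_d_rc_15_1 lc_d_rc_16_4 lc_d_rc_3_1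 lc_d_rc_8_1 lc_d_rc_24_5 lc_d_rc_15_1 lc_d_rc_27_4 lc_d_rc_27_2 lc_d_rc_12_15 lc_d_rc_15_1 lc_d_rc_27_8 lc_d_rc_15_1 lc_d_rc_8_3 lc_d_rc_22_2 lc_d_rc_12_3 lc_d_rc_15_1 lc_d_rc_15_1 lc_d_rc_24_5 lc_d_rc_27_8 lc_d_rc_27_4 lc_d_rc_22_8) (@D3.rec (fun _ => (Cert rels S Gen.d)) lc_d_rc_15_1 lc_d_rc_8_1 lc_d_rc_15_1 lc_d_rc_22_4 lc_d_rc_23_2 lc_d_rc_16_0 lc_d_rc_15_1 lc_d_rc_17_2 lc_d_rc_8_3 lc_d_rc_8_3 lc_d_rc_16_4 lc_d_rc_8_3 lc_d_rc_15_1 lc_d_rc_27_2 lc_d_rc_8_1 lc_d_rc_22_8 lc_d_rc_15_1 lc_d_rc_15_1 lc_d_rc_23_2 lc_d_rc_8_3 lc_d_rc_3_1 lc_d_rc_22_8 lc_d_rc_16_4 lc_d_rc_16_2 lc_d_rc_16_2 lc_d_rc_15_1 lc_d_rc_16_0 lc_d_rc_15_1 lc_d_rc_15_1 lc_d_rc_27_8 lc_d_rc_15_1 lc_d_rc_3_1 lc_d_rc_27_4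 lc_d_rc_17_2 lc_d_rc_15_1 lc_d_rc_15_1 lc_d_rc_16_4 lc_d_rc_17_2 lc_d_rc_25_2 lc_d_rc_8_3 lc_d_rc_8_3 lc_d_rc_22_8 lc_d_rc_8_3 lc_d_Cert_tree lc_d_rc_8_3 lc_d_rc_15_1 lc_d_rc_17_2 lc_d_rc_15_1 lc_d_rc_8_3 lc_d_rc_3_3 lc_d_rc_8_1 lc_d_rc_15_1 lc_d_rc_8_3 lc_d_rc_8_1 lc_d_rc_8_3 lc_d_rc_22_4 lc_d_rc_15_1 lc_d_rc_16_4 lc_d_rc_15_1 lc_d_rc_15_1 lc_d_rc_22_6 lc_d_rc_8_1) (@D3.rec (fun _ => (Cert rels S Gen.d)) lc_d_rc_16_4 lc_d_rc_15_1 lc_d_rc_17_2 lc_d_rc_15_1 lc_d_rc_3_3 lc_d_rc_3_3 lc_d_rc_15_1 lc_d_rc_22_4 lc_d_rc_24_0 lc_d_rc_24_0 lc_d_rc_15_1 lc_d_Cert_tree lc_d_rc_3_3 lc_d_rc_8_1 lc_d_rc_8_3 lc_d_rc_15_1 lc_d_Cert_tree lc_d_rc_8_3 lc_d_rc_15_1 lc_d_rc_8_1 lc_d_rc_8_1 lc_d_rc_27_4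 lc_d_rc_22_2 lc_d_rc_22_4 lc_d_rc_8_3 lc_d_rc_8_1 lc_d_rc_16_4 lc_d_rc_17_0 lc_d_rc_16_4 lc_d_rc_15_1 lc_d_rc_15_1 lc_d_rc_27_8 lc_d_rc_15_1 lc_d_rc_15_1 lc_d_rc_16_0 lc_d_rc_22_4 lc_d_rc_8_3 lc_d_rc_8_3 lc_d_rc_25_2 lc_d_rc_23_2 lc_d_rc_8_3 lc_d_rc_15_1 lc_d_rc_27_2 lc_d_rc_8_3 lc_d_rc_8_3 lc_d_rc_15_1 lc_d_Cert_tree lc_d_rc_15_1 lc_d_rc_15_1 lc_d_rc_22_4 lc_d_rc_15_1 lc_d_rc_24_5 lc_d_rc_27_2 lc_d_rc_15_1 lc_d_rc_22_8 lc_d_rc_15_1 lc_d_rc_24_0 lc_d_rc_22_8 lc_d_rc_16_2 lc_d_rc_15_1 lc_d_rc_15_1 lc_d_rc_15_1) (@D3.rec (fun _ => (Cert rels S Gen.d)) lc_d_rc_22_6 lc_d_rc_15_1 lc_d_rc_15_1 lc_d_rc_15_1 lc_d_rc_24_5 lc_d_rc_15_1 lc_d_rc_23_4 lc_d_rc_24_0 lc_d_rc_23_2 lc_d_rc_3_3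 lc_d_rc_27_10 lc_d_rc_22_2 lc_d_rc_27_4 lc_d_rc_3_1 lc_d_rc_25_18 lc_d_rc_15_1 lc_d_rc_8_1 lc_d_rc_27_2 lc_d_rc_27_4 lc_d_rc_15_1 lc_d_rc_15_1 lc_d_rc_15_1 lc_d_rc_25_6 lc_d_rc_15_1 lc_d_rc_8_3 lc_d_rc_27_4 lc_d_rc_23_2 lc_d_rc_27_10 lc_d_rc_15_1 lc_d_rc_27_4 lc_d_rc_8_3 lc_d_rc_15_1 lc_d_rc_8_3 lc_d_rc_8_3 lc_d_rc_16_2 lc_d_rc_27_10 lc_d_rc_15_1 lc_d_rc_17_0 lc_d_rc_15_1 lc_d_rc_16_0 lc_d_rc_16_4 lc_d_rc_17_2 lc_d_rc_16_4 lc_d_rc_15_1 lc_d_rc_27_10 lc_d_rc_16_4 lc_d_rc_15_1 lc_d_rc_24_0 lc_d_rc_8_3 lc_d_rc_12_15 lc_d_rc_15_1 lc_d_rc_15_1 lc_d_rc_15_1 lc_d_rc_8_3 lc_d_rc_22_4 lc_d_rc_15_1 lc_d_rc_16_4 lc_d_rc_15_1 lc_d_rc_27_4 lc_d_rc_16_2 lc_d_rc_24_0 lc_d_rc_8_3) (@D3.rec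 (fun _ => (Cert rels S Gen.d)) lc_d_rc_3_3 lc_d_rc_8_1 lc_d_rc_15_1 lc_d_rc_23_2 lc_d_rc_15_1 lc_d_rc_15_1 lc_d_rc_16_2 lc_d_rc_3_3 lc_d_rc_27_4 lc_d_rc_23_2 lc_d_rc_17_0 lc_d_rc_15_1 lc_d_rc_16_2 lc_d_rc_15_1 lc_d_rc_15_1 lc_d_rc_23_2 lc_d_rc_15_1 lc_d_rc_23_2 lc_d_rc_22_8 lc_d_rc_23_2 lc_d_rc_22_4 lc_d_rc_22_8 lc_d_rc_8_1 lc_d_rc_15_1 lc_d_rc_8_3 lc_d_rc_22_4 lc_d_Cert_tree lc_d_rc_15_1 lc_d_rc_15_1 lc_d_rc_24_5 lc_d_rc_22_2 lc_d_rc_17_0 lc_d_rc_8_3 lc_d_rc_24_5 lc_d_rc_3_3 lc_d_rc_27_4 lc_d_rc_22_4 lc_d_rc_17_2 lc_d_rc_27_4 lc_d_rc_15_1 lc_d_rc_23_4 lc_d_rc_8_3 lc_d_rc_8_3 lc_d_rc_15_1 lc_d_rc_23_6 lc_d_rc_8_3 lc_d_rc_16_4 lc_d_rc_23_2 lc_d_rc_17_2 lc_d_rc_8_1 lc_d_rc_27_4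 lc_d_rc_16_4 lc_d_rc_8_3 lc_d_Cert_tree lc_d_rc_23_6 lc_d_rc_15_1 lc_d_rc_17_2 lc_d_rc_15_1 lc_d_rc_23_6 lc_d_rc_15_1 lc_d_rc_22_6 lc_d_rc_16_4) (@D3.rec (fun _ => (Cert rels S Gen.d)) lc_d_rc_24_5 lc_d_rc_15_1 lc_d_rc_8_3 lc_d_rc_17_0 lc_d_rc_16_4 lc_d_rc_16_2 lc_d_rc_27_10 lc_d_rc_16_0 lc_d_rc_22_2 lc_d_rc_8_3 lc_d_rc_24_0 lc_d_rc_23_4 lc_d_rc_22_6 lc_d_rc_15_1 lc_d_rc_8_3 lc_d_rc_22_4 lc_d_rc_15_1 lc_d_rc_15_1 lc_d_rc_15_1 lc_d_rc_17_0 lc_d_rc_24_0 lc_d_rc_27_10 lc_d_rc_23_2 lc_d_rc_15_1 lc_d_rc_27_2 lc_d_rc_8_3 lc_d_rc_16_4 lc_d_rc_15_1 lc_d_rc_17_0 lc_d_rc_15_1 lc_d_rc_15_1 lc_d_rc_23_4 lc_d_rc_23_6 lc_d_rc_25_2 lc_d_rc_15_1 lc_d_rc_27_10 lc_d_rc_23_4 lc_d_rc_17_2 lc_d_rc_8_3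 lc_d_rc_15_1 lc_d_rc_8_3 lc_d_rc_16_0 lc_d_rc_8_1 lc_d_rc_15_1 lc_d_rc_8_3 lc_d_rc_27_2 lc_d_rc_22_4 lc_d_rc_8_3 lc_d_rc_8_3 lc_d_rc_27_4 lc_d_rc_17_2 lc_d_rc_23_4 lc_d_rc_15_1 lc_d_rc_15_1 lc_d_Cert_tree lc_d_rc_8_3 lc_d_rc_25_18 lc_d_Cert_tree lc_d_rc_15_1 lc_d_rc_27_2 lc_d_rc_22_6 lc_d_rc_27_4) (@D3.rec (fun _ => (Cert rels S Gen.d)) lc_d_rc_16_2 lc_d_rc_23_6 lc_d_rc_15_1 lc_d_rc_16_4 lc_d_rc_15_1 lc_d_rc_15_1 lc_d_rc_3_1 lc_d_rc_24_0 lc_d_rc_16_2 lc_d_rc_17_2 lc_d_rc_3_3 lc_d_rc_15_1 lc_d_rc_3_3 lc_d_rc_22_6 lc_d_rc_17_2 lc_d_rc_15_1 lc_d_rc_15_1 lc_d_rc_27_8 lc_d_rc_23_2 lc_d_rc_27_2 lc_d_rc_22_2 lc_d_rc_15_1 lc_d_rc_8_3 lc_d_rc_15_1 lc_d_rc_8_3 lc_d_rc_8_1 lc_d_rc_15_1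 lc_d_rc_24_5 lc_d_rc_15_1 lc_d_rc_17_2 lc_d_rc_23_6 lc_d_rc_22_6 lc_d_rc_27_4 lc_d_rc_16_0 lc_d_rc_24_0 lc_d_rc_15_1 lc_d_rc_8_3 lc_d_rc_27_10 lc_d_rc_15_1 lc_d_rc_27_4 lc_d_rc_23_4 lc_d_rc_16_2 lc_d_rc_15_1 lc_d_rc_16_4 lc_d_rc_16_2 lc_d_rc_15_1 lc_d_rc_15_1 lc_d_rc_22_8 lc_d_rc_23_8 lc_d_rc_27_4 lc_d_rc_27_2 lc_d_rc_16_4 lc_d_rc_24_0 lc_d_rc_16_4 lc_d_rc_15_1 lc_d_rc_15_1 lc_d_rc_3_3 lc_d_rc_24_0 lc_d_rc_17_2 lc_d_rc_25_6 lc_d_rc_23_4 lc_d_rc_3_1) (@D3.rec (fun _ => (Cert rels S Gen.d)) lc_d_rc_15_1 lc_d_rc_27_2 lc_d_rc_23_2 lc_d_rc_24_0 lc_d_rc_24_0 lc_d_rc_27_10 lc_d_rc_15_1 lc_d_rc_23_6 lc_d_rc_15_1 lc_d_rc_15_1 lc_d_rc_15_1 lc_d_rc_27_10 lc_d_rc_15_1 lc_d_rc_23_8 lc_d_rc_24_0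 lc_d_rc_27_10 lc_d_rc_23_2 lc_d_rc_15_1 lc_d_rc_15_1 lc_d_rc_22_2 lc_d_rc_8_1 lc_d_rc_27_4 lc_d_rc_27_10 lc_d_rc_16_0 lc_d_rc_17_2 lc_d_rc_27_8 lc_d_rc_24_0 lc_d_rc_16_0 lc_d_rc_17_2 lc_d_Cert_tree lc_d_rc_15_1 lc_d_rc_27_4 lc_d_rc_23_2 lc_d_rc_17_2 lc_d_rc_22_2 lc_d_Cert_tree lc_d_rc_15_1 lc_d_rc_3_3 lc_d_rc_8_1 lc_d_rc_15_1 lc_d_rc_17_0 lc_d_rc_15_1 lc_d_rc_15_1 lc_d_rc_15_1 lc_d_rc_12_3 lc_d_rc_22_2 lc_d_rc_15_1 lc_d_rc_15_1 lc_d_rc_8_1 lc_d_rc_15_1 lc_d_rc_15_1 lc_d_rc_15_1 lc_d_rc_3_3 lc_d_rc_8_3 lc_d_rc_8_3 lc_d_rc_27_2 lc_d_Cert_tree lc_d_rc_15_1 lc_d_rc_8_1 lc_d_rc_3_3 lc_d_rc_15_1 lc_d_rc_22_6) (@D3.rec (fun _ => (Cert rels S Gen.d)) lc_d_rc_22_4 lc_d_rc_27_10 lc_d_rc_16_2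 lc_d_rc_22_2 lc_d_rc_15_1 lc_d_rc_15_1 lc_d_rc_16_2 lc_d_rc_8_3 lc_d_rc_15_1 lc_d_rc_15_1 lc_d_rc_23_8 lc_d_rc_16_0 lc_d_rc_15_1 lc_d_rc_15_1 lc_d_rc_15_1 lc_d_rc_8_3 lc_d_rc_17_2 lc_d_rc_16_4 lc_d_rc_15_1 lc_d_rc_24_0 lc_d_rc_17_2 lc_d_rc_27_2 lc_d_rc_17_2 lc_d_rc_8_3 lc_d_rc_8_3 lc_d_rc_15_1 lc_d_rc_23_2 lc_d_rc_16_2 lc_d_rc_23_4 lc_d_rc_27_10 lc_d_rc_27_2 lc_d_rc_16_4 lc_d_rc_15_1 lc_d_rc_15_1 lc_d_rc_15_1 lc_d_rc_24_5 lc_d_rc_15_1 lc_d_rc_15_1 lc_d_rc_3_1 lc_d_rc_3_3 lc_d_rc_8_3 lc_d_rc_23_4 lc_d_rc_15_1 lc_d_rc_15_1 lc_d_rc_27_2 lc_d_rc_22_2 lc_d_rc_22_4 lc_d_rc_15_1 lc_d_rc_16_2 lc_d_rc_17_2 lc_d_rc_15_1 lc_d_rc_15_1 lc_d_rc_24_0 lc_d_rc_8_3 lc_d_rc_15_1 lc_d_rc_8_1 lc_d_rc_15_1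 lc_d_rc_15_1 lc_d_rc_15_1 lc_d_rc_22_2 lc_d_rc_17_2 lc_d_rc_16_2) (@D3.rec (fun _ => (Cert rels S Gen.d)) lc_d_rc_17_2 lc_d_rc_23_6 lc_d_rc_15_1 lc_d_rc_17_2 lc_d_rc_15_1 lc_d_rc_16_4 lc_d_rc_8_1 lc_d_rc_22_6 lc_d_rc_24_0 lc_d_rc_15_1 lc_d_rc_16_4 lc_d_rc_23_8 lc_d_rc_15_1 lc_d_rc_8_3 lc_d_rc_8_3 lc_d_rc_17_2 lc_d_rc_15_1 lc_d_rc_24_5 lc_d_rc_17_2 lc_d_rc_27_2 lc_d_rc_16_4 lc_d_rc_3_3 lc_d_rc_22_8 lc_d_rc_15_1 lc_d_rc_27_2 lc_d_rc_27_10 lc_d_rc_15_1 lc_d_rc_8_3 lc_d_rc_23_2 lc_d_rc_23_8 lc_d_rc_16_4 lc_d_rc_8_3 lc_d_rc_15_1 lc_d_Cert_tree lc_d_rc_25_6 lc_d_rc_24_0 lc_d_rc_17_2 lc_d_rc_15_1 lc_d_rc_15_1 lc_d_rc_15_1 lc_d_rc_8_3 lc_d_rc_8_3 lc_d_rc_15_1 lc_d_rc_17_2 lc_d_rc_23_8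 lc_d_rc_22_2 lc_d_rc_16_0 lc_d_rc_15_1 lc_d_rc_27_4 lc_d_Cert_tree lc_d_rc_3_3 lc_d_rc_17_2 lc_d_rc_27_10 lc_d_rc_16_4 lc_d_rc_3_3 lc_d_rc_15_1 lc_d_rc_3_3 lc_d_rc_16_2 lc_d_rc_17_2 lc_d_rc_8_1 lc_d_rc_15_1 lc_d_rc_15_1) (@D3.rec (fun _ => (Cert rels S Gen.d)) lc_d_rc_17_2 lc_d_rc_8_1 lc_d_rc_15_1 lc_d_rc_15_1 lc_d_rc_8_3 lc_d_rc_23_8 lc_d_rc_15_1 lc_d_rc_23_6 lc_d_rc_12_15 lc_d_rc_22_6 lc_d_rc_25_10 lc_d_Cert_tree lc_d_rc_27_8 lc_d_rc_16_4 lc_d_rc_16_2 lc_d_rc_15_1 lc_d_rc_17_0 lc_d_rc_15_1 lc_d_rc_15_1 lc_d_rc_16_2 lc_d_rc_8_3 lc_d_rc_16_2 lc_d_rc_16_4 lc_d_rc_16_4 lc_d_rc_8_3 lc_d_rc_16_4 lc_d_rc_15_1 lc_d_rc_15_1 lc_d_rc_17_2 lc_d_rc_12_1 lc_d_rc_15_1 lc_d_rc_17_2 lc_d_rc_27_4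 lc_d_rc_8_3 lc_d_rc_22_2 lc_d_rc_17_2 lc_d_rc_22_2 lc_d_rc_22_4 lc_d_rc_22_4 lc_d_rc_27_2 lc_d_rc_15_1 lc_d_rc_15_1 lc_d_rc_12_15 lc_d_rc_27_2 lc_d_rc_24_5 lc_d_rc_15_1 lc_d_rc_27_2 lc_d_Cert_tree lc_d_rc_15_1 lc_d_rc_24_0 lc_d_rc_16_2 lc_d_rc_16_4 lc_d_rc_15_1 lc_d_rc_22_2 lc_d_rc_23_6 lc_d_rc_8_3 lc_d_rc_24_0 lc_d_rc_17_2 lc_d_rc_22_6 lc_d_rc_24_5 lc_d_rc_12_1 lc_d_rc_22_6) (@D3.rec (fun _ => (Cert rels S Gen.d)) lc_d_rc_16_4 lc_d_rc_15_1 lc_d_rc_27_4 lc_d_rc_15_1 lc_d_rc_15_1 lc_d_rc_17_2 lc_d_rc_16_4 lc_d_rc_23_6 lc_d_rc_15_1 lc_d_rc_8_3 lc_d_rc_12_15 lc_d_rc_23_2 lc_d_rc_27_8 lc_d_rc_23_2 lc_d_rc_3_1 lc_d_rc_3_3 lc_d_rc_8_1 lc_d_rc_22_4 lc_d_rc_8_1 lc_d_rc_15_1 lc_d_rc_25_2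 lc_d_rc_16_0 lc_d_rc_17_2 lc_d_rc_22_4 lc_d_rc_8_3 lc_d_rc_12_15 lc_d_rc_25_2 lc_d_rc_15_1 lc_d_rc_24_0 lc_d_rc_27_4 lc_d_rc_15_1 lc_d_rc_22_8 lc_d_rc_27_8 lc_d_rc_15_1 lc_d_rc_3_3 lc_d_rc_22_6 lc_d_rc_22_6 lc_d_rc_15_1 lc_d_rc_8_1 lc_d_rc_8_3 lc_d_rc_15_1 lc_d_rc_8_3 lc_d_Cert_tree lc_d_rc_16_0 lc_d_rc_16_0 lc_d_rc_15_1 lc_d_rc_16_4 lc_d_rc_23_8 lc_d_rc_15_1 lc_d_rc_22_8 lc_d_rc_16_0 lc_d_rc_27_4 lc_d_rc_27_10 lc_d_rc_17_2 lc_d_rc_17_0 lc_d_rc_15_1 lc_d_rc_16_2 lc_d_rc_15_1 lc_d_rc_17_2 lc_d_rc_22_2 lc_d_rc_23_6 lc_d_rc_22_2) (@D3.rec (fun _ => (Cert rels S Gen.d)) lc_d_rc_16_0 lc_d_rc_15_1 lc_d_rc_24_0 lc_d_rc_15_1 lc_d_rc_24_5 lc_d_rc_15_1 lc_d_rc_22_8 lc_d_rc_24_5 lc_d_rc_15_1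 lc_d_rc_15_1 lc_d_rc_15_1 lc_d_rc_27_4 lc_d_rc_15_1 lc_d_rc_17_2 lc_d_rc_15_1 lc_d_Cert_tree lc_d_rc_15_1 lc_d_rc_27_2 lc_d_rc_27_2 lc_d_rc_15_1 lc_d_rc_8_3 lc_d_rc_15_1 lc_d_rc_22_4 lc_d_rc_24_0 lc_d_Cert_tree lc_d_rc_15_1 lc_d_rc_22_4 lc_d_rc_22_6 lc_d_rc_16_2 lc_d_rc_15_1 lc_d_rc_16_0 lc_d_rc_17_2 lc_d_rc_15_1 lc_d_rc_27_4 lc_d_rc_22_8 lc_d_rc_27_2 lc_d_rc_23_4 lc_d_rc_17_2 lc_d_rc_23_4 lc_d_rc_17_2 lc_d_rc_27_4 lc_d_rc_27_4 lc_d_rc_15_1 lc_d_rc_15_1 lc_d_rc_15_1 lc_d_rc_17_2 lc_d_rc_22_4 lc_d_rc_8_3 lc_d_rc_15_1 lc_d_rc_22_4 lc_d_rc_23_4 lc_d_rc_15_1 lc_d_rc_15_1 lc_d_rc_27_4 lc_d_rc_27_2 lc_d_rc_17_2 lc_d_rc_23_6 lc_d_rc_15_1 lc_d_rc_17_2 lc_d_rc_15_1 lc_d_rc_17_2 lc_d_rc_8_1)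 (@D3.rec (fun _ => (Cert rels S Gen.d)) lc_d_rc_15_1 lc_d_rc_25_2 lc_d_rc_15_1 lc_d_rc_3_3 lc_d_rc_15_1 lc_d_rc_12_1 lc_d_rc_15_1 lc_d_rc_15_1 lc_d_rc_23_4 lc_d_rc_23_2 lc_d_rc_15_1 lc_d_rc_3_3 lc_d_rc_8_3 lc_d_rc_3_3 lc_d_rc_27_4 lc_d_rc_15_1 lc_d_rc_27_4 lc_d_rc_27_2 lc_d_rc_27_2 lc_d_rc_16_0 lc_d_rc_24_0 lc_d_rc_22_2 lc_d_rc_15_1 lc_d_rc_15_1 lc_d_rc_15_1 lc_d_rc_16_4 lc_d_rc_8_1 lc_d_rc_15_1 lc_d_rc_15_1 lc_d_rc_15_1 lc_d_rc_8_1 lc_d_rc_3_1 lc_d_rc_15_1 lc_d_rc_22_8 lc_d_rc_24_5 lc_d_rc_23_4 lc_d_Cert_tree lc_d_rc_15_1 lc_d_rc_25_2 lc_d_rc_15_1 lc_d_rc_15_1 lc_d_rc_15_1 lc_d_rc_16_4 lc_d_rc_16_2 lc_d_rc_22_2 lc_d_rc_27_8 lc_d_rc_15_1 lc_d_rc_15_1 lc_d_rc_16_4 lc_d_rc_15_1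 lc_d_rc_8_1 lc_d_rc_15_1 lc_d_rc_27_4 lc_d_rc_22_4 lc_d_rc_27_4 lc_d_rc_22_6 lc_d_rc_27_4 lc_d_rc_25_6 lc_d_rc_8_3 lc_d_rc_15_1 lc_d_rc_23_6 lc_d_rc_15_1) (@D3.rec (fun _ => (Cert rels S Gen.d)) lc_d_rc_22_2 lc_d_rc_15_1 lc_d_rc_15_1 lc_d_rc_8_1 lc_d_rc_15_1 lc_d_rc_15_1 lc_d_rc_15_1 lc_d_rc_22_4 lc_d_rc_8_3 lc_d_rc_17_2 lc_d_rc_8_1 lc_d_rc_8_1 lc_d_rc_16_2 lc_d_rc_27_4 lc_d_rc_27_2 lc_d_rc_16_0 lc_d_rc_22_6 lc_d_rc_22_4 lc_d_rc_25_6 lc_d_rc_8_3 lc_d_rc_15_1 lc_d_rc_8_3 lc_d_rc_15_1 lc_d_rc_8_3 lc_d_rc_17_2 lc_d_rc_15_1 lc_d_rc_16_2 lc_d_rc_15_1 lc_d_rc_15_1 lc_d_rc_22_8 lc_d_rc_24_5 lc_d_rc_8_1 lc_d_rc_8_3 lc_d_rc_15_1 lc_d_rc_27_4 lc_d_rc_27_4 lc_d_rc_24_0 lc_d_rc_3_1 lc_d_rc_27_8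 lc_d_rc_12_1 lc_d_rc_3_3 lc_d_rc_15_1 lc_d_rc_15_1 lc_d_rc_23_4 lc_d_rc_22_2 lc_d_rc_8_1 lc_d_rc_15_1 lc_d_rc_27_2 lc_d_rc_15_1 lc_d_rc_23_4 lc_d_rc_15_1 lc_d_rc_16_4 lc_d_rc_17_0 lc_d_rc_15_1 lc_d_rc_15_1 lc_d_rc_15_1 lc_d_rc_22_4 lc_d_rc_15_1 lc_d_rc_22_4 lc_d_rc_16_4 lc_d_rc_8_3 lc_d_rc_15_1) (@D3.rec (fun _ => (Cert rels S Gen.d)) lc_d_rc_15_1 lc_d_rc_15_1 lc_d_rc_15_1 lc_d_rc_16_0 lc_d_rc_8_3 lc_d_rc_15_1 lc_d_rc_16_4 lc_d_rc_27_4 lc_d_rc_27_8 lc_d_rc_22_4 lc_d_rc_22_2 lc_d_rc_8_3 lc_d_rc_22_2 lc_d_rc_22_6 lc_d_rc_17_2 lc_d_rc_3_3 lc_d_rc_16_4 lc_d_rc_22_4 lc_d_rc_24_5 lc_d_rc_27_2 lc_d_rc_25_6 lc_d_rc_15_1 lc_d_rc_3_3 lc_d_rc_25_2 lc_d_rc_25_2 lc_d_rc_15_1 lc_d_rc_16_4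 lc_d_rc_22_2 lc_d_rc_15_1 lc_d_rc_23_6 lc_d_rc_23_6 lc_d_rc_24_5 lc_d_rc_27_4 lc_d_rc_24_5 lc_d_rc_8_3 lc_d_rc_15_1 lc_d_rc_22_4 lc_d_rc_23_6 lc_d_rc_16_0 lc_d_rc_17_2 lc_d_rc_8_3 lc_d_Cert_tree lc_d_rc_15_1 lc_d_Cert_tree lc_d_rc_15_1 lc_d_rc_8_1 lc_d_rc_22_8 lc_d_rc_17_2 lc_d_rc_16_4 lc_d_rc_8_3 lc_d_rc_16_4 lc_d_rc_15_1 lc_d_rc_8_3 lc_d_rc_8_3 lc_d_rc_25_2 lc_d_rc_16_0 lc_d_rc_3_1 lc_d_rc_15_1 lc_d_rc_17_0 lc_d_rc_22_2 lc_d_rc_22_6 lc_d_rc_27_2) (@D3.rec (fun _ => (Cert rels S Gen.d)) lc_d_rc_8_3 lc_d_rc_8_3 lc_d_rc_15_1 lc_d_rc_17_2 lc_d_rc_23_8 lc_d_rc_22_6 lc_d_rc_3_3 lc_d_rc_8_1 lc_d_rc_27_10 lc_d_rc_16_0 lc_d_rc_17_2 lc_d_rc_15_1 lc_d_rc_17_2 lc_d_rc_24_0 lc_d_rc_25_10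 lc_d_rc_16_0 lc_d_rc_22_6 lc_d_rc_16_2 lc_d_rc_23_6 lc_d_rc_15_1 lc_d_rc_22_2 lc_d_rc_15_1 lc_d_rc_27_2 lc_d_rc_16_0 lc_d_rc_15_1 lc_d_rc_24_0 lc_d_rc_3_3 lc_d_rc_15_1 lc_d_rc_17_2 lc_d_Cert_tree lc_d_rc_22_6 lc_d_rc_15_1 lc_d_rc_23_2 lc_d_rc_27_4 lc_d_rc_23_6 lc_d_Cert_tree lc_d_Cert_tree lc_d_rc_15_1 lc_d_rc_15_1 lc_d_rc_22_8 lc_d_rc_8_3 lc_d_rc_8_3 lc_d_rc_8_3 lc_d_rc_24_0 lc_d_rc_23_8 lc_d_rc_16_2 lc_d_rc_27_2 lc_d_rc_15_1 lc_d_rc_27_2 lc_d_rc_16_2 lc_d_rc_24_0 lc_d_rc_15_1 lc_d_rc_22_4 lc_d_rc_23_6 lc_d_rc_8_3 lc_d_rc_3_3 lc_d_rc_27_8 lc_d_rc_22_4 lc_d_rc_3_3 lc_d_rc_16_4 lc_d_rc_16_4 lc_d_rc_15_1) (@D3.rec (fun _ => (Cert rels S Gen.d)) lc_d_rc_22_4 lc_d_rc_16_4 lc_d_rc_8_3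 lc_d_rc_15_1 lc_d_rc_15_1 lc_d_rc_8_3 lc_d_rc_15_1 lc_d_rc_15_1 lc_d_rc_22_4 lc_d_rc_23_2 lc_d_rc_15_1 lc_d_rc_15_1 lc_d_rc_27_4 lc_d_rc_15_1 lc_d_Cert_tree lc_d_rc_15_1 lc_d_rc_22_2 lc_d_rc_15_1 lc_d_rc_27_2 lc_d_rc_16_0 lc_d_rc_16_4 lc_d_rc_23_6 lc_d_rc_8_3 lc_d_rc_22_4 lc_d_rc_27_2 lc_d_rc_15_1 lc_d_rc_25_2 lc_d_rc_15_1 lc_d_rc_25_18 lc_d_rc_15_1 lc_d_rc_15_1 lc_d_rc_15_1 lc_d_Cert_tree lc_d_rc_17_2 lc_d_rc_25_2 lc_d_rc_23_8 lc_d_rc_27_4 lc_d_rc_15_1 lc_d_rc_27_10 lc_d_rc_16_4 lc_d_rc_8_3 lc_d_rc_15_1 lc_d_rc_8_3 lc_d_rc_15_1 lc_d_rc_12_1 lc_d_rc_27_2 lc_d_rc_8_1 lc_d_rc_12_15 lc_d_rc_12_1 lc_d_rc_23_4 lc_d_rc_22_4 lc_d_rc_15_1 lc_d_rc_22_4 lc_d_rc_16_4 lc_d_rc_22_2 lc_d_rc_3_3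 lc_d_rc_15_1 lc_d_rc_3_1 lc_d_rc_8_3 lc_d_rc_17_2 lc_d_rc_16_4 lc_d_rc_15_1) (@D3.rec (fun _ => (Cert rels S Gen.d)) lc_d_rc_15_1 lc_d_rc_8_1 lc_d_rc_15_1 lc_d_rc_16_2 lc_d_rc_15_1 lc_d_rc_15_1 lc_d_rc_15_1 lc_d_Cert_tree lc_d_rc_3_1 lc_d_rc_15_1 lc_d_rc_8_3 lc_d_rc_16_0 lc_d_rc_15_1 lc_d_rc_16_4 lc_d_rc_3_3 lc_d_rc_23_6 lc_d_rc_24_0 lc_d_rc_22_2 lc_d_rc_16_2 lc_d_rc_15_1 lc_d_rc_22_2 lc_d_Cert_tree lc_d_rc_15_1 lc_d_rc_23_6 lc_d_rc_3_1 lc_d_rc_23_2 lc_d_rc_24_5 lc_d_rc_15_1 lc_d_rc_16_2 lc_d_rc_17_0 lc_d_rc_22_8 lc_d_rc_16_4 lc_d_rc_15_1 lc_d_rc_15_1 lc_d_rc_15_1 lc_d_rc_23_6 lc_d_rc_24_0 lc_d_rc_24_5 lc_d_rc_15_1 lc_d_rc_24_0 lc_d_rc_15_1 lc_d_rc_3_3 lc_d_rc_17_2 lc_d_rc_22_6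 lc_d_rc_16_2 lc_d_rc_25_14 lc_d_rc_12_1 lc_d_rc_27_2 lc_d_rc_22_4 lc_d_rc_24_5 lc_d_rc_15_1 lc_d_rc_23_4 lc_d_rc_16_4 lc_d_rc_23_4 lc_d_rc_15_1 lc_d_rc_15_1 lc_d_rc_16_2 lc_d_rc_16_2 lc_d_rc_17_2 lc_d_rc_15_1 lc_d_rc_23_6 lc_d_rc_15_1) (@D3.rec (fun _ => (Cert rels S Gen.d)) lc_d_rc_15_1 lc_d_rc_8_3 lc_d_rc_23_8 lc_d_rc_27_4 lc_d_rc_27_10 lc_d_rc_16_0 lc_d_rc_25_2 lc_d_rc_8_3 lc_d_rc_16_2 lc_d_rc_16_4 lc_d_rc_15_1 lc_d_rc_22_6 lc_d_rc_17_0 lc_d_rc_22_6 lc_d_rc_22_6 lc_d_rc_8_1 lc_d_rc_15_1 lc_d_rc_22_2 lc_d_rc_27_2 lc_d_rc_15_1 lc_d_rc_24_0 lc_d_rc_22_6 lc_d_rc_8_3 lc_d_rc_15_1 lc_d_rc_16_0 lc_d_rc_22_8 lc_d_rc_27_4 lc_d_rc_15_1 lc_d_rc_22_4 lc_d_rc_3_3 lc_d_rc_8_3 lc_d_rc_15_1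 lc_d_rc_16_4 lc_d_rc_3_1 lc_d_rc_3_1 lc_d_rc_22_8 lc_d_rc_17_2 lc_d_rc_8_3 lc_d_rc_8_3 lc_d_rc_27_2 lc_d_rc_25_2 lc_d_rc_25_2 lc_d_rc_27_4 lc_d_rc_15_1 lc_d_rc_15_1 lc_d_rc_16_4 lc_d_rc_15_1 lc_d_rc_27_10 lc_d_rc_16_2 lc_d_rc_16_4 lc_d_rc_8_3 lc_d_rc_22_6 lc_d_rc_8_3 lc_d_rc_27_2 lc_d_rc_24_0 lc_d_rc_15_1 lc_d_rc_12_15 lc_d_rc_27_8 lc_d_rc_15_1 lc_d_rc_15_1 lc_d_rc_16_0 lc_d_rc_15_1) (@D3.rec (fun _ => (Cert rels S Gen.d)) lc_d_rc_8_3 lc_d_rc_27_8 lc_d_rc_23_2 lc_d_rc_24_0 lc_d_rc_15_1 lc_d_rc_16_0 lc_d_rc_15_1 lc_d_rc_12_15 lc_d_rc_8_3 lc_d_rc_23_4 lc_d_rc_15_1 lc_d_rc_8_3 lc_d_rc_23_4 lc_d_rc_27_2 lc_d_rc_8_3 lc_d_rc_17_2 lc_d_rc_8_3 lc_d_rc_23_8 lc_d_rc_12_3 lc_d_rc_15_1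 lc_d_rc_23_4 lc_d_rc_8_3 lc_d_rc_27_10 lc_d_rc_17_2 lc_d_rc_23_8 lc_d_rc_27_2 lc_d_rc_17_0 lc_d_rc_23_4 lc_d_rc_15_1 lc_d_rc_16_4 lc_d_rc_15_1 lc_d_rc_17_0 lc_d_rc_15_1 lc_d_rc_27_2 lc_d_rc_15_1 lc_d_rc_27_4 lc_d_rc_15_1 lc_d_rc_23_2 lc_d_rc_27_4 lc_d_rc_17_0 lc_d_rc_24_5 lc_d_rc_25_14 lc_d_rc_15_1 lc_d_rc_27_8 lc_d_rc_25_18 lc_d_rc_8_3 lc_d_rc_15_1 lc_d_rc_15_1 lc_d_rc_15_1 lc_d_rc_27_4 lc_d_rc_22_6 lc_d_rc_16_0 lc_d_rc_24_0 lc_d_rc_8_3 lc_d_rc_15_1 lc_d_rc_23_4 lc_d_rc_15_1 lc_d_rc_16_4 lc_d_rc_22_6 lc_d_rc_16_4 lc_d_rc_8_3 lc_d_rc_15_1) (@D3.rec (fun _ => (Cert rels S Gen.d)) lc_d_rc_16_0 lc_d_rc_17_2 lc_d_rc_8_3 lc_d_rc_22_2 lc_d_rc_15_1 lc_d_rc_25_6 lc_d_rc_23_6 lc_d_rc_23_4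 lc_d_rc_16_4 lc_d_rc_23_8 lc_d_rc_15_1 lc_d_rc_27_4 lc_d_rc_15_1 lc_d_rc_25_6 lc_d_rc_15_1 lc_d_rc_8_3 lc_d_rc_22_2 lc_d_rc_15_1 lc_d_rc_15_1 lc_d_rc_17_2 lc_d_rc_16_2 lc_d_rc_15_1 lc_d_rc_16_4 lc_d_rc_22_4 lc_d_rc_15_1 lc_d_rc_16_4 lc_d_rc_8_3 lc_d_rc_27_2 lc_d_rc_8_1 lc_d_rc_27_8 lc_d_rc_8_3 lc_d_rc_15_1 lc_d_rc_22_4 lc_d_rc_23_4 lc_d_rc_27_4 lc_d_rc_17_2 lc_d_rc_15_1 lc_d_rc_17_2 lc_d_rc_24_0 lc_d_rc_8_3 lc_d_rc_15_1 lc_d_rc_8_3 lc_d_Cert_tree lc_d_rc_23_6 lc_d_rc_24_0 lc_d_rc_8_3 lc_d_rc_25_2 lc_d_rc_23_4 lc_d_rc_27_8 lc_d_rc_27_4 lc_d_rc_27_4 lc_d_rc_22_6 lc_d_rc_17_2 lc_d_rc_8_3 lc_d_rc_15_1 lc_d_rc_22_6 lc_d_rc_16_2 lc_d_rc_15_1 lc_d_rc_22_4 lc_d_rc_22_4 lc_d_rc_8_3 lc_d_rc_23_6)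 (@D3.rec (fun _ => (Cert rels S Gen.d)) lc_d_rc_3_3 lc_d_rc_23_4 lc_d_rc_24_0 lc_d_rc_8_3 lc_d_rc_15_1 lc_d_rc_16_4 lc_d_rc_22_4 lc_d_rc_8_1 lc_d_rc_15_1 lc_d_rc_8_3 lc_d_rc_8_1 lc_d_rc_16_2 lc_d_rc_8_1 lc_d_rc_15_1 lc_d_rc_12_15 lc_d_rc_8_1 lc_d_rc_15_1 lc_d_rc_27_2 lc_d_rc_8_1 lc_d_rc_22_4 lc_d_rc_3_3 lc_d_rc_15_1 lc_d_rc_27_4 lc_d_rc_3_3 lc_d_rc_8_3 lc_d_rc_16_4 lc_d_rc_15_1 lc_d_rc_17_0 lc_d_rc_25_2 lc_d_rc_15_1 lc_d_rc_23_6 lc_d_rc_8_1 lc_d_rc_15_1 lc_d_rc_23_2 lc_d_rc_15_1 lc_d_rc_15_1 lc_d_rc_23_4 lc_d_rc_8_1 lc_d_rc_15_1 lc_d_rc_8_3 lc_d_rc_8_1 lc_d_rc_16_4 lc_d_rc_24_5 lc_d_rc_25_18 lc_d_rc_25_2 lc_d_rc_17_2 lc_d_rc_22_4 lc_d_rc_3_3 lc_d_rc_27_2 lc_d_rc_15_1 lc_d_rc_15_1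 lc_d_rc_22_2 lc_d_rc_8_3 lc_d_rc_8_1 lc_d_rc_24_5 lc_d_rc_15_1 lc_d_rc_15_1 lc_d_rc_15_1 lc_d_rc_8_1 lc_d_rc_22_6 lc_d_Cert_tree lc_d_rc_25_18) (@D3.rec (fun _ => (Cert rels S Gen.d)) lc_d_rc_22_8 lc_d_rc_8_1 lc_d_rc_25_14 lc_d_rc_22_2 lc_d_rc_8_1 lc_d_rc_15_1 lc_d_rc_3_3 lc_d_rc_15_1 lc_d_rc_15_1 lc_d_rc_15_1 lc_d_rc_15_1 lc_d_rc_15_1 lc_d_rc_3_1 lc_d_rc_22_6 lc_d_rc_15_1 lc_d_rc_24_5 lc_d_rc_3_3 lc_d_rc_27_2 lc_d_rc_27_2 lc_d_rc_24_0 lc_d_rc_17_2 lc_d_rc_16_4 lc_d_rc_15_1 lc_d_rc_8_3 lc_d_rc_15_1 lc_d_rc_3_1 lc_d_rc_16_4 lc_d_rc_8_3 lc_d_rc_16_0 lc_d_rc_15_1 lc_d_rc_17_2 lc_d_rc_15_1 lc_d_rc_15_1 lc_d_rc_15_1 lc_d_rc_27_4 lc_d_rc_15_1 lc_d_rc_15_1 lc_d_rc_15_1 lc_d_rc_23_2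 lc_d_rc_15_1 lc_d_rc_22_2 lc_d_rc_23_2 lc_d_rc_15_1 lc_d_rc_15_1 lc_d_rc_27_4 lc_d_rc_22_2 lc_d_rc_27_4 lc_d_rc_16_4 lc_d_rc_15_1 lc_d_rc_27_4 lc_d_rc_15_1 lc_d_rc_22_4 lc_d_rc_22_6 lc_d_rc_15_1 lc_d_rc_27_4 lc_d_rc_8_3 lc_d_rc_24_0 lc_d_rc_3_3 lc_d_rc_27_8 lc_d_rc_17_2 lc_d_rc_17_2 lc_d_rc_27_4) (@D3.rec (fun _ => (Cert rels S Gen.d)) lc_d_rc_15_1 lc_d_rc_23_8 lc_d_rc_8_1 lc_d_rc_8_1 lc_d_rc_15_1 lc_d_rc_3_3 lc_d_rc_16_4 lc_d_rc_27_2 lc_d_rc_8_3 lc_d_rc_24_0 lc_d_rc_3_3 lc_d_rc_3_3 lc_d_rc_17_2 lc_d_rc_15_1 lc_d_rc_8_3 lc_d_rc_16_4 lc_d_rc_16_2 lc_d_rc_25_6 lc_d_rc_24_0 lc_d_rc_15_1 lc_d_rc_27_4 lc_d_rc_15_1 lc_d_rc_22_8 lc_d_rc_16_2 lc_d_rc_8_1 lc_d_rc_27_8 lc_d_rc_17_2 lc_d_rc_16_4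 lc_d_rc_27_4 lc_d_rc_8_3 lc_d_rc_24_0 lc_d_rc_27_8 lc_d_rc_8_3 lc_d_rc_8_3 lc_d_rc_15_1 lc_d_rc_8_3 lc_d_rc_22_6 lc_d_rc_17_2 lc_d_rc_23_6 lc_d_rc_15_1 lc_d_rc_15_1 lc_d_rc_17_2 lc_d_rc_23_8 lc_d_rc_15_1 lc_d_rc_12_15 lc_d_rc_22_4 lc_d_rc_15_1 lc_d_rc_3_3 lc_d_rc_15_1 lc_d_rc_22_6 lc_d_rc_27_4 lc_d_rc_27_2 lc_d_rc_15_1 lc_d_rc_22_2 lc_d_rc_17_2 lc_d_rc_8_1 lc_d_rc_22_8 lc_d_rc_17_0 lc_d_rc_15_1 lc_d_rc_24_5 lc_d_Cert_tree lc_d_rc_15_1) (@D3.rec (fun _ => (Cert rels S Gen.d)) lc_d_rc_15_1 lc_d_rc_3_3 lc_d_rc_15_1 lc_d_rc_15_1 lc_d_rc_17_2 lc_d_rc_27_8 lc_d_rc_15_1 lc_d_rc_15_1 lc_d_rc_16_2 lc_d_rc_8_1 lc_d_rc_15_1 lc_d_rc_15_1 lc_d_rc_15_1 lc_d_rc_15_1 lc_d_rc_27_4 lc_d_rc_16_2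 lc_d_rc_16_4 lc_d_rc_24_5 lc_d_rc_16_4 lc_d_rc_15_1 lc_d_rc_27_4 lc_d_rc_15_1 lc_d_rc_15_1 lc_d_rc_27_2 lc_d_rc_15_1 lc_d_rc_8_1 lc_d_rc_15_1 lc_d_rc_25_18 lc_d_rc_16_4 lc_d_rc_23_8 lc_d_rc_15_1 lc_d_rc_15_1 lc_d_rc_15_1 lc_d_rc_15_1 lc_d_rc_15_1 lc_d_rc_15_1 lc_d_rc_17_2 lc_d_rc_16_4 lc_d_rc_23_4 lc_d_rc_8_3 lc_d_rc_22_4 lc_d_rc_15_1 lc_d_rc_23_2 lc_d_rc_22_8 lc_d_rc_27_8 lc_d_rc_24_0 lc_d_rc_15_1 lc_d_rc_24_0 lc_d_rc_16_2 lc_d_rc_16_4 lc_d_rc_23_4 lc_d_rc_12_5 lc_d_rc_17_2 lc_d_rc_23_8 lc_d_rc_23_2 lc_d_rc_8_3 lc_d_rc_15_1 lc_d_rc_8_3 lc_d_Cert_tree lc_d_rc_15_1 lc_d_rc_15_1 lc_d_rc_15_1) (@D3.rec (fun _ => (Cert rels S Gen.d)) lc_d_rc_24_0 lc_d_rc_24_0 lc_d_rc_15_1 lc_d_rc_24_5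 lc_d_rc_15_1 lc_d_rc_15_1 lc_d_rc_15_1 lc_d_rc_24_5 lc_d_rc_16_2 lc_d_rc_15_1 lc_d_rc_22_6 lc_d_rc_17_2 lc_d_rc_15_1 lc_d_rc_24_5 lc_d_rc_23_2 lc_d_rc_8_1 lc_d_rc_15_1 lc_d_rc_17_2 lc_d_rc_27_10 lc_d_rc_15_1 lc_d_rc_22_8 lc_d_rc_15_1 lc_d_rc_15_1 lc_d_rc_22_2 lc_d_rc_23_2 lc_d_rc_23_2 lc_d_rc_15_1 lc_d_rc_15_1 lc_d_rc_23_2 lc_d_rc_15_1 lc_d_rc_23_4 lc_d_rc_8_1 lc_d_rc_15_1 lc_d_rc_15_1 lc_d_rc_15_1 lc_d_rc_15_1 lc_d_rc_15_1 lc_d_rc_15_1 lc_d_rc_15_1 lc_d_rc_8_3 lc_d_rc_16_4 lc_d_rc_15_1 lc_d_rc_15_1 lc_d_rc_15_1 lc_d_rc_15_1 lc_d_rc_17_2 lc_d_rc_27_8 lc_d_rc_15_1 lc_d_rc_16_4 lc_d_rc_27_10 lc_d_rc_25_2 lc_d_rc_17_2 lc_d_rc_25_6 lc_d_rc_24_0 lc_d_rc_8_1 lc_d_rc_15_1 lc_d_rc_27_10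 lc_d_rc_15_1 lc_d_rc_3_1 lc_d_rc_24_5 lc_d_rc_16_0 lc_d_rc_15_1) (@D3.rec (fun _ => (Cert rels S Gen.d)) lc_d_rc_27_8 lc_d_rc_15_1 lc_d_rc_15_1 lc_d_rc_16_2 lc_d_rc_15_1 lc_d_rc_3_1 lc_d_rc_27_8 lc_d_rc_23_4 lc_d_rc_3_3 lc_d_rc_16_4 lc_d_rc_15_1 lc_d_rc_8_3 lc_d_rc_23_4 lc_d_rc_17_0 lc_d_rc_17_2 lc_d_rc_16_4 lc_d_rc_15_1 lc_d_rc_16_0 lc_d_rc_15_1 lc_d_rc_25_6 lc_d_rc_24_0 lc_d_rc_8_1 lc_d_rc_15_1 lc_d_rc_16_4 lc_d_rc_8_3 lc_d_rc_15_1 lc_d_rc_17_2 lc_d_rc_23_6 lc_d_rc_17_2 lc_d_rc_16_4 lc_d_rc_8_3 lc_d_Cert_tree lc_d_rc_24_0 lc_d_rc_15_1 lc_d_rc_15_1 lc_d_rc_27_8 lc_d_rc_15_1 lc_d_rc_27_2 lc_d_rc_27_4 lc_d_rc_27_4 lc_d_rc_23_2 lc_d_rc_15_1 lc_d_rc_17_2 lc_d_rc_25_6 lc_d_rc_15_1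 lc_d_rc_15_1 lc_d_rc_23_2 lc_d_rc_24_0 lc_d_rc_22_4 lc_d_rc_15_1 lc_d_rc_15_1 lc_d_rc_8_3 lc_d_rc_12_15 lc_d_rc_15_1 lc_d_rc_24_5 lc_d_rc_22_6 lc_d_rc_16_2 lc_d_rc_8_3 lc_d_rc_27_8 lc_d_rc_16_0 lc_d_rc_8_3 lc_d_rc_23_4) (@D3.rec (fun _ => (Cert rels S Gen.d)) lc_d_rc_15_1 lc_d_rc_17_2 lc_d_rc_8_3 lc_d_rc_15_1 lc_d_rc_15_1 lc_d_rc_15_1 lc_d_rc_15_1 lc_d_rc_23_4 lc_d_rc_16_4 lc_d_rc_3_1 lc_d_rc_24_5 lc_d_rc_15_1 lc_d_rc_27_10 lc_d_rc_15_1 lc_d_rc_27_2 lc_d_rc_27_10 lc_d_rc_22_4 lc_d_rc_15_1 lc_d_rc_24_0 lc_d_rc_16_0 lc_d_rc_16_4 lc_d_rc_17_0 lc_d_rc_3_1 lc_d_rc_15_1 lc_d_rc_12_1 lc_d_rc_22_2 lc_d_rc_22_6 lc_d_rc_25_18 lc_d_rc_15_1 lc_d_rc_25_18 lc_d_rc_15_1 lc_d_rc_15_1 lc_d_rc_27_8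 lc_d_rc_15_1 lc_d_rc_15_1 lc_d_rc_22_2 lc_d_rc_15_1 lc_d_rc_23_4 lc_d_rc_27_4 lc_d_rc_8_1 lc_d_rc_23_4 lc_d_rc_16_4 lc_d_rc_25_6 lc_d_rc_15_1 lc_d_rc_22_6 lc_d_rc_27_2 lc_d_rc_17_2 lc_d_rc_15_1 lc_d_rc_3_3 lc_d_rc_27_10 lc_d_rc_15_1 lc_d_rc_15_1 lc_d_rc_25_6 lc_d_rc_8_1 lc_d_rc_15_1 lc_d_rc_15_1 lc_d_rc_15_1 lc_d_rc_22_8 lc_d_rc_27_8 lc_d_rc_15_1 lc_d_rc_23_8 lc_d_rc_24_5) (@D3.rec (fun _ => (Cert rels S Gen.d)) lc_d_rc_15_1 lc_d_rc_23_4 lc_d_rc_27_4 lc_d_rc_23_4 lc_d_rc_15_1 lc_d_rc_24_0 lc_d_rc_27_2 lc_d_rc_27_8 lc_d_rc_15_1 lc_d_rc_15_1 lc_d_rc_3_1 lc_d_rc_22_4 lc_d_rc_8_3 lc_d_rc_3_3 lc_d_rc_27_2 lc_d_rc_8_3 lc_d_rc_16_0 lc_d_rc_15_1 lc_d_rc_22_4 lc_d_rc_15_1 lc_d_rc_15_1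 lc_d_rc_24_0 lc_d_rc_16_4 lc_d_rc_15_1 lc_d_rc_15_1 lc_d_rc_15_1 lc_d_rc_17_2 lc_d_rc_3_1 lc_d_rc_8_3 lc_d_rc_3_3 lc_d_rc_8_3 lc_d_rc_15_1 lc_d_rc_17_2 lc_d_rc_16_4 lc_d_rc_27_2 lc_d_rc_15_1 lc_d_rc_8_3 lc_d_rc_8_3 lc_d_rc_16_0 lc_d_rc_27_2 lc_d_rc_27_10 lc_d_rc_15_1 lc_d_rc_17_2 lc_d_rc_24_0 lc_d_rc_3_3 lc_d_rc_15_1 lc_d_rc_22_2 lc_d_rc_8_1 lc_d_rc_8_3 lc_d_rc_15_1 lc_d_rc_24_5 lc_d_rc_15_1 lc_d_rc_22_6 lc_d_rc_8_1 lc_d_rc_15_1 lc_d_rc_12_1 lc_d_rc_23_2 lc_d_rc_15_1 lc_d_rc_15_1 lc_d_rc_16_4 lc_d_rc_15_1 lc_d_rc_16_4) (@D3.rec (fun _ => (Cert rels S Gen.d)) lc_d_rc_15_1 lc_d_rc_27_4 lc_d_rc_15_1 lc_d_rc_22_6 lc_d_rc_15_1 lc_d_rc_12_1 lc_d_rc_15_1 lc_d_rc_8_3 lc_d_rc_23_2 lc_d_rc_15_1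 lc_d_rc_15_1 lc_d_rc_15_1 lc_d_rc_27_2 lc_d_rc_15_1 lc_d_rc_27_2 lc_d_rc_22_8 lc_d_rc_15_1 lc_d_rc_16_2 lc_d_rc_3_3 lc_d_rc_27_8 lc_d_rc_8_1 lc_d_rc_22_6 lc_d_rc_15_1 lc_d_rc_24_0 lc_d_rc_15_1 lc_d_rc_3_3 lc_d_rc_23_4 lc_d_rc_15_1 lc_d_rc_15_1 lc_d_rc_22_4 lc_d_rc_15_1 lc_d_rc_17_0 lc_d_rc_8_3 lc_d_rc_15_1 lc_d_rc_3_3 lc_d_rc_8_3 lc_d_rc_27_4 lc_d_rc_15_1 lc_d_rc_16_0 lc_d_rc_25_2 lc_d_rc_15_1 lc_d_rc_15_1 lc_d_rc_15_1 lc_d_rc_15_1 lc_d_rc_15_1 lc_d_rc_23_4 lc_d_rc_15_1 lc_d_rc_3_3 lc_d_rc_8_3 lc_d_rc_24_0 lc_d_rc_15_1 lc_d_rc_22_6 lc_d_rc_16_4 lc_d_rc_8_3 lc_d_rc_22_6 lc_d_rc_15_1 lc_d_rc_27_4 lc_d_rc_24_0 lc_d_rc_25_2 lc_d_rc_15_1 lc_d_rc_22_4 lc_d_rc_22_4) (@D3.rec (fun _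 => (Cert rels S Gen.d)) lc_d_rc_16_2 lc_d_Cert_tree lc_d_rc_15_1 lc_d_rc_15_1 lc_d_Cert_tree lc_d_rc_15_1 lc_d_rc_8_1 lc_d_rc_15_1 lc_d_Cert_tree lc_d_rc_15_1 lc_d_rc_15_1 lc_d_rc_25_6 lc_d_Cert_tree lc_d_rc_15_1 lc_d_rc_27_4 lc_d_rc_15_1 lc_d_rc_3_1 lc_d_rc_24_0 lc_d_rc_17_2 lc_d_rc_8_3 lc_d_rc_27_2 lc_d_rc_23_8 lc_d_rc_16_0 lc_d_rc_15_1 lc_d_rc_22_4 lc_d_rc_24_0 lc_d_Cert_tree lc_d_Cert_tree lc_d_rc_15_1 lc_d_rc_16_2 lc_d_rc_25_2 lc_d_rc_15_1 lc_d_rc_15_1 lc_d_rc_15_1 lc_d_rc_8_1 lc_d_rc_15_1 lc_d_Cert_tree lc_d_rc_15_1 lc_d_rc_22_6 lc_d_rc_12_15 lc_d_rc_8_3 lc_d_rc_16_4 lc_d_rc_27_2 lc_d_rc_27_8 lc_d_rc_24_0 lc_d_rc_22_2 lc_d_rc_15_1 lc_d_rc_3_1 lc_d_rc_17_0 lc_d_rc_15_1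 lc_d_rc_15_1 lc_d_rc_24_0 lc_d_rc_15_1 lc_d_rc_17_2 lc_d_rc_8_1 lc_d_rc_15_1 lc_d_rc_27_4 lc_d_rc_15_1 lc_d_rc_8_3 lc_d_rc_15_1 lc_d_rc_17_2 lc_d_rc_15_1) (@D3.rec (fun _ => (Cert rels S Gen.d)) lc_d_rc_22_6 lc_d_rc_16_4 lc_d_rc_23_2 lc_d_rc_16_4 lc_d_rc_8_3 lc_d_rc_16_4 lc_d_rc_8_3 lc_d_rc_15_1 lc_d_rc_8_3 lc_d_rc_8_3 lc_d_rc_8_3 lc_d_rc_27_4 lc_d_rc_15_1 lc_d_rc_15_1 lc_d_rc_17_2 lc_d_rc_16_2 lc_d_rc_15_1 lc_d_rc_15_1 lc_d_rc_27_8 lc_d_rc_17_2 lc_d_rc_16_4 lc_d_rc_22_6 lc_d_Cert_tree lc_d_rc_22_4 lc_d_rc_15_1 lc_d_rc_15_1 lc_d_rc_16_2 lc_d_rc_15_1 lc_d_rc_16_2 lc_d_rc_16_0 lc_d_rc_15_1 lc_d_rc_27_4 lc_d_rc_23_6 lc_d_rc_15_1 lc_d_rc_22_2 lc_d_rc_22_4 lc_d_rc_12_15 lc_d_rc_23_2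 lc_d_rc_16_2 lc_d_rc_27_4 lc_d_rc_15_1 lc_d_rc_17_2 lc_d_rc_3_3 lc_d_rc_15_1 lc_d_rc_23_8 lc_d_rc_15_1 lc_d_rc_8_3 lc_d_rc_23_8 lc_d_rc_22_2 lc_d_rc_15_1 lc_d_rc_23_4 lc_d_rc_27_4 lc_d_rc_24_0 lc_d_rc_22_4 lc_d_rc_27_4 lc_d_rc_22_6 lc_d_rc_8_3 lc_d_rc_8_3 lc_d_rc_15_1 lc_d_rc_15_1 lc_d_rc_16_2 lc_d_rc_15_1) (@D3.rec (fun _ => (Cert rels S Gen.d)) lc_d_rc_16_2 lc_d_rc_15_1 lc_d_rc_15_1 lc_d_rc_15_1 lc_d_rc_15_1 lc_d_rc_16_2 lc_d_rc_23_6 lc_d_rc_17_0 lc_d_rc_22_4 lc_d_rc_15_1 lc_d_rc_15_1 lc_d_Cert_tree lc_d_rc_15_1 lc_d_rc_15_1 lc_d_rc_15_1 lc_d_rc_17_2 lc_d_rc_24_0 lc_d_rc_12_1 lc_d_rc_15_1 lc_d_rc_16_4 lc_d_rc_16_4 lc_d_rc_27_4 lc_d_rc_23_2 lc_d_rc_27_8 lc_d_rc_15_1 lc_d_rc_27_4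 lc_d_rc_15_1 lc_d_rc_22_2 lc_d_rc_15_1 lc_d_rc_22_2 lc_d_rc_23_8 lc_d_rc_22_2 lc_d_rc_15_1 lc_d_rc_15_1 lc_d_rc_27_4 lc_d_rc_22_2 lc_d_rc_15_1 lc_d_rc_16_2 lc_d_rc_8_3 lc_d_rc_24_5 lc_d_rc_15_1 lc_d_rc_22_4 lc_d_rc_24_0 lc_d_rc_22_6 lc_d_rc_24_0 lc_d_rc_27_4 lc_d_rc_22_4 lc_d_rc_25_2 lc_d_rc_15_1 lc_d_rc_24_0 lc_d_rc_23_2 lc_d_rc_15_1 lc_d_rc_27_4 lc_d_rc_8_3 lc_d_rc_8_1 lc_d_rc_22_4 lc_d_rc_8_3 lc_d_rc_15_1 lc_d_rc_15_1 lc_d_rc_15_1 lc_d_rc_15_1 lc_d_rc_15_1) (@D3.rec (fun _ => (Cert rels S Gen.d)) lc_d_rc_15_1 lc_d_rc_15_1 lc_d_rc_27_4 lc_d_rc_15_1 lc_d_rc_15_1 lc_d_rc_23_6 lc_d_rc_15_1 lc_d_rc_17_2 lc_d_rc_17_2 lc_d_rc_15_1 lc_d_rc_23_6 lc_d_rc_16_2 lc_d_rc_15_1 lc_d_rc_8_3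 lc_d_rc_17_2 lc_d_rc_17_2 lc_d_rc_27_4 lc_d_rc_16_4 lc_d_rc_23_4 lc_d_rc_15_1 lc_d_rc_22_6 lc_d_rc_8_3 lc_d_rc_8_3 lc_d_rc_27_2 lc_d_rc_23_2 lc_d_rc_8_3 lc_d_rc_22_4 lc_d_rc_15_1 lc_d_rc_27_4 lc_d_rc_24_0 lc_d_rc_27_2 lc_d_rc_22_8 lc_d_rc_3_3 lc_d_rc_15_1 lc_d_rc_8_1 lc_d_rc_22_6 lc_d_rc_23_4 lc_d_rc_8_3 lc_d_rc_16_4 lc_d_rc_27_4 lc_d_rc_16_4 lc_d_rc_23_6 lc_d_rc_17_2 lc_d_rc_23_4 lc_d_rc_27_2 lc_d_rc_3_3 lc_d_rc_8_3 lc_d_rc_17_0 lc_d_rc_23_4 lc_d_rc_8_3 lc_d_rc_15_1 lc_d_rc_15_1 lc_d_rc_27_10 lc_d_rc_8_3 lc_d_rc_15_1 lc_d_rc_15_1 lc_d_rc_27_4 lc_d_rc_15_1 lc_d_rc_24_5 lc_d_rc_12_3 lc_d_rc_16_4 lc_d_rc_27_4) (@D3.rec (fun _ => (Cert rels S Gen.d)) lc_d_rc_15_1 lc_d_rc_8_1 lc_d_rc_27_2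 lc_d_rc_27_4 lc_d_rc_17_2 lc_d_rc_23_6 lc_d_rc_16_4 lc_d_rc_23_4 lc_d_rc_22_2 lc_d_rc_27_2 lc_d_rc_8_1 lc_d_rc_22_6 lc_d_rc_3_1 lc_d_rc_23_2 lc_d_rc_23_2 lc_d_rc_15_1 lc_d_rc_16_4 lc_d_rc_16_4 lc_d_rc_8_3 lc_d_rc_16_4 lc_d_rc_15_1 lc_d_rc_27_4 lc_d_rc_15_1 lc_d_rc_15_1 lc_d_rc_15_1 lc_d_rc_17_2 lc_d_rc_27_2 lc_d_rc_3_3 lc_d_rc_24_5 lc_d_rc_15_1 lc_d_rc_24_5 lc_d_rc_23_4 lc_d_rc_8_1 lc_d_rc_15_1 lc_d_rc_15_1 lc_d_rc_17_2 lc_d_rc_15_1 lc_d_rc_3_3 lc_d_rc_15_1 lc_d_rc_17_2 lc_d_rc_16_2 lc_d_rc_24_5 lc_d_rc_15_1 lc_d_rc_24_5 lc_d_rc_15_1 lc_d_rc_15_1 lc_d_rc_15_1 lc_d_rc_8_1 lc_d_rc_16_2 lc_d_rc_15_1 lc_d_rc_16_0 lc_d_rc_17_2 lc_d_rc_15_1 lc_d_rc_15_1 lc_d_rc_27_4 lc_d_rc_3_3 lc_d_rc_27_10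 lc_d_rc_27_2 lc_d_rc_15_1 lc_d_Cert_tree lc_d_rc_15_1 lc_d_rc_16_0) (@D3.rec (fun _ => (Cert rels S Gen.d)) lc_d_rc_8_3 lc_d_rc_23_2 lc_d_rc_22_6 lc_d_rc_15_1 lc_d_rc_16_2 lc_d_rc_15_1 lc_d_rc_23_2 lc_d_rc_24_5 lc_d_rc_3_3 lc_d_rc_22_4 lc_d_rc_24_0 lc_d_rc_3_3 lc_d_rc_16_4 lc_d_rc_24_0 lc_d_rc_15_1 lc_d_rc_15_1 lc_d_rc_22_4 lc_d_rc_8_3 lc_d_rc_23_8 lc_d_rc_23_8 lc_d_rc_15_1 lc_d_rc_23_2 lc_d_rc_15_1 lc_d_rc_22_6 lc_d_rc_27_2 lc_d_rc_15_1 lc_d_rc_3_3 lc_d_rc_15_1 lc_d_rc_16_2 lc_d_rc_27_2 lc_d_rc_15_1 lc_d_rc_16_4 lc_d_rc_3_3 lc_d_rc_8_3 lc_d_rc_24_5 lc_d_rc_15_1 lc_d_rc_15_1 lc_d_rc_15_1 lc_d_rc_17_2 lc_d_rc_3_3 lc_d_rc_27_4 lc_d_rc_27_4 lc_d_rc_27_2 lc_d_rc_27_2 lc_d_rc_8_3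 lc_d_rc_15_1 lc_d_rc_24_5 lc_d_rc_15_1 lc_d_rc_17_2 lc_d_rc_23_6 lc_d_rc_27_4 lc_d_rc_27_10 lc_d_rc_3_3 lc_d_rc_23_8 lc_d_rc_24_5 lc_d_rc_8_1 lc_d_rc_15_1 lc_d_rc_23_4 lc_d_rc_23_4 lc_d_rc_3_1 lc_d_rc_3_3 lc_d_rc_27_4) (@D3.rec (fun _ => (Cert rels S Gen.d)) lc_d_rc_22_2 lc_d_rc_27_2 lc_d_rc_3_3 lc_d_rc_17_2 lc_d_rc_15_1 lc_d_rc_15_1 lc_d_rc_15_1 lc_d_rc_3_1 lc_d_rc_23_2 lc_d_rc_23_8 lc_d_rc_23_2 lc_d_rc_16_4 lc_d_rc_24_5 lc_d_rc_24_5 lc_d_rc_3_3 lc_d_rc_24_5 lc_d_rc_15_1 lc_d_rc_16_4 lc_d_rc_15_1 lc_d_rc_15_1 lc_d_rc_27_2 lc_d_rc_15_1 lc_d_rc_8_3 lc_d_rc_16_4 lc_d_rc_15_1 lc_d_rc_16_4 lc_d_rc_17_2 lc_d_rc_15_1 lc_d_rc_17_2 lc_d_rc_17_2 lc_d_rc_15_1 lc_d_rc_15_1 lc_d_rc_23_4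 lc_d_rc_15_1 lc_d_rc_8_1 lc_d_rc_15_1 lc_d_rc_24_5 lc_d_rc_17_2 lc_d_rc_23_4 lc_d_rc_23_4 lc_d_rc_17_2 lc_d_rc_16_4 lc_d_rc_24_0 lc_d_rc_22_2 lc_d_rc_22_6 lc_d_rc_15_1 lc_d_rc_15_1 lc_d_rc_15_1 lc_d_rc_15_1 lc_d_rc_22_6 lc_d_rc_23_4 lc_d_rc_15_1 lc_d_rc_17_2 lc_d_rc_27_4 lc_d_rc_27_2 lc_d_rc_23_4 lc_d_rc_15_1 lc_d_rc_23_8 lc_d_rc_15_1 lc_d_rc_15_1 lc_d_rc_8_1 lc_d_rc_15_1) (@D3.rec (fun _ => (Cert rels S Gen.d)) lc_d_rc_15_1 lc_d_rc_15_1 lc_d_rc_27_10 lc_d_rc_27_2 lc_d_rc_25_6 lc_d_rc_22_6 lc_d_rc_16_4 lc_d_rc_15_1 lc_d_rc_8_3 lc_d_rc_27_4 lc_d_rc_8_3 lc_d_rc_23_6 lc_d_rc_17_2 lc_d_rc_15_1 lc_d_rc_15_1 lc_d_rc_22_4 lc_d_rc_16_4 lc_d_rc_15_1 lc_d_rc_16_0 lc_d_rc_15_1 lc_d_rc_24_5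 lc_d_rc_8_3 lc_d_rc_15_1 lc_d_rc_27_10 lc_d_rc_15_1 lc_d_rc_22_4 lc_d_rc_16_4 lc_d_rc_23_4 lc_d_rc_23_4 lc_d_rc_16_4 lc_d_rc_15_1 lc_d_rc_15_1 lc_d_rc_23_8 lc_d_rc_15_1 lc_d_rc_8_3 lc_d_rc_15_1 lc_d_rc_15_1 lc_d_rc_27_4 lc_d_rc_23_2 lc_d_rc_15_1 lc_d_rc_15_1 lc_d_rc_22_4 lc_d_rc_27_4 lc_d_rc_15_1 lc_d_rc_17_2 lc_d_rc_3_1 lc_d_rc_15_1 lc_d_rc_15_1 lc_d_rc_17_2 lc_d_rc_15_1 lc_d_rc_27_4 lc_d_rc_8_3 lc_d_rc_16_4 lc_d_rc_15_1 lc_d_rc_15_1 lc_d_rc_24_0 lc_d_rc_8_3 lc_d_rc_24_0 lc_d_rc_24_5 lc_d_rc_15_1 lc_d_Cert_tree lc_d_Cert_tree) (@D3.rec (fun _ => (Cert rels S Gen.d)) lc_d_Cert_tree lc_d_rc_15_1 lc_d_rc_22_2 lc_d_rc_22_6 lc_d_rc_8_1 lc_d_rc_27_8 lc_d_rc_8_3 lc_d_rc_27_2 lc_d_rc_23_2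 lc_d_rc_15_1 lc_d_rc_15_1 lc_d_rc_22_2 lc_d_rc_23_8 lc_d_rc_15_1 lc_d_rc_16_4 lc_d_rc_24_5 lc_d_rc_15_1 lc_d_rc_27_2 lc_d_rc_15_1 lc_d_rc_27_4 lc_d_rc_24_0 lc_d_rc_15_1 lc_d_Cert_tree lc_d_rc_25_6 lc_d_rc_8_1 lc_d_rc_27_8 lc_d_rc_15_1 lc_d_rc_15_1 lc_d_rc_16_0 lc_d_rc_15_1 lc_d_rc_15_1 lc_d_rc_12_15 lc_d_rc_15_1 lc_d_rc_15_1 lc_d_rc_23_6 lc_d_rc_23_8 lc_d_rc_15_1 lc_d_rc_15_1 lc_d_rc_22_4 lc_d_rc_3_1 lc_d_rc_8_3 lc_d_rc_25_18 lc_d_rc_22_6 lc_d_rc_16_4 lc_d_rc_15_1 lc_d_rc_24_0 lc_d_rc_27_8 lc_d_rc_22_8 lc_d_rc_16_2 lc_d_rc_8_3 lc_d_rc_27_2 lc_d_rc_15_1 lc_d_rc_15_1 lc_d_rc_23_4 lc_d_rc_24_0 lc_d_rc_22_4 lc_d_rc_15_1 lc_d_rc_16_2 lc_d_rc_12_15 lc_d_rc_15_1 lc_d_rc_27_2 lc_d_rc_8_3)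 (@D3.rec (fun _ => (Cert rels S Gen.d)) lc_d_rc_27_2 lc_d_rc_15_1 lc_d_rc_15_1 lc_d_rc_15_1 lc_d_rc_15_1 lc_d_rc_27_2 lc_d_rc_22_6 lc_d_rc_27_10 lc_d_rc_16_4 lc_d_rc_3_3 lc_d_rc_8_1 lc_d_rc_16_0 lc_d_rc_25_6 lc_d_rc_15_1 lc_d_rc_22_2 lc_d_rc_24_5 lc_d_rc_15_1 lc_d_rc_8_3 lc_d_rc_25_2 lc_d_rc_15_1 lc_d_rc_24_5 lc_d_rc_15_1 lc_d_rc_15_1 lc_d_rc_15_1 lc_d_rc_25_18 lc_d_rc_27_4 lc_d_rc_15_1 lc_d_rc_17_2 lc_d_rc_16_2 lc_d_rc_15_1 lc_d_rc_16_4 lc_d_rc_27_8 lc_d_rc_15_1 lc_d_rc_22_8 lc_d_rc_15_1 lc_d_rc_24_5 lc_d_rc_15_1 lc_d_rc_15_1 lc_d_rc_24_0 lc_d_rc_24_0 lc_d_rc_16_4 lc_d_rc_16_4 lc_d_rc_15_1 lc_d_rc_16_0 lc_d_rc_27_2 lc_d_rc_3_1 lc_d_rc_15_1 lc_d_rc_27_4 lc_d_rc_27_2 lc_d_rc_17_2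 lc_d_rc_23_4 lc_d_rc_15_1 lc_d_rc_15_1 lc_d_rc_3_3 lc_d_rc_15_1 lc_d_rc_15_1 lc_d_rc_27_10 lc_d_rc_27_10 lc_d_rc_8_3 lc_d_rc_15_1 lc_d_rc_17_0 lc_d_rc_15_1) (@D3.rec (fun _ => (Cert rels S Gen.d)) lc_d_rc_22_8 lc_d_rc_27_4 lc_d_rc_16_4 lc_d_rc_15_1 lc_d_rc_8_3 lc_d_rc_24_5 lc_d_rc_25_2 lc_d_rc_25_14 lc_d_rc_27_4 lc_d_rc_15_1 lc_d_rc_8_1 lc_d_rc_23_2 lc_d_rc_24_0 lc_d_rc_22_6 lc_d_rc_22_6 lc_d_rc_8_1 lc_d_rc_15_1 lc_d_rc_15_1 lc_d_rc_17_0 lc_d_rc_3_3 lc_d_rc_24_0 lc_d_rc_15_1 lc_d_rc_23_6 lc_d_rc_16_2 lc_d_rc_22_4 lc_d_rc_17_2 lc_d_rc_23_4 lc_d_rc_15_1 lc_d_rc_8_3 lc_d_rc_23_8 lc_d_rc_27_10 lc_d_rc_16_0 lc_d_rc_17_2 lc_d_rc_27_8 lc_d_rc_3_3 lc_d_rc_3_1 lc_d_rc_15_1 lc_d_rc_8_3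 lc_d_rc_15_1 lc_d_rc_8_3 lc_d_rc_22_2 lc_d_rc_3_1 lc_d_rc_25_14 lc_d_rc_22_6 lc_d_rc_15_1 lc_d_rc_15_1 lc_d_rc_17_2 lc_d_rc_27_4 lc_d_rc_15_1 lc_d_rc_22_6 lc_d_rc_27_4 lc_d_rc_8_3 lc_d_rc_3_1 lc_d_rc_25_18 lc_d_rc_15_1 lc_d_rc_8_1 lc_d_rc_15_1 lc_d_Cert_tree lc_d_rc_22_2 lc_d_rc_25_18 lc_d_rc_23_2 lc_d_rc_23_8) (@D3.rec (fun _ => (Cert rels S Gen.d)) lc_d_rc_22_2 lc_d_rc_15_1 lc_d_rc_15_1 lc_d_rc_27_4 lc_d_rc_22_2 lc_d_rc_22_6 lc_d_rc_27_4 lc_d_rc_24_0 lc_d_rc_17_2 lc_d_rc_27_2 lc_d_rc_15_1 lc_d_rc_15_1 lc_d_rc_27_8 lc_d_rc_23_6 lc_d_rc_15_1 lc_d_rc_22_2 lc_d_rc_22_6 lc_d_rc_16_2 lc_d_rc_23_2 lc_d_rc_22_8 lc_d_rc_8_1 lc_d_rc_16_2 lc_d_rc_22_6 lc_d_rc_15_1 lc_d_Cert_tree lc_d_rc_15_1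 lc_d_rc_23_4 lc_d_rc_15_1 lc_d_rc_15_1 lc_d_rc_8_3 lc_d_rc_15_1 lc_d_rc_15_1 lc_d_rc_8_1 lc_d_rc_27_4 lc_d_rc_17_2 lc_d_rc_27_10 lc_d_rc_12_15 lc_d_rc_24_0 lc_d_rc_15_1 lc_d_rc_27_4 lc_d_rc_15_1 lc_d_rc_23_4 lc_d_rc_15_1 lc_d_rc_16_4 lc_d_rc_17_2 lc_d_rc_15_1 lc_d_rc_15_1 lc_d_rc_22_4 lc_d_rc_16_2 lc_d_rc_8_1 lc_d_rc_22_4 lc_d_rc_16_4 lc_d_rc_22_4 lc_d_rc_22_4 lc_d_rc_16_4 lc_d_Cert_tree lc_d_rc_15_1 lc_d_rc_25_2 lc_d_rc_17_2 lc_d_rc_27_4 lc_d_rc_25_6 lc_d_rc_8_3) (@D3.rec (fun _ => (Cert rels S Gen.d)) lc_d_rc_15_1 lc_d_rc_23_2 lc_d_rc_15_1 lc_d_rc_3_1 lc_d_rc_8_1 lc_d_rc_16_2 lc_d_Cert_tree lc_d_rc_15_1 lc_d_rc_17_2 lc_d_rc_24_5 lc_d_rc_15_1 lc_d_rc_25_10 lc_d_rc_15_1 lc_d_rc_15_1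 lc_d_rc_12_3 lc_d_rc_15_1 lc_d_rc_17_2 lc_d_rc_23_4 lc_d_rc_24_5 lc_d_rc_15_1 lc_d_rc_22_4 lc_d_rc_15_1 lc_d_rc_15_1 lc_d_rc_17_0 lc_d_rc_17_2 lc_d_rc_16_4 lc_d_rc_22_4 lc_d_rc_22_4 lc_d_rc_16_2 lc_d_rc_15_1 lc_d_rc_27_4 lc_d_rc_15_1 lc_d_rc_16_2 lc_d_rc_3_3 lc_d_rc_8_3 lc_d_rc_15_1 lc_d_rc_17_2 lc_d_rc_16_4 lc_d_rc_15_1 lc_d_rc_16_4 lc_d_rc_22_4 lc_d_rc_15_1 lc_d_rc_22_2 lc_d_rc_15_1 lc_d_rc_22_6 lc_d_rc_24_0 lc_d_rc_15_1 lc_d_rc_27_4 lc_d_rc_8_3 lc_d_rc_15_1 lc_d_rc_22_2 lc_d_rc_15_1 lc_d_rc_27_4 lc_d_rc_15_1 lc_d_rc_17_2 lc_d_rc_8_3 lc_d_rc_16_4 lc_d_rc_27_4 lc_d_rc_15_1 lc_d_rc_22_6 lc_d_rc_27_4 lc_d_rc_17_2) (@D3.rec (fun _ => (Cert rels S Gen.d)) lc_d_rc_15_1 lc_d_rc_15_1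 lc_d_rc_12_15 lc_d_rc_15_1 lc_d_rc_23_2 lc_d_rc_17_2 lc_d_rc_23_2 lc_d_rc_8_1 lc_d_rc_22_8 lc_d_rc_16_4 lc_d_Cert_tree lc_d_rc_15_1 lc_d_rc_16_2 lc_d_rc_15_1 lc_d_Cert_tree lc_d_rc_15_1 lc_d_rc_15_1 lc_d_rc_23_6 lc_d_rc_17_2 lc_d_rc_27_2 lc_d_rc_27_2 lc_d_rc_23_2 lc_d_rc_8_1 lc_d_rc_15_1 lc_d_rc_25_2 lc_d_rc_8_3 lc_d_rc_23_2 lc_d_rc_16_2 lc_d_rc_12_1 lc_d_rc_15_1 lc_d_rc_8_1 lc_d_rc_15_1 lc_d_rc_27_4 lc_d_rc_24_0 lc_d_rc_8_1 lc_d_rc_24_5 lc_d_rc_23_6 lc_d_rc_23_6 lc_d_rc_23_8 lc_d_rc_27_2 lc_d_rc_15_1 lc_d_rc_24_5 lc_d_rc_16_2 lc_d_rc_22_6 lc_d_rc_3_3 lc_d_rc_3_1 lc_d_rc_15_1 lc_d_rc_3_3 lc_d_rc_8_3 lc_d_rc_16_4 lc_d_rc_27_4 lc_d_rc_17_2 lc_d_rc_23_4 lc_d_rc_8_3 lc_d_rc_27_2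 lc_d_rc_27_10 lc_d_rc_15_1 lc_d_rc_27_4 lc_d_rc_8_3 lc_d_rc_16_0 lc_d_rc_16_2 lc_d_rc_3_3) (@D3.rec (fun _ => (Cert rels S Gen.d)) lc_d_rc_12_5 lc_d_rc_16_2 lc_d_rc_15_1 lc_d_rc_23_6 lc_d_rc_16_4 lc_d_rc_23_2 lc_d_rc_3_1 lc_d_rc_22_6 lc_d_rc_15_1 lc_d_rc_3_3 lc_d_rc_16_4 lc_d_rc_17_0 lc_d_rc_22_4 lc_d_rc_3_1 lc_d_rc_23_2 lc_d_rc_15_1 lc_d_rc_15_1 lc_d_rc_15_1 lc_d_rc_15_1 lc_d_rc_15_1 lc_d_rc_23_6 lc_d_rc_23_2 lc_d_rc_16_2 lc_d_rc_15_1 lc_d_rc_8_3 lc_d_rc_23_2 lc_d_rc_15_1 lc_d_rc_17_2 lc_d_rc_3_1 lc_d_rc_16_4 lc_d_rc_22_6 lc_d_rc_24_5 lc_d_rc_3_3 lc_d_rc_8_3 lc_d_rc_15_1 lc_d_rc_27_2 lc_d_rc_15_1 lc_d_rc_27_4 lc_d_rc_23_2 lc_d_rc_15_1 lc_d_rc_16_2 lc_d_rc_16_4 lc_d_rc_15_1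 lc_d_rc_23_2 lc_d_rc_15_1 lc_d_rc_17_2 lc_d_rc_27_10 lc_d_rc_12_15 lc_d_rc_15_1 lc_d_rc_15_1 lc_d_rc_27_2 lc_d_rc_16_2 lc_d_rc_8_3 lc_d_rc_24_5 lc_d_rc_27_10 lc_d_rc_8_3 lc_d_rc_17_2 lc_d_rc_8_3 lc_d_rc_15_1 lc_d_rc_8_3 lc_d_rc_24_0 lc_d_rc_23_4) (@D3.rec (fun _ => (Cert rels S Gen.d)) lc_d_rc_27_10 lc_d_rc_24_5 lc_d_rc_27_8 lc_d_rc_15_1 lc_d_rc_22_2 lc_d_rc_8_3 lc_d_rc_25_10 lc_d_rc_16_0 lc_d_rc_8_3 lc_d_rc_15_1 lc_d_rc_22_2 lc_d_rc_22_8 lc_d_rc_8_3 lc_d_rc_3_3 lc_d_rc_3_1 lc_d_rc_15_1 lc_d_rc_16_2 lc_d_rc_8_3 lc_d_rc_16_4 lc_d_rc_23_2 lc_d_rc_12_15 lc_d_rc_15_1 lc_d_rc_17_2 lc_d_rc_23_4 lc_d_rc_23_4 lc_d_rc_23_4 lc_d_rc_23_4 lc_d_rc_15_1 lc_d_rc_15_1 lc_d_rc_15_1 lc_d_rc_22_4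 lc_d_rc_23_4 lc_d_rc_15_1 lc_d_rc_8_3 lc_d_rc_15_1 lc_d_rc_8_1 lc_d_rc_15_1 lc_d_rc_27_10 lc_d_rc_24_5 lc_d_rc_15_1 lc_d_rc_27_10 lc_d_rc_25_18 lc_d_rc_15_1 lc_d_rc_15_1 lc_d_rc_8_3 lc_d_rc_17_2 lc_d_rc_8_3 lc_d_rc_8_3 lc_d_rc_25_18 lc_d_rc_8_3 lc_d_rc_22_6 lc_d_rc_27_8 lc_d_rc_8_1 lc_d_rc_24_0 lc_d_rc_15_1 lc_d_rc_8_1 lc_d_rc_27_8 lc_d_rc_24_5 lc_d_rc_15_1 lc_d_rc_8_1 lc_d_rc_15_1 lc_d_rc_23_2) (@D3.rec (fun _ => (Cert rels S Gen.d)) lc_d_rc_27_10 lc_d_rc_3_3 lc_d_rc_16_2 lc_d_rc_27_2 lc_d_rc_23_6 lc_d_rc_15_1 lc_d_rc_3_3 lc_d_rc_27_10 lc_d_rc_16_4 lc_d_rc_23_6 lc_d_rc_22_8 lc_d_rc_16_0 lc_d_rc_16_2 lc_d_rc_8_3 lc_d_rc_24_0 lc_d_rc_27_4 lc_d_rc_15_1 lc_d_rc_8_3 lc_d_rc_12_15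 lc_d_rc_27_4 lc_d_rc_8_3 lc_d_rc_24_0 lc_d_rc_17_2 lc_d_rc_27_4 lc_d_rc_3_3 lc_d_rc_23_8 lc_d_rc_22_2 lc_d_rc_27_2 lc_d_rc_23_8 lc_d_rc_8_3 lc_d_rc_8_3 lc_d_rc_15_1 lc_d_rc_15_1 lc_d_rc_3_3 lc_d_rc_3_3 lc_d_rc_15_1 lc_d_rc_27_10 lc_d_rc_24_0 lc_d_rc_15_1 lc_d_rc_27_2 lc_d_rc_12_1 lc_d_rc_27_2 lc_d_rc_8_1 lc_d_rc_15_1 lc_d_rc_15_1 lc_d_rc_16_4 lc_d_rc_15_1 lc_d_rc_16_4 lc_d_rc_8_3 lc_d_rc_15_1 lc_d_rc_16_4 lc_d_rc_22_8 lc_d_rc_8_1 lc_d_rc_25_6 lc_d_rc_8_3 lc_d_rc_25_2 lc_d_rc_16_2 lc_d_rc_27_4 lc_d_rc_23_2 lc_d_rc_15_1 lc_d_rc_23_2 lc_d_rc_15_1) (@D3.rec (fun _ => (Cert rels S Gen.d)) lc_d_rc_15_1 lc_d_rc_22_6 lc_d_rc_17_2 lc_d_rc_24_0 lc_d_rc_15_1 lc_d_rc_16_4 lc_d_rc_22_4 lc_d_rc_12_1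 lc_d_rc_8_1 lc_d_rc_15_1 lc_d_rc_15_1 lc_d_rc_15_1 lc_d_rc_27_4 lc_d_rc_27_10 lc_d_rc_27_2 lc_d_rc_15_1 lc_d_rc_15_1 lc_d_rc_23_8 lc_d_rc_17_2 lc_d_rc_23_4 lc_d_rc_15_1 lc_d_rc_27_10 lc_d_rc_8_3 lc_d_rc_16_0 lc_d_rc_22_4 lc_d_rc_15_1 lc_d_rc_15_1 lc_d_rc_22_2 lc_d_rc_25_2 lc_d_rc_25_18 lc_d_rc_17_2 lc_d_rc_15_1 lc_d_rc_15_1 lc_d_rc_23_4 lc_d_rc_15_1 lc_d_rc_22_4 lc_d_rc_16_2 lc_d_rc_22_2 lc_d_rc_27_8 lc_d_rc_22_6 lc_d_rc_3_3 lc_d_rc_27_4 lc_d_rc_22_6 lc_d_rc_23_6 lc_d_rc_16_0 lc_d_rc_16_0 lc_d_rc_15_1 lc_d_rc_22_8 lc_d_rc_8_1 lc_d_rc_3_3 lc_d_rc_15_1 lc_d_rc_17_2 lc_d_rc_22_6 lc_d_rc_25_6 lc_d_rc_15_1 lc_d_rc_17_2 lc_d_rc_8_3 lc_d_rc_27_10 lc_d_rc_15_1 lc_d_rc_15_1 lc_d_rc_22_6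 lc_d_rc_22_2) (@D3.rec (fun _ => (Cert rels S Gen.d)) lc_d_rc_16_0 lc_d_rc_22_4 lc_d_rc_24_0 lc_d_rc_16_0 lc_d_rc_22_4 lc_d_rc_15_1 lc_d_rc_12_15 lc_d_rc_15_1 lc_d_rc_25_18 lc_d_rc_8_3 lc_d_rc_15_1 lc_d_rc_27_10 lc_d_rc_17_2 lc_d_rc_22_8 lc_d_rc_15_1 lc_d_rc_8_1 lc_d_rc_15_1 lc_d_rc_16_0 lc_d_rc_22_4 lc_d_rc_15_1 lc_d_rc_27_10 lc_d_rc_27_8 lc_d_rc_17_2 lc_d_rc_16_0 lc_d_rc_8_3 lc_d_rc_15_1 lc_d_rc_27_8 lc_d_rc_16_2 lc_d_rc_8_3 lc_d_rc_15_1 lc_d_rc_27_4 lc_d_rc_22_6 lc_d_rc_22_2 lc_d_rc_15_1 lc_d_rc_15_1 lc_d_rc_15_1 lc_d_rc_15_1 lc_d_rc_15_1 lc_d_rc_8_1 lc_d_rc_15_1 lc_d_rc_8_3 lc_d_rc_27_8 lc_d_rc_15_1 lc_d_rc_23_6 lc_d_rc_27_4 lc_d_rc_16_2 lc_d_rc_17_2 lc_d_rc_8_3 lc_d_rc_15_1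 lc_d_rc_15_1 lc_d_rc_12_1 lc_d_rc_24_0 lc_d_rc_27_8 lc_d_rc_25_18 lc_d_rc_15_1 lc_d_rc_22_2 lc_d_rc_8_3 lc_d_rc_15_1 lc_d_rc_15_1 lc_d_rc_16_4 lc_d_rc_25_2 lc_d_rc_15_1) (@D3.rec (fun _ => (Cert rels S Gen.d)) lc_d_rc_22_6 lc_d_rc_22_8 lc_d_rc_23_6 lc_d_rc_15_1 lc_d_rc_15_1 lc_d_rc_22_2 lc_d_rc_22_4 lc_d_rc_12_15 lc_d_rc_15_1 lc_d_rc_22_6 lc_d_rc_15_1 lc_d_rc_8_1 lc_d_rc_15_1 lc_d_rc_27_8 lc_d_rc_15_1 lc_d_rc_23_4 lc_d_rc_24_5 lc_d_rc_23_4 lc_d_rc_12_3 lc_d_rc_22_6 lc_d_rc_22_4 lc_d_rc_27_4 lc_d_rc_12_1 lc_d_rc_8_3 lc_d_rc_15_1 lc_d_rc_15_1 lc_d_rc_8_3 lc_d_rc_23_6 lc_d_rc_3_3 lc_d_rc_15_1 lc_d_rc_23_2 lc_d_rc_27_4 lc_d_rc_22_4 lc_d_rc_16_4 lc_d_rc_16_4 lc_d_rc_3_1 lc_d_rc_16_2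 lc_d_rc_3_1 lc_d_rc_8_3 lc_d_rc_25_2 lc_d_rc_15_1 lc_d_rc_17_2 lc_d_rc_17_0 lc_d_rc_23_8 lc_d_rc_15_1 lc_d_rc_15_1 lc_d_rc_16_4 lc_d_rc_23_2 lc_d_rc_8_1 lc_d_rc_23_6 lc_d_rc_24_0 lc_d_rc_16_4 lc_d_rc_3_3 lc_d_rc_23_2 lc_d_rc_27_2 lc_d_rc_8_3 lc_d_rc_15_1 lc_d_rc_27_4 lc_d_rc_8_3 lc_d_rc_15_1 lc_d_rc_16_4 lc_d_rc_24_0)
def ce_d_32 : D2 → D3 → (Cert rels S Gen.d) := @D2.rec (fun _ => D3 → (Cert rels S Gen.d)) (@D3.rec (fun _ => (Cert rels S Gen.d)) lc_d_rc_23_4 lc_d_rc_8_3 lc_d_rc_16_0 lc_d_rc_16_0 lc_d_rc_15_1 lc_d_rc_15_1 lc_d_rc_15_1 lc_d_rc_17_2 lc_d_rc_27_2 lc_d_rc_16_0 lc_d_rc_15_1 lc_d_rc_24_0 lc_d_rc_15_1 lc_d_rc_24_5 lc_d_rc_25_2 lc_d_rc_15_1 lc_d_rc_17_2 lc_d_rc_25_2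 lc_d_rc_22_8 lc_d_rc_16_2 lc_d_rc_15_1 lc_d_rc_15_1 lc_d_rc_15_1 lc_d_rc_22_4 lc_d_rc_17_2 lc_d_rc_23_2 lc_d_rc_27_2 lc_d_rc_25_18 lc_d_rc_24_0 lc_d_rc_3_3 lc_d_rc_22_6 lc_d_rc_23_4 lc_d_rc_15_1 lc_d_rc_22_2 lc_d_rc_15_1 lc_d_rc_24_5 lc_d_rc_24_0 lc_d_rc_8_3 lc_d_rc_27_4 lc_d_rc_27_4 lc_d_rc_15_1 lc_d_rc_27_2 lc_d_rc_16_4 lc_d_rc_8_3 lc_d_rc_8_1 lc_d_rc_27_10 lc_d_rc_24_5 lc_d_rc_22_4 lc_d_rc_27_8 lc_d_rc_15_1 lc_d_rc_15_1 lc_d_rc_15_1 lc_d_rc_15_1 lc_d_rc_15_1 lc_d_rc_22_6 lc_d_rc_24_0 lc_d_rc_16_2 lc_d_rc_27_2 lc_d_rc_8_3 lc_d_rc_17_2 lc_d_rc_27_8 lc_d_rc_15_1) (@D3.rec (fun _ => (Cert rels S Gen.d)) lc_d_rc_22_4 lc_d_rc_17_2 lc_d_rc_27_8 lc_d_rc_3_3 lc_d_Cert_tree lc_d_rc_25_6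 lc_d_rc_15_1 lc_d_rc_17_2 lc_d_rc_15_1 lc_d_rc_17_2 lc_d_rc_15_1 lc_d_rc_22_2 lc_d_rc_16_2 lc_d_rc_22_8 lc_d_rc_15_1 lc_d_rc_22_2 lc_d_rc_8_3 lc_d_rc_16_0 lc_d_rc_15_1 lc_d_rc_15_1 lc_d_rc_15_1 lc_d_rc_22_8 lc_d_rc_27_2 lc_d_rc_15_1 lc_d_rc_22_2 lc_d_rc_15_1 lc_d_rc_25_14 lc_d_rc_8_3 lc_d_rc_15_1 lc_d_rc_15_1 lc_d_rc_15_1 lc_d_rc_24_0 lc_d_rc_22_2 lc_d_rc_17_2 lc_d_rc_17_2 lc_d_rc_27_4 lc_d_rc_15_1 lc_d_rc_3_3 lc_d_rc_15_1 lc_d_rc_15_1 lc_d_rc_22_6 lc_d_rc_17_0 lc_d_rc_3_3 lc_d_rc_15_1 lc_d_rc_15_1 lc_d_rc_15_1 lc_d_rc_15_1 lc_d_rc_15_1 lc_d_rc_23_6 lc_d_rc_22_4 lc_d_rc_15_1 lc_d_rc_27_4 lc_d_rc_16_4 lc_d_rc_15_1 lc_d_rc_3_1 lc_d_rc_27_4 lc_d_rc_27_4 lc_d_rc_16_4 lc_d_rc_23_2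 lc_d_rc_16_4 lc_d_rc_22_4 lc_d_rc_15_1) (@D3.rec (fun _ => (Cert rels S Gen.d)) lc_d_rc_24_0 lc_d_rc_15_1 lc_d_rc_24_5 lc_d_rc_8_3 lc_d_rc_8_1 lc_d_rc_8_1 lc_d_rc_15_1 lc_d_rc_8_1 lc_d_rc_8_1 lc_d_rc_22_2 lc_d_rc_27_8 lc_d_rc_27_10 lc_d_rc_27_4 lc_d_rc_16_2 lc_d_rc_15_1 lc_d_rc_12_13 lc_d_rc_22_4 lc_d_rc_25_14 lc_d_rc_24_0 lc_d_rc_15_1 lc_d_rc_15_1 lc_d_rc_8_3 lc_d_rc_8_1 lc_d_rc_16_0 lc_d_rc_22_2 lc_d_rc_27_4 lc_d_rc_8_3 lc_d_rc_23_6 lc_d_rc_22_6 lc_d_rc_24_5 lc_d_rc_24_5 lc_d_rc_16_2 lc_d_rc_8_3 lc_d_rc_8_3 lc_d_rc_23_8 lc_d_rc_22_4 lc_d_rc_8_3 lc_d_rc_22_6 lc_d_rc_15_1 lc_d_rc_22_6 lc_d_rc_27_8 lc_d_rc_22_8 lc_d_rc_16_0 lc_d_rc_22_2 lc_d_rc_24_5 lc_d_rc_22_4 lc_d_rc_15_1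 lc_d_rc_24_0 lc_d_rc_3_3 lc_d_rc_16_4 lc_d_rc_15_1 lc_d_rc_27_2 lc_d_rc_23_8 lc_d_rc_23_4 lc_d_rc_17_2 lc_d_rc_24_5 lc_d_rc_15_1 lc_d_rc_15_1 lc_d_rc_23_2 lc_d_rc_27_4 lc_d_rc_22_4 lc_d_rc_23_8) (@D3.rec (fun _ => (Cert rels S Gen.d)) lc_d_rc_8_1 lc_d_rc_15_1 lc_d_rc_27_4 lc_d_rc_24_5 lc_d_rc_24_0 lc_d_rc_3_3 lc_d_rc_8_3 lc_d_rc_15_1 lc_d_rc_16_0 lc_d_rc_15_1 lc_d_rc_24_0 lc_d_rc_22_4 lc_d_rc_16_4 lc_d_rc_16_4 lc_d_rc_15_1 lc_d_rc_25_10 lc_d_rc_15_1 lc_d_rc_17_2 lc_d_rc_15_1 lc_d_rc_15_1 lc_d_rc_15_1 lc_d_rc_15_1 lc_d_rc_15_1 lc_d_rc_8_3 lc_d_rc_15_1 lc_d_rc_15_1 lc_d_Cert_tree lc_d_rc_22_6 lc_d_rc_8_3 lc_d_rc_15_1 lc_d_rc_8_1 lc_d_rc_15_1 lc_d_rc_27_8 lc_d_rc_8_1 lc_d_rc_25_2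 lc_d_rc_24_5 lc_d_rc_27_10 lc_d_rc_22_8 lc_d_rc_22_4 lc_d_rc_8_3 lc_d_rc_27_4 lc_d_rc_27_10 lc_d_rc_27_4 lc_d_rc_15_1 lc_d_rc_3_1 lc_d_rc_15_1 lc_d_rc_8_1 lc_d_rc_17_0 lc_d_rc_12_15 lc_d_rc_12_15 lc_d_rc_8_1 lc_d_rc_27_2 lc_d_rc_15_1 lc_d_rc_23_4 lc_d_rc_15_1 lc_d_rc_22_6 lc_d_rc_17_2 lc_d_rc_23_4 lc_d_rc_15_1 lc_d_rc_16_4 lc_d_rc_16_2 lc_d_rc_15_1) (@D3.rec (fun _ => (Cert rels S Gen.d)) lc_d_rc_25_6 lc_d_rc_27_10 lc_d_rc_25_2 lc_d_rc_15_1 lc_d_rc_16_0 lc_d_rc_23_8 lc_d_rc_24_0 lc_d_rc_22_6 lc_d_rc_23_4 lc_d_rc_27_2 lc_d_rc_27_2 lc_d_rc_25_6 lc_d_rc_8_3 lc_d_rc_25_2 lc_d_rc_15_1 lc_d_rc_15_1 lc_d_rc_12_15 lc_d_rc_15_1 lc_d_rc_27_2 lc_d_rc_15_1 lc_d_rc_16_2 lc_d_rc_15_1 lc_d_rc_16_2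 lc_d_rc_16_4 lc_d_rc_24_5 lc_d_rc_15_1 lc_d_rc_17_2 lc_d_rc_15_1 lc_d_rc_24_5 lc_d_rc_15_1 lc_d_rc_16_2 lc_d_rc_8_3 lc_d_rc_15_1 lc_d_rc_15_1 lc_d_rc_15_1 lc_d_rc_15_1 lc_d_rc_8_3 lc_d_rc_8_1 lc_d_rc_15_1 lc_d_rc_15_1 lc_d_rc_15_1 lc_d_rc_12_1 lc_d_rc_15_1 lc_d_rc_15_1 lc_d_rc_17_2 lc_d_rc_15_1 lc_d_rc_15_1 lc_d_rc_23_4 lc_d_rc_8_3 lc_d_rc_16_4 lc_d_rc_17_2 lc_d_rc_8_3 lc_d_rc_15_1 lc_d_rc_15_1 lc_d_rc_3_3 lc_d_rc_24_5 lc_d_rc_17_2 lc_d_rc_23_4 lc_d_rc_22_4 lc_d_rc_15_1 lc_d_rc_8_3 lc_d_rc_17_2) (@D3.rec (fun _ => (Cert rels S Gen.d)) lc_d_rc_27_2 lc_d_rc_16_2 lc_d_rc_27_10 lc_d_rc_8_3 lc_d_rc_23_2 lc_d_rc_15_1 lc_d_rc_3_3 lc_d_rc_27_2 lc_d_rc_15_1 lc_d_rc_15_1 lc_d_rc_15_1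 lc_d_rc_22_8 lc_d_rc_23_6 lc_d_rc_16_4 lc_d_rc_15_1 lc_d_rc_27_4 lc_d_rc_16_4 lc_d_rc_16_0 lc_d_rc_15_1 lc_d_rc_27_8 lc_d_rc_15_1 lc_d_rc_15_1 lc_d_rc_15_1 lc_d_rc_16_0 lc_d_rc_15_1 lc_d_rc_22_6 lc_d_rc_27_2 lc_d_rc_8_3 lc_d_rc_15_1 lc_d_rc_27_4 lc_d_rc_16_4 lc_d_rc_8_3 lc_d_rc_8_3 lc_d_rc_16_0 lc_d_rc_23_4 lc_d_rc_12_1 lc_d_rc_3_1 lc_d_rc_24_0 lc_d_rc_15_1 lc_d_rc_15_1 lc_d_rc_3_3 lc_d_rc_24_5 lc_d_rc_16_4 lc_d_rc_22_8 lc_d_rc_16_4 lc_d_rc_15_1 lc_d_rc_24_5 lc_d_rc_17_2 lc_d_rc_23_4 lc_d_rc_24_0 lc_d_rc_15_1 lc_d_rc_16_2 lc_d_rc_8_3 lc_d_rc_24_5 lc_d_rc_23_4 lc_d_rc_24_0 lc_d_rc_15_1 lc_d_rc_22_6 lc_d_rc_22_4 lc_d_rc_23_6 lc_d_rc_23_6 lc_d_rc_15_1) (@D3.rec (fun _ => (Cert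 rels S Gen.d)) lc_d_rc_15_1 lc_d_rc_17_2 lc_d_rc_24_5 lc_d_rc_15_1 lc_d_rc_3_3 lc_d_Cert_tree lc_d_rc_22_6 lc_d_rc_15_1 lc_d_rc_12_3 lc_d_rc_16_4 lc_d_rc_8_3 lc_d_rc_23_2 lc_d_rc_16_4 lc_d_rc_22_2 lc_d_rc_15_1 lc_d_rc_27_2 lc_d_rc_8_1 lc_d_rc_15_1 lc_d_rc_3_3 lc_d_rc_23_4 lc_d_rc_16_4 lc_d_rc_23_2 lc_d_rc_27_4 lc_d_rc_27_4 lc_d_rc_23_2 lc_d_rc_15_1 lc_d_rc_8_1 lc_d_rc_15_1 lc_d_rc_12_1 lc_d_rc_15_1 lc_d_rc_15_1 lc_d_rc_27_10 lc_d_rc_24_0 lc_d_rc_23_4 lc_d_rc_22_6 lc_d_rc_15_1 lc_d_rc_27_2 lc_d_rc_16_4 lc_d_rc_23_2 lc_d_rc_24_0 lc_d_rc_24_5 lc_d_rc_22_4 lc_d_rc_22_6 lc_d_rc_16_4 lc_d_Cert_tree lc_d_rc_22_6 lc_d_rc_8_3 lc_d_rc_15_1 lc_d_rc_17_2 lc_d_rc_22_6 lc_d_rc_8_1 lc_d_rc_24_0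 lc_d_rc_16_2 lc_d_rc_15_1 lc_d_rc_8_1 lc_d_rc_24_5 lc_d_rc_15_1 lc_d_rc_15_1 lc_d_rc_8_3 lc_d_rc_15_1 lc_d_rc_3_3 lc_d_rc_15_1) (@D3.rec (fun _ => (Cert rels S Gen.d)) lc_d_rc_15_1 lc_d_rc_15_1 lc_d_rc_22_4 lc_d_rc_17_0 lc_d_rc_25_18 lc_d_rc_8_1 lc_d_rc_15_1 lc_d_rc_15_1 lc_d_rc_12_15 lc_d_rc_15_1 lc_d_rc_23_4 lc_d_rc_23_6 lc_d_rc_15_1 lc_d_rc_17_2 lc_d_rc_24_0 lc_d_rc_22_6 lc_d_rc_15_1 lc_d_rc_22_2 lc_d_rc_22_4 lc_d_rc_15_1 lc_d_rc_8_1 lc_d_rc_8_3 lc_d_rc_16_4 lc_d_rc_12_1 lc_d_rc_8_1 lc_d_rc_23_4 lc_d_rc_8_3 lc_d_rc_27_2 lc_d_rc_15_1 lc_d_rc_22_2 lc_d_rc_15_1 lc_d_rc_8_1 lc_d_rc_16_2 lc_d_rc_16_4 lc_d_rc_17_0 lc_d_rc_15_1 lc_d_rc_16_2 lc_d_rc_16_2 lc_d_rc_15_1 lc_d_rc_15_1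 lc_d_rc_27_2 lc_d_rc_25_2 lc_d_rc_15_1 lc_d_rc_23_4 lc_d_rc_22_6 lc_d_rc_27_2 lc_d_rc_8_3 lc_d_rc_22_4 lc_d_rc_15_1 lc_d_rc_24_0 lc_d_rc_15_1 lc_d_rc_27_2 lc_d_rc_15_1 lc_d_rc_17_2 lc_d_rc_27_10 lc_d_rc_27_10 lc_d_rc_15_1 lc_d_rc_17_0 lc_d_rc_3_3 lc_d_rc_15_1 lc_d_rc_8_1 lc_d_rc_15_1) (@D3.rec (fun _ => (Cert rels S Gen.d)) lc_d_rc_12_1 lc_d_rc_15_1 lc_d_rc_15_1 lc_d_rc_27_4 lc_d_rc_16_2 lc_d_rc_8_3 lc_d_rc_15_1 lc_d_rc_22_8 lc_d_rc_15_1 lc_d_rc_15_1 lc_d_rc_15_1 lc_d_rc_27_8 lc_d_rc_8_3 lc_d_rc_27_2 lc_d_rc_22_2 lc_d_rc_15_1 lc_d_rc_22_6 lc_d_rc_15_1 lc_d_rc_27_8 lc_d_rc_8_3 lc_d_rc_15_1 lc_d_rc_15_1 lc_d_rc_15_1 lc_d_rc_15_1 lc_d_rc_24_5 lc_d_rc_23_4 lc_d_rc_8_3 lc_d_rc_15_1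 lc_d_rc_15_1 lc_d_rc_8_3 lc_d_rc_15_1 lc_d_rc_8_3 lc_d_rc_23_2 lc_d_rc_22_4 lc_d_rc_15_1 lc_d_Cert_tree lc_d_rc_15_1 lc_d_rc_22_6 lc_d_rc_22_4 lc_d_rc_22_8 lc_d_rc_15_1 lc_d_rc_23_4 lc_d_rc_27_2 lc_d_rc_27_2 lc_d_rc_3_3 lc_d_rc_8_3 lc_d_rc_22_4 lc_d_rc_16_4 lc_d_rc_17_2 lc_d_rc_12_5 lc_d_rc_22_4 lc_d_rc_15_1 lc_d_rc_15_1 lc_d_rc_15_1 lc_d_rc_15_1 lc_d_rc_15_1 lc_d_rc_15_1 lc_d_rc_8_3 lc_d_rc_27_10 lc_d_rc_27_2 lc_d_rc_12_1 lc_d_rc_27_8) (@D3.rec (fun _ => (Cert rels S Gen.d)) lc_d_rc_15_1 lc_d_rc_3_1 lc_d_rc_15_1 lc_d_rc_27_8 lc_d_rc_15_1 lc_d_rc_15_1 lc_d_rc_15_1 lc_d_rc_15_1 lc_d_rc_15_1 lc_d_rc_23_4 lc_d_rc_27_4 lc_d_rc_15_1 lc_d_rc_16_2 lc_d_rc_16_4 lc_d_rc_24_5 lc_d_rc_15_1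 lc_d_rc_15_1 lc_d_rc_16_0 lc_d_rc_16_2 lc_d_rc_27_10 lc_d_rc_23_8 lc_d_rc_15_1 lc_d_rc_8_3 lc_d_rc_8_3 lc_d_rc_27_2 lc_d_rc_24_0 lc_d_rc_23_4 lc_d_rc_16_2 lc_d_rc_23_6 lc_d_rc_3_3 lc_d_rc_15_1 lc_d_rc_15_1 lc_d_rc_15_1 lc_d_rc_3_3 lc_d_rc_27_8 lc_d_rc_27_4 lc_d_rc_17_0 lc_d_rc_27_2 lc_d_rc_8_3 lc_d_rc_15_1 lc_d_rc_27_10 lc_d_rc_8_3 lc_d_rc_27_10 lc_d_rc_27_4 lc_d_rc_16_2 lc_d_rc_15_1 lc_d_rc_15_1 lc_d_rc_23_2 lc_d_rc_24_0 lc_d_rc_15_1 lc_d_rc_15_1 lc_d_rc_15_1 lc_d_rc_24_5 lc_d_rc_3_3 lc_d_rc_25_2 lc_d_rc_15_1 lc_d_rc_27_10 lc_d_rc_8_1 lc_d_rc_8_3 lc_d_rc_15_1 lc_d_rc_25_2 lc_d_rc_27_2) (@D3.rec (fun _ => (Cert rels S Gen.d)) lc_d_rc_27_2 lc_d_rc_8_3 lc_d_rc_15_1 lc_d_rc_15_1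 lc_d_rc_27_10 lc_d_rc_8_3 lc_d_rc_23_2 lc_d_rc_15_1 lc_d_rc_15_1 lc_d_rc_24_0 lc_d_rc_15_1 lc_d_rc_23_6 lc_d_rc_15_1 lc_d_rc_22_8 lc_d_rc_8_3 lc_d_rc_15_1 lc_d_rc_27_2 lc_d_rc_22_8 lc_d_rc_27_10 lc_d_rc_8_1 lc_d_rc_15_1 lc_d_rc_15_1 lc_d_rc_15_1 lc_d_rc_23_8 lc_d_rc_8_3 lc_d_rc_22_4 lc_d_rc_15_1 lc_d_rc_15_1 lc_d_rc_15_1 lc_d_rc_16_4 lc_d_rc_15_1 lc_d_rc_16_0 lc_d_rc_15_1 lc_d_rc_8_3 lc_d_rc_8_3 lc_d_rc_15_1 lc_d_rc_8_3 lc_d_rc_15_1 lc_d_rc_15_1 lc_d_rc_8_1 lc_d_rc_15_1 lc_d_rc_25_2 lc_d_rc_15_1 lc_d_rc_27_10 lc_d_rc_15_1 lc_d_rc_17_2 lc_d_rc_23_2 lc_d_rc_15_1 lc_d_rc_15_1 lc_d_rc_27_2 lc_d_rc_15_1 lc_d_rc_15_1 lc_d_rc_27_10 lc_d_rc_27_2 lc_d_rc_22_6 lc_d_rc_17_2 lc_d_rc_23_6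 lc_d_rc_24_0 lc_d_rc_23_4 lc_d_rc_15_1 lc_d_rc_22_2 lc_d_rc_8_1) (@D3.rec (fun _ => (Cert rels S Gen.d)) lc_d_rc_15_1 lc_d_rc_15_1 lc_d_rc_15_1 lc_d_rc_27_4 lc_d_rc_15_1 lc_d_rc_22_8 lc_d_rc_23_2 lc_d_rc_8_3 lc_d_rc_25_2 lc_d_rc_8_3 lc_d_rc_15_1 lc_d_rc_8_3 lc_d_rc_15_1 lc_d_rc_8_1 lc_d_rc_15_1 lc_d_rc_8_3 lc_d_rc_15_1 lc_d_rc_15_1 lc_d_rc_15_1 lc_d_rc_15_1 lc_d_rc_15_1 lc_d_rc_27_8 lc_d_rc_8_3 lc_d_rc_25_10 lc_d_rc_16_2 lc_d_rc_8_3 lc_d_rc_15_1 lc_d_rc_17_2 lc_d_rc_15_1 lc_d_rc_23_6 lc_d_rc_16_2 lc_d_rc_15_1 lc_d_rc_16_4 lc_d_rc_15_1 lc_d_rc_15_1 lc_d_rc_15_1 lc_d_rc_27_2 lc_d_rc_3_3 lc_d_rc_3_1 lc_d_rc_15_1 lc_d_rc_15_1 lc_d_rc_27_4 lc_d_rc_24_5 lc_d_rc_23_6 lc_d_rc_15_1 lc_d_rc_24_5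 lc_d_rc_8_1 lc_d_rc_15_1 lc_d_rc_17_2 lc_d_rc_23_6 lc_d_rc_15_1 lc_d_rc_8_3 lc_d_rc_24_5 lc_d_rc_27_8 lc_d_rc_22_4 lc_d_rc_27_4 lc_d_rc_8_3 lc_d_rc_3_3 lc_d_rc_27_8 lc_d_rc_24_0 lc_d_rc_15_1 lc_d_rc_8_1) (@D3.rec (fun _ => (Cert rels S Gen.d)) lc_d_rc_15_1 lc_d_rc_22_6 lc_d_rc_23_4 lc_d_rc_3_1 lc_d_rc_15_1 lc_d_rc_22_6 lc_d_rc_23_4 lc_d_rc_15_1 lc_d_rc_17_2 lc_d_rc_24_0 lc_d_rc_8_1 lc_d_rc_22_2 lc_d_rc_15_1 lc_d_rc_22_2 lc_d_rc_15_1 lc_d_rc_15_1 lc_d_rc_15_1 lc_d_rc_3_3 lc_d_rc_15_1 lc_d_rc_8_3 lc_d_rc_15_1 lc_d_rc_16_4 lc_d_rc_22_2 lc_d_rc_22_6 lc_d_rc_8_3 lc_d_rc_27_4 lc_d_rc_15_1 lc_d_rc_22_2 lc_d_rc_15_1 lc_d_rc_25_10 lc_d_rc_22_6 lc_d_rc_8_3 lc_d_rc_3_3 lc_d_rc_27_10 lc_d_rc_16_0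 lc_d_rc_17_0 lc_d_rc_16_4 lc_d_rc_15_1 lc_d_rc_22_4 lc_d_rc_16_4 lc_d_rc_8_3 lc_d_rc_15_1 lc_d_rc_25_10 lc_d_rc_3_3 lc_d_rc_15_1 lc_d_rc_15_1 lc_d_rc_27_4 lc_d_rc_25_18 lc_d_rc_27_10 lc_d_rc_24_5 lc_d_rc_15_1 lc_d_rc_25_2 lc_d_rc_15_1 lc_d_rc_17_2 lc_d_rc_8_1 lc_d_rc_23_4 lc_d_rc_15_1 lc_d_rc_15_1 lc_d_rc_22_4 lc_d_rc_8_3 lc_d_rc_27_2 lc_d_rc_8_1) (@D3.rec (fun _ => (Cert rels S Gen.d)) lc_d_rc_16_4 lc_d_rc_8_3 lc_d_rc_27_4 lc_d_rc_25_2 lc_d_rc_16_4 lc_d_rc_15_1 lc_d_rc_27_4 lc_d_rc_15_1 lc_d_rc_27_2 lc_d_rc_17_2 lc_d_rc_23_4 lc_d_rc_23_4 lc_d_rc_22_2 lc_d_rc_15_1 lc_d_rc_17_2 lc_d_rc_27_2 lc_d_rc_15_1 lc_d_rc_24_5 lc_d_rc_23_4 lc_d_rc_25_2 lc_d_rc_15_1 lc_d_rc_15_1 lc_d_rc_27_10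 lc_d_rc_24_5 lc_d_rc_27_4 lc_d_rc_16_4 lc_d_rc_15_1 lc_d_rc_22_8 lc_d_rc_15_1 lc_d_rc_15_1 lc_d_rc_15_1 lc_d_rc_15_1 lc_d_rc_15_1 lc_d_rc_15_1 lc_d_rc_22_4 lc_d_rc_8_3 lc_d_rc_24_5 lc_d_rc_22_6 lc_d_rc_16_4 lc_d_rc_23_6 lc_d_rc_12_15 lc_d_rc_16_2 lc_d_rc_25_10 lc_d_rc_8_3 lc_d_rc_25_2 lc_d_rc_3_3 lc_d_rc_8_3 lc_d_rc_16_0 lc_d_rc_23_4 lc_d_rc_16_0 lc_d_rc_27_8 lc_d_rc_12_15 lc_d_rc_15_1 lc_d_rc_23_8 lc_d_rc_16_0 lc_d_rc_15_1 lc_d_rc_15_1 lc_d_rc_8_3 lc_d_rc_8_3 lc_d_rc_15_1 lc_d_rc_27_8 lc_d_rc_25_2) (@D3.rec (fun _ => (Cert rels S Gen.d)) lc_d_rc_15_1 lc_d_rc_8_3 lc_d_rc_27_10 lc_d_rc_15_1 lc_d_rc_8_1 lc_d_rc_27_10 lc_d_rc_24_0 lc_d_rc_27_4 lc_d_rc_15_1 lc_d_rc_15_1 lc_d_rc_15_1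 lc_d_rc_16_0 lc_d_rc_17_2 lc_d_rc_22_4 lc_d_rc_15_1 lc_d_rc_15_1 lc_d_rc_15_1 lc_d_rc_12_13 lc_d_rc_22_8 lc_d_rc_23_4 lc_d_rc_15_1 lc_d_rc_25_18 lc_d_rc_16_0 lc_d_rc_22_6 lc_d_rc_8_3 lc_d_rc_24_0 lc_d_rc_27_2 lc_d_rc_22_4 lc_d_rc_23_2 lc_d_rc_15_1 lc_d_rc_22_6 lc_d_rc_15_1 lc_d_rc_17_2 lc_d_rc_25_2 lc_d_rc_15_1 lc_d_rc_15_1 lc_d_rc_27_10 lc_d_rc_27_2 lc_d_rc_24_0 lc_d_rc_15_1 lc_d_rc_15_1 lc_d_rc_15_1 lc_d_rc_16_4 lc_d_rc_15_1 lc_d_rc_22_6 lc_d_rc_27_4 lc_d_rc_27_4 lc_d_rc_15_1 lc_d_rc_27_4 lc_d_rc_15_1 lc_d_rc_25_2 lc_d_rc_27_2 lc_d_rc_27_10 lc_d_rc_16_0 lc_d_rc_8_3 lc_d_rc_17_2 lc_d_rc_27_10 lc_d_rc_8_3 lc_d_rc_15_1 lc_d_rc_24_5 lc_d_rc_17_2 lc_d_rc_8_1) (@D3.rec (fun _ =>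 (Cert rels S Gen.d)) lc_d_rc_15_1 lc_d_rc_15_1 lc_d_rc_17_0 lc_d_rc_15_1 lc_d_rc_15_1 lc_d_rc_23_8 lc_d_rc_15_1 lc_d_rc_15_1 lc_d_rc_17_2 lc_d_rc_8_3 lc_d_rc_8_1 lc_d_rc_22_8 lc_d_rc_3_1 lc_d_rc_15_1 lc_d_rc_22_2 lc_d_rc_8_3 lc_d_rc_22_4 lc_d_rc_27_8 lc_d_rc_25_6 lc_d_rc_3_3 lc_d_rc_24_5 lc_d_rc_15_1 lc_d_rc_27_2 lc_d_rc_17_2 lc_d_rc_15_1 lc_d_rc_16_4 lc_d_rc_27_4 lc_d_rc_16_0 lc_d_rc_17_2 lc_d_rc_12_15 lc_d_rc_27_2 lc_d_rc_15_1 lc_d_rc_8_1 lc_d_rc_24_0 lc_d_rc_15_1 lc_d_rc_15_1 lc_d_rc_12_15 lc_d_rc_16_4 lc_d_rc_22_4 lc_d_rc_3_1 lc_d_rc_27_10 lc_d_rc_8_3 lc_d_rc_3_3 lc_d_rc_15_1 lc_d_rc_16_2 lc_d_rc_16_0 lc_d_rc_15_1 lc_d_rc_15_1 lc_d_rc_15_1 lc_d_rc_15_1 lc_d_rc_16_4 lc_d_rc_3_1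 lc_d_rc_15_1 lc_d_rc_24_5 lc_d_rc_15_1 lc_d_rc_23_2 lc_d_rc_15_1 lc_d_rc_15_1 lc_d_rc_27_8 lc_d_rc_24_5 lc_d_rc_15_1 lc_d_rc_3_1) (@D3.rec (fun _ => (Cert rels S Gen.d)) lc_d_rc_16_0 lc_d_rc_15_1 lc_d_rc_27_2 lc_d_rc_27_10 lc_d_rc_8_3 lc_d_rc_15_1 lc_d_rc_15_1 lc_d_rc_15_1 lc_d_rc_24_5 lc_d_rc_27_4 lc_d_rc_16_0 lc_d_rc_17_2 lc_d_rc_24_5 lc_d_rc_15_1 lc_d_rc_15_1 lc_d_rc_23_4 lc_d_rc_15_1 lc_d_rc_15_1 lc_d_rc_22_4 lc_d_rc_17_2 lc_d_rc_15_1 lc_d_rc_15_1 lc_d_rc_15_1 lc_d_rc_27_8 lc_d_rc_8_3 lc_d_rc_15_1 lc_d_rc_22_2 lc_d_rc_17_2 lc_d_rc_23_4 lc_d_rc_15_1 lc_d_rc_27_4 lc_d_rc_27_4 lc_d_rc_15_1 lc_d_rc_27_2 lc_d_rc_15_1 lc_d_rc_15_1 lc_d_rc_15_1 lc_d_rc_17_2 lc_d_rc_15_1 lc_d_rc_24_5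 lc_d_rc_15_1 lc_d_rc_15_1 lc_d_rc_27_8 lc_d_rc_27_10 lc_d_rc_22_6 lc_d_rc_17_2 lc_d_rc_15_1 lc_d_rc_23_6 lc_d_rc_17_2 lc_d_rc_8_1 lc_d_rc_15_1 lc_d_rc_27_2 lc_d_rc_24_0 lc_d_rc_22_4 lc_d_rc_15_1 lc_d_rc_15_1 lc_d_rc_16_2 lc_d_rc_24_0 lc_d_rc_15_1 lc_d_rc_24_0 lc_d_rc_16_2 lc_d_rc_17_0) (@D3.rec (fun _ => (Cert rels S Gen.d)) lc_d_rc_16_2 lc_d_rc_15_1 lc_d_rc_15_1 lc_d_rc_15_1 lc_d_rc_16_4 lc_d_rc_27_4 lc_d_rc_15_1 lc_d_rc_23_2 lc_d_rc_25_18 lc_d_rc_22_2 lc_d_rc_8_3 lc_d_rc_27_10 lc_d_rc_16_0 lc_d_rc_16_4 lc_d_rc_24_5 lc_d_rc_24_0 lc_d_rc_15_1 lc_d_rc_22_2 lc_d_rc_15_1 lc_d_rc_23_2 lc_d_rc_23_6 lc_d_rc_15_1 lc_d_rc_15_1 lc_d_rc_15_1 lc_d_rc_22_4 lc_d_rc_22_6 lc_d_rc_17_2 lc_d_rc_25_10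 lc_d_rc_27_10 lc_d_rc_23_2 lc_d_rc_3_3 lc_d_rc_8_1 lc_d_rc_15_1 lc_d_rc_17_2 lc_d_rc_15_1 lc_d_rc_12_3 lc_d_rc_23_2 lc_d_rc_15_1 lc_d_rc_22_4 lc_d_rc_15_1 lc_d_rc_15_1 lc_d_rc_17_2 lc_d_rc_15_1 lc_d_rc_16_4 lc_d_rc_23_6 lc_d_rc_15_1 lc_d_rc_25_18 lc_d_Cert_tree lc_d_rc_15_1 lc_d_rc_17_2 lc_d_rc_22_4 lc_d_rc_23_6 lc_d_rc_8_1 lc_d_rc_15_1 lc_d_rc_15_1 lc_d_rc_15_1 lc_d_rc_27_8 lc_d_rc_8_3 lc_d_rc_8_3 lc_d_rc_15_1 lc_d_rc_23_2 lc_d_Cert_tree) (@D3.rec (fun _ => (Cert rels S Gen.d)) lc_d_rc_16_0 lc_d_rc_15_1 lc_d_rc_17_2 lc_d_rc_8_3 lc_d_rc_3_1 lc_d_rc_24_0 lc_d_rc_17_2 lc_d_rc_27_10 lc_d_rc_16_2 lc_d_rc_15_1 lc_d_rc_16_2 lc_d_rc_27_10 lc_d_rc_8_3 lc_d_rc_23_6 lc_d_rc_23_4 lc_d_rc_24_0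 lc_d_rc_16_2 lc_d_rc_15_1 lc_d_rc_24_0 lc_d_rc_15_1 lc_d_rc_25_6 lc_d_rc_22_2 lc_d_rc_15_1 lc_d_rc_15_1 lc_d_rc_16_4 lc_d_rc_24_5 lc_d_rc_15_1 lc_d_rc_15_1 lc_d_rc_15_1 lc_d_rc_16_2 lc_d_rc_25_2 lc_d_rc_24_0 lc_d_rc_16_4 lc_d_rc_15_1 lc_d_rc_24_0 lc_d_rc_15_1 lc_d_rc_25_2 lc_d_rc_16_0 lc_d_rc_15_1 lc_d_rc_23_6 lc_d_rc_23_4 lc_d_rc_16_4 lc_d_rc_24_5 lc_d_rc_17_2 lc_d_rc_8_3 lc_d_rc_15_1 lc_d_rc_8_3 lc_d_rc_8_3 lc_d_rc_25_18 lc_d_rc_22_8 lc_d_rc_3_3 lc_d_rc_3_3 lc_d_rc_27_8 lc_d_rc_23_4 lc_d_rc_24_0 lc_d_rc_15_1 lc_d_rc_24_0 lc_d_rc_22_4 lc_d_rc_23_2 lc_d_rc_23_4 lc_d_rc_23_2 lc_d_rc_15_1) (@D3.rec (fun _ => (Cert rels S Gen.d)) lc_d_rc_15_1 lc_d_rc_15_1 lc_d_rc_8_1 lc_d_rc_23_4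 lc_d_rc_12_13 lc_d_rc_27_4 lc_d_rc_23_8 lc_d_rc_16_0 lc_d_rc_15_1 lc_d_rc_22_6 lc_d_rc_15_1 lc_d_rc_27_8 lc_d_rc_16_4 lc_d_rc_16_4 lc_d_rc_23_2 lc_d_rc_15_1 lc_d_rc_16_2 lc_d_rc_23_6 lc_d_rc_15_1 lc_d_rc_15_1 lc_d_rc_15_1 lc_d_rc_22_8 lc_d_rc_8_3 lc_d_rc_8_1 lc_d_rc_22_2 lc_d_rc_23_4 lc_d_rc_23_4 lc_d_rc_16_2 lc_d_rc_25_6 lc_d_rc_8_3 lc_d_rc_15_1 lc_d_rc_23_8 lc_d_rc_3_3 lc_d_rc_22_6 lc_d_rc_27_2 lc_d_rc_8_1 lc_d_rc_15_1 lc_d_rc_8_1 lc_d_rc_23_2 lc_d_rc_15_1 lc_d_rc_8_1 lc_d_rc_25_2 lc_d_rc_17_2 lc_d_rc_8_3 lc_d_rc_8_1 lc_d_rc_24_0 lc_d_rc_8_3 lc_d_rc_15_1 lc_d_rc_3_1 lc_d_rc_15_1 lc_d_rc_22_6 lc_d_rc_8_3 lc_d_rc_17_2 lc_d_rc_23_6 lc_d_rc_15_1 lc_d_rc_15_1 lc_d_rc_27_4 lc_d_rc_23_2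 lc_d_rc_23_2 lc_d_rc_15_1 lc_d_rc_3_3 lc_d_rc_15_1) (@D3.rec (fun _ => (Cert rels S Gen.d)) lc_d_rc_15_1 lc_d_rc_8_3 lc_d_rc_22_4 lc_d_rc_22_4 lc_d_rc_8_1 lc_d_rc_24_0 lc_d_rc_22_2 lc_d_rc_16_2 lc_d_rc_24_0 lc_d_rc_3_1 lc_d_rc_27_10 lc_d_rc_22_4 lc_d_rc_27_2 lc_d_rc_27_2 lc_d_rc_8_3 lc_d_rc_27_10 lc_d_rc_15_1 lc_d_rc_22_2 lc_d_rc_8_1 lc_d_rc_16_2 lc_d_rc_8_3 lc_d_rc_15_1 lc_d_rc_17_2 lc_d_rc_16_2 lc_d_rc_22_6 lc_d_rc_15_1 lc_d_rc_12_15 lc_d_rc_25_2 lc_d_rc_15_1 lc_d_rc_8_1 lc_d_rc_15_1 lc_d_rc_23_4 lc_d_rc_8_3 lc_d_rc_15_1 lc_d_rc_22_6 lc_d_rc_16_4 lc_d_rc_16_4 lc_d_rc_15_1 lc_d_rc_15_1 lc_d_Cert_tree lc_d_rc_3_3 lc_d_rc_15_1 lc_d_rc_8_1 lc_d_rc_15_1 lc_d_rc_27_2 lc_d_rc_17_2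 lc_d_rc_22_8 lc_d_rc_23_6 lc_d_rc_8_3 lc_d_rc_16_2 lc_d_rc_17_2 lc_d_rc_8_1 lc_d_rc_3_3 lc_d_rc_8_1 lc_d_rc_17_2 lc_d_rc_22_4 lc_d_rc_15_1 lc_d_rc_23_4 lc_d_rc_16_4 lc_d_rc_17_0 lc_d_rc_8_3 lc_d_rc_16_2) (@D3.rec (fun _ => (Cert rels S Gen.d)) lc_d_rc_27_10 lc_d_rc_16_4 lc_d_rc_22_6 lc_d_rc_8_1 lc_d_rc_15_1 lc_d_rc_27_4 lc_d_rc_8_1 lc_d_rc_16_2 lc_d_rc_22_8 lc_d_rc_16_4 lc_d_rc_23_2 lc_d_rc_15_1 lc_d_rc_16_4 lc_d_rc_22_4 lc_d_rc_12_1 lc_d_rc_27_4 lc_d_rc_22_4 lc_d_rc_15_1 lc_d_rc_27_2 lc_d_rc_15_1 lc_d_rc_17_2 lc_d_rc_17_0 lc_d_rc_16_4 lc_d_rc_16_2 lc_d_rc_27_4 lc_d_rc_22_6 lc_d_rc_8_3 lc_d_rc_15_1 lc_d_rc_8_3 lc_d_rc_15_1 lc_d_rc_15_1 lc_d_rc_15_1 lc_d_rc_8_3 lc_d_rc_15_1 lc_d_rc_16_0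 lc_d_rc_16_4 lc_d_rc_15_1 lc_d_rc_15_1 lc_d_rc_22_4 lc_d_rc_15_1 lc_d_rc_23_4 lc_d_rc_27_8 lc_d_rc_8_3 lc_d_rc_16_2 lc_d_rc_17_2 lc_d_rc_15_1 lc_d_rc_15_1 lc_d_rc_16_4 lc_d_rc_23_2 lc_d_rc_16_4 lc_d_rc_24_5 lc_d_rc_16_4 lc_d_rc_8_3 lc_d_rc_27_2 lc_d_rc_8_3 lc_d_rc_27_10 lc_d_rc_22_8 lc_d_rc_15_1 lc_d_rc_15_1 lc_d_rc_27_4 lc_d_rc_8_3 lc_d_rc_27_10) (@D3.rec (fun _ => (Cert rels S Gen.d)) lc_d_rc_23_4 lc_d_rc_22_4 lc_d_rc_23_4 lc_d_rc_22_4 lc_d_rc_16_4 lc_d_rc_24_5 lc_d_rc_8_3 lc_d_rc_8_3 lc_d_rc_22_6 lc_d_rc_8_3 lc_d_rc_24_5 lc_d_rc_16_4 lc_d_rc_15_1 lc_d_rc_16_4 lc_d_rc_27_4 lc_d_rc_16_4 lc_d_rc_16_2 lc_d_rc_15_1 lc_d_rc_16_4 lc_d_rc_27_2 lc_d_rc_22_2 lc_d_rc_8_1 lc_d_rc_15_1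 lc_d_rc_15_1 lc_d_rc_27_4 lc_d_rc_25_10 lc_d_rc_8_3 lc_d_rc_24_0 lc_d_rc_17_0 lc_d_rc_24_0 lc_d_rc_8_3 lc_d_rc_15_1 lc_d_rc_16_4 lc_d_rc_23_4 lc_d_rc_15_1 lc_d_rc_17_2 lc_d_rc_16_4 lc_d_rc_15_1 lc_d_rc_27_2 lc_d_rc_17_2 lc_d_rc_8_3 lc_d_rc_17_0 lc_d_rc_22_2 lc_d_rc_17_2 lc_d_rc_23_2 lc_d_rc_15_1 lc_d_rc_17_2 lc_d_rc_24_5 lc_d_rc_16_0 lc_d_rc_22_4 lc_d_rc_24_5 lc_d_rc_15_1 lc_d_rc_22_4 lc_d_rc_22_2 lc_d_rc_15_1 lc_d_rc_27_4 lc_d_rc_15_1 lc_d_rc_22_2 lc_d_rc_23_2 lc_d_rc_12_15 lc_d_rc_16_2 lc_d_rc_22_4) (@D3.rec (fun _ => (Cert rels S Gen.d)) lc_d_rc_15_1 lc_d_rc_22_4 lc_d_rc_15_1 lc_d_rc_12_1 lc_d_rc_15_1 lc_d_rc_27_2 lc_d_rc_3_1 lc_d_rc_23_4 lc_d_rc_16_4 lc_d_rc_24_0 lc_d_rc_8_3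 lc_d_rc_15_1 lc_d_rc_8_1 lc_d_rc_8_3 lc_d_rc_27_10 lc_d_rc_27_4 lc_d_rc_27_4 lc_d_rc_15_1 lc_d_rc_25_2 lc_d_rc_23_8 lc_d_rc_15_1 lc_d_rc_27_2 lc_d_rc_23_2 lc_d_rc_15_1 lc_d_rc_25_6 lc_d_rc_15_1 lc_d_rc_8_1 lc_d_rc_24_5 lc_d_rc_24_5 lc_d_rc_15_1 lc_d_rc_27_4 lc_d_rc_15_1 lc_d_rc_15_1 lc_d_rc_23_4 lc_d_rc_16_4 lc_d_rc_16_0 lc_d_rc_12_9 lc_d_rc_16_4 lc_d_rc_23_6 lc_d_rc_16_2 lc_d_rc_15_1 lc_d_rc_8_3 lc_d_rc_12_1 lc_d_rc_15_1 lc_d_rc_3_1 lc_d_rc_8_3 lc_d_rc_16_4 lc_d_rc_22_6 lc_d_rc_22_4 lc_d_rc_24_5 lc_d_rc_23_8 lc_d_rc_24_0 lc_d_rc_8_3 lc_d_rc_8_3 lc_d_rc_16_2 lc_d_rc_12_13 lc_d_rc_16_0 lc_d_rc_17_2 lc_d_rc_15_1 lc_d_rc_17_2 lc_d_rc_16_2 lc_d_rc_8_1) (@D3.rec (fun _ => (Cert rels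 S Gen.d)) lc_d_rc_22_2 lc_d_rc_8_3 lc_d_rc_27_4 lc_d_rc_27_4 lc_d_rc_16_0 lc_d_rc_16_2 lc_d_rc_24_0 lc_d_rc_15_1 lc_d_rc_16_2 lc_d_rc_16_0 lc_d_rc_17_2 lc_d_rc_22_4 lc_d_rc_16_2 lc_d_rc_8_1 lc_d_rc_15_1 lc_d_rc_16_4 lc_d_rc_22_4 lc_d_rc_15_1 lc_d_rc_27_4 lc_d_rc_15_1 lc_d_rc_24_5 lc_d_rc_15_1 lc_d_rc_16_4 lc_d_rc_15_1 lc_d_rc_15_1 lc_d_rc_22_8 lc_d_rc_22_8 lc_d_rc_15_1 lc_d_rc_15_1 lc_d_rc_22_2 lc_d_rc_22_4 lc_d_rc_24_5 lc_d_rc_15_1 lc_d_rc_12_15 lc_d_rc_17_2 lc_d_rc_23_6 lc_d_rc_17_2 lc_d_rc_15_1 lc_d_rc_23_6 lc_d_rc_23_6 lc_d_rc_8_1 lc_d_rc_3_3 lc_d_rc_22_4 lc_d_rc_15_1 lc_d_rc_22_2 lc_d_rc_15_1 lc_d_rc_15_1 lc_d_rc_15_1 lc_d_rc_15_1 lc_d_rc_15_1 lc_d_rc_27_4 lc_d_rc_15_1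 lc_d_rc_15_1 lc_d_rc_27_8 lc_d_rc_23_4 lc_d_rc_25_2 lc_d_rc_24_5 lc_d_rc_24_0 lc_d_rc_15_1 lc_d_rc_23_4 lc_d_rc_16_2 lc_d_rc_24_0) (@D3.rec (fun _ => (Cert rels S Gen.d)) lc_d_rc_23_6 lc_d_rc_27_4 lc_d_rc_23_6 lc_d_rc_8_3 lc_d_rc_15_1 lc_d_rc_16_2 lc_d_rc_22_8 lc_d_rc_23_4 lc_d_rc_24_0 lc_d_rc_25_2 lc_d_rc_25_6 lc_d_rc_8_3 lc_d_rc_22_4 lc_d_rc_15_1 lc_d_rc_15_1 lc_d_rc_15_1 lc_d_rc_27_2 lc_d_rc_15_1 lc_d_rc_8_1 lc_d_rc_16_2 lc_d_rc_15_1 lc_d_rc_22_2 lc_d_rc_8_3 lc_d_rc_15_1 lc_d_rc_3_3 lc_d_rc_15_1 lc_d_rc_22_2 lc_d_rc_3_3 lc_d_rc_15_1 lc_d_rc_22_6 lc_d_rc_8_3 lc_d_rc_27_2 lc_d_rc_15_1 lc_d_rc_8_3 lc_d_rc_23_6 lc_d_rc_15_1 lc_d_rc_22_2 lc_d_rc_3_1 lc_d_rc_24_0 lc_d_rc_12_15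 lc_d_rc_15_1 lc_d_rc_25_18 lc_d_rc_15_1 lc_d_rc_8_3 lc_d_rc_16_0 lc_d_rc_8_3 lc_d_rc_8_3 lc_d_rc_15_1 lc_d_rc_8_3 lc_d_rc_15_1 lc_d_rc_12_15 lc_d_rc_8_3 lc_d_rc_15_1 lc_d_rc_27_2 lc_d_rc_16_4 lc_d_rc_15_1 lc_d_rc_15_1 lc_d_rc_8_1 lc_d_rc_22_4 lc_d_Cert_tree lc_d_rc_15_1 lc_d_rc_8_3) (@D3.rec (fun _ => (Cert rels S Gen.d)) lc_d_rc_15_1 lc_d_rc_15_1 lc_d_rc_16_2 lc_d_rc_23_6 lc_d_rc_15_1 lc_d_rc_23_6 lc_d_rc_8_3 lc_d_rc_15_1 lc_d_rc_15_1 lc_d_rc_15_1 lc_d_rc_22_2 lc_d_rc_15_1 lc_d_rc_23_4 lc_d_rc_16_4 lc_d_rc_22_8 lc_d_rc_22_6 lc_d_rc_25_18 lc_d_rc_15_1 lc_d_rc_16_2 lc_d_rc_15_1 lc_d_rc_27_2 lc_d_rc_8_3 lc_d_rc_12_1 lc_d_rc_22_2 lc_d_rc_23_2 lc_d_rc_8_3 lc_d_rc_16_2 lc_d_rc_8_1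 lc_d_rc_22_4 lc_d_rc_15_1 lc_d_rc_15_1 lc_d_rc_15_1 lc_d_rc_12_1 lc_d_rc_15_1 lc_d_rc_22_4 lc_d_rc_24_0 lc_d_rc_15_1 lc_d_rc_15_1 lc_d_rc_25_6 lc_d_rc_15_1 lc_d_rc_23_4 lc_d_rc_15_1 lc_d_rc_15_1 lc_d_rc_15_1 lc_d_rc_15_1 lc_d_rc_15_1 lc_d_rc_25_18 lc_d_rc_15_1 lc_d_rc_15_1 lc_d_rc_23_4 lc_d_rc_15_1 lc_d_rc_16_2 lc_d_rc_15_1 lc_d_rc_22_2 lc_d_rc_22_2 lc_d_rc_15_1 lc_d_rc_8_3 lc_d_rc_12_1 lc_d_rc_23_4 lc_d_rc_23_6 lc_d_rc_8_1 lc_d_rc_16_4) (@D3.rec (fun _ => (Cert rels S Gen.d)) lc_d_rc_8_3 lc_d_rc_8_3 lc_d_rc_22_2 lc_d_rc_23_6 lc_d_rc_15_1 lc_d_rc_15_1 lc_d_rc_8_1 lc_d_rc_15_1 lc_d_rc_15_1 lc_d_rc_22_4 lc_d_rc_24_5 lc_d_rc_15_1 lc_d_rc_22_2 lc_d_rc_12_1 lc_d_rc_15_1 lc_d_rc_27_4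 lc_d_rc_17_2 lc_d_rc_8_3 lc_d_rc_17_2 lc_d_rc_24_0 lc_d_rc_17_2 lc_d_rc_16_4 lc_d_rc_8_3 lc_d_rc_8_3 lc_d_rc_8_3 lc_d_rc_15_1 lc_d_rc_27_4 lc_d_rc_22_8 lc_d_rc_15_1 lc_d_rc_15_1 lc_d_rc_15_1 lc_d_rc_22_4 lc_d_rc_15_1 lc_d_rc_8_3 lc_d_rc_27_4 lc_d_rc_23_6 lc_d_rc_16_4 lc_d_rc_16_0 lc_d_rc_8_1 lc_d_rc_8_3 lc_d_rc_8_3 lc_d_rc_27_4 lc_d_rc_15_1 lc_d_rc_27_2 lc_d_rc_15_1 lc_d_rc_27_2 lc_d_rc_23_4 lc_d_rc_22_4 lc_d_rc_15_1 lc_d_rc_24_5 lc_d_rc_8_3 lc_d_rc_16_2 lc_d_rc_15_1 lc_d_rc_23_2 lc_d_rc_3_1 lc_d_rc_25_2 lc_d_rc_8_1 lc_d_rc_22_6 lc_d_rc_16_4 lc_d_rc_22_6 lc_d_rc_16_4 lc_d_rc_15_1) (@D3.rec (fun _ => (Cert rels S Gen.d)) lc_d_rc_15_1 lc_d_rc_15_1 lc_d_rc_8_3 lc_d_rc_8_3 lc_d_rc_16_4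 lc_d_rc_8_3 lc_d_rc_27_10 lc_d_rc_17_2 lc_d_rc_15_1 lc_d_rc_22_4 lc_d_rc_15_1 lc_d_rc_15_1 lc_d_rc_17_0 lc_d_rc_15_1 lc_d_rc_22_2 lc_d_rc_16_0 lc_d_rc_15_1 lc_d_rc_15_1 lc_d_rc_15_1 lc_d_rc_15_1 lc_d_rc_15_1 lc_d_rc_24_5 lc_d_rc_15_1 lc_d_rc_15_1 lc_d_rc_12_15 lc_d_rc_17_2 lc_d_rc_8_1 lc_d_rc_15_1 lc_d_rc_15_1 lc_d_rc_27_8 lc_d_rc_15_1 lc_d_rc_27_10 lc_d_rc_22_6 lc_d_rc_16_2 lc_d_rc_15_1 lc_d_rc_15_1 lc_d_rc_15_1 lc_d_rc_15_1 lc_d_rc_15_1 lc_d_rc_12_1 lc_d_rc_23_4 lc_d_rc_8_3 lc_d_rc_15_1 lc_d_rc_15_1 lc_d_rc_15_1 lc_d_rc_25_6 lc_d_rc_15_1 lc_d_rc_16_0 lc_d_rc_27_2 lc_d_rc_27_2 lc_d_rc_12_15 lc_d_rc_24_0 lc_d_rc_15_1 lc_d_rc_3_1 lc_d_rc_15_1 lc_d_rc_15_1 lc_d_rc_22_4 lc_d_rc_23_4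 lc_d_rc_15_1 lc_d_rc_17_2 lc_d_rc_15_1 lc_d_rc_12_15) (@D3.rec (fun _ => (Cert rels S Gen.d)) lc_d_rc_15_1 lc_d_rc_24_0 lc_d_rc_16_2 lc_d_rc_15_1 lc_d_rc_8_3 lc_d_rc_15_1 lc_d_rc_23_8 lc_d_rc_15_1 lc_d_rc_15_1 lc_d_rc_15_1 lc_d_rc_16_4 lc_d_rc_15_1 lc_d_rc_15_1 lc_d_rc_16_2 lc_d_rc_15_1 lc_d_rc_8_3 lc_d_rc_15_1 lc_d_rc_15_1 lc_d_rc_22_6 lc_d_rc_23_6 lc_d_rc_23_8 lc_d_rc_22_8 lc_d_rc_24_0 lc_d_rc_16_0 lc_d_rc_8_3 lc_d_rc_8_1 lc_d_rc_17_0 lc_d_rc_15_1 lc_d_rc_8_3 lc_d_rc_22_8 lc_d_rc_27_10 lc_d_rc_8_1 lc_d_rc_27_2 lc_d_rc_27_2 lc_d_rc_16_0 lc_d_rc_8_3 lc_d_rc_16_0 lc_d_rc_3_3 lc_d_rc_15_1 lc_d_rc_15_1 lc_d_rc_17_2 lc_d_rc_16_4 lc_d_rc_15_1 lc_d_rc_15_1 lc_d_rc_24_5 lc_d_rc_24_0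 lc_d_rc_16_4 lc_d_rc_27_8 lc_d_rc_8_3 lc_d_rc_15_1 lc_d_rc_23_6 lc_d_rc_15_1 lc_d_rc_23_2 lc_d_rc_25_2 lc_d_rc_8_3 lc_d_rc_16_2 lc_d_rc_27_2 lc_d_rc_23_2 lc_d_rc_16_4 lc_d_rc_23_4 lc_d_rc_22_4 lc_d_rc_15_1) (@D3.rec (fun _ => (Cert rels S Gen.d)) lc_d_rc_15_1 lc_d_rc_15_1 lc_d_rc_12_1 lc_d_rc_16_4 lc_d_rc_16_2 lc_d_rc_8_3 lc_d_rc_15_1 lc_d_rc_15_1 lc_d_rc_23_8 lc_d_rc_16_4 lc_d_rc_15_1 lc_d_rc_27_2 lc_d_rc_8_3 lc_d_rc_8_3 lc_d_rc_27_4 lc_d_rc_15_1 lc_d_rc_16_2 lc_d_rc_17_2 lc_d_rc_24_0 lc_d_rc_15_1 lc_d_rc_8_1 lc_d_rc_27_4 lc_d_rc_3_1 lc_d_rc_12_15 lc_d_rc_15_1 lc_d_rc_27_10 lc_d_rc_23_8 lc_d_rc_16_2 lc_d_rc_16_4 lc_d_rc_16_0 lc_d_rc_23_6 lc_d_rc_12_7 lc_d_rc_8_3 lc_d_rc_23_2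 lc_d_rc_25_2 lc_d_rc_22_6 lc_d_rc_3_3 lc_d_rc_15_1 lc_d_rc_15_1 lc_d_rc_15_1 lc_d_rc_27_4 lc_d_rc_15_1 lc_d_rc_27_10 lc_d_rc_17_2 lc_d_rc_15_1 lc_d_rc_23_6 lc_d_rc_27_8 lc_d_rc_24_0 lc_d_rc_22_8 lc_d_rc_22_4 lc_d_rc_15_1 lc_d_rc_15_1 lc_d_rc_8_3 lc_d_rc_23_2 lc_d_rc_15_1 lc_d_rc_15_1 lc_d_rc_17_2 lc_d_rc_16_0 lc_d_rc_27_8 lc_d_rc_15_1 lc_d_rc_22_8 lc_d_rc_8_3) (@D3.rec (fun _ => (Cert rels S Gen.d)) lc_d_rc_16_4 lc_d_rc_22_2 lc_d_rc_15_1 lc_d_rc_15_1 lc_d_rc_23_2 lc_d_rc_15_1 lc_d_rc_15_1 lc_d_rc_27_4 lc_d_rc_15_1 lc_d_rc_27_8 lc_d_rc_15_1 lc_d_rc_15_1 lc_d_rc_8_1 lc_d_rc_23_2 lc_d_rc_27_10 lc_d_rc_24_0 lc_d_rc_15_1 lc_d_rc_15_1 lc_d_rc_15_1 lc_d_rc_27_8 lc_d_rc_24_5 lc_d_rc_15_1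 lc_d_rc_15_1 lc_d_rc_16_4 lc_d_rc_16_0 lc_d_rc_15_1 lc_d_rc_16_4 lc_d_rc_25_2 lc_d_rc_15_1 lc_d_rc_23_4 lc_d_rc_8_3 lc_d_rc_8_3 lc_d_rc_15_1 lc_d_rc_25_14 lc_d_rc_3_3 lc_d_rc_17_2 lc_d_rc_23_2 lc_d_rc_25_18 lc_d_rc_8_1 lc_d_rc_17_2 lc_d_rc_27_8 lc_d_rc_15_1 lc_d_rc_15_1 lc_d_rc_16_2 lc_d_rc_24_0 lc_d_rc_8_1 lc_d_rc_15_1 lc_d_rc_3_3 lc_d_rc_16_4 lc_d_rc_27_10 lc_d_rc_22_4 lc_d_rc_15_1 lc_d_rc_15_1 lc_d_rc_23_4 lc_d_rc_23_6 lc_d_rc_17_2 lc_d_rc_15_1 lc_d_rc_15_1 lc_d_rc_15_1 lc_d_rc_15_1 lc_d_rc_16_2 lc_d_rc_8_3) (@D3.rec (fun _ => (Cert rels S Gen.d)) lc_d_rc_17_2 lc_d_rc_16_2 lc_d_rc_8_1 lc_d_rc_15_1 lc_d_rc_12_1 lc_d_rc_15_1 lc_d_rc_15_1 lc_d_rc_16_4 lc_d_rc_8_3 lc_d_rc_22_8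 lc_d_rc_15_1 lc_d_rc_27_4 lc_d_rc_15_1 lc_d_rc_15_1 lc_d_rc_23_4 lc_d_rc_22_4 lc_d_rc_22_4 lc_d_rc_8_3 lc_d_rc_15_1 lc_d_rc_15_1 lc_d_rc_8_1 lc_d_rc_23_4 lc_d_rc_22_6 lc_d_rc_27_2 lc_d_rc_8_1 lc_d_rc_15_1 lc_d_rc_25_18 lc_d_rc_24_0 lc_d_rc_27_4 lc_d_rc_12_15 lc_d_rc_16_4 lc_d_rc_24_5 lc_d_rc_15_1 lc_d_rc_27_2 lc_d_rc_15_1 lc_d_rc_27_2 lc_d_rc_17_2 lc_d_rc_23_2 lc_d_rc_16_4 lc_d_rc_15_1 lc_d_rc_8_1 lc_d_rc_15_1 lc_d_rc_27_10 lc_d_rc_8_3 lc_d_rc_16_4 lc_d_rc_24_0 lc_d_rc_16_4 lc_d_rc_15_1 lc_d_rc_17_2 lc_d_rc_16_0 lc_d_rc_16_0 lc_d_rc_23_2 lc_d_rc_3_1 lc_d_rc_17_2 lc_d_rc_15_1 lc_d_rc_17_0 lc_d_rc_15_1 lc_d_rc_15_1 lc_d_rc_15_1 lc_d_rc_16_0 lc_d_rc_17_2 lc_d_rc_23_4) (@D3.rec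 (fun _ => (Cert rels S Gen.d)) lc_d_rc_15_1 lc_d_rc_22_4 lc_d_rc_15_1 lc_d_rc_15_1 lc_d_rc_27_10 lc_d_rc_8_3 lc_d_rc_8_3 lc_d_rc_15_1 lc_d_rc_15_1 lc_d_rc_15_1 lc_d_rc_22_4 lc_d_rc_8_1 lc_d_rc_15_1 lc_d_rc_16_4 lc_d_Cert_tree lc_d_rc_22_6 lc_d_rc_16_4 lc_d_rc_15_1 lc_d_rc_22_6 lc_d_rc_25_2 lc_d_rc_16_4 lc_d_rc_15_1 lc_d_rc_15_1 lc_d_rc_15_1 lc_d_rc_8_1 lc_d_rc_17_2 lc_d_rc_16_0 lc_d_rc_16_4 lc_d_rc_22_4 lc_d_rc_27_2 lc_d_rc_8_3 lc_d_rc_27_2 lc_d_rc_15_1 lc_d_rc_8_1 lc_d_rc_24_0 lc_d_rc_22_4 lc_d_rc_16_4 lc_d_rc_22_4 lc_d_rc_15_1 lc_d_rc_16_4 lc_d_rc_27_2 lc_d_rc_8_1 lc_d_rc_22_6 lc_d_rc_8_3 lc_d_rc_27_2 lc_d_rc_15_1 lc_d_rc_27_8 lc_d_rc_22_4 lc_d_rc_15_1 lc_d_rc_15_1 lc_d_rc_16_2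 lc_d_rc_15_1 lc_d_rc_8_1 lc_d_rc_15_1 lc_d_rc_15_1 lc_d_rc_8_3 lc_d_rc_23_4 lc_d_rc_17_2 lc_d_rc_15_1 lc_d_rc_27_2 lc_d_rc_22_8 lc_d_rc_15_1) (@D3.rec (fun _ => (Cert rels S Gen.d)) lc_d_rc_15_1 lc_d_rc_15_1 lc_d_rc_8_3 lc_d_rc_15_1 lc_d_rc_3_3 lc_d_rc_15_1 lc_d_rc_23_6 lc_d_rc_27_10 lc_d_rc_12_1 lc_d_rc_17_2 lc_d_rc_8_3 lc_d_rc_15_1 lc_d_rc_15_1 lc_d_rc_27_2 lc_d_rc_15_1 lc_d_rc_27_2 lc_d_rc_24_0 lc_d_rc_8_3 lc_d_rc_15_1 lc_d_rc_8_1 lc_d_rc_16_4 lc_d_rc_8_3 lc_d_rc_24_0 lc_d_rc_24_5 lc_d_rc_16_4 lc_d_rc_24_0 lc_d_rc_27_2 lc_d_rc_8_3 lc_d_rc_8_3 lc_d_rc_24_0 lc_d_rc_15_1 lc_d_rc_15_1 lc_d_rc_16_0 lc_d_rc_17_0 lc_d_rc_15_1 lc_d_rc_15_1 lc_d_rc_24_0 lc_d_rc_16_0 lc_d_rc_15_1 lc_d_rc_25_18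 lc_d_rc_8_3 lc_d_rc_15_1 lc_d_rc_8_3 lc_d_rc_8_3 lc_d_rc_23_4 lc_d_rc_23_4 lc_d_rc_8_3 lc_d_rc_8_3 lc_d_rc_15_1 lc_d_rc_27_4 lc_d_rc_8_3 lc_d_rc_15_1 lc_d_rc_15_1 lc_d_rc_17_2 lc_d_rc_16_2 lc_d_rc_15_1 lc_d_rc_16_2 lc_d_rc_23_4 lc_d_rc_24_0 lc_d_rc_3_3 lc_d_rc_3_3 lc_d_rc_15_1) (@D3.rec (fun _ => (Cert rels S Gen.d)) lc_d_rc_12_15 lc_d_rc_8_3 lc_d_rc_16_4 lc_d_rc_27_4 lc_d_rc_17_2 lc_d_rc_15_1 lc_d_rc_22_4 lc_d_rc_16_4 lc_d_rc_15_1 lc_d_rc_22_8 lc_d_rc_25_2 lc_d_rc_15_1 lc_d_rc_15_1 lc_d_rc_24_0 lc_d_rc_15_1 lc_d_rc_27_4 lc_d_rc_17_2 lc_d_rc_15_1 lc_d_rc_27_2 lc_d_rc_15_1 lc_d_rc_15_1 lc_d_rc_27_2 lc_d_rc_23_4 lc_d_rc_15_1 lc_d_rc_22_6 lc_d_rc_27_10 lc_d_rc_22_8 lc_d_rc_8_3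 lc_d_rc_15_1 lc_d_rc_23_4 lc_d_rc_8_3 lc_d_rc_17_2 lc_d_rc_8_3 lc_d_rc_17_2 lc_d_rc_3_3 lc_d_rc_24_0 lc_d_rc_23_2 lc_d_rc_22_6 lc_d_rc_15_1 lc_d_rc_15_1 lc_d_rc_15_1 lc_d_rc_27_2 lc_d_rc_23_2 lc_d_rc_24_0 lc_d_rc_27_10 lc_d_rc_16_0 lc_d_rc_15_1 lc_d_rc_8_1 lc_d_rc_16_4 lc_d_rc_15_1 lc_d_rc_27_10 lc_d_rc_15_1 lc_d_rc_24_5 lc_d_rc_8_3 lc_d_rc_17_0 lc_d_rc_17_0 lc_d_rc_22_6 lc_d_rc_15_1 lc_d_rc_8_3 lc_d_rc_22_4 lc_d_rc_15_1 lc_d_rc_8_1) (@D3.rec (fun _ => (Cert rels S Gen.d)) lc_d_rc_15_1 lc_d_rc_3_3 lc_d_rc_3_3 lc_d_rc_3_3 lc_d_rc_8_3 lc_d_rc_15_1 lc_d_rc_8_1 lc_d_rc_22_4 lc_d_rc_25_2 lc_d_rc_27_4 lc_d_rc_27_10 lc_d_rc_15_1 lc_d_rc_17_2 lc_d_rc_23_6 lc_d_rc_24_5 lc_d_rc_8_1 lc_d_rc_27_10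 lc_d_Cert_tree lc_d_rc_22_4 lc_d_rc_16_4 lc_d_rc_8_3 lc_d_rc_8_1 lc_d_rc_8_3 lc_d_rc_27_8 lc_d_rc_15_1 lc_d_rc_15_1 lc_d_rc_23_2 lc_d_rc_27_4 lc_d_rc_15_1 lc_d_rc_15_1 lc_d_rc_23_6 lc_d_rc_23_2 lc_d_rc_23_6 lc_d_rc_22_2 lc_d_rc_15_1 lc_d_rc_3_3 lc_d_rc_16_4 lc_d_rc_15_1 lc_d_rc_3_3 lc_d_rc_15_1 lc_d_rc_17_2 lc_d_rc_8_1 lc_d_rc_16_4 lc_d_rc_15_1 lc_d_rc_8_3 lc_d_rc_3_1 lc_d_rc_25_6 lc_d_rc_8_3 lc_d_rc_27_8 lc_d_rc_23_8 lc_d_rc_15_1 lc_d_rc_8_1 lc_d_rc_15_1 lc_d_rc_8_3 lc_d_rc_22_8 lc_d_rc_24_0 lc_d_rc_23_2 lc_d_rc_27_2 lc_d_rc_15_1 lc_d_rc_25_18 lc_d_rc_15_1 lc_d_rc_3_3) (@D3.rec (fun _ => (Cert rels S Gen.d)) lc_d_rc_15_1 lc_d_rc_25_18 lc_d_rc_24_0 lc_d_rc_23_6 lc_d_rc_15_1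 lc_d_rc_8_3 lc_d_rc_16_2 lc_d_rc_15_1 lc_d_rc_22_4 lc_d_rc_24_5 lc_d_rc_23_4 lc_d_rc_16_4 lc_d_rc_15_1 lc_d_rc_22_4 lc_d_rc_8_1 lc_d_rc_23_8 lc_d_rc_15_1 lc_d_rc_15_1 lc_d_rc_16_2 lc_d_rc_8_3 lc_d_rc_22_4 lc_d_rc_15_1 lc_d_rc_22_2 lc_d_rc_16_2 lc_d_rc_15_1 lc_d_rc_27_4 lc_d_rc_22_8 lc_d_rc_23_2 lc_d_rc_22_4 lc_d_rc_27_10 lc_d_rc_15_1 lc_d_rc_16_4 lc_d_rc_25_10 lc_d_rc_15_1 lc_d_rc_22_4 lc_d_rc_15_1 lc_d_rc_23_6 lc_d_rc_23_2 lc_d_rc_24_5 lc_d_rc_8_3 lc_d_rc_8_3 lc_d_rc_24_5 lc_d_rc_3_3 lc_d_rc_15_1 lc_d_rc_22_8 lc_d_rc_22_6 lc_d_rc_25_14 lc_d_rc_25_18 lc_d_rc_8_3 lc_d_rc_23_4 lc_d_rc_17_0 lc_d_rc_22_4 lc_d_rc_8_3 lc_d_rc_22_8 lc_d_rc_27_8 lc_d_rc_16_4 lc_d_rc_16_4 lc_d_rc_16_4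 lc_d_rc_15_1 lc_d_rc_15_1 lc_d_rc_15_1 lc_d_rc_15_1) (@D3.rec (fun _ => (Cert rels S Gen.d)) lc_d_rc_17_2 lc_d_rc_27_8 lc_d_rc_15_1 lc_d_rc_22_2 lc_d_rc_15_1 lc_d_rc_15_1 lc_d_rc_16_0 lc_d_rc_16_4 lc_d_rc_15_1 lc_d_rc_8_3 lc_d_rc_8_3 lc_d_rc_25_14 lc_d_rc_15_1 lc_d_rc_8_3 lc_d_rc_25_2 lc_d_rc_8_1 lc_d_rc_15_1 lc_d_rc_8_1 lc_d_rc_25_18 lc_d_rc_8_1 lc_d_rc_25_2 lc_d_rc_16_2 lc_d_rc_25_2 lc_d_rc_27_4 lc_d_rc_15_1 lc_d_rc_15_1 lc_d_rc_8_3 lc_d_rc_15_1 lc_d_rc_23_6 lc_d_rc_3_1 lc_d_rc_16_2 lc_d_rc_22_2 lc_d_rc_23_8 lc_d_rc_17_2 lc_d_rc_22_2 lc_d_rc_27_4 lc_d_rc_15_1 lc_d_rc_3_1 lc_d_rc_15_1 lc_d_rc_15_1 lc_d_rc_15_1 lc_d_rc_15_1 lc_d_rc_8_3 lc_d_rc_15_1 lc_d_rc_15_1 lc_d_rc_8_3 lc_d_rc_27_8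 lc_d_rc_27_8 lc_d_rc_8_3 lc_d_rc_15_1 lc_d_rc_22_4 lc_d_rc_17_2 lc_d_rc_15_1 lc_d_rc_15_1 lc_d_rc_16_4 lc_d_rc_22_2 lc_d_rc_15_1 lc_d_rc_27_2 lc_d_rc_8_1 lc_d_rc_17_0 lc_d_rc_24_5 lc_d_rc_27_8) (@D3.rec (fun _ => (Cert rels S Gen.d)) lc_d_rc_24_0 lc_d_rc_25_2 lc_d_rc_8_3 lc_d_rc_22_8 lc_d_rc_16_0 lc_d_rc_15_1 lc_d_rc_15_1 lc_d_rc_23_6 lc_d_rc_15_1 lc_d_rc_15_1 lc_d_rc_15_1 lc_d_rc_27_2 lc_d_rc_15_1 lc_d_rc_22_2 lc_d_rc_3_3 lc_d_rc_25_2 lc_d_rc_8_3 lc_d_rc_24_0 lc_d_rc_8_3 lc_d_rc_3_1 lc_d_rc_15_1 lc_d_rc_22_4 lc_d_rc_15_1 lc_d_rc_8_1 lc_d_rc_15_1 lc_d_rc_8_3 lc_d_rc_22_8 lc_d_rc_22_6 lc_d_rc_22_8 lc_d_rc_15_1 lc_d_rc_15_1 lc_d_rc_15_1 lc_d_rc_15_1 lc_d_rc_8_3 lc_d_rc_15_1 lc_d_rc_8_3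 lc_d_rc_15_1 lc_d_rc_17_2 lc_d_rc_15_1 lc_d_rc_23_6 lc_d_rc_8_3 lc_d_rc_8_1 lc_d_rc_17_0 lc_d_rc_27_2 lc_d_rc_15_1 lc_d_rc_17_2 lc_d_rc_23_2 lc_d_rc_27_8 lc_d_rc_24_5 lc_d_rc_17_2 lc_d_rc_15_1 lc_d_rc_15_1 lc_d_rc_15_1 lc_d_rc_8_1 lc_d_rc_16_4 lc_d_rc_15_1 lc_d_rc_8_1 lc_d_rc_27_4 lc_d_rc_15_1 lc_d_rc_15_1 lc_d_rc_8_3 lc_d_rc_23_6) (@D3.rec (fun _ => (Cert rels S Gen.d)) lc_d_rc_8_3 lc_d_rc_23_8 lc_d_rc_15_1 lc_d_rc_17_2 lc_d_rc_3_1 lc_d_rc_17_2 lc_d_rc_8_3 lc_d_rc_12_15 lc_d_rc_12_1 lc_d_rc_23_4 lc_d_rc_15_1 lc_d_rc_23_4 lc_d_rc_15_1 lc_d_rc_8_1 lc_d_rc_15_1 lc_d_rc_17_2 lc_d_rc_22_6 lc_d_rc_8_3 lc_d_rc_23_4 lc_d_rc_16_4 lc_d_rc_23_2 lc_d_rc_15_1 lc_d_rc_8_1 lc_d_rc_22_2 lc_d_rc_24_5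 lc_d_rc_8_3 lc_d_rc_16_0 lc_d_rc_15_1 lc_d_rc_16_2 lc_d_rc_15_1 lc_d_rc_8_1 lc_d_rc_15_1 lc_d_rc_25_14 lc_d_rc_15_1 lc_d_rc_16_0 lc_d_rc_22_4 lc_d_rc_15_1 lc_d_rc_15_1 lc_d_rc_17_2 lc_d_rc_23_4 lc_d_rc_15_1 lc_d_rc_22_6 lc_d_rc_16_0 lc_d_rc_15_1 lc_d_rc_16_4 lc_d_rc_8_1 lc_d_rc_22_4 lc_d_rc_16_4 lc_d_rc_23_4 lc_d_rc_22_6 lc_d_rc_27_8 lc_d_rc_15_1 lc_d_rc_25_2 lc_d_rc_16_4 lc_d_rc_15_1 lc_d_rc_22_8 lc_d_rc_15_1 lc_d_rc_15_1 lc_d_rc_17_2 lc_d_rc_15_1 lc_d_rc_24_5 lc_d_rc_8_1) (@D3.rec (fun _ => (Cert rels S Gen.d)) lc_d_rc_17_0 lc_d_rc_15_1 lc_d_rc_17_0 lc_d_rc_27_10 lc_d_rc_8_3 lc_d_rc_27_4 lc_d_rc_15_1 lc_d_rc_17_2 lc_d_rc_15_1 lc_d_rc_16_2 lc_d_rc_8_1 lc_d_rc_24_0 lc_d_rc_17_2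 lc_d_rc_27_4 lc_d_rc_8_3 lc_d_rc_27_10 lc_d_rc_23_2 lc_d_rc_15_1 lc_d_rc_15_1 lc_d_rc_3_3 lc_d_rc_27_2 lc_d_rc_8_3 lc_d_rc_22_6 lc_d_rc_15_1 lc_d_rc_16_4 lc_d_rc_25_18 lc_d_rc_3_3 lc_d_rc_15_1 lc_d_rc_15_1 lc_d_rc_8_1 lc_d_rc_8_1 lc_d_rc_25_18 lc_d_rc_15_1 lc_d_rc_15_1 lc_d_rc_8_3 lc_d_rc_15_1 lc_d_rc_15_1 lc_d_rc_3_1 lc_d_rc_8_3 lc_d_rc_15_1 lc_d_rc_16_0 lc_d_rc_15_1 lc_d_rc_15_1 lc_d_rc_27_2 lc_d_rc_27_4 lc_d_rc_22_2 lc_d_rc_27_4 lc_d_rc_23_6 lc_d_rc_8_1 lc_d_rc_22_2 lc_d_rc_15_1 lc_d_rc_8_3 lc_d_rc_17_2 lc_d_rc_15_1 lc_d_rc_15_1 lc_d_rc_15_1 lc_d_rc_15_1 lc_d_rc_16_2 lc_d_rc_22_8 lc_d_rc_17_2 lc_d_rc_8_3 lc_d_rc_15_1) (@D3.rec (fun _ => (Cert rels S Gen.d)) lc_d_rc_27_4 lc_d_rc_15_1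 lc_d_rc_16_4 lc_d_rc_16_4 lc_d_rc_15_1 lc_d_rc_15_1 lc_d_rc_15_1 lc_d_rc_23_2 lc_d_rc_24_0 lc_d_rc_15_1 lc_d_rc_24_0 lc_d_rc_3_1 lc_d_rc_15_1 lc_d_rc_8_3 lc_d_rc_15_1 lc_d_rc_22_4 lc_d_rc_3_3 lc_d_rc_24_0 lc_d_rc_15_1 lc_d_rc_16_2 lc_d_rc_15_1 lc_d_rc_22_4 lc_d_rc_22_4 lc_d_rc_8_3 lc_d_rc_8_1 lc_d_rc_16_4 lc_d_rc_15_1 lc_d_rc_15_1 lc_d_rc_3_1 lc_d_rc_22_8 lc_d_rc_8_3 lc_d_rc_24_0 lc_d_rc_15_1 lc_d_rc_16_2 lc_d_rc_12_1 lc_d_rc_16_4 lc_d_rc_15_1 lc_d_rc_3_3 lc_d_rc_8_3 lc_d_rc_8_3 lc_d_rc_8_3 lc_d_rc_16_2 lc_d_rc_15_1 lc_d_rc_27_2 lc_d_rc_15_1 lc_d_rc_15_1 lc_d_rc_15_1 lc_d_rc_15_1 lc_d_rc_15_1 lc_d_rc_17_2 lc_d_rc_16_4 lc_d_rc_27_8 lc_d_rc_15_1 lc_d_rc_27_8 lc_d_rc_17_2 lc_d_rc_15_1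 lc_d_rc_15_1 lc_d_rc_27_8 lc_d_rc_16_2 lc_d_rc_16_4 lc_d_rc_22_2 lc_d_rc_15_1) (@D3.rec (fun _ => (Cert rels S Gen.d)) lc_d_rc_15_1 lc_d_rc_8_3 lc_d_rc_24_5 lc_d_rc_8_3 lc_d_rc_15_1 lc_d_rc_15_1 lc_d_rc_15_1 lc_d_rc_22_4 lc_d_rc_17_2 lc_d_rc_3_3 lc_d_rc_8_3 lc_d_rc_22_2 lc_d_rc_15_1 lc_d_rc_15_1 lc_d_rc_15_1 lc_d_rc_16_4 lc_d_rc_22_8 lc_d_rc_8_1 lc_d_rc_24_5 lc_d_rc_24_5 lc_d_rc_22_4 lc_d_rc_22_4 lc_d_rc_16_4 lc_d_rc_15_1 lc_d_rc_17_2 lc_d_rc_27_2 lc_d_rc_17_2 lc_d_rc_16_4 lc_d_rc_15_1 lc_d_rc_22_4 lc_d_rc_16_2 lc_d_rc_22_4 lc_d_rc_22_8 lc_d_rc_16_4 lc_d_Cert_tree lc_d_rc_22_4 lc_d_rc_17_2 lc_d_rc_16_2 lc_d_rc_8_3 lc_d_rc_8_3 lc_d_rc_24_5 lc_d_rc_25_10 lc_d_rc_15_1 lc_d_rc_15_1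 lc_d_rc_27_8 lc_d_rc_8_3 lc_d_rc_8_1 lc_d_rc_27_2 lc_d_rc_16_4 lc_d_rc_24_5 lc_d_rc_27_10 lc_d_rc_12_15 lc_d_rc_16_4 lc_d_rc_15_1 lc_d_rc_17_2 lc_d_rc_3_1 lc_d_rc_15_1 lc_d_rc_15_1 lc_d_rc_15_1 lc_d_rc_24_0 lc_d_rc_15_1 lc_d_rc_24_5) (@D3.rec (fun _ => (Cert rels S Gen.d)) lc_d_rc_12_15 lc_d_rc_8_3 lc_d_rc_15_1 lc_d_rc_24_5 lc_d_rc_15_1 lc_d_rc_15_1 lc_d_rc_16_2 lc_d_rc_15_1 lc_d_rc_17_2 lc_d_rc_16_4 lc_d_rc_15_1 lc_d_rc_15_1 lc_d_rc_27_2 lc_d_rc_15_1 lc_d_rc_15_1 lc_d_rc_23_6 lc_d_rc_15_1 lc_d_rc_15_1 lc_d_rc_23_4 lc_d_rc_16_2 lc_d_rc_15_1 lc_d_rc_15_1 lc_d_rc_23_6 lc_d_rc_17_2 lc_d_rc_8_3 lc_d_rc_8_1 lc_d_rc_15_1 lc_d_rc_15_1 lc_d_rc_17_2 lc_d_rc_27_2 lc_d_rc_8_3 lc_d_rc_17_2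 lc_d_rc_23_2 lc_d_rc_3_3 lc_d_rc_22_8 lc_d_rc_25_6 lc_d_rc_22_2 lc_d_rc_22_6 lc_d_rc_3_1 lc_d_rc_15_1 lc_d_rc_27_4 lc_d_rc_8_3 lc_d_rc_15_1 lc_d_rc_22_6 lc_d_rc_27_2 lc_d_rc_15_1 lc_d_rc_22_8 lc_d_rc_17_2 lc_d_Cert_tree lc_d_rc_22_2 lc_d_rc_24_0 lc_d_rc_25_2 lc_d_rc_15_1 lc_d_rc_16_2 lc_d_rc_12_1 lc_d_rc_17_2 lc_d_rc_16_4 lc_d_rc_17_2 lc_d_rc_16_2 lc_d_rc_15_1 lc_d_rc_17_2 lc_d_rc_23_6) (@D3.rec (fun _ => (Cert rels S Gen.d)) lc_d_rc_16_4 lc_d_rc_22_6 lc_d_rc_15_1 lc_d_rc_22_4 lc_d_rc_17_2 lc_d_rc_22_8 lc_d_rc_8_1 lc_d_rc_15_1 lc_d_rc_15_1 lc_d_rc_25_18 lc_d_rc_27_4 lc_d_rc_23_4 lc_d_rc_8_3 lc_d_rc_16_2 lc_d_rc_8_1 lc_d_rc_24_5 lc_d_rc_23_6 lc_d_rc_16_2 lc_d_rc_15_1 lc_d_rc_23_2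 lc_d_rc_24_5 lc_d_rc_16_2 lc_d_rc_22_4 lc_d_rc_15_1 lc_d_rc_27_2 lc_d_rc_15_1 lc_d_rc_15_1 lc_d_rc_22_6 lc_d_rc_16_4 lc_d_rc_22_4 lc_d_rc_15_1 lc_d_rc_22_8 lc_d_rc_22_2 lc_d_rc_25_2 lc_d_rc_22_6 lc_d_rc_27_4 lc_d_rc_16_2 lc_d_rc_22_6 lc_d_rc_15_1 lc_d_rc_17_0 lc_d_rc_22_4 lc_d_rc_23_2 lc_d_rc_17_0 lc_d_rc_16_2 lc_d_rc_23_4 lc_d_rc_8_3 lc_d_rc_15_1 lc_d_rc_15_1 lc_d_rc_12_15 lc_d_rc_27_4 lc_d_rc_23_2 lc_d_rc_22_6 lc_d_rc_27_8 lc_d_rc_15_1 lc_d_rc_15_1 lc_d_rc_15_1 lc_d_rc_15_1 lc_d_rc_8_3 lc_d_rc_22_4 lc_d_rc_22_4 lc_d_rc_8_1 lc_d_rc_22_6) (@D3.rec (fun _ => (Cert rels S Gen.d)) lc_d_rc_15_1 lc_d_rc_15_1 lc_d_rc_8_3 lc_d_rc_22_8 lc_d_rc_8_3 lc_d_rc_24_5 lc_d_rc_12_15 lc_d_rc_23_4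 lc_d_Cert_tree lc_d_rc_23_4 lc_d_rc_8_3 lc_d_rc_16_4 lc_d_rc_17_2 lc_d_rc_27_8 lc_d_rc_25_14 lc_d_rc_15_1 lc_d_rc_16_2 lc_d_rc_15_1 lc_d_rc_16_4 lc_d_rc_24_0 lc_d_rc_16_2 lc_d_rc_22_2 lc_d_rc_22_2 lc_d_rc_16_4 lc_d_rc_22_4 lc_d_rc_15_1 lc_d_rc_22_6 lc_d_rc_22_4 lc_d_rc_22_6 lc_d_rc_3_3 lc_d_rc_3_1 lc_d_rc_22_4 lc_d_rc_27_10 lc_d_rc_12_15 lc_d_rc_22_4 lc_d_rc_3_1 lc_d_rc_8_3 lc_d_rc_23_2 lc_d_rc_17_2 lc_d_rc_8_3 lc_d_rc_3_3 lc_d_rc_23_6 lc_d_rc_8_3 lc_d_rc_8_3 lc_d_rc_8_1 lc_d_rc_15_1 lc_d_rc_24_0 lc_d_rc_23_8 lc_d_rc_23_4 lc_d_rc_16_4 lc_d_rc_15_1 lc_d_rc_15_1 lc_d_rc_15_1 lc_d_rc_8_3 lc_d_rc_16_2 lc_d_rc_15_1 lc_d_rc_15_1 lc_d_rc_8_3 lc_d_rc_16_2 lc_d_rc_3_3 lc_d_rc_8_3 lc_d_rc_27_4)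 (@D3.rec (fun _ => (Cert rels S Gen.d)) lc_d_rc_15_1 lc_d_rc_27_4 lc_d_rc_15_1 lc_d_rc_27_4 lc_d_rc_8_1 lc_d_rc_27_10 lc_d_rc_15_1 lc_d_rc_22_4 lc_d_rc_15_1 lc_d_rc_8_3 lc_d_rc_15_1 lc_d_rc_15_1 lc_d_rc_16_4 lc_d_rc_8_1 lc_d_rc_27_4 lc_d_rc_16_2 lc_d_rc_15_1 lc_d_rc_22_2 lc_d_rc_15_1 lc_d_rc_8_3 lc_d_rc_15_1 lc_d_rc_22_2 lc_d_rc_15_1 lc_d_rc_15_1 lc_d_rc_15_1 lc_d_rc_16_0 lc_d_rc_16_2 lc_d_rc_15_1 lc_d_rc_15_1 lc_d_rc_16_4 lc_d_rc_16_4 lc_d_rc_15_1 lc_d_rc_16_4 lc_d_rc_23_4 lc_d_rc_15_1 lc_d_rc_15_1 lc_d_rc_15_1 lc_d_rc_24_5 lc_d_rc_8_3 lc_d_rc_8_3 lc_d_rc_16_0 lc_d_rc_8_3 lc_d_rc_16_0 lc_d_rc_23_8 lc_d_rc_15_1 lc_d_rc_15_1 lc_d_rc_15_1 lc_d_rc_15_1 lc_d_rc_27_4 lc_d_rc_15_1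 lc_d_rc_22_4 lc_d_rc_17_2 lc_d_rc_16_0 lc_d_rc_25_2 lc_d_rc_3_3 lc_d_rc_23_4 lc_d_rc_23_4 lc_d_rc_25_2 lc_d_rc_15_1 lc_d_rc_8_3 lc_d_rc_15_1 lc_d_rc_8_3) (@D3.rec (fun _ => (Cert rels S Gen.d)) lc_d_rc_15_1 lc_d_rc_16_2 lc_d_rc_16_4 lc_d_rc_27_2 lc_d_rc_15_1 lc_d_rc_15_1 lc_d_rc_3_3 lc_d_rc_15_1 lc_d_rc_15_1 lc_d_rc_3_3 lc_d_rc_15_1 lc_d_rc_15_1 lc_d_rc_15_1 lc_d_rc_27_2 lc_d_rc_16_4 lc_d_rc_27_4 lc_d_rc_15_1 lc_d_rc_22_4 lc_d_rc_15_1 lc_d_rc_8_3 lc_d_rc_24_5 lc_d_rc_12_3 lc_d_rc_3_1 lc_d_rc_8_3 lc_d_rc_15_1 lc_d_rc_16_2 lc_d_rc_23_6 lc_d_rc_8_1 lc_d_rc_16_0 lc_d_rc_22_6 lc_d_rc_16_2 lc_d_rc_8_3 lc_d_rc_8_3 lc_d_rc_22_4 lc_d_rc_15_1 lc_d_rc_15_1 lc_d_rc_27_2 lc_d_rc_23_2 lc_d_rc_8_3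 lc_d_rc_8_1 lc_d_rc_16_4 lc_d_rc_23_4 lc_d_rc_22_6 lc_d_rc_15_1 lc_d_rc_15_1 lc_d_rc_23_2 lc_d_rc_15_1 lc_d_rc_8_3 lc_d_rc_27_4 lc_d_rc_24_5 lc_d_rc_17_2 lc_d_rc_15_1 lc_d_rc_8_3 lc_d_rc_23_6 lc_d_rc_27_8 lc_d_rc_15_1 lc_d_rc_12_15 lc_d_rc_8_3 lc_d_rc_15_1 lc_d_rc_15_1 lc_d_rc_22_2 lc_d_rc_24_0) (@D3.rec (fun _ => (Cert rels S Gen.d)) lc_d_rc_16_4 lc_d_rc_8_1 lc_d_rc_24_0 lc_d_rc_27_4 lc_d_rc_27_8 lc_d_rc_27_2 lc_d_rc_24_0 lc_d_rc_16_0 lc_d_rc_15_1 lc_d_rc_15_1 lc_d_rc_15_1 lc_d_rc_27_2 lc_d_rc_8_3 lc_d_rc_15_1 lc_d_rc_15_1 lc_d_rc_27_10 lc_d_rc_16_4 lc_d_rc_12_15 lc_d_rc_27_8 lc_d_rc_23_8 lc_d_rc_27_4 lc_d_rc_16_0 lc_d_rc_15_1 lc_d_rc_24_0 lc_d_rc_8_3 lc_d_rc_16_2 lc_d_rc_8_3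 lc_d_rc_25_18 lc_d_rc_15_1 lc_d_rc_15_1 lc_d_rc_15_1 lc_d_rc_27_4 lc_d_rc_25_10 lc_d_rc_8_3 lc_d_rc_15_1 lc_d_rc_15_1 lc_d_rc_15_1 lc_d_rc_15_1 lc_d_rc_8_3 lc_d_rc_16_4 lc_d_rc_27_4 lc_d_rc_3_3 lc_d_rc_16_4 lc_d_rc_23_2 lc_d_rc_15_1 lc_d_rc_8_3 lc_d_rc_24_0 lc_d_rc_8_3 lc_d_rc_8_3 lc_d_rc_8_3 lc_d_rc_27_4 lc_d_rc_24_5 lc_d_rc_8_3 lc_d_rc_27_2 lc_d_rc_27_2 lc_d_rc_16_4 lc_d_rc_15_1 lc_d_rc_3_3 lc_d_rc_3_3 lc_d_rc_23_2 lc_d_rc_22_2 lc_d_rc_24_0) (@D3.rec (fun _ => (Cert rels S Gen.d)) lc_d_rc_15_1 lc_d_rc_25_6 lc_d_rc_15_1 lc_d_rc_27_8 lc_d_rc_8_3 lc_d_rc_22_2 lc_d_rc_25_18 lc_d_rc_22_4 lc_d_rc_22_4 lc_d_rc_15_1 lc_d_rc_15_1 lc_d_rc_15_1 lc_d_rc_3_3 lc_d_rc_23_2 lc_d_rc_8_3 lc_d_rc_16_4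 lc_d_rc_15_1 lc_d_rc_15_1 lc_d_rc_22_2 lc_d_rc_15_1 lc_d_rc_8_3 lc_d_rc_15_1 lc_d_rc_16_2 lc_d_rc_15_1 lc_d_rc_16_4 lc_d_rc_15_1 lc_d_rc_15_1 lc_d_rc_16_4 lc_d_rc_22_6 lc_d_rc_27_8 lc_d_rc_15_1 lc_d_rc_24_0 lc_d_rc_22_4 lc_d_rc_12_15 lc_d_rc_27_2 lc_d_rc_22_4 lc_d_rc_22_8 lc_d_rc_8_3 lc_d_rc_23_4 lc_d_rc_16_0 lc_d_rc_25_2 lc_d_rc_15_1 lc_d_rc_15_1 lc_d_rc_15_1 lc_d_rc_15_1 lc_d_rc_15_1 lc_d_rc_17_2 lc_d_rc_15_1 lc_d_rc_16_4 lc_d_rc_12_1 lc_d_rc_15_1 lc_d_rc_15_1 lc_d_rc_8_1 lc_d_rc_12_3 lc_d_rc_15_1 lc_d_rc_15_1 lc_d_rc_23_2 lc_d_rc_23_6 lc_d_rc_8_1 lc_d_rc_15_1 lc_d_rc_15_1 lc_d_rc_16_0) (@D3.rec (fun _ => (Cert rels S Gen.d)) lc_d_rc_23_2 lc_d_rc_25_2 lc_d_rc_24_5 lc_d_rc_15_1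 lc_d_rc_15_1 lc_d_rc_16_4 lc_d_rc_15_1 lc_d_rc_24_0 lc_d_rc_15_1 lc_d_rc_22_2 lc_d_Cert_tree lc_d_rc_22_8 lc_d_rc_15_1 lc_d_rc_27_8 lc_d_rc_15_1 lc_d_rc_16_4 lc_d_rc_27_10 lc_d_rc_27_4 lc_d_rc_22_2 lc_d_rc_15_1 lc_d_rc_15_1 lc_d_rc_12_15 lc_d_rc_22_2 lc_d_rc_15_1 lc_d_rc_15_1 lc_d_rc_16_2 lc_d_rc_15_1 lc_d_rc_22_4 lc_d_rc_8_3 lc_d_rc_22_4 lc_d_rc_16_4 lc_d_rc_27_4 lc_d_rc_8_1 lc_d_rc_27_4 lc_d_rc_23_2 lc_d_rc_15_1 lc_d_rc_15_1 lc_d_rc_3_1 lc_d_rc_15_1 lc_d_rc_15_1 lc_d_rc_27_4 lc_d_rc_15_1 lc_d_rc_15_1 lc_d_rc_22_4 lc_d_rc_16_2 lc_d_rc_16_2 lc_d_rc_27_8 lc_d_rc_15_1 lc_d_rc_15_1 lc_d_rc_24_5 lc_d_rc_8_3 lc_d_rc_8_1 lc_d_rc_8_3 lc_d_rc_27_8 lc_d_rc_8_3 lc_d_rc_25_6 lc_d_rc_3_3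 lc_d_rc_27_4 lc_d_rc_24_5 lc_d_rc_16_0 lc_d_rc_22_4 lc_d_rc_16_0) (@D3.rec (fun _ => (Cert rels S Gen.d)) lc_d_rc_23_6 lc_d_rc_24_5 lc_d_rc_23_4 lc_d_rc_8_3 lc_d_rc_8_3 lc_d_rc_25_2 lc_d_rc_12_1 lc_d_rc_17_2 lc_d_rc_16_0 lc_d_rc_25_2 lc_d_rc_22_2 lc_d_rc_17_2 lc_d_rc_16_4 lc_d_rc_8_3 lc_d_rc_27_10 lc_d_rc_16_0 lc_d_rc_8_3 lc_d_rc_15_1 lc_d_rc_24_0 lc_d_rc_17_2 lc_d_rc_15_1 lc_d_rc_15_1 lc_d_rc_17_2 lc_d_rc_15_1 lc_d_rc_27_2 lc_d_rc_23_8 lc_d_rc_15_1 lc_d_rc_16_2 lc_d_rc_16_4 lc_d_rc_15_1 lc_d_rc_16_4 lc_d_rc_15_1 lc_d_rc_15_1 lc_d_rc_15_1 lc_d_rc_16_0 lc_d_rc_15_1 lc_d_rc_8_3 lc_d_rc_8_3 lc_d_rc_25_18 lc_d_rc_8_3 lc_d_rc_22_2 lc_d_rc_16_0 lc_d_rc_22_6 lc_d_rc_3_3 lc_d_rc_27_4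 lc_d_rc_27_2 lc_d_rc_25_6 lc_d_rc_15_1 lc_d_rc_15_1 lc_d_rc_23_2 lc_d_rc_24_5 lc_d_rc_17_2 lc_d_rc_12_15 lc_d_rc_16_4 lc_d_rc_22_2 lc_d_rc_8_1 lc_d_rc_17_0 lc_d_rc_8_1 lc_d_rc_22_2 lc_d_rc_15_1 lc_d_rc_15_1 lc_d_rc_8_3) (@D3.rec (fun _ => (Cert rels S Gen.d)) lc_d_rc_15_1 lc_d_rc_15_1 lc_d_rc_15_1 lc_d_rc_17_2 lc_d_rc_15_1 lc_d_rc_27_4 lc_d_rc_16_2 lc_d_rc_27_2 lc_d_rc_15_1 lc_d_rc_15_1 lc_d_rc_15_1 lc_d_rc_25_6 lc_d_rc_17_0 lc_d_rc_15_1 lc_d_rc_27_4 lc_d_rc_22_4 lc_d_rc_3_1 lc_d_rc_15_1 lc_d_rc_22_6 lc_d_rc_8_3 lc_d_rc_27_2 lc_d_rc_25_2 lc_d_rc_17_0 lc_d_rc_24_5 lc_d_rc_24_5 lc_d_rc_27_2 lc_d_rc_15_1 lc_d_rc_15_1 lc_d_rc_8_3 lc_d_rc_24_0 lc_d_rc_17_2 lc_d_rc_16_2 lc_d_rc_15_1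 lc_d_rc_24_0 lc_d_rc_27_2 lc_d_rc_15_1 lc_d_rc_15_1 lc_d_rc_16_2 lc_d_rc_16_4 lc_d_rc_17_2 lc_d_rc_27_2 lc_d_rc_24_0 lc_d_rc_22_2 lc_d_rc_8_3 lc_d_rc_12_3 lc_d_rc_22_4 lc_d_rc_27_4 lc_d_rc_17_2 lc_d_rc_27_10 lc_d_rc_8_3 lc_d_rc_8_1 lc_d_rc_8_3 lc_d_rc_16_2 lc_d_rc_16_2 lc_d_rc_17_2 lc_d_rc_15_1 lc_d_rc_8_3 lc_d_rc_16_0 lc_d_rc_22_4 lc_d_rc_8_1 lc_d_rc_23_4 lc_d_rc_3_3) (@D3.rec (fun _ => (Cert rels S Gen.d)) lc_d_rc_23_2 lc_d_rc_15_1 lc_d_rc_17_0 lc_d_rc_17_0 lc_d_rc_17_2 lc_d_rc_3_1 lc_d_rc_15_1 lc_d_rc_8_3 lc_d_rc_22_6 lc_d_rc_15_1 lc_d_rc_15_1 lc_d_rc_17_0 lc_d_rc_3_3 lc_d_rc_16_2 lc_d_rc_15_1 lc_d_rc_22_4 lc_d_rc_8_3 lc_d_rc_16_0 lc_d_rc_22_4 lc_d_rc_27_2 lc_d_rc_17_0 lc_d_rc_15_1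 lc_d_rc_27_4 lc_d_rc_3_1 lc_d_rc_15_1 lc_d_rc_22_6 lc_d_rc_15_1 lc_d_rc_15_1 lc_d_rc_15_1 lc_d_rc_23_2 lc_d_rc_24_5 lc_d_rc_8_3 lc_d_rc_16_4 lc_d_rc_15_1 lc_d_rc_15_1 lc_d_rc_15_1 lc_d_rc_15_1 lc_d_rc_15_1 lc_d_rc_15_1 lc_d_rc_22_6 lc_d_rc_16_0 lc_d_rc_15_1 lc_d_rc_15_1 lc_d_rc_15_1 lc_d_rc_15_1 lc_d_rc_15_1 lc_d_rc_23_2 lc_d_rc_16_0 lc_d_rc_15_1 lc_d_rc_15_1 lc_d_rc_8_3 lc_d_rc_3_1 lc_d_rc_23_2 lc_d_rc_23_4 lc_d_rc_15_1 lc_d_rc_17_2 lc_d_rc_15_1 lc_d_rc_8_3 lc_d_rc_15_1 lc_d_rc_15_1 lc_d_rc_15_1 lc_d_rc_22_6) (@D3.rec (fun _ => (Cert rels S Gen.d)) lc_d_rc_24_0 lc_d_rc_16_0 lc_d_rc_16_4 lc_d_rc_27_4 lc_d_rc_8_3 lc_d_rc_16_2 lc_d_rc_16_4 lc_d_rc_15_1 lc_d_rc_17_0 lc_d_rc_16_4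 lc_d_rc_15_1 lc_d_rc_23_6 lc_d_rc_24_0 lc_d_rc_15_1 lc_d_rc_25_2 lc_d_rc_8_3 lc_d_rc_16_4 lc_d_rc_22_4 lc_d_rc_15_1 lc_d_rc_8_1 lc_d_rc_8_3 lc_d_rc_16_0 lc_d_rc_15_1 lc_d_rc_23_2 lc_d_rc_27_4 lc_d_rc_23_6 lc_d_rc_24_0 lc_d_rc_15_1 lc_d_rc_27_2 lc_d_rc_15_1 lc_d_rc_15_1 lc_d_rc_3_3 lc_d_rc_22_4 lc_d_rc_24_0 lc_d_rc_8_3 lc_d_rc_8_3 lc_d_rc_3_1 lc_d_rc_8_1 lc_d_rc_22_6 lc_d_rc_17_2 lc_d_rc_15_1 lc_d_rc_8_3 lc_d_rc_16_4 lc_d_rc_24_5 lc_d_rc_15_1 lc_d_rc_27_2 lc_d_rc_15_1 lc_d_rc_8_3 lc_d_rc_22_8 lc_d_rc_15_1 lc_d_rc_23_6 lc_d_rc_24_5 lc_d_rc_15_1 lc_d_rc_23_2 lc_d_rc_15_1 lc_d_rc_12_15 lc_d_rc_23_8 lc_d_rc_15_1 lc_d_rc_24_0 lc_d_rc_23_4 lc_d_rc_27_10 lc_d_rc_16_4) (@D3.rec (fun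 _ => (Cert rels S Gen.d)) lc_d_rc_8_3 lc_d_rc_27_4 lc_d_rc_15_1 lc_d_rc_8_3 lc_d_rc_15_1 lc_d_rc_8_3 lc_d_rc_15_1 lc_d_rc_23_4 lc_d_rc_8_3 lc_d_rc_22_6 lc_d_rc_15_1 lc_d_rc_15_1 lc_d_rc_16_2 lc_d_rc_24_5 lc_d_rc_12_1 lc_d_rc_12_15 lc_d_rc_27_2 lc_d_rc_22_8 lc_d_rc_25_2 lc_d_rc_15_1 lc_d_rc_15_1 lc_d_rc_23_4 lc_d_rc_15_1 lc_d_rc_16_2 lc_d_rc_8_3 lc_d_rc_15_1 lc_d_rc_15_1 lc_d_rc_22_2 lc_d_rc_15_1 lc_d_rc_17_2 lc_d_rc_15_1 lc_d_rc_15_1 lc_d_rc_3_3 lc_d_rc_27_4 lc_d_rc_16_2 lc_d_rc_23_6 lc_d_rc_27_4 lc_d_rc_25_2 lc_d_rc_15_1 lc_d_rc_25_2 lc_d_rc_15_1 lc_d_rc_15_1 lc_d_rc_23_8 lc_d_rc_23_4 lc_d_rc_15_1 lc_d_rc_22_8 lc_d_rc_15_1 lc_d_rc_8_3 lc_d_rc_8_3 lc_d_rc_24_0 lc_d_rc_15_1 lc_d_rc_16_2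 lc_d_rc_15_1 lc_d_rc_15_1 lc_d_rc_23_2 lc_d_rc_15_1 lc_d_rc_15_1 lc_d_rc_15_1 lc_d_rc_3_3 lc_d_rc_24_0 lc_d_rc_15_1 lc_d_rc_15_1) (@D3.rec (fun _ => (Cert rels S Gen.d)) lc_d_rc_8_3 lc_d_rc_22_2 lc_d_rc_15_1 lc_d_rc_8_3 lc_d_rc_24_0 lc_d_rc_3_3 lc_d_rc_8_3 lc_d_rc_24_5 lc_d_rc_27_8 lc_d_rc_8_3 lc_d_rc_8_3 lc_d_rc_24_5 lc_d_rc_8_3 lc_d_rc_8_1 lc_d_rc_15_1 lc_d_rc_27_10 lc_d_rc_22_2 lc_d_rc_8_3 lc_d_rc_22_8 lc_d_rc_15_1 lc_d_rc_23_2 lc_d_rc_8_3 lc_d_rc_24_0 lc_d_rc_16_2 lc_d_rc_16_4 lc_d_rc_25_2 lc_d_rc_8_1 lc_d_rc_15_1 lc_d_rc_24_5 lc_d_rc_15_1 lc_d_rc_22_4 lc_d_rc_15_1 lc_d_rc_22_6 lc_d_rc_27_2 lc_d_rc_8_3 lc_d_rc_24_5 lc_d_rc_17_2 lc_d_rc_15_1 lc_d_rc_15_1 lc_d_rc_15_1 lc_d_rc_23_6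 lc_d_rc_25_2 lc_d_rc_15_1 lc_d_rc_23_4 lc_d_rc_8_3 lc_d_rc_16_4 lc_d_rc_15_1 lc_d_rc_15_1 lc_d_rc_27_8 lc_d_rc_15_1 lc_d_rc_17_2 lc_d_rc_15_1 lc_d_rc_16_4 lc_d_rc_15_1 lc_d_rc_27_8 lc_d_rc_23_8 lc_d_rc_15_1 lc_d_rc_15_1 lc_d_rc_16_4 lc_d_rc_17_2 lc_d_rc_27_4 lc_d_rc_22_6) (@D3.rec (fun _ => (Cert rels S Gen.d)) lc_d_rc_22_2 lc_d_rc_8_3 lc_d_rc_15_1 lc_d_rc_15_1 lc_d_rc_15_1 lc_d_rc_23_2 lc_d_rc_16_2 lc_d_rc_15_1 lc_d_rc_8_3 lc_d_rc_17_2 lc_d_rc_15_1 lc_d_rc_22_6 lc_d_rc_8_1 lc_d_rc_15_1 lc_d_rc_15_1 lc_d_rc_27_10 lc_d_rc_15_1 lc_d_rc_16_4 lc_d_rc_15_1 lc_d_rc_15_1 lc_d_rc_15_1 lc_d_rc_17_2 lc_d_rc_22_6 lc_d_rc_16_2 lc_d_rc_17_2 lc_d_rc_16_2 lc_d_rc_8_3 lc_d_rc_16_4 lc_d_rc_22_2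 lc_d_rc_15_1 lc_d_rc_15_1 lc_d_rc_24_0 lc_d_rc_16_4 lc_d_rc_27_10 lc_d_rc_27_8 lc_d_rc_24_5 lc_d_rc_15_1 lc_d_rc_22_4 lc_d_rc_22_8 lc_d_rc_22_8 lc_d_rc_24_0 lc_d_rc_8_1 lc_d_rc_15_1 lc_d_rc_17_2 lc_d_rc_17_0 lc_d_rc_16_4 lc_d_rc_3_1 lc_d_rc_22_6 lc_d_rc_15_1 lc_d_rc_22_2 lc_d_rc_15_1 lc_d_rc_15_1 lc_d_rc_23_2 lc_d_rc_15_1 lc_d_rc_22_8 lc_d_rc_24_0 lc_d_rc_8_3 lc_d_rc_27_8 lc_d_rc_23_8 lc_d_rc_24_0 lc_d_rc_27_2 lc_d_rc_15_1) (@D3.rec (fun _ => (Cert rels S Gen.d)) lc_d_rc_27_4 lc_d_rc_15_1 lc_d_rc_23_6 lc_d_rc_17_2 lc_d_rc_15_1 lc_d_rc_3_3 lc_d_rc_17_2 lc_d_rc_12_15 lc_d_rc_8_1 lc_d_rc_25_2 lc_d_rc_15_1 lc_d_rc_23_4 lc_d_rc_22_8 lc_d_rc_15_1 lc_d_rc_15_1 lc_d_rc_27_4 lc_d_rc_15_1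 lc_d_rc_27_4 lc_d_rc_16_4 lc_d_rc_16_2 lc_d_rc_8_3 lc_d_rc_15_1 lc_d_rc_22_6 lc_d_rc_15_1 lc_d_rc_15_1 lc_d_rc_16_0 lc_d_rc_22_2 lc_d_rc_22_2 lc_d_rc_23_6 lc_d_rc_15_1 lc_d_rc_16_4 lc_d_rc_8_3 lc_d_rc_3_3 lc_d_rc_24_0 lc_d_rc_8_3 lc_d_rc_17_2 lc_d_rc_22_6 lc_d_rc_16_0 lc_d_rc_3_3 lc_d_rc_22_8 lc_d_rc_15_1 lc_d_rc_3_1 lc_d_rc_16_2 lc_d_rc_15_1 lc_d_rc_15_1 lc_d_rc_3_3 lc_d_rc_23_4 lc_d_rc_24_0 lc_d_rc_8_3 lc_d_rc_16_4 lc_d_rc_8_3 lc_d_rc_15_1 lc_d_rc_15_1 lc_d_rc_16_2 lc_d_rc_27_2 lc_d_rc_16_2 lc_d_rc_15_1 lc_d_rc_3_3 lc_d_rc_16_4 lc_d_rc_27_10 lc_d_rc_8_3 lc_d_rc_16_2)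
def ce_d : Pt → (Cert rels S Gen.d) := @Pt.rec (fun _ => (Cert rels S Gen.d)) (@D1.rec (fun _ => D2 → D3 → (Cert rels S Gen.d)) ce_d_0 ce_d_1 ce_d_2 ce_d_3 ce_d_4 ce_d_5 ce_d_6 ce_d_7 ce_d_8 ce_d_9 ce_d_10 ce_d_11 ce_d_12 ce_d_13 ce_d_14 ce_d_15 ce_d_16 ce_d_17 ce_d_18 ce_d_19 ce_d_20 ce_d_21 ce_d_22 ce_d_23 ce_d_24 ce_d_25 ce_d_26 ce_d_27 ce_d_28 ce_d_29 ce_d_30 ce_d_31 ce_d_32)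
def z3_d : D3 → Nat := fun _ => 0
def z2_d : D2 → D3 → Nat := fun _ _ => 0
def sd_d_0 : D2 → D3 → Nat := @D2.rec (fun _ => D3 → Nat) (@D3.rec (fun _ => Nat) 0 0 0 0 0 0 0 0 0 0 0 0 0 0 0 0 0 0 0 0 0 0 0 0 0 0 0 0 0 0 0 0 14 0 0 0 0 0 0 0 0 5 0 0 0 0 0 0 0 0 0 0 0 0 0 0 0 0 0 0 0 0) z3_d (@D3.rec (fun _ => Nat) 0 0 0 0 0 0 0 0 0 0 0 0 0 0 0 0 0 0 0 0 0 0 0 0 0 0 0 0 0 0 0 0 3 0 0 0 0 0 0 0 0 0 0 0 0 0 0 0 0 0 0 0 0 0 0 0 0 0 0 0 0 0) z3_d z3_d z3_d z3_d z3_d z3_d z3_d z3_d z3_d z3_d z3_d z3_d z3_d z3_d z3_d z3_d z3_d z3_d z3_d z3_d z3_d z3_d z3_d z3_d z3_d z3_d z3_d z3_d z3_d z3_d z3_d z3_d z3_d z3_d z3_d z3_d z3_d z3_d z3_d z3_d z3_d z3_d z3_d z3_d z3_d z3_d z3_d z3_d z3_d z3_d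 z3_d z3_d z3_d z3_d z3_d z3_d z3_d
def sd_d_1 : D2 → D3 → Nat := @D2.rec (fun _ => D3 → Nat) z3_d z3_d z3_d z3_d z3_d z3_d z3_d z3_d z3_d z3_d z3_d z3_d z3_d z3_d z3_d z3_d z3_d z3_d z3_d z3_d z3_d z3_d z3_d z3_d z3_d z3_d z3_d z3_d z3_d z3_d z3_d z3_d z3_d z3_d z3_d z3_d z3_d (@D3.rec (fun _ => Nat) 0 0 0 0 548 0 0 0 0 0 0 0 0 0 0 0 0 0 0 0 0 0 0 0 0 0 0 0 0 0 0 0 0 0 0 0 0 0 0 0 0 0 0 0 0 0 0 0 0 0 0 0 0 0 0 0 0 0 0 0 0 0) z3_d z3_d z3_d z3_d z3_d z3_d z3_d z3_d (@D3.rec (fun _ => Nat) 0 0 0 0 0 0 0 0 0 0 0 0 0 0 0 0 0 0 0 0 0 0 0 0 0 0 0 0 0 0 0 0 0 38 0 0 0 0 0 0 0 0 0 0 0 0 0 0 0 0 0 0 0 0 0 0 0 0 0 0 0 0) z3_d z3_d z3_d z3_d z3_d z3_d z3_d z3_d z3_d z3_d z3_d z3_d z3_d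
def sd_d_2 : D2 → D3 → Nat := @D2.rec (fun _ => D3 → Nat) z3_d z3_d z3_d z3_d z3_d z3_d z3_d z3_d z3_d z3_d z3_d z3_d z3_d z3_d z3_d z3_d z3_d z3_d z3_d z3_d (@D3.rec (fun _ => Nat) 0 0 0 0 0 0 0 0 0 0 726 0 0 0 0 0 0 0 0 0 0 0 0 0 0 0 0 0 0 0 0 0 0 0 0 0 0 0 0 0 0 0 0 0 0 0 0 0 0 0 0 0 0 0 0 0 0 0 0 0 0 0) z3_d z3_d z3_d z3_d z3_d z3_d z3_d z3_d z3_d z3_d z3_d z3_d z3_d z3_d z3_d z3_d z3_d z3_d z3_d z3_d z3_d z3_d z3_d z3_d z3_d (@D3.rec (fun _ => Nat) 0 0 0 0 0 0 0 0 0 0 0 0 0 0 0 0 0 0 0 0 0 0 0 0 0 0 0 0 0 0 0 0 0 105 0 0 0 0 0 0 0 0 0 0 0 0 0 0 0 0 0 0 0 0 0 0 0 0 0 0 0 0) z3_d z3_d z3_d z3_d z3_d z3_d z3_d z3_d z3_d z3_d z3_d z3_d z3_d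
def sd_d_3 : D2 → D3 → Nat := @D2.rec (fun _ => D3 → Nat) z3_d z3_d (@D3.rec (fun _ => Nat) 0 0 0 0 0 0 0 0 0 0 0 0 0 0 0 0 0 0 0 0 0 0 0 0 0 0 0 0 0 0 0 0 0 0 0 0 0 0 0 0 0 0 0 327 0 0 0 0 0 0 0 0 0 0 0 0 0 0 0 0 0 0) z3_d z3_d z3_d z3_d z3_d z3_d z3_d z3_d (@D3.rec (fun _ => Nat) 0 0 0 0 0 0 0 0 0 0 0 0 0 0 0 0 0 0 0 0 0 0 0 0 0 0 0 0 0 0 0 0 0 0 0 0 0 0 0 0 0 0 0 0 0 0 0 0 0 0 0 0 0 0 2288 0 0 0 0 0 0 0) z3_d (@D3.rec (fun _ => Nat) 0 0 0 0 0 0 0 680 0 0 0 0 0 0 0 0 0 0 0 0 0 0 0 0 0 0 0 0 0 0 0 0 0 0 0 0 0 0 0 0 0 0 0 0 0 0 0 0 0 0 0 0 0 0 0 0 0 0 0 0 0 0) z3_d z3_d (@D3.rec (fun _ => Nat) 0 0 0 0 0 0 0 0 0 0 0 0 0 0 0 0 0 0 0 0 0 0 0 0 0 0 0 31 0 0 0 0 0 0 0 0 0 0 0 0 0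 0 0 0 0 0 0 0 0 0 0 0 0 0 0 0 0 0 0 0 0 0) z3_d z3_d z3_d z3_d z3_d z3_d z3_d z3_d z3_d z3_d z3_d z3_d z3_d z3_d z3_d z3_d z3_d (@D3.rec (fun _ => Nat) 0 0 0 0 0 0 0 0 0 0 0 0 0 0 0 0 0 182 0 0 0 0 0 0 0 0 0 0 0 0 0 0 0 0 0 0 0 0 0 0 0 0 0 0 0 0 0 0 0 0 0 0 0 0 0 0 0 0 0 0 0 0) z3_d z3_d z3_d z3_d (@D3.rec (fun _ => Nat) 0 0 0 0 0 0 0 0 0 0 0 0 0 0 0 0 0 0 0 0 0 185 0 0 0 0 0 0 0 0 0 0 0 0 0 0 0 0 0 0 0 0 0 0 0 0 0 0 0 0 0 0 0 0 0 0 0 0 0 0 0 0) z3_d z3_d z3_d z3_d z3_d z3_d z3_d z3_d z3_d z3_d z3_d z3_d (@D3.rec (fun _ => Nat) 61 0 0 0 0 0 0 0 0 0 0 0 0 0 0 0 0 0 0 0 63 0 0 0 0 0 0 0 0 0 0 0 0 0 0 0 0 0 0 0 0 0 0 0 0 0 0 0 0 0 0 0 0 0 0 0 0 0 0 0 0 0) z3_d (@D3.rec (fun _ =>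 Nat) 0 0 0 0 0 0 0 0 0 0 0 0 0 0 0 0 0 0 0 0 0 0 0 0 0 0 0 0 0 0 0 0 0 0 0 0 0 0 0 0 0 0 0 0 198 0 0 0 0 0 0 0 0 0 0 0 0 0 0 0 0 0) (@D3.rec (fun _ => Nat) 0 0 0 0 0 0 0 0 0 0 0 0 0 0 0 0 0 0 0 0 0 0 0 0 0 0 0 0 0 0 196 0 0 0 0 0 0 0 0 0 0 0 0 0 0 0 0 0 0 0 0 0 0 0 0 0 0 0 0 0 0 0) z3_d z3_d z3_d z3_d
def sd_d_4 : D2 → D3 → Nat := @D2.rec (fun _ => D3 → Nat) z3_d z3_d z3_d z3_d z3_d z3_d z3_d z3_d z3_d z3_d z3_d z3_d z3_d z3_d z3_d z3_d z3_d z3_d z3_d z3_d z3_d z3_d z3_d z3_d z3_d z3_d z3_d z3_d z3_d z3_d z3_d (@D3.rec (fun _ => Nat) 0 0 0 0 0 0 0 0 0 0 0 0 0 0 0 0 0 0 0 0 0 0 0 0 0 0 0 0 0 0 0 0 0 0 0 0 0 0 0 0 0 0 0 0 0 0 0 0 112 0 0 0 0 0 0 0 0 0 0 0 0 0) z3_d z3_d z3_d z3_d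 z3_d z3_d z3_d (@D3.rec (fun _ => Nat) 0 0 0 0 0 0 0 0 0 0 0 0 0 0 0 0 0 0 0 106 0 0 0 0 0 0 0 0 0 0 0 0 0 0 0 0 0 0 0 0 0 0 0 0 0 0 0 0 0 0 0 0 0 0 0 0 0 0 0 0 0 0) z3_d z3_d z3_d z3_d z3_d z3_d z3_d z3_d z3_d z3_d z3_d z3_d z3_d z3_d z3_d z3_d z3_d z3_d z3_d z3_d
def sd_d_5 : D2 → D3 → Nat := @D2.rec (fun _ => D3 → Nat) z3_d z3_d z3_d z3_d z3_d z3_d z3_d z3_d z3_d z3_d z3_d z3_d z3_d z3_d z3_d z3_d z3_d z3_d z3_d z3_d z3_d z3_d z3_d z3_d z3_d z3_d (@D3.rec (fun _ => Nat) 0 0 0 0 0 0 0 0 0 0 0 0 0 0 0 0 0 0 0 0 0 0 0 0 0 0 0 0 0 0 859 0 0 0 0 0 0 0 0 0 0 0 0 0 0 0 0 0 0 0 0 0 0 0 0 0 0 0 0 0 0 0) z3_d z3_d z3_d z3_d z3_d z3_d z3_d z3_d z3_d z3_d z3_d z3_d z3_d z3_d z3_d z3_d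 z3_d z3_d z3_d z3_d z3_d z3_d (@D3.rec (fun _ => Nat) 0 0 0 0 0 0 0 0 0 0 0 0 0 0 0 0 0 0 0 0 0 0 0 0 0 0 0 0 0 0 0 0 0 0 0 0 0 0 0 0 0 0 0 0 0 0 0 0 0 0 0 0 0 0 0 646 0 0 0 0 0 0) z3_d z3_d z3_d z3_d z3_d z3_d z3_d z3_d z3_d z3_d
def sd_d_6 : D2 → D3 → Nat := @D2.rec (fun _ => D3 → Nat) z3_d z3_d z3_d z3_d z3_d z3_d z3_d z3_d z3_d z3_d z3_d (@D3.rec (fun _ => Nat) 0 0 0 0 0 0 0 0 0 0 0 0 0 0 0 0 0 0 0 0 0 0 361 0 0 0 0 0 0 0 0 0 0 0 0 0 0 0 0 0 0 0 0 0 0 0 0 0 0 0 0 0 0 0 0 0 0 0 0 0 0 0) (@D3.rec (fun _ => Nat) 0 0 0 0 0 0 0 0 0 0 0 0 0 0 0 0 0 0 0 0 0 0 0 552 558 0 0 0 0 0 0 0 0 0 0 0 0 0 0 0 0 0 0 0 0 0 0 0 0 0 0 0 0 0 0 0 0 0 0 0 0 0) z3_d z3_d z3_d z3_d z3_d z3_d z3_d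 (@D3.rec (fun _ => Nat) 0 0 0 0 0 0 0 0 0 0 0 0 0 0 0 0 0 0 0 0 0 0 0 0 0 0 0 0 0 0 0 0 0 0 0 0 0 0 0 0 0 0 0 0 0 0 0 0 0 0 0 267 0 0 0 0 0 0 0 0 0 0) (@D3.rec (fun _ => Nat) 0 0 0 0 0 0 0 0 0 0 0 0 0 0 0 0 0 0 0 0 0 0 0 0 0 0 0 0 0 0 0 0 0 0 0 1278 0 0 0 0 0 0 0 0 0 0 0 0 0 0 0 0 0 0 0 0 0 0 0 0 0 0) (@D3.rec (fun _ => Nat) 0 0 0 0 0 134 0 0 0 0 0 0 0 0 0 0 0 0 0 0 0 0 0 0 0 0 0 0 0 0 0 0 0 0 0 0 0 0 0 0 0 0 0 0 0 0 0 0 0 0 0 0 0 0 0 0 0 0 0 0 0 0) z3_d z3_d z3_d z3_d (@D3.rec (fun _ => Nat) 0 0 0 0 0 0 0 0 0 0 0 0 0 0 0 0 0 0 0 0 0 0 0 0 0 0 0 0 0 0 0 0 0 0 0 0 0 0 0 0 0 0 0 0 0 1211 0 0 0 0 0 0 0 0 0 0 0 0 0 0 0 0) z3_d (@D3.rec (fun _ => Nat) 0 0 0 0 0 0 0 0 0 0 0 0 0 0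 0 0 0 0 0 0 0 0 0 0 0 0 0 0 0 0 0 0 0 0 0 0 0 0 0 0 0 0 0 0 0 0 0 0 0 0 0 0 0 0 0 0 0 0 0 0 0 1276) z3_d z3_d z3_d z3_d z3_d z3_d z3_d z3_d z3_d z3_d (@D3.rec (fun _ => Nat) 0 0 0 0 0 0 0 0 0 0 0 0 0 0 0 0 0 0 0 0 0 0 0 0 0 0 0 0 0 1119 146 0 0 0 0 0 0 0 0 0 0 0 0 0 0 0 0 0 0 0 0 0 0 0 0 0 0 1260 0 0 0 0) (@D3.rec (fun _ => Nat) 0 0 0 0 0 0 0 0 335 0 0 0 0 0 0 0 0 0 0 0 0 0 0 0 0 0 0 0 0 0 0 0 0 0 0 0 0 0 0 0 0 0 0 0 0 0 0 0 0 0 0 0 0 0 0 0 0 0 0 0 0 0) z3_d z3_d z3_d (@D3.rec (fun _ => Nat) 0 0 0 0 0 0 0 0 0 0 0 0 0 0 0 0 0 0 0 0 0 1462 0 0 0 0 0 0 0 0 0 0 0 0 0 0 0 0 0 0 0 0 0 0 0 0 0 0 0 0 0 0 0 0 0 0 0 0 0 0 0 0) (@D3.rec (fun _ => Nat) 0 0 0 0 604 647 0 0 0 0 0 0 0 0 0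 0 0 0 0 0 0 0 0 0 0 0 0 0 0 0 0 0 0 705 0 0 0 0 0 0 0 0 0 0 0 0 0 0 0 0 0 0 0 0 0 0 0 0 0 0 0 0) z3_d (@D3.rec (fun _ => Nat) 0 0 0 0 0 0 0 0 0 0 1487 0 0 0 0 0 0 0 0 0 0 0 0 0 0 0 0 0 0 0 0 0 0 0 0 1488 0 0 0 0 0 0 0 0 0 0 0 0 0 0 0 0 0 0 0 0 0 0 0 0 0 0) z3_d (@D3.rec (fun _ => Nat) 0 0 0 0 0 0 0 0 0 0 0 0 0 0 0 0 0 0 0 0 0 0 0 0 0 0 0 0 0 0 0 0 0 0 0 0 0 0 0 0 0 0 0 1362 0 0 0 0 0 0 0 0 0 0 0 0 0 0 0 0 0 0) z3_d z3_d z3_d z3_d z3_d z3_d (@D3.rec (fun _ => Nat) 0 0 0 0 0 0 0 0 0 0 0 0 0 0 0 0 0 0 0 0 0 0 0 0 0 0 0 0 0 0 0 0 0 0 0 0 0 0 0 0 0 0 0 0 0 0 0 0 0 0 0 0 96 0 0 0 0 0 0 0 0 0) z3_d z3_d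
def sd_d_7 : D2 → D3 → Nat := @D2.rec (fun _ => D3 → Nat) z3_d z3_d z3_d z3_d (@D3.rec (fun _ => Nat) 0 0 0 0 0 0 0 0 0 0 0 0 0 0 0 0 0 0 0 0 0 0 0 0 0 0 0 0 0 0 0 0 0 0 0 0 0 0 0 229 0 0 0 0 0 0 0 0 0 0 0 0 0 0 0 0 0 0 0 0 0 0) z3_d z3_d z3_d z3_d (@D3.rec (fun _ => Nat) 0 0 0 0 0 0 0 0 0 0 0 0 0 0 0 0 0 0 0 0 0 0 0 0 0 0 0 0 0 0 0 0 0 0 0 0 0 0 0 0 0 0 0 0 0 0 0 0 0 0 0 0 409 0 0 0 0 0 0 0 0 0) (@D3.rec (fun _ => Nat) 0 0 0 0 0 0 0 389 0 0 0 0 0 0 0 0 0 0 0 0 0 0 0 0 0 0 0 0 0 0 0 0 0 0 0 0 0 0 0 0 0 0 0 0 0 0 0 0 0 0 0 0 0 0 0 0 0 0 0 0 0 0) z3_d z3_d z3_d z3_d z3_d z3_d z3_d z3_d (@D3.rec (fun _ => Nat) 0 0 0 0 0 0 0 0 0 0 0 0 0 0 0 0 0 0 0 0 0 0 0 0 0 0 0 0 0 0 0 0 0 0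 0 0 0 0 426 0 0 0 0 0 0 0 0 0 0 0 0 0 0 0 0 0 0 0 0 0 0 0) z3_d z3_d z3_d z3_d z3_d z3_d z3_d z3_d z3_d z3_d z3_d (@D3.rec (fun _ => Nat) 0 0 0 0 0 0 0 0 0 0 0 0 0 0 0 0 0 0 0 0 0 0 0 0 0 0 0 0 0 0 0 0 0 0 0 0 0 0 0 0 0 0 0 0 0 0 1108 0 0 0 0 0 0 0 0 0 0 0 0 0 0 0) z3_d z3_d z3_d z3_d z3_d z3_d z3_d z3_d z3_d z3_d z3_d z3_d (@D3.rec (fun _ => Nat) 0 0 0 0 0 0 0 0 0 0 0 0 0 0 0 0 0 0 0 0 0 0 0 0 0 0 0 0 0 0 0 0 0 0 0 0 0 0 0 0 0 0 0 0 0 0 0 0 0 0 0 0 0 0 1772 0 0 0 0 0 0 0) z3_d z3_d (@D3.rec (fun _ => Nat) 0 0 0 0 0 0 0 0 0 0 0 0 0 0 0 0 0 0 0 0 0 0 0 0 0 0 0 0 0 0 0 0 0 0 0 0 0 0 0 0 0 0 59 0 0 0 0 0 0 0 0 0 0 0 0 0 0 0 0 0 0 0) (@D3.rec (fun _ => Nat) 0 0 0 0 0 0 0 0 0 0 0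 0 1807 0 0 0 0 0 0 0 0 0 0 0 0 0 0 0 0 0 0 0 0 0 0 0 0 0 0 0 0 0 0 0 0 0 0 0 0 0 0 0 0 0 0 0 0 0 0 0 0 0) (@D3.rec (fun _ => Nat) 0 0 0 0 0 0 0 0 0 0 0 0 0 0 85 0 0 0 0 0 0 0 0 0 0 0 0 0 0 0 0 0 0 0 0 0 0 0 0 0 0 0 0 0 0 0 0 0 0 0 0 0 0 0 0 0 0 0 0 0 0 0) z3_d z3_d z3_d z3_d z3_d (@D3.rec (fun _ => Nat) 0 0 0 0 0 0 0 0 0 0 0 0 84 0 0 0 0 0 0 0 0 0 0 0 0 0 0 0 0 0 0 0 0 0 0 0 0 0 0 0 0 0 0 0 0 0 0 0 0 0 0 0 0 0 0 0 0 0 0 0 0 0) z3_d z3_d z3_d z3_d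
def sd_d_9 : D2 → D3 → Nat := @D2.rec (fun _ => D3 → Nat) (@D3.rec (fun _ => Nat) 0 0 0 0 0 0 0 0 0 0 0 0 0 0 0 0 111 0 0 0 0 0 0 0 0 0 0 0 0 0 0 0 0 0 0 0 0 0 0 0 0 0 0 0 0 0 0 0 0 0 0 0 0 0 0 0 0 0 0 0 0 0) z3_d z3_d z3_d z3_d z3_d z3_d (@D3.rec (fun _ => Nat) 0 0 0 0 0 0 0 0 0 0 0 0 0 0 0 0 0 0 0 0 0 0 0 0 0 0 0 0 0 0 0 0 0 0 0 0 0 0 0 0 0 0 0 0 0 0 0 0 0 0 0 0 0 0 0 0 0 2464 0 0 0 0) (@D3.rec (fun _ => Nat) 0 0 0 0 0 0 0 0 0 0 0 0 0 0 0 0 0 0 0 0 0 0 0 0 0 0 0 0 0 0 0 0 0 0 0 0 0 0 0 0 0 0 0 0 0 0 0 0 0 2231 0 0 0 0 0 0 0 0 0 0 0 0) z3_d z3_d z3_d z3_d z3_d z3_d z3_d z3_d z3_d (@D3.rec (fun _ => Nat) 0 0 0 0 0 0 0 0 0 0 0 0 0 0 0 0 0 0 0 0 0 0 0 0 0 0 0 0 0 0 0 0 0 0 0 0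 0 0 0 0 0 0 0 0 0 0 0 0 0 0 0 0 0 2280 0 0 0 0 0 0 0 0) z3_d (@D3.rec (fun _ => Nat) 0 0 0 0 1904 0 0 0 0 0 0 0 0 0 0 0 0 0 0 0 0 0 0 0 0 0 0 0 0 0 0 0 0 0 2287 0 0 0 0 0 0 1395 0 0 0 0 0 0 0 0 0 0 0 0 0 0 0 0 0 0 0 0) (@D3.rec (fun _ => Nat) 0 0 0 0 0 0 0 0 0 0 0 0 0 0 0 0 0 0 0 0 0 0 0 0 0 0 0 0 1216 0 0 0 0 0 0 0 0 0 0 0 0 0 0 0 0 0 0 0 0 0 0 0 0 0 0 0 0 0 0 0 0 0) z3_d z3_d z3_d z3_d z3_d (@D3.rec (fun _ => Nat) 0 0 0 0 0 0 0 0 0 0 0 0 0 0 0 0 0 0 750 2275 0 0 0 0 0 0 0 0 0 1991 0 0 0 0 0 0 0 0 0 0 0 0 0 0 0 0 0 0 0 0 0 0 0 0 0 0 0 0 0 0 0 0) z3_d (@D3.rec (fun _ => Nat) 0 0 0 0 0 0 0 0 0 0 0 0 0 0 0 0 0 0 0 0 0 0 1908 0 0 0 0 0 0 0 0 0 0 0 0 0 0 0 0 0 0 0 0 0 0 0 0 0 0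 0 0 0 0 0 0 0 0 0 0 0 0 0) (@D3.rec (fun _ => Nat) 0 0 0 0 0 0 0 0 28 0 0 0 0 0 0 0 0 0 0 0 0 0 0 0 0 0 0 0 0 0 0 0 0 0 0 0 0 0 0 0 0 0 0 0 0 0 0 0 0 0 0 0 0 0 0 0 0 0 0 0 0 0) (@D3.rec (fun _ => Nat) 0 0 0 0 0 0 0 0 0 0 0 0 0 0 0 0 0 0 0 0 0 0 0 0 0 0 0 0 0 0 0 0 0 0 0 0 707 0 0 0 0 0 0 0 0 0 0 0 0 0 605 0 0 0 0 0 0 0 0 0 0 0) (@D3.rec (fun _ => Nat) 0 0 0 0 0 0 0 0 0 0 0 0 0 0 0 0 0 0 0 0 0 0 0 0 0 0 0 0 0 0 0 0 1225 0 0 0 0 0 0 0 0 0 0 0 0 0 0 0 0 0 0 0 0 0 0 0 0 0 0 0 0 0) z3_d z3_d z3_d z3_d (@D3.rec (fun _ => Nat) 0 0 0 2120 0 0 0 0 0 0 0 0 0 0 0 0 0 0 0 0 0 0 0 0 0 0 0 0 0 0 0 0 0 0 0 0 0 0 0 0 0 0 0 0 0 0 0 0 0 0 0 0 0 0 0 0 0 0 0 0 0 0) z3_d z3_d z3_d z3_d z3_d z3_d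 z3_d z3_d z3_d (@D3.rec (fun _ => Nat) 0 0 0 0 0 0 128 0 0 0 0 0 0 0 0 0 0 0 0 0 0 0 0 0 0 0 0 0 0 0 0 0 0 0 0 0 0 0 0 0 0 0 0 0 0 0 0 0 0 0 0 0 0 0 0 0 0 0 0 0 0 0) z3_d z3_d z3_d z3_d z3_d z3_d z3_d z3_d z3_d z3_d z3_d z3_d
def sd_d_10 : D2 → D3 → Nat := @D2.rec (fun _ => D3 → Nat) z3_d z3_d z3_d (@D3.rec (fun _ => Nat) 0 0 0 0 0 0 0 0 0 0 0 0 0 0 0 0 0 0 0 0 0 0 0 0 0 0 0 0 0 0 0 0 0 0 0 0 0 0 0 0 0 0 0 0 0 0 0 0 0 0 0 0 2568 0 0 0 0 0 0 0 0 0) (@D3.rec (fun _ => Nat) 0 0 0 0 0 0 0 0 0 0 0 0 0 0 0 0 0 0 0 0 0 0 0 0 0 0 0 0 0 0 0 0 0 0 0 0 0 2480 0 0 0 0 0 0 0 0 0 0 0 0 0 0 0 0 0 0 0 0 0 0 0 0) z3_d z3_d (@D3.rec (fun _ => Nat) 0 0 0 0 0 0 0 0 0 0 0 0 846 0 837 0 0 0 0 0 0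 0 0 0 0 0 0 0 0 0 0 0 0 0 0 0 0 0 0 0 0 0 0 0 0 0 0 0 0 0 0 0 0 0 0 0 0 0 0 0 0 0) z3_d z3_d z3_d z3_d z3_d z3_d z3_d z3_d z3_d (@D3.rec (fun _ => Nat) 0 0 0 0 0 0 0 2486 2485 0 0 0 0 0 0 0 0 0 0 0 0 0 0 0 0 0 0 0 0 0 0 0 0 0 0 0 0 0 0 0 0 0 0 0 0 0 0 0 0 0 0 0 0 0 0 0 0 0 0 0 0 0) (@D3.rec (fun _ => Nat) 0 0 0 0 0 0 0 0 0 0 0 0 0 0 0 0 0 0 0 0 0 0 0 0 0 0 0 0 0 0 0 0 0 0 0 0 0 0 0 0 0 0 0 0 0 0 0 0 2367 0 0 0 0 0 0 0 0 0 0 0 0 0) z3_d z3_d (@D3.rec (fun _ => Nat) 0 0 0 0 0 0 0 0 0 0 0 0 0 0 0 0 0 0 0 0 0 0 0 0 0 0 0 0 0 0 0 0 0 0 0 0 0 0 0 0 0 0 0 0 0 0 0 0 2541 0 0 0 0 0 0 0 0 0 0 0 0 0) z3_d z3_d z3_d z3_d z3_d z3_d z3_d z3_d z3_d z3_d z3_d z3_d z3_d z3_d z3_d z3_d z3_d z3_d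 z3_d z3_d z3_d (@D3.rec (fun _ => Nat) 0 0 0 0 0 0 0 0 0 0 0 0 0 0 0 0 0 0 0 0 0 0 0 0 0 0 2468 0 0 0 0 0 0 0 0 0 0 0 0 0 0 0 0 0 0 0 0 0 0 0 2700 2699 0 0 0 0 0 0 0 0 0 0) z3_d (@D3.rec (fun _ => Nat) 0 0 0 0 0 0 0 0 0 2453 0 0 0 0 0 0 0 0 0 0 0 0 0 0 0 0 0 0 0 0 0 0 0 0 0 0 0 0 2484 0 0 0 0 0 0 0 0 0 0 0 0 0 0 0 0 0 0 0 0 0 0 0) z3_d z3_d z3_d (@D3.rec (fun _ => Nat) 0 0 0 2401 0 0 0 0 0 0 0 0 0 0 0 0 0 0 0 0 0 0 0 0 0 0 0 0 0 0 0 0 0 0 0 0 0 0 0 0 0 0 0 0 0 0 0 0 0 0 0 0 0 0 0 0 0 0 0 0 0 0) z3_d z3_d z3_d z3_d z3_d z3_d z3_d z3_d z3_d z3_d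
def sd_d_11 : D2 → D3 → Nat := @D2.rec (fun _ => D3 → Nat) z3_d z3_d z3_d z3_d z3_d z3_d z3_d z3_d z3_d z3_d z3_d z3_d z3_d z3_d z3_d z3_d z3_d z3_d z3_d z3_d (@D3.rec (fun _ => Nat) 0 0 0 0 0 0 0 0 0 0 0 0 0 0 0 0 0 917 0 0 0 0 0 0 0 0 0 0 0 0 0 0 0 0 0 0 0 0 0 0 0 0 0 0 0 0 0 0 0 0 0 0 0 0 0 0 0 0 0 0 0 0) z3_d (@D3.rec (fun _ => Nat) 0 0 0 0 0 0 0 0 1041 0 0 0 0 0 0 0 0 0 0 0 0 0 0 0 0 0 0 0 0 0 0 0 0 0 0 0 0 0 0 0 0 0 0 0 0 0 0 0 0 0 0 0 0 0 0 0 0 0 0 0 0 0) z3_d z3_d z3_d z3_d (@D3.rec (fun _ => Nat) 0 0 0 0 0 0 0 0 0 0 0 0 0 0 0 0 2875 0 0 0 0 0 0 0 0 0 0 0 0 0 0 0 0 0 0 0 0 0 0 0 0 0 0 0 0 0 0 0 0 0 0 0 0 0 0 0 0 0 0 0 0 0) z3_d z3_d (@D3.rec (fun _ => Nat) 0 0 0 0 0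 0 0 0 0 0 0 0 0 0 0 0 0 0 0 0 0 0 0 0 0 0 0 0 0 0 0 0 0 0 0 0 0 0 0 0 0 0 0 0 0 0 0 0 0 0 0 0 0 0 0 0 0 0 0 806 0 0) (@D3.rec (fun _ => Nat) 0 2010 0 0 0 0 0 0 0 0 0 0 0 0 0 0 0 0 0 0 0 0 0 0 0 0 0 0 0 0 0 0 0 0 0 0 0 0 0 0 0 0 0 0 0 0 0 0 0 0 0 0 1972 0 0 0 0 0 0 0 0 0) z3_d z3_d z3_d z3_d z3_d z3_d z3_d (@D3.rec (fun _ => Nat) 0 0 0 0 0 0 0 0 0 0 0 0 0 0 0 0 0 0 0 0 0 0 0 0 0 0 0 0 0 0 0 0 0 0 0 0 0 0 0 0 0 0 0 0 0 0 0 0 0 0 0 0 0 0 1012 815 0 0 0 0 1465 0) z3_d z3_d z3_d (@D3.rec (fun _ => Nat) 0 0 0 0 0 0 0 0 0 0 0 0 0 0 0 0 0 0 0 0 0 0 0 0 0 0 0 0 0 0 0 0 0 0 0 0 0 0 0 0 0 0 0 0 0 0 0 0 0 0 0 0 0 0 126 0 0 0 0 0 0 0) z3_d z3_d (@D3.rec (fun _ => Nat) 0 0 0 0 0 0 0 0 0 0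 0 0 0 0 0 0 0 0 0 0 0 0 0 0 294 0 0 0 0 0 0 0 0 0 292 0 0 0 0 0 0 0 0 0 0 0 0 0 0 0 0 0 0 0 295 0 0 0 0 0 0 0) z3_d z3_d z3_d z3_d (@D3.rec (fun _ => Nat) 0 0 0 0 0 0 0 0 0 0 0 0 0 0 0 0 0 0 0 0 0 0 0 0 0 0 0 0 0 0 0 0 0 0 0 0 0 0 0 0 0 0 0 0 0 0 0 0 0 0 0 0 0 0 0 0 966 0 0 0 0 0) z3_d z3_d z3_d z3_d (@D3.rec (fun _ => Nat) 0 0 0 0 0 0 0 0 0 0 0 0 0 0 0 0 0 0 0 0 0 0 0 0 0 0 0 0 0 0 0 0 0 0 0 0 0 0 0 0 0 0 0 0 0 0 0 0 0 0 0 0 2457 0 0 0 0 0 0 0 0 0) z3_d z3_d (@D3.rec (fun _ => Nat) 0 0 0 0 2368 0 0 0 0 0 0 0 0 0 0 0 0 0 0 0 0 0 0 0 0 0 0 0 0 0 0 0 0 0 0 0 0 0 0 0 0 0 0 0 0 0 0 0 0 0 0 0 0 0 0 0 0 0 0 0 0 0)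
def sd_d_12 : D2 → D3 → Nat := @D2.rec (fun _ => D3 → Nat) z3_d z3_d (@D3.rec (fun _ => Nat) 0 0 0 0 0 0 0 0 0 0 0 0 0 0 0 0 0 0 0 0 0 0 0 0 0 0 0 0 0 0 0 0 0 0 0 0 0 0 0 0 0 0 0 0 0 0 0 0 0 0 0 0 0 0 0 0 1408 0 0 0 0 0) (@D3.rec (fun _ => Nat) 0 0 339 0 0 0 0 0 0 0 0 0 0 0 0 0 0 0 0 0 0 0 0 0 0 0 0 0 0 0 0 0 0 0 0 0 0 0 0 0 0 0 0 0 0 0 0 0 0 0 0 0 0 0 0 0 0 0 0 0 0 0) (@D3.rec (fun _ => Nat) 0 0 0 0 0 0 0 0 0 0 0 0 0 0 0 0 0 1978 0 0 0 0 0 0 0 0 0 0 0 0 0 0 0 0 0 0 0 0 0 0 0 0 0 0 0 0 0 0 0 0 0 0 0 0 0 0 0 0 0 0 0 0) z3_d z3_d z3_d z3_d z3_d z3_d z3_d z3_d z3_d z3_d z3_d z3_d z3_d z3_d z3_d (@D3.rec (fun _ => Nat) 1160 0 0 0 0 0 0 0 0 0 0 0 0 0 0 0 0 0 0 0 0 0 0 0 0 0 0 0 0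 0 0 0 0 0 0 0 0 0 0 0 0 0 0 0 0 0 0 0 0 0 0 0 0 0 0 0 0 0 0 0 0 0) z3_d z3_d z3_d z3_d z3_d z3_d (@D3.rec (fun _ => Nat) 0 0 0 0 0 0 0 0 0 0 0 0 0 0 0 0 0 0 0 0 0 0 0 0 0 0 0 0 0 0 0 0 0 0 0 0 0 0 0 0 0 0 0 0 0 0 0 138 0 0 0 0 0 0 0 0 0 0 0 0 0 0) z3_d (@D3.rec (fun _ => Nat) 0 0 0 0 0 0 0 0 0 0 0 0 0 0 0 0 0 0 0 0 0 0 0 0 0 0 0 0 0 0 0 0 0 0 0 0 0 0 0 0 0 0 0 0 0 2380 0 0 0 0 0 0 0 0 0 0 0 0 0 1377 0 0) z3_d z3_d (@D3.rec (fun _ => Nat) 0 0 697 0 0 0 1226 0 0 0 0 0 0 0 0 0 0 0 0 0 0 0 0 0 0 0 0 0 0 0 0 0 0 0 0 0 0 0 0 0 0 0 0 0 0 0 0 0 0 0 0 0 0 0 0 0 0 0 0 0 0 0) z3_d z3_d z3_d z3_d (@D3.rec (fun _ => Nat) 0 1250 0 0 0 0 0 0 0 0 0 0 0 0 0 0 0 0 0 0 0 0 0 0 0 0 0 0 0 0 0 0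 0 0 0 0 0 0 0 0 0 0 0 0 0 0 0 0 0 0 0 0 0 0 0 0 0 0 0 0 0 0) z3_d (@D3.rec (fun _ => Nat) 0 0 0 0 0 1026 0 0 0 0 0 0 0 0 0 0 0 0 0 0 0 0 0 0 0 0 0 0 0 0 0 0 0 0 0 0 0 0 0 0 0 0 0 0 0 0 0 0 0 0 0 0 0 0 0 0 0 0 0 0 0 0) z3_d z3_d z3_d z3_d z3_d z3_d (@D3.rec (fun _ => Nat) 0 0 0 0 0 0 0 0 0 0 0 0 0 0 0 0 0 0 0 0 0 0 0 0 0 0 0 1258 0 0 0 0 0 0 0 0 0 0 0 0 0 0 0 0 0 0 0 0 0 0 0 0 0 0 0 0 0 0 0 0 0 0) z3_d z3_d z3_d (@D3.rec (fun _ => Nat) 0 0 0 0 0 0 0 0 0 0 0 0 0 0 0 0 0 0 0 0 0 0 0 0 0 0 1906 0 0 0 0 0 0 0 0 0 0 0 0 0 0 0 0 0 0 0 0 0 0 0 0 0 0 0 0 0 0 0 0 0 0 0) z3_d z3_d z3_d (@D3.rec (fun _ => Nat) 0 0 0 0 0 0 0 0 0 0 0 0 0 0 0 0 0 635 0 0 0 0 0 0 0 0 0 0 0 0 0 0 0 0 0 0 0 0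 0 0 0 0 0 0 0 0 0 0 0 0 0 0 0 0 0 0 0 790 0 0 0 0) (@D3.rec (fun _ => Nat) 0 0 0 0 0 0 0 0 0 0 0 0 0 0 0 0 0 0 0 0 0 0 0 0 0 0 0 1987 0 0 0 0 0 0 0 0 0 0 2371 0 0 0 0 0 0 0 0 0 0 0 0 0 0 0 0 0 0 0 0 0 0 0) z3_d (@D3.rec (fun _ => Nat) 0 0 0 0 0 0 0 0 0 0 0 0 0 0 0 0 0 0 0 0 0 0 0 0 0 0 0 151 0 0 0 0 0 0 0 0 0 0 0 0 0 0 0 0 0 0 0 0 0 0 0 0 0 0 0 0 0 899 0 0 0 0) z3_d z3_d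
def sd_d_13 : D2 → D3 → Nat := @D2.rec (fun _ => D3 → Nat) z3_d z3_d z3_d (@D3.rec (fun _ => Nat) 0 0 0 0 0 0 0 0 0 0 0 0 0 0 0 0 0 0 0 0 0 0 0 0 0 0 0 0 0 0 0 0 0 0 0 0 0 0 0 0 592 0 0 0 0 0 0 0 0 0 0 0 0 0 0 0 0 0 0 0 0 0) z3_d z3_d z3_d (@D3.rec (fun _ => Nat) 0 0 0 0 0 568 0 0 521 0 0 0 0 0 0 0 0 0 0 0 0 0 0 0 0 0 0 0 0 0 0 0 0 0 0 0 0 0 0 0 0 0 0 0 0 0 0 0 0 0 0 0 0 0 0 0 0 0 0 0 0 0) z3_d z3_d (@D3.rec (fun _ => Nat) 0 0 0 0 0 0 0 0 0 0 0 0 0 0 0 0 0 0 0 0 0 0 0 0 0 0 0 0 0 0 0 0 0 0 0 0 0 0 0 0 0 0 587 0 0 0 0 0 0 0 0 0 0 0 0 0 0 0 0 0 0 0) z3_d z3_d (@D3.rec (fun _ => Nat) 0 0 0 0 0 0 0 0 0 0 0 0 0 0 0 0 0 0 0 0 0 0 0 0 0 0 0 0 0 0 0 0 0 0 0 0 0 0 0 0 0 0 0 0 0 0 0 0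 0 86 0 0 0 0 0 0 0 0 0 0 0 0) z3_d z3_d z3_d z3_d (@D3.rec (fun _ => Nat) 509 0 224 0 0 0 0 0 0 0 0 0 0 0 0 0 0 0 0 0 0 0 0 0 0 0 0 0 0 0 0 0 0 0 0 0 0 0 0 0 0 0 0 0 0 0 0 0 0 0 0 0 0 0 0 0 0 0 0 0 0 0) z3_d (@D3.rec (fun _ => Nat) 0 0 0 0 0 0 0 0 0 0 0 0 0 0 0 0 0 0 0 0 0 0 0 0 0 0 0 0 0 0 0 0 0 0 0 0 0 0 0 0 0 0 0 0 0 0 0 0 0 1556 0 0 0 0 1431 0 0 0 0 0 0 0) z3_d z3_d z3_d z3_d (@D3.rec (fun _ => Nat) 0 0 0 0 0 0 0 0 0 0 0 0 0 0 0 0 0 0 0 0 0 0 0 0 0 0 0 0 0 0 0 0 0 0 0 0 0 0 0 477 0 0 0 0 0 0 0 0 0 0 0 0 0 0 0 0 0 0 0 0 0 0) z3_d z3_d z3_d z3_d (@D3.rec (fun _ => Nat) 0 0 0 0 0 0 0 0 0 0 0 0 0 0 0 0 0 156 0 0 0 0 0 0 0 0 0 0 0 0 0 0 0 0 0 0 0 0 0 0 0 0 0 0 0 0 0 0 0 0 0 0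 0 0 0 0 0 0 0 0 0 0) z3_d z3_d z3_d z3_d z3_d z3_d z3_d z3_d z3_d z3_d z3_d z3_d z3_d z3_d z3_d (@D3.rec (fun _ => Nat) 0 0 0 0 0 0 0 0 0 0 0 0 0 0 504 0 0 0 0 0 0 0 0 0 0 0 0 0 0 0 0 0 0 0 0 0 0 0 0 0 0 0 0 0 0 0 0 0 0 0 0 0 0 0 0 0 0 0 0 0 0 0) z3_d z3_d z3_d z3_d z3_d z3_d z3_d z3_d z3_d z3_d z3_d z3_d (@D3.rec (fun _ => Nat) 0 0 0 0 0 0 0 0 0 0 0 0 0 0 0 0 0 0 0 0 0 0 0 0 0 1692 0 0 0 0 0 0 0 0 0 0 0 0 0 0 0 0 0 0 0 0 0 0 0 0 0 0 0 0 0 0 0 0 0 0 0 0)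
def sd_d_14 : D2 → D3 → Nat := @D2.rec (fun _ => D3 → Nat) z3_d z3_d z3_d z3_d z3_d z3_d z3_d z3_d z3_d (@D3.rec (fun _ => Nat) 0 0 0 0 0 0 0 0 0 0 0 0 0 0 0 0 0 0 0 0 0 0 0 0 0 0 0 0 0 0 0 0 0 0 0 0 0 0 0 0 0 0 0 0 0 0 0 0 0 0 0 0 462 0 0 566 0 0 0 0 0 0) z3_d z3_d z3_d z3_d (@D3.rec (fun _ => Nat) 0 0 0 0 0 0 0 0 0 0 0 0 0 0 0 0 0 0 0 0 0 0 0 0 0 0 0 0 0 0 0 0 0 0 0 0 0 0 0 0 0 0 0 0 0 0 0 0 0 0 0 0 0 1510 0 0 0 0 0 0 0 0) z3_d (@D3.rec (fun _ => Nat) 0 0 0 0 0 0 0 0 0 0 0 0 0 0 0 0 0 0 0 0 0 0 0 0 0 0 0 0 0 0 0 0 0 0 0 0 0 0 0 0 0 0 0 0 0 0 0 0 0 0 0 0 0 0 0 0 0 1937 0 0 0 0) (@D3.rec (fun _ => Nat) 0 0 0 0 0 0 0 0 0 0 0 0 0 0 0 0 0 0 0 0 0 0 0 0 0 0 0 0 0 0 0 0 0 0 0 0 0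 1940 0 0 0 0 0 0 0 0 0 0 0 0 0 0 0 0 0 0 0 0 0 0 0 0) z3_d z3_d (@D3.rec (fun _ => Nat) 0 0 0 0 0 0 0 0 0 0 0 0 0 0 0 0 0 0 0 0 0 0 0 0 0 0 0 0 0 0 0 0 0 0 0 0 0 0 0 0 0 0 0 0 0 0 0 0 0 0 0 0 0 0 0 0 0 0 0 0 0 1719) (@D3.rec (fun _ => Nat) 0 0 0 0 0 0 0 0 0 0 0 0 0 0 0 0 0 0 501 0 0 0 0 0 0 0 0 0 0 0 0 0 0 0 0 0 0 0 0 0 0 0 0 0 0 0 0 0 0 0 0 0 0 0 0 0 0 0 0 0 0 0) z3_d z3_d (@D3.rec (fun _ => Nat) 0 0 0 0 0 0 0 0 0 0 0 0 0 0 0 0 0 0 0 0 0 0 0 0 0 0 0 0 0 0 0 0 1565 0 0 0 0 0 0 0 0 0 0 0 0 0 0 0 0 0 0 0 0 0 0 0 0 0 0 0 0 0) (@D3.rec (fun _ => Nat) 0 0 0 0 0 0 0 0 0 0 0 0 0 0 0 0 1558 0 0 0 0 0 0 0 0 0 0 0 0 0 0 0 0 0 0 0 0 0 0 0 0 0 0 0 0 0 0 0 0 0 0 0 0 0 0 0 0 0 0 0 0 0) z3_d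 (@D3.rec (fun _ => Nat) 0 1547 0 0 0 0 0 0 0 0 0 0 0 0 0 0 0 0 0 0 0 0 0 0 0 0 0 0 0 0 0 0 0 0 0 0 0 0 0 0 0 0 0 0 0 0 0 0 0 0 0 0 0 0 0 0 0 0 0 0 0 0) z3_d z3_d (@D3.rec (fun _ => Nat) 0 0 0 0 0 0 0 0 0 0 1783 0 0 0 0 0 0 0 0 0 0 0 0 0 0 0 0 0 0 0 0 0 0 0 0 0 0 0 0 0 0 0 0 0 0 0 0 0 0 0 0 0 0 0 0 0 0 0 0 0 0 0) z3_d (@D3.rec (fun _ => Nat) 0 0 0 0 0 0 0 0 0 0 0 0 0 0 0 0 0 0 0 0 0 0 0 0 0 0 0 0 0 0 0 0 0 0 0 0 0 0 0 0 0 0 0 0 0 0 1564 0 0 0 0 0 0 0 0 0 0 0 0 0 0 0) z3_d z3_d z3_d z3_d (@D3.rec (fun _ => Nat) 0 0 0 0 0 0 0 0 0 0 0 0 0 0 0 0 0 0 0 0 0 0 0 0 0 0 0 0 0 0 1797 2025 0 0 0 0 0 0 0 0 0 0 0 0 0 0 0 0 0 0 0 0 0 0 0 0 0 0 0 0 0 0) z3_d z3_d z3_d z3_d z3_d (@D3.rec (fun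 _ => Nat) 0 2622 0 0 0 0 0 0 0 0 0 0 0 0 0 0 0 0 0 0 0 0 0 0 0 0 0 0 0 0 0 0 0 0 0 0 0 0 0 0 0 0 0 0 0 0 0 0 0 0 0 0 0 0 0 0 0 0 0 0 0 0) z3_d z3_d z3_d z3_d z3_d z3_d (@D3.rec (fun _ => Nat) 0 0 0 0 0 0 0 0 0 0 0 0 0 0 0 0 0 0 0 0 0 0 0 0 0 0 0 0 0 0 0 0 0 0 0 0 1932 0 0 0 0 0 0 0 0 0 0 0 0 0 0 449 0 0 0 0 0 0 0 0 0 0) z3_d (@D3.rec (fun _ => Nat) 0 0 0 0 0 0 0 0 0 0 0 0 0 0 0 0 0 0 0 0 0 0 0 0 0 0 0 0 0 0 0 0 0 0 0 0 0 0 0 0 0 0 0 0 1508 0 0 0 0 0 0 0 0 0 0 0 0 0 0 0 0 0) z3_d z3_d z3_d z3_d z3_d z3_d z3_d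
def sd_d_15 : D2 → D3 → Nat := @D2.rec (fun _ => D3 → Nat) z3_d z3_d z3_d z3_d z3_d z3_d z3_d z3_d z3_d z3_d z3_d z3_d z3_d z3_d (@D3.rec (fun _ => Nat) 0 0 0 0 0 0 0 0 0 0 0 0 0 0 0 0 0 0 0 0 0 0 0 0 0 0 0 0 0 0 0 0 0 0 0 0 0 0 0 0 0 0 0 0 0 0 0 0 0 0 0 0 0 0 0 2050 0 0 0 0 0 0) z3_d z3_d z3_d z3_d z3_d z3_d z3_d z3_d z3_d z3_d z3_d z3_d (@D3.rec (fun _ => Nat) 0 0 0 0 0 0 0 0 0 0 0 0 0 0 0 0 0 0 0 0 0 0 2103 0 0 0 0 0 0 0 0 0 0 0 0 0 0 0 0 0 0 0 0 0 0 0 0 0 0 0 0 0 0 0 0 0 0 0 0 0 0 0) z3_d z3_d (@D3.rec (fun _ => Nat) 0 0 0 0 0 0 0 0 0 0 0 0 0 0 0 0 0 0 0 0 0 0 0 0 0 0 0 0 0 0 0 0 0 0 0 0 0 0 0 0 0 0 0 0 0 0 0 2772 0 0 0 0 0 0 0 0 0 0 0 0 0 0) z3_d z3_d z3_d z3_d z3_d z3_d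 z3_d z3_d z3_d z3_d z3_d (@D3.rec (fun _ => Nat) 0 0 0 0 0 0 0 0 0 0 0 0 0 0 0 0 0 0 0 0 0 0 0 0 0 0 0 0 0 0 0 0 0 0 0 0 0 0 0 0 2086 0 0 0 0 0 0 0 0 0 0 0 0 0 0 0 0 0 0 0 0 0) z3_d z3_d z3_d z3_d z3_d z3_d (@D3.rec (fun _ => Nat) 0 0 0 0 0 0 0 0 614 0 0 0 0 0 0 0 0 0 0 0 0 0 0 0 0 0 0 0 0 0 0 0 0 0 0 0 0 0 0 0 0 0 0 0 0 0 0 0 0 0 0 0 0 0 0 0 0 0 0 0 0 0) z3_d z3_d (@D3.rec (fun _ => Nat) 0 0 0 0 0 0 0 0 0 0 0 0 0 0 0 0 0 0 0 0 0 0 0 0 0 0 0 0 0 0 0 0 0 0 0 0 0 0 0 0 0 0 2663 0 0 0 0 0 0 0 0 0 0 0 0 0 0 0 0 0 0 0) (@D3.rec (fun _ => Nat) 0 0 0 0 0 0 0 0 0 0 0 0 0 0 0 0 0 0 0 0 0 0 0 0 0 0 0 0 0 0 0 0 2048 0 0 0 0 0 0 0 0 0 0 0 0 0 0 0 0 0 0 0 0 0 0 0 0 0 0 0 0 0) z3_d z3_d z3_d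 z3_d (@D3.rec (fun _ => Nat) 0 0 0 0 0 0 0 0 0 0 0 0 620 0 0 0 0 0 0 0 0 0 0 0 0 0 0 0 0 0 0 0 0 0 0 0 0 0 0 0 0 0 0 0 0 0 0 0 0 0 0 0 0 0 0 0 0 0 0 0 0 0) z3_d
def sd_d_16 : D2 → D3 → Nat := @D2.rec (fun _ => D3 → Nat) z3_d z3_d z3_d z3_d z3_d z3_d z3_d z3_d z3_d z3_d z3_d z3_d z3_d z3_d z3_d z3_d z3_d z3_d z3_d z3_d z3_d z3_d z3_d z3_d (@D3.rec (fun _ => Nat) 0 0 0 0 0 0 0 0 0 0 0 0 0 0 0 0 0 0 0 0 0 0 0 0 0 0 0 0 0 0 0 0 0 0 0 0 0 0 0 0 0 0 0 0 0 0 0 0 0 0 0 0 2152 0 0 0 0 0 0 0 0 0) z3_d z3_d z3_d z3_d z3_d z3_d z3_d (@D3.rec (fun _ => Nat) 0 0 0 0 0 0 0 0 0 0 0 0 0 0 0 0 0 0 0 0 0 0 0 0 0 0 0 0 0 0 0 0 0 0 0 0 0 0 0 0 0 0 0 0 0 0 0 0 0 0 0 0 3077 0 0 0 0 0 0 0 0 0) z3_d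 z3_d z3_d z3_d z3_d z3_d z3_d z3_d z3_d z3_d (@D3.rec (fun _ => Nat) 0 0 0 0 0 0 0 0 0 0 0 0 0 0 0 0 0 0 0 0 2052 0 0 0 0 0 0 0 0 0 0 0 0 0 0 0 0 0 0 0 0 0 0 0 0 0 0 0 0 0 0 0 0 0 0 0 0 0 0 0 0 0) z3_d z3_d z3_d z3_d z3_d z3_d z3_d z3_d z3_d z3_d z3_d z3_d z3_d (@D3.rec (fun _ => Nat) 0 0 0 0 0 0 0 0 2207 0 0 0 0 0 0 0 0 0 0 0 0 0 0 0 0 0 0 0 0 0 0 0 0 0 0 0 0 0 0 0 0 0 0 0 0 0 0 0 0 0 0 0 0 0 0 0 0 0 0 0 0 0) z3_d (@D3.rec (fun _ => Nat) 0 0 0 0 0 0 0 0 0 0 0 0 0 0 0 0 0 0 0 0 0 0 0 0 0 0 0 0 0 0 0 0 0 0 0 0 0 0 0 0 0 0 1474 0 0 0 0 0 0 0 0 0 0 0 0 0 0 0 0 0 0 0)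
def sd_d_17 : D2 → D3 → Nat := @D2.rec (fun _ => D3 → Nat) z3_d z3_d z3_d z3_d z3_d z3_d (@D3.rec (fun _ => Nat) 0 0 0 657 0 0 0 0 0 0 0 0 0 0 0 0 0 0 0 0 0 0 0 0 0 0 0 0 0 0 0 0 0 0 0 0 0 0 0 0 0 0 0 0 0 0 0 0 0 0 0 0 0 0 0 0 0 0 0 0 0 0) z3_d z3_d z3_d (@D3.rec (fun _ => Nat) 0 0 0 0 0 0 0 0 0 0 0 0 0 0 0 0 0 0 0 0 0 0 0 0 0 0 0 0 0 0 0 0 0 0 0 0 0 0 0 0 0 0 0 0 0 0 0 0 0 0 0 0 1861 0 0 0 0 0 0 0 0 0) (@D3.rec (fun _ => Nat) 0 0 0 0 0 0 0 0 0 0 1288 0 0 0 0 0 0 0 0 0 0 0 0 0 0 0 0 0 0 0 0 0 0 0 0 0 0 0 0 0 0 0 0 0 0 1154 0 0 0 0 0 0 0 1155 0 0 0 0 0 0 0 0) z3_d z3_d (@D3.rec (fun _ => Nat) 0 0 0 0 2291 0 0 0 0 0 0 0 0 0 0 0 0 0 0 0 0 0 0 0 0 0 0 0 0 0 0 0 0 0 0 0 0 0 0 0 0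 0 0 0 0 0 0 0 0 0 0 0 0 0 0 0 0 0 0 0 0 0) z3_d (@D3.rec (fun _ => Nat) 0 0 0 0 0 0 0 0 0 0 0 0 0 0 0 0 0 0 0 0 0 0 0 0 0 0 0 0 0 0 0 0 0 0 0 0 0 1876 0 0 0 0 0 0 0 0 0 0 0 0 0 0 0 0 0 0 0 0 0 0 0 0) (@D3.rec (fun _ => Nat) 0 0 0 0 0 0 0 0 0 0 0 0 0 0 0 0 0 0 0 0 0 0 0 0 0 0 0 0 0 0 0 0 0 0 0 787 0 0 0 0 0 2305 0 0 0 0 1670 0 0 0 0 0 0 0 0 0 0 0 0 0 0 0) z3_d z3_d (@D3.rec (fun _ => Nat) 0 0 0 0 0 0 0 0 0 0 0 0 0 0 0 0 0 0 0 0 0 0 0 0 0 0 0 1147 0 0 0 0 0 0 0 0 0 0 0 0 0 0 0 0 0 0 0 0 0 0 0 0 0 0 0 0 0 0 0 0 0 0) z3_d z3_d (@D3.rec (fun _ => Nat) 0 0 0 0 0 0 0 0 0 0 0 0 0 0 0 0 0 0 0 0 0 0 0 0 0 0 0 0 0 0 754 0 0 0 0 0 0 0 0 0 0 0 0 0 0 0 0 0 0 0 0 0 0 0 0 0 0 0 0 0 0 0) z3_d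 (@D3.rec (fun _ => Nat) 0 0 0 0 0 0 0 0 0 0 0 0 0 0 0 0 0 0 0 0 0 0 0 0 0 0 0 0 0 0 0 0 0 0 0 0 0 0 0 686 0 0 0 0 0 0 0 0 0 0 0 0 0 0 1394 0 0 0 0 0 0 0) z3_d (@D3.rec (fun _ => Nat) 0 0 0 0 0 0 0 0 1393 0 0 0 0 0 0 0 0 0 0 0 0 0 0 0 0 0 0 0 0 0 0 0 0 0 0 0 0 0 0 0 0 0 0 0 0 0 0 0 0 0 0 0 0 0 0 0 0 0 0 0 0 0) (@D3.rec (fun _ => Nat) 0 0 0 0 0 0 0 0 0 0 0 0 0 0 0 0 0 0 0 0 0 0 0 0 0 0 0 0 0 0 0 0 0 0 0 0 0 0 0 0 0 0 0 0 0 0 0 2349 0 0 0 0 0 0 0 0 0 0 0 0 0 0) z3_d (@D3.rec (fun _ => Nat) 0 0 0 0 0 0 0 0 0 0 0 0 0 0 0 0 0 0 0 0 0 0 0 0 0 0 0 0 0 0 0 0 0 0 0 0 0 0 0 0 0 0 0 0 0 1422 0 0 0 0 0 0 0 0 0 0 0 0 0 0 0 0) z3_d (@D3.rec (fun _ => Nat) 0 0 0 0 0 0 0 0 0 0 0 0 0 0 0 0 0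 0 0 0 0 0 0 0 0 0 0 0 0 0 0 0 0 0 0 0 0 0 0 0 1015 0 0 0 0 0 0 2365 0 0 0 0 0 0 0 0 0 0 0 0 0 0) (@D3.rec (fun _ => Nat) 0 0 0 0 0 0 0 0 0 0 0 0 0 0 0 0 0 0 0 0 0 0 0 0 0 0 0 0 0 0 0 0 0 1078 0 0 0 0 0 0 0 0 0 2373 0 0 0 0 0 0 0 0 0 0 0 0 0 0 0 0 0 0) (@D3.rec (fun _ => Nat) 0 0 0 0 0 0 0 0 0 0 0 0 0 0 0 0 0 0 0 0 0 0 0 0 0 0 0 781 0 0 0 0 0 0 0 0 0 0 0 0 0 0 0 0 0 0 0 0 0 0 0 0 0 0 0 0 0 0 0 0 0 0) z3_d z3_d z3_d z3_d z3_d (@D3.rec (fun _ => Nat) 0 0 0 0 0 0 0 0 0 0 0 0 0 0 0 0 0 0 0 0 0 0 0 0 0 0 0 0 0 0 0 0 0 0 0 0 0 0 0 0 0 0 0 0 0 0 0 0 0 0 0 2082 0 0 0 0 0 0 0 0 0 0) z3_d z3_d z3_d z3_d z3_d z3_d z3_d z3_d z3_d (@D3.rec (fun _ => Nat) 0 0 0 0 0 0 0 0 0 2690 0 0 0 0 0 0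 0 0 0 0 0 0 0 0 0 0 0 0 0 0 0 0 0 0 0 0 0 0 0 0 0 0 0 0 0 0 0 2677 0 0 0 0 0 0 0 0 0 0 0 0 0 0) z3_d z3_d z3_d z3_d z3_d (@D3.rec (fun _ => Nat) 0 0 0 0 0 0 1208 0 0 0 0 0 0 0 0 0 0 0 0 0 0 0 0 0 0 0 0 0 0 0 0 0 0 0 0 0 0 0 0 0 0 0 0 0 0 0 0 0 0 0 0 0 0 0 0 0 0 0 0 0 0 0) z3_d (@D3.rec (fun _ => Nat) 0 0 0 0 0 0 0 0 0 0 0 0 0 0 0 0 0 0 0 0 0 0 0 0 0 0 0 0 0 0 1203 0 0 0 0 0 0 0 0 0 0 0 0 0 0 0 0 0 0 0 0 0 0 0 0 0 0 0 0 0 0 0) (@D3.rec (fun _ => Nat) 0 0 0 0 0 0 0 2039 0 0 0 0 0 0 0 0 0 0 0 0 0 0 0 0 0 0 0 0 0 0 0 0 0 0 0 0 0 0 0 0 0 0 0 0 0 0 0 0 0 0 0 0 0 0 0 0 0 0 0 0 0 0)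
def sd_d_18 : D2 → D3 → Nat := @D2.rec (fun _ => D3 → Nat) z3_d (@D3.rec (fun _ => Nat) 0 0 0 0 0 0 0 0 0 0 0 0 0 0 0 0 0 0 0 0 0 0 0 0 0 0 0 0 0 0 0 0 2995 0 0 0 0 0 0 0 0 0 0 0 0 0 0 0 0 0 0 0 0 0 0 0 0 0 0 0 0 0) z3_d z3_d z3_d z3_d (@D3.rec (fun _ => Nat) 0 0 0 0 0 0 0 0 0 0 0 0 0 0 0 0 0 0 0 0 0 0 0 0 2448 0 0 0 0 0 0 0 0 0 0 0 0 0 0 0 0 0 0 0 0 0 0 0 0 0 0 0 0 0 0 0 0 0 0 0 0 0) (@D3.rec (fun _ => Nat) 0 0 0 0 0 0 0 0 0 0 0 0 0 0 0 0 0 0 0 0 0 0 0 0 0 0 0 0 0 0 0 0 0 0 0 0 0 0 0 2455 0 0 0 0 0 0 0 2454 0 0 0 0 0 0 0 0 0 0 0 0 0 0) z3_d (@D3.rec (fun _ => Nat) 0 0 0 0 0 0 0 0 0 0 0 0 2659 0 0 0 0 0 0 0 0 0 0 0 0 0 0 0 0 0 0 0 0 0 0 0 0 0 0 0 0 0 0 0 0 0 0 0 0 0 0 0 0 0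 0 0 0 0 0 0 0 0) (@D3.rec (fun _ => Nat) 0 0 0 0 0 0 0 0 0 0 0 0 0 0 0 0 0 0 0 0 0 0 0 0 0 2542 0 0 0 0 0 0 0 0 0 0 0 0 0 0 0 0 0 0 0 0 0 0 0 0 0 0 0 0 0 0 0 0 0 0 0 0) (@D3.rec (fun _ => Nat) 0 0 0 0 0 0 0 0 0 0 0 0 0 0 0 0 0 0 0 0 0 0 0 0 0 0 0 0 0 0 0 0 0 0 0 0 0 0 0 0 0 0 0 0 0 0 0 2655 0 0 0 0 0 0 0 0 0 0 0 0 0 0) z3_d z3_d z3_d z3_d (@D3.rec (fun _ => Nat) 0 0 0 0 0 0 0 0 0 0 0 0 0 0 0 0 0 0 0 0 0 0 0 0 0 0 0 0 0 0 0 0 0 0 0 0 0 0 0 0 0 0 0 0 0 2529 0 0 0 0 0 854 0 0 0 0 0 0 0 0 0 0) z3_d z3_d z3_d (@D3.rec (fun _ => Nat) 0 0 0 0 0 0 0 0 0 0 0 0 0 0 0 2463 0 0 0 0 0 0 0 0 0 0 0 0 0 0 0 0 0 0 0 0 0 0 0 0 0 0 0 0 0 0 0 0 0 0 0 0 0 0 0 0 0 0 0 0 0 0) (@D3.rec (fun _ => Nat)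 0 0 0 0 0 0 0 0 0 0 0 0 0 0 0 0 0 0 0 0 0 0 0 0 0 0 0 0 0 0 0 2753 0 0 0 0 0 0 0 0 0 0 0 0 0 0 0 0 0 0 0 0 0 0 0 0 0 0 0 0 0 0) (@D3.rec (fun _ => Nat) 0 0 0 0 0 0 0 0 0 0 0 0 0 0 0 0 0 0 0 2566 0 0 0 0 0 0 0 0 0 0 0 0 0 0 0 0 0 0 0 0 0 0 0 0 0 0 0 0 0 0 0 0 0 0 0 0 0 0 0 0 0 0) z3_d z3_d z3_d (@D3.rec (fun _ => Nat) 0 0 0 0 0 0 0 0 0 0 0 0 0 0 2651 0 0 0 0 0 0 0 0 0 0 0 0 0 0 0 0 0 0 0 0 0 0 0 0 0 0 0 0 0 0 0 0 0 0 0 0 0 0 0 0 0 0 0 0 0 0 0) z3_d (@D3.rec (fun _ => Nat) 0 0 0 0 0 0 0 0 0 0 0 0 0 0 0 0 0 0 0 0 0 0 0 0 0 0 0 0 0 0 0 0 0 0 0 0 0 0 0 2564 0 0 0 0 0 0 0 0 0 0 0 0 0 0 0 0 0 0 0 0 0 0) z3_d z3_d z3_d (@D3.rec (fun _ => Nat) 0 0 0 0 0 0 0 0 0 0 0 0 0 0 0 0 0 0 0 0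 0 0 0 0 0 0 0 0 0 0 0 0 0 0 0 0 0 0 0 0 0 0 0 0 0 0 0 0 0 0 0 0 0 0 0 0 0 2443 0 0 0 0) z3_d z3_d z3_d z3_d z3_d z3_d (@D3.rec (fun _ => Nat) 0 0 0 0 0 0 0 0 0 0 0 0 0 0 0 0 0 2546 0 0 0 0 0 0 0 0 0 0 0 0 0 0 0 0 0 0 0 0 0 0 0 0 0 0 0 0 0 0 0 0 0 0 0 0 0 0 0 0 0 0 0 0) z3_d (@D3.rec (fun _ => Nat) 0 0 0 0 0 0 0 0 0 0 0 0 0 0 0 0 0 0 0 0 0 0 0 0 0 0 0 0 0 0 0 0 0 0 0 0 0 0 0 0 0 0 0 0 0 0 0 0 0 0 0 0 0 0 0 1050 0 0 0 0 0 0) z3_d z3_d z3_d z3_d (@D3.rec (fun _ => Nat) 0 0 0 0 0 0 0 0 0 0 0 0 2565 0 0 0 0 0 0 0 0 0 0 0 0 0 0 0 0 0 0 0 0 0 0 0 0 0 0 0 0 0 0 0 0 0 0 0 0 0 0 0 0 0 0 0 0 0 0 0 0 0) z3_d z3_d z3_d z3_d z3_d z3_d z3_d z3_d z3_d z3_d z3_d z3_d z3_d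
def sd_d_19 : D2 → D3 → Nat := @D2.rec (fun _ => D3 → Nat) z3_d z3_d z3_d (@D3.rec (fun _ => Nat) 0 0 0 0 0 0 0 0 0 0 0 0 0 0 0 0 0 0 0 0 0 0 0 0 0 0 0 0 0 0 0 0 0 0 0 0 0 0 0 0 0 0 0 0 0 0 0 0 0 0 0 0 0 0 0 0 0 0 0 0 2674 0) (@D3.rec (fun _ => Nat) 0 0 0 0 0 0 0 0 0 0 0 0 0 0 0 0 0 0 0 0 0 0 0 0 0 0 0 0 0 0 0 0 0 0 0 0 0 0 0 0 0 0 0 0 0 0 0 0 0 0 0 0 0 0 0 2689 0 0 0 0 0 0) z3_d z3_d z3_d z3_d z3_d z3_d z3_d z3_d z3_d z3_d z3_d z3_d z3_d z3_d z3_d z3_d z3_d z3_d z3_d z3_d z3_d (@D3.rec (fun _ => Nat) 3016 0 0 0 0 0 0 0 0 0 0 0 0 0 0 0 0 0 0 0 0 0 0 0 0 0 0 0 0 0 0 0 0 0 0 0 0 0 0 0 0 0 0 0 0 0 0 0 0 0 0 0 0 0 0 0 0 0 0 0 0 0) z3_d z3_d z3_d z3_d z3_d z3_d z3_d z3_d z3_d z3_d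 z3_d z3_d z3_d (@D3.rec (fun _ => Nat) 0 2168 0 0 0 0 0 0 0 0 0 0 0 0 0 0 0 0 0 0 0 0 0 0 0 0 0 0 0 0 0 0 0 0 0 0 0 0 0 0 0 0 0 0 0 0 0 0 0 0 0 0 0 0 0 0 0 0 0 0 0 0) z3_d z3_d z3_d z3_d z3_d z3_d z3_d z3_d z3_d z3_d z3_d z3_d z3_d (@D3.rec (fun _ => Nat) 0 0 0 0 0 0 0 0 0 0 0 0 0 0 0 2047 0 0 0 0 0 0 0 0 0 0 0 0 0 0 0 0 0 0 0 0 0 0 0 0 0 0 0 0 0 0 0 0 0 0 0 0 0 0 0 0 0 0 0 0 0 0) z3_d z3_d z3_d z3_d z3_d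
def sd_d_20 : D2 → D3 → Nat := @D2.rec (fun _ => D3 → Nat) z3_d z3_d z3_d z3_d z3_d z3_d z3_d z3_d z3_d z3_d z3_d z3_d z3_d (@D3.rec (fun _ => Nat) 0 0 0 0 0 0 0 0 0 0 0 0 0 2840 0 0 0 0 0 0 0 0 0 0 0 0 0 0 0 0 0 0 0 0 0 0 0 0 0 0 0 0 0 0 0 0 0 0 0 0 0 0 0 0 0 0 0 0 0 0 0 0) z3_d z3_d (@D3.rec (fun _ => Nat) 0 0 0 0 0 0 0 0 0 0 0 0 0 0 0 0 0 0 0 0 0 0 0 0 0 0 0 0 0 0 0 0 0 0 0 0 0 0 0 0 0 921 0 0 0 0 0 0 0 0 0 0 0 0 0 0 0 0 0 0 0 0) z3_d z3_d z3_d z3_d z3_d (@D3.rec (fun _ => Nat) 0 0 0 0 0 0 0 0 0 0 0 0 0 0 0 0 0 0 0 0 0 0 0 0 0 0 0 0 0 0 0 0 0 0 0 0 0 0 0 0 0 0 0 0 0 0 0 2030 0 0 0 0 0 0 0 0 0 0 0 0 0 0) z3_d z3_d z3_d (@D3.rec (fun _ => Nat) 0 0 0 0 0 0 0 0 0 0 2415 0 0 0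 0 2357 0 0 0 0 0 0 0 0 0 0 0 0 0 0 0 0 0 0 0 0 0 0 0 0 0 0 0 0 0 0 0 0 0 1506 0 0 0 0 0 0 0 0 0 0 0 0) (@D3.rec (fun _ => Nat) 0 0 0 0 0 0 0 0 0 0 0 0 0 0 0 0 0 0 0 0 0 0 0 0 0 0 0 0 0 0 0 0 0 824 0 0 0 0 0 0 0 0 0 0 0 0 0 0 0 0 0 0 0 1478 0 0 0 0 0 2035 0 0) z3_d (@D3.rec (fun _ => Nat) 0 0 0 0 0 0 0 0 0 0 0 0 0 0 0 0 0 0 0 0 0 0 2487 0 0 0 0 0 0 0 0 0 0 0 0 0 0 0 0 0 0 0 0 0 0 0 0 0 0 0 0 0 0 0 0 0 0 0 0 0 0 0) z3_d z3_d z3_d z3_d z3_d z3_d z3_d z3_d z3_d z3_d z3_d z3_d z3_d (@D3.rec (fun _ => Nat) 0 0 0 0 0 0 0 0 0 0 0 0 0 0 0 0 0 0 0 0 0 0 0 0 0 0 0 0 0 0 0 0 0 0 0 0 0 0 0 0 0 1023 0 0 0 0 0 0 0 0 0 0 0 0 0 0 0 0 0 0 0 0) z3_d z3_d z3_d z3_d z3_d z3_d z3_d z3_d z3_d z3_d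 (@D3.rec (fun _ => Nat) 0 0 0 0 0 0 0 0 0 0 0 0 0 0 0 0 0 0 0 0 0 0 0 0 0 0 0 0 0 0 0 0 0 0 0 0 0 0 0 0 0 0 0 0 0 0 0 0 0 0 0 0 0 0 0 0 0 0 0 0 0 2709) (@D3.rec (fun _ => Nat) 0 0 0 0 0 0 3007 0 0 0 0 0 0 0 0 0 0 0 0 0 0 0 0 0 0 0 0 0 0 0 0 0 0 0 0 0 0 0 0 0 0 0 0 0 0 0 0 0 0 0 0 0 0 0 0 0 0 0 0 0 0 0) (@D3.rec (fun _ => Nat) 0 0 0 0 0 0 0 0 0 0 0 0 0 0 0 0 0 0 0 0 0 0 0 0 0 0 0 0 0 0 0 0 0 0 0 0 0 0 0 0 0 0 0 0 0 0 0 0 0 0 0 3044 0 0 0 0 0 0 0 0 0 0) z3_d z3_d (@D3.rec (fun _ => Nat) 0 0 0 0 0 0 0 0 0 0 0 0 0 0 0 0 0 0 0 0 0 0 0 0 0 0 0 0 0 2489 0 0 0 0 0 0 0 0 0 0 0 0 0 0 0 0 0 0 0 0 0 0 0 0 0 0 0 0 0 0 0 0)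
def sd_d_21 : D2 → D3 → Nat := @D2.rec (fun _ => D3 → Nat) z3_d (@D3.rec (fun _ => Nat) 0 0 0 0 0 0 0 0 0 0 0 0 0 0 0 0 0 0 0 0 0 0 0 0 0 0 0 0 0 0 0 0 3010 0 0 0 0 0 0 0 0 0 0 0 0 0 0 0 0 0 0 0 0 0 0 0 0 0 0 0 0 0) z3_d (@D3.rec (fun _ => Nat) 0 0 0 0 0 0 0 0 0 0 0 0 0 0 0 0 0 0 0 0 0 0 0 0 0 0 0 0 0 0 0 0 0 0 0 0 0 0 0 0 0 0 0 1013 0 0 0 0 0 0 0 0 0 0 0 0 0 0 0 0 0 0) z3_d z3_d z3_d (@D3.rec (fun _ => Nat) 0 0 0 0 0 0 0 0 0 0 0 0 0 0 0 0 359 0 0 0 0 0 0 0 344 0 0 0 0 0 0 0 0 0 0 0 0 0 0 0 0 0 0 0 0 0 0 0 0 0 0 0 3067 0 0 0 0 0 0 0 0 0) z3_d z3_d z3_d z3_d z3_d z3_d z3_d z3_d z3_d z3_d z3_d (@D3.rec (fun _ => Nat) 0 0 0 0 0 0 0 0 0 0 0 0 0 0 0 0 0 0 0 0 0 0 0 0 0 0 0 0 0 0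 0 0 0 0 0 0 0 0 0 0 0 0 0 0 0 0 0 2290 0 0 0 0 0 0 0 0 0 0 0 0 0 0) z3_d z3_d z3_d z3_d z3_d z3_d z3_d z3_d z3_d z3_d z3_d z3_d z3_d z3_d z3_d z3_d (@D3.rec (fun _ => Nat) 0 0 0 0 0 0 0 0 0 0 0 0 0 0 0 0 0 0 0 0 0 0 0 0 0 0 0 0 0 0 0 0 0 0 0 0 0 0 0 0 1875 0 940 0 0 0 0 0 0 0 0 0 0 0 0 0 0 0 0 0 0 0) z3_d z3_d z3_d z3_d z3_d z3_d (@D3.rec (fun _ => Nat) 0 0 0 1401 0 0 0 0 0 0 0 0 0 0 0 0 0 0 0 0 0 0 0 0 0 0 0 0 0 0 1252 0 0 0 0 0 0 0 0 0 0 0 0 0 0 0 0 0 0 0 0 0 0 0 0 0 0 0 0 0 0 0) z3_d z3_d (@D3.rec (fun _ => Nat) 0 0 0 0 0 0 0 0 0 0 0 0 0 0 0 0 0 0 0 0 0 0 0 0 0 0 0 0 0 0 0 0 0 0 0 0 0 0 0 0 0 0 0 0 0 0 0 0 1413 0 0 0 0 0 0 0 0 0 0 0 0 0) z3_d z3_d (@D3.rec (fun _ => Nat)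 0 0 0 0 0 0 0 0 0 0 0 0 0 0 0 0 0 0 0 0 0 0 0 0 0 0 1416 0 0 0 0 0 0 0 0 0 0 0 0 0 0 0 0 0 0 0 0 0 0 0 0 0 0 0 0 0 0 0 0 0 0 0) z3_d z3_d (@D3.rec (fun _ => Nat) 0 0 0 0 2253 0 0 0 0 0 0 0 0 0 0 0 0 0 0 0 0 0 0 0 0 0 0 0 0 0 0 0 0 0 0 0 0 0 0 0 0 0 0 0 0 0 0 0 0 0 0 0 0 0 0 0 0 0 0 0 0 0) z3_d (@D3.rec (fun _ => Nat) 0 0 0 0 0 0 0 0 0 0 0 0 0 0 0 0 0 0 0 0 0 0 0 0 0 0 0 1666 0 0 0 0 0 0 0 0 0 0 0 0 0 0 0 0 0 0 0 0 0 0 0 0 0 0 0 0 0 0 0 0 0 0) z3_d (@D3.rec (fun _ => Nat) 0 0 0 0 0 0 0 0 0 0 0 0 0 0 0 0 0 0 0 0 0 0 0 0 0 0 0 0 0 0 0 0 0 0 0 0 0 0 0 0 0 0 0 0 1152 0 0 0 0 0 0 0 0 0 0 0 0 0 0 0 0 0) z3_d z3_d z3_d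
def sd_d_22 : D2 → D3 → Nat := @D2.rec (fun _ => D3 → Nat) (@D3.rec (fun _ => Nat) 0 0 0 0 0 0 0 0 0 0 0 0 0 0 0 1235 0 0 0 0 0 0 0 0 0 0 0 0 0 0 0 0 0 0 0 0 0 0 0 0 0 0 0 0 0 0 0 0 0 0 0 0 0 0 0 0 0 0 0 0 0 0) z3_d z3_d z3_d (@D3.rec (fun _ => Nat) 0 0 0 0 0 0 0 0 0 0 0 0 0 0 0 0 0 0 0 0 0 0 0 0 0 0 0 0 0 0 706 0 0 0 0 0 0 0 0 0 0 0 0 0 0 0 0 0 0 0 0 0 0 0 0 0 0 0 0 0 0 0) z3_d z3_d z3_d (@D3.rec (fun _ => Nat) 0 0 0 0 0 0 0 0 0 0 1997 0 0 0 0 0 0 0 0 0 0 0 0 0 0 0 0 0 0 0 0 0 0 0 0 0 0 0 0 0 0 0 0 0 0 0 0 0 0 0 0 0 0 0 0 0 0 0 0 0 0 0) z3_d z3_d (@D3.rec (fun _ => Nat) 0 0 0 0 0 0 0 0 0 0 0 0 0 0 0 0 1915 0 0 0 0 0 0 0 0 0 0 0 0 0 0 0 0 0 0 0 0 0 0 0 0 0 0 0 0 19 0 0 0 0 0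 0 0 0 0 0 0 0 0 0 0 0) z3_d (@D3.rec (fun _ => Nat) 0 0 0 0 0 0 0 0 1763 0 0 0 0 0 0 0 0 0 0 0 0 0 0 0 0 0 0 0 0 0 0 0 0 0 0 0 0 0 0 0 0 0 0 0 0 0 0 0 0 0 0 0 0 0 0 0 0 0 0 0 0 0) z3_d z3_d (@D3.rec (fun _ => Nat) 0 0 0 0 0 0 0 0 0 0 0 0 0 0 0 0 0 0 0 0 0 0 0 0 0 0 0 0 0 0 0 0 0 0 0 0 0 0 0 0 0 0 0 0 0 0 0 1522 0 0 0 0 0 0 0 0 0 0 0 0 0 0) z3_d z3_d z3_d z3_d z3_d z3_d z3_d z3_d z3_d z3_d z3_d z3_d z3_d (@D3.rec (fun _ => Nat) 0 0 0 0 0 0 0 0 0 0 0 0 0 0 0 0 0 0 0 0 0 0 0 0 0 0 0 0 0 0 0 0 0 0 0 0 0 0 588 0 0 0 0 0 0 0 0 0 0 0 0 0 0 0 0 0 0 0 0 0 0 0) z3_d z3_d (@D3.rec (fun _ => Nat) 0 0 0 0 0 0 0 0 0 0 0 0 0 0 0 0 0 0 0 0 0 0 0 0 0 0 0 0 0 0 0 0 0 0 0 0 0 0 0 0 1812 0 0 0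 0 0 0 0 0 0 0 0 0 0 0 0 0 0 0 0 0 0) z3_d z3_d (@D3.rec (fun _ => Nat) 0 0 1802 0 0 0 0 0 0 0 0 0 0 0 0 0 0 0 0 0 0 0 0 0 0 0 0 0 0 0 0 0 0 0 0 0 0 0 0 0 0 0 0 0 0 0 0 0 0 0 0 0 0 0 0 0 0 0 0 0 0 0) z3_d z3_d z3_d z3_d z3_d z3_d z3_d z3_d z3_d z3_d z3_d z3_d z3_d (@D3.rec (fun _ => Nat) 1659 0 0 0 0 0 0 0 0 0 0 0 0 0 0 0 0 0 0 0 0 0 0 0 0 0 0 0 0 0 0 0 0 0 0 0 0 0 0 0 0 0 0 0 0 0 0 0 0 0 0 0 0 0 0 0 0 0 0 0 0 0) (@D3.rec (fun _ => Nat) 0 0 0 0 0 0 0 0 0 0 0 0 0 0 0 0 0 0 0 0 0 0 0 0 0 0 0 0 0 0 0 0 0 0 0 0 2163 0 0 0 0 0 0 0 0 0 0 0 0 0 0 0 0 0 0 0 0 0 0 0 0 0) z3_d z3_d z3_d z3_d z3_d z3_d z3_d z3_d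
def sd_d_23 : D2 → D3 → Nat := @D2.rec (fun _ => D3 → Nat) z3_d z3_d z3_d (@D3.rec (fun _ => Nat) 0 0 0 0 0 0 0 0 0 0 0 0 0 0 0 0 0 0 0 0 0 0 0 0 0 0 0 0 0 0 0 0 0 0 0 0 0 0 0 0 0 0 1577 0 0 0 0 0 0 0 0 0 0 0 0 0 0 0 0 0 0 0) z3_d z3_d z3_d z3_d z3_d z3_d z3_d (@D3.rec (fun _ => Nat) 0 0 0 0 0 0 0 0 0 0 0 0 0 0 0 0 0 0 0 0 0 0 0 0 0 0 0 0 0 0 0 0 0 0 408 0 0 0 0 0 0 0 0 0 0 0 0 0 0 0 0 0 0 0 0 0 0 0 0 0 0 0) z3_d z3_d z3_d z3_d z3_d (@D3.rec (fun _ => Nat) 0 0 1606 0 0 0 0 0 0 0 0 0 0 0 0 0 0 0 0 0 0 0 0 0 0 0 0 0 0 0 0 0 0 0 0 0 0 0 0 0 0 0 0 0 0 0 0 0 0 0 0 0 0 0 0 0 0 0 0 0 0 0) z3_d z3_d (@D3.rec (fun _ => Nat) 0 0 0 0 0 0 0 0 0 0 0 0 0 0 0 0 0 0 0 0 0 0 0 0 0 0 0 0 0 0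 0 0 0 0 0 0 0 950 0 0 0 0 0 0 0 0 0 0 0 0 0 0 0 0 0 0 0 0 0 0 0 0) (@D3.rec (fun _ => Nat) 0 0 0 1928 0 0 0 0 0 0 0 0 0 0 0 0 0 0 0 0 0 0 0 0 0 0 0 0 0 0 0 0 0 0 0 0 0 0 0 0 0 0 0 0 0 0 0 0 0 0 0 0 0 0 0 0 0 0 0 0 0 0) z3_d (@D3.rec (fun _ => Nat) 0 0 0 0 0 0 0 0 0 0 0 0 0 0 0 0 0 1627 0 0 0 0 0 0 0 0 0 0 0 0 0 0 0 0 0 0 0 0 0 0 0 0 0 0 0 0 0 0 0 0 0 0 0 0 0 0 0 0 0 0 0 0) z3_d z3_d z3_d z3_d z3_d z3_d z3_d z3_d z3_d z3_d (@D3.rec (fun _ => Nat) 0 0 0 0 0 0 0 0 0 0 0 0 0 0 0 0 0 0 0 0 0 0 0 0 0 0 0 0 0 0 0 0 0 0 0 0 0 0 0 0 0 0 0 0 0 0 0 0 0 0 3076 0 0 0 0 0 0 0 0 0 0 0) z3_d z3_d (@D3.rec (fun _ => Nat) 0 0 0 0 0 0 0 0 0 0 0 0 0 0 0 0 0 0 0 0 0 0 0 0 0 0 0 0 1821 0 0 0 0 0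 0 0 0 0 0 0 0 0 1855 0 0 0 0 0 0 0 0 0 0 0 0 0 0 0 0 0 0 0) z3_d z3_d z3_d z3_d z3_d z3_d (@D3.rec (fun _ => Nat) 0 0 0 0 0 0 0 0 0 0 0 0 0 0 0 0 0 0 0 0 0 0 0 0 0 0 0 0 0 0 0 0 0 1934 0 0 0 0 0 0 0 0 0 0 0 0 0 0 0 0 0 0 0 0 0 0 0 0 0 0 0 0) z3_d z3_d (@D3.rec (fun _ => Nat) 0 0 0 0 0 0 0 0 0 0 0 0 0 0 1671 0 0 0 0 0 0 0 0 0 0 0 0 0 0 0 0 0 0 0 0 0 0 0 0 0 0 0 0 0 0 0 0 0 0 0 0 0 0 0 0 0 0 0 0 0 0 0) (@D3.rec (fun _ => Nat) 0 0 0 0 0 0 0 0 0 0 0 0 0 0 0 0 0 0 0 0 0 0 0 0 0 0 0 0 0 0 0 0 0 0 1658 0 0 0 0 0 0 0 0 0 0 0 0 0 0 0 0 0 0 0 0 0 0 0 0 0 0 0) (@D3.rec (fun _ => Nat) 0 0 0 0 0 0 0 0 0 0 0 0 0 0 0 514 0 0 0 0 0 0 0 0 0 0 0 0 0 0 0 0 0 0 0 0 0 0 0 0 0 0 0 0 0 0 0 0 0 0 0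 0 0 0 0 0 0 0 0 0 0 0) z3_d z3_d (@D3.rec (fun _ => Nat) 0 0 0 0 0 0 0 0 0 0 0 0 1834 0 0 0 0 0 0 0 0 0 0 0 0 0 0 0 0 0 0 0 0 0 0 0 0 0 0 0 0 0 0 0 0 0 0 0 0 1677 0 0 0 0 0 0 0 0 0 0 0 0) z3_d (@D3.rec (fun _ => Nat) 0 0 0 0 0 0 0 0 0 0 0 0 0 0 0 0 0 0 0 0 0 0 0 0 0 0 1800 0 1941 0 0 0 0 0 0 0 0 0 0 0 0 0 0 0 0 0 0 1727 0 0 0 0 0 0 0 0 0 0 0 0 0 0) (@D3.rec (fun _ => Nat) 0 0 0 0 0 0 0 0 0 1939 0 0 0 0 0 0 0 0 0 0 0 0 0 0 0 0 0 0 0 0 0 0 0 0 0 0 0 0 0 0 0 0 0 0 0 0 0 0 0 0 0 0 0 0 0 0 0 0 0 0 0 0) z3_d z3_d (@D3.rec (fun _ => Nat) 0 0 0 0 0 0 0 0 0 0 0 0 0 0 0 0 0 0 0 0 0 0 0 0 0 0 0 0 0 0 0 0 0 0 0 0 0 0 0 0 0 1759 0 0 0 0 0 0 0 0 0 0 0 0 0 0 0 0 0 0 0 0) (@D3.rec (fun _ =>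 Nat) 0 0 0 0 1787 0 0 0 0 0 0 0 0 0 0 0 0 0 0 0 0 0 0 0 0 0 0 0 0 0 0 0 0 0 0 0 0 0 0 0 0 0 0 0 0 0 0 0 0 0 0 0 0 0 0 0 0 0 0 0 0 0)
def sd_d_24 : D2 → D3 → Nat := @D2.rec (fun _ => D3 → Nat) z3_d z3_d (@D3.rec (fun _ => Nat) 0 0 0 0 0 0 0 0 0 0 0 1687 0 0 0 0 0 0 1433 0 0 0 0 0 0 0 0 0 0 0 0 0 0 0 0 0 0 0 0 0 0 0 0 0 0 0 0 0 0 0 0 0 0 0 0 0 0 0 0 0 0 0) z3_d z3_d z3_d z3_d (@D3.rec (fun _ => Nat) 0 0 0 0 0 0 0 0 0 0 0 0 0 1436 0 0 0 0 0 0 0 0 0 0 0 0 0 0 0 0 0 0 0 0 0 0 0 0 0 0 0 0 0 0 0 0 0 0 0 0 0 0 0 0 0 0 0 0 0 0 0 0) (@D3.rec (fun _ => Nat) 0 0 0 0 0 0 0 0 0 0 0 0 0 0 0 0 0 0 0 0 0 0 0 0 490 0 0 0 0 0 0 0 0 0 0 0 0 0 0 0 0 0 0 0 0 0 0 0 0 0 0 0 0 0 0 0 0 0 0 0 0 0) (@D3.rec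 (fun _ => Nat) 0 0 0 0 0 0 0 0 0 0 0 0 491 0 0 0 0 0 0 0 0 0 0 0 0 0 0 0 0 0 0 0 0 0 0 0 0 0 0 0 0 0 0 0 0 0 0 0 0 0 0 0 0 0 0 0 0 0 0 0 0 0) z3_d z3_d z3_d z3_d z3_d z3_d z3_d z3_d z3_d (@D3.rec (fun _ => Nat) 0 0 0 0 0 0 0 0 0 0 0 0 0 0 0 0 0 0 0 0 0 0 0 0 0 0 0 0 0 0 0 0 0 0 0 0 0 0 0 0 0 1555 0 0 0 0 0 0 0 0 0 0 0 0 0 0 0 0 0 0 0 0) z3_d z3_d (@D3.rec (fun _ => Nat) 0 0 0 0 0 0 0 0 0 0 0 0 0 0 0 0 0 0 0 0 0 0 0 0 0 0 0 0 0 0 0 0 0 0 0 0 0 0 0 0 0 225 0 0 0 0 0 0 0 0 0 0 0 0 0 0 0 0 0 0 0 0) z3_d z3_d z3_d z3_d z3_d z3_d z3_d z3_d z3_d z3_d z3_d z3_d z3_d z3_d z3_d (@D3.rec (fun _ => Nat) 0 0 0 0 0 0 0 0 0 0 0 0 0 0 0 1625 0 0 0 0 0 0 0 0 0 0 0 0 0 0 0 0 0 0 0 0 0 0 0 0 0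 0 0 0 0 0 0 0 0 0 0 0 0 0 0 0 0 0 0 0 0 0) z3_d z3_d z3_d z3_d z3_d z3_d z3_d z3_d z3_d (@D3.rec (fun _ => Nat) 0 0 0 0 0 0 0 0 0 0 0 0 0 2661 0 0 0 0 0 0 0 0 0 0 0 0 0 0 0 0 0 0 0 0 0 0 0 0 0 0 0 0 0 0 0 0 0 0 0 0 0 0 0 0 0 0 0 0 0 0 0 0) z3_d z3_d z3_d z3_d z3_d z3_d z3_d (@D3.rec (fun _ => Nat) 0 0 0 0 0 0 0 0 0 0 0 0 0 0 0 0 0 0 0 0 0 0 0 0 0 0 0 0 0 0 0 0 0 0 3092 0 0 0 0 0 0 0 0 0 0 0 0 0 0 0 0 0 0 0 0 0 0 0 0 0 0 0) (@D3.rec (fun _ => Nat) 1592 0 0 0 0 0 0 0 0 0 0 0 0 0 0 0 0 0 0 0 0 0 0 0 0 0 0 0 0 0 0 0 0 0 0 0 0 0 0 0 0 0 0 0 0 0 0 0 0 0 0 0 0 0 0 0 0 0 0 0 0 0) z3_d z3_d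
def sd_d_25 : D2 → D3 → Nat := @D2.rec (fun _ => D3 → Nat) z3_d z3_d z3_d z3_d z3_d z3_d z3_d z3_d z3_d z3_d z3_d z3_d z3_d z3_d z3_d z3_d z3_d z3_d z3_d z3_d z3_d z3_d z3_d z3_d z3_d z3_d z3_d z3_d z3_d z3_d z3_d z3_d z3_d z3_d z3_d (@D3.rec (fun _ => Nat) 0 0 0 0 0 0 0 0 0 0 0 0 0 0 0 0 0 0 0 0 0 0 0 0 0 0 0 0 0 0 0 0 0 0 0 881 0 0 0 0 0 0 0 0 0 0 0 0 0 0 0 0 0 0 0 0 0 0 0 0 0 0) z3_d z3_d (@D3.rec (fun _ => Nat) 0 0 0 0 0 0 0 0 0 0 0 0 0 0 0 0 0 0 0 0 0 0 0 0 0 0 0 0 0 0 0 0 0 0 2081 0 0 0 0 0 0 0 0 0 0 0 0 0 0 0 0 0 0 0 0 0 0 0 0 0 0 0) (@D3.rec (fun _ => Nat) 0 0 0 0 0 2090 0 0 0 0 0 0 0 0 0 0 0 0 0 0 0 0 0 0 0 0 0 2101 0 0 0 0 0 0 0 0 0 0 0 0 0 0 0 0 0 0 0 0 0 0 0 0 0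 0 0 0 0 0 0 0 0 0) z3_d z3_d z3_d z3_d z3_d (@D3.rec (fun _ => Nat) 0 0 0 0 0 0 0 0 0 0 0 0 0 0 0 0 0 0 0 0 0 0 0 0 0 0 0 0 0 0 0 0 0 2767 0 0 0 0 0 0 0 0 0 0 0 0 0 0 0 0 0 0 0 0 0 0 0 0 0 0 0 0) z3_d z3_d z3_d z3_d z3_d z3_d z3_d z3_d z3_d z3_d z3_d z3_d z3_d z3_d
def sd_d_26 : D2 → D3 → Nat := @D2.rec (fun _ => D3 → Nat) z3_d z3_d z3_d z3_d z3_d z3_d z3_d z3_d z3_d z3_d z3_d (@D3.rec (fun _ => Nat) 0 0 0 0 0 0 0 0 0 0 0 2395 0 0 0 0 0 0 0 0 0 0 0 0 0 0 0 0 0 0 0 0 0 0 0 0 0 0 0 0 0 0 0 0 0 0 0 0 0 0 0 0 0 0 0 0 0 0 0 0 0 0) z3_d z3_d z3_d z3_d z3_d z3_d z3_d (@D3.rec (fun _ => Nat) 0 0 0 0 0 0 0 0 0 0 0 0 0 0 0 0 0 0 0 0 2144 0 0 0 0 0 0 0 0 0 0 0 0 0 0 0 0 0 0 0 0 0 0 0 0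 0 0 0 0 0 0 0 0 0 0 0 0 0 0 0 0 0) z3_d z3_d z3_d z3_d z3_d z3_d z3_d z3_d z3_d z3_d (@D3.rec (fun _ => Nat) 0 0 0 0 0 0 0 0 0 0 0 0 0 0 0 0 0 0 0 0 0 0 0 0 0 0 0 0 808 0 0 0 0 0 0 0 0 0 0 0 0 0 0 0 0 0 0 0 0 0 0 0 0 0 0 0 0 0 0 0 0 0) z3_d (@D3.rec (fun _ => Nat) 2951 0 0 0 0 0 0 0 0 0 0 0 0 0 0 0 0 0 0 0 0 0 0 0 0 0 0 0 0 0 0 0 0 0 0 0 0 0 0 0 0 0 0 0 0 0 0 0 0 0 0 0 0 0 0 0 0 0 0 0 0 0) z3_d z3_d z3_d z3_d z3_d z3_d z3_d z3_d z3_d z3_d z3_d z3_d z3_d z3_d z3_d z3_d z3_d (@D3.rec (fun _ => Nat) 0 0 0 0 0 0 0 0 0 0 0 0 0 0 0 0 0 0 0 0 0 0 0 0 0 0 2198 0 0 0 0 0 0 0 0 0 0 0 0 0 0 0 0 0 0 0 0 0 0 0 0 0 0 0 0 0 0 0 0 0 0 0) (@D3.rec (fun _ => Nat) 0 0 0 0 0 0 0 0 0 0 0 0 0 0 0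 0 0 0 0 0 0 0 0 0 0 0 0 0 0 0 0 0 0 0 0 0 0 0 0 0 0 0 0 0 0 0 0 0 0 300 0 0 0 0 0 0 0 0 0 0 0 0) z3_d z3_d z3_d (@D3.rec (fun _ => Nat) 0 0 0 0 0 0 0 0 0 0 0 0 0 0 0 0 0 0 0 0 0 0 0 0 0 0 0 0 0 0 0 0 0 0 0 0 0 2227 0 0 0 0 0 0 0 0 0 0 0 0 0 0 0 0 0 0 0 0 0 0 0 0) z3_d z3_d z3_d z3_d
def sd_d_27 : D2 → D3 → Nat := @D2.rec (fun _ => D3 → Nat) z3_d z3_d (@D3.rec (fun _ => Nat) 0 0 0 0 0 0 0 0 0 0 0 0 0 0 0 0 0 0 0 0 0 0 0 0 0 0 0 0 0 0 0 0 0 0 0 0 0 0 0 0 0 0 0 0 0 0 0 0 0 0 0 2980 0 0 0 0 0 0 0 0 0 0) z3_d z3_d z3_d z3_d (@D3.rec (fun _ => Nat) 0 0 0 0 0 0 0 0 0 0 0 0 0 0 0 0 0 0 0 0 0 0 0 0 0 0 0 0 0 0 0 0 0 0 0 0 0 0 0 0 0 1982 0 0 0 0 0 0 0 0 0 0 0 0 0 0 0 0 0 0 0 0) (@D3.rec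 (fun _ => Nat) 0 0 0 0 0 0 0 0 0 0 0 0 0 0 0 0 0 0 0 0 0 0 0 0 0 0 0 0 0 0 0 0 0 0 0 0 0 0 0 0 0 0 0 0 0 0 0 0 0 0 0 0 1990 0 0 0 0 0 0 0 0 0) z3_d z3_d z3_d z3_d (@D3.rec (fun _ => Nat) 0 0 0 0 0 0 0 0 0 0 0 0 0 0 0 0 0 0 0 0 0 0 0 0 0 0 0 0 0 0 0 0 0 0 0 0 0 0 0 1375 0 0 0 0 0 0 0 0 0 0 0 0 0 0 0 0 0 0 0 0 0 0) z3_d z3_d z3_d z3_d z3_d z3_d z3_d (@D3.rec (fun _ => Nat) 0 0 0 0 0 0 0 0 0 0 0 0 0 0 0 0 0 0 0 0 0 0 0 0 0 0 0 0 0 0 0 0 0 0 0 0 0 0 0 0 0 0 0 0 0 0 0 0 654 0 0 0 0 0 0 0 0 0 0 0 0 0) z3_d z3_d z3_d z3_d z3_d z3_d z3_d (@D3.rec (fun _ => Nat) 0 0 0 0 0 0 0 0 0 0 0 0 0 0 0 0 0 0 0 0 0 0 0 0 0 0 0 0 0 0 0 0 0 0 0 0 0 0 0 0 0 0 0 0 2126 0 0 0 0 0 0 0 0 0 0 0 0 0 0 0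 0 0) (@D3.rec (fun _ => Nat) 0 0 0 0 0 0 0 0 0 0 0 0 0 0 0 0 0 0 0 0 0 0 0 0 0 0 0 0 0 0 0 0 0 0 0 0 0 0 0 0 0 0 0 0 0 0 0 0 0 0 0 0 0 0 0 0 0 0 0 0 0 2098) z3_d (@D3.rec (fun _ => Nat) 0 0 0 0 0 0 0 0 0 0 0 0 0 0 0 0 0 612 0 0 0 0 0 0 0 0 0 0 0 0 0 0 0 0 0 0 0 0 0 0 0 0 0 0 0 0 0 0 0 0 0 0 0 0 0 0 0 0 0 0 0 0) z3_d z3_d z3_d z3_d z3_d z3_d z3_d z3_d z3_d z3_d z3_d z3_d z3_d z3_d z3_d z3_d (@D3.rec (fun _ => Nat) 0 0 0 0 0 827 0 0 0 0 0 0 0 0 0 0 0 0 0 0 0 0 0 0 0 0 0 0 0 0 0 0 0 0 0 0 0 0 0 0 0 0 0 0 0 0 0 0 0 0 0 0 0 0 0 0 0 0 0 0 0 0) z3_d z3_d (@D3.rec (fun _ => Nat) 0 0 0 0 0 0 0 0 0 0 0 0 0 0 0 0 0 0 0 0 0 0 0 0 0 0 0 0 0 0 0 0 0 0 0 0 0 0 0 0 0 0 0 0 0 0 0 0 0 0 0 0 0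 0 0 0 2594 0 0 0 0 0) z3_d z3_d z3_d z3_d z3_d z3_d z3_d
def sd_d_28 : D2 → D3 → Nat := @D2.rec (fun _ => D3 → Nat) z3_d z3_d z3_d z3_d z3_d z3_d z3_d z3_d z3_d z3_d z3_d z3_d z3_d z3_d z3_d z3_d z3_d z3_d z3_d z3_d z3_d z3_d z3_d z3_d z3_d z3_d z3_d z3_d z3_d z3_d z3_d z3_d z3_d z3_d z3_d z3_d z3_d (@D3.rec (fun _ => Nat) 0 0 0 0 0 0 0 0 0 0 0 0 0 0 0 0 0 0 0 0 0 0 0 0 0 0 0 0 0 0 0 0 0 0 0 0 0 0 0 0 0 0 0 0 0 0 0 0 0 0 0 0 0 0 0 855 0 0 0 0 0 0) z3_d z3_d z3_d z3_d z3_d z3_d z3_d z3_d z3_d z3_d z3_d z3_d z3_d z3_d z3_d z3_d z3_d z3_d z3_d z3_d z3_d z3_d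
def sd_d_29 : D2 → D3 → Nat := @D2.rec (fun _ => D3 → Nat) (@D3.rec (fun _ => Nat) 0 0 0 0 0 0 0 0 0 0 0 0 0 0 0 0 0 0 0 0 0 0 0 0 0 0 0 0 0 0 0 0 0 0 0 0 0 0 0 2724 0 0 0 0 0 0 0 0 0 0 0 0 0 0 0 0 0 0 0 0 0 0) z3_d z3_d z3_d z3_d z3_d z3_d z3_d z3_d z3_d z3_d z3_d z3_d z3_d z3_d z3_d z3_d z3_d z3_d (@D3.rec (fun _ => Nat) 0 0 0 0 0 0 0 0 0 0 0 0 0 0 0 0 0 0 0 0 0 0 0 0 0 0 0 0 0 0 0 0 0 0 0 913 0 0 0 0 0 0 0 0 0 0 0 0 0 0 0 0 0 0 0 0 0 0 0 0 0 0) z3_d z3_d z3_d z3_d z3_d (@D3.rec (fun _ => Nat) 0 0 0 0 0 0 0 0 0 0 0 0 0 0 0 0 2458 0 0 0 0 0 0 0 0 0 0 0 0 0 0 0 0 0 0 0 0 0 0 0 0 0 0 0 0 1124 0 0 0 0 0 0 0 0 0 0 0 0 0 0 0 0) z3_d z3_d z3_d (@D3.rec (fun _ => Nat) 0 0 0 0 0 0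 0 0 0 0 0 0 0 0 0 0 2233 0 0 0 0 0 0 0 0 0 0 0 0 0 0 0 0 0 0 0 0 0 0 0 0 0 0 0 0 0 0 0 0 0 0 0 0 0 0 0 0 0 0 0 0 0) (@D3.rec (fun _ => Nat) 0 0 0 0 0 0 0 0 0 0 0 0 0 0 0 1738 0 0 0 0 0 0 0 0 0 0 0 0 0 0 0 0 0 0 0 0 0 0 0 0 0 0 0 0 0 0 0 0 0 0 0 0 0 0 0 0 0 0 0 0 0 0) z3_d z3_d z3_d z3_d z3_d z3_d z3_d z3_d z3_d z3_d z3_d z3_d z3_d z3_d z3_d z3_d z3_d z3_d z3_d z3_d z3_d z3_d z3_d z3_d z3_d z3_d z3_d (@D3.rec (fun _ => Nat) 0 0 0 0 0 0 0 0 0 0 0 0 0 0 0 0 0 0 0 0 0 0 0 0 0 0 0 0 0 0 0 0 0 0 0 0 0 2294 0 0 0 0 0 0 0 0 0 0 0 0 0 0 0 0 0 0 0 0 0 0 0 0) z3_d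
def sd_d_30 : D2 → D3 → Nat := @D2.rec (fun _ => D3 → Nat) z3_d z3_d z3_d z3_d z3_d z3_d z3_d z3_d z3_d z3_d z3_d (@D3.rec (fun _ => Nat) 0 0 0 0 0 0 0 0 0 0 0 0 0 0 0 0 0 0 0 0 0 0 0 0 0 0 0 0 0 0 0 0 0 0 0 0 0 0 0 0 0 0 0 0 0 0 0 0 0 0 0 0 0 0 0 0 0 0 0 1685 0 0) z3_d (@D3.rec (fun _ => Nat) 0 0 0 0 0 0 0 3062 0 0 0 0 0 0 0 0 0 0 0 0 0 0 0 0 0 0 0 0 0 0 0 0 0 0 0 0 0 0 0 0 0 0 0 0 0 0 0 0 0 0 0 0 0 0 0 0 0 0 0 0 0 0) (@D3.rec (fun _ => Nat) 0 0 0 0 0 0 0 0 0 0 0 0 0 0 0 0 0 0 0 0 0 0 0 0 0 0 0 0 0 0 0 0 0 0 0 0 0 0 0 0 0 0 0 0 0 0 0 0 0 0 0 0 0 0 0 0 0 0 2302 0 0 0) z3_d z3_d (@D3.rec (fun _ => Nat) 0 0 0 0 0 0 0 0 0 0 0 0 0 0 0 0 0 0 0 0 0 0 2957 0 0 0 0 0 0 0 0 0 0 0 0 0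 0 0 0 0 0 0 0 0 0 0 0 0 0 0 0 0 0 0 0 0 0 0 0 2911 0 0) z3_d z3_d z3_d z3_d z3_d (@D3.rec (fun _ => Nat) 0 0 0 0 0 0 0 0 0 0 0 0 0 0 0 0 0 0 0 0 0 0 0 0 0 0 0 0 0 0 0 0 0 0 0 0 0 0 0 0 0 0 0 0 0 0 0 0 0 0 0 0 0 0 0 1799 0 0 0 0 0 0) z3_d z3_d z3_d z3_d z3_d z3_d z3_d z3_d z3_d z3_d (@D3.rec (fun _ => Nat) 0 0 0 0 0 0 0 0 0 0 0 0 0 0 0 0 0 0 0 0 0 0 0 0 0 0 0 0 0 0 0 0 0 0 0 0 0 0 0 0 0 0 0 0 0 0 0 0 0 1704 0 0 0 0 0 0 0 0 0 0 0 0) z3_d z3_d z3_d z3_d z3_d (@D3.rec (fun _ => Nat) 0 0 0 0 0 0 0 0 0 0 0 0 0 0 0 0 1847 0 0 0 0 0 0 0 0 0 0 0 0 0 0 0 0 0 0 0 0 0 0 0 0 0 0 0 0 0 0 0 0 0 0 0 0 0 0 0 0 0 0 0 0 0) z3_d z3_d z3_d z3_d z3_d z3_d z3_d z3_d z3_d z3_d z3_d z3_d z3_d z3_d z3_d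 z3_d z3_d z3_d z3_d
def sd_d_31 : D2 → D3 → Nat := @D2.rec (fun _ => D3 → Nat) z3_d z3_d z3_d z3_d z3_d z3_d z3_d z3_d z3_d z3_d z3_d (@D3.rec (fun _ => Nat) 0 0 0 0 0 0 0 0 0 0 0 517 0 0 0 0 0 0 0 0 0 0 0 0 0 0 0 0 0 0 0 0 0 0 0 0 0 0 0 0 0 0 0 0 0 0 0 0 0 0 0 0 0 0 0 0 0 0 0 0 0 0) z3_d z3_d z3_d z3_d z3_d z3_d z3_d z3_d z3_d z3_d z3_d z3_d z3_d z3_d z3_d z3_d z3_d z3_d (@D3.rec (fun _ => Nat) 0 0 0 0 0 0 0 0 0 0 0 0 0 0 0 0 0 0 0 0 0 0 0 0 0 0 0 0 0 0 0 0 0 0 0 0 0 0 0 0 0 0 1561 0 0 0 0 0 0 0 0 0 0 0 0 0 0 0 0 0 0 0) z3_d z3_d z3_d z3_d z3_d z3_d z3_d z3_d z3_d z3_d z3_d z3_d z3_d z3_d z3_d z3_d z3_d z3_d z3_d z3_d z3_d z3_d z3_d z3_d z3_d z3_d z3_d z3_d z3_d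
def sd_d : Pt → Nat := @Pt.rec (fun _ => Nat) (@D1.rec (fun _ => D2 → D3 → Nat) sd_d_0 sd_d_1 sd_d_2 sd_d_3 sd_d_4 sd_d_5 sd_d_6 sd_d_7 z2_d sd_d_9 sd_d_10 sd_d_11 sd_d_12 sd_d_13 sd_d_14 sd_d_15 sd_d_16 sd_d_17 sd_d_18 sd_d_19 sd_d_20 sd_d_21 sd_d_22 sd_d_23 sd_d_24 sd_d_25 sd_d_26 sd_d_27 sd_d_28 sd_d_29 sd_d_30 sd_d_31 z2_d)

end

end Cfsg.Agent.Helper28.S1692
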