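import Cfsg.Agent.Lib.Helper28.S1692.Tree

set_option autoImplicit false
set_option maxRecDepth 100000
set_option linter.all false

namespace Cfsg.Agent.Helper28.S1692

open Cfsg.Agent.Helper28
open Cfsg.Spor.ON (Gen)

noncomputable section

abbrev lc_e_Cert_tree : Cert rels S Gen.e := Cert.tree
abbrev lc_e_rc_13_1 : Cert rels S Gen.e := rc_13_1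
abbrev lc_e_rc_13_3 : Cert rels S Gen.e := rc_13_3
abbrev lc_e_rc_16_1 : Cert rels S Gen.e := rc_16_1
abbrev lc_e_rc_16_3 : Cert rels S Gen.e := rc_16_3
abbrev lc_e_rc_16_5 : Cert rels S Gen.e := rc_16_5
abbrev lc_e_rc_18_1 : Cert rels S Gen.e := rc_18_1
abbrev lc_e_rc_19_0 : Cert rels S Gen.e := rc_19_0
abbrev lc_e_rc_19_2 : Cert rels S Gen.e := rc_19_2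
abbrev lc_e_rc_19_4 : Cert rels S Gen.e := rc_19_4
abbrev lc_e_rc_27_1 : Cert rels S Gen.e := rc_27_1
abbrev lc_e_rc_27_5 : Cert rels S Gen.e := rc_27_5
abbrev lc_e_rc_27_7 : Cert rels S Gen.e := rc_27_7
abbrev lc_e_rc_4_1 : Cert rels S Gen.e := rc_4_1
abbrev lc_e_rc_4_3 : Cert rels S Gen.e := rc_4_3
abbrev lc_e_rc_9_1 : Cert rels S Gen.e := rc_9_1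
abbrev lc_e_rc_9_3 : Cert rels S Gen.e := rc_9_3
abbrev lc_e_sc_4_0 : Cert rels S Gen.e := sc_4_0
def ce_e_0 : D2 → D3 → (Cert rels S Gen.e) := @D2.rec (fun _ => D3 → (Cert rels S Gen.e)) (@D3.rec (fun _ => (Cert rels S Gen.e)) lc_e_sc_4_0 lc_e_Cert_tree lc_e_Cert_tree lc_e_Cert_tree lc_e_Cert_tree lc_e_rc_18_1 lc_e_rc_9_3 lc_e_rc_27_5 lc_e_Cert_tree lc_e_Cert_tree lc_e_Cert_tree lc_e_rc_18_1 lc_e_rc_27_5 lc_e_Cert_tree lc_e_Cert_tree lc_e_rc_18_1 lc_e_Cert_tree lc_e_rc_18_1 lc_e_rc_27_5 lc_e_rc_27_5 lc_e_rc_16_1 lc_e_rc_19_4 lc_e_rc_13_3 lc_e_rc_13_3 lc_e_Cert_tree lc_e_Cert_tree lc_e_rc_18_1 lc_e_rc_13_3 lc_e_rc_13_3 lc_e_Cert_tree lc_e_Cert_tree lc_e_rc_18_1 lc_e_Cert_tree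 lc_e_Cert_tree lc_e_Cert_tree lc_e_rc_18_1 lc_e_rc_18_1 lc_e_rc_27_5 lc_e_rc_16_1 lc_e_rc_19_4 lc_e_rc_9_3 lc_e_Cert_tree lc_e_Cert_tree lc_e_Cert_tree lc_e_rc_18_1 lc_e_Cert_tree lc_e_rc_18_1 lc_e_rc_27_5 lc_e_rc_27_5 lc_e_rc_16_1 lc_e_rc_19_4 lc_e_rc_18_1 lc_e_rc_27_5 lc_e_rc_16_1 lc_e_rc_19_4 lc_e_Cert_tree lc_e_Cert_tree lc_e_rc_27_5 lc_e_Cert_tree lc_e_rc_13_3 lc_e_Cert_tree lc_e_Cert_tree) (@D3.rec (fun _ => (Cert rels S Gen.e)) lc_e_rc_9_3 lc_e_Cert_tree lc_e_rc_9_3 lc_e_Cert_tree lc_e_Cert_tree lc_e_Cert_tree lc_e_rc_18_1 lc_e_Cert_tree lc_e_rc_18_1 lc_e_rc_27_5 lc_e_rc_27_5 lc_e_rc_16_1 lc_e_rc_19_4 lc_e_Cert_tree lc_e_rc_9_3 lc_e_Cert_tree lc_e_Cert_tree lc_e_rc_18_1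 lc_e_Cert_tree lc_e_Cert_tree lc_e_Cert_tree lc_e_rc_18_1 lc_e_rc_18_1 lc_e_rc_27_5 lc_e_rc_16_1 lc_e_rc_19_4 lc_e_Cert_tree lc_e_rc_18_1 lc_e_Cert_tree lc_e_rc_18_1 lc_e_Cert_tree lc_e_Cert_tree lc_e_Cert_tree lc_e_Cert_tree lc_e_rc_18_1 lc_e_rc_27_5 lc_e_rc_16_1 lc_e_rc_19_4 lc_e_rc_13_3 lc_e_Cert_tree lc_e_rc_13_3 lc_e_Cert_tree lc_e_rc_16_1 lc_e_Cert_tree lc_e_rc_13_3 lc_e_Cert_tree lc_e_Cert_tree lc_e_rc_18_1 lc_e_Cert_tree lc_e_Cert_tree lc_e_rc_18_1 lc_e_rc_27_5 lc_e_rc_9_3 lc_e_rc_16_1 lc_e_rc_19_4 lc_e_rc_18_1 lc_e_rc_27_5 lc_e_rc_16_1 lc_e_rc_19_4 lc_e_rc_9_1 lc_e_Cert_tree lc_e_Cert_tree) (@D3.rec (fun _ => (Cert rels S Gen.e)) lc_e_rc_16_3 lc_e_Cert_tree lc_e_rc_13_3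 lc_e_Cert_tree lc_e_rc_13_3 lc_e_Cert_tree lc_e_Cert_tree lc_e_rc_18_1 lc_e_Cert_tree lc_e_rc_18_1 lc_e_rc_13_3 lc_e_Cert_tree lc_e_rc_18_1 lc_e_rc_27_5 lc_e_Cert_tree lc_e_rc_9_3 lc_e_Cert_tree lc_e_Cert_tree lc_e_rc_18_1 lc_e_Cert_tree lc_e_Cert_tree lc_e_rc_18_1 lc_e_Cert_tree lc_e_Cert_tree lc_e_rc_4_3 lc_e_Cert_tree lc_e_Cert_tree lc_e_Cert_tree lc_e_Cert_tree lc_e_rc_18_1 lc_e_rc_4_3 lc_e_Cert_tree lc_e_Cert_tree lc_e_rc_18_1 lc_e_Cert_tree lc_e_rc_18_1 lc_e_Cert_tree lc_e_rc_18_1 lc_e_rc_27_5 lc_e_rc_27_5 lc_e_rc_16_1 lc_e_rc_19_4 lc_e_Cert_tree lc_e_Cert_tree lc_e_rc_18_1 lc_e_rc_27_5 lc_e_rc_16_1 lc_e_rc_19_4 lc_e_rc_13_3 lc_e_Cert_tree lc_e_rc_18_1 lc_e_Cert_tree lc_e_rc_16_1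 lc_e_Cert_tree lc_e_rc_13_3 lc_e_Cert_tree lc_e_Cert_tree lc_e_rc_18_1 lc_e_Cert_tree lc_e_Cert_tree lc_e_Cert_tree lc_e_rc_18_1) (@D3.rec (fun _ => (Cert rels S Gen.e)) lc_e_Cert_tree lc_e_Cert_tree lc_e_Cert_tree lc_e_rc_18_1 lc_e_rc_16_1 lc_e_rc_19_4 lc_e_Cert_tree lc_e_rc_18_1 lc_e_Cert_tree lc_e_Cert_tree lc_e_rc_18_1 lc_e_Cert_tree lc_e_Cert_tree lc_e_Cert_tree lc_e_Cert_tree lc_e_rc_18_1 lc_e_Cert_tree lc_e_Cert_tree lc_e_rc_16_1 lc_e_rc_19_4 lc_e_Cert_tree lc_e_rc_9_3 lc_e_rc_27_5 lc_e_Cert_tree lc_e_rc_16_5 lc_e_Cert_tree lc_e_rc_13_3 lc_e_Cert_tree lc_e_Cert_tree lc_e_Cert_tree lc_e_rc_18_1 lc_e_Cert_tree lc_e_rc_18_1 lc_e_rc_18_1 lc_e_Cert_tree lc_e_rc_18_1 lc_e_rc_18_1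 lc_e_Cert_tree lc_e_rc_18_1 lc_e_rc_27_5 lc_e_rc_16_1 lc_e_rc_19_4 lc_e_rc_13_3 lc_e_rc_13_3 lc_e_Cert_tree lc_e_rc_13_1 lc_e_rc_18_1 lc_e_Cert_tree lc_e_Cert_tree lc_e_Cert_tree lc_e_rc_18_1 lc_e_rc_9_1 lc_e_Cert_tree lc_e_Cert_tree lc_e_rc_18_1 lc_e_rc_13_3 lc_e_Cert_tree lc_e_rc_18_1 lc_e_rc_13_3 lc_e_Cert_tree lc_e_rc_9_3 lc_e_Cert_tree) (@D3.rec (fun _ => (Cert rels S Gen.e)) lc_e_Cert_tree lc_e_rc_18_1 lc_e_rc_18_1 lc_e_rc_16_1 lc_e_rc_19_4 lc_e_rc_18_1 lc_e_rc_18_1 lc_e_rc_13_3 lc_e_rc_16_1 lc_e_rc_19_4 lc_e_Cert_tree lc_e_Cert_tree lc_e_rc_16_3 lc_e_Cert_tree lc_e_rc_13_1 lc_e_Cert_tree lc_e_rc_9_3 lc_e_rc_13_3 lc_e_Cert_tree lc_e_Cert_tree lc_e_Cert_tree lc_e_rc_18_1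 lc_e_Cert_tree lc_e_rc_18_1 lc_e_rc_16_3 lc_e_rc_18_1 lc_e_rc_9_3 lc_e_Cert_tree lc_e_Cert_tree lc_e_rc_18_1 lc_e_rc_9_3 lc_e_Cert_tree lc_e_Cert_tree lc_e_rc_18_1 lc_e_Cert_tree lc_e_Cert_tree lc_e_Cert_tree lc_e_rc_18_1 lc_e_rc_18_1 lc_e_rc_16_1 lc_e_rc_27_1 lc_e_Cert_tree lc_e_Cert_tree lc_e_rc_18_1 lc_e_rc_19_4 lc_e_rc_9_3 lc_e_Cert_tree lc_e_Cert_tree lc_e_Cert_tree lc_e_rc_18_1 lc_e_rc_27_5 lc_e_rc_9_3 lc_e_Cert_tree lc_e_Cert_tree lc_e_Cert_tree lc_e_rc_18_1 lc_e_rc_9_3 lc_e_Cert_tree lc_e_rc_4_3 lc_e_Cert_tree lc_e_Cert_tree lc_e_Cert_tree) (@D3.rec (fun _ => (Cert rels S Gen.e)) lc_e_Cert_tree lc_e_Cert_tree lc_e_rc_18_1 lc_e_Cert_tree lc_e_rc_18_1 lc_e_Cert_tree lc_e_rc_18_1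 lc_e_Cert_tree lc_e_rc_18_1 lc_e_rc_16_1 lc_e_Cert_tree lc_e_rc_18_1 lc_e_Cert_tree lc_e_rc_18_1 lc_e_Cert_tree lc_e_Cert_tree lc_e_Cert_tree lc_e_Cert_tree lc_e_rc_18_1 lc_e_Cert_tree lc_e_Cert_tree lc_e_rc_18_1 lc_e_Cert_tree lc_e_rc_18_1 lc_e_Cert_tree lc_e_rc_18_1 lc_e_Cert_tree lc_e_Cert_tree lc_e_rc_27_7 lc_e_Cert_tree lc_e_Cert_tree lc_e_Cert_tree lc_e_rc_18_1 lc_e_Cert_tree lc_e_rc_18_1 lc_e_Cert_tree lc_e_Cert_tree lc_e_rc_13_3 lc_e_Cert_tree lc_e_Cert_tree lc_e_Cert_tree lc_e_rc_18_1 lc_e_rc_9_3 lc_e_rc_27_5 lc_e_rc_16_1 lc_e_rc_19_4 lc_e_Cert_tree lc_e_rc_18_1 lc_e_Cert_tree lc_e_Cert_tree lc_e_rc_16_1 lc_e_rc_19_4 lc_e_rc_9_3 lc_e_Cert_tree lc_e_Cert_tree lc_e_rc_16_3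 lc_e_Cert_tree lc_e_rc_13_3 lc_e_Cert_tree lc_e_Cert_tree lc_e_Cert_tree lc_e_rc_18_1) (@D3.rec (fun _ => (Cert rels S Gen.e)) lc_e_rc_18_1 lc_e_rc_27_5 lc_e_rc_16_1 lc_e_rc_19_4 lc_e_rc_13_3 lc_e_rc_13_3 lc_e_Cert_tree lc_e_Cert_tree lc_e_rc_18_1 lc_e_rc_9_3 lc_e_Cert_tree lc_e_Cert_tree lc_e_rc_18_1 lc_e_rc_13_3 lc_e_Cert_tree lc_e_rc_18_1 lc_e_rc_13_1 lc_e_Cert_tree lc_e_rc_9_3 lc_e_Cert_tree lc_e_Cert_tree lc_e_rc_18_1 lc_e_Cert_tree lc_e_rc_18_1 lc_e_Cert_tree lc_e_Cert_tree lc_e_rc_19_4 lc_e_Cert_tree lc_e_rc_18_1 lc_e_Cert_tree lc_e_rc_18_1 lc_e_Cert_tree lc_e_rc_18_1 lc_e_Cert_tree lc_e_Cert_tree lc_e_rc_19_4 lc_e_Cert_tree lc_e_rc_18_1 lc_e_rc_18_1 lc_e_Cert_tree lc_e_rc_18_1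 lc_e_Cert_tree lc_e_Cert_tree lc_e_rc_16_1 lc_e_rc_19_4 lc_e_rc_16_5 lc_e_Cert_tree lc_e_rc_13_3 lc_e_Cert_tree lc_e_Cert_tree lc_e_rc_18_1 lc_e_rc_18_1 lc_e_Cert_tree lc_e_rc_16_1 lc_e_rc_13_3 lc_e_rc_18_1 lc_e_Cert_tree lc_e_rc_18_1 lc_e_rc_18_1 lc_e_Cert_tree lc_e_rc_16_3 lc_e_rc_13_3) (@D3.rec (fun _ => (Cert rels S Gen.e)) lc_e_Cert_tree lc_e_rc_18_1 lc_e_Cert_tree lc_e_rc_18_1 lc_e_Cert_tree lc_e_Cert_tree lc_e_Cert_tree lc_e_Cert_tree lc_e_rc_18_1 lc_e_rc_18_1 lc_e_Cert_tree lc_e_Cert_tree lc_e_rc_16_1 lc_e_rc_19_4 lc_e_Cert_tree lc_e_Cert_tree lc_e_rc_18_1 lc_e_Cert_tree lc_e_Cert_tree lc_e_Cert_tree lc_e_rc_18_1 lc_e_Cert_tree lc_e_Cert_tree lc_e_rc_13_3 lc_e_Cert_tree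 lc_e_Cert_tree lc_e_Cert_tree lc_e_rc_18_1 lc_e_rc_19_0 lc_e_rc_16_1 lc_e_Cert_tree lc_e_rc_13_1 lc_e_rc_18_1 lc_e_rc_13_3 lc_e_Cert_tree lc_e_Cert_tree lc_e_rc_18_1 lc_e_Cert_tree lc_e_Cert_tree lc_e_rc_9_3 lc_e_Cert_tree lc_e_Cert_tree lc_e_rc_18_1 lc_e_rc_18_1 lc_e_Cert_tree lc_e_Cert_tree lc_e_Cert_tree lc_e_rc_18_1 lc_e_rc_19_0 lc_e_rc_18_1 lc_e_rc_19_0 lc_e_rc_16_3 lc_e_Cert_tree lc_e_rc_18_1 lc_e_rc_16_3 lc_e_Cert_tree lc_e_rc_18_1 lc_e_Cert_tree lc_e_Cert_tree lc_e_rc_16_1 lc_e_rc_19_4 lc_e_rc_13_3) (@D3.rec (fun _ => (Cert rels S Gen.e)) lc_e_Cert_tree lc_e_rc_9_3 lc_e_Cert_tree lc_e_Cert_tree lc_e_Cert_tree lc_e_rc_9_3 lc_e_Cert_tree lc_e_Cert_tree lc_e_rc_18_1 lc_e_rc_9_3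 lc_e_Cert_tree lc_e_rc_13_3 lc_e_rc_13_3 lc_e_Cert_tree lc_e_Cert_tree lc_e_Cert_tree lc_e_rc_18_1 lc_e_Cert_tree lc_e_rc_18_1 lc_e_Cert_tree lc_e_rc_13_3 lc_e_Cert_tree lc_e_Cert_tree lc_e_rc_18_1 lc_e_rc_27_7 lc_e_rc_9_1 lc_e_rc_19_4 lc_e_Cert_tree lc_e_Cert_tree lc_e_rc_18_1 lc_e_Cert_tree lc_e_Cert_tree lc_e_rc_18_1 lc_e_rc_18_1 lc_e_rc_27_7 lc_e_rc_9_3 lc_e_Cert_tree lc_e_Cert_tree lc_e_rc_16_3 lc_e_rc_18_1 lc_e_rc_27_1 lc_e_rc_18_1 lc_e_rc_9_3 lc_e_Cert_tree lc_e_Cert_tree lc_e_Cert_tree lc_e_Cert_tree lc_e_rc_18_1 lc_e_rc_27_1 lc_e_Cert_tree lc_e_rc_4_3 lc_e_Cert_tree lc_e_Cert_tree lc_e_Cert_tree lc_e_Cert_tree lc_e_Cert_tree lc_e_rc_18_1 lc_e_Cert_tree lc_e_rc_18_1 lc_e_rc_16_1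 lc_e_rc_19_4 lc_e_rc_13_1) (@D3.rec (fun _ => (Cert rels S Gen.e)) lc_e_Cert_tree lc_e_Cert_tree lc_e_Cert_tree lc_e_Cert_tree lc_e_rc_18_1 lc_e_rc_27_5 lc_e_rc_18_1 lc_e_rc_18_1 lc_e_rc_13_1 lc_e_Cert_tree lc_e_Cert_tree lc_e_rc_18_1 lc_e_rc_9_3 lc_e_Cert_tree lc_e_rc_18_1 lc_e_rc_18_1 lc_e_Cert_tree lc_e_rc_18_1 lc_e_rc_27_5 lc_e_rc_27_1 lc_e_rc_19_4 lc_e_Cert_tree lc_e_rc_18_1 lc_e_rc_19_4 lc_e_rc_18_1 lc_e_rc_27_7 lc_e_Cert_tree lc_e_rc_4_3 lc_e_Cert_tree lc_e_Cert_tree lc_e_rc_18_1 lc_e_rc_18_1 lc_e_Cert_tree lc_e_Cert_tree lc_e_rc_4_3 lc_e_Cert_tree lc_e_Cert_tree lc_e_Cert_tree lc_e_rc_18_1 lc_e_Cert_tree lc_e_rc_18_1 lc_e_Cert_tree lc_e_rc_18_1 lc_e_Cert_tree lc_e_rc_9_3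 lc_e_Cert_tree lc_e_Cert_tree lc_e_rc_18_1 lc_e_rc_18_1 lc_e_rc_13_3 lc_e_rc_13_3 lc_e_rc_16_1 lc_e_rc_19_4 lc_e_rc_27_1 lc_e_rc_16_5 lc_e_rc_27_1 lc_e_rc_27_7 lc_e_Cert_tree lc_e_Cert_tree lc_e_Cert_tree lc_e_rc_18_1 lc_e_rc_18_1) (@D3.rec (fun _ => (Cert rels S Gen.e)) lc_e_rc_16_1 lc_e_rc_19_4 lc_e_Cert_tree lc_e_rc_9_3 lc_e_rc_4_3 lc_e_Cert_tree lc_e_rc_18_1 lc_e_rc_18_1 lc_e_rc_27_7 lc_e_Cert_tree lc_e_Cert_tree lc_e_rc_18_1 lc_e_rc_18_1 lc_e_rc_13_1 lc_e_rc_27_5 lc_e_Cert_tree lc_e_rc_13_3 lc_e_rc_4_3 lc_e_Cert_tree lc_e_rc_18_1 lc_e_rc_13_3 lc_e_Cert_tree lc_e_Cert_tree lc_e_Cert_tree lc_e_Cert_tree lc_e_rc_18_1 lc_e_rc_18_1 lc_e_Cert_tree lc_e_rc_4_3 lc_e_rc_13_3 lc_e_rc_9_3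 lc_e_Cert_tree lc_e_Cert_tree lc_e_Cert_tree lc_e_Cert_tree lc_e_Cert_tree lc_e_rc_18_1 lc_e_Cert_tree lc_e_Cert_tree lc_e_Cert_tree lc_e_Cert_tree lc_e_rc_18_1 lc_e_Cert_tree lc_e_rc_18_1 lc_e_Cert_tree lc_e_rc_18_1 lc_e_Cert_tree lc_e_rc_18_1 lc_e_Cert_tree lc_e_rc_18_1 lc_e_Cert_tree lc_e_Cert_tree lc_e_Cert_tree lc_e_rc_18_1 lc_e_rc_19_0 lc_e_rc_16_3 lc_e_Cert_tree lc_e_rc_18_1 lc_e_rc_27_5 lc_e_rc_16_1 lc_e_Cert_tree lc_e_rc_18_1) (@D3.rec (fun _ => (Cert rels S Gen.e)) lc_e_Cert_tree lc_e_Cert_tree lc_e_rc_16_1 lc_e_rc_19_4 lc_e_rc_13_3 lc_e_Cert_tree lc_e_rc_18_1 lc_e_rc_16_1 lc_e_Cert_tree lc_e_rc_18_1 lc_e_rc_13_1 lc_e_rc_16_1 lc_e_rc_19_4 lc_e_Cert_tree lc_e_rc_18_1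 lc_e_rc_18_1 lc_e_Cert_tree lc_e_rc_18_1 lc_e_Cert_tree lc_e_Cert_tree lc_e_Cert_tree lc_e_Cert_tree lc_e_rc_18_1 lc_e_Cert_tree lc_e_Cert_tree lc_e_rc_9_3 lc_e_rc_18_1 lc_e_Cert_tree lc_e_rc_18_1 lc_e_Cert_tree lc_e_Cert_tree lc_e_rc_4_1 lc_e_rc_19_4 lc_e_Cert_tree lc_e_rc_18_1 lc_e_Cert_tree lc_e_Cert_tree lc_e_rc_16_3 lc_e_rc_19_4 lc_e_Cert_tree lc_e_Cert_tree lc_e_Cert_tree lc_e_rc_18_1 lc_e_Cert_tree lc_e_Cert_tree lc_e_rc_16_3 lc_e_rc_27_7 lc_e_Cert_tree lc_e_Cert_tree lc_e_Cert_tree lc_e_rc_18_1 lc_e_Cert_tree lc_e_rc_27_5 lc_e_rc_18_1 lc_e_Cert_tree lc_e_rc_18_1 lc_e_rc_18_1 lc_e_Cert_tree lc_e_Cert_tree lc_e_rc_18_1 lc_e_Cert_tree lc_e_rc_9_3) (@D3.rec (fun _ => (Cert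 rels S Gen.e)) lc_e_Cert_tree lc_e_Cert_tree lc_e_Cert_tree lc_e_rc_18_1 lc_e_Cert_tree lc_e_Cert_tree lc_e_rc_16_3 lc_e_rc_27_7 lc_e_Cert_tree lc_e_Cert_tree lc_e_rc_18_1 lc_e_Cert_tree lc_e_Cert_tree lc_e_rc_27_5 lc_e_rc_18_1 lc_e_Cert_tree lc_e_rc_18_1 lc_e_Cert_tree lc_e_rc_18_1 lc_e_Cert_tree lc_e_Cert_tree lc_e_Cert_tree lc_e_Cert_tree lc_e_rc_18_1 lc_e_Cert_tree lc_e_Cert_tree lc_e_rc_16_1 lc_e_rc_19_4 lc_e_Cert_tree lc_e_Cert_tree lc_e_rc_9_3 lc_e_Cert_tree lc_e_rc_13_3 lc_e_Cert_tree lc_e_Cert_tree lc_e_Cert_tree lc_e_Cert_tree lc_e_rc_18_1 lc_e_Cert_tree lc_e_Cert_tree lc_e_rc_16_3 lc_e_rc_19_4 lc_e_Cert_tree lc_e_Cert_tree lc_e_Cert_tree lc_e_rc_18_1 lc_e_Cert_tree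 lc_e_rc_27_5 lc_e_rc_18_1 lc_e_Cert_tree lc_e_Cert_tree lc_e_rc_13_3 lc_e_Cert_tree lc_e_Cert_tree lc_e_Cert_tree lc_e_rc_18_1 lc_e_Cert_tree lc_e_rc_18_1 lc_e_rc_16_3 lc_e_rc_13_3 lc_e_Cert_tree lc_e_rc_18_1) (@D3.rec (fun _ => (Cert rels S Gen.e)) lc_e_Cert_tree lc_e_Cert_tree lc_e_rc_9_3 lc_e_Cert_tree lc_e_Cert_tree lc_e_rc_18_1 lc_e_rc_18_1 lc_e_rc_18_1 lc_e_rc_9_1 lc_e_rc_16_3 lc_e_rc_19_4 lc_e_rc_18_1 lc_e_Cert_tree lc_e_rc_16_1 lc_e_rc_19_4 lc_e_rc_9_3 lc_e_rc_13_3 lc_e_rc_9_3 lc_e_Cert_tree lc_e_Cert_tree lc_e_rc_16_5 lc_e_Cert_tree lc_e_rc_18_1 lc_e_rc_27_5 lc_e_rc_13_3 lc_e_Cert_tree lc_e_Cert_tree lc_e_rc_18_1 lc_e_rc_27_1 lc_e_rc_19_4 lc_e_Cert_tree lc_e_Cert_tree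 lc_e_rc_18_1 lc_e_Cert_tree lc_e_Cert_tree lc_e_rc_18_1 lc_e_rc_19_4 lc_e_rc_9_3 lc_e_Cert_tree lc_e_Cert_tree lc_e_Cert_tree lc_e_rc_18_1 lc_e_rc_9_3 lc_e_Cert_tree lc_e_Cert_tree lc_e_rc_18_1 lc_e_rc_27_1 lc_e_Cert_tree lc_e_rc_4_3 lc_e_Cert_tree lc_e_Cert_tree lc_e_Cert_tree lc_e_Cert_tree lc_e_Cert_tree lc_e_rc_18_1 lc_e_Cert_tree lc_e_rc_18_1 lc_e_Cert_tree lc_e_Cert_tree lc_e_rc_18_1 lc_e_rc_16_3 lc_e_rc_19_4) (@D3.rec (fun _ => (Cert rels S Gen.e)) lc_e_Cert_tree lc_e_rc_27_7 lc_e_rc_18_1 lc_e_rc_27_5 lc_e_rc_18_1 lc_e_rc_18_1 lc_e_rc_16_1 lc_e_rc_18_1 lc_e_Cert_tree lc_e_Cert_tree lc_e_rc_19_4 lc_e_rc_18_1 lc_e_rc_16_3 lc_e_rc_19_4 lc_e_rc_27_7 lc_e_rc_18_1 lc_e_rc_27_5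 lc_e_rc_18_1 lc_e_rc_18_1 lc_e_rc_18_1 lc_e_Cert_tree lc_e_rc_16_1 lc_e_rc_27_5 lc_e_rc_18_1 lc_e_Cert_tree lc_e_rc_16_3 lc_e_rc_13_3 lc_e_Cert_tree lc_e_Cert_tree lc_e_Cert_tree lc_e_rc_18_1 lc_e_rc_16_3 lc_e_rc_19_4 lc_e_Cert_tree lc_e_Cert_tree lc_e_rc_18_1 lc_e_Cert_tree lc_e_rc_27_5 lc_e_rc_18_1 lc_e_Cert_tree lc_e_Cert_tree lc_e_rc_13_3 lc_e_Cert_tree lc_e_rc_16_5 lc_e_Cert_tree lc_e_rc_18_1 lc_e_rc_9_3 lc_e_Cert_tree lc_e_Cert_tree lc_e_rc_18_1 lc_e_Cert_tree lc_e_Cert_tree lc_e_Cert_tree lc_e_rc_18_1 lc_e_rc_13_3 lc_e_Cert_tree lc_e_rc_16_3 lc_e_rc_9_3 lc_e_rc_18_1 lc_e_rc_13_3 lc_e_rc_16_5 lc_e_Cert_tree) (@D3.rec (fun _ => (Cert rels S Gen.e)) lc_e_rc_27_5 lc_e_rc_18_1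 lc_e_Cert_tree lc_e_Cert_tree lc_e_rc_13_3 lc_e_rc_19_4 lc_e_rc_18_1 lc_e_Cert_tree lc_e_rc_16_3 lc_e_rc_9_3 lc_e_rc_18_1 lc_e_rc_18_1 lc_e_Cert_tree lc_e_rc_16_3 lc_e_rc_16_3 lc_e_rc_13_3 lc_e_rc_16_5 lc_e_Cert_tree lc_e_Cert_tree lc_e_rc_27_5 lc_e_rc_18_1 lc_e_Cert_tree lc_e_Cert_tree lc_e_rc_13_3 lc_e_rc_19_4 lc_e_Cert_tree lc_e_Cert_tree lc_e_Cert_tree lc_e_rc_18_1 lc_e_rc_16_3 lc_e_rc_4_3 lc_e_Cert_tree lc_e_Cert_tree lc_e_Cert_tree lc_e_rc_18_1 lc_e_rc_16_3 lc_e_rc_27_5 lc_e_Cert_tree lc_e_Cert_tree lc_e_rc_18_1 lc_e_Cert_tree lc_e_rc_18_1 lc_e_Cert_tree lc_e_rc_18_1 lc_e_Cert_tree lc_e_Cert_tree lc_e_Cert_tree lc_e_rc_18_1 lc_e_Cert_tree lc_e_Cert_tree lc_e_rc_16_1 lc_e_rc_19_4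 lc_e_Cert_tree lc_e_Cert_tree lc_e_rc_16_1 lc_e_rc_19_4 lc_e_Cert_tree lc_e_Cert_tree lc_e_rc_18_1 lc_e_Cert_tree lc_e_Cert_tree lc_e_rc_18_1) (@D3.rec (fun _ => (Cert rels S Gen.e)) lc_e_Cert_tree lc_e_Cert_tree lc_e_rc_13_3 lc_e_Cert_tree lc_e_Cert_tree lc_e_Cert_tree lc_e_rc_18_1 lc_e_rc_18_1 lc_e_rc_18_1 lc_e_Cert_tree lc_e_rc_18_1 lc_e_rc_18_1 lc_e_rc_16_1 lc_e_rc_13_3 lc_e_rc_19_0 lc_e_Cert_tree lc_e_rc_18_1 lc_e_Cert_tree lc_e_Cert_tree lc_e_rc_18_1 lc_e_Cert_tree lc_e_rc_18_1 lc_e_rc_4_3 lc_e_Cert_tree lc_e_rc_27_7 lc_e_rc_18_1 lc_e_Cert_tree lc_e_Cert_tree lc_e_rc_27_5 lc_e_rc_18_1 lc_e_Cert_tree lc_e_Cert_tree lc_e_rc_9_3 lc_e_Cert_tree lc_e_Cert_tree lc_e_rc_18_1 lc_e_Cert_tree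 lc_e_Cert_tree lc_e_rc_18_1 lc_e_Cert_tree lc_e_rc_13_3 lc_e_Cert_tree lc_e_Cert_tree lc_e_rc_18_1 lc_e_rc_27_5 lc_e_Cert_tree lc_e_rc_19_4 lc_e_Cert_tree lc_e_rc_16_5 lc_e_Cert_tree lc_e_rc_16_5 lc_e_rc_18_1 lc_e_rc_13_3 lc_e_Cert_tree lc_e_rc_18_1 lc_e_rc_13_3 lc_e_rc_19_4 lc_e_rc_9_3 lc_e_Cert_tree lc_e_Cert_tree lc_e_rc_18_1 lc_e_Cert_tree) (@D3.rec (fun _ => (Cert rels S Gen.e)) lc_e_Cert_tree lc_e_rc_18_1 lc_e_rc_18_1 lc_e_rc_16_1 lc_e_rc_19_4 lc_e_Cert_tree lc_e_Cert_tree lc_e_rc_18_1 lc_e_Cert_tree lc_e_Cert_tree lc_e_rc_18_1 lc_e_Cert_tree lc_e_Cert_tree lc_e_rc_4_3 lc_e_Cert_tree lc_e_Cert_tree lc_e_Cert_tree lc_e_Cert_tree lc_e_rc_18_1 lc_e_rc_18_1 lc_e_rc_18_1 lc_e_rc_27_1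 lc_e_rc_18_1 lc_e_rc_18_1 lc_e_rc_18_1 lc_e_rc_19_0 lc_e_rc_19_2 lc_e_rc_18_1 lc_e_rc_19_0 lc_e_rc_13_3 lc_e_Cert_tree lc_e_Cert_tree lc_e_Cert_tree lc_e_rc_18_1 lc_e_Cert_tree lc_e_Cert_tree lc_e_rc_16_3 lc_e_rc_19_4 lc_e_Cert_tree lc_e_Cert_tree lc_e_rc_18_1 lc_e_Cert_tree lc_e_Cert_tree lc_e_rc_27_7 lc_e_rc_18_1 lc_e_rc_18_1 lc_e_Cert_tree lc_e_rc_13_3 lc_e_Cert_tree lc_e_rc_9_3 lc_e_Cert_tree lc_e_Cert_tree lc_e_rc_18_1 lc_e_rc_19_2 lc_e_rc_4_3 lc_e_Cert_tree lc_e_rc_18_1 lc_e_Cert_tree lc_e_rc_18_1 lc_e_Cert_tree lc_e_rc_18_1 lc_e_Cert_tree) (@D3.rec (fun _ => (Cert rels S Gen.e)) lc_e_Cert_tree lc_e_rc_4_3 lc_e_Cert_tree lc_e_Cert_tree lc_e_Cert_tree lc_e_rc_18_1 lc_e_Cert_tree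 lc_e_rc_18_1 lc_e_Cert_tree lc_e_Cert_tree lc_e_rc_18_1 lc_e_Cert_tree lc_e_Cert_tree lc_e_Cert_tree lc_e_rc_16_5 lc_e_Cert_tree lc_e_rc_18_1 lc_e_Cert_tree lc_e_Cert_tree lc_e_rc_18_1 lc_e_Cert_tree lc_e_rc_18_1 lc_e_Cert_tree lc_e_Cert_tree lc_e_rc_19_4 lc_e_Cert_tree lc_e_Cert_tree lc_e_rc_18_1 lc_e_Cert_tree lc_e_Cert_tree lc_e_rc_18_1 lc_e_rc_13_3 lc_e_Cert_tree lc_e_Cert_tree lc_e_rc_18_1 lc_e_Cert_tree lc_e_Cert_tree lc_e_rc_18_1 lc_e_Cert_tree lc_e_rc_18_1 lc_e_rc_27_7 lc_e_rc_13_3 lc_e_rc_16_1 lc_e_rc_19_4 lc_e_rc_18_1 lc_e_rc_27_1 lc_e_rc_4_3 lc_e_Cert_tree lc_e_rc_18_1 lc_e_Cert_tree lc_e_rc_18_1 lc_e_rc_18_1 lc_e_Cert_tree lc_e_rc_19_4 lc_e_rc_18_1 lc_e_Cert_tree lc_e_Cert_tree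 lc_e_Cert_tree lc_e_rc_18_1 lc_e_rc_18_1 lc_e_rc_18_1 lc_e_rc_18_1) (@D3.rec (fun _ => (Cert rels S Gen.e)) lc_e_rc_16_1 lc_e_rc_19_4 lc_e_rc_18_1 lc_e_Cert_tree lc_e_rc_27_1 lc_e_rc_4_3 lc_e_Cert_tree lc_e_Cert_tree lc_e_Cert_tree lc_e_rc_18_1 lc_e_rc_9_3 lc_e_rc_9_3 lc_e_rc_18_1 lc_e_rc_16_3 lc_e_rc_18_1 lc_e_rc_18_1 lc_e_rc_18_1 lc_e_rc_13_3 lc_e_rc_13_3 lc_e_Cert_tree lc_e_rc_9_3 lc_e_rc_4_3 lc_e_Cert_tree lc_e_rc_18_1 lc_e_rc_9_3 lc_e_Cert_tree lc_e_Cert_tree lc_e_rc_16_3 lc_e_rc_18_1 lc_e_rc_18_1 lc_e_rc_18_1 lc_e_rc_4_3 lc_e_Cert_tree lc_e_rc_4_3 lc_e_rc_9_3 lc_e_rc_13_3 lc_e_Cert_tree lc_e_Cert_tree lc_e_Cert_tree lc_e_Cert_tree lc_e_Cert_tree lc_e_rc_18_1 lc_e_Cert_tree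 lc_e_Cert_tree lc_e_Cert_tree lc_e_Cert_tree lc_e_rc_18_1 lc_e_Cert_tree lc_e_rc_18_1 lc_e_Cert_tree lc_e_rc_18_1 lc_e_Cert_tree lc_e_rc_18_1 lc_e_Cert_tree lc_e_rc_18_1 lc_e_Cert_tree lc_e_Cert_tree lc_e_Cert_tree lc_e_rc_18_1 lc_e_rc_18_1 lc_e_rc_18_1 lc_e_rc_16_3) (@D3.rec (fun _ => (Cert rels S Gen.e)) lc_e_rc_9_3 lc_e_Cert_tree lc_e_rc_18_1 lc_e_rc_18_1 lc_e_rc_18_1 lc_e_Cert_tree lc_e_rc_18_1 lc_e_rc_27_5 lc_e_rc_27_1 lc_e_rc_19_4 lc_e_rc_18_1 lc_e_rc_19_4 lc_e_rc_18_1 lc_e_rc_27_5 lc_e_rc_27_7 lc_e_Cert_tree lc_e_rc_13_1 lc_e_Cert_tree lc_e_Cert_tree lc_e_Cert_tree lc_e_rc_18_1 lc_e_Cert_tree lc_e_rc_18_1 lc_e_Cert_tree lc_e_Cert_tree lc_e_rc_4_3 lc_e_Cert_tree lc_e_rc_18_1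 lc_e_rc_27_5 lc_e_rc_27_1 lc_e_rc_19_4 lc_e_Cert_tree lc_e_rc_27_7 lc_e_Cert_tree lc_e_rc_18_1 lc_e_rc_27_5 lc_e_rc_19_4 lc_e_rc_13_3 lc_e_Cert_tree lc_e_Cert_tree lc_e_rc_18_1 lc_e_rc_16_3 lc_e_Cert_tree lc_e_rc_4_3 lc_e_rc_9_3 lc_e_rc_13_3 lc_e_Cert_tree lc_e_Cert_tree lc_e_Cert_tree lc_e_Cert_tree lc_e_Cert_tree lc_e_rc_18_1 lc_e_Cert_tree lc_e_Cert_tree lc_e_Cert_tree lc_e_Cert_tree lc_e_rc_18_1 lc_e_rc_18_1 lc_e_Cert_tree lc_e_Cert_tree lc_e_rc_19_4 lc_e_rc_16_3) (@D3.rec (fun _ => (Cert rels S Gen.e)) lc_e_Cert_tree lc_e_Cert_tree lc_e_Cert_tree lc_e_Cert_tree lc_e_rc_18_1 lc_e_rc_27_5 lc_e_Cert_tree lc_e_Cert_tree lc_e_rc_18_1 lc_e_Cert_tree lc_e_Cert_tree lc_e_Cert_tree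 lc_e_Cert_tree lc_e_rc_18_1 lc_e_Cert_tree lc_e_rc_18_1 lc_e_Cert_tree lc_e_rc_18_1 lc_e_Cert_tree lc_e_Cert_tree lc_e_Cert_tree lc_e_rc_18_1 lc_e_rc_16_1 lc_e_rc_9_1 lc_e_Cert_tree lc_e_Cert_tree lc_e_rc_18_1 lc_e_rc_18_1 lc_e_rc_16_1 lc_e_Cert_tree lc_e_Cert_tree lc_e_Cert_tree lc_e_rc_18_1 lc_e_rc_13_3 lc_e_rc_9_3 lc_e_Cert_tree lc_e_Cert_tree lc_e_rc_18_1 lc_e_Cert_tree lc_e_Cert_tree lc_e_Cert_tree lc_e_rc_18_1 lc_e_rc_18_1 lc_e_rc_9_3 lc_e_rc_16_1 lc_e_rc_19_4 lc_e_rc_13_3 lc_e_Cert_tree lc_e_rc_16_1 lc_e_rc_18_1 lc_e_rc_9_3 lc_e_rc_9_3 lc_e_rc_27_7 lc_e_rc_13_1 lc_e_Cert_tree lc_e_rc_27_1 lc_e_rc_16_5 lc_e_rc_9_3 lc_e_rc_27_7 lc_e_rc_18_1 lc_e_rc_9_3 lc_e_Cert_tree) (@D3.rec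 (fun _ => (Cert rels S Gen.e)) lc_e_Cert_tree lc_e_Cert_tree lc_e_Cert_tree lc_e_rc_18_1 lc_e_Cert_tree lc_e_rc_18_1 lc_e_Cert_tree lc_e_Cert_tree lc_e_Cert_tree lc_e_rc_18_1 lc_e_rc_9_3 lc_e_rc_16_1 lc_e_rc_19_4 lc_e_rc_16_5 lc_e_Cert_tree lc_e_rc_16_1 lc_e_rc_9_3 lc_e_rc_13_3 lc_e_Cert_tree lc_e_Cert_tree lc_e_Cert_tree lc_e_rc_18_1 lc_e_rc_13_3 lc_e_rc_9_3 lc_e_Cert_tree lc_e_Cert_tree lc_e_rc_18_1 lc_e_Cert_tree lc_e_rc_4_3 lc_e_rc_9_3 lc_e_rc_13_3 lc_e_rc_13_1 lc_e_rc_27_7 lc_e_Cert_tree lc_e_rc_18_1 lc_e_Cert_tree lc_e_rc_18_1 lc_e_rc_13_3 lc_e_rc_9_3 lc_e_rc_16_1 lc_e_Cert_tree lc_e_rc_9_3 lc_e_Cert_tree lc_e_Cert_tree lc_e_rc_18_1 lc_e_rc_27_1 lc_e_rc_18_1 lc_e_Cert_tree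 lc_e_Cert_tree lc_e_Cert_tree lc_e_Cert_tree lc_e_Cert_tree lc_e_rc_18_1 lc_e_Cert_tree lc_e_Cert_tree lc_e_rc_27_1 lc_e_rc_16_3 lc_e_Cert_tree lc_e_Cert_tree lc_e_Cert_tree lc_e_Cert_tree lc_e_rc_18_1) (@D3.rec (fun _ => (Cert rels S Gen.e)) lc_e_Cert_tree lc_e_Cert_tree lc_e_rc_18_1 lc_e_rc_18_1 lc_e_Cert_tree lc_e_Cert_tree lc_e_rc_18_1 lc_e_Cert_tree lc_e_Cert_tree lc_e_Cert_tree lc_e_rc_18_1 lc_e_rc_13_3 lc_e_Cert_tree lc_e_Cert_tree lc_e_rc_18_1 lc_e_rc_4_3 lc_e_rc_4_3 lc_e_rc_27_1 lc_e_rc_4_3 lc_e_rc_27_5 lc_e_Cert_tree lc_e_Cert_tree lc_e_Cert_tree lc_e_rc_18_1 lc_e_rc_13_3 lc_e_Cert_tree lc_e_Cert_tree lc_e_Cert_tree lc_e_rc_18_1 lc_e_rc_18_1 lc_e_Cert_tree lc_e_Cert_tree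 lc_e_rc_18_1 lc_e_Cert_tree lc_e_Cert_tree lc_e_rc_18_1 lc_e_Cert_tree lc_e_rc_18_1 lc_e_rc_13_3 lc_e_Cert_tree lc_e_Cert_tree lc_e_Cert_tree lc_e_rc_18_1 lc_e_Cert_tree lc_e_Cert_tree lc_e_rc_18_1 lc_e_Cert_tree lc_e_Cert_tree lc_e_rc_18_1 lc_e_Cert_tree lc_e_Cert_tree lc_e_Cert_tree lc_e_Cert_tree lc_e_rc_18_1 lc_e_Cert_tree lc_e_Cert_tree lc_e_Cert_tree lc_e_Cert_tree lc_e_rc_18_1 lc_e_rc_18_1 lc_e_rc_18_1 lc_e_rc_16_3) (@D3.rec (fun _ => (Cert rels S Gen.e)) lc_e_Cert_tree lc_e_Cert_tree lc_e_rc_18_1 lc_e_rc_27_5 lc_e_Cert_tree lc_e_rc_19_4 lc_e_Cert_tree lc_e_Cert_tree lc_e_rc_18_1 lc_e_Cert_tree lc_e_rc_16_3 lc_e_rc_9_3 lc_e_Cert_tree lc_e_Cert_tree lc_e_Cert_tree lc_e_rc_18_1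 lc_e_Cert_tree lc_e_rc_16_5 lc_e_rc_16_3 lc_e_rc_19_4 lc_e_Cert_tree lc_e_rc_4_3 lc_e_rc_13_3 lc_e_rc_18_1 lc_e_Cert_tree lc_e_rc_19_4 lc_e_rc_18_1 lc_e_rc_18_1 lc_e_rc_16_3 lc_e_rc_19_0 lc_e_Cert_tree lc_e_rc_13_1 lc_e_Cert_tree lc_e_rc_18_1 lc_e_Cert_tree lc_e_rc_16_1 lc_e_rc_19_4 lc_e_Cert_tree lc_e_rc_16_5 lc_e_rc_13_3 lc_e_Cert_tree lc_e_Cert_tree lc_e_Cert_tree lc_e_rc_18_1 lc_e_rc_16_3 lc_e_rc_19_4 lc_e_Cert_tree lc_e_rc_18_1 lc_e_Cert_tree lc_e_rc_27_5 lc_e_rc_18_1 lc_e_Cert_tree lc_e_Cert_tree lc_e_rc_13_3 lc_e_rc_4_1 lc_e_rc_9_3 lc_e_Cert_tree lc_e_rc_18_1 lc_e_Cert_tree lc_e_rc_16_1 lc_e_rc_19_4 lc_e_rc_9_3) (@D3.rec (fun _ => (Cert rels S Gen.e)) lc_e_rc_13_3 lc_e_rc_18_1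 lc_e_Cert_tree lc_e_rc_16_1 lc_e_rc_19_4 lc_e_Cert_tree lc_e_Cert_tree lc_e_rc_13_3 lc_e_Cert_tree lc_e_Cert_tree lc_e_Cert_tree lc_e_rc_18_1 lc_e_Cert_tree lc_e_Cert_tree lc_e_rc_4_3 lc_e_Cert_tree lc_e_Cert_tree lc_e_rc_16_1 lc_e_rc_13_3 lc_e_rc_18_1 lc_e_Cert_tree lc_e_Cert_tree lc_e_rc_16_1 lc_e_rc_19_4 lc_e_rc_18_1 lc_e_Cert_tree lc_e_rc_18_1 lc_e_rc_18_1 lc_e_rc_18_1 lc_e_Cert_tree lc_e_Cert_tree lc_e_rc_16_1 lc_e_rc_13_3 lc_e_Cert_tree lc_e_Cert_tree lc_e_rc_18_1 lc_e_Cert_tree lc_e_rc_16_3 lc_e_rc_18_1 lc_e_Cert_tree lc_e_Cert_tree lc_e_rc_4_1 lc_e_rc_19_4 lc_e_Cert_tree lc_e_Cert_tree lc_e_Cert_tree lc_e_rc_18_1 lc_e_rc_16_3 lc_e_rc_19_4 lc_e_Cert_tree lc_e_Cert_tree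 lc_e_rc_18_1 lc_e_rc_27_5 lc_e_rc_18_1 lc_e_rc_18_1 lc_e_Cert_tree lc_e_rc_13_1 lc_e_rc_19_4 lc_e_Cert_tree lc_e_Cert_tree lc_e_Cert_tree lc_e_rc_18_1) (@D3.rec (fun _ => (Cert rels S Gen.e)) lc_e_rc_13_3 lc_e_Cert_tree lc_e_rc_16_3 lc_e_rc_19_4 lc_e_Cert_tree lc_e_rc_18_1 lc_e_rc_27_5 lc_e_rc_18_1 lc_e_rc_18_1 lc_e_Cert_tree lc_e_rc_13_3 lc_e_Cert_tree lc_e_Cert_tree lc_e_rc_18_1 lc_e_Cert_tree lc_e_Cert_tree lc_e_rc_18_1 lc_e_rc_18_1 lc_e_Cert_tree lc_e_Cert_tree lc_e_rc_16_3 lc_e_rc_9_3 lc_e_Cert_tree lc_e_Cert_tree lc_e_rc_18_1 lc_e_Cert_tree lc_e_Cert_tree lc_e_rc_18_1 lc_e_Cert_tree lc_e_Cert_tree lc_e_rc_13_3 lc_e_Cert_tree lc_e_rc_4_3 lc_e_Cert_tree lc_e_rc_18_1 lc_e_Cert_tree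 lc_e_Cert_tree lc_e_rc_18_1 lc_e_rc_27_5 lc_e_rc_13_1 lc_e_rc_18_1 lc_e_rc_13_1 lc_e_rc_27_1 lc_e_rc_19_4 lc_e_Cert_tree lc_e_Cert_tree lc_e_rc_18_1 lc_e_rc_13_1 lc_e_rc_27_1 lc_e_rc_18_1 lc_e_rc_19_4 lc_e_Cert_tree lc_e_rc_18_1 lc_e_rc_16_1 lc_e_rc_16_3 lc_e_rc_19_4 lc_e_Cert_tree lc_e_Cert_tree lc_e_Cert_tree lc_e_Cert_tree lc_e_rc_18_1 lc_e_rc_18_1) (@D3.rec (fun _ => (Cert rels S Gen.e)) lc_e_Cert_tree lc_e_rc_16_1 lc_e_rc_9_3 lc_e_rc_27_5 lc_e_rc_18_1 lc_e_rc_18_1 lc_e_Cert_tree lc_e_rc_18_1 lc_e_rc_18_1 lc_e_Cert_tree lc_e_Cert_tree lc_e_rc_16_3 lc_e_rc_9_3 lc_e_Cert_tree lc_e_Cert_tree lc_e_rc_18_1 lc_e_Cert_tree lc_e_Cert_tree lc_e_rc_18_1 lc_e_Cert_tree lc_e_Cert_tree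 lc_e_rc_13_3 lc_e_Cert_tree lc_e_Cert_tree lc_e_Cert_tree lc_e_rc_18_1 lc_e_rc_13_3 lc_e_Cert_tree lc_e_rc_18_1 lc_e_rc_18_1 lc_e_rc_27_1 lc_e_rc_19_4 lc_e_Cert_tree lc_e_rc_16_3 lc_e_rc_18_1 lc_e_Cert_tree lc_e_Cert_tree lc_e_rc_18_1 lc_e_rc_27_1 lc_e_rc_27_1 lc_e_rc_18_1 lc_e_rc_19_4 lc_e_rc_18_1 lc_e_rc_18_1 lc_e_rc_9_1 lc_e_rc_27_5 lc_e_Cert_tree lc_e_rc_18_1 lc_e_Cert_tree lc_e_rc_16_1 lc_e_rc_4_3 lc_e_Cert_tree lc_e_rc_18_1 lc_e_Cert_tree lc_e_Cert_tree lc_e_rc_18_1 lc_e_Cert_tree lc_e_Cert_tree lc_e_Cert_tree lc_e_rc_18_1 lc_e_rc_18_1 lc_e_Cert_tree) (@D3.rec (fun _ => (Cert rels S Gen.e)) lc_e_Cert_tree lc_e_rc_16_1 lc_e_rc_19_4 lc_e_Cert_tree lc_e_Cert_tree lc_e_rc_18_1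 lc_e_Cert_tree lc_e_rc_27_5 lc_e_rc_18_1 lc_e_Cert_tree lc_e_Cert_tree lc_e_rc_13_3 lc_e_Cert_tree lc_e_Cert_tree lc_e_rc_18_1 lc_e_Cert_tree lc_e_rc_18_1 lc_e_rc_13_3 lc_e_Cert_tree lc_e_rc_27_5 lc_e_rc_18_1 lc_e_Cert_tree lc_e_Cert_tree lc_e_rc_9_3 lc_e_Cert_tree lc_e_Cert_tree lc_e_rc_18_1 lc_e_Cert_tree lc_e_rc_18_1 lc_e_rc_18_1 lc_e_rc_18_1 lc_e_Cert_tree lc_e_Cert_tree lc_e_rc_16_3 lc_e_rc_19_4 lc_e_Cert_tree lc_e_Cert_tree lc_e_rc_18_1 lc_e_Cert_tree lc_e_Cert_tree lc_e_rc_18_1 lc_e_Cert_tree lc_e_Cert_tree lc_e_rc_13_3 lc_e_Cert_tree lc_e_Cert_tree lc_e_rc_18_1 lc_e_Cert_tree lc_e_rc_18_1 lc_e_rc_18_1 lc_e_rc_18_1 lc_e_Cert_tree lc_e_rc_18_1 lc_e_rc_18_1 lc_e_rc_4_3 lc_e_Cert_tree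 lc_e_Cert_tree lc_e_rc_18_1 lc_e_rc_18_1 lc_e_rc_13_3 lc_e_rc_27_7 lc_e_rc_13_1) (@D3.rec (fun _ => (Cert rels S Gen.e)) lc_e_rc_27_7 lc_e_rc_18_1 lc_e_Cert_tree lc_e_rc_18_1 lc_e_Cert_tree lc_e_Cert_tree lc_e_rc_9_3 lc_e_Cert_tree lc_e_Cert_tree lc_e_rc_18_1 lc_e_rc_13_1 lc_e_rc_18_1 lc_e_Cert_tree lc_e_Cert_tree lc_e_rc_18_1 lc_e_rc_27_5 lc_e_Cert_tree lc_e_rc_19_4 lc_e_rc_9_1 lc_e_Cert_tree lc_e_rc_18_1 lc_e_rc_18_1 lc_e_rc_13_3 lc_e_rc_19_4 lc_e_rc_13_3 lc_e_rc_9_3 lc_e_Cert_tree lc_e_Cert_tree lc_e_Cert_tree lc_e_rc_18_1 lc_e_rc_18_1 lc_e_rc_16_1 lc_e_rc_19_4 lc_e_Cert_tree lc_e_Cert_tree lc_e_rc_18_1 lc_e_Cert_tree lc_e_Cert_tree lc_e_rc_18_1 lc_e_Cert_tree lc_e_Cert_tree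 lc_e_rc_4_3 lc_e_Cert_tree lc_e_Cert_tree lc_e_Cert_tree lc_e_Cert_tree lc_e_rc_18_1 lc_e_rc_18_1 lc_e_rc_18_1 lc_e_Cert_tree lc_e_rc_13_3 lc_e_rc_9_3 lc_e_rc_16_5 lc_e_rc_27_7 lc_e_rc_18_1 lc_e_rc_13_3 lc_e_rc_19_4 lc_e_rc_9_3 lc_e_Cert_tree lc_e_Cert_tree lc_e_Cert_tree lc_e_rc_4_3) (@D3.rec (fun _ => (Cert rels S Gen.e)) lc_e_Cert_tree lc_e_Cert_tree lc_e_rc_18_1 lc_e_rc_18_1 lc_e_Cert_tree lc_e_rc_18_1 lc_e_Cert_tree lc_e_Cert_tree lc_e_rc_18_1 lc_e_rc_9_3 lc_e_rc_9_3 lc_e_rc_13_3 lc_e_Cert_tree lc_e_Cert_tree lc_e_rc_18_1 lc_e_rc_18_1 lc_e_rc_27_5 lc_e_rc_13_3 lc_e_rc_16_1 lc_e_rc_18_1 lc_e_rc_13_3 lc_e_rc_4_3 lc_e_Cert_tree lc_e_Cert_tree lc_e_rc_18_1 lc_e_Cert_tree lc_e_rc_18_1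 lc_e_rc_18_1 lc_e_rc_9_3 lc_e_rc_19_4 lc_e_rc_19_4 lc_e_Cert_tree lc_e_Cert_tree lc_e_Cert_tree lc_e_rc_18_1 lc_e_rc_18_1 lc_e_rc_16_1 lc_e_rc_19_4 lc_e_Cert_tree lc_e_rc_9_3 lc_e_rc_4_3 lc_e_Cert_tree lc_e_rc_18_1 lc_e_rc_4_3 lc_e_rc_19_0 lc_e_Cert_tree lc_e_rc_16_3 lc_e_rc_18_1 lc_e_rc_18_1 lc_e_rc_27_1 lc_e_Cert_tree lc_e_rc_4_3 lc_e_rc_4_3 lc_e_Cert_tree lc_e_rc_18_1 lc_e_rc_18_1 lc_e_rc_13_3 lc_e_Cert_tree lc_e_rc_9_3 lc_e_rc_4_1 lc_e_rc_13_3 lc_e_Cert_tree) (@D3.rec (fun _ => (Cert rels S Gen.e)) lc_e_Cert_tree lc_e_rc_9_1 lc_e_Cert_tree lc_e_rc_16_3 lc_e_rc_18_1 lc_e_Cert_tree lc_e_Cert_tree lc_e_Cert_tree lc_e_Cert_tree lc_e_rc_18_1 lc_e_Cert_tree lc_e_rc_18_1 lc_e_Cert_tree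 lc_e_rc_18_1 lc_e_Cert_tree lc_e_rc_18_1 lc_e_Cert_tree lc_e_rc_18_1 lc_e_rc_18_1 lc_e_Cert_tree lc_e_Cert_tree lc_e_rc_18_1 lc_e_rc_27_1 lc_e_rc_16_3 lc_e_Cert_tree lc_e_rc_18_1 lc_e_rc_18_1 lc_e_Cert_tree lc_e_Cert_tree lc_e_rc_16_3 lc_e_rc_19_4 lc_e_Cert_tree lc_e_Cert_tree lc_e_rc_13_3 lc_e_Cert_tree lc_e_Cert_tree lc_e_rc_27_1 lc_e_rc_18_1 lc_e_rc_13_1 lc_e_rc_18_1 lc_e_rc_18_1 lc_e_rc_18_1 lc_e_rc_19_4 lc_e_rc_16_1 lc_e_rc_13_3 lc_e_rc_16_1 lc_e_rc_9_3 lc_e_rc_27_1 lc_e_rc_18_1 lc_e_rc_27_5 lc_e_rc_18_1 lc_e_rc_16_3 lc_e_rc_19_4 lc_e_Cert_tree lc_e_Cert_tree lc_e_rc_13_3 lc_e_Cert_tree lc_e_rc_13_1 lc_e_rc_18_1 lc_e_rc_16_5 lc_e_rc_18_1 lc_e_rc_13_3) (@D3.rec (fun _ => (Cert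 rels S Gen.e)) lc_e_rc_9_3 lc_e_Cert_tree lc_e_rc_16_1 lc_e_rc_9_3 lc_e_rc_16_5 lc_e_rc_27_5 lc_e_rc_18_1 lc_e_rc_18_1 lc_e_rc_19_4 lc_e_rc_16_5 lc_e_rc_27_5 lc_e_rc_18_1 lc_e_rc_18_1 lc_e_rc_19_4 lc_e_Cert_tree lc_e_Cert_tree lc_e_rc_18_1 lc_e_Cert_tree lc_e_rc_18_1 lc_e_rc_18_1 lc_e_Cert_tree lc_e_Cert_tree lc_e_rc_16_3 lc_e_rc_19_4 lc_e_Cert_tree lc_e_Cert_tree lc_e_rc_13_3 lc_e_Cert_tree lc_e_Cert_tree lc_e_rc_18_1 lc_e_rc_9_1 lc_e_Cert_tree lc_e_rc_18_1 lc_e_rc_16_5 lc_e_Cert_tree lc_e_rc_18_1 lc_e_rc_18_1 lc_e_rc_18_1 lc_e_Cert_tree lc_e_rc_18_1 lc_e_Cert_tree lc_e_rc_18_1 lc_e_rc_9_3 lc_e_Cert_tree lc_e_Cert_tree lc_e_rc_18_1 lc_e_Cert_tree lc_e_rc_18_1 lc_e_rc_18_1 lc_e_rc_16_1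 lc_e_rc_19_4 lc_e_Cert_tree lc_e_Cert_tree lc_e_rc_4_3 lc_e_Cert_tree lc_e_Cert_tree lc_e_rc_18_1 lc_e_Cert_tree lc_e_rc_18_1 lc_e_rc_18_1 lc_e_Cert_tree lc_e_Cert_tree) (@D3.rec (fun _ => (Cert rels S Gen.e)) lc_e_rc_18_1 lc_e_Cert_tree lc_e_rc_18_1 lc_e_rc_18_1 lc_e_Cert_tree lc_e_Cert_tree lc_e_rc_16_3 lc_e_rc_4_3 lc_e_rc_9_3 lc_e_Cert_tree lc_e_Cert_tree lc_e_Cert_tree lc_e_rc_18_1 lc_e_Cert_tree lc_e_Cert_tree lc_e_rc_13_3 lc_e_Cert_tree lc_e_rc_13_3 lc_e_rc_18_1 lc_e_rc_18_1 lc_e_Cert_tree lc_e_rc_18_1 lc_e_rc_18_1 lc_e_rc_18_1 lc_e_Cert_tree lc_e_Cert_tree lc_e_rc_18_1 lc_e_rc_18_1 lc_e_rc_16_1 lc_e_Cert_tree lc_e_Cert_tree lc_e_rc_18_1 lc_e_Cert_tree lc_e_rc_18_1 lc_e_Cert_tree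 lc_e_Cert_tree lc_e_rc_9_3 lc_e_Cert_tree lc_e_rc_19_4 lc_e_rc_27_1 lc_e_rc_13_1 lc_e_rc_19_2 lc_e_rc_18_1 lc_e_Cert_tree lc_e_rc_27_7 lc_e_rc_13_3 lc_e_rc_19_4 lc_e_Cert_tree lc_e_Cert_tree lc_e_rc_16_3 lc_e_rc_16_3 lc_e_rc_9_3 lc_e_Cert_tree lc_e_Cert_tree lc_e_Cert_tree lc_e_rc_18_1 lc_e_Cert_tree lc_e_Cert_tree lc_e_rc_13_3 lc_e_Cert_tree lc_e_rc_18_1 lc_e_Cert_tree) (@D3.rec (fun _ => (Cert rels S Gen.e)) lc_e_rc_18_1 lc_e_rc_18_1 lc_e_rc_18_1 lc_e_Cert_tree lc_e_rc_27_5 lc_e_rc_18_1 lc_e_Cert_tree lc_e_Cert_tree lc_e_rc_18_1 lc_e_rc_18_1 lc_e_rc_16_1 lc_e_Cert_tree lc_e_rc_18_1 lc_e_Cert_tree lc_e_Cert_tree lc_e_rc_18_1 lc_e_Cert_tree lc_e_Cert_tree lc_e_rc_9_3 lc_e_Cert_tree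 lc_e_rc_19_4 lc_e_Cert_tree lc_e_rc_18_1 lc_e_Cert_tree lc_e_Cert_tree lc_e_rc_18_1 lc_e_rc_18_1 lc_e_Cert_tree lc_e_Cert_tree lc_e_rc_16_3 lc_e_rc_9_3 lc_e_Cert_tree lc_e_Cert_tree lc_e_rc_13_3 lc_e_Cert_tree lc_e_Cert_tree lc_e_rc_18_1 lc_e_Cert_tree lc_e_rc_18_1 lc_e_Cert_tree lc_e_Cert_tree lc_e_rc_18_1 lc_e_Cert_tree lc_e_Cert_tree lc_e_rc_16_3 lc_e_rc_9_3 lc_e_Cert_tree lc_e_Cert_tree lc_e_rc_13_3 lc_e_Cert_tree lc_e_rc_18_1 lc_e_rc_18_1 lc_e_Cert_tree lc_e_rc_16_3 lc_e_rc_19_4 lc_e_rc_18_1 lc_e_Cert_tree lc_e_rc_16_3 lc_e_rc_19_4 lc_e_rc_18_1 lc_e_Cert_tree lc_e_Cert_tree) (@D3.rec (fun _ => (Cert rels S Gen.e)) lc_e_rc_16_1 lc_e_rc_19_4 lc_e_rc_18_1 lc_e_rc_18_1 lc_e_Cert_tree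 lc_e_rc_18_1 lc_e_Cert_tree lc_e_Cert_tree lc_e_rc_16_1 lc_e_rc_19_4 lc_e_Cert_tree lc_e_Cert_tree lc_e_Cert_tree lc_e_rc_18_1 lc_e_Cert_tree lc_e_Cert_tree lc_e_Cert_tree lc_e_rc_18_1 lc_e_Cert_tree lc_e_Cert_tree lc_e_rc_13_3 lc_e_Cert_tree lc_e_Cert_tree lc_e_Cert_tree lc_e_rc_18_1 lc_e_Cert_tree lc_e_Cert_tree lc_e_rc_18_1 lc_e_Cert_tree lc_e_Cert_tree lc_e_rc_13_3 lc_e_Cert_tree lc_e_rc_19_2 lc_e_Cert_tree lc_e_Cert_tree lc_e_rc_18_1 lc_e_Cert_tree lc_e_Cert_tree lc_e_Cert_tree lc_e_rc_18_1 lc_e_rc_13_3 lc_e_rc_4_3 lc_e_rc_13_3 lc_e_Cert_tree lc_e_Cert_tree lc_e_Cert_tree lc_e_rc_18_1 lc_e_Cert_tree lc_e_rc_18_1 lc_e_rc_16_1 lc_e_rc_9_3 lc_e_Cert_tree lc_e_Cert_tree lc_e_rc_27_7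 lc_e_rc_18_1 lc_e_Cert_tree lc_e_Cert_tree lc_e_rc_18_1 lc_e_Cert_tree lc_e_Cert_tree lc_e_rc_9_3 lc_e_Cert_tree) (@D3.rec (fun _ => (Cert rels S Gen.e)) lc_e_Cert_tree lc_e_rc_18_1 lc_e_rc_9_3 lc_e_Cert_tree lc_e_Cert_tree lc_e_rc_18_1 lc_e_Cert_tree lc_e_Cert_tree lc_e_Cert_tree lc_e_rc_18_1 lc_e_rc_13_3 lc_e_rc_16_1 lc_e_rc_9_3 lc_e_rc_9_3 lc_e_rc_13_3 lc_e_rc_27_1 lc_e_rc_13_3 lc_e_rc_27_7 lc_e_Cert_tree lc_e_Cert_tree lc_e_rc_18_1 lc_e_rc_18_1 lc_e_Cert_tree lc_e_rc_16_1 lc_e_rc_4_3 lc_e_Cert_tree lc_e_rc_16_1 lc_e_rc_18_1 lc_e_rc_27_5 lc_e_rc_18_1 lc_e_rc_9_3 lc_e_rc_4_3 lc_e_Cert_tree lc_e_rc_18_1 lc_e_Cert_tree lc_e_rc_18_1 lc_e_rc_16_1 lc_e_rc_4_1 lc_e_rc_9_1 lc_e_Cert_tree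 lc_e_rc_18_1 lc_e_rc_9_1 lc_e_Cert_tree lc_e_rc_18_1 lc_e_rc_27_7 lc_e_rc_16_5 lc_e_rc_18_1 lc_e_rc_27_7 lc_e_rc_19_4 lc_e_rc_13_1 lc_e_rc_18_1 lc_e_rc_18_1 lc_e_Cert_tree lc_e_Cert_tree lc_e_rc_18_1 lc_e_rc_13_1 lc_e_rc_16_5 lc_e_rc_18_1 lc_e_rc_19_4 lc_e_Cert_tree lc_e_Cert_tree lc_e_rc_18_1) (@D3.rec (fun _ => (Cert rels S Gen.e)) lc_e_Cert_tree lc_e_Cert_tree lc_e_rc_18_1 lc_e_rc_27_5 lc_e_Cert_tree lc_e_rc_4_3 lc_e_Cert_tree lc_e_Cert_tree lc_e_Cert_tree lc_e_Cert_tree lc_e_Cert_tree lc_e_rc_18_1 lc_e_Cert_tree lc_e_rc_18_1 lc_e_Cert_tree lc_e_rc_18_1 lc_e_Cert_tree lc_e_rc_18_1 lc_e_rc_18_1 lc_e_rc_19_4 lc_e_Cert_tree lc_e_Cert_tree lc_e_rc_18_1 lc_e_rc_9_3 lc_e_Cert_tree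 lc_e_rc_27_1 lc_e_Cert_tree lc_e_Cert_tree lc_e_Cert_tree lc_e_rc_18_1 lc_e_rc_18_1 lc_e_rc_27_5 lc_e_Cert_tree lc_e_rc_16_1 lc_e_rc_13_1 lc_e_rc_18_1 lc_e_rc_18_1 lc_e_rc_27_1 lc_e_Cert_tree lc_e_rc_27_5 lc_e_rc_18_1 lc_e_rc_27_5 lc_e_rc_18_1 lc_e_rc_16_5 lc_e_rc_16_5 lc_e_rc_18_1 lc_e_rc_19_4 lc_e_rc_13_3 lc_e_rc_13_3 lc_e_Cert_tree lc_e_rc_18_1 lc_e_rc_13_3 lc_e_rc_9_1 lc_e_rc_18_1 lc_e_Cert_tree lc_e_rc_13_3 lc_e_rc_4_3 lc_e_Cert_tree lc_e_Cert_tree lc_e_Cert_tree lc_e_rc_18_1 lc_e_rc_19_0) (@D3.rec (fun _ => (Cert rels S Gen.e)) lc_e_rc_27_7 lc_e_rc_18_1 lc_e_rc_27_1 lc_e_rc_16_3 lc_e_rc_19_4 lc_e_rc_13_3 lc_e_rc_13_3 lc_e_rc_18_1 lc_e_Cert_tree lc_e_rc_18_1 lc_e_rc_18_1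 lc_e_rc_27_7 lc_e_rc_27_5 lc_e_rc_16_1 lc_e_rc_19_4 lc_e_rc_13_3 lc_e_rc_9_3 lc_e_rc_13_3 lc_e_Cert_tree lc_e_rc_4_3 lc_e_Cert_tree lc_e_Cert_tree lc_e_rc_9_1 lc_e_rc_18_1 lc_e_rc_18_1 lc_e_rc_16_1 lc_e_rc_19_4 lc_e_rc_9_1 lc_e_Cert_tree lc_e_Cert_tree lc_e_Cert_tree lc_e_Cert_tree lc_e_rc_18_1 lc_e_rc_18_1 lc_e_rc_16_1 lc_e_rc_18_1 lc_e_Cert_tree lc_e_Cert_tree lc_e_Cert_tree lc_e_Cert_tree lc_e_Cert_tree lc_e_rc_18_1 lc_e_Cert_tree lc_e_Cert_tree lc_e_Cert_tree lc_e_Cert_tree lc_e_rc_18_1 lc_e_Cert_tree lc_e_Cert_tree lc_e_Cert_tree lc_e_Cert_tree lc_e_rc_18_1 lc_e_rc_18_1 lc_e_Cert_tree lc_e_rc_18_1 lc_e_Cert_tree lc_e_rc_18_1 lc_e_Cert_tree lc_e_Cert_tree lc_e_rc_19_4 lc_e_rc_18_1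 lc_e_rc_13_1) (@D3.rec (fun _ => (Cert rels S Gen.e)) lc_e_rc_16_3 lc_e_rc_13_3 lc_e_rc_16_5 lc_e_rc_27_5 lc_e_rc_9_3 lc_e_Cert_tree lc_e_rc_18_1 lc_e_rc_18_1 lc_e_rc_18_1 lc_e_Cert_tree lc_e_Cert_tree lc_e_rc_16_3 lc_e_rc_19_4 lc_e_Cert_tree lc_e_Cert_tree lc_e_rc_18_1 lc_e_Cert_tree lc_e_Cert_tree lc_e_rc_18_1 lc_e_Cert_tree lc_e_Cert_tree lc_e_rc_13_3 lc_e_Cert_tree lc_e_Cert_tree lc_e_Cert_tree lc_e_rc_18_1 lc_e_rc_27_1 lc_e_rc_18_1 lc_e_rc_18_1 lc_e_rc_18_1 lc_e_Cert_tree lc_e_Cert_tree lc_e_rc_18_1 lc_e_rc_18_1 lc_e_rc_13_3 lc_e_Cert_tree lc_e_Cert_tree lc_e_rc_18_1 lc_e_rc_18_1 lc_e_Cert_tree lc_e_rc_9_3 lc_e_Cert_tree lc_e_Cert_tree lc_e_rc_18_1 lc_e_Cert_tree lc_e_Cert_tree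 lc_e_rc_4_3 lc_e_Cert_tree lc_e_Cert_tree lc_e_rc_18_1 lc_e_rc_18_1 lc_e_rc_18_1 lc_e_rc_27_7 lc_e_Cert_tree lc_e_rc_18_1 lc_e_rc_18_1 lc_e_Cert_tree lc_e_rc_19_4 lc_e_Cert_tree lc_e_rc_9_3 lc_e_Cert_tree lc_e_rc_18_1) (@D3.rec (fun _ => (Cert rels S Gen.e)) lc_e_rc_16_3 lc_e_rc_19_2 lc_e_rc_9_3 lc_e_Cert_tree lc_e_Cert_tree lc_e_rc_18_1 lc_e_rc_16_3 lc_e_Cert_tree lc_e_Cert_tree lc_e_Cert_tree lc_e_Cert_tree lc_e_rc_18_1 lc_e_rc_27_5 lc_e_Cert_tree lc_e_Cert_tree lc_e_rc_18_1 lc_e_Cert_tree lc_e_rc_16_3 lc_e_Cert_tree lc_e_Cert_tree lc_e_rc_18_1 lc_e_Cert_tree lc_e_rc_18_1 lc_e_Cert_tree lc_e_rc_18_1 lc_e_Cert_tree lc_e_Cert_tree lc_e_Cert_tree lc_e_rc_18_1 lc_e_rc_16_3 lc_e_Cert_tree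 lc_e_rc_18_1 lc_e_Cert_tree lc_e_rc_18_1 lc_e_rc_18_1 lc_e_Cert_tree lc_e_rc_19_4 lc_e_Cert_tree lc_e_rc_18_1 lc_e_Cert_tree lc_e_rc_18_1 lc_e_Cert_tree lc_e_rc_18_1 lc_e_rc_13_3 lc_e_Cert_tree lc_e_Cert_tree lc_e_Cert_tree lc_e_rc_18_1 lc_e_Cert_tree lc_e_Cert_tree lc_e_rc_19_4 lc_e_rc_18_1 lc_e_Cert_tree lc_e_rc_18_1 lc_e_rc_18_1 lc_e_rc_16_3 lc_e_rc_19_4 lc_e_Cert_tree lc_e_Cert_tree lc_e_Cert_tree lc_e_rc_18_1 lc_e_rc_16_3) (@D3.rec (fun _ => (Cert rels S Gen.e)) lc_e_rc_19_4 lc_e_Cert_tree lc_e_Cert_tree lc_e_Cert_tree lc_e_rc_18_1 lc_e_Cert_tree lc_e_rc_27_5 lc_e_rc_18_1 lc_e_rc_27_5 lc_e_Cert_tree lc_e_Cert_tree lc_e_Cert_tree lc_e_rc_18_1 lc_e_rc_18_1 lc_e_rc_16_1 lc_e_Cert_tree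 lc_e_Cert_tree lc_e_Cert_tree lc_e_Cert_tree lc_e_rc_18_1 lc_e_rc_18_1 lc_e_rc_16_1 lc_e_Cert_tree lc_e_Cert_tree lc_e_rc_13_3 lc_e_Cert_tree lc_e_rc_18_1 lc_e_Cert_tree lc_e_Cert_tree lc_e_Cert_tree lc_e_rc_18_1 lc_e_rc_9_3 lc_e_rc_13_3 lc_e_Cert_tree lc_e_Cert_tree lc_e_rc_18_1 lc_e_Cert_tree lc_e_Cert_tree lc_e_Cert_tree lc_e_rc_18_1 lc_e_rc_27_5 lc_e_rc_13_3 lc_e_rc_16_1 lc_e_rc_19_4 lc_e_Cert_tree lc_e_rc_18_1 lc_e_Cert_tree lc_e_Cert_tree lc_e_rc_16_1 lc_e_rc_18_1 lc_e_rc_18_1 lc_e_Cert_tree lc_e_rc_9_3 lc_e_Cert_tree lc_e_Cert_tree lc_e_rc_13_3 lc_e_Cert_tree lc_e_rc_27_1 lc_e_rc_9_3 lc_e_Cert_tree lc_e_rc_13_3 lc_e_Cert_tree) (@D3.rec (fun _ => (Cert rels S Gen.e)) lc_e_rc_4_3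 lc_e_Cert_tree lc_e_Cert_tree lc_e_rc_18_1 lc_e_rc_18_1 lc_e_rc_18_1 lc_e_rc_9_3 lc_e_Cert_tree lc_e_rc_4_1 lc_e_rc_18_1 lc_e_rc_16_3 lc_e_rc_18_1 lc_e_rc_13_3 lc_e_rc_16_5 lc_e_rc_13_3 lc_e_rc_18_1 lc_e_rc_27_5 lc_e_rc_18_1 lc_e_rc_27_7 lc_e_rc_13_3 lc_e_Cert_tree lc_e_Cert_tree lc_e_Cert_tree lc_e_Cert_tree lc_e_rc_18_1 lc_e_rc_18_1 lc_e_rc_18_1 lc_e_Cert_tree lc_e_rc_4_3 lc_e_rc_27_5 lc_e_rc_18_1 lc_e_rc_9_3 lc_e_rc_9_3 lc_e_rc_16_1 lc_e_rc_18_1 lc_e_rc_9_3 lc_e_Cert_tree lc_e_rc_16_1 lc_e_rc_19_4 lc_e_rc_9_3 lc_e_Cert_tree lc_e_rc_9_3 lc_e_rc_16_5 lc_e_rc_13_3 lc_e_Cert_tree lc_e_Cert_tree lc_e_rc_13_3 lc_e_rc_4_3 lc_e_Cert_tree lc_e_Cert_tree lc_e_rc_18_1 lc_e_rc_27_1 lc_e_rc_27_1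 lc_e_Cert_tree lc_e_Cert_tree lc_e_Cert_tree lc_e_Cert_tree lc_e_rc_18_1 lc_e_Cert_tree lc_e_rc_18_1 lc_e_Cert_tree lc_e_rc_18_1) (@D3.rec (fun _ => (Cert rels S Gen.e)) lc_e_Cert_tree lc_e_Cert_tree lc_e_rc_27_5 lc_e_rc_18_1 lc_e_rc_27_7 lc_e_rc_13_3 lc_e_Cert_tree lc_e_Cert_tree lc_e_rc_18_1 lc_e_Cert_tree lc_e_rc_9_1 lc_e_rc_9_3 lc_e_rc_9_3 lc_e_rc_27_5 lc_e_rc_18_1 lc_e_Cert_tree lc_e_Cert_tree lc_e_Cert_tree lc_e_rc_18_1 lc_e_rc_27_1 lc_e_Cert_tree lc_e_Cert_tree lc_e_Cert_tree lc_e_Cert_tree lc_e_Cert_tree lc_e_rc_18_1 lc_e_Cert_tree lc_e_Cert_tree lc_e_rc_19_4 lc_e_rc_27_1 lc_e_Cert_tree lc_e_Cert_tree lc_e_Cert_tree lc_e_rc_18_1 lc_e_rc_16_3 lc_e_rc_18_1 lc_e_Cert_tree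 lc_e_Cert_tree lc_e_rc_13_3 lc_e_Cert_tree lc_e_Cert_tree lc_e_Cert_tree lc_e_Cert_tree lc_e_rc_19_4 lc_e_rc_4_3 lc_e_Cert_tree lc_e_rc_18_1 lc_e_rc_9_3 lc_e_rc_27_1 lc_e_rc_4_3 lc_e_Cert_tree lc_e_Cert_tree lc_e_Cert_tree lc_e_rc_9_3 lc_e_Cert_tree lc_e_Cert_tree lc_e_Cert_tree lc_e_rc_18_1 lc_e_rc_18_1 lc_e_rc_27_1 lc_e_rc_13_1 lc_e_rc_16_3) (@D3.rec (fun _ => (Cert rels S Gen.e)) lc_e_rc_18_1 lc_e_Cert_tree lc_e_rc_18_1 lc_e_Cert_tree lc_e_rc_18_1 lc_e_rc_18_1 lc_e_rc_13_3 lc_e_Cert_tree lc_e_Cert_tree lc_e_Cert_tree lc_e_rc_18_1 lc_e_Cert_tree lc_e_Cert_tree lc_e_rc_18_1 lc_e_Cert_tree lc_e_Cert_tree lc_e_rc_18_1 lc_e_Cert_tree lc_e_Cert_tree lc_e_Cert_tree lc_e_Cert_tree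 lc_e_rc_18_1 lc_e_Cert_tree lc_e_rc_16_1 lc_e_Cert_tree lc_e_Cert_tree lc_e_rc_18_1 lc_e_rc_18_1 lc_e_rc_19_2 lc_e_rc_16_3 lc_e_Cert_tree lc_e_Cert_tree lc_e_rc_18_1 lc_e_Cert_tree lc_e_Cert_tree lc_e_rc_16_3 lc_e_rc_19_4 lc_e_Cert_tree lc_e_Cert_tree lc_e_rc_18_1 lc_e_rc_18_1 lc_e_Cert_tree lc_e_rc_16_3 lc_e_rc_18_1 lc_e_Cert_tree lc_e_Cert_tree lc_e_Cert_tree lc_e_rc_18_1 lc_e_Cert_tree lc_e_Cert_tree lc_e_rc_16_3 lc_e_rc_19_4 lc_e_Cert_tree lc_e_Cert_tree lc_e_Cert_tree lc_e_rc_18_1 lc_e_Cert_tree lc_e_Cert_tree lc_e_rc_27_5 lc_e_rc_18_1 lc_e_rc_18_1 lc_e_Cert_tree) (@D3.rec (fun _ => (Cert rels S Gen.e)) lc_e_rc_27_1 lc_e_rc_16_3 lc_e_rc_9_3 lc_e_rc_16_5 lc_e_rc_9_3 lc_e_Cert_tree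 lc_e_Cert_tree lc_e_rc_13_3 lc_e_rc_27_5 lc_e_rc_9_1 lc_e_rc_9_1 lc_e_Cert_tree lc_e_rc_18_1 lc_e_rc_27_5 lc_e_rc_27_7 lc_e_Cert_tree lc_e_rc_18_1 lc_e_rc_16_3 lc_e_rc_9_3 lc_e_Cert_tree lc_e_rc_27_5 lc_e_Cert_tree lc_e_Cert_tree lc_e_Cert_tree lc_e_Cert_tree lc_e_rc_18_1 lc_e_Cert_tree lc_e_Cert_tree lc_e_Cert_tree lc_e_Cert_tree lc_e_rc_18_1 lc_e_Cert_tree lc_e_rc_18_1 lc_e_Cert_tree lc_e_rc_18_1 lc_e_Cert_tree lc_e_Cert_tree lc_e_Cert_tree lc_e_rc_18_1 lc_e_Cert_tree lc_e_Cert_tree lc_e_rc_18_1 lc_e_Cert_tree lc_e_Cert_tree lc_e_rc_18_1 lc_e_Cert_tree lc_e_Cert_tree lc_e_Cert_tree lc_e_Cert_tree lc_e_rc_18_1 lc_e_Cert_tree lc_e_rc_27_5 lc_e_rc_19_4 lc_e_Cert_tree lc_e_rc_18_1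 lc_e_rc_9_3 lc_e_rc_18_1 lc_e_rc_13_3 lc_e_rc_13_3 lc_e_rc_27_5 lc_e_rc_19_2 lc_e_rc_27_5) (@D3.rec (fun _ => (Cert rels S Gen.e)) lc_e_rc_16_3 lc_e_Cert_tree lc_e_rc_13_1 lc_e_rc_18_1 lc_e_rc_18_1 lc_e_rc_16_3 lc_e_rc_18_1 lc_e_rc_9_3 lc_e_rc_9_1 lc_e_Cert_tree lc_e_Cert_tree lc_e_rc_9_3 lc_e_rc_9_3 lc_e_rc_13_1 lc_e_Cert_tree lc_e_rc_18_1 lc_e_rc_18_1 lc_e_rc_27_1 lc_e_Cert_tree lc_e_rc_4_1 lc_e_Cert_tree lc_e_rc_18_1 lc_e_rc_16_3 lc_e_rc_18_1 lc_e_Cert_tree lc_e_rc_18_1 lc_e_rc_4_3 lc_e_Cert_tree lc_e_rc_18_1 lc_e_Cert_tree lc_e_Cert_tree lc_e_rc_18_1 lc_e_Cert_tree lc_e_Cert_tree lc_e_rc_18_1 lc_e_Cert_tree lc_e_Cert_tree lc_e_Cert_tree lc_e_rc_18_1 lc_e_Cert_tree lc_e_Cert_tree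 lc_e_rc_19_4 lc_e_rc_9_3 lc_e_rc_13_3 lc_e_rc_16_3 lc_e_Cert_tree lc_e_rc_13_3 lc_e_rc_18_1 lc_e_Cert_tree lc_e_rc_18_1 lc_e_rc_13_1 lc_e_Cert_tree lc_e_rc_18_1 lc_e_Cert_tree lc_e_Cert_tree lc_e_rc_18_1 lc_e_rc_18_1 lc_e_Cert_tree lc_e_Cert_tree lc_e_rc_18_1 lc_e_rc_13_3 lc_e_Cert_tree) (@D3.rec (fun _ => (Cert rels S Gen.e)) lc_e_rc_27_1 lc_e_Cert_tree lc_e_Cert_tree lc_e_rc_18_1 lc_e_rc_18_1 lc_e_rc_13_1 lc_e_rc_16_1 lc_e_rc_27_5 lc_e_Cert_tree lc_e_rc_18_1 lc_e_rc_9_1 lc_e_Cert_tree lc_e_rc_18_1 lc_e_rc_16_3 lc_e_Cert_tree lc_e_rc_18_1 lc_e_Cert_tree lc_e_Cert_tree lc_e_rc_18_1 lc_e_Cert_tree lc_e_Cert_tree lc_e_rc_18_1 lc_e_Cert_tree lc_e_Cert_tree lc_e_Cert_tree lc_e_Cert_tree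 lc_e_rc_18_1 lc_e_Cert_tree lc_e_Cert_tree lc_e_Cert_tree lc_e_Cert_tree lc_e_rc_18_1 lc_e_rc_18_1 lc_e_rc_16_1 lc_e_Cert_tree lc_e_rc_18_1 lc_e_rc_18_1 lc_e_rc_9_3 lc_e_rc_19_4 lc_e_Cert_tree lc_e_rc_18_1 lc_e_rc_19_2 lc_e_rc_18_1 lc_e_Cert_tree lc_e_rc_4_3 lc_e_rc_27_7 lc_e_rc_18_1 lc_e_rc_18_1 lc_e_rc_9_1 lc_e_Cert_tree lc_e_Cert_tree lc_e_rc_18_1 lc_e_rc_4_3 lc_e_rc_18_1 lc_e_rc_4_1 lc_e_rc_19_2 lc_e_Cert_tree lc_e_Cert_tree lc_e_Cert_tree lc_e_rc_18_1 lc_e_Cert_tree lc_e_Cert_tree) (@D3.rec (fun _ => (Cert rels S Gen.e)) lc_e_rc_18_1 lc_e_Cert_tree lc_e_rc_18_1 lc_e_rc_19_4 lc_e_rc_16_1 lc_e_rc_13_3 lc_e_rc_16_3 lc_e_Cert_tree lc_e_Cert_tree lc_e_Cert_tree lc_e_rc_18_1 lc_e_Cert_tree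 lc_e_rc_18_1 lc_e_rc_9_3 lc_e_rc_9_3 lc_e_rc_16_1 lc_e_rc_19_4 lc_e_Cert_tree lc_e_Cert_tree lc_e_rc_18_1 lc_e_Cert_tree lc_e_Cert_tree lc_e_rc_18_1 lc_e_Cert_tree lc_e_Cert_tree lc_e_Cert_tree lc_e_rc_18_1 lc_e_Cert_tree lc_e_Cert_tree lc_e_rc_16_1 lc_e_rc_4_3 lc_e_rc_9_3 lc_e_rc_27_5 lc_e_rc_13_3 lc_e_rc_9_3 lc_e_rc_27_7 lc_e_Cert_tree lc_e_rc_13_3 lc_e_Cert_tree lc_e_rc_9_3 lc_e_rc_27_1 lc_e_Cert_tree lc_e_rc_19_4 lc_e_rc_18_1 lc_e_rc_4_3 lc_e_rc_4_1 lc_e_rc_9_3 lc_e_rc_13_3 lc_e_rc_4_3 lc_e_rc_9_3 lc_e_rc_9_3 lc_e_rc_13_1 lc_e_rc_18_1 lc_e_rc_9_3 lc_e_Cert_tree lc_e_rc_9_3 lc_e_rc_4_3 lc_e_rc_27_7 lc_e_rc_9_3 lc_e_rc_13_3 lc_e_Cert_tree lc_e_Cert_tree) (@D3.rec (fun _ => (Cert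 rels S Gen.e)) lc_e_Cert_tree lc_e_Cert_tree lc_e_rc_18_1 lc_e_rc_18_1 lc_e_Cert_tree lc_e_Cert_tree lc_e_rc_18_1 lc_e_Cert_tree lc_e_rc_18_1 lc_e_Cert_tree lc_e_rc_18_1 lc_e_rc_19_2 lc_e_Cert_tree lc_e_rc_18_1 lc_e_rc_16_1 lc_e_Cert_tree lc_e_Cert_tree lc_e_rc_18_1 lc_e_Cert_tree lc_e_Cert_tree lc_e_rc_18_1 lc_e_Cert_tree lc_e_Cert_tree lc_e_Cert_tree lc_e_rc_18_1 lc_e_rc_27_5 lc_e_Cert_tree lc_e_rc_16_1 lc_e_rc_18_1 lc_e_rc_13_3 lc_e_rc_9_3 lc_e_rc_27_7 lc_e_rc_13_3 lc_e_Cert_tree lc_e_rc_9_3 lc_e_Cert_tree lc_e_rc_18_1 lc_e_rc_4_3 lc_e_rc_13_3 lc_e_rc_16_3 lc_e_rc_9_3 lc_e_rc_18_1 lc_e_rc_18_1 lc_e_Cert_tree lc_e_Cert_tree lc_e_rc_18_1 lc_e_rc_16_3 lc_e_rc_16_3 lc_e_Cert_tree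 lc_e_Cert_tree lc_e_rc_18_1 lc_e_Cert_tree lc_e_Cert_tree lc_e_Cert_tree lc_e_rc_18_1 lc_e_Cert_tree lc_e_Cert_tree lc_e_rc_9_3 lc_e_Cert_tree lc_e_rc_18_1 lc_e_rc_9_3 lc_e_Cert_tree) (@D3.rec (fun _ => (Cert rels S Gen.e)) lc_e_Cert_tree lc_e_Cert_tree lc_e_rc_18_1 lc_e_Cert_tree lc_e_Cert_tree lc_e_Cert_tree lc_e_rc_18_1 lc_e_Cert_tree lc_e_Cert_tree lc_e_rc_13_3 lc_e_rc_18_1 lc_e_rc_13_1 lc_e_rc_9_3 lc_e_Cert_tree lc_e_rc_18_1 lc_e_rc_9_3 lc_e_Cert_tree lc_e_rc_18_1 lc_e_Cert_tree lc_e_rc_18_1 lc_e_rc_16_1 lc_e_rc_27_1 lc_e_Cert_tree lc_e_Cert_tree lc_e_Cert_tree lc_e_rc_18_1 lc_e_Cert_tree lc_e_rc_18_1 lc_e_Cert_tree lc_e_rc_18_1 lc_e_Cert_tree lc_e_Cert_tree lc_e_rc_18_1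 lc_e_Cert_tree lc_e_Cert_tree lc_e_Cert_tree lc_e_rc_18_1 lc_e_Cert_tree lc_e_Cert_tree lc_e_rc_9_3 lc_e_Cert_tree lc_e_rc_27_1 lc_e_rc_18_1 lc_e_Cert_tree lc_e_rc_18_1 lc_e_rc_9_1 lc_e_Cert_tree lc_e_Cert_tree lc_e_Cert_tree lc_e_rc_18_1 lc_e_Cert_tree lc_e_Cert_tree lc_e_rc_18_1 lc_e_rc_27_5 lc_e_rc_18_1 lc_e_Cert_tree lc_e_rc_18_1 lc_e_rc_13_3 lc_e_rc_16_1 lc_e_rc_16_3 lc_e_rc_18_1 lc_e_Cert_tree) (@D3.rec (fun _ => (Cert rels S Gen.e)) lc_e_rc_18_1 lc_e_rc_27_1 lc_e_Cert_tree lc_e_Cert_tree lc_e_Cert_tree lc_e_rc_18_1 lc_e_Cert_tree lc_e_Cert_tree lc_e_Cert_tree lc_e_rc_18_1 lc_e_rc_18_1 lc_e_rc_18_1 lc_e_rc_27_1 lc_e_Cert_tree lc_e_rc_18_1 lc_e_Cert_tree lc_e_Cert_tree lc_e_rc_18_1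 lc_e_Cert_tree lc_e_Cert_tree lc_e_Cert_tree lc_e_rc_18_1 lc_e_Cert_tree lc_e_Cert_tree lc_e_rc_9_3 lc_e_rc_9_1 lc_e_Cert_tree lc_e_rc_18_1 lc_e_Cert_tree lc_e_rc_18_1 lc_e_rc_16_1 lc_e_Cert_tree lc_e_Cert_tree lc_e_Cert_tree lc_e_rc_9_3 lc_e_Cert_tree lc_e_Cert_tree lc_e_Cert_tree lc_e_rc_18_1 lc_e_rc_18_1 lc_e_Cert_tree lc_e_rc_18_1 lc_e_Cert_tree lc_e_Cert_tree lc_e_Cert_tree lc_e_Cert_tree lc_e_Cert_tree lc_e_Cert_tree lc_e_rc_18_1 lc_e_rc_16_3 lc_e_rc_18_1 lc_e_Cert_tree lc_e_Cert_tree lc_e_Cert_tree lc_e_Cert_tree lc_e_rc_18_1 lc_e_Cert_tree lc_e_rc_4_3 lc_e_Cert_tree lc_e_rc_18_1 lc_e_Cert_tree lc_e_rc_18_1) (@D3.rec (fun _ => (Cert rels S Gen.e)) lc_e_rc_16_3 lc_e_rc_18_1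 lc_e_Cert_tree lc_e_rc_18_1 lc_e_Cert_tree lc_e_rc_18_1 lc_e_rc_9_3 lc_e_Cert_tree lc_e_Cert_tree lc_e_rc_18_1 lc_e_Cert_tree lc_e_Cert_tree lc_e_Cert_tree lc_e_rc_18_1 lc_e_Cert_tree lc_e_Cert_tree lc_e_rc_18_1 lc_e_Cert_tree lc_e_Cert_tree lc_e_Cert_tree lc_e_Cert_tree lc_e_rc_18_1 lc_e_rc_18_1 lc_e_Cert_tree lc_e_rc_19_4 lc_e_Cert_tree lc_e_Cert_tree lc_e_rc_18_1 lc_e_Cert_tree lc_e_Cert_tree lc_e_Cert_tree lc_e_Cert_tree lc_e_rc_18_1 lc_e_Cert_tree lc_e_Cert_tree lc_e_rc_27_5 lc_e_Cert_tree lc_e_Cert_tree lc_e_rc_18_1 lc_e_Cert_tree lc_e_Cert_tree lc_e_rc_18_1 lc_e_Cert_tree lc_e_rc_16_3 lc_e_rc_27_5 lc_e_Cert_tree lc_e_Cert_tree lc_e_Cert_tree lc_e_rc_18_1 lc_e_Cert_tree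 lc_e_Cert_tree lc_e_Cert_tree lc_e_rc_18_1 lc_e_Cert_tree lc_e_Cert_tree lc_e_Cert_tree lc_e_rc_18_1 lc_e_Cert_tree lc_e_Cert_tree lc_e_Cert_tree lc_e_rc_18_1 lc_e_Cert_tree) (@D3.rec (fun _ => (Cert rels S Gen.e)) lc_e_Cert_tree lc_e_Cert_tree lc_e_rc_16_1 lc_e_Cert_tree lc_e_rc_18_1 lc_e_Cert_tree lc_e_Cert_tree lc_e_Cert_tree lc_e_rc_18_1 lc_e_Cert_tree lc_e_Cert_tree lc_e_rc_27_7 lc_e_rc_18_1 lc_e_rc_18_1 lc_e_Cert_tree lc_e_rc_16_5 lc_e_rc_16_3 lc_e_rc_13_1 lc_e_rc_13_3 lc_e_rc_13_3 lc_e_rc_13_3 lc_e_Cert_tree lc_e_rc_13_3 lc_e_Cert_tree lc_e_rc_18_1 lc_e_Cert_tree lc_e_Cert_tree lc_e_Cert_tree lc_e_rc_18_1 lc_e_Cert_tree lc_e_Cert_tree lc_e_rc_13_3 lc_e_rc_9_3 lc_e_rc_19_4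 lc_e_rc_4_3 lc_e_rc_18_1 lc_e_Cert_tree lc_e_rc_18_1 lc_e_Cert_tree lc_e_Cert_tree lc_e_Cert_tree lc_e_rc_18_1 lc_e_rc_9_3 lc_e_Cert_tree lc_e_rc_16_3 lc_e_rc_19_4 lc_e_rc_9_1 lc_e_rc_18_1 lc_e_rc_19_4 lc_e_rc_16_3 lc_e_rc_27_1 lc_e_Cert_tree lc_e_rc_18_1 lc_e_Cert_tree lc_e_Cert_tree lc_e_rc_18_1 lc_e_rc_18_1 lc_e_Cert_tree lc_e_rc_16_5 lc_e_rc_16_3 lc_e_rc_19_4 lc_e_rc_18_1) (@D3.rec (fun _ => (Cert rels S Gen.e)) lc_e_rc_18_1 lc_e_rc_19_4 lc_e_rc_4_3 lc_e_rc_27_5 lc_e_rc_4_3 lc_e_Cert_tree lc_e_Cert_tree lc_e_rc_9_3 lc_e_rc_18_1 lc_e_rc_9_3 lc_e_rc_19_0 lc_e_Cert_tree lc_e_Cert_tree lc_e_rc_18_1 lc_e_rc_16_5 lc_e_rc_27_7 lc_e_rc_19_0 lc_e_Cert_tree lc_e_rc_18_1 lc_e_rc_9_3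 lc_e_rc_18_1 lc_e_Cert_tree lc_e_Cert_tree lc_e_rc_16_1 lc_e_rc_19_4 lc_e_Cert_tree lc_e_Cert_tree lc_e_rc_18_1 lc_e_Cert_tree lc_e_rc_13_3 lc_e_rc_19_4 lc_e_Cert_tree lc_e_rc_18_1 lc_e_rc_13_3 lc_e_Cert_tree lc_e_rc_9_3 lc_e_Cert_tree lc_e_Cert_tree lc_e_rc_18_1 lc_e_rc_18_1 lc_e_rc_18_1 lc_e_Cert_tree lc_e_Cert_tree lc_e_rc_16_3 lc_e_rc_19_4 lc_e_Cert_tree lc_e_Cert_tree lc_e_rc_13_3 lc_e_Cert_tree lc_e_Cert_tree lc_e_rc_18_1 lc_e_rc_27_1 lc_e_rc_9_1 lc_e_rc_18_1 lc_e_rc_27_5 lc_e_rc_18_1 lc_e_Cert_tree lc_e_rc_18_1 lc_e_rc_9_3 lc_e_Cert_tree lc_e_rc_19_4 lc_e_Cert_tree) (@D3.rec (fun _ => (Cert rels S Gen.e)) lc_e_Cert_tree lc_e_rc_4_3 lc_e_Cert_tree lc_e_rc_18_1 lc_e_rc_18_1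 lc_e_rc_9_1 lc_e_rc_4_1 lc_e_Cert_tree lc_e_rc_18_1 lc_e_Cert_tree lc_e_rc_13_3 lc_e_rc_19_4 lc_e_rc_9_3 lc_e_Cert_tree lc_e_rc_16_3 lc_e_rc_19_4 lc_e_rc_9_1 lc_e_rc_18_1 lc_e_Cert_tree lc_e_rc_13_3 lc_e_Cert_tree lc_e_Cert_tree lc_e_rc_18_1 lc_e_rc_18_1 lc_e_rc_9_3 lc_e_Cert_tree lc_e_Cert_tree lc_e_rc_18_1 lc_e_rc_18_1 lc_e_rc_18_1 lc_e_rc_16_1 lc_e_rc_13_3 lc_e_rc_27_7 lc_e_rc_18_1 lc_e_rc_9_3 lc_e_rc_18_1 lc_e_Cert_tree lc_e_Cert_tree lc_e_rc_18_1 lc_e_Cert_tree lc_e_rc_18_1 lc_e_rc_18_1 lc_e_rc_9_3 lc_e_Cert_tree lc_e_rc_4_1 lc_e_rc_19_4 lc_e_rc_13_1 lc_e_Cert_tree lc_e_rc_16_3 lc_e_rc_19_4 lc_e_Cert_tree lc_e_Cert_tree lc_e_rc_18_1 lc_e_Cert_tree lc_e_rc_27_5 lc_e_rc_18_1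 lc_e_rc_9_3 lc_e_Cert_tree lc_e_rc_13_3 lc_e_Cert_tree lc_e_rc_16_3 lc_e_rc_19_4) (@D3.rec (fun _ => (Cert rels S Gen.e)) lc_e_rc_18_1 lc_e_rc_16_1 lc_e_rc_19_4 lc_e_Cert_tree lc_e_rc_16_3 lc_e_rc_13_3 lc_e_Cert_tree lc_e_Cert_tree lc_e_rc_16_1 lc_e_rc_19_4 lc_e_Cert_tree lc_e_Cert_tree lc_e_rc_18_1 lc_e_Cert_tree lc_e_Cert_tree lc_e_rc_18_1 lc_e_Cert_tree lc_e_Cert_tree lc_e_rc_13_3 lc_e_Cert_tree lc_e_Cert_tree lc_e_rc_18_1 lc_e_rc_27_1 lc_e_Cert_tree lc_e_rc_18_1 lc_e_rc_18_1 lc_e_rc_16_1 lc_e_rc_19_4 lc_e_Cert_tree lc_e_Cert_tree lc_e_rc_18_1 lc_e_rc_27_5 lc_e_rc_27_1 lc_e_rc_18_1 lc_e_rc_19_4 lc_e_Cert_tree lc_e_rc_18_1 lc_e_rc_27_7 lc_e_rc_18_1 lc_e_rc_18_1 lc_e_Cert_tree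 lc_e_rc_4_1 lc_e_rc_9_3 lc_e_Cert_tree lc_e_Cert_tree lc_e_rc_18_1 lc_e_rc_18_1 lc_e_rc_18_1 lc_e_Cert_tree lc_e_Cert_tree lc_e_rc_16_3 lc_e_rc_19_4 lc_e_Cert_tree lc_e_Cert_tree lc_e_rc_13_3 lc_e_Cert_tree lc_e_Cert_tree lc_e_rc_18_1 lc_e_rc_18_1 lc_e_rc_18_1 lc_e_Cert_tree lc_e_rc_18_1) (@D3.rec (fun _ => (Cert rels S Gen.e)) lc_e_rc_27_7 lc_e_rc_18_1 lc_e_rc_9_3 lc_e_rc_13_3 lc_e_Cert_tree lc_e_rc_18_1 lc_e_rc_9_3 lc_e_Cert_tree lc_e_rc_19_4 lc_e_Cert_tree lc_e_Cert_tree lc_e_rc_18_1 lc_e_rc_18_1 lc_e_rc_18_1 lc_e_Cert_tree lc_e_Cert_tree lc_e_rc_16_3 lc_e_rc_19_4 lc_e_rc_9_3 lc_e_Cert_tree lc_e_Cert_tree lc_e_Cert_tree lc_e_rc_18_1 lc_e_Cert_tree lc_e_rc_13_3 lc_e_Cert_tree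 lc_e_rc_18_1 lc_e_rc_18_1 lc_e_Cert_tree lc_e_rc_18_1 lc_e_rc_27_5 lc_e_rc_18_1 lc_e_rc_18_1 lc_e_rc_9_3 lc_e_Cert_tree lc_e_rc_27_7 lc_e_rc_18_1 lc_e_Cert_tree lc_e_rc_18_1 lc_e_Cert_tree lc_e_rc_16_3 lc_e_rc_19_4 lc_e_rc_18_1 lc_e_rc_18_1 lc_e_Cert_tree lc_e_rc_16_3 lc_e_rc_19_4 lc_e_Cert_tree lc_e_Cert_tree lc_e_rc_16_3 lc_e_rc_4_3 lc_e_Cert_tree lc_e_Cert_tree lc_e_Cert_tree lc_e_rc_18_1 lc_e_Cert_tree lc_e_Cert_tree lc_e_Cert_tree lc_e_rc_18_1 lc_e_Cert_tree lc_e_Cert_tree lc_e_rc_13_3) (@D3.rec (fun _ => (Cert rels S Gen.e)) lc_e_Cert_tree lc_e_rc_13_3 lc_e_Cert_tree lc_e_Cert_tree lc_e_Cert_tree lc_e_rc_18_1 lc_e_Cert_tree lc_e_Cert_tree lc_e_rc_18_1 lc_e_rc_18_1 lc_e_rc_9_3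 lc_e_rc_19_0 lc_e_Cert_tree lc_e_Cert_tree lc_e_rc_18_1 lc_e_Cert_tree lc_e_rc_18_1 lc_e_rc_16_1 lc_e_rc_4_1 lc_e_Cert_tree lc_e_Cert_tree lc_e_rc_18_1 lc_e_Cert_tree lc_e_Cert_tree lc_e_rc_18_1 lc_e_Cert_tree lc_e_rc_13_1 lc_e_rc_9_3 lc_e_Cert_tree lc_e_Cert_tree lc_e_rc_18_1 lc_e_rc_27_5 lc_e_Cert_tree lc_e_rc_18_1 lc_e_rc_16_5 lc_e_rc_13_1 lc_e_rc_9_1 lc_e_rc_19_4 lc_e_rc_19_0 lc_e_Cert_tree lc_e_Cert_tree lc_e_rc_18_1 lc_e_Cert_tree lc_e_Cert_tree lc_e_Cert_tree lc_e_rc_18_1 lc_e_rc_18_1 lc_e_rc_19_4 lc_e_rc_16_1 lc_e_rc_9_3 lc_e_rc_9_3 lc_e_rc_16_5 lc_e_rc_9_3 lc_e_Cert_tree lc_e_Cert_tree lc_e_rc_18_1 lc_e_Cert_tree lc_e_rc_18_1 lc_e_rc_27_7 lc_e_rc_19_4 lc_e_rc_9_3 lc_e_Cert_tree)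 (@D3.rec (fun _ => (Cert rels S Gen.e)) lc_e_rc_18_1 lc_e_rc_16_3 lc_e_rc_27_5 lc_e_Cert_tree lc_e_rc_13_3 lc_e_rc_19_4 lc_e_Cert_tree lc_e_rc_18_1 lc_e_Cert_tree lc_e_rc_18_1 lc_e_rc_18_1 lc_e_rc_18_1 lc_e_Cert_tree lc_e_Cert_tree lc_e_rc_16_1 lc_e_rc_13_3 lc_e_rc_9_3 lc_e_rc_16_1 lc_e_rc_19_4 lc_e_Cert_tree lc_e_rc_18_1 lc_e_Cert_tree lc_e_Cert_tree lc_e_rc_13_3 lc_e_Cert_tree lc_e_rc_18_1 lc_e_rc_27_1 lc_e_rc_19_4 lc_e_Cert_tree lc_e_rc_16_3 lc_e_rc_13_3 lc_e_Cert_tree lc_e_rc_18_1 lc_e_Cert_tree lc_e_rc_16_3 lc_e_rc_19_4 lc_e_Cert_tree lc_e_Cert_tree lc_e_rc_16_3 lc_e_rc_4_3 lc_e_Cert_tree lc_e_rc_18_1 lc_e_Cert_tree lc_e_Cert_tree lc_e_Cert_tree lc_e_rc_18_1 lc_e_Cert_tree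 lc_e_Cert_tree lc_e_rc_13_3 lc_e_Cert_tree lc_e_rc_19_0 lc_e_Cert_tree lc_e_Cert_tree lc_e_rc_18_1 lc_e_Cert_tree lc_e_Cert_tree lc_e_Cert_tree lc_e_rc_18_1 lc_e_rc_13_3 lc_e_rc_4_3 lc_e_rc_9_1 lc_e_Cert_tree)
def ce_e_1 : D2 → D3 → (Cert rels S Gen.e) := @D2.rec (fun _ => D3 → (Cert rels S Gen.e)) (@D3.rec (fun _ => (Cert rels S Gen.e)) lc_e_Cert_tree lc_e_rc_18_1 lc_e_Cert_tree lc_e_rc_18_1 lc_e_rc_18_1 lc_e_rc_18_1 lc_e_Cert_tree lc_e_Cert_tree lc_e_rc_18_1 lc_e_Cert_tree lc_e_Cert_tree lc_e_rc_18_1 lc_e_Cert_tree lc_e_Cert_tree lc_e_rc_9_3 lc_e_rc_18_1 lc_e_rc_19_2 lc_e_Cert_tree lc_e_Cert_tree lc_e_rc_18_1 lc_e_Cert_tree lc_e_Cert_tree lc_e_rc_18_1 lc_e_rc_18_1 lc_e_rc_19_4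 lc_e_rc_27_1 lc_e_rc_4_1 lc_e_Cert_tree lc_e_rc_18_1 lc_e_rc_16_5 lc_e_Cert_tree lc_e_rc_18_1 lc_e_rc_18_1 lc_e_rc_27_1 lc_e_rc_18_1 lc_e_rc_19_4 lc_e_rc_19_0 lc_e_Cert_tree lc_e_Cert_tree lc_e_rc_18_1 lc_e_Cert_tree lc_e_rc_18_1 lc_e_rc_16_1 lc_e_rc_19_4 lc_e_rc_18_1 lc_e_rc_13_3 lc_e_rc_18_1 lc_e_rc_16_3 lc_e_rc_13_3 lc_e_rc_13_3 lc_e_rc_27_1 lc_e_rc_9_3 lc_e_rc_13_3 lc_e_rc_19_4 lc_e_rc_18_1 lc_e_Cert_tree lc_e_rc_16_3 lc_e_rc_4_1 lc_e_Cert_tree lc_e_rc_27_5 lc_e_rc_18_1 lc_e_rc_13_3) (@D3.rec (fun _ => (Cert rels S Gen.e)) lc_e_rc_19_4 lc_e_rc_18_1 lc_e_rc_16_1 lc_e_rc_13_3 lc_e_rc_18_1 lc_e_rc_18_1 lc_e_rc_16_1 lc_e_rc_4_3 lc_e_rc_18_1 lc_e_rc_18_1 lc_e_rc_18_1 lc_e_Cert_tree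 lc_e_rc_16_1 lc_e_rc_19_4 lc_e_Cert_tree lc_e_rc_16_1 lc_e_rc_19_4 lc_e_Cert_tree lc_e_rc_18_1 lc_e_Cert_tree lc_e_Cert_tree lc_e_rc_18_1 lc_e_Cert_tree lc_e_Cert_tree lc_e_rc_13_3 lc_e_Cert_tree lc_e_Cert_tree lc_e_Cert_tree lc_e_rc_18_1 lc_e_rc_9_3 lc_e_Cert_tree lc_e_rc_18_1 lc_e_rc_18_1 lc_e_rc_27_1 lc_e_Cert_tree lc_e_Cert_tree lc_e_rc_18_1 lc_e_rc_27_7 lc_e_Cert_tree lc_e_rc_18_1 lc_e_Cert_tree lc_e_rc_18_1 lc_e_Cert_tree lc_e_Cert_tree lc_e_rc_9_3 lc_e_Cert_tree lc_e_Cert_tree lc_e_rc_18_1 lc_e_Cert_tree lc_e_rc_13_3 lc_e_Cert_tree lc_e_Cert_tree lc_e_rc_18_1 lc_e_Cert_tree lc_e_rc_19_4 lc_e_Cert_tree lc_e_Cert_tree lc_e_rc_18_1 lc_e_rc_18_1 lc_e_rc_9_1 lc_e_rc_13_3 lc_e_Cert_tree)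 (@D3.rec (fun _ => (Cert rels S Gen.e)) lc_e_Cert_tree lc_e_Cert_tree lc_e_rc_18_1 lc_e_rc_18_1 lc_e_rc_16_5 lc_e_rc_16_5 lc_e_Cert_tree lc_e_rc_18_1 lc_e_Cert_tree lc_e_Cert_tree lc_e_rc_18_1 lc_e_Cert_tree lc_e_Cert_tree lc_e_rc_4_3 lc_e_Cert_tree lc_e_Cert_tree lc_e_Cert_tree lc_e_Cert_tree lc_e_rc_18_1 lc_e_Cert_tree lc_e_rc_18_1 lc_e_rc_18_1 lc_e_Cert_tree lc_e_rc_18_1 lc_e_Cert_tree lc_e_rc_16_3 lc_e_rc_19_4 lc_e_Cert_tree lc_e_rc_16_3 lc_e_rc_19_4 lc_e_Cert_tree lc_e_rc_16_3 lc_e_rc_19_4 lc_e_Cert_tree lc_e_Cert_tree lc_e_rc_18_1 lc_e_Cert_tree lc_e_rc_18_1 lc_e_Cert_tree lc_e_Cert_tree lc_e_rc_13_3 lc_e_Cert_tree lc_e_Cert_tree lc_e_rc_18_1 lc_e_Cert_tree lc_e_rc_16_5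 lc_e_rc_18_1 lc_e_rc_13_3 lc_e_rc_9_3 lc_e_rc_19_0 lc_e_Cert_tree lc_e_rc_18_1 lc_e_Cert_tree lc_e_rc_18_1 lc_e_Cert_tree lc_e_Cert_tree lc_e_rc_18_1 lc_e_Cert_tree lc_e_Cert_tree lc_e_rc_18_1 lc_e_Cert_tree lc_e_Cert_tree) (@D3.rec (fun _ => (Cert rels S Gen.e)) lc_e_rc_9_3 lc_e_Cert_tree lc_e_Cert_tree lc_e_rc_18_1 lc_e_rc_16_5 lc_e_rc_18_1 lc_e_rc_18_1 lc_e_rc_9_3 lc_e_Cert_tree lc_e_Cert_tree lc_e_rc_18_1 lc_e_rc_19_4 lc_e_rc_13_3 lc_e_rc_27_1 lc_e_rc_27_1 lc_e_rc_13_3 lc_e_Cert_tree lc_e_rc_18_1 lc_e_rc_27_5 lc_e_rc_16_5 lc_e_rc_19_0 lc_e_Cert_tree lc_e_rc_18_1 lc_e_Cert_tree lc_e_rc_18_1 lc_e_rc_9_3 lc_e_Cert_tree lc_e_rc_27_5 lc_e_rc_27_1 lc_e_rc_13_3 lc_e_Cert_tree lc_e_rc_16_5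 lc_e_rc_18_1 lc_e_rc_19_4 lc_e_Cert_tree lc_e_Cert_tree lc_e_rc_18_1 lc_e_rc_16_5 lc_e_rc_19_4 lc_e_Cert_tree lc_e_Cert_tree lc_e_rc_18_1 lc_e_Cert_tree lc_e_Cert_tree lc_e_rc_18_1 lc_e_rc_18_1 lc_e_Cert_tree lc_e_rc_4_3 lc_e_Cert_tree lc_e_Cert_tree lc_e_Cert_tree lc_e_Cert_tree lc_e_Cert_tree lc_e_rc_18_1 lc_e_Cert_tree lc_e_rc_18_1 lc_e_rc_9_1 lc_e_rc_18_1 lc_e_Cert_tree lc_e_rc_4_1 lc_e_Cert_tree lc_e_rc_18_1) (@D3.rec (fun _ => (Cert rels S Gen.e)) lc_e_rc_18_1 lc_e_rc_16_1 lc_e_rc_13_3 lc_e_rc_27_1 lc_e_Cert_tree lc_e_rc_27_5 lc_e_rc_18_1 lc_e_Cert_tree lc_e_rc_18_1 lc_e_rc_9_3 lc_e_Cert_tree lc_e_rc_18_1 lc_e_rc_16_1 lc_e_rc_13_3 lc_e_rc_18_1 lc_e_rc_27_7 lc_e_rc_27_5 lc_e_rc_19_4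 lc_e_Cert_tree lc_e_rc_18_1 lc_e_rc_27_5 lc_e_Cert_tree lc_e_Cert_tree lc_e_Cert_tree lc_e_rc_18_1 lc_e_rc_18_1 lc_e_rc_13_1 lc_e_rc_13_1 lc_e_rc_16_1 lc_e_rc_19_4 lc_e_rc_13_3 lc_e_rc_13_3 lc_e_rc_9_3 lc_e_rc_18_1 lc_e_Cert_tree lc_e_Cert_tree lc_e_rc_18_1 lc_e_rc_18_1 lc_e_rc_16_1 lc_e_rc_19_4 lc_e_rc_27_5 lc_e_Cert_tree lc_e_Cert_tree lc_e_Cert_tree lc_e_Cert_tree lc_e_rc_18_1 lc_e_rc_18_1 lc_e_rc_16_1 lc_e_rc_18_1 lc_e_Cert_tree lc_e_rc_9_3 lc_e_Cert_tree lc_e_Cert_tree lc_e_Cert_tree lc_e_rc_18_1 lc_e_Cert_tree lc_e_rc_13_3 lc_e_Cert_tree lc_e_Cert_tree lc_e_rc_18_1 lc_e_Cert_tree lc_e_Cert_tree) (@D3.rec (fun _ => (Cert rels S Gen.e)) lc_e_Cert_tree lc_e_Cert_tree lc_e_rc_18_1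 lc_e_rc_18_1 lc_e_Cert_tree lc_e_rc_18_1 lc_e_Cert_tree lc_e_rc_18_1 lc_e_Cert_tree lc_e_rc_27_7 lc_e_rc_19_4 lc_e_rc_18_1 lc_e_rc_27_1 lc_e_rc_16_3 lc_e_rc_9_3 lc_e_rc_13_3 lc_e_rc_16_5 lc_e_rc_27_1 lc_e_rc_27_5 lc_e_rc_18_1 lc_e_rc_9_3 lc_e_Cert_tree lc_e_rc_18_1 lc_e_rc_9_3 lc_e_Cert_tree lc_e_rc_19_4 lc_e_Cert_tree lc_e_rc_4_3 lc_e_Cert_tree lc_e_rc_18_1 lc_e_Cert_tree lc_e_rc_18_1 lc_e_Cert_tree lc_e_Cert_tree lc_e_rc_18_1 lc_e_Cert_tree lc_e_rc_16_3 lc_e_Cert_tree lc_e_Cert_tree lc_e_rc_18_1 lc_e_Cert_tree lc_e_rc_18_1 lc_e_Cert_tree lc_e_Cert_tree lc_e_rc_19_4 lc_e_rc_18_1 lc_e_rc_18_1 lc_e_rc_9_3 lc_e_Cert_tree lc_e_Cert_tree lc_e_rc_18_1 lc_e_rc_16_3 lc_e_rc_19_4 lc_e_rc_27_1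 lc_e_rc_18_1 lc_e_Cert_tree lc_e_rc_27_5 lc_e_rc_18_1 lc_e_Cert_tree lc_e_rc_27_5 lc_e_rc_4_3 lc_e_rc_9_3) (@D3.rec (fun _ => (Cert rels S Gen.e)) lc_e_rc_18_1 lc_e_Cert_tree lc_e_rc_18_1 lc_e_rc_18_1 lc_e_Cert_tree lc_e_Cert_tree lc_e_rc_18_1 lc_e_rc_27_5 lc_e_rc_13_3 lc_e_rc_16_1 lc_e_rc_19_4 lc_e_rc_18_1 lc_e_rc_27_7 lc_e_rc_16_1 lc_e_rc_19_4 lc_e_rc_16_3 lc_e_rc_9_3 lc_e_Cert_tree lc_e_rc_13_3 lc_e_Cert_tree lc_e_rc_9_3 lc_e_Cert_tree lc_e_rc_18_1 lc_e_Cert_tree lc_e_Cert_tree lc_e_rc_18_1 lc_e_rc_18_1 lc_e_rc_13_3 lc_e_rc_19_4 lc_e_Cert_tree lc_e_Cert_tree lc_e_Cert_tree lc_e_rc_18_1 lc_e_rc_16_3 lc_e_rc_19_4 lc_e_rc_16_5 lc_e_rc_27_5 lc_e_rc_4_1 lc_e_rc_4_1 lc_e_Cert_tree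 lc_e_Cert_tree lc_e_rc_18_1 lc_e_Cert_tree lc_e_rc_18_1 lc_e_Cert_tree lc_e_Cert_tree lc_e_Cert_tree lc_e_rc_18_1 lc_e_rc_9_3 lc_e_rc_16_1 lc_e_rc_19_4 lc_e_rc_18_1 lc_e_Cert_tree lc_e_rc_16_1 lc_e_rc_19_4 lc_e_rc_13_3 lc_e_rc_27_7 lc_e_Cert_tree lc_e_rc_18_1 lc_e_rc_27_5 lc_e_rc_4_3 lc_e_rc_18_1) (@D3.rec (fun _ => (Cert rels S Gen.e)) lc_e_Cert_tree lc_e_Cert_tree lc_e_rc_19_4 lc_e_rc_4_3 lc_e_rc_13_1 lc_e_rc_9_1 lc_e_rc_16_3 lc_e_rc_18_1 lc_e_rc_13_3 lc_e_rc_18_1 lc_e_rc_18_1 lc_e_Cert_tree lc_e_Cert_tree lc_e_rc_18_1 lc_e_rc_27_1 lc_e_Cert_tree lc_e_Cert_tree lc_e_Cert_tree lc_e_Cert_tree lc_e_Cert_tree lc_e_rc_18_1 lc_e_Cert_tree lc_e_Cert_tree lc_e_rc_19_4 lc_e_Cert_tree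 lc_e_Cert_tree lc_e_rc_19_4 lc_e_Cert_tree lc_e_rc_18_1 lc_e_rc_4_3 lc_e_rc_13_3 lc_e_Cert_tree lc_e_Cert_tree lc_e_Cert_tree lc_e_Cert_tree lc_e_Cert_tree lc_e_rc_18_1 lc_e_rc_18_1 lc_e_rc_16_3 lc_e_rc_18_1 lc_e_rc_13_3 lc_e_rc_4_3 lc_e_Cert_tree lc_e_Cert_tree lc_e_Cert_tree lc_e_rc_18_1 lc_e_Cert_tree lc_e_Cert_tree lc_e_rc_18_1 lc_e_rc_4_3 lc_e_Cert_tree lc_e_rc_18_1 lc_e_Cert_tree lc_e_Cert_tree lc_e_Cert_tree lc_e_Cert_tree lc_e_rc_18_1 lc_e_Cert_tree lc_e_Cert_tree lc_e_Cert_tree lc_e_Cert_tree lc_e_rc_18_1) (@D3.rec (fun _ => (Cert rels S Gen.e)) lc_e_rc_18_1 lc_e_rc_19_2 lc_e_rc_16_3 lc_e_Cert_tree lc_e_Cert_tree lc_e_rc_18_1 lc_e_rc_18_1 lc_e_Cert_tree lc_e_rc_16_3 lc_e_rc_13_3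 lc_e_Cert_tree lc_e_Cert_tree lc_e_rc_18_1 lc_e_rc_4_3 lc_e_rc_27_1 lc_e_rc_18_1 lc_e_rc_19_4 lc_e_Cert_tree lc_e_Cert_tree lc_e_Cert_tree lc_e_rc_18_1 lc_e_Cert_tree lc_e_Cert_tree lc_e_rc_16_3 lc_e_rc_19_4 lc_e_rc_9_3 lc_e_rc_13_3 lc_e_rc_16_5 lc_e_Cert_tree lc_e_Cert_tree lc_e_rc_18_1 lc_e_rc_18_1 lc_e_Cert_tree lc_e_rc_9_3 lc_e_rc_16_3 lc_e_Cert_tree lc_e_Cert_tree lc_e_rc_13_3 lc_e_Cert_tree lc_e_rc_18_1 lc_e_Cert_tree lc_e_rc_16_3 lc_e_rc_19_4 lc_e_Cert_tree lc_e_Cert_tree lc_e_rc_16_3 lc_e_rc_19_4 lc_e_Cert_tree lc_e_Cert_tree lc_e_Cert_tree lc_e_rc_18_1 lc_e_Cert_tree lc_e_Cert_tree lc_e_Cert_tree lc_e_rc_18_1 lc_e_Cert_tree lc_e_Cert_tree lc_e_rc_13_3 lc_e_Cert_tree lc_e_Cert_tree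 lc_e_rc_18_1 lc_e_Cert_tree) (@D3.rec (fun _ => (Cert rels S Gen.e)) lc_e_rc_18_1 lc_e_rc_9_3 lc_e_Cert_tree lc_e_Cert_tree lc_e_rc_18_1 lc_e_Cert_tree lc_e_rc_18_1 lc_e_rc_27_1 lc_e_rc_13_3 lc_e_rc_9_3 lc_e_rc_27_1 lc_e_rc_9_3 lc_e_rc_13_3 lc_e_rc_9_3 lc_e_rc_27_1 lc_e_rc_13_1 lc_e_rc_19_4 lc_e_rc_19_4 lc_e_Cert_tree lc_e_Cert_tree lc_e_rc_13_3 lc_e_Cert_tree lc_e_Cert_tree lc_e_rc_18_1 lc_e_Cert_tree lc_e_rc_18_1 lc_e_rc_9_3 lc_e_rc_18_1 lc_e_rc_13_1 lc_e_rc_9_3 lc_e_rc_27_1 lc_e_rc_27_5 lc_e_rc_18_1 lc_e_Cert_tree lc_e_rc_16_1 lc_e_rc_19_4 lc_e_rc_18_1 lc_e_rc_18_1 lc_e_rc_13_1 lc_e_rc_13_1 lc_e_rc_18_1 lc_e_rc_18_1 lc_e_rc_13_1 lc_e_rc_16_3 lc_e_rc_19_4 lc_e_rc_18_1 lc_e_Cert_tree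 lc_e_rc_16_3 lc_e_rc_19_4 lc_e_Cert_tree lc_e_rc_9_1 lc_e_rc_16_3 lc_e_rc_19_4 lc_e_Cert_tree lc_e_Cert_tree lc_e_Cert_tree lc_e_rc_18_1 lc_e_Cert_tree lc_e_Cert_tree lc_e_Cert_tree lc_e_rc_18_1 lc_e_Cert_tree) (@D3.rec (fun _ => (Cert rels S Gen.e)) lc_e_Cert_tree lc_e_rc_13_3 lc_e_Cert_tree lc_e_Cert_tree lc_e_rc_18_1 lc_e_Cert_tree lc_e_rc_18_1 lc_e_rc_9_3 lc_e_Cert_tree lc_e_Cert_tree lc_e_rc_18_1 lc_e_rc_18_1 lc_e_rc_13_1 lc_e_Cert_tree lc_e_rc_18_1 lc_e_rc_27_7 lc_e_rc_18_1 lc_e_rc_9_3 lc_e_Cert_tree lc_e_rc_18_1 lc_e_rc_16_5 lc_e_Cert_tree lc_e_rc_18_1 lc_e_rc_18_1 lc_e_rc_13_1 lc_e_rc_9_3 lc_e_rc_18_1 lc_e_rc_16_5 lc_e_rc_18_1 lc_e_rc_27_5 lc_e_Cert_tree lc_e_rc_18_1 lc_e_rc_4_3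 lc_e_rc_27_5 lc_e_Cert_tree lc_e_rc_4_3 lc_e_Cert_tree lc_e_Cert_tree lc_e_Cert_tree lc_e_rc_18_1 lc_e_Cert_tree lc_e_rc_18_1 lc_e_Cert_tree lc_e_rc_18_1 lc_e_rc_27_5 lc_e_rc_19_4 lc_e_Cert_tree lc_e_Cert_tree lc_e_Cert_tree lc_e_Cert_tree lc_e_Cert_tree lc_e_rc_18_1 lc_e_Cert_tree lc_e_Cert_tree lc_e_Cert_tree lc_e_Cert_tree lc_e_rc_18_1 lc_e_Cert_tree lc_e_Cert_tree lc_e_Cert_tree lc_e_Cert_tree lc_e_rc_18_1) (@D3.rec (fun _ => (Cert rels S Gen.e)) lc_e_Cert_tree lc_e_rc_18_1 lc_e_Cert_tree lc_e_rc_4_3 lc_e_rc_27_5 lc_e_rc_18_1 lc_e_rc_16_3 lc_e_rc_13_3 lc_e_rc_16_5 lc_e_Cert_tree lc_e_rc_27_5 lc_e_rc_18_1 lc_e_rc_18_1 lc_e_rc_16_3 lc_e_rc_18_1 lc_e_rc_16_3 lc_e_rc_18_1 lc_e_rc_27_1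 lc_e_rc_16_3 lc_e_rc_27_5 lc_e_Cert_tree lc_e_Cert_tree lc_e_Cert_tree lc_e_rc_18_1 lc_e_Cert_tree lc_e_Cert_tree lc_e_Cert_tree lc_e_rc_18_1 lc_e_Cert_tree lc_e_Cert_tree lc_e_rc_13_3 lc_e_Cert_tree lc_e_Cert_tree lc_e_Cert_tree lc_e_Cert_tree lc_e_Cert_tree lc_e_rc_18_1 lc_e_rc_19_0 lc_e_Cert_tree lc_e_Cert_tree lc_e_rc_18_1 lc_e_Cert_tree lc_e_rc_18_1 lc_e_rc_16_1 lc_e_Cert_tree lc_e_Cert_tree lc_e_rc_18_1 lc_e_Cert_tree lc_e_Cert_tree lc_e_rc_18_1 lc_e_Cert_tree lc_e_Cert_tree lc_e_rc_9_3 lc_e_Cert_tree lc_e_Cert_tree lc_e_rc_18_1 lc_e_rc_13_1 lc_e_Cert_tree lc_e_rc_16_5 lc_e_rc_18_1 lc_e_rc_13_3 lc_e_Cert_tree) (@D3.rec (fun _ => (Cert rels S Gen.e)) lc_e_Cert_tree lc_e_rc_16_5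 lc_e_Cert_tree lc_e_rc_18_1 lc_e_rc_16_3 lc_e_rc_13_3 lc_e_rc_13_1 lc_e_Cert_tree lc_e_rc_13_3 lc_e_rc_9_3 lc_e_Cert_tree lc_e_Cert_tree lc_e_rc_18_1 lc_e_Cert_tree lc_e_rc_18_1 lc_e_rc_16_1 lc_e_rc_9_3 lc_e_Cert_tree lc_e_rc_13_3 lc_e_Cert_tree lc_e_rc_18_1 lc_e_Cert_tree lc_e_Cert_tree lc_e_rc_18_1 lc_e_Cert_tree lc_e_Cert_tree lc_e_rc_18_1 lc_e_Cert_tree lc_e_Cert_tree lc_e_rc_18_1 lc_e_Cert_tree lc_e_Cert_tree lc_e_rc_18_1 lc_e_Cert_tree lc_e_rc_19_4 lc_e_rc_4_3 lc_e_Cert_tree lc_e_rc_19_4 lc_e_Cert_tree lc_e_Cert_tree lc_e_Cert_tree lc_e_rc_18_1 lc_e_Cert_tree lc_e_rc_27_7 lc_e_rc_27_5 lc_e_rc_9_1 lc_e_rc_18_1 lc_e_rc_16_5 lc_e_Cert_tree lc_e_Cert_tree lc_e_rc_18_1 lc_e_Cert_tree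 lc_e_Cert_tree lc_e_rc_18_1 lc_e_Cert_tree lc_e_Cert_tree lc_e_rc_13_3 lc_e_Cert_tree lc_e_rc_9_1 lc_e_rc_18_1 lc_e_rc_9_1 lc_e_Cert_tree) (@D3.rec (fun _ => (Cert rels S Gen.e)) lc_e_Cert_tree lc_e_rc_18_1 lc_e_Cert_tree lc_e_rc_18_1 lc_e_Cert_tree lc_e_rc_18_1 lc_e_Cert_tree lc_e_rc_18_1 lc_e_rc_16_1 lc_e_Cert_tree lc_e_Cert_tree lc_e_rc_18_1 lc_e_Cert_tree lc_e_Cert_tree lc_e_rc_18_1 lc_e_Cert_tree lc_e_Cert_tree lc_e_rc_9_3 lc_e_Cert_tree lc_e_Cert_tree lc_e_rc_18_1 lc_e_Cert_tree lc_e_Cert_tree lc_e_rc_16_5 lc_e_Cert_tree lc_e_rc_18_1 lc_e_rc_13_3 lc_e_rc_9_3 lc_e_rc_18_1 lc_e_rc_13_3 lc_e_rc_9_3 lc_e_Cert_tree lc_e_Cert_tree lc_e_Cert_tree lc_e_rc_18_1 lc_e_rc_9_3 lc_e_Cert_tree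 lc_e_rc_18_1 lc_e_rc_9_1 lc_e_Cert_tree lc_e_rc_18_1 lc_e_Cert_tree lc_e_rc_18_1 lc_e_rc_16_1 lc_e_rc_9_1 lc_e_Cert_tree lc_e_rc_13_3 lc_e_Cert_tree lc_e_Cert_tree lc_e_rc_18_1 lc_e_Cert_tree lc_e_rc_18_1 lc_e_Cert_tree lc_e_Cert_tree lc_e_rc_18_1 lc_e_Cert_tree lc_e_Cert_tree lc_e_rc_18_1 lc_e_Cert_tree lc_e_Cert_tree lc_e_rc_18_1 lc_e_rc_27_5) (@D3.rec (fun _ => (Cert rels S Gen.e)) lc_e_Cert_tree lc_e_Cert_tree lc_e_Cert_tree lc_e_Cert_tree lc_e_rc_18_1 lc_e_Cert_tree lc_e_rc_18_1 lc_e_rc_16_3 lc_e_rc_18_1 lc_e_rc_18_1 lc_e_rc_16_3 lc_e_rc_18_1 lc_e_rc_27_1 lc_e_rc_16_3 lc_e_rc_4_3 lc_e_Cert_tree lc_e_Cert_tree lc_e_Cert_tree lc_e_rc_18_1 lc_e_Cert_tree lc_e_Cert_tree lc_e_Cert_tree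 lc_e_rc_18_1 lc_e_Cert_tree lc_e_Cert_tree lc_e_rc_13_3 lc_e_Cert_tree lc_e_Cert_tree lc_e_rc_18_1 lc_e_Cert_tree lc_e_rc_18_1 lc_e_rc_9_3 lc_e_Cert_tree lc_e_Cert_tree lc_e_rc_18_1 lc_e_rc_18_1 lc_e_rc_16_3 lc_e_rc_18_1 lc_e_rc_18_1 lc_e_rc_27_1 lc_e_rc_16_3 lc_e_rc_4_3 lc_e_rc_18_1 lc_e_rc_18_1 lc_e_Cert_tree lc_e_Cert_tree lc_e_rc_16_3 lc_e_rc_13_3 lc_e_Cert_tree lc_e_rc_18_1 lc_e_Cert_tree lc_e_Cert_tree lc_e_rc_18_1 lc_e_Cert_tree lc_e_Cert_tree lc_e_rc_13_3 lc_e_Cert_tree lc_e_Cert_tree lc_e_rc_18_1 lc_e_Cert_tree lc_e_rc_18_1 lc_e_rc_9_3) (@D3.rec (fun _ => (Cert rels S Gen.e)) lc_e_Cert_tree lc_e_Cert_tree lc_e_rc_18_1 lc_e_Cert_tree lc_e_Cert_tree lc_e_rc_16_3 lc_e_rc_19_4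 lc_e_Cert_tree lc_e_rc_16_3 lc_e_rc_19_4 lc_e_Cert_tree lc_e_rc_18_1 lc_e_Cert_tree lc_e_rc_13_3 lc_e_Cert_tree lc_e_rc_16_3 lc_e_rc_19_4 lc_e_Cert_tree lc_e_rc_18_1 lc_e_Cert_tree lc_e_rc_13_3 lc_e_Cert_tree lc_e_rc_27_1 lc_e_rc_16_1 lc_e_rc_19_4 lc_e_Cert_tree lc_e_Cert_tree lc_e_rc_18_1 lc_e_Cert_tree lc_e_Cert_tree lc_e_rc_18_1 lc_e_Cert_tree lc_e_Cert_tree lc_e_rc_13_3 lc_e_Cert_tree lc_e_rc_16_3 lc_e_rc_16_3 lc_e_rc_18_1 lc_e_Cert_tree lc_e_rc_16_3 lc_e_rc_19_4 lc_e_Cert_tree lc_e_Cert_tree lc_e_rc_18_1 lc_e_Cert_tree lc_e_rc_18_1 lc_e_Cert_tree lc_e_Cert_tree lc_e_rc_13_3 lc_e_Cert_tree lc_e_rc_4_3 lc_e_Cert_tree lc_e_rc_18_1 lc_e_rc_9_3 lc_e_Cert_tree lc_e_Cert_tree lc_e_rc_18_1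 lc_e_Cert_tree lc_e_Cert_tree lc_e_Cert_tree lc_e_rc_18_1 lc_e_rc_13_3) (@D3.rec (fun _ => (Cert rels S Gen.e)) lc_e_rc_16_1 lc_e_rc_13_3 lc_e_rc_19_0 lc_e_Cert_tree lc_e_Cert_tree lc_e_rc_18_1 lc_e_Cert_tree lc_e_rc_18_1 lc_e_Cert_tree lc_e_rc_18_1 lc_e_rc_16_1 lc_e_rc_13_3 lc_e_Cert_tree lc_e_Cert_tree lc_e_Cert_tree lc_e_rc_18_1 lc_e_Cert_tree lc_e_Cert_tree lc_e_rc_27_5 lc_e_rc_18_1 lc_e_Cert_tree lc_e_Cert_tree lc_e_rc_9_3 lc_e_Cert_tree lc_e_Cert_tree lc_e_rc_18_1 lc_e_Cert_tree lc_e_rc_18_1 lc_e_rc_16_5 lc_e_Cert_tree lc_e_rc_18_1 lc_e_Cert_tree lc_e_rc_18_1 lc_e_Cert_tree lc_e_rc_18_1 lc_e_Cert_tree lc_e_Cert_tree lc_e_rc_18_1 lc_e_Cert_tree lc_e_rc_16_5 lc_e_rc_18_1 lc_e_Cert_tree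 lc_e_rc_16_5 lc_e_rc_9_3 lc_e_Cert_tree lc_e_Cert_tree lc_e_rc_18_1 lc_e_rc_19_0 lc_e_Cert_tree lc_e_Cert_tree lc_e_rc_18_1 lc_e_Cert_tree lc_e_Cert_tree lc_e_Cert_tree lc_e_rc_18_1 lc_e_rc_18_1 lc_e_Cert_tree lc_e_rc_16_5 lc_e_Cert_tree lc_e_Cert_tree lc_e_rc_18_1 lc_e_Cert_tree) (@D3.rec (fun _ => (Cert rels S Gen.e)) lc_e_rc_18_1 lc_e_Cert_tree lc_e_Cert_tree lc_e_Cert_tree lc_e_rc_13_1 lc_e_rc_18_1 lc_e_rc_27_5 lc_e_Cert_tree lc_e_rc_19_4 lc_e_rc_16_1 lc_e_Cert_tree lc_e_Cert_tree lc_e_Cert_tree lc_e_rc_18_1 lc_e_rc_27_5 lc_e_Cert_tree lc_e_rc_18_1 lc_e_Cert_tree lc_e_Cert_tree lc_e_Cert_tree lc_e_rc_18_1 lc_e_Cert_tree lc_e_rc_27_1 lc_e_rc_16_1 lc_e_rc_4_1 lc_e_Cert_tree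 lc_e_Cert_tree lc_e_rc_18_1 lc_e_Cert_tree lc_e_rc_16_5 lc_e_rc_16_1 lc_e_rc_9_3 lc_e_rc_13_3 lc_e_Cert_tree lc_e_Cert_tree lc_e_rc_13_3 lc_e_rc_18_1 lc_e_Cert_tree lc_e_Cert_tree lc_e_Cert_tree lc_e_rc_18_1 lc_e_rc_18_1 lc_e_Cert_tree lc_e_rc_16_1 lc_e_rc_19_4 lc_e_Cert_tree lc_e_Cert_tree lc_e_rc_18_1 lc_e_Cert_tree lc_e_Cert_tree lc_e_rc_18_1 lc_e_Cert_tree lc_e_rc_27_5 lc_e_rc_19_4 lc_e_Cert_tree lc_e_Cert_tree lc_e_rc_18_1 lc_e_Cert_tree lc_e_Cert_tree lc_e_rc_18_1 lc_e_Cert_tree lc_e_Cert_tree) (@D3.rec (fun _ => (Cert rels S Gen.e)) lc_e_rc_4_3 lc_e_Cert_tree lc_e_Cert_tree lc_e_rc_13_1 lc_e_Cert_tree lc_e_rc_18_1 lc_e_rc_18_1 lc_e_Cert_tree lc_e_Cert_tree lc_e_rc_13_3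 lc_e_rc_9_3 lc_e_Cert_tree lc_e_Cert_tree lc_e_rc_18_1 lc_e_Cert_tree lc_e_Cert_tree lc_e_Cert_tree lc_e_rc_18_1 lc_e_rc_18_1 lc_e_Cert_tree lc_e_rc_16_1 lc_e_rc_4_1 lc_e_Cert_tree lc_e_Cert_tree lc_e_rc_18_1 lc_e_Cert_tree lc_e_Cert_tree lc_e_rc_18_1 lc_e_Cert_tree lc_e_rc_18_1 lc_e_Cert_tree lc_e_Cert_tree lc_e_rc_16_1 lc_e_rc_19_4 lc_e_rc_9_3 lc_e_rc_16_3 lc_e_rc_18_1 lc_e_rc_18_1 lc_e_Cert_tree lc_e_rc_18_1 lc_e_Cert_tree lc_e_rc_9_3 lc_e_Cert_tree lc_e_rc_18_1 lc_e_Cert_tree lc_e_Cert_tree lc_e_rc_18_1 lc_e_Cert_tree lc_e_Cert_tree lc_e_rc_18_1 lc_e_rc_18_1 lc_e_rc_27_5 lc_e_Cert_tree lc_e_rc_27_5 lc_e_rc_4_1 lc_e_rc_9_3 lc_e_rc_13_3 lc_e_Cert_tree lc_e_rc_18_1 lc_e_rc_9_3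 lc_e_Cert_tree lc_e_rc_16_3) (@D3.rec (fun _ => (Cert rels S Gen.e)) lc_e_rc_18_1 lc_e_rc_16_1 lc_e_rc_27_7 lc_e_rc_9_3 lc_e_Cert_tree lc_e_Cert_tree lc_e_Cert_tree lc_e_Cert_tree lc_e_rc_18_1 lc_e_rc_27_1 lc_e_rc_13_3 lc_e_rc_16_1 lc_e_rc_19_4 lc_e_Cert_tree lc_e_rc_18_1 lc_e_Cert_tree lc_e_rc_16_3 lc_e_rc_16_1 lc_e_rc_19_4 lc_e_rc_13_3 lc_e_rc_13_3 lc_e_rc_4_3 lc_e_Cert_tree lc_e_rc_18_1 lc_e_rc_16_1 lc_e_rc_19_2 lc_e_rc_4_3 lc_e_rc_9_3 lc_e_Cert_tree lc_e_Cert_tree lc_e_Cert_tree lc_e_rc_18_1 lc_e_rc_18_1 lc_e_rc_13_1 lc_e_rc_16_1 lc_e_rc_19_4 lc_e_rc_18_1 lc_e_rc_9_3 lc_e_rc_13_3 lc_e_rc_13_3 lc_e_rc_9_3 lc_e_Cert_tree lc_e_rc_18_1 lc_e_rc_18_1 lc_e_rc_27_5 lc_e_rc_16_1 lc_e_rc_9_3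 lc_e_rc_13_3 lc_e_Cert_tree lc_e_rc_4_3 lc_e_rc_13_3 lc_e_Cert_tree lc_e_Cert_tree lc_e_rc_18_1 lc_e_Cert_tree lc_e_Cert_tree lc_e_rc_18_1 lc_e_rc_16_1 lc_e_rc_19_4 lc_e_rc_9_3 lc_e_rc_27_7 lc_e_Cert_tree) (@D3.rec (fun _ => (Cert rels S Gen.e)) lc_e_Cert_tree lc_e_Cert_tree lc_e_rc_18_1 lc_e_rc_18_1 lc_e_rc_16_1 lc_e_rc_13_3 lc_e_Cert_tree lc_e_rc_27_7 lc_e_rc_27_5 lc_e_rc_4_3 lc_e_Cert_tree lc_e_Cert_tree lc_e_Cert_tree lc_e_Cert_tree lc_e_Cert_tree lc_e_rc_18_1 lc_e_Cert_tree lc_e_Cert_tree lc_e_Cert_tree lc_e_Cert_tree lc_e_rc_18_1 lc_e_Cert_tree lc_e_rc_18_1 lc_e_Cert_tree lc_e_rc_18_1 lc_e_Cert_tree lc_e_rc_18_1 lc_e_Cert_tree lc_e_rc_18_1 lc_e_Cert_tree lc_e_Cert_tree lc_e_Cert_tree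 lc_e_rc_18_1 lc_e_rc_16_3 lc_e_Cert_tree lc_e_Cert_tree lc_e_rc_18_1 lc_e_rc_18_1 lc_e_rc_27_7 lc_e_rc_19_2 lc_e_rc_27_1 lc_e_rc_9_3 lc_e_Cert_tree lc_e_rc_18_1 lc_e_rc_13_3 lc_e_rc_13_1 lc_e_rc_16_3 lc_e_rc_19_4 lc_e_rc_27_7 lc_e_Cert_tree lc_e_Cert_tree lc_e_Cert_tree lc_e_rc_18_1 lc_e_rc_18_1 lc_e_rc_16_1 lc_e_Cert_tree lc_e_Cert_tree lc_e_rc_9_3 lc_e_rc_13_3 lc_e_Cert_tree lc_e_rc_18_1 lc_e_rc_18_1) (@D3.rec (fun _ => (Cert rels S Gen.e)) lc_e_rc_9_3 lc_e_Cert_tree lc_e_Cert_tree lc_e_Cert_tree lc_e_Cert_tree lc_e_rc_18_1 lc_e_Cert_tree lc_e_rc_18_1 lc_e_Cert_tree lc_e_Cert_tree lc_e_Cert_tree lc_e_rc_18_1 lc_e_rc_27_5 lc_e_rc_16_1 lc_e_rc_27_1 lc_e_Cert_tree lc_e_rc_16_1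 lc_e_rc_9_3 lc_e_rc_9_3 lc_e_rc_27_5 lc_e_Cert_tree lc_e_Cert_tree lc_e_rc_18_1 lc_e_Cert_tree lc_e_Cert_tree lc_e_rc_27_5 lc_e_Cert_tree lc_e_rc_13_3 lc_e_rc_9_1 lc_e_rc_9_3 lc_e_rc_13_3 lc_e_rc_18_1 lc_e_Cert_tree lc_e_Cert_tree lc_e_rc_18_1 lc_e_rc_18_1 lc_e_rc_27_1 lc_e_rc_27_5 lc_e_rc_9_3 lc_e_Cert_tree lc_e_rc_13_3 lc_e_Cert_tree lc_e_Cert_tree lc_e_rc_13_3 lc_e_Cert_tree lc_e_rc_18_1 lc_e_Cert_tree lc_e_Cert_tree lc_e_rc_19_4 lc_e_rc_18_1 lc_e_Cert_tree lc_e_rc_13_3 lc_e_Cert_tree lc_e_Cert_tree lc_e_Cert_tree lc_e_rc_18_1 lc_e_rc_9_3 lc_e_rc_9_3 lc_e_Cert_tree lc_e_Cert_tree lc_e_Cert_tree lc_e_rc_13_1) (@D3.rec (fun _ => (Cert rels S Gen.e)) lc_e_rc_18_1 lc_e_Cert_tree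 lc_e_rc_18_1 lc_e_Cert_tree lc_e_rc_18_1 lc_e_Cert_tree lc_e_Cert_tree lc_e_rc_19_4 lc_e_rc_27_7 lc_e_rc_16_1 lc_e_rc_27_7 lc_e_rc_27_1 lc_e_rc_27_5 lc_e_rc_9_3 lc_e_rc_13_3 lc_e_Cert_tree lc_e_Cert_tree lc_e_Cert_tree lc_e_Cert_tree lc_e_rc_18_1 lc_e_rc_16_1 lc_e_Cert_tree lc_e_Cert_tree lc_e_rc_16_1 lc_e_rc_19_4 lc_e_rc_9_3 lc_e_rc_16_3 lc_e_rc_18_1 lc_e_Cert_tree lc_e_Cert_tree lc_e_rc_16_3 lc_e_Cert_tree lc_e_rc_9_1 lc_e_rc_16_3 lc_e_rc_13_3 lc_e_rc_9_1 lc_e_Cert_tree lc_e_Cert_tree lc_e_Cert_tree lc_e_Cert_tree lc_e_rc_18_1 lc_e_rc_9_3 lc_e_rc_13_3 lc_e_Cert_tree lc_e_Cert_tree lc_e_rc_18_1 lc_e_rc_18_1 lc_e_Cert_tree lc_e_rc_27_1 lc_e_Cert_tree lc_e_rc_18_1 lc_e_Cert_tree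 lc_e_Cert_tree lc_e_rc_9_3 lc_e_Cert_tree lc_e_rc_13_3 lc_e_rc_9_1 lc_e_rc_18_1 lc_e_Cert_tree lc_e_Cert_tree lc_e_rc_16_1 lc_e_rc_13_3) (@D3.rec (fun _ => (Cert rels S Gen.e)) lc_e_Cert_tree lc_e_rc_9_1 lc_e_Cert_tree lc_e_rc_4_3 lc_e_Cert_tree lc_e_Cert_tree lc_e_rc_18_1 lc_e_Cert_tree lc_e_Cert_tree lc_e_rc_18_1 lc_e_rc_27_5 lc_e_Cert_tree lc_e_Cert_tree lc_e_rc_18_1 lc_e_Cert_tree lc_e_Cert_tree lc_e_Cert_tree lc_e_rc_18_1 lc_e_rc_4_3 lc_e_rc_16_1 lc_e_rc_19_4 lc_e_Cert_tree lc_e_Cert_tree lc_e_rc_16_1 lc_e_rc_19_4 lc_e_rc_27_7 lc_e_Cert_tree lc_e_rc_18_1 lc_e_Cert_tree lc_e_Cert_tree lc_e_rc_18_1 lc_e_rc_9_3 lc_e_Cert_tree lc_e_rc_18_1 lc_e_rc_9_3 lc_e_rc_9_3 lc_e_Cert_tree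 lc_e_Cert_tree lc_e_rc_18_1 lc_e_rc_27_5 lc_e_Cert_tree lc_e_Cert_tree lc_e_rc_18_1 lc_e_Cert_tree lc_e_rc_19_2 lc_e_rc_16_1 lc_e_rc_27_5 lc_e_rc_18_1 lc_e_rc_4_3 lc_e_Cert_tree lc_e_Cert_tree lc_e_rc_18_1 lc_e_Cert_tree lc_e_rc_18_1 lc_e_Cert_tree lc_e_rc_18_1 lc_e_rc_18_1 lc_e_rc_16_1 lc_e_rc_18_1 lc_e_Cert_tree lc_e_rc_18_1 lc_e_Cert_tree) (@D3.rec (fun _ => (Cert rels S Gen.e)) lc_e_Cert_tree lc_e_rc_18_1 lc_e_Cert_tree lc_e_Cert_tree lc_e_rc_18_1 lc_e_Cert_tree lc_e_Cert_tree lc_e_Cert_tree lc_e_rc_18_1 lc_e_Cert_tree lc_e_Cert_tree lc_e_rc_19_4 lc_e_rc_9_3 lc_e_rc_18_1 lc_e_rc_16_3 lc_e_Cert_tree lc_e_rc_9_3 lc_e_rc_18_1 lc_e_rc_13_3 lc_e_Cert_tree lc_e_rc_16_3 lc_e_rc_19_4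 lc_e_Cert_tree lc_e_Cert_tree lc_e_rc_18_1 lc_e_Cert_tree lc_e_Cert_tree lc_e_rc_16_3 lc_e_rc_19_4 lc_e_Cert_tree lc_e_rc_27_1 lc_e_Cert_tree lc_e_rc_18_1 lc_e_Cert_tree lc_e_rc_27_5 lc_e_Cert_tree lc_e_rc_18_1 lc_e_rc_9_3 lc_e_Cert_tree lc_e_Cert_tree lc_e_Cert_tree lc_e_Cert_tree lc_e_rc_13_3 lc_e_rc_18_1 lc_e_Cert_tree lc_e_rc_18_1 lc_e_rc_18_1 lc_e_rc_9_3 lc_e_Cert_tree lc_e_rc_27_7 lc_e_rc_4_3 lc_e_rc_18_1 lc_e_rc_16_3 lc_e_rc_16_3 lc_e_rc_18_1 lc_e_rc_27_1 lc_e_rc_16_3 lc_e_rc_19_4 lc_e_rc_13_3 lc_e_Cert_tree lc_e_Cert_tree lc_e_rc_18_1) (@D3.rec (fun _ => (Cert rels S Gen.e)) lc_e_Cert_tree lc_e_Cert_tree lc_e_Cert_tree lc_e_rc_18_1 lc_e_Cert_tree lc_e_Cert_tree lc_e_rc_13_3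 lc_e_Cert_tree lc_e_Cert_tree lc_e_rc_18_1 lc_e_rc_16_5 lc_e_rc_18_1 lc_e_Cert_tree lc_e_Cert_tree lc_e_rc_18_1 lc_e_Cert_tree lc_e_rc_18_1 lc_e_Cert_tree lc_e_Cert_tree lc_e_rc_18_1 lc_e_Cert_tree lc_e_rc_16_5 lc_e_rc_18_1 lc_e_Cert_tree lc_e_rc_16_5 lc_e_rc_9_3 lc_e_Cert_tree lc_e_Cert_tree lc_e_rc_18_1 lc_e_Cert_tree lc_e_rc_18_1 lc_e_Cert_tree lc_e_rc_18_1 lc_e_rc_13_3 lc_e_Cert_tree lc_e_Cert_tree lc_e_rc_18_1 lc_e_Cert_tree lc_e_rc_18_1 lc_e_Cert_tree lc_e_rc_18_1 lc_e_rc_4_1 lc_e_rc_18_1 lc_e_Cert_tree lc_e_rc_18_1 lc_e_rc_9_3 lc_e_Cert_tree lc_e_Cert_tree lc_e_Cert_tree lc_e_rc_18_1 lc_e_Cert_tree lc_e_Cert_tree lc_e_rc_4_3 lc_e_Cert_tree lc_e_Cert_tree lc_e_Cert_tree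 lc_e_Cert_tree lc_e_Cert_tree lc_e_rc_18_1 lc_e_Cert_tree lc_e_rc_18_1 lc_e_Cert_tree) (@D3.rec (fun _ => (Cert rels S Gen.e)) lc_e_Cert_tree lc_e_Cert_tree lc_e_rc_19_2 lc_e_rc_18_1 lc_e_rc_27_5 lc_e_rc_9_1 lc_e_rc_13_1 lc_e_rc_18_1 lc_e_Cert_tree lc_e_rc_18_1 lc_e_rc_18_1 lc_e_Cert_tree lc_e_Cert_tree lc_e_rc_19_4 lc_e_Cert_tree lc_e_rc_13_1 lc_e_rc_16_3 lc_e_rc_13_3 lc_e_Cert_tree lc_e_rc_18_1 lc_e_Cert_tree lc_e_rc_19_4 lc_e_rc_16_5 lc_e_rc_18_1 lc_e_rc_18_1 lc_e_rc_13_3 lc_e_rc_18_1 lc_e_rc_27_5 lc_e_rc_27_5 lc_e_rc_16_3 lc_e_rc_9_3 lc_e_rc_13_3 lc_e_rc_18_1 lc_e_Cert_tree lc_e_rc_18_1 lc_e_rc_18_1 lc_e_rc_18_1 lc_e_rc_16_3 lc_e_rc_13_3 lc_e_Cert_tree lc_e_rc_18_1 lc_e_Cert_tree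 lc_e_rc_18_1 lc_e_rc_9_3 lc_e_Cert_tree lc_e_rc_18_1 lc_e_rc_13_3 lc_e_rc_18_1 lc_e_rc_27_5 lc_e_rc_16_3 lc_e_rc_27_5 lc_e_Cert_tree lc_e_Cert_tree lc_e_rc_18_1 lc_e_rc_18_1 lc_e_rc_16_3 lc_e_Cert_tree lc_e_rc_18_1 lc_e_rc_16_3 lc_e_rc_13_3 lc_e_Cert_tree lc_e_Cert_tree) (@D3.rec (fun _ => (Cert rels S Gen.e)) lc_e_rc_18_1 lc_e_Cert_tree lc_e_Cert_tree lc_e_Cert_tree lc_e_Cert_tree lc_e_rc_18_1 lc_e_Cert_tree lc_e_Cert_tree lc_e_Cert_tree lc_e_Cert_tree lc_e_rc_18_1 lc_e_rc_18_1 lc_e_rc_16_3 lc_e_Cert_tree lc_e_rc_18_1 lc_e_rc_18_1 lc_e_Cert_tree lc_e_rc_16_3 lc_e_rc_19_4 lc_e_Cert_tree lc_e_Cert_tree lc_e_Cert_tree lc_e_rc_18_1 lc_e_Cert_tree lc_e_Cert_tree lc_e_rc_27_5 lc_e_rc_18_1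 lc_e_rc_18_1 lc_e_rc_18_1 lc_e_Cert_tree lc_e_rc_16_3 lc_e_rc_13_3 lc_e_Cert_tree lc_e_rc_18_1 lc_e_rc_18_1 lc_e_rc_4_3 lc_e_Cert_tree lc_e_rc_4_1 lc_e_Cert_tree lc_e_rc_18_1 lc_e_rc_16_3 lc_e_rc_19_4 lc_e_rc_16_5 lc_e_rc_27_1 lc_e_rc_27_5 lc_e_rc_18_1 lc_e_rc_13_3 lc_e_Cert_tree lc_e_rc_18_1 lc_e_rc_18_1 lc_e_rc_18_1 lc_e_rc_9_1 lc_e_Cert_tree lc_e_rc_18_1 lc_e_rc_18_1 lc_e_Cert_tree lc_e_rc_19_4 lc_e_rc_13_3 lc_e_Cert_tree lc_e_rc_18_1 lc_e_Cert_tree lc_e_rc_18_1) (@D3.rec (fun _ => (Cert rels S Gen.e)) lc_e_rc_19_4 lc_e_rc_9_3 lc_e_Cert_tree lc_e_Cert_tree lc_e_Cert_tree lc_e_rc_18_1 lc_e_Cert_tree lc_e_Cert_tree lc_e_Cert_tree lc_e_Cert_tree lc_e_rc_18_1 lc_e_rc_18_1 lc_e_Cert_tree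 lc_e_Cert_tree lc_e_rc_16_1 lc_e_rc_19_4 lc_e_Cert_tree lc_e_rc_18_1 lc_e_Cert_tree lc_e_rc_27_5 lc_e_rc_18_1 lc_e_rc_18_1 lc_e_rc_9_1 lc_e_rc_9_3 lc_e_rc_27_1 lc_e_Cert_tree lc_e_Cert_tree lc_e_rc_18_1 lc_e_rc_16_3 lc_e_rc_19_4 lc_e_rc_4_3 lc_e_Cert_tree lc_e_Cert_tree lc_e_Cert_tree lc_e_rc_18_1 lc_e_Cert_tree lc_e_Cert_tree lc_e_Cert_tree lc_e_rc_18_1 lc_e_rc_18_1 lc_e_Cert_tree lc_e_Cert_tree lc_e_rc_16_3 lc_e_rc_19_4 lc_e_Cert_tree lc_e_Cert_tree lc_e_rc_27_5 lc_e_Cert_tree lc_e_rc_9_3 lc_e_Cert_tree lc_e_rc_18_1 lc_e_Cert_tree lc_e_rc_13_3 lc_e_rc_18_1 lc_e_rc_18_1 lc_e_Cert_tree lc_e_Cert_tree lc_e_rc_18_1 lc_e_rc_18_1 lc_e_rc_18_1 lc_e_Cert_tree lc_e_Cert_tree) (@D3.rec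 (fun _ => (Cert rels S Gen.e)) lc_e_rc_18_1 lc_e_Cert_tree lc_e_rc_18_1 lc_e_Cert_tree lc_e_rc_18_1 lc_e_rc_13_3 lc_e_rc_16_1 lc_e_rc_18_1 lc_e_Cert_tree lc_e_rc_16_1 lc_e_rc_19_4 lc_e_rc_13_3 lc_e_Cert_tree lc_e_Cert_tree lc_e_rc_18_1 lc_e_Cert_tree lc_e_Cert_tree lc_e_rc_18_1 lc_e_Cert_tree lc_e_rc_18_1 lc_e_rc_19_4 lc_e_Cert_tree lc_e_rc_18_1 lc_e_rc_4_1 lc_e_rc_18_1 lc_e_rc_16_1 lc_e_Cert_tree lc_e_Cert_tree lc_e_rc_16_1 lc_e_rc_19_4 lc_e_rc_13_3 lc_e_rc_18_1 lc_e_Cert_tree lc_e_rc_18_1 lc_e_Cert_tree lc_e_Cert_tree lc_e_rc_18_1 lc_e_Cert_tree lc_e_rc_27_1 lc_e_rc_19_4 lc_e_rc_18_1 lc_e_Cert_tree lc_e_rc_18_1 lc_e_Cert_tree lc_e_rc_18_1 lc_e_Cert_tree lc_e_rc_18_1 lc_e_rc_4_3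 lc_e_rc_16_1 lc_e_rc_4_3 lc_e_Cert_tree lc_e_Cert_tree lc_e_rc_18_1 lc_e_Cert_tree lc_e_rc_18_1 lc_e_rc_27_5 lc_e_rc_27_1 lc_e_rc_16_1 lc_e_rc_4_1 lc_e_Cert_tree lc_e_Cert_tree lc_e_rc_18_1) (@D3.rec (fun _ => (Cert rels S Gen.e)) lc_e_Cert_tree lc_e_Cert_tree lc_e_rc_18_1 lc_e_Cert_tree lc_e_Cert_tree lc_e_Cert_tree lc_e_rc_18_1 lc_e_Cert_tree lc_e_rc_19_4 lc_e_rc_16_1 lc_e_rc_19_4 lc_e_rc_9_3 lc_e_rc_9_3 lc_e_rc_16_3 lc_e_rc_9_3 lc_e_rc_9_3 lc_e_Cert_tree lc_e_Cert_tree lc_e_rc_16_5 lc_e_rc_27_1 lc_e_Cert_tree lc_e_Cert_tree lc_e_rc_18_1 lc_e_rc_18_1 lc_e_rc_19_4 lc_e_Cert_tree lc_e_Cert_tree lc_e_Cert_tree lc_e_rc_18_1 lc_e_Cert_tree lc_e_Cert_tree lc_e_Cert_tree lc_e_rc_18_1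 lc_e_rc_18_1 lc_e_rc_9_3 lc_e_rc_13_3 lc_e_rc_19_2 lc_e_rc_4_3 lc_e_rc_4_3 lc_e_Cert_tree lc_e_Cert_tree lc_e_rc_18_1 lc_e_rc_13_3 lc_e_rc_4_3 lc_e_Cert_tree lc_e_Cert_tree lc_e_rc_18_1 lc_e_Cert_tree lc_e_Cert_tree lc_e_rc_18_1 lc_e_rc_9_3 lc_e_Cert_tree lc_e_Cert_tree lc_e_rc_18_1 lc_e_rc_18_1 lc_e_rc_13_3 lc_e_rc_27_5 lc_e_Cert_tree lc_e_Cert_tree lc_e_rc_18_1 lc_e_rc_27_1 lc_e_rc_13_1) (@D3.rec (fun _ => (Cert rels S Gen.e)) lc_e_Cert_tree lc_e_Cert_tree lc_e_rc_18_1 lc_e_Cert_tree lc_e_Cert_tree lc_e_Cert_tree lc_e_rc_4_1 lc_e_Cert_tree lc_e_rc_18_1 lc_e_rc_18_1 lc_e_rc_18_1 lc_e_rc_16_1 lc_e_rc_19_4 lc_e_rc_13_3 lc_e_rc_16_1 lc_e_rc_9_3 lc_e_Cert_tree lc_e_rc_4_3 lc_e_Cert_tree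 lc_e_Cert_tree lc_e_rc_18_1 lc_e_Cert_tree lc_e_rc_27_1 lc_e_rc_13_3 lc_e_Cert_tree lc_e_rc_18_1 lc_e_rc_27_5 lc_e_rc_13_1 lc_e_rc_18_1 lc_e_rc_9_1 lc_e_rc_9_3 lc_e_rc_27_5 lc_e_Cert_tree lc_e_Cert_tree lc_e_rc_27_7 lc_e_Cert_tree lc_e_rc_18_1 lc_e_rc_18_1 lc_e_Cert_tree lc_e_rc_18_1 lc_e_rc_18_1 lc_e_rc_27_7 lc_e_rc_27_1 lc_e_rc_19_4 lc_e_Cert_tree lc_e_rc_18_1 lc_e_rc_16_3 lc_e_rc_18_1 lc_e_Cert_tree lc_e_rc_13_3 lc_e_Cert_tree lc_e_rc_16_1 lc_e_rc_13_3 lc_e_rc_9_3 lc_e_rc_16_1 lc_e_rc_27_5 lc_e_rc_13_3 lc_e_rc_9_3 lc_e_rc_19_4 lc_e_rc_13_3 lc_e_Cert_tree lc_e_rc_18_1) (@D3.rec (fun _ => (Cert rels S Gen.e)) lc_e_rc_18_1 lc_e_rc_18_1 lc_e_Cert_tree lc_e_Cert_tree lc_e_rc_27_5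 lc_e_rc_18_1 lc_e_Cert_tree lc_e_Cert_tree lc_e_rc_13_3 lc_e_Cert_tree lc_e_rc_13_1 lc_e_rc_9_3 lc_e_Cert_tree lc_e_Cert_tree lc_e_rc_18_1 lc_e_rc_9_1 lc_e_rc_9_3 lc_e_rc_18_1 lc_e_rc_18_1 lc_e_rc_9_3 lc_e_rc_18_1 lc_e_rc_4_1 lc_e_rc_16_3 lc_e_rc_18_1 lc_e_Cert_tree lc_e_rc_18_1 lc_e_Cert_tree lc_e_rc_27_5 lc_e_rc_18_1 lc_e_rc_16_3 lc_e_rc_4_3 lc_e_rc_27_1 lc_e_Cert_tree lc_e_rc_18_1 lc_e_Cert_tree lc_e_Cert_tree lc_e_rc_18_1 lc_e_Cert_tree lc_e_Cert_tree lc_e_rc_18_1 lc_e_Cert_tree lc_e_Cert_tree lc_e_rc_13_3 lc_e_rc_18_1 lc_e_Cert_tree lc_e_Cert_tree lc_e_Cert_tree lc_e_rc_18_1 lc_e_Cert_tree lc_e_Cert_tree lc_e_rc_19_4 lc_e_Cert_tree lc_e_Cert_tree lc_e_rc_18_1 lc_e_rc_18_1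 lc_e_Cert_tree lc_e_rc_19_4 lc_e_Cert_tree lc_e_Cert_tree lc_e_Cert_tree lc_e_rc_18_1 lc_e_Cert_tree) (@D3.rec (fun _ => (Cert rels S Gen.e)) lc_e_Cert_tree lc_e_rc_27_5 lc_e_rc_18_1 lc_e_rc_4_1 lc_e_Cert_tree lc_e_Cert_tree lc_e_Cert_tree lc_e_Cert_tree lc_e_rc_18_1 lc_e_Cert_tree lc_e_Cert_tree lc_e_rc_18_1 lc_e_rc_13_3 lc_e_rc_9_3 lc_e_rc_18_1 lc_e_rc_4_3 lc_e_rc_18_1 lc_e_rc_27_5 lc_e_rc_18_1 lc_e_Cert_tree lc_e_rc_18_1 lc_e_Cert_tree lc_e_rc_18_1 lc_e_rc_9_3 lc_e_rc_16_1 lc_e_Cert_tree lc_e_Cert_tree lc_e_rc_18_1 lc_e_Cert_tree lc_e_rc_18_1 lc_e_Cert_tree lc_e_Cert_tree lc_e_rc_18_1 lc_e_Cert_tree lc_e_Cert_tree lc_e_rc_18_1 lc_e_Cert_tree lc_e_Cert_tree lc_e_Cert_tree lc_e_rc_18_1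 lc_e_Cert_tree lc_e_Cert_tree lc_e_rc_19_2 lc_e_Cert_tree lc_e_Cert_tree lc_e_rc_18_1 lc_e_Cert_tree lc_e_rc_27_5 lc_e_rc_18_1 lc_e_Cert_tree lc_e_Cert_tree lc_e_rc_18_1 lc_e_Cert_tree lc_e_rc_18_1 lc_e_Cert_tree lc_e_rc_18_1 lc_e_rc_9_3 lc_e_rc_16_1 lc_e_rc_13_3 lc_e_Cert_tree lc_e_rc_18_1 lc_e_Cert_tree) (@D3.rec (fun _ => (Cert rels S Gen.e)) lc_e_Cert_tree lc_e_rc_18_1 lc_e_Cert_tree lc_e_Cert_tree lc_e_Cert_tree lc_e_rc_4_3 lc_e_rc_18_1 lc_e_rc_9_1 lc_e_rc_9_3 lc_e_rc_18_1 lc_e_Cert_tree lc_e_rc_18_1 lc_e_rc_18_1 lc_e_Cert_tree lc_e_rc_18_1 lc_e_rc_16_1 lc_e_Cert_tree lc_e_rc_27_5 lc_e_Cert_tree lc_e_rc_18_1 lc_e_rc_18_1 lc_e_Cert_tree lc_e_rc_18_1 lc_e_Cert_tree lc_e_Cert_tree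 lc_e_Cert_tree lc_e_rc_18_1 lc_e_rc_27_1 lc_e_rc_18_1 lc_e_Cert_tree lc_e_Cert_tree lc_e_Cert_tree lc_e_Cert_tree lc_e_rc_18_1 lc_e_Cert_tree lc_e_rc_16_5 lc_e_Cert_tree lc_e_rc_13_3 lc_e_rc_27_1 lc_e_rc_18_1 lc_e_rc_13_1 lc_e_Cert_tree lc_e_Cert_tree lc_e_rc_18_1 lc_e_Cert_tree lc_e_Cert_tree lc_e_rc_18_1 lc_e_rc_27_1 lc_e_Cert_tree lc_e_rc_18_1 lc_e_Cert_tree lc_e_Cert_tree lc_e_Cert_tree lc_e_Cert_tree lc_e_rc_18_1 lc_e_rc_18_1 lc_e_Cert_tree lc_e_rc_19_4 lc_e_Cert_tree lc_e_Cert_tree lc_e_rc_18_1 lc_e_Cert_tree) (@D3.rec (fun _ => (Cert rels S Gen.e)) lc_e_Cert_tree lc_e_Cert_tree lc_e_Cert_tree lc_e_rc_18_1 lc_e_Cert_tree lc_e_rc_9_1 lc_e_rc_16_3 lc_e_rc_19_4 lc_e_Cert_tree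 lc_e_Cert_tree lc_e_rc_18_1 lc_e_Cert_tree lc_e_Cert_tree lc_e_rc_18_1 lc_e_rc_9_3 lc_e_Cert_tree lc_e_rc_16_3 lc_e_rc_18_1 lc_e_Cert_tree lc_e_Cert_tree lc_e_rc_18_1 lc_e_Cert_tree lc_e_Cert_tree lc_e_rc_18_1 lc_e_Cert_tree lc_e_Cert_tree lc_e_Cert_tree lc_e_Cert_tree lc_e_rc_18_1 lc_e_Cert_tree lc_e_Cert_tree lc_e_Cert_tree lc_e_rc_18_1 lc_e_Cert_tree lc_e_Cert_tree lc_e_Cert_tree lc_e_rc_16_1 lc_e_Cert_tree lc_e_rc_18_1 lc_e_rc_27_1 lc_e_rc_27_5 lc_e_Cert_tree lc_e_Cert_tree lc_e_Cert_tree lc_e_rc_27_7 lc_e_rc_18_1 lc_e_rc_18_1 lc_e_rc_27_7 lc_e_rc_18_1 lc_e_rc_16_3 lc_e_rc_13_1 lc_e_rc_13_3 lc_e_rc_16_5 lc_e_rc_9_3 lc_e_rc_19_2 lc_e_rc_9_3 lc_e_rc_9_3 lc_e_rc_13_3 lc_e_Cert_tree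 lc_e_rc_18_1 lc_e_Cert_tree lc_e_Cert_tree) (@D3.rec (fun _ => (Cert rels S Gen.e)) lc_e_Cert_tree lc_e_rc_18_1 lc_e_Cert_tree lc_e_rc_19_2 lc_e_rc_16_3 lc_e_rc_19_4 lc_e_Cert_tree lc_e_Cert_tree lc_e_rc_18_1 lc_e_Cert_tree lc_e_rc_18_1 lc_e_rc_18_1 lc_e_rc_16_3 lc_e_rc_13_3 lc_e_Cert_tree lc_e_Cert_tree lc_e_rc_18_1 lc_e_Cert_tree lc_e_Cert_tree lc_e_Cert_tree lc_e_rc_18_1 lc_e_rc_16_3 lc_e_rc_16_3 lc_e_rc_9_3 lc_e_rc_16_5 lc_e_rc_19_0 lc_e_rc_27_5 lc_e_rc_18_1 lc_e_Cert_tree lc_e_Cert_tree lc_e_rc_13_3 lc_e_Cert_tree lc_e_Cert_tree lc_e_Cert_tree lc_e_rc_18_1 lc_e_Cert_tree lc_e_rc_18_1 lc_e_rc_18_1 lc_e_Cert_tree lc_e_Cert_tree lc_e_rc_16_3 lc_e_rc_19_4 lc_e_Cert_tree lc_e_Cert_tree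 lc_e_rc_18_1 lc_e_Cert_tree lc_e_Cert_tree lc_e_rc_18_1 lc_e_Cert_tree lc_e_Cert_tree lc_e_rc_13_3 lc_e_Cert_tree lc_e_rc_18_1 lc_e_rc_13_3 lc_e_Cert_tree lc_e_Cert_tree lc_e_rc_18_1 lc_e_rc_13_3 lc_e_Cert_tree lc_e_Cert_tree lc_e_rc_18_1 lc_e_rc_18_1) (@D3.rec (fun _ => (Cert rels S Gen.e)) lc_e_rc_18_1 lc_e_Cert_tree lc_e_rc_18_1 lc_e_rc_16_3 lc_e_rc_19_2 lc_e_Cert_tree lc_e_Cert_tree lc_e_rc_18_1 lc_e_rc_18_1 lc_e_Cert_tree lc_e_Cert_tree lc_e_rc_18_1 lc_e_rc_18_1 lc_e_rc_27_1 lc_e_rc_18_1 lc_e_rc_16_3 lc_e_Cert_tree lc_e_Cert_tree lc_e_rc_18_1 lc_e_rc_27_5 lc_e_Cert_tree lc_e_rc_27_5 lc_e_rc_13_3 lc_e_rc_18_1 lc_e_rc_18_1 lc_e_Cert_tree lc_e_Cert_tree lc_e_rc_18_1 lc_e_Cert_tree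 lc_e_Cert_tree lc_e_rc_18_1 lc_e_Cert_tree lc_e_rc_9_3 lc_e_Cert_tree lc_e_Cert_tree lc_e_Cert_tree lc_e_Cert_tree lc_e_rc_18_1 lc_e_rc_18_1 lc_e_rc_16_1 lc_e_rc_19_4 lc_e_rc_18_1 lc_e_rc_18_1 lc_e_rc_27_1 lc_e_rc_16_3 lc_e_rc_13_3 lc_e_Cert_tree lc_e_rc_18_1 lc_e_Cert_tree lc_e_rc_18_1 lc_e_Cert_tree lc_e_rc_18_1 lc_e_rc_16_3 lc_e_rc_18_1 lc_e_Cert_tree lc_e_rc_18_1 lc_e_rc_4_3 lc_e_Cert_tree lc_e_Cert_tree lc_e_Cert_tree lc_e_rc_18_1 lc_e_Cert_tree) (@D3.rec (fun _ => (Cert rels S Gen.e)) lc_e_Cert_tree lc_e_rc_18_1 lc_e_Cert_tree lc_e_Cert_tree lc_e_rc_18_1 lc_e_Cert_tree lc_e_Cert_tree lc_e_Cert_tree lc_e_Cert_tree lc_e_rc_18_1 lc_e_Cert_tree lc_e_Cert_tree lc_e_Cert_tree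 lc_e_Cert_tree lc_e_rc_18_1 lc_e_rc_9_3 lc_e_rc_13_1 lc_e_Cert_tree lc_e_Cert_tree lc_e_Cert_tree lc_e_rc_18_1 lc_e_rc_16_3 lc_e_rc_9_1 lc_e_rc_27_1 lc_e_rc_18_1 lc_e_rc_16_5 lc_e_rc_27_5 lc_e_rc_18_1 lc_e_rc_18_1 lc_e_Cert_tree lc_e_rc_18_1 lc_e_rc_13_1 lc_e_rc_27_7 lc_e_Cert_tree lc_e_rc_18_1 lc_e_rc_27_5 lc_e_rc_18_1 lc_e_Cert_tree lc_e_rc_18_1 lc_e_rc_16_3 lc_e_Cert_tree lc_e_rc_18_1 lc_e_Cert_tree lc_e_rc_18_1 lc_e_Cert_tree lc_e_Cert_tree lc_e_rc_18_1 lc_e_Cert_tree lc_e_Cert_tree lc_e_rc_18_1 lc_e_Cert_tree lc_e_Cert_tree lc_e_rc_19_4 lc_e_Cert_tree lc_e_rc_27_5 lc_e_rc_18_1 lc_e_rc_19_2 lc_e_rc_27_5 lc_e_Cert_tree lc_e_rc_18_1 lc_e_rc_16_3 lc_e_rc_13_3) (@D3.rec (fun _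 => (Cert rels S Gen.e)) lc_e_rc_19_4 lc_e_rc_27_1 lc_e_rc_9_3 lc_e_rc_9_3 lc_e_rc_9_3 lc_e_rc_27_1 lc_e_rc_19_0 lc_e_rc_27_5 lc_e_rc_9_3 lc_e_Cert_tree lc_e_rc_27_5 lc_e_Cert_tree lc_e_rc_4_1 lc_e_rc_18_1 lc_e_rc_16_1 lc_e_rc_16_3 lc_e_rc_27_7 lc_e_rc_13_3 lc_e_rc_16_3 lc_e_Cert_tree lc_e_Cert_tree lc_e_rc_18_1 lc_e_rc_27_5 lc_e_rc_18_1 lc_e_Cert_tree lc_e_rc_19_0 lc_e_Cert_tree lc_e_Cert_tree lc_e_Cert_tree lc_e_Cert_tree lc_e_rc_18_1 lc_e_Cert_tree lc_e_rc_19_2 lc_e_Cert_tree lc_e_Cert_tree lc_e_rc_18_1 lc_e_Cert_tree lc_e_Cert_tree lc_e_rc_18_1 lc_e_rc_4_3 lc_e_rc_13_3 lc_e_Cert_tree lc_e_rc_13_3 lc_e_Cert_tree lc_e_Cert_tree lc_e_rc_18_1 lc_e_Cert_tree lc_e_Cert_tree lc_e_rc_13_3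 lc_e_rc_18_1 lc_e_rc_18_1 lc_e_rc_27_5 lc_e_rc_19_4 lc_e_rc_18_1 lc_e_Cert_tree lc_e_Cert_tree lc_e_Cert_tree lc_e_Cert_tree lc_e_rc_18_1 lc_e_rc_27_5 lc_e_rc_19_2 lc_e_Cert_tree) (@D3.rec (fun _ => (Cert rels S Gen.e)) lc_e_Cert_tree lc_e_rc_18_1 lc_e_Cert_tree lc_e_Cert_tree lc_e_rc_18_1 lc_e_Cert_tree lc_e_rc_16_3 lc_e_rc_19_2 lc_e_Cert_tree lc_e_Cert_tree lc_e_rc_18_1 lc_e_Cert_tree lc_e_Cert_tree lc_e_rc_18_1 lc_e_Cert_tree lc_e_Cert_tree lc_e_Cert_tree lc_e_rc_18_1 lc_e_Cert_tree lc_e_Cert_tree lc_e_rc_16_1 lc_e_rc_19_4 lc_e_Cert_tree lc_e_Cert_tree lc_e_Cert_tree lc_e_rc_18_1 lc_e_Cert_tree lc_e_Cert_tree lc_e_rc_27_1 lc_e_rc_18_1 lc_e_rc_9_3 lc_e_rc_13_1 lc_e_rc_9_3 lc_e_rc_27_1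 lc_e_rc_13_3 lc_e_rc_19_0 lc_e_Cert_tree lc_e_Cert_tree lc_e_rc_9_3 lc_e_rc_18_1 lc_e_rc_9_3 lc_e_Cert_tree lc_e_Cert_tree lc_e_rc_18_1 lc_e_rc_9_3 lc_e_Cert_tree lc_e_rc_18_1 lc_e_rc_4_3 lc_e_rc_18_1 lc_e_rc_18_1 lc_e_rc_19_4 lc_e_Cert_tree lc_e_rc_18_1 lc_e_Cert_tree lc_e_rc_18_1 lc_e_rc_9_3 lc_e_rc_13_3 lc_e_rc_19_4 lc_e_rc_18_1 lc_e_Cert_tree lc_e_rc_18_1 lc_e_Cert_tree) (@D3.rec (fun _ => (Cert rels S Gen.e)) lc_e_rc_18_1 lc_e_rc_13_3 lc_e_rc_18_1 lc_e_Cert_tree lc_e_rc_27_5 lc_e_rc_27_5 lc_e_rc_16_1 lc_e_rc_18_1 lc_e_rc_19_4 lc_e_rc_27_1 lc_e_rc_18_1 lc_e_rc_16_3 lc_e_rc_18_1 lc_e_rc_16_1 lc_e_rc_13_3 lc_e_Cert_tree lc_e_Cert_tree lc_e_rc_18_1 lc_e_Cert_tree lc_e_rc_27_5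 lc_e_rc_19_4 lc_e_Cert_tree lc_e_rc_27_1 lc_e_rc_18_1 lc_e_Cert_tree lc_e_Cert_tree lc_e_Cert_tree lc_e_Cert_tree lc_e_rc_18_1 lc_e_Cert_tree lc_e_Cert_tree lc_e_rc_18_1 lc_e_Cert_tree lc_e_Cert_tree lc_e_rc_18_1 lc_e_Cert_tree lc_e_rc_27_1 lc_e_Cert_tree lc_e_Cert_tree lc_e_rc_18_1 lc_e_Cert_tree lc_e_Cert_tree lc_e_rc_18_1 lc_e_Cert_tree lc_e_Cert_tree lc_e_Cert_tree lc_e_rc_18_1 lc_e_Cert_tree lc_e_rc_18_1 lc_e_Cert_tree lc_e_Cert_tree lc_e_Cert_tree lc_e_rc_16_1 lc_e_Cert_tree lc_e_rc_18_1 lc_e_Cert_tree lc_e_Cert_tree lc_e_Cert_tree lc_e_rc_18_1 lc_e_Cert_tree lc_e_Cert_tree lc_e_rc_27_7) (@D3.rec (fun _ => (Cert rels S Gen.e)) lc_e_rc_18_1 lc_e_rc_18_1 lc_e_rc_18_1 lc_e_Cert_tree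 lc_e_rc_9_3 lc_e_rc_13_3 lc_e_Cert_tree lc_e_rc_19_2 lc_e_rc_18_1 lc_e_Cert_tree lc_e_Cert_tree lc_e_rc_19_4 lc_e_rc_9_3 lc_e_rc_18_1 lc_e_rc_4_3 lc_e_rc_18_1 lc_e_Cert_tree lc_e_Cert_tree lc_e_rc_19_2 lc_e_rc_18_1 lc_e_rc_9_3 lc_e_rc_16_5 lc_e_rc_16_3 lc_e_rc_27_7 lc_e_rc_4_3 lc_e_Cert_tree lc_e_Cert_tree lc_e_rc_18_1 lc_e_rc_18_1 lc_e_rc_9_3 lc_e_rc_18_1 lc_e_rc_27_7 lc_e_rc_18_1 lc_e_rc_18_1 lc_e_rc_27_5 lc_e_rc_27_7 lc_e_rc_4_1 lc_e_rc_27_5 lc_e_rc_27_1 lc_e_rc_19_2 lc_e_Cert_tree lc_e_rc_18_1 lc_e_rc_18_1 lc_e_rc_18_1 lc_e_rc_18_1 lc_e_rc_16_1 lc_e_rc_18_1 lc_e_rc_18_1 lc_e_rc_18_1 lc_e_rc_16_1 lc_e_Cert_tree lc_e_Cert_tree lc_e_rc_9_3 lc_e_rc_18_1 lc_e_Cert_tree lc_e_rc_16_1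 lc_e_rc_19_4 lc_e_rc_9_3 lc_e_rc_13_3 lc_e_rc_18_1 lc_e_rc_18_1 lc_e_Cert_tree) (@D3.rec (fun _ => (Cert rels S Gen.e)) lc_e_Cert_tree lc_e_rc_18_1 lc_e_Cert_tree lc_e_rc_19_4 lc_e_Cert_tree lc_e_Cert_tree lc_e_rc_18_1 lc_e_rc_18_1 lc_e_rc_4_1 lc_e_rc_16_1 lc_e_rc_18_1 lc_e_rc_13_1 lc_e_rc_13_3 lc_e_rc_9_3 lc_e_rc_13_3 lc_e_rc_18_1 lc_e_Cert_tree lc_e_Cert_tree lc_e_Cert_tree lc_e_rc_18_1 lc_e_Cert_tree lc_e_rc_16_3 lc_e_rc_4_1 lc_e_Cert_tree lc_e_rc_18_1 lc_e_Cert_tree lc_e_Cert_tree lc_e_rc_18_1 lc_e_Cert_tree lc_e_Cert_tree lc_e_rc_18_1 lc_e_Cert_tree lc_e_Cert_tree lc_e_rc_18_1 lc_e_Cert_tree lc_e_rc_9_3 lc_e_Cert_tree lc_e_rc_18_1 lc_e_Cert_tree lc_e_Cert_tree lc_e_rc_16_1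 lc_e_rc_4_3 lc_e_Cert_tree lc_e_Cert_tree lc_e_rc_27_1 lc_e_rc_18_1 lc_e_Cert_tree lc_e_Cert_tree lc_e_rc_16_3 lc_e_rc_18_1 lc_e_rc_16_1 lc_e_rc_13_3 lc_e_rc_4_3 lc_e_rc_4_1 lc_e_rc_27_5 lc_e_rc_27_1 lc_e_rc_18_1 lc_e_rc_18_1 lc_e_rc_27_5 lc_e_rc_4_3 lc_e_rc_27_1 lc_e_rc_19_0) (@D3.rec (fun _ => (Cert rels S Gen.e)) lc_e_rc_19_0 lc_e_rc_13_3 lc_e_Cert_tree lc_e_Cert_tree lc_e_rc_18_1 lc_e_Cert_tree lc_e_Cert_tree lc_e_rc_9_1 lc_e_Cert_tree lc_e_Cert_tree lc_e_rc_18_1 lc_e_rc_9_3 lc_e_rc_9_3 lc_e_Cert_tree lc_e_rc_4_3 lc_e_Cert_tree lc_e_Cert_tree lc_e_rc_19_4 lc_e_rc_18_1 lc_e_rc_4_3 lc_e_rc_4_3 lc_e_rc_13_3 lc_e_Cert_tree lc_e_rc_9_3 lc_e_rc_27_5 lc_e_rc_27_7 lc_e_rc_27_1 lc_e_rc_16_5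 lc_e_rc_16_5 lc_e_rc_9_3 lc_e_Cert_tree lc_e_Cert_tree lc_e_rc_18_1 lc_e_rc_18_1 lc_e_rc_9_3 lc_e_rc_27_7 lc_e_rc_19_0 lc_e_Cert_tree lc_e_rc_18_1 lc_e_Cert_tree lc_e_rc_18_1 lc_e_rc_18_1 lc_e_Cert_tree lc_e_Cert_tree lc_e_Cert_tree lc_e_rc_18_1 lc_e_Cert_tree lc_e_rc_19_4 lc_e_Cert_tree lc_e_rc_18_1 lc_e_rc_18_1 lc_e_rc_13_3 lc_e_rc_16_1 lc_e_rc_18_1 lc_e_rc_16_1 lc_e_Cert_tree lc_e_Cert_tree lc_e_rc_18_1 lc_e_rc_16_5 lc_e_rc_19_4 lc_e_rc_4_1 lc_e_Cert_tree) (@D3.rec (fun _ => (Cert rels S Gen.e)) lc_e_rc_18_1 lc_e_rc_19_4 lc_e_rc_9_1 lc_e_rc_16_1 lc_e_rc_27_5 lc_e_rc_13_3 lc_e_rc_18_1 lc_e_Cert_tree lc_e_Cert_tree lc_e_Cert_tree lc_e_rc_9_3 lc_e_rc_18_1 lc_e_rc_18_1 lc_e_Cert_tree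 lc_e_Cert_tree lc_e_rc_18_1 lc_e_rc_16_5 lc_e_rc_9_1 lc_e_Cert_tree lc_e_Cert_tree lc_e_rc_18_1 lc_e_Cert_tree lc_e_rc_9_3 lc_e_rc_18_1 lc_e_rc_9_3 lc_e_Cert_tree lc_e_rc_18_1 lc_e_rc_13_3 lc_e_Cert_tree lc_e_rc_16_1 lc_e_rc_13_3 lc_e_rc_16_5 lc_e_rc_27_5 lc_e_Cert_tree lc_e_Cert_tree lc_e_rc_27_7 lc_e_rc_18_1 lc_e_rc_19_4 lc_e_Cert_tree lc_e_rc_13_3 lc_e_rc_27_1 lc_e_Cert_tree lc_e_rc_27_7 lc_e_rc_13_3 lc_e_Cert_tree lc_e_rc_13_3 lc_e_rc_9_3 lc_e_Cert_tree lc_e_Cert_tree lc_e_rc_18_1 lc_e_rc_18_1 lc_e_rc_19_2 lc_e_rc_13_3 lc_e_Cert_tree lc_e_rc_18_1 lc_e_rc_27_7 lc_e_rc_9_3 lc_e_rc_9_3 lc_e_rc_18_1 lc_e_rc_16_3 lc_e_Cert_tree lc_e_rc_18_1) (@D3.rec (fun _ => (Cert rels S Gen.e))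 lc_e_rc_18_1 lc_e_rc_16_1 lc_e_rc_13_3 lc_e_Cert_tree lc_e_rc_18_1 lc_e_Cert_tree lc_e_Cert_tree lc_e_rc_18_1 lc_e_rc_18_1 lc_e_Cert_tree lc_e_rc_27_7 lc_e_Cert_tree lc_e_rc_18_1 lc_e_Cert_tree lc_e_rc_18_1 lc_e_Cert_tree lc_e_rc_18_1 lc_e_Cert_tree lc_e_Cert_tree lc_e_rc_16_1 lc_e_rc_13_3 lc_e_Cert_tree lc_e_Cert_tree lc_e_rc_27_1 lc_e_rc_18_1 lc_e_Cert_tree lc_e_Cert_tree lc_e_rc_27_5 lc_e_rc_18_1 lc_e_rc_4_3 lc_e_Cert_tree lc_e_Cert_tree lc_e_rc_18_1 lc_e_rc_16_5 lc_e_rc_18_1 lc_e_rc_18_1 lc_e_Cert_tree lc_e_rc_18_1 lc_e_Cert_tree lc_e_rc_18_1 lc_e_Cert_tree lc_e_rc_18_1 lc_e_rc_18_1 lc_e_Cert_tree lc_e_Cert_tree lc_e_rc_16_1 lc_e_Cert_tree lc_e_Cert_tree lc_e_rc_18_1 lc_e_Cert_tree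 lc_e_Cert_tree lc_e_rc_18_1 lc_e_rc_9_3 lc_e_Cert_tree lc_e_rc_18_1 lc_e_rc_19_4 lc_e_rc_27_7 lc_e_Cert_tree lc_e_rc_18_1 lc_e_rc_18_1 lc_e_Cert_tree lc_e_rc_16_1) (@D3.rec (fun _ => (Cert rels S Gen.e)) lc_e_Cert_tree lc_e_Cert_tree lc_e_Cert_tree lc_e_rc_18_1 lc_e_Cert_tree lc_e_rc_16_1 lc_e_rc_19_2 lc_e_rc_13_3 lc_e_rc_19_4 lc_e_Cert_tree lc_e_rc_18_1 lc_e_rc_18_1 lc_e_Cert_tree lc_e_Cert_tree lc_e_rc_18_1 lc_e_Cert_tree lc_e_Cert_tree lc_e_rc_18_1 lc_e_rc_19_2 lc_e_rc_9_1 lc_e_rc_4_3 lc_e_Cert_tree lc_e_Cert_tree lc_e_Cert_tree lc_e_rc_18_1 lc_e_Cert_tree lc_e_rc_18_1 lc_e_Cert_tree lc_e_Cert_tree lc_e_rc_18_1 lc_e_rc_4_3 lc_e_rc_19_2 lc_e_Cert_tree lc_e_Cert_tree lc_e_rc_18_1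 lc_e_Cert_tree lc_e_Cert_tree lc_e_rc_18_1 lc_e_Cert_tree lc_e_Cert_tree lc_e_Cert_tree lc_e_rc_18_1 lc_e_Cert_tree lc_e_Cert_tree lc_e_rc_16_1 lc_e_rc_13_3 lc_e_Cert_tree lc_e_Cert_tree lc_e_rc_16_3 lc_e_rc_18_1 lc_e_Cert_tree lc_e_Cert_tree lc_e_rc_27_5 lc_e_rc_18_1 lc_e_Cert_tree lc_e_rc_9_3 lc_e_rc_18_1 lc_e_Cert_tree lc_e_rc_18_1 lc_e_rc_4_3 lc_e_rc_16_3 lc_e_rc_18_1) (@D3.rec (fun _ => (Cert rels S Gen.e)) lc_e_Cert_tree lc_e_Cert_tree lc_e_Cert_tree lc_e_rc_18_1 lc_e_Cert_tree lc_e_Cert_tree lc_e_Cert_tree lc_e_Cert_tree lc_e_rc_18_1 lc_e_rc_18_1 lc_e_Cert_tree lc_e_rc_18_1 lc_e_rc_4_3 lc_e_rc_16_1 lc_e_rc_18_1 lc_e_rc_4_3 lc_e_rc_18_1 lc_e_rc_18_1 lc_e_Cert_tree lc_e_Cert_tree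 lc_e_rc_18_1 lc_e_rc_4_3 lc_e_rc_16_1 lc_e_rc_19_2 lc_e_rc_18_1 lc_e_rc_9_3 lc_e_rc_13_3 lc_e_rc_13_3 lc_e_Cert_tree lc_e_Cert_tree lc_e_rc_18_1 lc_e_Cert_tree lc_e_Cert_tree lc_e_rc_18_1 lc_e_Cert_tree lc_e_rc_18_1 lc_e_Cert_tree lc_e_rc_18_1 lc_e_rc_16_1 lc_e_Cert_tree lc_e_rc_18_1 lc_e_rc_13_3 lc_e_Cert_tree lc_e_rc_18_1 lc_e_Cert_tree lc_e_Cert_tree lc_e_Cert_tree lc_e_Cert_tree lc_e_rc_18_1 lc_e_Cert_tree lc_e_Cert_tree lc_e_Cert_tree lc_e_Cert_tree lc_e_Cert_tree lc_e_rc_18_1 lc_e_rc_18_1 lc_e_rc_16_3 lc_e_rc_19_2 lc_e_rc_18_1 lc_e_Cert_tree lc_e_Cert_tree lc_e_rc_18_1) (@D3.rec (fun _ => (Cert rels S Gen.e)) lc_e_Cert_tree lc_e_Cert_tree lc_e_rc_18_1 lc_e_Cert_tree lc_e_Cert_tree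 lc_e_rc_18_1 lc_e_Cert_tree lc_e_Cert_tree lc_e_Cert_tree lc_e_rc_18_1 lc_e_Cert_tree lc_e_Cert_tree lc_e_rc_16_1 lc_e_Cert_tree lc_e_Cert_tree lc_e_rc_18_1 lc_e_Cert_tree lc_e_Cert_tree lc_e_rc_18_1 lc_e_rc_18_1 lc_e_Cert_tree lc_e_rc_18_1 lc_e_rc_16_5 lc_e_rc_16_1 lc_e_rc_19_4 lc_e_rc_13_3 lc_e_rc_18_1 lc_e_rc_18_1 lc_e_rc_18_1 lc_e_Cert_tree lc_e_Cert_tree lc_e_rc_18_1 lc_e_rc_18_1 lc_e_Cert_tree lc_e_Cert_tree lc_e_rc_18_1 lc_e_Cert_tree lc_e_Cert_tree lc_e_rc_4_3 lc_e_Cert_tree lc_e_rc_18_1 lc_e_rc_16_1 lc_e_Cert_tree lc_e_rc_18_1 lc_e_Cert_tree lc_e_Cert_tree lc_e_rc_18_1 lc_e_rc_16_3 lc_e_rc_18_1 lc_e_Cert_tree lc_e_rc_18_1 lc_e_Cert_tree lc_e_rc_18_1 lc_e_Cert_tree lc_e_rc_18_1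 lc_e_Cert_tree lc_e_rc_19_2 lc_e_Cert_tree lc_e_Cert_tree lc_e_rc_18_1 lc_e_Cert_tree lc_e_Cert_tree) (@D3.rec (fun _ => (Cert rels S Gen.e)) lc_e_rc_18_1 lc_e_Cert_tree lc_e_Cert_tree lc_e_rc_18_1 lc_e_Cert_tree lc_e_Cert_tree lc_e_rc_18_1 lc_e_Cert_tree lc_e_Cert_tree lc_e_rc_16_1 lc_e_rc_19_2 lc_e_Cert_tree lc_e_rc_27_7 lc_e_rc_18_1 lc_e_rc_18_1 lc_e_Cert_tree lc_e_Cert_tree lc_e_rc_18_1 lc_e_Cert_tree lc_e_Cert_tree lc_e_rc_13_3 lc_e_Cert_tree lc_e_rc_18_1 lc_e_rc_18_1 lc_e_Cert_tree lc_e_Cert_tree lc_e_Cert_tree lc_e_Cert_tree lc_e_rc_18_1 lc_e_rc_18_1 lc_e_Cert_tree lc_e_Cert_tree lc_e_rc_16_1 lc_e_Cert_tree lc_e_rc_18_1 lc_e_rc_18_1 lc_e_Cert_tree lc_e_Cert_tree lc_e_Cert_tree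 lc_e_rc_18_1 lc_e_rc_16_5 lc_e_rc_18_1 lc_e_Cert_tree lc_e_Cert_tree lc_e_rc_18_1 lc_e_Cert_tree lc_e_Cert_tree lc_e_rc_18_1 lc_e_Cert_tree lc_e_Cert_tree lc_e_rc_18_1 lc_e_Cert_tree lc_e_Cert_tree lc_e_Cert_tree lc_e_Cert_tree lc_e_rc_18_1 lc_e_rc_18_1 lc_e_Cert_tree lc_e_Cert_tree lc_e_rc_16_1 lc_e_rc_19_4 lc_e_rc_9_3) (@D3.rec (fun _ => (Cert rels S Gen.e)) lc_e_rc_13_3 lc_e_rc_16_5 lc_e_Cert_tree lc_e_Cert_tree lc_e_rc_18_1 lc_e_rc_18_1 lc_e_Cert_tree lc_e_Cert_tree lc_e_rc_18_1 lc_e_rc_9_3 lc_e_Cert_tree lc_e_rc_13_1 lc_e_Cert_tree lc_e_rc_18_1 lc_e_Cert_tree lc_e_rc_18_1 lc_e_Cert_tree lc_e_Cert_tree lc_e_Cert_tree lc_e_rc_18_1 lc_e_Cert_tree lc_e_Cert_tree lc_e_rc_18_1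 lc_e_Cert_tree lc_e_Cert_tree lc_e_rc_16_1 lc_e_rc_27_7 lc_e_Cert_tree lc_e_rc_16_1 lc_e_rc_18_1 lc_e_Cert_tree lc_e_rc_9_3 lc_e_rc_18_1 lc_e_rc_18_1 lc_e_Cert_tree lc_e_Cert_tree lc_e_rc_18_1 lc_e_rc_16_5 lc_e_Cert_tree lc_e_rc_16_3 lc_e_rc_13_1 lc_e_Cert_tree lc_e_Cert_tree lc_e_Cert_tree lc_e_Cert_tree lc_e_rc_18_1 lc_e_rc_18_1 lc_e_rc_13_3 lc_e_Cert_tree lc_e_rc_16_1 lc_e_rc_19_2 lc_e_Cert_tree lc_e_rc_18_1 lc_e_rc_9_3 lc_e_Cert_tree lc_e_rc_13_3 lc_e_rc_27_5 lc_e_Cert_tree lc_e_Cert_tree lc_e_Cert_tree lc_e_Cert_tree lc_e_Cert_tree) (@D3.rec (fun _ => (Cert rels S Gen.e)) lc_e_rc_18_1 lc_e_rc_18_1 lc_e_Cert_tree lc_e_rc_18_1 lc_e_rc_16_1 lc_e_rc_27_5 lc_e_Cert_tree lc_e_Cert_tree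 lc_e_Cert_tree lc_e_Cert_tree lc_e_Cert_tree lc_e_rc_18_1 lc_e_rc_18_1 lc_e_rc_18_1 lc_e_rc_16_1 lc_e_rc_19_4 lc_e_Cert_tree lc_e_Cert_tree lc_e_rc_18_1 lc_e_Cert_tree lc_e_rc_18_1 lc_e_Cert_tree lc_e_Cert_tree lc_e_rc_18_1 lc_e_Cert_tree lc_e_rc_13_3 lc_e_rc_16_1 lc_e_rc_19_4 lc_e_Cert_tree lc_e_rc_18_1 lc_e_Cert_tree lc_e_rc_18_1 lc_e_Cert_tree lc_e_rc_18_1 lc_e_Cert_tree lc_e_Cert_tree lc_e_rc_16_1 lc_e_Cert_tree lc_e_rc_18_1 lc_e_Cert_tree lc_e_Cert_tree lc_e_Cert_tree lc_e_rc_18_1 lc_e_Cert_tree lc_e_rc_13_1 lc_e_rc_9_3 lc_e_rc_18_1 lc_e_Cert_tree lc_e_Cert_tree lc_e_rc_13_3 lc_e_Cert_tree lc_e_rc_18_1 lc_e_Cert_tree lc_e_rc_4_3 lc_e_rc_16_3 lc_e_rc_9_3 lc_e_Cert_tree lc_e_Cert_tree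 lc_e_Cert_tree lc_e_rc_18_1 lc_e_rc_19_0 lc_e_Cert_tree) (@D3.rec (fun _ => (Cert rels S Gen.e)) lc_e_Cert_tree lc_e_rc_18_1 lc_e_rc_27_7 lc_e_rc_9_3 lc_e_Cert_tree lc_e_rc_18_1 lc_e_rc_9_3 lc_e_Cert_tree lc_e_Cert_tree lc_e_rc_18_1 lc_e_rc_18_1 lc_e_Cert_tree lc_e_Cert_tree lc_e_rc_18_1 lc_e_rc_18_1 lc_e_rc_18_1 lc_e_rc_27_7 lc_e_Cert_tree lc_e_Cert_tree lc_e_rc_18_1 lc_e_rc_19_4 lc_e_rc_19_4 lc_e_rc_19_4 lc_e_rc_13_3 lc_e_rc_13_1 lc_e_Cert_tree lc_e_Cert_tree lc_e_Cert_tree lc_e_Cert_tree lc_e_rc_18_1 lc_e_rc_27_5 lc_e_Cert_tree lc_e_rc_9_1 lc_e_Cert_tree lc_e_Cert_tree lc_e_Cert_tree lc_e_rc_18_1 lc_e_rc_18_1 lc_e_Cert_tree lc_e_rc_19_4 lc_e_Cert_tree lc_e_rc_18_1 lc_e_Cert_tree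 lc_e_rc_18_1 lc_e_Cert_tree lc_e_rc_18_1 lc_e_Cert_tree lc_e_Cert_tree lc_e_rc_16_1 lc_e_rc_19_4 lc_e_rc_27_5 lc_e_Cert_tree lc_e_rc_19_4 lc_e_rc_18_1 lc_e_Cert_tree lc_e_Cert_tree lc_e_Cert_tree lc_e_rc_18_1 lc_e_rc_13_3 lc_e_rc_4_3 lc_e_Cert_tree lc_e_Cert_tree) (@D3.rec (fun _ => (Cert rels S Gen.e)) lc_e_rc_18_1 lc_e_rc_18_1 lc_e_rc_18_1 lc_e_rc_16_3 lc_e_rc_13_3 lc_e_Cert_tree lc_e_rc_18_1 lc_e_Cert_tree lc_e_rc_18_1 lc_e_Cert_tree lc_e_rc_18_1 lc_e_rc_18_1 lc_e_Cert_tree lc_e_rc_16_1 lc_e_rc_16_3 lc_e_rc_18_1 lc_e_rc_27_5 lc_e_rc_13_1 lc_e_Cert_tree lc_e_rc_18_1 lc_e_rc_19_4 lc_e_Cert_tree lc_e_rc_13_3 lc_e_rc_9_3 lc_e_rc_9_1 lc_e_rc_16_3 lc_e_Cert_tree lc_e_Cert_tree lc_e_rc_18_1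 lc_e_rc_18_1 lc_e_Cert_tree lc_e_Cert_tree lc_e_rc_18_1 lc_e_rc_4_1 lc_e_rc_16_3 lc_e_rc_19_4 lc_e_Cert_tree lc_e_Cert_tree lc_e_rc_18_1 lc_e_rc_16_5 lc_e_rc_13_3 lc_e_rc_9_3 lc_e_rc_13_3 lc_e_rc_9_3 lc_e_rc_13_3 lc_e_rc_13_3 lc_e_rc_9_3 lc_e_rc_19_0 lc_e_Cert_tree lc_e_rc_4_3 lc_e_rc_18_1 lc_e_rc_13_3 lc_e_rc_9_1 lc_e_Cert_tree lc_e_rc_18_1 lc_e_rc_27_7 lc_e_rc_9_3 lc_e_rc_27_7 lc_e_rc_27_1 lc_e_rc_19_0 lc_e_Cert_tree lc_e_rc_18_1) (@D3.rec (fun _ => (Cert rels S Gen.e)) lc_e_rc_18_1 lc_e_rc_19_4 lc_e_Cert_tree lc_e_rc_18_1 lc_e_rc_27_7 lc_e_Cert_tree lc_e_Cert_tree lc_e_rc_18_1 lc_e_rc_18_1 lc_e_rc_4_3 lc_e_rc_16_1 lc_e_rc_19_4 lc_e_Cert_tree lc_e_Cert_tree lc_e_rc_18_1 lc_e_Cert_tree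 lc_e_rc_18_1 lc_e_Cert_tree lc_e_Cert_tree lc_e_rc_13_3 lc_e_Cert_tree lc_e_Cert_tree lc_e_Cert_tree lc_e_rc_18_1 lc_e_Cert_tree lc_e_rc_18_1 lc_e_rc_16_5 lc_e_Cert_tree lc_e_rc_18_1 lc_e_Cert_tree lc_e_Cert_tree lc_e_rc_9_3 lc_e_Cert_tree lc_e_rc_19_4 lc_e_rc_9_1 lc_e_Cert_tree lc_e_rc_18_1 lc_e_rc_9_3 lc_e_Cert_tree lc_e_rc_27_7 lc_e_Cert_tree lc_e_rc_18_1 lc_e_Cert_tree lc_e_Cert_tree lc_e_rc_4_3 lc_e_Cert_tree lc_e_rc_18_1 lc_e_rc_18_1 lc_e_rc_16_3 lc_e_rc_16_3 lc_e_rc_9_1 lc_e_rc_9_1 lc_e_rc_16_3 lc_e_rc_19_4 lc_e_Cert_tree lc_e_Cert_tree lc_e_Cert_tree lc_e_rc_18_1 lc_e_Cert_tree lc_e_Cert_tree lc_e_rc_18_1 lc_e_Cert_tree) (@D3.rec (fun _ => (Cert rels S Gen.e)) lc_e_Cert_tree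 lc_e_rc_13_3 lc_e_Cert_tree lc_e_Cert_tree lc_e_rc_18_1 lc_e_rc_18_1 lc_e_rc_9_3 lc_e_Cert_tree lc_e_rc_18_1 lc_e_Cert_tree lc_e_rc_18_1 lc_e_rc_9_1 lc_e_rc_18_1 lc_e_rc_18_1 lc_e_Cert_tree lc_e_Cert_tree lc_e_rc_4_3 lc_e_Cert_tree lc_e_rc_19_4 lc_e_Cert_tree lc_e_rc_18_1 lc_e_Cert_tree lc_e_Cert_tree lc_e_Cert_tree lc_e_Cert_tree lc_e_rc_18_1 lc_e_Cert_tree lc_e_Cert_tree lc_e_Cert_tree lc_e_rc_18_1 lc_e_Cert_tree lc_e_Cert_tree lc_e_Cert_tree lc_e_Cert_tree lc_e_rc_18_1 lc_e_Cert_tree lc_e_rc_16_1 lc_e_rc_13_1 lc_e_rc_27_1 lc_e_rc_18_1 lc_e_rc_19_4 lc_e_Cert_tree lc_e_rc_18_1 lc_e_rc_9_3 lc_e_rc_27_7 lc_e_rc_18_1 lc_e_rc_9_3 lc_e_Cert_tree lc_e_rc_19_4 lc_e_rc_27_7 lc_e_rc_13_3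 lc_e_rc_4_3 lc_e_Cert_tree lc_e_rc_18_1 lc_e_Cert_tree lc_e_Cert_tree lc_e_rc_13_3 lc_e_Cert_tree lc_e_rc_13_3 lc_e_rc_18_1 lc_e_rc_9_3 lc_e_Cert_tree) (@D3.rec (fun _ => (Cert rels S Gen.e)) lc_e_Cert_tree lc_e_rc_18_1 lc_e_Cert_tree lc_e_rc_18_1 lc_e_rc_18_1 lc_e_rc_19_4 lc_e_rc_27_5 lc_e_rc_19_4 lc_e_Cert_tree lc_e_Cert_tree lc_e_rc_4_3 lc_e_Cert_tree lc_e_Cert_tree lc_e_Cert_tree lc_e_rc_18_1 lc_e_rc_18_1 lc_e_rc_27_5 lc_e_rc_16_3 lc_e_Cert_tree lc_e_rc_16_1 lc_e_rc_19_4 lc_e_Cert_tree lc_e_Cert_tree lc_e_rc_13_3 lc_e_Cert_tree lc_e_rc_27_1 lc_e_rc_18_1 lc_e_rc_19_4 lc_e_rc_19_4 lc_e_Cert_tree lc_e_rc_18_1 lc_e_rc_16_1 lc_e_rc_16_5 lc_e_Cert_tree lc_e_rc_18_1 lc_e_Cert_tree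 lc_e_rc_18_1 lc_e_rc_27_7 lc_e_rc_16_3 lc_e_rc_13_3 lc_e_Cert_tree lc_e_rc_18_1 lc_e_rc_13_3 lc_e_Cert_tree lc_e_rc_9_3 lc_e_Cert_tree lc_e_rc_19_4 lc_e_rc_9_3 lc_e_Cert_tree lc_e_Cert_tree lc_e_rc_18_1 lc_e_Cert_tree lc_e_Cert_tree lc_e_rc_13_3 lc_e_Cert_tree lc_e_Cert_tree lc_e_rc_18_1 lc_e_rc_18_1 lc_e_rc_16_5 lc_e_rc_13_1 lc_e_rc_18_1 lc_e_Cert_tree) (@D3.rec (fun _ => (Cert rels S Gen.e)) lc_e_rc_18_1 lc_e_rc_27_1 lc_e_rc_18_1 lc_e_rc_9_3 lc_e_Cert_tree lc_e_rc_18_1 lc_e_rc_18_1 lc_e_Cert_tree lc_e_rc_9_3 lc_e_Cert_tree lc_e_Cert_tree lc_e_rc_18_1 lc_e_Cert_tree lc_e_Cert_tree lc_e_rc_13_3 lc_e_Cert_tree lc_e_rc_18_1 lc_e_rc_16_1 lc_e_rc_19_4 lc_e_Cert_tree lc_e_Cert_tree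 lc_e_rc_13_3 lc_e_Cert_tree lc_e_Cert_tree lc_e_Cert_tree lc_e_rc_18_1 lc_e_Cert_tree lc_e_rc_13_3 lc_e_Cert_tree lc_e_Cert_tree lc_e_rc_18_1 lc_e_Cert_tree lc_e_Cert_tree lc_e_rc_18_1 lc_e_Cert_tree lc_e_Cert_tree lc_e_rc_13_3 lc_e_Cert_tree lc_e_Cert_tree lc_e_rc_18_1 lc_e_Cert_tree lc_e_Cert_tree lc_e_Cert_tree lc_e_rc_18_1 lc_e_rc_13_3 lc_e_rc_16_1 lc_e_rc_18_1 lc_e_rc_19_0 lc_e_Cert_tree lc_e_Cert_tree lc_e_rc_18_1 lc_e_Cert_tree lc_e_rc_18_1 lc_e_rc_27_1 lc_e_rc_16_1 lc_e_rc_9_3 lc_e_Cert_tree lc_e_Cert_tree lc_e_rc_18_1 lc_e_Cert_tree lc_e_Cert_tree lc_e_rc_18_1) (@D3.rec (fun _ => (Cert rels S Gen.e)) lc_e_Cert_tree lc_e_Cert_tree lc_e_rc_9_3 lc_e_Cert_tree lc_e_Cert_tree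 lc_e_rc_18_1 lc_e_Cert_tree lc_e_Cert_tree lc_e_Cert_tree lc_e_rc_18_1 lc_e_rc_18_1 lc_e_rc_16_1 lc_e_rc_18_1 lc_e_rc_27_1 lc_e_rc_27_5 lc_e_rc_18_1 lc_e_rc_16_5 lc_e_rc_13_3 lc_e_Cert_tree lc_e_rc_18_1 lc_e_Cert_tree lc_e_rc_18_1 lc_e_rc_27_1 lc_e_rc_16_1 lc_e_rc_19_4 lc_e_rc_9_1 lc_e_Cert_tree lc_e_rc_13_3 lc_e_rc_9_3 lc_e_rc_13_1 lc_e_rc_18_1 lc_e_rc_18_1 lc_e_rc_18_1 lc_e_rc_13_3 lc_e_Cert_tree lc_e_rc_13_1 lc_e_rc_18_1 lc_e_rc_18_1 lc_e_rc_16_3 lc_e_rc_16_3 lc_e_rc_18_1 lc_e_rc_27_7 lc_e_rc_16_3 lc_e_rc_19_4 lc_e_Cert_tree lc_e_Cert_tree lc_e_Cert_tree lc_e_rc_18_1 lc_e_rc_18_1 lc_e_Cert_tree lc_e_rc_18_1 lc_e_Cert_tree lc_e_Cert_tree lc_e_rc_13_3 lc_e_Cert_tree lc_e_Cert_tree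 lc_e_rc_18_1 lc_e_rc_18_1 lc_e_rc_9_3 lc_e_Cert_tree lc_e_Cert_tree lc_e_rc_18_1)
def ce_e_2 : D2 → D3 → (Cert rels S Gen.e) := @D2.rec (fun _ => D3 → (Cert rels S Gen.e)) (@D3.rec (fun _ => (Cert rels S Gen.e)) lc_e_rc_16_3 lc_e_rc_13_1 lc_e_rc_18_1 lc_e_rc_9_1 lc_e_Cert_tree lc_e_rc_18_1 lc_e_rc_18_1 lc_e_Cert_tree lc_e_rc_18_1 lc_e_rc_18_1 lc_e_Cert_tree lc_e_Cert_tree lc_e_rc_18_1 lc_e_Cert_tree lc_e_Cert_tree lc_e_rc_9_1 lc_e_Cert_tree lc_e_rc_19_4 lc_e_Cert_tree lc_e_rc_18_1 lc_e_Cert_tree lc_e_rc_18_1 lc_e_rc_18_1 lc_e_rc_16_3 lc_e_rc_16_3 lc_e_rc_9_1 lc_e_rc_27_1 lc_e_rc_16_3 lc_e_rc_19_4 lc_e_Cert_tree lc_e_Cert_tree lc_e_Cert_tree lc_e_rc_18_1 lc_e_Cert_tree lc_e_Cert_tree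 lc_e_Cert_tree lc_e_rc_18_1 lc_e_Cert_tree lc_e_Cert_tree lc_e_rc_13_3 lc_e_Cert_tree lc_e_Cert_tree lc_e_rc_16_1 lc_e_rc_16_5 lc_e_rc_18_1 lc_e_Cert_tree lc_e_rc_18_1 lc_e_Cert_tree lc_e_rc_18_1 lc_e_Cert_tree lc_e_rc_18_1 lc_e_rc_9_3 lc_e_Cert_tree lc_e_Cert_tree lc_e_rc_18_1 lc_e_rc_9_1 lc_e_rc_18_1 lc_e_rc_19_4 lc_e_rc_18_1 lc_e_Cert_tree lc_e_rc_4_3 lc_e_Cert_tree) (@D3.rec (fun _ => (Cert rels S Gen.e)) lc_e_rc_13_1 lc_e_Cert_tree lc_e_Cert_tree lc_e_rc_18_1 lc_e_Cert_tree lc_e_rc_18_1 lc_e_Cert_tree lc_e_rc_18_1 lc_e_rc_16_3 lc_e_rc_19_4 lc_e_Cert_tree lc_e_rc_18_1 lc_e_Cert_tree lc_e_rc_13_3 lc_e_Cert_tree lc_e_Cert_tree lc_e_rc_16_3 lc_e_rc_19_4 lc_e_Cert_tree lc_e_rc_16_3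 lc_e_rc_19_4 lc_e_Cert_tree lc_e_rc_18_1 lc_e_Cert_tree lc_e_rc_13_3 lc_e_Cert_tree lc_e_Cert_tree lc_e_Cert_tree lc_e_Cert_tree lc_e_rc_18_1 lc_e_Cert_tree lc_e_rc_18_1 lc_e_Cert_tree lc_e_Cert_tree lc_e_rc_13_3 lc_e_Cert_tree lc_e_Cert_tree lc_e_rc_18_1 lc_e_rc_19_0 lc_e_Cert_tree lc_e_rc_18_1 lc_e_Cert_tree lc_e_Cert_tree lc_e_Cert_tree lc_e_rc_18_1 lc_e_rc_13_1 lc_e_rc_16_1 lc_e_rc_9_3 lc_e_rc_9_1 lc_e_Cert_tree lc_e_Cert_tree lc_e_Cert_tree lc_e_rc_18_1 lc_e_Cert_tree lc_e_Cert_tree lc_e_rc_18_1 lc_e_Cert_tree lc_e_rc_18_1 lc_e_rc_16_1 lc_e_rc_9_3 lc_e_Cert_tree lc_e_Cert_tree) (@D3.rec (fun _ => (Cert rels S Gen.e)) lc_e_rc_27_1 lc_e_rc_18_1 lc_e_Cert_tree lc_e_Cert_tree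 lc_e_rc_27_5 lc_e_rc_18_1 lc_e_Cert_tree lc_e_Cert_tree lc_e_rc_9_3 lc_e_Cert_tree lc_e_Cert_tree lc_e_rc_18_1 lc_e_Cert_tree lc_e_Cert_tree lc_e_rc_18_1 lc_e_rc_13_3 lc_e_Cert_tree lc_e_rc_18_1 lc_e_Cert_tree lc_e_Cert_tree lc_e_Cert_tree lc_e_rc_18_1 lc_e_rc_18_1 lc_e_rc_18_1 lc_e_rc_18_1 lc_e_Cert_tree lc_e_rc_18_1 lc_e_Cert_tree lc_e_Cert_tree lc_e_rc_18_1 lc_e_rc_27_5 lc_e_Cert_tree lc_e_rc_19_4 lc_e_rc_19_2 lc_e_Cert_tree lc_e_Cert_tree lc_e_rc_18_1 lc_e_Cert_tree lc_e_Cert_tree lc_e_rc_18_1 lc_e_rc_16_1 lc_e_rc_9_3 lc_e_rc_9_1 lc_e_rc_18_1 lc_e_rc_16_5 lc_e_rc_16_1 lc_e_rc_19_4 lc_e_rc_13_3 lc_e_Cert_tree lc_e_Cert_tree lc_e_rc_18_1 lc_e_Cert_tree lc_e_rc_18_1 lc_e_rc_27_5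 lc_e_Cert_tree lc_e_rc_27_1 lc_e_rc_19_4 lc_e_Cert_tree lc_e_Cert_tree lc_e_rc_18_1 lc_e_Cert_tree lc_e_rc_18_1) (@D3.rec (fun _ => (Cert rels S Gen.e)) lc_e_Cert_tree lc_e_rc_27_5 lc_e_rc_19_4 lc_e_rc_16_5 lc_e_rc_18_1 lc_e_Cert_tree lc_e_Cert_tree lc_e_rc_4_3 lc_e_Cert_tree lc_e_Cert_tree lc_e_rc_18_1 lc_e_rc_18_1 lc_e_Cert_tree lc_e_rc_27_1 lc_e_rc_27_1 lc_e_rc_18_1 lc_e_rc_18_1 lc_e_rc_13_3 lc_e_rc_13_3 lc_e_rc_19_2 lc_e_Cert_tree lc_e_Cert_tree lc_e_rc_18_1 lc_e_Cert_tree lc_e_Cert_tree lc_e_Cert_tree lc_e_rc_18_1 lc_e_rc_9_3 lc_e_Cert_tree lc_e_rc_18_1 lc_e_Cert_tree lc_e_Cert_tree lc_e_rc_18_1 lc_e_Cert_tree lc_e_Cert_tree lc_e_rc_18_1 lc_e_rc_16_5 lc_e_rc_18_1 lc_e_rc_18_1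 lc_e_Cert_tree lc_e_rc_19_4 lc_e_rc_4_3 lc_e_rc_9_3 lc_e_rc_4_3 lc_e_rc_27_5 lc_e_Cert_tree lc_e_Cert_tree lc_e_rc_18_1 lc_e_Cert_tree lc_e_Cert_tree lc_e_Cert_tree lc_e_rc_18_1 lc_e_Cert_tree lc_e_rc_9_3 lc_e_rc_4_3 lc_e_rc_18_1 lc_e_rc_18_1 lc_e_rc_18_1 lc_e_rc_19_4 lc_e_rc_16_5 lc_e_Cert_tree lc_e_rc_27_1) (@D3.rec (fun _ => (Cert rels S Gen.e)) lc_e_rc_18_1 lc_e_rc_16_3 lc_e_rc_13_3 lc_e_rc_18_1 lc_e_rc_18_1 lc_e_rc_9_3 lc_e_Cert_tree lc_e_rc_19_4 lc_e_rc_18_1 lc_e_Cert_tree lc_e_rc_16_3 lc_e_rc_19_4 lc_e_rc_18_1 lc_e_Cert_tree lc_e_rc_16_3 lc_e_rc_19_4 lc_e_Cert_tree lc_e_rc_16_3 lc_e_rc_13_3 lc_e_rc_16_1 lc_e_rc_19_4 lc_e_Cert_tree lc_e_Cert_tree lc_e_rc_18_1 lc_e_Cert_tree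 lc_e_Cert_tree lc_e_Cert_tree lc_e_rc_18_1 lc_e_Cert_tree lc_e_Cert_tree lc_e_rc_13_3 lc_e_Cert_tree lc_e_Cert_tree lc_e_Cert_tree lc_e_rc_13_3 lc_e_Cert_tree lc_e_Cert_tree lc_e_rc_18_1 lc_e_rc_16_1 lc_e_rc_18_1 lc_e_Cert_tree lc_e_Cert_tree lc_e_rc_18_1 lc_e_Cert_tree lc_e_rc_18_1 lc_e_rc_9_3 lc_e_Cert_tree lc_e_Cert_tree lc_e_rc_18_1 lc_e_rc_9_3 lc_e_Cert_tree lc_e_rc_18_1 lc_e_Cert_tree lc_e_rc_13_3 lc_e_Cert_tree lc_e_rc_18_1 lc_e_rc_16_3 lc_e_rc_19_4 lc_e_Cert_tree lc_e_rc_18_1 lc_e_Cert_tree lc_e_rc_13_3) (@D3.rec (fun _ => (Cert rels S Gen.e)) lc_e_Cert_tree lc_e_Cert_tree lc_e_Cert_tree lc_e_rc_18_1 lc_e_Cert_tree lc_e_rc_18_1 lc_e_Cert_tree lc_e_Cert_tree lc_e_rc_13_3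 lc_e_Cert_tree lc_e_Cert_tree lc_e_Cert_tree lc_e_Cert_tree lc_e_rc_18_1 lc_e_rc_13_1 lc_e_rc_16_1 lc_e_rc_27_1 lc_e_Cert_tree lc_e_Cert_tree lc_e_rc_18_1 lc_e_Cert_tree lc_e_rc_18_1 lc_e_Cert_tree lc_e_rc_18_1 lc_e_rc_4_3 lc_e_rc_13_3 lc_e_Cert_tree lc_e_rc_18_1 lc_e_Cert_tree lc_e_Cert_tree lc_e_rc_18_1 lc_e_Cert_tree lc_e_Cert_tree lc_e_rc_9_3 lc_e_Cert_tree lc_e_Cert_tree lc_e_rc_18_1 lc_e_rc_9_3 lc_e_Cert_tree lc_e_Cert_tree lc_e_rc_18_1 lc_e_Cert_tree lc_e_Cert_tree lc_e_Cert_tree lc_e_rc_18_1 lc_e_rc_13_3 lc_e_rc_18_1 lc_e_rc_9_3 lc_e_Cert_tree lc_e_rc_13_1 lc_e_rc_18_1 lc_e_Cert_tree lc_e_rc_18_1 lc_e_rc_16_5 lc_e_rc_18_1 lc_e_rc_18_1 lc_e_Cert_tree lc_e_rc_19_4 lc_e_Cert_tree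 lc_e_Cert_tree lc_e_rc_18_1 lc_e_Cert_tree) (@D3.rec (fun _ => (Cert rels S Gen.e)) lc_e_Cert_tree lc_e_Cert_tree lc_e_rc_18_1 lc_e_rc_27_7 lc_e_rc_9_3 lc_e_rc_4_3 lc_e_Cert_tree lc_e_rc_18_1 lc_e_rc_16_5 lc_e_rc_19_4 lc_e_Cert_tree lc_e_Cert_tree lc_e_rc_18_1 lc_e_Cert_tree lc_e_rc_18_1 lc_e_rc_16_5 lc_e_Cert_tree lc_e_rc_19_4 lc_e_Cert_tree lc_e_Cert_tree lc_e_rc_18_1 lc_e_rc_9_1 lc_e_rc_18_1 lc_e_Cert_tree lc_e_rc_16_5 lc_e_rc_19_4 lc_e_rc_16_5 lc_e_rc_18_1 lc_e_rc_27_5 lc_e_rc_18_1 lc_e_Cert_tree lc_e_Cert_tree lc_e_rc_4_3 lc_e_Cert_tree lc_e_rc_19_0 lc_e_rc_19_0 lc_e_Cert_tree lc_e_Cert_tree lc_e_rc_18_1 lc_e_Cert_tree lc_e_Cert_tree lc_e_Cert_tree lc_e_rc_18_1 lc_e_rc_18_1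 lc_e_rc_27_1 lc_e_rc_13_3 lc_e_Cert_tree lc_e_rc_18_1 lc_e_rc_19_4 lc_e_rc_18_1 lc_e_rc_27_5 lc_e_Cert_tree lc_e_rc_19_4 lc_e_rc_9_3 lc_e_rc_27_5 lc_e_rc_27_7 lc_e_rc_27_5 lc_e_Cert_tree lc_e_rc_18_1 lc_e_Cert_tree lc_e_Cert_tree lc_e_Cert_tree) (@D3.rec (fun _ => (Cert rels S Gen.e)) lc_e_rc_18_1 lc_e_rc_27_1 lc_e_rc_16_1 lc_e_rc_19_4 lc_e_rc_13_3 lc_e_rc_4_1 lc_e_Cert_tree lc_e_Cert_tree lc_e_rc_18_1 lc_e_Cert_tree lc_e_Cert_tree lc_e_Cert_tree lc_e_rc_18_1 lc_e_rc_27_5 lc_e_rc_27_1 lc_e_rc_16_1 lc_e_rc_19_4 lc_e_rc_9_1 lc_e_rc_18_1 lc_e_rc_27_5 lc_e_rc_16_1 lc_e_rc_19_4 lc_e_rc_9_3 lc_e_rc_18_1 lc_e_rc_4_3 lc_e_rc_18_1 lc_e_Cert_tree lc_e_Cert_tree lc_e_rc_13_3 lc_e_Cert_tree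 lc_e_Cert_tree lc_e_rc_18_1 lc_e_rc_9_3 lc_e_Cert_tree lc_e_rc_13_1 lc_e_Cert_tree lc_e_rc_19_4 lc_e_rc_16_3 lc_e_rc_9_3 lc_e_Cert_tree lc_e_rc_18_1 lc_e_rc_13_3 lc_e_Cert_tree lc_e_Cert_tree lc_e_rc_18_1 lc_e_rc_18_1 lc_e_Cert_tree lc_e_rc_13_3 lc_e_rc_9_3 lc_e_Cert_tree lc_e_rc_19_4 lc_e_rc_16_1 lc_e_Cert_tree lc_e_Cert_tree lc_e_rc_13_3 lc_e_Cert_tree lc_e_rc_16_3 lc_e_rc_9_3 lc_e_rc_16_1 lc_e_Cert_tree lc_e_rc_13_3 lc_e_Cert_tree) (@D3.rec (fun _ => (Cert rels S Gen.e)) lc_e_rc_16_3 lc_e_rc_19_4 lc_e_rc_16_3 lc_e_rc_16_1 lc_e_Cert_tree lc_e_Cert_tree lc_e_rc_18_1 lc_e_Cert_tree lc_e_rc_13_3 lc_e_Cert_tree lc_e_Cert_tree lc_e_rc_18_1 lc_e_Cert_tree lc_e_rc_13_3 lc_e_Cert_tree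 lc_e_Cert_tree lc_e_Cert_tree lc_e_rc_18_1 lc_e_rc_13_3 lc_e_rc_27_1 lc_e_Cert_tree lc_e_rc_18_1 lc_e_Cert_tree lc_e_rc_18_1 lc_e_Cert_tree lc_e_rc_18_1 lc_e_Cert_tree lc_e_Cert_tree lc_e_rc_18_1 lc_e_Cert_tree lc_e_Cert_tree lc_e_rc_9_3 lc_e_Cert_tree lc_e_Cert_tree lc_e_rc_18_1 lc_e_Cert_tree lc_e_rc_18_1 lc_e_Cert_tree lc_e_rc_18_1 lc_e_rc_16_3 lc_e_rc_13_3 lc_e_rc_13_3 lc_e_Cert_tree lc_e_Cert_tree lc_e_rc_18_1 lc_e_rc_27_1 lc_e_Cert_tree lc_e_rc_18_1 lc_e_Cert_tree lc_e_rc_18_1 lc_e_rc_18_1 lc_e_Cert_tree lc_e_Cert_tree lc_e_Cert_tree lc_e_rc_18_1 lc_e_rc_27_1 lc_e_rc_9_3 lc_e_rc_9_3 lc_e_rc_9_1 lc_e_Cert_tree lc_e_rc_18_1 lc_e_rc_16_5) (@D3.rec (fun _ => (Cert rels S Gen.e))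 lc_e_rc_18_1 lc_e_Cert_tree lc_e_rc_18_1 lc_e_rc_9_1 lc_e_Cert_tree lc_e_rc_18_1 lc_e_Cert_tree lc_e_Cert_tree lc_e_rc_4_3 lc_e_Cert_tree lc_e_Cert_tree lc_e_Cert_tree lc_e_Cert_tree lc_e_Cert_tree lc_e_rc_18_1 lc_e_Cert_tree lc_e_rc_18_1 lc_e_Cert_tree lc_e_Cert_tree lc_e_rc_18_1 lc_e_rc_9_3 lc_e_Cert_tree lc_e_Cert_tree lc_e_Cert_tree lc_e_rc_13_1 lc_e_Cert_tree lc_e_rc_18_1 lc_e_rc_18_1 lc_e_rc_18_1 lc_e_Cert_tree lc_e_rc_16_1 lc_e_rc_19_4 lc_e_rc_27_5 lc_e_rc_18_1 lc_e_Cert_tree lc_e_Cert_tree lc_e_Cert_tree lc_e_Cert_tree lc_e_rc_18_1 lc_e_rc_18_1 lc_e_rc_18_1 lc_e_rc_16_1 lc_e_rc_13_3 lc_e_rc_13_3 lc_e_Cert_tree lc_e_rc_27_5 lc_e_rc_13_3 lc_e_Cert_tree lc_e_rc_18_1 lc_e_rc_27_5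 lc_e_Cert_tree lc_e_Cert_tree lc_e_Cert_tree lc_e_rc_18_1 lc_e_rc_18_1 lc_e_rc_13_3 lc_e_rc_27_5 lc_e_rc_16_1 lc_e_rc_19_4 lc_e_rc_13_3 lc_e_rc_13_3 lc_e_rc_18_1) (@D3.rec (fun _ => (Cert rels S Gen.e)) lc_e_rc_16_1 lc_e_rc_19_4 lc_e_rc_27_5 lc_e_Cert_tree lc_e_Cert_tree lc_e_Cert_tree lc_e_rc_18_1 lc_e_rc_18_1 lc_e_rc_16_1 lc_e_rc_19_4 lc_e_Cert_tree lc_e_Cert_tree lc_e_Cert_tree lc_e_Cert_tree lc_e_Cert_tree lc_e_rc_18_1 lc_e_Cert_tree lc_e_Cert_tree lc_e_Cert_tree lc_e_Cert_tree lc_e_rc_18_1 lc_e_Cert_tree lc_e_Cert_tree lc_e_Cert_tree lc_e_Cert_tree lc_e_rc_18_1 lc_e_Cert_tree lc_e_rc_18_1 lc_e_Cert_tree lc_e_rc_18_1 lc_e_Cert_tree lc_e_rc_18_1 lc_e_Cert_tree lc_e_Cert_tree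 lc_e_Cert_tree lc_e_rc_18_1 lc_e_rc_18_1 lc_e_Cert_tree lc_e_rc_16_3 lc_e_rc_13_3 lc_e_rc_9_1 lc_e_rc_19_2 lc_e_rc_27_5 lc_e_rc_18_1 lc_e_rc_13_1 lc_e_rc_27_1 lc_e_rc_16_3 lc_e_rc_19_4 lc_e_Cert_tree lc_e_rc_18_1 lc_e_Cert_tree lc_e_rc_13_3 lc_e_Cert_tree lc_e_Cert_tree lc_e_rc_18_1 lc_e_Cert_tree lc_e_rc_13_3 lc_e_Cert_tree lc_e_Cert_tree lc_e_rc_18_1 lc_e_Cert_tree lc_e_rc_13_3) (@D3.rec (fun _ => (Cert rels S Gen.e)) lc_e_Cert_tree lc_e_Cert_tree lc_e_rc_18_1 lc_e_Cert_tree lc_e_Cert_tree lc_e_Cert_tree lc_e_rc_18_1 lc_e_rc_18_1 lc_e_rc_16_1 lc_e_rc_9_3 lc_e_Cert_tree lc_e_rc_18_1 lc_e_rc_18_1 lc_e_Cert_tree lc_e_Cert_tree lc_e_rc_18_1 lc_e_Cert_tree lc_e_rc_18_1 lc_e_Cert_tree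 lc_e_Cert_tree lc_e_rc_9_3 lc_e_Cert_tree lc_e_Cert_tree lc_e_rc_18_1 lc_e_Cert_tree lc_e_Cert_tree lc_e_Cert_tree lc_e_rc_18_1 lc_e_rc_18_1 lc_e_rc_13_1 lc_e_rc_4_3 lc_e_Cert_tree lc_e_rc_18_1 lc_e_rc_16_5 lc_e_rc_13_1 lc_e_rc_27_5 lc_e_Cert_tree lc_e_rc_9_3 lc_e_rc_27_5 lc_e_Cert_tree lc_e_Cert_tree lc_e_Cert_tree lc_e_rc_18_1 lc_e_Cert_tree lc_e_Cert_tree lc_e_rc_18_1 lc_e_Cert_tree lc_e_rc_19_4 lc_e_Cert_tree lc_e_rc_18_1 lc_e_Cert_tree lc_e_Cert_tree lc_e_rc_18_1 lc_e_rc_18_1 lc_e_Cert_tree lc_e_rc_16_1 lc_e_rc_19_4 lc_e_Cert_tree lc_e_Cert_tree lc_e_rc_18_1 lc_e_Cert_tree lc_e_rc_27_5) (@D3.rec (fun _ => (Cert rels S Gen.e)) lc_e_rc_18_1 lc_e_Cert_tree lc_e_rc_27_5 lc_e_rc_19_4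 lc_e_Cert_tree lc_e_Cert_tree lc_e_rc_18_1 lc_e_Cert_tree lc_e_Cert_tree lc_e_rc_18_1 lc_e_Cert_tree lc_e_Cert_tree lc_e_rc_4_3 lc_e_Cert_tree lc_e_Cert_tree lc_e_rc_13_1 lc_e_Cert_tree lc_e_rc_18_1 lc_e_rc_18_1 lc_e_Cert_tree lc_e_rc_16_3 lc_e_Cert_tree lc_e_rc_18_1 lc_e_Cert_tree lc_e_rc_18_1 lc_e_rc_27_5 lc_e_Cert_tree lc_e_rc_19_4 lc_e_rc_18_1 lc_e_rc_19_2 lc_e_rc_13_1 lc_e_Cert_tree lc_e_rc_18_1 lc_e_rc_18_1 lc_e_rc_27_5 lc_e_rc_13_3 lc_e_rc_18_1 lc_e_Cert_tree lc_e_Cert_tree lc_e_Cert_tree lc_e_Cert_tree lc_e_rc_18_1 lc_e_rc_27_1 lc_e_rc_27_1 lc_e_Cert_tree lc_e_rc_18_1 lc_e_Cert_tree lc_e_rc_16_5 lc_e_rc_19_4 lc_e_rc_27_1 lc_e_rc_27_1 lc_e_rc_4_1 lc_e_rc_9_1 lc_e_rc_18_1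 lc_e_rc_13_3 lc_e_rc_13_3 lc_e_Cert_tree lc_e_rc_18_1 lc_e_rc_13_3 lc_e_rc_13_3 lc_e_rc_18_1 lc_e_Cert_tree) (@D3.rec (fun _ => (Cert rels S Gen.e)) lc_e_Cert_tree lc_e_Cert_tree lc_e_rc_18_1 lc_e_rc_18_1 lc_e_rc_16_1 lc_e_rc_19_4 lc_e_rc_13_3 lc_e_rc_9_3 lc_e_rc_27_5 lc_e_rc_27_1 lc_e_Cert_tree lc_e_rc_18_1 lc_e_rc_18_1 lc_e_rc_16_1 lc_e_rc_13_3 lc_e_rc_27_5 lc_e_Cert_tree lc_e_Cert_tree lc_e_Cert_tree lc_e_Cert_tree lc_e_rc_18_1 lc_e_rc_18_1 lc_e_rc_16_1 lc_e_rc_19_4 lc_e_rc_19_2 lc_e_rc_4_3 lc_e_rc_13_3 lc_e_Cert_tree lc_e_Cert_tree lc_e_Cert_tree lc_e_Cert_tree lc_e_rc_18_1 lc_e_Cert_tree lc_e_Cert_tree lc_e_Cert_tree lc_e_Cert_tree lc_e_rc_18_1 lc_e_Cert_tree lc_e_rc_18_1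 lc_e_Cert_tree lc_e_rc_18_1 lc_e_Cert_tree lc_e_rc_18_1 lc_e_Cert_tree lc_e_rc_18_1 lc_e_Cert_tree lc_e_Cert_tree lc_e_Cert_tree lc_e_rc_18_1 lc_e_rc_16_3 lc_e_rc_18_1 lc_e_Cert_tree lc_e_rc_13_3 lc_e_Cert_tree lc_e_Cert_tree lc_e_rc_18_1 lc_e_rc_16_1 lc_e_rc_16_1 lc_e_rc_19_4 lc_e_Cert_tree lc_e_rc_13_3 lc_e_rc_27_1) (@D3.rec (fun _ => (Cert rels S Gen.e)) lc_e_rc_9_3 lc_e_rc_13_3 lc_e_rc_18_1 lc_e_Cert_tree lc_e_Cert_tree lc_e_rc_18_1 lc_e_rc_18_1 lc_e_Cert_tree lc_e_Cert_tree lc_e_rc_18_1 lc_e_rc_9_3 lc_e_Cert_tree lc_e_Cert_tree lc_e_Cert_tree lc_e_Cert_tree lc_e_rc_18_1 lc_e_rc_16_1 lc_e_rc_18_1 lc_e_rc_13_3 lc_e_Cert_tree lc_e_rc_9_3 lc_e_Cert_tree lc_e_rc_9_3 lc_e_rc_13_1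 lc_e_Cert_tree lc_e_rc_18_1 lc_e_rc_19_4 lc_e_rc_13_3 lc_e_Cert_tree lc_e_rc_18_1 lc_e_Cert_tree lc_e_rc_18_1 lc_e_Cert_tree lc_e_rc_18_1 lc_e_rc_18_1 lc_e_rc_16_1 lc_e_rc_19_4 lc_e_rc_16_1 lc_e_rc_19_4 lc_e_rc_13_3 lc_e_rc_16_3 lc_e_rc_13_3 lc_e_Cert_tree lc_e_rc_27_5 lc_e_Cert_tree lc_e_rc_9_1 lc_e_rc_18_1 lc_e_rc_9_1 lc_e_Cert_tree lc_e_rc_9_3 lc_e_Cert_tree lc_e_rc_13_3 lc_e_Cert_tree lc_e_Cert_tree lc_e_rc_18_1 lc_e_Cert_tree lc_e_rc_18_1 lc_e_rc_9_3 lc_e_rc_4_3 lc_e_rc_16_1 lc_e_rc_18_1 lc_e_Cert_tree) (@D3.rec (fun _ => (Cert rels S Gen.e)) lc_e_Cert_tree lc_e_rc_16_1 lc_e_rc_19_4 lc_e_rc_13_1 lc_e_Cert_tree lc_e_rc_13_3 lc_e_Cert_tree lc_e_Cert_tree lc_e_Cert_tree lc_e_Cert_tree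 lc_e_rc_18_1 lc_e_Cert_tree lc_e_Cert_tree lc_e_rc_18_1 lc_e_rc_27_5 lc_e_rc_9_3 lc_e_Cert_tree lc_e_rc_18_1 lc_e_Cert_tree lc_e_rc_18_1 lc_e_rc_18_1 lc_e_rc_27_5 lc_e_rc_16_1 lc_e_rc_19_4 lc_e_Cert_tree lc_e_Cert_tree lc_e_rc_16_1 lc_e_rc_27_5 lc_e_rc_27_1 lc_e_Cert_tree lc_e_rc_18_1 lc_e_rc_9_3 lc_e_Cert_tree lc_e_rc_27_5 lc_e_rc_9_3 lc_e_Cert_tree lc_e_Cert_tree lc_e_rc_18_1 lc_e_rc_27_7 lc_e_Cert_tree lc_e_rc_27_7 lc_e_Cert_tree lc_e_Cert_tree lc_e_rc_18_1 lc_e_Cert_tree lc_e_Cert_tree lc_e_Cert_tree lc_e_rc_18_1 lc_e_Cert_tree lc_e_rc_27_1 lc_e_rc_16_1 lc_e_rc_4_1 lc_e_rc_18_1 lc_e_rc_13_3 lc_e_Cert_tree lc_e_rc_13_3 lc_e_Cert_tree lc_e_rc_18_1 lc_e_Cert_tree lc_e_rc_18_1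 lc_e_rc_4_1 lc_e_rc_16_1) (@D3.rec (fun _ => (Cert rels S Gen.e)) lc_e_rc_19_2 lc_e_Cert_tree lc_e_rc_18_1 lc_e_Cert_tree lc_e_Cert_tree lc_e_rc_18_1 lc_e_Cert_tree lc_e_rc_18_1 lc_e_Cert_tree lc_e_Cert_tree lc_e_Cert_tree lc_e_rc_18_1 lc_e_Cert_tree lc_e_Cert_tree lc_e_rc_19_4 lc_e_rc_4_3 lc_e_rc_16_3 lc_e_Cert_tree lc_e_Cert_tree lc_e_rc_18_1 lc_e_rc_13_3 lc_e_rc_18_1 lc_e_rc_16_3 lc_e_rc_18_1 lc_e_Cert_tree lc_e_Cert_tree lc_e_rc_18_1 lc_e_rc_13_3 lc_e_Cert_tree lc_e_rc_16_3 lc_e_rc_19_4 lc_e_Cert_tree lc_e_rc_9_3 lc_e_rc_18_1 lc_e_rc_9_3 lc_e_Cert_tree lc_e_Cert_tree lc_e_rc_19_2 lc_e_Cert_tree lc_e_Cert_tree lc_e_Cert_tree lc_e_rc_13_3 lc_e_rc_18_1 lc_e_Cert_tree lc_e_rc_18_1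 lc_e_Cert_tree lc_e_rc_18_1 lc_e_Cert_tree lc_e_rc_27_5 lc_e_rc_4_3 lc_e_Cert_tree lc_e_rc_18_1 lc_e_rc_9_3 lc_e_rc_18_1 lc_e_Cert_tree lc_e_rc_4_3 lc_e_Cert_tree lc_e_rc_19_4 lc_e_Cert_tree lc_e_rc_18_1 lc_e_Cert_tree lc_e_rc_4_3) (@D3.rec (fun _ => (Cert rels S Gen.e)) lc_e_rc_4_3 lc_e_rc_18_1 lc_e_Cert_tree lc_e_rc_18_1 lc_e_Cert_tree lc_e_Cert_tree lc_e_rc_19_4 lc_e_Cert_tree lc_e_Cert_tree lc_e_rc_18_1 lc_e_rc_16_3 lc_e_rc_18_1 lc_e_Cert_tree lc_e_rc_18_1 lc_e_rc_16_3 lc_e_Cert_tree lc_e_rc_18_1 lc_e_rc_13_3 lc_e_Cert_tree lc_e_rc_18_1 lc_e_rc_13_3 lc_e_Cert_tree lc_e_Cert_tree lc_e_Cert_tree lc_e_rc_18_1 lc_e_Cert_tree lc_e_rc_9_3 lc_e_rc_19_4 lc_e_Cert_tree lc_e_rc_18_1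 lc_e_rc_18_1 lc_e_Cert_tree lc_e_rc_16_3 lc_e_rc_19_4 lc_e_Cert_tree lc_e_Cert_tree lc_e_Cert_tree lc_e_rc_18_1 lc_e_Cert_tree lc_e_Cert_tree lc_e_rc_27_5 lc_e_rc_18_1 lc_e_rc_9_3 lc_e_rc_19_4 lc_e_rc_4_3 lc_e_Cert_tree lc_e_rc_18_1 lc_e_rc_18_1 lc_e_Cert_tree lc_e_rc_16_3 lc_e_rc_9_1 lc_e_Cert_tree lc_e_Cert_tree lc_e_rc_9_3 lc_e_Cert_tree lc_e_Cert_tree lc_e_rc_16_3 lc_e_rc_18_1 lc_e_rc_18_1 lc_e_rc_18_1 lc_e_rc_27_1 lc_e_rc_18_1) (@D3.rec (fun _ => (Cert rels S Gen.e)) lc_e_rc_9_3 lc_e_rc_27_1 lc_e_rc_19_4 lc_e_rc_13_3 lc_e_rc_4_1 lc_e_rc_18_1 lc_e_rc_27_5 lc_e_rc_27_1 lc_e_Cert_tree lc_e_rc_18_1 lc_e_rc_9_3 lc_e_rc_18_1 lc_e_rc_16_1 lc_e_rc_9_1 lc_e_rc_18_1 lc_e_rc_16_3 lc_e_rc_9_3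 lc_e_Cert_tree lc_e_rc_13_3 lc_e_rc_4_3 lc_e_rc_9_3 lc_e_rc_16_5 lc_e_rc_18_1 lc_e_rc_16_3 lc_e_rc_18_1 lc_e_rc_18_1 lc_e_rc_13_3 lc_e_rc_9_3 lc_e_rc_13_3 lc_e_rc_13_3 lc_e_rc_4_3 lc_e_Cert_tree lc_e_Cert_tree lc_e_rc_18_1 lc_e_rc_9_3 lc_e_rc_9_3 lc_e_rc_18_1 lc_e_rc_27_1 lc_e_rc_4_3 lc_e_Cert_tree lc_e_Cert_tree lc_e_rc_18_1 lc_e_rc_18_1 lc_e_Cert_tree lc_e_rc_13_3 lc_e_rc_4_1 lc_e_Cert_tree lc_e_rc_18_1 lc_e_rc_18_1 lc_e_rc_16_1 lc_e_rc_19_4 lc_e_rc_27_1 lc_e_rc_27_5 lc_e_Cert_tree lc_e_rc_18_1 lc_e_rc_27_1 lc_e_Cert_tree lc_e_rc_18_1 lc_e_rc_18_1 lc_e_Cert_tree lc_e_rc_16_3 lc_e_rc_18_1) (@D3.rec (fun _ => (Cert rels S Gen.e)) lc_e_Cert_tree lc_e_rc_13_3 lc_e_rc_13_3 lc_e_Cert_tree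 lc_e_rc_18_1 lc_e_rc_18_1 lc_e_rc_16_3 lc_e_Cert_tree lc_e_rc_18_1 lc_e_rc_16_1 lc_e_Cert_tree lc_e_Cert_tree lc_e_rc_18_1 lc_e_Cert_tree lc_e_Cert_tree lc_e_rc_18_1 lc_e_Cert_tree lc_e_Cert_tree lc_e_Cert_tree lc_e_rc_18_1 lc_e_rc_19_0 lc_e_rc_16_1 lc_e_rc_18_1 lc_e_rc_13_3 lc_e_rc_9_3 lc_e_Cert_tree lc_e_rc_16_3 lc_e_rc_4_3 lc_e_rc_27_1 lc_e_rc_19_4 lc_e_rc_27_5 lc_e_rc_18_1 lc_e_rc_19_2 lc_e_rc_9_3 lc_e_rc_13_3 lc_e_rc_9_3 lc_e_rc_9_3 lc_e_Cert_tree lc_e_rc_18_1 lc_e_rc_16_3 lc_e_Cert_tree lc_e_Cert_tree lc_e_rc_18_1 lc_e_rc_18_1 lc_e_Cert_tree lc_e_rc_18_1 lc_e_rc_27_1 lc_e_rc_27_5 lc_e_rc_13_3 lc_e_Cert_tree lc_e_Cert_tree lc_e_Cert_tree lc_e_rc_9_3 lc_e_Cert_tree lc_e_rc_18_1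 lc_e_Cert_tree lc_e_rc_18_1 lc_e_rc_16_1 lc_e_rc_27_1 lc_e_Cert_tree lc_e_rc_18_1 lc_e_Cert_tree) (@D3.rec (fun _ => (Cert rels S Gen.e)) lc_e_rc_18_1 lc_e_Cert_tree lc_e_rc_18_1 lc_e_Cert_tree lc_e_Cert_tree lc_e_rc_18_1 lc_e_Cert_tree lc_e_Cert_tree lc_e_rc_18_1 lc_e_Cert_tree lc_e_Cert_tree lc_e_Cert_tree lc_e_rc_18_1 lc_e_rc_18_1 lc_e_rc_18_1 lc_e_Cert_tree lc_e_rc_18_1 lc_e_Cert_tree lc_e_rc_18_1 lc_e_rc_16_1 lc_e_rc_19_4 lc_e_Cert_tree lc_e_rc_18_1 lc_e_Cert_tree lc_e_rc_18_1 lc_e_Cert_tree lc_e_Cert_tree lc_e_rc_18_1 lc_e_rc_16_3 lc_e_rc_18_1 lc_e_Cert_tree lc_e_Cert_tree lc_e_Cert_tree lc_e_Cert_tree lc_e_rc_18_1 lc_e_rc_13_3 lc_e_rc_18_1 lc_e_rc_9_3 lc_e_Cert_tree lc_e_Cert_tree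 lc_e_Cert_tree lc_e_rc_18_1 lc_e_Cert_tree lc_e_rc_18_1 lc_e_Cert_tree lc_e_Cert_tree lc_e_Cert_tree lc_e_Cert_tree lc_e_rc_18_1 lc_e_Cert_tree lc_e_rc_16_3 lc_e_Cert_tree lc_e_rc_18_1 lc_e_Cert_tree lc_e_Cert_tree lc_e_Cert_tree lc_e_Cert_tree lc_e_rc_18_1 lc_e_Cert_tree lc_e_Cert_tree lc_e_rc_16_3 lc_e_rc_27_5) (@D3.rec (fun _ => (Cert rels S Gen.e)) lc_e_rc_18_1 lc_e_rc_4_3 lc_e_Cert_tree lc_e_Cert_tree lc_e_rc_18_1 lc_e_rc_18_1 lc_e_rc_16_3 lc_e_rc_19_4 lc_e_Cert_tree lc_e_Cert_tree lc_e_rc_18_1 lc_e_Cert_tree lc_e_Cert_tree lc_e_rc_18_1 lc_e_Cert_tree lc_e_Cert_tree lc_e_Cert_tree lc_e_Cert_tree lc_e_rc_18_1 lc_e_Cert_tree lc_e_Cert_tree lc_e_Cert_tree lc_e_rc_18_1 lc_e_Cert_tree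 lc_e_Cert_tree lc_e_Cert_tree lc_e_rc_16_1 lc_e_Cert_tree lc_e_rc_18_1 lc_e_rc_27_5 lc_e_Cert_tree lc_e_rc_18_1 lc_e_Cert_tree lc_e_rc_18_1 lc_e_rc_18_1 lc_e_Cert_tree lc_e_rc_16_3 lc_e_rc_13_3 lc_e_rc_16_5 lc_e_rc_18_1 lc_e_rc_4_1 lc_e_Cert_tree lc_e_Cert_tree lc_e_rc_13_3 lc_e_Cert_tree lc_e_rc_18_1 lc_e_rc_27_5 lc_e_Cert_tree lc_e_Cert_tree lc_e_rc_18_1 lc_e_rc_9_3 lc_e_rc_9_3 lc_e_rc_16_3 lc_e_rc_18_1 lc_e_rc_9_3 lc_e_rc_16_5 lc_e_Cert_tree lc_e_rc_18_1 lc_e_rc_18_1 lc_e_rc_27_5 lc_e_rc_13_3 lc_e_rc_19_4) (@D3.rec (fun _ => (Cert rels S Gen.e)) lc_e_Cert_tree lc_e_rc_18_1 lc_e_Cert_tree lc_e_rc_18_1 lc_e_rc_18_1 lc_e_rc_4_1 lc_e_rc_16_3 lc_e_rc_19_4 lc_e_rc_16_5 lc_e_rc_16_3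 lc_e_rc_27_5 lc_e_Cert_tree lc_e_Cert_tree lc_e_rc_13_3 lc_e_Cert_tree lc_e_Cert_tree lc_e_Cert_tree lc_e_rc_18_1 lc_e_Cert_tree lc_e_Cert_tree lc_e_rc_18_1 lc_e_rc_18_1 lc_e_Cert_tree lc_e_Cert_tree lc_e_rc_16_3 lc_e_rc_19_4 lc_e_rc_9_1 lc_e_Cert_tree lc_e_rc_18_1 lc_e_Cert_tree lc_e_Cert_tree lc_e_rc_18_1 lc_e_Cert_tree lc_e_Cert_tree lc_e_rc_13_3 lc_e_Cert_tree lc_e_rc_9_3 lc_e_rc_18_1 lc_e_rc_18_1 lc_e_rc_18_1 lc_e_Cert_tree lc_e_rc_4_1 lc_e_rc_16_5 lc_e_Cert_tree lc_e_Cert_tree lc_e_rc_18_1 lc_e_Cert_tree lc_e_Cert_tree lc_e_rc_18_1 lc_e_rc_16_3 lc_e_Cert_tree lc_e_rc_18_1 lc_e_rc_18_1 lc_e_rc_27_5 lc_e_Cert_tree lc_e_rc_27_1 lc_e_rc_13_3 lc_e_Cert_tree lc_e_rc_18_1 lc_e_rc_19_2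 lc_e_Cert_tree lc_e_rc_18_1) (@D3.rec (fun _ => (Cert rels S Gen.e)) lc_e_rc_9_3 lc_e_rc_18_1 lc_e_Cert_tree lc_e_rc_18_1 lc_e_rc_16_3 lc_e_rc_19_4 lc_e_Cert_tree lc_e_rc_18_1 lc_e_Cert_tree lc_e_rc_13_3 lc_e_Cert_tree lc_e_Cert_tree lc_e_Cert_tree lc_e_rc_18_1 lc_e_Cert_tree lc_e_rc_18_1 lc_e_Cert_tree lc_e_Cert_tree lc_e_rc_13_3 lc_e_Cert_tree lc_e_Cert_tree lc_e_rc_18_1 lc_e_Cert_tree lc_e_rc_18_1 lc_e_Cert_tree lc_e_Cert_tree lc_e_rc_18_1 lc_e_rc_16_1 lc_e_rc_4_3 lc_e_rc_19_2 lc_e_Cert_tree lc_e_rc_18_1 lc_e_Cert_tree lc_e_rc_18_1 lc_e_Cert_tree lc_e_rc_18_1 lc_e_rc_9_3 lc_e_Cert_tree lc_e_Cert_tree lc_e_rc_18_1 lc_e_Cert_tree lc_e_Cert_tree lc_e_rc_18_1 lc_e_Cert_tree lc_e_Cert_tree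 lc_e_rc_9_3 lc_e_Cert_tree lc_e_Cert_tree lc_e_rc_18_1 lc_e_Cert_tree lc_e_Cert_tree lc_e_rc_18_1 lc_e_rc_18_1 lc_e_Cert_tree lc_e_rc_16_1 lc_e_Cert_tree lc_e_Cert_tree lc_e_rc_18_1 lc_e_Cert_tree lc_e_rc_27_1 lc_e_rc_19_4 lc_e_Cert_tree) (@D3.rec (fun _ => (Cert rels S Gen.e)) lc_e_rc_9_3 lc_e_rc_4_3 lc_e_Cert_tree lc_e_Cert_tree lc_e_rc_18_1 lc_e_rc_18_1 lc_e_Cert_tree lc_e_Cert_tree lc_e_rc_18_1 lc_e_rc_13_1 lc_e_rc_18_1 lc_e_rc_18_1 lc_e_rc_18_1 lc_e_rc_13_3 lc_e_rc_9_3 lc_e_rc_16_5 lc_e_rc_27_1 lc_e_Cert_tree lc_e_rc_18_1 lc_e_Cert_tree lc_e_rc_18_1 lc_e_Cert_tree lc_e_Cert_tree lc_e_rc_9_3 lc_e_Cert_tree lc_e_Cert_tree lc_e_rc_18_1 lc_e_Cert_tree lc_e_Cert_tree lc_e_rc_18_1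 lc_e_rc_18_1 lc_e_Cert_tree lc_e_rc_19_4 lc_e_Cert_tree lc_e_rc_13_1 lc_e_rc_18_1 lc_e_Cert_tree lc_e_rc_27_5 lc_e_Cert_tree lc_e_rc_9_3 lc_e_rc_4_3 lc_e_Cert_tree lc_e_rc_27_5 lc_e_rc_4_1 lc_e_rc_18_1 lc_e_rc_27_5 lc_e_rc_18_1 lc_e_rc_9_3 lc_e_rc_9_3 lc_e_rc_9_3 lc_e_rc_9_3 lc_e_rc_13_3 lc_e_rc_9_1 lc_e_rc_16_3 lc_e_rc_19_4 lc_e_Cert_tree lc_e_rc_16_3 lc_e_rc_19_4 lc_e_Cert_tree lc_e_Cert_tree lc_e_rc_13_3 lc_e_Cert_tree) (@D3.rec (fun _ => (Cert rels S Gen.e)) lc_e_Cert_tree lc_e_rc_16_3 lc_e_rc_19_4 lc_e_Cert_tree lc_e_rc_18_1 lc_e_Cert_tree lc_e_rc_13_3 lc_e_Cert_tree lc_e_Cert_tree lc_e_rc_18_1 lc_e_Cert_tree lc_e_Cert_tree lc_e_Cert_tree lc_e_rc_13_3 lc_e_Cert_tree lc_e_Cert_tree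 lc_e_rc_18_1 lc_e_rc_4_3 lc_e_Cert_tree lc_e_rc_18_1 lc_e_Cert_tree lc_e_Cert_tree lc_e_rc_18_1 lc_e_rc_16_1 lc_e_rc_27_1 lc_e_Cert_tree lc_e_Cert_tree lc_e_rc_18_1 lc_e_Cert_tree lc_e_rc_18_1 lc_e_Cert_tree lc_e_rc_18_1 lc_e_Cert_tree lc_e_Cert_tree lc_e_rc_18_1 lc_e_Cert_tree lc_e_Cert_tree lc_e_rc_18_1 lc_e_Cert_tree lc_e_Cert_tree lc_e_rc_9_1 lc_e_Cert_tree lc_e_Cert_tree lc_e_rc_18_1 lc_e_rc_18_1 lc_e_rc_13_3 lc_e_Cert_tree lc_e_rc_27_1 lc_e_rc_19_4 lc_e_Cert_tree lc_e_Cert_tree lc_e_rc_18_1 lc_e_Cert_tree lc_e_rc_27_1 lc_e_rc_19_4 lc_e_Cert_tree lc_e_Cert_tree lc_e_rc_9_1 lc_e_Cert_tree lc_e_Cert_tree lc_e_rc_18_1 lc_e_rc_18_1) (@D3.rec (fun _ => (Cert rels S Gen.e)) lc_e_Cert_tree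 lc_e_rc_16_5 lc_e_rc_13_3 lc_e_rc_27_7 lc_e_Cert_tree lc_e_rc_18_1 lc_e_rc_18_1 lc_e_rc_13_3 lc_e_Cert_tree lc_e_rc_27_5 lc_e_Cert_tree lc_e_rc_18_1 lc_e_rc_16_3 lc_e_rc_27_7 lc_e_Cert_tree lc_e_rc_18_1 lc_e_rc_27_1 lc_e_rc_13_1 lc_e_Cert_tree lc_e_rc_4_3 lc_e_rc_27_5 lc_e_rc_18_1 lc_e_rc_16_1 lc_e_rc_9_3 lc_e_Cert_tree lc_e_rc_18_1 lc_e_rc_9_3 lc_e_Cert_tree lc_e_rc_27_5 lc_e_Cert_tree lc_e_rc_27_5 lc_e_Cert_tree lc_e_Cert_tree lc_e_Cert_tree lc_e_Cert_tree lc_e_Cert_tree lc_e_rc_18_1 lc_e_Cert_tree lc_e_Cert_tree lc_e_rc_27_5 lc_e_Cert_tree lc_e_rc_18_1 lc_e_Cert_tree lc_e_rc_18_1 lc_e_Cert_tree lc_e_rc_18_1 lc_e_Cert_tree lc_e_Cert_tree lc_e_Cert_tree lc_e_rc_18_1 lc_e_rc_16_3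 lc_e_rc_18_1 lc_e_rc_13_1 lc_e_rc_19_4 lc_e_rc_16_1 lc_e_rc_19_4 lc_e_rc_27_1 lc_e_rc_27_1 lc_e_Cert_tree lc_e_rc_18_1 lc_e_Cert_tree lc_e_Cert_tree) (@D3.rec (fun _ => (Cert rels S Gen.e)) lc_e_rc_18_1 lc_e_rc_9_3 lc_e_Cert_tree lc_e_rc_18_1 lc_e_rc_13_3 lc_e_Cert_tree lc_e_rc_4_3 lc_e_rc_18_1 lc_e_rc_27_7 lc_e_Cert_tree lc_e_Cert_tree lc_e_rc_18_1 lc_e_Cert_tree lc_e_rc_4_1 lc_e_rc_16_1 lc_e_rc_27_5 lc_e_rc_18_1 lc_e_rc_13_3 lc_e_rc_27_5 lc_e_Cert_tree lc_e_Cert_tree lc_e_rc_18_1 lc_e_Cert_tree lc_e_rc_18_1 lc_e_Cert_tree lc_e_rc_18_1 lc_e_rc_18_1 lc_e_rc_16_1 lc_e_rc_19_2 lc_e_Cert_tree lc_e_Cert_tree lc_e_Cert_tree lc_e_rc_18_1 lc_e_Cert_tree lc_e_Cert_tree lc_e_rc_18_1 lc_e_Cert_tree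 lc_e_Cert_tree lc_e_rc_18_1 lc_e_Cert_tree lc_e_Cert_tree lc_e_Cert_tree lc_e_rc_18_1 lc_e_Cert_tree lc_e_Cert_tree lc_e_Cert_tree lc_e_rc_18_1 lc_e_rc_18_1 lc_e_rc_13_3 lc_e_rc_16_3 lc_e_Cert_tree lc_e_rc_27_1 lc_e_rc_18_1 lc_e_rc_9_3 lc_e_Cert_tree lc_e_rc_16_3 lc_e_Cert_tree lc_e_Cert_tree lc_e_rc_13_3 lc_e_rc_18_1 lc_e_rc_27_5 lc_e_rc_27_5) (@D3.rec (fun _ => (Cert rels S Gen.e)) lc_e_rc_27_1 lc_e_rc_18_1 lc_e_rc_13_1 lc_e_rc_16_3 lc_e_rc_13_3 lc_e_rc_16_3 lc_e_rc_13_3 lc_e_rc_16_5 lc_e_Cert_tree lc_e_Cert_tree lc_e_rc_13_3 lc_e_Cert_tree lc_e_rc_13_1 lc_e_Cert_tree lc_e_rc_18_1 lc_e_Cert_tree lc_e_rc_18_1 lc_e_Cert_tree lc_e_Cert_tree lc_e_Cert_tree lc_e_rc_18_1 lc_e_Cert_tree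 lc_e_rc_18_1 lc_e_Cert_tree lc_e_rc_18_1 lc_e_Cert_tree lc_e_rc_18_1 lc_e_rc_16_1 lc_e_Cert_tree lc_e_Cert_tree lc_e_rc_18_1 lc_e_Cert_tree lc_e_Cert_tree lc_e_rc_18_1 lc_e_Cert_tree lc_e_Cert_tree lc_e_rc_9_3 lc_e_Cert_tree lc_e_Cert_tree lc_e_rc_18_1 lc_e_Cert_tree lc_e_Cert_tree lc_e_Cert_tree lc_e_rc_18_1 lc_e_Cert_tree lc_e_Cert_tree lc_e_rc_18_1 lc_e_Cert_tree lc_e_rc_18_1 lc_e_Cert_tree lc_e_rc_13_3 lc_e_Cert_tree lc_e_Cert_tree lc_e_rc_18_1 lc_e_rc_27_5 lc_e_Cert_tree lc_e_rc_19_4 lc_e_Cert_tree lc_e_Cert_tree lc_e_rc_18_1 lc_e_Cert_tree lc_e_Cert_tree) (@D3.rec (fun _ => (Cert rels S Gen.e)) lc_e_Cert_tree lc_e_rc_18_1 lc_e_rc_9_3 lc_e_rc_9_3 lc_e_rc_16_1 lc_e_Cert_tree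 lc_e_Cert_tree lc_e_rc_18_1 lc_e_rc_18_1 lc_e_rc_16_1 lc_e_rc_19_4 lc_e_rc_13_3 lc_e_Cert_tree lc_e_rc_18_1 lc_e_Cert_tree lc_e_Cert_tree lc_e_rc_18_1 lc_e_rc_18_1 lc_e_Cert_tree lc_e_rc_19_4 lc_e_Cert_tree lc_e_Cert_tree lc_e_rc_18_1 lc_e_Cert_tree lc_e_Cert_tree lc_e_rc_18_1 lc_e_Cert_tree lc_e_rc_27_5 lc_e_rc_16_5 lc_e_Cert_tree lc_e_Cert_tree lc_e_rc_18_1 lc_e_Cert_tree lc_e_Cert_tree lc_e_rc_18_1 lc_e_Cert_tree lc_e_Cert_tree lc_e_rc_4_3 lc_e_Cert_tree lc_e_Cert_tree lc_e_Cert_tree lc_e_Cert_tree lc_e_rc_18_1 lc_e_rc_18_1 lc_e_rc_18_1 lc_e_Cert_tree lc_e_Cert_tree lc_e_Cert_tree lc_e_Cert_tree lc_e_rc_18_1 lc_e_rc_13_3 lc_e_rc_9_3 lc_e_rc_13_3 lc_e_rc_18_1 lc_e_rc_13_3 lc_e_rc_18_1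 lc_e_Cert_tree lc_e_Cert_tree lc_e_Cert_tree lc_e_Cert_tree lc_e_rc_18_1 lc_e_Cert_tree) (@D3.rec (fun _ => (Cert rels S Gen.e)) lc_e_Cert_tree lc_e_rc_18_1 lc_e_rc_9_3 lc_e_rc_13_3 lc_e_Cert_tree lc_e_rc_18_1 lc_e_rc_27_5 lc_e_Cert_tree lc_e_rc_19_4 lc_e_Cert_tree lc_e_rc_4_3 lc_e_Cert_tree lc_e_Cert_tree lc_e_rc_18_1 lc_e_rc_9_3 lc_e_Cert_tree lc_e_Cert_tree lc_e_rc_18_1 lc_e_Cert_tree lc_e_rc_18_1 lc_e_rc_16_5 lc_e_Cert_tree lc_e_Cert_tree lc_e_rc_18_1 lc_e_rc_16_1 lc_e_Cert_tree lc_e_rc_18_1 lc_e_rc_16_5 lc_e_rc_16_1 lc_e_rc_19_4 lc_e_rc_13_3 lc_e_Cert_tree lc_e_Cert_tree lc_e_rc_4_1 lc_e_Cert_tree lc_e_rc_18_1 lc_e_rc_9_3 lc_e_Cert_tree lc_e_Cert_tree lc_e_Cert_tree lc_e_rc_18_1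 lc_e_Cert_tree lc_e_rc_18_1 lc_e_Cert_tree lc_e_Cert_tree lc_e_rc_18_1 lc_e_rc_19_0 lc_e_rc_4_1 lc_e_rc_27_5 lc_e_rc_18_1 lc_e_rc_18_1 lc_e_rc_16_1 lc_e_Cert_tree lc_e_rc_18_1 lc_e_Cert_tree lc_e_Cert_tree lc_e_rc_18_1 lc_e_rc_19_0 lc_e_Cert_tree lc_e_rc_9_1 lc_e_Cert_tree lc_e_rc_18_1) (@D3.rec (fun _ => (Cert rels S Gen.e)) lc_e_rc_18_1 lc_e_rc_16_1 lc_e_rc_4_1 lc_e_Cert_tree lc_e_Cert_tree lc_e_Cert_tree lc_e_rc_18_1 lc_e_rc_19_2 lc_e_rc_19_0 lc_e_rc_19_0 lc_e_Cert_tree lc_e_Cert_tree lc_e_Cert_tree lc_e_Cert_tree lc_e_Cert_tree lc_e_rc_18_1 lc_e_Cert_tree lc_e_Cert_tree lc_e_rc_18_1 lc_e_Cert_tree lc_e_rc_18_1 lc_e_Cert_tree lc_e_rc_18_1 lc_e_Cert_tree lc_e_Cert_tree lc_e_Cert_tree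 lc_e_rc_18_1 lc_e_Cert_tree lc_e_rc_18_1 lc_e_Cert_tree lc_e_rc_16_5 lc_e_Cert_tree lc_e_rc_18_1 lc_e_Cert_tree lc_e_rc_18_1 lc_e_Cert_tree lc_e_rc_18_1 lc_e_rc_16_1 lc_e_Cert_tree lc_e_Cert_tree lc_e_rc_18_1 lc_e_Cert_tree lc_e_Cert_tree lc_e_rc_18_1 lc_e_Cert_tree lc_e_Cert_tree lc_e_rc_9_3 lc_e_Cert_tree lc_e_Cert_tree lc_e_rc_18_1 lc_e_rc_9_3 lc_e_Cert_tree lc_e_Cert_tree lc_e_rc_9_1 lc_e_Cert_tree lc_e_Cert_tree lc_e_Cert_tree lc_e_rc_18_1 lc_e_Cert_tree lc_e_Cert_tree lc_e_rc_18_1 lc_e_rc_13_3) (@D3.rec (fun _ => (Cert rels S Gen.e)) lc_e_Cert_tree lc_e_Cert_tree lc_e_rc_18_1 lc_e_rc_27_5 lc_e_Cert_tree lc_e_rc_19_4 lc_e_rc_16_3 lc_e_Cert_tree lc_e_Cert_tree lc_e_rc_18_1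 lc_e_rc_16_1 lc_e_Cert_tree lc_e_Cert_tree lc_e_rc_18_1 lc_e_rc_16_5 lc_e_rc_16_1 lc_e_rc_19_4 lc_e_rc_13_3 lc_e_Cert_tree lc_e_Cert_tree lc_e_rc_18_1 lc_e_Cert_tree lc_e_Cert_tree lc_e_rc_18_1 lc_e_rc_18_1 lc_e_Cert_tree lc_e_rc_19_4 lc_e_Cert_tree lc_e_rc_18_1 lc_e_Cert_tree lc_e_Cert_tree lc_e_rc_18_1 lc_e_Cert_tree lc_e_rc_27_5 lc_e_rc_19_4 lc_e_Cert_tree lc_e_Cert_tree lc_e_rc_18_1 lc_e_Cert_tree lc_e_Cert_tree lc_e_rc_18_1 lc_e_Cert_tree lc_e_Cert_tree lc_e_rc_4_3 lc_e_Cert_tree lc_e_Cert_tree lc_e_Cert_tree lc_e_Cert_tree lc_e_rc_18_1 lc_e_rc_18_1 lc_e_Cert_tree lc_e_Cert_tree lc_e_Cert_tree lc_e_Cert_tree lc_e_rc_18_1 lc_e_Cert_tree lc_e_rc_18_1 lc_e_rc_9_3 lc_e_Cert_tree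 lc_e_rc_18_1 lc_e_rc_27_5 lc_e_Cert_tree) (@D3.rec (fun _ => (Cert rels S Gen.e)) lc_e_rc_19_4 lc_e_rc_18_1 lc_e_rc_9_3 lc_e_rc_9_3 lc_e_Cert_tree lc_e_rc_13_1 lc_e_rc_18_1 lc_e_Cert_tree lc_e_rc_18_1 lc_e_Cert_tree lc_e_rc_18_1 lc_e_rc_16_5 lc_e_Cert_tree lc_e_Cert_tree lc_e_rc_18_1 lc_e_rc_16_1 lc_e_rc_9_3 lc_e_Cert_tree lc_e_rc_18_1 lc_e_rc_13_3 lc_e_Cert_tree lc_e_rc_9_1 lc_e_Cert_tree lc_e_rc_13_3 lc_e_rc_16_5 lc_e_Cert_tree lc_e_Cert_tree lc_e_rc_18_1 lc_e_rc_16_1 lc_e_Cert_tree lc_e_rc_18_1 lc_e_rc_16_5 lc_e_rc_16_1 lc_e_rc_19_4 lc_e_rc_13_3 lc_e_rc_4_3 lc_e_Cert_tree lc_e_rc_18_1 lc_e_Cert_tree lc_e_Cert_tree lc_e_rc_18_1 lc_e_rc_18_1 lc_e_rc_13_3 lc_e_Cert_tree lc_e_Cert_tree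 lc_e_rc_18_1 lc_e_rc_27_1 lc_e_Cert_tree lc_e_rc_18_1 lc_e_rc_18_1 lc_e_rc_16_1 lc_e_rc_27_5 lc_e_rc_4_3 lc_e_Cert_tree lc_e_Cert_tree lc_e_Cert_tree lc_e_rc_18_1 lc_e_rc_18_1 lc_e_rc_18_1 lc_e_Cert_tree lc_e_Cert_tree lc_e_rc_18_1) (@D3.rec (fun _ => (Cert rels S Gen.e)) lc_e_rc_18_1 lc_e_rc_16_1 lc_e_rc_9_3 lc_e_Cert_tree lc_e_Cert_tree lc_e_rc_18_1 lc_e_Cert_tree lc_e_rc_18_1 lc_e_Cert_tree lc_e_rc_18_1 lc_e_Cert_tree lc_e_rc_18_1 lc_e_Cert_tree lc_e_Cert_tree lc_e_Cert_tree lc_e_rc_18_1 lc_e_rc_16_3 lc_e_rc_13_3 lc_e_rc_16_3 lc_e_rc_16_3 lc_e_rc_13_3 lc_e_rc_13_3 lc_e_rc_16_5 lc_e_Cert_tree lc_e_Cert_tree lc_e_rc_13_3 lc_e_Cert_tree lc_e_Cert_tree lc_e_rc_18_1 lc_e_rc_27_5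 lc_e_Cert_tree lc_e_rc_18_1 lc_e_Cert_tree lc_e_Cert_tree lc_e_rc_18_1 lc_e_Cert_tree lc_e_rc_18_1 lc_e_rc_18_1 lc_e_Cert_tree lc_e_rc_18_1 lc_e_Cert_tree lc_e_rc_18_1 lc_e_rc_16_1 lc_e_Cert_tree lc_e_Cert_tree lc_e_rc_18_1 lc_e_Cert_tree lc_e_Cert_tree lc_e_rc_18_1 lc_e_Cert_tree lc_e_Cert_tree lc_e_rc_9_3 lc_e_Cert_tree lc_e_Cert_tree lc_e_rc_18_1 lc_e_Cert_tree lc_e_rc_18_1 lc_e_rc_27_5 lc_e_Cert_tree lc_e_rc_19_4 lc_e_Cert_tree lc_e_rc_18_1) (@D3.rec (fun _ => (Cert rels S Gen.e)) lc_e_Cert_tree lc_e_rc_27_5 lc_e_rc_19_4 lc_e_Cert_tree lc_e_Cert_tree lc_e_rc_4_3 lc_e_Cert_tree lc_e_Cert_tree lc_e_rc_18_1 lc_e_rc_18_1 lc_e_rc_18_1 lc_e_rc_16_3 lc_e_rc_13_3 lc_e_rc_16_3 lc_e_rc_13_3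 lc_e_rc_16_5 lc_e_Cert_tree lc_e_Cert_tree lc_e_rc_13_3 lc_e_Cert_tree lc_e_rc_16_3 lc_e_rc_16_3 lc_e_Cert_tree lc_e_rc_18_1 lc_e_Cert_tree lc_e_Cert_tree lc_e_rc_18_1 lc_e_Cert_tree lc_e_Cert_tree lc_e_rc_19_2 lc_e_Cert_tree lc_e_Cert_tree lc_e_Cert_tree lc_e_rc_18_1 lc_e_Cert_tree lc_e_rc_18_1 lc_e_Cert_tree lc_e_rc_18_1 lc_e_rc_16_1 lc_e_Cert_tree lc_e_rc_18_1 lc_e_Cert_tree lc_e_Cert_tree lc_e_rc_18_1 lc_e_Cert_tree lc_e_Cert_tree lc_e_rc_9_3 lc_e_Cert_tree lc_e_Cert_tree lc_e_rc_18_1 lc_e_Cert_tree lc_e_rc_18_1 lc_e_rc_27_5 lc_e_Cert_tree lc_e_rc_19_4 lc_e_Cert_tree lc_e_rc_18_1 lc_e_Cert_tree lc_e_rc_27_5 lc_e_rc_19_4 lc_e_Cert_tree lc_e_Cert_tree) (@D3.rec (fun _ => (Cert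 rels S Gen.e)) lc_e_rc_4_3 lc_e_Cert_tree lc_e_Cert_tree lc_e_rc_18_1 lc_e_rc_18_1 lc_e_rc_18_1 lc_e_Cert_tree lc_e_rc_18_1 lc_e_Cert_tree lc_e_rc_18_1 lc_e_Cert_tree lc_e_Cert_tree lc_e_rc_13_3 lc_e_Cert_tree lc_e_Cert_tree lc_e_rc_18_1 lc_e_Cert_tree lc_e_rc_13_3 lc_e_Cert_tree lc_e_Cert_tree lc_e_rc_18_1 lc_e_Cert_tree lc_e_rc_27_1 lc_e_rc_18_1 lc_e_Cert_tree lc_e_Cert_tree lc_e_rc_9_3 lc_e_Cert_tree lc_e_Cert_tree lc_e_rc_18_1 lc_e_Cert_tree lc_e_Cert_tree lc_e_rc_13_3 lc_e_Cert_tree lc_e_Cert_tree lc_e_rc_18_1 lc_e_rc_9_3 lc_e_rc_16_1 lc_e_rc_4_3 lc_e_Cert_tree lc_e_rc_18_1 lc_e_Cert_tree lc_e_Cert_tree lc_e_rc_9_3 lc_e_Cert_tree lc_e_Cert_tree lc_e_rc_18_1 lc_e_Cert_tree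 lc_e_Cert_tree lc_e_rc_13_3 lc_e_Cert_tree lc_e_Cert_tree lc_e_rc_18_1 lc_e_rc_27_7 lc_e_Cert_tree lc_e_rc_18_1 lc_e_Cert_tree lc_e_rc_18_1 lc_e_Cert_tree lc_e_rc_18_1 lc_e_Cert_tree lc_e_Cert_tree) (@D3.rec (fun _ => (Cert rels S Gen.e)) lc_e_rc_27_7 lc_e_rc_18_1 lc_e_Cert_tree lc_e_Cert_tree lc_e_rc_18_1 lc_e_Cert_tree lc_e_Cert_tree lc_e_rc_9_3 lc_e_Cert_tree lc_e_Cert_tree lc_e_rc_18_1 lc_e_rc_13_3 lc_e_rc_13_3 lc_e_rc_16_3 lc_e_Cert_tree lc_e_rc_18_1 lc_e_Cert_tree lc_e_rc_13_3 lc_e_Cert_tree lc_e_Cert_tree lc_e_rc_18_1 lc_e_Cert_tree lc_e_rc_9_3 lc_e_Cert_tree lc_e_rc_18_1 lc_e_Cert_tree lc_e_rc_18_1 lc_e_Cert_tree lc_e_Cert_tree lc_e_rc_18_1 lc_e_Cert_tree lc_e_rc_18_1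 lc_e_Cert_tree lc_e_Cert_tree lc_e_rc_9_3 lc_e_Cert_tree lc_e_Cert_tree lc_e_rc_18_1 lc_e_Cert_tree lc_e_Cert_tree lc_e_Cert_tree lc_e_Cert_tree lc_e_rc_18_1 lc_e_rc_18_1 lc_e_rc_16_1 lc_e_rc_4_3 lc_e_Cert_tree lc_e_Cert_tree lc_e_rc_18_1 lc_e_Cert_tree lc_e_Cert_tree lc_e_Cert_tree lc_e_rc_18_1 lc_e_rc_27_5 lc_e_rc_16_1 lc_e_rc_18_1 lc_e_Cert_tree lc_e_rc_18_1 lc_e_Cert_tree lc_e_rc_18_1 lc_e_Cert_tree lc_e_Cert_tree) (@D3.rec (fun _ => (Cert rels S Gen.e)) lc_e_Cert_tree lc_e_Cert_tree lc_e_rc_18_1 lc_e_rc_18_1 lc_e_Cert_tree lc_e_rc_16_1 lc_e_rc_19_4 lc_e_rc_16_5 lc_e_rc_13_3 lc_e_Cert_tree lc_e_Cert_tree lc_e_rc_18_1 lc_e_rc_9_1 lc_e_Cert_tree lc_e_Cert_tree lc_e_rc_18_1 lc_e_rc_27_1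 lc_e_rc_16_1 lc_e_rc_4_3 lc_e_Cert_tree lc_e_rc_18_1 lc_e_rc_27_1 lc_e_rc_16_1 lc_e_rc_18_1 lc_e_Cert_tree lc_e_Cert_tree lc_e_rc_18_1 lc_e_Cert_tree lc_e_rc_18_1 lc_e_rc_16_1 lc_e_rc_9_3 lc_e_rc_13_3 lc_e_Cert_tree lc_e_Cert_tree lc_e_rc_18_1 lc_e_rc_18_1 lc_e_Cert_tree lc_e_rc_4_1 lc_e_Cert_tree lc_e_Cert_tree lc_e_rc_18_1 lc_e_rc_27_1 lc_e_Cert_tree lc_e_rc_18_1 lc_e_rc_18_1 lc_e_Cert_tree lc_e_rc_16_1 lc_e_rc_9_3 lc_e_Cert_tree lc_e_Cert_tree lc_e_rc_18_1 lc_e_rc_9_1 lc_e_Cert_tree lc_e_rc_18_1 lc_e_rc_18_1 lc_e_Cert_tree lc_e_rc_27_1 lc_e_rc_18_1 lc_e_rc_9_3 lc_e_Cert_tree lc_e_Cert_tree lc_e_Cert_tree) (@D3.rec (fun _ => (Cert rels S Gen.e)) lc_e_rc_18_1 lc_e_Cert_tree lc_e_Cert_tree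 lc_e_Cert_tree lc_e_rc_18_1 lc_e_Cert_tree lc_e_Cert_tree lc_e_rc_4_3 lc_e_Cert_tree lc_e_Cert_tree lc_e_Cert_tree lc_e_Cert_tree lc_e_Cert_tree lc_e_rc_18_1 lc_e_Cert_tree lc_e_rc_18_1 lc_e_Cert_tree lc_e_Cert_tree lc_e_Cert_tree lc_e_rc_27_1 lc_e_Cert_tree lc_e_rc_18_1 lc_e_rc_13_3 lc_e_rc_13_3 lc_e_Cert_tree lc_e_rc_19_4 lc_e_rc_18_1 lc_e_rc_27_5 lc_e_Cert_tree lc_e_rc_19_4 lc_e_rc_9_3 lc_e_Cert_tree lc_e_rc_18_1 lc_e_Cert_tree lc_e_rc_13_1 lc_e_rc_18_1 lc_e_rc_18_1 lc_e_rc_19_4 lc_e_Cert_tree lc_e_rc_18_1 lc_e_Cert_tree lc_e_rc_27_7 lc_e_rc_18_1 lc_e_rc_18_1 lc_e_Cert_tree lc_e_rc_19_4 lc_e_Cert_tree lc_e_rc_18_1 lc_e_rc_16_5 lc_e_rc_13_1 lc_e_Cert_tree lc_e_rc_27_5 lc_e_rc_19_4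 lc_e_Cert_tree lc_e_Cert_tree lc_e_rc_18_1 lc_e_rc_16_5 lc_e_rc_9_3 lc_e_Cert_tree lc_e_Cert_tree lc_e_rc_4_3 lc_e_Cert_tree) (@D3.rec (fun _ => (Cert rels S Gen.e)) lc_e_Cert_tree lc_e_rc_19_4 lc_e_rc_18_1 lc_e_rc_18_1 lc_e_Cert_tree lc_e_Cert_tree lc_e_rc_18_1 lc_e_Cert_tree lc_e_rc_18_1 lc_e_rc_18_1 lc_e_rc_9_1 lc_e_Cert_tree lc_e_rc_18_1 lc_e_Cert_tree lc_e_Cert_tree lc_e_rc_18_1 lc_e_Cert_tree lc_e_Cert_tree lc_e_Cert_tree lc_e_Cert_tree lc_e_rc_18_1 lc_e_rc_27_5 lc_e_Cert_tree lc_e_rc_19_4 lc_e_rc_13_3 lc_e_Cert_tree lc_e_Cert_tree lc_e_Cert_tree lc_e_rc_16_3 lc_e_rc_18_1 lc_e_Cert_tree lc_e_rc_18_1 lc_e_Cert_tree lc_e_Cert_tree lc_e_rc_18_1 lc_e_rc_18_1 lc_e_rc_27_1 lc_e_rc_27_5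 lc_e_Cert_tree lc_e_Cert_tree lc_e_rc_18_1 lc_e_Cert_tree lc_e_Cert_tree lc_e_rc_18_1 lc_e_Cert_tree lc_e_Cert_tree lc_e_rc_18_1 lc_e_Cert_tree lc_e_Cert_tree lc_e_Cert_tree lc_e_rc_9_3 lc_e_rc_18_1 lc_e_rc_27_1 lc_e_rc_18_1 lc_e_rc_13_3 lc_e_Cert_tree lc_e_rc_18_1 lc_e_Cert_tree lc_e_rc_18_1 lc_e_Cert_tree lc_e_rc_18_1 lc_e_rc_27_1) (@D3.rec (fun _ => (Cert rels S Gen.e)) lc_e_rc_19_4 lc_e_rc_9_3 lc_e_Cert_tree lc_e_Cert_tree lc_e_Cert_tree lc_e_Cert_tree lc_e_rc_18_1 lc_e_rc_27_5 lc_e_rc_13_3 lc_e_rc_16_1 lc_e_rc_4_1 lc_e_Cert_tree lc_e_rc_13_3 lc_e_rc_18_1 lc_e_Cert_tree lc_e_rc_18_1 lc_e_Cert_tree lc_e_Cert_tree lc_e_Cert_tree lc_e_Cert_tree lc_e_rc_18_1 lc_e_Cert_tree lc_e_rc_16_3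 lc_e_rc_16_1 lc_e_rc_4_1 lc_e_rc_18_1 lc_e_rc_13_3 lc_e_Cert_tree lc_e_Cert_tree lc_e_Cert_tree lc_e_Cert_tree lc_e_rc_18_1 lc_e_rc_18_1 lc_e_Cert_tree lc_e_rc_13_3 lc_e_rc_27_1 lc_e_rc_19_2 lc_e_Cert_tree lc_e_rc_18_1 lc_e_rc_16_3 lc_e_rc_13_3 lc_e_rc_18_1 lc_e_rc_16_5 lc_e_rc_13_3 lc_e_rc_16_1 lc_e_rc_9_3 lc_e_Cert_tree lc_e_rc_4_1 lc_e_rc_18_1 lc_e_Cert_tree lc_e_Cert_tree lc_e_Cert_tree lc_e_rc_18_1 lc_e_rc_9_1 lc_e_Cert_tree lc_e_Cert_tree lc_e_rc_9_3 lc_e_rc_19_4 lc_e_Cert_tree lc_e_rc_18_1 lc_e_Cert_tree lc_e_rc_13_3) (@D3.rec (fun _ => (Cert rels S Gen.e)) lc_e_Cert_tree lc_e_Cert_tree lc_e_rc_18_1 lc_e_Cert_tree lc_e_Cert_tree lc_e_rc_18_1 lc_e_rc_4_3 lc_e_Cert_tree lc_e_rc_16_1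 lc_e_rc_18_1 lc_e_rc_27_5 lc_e_rc_13_1 lc_e_rc_16_3 lc_e_Cert_tree lc_e_rc_27_5 lc_e_rc_18_1 lc_e_rc_13_3 lc_e_Cert_tree lc_e_rc_18_1 lc_e_rc_13_3 lc_e_Cert_tree lc_e_Cert_tree lc_e_Cert_tree lc_e_rc_18_1 lc_e_Cert_tree lc_e_Cert_tree lc_e_rc_19_4 lc_e_rc_27_5 lc_e_Cert_tree lc_e_Cert_tree lc_e_Cert_tree lc_e_rc_18_1 lc_e_rc_18_1 lc_e_Cert_tree lc_e_rc_13_1 lc_e_rc_19_4 lc_e_Cert_tree lc_e_rc_18_1 lc_e_rc_18_1 lc_e_rc_18_1 lc_e_Cert_tree lc_e_rc_13_3 lc_e_Cert_tree lc_e_Cert_tree lc_e_Cert_tree lc_e_rc_18_1 lc_e_Cert_tree lc_e_Cert_tree lc_e_rc_18_1 lc_e_rc_16_1 lc_e_rc_13_1 lc_e_rc_27_5 lc_e_Cert_tree lc_e_Cert_tree lc_e_Cert_tree lc_e_Cert_tree lc_e_rc_18_1 lc_e_rc_18_1 lc_e_rc_19_4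 lc_e_Cert_tree lc_e_Cert_tree lc_e_Cert_tree) (@D3.rec (fun _ => (Cert rels S Gen.e)) lc_e_Cert_tree lc_e_Cert_tree lc_e_rc_18_1 lc_e_Cert_tree lc_e_Cert_tree lc_e_Cert_tree lc_e_Cert_tree lc_e_rc_18_1 lc_e_Cert_tree lc_e_rc_18_1 lc_e_rc_19_2 lc_e_Cert_tree lc_e_rc_18_1 lc_e_rc_18_1 lc_e_rc_13_3 lc_e_Cert_tree lc_e_rc_18_1 lc_e_Cert_tree lc_e_Cert_tree lc_e_rc_19_4 lc_e_Cert_tree lc_e_Cert_tree lc_e_rc_16_3 lc_e_Cert_tree lc_e_Cert_tree lc_e_rc_27_5 lc_e_rc_18_1 lc_e_Cert_tree lc_e_Cert_tree lc_e_rc_27_5 lc_e_rc_18_1 lc_e_Cert_tree lc_e_Cert_tree lc_e_Cert_tree lc_e_rc_18_1 lc_e_Cert_tree lc_e_rc_18_1 lc_e_rc_27_1 lc_e_rc_19_4 lc_e_Cert_tree lc_e_Cert_tree lc_e_rc_18_1 lc_e_Cert_tree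 lc_e_Cert_tree lc_e_rc_18_1 lc_e_Cert_tree lc_e_Cert_tree lc_e_Cert_tree lc_e_Cert_tree lc_e_rc_18_1 lc_e_Cert_tree lc_e_Cert_tree lc_e_rc_16_1 lc_e_rc_19_4 lc_e_rc_9_3 lc_e_rc_13_3 lc_e_Cert_tree lc_e_Cert_tree lc_e_rc_13_1 lc_e_rc_16_3 lc_e_rc_18_1 lc_e_rc_13_3) (@D3.rec (fun _ => (Cert rels S Gen.e)) lc_e_Cert_tree lc_e_rc_18_1 lc_e_Cert_tree lc_e_rc_18_1 lc_e_Cert_tree lc_e_rc_16_3 lc_e_rc_4_3 lc_e_Cert_tree lc_e_Cert_tree lc_e_rc_18_1 lc_e_Cert_tree lc_e_rc_18_1 lc_e_rc_19_0 lc_e_rc_19_4 lc_e_Cert_tree lc_e_Cert_tree lc_e_rc_16_5 lc_e_rc_18_1 lc_e_Cert_tree lc_e_rc_18_1 lc_e_Cert_tree lc_e_rc_18_1 lc_e_Cert_tree lc_e_rc_18_1 lc_e_rc_19_4 lc_e_rc_27_1 lc_e_rc_4_3 lc_e_rc_16_3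 lc_e_rc_9_3 lc_e_Cert_tree lc_e_rc_27_5 lc_e_rc_9_3 lc_e_rc_4_3 lc_e_Cert_tree lc_e_rc_18_1 lc_e_Cert_tree lc_e_rc_4_3 lc_e_rc_4_1 lc_e_Cert_tree lc_e_rc_18_1 lc_e_rc_27_5 lc_e_Cert_tree lc_e_rc_4_3 lc_e_Cert_tree lc_e_rc_18_1 lc_e_Cert_tree lc_e_rc_4_3 lc_e_rc_4_1 lc_e_rc_9_1 lc_e_Cert_tree lc_e_rc_18_1 lc_e_Cert_tree lc_e_Cert_tree lc_e_Cert_tree lc_e_rc_18_1 lc_e_rc_9_3 lc_e_rc_27_1 lc_e_Cert_tree lc_e_Cert_tree lc_e_rc_18_1 lc_e_Cert_tree lc_e_Cert_tree) (@D3.rec (fun _ => (Cert rels S Gen.e)) lc_e_Cert_tree lc_e_rc_18_1 lc_e_rc_27_5 lc_e_rc_18_1 lc_e_rc_9_3 lc_e_rc_9_3 lc_e_Cert_tree lc_e_Cert_tree lc_e_rc_4_1 lc_e_rc_9_3 lc_e_Cert_tree lc_e_rc_18_1 lc_e_rc_13_3 lc_e_Cert_tree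 lc_e_rc_18_1 lc_e_rc_18_1 lc_e_Cert_tree lc_e_rc_18_1 lc_e_Cert_tree lc_e_Cert_tree lc_e_rc_18_1 lc_e_Cert_tree lc_e_rc_18_1 lc_e_Cert_tree lc_e_Cert_tree lc_e_rc_18_1 lc_e_Cert_tree lc_e_Cert_tree lc_e_rc_18_1 lc_e_Cert_tree lc_e_Cert_tree lc_e_Cert_tree lc_e_rc_18_1 lc_e_Cert_tree lc_e_rc_16_3 lc_e_rc_16_1 lc_e_rc_19_4 lc_e_rc_18_1 lc_e_rc_9_3 lc_e_rc_13_3 lc_e_Cert_tree lc_e_Cert_tree lc_e_Cert_tree lc_e_rc_18_1 lc_e_rc_16_3 lc_e_rc_18_1 lc_e_Cert_tree lc_e_Cert_tree lc_e_rc_18_1 lc_e_rc_16_3 lc_e_rc_13_1 lc_e_rc_18_1 lc_e_rc_16_3 lc_e_rc_13_3 lc_e_rc_19_2 lc_e_rc_9_3 lc_e_rc_9_3 lc_e_Cert_tree lc_e_Cert_tree lc_e_Cert_tree lc_e_Cert_tree lc_e_Cert_tree) (@D3.rec (fun _ =>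 (Cert rels S Gen.e)) lc_e_rc_18_1 lc_e_Cert_tree lc_e_Cert_tree lc_e_rc_16_1 lc_e_rc_19_4 lc_e_rc_18_1 lc_e_rc_19_4 lc_e_rc_9_3 lc_e_rc_9_3 lc_e_Cert_tree lc_e_Cert_tree lc_e_Cert_tree lc_e_Cert_tree lc_e_rc_18_1 lc_e_Cert_tree lc_e_rc_18_1 lc_e_Cert_tree lc_e_rc_18_1 lc_e_rc_4_3 lc_e_Cert_tree lc_e_rc_16_1 lc_e_rc_18_1 lc_e_rc_9_3 lc_e_rc_9_3 lc_e_Cert_tree lc_e_rc_13_3 lc_e_Cert_tree lc_e_rc_27_5 lc_e_rc_4_3 lc_e_rc_13_3 lc_e_Cert_tree lc_e_rc_9_1 lc_e_Cert_tree lc_e_Cert_tree lc_e_rc_18_1 lc_e_rc_16_1 lc_e_rc_16_5 lc_e_rc_16_1 lc_e_rc_16_1 lc_e_rc_19_4 lc_e_rc_9_3 lc_e_rc_9_3 lc_e_Cert_tree lc_e_Cert_tree lc_e_Cert_tree lc_e_rc_18_1 lc_e_rc_4_3 lc_e_rc_9_3 lc_e_Cert_tree lc_e_rc_27_5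 lc_e_Cert_tree lc_e_Cert_tree lc_e_rc_13_3 lc_e_Cert_tree lc_e_rc_18_1 lc_e_Cert_tree lc_e_Cert_tree lc_e_Cert_tree lc_e_rc_18_1 lc_e_rc_19_0 lc_e_rc_16_1 lc_e_rc_19_4) (@D3.rec (fun _ => (Cert rels S Gen.e)) lc_e_Cert_tree lc_e_rc_18_1 lc_e_Cert_tree lc_e_rc_18_1 lc_e_rc_18_1 lc_e_Cert_tree lc_e_rc_16_1 lc_e_rc_19_4 lc_e_Cert_tree lc_e_rc_13_3 lc_e_Cert_tree lc_e_rc_9_3 lc_e_Cert_tree lc_e_rc_27_7 lc_e_rc_27_7 lc_e_Cert_tree lc_e_rc_4_1 lc_e_Cert_tree lc_e_rc_18_1 lc_e_rc_4_3 lc_e_rc_19_2 lc_e_Cert_tree lc_e_rc_18_1 lc_e_Cert_tree lc_e_Cert_tree lc_e_Cert_tree lc_e_rc_18_1 lc_e_rc_9_3 lc_e_rc_16_1 lc_e_rc_16_5 lc_e_rc_18_1 lc_e_rc_16_1 lc_e_rc_19_4 lc_e_rc_13_3 lc_e_Cert_tree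 lc_e_Cert_tree lc_e_rc_18_1 lc_e_rc_9_3 lc_e_Cert_tree lc_e_Cert_tree lc_e_rc_9_3 lc_e_rc_4_3 lc_e_rc_9_3 lc_e_Cert_tree lc_e_rc_19_4 lc_e_Cert_tree lc_e_Cert_tree lc_e_rc_18_1 lc_e_Cert_tree lc_e_rc_18_1 lc_e_rc_13_3 lc_e_Cert_tree lc_e_Cert_tree lc_e_rc_18_1 lc_e_Cert_tree lc_e_rc_18_1 lc_e_Cert_tree lc_e_rc_18_1 lc_e_rc_4_3 lc_e_rc_16_1 lc_e_rc_19_2 lc_e_Cert_tree) (@D3.rec (fun _ => (Cert rels S Gen.e)) lc_e_Cert_tree lc_e_Cert_tree lc_e_rc_18_1 lc_e_Cert_tree lc_e_Cert_tree lc_e_rc_18_1 lc_e_rc_27_5 lc_e_Cert_tree lc_e_rc_18_1 lc_e_Cert_tree lc_e_Cert_tree lc_e_Cert_tree lc_e_Cert_tree lc_e_rc_18_1 lc_e_Cert_tree lc_e_Cert_tree lc_e_Cert_tree lc_e_Cert_tree lc_e_rc_18_1 lc_e_rc_13_3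 lc_e_rc_16_3 lc_e_Cert_tree lc_e_Cert_tree lc_e_rc_18_1 lc_e_Cert_tree lc_e_Cert_tree lc_e_rc_16_3 lc_e_rc_4_1 lc_e_Cert_tree lc_e_Cert_tree lc_e_rc_18_1 lc_e_Cert_tree lc_e_rc_16_3 lc_e_rc_19_4 lc_e_rc_18_1 lc_e_rc_27_5 lc_e_Cert_tree lc_e_rc_18_1 lc_e_Cert_tree lc_e_rc_19_4 lc_e_rc_16_3 lc_e_rc_19_4 lc_e_Cert_tree lc_e_Cert_tree lc_e_Cert_tree lc_e_rc_18_1 lc_e_Cert_tree lc_e_rc_13_1 lc_e_rc_27_7 lc_e_rc_18_1 lc_e_rc_18_1 lc_e_Cert_tree lc_e_Cert_tree lc_e_rc_16_3 lc_e_rc_13_3 lc_e_rc_19_2 lc_e_Cert_tree lc_e_Cert_tree lc_e_Cert_tree lc_e_rc_18_1 lc_e_rc_18_1 lc_e_Cert_tree) (@D3.rec (fun _ => (Cert rels S Gen.e)) lc_e_rc_13_1 lc_e_rc_16_1 lc_e_rc_19_4 lc_e_rc_13_3 lc_e_rc_27_7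 lc_e_rc_4_3 lc_e_rc_9_3 lc_e_rc_18_1 lc_e_Cert_tree lc_e_rc_16_3 lc_e_rc_19_4 lc_e_Cert_tree lc_e_rc_9_3 lc_e_Cert_tree lc_e_Cert_tree lc_e_rc_13_3 lc_e_Cert_tree lc_e_rc_9_3 lc_e_rc_4_3 lc_e_rc_19_2 lc_e_rc_19_4 lc_e_rc_18_1 lc_e_Cert_tree lc_e_rc_18_1 lc_e_Cert_tree lc_e_rc_18_1 lc_e_Cert_tree lc_e_rc_9_3 lc_e_rc_16_1 lc_e_rc_16_1 lc_e_rc_19_4 lc_e_rc_13_3 lc_e_Cert_tree lc_e_rc_18_1 lc_e_rc_19_4 lc_e_rc_4_3 lc_e_rc_18_1 lc_e_rc_9_3 lc_e_Cert_tree lc_e_rc_9_3 lc_e_rc_4_3 lc_e_Cert_tree lc_e_Cert_tree lc_e_Cert_tree lc_e_Cert_tree lc_e_rc_18_1 lc_e_rc_18_1 lc_e_Cert_tree lc_e_rc_19_4 lc_e_Cert_tree lc_e_rc_4_3 lc_e_Cert_tree lc_e_rc_9_3 lc_e_Cert_tree lc_e_rc_27_5 lc_e_Cert_tree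 lc_e_rc_18_1 lc_e_Cert_tree lc_e_Cert_tree lc_e_Cert_tree lc_e_Cert_tree lc_e_rc_18_1) (@D3.rec (fun _ => (Cert rels S Gen.e)) lc_e_Cert_tree lc_e_rc_18_1 lc_e_Cert_tree lc_e_rc_18_1 lc_e_rc_16_1 lc_e_Cert_tree lc_e_rc_18_1 lc_e_rc_27_5 lc_e_rc_16_1 lc_e_Cert_tree lc_e_rc_18_1 lc_e_Cert_tree lc_e_Cert_tree lc_e_rc_18_1 lc_e_Cert_tree lc_e_Cert_tree lc_e_Cert_tree lc_e_rc_18_1 lc_e_Cert_tree lc_e_Cert_tree lc_e_rc_16_1 lc_e_rc_18_1 lc_e_rc_27_5 lc_e_rc_13_3 lc_e_Cert_tree lc_e_Cert_tree lc_e_rc_13_3 lc_e_rc_18_1 lc_e_rc_27_7 lc_e_Cert_tree lc_e_Cert_tree lc_e_rc_18_1 lc_e_rc_18_1 lc_e_rc_18_1 lc_e_Cert_tree lc_e_rc_13_3 lc_e_rc_4_3 lc_e_rc_9_3 lc_e_Cert_tree lc_e_rc_27_5 lc_e_Cert_tree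 lc_e_Cert_tree lc_e_Cert_tree lc_e_rc_18_1 lc_e_rc_18_1 lc_e_rc_27_5 lc_e_Cert_tree lc_e_rc_27_7 lc_e_rc_18_1 lc_e_Cert_tree lc_e_rc_27_1 lc_e_rc_18_1 lc_e_rc_18_1 lc_e_rc_19_4 lc_e_Cert_tree lc_e_rc_18_1 lc_e_rc_18_1 lc_e_Cert_tree lc_e_rc_13_3 lc_e_rc_9_3 lc_e_Cert_tree lc_e_rc_13_3) (@D3.rec (fun _ => (Cert rels S Gen.e)) lc_e_Cert_tree lc_e_Cert_tree lc_e_rc_18_1 lc_e_rc_4_3 lc_e_rc_18_1 lc_e_rc_16_1 lc_e_rc_16_5 lc_e_rc_9_3 lc_e_Cert_tree lc_e_rc_13_1 lc_e_rc_18_1 lc_e_rc_4_3 lc_e_Cert_tree lc_e_Cert_tree lc_e_rc_18_1 lc_e_Cert_tree lc_e_Cert_tree lc_e_rc_18_1 lc_e_rc_9_3 lc_e_Cert_tree lc_e_rc_16_5 lc_e_rc_18_1 lc_e_Cert_tree lc_e_Cert_tree lc_e_rc_19_4 lc_e_Cert_tree lc_e_rc_9_3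 lc_e_rc_18_1 lc_e_Cert_tree lc_e_Cert_tree lc_e_rc_18_1 lc_e_Cert_tree lc_e_Cert_tree lc_e_Cert_tree lc_e_rc_27_5 lc_e_rc_18_1 lc_e_rc_4_3 lc_e_Cert_tree lc_e_Cert_tree lc_e_rc_18_1 lc_e_Cert_tree lc_e_rc_18_1 lc_e_rc_27_1 lc_e_Cert_tree lc_e_rc_18_1 lc_e_rc_16_1 lc_e_rc_9_3 lc_e_Cert_tree lc_e_rc_4_3 lc_e_rc_18_1 lc_e_Cert_tree lc_e_Cert_tree lc_e_rc_18_1 lc_e_Cert_tree lc_e_Cert_tree lc_e_rc_18_1 lc_e_Cert_tree lc_e_Cert_tree lc_e_Cert_tree lc_e_Cert_tree lc_e_Cert_tree lc_e_rc_19_4) (@D3.rec (fun _ => (Cert rels S Gen.e)) lc_e_Cert_tree lc_e_rc_18_1 lc_e_rc_27_1 lc_e_Cert_tree lc_e_rc_19_4 lc_e_Cert_tree lc_e_rc_16_5 lc_e_rc_18_1 lc_e_rc_16_3 lc_e_rc_19_4 lc_e_Cert_tree lc_e_Cert_tree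 lc_e_rc_18_1 lc_e_Cert_tree lc_e_Cert_tree lc_e_rc_18_1 lc_e_rc_16_3 lc_e_rc_27_1 lc_e_Cert_tree lc_e_rc_18_1 lc_e_Cert_tree lc_e_Cert_tree lc_e_rc_18_1 lc_e_Cert_tree lc_e_rc_9_3 lc_e_rc_18_1 lc_e_Cert_tree lc_e_rc_27_7 lc_e_Cert_tree lc_e_rc_18_1 lc_e_Cert_tree lc_e_Cert_tree lc_e_rc_16_1 lc_e_rc_19_4 lc_e_Cert_tree lc_e_rc_27_5 lc_e_rc_13_3 lc_e_Cert_tree lc_e_rc_18_1 lc_e_Cert_tree lc_e_rc_18_1 lc_e_rc_16_1 lc_e_rc_16_3 lc_e_Cert_tree lc_e_rc_18_1 lc_e_rc_9_3 lc_e_rc_9_3 lc_e_rc_16_3 lc_e_Cert_tree lc_e_rc_18_1 lc_e_Cert_tree lc_e_rc_18_1 lc_e_rc_16_3 lc_e_rc_18_1 lc_e_rc_18_1 lc_e_rc_4_3 lc_e_rc_16_3 lc_e_Cert_tree lc_e_rc_27_5 lc_e_rc_9_1 lc_e_Cert_tree lc_e_Cert_tree) (@D3.rec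 (fun _ => (Cert rels S Gen.e)) lc_e_rc_16_5 lc_e_rc_18_1 lc_e_Cert_tree lc_e_rc_18_1 lc_e_Cert_tree lc_e_Cert_tree lc_e_rc_18_1 lc_e_Cert_tree lc_e_rc_18_1 lc_e_rc_27_5 lc_e_rc_16_1 lc_e_rc_4_3 lc_e_Cert_tree lc_e_Cert_tree lc_e_Cert_tree lc_e_rc_18_1 lc_e_Cert_tree lc_e_Cert_tree lc_e_rc_18_1 lc_e_rc_27_7 lc_e_rc_18_1 lc_e_rc_27_1 lc_e_rc_16_3 lc_e_rc_19_4 lc_e_rc_4_3 lc_e_Cert_tree lc_e_rc_18_1 lc_e_rc_13_1 lc_e_Cert_tree lc_e_Cert_tree lc_e_Cert_tree lc_e_Cert_tree lc_e_rc_18_1 lc_e_Cert_tree lc_e_rc_9_3 lc_e_rc_16_1 lc_e_rc_19_4 lc_e_Cert_tree lc_e_rc_18_1 lc_e_Cert_tree lc_e_Cert_tree lc_e_rc_18_1 lc_e_Cert_tree lc_e_Cert_tree lc_e_rc_9_3 lc_e_rc_9_1 lc_e_Cert_tree lc_e_Cert_tree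 lc_e_rc_18_1 lc_e_rc_13_3 lc_e_rc_9_3 lc_e_Cert_tree lc_e_Cert_tree lc_e_Cert_tree lc_e_rc_13_3 lc_e_Cert_tree lc_e_Cert_tree lc_e_Cert_tree lc_e_rc_18_1 lc_e_Cert_tree lc_e_Cert_tree lc_e_rc_18_1) (@D3.rec (fun _ => (Cert rels S Gen.e)) lc_e_Cert_tree lc_e_Cert_tree lc_e_rc_13_3 lc_e_rc_9_3 lc_e_rc_18_1 lc_e_Cert_tree lc_e_Cert_tree lc_e_Cert_tree lc_e_rc_18_1 lc_e_Cert_tree lc_e_Cert_tree lc_e_rc_18_1 lc_e_Cert_tree lc_e_rc_18_1 lc_e_rc_16_1 lc_e_Cert_tree lc_e_rc_18_1 lc_e_Cert_tree lc_e_rc_18_1 lc_e_rc_16_1 lc_e_rc_13_1 lc_e_rc_13_3 lc_e_Cert_tree lc_e_rc_18_1 lc_e_Cert_tree lc_e_rc_18_1 lc_e_rc_18_1 lc_e_Cert_tree lc_e_Cert_tree lc_e_rc_18_1 lc_e_rc_9_3 lc_e_rc_27_5 lc_e_rc_16_1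 lc_e_rc_18_1 lc_e_Cert_tree lc_e_rc_18_1 lc_e_Cert_tree lc_e_Cert_tree lc_e_rc_18_1 lc_e_Cert_tree lc_e_Cert_tree lc_e_rc_9_3 lc_e_rc_18_1 lc_e_Cert_tree lc_e_Cert_tree lc_e_rc_16_1 lc_e_rc_19_4 lc_e_rc_19_0 lc_e_Cert_tree lc_e_Cert_tree lc_e_rc_18_1 lc_e_rc_13_3 lc_e_Cert_tree lc_e_Cert_tree lc_e_rc_18_1 lc_e_Cert_tree lc_e_rc_27_7 lc_e_rc_18_1 lc_e_rc_4_3 lc_e_rc_9_3 lc_e_Cert_tree lc_e_rc_18_1) (@D3.rec (fun _ => (Cert rels S Gen.e)) lc_e_rc_18_1 lc_e_rc_16_3 lc_e_Cert_tree lc_e_rc_18_1 lc_e_rc_19_2 lc_e_rc_18_1 lc_e_rc_4_1 lc_e_Cert_tree lc_e_Cert_tree lc_e_Cert_tree lc_e_rc_18_1 lc_e_rc_4_3 lc_e_rc_16_1 lc_e_rc_27_7 lc_e_rc_19_2 lc_e_rc_9_3 lc_e_Cert_tree lc_e_Cert_tree lc_e_rc_18_1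 lc_e_Cert_tree lc_e_Cert_tree lc_e_rc_18_1 lc_e_Cert_tree lc_e_rc_4_3 lc_e_rc_16_1 lc_e_rc_18_1 lc_e_Cert_tree lc_e_rc_18_1 lc_e_Cert_tree lc_e_Cert_tree lc_e_Cert_tree lc_e_Cert_tree lc_e_rc_18_1 lc_e_Cert_tree lc_e_Cert_tree lc_e_rc_16_1 lc_e_rc_19_2 lc_e_rc_18_1 lc_e_Cert_tree lc_e_Cert_tree lc_e_rc_13_1 lc_e_Cert_tree lc_e_rc_16_3 lc_e_Cert_tree lc_e_Cert_tree lc_e_rc_18_1 lc_e_Cert_tree lc_e_rc_18_1 lc_e_rc_19_2 lc_e_rc_16_1 lc_e_rc_19_2 lc_e_Cert_tree lc_e_rc_18_1 lc_e_rc_16_1 lc_e_Cert_tree lc_e_Cert_tree lc_e_rc_18_1 lc_e_Cert_tree lc_e_rc_16_1 lc_e_rc_19_2 lc_e_Cert_tree lc_e_rc_16_3) (@D3.rec (fun _ => (Cert rels S Gen.e)) lc_e_rc_13_3 lc_e_Cert_tree lc_e_Cert_tree lc_e_Cert_tree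 lc_e_rc_18_1 lc_e_Cert_tree lc_e_Cert_tree lc_e_rc_19_4 lc_e_Cert_tree lc_e_Cert_tree lc_e_rc_18_1 lc_e_Cert_tree lc_e_Cert_tree lc_e_Cert_tree lc_e_Cert_tree lc_e_rc_18_1 lc_e_rc_13_3 lc_e_Cert_tree lc_e_rc_16_3 lc_e_rc_19_4 lc_e_Cert_tree lc_e_Cert_tree lc_e_rc_18_1 lc_e_Cert_tree lc_e_Cert_tree lc_e_rc_18_1 lc_e_Cert_tree lc_e_Cert_tree lc_e_rc_16_3 lc_e_rc_19_4 lc_e_rc_9_1 lc_e_Cert_tree lc_e_Cert_tree lc_e_rc_18_1 lc_e_Cert_tree lc_e_rc_16_5 lc_e_Cert_tree lc_e_rc_18_1 lc_e_rc_4_3 lc_e_Cert_tree lc_e_Cert_tree lc_e_rc_18_1 lc_e_rc_4_3 lc_e_rc_27_5 lc_e_rc_16_1 lc_e_rc_19_4 lc_e_Cert_tree lc_e_Cert_tree lc_e_Cert_tree lc_e_rc_18_1 lc_e_Cert_tree lc_e_rc_13_1 lc_e_Cert_tree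 lc_e_rc_18_1 lc_e_Cert_tree lc_e_Cert_tree lc_e_Cert_tree lc_e_Cert_tree lc_e_rc_13_3 lc_e_rc_27_5 lc_e_rc_18_1 lc_e_Cert_tree) (@D3.rec (fun _ => (Cert rels S Gen.e)) lc_e_rc_4_3 lc_e_Cert_tree lc_e_rc_27_5 lc_e_Cert_tree lc_e_rc_16_3 lc_e_rc_18_1 lc_e_rc_9_3 lc_e_rc_27_7 lc_e_Cert_tree lc_e_rc_18_1 lc_e_rc_16_1 lc_e_Cert_tree lc_e_Cert_tree lc_e_rc_18_1 lc_e_Cert_tree lc_e_Cert_tree lc_e_Cert_tree lc_e_rc_18_1 lc_e_Cert_tree lc_e_Cert_tree lc_e_rc_19_4 lc_e_rc_19_4 lc_e_rc_18_1 lc_e_Cert_tree lc_e_Cert_tree lc_e_rc_18_1 lc_e_Cert_tree lc_e_Cert_tree lc_e_rc_13_3 lc_e_Cert_tree lc_e_rc_9_3 lc_e_Cert_tree lc_e_Cert_tree lc_e_rc_18_1 lc_e_rc_27_5 lc_e_rc_27_5 lc_e_rc_27_7 lc_e_rc_13_1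 lc_e_rc_18_1 lc_e_rc_13_3 lc_e_rc_13_3 lc_e_rc_9_3 lc_e_rc_4_1 lc_e_rc_9_3 lc_e_Cert_tree lc_e_rc_18_1 lc_e_rc_27_5 lc_e_Cert_tree lc_e_rc_18_1 lc_e_rc_16_1 lc_e_rc_9_3 lc_e_Cert_tree lc_e_Cert_tree lc_e_rc_19_4 lc_e_Cert_tree lc_e_rc_18_1 lc_e_Cert_tree lc_e_rc_18_1 lc_e_Cert_tree lc_e_Cert_tree lc_e_rc_18_1 lc_e_Cert_tree) (@D3.rec (fun _ => (Cert rels S Gen.e)) lc_e_Cert_tree lc_e_rc_18_1 lc_e_Cert_tree lc_e_Cert_tree lc_e_rc_9_3 lc_e_Cert_tree lc_e_Cert_tree lc_e_Cert_tree lc_e_rc_18_1 lc_e_rc_18_1 lc_e_rc_13_3 lc_e_rc_27_7 lc_e_rc_9_3 lc_e_Cert_tree lc_e_Cert_tree lc_e_Cert_tree lc_e_rc_13_1 lc_e_rc_18_1 lc_e_rc_18_1 lc_e_rc_18_1 lc_e_rc_16_3 lc_e_rc_13_3 lc_e_rc_13_3 lc_e_rc_16_5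 lc_e_Cert_tree lc_e_Cert_tree lc_e_rc_13_3 lc_e_Cert_tree lc_e_Cert_tree lc_e_Cert_tree lc_e_rc_18_1 lc_e_Cert_tree lc_e_rc_18_1 lc_e_Cert_tree lc_e_rc_18_1 lc_e_Cert_tree lc_e_rc_18_1 lc_e_Cert_tree lc_e_rc_18_1 lc_e_Cert_tree lc_e_Cert_tree lc_e_rc_18_1 lc_e_Cert_tree lc_e_Cert_tree lc_e_rc_18_1 lc_e_Cert_tree lc_e_Cert_tree lc_e_rc_9_3 lc_e_Cert_tree lc_e_Cert_tree lc_e_rc_18_1 lc_e_Cert_tree lc_e_rc_18_1 lc_e_rc_4_1 lc_e_rc_16_5 lc_e_rc_19_4 lc_e_rc_18_1 lc_e_rc_16_5 lc_e_rc_19_4 lc_e_Cert_tree lc_e_rc_18_1 lc_e_rc_16_5) (@D3.rec (fun _ => (Cert rels S Gen.e)) lc_e_Cert_tree lc_e_rc_18_1 lc_e_Cert_tree lc_e_rc_13_1 lc_e_rc_18_1 lc_e_rc_18_1 lc_e_rc_19_4 lc_e_Cert_tree lc_e_rc_18_1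 lc_e_Cert_tree lc_e_Cert_tree lc_e_rc_18_1 lc_e_rc_18_1 lc_e_Cert_tree lc_e_rc_19_4 lc_e_Cert_tree lc_e_rc_18_1 lc_e_rc_4_3 lc_e_rc_13_1 lc_e_Cert_tree lc_e_rc_27_5 lc_e_rc_19_4 lc_e_Cert_tree lc_e_Cert_tree lc_e_rc_18_1 lc_e_rc_16_5 lc_e_rc_18_1 lc_e_Cert_tree lc_e_rc_19_4 lc_e_rc_9_3 lc_e_Cert_tree lc_e_Cert_tree lc_e_rc_19_4 lc_e_Cert_tree lc_e_rc_18_1 lc_e_rc_18_1 lc_e_Cert_tree lc_e_rc_18_1 lc_e_Cert_tree lc_e_rc_18_1 lc_e_rc_27_5 lc_e_Cert_tree lc_e_rc_4_3 lc_e_rc_9_3 lc_e_rc_18_1 lc_e_rc_16_5 lc_e_Cert_tree lc_e_rc_18_1 lc_e_Cert_tree lc_e_rc_18_1 lc_e_rc_4_1 lc_e_rc_19_4 lc_e_rc_18_1 lc_e_rc_27_1 lc_e_rc_4_3 lc_e_rc_18_1 lc_e_rc_16_1 lc_e_rc_4_3 lc_e_rc_18_1 lc_e_rc_18_1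 lc_e_Cert_tree lc_e_rc_18_1)
def ce_e_3 : D2 → D3 → (Cert rels S Gen.e) := @D2.rec (fun _ => D3 → (Cert rels S Gen.e)) (@D3.rec (fun _ => (Cert rels S Gen.e)) lc_e_Cert_tree lc_e_Cert_tree lc_e_rc_18_1 lc_e_rc_18_1 lc_e_rc_16_1 lc_e_rc_4_1 lc_e_rc_4_1 lc_e_rc_27_1 lc_e_rc_18_1 lc_e_Cert_tree lc_e_Cert_tree lc_e_Cert_tree lc_e_rc_18_1 lc_e_rc_16_3 lc_e_Cert_tree lc_e_Cert_tree lc_e_rc_18_1 lc_e_Cert_tree lc_e_rc_18_1 lc_e_rc_4_3 lc_e_rc_18_1 lc_e_Cert_tree lc_e_rc_18_1 lc_e_Cert_tree lc_e_rc_18_1 lc_e_Cert_tree lc_e_rc_27_5 lc_e_Cert_tree lc_e_rc_18_1 lc_e_rc_18_1 lc_e_rc_18_1 lc_e_rc_18_1 lc_e_rc_13_1 lc_e_rc_18_1 lc_e_rc_16_3 lc_e_rc_16_3 lc_e_Cert_tree lc_e_rc_13_3 lc_e_Cert_tree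 lc_e_rc_18_1 lc_e_Cert_tree lc_e_Cert_tree lc_e_rc_19_4 lc_e_Cert_tree lc_e_rc_13_3 lc_e_rc_16_3 lc_e_Cert_tree lc_e_rc_27_7 lc_e_rc_18_1 lc_e_Cert_tree lc_e_Cert_tree lc_e_rc_18_1 lc_e_Cert_tree lc_e_Cert_tree lc_e_rc_18_1 lc_e_rc_9_3 lc_e_Cert_tree lc_e_rc_13_3 lc_e_Cert_tree lc_e_rc_18_1 lc_e_rc_16_1 lc_e_rc_19_4) (@D3.rec (fun _ => (Cert rels S Gen.e)) lc_e_rc_27_5 lc_e_rc_18_1 lc_e_rc_16_3 lc_e_rc_27_1 lc_e_rc_16_3 lc_e_rc_27_5 lc_e_rc_18_1 lc_e_Cert_tree lc_e_rc_9_3 lc_e_Cert_tree lc_e_rc_13_3 lc_e_rc_9_3 lc_e_Cert_tree lc_e_rc_18_1 lc_e_rc_16_3 lc_e_rc_16_3 lc_e_rc_13_3 lc_e_rc_16_5 lc_e_Cert_tree lc_e_rc_16_3 lc_e_rc_13_3 lc_e_rc_9_3 lc_e_Cert_tree lc_e_rc_18_1 lc_e_rc_16_1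 lc_e_rc_18_1 lc_e_rc_16_3 lc_e_rc_18_1 lc_e_rc_9_3 lc_e_rc_27_1 lc_e_rc_16_3 lc_e_rc_27_1 lc_e_rc_13_3 lc_e_rc_27_5 lc_e_rc_18_1 lc_e_rc_16_3 lc_e_rc_13_3 lc_e_rc_27_1 lc_e_rc_18_1 lc_e_rc_18_1 lc_e_rc_16_3 lc_e_rc_13_3 lc_e_Cert_tree lc_e_Cert_tree lc_e_rc_18_1 lc_e_Cert_tree lc_e_Cert_tree lc_e_rc_19_4 lc_e_rc_13_3 lc_e_rc_9_3 lc_e_Cert_tree lc_e_Cert_tree lc_e_rc_16_5 lc_e_rc_18_1 lc_e_Cert_tree lc_e_Cert_tree lc_e_rc_18_1 lc_e_Cert_tree lc_e_rc_27_5 lc_e_Cert_tree lc_e_Cert_tree lc_e_rc_18_1) (@D3.rec (fun _ => (Cert rels S Gen.e)) lc_e_Cert_tree lc_e_Cert_tree lc_e_rc_18_1 lc_e_Cert_tree lc_e_Cert_tree lc_e_Cert_tree lc_e_Cert_tree lc_e_rc_18_1 lc_e_rc_18_1 lc_e_Cert_tree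 lc_e_Cert_tree lc_e_Cert_tree lc_e_rc_16_1 lc_e_Cert_tree lc_e_rc_18_1 lc_e_Cert_tree lc_e_Cert_tree lc_e_rc_18_1 lc_e_Cert_tree lc_e_Cert_tree lc_e_rc_27_5 lc_e_rc_18_1 lc_e_rc_18_1 lc_e_rc_16_1 lc_e_Cert_tree lc_e_rc_16_3 lc_e_rc_9_3 lc_e_rc_9_3 lc_e_rc_13_3 lc_e_rc_18_1 lc_e_Cert_tree lc_e_Cert_tree lc_e_rc_16_3 lc_e_rc_19_4 lc_e_rc_9_3 lc_e_rc_16_5 lc_e_rc_9_1 lc_e_Cert_tree lc_e_rc_18_1 lc_e_Cert_tree lc_e_Cert_tree lc_e_rc_13_3 lc_e_Cert_tree lc_e_rc_4_3 lc_e_Cert_tree lc_e_Cert_tree lc_e_Cert_tree lc_e_rc_18_1 lc_e_Cert_tree lc_e_Cert_tree lc_e_rc_18_1 lc_e_rc_18_1 lc_e_rc_13_1 lc_e_rc_18_1 lc_e_rc_18_1 lc_e_rc_19_4 lc_e_rc_19_0 lc_e_rc_9_3 lc_e_Cert_tree lc_e_rc_18_1 lc_e_Cert_tree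 lc_e_Cert_tree) (@D3.rec (fun _ => (Cert rels S Gen.e)) lc_e_rc_18_1 lc_e_rc_27_1 lc_e_rc_18_1 lc_e_rc_18_1 lc_e_rc_19_4 lc_e_rc_16_3 lc_e_rc_27_1 lc_e_rc_16_5 lc_e_Cert_tree lc_e_rc_27_5 lc_e_rc_18_1 lc_e_Cert_tree lc_e_Cert_tree lc_e_rc_13_3 lc_e_rc_9_3 lc_e_rc_9_3 lc_e_rc_27_1 lc_e_rc_18_1 lc_e_rc_18_1 lc_e_rc_27_1 lc_e_rc_16_3 lc_e_rc_19_4 lc_e_rc_13_3 lc_e_Cert_tree lc_e_rc_18_1 lc_e_rc_4_1 lc_e_rc_4_1 lc_e_rc_18_1 lc_e_rc_27_5 lc_e_rc_18_1 lc_e_rc_16_3 lc_e_rc_19_4 lc_e_rc_13_3 lc_e_Cert_tree lc_e_rc_18_1 lc_e_rc_13_3 lc_e_rc_4_3 lc_e_Cert_tree lc_e_rc_18_1 lc_e_rc_16_1 lc_e_rc_19_4 lc_e_rc_16_5 lc_e_Cert_tree lc_e_Cert_tree lc_e_rc_9_1 lc_e_rc_16_5 lc_e_rc_18_1 lc_e_rc_19_2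 lc_e_rc_18_1 lc_e_Cert_tree lc_e_rc_18_1 lc_e_rc_16_1 lc_e_rc_19_2 lc_e_Cert_tree lc_e_rc_19_4 lc_e_rc_18_1 lc_e_rc_13_1 lc_e_Cert_tree lc_e_rc_19_4 lc_e_rc_4_3 lc_e_Cert_tree lc_e_rc_18_1) (@D3.rec (fun _ => (Cert rels S Gen.e)) lc_e_rc_4_3 lc_e_Cert_tree lc_e_Cert_tree lc_e_rc_18_1 lc_e_rc_18_1 lc_e_rc_16_1 lc_e_rc_13_3 lc_e_rc_4_3 lc_e_Cert_tree lc_e_rc_18_1 lc_e_Cert_tree lc_e_rc_18_1 lc_e_Cert_tree lc_e_rc_18_1 lc_e_Cert_tree lc_e_rc_18_1 lc_e_Cert_tree lc_e_Cert_tree lc_e_rc_16_1 lc_e_rc_9_1 lc_e_Cert_tree lc_e_Cert_tree lc_e_rc_16_1 lc_e_rc_19_4 lc_e_Cert_tree lc_e_rc_18_1 lc_e_Cert_tree lc_e_Cert_tree lc_e_rc_18_1 lc_e_Cert_tree lc_e_Cert_tree lc_e_rc_13_3 lc_e_Cert_tree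 lc_e_Cert_tree lc_e_rc_18_1 lc_e_Cert_tree lc_e_Cert_tree lc_e_rc_18_1 lc_e_rc_27_7 lc_e_rc_13_3 lc_e_rc_19_4 lc_e_rc_13_3 lc_e_rc_18_1 lc_e_Cert_tree lc_e_Cert_tree lc_e_rc_18_1 lc_e_rc_18_1 lc_e_Cert_tree lc_e_rc_27_5 lc_e_rc_16_3 lc_e_rc_19_4 lc_e_rc_13_3 lc_e_Cert_tree lc_e_rc_18_1 lc_e_rc_13_3 lc_e_rc_16_3 lc_e_rc_27_1 lc_e_Cert_tree lc_e_rc_18_1 lc_e_Cert_tree lc_e_rc_18_1 lc_e_Cert_tree) (@D3.rec (fun _ => (Cert rels S Gen.e)) lc_e_rc_16_1 lc_e_rc_19_2 lc_e_Cert_tree lc_e_Cert_tree lc_e_rc_18_1 lc_e_Cert_tree lc_e_rc_18_1 lc_e_Cert_tree lc_e_rc_18_1 lc_e_Cert_tree lc_e_rc_16_1 lc_e_rc_18_1 lc_e_Cert_tree lc_e_Cert_tree lc_e_rc_16_3 lc_e_rc_4_1 lc_e_Cert_tree lc_e_Cert_tree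 lc_e_rc_27_5 lc_e_rc_18_1 lc_e_Cert_tree lc_e_Cert_tree lc_e_rc_18_1 lc_e_Cert_tree lc_e_Cert_tree lc_e_rc_13_3 lc_e_Cert_tree lc_e_Cert_tree lc_e_rc_18_1 lc_e_Cert_tree lc_e_rc_18_1 lc_e_rc_27_5 lc_e_rc_18_1 lc_e_Cert_tree lc_e_Cert_tree lc_e_rc_18_1 lc_e_rc_13_3 lc_e_rc_18_1 lc_e_rc_9_3 lc_e_Cert_tree lc_e_rc_13_3 lc_e_rc_18_1 lc_e_rc_27_5 lc_e_Cert_tree lc_e_Cert_tree lc_e_rc_18_1 lc_e_rc_4_3 lc_e_rc_18_1 lc_e_Cert_tree lc_e_rc_18_1 lc_e_Cert_tree lc_e_rc_18_1 lc_e_rc_16_3 lc_e_Cert_tree lc_e_rc_18_1 lc_e_rc_27_7 lc_e_Cert_tree lc_e_rc_18_1 lc_e_rc_9_3 lc_e_Cert_tree lc_e_rc_16_1 lc_e_rc_19_4) (@D3.rec (fun _ => (Cert rels S Gen.e)) lc_e_rc_9_1 lc_e_Cert_tree lc_e_Cert_tree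 lc_e_rc_13_3 lc_e_rc_9_1 lc_e_rc_16_5 lc_e_Cert_tree lc_e_rc_27_5 lc_e_rc_18_1 lc_e_rc_16_5 lc_e_Cert_tree lc_e_rc_13_3 lc_e_rc_16_5 lc_e_rc_9_3 lc_e_rc_27_7 lc_e_rc_18_1 lc_e_Cert_tree lc_e_rc_18_1 lc_e_rc_16_1 lc_e_rc_18_1 lc_e_Cert_tree lc_e_rc_18_1 lc_e_rc_16_1 lc_e_Cert_tree lc_e_rc_18_1 lc_e_rc_16_1 lc_e_rc_18_1 lc_e_rc_27_5 lc_e_Cert_tree lc_e_rc_18_1 lc_e_rc_27_7 lc_e_Cert_tree lc_e_rc_16_1 lc_e_rc_19_4 lc_e_rc_19_2 lc_e_Cert_tree lc_e_Cert_tree lc_e_rc_16_1 lc_e_rc_13_3 lc_e_rc_19_4 lc_e_rc_27_1 lc_e_rc_18_1 lc_e_Cert_tree lc_e_rc_27_5 lc_e_rc_18_1 lc_e_rc_18_1 lc_e_rc_13_3 lc_e_rc_16_3 lc_e_rc_9_3 lc_e_rc_16_3 lc_e_rc_18_1 lc_e_rc_16_3 lc_e_rc_16_5 lc_e_rc_18_1 lc_e_rc_9_3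 lc_e_rc_18_1 lc_e_Cert_tree lc_e_Cert_tree lc_e_rc_19_4 lc_e_Cert_tree lc_e_rc_27_7 lc_e_rc_18_1) (@D3.rec (fun _ => (Cert rels S Gen.e)) lc_e_rc_18_1 lc_e_rc_19_2 lc_e_rc_16_1 lc_e_rc_18_1 lc_e_rc_13_3 lc_e_rc_16_3 lc_e_rc_13_3 lc_e_rc_18_1 lc_e_rc_9_3 lc_e_rc_16_1 lc_e_rc_19_4 lc_e_rc_18_1 lc_e_Cert_tree lc_e_Cert_tree lc_e_rc_18_1 lc_e_rc_9_3 lc_e_rc_19_4 lc_e_Cert_tree lc_e_Cert_tree lc_e_rc_18_1 lc_e_rc_9_3 lc_e_rc_19_2 lc_e_rc_16_1 lc_e_rc_19_2 lc_e_rc_18_1 lc_e_rc_27_1 lc_e_rc_13_3 lc_e_rc_18_1 lc_e_Cert_tree lc_e_rc_18_1 lc_e_rc_16_3 lc_e_Cert_tree lc_e_Cert_tree lc_e_rc_18_1 lc_e_Cert_tree lc_e_Cert_tree lc_e_rc_18_1 lc_e_Cert_tree lc_e_rc_27_7 lc_e_Cert_tree lc_e_Cert_tree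 lc_e_rc_18_1 lc_e_Cert_tree lc_e_Cert_tree lc_e_rc_18_1 lc_e_Cert_tree lc_e_Cert_tree lc_e_rc_18_1 lc_e_Cert_tree lc_e_rc_9_3 lc_e_rc_16_1 lc_e_rc_19_4 lc_e_Cert_tree lc_e_Cert_tree lc_e_rc_27_1 lc_e_rc_18_1 lc_e_rc_19_4 lc_e_rc_27_7 lc_e_rc_27_5 lc_e_Cert_tree lc_e_rc_27_1 lc_e_rc_4_1) (@D3.rec (fun _ => (Cert rels S Gen.e)) lc_e_rc_16_3 lc_e_rc_13_3 lc_e_rc_13_1 lc_e_rc_9_3 lc_e_rc_4_3 lc_e_Cert_tree lc_e_rc_27_1 lc_e_rc_19_0 lc_e_rc_18_1 lc_e_Cert_tree lc_e_rc_18_1 lc_e_rc_16_5 lc_e_rc_27_5 lc_e_rc_18_1 lc_e_rc_27_7 lc_e_Cert_tree lc_e_rc_18_1 lc_e_rc_4_3 lc_e_rc_16_3 lc_e_rc_19_4 lc_e_Cert_tree lc_e_rc_16_1 lc_e_rc_13_3 lc_e_rc_16_3 lc_e_rc_18_1 lc_e_rc_18_1 lc_e_Cert_tree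 lc_e_Cert_tree lc_e_rc_18_1 lc_e_Cert_tree lc_e_rc_27_5 lc_e_rc_18_1 lc_e_rc_13_3 lc_e_rc_4_3 lc_e_Cert_tree lc_e_rc_18_1 lc_e_rc_18_1 lc_e_rc_4_3 lc_e_Cert_tree lc_e_rc_19_2 lc_e_Cert_tree lc_e_rc_18_1 lc_e_Cert_tree lc_e_rc_27_5 lc_e_rc_18_1 lc_e_Cert_tree lc_e_rc_18_1 lc_e_rc_13_3 lc_e_rc_9_3 lc_e_rc_13_3 lc_e_rc_16_5 lc_e_rc_16_5 lc_e_rc_13_3 lc_e_rc_18_1 lc_e_rc_13_3 lc_e_rc_9_3 lc_e_Cert_tree lc_e_rc_19_2 lc_e_rc_4_3 lc_e_rc_16_3 lc_e_Cert_tree lc_e_rc_4_3) (@D3.rec (fun _ => (Cert rels S Gen.e)) lc_e_rc_18_1 lc_e_Cert_tree lc_e_rc_18_1 lc_e_rc_27_7 lc_e_Cert_tree lc_e_Cert_tree lc_e_Cert_tree lc_e_Cert_tree lc_e_rc_18_1 lc_e_Cert_tree lc_e_rc_18_1 lc_e_rc_18_1 lc_e_rc_18_1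 lc_e_rc_19_2 lc_e_Cert_tree lc_e_Cert_tree lc_e_rc_18_1 lc_e_Cert_tree lc_e_rc_18_1 lc_e_Cert_tree lc_e_rc_27_5 lc_e_rc_4_1 lc_e_Cert_tree lc_e_Cert_tree lc_e_rc_4_3 lc_e_Cert_tree lc_e_rc_13_3 lc_e_rc_18_1 lc_e_rc_18_1 lc_e_rc_27_1 lc_e_Cert_tree lc_e_rc_9_3 lc_e_rc_9_3 lc_e_rc_16_3 lc_e_Cert_tree lc_e_rc_18_1 lc_e_Cert_tree lc_e_rc_18_1 lc_e_rc_18_1 lc_e_Cert_tree lc_e_rc_19_0 lc_e_Cert_tree lc_e_Cert_tree lc_e_rc_18_1 lc_e_Cert_tree lc_e_rc_18_1 lc_e_rc_18_1 lc_e_rc_27_7 lc_e_rc_19_4 lc_e_rc_18_1 lc_e_Cert_tree lc_e_Cert_tree lc_e_Cert_tree lc_e_rc_18_1 lc_e_Cert_tree lc_e_Cert_tree lc_e_rc_18_1 lc_e_Cert_tree lc_e_Cert_tree lc_e_rc_18_1 lc_e_Cert_tree lc_e_rc_16_1) (@D3.rec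 (fun _ => (Cert rels S Gen.e)) lc_e_Cert_tree lc_e_Cert_tree lc_e_rc_16_1 lc_e_rc_19_4 lc_e_Cert_tree lc_e_Cert_tree lc_e_rc_13_3 lc_e_Cert_tree lc_e_Cert_tree lc_e_rc_13_1 lc_e_rc_13_1 lc_e_rc_18_1 lc_e_Cert_tree lc_e_Cert_tree lc_e_rc_18_1 lc_e_Cert_tree lc_e_rc_18_1 lc_e_Cert_tree lc_e_rc_18_1 lc_e_rc_16_1 lc_e_rc_18_1 lc_e_rc_19_0 lc_e_rc_9_3 lc_e_rc_18_1 lc_e_rc_4_3 lc_e_rc_9_3 lc_e_rc_9_3 lc_e_Cert_tree lc_e_rc_13_3 lc_e_rc_9_1 lc_e_rc_18_1 lc_e_Cert_tree lc_e_rc_18_1 lc_e_rc_18_1 lc_e_rc_19_4 lc_e_rc_16_3 lc_e_rc_18_1 lc_e_rc_27_5 lc_e_rc_4_3 lc_e_rc_18_1 lc_e_rc_13_3 lc_e_rc_16_5 lc_e_rc_27_1 lc_e_Cert_tree lc_e_rc_18_1 lc_e_rc_9_3 lc_e_Cert_tree lc_e_rc_18_1 lc_e_rc_9_3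 lc_e_Cert_tree lc_e_Cert_tree lc_e_rc_18_1 lc_e_rc_27_7 lc_e_rc_13_3 lc_e_rc_27_7 lc_e_rc_13_1 lc_e_rc_13_3 lc_e_rc_27_7 lc_e_rc_9_3 lc_e_rc_13_3 lc_e_rc_18_1 lc_e_Cert_tree) (@D3.rec (fun _ => (Cert rels S Gen.e)) lc_e_rc_13_3 lc_e_rc_19_0 lc_e_rc_19_4 lc_e_rc_13_3 lc_e_rc_9_3 lc_e_Cert_tree lc_e_rc_18_1 lc_e_rc_19_0 lc_e_rc_13_3 lc_e_rc_16_5 lc_e_rc_9_3 lc_e_rc_27_7 lc_e_rc_18_1 lc_e_rc_18_1 lc_e_rc_13_3 lc_e_rc_4_1 lc_e_Cert_tree lc_e_rc_13_1 lc_e_rc_18_1 lc_e_rc_18_1 lc_e_Cert_tree lc_e_Cert_tree lc_e_rc_18_1 lc_e_rc_18_1 lc_e_rc_18_1 lc_e_Cert_tree lc_e_Cert_tree lc_e_rc_19_0 lc_e_rc_18_1 lc_e_Cert_tree lc_e_Cert_tree lc_e_rc_18_1 lc_e_Cert_tree lc_e_Cert_tree lc_e_rc_9_3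 lc_e_rc_16_3 lc_e_rc_19_4 lc_e_rc_18_1 lc_e_rc_4_3 lc_e_Cert_tree lc_e_Cert_tree lc_e_Cert_tree lc_e_Cert_tree lc_e_rc_18_1 lc_e_Cert_tree lc_e_rc_18_1 lc_e_rc_18_1 lc_e_rc_16_3 lc_e_rc_16_5 lc_e_rc_16_5 lc_e_Cert_tree lc_e_Cert_tree lc_e_rc_13_3 lc_e_rc_9_3 lc_e_Cert_tree lc_e_rc_27_7 lc_e_rc_4_3 lc_e_rc_18_1 lc_e_rc_19_0 lc_e_rc_18_1 lc_e_rc_9_3 lc_e_rc_16_3) (@D3.rec (fun _ => (Cert rels S Gen.e)) lc_e_rc_27_5 lc_e_rc_18_1 lc_e_rc_27_5 lc_e_rc_13_3 lc_e_rc_18_1 lc_e_Cert_tree lc_e_rc_18_1 lc_e_rc_16_5 lc_e_Cert_tree lc_e_Cert_tree lc_e_rc_18_1 lc_e_Cert_tree lc_e_rc_9_1 lc_e_rc_19_4 lc_e_Cert_tree lc_e_Cert_tree lc_e_rc_18_1 lc_e_Cert_tree lc_e_Cert_tree lc_e_rc_18_1 lc_e_rc_4_3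 lc_e_Cert_tree lc_e_rc_16_3 lc_e_rc_19_4 lc_e_Cert_tree lc_e_Cert_tree lc_e_rc_18_1 lc_e_Cert_tree lc_e_Cert_tree lc_e_rc_18_1 lc_e_Cert_tree lc_e_Cert_tree lc_e_Cert_tree lc_e_rc_27_5 lc_e_rc_18_1 lc_e_Cert_tree lc_e_rc_18_1 lc_e_Cert_tree lc_e_rc_18_1 lc_e_Cert_tree lc_e_Cert_tree lc_e_rc_19_4 lc_e_rc_18_1 lc_e_rc_18_1 lc_e_rc_27_5 lc_e_rc_18_1 lc_e_Cert_tree lc_e_rc_18_1 lc_e_Cert_tree lc_e_rc_18_1 lc_e_rc_27_5 lc_e_Cert_tree lc_e_rc_19_4 lc_e_rc_16_5 lc_e_rc_16_5 lc_e_rc_27_5 lc_e_rc_18_1 lc_e_Cert_tree lc_e_Cert_tree lc_e_Cert_tree lc_e_rc_18_1 lc_e_Cert_tree) (@D3.rec (fun _ => (Cert rels S Gen.e)) lc_e_rc_18_1 lc_e_rc_27_1 lc_e_rc_16_5 lc_e_rc_27_1 lc_e_rc_18_1 lc_e_rc_18_1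 lc_e_rc_19_4 lc_e_rc_4_3 lc_e_Cert_tree lc_e_Cert_tree lc_e_rc_18_1 lc_e_rc_18_1 lc_e_Cert_tree lc_e_rc_27_5 lc_e_rc_18_1 lc_e_rc_27_1 lc_e_rc_18_1 lc_e_rc_19_2 lc_e_rc_18_1 lc_e_rc_18_1 lc_e_rc_18_1 lc_e_Cert_tree lc_e_Cert_tree lc_e_rc_18_1 lc_e_rc_19_4 lc_e_rc_18_1 lc_e_Cert_tree lc_e_Cert_tree lc_e_rc_18_1 lc_e_rc_27_7 lc_e_rc_13_3 lc_e_rc_18_1 lc_e_rc_16_1 lc_e_Cert_tree lc_e_Cert_tree lc_e_Cert_tree lc_e_Cert_tree lc_e_rc_18_1 lc_e_rc_19_0 lc_e_rc_16_1 lc_e_rc_19_2 lc_e_rc_16_5 lc_e_rc_13_3 lc_e_Cert_tree lc_e_rc_18_1 lc_e_rc_18_1 lc_e_rc_18_1 lc_e_rc_18_1 lc_e_Cert_tree lc_e_rc_18_1 lc_e_Cert_tree lc_e_rc_27_1 lc_e_rc_18_1 lc_e_rc_13_3 lc_e_rc_4_3 lc_e_Cert_tree lc_e_Cert_tree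 lc_e_rc_18_1 lc_e_Cert_tree lc_e_rc_18_1 lc_e_rc_19_4 lc_e_rc_27_7) (@D3.rec (fun _ => (Cert rels S Gen.e)) lc_e_rc_18_1 lc_e_Cert_tree lc_e_rc_16_3 lc_e_rc_18_1 lc_e_Cert_tree lc_e_Cert_tree lc_e_rc_18_1 lc_e_Cert_tree lc_e_Cert_tree lc_e_rc_18_1 lc_e_Cert_tree lc_e_rc_18_1 lc_e_rc_18_1 lc_e_Cert_tree lc_e_Cert_tree lc_e_rc_16_1 lc_e_rc_13_3 lc_e_Cert_tree lc_e_Cert_tree lc_e_Cert_tree lc_e_rc_18_1 lc_e_Cert_tree lc_e_rc_27_5 lc_e_rc_18_1 lc_e_Cert_tree lc_e_rc_27_5 lc_e_rc_18_1 lc_e_rc_27_1 lc_e_rc_18_1 lc_e_rc_19_2 lc_e_Cert_tree lc_e_rc_18_1 lc_e_rc_18_1 lc_e_rc_13_1 lc_e_rc_18_1 lc_e_rc_18_1 lc_e_Cert_tree lc_e_rc_27_7 lc_e_rc_18_1 lc_e_Cert_tree lc_e_rc_18_1 lc_e_rc_16_1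 lc_e_Cert_tree lc_e_Cert_tree lc_e_rc_18_1 lc_e_rc_16_1 lc_e_Cert_tree lc_e_Cert_tree lc_e_rc_13_3 lc_e_rc_9_3 lc_e_Cert_tree lc_e_rc_19_4 lc_e_rc_13_3 lc_e_rc_18_1 lc_e_rc_19_4 lc_e_rc_18_1 lc_e_rc_19_2 lc_e_Cert_tree lc_e_rc_18_1 lc_e_Cert_tree lc_e_Cert_tree lc_e_rc_18_1) (@D3.rec (fun _ => (Cert rels S Gen.e)) lc_e_Cert_tree lc_e_rc_18_1 lc_e_rc_18_1 lc_e_Cert_tree lc_e_rc_18_1 lc_e_Cert_tree lc_e_rc_18_1 lc_e_Cert_tree lc_e_rc_18_1 lc_e_Cert_tree lc_e_rc_4_3 lc_e_rc_16_1 lc_e_rc_19_4 lc_e_rc_13_3 lc_e_Cert_tree lc_e_rc_18_1 lc_e_Cert_tree lc_e_Cert_tree lc_e_rc_18_1 lc_e_rc_18_1 lc_e_rc_16_1 lc_e_rc_18_1 lc_e_rc_18_1 lc_e_Cert_tree lc_e_rc_18_1 lc_e_Cert_tree lc_e_rc_16_5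 lc_e_Cert_tree lc_e_Cert_tree lc_e_rc_18_1 lc_e_Cert_tree lc_e_Cert_tree lc_e_rc_18_1 lc_e_Cert_tree lc_e_Cert_tree lc_e_rc_18_1 lc_e_Cert_tree lc_e_Cert_tree lc_e_rc_18_1 lc_e_Cert_tree lc_e_Cert_tree lc_e_rc_16_1 lc_e_Cert_tree lc_e_rc_27_5 lc_e_rc_18_1 lc_e_rc_18_1 lc_e_rc_9_3 lc_e_rc_13_3 lc_e_rc_13_1 lc_e_Cert_tree lc_e_Cert_tree lc_e_Cert_tree lc_e_Cert_tree lc_e_Cert_tree lc_e_rc_18_1 lc_e_rc_18_1 lc_e_rc_16_1 lc_e_Cert_tree lc_e_rc_18_1 lc_e_Cert_tree lc_e_Cert_tree lc_e_rc_18_1) (@D3.rec (fun _ => (Cert rels S Gen.e)) lc_e_rc_27_7 lc_e_rc_16_3 lc_e_rc_19_4 lc_e_rc_13_3 lc_e_Cert_tree lc_e_Cert_tree lc_e_rc_18_1 lc_e_rc_18_1 lc_e_rc_19_4 lc_e_rc_18_1 lc_e_Cert_tree lc_e_Cert_tree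 lc_e_rc_18_1 lc_e_Cert_tree lc_e_Cert_tree lc_e_Cert_tree lc_e_Cert_tree lc_e_rc_18_1 lc_e_rc_18_1 lc_e_rc_13_1 lc_e_Cert_tree lc_e_rc_16_1 lc_e_rc_19_4 lc_e_rc_9_3 lc_e_rc_13_3 lc_e_rc_16_5 lc_e_Cert_tree lc_e_rc_18_1 lc_e_Cert_tree lc_e_rc_18_1 lc_e_Cert_tree lc_e_Cert_tree lc_e_Cert_tree lc_e_rc_18_1 lc_e_rc_19_4 lc_e_rc_4_3 lc_e_rc_16_3 lc_e_rc_9_1 lc_e_rc_18_1 lc_e_rc_18_1 lc_e_Cert_tree lc_e_rc_18_1 lc_e_Cert_tree lc_e_Cert_tree lc_e_Cert_tree lc_e_rc_18_1 lc_e_Cert_tree lc_e_Cert_tree lc_e_rc_18_1 lc_e_rc_4_3 lc_e_rc_27_7 lc_e_rc_16_1 lc_e_rc_19_4 lc_e_Cert_tree lc_e_Cert_tree lc_e_rc_18_1 lc_e_rc_19_2 lc_e_rc_27_5 lc_e_rc_18_1 lc_e_rc_16_3 lc_e_rc_13_3 lc_e_rc_18_1) (@D3.rec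 (fun _ => (Cert rels S Gen.e)) lc_e_Cert_tree lc_e_rc_18_1 lc_e_Cert_tree lc_e_Cert_tree lc_e_rc_18_1 lc_e_rc_19_0 lc_e_rc_16_3 lc_e_rc_16_5 lc_e_Cert_tree lc_e_Cert_tree lc_e_Cert_tree lc_e_Cert_tree lc_e_rc_18_1 lc_e_rc_18_1 lc_e_rc_13_3 lc_e_Cert_tree lc_e_rc_16_1 lc_e_rc_19_4 lc_e_rc_13_3 lc_e_rc_27_1 lc_e_Cert_tree lc_e_rc_27_5 lc_e_rc_18_1 lc_e_rc_27_5 lc_e_rc_9_1 lc_e_rc_13_3 lc_e_rc_9_3 lc_e_Cert_tree lc_e_Cert_tree lc_e_Cert_tree lc_e_Cert_tree lc_e_Cert_tree lc_e_rc_18_1 lc_e_rc_18_1 lc_e_rc_16_1 lc_e_rc_4_1 lc_e_Cert_tree lc_e_rc_18_1 lc_e_rc_18_1 lc_e_rc_16_1 lc_e_rc_19_4 lc_e_Cert_tree lc_e_Cert_tree lc_e_Cert_tree lc_e_rc_18_1 lc_e_Cert_tree lc_e_Cert_tree lc_e_rc_18_1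 lc_e_Cert_tree lc_e_rc_18_1 lc_e_Cert_tree lc_e_Cert_tree lc_e_Cert_tree lc_e_rc_18_1 lc_e_Cert_tree lc_e_Cert_tree lc_e_rc_16_1 lc_e_rc_19_4 lc_e_Cert_tree lc_e_rc_18_1 lc_e_rc_18_1 lc_e_Cert_tree) (@D3.rec (fun _ => (Cert rels S Gen.e)) lc_e_rc_18_1 lc_e_rc_18_1 lc_e_Cert_tree lc_e_rc_16_1 lc_e_Cert_tree lc_e_rc_18_1 lc_e_Cert_tree lc_e_rc_27_5 lc_e_Cert_tree lc_e_rc_18_1 lc_e_Cert_tree lc_e_rc_4_3 lc_e_Cert_tree lc_e_rc_18_1 lc_e_Cert_tree lc_e_Cert_tree lc_e_rc_13_3 lc_e_Cert_tree lc_e_rc_18_1 lc_e_rc_27_5 lc_e_rc_13_3 lc_e_rc_16_3 lc_e_rc_27_5 lc_e_rc_13_3 lc_e_rc_9_3 lc_e_Cert_tree lc_e_rc_18_1 lc_e_rc_16_3 lc_e_Cert_tree lc_e_rc_18_1 lc_e_rc_19_0 lc_e_Cert_tree lc_e_Cert_tree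 lc_e_rc_18_1 lc_e_rc_18_1 lc_e_Cert_tree lc_e_Cert_tree lc_e_rc_18_1 lc_e_rc_18_1 lc_e_rc_9_1 lc_e_rc_18_1 lc_e_rc_16_3 lc_e_rc_13_3 lc_e_rc_19_2 lc_e_rc_13_3 lc_e_rc_27_5 lc_e_Cert_tree lc_e_rc_18_1 lc_e_rc_13_3 lc_e_rc_4_3 lc_e_rc_18_1 lc_e_rc_27_5 lc_e_rc_9_3 lc_e_Cert_tree lc_e_Cert_tree lc_e_rc_9_3 lc_e_Cert_tree lc_e_Cert_tree lc_e_rc_18_1 lc_e_rc_18_1 lc_e_rc_4_3 lc_e_rc_16_3) (@D3.rec (fun _ => (Cert rels S Gen.e)) lc_e_rc_4_1 lc_e_Cert_tree lc_e_rc_18_1 lc_e_rc_27_1 lc_e_rc_18_1 lc_e_rc_16_3 lc_e_Cert_tree lc_e_rc_18_1 lc_e_Cert_tree lc_e_rc_19_4 lc_e_rc_16_1 lc_e_rc_19_4 lc_e_rc_9_1 lc_e_Cert_tree lc_e_Cert_tree lc_e_rc_18_1 lc_e_rc_19_4 lc_e_rc_13_3 lc_e_rc_27_5 lc_e_Cert_tree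 lc_e_Cert_tree lc_e_rc_13_3 lc_e_rc_16_1 lc_e_Cert_tree lc_e_Cert_tree lc_e_rc_18_1 lc_e_rc_16_5 lc_e_rc_4_1 lc_e_rc_18_1 lc_e_rc_27_5 lc_e_rc_18_1 lc_e_rc_27_1 lc_e_rc_16_1 lc_e_rc_13_3 lc_e_rc_9_3 lc_e_rc_16_5 lc_e_rc_13_3 lc_e_rc_13_3 lc_e_rc_9_3 lc_e_Cert_tree lc_e_Cert_tree lc_e_rc_18_1 lc_e_Cert_tree lc_e_Cert_tree lc_e_rc_18_1 lc_e_rc_16_3 lc_e_Cert_tree lc_e_rc_18_1 lc_e_rc_18_1 lc_e_Cert_tree lc_e_rc_18_1 lc_e_rc_18_1 lc_e_rc_4_1 lc_e_rc_16_1 lc_e_rc_18_1 lc_e_rc_13_3 lc_e_Cert_tree lc_e_Cert_tree lc_e_rc_18_1 lc_e_rc_13_3 lc_e_Cert_tree lc_e_rc_18_1) (@D3.rec (fun _ => (Cert rels S Gen.e)) lc_e_rc_16_5 lc_e_rc_13_3 lc_e_rc_13_3 lc_e_rc_18_1 lc_e_rc_27_5 lc_e_rc_27_1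 lc_e_rc_18_1 lc_e_rc_4_1 lc_e_rc_18_1 lc_e_Cert_tree lc_e_Cert_tree lc_e_rc_9_3 lc_e_Cert_tree lc_e_Cert_tree lc_e_rc_18_1 lc_e_Cert_tree lc_e_Cert_tree lc_e_rc_18_1 lc_e_Cert_tree lc_e_Cert_tree lc_e_Cert_tree lc_e_rc_18_1 lc_e_Cert_tree lc_e_rc_19_4 lc_e_Cert_tree lc_e_Cert_tree lc_e_rc_18_1 lc_e_Cert_tree lc_e_rc_16_3 lc_e_rc_19_4 lc_e_Cert_tree lc_e_Cert_tree lc_e_rc_19_4 lc_e_rc_13_3 lc_e_rc_9_3 lc_e_Cert_tree lc_e_rc_18_1 lc_e_Cert_tree lc_e_Cert_tree lc_e_rc_9_3 lc_e_rc_18_1 lc_e_rc_13_3 lc_e_rc_18_1 lc_e_Cert_tree lc_e_Cert_tree lc_e_Cert_tree lc_e_rc_18_1 lc_e_Cert_tree lc_e_rc_27_7 lc_e_Cert_tree lc_e_rc_18_1 lc_e_rc_16_1 lc_e_rc_19_4 lc_e_rc_19_2 lc_e_Cert_tree lc_e_Cert_tree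 lc_e_Cert_tree lc_e_rc_18_1 lc_e_Cert_tree lc_e_rc_18_1 lc_e_rc_27_1 lc_e_rc_13_3) (@D3.rec (fun _ => (Cert rels S Gen.e)) lc_e_rc_27_5 lc_e_Cert_tree lc_e_rc_13_1 lc_e_rc_18_1 lc_e_Cert_tree lc_e_rc_4_3 lc_e_rc_18_1 lc_e_rc_9_3 lc_e_rc_27_1 lc_e_rc_9_3 lc_e_Cert_tree lc_e_Cert_tree lc_e_rc_18_1 lc_e_rc_19_0 lc_e_rc_18_1 lc_e_rc_27_1 lc_e_rc_18_1 lc_e_rc_18_1 lc_e_rc_19_2 lc_e_rc_4_3 lc_e_Cert_tree lc_e_rc_18_1 lc_e_rc_16_5 lc_e_rc_9_3 lc_e_Cert_tree lc_e_Cert_tree lc_e_rc_18_1 lc_e_Cert_tree lc_e_rc_27_7 lc_e_Cert_tree lc_e_rc_18_1 lc_e_rc_16_1 lc_e_rc_16_1 lc_e_rc_13_3 lc_e_rc_27_7 lc_e_rc_16_5 lc_e_Cert_tree lc_e_Cert_tree lc_e_rc_18_1 lc_e_rc_18_1 lc_e_Cert_tree lc_e_rc_18_1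 lc_e_rc_4_3 lc_e_Cert_tree lc_e_Cert_tree lc_e_rc_18_1 lc_e_rc_13_3 lc_e_rc_27_5 lc_e_rc_4_1 lc_e_Cert_tree lc_e_Cert_tree lc_e_rc_18_1 lc_e_Cert_tree lc_e_rc_18_1 lc_e_rc_16_1 lc_e_rc_4_1 lc_e_rc_9_3 lc_e_Cert_tree lc_e_rc_13_3 lc_e_Cert_tree lc_e_Cert_tree lc_e_rc_18_1) (@D3.rec (fun _ => (Cert rels S Gen.e)) lc_e_rc_18_1 lc_e_Cert_tree lc_e_rc_18_1 lc_e_rc_16_5 lc_e_Cert_tree lc_e_Cert_tree lc_e_rc_18_1 lc_e_rc_27_7 lc_e_rc_13_3 lc_e_Cert_tree lc_e_rc_13_3 lc_e_rc_9_3 lc_e_rc_16_3 lc_e_Cert_tree lc_e_rc_16_3 lc_e_rc_13_3 lc_e_rc_9_3 lc_e_Cert_tree lc_e_Cert_tree lc_e_rc_18_1 lc_e_Cert_tree lc_e_rc_18_1 lc_e_rc_27_1 lc_e_Cert_tree lc_e_rc_18_1 lc_e_Cert_tree lc_e_rc_18_1 lc_e_Cert_tree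 lc_e_rc_27_5 lc_e_rc_19_4 lc_e_Cert_tree lc_e_rc_18_1 lc_e_Cert_tree lc_e_Cert_tree lc_e_rc_4_3 lc_e_rc_18_1 lc_e_Cert_tree lc_e_rc_18_1 lc_e_rc_27_7 lc_e_rc_18_1 lc_e_Cert_tree lc_e_rc_18_1 lc_e_rc_4_3 lc_e_rc_18_1 lc_e_rc_19_4 lc_e_rc_16_3 lc_e_rc_16_3 lc_e_rc_9_3 lc_e_rc_13_3 lc_e_rc_9_3 lc_e_rc_18_1 lc_e_rc_16_3 lc_e_rc_27_5 lc_e_rc_18_1 lc_e_Cert_tree lc_e_rc_18_1 lc_e_Cert_tree lc_e_rc_19_2 lc_e_rc_13_3 lc_e_Cert_tree lc_e_Cert_tree lc_e_rc_18_1) (@D3.rec (fun _ => (Cert rels S Gen.e)) lc_e_Cert_tree lc_e_Cert_tree lc_e_rc_18_1 lc_e_Cert_tree lc_e_rc_18_1 lc_e_rc_27_7 lc_e_Cert_tree lc_e_rc_18_1 lc_e_rc_18_1 lc_e_rc_19_2 lc_e_rc_19_4 lc_e_rc_18_1 lc_e_Cert_tree lc_e_rc_19_4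 lc_e_Cert_tree lc_e_rc_18_1 lc_e_rc_4_3 lc_e_rc_16_3 lc_e_rc_19_2 lc_e_Cert_tree lc_e_Cert_tree lc_e_rc_18_1 lc_e_Cert_tree lc_e_Cert_tree lc_e_rc_18_1 lc_e_rc_27_7 lc_e_rc_16_3 lc_e_rc_19_2 lc_e_rc_16_5 lc_e_rc_18_1 lc_e_rc_18_1 lc_e_Cert_tree lc_e_Cert_tree lc_e_rc_18_1 lc_e_Cert_tree lc_e_Cert_tree lc_e_Cert_tree lc_e_Cert_tree lc_e_rc_18_1 lc_e_Cert_tree lc_e_Cert_tree lc_e_rc_18_1 lc_e_rc_9_3 lc_e_Cert_tree lc_e_rc_16_1 lc_e_rc_13_1 lc_e_rc_18_1 lc_e_rc_9_1 lc_e_rc_27_5 lc_e_Cert_tree lc_e_rc_18_1 lc_e_Cert_tree lc_e_Cert_tree lc_e_rc_27_7 lc_e_rc_18_1 lc_e_rc_18_1 lc_e_Cert_tree lc_e_rc_27_1 lc_e_rc_9_3 lc_e_Cert_tree lc_e_Cert_tree lc_e_rc_18_1) (@D3.rec (fun _ => (Cert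 rels S Gen.e)) lc_e_Cert_tree lc_e_Cert_tree lc_e_rc_18_1 lc_e_rc_18_1 lc_e_Cert_tree lc_e_Cert_tree lc_e_rc_16_3 lc_e_rc_9_3 lc_e_Cert_tree lc_e_rc_13_3 lc_e_rc_27_7 lc_e_rc_27_5 lc_e_rc_13_3 lc_e_rc_13_3 lc_e_rc_4_3 lc_e_rc_27_5 lc_e_rc_18_1 lc_e_rc_27_5 lc_e_rc_9_1 lc_e_rc_18_1 lc_e_rc_13_3 lc_e_rc_27_5 lc_e_rc_27_5 lc_e_rc_16_3 lc_e_rc_18_1 lc_e_rc_16_1 lc_e_rc_13_3 lc_e_Cert_tree lc_e_Cert_tree lc_e_rc_18_1 lc_e_rc_13_3 lc_e_rc_19_2 lc_e_rc_19_4 lc_e_Cert_tree lc_e_Cert_tree lc_e_Cert_tree lc_e_rc_18_1 lc_e_rc_18_1 lc_e_Cert_tree lc_e_Cert_tree lc_e_rc_18_1 lc_e_Cert_tree lc_e_rc_18_1 lc_e_Cert_tree lc_e_rc_18_1 lc_e_Cert_tree lc_e_Cert_tree lc_e_rc_16_1 lc_e_rc_19_4 lc_e_Cert_tree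 lc_e_Cert_tree lc_e_rc_27_5 lc_e_rc_18_1 lc_e_Cert_tree lc_e_Cert_tree lc_e_rc_27_7 lc_e_rc_18_1 lc_e_Cert_tree lc_e_rc_19_2 lc_e_rc_18_1 lc_e_rc_27_5 lc_e_rc_18_1) (@D3.rec (fun _ => (Cert rels S Gen.e)) lc_e_rc_18_1 lc_e_rc_27_7 lc_e_rc_13_3 lc_e_rc_9_3 lc_e_rc_19_4 lc_e_rc_27_5 lc_e_rc_16_3 lc_e_rc_27_7 lc_e_rc_13_3 lc_e_rc_27_7 lc_e_rc_13_1 lc_e_Cert_tree lc_e_rc_4_3 lc_e_Cert_tree lc_e_rc_18_1 lc_e_rc_18_1 lc_e_rc_19_4 lc_e_rc_13_3 lc_e_rc_13_3 lc_e_rc_19_0 lc_e_rc_13_3 lc_e_rc_27_7 lc_e_Cert_tree lc_e_rc_13_3 lc_e_rc_18_1 lc_e_rc_18_1 lc_e_Cert_tree lc_e_Cert_tree lc_e_rc_4_3 lc_e_rc_18_1 lc_e_rc_18_1 lc_e_rc_16_5 lc_e_rc_18_1 lc_e_rc_13_3 lc_e_Cert_tree lc_e_Cert_tree lc_e_rc_18_1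 lc_e_rc_27_1 lc_e_rc_18_1 lc_e_Cert_tree lc_e_Cert_tree lc_e_Cert_tree lc_e_Cert_tree lc_e_rc_18_1 lc_e_Cert_tree lc_e_rc_27_7 lc_e_rc_18_1 lc_e_Cert_tree lc_e_Cert_tree lc_e_rc_16_1 lc_e_rc_13_3 lc_e_Cert_tree lc_e_rc_27_1 lc_e_rc_18_1 lc_e_rc_18_1 lc_e_rc_18_1 lc_e_rc_18_1 lc_e_Cert_tree lc_e_Cert_tree lc_e_rc_18_1 lc_e_Cert_tree lc_e_Cert_tree) (@D3.rec (fun _ => (Cert rels S Gen.e)) lc_e_rc_9_3 lc_e_rc_18_1 lc_e_Cert_tree lc_e_Cert_tree lc_e_Cert_tree lc_e_rc_18_1 lc_e_rc_18_1 lc_e_Cert_tree lc_e_Cert_tree lc_e_rc_16_1 lc_e_Cert_tree lc_e_rc_18_1 lc_e_rc_9_3 lc_e_rc_18_1 lc_e_rc_19_2 lc_e_rc_16_3 lc_e_rc_19_4 lc_e_rc_9_3 lc_e_rc_13_3 lc_e_rc_27_1 lc_e_rc_27_1 lc_e_rc_18_1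 lc_e_Cert_tree lc_e_rc_19_2 lc_e_Cert_tree lc_e_rc_18_1 lc_e_rc_18_1 lc_e_Cert_tree lc_e_Cert_tree lc_e_Cert_tree lc_e_rc_18_1 lc_e_rc_13_3 lc_e_rc_18_1 lc_e_Cert_tree lc_e_Cert_tree lc_e_rc_16_1 lc_e_rc_18_1 lc_e_rc_4_3 lc_e_rc_4_3 lc_e_rc_18_1 lc_e_Cert_tree lc_e_Cert_tree lc_e_rc_18_1 lc_e_rc_13_3 lc_e_Cert_tree lc_e_rc_16_3 lc_e_rc_4_1 lc_e_Cert_tree lc_e_Cert_tree lc_e_Cert_tree lc_e_rc_18_1 lc_e_rc_18_1 lc_e_rc_19_2 lc_e_Cert_tree lc_e_rc_16_1 lc_e_rc_4_1 lc_e_Cert_tree lc_e_rc_18_1 lc_e_Cert_tree lc_e_rc_13_3 lc_e_rc_19_4 lc_e_Cert_tree) (@D3.rec (fun _ => (Cert rels S Gen.e)) lc_e_Cert_tree lc_e_Cert_tree lc_e_Cert_tree lc_e_Cert_tree lc_e_rc_18_1 lc_e_rc_13_3 lc_e_rc_18_1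 lc_e_rc_16_1 lc_e_rc_19_2 lc_e_Cert_tree lc_e_Cert_tree lc_e_Cert_tree lc_e_rc_18_1 lc_e_rc_18_1 lc_e_rc_16_1 lc_e_rc_19_2 lc_e_Cert_tree lc_e_rc_18_1 lc_e_rc_18_1 lc_e_Cert_tree lc_e_rc_18_1 lc_e_rc_16_1 lc_e_Cert_tree lc_e_Cert_tree lc_e_rc_18_1 lc_e_Cert_tree lc_e_Cert_tree lc_e_rc_18_1 lc_e_Cert_tree lc_e_Cert_tree lc_e_rc_13_3 lc_e_Cert_tree lc_e_rc_13_3 lc_e_Cert_tree lc_e_rc_18_1 lc_e_rc_13_1 lc_e_Cert_tree lc_e_rc_9_1 lc_e_rc_18_1 lc_e_rc_27_7 lc_e_Cert_tree lc_e_rc_18_1 lc_e_rc_13_3 lc_e_Cert_tree lc_e_Cert_tree lc_e_rc_18_1 lc_e_rc_18_1 lc_e_Cert_tree lc_e_Cert_tree lc_e_rc_18_1 lc_e_rc_18_1 lc_e_rc_27_5 lc_e_Cert_tree lc_e_rc_27_5 lc_e_rc_4_3 lc_e_rc_27_5 lc_e_rc_18_1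 lc_e_rc_9_1 lc_e_Cert_tree lc_e_rc_4_3 lc_e_Cert_tree lc_e_rc_4_3) (@D3.rec (fun _ => (Cert rels S Gen.e)) lc_e_rc_18_1 lc_e_rc_13_3 lc_e_Cert_tree lc_e_rc_18_1 lc_e_rc_4_3 lc_e_rc_9_3 lc_e_rc_9_3 lc_e_rc_13_3 lc_e_Cert_tree lc_e_rc_18_1 lc_e_rc_18_1 lc_e_Cert_tree lc_e_rc_18_1 lc_e_rc_27_1 lc_e_rc_4_3 lc_e_Cert_tree lc_e_rc_18_1 lc_e_rc_18_1 lc_e_rc_16_5 lc_e_rc_19_4 lc_e_rc_13_3 lc_e_rc_27_5 lc_e_rc_16_3 lc_e_rc_27_5 lc_e_rc_18_1 lc_e_rc_18_1 lc_e_rc_4_1 lc_e_rc_18_1 lc_e_rc_16_3 lc_e_Cert_tree lc_e_rc_19_4 lc_e_rc_13_3 lc_e_rc_18_1 lc_e_rc_16_1 lc_e_Cert_tree lc_e_rc_18_1 lc_e_rc_27_1 lc_e_rc_16_1 lc_e_rc_9_1 lc_e_rc_9_3 lc_e_rc_9_3 lc_e_rc_16_1 lc_e_rc_27_5 lc_e_rc_18_1 lc_e_rc_16_3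 lc_e_Cert_tree lc_e_rc_16_1 lc_e_rc_13_3 lc_e_Cert_tree lc_e_rc_9_3 lc_e_Cert_tree lc_e_rc_18_1 lc_e_rc_16_3 lc_e_rc_27_7 lc_e_rc_13_3 lc_e_rc_13_1 lc_e_rc_16_1 lc_e_rc_19_4 lc_e_rc_13_3 lc_e_Cert_tree lc_e_rc_9_3 lc_e_Cert_tree) (@D3.rec (fun _ => (Cert rels S Gen.e)) lc_e_Cert_tree lc_e_Cert_tree lc_e_Cert_tree lc_e_Cert_tree lc_e_rc_18_1 lc_e_rc_18_1 lc_e_Cert_tree lc_e_rc_19_2 lc_e_rc_16_1 lc_e_rc_19_4 lc_e_Cert_tree lc_e_Cert_tree lc_e_rc_16_3 lc_e_rc_18_1 lc_e_rc_27_5 lc_e_rc_19_2 lc_e_rc_27_7 lc_e_rc_18_1 lc_e_rc_13_1 lc_e_Cert_tree lc_e_Cert_tree lc_e_rc_18_1 lc_e_Cert_tree lc_e_rc_18_1 lc_e_rc_18_1 lc_e_Cert_tree lc_e_Cert_tree lc_e_rc_18_1 lc_e_Cert_tree lc_e_rc_16_1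 lc_e_rc_18_1 lc_e_Cert_tree lc_e_Cert_tree lc_e_rc_18_1 lc_e_Cert_tree lc_e_Cert_tree lc_e_rc_9_3 lc_e_Cert_tree lc_e_Cert_tree lc_e_Cert_tree lc_e_Cert_tree lc_e_rc_18_1 lc_e_rc_18_1 lc_e_Cert_tree lc_e_Cert_tree lc_e_rc_16_1 lc_e_rc_13_3 lc_e_Cert_tree lc_e_rc_18_1 lc_e_Cert_tree lc_e_Cert_tree lc_e_Cert_tree lc_e_Cert_tree lc_e_Cert_tree lc_e_rc_18_1 lc_e_rc_18_1 lc_e_rc_16_1 lc_e_Cert_tree lc_e_Cert_tree lc_e_Cert_tree lc_e_Cert_tree lc_e_rc_18_1) (@D3.rec (fun _ => (Cert rels S Gen.e)) lc_e_rc_18_1 lc_e_rc_16_1 lc_e_rc_27_1 lc_e_Cert_tree lc_e_rc_18_1 lc_e_rc_18_1 lc_e_rc_4_3 lc_e_rc_18_1 lc_e_Cert_tree lc_e_Cert_tree lc_e_rc_4_3 lc_e_rc_19_4 lc_e_rc_4_3 lc_e_rc_18_1 lc_e_Cert_tree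 lc_e_Cert_tree lc_e_rc_16_1 lc_e_Cert_tree lc_e_rc_18_1 lc_e_Cert_tree lc_e_Cert_tree lc_e_Cert_tree lc_e_rc_18_1 lc_e_Cert_tree lc_e_rc_27_5 lc_e_Cert_tree lc_e_rc_18_1 lc_e_Cert_tree lc_e_Cert_tree lc_e_rc_13_3 lc_e_Cert_tree lc_e_rc_18_1 lc_e_Cert_tree lc_e_Cert_tree lc_e_rc_16_3 lc_e_rc_9_3 lc_e_Cert_tree lc_e_Cert_tree lc_e_Cert_tree lc_e_rc_18_1 lc_e_rc_4_3 lc_e_Cert_tree lc_e_Cert_tree lc_e_rc_18_1 lc_e_rc_27_7 lc_e_Cert_tree lc_e_rc_18_1 lc_e_rc_4_3 lc_e_rc_27_7 lc_e_rc_27_7 lc_e_rc_9_3 lc_e_Cert_tree lc_e_Cert_tree lc_e_rc_9_1 lc_e_rc_18_1 lc_e_Cert_tree lc_e_Cert_tree lc_e_rc_18_1 lc_e_rc_18_1 lc_e_rc_16_1 lc_e_rc_9_3 lc_e_rc_13_3) (@D3.rec (fun _ => (Cert rels S Gen.e))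 lc_e_rc_27_5 lc_e_rc_16_5 lc_e_Cert_tree lc_e_rc_18_1 lc_e_Cert_tree lc_e_Cert_tree lc_e_rc_18_1 lc_e_rc_16_5 lc_e_rc_18_1 lc_e_Cert_tree lc_e_rc_18_1 lc_e_rc_19_2 lc_e_rc_19_4 lc_e_rc_9_1 lc_e_Cert_tree lc_e_Cert_tree lc_e_rc_18_1 lc_e_rc_16_5 lc_e_Cert_tree lc_e_rc_18_1 lc_e_rc_18_1 lc_e_rc_13_3 lc_e_rc_19_0 lc_e_Cert_tree lc_e_rc_27_5 lc_e_rc_18_1 lc_e_rc_18_1 lc_e_rc_18_1 lc_e_Cert_tree lc_e_rc_18_1 lc_e_rc_27_5 lc_e_rc_19_2 lc_e_rc_9_3 lc_e_rc_16_5 lc_e_rc_9_3 lc_e_rc_18_1 lc_e_rc_16_3 lc_e_rc_19_0 lc_e_Cert_tree lc_e_rc_27_5 lc_e_rc_18_1 lc_e_rc_13_3 lc_e_rc_13_3 lc_e_Cert_tree lc_e_rc_18_1 lc_e_rc_18_1 lc_e_rc_9_3 lc_e_rc_13_3 lc_e_rc_18_1 lc_e_rc_16_3 lc_e_rc_19_4 lc_e_rc_16_3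 lc_e_rc_27_5 lc_e_rc_18_1 lc_e_rc_9_1 lc_e_rc_27_5 lc_e_rc_27_1 lc_e_rc_13_3 lc_e_rc_4_3 lc_e_Cert_tree lc_e_rc_18_1 lc_e_rc_13_3) (@D3.rec (fun _ => (Cert rels S Gen.e)) lc_e_rc_19_4 lc_e_rc_9_3 lc_e_rc_16_3 lc_e_rc_9_3 lc_e_Cert_tree lc_e_rc_16_1 lc_e_rc_19_4 lc_e_rc_16_3 lc_e_rc_13_1 lc_e_rc_9_1 lc_e_rc_9_1 lc_e_rc_16_1 lc_e_rc_19_4 lc_e_rc_16_3 lc_e_Cert_tree lc_e_Cert_tree lc_e_rc_18_1 lc_e_Cert_tree lc_e_Cert_tree lc_e_rc_18_1 lc_e_Cert_tree lc_e_rc_13_3 lc_e_Cert_tree lc_e_rc_16_3 lc_e_rc_19_4 lc_e_Cert_tree lc_e_rc_16_3 lc_e_rc_18_1 lc_e_rc_13_3 lc_e_rc_13_3 lc_e_rc_13_1 lc_e_rc_4_3 lc_e_rc_9_1 lc_e_Cert_tree lc_e_rc_19_4 lc_e_Cert_tree lc_e_Cert_tree lc_e_rc_4_3 lc_e_rc_18_1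 lc_e_rc_18_1 lc_e_Cert_tree lc_e_rc_16_1 lc_e_rc_19_4 lc_e_Cert_tree lc_e_rc_18_1 lc_e_Cert_tree lc_e_Cert_tree lc_e_rc_18_1 lc_e_rc_18_1 lc_e_rc_18_1 lc_e_Cert_tree lc_e_rc_16_1 lc_e_rc_13_3 lc_e_rc_13_3 lc_e_rc_9_3 lc_e_rc_13_3 lc_e_rc_13_3 lc_e_rc_13_1 lc_e_Cert_tree lc_e_rc_9_3 lc_e_Cert_tree lc_e_Cert_tree) (@D3.rec (fun _ => (Cert rels S Gen.e)) lc_e_rc_9_3 lc_e_rc_16_3 lc_e_rc_4_1 lc_e_rc_18_1 lc_e_Cert_tree lc_e_rc_27_7 lc_e_rc_18_1 lc_e_Cert_tree lc_e_rc_18_1 lc_e_Cert_tree lc_e_rc_19_4 lc_e_rc_16_1 lc_e_rc_19_2 lc_e_Cert_tree lc_e_rc_18_1 lc_e_rc_9_3 lc_e_rc_13_3 lc_e_Cert_tree lc_e_rc_18_1 lc_e_Cert_tree lc_e_Cert_tree lc_e_rc_4_3 lc_e_rc_18_1 lc_e_rc_18_1 lc_e_Cert_tree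 lc_e_rc_16_1 lc_e_Cert_tree lc_e_Cert_tree lc_e_Cert_tree lc_e_Cert_tree lc_e_rc_4_3 lc_e_rc_18_1 lc_e_rc_18_1 lc_e_rc_16_1 lc_e_rc_13_1 lc_e_Cert_tree lc_e_Cert_tree lc_e_rc_27_1 lc_e_rc_18_1 lc_e_rc_18_1 lc_e_rc_16_1 lc_e_rc_4_3 lc_e_rc_18_1 lc_e_Cert_tree lc_e_rc_18_1 lc_e_Cert_tree lc_e_rc_18_1 lc_e_rc_16_1 lc_e_rc_19_4 lc_e_Cert_tree lc_e_Cert_tree lc_e_Cert_tree lc_e_rc_18_1 lc_e_Cert_tree lc_e_Cert_tree lc_e_Cert_tree lc_e_rc_18_1 lc_e_Cert_tree lc_e_Cert_tree lc_e_rc_13_3 lc_e_Cert_tree lc_e_rc_9_3) (@D3.rec (fun _ => (Cert rels S Gen.e)) lc_e_Cert_tree lc_e_rc_13_1 lc_e_rc_27_7 lc_e_rc_18_1 lc_e_rc_4_3 lc_e_Cert_tree lc_e_Cert_tree lc_e_rc_18_1 lc_e_rc_16_3 lc_e_rc_13_3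 lc_e_Cert_tree lc_e_rc_16_3 lc_e_rc_18_1 lc_e_Cert_tree lc_e_Cert_tree lc_e_rc_18_1 lc_e_rc_13_3 lc_e_rc_27_7 lc_e_rc_9_3 lc_e_rc_13_3 lc_e_rc_27_1 lc_e_rc_13_3 lc_e_Cert_tree lc_e_rc_27_5 lc_e_Cert_tree lc_e_rc_27_5 lc_e_rc_13_3 lc_e_rc_27_7 lc_e_rc_9_3 lc_e_Cert_tree lc_e_Cert_tree lc_e_rc_18_1 lc_e_Cert_tree lc_e_Cert_tree lc_e_rc_18_1 lc_e_rc_19_4 lc_e_rc_16_1 lc_e_Cert_tree lc_e_Cert_tree lc_e_rc_18_1 lc_e_Cert_tree lc_e_Cert_tree lc_e_rc_18_1 lc_e_rc_27_7 lc_e_rc_13_3 lc_e_rc_27_5 lc_e_Cert_tree lc_e_rc_9_1 lc_e_Cert_tree lc_e_Cert_tree lc_e_rc_18_1 lc_e_Cert_tree lc_e_rc_18_1 lc_e_Cert_tree lc_e_rc_18_1 lc_e_rc_27_1 lc_e_rc_13_3 lc_e_rc_4_1 lc_e_rc_19_0 lc_e_Cert_tree lc_e_rc_9_3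 lc_e_rc_18_1) (@D3.rec (fun _ => (Cert rels S Gen.e)) lc_e_rc_19_0 lc_e_Cert_tree lc_e_rc_18_1 lc_e_rc_27_1 lc_e_rc_19_4 lc_e_rc_4_3 lc_e_rc_9_3 lc_e_rc_16_3 lc_e_rc_4_3 lc_e_rc_18_1 lc_e_rc_13_3 lc_e_rc_19_0 lc_e_rc_27_5 lc_e_rc_27_1 lc_e_Cert_tree lc_e_rc_13_3 lc_e_rc_13_3 lc_e_rc_16_5 lc_e_rc_27_1 lc_e_Cert_tree lc_e_rc_18_1 lc_e_Cert_tree lc_e_rc_18_1 lc_e_rc_18_1 lc_e_Cert_tree lc_e_rc_19_4 lc_e_Cert_tree lc_e_rc_27_7 lc_e_Cert_tree lc_e_rc_13_3 lc_e_Cert_tree lc_e_rc_18_1 lc_e_Cert_tree lc_e_Cert_tree lc_e_rc_19_4 lc_e_rc_18_1 lc_e_rc_27_5 lc_e_Cert_tree lc_e_rc_19_4 lc_e_rc_4_1 lc_e_rc_18_1 lc_e_Cert_tree lc_e_Cert_tree lc_e_Cert_tree lc_e_rc_18_1 lc_e_Cert_tree lc_e_Cert_tree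 lc_e_rc_18_1 lc_e_Cert_tree lc_e_rc_27_5 lc_e_rc_16_1 lc_e_rc_19_4 lc_e_Cert_tree lc_e_rc_19_2 lc_e_rc_18_1 lc_e_rc_18_1 lc_e_rc_16_1 lc_e_Cert_tree lc_e_rc_16_5 lc_e_rc_19_4 lc_e_Cert_tree lc_e_rc_9_3) (@D3.rec (fun _ => (Cert rels S Gen.e)) lc_e_Cert_tree lc_e_rc_16_1 lc_e_rc_9_1 lc_e_Cert_tree lc_e_Cert_tree lc_e_rc_4_3 lc_e_rc_18_1 lc_e_rc_18_1 lc_e_Cert_tree lc_e_Cert_tree lc_e_rc_16_1 lc_e_rc_19_4 lc_e_rc_13_3 lc_e_rc_13_3 lc_e_rc_19_4 lc_e_rc_19_2 lc_e_Cert_tree lc_e_Cert_tree lc_e_rc_18_1 lc_e_rc_13_3 lc_e_rc_13_3 lc_e_rc_16_3 lc_e_rc_27_5 lc_e_rc_19_4 lc_e_rc_27_5 lc_e_rc_13_3 lc_e_rc_4_1 lc_e_rc_13_3 lc_e_rc_27_1 lc_e_rc_9_3 lc_e_Cert_tree lc_e_Cert_tree lc_e_rc_18_1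 lc_e_Cert_tree lc_e_rc_18_1 lc_e_Cert_tree lc_e_Cert_tree lc_e_Cert_tree lc_e_rc_18_1 lc_e_rc_13_3 lc_e_Cert_tree lc_e_rc_16_3 lc_e_Cert_tree lc_e_rc_19_2 lc_e_Cert_tree lc_e_Cert_tree lc_e_rc_9_1 lc_e_rc_18_1 lc_e_rc_18_1 lc_e_Cert_tree lc_e_rc_19_4 lc_e_rc_16_1 lc_e_rc_13_3 lc_e_rc_4_3 lc_e_Cert_tree lc_e_Cert_tree lc_e_Cert_tree lc_e_rc_27_7 lc_e_rc_18_1 lc_e_rc_18_1 lc_e_rc_16_1 lc_e_Cert_tree) (@D3.rec (fun _ => (Cert rels S Gen.e)) lc_e_rc_18_1 lc_e_rc_16_3 lc_e_rc_27_5 lc_e_rc_18_1 lc_e_Cert_tree lc_e_rc_13_3 lc_e_rc_16_1 lc_e_rc_16_3 lc_e_rc_9_3 lc_e_Cert_tree lc_e_Cert_tree lc_e_Cert_tree lc_e_rc_18_1 lc_e_Cert_tree lc_e_Cert_tree lc_e_rc_13_3 lc_e_Cert_tree lc_e_rc_4_3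 lc_e_rc_4_1 lc_e_rc_19_2 lc_e_Cert_tree lc_e_rc_9_3 lc_e_rc_9_3 lc_e_rc_9_3 lc_e_rc_18_1 lc_e_Cert_tree lc_e_Cert_tree lc_e_rc_18_1 lc_e_rc_13_3 lc_e_rc_19_4 lc_e_rc_27_1 lc_e_rc_13_3 lc_e_rc_9_3 lc_e_Cert_tree lc_e_Cert_tree lc_e_rc_27_5 lc_e_rc_18_1 lc_e_rc_19_4 lc_e_Cert_tree lc_e_rc_9_3 lc_e_Cert_tree lc_e_rc_18_1 lc_e_rc_18_1 lc_e_rc_27_7 lc_e_rc_27_7 lc_e_rc_19_0 lc_e_Cert_tree lc_e_Cert_tree lc_e_Cert_tree lc_e_rc_18_1 lc_e_rc_9_3 lc_e_rc_16_5 lc_e_rc_4_3 lc_e_Cert_tree lc_e_Cert_tree lc_e_rc_18_1 lc_e_Cert_tree lc_e_rc_18_1 lc_e_rc_19_0 lc_e_rc_27_5 lc_e_rc_4_3 lc_e_Cert_tree) (@D3.rec (fun _ => (Cert rels S Gen.e)) lc_e_Cert_tree lc_e_rc_18_1 lc_e_rc_27_7 lc_e_rc_13_3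 lc_e_rc_4_3 lc_e_rc_18_1 lc_e_Cert_tree lc_e_rc_16_1 lc_e_rc_19_4 lc_e_rc_9_3 lc_e_Cert_tree lc_e_rc_18_1 lc_e_Cert_tree lc_e_Cert_tree lc_e_rc_18_1 lc_e_rc_18_1 lc_e_rc_18_1 lc_e_Cert_tree lc_e_rc_16_1 lc_e_rc_27_5 lc_e_rc_13_3 lc_e_Cert_tree lc_e_Cert_tree lc_e_rc_18_1 lc_e_Cert_tree lc_e_Cert_tree lc_e_rc_18_1 lc_e_rc_16_3 lc_e_rc_19_4 lc_e_rc_18_1 lc_e_rc_16_3 lc_e_rc_19_4 lc_e_Cert_tree lc_e_rc_18_1 lc_e_Cert_tree lc_e_rc_18_1 lc_e_rc_16_1 lc_e_rc_19_4 lc_e_Cert_tree lc_e_Cert_tree lc_e_rc_18_1 lc_e_Cert_tree lc_e_Cert_tree lc_e_rc_18_1 lc_e_Cert_tree lc_e_Cert_tree lc_e_rc_13_3 lc_e_Cert_tree lc_e_rc_27_1 lc_e_Cert_tree lc_e_rc_19_2 lc_e_rc_27_1 lc_e_rc_18_1 lc_e_rc_27_5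 lc_e_Cert_tree lc_e_Cert_tree lc_e_rc_18_1 lc_e_rc_27_1 lc_e_rc_27_5 lc_e_rc_18_1 lc_e_Cert_tree lc_e_Cert_tree) (@D3.rec (fun _ => (Cert rels S Gen.e)) lc_e_rc_18_1 lc_e_rc_18_1 lc_e_rc_16_5 lc_e_rc_27_5 lc_e_rc_18_1 lc_e_Cert_tree lc_e_rc_18_1 lc_e_rc_13_3 lc_e_Cert_tree lc_e_rc_18_1 lc_e_rc_27_7 lc_e_rc_18_1 lc_e_rc_18_1 lc_e_rc_19_4 lc_e_rc_16_5 lc_e_rc_9_3 lc_e_rc_9_3 lc_e_Cert_tree lc_e_rc_18_1 lc_e_rc_16_3 lc_e_Cert_tree lc_e_Cert_tree lc_e_Cert_tree lc_e_rc_18_1 lc_e_rc_16_3 lc_e_rc_19_4 lc_e_Cert_tree lc_e_Cert_tree lc_e_rc_18_1 lc_e_rc_16_3 lc_e_rc_19_4 lc_e_Cert_tree lc_e_Cert_tree lc_e_rc_16_1 lc_e_rc_19_4 lc_e_Cert_tree lc_e_Cert_tree lc_e_rc_18_1 lc_e_Cert_tree lc_e_Cert_tree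 lc_e_rc_18_1 lc_e_Cert_tree lc_e_Cert_tree lc_e_rc_13_3 lc_e_rc_18_1 lc_e_Cert_tree lc_e_Cert_tree lc_e_rc_18_1 lc_e_rc_18_1 lc_e_Cert_tree lc_e_Cert_tree lc_e_rc_18_1 lc_e_Cert_tree lc_e_rc_18_1 lc_e_rc_19_4 lc_e_rc_13_3 lc_e_Cert_tree lc_e_rc_18_1 lc_e_rc_16_1 lc_e_rc_27_5 lc_e_Cert_tree lc_e_rc_18_1) (@D3.rec (fun _ => (Cert rels S Gen.e)) lc_e_Cert_tree lc_e_Cert_tree lc_e_rc_13_3 lc_e_Cert_tree lc_e_rc_18_1 lc_e_Cert_tree lc_e_Cert_tree lc_e_Cert_tree lc_e_Cert_tree lc_e_rc_18_1 lc_e_Cert_tree lc_e_rc_18_1 lc_e_Cert_tree lc_e_rc_13_3 lc_e_rc_16_1 lc_e_rc_27_5 lc_e_Cert_tree lc_e_rc_18_1 lc_e_rc_13_3 lc_e_rc_13_3 lc_e_rc_19_4 lc_e_rc_13_3 lc_e_rc_9_3 lc_e_Cert_tree lc_e_Cert_tree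 lc_e_rc_13_3 lc_e_rc_18_1 lc_e_rc_16_5 lc_e_rc_19_2 lc_e_Cert_tree lc_e_Cert_tree lc_e_Cert_tree lc_e_rc_18_1 lc_e_rc_18_1 lc_e_Cert_tree lc_e_rc_16_1 lc_e_Cert_tree lc_e_Cert_tree lc_e_rc_18_1 lc_e_rc_18_1 lc_e_rc_18_1 lc_e_rc_16_1 lc_e_rc_19_2 lc_e_rc_27_5 lc_e_rc_13_3 lc_e_Cert_tree lc_e_rc_18_1 lc_e_Cert_tree lc_e_Cert_tree lc_e_Cert_tree lc_e_rc_18_1 lc_e_Cert_tree lc_e_Cert_tree lc_e_rc_18_1 lc_e_Cert_tree lc_e_rc_27_5 lc_e_rc_16_1 lc_e_Cert_tree lc_e_rc_18_1 lc_e_Cert_tree lc_e_rc_9_3 lc_e_rc_9_1) (@D3.rec (fun _ => (Cert rels S Gen.e)) lc_e_Cert_tree lc_e_Cert_tree lc_e_Cert_tree lc_e_rc_18_1 lc_e_rc_18_1 lc_e_Cert_tree lc_e_Cert_tree lc_e_rc_16_1 lc_e_rc_4_1 lc_e_rc_13_3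 lc_e_Cert_tree lc_e_Cert_tree lc_e_Cert_tree lc_e_Cert_tree lc_e_rc_18_1 lc_e_rc_18_1 lc_e_rc_16_1 lc_e_Cert_tree lc_e_Cert_tree lc_e_Cert_tree lc_e_Cert_tree lc_e_rc_18_1 lc_e_rc_18_1 lc_e_rc_16_1 lc_e_rc_4_1 lc_e_Cert_tree lc_e_rc_18_1 lc_e_Cert_tree lc_e_rc_18_1 lc_e_Cert_tree lc_e_rc_18_1 lc_e_Cert_tree lc_e_Cert_tree lc_e_rc_16_1 lc_e_rc_19_4 lc_e_Cert_tree lc_e_Cert_tree lc_e_rc_18_1 lc_e_Cert_tree lc_e_Cert_tree lc_e_rc_18_1 lc_e_Cert_tree lc_e_Cert_tree lc_e_rc_13_3 lc_e_Cert_tree lc_e_rc_27_1 lc_e_rc_18_1 lc_e_rc_18_1 lc_e_Cert_tree lc_e_Cert_tree lc_e_rc_18_1 lc_e_rc_27_1 lc_e_rc_9_3 lc_e_Cert_tree lc_e_rc_9_1 lc_e_rc_18_1 lc_e_Cert_tree lc_e_Cert_tree lc_e_rc_18_1 lc_e_rc_18_1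 lc_e_Cert_tree lc_e_rc_18_1) (@D3.rec (fun _ => (Cert rels S Gen.e)) lc_e_rc_13_3 lc_e_Cert_tree lc_e_rc_18_1 lc_e_rc_18_1 lc_e_rc_18_1 lc_e_Cert_tree lc_e_rc_4_3 lc_e_rc_18_1 lc_e_rc_4_3 lc_e_Cert_tree lc_e_rc_18_1 lc_e_Cert_tree lc_e_rc_18_1 lc_e_Cert_tree lc_e_Cert_tree lc_e_Cert_tree lc_e_Cert_tree lc_e_rc_18_1 lc_e_Cert_tree lc_e_Cert_tree lc_e_Cert_tree lc_e_rc_18_1 lc_e_rc_13_3 lc_e_rc_27_1 lc_e_rc_16_1 lc_e_rc_18_1 lc_e_Cert_tree lc_e_rc_16_1 lc_e_rc_19_2 lc_e_rc_13_3 lc_e_rc_9_3 lc_e_rc_16_5 lc_e_Cert_tree lc_e_rc_27_5 lc_e_Cert_tree lc_e_rc_13_3 lc_e_Cert_tree lc_e_Cert_tree lc_e_Cert_tree lc_e_rc_18_1 lc_e_rc_18_1 lc_e_Cert_tree lc_e_rc_19_4 lc_e_rc_16_1 lc_e_rc_19_2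 lc_e_rc_27_7 lc_e_rc_13_3 lc_e_Cert_tree lc_e_rc_13_3 lc_e_rc_27_7 lc_e_rc_13_3 lc_e_rc_9_3 lc_e_Cert_tree lc_e_rc_9_3 lc_e_Cert_tree lc_e_Cert_tree lc_e_rc_18_1 lc_e_rc_18_1 lc_e_rc_16_1 lc_e_rc_18_1 lc_e_Cert_tree lc_e_rc_4_3) (@D3.rec (fun _ => (Cert rels S Gen.e)) lc_e_rc_18_1 lc_e_rc_18_1 lc_e_rc_16_1 lc_e_Cert_tree lc_e_Cert_tree lc_e_rc_18_1 lc_e_rc_16_1 lc_e_rc_19_2 lc_e_rc_27_1 lc_e_rc_13_3 lc_e_Cert_tree lc_e_Cert_tree lc_e_rc_18_1 lc_e_rc_27_7 lc_e_rc_16_3 lc_e_rc_19_2 lc_e_rc_27_5 lc_e_Cert_tree lc_e_rc_18_1 lc_e_rc_19_2 lc_e_rc_19_4 lc_e_Cert_tree lc_e_rc_18_1 lc_e_Cert_tree lc_e_rc_18_1 lc_e_rc_4_1 lc_e_rc_18_1 lc_e_rc_18_1 lc_e_rc_16_1 lc_e_rc_18_1 lc_e_Cert_tree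 lc_e_rc_18_1 lc_e_rc_18_1 lc_e_Cert_tree lc_e_Cert_tree lc_e_Cert_tree lc_e_Cert_tree lc_e_rc_18_1 lc_e_rc_18_1 lc_e_Cert_tree lc_e_Cert_tree lc_e_rc_16_1 lc_e_rc_18_1 lc_e_rc_13_3 lc_e_rc_16_5 lc_e_rc_13_3 lc_e_Cert_tree lc_e_Cert_tree lc_e_Cert_tree lc_e_rc_18_1 lc_e_rc_18_1 lc_e_Cert_tree lc_e_Cert_tree lc_e_rc_16_1 lc_e_Cert_tree lc_e_Cert_tree lc_e_Cert_tree lc_e_Cert_tree lc_e_rc_18_1 lc_e_rc_18_1 lc_e_rc_16_1 lc_e_rc_19_2) (@D3.rec (fun _ => (Cert rels S Gen.e)) lc_e_Cert_tree lc_e_Cert_tree lc_e_Cert_tree lc_e_rc_18_1 lc_e_rc_18_1 lc_e_rc_16_1 lc_e_Cert_tree lc_e_rc_18_1 lc_e_Cert_tree lc_e_rc_18_1 lc_e_Cert_tree lc_e_rc_18_1 lc_e_Cert_tree lc_e_Cert_tree lc_e_rc_16_1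 lc_e_rc_19_4 lc_e_Cert_tree lc_e_Cert_tree lc_e_rc_18_1 lc_e_Cert_tree lc_e_Cert_tree lc_e_rc_18_1 lc_e_Cert_tree lc_e_Cert_tree lc_e_rc_13_3 lc_e_rc_18_1 lc_e_Cert_tree lc_e_Cert_tree lc_e_Cert_tree lc_e_rc_18_1 lc_e_rc_18_1 lc_e_Cert_tree lc_e_Cert_tree lc_e_rc_18_1 lc_e_Cert_tree lc_e_Cert_tree lc_e_rc_18_1 lc_e_rc_19_4 lc_e_rc_16_3 lc_e_rc_19_4 lc_e_rc_4_1 lc_e_rc_13_3 lc_e_rc_9_3 lc_e_Cert_tree lc_e_rc_19_2 lc_e_rc_9_1 lc_e_rc_16_3 lc_e_rc_27_7 lc_e_rc_18_1 lc_e_Cert_tree lc_e_rc_13_1 lc_e_rc_18_1 lc_e_rc_19_2 lc_e_rc_19_4 lc_e_Cert_tree lc_e_Cert_tree lc_e_Cert_tree lc_e_rc_18_1 lc_e_rc_9_3 lc_e_rc_18_1 lc_e_rc_16_1 lc_e_rc_27_1) (@D3.rec (fun _ => (Cert rels S Gen.e)) lc_e_rc_18_1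 lc_e_Cert_tree lc_e_rc_27_5 lc_e_rc_18_1 lc_e_Cert_tree lc_e_Cert_tree lc_e_rc_18_1 lc_e_rc_16_1 lc_e_rc_13_3 lc_e_Cert_tree lc_e_Cert_tree lc_e_rc_18_1 lc_e_rc_18_1 lc_e_Cert_tree lc_e_Cert_tree lc_e_rc_18_1 lc_e_Cert_tree lc_e_rc_27_7 lc_e_Cert_tree lc_e_rc_18_1 lc_e_rc_16_5 lc_e_rc_18_1 lc_e_rc_19_4 lc_e_Cert_tree lc_e_rc_18_1 lc_e_rc_19_4 lc_e_Cert_tree lc_e_rc_16_3 lc_e_rc_16_5 lc_e_Cert_tree lc_e_rc_16_5 lc_e_Cert_tree lc_e_rc_18_1 lc_e_rc_16_3 lc_e_rc_19_2 lc_e_Cert_tree lc_e_rc_16_3 lc_e_rc_18_1 lc_e_Cert_tree lc_e_Cert_tree lc_e_Cert_tree lc_e_Cert_tree lc_e_rc_18_1 lc_e_rc_18_1 lc_e_rc_16_1 lc_e_Cert_tree lc_e_Cert_tree lc_e_Cert_tree lc_e_rc_18_1 lc_e_rc_18_1 lc_e_rc_16_1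 lc_e_rc_13_1 lc_e_Cert_tree lc_e_rc_18_1 lc_e_rc_18_1 lc_e_Cert_tree lc_e_Cert_tree lc_e_rc_16_3 lc_e_rc_9_3 lc_e_Cert_tree lc_e_rc_18_1 lc_e_Cert_tree) (@D3.rec (fun _ => (Cert rels S Gen.e)) lc_e_rc_18_1 lc_e_Cert_tree lc_e_Cert_tree lc_e_rc_16_1 lc_e_rc_19_2 lc_e_Cert_tree lc_e_Cert_tree lc_e_rc_18_1 lc_e_Cert_tree lc_e_Cert_tree lc_e_rc_18_1 lc_e_Cert_tree lc_e_Cert_tree lc_e_rc_13_3 lc_e_rc_16_1 lc_e_Cert_tree lc_e_Cert_tree lc_e_rc_18_1 lc_e_rc_27_1 lc_e_Cert_tree lc_e_Cert_tree lc_e_Cert_tree lc_e_rc_18_1 lc_e_rc_18_1 lc_e_rc_18_1 lc_e_rc_16_1 lc_e_rc_18_1 lc_e_rc_18_1 lc_e_rc_9_3 lc_e_Cert_tree lc_e_rc_18_1 lc_e_rc_16_3 lc_e_Cert_tree lc_e_Cert_tree lc_e_rc_18_1 lc_e_rc_13_3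 lc_e_rc_18_1 lc_e_rc_18_1 lc_e_Cert_tree lc_e_rc_13_3 lc_e_Cert_tree lc_e_rc_18_1 lc_e_Cert_tree lc_e_Cert_tree lc_e_rc_16_1 lc_e_Cert_tree lc_e_Cert_tree lc_e_rc_16_1 lc_e_rc_19_4 lc_e_Cert_tree lc_e_Cert_tree lc_e_rc_18_1 lc_e_Cert_tree lc_e_Cert_tree lc_e_rc_18_1 lc_e_Cert_tree lc_e_Cert_tree lc_e_Cert_tree lc_e_rc_18_1 lc_e_Cert_tree lc_e_rc_18_1 lc_e_Cert_tree) (@D3.rec (fun _ => (Cert rels S Gen.e)) lc_e_Cert_tree lc_e_Cert_tree lc_e_rc_18_1 lc_e_rc_18_1 lc_e_rc_18_1 lc_e_rc_16_1 lc_e_rc_19_2 lc_e_rc_19_4 lc_e_rc_9_3 lc_e_rc_13_3 lc_e_rc_18_1 lc_e_rc_18_1 lc_e_rc_27_5 lc_e_rc_18_1 lc_e_rc_16_1 lc_e_Cert_tree lc_e_Cert_tree lc_e_Cert_tree lc_e_rc_18_1 lc_e_rc_18_1 lc_e_rc_16_1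 lc_e_rc_19_4 lc_e_Cert_tree lc_e_Cert_tree lc_e_Cert_tree lc_e_Cert_tree lc_e_rc_18_1 lc_e_rc_18_1 lc_e_rc_16_1 lc_e_Cert_tree lc_e_Cert_tree lc_e_Cert_tree lc_e_rc_18_1 lc_e_Cert_tree lc_e_Cert_tree lc_e_Cert_tree lc_e_rc_18_1 lc_e_Cert_tree lc_e_rc_18_1 lc_e_Cert_tree lc_e_Cert_tree lc_e_Cert_tree lc_e_rc_18_1 lc_e_Cert_tree lc_e_Cert_tree lc_e_rc_16_1 lc_e_rc_19_4 lc_e_Cert_tree lc_e_Cert_tree lc_e_rc_16_1 lc_e_rc_19_4 lc_e_Cert_tree lc_e_Cert_tree lc_e_rc_18_1 lc_e_Cert_tree lc_e_rc_13_1 lc_e_rc_4_3 lc_e_rc_18_1 lc_e_Cert_tree lc_e_Cert_tree lc_e_rc_13_3 lc_e_Cert_tree) (@D3.rec (fun _ => (Cert rels S Gen.e)) lc_e_rc_18_1 lc_e_rc_16_1 lc_e_rc_18_1 lc_e_Cert_tree lc_e_rc_19_0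 lc_e_rc_18_1 lc_e_Cert_tree lc_e_Cert_tree lc_e_rc_18_1 lc_e_rc_18_1 lc_e_rc_16_5 lc_e_Cert_tree lc_e_Cert_tree lc_e_rc_18_1 lc_e_rc_18_1 lc_e_rc_16_1 lc_e_rc_16_1 lc_e_Cert_tree lc_e_Cert_tree lc_e_rc_18_1 lc_e_Cert_tree lc_e_Cert_tree lc_e_Cert_tree lc_e_rc_18_1 lc_e_rc_16_3 lc_e_rc_18_1 lc_e_Cert_tree lc_e_Cert_tree lc_e_rc_18_1 lc_e_rc_16_3 lc_e_Cert_tree lc_e_rc_18_1 lc_e_rc_18_1 lc_e_rc_18_1 lc_e_Cert_tree lc_e_Cert_tree lc_e_rc_16_1 lc_e_rc_13_1 lc_e_Cert_tree lc_e_rc_18_1 lc_e_Cert_tree lc_e_rc_18_1 lc_e_Cert_tree lc_e_Cert_tree lc_e_rc_16_1 lc_e_rc_19_4 lc_e_Cert_tree lc_e_Cert_tree lc_e_rc_18_1 lc_e_Cert_tree lc_e_Cert_tree lc_e_rc_18_1 lc_e_Cert_tree lc_e_Cert_tree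 lc_e_rc_13_3 lc_e_rc_9_3 lc_e_Cert_tree lc_e_Cert_tree lc_e_rc_18_1 lc_e_rc_13_3 lc_e_Cert_tree lc_e_rc_18_1) (@D3.rec (fun _ => (Cert rels S Gen.e)) lc_e_rc_27_1 lc_e_rc_9_1 lc_e_rc_16_3 lc_e_rc_27_5 lc_e_Cert_tree lc_e_Cert_tree lc_e_Cert_tree lc_e_Cert_tree lc_e_rc_18_1 lc_e_rc_18_1 lc_e_rc_16_1 lc_e_rc_9_3 lc_e_rc_18_1 lc_e_rc_19_4 lc_e_rc_18_1 lc_e_rc_13_3 lc_e_rc_4_3 lc_e_Cert_tree lc_e_rc_18_1 lc_e_rc_18_1 lc_e_Cert_tree lc_e_rc_18_1 lc_e_Cert_tree lc_e_Cert_tree lc_e_Cert_tree lc_e_rc_18_1 lc_e_rc_27_5 lc_e_Cert_tree lc_e_rc_16_1 lc_e_rc_13_1 lc_e_Cert_tree lc_e_Cert_tree lc_e_rc_16_1 lc_e_rc_19_4 lc_e_rc_18_1 lc_e_rc_19_2 lc_e_Cert_tree lc_e_Cert_tree lc_e_Cert_tree lc_e_rc_18_1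 lc_e_Cert_tree lc_e_Cert_tree lc_e_rc_13_3 lc_e_Cert_tree lc_e_Cert_tree lc_e_Cert_tree lc_e_rc_18_1 lc_e_rc_19_4 lc_e_Cert_tree lc_e_rc_18_1 lc_e_rc_18_1 lc_e_Cert_tree lc_e_rc_9_3 lc_e_Cert_tree lc_e_rc_19_4 lc_e_Cert_tree lc_e_Cert_tree lc_e_rc_18_1 lc_e_Cert_tree lc_e_Cert_tree lc_e_Cert_tree lc_e_rc_18_1) (@D3.rec (fun _ => (Cert rels S Gen.e)) lc_e_Cert_tree lc_e_rc_18_1 lc_e_Cert_tree lc_e_rc_18_1 lc_e_Cert_tree lc_e_rc_16_5 lc_e_rc_18_1 lc_e_Cert_tree lc_e_Cert_tree lc_e_rc_16_1 lc_e_rc_13_1 lc_e_rc_18_1 lc_e_rc_9_1 lc_e_Cert_tree lc_e_rc_18_1 lc_e_Cert_tree lc_e_Cert_tree lc_e_rc_16_1 lc_e_rc_19_4 lc_e_Cert_tree lc_e_rc_13_3 lc_e_Cert_tree lc_e_Cert_tree lc_e_rc_18_1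 lc_e_Cert_tree lc_e_Cert_tree lc_e_rc_18_1 lc_e_Cert_tree lc_e_rc_18_1 lc_e_Cert_tree lc_e_Cert_tree lc_e_rc_18_1 lc_e_Cert_tree lc_e_Cert_tree lc_e_rc_18_1 lc_e_rc_27_5 lc_e_Cert_tree lc_e_rc_16_1 lc_e_rc_19_4 lc_e_Cert_tree lc_e_Cert_tree lc_e_rc_16_1 lc_e_rc_19_4 lc_e_Cert_tree lc_e_Cert_tree lc_e_rc_13_3 lc_e_Cert_tree lc_e_Cert_tree lc_e_Cert_tree lc_e_Cert_tree lc_e_rc_18_1 lc_e_rc_18_1 lc_e_rc_16_1 lc_e_rc_18_1 lc_e_rc_13_1 lc_e_rc_13_3 lc_e_rc_16_1 lc_e_rc_19_4 lc_e_Cert_tree lc_e_rc_18_1 lc_e_Cert_tree lc_e_Cert_tree) (@D3.rec (fun _ => (Cert rels S Gen.e)) lc_e_rc_18_1 lc_e_Cert_tree lc_e_Cert_tree lc_e_rc_16_1 lc_e_rc_4_3 lc_e_Cert_tree lc_e_Cert_tree lc_e_rc_18_1 lc_e_rc_13_3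 lc_e_Cert_tree lc_e_Cert_tree lc_e_Cert_tree lc_e_rc_13_3 lc_e_Cert_tree lc_e_Cert_tree lc_e_Cert_tree lc_e_rc_18_1 lc_e_Cert_tree lc_e_rc_9_3 lc_e_rc_16_3 lc_e_rc_19_4 lc_e_Cert_tree lc_e_rc_18_1 lc_e_Cert_tree lc_e_Cert_tree lc_e_rc_16_3 lc_e_rc_19_4 lc_e_Cert_tree lc_e_Cert_tree lc_e_Cert_tree lc_e_rc_18_1 lc_e_Cert_tree lc_e_rc_13_1 lc_e_rc_16_3 lc_e_rc_19_4 lc_e_Cert_tree lc_e_Cert_tree lc_e_Cert_tree lc_e_rc_18_1 lc_e_Cert_tree lc_e_Cert_tree lc_e_Cert_tree lc_e_rc_18_1 lc_e_Cert_tree lc_e_Cert_tree lc_e_rc_13_3 lc_e_Cert_tree lc_e_rc_18_1 lc_e_Cert_tree lc_e_Cert_tree lc_e_rc_16_3 lc_e_rc_18_1 lc_e_Cert_tree lc_e_Cert_tree lc_e_Cert_tree lc_e_rc_18_1 lc_e_rc_19_0 lc_e_rc_19_4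 lc_e_Cert_tree lc_e_rc_18_1 lc_e_Cert_tree lc_e_Cert_tree) (@D3.rec (fun _ => (Cert rels S Gen.e)) lc_e_Cert_tree lc_e_rc_18_1 lc_e_rc_16_1 lc_e_rc_13_3 lc_e_rc_4_3 lc_e_Cert_tree lc_e_rc_13_1 lc_e_rc_18_1 lc_e_rc_9_3 lc_e_rc_16_3 lc_e_rc_4_3 lc_e_Cert_tree lc_e_Cert_tree lc_e_rc_27_7 lc_e_rc_18_1 lc_e_Cert_tree lc_e_Cert_tree lc_e_rc_27_5 lc_e_rc_18_1 lc_e_Cert_tree lc_e_Cert_tree lc_e_rc_9_3 lc_e_Cert_tree lc_e_Cert_tree lc_e_rc_18_1 lc_e_rc_16_3 lc_e_Cert_tree lc_e_Cert_tree lc_e_rc_18_1 lc_e_rc_13_3 lc_e_Cert_tree lc_e_Cert_tree lc_e_Cert_tree lc_e_rc_13_3 lc_e_rc_27_1 lc_e_rc_18_1 lc_e_Cert_tree lc_e_rc_27_1 lc_e_rc_18_1 lc_e_rc_27_5 lc_e_rc_13_3 lc_e_rc_13_1 lc_e_rc_18_1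 lc_e_rc_27_7 lc_e_rc_27_5 lc_e_rc_18_1 lc_e_Cert_tree lc_e_rc_4_3 lc_e_Cert_tree lc_e_Cert_tree lc_e_rc_18_1 lc_e_Cert_tree lc_e_Cert_tree lc_e_Cert_tree lc_e_rc_18_1 lc_e_rc_27_5 lc_e_rc_16_1 lc_e_rc_27_5 lc_e_rc_9_3 lc_e_rc_27_5 lc_e_rc_27_7 lc_e_Cert_tree) (@D3.rec (fun _ => (Cert rels S Gen.e)) lc_e_Cert_tree lc_e_rc_18_1 lc_e_rc_27_5 lc_e_rc_18_1 lc_e_Cert_tree lc_e_Cert_tree lc_e_rc_18_1 lc_e_rc_9_3 lc_e_rc_27_7 lc_e_rc_13_1 lc_e_rc_16_3 lc_e_rc_27_5 lc_e_rc_16_3 lc_e_rc_13_3 lc_e_Cert_tree lc_e_Cert_tree lc_e_rc_18_1 lc_e_Cert_tree lc_e_rc_18_1 lc_e_rc_27_1 lc_e_rc_16_1 lc_e_rc_19_2 lc_e_rc_9_3 lc_e_Cert_tree lc_e_rc_16_5 lc_e_rc_18_1 lc_e_Cert_tree lc_e_Cert_tree lc_e_rc_18_1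 lc_e_rc_9_3 lc_e_Cert_tree lc_e_rc_18_1 lc_e_rc_27_1 lc_e_rc_27_5 lc_e_Cert_tree lc_e_Cert_tree lc_e_Cert_tree lc_e_rc_18_1 lc_e_Cert_tree lc_e_rc_18_1 lc_e_rc_18_1 lc_e_Cert_tree lc_e_Cert_tree lc_e_rc_18_1 lc_e_rc_9_3 lc_e_Cert_tree lc_e_Cert_tree lc_e_Cert_tree lc_e_rc_18_1 lc_e_rc_18_1 lc_e_rc_4_3 lc_e_Cert_tree lc_e_Cert_tree lc_e_rc_18_1 lc_e_Cert_tree lc_e_rc_18_1 lc_e_rc_18_1 lc_e_Cert_tree lc_e_rc_16_1 lc_e_rc_16_3 lc_e_rc_13_3 lc_e_Cert_tree) (@D3.rec (fun _ => (Cert rels S Gen.e)) lc_e_rc_18_1 lc_e_rc_18_1 lc_e_Cert_tree lc_e_Cert_tree lc_e_Cert_tree lc_e_rc_18_1 lc_e_rc_16_3 lc_e_rc_13_3 lc_e_Cert_tree lc_e_Cert_tree lc_e_Cert_tree lc_e_rc_18_1 lc_e_rc_16_3 lc_e_Cert_tree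 lc_e_rc_18_1 lc_e_Cert_tree lc_e_rc_18_1 lc_e_rc_16_1 lc_e_rc_4_3 lc_e_Cert_tree lc_e_Cert_tree lc_e_rc_18_1 lc_e_Cert_tree lc_e_Cert_tree lc_e_rc_18_1 lc_e_Cert_tree lc_e_Cert_tree lc_e_rc_13_3 lc_e_Cert_tree lc_e_rc_16_1 lc_e_rc_13_3 lc_e_Cert_tree lc_e_Cert_tree lc_e_rc_18_1 lc_e_rc_18_1 lc_e_rc_19_4 lc_e_rc_4_1 lc_e_rc_16_3 lc_e_rc_18_1 lc_e_Cert_tree lc_e_Cert_tree lc_e_rc_18_1 lc_e_Cert_tree lc_e_rc_18_1 lc_e_rc_27_7 lc_e_Cert_tree lc_e_rc_13_3 lc_e_Cert_tree lc_e_Cert_tree lc_e_rc_18_1 lc_e_rc_18_1 lc_e_rc_18_1 lc_e_rc_16_1 lc_e_rc_16_3 lc_e_rc_27_5 lc_e_rc_13_3 lc_e_rc_13_3 lc_e_rc_27_1 lc_e_Cert_tree lc_e_Cert_tree lc_e_Cert_tree lc_e_rc_18_1) (@D3.rec (fun _ => (Cert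 rels S Gen.e)) lc_e_rc_16_3 lc_e_Cert_tree lc_e_Cert_tree lc_e_Cert_tree lc_e_rc_18_1 lc_e_rc_16_3 lc_e_rc_19_2 lc_e_Cert_tree lc_e_rc_18_1 lc_e_Cert_tree lc_e_Cert_tree lc_e_rc_16_1 lc_e_rc_4_3 lc_e_rc_9_3 lc_e_Cert_tree lc_e_Cert_tree lc_e_Cert_tree lc_e_rc_18_1 lc_e_Cert_tree lc_e_rc_9_3 lc_e_rc_13_3 lc_e_Cert_tree lc_e_rc_4_1 lc_e_rc_9_3 lc_e_Cert_tree lc_e_Cert_tree lc_e_Cert_tree lc_e_rc_18_1 lc_e_rc_19_4 lc_e_rc_19_4 lc_e_Cert_tree lc_e_Cert_tree lc_e_rc_18_1 lc_e_rc_13_3 lc_e_Cert_tree lc_e_Cert_tree lc_e_rc_9_3 lc_e_Cert_tree lc_e_rc_13_3 lc_e_Cert_tree lc_e_rc_18_1 lc_e_Cert_tree lc_e_rc_18_1 lc_e_rc_27_5 lc_e_rc_18_1 lc_e_rc_16_1 lc_e_Cert_tree lc_e_rc_18_1 lc_e_rc_13_1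 lc_e_rc_18_1 lc_e_rc_16_1 lc_e_rc_16_1 lc_e_rc_4_1 lc_e_rc_13_3 lc_e_rc_18_1 lc_e_rc_13_3 lc_e_Cert_tree lc_e_Cert_tree lc_e_rc_18_1 lc_e_rc_9_3 lc_e_Cert_tree lc_e_rc_27_1) (@D3.rec (fun _ => (Cert rels S Gen.e)) lc_e_rc_27_5 lc_e_rc_18_1 lc_e_Cert_tree lc_e_rc_13_3 lc_e_Cert_tree lc_e_Cert_tree lc_e_rc_4_3 lc_e_rc_9_3 lc_e_Cert_tree lc_e_Cert_tree lc_e_rc_13_3 lc_e_rc_18_1 lc_e_rc_4_3 lc_e_rc_19_0 lc_e_rc_9_3 lc_e_Cert_tree lc_e_Cert_tree lc_e_Cert_tree lc_e_Cert_tree lc_e_rc_13_1 lc_e_rc_18_1 lc_e_rc_27_7 lc_e_rc_27_7 lc_e_rc_16_1 lc_e_rc_27_7 lc_e_rc_27_7 lc_e_Cert_tree lc_e_rc_27_7 lc_e_rc_27_7 lc_e_rc_19_0 lc_e_Cert_tree lc_e_Cert_tree lc_e_Cert_tree lc_e_rc_18_1 lc_e_rc_19_0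 lc_e_Cert_tree lc_e_Cert_tree lc_e_Cert_tree lc_e_Cert_tree lc_e_Cert_tree lc_e_rc_18_1 lc_e_rc_16_3 lc_e_rc_13_3 lc_e_rc_16_1 lc_e_rc_9_3 lc_e_Cert_tree lc_e_rc_18_1 lc_e_rc_13_1 lc_e_Cert_tree lc_e_rc_18_1 lc_e_rc_9_3 lc_e_rc_13_3 lc_e_Cert_tree lc_e_Cert_tree lc_e_rc_13_3 lc_e_Cert_tree lc_e_Cert_tree lc_e_rc_18_1 lc_e_Cert_tree lc_e_Cert_tree lc_e_rc_18_1 lc_e_rc_16_5) (@D3.rec (fun _ => (Cert rels S Gen.e)) lc_e_Cert_tree lc_e_rc_18_1 lc_e_Cert_tree lc_e_rc_18_1 lc_e_rc_18_1 lc_e_Cert_tree lc_e_Cert_tree lc_e_rc_9_3 lc_e_Cert_tree lc_e_Cert_tree lc_e_rc_18_1 lc_e_Cert_tree lc_e_Cert_tree lc_e_rc_18_1 lc_e_Cert_tree lc_e_rc_18_1 lc_e_rc_16_3 lc_e_rc_27_1 lc_e_Cert_tree lc_e_rc_18_1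 lc_e_rc_19_4 lc_e_Cert_tree lc_e_rc_18_1 lc_e_rc_19_4 lc_e_Cert_tree lc_e_rc_18_1 lc_e_Cert_tree lc_e_rc_18_1 lc_e_rc_18_1 lc_e_rc_4_3 lc_e_Cert_tree lc_e_rc_9_1 lc_e_Cert_tree lc_e_Cert_tree lc_e_Cert_tree lc_e_rc_18_1 lc_e_Cert_tree lc_e_Cert_tree lc_e_Cert_tree lc_e_rc_16_5 lc_e_rc_18_1 lc_e_Cert_tree lc_e_rc_27_5 lc_e_rc_4_3 lc_e_Cert_tree lc_e_rc_18_1 lc_e_Cert_tree lc_e_rc_27_5 lc_e_Cert_tree lc_e_rc_18_1 lc_e_rc_16_1 lc_e_rc_4_3 lc_e_Cert_tree lc_e_rc_18_1 lc_e_Cert_tree lc_e_Cert_tree lc_e_rc_18_1 lc_e_Cert_tree lc_e_Cert_tree lc_e_Cert_tree lc_e_Cert_tree lc_e_rc_18_1) (@D3.rec (fun _ => (Cert rels S Gen.e)) lc_e_Cert_tree lc_e_Cert_tree lc_e_rc_19_4 lc_e_rc_16_3 lc_e_rc_13_3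 lc_e_rc_13_3 lc_e_Cert_tree lc_e_Cert_tree lc_e_Cert_tree lc_e_Cert_tree lc_e_rc_13_3 lc_e_Cert_tree lc_e_Cert_tree lc_e_rc_18_1 lc_e_Cert_tree lc_e_rc_18_1 lc_e_Cert_tree lc_e_Cert_tree lc_e_rc_18_1 lc_e_rc_16_1 lc_e_Cert_tree lc_e_rc_18_1 lc_e_Cert_tree lc_e_rc_18_1 lc_e_Cert_tree lc_e_Cert_tree lc_e_rc_18_1 lc_e_Cert_tree lc_e_Cert_tree lc_e_rc_18_1 lc_e_Cert_tree lc_e_Cert_tree lc_e_rc_9_3 lc_e_Cert_tree lc_e_Cert_tree lc_e_rc_18_1 lc_e_Cert_tree lc_e_rc_18_1 lc_e_rc_27_1 lc_e_Cert_tree lc_e_rc_19_4 lc_e_Cert_tree lc_e_rc_27_1 lc_e_rc_19_4 lc_e_Cert_tree lc_e_Cert_tree lc_e_rc_4_3 lc_e_Cert_tree lc_e_rc_18_1 lc_e_rc_16_3 lc_e_rc_16_3 lc_e_rc_18_1 lc_e_rc_13_3 lc_e_rc_27_7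 lc_e_rc_18_1 lc_e_rc_4_3 lc_e_rc_19_4 lc_e_Cert_tree lc_e_rc_27_5 lc_e_rc_13_1 lc_e_Cert_tree lc_e_rc_18_1) (@D3.rec (fun _ => (Cert rels S Gen.e)) lc_e_rc_4_1 lc_e_Cert_tree lc_e_Cert_tree lc_e_Cert_tree lc_e_rc_18_1 lc_e_Cert_tree lc_e_Cert_tree lc_e_rc_16_3 lc_e_Cert_tree lc_e_rc_18_1 lc_e_Cert_tree lc_e_Cert_tree lc_e_rc_18_1 lc_e_Cert_tree lc_e_rc_19_2 lc_e_Cert_tree lc_e_rc_18_1 lc_e_rc_9_1 lc_e_rc_18_1 lc_e_Cert_tree lc_e_rc_9_3 lc_e_Cert_tree lc_e_Cert_tree lc_e_rc_18_1 lc_e_Cert_tree lc_e_rc_18_1 lc_e_rc_16_1 lc_e_Cert_tree lc_e_Cert_tree lc_e_Cert_tree lc_e_rc_18_1 lc_e_Cert_tree lc_e_rc_13_3 lc_e_rc_18_1 lc_e_Cert_tree lc_e_rc_18_1 lc_e_rc_18_1 lc_e_rc_16_1 lc_e_rc_19_2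 lc_e_Cert_tree lc_e_rc_18_1 lc_e_Cert_tree lc_e_Cert_tree lc_e_rc_18_1 lc_e_Cert_tree lc_e_Cert_tree lc_e_rc_18_1 lc_e_Cert_tree lc_e_rc_27_5 lc_e_rc_18_1 lc_e_Cert_tree lc_e_rc_4_3 lc_e_rc_9_3 lc_e_Cert_tree lc_e_rc_27_1 lc_e_rc_18_1 lc_e_rc_9_3 lc_e_rc_27_5 lc_e_rc_18_1 lc_e_rc_27_1 lc_e_rc_18_1 lc_e_rc_13_3)
def ce_e_4 : D2 → D3 → (Cert rels S Gen.e) := @D2.rec (fun _ => D3 → (Cert rels S Gen.e)) (@D3.rec (fun _ => (Cert rels S Gen.e)) lc_e_rc_4_3 lc_e_Cert_tree lc_e_rc_19_2 lc_e_Cert_tree lc_e_rc_18_1 lc_e_Cert_tree lc_e_Cert_tree lc_e_rc_19_4 lc_e_Cert_tree lc_e_Cert_tree lc_e_rc_18_1 lc_e_Cert_tree lc_e_Cert_tree lc_e_rc_19_4 lc_e_Cert_tree lc_e_rc_18_1 lc_e_Cert_tree lc_e_rc_18_1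 lc_e_rc_9_3 lc_e_Cert_tree lc_e_Cert_tree lc_e_rc_18_1 lc_e_rc_9_3 lc_e_rc_16_5 lc_e_rc_19_4 lc_e_rc_13_1 lc_e_Cert_tree lc_e_rc_4_3 lc_e_Cert_tree lc_e_Cert_tree lc_e_Cert_tree lc_e_rc_18_1 lc_e_Cert_tree lc_e_rc_18_1 lc_e_Cert_tree lc_e_Cert_tree lc_e_rc_4_1 lc_e_rc_18_1 lc_e_rc_16_3 lc_e_rc_9_3 lc_e_Cert_tree lc_e_Cert_tree lc_e_Cert_tree lc_e_rc_18_1 lc_e_rc_18_1 lc_e_Cert_tree lc_e_Cert_tree lc_e_rc_18_1 lc_e_Cert_tree lc_e_Cert_tree lc_e_Cert_tree lc_e_rc_18_1 lc_e_Cert_tree lc_e_rc_18_1 lc_e_rc_18_1 lc_e_Cert_tree lc_e_Cert_tree lc_e_rc_19_4 lc_e_rc_16_3 lc_e_Cert_tree lc_e_rc_13_3 lc_e_Cert_tree) (@D3.rec (fun _ => (Cert rels S Gen.e)) lc_e_rc_18_1 lc_e_Cert_tree lc_e_rc_13_3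 lc_e_Cert_tree lc_e_Cert_tree lc_e_Cert_tree lc_e_rc_18_1 lc_e_Cert_tree lc_e_rc_18_1 lc_e_rc_9_3 lc_e_rc_18_1 lc_e_rc_16_5 lc_e_Cert_tree lc_e_rc_18_1 lc_e_rc_27_5 lc_e_rc_13_3 lc_e_rc_13_3 lc_e_Cert_tree lc_e_rc_18_1 lc_e_Cert_tree lc_e_rc_18_1 lc_e_rc_18_1 lc_e_Cert_tree lc_e_rc_9_3 lc_e_Cert_tree lc_e_Cert_tree lc_e_Cert_tree lc_e_rc_18_1 lc_e_rc_13_3 lc_e_Cert_tree lc_e_Cert_tree lc_e_Cert_tree lc_e_rc_18_1 lc_e_Cert_tree lc_e_Cert_tree lc_e_Cert_tree lc_e_Cert_tree lc_e_rc_18_1 lc_e_Cert_tree lc_e_Cert_tree lc_e_rc_16_5 lc_e_Cert_tree lc_e_rc_18_1 lc_e_Cert_tree lc_e_rc_18_1 lc_e_rc_16_1 lc_e_Cert_tree lc_e_Cert_tree lc_e_rc_18_1 lc_e_Cert_tree lc_e_Cert_tree lc_e_rc_18_1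 lc_e_Cert_tree lc_e_Cert_tree lc_e_rc_9_3 lc_e_Cert_tree lc_e_Cert_tree lc_e_rc_18_1 lc_e_Cert_tree lc_e_rc_16_5 lc_e_Cert_tree lc_e_rc_18_1) (@D3.rec (fun _ => (Cert rels S Gen.e)) lc_e_rc_27_5 lc_e_rc_13_3 lc_e_rc_13_3 lc_e_Cert_tree lc_e_Cert_tree lc_e_rc_18_1 lc_e_rc_18_1 lc_e_Cert_tree lc_e_Cert_tree lc_e_rc_9_1 lc_e_Cert_tree lc_e_rc_18_1 lc_e_rc_9_3 lc_e_Cert_tree lc_e_Cert_tree lc_e_rc_18_1 lc_e_Cert_tree lc_e_Cert_tree lc_e_rc_4_3 lc_e_Cert_tree lc_e_Cert_tree lc_e_Cert_tree lc_e_Cert_tree lc_e_Cert_tree lc_e_rc_18_1 lc_e_Cert_tree lc_e_rc_18_1 lc_e_rc_18_1 lc_e_rc_18_1 lc_e_rc_9_3 lc_e_Cert_tree lc_e_Cert_tree lc_e_rc_18_1 lc_e_Cert_tree lc_e_Cert_tree lc_e_rc_13_3 lc_e_Cert_tree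 lc_e_rc_18_1 lc_e_rc_18_1 lc_e_rc_9_3 lc_e_Cert_tree lc_e_Cert_tree lc_e_rc_18_1 lc_e_Cert_tree lc_e_rc_18_1 lc_e_Cert_tree lc_e_rc_18_1 lc_e_rc_18_1 lc_e_Cert_tree lc_e_rc_9_3 lc_e_rc_18_1 lc_e_Cert_tree lc_e_Cert_tree lc_e_rc_9_3 lc_e_Cert_tree lc_e_Cert_tree lc_e_rc_18_1 lc_e_Cert_tree lc_e_rc_18_1 lc_e_Cert_tree lc_e_rc_18_1 lc_e_rc_18_1) (@D3.rec (fun _ => (Cert rels S Gen.e)) lc_e_rc_27_1 lc_e_Cert_tree lc_e_rc_18_1 lc_e_Cert_tree lc_e_rc_18_1 lc_e_rc_27_1 lc_e_rc_16_1 lc_e_rc_16_5 lc_e_Cert_tree lc_e_rc_4_3 lc_e_rc_18_1 lc_e_Cert_tree lc_e_rc_18_1 lc_e_Cert_tree lc_e_Cert_tree lc_e_rc_9_3 lc_e_Cert_tree lc_e_Cert_tree lc_e_rc_18_1 lc_e_rc_27_7 lc_e_Cert_tree lc_e_rc_18_1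 lc_e_rc_27_5 lc_e_rc_19_4 lc_e_Cert_tree lc_e_rc_18_1 lc_e_Cert_tree lc_e_rc_18_1 lc_e_Cert_tree lc_e_rc_18_1 lc_e_rc_18_1 lc_e_Cert_tree lc_e_rc_16_1 lc_e_rc_19_4 lc_e_rc_13_3 lc_e_Cert_tree lc_e_Cert_tree lc_e_rc_18_1 lc_e_Cert_tree lc_e_Cert_tree lc_e_Cert_tree lc_e_rc_18_1 lc_e_rc_27_1 lc_e_rc_27_1 lc_e_rc_16_1 lc_e_rc_18_1 lc_e_Cert_tree lc_e_rc_18_1 lc_e_Cert_tree lc_e_rc_16_3 lc_e_rc_16_1 lc_e_rc_19_4 lc_e_rc_13_3 lc_e_Cert_tree lc_e_rc_18_1 lc_e_Cert_tree lc_e_rc_18_1 lc_e_rc_18_1 lc_e_Cert_tree lc_e_rc_16_1 lc_e_rc_19_4 lc_e_Cert_tree) (@D3.rec (fun _ => (Cert rels S Gen.e)) lc_e_Cert_tree lc_e_rc_18_1 lc_e_Cert_tree lc_e_rc_18_1 lc_e_Cert_tree lc_e_rc_18_1 lc_e_rc_19_4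 lc_e_Cert_tree lc_e_rc_18_1 lc_e_Cert_tree lc_e_rc_18_1 lc_e_Cert_tree lc_e_Cert_tree lc_e_rc_4_3 lc_e_Cert_tree lc_e_Cert_tree lc_e_rc_18_1 lc_e_rc_18_1 lc_e_Cert_tree lc_e_Cert_tree lc_e_Cert_tree lc_e_rc_18_1 lc_e_Cert_tree lc_e_Cert_tree lc_e_rc_18_1 lc_e_Cert_tree lc_e_rc_18_1 lc_e_rc_18_1 lc_e_Cert_tree lc_e_rc_16_1 lc_e_rc_19_4 lc_e_rc_9_3 lc_e_rc_4_1 lc_e_rc_13_3 lc_e_rc_27_7 lc_e_Cert_tree lc_e_Cert_tree lc_e_rc_18_1 lc_e_rc_19_4 lc_e_Cert_tree lc_e_rc_18_1 lc_e_Cert_tree lc_e_rc_9_3 lc_e_rc_16_1 lc_e_rc_19_4 lc_e_rc_18_1 lc_e_rc_13_3 lc_e_rc_18_1 lc_e_rc_18_1 lc_e_Cert_tree lc_e_rc_9_3 lc_e_rc_9_3 lc_e_rc_9_3 lc_e_rc_13_1 lc_e_rc_9_1 lc_e_Cert_tree lc_e_rc_19_4 lc_e_Cert_tree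 lc_e_rc_18_1 lc_e_Cert_tree lc_e_rc_16_3 lc_e_rc_16_3) (@D3.rec (fun _ => (Cert rels S Gen.e)) lc_e_rc_13_3 lc_e_rc_13_3 lc_e_rc_16_5 lc_e_Cert_tree lc_e_Cert_tree lc_e_rc_13_3 lc_e_Cert_tree lc_e_Cert_tree lc_e_rc_18_1 lc_e_Cert_tree lc_e_rc_18_1 lc_e_Cert_tree lc_e_Cert_tree lc_e_rc_18_1 lc_e_Cert_tree lc_e_Cert_tree lc_e_rc_18_1 lc_e_Cert_tree lc_e_Cert_tree lc_e_rc_18_1 lc_e_Cert_tree lc_e_Cert_tree lc_e_rc_18_1 lc_e_Cert_tree lc_e_Cert_tree lc_e_Cert_tree lc_e_Cert_tree lc_e_rc_18_1 lc_e_rc_18_1 lc_e_rc_27_5 lc_e_Cert_tree lc_e_rc_19_4 lc_e_Cert_tree lc_e_rc_18_1 lc_e_rc_18_1 lc_e_rc_9_3 lc_e_rc_4_1 lc_e_rc_18_1 lc_e_rc_19_0 lc_e_Cert_tree lc_e_rc_27_5 lc_e_Cert_tree lc_e_rc_18_1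 lc_e_rc_16_5 lc_e_Cert_tree lc_e_rc_18_1 lc_e_rc_18_1 lc_e_rc_19_4 lc_e_rc_4_1 lc_e_rc_9_1 lc_e_Cert_tree lc_e_rc_9_1 lc_e_rc_18_1 lc_e_rc_9_3 lc_e_Cert_tree lc_e_Cert_tree lc_e_Cert_tree lc_e_rc_18_1 lc_e_Cert_tree lc_e_rc_9_1 lc_e_Cert_tree lc_e_Cert_tree) (@D3.rec (fun _ => (Cert rels S Gen.e)) lc_e_rc_18_1 lc_e_Cert_tree lc_e_rc_13_3 lc_e_rc_18_1 lc_e_Cert_tree lc_e_rc_27_5 lc_e_Cert_tree lc_e_rc_18_1 lc_e_rc_16_3 lc_e_rc_16_3 lc_e_rc_13_3 lc_e_rc_13_3 lc_e_rc_9_3 lc_e_rc_27_5 lc_e_Cert_tree lc_e_rc_13_3 lc_e_Cert_tree lc_e_Cert_tree lc_e_rc_18_1 lc_e_rc_4_3 lc_e_Cert_tree lc_e_rc_18_1 lc_e_Cert_tree lc_e_rc_9_3 lc_e_Cert_tree lc_e_rc_18_1 lc_e_Cert_tree lc_e_rc_18_1 lc_e_Cert_tree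 lc_e_rc_18_1 lc_e_Cert_tree lc_e_rc_18_1 lc_e_Cert_tree lc_e_Cert_tree lc_e_rc_18_1 lc_e_Cert_tree lc_e_Cert_tree lc_e_rc_18_1 lc_e_Cert_tree lc_e_Cert_tree lc_e_rc_9_3 lc_e_Cert_tree lc_e_Cert_tree lc_e_rc_18_1 lc_e_Cert_tree lc_e_rc_18_1 lc_e_rc_27_7 lc_e_rc_16_5 lc_e_rc_19_4 lc_e_rc_9_3 lc_e_Cert_tree lc_e_rc_18_1 lc_e_Cert_tree lc_e_rc_18_1 lc_e_Cert_tree lc_e_rc_18_1 lc_e_rc_27_5 lc_e_rc_16_5 lc_e_rc_13_3 lc_e_Cert_tree lc_e_rc_27_1 lc_e_rc_4_3) (@D3.rec (fun _ => (Cert rels S Gen.e)) lc_e_Cert_tree lc_e_Cert_tree lc_e_rc_18_1 lc_e_rc_18_1 lc_e_rc_18_1 lc_e_rc_16_3 lc_e_rc_4_3 lc_e_rc_13_3 lc_e_rc_9_3 lc_e_rc_13_3 lc_e_rc_13_3 lc_e_rc_27_5 lc_e_Cert_tree lc_e_rc_18_1 lc_e_rc_18_1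 lc_e_rc_13_3 lc_e_rc_16_3 lc_e_rc_19_0 lc_e_rc_4_3 lc_e_rc_18_1 lc_e_Cert_tree lc_e_Cert_tree lc_e_rc_18_1 lc_e_rc_27_1 lc_e_rc_18_1 lc_e_Cert_tree lc_e_rc_27_5 lc_e_Cert_tree lc_e_rc_18_1 lc_e_rc_16_3 lc_e_Cert_tree lc_e_rc_18_1 lc_e_Cert_tree lc_e_Cert_tree lc_e_Cert_tree lc_e_rc_13_3 lc_e_Cert_tree lc_e_Cert_tree lc_e_rc_18_1 lc_e_Cert_tree lc_e_rc_18_1 lc_e_Cert_tree lc_e_Cert_tree lc_e_rc_9_3 lc_e_Cert_tree lc_e_Cert_tree lc_e_rc_18_1 lc_e_Cert_tree lc_e_rc_18_1 lc_e_Cert_tree lc_e_Cert_tree lc_e_rc_13_3 lc_e_Cert_tree lc_e_Cert_tree lc_e_rc_18_1 lc_e_Cert_tree lc_e_rc_13_3 lc_e_Cert_tree lc_e_Cert_tree lc_e_rc_18_1 lc_e_rc_9_3 lc_e_rc_4_3) (@D3.rec (fun _ => (Cert rels S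 Gen.e)) lc_e_Cert_tree lc_e_rc_18_1 lc_e_Cert_tree lc_e_Cert_tree lc_e_rc_9_3 lc_e_Cert_tree lc_e_Cert_tree lc_e_rc_18_1 lc_e_Cert_tree lc_e_rc_18_1 lc_e_Cert_tree lc_e_rc_18_1 lc_e_rc_18_1 lc_e_Cert_tree lc_e_rc_18_1 lc_e_Cert_tree lc_e_rc_18_1 lc_e_Cert_tree lc_e_Cert_tree lc_e_rc_18_1 lc_e_Cert_tree lc_e_rc_18_1 lc_e_Cert_tree lc_e_Cert_tree lc_e_rc_9_3 lc_e_Cert_tree lc_e_Cert_tree lc_e_rc_18_1 lc_e_rc_18_1 lc_e_Cert_tree lc_e_rc_18_1 lc_e_Cert_tree lc_e_Cert_tree lc_e_Cert_tree lc_e_Cert_tree lc_e_rc_18_1 lc_e_rc_18_1 lc_e_rc_9_3 lc_e_Cert_tree lc_e_rc_18_1 lc_e_Cert_tree lc_e_rc_18_1 lc_e_Cert_tree lc_e_Cert_tree lc_e_Cert_tree lc_e_Cert_tree lc_e_rc_18_1 lc_e_rc_27_5 lc_e_Cert_tree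 lc_e_rc_16_1 lc_e_rc_19_4 lc_e_rc_13_3 lc_e_Cert_tree lc_e_Cert_tree lc_e_rc_18_1 lc_e_Cert_tree lc_e_rc_18_1 lc_e_Cert_tree lc_e_Cert_tree lc_e_Cert_tree lc_e_rc_18_1 lc_e_rc_4_1) (@D3.rec (fun _ => (Cert rels S Gen.e)) lc_e_Cert_tree lc_e_rc_18_1 lc_e_Cert_tree lc_e_rc_18_1 lc_e_rc_27_1 lc_e_rc_16_1 lc_e_rc_4_3 lc_e_Cert_tree lc_e_Cert_tree lc_e_rc_18_1 lc_e_rc_18_1 lc_e_rc_9_1 lc_e_rc_16_1 lc_e_rc_16_3 lc_e_rc_13_3 lc_e_Cert_tree lc_e_rc_13_3 lc_e_rc_18_1 lc_e_Cert_tree lc_e_rc_4_3 lc_e_Cert_tree lc_e_Cert_tree lc_e_rc_18_1 lc_e_rc_9_1 lc_e_rc_9_3 lc_e_rc_18_1 lc_e_Cert_tree lc_e_rc_18_1 lc_e_rc_4_1 lc_e_Cert_tree lc_e_Cert_tree lc_e_rc_18_1 lc_e_Cert_tree lc_e_Cert_tree lc_e_rc_18_1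 lc_e_rc_18_1 lc_e_Cert_tree lc_e_rc_27_1 lc_e_rc_18_1 lc_e_rc_9_1 lc_e_Cert_tree lc_e_Cert_tree lc_e_Cert_tree lc_e_rc_18_1 lc_e_Cert_tree lc_e_Cert_tree lc_e_rc_18_1 lc_e_Cert_tree lc_e_rc_27_5 lc_e_rc_4_3 lc_e_Cert_tree lc_e_Cert_tree lc_e_Cert_tree lc_e_Cert_tree lc_e_Cert_tree lc_e_rc_18_1 lc_e_Cert_tree lc_e_rc_18_1 lc_e_Cert_tree lc_e_Cert_tree lc_e_Cert_tree lc_e_rc_18_1) (@D3.rec (fun _ => (Cert rels S Gen.e)) lc_e_Cert_tree lc_e_rc_18_1 lc_e_rc_18_1 lc_e_rc_27_1 lc_e_Cert_tree lc_e_Cert_tree lc_e_Cert_tree lc_e_rc_18_1 lc_e_rc_27_7 lc_e_rc_16_1 lc_e_rc_13_3 lc_e_Cert_tree lc_e_rc_18_1 lc_e_Cert_tree lc_e_rc_18_1 lc_e_Cert_tree lc_e_Cert_tree lc_e_Cert_tree lc_e_Cert_tree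 lc_e_rc_18_1 lc_e_rc_18_1 lc_e_Cert_tree lc_e_rc_19_4 lc_e_Cert_tree lc_e_rc_18_1 lc_e_rc_9_1 lc_e_rc_18_1 lc_e_rc_18_1 lc_e_rc_27_1 lc_e_rc_4_1 lc_e_rc_18_1 lc_e_rc_13_3 lc_e_Cert_tree lc_e_rc_19_4 lc_e_rc_18_1 lc_e_rc_18_1 lc_e_Cert_tree lc_e_Cert_tree lc_e_rc_18_1 lc_e_Cert_tree lc_e_rc_18_1 lc_e_rc_9_1 lc_e_rc_16_5 lc_e_rc_18_1 lc_e_Cert_tree lc_e_Cert_tree lc_e_rc_9_1 lc_e_Cert_tree lc_e_rc_18_1 lc_e_rc_4_3 lc_e_rc_16_1 lc_e_rc_19_4 lc_e_rc_13_3 lc_e_rc_27_5 lc_e_rc_27_5 lc_e_rc_4_3 lc_e_rc_4_3 lc_e_rc_16_5 lc_e_rc_18_1 lc_e_rc_27_1 lc_e_rc_13_3 lc_e_rc_19_2) (@D3.rec (fun _ => (Cert rels S Gen.e)) lc_e_rc_9_3 lc_e_Cert_tree lc_e_rc_18_1 lc_e_Cert_tree lc_e_rc_4_1 lc_e_Cert_tree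 lc_e_Cert_tree lc_e_rc_18_1 lc_e_Cert_tree lc_e_Cert_tree lc_e_rc_9_1 lc_e_rc_19_4 lc_e_Cert_tree lc_e_rc_27_7 lc_e_rc_27_7 lc_e_rc_18_1 lc_e_rc_13_1 lc_e_rc_4_1 lc_e_rc_16_1 lc_e_rc_19_4 lc_e_rc_16_3 lc_e_rc_18_1 lc_e_rc_18_1 lc_e_rc_13_3 lc_e_Cert_tree lc_e_rc_18_1 lc_e_rc_13_3 lc_e_Cert_tree lc_e_rc_27_1 lc_e_Cert_tree lc_e_rc_18_1 lc_e_Cert_tree lc_e_rc_27_5 lc_e_rc_19_4 lc_e_rc_27_5 lc_e_Cert_tree lc_e_rc_4_1 lc_e_rc_18_1 lc_e_rc_27_5 lc_e_rc_19_4 lc_e_rc_18_1 lc_e_rc_16_3 lc_e_Cert_tree lc_e_rc_16_5 lc_e_rc_27_1 lc_e_rc_9_1 lc_e_Cert_tree lc_e_Cert_tree lc_e_rc_27_5 lc_e_Cert_tree lc_e_Cert_tree lc_e_rc_18_1 lc_e_rc_27_1 lc_e_rc_16_5 lc_e_Cert_tree lc_e_rc_19_4 lc_e_rc_18_1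 lc_e_Cert_tree lc_e_rc_16_5 lc_e_Cert_tree lc_e_Cert_tree lc_e_rc_18_1) (@D3.rec (fun _ => (Cert rels S Gen.e)) lc_e_rc_18_1 lc_e_rc_13_1 lc_e_rc_13_1 lc_e_Cert_tree lc_e_Cert_tree lc_e_rc_27_5 lc_e_rc_18_1 lc_e_rc_16_3 lc_e_rc_9_3 lc_e_Cert_tree lc_e_Cert_tree lc_e_Cert_tree lc_e_Cert_tree lc_e_rc_18_1 lc_e_Cert_tree lc_e_rc_18_1 lc_e_rc_18_1 lc_e_rc_19_4 lc_e_Cert_tree lc_e_Cert_tree lc_e_rc_18_1 lc_e_Cert_tree lc_e_Cert_tree lc_e_rc_18_1 lc_e_Cert_tree lc_e_Cert_tree lc_e_rc_9_1 lc_e_Cert_tree lc_e_rc_18_1 lc_e_rc_18_1 lc_e_Cert_tree lc_e_rc_19_4 lc_e_rc_9_3 lc_e_rc_9_1 lc_e_rc_18_1 lc_e_Cert_tree lc_e_rc_18_1 lc_e_Cert_tree lc_e_rc_18_1 lc_e_rc_16_3 lc_e_rc_16_3 lc_e_rc_27_5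 lc_e_Cert_tree lc_e_rc_18_1 lc_e_Cert_tree lc_e_rc_18_1 lc_e_rc_16_5 lc_e_rc_16_5 lc_e_rc_9_3 lc_e_rc_13_1 lc_e_Cert_tree lc_e_Cert_tree lc_e_rc_18_1 lc_e_rc_13_1 lc_e_rc_13_3 lc_e_Cert_tree lc_e_Cert_tree lc_e_rc_18_1 lc_e_Cert_tree lc_e_rc_18_1 lc_e_rc_13_3 lc_e_rc_18_1) (@D3.rec (fun _ => (Cert rels S Gen.e)) lc_e_Cert_tree lc_e_Cert_tree lc_e_rc_18_1 lc_e_Cert_tree lc_e_Cert_tree lc_e_rc_18_1 lc_e_Cert_tree lc_e_Cert_tree lc_e_rc_13_3 lc_e_Cert_tree lc_e_rc_18_1 lc_e_rc_19_0 lc_e_rc_19_4 lc_e_rc_13_3 lc_e_rc_27_1 lc_e_rc_18_1 lc_e_rc_19_4 lc_e_rc_13_3 lc_e_rc_4_3 lc_e_rc_16_5 lc_e_rc_9_3 lc_e_rc_13_3 lc_e_rc_9_1 lc_e_rc_18_1 lc_e_rc_16_3 lc_e_rc_13_3 lc_e_rc_9_3 lc_e_rc_9_3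 lc_e_rc_18_1 lc_e_Cert_tree lc_e_rc_4_3 lc_e_Cert_tree lc_e_rc_19_4 lc_e_Cert_tree lc_e_rc_18_1 lc_e_Cert_tree lc_e_rc_16_3 lc_e_Cert_tree lc_e_rc_18_1 lc_e_Cert_tree lc_e_rc_13_3 lc_e_Cert_tree lc_e_rc_16_3 lc_e_rc_19_4 lc_e_Cert_tree lc_e_rc_18_1 lc_e_Cert_tree lc_e_rc_13_3 lc_e_Cert_tree lc_e_Cert_tree lc_e_rc_18_1 lc_e_Cert_tree lc_e_rc_13_1 lc_e_Cert_tree lc_e_Cert_tree lc_e_Cert_tree lc_e_rc_13_3 lc_e_Cert_tree lc_e_Cert_tree lc_e_rc_18_1 lc_e_Cert_tree lc_e_Cert_tree) (@D3.rec (fun _ => (Cert rels S Gen.e)) lc_e_rc_18_1 lc_e_rc_9_3 lc_e_Cert_tree lc_e_rc_18_1 lc_e_Cert_tree lc_e_rc_18_1 lc_e_Cert_tree lc_e_rc_18_1 lc_e_rc_4_3 lc_e_Cert_tree lc_e_rc_18_1 lc_e_Cert_tree lc_e_Cert_tree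 lc_e_rc_18_1 lc_e_Cert_tree lc_e_rc_9_3 lc_e_Cert_tree lc_e_Cert_tree lc_e_rc_18_1 lc_e_Cert_tree lc_e_rc_18_1 lc_e_Cert_tree lc_e_rc_18_1 lc_e_rc_9_3 lc_e_Cert_tree lc_e_Cert_tree lc_e_rc_18_1 lc_e_rc_9_1 lc_e_rc_18_1 lc_e_rc_18_1 lc_e_Cert_tree lc_e_rc_16_1 lc_e_rc_19_4 lc_e_rc_13_3 lc_e_Cert_tree lc_e_rc_18_1 lc_e_Cert_tree lc_e_rc_18_1 lc_e_rc_18_1 lc_e_Cert_tree lc_e_rc_16_1 lc_e_rc_19_4 lc_e_rc_18_1 lc_e_Cert_tree lc_e_rc_27_1 lc_e_rc_19_4 lc_e_Cert_tree lc_e_Cert_tree lc_e_rc_4_3 lc_e_Cert_tree lc_e_Cert_tree lc_e_rc_18_1 lc_e_rc_18_1 lc_e_Cert_tree lc_e_Cert_tree lc_e_Cert_tree lc_e_rc_18_1 lc_e_Cert_tree lc_e_rc_18_1 lc_e_Cert_tree lc_e_Cert_tree lc_e_rc_9_3) (@D3.rec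 (fun _ => (Cert rels S Gen.e)) lc_e_rc_16_3 lc_e_Cert_tree lc_e_rc_18_1 lc_e_rc_16_3 lc_e_Cert_tree lc_e_rc_13_3 lc_e_Cert_tree lc_e_Cert_tree lc_e_rc_18_1 lc_e_rc_4_3 lc_e_rc_9_1 lc_e_Cert_tree lc_e_rc_18_1 lc_e_Cert_tree lc_e_Cert_tree lc_e_rc_9_3 lc_e_Cert_tree lc_e_Cert_tree lc_e_rc_18_1 lc_e_Cert_tree lc_e_rc_18_1 lc_e_rc_16_5 lc_e_Cert_tree lc_e_rc_18_1 lc_e_Cert_tree lc_e_rc_18_1 lc_e_Cert_tree lc_e_Cert_tree lc_e_rc_18_1 lc_e_Cert_tree lc_e_rc_18_1 lc_e_Cert_tree lc_e_Cert_tree lc_e_rc_9_3 lc_e_Cert_tree lc_e_Cert_tree lc_e_rc_18_1 lc_e_Cert_tree lc_e_rc_18_1 lc_e_Cert_tree lc_e_rc_18_1 lc_e_Cert_tree lc_e_Cert_tree lc_e_Cert_tree lc_e_Cert_tree lc_e_rc_18_1 lc_e_rc_27_5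 lc_e_Cert_tree lc_e_rc_16_1 lc_e_rc_19_4 lc_e_rc_13_3 lc_e_Cert_tree lc_e_rc_18_1 lc_e_Cert_tree lc_e_Cert_tree lc_e_rc_18_1 lc_e_rc_19_2 lc_e_Cert_tree lc_e_rc_18_1 lc_e_Cert_tree lc_e_Cert_tree lc_e_rc_18_1) (@D3.rec (fun _ => (Cert rels S Gen.e)) lc_e_Cert_tree lc_e_rc_27_1 lc_e_rc_19_4 lc_e_Cert_tree lc_e_rc_4_1 lc_e_Cert_tree lc_e_Cert_tree lc_e_rc_18_1 lc_e_rc_18_1 lc_e_Cert_tree lc_e_rc_16_1 lc_e_rc_19_4 lc_e_Cert_tree lc_e_rc_18_1 lc_e_Cert_tree lc_e_Cert_tree lc_e_rc_18_1 lc_e_Cert_tree lc_e_rc_27_5 lc_e_rc_18_1 lc_e_rc_19_4 lc_e_Cert_tree lc_e_Cert_tree lc_e_Cert_tree lc_e_rc_18_1 lc_e_Cert_tree lc_e_Cert_tree lc_e_Cert_tree lc_e_rc_18_1 lc_e_rc_27_5 lc_e_rc_4_3 lc_e_rc_4_3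 lc_e_Cert_tree lc_e_Cert_tree lc_e_Cert_tree lc_e_Cert_tree lc_e_rc_18_1 lc_e_Cert_tree lc_e_rc_18_1 lc_e_Cert_tree lc_e_Cert_tree lc_e_Cert_tree lc_e_Cert_tree lc_e_rc_18_1 lc_e_Cert_tree lc_e_rc_18_1 lc_e_Cert_tree lc_e_rc_18_1 lc_e_rc_18_1 lc_e_Cert_tree lc_e_rc_18_1 lc_e_Cert_tree lc_e_Cert_tree lc_e_rc_9_1 lc_e_Cert_tree lc_e_rc_18_1 lc_e_rc_27_5 lc_e_Cert_tree lc_e_rc_19_4 lc_e_rc_16_1 lc_e_rc_13_3 lc_e_Cert_tree) (@D3.rec (fun _ => (Cert rels S Gen.e)) lc_e_rc_18_1 lc_e_rc_9_3 lc_e_rc_18_1 lc_e_rc_16_1 lc_e_rc_27_5 lc_e_Cert_tree lc_e_rc_18_1 lc_e_rc_27_1 lc_e_Cert_tree lc_e_rc_4_3 lc_e_rc_9_3 lc_e_rc_18_1 lc_e_Cert_tree lc_e_rc_18_1 lc_e_Cert_tree lc_e_rc_18_1 lc_e_rc_18_1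 lc_e_rc_16_5 lc_e_Cert_tree lc_e_rc_18_1 lc_e_Cert_tree lc_e_rc_18_1 lc_e_Cert_tree lc_e_Cert_tree lc_e_Cert_tree lc_e_Cert_tree lc_e_rc_18_1 lc_e_rc_16_5 lc_e_rc_19_4 lc_e_rc_27_1 lc_e_rc_4_3 lc_e_Cert_tree lc_e_rc_4_1 lc_e_rc_18_1 lc_e_rc_16_3 lc_e_rc_19_4 lc_e_rc_16_5 lc_e_Cert_tree lc_e_rc_18_1 lc_e_Cert_tree lc_e_rc_13_3 lc_e_Cert_tree lc_e_Cert_tree lc_e_rc_18_1 lc_e_Cert_tree lc_e_Cert_tree lc_e_rc_19_4 lc_e_Cert_tree lc_e_rc_27_5 lc_e_rc_27_7 lc_e_rc_18_1 lc_e_rc_16_5 lc_e_Cert_tree lc_e_rc_16_3 lc_e_rc_19_4 lc_e_rc_9_3 lc_e_rc_27_1 lc_e_rc_13_1 lc_e_rc_27_5 lc_e_rc_18_1 lc_e_Cert_tree lc_e_rc_18_1) (@D3.rec (fun _ => (Cert rels S Gen.e)) lc_e_rc_13_1 lc_e_Cert_tree lc_e_rc_9_1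 lc_e_Cert_tree lc_e_rc_18_1 lc_e_Cert_tree lc_e_rc_27_5 lc_e_rc_19_4 lc_e_rc_27_5 lc_e_Cert_tree lc_e_rc_4_3 lc_e_Cert_tree lc_e_rc_19_4 lc_e_rc_18_1 lc_e_rc_9_3 lc_e_Cert_tree lc_e_rc_27_1 lc_e_rc_19_0 lc_e_rc_4_3 lc_e_rc_27_5 lc_e_Cert_tree lc_e_rc_9_3 lc_e_rc_27_1 lc_e_rc_16_5 lc_e_rc_27_5 lc_e_Cert_tree lc_e_rc_18_1 lc_e_rc_27_1 lc_e_rc_27_1 lc_e_rc_4_3 lc_e_rc_18_1 lc_e_Cert_tree lc_e_Cert_tree lc_e_rc_27_5 lc_e_rc_18_1 lc_e_Cert_tree lc_e_Cert_tree lc_e_Cert_tree lc_e_rc_18_1 lc_e_Cert_tree lc_e_rc_18_1 lc_e_rc_27_1 lc_e_Cert_tree lc_e_Cert_tree lc_e_rc_18_1 lc_e_Cert_tree lc_e_rc_18_1 lc_e_Cert_tree lc_e_Cert_tree lc_e_rc_13_3 lc_e_Cert_tree lc_e_rc_18_1 lc_e_rc_27_5 lc_e_Cert_tree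 lc_e_rc_19_4 lc_e_rc_9_3 lc_e_rc_13_3 lc_e_rc_27_5 lc_e_rc_18_1 lc_e_rc_16_5 lc_e_Cert_tree lc_e_rc_18_1) (@D3.rec (fun _ => (Cert rels S Gen.e)) lc_e_rc_13_3 lc_e_rc_18_1 lc_e_Cert_tree lc_e_rc_18_1 lc_e_rc_9_1 lc_e_rc_18_1 lc_e_rc_16_1 lc_e_rc_27_5 lc_e_rc_18_1 lc_e_rc_18_1 lc_e_rc_18_1 lc_e_Cert_tree lc_e_rc_18_1 lc_e_Cert_tree lc_e_rc_27_1 lc_e_rc_16_1 lc_e_rc_19_4 lc_e_rc_27_1 lc_e_rc_13_3 lc_e_rc_13_1 lc_e_Cert_tree lc_e_Cert_tree lc_e_Cert_tree lc_e_rc_18_1 lc_e_Cert_tree lc_e_rc_18_1 lc_e_rc_13_1 lc_e_Cert_tree lc_e_Cert_tree lc_e_rc_18_1 lc_e_Cert_tree lc_e_Cert_tree lc_e_rc_18_1 lc_e_Cert_tree lc_e_Cert_tree lc_e_rc_19_4 lc_e_Cert_tree lc_e_rc_18_1 lc_e_rc_19_4 lc_e_rc_16_1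 lc_e_rc_18_1 lc_e_rc_27_1 lc_e_rc_27_1 lc_e_rc_27_7 lc_e_rc_13_3 lc_e_rc_19_0 lc_e_rc_18_1 lc_e_rc_16_3 lc_e_rc_19_4 lc_e_rc_18_1 lc_e_rc_9_1 lc_e_rc_13_3 lc_e_rc_18_1 lc_e_rc_4_3 lc_e_Cert_tree lc_e_rc_18_1 lc_e_Cert_tree lc_e_rc_18_1 lc_e_Cert_tree lc_e_rc_16_5 lc_e_rc_9_3 lc_e_Cert_tree) (@D3.rec (fun _ => (Cert rels S Gen.e)) lc_e_Cert_tree lc_e_rc_18_1 lc_e_Cert_tree lc_e_rc_18_1 lc_e_rc_9_3 lc_e_Cert_tree lc_e_Cert_tree lc_e_Cert_tree lc_e_Cert_tree lc_e_rc_18_1 lc_e_rc_18_1 lc_e_rc_19_2 lc_e_rc_13_1 lc_e_Cert_tree lc_e_rc_19_4 lc_e_Cert_tree lc_e_Cert_tree lc_e_rc_18_1 lc_e_Cert_tree lc_e_Cert_tree lc_e_Cert_tree lc_e_rc_13_3 lc_e_Cert_tree lc_e_Cert_tree lc_e_rc_18_1 lc_e_Cert_tree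 lc_e_rc_9_3 lc_e_Cert_tree lc_e_Cert_tree lc_e_rc_18_1 lc_e_Cert_tree lc_e_rc_18_1 lc_e_Cert_tree lc_e_Cert_tree lc_e_rc_18_1 lc_e_rc_9_3 lc_e_Cert_tree lc_e_rc_19_0 lc_e_rc_4_3 lc_e_Cert_tree lc_e_rc_19_4 lc_e_Cert_tree lc_e_Cert_tree lc_e_Cert_tree lc_e_rc_18_1 lc_e_Cert_tree lc_e_rc_13_3 lc_e_rc_18_1 lc_e_rc_18_1 lc_e_rc_9_3 lc_e_Cert_tree lc_e_Cert_tree lc_e_rc_18_1 lc_e_rc_13_3 lc_e_Cert_tree lc_e_Cert_tree lc_e_rc_13_3 lc_e_rc_18_1 lc_e_rc_9_3 lc_e_Cert_tree lc_e_Cert_tree lc_e_rc_18_1) (@D3.rec (fun _ => (Cert rels S Gen.e)) lc_e_rc_13_3 lc_e_Cert_tree lc_e_rc_4_1 lc_e_rc_13_3 lc_e_Cert_tree lc_e_rc_18_1 lc_e_Cert_tree lc_e_rc_18_1 lc_e_rc_13_3 lc_e_rc_16_1 lc_e_rc_19_2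 lc_e_Cert_tree lc_e_rc_18_1 lc_e_Cert_tree lc_e_rc_9_3 lc_e_Cert_tree lc_e_Cert_tree lc_e_rc_18_1 lc_e_Cert_tree lc_e_rc_18_1 lc_e_rc_16_1 lc_e_rc_16_1 lc_e_rc_4_3 lc_e_Cert_tree lc_e_rc_18_1 lc_e_rc_9_3 lc_e_Cert_tree lc_e_Cert_tree lc_e_rc_18_1 lc_e_Cert_tree lc_e_rc_18_1 lc_e_Cert_tree lc_e_Cert_tree lc_e_Cert_tree lc_e_rc_18_1 lc_e_rc_18_1 lc_e_Cert_tree lc_e_rc_19_4 lc_e_Cert_tree lc_e_Cert_tree lc_e_rc_18_1 lc_e_Cert_tree lc_e_Cert_tree lc_e_rc_18_1 lc_e_Cert_tree lc_e_rc_27_1 lc_e_rc_19_4 lc_e_Cert_tree lc_e_Cert_tree lc_e_rc_18_1 lc_e_rc_9_3 lc_e_Cert_tree lc_e_rc_16_1 lc_e_rc_19_4 lc_e_Cert_tree lc_e_rc_18_1 lc_e_Cert_tree lc_e_Cert_tree lc_e_rc_18_1 lc_e_Cert_tree lc_e_rc_27_5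 lc_e_rc_19_4) (@D3.rec (fun _ => (Cert rels S Gen.e)) lc_e_Cert_tree lc_e_Cert_tree lc_e_rc_18_1 lc_e_Cert_tree lc_e_Cert_tree lc_e_rc_18_1 lc_e_Cert_tree lc_e_Cert_tree lc_e_rc_4_3 lc_e_Cert_tree lc_e_Cert_tree lc_e_Cert_tree lc_e_Cert_tree lc_e_rc_18_1 lc_e_rc_18_1 lc_e_Cert_tree lc_e_Cert_tree lc_e_Cert_tree lc_e_Cert_tree lc_e_rc_18_1 lc_e_rc_27_1 lc_e_rc_4_3 lc_e_Cert_tree lc_e_rc_18_1 lc_e_rc_27_5 lc_e_rc_9_3 lc_e_rc_9_1 lc_e_Cert_tree lc_e_Cert_tree lc_e_Cert_tree lc_e_rc_27_5 lc_e_Cert_tree lc_e_Cert_tree lc_e_rc_18_1 lc_e_rc_18_1 lc_e_rc_27_5 lc_e_rc_19_2 lc_e_rc_16_1 lc_e_rc_18_1 lc_e_Cert_tree lc_e_Cert_tree lc_e_rc_18_1 lc_e_Cert_tree lc_e_rc_18_1 lc_e_rc_16_1 lc_e_rc_19_4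 lc_e_rc_9_3 lc_e_Cert_tree lc_e_rc_4_3 lc_e_Cert_tree lc_e_rc_18_1 lc_e_Cert_tree lc_e_rc_27_5 lc_e_rc_19_2 lc_e_Cert_tree lc_e_rc_18_1 lc_e_Cert_tree lc_e_Cert_tree lc_e_rc_18_1 lc_e_rc_27_5 lc_e_rc_16_1 lc_e_rc_13_3) (@D3.rec (fun _ => (Cert rels S Gen.e)) lc_e_rc_13_3 lc_e_rc_13_3 lc_e_rc_18_1 lc_e_Cert_tree lc_e_rc_16_5 lc_e_rc_18_1 lc_e_rc_18_1 lc_e_rc_13_3 lc_e_Cert_tree lc_e_rc_18_1 lc_e_rc_16_1 lc_e_rc_13_3 lc_e_rc_18_1 lc_e_Cert_tree lc_e_rc_16_5 lc_e_rc_18_1 lc_e_rc_9_3 lc_e_rc_4_1 lc_e_rc_9_1 lc_e_rc_19_4 lc_e_rc_27_1 lc_e_rc_18_1 lc_e_Cert_tree lc_e_Cert_tree lc_e_Cert_tree lc_e_Cert_tree lc_e_rc_18_1 lc_e_Cert_tree lc_e_Cert_tree lc_e_Cert_tree lc_e_Cert_tree lc_e_rc_18_1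 lc_e_Cert_tree lc_e_rc_18_1 lc_e_Cert_tree lc_e_rc_18_1 lc_e_Cert_tree lc_e_rc_18_1 lc_e_Cert_tree lc_e_rc_18_1 lc_e_Cert_tree lc_e_Cert_tree lc_e_Cert_tree lc_e_rc_18_1 lc_e_rc_16_3 lc_e_rc_19_4 lc_e_Cert_tree lc_e_rc_9_3 lc_e_Cert_tree lc_e_rc_18_1 lc_e_rc_18_1 lc_e_rc_16_1 lc_e_Cert_tree lc_e_rc_18_1 lc_e_rc_27_1 lc_e_rc_18_1 lc_e_rc_27_5 lc_e_rc_18_1 lc_e_rc_16_5 lc_e_Cert_tree lc_e_Cert_tree lc_e_Cert_tree) (@D3.rec (fun _ => (Cert rels S Gen.e)) lc_e_rc_18_1 lc_e_rc_27_5 lc_e_Cert_tree lc_e_rc_9_1 lc_e_Cert_tree lc_e_Cert_tree lc_e_rc_16_1 lc_e_rc_19_4 lc_e_rc_9_3 lc_e_rc_18_1 lc_e_rc_18_1 lc_e_Cert_tree lc_e_Cert_tree lc_e_rc_18_1 lc_e_rc_27_5 lc_e_Cert_tree lc_e_rc_18_1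 lc_e_Cert_tree lc_e_rc_18_1 lc_e_Cert_tree lc_e_Cert_tree lc_e_Cert_tree lc_e_rc_18_1 lc_e_rc_16_1 lc_e_Cert_tree lc_e_Cert_tree lc_e_rc_16_1 lc_e_rc_19_4 lc_e_Cert_tree lc_e_Cert_tree lc_e_rc_13_3 lc_e_rc_16_3 lc_e_Cert_tree lc_e_Cert_tree lc_e_rc_18_1 lc_e_Cert_tree lc_e_Cert_tree lc_e_rc_18_1 lc_e_Cert_tree lc_e_Cert_tree lc_e_rc_19_4 lc_e_rc_27_5 lc_e_rc_27_5 lc_e_rc_18_1 lc_e_Cert_tree lc_e_rc_18_1 lc_e_Cert_tree lc_e_Cert_tree lc_e_Cert_tree lc_e_rc_18_1 lc_e_rc_9_3 lc_e_rc_13_3 lc_e_rc_16_1 lc_e_rc_19_4 lc_e_Cert_tree lc_e_Cert_tree lc_e_rc_16_1 lc_e_rc_19_4 lc_e_Cert_tree lc_e_rc_4_3 lc_e_Cert_tree lc_e_Cert_tree) (@D3.rec (fun _ => (Cert rels S Gen.e)) lc_e_Cert_tree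 lc_e_rc_13_3 lc_e_Cert_tree lc_e_rc_9_1 lc_e_Cert_tree lc_e_rc_9_1 lc_e_Cert_tree lc_e_Cert_tree lc_e_Cert_tree lc_e_rc_16_1 lc_e_rc_19_4 lc_e_rc_13_3 lc_e_Cert_tree lc_e_rc_27_5 lc_e_rc_27_5 lc_e_Cert_tree lc_e_Cert_tree lc_e_rc_27_5 lc_e_Cert_tree lc_e_rc_18_1 lc_e_Cert_tree lc_e_rc_18_1 lc_e_rc_13_3 lc_e_Cert_tree lc_e_Cert_tree lc_e_rc_18_1 lc_e_rc_18_1 lc_e_rc_18_1 lc_e_rc_16_1 lc_e_rc_9_3 lc_e_Cert_tree lc_e_Cert_tree lc_e_rc_16_1 lc_e_rc_19_4 lc_e_Cert_tree lc_e_Cert_tree lc_e_rc_13_3 lc_e_Cert_tree lc_e_Cert_tree lc_e_rc_18_1 lc_e_Cert_tree lc_e_Cert_tree lc_e_rc_18_1 lc_e_rc_4_1 lc_e_Cert_tree lc_e_rc_18_1 lc_e_rc_9_1 lc_e_rc_4_1 lc_e_Cert_tree lc_e_rc_18_1 lc_e_rc_18_1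 lc_e_Cert_tree lc_e_rc_9_3 lc_e_rc_18_1 lc_e_Cert_tree lc_e_rc_27_7 lc_e_rc_16_1 lc_e_rc_27_5 lc_e_rc_18_1 lc_e_Cert_tree lc_e_rc_18_1 lc_e_Cert_tree) (@D3.rec (fun _ => (Cert rels S Gen.e)) lc_e_rc_18_1 lc_e_Cert_tree lc_e_rc_18_1 lc_e_rc_13_3 lc_e_rc_16_1 lc_e_rc_13_1 lc_e_Cert_tree lc_e_Cert_tree lc_e_Cert_tree lc_e_rc_18_1 lc_e_Cert_tree lc_e_Cert_tree lc_e_rc_18_1 lc_e_Cert_tree lc_e_Cert_tree lc_e_rc_18_1 lc_e_Cert_tree lc_e_Cert_tree lc_e_rc_27_5 lc_e_Cert_tree lc_e_rc_18_1 lc_e_Cert_tree lc_e_Cert_tree lc_e_rc_18_1 lc_e_Cert_tree lc_e_rc_18_1 lc_e_Cert_tree lc_e_rc_16_3 lc_e_Cert_tree lc_e_Cert_tree lc_e_rc_18_1 lc_e_Cert_tree lc_e_Cert_tree lc_e_rc_16_3 lc_e_rc_18_1 lc_e_Cert_tree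 lc_e_rc_16_5 lc_e_Cert_tree lc_e_rc_18_1 lc_e_Cert_tree lc_e_Cert_tree lc_e_rc_16_3 lc_e_rc_19_4 lc_e_Cert_tree lc_e_Cert_tree lc_e_Cert_tree lc_e_rc_18_1 lc_e_Cert_tree lc_e_Cert_tree lc_e_Cert_tree lc_e_rc_18_1 lc_e_rc_18_1 lc_e_Cert_tree lc_e_Cert_tree lc_e_rc_16_3 lc_e_Cert_tree lc_e_rc_9_1 lc_e_Cert_tree lc_e_rc_18_1 lc_e_Cert_tree lc_e_Cert_tree lc_e_rc_13_3) (@D3.rec (fun _ => (Cert rels S Gen.e)) lc_e_rc_18_1 lc_e_Cert_tree lc_e_rc_18_1 lc_e_rc_13_3 lc_e_rc_9_3 lc_e_Cert_tree lc_e_rc_18_1 lc_e_rc_9_3 lc_e_Cert_tree lc_e_Cert_tree lc_e_rc_13_3 lc_e_Cert_tree lc_e_Cert_tree lc_e_rc_18_1 lc_e_Cert_tree lc_e_rc_18_1 lc_e_Cert_tree lc_e_Cert_tree lc_e_rc_9_3 lc_e_Cert_tree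 lc_e_Cert_tree lc_e_rc_18_1 lc_e_rc_4_1 lc_e_rc_18_1 lc_e_Cert_tree lc_e_rc_18_1 lc_e_Cert_tree lc_e_Cert_tree lc_e_rc_9_3 lc_e_Cert_tree lc_e_rc_16_3 lc_e_rc_18_1 lc_e_Cert_tree lc_e_rc_18_1 lc_e_Cert_tree lc_e_rc_18_1 lc_e_Cert_tree lc_e_Cert_tree lc_e_rc_9_3 lc_e_Cert_tree lc_e_Cert_tree lc_e_rc_18_1 lc_e_Cert_tree lc_e_rc_18_1 lc_e_rc_18_1 lc_e_rc_18_1 lc_e_Cert_tree lc_e_rc_18_1 lc_e_Cert_tree lc_e_rc_18_1 lc_e_Cert_tree lc_e_Cert_tree lc_e_Cert_tree lc_e_Cert_tree lc_e_rc_18_1 lc_e_rc_18_1 lc_e_Cert_tree lc_e_rc_16_1 lc_e_rc_19_4 lc_e_rc_13_3 lc_e_Cert_tree lc_e_Cert_tree) (@D3.rec (fun _ => (Cert rels S Gen.e)) lc_e_rc_18_1 lc_e_Cert_tree lc_e_rc_16_5 lc_e_rc_19_4 lc_e_Cert_tree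 lc_e_rc_18_1 lc_e_Cert_tree lc_e_rc_13_3 lc_e_Cert_tree lc_e_Cert_tree lc_e_rc_18_1 lc_e_rc_18_1 lc_e_Cert_tree lc_e_rc_16_1 lc_e_rc_19_4 lc_e_Cert_tree lc_e_Cert_tree lc_e_rc_18_1 lc_e_Cert_tree lc_e_rc_27_5 lc_e_rc_9_3 lc_e_rc_19_4 lc_e_Cert_tree lc_e_Cert_tree lc_e_rc_9_3 lc_e_rc_18_1 lc_e_Cert_tree lc_e_Cert_tree lc_e_Cert_tree lc_e_rc_18_1 lc_e_Cert_tree lc_e_Cert_tree lc_e_rc_13_3 lc_e_Cert_tree lc_e_Cert_tree lc_e_Cert_tree lc_e_Cert_tree lc_e_Cert_tree lc_e_rc_18_1 lc_e_Cert_tree lc_e_rc_18_1 lc_e_Cert_tree lc_e_rc_18_1 lc_e_Cert_tree lc_e_rc_18_1 lc_e_Cert_tree lc_e_rc_18_1 lc_e_Cert_tree lc_e_Cert_tree lc_e_rc_13_3 lc_e_Cert_tree lc_e_rc_18_1 lc_e_rc_18_1 lc_e_Cert_tree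 lc_e_rc_4_3 lc_e_Cert_tree lc_e_rc_18_1 lc_e_Cert_tree lc_e_Cert_tree lc_e_rc_16_5 lc_e_rc_9_3 lc_e_rc_18_1) (@D3.rec (fun _ => (Cert rels S Gen.e)) lc_e_rc_18_1 lc_e_Cert_tree lc_e_Cert_tree lc_e_rc_18_1 lc_e_rc_16_5 lc_e_Cert_tree lc_e_rc_18_1 lc_e_Cert_tree lc_e_Cert_tree lc_e_Cert_tree lc_e_Cert_tree lc_e_rc_18_1 lc_e_Cert_tree lc_e_rc_18_1 lc_e_rc_19_4 lc_e_Cert_tree lc_e_Cert_tree lc_e_Cert_tree lc_e_Cert_tree lc_e_rc_18_1 lc_e_rc_18_1 lc_e_rc_27_7 lc_e_Cert_tree lc_e_rc_18_1 lc_e_Cert_tree lc_e_rc_13_3 lc_e_Cert_tree lc_e_Cert_tree lc_e_rc_18_1 lc_e_rc_18_1 lc_e_Cert_tree lc_e_rc_9_3 lc_e_rc_19_4 lc_e_Cert_tree lc_e_rc_27_5 lc_e_Cert_tree lc_e_Cert_tree lc_e_rc_18_1 lc_e_rc_18_1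 lc_e_rc_18_1 lc_e_Cert_tree lc_e_rc_16_1 lc_e_rc_19_4 lc_e_rc_9_3 lc_e_rc_27_5 lc_e_Cert_tree lc_e_rc_27_5 lc_e_rc_18_1 lc_e_rc_13_1 lc_e_rc_18_1 lc_e_Cert_tree lc_e_Cert_tree lc_e_rc_18_1 lc_e_Cert_tree lc_e_rc_27_7 lc_e_rc_19_4 lc_e_rc_13_3 lc_e_Cert_tree lc_e_Cert_tree lc_e_rc_27_7 lc_e_rc_18_1 lc_e_rc_13_3) (@D3.rec (fun _ => (Cert rels S Gen.e)) lc_e_Cert_tree lc_e_rc_18_1 lc_e_rc_18_1 lc_e_rc_27_5 lc_e_Cert_tree lc_e_rc_27_5 lc_e_Cert_tree lc_e_Cert_tree lc_e_rc_18_1 lc_e_rc_18_1 lc_e_rc_16_1 lc_e_rc_19_4 lc_e_rc_27_5 lc_e_Cert_tree lc_e_Cert_tree lc_e_Cert_tree lc_e_Cert_tree lc_e_rc_18_1 lc_e_rc_18_1 lc_e_Cert_tree lc_e_Cert_tree lc_e_rc_19_0 lc_e_rc_13_1 lc_e_Cert_tree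 lc_e_rc_18_1 lc_e_rc_18_1 lc_e_Cert_tree lc_e_Cert_tree lc_e_Cert_tree lc_e_rc_18_1 lc_e_Cert_tree lc_e_rc_27_1 lc_e_Cert_tree lc_e_Cert_tree lc_e_rc_18_1 lc_e_rc_18_1 lc_e_rc_9_3 lc_e_rc_27_7 lc_e_rc_18_1 lc_e_Cert_tree lc_e_Cert_tree lc_e_rc_19_4 lc_e_Cert_tree lc_e_Cert_tree lc_e_rc_16_3 lc_e_Cert_tree lc_e_Cert_tree lc_e_rc_27_5 lc_e_rc_18_1 lc_e_rc_16_5 lc_e_rc_13_3 lc_e_rc_27_5 lc_e_rc_16_5 lc_e_Cert_tree lc_e_rc_18_1 lc_e_Cert_tree lc_e_Cert_tree lc_e_rc_16_5 lc_e_rc_18_1 lc_e_rc_9_3 lc_e_Cert_tree lc_e_rc_18_1) (@D3.rec (fun _ => (Cert rels S Gen.e)) lc_e_rc_4_1 lc_e_rc_4_3 lc_e_Cert_tree lc_e_Cert_tree lc_e_rc_13_1 lc_e_rc_4_3 lc_e_Cert_tree lc_e_Cert_tree lc_e_Cert_tree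 lc_e_rc_18_1 lc_e_Cert_tree lc_e_Cert_tree lc_e_rc_19_4 lc_e_rc_9_3 lc_e_rc_9_3 lc_e_rc_9_1 lc_e_Cert_tree lc_e_rc_18_1 lc_e_Cert_tree lc_e_rc_18_1 lc_e_Cert_tree lc_e_Cert_tree lc_e_rc_18_1 lc_e_Cert_tree lc_e_Cert_tree lc_e_Cert_tree lc_e_Cert_tree lc_e_rc_18_1 lc_e_Cert_tree lc_e_rc_16_5 lc_e_rc_19_4 lc_e_Cert_tree lc_e_Cert_tree lc_e_Cert_tree lc_e_rc_18_1 lc_e_rc_16_3 lc_e_rc_4_3 lc_e_Cert_tree lc_e_rc_18_1 lc_e_rc_9_1 lc_e_rc_18_1 lc_e_rc_9_3 lc_e_rc_9_1 lc_e_rc_9_1 lc_e_Cert_tree lc_e_Cert_tree lc_e_Cert_tree lc_e_rc_13_3 lc_e_rc_13_3 lc_e_Cert_tree lc_e_rc_18_1 lc_e_rc_18_1 lc_e_Cert_tree lc_e_rc_19_4 lc_e_Cert_tree lc_e_Cert_tree lc_e_rc_13_3 lc_e_rc_13_3 lc_e_rc_18_1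 lc_e_Cert_tree lc_e_rc_18_1 lc_e_Cert_tree) (@D3.rec (fun _ => (Cert rels S Gen.e)) lc_e_rc_18_1 lc_e_rc_4_3 lc_e_rc_16_1 lc_e_rc_16_5 lc_e_rc_18_1 lc_e_rc_16_1 lc_e_rc_19_4 lc_e_rc_27_5 lc_e_rc_9_3 lc_e_Cert_tree lc_e_rc_9_3 lc_e_Cert_tree lc_e_Cert_tree lc_e_Cert_tree lc_e_Cert_tree lc_e_rc_18_1 lc_e_rc_16_1 lc_e_rc_27_1 lc_e_Cert_tree lc_e_rc_16_1 lc_e_rc_19_4 lc_e_rc_4_1 lc_e_rc_13_3 lc_e_Cert_tree lc_e_rc_19_2 lc_e_rc_19_2 lc_e_Cert_tree lc_e_rc_18_1 lc_e_rc_4_1 lc_e_Cert_tree lc_e_rc_18_1 lc_e_rc_27_5 lc_e_rc_9_3 lc_e_Cert_tree lc_e_rc_18_1 lc_e_Cert_tree lc_e_Cert_tree lc_e_Cert_tree lc_e_rc_18_1 lc_e_rc_27_5 lc_e_rc_27_1 lc_e_rc_16_1 lc_e_rc_19_4 lc_e_rc_16_5 lc_e_rc_18_1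 lc_e_rc_16_1 lc_e_rc_19_4 lc_e_rc_13_3 lc_e_Cert_tree lc_e_rc_18_1 lc_e_rc_27_5 lc_e_Cert_tree lc_e_rc_4_3 lc_e_rc_27_5 lc_e_rc_13_3 lc_e_rc_19_0 lc_e_rc_16_3 lc_e_rc_9_3 lc_e_Cert_tree lc_e_rc_18_1 lc_e_Cert_tree lc_e_rc_18_1) (@D3.rec (fun _ => (Cert rels S Gen.e)) lc_e_Cert_tree lc_e_rc_18_1 lc_e_Cert_tree lc_e_rc_18_1 lc_e_rc_27_1 lc_e_rc_16_1 lc_e_Cert_tree lc_e_Cert_tree lc_e_Cert_tree lc_e_rc_18_1 lc_e_Cert_tree lc_e_Cert_tree lc_e_rc_18_1 lc_e_Cert_tree lc_e_rc_18_1 lc_e_Cert_tree lc_e_Cert_tree lc_e_Cert_tree lc_e_Cert_tree lc_e_rc_18_1 lc_e_Cert_tree lc_e_Cert_tree lc_e_Cert_tree lc_e_Cert_tree lc_e_rc_18_1 lc_e_rc_16_3 lc_e_Cert_tree lc_e_Cert_tree lc_e_rc_18_1 lc_e_Cert_tree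 lc_e_Cert_tree lc_e_rc_19_4 lc_e_Cert_tree lc_e_rc_27_5 lc_e_rc_18_1 lc_e_Cert_tree lc_e_Cert_tree lc_e_rc_4_3 lc_e_Cert_tree lc_e_rc_18_1 lc_e_Cert_tree lc_e_rc_4_3 lc_e_rc_16_3 lc_e_rc_19_4 lc_e_rc_18_1 lc_e_Cert_tree lc_e_rc_27_1 lc_e_rc_18_1 lc_e_Cert_tree lc_e_rc_4_3 lc_e_rc_27_1 lc_e_rc_18_1 lc_e_rc_18_1 lc_e_Cert_tree lc_e_Cert_tree lc_e_rc_16_3 lc_e_Cert_tree lc_e_rc_18_1 lc_e_rc_27_1 lc_e_Cert_tree lc_e_rc_18_1 lc_e_rc_19_4) (@D3.rec (fun _ => (Cert rels S Gen.e)) lc_e_rc_18_1 lc_e_rc_4_3 lc_e_rc_4_3 lc_e_rc_16_1 lc_e_rc_19_4 lc_e_rc_13_3 lc_e_rc_19_4 lc_e_rc_19_4 lc_e_Cert_tree lc_e_rc_18_1 lc_e_rc_9_3 lc_e_rc_4_3 lc_e_rc_19_4 lc_e_rc_27_5 lc_e_rc_9_3 lc_e_rc_18_1 lc_e_rc_16_3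 lc_e_rc_18_1 lc_e_rc_18_1 lc_e_rc_9_3 lc_e_rc_18_1 lc_e_Cert_tree lc_e_rc_18_1 lc_e_rc_4_3 lc_e_rc_18_1 lc_e_Cert_tree lc_e_rc_18_1 lc_e_Cert_tree lc_e_rc_18_1 lc_e_Cert_tree lc_e_rc_18_1 lc_e_Cert_tree lc_e_rc_18_1 lc_e_Cert_tree lc_e_Cert_tree lc_e_rc_4_3 lc_e_Cert_tree lc_e_rc_27_5 lc_e_rc_13_3 lc_e_rc_19_4 lc_e_rc_9_3 lc_e_rc_18_1 lc_e_rc_18_1 lc_e_rc_18_1 lc_e_rc_18_1 lc_e_rc_13_3 lc_e_rc_19_4 lc_e_rc_18_1 lc_e_rc_4_3 lc_e_Cert_tree lc_e_rc_18_1 lc_e_rc_16_1 lc_e_Cert_tree lc_e_rc_18_1 lc_e_Cert_tree lc_e_Cert_tree lc_e_rc_16_1 lc_e_rc_19_4 lc_e_rc_19_0 lc_e_Cert_tree lc_e_Cert_tree lc_e_rc_18_1) (@D3.rec (fun _ => (Cert rels S Gen.e)) lc_e_rc_13_3 lc_e_Cert_tree lc_e_rc_19_4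 lc_e_Cert_tree lc_e_rc_18_1 lc_e_rc_13_3 lc_e_rc_4_3 lc_e_Cert_tree lc_e_rc_18_1 lc_e_rc_19_4 lc_e_rc_18_1 lc_e_rc_4_3 lc_e_rc_9_3 lc_e_Cert_tree lc_e_rc_18_1 lc_e_Cert_tree lc_e_Cert_tree lc_e_rc_18_1 lc_e_Cert_tree lc_e_Cert_tree lc_e_rc_18_1 lc_e_rc_27_1 lc_e_rc_18_1 lc_e_rc_9_1 lc_e_rc_16_1 lc_e_rc_27_5 lc_e_Cert_tree lc_e_Cert_tree lc_e_rc_18_1 lc_e_rc_18_1 lc_e_Cert_tree lc_e_rc_16_1 lc_e_rc_19_4 lc_e_rc_13_3 lc_e_Cert_tree lc_e_rc_4_3 lc_e_Cert_tree lc_e_Cert_tree lc_e_Cert_tree lc_e_rc_13_3 lc_e_Cert_tree lc_e_rc_18_1 lc_e_Cert_tree lc_e_rc_18_1 lc_e_rc_18_1 lc_e_Cert_tree lc_e_rc_9_3 lc_e_rc_18_1 lc_e_Cert_tree lc_e_Cert_tree lc_e_rc_18_1 lc_e_rc_13_3 lc_e_rc_18_1 lc_e_rc_18_1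 lc_e_Cert_tree lc_e_rc_18_1 lc_e_Cert_tree lc_e_rc_18_1 lc_e_rc_18_1 lc_e_rc_16_1 lc_e_Cert_tree lc_e_rc_18_1) (@D3.rec (fun _ => (Cert rels S Gen.e)) lc_e_Cert_tree lc_e_rc_18_1 lc_e_rc_19_0 lc_e_rc_16_1 lc_e_rc_18_1 lc_e_Cert_tree lc_e_rc_27_1 lc_e_Cert_tree lc_e_Cert_tree lc_e_rc_18_1 lc_e_rc_18_1 lc_e_rc_9_3 lc_e_rc_16_1 lc_e_rc_18_1 lc_e_Cert_tree lc_e_Cert_tree lc_e_Cert_tree lc_e_rc_18_1 lc_e_Cert_tree lc_e_Cert_tree lc_e_rc_16_1 lc_e_rc_13_3 lc_e_rc_16_1 lc_e_rc_19_0 lc_e_Cert_tree lc_e_Cert_tree lc_e_rc_16_3 lc_e_rc_13_3 lc_e_Cert_tree lc_e_Cert_tree lc_e_rc_18_1 lc_e_Cert_tree lc_e_rc_18_1 lc_e_rc_19_4 lc_e_Cert_tree lc_e_rc_19_0 lc_e_rc_18_1 lc_e_rc_4_1 lc_e_Cert_tree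 lc_e_Cert_tree lc_e_rc_18_1 lc_e_Cert_tree lc_e_Cert_tree lc_e_rc_27_7 lc_e_Cert_tree lc_e_rc_18_1 lc_e_Cert_tree lc_e_rc_13_1 lc_e_rc_18_1 lc_e_Cert_tree lc_e_rc_9_1 lc_e_Cert_tree lc_e_rc_18_1 lc_e_Cert_tree lc_e_rc_9_3 lc_e_Cert_tree lc_e_rc_18_1 lc_e_rc_27_7 lc_e_Cert_tree lc_e_Cert_tree lc_e_rc_9_3 lc_e_rc_18_1) (@D3.rec (fun _ => (Cert rels S Gen.e)) lc_e_Cert_tree lc_e_rc_18_1 lc_e_rc_18_1 lc_e_rc_16_1 lc_e_rc_27_5 lc_e_rc_18_1 lc_e_Cert_tree lc_e_rc_18_1 lc_e_Cert_tree lc_e_Cert_tree lc_e_Cert_tree lc_e_Cert_tree lc_e_rc_18_1 lc_e_Cert_tree lc_e_rc_18_1 lc_e_rc_16_1 lc_e_rc_19_2 lc_e_rc_18_1 lc_e_Cert_tree lc_e_Cert_tree lc_e_rc_13_1 lc_e_Cert_tree lc_e_rc_16_3 lc_e_Cert_tree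 lc_e_rc_18_1 lc_e_Cert_tree lc_e_Cert_tree lc_e_rc_18_1 lc_e_rc_18_1 lc_e_rc_16_1 lc_e_Cert_tree lc_e_Cert_tree lc_e_rc_18_1 lc_e_Cert_tree lc_e_rc_16_1 lc_e_rc_19_2 lc_e_Cert_tree lc_e_rc_16_3 lc_e_rc_13_3 lc_e_Cert_tree lc_e_Cert_tree lc_e_Cert_tree lc_e_rc_18_1 lc_e_Cert_tree lc_e_Cert_tree lc_e_rc_19_4 lc_e_Cert_tree lc_e_rc_18_1 lc_e_Cert_tree lc_e_Cert_tree lc_e_rc_18_1 lc_e_rc_4_3 lc_e_rc_9_3 lc_e_rc_16_3 lc_e_rc_19_4 lc_e_Cert_tree lc_e_Cert_tree lc_e_rc_18_1 lc_e_rc_9_3 lc_e_Cert_tree lc_e_rc_19_4 lc_e_rc_9_1) (@D3.rec (fun _ => (Cert rels S Gen.e)) lc_e_Cert_tree lc_e_Cert_tree lc_e_rc_18_1 lc_e_Cert_tree lc_e_Cert_tree lc_e_Cert_tree lc_e_rc_18_1 lc_e_Cert_tree lc_e_rc_27_1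 lc_e_Cert_tree lc_e_rc_18_1 lc_e_Cert_tree lc_e_Cert_tree lc_e_rc_16_1 lc_e_rc_19_4 lc_e_Cert_tree lc_e_Cert_tree lc_e_Cert_tree lc_e_rc_18_1 lc_e_Cert_tree lc_e_Cert_tree lc_e_Cert_tree lc_e_rc_18_1 lc_e_rc_13_3 lc_e_Cert_tree lc_e_Cert_tree lc_e_rc_9_3 lc_e_rc_13_3 lc_e_Cert_tree lc_e_rc_18_1 lc_e_Cert_tree lc_e_Cert_tree lc_e_Cert_tree lc_e_rc_18_1 lc_e_rc_19_2 lc_e_Cert_tree lc_e_rc_16_3 lc_e_rc_19_4 lc_e_rc_13_3 lc_e_rc_27_7 lc_e_Cert_tree lc_e_rc_16_1 lc_e_Cert_tree lc_e_Cert_tree lc_e_rc_18_1 lc_e_rc_27_5 lc_e_Cert_tree lc_e_Cert_tree lc_e_rc_18_1 lc_e_Cert_tree lc_e_rc_9_1 lc_e_rc_16_3 lc_e_rc_19_4 lc_e_rc_19_4 lc_e_rc_13_3 lc_e_Cert_tree lc_e_rc_18_1 lc_e_Cert_tree lc_e_Cert_tree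 lc_e_rc_13_3 lc_e_Cert_tree lc_e_rc_27_5) (@D3.rec (fun _ => (Cert rels S Gen.e)) lc_e_Cert_tree lc_e_Cert_tree lc_e_rc_19_2 lc_e_rc_18_1 lc_e_rc_27_5 lc_e_rc_27_7 lc_e_rc_18_1 lc_e_rc_27_5 lc_e_rc_16_5 lc_e_rc_4_3 lc_e_Cert_tree lc_e_rc_16_5 lc_e_rc_18_1 lc_e_rc_19_4 lc_e_rc_13_1 lc_e_rc_18_1 lc_e_rc_9_3 lc_e_Cert_tree lc_e_Cert_tree lc_e_rc_18_1 lc_e_Cert_tree lc_e_Cert_tree lc_e_rc_18_1 lc_e_Cert_tree lc_e_Cert_tree lc_e_rc_18_1 lc_e_Cert_tree lc_e_Cert_tree lc_e_rc_9_3 lc_e_rc_16_3 lc_e_rc_4_1 lc_e_rc_18_1 lc_e_Cert_tree lc_e_rc_18_1 lc_e_rc_13_1 lc_e_rc_18_1 lc_e_Cert_tree lc_e_rc_18_1 lc_e_Cert_tree lc_e_Cert_tree lc_e_rc_19_4 lc_e_rc_19_2 lc_e_rc_9_1 lc_e_rc_13_3 lc_e_Cert_tree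 lc_e_rc_27_5 lc_e_rc_9_3 lc_e_Cert_tree lc_e_rc_18_1 lc_e_Cert_tree lc_e_rc_18_1 lc_e_rc_27_5 lc_e_rc_18_1 lc_e_Cert_tree lc_e_Cert_tree lc_e_rc_18_1 lc_e_rc_9_3 lc_e_rc_16_3 lc_e_Cert_tree lc_e_Cert_tree lc_e_Cert_tree lc_e_rc_18_1) (@D3.rec (fun _ => (Cert rels S Gen.e)) lc_e_rc_9_3 lc_e_Cert_tree lc_e_rc_19_4 lc_e_Cert_tree lc_e_rc_27_1 lc_e_rc_18_1 lc_e_Cert_tree lc_e_Cert_tree lc_e_rc_18_1 lc_e_rc_18_1 lc_e_rc_18_1 lc_e_rc_27_5 lc_e_rc_19_4 lc_e_rc_13_3 lc_e_rc_18_1 lc_e_rc_16_1 lc_e_rc_13_3 lc_e_Cert_tree lc_e_Cert_tree lc_e_rc_18_1 lc_e_Cert_tree lc_e_rc_27_5 lc_e_rc_19_4 lc_e_Cert_tree lc_e_rc_9_3 lc_e_Cert_tree lc_e_rc_13_3 lc_e_Cert_tree lc_e_rc_18_1 lc_e_rc_27_1 lc_e_rc_9_3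 lc_e_Cert_tree lc_e_Cert_tree lc_e_Cert_tree lc_e_rc_18_1 lc_e_Cert_tree lc_e_Cert_tree lc_e_Cert_tree lc_e_rc_18_1 lc_e_Cert_tree lc_e_rc_18_1 lc_e_Cert_tree lc_e_Cert_tree lc_e_rc_16_1 lc_e_rc_19_4 lc_e_Cert_tree lc_e_Cert_tree lc_e_Cert_tree lc_e_rc_18_1 lc_e_rc_19_4 lc_e_rc_18_1 lc_e_Cert_tree lc_e_Cert_tree lc_e_rc_16_3 lc_e_rc_19_4 lc_e_rc_9_3 lc_e_rc_16_5 lc_e_Cert_tree lc_e_Cert_tree lc_e_rc_18_1 lc_e_Cert_tree lc_e_rc_13_3) (@D3.rec (fun _ => (Cert rels S Gen.e)) lc_e_Cert_tree lc_e_rc_18_1 lc_e_Cert_tree lc_e_rc_18_1 lc_e_Cert_tree lc_e_Cert_tree lc_e_rc_18_1 lc_e_rc_13_1 lc_e_rc_18_1 lc_e_rc_16_1 lc_e_rc_19_4 lc_e_rc_13_1 lc_e_rc_18_1 lc_e_rc_4_3 lc_e_rc_9_3 lc_e_rc_18_1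 lc_e_rc_18_1 lc_e_rc_19_4 lc_e_rc_19_4 lc_e_rc_4_3 lc_e_rc_27_5 lc_e_Cert_tree lc_e_rc_18_1 lc_e_rc_16_3 lc_e_rc_16_3 lc_e_Cert_tree lc_e_rc_13_3 lc_e_rc_18_1 lc_e_Cert_tree lc_e_Cert_tree lc_e_rc_13_3 lc_e_rc_16_5 lc_e_Cert_tree lc_e_rc_18_1 lc_e_rc_18_1 lc_e_rc_4_3 lc_e_Cert_tree lc_e_Cert_tree lc_e_rc_18_1 lc_e_rc_18_1 lc_e_rc_9_3 lc_e_rc_27_1 lc_e_rc_13_3 lc_e_rc_18_1 lc_e_rc_19_4 lc_e_rc_18_1 lc_e_rc_16_5 lc_e_rc_9_3 lc_e_Cert_tree lc_e_rc_18_1 lc_e_rc_18_1 lc_e_rc_18_1 lc_e_rc_27_7 lc_e_rc_13_3 lc_e_rc_13_3 lc_e_rc_13_3 lc_e_Cert_tree lc_e_rc_18_1 lc_e_rc_13_3 lc_e_rc_13_3 lc_e_rc_9_3 lc_e_rc_27_5) (@D3.rec (fun _ => (Cert rels S Gen.e)) lc_e_rc_18_1 lc_e_rc_18_1 lc_e_rc_18_1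 lc_e_Cert_tree lc_e_rc_18_1 lc_e_rc_4_3 lc_e_rc_9_1 lc_e_rc_13_3 lc_e_rc_9_3 lc_e_Cert_tree lc_e_rc_9_3 lc_e_rc_18_1 lc_e_rc_13_3 lc_e_rc_9_3 lc_e_rc_4_1 lc_e_rc_18_1 lc_e_rc_9_3 lc_e_Cert_tree lc_e_Cert_tree lc_e_rc_18_1 lc_e_Cert_tree lc_e_rc_18_1 lc_e_rc_18_1 lc_e_rc_4_1 lc_e_Cert_tree lc_e_Cert_tree lc_e_rc_4_3 lc_e_Cert_tree lc_e_Cert_tree lc_e_rc_18_1 lc_e_Cert_tree lc_e_rc_18_1 lc_e_rc_18_1 lc_e_rc_19_2 lc_e_rc_27_5 lc_e_rc_18_1 lc_e_Cert_tree lc_e_Cert_tree lc_e_rc_18_1 lc_e_Cert_tree lc_e_Cert_tree lc_e_rc_16_1 lc_e_rc_19_4 lc_e_Cert_tree lc_e_Cert_tree lc_e_Cert_tree lc_e_rc_9_1 lc_e_rc_9_3 lc_e_Cert_tree lc_e_rc_18_1 lc_e_rc_16_3 lc_e_rc_13_3 lc_e_Cert_tree lc_e_rc_18_1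 lc_e_rc_27_1 lc_e_rc_16_3 lc_e_rc_19_4 lc_e_Cert_tree lc_e_rc_18_1 lc_e_rc_18_1 lc_e_rc_9_3 lc_e_rc_18_1) (@D3.rec (fun _ => (Cert rels S Gen.e)) lc_e_rc_16_3 lc_e_rc_27_1 lc_e_rc_9_1 lc_e_rc_18_1 lc_e_rc_19_0 lc_e_rc_18_1 lc_e_rc_18_1 lc_e_rc_18_1 lc_e_rc_27_5 lc_e_rc_18_1 lc_e_Cert_tree lc_e_rc_19_2 lc_e_rc_18_1 lc_e_rc_18_1 lc_e_rc_18_1 lc_e_rc_13_3 lc_e_rc_16_1 lc_e_rc_19_4 lc_e_rc_19_0 lc_e_rc_9_3 lc_e_rc_27_7 lc_e_rc_16_3 lc_e_Cert_tree lc_e_rc_18_1 lc_e_rc_16_3 lc_e_rc_19_2 lc_e_rc_27_1 lc_e_rc_18_1 lc_e_rc_16_5 lc_e_rc_13_3 lc_e_rc_9_3 lc_e_rc_18_1 lc_e_rc_13_1 lc_e_rc_9_3 lc_e_rc_18_1 lc_e_rc_13_1 lc_e_Cert_tree lc_e_rc_9_3 lc_e_rc_16_3 lc_e_rc_19_2 lc_e_Cert_tree lc_e_Cert_tree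 lc_e_rc_4_3 lc_e_rc_18_1 lc_e_rc_18_1 lc_e_rc_27_5 lc_e_rc_18_1 lc_e_rc_27_5 lc_e_rc_18_1 lc_e_rc_13_3 lc_e_rc_27_5 lc_e_rc_18_1 lc_e_rc_27_1 lc_e_rc_19_4 lc_e_Cert_tree lc_e_rc_18_1 lc_e_rc_18_1 lc_e_rc_18_1 lc_e_rc_18_1 lc_e_rc_16_1 lc_e_rc_18_1 lc_e_rc_4_3) (@D3.rec (fun _ => (Cert rels S Gen.e)) lc_e_rc_16_1 lc_e_rc_13_3 lc_e_rc_18_1 lc_e_Cert_tree lc_e_rc_18_1 lc_e_Cert_tree lc_e_rc_18_1 lc_e_rc_18_1 lc_e_Cert_tree lc_e_rc_18_1 lc_e_Cert_tree lc_e_rc_18_1 lc_e_rc_13_1 lc_e_rc_16_3 lc_e_rc_18_1 lc_e_rc_18_1 lc_e_rc_18_1 lc_e_Cert_tree lc_e_Cert_tree lc_e_rc_16_1 lc_e_Cert_tree lc_e_rc_18_1 lc_e_Cert_tree lc_e_rc_18_1 lc_e_Cert_tree lc_e_rc_18_1 lc_e_Cert_tree lc_e_rc_18_1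 lc_e_Cert_tree lc_e_rc_18_1 lc_e_rc_16_1 lc_e_rc_13_3 lc_e_Cert_tree lc_e_rc_18_1 lc_e_rc_27_5 lc_e_rc_18_1 lc_e_rc_16_1 lc_e_rc_18_1 lc_e_Cert_tree lc_e_rc_18_1 lc_e_Cert_tree lc_e_Cert_tree lc_e_rc_18_1 lc_e_Cert_tree lc_e_Cert_tree lc_e_rc_18_1 lc_e_rc_13_3 lc_e_Cert_tree lc_e_Cert_tree lc_e_Cert_tree lc_e_rc_18_1 lc_e_Cert_tree lc_e_Cert_tree lc_e_rc_18_1 lc_e_rc_16_1 lc_e_rc_9_3 lc_e_Cert_tree lc_e_Cert_tree lc_e_rc_13_3 lc_e_Cert_tree lc_e_rc_18_1 lc_e_rc_18_1) (@D3.rec (fun _ => (Cert rels S Gen.e)) lc_e_Cert_tree lc_e_Cert_tree lc_e_rc_18_1 lc_e_rc_18_1 lc_e_rc_16_3 lc_e_rc_18_1 lc_e_Cert_tree lc_e_Cert_tree lc_e_rc_18_1 lc_e_rc_18_1 lc_e_Cert_tree lc_e_Cert_tree lc_e_rc_18_1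 lc_e_Cert_tree lc_e_Cert_tree lc_e_rc_18_1 lc_e_Cert_tree lc_e_Cert_tree lc_e_Cert_tree lc_e_Cert_tree lc_e_rc_18_1 lc_e_rc_18_1 lc_e_rc_16_1 lc_e_Cert_tree lc_e_rc_16_1 lc_e_rc_13_3 lc_e_Cert_tree lc_e_rc_18_1 lc_e_Cert_tree lc_e_rc_18_1 lc_e_rc_18_1 lc_e_rc_19_0 lc_e_rc_16_3 lc_e_rc_18_1 lc_e_Cert_tree lc_e_rc_18_1 lc_e_Cert_tree lc_e_rc_18_1 lc_e_Cert_tree lc_e_Cert_tree lc_e_Cert_tree lc_e_Cert_tree lc_e_rc_18_1 lc_e_Cert_tree lc_e_Cert_tree lc_e_rc_18_1 lc_e_Cert_tree lc_e_Cert_tree lc_e_rc_27_5 lc_e_rc_4_1 lc_e_Cert_tree lc_e_rc_27_1 lc_e_rc_18_1 lc_e_rc_9_3 lc_e_Cert_tree lc_e_rc_18_1 lc_e_rc_18_1 lc_e_rc_13_3 lc_e_rc_16_3 lc_e_rc_9_3 lc_e_Cert_tree lc_e_Cert_tree) (@D3.rec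 (fun _ => (Cert rels S Gen.e)) lc_e_Cert_tree lc_e_Cert_tree lc_e_Cert_tree lc_e_rc_18_1 lc_e_rc_18_1 lc_e_rc_27_5 lc_e_rc_27_1 lc_e_rc_16_1 lc_e_rc_18_1 lc_e_rc_19_0 lc_e_rc_27_5 lc_e_Cert_tree lc_e_Cert_tree lc_e_rc_13_3 lc_e_Cert_tree lc_e_Cert_tree lc_e_Cert_tree lc_e_Cert_tree lc_e_Cert_tree lc_e_Cert_tree lc_e_rc_18_1 lc_e_rc_18_1 lc_e_rc_27_5 lc_e_rc_19_2 lc_e_Cert_tree lc_e_rc_13_1 lc_e_rc_27_7 lc_e_Cert_tree lc_e_Cert_tree lc_e_rc_18_1 lc_e_rc_18_1 lc_e_rc_16_1 lc_e_rc_19_4 lc_e_rc_9_1 lc_e_Cert_tree lc_e_Cert_tree lc_e_rc_18_1 lc_e_Cert_tree lc_e_Cert_tree lc_e_rc_18_1 lc_e_Cert_tree lc_e_rc_18_1 lc_e_Cert_tree lc_e_rc_16_5 lc_e_Cert_tree lc_e_rc_18_1 lc_e_rc_18_1 lc_e_Cert_tree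 lc_e_rc_16_1 lc_e_rc_19_4 lc_e_Cert_tree lc_e_rc_18_1 lc_e_Cert_tree lc_e_rc_18_1 lc_e_Cert_tree lc_e_rc_18_1 lc_e_Cert_tree lc_e_rc_18_1 lc_e_rc_16_1 lc_e_Cert_tree lc_e_rc_18_1 lc_e_Cert_tree) (@D3.rec (fun _ => (Cert rels S Gen.e)) lc_e_rc_9_3 lc_e_Cert_tree lc_e_rc_18_1 lc_e_Cert_tree lc_e_Cert_tree lc_e_Cert_tree lc_e_rc_18_1 lc_e_Cert_tree lc_e_Cert_tree lc_e_rc_13_3 lc_e_Cert_tree lc_e_rc_18_1 lc_e_Cert_tree lc_e_rc_18_1 lc_e_rc_16_3 lc_e_rc_27_5 lc_e_rc_4_3 lc_e_Cert_tree lc_e_rc_27_1 lc_e_rc_18_1 lc_e_Cert_tree lc_e_Cert_tree lc_e_rc_18_1 lc_e_rc_9_1 lc_e_rc_9_1 lc_e_Cert_tree lc_e_Cert_tree lc_e_rc_18_1 lc_e_Cert_tree lc_e_rc_9_3 lc_e_rc_13_3 lc_e_Cert_tree lc_e_rc_18_1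 lc_e_rc_19_4 lc_e_Cert_tree lc_e_rc_18_1 lc_e_Cert_tree lc_e_rc_27_7 lc_e_rc_18_1 lc_e_Cert_tree lc_e_rc_27_1 lc_e_rc_9_3 lc_e_Cert_tree lc_e_Cert_tree lc_e_rc_18_1 lc_e_rc_18_1 lc_e_rc_16_3 lc_e_rc_13_3 lc_e_rc_18_1 lc_e_rc_18_1 lc_e_rc_18_1 lc_e_rc_13_3 lc_e_rc_16_1 lc_e_rc_9_3 lc_e_rc_13_3 lc_e_rc_27_1 lc_e_rc_18_1 lc_e_rc_27_7 lc_e_rc_27_7 lc_e_rc_9_3 lc_e_rc_16_5 lc_e_rc_13_3) (@D3.rec (fun _ => (Cert rels S Gen.e)) lc_e_rc_19_4 lc_e_rc_18_1 lc_e_rc_18_1 lc_e_rc_16_5 lc_e_rc_18_1 lc_e_rc_27_5 lc_e_rc_18_1 lc_e_rc_16_1 lc_e_rc_9_3 lc_e_rc_9_3 lc_e_Cert_tree lc_e_rc_19_4 lc_e_Cert_tree lc_e_rc_18_1 lc_e_rc_16_1 lc_e_rc_9_1 lc_e_rc_18_1 lc_e_rc_18_1 lc_e_rc_13_3 lc_e_rc_16_1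 lc_e_rc_19_4 lc_e_rc_13_3 lc_e_rc_27_1 lc_e_rc_4_1 lc_e_rc_27_5 lc_e_rc_27_5 lc_e_rc_18_1 lc_e_rc_18_1 lc_e_rc_19_4 lc_e_rc_18_1 lc_e_rc_18_1 lc_e_rc_13_3 lc_e_rc_13_3 lc_e_rc_18_1 lc_e_rc_27_5 lc_e_rc_18_1 lc_e_Cert_tree lc_e_rc_18_1 lc_e_rc_18_1 lc_e_rc_16_3 lc_e_Cert_tree lc_e_rc_18_1 lc_e_rc_18_1 lc_e_Cert_tree lc_e_Cert_tree lc_e_Cert_tree lc_e_Cert_tree lc_e_rc_18_1 lc_e_Cert_tree lc_e_rc_19_4 lc_e_Cert_tree lc_e_Cert_tree lc_e_rc_18_1 lc_e_Cert_tree lc_e_Cert_tree lc_e_rc_18_1 lc_e_Cert_tree lc_e_rc_16_3 lc_e_rc_19_4 lc_e_Cert_tree lc_e_Cert_tree lc_e_rc_16_3) (@D3.rec (fun _ => (Cert rels S Gen.e)) lc_e_rc_19_4 lc_e_Cert_tree lc_e_rc_13_1 lc_e_Cert_tree lc_e_rc_18_1 lc_e_Cert_tree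 lc_e_Cert_tree lc_e_Cert_tree lc_e_rc_18_1 lc_e_rc_16_3 lc_e_Cert_tree lc_e_rc_13_3 lc_e_Cert_tree lc_e_rc_9_1 lc_e_rc_9_1 lc_e_rc_9_3 lc_e_Cert_tree lc_e_Cert_tree lc_e_rc_18_1 lc_e_Cert_tree lc_e_rc_18_1 lc_e_rc_9_1 lc_e_Cert_tree lc_e_Cert_tree lc_e_rc_27_5 lc_e_rc_18_1 lc_e_Cert_tree lc_e_rc_18_1 lc_e_rc_19_4 lc_e_rc_4_3 lc_e_Cert_tree lc_e_rc_18_1 lc_e_rc_18_1 lc_e_Cert_tree lc_e_rc_18_1 lc_e_rc_18_1 lc_e_rc_4_3 lc_e_rc_4_3 lc_e_rc_9_3 lc_e_Cert_tree lc_e_Cert_tree lc_e_rc_18_1 lc_e_rc_19_2 lc_e_rc_19_2 lc_e_rc_9_3 lc_e_rc_13_3 lc_e_rc_9_3 lc_e_Cert_tree lc_e_rc_18_1 lc_e_rc_4_3 lc_e_Cert_tree lc_e_Cert_tree lc_e_rc_16_5 lc_e_Cert_tree lc_e_rc_18_1 lc_e_rc_9_3 lc_e_Cert_tree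 lc_e_rc_4_1 lc_e_Cert_tree lc_e_rc_18_1 lc_e_rc_18_1 lc_e_Cert_tree) (@D3.rec (fun _ => (Cert rels S Gen.e)) lc_e_rc_18_1 lc_e_Cert_tree lc_e_rc_18_1 lc_e_rc_19_4 lc_e_rc_18_1 lc_e_Cert_tree lc_e_rc_18_1 lc_e_rc_13_3 lc_e_rc_27_5 lc_e_rc_16_5 lc_e_Cert_tree lc_e_rc_16_5 lc_e_rc_18_1 lc_e_rc_9_1 lc_e_rc_13_1 lc_e_rc_16_5 lc_e_rc_13_3 lc_e_rc_9_3 lc_e_rc_16_3 lc_e_Cert_tree lc_e_rc_18_1 lc_e_rc_27_1 lc_e_rc_13_3 lc_e_Cert_tree lc_e_rc_18_1 lc_e_rc_18_1 lc_e_rc_27_5 lc_e_Cert_tree lc_e_Cert_tree lc_e_rc_4_3 lc_e_rc_16_3 lc_e_Cert_tree lc_e_rc_18_1 lc_e_Cert_tree lc_e_Cert_tree lc_e_Cert_tree lc_e_rc_13_3 lc_e_Cert_tree lc_e_Cert_tree lc_e_rc_18_1 lc_e_rc_18_1 lc_e_Cert_tree lc_e_Cert_tree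 lc_e_rc_9_3 lc_e_rc_16_5 lc_e_rc_19_4 lc_e_rc_18_1 lc_e_Cert_tree lc_e_rc_18_1 lc_e_Cert_tree lc_e_rc_18_1 lc_e_Cert_tree lc_e_rc_18_1 lc_e_Cert_tree lc_e_Cert_tree lc_e_rc_18_1 lc_e_Cert_tree lc_e_rc_18_1 lc_e_rc_9_3 lc_e_Cert_tree lc_e_Cert_tree lc_e_rc_18_1) (@D3.rec (fun _ => (Cert rels S Gen.e)) lc_e_rc_16_5 lc_e_Cert_tree lc_e_rc_18_1 lc_e_rc_4_1 lc_e_Cert_tree lc_e_Cert_tree lc_e_rc_18_1 lc_e_rc_4_1 lc_e_Cert_tree lc_e_rc_18_1 lc_e_Cert_tree lc_e_Cert_tree lc_e_Cert_tree lc_e_Cert_tree lc_e_rc_18_1 lc_e_rc_18_1 lc_e_rc_16_1 lc_e_rc_27_7 lc_e_rc_13_3 lc_e_Cert_tree lc_e_Cert_tree lc_e_Cert_tree lc_e_rc_18_1 lc_e_rc_27_1 lc_e_Cert_tree lc_e_rc_18_1 lc_e_Cert_tree lc_e_Cert_tree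 lc_e_rc_18_1 lc_e_rc_18_1 lc_e_rc_27_1 lc_e_rc_18_1 lc_e_Cert_tree lc_e_Cert_tree lc_e_Cert_tree lc_e_rc_18_1 lc_e_rc_18_1 lc_e_Cert_tree lc_e_rc_19_4 lc_e_Cert_tree lc_e_Cert_tree lc_e_rc_18_1 lc_e_Cert_tree lc_e_Cert_tree lc_e_rc_18_1 lc_e_Cert_tree lc_e_rc_27_5 lc_e_rc_18_1 lc_e_rc_9_3 lc_e_Cert_tree lc_e_Cert_tree lc_e_rc_18_1 lc_e_Cert_tree lc_e_Cert_tree lc_e_rc_18_1 lc_e_Cert_tree lc_e_rc_27_5 lc_e_rc_4_3 lc_e_Cert_tree lc_e_Cert_tree lc_e_Cert_tree lc_e_Cert_tree) (@D3.rec (fun _ => (Cert rels S Gen.e)) lc_e_Cert_tree lc_e_rc_18_1 lc_e_Cert_tree lc_e_rc_18_1 lc_e_Cert_tree lc_e_Cert_tree lc_e_Cert_tree lc_e_rc_18_1 lc_e_Cert_tree lc_e_rc_13_3 lc_e_Cert_tree lc_e_rc_18_1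 lc_e_Cert_tree lc_e_Cert_tree lc_e_rc_19_2 lc_e_rc_9_3 lc_e_rc_16_3 lc_e_rc_27_5 lc_e_rc_18_1 lc_e_Cert_tree lc_e_rc_18_1 lc_e_Cert_tree lc_e_Cert_tree lc_e_rc_18_1 lc_e_Cert_tree lc_e_rc_27_5 lc_e_rc_19_4 lc_e_rc_18_1 lc_e_rc_18_1 lc_e_Cert_tree lc_e_rc_9_3 lc_e_rc_4_3 lc_e_Cert_tree lc_e_rc_27_5 lc_e_rc_18_1 lc_e_rc_16_5 lc_e_rc_19_4 lc_e_Cert_tree lc_e_rc_18_1 lc_e_rc_9_3 lc_e_Cert_tree lc_e_rc_18_1 lc_e_rc_18_1 lc_e_Cert_tree lc_e_rc_27_5 lc_e_rc_18_1 lc_e_Cert_tree lc_e_rc_18_1 lc_e_Cert_tree lc_e_Cert_tree lc_e_rc_19_4 lc_e_rc_19_0 lc_e_rc_19_4 lc_e_rc_4_3 lc_e_rc_18_1 lc_e_rc_18_1 lc_e_Cert_tree lc_e_rc_16_1 lc_e_rc_19_4 lc_e_Cert_tree lc_e_Cert_tree lc_e_rc_18_1) (@D3.rec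 (fun _ => (Cert rels S Gen.e)) lc_e_Cert_tree lc_e_rc_27_5 lc_e_rc_19_4 lc_e_Cert_tree lc_e_Cert_tree lc_e_rc_18_1 lc_e_Cert_tree lc_e_Cert_tree lc_e_rc_18_1 lc_e_Cert_tree lc_e_rc_13_3 lc_e_rc_4_3 lc_e_Cert_tree lc_e_Cert_tree lc_e_Cert_tree lc_e_rc_18_1 lc_e_rc_18_1 lc_e_Cert_tree lc_e_Cert_tree lc_e_rc_18_1 lc_e_Cert_tree lc_e_rc_18_1 lc_e_rc_4_1 lc_e_Cert_tree lc_e_rc_19_4 lc_e_rc_9_3 lc_e_rc_16_3 lc_e_rc_16_3 lc_e_rc_18_1 lc_e_rc_13_1 lc_e_rc_18_1 lc_e_Cert_tree lc_e_rc_16_5 lc_e_Cert_tree lc_e_rc_27_5 lc_e_rc_18_1 lc_e_rc_18_1 lc_e_rc_27_5 lc_e_Cert_tree lc_e_rc_9_3 lc_e_rc_18_1 lc_e_rc_27_1 lc_e_rc_27_1 lc_e_rc_9_3 lc_e_Cert_tree lc_e_rc_27_5 lc_e_rc_18_1 lc_e_rc_9_3 lc_e_rc_27_7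 lc_e_rc_18_1 lc_e_rc_18_1 lc_e_rc_18_1 lc_e_rc_4_3 lc_e_rc_27_5 lc_e_Cert_tree lc_e_rc_9_1 lc_e_rc_16_5 lc_e_Cert_tree lc_e_Cert_tree lc_e_Cert_tree lc_e_rc_13_3 lc_e_Cert_tree) (@D3.rec (fun _ => (Cert rels S Gen.e)) lc_e_Cert_tree lc_e_rc_18_1 lc_e_Cert_tree lc_e_rc_13_1 lc_e_Cert_tree lc_e_Cert_tree lc_e_rc_18_1 lc_e_Cert_tree lc_e_rc_18_1 lc_e_Cert_tree lc_e_Cert_tree lc_e_rc_9_3 lc_e_Cert_tree lc_e_Cert_tree lc_e_rc_18_1 lc_e_Cert_tree lc_e_rc_18_1 lc_e_Cert_tree lc_e_rc_13_3 lc_e_Cert_tree lc_e_Cert_tree lc_e_rc_18_1 lc_e_Cert_tree lc_e_rc_18_1 lc_e_Cert_tree lc_e_Cert_tree lc_e_rc_9_3 lc_e_Cert_tree lc_e_Cert_tree lc_e_rc_18_1 lc_e_Cert_tree lc_e_rc_18_1 lc_e_Cert_tree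 lc_e_rc_18_1 lc_e_Cert_tree lc_e_rc_18_1 lc_e_Cert_tree lc_e_rc_18_1 lc_e_Cert_tree lc_e_rc_9_3 lc_e_Cert_tree lc_e_Cert_tree lc_e_rc_18_1 lc_e_Cert_tree lc_e_Cert_tree lc_e_rc_18_1 lc_e_rc_18_1 lc_e_rc_27_1 lc_e_Cert_tree lc_e_Cert_tree lc_e_Cert_tree lc_e_rc_18_1 lc_e_rc_16_1 lc_e_rc_27_1 lc_e_Cert_tree lc_e_rc_18_1 lc_e_Cert_tree lc_e_Cert_tree lc_e_Cert_tree lc_e_Cert_tree lc_e_rc_18_1 lc_e_rc_18_1) (@D3.rec (fun _ => (Cert rels S Gen.e)) lc_e_rc_16_1 lc_e_rc_19_2 lc_e_rc_13_3 lc_e_Cert_tree lc_e_rc_18_1 lc_e_Cert_tree lc_e_Cert_tree lc_e_rc_18_1 lc_e_rc_4_3 lc_e_Cert_tree lc_e_rc_18_1 lc_e_Cert_tree lc_e_Cert_tree lc_e_rc_18_1 lc_e_rc_16_5 lc_e_rc_27_1 lc_e_rc_18_1 lc_e_Cert_tree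 lc_e_rc_19_2 lc_e_Cert_tree lc_e_rc_18_1 lc_e_rc_18_1 lc_e_Cert_tree lc_e_rc_9_3 lc_e_rc_19_4 lc_e_Cert_tree lc_e_rc_18_1 lc_e_Cert_tree lc_e_Cert_tree lc_e_rc_18_1 lc_e_Cert_tree lc_e_rc_27_5 lc_e_rc_9_1 lc_e_rc_19_4 lc_e_Cert_tree lc_e_Cert_tree lc_e_rc_18_1 lc_e_Cert_tree lc_e_Cert_tree lc_e_rc_18_1 lc_e_Cert_tree lc_e_Cert_tree lc_e_rc_4_3 lc_e_rc_16_3 lc_e_rc_19_2 lc_e_Cert_tree lc_e_Cert_tree lc_e_Cert_tree lc_e_rc_18_1 lc_e_Cert_tree lc_e_rc_18_1 lc_e_Cert_tree lc_e_rc_18_1 lc_e_rc_18_1 lc_e_Cert_tree lc_e_rc_16_1 lc_e_rc_19_4 lc_e_rc_27_5 lc_e_rc_27_1 lc_e_rc_16_3 lc_e_rc_18_1 lc_e_rc_18_1) (@D3.rec (fun _ => (Cert rels S Gen.e)) lc_e_Cert_tree lc_e_rc_18_1 lc_e_Cert_tree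 lc_e_Cert_tree lc_e_rc_18_1 lc_e_Cert_tree lc_e_rc_27_5 lc_e_rc_19_4 lc_e_rc_18_1 lc_e_rc_9_3 lc_e_Cert_tree lc_e_Cert_tree lc_e_Cert_tree lc_e_Cert_tree lc_e_Cert_tree lc_e_rc_18_1 lc_e_rc_4_1 lc_e_Cert_tree lc_e_Cert_tree lc_e_rc_27_5 lc_e_rc_18_1 lc_e_rc_16_5 lc_e_rc_18_1 lc_e_rc_18_1 lc_e_Cert_tree lc_e_rc_27_5 lc_e_rc_13_1 lc_e_rc_19_4 lc_e_Cert_tree lc_e_rc_27_5 lc_e_rc_18_1 lc_e_rc_9_1 lc_e_rc_27_5 lc_e_rc_9_1 lc_e_rc_4_3 lc_e_Cert_tree lc_e_rc_18_1 lc_e_rc_16_3 lc_e_rc_19_4 lc_e_Cert_tree lc_e_rc_18_1 lc_e_rc_13_3 lc_e_rc_18_1 lc_e_rc_18_1 lc_e_rc_16_3 lc_e_rc_27_7 lc_e_Cert_tree lc_e_Cert_tree lc_e_rc_18_1 lc_e_rc_27_5 lc_e_rc_9_3 lc_e_rc_27_1 lc_e_rc_18_1 lc_e_rc_4_1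 lc_e_Cert_tree lc_e_Cert_tree lc_e_rc_18_1 lc_e_rc_19_0 lc_e_rc_19_0 lc_e_Cert_tree lc_e_rc_18_1 lc_e_rc_18_1) (@D3.rec (fun _ => (Cert rels S Gen.e)) lc_e_rc_13_3 lc_e_Cert_tree lc_e_rc_18_1 lc_e_rc_27_7 lc_e_rc_9_3 lc_e_Cert_tree lc_e_rc_18_1 lc_e_rc_27_7 lc_e_Cert_tree lc_e_rc_19_4 lc_e_Cert_tree lc_e_Cert_tree lc_e_rc_18_1 lc_e_Cert_tree lc_e_rc_18_1 lc_e_rc_13_3 lc_e_rc_4_1 lc_e_Cert_tree lc_e_Cert_tree lc_e_rc_18_1 lc_e_Cert_tree lc_e_rc_18_1 lc_e_Cert_tree lc_e_rc_18_1 lc_e_rc_4_3 lc_e_rc_16_1 lc_e_Cert_tree lc_e_rc_18_1 lc_e_Cert_tree lc_e_rc_18_1 lc_e_Cert_tree lc_e_rc_4_3 lc_e_rc_18_1 lc_e_rc_16_3 lc_e_rc_13_1 lc_e_Cert_tree lc_e_Cert_tree lc_e_rc_18_1 lc_e_Cert_tree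 lc_e_rc_16_3 lc_e_Cert_tree lc_e_Cert_tree lc_e_rc_18_1 lc_e_rc_18_1 lc_e_rc_13_3 lc_e_rc_16_3 lc_e_rc_27_7 lc_e_rc_27_5 lc_e_Cert_tree lc_e_rc_18_1 lc_e_rc_16_3 lc_e_rc_19_4 lc_e_rc_9_1 lc_e_rc_27_7 lc_e_rc_18_1 lc_e_Cert_tree lc_e_rc_18_1 lc_e_rc_18_1 lc_e_Cert_tree lc_e_Cert_tree lc_e_rc_16_3 lc_e_rc_13_3) (@D3.rec (fun _ => (Cert rels S Gen.e)) lc_e_Cert_tree lc_e_Cert_tree lc_e_rc_16_1 lc_e_rc_19_4 lc_e_rc_9_3 lc_e_Cert_tree lc_e_Cert_tree lc_e_Cert_tree lc_e_Cert_tree lc_e_rc_13_3 lc_e_Cert_tree lc_e_Cert_tree lc_e_rc_18_1 lc_e_Cert_tree lc_e_rc_18_1 lc_e_rc_16_1 lc_e_rc_9_1 lc_e_rc_18_1 lc_e_rc_13_1 lc_e_rc_18_1 lc_e_rc_16_1 lc_e_Cert_tree lc_e_Cert_tree lc_e_rc_18_1 lc_e_rc_13_3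 lc_e_rc_13_1 lc_e_rc_16_1 lc_e_rc_19_4 lc_e_Cert_tree lc_e_rc_4_1 lc_e_rc_18_1 lc_e_Cert_tree lc_e_Cert_tree lc_e_rc_13_3 lc_e_rc_27_5 lc_e_Cert_tree lc_e_rc_18_1 lc_e_Cert_tree lc_e_Cert_tree lc_e_rc_9_1 lc_e_Cert_tree lc_e_rc_18_1 lc_e_Cert_tree lc_e_Cert_tree lc_e_rc_16_1 lc_e_rc_19_2 lc_e_rc_18_1 lc_e_Cert_tree lc_e_Cert_tree lc_e_rc_13_3 lc_e_Cert_tree lc_e_rc_16_3 lc_e_rc_13_3 lc_e_Cert_tree lc_e_Cert_tree lc_e_rc_18_1 lc_e_Cert_tree lc_e_Cert_tree lc_e_rc_18_1 lc_e_rc_16_1 lc_e_rc_18_1 lc_e_rc_16_1) (@D3.rec (fun _ => (Cert rels S Gen.e)) lc_e_Cert_tree lc_e_rc_13_3 lc_e_rc_18_1 lc_e_Cert_tree lc_e_rc_16_1 lc_e_rc_19_2 lc_e_Cert_tree lc_e_rc_16_3 lc_e_rc_13_3 lc_e_Cert_tree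 lc_e_Cert_tree lc_e_Cert_tree lc_e_rc_18_1 lc_e_Cert_tree lc_e_rc_18_1 lc_e_rc_13_3 lc_e_Cert_tree lc_e_rc_18_1 lc_e_rc_16_5 lc_e_rc_4_1 lc_e_rc_4_3 lc_e_rc_18_1 lc_e_Cert_tree lc_e_Cert_tree lc_e_Cert_tree lc_e_Cert_tree lc_e_rc_18_1 lc_e_rc_4_3 lc_e_rc_16_3 lc_e_rc_9_3 lc_e_rc_16_5 lc_e_Cert_tree lc_e_rc_18_1 lc_e_Cert_tree lc_e_Cert_tree lc_e_rc_18_1 lc_e_rc_16_5 lc_e_rc_18_1 lc_e_rc_19_2 lc_e_Cert_tree lc_e_Cert_tree lc_e_rc_18_1 lc_e_Cert_tree lc_e_Cert_tree lc_e_rc_18_1 lc_e_Cert_tree lc_e_Cert_tree lc_e_rc_18_1 lc_e_Cert_tree lc_e_Cert_tree lc_e_rc_4_3 lc_e_rc_16_1 lc_e_rc_13_3 lc_e_rc_18_1 lc_e_Cert_tree lc_e_Cert_tree lc_e_rc_27_1 lc_e_rc_18_1 lc_e_rc_9_1 lc_e_rc_9_3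 lc_e_Cert_tree lc_e_rc_18_1)
def ce_e_5 : D2 → D3 → (Cert rels S Gen.e) := @D2.rec (fun _ => D3 → (Cert rels S Gen.e)) (@D3.rec (fun _ => (Cert rels S Gen.e)) lc_e_Cert_tree lc_e_Cert_tree lc_e_rc_16_3 lc_e_rc_9_3 lc_e_rc_27_7 lc_e_Cert_tree lc_e_Cert_tree lc_e_rc_13_3 lc_e_rc_13_3 lc_e_Cert_tree lc_e_Cert_tree lc_e_rc_19_2 lc_e_rc_18_1 lc_e_rc_27_5 lc_e_rc_16_5 lc_e_rc_18_1 lc_e_rc_19_2 lc_e_rc_4_3 lc_e_rc_27_5 lc_e_Cert_tree lc_e_rc_13_1 lc_e_rc_18_1 lc_e_Cert_tree lc_e_rc_13_3 lc_e_rc_18_1 lc_e_Cert_tree lc_e_rc_18_1 lc_e_rc_9_3 lc_e_Cert_tree lc_e_rc_27_7 lc_e_rc_27_5 lc_e_rc_18_1 lc_e_Cert_tree lc_e_rc_18_1 lc_e_rc_9_1 lc_e_Cert_tree lc_e_Cert_tree lc_e_Cert_tree lc_e_Cert_tree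 lc_e_rc_9_3 lc_e_Cert_tree lc_e_rc_13_3 lc_e_Cert_tree lc_e_rc_9_3 lc_e_Cert_tree lc_e_rc_9_1 lc_e_rc_18_1 lc_e_Cert_tree lc_e_rc_18_1 lc_e_Cert_tree lc_e_rc_18_1 lc_e_Cert_tree lc_e_Cert_tree lc_e_rc_9_3 lc_e_Cert_tree lc_e_Cert_tree lc_e_rc_18_1 lc_e_rc_16_3 lc_e_Cert_tree lc_e_Cert_tree lc_e_Cert_tree lc_e_rc_18_1) (@D3.rec (fun _ => (Cert rels S Gen.e)) lc_e_rc_18_1 lc_e_Cert_tree lc_e_rc_18_1 lc_e_Cert_tree lc_e_rc_18_1 lc_e_Cert_tree lc_e_rc_18_1 lc_e_Cert_tree lc_e_Cert_tree lc_e_Cert_tree lc_e_Cert_tree lc_e_rc_18_1 lc_e_rc_27_5 lc_e_Cert_tree lc_e_rc_16_3 lc_e_Cert_tree lc_e_Cert_tree lc_e_rc_27_1 lc_e_rc_18_1 lc_e_rc_27_7 lc_e_rc_16_1 lc_e_Cert_tree lc_e_rc_18_1 lc_e_rc_16_1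 lc_e_rc_13_3 lc_e_Cert_tree lc_e_rc_18_1 lc_e_Cert_tree lc_e_rc_16_1 lc_e_rc_27_1 lc_e_rc_13_3 lc_e_rc_16_5 lc_e_rc_18_1 lc_e_Cert_tree lc_e_Cert_tree lc_e_Cert_tree lc_e_rc_18_1 lc_e_rc_18_1 lc_e_Cert_tree lc_e_rc_19_4 lc_e_rc_18_1 lc_e_Cert_tree lc_e_Cert_tree lc_e_rc_18_1 lc_e_Cert_tree lc_e_rc_27_5 lc_e_rc_19_4 lc_e_Cert_tree lc_e_Cert_tree lc_e_rc_18_1 lc_e_Cert_tree lc_e_Cert_tree lc_e_rc_18_1 lc_e_Cert_tree lc_e_Cert_tree lc_e_rc_4_3 lc_e_Cert_tree lc_e_Cert_tree lc_e_Cert_tree lc_e_Cert_tree lc_e_Cert_tree lc_e_rc_18_1) (@D3.rec (fun _ => (Cert rels S Gen.e)) lc_e_Cert_tree lc_e_rc_18_1 lc_e_Cert_tree lc_e_rc_9_3 lc_e_Cert_tree lc_e_rc_18_1 lc_e_rc_16_5 lc_e_Cert_tree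 lc_e_rc_18_1 lc_e_Cert_tree lc_e_Cert_tree lc_e_Cert_tree lc_e_Cert_tree lc_e_rc_18_1 lc_e_rc_27_5 lc_e_Cert_tree lc_e_rc_19_4 lc_e_Cert_tree lc_e_rc_18_1 lc_e_Cert_tree lc_e_Cert_tree lc_e_rc_18_1 lc_e_rc_18_1 lc_e_rc_27_1 lc_e_rc_27_5 lc_e_Cert_tree lc_e_rc_27_7 lc_e_rc_18_1 lc_e_Cert_tree lc_e_Cert_tree lc_e_rc_18_1 lc_e_rc_9_3 lc_e_Cert_tree lc_e_Cert_tree lc_e_Cert_tree lc_e_Cert_tree lc_e_Cert_tree lc_e_rc_18_1 lc_e_rc_18_1 lc_e_rc_13_3 lc_e_Cert_tree lc_e_rc_19_4 lc_e_rc_9_3 lc_e_rc_13_3 lc_e_Cert_tree lc_e_rc_18_1 lc_e_Cert_tree lc_e_rc_18_1 lc_e_Cert_tree lc_e_rc_18_1 lc_e_rc_27_7 lc_e_Cert_tree lc_e_rc_18_1 lc_e_Cert_tree lc_e_rc_18_1 lc_e_Cert_tree lc_e_Cert_tree lc_e_Cert_tree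 lc_e_Cert_tree lc_e_rc_18_1 lc_e_rc_9_3 lc_e_rc_16_1) (@D3.rec (fun _ => (Cert rels S Gen.e)) lc_e_rc_19_4 lc_e_rc_13_3 lc_e_rc_13_3 lc_e_rc_13_3 lc_e_Cert_tree lc_e_Cert_tree lc_e_Cert_tree lc_e_Cert_tree lc_e_rc_18_1 lc_e_rc_18_1 lc_e_rc_4_3 lc_e_rc_16_1 lc_e_rc_19_4 lc_e_rc_13_3 lc_e_rc_18_1 lc_e_rc_16_3 lc_e_rc_13_3 lc_e_Cert_tree lc_e_Cert_tree lc_e_Cert_tree lc_e_rc_18_1 lc_e_Cert_tree lc_e_Cert_tree lc_e_rc_19_4 lc_e_Cert_tree lc_e_rc_16_3 lc_e_Cert_tree lc_e_rc_13_3 lc_e_rc_18_1 lc_e_Cert_tree lc_e_Cert_tree lc_e_rc_18_1 lc_e_rc_13_1 lc_e_rc_4_3 lc_e_rc_16_1 lc_e_rc_19_4 lc_e_rc_9_3 lc_e_rc_13_3 lc_e_rc_16_3 lc_e_Cert_tree lc_e_rc_27_5 lc_e_rc_18_1 lc_e_Cert_tree lc_e_rc_18_1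 lc_e_Cert_tree lc_e_Cert_tree lc_e_Cert_tree lc_e_rc_18_1 lc_e_Cert_tree lc_e_rc_27_5 lc_e_rc_16_5 lc_e_rc_16_3 lc_e_Cert_tree lc_e_Cert_tree lc_e_Cert_tree lc_e_rc_18_1 lc_e_rc_18_1 lc_e_Cert_tree lc_e_rc_13_3 lc_e_rc_19_4 lc_e_Cert_tree lc_e_rc_18_1) (@D3.rec (fun _ => (Cert rels S Gen.e)) lc_e_rc_18_1 lc_e_rc_18_1 lc_e_rc_16_3 lc_e_Cert_tree lc_e_rc_13_1 lc_e_rc_13_3 lc_e_rc_18_1 lc_e_Cert_tree lc_e_Cert_tree lc_e_rc_18_1 lc_e_rc_16_1 lc_e_rc_19_4 lc_e_rc_16_5 lc_e_Cert_tree lc_e_Cert_tree lc_e_Cert_tree lc_e_Cert_tree lc_e_rc_18_1 lc_e_rc_18_1 lc_e_rc_16_1 lc_e_rc_19_4 lc_e_Cert_tree lc_e_Cert_tree lc_e_Cert_tree lc_e_Cert_tree lc_e_Cert_tree lc_e_rc_18_1 lc_e_Cert_tree lc_e_Cert_tree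 lc_e_Cert_tree lc_e_Cert_tree lc_e_rc_18_1 lc_e_Cert_tree lc_e_Cert_tree lc_e_Cert_tree lc_e_rc_19_4 lc_e_rc_18_1 lc_e_rc_18_1 lc_e_rc_18_1 lc_e_Cert_tree lc_e_rc_18_1 lc_e_Cert_tree lc_e_Cert_tree lc_e_rc_19_4 lc_e_rc_13_3 lc_e_rc_16_1 lc_e_rc_16_3 lc_e_rc_13_3 lc_e_rc_27_5 lc_e_Cert_tree lc_e_rc_9_3 lc_e_Cert_tree lc_e_rc_18_1 lc_e_Cert_tree lc_e_rc_18_1 lc_e_Cert_tree lc_e_Cert_tree lc_e_rc_18_1 lc_e_Cert_tree lc_e_rc_13_3 lc_e_Cert_tree lc_e_Cert_tree) (@D3.rec (fun _ => (Cert rels S Gen.e)) lc_e_rc_18_1 lc_e_rc_9_3 lc_e_Cert_tree lc_e_rc_19_4 lc_e_Cert_tree lc_e_rc_9_3 lc_e_Cert_tree lc_e_rc_9_3 lc_e_Cert_tree lc_e_rc_13_3 lc_e_Cert_tree lc_e_Cert_tree lc_e_rc_13_1 lc_e_rc_4_3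 lc_e_Cert_tree lc_e_Cert_tree lc_e_rc_18_1 lc_e_Cert_tree lc_e_Cert_tree lc_e_rc_18_1 lc_e_Cert_tree lc_e_rc_18_1 lc_e_Cert_tree lc_e_Cert_tree lc_e_Cert_tree lc_e_Cert_tree lc_e_rc_18_1 lc_e_rc_27_5 lc_e_Cert_tree lc_e_rc_19_4 lc_e_Cert_tree lc_e_rc_18_1 lc_e_Cert_tree lc_e_rc_18_1 lc_e_rc_18_1 lc_e_rc_16_3 lc_e_rc_16_5 lc_e_rc_4_1 lc_e_rc_13_3 lc_e_rc_9_3 lc_e_Cert_tree lc_e_Cert_tree lc_e_Cert_tree lc_e_rc_18_1 lc_e_rc_16_1 lc_e_rc_19_4 lc_e_rc_9_3 lc_e_rc_13_1 lc_e_Cert_tree lc_e_Cert_tree lc_e_rc_18_1 lc_e_rc_18_1 lc_e_rc_9_1 lc_e_rc_18_1 lc_e_rc_18_1 lc_e_rc_9_1 lc_e_rc_18_1 lc_e_Cert_tree lc_e_Cert_tree lc_e_rc_18_1 lc_e_Cert_tree lc_e_rc_18_1) (@D3.rec (fun _ => (Cert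 rels S Gen.e)) lc_e_Cert_tree lc_e_Cert_tree lc_e_rc_19_4 lc_e_rc_16_5 lc_e_rc_13_3 lc_e_Cert_tree lc_e_Cert_tree lc_e_rc_18_1 lc_e_rc_27_5 lc_e_Cert_tree lc_e_Cert_tree lc_e_Cert_tree lc_e_rc_18_1 lc_e_rc_19_0 lc_e_rc_16_1 lc_e_rc_19_4 lc_e_rc_13_3 lc_e_Cert_tree lc_e_Cert_tree lc_e_Cert_tree lc_e_rc_18_1 lc_e_rc_19_4 lc_e_rc_16_3 lc_e_rc_13_3 lc_e_rc_18_1 lc_e_rc_18_1 lc_e_rc_13_3 lc_e_rc_9_3 lc_e_Cert_tree lc_e_rc_18_1 lc_e_Cert_tree lc_e_rc_18_1 lc_e_rc_13_3 lc_e_Cert_tree lc_e_rc_4_3 lc_e_rc_18_1 lc_e_Cert_tree lc_e_Cert_tree lc_e_rc_19_4 lc_e_Cert_tree lc_e_Cert_tree lc_e_rc_18_1 lc_e_Cert_tree lc_e_rc_18_1 lc_e_Cert_tree lc_e_Cert_tree lc_e_Cert_tree lc_e_rc_18_1 lc_e_rc_4_1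 lc_e_Cert_tree lc_e_rc_18_1 lc_e_rc_16_1 lc_e_rc_18_1 lc_e_Cert_tree lc_e_rc_18_1 lc_e_Cert_tree lc_e_rc_19_4 lc_e_rc_18_1 lc_e_rc_27_5 lc_e_rc_16_3 lc_e_rc_19_0 lc_e_rc_18_1) (@D3.rec (fun _ => (Cert rels S Gen.e)) lc_e_rc_16_1 lc_e_rc_19_4 lc_e_rc_13_3 lc_e_Cert_tree lc_e_Cert_tree lc_e_Cert_tree lc_e_rc_18_1 lc_e_rc_18_1 lc_e_Cert_tree lc_e_rc_18_1 lc_e_Cert_tree lc_e_rc_19_4 lc_e_rc_19_0 lc_e_rc_19_0 lc_e_Cert_tree lc_e_rc_27_1 lc_e_rc_27_5 lc_e_rc_18_1 lc_e_rc_13_3 lc_e_Cert_tree lc_e_rc_27_7 lc_e_rc_13_3 lc_e_rc_4_3 lc_e_rc_18_1 lc_e_rc_27_1 lc_e_rc_16_1 lc_e_Cert_tree lc_e_rc_19_2 lc_e_rc_16_1 lc_e_rc_19_4 lc_e_Cert_tree lc_e_Cert_tree lc_e_rc_18_1 lc_e_Cert_tree lc_e_rc_18_1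 lc_e_rc_19_2 lc_e_rc_9_3 lc_e_Cert_tree lc_e_rc_18_1 lc_e_rc_19_2 lc_e_Cert_tree lc_e_rc_18_1 lc_e_Cert_tree lc_e_rc_16_1 lc_e_rc_27_1 lc_e_Cert_tree lc_e_Cert_tree lc_e_Cert_tree lc_e_rc_18_1 lc_e_Cert_tree lc_e_Cert_tree lc_e_rc_18_1 lc_e_Cert_tree lc_e_Cert_tree lc_e_rc_18_1 lc_e_Cert_tree lc_e_Cert_tree lc_e_rc_18_1 lc_e_Cert_tree lc_e_Cert_tree lc_e_rc_19_2 lc_e_Cert_tree) (@D3.rec (fun _ => (Cert rels S Gen.e)) lc_e_rc_18_1 lc_e_Cert_tree lc_e_Cert_tree lc_e_Cert_tree lc_e_Cert_tree lc_e_rc_18_1 lc_e_Cert_tree lc_e_rc_18_1 lc_e_Cert_tree lc_e_Cert_tree lc_e_rc_19_4 lc_e_Cert_tree lc_e_Cert_tree lc_e_rc_18_1 lc_e_Cert_tree lc_e_rc_4_1 lc_e_rc_19_4 lc_e_Cert_tree lc_e_Cert_tree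 lc_e_Cert_tree lc_e_rc_18_1 lc_e_Cert_tree lc_e_rc_18_1 lc_e_Cert_tree lc_e_rc_18_1 lc_e_rc_18_1 lc_e_Cert_tree lc_e_Cert_tree lc_e_Cert_tree lc_e_Cert_tree lc_e_Cert_tree lc_e_rc_18_1 lc_e_Cert_tree lc_e_rc_18_1 lc_e_rc_13_3 lc_e_Cert_tree lc_e_Cert_tree lc_e_Cert_tree lc_e_Cert_tree lc_e_rc_18_1 lc_e_rc_18_1 lc_e_Cert_tree lc_e_rc_19_4 lc_e_rc_27_1 lc_e_Cert_tree lc_e_Cert_tree lc_e_rc_18_1 lc_e_rc_16_1 lc_e_Cert_tree lc_e_Cert_tree lc_e_rc_18_1 lc_e_Cert_tree lc_e_rc_9_3 lc_e_rc_16_1 lc_e_rc_19_4 lc_e_rc_13_3 lc_e_Cert_tree lc_e_rc_18_1 lc_e_Cert_tree lc_e_Cert_tree lc_e_rc_18_1 lc_e_rc_18_1) (@D3.rec (fun _ => (Cert rels S Gen.e)) lc_e_Cert_tree lc_e_rc_19_4 lc_e_rc_18_1 lc_e_Cert_tree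 lc_e_Cert_tree lc_e_rc_18_1 lc_e_Cert_tree lc_e_rc_27_5 lc_e_rc_19_4 lc_e_Cert_tree lc_e_rc_9_3 lc_e_rc_18_1 lc_e_Cert_tree lc_e_Cert_tree lc_e_rc_18_1 lc_e_Cert_tree lc_e_Cert_tree lc_e_rc_4_3 lc_e_Cert_tree lc_e_Cert_tree lc_e_Cert_tree lc_e_Cert_tree lc_e_rc_18_1 lc_e_rc_18_1 lc_e_rc_18_1 lc_e_Cert_tree lc_e_Cert_tree lc_e_Cert_tree lc_e_rc_18_1 lc_e_Cert_tree lc_e_rc_18_1 lc_e_rc_27_7 lc_e_rc_13_1 lc_e_Cert_tree lc_e_rc_18_1 lc_e_Cert_tree lc_e_Cert_tree lc_e_rc_18_1 lc_e_Cert_tree lc_e_Cert_tree lc_e_Cert_tree lc_e_Cert_tree lc_e_rc_18_1 lc_e_rc_27_5 lc_e_Cert_tree lc_e_rc_19_4 lc_e_Cert_tree lc_e_rc_18_1 lc_e_Cert_tree lc_e_rc_18_1 lc_e_rc_18_1 lc_e_rc_27_1 lc_e_rc_27_5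 lc_e_rc_18_1 lc_e_Cert_tree lc_e_Cert_tree lc_e_Cert_tree lc_e_Cert_tree lc_e_rc_18_1 lc_e_rc_18_1 lc_e_rc_19_4 lc_e_rc_9_3) (@D3.rec (fun _ => (Cert rels S Gen.e)) lc_e_rc_13_3 lc_e_Cert_tree lc_e_rc_18_1 lc_e_rc_27_7 lc_e_rc_13_3 lc_e_Cert_tree lc_e_rc_18_1 lc_e_Cert_tree lc_e_Cert_tree lc_e_Cert_tree lc_e_Cert_tree lc_e_rc_18_1 lc_e_rc_4_3 lc_e_rc_16_1 lc_e_rc_19_4 lc_e_rc_13_3 lc_e_Cert_tree lc_e_Cert_tree lc_e_Cert_tree lc_e_Cert_tree lc_e_rc_18_1 lc_e_rc_18_1 lc_e_rc_19_4 lc_e_rc_13_3 lc_e_rc_18_1 lc_e_rc_16_3 lc_e_rc_13_3 lc_e_rc_9_3 lc_e_Cert_tree lc_e_rc_18_1 lc_e_Cert_tree lc_e_Cert_tree lc_e_Cert_tree lc_e_rc_18_1 lc_e_rc_18_1 lc_e_Cert_tree lc_e_rc_16_5 lc_e_Cert_tree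 lc_e_rc_16_3 lc_e_Cert_tree lc_e_rc_13_3 lc_e_rc_18_1 lc_e_rc_18_1 lc_e_rc_13_1 lc_e_rc_16_5 lc_e_rc_16_1 lc_e_rc_13_3 lc_e_rc_9_3 lc_e_rc_13_3 lc_e_rc_16_3 lc_e_Cert_tree lc_e_rc_18_1 lc_e_Cert_tree lc_e_Cert_tree lc_e_Cert_tree lc_e_rc_18_1 lc_e_Cert_tree lc_e_rc_27_5 lc_e_rc_19_4 lc_e_rc_16_3 lc_e_Cert_tree lc_e_Cert_tree) (@D3.rec (fun _ => (Cert rels S Gen.e)) lc_e_Cert_tree lc_e_rc_18_1 lc_e_rc_18_1 lc_e_rc_16_3 lc_e_rc_13_3 lc_e_rc_19_4 lc_e_Cert_tree lc_e_rc_18_1 lc_e_rc_18_1 lc_e_rc_18_1 lc_e_Cert_tree lc_e_rc_16_1 lc_e_Cert_tree lc_e_Cert_tree lc_e_rc_4_3 lc_e_rc_18_1 lc_e_rc_18_1 lc_e_rc_16_1 lc_e_rc_19_4 lc_e_rc_16_3 lc_e_Cert_tree lc_e_Cert_tree lc_e_Cert_tree lc_e_rc_13_3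 lc_e_rc_18_1 lc_e_rc_18_1 lc_e_rc_16_1 lc_e_rc_19_4 lc_e_Cert_tree lc_e_Cert_tree lc_e_Cert_tree lc_e_Cert_tree lc_e_Cert_tree lc_e_rc_18_1 lc_e_Cert_tree lc_e_Cert_tree lc_e_Cert_tree lc_e_Cert_tree lc_e_rc_18_1 lc_e_Cert_tree lc_e_Cert_tree lc_e_Cert_tree lc_e_Cert_tree lc_e_rc_18_1 lc_e_rc_18_1 lc_e_Cert_tree lc_e_rc_18_1 lc_e_Cert_tree lc_e_rc_18_1 lc_e_Cert_tree lc_e_Cert_tree lc_e_rc_13_1 lc_e_rc_18_1 lc_e_rc_16_1 lc_e_Cert_tree lc_e_rc_27_7 lc_e_rc_27_5 lc_e_rc_18_1 lc_e_Cert_tree lc_e_Cert_tree lc_e_rc_18_1 lc_e_rc_18_1) (@D3.rec (fun _ => (Cert rels S Gen.e)) lc_e_rc_18_1 lc_e_Cert_tree lc_e_rc_13_1 lc_e_Cert_tree lc_e_Cert_tree lc_e_rc_18_1 lc_e_rc_27_5 lc_e_Cert_tree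 lc_e_rc_19_4 lc_e_rc_27_1 lc_e_rc_18_1 lc_e_rc_18_1 lc_e_rc_16_3 lc_e_rc_16_5 lc_e_rc_4_1 lc_e_rc_13_3 lc_e_Cert_tree lc_e_Cert_tree lc_e_Cert_tree lc_e_rc_18_1 lc_e_rc_16_1 lc_e_rc_19_4 lc_e_rc_9_3 lc_e_Cert_tree lc_e_rc_18_1 lc_e_rc_27_1 lc_e_rc_18_1 lc_e_rc_13_3 lc_e_rc_18_1 lc_e_rc_9_3 lc_e_rc_18_1 lc_e_Cert_tree lc_e_Cert_tree lc_e_rc_19_4 lc_e_rc_27_7 lc_e_Cert_tree lc_e_Cert_tree lc_e_rc_18_1 lc_e_rc_16_1 lc_e_rc_13_3 lc_e_Cert_tree lc_e_Cert_tree lc_e_rc_18_1 lc_e_rc_13_3 lc_e_Cert_tree lc_e_Cert_tree lc_e_rc_18_1 lc_e_Cert_tree lc_e_rc_9_3 lc_e_rc_16_1 lc_e_rc_19_4 lc_e_rc_13_3 lc_e_Cert_tree lc_e_Cert_tree lc_e_Cert_tree lc_e_rc_18_1 lc_e_rc_9_1 lc_e_rc_18_1 lc_e_Cert_tree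 lc_e_Cert_tree lc_e_Cert_tree lc_e_Cert_tree) (@D3.rec (fun _ => (Cert rels S Gen.e)) lc_e_Cert_tree lc_e_rc_18_1 lc_e_Cert_tree lc_e_rc_16_5 lc_e_rc_13_3 lc_e_Cert_tree lc_e_rc_18_1 lc_e_Cert_tree lc_e_Cert_tree lc_e_rc_16_5 lc_e_rc_9_3 lc_e_rc_18_1 lc_e_rc_19_4 lc_e_rc_16_1 lc_e_rc_19_4 lc_e_rc_13_3 lc_e_Cert_tree lc_e_Cert_tree lc_e_Cert_tree lc_e_rc_18_1 lc_e_rc_16_3 lc_e_rc_19_4 lc_e_rc_16_3 lc_e_rc_18_1 lc_e_rc_18_1 lc_e_rc_13_3 lc_e_rc_9_3 lc_e_rc_13_3 lc_e_Cert_tree lc_e_rc_18_1 lc_e_Cert_tree lc_e_Cert_tree lc_e_rc_19_4 lc_e_rc_18_1 lc_e_rc_18_1 lc_e_Cert_tree lc_e_rc_19_4 lc_e_rc_9_3 lc_e_rc_13_3 lc_e_rc_4_1 lc_e_Cert_tree lc_e_rc_18_1 lc_e_Cert_tree lc_e_rc_18_1 lc_e_rc_16_1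 lc_e_Cert_tree lc_e_Cert_tree lc_e_rc_18_1 lc_e_rc_16_1 lc_e_Cert_tree lc_e_rc_16_1 lc_e_rc_19_4 lc_e_rc_13_1 lc_e_rc_18_1 lc_e_Cert_tree lc_e_rc_4_3 lc_e_rc_4_3 lc_e_rc_16_1 lc_e_rc_4_1 lc_e_Cert_tree lc_e_rc_18_1 lc_e_Cert_tree) (@D3.rec (fun _ => (Cert rels S Gen.e)) lc_e_rc_18_1 lc_e_rc_4_3 lc_e_Cert_tree lc_e_Cert_tree lc_e_rc_18_1 lc_e_rc_4_3 lc_e_rc_4_3 lc_e_Cert_tree lc_e_rc_19_4 lc_e_rc_19_4 lc_e_rc_19_2 lc_e_Cert_tree lc_e_rc_16_3 lc_e_rc_18_1 lc_e_Cert_tree lc_e_Cert_tree lc_e_rc_19_4 lc_e_rc_18_1 lc_e_Cert_tree lc_e_rc_18_1 lc_e_rc_16_1 lc_e_rc_19_4 lc_e_rc_9_3 lc_e_rc_4_3 lc_e_rc_9_3 lc_e_Cert_tree lc_e_rc_18_1 lc_e_rc_13_1 lc_e_rc_18_1 lc_e_rc_4_3 lc_e_rc_18_1 lc_e_Cert_tree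 lc_e_Cert_tree lc_e_rc_18_1 lc_e_Cert_tree lc_e_Cert_tree lc_e_rc_19_4 lc_e_Cert_tree lc_e_Cert_tree lc_e_rc_18_1 lc_e_Cert_tree lc_e_Cert_tree lc_e_rc_19_4 lc_e_Cert_tree lc_e_Cert_tree lc_e_Cert_tree lc_e_rc_18_1 lc_e_rc_19_4 lc_e_rc_18_1 lc_e_Cert_tree lc_e_rc_18_1 lc_e_rc_18_1 lc_e_Cert_tree lc_e_Cert_tree lc_e_rc_13_3 lc_e_rc_9_3 lc_e_rc_18_1 lc_e_rc_13_3 lc_e_Cert_tree lc_e_Cert_tree lc_e_rc_9_3 lc_e_Cert_tree) (@D3.rec (fun _ => (Cert rels S Gen.e)) lc_e_Cert_tree lc_e_rc_18_1 lc_e_Cert_tree lc_e_rc_18_1 lc_e_Cert_tree lc_e_rc_18_1 lc_e_Cert_tree lc_e_rc_9_3 lc_e_Cert_tree lc_e_Cert_tree lc_e_rc_18_1 lc_e_rc_18_1 lc_e_Cert_tree lc_e_rc_18_1 lc_e_rc_18_1 lc_e_Cert_tree lc_e_Cert_tree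 lc_e_rc_16_5 lc_e_Cert_tree lc_e_rc_18_1 lc_e_rc_27_5 lc_e_rc_16_5 lc_e_rc_18_1 lc_e_rc_16_5 lc_e_Cert_tree lc_e_rc_16_5 lc_e_rc_27_5 lc_e_rc_18_1 lc_e_rc_27_5 lc_e_rc_19_4 lc_e_Cert_tree lc_e_Cert_tree lc_e_rc_18_1 lc_e_Cert_tree lc_e_Cert_tree lc_e_rc_18_1 lc_e_rc_16_1 lc_e_Cert_tree lc_e_Cert_tree lc_e_rc_18_1 lc_e_rc_16_3 lc_e_rc_16_1 lc_e_rc_9_3 lc_e_rc_13_3 lc_e_rc_18_1 lc_e_Cert_tree lc_e_Cert_tree lc_e_Cert_tree lc_e_rc_18_1 lc_e_rc_18_1 lc_e_Cert_tree lc_e_rc_19_4 lc_e_Cert_tree lc_e_rc_18_1 lc_e_Cert_tree lc_e_Cert_tree lc_e_rc_18_1 lc_e_Cert_tree lc_e_rc_27_5 lc_e_rc_19_4 lc_e_Cert_tree lc_e_Cert_tree) (@D3.rec (fun _ => (Cert rels S Gen.e)) lc_e_rc_18_1 lc_e_Cert_tree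 lc_e_Cert_tree lc_e_rc_18_1 lc_e_Cert_tree lc_e_Cert_tree lc_e_rc_4_3 lc_e_Cert_tree lc_e_Cert_tree lc_e_rc_13_1 lc_e_Cert_tree lc_e_Cert_tree lc_e_rc_18_1 lc_e_Cert_tree lc_e_rc_18_1 lc_e_Cert_tree lc_e_rc_18_1 lc_e_Cert_tree lc_e_Cert_tree lc_e_rc_18_1 lc_e_rc_18_1 lc_e_Cert_tree lc_e_rc_19_4 lc_e_rc_9_3 lc_e_rc_27_1 lc_e_rc_18_1 lc_e_Cert_tree lc_e_Cert_tree lc_e_rc_18_1 lc_e_Cert_tree lc_e_rc_27_5 lc_e_rc_19_4 lc_e_rc_18_1 lc_e_rc_9_3 lc_e_Cert_tree lc_e_Cert_tree lc_e_Cert_tree lc_e_Cert_tree lc_e_rc_27_5 lc_e_rc_18_1 lc_e_Cert_tree lc_e_Cert_tree lc_e_Cert_tree lc_e_Cert_tree lc_e_rc_18_1 lc_e_Cert_tree lc_e_Cert_tree lc_e_rc_19_2 lc_e_Cert_tree lc_e_rc_18_1 lc_e_rc_18_1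 lc_e_Cert_tree lc_e_Cert_tree lc_e_rc_9_1 lc_e_rc_16_5 lc_e_rc_13_3 lc_e_Cert_tree lc_e_Cert_tree lc_e_rc_9_3 lc_e_Cert_tree lc_e_Cert_tree lc_e_rc_13_3) (@D3.rec (fun _ => (Cert rels S Gen.e)) lc_e_Cert_tree lc_e_rc_18_1 lc_e_Cert_tree lc_e_rc_18_1 lc_e_rc_18_1 lc_e_rc_18_1 lc_e_Cert_tree lc_e_rc_9_3 lc_e_Cert_tree lc_e_Cert_tree lc_e_rc_18_1 lc_e_rc_13_3 lc_e_Cert_tree lc_e_Cert_tree lc_e_rc_9_3 lc_e_Cert_tree lc_e_rc_18_1 lc_e_Cert_tree lc_e_rc_18_1 lc_e_Cert_tree lc_e_rc_18_1 lc_e_rc_13_3 lc_e_rc_18_1 lc_e_Cert_tree lc_e_rc_18_1 lc_e_rc_13_1 lc_e_Cert_tree lc_e_Cert_tree lc_e_rc_18_1 lc_e_Cert_tree lc_e_rc_18_1 lc_e_Cert_tree lc_e_Cert_tree lc_e_Cert_tree lc_e_Cert_tree lc_e_rc_18_1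 lc_e_rc_27_5 lc_e_rc_19_2 lc_e_Cert_tree lc_e_Cert_tree lc_e_rc_18_1 lc_e_rc_16_1 lc_e_Cert_tree lc_e_Cert_tree lc_e_rc_18_1 lc_e_rc_16_5 lc_e_rc_16_1 lc_e_rc_19_4 lc_e_rc_13_3 lc_e_Cert_tree lc_e_Cert_tree lc_e_rc_16_3 lc_e_rc_18_1 lc_e_rc_18_1 lc_e_Cert_tree lc_e_rc_19_4 lc_e_rc_18_1 lc_e_Cert_tree lc_e_Cert_tree lc_e_rc_18_1 lc_e_Cert_tree lc_e_rc_27_5) (@D3.rec (fun _ => (Cert rels S Gen.e)) lc_e_rc_19_4 lc_e_Cert_tree lc_e_rc_13_1 lc_e_rc_18_1 lc_e_rc_19_4 lc_e_rc_19_4 lc_e_rc_18_1 lc_e_Cert_tree lc_e_Cert_tree lc_e_rc_4_3 lc_e_Cert_tree lc_e_Cert_tree lc_e_Cert_tree lc_e_Cert_tree lc_e_Cert_tree lc_e_rc_18_1 lc_e_Cert_tree lc_e_rc_18_1 lc_e_Cert_tree lc_e_rc_18_1 lc_e_Cert_tree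 lc_e_Cert_tree lc_e_rc_18_1 lc_e_rc_27_5 lc_e_rc_27_5 lc_e_rc_19_4 lc_e_rc_9_3 lc_e_rc_27_1 lc_e_rc_18_1 lc_e_rc_13_3 lc_e_Cert_tree lc_e_Cert_tree lc_e_rc_18_1 lc_e_rc_13_3 lc_e_rc_27_5 lc_e_rc_19_4 lc_e_rc_18_1 lc_e_rc_9_3 lc_e_Cert_tree lc_e_Cert_tree lc_e_Cert_tree lc_e_Cert_tree lc_e_Cert_tree lc_e_rc_18_1 lc_e_Cert_tree lc_e_Cert_tree lc_e_Cert_tree lc_e_Cert_tree lc_e_rc_18_1 lc_e_Cert_tree lc_e_Cert_tree lc_e_Cert_tree lc_e_Cert_tree lc_e_rc_18_1 lc_e_rc_18_1 lc_e_Cert_tree lc_e_Cert_tree lc_e_rc_18_1 lc_e_rc_16_3 lc_e_rc_27_5 lc_e_Cert_tree lc_e_Cert_tree) (@D3.rec (fun _ => (Cert rels S Gen.e)) lc_e_rc_18_1 lc_e_Cert_tree lc_e_rc_18_1 lc_e_rc_13_1 lc_e_rc_18_1 lc_e_rc_18_1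 lc_e_rc_9_3 lc_e_rc_18_1 lc_e_Cert_tree lc_e_rc_18_1 lc_e_rc_18_1 lc_e_rc_18_1 lc_e_rc_9_3 lc_e_Cert_tree lc_e_rc_18_1 lc_e_Cert_tree lc_e_Cert_tree lc_e_rc_18_1 lc_e_rc_18_1 lc_e_Cert_tree lc_e_rc_19_4 lc_e_Cert_tree lc_e_Cert_tree lc_e_rc_18_1 lc_e_rc_18_1 lc_e_Cert_tree lc_e_rc_16_3 lc_e_rc_19_4 lc_e_Cert_tree lc_e_Cert_tree lc_e_rc_18_1 lc_e_Cert_tree lc_e_Cert_tree lc_e_rc_18_1 lc_e_Cert_tree lc_e_Cert_tree lc_e_rc_4_3 lc_e_Cert_tree lc_e_Cert_tree lc_e_Cert_tree lc_e_rc_18_1 lc_e_rc_18_1 lc_e_Cert_tree lc_e_rc_18_1 lc_e_rc_18_1 lc_e_rc_9_3 lc_e_Cert_tree lc_e_rc_18_1 lc_e_Cert_tree lc_e_Cert_tree lc_e_rc_18_1 lc_e_rc_18_1 lc_e_rc_16_1 lc_e_rc_19_4 lc_e_rc_13_3 lc_e_rc_27_7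 lc_e_Cert_tree lc_e_Cert_tree lc_e_rc_18_1 lc_e_Cert_tree lc_e_rc_27_5 lc_e_rc_19_4) (@D3.rec (fun _ => (Cert rels S Gen.e)) lc_e_Cert_tree lc_e_Cert_tree lc_e_rc_18_1 lc_e_Cert_tree lc_e_Cert_tree lc_e_rc_18_1 lc_e_Cert_tree lc_e_Cert_tree lc_e_rc_4_3 lc_e_Cert_tree lc_e_Cert_tree lc_e_Cert_tree lc_e_rc_18_1 lc_e_rc_18_1 lc_e_Cert_tree lc_e_Cert_tree lc_e_rc_18_1 lc_e_Cert_tree lc_e_rc_18_1 lc_e_Cert_tree lc_e_Cert_tree lc_e_rc_9_3 lc_e_Cert_tree lc_e_Cert_tree lc_e_rc_18_1 lc_e_Cert_tree lc_e_rc_18_1 lc_e_rc_13_3 lc_e_Cert_tree lc_e_Cert_tree lc_e_rc_13_3 lc_e_Cert_tree lc_e_rc_18_1 lc_e_Cert_tree lc_e_rc_9_3 lc_e_Cert_tree lc_e_rc_18_1 lc_e_Cert_tree lc_e_Cert_tree lc_e_rc_18_1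 lc_e_Cert_tree lc_e_rc_19_4 lc_e_rc_18_1 lc_e_Cert_tree lc_e_Cert_tree lc_e_Cert_tree lc_e_rc_18_1 lc_e_Cert_tree lc_e_rc_9_3 lc_e_rc_18_1 lc_e_Cert_tree lc_e_Cert_tree lc_e_rc_18_1 lc_e_Cert_tree lc_e_rc_19_4 lc_e_Cert_tree lc_e_Cert_tree lc_e_rc_18_1 lc_e_rc_9_1 lc_e_Cert_tree lc_e_Cert_tree lc_e_rc_18_1) (@D3.rec (fun _ => (Cert rels S Gen.e)) lc_e_Cert_tree lc_e_rc_18_1 lc_e_rc_4_3 lc_e_rc_19_4 lc_e_Cert_tree lc_e_Cert_tree lc_e_Cert_tree lc_e_rc_18_1 lc_e_rc_18_1 lc_e_rc_18_1 lc_e_Cert_tree lc_e_Cert_tree lc_e_Cert_tree lc_e_rc_9_3 lc_e_Cert_tree lc_e_Cert_tree lc_e_rc_9_3 lc_e_Cert_tree lc_e_rc_13_3 lc_e_Cert_tree lc_e_rc_18_1 lc_e_Cert_tree lc_e_rc_18_1 lc_e_rc_9_3 lc_e_Cert_tree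 lc_e_rc_18_1 lc_e_Cert_tree lc_e_rc_18_1 lc_e_Cert_tree lc_e_rc_18_1 lc_e_rc_13_3 lc_e_Cert_tree lc_e_rc_27_7 lc_e_rc_9_1 lc_e_Cert_tree lc_e_rc_18_1 lc_e_rc_27_5 lc_e_Cert_tree lc_e_rc_19_2 lc_e_rc_13_3 lc_e_Cert_tree lc_e_rc_18_1 lc_e_rc_4_3 lc_e_rc_4_1 lc_e_Cert_tree lc_e_rc_18_1 lc_e_Cert_tree lc_e_rc_13_3 lc_e_Cert_tree lc_e_Cert_tree lc_e_rc_18_1 lc_e_rc_18_1 lc_e_Cert_tree lc_e_rc_19_4 lc_e_Cert_tree lc_e_Cert_tree lc_e_rc_18_1 lc_e_Cert_tree lc_e_rc_27_5 lc_e_rc_19_4 lc_e_Cert_tree lc_e_Cert_tree) (@D3.rec (fun _ => (Cert rels S Gen.e)) lc_e_rc_18_1 lc_e_Cert_tree lc_e_Cert_tree lc_e_rc_18_1 lc_e_Cert_tree lc_e_rc_13_3 lc_e_rc_4_3 lc_e_Cert_tree lc_e_Cert_tree lc_e_Cert_tree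 lc_e_Cert_tree lc_e_Cert_tree lc_e_rc_18_1 lc_e_Cert_tree lc_e_rc_18_1 lc_e_rc_18_1 lc_e_rc_18_1 lc_e_rc_18_1 lc_e_Cert_tree lc_e_Cert_tree lc_e_Cert_tree lc_e_rc_18_1 lc_e_rc_16_1 lc_e_Cert_tree lc_e_rc_16_1 lc_e_rc_19_4 lc_e_Cert_tree lc_e_rc_18_1 lc_e_Cert_tree lc_e_rc_18_1 lc_e_rc_18_1 lc_e_rc_19_2 lc_e_Cert_tree lc_e_rc_18_1 lc_e_Cert_tree lc_e_rc_18_1 lc_e_Cert_tree lc_e_rc_18_1 lc_e_rc_27_5 lc_e_Cert_tree lc_e_rc_16_1 lc_e_rc_19_4 lc_e_rc_13_3 lc_e_rc_27_1 lc_e_rc_13_3 lc_e_Cert_tree lc_e_rc_13_3 lc_e_rc_18_1 lc_e_rc_18_1 lc_e_rc_27_5 lc_e_rc_19_2 lc_e_Cert_tree lc_e_Cert_tree lc_e_rc_18_1 lc_e_Cert_tree lc_e_Cert_tree lc_e_rc_18_1 lc_e_Cert_tree lc_e_Cert_tree lc_e_Cert_tree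 lc_e_rc_18_1 lc_e_Cert_tree) (@D3.rec (fun _ => (Cert rels S Gen.e)) lc_e_Cert_tree lc_e_Cert_tree lc_e_Cert_tree lc_e_rc_18_1 lc_e_Cert_tree lc_e_Cert_tree lc_e_rc_18_1 lc_e_rc_27_1 lc_e_Cert_tree lc_e_rc_16_1 lc_e_rc_19_4 lc_e_rc_13_3 lc_e_Cert_tree lc_e_Cert_tree lc_e_rc_18_1 lc_e_Cert_tree lc_e_rc_18_1 lc_e_rc_13_3 lc_e_rc_19_4 lc_e_rc_13_3 lc_e_Cert_tree lc_e_rc_9_3 lc_e_Cert_tree lc_e_rc_18_1 lc_e_Cert_tree lc_e_rc_18_1 lc_e_rc_18_1 lc_e_Cert_tree lc_e_Cert_tree lc_e_rc_18_1 lc_e_rc_27_5 lc_e_rc_16_1 lc_e_rc_4_1 lc_e_Cert_tree lc_e_rc_18_1 lc_e_Cert_tree lc_e_rc_18_1 lc_e_rc_16_1 lc_e_rc_19_4 lc_e_rc_13_3 lc_e_rc_27_5 lc_e_Cert_tree lc_e_Cert_tree lc_e_Cert_tree lc_e_rc_18_1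 lc_e_rc_18_1 lc_e_Cert_tree lc_e_rc_18_1 lc_e_rc_16_1 lc_e_rc_13_3 lc_e_Cert_tree lc_e_rc_18_1 lc_e_rc_13_3 lc_e_rc_9_3 lc_e_rc_27_1 lc_e_rc_13_3 lc_e_rc_16_3 lc_e_Cert_tree lc_e_Cert_tree lc_e_rc_9_3 lc_e_Cert_tree lc_e_rc_18_1) (@D3.rec (fun _ => (Cert rels S Gen.e)) lc_e_Cert_tree lc_e_Cert_tree lc_e_rc_18_1 lc_e_Cert_tree lc_e_Cert_tree lc_e_rc_16_1 lc_e_rc_19_4 lc_e_Cert_tree lc_e_rc_18_1 lc_e_rc_13_1 lc_e_Cert_tree lc_e_rc_13_3 lc_e_Cert_tree lc_e_Cert_tree lc_e_rc_18_1 lc_e_Cert_tree lc_e_Cert_tree lc_e_rc_18_1 lc_e_rc_18_1 lc_e_Cert_tree lc_e_rc_16_1 lc_e_rc_19_4 lc_e_rc_18_1 lc_e_rc_13_3 lc_e_rc_27_1 lc_e_Cert_tree lc_e_rc_16_3 lc_e_rc_18_1 lc_e_rc_13_3 lc_e_rc_18_1 lc_e_rc_9_1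 lc_e_Cert_tree lc_e_rc_18_1 lc_e_Cert_tree lc_e_rc_27_5 lc_e_rc_4_1 lc_e_rc_27_5 lc_e_Cert_tree lc_e_rc_4_3 lc_e_rc_16_5 lc_e_rc_18_1 lc_e_Cert_tree lc_e_rc_18_1 lc_e_rc_13_3 lc_e_Cert_tree lc_e_rc_18_1 lc_e_rc_18_1 lc_e_rc_27_5 lc_e_Cert_tree lc_e_rc_13_3 lc_e_rc_16_3 lc_e_Cert_tree lc_e_rc_13_3 lc_e_Cert_tree lc_e_Cert_tree lc_e_Cert_tree lc_e_rc_18_1 lc_e_Cert_tree lc_e_rc_18_1 lc_e_Cert_tree lc_e_Cert_tree lc_e_rc_18_1) (@D3.rec (fun _ => (Cert rels S Gen.e)) lc_e_rc_19_2 lc_e_rc_18_1 lc_e_Cert_tree lc_e_rc_4_1 lc_e_Cert_tree lc_e_Cert_tree lc_e_rc_18_1 lc_e_rc_18_1 lc_e_rc_18_1 lc_e_rc_16_1 lc_e_rc_16_5 lc_e_Cert_tree lc_e_Cert_tree lc_e_Cert_tree lc_e_Cert_tree lc_e_Cert_tree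 lc_e_rc_18_1 lc_e_Cert_tree lc_e_Cert_tree lc_e_Cert_tree lc_e_Cert_tree lc_e_rc_18_1 lc_e_Cert_tree lc_e_Cert_tree lc_e_Cert_tree lc_e_Cert_tree lc_e_rc_18_1 lc_e_Cert_tree lc_e_rc_18_1 lc_e_Cert_tree lc_e_rc_18_1 lc_e_Cert_tree lc_e_rc_18_1 lc_e_Cert_tree lc_e_rc_18_1 lc_e_Cert_tree lc_e_rc_16_3 lc_e_Cert_tree lc_e_rc_18_1 lc_e_Cert_tree lc_e_Cert_tree lc_e_rc_16_3 lc_e_Cert_tree lc_e_Cert_tree lc_e_rc_27_5 lc_e_rc_18_1 lc_e_Cert_tree lc_e_Cert_tree lc_e_rc_27_5 lc_e_rc_18_1 lc_e_Cert_tree lc_e_rc_18_1 lc_e_rc_13_1 lc_e_Cert_tree lc_e_rc_13_1 lc_e_Cert_tree lc_e_rc_16_3 lc_e_rc_18_1 lc_e_rc_18_1 lc_e_Cert_tree lc_e_rc_19_4 lc_e_rc_9_3) (@D3.rec (fun _ => (Cert rels S Gen.e))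 lc_e_Cert_tree lc_e_rc_27_7 lc_e_Cert_tree lc_e_rc_13_3 lc_e_rc_18_1 lc_e_rc_18_1 lc_e_rc_18_1 lc_e_Cert_tree lc_e_Cert_tree lc_e_Cert_tree lc_e_rc_18_1 lc_e_rc_18_1 lc_e_rc_16_5 lc_e_rc_19_4 lc_e_Cert_tree lc_e_Cert_tree lc_e_rc_16_5 lc_e_rc_13_3 lc_e_rc_18_1 lc_e_rc_4_1 lc_e_rc_16_3 lc_e_rc_19_2 lc_e_rc_19_0 lc_e_Cert_tree lc_e_Cert_tree lc_e_Cert_tree lc_e_rc_18_1 lc_e_rc_18_1 lc_e_Cert_tree lc_e_rc_19_4 lc_e_Cert_tree lc_e_rc_13_3 lc_e_Cert_tree lc_e_rc_9_3 lc_e_rc_18_1 lc_e_rc_13_3 lc_e_Cert_tree lc_e_rc_16_3 lc_e_rc_9_3 lc_e_rc_13_3 lc_e_rc_16_3 lc_e_Cert_tree lc_e_rc_18_1 lc_e_rc_13_3 lc_e_Cert_tree lc_e_rc_18_1 lc_e_Cert_tree lc_e_rc_27_1 lc_e_rc_19_4 lc_e_rc_4_3 lc_e_Cert_tree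 lc_e_rc_16_5 lc_e_rc_9_3 lc_e_rc_18_1 lc_e_Cert_tree lc_e_Cert_tree lc_e_Cert_tree lc_e_rc_18_1 lc_e_rc_18_1 lc_e_rc_16_1 lc_e_rc_27_5 lc_e_Cert_tree) (@D3.rec (fun _ => (Cert rels S Gen.e)) lc_e_rc_16_5 lc_e_rc_13_3 lc_e_rc_19_4 lc_e_Cert_tree lc_e_Cert_tree lc_e_Cert_tree lc_e_Cert_tree lc_e_Cert_tree lc_e_rc_18_1 lc_e_rc_16_5 lc_e_rc_16_5 lc_e_Cert_tree lc_e_rc_13_3 lc_e_rc_18_1 lc_e_Cert_tree lc_e_rc_13_1 lc_e_rc_19_4 lc_e_Cert_tree lc_e_rc_18_1 lc_e_rc_18_1 lc_e_rc_19_4 lc_e_rc_27_1 lc_e_Cert_tree lc_e_rc_19_4 lc_e_rc_16_3 lc_e_rc_18_1 lc_e_Cert_tree lc_e_Cert_tree lc_e_rc_18_1 lc_e_Cert_tree lc_e_rc_9_1 lc_e_Cert_tree lc_e_rc_18_1 lc_e_rc_27_5 lc_e_Cert_tree lc_e_rc_18_1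 lc_e_Cert_tree lc_e_Cert_tree lc_e_Cert_tree lc_e_rc_18_1 lc_e_Cert_tree lc_e_rc_9_3 lc_e_rc_19_2 lc_e_Cert_tree lc_e_rc_18_1 lc_e_Cert_tree lc_e_Cert_tree lc_e_rc_18_1 lc_e_rc_16_5 lc_e_rc_19_4 lc_e_Cert_tree lc_e_Cert_tree lc_e_rc_18_1 lc_e_Cert_tree lc_e_Cert_tree lc_e_rc_18_1 lc_e_Cert_tree lc_e_Cert_tree lc_e_Cert_tree lc_e_Cert_tree lc_e_rc_18_1 lc_e_rc_18_1) (@D3.rec (fun _ => (Cert rels S Gen.e)) lc_e_rc_18_1 lc_e_Cert_tree lc_e_rc_16_1 lc_e_rc_16_5 lc_e_rc_9_1 lc_e_rc_18_1 lc_e_Cert_tree lc_e_Cert_tree lc_e_Cert_tree lc_e_rc_27_5 lc_e_rc_18_1 lc_e_rc_27_1 lc_e_Cert_tree lc_e_rc_18_1 lc_e_rc_13_1 lc_e_rc_18_1 lc_e_rc_9_1 lc_e_rc_18_1 lc_e_rc_13_3 lc_e_Cert_tree lc_e_Cert_tree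 lc_e_Cert_tree lc_e_rc_18_1 lc_e_Cert_tree lc_e_rc_18_1 lc_e_rc_27_5 lc_e_rc_16_5 lc_e_rc_27_1 lc_e_Cert_tree lc_e_Cert_tree lc_e_rc_18_1 lc_e_rc_18_1 lc_e_rc_27_5 lc_e_rc_27_1 lc_e_rc_16_1 lc_e_rc_18_1 lc_e_rc_9_3 lc_e_rc_13_3 lc_e_rc_13_1 lc_e_rc_16_5 lc_e_Cert_tree lc_e_Cert_tree lc_e_Cert_tree lc_e_rc_18_1 lc_e_rc_18_1 lc_e_rc_27_5 lc_e_rc_16_1 lc_e_Cert_tree lc_e_rc_27_1 lc_e_Cert_tree lc_e_Cert_tree lc_e_Cert_tree lc_e_rc_18_1 lc_e_rc_18_1 lc_e_rc_16_1 lc_e_rc_19_4 lc_e_rc_16_5 lc_e_rc_16_5 lc_e_Cert_tree lc_e_Cert_tree lc_e_rc_4_3 lc_e_rc_18_1) (@D3.rec (fun _ => (Cert rels S Gen.e)) lc_e_rc_18_1 lc_e_rc_16_1 lc_e_Cert_tree lc_e_Cert_tree lc_e_Cert_tree lc_e_rc_18_1 lc_e_Cert_tree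 lc_e_Cert_tree lc_e_Cert_tree lc_e_rc_18_1 lc_e_rc_13_3 lc_e_rc_18_1 lc_e_Cert_tree lc_e_Cert_tree lc_e_rc_9_1 lc_e_rc_27_5 lc_e_Cert_tree lc_e_rc_13_3 lc_e_Cert_tree lc_e_rc_18_1 lc_e_Cert_tree lc_e_Cert_tree lc_e_rc_18_1 lc_e_rc_27_1 lc_e_rc_18_1 lc_e_Cert_tree lc_e_Cert_tree lc_e_rc_18_1 lc_e_rc_9_1 lc_e_rc_18_1 lc_e_Cert_tree lc_e_Cert_tree lc_e_rc_18_1 lc_e_rc_27_7 lc_e_rc_18_1 lc_e_Cert_tree lc_e_Cert_tree lc_e_rc_18_1 lc_e_Cert_tree lc_e_rc_18_1 lc_e_Cert_tree lc_e_rc_9_3 lc_e_rc_16_1 lc_e_rc_4_1 lc_e_rc_4_3 lc_e_Cert_tree lc_e_rc_13_3 lc_e_rc_18_1 lc_e_Cert_tree lc_e_rc_27_1 lc_e_rc_18_1 lc_e_rc_16_5 lc_e_rc_27_5 lc_e_Cert_tree lc_e_rc_27_7 lc_e_Cert_tree lc_e_rc_18_1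 lc_e_Cert_tree lc_e_rc_13_3 lc_e_rc_18_1 lc_e_Cert_tree lc_e_Cert_tree) (@D3.rec (fun _ => (Cert rels S Gen.e)) lc_e_Cert_tree lc_e_Cert_tree lc_e_rc_18_1 lc_e_Cert_tree lc_e_Cert_tree lc_e_rc_18_1 lc_e_Cert_tree lc_e_rc_18_1 lc_e_rc_16_1 lc_e_rc_13_3 lc_e_Cert_tree lc_e_rc_18_1 lc_e_rc_9_1 lc_e_rc_13_3 lc_e_rc_18_1 lc_e_rc_27_1 lc_e_rc_13_3 lc_e_rc_27_5 lc_e_Cert_tree lc_e_rc_9_3 lc_e_Cert_tree lc_e_Cert_tree lc_e_Cert_tree lc_e_Cert_tree lc_e_rc_18_1 lc_e_Cert_tree lc_e_Cert_tree lc_e_Cert_tree lc_e_rc_18_1 lc_e_Cert_tree lc_e_rc_18_1 lc_e_Cert_tree lc_e_Cert_tree lc_e_Cert_tree lc_e_rc_18_1 lc_e_Cert_tree lc_e_rc_18_1 lc_e_rc_16_1 lc_e_rc_9_3 lc_e_Cert_tree lc_e_rc_19_0 lc_e_rc_27_5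 lc_e_rc_18_1 lc_e_rc_9_3 lc_e_Cert_tree lc_e_rc_27_1 lc_e_rc_16_5 lc_e_Cert_tree lc_e_rc_27_5 lc_e_rc_18_1 lc_e_rc_13_3 lc_e_rc_19_2 lc_e_Cert_tree lc_e_rc_13_3 lc_e_rc_9_1 lc_e_rc_13_1 lc_e_rc_9_3 lc_e_rc_13_3 lc_e_rc_9_3 lc_e_rc_4_3 lc_e_Cert_tree lc_e_Cert_tree) (@D3.rec (fun _ => (Cert rels S Gen.e)) lc_e_rc_18_1 lc_e_rc_27_1 lc_e_Cert_tree lc_e_rc_19_4 lc_e_Cert_tree lc_e_rc_18_1 lc_e_Cert_tree lc_e_rc_27_1 lc_e_Cert_tree lc_e_Cert_tree lc_e_rc_18_1 lc_e_Cert_tree lc_e_Cert_tree lc_e_rc_18_1 lc_e_Cert_tree lc_e_Cert_tree lc_e_rc_16_1 lc_e_rc_19_4 lc_e_rc_16_5 lc_e_Cert_tree lc_e_rc_27_1 lc_e_rc_18_1 lc_e_Cert_tree lc_e_Cert_tree lc_e_rc_27_5 lc_e_rc_18_1 lc_e_rc_13_3 lc_e_rc_18_1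 lc_e_Cert_tree lc_e_Cert_tree lc_e_Cert_tree lc_e_rc_18_1 lc_e_rc_16_3 lc_e_Cert_tree lc_e_Cert_tree lc_e_rc_18_1 lc_e_rc_9_3 lc_e_rc_9_3 lc_e_Cert_tree lc_e_rc_18_1 lc_e_Cert_tree lc_e_Cert_tree lc_e_Cert_tree lc_e_rc_18_1 lc_e_rc_18_1 lc_e_Cert_tree lc_e_rc_16_1 lc_e_rc_9_3 lc_e_Cert_tree lc_e_rc_18_1 lc_e_rc_9_1 lc_e_rc_18_1 lc_e_rc_13_3 lc_e_rc_13_1 lc_e_rc_19_2 lc_e_rc_9_3 lc_e_rc_9_1 lc_e_rc_18_1 lc_e_rc_16_3 lc_e_Cert_tree lc_e_rc_19_4 lc_e_rc_18_1) (@D3.rec (fun _ => (Cert rels S Gen.e)) lc_e_rc_9_3 lc_e_rc_9_3 lc_e_rc_13_3 lc_e_Cert_tree lc_e_rc_18_1 lc_e_rc_27_7 lc_e_rc_9_3 lc_e_Cert_tree lc_e_Cert_tree lc_e_Cert_tree lc_e_rc_18_1 lc_e_rc_18_1 lc_e_rc_27_5 lc_e_rc_19_4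 lc_e_rc_9_3 lc_e_Cert_tree lc_e_rc_18_1 lc_e_rc_27_5 lc_e_Cert_tree lc_e_Cert_tree lc_e_Cert_tree lc_e_rc_18_1 lc_e_rc_27_1 lc_e_Cert_tree lc_e_rc_18_1 lc_e_Cert_tree lc_e_Cert_tree lc_e_rc_16_1 lc_e_rc_19_4 lc_e_Cert_tree lc_e_rc_18_1 lc_e_rc_9_1 lc_e_Cert_tree lc_e_rc_18_1 lc_e_rc_13_3 lc_e_rc_13_3 lc_e_Cert_tree lc_e_Cert_tree lc_e_rc_18_1 lc_e_Cert_tree lc_e_rc_18_1 lc_e_Cert_tree lc_e_rc_27_5 lc_e_Cert_tree lc_e_rc_18_1 lc_e_Cert_tree lc_e_Cert_tree lc_e_rc_19_4 lc_e_rc_16_5 lc_e_rc_18_1 lc_e_rc_9_3 lc_e_Cert_tree lc_e_rc_18_1 lc_e_rc_13_3 lc_e_rc_9_3 lc_e_Cert_tree lc_e_Cert_tree lc_e_Cert_tree lc_e_rc_18_1 lc_e_rc_18_1 lc_e_Cert_tree lc_e_Cert_tree) (@D3.rec (fun _ => (Cert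 rels S Gen.e)) lc_e_Cert_tree lc_e_rc_18_1 lc_e_Cert_tree lc_e_rc_27_5 lc_e_Cert_tree lc_e_rc_18_1 lc_e_Cert_tree lc_e_Cert_tree lc_e_Cert_tree lc_e_rc_18_1 lc_e_rc_16_5 lc_e_Cert_tree lc_e_rc_16_1 lc_e_rc_9_3 lc_e_Cert_tree lc_e_rc_18_1 lc_e_Cert_tree lc_e_rc_18_1 lc_e_rc_27_7 lc_e_rc_13_3 lc_e_rc_27_1 lc_e_rc_16_1 lc_e_Cert_tree lc_e_rc_13_3 lc_e_rc_19_4 lc_e_rc_16_5 lc_e_rc_27_5 lc_e_Cert_tree lc_e_Cert_tree lc_e_Cert_tree lc_e_Cert_tree lc_e_rc_18_1 lc_e_Cert_tree lc_e_rc_27_7 lc_e_rc_18_1 lc_e_rc_27_5 lc_e_Cert_tree lc_e_rc_18_1 lc_e_Cert_tree lc_e_Cert_tree lc_e_Cert_tree lc_e_rc_18_1 lc_e_Cert_tree lc_e_Cert_tree lc_e_rc_19_4 lc_e_rc_18_1 lc_e_Cert_tree lc_e_Cert_tree lc_e_Cert_tree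 lc_e_rc_18_1 lc_e_rc_27_5 lc_e_Cert_tree lc_e_Cert_tree lc_e_Cert_tree lc_e_rc_18_1 lc_e_Cert_tree lc_e_Cert_tree lc_e_rc_27_5 lc_e_Cert_tree lc_e_Cert_tree lc_e_rc_18_1 lc_e_Cert_tree) (@D3.rec (fun _ => (Cert rels S Gen.e)) lc_e_Cert_tree lc_e_Cert_tree lc_e_rc_18_1 lc_e_Cert_tree lc_e_rc_16_5 lc_e_rc_19_4 lc_e_rc_27_5 lc_e_rc_18_1 lc_e_rc_9_3 lc_e_Cert_tree lc_e_Cert_tree lc_e_Cert_tree lc_e_rc_18_1 lc_e_Cert_tree lc_e_Cert_tree lc_e_rc_18_1 lc_e_Cert_tree lc_e_rc_18_1 lc_e_Cert_tree lc_e_rc_16_1 lc_e_rc_19_2 lc_e_Cert_tree lc_e_rc_18_1 lc_e_rc_9_3 lc_e_rc_13_3 lc_e_rc_19_0 lc_e_rc_27_7 lc_e_Cert_tree lc_e_rc_19_4 lc_e_Cert_tree lc_e_rc_18_1 lc_e_Cert_tree lc_e_Cert_tree lc_e_rc_19_4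 lc_e_Cert_tree lc_e_Cert_tree lc_e_rc_16_3 lc_e_rc_4_3 lc_e_rc_9_1 lc_e_rc_19_2 lc_e_Cert_tree lc_e_rc_18_1 lc_e_rc_16_5 lc_e_Cert_tree lc_e_rc_16_3 lc_e_Cert_tree lc_e_Cert_tree lc_e_rc_18_1 lc_e_Cert_tree lc_e_Cert_tree lc_e_rc_18_1 lc_e_Cert_tree lc_e_Cert_tree lc_e_rc_18_1 lc_e_Cert_tree lc_e_Cert_tree lc_e_rc_18_1 lc_e_rc_16_5 lc_e_rc_27_1 lc_e_rc_13_3 lc_e_Cert_tree lc_e_rc_18_1) (@D3.rec (fun _ => (Cert rels S Gen.e)) lc_e_rc_18_1 lc_e_Cert_tree lc_e_rc_18_1 lc_e_rc_16_1 lc_e_rc_16_5 lc_e_Cert_tree lc_e_rc_18_1 lc_e_rc_18_1 lc_e_Cert_tree lc_e_rc_18_1 lc_e_rc_18_1 lc_e_rc_18_1 lc_e_Cert_tree lc_e_rc_18_1 lc_e_Cert_tree lc_e_rc_27_7 lc_e_rc_18_1 lc_e_Cert_tree lc_e_rc_9_1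 lc_e_Cert_tree lc_e_rc_18_1 lc_e_rc_27_5 lc_e_Cert_tree lc_e_rc_19_4 lc_e_rc_18_1 lc_e_Cert_tree lc_e_Cert_tree lc_e_rc_18_1 lc_e_Cert_tree lc_e_rc_9_3 lc_e_rc_19_2 lc_e_Cert_tree lc_e_rc_18_1 lc_e_Cert_tree lc_e_Cert_tree lc_e_rc_18_1 lc_e_rc_4_3 lc_e_rc_19_4 lc_e_Cert_tree lc_e_Cert_tree lc_e_rc_18_1 lc_e_Cert_tree lc_e_Cert_tree lc_e_rc_18_1 lc_e_Cert_tree lc_e_Cert_tree lc_e_rc_13_3 lc_e_Cert_tree lc_e_rc_18_1 lc_e_Cert_tree lc_e_Cert_tree lc_e_Cert_tree lc_e_rc_18_1 lc_e_Cert_tree lc_e_Cert_tree lc_e_rc_16_1 lc_e_rc_19_4 lc_e_Cert_tree lc_e_rc_13_1 lc_e_rc_18_1 lc_e_Cert_tree lc_e_Cert_tree) (@D3.rec (fun _ => (Cert rels S Gen.e)) lc_e_rc_18_1 lc_e_Cert_tree lc_e_rc_27_5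 lc_e_rc_13_3 lc_e_rc_19_4 lc_e_Cert_tree lc_e_Cert_tree lc_e_rc_18_1 lc_e_rc_16_3 lc_e_rc_18_1 lc_e_rc_13_3 lc_e_Cert_tree lc_e_Cert_tree lc_e_Cert_tree lc_e_rc_18_1 lc_e_Cert_tree lc_e_rc_27_7 lc_e_rc_9_3 lc_e_rc_16_5 lc_e_rc_18_1 lc_e_rc_19_4 lc_e_rc_18_1 lc_e_rc_13_3 lc_e_rc_4_3 lc_e_rc_16_3 lc_e_rc_4_3 lc_e_rc_16_5 lc_e_rc_18_1 lc_e_Cert_tree lc_e_rc_18_1 lc_e_Cert_tree lc_e_Cert_tree lc_e_Cert_tree lc_e_rc_18_1 lc_e_rc_18_1 lc_e_rc_19_4 lc_e_rc_19_4 lc_e_rc_19_4 lc_e_Cert_tree lc_e_Cert_tree lc_e_rc_18_1 lc_e_rc_16_5 lc_e_rc_27_5 lc_e_rc_19_4 lc_e_rc_16_5 lc_e_Cert_tree lc_e_Cert_tree lc_e_Cert_tree lc_e_rc_18_1 lc_e_Cert_tree lc_e_Cert_tree lc_e_Cert_tree lc_e_rc_18_1 lc_e_Cert_tree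 lc_e_rc_18_1 lc_e_rc_4_3 lc_e_Cert_tree lc_e_Cert_tree lc_e_rc_18_1 lc_e_rc_27_5 lc_e_rc_16_1 lc_e_Cert_tree) (@D3.rec (fun _ => (Cert rels S Gen.e)) lc_e_rc_18_1 lc_e_rc_9_3 lc_e_rc_18_1 lc_e_rc_27_7 lc_e_rc_13_3 lc_e_rc_27_5 lc_e_Cert_tree lc_e_rc_18_1 lc_e_Cert_tree lc_e_Cert_tree lc_e_rc_18_1 lc_e_rc_18_1 lc_e_rc_9_3 lc_e_Cert_tree lc_e_Cert_tree lc_e_rc_18_1 lc_e_rc_27_1 lc_e_rc_19_4 lc_e_rc_27_7 lc_e_rc_18_1 lc_e_rc_27_5 lc_e_Cert_tree lc_e_rc_18_1 lc_e_Cert_tree lc_e_rc_16_5 lc_e_rc_19_4 lc_e_rc_18_1 lc_e_rc_18_1 lc_e_rc_27_1 lc_e_rc_18_1 lc_e_Cert_tree lc_e_rc_27_5 lc_e_rc_18_1 lc_e_rc_18_1 lc_e_rc_27_1 lc_e_rc_19_4 lc_e_Cert_tree lc_e_rc_18_1 lc_e_rc_27_5 lc_e_rc_9_3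 lc_e_Cert_tree lc_e_Cert_tree lc_e_rc_4_3 lc_e_Cert_tree lc_e_Cert_tree lc_e_Cert_tree lc_e_rc_18_1 lc_e_Cert_tree lc_e_rc_16_3 lc_e_rc_19_4 lc_e_Cert_tree lc_e_Cert_tree lc_e_Cert_tree lc_e_rc_18_1 lc_e_rc_9_3 lc_e_Cert_tree lc_e_Cert_tree lc_e_rc_18_1 lc_e_Cert_tree lc_e_rc_18_1 lc_e_Cert_tree lc_e_rc_18_1) (@D3.rec (fun _ => (Cert rels S Gen.e)) lc_e_Cert_tree lc_e_Cert_tree lc_e_Cert_tree lc_e_rc_18_1 lc_e_rc_19_0 lc_e_rc_18_1 lc_e_rc_18_1 lc_e_rc_27_1 lc_e_Cert_tree lc_e_Cert_tree lc_e_rc_18_1 lc_e_Cert_tree lc_e_Cert_tree lc_e_rc_18_1 lc_e_Cert_tree lc_e_Cert_tree lc_e_Cert_tree lc_e_rc_18_1 lc_e_Cert_tree lc_e_Cert_tree lc_e_rc_9_3 lc_e_rc_9_3 lc_e_rc_13_3 lc_e_rc_4_3 lc_e_rc_13_3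 lc_e_rc_27_7 lc_e_rc_27_7 lc_e_rc_13_3 lc_e_Cert_tree lc_e_Cert_tree lc_e_rc_27_5 lc_e_rc_18_1 lc_e_rc_18_1 lc_e_rc_18_1 lc_e_rc_13_1 lc_e_rc_4_3 lc_e_Cert_tree lc_e_rc_9_1 lc_e_rc_18_1 lc_e_rc_9_3 lc_e_rc_18_1 lc_e_rc_9_3 lc_e_Cert_tree lc_e_rc_4_3 lc_e_rc_4_1 lc_e_rc_18_1 lc_e_Cert_tree lc_e_rc_18_1 lc_e_rc_18_1 lc_e_rc_18_1 lc_e_rc_9_3 lc_e_rc_18_1 lc_e_Cert_tree lc_e_rc_18_1 lc_e_Cert_tree lc_e_rc_18_1 lc_e_rc_16_3 lc_e_rc_18_1 lc_e_Cert_tree lc_e_rc_18_1 lc_e_rc_27_1 lc_e_rc_16_5) (@D3.rec (fun _ => (Cert rels S Gen.e)) lc_e_Cert_tree lc_e_rc_18_1 lc_e_Cert_tree lc_e_rc_18_1 lc_e_Cert_tree lc_e_Cert_tree lc_e_Cert_tree lc_e_rc_18_1 lc_e_Cert_tree lc_e_rc_18_1 lc_e_rc_16_3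 lc_e_rc_19_4 lc_e_Cert_tree lc_e_Cert_tree lc_e_rc_18_1 lc_e_rc_16_3 lc_e_rc_13_3 lc_e_rc_18_1 lc_e_rc_27_1 lc_e_rc_13_3 lc_e_rc_9_3 lc_e_rc_9_3 lc_e_Cert_tree lc_e_Cert_tree lc_e_Cert_tree lc_e_Cert_tree lc_e_rc_18_1 lc_e_Cert_tree lc_e_Cert_tree lc_e_Cert_tree lc_e_rc_18_1 lc_e_rc_18_1 lc_e_Cert_tree lc_e_rc_18_1 lc_e_rc_16_3 lc_e_rc_9_3 lc_e_rc_27_5 lc_e_rc_13_1 lc_e_rc_16_5 lc_e_rc_16_5 lc_e_Cert_tree lc_e_Cert_tree lc_e_rc_18_1 lc_e_Cert_tree lc_e_Cert_tree lc_e_rc_18_1 lc_e_rc_13_3 lc_e_rc_16_1 lc_e_rc_9_3 lc_e_rc_13_1 lc_e_rc_27_7 lc_e_rc_9_3 lc_e_rc_13_3 lc_e_rc_9_3 lc_e_rc_16_3 lc_e_rc_4_1 lc_e_rc_27_5 lc_e_rc_9_3 lc_e_Cert_tree lc_e_Cert_tree lc_e_rc_18_1 lc_e_Cert_tree)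 (@D3.rec (fun _ => (Cert rels S Gen.e)) lc_e_rc_18_1 lc_e_Cert_tree lc_e_Cert_tree lc_e_rc_18_1 lc_e_Cert_tree lc_e_Cert_tree lc_e_rc_18_1 lc_e_Cert_tree lc_e_Cert_tree lc_e_Cert_tree lc_e_rc_18_1 lc_e_Cert_tree lc_e_rc_18_1 lc_e_rc_19_4 lc_e_Cert_tree lc_e_rc_18_1 lc_e_rc_18_1 lc_e_rc_19_2 lc_e_Cert_tree lc_e_rc_9_3 lc_e_Cert_tree lc_e_rc_27_7 lc_e_rc_18_1 lc_e_Cert_tree lc_e_Cert_tree lc_e_rc_18_1 lc_e_Cert_tree lc_e_Cert_tree lc_e_rc_18_1 lc_e_Cert_tree lc_e_Cert_tree lc_e_Cert_tree lc_e_rc_18_1 lc_e_rc_18_1 lc_e_Cert_tree lc_e_rc_19_4 lc_e_Cert_tree lc_e_rc_18_1 lc_e_Cert_tree lc_e_rc_16_3 lc_e_rc_19_4 lc_e_Cert_tree lc_e_rc_13_1 lc_e_rc_18_1 lc_e_rc_9_3 lc_e_rc_19_4 lc_e_rc_16_5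 lc_e_rc_19_2 lc_e_rc_27_5 lc_e_rc_18_1 lc_e_Cert_tree lc_e_rc_19_2 lc_e_rc_13_3 lc_e_Cert_tree lc_e_Cert_tree lc_e_Cert_tree lc_e_rc_18_1 lc_e_Cert_tree lc_e_rc_9_3 lc_e_rc_18_1 lc_e_Cert_tree lc_e_rc_18_1) (@D3.rec (fun _ => (Cert rels S Gen.e)) lc_e_Cert_tree lc_e_rc_18_1 lc_e_rc_18_1 lc_e_rc_19_4 lc_e_rc_18_1 lc_e_rc_16_1 lc_e_rc_19_4 lc_e_rc_16_5 lc_e_rc_27_5 lc_e_rc_9_1 lc_e_rc_13_1 lc_e_rc_27_5 lc_e_rc_16_1 lc_e_rc_16_5 lc_e_rc_19_4 lc_e_rc_4_3 lc_e_rc_27_5 lc_e_rc_27_5 lc_e_Cert_tree lc_e_rc_18_1 lc_e_rc_18_1 lc_e_rc_4_3 lc_e_rc_18_1 lc_e_Cert_tree lc_e_rc_18_1 lc_e_rc_16_1 lc_e_rc_13_3 lc_e_Cert_tree lc_e_Cert_tree lc_e_Cert_tree lc_e_rc_18_1 lc_e_rc_4_3 lc_e_Cert_tree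 lc_e_Cert_tree lc_e_rc_18_1 lc_e_rc_27_7 lc_e_Cert_tree lc_e_rc_18_1 lc_e_rc_4_3 lc_e_Cert_tree lc_e_Cert_tree lc_e_Cert_tree lc_e_Cert_tree lc_e_rc_18_1 lc_e_rc_13_1 lc_e_rc_16_1 lc_e_rc_9_1 lc_e_Cert_tree lc_e_rc_18_1 lc_e_Cert_tree lc_e_Cert_tree lc_e_rc_18_1 lc_e_Cert_tree lc_e_Cert_tree lc_e_Cert_tree lc_e_rc_18_1 lc_e_rc_18_1 lc_e_Cert_tree lc_e_rc_16_1 lc_e_rc_19_4 lc_e_rc_18_1 lc_e_Cert_tree) (@D3.rec (fun _ => (Cert rels S Gen.e)) lc_e_rc_13_3 lc_e_Cert_tree lc_e_Cert_tree lc_e_rc_18_1 lc_e_Cert_tree lc_e_rc_16_5 lc_e_rc_19_4 lc_e_Cert_tree lc_e_Cert_tree lc_e_rc_18_1 lc_e_rc_9_3 lc_e_rc_19_4 lc_e_rc_27_1 lc_e_Cert_tree lc_e_Cert_tree lc_e_Cert_tree lc_e_rc_18_1 lc_e_Cert_tree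 lc_e_Cert_tree lc_e_rc_13_3 lc_e_Cert_tree lc_e_Cert_tree lc_e_rc_18_1 lc_e_rc_9_3 lc_e_Cert_tree lc_e_Cert_tree lc_e_rc_18_1 lc_e_rc_27_7 lc_e_Cert_tree lc_e_rc_18_1 lc_e_Cert_tree lc_e_Cert_tree lc_e_Cert_tree lc_e_rc_18_1 lc_e_rc_16_5 lc_e_Cert_tree lc_e_rc_18_1 lc_e_rc_16_1 lc_e_rc_9_3 lc_e_rc_13_3 lc_e_Cert_tree lc_e_Cert_tree lc_e_Cert_tree lc_e_Cert_tree lc_e_Cert_tree lc_e_rc_18_1 lc_e_rc_27_5 lc_e_rc_27_5 lc_e_Cert_tree lc_e_rc_18_1 lc_e_rc_16_5 lc_e_Cert_tree lc_e_rc_18_1 lc_e_Cert_tree lc_e_Cert_tree lc_e_Cert_tree lc_e_rc_18_1 lc_e_rc_4_3 lc_e_rc_18_1 lc_e_rc_16_1 lc_e_rc_19_4 lc_e_rc_4_3) (@D3.rec (fun _ => (Cert rels S Gen.e)) lc_e_rc_16_3 lc_e_rc_13_3 lc_e_rc_16_5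 lc_e_rc_9_1 lc_e_rc_16_1 lc_e_rc_13_3 lc_e_Cert_tree lc_e_rc_9_3 lc_e_Cert_tree lc_e_rc_18_1 lc_e_Cert_tree lc_e_rc_18_1 lc_e_rc_16_1 lc_e_Cert_tree lc_e_Cert_tree lc_e_rc_18_1 lc_e_rc_27_7 lc_e_rc_18_1 lc_e_Cert_tree lc_e_rc_13_3 lc_e_Cert_tree lc_e_rc_27_7 lc_e_Cert_tree lc_e_rc_27_7 lc_e_rc_18_1 lc_e_Cert_tree lc_e_Cert_tree lc_e_rc_18_1 lc_e_Cert_tree lc_e_Cert_tree lc_e_Cert_tree lc_e_Cert_tree lc_e_rc_18_1 lc_e_Cert_tree lc_e_rc_27_1 lc_e_rc_19_2 lc_e_rc_18_1 lc_e_rc_16_3 lc_e_Cert_tree lc_e_Cert_tree lc_e_rc_18_1 lc_e_Cert_tree lc_e_rc_18_1 lc_e_rc_9_3 lc_e_rc_16_1 lc_e_Cert_tree lc_e_rc_18_1 lc_e_rc_16_1 lc_e_Cert_tree lc_e_Cert_tree lc_e_rc_18_1 lc_e_Cert_tree lc_e_rc_16_1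 lc_e_rc_4_1 lc_e_Cert_tree lc_e_rc_4_3 lc_e_rc_13_3 lc_e_Cert_tree lc_e_Cert_tree lc_e_Cert_tree lc_e_rc_18_1 lc_e_rc_27_5) (@D3.rec (fun _ => (Cert rels S Gen.e)) lc_e_Cert_tree lc_e_rc_18_1 lc_e_Cert_tree lc_e_Cert_tree lc_e_Cert_tree lc_e_Cert_tree lc_e_rc_18_1 lc_e_Cert_tree lc_e_Cert_tree lc_e_rc_19_4 lc_e_Cert_tree lc_e_rc_13_1 lc_e_rc_18_1 lc_e_Cert_tree lc_e_Cert_tree lc_e_Cert_tree lc_e_rc_13_3 lc_e_rc_18_1 lc_e_Cert_tree lc_e_Cert_tree lc_e_rc_16_1 lc_e_rc_19_2 lc_e_rc_9_3 lc_e_rc_9_1 lc_e_Cert_tree lc_e_rc_18_1 lc_e_Cert_tree lc_e_rc_16_3 lc_e_rc_19_4 lc_e_Cert_tree lc_e_Cert_tree lc_e_rc_13_3 lc_e_rc_18_1 lc_e_Cert_tree lc_e_Cert_tree lc_e_Cert_tree lc_e_rc_18_1 lc_e_Cert_tree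 lc_e_rc_13_3 lc_e_Cert_tree lc_e_Cert_tree lc_e_rc_18_1 lc_e_Cert_tree lc_e_Cert_tree lc_e_Cert_tree lc_e_rc_18_1 lc_e_rc_27_7 lc_e_Cert_tree lc_e_Cert_tree lc_e_rc_16_1 lc_e_Cert_tree lc_e_rc_18_1 lc_e_Cert_tree lc_e_Cert_tree lc_e_Cert_tree lc_e_rc_18_1 lc_e_Cert_tree lc_e_Cert_tree lc_e_rc_27_5 lc_e_rc_18_1 lc_e_rc_18_1 lc_e_Cert_tree) (@D3.rec (fun _ => (Cert rels S Gen.e)) lc_e_Cert_tree lc_e_rc_16_3 lc_e_rc_18_1 lc_e_Cert_tree lc_e_rc_16_3 lc_e_Cert_tree lc_e_rc_13_3 lc_e_Cert_tree lc_e_rc_18_1 lc_e_Cert_tree lc_e_Cert_tree lc_e_Cert_tree lc_e_rc_18_1 lc_e_Cert_tree lc_e_Cert_tree lc_e_rc_16_3 lc_e_rc_9_3 lc_e_Cert_tree lc_e_rc_27_7 lc_e_rc_18_1 lc_e_rc_27_5 lc_e_rc_18_1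 lc_e_Cert_tree lc_e_rc_18_1 lc_e_Cert_tree lc_e_Cert_tree lc_e_Cert_tree lc_e_rc_18_1 lc_e_Cert_tree lc_e_Cert_tree lc_e_rc_18_1 lc_e_rc_19_4 lc_e_Cert_tree lc_e_rc_27_5 lc_e_rc_18_1 lc_e_rc_13_3 lc_e_rc_13_3 lc_e_rc_13_3 lc_e_rc_18_1 lc_e_rc_19_0 lc_e_rc_16_5 lc_e_rc_16_3 lc_e_rc_19_4 lc_e_Cert_tree lc_e_rc_13_3 lc_e_rc_18_1 lc_e_rc_9_3 lc_e_rc_27_7 lc_e_rc_13_3 lc_e_rc_4_3 lc_e_rc_13_3 lc_e_Cert_tree lc_e_rc_9_1 lc_e_rc_18_1 lc_e_rc_4_3 lc_e_Cert_tree lc_e_rc_27_5 lc_e_rc_18_1 lc_e_rc_13_3 lc_e_rc_18_1 lc_e_rc_16_5 lc_e_rc_16_1) (@D3.rec (fun _ => (Cert rels S Gen.e)) lc_e_rc_13_3 lc_e_rc_18_1 lc_e_Cert_tree lc_e_Cert_tree lc_e_rc_18_1 lc_e_rc_18_1 lc_e_rc_9_3 lc_e_rc_18_1 lc_e_rc_18_1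 lc_e_rc_19_4 lc_e_Cert_tree lc_e_Cert_tree lc_e_Cert_tree lc_e_rc_18_1 lc_e_Cert_tree lc_e_rc_16_5 lc_e_rc_27_1 lc_e_rc_18_1 lc_e_rc_19_4 lc_e_Cert_tree lc_e_rc_13_3 lc_e_rc_9_3 lc_e_rc_13_3 lc_e_rc_18_1 lc_e_Cert_tree lc_e_rc_18_1 lc_e_Cert_tree lc_e_rc_18_1 lc_e_Cert_tree lc_e_rc_13_1 lc_e_rc_16_1 lc_e_rc_19_2 lc_e_Cert_tree lc_e_Cert_tree lc_e_rc_16_1 lc_e_rc_19_4 lc_e_Cert_tree lc_e_rc_18_1 lc_e_rc_13_1 lc_e_Cert_tree lc_e_Cert_tree lc_e_Cert_tree lc_e_rc_13_3 lc_e_Cert_tree lc_e_Cert_tree lc_e_rc_9_3 lc_e_Cert_tree lc_e_Cert_tree lc_e_Cert_tree lc_e_rc_18_1 lc_e_rc_13_3 lc_e_rc_18_1 lc_e_rc_9_1 lc_e_Cert_tree lc_e_Cert_tree lc_e_rc_18_1 lc_e_Cert_tree lc_e_rc_18_1 lc_e_rc_9_3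 lc_e_Cert_tree lc_e_rc_18_1 lc_e_rc_16_3) (@D3.rec (fun _ => (Cert rels S Gen.e)) lc_e_Cert_tree lc_e_rc_18_1 lc_e_rc_16_1 lc_e_Cert_tree lc_e_rc_18_1 lc_e_Cert_tree lc_e_Cert_tree lc_e_rc_16_1 lc_e_rc_19_4 lc_e_rc_18_1 lc_e_Cert_tree lc_e_Cert_tree lc_e_rc_13_3 lc_e_rc_19_4 lc_e_rc_9_3 lc_e_Cert_tree lc_e_rc_18_1 lc_e_rc_16_3 lc_e_Cert_tree lc_e_Cert_tree lc_e_Cert_tree lc_e_rc_18_1 lc_e_rc_4_3 lc_e_rc_13_3 lc_e_rc_27_5 lc_e_rc_18_1 lc_e_Cert_tree lc_e_rc_18_1 lc_e_Cert_tree lc_e_rc_13_1 lc_e_rc_18_1 lc_e_Cert_tree lc_e_rc_19_0 lc_e_rc_18_1 lc_e_Cert_tree lc_e_Cert_tree lc_e_rc_19_4 lc_e_rc_9_3 lc_e_rc_27_7 lc_e_rc_13_3 lc_e_rc_9_3 lc_e_rc_18_1 lc_e_Cert_tree lc_e_rc_18_1 lc_e_Cert_tree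 lc_e_Cert_tree lc_e_rc_18_1 lc_e_rc_18_1 lc_e_rc_18_1 lc_e_Cert_tree lc_e_rc_19_4 lc_e_rc_18_1 lc_e_Cert_tree lc_e_rc_18_1 lc_e_rc_18_1 lc_e_Cert_tree lc_e_rc_18_1 lc_e_rc_13_3 lc_e_rc_13_1 lc_e_rc_16_1 lc_e_rc_18_1 lc_e_rc_18_1) (@D3.rec (fun _ => (Cert rels S Gen.e)) lc_e_rc_16_1 lc_e_rc_18_1 lc_e_Cert_tree lc_e_rc_16_1 lc_e_rc_19_4 lc_e_rc_13_3 lc_e_Cert_tree lc_e_rc_18_1 lc_e_rc_18_1 lc_e_rc_27_1 lc_e_rc_16_1 lc_e_rc_27_5 lc_e_rc_18_1 lc_e_rc_27_5 lc_e_Cert_tree lc_e_rc_18_1 lc_e_rc_18_1 lc_e_rc_18_1 lc_e_Cert_tree lc_e_rc_18_1 lc_e_rc_18_1 lc_e_rc_18_1 lc_e_rc_4_3 lc_e_rc_9_3 lc_e_rc_16_1 lc_e_rc_13_3 lc_e_rc_9_1 lc_e_Cert_tree lc_e_Cert_tree lc_e_rc_18_1 lc_e_Cert_tree lc_e_Cert_tree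 lc_e_Cert_tree lc_e_rc_18_1 lc_e_Cert_tree lc_e_rc_27_7 lc_e_rc_13_3 lc_e_rc_19_4 lc_e_rc_4_3 lc_e_rc_27_1 lc_e_rc_27_7 lc_e_rc_4_3 lc_e_Cert_tree lc_e_Cert_tree lc_e_rc_18_1 lc_e_Cert_tree lc_e_Cert_tree lc_e_rc_18_1 lc_e_Cert_tree lc_e_rc_13_3 lc_e_rc_9_3 lc_e_rc_19_0 lc_e_rc_16_3 lc_e_rc_19_0 lc_e_rc_18_1 lc_e_rc_18_1 lc_e_Cert_tree lc_e_rc_18_1 lc_e_rc_18_1 lc_e_rc_16_1 lc_e_rc_9_3 lc_e_rc_19_0) (@D3.rec (fun _ => (Cert rels S Gen.e)) lc_e_rc_9_3 lc_e_rc_18_1 lc_e_Cert_tree lc_e_rc_4_3 lc_e_Cert_tree lc_e_Cert_tree lc_e_rc_9_3 lc_e_rc_18_1 lc_e_rc_9_3 lc_e_Cert_tree lc_e_rc_13_3 lc_e_rc_18_1 lc_e_rc_18_1 lc_e_Cert_tree lc_e_Cert_tree lc_e_rc_27_7 lc_e_rc_18_1 lc_e_rc_27_1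 lc_e_rc_27_1 lc_e_rc_13_3 lc_e_rc_13_3 lc_e_Cert_tree lc_e_Cert_tree lc_e_rc_18_1 lc_e_rc_4_3 lc_e_rc_4_3 lc_e_rc_19_2 lc_e_Cert_tree lc_e_Cert_tree lc_e_rc_18_1 lc_e_rc_27_1 lc_e_rc_27_1 lc_e_rc_13_3 lc_e_rc_27_7 lc_e_rc_18_1 lc_e_rc_18_1 lc_e_rc_27_5 lc_e_rc_4_3 lc_e_rc_13_3 lc_e_Cert_tree lc_e_rc_18_1 lc_e_Cert_tree lc_e_Cert_tree lc_e_rc_9_3 lc_e_Cert_tree lc_e_rc_18_1 lc_e_rc_19_0 lc_e_Cert_tree lc_e_rc_18_1 lc_e_rc_18_1 lc_e_Cert_tree lc_e_rc_18_1 lc_e_rc_18_1 lc_e_rc_16_1 lc_e_rc_19_4 lc_e_Cert_tree lc_e_rc_16_1 lc_e_rc_16_1 lc_e_rc_18_1 lc_e_Cert_tree lc_e_rc_9_1 lc_e_rc_18_1) (@D3.rec (fun _ => (Cert rels S Gen.e)) lc_e_rc_9_3 lc_e_rc_4_3 lc_e_rc_19_4 lc_e_Cert_tree lc_e_Cert_tree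 lc_e_rc_18_1 lc_e_Cert_tree lc_e_rc_18_1 lc_e_rc_16_5 lc_e_rc_18_1 lc_e_rc_18_1 lc_e_Cert_tree lc_e_rc_18_1 lc_e_rc_27_5 lc_e_rc_18_1 lc_e_rc_16_5 lc_e_rc_19_4 lc_e_rc_4_3 lc_e_rc_16_3 lc_e_rc_19_4 lc_e_Cert_tree lc_e_rc_16_5 lc_e_rc_27_1 lc_e_rc_18_1 lc_e_rc_27_7 lc_e_rc_13_1 lc_e_rc_18_1 lc_e_rc_4_1 lc_e_Cert_tree lc_e_rc_27_5 lc_e_rc_13_1 lc_e_rc_18_1 lc_e_Cert_tree lc_e_rc_4_1 lc_e_Cert_tree lc_e_rc_27_5 lc_e_rc_18_1 lc_e_rc_13_1 lc_e_rc_18_1 lc_e_rc_16_1 lc_e_Cert_tree lc_e_rc_18_1 lc_e_Cert_tree lc_e_rc_18_1 lc_e_rc_18_1 lc_e_rc_27_7 lc_e_rc_18_1 lc_e_rc_19_4 lc_e_rc_16_3 lc_e_Cert_tree lc_e_Cert_tree lc_e_Cert_tree lc_e_rc_18_1 lc_e_Cert_tree lc_e_rc_18_1 lc_e_Cert_tree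 lc_e_rc_27_5 lc_e_rc_18_1 lc_e_rc_4_3 lc_e_rc_16_1 lc_e_rc_18_1 lc_e_rc_16_1) (@D3.rec (fun _ => (Cert rels S Gen.e)) lc_e_rc_13_3 lc_e_Cert_tree lc_e_rc_18_1 lc_e_rc_4_3 lc_e_Cert_tree lc_e_rc_4_1 lc_e_rc_19_4 lc_e_Cert_tree lc_e_rc_18_1 lc_e_Cert_tree lc_e_rc_18_1 lc_e_rc_27_1 lc_e_Cert_tree lc_e_rc_19_4 lc_e_rc_13_1 lc_e_rc_18_1 lc_e_Cert_tree lc_e_rc_18_1 lc_e_Cert_tree lc_e_rc_19_4 lc_e_Cert_tree lc_e_rc_18_1 lc_e_rc_18_1 lc_e_Cert_tree lc_e_rc_18_1 lc_e_Cert_tree lc_e_Cert_tree lc_e_Cert_tree lc_e_rc_18_1 lc_e_Cert_tree lc_e_Cert_tree lc_e_rc_27_5 lc_e_rc_18_1 lc_e_Cert_tree lc_e_Cert_tree lc_e_rc_18_1 lc_e_rc_27_5 lc_e_Cert_tree lc_e_rc_19_4 lc_e_rc_27_7 lc_e_rc_27_5 lc_e_rc_18_1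 lc_e_rc_16_5 lc_e_rc_18_1 lc_e_rc_4_3 lc_e_Cert_tree lc_e_Cert_tree lc_e_rc_16_3 lc_e_rc_19_4 lc_e_rc_13_3 lc_e_rc_19_4 lc_e_Cert_tree lc_e_rc_18_1 lc_e_rc_18_1 lc_e_Cert_tree lc_e_rc_18_1 lc_e_rc_13_3 lc_e_rc_4_3 lc_e_rc_18_1 lc_e_Cert_tree lc_e_rc_18_1 lc_e_rc_18_1) (@D3.rec (fun _ => (Cert rels S Gen.e)) lc_e_rc_27_1 lc_e_Cert_tree lc_e_rc_18_1 lc_e_rc_18_1 lc_e_rc_13_3 lc_e_rc_19_4 lc_e_rc_18_1 lc_e_rc_19_4 lc_e_rc_18_1 lc_e_Cert_tree lc_e_rc_19_4 lc_e_rc_18_1 lc_e_rc_18_1 lc_e_rc_4_3 lc_e_rc_19_4 lc_e_Cert_tree lc_e_rc_18_1 lc_e_rc_4_3 lc_e_rc_18_1 lc_e_rc_27_5 lc_e_rc_18_1 lc_e_rc_4_3 lc_e_rc_13_1 lc_e_Cert_tree lc_e_rc_9_3 lc_e_rc_27_7 lc_e_rc_18_1 lc_e_Cert_tree lc_e_rc_19_4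 lc_e_rc_27_5 lc_e_rc_18_1 lc_e_Cert_tree lc_e_rc_18_1 lc_e_rc_13_3 lc_e_rc_16_3 lc_e_Cert_tree lc_e_Cert_tree lc_e_rc_18_1 lc_e_rc_16_1 lc_e_rc_27_7 lc_e_rc_13_3 lc_e_rc_27_5 lc_e_rc_19_2 lc_e_Cert_tree lc_e_Cert_tree lc_e_rc_18_1 lc_e_rc_13_3 lc_e_rc_19_4 lc_e_Cert_tree lc_e_rc_18_1 lc_e_rc_19_2 lc_e_rc_19_2 lc_e_rc_19_0 lc_e_rc_16_3 lc_e_rc_18_1 lc_e_rc_13_3 lc_e_Cert_tree lc_e_rc_16_1 lc_e_Cert_tree lc_e_Cert_tree lc_e_rc_27_5 lc_e_rc_13_3) (@D3.rec (fun _ => (Cert rels S Gen.e)) lc_e_rc_27_5 lc_e_rc_9_3 lc_e_Cert_tree lc_e_rc_18_1 lc_e_Cert_tree lc_e_Cert_tree lc_e_rc_18_1 lc_e_rc_13_3 lc_e_Cert_tree lc_e_rc_4_3 lc_e_Cert_tree lc_e_rc_16_5 lc_e_rc_13_3 lc_e_Cert_tree lc_e_rc_18_1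 lc_e_Cert_tree lc_e_Cert_tree lc_e_Cert_tree lc_e_rc_18_1 lc_e_rc_27_5 lc_e_Cert_tree lc_e_rc_18_1 lc_e_rc_27_1 lc_e_Cert_tree lc_e_rc_16_1 lc_e_rc_18_1 lc_e_rc_16_1 lc_e_Cert_tree lc_e_rc_18_1 lc_e_Cert_tree lc_e_Cert_tree lc_e_Cert_tree lc_e_rc_18_1 lc_e_rc_16_1 lc_e_rc_13_3 lc_e_rc_18_1 lc_e_rc_16_1 lc_e_rc_19_0 lc_e_Cert_tree lc_e_Cert_tree lc_e_rc_13_3 lc_e_Cert_tree lc_e_Cert_tree lc_e_rc_18_1 lc_e_Cert_tree lc_e_rc_18_1 lc_e_rc_19_4 lc_e_Cert_tree lc_e_rc_18_1 lc_e_Cert_tree lc_e_rc_18_1 lc_e_Cert_tree lc_e_rc_18_1 lc_e_rc_4_3 lc_e_rc_16_1 lc_e_rc_18_1 lc_e_rc_9_3 lc_e_rc_13_3 lc_e_Cert_tree lc_e_rc_19_0 lc_e_Cert_tree lc_e_rc_18_1) (@D3.rec (fun _ => (Cert rels S Gen.e))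 lc_e_Cert_tree lc_e_rc_13_3 lc_e_Cert_tree lc_e_Cert_tree lc_e_Cert_tree lc_e_rc_18_1 lc_e_rc_16_1 lc_e_rc_13_1 lc_e_rc_18_1 lc_e_Cert_tree lc_e_rc_18_1 lc_e_Cert_tree lc_e_rc_18_1 lc_e_Cert_tree lc_e_Cert_tree lc_e_rc_18_1 lc_e_Cert_tree lc_e_Cert_tree lc_e_rc_16_1 lc_e_rc_18_1 lc_e_rc_9_1 lc_e_Cert_tree lc_e_rc_18_1 lc_e_Cert_tree lc_e_Cert_tree lc_e_rc_13_3 lc_e_Cert_tree lc_e_rc_13_3 lc_e_rc_18_1 lc_e_Cert_tree lc_e_rc_16_3 lc_e_rc_19_4 lc_e_rc_4_3 lc_e_rc_18_1 lc_e_rc_13_3 lc_e_Cert_tree lc_e_rc_18_1 lc_e_rc_27_5 lc_e_rc_16_3 lc_e_rc_19_4 lc_e_Cert_tree lc_e_Cert_tree lc_e_rc_18_1 lc_e_rc_19_4 lc_e_Cert_tree lc_e_rc_18_1 lc_e_rc_4_3 lc_e_Cert_tree lc_e_rc_13_3 lc_e_Cert_tree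 lc_e_rc_13_3 lc_e_Cert_tree lc_e_rc_18_1 lc_e_Cert_tree lc_e_Cert_tree lc_e_rc_18_1 lc_e_rc_16_1 lc_e_rc_9_3 lc_e_rc_27_5 lc_e_rc_19_0 lc_e_Cert_tree lc_e_Cert_tree) (@D3.rec (fun _ => (Cert rels S Gen.e)) lc_e_rc_18_1 lc_e_Cert_tree lc_e_Cert_tree lc_e_rc_18_1 lc_e_Cert_tree lc_e_rc_18_1 lc_e_Cert_tree lc_e_rc_13_1 lc_e_Cert_tree lc_e_Cert_tree lc_e_rc_18_1 lc_e_Cert_tree lc_e_Cert_tree lc_e_rc_18_1 lc_e_rc_18_1 lc_e_rc_4_3 lc_e_rc_4_3 lc_e_rc_18_1 lc_e_rc_18_1 lc_e_rc_13_3 lc_e_rc_4_1 lc_e_rc_18_1 lc_e_rc_18_1 lc_e_rc_9_3 lc_e_Cert_tree lc_e_Cert_tree lc_e_rc_4_3 lc_e_Cert_tree lc_e_Cert_tree lc_e_Cert_tree lc_e_rc_18_1 lc_e_Cert_tree lc_e_Cert_tree lc_e_rc_18_1 lc_e_Cert_tree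 lc_e_Cert_tree lc_e_rc_9_1 lc_e_rc_18_1 lc_e_rc_18_1 lc_e_Cert_tree lc_e_rc_18_1 lc_e_rc_16_1 lc_e_Cert_tree lc_e_Cert_tree lc_e_rc_18_1 lc_e_rc_16_1 lc_e_rc_13_3 lc_e_Cert_tree lc_e_rc_18_1 lc_e_rc_27_5 lc_e_rc_16_1 lc_e_Cert_tree lc_e_rc_9_3 lc_e_rc_18_1 lc_e_Cert_tree lc_e_rc_18_1 lc_e_rc_16_1 lc_e_rc_19_4 lc_e_rc_19_4 lc_e_rc_4_3 lc_e_rc_13_3 lc_e_Cert_tree) (@D3.rec (fun _ => (Cert rels S Gen.e)) lc_e_Cert_tree lc_e_Cert_tree lc_e_rc_18_1 lc_e_rc_13_3 lc_e_Cert_tree lc_e_rc_18_1 lc_e_rc_16_1 lc_e_rc_13_3 lc_e_rc_13_3 lc_e_Cert_tree lc_e_Cert_tree lc_e_rc_18_1 lc_e_rc_13_3 lc_e_Cert_tree lc_e_Cert_tree lc_e_Cert_tree lc_e_rc_18_1 lc_e_Cert_tree lc_e_Cert_tree lc_e_rc_16_1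 lc_e_rc_19_4 lc_e_rc_13_3 lc_e_Cert_tree lc_e_rc_13_3 lc_e_Cert_tree lc_e_Cert_tree lc_e_Cert_tree lc_e_rc_13_3 lc_e_Cert_tree lc_e_rc_13_1 lc_e_Cert_tree lc_e_rc_18_1 lc_e_rc_4_3 lc_e_rc_19_4 lc_e_rc_18_1 lc_e_Cert_tree lc_e_Cert_tree lc_e_rc_18_1 lc_e_Cert_tree lc_e_rc_16_3 lc_e_rc_19_4 lc_e_Cert_tree lc_e_rc_18_1 lc_e_rc_18_1 lc_e_rc_4_3 lc_e_rc_9_3 lc_e_Cert_tree lc_e_Cert_tree lc_e_rc_13_1 lc_e_rc_27_1 lc_e_Cert_tree lc_e_rc_27_7 lc_e_rc_18_1 lc_e_Cert_tree lc_e_Cert_tree lc_e_Cert_tree lc_e_rc_18_1 lc_e_Cert_tree lc_e_rc_9_1 lc_e_rc_13_3 lc_e_Cert_tree lc_e_rc_13_3) (@D3.rec (fun _ => (Cert rels S Gen.e)) lc_e_Cert_tree lc_e_Cert_tree lc_e_rc_18_1 lc_e_Cert_tree lc_e_rc_27_1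 lc_e_rc_18_1 lc_e_rc_9_3 lc_e_rc_13_3 lc_e_rc_27_5 lc_e_Cert_tree lc_e_rc_13_3 lc_e_Cert_tree lc_e_Cert_tree lc_e_rc_18_1 lc_e_rc_9_3 lc_e_Cert_tree lc_e_Cert_tree lc_e_rc_18_1 lc_e_rc_13_3 lc_e_rc_13_3 lc_e_Cert_tree lc_e_rc_9_3 lc_e_rc_18_1 lc_e_rc_16_1 lc_e_rc_18_1 lc_e_rc_18_1 lc_e_rc_4_3 lc_e_rc_13_3 lc_e_rc_18_1 lc_e_rc_16_1 lc_e_rc_13_3 lc_e_rc_18_1 lc_e_rc_16_1 lc_e_Cert_tree lc_e_rc_13_3 lc_e_rc_27_7 lc_e_rc_18_1 lc_e_rc_18_1 lc_e_Cert_tree lc_e_Cert_tree lc_e_rc_18_1 lc_e_rc_18_1 lc_e_rc_9_3 lc_e_rc_16_1 lc_e_rc_19_4 lc_e_Cert_tree lc_e_Cert_tree lc_e_rc_13_1 lc_e_Cert_tree lc_e_rc_19_2 lc_e_rc_27_5 lc_e_Cert_tree lc_e_rc_18_1 lc_e_rc_18_1 lc_e_rc_16_1 lc_e_Cert_tree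 lc_e_rc_18_1 lc_e_rc_9_1 lc_e_rc_18_1 lc_e_rc_18_1 lc_e_rc_13_3 lc_e_rc_16_1) (@D3.rec (fun _ => (Cert rels S Gen.e)) lc_e_Cert_tree lc_e_rc_18_1 lc_e_rc_18_1 lc_e_rc_13_1 lc_e_Cert_tree lc_e_Cert_tree lc_e_rc_18_1 lc_e_rc_18_1 lc_e_rc_18_1 lc_e_rc_16_3 lc_e_rc_18_1 lc_e_Cert_tree lc_e_Cert_tree lc_e_rc_18_1 lc_e_Cert_tree lc_e_rc_18_1 lc_e_Cert_tree lc_e_Cert_tree lc_e_rc_4_1 lc_e_Cert_tree lc_e_rc_18_1 lc_e_Cert_tree lc_e_Cert_tree lc_e_Cert_tree lc_e_rc_18_1 lc_e_Cert_tree lc_e_rc_18_1 lc_e_rc_18_1 lc_e_rc_16_3 lc_e_rc_18_1 lc_e_rc_19_0 lc_e_rc_18_1 lc_e_rc_18_1 lc_e_rc_19_4 lc_e_rc_18_1 lc_e_rc_13_3 lc_e_rc_18_1 lc_e_rc_18_1 lc_e_rc_16_1 lc_e_Cert_tree lc_e_Cert_tree lc_e_rc_18_1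 lc_e_Cert_tree lc_e_Cert_tree lc_e_rc_16_1 lc_e_rc_13_1 lc_e_Cert_tree lc_e_Cert_tree lc_e_rc_16_3 lc_e_rc_13_3 lc_e_Cert_tree lc_e_Cert_tree lc_e_rc_18_1 lc_e_Cert_tree lc_e_Cert_tree lc_e_rc_16_1 lc_e_rc_19_4 lc_e_Cert_tree lc_e_rc_13_3 lc_e_Cert_tree lc_e_Cert_tree lc_e_rc_18_1) (@D3.rec (fun _ => (Cert rels S Gen.e)) lc_e_rc_18_1 lc_e_Cert_tree lc_e_Cert_tree lc_e_rc_16_1 lc_e_rc_13_1 lc_e_Cert_tree lc_e_rc_27_5 lc_e_rc_18_1 lc_e_rc_16_3 lc_e_rc_13_3 lc_e_Cert_tree lc_e_Cert_tree lc_e_rc_18_1 lc_e_rc_13_3 lc_e_rc_27_5 lc_e_Cert_tree lc_e_rc_18_1 lc_e_rc_9_3 lc_e_Cert_tree lc_e_Cert_tree lc_e_rc_18_1 lc_e_Cert_tree lc_e_rc_18_1 lc_e_rc_18_1 lc_e_rc_19_4 lc_e_rc_16_1 lc_e_rc_19_4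 lc_e_Cert_tree lc_e_Cert_tree lc_e_rc_16_3 lc_e_rc_18_1 lc_e_Cert_tree lc_e_rc_13_1 lc_e_rc_27_1 lc_e_rc_18_1 lc_e_rc_18_1 lc_e_Cert_tree lc_e_Cert_tree lc_e_rc_18_1 lc_e_Cert_tree lc_e_Cert_tree lc_e_rc_16_3 lc_e_rc_19_4 lc_e_rc_13_3 lc_e_rc_18_1 lc_e_rc_18_1 lc_e_Cert_tree lc_e_Cert_tree lc_e_Cert_tree lc_e_Cert_tree lc_e_rc_18_1 lc_e_Cert_tree lc_e_rc_9_3 lc_e_rc_18_1 lc_e_rc_19_0 lc_e_rc_16_1 lc_e_rc_19_4 lc_e_rc_16_5 lc_e_rc_13_1 lc_e_Cert_tree lc_e_rc_18_1 lc_e_rc_18_1)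
def ce_e_6 : D2 → D3 → (Cert rels S Gen.e) := @D2.rec (fun _ => D3 → (Cert rels S Gen.e)) (@D3.rec (fun _ => (Cert rels S Gen.e)) lc_e_rc_16_3 lc_e_Cert_tree lc_e_rc_18_1 lc_e_Cert_tree lc_e_rc_18_1 lc_e_Cert_tree lc_e_Cert_tree lc_e_rc_19_4 lc_e_Cert_tree lc_e_Cert_tree lc_e_Cert_tree lc_e_rc_18_1 lc_e_rc_18_1 lc_e_Cert_tree lc_e_Cert_tree lc_e_rc_16_1 lc_e_rc_13_1 lc_e_Cert_tree lc_e_rc_19_2 lc_e_rc_18_1 lc_e_rc_27_7 lc_e_rc_27_5 lc_e_rc_18_1 lc_e_Cert_tree lc_e_Cert_tree lc_e_rc_13_1 lc_e_rc_19_4 lc_e_Cert_tree lc_e_rc_27_1 lc_e_rc_4_3 lc_e_rc_13_3 lc_e_Cert_tree lc_e_rc_18_1 lc_e_Cert_tree lc_e_rc_18_1 lc_e_rc_27_5 lc_e_rc_19_4 lc_e_Cert_tree lc_e_Cert_tree lc_e_Cert_tree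 lc_e_Cert_tree lc_e_Cert_tree lc_e_rc_18_1 lc_e_rc_18_1 lc_e_rc_16_1 lc_e_rc_4_1 lc_e_rc_18_1 lc_e_Cert_tree lc_e_rc_18_1 lc_e_Cert_tree lc_e_Cert_tree lc_e_rc_16_1 lc_e_rc_19_4 lc_e_rc_4_3 lc_e_Cert_tree lc_e_rc_9_3 lc_e_rc_9_3 lc_e_rc_16_5 lc_e_Cert_tree lc_e_Cert_tree lc_e_rc_13_3 lc_e_Cert_tree) (@D3.rec (fun _ => (Cert rels S Gen.e)) lc_e_rc_27_5 lc_e_rc_19_2 lc_e_Cert_tree lc_e_rc_16_3 lc_e_rc_18_1 lc_e_rc_27_7 lc_e_Cert_tree lc_e_Cert_tree lc_e_rc_18_1 lc_e_Cert_tree lc_e_rc_9_3 lc_e_Cert_tree lc_e_rc_18_1 lc_e_rc_18_1 lc_e_rc_27_5 lc_e_rc_27_1 lc_e_rc_27_5 lc_e_Cert_tree lc_e_Cert_tree lc_e_Cert_tree lc_e_rc_18_1 lc_e_rc_9_3 lc_e_rc_16_5 lc_e_Cert_tree lc_e_rc_18_1 lc_e_rc_19_4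 lc_e_rc_16_3 lc_e_Cert_tree lc_e_rc_18_1 lc_e_Cert_tree lc_e_rc_18_1 lc_e_Cert_tree lc_e_rc_18_1 lc_e_Cert_tree lc_e_Cert_tree lc_e_rc_18_1 lc_e_Cert_tree lc_e_Cert_tree lc_e_rc_9_1 lc_e_Cert_tree lc_e_rc_4_3 lc_e_Cert_tree lc_e_rc_9_3 lc_e_rc_19_4 lc_e_rc_16_3 lc_e_rc_19_4 lc_e_Cert_tree lc_e_rc_18_1 lc_e_rc_27_7 lc_e_Cert_tree lc_e_Cert_tree lc_e_rc_18_1 lc_e_rc_13_3 lc_e_rc_13_3 lc_e_Cert_tree lc_e_rc_9_1 lc_e_rc_9_3 lc_e_Cert_tree lc_e_rc_18_1 lc_e_rc_19_0 lc_e_rc_13_3 lc_e_Cert_tree) (@D3.rec (fun _ => (Cert rels S Gen.e)) lc_e_rc_9_3 lc_e_rc_19_4 lc_e_Cert_tree lc_e_rc_27_7 lc_e_rc_19_4 lc_e_rc_27_1 lc_e_rc_18_1 lc_e_rc_16_1 lc_e_rc_9_3 lc_e_rc_13_1 lc_e_rc_18_1 lc_e_Cert_tree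 lc_e_Cert_tree lc_e_rc_18_1 lc_e_rc_4_1 lc_e_rc_4_1 lc_e_rc_19_4 lc_e_Cert_tree lc_e_rc_18_1 lc_e_rc_18_1 lc_e_Cert_tree lc_e_Cert_tree lc_e_rc_18_1 lc_e_Cert_tree lc_e_Cert_tree lc_e_rc_27_7 lc_e_rc_19_4 lc_e_Cert_tree lc_e_rc_27_7 lc_e_rc_18_1 lc_e_rc_13_1 lc_e_rc_27_5 lc_e_rc_18_1 lc_e_Cert_tree lc_e_rc_9_3 lc_e_Cert_tree lc_e_rc_27_5 lc_e_rc_18_1 lc_e_rc_13_1 lc_e_rc_18_1 lc_e_rc_16_1 lc_e_rc_13_1 lc_e_rc_18_1 lc_e_rc_18_1 lc_e_rc_27_5 lc_e_rc_13_3 lc_e_rc_9_3 lc_e_Cert_tree lc_e_Cert_tree lc_e_rc_18_1 lc_e_rc_13_3 lc_e_rc_9_3 lc_e_rc_18_1 lc_e_rc_27_5 lc_e_rc_4_1 lc_e_rc_16_5 lc_e_rc_18_1 lc_e_rc_18_1 lc_e_Cert_tree lc_e_rc_27_5 lc_e_rc_27_7 lc_e_rc_13_3) (@D3.rec (fun _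 => (Cert rels S Gen.e)) lc_e_rc_19_2 lc_e_rc_19_2 lc_e_rc_4_1 lc_e_rc_19_0 lc_e_rc_9_3 lc_e_rc_13_3 lc_e_rc_9_3 lc_e_rc_18_1 lc_e_rc_13_3 lc_e_rc_9_3 lc_e_rc_27_7 lc_e_rc_13_3 lc_e_Cert_tree lc_e_rc_27_5 lc_e_Cert_tree lc_e_Cert_tree lc_e_rc_18_1 lc_e_Cert_tree lc_e_rc_18_1 lc_e_rc_16_1 lc_e_rc_13_3 lc_e_Cert_tree lc_e_rc_18_1 lc_e_rc_16_1 lc_e_Cert_tree lc_e_rc_9_3 lc_e_Cert_tree lc_e_Cert_tree lc_e_rc_18_1 lc_e_rc_18_1 lc_e_rc_18_1 lc_e_Cert_tree lc_e_rc_18_1 lc_e_rc_18_1 lc_e_Cert_tree lc_e_rc_19_4 lc_e_Cert_tree lc_e_rc_18_1 lc_e_Cert_tree lc_e_rc_18_1 lc_e_rc_19_4 lc_e_Cert_tree lc_e_rc_18_1 lc_e_Cert_tree lc_e_rc_18_1 lc_e_rc_18_1 lc_e_rc_19_2 lc_e_rc_19_4 lc_e_Cert_tree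 lc_e_rc_18_1 lc_e_Cert_tree lc_e_rc_18_1 lc_e_Cert_tree lc_e_rc_4_1 lc_e_rc_19_4 lc_e_Cert_tree lc_e_rc_18_1 lc_e_rc_13_3 lc_e_rc_18_1 lc_e_Cert_tree lc_e_Cert_tree lc_e_rc_4_3) (@D3.rec (fun _ => (Cert rels S Gen.e)) lc_e_Cert_tree lc_e_rc_18_1 lc_e_Cert_tree lc_e_rc_18_1 lc_e_Cert_tree lc_e_rc_18_1 lc_e_rc_18_1 lc_e_rc_27_5 lc_e_rc_19_4 lc_e_rc_13_3 lc_e_rc_18_1 lc_e_Cert_tree lc_e_rc_18_1 lc_e_rc_18_1 lc_e_rc_18_1 lc_e_rc_16_3 lc_e_Cert_tree lc_e_Cert_tree lc_e_rc_9_3 lc_e_Cert_tree lc_e_Cert_tree lc_e_rc_9_3 lc_e_Cert_tree lc_e_rc_18_1 lc_e_Cert_tree lc_e_rc_18_1 lc_e_Cert_tree lc_e_rc_18_1 lc_e_Cert_tree lc_e_Cert_tree lc_e_rc_9_3 lc_e_Cert_tree lc_e_Cert_tree lc_e_rc_18_1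 lc_e_Cert_tree lc_e_rc_18_1 lc_e_Cert_tree lc_e_rc_18_1 lc_e_Cert_tree lc_e_Cert_tree lc_e_Cert_tree lc_e_rc_18_1 lc_e_rc_27_5 lc_e_rc_9_3 lc_e_rc_19_4 lc_e_rc_27_1 lc_e_rc_27_5 lc_e_rc_18_1 lc_e_Cert_tree lc_e_rc_18_1 lc_e_Cert_tree lc_e_Cert_tree lc_e_rc_18_1 lc_e_rc_27_5 lc_e_rc_16_1 lc_e_rc_19_4 lc_e_Cert_tree lc_e_rc_18_1 lc_e_Cert_tree lc_e_rc_19_2 lc_e_rc_18_1 lc_e_rc_27_5) (@D3.rec (fun _ => (Cert rels S Gen.e)) lc_e_Cert_tree lc_e_rc_19_4 lc_e_rc_18_1 lc_e_Cert_tree lc_e_Cert_tree lc_e_rc_18_1 lc_e_Cert_tree lc_e_rc_27_5 lc_e_rc_19_4 lc_e_Cert_tree lc_e_Cert_tree lc_e_rc_18_1 lc_e_Cert_tree lc_e_Cert_tree lc_e_rc_18_1 lc_e_Cert_tree lc_e_Cert_tree lc_e_rc_4_3 lc_e_Cert_tree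 lc_e_Cert_tree lc_e_Cert_tree lc_e_Cert_tree lc_e_Cert_tree lc_e_rc_18_1 lc_e_Cert_tree lc_e_rc_18_1 lc_e_Cert_tree lc_e_rc_18_1 lc_e_Cert_tree lc_e_rc_27_7 lc_e_rc_13_3 lc_e_Cert_tree lc_e_rc_18_1 lc_e_rc_27_5 lc_e_rc_27_1 lc_e_rc_19_4 lc_e_rc_9_3 lc_e_Cert_tree lc_e_rc_27_5 lc_e_rc_19_4 lc_e_rc_19_4 lc_e_rc_9_3 lc_e_Cert_tree lc_e_rc_18_1 lc_e_rc_16_1 lc_e_rc_13_3 lc_e_rc_27_5 lc_e_rc_16_3 lc_e_Cert_tree lc_e_Cert_tree lc_e_rc_18_1 lc_e_rc_19_0 lc_e_rc_19_4 lc_e_rc_27_5 lc_e_Cert_tree lc_e_Cert_tree lc_e_rc_18_1 lc_e_rc_16_3 lc_e_rc_13_3 lc_e_Cert_tree lc_e_Cert_tree lc_e_Cert_tree) (@D3.rec (fun _ => (Cert rels S Gen.e)) lc_e_rc_18_1 lc_e_rc_18_1 lc_e_Cert_tree lc_e_rc_19_4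 lc_e_Cert_tree lc_e_rc_27_5 lc_e_Cert_tree lc_e_rc_13_3 lc_e_rc_18_1 lc_e_rc_18_1 lc_e_rc_13_1 lc_e_rc_13_3 lc_e_rc_16_1 lc_e_rc_9_3 lc_e_rc_16_3 lc_e_rc_18_1 lc_e_rc_13_3 lc_e_Cert_tree lc_e_rc_13_3 lc_e_Cert_tree lc_e_rc_18_1 lc_e_Cert_tree lc_e_rc_27_5 lc_e_rc_19_4 lc_e_rc_13_3 lc_e_Cert_tree lc_e_rc_16_5 lc_e_rc_13_3 lc_e_rc_18_1 lc_e_rc_18_1 lc_e_rc_16_5 lc_e_rc_27_5 lc_e_rc_19_4 lc_e_Cert_tree lc_e_rc_13_3 lc_e_rc_18_1 lc_e_rc_18_1 lc_e_rc_9_3 lc_e_rc_16_3 lc_e_rc_13_3 lc_e_Cert_tree lc_e_rc_9_3 lc_e_Cert_tree lc_e_rc_18_1 lc_e_rc_4_3 lc_e_Cert_tree lc_e_rc_9_3 lc_e_rc_18_1 lc_e_Cert_tree lc_e_rc_18_1 lc_e_rc_18_1 lc_e_rc_13_3 lc_e_rc_18_1 lc_e_rc_4_3 lc_e_Cert_tree lc_e_rc_27_1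 lc_e_rc_16_3 lc_e_Cert_tree lc_e_rc_13_3 lc_e_Cert_tree lc_e_Cert_tree lc_e_rc_18_1) (@D3.rec (fun _ => (Cert rels S Gen.e)) lc_e_rc_27_5 lc_e_Cert_tree lc_e_rc_19_2 lc_e_Cert_tree lc_e_rc_27_5 lc_e_rc_16_5 lc_e_rc_18_1 lc_e_rc_9_3 lc_e_Cert_tree lc_e_rc_18_1 lc_e_rc_4_3 lc_e_rc_13_3 lc_e_Cert_tree lc_e_Cert_tree lc_e_rc_18_1 lc_e_rc_19_0 lc_e_rc_19_4 lc_e_Cert_tree lc_e_Cert_tree lc_e_rc_18_1 lc_e_rc_16_3 lc_e_rc_19_2 lc_e_rc_9_3 lc_e_rc_13_1 lc_e_rc_9_3 lc_e_rc_19_4 lc_e_rc_13_1 lc_e_rc_27_1 lc_e_rc_18_1 lc_e_rc_16_1 lc_e_rc_19_0 lc_e_Cert_tree lc_e_rc_4_1 lc_e_Cert_tree lc_e_rc_4_3 lc_e_Cert_tree lc_e_Cert_tree lc_e_Cert_tree lc_e_rc_27_7 lc_e_rc_18_1 lc_e_rc_18_1 lc_e_Cert_tree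 lc_e_rc_18_1 lc_e_rc_19_4 lc_e_rc_18_1 lc_e_rc_16_1 lc_e_rc_19_2 lc_e_rc_18_1 lc_e_rc_16_1 lc_e_rc_18_1 lc_e_rc_16_5 lc_e_rc_18_1 lc_e_Cert_tree lc_e_rc_18_1 lc_e_Cert_tree lc_e_rc_18_1 lc_e_Cert_tree lc_e_rc_18_1 lc_e_rc_16_1 lc_e_rc_4_1 lc_e_rc_9_3 lc_e_Cert_tree) (@D3.rec (fun _ => (Cert rels S Gen.e)) lc_e_rc_13_1 lc_e_rc_18_1 lc_e_rc_13_1 lc_e_rc_27_7 lc_e_Cert_tree lc_e_rc_18_1 lc_e_Cert_tree lc_e_rc_13_3 lc_e_rc_13_1 lc_e_Cert_tree lc_e_rc_18_1 lc_e_rc_18_1 lc_e_Cert_tree lc_e_rc_16_3 lc_e_rc_13_3 lc_e_Cert_tree lc_e_rc_18_1 lc_e_Cert_tree lc_e_rc_9_1 lc_e_rc_27_1 lc_e_Cert_tree lc_e_rc_27_5 lc_e_rc_18_1 lc_e_rc_13_1 lc_e_rc_16_3 lc_e_rc_19_4 lc_e_rc_9_1 lc_e_rc_18_1 lc_e_rc_27_5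 lc_e_rc_18_1 lc_e_rc_27_5 lc_e_rc_18_1 lc_e_rc_16_3 lc_e_rc_16_3 lc_e_Cert_tree lc_e_rc_18_1 lc_e_rc_13_3 lc_e_Cert_tree lc_e_rc_18_1 lc_e_rc_18_1 lc_e_Cert_tree lc_e_rc_16_1 lc_e_rc_19_4 lc_e_rc_27_7 lc_e_rc_27_5 lc_e_rc_27_7 lc_e_rc_18_1 lc_e_Cert_tree lc_e_Cert_tree lc_e_Cert_tree lc_e_rc_18_1 lc_e_rc_18_1 lc_e_rc_27_5 lc_e_rc_13_3 lc_e_rc_9_3 lc_e_rc_13_1 lc_e_rc_18_1 lc_e_rc_9_3 lc_e_Cert_tree lc_e_Cert_tree lc_e_rc_18_1 lc_e_Cert_tree) (@D3.rec (fun _ => (Cert rels S Gen.e)) lc_e_rc_18_1 lc_e_rc_19_2 lc_e_rc_18_1 lc_e_rc_19_4 lc_e_rc_18_1 lc_e_rc_13_3 lc_e_Cert_tree lc_e_rc_18_1 lc_e_rc_9_3 lc_e_Cert_tree lc_e_rc_18_1 lc_e_Cert_tree lc_e_Cert_tree lc_e_rc_16_1 lc_e_rc_19_4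 lc_e_Cert_tree lc_e_rc_13_3 lc_e_Cert_tree lc_e_rc_13_3 lc_e_rc_13_3 lc_e_Cert_tree lc_e_rc_18_1 lc_e_Cert_tree lc_e_Cert_tree lc_e_rc_18_1 lc_e_Cert_tree lc_e_rc_9_3 lc_e_Cert_tree lc_e_Cert_tree lc_e_Cert_tree lc_e_rc_4_3 lc_e_rc_18_1 lc_e_rc_9_1 lc_e_rc_13_3 lc_e_rc_13_3 lc_e_rc_18_1 lc_e_rc_18_1 lc_e_Cert_tree lc_e_rc_18_1 lc_e_rc_16_3 lc_e_rc_13_3 lc_e_Cert_tree lc_e_rc_13_3 lc_e_rc_9_3 lc_e_Cert_tree lc_e_Cert_tree lc_e_Cert_tree lc_e_rc_4_3 lc_e_Cert_tree lc_e_rc_18_1 lc_e_rc_18_1 lc_e_rc_16_1 lc_e_rc_16_1 lc_e_rc_19_4 lc_e_rc_13_3 lc_e_rc_13_3 lc_e_rc_16_3 lc_e_rc_19_0 lc_e_rc_16_3 lc_e_rc_13_3 lc_e_rc_16_3 lc_e_rc_13_3) (@D3.rec (fun _ => (Cert rels S Gen.e)) lc_e_rc_13_3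 lc_e_rc_9_3 lc_e_Cert_tree lc_e_rc_4_3 lc_e_Cert_tree lc_e_rc_4_3 lc_e_rc_9_3 lc_e_Cert_tree lc_e_Cert_tree lc_e_Cert_tree lc_e_Cert_tree lc_e_Cert_tree lc_e_rc_18_1 lc_e_rc_18_1 lc_e_rc_13_3 lc_e_rc_19_4 lc_e_Cert_tree lc_e_Cert_tree lc_e_rc_27_7 lc_e_rc_18_1 lc_e_rc_4_3 lc_e_Cert_tree lc_e_rc_18_1 lc_e_rc_9_3 lc_e_Cert_tree lc_e_rc_18_1 lc_e_rc_18_1 lc_e_rc_16_5 lc_e_rc_4_1 lc_e_Cert_tree lc_e_Cert_tree lc_e_Cert_tree lc_e_Cert_tree lc_e_rc_18_1 lc_e_rc_18_1 lc_e_rc_16_1 lc_e_rc_13_3 lc_e_Cert_tree lc_e_rc_18_1 lc_e_rc_9_3 lc_e_rc_18_1 lc_e_Cert_tree lc_e_rc_13_1 lc_e_rc_27_5 lc_e_rc_18_1 lc_e_rc_18_1 lc_e_rc_16_1 lc_e_rc_18_1 lc_e_rc_18_1 lc_e_rc_16_1 lc_e_rc_13_3 lc_e_rc_9_1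 lc_e_rc_18_1 lc_e_Cert_tree lc_e_rc_18_1 lc_e_Cert_tree lc_e_rc_18_1 lc_e_Cert_tree lc_e_rc_18_1 lc_e_Cert_tree lc_e_Cert_tree lc_e_rc_16_1) (@D3.rec (fun _ => (Cert rels S Gen.e)) lc_e_rc_19_4 lc_e_Cert_tree lc_e_Cert_tree lc_e_rc_16_1 lc_e_rc_19_2 lc_e_rc_18_1 lc_e_Cert_tree lc_e_Cert_tree lc_e_rc_18_1 lc_e_rc_13_1 lc_e_rc_18_1 lc_e_rc_13_3 lc_e_rc_18_1 lc_e_Cert_tree lc_e_Cert_tree lc_e_rc_4_3 lc_e_rc_19_2 lc_e_Cert_tree lc_e_rc_18_1 lc_e_rc_4_3 lc_e_rc_27_5 lc_e_rc_18_1 lc_e_rc_18_1 lc_e_rc_27_5 lc_e_rc_27_7 lc_e_rc_4_3 lc_e_rc_4_1 lc_e_rc_13_1 lc_e_rc_18_1 lc_e_Cert_tree lc_e_Cert_tree lc_e_rc_18_1 lc_e_rc_27_5 lc_e_Cert_tree lc_e_rc_27_1 lc_e_rc_19_4 lc_e_rc_16_3 lc_e_rc_18_1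 lc_e_rc_27_1 lc_e_Cert_tree lc_e_Cert_tree lc_e_Cert_tree lc_e_rc_18_1 lc_e_rc_13_3 lc_e_rc_4_3 lc_e_rc_27_7 lc_e_rc_19_2 lc_e_Cert_tree lc_e_rc_9_3 lc_e_Cert_tree lc_e_rc_18_1 lc_e_rc_27_1 lc_e_rc_19_4 lc_e_Cert_tree lc_e_rc_18_1 lc_e_rc_27_1 lc_e_Cert_tree lc_e_rc_27_5 lc_e_rc_18_1 lc_e_Cert_tree lc_e_rc_16_3 lc_e_rc_13_3) (@D3.rec (fun _ => (Cert rels S Gen.e)) lc_e_rc_19_4 lc_e_rc_18_1 lc_e_rc_18_1 lc_e_Cert_tree lc_e_rc_13_1 lc_e_Cert_tree lc_e_rc_18_1 lc_e_rc_18_1 lc_e_Cert_tree lc_e_Cert_tree lc_e_rc_18_1 lc_e_rc_13_3 lc_e_Cert_tree lc_e_rc_18_1 lc_e_Cert_tree lc_e_Cert_tree lc_e_rc_9_3 lc_e_rc_18_1 lc_e_rc_19_0 lc_e_rc_18_1 lc_e_rc_4_3 lc_e_rc_27_1 lc_e_rc_18_1 lc_e_rc_18_1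 lc_e_rc_18_1 lc_e_rc_16_5 lc_e_rc_18_1 lc_e_rc_27_1 lc_e_rc_13_3 lc_e_rc_18_1 lc_e_rc_27_7 lc_e_rc_16_5 lc_e_rc_18_1 lc_e_rc_18_1 lc_e_rc_27_7 lc_e_rc_13_3 lc_e_Cert_tree lc_e_Cert_tree lc_e_rc_18_1 lc_e_rc_9_3 lc_e_Cert_tree lc_e_rc_18_1 lc_e_rc_27_1 lc_e_rc_18_1 lc_e_rc_18_1 lc_e_rc_13_3 lc_e_rc_13_3 lc_e_rc_18_1 lc_e_rc_4_1 lc_e_Cert_tree lc_e_rc_27_7 lc_e_rc_18_1 lc_e_rc_13_1 lc_e_rc_18_1 lc_e_rc_16_5 lc_e_rc_18_1 lc_e_rc_4_3 lc_e_Cert_tree lc_e_rc_18_1 lc_e_rc_13_3 lc_e_rc_13_3 lc_e_rc_9_3) (@D3.rec (fun _ => (Cert rels S Gen.e)) lc_e_rc_16_3 lc_e_Cert_tree lc_e_Cert_tree lc_e_rc_4_3 lc_e_rc_16_3 lc_e_rc_9_3 lc_e_Cert_tree lc_e_Cert_tree lc_e_Cert_tree lc_e_Cert_tree lc_e_rc_13_3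 lc_e_Cert_tree lc_e_rc_18_1 lc_e_Cert_tree lc_e_rc_27_1 lc_e_rc_18_1 lc_e_rc_27_5 lc_e_rc_18_1 lc_e_rc_16_3 lc_e_rc_19_4 lc_e_rc_19_0 lc_e_Cert_tree lc_e_rc_9_3 lc_e_rc_13_3 lc_e_Cert_tree lc_e_rc_18_1 lc_e_Cert_tree lc_e_rc_13_1 lc_e_Cert_tree lc_e_rc_9_3 lc_e_rc_18_1 lc_e_Cert_tree lc_e_Cert_tree lc_e_rc_18_1 lc_e_Cert_tree lc_e_Cert_tree lc_e_rc_16_1 lc_e_rc_18_1 lc_e_Cert_tree lc_e_Cert_tree lc_e_rc_13_3 lc_e_Cert_tree lc_e_rc_27_1 lc_e_rc_27_1 lc_e_rc_18_1 lc_e_Cert_tree lc_e_rc_13_1 lc_e_rc_18_1 lc_e_rc_16_5 lc_e_Cert_tree lc_e_Cert_tree lc_e_rc_13_3 lc_e_rc_9_3 lc_e_Cert_tree lc_e_rc_19_4 lc_e_Cert_tree lc_e_rc_18_1 lc_e_Cert_tree lc_e_Cert_tree lc_e_rc_16_1 lc_e_rc_19_4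 lc_e_Cert_tree) (@D3.rec (fun _ => (Cert rels S Gen.e)) lc_e_Cert_tree lc_e_rc_13_3 lc_e_Cert_tree lc_e_rc_27_1 lc_e_Cert_tree lc_e_rc_18_1 lc_e_rc_18_1 lc_e_Cert_tree lc_e_rc_13_1 lc_e_rc_18_1 lc_e_Cert_tree lc_e_rc_18_1 lc_e_Cert_tree lc_e_Cert_tree lc_e_rc_19_4 lc_e_Cert_tree lc_e_rc_18_1 lc_e_Cert_tree lc_e_rc_18_1 lc_e_rc_13_3 lc_e_rc_16_1 lc_e_rc_19_4 lc_e_rc_18_1 lc_e_Cert_tree lc_e_rc_16_1 lc_e_rc_19_4 lc_e_rc_16_5 lc_e_rc_13_3 lc_e_Cert_tree lc_e_rc_18_1 lc_e_Cert_tree lc_e_rc_16_1 lc_e_rc_27_5 lc_e_Cert_tree lc_e_rc_18_1 lc_e_rc_13_1 lc_e_rc_16_1 lc_e_Cert_tree lc_e_rc_18_1 lc_e_Cert_tree lc_e_Cert_tree lc_e_rc_18_1 lc_e_Cert_tree lc_e_Cert_tree lc_e_rc_16_1 lc_e_rc_19_4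 lc_e_rc_13_3 lc_e_rc_18_1 lc_e_rc_18_1 lc_e_Cert_tree lc_e_Cert_tree lc_e_rc_18_1 lc_e_Cert_tree lc_e_rc_27_5 lc_e_rc_18_1 lc_e_Cert_tree lc_e_Cert_tree lc_e_rc_13_3 lc_e_Cert_tree lc_e_rc_18_1 lc_e_rc_27_5 lc_e_Cert_tree) (@D3.rec (fun _ => (Cert rels S Gen.e)) lc_e_rc_18_1 lc_e_rc_18_1 lc_e_rc_16_1 lc_e_rc_18_1 lc_e_Cert_tree lc_e_rc_18_1 lc_e_Cert_tree lc_e_rc_18_1 lc_e_rc_18_1 lc_e_Cert_tree lc_e_rc_18_1 lc_e_rc_18_1 lc_e_rc_16_1 lc_e_rc_19_2 lc_e_rc_27_1 lc_e_Cert_tree lc_e_Cert_tree lc_e_Cert_tree lc_e_rc_18_1 lc_e_rc_16_3 lc_e_rc_18_1 lc_e_rc_16_3 lc_e_rc_27_7 lc_e_rc_18_1 lc_e_rc_16_3 lc_e_rc_19_4 lc_e_Cert_tree lc_e_Cert_tree lc_e_rc_18_1 lc_e_rc_13_1 lc_e_rc_27_5 lc_e_rc_16_3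 lc_e_Cert_tree lc_e_rc_13_3 lc_e_rc_9_3 lc_e_rc_18_1 lc_e_rc_27_1 lc_e_rc_16_1 lc_e_Cert_tree lc_e_Cert_tree lc_e_Cert_tree lc_e_Cert_tree lc_e_rc_18_1 lc_e_rc_16_1 lc_e_rc_4_1 lc_e_rc_9_3 lc_e_rc_19_4 lc_e_rc_18_1 lc_e_Cert_tree lc_e_rc_16_1 lc_e_rc_19_4 lc_e_rc_18_1 lc_e_Cert_tree lc_e_rc_13_3 lc_e_Cert_tree lc_e_Cert_tree lc_e_rc_18_1 lc_e_Cert_tree lc_e_rc_18_1 lc_e_Cert_tree lc_e_rc_18_1 lc_e_rc_18_1) (@D3.rec (fun _ => (Cert rels S Gen.e)) lc_e_rc_13_3 lc_e_rc_16_1 lc_e_rc_19_4 lc_e_Cert_tree lc_e_rc_18_1 lc_e_Cert_tree lc_e_rc_16_1 lc_e_rc_19_4 lc_e_Cert_tree lc_e_rc_18_1 lc_e_Cert_tree lc_e_rc_13_3 lc_e_Cert_tree lc_e_rc_18_1 lc_e_rc_18_1 lc_e_Cert_tree lc_e_Cert_tree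 lc_e_rc_18_1 lc_e_Cert_tree lc_e_rc_13_3 lc_e_rc_16_5 lc_e_rc_18_1 lc_e_rc_18_1 lc_e_rc_18_1 lc_e_Cert_tree lc_e_rc_18_1 lc_e_rc_18_1 lc_e_rc_27_5 lc_e_rc_18_1 lc_e_Cert_tree lc_e_rc_18_1 lc_e_rc_16_1 lc_e_rc_19_2 lc_e_Cert_tree lc_e_Cert_tree lc_e_rc_18_1 lc_e_Cert_tree lc_e_rc_18_1 lc_e_Cert_tree lc_e_Cert_tree lc_e_rc_13_3 lc_e_rc_9_3 lc_e_Cert_tree lc_e_rc_18_1 lc_e_Cert_tree lc_e_rc_18_1 lc_e_rc_13_3 lc_e_rc_13_3 lc_e_Cert_tree lc_e_rc_18_1 lc_e_rc_27_5 lc_e_Cert_tree lc_e_rc_27_1 lc_e_rc_27_5 lc_e_Cert_tree lc_e_Cert_tree lc_e_rc_18_1 lc_e_rc_18_1 lc_e_rc_13_3 lc_e_rc_27_1 lc_e_rc_27_1 lc_e_Cert_tree) (@D3.rec (fun _ => (Cert rels S Gen.e)) lc_e_rc_4_3 lc_e_rc_18_1 lc_e_Cert_tree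 lc_e_Cert_tree lc_e_rc_9_3 lc_e_rc_9_1 lc_e_rc_27_5 lc_e_Cert_tree lc_e_Cert_tree lc_e_rc_18_1 lc_e_Cert_tree lc_e_rc_18_1 lc_e_rc_27_1 lc_e_rc_18_1 lc_e_rc_4_3 lc_e_rc_18_1 lc_e_rc_27_7 lc_e_rc_18_1 lc_e_rc_16_1 lc_e_rc_13_3 lc_e_Cert_tree lc_e_rc_18_1 lc_e_rc_4_1 lc_e_rc_19_4 lc_e_rc_13_3 lc_e_rc_18_1 lc_e_rc_13_3 lc_e_Cert_tree lc_e_rc_16_1 lc_e_rc_19_4 lc_e_rc_19_4 lc_e_rc_13_3 lc_e_rc_16_5 lc_e_Cert_tree lc_e_rc_27_7 lc_e_rc_18_1 lc_e_rc_13_3 lc_e_rc_27_5 lc_e_Cert_tree lc_e_rc_18_1 lc_e_rc_4_3 lc_e_rc_18_1 lc_e_rc_13_3 lc_e_Cert_tree lc_e_rc_9_3 lc_e_Cert_tree lc_e_rc_13_3 lc_e_rc_18_1 lc_e_rc_18_1 lc_e_Cert_tree lc_e_rc_18_1 lc_e_rc_18_1 lc_e_rc_16_5 lc_e_rc_16_5 lc_e_rc_16_1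 lc_e_Cert_tree lc_e_rc_18_1 lc_e_rc_9_3 lc_e_rc_9_3 lc_e_rc_16_3 lc_e_rc_13_3 lc_e_Cert_tree) (@D3.rec (fun _ => (Cert rels S Gen.e)) lc_e_Cert_tree lc_e_rc_4_3 lc_e_rc_27_5 lc_e_rc_4_1 lc_e_Cert_tree lc_e_rc_18_1 lc_e_rc_16_1 lc_e_rc_13_3 lc_e_rc_18_1 lc_e_Cert_tree lc_e_rc_18_1 lc_e_rc_16_1 lc_e_rc_13_3 lc_e_Cert_tree lc_e_Cert_tree lc_e_rc_18_1 lc_e_rc_16_1 lc_e_rc_18_1 lc_e_rc_16_1 lc_e_rc_19_4 lc_e_rc_27_7 lc_e_rc_19_0 lc_e_Cert_tree lc_e_rc_19_0 lc_e_Cert_tree lc_e_Cert_tree lc_e_Cert_tree lc_e_rc_18_1 lc_e_rc_13_3 lc_e_rc_16_1 lc_e_rc_19_4 lc_e_rc_4_3 lc_e_rc_27_7 lc_e_rc_27_1 lc_e_rc_18_1 lc_e_Cert_tree lc_e_Cert_tree lc_e_rc_18_1 lc_e_Cert_tree lc_e_rc_13_3 lc_e_rc_16_5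 lc_e_Cert_tree lc_e_rc_18_1 lc_e_Cert_tree lc_e_rc_18_1 lc_e_rc_27_1 lc_e_rc_13_3 lc_e_rc_9_3 lc_e_Cert_tree lc_e_rc_27_1 lc_e_Cert_tree lc_e_rc_18_1 lc_e_rc_18_1 lc_e_rc_9_3 lc_e_rc_16_3 lc_e_rc_13_3 lc_e_rc_18_1 lc_e_Cert_tree lc_e_rc_4_3 lc_e_rc_13_3 lc_e_rc_16_3 lc_e_rc_13_3) (@D3.rec (fun _ => (Cert rels S Gen.e)) lc_e_rc_4_3 lc_e_rc_19_4 lc_e_Cert_tree lc_e_rc_18_1 lc_e_rc_19_2 lc_e_rc_27_7 lc_e_rc_18_1 lc_e_Cert_tree lc_e_rc_18_1 lc_e_rc_9_1 lc_e_Cert_tree lc_e_rc_16_1 lc_e_rc_19_4 lc_e_rc_16_3 lc_e_rc_18_1 lc_e_rc_13_3 lc_e_rc_27_7 lc_e_rc_16_1 lc_e_rc_9_3 lc_e_rc_18_1 lc_e_Cert_tree lc_e_rc_16_3 lc_e_rc_19_4 lc_e_rc_13_3 lc_e_Cert_tree lc_e_rc_9_3 lc_e_rc_19_4 lc_e_rc_19_0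 lc_e_rc_18_1 lc_e_rc_18_1 lc_e_Cert_tree lc_e_rc_16_1 lc_e_rc_19_4 lc_e_rc_13_3 lc_e_rc_13_3 lc_e_Cert_tree lc_e_Cert_tree lc_e_rc_18_1 lc_e_rc_18_1 lc_e_rc_18_1 lc_e_rc_19_2 lc_e_rc_16_1 lc_e_rc_19_2 lc_e_rc_4_3 lc_e_rc_13_3 lc_e_rc_27_1 lc_e_rc_19_2 lc_e_rc_19_2 lc_e_rc_16_5 lc_e_rc_16_3 lc_e_Cert_tree lc_e_rc_18_1 lc_e_rc_13_3 lc_e_rc_16_3 lc_e_rc_13_3 lc_e_rc_16_3 lc_e_rc_18_1 lc_e_Cert_tree lc_e_Cert_tree lc_e_rc_18_1 lc_e_rc_19_2 lc_e_Cert_tree) (@D3.rec (fun _ => (Cert rels S Gen.e)) lc_e_rc_18_1 lc_e_rc_18_1 lc_e_rc_18_1 lc_e_rc_16_1 lc_e_rc_19_2 lc_e_Cert_tree lc_e_rc_18_1 lc_e_Cert_tree lc_e_Cert_tree lc_e_Cert_tree lc_e_rc_9_3 lc_e_rc_9_1 lc_e_rc_18_1 lc_e_rc_18_1 lc_e_rc_16_1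 lc_e_Cert_tree lc_e_rc_27_7 lc_e_rc_18_1 lc_e_rc_18_1 lc_e_rc_16_1 lc_e_rc_9_1 lc_e_Cert_tree lc_e_rc_18_1 lc_e_rc_18_1 lc_e_rc_18_1 lc_e_Cert_tree lc_e_rc_16_1 lc_e_rc_19_4 lc_e_Cert_tree lc_e_rc_9_3 lc_e_rc_18_1 lc_e_rc_13_3 lc_e_rc_27_5 lc_e_Cert_tree lc_e_rc_16_5 lc_e_rc_16_1 lc_e_rc_19_0 lc_e_rc_18_1 lc_e_rc_13_1 lc_e_rc_27_1 lc_e_rc_18_1 lc_e_rc_9_3 lc_e_rc_27_7 lc_e_rc_18_1 lc_e_rc_19_0 lc_e_rc_19_4 lc_e_rc_13_3 lc_e_rc_13_3 lc_e_rc_9_1 lc_e_rc_27_5 lc_e_Cert_tree lc_e_rc_18_1 lc_e_rc_16_3 lc_e_rc_27_5 lc_e_Cert_tree lc_e_Cert_tree lc_e_rc_18_1 lc_e_rc_13_3 lc_e_rc_9_1 lc_e_Cert_tree lc_e_rc_18_1 lc_e_rc_13_3) (@D3.rec (fun _ => (Cert rels S Gen.e)) lc_e_rc_16_3 lc_e_rc_16_5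 lc_e_rc_16_5 lc_e_rc_16_5 lc_e_rc_13_3 lc_e_Cert_tree lc_e_rc_9_1 lc_e_rc_9_3 lc_e_Cert_tree lc_e_rc_18_1 lc_e_rc_16_1 lc_e_rc_4_3 lc_e_rc_13_3 lc_e_Cert_tree lc_e_Cert_tree lc_e_rc_19_2 lc_e_rc_18_1 lc_e_rc_16_3 lc_e_rc_18_1 lc_e_rc_18_1 lc_e_rc_16_5 lc_e_rc_13_3 lc_e_rc_27_5 lc_e_rc_16_1 lc_e_rc_13_3 lc_e_rc_27_7 lc_e_rc_19_2 lc_e_Cert_tree lc_e_Cert_tree lc_e_rc_18_1 lc_e_rc_18_1 lc_e_rc_18_1 lc_e_rc_27_7 lc_e_rc_18_1 lc_e_rc_27_7 lc_e_rc_16_3 lc_e_rc_9_3 lc_e_Cert_tree lc_e_rc_19_2 lc_e_rc_18_1 lc_e_rc_19_4 lc_e_rc_16_1 lc_e_rc_18_1 lc_e_rc_4_1 lc_e_rc_4_3 lc_e_rc_13_3 lc_e_Cert_tree lc_e_Cert_tree lc_e_rc_18_1 lc_e_rc_19_0 lc_e_rc_16_3 lc_e_rc_19_4 lc_e_Cert_tree lc_e_rc_18_1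 lc_e_rc_27_5 lc_e_rc_9_3 lc_e_rc_13_3 lc_e_Cert_tree lc_e_Cert_tree lc_e_Cert_tree lc_e_rc_18_1 lc_e_rc_4_3) (@D3.rec (fun _ => (Cert rels S Gen.e)) lc_e_rc_9_3 lc_e_rc_18_1 lc_e_Cert_tree lc_e_rc_18_1 lc_e_rc_13_1 lc_e_rc_27_7 lc_e_rc_16_1 lc_e_Cert_tree lc_e_rc_13_3 lc_e_rc_18_1 lc_e_rc_16_3 lc_e_rc_18_1 lc_e_rc_18_1 lc_e_rc_18_1 lc_e_rc_27_7 lc_e_rc_16_5 lc_e_rc_13_3 lc_e_rc_9_3 lc_e_rc_13_1 lc_e_rc_9_3 lc_e_rc_27_7 lc_e_rc_9_3 lc_e_rc_19_4 lc_e_Cert_tree lc_e_rc_13_3 lc_e_rc_4_3 lc_e_Cert_tree lc_e_Cert_tree lc_e_rc_13_3 lc_e_rc_16_3 lc_e_rc_18_1 lc_e_Cert_tree lc_e_rc_13_3 lc_e_Cert_tree lc_e_rc_18_1 lc_e_rc_13_3 lc_e_rc_4_3 lc_e_rc_9_3 lc_e_Cert_tree lc_e_Cert_tree lc_e_Cert_tree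 lc_e_Cert_tree lc_e_rc_18_1 lc_e_Cert_tree lc_e_rc_9_3 lc_e_rc_13_1 lc_e_rc_18_1 lc_e_Cert_tree lc_e_rc_18_1 lc_e_Cert_tree lc_e_rc_18_1 lc_e_rc_9_3 lc_e_Cert_tree lc_e_Cert_tree lc_e_Cert_tree lc_e_rc_18_1 lc_e_rc_19_2 lc_e_rc_19_2 lc_e_rc_4_3 lc_e_Cert_tree lc_e_Cert_tree lc_e_Cert_tree) (@D3.rec (fun _ => (Cert rels S Gen.e)) lc_e_rc_18_1 lc_e_rc_13_3 lc_e_rc_18_1 lc_e_rc_27_5 lc_e_rc_19_2 lc_e_rc_13_3 lc_e_rc_16_5 lc_e_rc_13_3 lc_e_Cert_tree lc_e_rc_18_1 lc_e_rc_18_1 lc_e_rc_18_1 lc_e_Cert_tree lc_e_Cert_tree lc_e_rc_18_1 lc_e_Cert_tree lc_e_Cert_tree lc_e_rc_16_1 lc_e_rc_9_3 lc_e_rc_27_5 lc_e_Cert_tree lc_e_rc_18_1 lc_e_rc_16_3 lc_e_rc_13_3 lc_e_rc_18_1 lc_e_rc_27_1 lc_e_Cert_tree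 lc_e_Cert_tree lc_e_Cert_tree lc_e_Cert_tree lc_e_rc_18_1 lc_e_Cert_tree lc_e_Cert_tree lc_e_Cert_tree lc_e_Cert_tree lc_e_rc_18_1 lc_e_rc_9_3 lc_e_Cert_tree lc_e_Cert_tree lc_e_Cert_tree lc_e_rc_18_1 lc_e_rc_18_1 lc_e_rc_18_1 lc_e_rc_19_4 lc_e_rc_16_1 lc_e_rc_4_3 lc_e_rc_16_3 lc_e_rc_9_3 lc_e_rc_16_1 lc_e_Cert_tree lc_e_rc_18_1 lc_e_rc_18_1 lc_e_rc_27_7 lc_e_rc_13_3 lc_e_Cert_tree lc_e_rc_27_7 lc_e_Cert_tree lc_e_Cert_tree lc_e_rc_18_1 lc_e_Cert_tree lc_e_Cert_tree lc_e_Cert_tree) (@D3.rec (fun _ => (Cert rels S Gen.e)) lc_e_rc_18_1 lc_e_Cert_tree lc_e_rc_18_1 lc_e_Cert_tree lc_e_rc_18_1 lc_e_Cert_tree lc_e_Cert_tree lc_e_Cert_tree lc_e_rc_18_1 lc_e_rc_18_1 lc_e_rc_18_1 lc_e_rc_4_3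 lc_e_Cert_tree lc_e_Cert_tree lc_e_Cert_tree lc_e_rc_18_1 lc_e_rc_13_1 lc_e_rc_9_3 lc_e_rc_16_5 lc_e_rc_16_3 lc_e_rc_13_3 lc_e_Cert_tree lc_e_Cert_tree lc_e_rc_19_4 lc_e_Cert_tree lc_e_rc_18_1 lc_e_rc_18_1 lc_e_Cert_tree lc_e_rc_18_1 lc_e_rc_16_1 lc_e_rc_27_5 lc_e_Cert_tree lc_e_rc_18_1 lc_e_rc_18_1 lc_e_rc_18_1 lc_e_rc_13_3 lc_e_rc_19_2 lc_e_Cert_tree lc_e_rc_18_1 lc_e_Cert_tree lc_e_rc_18_1 lc_e_Cert_tree lc_e_Cert_tree lc_e_rc_16_1 lc_e_rc_19_4 lc_e_Cert_tree lc_e_rc_18_1 lc_e_rc_27_1 lc_e_Cert_tree lc_e_rc_18_1 lc_e_Cert_tree lc_e_Cert_tree lc_e_rc_18_1 lc_e_Cert_tree lc_e_rc_13_3 lc_e_Cert_tree lc_e_Cert_tree lc_e_rc_18_1 lc_e_Cert_tree lc_e_rc_18_1 lc_e_Cert_tree lc_e_Cert_tree)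 (@D3.rec (fun _ => (Cert rels S Gen.e)) lc_e_rc_18_1 lc_e_Cert_tree lc_e_rc_18_1 lc_e_Cert_tree lc_e_Cert_tree lc_e_Cert_tree lc_e_rc_18_1 lc_e_Cert_tree lc_e_rc_13_3 lc_e_rc_18_1 lc_e_rc_27_5 lc_e_rc_19_4 lc_e_Cert_tree lc_e_rc_18_1 lc_e_rc_4_3 lc_e_Cert_tree lc_e_Cert_tree lc_e_rc_18_1 lc_e_rc_19_2 lc_e_rc_16_1 lc_e_rc_19_4 lc_e_rc_13_3 lc_e_rc_18_1 lc_e_rc_27_5 lc_e_Cert_tree lc_e_rc_16_5 lc_e_rc_4_3 lc_e_rc_18_1 lc_e_Cert_tree lc_e_rc_13_3 lc_e_rc_4_3 lc_e_rc_27_5 lc_e_Cert_tree lc_e_Cert_tree lc_e_Cert_tree lc_e_rc_18_1 lc_e_rc_27_5 lc_e_rc_19_4 lc_e_rc_18_1 lc_e_Cert_tree lc_e_rc_19_4 lc_e_rc_9_1 lc_e_Cert_tree lc_e_rc_19_2 lc_e_rc_13_3 lc_e_rc_27_1 lc_e_rc_9_3 lc_e_rc_13_3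 lc_e_rc_9_3 lc_e_rc_9_3 lc_e_rc_27_7 lc_e_rc_27_1 lc_e_rc_18_1 lc_e_rc_16_3 lc_e_rc_16_5 lc_e_Cert_tree lc_e_rc_9_3 lc_e_rc_27_5 lc_e_Cert_tree lc_e_Cert_tree lc_e_rc_18_1 lc_e_rc_27_5) (@D3.rec (fun _ => (Cert rels S Gen.e)) lc_e_rc_18_1 lc_e_rc_18_1 lc_e_rc_27_7 lc_e_rc_27_5 lc_e_rc_18_1 lc_e_rc_16_1 lc_e_rc_19_0 lc_e_rc_27_7 lc_e_rc_13_3 lc_e_rc_9_3 lc_e_rc_13_3 lc_e_rc_27_7 lc_e_rc_13_3 lc_e_Cert_tree lc_e_rc_9_3 lc_e_rc_13_3 lc_e_rc_18_1 lc_e_rc_9_3 lc_e_rc_19_4 lc_e_rc_19_4 lc_e_rc_19_4 lc_e_rc_16_5 lc_e_Cert_tree lc_e_rc_16_5 lc_e_rc_4_3 lc_e_rc_18_1 lc_e_rc_19_0 lc_e_rc_27_5 lc_e_rc_18_1 lc_e_rc_27_5 lc_e_rc_18_1 lc_e_rc_18_1 lc_e_rc_18_1 lc_e_rc_19_0 lc_e_rc_27_1 lc_e_rc_9_3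 lc_e_Cert_tree lc_e_rc_13_3 lc_e_rc_13_1 lc_e_rc_27_1 lc_e_rc_13_3 lc_e_rc_18_1 lc_e_rc_13_3 lc_e_rc_13_3 lc_e_rc_4_3 lc_e_rc_19_0 lc_e_rc_4_3 lc_e_rc_18_1 lc_e_rc_13_1 lc_e_Cert_tree lc_e_rc_4_3 lc_e_Cert_tree lc_e_rc_13_3 lc_e_rc_27_5 lc_e_rc_19_0 lc_e_rc_4_3 lc_e_Cert_tree lc_e_Cert_tree lc_e_rc_18_1 lc_e_rc_13_1 lc_e_rc_18_1 lc_e_rc_16_1) (@D3.rec (fun _ => (Cert rels S Gen.e)) lc_e_rc_9_3 lc_e_rc_13_3 lc_e_rc_4_3 lc_e_Cert_tree lc_e_Cert_tree lc_e_rc_19_0 lc_e_rc_18_1 lc_e_Cert_tree lc_e_rc_18_1 lc_e_rc_18_1 lc_e_Cert_tree lc_e_rc_18_1 lc_e_Cert_tree lc_e_Cert_tree lc_e_rc_18_1 lc_e_rc_16_3 lc_e_rc_18_1 lc_e_Cert_tree lc_e_rc_16_3 lc_e_rc_18_1 lc_e_Cert_tree lc_e_Cert_tree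 lc_e_rc_4_3 lc_e_rc_16_3 lc_e_rc_19_4 lc_e_rc_16_3 lc_e_rc_13_3 lc_e_Cert_tree lc_e_Cert_tree lc_e_Cert_tree lc_e_rc_18_1 lc_e_rc_13_1 lc_e_rc_18_1 lc_e_rc_19_4 lc_e_Cert_tree lc_e_rc_18_1 lc_e_rc_4_3 lc_e_rc_13_3 lc_e_Cert_tree lc_e_Cert_tree lc_e_rc_18_1 lc_e_rc_18_1 lc_e_rc_16_3 lc_e_rc_9_3 lc_e_Cert_tree lc_e_Cert_tree lc_e_Cert_tree lc_e_rc_18_1 lc_e_rc_16_3 lc_e_rc_4_3 lc_e_rc_13_3 lc_e_rc_27_5 lc_e_rc_18_1 lc_e_Cert_tree lc_e_rc_18_1 lc_e_Cert_tree lc_e_rc_13_3 lc_e_rc_18_1 lc_e_Cert_tree lc_e_rc_27_7 lc_e_rc_16_3 lc_e_rc_9_3) (@D3.rec (fun _ => (Cert rels S Gen.e)) lc_e_Cert_tree lc_e_rc_4_3 lc_e_rc_18_1 lc_e_rc_16_3 lc_e_rc_19_4 lc_e_rc_4_3 lc_e_rc_13_1 lc_e_rc_4_3 lc_e_Cert_tree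 lc_e_rc_16_5 lc_e_rc_13_3 lc_e_Cert_tree lc_e_Cert_tree lc_e_Cert_tree lc_e_Cert_tree lc_e_Cert_tree lc_e_rc_18_1 lc_e_Cert_tree lc_e_rc_9_3 lc_e_rc_19_4 lc_e_rc_16_5 lc_e_rc_18_1 lc_e_Cert_tree lc_e_rc_27_7 lc_e_rc_18_1 lc_e_Cert_tree lc_e_rc_27_5 lc_e_rc_19_4 lc_e_Cert_tree lc_e_rc_18_1 lc_e_rc_13_3 lc_e_rc_18_1 lc_e_Cert_tree lc_e_rc_18_1 lc_e_rc_19_4 lc_e_Cert_tree lc_e_rc_16_3 lc_e_rc_19_4 lc_e_rc_4_3 lc_e_Cert_tree lc_e_Cert_tree lc_e_rc_18_1 lc_e_rc_18_1 lc_e_rc_13_3 lc_e_Cert_tree lc_e_rc_16_1 lc_e_rc_19_4 lc_e_rc_13_3 lc_e_Cert_tree lc_e_rc_18_1 lc_e_rc_13_3 lc_e_Cert_tree lc_e_rc_13_3 lc_e_rc_4_3 lc_e_Cert_tree lc_e_rc_18_1 lc_e_rc_18_1 lc_e_rc_16_1 lc_e_rc_19_4 lc_e_Cert_tree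 lc_e_rc_4_3 lc_e_rc_18_1) (@D3.rec (fun _ => (Cert rels S Gen.e)) lc_e_rc_18_1 lc_e_rc_16_1 lc_e_rc_19_4 lc_e_Cert_tree lc_e_rc_27_1 lc_e_rc_18_1 lc_e_Cert_tree lc_e_Cert_tree lc_e_rc_27_5 lc_e_rc_18_1 lc_e_Cert_tree lc_e_rc_27_5 lc_e_rc_18_1 lc_e_rc_19_2 lc_e_rc_13_3 lc_e_rc_18_1 lc_e_Cert_tree lc_e_rc_18_1 lc_e_rc_4_1 lc_e_rc_27_5 lc_e_rc_19_4 lc_e_Cert_tree lc_e_Cert_tree lc_e_rc_18_1 lc_e_Cert_tree lc_e_rc_27_5 lc_e_rc_16_1 lc_e_rc_19_4 lc_e_rc_27_7 lc_e_Cert_tree lc_e_rc_18_1 lc_e_rc_18_1 lc_e_rc_13_1 lc_e_rc_18_1 lc_e_Cert_tree lc_e_rc_18_1 lc_e_rc_18_1 lc_e_rc_4_1 lc_e_rc_19_4 lc_e_rc_18_1 lc_e_rc_13_3 lc_e_Cert_tree lc_e_rc_16_1 lc_e_rc_19_2 lc_e_rc_18_1 lc_e_rc_27_1 lc_e_rc_4_1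 lc_e_Cert_tree lc_e_rc_27_5 lc_e_rc_18_1 lc_e_rc_18_1 lc_e_rc_16_5 lc_e_rc_9_3 lc_e_rc_18_1 lc_e_Cert_tree lc_e_Cert_tree lc_e_rc_18_1 lc_e_rc_27_5 lc_e_Cert_tree lc_e_rc_4_3 lc_e_rc_18_1 lc_e_rc_27_7) (@D3.rec (fun _ => (Cert rels S Gen.e)) lc_e_rc_27_5 lc_e_rc_19_4 lc_e_rc_18_1 lc_e_Cert_tree lc_e_rc_18_1 lc_e_rc_4_1 lc_e_rc_27_7 lc_e_rc_4_3 lc_e_rc_4_1 lc_e_rc_18_1 lc_e_rc_13_1 lc_e_Cert_tree lc_e_rc_18_1 lc_e_rc_18_1 lc_e_rc_27_7 lc_e_rc_13_3 lc_e_rc_27_7 lc_e_rc_9_1 lc_e_rc_16_3 lc_e_rc_19_2 lc_e_rc_19_2 lc_e_Cert_tree lc_e_rc_27_5 lc_e_rc_18_1 lc_e_rc_19_2 lc_e_rc_19_4 lc_e_rc_13_3 lc_e_rc_4_1 lc_e_rc_18_1 lc_e_rc_9_1 lc_e_rc_4_3 lc_e_rc_19_4 lc_e_Cert_tree lc_e_rc_18_1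 lc_e_rc_19_0 lc_e_rc_18_1 lc_e_rc_13_3 lc_e_rc_19_0 lc_e_Cert_tree lc_e_Cert_tree lc_e_rc_18_1 lc_e_rc_18_1 lc_e_Cert_tree lc_e_rc_16_1 lc_e_rc_9_1 lc_e_rc_27_1 lc_e_rc_27_5 lc_e_rc_18_1 lc_e_Cert_tree lc_e_rc_18_1 lc_e_Cert_tree lc_e_rc_18_1 lc_e_Cert_tree lc_e_Cert_tree lc_e_rc_18_1 lc_e_rc_4_1 lc_e_rc_18_1 lc_e_rc_18_1 lc_e_rc_9_3 lc_e_rc_27_5 lc_e_rc_13_3 lc_e_rc_19_4) (@D3.rec (fun _ => (Cert rels S Gen.e)) lc_e_rc_13_3 lc_e_rc_18_1 lc_e_rc_18_1 lc_e_rc_9_3 lc_e_Cert_tree lc_e_rc_27_7 lc_e_rc_4_3 lc_e_rc_18_1 lc_e_Cert_tree lc_e_Cert_tree lc_e_Cert_tree lc_e_Cert_tree lc_e_rc_18_1 lc_e_rc_16_5 lc_e_rc_16_3 lc_e_rc_13_1 lc_e_rc_16_3 lc_e_rc_18_1 lc_e_rc_13_3 lc_e_rc_9_3 lc_e_rc_9_3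 lc_e_rc_9_3 lc_e_rc_9_3 lc_e_Cert_tree lc_e_rc_18_1 lc_e_Cert_tree lc_e_rc_27_5 lc_e_rc_18_1 lc_e_Cert_tree lc_e_rc_19_4 lc_e_rc_19_0 lc_e_rc_18_1 lc_e_rc_18_1 lc_e_rc_19_2 lc_e_Cert_tree lc_e_rc_4_3 lc_e_rc_13_3 lc_e_rc_13_1 lc_e_rc_13_1 lc_e_rc_19_4 lc_e_Cert_tree lc_e_rc_27_5 lc_e_rc_18_1 lc_e_rc_13_3 lc_e_rc_18_1 lc_e_rc_4_3 lc_e_Cert_tree lc_e_Cert_tree lc_e_Cert_tree lc_e_rc_18_1 lc_e_rc_18_1 lc_e_rc_16_1 lc_e_rc_4_3 lc_e_rc_27_1 lc_e_rc_27_7 lc_e_Cert_tree lc_e_rc_18_1 lc_e_rc_18_1 lc_e_rc_27_1 lc_e_rc_19_4 lc_e_Cert_tree lc_e_rc_18_1) (@D3.rec (fun _ => (Cert rels S Gen.e)) lc_e_rc_9_3 lc_e_Cert_tree lc_e_Cert_tree lc_e_rc_16_1 lc_e_rc_19_4 lc_e_Cert_tree lc_e_Cert_tree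 lc_e_rc_18_1 lc_e_rc_27_7 lc_e_rc_18_1 lc_e_rc_27_1 lc_e_rc_27_5 lc_e_rc_13_3 lc_e_rc_16_1 lc_e_rc_9_1 lc_e_rc_18_1 lc_e_Cert_tree lc_e_Cert_tree lc_e_rc_18_1 lc_e_rc_18_1 lc_e_Cert_tree lc_e_rc_18_1 lc_e_rc_16_1 lc_e_Cert_tree lc_e_rc_16_5 lc_e_rc_13_3 lc_e_rc_18_1 lc_e_rc_18_1 lc_e_rc_18_1 lc_e_rc_19_2 lc_e_Cert_tree lc_e_rc_18_1 lc_e_rc_27_5 lc_e_rc_4_3 lc_e_rc_9_1 lc_e_rc_27_1 lc_e_Cert_tree lc_e_rc_18_1 lc_e_rc_13_3 lc_e_rc_16_3 lc_e_rc_9_1 lc_e_rc_13_3 lc_e_rc_27_5 lc_e_rc_19_2 lc_e_Cert_tree lc_e_rc_18_1 lc_e_rc_27_1 lc_e_rc_16_3 lc_e_Cert_tree lc_e_Cert_tree lc_e_rc_18_1 lc_e_rc_16_1 lc_e_rc_13_3 lc_e_rc_27_7 lc_e_Cert_tree lc_e_Cert_tree lc_e_rc_18_1 lc_e_rc_18_1 lc_e_rc_13_3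 lc_e_rc_19_4 lc_e_rc_13_3 lc_e_rc_18_1) (@D3.rec (fun _ => (Cert rels S Gen.e)) lc_e_rc_18_1 lc_e_rc_27_5 lc_e_rc_18_1 lc_e_Cert_tree lc_e_rc_13_3 lc_e_rc_9_3 lc_e_rc_13_3 lc_e_Cert_tree lc_e_Cert_tree lc_e_Cert_tree lc_e_rc_18_1 lc_e_rc_19_4 lc_e_rc_13_3 lc_e_Cert_tree lc_e_rc_16_3 lc_e_rc_9_1 lc_e_rc_19_4 lc_e_rc_27_1 lc_e_rc_13_3 lc_e_Cert_tree lc_e_Cert_tree lc_e_rc_18_1 lc_e_rc_18_1 lc_e_Cert_tree lc_e_rc_18_1 lc_e_rc_18_1 lc_e_rc_27_1 lc_e_rc_13_3 lc_e_rc_16_1 lc_e_rc_18_1 lc_e_rc_16_1 lc_e_rc_4_1 lc_e_rc_16_3 lc_e_rc_18_1 lc_e_Cert_tree lc_e_rc_9_3 lc_e_rc_19_4 lc_e_Cert_tree lc_e_rc_18_1 lc_e_Cert_tree lc_e_Cert_tree lc_e_rc_18_1 lc_e_rc_16_3 lc_e_rc_19_4 lc_e_rc_19_4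 lc_e_rc_18_1 lc_e_rc_13_3 lc_e_rc_27_5 lc_e_rc_9_3 lc_e_rc_13_3 lc_e_rc_27_5 lc_e_rc_9_3 lc_e_Cert_tree lc_e_Cert_tree lc_e_rc_18_1 lc_e_Cert_tree lc_e_Cert_tree lc_e_Cert_tree lc_e_rc_18_1 lc_e_rc_18_1 lc_e_rc_16_1 lc_e_rc_16_1) (@D3.rec (fun _ => (Cert rels S Gen.e)) lc_e_rc_4_1 lc_e_rc_9_1 lc_e_rc_9_3 lc_e_rc_19_2 lc_e_rc_19_4 lc_e_Cert_tree lc_e_Cert_tree lc_e_Cert_tree lc_e_rc_18_1 lc_e_rc_16_3 lc_e_rc_9_3 lc_e_rc_18_1 lc_e_rc_27_5 lc_e_Cert_tree lc_e_Cert_tree lc_e_rc_18_1 lc_e_rc_18_1 lc_e_rc_16_1 lc_e_Cert_tree lc_e_rc_18_1 lc_e_rc_18_1 lc_e_rc_16_1 lc_e_rc_19_4 lc_e_Cert_tree lc_e_rc_18_1 lc_e_rc_18_1 lc_e_Cert_tree lc_e_Cert_tree lc_e_rc_16_3 lc_e_Cert_tree lc_e_rc_18_1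 lc_e_rc_18_1 lc_e_Cert_tree lc_e_Cert_tree lc_e_rc_16_1 lc_e_rc_9_3 lc_e_Cert_tree lc_e_rc_18_1 lc_e_Cert_tree lc_e_Cert_tree lc_e_rc_18_1 lc_e_Cert_tree lc_e_rc_9_3 lc_e_rc_13_3 lc_e_Cert_tree lc_e_Cert_tree lc_e_rc_18_1 lc_e_rc_18_1 lc_e_rc_4_1 lc_e_rc_19_4 lc_e_Cert_tree lc_e_rc_13_3 lc_e_rc_4_3 lc_e_rc_9_3 lc_e_Cert_tree lc_e_rc_4_3 lc_e_rc_18_1 lc_e_rc_4_3 lc_e_rc_18_1 lc_e_Cert_tree lc_e_rc_18_1 lc_e_rc_18_1) (@D3.rec (fun _ => (Cert rels S Gen.e)) lc_e_Cert_tree lc_e_Cert_tree lc_e_Cert_tree lc_e_rc_18_1 lc_e_Cert_tree lc_e_Cert_tree lc_e_rc_27_5 lc_e_Cert_tree lc_e_rc_9_3 lc_e_rc_16_1 lc_e_rc_19_4 lc_e_Cert_tree lc_e_rc_18_1 lc_e_Cert_tree lc_e_Cert_tree lc_e_Cert_tree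 lc_e_rc_18_1 lc_e_rc_18_1 lc_e_rc_13_3 lc_e_rc_27_1 lc_e_rc_16_1 lc_e_rc_18_1 lc_e_rc_19_2 lc_e_rc_27_7 lc_e_rc_16_5 lc_e_rc_13_3 lc_e_rc_27_7 lc_e_rc_18_1 lc_e_rc_18_1 lc_e_rc_4_1 lc_e_rc_16_1 lc_e_rc_19_4 lc_e_rc_27_7 lc_e_rc_13_3 lc_e_rc_27_1 lc_e_rc_9_3 lc_e_rc_19_4 lc_e_Cert_tree lc_e_Cert_tree lc_e_rc_18_1 lc_e_rc_18_1 lc_e_rc_16_1 lc_e_Cert_tree lc_e_Cert_tree lc_e_rc_9_3 lc_e_rc_18_1 lc_e_Cert_tree lc_e_Cert_tree lc_e_Cert_tree lc_e_rc_18_1 lc_e_Cert_tree lc_e_rc_18_1 lc_e_Cert_tree lc_e_Cert_tree lc_e_rc_18_1 lc_e_Cert_tree lc_e_Cert_tree lc_e_rc_16_1 lc_e_rc_19_4 lc_e_rc_13_3 lc_e_Cert_tree lc_e_rc_16_1) (@D3.rec (fun _ => (Cert rels S Gen.e)) lc_e_rc_19_4 lc_e_rc_16_5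 lc_e_Cert_tree lc_e_Cert_tree lc_e_rc_18_1 lc_e_Cert_tree lc_e_rc_16_3 lc_e_rc_13_3 lc_e_Cert_tree lc_e_rc_13_3 lc_e_rc_18_1 lc_e_Cert_tree lc_e_rc_13_1 lc_e_Cert_tree lc_e_rc_27_5 lc_e_rc_18_1 lc_e_Cert_tree lc_e_rc_18_1 lc_e_rc_13_3 lc_e_rc_16_3 lc_e_rc_13_1 lc_e_rc_18_1 lc_e_rc_27_5 lc_e_Cert_tree lc_e_Cert_tree lc_e_rc_18_1 lc_e_rc_18_1 lc_e_rc_18_1 lc_e_rc_16_1 lc_e_rc_27_5 lc_e_rc_4_3 lc_e_rc_27_7 lc_e_rc_19_4 lc_e_rc_27_5 lc_e_rc_4_3 lc_e_rc_13_3 lc_e_rc_9_3 lc_e_rc_27_7 lc_e_Cert_tree lc_e_rc_13_3 lc_e_rc_16_3 lc_e_Cert_tree lc_e_rc_18_1 lc_e_rc_16_3 lc_e_Cert_tree lc_e_rc_18_1 lc_e_rc_18_1 lc_e_rc_18_1 lc_e_rc_9_3 lc_e_rc_13_3 lc_e_rc_16_1 lc_e_rc_19_4 lc_e_rc_9_1 lc_e_rc_18_1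 lc_e_Cert_tree lc_e_rc_18_1 lc_e_Cert_tree lc_e_Cert_tree lc_e_rc_16_1 lc_e_rc_19_4 lc_e_rc_9_3 lc_e_Cert_tree) (@D3.rec (fun _ => (Cert rels S Gen.e)) lc_e_rc_13_3 lc_e_rc_9_3 lc_e_Cert_tree lc_e_Cert_tree lc_e_Cert_tree lc_e_rc_13_3 lc_e_Cert_tree lc_e_Cert_tree lc_e_rc_4_3 lc_e_rc_18_1 lc_e_rc_18_1 lc_e_Cert_tree lc_e_rc_18_1 lc_e_Cert_tree lc_e_rc_13_3 lc_e_rc_13_3 lc_e_rc_13_3 lc_e_rc_13_3 lc_e_rc_19_0 lc_e_rc_18_1 lc_e_rc_9_3 lc_e_Cert_tree lc_e_rc_13_3 lc_e_Cert_tree lc_e_rc_18_1 lc_e_Cert_tree lc_e_Cert_tree lc_e_Cert_tree lc_e_Cert_tree lc_e_rc_18_1 lc_e_rc_18_1 lc_e_rc_19_0 lc_e_rc_16_1 lc_e_rc_9_3 lc_e_rc_13_3 lc_e_Cert_tree lc_e_rc_18_1 lc_e_rc_18_1 lc_e_Cert_tree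 lc_e_rc_18_1 lc_e_Cert_tree lc_e_rc_13_3 lc_e_rc_18_1 lc_e_rc_18_1 lc_e_Cert_tree lc_e_rc_16_1 lc_e_rc_19_4 lc_e_Cert_tree lc_e_Cert_tree lc_e_rc_16_1 lc_e_rc_18_1 lc_e_rc_9_3 lc_e_Cert_tree lc_e_Cert_tree lc_e_rc_18_1 lc_e_Cert_tree lc_e_Cert_tree lc_e_rc_13_3 lc_e_Cert_tree lc_e_Cert_tree lc_e_rc_18_1 lc_e_Cert_tree) (@D3.rec (fun _ => (Cert rels S Gen.e)) lc_e_rc_27_1 lc_e_Cert_tree lc_e_rc_4_1 lc_e_rc_18_1 lc_e_rc_18_1 lc_e_rc_13_3 lc_e_rc_27_1 lc_e_rc_13_3 lc_e_rc_27_5 lc_e_rc_4_3 lc_e_rc_9_3 lc_e_Cert_tree lc_e_rc_27_5 lc_e_Cert_tree lc_e_Cert_tree lc_e_Cert_tree lc_e_rc_18_1 lc_e_rc_27_7 lc_e_Cert_tree lc_e_rc_27_7 lc_e_rc_18_1 lc_e_rc_18_1 lc_e_rc_18_1 lc_e_Cert_tree lc_e_rc_18_1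 lc_e_Cert_tree lc_e_Cert_tree lc_e_rc_16_1 lc_e_rc_9_3 lc_e_Cert_tree lc_e_rc_27_5 lc_e_rc_16_1 lc_e_rc_19_4 lc_e_rc_27_7 lc_e_rc_9_3 lc_e_rc_13_3 lc_e_Cert_tree lc_e_Cert_tree lc_e_rc_18_1 lc_e_rc_18_1 lc_e_rc_18_1 lc_e_rc_16_3 lc_e_rc_18_1 lc_e_rc_4_3 lc_e_Cert_tree lc_e_rc_16_1 lc_e_rc_19_4 lc_e_rc_27_5 lc_e_Cert_tree lc_e_rc_13_3 lc_e_Cert_tree lc_e_Cert_tree lc_e_Cert_tree lc_e_Cert_tree lc_e_rc_18_1 lc_e_rc_18_1 lc_e_rc_13_3 lc_e_Cert_tree lc_e_rc_18_1 lc_e_Cert_tree lc_e_rc_16_1 lc_e_rc_19_4) (@D3.rec (fun _ => (Cert rels S Gen.e)) lc_e_Cert_tree lc_e_rc_18_1 lc_e_rc_18_1 lc_e_Cert_tree lc_e_rc_16_1 lc_e_rc_19_4 lc_e_rc_18_1 lc_e_Cert_tree lc_e_Cert_tree lc_e_rc_16_1 lc_e_rc_19_4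 lc_e_Cert_tree lc_e_rc_9_3 lc_e_rc_18_1 lc_e_rc_27_7 lc_e_rc_18_1 lc_e_Cert_tree lc_e_rc_18_1 lc_e_rc_18_1 lc_e_Cert_tree lc_e_rc_16_1 lc_e_rc_19_4 lc_e_rc_13_1 lc_e_Cert_tree lc_e_Cert_tree lc_e_rc_18_1 lc_e_Cert_tree lc_e_Cert_tree lc_e_Cert_tree lc_e_rc_18_1 lc_e_Cert_tree lc_e_Cert_tree lc_e_rc_13_3 lc_e_Cert_tree lc_e_Cert_tree lc_e_rc_18_1 lc_e_rc_9_3 lc_e_Cert_tree lc_e_rc_16_3 lc_e_rc_19_4 lc_e_Cert_tree lc_e_rc_9_3 lc_e_rc_16_3 lc_e_rc_19_4 lc_e_rc_13_3 lc_e_Cert_tree lc_e_rc_18_1 lc_e_rc_16_1 lc_e_Cert_tree lc_e_rc_16_3 lc_e_rc_19_4 lc_e_rc_13_3 lc_e_rc_16_5 lc_e_rc_16_1 lc_e_Cert_tree lc_e_rc_18_1 lc_e_Cert_tree lc_e_Cert_tree lc_e_rc_13_3 lc_e_Cert_tree lc_e_rc_18_1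 lc_e_Cert_tree) (@D3.rec (fun _ => (Cert rels S Gen.e)) lc_e_rc_9_3 lc_e_rc_16_3 lc_e_rc_27_5 lc_e_rc_4_1 lc_e_rc_9_3 lc_e_Cert_tree lc_e_rc_18_1 lc_e_rc_16_5 lc_e_Cert_tree lc_e_Cert_tree lc_e_rc_13_1 lc_e_rc_18_1 lc_e_rc_13_3 lc_e_rc_13_3 lc_e_rc_13_1 lc_e_Cert_tree lc_e_rc_18_1 lc_e_rc_9_3 lc_e_Cert_tree lc_e_rc_18_1 lc_e_rc_27_5 lc_e_rc_16_1 lc_e_rc_13_1 lc_e_Cert_tree lc_e_Cert_tree lc_e_rc_18_1 lc_e_rc_16_5 lc_e_rc_4_3 lc_e_rc_18_1 lc_e_Cert_tree lc_e_rc_27_1 lc_e_rc_9_3 lc_e_rc_13_3 lc_e_Cert_tree lc_e_rc_18_1 lc_e_rc_16_3 lc_e_rc_9_3 lc_e_Cert_tree lc_e_rc_9_3 lc_e_Cert_tree lc_e_Cert_tree lc_e_rc_16_5 lc_e_rc_13_3 lc_e_rc_9_3 lc_e_rc_4_1 lc_e_rc_13_3 lc_e_Cert_tree lc_e_rc_9_3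 lc_e_rc_9_3 lc_e_Cert_tree lc_e_Cert_tree lc_e_rc_16_5 lc_e_rc_18_1 lc_e_rc_13_3 lc_e_rc_13_3 lc_e_rc_18_1 lc_e_rc_4_3 lc_e_rc_18_1 lc_e_rc_4_1 lc_e_rc_18_1 lc_e_rc_9_1 lc_e_Cert_tree) (@D3.rec (fun _ => (Cert rels S Gen.e)) lc_e_rc_18_1 lc_e_rc_27_5 lc_e_rc_18_1 lc_e_Cert_tree lc_e_Cert_tree lc_e_rc_18_1 lc_e_Cert_tree lc_e_rc_18_1 lc_e_rc_27_1 lc_e_rc_16_1 lc_e_rc_13_3 lc_e_rc_9_3 lc_e_Cert_tree lc_e_rc_13_3 lc_e_rc_13_3 lc_e_Cert_tree lc_e_rc_27_5 lc_e_rc_27_7 lc_e_rc_9_3 lc_e_Cert_tree lc_e_rc_13_3 lc_e_Cert_tree lc_e_rc_18_1 lc_e_rc_13_3 lc_e_rc_13_3 lc_e_Cert_tree lc_e_rc_13_3 lc_e_rc_9_3 lc_e_Cert_tree lc_e_rc_19_4 lc_e_rc_13_3 lc_e_Cert_tree lc_e_rc_13_3 lc_e_rc_9_3 lc_e_Cert_tree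 lc_e_Cert_tree lc_e_Cert_tree lc_e_Cert_tree lc_e_Cert_tree lc_e_rc_18_1 lc_e_rc_27_5 lc_e_Cert_tree lc_e_rc_18_1 lc_e_Cert_tree lc_e_Cert_tree lc_e_rc_4_3 lc_e_Cert_tree lc_e_Cert_tree lc_e_Cert_tree lc_e_Cert_tree lc_e_rc_18_1 lc_e_Cert_tree lc_e_rc_9_3 lc_e_rc_18_1 lc_e_rc_13_3 lc_e_rc_4_3 lc_e_rc_16_3 lc_e_rc_19_2 lc_e_rc_13_3 lc_e_rc_16_5 lc_e_rc_19_2 lc_e_rc_18_1) (@D3.rec (fun _ => (Cert rels S Gen.e)) lc_e_rc_18_1 lc_e_rc_13_3 lc_e_Cert_tree lc_e_Cert_tree lc_e_Cert_tree lc_e_rc_18_1 lc_e_rc_16_3 lc_e_rc_19_2 lc_e_Cert_tree lc_e_rc_27_7 lc_e_rc_19_4 lc_e_rc_9_3 lc_e_Cert_tree lc_e_rc_18_1 lc_e_rc_18_1 lc_e_Cert_tree lc_e_rc_16_1 lc_e_rc_16_5 lc_e_Cert_tree lc_e_rc_4_3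 lc_e_rc_27_7 lc_e_rc_18_1 lc_e_rc_9_3 lc_e_rc_27_7 lc_e_rc_19_4 lc_e_rc_13_3 lc_e_Cert_tree lc_e_rc_19_2 lc_e_Cert_tree lc_e_rc_18_1 lc_e_rc_18_1 lc_e_rc_16_5 lc_e_Cert_tree lc_e_rc_18_1 lc_e_rc_13_3 lc_e_rc_19_2 lc_e_rc_18_1 lc_e_rc_16_3 lc_e_rc_27_5 lc_e_Cert_tree lc_e_Cert_tree lc_e_rc_18_1 lc_e_rc_13_1 lc_e_rc_18_1 lc_e_Cert_tree lc_e_rc_9_3 lc_e_Cert_tree lc_e_rc_13_3 lc_e_Cert_tree lc_e_rc_18_1 lc_e_Cert_tree lc_e_rc_18_1 lc_e_rc_27_7 lc_e_rc_9_3 lc_e_rc_18_1 lc_e_rc_16_1 lc_e_rc_27_5 lc_e_rc_18_1 lc_e_rc_13_3 lc_e_rc_27_7 lc_e_rc_18_1 lc_e_rc_27_1) (@D3.rec (fun _ => (Cert rels S Gen.e)) lc_e_Cert_tree lc_e_Cert_tree lc_e_rc_4_3 lc_e_Cert_tree lc_e_Cert_tree lc_e_rc_13_3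 lc_e_rc_16_3 lc_e_rc_18_1 lc_e_Cert_tree lc_e_rc_18_1 lc_e_rc_27_1 lc_e_Cert_tree lc_e_Cert_tree lc_e_rc_18_1 lc_e_rc_18_1 lc_e_rc_18_1 lc_e_rc_16_1 lc_e_rc_16_1 lc_e_rc_13_3 lc_e_Cert_tree lc_e_rc_27_7 lc_e_rc_18_1 lc_e_rc_16_3 lc_e_rc_16_3 lc_e_rc_18_1 lc_e_Cert_tree lc_e_rc_9_3 lc_e_rc_16_1 lc_e_rc_19_2 lc_e_rc_9_3 lc_e_Cert_tree lc_e_rc_16_3 lc_e_Cert_tree lc_e_Cert_tree lc_e_Cert_tree lc_e_rc_13_3 lc_e_Cert_tree lc_e_rc_9_3 lc_e_Cert_tree lc_e_Cert_tree lc_e_rc_18_1 lc_e_Cert_tree lc_e_rc_9_3 lc_e_rc_18_1 lc_e_rc_13_3 lc_e_rc_27_5 lc_e_Cert_tree lc_e_Cert_tree lc_e_rc_9_3 lc_e_Cert_tree lc_e_rc_18_1 lc_e_rc_18_1 lc_e_rc_27_1 lc_e_rc_13_3 lc_e_rc_13_3 lc_e_rc_9_3 lc_e_rc_13_3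 lc_e_rc_18_1 lc_e_rc_13_3 lc_e_rc_19_4 lc_e_rc_19_4 lc_e_rc_18_1) (@D3.rec (fun _ => (Cert rels S Gen.e)) lc_e_Cert_tree lc_e_Cert_tree lc_e_rc_18_1 lc_e_rc_9_3 lc_e_rc_18_1 lc_e_rc_4_3 lc_e_Cert_tree lc_e_Cert_tree lc_e_rc_27_1 lc_e_rc_27_5 lc_e_rc_18_1 lc_e_Cert_tree lc_e_rc_18_1 lc_e_Cert_tree lc_e_rc_18_1 lc_e_rc_18_1 lc_e_Cert_tree lc_e_Cert_tree lc_e_rc_19_4 lc_e_Cert_tree lc_e_rc_18_1 lc_e_Cert_tree lc_e_rc_18_1 lc_e_rc_13_3 lc_e_Cert_tree lc_e_rc_18_1 lc_e_Cert_tree lc_e_Cert_tree lc_e_rc_9_3 lc_e_rc_19_4 lc_e_rc_9_3 lc_e_rc_18_1 lc_e_Cert_tree lc_e_rc_18_1 lc_e_rc_9_3 lc_e_rc_18_1 lc_e_Cert_tree lc_e_rc_13_1 lc_e_rc_16_1 lc_e_rc_19_4 lc_e_Cert_tree lc_e_rc_18_1 lc_e_rc_13_3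 lc_e_rc_13_3 lc_e_rc_19_4 lc_e_rc_13_1 lc_e_rc_18_1 lc_e_Cert_tree lc_e_Cert_tree lc_e_rc_27_7 lc_e_rc_18_1 lc_e_rc_9_3 lc_e_rc_13_3 lc_e_Cert_tree lc_e_rc_19_2 lc_e_rc_16_5 lc_e_Cert_tree lc_e_rc_9_3 lc_e_Cert_tree lc_e_rc_18_1 lc_e_rc_16_1 lc_e_Cert_tree) (@D3.rec (fun _ => (Cert rels S Gen.e)) lc_e_rc_18_1 lc_e_Cert_tree lc_e_Cert_tree lc_e_rc_18_1 lc_e_rc_13_3 lc_e_rc_27_1 lc_e_rc_16_3 lc_e_rc_4_1 lc_e_rc_13_3 lc_e_Cert_tree lc_e_rc_9_3 lc_e_Cert_tree lc_e_rc_13_3 lc_e_rc_4_1 lc_e_Cert_tree lc_e_rc_18_1 lc_e_rc_4_1 lc_e_rc_18_1 lc_e_Cert_tree lc_e_Cert_tree lc_e_rc_18_1 lc_e_rc_27_5 lc_e_rc_4_1 lc_e_rc_16_1 lc_e_rc_19_4 lc_e_Cert_tree lc_e_Cert_tree lc_e_rc_18_1 lc_e_rc_27_7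 lc_e_rc_4_3 lc_e_Cert_tree lc_e_rc_27_7 lc_e_Cert_tree lc_e_rc_18_1 lc_e_rc_19_2 lc_e_rc_16_5 lc_e_rc_16_1 lc_e_rc_27_1 lc_e_rc_13_3 lc_e_rc_18_1 lc_e_Cert_tree lc_e_rc_27_1 lc_e_Cert_tree lc_e_rc_18_1 lc_e_Cert_tree lc_e_rc_18_1 lc_e_Cert_tree lc_e_Cert_tree lc_e_rc_16_5 lc_e_rc_18_1 lc_e_rc_27_1 lc_e_rc_4_3 lc_e_rc_9_1 lc_e_rc_18_1 lc_e_rc_9_3 lc_e_rc_19_2 lc_e_Cert_tree lc_e_Cert_tree lc_e_rc_18_1 lc_e_rc_18_1 lc_e_rc_18_1 lc_e_rc_19_4) (@D3.rec (fun _ => (Cert rels S Gen.e)) lc_e_Cert_tree lc_e_Cert_tree lc_e_rc_18_1 lc_e_rc_9_3 lc_e_Cert_tree lc_e_rc_27_5 lc_e_rc_19_4 lc_e_rc_9_3 lc_e_Cert_tree lc_e_Cert_tree lc_e_rc_4_3 lc_e_Cert_tree lc_e_Cert_tree lc_e_rc_18_1 lc_e_rc_18_1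 lc_e_rc_13_3 lc_e_rc_9_3 lc_e_rc_19_0 lc_e_Cert_tree lc_e_rc_19_2 lc_e_rc_4_3 lc_e_rc_9_1 lc_e_rc_27_5 lc_e_rc_18_1 lc_e_rc_13_3 lc_e_rc_4_1 lc_e_rc_4_1 lc_e_rc_4_3 lc_e_rc_19_0 lc_e_Cert_tree lc_e_Cert_tree lc_e_rc_18_1 lc_e_rc_18_1 lc_e_rc_27_5 lc_e_rc_27_7 lc_e_Cert_tree lc_e_Cert_tree lc_e_rc_18_1 lc_e_rc_18_1 lc_e_rc_18_1 lc_e_rc_18_1 lc_e_rc_4_1 lc_e_rc_27_1 lc_e_rc_16_1 lc_e_rc_9_3 lc_e_rc_9_3 lc_e_rc_13_3 lc_e_rc_9_3 lc_e_Cert_tree lc_e_rc_4_1 lc_e_Cert_tree lc_e_rc_27_5 lc_e_rc_4_1 lc_e_Cert_tree lc_e_rc_18_1 lc_e_rc_18_1 lc_e_rc_19_2 lc_e_rc_13_3 lc_e_Cert_tree lc_e_Cert_tree lc_e_rc_18_1 lc_e_rc_4_3) (@D3.rec (fun _ => (Cert rels S Gen.e)) lc_e_rc_19_2 lc_e_rc_13_3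 lc_e_rc_19_2 lc_e_Cert_tree lc_e_Cert_tree lc_e_rc_18_1 lc_e_Cert_tree lc_e_rc_27_7 lc_e_Cert_tree lc_e_rc_18_1 lc_e_rc_27_5 lc_e_rc_13_3 lc_e_rc_16_1 lc_e_rc_27_7 lc_e_rc_18_1 lc_e_Cert_tree lc_e_rc_18_1 lc_e_rc_19_2 lc_e_rc_4_1 lc_e_rc_18_1 lc_e_rc_18_1 lc_e_rc_27_5 lc_e_Cert_tree lc_e_rc_18_1 lc_e_Cert_tree lc_e_rc_27_1 lc_e_rc_16_1 lc_e_rc_9_3 lc_e_rc_16_5 lc_e_rc_18_1 lc_e_rc_16_1 lc_e_rc_19_4 lc_e_rc_18_1 lc_e_rc_27_1 lc_e_rc_18_1 lc_e_Cert_tree lc_e_rc_18_1 lc_e_rc_9_3 lc_e_rc_16_3 lc_e_rc_18_1 lc_e_rc_27_7 lc_e_Cert_tree lc_e_rc_18_1 lc_e_rc_13_3 lc_e_rc_18_1 lc_e_rc_16_5 lc_e_Cert_tree lc_e_rc_18_1 lc_e_rc_18_1 lc_e_rc_18_1 lc_e_rc_18_1 lc_e_rc_13_3 lc_e_rc_9_3 lc_e_rc_27_5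 lc_e_rc_13_3 lc_e_rc_27_1 lc_e_rc_18_1 lc_e_rc_9_3 lc_e_Cert_tree lc_e_Cert_tree lc_e_rc_9_1 lc_e_rc_4_3) (@D3.rec (fun _ => (Cert rels S Gen.e)) lc_e_rc_9_1 lc_e_rc_13_3 lc_e_Cert_tree lc_e_rc_18_1 lc_e_rc_16_3 lc_e_rc_13_3 lc_e_Cert_tree lc_e_rc_13_3 lc_e_rc_18_1 lc_e_Cert_tree lc_e_Cert_tree lc_e_Cert_tree lc_e_rc_18_1 lc_e_Cert_tree lc_e_rc_18_1 lc_e_rc_13_3 lc_e_Cert_tree lc_e_Cert_tree lc_e_Cert_tree lc_e_rc_18_1 lc_e_rc_18_1 lc_e_rc_18_1 lc_e_Cert_tree lc_e_Cert_tree lc_e_Cert_tree lc_e_rc_18_1 lc_e_rc_18_1 lc_e_rc_4_1 lc_e_rc_13_1 lc_e_Cert_tree lc_e_Cert_tree lc_e_rc_18_1 lc_e_rc_18_1 lc_e_Cert_tree lc_e_rc_19_4 lc_e_rc_19_2 lc_e_rc_13_3 lc_e_Cert_tree lc_e_rc_18_1 lc_e_rc_16_3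 lc_e_rc_19_4 lc_e_rc_27_7 lc_e_rc_27_1 lc_e_rc_18_1 lc_e_rc_18_1 lc_e_rc_13_1 lc_e_rc_27_5 lc_e_rc_9_3 lc_e_Cert_tree lc_e_rc_18_1 lc_e_rc_4_1 lc_e_rc_19_4 lc_e_Cert_tree lc_e_Cert_tree lc_e_Cert_tree lc_e_rc_18_1 lc_e_Cert_tree lc_e_Cert_tree lc_e_Cert_tree lc_e_rc_18_1 lc_e_rc_19_2 lc_e_rc_27_1) (@D3.rec (fun _ => (Cert rels S Gen.e)) lc_e_rc_9_3 lc_e_rc_18_1 lc_e_rc_9_3 lc_e_Cert_tree lc_e_rc_18_1 lc_e_rc_16_1 lc_e_rc_4_3 lc_e_rc_19_4 lc_e_rc_13_3 lc_e_rc_27_7 lc_e_rc_9_3 lc_e_Cert_tree lc_e_rc_13_3 lc_e_Cert_tree lc_e_rc_4_3 lc_e_rc_13_3 lc_e_rc_18_1 lc_e_rc_4_1 lc_e_rc_19_4 lc_e_Cert_tree lc_e_rc_18_1 lc_e_rc_16_3 lc_e_rc_19_2 lc_e_rc_27_5 lc_e_rc_18_1 lc_e_rc_13_1 lc_e_Cert_tree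 lc_e_rc_13_1 lc_e_rc_18_1 lc_e_rc_18_1 lc_e_rc_16_1 lc_e_rc_18_1 lc_e_rc_27_1 lc_e_rc_18_1 lc_e_rc_18_1 lc_e_rc_16_3 lc_e_rc_16_5 lc_e_Cert_tree lc_e_rc_27_5 lc_e_Cert_tree lc_e_rc_18_1 lc_e_rc_9_1 lc_e_rc_18_1 lc_e_rc_19_4 lc_e_rc_16_3 lc_e_rc_19_4 lc_e_Cert_tree lc_e_rc_18_1 lc_e_rc_9_3 lc_e_rc_18_1 lc_e_rc_27_5 lc_e_rc_13_3 lc_e_rc_9_3 lc_e_rc_19_2 lc_e_rc_18_1 lc_e_rc_4_3 lc_e_rc_18_1 lc_e_rc_13_3 lc_e_rc_27_1 lc_e_rc_18_1 lc_e_Cert_tree lc_e_rc_18_1) (@D3.rec (fun _ => (Cert rels S Gen.e)) lc_e_rc_16_3 lc_e_rc_9_3 lc_e_rc_16_5 lc_e_Cert_tree lc_e_rc_27_1 lc_e_rc_18_1 lc_e_rc_18_1 lc_e_rc_13_3 lc_e_rc_16_1 lc_e_rc_4_1 lc_e_rc_27_5 lc_e_rc_4_3 lc_e_rc_13_3 lc_e_rc_27_1 lc_e_rc_27_5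 lc_e_rc_4_3 lc_e_rc_16_5 lc_e_rc_19_4 lc_e_Cert_tree lc_e_Cert_tree lc_e_rc_18_1 lc_e_rc_18_1 lc_e_rc_16_1 lc_e_Cert_tree lc_e_rc_18_1 lc_e_rc_18_1 lc_e_Cert_tree lc_e_rc_18_1 lc_e_rc_4_3 lc_e_Cert_tree lc_e_rc_18_1 lc_e_rc_18_1 lc_e_rc_19_0 lc_e_rc_16_1 lc_e_rc_27_5 lc_e_rc_18_1 lc_e_rc_18_1 lc_e_Cert_tree lc_e_rc_18_1 lc_e_rc_16_1 lc_e_rc_19_2 lc_e_Cert_tree lc_e_Cert_tree lc_e_rc_18_1 lc_e_rc_16_3 lc_e_rc_27_5 lc_e_rc_18_1 lc_e_rc_4_1 lc_e_rc_19_0 lc_e_rc_18_1 lc_e_Cert_tree lc_e_rc_18_1 lc_e_rc_19_0 lc_e_Cert_tree lc_e_rc_18_1 lc_e_rc_13_3 lc_e_rc_27_5 lc_e_rc_13_3 lc_e_Cert_tree lc_e_rc_18_1 lc_e_rc_27_5 lc_e_rc_18_1) (@D3.rec (fun _ => (Cert rels S Gen.e)) lc_e_rc_18_1 lc_e_Cert_tree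 lc_e_rc_27_7 lc_e_rc_18_1 lc_e_rc_16_3 lc_e_rc_16_3 lc_e_rc_9_1 lc_e_rc_13_1 lc_e_Cert_tree lc_e_rc_18_1 lc_e_Cert_tree lc_e_Cert_tree lc_e_Cert_tree lc_e_rc_18_1 lc_e_rc_9_3 lc_e_Cert_tree lc_e_rc_18_1 lc_e_rc_9_3 lc_e_Cert_tree lc_e_rc_9_3 lc_e_rc_4_3 lc_e_rc_19_0 lc_e_rc_18_1 lc_e_rc_13_3 lc_e_rc_13_1 lc_e_rc_9_3 lc_e_Cert_tree lc_e_rc_13_3 lc_e_rc_16_1 lc_e_rc_13_3 lc_e_rc_9_3 lc_e_Cert_tree lc_e_Cert_tree lc_e_rc_18_1 lc_e_rc_18_1 lc_e_rc_27_5 lc_e_rc_16_1 lc_e_rc_19_4 lc_e_rc_18_1 lc_e_rc_19_2 lc_e_rc_18_1 lc_e_Cert_tree lc_e_rc_18_1 lc_e_rc_18_1 lc_e_Cert_tree lc_e_rc_16_1 lc_e_Cert_tree lc_e_rc_18_1 lc_e_rc_18_1 lc_e_rc_13_3 lc_e_rc_16_1 lc_e_Cert_tree lc_e_Cert_tree lc_e_rc_18_1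 lc_e_rc_16_3 lc_e_Cert_tree lc_e_rc_18_1 lc_e_rc_16_1 lc_e_Cert_tree lc_e_Cert_tree lc_e_rc_18_1 lc_e_Cert_tree) (@D3.rec (fun _ => (Cert rels S Gen.e)) lc_e_Cert_tree lc_e_rc_18_1 lc_e_Cert_tree lc_e_rc_27_7 lc_e_rc_13_3 lc_e_Cert_tree lc_e_rc_18_1 lc_e_rc_18_1 lc_e_rc_27_5 lc_e_Cert_tree lc_e_Cert_tree lc_e_rc_18_1 lc_e_rc_27_7 lc_e_rc_18_1 lc_e_rc_27_5 lc_e_rc_18_1 lc_e_Cert_tree lc_e_Cert_tree lc_e_rc_18_1 lc_e_rc_18_1 lc_e_rc_27_7 lc_e_rc_18_1 lc_e_rc_18_1 lc_e_rc_13_3 lc_e_rc_27_5 lc_e_rc_13_3 lc_e_rc_19_4 lc_e_rc_9_3 lc_e_rc_16_3 lc_e_rc_9_3 lc_e_Cert_tree lc_e_rc_13_3 lc_e_rc_19_0 lc_e_rc_4_3 lc_e_Cert_tree lc_e_rc_9_3 lc_e_Cert_tree lc_e_Cert_tree lc_e_rc_16_3 lc_e_rc_18_1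 lc_e_Cert_tree lc_e_rc_9_3 lc_e_Cert_tree lc_e_rc_18_1 lc_e_rc_18_1 lc_e_rc_19_4 lc_e_rc_9_3 lc_e_rc_9_3 lc_e_Cert_tree lc_e_rc_9_3 lc_e_Cert_tree lc_e_rc_13_3 lc_e_rc_19_2 lc_e_rc_9_3 lc_e_Cert_tree lc_e_rc_9_3 lc_e_rc_16_5 lc_e_Cert_tree lc_e_rc_18_1 lc_e_rc_9_3 lc_e_Cert_tree lc_e_rc_16_5) (@D3.rec (fun _ => (Cert rels S Gen.e)) lc_e_rc_19_4 lc_e_rc_18_1 lc_e_rc_27_5 lc_e_rc_18_1 lc_e_rc_13_3 lc_e_Cert_tree lc_e_Cert_tree lc_e_Cert_tree lc_e_rc_18_1 lc_e_rc_18_1 lc_e_rc_16_1 lc_e_rc_16_3 lc_e_rc_4_1 lc_e_rc_18_1 lc_e_Cert_tree lc_e_rc_18_1 lc_e_rc_18_1 lc_e_rc_18_1 lc_e_Cert_tree lc_e_Cert_tree lc_e_rc_16_1 lc_e_rc_19_2 lc_e_Cert_tree lc_e_rc_18_1 lc_e_rc_13_3 lc_e_Cert_tree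 lc_e_rc_16_1 lc_e_rc_19_2 lc_e_Cert_tree lc_e_Cert_tree lc_e_rc_18_1 lc_e_Cert_tree lc_e_rc_18_1 lc_e_Cert_tree lc_e_Cert_tree lc_e_rc_13_3 lc_e_Cert_tree lc_e_Cert_tree lc_e_Cert_tree lc_e_rc_18_1 lc_e_rc_27_1 lc_e_rc_18_1 lc_e_rc_16_3 lc_e_rc_4_1 lc_e_Cert_tree lc_e_Cert_tree lc_e_Cert_tree lc_e_Cert_tree lc_e_rc_18_1 lc_e_Cert_tree lc_e_rc_18_1 lc_e_rc_16_1 lc_e_rc_18_1 lc_e_rc_18_1 lc_e_Cert_tree lc_e_rc_9_3 lc_e_rc_4_3 lc_e_Cert_tree lc_e_rc_18_1 lc_e_Cert_tree lc_e_rc_18_1 lc_e_Cert_tree) (@D3.rec (fun _ => (Cert rels S Gen.e)) lc_e_Cert_tree lc_e_rc_18_1 lc_e_Cert_tree lc_e_rc_16_1 lc_e_rc_4_3 lc_e_rc_16_1 lc_e_rc_19_4 lc_e_Cert_tree lc_e_Cert_tree lc_e_rc_18_1 lc_e_Cert_tree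 lc_e_Cert_tree lc_e_rc_18_1 lc_e_Cert_tree lc_e_Cert_tree lc_e_rc_13_3 lc_e_Cert_tree lc_e_Cert_tree lc_e_rc_18_1 lc_e_rc_9_3 lc_e_Cert_tree lc_e_rc_27_1 lc_e_rc_16_3 lc_e_rc_19_4 lc_e_rc_13_3 lc_e_Cert_tree lc_e_Cert_tree lc_e_Cert_tree lc_e_rc_13_3 lc_e_Cert_tree lc_e_rc_27_1 lc_e_rc_9_1 lc_e_rc_18_1 lc_e_rc_16_3 lc_e_rc_27_1 lc_e_Cert_tree lc_e_rc_16_1 lc_e_Cert_tree lc_e_rc_16_3 lc_e_rc_18_1 lc_e_Cert_tree lc_e_Cert_tree lc_e_rc_18_1 lc_e_rc_16_3 lc_e_rc_16_3 lc_e_rc_18_1 lc_e_Cert_tree lc_e_rc_18_1 lc_e_rc_18_1 lc_e_Cert_tree lc_e_Cert_tree lc_e_rc_16_3 lc_e_rc_19_2 lc_e_Cert_tree lc_e_rc_13_3 lc_e_rc_16_1 lc_e_rc_19_4 lc_e_Cert_tree lc_e_Cert_tree lc_e_rc_18_1 lc_e_Cert_tree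 lc_e_rc_18_1) (@D3.rec (fun _ => (Cert rels S Gen.e)) lc_e_Cert_tree lc_e_Cert_tree lc_e_rc_13_3 lc_e_Cert_tree lc_e_rc_4_3 lc_e_Cert_tree lc_e_rc_13_3 lc_e_rc_18_1 lc_e_rc_16_3 lc_e_rc_19_4 lc_e_Cert_tree lc_e_Cert_tree lc_e_Cert_tree lc_e_Cert_tree lc_e_rc_18_1 lc_e_rc_18_1 lc_e_rc_16_1 lc_e_rc_18_1 lc_e_rc_27_1 lc_e_rc_9_3 lc_e_rc_13_3 lc_e_rc_27_1 lc_e_rc_18_1 lc_e_rc_18_1 lc_e_Cert_tree lc_e_rc_18_1 lc_e_rc_27_5 lc_e_rc_16_1 lc_e_rc_19_2 lc_e_rc_13_3 lc_e_rc_13_3 lc_e_rc_16_1 lc_e_rc_19_4 lc_e_rc_9_3 lc_e_Cert_tree lc_e_Cert_tree lc_e_Cert_tree lc_e_rc_18_1 lc_e_Cert_tree lc_e_Cert_tree lc_e_rc_13_3 lc_e_Cert_tree lc_e_Cert_tree lc_e_Cert_tree lc_e_rc_18_1 lc_e_Cert_tree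 lc_e_rc_18_1 lc_e_rc_18_1 lc_e_Cert_tree lc_e_rc_9_3 lc_e_Cert_tree lc_e_rc_4_3 lc_e_Cert_tree lc_e_rc_18_1 lc_e_Cert_tree lc_e_Cert_tree lc_e_rc_18_1 lc_e_rc_18_1 lc_e_rc_18_1 lc_e_rc_9_1 lc_e_Cert_tree lc_e_Cert_tree) (@D3.rec (fun _ => (Cert rels S Gen.e)) lc_e_rc_18_1 lc_e_Cert_tree lc_e_Cert_tree lc_e_rc_16_1 lc_e_rc_9_3 lc_e_rc_13_3 lc_e_Cert_tree lc_e_rc_27_5 lc_e_rc_16_1 lc_e_rc_19_4 lc_e_Cert_tree lc_e_rc_13_3 lc_e_Cert_tree lc_e_Cert_tree lc_e_rc_18_1 lc_e_rc_18_1 lc_e_rc_18_1 lc_e_rc_13_3 lc_e_Cert_tree lc_e_rc_16_3 lc_e_rc_19_2 lc_e_Cert_tree lc_e_Cert_tree lc_e_rc_16_1 lc_e_rc_19_4 lc_e_Cert_tree lc_e_Cert_tree lc_e_rc_13_3 lc_e_rc_9_3 lc_e_Cert_tree lc_e_rc_18_1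 lc_e_rc_27_1 lc_e_Cert_tree lc_e_rc_16_3 lc_e_rc_19_4 lc_e_rc_16_3 lc_e_Cert_tree lc_e_rc_27_5 lc_e_rc_9_3 lc_e_rc_18_1 lc_e_rc_18_1 lc_e_rc_27_5 lc_e_rc_18_1 lc_e_Cert_tree lc_e_rc_27_7 lc_e_rc_13_3 lc_e_rc_4_1 lc_e_Cert_tree lc_e_Cert_tree lc_e_Cert_tree lc_e_rc_18_1 lc_e_Cert_tree lc_e_Cert_tree lc_e_rc_16_5 lc_e_rc_18_1 lc_e_rc_16_1 lc_e_rc_13_1 lc_e_rc_4_1 lc_e_Cert_tree lc_e_Cert_tree lc_e_rc_18_1 lc_e_Cert_tree) (@D3.rec (fun _ => (Cert rels S Gen.e)) lc_e_rc_18_1 lc_e_rc_16_1 lc_e_Cert_tree lc_e_rc_16_5 lc_e_rc_27_7 lc_e_rc_18_1 lc_e_Cert_tree lc_e_Cert_tree lc_e_rc_27_7 lc_e_rc_18_1 lc_e_Cert_tree lc_e_Cert_tree lc_e_rc_9_3 lc_e_Cert_tree lc_e_Cert_tree lc_e_rc_18_1 lc_e_rc_9_1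 lc_e_rc_4_3 lc_e_rc_18_1 lc_e_rc_27_7 lc_e_rc_13_1 lc_e_Cert_tree lc_e_rc_19_2 lc_e_Cert_tree lc_e_Cert_tree lc_e_rc_18_1 lc_e_Cert_tree lc_e_Cert_tree lc_e_rc_16_5 lc_e_rc_27_5 lc_e_rc_27_7 lc_e_rc_27_5 lc_e_rc_27_5 lc_e_rc_27_7 lc_e_Cert_tree lc_e_Cert_tree lc_e_rc_18_1 lc_e_rc_18_1 lc_e_rc_18_1 lc_e_Cert_tree lc_e_Cert_tree lc_e_rc_18_1 lc_e_rc_27_7 lc_e_rc_27_7 lc_e_rc_27_5 lc_e_rc_27_1 lc_e_rc_13_3 lc_e_Cert_tree lc_e_Cert_tree lc_e_rc_18_1 lc_e_Cert_tree lc_e_rc_18_1 lc_e_rc_27_5 lc_e_rc_16_1 lc_e_rc_9_3 lc_e_rc_27_7 lc_e_rc_13_3 lc_e_Cert_tree lc_e_rc_18_1 lc_e_rc_9_3 lc_e_Cert_tree lc_e_rc_18_1) (@D3.rec (fun _ => (Cert rels S Gen.e)) lc_e_Cert_tree lc_e_rc_9_3 lc_e_Cert_tree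 lc_e_rc_18_1 lc_e_rc_4_3 lc_e_Cert_tree lc_e_Cert_tree lc_e_rc_18_1 lc_e_rc_19_0 lc_e_rc_13_3 lc_e_Cert_tree lc_e_rc_27_5 lc_e_rc_18_1 lc_e_rc_4_3 lc_e_rc_9_3 lc_e_rc_13_3 lc_e_Cert_tree lc_e_Cert_tree lc_e_rc_13_1 lc_e_rc_18_1 lc_e_rc_13_3 lc_e_rc_13_3 lc_e_rc_27_7 lc_e_rc_27_5 lc_e_Cert_tree lc_e_rc_13_3 lc_e_rc_13_3 lc_e_rc_13_3 lc_e_Cert_tree lc_e_Cert_tree lc_e_rc_18_1 lc_e_rc_9_3 lc_e_rc_13_3 lc_e_Cert_tree lc_e_Cert_tree lc_e_Cert_tree lc_e_rc_18_1 lc_e_rc_27_1 lc_e_rc_27_5 lc_e_rc_16_1 lc_e_rc_9_3 lc_e_rc_27_5 lc_e_rc_13_3 lc_e_rc_18_1 lc_e_rc_18_1 lc_e_rc_4_1 lc_e_rc_16_3 lc_e_rc_19_4 lc_e_rc_13_3 lc_e_rc_13_3 lc_e_rc_9_3 lc_e_rc_13_3 lc_e_rc_9_3 lc_e_Cert_tree lc_e_rc_27_5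 lc_e_rc_19_4 lc_e_rc_18_1 lc_e_rc_9_3 lc_e_rc_18_1 lc_e_rc_16_1 lc_e_rc_18_1 lc_e_rc_27_7) (@D3.rec (fun _ => (Cert rels S Gen.e)) lc_e_rc_18_1 lc_e_rc_19_2 lc_e_rc_16_1 lc_e_rc_4_1 lc_e_Cert_tree lc_e_rc_9_3 lc_e_rc_27_5 lc_e_rc_18_1 lc_e_rc_13_3 lc_e_rc_18_1 lc_e_rc_13_3 lc_e_Cert_tree lc_e_Cert_tree lc_e_Cert_tree lc_e_rc_18_1 lc_e_Cert_tree lc_e_rc_13_3 lc_e_rc_19_4 lc_e_Cert_tree lc_e_rc_9_3 lc_e_Cert_tree lc_e_rc_18_1 lc_e_Cert_tree lc_e_rc_9_3 lc_e_Cert_tree lc_e_rc_27_5 lc_e_rc_4_3 lc_e_rc_18_1 lc_e_rc_13_3 lc_e_rc_19_4 lc_e_rc_9_3 lc_e_Cert_tree lc_e_rc_9_1 lc_e_rc_18_1 lc_e_rc_19_0 lc_e_rc_13_3 lc_e_rc_4_3 lc_e_Cert_tree lc_e_Cert_tree lc_e_Cert_tree lc_e_Cert_tree lc_e_rc_18_1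 lc_e_Cert_tree lc_e_Cert_tree lc_e_rc_18_1 lc_e_Cert_tree lc_e_Cert_tree lc_e_rc_18_1 lc_e_rc_18_1 lc_e_rc_4_3 lc_e_rc_18_1 lc_e_Cert_tree lc_e_Cert_tree lc_e_rc_4_3 lc_e_rc_19_4 lc_e_rc_18_1 lc_e_Cert_tree lc_e_rc_16_1 lc_e_rc_19_4 lc_e_Cert_tree lc_e_Cert_tree lc_e_rc_18_1)
def ce_e_7 : D2 → D3 → (Cert rels S Gen.e) := @D2.rec (fun _ => D3 → (Cert rels S Gen.e)) (@D3.rec (fun _ => (Cert rels S Gen.e)) lc_e_rc_19_2 lc_e_Cert_tree lc_e_Cert_tree lc_e_rc_9_3 lc_e_Cert_tree lc_e_rc_27_5 lc_e_rc_18_1 lc_e_rc_19_0 lc_e_Cert_tree lc_e_Cert_tree lc_e_rc_18_1 lc_e_rc_13_3 lc_e_rc_18_1 lc_e_Cert_tree lc_e_rc_18_1 lc_e_rc_18_1 lc_e_Cert_tree lc_e_rc_4_1 lc_e_Cert_tree lc_e_rc_18_1 lc_e_rc_16_3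 lc_e_rc_19_2 lc_e_rc_18_1 lc_e_rc_16_3 lc_e_Cert_tree lc_e_Cert_tree lc_e_rc_16_3 lc_e_Cert_tree lc_e_rc_18_1 lc_e_Cert_tree lc_e_rc_18_1 lc_e_Cert_tree lc_e_Cert_tree lc_e_rc_16_1 lc_e_Cert_tree lc_e_Cert_tree lc_e_rc_18_1 lc_e_Cert_tree lc_e_Cert_tree lc_e_rc_19_2 lc_e_rc_13_3 lc_e_Cert_tree lc_e_Cert_tree lc_e_rc_27_5 lc_e_rc_18_1 lc_e_rc_18_1 lc_e_rc_16_1 lc_e_rc_18_1 lc_e_rc_18_1 lc_e_Cert_tree lc_e_rc_18_1 lc_e_rc_18_1 lc_e_rc_18_1 lc_e_rc_18_1 lc_e_Cert_tree lc_e_Cert_tree lc_e_rc_16_1 lc_e_rc_9_3 lc_e_Cert_tree lc_e_rc_9_3 lc_e_rc_16_1 lc_e_rc_19_4) (@D3.rec (fun _ => (Cert rels S Gen.e)) lc_e_Cert_tree lc_e_Cert_tree lc_e_rc_18_1 lc_e_Cert_tree lc_e_Cert_tree lc_e_rc_18_1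 lc_e_Cert_tree lc_e_Cert_tree lc_e_rc_13_3 lc_e_rc_19_2 lc_e_Cert_tree lc_e_Cert_tree lc_e_rc_18_1 lc_e_Cert_tree lc_e_rc_18_1 lc_e_Cert_tree lc_e_Cert_tree lc_e_rc_18_1 lc_e_Cert_tree lc_e_rc_18_1 lc_e_Cert_tree lc_e_rc_18_1 lc_e_Cert_tree lc_e_rc_18_1 lc_e_Cert_tree lc_e_rc_13_3 lc_e_rc_16_1 lc_e_Cert_tree lc_e_Cert_tree lc_e_rc_16_1 lc_e_rc_19_4 lc_e_rc_16_5 lc_e_rc_18_1 lc_e_Cert_tree lc_e_rc_18_1 lc_e_rc_18_1 lc_e_rc_18_1 lc_e_Cert_tree lc_e_Cert_tree lc_e_rc_16_1 lc_e_rc_9_3 lc_e_Cert_tree lc_e_rc_4_3 lc_e_rc_16_1 lc_e_rc_19_4 lc_e_Cert_tree lc_e_Cert_tree lc_e_rc_13_3 lc_e_Cert_tree lc_e_Cert_tree lc_e_Cert_tree lc_e_rc_18_1 lc_e_rc_16_3 lc_e_rc_18_1 lc_e_rc_13_1 lc_e_rc_16_3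 lc_e_rc_19_4 lc_e_rc_4_3 lc_e_Cert_tree lc_e_Cert_tree lc_e_rc_18_1 lc_e_Cert_tree) (@D3.rec (fun _ => (Cert rels S Gen.e)) lc_e_rc_27_5 lc_e_rc_18_1 lc_e_Cert_tree lc_e_Cert_tree lc_e_rc_13_3 lc_e_Cert_tree lc_e_rc_13_3 lc_e_Cert_tree lc_e_rc_13_3 lc_e_Cert_tree lc_e_Cert_tree lc_e_Cert_tree lc_e_rc_18_1 lc_e_Cert_tree lc_e_Cert_tree lc_e_Cert_tree lc_e_rc_18_1 lc_e_Cert_tree lc_e_Cert_tree lc_e_rc_13_3 lc_e_Cert_tree lc_e_rc_18_1 lc_e_Cert_tree lc_e_Cert_tree lc_e_rc_16_3 lc_e_rc_27_5 lc_e_Cert_tree lc_e_Cert_tree lc_e_Cert_tree lc_e_rc_18_1 lc_e_rc_13_1 lc_e_rc_27_5 lc_e_rc_18_1 lc_e_Cert_tree lc_e_Cert_tree lc_e_Cert_tree lc_e_rc_18_1 lc_e_rc_4_3 lc_e_rc_16_1 lc_e_rc_27_7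 lc_e_rc_4_3 lc_e_Cert_tree lc_e_rc_19_2 lc_e_Cert_tree lc_e_rc_18_1 lc_e_rc_9_3 lc_e_Cert_tree lc_e_rc_18_1 lc_e_rc_16_1 lc_e_Cert_tree lc_e_Cert_tree lc_e_rc_18_1 lc_e_rc_13_3 lc_e_rc_9_3 lc_e_rc_18_1 lc_e_Cert_tree lc_e_Cert_tree lc_e_rc_9_1 lc_e_Cert_tree lc_e_Cert_tree lc_e_rc_18_1 lc_e_rc_16_3) (@D3.rec (fun _ => (Cert rels S Gen.e)) lc_e_Cert_tree lc_e_Cert_tree lc_e_rc_18_1 lc_e_Cert_tree lc_e_Cert_tree lc_e_rc_18_1 lc_e_Cert_tree lc_e_Cert_tree lc_e_rc_13_3 lc_e_rc_16_3 lc_e_rc_18_1 lc_e_Cert_tree lc_e_Cert_tree lc_e_rc_18_1 lc_e_rc_27_1 lc_e_rc_27_7 lc_e_rc_18_1 lc_e_rc_13_1 lc_e_rc_4_3 lc_e_rc_27_7 lc_e_rc_19_0 lc_e_Cert_tree lc_e_Cert_tree lc_e_rc_18_1 lc_e_Cert_tree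 lc_e_rc_9_3 lc_e_Cert_tree lc_e_rc_18_1 lc_e_rc_18_1 lc_e_rc_16_1 lc_e_rc_27_7 lc_e_rc_27_7 lc_e_rc_27_7 lc_e_Cert_tree lc_e_Cert_tree lc_e_rc_18_1 lc_e_rc_4_3 lc_e_rc_27_5 lc_e_rc_18_1 lc_e_Cert_tree lc_e_rc_4_1 lc_e_rc_18_1 lc_e_rc_16_5 lc_e_rc_9_3 lc_e_rc_13_1 lc_e_rc_18_1 lc_e_rc_16_3 lc_e_rc_13_3 lc_e_rc_27_1 lc_e_Cert_tree lc_e_rc_18_1 lc_e_Cert_tree lc_e_rc_18_1 lc_e_rc_18_1 lc_e_rc_16_1 lc_e_rc_9_3 lc_e_Cert_tree lc_e_rc_13_3 lc_e_rc_27_5 lc_e_rc_18_1 lc_e_Cert_tree lc_e_rc_27_5) (@D3.rec (fun _ => (Cert rels S Gen.e)) lc_e_Cert_tree lc_e_Cert_tree lc_e_rc_18_1 lc_e_rc_18_1 lc_e_Cert_tree lc_e_Cert_tree lc_e_rc_18_1 lc_e_rc_27_1 lc_e_rc_9_3 lc_e_Cert_tree lc_e_Cert_tree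 lc_e_rc_18_1 lc_e_rc_13_3 lc_e_rc_19_2 lc_e_Cert_tree lc_e_rc_18_1 lc_e_Cert_tree lc_e_Cert_tree lc_e_rc_18_1 lc_e_rc_18_1 lc_e_Cert_tree lc_e_Cert_tree lc_e_rc_18_1 lc_e_Cert_tree lc_e_Cert_tree lc_e_rc_13_3 lc_e_Cert_tree lc_e_Cert_tree lc_e_Cert_tree lc_e_rc_18_1 lc_e_rc_27_5 lc_e_rc_19_0 lc_e_rc_19_0 lc_e_Cert_tree lc_e_Cert_tree lc_e_Cert_tree lc_e_Cert_tree lc_e_Cert_tree lc_e_rc_18_1 lc_e_rc_27_7 lc_e_rc_27_5 lc_e_rc_13_3 lc_e_rc_13_3 lc_e_rc_18_1 lc_e_rc_18_1 lc_e_Cert_tree lc_e_rc_13_3 lc_e_rc_16_5 lc_e_rc_13_3 lc_e_rc_13_3 lc_e_rc_27_7 lc_e_rc_9_3 lc_e_Cert_tree lc_e_Cert_tree lc_e_Cert_tree lc_e_rc_18_1 lc_e_rc_18_1 lc_e_rc_9_3 lc_e_Cert_tree lc_e_Cert_tree lc_e_Cert_tree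 lc_e_Cert_tree) (@D3.rec (fun _ => (Cert rels S Gen.e)) lc_e_Cert_tree lc_e_rc_18_1 lc_e_rc_27_7 lc_e_rc_27_1 lc_e_rc_16_1 lc_e_rc_13_3 lc_e_rc_27_5 lc_e_rc_27_7 lc_e_rc_27_7 lc_e_Cert_tree lc_e_rc_9_1 lc_e_rc_13_3 lc_e_rc_18_1 lc_e_rc_13_3 lc_e_rc_9_3 lc_e_Cert_tree lc_e_rc_9_3 lc_e_Cert_tree lc_e_rc_9_3 lc_e_Cert_tree lc_e_rc_9_3 lc_e_Cert_tree lc_e_rc_9_3 lc_e_Cert_tree lc_e_Cert_tree lc_e_Cert_tree lc_e_rc_18_1 lc_e_rc_18_1 lc_e_rc_18_1 lc_e_rc_16_3 lc_e_rc_9_3 lc_e_Cert_tree lc_e_rc_13_3 lc_e_rc_18_1 lc_e_rc_18_1 lc_e_rc_16_1 lc_e_rc_18_1 lc_e_Cert_tree lc_e_rc_18_1 lc_e_Cert_tree lc_e_Cert_tree lc_e_rc_19_4 lc_e_rc_18_1 lc_e_rc_13_3 lc_e_Cert_tree lc_e_Cert_tree lc_e_Cert_tree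 lc_e_rc_18_1 lc_e_Cert_tree lc_e_Cert_tree lc_e_rc_13_3 lc_e_rc_19_4 lc_e_Cert_tree lc_e_Cert_tree lc_e_rc_18_1 lc_e_rc_13_3 lc_e_rc_27_5 lc_e_Cert_tree lc_e_rc_9_3 lc_e_rc_9_3 lc_e_rc_13_3 lc_e_rc_18_1) (@D3.rec (fun _ => (Cert rels S Gen.e)) lc_e_rc_13_3 lc_e_rc_4_3 lc_e_Cert_tree lc_e_rc_18_1 lc_e_rc_18_1 lc_e_rc_18_1 lc_e_Cert_tree lc_e_rc_16_3 lc_e_rc_19_4 lc_e_rc_16_1 lc_e_Cert_tree lc_e_Cert_tree lc_e_rc_18_1 lc_e_Cert_tree lc_e_rc_18_1 lc_e_rc_13_3 lc_e_Cert_tree lc_e_Cert_tree lc_e_Cert_tree lc_e_rc_18_1 lc_e_Cert_tree lc_e_Cert_tree lc_e_Cert_tree lc_e_rc_18_1 lc_e_rc_4_3 lc_e_rc_18_1 lc_e_rc_27_5 lc_e_Cert_tree lc_e_rc_16_1 lc_e_rc_9_3 lc_e_rc_9_3 lc_e_rc_18_1 lc_e_rc_16_1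 lc_e_rc_19_4 lc_e_rc_9_3 lc_e_Cert_tree lc_e_Cert_tree lc_e_Cert_tree lc_e_rc_18_1 lc_e_Cert_tree lc_e_Cert_tree lc_e_rc_13_3 lc_e_Cert_tree lc_e_rc_18_1 lc_e_rc_18_1 lc_e_Cert_tree lc_e_rc_4_1 lc_e_Cert_tree lc_e_rc_9_3 lc_e_Cert_tree lc_e_rc_9_3 lc_e_Cert_tree lc_e_Cert_tree lc_e_Cert_tree lc_e_rc_18_1 lc_e_rc_18_1 lc_e_Cert_tree lc_e_rc_4_1 lc_e_Cert_tree lc_e_rc_18_1 lc_e_rc_18_1 lc_e_rc_4_3) (@D3.rec (fun _ => (Cert rels S Gen.e)) lc_e_rc_16_3 lc_e_rc_18_1 lc_e_rc_18_1 lc_e_rc_19_2 lc_e_rc_16_3 lc_e_rc_9_3 lc_e_rc_27_5 lc_e_rc_18_1 lc_e_rc_18_1 lc_e_rc_19_2 lc_e_rc_16_1 lc_e_rc_19_2 lc_e_Cert_tree lc_e_Cert_tree lc_e_rc_18_1 lc_e_rc_13_3 lc_e_Cert_tree lc_e_Cert_tree lc_e_Cert_tree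 lc_e_rc_13_1 lc_e_Cert_tree lc_e_Cert_tree lc_e_Cert_tree lc_e_rc_18_1 lc_e_rc_13_3 lc_e_rc_4_3 lc_e_rc_9_3 lc_e_Cert_tree lc_e_Cert_tree lc_e_Cert_tree lc_e_Cert_tree lc_e_rc_18_1 lc_e_rc_16_3 lc_e_rc_18_1 lc_e_rc_18_1 lc_e_rc_27_5 lc_e_Cert_tree lc_e_rc_16_3 lc_e_rc_18_1 lc_e_rc_19_0 lc_e_rc_16_1 lc_e_rc_19_2 lc_e_rc_13_3 lc_e_rc_18_1 lc_e_Cert_tree lc_e_Cert_tree lc_e_rc_13_3 lc_e_Cert_tree lc_e_rc_18_1 lc_e_Cert_tree lc_e_rc_18_1 lc_e_rc_18_1 lc_e_rc_18_1 lc_e_Cert_tree lc_e_rc_27_7 lc_e_rc_16_3 lc_e_rc_9_3 lc_e_rc_18_1 lc_e_rc_18_1 lc_e_rc_16_1 lc_e_Cert_tree lc_e_Cert_tree) (@D3.rec (fun _ => (Cert rels S Gen.e)) lc_e_rc_13_3 lc_e_Cert_tree lc_e_rc_18_1 lc_e_rc_18_1 lc_e_rc_18_1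 lc_e_Cert_tree lc_e_rc_18_1 lc_e_rc_9_3 lc_e_rc_13_3 lc_e_rc_16_1 lc_e_rc_19_2 lc_e_Cert_tree lc_e_Cert_tree lc_e_rc_27_5 lc_e_rc_16_3 lc_e_rc_13_3 lc_e_rc_18_1 lc_e_rc_13_3 lc_e_rc_27_5 lc_e_rc_16_3 lc_e_rc_18_1 lc_e_rc_13_3 lc_e_rc_9_3 lc_e_Cert_tree lc_e_rc_18_1 lc_e_rc_13_3 lc_e_Cert_tree lc_e_Cert_tree lc_e_Cert_tree lc_e_rc_13_3 lc_e_Cert_tree lc_e_rc_4_3 lc_e_Cert_tree lc_e_rc_27_5 lc_e_Cert_tree lc_e_rc_18_1 lc_e_rc_18_1 lc_e_rc_16_1 lc_e_rc_18_1 lc_e_Cert_tree lc_e_Cert_tree lc_e_Cert_tree lc_e_rc_18_1 lc_e_rc_16_1 lc_e_rc_13_3 lc_e_Cert_tree lc_e_Cert_tree lc_e_Cert_tree lc_e_rc_18_1 lc_e_rc_9_3 lc_e_rc_18_1 lc_e_Cert_tree lc_e_rc_18_1 lc_e_rc_13_3 lc_e_rc_27_7 lc_e_Cert_tree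 lc_e_Cert_tree lc_e_rc_27_1 lc_e_rc_18_1 lc_e_Cert_tree lc_e_Cert_tree lc_e_rc_16_3) (@D3.rec (fun _ => (Cert rels S Gen.e)) lc_e_rc_18_1 lc_e_Cert_tree lc_e_Cert_tree lc_e_rc_9_1 lc_e_Cert_tree lc_e_Cert_tree lc_e_rc_18_1 lc_e_rc_16_3 lc_e_rc_18_1 lc_e_rc_13_1 lc_e_Cert_tree lc_e_rc_16_1 lc_e_rc_16_5 lc_e_rc_18_1 lc_e_rc_9_3 lc_e_Cert_tree lc_e_rc_19_0 lc_e_Cert_tree lc_e_Cert_tree lc_e_rc_18_1 lc_e_Cert_tree lc_e_Cert_tree lc_e_Cert_tree lc_e_rc_18_1 lc_e_rc_18_1 lc_e_rc_16_1 lc_e_rc_13_3 lc_e_rc_13_1 lc_e_rc_9_3 lc_e_Cert_tree lc_e_Cert_tree lc_e_Cert_tree lc_e_rc_18_1 lc_e_rc_18_1 lc_e_rc_13_3 lc_e_rc_13_1 lc_e_rc_9_1 lc_e_Cert_tree lc_e_Cert_tree lc_e_rc_18_1 lc_e_Cert_tree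 lc_e_rc_18_1 lc_e_rc_16_1 lc_e_rc_27_1 lc_e_rc_9_3 lc_e_Cert_tree lc_e_rc_27_7 lc_e_rc_9_1 lc_e_rc_9_3 lc_e_rc_16_3 lc_e_rc_18_1 lc_e_rc_13_3 lc_e_rc_16_1 lc_e_Cert_tree lc_e_Cert_tree lc_e_Cert_tree lc_e_Cert_tree lc_e_rc_18_1 lc_e_rc_18_1 lc_e_rc_9_3 lc_e_Cert_tree lc_e_rc_9_3) (@D3.rec (fun _ => (Cert rels S Gen.e)) lc_e_rc_4_3 lc_e_rc_13_3 lc_e_rc_4_3 lc_e_Cert_tree lc_e_rc_18_1 lc_e_Cert_tree lc_e_rc_18_1 lc_e_rc_27_7 lc_e_rc_16_1 lc_e_rc_18_1 lc_e_rc_13_1 lc_e_Cert_tree lc_e_Cert_tree lc_e_rc_18_1 lc_e_rc_18_1 lc_e_rc_18_1 lc_e_rc_16_1 lc_e_rc_13_3 lc_e_rc_19_4 lc_e_Cert_tree lc_e_rc_27_5 lc_e_Cert_tree lc_e_rc_13_1 lc_e_Cert_tree lc_e_rc_18_1 lc_e_rc_18_1 lc_e_rc_16_1 lc_e_rc_18_1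 lc_e_Cert_tree lc_e_Cert_tree lc_e_Cert_tree lc_e_rc_18_1 lc_e_rc_18_1 lc_e_rc_16_1 lc_e_rc_27_1 lc_e_rc_19_4 lc_e_rc_19_0 lc_e_Cert_tree lc_e_rc_13_3 lc_e_rc_13_3 lc_e_Cert_tree lc_e_Cert_tree lc_e_Cert_tree lc_e_Cert_tree lc_e_rc_18_1 lc_e_Cert_tree lc_e_Cert_tree lc_e_rc_18_1 lc_e_Cert_tree lc_e_rc_18_1 lc_e_Cert_tree lc_e_Cert_tree lc_e_Cert_tree lc_e_rc_18_1 lc_e_Cert_tree lc_e_Cert_tree lc_e_rc_18_1 lc_e_rc_18_1 lc_e_rc_13_3 lc_e_rc_27_1 lc_e_rc_13_1 lc_e_rc_13_3) (@D3.rec (fun _ => (Cert rels S Gen.e)) lc_e_Cert_tree lc_e_rc_4_1 lc_e_rc_18_1 lc_e_Cert_tree lc_e_Cert_tree lc_e_Cert_tree lc_e_rc_18_1 lc_e_rc_13_3 lc_e_rc_19_0 lc_e_Cert_tree lc_e_Cert_tree lc_e_Cert_tree lc_e_Cert_tree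 lc_e_rc_18_1 lc_e_rc_13_3 lc_e_rc_13_3 lc_e_rc_16_1 lc_e_rc_13_3 lc_e_rc_13_3 lc_e_Cert_tree lc_e_rc_4_3 lc_e_rc_13_3 lc_e_rc_9_3 lc_e_Cert_tree lc_e_rc_19_0 lc_e_Cert_tree lc_e_rc_13_3 lc_e_rc_9_3 lc_e_Cert_tree lc_e_rc_18_1 lc_e_rc_13_3 lc_e_rc_27_1 lc_e_rc_13_3 lc_e_rc_13_3 lc_e_Cert_tree lc_e_rc_4_3 lc_e_rc_4_3 lc_e_Cert_tree lc_e_Cert_tree lc_e_Cert_tree lc_e_rc_18_1 lc_e_Cert_tree lc_e_Cert_tree lc_e_Cert_tree lc_e_rc_18_1 lc_e_rc_18_1 lc_e_rc_18_1 lc_e_rc_9_3 lc_e_Cert_tree lc_e_Cert_tree lc_e_rc_18_1 lc_e_rc_16_3 lc_e_Cert_tree lc_e_rc_18_1 lc_e_rc_16_3 lc_e_rc_18_1 lc_e_rc_27_5 lc_e_rc_18_1 lc_e_rc_16_3 lc_e_rc_18_1 lc_e_rc_16_3 lc_e_rc_18_1) (@D3.rec (fun _ => (Cert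 rels S Gen.e)) lc_e_Cert_tree lc_e_rc_18_1 lc_e_rc_18_1 lc_e_Cert_tree lc_e_Cert_tree lc_e_rc_16_3 lc_e_rc_19_4 lc_e_rc_18_1 lc_e_Cert_tree lc_e_rc_18_1 lc_e_rc_9_3 lc_e_rc_16_1 lc_e_Cert_tree lc_e_rc_9_1 lc_e_rc_18_1 lc_e_rc_18_1 lc_e_rc_9_3 lc_e_Cert_tree lc_e_rc_4_3 lc_e_rc_13_3 lc_e_Cert_tree lc_e_Cert_tree lc_e_Cert_tree lc_e_rc_18_1 lc_e_rc_19_2 lc_e_rc_19_0 lc_e_rc_18_1 lc_e_rc_18_1 lc_e_rc_16_5 lc_e_rc_18_1 lc_e_rc_18_1 lc_e_rc_18_1 lc_e_Cert_tree lc_e_rc_16_3 lc_e_rc_19_4 lc_e_rc_16_1 lc_e_Cert_tree lc_e_Cert_tree lc_e_rc_18_1 lc_e_Cert_tree lc_e_rc_27_5 lc_e_rc_18_1 lc_e_rc_9_3 lc_e_Cert_tree lc_e_rc_4_3 lc_e_Cert_tree lc_e_rc_9_3 lc_e_Cert_tree lc_e_rc_9_3 lc_e_rc_9_3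 lc_e_Cert_tree lc_e_rc_13_3 lc_e_rc_4_3 lc_e_Cert_tree lc_e_rc_18_1 lc_e_Cert_tree lc_e_rc_13_3 lc_e_rc_18_1 lc_e_rc_27_5 lc_e_Cert_tree lc_e_rc_16_3 lc_e_rc_9_3) (@D3.rec (fun _ => (Cert rels S Gen.e)) lc_e_rc_18_1 lc_e_Cert_tree lc_e_rc_13_1 lc_e_Cert_tree lc_e_Cert_tree lc_e_Cert_tree lc_e_rc_13_3 lc_e_Cert_tree lc_e_rc_27_5 lc_e_rc_9_3 lc_e_Cert_tree lc_e_rc_13_1 lc_e_Cert_tree lc_e_rc_13_3 lc_e_rc_13_3 lc_e_rc_9_3 lc_e_Cert_tree lc_e_rc_19_4 lc_e_rc_9_3 lc_e_rc_13_3 lc_e_Cert_tree lc_e_rc_18_1 lc_e_Cert_tree lc_e_Cert_tree lc_e_Cert_tree lc_e_rc_18_1 lc_e_rc_16_3 lc_e_rc_18_1 lc_e_rc_4_1 lc_e_rc_18_1 lc_e_Cert_tree lc_e_rc_18_1 lc_e_rc_18_1 lc_e_Cert_tree lc_e_Cert_tree lc_e_rc_13_3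 lc_e_rc_27_1 lc_e_rc_19_2 lc_e_Cert_tree lc_e_rc_18_1 lc_e_Cert_tree lc_e_Cert_tree lc_e_rc_13_3 lc_e_rc_18_1 lc_e_rc_18_1 lc_e_rc_18_1 lc_e_Cert_tree lc_e_rc_9_1 lc_e_rc_13_1 lc_e_rc_19_2 lc_e_rc_16_1 lc_e_Cert_tree lc_e_Cert_tree lc_e_rc_18_1 lc_e_rc_9_3 lc_e_Cert_tree lc_e_Cert_tree lc_e_Cert_tree lc_e_rc_13_1 lc_e_rc_16_3 lc_e_rc_9_3 lc_e_Cert_tree) (@D3.rec (fun _ => (Cert rels S Gen.e)) lc_e_Cert_tree lc_e_rc_18_1 lc_e_Cert_tree lc_e_Cert_tree lc_e_rc_18_1 lc_e_rc_9_3 lc_e_rc_18_1 lc_e_rc_4_3 lc_e_rc_4_1 lc_e_rc_18_1 lc_e_Cert_tree lc_e_rc_18_1 lc_e_rc_18_1 lc_e_rc_19_0 lc_e_rc_16_1 lc_e_rc_4_3 lc_e_Cert_tree lc_e_Cert_tree lc_e_rc_13_3 lc_e_rc_18_1 lc_e_Cert_tree lc_e_rc_27_5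 lc_e_rc_18_1 lc_e_Cert_tree lc_e_Cert_tree lc_e_rc_13_3 lc_e_Cert_tree lc_e_rc_27_7 lc_e_rc_16_3 lc_e_rc_13_3 lc_e_rc_13_1 lc_e_Cert_tree lc_e_rc_18_1 lc_e_rc_18_1 lc_e_Cert_tree lc_e_Cert_tree lc_e_Cert_tree lc_e_rc_13_3 lc_e_Cert_tree lc_e_rc_19_2 lc_e_rc_4_3 lc_e_Cert_tree lc_e_Cert_tree lc_e_Cert_tree lc_e_Cert_tree lc_e_rc_18_1 lc_e_rc_9_1 lc_e_rc_27_1 lc_e_rc_9_3 lc_e_rc_27_5 lc_e_rc_18_1 lc_e_Cert_tree lc_e_rc_18_1 lc_e_rc_16_1 lc_e_Cert_tree lc_e_Cert_tree lc_e_rc_27_1 lc_e_rc_18_1 lc_e_Cert_tree lc_e_Cert_tree lc_e_rc_27_5 lc_e_rc_18_1) (@D3.rec (fun _ => (Cert rels S Gen.e)) lc_e_Cert_tree lc_e_Cert_tree lc_e_rc_9_1 lc_e_Cert_tree lc_e_Cert_tree lc_e_rc_18_1 lc_e_rc_19_2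 lc_e_rc_16_1 lc_e_rc_9_3 lc_e_Cert_tree lc_e_rc_19_0 lc_e_rc_4_3 lc_e_Cert_tree lc_e_Cert_tree lc_e_Cert_tree lc_e_Cert_tree lc_e_rc_18_1 lc_e_rc_27_7 lc_e_rc_9_3 lc_e_Cert_tree lc_e_Cert_tree lc_e_rc_18_1 lc_e_Cert_tree lc_e_rc_18_1 lc_e_rc_27_1 lc_e_rc_16_1 lc_e_rc_13_3 lc_e_rc_9_3 lc_e_rc_27_5 lc_e_rc_27_5 lc_e_rc_16_5 lc_e_rc_19_4 lc_e_rc_9_3 lc_e_rc_27_1 lc_e_rc_4_1 lc_e_rc_18_1 lc_e_Cert_tree lc_e_Cert_tree lc_e_rc_18_1 lc_e_rc_18_1 lc_e_rc_19_4 lc_e_Cert_tree lc_e_Cert_tree lc_e_Cert_tree lc_e_rc_18_1 lc_e_rc_13_3 lc_e_rc_13_3 lc_e_Cert_tree lc_e_Cert_tree lc_e_Cert_tree lc_e_rc_18_1 lc_e_Cert_tree lc_e_rc_9_3 lc_e_Cert_tree lc_e_rc_27_7 lc_e_rc_4_3 lc_e_rc_19_2 lc_e_rc_18_1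 lc_e_Cert_tree lc_e_rc_27_1 lc_e_Cert_tree lc_e_rc_9_3) (@D3.rec (fun _ => (Cert rels S Gen.e)) lc_e_Cert_tree lc_e_rc_18_1 lc_e_rc_18_1 lc_e_rc_16_1 lc_e_rc_27_5 lc_e_rc_19_2 lc_e_rc_13_3 lc_e_rc_16_5 lc_e_rc_9_3 lc_e_Cert_tree lc_e_Cert_tree lc_e_rc_18_1 lc_e_Cert_tree lc_e_rc_18_1 lc_e_Cert_tree lc_e_Cert_tree lc_e_Cert_tree lc_e_rc_18_1 lc_e_rc_16_3 lc_e_rc_13_3 lc_e_Cert_tree lc_e_rc_19_2 lc_e_Cert_tree lc_e_rc_19_0 lc_e_Cert_tree lc_e_Cert_tree lc_e_Cert_tree lc_e_Cert_tree lc_e_rc_18_1 lc_e_rc_16_5 lc_e_rc_9_3 lc_e_Cert_tree lc_e_rc_18_1 lc_e_rc_16_1 lc_e_rc_13_3 lc_e_rc_13_3 lc_e_Cert_tree lc_e_rc_18_1 lc_e_rc_13_3 lc_e_rc_9_3 lc_e_rc_18_1 lc_e_rc_4_3 lc_e_rc_16_3 lc_e_rc_18_1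 lc_e_Cert_tree lc_e_Cert_tree lc_e_rc_18_1 lc_e_rc_18_1 lc_e_Cert_tree lc_e_Cert_tree lc_e_rc_16_1 lc_e_rc_9_3 lc_e_rc_16_1 lc_e_rc_19_4 lc_e_rc_9_3 lc_e_rc_16_5 lc_e_Cert_tree lc_e_Cert_tree lc_e_rc_18_1 lc_e_Cert_tree lc_e_rc_13_3 lc_e_Cert_tree) (@D3.rec (fun _ => (Cert rels S Gen.e)) lc_e_rc_18_1 lc_e_Cert_tree lc_e_rc_18_1 lc_e_Cert_tree lc_e_Cert_tree lc_e_rc_18_1 lc_e_Cert_tree lc_e_rc_18_1 lc_e_Cert_tree lc_e_rc_13_1 lc_e_rc_18_1 lc_e_Cert_tree lc_e_Cert_tree lc_e_rc_19_4 lc_e_Cert_tree lc_e_rc_13_3 lc_e_Cert_tree lc_e_Cert_tree lc_e_Cert_tree lc_e_rc_16_3 lc_e_rc_19_4 lc_e_Cert_tree lc_e_rc_13_1 lc_e_Cert_tree lc_e_rc_18_1 lc_e_rc_18_1 lc_e_rc_16_3 lc_e_rc_19_4 lc_e_rc_4_3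 lc_e_Cert_tree lc_e_rc_18_1 lc_e_Cert_tree lc_e_Cert_tree lc_e_Cert_tree lc_e_rc_13_3 lc_e_Cert_tree lc_e_rc_27_5 lc_e_Cert_tree lc_e_Cert_tree lc_e_rc_18_1 lc_e_Cert_tree lc_e_Cert_tree lc_e_rc_18_1 lc_e_rc_18_1 lc_e_Cert_tree lc_e_rc_13_1 lc_e_Cert_tree lc_e_rc_18_1 lc_e_Cert_tree lc_e_rc_18_1 lc_e_rc_13_3 lc_e_rc_16_1 lc_e_rc_27_5 lc_e_Cert_tree lc_e_Cert_tree lc_e_rc_18_1 lc_e_Cert_tree lc_e_Cert_tree lc_e_rc_18_1 lc_e_Cert_tree lc_e_Cert_tree lc_e_rc_9_3) (@D3.rec (fun _ => (Cert rels S Gen.e)) lc_e_Cert_tree lc_e_Cert_tree lc_e_rc_18_1 lc_e_rc_18_1 lc_e_rc_13_1 lc_e_rc_9_3 lc_e_rc_9_3 lc_e_Cert_tree lc_e_rc_27_5 lc_e_rc_4_1 lc_e_Cert_tree lc_e_rc_18_1 lc_e_Cert_tree lc_e_Cert_tree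 lc_e_Cert_tree lc_e_rc_18_1 lc_e_rc_18_1 lc_e_rc_16_1 lc_e_rc_4_3 lc_e_rc_27_1 lc_e_Cert_tree lc_e_rc_27_7 lc_e_Cert_tree lc_e_Cert_tree lc_e_rc_18_1 lc_e_Cert_tree lc_e_rc_18_1 lc_e_rc_27_1 lc_e_rc_16_1 lc_e_rc_13_3 lc_e_rc_9_3 lc_e_Cert_tree lc_e_rc_13_1 lc_e_Cert_tree lc_e_Cert_tree lc_e_Cert_tree lc_e_rc_18_1 lc_e_rc_9_3 lc_e_Cert_tree lc_e_Cert_tree lc_e_rc_18_1 lc_e_rc_27_7 lc_e_rc_16_1 lc_e_rc_27_7 lc_e_rc_13_3 lc_e_rc_27_1 lc_e_rc_16_5 lc_e_rc_4_3 lc_e_Cert_tree lc_e_rc_18_1 lc_e_Cert_tree lc_e_Cert_tree lc_e_rc_16_3 lc_e_Cert_tree lc_e_rc_18_1 lc_e_Cert_tree lc_e_rc_18_1 lc_e_rc_18_1 lc_e_Cert_tree lc_e_Cert_tree lc_e_rc_16_3 lc_e_rc_19_4) (@D3.rec (fun _ => (Cert rels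 S Gen.e)) lc_e_Cert_tree lc_e_Cert_tree lc_e_rc_13_3 lc_e_Cert_tree lc_e_Cert_tree lc_e_rc_18_1 lc_e_rc_18_1 lc_e_Cert_tree lc_e_Cert_tree lc_e_rc_19_4 lc_e_rc_27_7 lc_e_rc_13_3 lc_e_rc_19_4 lc_e_rc_4_3 lc_e_Cert_tree lc_e_rc_18_1 lc_e_Cert_tree lc_e_rc_18_1 lc_e_Cert_tree lc_e_Cert_tree lc_e_rc_13_3 lc_e_rc_19_4 lc_e_rc_18_1 lc_e_Cert_tree lc_e_Cert_tree lc_e_rc_18_1 lc_e_rc_18_1 lc_e_rc_16_3 lc_e_Cert_tree lc_e_Cert_tree lc_e_rc_18_1 lc_e_rc_18_1 lc_e_rc_27_7 lc_e_Cert_tree lc_e_Cert_tree lc_e_rc_18_1 lc_e_Cert_tree lc_e_Cert_tree lc_e_rc_18_1 lc_e_Cert_tree lc_e_Cert_tree lc_e_rc_9_3 lc_e_rc_27_1 lc_e_rc_18_1 lc_e_Cert_tree lc_e_Cert_tree lc_e_rc_18_1 lc_e_rc_18_1 lc_e_rc_18_1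 lc_e_rc_16_1 lc_e_rc_9_3 lc_e_Cert_tree lc_e_Cert_tree lc_e_rc_18_1 lc_e_rc_18_1 lc_e_rc_27_1 lc_e_rc_16_1 lc_e_rc_4_3 lc_e_Cert_tree lc_e_rc_18_1 lc_e_rc_16_1 lc_e_rc_13_3) (@D3.rec (fun _ => (Cert rels S Gen.e)) lc_e_rc_9_3 lc_e_rc_27_5 lc_e_rc_18_1 lc_e_Cert_tree lc_e_rc_16_5 lc_e_rc_13_3 lc_e_rc_13_3 lc_e_Cert_tree lc_e_rc_18_1 lc_e_rc_13_1 lc_e_rc_18_1 lc_e_rc_13_1 lc_e_rc_18_1 lc_e_rc_9_3 lc_e_Cert_tree lc_e_rc_18_1 lc_e_rc_16_1 lc_e_rc_19_4 lc_e_rc_18_1 lc_e_Cert_tree lc_e_Cert_tree lc_e_rc_18_1 lc_e_Cert_tree lc_e_rc_18_1 lc_e_rc_18_1 lc_e_Cert_tree lc_e_rc_19_2 lc_e_rc_16_1 lc_e_rc_19_2 lc_e_Cert_tree lc_e_rc_18_1 lc_e_Cert_tree lc_e_Cert_tree lc_e_rc_16_1 lc_e_rc_19_4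 lc_e_Cert_tree lc_e_Cert_tree lc_e_rc_18_1 lc_e_rc_13_3 lc_e_Cert_tree lc_e_Cert_tree lc_e_rc_27_7 lc_e_rc_13_1 lc_e_Cert_tree lc_e_Cert_tree lc_e_Cert_tree lc_e_rc_18_1 lc_e_rc_18_1 lc_e_rc_9_3 lc_e_rc_9_3 lc_e_Cert_tree lc_e_rc_9_3 lc_e_rc_9_3 lc_e_rc_9_3 lc_e_rc_13_3 lc_e_rc_4_3 lc_e_rc_19_0 lc_e_Cert_tree lc_e_Cert_tree lc_e_Cert_tree lc_e_rc_18_1 lc_e_Cert_tree) (@D3.rec (fun _ => (Cert rels S Gen.e)) lc_e_Cert_tree lc_e_Cert_tree lc_e_rc_27_7 lc_e_rc_18_1 lc_e_rc_16_3 lc_e_rc_9_3 lc_e_rc_13_3 lc_e_rc_18_1 lc_e_Cert_tree lc_e_rc_18_1 lc_e_Cert_tree lc_e_rc_18_1 lc_e_Cert_tree lc_e_rc_16_1 lc_e_Cert_tree lc_e_Cert_tree lc_e_rc_16_1 lc_e_rc_4_1 lc_e_rc_4_3 lc_e_rc_18_1 lc_e_Cert_tree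 lc_e_Cert_tree lc_e_rc_13_3 lc_e_Cert_tree lc_e_Cert_tree lc_e_rc_18_1 lc_e_Cert_tree lc_e_rc_18_1 lc_e_Cert_tree lc_e_rc_9_3 lc_e_rc_16_1 lc_e_rc_19_2 lc_e_Cert_tree lc_e_rc_13_3 lc_e_rc_16_1 lc_e_rc_19_4 lc_e_rc_9_3 lc_e_Cert_tree lc_e_Cert_tree lc_e_Cert_tree lc_e_rc_13_3 lc_e_Cert_tree lc_e_rc_4_1 lc_e_rc_13_1 lc_e_Cert_tree lc_e_Cert_tree lc_e_rc_18_1 lc_e_rc_16_3 lc_e_rc_18_1 lc_e_Cert_tree lc_e_rc_18_1 lc_e_rc_18_1 lc_e_Cert_tree lc_e_Cert_tree lc_e_rc_16_1 lc_e_Cert_tree lc_e_rc_18_1 lc_e_rc_13_3 lc_e_rc_18_1 lc_e_Cert_tree lc_e_Cert_tree lc_e_rc_16_1) (@D3.rec (fun _ => (Cert rels S Gen.e)) lc_e_rc_19_4 lc_e_Cert_tree lc_e_Cert_tree lc_e_rc_18_1 lc_e_rc_13_3 lc_e_Cert_tree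 lc_e_Cert_tree lc_e_Cert_tree lc_e_rc_13_3 lc_e_Cert_tree lc_e_Cert_tree lc_e_rc_18_1 lc_e_Cert_tree lc_e_rc_18_1 lc_e_rc_18_1 lc_e_Cert_tree lc_e_rc_18_1 lc_e_Cert_tree lc_e_Cert_tree lc_e_rc_18_1 lc_e_Cert_tree lc_e_rc_16_1 lc_e_rc_19_2 lc_e_rc_16_1 lc_e_Cert_tree lc_e_rc_16_1 lc_e_rc_19_4 lc_e_Cert_tree lc_e_Cert_tree lc_e_rc_18_1 lc_e_Cert_tree lc_e_Cert_tree lc_e_rc_18_1 lc_e_Cert_tree lc_e_Cert_tree lc_e_rc_13_3 lc_e_Cert_tree lc_e_rc_4_1 lc_e_Cert_tree lc_e_Cert_tree lc_e_Cert_tree lc_e_rc_18_1 lc_e_Cert_tree lc_e_Cert_tree lc_e_Cert_tree lc_e_rc_18_1 lc_e_Cert_tree lc_e_rc_18_1 lc_e_Cert_tree lc_e_rc_9_3 lc_e_rc_9_3 lc_e_rc_18_1 lc_e_Cert_tree lc_e_Cert_tree lc_e_rc_16_1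 lc_e_Cert_tree lc_e_Cert_tree lc_e_rc_16_1 lc_e_rc_19_4 lc_e_Cert_tree lc_e_rc_13_3 lc_e_Cert_tree) (@D3.rec (fun _ => (Cert rels S Gen.e)) lc_e_rc_18_1 lc_e_Cert_tree lc_e_rc_18_1 lc_e_rc_13_3 lc_e_rc_18_1 lc_e_Cert_tree lc_e_Cert_tree lc_e_rc_18_1 lc_e_Cert_tree lc_e_rc_19_2 lc_e_rc_16_1 lc_e_rc_13_1 lc_e_rc_18_1 lc_e_Cert_tree lc_e_rc_16_1 lc_e_rc_19_4 lc_e_Cert_tree lc_e_rc_13_3 lc_e_Cert_tree lc_e_rc_4_1 lc_e_rc_9_3 lc_e_rc_18_1 lc_e_Cert_tree lc_e_rc_16_3 lc_e_Cert_tree lc_e_rc_18_1 lc_e_Cert_tree lc_e_Cert_tree lc_e_rc_16_3 lc_e_rc_13_3 lc_e_rc_4_3 lc_e_rc_13_3 lc_e_Cert_tree lc_e_rc_18_1 lc_e_Cert_tree lc_e_rc_18_1 lc_e_rc_19_4 lc_e_Cert_tree lc_e_Cert_tree lc_e_Cert_tree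 lc_e_rc_18_1 lc_e_Cert_tree lc_e_rc_27_5 lc_e_Cert_tree lc_e_rc_18_1 lc_e_Cert_tree lc_e_Cert_tree lc_e_rc_13_3 lc_e_Cert_tree lc_e_rc_9_1 lc_e_rc_4_1 lc_e_rc_4_3 lc_e_rc_18_1 lc_e_Cert_tree lc_e_Cert_tree lc_e_rc_18_1 lc_e_rc_4_3 lc_e_rc_19_2 lc_e_Cert_tree lc_e_Cert_tree lc_e_rc_18_1 lc_e_Cert_tree) (@D3.rec (fun _ => (Cert rels S Gen.e)) lc_e_rc_18_1 lc_e_rc_16_1 lc_e_Cert_tree lc_e_Cert_tree lc_e_rc_18_1 lc_e_Cert_tree lc_e_Cert_tree lc_e_rc_18_1 lc_e_Cert_tree lc_e_Cert_tree lc_e_rc_9_3 lc_e_Cert_tree lc_e_Cert_tree lc_e_rc_18_1 lc_e_rc_9_3 lc_e_Cert_tree lc_e_rc_19_0 lc_e_Cert_tree lc_e_Cert_tree lc_e_rc_18_1 lc_e_Cert_tree lc_e_Cert_tree lc_e_Cert_tree lc_e_rc_18_1 lc_e_rc_18_1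 lc_e_rc_16_1 lc_e_rc_18_1 lc_e_rc_27_1 lc_e_Cert_tree lc_e_rc_13_3 lc_e_Cert_tree lc_e_Cert_tree lc_e_rc_18_1 lc_e_rc_27_7 lc_e_Cert_tree lc_e_rc_19_4 lc_e_rc_18_1 lc_e_Cert_tree lc_e_rc_18_1 lc_e_rc_27_1 lc_e_rc_9_3 lc_e_rc_9_3 lc_e_Cert_tree lc_e_rc_16_3 lc_e_Cert_tree lc_e_Cert_tree lc_e_rc_18_1 lc_e_rc_4_3 lc_e_rc_18_1 lc_e_rc_16_1 lc_e_rc_13_1 lc_e_rc_16_3 lc_e_Cert_tree lc_e_rc_18_1 lc_e_rc_16_1 lc_e_rc_16_3 lc_e_Cert_tree lc_e_Cert_tree lc_e_rc_9_3 lc_e_rc_18_1 lc_e_rc_18_1 lc_e_Cert_tree) (@D3.rec (fun _ => (Cert rels S Gen.e)) lc_e_Cert_tree lc_e_Cert_tree lc_e_rc_18_1 lc_e_rc_16_3 lc_e_rc_18_1 lc_e_rc_16_3 lc_e_rc_19_4 lc_e_rc_18_1 lc_e_Cert_tree lc_e_rc_18_1 lc_e_Cert_tree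 lc_e_rc_18_1 lc_e_Cert_tree lc_e_Cert_tree lc_e_rc_18_1 lc_e_Cert_tree lc_e_rc_27_7 lc_e_rc_16_1 lc_e_Cert_tree lc_e_rc_18_1 lc_e_rc_18_1 lc_e_Cert_tree lc_e_rc_18_1 lc_e_Cert_tree lc_e_Cert_tree lc_e_rc_16_1 lc_e_rc_19_4 lc_e_rc_9_3 lc_e_rc_18_1 lc_e_rc_9_1 lc_e_Cert_tree lc_e_rc_9_3 lc_e_rc_9_3 lc_e_rc_13_3 lc_e_rc_18_1 lc_e_rc_27_7 lc_e_rc_13_3 lc_e_rc_9_3 lc_e_Cert_tree lc_e_Cert_tree lc_e_Cert_tree lc_e_rc_9_1 lc_e_rc_13_3 lc_e_rc_27_7 lc_e_rc_18_1 lc_e_rc_18_1 lc_e_rc_13_3 lc_e_rc_18_1 lc_e_Cert_tree lc_e_rc_18_1 lc_e_Cert_tree lc_e_rc_18_1 lc_e_Cert_tree lc_e_rc_9_3 lc_e_rc_18_1 lc_e_Cert_tree lc_e_rc_16_1 lc_e_rc_19_2 lc_e_Cert_tree lc_e_Cert_tree lc_e_rc_16_1 lc_e_Cert_tree)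 (@D3.rec (fun _ => (Cert rels S Gen.e)) lc_e_Cert_tree lc_e_rc_18_1 lc_e_rc_9_3 lc_e_Cert_tree lc_e_Cert_tree lc_e_Cert_tree lc_e_Cert_tree lc_e_rc_19_4 lc_e_Cert_tree lc_e_rc_27_1 lc_e_rc_13_3 lc_e_rc_9_3 lc_e_Cert_tree lc_e_Cert_tree lc_e_rc_18_1 lc_e_rc_9_3 lc_e_Cert_tree lc_e_rc_19_4 lc_e_Cert_tree lc_e_rc_9_3 lc_e_Cert_tree lc_e_rc_4_3 lc_e_rc_13_3 lc_e_rc_4_3 lc_e_Cert_tree lc_e_Cert_tree lc_e_rc_18_1 lc_e_rc_27_7 lc_e_rc_9_3 lc_e_rc_4_3 lc_e_Cert_tree lc_e_Cert_tree lc_e_rc_18_1 lc_e_rc_13_3 lc_e_rc_18_1 lc_e_Cert_tree lc_e_Cert_tree lc_e_rc_16_1 lc_e_Cert_tree lc_e_Cert_tree lc_e_rc_16_1 lc_e_rc_19_4 lc_e_Cert_tree lc_e_rc_27_1 lc_e_rc_9_3 lc_e_rc_18_1 lc_e_rc_16_1 lc_e_rc_13_3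 lc_e_Cert_tree lc_e_rc_19_0 lc_e_rc_4_3 lc_e_rc_18_1 lc_e_rc_18_1 lc_e_rc_16_1 lc_e_rc_27_5 lc_e_rc_13_3 lc_e_rc_19_4 lc_e_rc_9_3 lc_e_Cert_tree lc_e_Cert_tree lc_e_rc_4_3 lc_e_rc_18_1) (@D3.rec (fun _ => (Cert rels S Gen.e)) lc_e_rc_18_1 lc_e_rc_4_3 lc_e_rc_4_3 lc_e_rc_4_1 lc_e_rc_18_1 lc_e_rc_27_1 lc_e_rc_13_3 lc_e_rc_19_4 lc_e_rc_13_3 lc_e_Cert_tree lc_e_rc_13_3 lc_e_rc_16_3 lc_e_rc_18_1 lc_e_Cert_tree lc_e_rc_13_3 lc_e_rc_27_7 lc_e_rc_18_1 lc_e_rc_13_3 lc_e_Cert_tree lc_e_rc_18_1 lc_e_Cert_tree lc_e_rc_18_1 lc_e_rc_4_1 lc_e_rc_27_1 lc_e_rc_13_3 lc_e_rc_27_1 lc_e_rc_18_1 lc_e_rc_16_3 lc_e_rc_19_4 lc_e_rc_4_3 lc_e_Cert_tree lc_e_rc_16_5 lc_e_rc_16_1 lc_e_rc_19_4 lc_e_rc_18_1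 lc_e_Cert_tree lc_e_Cert_tree lc_e_Cert_tree lc_e_rc_18_1 lc_e_rc_16_3 lc_e_rc_16_3 lc_e_rc_18_1 lc_e_Cert_tree lc_e_rc_18_1 lc_e_rc_13_3 lc_e_rc_18_1 lc_e_rc_18_1 lc_e_Cert_tree lc_e_Cert_tree lc_e_rc_16_1 lc_e_rc_19_2 lc_e_rc_13_3 lc_e_Cert_tree lc_e_rc_16_1 lc_e_rc_19_4 lc_e_Cert_tree lc_e_Cert_tree lc_e_rc_18_1 lc_e_Cert_tree lc_e_Cert_tree lc_e_rc_18_1 lc_e_Cert_tree) (@D3.rec (fun _ => (Cert rels S Gen.e)) lc_e_Cert_tree lc_e_rc_13_3 lc_e_Cert_tree lc_e_rc_18_1 lc_e_Cert_tree lc_e_rc_18_1 lc_e_rc_27_5 lc_e_rc_9_3 lc_e_rc_9_3 lc_e_rc_18_1 lc_e_Cert_tree lc_e_rc_18_1 lc_e_rc_18_1 lc_e_rc_18_1 lc_e_rc_16_1 lc_e_Cert_tree lc_e_Cert_tree lc_e_rc_16_1 lc_e_rc_19_4 lc_e_Cert_tree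 lc_e_rc_18_1 lc_e_Cert_tree lc_e_Cert_tree lc_e_rc_18_1 lc_e_Cert_tree lc_e_rc_16_3 lc_e_rc_13_3 lc_e_Cert_tree lc_e_Cert_tree lc_e_rc_18_1 lc_e_Cert_tree lc_e_Cert_tree lc_e_rc_18_1 lc_e_Cert_tree lc_e_rc_18_1 lc_e_rc_9_1 lc_e_Cert_tree lc_e_Cert_tree lc_e_rc_18_1 lc_e_Cert_tree lc_e_Cert_tree lc_e_rc_16_1 lc_e_rc_13_1 lc_e_rc_27_1 lc_e_Cert_tree lc_e_rc_16_1 lc_e_rc_19_4 lc_e_Cert_tree lc_e_Cert_tree lc_e_rc_13_3 lc_e_Cert_tree lc_e_Cert_tree lc_e_rc_18_1 lc_e_rc_18_1 lc_e_rc_18_1 lc_e_Cert_tree lc_e_Cert_tree lc_e_rc_16_3 lc_e_Cert_tree lc_e_rc_13_3 lc_e_rc_16_1 lc_e_rc_19_4) (@D3.rec (fun _ => (Cert rels S Gen.e)) lc_e_rc_27_7 lc_e_rc_13_3 lc_e_Cert_tree lc_e_Cert_tree lc_e_rc_18_1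 lc_e_Cert_tree lc_e_Cert_tree lc_e_rc_16_3 lc_e_rc_19_2 lc_e_Cert_tree lc_e_rc_18_1 lc_e_rc_16_3 lc_e_rc_13_3 lc_e_rc_9_3 lc_e_rc_18_1 lc_e_rc_27_5 lc_e_Cert_tree lc_e_rc_16_3 lc_e_rc_19_4 lc_e_Cert_tree lc_e_Cert_tree lc_e_Cert_tree lc_e_rc_18_1 lc_e_Cert_tree lc_e_Cert_tree lc_e_Cert_tree lc_e_rc_18_1 lc_e_Cert_tree lc_e_Cert_tree lc_e_rc_13_3 lc_e_rc_19_4 lc_e_rc_9_3 lc_e_Cert_tree lc_e_Cert_tree lc_e_rc_18_1 lc_e_Cert_tree lc_e_rc_18_1 lc_e_rc_16_1 lc_e_rc_13_3 lc_e_Cert_tree lc_e_Cert_tree lc_e_rc_18_1 lc_e_Cert_tree lc_e_rc_18_1 lc_e_Cert_tree lc_e_rc_16_3 lc_e_rc_18_1 lc_e_rc_13_3 lc_e_Cert_tree lc_e_rc_18_1 lc_e_Cert_tree lc_e_Cert_tree lc_e_rc_9_3 lc_e_rc_18_1 lc_e_Cert_tree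 lc_e_rc_19_2 lc_e_Cert_tree lc_e_rc_16_3 lc_e_rc_18_1 lc_e_Cert_tree lc_e_Cert_tree lc_e_Cert_tree) (@D3.rec (fun _ => (Cert rels S Gen.e)) lc_e_rc_18_1 lc_e_rc_18_1 lc_e_rc_9_3 lc_e_rc_9_3 lc_e_Cert_tree lc_e_Cert_tree lc_e_rc_18_1 lc_e_Cert_tree lc_e_rc_18_1 lc_e_rc_27_7 lc_e_rc_4_3 lc_e_Cert_tree lc_e_Cert_tree lc_e_Cert_tree lc_e_rc_18_1 lc_e_Cert_tree lc_e_Cert_tree lc_e_rc_18_1 lc_e_Cert_tree lc_e_rc_27_7 lc_e_rc_16_3 lc_e_rc_19_4 lc_e_rc_9_3 lc_e_Cert_tree lc_e_Cert_tree lc_e_rc_13_3 lc_e_Cert_tree lc_e_rc_9_3 lc_e_Cert_tree lc_e_rc_9_3 lc_e_rc_27_5 lc_e_rc_27_1 lc_e_rc_4_1 lc_e_Cert_tree lc_e_rc_18_1 lc_e_rc_19_4 lc_e_rc_27_5 lc_e_Cert_tree lc_e_rc_9_3 lc_e_rc_27_7 lc_e_rc_18_1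 lc_e_rc_16_3 lc_e_rc_27_7 lc_e_Cert_tree lc_e_rc_18_1 lc_e_rc_18_1 lc_e_rc_18_1 lc_e_Cert_tree lc_e_Cert_tree lc_e_rc_16_3 lc_e_rc_27_5 lc_e_Cert_tree lc_e_rc_16_1 lc_e_rc_13_3 lc_e_rc_13_3 lc_e_rc_18_1 lc_e_rc_18_1 lc_e_Cert_tree lc_e_Cert_tree lc_e_rc_18_1 lc_e_rc_18_1 lc_e_rc_16_1) (@D3.rec (fun _ => (Cert rels S Gen.e)) lc_e_rc_13_3 lc_e_rc_9_3 lc_e_rc_16_3 lc_e_Cert_tree lc_e_rc_4_3 lc_e_Cert_tree lc_e_Cert_tree lc_e_rc_18_1 lc_e_rc_18_1 lc_e_rc_16_1 lc_e_rc_4_3 lc_e_rc_16_3 lc_e_rc_18_1 lc_e_Cert_tree lc_e_rc_18_1 lc_e_rc_18_1 lc_e_rc_16_1 lc_e_Cert_tree lc_e_rc_27_5 lc_e_rc_18_1 lc_e_rc_19_2 lc_e_rc_9_3 lc_e_rc_27_1 lc_e_rc_18_1 lc_e_rc_16_3 lc_e_rc_18_1 lc_e_rc_27_5 lc_e_Cert_tree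 lc_e_rc_18_1 lc_e_rc_18_1 lc_e_Cert_tree lc_e_rc_16_1 lc_e_rc_4_1 lc_e_rc_18_1 lc_e_rc_19_0 lc_e_rc_13_1 lc_e_Cert_tree lc_e_Cert_tree lc_e_rc_18_1 lc_e_rc_4_3 lc_e_rc_13_3 lc_e_rc_18_1 lc_e_Cert_tree lc_e_Cert_tree lc_e_rc_16_3 lc_e_rc_18_1 lc_e_Cert_tree lc_e_rc_16_3 lc_e_rc_13_3 lc_e_Cert_tree lc_e_Cert_tree lc_e_rc_9_3 lc_e_rc_18_1 lc_e_rc_27_1 lc_e_rc_9_1 lc_e_Cert_tree lc_e_rc_18_1 lc_e_Cert_tree lc_e_rc_18_1 lc_e_rc_9_1 lc_e_rc_18_1 lc_e_Cert_tree) (@D3.rec (fun _ => (Cert rels S Gen.e)) lc_e_Cert_tree lc_e_rc_9_3 lc_e_rc_18_1 lc_e_Cert_tree lc_e_Cert_tree lc_e_rc_16_1 lc_e_Cert_tree lc_e_rc_16_1 lc_e_rc_19_4 lc_e_Cert_tree lc_e_rc_13_1 lc_e_rc_18_1 lc_e_rc_18_1 lc_e_Cert_tree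 lc_e_rc_18_1 lc_e_rc_9_3 lc_e_Cert_tree lc_e_rc_16_1 lc_e_rc_19_2 lc_e_Cert_tree lc_e_Cert_tree lc_e_rc_16_1 lc_e_rc_19_4 lc_e_Cert_tree lc_e_rc_13_3 lc_e_Cert_tree lc_e_Cert_tree lc_e_Cert_tree lc_e_rc_18_1 lc_e_rc_4_3 lc_e_rc_16_3 lc_e_rc_18_1 lc_e_rc_13_1 lc_e_rc_18_1 lc_e_rc_16_3 lc_e_rc_19_2 lc_e_Cert_tree lc_e_rc_27_5 lc_e_rc_18_1 lc_e_Cert_tree lc_e_Cert_tree lc_e_rc_18_1 lc_e_rc_27_5 lc_e_rc_16_3 lc_e_rc_13_1 lc_e_Cert_tree lc_e_rc_27_7 lc_e_rc_18_1 lc_e_rc_16_3 lc_e_rc_19_4 lc_e_Cert_tree lc_e_Cert_tree lc_e_rc_18_1 lc_e_rc_13_1 lc_e_Cert_tree lc_e_rc_16_3 lc_e_rc_4_1 lc_e_Cert_tree lc_e_Cert_tree lc_e_Cert_tree lc_e_rc_18_1 lc_e_rc_18_1) (@D3.rec (fun _ => (Cert rels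 S Gen.e)) lc_e_Cert_tree lc_e_Cert_tree lc_e_rc_18_1 lc_e_Cert_tree lc_e_Cert_tree lc_e_rc_13_3 lc_e_rc_9_3 lc_e_rc_9_1 lc_e_Cert_tree lc_e_Cert_tree lc_e_rc_18_1 lc_e_rc_16_1 lc_e_Cert_tree lc_e_rc_18_1 lc_e_rc_13_1 lc_e_Cert_tree lc_e_Cert_tree lc_e_rc_18_1 lc_e_Cert_tree lc_e_rc_18_1 lc_e_rc_16_1 lc_e_Cert_tree lc_e_Cert_tree lc_e_rc_27_7 lc_e_rc_18_1 lc_e_Cert_tree lc_e_Cert_tree lc_e_rc_27_5 lc_e_rc_18_1 lc_e_Cert_tree lc_e_rc_16_1 lc_e_rc_9_1 lc_e_Cert_tree lc_e_rc_16_3 lc_e_rc_9_3 lc_e_Cert_tree lc_e_rc_18_1 lc_e_Cert_tree lc_e_rc_18_1 lc_e_rc_18_1 lc_e_rc_9_3 lc_e_Cert_tree lc_e_Cert_tree lc_e_rc_18_1 lc_e_rc_18_1 lc_e_rc_18_1 lc_e_rc_9_3 lc_e_rc_4_3 lc_e_Cert_tree lc_e_Cert_tree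 lc_e_rc_16_3 lc_e_rc_16_1 lc_e_rc_13_3 lc_e_rc_18_1 lc_e_rc_19_4 lc_e_Cert_tree lc_e_rc_16_3 lc_e_Cert_tree lc_e_rc_18_1 lc_e_Cert_tree lc_e_rc_18_1 lc_e_rc_4_3) (@D3.rec (fun _ => (Cert rels S Gen.e)) lc_e_rc_16_1 lc_e_rc_4_1 lc_e_rc_16_3 lc_e_rc_16_3 lc_e_Cert_tree lc_e_Cert_tree lc_e_rc_18_1 lc_e_rc_9_3 lc_e_rc_18_1 lc_e_rc_27_5 lc_e_Cert_tree lc_e_rc_16_1 lc_e_rc_19_4 lc_e_Cert_tree lc_e_Cert_tree lc_e_rc_18_1 lc_e_Cert_tree lc_e_rc_18_1 lc_e_Cert_tree lc_e_Cert_tree lc_e_rc_13_3 lc_e_rc_18_1 lc_e_rc_9_3 lc_e_Cert_tree lc_e_rc_18_1 lc_e_Cert_tree lc_e_Cert_tree lc_e_rc_16_3 lc_e_rc_18_1 lc_e_Cert_tree lc_e_Cert_tree lc_e_rc_27_5 lc_e_Cert_tree lc_e_Cert_tree lc_e_rc_18_1 lc_e_rc_18_1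 lc_e_rc_18_1 lc_e_Cert_tree lc_e_Cert_tree lc_e_rc_18_1 lc_e_rc_18_1 lc_e_rc_18_1 lc_e_rc_18_1 lc_e_Cert_tree lc_e_rc_18_1 lc_e_rc_13_1 lc_e_rc_18_1 lc_e_rc_27_7 lc_e_rc_18_1 lc_e_rc_16_3 lc_e_rc_18_1 lc_e_rc_18_1 lc_e_Cert_tree lc_e_rc_18_1 lc_e_rc_4_3 lc_e_rc_9_3 lc_e_rc_16_1 lc_e_Cert_tree lc_e_Cert_tree lc_e_rc_16_1 lc_e_rc_19_4 lc_e_rc_27_7) (@D3.rec (fun _ => (Cert rels S Gen.e)) lc_e_rc_16_5 lc_e_Cert_tree lc_e_Cert_tree lc_e_rc_13_3 lc_e_rc_19_2 lc_e_Cert_tree lc_e_rc_19_4 lc_e_rc_27_1 lc_e_rc_13_1 lc_e_rc_16_3 lc_e_Cert_tree lc_e_Cert_tree lc_e_rc_16_1 lc_e_rc_19_4 lc_e_rc_13_3 lc_e_rc_4_1 lc_e_rc_9_3 lc_e_Cert_tree lc_e_Cert_tree lc_e_Cert_tree lc_e_rc_13_3 lc_e_Cert_tree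 lc_e_rc_18_1 lc_e_rc_18_1 lc_e_rc_18_1 lc_e_rc_18_1 lc_e_rc_13_1 lc_e_rc_16_3 lc_e_rc_19_4 lc_e_Cert_tree lc_e_Cert_tree lc_e_rc_16_1 lc_e_rc_19_4 lc_e_rc_13_3 lc_e_Cert_tree lc_e_rc_18_1 lc_e_Cert_tree lc_e_Cert_tree lc_e_rc_18_1 lc_e_rc_18_1 lc_e_Cert_tree lc_e_rc_18_1 lc_e_rc_19_2 lc_e_Cert_tree lc_e_rc_16_1 lc_e_Cert_tree lc_e_rc_18_1 lc_e_rc_16_1 lc_e_rc_18_1 lc_e_Cert_tree lc_e_rc_13_1 lc_e_Cert_tree lc_e_Cert_tree lc_e_Cert_tree lc_e_rc_18_1 lc_e_rc_18_1 lc_e_rc_18_1 lc_e_rc_16_1 lc_e_rc_13_1 lc_e_Cert_tree lc_e_Cert_tree lc_e_rc_18_1) (@D3.rec (fun _ => (Cert rels S Gen.e)) lc_e_rc_18_1 lc_e_rc_18_1 lc_e_rc_16_1 lc_e_rc_19_2 lc_e_rc_27_5 lc_e_rc_18_1 lc_e_Cert_tree lc_e_rc_9_3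 lc_e_rc_16_1 lc_e_rc_19_4 lc_e_Cert_tree lc_e_Cert_tree lc_e_rc_18_1 lc_e_Cert_tree lc_e_rc_27_1 lc_e_rc_18_1 lc_e_Cert_tree lc_e_rc_9_3 lc_e_Cert_tree lc_e_rc_18_1 lc_e_Cert_tree lc_e_Cert_tree lc_e_rc_16_1 lc_e_rc_19_4 lc_e_Cert_tree lc_e_Cert_tree lc_e_rc_27_5 lc_e_rc_18_1 lc_e_Cert_tree lc_e_Cert_tree lc_e_rc_18_1 lc_e_Cert_tree lc_e_Cert_tree lc_e_rc_13_3 lc_e_rc_19_2 lc_e_Cert_tree lc_e_Cert_tree lc_e_Cert_tree lc_e_rc_18_1 lc_e_rc_13_3 lc_e_Cert_tree lc_e_Cert_tree lc_e_rc_18_1 lc_e_Cert_tree lc_e_Cert_tree lc_e_rc_13_3 lc_e_Cert_tree lc_e_rc_18_1 lc_e_Cert_tree lc_e_rc_18_1 lc_e_Cert_tree lc_e_Cert_tree lc_e_rc_18_1 lc_e_rc_27_5 lc_e_Cert_tree lc_e_rc_13_3 lc_e_rc_18_1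 lc_e_rc_4_3 lc_e_rc_13_3 lc_e_rc_9_3 lc_e_rc_18_1 lc_e_Cert_tree) (@D3.rec (fun _ => (Cert rels S Gen.e)) lc_e_Cert_tree lc_e_rc_18_1 lc_e_Cert_tree lc_e_Cert_tree lc_e_rc_9_3 lc_e_rc_18_1 lc_e_rc_4_1 lc_e_rc_13_1 lc_e_Cert_tree lc_e_rc_13_3 lc_e_rc_4_3 lc_e_Cert_tree lc_e_Cert_tree lc_e_Cert_tree lc_e_Cert_tree lc_e_rc_18_1 lc_e_rc_19_0 lc_e_rc_18_1 lc_e_Cert_tree lc_e_rc_27_5 lc_e_rc_18_1 lc_e_Cert_tree lc_e_rc_18_1 lc_e_rc_16_1 lc_e_rc_18_1 lc_e_rc_18_1 lc_e_rc_9_3 lc_e_Cert_tree lc_e_rc_16_3 lc_e_Cert_tree lc_e_rc_19_4 lc_e_rc_16_1 lc_e_rc_19_4 lc_e_Cert_tree lc_e_Cert_tree lc_e_rc_13_3 lc_e_rc_18_1 lc_e_rc_16_3 lc_e_rc_18_1 lc_e_rc_18_1 lc_e_rc_27_1 lc_e_rc_18_1 lc_e_Cert_tree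 lc_e_rc_18_1 lc_e_Cert_tree lc_e_rc_18_1 lc_e_rc_18_1 lc_e_Cert_tree lc_e_rc_27_7 lc_e_rc_16_3 lc_e_rc_19_2 lc_e_Cert_tree lc_e_rc_13_3 lc_e_Cert_tree lc_e_rc_13_3 lc_e_rc_18_1 lc_e_rc_18_1 lc_e_rc_13_1 lc_e_rc_4_3 lc_e_rc_16_3 lc_e_rc_13_3 lc_e_Cert_tree) (@D3.rec (fun _ => (Cert rels S Gen.e)) lc_e_rc_18_1 lc_e_rc_16_3 lc_e_rc_13_3 lc_e_Cert_tree lc_e_Cert_tree lc_e_rc_16_1 lc_e_rc_9_1 lc_e_rc_9_1 lc_e_rc_27_5 lc_e_rc_27_7 lc_e_rc_18_1 lc_e_Cert_tree lc_e_rc_9_3 lc_e_Cert_tree lc_e_rc_18_1 lc_e_Cert_tree lc_e_Cert_tree lc_e_rc_18_1 lc_e_Cert_tree lc_e_Cert_tree lc_e_rc_16_3 lc_e_rc_19_4 lc_e_Cert_tree lc_e_rc_18_1 lc_e_rc_16_3 lc_e_rc_19_4 lc_e_rc_16_1 lc_e_Cert_tree lc_e_Cert_tree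 lc_e_rc_18_1 lc_e_Cert_tree lc_e_Cert_tree lc_e_Cert_tree lc_e_rc_18_1 lc_e_Cert_tree lc_e_Cert_tree lc_e_rc_13_3 lc_e_rc_19_2 lc_e_rc_19_2 lc_e_rc_9_3 lc_e_Cert_tree lc_e_rc_18_1 lc_e_Cert_tree lc_e_Cert_tree lc_e_rc_18_1 lc_e_rc_13_3 lc_e_rc_27_1 lc_e_Cert_tree lc_e_Cert_tree lc_e_rc_18_1 lc_e_Cert_tree lc_e_rc_18_1 lc_e_rc_16_1 lc_e_Cert_tree lc_e_Cert_tree lc_e_rc_18_1 lc_e_Cert_tree lc_e_Cert_tree lc_e_rc_18_1 lc_e_rc_13_3 lc_e_rc_9_3 lc_e_Cert_tree) (@D3.rec (fun _ => (Cert rels S Gen.e)) lc_e_rc_18_1 lc_e_Cert_tree lc_e_Cert_tree lc_e_rc_18_1 lc_e_rc_13_1 lc_e_rc_9_3 lc_e_Cert_tree lc_e_rc_18_1 lc_e_rc_16_1 lc_e_rc_4_3 lc_e_rc_27_1 lc_e_rc_18_1 lc_e_rc_18_1 lc_e_rc_18_1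 lc_e_rc_18_1 lc_e_rc_16_1 lc_e_Cert_tree lc_e_rc_16_1 lc_e_rc_16_1 lc_e_rc_19_4 lc_e_Cert_tree lc_e_rc_13_3 lc_e_rc_19_2 lc_e_rc_9_3 lc_e_rc_18_1 lc_e_rc_16_3 lc_e_rc_19_4 lc_e_rc_16_3 lc_e_rc_4_1 lc_e_Cert_tree lc_e_rc_18_1 lc_e_rc_13_3 lc_e_rc_16_1 lc_e_rc_9_3 lc_e_rc_4_3 lc_e_rc_4_3 lc_e_rc_18_1 lc_e_Cert_tree lc_e_rc_18_1 lc_e_Cert_tree lc_e_rc_18_1 lc_e_Cert_tree lc_e_Cert_tree lc_e_rc_16_1 lc_e_rc_19_4 lc_e_rc_18_1 lc_e_Cert_tree lc_e_Cert_tree lc_e_rc_18_1 lc_e_Cert_tree lc_e_Cert_tree lc_e_rc_13_3 lc_e_rc_16_3 lc_e_Cert_tree lc_e_Cert_tree lc_e_Cert_tree lc_e_rc_18_1 lc_e_Cert_tree lc_e_Cert_tree lc_e_Cert_tree lc_e_rc_18_1 lc_e_Cert_tree) (@D3.rec (fun _ => (Cert rels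 S Gen.e)) lc_e_Cert_tree lc_e_rc_13_3 lc_e_Cert_tree lc_e_rc_13_3 lc_e_Cert_tree lc_e_Cert_tree lc_e_rc_18_1 lc_e_rc_18_1 lc_e_Cert_tree lc_e_Cert_tree lc_e_rc_18_1 lc_e_Cert_tree lc_e_rc_18_1 lc_e_Cert_tree lc_e_Cert_tree lc_e_rc_27_7 lc_e_rc_18_1 lc_e_Cert_tree lc_e_Cert_tree lc_e_rc_18_1 lc_e_Cert_tree lc_e_Cert_tree lc_e_rc_9_3 lc_e_Cert_tree lc_e_rc_18_1 lc_e_Cert_tree lc_e_rc_18_1 lc_e_rc_18_1 lc_e_Cert_tree lc_e_Cert_tree lc_e_Cert_tree lc_e_rc_18_1 lc_e_rc_9_3 lc_e_Cert_tree lc_e_Cert_tree lc_e_Cert_tree lc_e_rc_18_1 lc_e_rc_27_5 lc_e_rc_9_3 lc_e_rc_4_3 lc_e_Cert_tree lc_e_rc_9_3 lc_e_rc_18_1 lc_e_Cert_tree lc_e_Cert_tree lc_e_Cert_tree lc_e_Cert_tree lc_e_rc_18_1 lc_e_rc_18_1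 lc_e_Cert_tree lc_e_rc_16_1 lc_e_rc_19_2 lc_e_Cert_tree lc_e_rc_18_1 lc_e_Cert_tree lc_e_rc_18_1 lc_e_rc_18_1 lc_e_rc_16_1 lc_e_rc_16_5 lc_e_rc_18_1 lc_e_rc_9_1 lc_e_Cert_tree) (@D3.rec (fun _ => (Cert rels S Gen.e)) lc_e_rc_16_1 lc_e_rc_13_1 lc_e_Cert_tree lc_e_rc_18_1 lc_e_rc_9_3 lc_e_Cert_tree lc_e_rc_16_1 lc_e_rc_9_1 lc_e_rc_4_3 lc_e_rc_18_1 lc_e_Cert_tree lc_e_rc_27_1 lc_e_rc_19_4 lc_e_Cert_tree lc_e_rc_16_1 lc_e_rc_18_1 lc_e_rc_13_1 lc_e_Cert_tree lc_e_rc_9_3 lc_e_rc_18_1 lc_e_Cert_tree lc_e_Cert_tree lc_e_Cert_tree lc_e_rc_18_1 lc_e_Cert_tree lc_e_Cert_tree lc_e_rc_13_3 lc_e_rc_13_3 lc_e_Cert_tree lc_e_rc_18_1 lc_e_Cert_tree lc_e_Cert_tree lc_e_rc_16_3 lc_e_rc_19_4 lc_e_rc_4_3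 lc_e_Cert_tree lc_e_rc_18_1 lc_e_rc_13_3 lc_e_Cert_tree lc_e_rc_18_1 lc_e_Cert_tree lc_e_Cert_tree lc_e_rc_13_3 lc_e_Cert_tree lc_e_Cert_tree lc_e_rc_18_1 lc_e_Cert_tree lc_e_Cert_tree lc_e_rc_9_3 lc_e_Cert_tree lc_e_rc_18_1 lc_e_rc_18_1 lc_e_rc_16_3 lc_e_Cert_tree lc_e_Cert_tree lc_e_rc_18_1 lc_e_rc_18_1 lc_e_rc_9_3 lc_e_rc_16_1 lc_e_rc_19_2 lc_e_rc_18_1 lc_e_rc_27_5) (@D3.rec (fun _ => (Cert rels S Gen.e)) lc_e_rc_18_1 lc_e_rc_16_3 lc_e_rc_19_4 lc_e_rc_18_1 lc_e_rc_18_1 lc_e_rc_18_1 lc_e_rc_16_1 lc_e_rc_9_1 lc_e_rc_18_1 lc_e_rc_18_1 lc_e_Cert_tree lc_e_Cert_tree lc_e_rc_16_1 lc_e_rc_19_4 lc_e_rc_18_1 lc_e_Cert_tree lc_e_Cert_tree lc_e_Cert_tree lc_e_rc_18_1 lc_e_Cert_tree lc_e_Cert_tree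 lc_e_rc_13_3 lc_e_Cert_tree lc_e_Cert_tree lc_e_rc_18_1 lc_e_Cert_tree lc_e_Cert_tree lc_e_rc_18_1 lc_e_Cert_tree lc_e_Cert_tree lc_e_rc_13_3 lc_e_Cert_tree lc_e_rc_18_1 lc_e_Cert_tree lc_e_rc_18_1 lc_e_Cert_tree lc_e_Cert_tree lc_e_rc_9_3 lc_e_Cert_tree lc_e_rc_18_1 lc_e_Cert_tree lc_e_rc_18_1 lc_e_rc_18_1 lc_e_Cert_tree lc_e_rc_18_1 lc_e_Cert_tree lc_e_Cert_tree lc_e_rc_16_1 lc_e_rc_27_7 lc_e_rc_16_1 lc_e_rc_19_4 lc_e_Cert_tree lc_e_rc_13_3 lc_e_rc_16_1 lc_e_rc_16_3 lc_e_rc_16_1 lc_e_rc_19_2 lc_e_rc_13_1 lc_e_Cert_tree lc_e_rc_9_3 lc_e_Cert_tree lc_e_Cert_tree) (@D3.rec (fun _ => (Cert rels S Gen.e)) lc_e_Cert_tree lc_e_rc_13_3 lc_e_Cert_tree lc_e_Cert_tree lc_e_rc_18_1 lc_e_rc_13_3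 lc_e_rc_16_3 lc_e_rc_19_4 lc_e_rc_18_1 lc_e_rc_27_5 lc_e_Cert_tree lc_e_Cert_tree lc_e_rc_18_1 lc_e_Cert_tree lc_e_rc_18_1 lc_e_rc_13_3 lc_e_rc_4_3 lc_e_Cert_tree lc_e_rc_27_7 lc_e_Cert_tree lc_e_rc_18_1 lc_e_rc_9_1 lc_e_rc_13_1 lc_e_Cert_tree lc_e_rc_18_1 lc_e_Cert_tree lc_e_rc_13_3 lc_e_Cert_tree lc_e_rc_9_1 lc_e_Cert_tree lc_e_Cert_tree lc_e_rc_18_1 lc_e_Cert_tree lc_e_Cert_tree lc_e_Cert_tree lc_e_rc_18_1 lc_e_rc_16_1 lc_e_rc_9_3 lc_e_rc_4_3 lc_e_Cert_tree lc_e_Cert_tree lc_e_rc_18_1 lc_e_Cert_tree lc_e_Cert_tree lc_e_rc_18_1 lc_e_Cert_tree lc_e_Cert_tree lc_e_rc_18_1 lc_e_Cert_tree lc_e_Cert_tree lc_e_rc_9_3 lc_e_Cert_tree lc_e_Cert_tree lc_e_rc_18_1 lc_e_rc_18_1 lc_e_rc_9_3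 lc_e_Cert_tree lc_e_Cert_tree lc_e_rc_18_1 lc_e_Cert_tree lc_e_rc_18_1 lc_e_rc_16_3) (@D3.rec (fun _ => (Cert rels S Gen.e)) lc_e_rc_19_4 lc_e_Cert_tree lc_e_Cert_tree lc_e_rc_18_1 lc_e_Cert_tree lc_e_rc_27_5 lc_e_Cert_tree lc_e_rc_13_3 lc_e_Cert_tree lc_e_rc_18_1 lc_e_Cert_tree lc_e_Cert_tree lc_e_rc_16_3 lc_e_rc_13_3 lc_e_Cert_tree lc_e_rc_18_1 lc_e_Cert_tree lc_e_rc_18_1 lc_e_Cert_tree lc_e_Cert_tree lc_e_rc_19_4 lc_e_rc_27_5 lc_e_rc_27_7 lc_e_rc_18_1 lc_e_rc_27_1 lc_e_rc_18_1 lc_e_rc_18_1 lc_e_Cert_tree lc_e_rc_13_3 lc_e_rc_16_3 lc_e_rc_19_4 lc_e_Cert_tree lc_e_rc_18_1 lc_e_rc_13_3 lc_e_Cert_tree lc_e_Cert_tree lc_e_rc_9_3 lc_e_rc_16_5 lc_e_Cert_tree lc_e_rc_9_3 lc_e_Cert_tree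 lc_e_Cert_tree lc_e_Cert_tree lc_e_rc_18_1 lc_e_rc_4_3 lc_e_Cert_tree lc_e_rc_27_7 lc_e_rc_18_1 lc_e_rc_27_7 lc_e_rc_27_7 lc_e_Cert_tree lc_e_rc_18_1 lc_e_rc_18_1 lc_e_rc_16_1 lc_e_rc_19_4 lc_e_rc_13_3 lc_e_Cert_tree lc_e_Cert_tree lc_e_rc_18_1 lc_e_Cert_tree lc_e_rc_18_1 lc_e_Cert_tree) (@D3.rec (fun _ => (Cert rels S Gen.e)) lc_e_rc_18_1 lc_e_rc_9_3 lc_e_rc_16_1 lc_e_rc_18_1 lc_e_Cert_tree lc_e_Cert_tree lc_e_rc_27_7 lc_e_rc_18_1 lc_e_rc_16_5 lc_e_Cert_tree lc_e_rc_27_7 lc_e_rc_18_1 lc_e_Cert_tree lc_e_Cert_tree lc_e_rc_9_3 lc_e_Cert_tree lc_e_Cert_tree lc_e_rc_18_1 lc_e_rc_16_3 lc_e_rc_9_1 lc_e_rc_13_1 lc_e_Cert_tree lc_e_rc_18_1 lc_e_rc_13_3 lc_e_Cert_tree lc_e_Cert_tree lc_e_rc_18_1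 lc_e_Cert_tree lc_e_Cert_tree lc_e_rc_13_3 lc_e_rc_19_0 lc_e_Cert_tree lc_e_rc_19_0 lc_e_rc_18_1 lc_e_rc_13_3 lc_e_rc_18_1 lc_e_Cert_tree lc_e_rc_16_3 lc_e_Cert_tree lc_e_rc_18_1 lc_e_rc_27_7 lc_e_rc_27_7 lc_e_rc_16_1 lc_e_rc_9_3 lc_e_rc_27_7 lc_e_rc_18_1 lc_e_Cert_tree lc_e_Cert_tree lc_e_rc_18_1 lc_e_Cert_tree lc_e_rc_18_1 lc_e_Cert_tree lc_e_Cert_tree lc_e_Cert_tree lc_e_rc_18_1 lc_e_rc_18_1 lc_e_Cert_tree lc_e_rc_16_1 lc_e_rc_19_2 lc_e_rc_13_3 lc_e_rc_27_5 lc_e_rc_13_1) (@D3.rec (fun _ => (Cert rels S Gen.e)) lc_e_rc_18_1 lc_e_rc_19_2 lc_e_Cert_tree lc_e_rc_13_3 lc_e_rc_18_1 lc_e_rc_9_3 lc_e_rc_13_3 lc_e_rc_9_3 lc_e_rc_18_1 lc_e_rc_18_1 lc_e_rc_16_5 lc_e_rc_4_1 lc_e_rc_4_3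 lc_e_rc_18_1 lc_e_rc_18_1 lc_e_Cert_tree lc_e_rc_16_1 lc_e_rc_18_1 lc_e_Cert_tree lc_e_rc_16_5 lc_e_rc_18_1 lc_e_rc_18_1 lc_e_rc_27_1 lc_e_rc_18_1 lc_e_rc_27_1 lc_e_rc_16_3 lc_e_rc_18_1 lc_e_rc_13_3 lc_e_Cert_tree lc_e_rc_18_1 lc_e_Cert_tree lc_e_rc_18_1 lc_e_Cert_tree lc_e_Cert_tree lc_e_rc_4_3 lc_e_Cert_tree lc_e_Cert_tree lc_e_rc_18_1 lc_e_rc_18_1 lc_e_Cert_tree lc_e_rc_27_5 lc_e_rc_16_3 lc_e_rc_13_3 lc_e_Cert_tree lc_e_rc_18_1 lc_e_Cert_tree lc_e_rc_19_2 lc_e_rc_16_3 lc_e_rc_18_1 lc_e_rc_16_1 lc_e_Cert_tree lc_e_Cert_tree lc_e_rc_18_1 lc_e_Cert_tree lc_e_rc_16_5 lc_e_rc_18_1 lc_e_Cert_tree lc_e_Cert_tree lc_e_rc_18_1 lc_e_Cert_tree lc_e_Cert_tree lc_e_rc_9_3) (@D3.rec (fun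 _ => (Cert rels S Gen.e)) lc_e_Cert_tree lc_e_rc_19_0 lc_e_Cert_tree lc_e_rc_9_3 lc_e_rc_18_1 lc_e_Cert_tree lc_e_rc_9_1 lc_e_rc_13_1 lc_e_Cert_tree lc_e_rc_4_1 lc_e_rc_13_1 lc_e_rc_19_0 lc_e_Cert_tree lc_e_rc_16_5 lc_e_rc_18_1 lc_e_rc_19_0 lc_e_rc_19_0 lc_e_rc_9_3 lc_e_Cert_tree lc_e_rc_18_1 lc_e_Cert_tree lc_e_Cert_tree lc_e_Cert_tree lc_e_rc_18_1 lc_e_rc_27_7 lc_e_rc_27_5 lc_e_rc_16_1 lc_e_Cert_tree lc_e_Cert_tree lc_e_rc_18_1 lc_e_Cert_tree lc_e_Cert_tree lc_e_rc_27_5 lc_e_rc_18_1 lc_e_Cert_tree lc_e_rc_18_1 lc_e_Cert_tree lc_e_Cert_tree lc_e_rc_16_1 lc_e_rc_18_1 lc_e_rc_9_3 lc_e_Cert_tree lc_e_rc_13_3 lc_e_rc_9_3 lc_e_rc_16_5 lc_e_Cert_tree lc_e_rc_13_3 lc_e_Cert_tree lc_e_rc_18_1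 lc_e_Cert_tree lc_e_rc_27_5 lc_e_rc_13_3 lc_e_Cert_tree lc_e_rc_13_3 lc_e_rc_18_1 lc_e_rc_18_1 lc_e_rc_4_1 lc_e_rc_27_5 lc_e_Cert_tree lc_e_Cert_tree lc_e_rc_18_1 lc_e_Cert_tree) (@D3.rec (fun _ => (Cert rels S Gen.e)) lc_e_Cert_tree lc_e_Cert_tree lc_e_rc_18_1 lc_e_rc_27_5 lc_e_rc_13_1 lc_e_Cert_tree lc_e_Cert_tree lc_e_rc_18_1 lc_e_Cert_tree lc_e_Cert_tree lc_e_rc_18_1 lc_e_rc_18_1 lc_e_rc_27_1 lc_e_rc_16_1 lc_e_rc_19_2 lc_e_Cert_tree lc_e_rc_18_1 lc_e_Cert_tree lc_e_Cert_tree lc_e_rc_16_1 lc_e_rc_18_1 lc_e_rc_13_3 lc_e_Cert_tree lc_e_rc_9_3 lc_e_rc_13_1 lc_e_rc_18_1 lc_e_rc_13_3 lc_e_rc_18_1 lc_e_Cert_tree lc_e_rc_18_1 lc_e_Cert_tree lc_e_rc_16_5 lc_e_Cert_tree lc_e_rc_18_1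 lc_e_rc_16_1 lc_e_Cert_tree lc_e_Cert_tree lc_e_rc_18_1 lc_e_rc_27_7 lc_e_rc_27_7 lc_e_Cert_tree lc_e_rc_9_3 lc_e_rc_27_7 lc_e_Cert_tree lc_e_rc_18_1 lc_e_rc_13_1 lc_e_rc_18_1 lc_e_Cert_tree lc_e_rc_18_1 lc_e_rc_9_3 lc_e_rc_16_3 lc_e_rc_18_1 lc_e_rc_18_1 lc_e_rc_16_3 lc_e_rc_18_1 lc_e_rc_4_3 lc_e_rc_9_3 lc_e_Cert_tree lc_e_Cert_tree lc_e_rc_18_1 lc_e_rc_18_1 lc_e_rc_16_1) (@D3.rec (fun _ => (Cert rels S Gen.e)) lc_e_rc_16_5 lc_e_rc_27_5 lc_e_rc_4_3 lc_e_Cert_tree lc_e_rc_18_1 lc_e_rc_18_1 lc_e_rc_27_5 lc_e_Cert_tree lc_e_rc_19_0 lc_e_rc_18_1 lc_e_rc_18_1 lc_e_rc_4_3 lc_e_rc_9_3 lc_e_Cert_tree lc_e_Cert_tree lc_e_rc_18_1 lc_e_Cert_tree lc_e_rc_18_1 lc_e_rc_18_1 lc_e_Cert_tree lc_e_rc_19_4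 lc_e_Cert_tree lc_e_rc_18_1 lc_e_rc_16_1 lc_e_Cert_tree lc_e_rc_16_3 lc_e_rc_9_3 lc_e_rc_18_1 lc_e_rc_27_1 lc_e_rc_16_1 lc_e_rc_27_5 lc_e_Cert_tree lc_e_rc_18_1 lc_e_Cert_tree lc_e_rc_13_3 lc_e_Cert_tree lc_e_rc_18_1 lc_e_Cert_tree lc_e_Cert_tree lc_e_rc_18_1 lc_e_rc_13_3 lc_e_Cert_tree lc_e_rc_18_1 lc_e_rc_18_1 lc_e_rc_18_1 lc_e_Cert_tree lc_e_rc_18_1 lc_e_rc_9_1 lc_e_rc_19_2 lc_e_Cert_tree lc_e_rc_13_1 lc_e_Cert_tree lc_e_rc_18_1 lc_e_rc_18_1 lc_e_rc_18_1 lc_e_Cert_tree lc_e_rc_27_1 lc_e_rc_16_3 lc_e_Cert_tree lc_e_rc_13_3 lc_e_rc_27_7 lc_e_rc_27_1) (@D3.rec (fun _ => (Cert rels S Gen.e)) lc_e_rc_18_1 lc_e_rc_18_1 lc_e_rc_16_3 lc_e_rc_13_3 lc_e_Cert_tree lc_e_rc_27_5 lc_e_Cert_tree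 lc_e_rc_18_1 lc_e_rc_9_3 lc_e_Cert_tree lc_e_Cert_tree lc_e_Cert_tree lc_e_rc_13_3 lc_e_Cert_tree lc_e_rc_4_1 lc_e_rc_4_1 lc_e_rc_16_3 lc_e_rc_18_1 lc_e_Cert_tree lc_e_Cert_tree lc_e_rc_18_1 lc_e_rc_9_3 lc_e_Cert_tree lc_e_Cert_tree lc_e_rc_18_1 lc_e_Cert_tree lc_e_rc_18_1 lc_e_rc_16_1 lc_e_Cert_tree lc_e_Cert_tree lc_e_rc_18_1 lc_e_Cert_tree lc_e_Cert_tree lc_e_rc_18_1 lc_e_Cert_tree lc_e_rc_4_3 lc_e_rc_9_3 lc_e_rc_27_5 lc_e_Cert_tree lc_e_rc_18_1 lc_e_rc_9_3 lc_e_Cert_tree lc_e_rc_19_2 lc_e_Cert_tree lc_e_rc_16_3 lc_e_rc_18_1 lc_e_Cert_tree lc_e_Cert_tree lc_e_Cert_tree lc_e_rc_18_1 lc_e_rc_18_1 lc_e_rc_16_1 lc_e_rc_13_3 lc_e_rc_13_3 lc_e_rc_13_3 lc_e_rc_19_4 lc_e_Cert_tree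 lc_e_rc_13_1 lc_e_Cert_tree lc_e_rc_13_3 lc_e_rc_9_3 lc_e_Cert_tree) (@D3.rec (fun _ => (Cert rels S Gen.e)) lc_e_Cert_tree lc_e_rc_18_1 lc_e_Cert_tree lc_e_rc_18_1 lc_e_rc_13_3 lc_e_rc_16_1 lc_e_rc_27_1 lc_e_rc_18_1 lc_e_Cert_tree lc_e_rc_18_1 lc_e_Cert_tree lc_e_rc_18_1 lc_e_Cert_tree lc_e_Cert_tree lc_e_rc_18_1 lc_e_rc_18_1 lc_e_rc_27_5 lc_e_Cert_tree lc_e_rc_16_1 lc_e_rc_9_3 lc_e_rc_18_1 lc_e_Cert_tree lc_e_rc_16_1 lc_e_rc_27_5 lc_e_rc_9_3 lc_e_Cert_tree lc_e_Cert_tree lc_e_rc_13_3 lc_e_Cert_tree lc_e_Cert_tree lc_e_Cert_tree lc_e_rc_13_3 lc_e_rc_9_3 lc_e_rc_13_3 lc_e_rc_18_1 lc_e_Cert_tree lc_e_rc_18_1 lc_e_rc_18_1 lc_e_Cert_tree lc_e_Cert_tree lc_e_rc_16_3 lc_e_Cert_tree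 lc_e_rc_13_3 lc_e_Cert_tree lc_e_rc_18_1 lc_e_rc_18_1 lc_e_rc_18_1 lc_e_rc_13_3 lc_e_rc_13_1 lc_e_rc_16_3 lc_e_rc_18_1 lc_e_Cert_tree lc_e_Cert_tree lc_e_rc_13_1 lc_e_Cert_tree lc_e_Cert_tree lc_e_Cert_tree lc_e_Cert_tree lc_e_rc_18_1 lc_e_Cert_tree lc_e_Cert_tree lc_e_rc_16_3) (@D3.rec (fun _ => (Cert rels S Gen.e)) lc_e_rc_13_3 lc_e_Cert_tree lc_e_rc_9_3 lc_e_Cert_tree lc_e_rc_18_1 lc_e_Cert_tree lc_e_Cert_tree lc_e_Cert_tree lc_e_rc_18_1 lc_e_Cert_tree lc_e_rc_16_3 lc_e_rc_13_3 lc_e_Cert_tree lc_e_rc_4_3 lc_e_rc_18_1 lc_e_Cert_tree lc_e_Cert_tree lc_e_rc_18_1 lc_e_rc_9_1 lc_e_Cert_tree lc_e_Cert_tree lc_e_rc_18_1 lc_e_Cert_tree lc_e_rc_18_1 lc_e_Cert_tree lc_e_Cert_tree lc_e_rc_18_1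 lc_e_rc_9_3 lc_e_Cert_tree lc_e_Cert_tree lc_e_rc_9_3 lc_e_Cert_tree lc_e_Cert_tree lc_e_rc_18_1 lc_e_rc_13_1 lc_e_Cert_tree lc_e_rc_13_3 lc_e_rc_4_3 lc_e_rc_18_1 lc_e_Cert_tree lc_e_Cert_tree lc_e_Cert_tree lc_e_rc_18_1 lc_e_Cert_tree lc_e_rc_18_1 lc_e_Cert_tree lc_e_rc_18_1 lc_e_rc_27_7 lc_e_rc_16_1 lc_e_rc_13_3 lc_e_rc_19_4 lc_e_Cert_tree lc_e_rc_18_1 lc_e_Cert_tree lc_e_Cert_tree lc_e_rc_18_1 lc_e_rc_9_3 lc_e_Cert_tree lc_e_rc_18_1 lc_e_Cert_tree lc_e_rc_18_1 lc_e_rc_16_5) (@D3.rec (fun _ => (Cert rels S Gen.e)) lc_e_Cert_tree lc_e_Cert_tree lc_e_rc_18_1 lc_e_rc_13_3 lc_e_rc_18_1 lc_e_rc_16_1 lc_e_rc_18_1 lc_e_Cert_tree lc_e_Cert_tree lc_e_rc_16_1 lc_e_rc_18_1 lc_e_rc_13_3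 lc_e_Cert_tree lc_e_Cert_tree lc_e_Cert_tree lc_e_Cert_tree lc_e_rc_13_3 lc_e_rc_18_1 lc_e_rc_16_1 lc_e_Cert_tree lc_e_rc_27_5 lc_e_rc_16_1 lc_e_rc_19_4 lc_e_Cert_tree lc_e_Cert_tree lc_e_Cert_tree lc_e_rc_13_3 lc_e_Cert_tree lc_e_rc_9_3 lc_e_rc_13_3 lc_e_Cert_tree lc_e_Cert_tree lc_e_rc_13_3 lc_e_rc_18_1 lc_e_Cert_tree lc_e_Cert_tree lc_e_Cert_tree lc_e_rc_18_1 lc_e_rc_16_1 lc_e_rc_4_3 lc_e_Cert_tree lc_e_rc_18_1 lc_e_rc_9_3 lc_e_Cert_tree lc_e_rc_16_5 lc_e_rc_27_7 lc_e_Cert_tree lc_e_rc_18_1 lc_e_Cert_tree lc_e_Cert_tree lc_e_Cert_tree lc_e_rc_18_1 lc_e_rc_16_5 lc_e_Cert_tree lc_e_rc_18_1 lc_e_Cert_tree lc_e_rc_18_1 lc_e_Cert_tree lc_e_rc_19_0 lc_e_Cert_tree lc_e_Cert_tree lc_e_rc_18_1)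 (@D3.rec (fun _ => (Cert rels S Gen.e)) lc_e_rc_18_1 lc_e_rc_4_3 lc_e_rc_18_1 lc_e_rc_4_3 lc_e_rc_27_5 lc_e_Cert_tree lc_e_rc_19_0 lc_e_Cert_tree lc_e_Cert_tree lc_e_rc_18_1 lc_e_Cert_tree lc_e_Cert_tree lc_e_Cert_tree lc_e_rc_18_1 lc_e_Cert_tree lc_e_Cert_tree lc_e_rc_18_1 lc_e_Cert_tree lc_e_rc_27_5 lc_e_rc_18_1 lc_e_Cert_tree lc_e_Cert_tree lc_e_rc_19_4 lc_e_rc_27_7 lc_e_Cert_tree lc_e_Cert_tree lc_e_rc_16_1 lc_e_rc_19_4 lc_e_rc_18_1 lc_e_rc_18_1 lc_e_rc_9_3 lc_e_Cert_tree lc_e_rc_9_3 lc_e_rc_9_3 lc_e_Cert_tree lc_e_rc_18_1 lc_e_rc_27_5 lc_e_rc_9_3 lc_e_Cert_tree lc_e_rc_9_3 lc_e_Cert_tree lc_e_rc_13_3 lc_e_rc_19_2 lc_e_rc_13_3 lc_e_Cert_tree lc_e_rc_18_1 lc_e_rc_19_2 lc_e_Cert_tree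 lc_e_rc_18_1 lc_e_rc_18_1 lc_e_Cert_tree lc_e_rc_18_1 lc_e_rc_9_3 lc_e_Cert_tree lc_e_Cert_tree lc_e_rc_18_1 lc_e_rc_18_1 lc_e_Cert_tree lc_e_rc_18_1 lc_e_Cert_tree lc_e_Cert_tree lc_e_rc_18_1) (@D3.rec (fun _ => (Cert rels S Gen.e)) lc_e_Cert_tree lc_e_Cert_tree lc_e_rc_18_1 lc_e_Cert_tree lc_e_Cert_tree lc_e_rc_18_1 lc_e_Cert_tree lc_e_Cert_tree lc_e_rc_16_1 lc_e_rc_18_1 lc_e_rc_18_1 lc_e_rc_13_3 lc_e_rc_13_3 lc_e_Cert_tree lc_e_Cert_tree lc_e_rc_4_1 lc_e_rc_18_1 lc_e_rc_18_1 lc_e_rc_19_4 lc_e_rc_13_1 lc_e_Cert_tree lc_e_rc_18_1 lc_e_rc_16_1 lc_e_rc_13_1 lc_e_Cert_tree lc_e_rc_18_1 lc_e_rc_18_1 lc_e_rc_9_3 lc_e_Cert_tree lc_e_rc_18_1 lc_e_Cert_tree lc_e_rc_18_1 lc_e_rc_18_1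 lc_e_Cert_tree lc_e_rc_18_1 lc_e_rc_27_5 lc_e_Cert_tree lc_e_rc_19_4 lc_e_Cert_tree lc_e_rc_18_1 lc_e_rc_18_1 lc_e_rc_27_1 lc_e_rc_19_4 lc_e_Cert_tree lc_e_rc_18_1 lc_e_rc_27_1 lc_e_Cert_tree lc_e_rc_19_4 lc_e_Cert_tree lc_e_rc_27_5 lc_e_rc_19_4 lc_e_Cert_tree lc_e_rc_18_1 lc_e_Cert_tree lc_e_Cert_tree lc_e_rc_18_1 lc_e_Cert_tree lc_e_Cert_tree lc_e_rc_4_3 lc_e_Cert_tree lc_e_Cert_tree lc_e_rc_18_1) (@D3.rec (fun _ => (Cert rels S Gen.e)) lc_e_rc_18_1 lc_e_Cert_tree lc_e_Cert_tree lc_e_Cert_tree lc_e_rc_18_1 lc_e_Cert_tree lc_e_rc_18_1 lc_e_rc_16_5 lc_e_Cert_tree lc_e_rc_18_1 lc_e_Cert_tree lc_e_rc_19_4 lc_e_rc_27_5 lc_e_rc_13_3 lc_e_rc_18_1 lc_e_Cert_tree lc_e_rc_18_1 lc_e_rc_16_1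 lc_e_rc_13_3 lc_e_rc_18_1 lc_e_Cert_tree lc_e_rc_18_1 lc_e_rc_18_1 lc_e_rc_16_5 lc_e_Cert_tree lc_e_Cert_tree lc_e_Cert_tree lc_e_Cert_tree lc_e_rc_18_1 lc_e_Cert_tree lc_e_Cert_tree lc_e_rc_18_1 lc_e_Cert_tree lc_e_rc_18_1 lc_e_Cert_tree lc_e_rc_18_1 lc_e_Cert_tree lc_e_rc_16_3 lc_e_Cert_tree lc_e_rc_18_1 lc_e_rc_18_1 lc_e_rc_18_1 lc_e_Cert_tree lc_e_Cert_tree lc_e_rc_13_3 lc_e_Cert_tree lc_e_Cert_tree lc_e_rc_19_4 lc_e_rc_27_5 lc_e_rc_18_1 lc_e_Cert_tree lc_e_Cert_tree lc_e_rc_18_1 lc_e_rc_4_1 lc_e_Cert_tree lc_e_rc_19_4 lc_e_rc_27_5 lc_e_rc_18_1 lc_e_rc_18_1 lc_e_Cert_tree lc_e_rc_27_5 lc_e_rc_18_1) (@D3.rec (fun _ => (Cert rels S Gen.e)) lc_e_Cert_tree lc_e_Cert_tree lc_e_rc_16_1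 lc_e_rc_19_4 lc_e_rc_13_3 lc_e_rc_18_1 lc_e_rc_16_1 lc_e_rc_9_3 lc_e_Cert_tree lc_e_rc_18_1 lc_e_rc_16_5 lc_e_rc_18_1 lc_e_rc_16_1 lc_e_Cert_tree lc_e_rc_18_1 lc_e_rc_18_1 lc_e_Cert_tree lc_e_Cert_tree lc_e_rc_18_1 lc_e_rc_16_5 lc_e_Cert_tree lc_e_rc_18_1 lc_e_Cert_tree lc_e_Cert_tree lc_e_rc_19_4 lc_e_Cert_tree lc_e_Cert_tree lc_e_rc_18_1 lc_e_Cert_tree lc_e_rc_27_5 lc_e_rc_18_1 lc_e_Cert_tree lc_e_Cert_tree lc_e_rc_9_3 lc_e_Cert_tree lc_e_rc_9_3 lc_e_Cert_tree lc_e_Cert_tree lc_e_rc_18_1 lc_e_Cert_tree lc_e_rc_18_1 lc_e_Cert_tree lc_e_rc_18_1 lc_e_Cert_tree lc_e_rc_18_1 lc_e_rc_9_3 lc_e_Cert_tree lc_e_Cert_tree lc_e_rc_18_1 lc_e_Cert_tree lc_e_rc_18_1 lc_e_Cert_tree lc_e_rc_18_1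 lc_e_rc_18_1 lc_e_Cert_tree lc_e_rc_18_1 lc_e_Cert_tree lc_e_Cert_tree lc_e_Cert_tree lc_e_Cert_tree lc_e_rc_18_1 lc_e_rc_9_3) (@D3.rec (fun _ => (Cert rels S Gen.e)) lc_e_rc_16_1 lc_e_rc_19_2 lc_e_rc_13_3 lc_e_Cert_tree lc_e_rc_18_1 lc_e_Cert_tree lc_e_Cert_tree lc_e_rc_18_1 lc_e_rc_16_5 lc_e_rc_19_2 lc_e_rc_18_1 lc_e_Cert_tree lc_e_Cert_tree lc_e_Cert_tree lc_e_rc_18_1 lc_e_rc_27_5 lc_e_Cert_tree lc_e_rc_19_4 lc_e_rc_18_1 lc_e_Cert_tree lc_e_Cert_tree lc_e_rc_18_1 lc_e_Cert_tree lc_e_rc_27_5 lc_e_rc_18_1 lc_e_rc_19_4 lc_e_Cert_tree lc_e_Cert_tree lc_e_rc_18_1 lc_e_Cert_tree lc_e_Cert_tree lc_e_rc_18_1 lc_e_Cert_tree lc_e_Cert_tree lc_e_rc_4_3 lc_e_rc_27_5 lc_e_Cert_tree lc_e_Cert_tree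 lc_e_Cert_tree lc_e_rc_18_1 lc_e_Cert_tree lc_e_rc_18_1 lc_e_Cert_tree lc_e_rc_18_1 lc_e_Cert_tree lc_e_rc_18_1 lc_e_rc_27_7 lc_e_Cert_tree lc_e_rc_19_4 lc_e_rc_18_1 lc_e_rc_27_1 lc_e_rc_18_1 lc_e_rc_18_1 lc_e_rc_9_3 lc_e_Cert_tree lc_e_Cert_tree lc_e_Cert_tree lc_e_rc_18_1 lc_e_Cert_tree lc_e_Cert_tree lc_e_rc_27_5 lc_e_rc_18_1) (@D3.rec (fun _ => (Cert rels S Gen.e)) lc_e_rc_16_3 lc_e_rc_27_7 lc_e_Cert_tree lc_e_rc_18_1 lc_e_rc_19_4 lc_e_rc_9_1 lc_e_rc_18_1 lc_e_rc_13_1 lc_e_Cert_tree lc_e_rc_19_2 lc_e_rc_19_2 lc_e_rc_18_1 lc_e_rc_13_3 lc_e_rc_9_3 lc_e_rc_13_3 lc_e_Cert_tree lc_e_rc_4_1 lc_e_Cert_tree lc_e_rc_18_1 lc_e_rc_16_1 lc_e_rc_4_1 lc_e_rc_18_1 lc_e_Cert_tree lc_e_rc_18_1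 lc_e_rc_27_1 lc_e_Cert_tree lc_e_rc_18_1 lc_e_rc_13_1 lc_e_rc_18_1 lc_e_rc_19_2 lc_e_rc_9_1 lc_e_Cert_tree lc_e_rc_18_1 lc_e_Cert_tree lc_e_rc_19_4 lc_e_rc_18_1 lc_e_rc_4_3 lc_e_rc_13_3 lc_e_rc_4_3 lc_e_rc_9_3 lc_e_rc_18_1 lc_e_Cert_tree lc_e_rc_4_1 lc_e_Cert_tree lc_e_Cert_tree lc_e_rc_18_1 lc_e_rc_18_1 lc_e_rc_9_1 lc_e_rc_18_1 lc_e_rc_9_3 lc_e_rc_18_1 lc_e_rc_18_1 lc_e_rc_18_1 lc_e_Cert_tree lc_e_rc_18_1 lc_e_Cert_tree lc_e_rc_18_1 lc_e_rc_9_3 lc_e_rc_18_1 lc_e_rc_18_1 lc_e_rc_19_0 lc_e_rc_16_1)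
def ce_e_8 : D2 → D3 → (Cert rels S Gen.e) := @D2.rec (fun _ => D3 → (Cert rels S Gen.e)) (@D3.rec (fun _ => (Cert rels S Gen.e)) lc_e_rc_9_3 lc_e_rc_9_1 lc_e_rc_27_1 lc_e_rc_18_1 lc_e_rc_18_1 lc_e_Cert_tree lc_e_rc_18_1 lc_e_rc_18_1 lc_e_rc_16_1 lc_e_rc_19_2 lc_e_rc_18_1 lc_e_rc_9_3 lc_e_rc_16_3 lc_e_rc_19_2 lc_e_rc_9_1 lc_e_rc_27_7 lc_e_rc_18_1 lc_e_rc_16_1 lc_e_Cert_tree lc_e_rc_13_3 lc_e_Cert_tree lc_e_rc_18_1 lc_e_rc_13_3 lc_e_rc_27_1 lc_e_rc_4_3 lc_e_rc_18_1 lc_e_rc_27_7 lc_e_Cert_tree lc_e_rc_18_1 lc_e_rc_16_3 lc_e_Cert_tree lc_e_Cert_tree lc_e_rc_18_1 lc_e_Cert_tree lc_e_Cert_tree lc_e_rc_18_1 lc_e_rc_16_1 lc_e_Cert_tree lc_e_rc_18_1 lc_e_rc_27_7 lc_e_Cert_tree lc_e_rc_13_3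 lc_e_rc_16_3 lc_e_rc_19_2 lc_e_rc_19_4 lc_e_Cert_tree lc_e_rc_9_3 lc_e_rc_18_1 lc_e_rc_9_3 lc_e_rc_13_3 lc_e_rc_27_5 lc_e_rc_27_5 lc_e_Cert_tree lc_e_Cert_tree lc_e_rc_27_1 lc_e_rc_18_1 lc_e_rc_27_7 lc_e_rc_4_3 lc_e_rc_18_1 lc_e_rc_13_1 lc_e_rc_9_3 lc_e_rc_27_5) (@D3.rec (fun _ => (Cert rels S Gen.e)) lc_e_rc_18_1 lc_e_rc_27_7 lc_e_rc_16_3 lc_e_rc_16_5 lc_e_rc_16_3 lc_e_Cert_tree lc_e_rc_18_1 lc_e_Cert_tree lc_e_Cert_tree lc_e_rc_18_1 lc_e_Cert_tree lc_e_Cert_tree lc_e_Cert_tree lc_e_rc_18_1 lc_e_rc_18_1 lc_e_Cert_tree lc_e_rc_18_1 lc_e_rc_18_1 lc_e_Cert_tree lc_e_Cert_tree lc_e_rc_18_1 lc_e_Cert_tree lc_e_Cert_tree lc_e_rc_18_1 lc_e_Cert_tree lc_e_Cert_tree lc_e_rc_18_1 lc_e_Cert_tree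 lc_e_rc_18_1 lc_e_rc_18_1 lc_e_rc_19_4 lc_e_rc_18_1 lc_e_rc_18_1 lc_e_rc_19_4 lc_e_Cert_tree lc_e_Cert_tree lc_e_rc_4_3 lc_e_Cert_tree lc_e_rc_16_3 lc_e_rc_18_1 lc_e_rc_18_1 lc_e_rc_18_1 lc_e_rc_13_3 lc_e_rc_4_3 lc_e_rc_19_2 lc_e_rc_13_3 lc_e_rc_9_3 lc_e_Cert_tree lc_e_rc_9_1 lc_e_rc_13_1 lc_e_Cert_tree lc_e_rc_18_1 lc_e_Cert_tree lc_e_Cert_tree lc_e_Cert_tree lc_e_Cert_tree lc_e_rc_18_1 lc_e_Cert_tree lc_e_rc_18_1 lc_e_Cert_tree lc_e_rc_18_1 lc_e_Cert_tree) (@D3.rec (fun _ => (Cert rels S Gen.e)) lc_e_Cert_tree lc_e_Cert_tree lc_e_rc_18_1 lc_e_rc_16_3 lc_e_rc_18_1 lc_e_Cert_tree lc_e_rc_18_1 lc_e_rc_16_3 lc_e_Cert_tree lc_e_Cert_tree lc_e_rc_18_1 lc_e_Cert_tree lc_e_Cert_tree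 lc_e_rc_18_1 lc_e_rc_18_1 lc_e_rc_4_1 lc_e_rc_16_1 lc_e_rc_27_5 lc_e_rc_18_1 lc_e_rc_18_1 lc_e_rc_16_1 lc_e_rc_13_1 lc_e_Cert_tree lc_e_rc_18_1 lc_e_rc_18_1 lc_e_Cert_tree lc_e_rc_18_1 lc_e_Cert_tree lc_e_Cert_tree lc_e_Cert_tree lc_e_rc_18_1 lc_e_rc_16_3 lc_e_rc_16_3 lc_e_rc_19_4 lc_e_Cert_tree lc_e_Cert_tree lc_e_rc_18_1 lc_e_Cert_tree lc_e_Cert_tree lc_e_rc_18_1 lc_e_Cert_tree lc_e_Cert_tree lc_e_rc_13_3 lc_e_rc_18_1 lc_e_rc_9_3 lc_e_Cert_tree lc_e_Cert_tree lc_e_rc_18_1 lc_e_rc_18_1 lc_e_rc_9_3 lc_e_rc_16_3 lc_e_rc_19_4 lc_e_rc_18_1 lc_e_rc_18_1 lc_e_Cert_tree lc_e_rc_18_1 lc_e_rc_18_1 lc_e_Cert_tree lc_e_rc_16_1 lc_e_rc_19_4 lc_e_Cert_tree lc_e_rc_18_1) (@D3.rec (fun _ =>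 (Cert rels S Gen.e)) lc_e_Cert_tree lc_e_rc_27_5 lc_e_rc_19_4 lc_e_Cert_tree lc_e_Cert_tree lc_e_rc_4_3 lc_e_Cert_tree lc_e_Cert_tree lc_e_rc_13_3 lc_e_Cert_tree lc_e_rc_18_1 lc_e_rc_18_1 lc_e_Cert_tree lc_e_rc_19_4 lc_e_rc_16_3 lc_e_Cert_tree lc_e_Cert_tree lc_e_rc_18_1 lc_e_Cert_tree lc_e_rc_18_1 lc_e_Cert_tree lc_e_rc_27_1 lc_e_rc_16_5 lc_e_Cert_tree lc_e_rc_18_1 lc_e_rc_18_1 lc_e_rc_4_3 lc_e_Cert_tree lc_e_rc_16_5 lc_e_rc_18_1 lc_e_rc_13_3 lc_e_rc_18_1 lc_e_rc_18_1 lc_e_rc_16_1 lc_e_Cert_tree lc_e_rc_9_3 lc_e_rc_16_3 lc_e_rc_18_1 lc_e_rc_9_3 lc_e_rc_9_1 lc_e_Cert_tree lc_e_rc_18_1 lc_e_rc_18_1 lc_e_rc_16_1 lc_e_Cert_tree lc_e_rc_18_1 lc_e_Cert_tree lc_e_rc_18_1 lc_e_Cert_tree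 lc_e_rc_18_1 lc_e_Cert_tree lc_e_rc_18_1 lc_e_rc_16_1 lc_e_Cert_tree lc_e_Cert_tree lc_e_rc_18_1 lc_e_Cert_tree lc_e_Cert_tree lc_e_rc_18_1 lc_e_rc_13_3 lc_e_Cert_tree lc_e_rc_19_4) (@D3.rec (fun _ => (Cert rels S Gen.e)) lc_e_rc_18_1 lc_e_Cert_tree lc_e_rc_19_4 lc_e_Cert_tree lc_e_Cert_tree lc_e_rc_18_1 lc_e_rc_18_1 lc_e_rc_16_1 lc_e_rc_19_4 lc_e_rc_18_1 lc_e_Cert_tree lc_e_Cert_tree lc_e_rc_18_1 lc_e_Cert_tree lc_e_rc_19_4 lc_e_rc_18_1 lc_e_Cert_tree lc_e_Cert_tree lc_e_rc_18_1 lc_e_Cert_tree lc_e_rc_19_4 lc_e_Cert_tree lc_e_Cert_tree lc_e_rc_18_1 lc_e_Cert_tree lc_e_Cert_tree lc_e_rc_18_1 lc_e_Cert_tree lc_e_Cert_tree lc_e_rc_4_3 lc_e_Cert_tree lc_e_Cert_tree lc_e_Cert_tree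 lc_e_Cert_tree lc_e_rc_18_1 lc_e_rc_18_1 lc_e_rc_18_1 lc_e_Cert_tree lc_e_rc_18_1 lc_e_rc_18_1 lc_e_Cert_tree lc_e_rc_16_3 lc_e_rc_9_3 lc_e_rc_18_1 lc_e_Cert_tree lc_e_rc_18_1 lc_e_Cert_tree lc_e_rc_27_1 lc_e_rc_19_4 lc_e_Cert_tree lc_e_rc_18_1 lc_e_rc_18_1 lc_e_rc_27_1 lc_e_rc_18_1 lc_e_rc_13_3 lc_e_rc_18_1 lc_e_Cert_tree lc_e_rc_18_1 lc_e_rc_18_1 lc_e_rc_16_1 lc_e_rc_4_1 lc_e_rc_9_1) (@D3.rec (fun _ => (Cert rels S Gen.e)) lc_e_Cert_tree lc_e_Cert_tree lc_e_rc_18_1 lc_e_Cert_tree lc_e_rc_27_5 lc_e_rc_13_1 lc_e_Cert_tree lc_e_rc_18_1 lc_e_Cert_tree lc_e_Cert_tree lc_e_Cert_tree lc_e_Cert_tree lc_e_rc_18_1 lc_e_Cert_tree lc_e_rc_18_1 lc_e_Cert_tree lc_e_rc_18_1 lc_e_rc_19_2 lc_e_rc_18_1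 lc_e_Cert_tree lc_e_rc_18_1 lc_e_Cert_tree lc_e_Cert_tree lc_e_Cert_tree lc_e_rc_18_1 lc_e_rc_16_3 lc_e_rc_18_1 lc_e_Cert_tree lc_e_rc_19_4 lc_e_Cert_tree lc_e_rc_18_1 lc_e_rc_19_4 lc_e_Cert_tree lc_e_Cert_tree lc_e_rc_4_3 lc_e_rc_13_3 lc_e_Cert_tree lc_e_rc_18_1 lc_e_rc_18_1 lc_e_rc_18_1 lc_e_Cert_tree lc_e_Cert_tree lc_e_rc_18_1 lc_e_rc_18_1 lc_e_rc_9_3 lc_e_Cert_tree lc_e_Cert_tree lc_e_rc_18_1 lc_e_rc_18_1 lc_e_Cert_tree lc_e_rc_19_4 lc_e_Cert_tree lc_e_rc_18_1 lc_e_rc_19_4 lc_e_Cert_tree lc_e_Cert_tree lc_e_rc_4_3 lc_e_Cert_tree lc_e_rc_16_5 lc_e_rc_18_1 lc_e_rc_18_1 lc_e_rc_18_1) (@D3.rec (fun _ => (Cert rels S Gen.e)) lc_e_Cert_tree lc_e_Cert_tree lc_e_rc_18_1 lc_e_rc_19_4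 lc_e_rc_9_1 lc_e_rc_16_3 lc_e_rc_18_1 lc_e_rc_19_4 lc_e_Cert_tree lc_e_Cert_tree lc_e_rc_18_1 lc_e_rc_18_1 lc_e_Cert_tree lc_e_rc_18_1 lc_e_Cert_tree lc_e_Cert_tree lc_e_rc_18_1 lc_e_rc_9_1 lc_e_Cert_tree lc_e_rc_18_1 lc_e_Cert_tree lc_e_Cert_tree lc_e_rc_4_3 lc_e_rc_13_3 lc_e_Cert_tree lc_e_Cert_tree lc_e_Cert_tree lc_e_Cert_tree lc_e_rc_18_1 lc_e_Cert_tree lc_e_rc_18_1 lc_e_Cert_tree lc_e_rc_18_1 lc_e_rc_27_1 lc_e_Cert_tree lc_e_Cert_tree lc_e_rc_18_1 lc_e_rc_27_5 lc_e_Cert_tree lc_e_rc_16_5 lc_e_rc_27_5 lc_e_rc_18_1 lc_e_Cert_tree lc_e_Cert_tree lc_e_rc_18_1 lc_e_rc_16_5 lc_e_rc_16_1 lc_e_rc_16_5 lc_e_rc_13_3 lc_e_Cert_tree lc_e_rc_13_3 lc_e_rc_18_1 lc_e_rc_27_5 lc_e_Cert_tree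 lc_e_rc_19_4 lc_e_Cert_tree lc_e_Cert_tree lc_e_rc_18_1 lc_e_Cert_tree lc_e_rc_27_1 lc_e_rc_16_5 lc_e_Cert_tree) (@D3.rec (fun _ => (Cert rels S Gen.e)) lc_e_rc_18_1 lc_e_rc_13_3 lc_e_Cert_tree lc_e_rc_18_1 lc_e_Cert_tree lc_e_Cert_tree lc_e_rc_4_3 lc_e_Cert_tree lc_e_Cert_tree lc_e_Cert_tree lc_e_Cert_tree lc_e_rc_18_1 lc_e_rc_9_3 lc_e_rc_18_1 lc_e_rc_13_3 lc_e_Cert_tree lc_e_Cert_tree lc_e_Cert_tree lc_e_rc_18_1 lc_e_rc_19_4 lc_e_rc_18_1 lc_e_Cert_tree lc_e_rc_18_1 lc_e_rc_18_1 lc_e_rc_9_1 lc_e_rc_19_4 lc_e_Cert_tree lc_e_rc_18_1 lc_e_Cert_tree lc_e_Cert_tree lc_e_Cert_tree lc_e_rc_18_1 lc_e_rc_18_1 lc_e_Cert_tree lc_e_rc_16_3 lc_e_rc_19_4 lc_e_rc_13_1 lc_e_Cert_tree lc_e_Cert_tree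 lc_e_rc_18_1 lc_e_Cert_tree lc_e_rc_27_5 lc_e_rc_13_3 lc_e_rc_19_4 lc_e_rc_9_3 lc_e_rc_18_1 lc_e_rc_18_1 lc_e_rc_18_1 lc_e_rc_18_1 lc_e_Cert_tree lc_e_Cert_tree lc_e_rc_18_1 lc_e_Cert_tree lc_e_rc_13_3 lc_e_rc_16_1 lc_e_rc_19_4 lc_e_Cert_tree lc_e_Cert_tree lc_e_rc_4_1 lc_e_rc_18_1 lc_e_rc_16_3 lc_e_rc_19_4) (@D3.rec (fun _ => (Cert rels S Gen.e)) lc_e_Cert_tree lc_e_rc_19_4 lc_e_rc_18_1 lc_e_rc_13_3 lc_e_rc_18_1 lc_e_Cert_tree lc_e_rc_13_3 lc_e_rc_27_5 lc_e_rc_9_3 lc_e_rc_13_1 lc_e_Cert_tree lc_e_Cert_tree lc_e_Cert_tree lc_e_rc_18_1 lc_e_Cert_tree lc_e_rc_19_4 lc_e_Cert_tree lc_e_rc_27_5 lc_e_Cert_tree lc_e_rc_18_1 lc_e_rc_13_3 lc_e_Cert_tree lc_e_rc_16_3 lc_e_rc_19_4 lc_e_rc_9_3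 lc_e_rc_13_3 lc_e_Cert_tree lc_e_Cert_tree lc_e_rc_27_5 lc_e_rc_18_1 lc_e_rc_19_4 lc_e_rc_13_3 lc_e_rc_16_3 lc_e_rc_18_1 lc_e_Cert_tree lc_e_Cert_tree lc_e_rc_18_1 lc_e_Cert_tree lc_e_rc_18_1 lc_e_rc_19_4 lc_e_rc_9_3 lc_e_Cert_tree lc_e_Cert_tree lc_e_rc_18_1 lc_e_Cert_tree lc_e_rc_18_1 lc_e_rc_16_3 lc_e_rc_19_4 lc_e_Cert_tree lc_e_Cert_tree lc_e_rc_18_1 lc_e_rc_9_3 lc_e_rc_13_3 lc_e_rc_27_5 lc_e_rc_13_3 lc_e_rc_9_3 lc_e_Cert_tree lc_e_rc_18_1 lc_e_rc_16_3 lc_e_rc_19_4 lc_e_rc_27_1 lc_e_Cert_tree) (@D3.rec (fun _ => (Cert rels S Gen.e)) lc_e_rc_13_3 lc_e_rc_9_1 lc_e_rc_18_1 lc_e_rc_16_3 lc_e_rc_19_4 lc_e_Cert_tree lc_e_Cert_tree lc_e_Cert_tree lc_e_Cert_tree lc_e_Cert_tree lc_e_rc_18_1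 lc_e_Cert_tree lc_e_Cert_tree lc_e_Cert_tree lc_e_Cert_tree lc_e_rc_18_1 lc_e_Cert_tree lc_e_Cert_tree lc_e_Cert_tree lc_e_Cert_tree lc_e_rc_18_1 lc_e_rc_18_1 lc_e_Cert_tree lc_e_Cert_tree lc_e_rc_19_4 lc_e_Cert_tree lc_e_Cert_tree lc_e_rc_16_3 lc_e_Cert_tree lc_e_Cert_tree lc_e_rc_18_1 lc_e_Cert_tree lc_e_Cert_tree lc_e_rc_27_5 lc_e_rc_18_1 lc_e_Cert_tree lc_e_rc_18_1 lc_e_rc_18_1 lc_e_rc_9_3 lc_e_rc_16_5 lc_e_rc_18_1 lc_e_Cert_tree lc_e_rc_18_1 lc_e_rc_18_1 lc_e_rc_16_3 lc_e_Cert_tree lc_e_Cert_tree lc_e_rc_13_3 lc_e_rc_18_1 lc_e_rc_16_3 lc_e_rc_19_4 lc_e_rc_9_3 lc_e_rc_13_3 lc_e_Cert_tree lc_e_Cert_tree lc_e_rc_18_1 lc_e_Cert_tree lc_e_rc_27_5 lc_e_rc_13_3 lc_e_rc_16_1 lc_e_rc_13_1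 lc_e_Cert_tree) (@D3.rec (fun _ => (Cert rels S Gen.e)) lc_e_rc_18_1 lc_e_Cert_tree lc_e_rc_18_1 lc_e_rc_18_1 lc_e_rc_19_4 lc_e_Cert_tree lc_e_Cert_tree lc_e_Cert_tree lc_e_rc_18_1 lc_e_rc_16_3 lc_e_rc_19_4 lc_e_Cert_tree lc_e_Cert_tree lc_e_rc_9_3 lc_e_rc_18_1 lc_e_rc_16_1 lc_e_rc_13_3 lc_e_rc_18_1 lc_e_rc_16_3 lc_e_rc_13_3 lc_e_rc_19_2 lc_e_rc_9_3 lc_e_Cert_tree lc_e_rc_18_1 lc_e_rc_27_5 lc_e_rc_19_4 lc_e_rc_4_3 lc_e_Cert_tree lc_e_Cert_tree lc_e_rc_18_1 lc_e_rc_19_0 lc_e_rc_4_1 lc_e_rc_4_1 lc_e_Cert_tree lc_e_Cert_tree lc_e_Cert_tree lc_e_Cert_tree lc_e_rc_13_1 lc_e_rc_18_1 lc_e_Cert_tree lc_e_rc_9_1 lc_e_rc_18_1 lc_e_Cert_tree lc_e_Cert_tree lc_e_Cert_tree lc_e_rc_18_1 lc_e_Cert_tree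 lc_e_Cert_tree lc_e_rc_9_3 lc_e_Cert_tree lc_e_rc_9_3 lc_e_Cert_tree lc_e_rc_18_1 lc_e_Cert_tree lc_e_rc_18_1 lc_e_Cert_tree lc_e_rc_18_1 lc_e_rc_13_1 lc_e_rc_9_3 lc_e_Cert_tree lc_e_Cert_tree lc_e_rc_18_1) (@D3.rec (fun _ => (Cert rels S Gen.e)) lc_e_Cert_tree lc_e_Cert_tree lc_e_rc_18_1 lc_e_rc_18_1 lc_e_Cert_tree lc_e_rc_18_1 lc_e_rc_18_1 lc_e_Cert_tree lc_e_rc_18_1 lc_e_Cert_tree lc_e_rc_18_1 lc_e_rc_9_1 lc_e_rc_13_3 lc_e_rc_18_1 lc_e_rc_27_5 lc_e_rc_19_2 lc_e_rc_9_1 lc_e_Cert_tree lc_e_rc_18_1 lc_e_Cert_tree lc_e_Cert_tree lc_e_rc_18_1 lc_e_rc_16_1 lc_e_rc_27_1 lc_e_rc_18_1 lc_e_Cert_tree lc_e_Cert_tree lc_e_Cert_tree lc_e_rc_18_1 lc_e_rc_18_1 lc_e_Cert_tree lc_e_rc_19_4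 lc_e_rc_18_1 lc_e_rc_9_1 lc_e_Cert_tree lc_e_rc_18_1 lc_e_Cert_tree lc_e_rc_27_5 lc_e_rc_19_4 lc_e_Cert_tree lc_e_rc_9_3 lc_e_rc_18_1 lc_e_Cert_tree lc_e_Cert_tree lc_e_rc_18_1 lc_e_rc_27_1 lc_e_Cert_tree lc_e_Cert_tree lc_e_rc_18_1 lc_e_Cert_tree lc_e_rc_18_1 lc_e_Cert_tree lc_e_rc_18_1 lc_e_rc_18_1 lc_e_rc_18_1 lc_e_rc_19_4 lc_e_rc_9_3 lc_e_rc_27_1 lc_e_rc_18_1 lc_e_rc_18_1 lc_e_rc_27_1 lc_e_rc_27_1) (@D3.rec (fun _ => (Cert rels S Gen.e)) lc_e_rc_16_3 lc_e_rc_18_1 lc_e_rc_9_3 lc_e_rc_16_5 lc_e_rc_13_3 lc_e_rc_18_1 lc_e_rc_9_3 lc_e_rc_18_1 lc_e_rc_27_5 lc_e_rc_9_1 lc_e_rc_13_1 lc_e_rc_16_5 lc_e_rc_27_5 lc_e_rc_18_1 lc_e_Cert_tree lc_e_Cert_tree lc_e_rc_27_5 lc_e_rc_4_3 lc_e_rc_13_3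 lc_e_rc_27_5 lc_e_rc_9_1 lc_e_Cert_tree lc_e_rc_18_1 lc_e_rc_9_3 lc_e_rc_13_3 lc_e_rc_19_4 lc_e_rc_9_3 lc_e_Cert_tree lc_e_rc_18_1 lc_e_Cert_tree lc_e_rc_18_1 lc_e_Cert_tree lc_e_rc_18_1 lc_e_rc_16_1 lc_e_rc_16_3 lc_e_Cert_tree lc_e_rc_9_3 lc_e_rc_18_1 lc_e_rc_13_3 lc_e_Cert_tree lc_e_Cert_tree lc_e_rc_18_1 lc_e_Cert_tree lc_e_rc_18_1 lc_e_Cert_tree lc_e_rc_18_1 lc_e_Cert_tree lc_e_rc_16_5 lc_e_rc_18_1 lc_e_Cert_tree lc_e_rc_18_1 lc_e_rc_19_4 lc_e_rc_16_3 lc_e_Cert_tree lc_e_rc_18_1 lc_e_rc_18_1 lc_e_rc_18_1 lc_e_rc_18_1 lc_e_Cert_tree lc_e_rc_9_3 lc_e_Cert_tree lc_e_rc_9_3) (@D3.rec (fun _ => (Cert rels S Gen.e)) lc_e_Cert_tree lc_e_rc_27_7 lc_e_rc_13_3 lc_e_rc_18_1 lc_e_Cert_tree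 lc_e_rc_18_1 lc_e_rc_9_3 lc_e_Cert_tree lc_e_Cert_tree lc_e_rc_18_1 lc_e_rc_27_7 lc_e_Cert_tree lc_e_rc_18_1 lc_e_Cert_tree lc_e_Cert_tree lc_e_Cert_tree lc_e_rc_18_1 lc_e_Cert_tree lc_e_rc_18_1 lc_e_rc_13_3 lc_e_Cert_tree lc_e_Cert_tree lc_e_Cert_tree lc_e_Cert_tree lc_e_rc_18_1 lc_e_rc_9_1 lc_e_rc_16_5 lc_e_rc_19_4 lc_e_rc_4_1 lc_e_rc_27_5 lc_e_rc_18_1 lc_e_Cert_tree lc_e_rc_18_1 lc_e_Cert_tree lc_e_Cert_tree lc_e_rc_18_1 lc_e_rc_18_1 lc_e_Cert_tree lc_e_Cert_tree lc_e_Cert_tree lc_e_rc_18_1 lc_e_rc_27_7 lc_e_rc_18_1 lc_e_rc_19_4 lc_e_rc_18_1 lc_e_Cert_tree lc_e_Cert_tree lc_e_rc_18_1 lc_e_rc_27_5 lc_e_rc_19_4 lc_e_Cert_tree lc_e_Cert_tree lc_e_rc_18_1 lc_e_Cert_tree lc_e_rc_18_1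 lc_e_Cert_tree lc_e_rc_13_3 lc_e_rc_4_3 lc_e_Cert_tree lc_e_Cert_tree lc_e_Cert_tree lc_e_Cert_tree) (@D3.rec (fun _ => (Cert rels S Gen.e)) lc_e_Cert_tree lc_e_rc_18_1 lc_e_Cert_tree lc_e_rc_18_1 lc_e_Cert_tree lc_e_rc_18_1 lc_e_rc_18_1 lc_e_Cert_tree lc_e_rc_18_1 lc_e_rc_16_3 lc_e_rc_19_4 lc_e_rc_13_3 lc_e_Cert_tree lc_e_Cert_tree lc_e_Cert_tree lc_e_rc_18_1 lc_e_rc_27_5 lc_e_Cert_tree lc_e_rc_27_5 lc_e_rc_18_1 lc_e_Cert_tree lc_e_rc_18_1 lc_e_rc_27_5 lc_e_Cert_tree lc_e_rc_27_5 lc_e_rc_9_3 lc_e_rc_27_1 lc_e_Cert_tree lc_e_Cert_tree lc_e_Cert_tree lc_e_Cert_tree lc_e_rc_18_1 lc_e_rc_16_5 lc_e_rc_13_3 lc_e_rc_13_3 lc_e_rc_9_3 lc_e_rc_9_3 lc_e_rc_4_3 lc_e_Cert_tree lc_e_rc_18_1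 lc_e_rc_18_1 lc_e_rc_27_1 lc_e_Cert_tree lc_e_rc_13_1 lc_e_rc_16_3 lc_e_rc_13_3 lc_e_rc_13_3 lc_e_rc_18_1 lc_e_rc_18_1 lc_e_rc_18_1 lc_e_rc_19_4 lc_e_rc_4_3 lc_e_rc_18_1 lc_e_Cert_tree lc_e_rc_18_1 lc_e_rc_19_2 lc_e_rc_13_3 lc_e_rc_16_3 lc_e_rc_18_1 lc_e_rc_9_3 lc_e_rc_18_1 lc_e_rc_27_7) (@D3.rec (fun _ => (Cert rels S Gen.e)) lc_e_rc_4_3 lc_e_Cert_tree lc_e_rc_18_1 lc_e_Cert_tree lc_e_rc_18_1 lc_e_Cert_tree lc_e_rc_18_1 lc_e_rc_18_1 lc_e_rc_9_3 lc_e_Cert_tree lc_e_rc_18_1 lc_e_Cert_tree lc_e_Cert_tree lc_e_rc_18_1 lc_e_rc_18_1 lc_e_Cert_tree lc_e_rc_19_4 lc_e_Cert_tree lc_e_Cert_tree lc_e_rc_18_1 lc_e_rc_18_1 lc_e_rc_19_4 lc_e_Cert_tree lc_e_rc_19_4 lc_e_rc_18_1 lc_e_Cert_tree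 lc_e_Cert_tree lc_e_rc_18_1 lc_e_Cert_tree lc_e_Cert_tree lc_e_rc_4_3 lc_e_rc_4_3 lc_e_Cert_tree lc_e_Cert_tree lc_e_Cert_tree lc_e_Cert_tree lc_e_rc_18_1 lc_e_Cert_tree lc_e_rc_18_1 lc_e_Cert_tree lc_e_rc_18_1 lc_e_rc_4_3 lc_e_rc_18_1 lc_e_rc_18_1 lc_e_rc_9_3 lc_e_Cert_tree lc_e_rc_18_1 lc_e_rc_16_5 lc_e_rc_18_1 lc_e_rc_13_3 lc_e_rc_13_3 lc_e_rc_18_1 lc_e_rc_9_3 lc_e_Cert_tree lc_e_Cert_tree lc_e_rc_18_1 lc_e_Cert_tree lc_e_Cert_tree lc_e_rc_18_1 lc_e_rc_4_1 lc_e_rc_19_4 lc_e_rc_9_1) (@D3.rec (fun _ => (Cert rels S Gen.e)) lc_e_Cert_tree lc_e_rc_18_1 lc_e_Cert_tree lc_e_rc_27_5 lc_e_rc_19_4 lc_e_Cert_tree lc_e_Cert_tree lc_e_rc_18_1 lc_e_Cert_tree lc_e_rc_16_3 lc_e_rc_18_1 lc_e_Cert_tree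 lc_e_rc_13_3 lc_e_rc_4_3 lc_e_rc_4_3 lc_e_Cert_tree lc_e_Cert_tree lc_e_Cert_tree lc_e_Cert_tree lc_e_rc_18_1 lc_e_Cert_tree lc_e_rc_18_1 lc_e_Cert_tree lc_e_rc_18_1 lc_e_Cert_tree lc_e_rc_18_1 lc_e_rc_13_3 lc_e_Cert_tree lc_e_Cert_tree lc_e_rc_18_1 lc_e_Cert_tree lc_e_rc_19_4 lc_e_Cert_tree lc_e_Cert_tree lc_e_rc_18_1 lc_e_rc_16_5 lc_e_rc_19_4 lc_e_rc_18_1 lc_e_Cert_tree lc_e_Cert_tree lc_e_rc_18_1 lc_e_Cert_tree lc_e_rc_9_3 lc_e_Cert_tree lc_e_Cert_tree lc_e_rc_18_1 lc_e_Cert_tree lc_e_rc_19_4 lc_e_Cert_tree lc_e_Cert_tree lc_e_rc_18_1 lc_e_Cert_tree lc_e_rc_9_3 lc_e_rc_18_1 lc_e_Cert_tree lc_e_Cert_tree lc_e_rc_4_3 lc_e_Cert_tree lc_e_rc_16_5 lc_e_Cert_tree lc_e_Cert_tree lc_e_rc_18_1)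 (@D3.rec (fun _ => (Cert rels S Gen.e)) lc_e_rc_18_1 lc_e_rc_13_3 lc_e_Cert_tree lc_e_Cert_tree lc_e_rc_18_1 lc_e_rc_27_5 lc_e_Cert_tree lc_e_rc_19_4 lc_e_rc_18_1 lc_e_Cert_tree lc_e_rc_18_1 lc_e_rc_18_1 lc_e_Cert_tree lc_e_rc_18_1 lc_e_rc_27_5 lc_e_Cert_tree lc_e_rc_19_4 lc_e_Cert_tree lc_e_rc_16_3 lc_e_rc_18_1 lc_e_rc_18_1 lc_e_rc_16_5 lc_e_rc_16_1 lc_e_rc_27_5 lc_e_rc_16_3 lc_e_rc_18_1 lc_e_rc_9_1 lc_e_rc_16_3 lc_e_rc_18_1 lc_e_Cert_tree lc_e_rc_4_3 lc_e_rc_18_1 lc_e_Cert_tree lc_e_Cert_tree lc_e_Cert_tree lc_e_Cert_tree lc_e_rc_18_1 lc_e_Cert_tree lc_e_Cert_tree lc_e_rc_18_1 lc_e_rc_27_5 lc_e_Cert_tree lc_e_rc_16_1 lc_e_rc_19_4 lc_e_rc_13_3 lc_e_Cert_tree lc_e_Cert_tree lc_e_rc_18_1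 lc_e_Cert_tree lc_e_rc_13_3 lc_e_rc_19_4 lc_e_Cert_tree lc_e_rc_9_3 lc_e_Cert_tree lc_e_rc_18_1 lc_e_Cert_tree lc_e_rc_18_1 lc_e_Cert_tree lc_e_rc_18_1 lc_e_rc_18_1 lc_e_rc_18_1 lc_e_Cert_tree) (@D3.rec (fun _ => (Cert rels S Gen.e)) lc_e_Cert_tree lc_e_rc_18_1 lc_e_Cert_tree lc_e_rc_9_3 lc_e_rc_19_4 lc_e_Cert_tree lc_e_rc_18_1 lc_e_Cert_tree lc_e_rc_18_1 lc_e_Cert_tree lc_e_rc_16_5 lc_e_rc_16_1 lc_e_rc_19_4 lc_e_rc_13_3 lc_e_Cert_tree lc_e_Cert_tree lc_e_Cert_tree lc_e_Cert_tree lc_e_rc_18_1 lc_e_rc_18_1 lc_e_Cert_tree lc_e_rc_18_1 lc_e_rc_16_1 lc_e_rc_19_4 lc_e_rc_13_3 lc_e_rc_13_3 lc_e_rc_9_3 lc_e_rc_27_1 lc_e_rc_13_3 lc_e_rc_19_4 lc_e_rc_9_3 lc_e_Cert_tree lc_e_Cert_tree lc_e_Cert_tree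 lc_e_rc_18_1 lc_e_rc_18_1 lc_e_rc_18_1 lc_e_rc_4_3 lc_e_rc_18_1 lc_e_rc_9_3 lc_e_Cert_tree lc_e_rc_19_2 lc_e_Cert_tree lc_e_Cert_tree lc_e_rc_18_1 lc_e_rc_18_1 lc_e_rc_16_3 lc_e_rc_18_1 lc_e_rc_18_1 lc_e_Cert_tree lc_e_rc_16_1 lc_e_rc_19_4 lc_e_rc_18_1 lc_e_rc_13_3 lc_e_rc_16_3 lc_e_Cert_tree lc_e_rc_18_1 lc_e_rc_13_3 lc_e_rc_18_1 lc_e_Cert_tree lc_e_rc_9_3 lc_e_rc_18_1) (@D3.rec (fun _ => (Cert rels S Gen.e)) lc_e_Cert_tree lc_e_rc_27_5 lc_e_rc_9_1 lc_e_rc_4_1 lc_e_rc_18_1 lc_e_Cert_tree lc_e_Cert_tree lc_e_Cert_tree lc_e_rc_18_1 lc_e_rc_18_1 lc_e_Cert_tree lc_e_rc_13_1 lc_e_rc_16_1 lc_e_rc_13_3 lc_e_Cert_tree lc_e_rc_18_1 lc_e_rc_18_1 lc_e_Cert_tree lc_e_rc_13_3 lc_e_rc_9_3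 lc_e_Cert_tree lc_e_rc_4_3 lc_e_Cert_tree lc_e_Cert_tree lc_e_Cert_tree lc_e_rc_18_1 lc_e_rc_18_1 lc_e_rc_16_3 lc_e_rc_16_3 lc_e_rc_18_1 lc_e_rc_16_1 lc_e_rc_19_4 lc_e_rc_16_5 lc_e_Cert_tree lc_e_Cert_tree lc_e_Cert_tree lc_e_rc_18_1 lc_e_rc_18_1 lc_e_rc_16_1 lc_e_rc_19_4 lc_e_rc_16_5 lc_e_Cert_tree lc_e_Cert_tree lc_e_Cert_tree lc_e_rc_18_1 lc_e_rc_9_3 lc_e_Cert_tree lc_e_Cert_tree lc_e_Cert_tree lc_e_rc_16_5 lc_e_rc_13_1 lc_e_rc_18_1 lc_e_Cert_tree lc_e_rc_18_1 lc_e_Cert_tree lc_e_rc_18_1 lc_e_Cert_tree lc_e_rc_18_1 lc_e_Cert_tree lc_e_rc_18_1 lc_e_rc_18_1 lc_e_rc_18_1) (@D3.rec (fun _ => (Cert rels S Gen.e)) lc_e_Cert_tree lc_e_rc_18_1 lc_e_Cert_tree lc_e_Cert_tree lc_e_rc_16_3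 lc_e_Cert_tree lc_e_rc_27_5 lc_e_rc_18_1 lc_e_Cert_tree lc_e_Cert_tree lc_e_rc_27_5 lc_e_rc_18_1 lc_e_rc_19_2 lc_e_rc_18_1 lc_e_Cert_tree lc_e_Cert_tree lc_e_Cert_tree lc_e_rc_18_1 lc_e_rc_27_5 lc_e_Cert_tree lc_e_rc_19_2 lc_e_Cert_tree lc_e_rc_18_1 lc_e_Cert_tree lc_e_rc_18_1 lc_e_Cert_tree lc_e_rc_18_1 lc_e_rc_27_5 lc_e_rc_16_1 lc_e_rc_19_4 lc_e_Cert_tree lc_e_Cert_tree lc_e_rc_18_1 lc_e_Cert_tree lc_e_rc_4_1 lc_e_Cert_tree lc_e_Cert_tree lc_e_rc_18_1 lc_e_rc_4_3 lc_e_rc_19_4 lc_e_Cert_tree lc_e_Cert_tree lc_e_rc_18_1 lc_e_Cert_tree lc_e_Cert_tree lc_e_rc_18_1 lc_e_Cert_tree lc_e_rc_18_1 lc_e_rc_4_1 lc_e_Cert_tree lc_e_rc_18_1 lc_e_Cert_tree lc_e_Cert_tree lc_e_rc_18_1 lc_e_rc_27_5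 lc_e_Cert_tree lc_e_rc_16_1 lc_e_rc_19_4 lc_e_rc_9_3 lc_e_rc_13_3 lc_e_Cert_tree lc_e_rc_18_1) (@D3.rec (fun _ => (Cert rels S Gen.e)) lc_e_rc_18_1 lc_e_Cert_tree lc_e_rc_4_1 lc_e_rc_18_1 lc_e_rc_4_3 lc_e_rc_13_3 lc_e_rc_16_3 lc_e_rc_13_3 lc_e_rc_13_3 lc_e_rc_18_1 lc_e_rc_13_3 lc_e_rc_18_1 lc_e_Cert_tree lc_e_Cert_tree lc_e_rc_18_1 lc_e_rc_9_1 lc_e_rc_13_1 lc_e_rc_18_1 lc_e_Cert_tree lc_e_rc_27_5 lc_e_rc_18_1 lc_e_Cert_tree lc_e_Cert_tree lc_e_rc_18_1 lc_e_rc_4_1 lc_e_rc_9_1 lc_e_rc_18_1 lc_e_rc_27_5 lc_e_Cert_tree lc_e_Cert_tree lc_e_Cert_tree lc_e_rc_18_1 lc_e_rc_13_3 lc_e_rc_16_1 lc_e_rc_9_3 lc_e_rc_4_3 lc_e_rc_18_1 lc_e_rc_27_5 lc_e_rc_13_3 lc_e_rc_27_5 lc_e_rc_9_3 lc_e_rc_16_5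 lc_e_rc_19_4 lc_e_rc_13_3 lc_e_rc_27_5 lc_e_rc_9_3 lc_e_rc_18_1 lc_e_rc_16_3 lc_e_rc_19_4 lc_e_rc_9_3 lc_e_rc_16_3 lc_e_rc_18_1 lc_e_Cert_tree lc_e_rc_27_1 lc_e_rc_4_3 lc_e_Cert_tree lc_e_Cert_tree lc_e_rc_18_1 lc_e_rc_18_1 lc_e_rc_18_1 lc_e_rc_19_4 lc_e_Cert_tree) (@D3.rec (fun _ => (Cert rels S Gen.e)) lc_e_rc_18_1 lc_e_rc_13_1 lc_e_Cert_tree lc_e_rc_16_5 lc_e_rc_18_1 lc_e_Cert_tree lc_e_rc_18_1 lc_e_Cert_tree lc_e_Cert_tree lc_e_rc_18_1 lc_e_Cert_tree lc_e_Cert_tree lc_e_rc_16_1 lc_e_rc_19_4 lc_e_rc_18_1 lc_e_Cert_tree lc_e_rc_27_1 lc_e_rc_18_1 lc_e_Cert_tree lc_e_rc_18_1 lc_e_rc_13_3 lc_e_Cert_tree lc_e_rc_18_1 lc_e_rc_9_3 lc_e_rc_13_3 lc_e_rc_16_3 lc_e_rc_13_3 lc_e_rc_9_3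 lc_e_rc_13_3 lc_e_rc_9_3 lc_e_Cert_tree lc_e_Cert_tree lc_e_Cert_tree lc_e_rc_18_1 lc_e_rc_18_1 lc_e_rc_19_4 lc_e_rc_9_3 lc_e_Cert_tree lc_e_rc_18_1 lc_e_rc_27_1 lc_e_Cert_tree lc_e_rc_13_3 lc_e_Cert_tree lc_e_rc_19_2 lc_e_rc_16_3 lc_e_Cert_tree lc_e_rc_18_1 lc_e_Cert_tree lc_e_rc_27_5 lc_e_rc_16_1 lc_e_rc_19_4 lc_e_Cert_tree lc_e_rc_18_1 lc_e_rc_9_3 lc_e_rc_18_1 lc_e_rc_13_3 lc_e_Cert_tree lc_e_rc_18_1 lc_e_rc_13_3 lc_e_Cert_tree lc_e_rc_16_5 lc_e_rc_18_1) (@D3.rec (fun _ => (Cert rels S Gen.e)) lc_e_rc_9_3 lc_e_rc_27_5 lc_e_rc_4_3 lc_e_rc_27_5 lc_e_rc_13_3 lc_e_Cert_tree lc_e_rc_18_1 lc_e_rc_4_3 lc_e_rc_27_5 lc_e_rc_4_1 lc_e_rc_18_1 lc_e_rc_4_3 lc_e_rc_19_0 lc_e_rc_27_5 lc_e_rc_9_1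 lc_e_Cert_tree lc_e_rc_9_3 lc_e_Cert_tree lc_e_Cert_tree lc_e_rc_18_1 lc_e_rc_18_1 lc_e_Cert_tree lc_e_rc_13_1 lc_e_rc_18_1 lc_e_rc_19_4 lc_e_rc_27_1 lc_e_rc_19_2 lc_e_rc_13_3 lc_e_rc_27_7 lc_e_Cert_tree lc_e_Cert_tree lc_e_rc_18_1 lc_e_rc_18_1 lc_e_Cert_tree lc_e_rc_18_1 lc_e_rc_27_1 lc_e_rc_16_5 lc_e_rc_27_5 lc_e_rc_18_1 lc_e_rc_27_1 lc_e_rc_27_5 lc_e_Cert_tree lc_e_rc_18_1 lc_e_rc_18_1 lc_e_rc_18_1 lc_e_rc_27_1 lc_e_Cert_tree lc_e_rc_13_3 lc_e_Cert_tree lc_e_rc_16_3 lc_e_rc_18_1 lc_e_rc_9_1 lc_e_rc_27_5 lc_e_rc_18_1 lc_e_rc_18_1 lc_e_rc_4_3 lc_e_rc_19_2 lc_e_Cert_tree lc_e_rc_18_1 lc_e_rc_18_1 lc_e_rc_18_1 lc_e_Cert_tree) (@D3.rec (fun _ => (Cert rels S Gen.e)) lc_e_Cert_tree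 lc_e_rc_18_1 lc_e_Cert_tree lc_e_rc_9_1 lc_e_Cert_tree lc_e_rc_18_1 lc_e_rc_27_5 lc_e_Cert_tree lc_e_rc_4_1 lc_e_rc_18_1 lc_e_Cert_tree lc_e_Cert_tree lc_e_rc_18_1 lc_e_Cert_tree lc_e_rc_9_3 lc_e_rc_19_4 lc_e_rc_27_7 lc_e_rc_18_1 lc_e_rc_9_1 lc_e_Cert_tree lc_e_rc_18_1 lc_e_rc_19_4 lc_e_rc_19_4 lc_e_Cert_tree lc_e_rc_27_7 lc_e_rc_18_1 lc_e_Cert_tree lc_e_Cert_tree lc_e_rc_18_1 lc_e_rc_18_1 lc_e_rc_13_3 lc_e_rc_13_3 lc_e_Cert_tree lc_e_Cert_tree lc_e_Cert_tree lc_e_rc_18_1 lc_e_rc_13_3 lc_e_Cert_tree lc_e_rc_9_3 lc_e_rc_13_3 lc_e_Cert_tree lc_e_Cert_tree lc_e_Cert_tree lc_e_rc_18_1 lc_e_rc_18_1 lc_e_Cert_tree lc_e_Cert_tree lc_e_Cert_tree lc_e_rc_18_1 lc_e_rc_18_1 lc_e_rc_18_1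 lc_e_rc_18_1 lc_e_rc_4_1 lc_e_rc_18_1 lc_e_rc_18_1 lc_e_rc_13_3 lc_e_rc_18_1 lc_e_rc_9_3 lc_e_rc_13_1 lc_e_rc_18_1 lc_e_rc_18_1 lc_e_rc_16_3) (@D3.rec (fun _ => (Cert rels S Gen.e)) lc_e_rc_9_3 lc_e_rc_9_3 lc_e_rc_18_1 lc_e_Cert_tree lc_e_rc_18_1 lc_e_rc_18_1 lc_e_rc_18_1 lc_e_Cert_tree lc_e_Cert_tree lc_e_rc_18_1 lc_e_rc_19_4 lc_e_rc_19_4 lc_e_rc_18_1 lc_e_rc_18_1 lc_e_Cert_tree lc_e_Cert_tree lc_e_Cert_tree lc_e_rc_18_1 lc_e_rc_18_1 lc_e_rc_9_1 lc_e_rc_27_5 lc_e_rc_18_1 lc_e_rc_18_1 lc_e_rc_19_4 lc_e_Cert_tree lc_e_Cert_tree lc_e_rc_18_1 lc_e_Cert_tree lc_e_rc_9_1 lc_e_rc_18_1 lc_e_rc_4_3 lc_e_rc_16_5 lc_e_rc_13_3 lc_e_rc_9_1 lc_e_rc_27_7 lc_e_Cert_tree lc_e_rc_18_1 lc_e_rc_13_3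 lc_e_rc_16_1 lc_e_rc_13_1 lc_e_rc_19_4 lc_e_rc_19_0 lc_e_rc_9_3 lc_e_rc_9_3 lc_e_rc_16_1 lc_e_rc_18_1 lc_e_rc_9_3 lc_e_Cert_tree lc_e_Cert_tree lc_e_Cert_tree lc_e_rc_4_3 lc_e_rc_19_0 lc_e_rc_4_1 lc_e_rc_9_3 lc_e_Cert_tree lc_e_rc_19_2 lc_e_Cert_tree lc_e_rc_18_1 lc_e_Cert_tree lc_e_Cert_tree lc_e_Cert_tree lc_e_Cert_tree) (@D3.rec (fun _ => (Cert rels S Gen.e)) lc_e_rc_18_1 lc_e_Cert_tree lc_e_Cert_tree lc_e_rc_18_1 lc_e_Cert_tree lc_e_Cert_tree lc_e_Cert_tree lc_e_rc_18_1 lc_e_rc_18_1 lc_e_Cert_tree lc_e_rc_18_1 lc_e_rc_18_1 lc_e_rc_9_3 lc_e_Cert_tree lc_e_rc_18_1 lc_e_Cert_tree lc_e_rc_16_3 lc_e_rc_18_1 lc_e_rc_18_1 lc_e_rc_9_3 lc_e_Cert_tree lc_e_rc_18_1 lc_e_rc_18_1 lc_e_rc_18_1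 lc_e_rc_9_3 lc_e_Cert_tree lc_e_rc_18_1 lc_e_rc_18_1 lc_e_rc_18_1 lc_e_rc_9_3 lc_e_Cert_tree lc_e_rc_18_1 lc_e_Cert_tree lc_e_rc_18_1 lc_e_rc_18_1 lc_e_rc_9_1 lc_e_rc_16_3 lc_e_rc_18_1 lc_e_rc_27_5 lc_e_Cert_tree lc_e_rc_16_3 lc_e_rc_18_1 lc_e_Cert_tree lc_e_rc_18_1 lc_e_Cert_tree lc_e_rc_16_3 lc_e_rc_18_1 lc_e_rc_9_3 lc_e_rc_19_4 lc_e_rc_27_7 lc_e_Cert_tree lc_e_rc_18_1 lc_e_rc_18_1 lc_e_Cert_tree lc_e_rc_16_3 lc_e_rc_19_4 lc_e_rc_18_1 lc_e_Cert_tree lc_e_Cert_tree lc_e_rc_18_1 lc_e_Cert_tree lc_e_rc_18_1) (@D3.rec (fun _ => (Cert rels S Gen.e)) lc_e_rc_16_3 lc_e_rc_19_4 lc_e_Cert_tree lc_e_Cert_tree lc_e_rc_18_1 lc_e_Cert_tree lc_e_Cert_tree lc_e_rc_4_3 lc_e_Cert_tree lc_e_rc_27_5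 lc_e_rc_16_3 lc_e_Cert_tree lc_e_rc_18_1 lc_e_Cert_tree lc_e_rc_18_1 lc_e_Cert_tree lc_e_Cert_tree lc_e_rc_13_3 lc_e_Cert_tree lc_e_rc_18_1 lc_e_rc_27_5 lc_e_Cert_tree lc_e_rc_19_2 lc_e_Cert_tree lc_e_Cert_tree lc_e_rc_18_1 lc_e_rc_18_1 lc_e_rc_18_1 lc_e_rc_19_4 lc_e_Cert_tree lc_e_Cert_tree lc_e_rc_4_3 lc_e_rc_13_3 lc_e_Cert_tree lc_e_rc_18_1 lc_e_rc_18_1 lc_e_Cert_tree lc_e_Cert_tree lc_e_rc_9_3 lc_e_rc_18_1 lc_e_Cert_tree lc_e_rc_16_3 lc_e_rc_19_4 lc_e_rc_27_1 lc_e_rc_18_1 lc_e_Cert_tree lc_e_rc_27_1 lc_e_rc_13_3 lc_e_rc_19_4 lc_e_rc_16_5 lc_e_rc_13_1 lc_e_Cert_tree lc_e_Cert_tree lc_e_rc_18_1 lc_e_rc_18_1 lc_e_Cert_tree lc_e_rc_19_4 lc_e_Cert_tree lc_e_rc_27_5 lc_e_Cert_tree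 lc_e_rc_18_1 lc_e_rc_27_7) (@D3.rec (fun _ => (Cert rels S Gen.e)) lc_e_Cert_tree lc_e_rc_16_3 lc_e_rc_19_4 lc_e_rc_9_3 lc_e_rc_16_3 lc_e_rc_27_5 lc_e_rc_18_1 lc_e_rc_16_3 lc_e_rc_13_3 lc_e_rc_19_4 lc_e_Cert_tree lc_e_rc_27_5 lc_e_rc_16_3 lc_e_rc_19_4 lc_e_rc_18_1 lc_e_rc_18_1 lc_e_Cert_tree lc_e_Cert_tree lc_e_Cert_tree lc_e_Cert_tree lc_e_Cert_tree lc_e_rc_18_1 lc_e_Cert_tree lc_e_Cert_tree lc_e_Cert_tree lc_e_Cert_tree lc_e_rc_18_1 lc_e_Cert_tree lc_e_Cert_tree lc_e_Cert_tree lc_e_rc_18_1 lc_e_rc_18_1 lc_e_Cert_tree lc_e_Cert_tree lc_e_rc_19_2 lc_e_rc_16_3 lc_e_rc_27_5 lc_e_rc_18_1 lc_e_rc_27_5 lc_e_rc_18_1 lc_e_Cert_tree lc_e_Cert_tree lc_e_rc_18_1 lc_e_rc_27_5 lc_e_rc_16_1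 lc_e_rc_4_1 lc_e_Cert_tree lc_e_Cert_tree lc_e_rc_18_1 lc_e_rc_18_1 lc_e_Cert_tree lc_e_rc_19_4 lc_e_Cert_tree lc_e_Cert_tree lc_e_rc_18_1 lc_e_Cert_tree lc_e_Cert_tree lc_e_rc_18_1 lc_e_Cert_tree lc_e_rc_13_3 lc_e_rc_4_3 lc_e_rc_18_1) (@D3.rec (fun _ => (Cert rels S Gen.e)) lc_e_Cert_tree lc_e_Cert_tree lc_e_rc_16_3 lc_e_rc_18_1 lc_e_Cert_tree lc_e_rc_18_1 lc_e_Cert_tree lc_e_rc_18_1 lc_e_rc_9_3 lc_e_Cert_tree lc_e_rc_18_1 lc_e_Cert_tree lc_e_rc_16_3 lc_e_rc_18_1 lc_e_rc_9_1 lc_e_rc_16_3 lc_e_rc_18_1 lc_e_rc_9_1 lc_e_rc_19_4 lc_e_Cert_tree lc_e_Cert_tree lc_e_rc_18_1 lc_e_rc_9_1 lc_e_rc_16_3 lc_e_rc_18_1 lc_e_Cert_tree lc_e_rc_9_3 lc_e_rc_4_3 lc_e_rc_27_7 lc_e_Cert_tree lc_e_Cert_tree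 lc_e_Cert_tree lc_e_rc_18_1 lc_e_rc_18_1 lc_e_rc_18_1 lc_e_rc_13_3 lc_e_Cert_tree lc_e_Cert_tree lc_e_rc_18_1 lc_e_rc_16_5 lc_e_rc_19_4 lc_e_Cert_tree lc_e_Cert_tree lc_e_rc_18_1 lc_e_rc_27_5 lc_e_rc_19_4 lc_e_rc_18_1 lc_e_Cert_tree lc_e_Cert_tree lc_e_rc_9_3 lc_e_rc_18_1 lc_e_rc_18_1 lc_e_rc_19_4 lc_e_Cert_tree lc_e_Cert_tree lc_e_rc_18_1 lc_e_rc_18_1 lc_e_rc_19_4 lc_e_Cert_tree lc_e_rc_27_7 lc_e_rc_18_1 lc_e_Cert_tree) (@D3.rec (fun _ => (Cert rels S Gen.e)) lc_e_Cert_tree lc_e_rc_18_1 lc_e_Cert_tree lc_e_Cert_tree lc_e_rc_4_3 lc_e_Cert_tree lc_e_rc_13_3 lc_e_Cert_tree lc_e_Cert_tree lc_e_rc_18_1 lc_e_rc_18_1 lc_e_rc_27_7 lc_e_Cert_tree lc_e_rc_18_1 lc_e_rc_18_1 lc_e_rc_27_5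 lc_e_rc_16_1 lc_e_Cert_tree lc_e_Cert_tree lc_e_rc_18_1 lc_e_Cert_tree lc_e_Cert_tree lc_e_rc_18_1 lc_e_Cert_tree lc_e_Cert_tree lc_e_rc_18_1 lc_e_Cert_tree lc_e_Cert_tree lc_e_Cert_tree lc_e_Cert_tree lc_e_rc_18_1 lc_e_Cert_tree lc_e_Cert_tree lc_e_rc_18_1 lc_e_rc_18_1 lc_e_Cert_tree lc_e_rc_16_1 lc_e_rc_19_2 lc_e_rc_13_3 lc_e_Cert_tree lc_e_rc_18_1 lc_e_rc_18_1 lc_e_rc_13_3 lc_e_rc_19_4 lc_e_rc_19_4 lc_e_rc_19_4 lc_e_rc_18_1 lc_e_rc_18_1 lc_e_Cert_tree lc_e_Cert_tree lc_e_rc_18_1 lc_e_rc_18_1 lc_e_rc_16_1 lc_e_rc_19_4 lc_e_rc_19_4 lc_e_rc_18_1 lc_e_rc_18_1 lc_e_rc_19_4 lc_e_Cert_tree lc_e_Cert_tree lc_e_Cert_tree lc_e_Cert_tree) (@D3.rec (fun _ => (Cert rels S Gen.e)) lc_e_rc_18_1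 lc_e_rc_18_1 lc_e_rc_19_2 lc_e_rc_18_1 lc_e_rc_16_1 lc_e_rc_19_4 lc_e_Cert_tree lc_e_rc_18_1 lc_e_rc_18_1 lc_e_Cert_tree lc_e_rc_18_1 lc_e_rc_9_3 lc_e_Cert_tree lc_e_rc_19_2 lc_e_Cert_tree lc_e_Cert_tree lc_e_rc_18_1 lc_e_Cert_tree lc_e_Cert_tree lc_e_rc_18_1 lc_e_rc_13_3 lc_e_Cert_tree lc_e_rc_27_1 lc_e_rc_19_4 lc_e_rc_13_3 lc_e_rc_18_1 lc_e_Cert_tree lc_e_rc_16_3 lc_e_rc_18_1 lc_e_rc_13_3 lc_e_Cert_tree lc_e_Cert_tree lc_e_rc_18_1 lc_e_Cert_tree lc_e_rc_27_5 lc_e_rc_19_4 lc_e_rc_27_5 lc_e_Cert_tree lc_e_rc_18_1 lc_e_Cert_tree lc_e_rc_18_1 lc_e_rc_18_1 lc_e_Cert_tree lc_e_rc_27_5 lc_e_rc_16_1 lc_e_rc_19_4 lc_e_Cert_tree lc_e_rc_18_1 lc_e_rc_18_1 lc_e_rc_13_3 lc_e_rc_19_4 lc_e_Cert_tree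 lc_e_rc_27_1 lc_e_Cert_tree lc_e_Cert_tree lc_e_Cert_tree lc_e_rc_18_1 lc_e_Cert_tree lc_e_rc_18_1 lc_e_Cert_tree lc_e_rc_18_1 lc_e_rc_27_5) (@D3.rec (fun _ => (Cert rels S Gen.e)) lc_e_rc_19_4 lc_e_rc_16_3 lc_e_Cert_tree lc_e_Cert_tree lc_e_Cert_tree lc_e_Cert_tree lc_e_rc_18_1 lc_e_rc_18_1 lc_e_rc_18_1 lc_e_rc_19_4 lc_e_rc_19_2 lc_e_rc_9_3 lc_e_rc_4_3 lc_e_rc_9_3 lc_e_rc_16_5 lc_e_rc_27_7 lc_e_rc_16_5 lc_e_Cert_tree lc_e_rc_18_1 lc_e_rc_18_1 lc_e_Cert_tree lc_e_rc_18_1 lc_e_rc_13_3 lc_e_rc_18_1 lc_e_Cert_tree lc_e_rc_18_1 lc_e_Cert_tree lc_e_rc_16_3 lc_e_Cert_tree lc_e_rc_18_1 lc_e_Cert_tree lc_e_Cert_tree lc_e_rc_16_3 lc_e_Cert_tree lc_e_rc_27_5 lc_e_rc_18_1 lc_e_Cert_tree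 lc_e_Cert_tree lc_e_rc_27_5 lc_e_rc_18_1 lc_e_rc_18_1 lc_e_Cert_tree lc_e_Cert_tree lc_e_rc_18_1 lc_e_Cert_tree lc_e_Cert_tree lc_e_rc_18_1 lc_e_rc_27_5 lc_e_rc_27_5 lc_e_rc_19_2 lc_e_Cert_tree lc_e_Cert_tree lc_e_rc_19_0 lc_e_rc_18_1 lc_e_rc_18_1 lc_e_rc_9_3 lc_e_rc_16_1 lc_e_rc_13_3 lc_e_rc_4_3 lc_e_rc_4_3 lc_e_rc_18_1 lc_e_rc_16_5) (@D3.rec (fun _ => (Cert rels S Gen.e)) lc_e_rc_16_3 lc_e_rc_19_2 lc_e_rc_18_1 lc_e_Cert_tree lc_e_rc_18_1 lc_e_Cert_tree lc_e_rc_9_3 lc_e_rc_19_4 lc_e_Cert_tree lc_e_Cert_tree lc_e_Cert_tree lc_e_rc_18_1 lc_e_rc_27_5 lc_e_Cert_tree lc_e_rc_16_1 lc_e_rc_18_1 lc_e_rc_18_1 lc_e_Cert_tree lc_e_Cert_tree lc_e_Cert_tree lc_e_rc_27_5 lc_e_rc_18_1 lc_e_rc_9_1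 lc_e_rc_18_1 lc_e_rc_18_1 lc_e_rc_18_1 lc_e_rc_13_3 lc_e_rc_9_3 lc_e_rc_18_1 lc_e_rc_27_1 lc_e_rc_13_3 lc_e_rc_27_5 lc_e_Cert_tree lc_e_rc_18_1 lc_e_rc_18_1 lc_e_Cert_tree lc_e_Cert_tree lc_e_rc_18_1 lc_e_rc_9_1 lc_e_Cert_tree lc_e_rc_18_1 lc_e_Cert_tree lc_e_rc_27_5 lc_e_Cert_tree lc_e_Cert_tree lc_e_rc_18_1 lc_e_Cert_tree lc_e_Cert_tree lc_e_rc_18_1 lc_e_rc_27_1 lc_e_rc_19_4 lc_e_Cert_tree lc_e_rc_18_1 lc_e_Cert_tree lc_e_rc_18_1 lc_e_rc_4_3 lc_e_rc_19_4 lc_e_rc_4_1 lc_e_rc_16_3 lc_e_rc_18_1 lc_e_Cert_tree lc_e_Cert_tree) (@D3.rec (fun _ => (Cert rels S Gen.e)) lc_e_Cert_tree lc_e_rc_18_1 lc_e_rc_4_1 lc_e_rc_16_1 lc_e_rc_19_4 lc_e_rc_16_5 lc_e_rc_13_3 lc_e_rc_13_3 lc_e_rc_19_0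 lc_e_Cert_tree lc_e_rc_18_1 lc_e_rc_9_3 lc_e_Cert_tree lc_e_rc_13_3 lc_e_rc_18_1 lc_e_rc_18_1 lc_e_rc_18_1 lc_e_rc_19_4 lc_e_Cert_tree lc_e_rc_18_1 lc_e_rc_9_3 lc_e_Cert_tree lc_e_rc_16_1 lc_e_rc_13_3 lc_e_Cert_tree lc_e_rc_18_1 lc_e_rc_16_5 lc_e_rc_18_1 lc_e_Cert_tree lc_e_Cert_tree lc_e_rc_16_1 lc_e_rc_19_4 lc_e_rc_18_1 lc_e_Cert_tree lc_e_rc_27_1 lc_e_rc_18_1 lc_e_Cert_tree lc_e_Cert_tree lc_e_rc_27_5 lc_e_rc_18_1 lc_e_Cert_tree lc_e_rc_18_1 lc_e_rc_9_3 lc_e_rc_16_5 lc_e_rc_18_1 lc_e_rc_13_1 lc_e_rc_13_3 lc_e_rc_9_3 lc_e_rc_13_3 lc_e_rc_9_3 lc_e_rc_13_3 lc_e_Cert_tree lc_e_Cert_tree lc_e_rc_18_1 lc_e_rc_18_1 lc_e_rc_19_4 lc_e_rc_9_3 lc_e_Cert_tree lc_e_rc_18_1 lc_e_rc_27_7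 lc_e_Cert_tree lc_e_rc_13_3) (@D3.rec (fun _ => (Cert rels S Gen.e)) lc_e_rc_27_5 lc_e_Cert_tree lc_e_rc_18_1 lc_e_Cert_tree lc_e_rc_27_5 lc_e_rc_16_1 lc_e_rc_19_4 lc_e_Cert_tree lc_e_rc_27_1 lc_e_rc_18_1 lc_e_rc_18_1 lc_e_rc_13_3 lc_e_Cert_tree lc_e_Cert_tree lc_e_rc_18_1 lc_e_rc_18_1 lc_e_rc_13_3 lc_e_Cert_tree lc_e_rc_16_5 lc_e_rc_18_1 lc_e_rc_16_1 lc_e_rc_16_5 lc_e_Cert_tree lc_e_rc_9_3 lc_e_rc_16_5 lc_e_Cert_tree lc_e_rc_13_1 lc_e_rc_18_1 lc_e_rc_13_3 lc_e_rc_27_1 lc_e_rc_16_5 lc_e_rc_13_3 lc_e_rc_4_3 lc_e_rc_16_5 lc_e_rc_27_7 lc_e_rc_9_1 lc_e_Cert_tree lc_e_rc_13_1 lc_e_rc_16_5 lc_e_Cert_tree lc_e_rc_18_1 lc_e_rc_16_1 lc_e_rc_19_2 lc_e_rc_27_5 lc_e_rc_27_1 lc_e_rc_16_5 lc_e_rc_13_3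 lc_e_rc_4_3 lc_e_rc_16_5 lc_e_Cert_tree lc_e_rc_18_1 lc_e_rc_18_1 lc_e_rc_9_1 lc_e_rc_18_1 lc_e_rc_18_1 lc_e_rc_18_1 lc_e_Cert_tree lc_e_Cert_tree lc_e_rc_18_1 lc_e_Cert_tree lc_e_rc_9_1 lc_e_rc_18_1) (@D3.rec (fun _ => (Cert rels S Gen.e)) lc_e_rc_27_5 lc_e_Cert_tree lc_e_rc_19_4 lc_e_rc_18_1 lc_e_Cert_tree lc_e_Cert_tree lc_e_rc_18_1 lc_e_rc_16_5 lc_e_rc_19_4 lc_e_rc_9_1 lc_e_Cert_tree lc_e_rc_18_1 lc_e_rc_4_3 lc_e_rc_19_4 lc_e_Cert_tree lc_e_rc_4_3 lc_e_rc_18_1 lc_e_rc_18_1 lc_e_rc_19_4 lc_e_rc_9_1 lc_e_Cert_tree lc_e_Cert_tree lc_e_rc_18_1 lc_e_rc_13_3 lc_e_Cert_tree lc_e_rc_9_3 lc_e_rc_18_1 lc_e_rc_18_1 lc_e_Cert_tree lc_e_Cert_tree lc_e_Cert_tree lc_e_rc_27_5 lc_e_rc_18_1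 lc_e_rc_27_1 lc_e_Cert_tree lc_e_rc_18_1 lc_e_rc_16_1 lc_e_rc_13_3 lc_e_rc_18_1 lc_e_Cert_tree lc_e_Cert_tree lc_e_rc_18_1 lc_e_rc_27_5 lc_e_rc_19_4 lc_e_rc_18_1 lc_e_Cert_tree lc_e_rc_27_5 lc_e_Cert_tree lc_e_Cert_tree lc_e_Cert_tree lc_e_rc_18_1 lc_e_rc_16_3 lc_e_rc_19_4 lc_e_Cert_tree lc_e_rc_19_4 lc_e_rc_18_1 lc_e_rc_18_1 lc_e_rc_27_1 lc_e_rc_13_3 lc_e_rc_27_5 lc_e_rc_9_3 lc_e_rc_13_1) (@D3.rec (fun _ => (Cert rels S Gen.e)) lc_e_Cert_tree lc_e_Cert_tree lc_e_rc_18_1 lc_e_rc_18_1 lc_e_rc_13_1 lc_e_Cert_tree lc_e_rc_18_1 lc_e_rc_19_4 lc_e_Cert_tree lc_e_rc_18_1 lc_e_rc_18_1 lc_e_Cert_tree lc_e_Cert_tree lc_e_rc_18_1 lc_e_rc_18_1 lc_e_Cert_tree lc_e_Cert_tree lc_e_rc_18_1 lc_e_rc_27_7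 lc_e_rc_19_4 lc_e_rc_9_1 lc_e_Cert_tree lc_e_rc_18_1 lc_e_Cert_tree lc_e_rc_27_7 lc_e_rc_18_1 lc_e_Cert_tree lc_e_rc_18_1 lc_e_rc_13_1 lc_e_rc_16_1 lc_e_rc_19_0 lc_e_rc_19_2 lc_e_rc_18_1 lc_e_rc_16_3 lc_e_rc_13_3 lc_e_rc_19_4 lc_e_Cert_tree lc_e_rc_18_1 lc_e_rc_27_5 lc_e_rc_18_1 lc_e_rc_9_3 lc_e_rc_9_3 lc_e_rc_13_3 lc_e_rc_16_5 lc_e_rc_18_1 lc_e_rc_27_5 lc_e_Cert_tree lc_e_rc_19_2 lc_e_rc_19_4 lc_e_rc_18_1 lc_e_rc_18_1 lc_e_rc_18_1 lc_e_rc_19_4 lc_e_Cert_tree lc_e_rc_18_1 lc_e_rc_13_1 lc_e_Cert_tree lc_e_rc_27_7 lc_e_rc_4_3 lc_e_Cert_tree lc_e_rc_16_5 lc_e_rc_18_1) (@D3.rec (fun _ => (Cert rels S Gen.e)) lc_e_rc_18_1 lc_e_rc_18_1 lc_e_rc_9_1 lc_e_rc_18_1 lc_e_rc_18_1 lc_e_Cert_tree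 lc_e_rc_19_4 lc_e_Cert_tree lc_e_rc_18_1 lc_e_rc_18_1 lc_e_Cert_tree lc_e_rc_18_1 lc_e_rc_18_1 lc_e_rc_4_1 lc_e_rc_16_3 lc_e_rc_19_2 lc_e_Cert_tree lc_e_Cert_tree lc_e_Cert_tree lc_e_Cert_tree lc_e_Cert_tree lc_e_rc_18_1 lc_e_Cert_tree lc_e_Cert_tree lc_e_rc_18_1 lc_e_Cert_tree lc_e_rc_18_1 lc_e_Cert_tree lc_e_Cert_tree lc_e_Cert_tree lc_e_rc_18_1 lc_e_rc_18_1 lc_e_rc_18_1 lc_e_rc_9_3 lc_e_Cert_tree lc_e_rc_18_1 lc_e_Cert_tree lc_e_Cert_tree lc_e_rc_18_1 lc_e_Cert_tree lc_e_rc_18_1 lc_e_Cert_tree lc_e_Cert_tree lc_e_rc_4_3 lc_e_Cert_tree lc_e_Cert_tree lc_e_rc_18_1 lc_e_rc_18_1 lc_e_rc_19_4 lc_e_rc_18_1 lc_e_Cert_tree lc_e_rc_27_1 lc_e_rc_19_4 lc_e_rc_18_1 lc_e_rc_18_1 lc_e_rc_13_3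 lc_e_rc_9_1 lc_e_rc_18_1 lc_e_Cert_tree lc_e_Cert_tree lc_e_rc_16_5 lc_e_Cert_tree) (@D3.rec (fun _ => (Cert rels S Gen.e)) lc_e_rc_13_1 lc_e_rc_18_1 lc_e_Cert_tree lc_e_rc_18_1 lc_e_rc_18_1 lc_e_rc_18_1 lc_e_rc_18_1 lc_e_Cert_tree lc_e_rc_27_1 lc_e_Cert_tree lc_e_rc_18_1 lc_e_rc_9_3 lc_e_rc_18_1 lc_e_Cert_tree lc_e_rc_19_4 lc_e_Cert_tree lc_e_rc_18_1 lc_e_rc_19_4 lc_e_Cert_tree lc_e_rc_13_3 lc_e_rc_4_3 lc_e_rc_16_3 lc_e_Cert_tree lc_e_rc_18_1 lc_e_rc_18_1 lc_e_Cert_tree lc_e_rc_9_3 lc_e_Cert_tree lc_e_Cert_tree lc_e_rc_18_1 lc_e_rc_18_1 lc_e_rc_9_3 lc_e_Cert_tree lc_e_rc_18_1 lc_e_Cert_tree lc_e_rc_19_4 lc_e_Cert_tree lc_e_rc_9_3 lc_e_rc_4_3 lc_e_Cert_tree lc_e_Cert_tree lc_e_rc_18_1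 lc_e_rc_18_1 lc_e_rc_18_1 lc_e_Cert_tree lc_e_rc_9_3 lc_e_Cert_tree lc_e_Cert_tree lc_e_rc_18_1 lc_e_rc_13_1 lc_e_rc_9_3 lc_e_Cert_tree lc_e_rc_18_1 lc_e_rc_9_1 lc_e_Cert_tree lc_e_rc_18_1 lc_e_Cert_tree lc_e_rc_16_1 lc_e_rc_19_4 lc_e_rc_13_1 lc_e_rc_16_3 lc_e_rc_18_1) (@D3.rec (fun _ => (Cert rels S Gen.e)) lc_e_Cert_tree lc_e_rc_18_1 lc_e_Cert_tree lc_e_Cert_tree lc_e_rc_18_1 lc_e_Cert_tree lc_e_Cert_tree lc_e_rc_4_1 lc_e_Cert_tree lc_e_rc_18_1 lc_e_Cert_tree lc_e_rc_18_1 lc_e_rc_18_1 lc_e_Cert_tree lc_e_Cert_tree lc_e_Cert_tree lc_e_rc_18_1 lc_e_rc_18_1 lc_e_rc_16_1 lc_e_rc_19_4 lc_e_Cert_tree lc_e_Cert_tree lc_e_rc_18_1 lc_e_Cert_tree lc_e_rc_19_4 lc_e_rc_13_3 lc_e_Cert_tree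 lc_e_rc_4_3 lc_e_Cert_tree lc_e_Cert_tree lc_e_Cert_tree lc_e_rc_18_1 lc_e_rc_18_1 lc_e_rc_9_1 lc_e_rc_18_1 lc_e_Cert_tree lc_e_Cert_tree lc_e_rc_18_1 lc_e_Cert_tree lc_e_rc_13_3 lc_e_Cert_tree lc_e_Cert_tree lc_e_rc_18_1 lc_e_rc_18_1 lc_e_Cert_tree lc_e_rc_27_5 lc_e_rc_19_4 lc_e_rc_13_1 lc_e_Cert_tree lc_e_Cert_tree lc_e_rc_27_5 lc_e_rc_18_1 lc_e_rc_18_1 lc_e_Cert_tree lc_e_Cert_tree lc_e_rc_18_1 lc_e_rc_19_4 lc_e_Cert_tree lc_e_Cert_tree lc_e_Cert_tree lc_e_Cert_tree lc_e_rc_18_1) (@D3.rec (fun _ => (Cert rels S Gen.e)) lc_e_rc_18_1 lc_e_Cert_tree lc_e_rc_16_1 lc_e_rc_19_4 lc_e_Cert_tree lc_e_rc_16_3 lc_e_rc_18_1 lc_e_rc_18_1 lc_e_Cert_tree lc_e_rc_13_3 lc_e_Cert_tree lc_e_Cert_tree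 lc_e_rc_18_1 lc_e_rc_18_1 lc_e_rc_18_1 lc_e_Cert_tree lc_e_rc_16_1 lc_e_rc_19_4 lc_e_rc_13_1 lc_e_Cert_tree lc_e_Cert_tree lc_e_rc_27_5 lc_e_rc_18_1 lc_e_rc_19_0 lc_e_rc_13_3 lc_e_rc_19_4 lc_e_rc_27_5 lc_e_Cert_tree lc_e_rc_18_1 lc_e_rc_19_4 lc_e_rc_27_7 lc_e_Cert_tree lc_e_rc_13_3 lc_e_Cert_tree lc_e_rc_18_1 lc_e_rc_18_1 lc_e_Cert_tree lc_e_rc_13_3 lc_e_rc_16_1 lc_e_rc_19_4 lc_e_Cert_tree lc_e_rc_16_3 lc_e_rc_18_1 lc_e_rc_13_1 lc_e_rc_27_5 lc_e_Cert_tree lc_e_rc_19_2 lc_e_rc_16_5 lc_e_Cert_tree lc_e_rc_18_1 lc_e_rc_18_1 lc_e_rc_16_1 lc_e_rc_19_4 lc_e_rc_27_5 lc_e_Cert_tree lc_e_Cert_tree lc_e_Cert_tree lc_e_Cert_tree lc_e_rc_18_1 lc_e_rc_18_1 lc_e_rc_16_1 lc_e_rc_19_4) (@D3.rec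 (fun _ => (Cert rels S Gen.e)) lc_e_Cert_tree lc_e_Cert_tree lc_e_rc_27_7 lc_e_rc_9_3 lc_e_Cert_tree lc_e_rc_18_1 lc_e_rc_9_3 lc_e_Cert_tree lc_e_Cert_tree lc_e_rc_27_7 lc_e_rc_18_1 lc_e_Cert_tree lc_e_rc_9_3 lc_e_Cert_tree lc_e_Cert_tree lc_e_rc_18_1 lc_e_rc_18_1 lc_e_Cert_tree lc_e_rc_18_1 lc_e_Cert_tree lc_e_rc_18_1 lc_e_Cert_tree lc_e_Cert_tree lc_e_rc_19_4 lc_e_Cert_tree lc_e_Cert_tree lc_e_rc_16_3 lc_e_Cert_tree lc_e_rc_27_1 lc_e_rc_18_1 lc_e_Cert_tree lc_e_rc_27_5 lc_e_rc_18_1 lc_e_rc_18_1 lc_e_Cert_tree lc_e_rc_18_1 lc_e_rc_16_5 lc_e_Cert_tree lc_e_rc_4_3 lc_e_Cert_tree lc_e_Cert_tree lc_e_Cert_tree lc_e_rc_18_1 lc_e_rc_16_1 lc_e_rc_13_3 lc_e_rc_18_1 lc_e_Cert_tree lc_e_Cert_tree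 lc_e_rc_13_3 lc_e_rc_9_1 lc_e_rc_18_1 lc_e_rc_18_1 lc_e_rc_27_5 lc_e_rc_18_1 lc_e_Cert_tree lc_e_rc_18_1 lc_e_Cert_tree lc_e_Cert_tree lc_e_Cert_tree lc_e_rc_18_1 lc_e_rc_27_5 lc_e_rc_27_5) (@D3.rec (fun _ => (Cert rels S Gen.e)) lc_e_rc_16_1 lc_e_Cert_tree lc_e_Cert_tree lc_e_rc_16_1 lc_e_rc_19_4 lc_e_rc_18_1 lc_e_rc_19_0 lc_e_rc_13_3 lc_e_rc_9_1 lc_e_rc_18_1 lc_e_Cert_tree lc_e_rc_27_5 lc_e_rc_18_1 lc_e_Cert_tree lc_e_rc_19_4 lc_e_rc_13_3 lc_e_Cert_tree lc_e_Cert_tree lc_e_rc_18_1 lc_e_rc_16_3 lc_e_rc_19_4 lc_e_rc_13_1 lc_e_rc_16_3 lc_e_rc_27_1 lc_e_Cert_tree lc_e_rc_18_1 lc_e_Cert_tree lc_e_Cert_tree lc_e_Cert_tree lc_e_Cert_tree lc_e_rc_18_1 lc_e_Cert_tree lc_e_Cert_tree lc_e_rc_19_4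 lc_e_rc_18_1 lc_e_rc_9_3 lc_e_Cert_tree lc_e_Cert_tree lc_e_rc_27_1 lc_e_rc_18_1 lc_e_rc_18_1 lc_e_rc_27_1 lc_e_Cert_tree lc_e_rc_18_1 lc_e_rc_18_1 lc_e_Cert_tree lc_e_Cert_tree lc_e_rc_16_1 lc_e_rc_19_4 lc_e_Cert_tree lc_e_rc_9_3 lc_e_Cert_tree lc_e_Cert_tree lc_e_rc_18_1 lc_e_Cert_tree lc_e_rc_18_1 lc_e_rc_13_3 lc_e_Cert_tree lc_e_rc_27_1 lc_e_rc_19_4 lc_e_rc_9_1 lc_e_rc_18_1) (@D3.rec (fun _ => (Cert rels S Gen.e)) lc_e_Cert_tree lc_e_Cert_tree lc_e_rc_16_1 lc_e_rc_19_4 lc_e_rc_13_3 lc_e_Cert_tree lc_e_rc_19_2 lc_e_Cert_tree lc_e_rc_18_1 lc_e_Cert_tree lc_e_Cert_tree lc_e_rc_13_3 lc_e_Cert_tree lc_e_rc_16_3 lc_e_rc_19_4 lc_e_Cert_tree lc_e_rc_4_3 lc_e_rc_9_3 lc_e_rc_18_1 lc_e_rc_13_3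 lc_e_Cert_tree lc_e_rc_13_1 lc_e_Cert_tree lc_e_rc_18_1 lc_e_rc_18_1 lc_e_Cert_tree lc_e_rc_18_1 lc_e_Cert_tree lc_e_rc_18_1 lc_e_rc_18_1 lc_e_rc_16_5 lc_e_rc_27_7 lc_e_Cert_tree lc_e_Cert_tree lc_e_rc_18_1 lc_e_Cert_tree lc_e_rc_16_5 lc_e_rc_18_1 lc_e_Cert_tree lc_e_rc_13_1 lc_e_rc_18_1 lc_e_Cert_tree lc_e_rc_27_1 lc_e_rc_9_1 lc_e_Cert_tree lc_e_rc_18_1 lc_e_Cert_tree lc_e_rc_4_3 lc_e_Cert_tree lc_e_rc_18_1 lc_e_rc_27_5 lc_e_rc_16_3 lc_e_Cert_tree lc_e_rc_4_1 lc_e_rc_18_1 lc_e_rc_27_5 lc_e_Cert_tree lc_e_rc_16_3 lc_e_rc_19_4 lc_e_Cert_tree lc_e_Cert_tree lc_e_rc_18_1) (@D3.rec (fun _ => (Cert rels S Gen.e)) lc_e_Cert_tree lc_e_Cert_tree lc_e_rc_19_4 lc_e_rc_27_5 lc_e_Cert_tree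 lc_e_rc_4_1 lc_e_rc_18_1 lc_e_Cert_tree lc_e_rc_13_1 lc_e_rc_16_3 lc_e_rc_19_4 lc_e_Cert_tree lc_e_Cert_tree lc_e_Cert_tree lc_e_rc_18_1 lc_e_Cert_tree lc_e_Cert_tree lc_e_rc_27_5 lc_e_rc_18_1 lc_e_rc_18_1 lc_e_Cert_tree lc_e_rc_27_1 lc_e_rc_16_3 lc_e_rc_13_3 lc_e_rc_13_3 lc_e_rc_18_1 lc_e_Cert_tree lc_e_rc_18_1 lc_e_rc_16_1 lc_e_rc_18_1 lc_e_Cert_tree lc_e_rc_16_1 lc_e_rc_19_4 lc_e_rc_13_3 lc_e_rc_18_1 lc_e_rc_18_1 lc_e_rc_27_5 lc_e_rc_19_4 lc_e_Cert_tree lc_e_rc_16_3 lc_e_rc_13_3 lc_e_Cert_tree lc_e_Cert_tree lc_e_rc_18_1 lc_e_Cert_tree lc_e_rc_18_1 lc_e_rc_9_3 lc_e_Cert_tree lc_e_Cert_tree lc_e_rc_18_1 lc_e_Cert_tree lc_e_rc_13_3 lc_e_rc_19_4 lc_e_rc_18_1 lc_e_rc_9_1 lc_e_rc_27_5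 lc_e_rc_18_1 lc_e_Cert_tree lc_e_rc_27_5 lc_e_rc_18_1 lc_e_rc_18_1 lc_e_rc_9_1) (@D3.rec (fun _ => (Cert rels S Gen.e)) lc_e_rc_19_4 lc_e_rc_16_3 lc_e_Cert_tree lc_e_rc_18_1 lc_e_Cert_tree lc_e_rc_18_1 lc_e_rc_16_1 lc_e_Cert_tree lc_e_rc_18_1 lc_e_rc_27_5 lc_e_rc_16_1 lc_e_Cert_tree lc_e_rc_18_1 lc_e_rc_16_1 lc_e_Cert_tree lc_e_rc_18_1 lc_e_Cert_tree lc_e_rc_9_3 lc_e_rc_18_1 lc_e_Cert_tree lc_e_rc_18_1 lc_e_Cert_tree lc_e_Cert_tree lc_e_rc_16_1 lc_e_rc_19_2 lc_e_Cert_tree lc_e_rc_13_3 lc_e_Cert_tree lc_e_Cert_tree lc_e_rc_18_1 lc_e_Cert_tree lc_e_rc_27_5 lc_e_rc_18_1 lc_e_Cert_tree lc_e_rc_13_3 lc_e_rc_19_2 lc_e_rc_18_1 lc_e_rc_18_1 lc_e_rc_18_1 lc_e_rc_18_1 lc_e_rc_4_3 lc_e_rc_16_3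 lc_e_Cert_tree lc_e_rc_18_1 lc_e_Cert_tree lc_e_rc_18_1 lc_e_Cert_tree lc_e_Cert_tree lc_e_rc_18_1 lc_e_rc_18_1 lc_e_Cert_tree lc_e_rc_18_1 lc_e_Cert_tree lc_e_Cert_tree lc_e_rc_18_1 lc_e_rc_18_1 lc_e_rc_16_3 lc_e_Cert_tree lc_e_rc_18_1 lc_e_rc_13_3 lc_e_rc_16_1 lc_e_rc_27_5) (@D3.rec (fun _ => (Cert rels S Gen.e)) lc_e_rc_18_1 lc_e_Cert_tree lc_e_rc_18_1 lc_e_Cert_tree lc_e_Cert_tree lc_e_rc_18_1 lc_e_rc_18_1 lc_e_Cert_tree lc_e_rc_16_1 lc_e_rc_19_4 lc_e_rc_16_5 lc_e_Cert_tree lc_e_Cert_tree lc_e_rc_16_5 lc_e_rc_13_3 lc_e_Cert_tree lc_e_Cert_tree lc_e_rc_18_1 lc_e_rc_18_1 lc_e_Cert_tree lc_e_rc_27_5 lc_e_rc_18_1 lc_e_Cert_tree lc_e_Cert_tree lc_e_rc_13_3 lc_e_Cert_tree lc_e_rc_13_1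 lc_e_rc_18_1 lc_e_Cert_tree lc_e_Cert_tree lc_e_rc_18_1 lc_e_Cert_tree lc_e_Cert_tree lc_e_rc_18_1 lc_e_Cert_tree lc_e_rc_13_1 lc_e_rc_18_1 lc_e_Cert_tree lc_e_rc_13_1 lc_e_rc_9_3 lc_e_Cert_tree lc_e_Cert_tree lc_e_rc_18_1 lc_e_rc_18_1 lc_e_Cert_tree lc_e_rc_13_1 lc_e_rc_18_1 lc_e_Cert_tree lc_e_Cert_tree lc_e_rc_18_1 lc_e_Cert_tree lc_e_Cert_tree lc_e_rc_18_1 lc_e_Cert_tree lc_e_Cert_tree lc_e_rc_18_1 lc_e_Cert_tree lc_e_Cert_tree lc_e_rc_13_3 lc_e_Cert_tree lc_e_rc_9_3 lc_e_rc_18_1) (@D3.rec (fun _ => (Cert rels S Gen.e)) lc_e_Cert_tree lc_e_Cert_tree lc_e_rc_16_3 lc_e_rc_18_1 lc_e_rc_13_3 lc_e_rc_18_1 lc_e_Cert_tree lc_e_Cert_tree lc_e_rc_18_1 lc_e_rc_27_7 lc_e_Cert_tree lc_e_rc_18_1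 lc_e_rc_18_1 lc_e_rc_19_0 lc_e_rc_9_3 lc_e_rc_27_7 lc_e_Cert_tree lc_e_Cert_tree lc_e_rc_18_1 lc_e_rc_19_4 lc_e_Cert_tree lc_e_rc_18_1 lc_e_rc_18_1 lc_e_rc_13_3 lc_e_rc_16_1 lc_e_rc_19_4 lc_e_Cert_tree lc_e_rc_9_3 lc_e_rc_19_2 lc_e_Cert_tree lc_e_rc_13_1 lc_e_Cert_tree lc_e_Cert_tree lc_e_rc_18_1 lc_e_rc_27_5 lc_e_rc_18_1 lc_e_Cert_tree lc_e_Cert_tree lc_e_rc_13_3 lc_e_Cert_tree lc_e_Cert_tree lc_e_rc_18_1 lc_e_rc_9_1 lc_e_rc_18_1 lc_e_Cert_tree lc_e_rc_13_1 lc_e_rc_9_1 lc_e_rc_4_1 lc_e_Cert_tree lc_e_rc_18_1 lc_e_Cert_tree lc_e_rc_18_1 lc_e_rc_16_1 lc_e_rc_18_1 lc_e_rc_9_3 lc_e_rc_18_1 lc_e_rc_16_1 lc_e_Cert_tree lc_e_Cert_tree lc_e_rc_18_1 lc_e_rc_9_3 lc_e_rc_16_1) (@D3.rec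 (fun _ => (Cert rels S Gen.e)) lc_e_rc_19_4 lc_e_rc_18_1 lc_e_rc_13_3 lc_e_rc_16_1 lc_e_rc_27_5 lc_e_Cert_tree lc_e_rc_18_1 lc_e_Cert_tree lc_e_rc_18_1 lc_e_Cert_tree lc_e_rc_16_1 lc_e_rc_18_1 lc_e_Cert_tree lc_e_Cert_tree lc_e_rc_13_1 lc_e_Cert_tree lc_e_rc_16_3 lc_e_Cert_tree lc_e_rc_18_1 lc_e_rc_16_1 lc_e_rc_18_1 lc_e_rc_9_3 lc_e_rc_16_1 lc_e_rc_19_4 lc_e_rc_19_0 lc_e_Cert_tree lc_e_rc_18_1 lc_e_Cert_tree lc_e_rc_16_1 lc_e_rc_9_3 lc_e_Cert_tree lc_e_Cert_tree lc_e_rc_13_3 lc_e_Cert_tree lc_e_Cert_tree lc_e_rc_9_3 lc_e_rc_18_1 lc_e_rc_18_1 lc_e_rc_16_5 lc_e_rc_27_5 lc_e_rc_18_1 lc_e_Cert_tree lc_e_rc_19_4 lc_e_rc_16_5 lc_e_rc_18_1 lc_e_Cert_tree lc_e_rc_27_5 lc_e_rc_18_1 lc_e_rc_18_1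 lc_e_rc_4_1 lc_e_rc_19_2 lc_e_rc_16_5 lc_e_Cert_tree lc_e_rc_18_1 lc_e_rc_16_5 lc_e_rc_9_3 lc_e_rc_18_1 lc_e_Cert_tree lc_e_Cert_tree lc_e_rc_19_2 lc_e_rc_27_5 lc_e_rc_18_1) (@D3.rec (fun _ => (Cert rels S Gen.e)) lc_e_rc_18_1 lc_e_rc_9_3 lc_e_rc_27_1 lc_e_rc_13_3 lc_e_rc_18_1 lc_e_rc_18_1 lc_e_rc_18_1 lc_e_rc_16_1 lc_e_Cert_tree lc_e_rc_18_1 lc_e_Cert_tree lc_e_rc_27_7 lc_e_rc_18_1 lc_e_rc_4_3 lc_e_rc_19_4 lc_e_rc_18_1 lc_e_Cert_tree lc_e_Cert_tree lc_e_rc_16_3 lc_e_rc_4_1 lc_e_Cert_tree lc_e_rc_18_1 lc_e_Cert_tree lc_e_Cert_tree lc_e_rc_13_3 lc_e_Cert_tree lc_e_rc_18_1 lc_e_rc_16_3 lc_e_Cert_tree lc_e_rc_27_5 lc_e_rc_18_1 lc_e_Cert_tree lc_e_Cert_tree lc_e_rc_16_3 lc_e_rc_19_2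 lc_e_Cert_tree lc_e_rc_18_1 lc_e_Cert_tree lc_e_Cert_tree lc_e_rc_18_1 lc_e_Cert_tree lc_e_Cert_tree lc_e_rc_13_1 lc_e_rc_19_2 lc_e_rc_18_1 lc_e_rc_13_3 lc_e_rc_18_1 lc_e_Cert_tree lc_e_rc_18_1 lc_e_rc_16_3 lc_e_rc_19_4 lc_e_Cert_tree lc_e_Cert_tree lc_e_rc_18_1 lc_e_Cert_tree lc_e_Cert_tree lc_e_rc_18_1 lc_e_rc_18_1 lc_e_Cert_tree lc_e_rc_13_3 lc_e_Cert_tree lc_e_rc_18_1) (@D3.rec (fun _ => (Cert rels S Gen.e)) lc_e_Cert_tree lc_e_Cert_tree lc_e_Cert_tree lc_e_rc_18_1 lc_e_Cert_tree lc_e_Cert_tree lc_e_rc_18_1 lc_e_Cert_tree lc_e_rc_27_7 lc_e_Cert_tree lc_e_rc_18_1 lc_e_rc_18_1 lc_e_Cert_tree lc_e_rc_9_3 lc_e_Cert_tree lc_e_rc_27_7 lc_e_Cert_tree lc_e_rc_18_1 lc_e_Cert_tree lc_e_Cert_tree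 lc_e_rc_18_1 lc_e_Cert_tree lc_e_rc_18_1 lc_e_rc_18_1 lc_e_rc_16_1 lc_e_rc_4_1 lc_e_rc_16_3 lc_e_Cert_tree lc_e_Cert_tree lc_e_rc_18_1 lc_e_Cert_tree lc_e_Cert_tree lc_e_rc_18_1 lc_e_rc_18_1 lc_e_Cert_tree lc_e_rc_13_3 lc_e_rc_16_3 lc_e_rc_16_5 lc_e_Cert_tree lc_e_rc_18_1 lc_e_Cert_tree lc_e_Cert_tree lc_e_rc_18_1 lc_e_Cert_tree lc_e_Cert_tree lc_e_rc_18_1 lc_e_Cert_tree lc_e_rc_18_1 lc_e_Cert_tree lc_e_Cert_tree lc_e_rc_9_3 lc_e_Cert_tree lc_e_Cert_tree lc_e_Cert_tree lc_e_rc_18_1 lc_e_rc_13_3 lc_e_rc_9_1 lc_e_Cert_tree lc_e_Cert_tree lc_e_rc_18_1 lc_e_rc_13_3 lc_e_Cert_tree) (@D3.rec (fun _ => (Cert rels S Gen.e)) lc_e_rc_18_1 lc_e_rc_18_1 lc_e_rc_9_3 lc_e_rc_16_3 lc_e_rc_18_1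 lc_e_Cert_tree lc_e_rc_27_5 lc_e_rc_18_1 lc_e_rc_19_4 lc_e_Cert_tree lc_e_rc_27_7 lc_e_rc_18_1 lc_e_rc_18_1 lc_e_Cert_tree lc_e_rc_19_4 lc_e_rc_9_1 lc_e_Cert_tree lc_e_rc_18_1 lc_e_Cert_tree lc_e_Cert_tree lc_e_rc_18_1 lc_e_Cert_tree lc_e_Cert_tree lc_e_rc_4_3 lc_e_rc_16_3 lc_e_rc_19_4 lc_e_rc_19_4 lc_e_rc_18_1 lc_e_rc_18_1 lc_e_rc_16_5 lc_e_rc_19_4 lc_e_rc_19_4 lc_e_Cert_tree lc_e_Cert_tree lc_e_rc_18_1 lc_e_rc_27_5 lc_e_rc_27_5 lc_e_rc_19_4 lc_e_Cert_tree lc_e_Cert_tree lc_e_rc_18_1 lc_e_rc_27_5 lc_e_Cert_tree lc_e_rc_18_1 lc_e_rc_9_3 lc_e_Cert_tree lc_e_rc_4_3 lc_e_Cert_tree lc_e_rc_4_1 lc_e_Cert_tree lc_e_rc_27_5 lc_e_Cert_tree lc_e_rc_18_1 lc_e_Cert_tree lc_e_Cert_tree lc_e_rc_18_1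 lc_e_rc_19_0 lc_e_rc_19_4 lc_e_Cert_tree lc_e_Cert_tree lc_e_rc_18_1 lc_e_rc_18_1) (@D3.rec (fun _ => (Cert rels S Gen.e)) lc_e_rc_19_4 lc_e_rc_9_1 lc_e_rc_13_3 lc_e_rc_18_1 lc_e_Cert_tree lc_e_Cert_tree lc_e_rc_18_1 lc_e_Cert_tree lc_e_Cert_tree lc_e_rc_13_1 lc_e_Cert_tree lc_e_Cert_tree lc_e_Cert_tree lc_e_Cert_tree lc_e_rc_18_1 lc_e_rc_18_1 lc_e_Cert_tree lc_e_rc_18_1 lc_e_rc_27_5 lc_e_Cert_tree lc_e_rc_19_4 lc_e_Cert_tree lc_e_Cert_tree lc_e_rc_18_1 lc_e_rc_18_1 lc_e_rc_16_3 lc_e_rc_9_1 lc_e_Cert_tree lc_e_Cert_tree lc_e_rc_18_1 lc_e_Cert_tree lc_e_Cert_tree lc_e_rc_18_1 lc_e_Cert_tree lc_e_Cert_tree lc_e_rc_18_1 lc_e_Cert_tree lc_e_Cert_tree lc_e_Cert_tree lc_e_Cert_tree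 lc_e_rc_18_1 lc_e_Cert_tree lc_e_Cert_tree lc_e_rc_18_1 lc_e_rc_18_1 lc_e_Cert_tree lc_e_rc_16_1 lc_e_rc_19_4 lc_e_rc_13_3 lc_e_Cert_tree lc_e_rc_18_1 lc_e_Cert_tree lc_e_rc_13_3 lc_e_rc_19_4 lc_e_Cert_tree lc_e_rc_9_3 lc_e_Cert_tree lc_e_Cert_tree lc_e_Cert_tree lc_e_Cert_tree lc_e_Cert_tree lc_e_rc_18_1) (@D3.rec (fun _ => (Cert rels S Gen.e)) lc_e_rc_18_1 lc_e_Cert_tree lc_e_rc_13_3 lc_e_rc_16_1 lc_e_rc_19_4 lc_e_Cert_tree lc_e_rc_18_1 lc_e_rc_13_3 lc_e_Cert_tree lc_e_rc_18_1 lc_e_rc_18_1 lc_e_Cert_tree lc_e_rc_16_1 lc_e_rc_18_1 lc_e_Cert_tree lc_e_rc_18_1 lc_e_rc_19_0 lc_e_Cert_tree lc_e_rc_18_1 lc_e_Cert_tree lc_e_rc_13_3 lc_e_rc_18_1 lc_e_Cert_tree lc_e_Cert_tree lc_e_rc_18_1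 lc_e_rc_27_5 lc_e_Cert_tree lc_e_rc_16_1 lc_e_rc_19_4 lc_e_rc_13_3 lc_e_rc_16_3 lc_e_Cert_tree lc_e_rc_9_3 lc_e_rc_18_1 lc_e_rc_13_3 lc_e_rc_4_3 lc_e_Cert_tree lc_e_Cert_tree lc_e_Cert_tree lc_e_rc_18_1 lc_e_rc_18_1 lc_e_Cert_tree lc_e_rc_13_3 lc_e_rc_16_1 lc_e_rc_19_4 lc_e_Cert_tree lc_e_rc_18_1 lc_e_rc_13_3 lc_e_rc_16_3 lc_e_Cert_tree lc_e_rc_27_5 lc_e_rc_16_3 lc_e_Cert_tree lc_e_rc_18_1 lc_e_rc_18_1 lc_e_Cert_tree lc_e_rc_19_4 lc_e_rc_9_3 lc_e_Cert_tree lc_e_Cert_tree lc_e_rc_27_1 lc_e_Cert_tree) (@D3.rec (fun _ => (Cert rels S Gen.e)) lc_e_rc_18_1 lc_e_rc_18_1 lc_e_rc_18_1 lc_e_rc_16_1 lc_e_rc_19_4 lc_e_Cert_tree lc_e_Cert_tree lc_e_rc_18_1 lc_e_Cert_tree lc_e_rc_16_1 lc_e_rc_18_1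 lc_e_Cert_tree lc_e_Cert_tree lc_e_Cert_tree lc_e_Cert_tree lc_e_rc_18_1 lc_e_Cert_tree lc_e_Cert_tree lc_e_Cert_tree lc_e_Cert_tree lc_e_rc_18_1 lc_e_Cert_tree lc_e_rc_18_1 lc_e_rc_18_1 lc_e_rc_18_1 lc_e_Cert_tree lc_e_rc_18_1 lc_e_Cert_tree lc_e_rc_18_1 lc_e_Cert_tree lc_e_Cert_tree lc_e_Cert_tree lc_e_rc_18_1 lc_e_Cert_tree lc_e_Cert_tree lc_e_rc_16_3 lc_e_Cert_tree lc_e_Cert_tree lc_e_rc_27_5 lc_e_rc_18_1 lc_e_rc_13_3 lc_e_rc_27_5 lc_e_Cert_tree lc_e_rc_27_1 lc_e_rc_18_1 lc_e_rc_18_1 lc_e_rc_16_1 lc_e_Cert_tree lc_e_rc_13_3 lc_e_rc_18_1 lc_e_Cert_tree lc_e_rc_18_1 lc_e_Cert_tree lc_e_rc_18_1 lc_e_Cert_tree lc_e_Cert_tree lc_e_rc_13_3 lc_e_Cert_tree lc_e_rc_4_1 lc_e_rc_9_3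 lc_e_rc_18_1 lc_e_rc_18_1) (@D3.rec (fun _ => (Cert rels S Gen.e)) lc_e_Cert_tree lc_e_rc_16_1 lc_e_rc_13_3 lc_e_rc_13_3 lc_e_Cert_tree lc_e_rc_18_1 lc_e_rc_27_1 lc_e_Cert_tree lc_e_Cert_tree lc_e_rc_18_1 lc_e_rc_27_7 lc_e_Cert_tree lc_e_Cert_tree lc_e_rc_18_1 lc_e_Cert_tree lc_e_Cert_tree lc_e_rc_18_1 lc_e_rc_4_3 lc_e_Cert_tree lc_e_Cert_tree lc_e_rc_9_3 lc_e_rc_13_3 lc_e_rc_18_1 lc_e_Cert_tree lc_e_Cert_tree lc_e_rc_18_1 lc_e_Cert_tree lc_e_Cert_tree lc_e_rc_18_1 lc_e_Cert_tree lc_e_rc_18_1 lc_e_Cert_tree lc_e_rc_18_1 lc_e_Cert_tree lc_e_Cert_tree lc_e_Cert_tree lc_e_Cert_tree lc_e_rc_18_1 lc_e_rc_18_1 lc_e_Cert_tree lc_e_rc_13_3 lc_e_Cert_tree lc_e_rc_18_1 lc_e_Cert_tree lc_e_Cert_tree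 lc_e_rc_18_1 lc_e_Cert_tree lc_e_Cert_tree lc_e_rc_18_1 lc_e_Cert_tree lc_e_rc_18_1 lc_e_Cert_tree lc_e_Cert_tree lc_e_rc_27_7 lc_e_rc_18_1 lc_e_rc_13_3 lc_e_rc_18_1 lc_e_rc_16_1 lc_e_Cert_tree lc_e_rc_19_4 lc_e_rc_18_1 lc_e_Cert_tree) (@D3.rec (fun _ => (Cert rels S Gen.e)) lc_e_rc_18_1 lc_e_rc_19_0 lc_e_Cert_tree lc_e_rc_27_5 lc_e_Cert_tree lc_e_rc_27_1 lc_e_rc_18_1 lc_e_rc_18_1 lc_e_rc_13_1 lc_e_Cert_tree lc_e_rc_16_1 lc_e_rc_19_4 lc_e_rc_13_3 lc_e_rc_16_5 lc_e_Cert_tree lc_e_rc_13_1 lc_e_rc_27_5 lc_e_rc_18_1 lc_e_rc_13_3 lc_e_Cert_tree lc_e_Cert_tree lc_e_rc_18_1 lc_e_rc_9_3 lc_e_rc_13_3 lc_e_Cert_tree lc_e_rc_18_1 lc_e_Cert_tree lc_e_rc_18_1 lc_e_rc_18_1 lc_e_rc_16_5 lc_e_rc_16_1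 lc_e_rc_19_4 lc_e_Cert_tree lc_e_rc_18_1 lc_e_rc_16_3 lc_e_rc_19_4 lc_e_rc_13_3 lc_e_rc_19_4 lc_e_rc_18_1 lc_e_rc_9_3 lc_e_rc_13_3 lc_e_Cert_tree lc_e_rc_18_1 lc_e_rc_13_1 lc_e_rc_9_3 lc_e_rc_27_5 lc_e_rc_27_5 lc_e_rc_19_4 lc_e_rc_27_1 lc_e_Cert_tree lc_e_Cert_tree lc_e_Cert_tree lc_e_rc_18_1 lc_e_rc_18_1 lc_e_rc_19_2 lc_e_rc_27_1 lc_e_rc_27_5 lc_e_rc_19_4 lc_e_Cert_tree lc_e_rc_18_1 lc_e_rc_18_1 lc_e_rc_9_3) (@D3.rec (fun _ => (Cert rels S Gen.e)) lc_e_rc_4_3 lc_e_Cert_tree lc_e_Cert_tree lc_e_rc_18_1 lc_e_rc_27_7 lc_e_rc_18_1 lc_e_rc_27_7 lc_e_Cert_tree lc_e_Cert_tree lc_e_rc_9_3 lc_e_Cert_tree lc_e_rc_18_1 lc_e_rc_13_3 lc_e_rc_16_5 lc_e_Cert_tree lc_e_Cert_tree lc_e_rc_27_5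 lc_e_rc_18_1 lc_e_rc_16_5 lc_e_rc_4_3 lc_e_Cert_tree lc_e_Cert_tree lc_e_rc_18_1 lc_e_Cert_tree lc_e_rc_18_1 lc_e_Cert_tree lc_e_rc_16_1 lc_e_rc_19_4 lc_e_rc_16_5 lc_e_rc_13_3 lc_e_rc_27_1 lc_e_rc_16_1 lc_e_rc_19_4 lc_e_rc_13_3 lc_e_rc_19_4 lc_e_rc_9_3 lc_e_rc_4_3 lc_e_Cert_tree lc_e_Cert_tree lc_e_Cert_tree lc_e_rc_18_1 lc_e_rc_9_3 lc_e_rc_27_7 lc_e_rc_18_1 lc_e_rc_4_3 lc_e_Cert_tree lc_e_rc_13_3 lc_e_rc_18_1 lc_e_Cert_tree lc_e_rc_18_1 lc_e_rc_27_1 lc_e_rc_16_5 lc_e_rc_18_1 lc_e_rc_27_7 lc_e_rc_13_1 lc_e_Cert_tree lc_e_rc_18_1 lc_e_rc_27_5 lc_e_rc_27_1 lc_e_Cert_tree lc_e_rc_13_3 lc_e_rc_16_1) (@D3.rec (fun _ => (Cert rels S Gen.e)) lc_e_rc_13_3 lc_e_Cert_tree lc_e_rc_19_4 lc_e_rc_18_1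 lc_e_rc_27_5 lc_e_rc_18_1 lc_e_rc_19_4 lc_e_rc_19_2 lc_e_rc_27_5 lc_e_Cert_tree lc_e_Cert_tree lc_e_Cert_tree lc_e_rc_18_1 lc_e_Cert_tree lc_e_rc_13_3 lc_e_rc_18_1 lc_e_Cert_tree lc_e_rc_18_1 lc_e_rc_27_1 lc_e_Cert_tree lc_e_rc_18_1 lc_e_rc_13_3 lc_e_rc_27_5 lc_e_Cert_tree lc_e_rc_18_1 lc_e_Cert_tree lc_e_Cert_tree lc_e_rc_27_7 lc_e_rc_18_1 lc_e_rc_19_4 lc_e_rc_27_5 lc_e_rc_13_3 lc_e_rc_16_3 lc_e_rc_4_3 lc_e_rc_18_1 lc_e_rc_16_3 lc_e_Cert_tree lc_e_rc_18_1 lc_e_Cert_tree lc_e_rc_18_1 lc_e_Cert_tree lc_e_rc_18_1 lc_e_Cert_tree lc_e_rc_18_1 lc_e_rc_19_4 lc_e_rc_4_3 lc_e_rc_13_3 lc_e_Cert_tree lc_e_rc_18_1 lc_e_rc_18_1 lc_e_rc_16_5 lc_e_rc_18_1 lc_e_rc_16_5 lc_e_rc_27_1 lc_e_rc_9_1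 lc_e_rc_9_3 lc_e_rc_13_1 lc_e_rc_18_1 lc_e_Cert_tree lc_e_Cert_tree lc_e_rc_18_1 lc_e_Cert_tree)
def ce_e_9 : D2 → D3 → (Cert rels S Gen.e) := @D2.rec (fun _ => D3 → (Cert rels S Gen.e)) (@D3.rec (fun _ => (Cert rels S Gen.e)) lc_e_Cert_tree lc_e_rc_18_1 lc_e_rc_13_3 lc_e_rc_18_1 lc_e_Cert_tree lc_e_rc_9_3 lc_e_rc_18_1 lc_e_rc_18_1 lc_e_Cert_tree lc_e_rc_18_1 lc_e_Cert_tree lc_e_Cert_tree lc_e_rc_18_1 lc_e_Cert_tree lc_e_Cert_tree lc_e_rc_18_1 lc_e_rc_27_5 lc_e_Cert_tree lc_e_rc_18_1 lc_e_rc_27_5 lc_e_Cert_tree lc_e_rc_19_4 lc_e_rc_27_7 lc_e_rc_18_1 lc_e_Cert_tree lc_e_rc_16_3 lc_e_rc_18_1 lc_e_rc_18_1 lc_e_rc_19_2 lc_e_Cert_tree lc_e_rc_19_2 lc_e_rc_18_1 lc_e_Cert_tree lc_e_Cert_tree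 lc_e_rc_18_1 lc_e_rc_18_1 lc_e_Cert_tree lc_e_Cert_tree lc_e_rc_18_1 lc_e_rc_18_1 lc_e_rc_19_4 lc_e_Cert_tree lc_e_Cert_tree lc_e_rc_18_1 lc_e_Cert_tree lc_e_Cert_tree lc_e_rc_18_1 lc_e_Cert_tree lc_e_Cert_tree lc_e_rc_18_1 lc_e_rc_19_2 lc_e_rc_18_1 lc_e_Cert_tree lc_e_rc_18_1 lc_e_Cert_tree lc_e_rc_27_5 lc_e_rc_19_4 lc_e_Cert_tree lc_e_rc_18_1 lc_e_rc_9_3 lc_e_rc_4_3 lc_e_Cert_tree) (@D3.rec (fun _ => (Cert rels S Gen.e)) lc_e_Cert_tree lc_e_rc_18_1 lc_e_rc_13_3 lc_e_Cert_tree lc_e_rc_18_1 lc_e_rc_18_1 lc_e_Cert_tree lc_e_rc_18_1 lc_e_rc_19_0 lc_e_rc_9_3 lc_e_rc_18_1 lc_e_rc_16_5 lc_e_rc_19_4 lc_e_rc_16_5 lc_e_rc_16_5 lc_e_Cert_tree lc_e_rc_18_1 lc_e_rc_13_3 lc_e_rc_9_3 lc_e_rc_4_3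 lc_e_rc_4_3 lc_e_Cert_tree lc_e_Cert_tree lc_e_Cert_tree lc_e_rc_18_1 lc_e_Cert_tree lc_e_Cert_tree lc_e_rc_18_1 lc_e_rc_18_1 lc_e_rc_18_1 lc_e_Cert_tree lc_e_rc_4_3 lc_e_rc_19_4 lc_e_rc_9_3 lc_e_Cert_tree lc_e_rc_16_3 lc_e_rc_27_5 lc_e_rc_18_1 lc_e_rc_18_1 lc_e_rc_18_1 lc_e_rc_19_4 lc_e_Cert_tree lc_e_rc_18_1 lc_e_rc_27_5 lc_e_Cert_tree lc_e_rc_9_3 lc_e_rc_18_1 lc_e_rc_16_5 lc_e_rc_4_3 lc_e_rc_16_1 lc_e_rc_19_4 lc_e_rc_13_1 lc_e_rc_16_5 lc_e_rc_9_1 lc_e_rc_4_3 lc_e_rc_16_3 lc_e_rc_13_3 lc_e_Cert_tree lc_e_Cert_tree lc_e_rc_18_1 lc_e_rc_27_7 lc_e_Cert_tree) (@D3.rec (fun _ => (Cert rels S Gen.e)) lc_e_rc_18_1 lc_e_Cert_tree lc_e_rc_18_1 lc_e_Cert_tree lc_e_rc_18_1 lc_e_rc_13_1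 lc_e_Cert_tree lc_e_Cert_tree lc_e_rc_18_1 lc_e_rc_27_1 lc_e_Cert_tree lc_e_rc_16_1 lc_e_rc_19_4 lc_e_rc_4_1 lc_e_rc_27_1 lc_e_Cert_tree lc_e_Cert_tree lc_e_rc_27_5 lc_e_rc_18_1 lc_e_rc_27_1 lc_e_rc_27_5 lc_e_rc_18_1 lc_e_rc_19_4 lc_e_Cert_tree lc_e_Cert_tree lc_e_rc_18_1 lc_e_Cert_tree lc_e_rc_19_4 lc_e_Cert_tree lc_e_rc_18_1 lc_e_rc_16_1 lc_e_rc_16_5 lc_e_Cert_tree lc_e_rc_18_1 lc_e_Cert_tree lc_e_rc_19_2 lc_e_Cert_tree lc_e_Cert_tree lc_e_rc_18_1 lc_e_rc_27_5 lc_e_rc_18_1 lc_e_Cert_tree lc_e_rc_18_1 lc_e_Cert_tree lc_e_rc_27_7 lc_e_rc_18_1 lc_e_rc_19_2 lc_e_rc_4_3 lc_e_rc_16_1 lc_e_rc_19_4 lc_e_rc_9_3 lc_e_rc_13_3 lc_e_rc_16_5 lc_e_rc_9_1 lc_e_rc_16_1 lc_e_rc_13_3 lc_e_rc_19_4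 lc_e_rc_9_3 lc_e_Cert_tree lc_e_rc_18_1 lc_e_Cert_tree lc_e_Cert_tree) (@D3.rec (fun _ => (Cert rels S Gen.e)) lc_e_Cert_tree lc_e_rc_18_1 lc_e_rc_27_7 lc_e_rc_16_1 lc_e_rc_16_3 lc_e_rc_13_3 lc_e_rc_16_5 lc_e_rc_9_3 lc_e_Cert_tree lc_e_Cert_tree lc_e_Cert_tree lc_e_rc_16_3 lc_e_rc_18_1 lc_e_Cert_tree lc_e_rc_27_1 lc_e_rc_19_2 lc_e_rc_18_1 lc_e_Cert_tree lc_e_rc_18_1 lc_e_Cert_tree lc_e_rc_18_1 lc_e_Cert_tree lc_e_rc_16_1 lc_e_rc_19_4 lc_e_Cert_tree lc_e_rc_13_3 lc_e_Cert_tree lc_e_rc_18_1 lc_e_rc_27_5 lc_e_rc_4_1 lc_e_rc_18_1 lc_e_Cert_tree lc_e_Cert_tree lc_e_Cert_tree lc_e_rc_18_1 lc_e_rc_18_1 lc_e_Cert_tree lc_e_rc_19_4 lc_e_rc_19_4 lc_e_rc_18_1 lc_e_Cert_tree lc_e_Cert_tree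 lc_e_rc_19_4 lc_e_rc_27_5 lc_e_rc_18_1 lc_e_rc_18_1 lc_e_Cert_tree lc_e_rc_19_2 lc_e_rc_9_1 lc_e_Cert_tree lc_e_rc_18_1 lc_e_rc_18_1 lc_e_rc_18_1 lc_e_Cert_tree lc_e_Cert_tree lc_e_rc_13_3 lc_e_rc_18_1 lc_e_rc_13_3 lc_e_rc_9_3 lc_e_rc_16_1 lc_e_rc_18_1 lc_e_rc_19_4) (@D3.rec (fun _ => (Cert rels S Gen.e)) lc_e_rc_18_1 lc_e_Cert_tree lc_e_Cert_tree lc_e_rc_18_1 lc_e_Cert_tree lc_e_rc_18_1 lc_e_Cert_tree lc_e_rc_13_3 lc_e_rc_27_1 lc_e_Cert_tree lc_e_rc_18_1 lc_e_rc_9_1 lc_e_Cert_tree lc_e_rc_27_1 lc_e_rc_18_1 lc_e_rc_9_1 lc_e_rc_18_1 lc_e_rc_27_5 lc_e_rc_18_1 lc_e_rc_18_1 lc_e_Cert_tree lc_e_Cert_tree lc_e_rc_16_3 lc_e_rc_27_5 lc_e_rc_13_3 lc_e_Cert_tree lc_e_rc_18_1 lc_e_Cert_tree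 lc_e_Cert_tree lc_e_Cert_tree lc_e_rc_18_1 lc_e_rc_18_1 lc_e_Cert_tree lc_e_rc_19_4 lc_e_Cert_tree lc_e_rc_13_3 lc_e_rc_18_1 lc_e_Cert_tree lc_e_rc_18_1 lc_e_rc_13_1 lc_e_rc_18_1 lc_e_Cert_tree lc_e_Cert_tree lc_e_rc_16_5 lc_e_rc_16_3 lc_e_Cert_tree lc_e_rc_18_1 lc_e_rc_19_2 lc_e_Cert_tree lc_e_rc_18_1 lc_e_rc_18_1 lc_e_rc_18_1 lc_e_Cert_tree lc_e_rc_16_5 lc_e_rc_16_3 lc_e_rc_19_4 lc_e_Cert_tree lc_e_rc_27_5 lc_e_rc_18_1 lc_e_rc_13_3 lc_e_rc_9_3 lc_e_rc_18_1) (@D3.rec (fun _ => (Cert rels S Gen.e)) lc_e_rc_13_3 lc_e_rc_27_1 lc_e_Cert_tree lc_e_rc_27_5 lc_e_rc_18_1 lc_e_rc_16_3 lc_e_rc_19_4 lc_e_rc_18_1 lc_e_Cert_tree lc_e_Cert_tree lc_e_rc_18_1 lc_e_rc_18_1 lc_e_rc_9_3 lc_e_rc_27_1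 lc_e_rc_18_1 lc_e_Cert_tree lc_e_Cert_tree lc_e_rc_18_1 lc_e_Cert_tree lc_e_rc_13_3 lc_e_rc_18_1 lc_e_rc_16_5 lc_e_Cert_tree lc_e_Cert_tree lc_e_rc_18_1 lc_e_rc_18_1 lc_e_rc_18_1 lc_e_rc_19_4 lc_e_rc_18_1 lc_e_rc_18_1 lc_e_rc_13_1 lc_e_rc_27_7 lc_e_rc_19_4 lc_e_rc_9_3 lc_e_rc_9_3 lc_e_rc_19_2 lc_e_rc_27_1 lc_e_rc_18_1 lc_e_rc_13_3 lc_e_rc_19_4 lc_e_rc_19_4 lc_e_Cert_tree lc_e_rc_18_1 lc_e_rc_18_1 lc_e_rc_9_1 lc_e_rc_19_4 lc_e_rc_13_3 lc_e_rc_18_1 lc_e_rc_16_1 lc_e_Cert_tree lc_e_rc_18_1 lc_e_rc_18_1 lc_e_rc_18_1 lc_e_rc_18_1 lc_e_rc_18_1 lc_e_rc_18_1 lc_e_Cert_tree lc_e_Cert_tree lc_e_rc_16_3 lc_e_rc_18_1 lc_e_Cert_tree lc_e_rc_18_1) (@D3.rec (fun _ => (Cert rels S Gen.e)) lc_e_rc_18_1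 lc_e_Cert_tree lc_e_rc_18_1 lc_e_Cert_tree lc_e_rc_18_1 lc_e_rc_27_1 lc_e_rc_19_4 lc_e_rc_18_1 lc_e_rc_9_3 lc_e_rc_18_1 lc_e_Cert_tree lc_e_rc_19_4 lc_e_rc_19_4 lc_e_rc_16_1 lc_e_rc_13_3 lc_e_Cert_tree lc_e_rc_18_1 lc_e_rc_18_1 lc_e_Cert_tree lc_e_rc_16_1 lc_e_rc_19_4 lc_e_rc_13_3 lc_e_rc_18_1 lc_e_Cert_tree lc_e_Cert_tree lc_e_rc_16_3 lc_e_rc_19_2 lc_e_Cert_tree lc_e_Cert_tree lc_e_rc_27_7 lc_e_rc_18_1 lc_e_Cert_tree lc_e_Cert_tree lc_e_rc_27_1 lc_e_rc_18_1 lc_e_Cert_tree lc_e_rc_4_3 lc_e_rc_13_3 lc_e_Cert_tree lc_e_Cert_tree lc_e_Cert_tree lc_e_rc_18_1 lc_e_Cert_tree lc_e_Cert_tree lc_e_rc_18_1 lc_e_rc_9_3 lc_e_rc_13_3 lc_e_Cert_tree lc_e_rc_4_3 lc_e_Cert_tree lc_e_Cert_tree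 lc_e_rc_18_1 lc_e_rc_16_3 lc_e_rc_18_1 lc_e_Cert_tree lc_e_rc_16_1 lc_e_rc_16_3 lc_e_rc_27_5 lc_e_rc_13_3 lc_e_rc_27_5 lc_e_Cert_tree lc_e_rc_18_1) (@D3.rec (fun _ => (Cert rels S Gen.e)) lc_e_rc_4_3 lc_e_rc_9_3 lc_e_Cert_tree lc_e_Cert_tree lc_e_rc_13_3 lc_e_rc_16_5 lc_e_Cert_tree lc_e_rc_18_1 lc_e_rc_18_1 lc_e_rc_13_1 lc_e_rc_18_1 lc_e_rc_18_1 lc_e_rc_4_1 lc_e_rc_9_3 lc_e_rc_18_1 lc_e_rc_4_3 lc_e_rc_18_1 lc_e_rc_9_3 lc_e_rc_16_1 lc_e_rc_19_4 lc_e_rc_13_3 lc_e_rc_16_3 lc_e_rc_13_3 lc_e_Cert_tree lc_e_rc_18_1 lc_e_Cert_tree lc_e_rc_18_1 lc_e_Cert_tree lc_e_Cert_tree lc_e_rc_9_3 lc_e_rc_16_5 lc_e_Cert_tree lc_e_rc_18_1 lc_e_rc_9_3 lc_e_rc_18_1 lc_e_rc_13_3 lc_e_Cert_tree lc_e_Cert_tree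 lc_e_rc_18_1 lc_e_rc_9_3 lc_e_rc_13_1 lc_e_rc_18_1 lc_e_Cert_tree lc_e_rc_18_1 lc_e_rc_9_3 lc_e_rc_18_1 lc_e_Cert_tree lc_e_Cert_tree lc_e_rc_9_1 lc_e_Cert_tree lc_e_Cert_tree lc_e_rc_18_1 lc_e_rc_18_1 lc_e_Cert_tree lc_e_rc_18_1 lc_e_rc_18_1 lc_e_Cert_tree lc_e_Cert_tree lc_e_rc_9_1 lc_e_Cert_tree lc_e_Cert_tree lc_e_rc_18_1) (@D3.rec (fun _ => (Cert rels S Gen.e)) lc_e_rc_27_7 lc_e_rc_13_3 lc_e_rc_18_1 lc_e_rc_18_1 lc_e_rc_16_1 lc_e_rc_27_1 lc_e_rc_18_1 lc_e_Cert_tree lc_e_rc_18_1 lc_e_rc_13_3 lc_e_Cert_tree lc_e_rc_18_1 lc_e_rc_16_1 lc_e_rc_19_4 lc_e_Cert_tree lc_e_rc_18_1 lc_e_rc_18_1 lc_e_rc_16_1 lc_e_rc_9_3 lc_e_rc_19_4 lc_e_rc_27_7 lc_e_rc_13_3 lc_e_Cert_tree lc_e_rc_16_5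 lc_e_rc_18_1 lc_e_Cert_tree lc_e_rc_18_1 lc_e_rc_18_1 lc_e_rc_18_1 lc_e_Cert_tree lc_e_rc_16_1 lc_e_rc_19_4 lc_e_rc_16_5 lc_e_Cert_tree lc_e_Cert_tree lc_e_rc_16_5 lc_e_rc_13_3 lc_e_Cert_tree lc_e_Cert_tree lc_e_rc_18_1 lc_e_rc_18_1 lc_e_Cert_tree lc_e_rc_18_1 lc_e_rc_16_1 lc_e_Cert_tree lc_e_Cert_tree lc_e_rc_18_1 lc_e_Cert_tree lc_e_rc_18_1 lc_e_Cert_tree lc_e_rc_16_3 lc_e_rc_13_3 lc_e_Cert_tree lc_e_Cert_tree lc_e_rc_13_3 lc_e_Cert_tree lc_e_Cert_tree lc_e_rc_18_1 lc_e_Cert_tree lc_e_Cert_tree lc_e_rc_18_1 lc_e_rc_13_3) (@D3.rec (fun _ => (Cert rels S Gen.e)) lc_e_Cert_tree lc_e_rc_4_3 lc_e_Cert_tree lc_e_Cert_tree lc_e_rc_18_1 lc_e_rc_4_3 lc_e_rc_18_1 lc_e_Cert_tree lc_e_rc_18_1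 lc_e_Cert_tree lc_e_rc_18_1 lc_e_rc_18_1 lc_e_rc_19_4 lc_e_rc_18_1 lc_e_rc_19_4 lc_e_rc_16_5 lc_e_rc_18_1 lc_e_rc_16_5 lc_e_rc_4_1 lc_e_rc_18_1 lc_e_Cert_tree lc_e_Cert_tree lc_e_rc_18_1 lc_e_rc_18_1 lc_e_rc_18_1 lc_e_rc_18_1 lc_e_Cert_tree lc_e_rc_18_1 lc_e_rc_16_1 lc_e_rc_18_1 lc_e_rc_9_1 lc_e_rc_18_1 lc_e_Cert_tree lc_e_rc_18_1 lc_e_rc_16_1 lc_e_rc_27_5 lc_e_rc_18_1 lc_e_Cert_tree lc_e_rc_13_3 lc_e_rc_9_3 lc_e_rc_18_1 lc_e_Cert_tree lc_e_rc_16_1 lc_e_Cert_tree lc_e_rc_18_1 lc_e_rc_16_5 lc_e_rc_18_1 lc_e_Cert_tree lc_e_rc_16_1 lc_e_Cert_tree lc_e_rc_18_1 lc_e_rc_16_5 lc_e_Cert_tree lc_e_Cert_tree lc_e_rc_13_3 lc_e_rc_19_4 lc_e_rc_16_3 lc_e_Cert_tree lc_e_rc_18_1 lc_e_rc_9_3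 lc_e_rc_18_1 lc_e_rc_19_4) (@D3.rec (fun _ => (Cert rels S Gen.e)) lc_e_rc_18_1 lc_e_rc_18_1 lc_e_rc_18_1 lc_e_rc_27_7 lc_e_Cert_tree lc_e_rc_18_1 lc_e_rc_16_5 lc_e_Cert_tree lc_e_rc_16_1 lc_e_rc_9_3 lc_e_rc_18_1 lc_e_rc_13_3 lc_e_rc_16_3 lc_e_Cert_tree lc_e_rc_18_1 lc_e_Cert_tree lc_e_rc_18_1 lc_e_Cert_tree lc_e_rc_16_5 lc_e_rc_19_4 lc_e_rc_18_1 lc_e_rc_13_3 lc_e_rc_19_2 lc_e_rc_18_1 lc_e_rc_27_5 lc_e_rc_16_1 lc_e_rc_19_2 lc_e_rc_18_1 lc_e_rc_18_1 lc_e_rc_18_1 lc_e_Cert_tree lc_e_rc_16_1 lc_e_rc_13_3 lc_e_Cert_tree lc_e_Cert_tree lc_e_rc_16_5 lc_e_rc_13_3 lc_e_Cert_tree lc_e_rc_18_1 lc_e_rc_18_1 lc_e_Cert_tree lc_e_Cert_tree lc_e_rc_16_1 lc_e_rc_18_1 lc_e_Cert_tree lc_e_rc_27_5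 lc_e_rc_18_1 lc_e_rc_18_1 lc_e_rc_13_3 lc_e_Cert_tree lc_e_Cert_tree lc_e_rc_18_1 lc_e_rc_13_3 lc_e_rc_16_5 lc_e_rc_18_1 lc_e_Cert_tree lc_e_rc_18_1 lc_e_rc_18_1 lc_e_rc_18_1 lc_e_Cert_tree lc_e_rc_18_1 lc_e_rc_16_1) (@D3.rec (fun _ => (Cert rels S Gen.e)) lc_e_rc_19_4 lc_e_rc_4_1 lc_e_Cert_tree lc_e_rc_18_1 lc_e_rc_18_1 lc_e_rc_4_3 lc_e_Cert_tree lc_e_rc_27_5 lc_e_rc_18_1 lc_e_rc_18_1 lc_e_rc_18_1 lc_e_rc_27_5 lc_e_rc_16_3 lc_e_rc_19_4 lc_e_Cert_tree lc_e_rc_18_1 lc_e_rc_18_1 lc_e_Cert_tree lc_e_rc_27_1 lc_e_rc_16_3 lc_e_rc_19_4 lc_e_rc_9_3 lc_e_rc_4_3 lc_e_rc_9_3 lc_e_rc_27_5 lc_e_rc_18_1 lc_e_rc_13_3 lc_e_rc_27_7 lc_e_rc_18_1 lc_e_rc_18_1 lc_e_Cert_tree lc_e_Cert_tree lc_e_rc_16_1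 lc_e_rc_19_4 lc_e_rc_9_3 lc_e_rc_19_2 lc_e_Cert_tree lc_e_rc_27_5 lc_e_rc_18_1 lc_e_Cert_tree lc_e_rc_13_3 lc_e_rc_27_5 lc_e_Cert_tree lc_e_rc_18_1 lc_e_rc_18_1 lc_e_rc_16_1 lc_e_rc_19_4 lc_e_Cert_tree lc_e_Cert_tree lc_e_Cert_tree lc_e_rc_18_1 lc_e_rc_18_1 lc_e_rc_18_1 lc_e_rc_16_1 lc_e_rc_19_4 lc_e_Cert_tree lc_e_rc_18_1 lc_e_rc_18_1 lc_e_Cert_tree lc_e_Cert_tree lc_e_rc_16_1 lc_e_rc_19_4) (@D3.rec (fun _ => (Cert rels S Gen.e)) lc_e_rc_9_1 lc_e_Cert_tree lc_e_Cert_tree lc_e_rc_18_1 lc_e_rc_9_1 lc_e_rc_9_3 lc_e_rc_9_3 lc_e_rc_18_1 lc_e_rc_16_5 lc_e_rc_18_1 lc_e_rc_13_3 lc_e_Cert_tree lc_e_rc_9_1 lc_e_Cert_tree lc_e_rc_4_1 lc_e_rc_27_1 lc_e_rc_18_1 lc_e_rc_18_1 lc_e_rc_4_3 lc_e_Cert_tree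 lc_e_rc_18_1 lc_e_Cert_tree lc_e_rc_9_3 lc_e_Cert_tree lc_e_rc_18_1 lc_e_rc_9_1 lc_e_rc_27_5 lc_e_rc_27_1 lc_e_Cert_tree lc_e_rc_27_5 lc_e_rc_18_1 lc_e_rc_18_1 lc_e_Cert_tree lc_e_rc_18_1 lc_e_Cert_tree lc_e_rc_18_1 lc_e_rc_19_4 lc_e_Cert_tree lc_e_Cert_tree lc_e_rc_18_1 lc_e_Cert_tree lc_e_rc_18_1 lc_e_rc_9_3 lc_e_Cert_tree lc_e_rc_13_3 lc_e_rc_9_3 lc_e_Cert_tree lc_e_rc_27_7 lc_e_rc_18_1 lc_e_Cert_tree lc_e_rc_18_1 lc_e_rc_16_3 lc_e_rc_19_4 lc_e_Cert_tree lc_e_rc_18_1 lc_e_rc_18_1 lc_e_Cert_tree lc_e_rc_18_1 lc_e_rc_4_3 lc_e_Cert_tree lc_e_rc_16_1 lc_e_rc_19_4) (@D3.rec (fun _ => (Cert rels S Gen.e)) lc_e_Cert_tree lc_e_rc_19_0 lc_e_Cert_tree lc_e_rc_18_1 lc_e_rc_19_4 lc_e_rc_13_3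 lc_e_rc_16_3 lc_e_rc_16_5 lc_e_rc_16_1 lc_e_rc_16_5 lc_e_rc_13_1 lc_e_rc_18_1 lc_e_rc_9_3 lc_e_rc_18_1 lc_e_Cert_tree lc_e_rc_27_7 lc_e_rc_18_1 lc_e_rc_4_1 lc_e_Cert_tree lc_e_rc_18_1 lc_e_rc_9_3 lc_e_rc_18_1 lc_e_rc_18_1 lc_e_rc_4_3 lc_e_rc_19_0 lc_e_Cert_tree lc_e_Cert_tree lc_e_rc_27_1 lc_e_rc_18_1 lc_e_rc_4_1 lc_e_rc_19_4 lc_e_rc_27_5 lc_e_Cert_tree lc_e_rc_19_4 lc_e_Cert_tree lc_e_rc_16_5 lc_e_rc_27_5 lc_e_rc_18_1 lc_e_rc_16_1 lc_e_rc_18_1 lc_e_rc_9_1 lc_e_rc_18_1 lc_e_rc_9_3 lc_e_Cert_tree lc_e_rc_18_1 lc_e_rc_18_1 lc_e_Cert_tree lc_e_rc_16_3 lc_e_rc_18_1 lc_e_rc_4_3 lc_e_Cert_tree lc_e_rc_18_1 lc_e_rc_4_1 lc_e_rc_27_1 lc_e_rc_13_3 lc_e_rc_4_3 lc_e_Cert_tree lc_e_rc_9_3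 lc_e_rc_19_2 lc_e_rc_9_3 lc_e_rc_13_1 lc_e_Cert_tree) (@D3.rec (fun _ => (Cert rels S Gen.e)) lc_e_rc_19_0 lc_e_rc_27_5 lc_e_rc_27_7 lc_e_Cert_tree lc_e_Cert_tree lc_e_rc_18_1 lc_e_rc_19_4 lc_e_rc_18_1 lc_e_rc_9_3 lc_e_rc_19_4 lc_e_Cert_tree lc_e_rc_16_5 lc_e_Cert_tree lc_e_rc_18_1 lc_e_Cert_tree lc_e_rc_18_1 lc_e_Cert_tree lc_e_rc_27_1 lc_e_rc_19_4 lc_e_Cert_tree lc_e_rc_18_1 lc_e_Cert_tree lc_e_rc_18_1 lc_e_rc_18_1 lc_e_rc_27_7 lc_e_rc_19_4 lc_e_rc_27_5 lc_e_rc_18_1 lc_e_Cert_tree lc_e_rc_18_1 lc_e_rc_18_1 lc_e_rc_27_5 lc_e_rc_19_4 lc_e_Cert_tree lc_e_rc_18_1 lc_e_Cert_tree lc_e_rc_18_1 lc_e_rc_18_1 lc_e_rc_9_3 lc_e_rc_4_3 lc_e_rc_16_3 lc_e_rc_19_4 lc_e_Cert_tree lc_e_rc_18_1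 lc_e_rc_27_7 lc_e_rc_16_3 lc_e_rc_19_4 lc_e_rc_27_7 lc_e_rc_18_1 lc_e_Cert_tree lc_e_Cert_tree lc_e_rc_19_4 lc_e_Cert_tree lc_e_Cert_tree lc_e_rc_18_1 lc_e_rc_16_5 lc_e_rc_4_3 lc_e_rc_18_1 lc_e_rc_27_1 lc_e_rc_27_1 lc_e_Cert_tree lc_e_rc_4_1) (@D3.rec (fun _ => (Cert rels S Gen.e)) lc_e_rc_13_1 lc_e_rc_18_1 lc_e_Cert_tree lc_e_Cert_tree lc_e_Cert_tree lc_e_rc_18_1 lc_e_rc_13_3 lc_e_Cert_tree lc_e_rc_9_1 lc_e_rc_4_3 lc_e_rc_18_1 lc_e_Cert_tree lc_e_rc_9_1 lc_e_rc_19_4 lc_e_rc_13_3 lc_e_rc_27_1 lc_e_rc_16_3 lc_e_Cert_tree lc_e_rc_18_1 lc_e_rc_18_1 lc_e_rc_27_5 lc_e_rc_4_3 lc_e_rc_13_3 lc_e_rc_4_3 lc_e_rc_18_1 lc_e_rc_18_1 lc_e_rc_18_1 lc_e_Cert_tree lc_e_Cert_tree lc_e_rc_4_3 lc_e_rc_19_4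 lc_e_rc_18_1 lc_e_rc_9_3 lc_e_Cert_tree lc_e_Cert_tree lc_e_rc_9_3 lc_e_rc_18_1 lc_e_rc_19_2 lc_e_rc_27_5 lc_e_rc_18_1 lc_e_rc_9_3 lc_e_Cert_tree lc_e_rc_18_1 lc_e_rc_9_3 lc_e_rc_18_1 lc_e_rc_18_1 lc_e_rc_16_3 lc_e_rc_27_7 lc_e_Cert_tree lc_e_rc_9_3 lc_e_rc_16_3 lc_e_rc_13_3 lc_e_rc_16_1 lc_e_rc_13_1 lc_e_rc_13_3 lc_e_rc_27_5 lc_e_rc_13_3 lc_e_rc_9_3 lc_e_Cert_tree lc_e_rc_27_1 lc_e_Cert_tree lc_e_Cert_tree) (@D3.rec (fun _ => (Cert rels S Gen.e)) lc_e_Cert_tree lc_e_rc_18_1 lc_e_rc_18_1 lc_e_Cert_tree lc_e_rc_13_3 lc_e_rc_16_1 lc_e_rc_19_4 lc_e_Cert_tree lc_e_rc_18_1 lc_e_rc_19_4 lc_e_rc_18_1 lc_e_rc_4_3 lc_e_Cert_tree lc_e_rc_18_1 lc_e_rc_4_1 lc_e_rc_27_5 lc_e_rc_19_4 lc_e_Cert_tree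 lc_e_rc_18_1 lc_e_rc_16_1 lc_e_rc_13_3 lc_e_Cert_tree lc_e_Cert_tree lc_e_rc_4_3 lc_e_Cert_tree lc_e_rc_18_1 lc_e_Cert_tree lc_e_Cert_tree lc_e_rc_18_1 lc_e_rc_18_1 lc_e_rc_16_1 lc_e_Cert_tree lc_e_rc_18_1 lc_e_rc_18_1 lc_e_Cert_tree lc_e_rc_18_1 lc_e_Cert_tree lc_e_rc_13_1 lc_e_rc_16_1 lc_e_rc_19_4 lc_e_Cert_tree lc_e_rc_18_1 lc_e_Cert_tree lc_e_Cert_tree lc_e_rc_16_1 lc_e_rc_19_4 lc_e_Cert_tree lc_e_Cert_tree lc_e_rc_18_1 lc_e_rc_13_3 lc_e_rc_18_1 lc_e_rc_18_1 lc_e_Cert_tree lc_e_Cert_tree lc_e_rc_13_3 lc_e_Cert_tree lc_e_rc_18_1 lc_e_rc_13_1 lc_e_Cert_tree lc_e_rc_18_1 lc_e_Cert_tree lc_e_rc_18_1) (@D3.rec (fun _ => (Cert rels S Gen.e)) lc_e_rc_19_2 lc_e_rc_27_7 lc_e_rc_13_3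 lc_e_Cert_tree lc_e_rc_18_1 lc_e_rc_27_1 lc_e_rc_4_1 lc_e_rc_19_4 lc_e_Cert_tree lc_e_Cert_tree lc_e_rc_18_1 lc_e_Cert_tree lc_e_rc_16_5 lc_e_rc_18_1 lc_e_rc_9_3 lc_e_Cert_tree lc_e_rc_13_3 lc_e_rc_27_7 lc_e_rc_18_1 lc_e_rc_18_1 lc_e_rc_16_5 lc_e_rc_13_1 lc_e_rc_27_5 lc_e_rc_18_1 lc_e_rc_4_3 lc_e_rc_18_1 lc_e_rc_27_5 lc_e_rc_18_1 lc_e_Cert_tree lc_e_rc_9_3 lc_e_rc_18_1 lc_e_rc_19_0 lc_e_rc_4_3 lc_e_Cert_tree lc_e_Cert_tree lc_e_rc_18_1 lc_e_rc_18_1 lc_e_Cert_tree lc_e_rc_18_1 lc_e_rc_16_5 lc_e_rc_18_1 lc_e_rc_27_7 lc_e_Cert_tree lc_e_rc_9_3 lc_e_rc_13_3 lc_e_rc_18_1 lc_e_rc_16_1 lc_e_rc_13_3 lc_e_rc_9_3 lc_e_rc_18_1 lc_e_rc_4_3 lc_e_Cert_tree lc_e_rc_18_1 lc_e_Cert_tree lc_e_rc_18_1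 lc_e_Cert_tree lc_e_Cert_tree lc_e_rc_27_5 lc_e_rc_13_3 lc_e_rc_18_1 lc_e_rc_13_3 lc_e_rc_13_3) (@D3.rec (fun _ => (Cert rels S Gen.e)) lc_e_rc_27_1 lc_e_rc_27_5 lc_e_Cert_tree lc_e_rc_18_1 lc_e_rc_18_1 lc_e_rc_13_3 lc_e_rc_13_3 lc_e_rc_18_1 lc_e_rc_13_3 lc_e_rc_9_1 lc_e_rc_27_5 lc_e_rc_4_3 lc_e_rc_9_3 lc_e_Cert_tree lc_e_rc_18_1 lc_e_rc_27_7 lc_e_rc_9_3 lc_e_rc_27_7 lc_e_rc_16_3 lc_e_rc_9_3 lc_e_rc_9_3 lc_e_Cert_tree lc_e_rc_18_1 lc_e_rc_9_3 lc_e_rc_9_3 lc_e_Cert_tree lc_e_Cert_tree lc_e_rc_4_3 lc_e_rc_18_1 lc_e_rc_18_1 lc_e_rc_27_7 lc_e_rc_13_3 lc_e_rc_18_1 lc_e_rc_9_3 lc_e_rc_13_3 lc_e_rc_27_5 lc_e_Cert_tree lc_e_rc_19_2 lc_e_rc_18_1 lc_e_rc_13_3 lc_e_rc_18_1 lc_e_rc_18_1 lc_e_rc_9_3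 lc_e_rc_27_7 lc_e_rc_13_3 lc_e_rc_27_7 lc_e_Cert_tree lc_e_rc_13_3 lc_e_rc_4_3 lc_e_rc_19_4 lc_e_rc_13_3 lc_e_Cert_tree lc_e_rc_27_5 lc_e_rc_9_3 lc_e_rc_4_3 lc_e_Cert_tree lc_e_rc_18_1 lc_e_Cert_tree lc_e_Cert_tree lc_e_rc_18_1 lc_e_rc_18_1 lc_e_rc_19_2) (@D3.rec (fun _ => (Cert rels S Gen.e)) lc_e_Cert_tree lc_e_rc_27_1 lc_e_Cert_tree lc_e_rc_18_1 lc_e_rc_16_5 lc_e_rc_4_3 lc_e_rc_19_4 lc_e_Cert_tree lc_e_rc_18_1 lc_e_Cert_tree lc_e_Cert_tree lc_e_rc_18_1 lc_e_Cert_tree lc_e_rc_18_1 lc_e_rc_19_4 lc_e_Cert_tree lc_e_Cert_tree lc_e_rc_18_1 lc_e_rc_18_1 lc_e_rc_16_3 lc_e_Cert_tree lc_e_rc_18_1 lc_e_rc_19_2 lc_e_rc_16_5 lc_e_rc_9_1 lc_e_rc_16_3 lc_e_Cert_tree lc_e_rc_18_1 lc_e_rc_18_1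 lc_e_Cert_tree lc_e_Cert_tree lc_e_rc_19_4 lc_e_rc_9_1 lc_e_Cert_tree lc_e_rc_18_1 lc_e_rc_13_3 lc_e_Cert_tree lc_e_rc_18_1 lc_e_Cert_tree lc_e_Cert_tree lc_e_Cert_tree lc_e_rc_18_1 lc_e_rc_18_1 lc_e_rc_18_1 lc_e_rc_18_1 lc_e_rc_16_1 lc_e_rc_9_3 lc_e_rc_18_1 lc_e_rc_16_1 lc_e_rc_18_1 lc_e_rc_13_3 lc_e_Cert_tree lc_e_rc_18_1 lc_e_Cert_tree lc_e_rc_27_5 lc_e_rc_13_3 lc_e_rc_16_3 lc_e_rc_16_3 lc_e_rc_4_1 lc_e_rc_18_1 lc_e_rc_16_3 lc_e_rc_27_5) (@D3.rec (fun _ => (Cert rels S Gen.e)) lc_e_rc_16_1 lc_e_rc_18_1 lc_e_rc_9_3 lc_e_rc_27_5 lc_e_rc_27_1 lc_e_Cert_tree lc_e_Cert_tree lc_e_rc_9_3 lc_e_rc_19_2 lc_e_rc_18_1 lc_e_rc_19_0 lc_e_rc_27_1 lc_e_rc_18_1 lc_e_rc_18_1 lc_e_rc_27_1 lc_e_rc_13_3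 lc_e_rc_9_3 lc_e_rc_18_1 lc_e_rc_13_3 lc_e_rc_9_3 lc_e_rc_27_7 lc_e_rc_13_3 lc_e_rc_16_1 lc_e_Cert_tree lc_e_Cert_tree lc_e_rc_18_1 lc_e_rc_13_3 lc_e_rc_4_3 lc_e_rc_9_3 lc_e_rc_27_1 lc_e_rc_13_3 lc_e_Cert_tree lc_e_rc_9_1 lc_e_rc_18_1 lc_e_Cert_tree lc_e_rc_18_1 lc_e_rc_9_3 lc_e_rc_18_1 lc_e_rc_4_3 lc_e_rc_27_5 lc_e_rc_18_1 lc_e_rc_27_7 lc_e_rc_4_3 lc_e_rc_19_4 lc_e_rc_4_3 lc_e_rc_18_1 lc_e_rc_19_4 lc_e_rc_19_4 lc_e_rc_16_1 lc_e_rc_19_0 lc_e_rc_16_3 lc_e_rc_13_3 lc_e_rc_27_1 lc_e_rc_16_5 lc_e_rc_13_3 lc_e_rc_27_5 lc_e_rc_9_3 lc_e_rc_13_3 lc_e_rc_9_3 lc_e_Cert_tree lc_e_rc_18_1 lc_e_rc_16_5) (@D3.rec (fun _ => (Cert rels S Gen.e)) lc_e_rc_16_3 lc_e_Cert_tree lc_e_Cert_tree lc_e_rc_18_1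 lc_e_rc_16_3 lc_e_Cert_tree lc_e_rc_13_3 lc_e_rc_16_3 lc_e_Cert_tree lc_e_rc_13_1 lc_e_rc_18_1 lc_e_rc_18_1 lc_e_rc_18_1 lc_e_rc_13_1 lc_e_rc_16_3 lc_e_rc_19_2 lc_e_rc_27_5 lc_e_rc_13_3 lc_e_rc_4_1 lc_e_Cert_tree lc_e_rc_9_3 lc_e_rc_16_1 lc_e_rc_19_4 lc_e_Cert_tree lc_e_Cert_tree lc_e_rc_18_1 lc_e_Cert_tree lc_e_rc_18_1 lc_e_Cert_tree lc_e_Cert_tree lc_e_rc_13_3 lc_e_Cert_tree lc_e_rc_18_1 lc_e_Cert_tree lc_e_Cert_tree lc_e_rc_18_1 lc_e_Cert_tree lc_e_rc_18_1 lc_e_rc_27_5 lc_e_rc_18_1 lc_e_Cert_tree lc_e_rc_18_1 lc_e_rc_27_7 lc_e_Cert_tree lc_e_rc_18_1 lc_e_rc_19_4 lc_e_rc_16_3 lc_e_rc_18_1 lc_e_rc_13_3 lc_e_rc_9_3 lc_e_Cert_tree lc_e_rc_4_3 lc_e_Cert_tree lc_e_rc_18_1 lc_e_rc_16_3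 lc_e_rc_18_1 lc_e_rc_16_1 lc_e_rc_19_2 lc_e_rc_19_4 lc_e_rc_18_1 lc_e_rc_13_3 lc_e_Cert_tree) (@D3.rec (fun _ => (Cert rels S Gen.e)) lc_e_Cert_tree lc_e_rc_18_1 lc_e_rc_16_3 lc_e_Cert_tree lc_e_rc_18_1 lc_e_rc_18_1 lc_e_rc_13_3 lc_e_rc_18_1 lc_e_rc_18_1 lc_e_rc_16_1 lc_e_rc_13_1 lc_e_rc_13_3 lc_e_Cert_tree lc_e_rc_18_1 lc_e_rc_18_1 lc_e_rc_18_1 lc_e_Cert_tree lc_e_Cert_tree lc_e_rc_16_1 lc_e_Cert_tree lc_e_rc_18_1 lc_e_Cert_tree lc_e_rc_18_1 lc_e_rc_18_1 lc_e_Cert_tree lc_e_rc_16_1 lc_e_rc_19_2 lc_e_rc_13_3 lc_e_Cert_tree lc_e_Cert_tree lc_e_Cert_tree lc_e_rc_9_1 lc_e_rc_4_3 lc_e_rc_18_1 lc_e_Cert_tree lc_e_rc_18_1 lc_e_rc_16_5 lc_e_Cert_tree lc_e_rc_18_1 lc_e_Cert_tree lc_e_rc_18_1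 lc_e_rc_13_3 lc_e_rc_19_4 lc_e_rc_4_1 lc_e_rc_27_1 lc_e_Cert_tree lc_e_Cert_tree lc_e_rc_18_1 lc_e_rc_18_1 lc_e_rc_13_3 lc_e_rc_19_4 lc_e_rc_13_3 lc_e_rc_19_2 lc_e_rc_13_3 lc_e_Cert_tree lc_e_rc_18_1 lc_e_rc_18_1 lc_e_rc_19_4 lc_e_rc_16_1 lc_e_rc_27_7 lc_e_rc_13_3 lc_e_rc_27_5) (@D3.rec (fun _ => (Cert rels S Gen.e)) lc_e_Cert_tree lc_e_Cert_tree lc_e_rc_18_1 lc_e_rc_18_1 lc_e_rc_18_1 lc_e_rc_13_3 lc_e_Cert_tree lc_e_rc_18_1 lc_e_Cert_tree lc_e_rc_18_1 lc_e_rc_18_1 lc_e_rc_16_1 lc_e_Cert_tree lc_e_rc_27_7 lc_e_rc_18_1 lc_e_rc_18_1 lc_e_Cert_tree lc_e_Cert_tree lc_e_rc_18_1 lc_e_Cert_tree lc_e_rc_18_1 lc_e_Cert_tree lc_e_Cert_tree lc_e_rc_18_1 lc_e_rc_27_5 lc_e_Cert_tree lc_e_rc_16_1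 lc_e_rc_9_3 lc_e_Cert_tree lc_e_rc_16_1 lc_e_rc_19_4 lc_e_rc_9_3 lc_e_Cert_tree lc_e_Cert_tree lc_e_rc_18_1 lc_e_Cert_tree lc_e_Cert_tree lc_e_rc_13_3 lc_e_Cert_tree lc_e_Cert_tree lc_e_Cert_tree lc_e_rc_18_1 lc_e_Cert_tree lc_e_Cert_tree lc_e_rc_18_1 lc_e_rc_16_1 lc_e_rc_27_7 lc_e_rc_13_1 lc_e_rc_27_7 lc_e_Cert_tree lc_e_rc_18_1 lc_e_rc_18_1 lc_e_rc_16_3 lc_e_Cert_tree lc_e_rc_18_1 lc_e_rc_16_3 lc_e_Cert_tree lc_e_rc_18_1 lc_e_Cert_tree lc_e_rc_18_1 lc_e_rc_18_1 lc_e_rc_18_1) (@D3.rec (fun _ => (Cert rels S Gen.e)) lc_e_Cert_tree lc_e_Cert_tree lc_e_rc_9_3 lc_e_rc_13_3 lc_e_Cert_tree lc_e_rc_18_1 lc_e_rc_18_1 lc_e_rc_27_5 lc_e_Cert_tree lc_e_Cert_tree lc_e_rc_18_1 lc_e_rc_19_4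 lc_e_rc_27_7 lc_e_rc_18_1 lc_e_Cert_tree lc_e_Cert_tree lc_e_rc_18_1 lc_e_rc_18_1 lc_e_rc_27_5 lc_e_rc_27_7 lc_e_rc_18_1 lc_e_rc_27_5 lc_e_rc_13_3 lc_e_rc_4_3 lc_e_rc_13_3 lc_e_rc_9_3 lc_e_rc_27_1 lc_e_rc_27_1 lc_e_rc_27_1 lc_e_rc_27_1 lc_e_rc_16_5 lc_e_rc_9_1 lc_e_rc_18_1 lc_e_rc_13_3 lc_e_Cert_tree lc_e_rc_18_1 lc_e_rc_18_1 lc_e_Cert_tree lc_e_rc_18_1 lc_e_rc_13_3 lc_e_Cert_tree lc_e_rc_18_1 lc_e_rc_13_3 lc_e_rc_9_3 lc_e_rc_19_2 lc_e_rc_9_3 lc_e_rc_16_5 lc_e_rc_16_3 lc_e_Cert_tree lc_e_Cert_tree lc_e_rc_27_5 lc_e_rc_4_3 lc_e_rc_27_5 lc_e_rc_18_1 lc_e_Cert_tree lc_e_rc_18_1 lc_e_Cert_tree lc_e_rc_18_1 lc_e_rc_16_1 lc_e_rc_4_1 lc_e_rc_9_3 lc_e_rc_13_3) (@D3.rec (fun _ => (Cert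 rels S Gen.e)) lc_e_rc_27_5 lc_e_rc_18_1 lc_e_rc_27_5 lc_e_Cert_tree lc_e_Cert_tree lc_e_rc_18_1 lc_e_Cert_tree lc_e_rc_4_3 lc_e_rc_19_4 lc_e_rc_18_1 lc_e_rc_9_3 lc_e_Cert_tree lc_e_rc_18_1 lc_e_rc_27_1 lc_e_Cert_tree lc_e_rc_18_1 lc_e_Cert_tree lc_e_Cert_tree lc_e_rc_18_1 lc_e_Cert_tree lc_e_Cert_tree lc_e_rc_9_3 lc_e_rc_19_2 lc_e_rc_19_2 lc_e_Cert_tree lc_e_rc_27_1 lc_e_Cert_tree lc_e_Cert_tree lc_e_rc_18_1 lc_e_rc_18_1 lc_e_rc_13_3 lc_e_rc_18_1 lc_e_rc_4_3 lc_e_Cert_tree lc_e_rc_18_1 lc_e_Cert_tree lc_e_Cert_tree lc_e_rc_18_1 lc_e_rc_16_1 lc_e_rc_16_1 lc_e_rc_18_1 lc_e_Cert_tree lc_e_Cert_tree lc_e_rc_13_1 lc_e_rc_19_4 lc_e_rc_27_1 lc_e_rc_9_1 lc_e_Cert_tree lc_e_rc_18_1 lc_e_Cert_tree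 lc_e_rc_18_1 lc_e_rc_4_1 lc_e_rc_16_1 lc_e_rc_19_4 lc_e_Cert_tree lc_e_rc_19_4 lc_e_rc_18_1 lc_e_Cert_tree lc_e_rc_18_1 lc_e_rc_16_1 lc_e_rc_18_1 lc_e_rc_27_1) (@D3.rec (fun _ => (Cert rels S Gen.e)) lc_e_rc_19_4 lc_e_rc_16_1 lc_e_rc_19_4 lc_e_Cert_tree lc_e_rc_18_1 lc_e_rc_13_3 lc_e_rc_13_3 lc_e_Cert_tree lc_e_rc_18_1 lc_e_Cert_tree lc_e_Cert_tree lc_e_rc_16_1 lc_e_rc_19_4 lc_e_rc_13_3 lc_e_rc_13_3 lc_e_Cert_tree lc_e_Cert_tree lc_e_Cert_tree lc_e_rc_18_1 lc_e_Cert_tree lc_e_Cert_tree lc_e_rc_13_3 lc_e_Cert_tree lc_e_Cert_tree lc_e_Cert_tree lc_e_rc_18_1 lc_e_rc_18_1 lc_e_Cert_tree lc_e_rc_16_3 lc_e_rc_19_4 lc_e_rc_18_1 lc_e_rc_13_3 lc_e_Cert_tree lc_e_rc_19_4 lc_e_Cert_tree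 lc_e_Cert_tree lc_e_rc_18_1 lc_e_Cert_tree lc_e_rc_18_1 lc_e_rc_16_3 lc_e_rc_19_4 lc_e_Cert_tree lc_e_rc_19_0 lc_e_Cert_tree lc_e_rc_18_1 lc_e_rc_16_5 lc_e_rc_13_3 lc_e_rc_27_7 lc_e_Cert_tree lc_e_Cert_tree lc_e_rc_13_3 lc_e_Cert_tree lc_e_rc_18_1 lc_e_rc_9_3 lc_e_rc_18_1 lc_e_rc_16_3 lc_e_rc_13_3 lc_e_Cert_tree lc_e_rc_18_1 lc_e_rc_19_0 lc_e_rc_19_0 lc_e_Cert_tree) (@D3.rec (fun _ => (Cert rels S Gen.e)) lc_e_rc_18_1 lc_e_rc_16_1 lc_e_rc_4_1 lc_e_rc_27_7 lc_e_Cert_tree lc_e_Cert_tree lc_e_rc_18_1 lc_e_rc_18_1 lc_e_Cert_tree lc_e_rc_18_1 lc_e_rc_16_1 lc_e_rc_19_2 lc_e_Cert_tree lc_e_Cert_tree lc_e_rc_18_1 lc_e_Cert_tree lc_e_Cert_tree lc_e_rc_18_1 lc_e_rc_27_5 lc_e_Cert_tree lc_e_rc_9_3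 lc_e_Cert_tree lc_e_Cert_tree lc_e_rc_18_1 lc_e_rc_16_3 lc_e_Cert_tree lc_e_Cert_tree lc_e_rc_18_1 lc_e_rc_16_5 lc_e_Cert_tree lc_e_Cert_tree lc_e_rc_13_3 lc_e_rc_18_1 lc_e_rc_27_5 lc_e_rc_9_1 lc_e_Cert_tree lc_e_rc_18_1 lc_e_rc_4_1 lc_e_rc_27_7 lc_e_rc_18_1 lc_e_rc_18_1 lc_e_rc_9_3 lc_e_Cert_tree lc_e_Cert_tree lc_e_rc_18_1 lc_e_Cert_tree lc_e_rc_18_1 lc_e_rc_27_5 lc_e_rc_16_1 lc_e_rc_13_3 lc_e_rc_4_3 lc_e_rc_27_5 lc_e_Cert_tree lc_e_Cert_tree lc_e_rc_18_1 lc_e_rc_19_2 lc_e_rc_18_1 lc_e_rc_4_1 lc_e_rc_16_1 lc_e_rc_27_7 lc_e_rc_18_1 lc_e_rc_13_3) (@D3.rec (fun _ => (Cert rels S Gen.e)) lc_e_rc_27_7 lc_e_rc_4_3 lc_e_rc_9_3 lc_e_Cert_tree lc_e_rc_18_1 lc_e_rc_13_3 lc_e_rc_9_3 lc_e_Cert_tree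 lc_e_Cert_tree lc_e_Cert_tree lc_e_rc_18_1 lc_e_rc_18_1 lc_e_rc_9_3 lc_e_Cert_tree lc_e_rc_27_5 lc_e_Cert_tree lc_e_Cert_tree lc_e_rc_18_1 lc_e_rc_4_3 lc_e_Cert_tree lc_e_Cert_tree lc_e_rc_27_1 lc_e_rc_4_3 lc_e_Cert_tree lc_e_Cert_tree lc_e_Cert_tree lc_e_Cert_tree lc_e_rc_18_1 lc_e_rc_27_5 lc_e_rc_13_3 lc_e_rc_18_1 lc_e_rc_16_3 lc_e_rc_13_3 lc_e_rc_13_3 lc_e_rc_16_3 lc_e_rc_16_1 lc_e_rc_9_3 lc_e_Cert_tree lc_e_rc_9_3 lc_e_Cert_tree lc_e_Cert_tree lc_e_rc_16_5 lc_e_rc_13_3 lc_e_Cert_tree lc_e_Cert_tree lc_e_rc_27_7 lc_e_rc_13_3 lc_e_rc_9_3 lc_e_Cert_tree lc_e_rc_19_2 lc_e_rc_13_3 lc_e_rc_13_3 lc_e_Cert_tree lc_e_rc_13_3 lc_e_rc_9_3 lc_e_rc_4_1 lc_e_rc_13_3 lc_e_rc_19_0 lc_e_rc_27_1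 lc_e_rc_13_3 lc_e_rc_9_3 lc_e_rc_18_1) (@D3.rec (fun _ => (Cert rels S Gen.e)) lc_e_rc_16_1 lc_e_rc_13_1 lc_e_rc_18_1 lc_e_Cert_tree lc_e_Cert_tree lc_e_rc_4_3 lc_e_Cert_tree lc_e_rc_19_4 lc_e_rc_18_1 lc_e_Cert_tree lc_e_rc_18_1 lc_e_rc_18_1 lc_e_rc_16_3 lc_e_rc_13_3 lc_e_rc_4_3 lc_e_rc_13_3 lc_e_rc_27_7 lc_e_rc_18_1 lc_e_rc_16_1 lc_e_rc_9_3 lc_e_rc_16_5 lc_e_rc_16_3 lc_e_Cert_tree lc_e_Cert_tree lc_e_rc_13_3 lc_e_rc_16_1 lc_e_rc_13_3 lc_e_rc_16_5 lc_e_rc_18_1 lc_e_rc_19_2 lc_e_rc_16_3 lc_e_rc_18_1 lc_e_rc_27_7 lc_e_rc_13_3 lc_e_Cert_tree lc_e_rc_18_1 lc_e_rc_9_3 lc_e_Cert_tree lc_e_rc_19_4 lc_e_rc_9_3 lc_e_Cert_tree lc_e_rc_18_1 lc_e_rc_9_3 lc_e_rc_13_3 lc_e_rc_18_1 lc_e_Cert_tree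 lc_e_rc_18_1 lc_e_Cert_tree lc_e_rc_27_1 lc_e_rc_4_3 lc_e_rc_16_3 lc_e_Cert_tree lc_e_rc_18_1 lc_e_rc_18_1 lc_e_Cert_tree lc_e_rc_19_4 lc_e_Cert_tree lc_e_Cert_tree lc_e_rc_18_1 lc_e_Cert_tree lc_e_rc_18_1 lc_e_Cert_tree) (@D3.rec (fun _ => (Cert rels S Gen.e)) lc_e_Cert_tree lc_e_rc_18_1 lc_e_rc_18_1 lc_e_Cert_tree lc_e_rc_18_1 lc_e_rc_16_1 lc_e_rc_19_4 lc_e_rc_19_2 lc_e_rc_18_1 lc_e_rc_18_1 lc_e_Cert_tree lc_e_rc_18_1 lc_e_rc_4_3 lc_e_rc_19_4 lc_e_rc_16_3 lc_e_rc_19_4 lc_e_Cert_tree lc_e_rc_18_1 lc_e_Cert_tree lc_e_rc_18_1 lc_e_rc_27_5 lc_e_rc_4_1 lc_e_rc_18_1 lc_e_rc_18_1 lc_e_Cert_tree lc_e_Cert_tree lc_e_rc_27_1 lc_e_Cert_tree lc_e_rc_18_1 lc_e_Cert_tree lc_e_Cert_tree lc_e_Cert_tree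 lc_e_rc_18_1 lc_e_rc_16_1 lc_e_rc_18_1 lc_e_rc_13_3 lc_e_Cert_tree lc_e_rc_18_1 lc_e_Cert_tree lc_e_rc_13_1 lc_e_rc_18_1 lc_e_rc_18_1 lc_e_rc_9_3 lc_e_Cert_tree lc_e_rc_16_5 lc_e_rc_18_1 lc_e_Cert_tree lc_e_rc_18_1 lc_e_rc_16_1 lc_e_Cert_tree lc_e_rc_18_1 lc_e_Cert_tree lc_e_Cert_tree lc_e_Cert_tree lc_e_rc_18_1 lc_e_Cert_tree lc_e_Cert_tree lc_e_rc_18_1 lc_e_Cert_tree lc_e_rc_18_1 lc_e_rc_16_1 lc_e_rc_19_2) (@D3.rec (fun _ => (Cert rels S Gen.e)) lc_e_rc_16_5 lc_e_Cert_tree lc_e_Cert_tree lc_e_Cert_tree lc_e_rc_27_1 lc_e_rc_18_1 lc_e_rc_13_3 lc_e_Cert_tree lc_e_Cert_tree lc_e_Cert_tree lc_e_rc_18_1 lc_e_rc_13_3 lc_e_Cert_tree lc_e_rc_9_3 lc_e_rc_16_3 lc_e_rc_19_2 lc_e_Cert_tree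 lc_e_rc_4_1 lc_e_Cert_tree lc_e_rc_18_1 lc_e_rc_27_5 lc_e_Cert_tree lc_e_rc_18_1 lc_e_rc_13_3 lc_e_Cert_tree lc_e_rc_18_1 lc_e_rc_27_5 lc_e_rc_16_5 lc_e_rc_27_7 lc_e_rc_13_3 lc_e_Cert_tree lc_e_rc_18_1 lc_e_rc_18_1 lc_e_rc_16_1 lc_e_rc_18_1 lc_e_rc_18_1 lc_e_rc_27_1 lc_e_rc_4_3 lc_e_rc_19_4 lc_e_Cert_tree lc_e_rc_18_1 lc_e_rc_9_3 lc_e_rc_4_3 lc_e_Cert_tree lc_e_rc_18_1 lc_e_rc_18_1 lc_e_rc_19_4 lc_e_Cert_tree lc_e_rc_18_1 lc_e_rc_9_3 lc_e_rc_27_5 lc_e_rc_27_5 lc_e_rc_19_4 lc_e_rc_4_3 lc_e_Cert_tree lc_e_Cert_tree lc_e_rc_4_3 lc_e_Cert_tree lc_e_Cert_tree lc_e_rc_18_1 lc_e_rc_18_1 lc_e_rc_13_3) (@D3.rec (fun _ => (Cert rels S Gen.e)) lc_e_rc_19_2 lc_e_rc_13_3 lc_e_rc_19_2 lc_e_rc_18_1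 lc_e_rc_13_3 lc_e_rc_16_5 lc_e_Cert_tree lc_e_rc_18_1 lc_e_rc_4_1 lc_e_rc_18_1 lc_e_rc_18_1 lc_e_Cert_tree lc_e_rc_18_1 lc_e_rc_9_3 lc_e_Cert_tree lc_e_Cert_tree lc_e_Cert_tree lc_e_rc_18_1 lc_e_Cert_tree lc_e_rc_18_1 lc_e_rc_13_1 lc_e_Cert_tree lc_e_rc_18_1 lc_e_rc_27_5 lc_e_rc_16_5 lc_e_rc_19_4 lc_e_rc_27_5 lc_e_rc_9_3 lc_e_Cert_tree lc_e_rc_18_1 lc_e_Cert_tree lc_e_rc_18_1 lc_e_rc_27_1 lc_e_rc_18_1 lc_e_rc_27_5 lc_e_rc_18_1 lc_e_rc_19_4 lc_e_rc_27_7 lc_e_rc_27_5 lc_e_rc_13_3 lc_e_rc_18_1 lc_e_rc_13_3 lc_e_rc_9_3 lc_e_rc_27_7 lc_e_rc_18_1 lc_e_rc_4_3 lc_e_rc_18_1 lc_e_rc_18_1 lc_e_rc_13_3 lc_e_rc_9_3 lc_e_rc_27_5 lc_e_rc_16_5 lc_e_rc_9_3 lc_e_rc_27_5 lc_e_Cert_tree lc_e_rc_16_5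 lc_e_rc_4_3 lc_e_rc_16_3 lc_e_rc_13_3 lc_e_rc_27_7 lc_e_rc_18_1 lc_e_Cert_tree) (@D3.rec (fun _ => (Cert rels S Gen.e)) lc_e_rc_18_1 lc_e_rc_13_1 lc_e_Cert_tree lc_e_rc_16_5 lc_e_rc_9_3 lc_e_rc_4_1 lc_e_rc_18_1 lc_e_rc_27_1 lc_e_Cert_tree lc_e_Cert_tree lc_e_rc_18_1 lc_e_Cert_tree lc_e_rc_9_3 lc_e_rc_18_1 lc_e_Cert_tree lc_e_rc_18_1 lc_e_Cert_tree lc_e_rc_18_1 lc_e_rc_18_1 lc_e_rc_18_1 lc_e_rc_9_3 lc_e_Cert_tree lc_e_rc_18_1 lc_e_Cert_tree lc_e_rc_18_1 lc_e_Cert_tree lc_e_rc_27_5 lc_e_rc_19_4 lc_e_Cert_tree lc_e_rc_27_5 lc_e_rc_18_1 lc_e_Cert_tree lc_e_rc_16_3 lc_e_rc_18_1 lc_e_Cert_tree lc_e_Cert_tree lc_e_rc_4_3 lc_e_rc_16_5 lc_e_rc_19_4 lc_e_rc_4_1 lc_e_Cert_tree lc_e_rc_13_3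 lc_e_rc_13_3 lc_e_rc_18_1 lc_e_Cert_tree lc_e_Cert_tree lc_e_Cert_tree lc_e_rc_18_1 lc_e_Cert_tree lc_e_Cert_tree lc_e_rc_18_1 lc_e_rc_18_1 lc_e_Cert_tree lc_e_Cert_tree lc_e_rc_18_1 lc_e_rc_18_1 lc_e_Cert_tree lc_e_rc_18_1 lc_e_rc_18_1 lc_e_rc_19_4 lc_e_Cert_tree lc_e_Cert_tree) (@D3.rec (fun _ => (Cert rels S Gen.e)) lc_e_rc_4_3 lc_e_Cert_tree lc_e_rc_13_3 lc_e_rc_18_1 lc_e_rc_18_1 lc_e_Cert_tree lc_e_rc_18_1 lc_e_rc_27_1 lc_e_Cert_tree lc_e_rc_19_2 lc_e_rc_18_1 lc_e_rc_9_1 lc_e_rc_18_1 lc_e_rc_27_5 lc_e_rc_19_4 lc_e_Cert_tree lc_e_Cert_tree lc_e_rc_18_1 lc_e_rc_18_1 lc_e_rc_16_3 lc_e_rc_16_1 lc_e_Cert_tree lc_e_Cert_tree lc_e_rc_18_1 lc_e_Cert_tree lc_e_Cert_tree lc_e_rc_18_1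 lc_e_Cert_tree lc_e_Cert_tree lc_e_Cert_tree lc_e_Cert_tree lc_e_rc_18_1 lc_e_Cert_tree lc_e_rc_18_1 lc_e_rc_13_3 lc_e_Cert_tree lc_e_rc_16_1 lc_e_rc_18_1 lc_e_rc_13_3 lc_e_rc_27_7 lc_e_rc_13_3 lc_e_rc_19_4 lc_e_rc_4_3 lc_e_Cert_tree lc_e_rc_18_1 lc_e_rc_18_1 lc_e_rc_9_1 lc_e_Cert_tree lc_e_rc_18_1 lc_e_Cert_tree lc_e_rc_16_1 lc_e_Cert_tree lc_e_rc_18_1 lc_e_rc_18_1 lc_e_rc_19_4 lc_e_Cert_tree lc_e_rc_13_3 lc_e_Cert_tree lc_e_Cert_tree lc_e_rc_18_1 lc_e_rc_18_1 lc_e_rc_18_1) (@D3.rec (fun _ => (Cert rels S Gen.e)) lc_e_rc_18_1 lc_e_rc_13_3 lc_e_rc_18_1 lc_e_rc_18_1 lc_e_Cert_tree lc_e_rc_19_4 lc_e_Cert_tree lc_e_rc_18_1 lc_e_Cert_tree lc_e_rc_19_4 lc_e_Cert_tree lc_e_Cert_tree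 lc_e_rc_18_1 lc_e_Cert_tree lc_e_rc_16_3 lc_e_rc_18_1 lc_e_rc_13_3 lc_e_Cert_tree lc_e_rc_16_1 lc_e_rc_19_4 lc_e_rc_13_3 lc_e_rc_16_3 lc_e_Cert_tree lc_e_rc_18_1 lc_e_rc_18_1 lc_e_Cert_tree lc_e_rc_9_3 lc_e_rc_18_1 lc_e_Cert_tree lc_e_rc_16_5 lc_e_rc_16_3 lc_e_rc_4_1 lc_e_rc_27_1 lc_e_Cert_tree lc_e_rc_13_3 lc_e_Cert_tree lc_e_rc_18_1 lc_e_rc_18_1 lc_e_Cert_tree lc_e_rc_13_3 lc_e_rc_16_1 lc_e_rc_13_3 lc_e_rc_18_1 lc_e_rc_18_1 lc_e_rc_13_3 lc_e_rc_19_4 lc_e_Cert_tree lc_e_rc_27_1 lc_e_rc_4_1 lc_e_Cert_tree lc_e_rc_18_1 lc_e_Cert_tree lc_e_rc_18_1 lc_e_rc_13_3 lc_e_rc_27_5 lc_e_rc_27_1 lc_e_Cert_tree lc_e_Cert_tree lc_e_Cert_tree lc_e_rc_18_1 lc_e_rc_18_1 lc_e_rc_16_1) (@D3.rec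 (fun _ => (Cert rels S Gen.e)) lc_e_rc_19_4 lc_e_Cert_tree lc_e_Cert_tree lc_e_rc_4_3 lc_e_rc_18_1 lc_e_rc_13_3 lc_e_rc_19_4 lc_e_Cert_tree lc_e_Cert_tree lc_e_Cert_tree lc_e_Cert_tree lc_e_Cert_tree lc_e_rc_18_1 lc_e_Cert_tree lc_e_rc_18_1 lc_e_Cert_tree lc_e_rc_18_1 lc_e_rc_16_3 lc_e_rc_18_1 lc_e_Cert_tree lc_e_rc_18_1 lc_e_rc_13_3 lc_e_Cert_tree lc_e_Cert_tree lc_e_rc_18_1 lc_e_rc_16_3 lc_e_Cert_tree lc_e_Cert_tree lc_e_rc_27_5 lc_e_rc_18_1 lc_e_Cert_tree lc_e_Cert_tree lc_e_rc_27_5 lc_e_rc_18_1 lc_e_rc_4_3 lc_e_rc_18_1 lc_e_rc_18_1 lc_e_rc_18_1 lc_e_rc_27_1 lc_e_Cert_tree lc_e_rc_18_1 lc_e_rc_9_3 lc_e_rc_18_1 lc_e_rc_13_1 lc_e_Cert_tree lc_e_rc_16_1 lc_e_rc_16_5 lc_e_rc_27_7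 lc_e_rc_18_1 lc_e_rc_18_1 lc_e_Cert_tree lc_e_Cert_tree lc_e_rc_27_5 lc_e_rc_18_1 lc_e_rc_16_5 lc_e_rc_13_3 lc_e_rc_9_1 lc_e_Cert_tree lc_e_rc_18_1 lc_e_rc_18_1 lc_e_rc_27_7 lc_e_Cert_tree) (@D3.rec (fun _ => (Cert rels S Gen.e)) lc_e_rc_18_1 lc_e_rc_18_1 lc_e_Cert_tree lc_e_rc_27_1 lc_e_rc_19_0 lc_e_Cert_tree lc_e_Cert_tree lc_e_rc_18_1 lc_e_rc_27_1 lc_e_rc_18_1 lc_e_rc_18_1 lc_e_rc_13_3 lc_e_Cert_tree lc_e_rc_16_3 lc_e_Cert_tree lc_e_Cert_tree lc_e_rc_18_1 lc_e_rc_13_3 lc_e_rc_18_1 lc_e_rc_13_3 lc_e_Cert_tree lc_e_Cert_tree lc_e_rc_18_1 lc_e_rc_27_5 lc_e_rc_9_3 lc_e_rc_18_1 lc_e_rc_9_3 lc_e_rc_9_3 lc_e_rc_27_1 lc_e_rc_13_1 lc_e_rc_18_1 lc_e_rc_18_1 lc_e_Cert_tree lc_e_Cert_tree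 lc_e_Cert_tree lc_e_rc_18_1 lc_e_rc_16_3 lc_e_rc_19_4 lc_e_Cert_tree lc_e_rc_18_1 lc_e_rc_27_5 lc_e_rc_18_1 lc_e_rc_18_1 lc_e_Cert_tree lc_e_rc_9_1 lc_e_rc_19_4 lc_e_rc_13_3 lc_e_rc_18_1 lc_e_Cert_tree lc_e_rc_9_3 lc_e_rc_18_1 lc_e_rc_13_1 lc_e_rc_18_1 lc_e_Cert_tree lc_e_rc_18_1 lc_e_Cert_tree lc_e_rc_16_5 lc_e_rc_19_4 lc_e_rc_9_3 lc_e_rc_18_1 lc_e_rc_18_1 lc_e_Cert_tree) (@D3.rec (fun _ => (Cert rels S Gen.e)) lc_e_rc_27_7 lc_e_Cert_tree lc_e_rc_4_1 lc_e_Cert_tree lc_e_rc_18_1 lc_e_rc_18_1 lc_e_rc_16_1 lc_e_rc_19_4 lc_e_rc_13_3 lc_e_Cert_tree lc_e_Cert_tree lc_e_rc_27_7 lc_e_rc_18_1 lc_e_rc_18_1 lc_e_rc_16_1 lc_e_rc_19_4 lc_e_Cert_tree lc_e_Cert_tree lc_e_rc_18_1 lc_e_rc_4_3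 lc_e_Cert_tree lc_e_Cert_tree lc_e_Cert_tree lc_e_Cert_tree lc_e_Cert_tree lc_e_rc_18_1 lc_e_Cert_tree lc_e_rc_18_1 lc_e_Cert_tree lc_e_rc_18_1 lc_e_Cert_tree lc_e_Cert_tree lc_e_rc_19_4 lc_e_Cert_tree lc_e_Cert_tree lc_e_rc_16_3 lc_e_Cert_tree lc_e_rc_27_5 lc_e_rc_18_1 lc_e_Cert_tree lc_e_rc_27_5 lc_e_rc_18_1 lc_e_rc_18_1 lc_e_rc_18_1 lc_e_rc_19_4 lc_e_rc_18_1 lc_e_rc_19_0 lc_e_rc_13_3 lc_e_rc_13_1 lc_e_rc_16_5 lc_e_rc_27_7 lc_e_rc_27_1 lc_e_Cert_tree lc_e_Cert_tree lc_e_rc_27_5 lc_e_rc_18_1 lc_e_rc_13_1 lc_e_rc_16_5 lc_e_rc_13_3 lc_e_rc_9_3 lc_e_rc_18_1 lc_e_Cert_tree) (@D3.rec (fun _ => (Cert rels S Gen.e)) lc_e_Cert_tree lc_e_rc_18_1 lc_e_rc_27_5 lc_e_rc_13_1 lc_e_rc_13_3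 lc_e_rc_13_3 lc_e_Cert_tree lc_e_rc_16_5 lc_e_Cert_tree lc_e_Cert_tree lc_e_rc_18_1 lc_e_rc_9_3 lc_e_rc_16_5 lc_e_Cert_tree lc_e_rc_13_3 lc_e_rc_13_1 lc_e_rc_9_3 lc_e_rc_18_1 lc_e_Cert_tree lc_e_rc_18_1 lc_e_rc_9_3 lc_e_rc_13_3 lc_e_rc_9_3 lc_e_rc_18_1 lc_e_rc_18_1 lc_e_rc_18_1 lc_e_rc_9_3 lc_e_Cert_tree lc_e_rc_18_1 lc_e_Cert_tree lc_e_rc_18_1 lc_e_rc_18_1 lc_e_rc_13_1 lc_e_Cert_tree lc_e_rc_18_1 lc_e_Cert_tree lc_e_Cert_tree lc_e_rc_18_1 lc_e_rc_19_4 lc_e_Cert_tree lc_e_Cert_tree lc_e_rc_18_1 lc_e_rc_18_1 lc_e_Cert_tree lc_e_rc_19_4 lc_e_Cert_tree lc_e_Cert_tree lc_e_rc_18_1 lc_e_Cert_tree lc_e_rc_9_3 lc_e_rc_18_1 lc_e_Cert_tree lc_e_Cert_tree lc_e_rc_4_3 lc_e_Cert_tree lc_e_Cert_tree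 lc_e_Cert_tree lc_e_Cert_tree lc_e_Cert_tree lc_e_rc_18_1 lc_e_Cert_tree lc_e_rc_18_1) (@D3.rec (fun _ => (Cert rels S Gen.e)) lc_e_Cert_tree lc_e_Cert_tree lc_e_rc_18_1 lc_e_rc_18_1 lc_e_rc_9_3 lc_e_rc_16_1 lc_e_rc_18_1 lc_e_Cert_tree lc_e_Cert_tree lc_e_rc_18_1 lc_e_rc_19_0 lc_e_rc_19_4 lc_e_Cert_tree lc_e_Cert_tree lc_e_rc_18_1 lc_e_Cert_tree lc_e_rc_27_5 lc_e_rc_19_4 lc_e_Cert_tree lc_e_Cert_tree lc_e_rc_18_1 lc_e_Cert_tree lc_e_Cert_tree lc_e_rc_18_1 lc_e_Cert_tree lc_e_Cert_tree lc_e_rc_4_3 lc_e_rc_13_3 lc_e_Cert_tree lc_e_Cert_tree lc_e_Cert_tree lc_e_Cert_tree lc_e_rc_18_1 lc_e_Cert_tree lc_e_rc_18_1 lc_e_Cert_tree lc_e_rc_16_1 lc_e_Cert_tree lc_e_rc_18_1 lc_e_Cert_tree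 lc_e_Cert_tree lc_e_rc_18_1 lc_e_Cert_tree lc_e_Cert_tree lc_e_rc_18_1 lc_e_Cert_tree lc_e_rc_19_4 lc_e_Cert_tree lc_e_rc_18_1 lc_e_rc_18_1 lc_e_rc_19_4 lc_e_Cert_tree lc_e_rc_27_5 lc_e_rc_18_1 lc_e_Cert_tree lc_e_Cert_tree lc_e_rc_13_1 lc_e_Cert_tree lc_e_Cert_tree lc_e_rc_16_3 lc_e_rc_18_1 lc_e_rc_18_1) (@D3.rec (fun _ => (Cert rels S Gen.e)) lc_e_rc_18_1 lc_e_Cert_tree lc_e_rc_18_1 lc_e_rc_27_5 lc_e_Cert_tree lc_e_rc_19_4 lc_e_rc_18_1 lc_e_rc_18_1 lc_e_Cert_tree lc_e_rc_18_1 lc_e_rc_27_5 lc_e_rc_16_1 lc_e_rc_4_3 lc_e_Cert_tree lc_e_Cert_tree lc_e_rc_18_1 lc_e_rc_18_1 lc_e_rc_16_1 lc_e_rc_9_1 lc_e_Cert_tree lc_e_Cert_tree lc_e_rc_18_1 lc_e_rc_9_1 lc_e_rc_16_3 lc_e_rc_18_1 lc_e_Cert_tree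 lc_e_Cert_tree lc_e_Cert_tree lc_e_Cert_tree lc_e_rc_18_1 lc_e_Cert_tree lc_e_rc_18_1 lc_e_rc_18_1 lc_e_Cert_tree lc_e_rc_16_1 lc_e_rc_13_3 lc_e_rc_13_3 lc_e_Cert_tree lc_e_rc_13_3 lc_e_rc_19_4 lc_e_rc_9_3 lc_e_Cert_tree lc_e_rc_18_1 lc_e_rc_18_1 lc_e_rc_16_5 lc_e_rc_19_4 lc_e_rc_18_1 lc_e_Cert_tree lc_e_rc_19_4 lc_e_Cert_tree lc_e_rc_18_1 lc_e_rc_16_5 lc_e_rc_19_4 lc_e_Cert_tree lc_e_rc_9_3 lc_e_Cert_tree lc_e_rc_16_3 lc_e_rc_18_1 lc_e_rc_18_1 lc_e_Cert_tree lc_e_rc_18_1 lc_e_rc_13_3) (@D3.rec (fun _ => (Cert rels S Gen.e)) lc_e_rc_13_1 lc_e_rc_13_3 lc_e_rc_9_3 lc_e_Cert_tree lc_e_rc_18_1 lc_e_rc_19_4 lc_e_rc_27_7 lc_e_rc_18_1 lc_e_Cert_tree lc_e_rc_4_3 lc_e_rc_19_2 lc_e_rc_19_2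 lc_e_Cert_tree lc_e_Cert_tree lc_e_rc_18_1 lc_e_rc_18_1 lc_e_rc_13_1 lc_e_rc_19_4 lc_e_rc_13_1 lc_e_rc_27_1 lc_e_Cert_tree lc_e_rc_27_5 lc_e_rc_18_1 lc_e_rc_13_3 lc_e_Cert_tree lc_e_Cert_tree lc_e_rc_18_1 lc_e_Cert_tree lc_e_rc_9_3 lc_e_rc_19_4 lc_e_rc_9_3 lc_e_rc_9_3 lc_e_Cert_tree lc_e_rc_13_3 lc_e_rc_18_1 lc_e_rc_18_1 lc_e_Cert_tree lc_e_rc_13_3 lc_e_rc_27_5 lc_e_rc_19_4 lc_e_rc_13_1 lc_e_rc_18_1 lc_e_rc_18_1 lc_e_Cert_tree lc_e_rc_13_3 lc_e_rc_19_4 lc_e_Cert_tree lc_e_rc_13_1 lc_e_Cert_tree lc_e_Cert_tree lc_e_Cert_tree lc_e_rc_18_1 lc_e_rc_18_1 lc_e_rc_18_1 lc_e_rc_16_1 lc_e_rc_19_4 lc_e_rc_9_3 lc_e_Cert_tree lc_e_rc_27_7 lc_e_rc_18_1 lc_e_rc_18_1 lc_e_rc_18_1) (@D3.rec (fun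 _ => (Cert rels S Gen.e)) lc_e_rc_9_3 lc_e_rc_19_4 lc_e_rc_19_2 lc_e_Cert_tree lc_e_rc_18_1 lc_e_rc_27_1 lc_e_rc_18_1 lc_e_rc_16_1 lc_e_rc_13_3 lc_e_rc_27_1 lc_e_rc_19_4 lc_e_Cert_tree lc_e_rc_18_1 lc_e_Cert_tree lc_e_rc_18_1 lc_e_rc_9_1 lc_e_rc_18_1 lc_e_rc_18_1 lc_e_rc_9_3 lc_e_rc_18_1 lc_e_Cert_tree lc_e_Cert_tree lc_e_Cert_tree lc_e_Cert_tree lc_e_rc_27_5 lc_e_rc_18_1 lc_e_rc_27_1 lc_e_rc_13_3 lc_e_rc_27_5 lc_e_rc_27_1 lc_e_rc_13_3 lc_e_rc_27_1 lc_e_Cert_tree lc_e_rc_18_1 lc_e_rc_13_3 lc_e_rc_9_3 lc_e_rc_9_3 lc_e_rc_13_1 lc_e_rc_18_1 lc_e_rc_9_3 lc_e_Cert_tree lc_e_rc_27_7 lc_e_rc_18_1 lc_e_rc_18_1 lc_e_rc_27_5 lc_e_rc_19_4 lc_e_Cert_tree lc_e_rc_18_1 lc_e_rc_18_1 lc_e_Cert_tree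 lc_e_rc_13_1 lc_e_rc_16_1 lc_e_rc_19_4 lc_e_Cert_tree lc_e_Cert_tree lc_e_rc_18_1 lc_e_rc_18_1 lc_e_rc_18_1 lc_e_rc_13_3 lc_e_rc_18_1 lc_e_Cert_tree lc_e_rc_27_1) (@D3.rec (fun _ => (Cert rels S Gen.e)) lc_e_rc_27_1 lc_e_rc_18_1 lc_e_rc_4_3 lc_e_Cert_tree lc_e_rc_18_1 lc_e_rc_19_0 lc_e_Cert_tree lc_e_rc_18_1 lc_e_rc_16_3 lc_e_rc_18_1 lc_e_rc_27_5 lc_e_rc_4_3 lc_e_rc_16_1 lc_e_rc_4_3 lc_e_Cert_tree lc_e_Cert_tree lc_e_rc_18_1 lc_e_rc_18_1 lc_e_Cert_tree lc_e_rc_18_1 lc_e_rc_16_5 lc_e_rc_16_5 lc_e_rc_16_5 lc_e_Cert_tree lc_e_rc_18_1 lc_e_rc_16_5 lc_e_rc_18_1 lc_e_rc_27_5 lc_e_rc_19_2 lc_e_rc_16_3 lc_e_rc_18_1 lc_e_rc_13_3 lc_e_rc_18_1 lc_e_rc_27_1 lc_e_rc_4_3 lc_e_rc_18_1 lc_e_rc_9_3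 lc_e_rc_16_3 lc_e_rc_13_3 lc_e_rc_19_0 lc_e_rc_9_3 lc_e_rc_13_3 lc_e_Cert_tree lc_e_rc_18_1 lc_e_rc_27_7 lc_e_rc_27_5 lc_e_rc_19_0 lc_e_rc_13_3 lc_e_rc_18_1 lc_e_Cert_tree lc_e_Cert_tree lc_e_Cert_tree lc_e_Cert_tree lc_e_rc_18_1 lc_e_rc_18_1 lc_e_rc_13_3 lc_e_rc_16_1 lc_e_rc_13_3 lc_e_Cert_tree lc_e_Cert_tree lc_e_rc_18_1 lc_e_Cert_tree) (@D3.rec (fun _ => (Cert rels S Gen.e)) lc_e_rc_18_1 lc_e_rc_18_1 lc_e_Cert_tree lc_e_rc_19_4 lc_e_Cert_tree lc_e_rc_9_1 lc_e_rc_18_1 lc_e_Cert_tree lc_e_rc_27_1 lc_e_rc_19_4 lc_e_rc_4_3 lc_e_rc_18_1 lc_e_rc_16_1 lc_e_rc_27_7 lc_e_Cert_tree lc_e_Cert_tree lc_e_rc_13_1 lc_e_rc_18_1 lc_e_rc_16_1 lc_e_Cert_tree lc_e_Cert_tree lc_e_rc_18_1 lc_e_rc_13_1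 lc_e_rc_18_1 lc_e_rc_4_3 lc_e_rc_13_1 lc_e_rc_9_1 lc_e_rc_16_1 lc_e_rc_18_1 lc_e_Cert_tree lc_e_rc_18_1 lc_e_rc_16_3 lc_e_Cert_tree lc_e_Cert_tree lc_e_rc_18_1 lc_e_Cert_tree lc_e_Cert_tree lc_e_rc_18_1 lc_e_rc_13_1 lc_e_rc_18_1 lc_e_Cert_tree lc_e_Cert_tree lc_e_rc_18_1 lc_e_rc_16_1 lc_e_rc_16_1 lc_e_rc_27_5 lc_e_rc_18_1 lc_e_rc_18_1 lc_e_rc_18_1 lc_e_rc_9_1 lc_e_Cert_tree lc_e_rc_19_4 lc_e_rc_18_1 lc_e_rc_9_3 lc_e_Cert_tree lc_e_Cert_tree lc_e_rc_13_3 lc_e_rc_9_3 lc_e_Cert_tree lc_e_rc_19_0 lc_e_rc_18_1 lc_e_Cert_tree) (@D3.rec (fun _ => (Cert rels S Gen.e)) lc_e_Cert_tree lc_e_rc_18_1 lc_e_rc_9_3 lc_e_rc_27_7 lc_e_rc_18_1 lc_e_Cert_tree lc_e_rc_19_4 lc_e_rc_16_1 lc_e_Cert_tree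 lc_e_rc_18_1 lc_e_rc_16_1 lc_e_rc_13_3 lc_e_Cert_tree lc_e_Cert_tree lc_e_Cert_tree lc_e_rc_27_5 lc_e_rc_18_1 lc_e_rc_18_1 lc_e_Cert_tree lc_e_rc_18_1 lc_e_rc_16_3 lc_e_Cert_tree lc_e_rc_19_4 lc_e_Cert_tree lc_e_Cert_tree lc_e_rc_13_3 lc_e_rc_19_4 lc_e_rc_27_7 lc_e_rc_9_3 lc_e_rc_13_3 lc_e_rc_18_1 lc_e_rc_18_1 lc_e_rc_16_5 lc_e_rc_16_3 lc_e_rc_16_5 lc_e_rc_13_3 lc_e_rc_16_5 lc_e_rc_13_3 lc_e_rc_19_2 lc_e_rc_19_4 lc_e_rc_16_3 lc_e_Cert_tree lc_e_rc_18_1 lc_e_rc_18_1 lc_e_rc_18_1 lc_e_rc_9_1 lc_e_rc_16_1 lc_e_rc_18_1 lc_e_rc_9_1 lc_e_rc_19_4 lc_e_rc_18_1 lc_e_rc_18_1 lc_e_rc_16_1 lc_e_rc_13_3 lc_e_rc_9_3 lc_e_Cert_tree lc_e_Cert_tree lc_e_rc_18_1 lc_e_Cert_tree lc_e_Cert_tree lc_e_rc_18_1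 lc_e_Cert_tree) (@D3.rec (fun _ => (Cert rels S Gen.e)) lc_e_Cert_tree lc_e_rc_13_3 lc_e_Cert_tree lc_e_rc_18_1 lc_e_Cert_tree lc_e_Cert_tree lc_e_rc_18_1 lc_e_rc_4_1 lc_e_rc_18_1 lc_e_rc_4_3 lc_e_rc_18_1 lc_e_rc_18_1 lc_e_Cert_tree lc_e_rc_13_1 lc_e_rc_9_1 lc_e_rc_18_1 lc_e_rc_13_1 lc_e_rc_18_1 lc_e_rc_9_1 lc_e_rc_18_1 lc_e_rc_16_1 lc_e_rc_27_1 lc_e_rc_16_1 lc_e_rc_13_3 lc_e_rc_18_1 lc_e_rc_18_1 lc_e_Cert_tree lc_e_Cert_tree lc_e_rc_16_1 lc_e_rc_18_1 lc_e_Cert_tree lc_e_rc_13_3 lc_e_Cert_tree lc_e_Cert_tree lc_e_Cert_tree lc_e_rc_13_1 lc_e_Cert_tree lc_e_rc_18_1 lc_e_rc_9_3 lc_e_rc_18_1 lc_e_rc_18_1 lc_e_Cert_tree lc_e_rc_18_1 lc_e_rc_18_1 lc_e_rc_18_1 lc_e_Cert_tree lc_e_rc_9_3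 lc_e_rc_18_1 lc_e_rc_9_3 lc_e_rc_18_1 lc_e_rc_4_3 lc_e_Cert_tree lc_e_Cert_tree lc_e_Cert_tree lc_e_rc_18_1 lc_e_rc_13_3 lc_e_rc_18_1 lc_e_rc_18_1 lc_e_rc_18_1 lc_e_rc_9_3 lc_e_rc_13_3 lc_e_rc_19_2) (@D3.rec (fun _ => (Cert rels S Gen.e)) lc_e_rc_16_3 lc_e_Cert_tree lc_e_rc_18_1 lc_e_Cert_tree lc_e_rc_18_1 lc_e_rc_9_1 lc_e_rc_18_1 lc_e_rc_13_3 lc_e_rc_18_1 lc_e_rc_9_3 lc_e_rc_18_1 lc_e_rc_16_1 lc_e_rc_18_1 lc_e_Cert_tree lc_e_rc_18_1 lc_e_Cert_tree lc_e_Cert_tree lc_e_rc_16_1 lc_e_rc_19_2 lc_e_Cert_tree lc_e_rc_19_4 lc_e_rc_9_3 lc_e_Cert_tree lc_e_rc_16_1 lc_e_rc_16_1 lc_e_rc_13_3 lc_e_rc_9_1 lc_e_rc_27_5 lc_e_rc_9_3 lc_e_rc_18_1 lc_e_Cert_tree lc_e_Cert_tree lc_e_rc_16_3 lc_e_rc_4_1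 lc_e_Cert_tree lc_e_rc_27_5 lc_e_rc_18_1 lc_e_rc_16_3 lc_e_rc_13_3 lc_e_Cert_tree lc_e_Cert_tree lc_e_rc_18_1 lc_e_rc_13_3 lc_e_Cert_tree lc_e_rc_18_1 lc_e_rc_19_4 lc_e_Cert_tree lc_e_Cert_tree lc_e_rc_18_1 lc_e_rc_18_1 lc_e_rc_27_1 lc_e_rc_18_1 lc_e_rc_16_3 lc_e_rc_18_1 lc_e_rc_9_3 lc_e_rc_27_7 lc_e_Cert_tree lc_e_rc_18_1 lc_e_rc_27_5 lc_e_rc_16_3 lc_e_rc_18_1 lc_e_rc_13_1) (@D3.rec (fun _ => (Cert rels S Gen.e)) lc_e_rc_9_1 lc_e_rc_9_3 lc_e_rc_27_5 lc_e_rc_9_3 lc_e_Cert_tree lc_e_rc_16_3 lc_e_rc_13_1 lc_e_Cert_tree lc_e_rc_18_1 lc_e_rc_27_5 lc_e_rc_18_1 lc_e_rc_13_1 lc_e_rc_18_1 lc_e_Cert_tree lc_e_Cert_tree lc_e_rc_18_1 lc_e_rc_13_1 lc_e_rc_13_1 lc_e_rc_16_1 lc_e_rc_9_3 lc_e_rc_9_3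 lc_e_rc_4_3 lc_e_rc_18_1 lc_e_rc_13_1 lc_e_Cert_tree lc_e_Cert_tree lc_e_rc_18_1 lc_e_rc_9_1 lc_e_rc_27_5 lc_e_rc_9_1 lc_e_Cert_tree lc_e_rc_27_7 lc_e_rc_18_1 lc_e_rc_18_1 lc_e_Cert_tree lc_e_rc_4_1 lc_e_rc_27_7 lc_e_rc_13_1 lc_e_rc_13_3 lc_e_rc_27_7 lc_e_rc_19_2 lc_e_Cert_tree lc_e_Cert_tree lc_e_Cert_tree lc_e_Cert_tree lc_e_rc_18_1 lc_e_rc_18_1 lc_e_rc_16_1 lc_e_rc_19_2 lc_e_rc_13_3 lc_e_Cert_tree lc_e_rc_18_1 lc_e_rc_18_1 lc_e_rc_18_1 lc_e_rc_19_0 lc_e_rc_19_4 lc_e_rc_16_5 lc_e_rc_18_1 lc_e_Cert_tree lc_e_rc_18_1 lc_e_Cert_tree lc_e_Cert_tree) (@D3.rec (fun _ => (Cert rels S Gen.e)) lc_e_rc_16_1 lc_e_Cert_tree lc_e_rc_18_1 lc_e_Cert_tree lc_e_rc_9_3 lc_e_rc_18_1 lc_e_rc_9_3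 lc_e_Cert_tree lc_e_rc_19_4 lc_e_Cert_tree lc_e_rc_13_3 lc_e_rc_27_7 lc_e_rc_4_1 lc_e_Cert_tree lc_e_rc_16_3 lc_e_rc_9_3 lc_e_rc_27_1 lc_e_rc_18_1 lc_e_rc_18_1 lc_e_Cert_tree lc_e_Cert_tree lc_e_rc_18_1 lc_e_Cert_tree lc_e_rc_9_3 lc_e_rc_18_1 lc_e_rc_19_2 lc_e_rc_9_3 lc_e_rc_9_3 lc_e_Cert_tree lc_e_Cert_tree lc_e_rc_18_1 lc_e_rc_16_1 lc_e_Cert_tree lc_e_Cert_tree lc_e_rc_18_1 lc_e_Cert_tree lc_e_rc_16_3 lc_e_rc_18_1 lc_e_rc_4_3 lc_e_rc_18_1 lc_e_rc_13_3 lc_e_rc_19_4 lc_e_rc_13_3 lc_e_Cert_tree lc_e_Cert_tree lc_e_rc_18_1 lc_e_Cert_tree lc_e_rc_18_1 lc_e_Cert_tree lc_e_rc_13_3 lc_e_rc_9_3 lc_e_Cert_tree lc_e_rc_16_1 lc_e_rc_18_1 lc_e_rc_18_1 lc_e_Cert_tree lc_e_rc_27_1 lc_e_rc_13_3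 lc_e_rc_19_2 lc_e_rc_13_3 lc_e_rc_4_3 lc_e_rc_27_7) (@D3.rec (fun _ => (Cert rels S Gen.e)) lc_e_rc_27_7 lc_e_Cert_tree lc_e_rc_13_1 lc_e_rc_18_1 lc_e_rc_9_3 lc_e_rc_18_1 lc_e_rc_9_3 lc_e_Cert_tree lc_e_rc_13_1 lc_e_rc_16_3 lc_e_rc_9_3 lc_e_Cert_tree lc_e_rc_18_1 lc_e_rc_18_1 lc_e_rc_19_4 lc_e_rc_18_1 lc_e_Cert_tree lc_e_rc_19_2 lc_e_Cert_tree lc_e_rc_18_1 lc_e_rc_18_1 lc_e_rc_18_1 lc_e_rc_4_3 lc_e_rc_27_7 lc_e_Cert_tree lc_e_rc_18_1 lc_e_rc_9_1 lc_e_rc_18_1 lc_e_rc_18_1 lc_e_rc_13_1 lc_e_Cert_tree lc_e_rc_18_1 lc_e_Cert_tree lc_e_Cert_tree lc_e_rc_18_1 lc_e_Cert_tree lc_e_Cert_tree lc_e_rc_4_3 lc_e_rc_16_1 lc_e_rc_16_3 lc_e_rc_13_3 lc_e_rc_18_1 lc_e_rc_9_3 lc_e_Cert_tree lc_e_Cert_tree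 lc_e_rc_18_1 lc_e_rc_27_7 lc_e_Cert_tree lc_e_rc_4_3 lc_e_Cert_tree lc_e_rc_16_3 lc_e_rc_18_1 lc_e_rc_13_3 lc_e_rc_27_7 lc_e_rc_9_3 lc_e_rc_13_1 lc_e_Cert_tree lc_e_Cert_tree lc_e_rc_18_1 lc_e_Cert_tree lc_e_Cert_tree lc_e_rc_18_1) (@D3.rec (fun _ => (Cert rels S Gen.e)) lc_e_Cert_tree lc_e_rc_19_4 lc_e_Cert_tree lc_e_Cert_tree lc_e_rc_18_1 lc_e_Cert_tree lc_e_Cert_tree lc_e_rc_18_1 lc_e_Cert_tree lc_e_Cert_tree lc_e_rc_4_3 lc_e_rc_9_1 lc_e_Cert_tree lc_e_rc_18_1 lc_e_Cert_tree lc_e_rc_18_1 lc_e_rc_18_1 lc_e_rc_19_2 lc_e_rc_18_1 lc_e_rc_18_1 lc_e_rc_13_3 lc_e_rc_19_4 lc_e_rc_27_7 lc_e_rc_18_1 lc_e_rc_27_1 lc_e_Cert_tree lc_e_rc_19_4 lc_e_Cert_tree lc_e_rc_18_1 lc_e_rc_16_5 lc_e_Cert_tree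 lc_e_Cert_tree lc_e_rc_18_1 lc_e_rc_18_1 lc_e_rc_16_3 lc_e_rc_27_5 lc_e_Cert_tree lc_e_Cert_tree lc_e_rc_18_1 lc_e_Cert_tree lc_e_rc_9_3 lc_e_rc_18_1 lc_e_rc_9_1 lc_e_rc_9_3 lc_e_rc_18_1 lc_e_Cert_tree lc_e_Cert_tree lc_e_Cert_tree lc_e_Cert_tree lc_e_rc_18_1 lc_e_rc_13_1 lc_e_rc_18_1 lc_e_Cert_tree lc_e_rc_16_1 lc_e_rc_13_3 lc_e_Cert_tree lc_e_rc_18_1 lc_e_rc_18_1 lc_e_rc_18_1 lc_e_rc_9_1 lc_e_rc_16_1 lc_e_rc_16_1) (@D3.rec (fun _ => (Cert rels S Gen.e)) lc_e_rc_19_4 lc_e_rc_13_1 lc_e_rc_18_1 lc_e_rc_16_1 lc_e_Cert_tree lc_e_Cert_tree lc_e_rc_13_3 lc_e_rc_16_5 lc_e_rc_18_1 lc_e_Cert_tree lc_e_rc_19_2 lc_e_Cert_tree lc_e_rc_18_1 lc_e_rc_16_3 lc_e_rc_18_1 lc_e_rc_13_3 lc_e_rc_9_3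 lc_e_Cert_tree lc_e_rc_9_3 lc_e_rc_13_3 lc_e_rc_9_3 lc_e_rc_13_1 lc_e_rc_13_3 lc_e_Cert_tree lc_e_rc_18_1 lc_e_Cert_tree lc_e_rc_18_1 lc_e_Cert_tree lc_e_rc_19_4 lc_e_rc_18_1 lc_e_rc_16_3 lc_e_rc_16_3 lc_e_rc_18_1 lc_e_rc_27_7 lc_e_Cert_tree lc_e_rc_16_1 lc_e_rc_9_3 lc_e_rc_13_3 lc_e_rc_16_5 lc_e_Cert_tree lc_e_rc_9_3 lc_e_rc_18_1 lc_e_rc_27_7 lc_e_rc_27_5 lc_e_rc_19_4 lc_e_rc_4_3 lc_e_rc_27_5 lc_e_rc_9_3 lc_e_Cert_tree lc_e_rc_18_1 lc_e_rc_18_1 lc_e_rc_13_1 lc_e_rc_18_1 lc_e_rc_16_1 lc_e_rc_19_4 lc_e_Cert_tree lc_e_rc_18_1 lc_e_rc_18_1 lc_e_Cert_tree lc_e_rc_18_1 lc_e_Cert_tree lc_e_Cert_tree) (@D3.rec (fun _ => (Cert rels S Gen.e)) lc_e_Cert_tree lc_e_rc_18_1 lc_e_Cert_tree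 lc_e_Cert_tree lc_e_rc_18_1 lc_e_rc_16_1 lc_e_rc_19_4 lc_e_rc_27_7 lc_e_Cert_tree lc_e_Cert_tree lc_e_Cert_tree lc_e_rc_18_1 lc_e_rc_18_1 lc_e_rc_16_1 lc_e_rc_19_4 lc_e_Cert_tree lc_e_Cert_tree lc_e_Cert_tree lc_e_Cert_tree lc_e_Cert_tree lc_e_rc_18_1 lc_e_Cert_tree lc_e_rc_13_3 lc_e_Cert_tree lc_e_Cert_tree lc_e_rc_18_1 lc_e_Cert_tree lc_e_Cert_tree lc_e_Cert_tree lc_e_Cert_tree lc_e_rc_18_1 lc_e_Cert_tree lc_e_rc_18_1 lc_e_Cert_tree lc_e_rc_18_1 lc_e_Cert_tree lc_e_rc_18_1 lc_e_rc_27_7 lc_e_rc_18_1 lc_e_Cert_tree lc_e_Cert_tree lc_e_Cert_tree lc_e_rc_18_1 lc_e_Cert_tree lc_e_rc_13_3 lc_e_rc_16_3 lc_e_Cert_tree lc_e_Cert_tree lc_e_rc_27_5 lc_e_rc_18_1 lc_e_rc_27_5 lc_e_Cert_tree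 lc_e_rc_19_4 lc_e_rc_18_1 lc_e_rc_18_1 lc_e_rc_18_1 lc_e_rc_27_1 lc_e_rc_27_7 lc_e_Cert_tree lc_e_Cert_tree lc_e_rc_18_1 lc_e_rc_19_4) (@D3.rec (fun _ => (Cert rels S Gen.e)) lc_e_rc_4_3 lc_e_Cert_tree lc_e_rc_27_7 lc_e_rc_18_1 lc_e_Cert_tree lc_e_Cert_tree lc_e_rc_18_1 lc_e_Cert_tree lc_e_Cert_tree lc_e_Cert_tree lc_e_Cert_tree lc_e_rc_18_1 lc_e_rc_18_1 lc_e_rc_27_5 lc_e_Cert_tree lc_e_rc_16_1 lc_e_rc_19_4 lc_e_rc_9_3 lc_e_rc_13_3 lc_e_Cert_tree lc_e_Cert_tree lc_e_rc_18_1 lc_e_rc_16_5 lc_e_rc_9_3 lc_e_rc_18_1 lc_e_rc_18_1 lc_e_rc_16_3 lc_e_Cert_tree lc_e_Cert_tree lc_e_Cert_tree lc_e_rc_9_1 lc_e_rc_18_1 lc_e_rc_18_1 lc_e_rc_18_1 lc_e_rc_13_1 lc_e_rc_4_1 lc_e_rc_18_1 lc_e_rc_9_3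 lc_e_rc_13_3 lc_e_rc_13_1 lc_e_Cert_tree lc_e_rc_9_1 lc_e_Cert_tree lc_e_rc_18_1 lc_e_rc_18_1 lc_e_rc_18_1 lc_e_rc_18_1 lc_e_Cert_tree lc_e_Cert_tree lc_e_rc_13_1 lc_e_rc_19_4 lc_e_rc_18_1 lc_e_rc_18_1 lc_e_rc_27_5 lc_e_rc_4_1 lc_e_Cert_tree lc_e_Cert_tree lc_e_rc_27_1 lc_e_rc_27_7 lc_e_rc_16_3 lc_e_rc_18_1 lc_e_rc_16_5) (@D3.rec (fun _ => (Cert rels S Gen.e)) lc_e_Cert_tree lc_e_rc_13_3 lc_e_rc_18_1 lc_e_Cert_tree lc_e_Cert_tree lc_e_rc_13_3 lc_e_rc_18_1 lc_e_rc_18_1 lc_e_rc_13_3 lc_e_Cert_tree lc_e_rc_18_1 lc_e_rc_27_5 lc_e_Cert_tree lc_e_Cert_tree lc_e_rc_13_1 lc_e_rc_19_4 lc_e_rc_9_3 lc_e_rc_9_1 lc_e_rc_18_1 lc_e_rc_13_3 lc_e_rc_9_3 lc_e_Cert_tree lc_e_rc_18_1 lc_e_Cert_tree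 lc_e_Cert_tree lc_e_rc_18_1 lc_e_Cert_tree lc_e_Cert_tree lc_e_rc_18_1 lc_e_rc_9_1 lc_e_Cert_tree lc_e_rc_18_1 lc_e_Cert_tree lc_e_Cert_tree lc_e_rc_18_1 lc_e_rc_18_1 lc_e_rc_19_2 lc_e_Cert_tree lc_e_Cert_tree lc_e_rc_18_1 lc_e_Cert_tree lc_e_Cert_tree lc_e_rc_18_1 lc_e_Cert_tree lc_e_Cert_tree lc_e_Cert_tree lc_e_Cert_tree lc_e_rc_18_1 lc_e_rc_18_1 lc_e_rc_19_4 lc_e_rc_16_1 lc_e_rc_19_4 lc_e_rc_18_1 lc_e_rc_13_3 lc_e_rc_18_1 lc_e_rc_27_1 lc_e_rc_13_3 lc_e_Cert_tree lc_e_Cert_tree lc_e_Cert_tree lc_e_rc_9_3 lc_e_rc_18_1) (@D3.rec (fun _ => (Cert rels S Gen.e)) lc_e_rc_16_5 lc_e_Cert_tree lc_e_rc_13_3 lc_e_rc_18_1 lc_e_Cert_tree lc_e_rc_18_1 lc_e_rc_13_3 lc_e_rc_27_1 lc_e_Cert_tree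 lc_e_rc_18_1 lc_e_rc_4_1 lc_e_rc_16_1 lc_e_rc_19_4 lc_e_rc_27_7 lc_e_rc_16_5 lc_e_rc_16_1 lc_e_rc_19_4 lc_e_rc_9_3 lc_e_rc_16_3 lc_e_rc_18_1 lc_e_rc_19_2 lc_e_rc_9_1 lc_e_Cert_tree lc_e_rc_18_1 lc_e_Cert_tree lc_e_rc_19_4 lc_e_Cert_tree lc_e_Cert_tree lc_e_rc_18_1 lc_e_Cert_tree lc_e_rc_18_1 lc_e_Cert_tree lc_e_Cert_tree lc_e_rc_16_1 lc_e_rc_19_4 lc_e_rc_18_1 lc_e_Cert_tree lc_e_rc_27_1 lc_e_rc_18_1 lc_e_Cert_tree lc_e_Cert_tree lc_e_rc_27_5 lc_e_rc_18_1 lc_e_Cert_tree lc_e_Cert_tree lc_e_rc_18_1 lc_e_rc_16_5 lc_e_rc_13_3 lc_e_rc_9_1 lc_e_rc_18_1 lc_e_rc_27_7 lc_e_rc_27_5 lc_e_rc_18_1 lc_e_Cert_tree lc_e_rc_9_1 lc_e_rc_19_4 lc_e_Cert_tree lc_e_rc_18_1 lc_e_rc_9_1 lc_e_rc_18_1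 lc_e_rc_16_1 lc_e_rc_9_3) (@D3.rec (fun _ => (Cert rels S Gen.e)) lc_e_rc_27_1 lc_e_rc_27_7 lc_e_rc_19_4 lc_e_rc_19_0 lc_e_rc_16_3 lc_e_rc_18_1 lc_e_rc_16_5 lc_e_rc_18_1 lc_e_rc_27_1 lc_e_rc_13_3 lc_e_Cert_tree lc_e_rc_27_7 lc_e_rc_18_1 lc_e_Cert_tree lc_e_Cert_tree lc_e_rc_18_1 lc_e_rc_18_1 lc_e_rc_19_4 lc_e_Cert_tree lc_e_rc_18_1 lc_e_rc_19_4 lc_e_Cert_tree lc_e_Cert_tree lc_e_Cert_tree lc_e_rc_18_1 lc_e_Cert_tree lc_e_Cert_tree lc_e_rc_18_1 lc_e_Cert_tree lc_e_rc_27_5 lc_e_rc_16_1 lc_e_rc_13_3 lc_e_Cert_tree lc_e_Cert_tree lc_e_rc_18_1 lc_e_rc_9_1 lc_e_rc_18_1 lc_e_rc_4_3 lc_e_rc_13_3 lc_e_Cert_tree lc_e_Cert_tree lc_e_rc_18_1 lc_e_Cert_tree lc_e_rc_18_1 lc_e_rc_9_3 lc_e_rc_27_7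 lc_e_rc_27_7 lc_e_rc_18_1 lc_e_Cert_tree lc_e_rc_27_5 lc_e_rc_19_2 lc_e_rc_18_1 lc_e_rc_9_1 lc_e_rc_9_1 lc_e_rc_18_1 lc_e_rc_13_3 lc_e_rc_9_3 lc_e_rc_9_3 lc_e_rc_18_1 lc_e_rc_18_1 lc_e_rc_19_2 lc_e_rc_13_3) (@D3.rec (fun _ => (Cert rels S Gen.e)) lc_e_Cert_tree lc_e_rc_13_3 lc_e_rc_16_3 lc_e_rc_19_4 lc_e_Cert_tree lc_e_rc_18_1 lc_e_rc_19_4 lc_e_rc_18_1 lc_e_Cert_tree lc_e_rc_13_3 lc_e_rc_16_1 lc_e_rc_16_3 lc_e_Cert_tree lc_e_rc_13_1 lc_e_Cert_tree lc_e_rc_19_4 lc_e_rc_13_3 lc_e_rc_19_4 lc_e_rc_27_5 lc_e_Cert_tree lc_e_rc_18_1 lc_e_Cert_tree lc_e_rc_18_1 lc_e_rc_13_3 lc_e_Cert_tree lc_e_Cert_tree lc_e_rc_18_1 lc_e_rc_9_3 lc_e_Cert_tree lc_e_rc_18_1 lc_e_Cert_tree lc_e_rc_18_1 lc_e_rc_16_1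 lc_e_rc_19_4 lc_e_rc_18_1 lc_e_Cert_tree lc_e_Cert_tree lc_e_rc_13_3 lc_e_rc_18_1 lc_e_rc_16_3 lc_e_Cert_tree lc_e_Cert_tree lc_e_Cert_tree lc_e_rc_18_1 lc_e_Cert_tree lc_e_Cert_tree lc_e_rc_13_3 lc_e_Cert_tree lc_e_Cert_tree lc_e_rc_18_1 lc_e_Cert_tree lc_e_rc_4_3 lc_e_rc_18_1 lc_e_Cert_tree lc_e_rc_27_7 lc_e_rc_16_1 lc_e_rc_16_1 lc_e_rc_18_1 lc_e_rc_19_4 lc_e_Cert_tree lc_e_Cert_tree lc_e_Cert_tree)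
def ce_e_10 : D2 → D3 → (Cert rels S Gen.e) := @D2.rec (fun _ => D3 → (Cert rels S Gen.e)) (@D3.rec (fun _ => (Cert rels S Gen.e)) lc_e_rc_18_1 lc_e_Cert_tree lc_e_Cert_tree lc_e_rc_18_1 lc_e_rc_18_1 lc_e_rc_16_3 lc_e_rc_16_1 lc_e_rc_19_2 lc_e_rc_19_4 lc_e_rc_18_1 lc_e_Cert_tree lc_e_rc_16_5 lc_e_rc_18_1 lc_e_rc_19_4 lc_e_rc_18_1 lc_e_rc_27_7 lc_e_Cert_tree lc_e_rc_13_3 lc_e_rc_13_3 lc_e_rc_19_4 lc_e_Cert_tree lc_e_rc_13_3 lc_e_rc_16_1 lc_e_Cert_tree lc_e_rc_13_3 lc_e_rc_19_4 lc_e_Cert_tree lc_e_rc_18_1 lc_e_rc_13_1 lc_e_rc_16_5 lc_e_rc_19_4 lc_e_rc_27_1 lc_e_rc_18_1 lc_e_Cert_tree lc_e_rc_27_1 lc_e_rc_18_1 lc_e_rc_9_3 lc_e_rc_13_3 lc_e_rc_18_1 lc_e_rc_18_1 lc_e_rc_18_1 lc_e_Cert_tree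 lc_e_rc_18_1 lc_e_rc_27_7 lc_e_Cert_tree lc_e_rc_18_1 lc_e_rc_18_1 lc_e_Cert_tree lc_e_rc_19_4 lc_e_Cert_tree lc_e_Cert_tree lc_e_rc_18_1 lc_e_rc_18_1 lc_e_rc_27_1 lc_e_rc_19_4 lc_e_rc_18_1 lc_e_Cert_tree lc_e_Cert_tree lc_e_rc_18_1 lc_e_Cert_tree lc_e_Cert_tree lc_e_rc_18_1) (@D3.rec (fun _ => (Cert rels S Gen.e)) lc_e_rc_9_3 lc_e_Cert_tree lc_e_Cert_tree lc_e_Cert_tree lc_e_rc_4_1 lc_e_Cert_tree lc_e_rc_18_1 lc_e_rc_18_1 lc_e_rc_13_3 lc_e_Cert_tree lc_e_rc_16_1 lc_e_rc_19_4 lc_e_rc_13_3 lc_e_Cert_tree lc_e_Cert_tree lc_e_rc_18_1 lc_e_rc_18_1 lc_e_rc_18_1 lc_e_Cert_tree lc_e_rc_18_1 lc_e_Cert_tree lc_e_rc_18_1 lc_e_rc_27_1 lc_e_rc_18_1 lc_e_rc_4_1 lc_e_Cert_tree lc_e_rc_18_1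 lc_e_rc_27_5 lc_e_Cert_tree lc_e_rc_18_1 lc_e_Cert_tree lc_e_Cert_tree lc_e_rc_18_1 lc_e_Cert_tree lc_e_rc_18_1 lc_e_rc_18_1 lc_e_Cert_tree lc_e_rc_19_4 lc_e_rc_18_1 lc_e_Cert_tree lc_e_rc_13_1 lc_e_rc_18_1 lc_e_rc_18_1 lc_e_rc_16_1 lc_e_rc_27_5 lc_e_Cert_tree lc_e_Cert_tree lc_e_rc_18_1 lc_e_rc_13_3 lc_e_rc_9_3 lc_e_rc_18_1 lc_e_Cert_tree lc_e_Cert_tree lc_e_rc_18_1 lc_e_Cert_tree lc_e_Cert_tree lc_e_Cert_tree lc_e_rc_18_1 lc_e_Cert_tree lc_e_rc_18_1 lc_e_rc_27_5 lc_e_Cert_tree) (@D3.rec (fun _ => (Cert rels S Gen.e)) lc_e_rc_16_1 lc_e_rc_13_1 lc_e_rc_9_3 lc_e_rc_13_3 lc_e_rc_13_1 lc_e_rc_18_1 lc_e_Cert_tree lc_e_Cert_tree lc_e_rc_18_1 lc_e_rc_16_3 lc_e_rc_18_1 lc_e_rc_16_1 lc_e_rc_4_1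 lc_e_Cert_tree lc_e_Cert_tree lc_e_rc_18_1 lc_e_rc_13_1 lc_e_rc_13_3 lc_e_rc_13_3 lc_e_rc_9_3 lc_e_rc_13_3 lc_e_rc_9_3 lc_e_rc_19_4 lc_e_rc_4_3 lc_e_Cert_tree lc_e_Cert_tree lc_e_rc_18_1 lc_e_rc_27_7 lc_e_Cert_tree lc_e_rc_18_1 lc_e_rc_18_1 lc_e_rc_27_5 lc_e_Cert_tree lc_e_rc_16_3 lc_e_rc_19_4 lc_e_rc_18_1 lc_e_rc_9_3 lc_e_Cert_tree lc_e_rc_18_1 lc_e_Cert_tree lc_e_rc_18_1 lc_e_Cert_tree lc_e_rc_13_3 lc_e_rc_27_5 lc_e_rc_27_1 lc_e_rc_19_4 lc_e_Cert_tree lc_e_rc_19_4 lc_e_rc_4_3 lc_e_rc_27_5 lc_e_rc_19_4 lc_e_Cert_tree lc_e_rc_18_1 lc_e_Cert_tree lc_e_rc_18_1 lc_e_Cert_tree lc_e_Cert_tree lc_e_rc_18_1 lc_e_rc_27_7 lc_e_Cert_tree lc_e_rc_19_4 lc_e_Cert_tree) (@D3.rec (fun _ => (Cert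 rels S Gen.e)) lc_e_rc_18_1 lc_e_rc_27_7 lc_e_rc_18_1 lc_e_Cert_tree lc_e_rc_16_5 lc_e_rc_18_1 lc_e_rc_9_3 lc_e_rc_18_1 lc_e_Cert_tree lc_e_Cert_tree lc_e_rc_18_1 lc_e_rc_16_3 lc_e_rc_19_4 lc_e_rc_16_5 lc_e_rc_9_3 lc_e_Cert_tree lc_e_rc_4_3 lc_e_rc_18_1 lc_e_rc_13_3 lc_e_rc_13_3 lc_e_Cert_tree lc_e_Cert_tree lc_e_rc_18_1 lc_e_rc_18_1 lc_e_rc_19_0 lc_e_rc_16_1 lc_e_rc_19_4 lc_e_rc_18_1 lc_e_rc_18_1 lc_e_rc_18_1 lc_e_rc_16_3 lc_e_rc_13_3 lc_e_rc_27_5 lc_e_rc_9_3 lc_e_Cert_tree lc_e_rc_4_3 lc_e_rc_19_4 lc_e_rc_9_3 lc_e_rc_18_1 lc_e_rc_16_5 lc_e_rc_13_1 lc_e_rc_18_1 lc_e_rc_18_1 lc_e_rc_18_1 lc_e_rc_18_1 lc_e_rc_19_4 lc_e_rc_16_3 lc_e_rc_4_1 lc_e_rc_13_3 lc_e_rc_9_3 lc_e_rc_9_1 lc_e_rc_9_3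 lc_e_rc_27_7 lc_e_rc_18_1 lc_e_rc_18_1 lc_e_Cert_tree lc_e_rc_18_1 lc_e_Cert_tree lc_e_Cert_tree lc_e_Cert_tree lc_e_rc_18_1 lc_e_rc_13_1) (@D3.rec (fun _ => (Cert rels S Gen.e)) lc_e_rc_4_3 lc_e_rc_18_1 lc_e_rc_18_1 lc_e_Cert_tree lc_e_rc_18_1 lc_e_rc_16_3 lc_e_rc_19_4 lc_e_Cert_tree lc_e_Cert_tree lc_e_Cert_tree lc_e_rc_18_1 lc_e_Cert_tree lc_e_rc_18_1 lc_e_Cert_tree lc_e_rc_18_1 lc_e_Cert_tree lc_e_Cert_tree lc_e_Cert_tree lc_e_rc_18_1 lc_e_Cert_tree lc_e_rc_19_4 lc_e_rc_4_3 lc_e_Cert_tree lc_e_rc_18_1 lc_e_rc_18_1 lc_e_rc_9_3 lc_e_rc_19_4 lc_e_rc_13_3 lc_e_rc_27_1 lc_e_rc_19_4 lc_e_Cert_tree lc_e_rc_27_7 lc_e_rc_18_1 lc_e_rc_13_3 lc_e_rc_19_4 lc_e_rc_9_1 lc_e_rc_18_1 lc_e_rc_19_0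 lc_e_rc_4_3 lc_e_rc_9_3 lc_e_rc_19_4 lc_e_rc_16_1 lc_e_rc_13_3 lc_e_rc_19_4 lc_e_rc_9_1 lc_e_Cert_tree lc_e_rc_18_1 lc_e_rc_18_1 lc_e_rc_13_3 lc_e_rc_18_1 lc_e_Cert_tree lc_e_rc_4_3 lc_e_rc_13_1 lc_e_rc_27_5 lc_e_Cert_tree lc_e_rc_27_7 lc_e_rc_18_1 lc_e_rc_19_4 lc_e_rc_19_4 lc_e_rc_9_1 lc_e_rc_18_1 lc_e_Cert_tree) (@D3.rec (fun _ => (Cert rels S Gen.e)) lc_e_Cert_tree lc_e_rc_4_3 lc_e_rc_18_1 lc_e_Cert_tree lc_e_rc_18_1 lc_e_Cert_tree lc_e_Cert_tree lc_e_Cert_tree lc_e_rc_18_1 lc_e_rc_19_4 lc_e_rc_27_7 lc_e_rc_9_3 lc_e_rc_18_1 lc_e_rc_16_1 lc_e_rc_9_1 lc_e_rc_13_1 lc_e_rc_16_5 lc_e_rc_18_1 lc_e_rc_9_3 lc_e_rc_13_3 lc_e_rc_19_4 lc_e_Cert_tree lc_e_rc_18_1 lc_e_Cert_tree lc_e_rc_18_1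 lc_e_rc_16_5 lc_e_rc_16_5 lc_e_rc_18_1 lc_e_rc_27_5 lc_e_rc_16_1 lc_e_rc_9_1 lc_e_Cert_tree lc_e_rc_18_1 lc_e_Cert_tree lc_e_Cert_tree lc_e_Cert_tree lc_e_rc_13_3 lc_e_rc_18_1 lc_e_Cert_tree lc_e_rc_18_1 lc_e_rc_16_1 lc_e_rc_19_2 lc_e_rc_18_1 lc_e_rc_13_3 lc_e_Cert_tree lc_e_rc_27_5 lc_e_rc_18_1 lc_e_Cert_tree lc_e_rc_18_1 lc_e_rc_9_1 lc_e_rc_18_1 lc_e_rc_18_1 lc_e_rc_27_1 lc_e_Cert_tree lc_e_rc_18_1 lc_e_Cert_tree lc_e_rc_27_5 lc_e_rc_9_1 lc_e_Cert_tree lc_e_rc_18_1 lc_e_rc_27_7 lc_e_Cert_tree) (@D3.rec (fun _ => (Cert rels S Gen.e)) lc_e_rc_9_3 lc_e_Cert_tree lc_e_Cert_tree lc_e_rc_18_1 lc_e_rc_19_0 lc_e_rc_13_1 lc_e_Cert_tree lc_e_rc_16_3 lc_e_rc_18_1 lc_e_Cert_tree lc_e_Cert_tree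 lc_e_rc_18_1 lc_e_Cert_tree lc_e_rc_18_1 lc_e_rc_27_7 lc_e_rc_18_1 lc_e_rc_18_1 lc_e_rc_19_4 lc_e_Cert_tree lc_e_Cert_tree lc_e_Cert_tree lc_e_rc_18_1 lc_e_rc_13_3 lc_e_Cert_tree lc_e_rc_18_1 lc_e_Cert_tree lc_e_Cert_tree lc_e_rc_13_1 lc_e_Cert_tree lc_e_rc_4_3 lc_e_rc_16_3 lc_e_Cert_tree lc_e_rc_18_1 lc_e_Cert_tree lc_e_rc_13_3 lc_e_rc_13_3 lc_e_rc_16_1 lc_e_Cert_tree lc_e_rc_18_1 lc_e_rc_13_3 lc_e_rc_18_1 lc_e_rc_18_1 lc_e_rc_18_1 lc_e_Cert_tree lc_e_Cert_tree lc_e_rc_18_1 lc_e_Cert_tree lc_e_Cert_tree lc_e_rc_19_4 lc_e_rc_19_2 lc_e_rc_18_1 lc_e_rc_27_5 lc_e_rc_18_1 lc_e_rc_16_5 lc_e_rc_18_1 lc_e_Cert_tree lc_e_rc_9_3 lc_e_rc_18_1 lc_e_rc_18_1 lc_e_rc_18_1 lc_e_rc_19_4 lc_e_rc_27_1)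 (@D3.rec (fun _ => (Cert rels S Gen.e)) lc_e_rc_18_1 lc_e_Cert_tree lc_e_Cert_tree lc_e_rc_18_1 lc_e_Cert_tree lc_e_Cert_tree lc_e_rc_18_1 lc_e_rc_18_1 lc_e_rc_4_3 lc_e_Cert_tree lc_e_rc_18_1 lc_e_rc_18_1 lc_e_rc_13_3 lc_e_rc_18_1 lc_e_rc_27_1 lc_e_Cert_tree lc_e_rc_18_1 lc_e_rc_9_1 lc_e_rc_18_1 lc_e_rc_18_1 lc_e_rc_18_1 lc_e_rc_16_5 lc_e_rc_27_7 lc_e_rc_18_1 lc_e_rc_9_3 lc_e_Cert_tree lc_e_rc_19_4 lc_e_Cert_tree lc_e_Cert_tree lc_e_rc_18_1 lc_e_rc_18_1 lc_e_rc_16_3 lc_e_rc_19_4 lc_e_rc_13_3 lc_e_Cert_tree lc_e_Cert_tree lc_e_Cert_tree lc_e_rc_18_1 lc_e_Cert_tree lc_e_Cert_tree lc_e_rc_18_1 lc_e_Cert_tree lc_e_rc_27_5 lc_e_rc_27_7 lc_e_rc_16_3 lc_e_rc_18_1 lc_e_rc_18_1 lc_e_rc_16_5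 lc_e_Cert_tree lc_e_rc_9_3 lc_e_rc_19_4 lc_e_rc_16_5 lc_e_Cert_tree lc_e_rc_18_1 lc_e_rc_18_1 lc_e_rc_18_1 lc_e_Cert_tree lc_e_rc_16_1 lc_e_rc_19_4 lc_e_rc_9_3 lc_e_Cert_tree lc_e_Cert_tree) (@D3.rec (fun _ => (Cert rels S Gen.e)) lc_e_rc_18_1 lc_e_rc_18_1 lc_e_Cert_tree lc_e_rc_18_1 lc_e_rc_16_1 lc_e_rc_19_4 lc_e_Cert_tree lc_e_rc_18_1 lc_e_rc_13_3 lc_e_rc_27_5 lc_e_rc_16_3 lc_e_rc_13_3 lc_e_rc_27_5 lc_e_rc_9_3 lc_e_rc_27_1 lc_e_Cert_tree lc_e_rc_18_1 lc_e_rc_9_3 lc_e_Cert_tree lc_e_rc_19_4 lc_e_Cert_tree lc_e_rc_27_5 lc_e_Cert_tree lc_e_Cert_tree lc_e_rc_18_1 lc_e_Cert_tree lc_e_Cert_tree lc_e_rc_18_1 lc_e_rc_27_7 lc_e_rc_27_5 lc_e_rc_16_1 lc_e_rc_19_4 lc_e_rc_13_3 lc_e_rc_16_3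 lc_e_Cert_tree lc_e_rc_18_1 lc_e_Cert_tree lc_e_rc_27_5 lc_e_rc_19_4 lc_e_rc_4_3 lc_e_rc_13_3 lc_e_Cert_tree lc_e_Cert_tree lc_e_rc_18_1 lc_e_rc_18_1 lc_e_rc_18_1 lc_e_rc_19_4 lc_e_Cert_tree lc_e_rc_18_1 lc_e_rc_18_1 lc_e_Cert_tree lc_e_rc_27_7 lc_e_rc_16_5 lc_e_rc_18_1 lc_e_rc_13_1 lc_e_rc_16_3 lc_e_rc_19_4 lc_e_rc_9_3 lc_e_Cert_tree lc_e_rc_4_1 lc_e_rc_16_3 lc_e_rc_18_1) (@D3.rec (fun _ => (Cert rels S Gen.e)) lc_e_rc_18_1 lc_e_rc_19_4 lc_e_Cert_tree lc_e_Cert_tree lc_e_Cert_tree lc_e_Cert_tree lc_e_Cert_tree lc_e_rc_18_1 lc_e_Cert_tree lc_e_Cert_tree lc_e_Cert_tree lc_e_Cert_tree lc_e_rc_18_1 lc_e_Cert_tree lc_e_rc_27_5 lc_e_Cert_tree lc_e_Cert_tree lc_e_rc_18_1 lc_e_rc_18_1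 lc_e_rc_27_7 lc_e_rc_18_1 lc_e_Cert_tree lc_e_rc_18_1 lc_e_Cert_tree lc_e_Cert_tree lc_e_rc_19_4 lc_e_Cert_tree lc_e_Cert_tree lc_e_rc_16_3 lc_e_rc_16_3 lc_e_rc_4_3 lc_e_rc_16_1 lc_e_Cert_tree lc_e_Cert_tree lc_e_rc_27_5 lc_e_rc_18_1 lc_e_rc_18_1 lc_e_Cert_tree lc_e_Cert_tree lc_e_rc_18_1 lc_e_Cert_tree lc_e_Cert_tree lc_e_rc_18_1 lc_e_rc_19_4 lc_e_rc_18_1 lc_e_rc_27_7 lc_e_rc_27_1 lc_e_rc_13_1 lc_e_Cert_tree lc_e_Cert_tree lc_e_rc_18_1 lc_e_rc_16_5 lc_e_rc_27_1 lc_e_rc_19_2 lc_e_rc_27_7 lc_e_rc_18_1 lc_e_Cert_tree lc_e_Cert_tree lc_e_rc_18_1 lc_e_Cert_tree lc_e_rc_18_1 lc_e_Cert_tree) (@D3.rec (fun _ => (Cert rels S Gen.e)) lc_e_rc_18_1 lc_e_Cert_tree lc_e_Cert_tree lc_e_rc_27_1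 lc_e_Cert_tree lc_e_rc_18_1 lc_e_Cert_tree lc_e_Cert_tree lc_e_rc_18_1 lc_e_rc_18_1 lc_e_Cert_tree lc_e_rc_16_1 lc_e_rc_19_4 lc_e_rc_9_3 lc_e_rc_13_3 lc_e_Cert_tree lc_e_Cert_tree lc_e_rc_18_1 lc_e_Cert_tree lc_e_rc_18_1 lc_e_rc_16_3 lc_e_rc_16_3 lc_e_rc_16_3 lc_e_Cert_tree lc_e_Cert_tree lc_e_rc_18_1 lc_e_rc_13_3 lc_e_rc_13_3 lc_e_rc_27_5 lc_e_rc_9_3 lc_e_Cert_tree lc_e_Cert_tree lc_e_rc_18_1 lc_e_Cert_tree lc_e_Cert_tree lc_e_rc_18_1 lc_e_rc_27_7 lc_e_Cert_tree lc_e_rc_18_1 lc_e_Cert_tree lc_e_rc_18_1 lc_e_Cert_tree lc_e_rc_18_1 lc_e_rc_18_1 lc_e_rc_18_1 lc_e_rc_18_1 lc_e_rc_19_4 lc_e_rc_19_4 lc_e_rc_13_3 lc_e_rc_9_3 lc_e_Cert_tree lc_e_rc_18_1 lc_e_rc_9_3 lc_e_Cert_tree lc_e_Cert_tree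 lc_e_rc_27_7 lc_e_rc_18_1 lc_e_rc_27_1 lc_e_rc_4_3 lc_e_Cert_tree lc_e_rc_18_1 lc_e_rc_18_1) (@D3.rec (fun _ => (Cert rels S Gen.e)) lc_e_Cert_tree lc_e_Cert_tree lc_e_Cert_tree lc_e_Cert_tree lc_e_rc_18_1 lc_e_rc_18_1 lc_e_rc_13_3 lc_e_rc_16_1 lc_e_rc_19_4 lc_e_rc_19_0 lc_e_rc_27_5 lc_e_rc_16_3 lc_e_rc_13_3 lc_e_rc_9_3 lc_e_rc_27_7 lc_e_rc_16_5 lc_e_Cert_tree lc_e_rc_18_1 lc_e_Cert_tree lc_e_Cert_tree lc_e_rc_18_1 lc_e_rc_13_3 lc_e_rc_18_1 lc_e_rc_13_3 lc_e_rc_18_1 lc_e_rc_4_3 lc_e_rc_19_2 lc_e_rc_19_4 lc_e_rc_9_3 lc_e_rc_19_2 lc_e_rc_9_3 lc_e_rc_9_3 lc_e_Cert_tree lc_e_Cert_tree lc_e_rc_18_1 lc_e_rc_18_1 lc_e_rc_18_1 lc_e_rc_4_3 lc_e_rc_13_3 lc_e_rc_18_1 lc_e_Cert_tree lc_e_rc_13_3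 lc_e_Cert_tree lc_e_Cert_tree lc_e_rc_18_1 lc_e_rc_18_1 lc_e_rc_18_1 lc_e_Cert_tree lc_e_rc_16_1 lc_e_rc_13_3 lc_e_rc_18_1 lc_e_rc_13_3 lc_e_rc_16_5 lc_e_Cert_tree lc_e_Cert_tree lc_e_rc_27_5 lc_e_rc_18_1 lc_e_Cert_tree lc_e_rc_18_1 lc_e_rc_16_3 lc_e_rc_13_3 lc_e_rc_13_3) (@D3.rec (fun _ => (Cert rels S Gen.e)) lc_e_rc_18_1 lc_e_Cert_tree lc_e_Cert_tree lc_e_rc_4_1 lc_e_rc_9_1 lc_e_rc_16_1 lc_e_rc_19_2 lc_e_rc_27_1 lc_e_rc_16_5 lc_e_rc_4_3 lc_e_rc_19_4 lc_e_rc_16_3 lc_e_rc_18_1 lc_e_rc_16_5 lc_e_rc_18_1 lc_e_rc_13_3 lc_e_rc_13_3 lc_e_Cert_tree lc_e_rc_27_7 lc_e_rc_18_1 lc_e_rc_18_1 lc_e_rc_13_3 lc_e_Cert_tree lc_e_rc_4_1 lc_e_Cert_tree lc_e_rc_18_1 lc_e_rc_18_1 lc_e_Cert_tree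 lc_e_rc_27_5 lc_e_rc_16_1 lc_e_rc_19_4 lc_e_rc_27_7 lc_e_Cert_tree lc_e_rc_18_1 lc_e_rc_9_1 lc_e_rc_18_1 lc_e_rc_4_3 lc_e_Cert_tree lc_e_Cert_tree lc_e_rc_18_1 lc_e_rc_13_3 lc_e_rc_18_1 lc_e_rc_18_1 lc_e_Cert_tree lc_e_rc_27_5 lc_e_rc_19_4 lc_e_rc_9_3 lc_e_Cert_tree lc_e_rc_18_1 lc_e_rc_13_3 lc_e_rc_9_3 lc_e_Cert_tree lc_e_Cert_tree lc_e_rc_27_7 lc_e_rc_18_1 lc_e_rc_9_3 lc_e_rc_13_1 lc_e_Cert_tree lc_e_Cert_tree lc_e_rc_18_1 lc_e_rc_16_3 lc_e_rc_13_3) (@D3.rec (fun _ => (Cert rels S Gen.e)) lc_e_Cert_tree lc_e_rc_18_1 lc_e_rc_9_1 lc_e_Cert_tree lc_e_Cert_tree lc_e_rc_16_3 lc_e_rc_19_4 lc_e_rc_16_1 lc_e_Cert_tree lc_e_Cert_tree lc_e_rc_16_3 lc_e_rc_13_3 lc_e_Cert_tree lc_e_Cert_tree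 lc_e_rc_18_1 lc_e_rc_27_7 lc_e_rc_18_1 lc_e_rc_13_3 lc_e_Cert_tree lc_e_Cert_tree lc_e_rc_18_1 lc_e_Cert_tree lc_e_rc_13_3 lc_e_rc_16_1 lc_e_rc_19_4 lc_e_rc_13_3 lc_e_rc_18_1 lc_e_Cert_tree lc_e_Cert_tree lc_e_Cert_tree lc_e_rc_18_1 lc_e_rc_16_3 lc_e_Cert_tree lc_e_rc_13_1 lc_e_rc_27_1 lc_e_rc_18_1 lc_e_Cert_tree lc_e_Cert_tree lc_e_rc_13_3 lc_e_Cert_tree lc_e_rc_18_1 lc_e_rc_18_1 lc_e_Cert_tree lc_e_rc_4_1 lc_e_Cert_tree lc_e_rc_18_1 lc_e_Cert_tree lc_e_rc_27_1 lc_e_rc_16_1 lc_e_rc_9_3 lc_e_rc_18_1 lc_e_rc_19_4 lc_e_Cert_tree lc_e_Cert_tree lc_e_Cert_tree lc_e_rc_18_1 lc_e_Cert_tree lc_e_Cert_tree lc_e_rc_18_1 lc_e_Cert_tree lc_e_rc_18_1 lc_e_rc_18_1) (@D3.rec (fun _ => (Cert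 rels S Gen.e)) lc_e_rc_16_1 lc_e_rc_19_2 lc_e_Cert_tree lc_e_rc_18_1 lc_e_rc_27_5 lc_e_rc_9_3 lc_e_rc_18_1 lc_e_Cert_tree lc_e_rc_18_1 lc_e_rc_18_1 lc_e_rc_9_3 lc_e_Cert_tree lc_e_rc_27_7 lc_e_rc_18_1 lc_e_Cert_tree lc_e_rc_9_3 lc_e_rc_16_5 lc_e_Cert_tree lc_e_rc_16_1 lc_e_rc_13_3 lc_e_Cert_tree lc_e_rc_18_1 lc_e_Cert_tree lc_e_rc_13_1 lc_e_rc_19_4 lc_e_rc_18_1 lc_e_rc_27_7 lc_e_rc_27_1 lc_e_rc_16_3 lc_e_rc_19_4 lc_e_Cert_tree lc_e_rc_19_4 lc_e_rc_18_1 lc_e_rc_13_3 lc_e_rc_27_1 lc_e_rc_18_1 lc_e_rc_9_3 lc_e_Cert_tree lc_e_rc_18_1 lc_e_rc_18_1 lc_e_rc_9_3 lc_e_rc_27_5 lc_e_rc_18_1 lc_e_Cert_tree lc_e_rc_18_1 lc_e_rc_16_5 lc_e_rc_16_3 lc_e_rc_19_4 lc_e_rc_9_3 lc_e_rc_16_5 lc_e_rc_16_5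 lc_e_rc_9_3 lc_e_rc_18_1 lc_e_rc_13_3 lc_e_rc_13_3 lc_e_Cert_tree lc_e_Cert_tree lc_e_rc_18_1 lc_e_rc_18_1 lc_e_rc_27_5 lc_e_Cert_tree lc_e_rc_16_1) (@D3.rec (fun _ => (Cert rels S Gen.e)) lc_e_rc_19_4 lc_e_rc_9_3 lc_e_rc_13_3 lc_e_rc_13_1 lc_e_rc_18_1 lc_e_rc_18_1 lc_e_rc_27_7 lc_e_rc_16_1 lc_e_rc_9_3 lc_e_Cert_tree lc_e_Cert_tree lc_e_rc_13_1 lc_e_rc_18_1 lc_e_Cert_tree lc_e_rc_19_4 lc_e_rc_18_1 lc_e_rc_18_1 lc_e_rc_27_1 lc_e_Cert_tree lc_e_rc_16_1 lc_e_rc_19_4 lc_e_Cert_tree lc_e_rc_18_1 lc_e_Cert_tree lc_e_rc_4_3 lc_e_rc_13_3 lc_e_Cert_tree lc_e_rc_27_7 lc_e_rc_27_5 lc_e_rc_27_5 lc_e_rc_18_1 lc_e_Cert_tree lc_e_rc_18_1 lc_e_rc_18_1 lc_e_rc_13_3 lc_e_rc_9_1 lc_e_Cert_tree lc_e_rc_18_1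 lc_e_rc_4_1 lc_e_rc_16_1 lc_e_rc_19_4 lc_e_rc_9_3 lc_e_rc_19_2 lc_e_rc_18_1 lc_e_rc_4_3 lc_e_rc_18_1 lc_e_rc_18_1 lc_e_rc_27_5 lc_e_rc_16_1 lc_e_rc_9_3 lc_e_Cert_tree lc_e_Cert_tree lc_e_rc_27_5 lc_e_Cert_tree lc_e_rc_18_1 lc_e_rc_18_1 lc_e_rc_4_1 lc_e_rc_16_1 lc_e_rc_19_4 lc_e_rc_19_0 lc_e_rc_19_0 lc_e_rc_18_1) (@D3.rec (fun _ => (Cert rels S Gen.e)) lc_e_rc_18_1 lc_e_rc_16_3 lc_e_rc_13_3 lc_e_rc_16_5 lc_e_rc_9_3 lc_e_rc_18_1 lc_e_rc_27_5 lc_e_Cert_tree lc_e_rc_18_1 lc_e_rc_18_1 lc_e_rc_13_3 lc_e_rc_27_5 lc_e_rc_18_1 lc_e_rc_18_1 lc_e_rc_19_2 lc_e_Cert_tree lc_e_rc_18_1 lc_e_Cert_tree lc_e_rc_18_1 lc_e_Cert_tree lc_e_rc_18_1 lc_e_Cert_tree lc_e_Cert_tree lc_e_rc_19_4 lc_e_rc_18_1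 lc_e_rc_9_3 lc_e_Cert_tree lc_e_Cert_tree lc_e_rc_4_3 lc_e_rc_18_1 lc_e_rc_16_3 lc_e_rc_27_5 lc_e_Cert_tree lc_e_Cert_tree lc_e_rc_18_1 lc_e_Cert_tree lc_e_rc_9_1 lc_e_rc_18_1 lc_e_Cert_tree lc_e_Cert_tree lc_e_rc_16_5 lc_e_rc_18_1 lc_e_Cert_tree lc_e_Cert_tree lc_e_rc_9_3 lc_e_rc_19_0 lc_e_rc_18_1 lc_e_rc_18_1 lc_e_rc_13_3 lc_e_rc_27_5 lc_e_rc_9_3 lc_e_Cert_tree lc_e_Cert_tree lc_e_Cert_tree lc_e_rc_18_1 lc_e_Cert_tree lc_e_Cert_tree lc_e_rc_18_1 lc_e_rc_18_1 lc_e_rc_13_3 lc_e_rc_16_1 lc_e_rc_19_4) (@D3.rec (fun _ => (Cert rels S Gen.e)) lc_e_rc_27_1 lc_e_rc_4_3 lc_e_rc_4_3 lc_e_rc_18_1 lc_e_rc_9_3 lc_e_rc_9_3 lc_e_rc_9_3 lc_e_rc_27_1 lc_e_rc_16_3 lc_e_Cert_tree lc_e_rc_13_3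 lc_e_Cert_tree lc_e_Cert_tree lc_e_rc_18_1 lc_e_Cert_tree lc_e_rc_19_4 lc_e_rc_18_1 lc_e_rc_9_3 lc_e_rc_18_1 lc_e_rc_9_1 lc_e_Cert_tree lc_e_rc_18_1 lc_e_rc_27_1 lc_e_rc_19_4 lc_e_rc_9_1 lc_e_rc_9_1 lc_e_Cert_tree lc_e_rc_18_1 lc_e_rc_27_5 lc_e_Cert_tree lc_e_Cert_tree lc_e_rc_18_1 lc_e_rc_16_1 lc_e_Cert_tree lc_e_rc_18_1 lc_e_Cert_tree lc_e_rc_4_3 lc_e_rc_16_1 lc_e_rc_19_4 lc_e_rc_18_1 lc_e_Cert_tree lc_e_rc_13_3 lc_e_Cert_tree lc_e_rc_18_1 lc_e_Cert_tree lc_e_rc_4_3 lc_e_rc_16_1 lc_e_rc_19_4 lc_e_rc_13_1 lc_e_Cert_tree lc_e_rc_18_1 lc_e_rc_19_4 lc_e_rc_9_3 lc_e_rc_19_4 lc_e_Cert_tree lc_e_rc_18_1 lc_e_rc_16_1 lc_e_Cert_tree lc_e_rc_16_5 lc_e_Cert_tree lc_e_rc_18_1 lc_e_rc_13_3)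 (@D3.rec (fun _ => (Cert rels S Gen.e)) lc_e_Cert_tree lc_e_rc_18_1 lc_e_Cert_tree lc_e_rc_27_1 lc_e_rc_18_1 lc_e_rc_27_5 lc_e_rc_27_5 lc_e_rc_18_1 lc_e_rc_4_3 lc_e_rc_16_5 lc_e_rc_4_3 lc_e_rc_13_3 lc_e_rc_9_1 lc_e_rc_18_1 lc_e_rc_19_2 lc_e_rc_18_1 lc_e_Cert_tree lc_e_rc_18_1 lc_e_rc_13_1 lc_e_rc_18_1 lc_e_rc_9_1 lc_e_rc_18_1 lc_e_rc_9_1 lc_e_rc_9_3 lc_e_rc_16_5 lc_e_Cert_tree lc_e_rc_18_1 lc_e_rc_18_1 lc_e_rc_18_1 lc_e_Cert_tree lc_e_rc_27_5 lc_e_rc_13_1 lc_e_rc_27_1 lc_e_rc_27_5 lc_e_Cert_tree lc_e_rc_18_1 lc_e_Cert_tree lc_e_rc_18_1 lc_e_rc_9_3 lc_e_Cert_tree lc_e_rc_19_4 lc_e_Cert_tree lc_e_rc_27_5 lc_e_rc_18_1 lc_e_rc_18_1 lc_e_rc_4_1 lc_e_rc_18_1 lc_e_rc_13_1 lc_e_rc_18_1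 lc_e_rc_13_1 lc_e_rc_19_4 lc_e_rc_18_1 lc_e_rc_9_1 lc_e_rc_18_1 lc_e_rc_4_3 lc_e_Cert_tree lc_e_rc_18_1 lc_e_Cert_tree lc_e_rc_16_5 lc_e_rc_18_1 lc_e_rc_18_1 lc_e_rc_19_4) (@D3.rec (fun _ => (Cert rels S Gen.e)) lc_e_rc_13_1 lc_e_rc_4_3 lc_e_rc_18_1 lc_e_Cert_tree lc_e_rc_18_1 lc_e_rc_19_2 lc_e_Cert_tree lc_e_rc_18_1 lc_e_rc_9_1 lc_e_rc_18_1 lc_e_rc_9_3 lc_e_Cert_tree lc_e_Cert_tree lc_e_Cert_tree lc_e_rc_4_3 lc_e_rc_9_3 lc_e_rc_13_3 lc_e_rc_9_3 lc_e_Cert_tree lc_e_rc_18_1 lc_e_Cert_tree lc_e_rc_18_1 lc_e_Cert_tree lc_e_Cert_tree lc_e_rc_4_3 lc_e_Cert_tree lc_e_Cert_tree lc_e_rc_18_1 lc_e_Cert_tree lc_e_rc_18_1 lc_e_rc_9_3 lc_e_rc_27_5 lc_e_Cert_tree lc_e_rc_27_1 lc_e_rc_18_1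 lc_e_Cert_tree lc_e_Cert_tree lc_e_rc_18_1 lc_e_Cert_tree lc_e_rc_19_4 lc_e_Cert_tree lc_e_Cert_tree lc_e_rc_18_1 lc_e_Cert_tree lc_e_Cert_tree lc_e_rc_4_3 lc_e_Cert_tree lc_e_Cert_tree lc_e_Cert_tree lc_e_rc_18_1 lc_e_rc_18_1 lc_e_rc_13_3 lc_e_rc_18_1 lc_e_rc_27_5 lc_e_Cert_tree lc_e_rc_16_5 lc_e_rc_18_1 lc_e_rc_18_1 lc_e_rc_27_1 lc_e_rc_18_1 lc_e_rc_27_5 lc_e_Cert_tree) (@D3.rec (fun _ => (Cert rels S Gen.e)) lc_e_rc_19_4 lc_e_rc_16_5 lc_e_rc_18_1 lc_e_rc_16_1 lc_e_rc_4_3 lc_e_rc_16_5 lc_e_Cert_tree lc_e_rc_18_1 lc_e_rc_16_5 lc_e_Cert_tree lc_e_rc_4_3 lc_e_rc_9_3 lc_e_rc_27_7 lc_e_rc_18_1 lc_e_Cert_tree lc_e_rc_13_3 lc_e_rc_13_3 lc_e_rc_18_1 lc_e_Cert_tree lc_e_Cert_tree lc_e_rc_18_1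 lc_e_Cert_tree lc_e_rc_16_5 lc_e_rc_18_1 lc_e_Cert_tree lc_e_rc_18_1 lc_e_rc_18_1 lc_e_rc_16_1 lc_e_rc_19_4 lc_e_rc_13_3 lc_e_Cert_tree lc_e_rc_4_3 lc_e_Cert_tree lc_e_Cert_tree lc_e_rc_18_1 lc_e_rc_18_1 lc_e_rc_19_2 lc_e_rc_18_1 lc_e_rc_16_1 lc_e_rc_13_3 lc_e_rc_4_3 lc_e_rc_16_3 lc_e_rc_13_3 lc_e_rc_9_3 lc_e_rc_9_3 lc_e_Cert_tree lc_e_rc_27_5 lc_e_rc_18_1 lc_e_Cert_tree lc_e_rc_18_1 lc_e_Cert_tree lc_e_rc_4_3 lc_e_Cert_tree lc_e_Cert_tree lc_e_rc_18_1 lc_e_rc_4_1 lc_e_rc_18_1 lc_e_rc_13_1 lc_e_Cert_tree lc_e_rc_16_1 lc_e_rc_19_4 lc_e_rc_13_3) (@D3.rec (fun _ => (Cert rels S Gen.e)) lc_e_rc_16_5 lc_e_rc_18_1 lc_e_rc_18_1 lc_e_Cert_tree lc_e_Cert_tree lc_e_rc_18_1 lc_e_Cert_tree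 lc_e_rc_27_5 lc_e_rc_19_4 lc_e_rc_27_5 lc_e_Cert_tree lc_e_Cert_tree lc_e_Cert_tree lc_e_rc_18_1 lc_e_rc_18_1 lc_e_Cert_tree lc_e_rc_13_3 lc_e_rc_27_1 lc_e_rc_19_4 lc_e_rc_16_5 lc_e_rc_18_1 lc_e_rc_18_1 lc_e_Cert_tree lc_e_rc_27_5 lc_e_Cert_tree lc_e_rc_13_3 lc_e_rc_18_1 lc_e_rc_27_5 lc_e_rc_18_1 lc_e_rc_16_1 lc_e_rc_19_4 lc_e_rc_27_5 lc_e_Cert_tree lc_e_Cert_tree lc_e_Cert_tree lc_e_rc_18_1 lc_e_rc_18_1 lc_e_rc_27_1 lc_e_rc_19_4 lc_e_Cert_tree lc_e_Cert_tree lc_e_Cert_tree lc_e_rc_18_1 lc_e_rc_16_5 lc_e_Cert_tree lc_e_Cert_tree lc_e_rc_18_1 lc_e_Cert_tree lc_e_rc_27_1 lc_e_Cert_tree lc_e_rc_18_1 lc_e_rc_27_7 lc_e_rc_18_1 lc_e_rc_9_3 lc_e_rc_19_0 lc_e_rc_18_1 lc_e_Cert_tree lc_e_rc_18_1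 lc_e_rc_18_1 lc_e_rc_18_1 lc_e_rc_19_2 lc_e_rc_18_1) (@D3.rec (fun _ => (Cert rels S Gen.e)) lc_e_Cert_tree lc_e_rc_27_7 lc_e_rc_16_3 lc_e_Cert_tree lc_e_rc_27_7 lc_e_rc_18_1 lc_e_rc_9_3 lc_e_rc_13_3 lc_e_rc_27_5 lc_e_Cert_tree lc_e_rc_18_1 lc_e_rc_18_1 lc_e_rc_13_1 lc_e_Cert_tree lc_e_rc_19_4 lc_e_rc_18_1 lc_e_rc_13_3 lc_e_rc_16_5 lc_e_Cert_tree lc_e_rc_27_5 lc_e_rc_18_1 lc_e_rc_13_3 lc_e_rc_9_3 lc_e_rc_13_3 lc_e_Cert_tree lc_e_rc_18_1 lc_e_rc_18_1 lc_e_Cert_tree lc_e_rc_27_5 lc_e_rc_16_1 lc_e_rc_19_4 lc_e_Cert_tree lc_e_Cert_tree lc_e_rc_18_1 lc_e_rc_18_1 lc_e_rc_18_1 lc_e_rc_9_3 lc_e_rc_18_1 lc_e_rc_27_7 lc_e_rc_27_5 lc_e_rc_18_1 lc_e_Cert_tree lc_e_rc_13_3 lc_e_Cert_tree lc_e_rc_27_5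 lc_e_rc_18_1 lc_e_Cert_tree lc_e_rc_27_7 lc_e_Cert_tree lc_e_rc_19_0 lc_e_rc_16_3 lc_e_rc_27_5 lc_e_rc_18_1 lc_e_rc_19_2 lc_e_Cert_tree lc_e_rc_27_1 lc_e_rc_18_1 lc_e_Cert_tree lc_e_Cert_tree lc_e_rc_18_1 lc_e_rc_18_1 lc_e_rc_13_3) (@D3.rec (fun _ => (Cert rels S Gen.e)) lc_e_rc_16_1 lc_e_rc_19_2 lc_e_Cert_tree lc_e_rc_18_1 lc_e_Cert_tree lc_e_rc_27_1 lc_e_rc_18_1 lc_e_rc_9_1 lc_e_Cert_tree lc_e_rc_9_1 lc_e_rc_9_3 lc_e_rc_18_1 lc_e_Cert_tree lc_e_rc_9_3 lc_e_rc_19_4 lc_e_Cert_tree lc_e_rc_27_1 lc_e_rc_18_1 lc_e_rc_27_5 lc_e_rc_18_1 lc_e_rc_13_3 lc_e_rc_18_1 lc_e_rc_9_3 lc_e_rc_13_1 lc_e_Cert_tree lc_e_rc_18_1 lc_e_Cert_tree lc_e_Cert_tree lc_e_rc_18_1 lc_e_Cert_tree lc_e_Cert_tree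 lc_e_rc_4_3 lc_e_Cert_tree lc_e_Cert_tree lc_e_Cert_tree lc_e_rc_18_1 lc_e_rc_18_1 lc_e_rc_9_3 lc_e_Cert_tree lc_e_rc_18_1 lc_e_rc_9_3 lc_e_rc_13_3 lc_e_Cert_tree lc_e_Cert_tree lc_e_rc_18_1 lc_e_rc_9_3 lc_e_rc_13_1 lc_e_Cert_tree lc_e_rc_19_4 lc_e_Cert_tree lc_e_rc_19_4 lc_e_rc_18_1 lc_e_Cert_tree lc_e_Cert_tree lc_e_rc_4_3 lc_e_Cert_tree lc_e_Cert_tree lc_e_rc_4_1 lc_e_Cert_tree lc_e_rc_18_1 lc_e_Cert_tree lc_e_rc_18_1) (@D3.rec (fun _ => (Cert rels S Gen.e)) lc_e_rc_9_3 lc_e_Cert_tree lc_e_rc_18_1 lc_e_rc_18_1 lc_e_Cert_tree lc_e_rc_18_1 lc_e_rc_27_5 lc_e_Cert_tree lc_e_rc_19_4 lc_e_rc_18_1 lc_e_Cert_tree lc_e_rc_18_1 lc_e_rc_18_1 lc_e_rc_18_1 lc_e_rc_19_4 lc_e_rc_18_1 lc_e_Cert_tree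 lc_e_rc_19_4 lc_e_rc_18_1 lc_e_Cert_tree lc_e_rc_27_5 lc_e_rc_19_4 lc_e_Cert_tree lc_e_Cert_tree lc_e_rc_9_1 lc_e_rc_13_3 lc_e_Cert_tree lc_e_rc_18_1 lc_e_rc_18_1 lc_e_rc_18_1 lc_e_rc_18_1 lc_e_Cert_tree lc_e_Cert_tree lc_e_rc_18_1 lc_e_rc_18_1 lc_e_rc_16_1 lc_e_rc_4_3 lc_e_Cert_tree lc_e_Cert_tree lc_e_rc_18_1 lc_e_rc_4_3 lc_e_Cert_tree lc_e_rc_18_1 lc_e_Cert_tree lc_e_Cert_tree lc_e_Cert_tree lc_e_Cert_tree lc_e_rc_18_1 lc_e_rc_18_1 lc_e_rc_27_5 lc_e_Cert_tree lc_e_rc_27_5 lc_e_rc_16_5 lc_e_rc_13_3 lc_e_rc_18_1 lc_e_Cert_tree lc_e_rc_18_1 lc_e_rc_9_3 lc_e_rc_16_1 lc_e_rc_19_4 lc_e_Cert_tree lc_e_Cert_tree) (@D3.rec (fun _ => (Cert rels S Gen.e)) lc_e_Cert_tree lc_e_Cert_tree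 lc_e_rc_18_1 lc_e_rc_18_1 lc_e_rc_19_4 lc_e_rc_18_1 lc_e_rc_16_1 lc_e_rc_19_4 lc_e_rc_4_3 lc_e_rc_18_1 lc_e_rc_13_3 lc_e_rc_27_5 lc_e_rc_9_3 lc_e_Cert_tree lc_e_rc_18_1 lc_e_Cert_tree lc_e_rc_4_3 lc_e_rc_4_1 lc_e_rc_9_3 lc_e_rc_18_1 lc_e_Cert_tree lc_e_Cert_tree lc_e_rc_13_1 lc_e_Cert_tree lc_e_rc_13_3 lc_e_rc_16_3 lc_e_rc_9_3 lc_e_rc_18_1 lc_e_Cert_tree lc_e_rc_27_5 lc_e_rc_19_4 lc_e_rc_4_3 lc_e_Cert_tree lc_e_rc_19_4 lc_e_Cert_tree lc_e_rc_18_1 lc_e_rc_18_1 lc_e_rc_16_5 lc_e_rc_13_3 lc_e_rc_13_3 lc_e_rc_19_2 lc_e_Cert_tree lc_e_rc_18_1 lc_e_rc_18_1 lc_e_Cert_tree lc_e_rc_18_1 lc_e_Cert_tree lc_e_rc_9_3 lc_e_rc_18_1 lc_e_Cert_tree lc_e_rc_18_1 lc_e_Cert_tree lc_e_rc_16_5 lc_e_rc_27_7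 lc_e_Cert_tree lc_e_rc_16_3 lc_e_rc_18_1 lc_e_Cert_tree lc_e_rc_19_4 lc_e_rc_27_5 lc_e_rc_18_1 lc_e_Cert_tree) (@D3.rec (fun _ => (Cert rels S Gen.e)) lc_e_Cert_tree lc_e_Cert_tree lc_e_rc_13_1 lc_e_rc_18_1 lc_e_Cert_tree lc_e_rc_18_1 lc_e_Cert_tree lc_e_rc_18_1 lc_e_Cert_tree lc_e_rc_18_1 lc_e_rc_4_3 lc_e_rc_18_1 lc_e_Cert_tree lc_e_rc_18_1 lc_e_Cert_tree lc_e_rc_18_1 lc_e_rc_27_5 lc_e_Cert_tree lc_e_rc_16_3 lc_e_Cert_tree lc_e_rc_27_5 lc_e_rc_18_1 lc_e_rc_9_3 lc_e_rc_13_3 lc_e_rc_27_5 lc_e_Cert_tree lc_e_rc_18_1 lc_e_rc_18_1 lc_e_rc_18_1 lc_e_rc_13_3 lc_e_rc_16_1 lc_e_rc_19_4 lc_e_rc_16_3 lc_e_rc_19_4 lc_e_rc_16_5 lc_e_rc_16_1 lc_e_rc_27_5 lc_e_rc_16_5 lc_e_rc_18_1 lc_e_rc_18_1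 lc_e_rc_13_3 lc_e_rc_27_1 lc_e_rc_18_1 lc_e_Cert_tree lc_e_rc_18_1 lc_e_rc_4_3 lc_e_rc_27_5 lc_e_rc_16_1 lc_e_rc_19_4 lc_e_rc_27_5 lc_e_rc_18_1 lc_e_rc_13_3 lc_e_rc_18_1 lc_e_Cert_tree lc_e_rc_4_1 lc_e_rc_13_3 lc_e_rc_18_1 lc_e_rc_9_3 lc_e_rc_18_1 lc_e_rc_27_7 lc_e_rc_13_3 lc_e_rc_16_5) (@D3.rec (fun _ => (Cert rels S Gen.e)) lc_e_rc_9_3 lc_e_rc_18_1 lc_e_rc_16_5 lc_e_rc_27_7 lc_e_rc_27_7 lc_e_rc_18_1 lc_e_Cert_tree lc_e_rc_13_1 lc_e_rc_16_1 lc_e_rc_13_3 lc_e_rc_18_1 lc_e_rc_19_4 lc_e_Cert_tree lc_e_Cert_tree lc_e_Cert_tree lc_e_rc_18_1 lc_e_Cert_tree lc_e_rc_4_3 lc_e_rc_18_1 lc_e_Cert_tree lc_e_rc_18_1 lc_e_rc_13_1 lc_e_rc_16_1 lc_e_rc_19_2 lc_e_Cert_tree lc_e_rc_18_1 lc_e_rc_27_5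 lc_e_rc_27_7 lc_e_rc_18_1 lc_e_Cert_tree lc_e_Cert_tree lc_e_rc_18_1 lc_e_rc_4_3 lc_e_Cert_tree lc_e_Cert_tree lc_e_rc_18_1 lc_e_Cert_tree lc_e_Cert_tree lc_e_rc_9_1 lc_e_rc_27_7 lc_e_rc_13_1 lc_e_Cert_tree lc_e_rc_27_5 lc_e_rc_18_1 lc_e_rc_9_1 lc_e_rc_27_5 lc_e_rc_18_1 lc_e_rc_16_5 lc_e_rc_18_1 lc_e_rc_13_1 lc_e_rc_18_1 lc_e_Cert_tree lc_e_rc_18_1 lc_e_rc_13_3 lc_e_Cert_tree lc_e_rc_19_4 lc_e_Cert_tree lc_e_rc_18_1 lc_e_rc_19_4 lc_e_rc_27_5 lc_e_Cert_tree lc_e_rc_19_4) (@D3.rec (fun _ => (Cert rels S Gen.e)) lc_e_rc_9_3 lc_e_rc_19_4 lc_e_rc_16_5 lc_e_Cert_tree lc_e_rc_18_1 lc_e_Cert_tree lc_e_rc_19_4 lc_e_Cert_tree lc_e_rc_19_4 lc_e_Cert_tree lc_e_Cert_tree lc_e_rc_4_3 lc_e_rc_18_1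 lc_e_rc_16_3 lc_e_rc_13_3 lc_e_rc_13_3 lc_e_Cert_tree lc_e_Cert_tree lc_e_rc_18_1 lc_e_rc_18_1 lc_e_rc_18_1 lc_e_Cert_tree lc_e_rc_16_1 lc_e_rc_19_4 lc_e_rc_13_3 lc_e_rc_4_3 lc_e_rc_18_1 lc_e_Cert_tree lc_e_rc_13_3 lc_e_Cert_tree lc_e_Cert_tree lc_e_rc_18_1 lc_e_rc_18_1 lc_e_rc_18_1 lc_e_rc_18_1 lc_e_rc_16_1 lc_e_rc_19_4 lc_e_rc_13_3 lc_e_rc_27_1 lc_e_rc_27_5 lc_e_rc_18_1 lc_e_rc_18_1 lc_e_rc_13_3 lc_e_rc_19_4 lc_e_rc_19_4 lc_e_rc_4_1 lc_e_rc_27_5 lc_e_Cert_tree lc_e_rc_18_1 lc_e_rc_18_1 lc_e_rc_16_1 lc_e_rc_19_4 lc_e_rc_9_3 lc_e_Cert_tree lc_e_Cert_tree lc_e_Cert_tree lc_e_rc_18_1 lc_e_rc_18_1 lc_e_rc_16_1 lc_e_rc_19_4 lc_e_Cert_tree lc_e_rc_18_1) (@D3.rec (fun _ => (Cert rels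 S Gen.e)) lc_e_Cert_tree lc_e_rc_18_1 lc_e_Cert_tree lc_e_rc_18_1 lc_e_rc_13_3 lc_e_rc_18_1 lc_e_rc_18_1 lc_e_rc_18_1 lc_e_Cert_tree lc_e_rc_19_4 lc_e_Cert_tree lc_e_rc_16_3 lc_e_rc_13_1 lc_e_rc_27_5 lc_e_rc_18_1 lc_e_rc_27_5 lc_e_rc_19_4 lc_e_rc_27_5 lc_e_rc_27_5 lc_e_rc_4_1 lc_e_Cert_tree lc_e_Cert_tree lc_e_rc_4_3 lc_e_rc_16_3 lc_e_rc_18_1 lc_e_rc_13_3 lc_e_Cert_tree lc_e_rc_9_1 lc_e_Cert_tree lc_e_rc_18_1 lc_e_rc_18_1 lc_e_rc_13_3 lc_e_rc_16_1 lc_e_rc_19_4 lc_e_rc_13_3 lc_e_rc_18_1 lc_e_rc_16_3 lc_e_rc_13_3 lc_e_rc_27_5 lc_e_rc_9_3 lc_e_Cert_tree lc_e_rc_13_3 lc_e_rc_13_3 lc_e_rc_13_3 lc_e_Cert_tree lc_e_Cert_tree lc_e_rc_18_1 lc_e_rc_18_1 lc_e_Cert_tree lc_e_rc_13_3 lc_e_rc_16_1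 lc_e_rc_19_4 lc_e_rc_18_1 lc_e_rc_18_1 lc_e_rc_18_1 lc_e_rc_27_7 lc_e_rc_4_3 lc_e_rc_9_3 lc_e_rc_13_3 lc_e_rc_18_1 lc_e_rc_18_1 lc_e_rc_16_1) (@D3.rec (fun _ => (Cert rels S Gen.e)) lc_e_rc_19_4 lc_e_rc_13_3 lc_e_Cert_tree lc_e_Cert_tree lc_e_rc_18_1 lc_e_rc_18_1 lc_e_rc_16_1 lc_e_rc_19_4 lc_e_Cert_tree lc_e_Cert_tree lc_e_Cert_tree lc_e_Cert_tree lc_e_rc_18_1 lc_e_Cert_tree lc_e_Cert_tree lc_e_Cert_tree lc_e_Cert_tree lc_e_rc_18_1 lc_e_Cert_tree lc_e_rc_18_1 lc_e_rc_18_1 lc_e_Cert_tree lc_e_rc_18_1 lc_e_rc_18_1 lc_e_Cert_tree lc_e_rc_19_4 lc_e_rc_16_1 lc_e_Cert_tree lc_e_rc_16_1 lc_e_rc_18_1 lc_e_Cert_tree lc_e_rc_18_1 lc_e_Cert_tree lc_e_Cert_tree lc_e_rc_18_1 lc_e_rc_16_5 lc_e_rc_19_4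 lc_e_Cert_tree lc_e_Cert_tree lc_e_rc_18_1 lc_e_Cert_tree lc_e_Cert_tree lc_e_rc_18_1 lc_e_Cert_tree lc_e_Cert_tree lc_e_rc_4_3 lc_e_rc_19_0 lc_e_rc_16_5 lc_e_Cert_tree lc_e_Cert_tree lc_e_rc_18_1 lc_e_rc_4_1 lc_e_rc_18_1 lc_e_rc_9_1 lc_e_rc_18_1 lc_e_rc_4_3 lc_e_rc_9_3 lc_e_Cert_tree lc_e_rc_18_1 lc_e_Cert_tree lc_e_rc_18_1 lc_e_rc_27_1) (@D3.rec (fun _ => (Cert rels S Gen.e)) lc_e_rc_27_5 lc_e_rc_9_1 lc_e_Cert_tree lc_e_Cert_tree lc_e_rc_18_1 lc_e_rc_27_5 lc_e_rc_27_1 lc_e_rc_16_1 lc_e_rc_13_3 lc_e_rc_27_5 lc_e_rc_18_1 lc_e_Cert_tree lc_e_rc_18_1 lc_e_rc_19_4 lc_e_Cert_tree lc_e_Cert_tree lc_e_rc_13_3 lc_e_Cert_tree lc_e_rc_18_1 lc_e_rc_18_1 lc_e_rc_27_5 lc_e_rc_18_1 lc_e_rc_16_1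 lc_e_rc_19_4 lc_e_rc_27_5 lc_e_rc_18_1 lc_e_rc_16_3 lc_e_rc_18_1 lc_e_rc_4_3 lc_e_Cert_tree lc_e_rc_18_1 lc_e_rc_4_1 lc_e_rc_4_3 lc_e_rc_19_4 lc_e_Cert_tree lc_e_rc_18_1 lc_e_rc_18_1 lc_e_Cert_tree lc_e_rc_16_1 lc_e_rc_13_3 lc_e_Cert_tree lc_e_rc_18_1 lc_e_Cert_tree lc_e_rc_4_3 lc_e_rc_4_3 lc_e_Cert_tree lc_e_rc_4_1 lc_e_Cert_tree lc_e_rc_18_1 lc_e_rc_18_1 lc_e_Cert_tree lc_e_rc_13_3 lc_e_rc_13_3 lc_e_Cert_tree lc_e_rc_18_1 lc_e_Cert_tree lc_e_rc_27_5 lc_e_Cert_tree lc_e_Cert_tree lc_e_rc_18_1 lc_e_rc_18_1 lc_e_rc_18_1) (@D3.rec (fun _ => (Cert rels S Gen.e)) lc_e_rc_18_1 lc_e_rc_16_5 lc_e_rc_18_1 lc_e_rc_18_1 lc_e_Cert_tree lc_e_rc_19_4 lc_e_Cert_tree lc_e_Cert_tree lc_e_rc_27_5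 lc_e_rc_18_1 lc_e_rc_4_3 lc_e_rc_13_3 lc_e_rc_27_1 lc_e_rc_9_1 lc_e_rc_18_1 lc_e_Cert_tree lc_e_rc_18_1 lc_e_Cert_tree lc_e_rc_18_1 lc_e_Cert_tree lc_e_rc_18_1 lc_e_rc_18_1 lc_e_rc_19_4 lc_e_Cert_tree lc_e_Cert_tree lc_e_rc_16_3 lc_e_rc_13_3 lc_e_rc_27_5 lc_e_Cert_tree lc_e_Cert_tree lc_e_rc_27_5 lc_e_rc_18_1 lc_e_Cert_tree lc_e_rc_9_3 lc_e_rc_18_1 lc_e_rc_9_1 lc_e_rc_9_3 lc_e_rc_18_1 lc_e_Cert_tree lc_e_Cert_tree lc_e_rc_4_1 lc_e_rc_16_3 lc_e_Cert_tree lc_e_rc_16_3 lc_e_rc_18_1 lc_e_Cert_tree lc_e_rc_18_1 lc_e_Cert_tree lc_e_rc_18_1 lc_e_rc_4_3 lc_e_Cert_tree lc_e_Cert_tree lc_e_Cert_tree lc_e_rc_18_1 lc_e_rc_9_3 lc_e_Cert_tree lc_e_Cert_tree lc_e_Cert_tree lc_e_rc_18_1 lc_e_Cert_tree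 lc_e_rc_16_5 lc_e_Cert_tree) (@D3.rec (fun _ => (Cert rels S Gen.e)) lc_e_rc_18_1 lc_e_Cert_tree lc_e_rc_19_4 lc_e_Cert_tree lc_e_Cert_tree lc_e_rc_4_3 lc_e_rc_16_3 lc_e_rc_18_1 lc_e_rc_4_3 lc_e_rc_18_1 lc_e_rc_27_1 lc_e_Cert_tree lc_e_rc_19_2 lc_e_Cert_tree lc_e_Cert_tree lc_e_rc_18_1 lc_e_rc_18_1 lc_e_rc_18_1 lc_e_rc_13_3 lc_e_Cert_tree lc_e_Cert_tree lc_e_Cert_tree lc_e_rc_18_1 lc_e_rc_9_1 lc_e_Cert_tree lc_e_Cert_tree lc_e_rc_27_1 lc_e_Cert_tree lc_e_rc_27_5 lc_e_Cert_tree lc_e_rc_18_1 lc_e_rc_16_1 lc_e_rc_18_1 lc_e_rc_16_5 lc_e_rc_18_1 lc_e_Cert_tree lc_e_rc_18_1 lc_e_rc_18_1 lc_e_rc_16_1 lc_e_rc_13_3 lc_e_Cert_tree lc_e_rc_18_1 lc_e_rc_9_3 lc_e_Cert_tree lc_e_rc_19_4 lc_e_Cert_tree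 lc_e_rc_18_1 lc_e_rc_9_3 lc_e_Cert_tree lc_e_rc_27_5 lc_e_Cert_tree lc_e_Cert_tree lc_e_rc_18_1 lc_e_Cert_tree lc_e_Cert_tree lc_e_rc_18_1 lc_e_rc_27_7 lc_e_Cert_tree lc_e_rc_16_1 lc_e_rc_19_4 lc_e_rc_13_3 lc_e_rc_27_1) (@D3.rec (fun _ => (Cert rels S Gen.e)) lc_e_Cert_tree lc_e_rc_18_1 lc_e_rc_27_5 lc_e_rc_9_3 lc_e_Cert_tree lc_e_rc_16_3 lc_e_rc_18_1 lc_e_rc_18_1 lc_e_Cert_tree lc_e_rc_27_5 lc_e_rc_16_1 lc_e_rc_19_4 lc_e_Cert_tree lc_e_rc_18_1 lc_e_rc_18_1 lc_e_rc_27_1 lc_e_rc_18_1 lc_e_Cert_tree lc_e_Cert_tree lc_e_rc_18_1 lc_e_rc_27_7 lc_e_rc_18_1 lc_e_rc_16_1 lc_e_rc_19_4 lc_e_rc_27_5 lc_e_Cert_tree lc_e_Cert_tree lc_e_Cert_tree lc_e_rc_18_1 lc_e_rc_18_1 lc_e_rc_16_1 lc_e_rc_19_4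 lc_e_Cert_tree lc_e_Cert_tree lc_e_Cert_tree lc_e_Cert_tree lc_e_Cert_tree lc_e_rc_18_1 lc_e_rc_13_3 lc_e_rc_13_3 lc_e_rc_13_3 lc_e_Cert_tree lc_e_Cert_tree lc_e_Cert_tree lc_e_Cert_tree lc_e_rc_18_1 lc_e_rc_9_1 lc_e_rc_18_1 lc_e_rc_9_1 lc_e_rc_18_1 lc_e_Cert_tree lc_e_rc_18_1 lc_e_Cert_tree lc_e_rc_18_1 lc_e_Cert_tree lc_e_Cert_tree lc_e_rc_19_2 lc_e_rc_18_1 lc_e_rc_16_1 lc_e_rc_18_1 lc_e_Cert_tree lc_e_rc_9_1) (@D3.rec (fun _ => (Cert rels S Gen.e)) lc_e_rc_19_4 lc_e_Cert_tree lc_e_rc_18_1 lc_e_Cert_tree lc_e_Cert_tree lc_e_rc_4_1 lc_e_Cert_tree lc_e_rc_18_1 lc_e_rc_18_1 lc_e_Cert_tree lc_e_rc_16_1 lc_e_rc_19_4 lc_e_rc_18_1 lc_e_Cert_tree lc_e_rc_27_1 lc_e_rc_19_4 lc_e_Cert_tree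 lc_e_rc_18_1 lc_e_rc_16_3 lc_e_rc_9_1 lc_e_rc_18_1 lc_e_rc_19_2 lc_e_Cert_tree lc_e_rc_18_1 lc_e_rc_9_3 lc_e_rc_16_5 lc_e_rc_27_5 lc_e_rc_9_1 lc_e_rc_18_1 lc_e_rc_4_3 lc_e_rc_19_4 lc_e_Cert_tree lc_e_rc_18_1 lc_e_rc_4_1 lc_e_rc_18_1 lc_e_rc_16_1 lc_e_rc_4_3 lc_e_rc_18_1 lc_e_Cert_tree lc_e_rc_18_1 lc_e_Cert_tree lc_e_rc_27_1 lc_e_rc_13_3 lc_e_rc_9_1 lc_e_rc_27_1 lc_e_rc_9_3 lc_e_Cert_tree lc_e_Cert_tree lc_e_Cert_tree lc_e_Cert_tree lc_e_rc_18_1 lc_e_rc_27_5 lc_e_rc_27_7 lc_e_rc_27_1 lc_e_rc_19_2 lc_e_rc_9_3 lc_e_rc_13_3 lc_e_rc_27_5 lc_e_rc_27_1 lc_e_rc_13_3 lc_e_Cert_tree lc_e_Cert_tree) (@D3.rec (fun _ => (Cert rels S Gen.e)) lc_e_rc_18_1 lc_e_rc_18_1 lc_e_rc_18_1 lc_e_rc_27_5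 lc_e_rc_16_1 lc_e_Cert_tree lc_e_Cert_tree lc_e_Cert_tree lc_e_rc_4_3 lc_e_rc_18_1 lc_e_rc_18_1 lc_e_rc_16_1 lc_e_rc_27_7 lc_e_rc_9_3 lc_e_Cert_tree lc_e_Cert_tree lc_e_Cert_tree lc_e_rc_18_1 lc_e_rc_18_1 lc_e_rc_18_1 lc_e_rc_16_1 lc_e_Cert_tree lc_e_Cert_tree lc_e_rc_16_1 lc_e_rc_18_1 lc_e_Cert_tree lc_e_Cert_tree lc_e_rc_13_3 lc_e_rc_18_1 lc_e_Cert_tree lc_e_rc_18_1 lc_e_Cert_tree lc_e_rc_16_5 lc_e_rc_18_1 lc_e_rc_18_1 lc_e_rc_27_1 lc_e_rc_16_1 lc_e_rc_9_1 lc_e_Cert_tree lc_e_rc_18_1 lc_e_Cert_tree lc_e_rc_18_1 lc_e_rc_9_3 lc_e_rc_16_3 lc_e_rc_16_1 lc_e_rc_19_4 lc_e_rc_9_3 lc_e_rc_16_5 lc_e_Cert_tree lc_e_Cert_tree lc_e_Cert_tree lc_e_rc_18_1 lc_e_Cert_tree lc_e_rc_18_1 lc_e_rc_13_3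 lc_e_Cert_tree lc_e_rc_19_0 lc_e_rc_9_1 lc_e_rc_16_3 lc_e_Cert_tree lc_e_rc_18_1 lc_e_Cert_tree) (@D3.rec (fun _ => (Cert rels S Gen.e)) lc_e_rc_18_1 lc_e_Cert_tree lc_e_rc_18_1 lc_e_rc_13_3 lc_e_Cert_tree lc_e_rc_27_5 lc_e_rc_9_3 lc_e_Cert_tree lc_e_rc_19_4 lc_e_Cert_tree lc_e_Cert_tree lc_e_Cert_tree lc_e_rc_18_1 lc_e_rc_13_3 lc_e_Cert_tree lc_e_rc_4_3 lc_e_Cert_tree lc_e_rc_27_1 lc_e_Cert_tree lc_e_rc_18_1 lc_e_Cert_tree lc_e_rc_18_1 lc_e_rc_18_1 lc_e_rc_27_5 lc_e_Cert_tree lc_e_Cert_tree lc_e_Cert_tree lc_e_rc_18_1 lc_e_rc_18_1 lc_e_rc_19_0 lc_e_rc_16_1 lc_e_rc_13_1 lc_e_rc_16_3 lc_e_rc_18_1 lc_e_rc_27_5 lc_e_Cert_tree lc_e_Cert_tree lc_e_rc_4_1 lc_e_rc_18_1 lc_e_rc_9_3 lc_e_rc_19_4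 lc_e_Cert_tree lc_e_rc_4_3 lc_e_rc_18_1 lc_e_rc_13_3 lc_e_rc_18_1 lc_e_rc_16_3 lc_e_rc_16_1 lc_e_rc_27_1 lc_e_rc_13_3 lc_e_Cert_tree lc_e_Cert_tree lc_e_Cert_tree lc_e_Cert_tree lc_e_rc_18_1 lc_e_Cert_tree lc_e_rc_18_1 lc_e_Cert_tree lc_e_rc_27_5 lc_e_Cert_tree lc_e_rc_18_1 lc_e_rc_18_1) (@D3.rec (fun _ => (Cert rels S Gen.e)) lc_e_rc_18_1 lc_e_rc_16_1 lc_e_rc_13_1 lc_e_Cert_tree lc_e_rc_16_3 lc_e_rc_16_1 lc_e_rc_13_3 lc_e_Cert_tree lc_e_Cert_tree lc_e_Cert_tree lc_e_rc_18_1 lc_e_rc_9_3 lc_e_Cert_tree lc_e_Cert_tree lc_e_Cert_tree lc_e_rc_13_3 lc_e_Cert_tree lc_e_rc_13_1 lc_e_Cert_tree lc_e_Cert_tree lc_e_rc_18_1 lc_e_rc_18_1 lc_e_rc_19_4 lc_e_rc_13_3 lc_e_rc_13_3 lc_e_Cert_tree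 lc_e_rc_13_3 lc_e_rc_9_3 lc_e_Cert_tree lc_e_rc_13_3 lc_e_Cert_tree lc_e_Cert_tree lc_e_rc_18_1 lc_e_Cert_tree lc_e_Cert_tree lc_e_rc_18_1 lc_e_Cert_tree lc_e_rc_16_5 lc_e_rc_4_3 lc_e_Cert_tree lc_e_Cert_tree lc_e_rc_18_1 lc_e_rc_19_4 lc_e_Cert_tree lc_e_rc_13_1 lc_e_Cert_tree lc_e_Cert_tree lc_e_rc_18_1 lc_e_rc_18_1 lc_e_rc_9_3 lc_e_Cert_tree lc_e_rc_13_1 lc_e_rc_13_3 lc_e_rc_18_1 lc_e_rc_18_1 lc_e_rc_27_5 lc_e_rc_18_1 lc_e_rc_19_4 lc_e_Cert_tree lc_e_Cert_tree lc_e_Cert_tree lc_e_rc_18_1) (@D3.rec (fun _ => (Cert rels S Gen.e)) lc_e_rc_16_3 lc_e_rc_4_3 lc_e_Cert_tree lc_e_rc_9_1 lc_e_Cert_tree lc_e_rc_13_1 lc_e_rc_18_1 lc_e_rc_9_3 lc_e_rc_18_1 lc_e_rc_27_5 lc_e_rc_18_1 lc_e_rc_13_3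 lc_e_rc_16_3 lc_e_Cert_tree lc_e_rc_18_1 lc_e_Cert_tree lc_e_Cert_tree lc_e_rc_16_1 lc_e_rc_19_2 lc_e_Cert_tree lc_e_rc_18_1 lc_e_Cert_tree lc_e_rc_18_1 lc_e_Cert_tree lc_e_rc_18_1 lc_e_rc_16_1 lc_e_rc_19_4 lc_e_rc_9_3 lc_e_Cert_tree lc_e_rc_18_1 lc_e_Cert_tree lc_e_rc_27_5 lc_e_rc_16_3 lc_e_rc_18_1 lc_e_rc_27_1 lc_e_Cert_tree lc_e_rc_18_1 lc_e_Cert_tree lc_e_rc_9_3 lc_e_rc_18_1 lc_e_rc_27_5 lc_e_Cert_tree lc_e_rc_4_3 lc_e_Cert_tree lc_e_rc_18_1 lc_e_Cert_tree lc_e_rc_18_1 lc_e_rc_16_1 lc_e_rc_13_3 lc_e_rc_18_1 lc_e_rc_9_3 lc_e_rc_9_3 lc_e_Cert_tree lc_e_Cert_tree lc_e_rc_18_1 lc_e_rc_16_5 lc_e_rc_27_5 lc_e_Cert_tree lc_e_rc_13_3 lc_e_Cert_tree lc_e_Cert_tree lc_e_rc_9_3) (@D3.rec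 (fun _ => (Cert rels S Gen.e)) lc_e_Cert_tree lc_e_Cert_tree lc_e_rc_4_3 lc_e_rc_18_1 lc_e_rc_9_3 lc_e_rc_19_0 lc_e_Cert_tree lc_e_Cert_tree lc_e_rc_18_1 lc_e_rc_18_1 lc_e_rc_9_3 lc_e_rc_13_3 lc_e_rc_9_3 lc_e_rc_18_1 lc_e_rc_27_5 lc_e_Cert_tree lc_e_rc_18_1 lc_e_Cert_tree lc_e_rc_19_4 lc_e_Cert_tree lc_e_Cert_tree lc_e_Cert_tree lc_e_rc_18_1 lc_e_rc_18_1 lc_e_rc_18_1 lc_e_Cert_tree lc_e_Cert_tree lc_e_rc_27_5 lc_e_rc_18_1 lc_e_Cert_tree lc_e_rc_9_3 lc_e_Cert_tree lc_e_rc_18_1 lc_e_rc_9_3 lc_e_Cert_tree lc_e_Cert_tree lc_e_rc_18_1 lc_e_Cert_tree lc_e_Cert_tree lc_e_rc_18_1 lc_e_rc_27_5 lc_e_rc_18_1 lc_e_Cert_tree lc_e_rc_18_1 lc_e_rc_18_1 lc_e_rc_19_2 lc_e_rc_13_3 lc_e_Cert_tree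 lc_e_Cert_tree lc_e_Cert_tree lc_e_Cert_tree lc_e_rc_18_1 lc_e_rc_4_1 lc_e_rc_16_5 lc_e_rc_27_7 lc_e_Cert_tree lc_e_rc_27_5 lc_e_rc_18_1 lc_e_Cert_tree lc_e_Cert_tree lc_e_Cert_tree lc_e_rc_18_1) (@D3.rec (fun _ => (Cert rels S Gen.e)) lc_e_Cert_tree lc_e_rc_16_3 lc_e_Cert_tree lc_e_rc_9_3 lc_e_rc_19_4 lc_e_Cert_tree lc_e_rc_16_1 lc_e_rc_16_1 lc_e_rc_16_5 lc_e_Cert_tree lc_e_rc_18_1 lc_e_Cert_tree lc_e_rc_4_1 lc_e_rc_18_1 lc_e_rc_13_3 lc_e_Cert_tree lc_e_Cert_tree lc_e_rc_18_1 lc_e_rc_9_1 lc_e_Cert_tree lc_e_rc_19_4 lc_e_Cert_tree lc_e_rc_18_1 lc_e_rc_16_5 lc_e_Cert_tree lc_e_Cert_tree lc_e_rc_18_1 lc_e_Cert_tree lc_e_rc_18_1 lc_e_rc_27_1 lc_e_rc_13_3 lc_e_rc_18_1 lc_e_rc_18_1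 lc_e_Cert_tree lc_e_Cert_tree lc_e_rc_18_1 lc_e_rc_9_3 lc_e_rc_18_1 lc_e_Cert_tree lc_e_rc_18_1 lc_e_rc_9_1 lc_e_rc_16_1 lc_e_rc_19_2 lc_e_Cert_tree lc_e_Cert_tree lc_e_rc_13_1 lc_e_rc_18_1 lc_e_Cert_tree lc_e_Cert_tree lc_e_rc_18_1 lc_e_Cert_tree lc_e_Cert_tree lc_e_rc_18_1 lc_e_rc_13_3 lc_e_Cert_tree lc_e_Cert_tree lc_e_rc_18_1 lc_e_Cert_tree lc_e_Cert_tree lc_e_rc_16_3 lc_e_Cert_tree lc_e_rc_18_1) (@D3.rec (fun _ => (Cert rels S Gen.e)) lc_e_Cert_tree lc_e_Cert_tree lc_e_rc_16_3 lc_e_Cert_tree lc_e_Cert_tree lc_e_rc_18_1 lc_e_rc_13_3 lc_e_rc_16_3 lc_e_rc_19_4 lc_e_Cert_tree lc_e_Cert_tree lc_e_rc_18_1 lc_e_rc_16_5 lc_e_rc_16_3 lc_e_rc_19_2 lc_e_rc_27_5 lc_e_rc_19_4 lc_e_rc_18_1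 lc_e_rc_4_3 lc_e_Cert_tree lc_e_rc_13_1 lc_e_Cert_tree lc_e_rc_18_1 lc_e_rc_16_5 lc_e_rc_13_3 lc_e_Cert_tree lc_e_rc_18_1 lc_e_rc_27_7 lc_e_Cert_tree lc_e_rc_16_3 lc_e_Cert_tree lc_e_Cert_tree lc_e_rc_27_5 lc_e_rc_18_1 lc_e_Cert_tree lc_e_Cert_tree lc_e_Cert_tree lc_e_rc_18_1 lc_e_rc_18_1 lc_e_rc_13_3 lc_e_rc_13_3 lc_e_Cert_tree lc_e_rc_16_3 lc_e_rc_18_1 lc_e_Cert_tree lc_e_rc_27_5 lc_e_rc_18_1 lc_e_rc_16_3 lc_e_rc_16_5 lc_e_Cert_tree lc_e_rc_18_1 lc_e_rc_18_1 lc_e_rc_18_1 lc_e_rc_18_1 lc_e_Cert_tree lc_e_rc_27_5 lc_e_rc_18_1 lc_e_rc_18_1 lc_e_rc_9_3 lc_e_Cert_tree lc_e_rc_18_1 lc_e_rc_13_1) (@D3.rec (fun _ => (Cert rels S Gen.e)) lc_e_rc_4_3 lc_e_Cert_tree lc_e_rc_18_1 lc_e_rc_18_1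 lc_e_rc_27_7 lc_e_rc_27_5 lc_e_Cert_tree lc_e_rc_18_1 lc_e_rc_19_4 lc_e_rc_13_3 lc_e_Cert_tree lc_e_Cert_tree lc_e_rc_18_1 lc_e_rc_9_1 lc_e_rc_16_5 lc_e_rc_4_3 lc_e_Cert_tree lc_e_Cert_tree lc_e_rc_27_1 lc_e_rc_18_1 lc_e_rc_18_1 lc_e_rc_18_1 lc_e_Cert_tree lc_e_rc_13_3 lc_e_rc_18_1 lc_e_rc_13_3 lc_e_Cert_tree lc_e_rc_16_1 lc_e_Cert_tree lc_e_rc_9_3 lc_e_Cert_tree lc_e_Cert_tree lc_e_Cert_tree lc_e_rc_18_1 lc_e_rc_19_4 lc_e_Cert_tree lc_e_rc_18_1 lc_e_rc_13_3 lc_e_rc_16_3 lc_e_rc_18_1 lc_e_rc_19_2 lc_e_rc_27_1 lc_e_rc_19_4 lc_e_rc_13_3 lc_e_Cert_tree lc_e_Cert_tree lc_e_Cert_tree lc_e_rc_18_1 lc_e_Cert_tree lc_e_rc_18_1 lc_e_Cert_tree lc_e_rc_13_3 lc_e_rc_19_0 lc_e_rc_9_1 lc_e_rc_27_1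 lc_e_rc_18_1 lc_e_rc_27_1 lc_e_Cert_tree lc_e_rc_18_1 lc_e_rc_18_1 lc_e_Cert_tree lc_e_Cert_tree) (@D3.rec (fun _ => (Cert rels S Gen.e)) lc_e_rc_18_1 lc_e_rc_19_0 lc_e_rc_18_1 lc_e_rc_18_1 lc_e_rc_4_3 lc_e_rc_16_1 lc_e_rc_19_4 lc_e_rc_13_3 lc_e_rc_16_3 lc_e_Cert_tree lc_e_rc_4_3 lc_e_rc_18_1 lc_e_rc_13_1 lc_e_rc_18_1 lc_e_rc_9_3 lc_e_rc_9_3 lc_e_rc_13_3 lc_e_rc_18_1 lc_e_rc_27_5 lc_e_rc_18_1 lc_e_Cert_tree lc_e_rc_16_3 lc_e_rc_13_3 lc_e_rc_19_2 lc_e_rc_18_1 lc_e_rc_13_3 lc_e_rc_18_1 lc_e_rc_16_5 lc_e_rc_18_1 lc_e_Cert_tree lc_e_rc_4_3 lc_e_rc_18_1 lc_e_rc_27_5 lc_e_Cert_tree lc_e_rc_13_3 lc_e_Cert_tree lc_e_Cert_tree lc_e_Cert_tree lc_e_rc_18_1 lc_e_Cert_tree lc_e_rc_27_5 lc_e_rc_13_3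 lc_e_rc_19_4 lc_e_Cert_tree lc_e_rc_18_1 lc_e_rc_18_1 lc_e_rc_13_3 lc_e_Cert_tree lc_e_rc_18_1 lc_e_Cert_tree lc_e_rc_4_3 lc_e_rc_18_1 lc_e_Cert_tree lc_e_rc_18_1 lc_e_Cert_tree lc_e_rc_27_5 lc_e_Cert_tree lc_e_rc_18_1 lc_e_rc_18_1 lc_e_rc_9_3 lc_e_rc_16_3 lc_e_rc_16_1) (@D3.rec (fun _ => (Cert rels S Gen.e)) lc_e_rc_27_1 lc_e_rc_27_5 lc_e_Cert_tree lc_e_Cert_tree lc_e_rc_18_1 lc_e_rc_13_3 lc_e_rc_27_5 lc_e_rc_13_3 lc_e_rc_9_1 lc_e_Cert_tree lc_e_rc_18_1 lc_e_Cert_tree lc_e_rc_18_1 lc_e_rc_16_3 lc_e_Cert_tree lc_e_Cert_tree lc_e_rc_13_3 lc_e_rc_18_1 lc_e_rc_27_1 lc_e_Cert_tree lc_e_rc_4_3 lc_e_Cert_tree lc_e_Cert_tree lc_e_rc_18_1 lc_e_rc_4_1 lc_e_Cert_tree lc_e_rc_18_1 lc_e_rc_18_1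 lc_e_rc_16_1 lc_e_rc_19_2 lc_e_rc_4_3 lc_e_Cert_tree lc_e_Cert_tree lc_e_rc_18_1 lc_e_rc_18_1 lc_e_Cert_tree lc_e_rc_18_1 lc_e_rc_9_3 lc_e_rc_9_3 lc_e_rc_19_2 lc_e_rc_4_1 lc_e_Cert_tree lc_e_rc_18_1 lc_e_rc_27_1 lc_e_Cert_tree lc_e_rc_19_4 lc_e_Cert_tree lc_e_Cert_tree lc_e_rc_16_3 lc_e_rc_19_0 lc_e_rc_19_2 lc_e_Cert_tree lc_e_rc_18_1 lc_e_rc_13_3 lc_e_Cert_tree lc_e_Cert_tree lc_e_Cert_tree lc_e_Cert_tree lc_e_rc_18_1 lc_e_rc_18_1 lc_e_rc_18_1 lc_e_Cert_tree) (@D3.rec (fun _ => (Cert rels S Gen.e)) lc_e_rc_13_1 lc_e_rc_16_1 lc_e_Cert_tree lc_e_rc_27_5 lc_e_rc_18_1 lc_e_Cert_tree lc_e_Cert_tree lc_e_rc_9_1 lc_e_rc_16_5 lc_e_rc_18_1 lc_e_rc_18_1 lc_e_Cert_tree lc_e_rc_13_3 lc_e_Cert_tree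 lc_e_rc_18_1 lc_e_Cert_tree lc_e_rc_18_1 lc_e_Cert_tree lc_e_rc_18_1 lc_e_Cert_tree lc_e_Cert_tree lc_e_rc_18_1 lc_e_rc_18_1 lc_e_Cert_tree lc_e_rc_27_7 lc_e_rc_16_1 lc_e_rc_19_2 lc_e_Cert_tree lc_e_rc_27_7 lc_e_rc_18_1 lc_e_rc_13_3 lc_e_Cert_tree lc_e_Cert_tree lc_e_rc_18_1 lc_e_rc_18_1 lc_e_rc_19_4 lc_e_Cert_tree lc_e_Cert_tree lc_e_Cert_tree lc_e_Cert_tree lc_e_rc_18_1 lc_e_rc_18_1 lc_e_rc_13_3 lc_e_rc_16_1 lc_e_rc_19_4 lc_e_rc_4_3 lc_e_rc_27_5 lc_e_Cert_tree lc_e_Cert_tree lc_e_Cert_tree lc_e_rc_18_1 lc_e_rc_18_1 lc_e_rc_16_1 lc_e_rc_4_1 lc_e_Cert_tree lc_e_Cert_tree lc_e_Cert_tree lc_e_rc_27_1 lc_e_rc_18_1 lc_e_rc_18_1 lc_e_rc_16_1 lc_e_rc_19_4) (@D3.rec (fun _ => (Cert rels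 S Gen.e)) lc_e_Cert_tree lc_e_rc_9_3 lc_e_Cert_tree lc_e_rc_18_1 lc_e_Cert_tree lc_e_Cert_tree lc_e_rc_18_1 lc_e_rc_4_1 lc_e_rc_18_1 lc_e_rc_13_3 lc_e_Cert_tree lc_e_Cert_tree lc_e_rc_18_1 lc_e_Cert_tree lc_e_rc_9_1 lc_e_rc_16_3 lc_e_Cert_tree lc_e_rc_16_1 lc_e_rc_16_5 lc_e_rc_9_3 lc_e_rc_27_5 lc_e_Cert_tree lc_e_rc_27_1 lc_e_rc_18_1 lc_e_rc_13_1 lc_e_rc_13_3 lc_e_rc_9_3 lc_e_rc_27_5 lc_e_Cert_tree lc_e_rc_18_1 lc_e_Cert_tree lc_e_rc_18_1 lc_e_Cert_tree lc_e_Cert_tree lc_e_rc_18_1 lc_e_rc_18_1 lc_e_Cert_tree lc_e_Cert_tree lc_e_rc_18_1 lc_e_rc_18_1 lc_e_rc_9_3 lc_e_Cert_tree lc_e_Cert_tree lc_e_rc_18_1 lc_e_Cert_tree lc_e_rc_27_7 lc_e_Cert_tree lc_e_Cert_tree lc_e_rc_18_1 lc_e_rc_18_1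 lc_e_Cert_tree lc_e_rc_27_7 lc_e_rc_16_1 lc_e_rc_13_3 lc_e_rc_16_1 lc_e_Cert_tree lc_e_rc_27_1 lc_e_rc_18_1 lc_e_rc_13_3 lc_e_rc_27_5 lc_e_rc_19_2 lc_e_rc_18_1) (@D3.rec (fun _ => (Cert rels S Gen.e)) lc_e_rc_18_1 lc_e_rc_27_1 lc_e_rc_18_1 lc_e_Cert_tree lc_e_rc_18_1 lc_e_rc_9_3 lc_e_rc_18_1 lc_e_rc_9_3 lc_e_rc_13_1 lc_e_rc_27_1 lc_e_rc_16_1 lc_e_rc_27_7 lc_e_rc_9_3 lc_e_rc_27_7 lc_e_rc_27_7 lc_e_rc_27_7 lc_e_rc_4_3 lc_e_rc_18_1 lc_e_rc_18_1 lc_e_rc_27_7 lc_e_rc_16_5 lc_e_rc_27_5 lc_e_rc_18_1 lc_e_rc_18_1 lc_e_Cert_tree lc_e_Cert_tree lc_e_rc_18_1 lc_e_rc_18_1 lc_e_Cert_tree lc_e_rc_18_1 lc_e_rc_18_1 lc_e_rc_27_5 lc_e_rc_16_1 lc_e_rc_16_1 lc_e_rc_16_5 lc_e_rc_27_5 lc_e_rc_27_5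 lc_e_rc_13_1 lc_e_Cert_tree lc_e_Cert_tree lc_e_rc_18_1 lc_e_rc_18_1 lc_e_rc_18_1 lc_e_Cert_tree lc_e_rc_16_3 lc_e_rc_18_1 lc_e_Cert_tree lc_e_rc_13_3 lc_e_Cert_tree lc_e_rc_18_1 lc_e_Cert_tree lc_e_rc_18_1 lc_e_rc_16_5 lc_e_rc_27_7 lc_e_rc_16_1 lc_e_rc_19_4 lc_e_rc_13_1 lc_e_rc_16_1 lc_e_rc_27_7 lc_e_rc_18_1 lc_e_rc_16_5 lc_e_rc_13_3) (@D3.rec (fun _ => (Cert rels S Gen.e)) lc_e_rc_9_3 lc_e_rc_13_3 lc_e_rc_18_1 lc_e_rc_27_1 lc_e_rc_27_5 lc_e_rc_18_1 lc_e_rc_18_1 lc_e_rc_27_5 lc_e_rc_16_1 lc_e_rc_19_2 lc_e_rc_27_1 lc_e_rc_27_1 lc_e_rc_9_3 lc_e_rc_27_7 lc_e_rc_18_1 lc_e_rc_18_1 lc_e_Cert_tree lc_e_rc_18_1 lc_e_Cert_tree lc_e_Cert_tree lc_e_rc_18_1 lc_e_rc_27_1 lc_e_rc_18_1 lc_e_Cert_tree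 lc_e_rc_27_5 lc_e_rc_27_5 lc_e_Cert_tree lc_e_Cert_tree lc_e_Cert_tree lc_e_Cert_tree lc_e_rc_18_1 lc_e_Cert_tree lc_e_Cert_tree lc_e_rc_18_1 lc_e_Cert_tree lc_e_rc_18_1 lc_e_rc_4_3 lc_e_rc_27_5 lc_e_rc_18_1 lc_e_rc_4_3 lc_e_rc_9_1 lc_e_Cert_tree lc_e_rc_18_1 lc_e_Cert_tree lc_e_rc_9_3 lc_e_rc_18_1 lc_e_Cert_tree lc_e_Cert_tree lc_e_Cert_tree lc_e_rc_13_3 lc_e_Cert_tree lc_e_Cert_tree lc_e_rc_18_1 lc_e_rc_13_3 lc_e_Cert_tree lc_e_Cert_tree lc_e_Cert_tree lc_e_Cert_tree lc_e_rc_18_1 lc_e_Cert_tree lc_e_Cert_tree lc_e_rc_16_3) (@D3.rec (fun _ => (Cert rels S Gen.e)) lc_e_Cert_tree lc_e_rc_27_5 lc_e_rc_18_1 lc_e_Cert_tree lc_e_rc_18_1 lc_e_rc_19_0 lc_e_rc_19_4 lc_e_Cert_tree lc_e_Cert_tree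 lc_e_Cert_tree lc_e_Cert_tree lc_e_rc_18_1 lc_e_rc_18_1 lc_e_rc_9_3 lc_e_rc_16_1 lc_e_rc_4_1 lc_e_rc_13_3 lc_e_rc_18_1 lc_e_Cert_tree lc_e_Cert_tree lc_e_rc_18_1 lc_e_rc_9_1 lc_e_rc_18_1 lc_e_rc_18_1 lc_e_rc_18_1 lc_e_Cert_tree lc_e_rc_18_1 lc_e_rc_16_3 lc_e_rc_27_5 lc_e_rc_16_1 lc_e_Cert_tree lc_e_Cert_tree lc_e_Cert_tree lc_e_rc_18_1 lc_e_rc_16_3 lc_e_rc_18_1 lc_e_rc_19_0 lc_e_rc_9_3 lc_e_rc_18_1 lc_e_rc_27_5 lc_e_rc_13_1 lc_e_Cert_tree lc_e_rc_27_5 lc_e_Cert_tree lc_e_Cert_tree lc_e_Cert_tree lc_e_rc_9_3 lc_e_rc_18_1 lc_e_rc_18_1 lc_e_Cert_tree lc_e_Cert_tree lc_e_Cert_tree lc_e_Cert_tree lc_e_rc_9_3 lc_e_rc_18_1 lc_e_Cert_tree lc_e_rc_13_1 lc_e_rc_16_5 lc_e_rc_13_3 lc_e_rc_27_5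 lc_e_Cert_tree lc_e_Cert_tree) (@D3.rec (fun _ => (Cert rels S Gen.e)) lc_e_rc_16_5 lc_e_rc_13_1 lc_e_rc_18_1 lc_e_rc_18_1 lc_e_rc_16_1 lc_e_rc_27_7 lc_e_Cert_tree lc_e_Cert_tree lc_e_rc_16_3 lc_e_rc_18_1 lc_e_rc_13_1 lc_e_Cert_tree lc_e_Cert_tree lc_e_Cert_tree lc_e_rc_18_1 lc_e_Cert_tree lc_e_rc_4_3 lc_e_rc_18_1 lc_e_Cert_tree lc_e_rc_18_1 lc_e_Cert_tree lc_e_Cert_tree lc_e_Cert_tree lc_e_rc_18_1 lc_e_Cert_tree lc_e_rc_13_3 lc_e_rc_27_1 lc_e_rc_19_2 lc_e_Cert_tree lc_e_rc_18_1 lc_e_Cert_tree lc_e_rc_18_1 lc_e_Cert_tree lc_e_rc_18_1 lc_e_rc_16_1 lc_e_rc_19_2 lc_e_Cert_tree lc_e_rc_19_0 lc_e_rc_9_3 lc_e_rc_18_1 lc_e_rc_9_3 lc_e_rc_16_1 lc_e_rc_16_3 lc_e_Cert_tree lc_e_rc_13_3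 lc_e_Cert_tree lc_e_rc_13_3 lc_e_Cert_tree lc_e_Cert_tree lc_e_rc_18_1 lc_e_rc_9_3 lc_e_Cert_tree lc_e_rc_13_3 lc_e_rc_27_1 lc_e_rc_9_3 lc_e_rc_18_1 lc_e_rc_27_5 lc_e_Cert_tree lc_e_rc_13_1 lc_e_rc_9_3 lc_e_Cert_tree lc_e_rc_18_1) (@D3.rec (fun _ => (Cert rels S Gen.e)) lc_e_Cert_tree lc_e_rc_18_1 lc_e_rc_27_5 lc_e_rc_27_1 lc_e_rc_4_3 lc_e_Cert_tree lc_e_rc_18_1 lc_e_Cert_tree lc_e_Cert_tree lc_e_Cert_tree lc_e_rc_18_1 lc_e_rc_13_3 lc_e_rc_13_3 lc_e_Cert_tree lc_e_Cert_tree lc_e_rc_18_1 lc_e_Cert_tree lc_e_rc_18_1 lc_e_rc_16_1 lc_e_rc_16_5 lc_e_Cert_tree lc_e_Cert_tree lc_e_rc_27_1 lc_e_rc_18_1 lc_e_Cert_tree lc_e_Cert_tree lc_e_rc_18_1 lc_e_Cert_tree lc_e_rc_18_1 lc_e_rc_27_1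 lc_e_rc_16_1 lc_e_rc_19_2 lc_e_Cert_tree lc_e_rc_18_1 lc_e_rc_27_1 lc_e_rc_27_1 lc_e_rc_19_2 lc_e_Cert_tree lc_e_Cert_tree lc_e_rc_18_1 lc_e_Cert_tree lc_e_rc_9_3 lc_e_rc_18_1 lc_e_Cert_tree lc_e_Cert_tree lc_e_rc_18_1 lc_e_rc_18_1 lc_e_Cert_tree lc_e_rc_9_3 lc_e_rc_27_5 lc_e_rc_18_1 lc_e_rc_9_3 lc_e_rc_13_3 lc_e_rc_16_5 lc_e_Cert_tree lc_e_rc_16_3 lc_e_rc_13_3 lc_e_rc_16_5 lc_e_rc_18_1 lc_e_rc_19_0 lc_e_rc_16_3 lc_e_rc_27_5) (@D3.rec (fun _ => (Cert rels S Gen.e)) lc_e_rc_18_1 lc_e_rc_9_3 lc_e_rc_16_3 lc_e_rc_18_1 lc_e_rc_13_1 lc_e_rc_9_3 lc_e_Cert_tree lc_e_rc_16_1 lc_e_rc_18_1 lc_e_rc_16_3 lc_e_rc_16_3 lc_e_rc_19_0 lc_e_rc_13_1 lc_e_rc_9_1 lc_e_Cert_tree lc_e_rc_19_2 lc_e_rc_9_1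 lc_e_rc_16_5 lc_e_rc_13_1 lc_e_rc_18_1 lc_e_rc_13_3 lc_e_rc_19_0 lc_e_rc_27_1 lc_e_rc_9_3 lc_e_rc_4_3 lc_e_Cert_tree lc_e_rc_27_1 lc_e_Cert_tree lc_e_Cert_tree lc_e_rc_18_1 lc_e_rc_18_1 lc_e_rc_13_3 lc_e_Cert_tree lc_e_rc_19_0 lc_e_rc_19_4 lc_e_rc_13_3 lc_e_rc_27_5 lc_e_Cert_tree lc_e_rc_18_1 lc_e_rc_27_7 lc_e_Cert_tree lc_e_Cert_tree lc_e_rc_18_1 lc_e_rc_16_3 lc_e_Cert_tree lc_e_rc_27_1 lc_e_rc_18_1 lc_e_rc_13_3 lc_e_rc_27_7 lc_e_rc_18_1 lc_e_Cert_tree lc_e_Cert_tree lc_e_Cert_tree lc_e_rc_18_1 lc_e_rc_18_1 lc_e_Cert_tree lc_e_rc_16_1 lc_e_rc_9_1 lc_e_Cert_tree lc_e_rc_18_1 lc_e_Cert_tree lc_e_rc_18_1) (@D3.rec (fun _ => (Cert rels S Gen.e)) lc_e_rc_18_1 lc_e_rc_19_0 lc_e_rc_16_1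 lc_e_rc_27_5 lc_e_Cert_tree lc_e_rc_16_3 lc_e_rc_18_1 lc_e_Cert_tree lc_e_rc_16_3 lc_e_rc_18_1 lc_e_rc_13_1 lc_e_rc_16_3 lc_e_rc_13_1 lc_e_rc_9_1 lc_e_rc_13_1 lc_e_rc_9_1 lc_e_rc_27_5 lc_e_rc_18_1 lc_e_rc_27_5 lc_e_rc_13_3 lc_e_Cert_tree lc_e_rc_18_1 lc_e_rc_18_1 lc_e_Cert_tree lc_e_rc_27_7 lc_e_rc_18_1 lc_e_rc_18_1 lc_e_rc_9_3 lc_e_rc_9_3 lc_e_rc_16_3 lc_e_rc_13_3 lc_e_rc_27_5 lc_e_Cert_tree lc_e_rc_16_5 lc_e_Cert_tree lc_e_rc_18_1 lc_e_Cert_tree lc_e_rc_18_1 lc_e_Cert_tree lc_e_Cert_tree lc_e_rc_18_1 lc_e_Cert_tree lc_e_rc_27_5 lc_e_rc_16_3 lc_e_rc_19_4 lc_e_rc_4_3 lc_e_rc_13_3 lc_e_rc_16_5 lc_e_rc_18_1 lc_e_Cert_tree lc_e_rc_9_1 lc_e_rc_16_3 lc_e_rc_18_1 lc_e_Cert_tree lc_e_rc_16_1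 lc_e_rc_4_3 lc_e_rc_13_1 lc_e_rc_27_5 lc_e_Cert_tree lc_e_Cert_tree lc_e_rc_18_1 lc_e_rc_18_1) (@D3.rec (fun _ => (Cert rels S Gen.e)) lc_e_Cert_tree lc_e_rc_16_1 lc_e_rc_19_2 lc_e_rc_27_5 lc_e_Cert_tree lc_e_rc_18_1 lc_e_Cert_tree lc_e_Cert_tree lc_e_rc_18_1 lc_e_Cert_tree lc_e_Cert_tree lc_e_Cert_tree lc_e_rc_18_1 lc_e_rc_27_5 lc_e_rc_27_7 lc_e_rc_19_2 lc_e_rc_13_3 lc_e_Cert_tree lc_e_Cert_tree lc_e_rc_18_1 lc_e_Cert_tree lc_e_rc_4_1 lc_e_rc_9_3 lc_e_rc_18_1 lc_e_rc_27_5 lc_e_rc_19_2 lc_e_rc_16_3 lc_e_rc_27_1 lc_e_rc_4_3 lc_e_rc_27_1 lc_e_rc_18_1 lc_e_rc_13_3 lc_e_rc_9_1 lc_e_rc_16_3 lc_e_rc_13_3 lc_e_rc_27_1 lc_e_rc_13_1 lc_e_rc_18_1 lc_e_rc_9_1 lc_e_Cert_tree lc_e_rc_13_1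 lc_e_rc_9_1 lc_e_rc_27_1 lc_e_rc_16_1 lc_e_Cert_tree lc_e_rc_18_1 lc_e_rc_18_1 lc_e_rc_16_3 lc_e_rc_4_3 lc_e_rc_27_5 lc_e_rc_4_3 lc_e_Cert_tree lc_e_rc_13_3 lc_e_rc_13_3 lc_e_rc_18_1 lc_e_rc_27_5 lc_e_Cert_tree lc_e_Cert_tree lc_e_Cert_tree lc_e_rc_18_1 lc_e_rc_18_1 lc_e_rc_18_1) (@D3.rec (fun _ => (Cert rels S Gen.e)) lc_e_rc_27_5 lc_e_rc_16_1 lc_e_rc_18_1 lc_e_rc_13_3 lc_e_rc_18_1 lc_e_Cert_tree lc_e_rc_9_3 lc_e_rc_4_3 lc_e_Cert_tree lc_e_rc_16_5 lc_e_Cert_tree lc_e_rc_18_1 lc_e_rc_16_3 lc_e_rc_9_3 lc_e_Cert_tree lc_e_rc_18_1 lc_e_Cert_tree lc_e_rc_18_1 lc_e_rc_18_1 lc_e_Cert_tree lc_e_rc_27_5 lc_e_rc_18_1 lc_e_Cert_tree lc_e_Cert_tree lc_e_rc_16_1 lc_e_rc_19_4 lc_e_rc_9_3 lc_e_Cert_tree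 lc_e_rc_18_1 lc_e_Cert_tree lc_e_Cert_tree lc_e_rc_16_1 lc_e_rc_27_5 lc_e_Cert_tree lc_e_Cert_tree lc_e_Cert_tree lc_e_rc_18_1 lc_e_Cert_tree lc_e_rc_13_1 lc_e_Cert_tree lc_e_rc_18_1 lc_e_rc_16_1 lc_e_Cert_tree lc_e_rc_13_3 lc_e_Cert_tree lc_e_rc_13_3 lc_e_Cert_tree lc_e_Cert_tree lc_e_rc_18_1 lc_e_Cert_tree lc_e_rc_16_3 lc_e_rc_18_1 lc_e_rc_27_1 lc_e_Cert_tree lc_e_rc_13_3 lc_e_Cert_tree lc_e_Cert_tree lc_e_rc_27_1 lc_e_rc_9_3 lc_e_rc_18_1 lc_e_Cert_tree lc_e_rc_18_1) (@D3.rec (fun _ => (Cert rels S Gen.e)) lc_e_Cert_tree lc_e_rc_27_5 lc_e_rc_4_1 lc_e_rc_18_1 lc_e_rc_18_1 lc_e_rc_16_1 lc_e_Cert_tree lc_e_Cert_tree lc_e_rc_18_1 lc_e_rc_9_1 lc_e_rc_13_3 lc_e_Cert_tree lc_e_rc_9_3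 lc_e_rc_16_3 lc_e_rc_18_1 lc_e_Cert_tree lc_e_Cert_tree lc_e_Cert_tree lc_e_rc_27_1 lc_e_rc_18_1 lc_e_Cert_tree lc_e_Cert_tree lc_e_rc_27_5 lc_e_rc_18_1 lc_e_rc_16_1 lc_e_rc_27_5 lc_e_rc_9_1 lc_e_rc_16_5 lc_e_Cert_tree lc_e_rc_18_1 lc_e_rc_18_1 lc_e_Cert_tree lc_e_rc_16_5 lc_e_Cert_tree lc_e_rc_18_1 lc_e_Cert_tree lc_e_Cert_tree lc_e_Cert_tree lc_e_Cert_tree lc_e_rc_18_1 lc_e_Cert_tree lc_e_rc_18_1 lc_e_Cert_tree lc_e_rc_16_1 lc_e_rc_27_5 lc_e_Cert_tree lc_e_Cert_tree lc_e_rc_18_1 lc_e_Cert_tree lc_e_Cert_tree lc_e_rc_18_1 lc_e_Cert_tree lc_e_rc_18_1 lc_e_Cert_tree lc_e_rc_16_1 lc_e_rc_19_2 lc_e_Cert_tree lc_e_rc_27_5 lc_e_rc_18_1 lc_e_rc_16_1 lc_e_Cert_tree lc_e_Cert_tree) (@D3.rec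 (fun _ => (Cert rels S Gen.e)) lc_e_Cert_tree lc_e_Cert_tree lc_e_rc_18_1 lc_e_rc_16_3 lc_e_Cert_tree lc_e_rc_16_1 lc_e_rc_9_1 lc_e_Cert_tree lc_e_rc_16_5 lc_e_rc_18_1 lc_e_Cert_tree lc_e_rc_18_1 lc_e_rc_16_5 lc_e_Cert_tree lc_e_rc_9_1 lc_e_rc_18_1 lc_e_rc_4_3 lc_e_rc_9_1 lc_e_rc_16_5 lc_e_rc_13_3 lc_e_rc_13_3 lc_e_Cert_tree lc_e_rc_27_5 lc_e_rc_18_1 lc_e_rc_16_5 lc_e_Cert_tree lc_e_rc_13_3 lc_e_rc_9_3 lc_e_Cert_tree lc_e_rc_18_1 lc_e_rc_13_1 lc_e_rc_13_1 lc_e_rc_18_1 lc_e_rc_27_5 lc_e_rc_13_3 lc_e_rc_16_3 lc_e_rc_27_1 lc_e_rc_9_3 lc_e_rc_27_1 lc_e_rc_9_3 lc_e_rc_27_7 lc_e_rc_18_1 lc_e_rc_19_4 lc_e_rc_9_3 lc_e_rc_13_3 lc_e_rc_13_3 lc_e_rc_13_3 lc_e_Cert_tree lc_e_Cert_tree lc_e_rc_9_3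 lc_e_Cert_tree lc_e_Cert_tree lc_e_rc_18_1 lc_e_rc_4_1 lc_e_Cert_tree lc_e_Cert_tree lc_e_Cert_tree lc_e_rc_18_1 lc_e_Cert_tree lc_e_Cert_tree lc_e_rc_18_1 lc_e_rc_4_3) (@D3.rec (fun _ => (Cert rels S Gen.e)) lc_e_rc_18_1 lc_e_Cert_tree lc_e_rc_18_1 lc_e_rc_18_1 lc_e_rc_27_5 lc_e_rc_9_3 lc_e_Cert_tree lc_e_rc_18_1 lc_e_Cert_tree lc_e_Cert_tree lc_e_rc_9_1 lc_e_rc_19_4 lc_e_rc_27_1 lc_e_Cert_tree lc_e_rc_18_1 lc_e_Cert_tree lc_e_rc_4_3 lc_e_rc_18_1 lc_e_rc_19_2 lc_e_rc_27_5 lc_e_Cert_tree lc_e_rc_18_1 lc_e_Cert_tree lc_e_rc_19_0 lc_e_rc_18_1 lc_e_rc_27_5 lc_e_Cert_tree lc_e_rc_18_1 lc_e_rc_16_3 lc_e_Cert_tree lc_e_rc_19_4 lc_e_rc_18_1 lc_e_rc_27_5 lc_e_Cert_tree lc_e_rc_18_1 lc_e_rc_19_4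 lc_e_rc_18_1 lc_e_rc_19_0 lc_e_rc_13_3 lc_e_Cert_tree lc_e_Cert_tree lc_e_rc_18_1 lc_e_Cert_tree lc_e_rc_9_3 lc_e_rc_18_1 lc_e_Cert_tree lc_e_Cert_tree lc_e_rc_18_1 lc_e_rc_16_3 lc_e_rc_16_5 lc_e_rc_16_5 lc_e_rc_19_4 lc_e_rc_18_1 lc_e_rc_18_1 lc_e_rc_19_4 lc_e_Cert_tree lc_e_rc_18_1 lc_e_Cert_tree lc_e_rc_9_3 lc_e_Cert_tree lc_e_rc_4_3 lc_e_rc_18_1)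
def ce_e_11 : D2 → D3 → (Cert rels S Gen.e) := @D2.rec (fun _ => D3 → (Cert rels S Gen.e)) (@D3.rec (fun _ => (Cert rels S Gen.e)) lc_e_Cert_tree lc_e_Cert_tree lc_e_Cert_tree lc_e_Cert_tree lc_e_rc_18_1 lc_e_rc_16_3 lc_e_rc_18_1 lc_e_Cert_tree lc_e_rc_16_1 lc_e_rc_18_1 lc_e_rc_18_1 lc_e_Cert_tree lc_e_rc_18_1 lc_e_Cert_tree lc_e_rc_27_1 lc_e_rc_19_0 lc_e_rc_27_7 lc_e_rc_18_1 lc_e_rc_13_1 lc_e_rc_27_5 lc_e_rc_19_2 lc_e_rc_18_1 lc_e_Cert_tree lc_e_rc_13_3 lc_e_rc_18_1 lc_e_rc_27_1 lc_e_Cert_tree lc_e_rc_4_1 lc_e_rc_18_1 lc_e_Cert_tree lc_e_Cert_tree lc_e_rc_18_1 lc_e_rc_27_1 lc_e_rc_18_1 lc_e_rc_16_5 lc_e_rc_16_5 lc_e_rc_19_0 lc_e_rc_27_1 lc_e_Cert_tree lc_e_rc_18_1 lc_e_Cert_tree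 lc_e_rc_18_1 lc_e_Cert_tree lc_e_rc_27_7 lc_e_rc_19_2 lc_e_rc_9_1 lc_e_rc_16_3 lc_e_rc_18_1 lc_e_rc_18_1 lc_e_rc_16_1 lc_e_rc_16_5 lc_e_rc_27_5 lc_e_Cert_tree lc_e_Cert_tree lc_e_rc_18_1 lc_e_rc_16_1 lc_e_rc_27_5 lc_e_rc_19_4 lc_e_rc_18_1 lc_e_Cert_tree lc_e_Cert_tree lc_e_rc_18_1) (@D3.rec (fun _ => (Cert rels S Gen.e)) lc_e_Cert_tree lc_e_rc_19_0 lc_e_rc_19_0 lc_e_Cert_tree lc_e_rc_9_1 lc_e_rc_13_1 lc_e_Cert_tree lc_e_rc_18_1 lc_e_Cert_tree lc_e_rc_27_1 lc_e_Cert_tree lc_e_Cert_tree lc_e_rc_18_1 lc_e_Cert_tree lc_e_Cert_tree lc_e_rc_16_1 lc_e_rc_19_4 lc_e_Cert_tree lc_e_Cert_tree lc_e_rc_4_3 lc_e_rc_18_1 lc_e_rc_13_1 lc_e_rc_18_1 lc_e_Cert_tree lc_e_Cert_tree lc_e_rc_27_5 lc_e_rc_18_1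 lc_e_rc_27_1 lc_e_Cert_tree lc_e_Cert_tree lc_e_rc_18_1 lc_e_rc_27_1 lc_e_rc_27_1 lc_e_rc_13_3 lc_e_rc_4_3 lc_e_Cert_tree lc_e_Cert_tree lc_e_Cert_tree lc_e_rc_19_2 lc_e_Cert_tree lc_e_rc_18_1 lc_e_Cert_tree lc_e_rc_18_1 lc_e_Cert_tree lc_e_rc_16_3 lc_e_rc_18_1 lc_e_rc_18_1 lc_e_rc_27_7 lc_e_rc_16_5 lc_e_Cert_tree lc_e_rc_18_1 lc_e_rc_16_3 lc_e_rc_18_1 lc_e_rc_27_1 lc_e_rc_16_1 lc_e_rc_27_1 lc_e_rc_16_5 lc_e_Cert_tree lc_e_rc_13_1 lc_e_rc_18_1 lc_e_rc_9_3 lc_e_rc_18_1) (@D3.rec (fun _ => (Cert rels S Gen.e)) lc_e_rc_16_1 lc_e_Cert_tree lc_e_Cert_tree lc_e_rc_18_1 lc_e_rc_18_1 lc_e_rc_27_1 lc_e_Cert_tree lc_e_rc_9_1 lc_e_rc_18_1 lc_e_rc_18_1 lc_e_rc_27_1 lc_e_rc_9_3 lc_e_rc_9_3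 lc_e_rc_19_2 lc_e_Cert_tree lc_e_Cert_tree lc_e_rc_18_1 lc_e_rc_16_5 lc_e_rc_13_3 lc_e_rc_18_1 lc_e_rc_18_1 lc_e_rc_9_1 lc_e_rc_16_5 lc_e_Cert_tree lc_e_Cert_tree lc_e_rc_18_1 lc_e_rc_18_1 lc_e_rc_13_3 lc_e_rc_18_1 lc_e_rc_16_3 lc_e_rc_9_3 lc_e_rc_9_3 lc_e_rc_18_1 lc_e_Cert_tree lc_e_rc_18_1 lc_e_Cert_tree lc_e_Cert_tree lc_e_rc_16_5 lc_e_rc_18_1 lc_e_Cert_tree lc_e_rc_18_1 lc_e_rc_18_1 lc_e_Cert_tree lc_e_rc_27_5 lc_e_rc_18_1 lc_e_Cert_tree lc_e_Cert_tree lc_e_rc_4_3 lc_e_rc_16_5 lc_e_rc_18_1 lc_e_Cert_tree lc_e_rc_27_1 lc_e_rc_19_4 lc_e_rc_13_3 lc_e_Cert_tree lc_e_rc_18_1 lc_e_rc_18_1 lc_e_Cert_tree lc_e_rc_27_5 lc_e_Cert_tree lc_e_rc_4_3 lc_e_Cert_tree) (@D3.rec (fun _ => (Cert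 rels S Gen.e)) lc_e_Cert_tree lc_e_rc_18_1 lc_e_rc_18_1 lc_e_rc_13_3 lc_e_rc_13_3 lc_e_rc_16_1 lc_e_rc_4_1 lc_e_Cert_tree lc_e_rc_27_1 lc_e_rc_18_1 lc_e_rc_13_3 lc_e_Cert_tree lc_e_rc_18_1 lc_e_rc_18_1 lc_e_rc_19_4 lc_e_Cert_tree lc_e_Cert_tree lc_e_Cert_tree lc_e_Cert_tree lc_e_rc_18_1 lc_e_rc_18_1 lc_e_rc_19_2 lc_e_rc_16_1 lc_e_rc_19_4 lc_e_rc_19_0 lc_e_Cert_tree lc_e_rc_9_3 lc_e_Cert_tree lc_e_Cert_tree lc_e_Cert_tree lc_e_rc_18_1 lc_e_rc_18_1 lc_e_rc_16_1 lc_e_rc_19_2 lc_e_Cert_tree lc_e_Cert_tree lc_e_Cert_tree lc_e_Cert_tree lc_e_rc_18_1 lc_e_rc_18_1 lc_e_rc_16_1 lc_e_Cert_tree lc_e_rc_13_3 lc_e_rc_18_1 lc_e_Cert_tree lc_e_Cert_tree lc_e_rc_18_1 lc_e_rc_4_1 lc_e_Cert_tree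 lc_e_rc_18_1 lc_e_rc_16_3 lc_e_Cert_tree lc_e_rc_4_3 lc_e_Cert_tree lc_e_rc_18_1 lc_e_rc_13_3 lc_e_rc_18_1 lc_e_rc_19_4 lc_e_rc_18_1 lc_e_Cert_tree lc_e_Cert_tree lc_e_rc_16_1) (@D3.rec (fun _ => (Cert rels S Gen.e)) lc_e_rc_19_2 lc_e_Cert_tree lc_e_rc_18_1 lc_e_rc_16_3 lc_e_rc_27_1 lc_e_rc_18_1 lc_e_rc_4_3 lc_e_rc_19_4 lc_e_rc_4_3 lc_e_Cert_tree lc_e_rc_13_1 lc_e_rc_18_1 lc_e_rc_4_3 lc_e_rc_16_5 lc_e_Cert_tree lc_e_rc_18_1 lc_e_Cert_tree lc_e_rc_4_3 lc_e_rc_18_1 lc_e_rc_18_1 lc_e_rc_16_3 lc_e_Cert_tree lc_e_Cert_tree lc_e_rc_18_1 lc_e_rc_18_1 lc_e_rc_13_1 lc_e_Cert_tree lc_e_rc_13_3 lc_e_Cert_tree lc_e_rc_19_4 lc_e_rc_18_1 lc_e_Cert_tree lc_e_Cert_tree lc_e_rc_18_1 lc_e_rc_18_1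 lc_e_rc_9_3 lc_e_Cert_tree lc_e_Cert_tree lc_e_Cert_tree lc_e_rc_18_1 lc_e_rc_18_1 lc_e_rc_18_1 lc_e_Cert_tree lc_e_rc_13_3 lc_e_rc_19_0 lc_e_rc_13_3 lc_e_rc_16_3 lc_e_Cert_tree lc_e_rc_27_7 lc_e_rc_18_1 lc_e_rc_9_3 lc_e_rc_13_3 lc_e_rc_27_1 lc_e_rc_19_4 lc_e_rc_16_5 lc_e_rc_18_1 lc_e_rc_16_5 lc_e_rc_9_3 lc_e_rc_27_7 lc_e_rc_9_3 lc_e_rc_27_5 lc_e_rc_13_3) (@D3.rec (fun _ => (Cert rels S Gen.e)) lc_e_Cert_tree lc_e_Cert_tree lc_e_rc_18_1 lc_e_rc_19_4 lc_e_rc_19_4 lc_e_Cert_tree lc_e_rc_18_1 lc_e_rc_27_1 lc_e_Cert_tree lc_e_Cert_tree lc_e_Cert_tree lc_e_rc_18_1 lc_e_rc_18_1 lc_e_rc_18_1 lc_e_Cert_tree lc_e_rc_16_1 lc_e_rc_19_4 lc_e_rc_13_3 lc_e_rc_19_4 lc_e_rc_19_4 lc_e_rc_27_1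 lc_e_rc_13_3 lc_e_Cert_tree lc_e_Cert_tree lc_e_rc_18_1 lc_e_rc_18_1 lc_e_rc_18_1 lc_e_rc_4_3 lc_e_rc_18_1 lc_e_rc_19_4 lc_e_rc_27_5 lc_e_rc_19_2 lc_e_rc_27_5 lc_e_rc_27_1 lc_e_rc_4_3 lc_e_rc_13_3 lc_e_rc_27_1 lc_e_rc_18_1 lc_e_rc_16_5 lc_e_rc_27_1 lc_e_Cert_tree lc_e_Cert_tree lc_e_rc_18_1 lc_e_Cert_tree lc_e_rc_18_1 lc_e_rc_16_5 lc_e_rc_16_1 lc_e_rc_16_5 lc_e_rc_9_1 lc_e_rc_18_1 lc_e_Cert_tree lc_e_Cert_tree lc_e_rc_18_1 lc_e_Cert_tree lc_e_rc_18_1 lc_e_rc_18_1 lc_e_rc_16_1 lc_e_rc_19_4 lc_e_rc_18_1 lc_e_rc_19_0 lc_e_Cert_tree lc_e_rc_18_1) (@D3.rec (fun _ => (Cert rels S Gen.e)) lc_e_rc_4_3 lc_e_rc_27_7 lc_e_rc_18_1 lc_e_rc_27_1 lc_e_rc_16_5 lc_e_rc_9_1 lc_e_Cert_tree lc_e_rc_18_1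 lc_e_Cert_tree lc_e_rc_18_1 lc_e_rc_13_1 lc_e_rc_18_1 lc_e_rc_18_1 lc_e_rc_18_1 lc_e_rc_18_1 lc_e_Cert_tree lc_e_rc_19_4 lc_e_rc_27_7 lc_e_rc_27_1 lc_e_rc_18_1 lc_e_rc_27_5 lc_e_rc_18_1 lc_e_rc_18_1 lc_e_rc_19_2 lc_e_rc_19_4 lc_e_rc_27_1 lc_e_Cert_tree lc_e_Cert_tree lc_e_Cert_tree lc_e_rc_18_1 lc_e_rc_27_5 lc_e_Cert_tree lc_e_rc_19_4 lc_e_Cert_tree lc_e_rc_16_1 lc_e_rc_18_1 lc_e_rc_16_3 lc_e_rc_27_5 lc_e_rc_18_1 lc_e_Cert_tree lc_e_rc_18_1 lc_e_rc_19_4 lc_e_rc_9_3 lc_e_rc_27_1 lc_e_Cert_tree lc_e_rc_18_1 lc_e_Cert_tree lc_e_rc_18_1 lc_e_rc_18_1 lc_e_rc_4_3 lc_e_rc_9_3 lc_e_Cert_tree lc_e_rc_18_1 lc_e_rc_13_1 lc_e_rc_18_1 lc_e_Cert_tree lc_e_Cert_tree lc_e_rc_18_1 lc_e_Cert_tree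 lc_e_rc_19_4 lc_e_rc_19_4 lc_e_rc_27_5) (@D3.rec (fun _ => (Cert rels S Gen.e)) lc_e_rc_18_1 lc_e_Cert_tree lc_e_rc_18_1 lc_e_Cert_tree lc_e_rc_18_1 lc_e_Cert_tree lc_e_rc_18_1 lc_e_rc_18_1 lc_e_rc_18_1 lc_e_Cert_tree lc_e_Cert_tree lc_e_rc_9_1 lc_e_rc_16_3 lc_e_rc_18_1 lc_e_rc_18_1 lc_e_rc_16_5 lc_e_rc_18_1 lc_e_Cert_tree lc_e_rc_18_1 lc_e_rc_18_1 lc_e_Cert_tree lc_e_Cert_tree lc_e_rc_18_1 lc_e_rc_19_4 lc_e_rc_13_3 lc_e_rc_13_3 lc_e_rc_18_1 lc_e_Cert_tree lc_e_rc_9_3 lc_e_rc_19_0 lc_e_rc_27_1 lc_e_Cert_tree lc_e_rc_18_1 lc_e_rc_13_3 lc_e_Cert_tree lc_e_Cert_tree lc_e_rc_18_1 lc_e_Cert_tree lc_e_rc_19_2 lc_e_Cert_tree lc_e_rc_18_1 lc_e_Cert_tree lc_e_Cert_tree lc_e_rc_18_1 lc_e_Cert_tree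 lc_e_Cert_tree lc_e_rc_18_1 lc_e_Cert_tree lc_e_rc_18_1 lc_e_Cert_tree lc_e_Cert_tree lc_e_rc_16_5 lc_e_rc_18_1 lc_e_rc_16_1 lc_e_Cert_tree lc_e_Cert_tree lc_e_rc_27_7 lc_e_rc_18_1 lc_e_Cert_tree lc_e_Cert_tree lc_e_Cert_tree lc_e_rc_18_1) (@D3.rec (fun _ => (Cert rels S Gen.e)) lc_e_rc_4_3 lc_e_rc_18_1 lc_e_rc_18_1 lc_e_rc_13_3 lc_e_rc_19_4 lc_e_rc_27_5 lc_e_rc_13_1 lc_e_rc_27_5 lc_e_rc_27_5 lc_e_rc_18_1 lc_e_rc_13_1 lc_e_Cert_tree lc_e_rc_13_3 lc_e_Cert_tree lc_e_Cert_tree lc_e_rc_18_1 lc_e_rc_9_3 lc_e_rc_18_1 lc_e_rc_27_7 lc_e_rc_27_1 lc_e_rc_4_1 lc_e_rc_18_1 lc_e_Cert_tree lc_e_rc_13_1 lc_e_Cert_tree lc_e_rc_18_1 lc_e_rc_13_3 lc_e_Cert_tree lc_e_Cert_tree lc_e_Cert_tree lc_e_rc_18_1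 lc_e_rc_18_1 lc_e_Cert_tree lc_e_rc_18_1 lc_e_rc_19_2 lc_e_rc_4_1 lc_e_rc_9_3 lc_e_rc_27_5 lc_e_rc_18_1 lc_e_Cert_tree lc_e_Cert_tree lc_e_Cert_tree lc_e_rc_18_1 lc_e_rc_18_1 lc_e_Cert_tree lc_e_rc_16_3 lc_e_rc_13_3 lc_e_Cert_tree lc_e_rc_27_5 lc_e_rc_16_5 lc_e_Cert_tree lc_e_rc_18_1 lc_e_rc_13_3 lc_e_rc_13_3 lc_e_rc_16_3 lc_e_rc_19_4 lc_e_rc_27_1 lc_e_rc_27_5 lc_e_Cert_tree lc_e_rc_4_1 lc_e_rc_13_3 lc_e_rc_18_1) (@D3.rec (fun _ => (Cert rels S Gen.e)) lc_e_rc_16_3 lc_e_rc_19_4 lc_e_Cert_tree lc_e_Cert_tree lc_e_Cert_tree lc_e_rc_18_1 lc_e_rc_16_3 lc_e_rc_13_3 lc_e_Cert_tree lc_e_Cert_tree lc_e_rc_18_1 lc_e_Cert_tree lc_e_rc_18_1 lc_e_rc_18_1 lc_e_Cert_tree lc_e_rc_9_3 lc_e_rc_18_1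 lc_e_Cert_tree lc_e_Cert_tree lc_e_rc_18_1 lc_e_rc_9_3 lc_e_Cert_tree lc_e_rc_19_4 lc_e_rc_16_1 lc_e_rc_13_3 lc_e_rc_16_1 lc_e_rc_13_1 lc_e_rc_18_1 lc_e_Cert_tree lc_e_Cert_tree lc_e_rc_18_1 lc_e_rc_9_3 lc_e_Cert_tree lc_e_rc_13_3 lc_e_rc_27_1 lc_e_rc_18_1 lc_e_rc_18_1 lc_e_rc_27_5 lc_e_rc_13_3 lc_e_rc_18_1 lc_e_rc_9_3 lc_e_Cert_tree lc_e_rc_27_5 lc_e_rc_9_3 lc_e_rc_19_4 lc_e_rc_16_3 lc_e_Cert_tree lc_e_rc_18_1 lc_e_rc_13_3 lc_e_rc_18_1 lc_e_rc_27_7 lc_e_rc_13_1 lc_e_Cert_tree lc_e_Cert_tree lc_e_rc_18_1 lc_e_rc_9_3 lc_e_rc_18_1 lc_e_rc_18_1 lc_e_rc_19_0 lc_e_rc_19_4 lc_e_Cert_tree lc_e_Cert_tree) (@D3.rec (fun _ => (Cert rels S Gen.e)) lc_e_Cert_tree lc_e_Cert_tree lc_e_rc_18_1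 lc_e_Cert_tree lc_e_rc_18_1 lc_e_Cert_tree lc_e_rc_18_1 lc_e_rc_18_1 lc_e_rc_27_5 lc_e_rc_19_4 lc_e_Cert_tree lc_e_rc_18_1 lc_e_rc_4_1 lc_e_rc_19_2 lc_e_rc_9_1 lc_e_Cert_tree lc_e_rc_16_3 lc_e_rc_18_1 lc_e_rc_9_3 lc_e_rc_13_3 lc_e_rc_27_5 lc_e_rc_13_1 lc_e_rc_19_4 lc_e_rc_16_3 lc_e_rc_27_5 lc_e_rc_9_3 lc_e_rc_13_3 lc_e_rc_19_0 lc_e_Cert_tree lc_e_rc_18_1 lc_e_rc_13_3 lc_e_Cert_tree lc_e_Cert_tree lc_e_rc_18_1 lc_e_rc_27_5 lc_e_rc_18_1 lc_e_rc_4_1 lc_e_Cert_tree lc_e_rc_18_1 lc_e_rc_16_3 lc_e_rc_16_5 lc_e_rc_18_1 lc_e_rc_16_1 lc_e_rc_19_4 lc_e_rc_27_1 lc_e_rc_13_3 lc_e_rc_13_3 lc_e_rc_9_3 lc_e_rc_27_7 lc_e_Cert_tree lc_e_rc_18_1 lc_e_Cert_tree lc_e_rc_18_1 lc_e_rc_4_3 lc_e_rc_19_4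 lc_e_rc_18_1 lc_e_rc_27_5 lc_e_rc_18_1 lc_e_rc_13_3 lc_e_rc_18_1 lc_e_rc_18_1 lc_e_Cert_tree) (@D3.rec (fun _ => (Cert rels S Gen.e)) lc_e_rc_18_1 lc_e_Cert_tree lc_e_rc_18_1 lc_e_Cert_tree lc_e_rc_18_1 lc_e_rc_18_1 lc_e_rc_27_7 lc_e_rc_18_1 lc_e_rc_13_3 lc_e_rc_27_5 lc_e_Cert_tree lc_e_rc_16_1 lc_e_rc_18_1 lc_e_rc_9_3 lc_e_rc_13_3 lc_e_rc_18_1 lc_e_Cert_tree lc_e_rc_18_1 lc_e_rc_16_1 lc_e_rc_18_1 lc_e_rc_18_1 lc_e_rc_16_3 lc_e_rc_27_5 lc_e_rc_18_1 lc_e_rc_19_4 lc_e_rc_18_1 lc_e_rc_18_1 lc_e_rc_27_7 lc_e_Cert_tree lc_e_Cert_tree lc_e_rc_18_1 lc_e_rc_16_3 lc_e_rc_16_5 lc_e_Cert_tree lc_e_rc_18_1 lc_e_Cert_tree lc_e_rc_16_3 lc_e_rc_18_1 lc_e_rc_9_3 lc_e_rc_19_4 lc_e_Cert_tree lc_e_Cert_tree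 lc_e_rc_18_1 lc_e_rc_9_1 lc_e_Cert_tree lc_e_rc_18_1 lc_e_rc_27_7 lc_e_rc_18_1 lc_e_rc_19_4 lc_e_rc_9_3 lc_e_rc_18_1 lc_e_Cert_tree lc_e_rc_13_1 lc_e_rc_18_1 lc_e_Cert_tree lc_e_Cert_tree lc_e_rc_18_1 lc_e_rc_27_5 lc_e_rc_16_3 lc_e_rc_19_4 lc_e_rc_18_1 lc_e_rc_13_1) (@D3.rec (fun _ => (Cert rels S Gen.e)) lc_e_rc_18_1 lc_e_rc_19_4 lc_e_rc_18_1 lc_e_rc_19_4 lc_e_rc_18_1 lc_e_rc_18_1 lc_e_rc_18_1 lc_e_rc_19_0 lc_e_rc_19_0 lc_e_rc_9_3 lc_e_rc_19_2 lc_e_rc_16_3 lc_e_rc_9_1 lc_e_rc_13_1 lc_e_rc_18_1 lc_e_rc_9_3 lc_e_rc_19_4 lc_e_Cert_tree lc_e_rc_13_1 lc_e_rc_9_3 lc_e_rc_18_1 lc_e_rc_18_1 lc_e_rc_27_5 lc_e_rc_18_1 lc_e_rc_18_1 lc_e_rc_18_1 lc_e_Cert_tree lc_e_rc_18_1 lc_e_rc_27_7 lc_e_rc_27_5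 lc_e_rc_4_3 lc_e_rc_19_0 lc_e_rc_27_1 lc_e_Cert_tree lc_e_rc_18_1 lc_e_rc_18_1 lc_e_rc_16_5 lc_e_rc_16_3 lc_e_rc_16_1 lc_e_rc_16_5 lc_e_rc_9_3 lc_e_rc_9_3 lc_e_rc_19_4 lc_e_rc_27_5 lc_e_rc_16_5 lc_e_rc_27_7 lc_e_rc_13_1 lc_e_rc_18_1 lc_e_rc_9_3 lc_e_rc_27_1 lc_e_rc_16_1 lc_e_rc_9_1 lc_e_rc_18_1 lc_e_rc_16_1 lc_e_rc_13_3 lc_e_Cert_tree lc_e_rc_4_1 lc_e_rc_4_3 lc_e_rc_19_2 lc_e_rc_4_3 lc_e_Cert_tree lc_e_rc_18_1) (@D3.rec (fun _ => (Cert rels S Gen.e)) lc_e_Cert_tree lc_e_rc_16_1 lc_e_rc_19_2 lc_e_rc_13_3 lc_e_Cert_tree lc_e_Cert_tree lc_e_rc_18_1 lc_e_Cert_tree lc_e_rc_18_1 lc_e_Cert_tree lc_e_rc_13_3 lc_e_rc_18_1 lc_e_rc_13_3 lc_e_rc_27_7 lc_e_rc_18_1 lc_e_rc_9_1 lc_e_Cert_tree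 lc_e_rc_18_1 lc_e_rc_18_1 lc_e_rc_27_5 lc_e_rc_19_4 lc_e_rc_4_1 lc_e_Cert_tree lc_e_rc_19_4 lc_e_rc_18_1 lc_e_rc_16_1 lc_e_rc_16_5 lc_e_rc_13_1 lc_e_rc_18_1 lc_e_rc_16_1 lc_e_rc_27_7 lc_e_rc_18_1 lc_e_Cert_tree lc_e_rc_18_1 lc_e_Cert_tree lc_e_Cert_tree lc_e_rc_4_3 lc_e_rc_18_1 lc_e_rc_18_1 lc_e_rc_16_1 lc_e_rc_19_4 lc_e_Cert_tree lc_e_rc_19_2 lc_e_rc_27_7 lc_e_rc_9_1 lc_e_Cert_tree lc_e_rc_18_1 lc_e_rc_16_3 lc_e_rc_18_1 lc_e_Cert_tree lc_e_rc_18_1 lc_e_rc_9_1 lc_e_Cert_tree lc_e_rc_18_1 lc_e_rc_9_3 lc_e_rc_16_3 lc_e_rc_18_1 lc_e_Cert_tree lc_e_Cert_tree lc_e_rc_18_1 lc_e_rc_27_7 lc_e_Cert_tree) (@D3.rec (fun _ => (Cert rels S Gen.e)) lc_e_rc_18_1 lc_e_Cert_tree lc_e_rc_16_3 lc_e_Cert_tree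 lc_e_rc_18_1 lc_e_rc_18_1 lc_e_Cert_tree lc_e_rc_27_7 lc_e_rc_19_4 lc_e_rc_16_5 lc_e_Cert_tree lc_e_rc_4_3 lc_e_rc_27_7 lc_e_rc_18_1 lc_e_rc_16_5 lc_e_rc_13_3 lc_e_rc_4_3 lc_e_Cert_tree lc_e_rc_18_1 lc_e_rc_18_1 lc_e_rc_9_3 lc_e_rc_27_5 lc_e_rc_18_1 lc_e_rc_18_1 lc_e_Cert_tree lc_e_rc_19_4 lc_e_Cert_tree lc_e_rc_27_1 lc_e_rc_18_1 lc_e_Cert_tree lc_e_rc_18_1 lc_e_rc_27_5 lc_e_rc_18_1 lc_e_rc_18_1 lc_e_rc_18_1 lc_e_rc_19_4 lc_e_rc_18_1 lc_e_rc_18_1 lc_e_Cert_tree lc_e_rc_18_1 lc_e_rc_18_1 lc_e_rc_4_3 lc_e_Cert_tree lc_e_Cert_tree lc_e_rc_9_1 lc_e_rc_18_1 lc_e_rc_18_1 lc_e_rc_16_1 lc_e_rc_18_1 lc_e_Cert_tree lc_e_rc_18_1 lc_e_Cert_tree lc_e_rc_19_4 lc_e_rc_9_3 lc_e_rc_18_1 lc_e_rc_18_1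 lc_e_rc_18_1 lc_e_rc_4_3 lc_e_rc_19_4 lc_e_rc_4_3 lc_e_rc_4_3 lc_e_rc_19_2) (@D3.rec (fun _ => (Cert rels S Gen.e)) lc_e_rc_16_5 lc_e_rc_18_1 lc_e_rc_18_1 lc_e_rc_18_1 lc_e_rc_27_1 lc_e_rc_27_7 lc_e_rc_18_1 lc_e_rc_19_4 lc_e_rc_13_3 lc_e_Cert_tree lc_e_Cert_tree lc_e_rc_18_1 lc_e_rc_18_1 lc_e_Cert_tree lc_e_rc_18_1 lc_e_rc_19_4 lc_e_rc_27_5 lc_e_rc_18_1 lc_e_rc_19_2 lc_e_rc_13_3 lc_e_Cert_tree lc_e_Cert_tree lc_e_rc_18_1 lc_e_rc_9_1 lc_e_rc_18_1 lc_e_rc_16_1 lc_e_rc_19_4 lc_e_rc_13_3 lc_e_Cert_tree lc_e_Cert_tree lc_e_rc_27_7 lc_e_rc_18_1 lc_e_Cert_tree lc_e_rc_18_1 lc_e_Cert_tree lc_e_Cert_tree lc_e_rc_18_1 lc_e_rc_13_1 lc_e_rc_18_1 lc_e_Cert_tree lc_e_Cert_tree lc_e_Cert_tree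 lc_e_Cert_tree lc_e_rc_18_1 lc_e_Cert_tree lc_e_Cert_tree lc_e_rc_4_3 lc_e_rc_13_1 lc_e_Cert_tree lc_e_Cert_tree lc_e_Cert_tree lc_e_Cert_tree lc_e_rc_18_1 lc_e_rc_18_1 lc_e_rc_19_4 lc_e_rc_4_1 lc_e_Cert_tree lc_e_rc_18_1 lc_e_rc_19_4 lc_e_rc_19_2 lc_e_Cert_tree lc_e_rc_18_1) (@D3.rec (fun _ => (Cert rels S Gen.e)) lc_e_Cert_tree lc_e_Cert_tree lc_e_rc_18_1 lc_e_Cert_tree lc_e_Cert_tree lc_e_rc_19_2 lc_e_rc_18_1 lc_e_rc_18_1 lc_e_rc_16_1 lc_e_rc_19_4 lc_e_rc_13_3 lc_e_rc_9_1 lc_e_rc_13_3 lc_e_rc_4_3 lc_e_rc_18_1 lc_e_rc_13_3 lc_e_rc_13_3 lc_e_rc_19_4 lc_e_rc_13_3 lc_e_rc_27_5 lc_e_rc_13_3 lc_e_rc_9_3 lc_e_rc_18_1 lc_e_rc_16_5 lc_e_rc_19_2 lc_e_rc_13_3 lc_e_rc_16_3 lc_e_rc_18_1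 lc_e_rc_9_3 lc_e_rc_18_1 lc_e_rc_4_3 lc_e_rc_18_1 lc_e_Cert_tree lc_e_rc_18_1 lc_e_rc_18_1 lc_e_rc_9_3 lc_e_rc_16_1 lc_e_rc_19_4 lc_e_rc_13_3 lc_e_rc_18_1 lc_e_Cert_tree lc_e_Cert_tree lc_e_rc_16_3 lc_e_rc_18_1 lc_e_rc_27_5 lc_e_rc_18_1 lc_e_rc_18_1 lc_e_rc_18_1 lc_e_rc_27_5 lc_e_rc_18_1 lc_e_rc_18_1 lc_e_rc_16_5 lc_e_rc_19_2 lc_e_Cert_tree lc_e_rc_18_1 lc_e_rc_9_1 lc_e_Cert_tree lc_e_rc_18_1 lc_e_rc_27_7 lc_e_rc_27_5 lc_e_rc_18_1 lc_e_Cert_tree) (@D3.rec (fun _ => (Cert rels S Gen.e)) lc_e_Cert_tree lc_e_rc_18_1 lc_e_rc_19_4 lc_e_Cert_tree lc_e_rc_18_1 lc_e_rc_18_1 lc_e_Cert_tree lc_e_Cert_tree lc_e_rc_18_1 lc_e_rc_13_3 lc_e_Cert_tree lc_e_rc_27_5 lc_e_rc_18_1 lc_e_rc_18_1 lc_e_rc_4_3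 lc_e_Cert_tree lc_e_rc_16_3 lc_e_rc_18_1 lc_e_rc_18_1 lc_e_rc_16_1 lc_e_Cert_tree lc_e_Cert_tree lc_e_rc_18_1 lc_e_rc_9_3 lc_e_rc_18_1 lc_e_rc_16_1 lc_e_rc_27_5 lc_e_Cert_tree lc_e_rc_13_3 lc_e_rc_18_1 lc_e_Cert_tree lc_e_rc_18_1 lc_e_rc_16_1 lc_e_rc_9_1 lc_e_rc_27_5 lc_e_rc_27_1 lc_e_Cert_tree lc_e_rc_4_3 lc_e_rc_18_1 lc_e_rc_18_1 lc_e_rc_19_2 lc_e_Cert_tree lc_e_rc_16_1 lc_e_rc_4_1 lc_e_Cert_tree lc_e_rc_27_5 lc_e_rc_18_1 lc_e_Cert_tree lc_e_rc_13_3 lc_e_Cert_tree lc_e_Cert_tree lc_e_rc_18_1 lc_e_rc_18_1 lc_e_rc_18_1 lc_e_Cert_tree lc_e_Cert_tree lc_e_Cert_tree lc_e_rc_13_3 lc_e_rc_18_1 lc_e_Cert_tree lc_e_rc_4_1 lc_e_rc_19_4) (@D3.rec (fun _ => (Cert rels S Gen.e)) lc_e_rc_18_1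 lc_e_rc_19_4 lc_e_rc_19_4 lc_e_rc_18_1 lc_e_rc_9_1 lc_e_Cert_tree lc_e_rc_18_1 lc_e_Cert_tree lc_e_Cert_tree lc_e_Cert_tree lc_e_Cert_tree lc_e_rc_18_1 lc_e_rc_27_7 lc_e_Cert_tree lc_e_rc_18_1 lc_e_Cert_tree lc_e_Cert_tree lc_e_rc_16_1 lc_e_rc_19_4 lc_e_Cert_tree lc_e_rc_18_1 lc_e_rc_27_1 lc_e_rc_18_1 lc_e_rc_4_1 lc_e_Cert_tree lc_e_rc_18_1 lc_e_rc_18_1 lc_e_rc_18_1 lc_e_Cert_tree lc_e_rc_16_3 lc_e_Cert_tree lc_e_rc_18_1 lc_e_Cert_tree lc_e_rc_18_1 lc_e_rc_18_1 lc_e_Cert_tree lc_e_Cert_tree lc_e_Cert_tree lc_e_Cert_tree lc_e_rc_16_3 lc_e_rc_19_2 lc_e_Cert_tree lc_e_rc_27_7 lc_e_rc_18_1 lc_e_Cert_tree lc_e_rc_4_3 lc_e_rc_18_1 lc_e_rc_18_1 lc_e_rc_13_1 lc_e_rc_16_5 lc_e_Cert_tree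 lc_e_Cert_tree lc_e_rc_4_3 lc_e_Cert_tree lc_e_rc_18_1 lc_e_rc_16_3 lc_e_Cert_tree lc_e_rc_19_4 lc_e_Cert_tree lc_e_rc_18_1 lc_e_rc_13_1 lc_e_rc_13_3) (@D3.rec (fun _ => (Cert rels S Gen.e)) lc_e_Cert_tree lc_e_rc_19_0 lc_e_Cert_tree lc_e_rc_18_1 lc_e_rc_18_1 lc_e_rc_18_1 lc_e_rc_27_5 lc_e_rc_16_3 lc_e_rc_19_2 lc_e_Cert_tree lc_e_rc_4_1 lc_e_rc_13_1 lc_e_rc_18_1 lc_e_rc_18_1 lc_e_rc_18_1 lc_e_rc_27_7 lc_e_rc_9_3 lc_e_rc_19_4 lc_e_rc_19_2 lc_e_Cert_tree lc_e_rc_18_1 lc_e_rc_4_3 lc_e_Cert_tree lc_e_rc_18_1 lc_e_Cert_tree lc_e_Cert_tree lc_e_rc_18_1 lc_e_Cert_tree lc_e_Cert_tree lc_e_rc_13_3 lc_e_rc_19_4 lc_e_Cert_tree lc_e_rc_18_1 lc_e_rc_18_1 lc_e_rc_16_5 lc_e_rc_18_1 lc_e_rc_4_3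 lc_e_rc_16_1 lc_e_rc_19_2 lc_e_rc_9_1 lc_e_Cert_tree lc_e_Cert_tree lc_e_rc_18_1 lc_e_rc_9_1 lc_e_rc_16_3 lc_e_rc_16_3 lc_e_rc_18_1 lc_e_Cert_tree lc_e_rc_9_1 lc_e_rc_13_3 lc_e_Cert_tree lc_e_rc_18_1 lc_e_rc_13_3 lc_e_rc_9_3 lc_e_rc_18_1 lc_e_rc_27_1 lc_e_rc_16_1 lc_e_rc_13_1 lc_e_rc_27_1 lc_e_rc_18_1 lc_e_rc_19_0 lc_e_Cert_tree) (@D3.rec (fun _ => (Cert rels S Gen.e)) lc_e_Cert_tree lc_e_rc_18_1 lc_e_rc_18_1 lc_e_rc_13_1 lc_e_rc_18_1 lc_e_rc_9_3 lc_e_rc_16_1 lc_e_rc_19_4 lc_e_rc_18_1 lc_e_Cert_tree lc_e_rc_13_1 lc_e_rc_4_1 lc_e_rc_18_1 lc_e_Cert_tree lc_e_Cert_tree lc_e_rc_18_1 lc_e_rc_18_1 lc_e_rc_18_1 lc_e_rc_16_1 lc_e_rc_19_4 lc_e_Cert_tree lc_e_Cert_tree lc_e_rc_19_0 lc_e_rc_18_1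 lc_e_rc_9_1 lc_e_Cert_tree lc_e_rc_27_5 lc_e_rc_18_1 lc_e_rc_18_1 lc_e_Cert_tree lc_e_rc_13_3 lc_e_Cert_tree lc_e_Cert_tree lc_e_rc_18_1 lc_e_rc_13_3 lc_e_Cert_tree lc_e_Cert_tree lc_e_rc_18_1 lc_e_rc_18_1 lc_e_rc_18_1 lc_e_rc_9_3 lc_e_Cert_tree lc_e_rc_27_5 lc_e_Cert_tree lc_e_rc_18_1 lc_e_rc_18_1 lc_e_Cert_tree lc_e_rc_9_1 lc_e_rc_18_1 lc_e_rc_9_1 lc_e_rc_18_1 lc_e_Cert_tree lc_e_Cert_tree lc_e_Cert_tree lc_e_rc_18_1 lc_e_Cert_tree lc_e_Cert_tree lc_e_rc_16_1 lc_e_rc_13_3 lc_e_rc_19_2 lc_e_Cert_tree lc_e_Cert_tree) (@D3.rec (fun _ => (Cert rels S Gen.e)) lc_e_rc_18_1 lc_e_rc_9_1 lc_e_Cert_tree lc_e_Cert_tree lc_e_rc_18_1 lc_e_rc_13_3 lc_e_rc_13_1 lc_e_rc_9_3 lc_e_rc_18_1 lc_e_rc_27_7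 lc_e_Cert_tree lc_e_rc_9_1 lc_e_Cert_tree lc_e_rc_18_1 lc_e_rc_18_1 lc_e_rc_4_3 lc_e_rc_19_4 lc_e_rc_18_1 lc_e_rc_13_1 lc_e_rc_18_1 lc_e_rc_16_5 lc_e_Cert_tree lc_e_rc_13_1 lc_e_rc_18_1 lc_e_Cert_tree lc_e_rc_18_1 lc_e_rc_27_7 lc_e_Cert_tree lc_e_rc_9_3 lc_e_rc_18_1 lc_e_Cert_tree lc_e_rc_18_1 lc_e_Cert_tree lc_e_rc_9_1 lc_e_rc_18_1 lc_e_rc_16_1 lc_e_Cert_tree lc_e_Cert_tree lc_e_rc_9_3 lc_e_rc_18_1 lc_e_rc_19_4 lc_e_Cert_tree lc_e_rc_18_1 lc_e_rc_27_5 lc_e_rc_16_5 lc_e_rc_13_3 lc_e_rc_27_5 lc_e_rc_16_5 lc_e_rc_13_3 lc_e_rc_27_1 lc_e_rc_9_3 lc_e_rc_13_3 lc_e_rc_27_1 lc_e_rc_16_5 lc_e_Cert_tree lc_e_rc_18_1 lc_e_rc_27_5 lc_e_rc_27_5 lc_e_rc_9_3 lc_e_rc_4_3 lc_e_rc_13_3 lc_e_rc_18_1)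 (@D3.rec (fun _ => (Cert rels S Gen.e)) lc_e_rc_27_1 lc_e_rc_19_0 lc_e_rc_18_1 lc_e_rc_4_3 lc_e_rc_18_1 lc_e_rc_9_1 lc_e_rc_19_0 lc_e_rc_18_1 lc_e_rc_18_1 lc_e_rc_27_7 lc_e_rc_16_5 lc_e_rc_13_3 lc_e_rc_9_1 lc_e_rc_13_1 lc_e_Cert_tree lc_e_rc_9_3 lc_e_rc_18_1 lc_e_rc_18_1 lc_e_rc_27_1 lc_e_rc_9_3 lc_e_rc_9_3 lc_e_rc_16_5 lc_e_Cert_tree lc_e_rc_4_1 lc_e_rc_18_1 lc_e_rc_4_3 lc_e_rc_9_1 lc_e_Cert_tree lc_e_rc_18_1 lc_e_rc_27_1 lc_e_Cert_tree lc_e_rc_13_3 lc_e_rc_27_5 lc_e_rc_16_3 lc_e_rc_16_5 lc_e_rc_16_5 lc_e_rc_4_3 lc_e_rc_9_3 lc_e_Cert_tree lc_e_Cert_tree lc_e_rc_18_1 lc_e_rc_27_1 lc_e_rc_18_1 lc_e_rc_18_1 lc_e_rc_18_1 lc_e_rc_16_5 lc_e_rc_18_1 lc_e_rc_9_1 lc_e_rc_18_1 lc_e_rc_27_5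 lc_e_rc_19_4 lc_e_rc_9_3 lc_e_rc_13_3 lc_e_rc_27_7 lc_e_rc_4_1 lc_e_rc_18_1 lc_e_rc_16_1 lc_e_rc_18_1 lc_e_rc_9_3 lc_e_Cert_tree lc_e_rc_18_1 lc_e_rc_4_3) (@D3.rec (fun _ => (Cert rels S Gen.e)) lc_e_rc_13_1 lc_e_rc_16_3 lc_e_Cert_tree lc_e_rc_18_1 lc_e_rc_18_1 lc_e_rc_4_3 lc_e_Cert_tree lc_e_rc_16_1 lc_e_rc_19_4 lc_e_rc_13_3 lc_e_rc_18_1 lc_e_Cert_tree lc_e_rc_13_3 lc_e_Cert_tree lc_e_Cert_tree lc_e_rc_18_1 lc_e_rc_18_1 lc_e_Cert_tree lc_e_Cert_tree lc_e_rc_18_1 lc_e_Cert_tree lc_e_Cert_tree lc_e_rc_13_3 lc_e_Cert_tree lc_e_Cert_tree lc_e_rc_18_1 lc_e_rc_13_3 lc_e_rc_9_1 lc_e_Cert_tree lc_e_rc_18_1 lc_e_Cert_tree lc_e_rc_18_1 lc_e_rc_19_2 lc_e_rc_19_2 lc_e_rc_18_1 lc_e_Cert_tree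 lc_e_rc_9_3 lc_e_rc_9_3 lc_e_Cert_tree lc_e_Cert_tree lc_e_rc_18_1 lc_e_Cert_tree lc_e_rc_18_1 lc_e_Cert_tree lc_e_Cert_tree lc_e_rc_18_1 lc_e_rc_18_1 lc_e_rc_18_1 lc_e_Cert_tree lc_e_Cert_tree lc_e_rc_9_3 lc_e_Cert_tree lc_e_rc_19_0 lc_e_rc_19_4 lc_e_Cert_tree lc_e_rc_13_1 lc_e_rc_18_1 lc_e_rc_9_1 lc_e_rc_18_1 lc_e_rc_18_1 lc_e_rc_13_3 lc_e_Cert_tree) (@D3.rec (fun _ => (Cert rels S Gen.e)) lc_e_rc_18_1 lc_e_rc_18_1 lc_e_rc_19_2 lc_e_rc_19_4 lc_e_rc_9_3 lc_e_rc_9_3 lc_e_rc_4_3 lc_e_Cert_tree lc_e_rc_18_1 lc_e_rc_18_1 lc_e_Cert_tree lc_e_rc_13_3 lc_e_rc_13_3 lc_e_rc_18_1 lc_e_rc_18_1 lc_e_rc_27_1 lc_e_rc_16_1 lc_e_rc_19_4 lc_e_rc_18_1 lc_e_Cert_tree lc_e_Cert_tree lc_e_rc_16_1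 lc_e_rc_19_4 lc_e_Cert_tree lc_e_Cert_tree lc_e_rc_19_2 lc_e_rc_18_1 lc_e_rc_9_1 lc_e_rc_13_1 lc_e_rc_16_1 lc_e_rc_18_1 lc_e_Cert_tree lc_e_rc_16_1 lc_e_rc_27_5 lc_e_rc_18_1 lc_e_rc_18_1 lc_e_rc_9_3 lc_e_Cert_tree lc_e_Cert_tree lc_e_rc_4_3 lc_e_rc_18_1 lc_e_rc_13_3 lc_e_rc_18_1 lc_e_rc_18_1 lc_e_Cert_tree lc_e_rc_18_1 lc_e_rc_19_2 lc_e_rc_16_1 lc_e_rc_19_2 lc_e_rc_13_3 lc_e_Cert_tree lc_e_rc_9_3 lc_e_rc_19_4 lc_e_rc_18_1 lc_e_rc_18_1 lc_e_rc_9_3 lc_e_rc_27_1 lc_e_rc_18_1 lc_e_rc_19_0 lc_e_rc_4_3 lc_e_rc_16_3 lc_e_rc_13_1) (@D3.rec (fun _ => (Cert rels S Gen.e)) lc_e_rc_13_1 lc_e_rc_27_7 lc_e_rc_18_1 lc_e_Cert_tree lc_e_rc_27_1 lc_e_Cert_tree lc_e_rc_18_1 lc_e_rc_13_1 lc_e_rc_9_3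 lc_e_rc_27_5 lc_e_rc_18_1 lc_e_rc_27_5 lc_e_rc_16_1 lc_e_rc_18_1 lc_e_rc_18_1 lc_e_Cert_tree lc_e_Cert_tree lc_e_rc_19_4 lc_e_rc_16_3 lc_e_rc_9_1 lc_e_rc_19_4 lc_e_rc_9_3 lc_e_rc_9_3 lc_e_rc_18_1 lc_e_rc_16_3 lc_e_rc_18_1 lc_e_rc_16_1 lc_e_rc_18_1 lc_e_Cert_tree lc_e_Cert_tree lc_e_rc_16_1 lc_e_rc_19_4 lc_e_Cert_tree lc_e_rc_9_3 lc_e_Cert_tree lc_e_rc_16_1 lc_e_rc_18_1 lc_e_rc_13_3 lc_e_Cert_tree lc_e_rc_16_3 lc_e_rc_19_4 lc_e_Cert_tree lc_e_rc_9_3 lc_e_rc_18_1 lc_e_rc_13_3 lc_e_rc_19_4 lc_e_Cert_tree lc_e_rc_9_1 lc_e_rc_27_5 lc_e_rc_18_1 lc_e_rc_4_1 lc_e_rc_16_3 lc_e_rc_18_1 lc_e_rc_13_3 lc_e_rc_27_5 lc_e_rc_18_1 lc_e_Cert_tree lc_e_rc_18_1 lc_e_rc_13_3 lc_e_rc_19_4 lc_e_rc_9_3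 lc_e_rc_27_1) (@D3.rec (fun _ => (Cert rels S Gen.e)) lc_e_rc_18_1 lc_e_Cert_tree lc_e_Cert_tree lc_e_rc_13_3 lc_e_rc_16_3 lc_e_rc_27_7 lc_e_rc_18_1 lc_e_rc_16_3 lc_e_rc_16_3 lc_e_rc_16_1 lc_e_rc_4_3 lc_e_rc_16_3 lc_e_rc_4_3 lc_e_Cert_tree lc_e_Cert_tree lc_e_rc_16_3 lc_e_rc_13_1 lc_e_rc_16_3 lc_e_rc_4_3 lc_e_rc_4_3 lc_e_rc_13_3 lc_e_rc_9_1 lc_e_rc_13_3 lc_e_Cert_tree lc_e_rc_18_1 lc_e_rc_9_3 lc_e_rc_16_5 lc_e_Cert_tree lc_e_rc_18_1 lc_e_Cert_tree lc_e_rc_18_1 lc_e_rc_9_1 lc_e_Cert_tree lc_e_rc_18_1 lc_e_Cert_tree lc_e_rc_18_1 lc_e_rc_16_1 lc_e_Cert_tree lc_e_Cert_tree lc_e_rc_27_5 lc_e_rc_18_1 lc_e_rc_9_3 lc_e_rc_4_3 lc_e_rc_27_7 lc_e_Cert_tree lc_e_rc_13_3 lc_e_rc_16_3 lc_e_rc_19_4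 lc_e_rc_27_5 lc_e_Cert_tree lc_e_Cert_tree lc_e_rc_18_1 lc_e_rc_16_3 lc_e_rc_18_1 lc_e_Cert_tree lc_e_Cert_tree lc_e_rc_18_1 lc_e_rc_4_1 lc_e_rc_27_7 lc_e_rc_18_1 lc_e_rc_9_3 lc_e_rc_16_1) (@D3.rec (fun _ => (Cert rels S Gen.e)) lc_e_rc_19_4 lc_e_Cert_tree lc_e_rc_18_1 lc_e_Cert_tree lc_e_rc_18_1 lc_e_rc_27_7 lc_e_rc_13_3 lc_e_rc_27_1 lc_e_rc_18_1 lc_e_Cert_tree lc_e_Cert_tree lc_e_rc_13_3 lc_e_rc_27_5 lc_e_rc_27_5 lc_e_Cert_tree lc_e_rc_18_1 lc_e_rc_19_0 lc_e_rc_4_3 lc_e_rc_16_1 lc_e_rc_16_1 lc_e_rc_16_1 lc_e_rc_18_1 lc_e_rc_19_0 lc_e_rc_13_3 lc_e_rc_4_3 lc_e_rc_27_5 lc_e_rc_18_1 lc_e_rc_13_1 lc_e_rc_18_1 lc_e_Cert_tree lc_e_rc_18_1 lc_e_rc_16_5 lc_e_rc_18_1 lc_e_rc_13_3 lc_e_rc_13_1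 lc_e_rc_18_1 lc_e_rc_18_1 lc_e_rc_4_1 lc_e_Cert_tree lc_e_rc_18_1 lc_e_rc_13_1 lc_e_rc_13_3 lc_e_rc_16_5 lc_e_rc_13_3 lc_e_rc_18_1 lc_e_rc_18_1 lc_e_rc_16_1 lc_e_rc_27_5 lc_e_rc_18_1 lc_e_rc_18_1 lc_e_rc_27_1 lc_e_rc_27_5 lc_e_rc_4_3 lc_e_rc_27_1 lc_e_rc_18_1 lc_e_rc_27_5 lc_e_rc_18_1 lc_e_rc_16_3 lc_e_rc_9_3 lc_e_rc_13_3 lc_e_rc_19_2 lc_e_rc_18_1) (@D3.rec (fun _ => (Cert rels S Gen.e)) lc_e_Cert_tree lc_e_rc_19_4 lc_e_rc_18_1 lc_e_Cert_tree lc_e_rc_4_1 lc_e_rc_18_1 lc_e_rc_4_3 lc_e_Cert_tree lc_e_Cert_tree lc_e_Cert_tree lc_e_rc_18_1 lc_e_rc_19_4 lc_e_rc_16_5 lc_e_rc_18_1 lc_e_rc_27_7 lc_e_rc_18_1 lc_e_Cert_tree lc_e_rc_18_1 lc_e_rc_16_1 lc_e_rc_18_1 lc_e_rc_13_1 lc_e_Cert_tree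 lc_e_rc_18_1 lc_e_rc_9_3 lc_e_rc_18_1 lc_e_rc_13_1 lc_e_Cert_tree lc_e_rc_19_4 lc_e_rc_19_4 lc_e_rc_18_1 lc_e_rc_18_1 lc_e_Cert_tree lc_e_rc_18_1 lc_e_Cert_tree lc_e_rc_18_1 lc_e_rc_19_4 lc_e_rc_4_1 lc_e_Cert_tree lc_e_rc_18_1 lc_e_rc_27_1 lc_e_rc_9_3 lc_e_rc_9_3 lc_e_rc_27_5 lc_e_rc_18_1 lc_e_rc_27_7 lc_e_Cert_tree lc_e_rc_9_3 lc_e_rc_9_3 lc_e_rc_18_1 lc_e_rc_13_1 lc_e_rc_4_3 lc_e_rc_19_2 lc_e_rc_27_5 lc_e_rc_13_1 lc_e_rc_18_1 lc_e_rc_4_1 lc_e_Cert_tree lc_e_Cert_tree lc_e_Cert_tree lc_e_rc_4_3 lc_e_rc_19_2 lc_e_rc_18_1) (@D3.rec (fun _ => (Cert rels S Gen.e)) lc_e_rc_27_7 lc_e_rc_18_1 lc_e_rc_18_1 lc_e_Cert_tree lc_e_rc_13_3 lc_e_rc_13_3 lc_e_rc_18_1 lc_e_rc_4_1 lc_e_rc_19_4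 lc_e_rc_18_1 lc_e_rc_4_3 lc_e_rc_19_2 lc_e_rc_18_1 lc_e_Cert_tree lc_e_rc_18_1 lc_e_rc_18_1 lc_e_Cert_tree lc_e_rc_16_1 lc_e_rc_19_4 lc_e_rc_27_5 lc_e_rc_18_1 lc_e_rc_18_1 lc_e_rc_13_1 lc_e_rc_18_1 lc_e_rc_16_1 lc_e_Cert_tree lc_e_Cert_tree lc_e_rc_18_1 lc_e_rc_18_1 lc_e_Cert_tree lc_e_Cert_tree lc_e_rc_13_3 lc_e_Cert_tree lc_e_rc_13_3 lc_e_rc_9_3 lc_e_Cert_tree lc_e_rc_18_1 lc_e_rc_13_1 lc_e_rc_27_1 lc_e_rc_18_1 lc_e_rc_27_1 lc_e_rc_27_5 lc_e_rc_18_1 lc_e_Cert_tree lc_e_Cert_tree lc_e_rc_19_4 lc_e_rc_18_1 lc_e_Cert_tree lc_e_Cert_tree lc_e_rc_16_3 lc_e_rc_19_4 lc_e_rc_27_7 lc_e_rc_16_5 lc_e_Cert_tree lc_e_rc_27_5 lc_e_rc_18_1 lc_e_rc_13_1 lc_e_Cert_tree lc_e_Cert_tree lc_e_rc_19_4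 lc_e_rc_18_1 lc_e_Cert_tree) (@D3.rec (fun _ => (Cert rels S Gen.e)) lc_e_Cert_tree lc_e_rc_16_3 lc_e_rc_19_4 lc_e_rc_19_4 lc_e_rc_4_3 lc_e_rc_18_1 lc_e_rc_18_1 lc_e_rc_16_3 lc_e_rc_19_4 lc_e_rc_16_3 lc_e_rc_18_1 lc_e_rc_18_1 lc_e_Cert_tree lc_e_rc_19_2 lc_e_rc_19_2 lc_e_rc_9_3 lc_e_Cert_tree lc_e_rc_18_1 lc_e_rc_18_1 lc_e_rc_18_1 lc_e_rc_18_1 lc_e_rc_9_3 lc_e_rc_18_1 lc_e_rc_18_1 lc_e_rc_27_7 lc_e_rc_4_1 lc_e_rc_18_1 lc_e_rc_18_1 lc_e_rc_19_0 lc_e_rc_18_1 lc_e_Cert_tree lc_e_rc_18_1 lc_e_rc_18_1 lc_e_rc_18_1 lc_e_Cert_tree lc_e_rc_16_1 lc_e_rc_19_4 lc_e_rc_13_1 lc_e_rc_19_0 lc_e_rc_18_1 lc_e_rc_19_0 lc_e_rc_16_5 lc_e_rc_9_1 lc_e_rc_16_3 lc_e_rc_9_1 lc_e_Cert_tree lc_e_rc_18_1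 lc_e_rc_4_3 lc_e_Cert_tree lc_e_rc_18_1 lc_e_rc_9_3 lc_e_Cert_tree lc_e_rc_13_3 lc_e_rc_18_1 lc_e_rc_9_3 lc_e_Cert_tree lc_e_rc_18_1 lc_e_rc_18_1 lc_e_rc_18_1 lc_e_rc_18_1 lc_e_rc_9_3 lc_e_rc_18_1) (@D3.rec (fun _ => (Cert rels S Gen.e)) lc_e_rc_18_1 lc_e_rc_27_1 lc_e_rc_18_1 lc_e_rc_9_3 lc_e_rc_18_1 lc_e_rc_16_3 lc_e_rc_4_1 lc_e_rc_27_1 lc_e_rc_9_3 lc_e_rc_18_1 lc_e_rc_19_4 lc_e_rc_19_4 lc_e_rc_27_1 lc_e_rc_16_1 lc_e_rc_18_1 lc_e_rc_13_1 lc_e_Cert_tree lc_e_rc_18_1 lc_e_rc_27_5 lc_e_rc_18_1 lc_e_rc_19_4 lc_e_rc_18_1 lc_e_rc_9_3 lc_e_rc_18_1 lc_e_rc_13_1 lc_e_rc_27_5 lc_e_rc_18_1 lc_e_rc_9_3 lc_e_rc_13_1 lc_e_Cert_tree lc_e_rc_27_1 lc_e_rc_9_1 lc_e_rc_16_5 lc_e_rc_18_1 lc_e_rc_9_3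 lc_e_rc_13_3 lc_e_rc_27_1 lc_e_rc_18_1 lc_e_rc_13_1 lc_e_Cert_tree lc_e_rc_18_1 lc_e_rc_16_5 lc_e_rc_18_1 lc_e_rc_18_1 lc_e_rc_9_3 lc_e_rc_9_3 lc_e_rc_19_2 lc_e_rc_16_5 lc_e_rc_13_1 lc_e_rc_18_1 lc_e_rc_4_3 lc_e_rc_18_1 lc_e_rc_27_7 lc_e_rc_18_1 lc_e_rc_19_4 lc_e_rc_13_1 lc_e_rc_27_5 lc_e_rc_18_1 lc_e_rc_19_2 lc_e_rc_19_2 lc_e_rc_19_2 lc_e_rc_13_3) (@D3.rec (fun _ => (Cert rels S Gen.e)) lc_e_rc_13_3 lc_e_Cert_tree lc_e_Cert_tree lc_e_rc_18_1 lc_e_rc_13_3 lc_e_Cert_tree lc_e_Cert_tree lc_e_rc_18_1 lc_e_Cert_tree lc_e_rc_18_1 lc_e_rc_18_1 lc_e_rc_18_1 lc_e_rc_27_5 lc_e_rc_27_1 lc_e_rc_13_3 lc_e_rc_18_1 lc_e_rc_18_1 lc_e_rc_18_1 lc_e_rc_4_1 lc_e_rc_18_1 lc_e_rc_18_1 lc_e_rc_18_1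 lc_e_Cert_tree lc_e_Cert_tree lc_e_rc_18_1 lc_e_rc_13_3 lc_e_Cert_tree lc_e_rc_18_1 lc_e_rc_27_5 lc_e_rc_13_3 lc_e_Cert_tree lc_e_Cert_tree lc_e_rc_18_1 lc_e_rc_16_5 lc_e_Cert_tree lc_e_rc_18_1 lc_e_Cert_tree lc_e_Cert_tree lc_e_rc_18_1 lc_e_Cert_tree lc_e_rc_18_1 lc_e_Cert_tree lc_e_rc_16_3 lc_e_rc_19_4 lc_e_rc_13_3 lc_e_rc_27_5 lc_e_Cert_tree lc_e_rc_9_1 lc_e_rc_27_1 lc_e_rc_18_1 lc_e_Cert_tree lc_e_Cert_tree lc_e_rc_19_0 lc_e_rc_18_1 lc_e_rc_9_3 lc_e_rc_16_1 lc_e_rc_9_3 lc_e_rc_18_1 lc_e_rc_16_1 lc_e_Cert_tree lc_e_rc_18_1 lc_e_Cert_tree) (@D3.rec (fun _ => (Cert rels S Gen.e)) lc_e_rc_18_1 lc_e_Cert_tree lc_e_rc_18_1 lc_e_Cert_tree lc_e_rc_18_1 lc_e_rc_16_1 lc_e_rc_19_4 lc_e_Cert_tree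 lc_e_Cert_tree lc_e_rc_13_3 lc_e_rc_27_1 lc_e_rc_9_3 lc_e_rc_13_3 lc_e_Cert_tree lc_e_rc_18_1 lc_e_Cert_tree lc_e_rc_18_1 lc_e_rc_9_1 lc_e_Cert_tree lc_e_rc_9_3 lc_e_rc_18_1 lc_e_rc_13_3 lc_e_rc_27_7 lc_e_rc_18_1 lc_e_rc_18_1 lc_e_Cert_tree lc_e_rc_27_5 lc_e_rc_19_4 lc_e_rc_4_3 lc_e_rc_18_1 lc_e_rc_13_3 lc_e_rc_13_1 lc_e_rc_18_1 lc_e_rc_27_5 lc_e_rc_9_1 lc_e_rc_18_1 lc_e_rc_18_1 lc_e_Cert_tree lc_e_rc_16_1 lc_e_rc_19_4 lc_e_rc_19_2 lc_e_rc_13_3 lc_e_rc_18_1 lc_e_Cert_tree lc_e_rc_18_1 lc_e_Cert_tree lc_e_Cert_tree lc_e_rc_18_1 lc_e_rc_13_3 lc_e_rc_9_3 lc_e_rc_18_1 lc_e_rc_9_3 lc_e_rc_16_5 lc_e_rc_18_1 lc_e_rc_18_1 lc_e_Cert_tree lc_e_Cert_tree lc_e_rc_18_1 lc_e_Cert_tree lc_e_rc_16_1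 lc_e_rc_27_5 lc_e_Cert_tree) (@D3.rec (fun _ => (Cert rels S Gen.e)) lc_e_Cert_tree lc_e_rc_13_3 lc_e_Cert_tree lc_e_rc_19_2 lc_e_rc_4_3 lc_e_rc_4_3 lc_e_rc_18_1 lc_e_Cert_tree lc_e_Cert_tree lc_e_rc_16_3 lc_e_rc_19_4 lc_e_rc_27_1 lc_e_rc_18_1 lc_e_Cert_tree lc_e_rc_19_4 lc_e_rc_18_1 lc_e_rc_18_1 lc_e_Cert_tree lc_e_Cert_tree lc_e_rc_16_1 lc_e_rc_19_4 lc_e_rc_4_1 lc_e_Cert_tree lc_e_rc_4_3 lc_e_rc_18_1 lc_e_Cert_tree lc_e_Cert_tree lc_e_Cert_tree lc_e_rc_18_1 lc_e_Cert_tree lc_e_Cert_tree lc_e_rc_13_3 lc_e_Cert_tree lc_e_Cert_tree lc_e_Cert_tree lc_e_Cert_tree lc_e_rc_18_1 lc_e_rc_13_1 lc_e_rc_18_1 lc_e_Cert_tree lc_e_Cert_tree lc_e_rc_18_1 lc_e_Cert_tree lc_e_rc_13_3 lc_e_rc_9_1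 lc_e_Cert_tree lc_e_Cert_tree lc_e_rc_18_1 lc_e_rc_9_3 lc_e_Cert_tree lc_e_rc_18_1 lc_e_rc_9_1 lc_e_Cert_tree lc_e_rc_16_5 lc_e_rc_18_1 lc_e_Cert_tree lc_e_rc_13_3 lc_e_rc_4_3 lc_e_rc_13_3 lc_e_rc_13_3 lc_e_rc_19_4 lc_e_rc_13_3) (@D3.rec (fun _ => (Cert rels S Gen.e)) lc_e_Cert_tree lc_e_rc_18_1 lc_e_rc_18_1 lc_e_rc_19_2 lc_e_rc_18_1 lc_e_rc_16_5 lc_e_rc_4_3 lc_e_rc_18_1 lc_e_rc_13_3 lc_e_rc_18_1 lc_e_Cert_tree lc_e_Cert_tree lc_e_rc_18_1 lc_e_rc_13_1 lc_e_rc_18_1 lc_e_Cert_tree lc_e_rc_18_1 lc_e_rc_18_1 lc_e_rc_16_1 lc_e_rc_19_2 lc_e_rc_13_3 lc_e_Cert_tree lc_e_Cert_tree lc_e_Cert_tree lc_e_rc_18_1 lc_e_Cert_tree lc_e_rc_18_1 lc_e_rc_18_1 lc_e_rc_27_1 lc_e_rc_18_1 lc_e_Cert_tree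 lc_e_rc_27_7 lc_e_Cert_tree lc_e_Cert_tree lc_e_rc_18_1 lc_e_rc_13_3 lc_e_rc_19_2 lc_e_Cert_tree lc_e_rc_18_1 lc_e_rc_27_5 lc_e_rc_9_1 lc_e_Cert_tree lc_e_rc_18_1 lc_e_Cert_tree lc_e_rc_16_5 lc_e_rc_13_1 lc_e_Cert_tree lc_e_Cert_tree lc_e_Cert_tree lc_e_Cert_tree lc_e_rc_18_1 lc_e_Cert_tree lc_e_rc_18_1 lc_e_Cert_tree lc_e_Cert_tree lc_e_rc_16_3 lc_e_rc_18_1 lc_e_rc_18_1 lc_e_rc_18_1 lc_e_rc_18_1 lc_e_rc_18_1 lc_e_rc_9_1) (@D3.rec (fun _ => (Cert rels S Gen.e)) lc_e_rc_18_1 lc_e_rc_18_1 lc_e_rc_13_3 lc_e_rc_19_0 lc_e_rc_9_3 lc_e_Cert_tree lc_e_rc_4_3 lc_e_Cert_tree lc_e_Cert_tree lc_e_rc_18_1 lc_e_Cert_tree lc_e_rc_27_1 lc_e_rc_18_1 lc_e_Cert_tree lc_e_rc_18_1 lc_e_rc_18_1 lc_e_rc_4_3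 lc_e_rc_18_1 lc_e_Cert_tree lc_e_rc_18_1 lc_e_Cert_tree lc_e_Cert_tree lc_e_rc_18_1 lc_e_Cert_tree lc_e_rc_19_4 lc_e_rc_19_2 lc_e_rc_18_1 lc_e_rc_18_1 lc_e_Cert_tree lc_e_rc_4_3 lc_e_rc_16_3 lc_e_rc_18_1 lc_e_rc_9_3 lc_e_Cert_tree lc_e_rc_16_1 lc_e_rc_27_7 lc_e_rc_13_3 lc_e_Cert_tree lc_e_rc_18_1 lc_e_rc_18_1 lc_e_rc_27_5 lc_e_Cert_tree lc_e_rc_13_3 lc_e_rc_13_3 lc_e_rc_9_1 lc_e_rc_18_1 lc_e_Cert_tree lc_e_Cert_tree lc_e_rc_16_1 lc_e_rc_18_1 lc_e_rc_18_1 lc_e_rc_16_3 lc_e_Cert_tree lc_e_rc_16_5 lc_e_rc_13_3 lc_e_rc_18_1 lc_e_Cert_tree lc_e_rc_18_1 lc_e_Cert_tree lc_e_rc_18_1 lc_e_rc_13_3 lc_e_rc_19_4) (@D3.rec (fun _ => (Cert rels S Gen.e)) lc_e_rc_27_5 lc_e_rc_9_1 lc_e_rc_13_3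 lc_e_rc_19_4 lc_e_rc_13_3 lc_e_rc_13_3 lc_e_rc_27_7 lc_e_rc_4_3 lc_e_rc_9_3 lc_e_Cert_tree lc_e_rc_18_1 lc_e_rc_18_1 lc_e_rc_18_1 lc_e_Cert_tree lc_e_rc_27_5 lc_e_rc_18_1 lc_e_Cert_tree lc_e_rc_19_4 lc_e_rc_18_1 lc_e_rc_13_3 lc_e_rc_4_3 lc_e_rc_18_1 lc_e_rc_9_1 lc_e_rc_19_2 lc_e_rc_16_1 lc_e_rc_27_7 lc_e_Cert_tree lc_e_rc_18_1 lc_e_rc_13_1 lc_e_rc_18_1 lc_e_rc_9_3 lc_e_rc_19_2 lc_e_rc_16_3 lc_e_rc_18_1 lc_e_Cert_tree lc_e_rc_18_1 lc_e_Cert_tree lc_e_Cert_tree lc_e_rc_16_3 lc_e_rc_18_1 lc_e_rc_9_3 lc_e_rc_18_1 lc_e_Cert_tree lc_e_rc_27_7 lc_e_rc_18_1 lc_e_rc_18_1 lc_e_Cert_tree lc_e_Cert_tree lc_e_rc_16_1 lc_e_rc_19_4 lc_e_rc_9_1 lc_e_Cert_tree lc_e_rc_27_1 lc_e_rc_18_1 lc_e_Cert_tree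 lc_e_Cert_tree lc_e_rc_18_1 lc_e_Cert_tree lc_e_Cert_tree lc_e_rc_13_3 lc_e_Cert_tree lc_e_Cert_tree) (@D3.rec (fun _ => (Cert rels S Gen.e)) lc_e_Cert_tree lc_e_Cert_tree lc_e_rc_18_1 lc_e_Cert_tree lc_e_Cert_tree lc_e_rc_18_1 lc_e_Cert_tree lc_e_Cert_tree lc_e_rc_27_5 lc_e_rc_18_1 lc_e_Cert_tree lc_e_Cert_tree lc_e_rc_18_1 lc_e_Cert_tree lc_e_Cert_tree lc_e_rc_9_1 lc_e_Cert_tree lc_e_Cert_tree lc_e_rc_18_1 lc_e_rc_18_1 lc_e_rc_27_7 lc_e_rc_16_3 lc_e_rc_19_4 lc_e_rc_4_3 lc_e_rc_4_3 lc_e_rc_27_1 lc_e_Cert_tree lc_e_rc_19_4 lc_e_rc_16_5 lc_e_rc_18_1 lc_e_rc_18_1 lc_e_rc_4_3 lc_e_Cert_tree lc_e_rc_16_1 lc_e_rc_19_4 lc_e_Cert_tree lc_e_rc_27_5 lc_e_rc_18_1 lc_e_rc_18_1 lc_e_rc_13_3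 lc_e_rc_19_4 lc_e_rc_18_1 lc_e_rc_16_3 lc_e_rc_18_1 lc_e_rc_16_3 lc_e_rc_19_4 lc_e_Cert_tree lc_e_Cert_tree lc_e_rc_27_5 lc_e_rc_18_1 lc_e_Cert_tree lc_e_Cert_tree lc_e_Cert_tree lc_e_rc_18_1 lc_e_rc_27_1 lc_e_rc_13_1 lc_e_rc_13_3 lc_e_Cert_tree lc_e_rc_18_1 lc_e_Cert_tree lc_e_rc_27_7 lc_e_rc_9_3) (@D3.rec (fun _ => (Cert rels S Gen.e)) lc_e_rc_18_1 lc_e_rc_19_2 lc_e_rc_27_5 lc_e_rc_18_1 lc_e_Cert_tree lc_e_Cert_tree lc_e_rc_18_1 lc_e_Cert_tree lc_e_rc_18_1 lc_e_Cert_tree lc_e_rc_18_1 lc_e_rc_4_3 lc_e_rc_16_1 lc_e_Cert_tree lc_e_rc_13_1 lc_e_Cert_tree lc_e_Cert_tree lc_e_rc_18_1 lc_e_Cert_tree lc_e_Cert_tree lc_e_rc_18_1 lc_e_Cert_tree lc_e_Cert_tree lc_e_rc_18_1 lc_e_rc_27_7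 lc_e_rc_9_1 lc_e_Cert_tree lc_e_rc_4_1 lc_e_Cert_tree lc_e_Cert_tree lc_e_rc_18_1 lc_e_rc_27_1 lc_e_rc_18_1 lc_e_Cert_tree lc_e_rc_13_1 lc_e_Cert_tree lc_e_Cert_tree lc_e_Cert_tree lc_e_rc_18_1 lc_e_rc_9_3 lc_e_Cert_tree lc_e_Cert_tree lc_e_Cert_tree lc_e_Cert_tree lc_e_rc_18_1 lc_e_Cert_tree lc_e_rc_18_1 lc_e_rc_4_3 lc_e_rc_27_5 lc_e_rc_16_3 lc_e_Cert_tree lc_e_rc_18_1 lc_e_Cert_tree lc_e_rc_18_1 lc_e_rc_27_5 lc_e_rc_27_1 lc_e_rc_9_1 lc_e_rc_27_7 lc_e_Cert_tree lc_e_rc_18_1 lc_e_rc_27_5 lc_e_rc_9_3) (@D3.rec (fun _ => (Cert rels S Gen.e)) lc_e_rc_27_7 lc_e_rc_13_3 lc_e_rc_13_3 lc_e_rc_16_3 lc_e_rc_9_1 lc_e_rc_9_1 lc_e_rc_16_5 lc_e_rc_9_3 lc_e_Cert_tree lc_e_rc_18_1 lc_e_rc_13_3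 lc_e_rc_18_1 lc_e_rc_19_2 lc_e_rc_19_4 lc_e_Cert_tree lc_e_Cert_tree lc_e_rc_4_1 lc_e_rc_18_1 lc_e_rc_18_1 lc_e_rc_18_1 lc_e_rc_16_5 lc_e_Cert_tree lc_e_rc_13_1 lc_e_rc_19_4 lc_e_rc_18_1 lc_e_rc_18_1 lc_e_rc_18_1 lc_e_rc_16_5 lc_e_Cert_tree lc_e_Cert_tree lc_e_rc_18_1 lc_e_rc_9_3 lc_e_rc_16_1 lc_e_rc_19_4 lc_e_Cert_tree lc_e_rc_18_1 lc_e_Cert_tree lc_e_rc_19_4 lc_e_rc_27_7 lc_e_rc_13_3 lc_e_rc_9_3 lc_e_rc_16_3 lc_e_rc_18_1 lc_e_rc_4_3 lc_e_rc_9_3 lc_e_rc_19_4 lc_e_rc_18_1 lc_e_rc_9_3 lc_e_rc_9_3 lc_e_rc_13_1 lc_e_rc_18_1 lc_e_rc_18_1 lc_e_rc_4_3 lc_e_rc_19_4 lc_e_rc_16_1 lc_e_rc_19_4 lc_e_rc_13_1 lc_e_rc_19_2 lc_e_rc_13_3 lc_e_rc_27_5 lc_e_rc_13_3 lc_e_rc_19_4) (@D3.rec (fun _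 => (Cert rels S Gen.e)) lc_e_Cert_tree lc_e_Cert_tree lc_e_rc_18_1 lc_e_rc_18_1 lc_e_rc_16_1 lc_e_rc_4_1 lc_e_rc_18_1 lc_e_rc_16_1 lc_e_rc_19_4 lc_e_Cert_tree lc_e_Cert_tree lc_e_Cert_tree lc_e_rc_18_1 lc_e_rc_13_3 lc_e_Cert_tree lc_e_rc_18_1 lc_e_Cert_tree lc_e_rc_4_3 lc_e_rc_18_1 lc_e_Cert_tree lc_e_rc_18_1 lc_e_Cert_tree lc_e_rc_18_1 lc_e_rc_18_1 lc_e_Cert_tree lc_e_rc_18_1 lc_e_Cert_tree lc_e_rc_4_3 lc_e_rc_16_3 lc_e_rc_19_4 lc_e_rc_13_3 lc_e_rc_13_3 lc_e_rc_19_2 lc_e_rc_18_1 lc_e_rc_4_3 lc_e_rc_9_3 lc_e_rc_9_3 lc_e_rc_4_1 lc_e_rc_27_7 lc_e_rc_18_1 lc_e_rc_16_1 lc_e_rc_19_4 lc_e_rc_13_3 lc_e_Cert_tree lc_e_Cert_tree lc_e_Cert_tree lc_e_rc_18_1 lc_e_rc_18_1 lc_e_rc_13_3 lc_e_Cert_tree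 lc_e_rc_16_1 lc_e_rc_27_7 lc_e_rc_18_1 lc_e_rc_4_3 lc_e_rc_18_1 lc_e_rc_16_3 lc_e_rc_18_1 lc_e_Cert_tree lc_e_rc_13_1 lc_e_rc_13_3 lc_e_Cert_tree lc_e_rc_18_1) (@D3.rec (fun _ => (Cert rels S Gen.e)) lc_e_rc_18_1 lc_e_rc_9_3 lc_e_Cert_tree lc_e_Cert_tree lc_e_rc_18_1 lc_e_Cert_tree lc_e_Cert_tree lc_e_Cert_tree lc_e_rc_18_1 lc_e_rc_16_1 lc_e_rc_27_5 lc_e_rc_18_1 lc_e_Cert_tree lc_e_rc_27_5 lc_e_rc_18_1 lc_e_rc_16_5 lc_e_rc_27_1 lc_e_rc_13_3 lc_e_rc_19_4 lc_e_rc_13_1 lc_e_rc_18_1 lc_e_rc_9_3 lc_e_Cert_tree lc_e_rc_18_1 lc_e_rc_18_1 lc_e_Cert_tree lc_e_rc_16_1 lc_e_Cert_tree lc_e_rc_9_3 lc_e_rc_16_1 lc_e_rc_16_5 lc_e_Cert_tree lc_e_Cert_tree lc_e_rc_18_1 lc_e_Cert_tree lc_e_Cert_tree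 lc_e_rc_18_1 lc_e_Cert_tree lc_e_Cert_tree lc_e_rc_13_3 lc_e_rc_16_5 lc_e_Cert_tree lc_e_Cert_tree lc_e_rc_18_1 lc_e_rc_18_1 lc_e_rc_13_3 lc_e_rc_13_1 lc_e_rc_13_3 lc_e_rc_9_3 lc_e_Cert_tree lc_e_Cert_tree lc_e_rc_18_1 lc_e_Cert_tree lc_e_Cert_tree lc_e_rc_18_1 lc_e_Cert_tree lc_e_rc_16_1 lc_e_rc_19_2 lc_e_rc_9_3 lc_e_Cert_tree lc_e_rc_27_7 lc_e_rc_16_3) (@D3.rec (fun _ => (Cert rels S Gen.e)) lc_e_rc_27_1 lc_e_rc_18_1 lc_e_rc_9_3 lc_e_Cert_tree lc_e_rc_4_3 lc_e_rc_4_3 lc_e_rc_9_1 lc_e_Cert_tree lc_e_Cert_tree lc_e_Cert_tree lc_e_rc_4_3 lc_e_rc_18_1 lc_e_Cert_tree lc_e_rc_18_1 lc_e_rc_27_5 lc_e_Cert_tree lc_e_rc_18_1 lc_e_rc_27_5 lc_e_rc_4_3 lc_e_rc_16_1 lc_e_rc_19_4 lc_e_Cert_tree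 lc_e_rc_27_5 lc_e_rc_16_1 lc_e_rc_19_4 lc_e_rc_19_4 lc_e_Cert_tree lc_e_rc_16_3 lc_e_Cert_tree lc_e_rc_13_3 lc_e_Cert_tree lc_e_Cert_tree lc_e_rc_9_3 lc_e_rc_18_1 lc_e_rc_13_3 lc_e_Cert_tree lc_e_rc_18_1 lc_e_rc_18_1 lc_e_rc_18_1 lc_e_rc_19_4 lc_e_rc_18_1 lc_e_rc_9_3 lc_e_rc_16_5 lc_e_rc_18_1 lc_e_rc_4_1 lc_e_rc_19_4 lc_e_rc_27_7 lc_e_Cert_tree lc_e_rc_18_1 lc_e_rc_18_1 lc_e_rc_13_1 lc_e_rc_16_1 lc_e_rc_19_4 lc_e_rc_18_1 lc_e_rc_18_1 lc_e_rc_18_1 lc_e_rc_18_1 lc_e_rc_18_1 lc_e_rc_19_4 lc_e_Cert_tree lc_e_rc_27_7 lc_e_rc_16_3) (@D3.rec (fun _ => (Cert rels S Gen.e)) lc_e_rc_16_3 lc_e_rc_18_1 lc_e_rc_18_1 lc_e_Cert_tree lc_e_rc_18_1 lc_e_rc_18_1 lc_e_rc_18_1 lc_e_rc_9_3 lc_e_rc_9_3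 lc_e_rc_16_1 lc_e_rc_19_4 lc_e_rc_13_3 lc_e_rc_18_1 lc_e_Cert_tree lc_e_Cert_tree lc_e_rc_16_1 lc_e_rc_19_4 lc_e_rc_9_3 lc_e_rc_13_3 lc_e_Cert_tree lc_e_Cert_tree lc_e_rc_27_5 lc_e_Cert_tree lc_e_Cert_tree lc_e_rc_13_1 lc_e_rc_13_3 lc_e_rc_13_1 lc_e_rc_18_1 lc_e_rc_16_1 lc_e_rc_13_3 lc_e_rc_16_5 lc_e_rc_18_1 lc_e_rc_4_1 lc_e_rc_19_4 lc_e_Cert_tree lc_e_Cert_tree lc_e_Cert_tree lc_e_rc_18_1 lc_e_rc_16_3 lc_e_rc_13_1 lc_e_rc_9_1 lc_e_rc_18_1 lc_e_rc_27_5 lc_e_rc_18_1 lc_e_rc_18_1 lc_e_rc_18_1 lc_e_rc_18_1 lc_e_rc_18_1 lc_e_Cert_tree lc_e_rc_16_1 lc_e_rc_9_3 lc_e_rc_18_1 lc_e_Cert_tree lc_e_rc_16_1 lc_e_rc_19_4 lc_e_rc_4_1 lc_e_Cert_tree lc_e_rc_13_3 lc_e_rc_18_1 lc_e_rc_13_3 lc_e_Cert_tree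 lc_e_rc_18_1) (@D3.rec (fun _ => (Cert rels S Gen.e)) lc_e_rc_9_3 lc_e_rc_9_3 lc_e_Cert_tree lc_e_rc_16_3 lc_e_rc_18_1 lc_e_rc_18_1 lc_e_rc_4_3 lc_e_rc_9_3 lc_e_Cert_tree lc_e_rc_13_1 lc_e_rc_18_1 lc_e_rc_9_3 lc_e_rc_18_1 lc_e_rc_18_1 lc_e_Cert_tree lc_e_rc_9_3 lc_e_rc_27_7 lc_e_rc_19_4 lc_e_rc_27_7 lc_e_rc_18_1 lc_e_rc_27_7 lc_e_Cert_tree lc_e_Cert_tree lc_e_Cert_tree lc_e_rc_18_1 lc_e_rc_16_3 lc_e_Cert_tree lc_e_rc_18_1 lc_e_Cert_tree lc_e_Cert_tree lc_e_rc_19_4 lc_e_Cert_tree lc_e_Cert_tree lc_e_rc_13_3 lc_e_Cert_tree lc_e_Cert_tree lc_e_rc_18_1 lc_e_rc_18_1 lc_e_rc_18_1 lc_e_rc_18_1 lc_e_rc_18_1 lc_e_Cert_tree lc_e_rc_13_1 lc_e_rc_16_1 lc_e_rc_4_1 lc_e_rc_16_5 lc_e_Cert_tree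 lc_e_rc_16_1 lc_e_rc_19_4 lc_e_rc_16_5 lc_e_rc_13_3 lc_e_Cert_tree lc_e_rc_9_3 lc_e_Cert_tree lc_e_rc_16_3 lc_e_rc_9_1 lc_e_rc_9_3 lc_e_rc_13_3 lc_e_rc_27_5 lc_e_rc_18_1 lc_e_rc_13_3 lc_e_Cert_tree) (@D3.rec (fun _ => (Cert rels S Gen.e)) lc_e_rc_16_1 lc_e_rc_19_4 lc_e_Cert_tree lc_e_Cert_tree lc_e_Cert_tree lc_e_rc_18_1 lc_e_Cert_tree lc_e_Cert_tree lc_e_rc_18_1 lc_e_rc_18_1 lc_e_Cert_tree lc_e_rc_13_3 lc_e_Cert_tree lc_e_rc_27_5 lc_e_rc_27_1 lc_e_Cert_tree lc_e_rc_4_3 lc_e_Cert_tree lc_e_Cert_tree lc_e_rc_18_1 lc_e_rc_19_2 lc_e_rc_9_3 lc_e_rc_16_5 lc_e_rc_16_5 lc_e_rc_13_3 lc_e_Cert_tree lc_e_Cert_tree lc_e_rc_27_5 lc_e_rc_18_1 lc_e_Cert_tree lc_e_Cert_tree lc_e_rc_27_5 lc_e_rc_18_1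 lc_e_rc_16_5 lc_e_rc_9_1 lc_e_rc_9_3 lc_e_Cert_tree lc_e_Cert_tree lc_e_rc_18_1 lc_e_rc_9_1 lc_e_Cert_tree lc_e_rc_18_1 lc_e_Cert_tree lc_e_Cert_tree lc_e_rc_18_1 lc_e_rc_9_3 lc_e_rc_19_2 lc_e_Cert_tree lc_e_rc_18_1 lc_e_Cert_tree lc_e_Cert_tree lc_e_rc_18_1 lc_e_rc_16_1 lc_e_Cert_tree lc_e_Cert_tree lc_e_rc_18_1 lc_e_Cert_tree lc_e_rc_16_1 lc_e_rc_27_5 lc_e_rc_18_1 lc_e_rc_13_3 lc_e_rc_9_3) (@D3.rec (fun _ => (Cert rels S Gen.e)) lc_e_Cert_tree lc_e_rc_27_7 lc_e_rc_9_1 lc_e_Cert_tree lc_e_rc_18_1 lc_e_rc_9_3 lc_e_rc_19_2 lc_e_rc_27_1 lc_e_rc_27_5 lc_e_rc_18_1 lc_e_rc_18_1 lc_e_rc_9_1 lc_e_rc_27_7 lc_e_rc_18_1 lc_e_rc_4_3 lc_e_rc_18_1 lc_e_rc_19_0 lc_e_rc_18_1 lc_e_rc_18_1 lc_e_rc_4_1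 lc_e_rc_13_3 lc_e_rc_16_5 lc_e_rc_13_3 lc_e_rc_19_4 lc_e_rc_16_3 lc_e_rc_18_1 lc_e_rc_19_4 lc_e_Cert_tree lc_e_rc_9_3 lc_e_rc_18_1 lc_e_Cert_tree lc_e_rc_9_1 lc_e_rc_19_4 lc_e_Cert_tree lc_e_Cert_tree lc_e_rc_18_1 lc_e_rc_19_2 lc_e_rc_19_4 lc_e_rc_13_3 lc_e_Cert_tree lc_e_Cert_tree lc_e_rc_18_1 lc_e_rc_18_1 lc_e_rc_9_3 lc_e_Cert_tree lc_e_rc_18_1 lc_e_Cert_tree lc_e_Cert_tree lc_e_rc_18_1 lc_e_rc_18_1 lc_e_rc_18_1 lc_e_rc_16_5 lc_e_Cert_tree lc_e_rc_16_3 lc_e_rc_18_1 lc_e_rc_9_1 lc_e_Cert_tree lc_e_rc_18_1 lc_e_Cert_tree lc_e_Cert_tree lc_e_rc_13_1 lc_e_Cert_tree) (@D3.rec (fun _ => (Cert rels S Gen.e)) lc_e_Cert_tree lc_e_Cert_tree lc_e_rc_18_1 lc_e_rc_18_1 lc_e_rc_18_1 lc_e_rc_27_5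 lc_e_rc_27_1 lc_e_rc_27_5 lc_e_rc_13_3 lc_e_rc_18_1 lc_e_rc_16_3 lc_e_rc_4_3 lc_e_rc_4_1 lc_e_rc_18_1 lc_e_rc_27_5 lc_e_rc_18_1 lc_e_rc_27_5 lc_e_rc_19_2 lc_e_Cert_tree lc_e_Cert_tree lc_e_rc_16_5 lc_e_Cert_tree lc_e_rc_9_1 lc_e_Cert_tree lc_e_rc_18_1 lc_e_rc_16_5 lc_e_rc_13_1 lc_e_rc_18_1 lc_e_rc_16_1 lc_e_rc_19_4 lc_e_rc_9_1 lc_e_rc_27_7 lc_e_Cert_tree lc_e_rc_4_3 lc_e_rc_16_3 lc_e_Cert_tree lc_e_rc_18_1 lc_e_Cert_tree lc_e_rc_9_3 lc_e_rc_13_3 lc_e_rc_27_1 lc_e_rc_18_1 lc_e_rc_9_3 lc_e_rc_16_5 lc_e_rc_16_1 lc_e_rc_27_7 lc_e_rc_19_0 lc_e_rc_9_3 lc_e_rc_27_5 lc_e_rc_18_1 lc_e_rc_18_1 lc_e_rc_19_2 lc_e_rc_13_3 lc_e_rc_19_4 lc_e_rc_27_1 lc_e_rc_13_1 lc_e_Cert_tree lc_e_Cert_tree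 lc_e_rc_18_1 lc_e_rc_16_3 lc_e_rc_16_5 lc_e_rc_18_1) (@D3.rec (fun _ => (Cert rels S Gen.e)) lc_e_Cert_tree lc_e_Cert_tree lc_e_rc_18_1 lc_e_rc_18_1 lc_e_rc_18_1 lc_e_rc_9_1 lc_e_Cert_tree lc_e_Cert_tree lc_e_rc_18_1 lc_e_Cert_tree lc_e_rc_18_1 lc_e_rc_27_5 lc_e_Cert_tree lc_e_rc_13_3 lc_e_rc_27_5 lc_e_Cert_tree lc_e_rc_18_1 lc_e_rc_18_1 lc_e_rc_9_1 lc_e_rc_9_3 lc_e_rc_18_1 lc_e_rc_16_1 lc_e_Cert_tree lc_e_rc_18_1 lc_e_rc_18_1 lc_e_rc_4_3 lc_e_rc_18_1 lc_e_rc_13_1 lc_e_rc_18_1 lc_e_rc_9_3 lc_e_rc_16_1 lc_e_rc_18_1 lc_e_rc_27_5 lc_e_rc_9_3 lc_e_rc_13_3 lc_e_rc_4_3 lc_e_rc_18_1 lc_e_rc_4_3 lc_e_rc_27_5 lc_e_Cert_tree lc_e_rc_18_1 lc_e_rc_18_1 lc_e_rc_27_5 lc_e_rc_9_3 lc_e_rc_27_7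 lc_e_rc_9_3 lc_e_rc_13_3 lc_e_rc_9_3 lc_e_Cert_tree lc_e_rc_18_1 lc_e_rc_13_3 lc_e_rc_16_5 lc_e_Cert_tree lc_e_rc_18_1 lc_e_Cert_tree lc_e_rc_9_3 lc_e_rc_9_3 lc_e_rc_4_3 lc_e_rc_9_3 lc_e_rc_9_3 lc_e_rc_13_3 lc_e_rc_18_1) (@D3.rec (fun _ => (Cert rels S Gen.e)) lc_e_rc_9_3 lc_e_rc_9_3 lc_e_Cert_tree lc_e_rc_27_5 lc_e_rc_18_1 lc_e_rc_18_1 lc_e_rc_18_1 lc_e_rc_9_1 lc_e_rc_13_3 lc_e_Cert_tree lc_e_rc_13_1 lc_e_rc_18_1 lc_e_rc_18_1 lc_e_rc_18_1 lc_e_Cert_tree lc_e_rc_18_1 lc_e_rc_4_1 lc_e_Cert_tree lc_e_Cert_tree lc_e_Cert_tree lc_e_rc_18_1 lc_e_rc_16_1 lc_e_rc_16_5 lc_e_rc_18_1 lc_e_rc_16_5 lc_e_rc_16_5 lc_e_rc_27_5 lc_e_rc_16_3 lc_e_rc_27_5 lc_e_rc_18_1 lc_e_rc_18_1 lc_e_rc_16_5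 lc_e_Cert_tree lc_e_rc_18_1 lc_e_rc_4_3 lc_e_Cert_tree lc_e_rc_18_1 lc_e_rc_27_5 lc_e_rc_18_1 lc_e_rc_18_1 lc_e_rc_27_5 lc_e_rc_19_4 lc_e_rc_9_3 lc_e_rc_9_3 lc_e_rc_13_3 lc_e_rc_18_1 lc_e_Cert_tree lc_e_rc_18_1 lc_e_rc_4_3 lc_e_rc_18_1 lc_e_rc_13_1 lc_e_rc_18_1 lc_e_Cert_tree lc_e_rc_18_1 lc_e_Cert_tree lc_e_rc_16_5 lc_e_rc_19_4 lc_e_rc_18_1 lc_e_rc_16_3 lc_e_Cert_tree lc_e_rc_18_1 lc_e_rc_18_1) (@D3.rec (fun _ => (Cert rels S Gen.e)) lc_e_rc_16_1 lc_e_rc_27_5 lc_e_rc_16_1 lc_e_rc_4_3 lc_e_rc_27_1 lc_e_rc_16_5 lc_e_rc_13_3 lc_e_Cert_tree lc_e_Cert_tree lc_e_Cert_tree lc_e_rc_18_1 lc_e_Cert_tree lc_e_rc_18_1 lc_e_rc_13_3 lc_e_rc_27_1 lc_e_rc_18_1 lc_e_rc_4_1 lc_e_rc_18_1 lc_e_rc_27_5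 lc_e_Cert_tree lc_e_rc_16_3 lc_e_Cert_tree lc_e_Cert_tree lc_e_rc_18_1 lc_e_rc_16_1 lc_e_rc_27_5 lc_e_rc_13_3 lc_e_rc_13_3 lc_e_rc_4_3 lc_e_Cert_tree lc_e_Cert_tree lc_e_Cert_tree lc_e_rc_18_1 lc_e_Cert_tree lc_e_rc_27_7 lc_e_rc_18_1 lc_e_Cert_tree lc_e_rc_18_1 lc_e_Cert_tree lc_e_Cert_tree lc_e_rc_18_1 lc_e_rc_19_4 lc_e_rc_13_3 lc_e_Cert_tree lc_e_Cert_tree lc_e_rc_18_1 lc_e_rc_18_1 lc_e_rc_16_1 lc_e_rc_19_4 lc_e_rc_16_5 lc_e_Cert_tree lc_e_rc_18_1 lc_e_rc_18_1 lc_e_rc_4_3 lc_e_Cert_tree lc_e_rc_18_1 lc_e_rc_18_1 lc_e_rc_16_3 lc_e_rc_19_4 lc_e_rc_16_3 lc_e_Cert_tree lc_e_Cert_tree) (@D3.rec (fun _ => (Cert rels S Gen.e)) lc_e_rc_18_1 lc_e_Cert_tree lc_e_Cert_tree lc_e_rc_18_1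 lc_e_rc_18_1 lc_e_rc_18_1 lc_e_Cert_tree lc_e_rc_19_4 lc_e_rc_4_3 lc_e_rc_4_1 lc_e_Cert_tree lc_e_rc_18_1 lc_e_Cert_tree lc_e_rc_13_1 lc_e_rc_9_3 lc_e_Cert_tree lc_e_Cert_tree lc_e_rc_18_1 lc_e_rc_19_0 lc_e_rc_19_4 lc_e_Cert_tree lc_e_rc_18_1 lc_e_rc_18_1 lc_e_rc_19_4 lc_e_Cert_tree lc_e_Cert_tree lc_e_rc_18_1 lc_e_Cert_tree lc_e_Cert_tree lc_e_rc_18_1 lc_e_Cert_tree lc_e_Cert_tree lc_e_rc_13_3 lc_e_Cert_tree lc_e_Cert_tree lc_e_Cert_tree lc_e_Cert_tree lc_e_rc_18_1 lc_e_rc_18_1 lc_e_rc_27_7 lc_e_Cert_tree lc_e_rc_18_1 lc_e_rc_27_5 lc_e_rc_27_7 lc_e_Cert_tree lc_e_rc_18_1 lc_e_rc_18_1 lc_e_rc_16_1 lc_e_rc_9_1 lc_e_rc_18_1 lc_e_Cert_tree lc_e_rc_18_1 lc_e_rc_16_3 lc_e_Cert_tree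 lc_e_rc_18_1 lc_e_rc_27_5 lc_e_Cert_tree lc_e_rc_16_3 lc_e_rc_4_3 lc_e_rc_18_1 lc_e_rc_13_3 lc_e_rc_18_1) (@D3.rec (fun _ => (Cert rels S Gen.e)) lc_e_rc_18_1 lc_e_Cert_tree lc_e_Cert_tree lc_e_Cert_tree lc_e_rc_18_1 lc_e_rc_18_1 lc_e_Cert_tree lc_e_rc_16_1 lc_e_rc_13_3 lc_e_rc_13_3 lc_e_rc_13_3 lc_e_rc_18_1 lc_e_rc_27_5 lc_e_Cert_tree lc_e_rc_19_4 lc_e_rc_9_1 lc_e_rc_18_1 lc_e_rc_13_1 lc_e_rc_18_1 lc_e_Cert_tree lc_e_rc_16_3 lc_e_rc_19_4 lc_e_rc_13_3 lc_e_rc_18_1 lc_e_Cert_tree lc_e_rc_18_1 lc_e_Cert_tree lc_e_rc_27_1 lc_e_rc_19_4 lc_e_rc_4_3 lc_e_Cert_tree lc_e_Cert_tree lc_e_Cert_tree lc_e_rc_18_1 lc_e_rc_18_1 lc_e_Cert_tree lc_e_rc_27_5 lc_e_rc_16_1 lc_e_rc_19_4 lc_e_Cert_tree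 lc_e_rc_18_1 lc_e_rc_18_1 lc_e_Cert_tree lc_e_rc_18_1 lc_e_Cert_tree lc_e_rc_18_1 lc_e_rc_16_3 lc_e_rc_18_1 lc_e_rc_16_1 lc_e_rc_19_4 lc_e_rc_9_3 lc_e_rc_16_5 lc_e_Cert_tree lc_e_Cert_tree lc_e_Cert_tree lc_e_rc_18_1 lc_e_rc_18_1 lc_e_rc_16_1 lc_e_rc_19_4 lc_e_Cert_tree lc_e_Cert_tree lc_e_Cert_tree) (@D3.rec (fun _ => (Cert rels S Gen.e)) lc_e_Cert_tree lc_e_Cert_tree lc_e_rc_18_1 lc_e_rc_13_3 lc_e_rc_16_5 lc_e_rc_18_1 lc_e_Cert_tree lc_e_Cert_tree lc_e_Cert_tree lc_e_Cert_tree lc_e_rc_18_1 lc_e_rc_9_1 lc_e_rc_18_1 lc_e_rc_13_3 lc_e_rc_18_1 lc_e_Cert_tree lc_e_rc_18_1 lc_e_Cert_tree lc_e_rc_18_1 lc_e_Cert_tree lc_e_Cert_tree lc_e_Cert_tree lc_e_rc_18_1 lc_e_Cert_tree lc_e_Cert_tree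 lc_e_rc_13_3 lc_e_Cert_tree lc_e_Cert_tree lc_e_rc_18_1 lc_e_rc_13_3 lc_e_rc_27_5 lc_e_Cert_tree lc_e_rc_18_1 lc_e_rc_18_1 lc_e_Cert_tree lc_e_rc_27_5 lc_e_rc_13_3 lc_e_Cert_tree lc_e_rc_18_1 lc_e_rc_27_5 lc_e_rc_27_1 lc_e_rc_16_1 lc_e_rc_19_4 lc_e_rc_18_1 lc_e_rc_18_1 lc_e_rc_9_1 lc_e_Cert_tree lc_e_Cert_tree lc_e_rc_18_1 lc_e_rc_18_1 lc_e_rc_18_1 lc_e_rc_27_5 lc_e_rc_27_7 lc_e_Cert_tree lc_e_rc_18_1 lc_e_Cert_tree lc_e_rc_18_1 lc_e_rc_16_5 lc_e_rc_16_1 lc_e_rc_19_4 lc_e_rc_9_1 lc_e_rc_9_3) (@D3.rec (fun _ => (Cert rels S Gen.e)) lc_e_rc_27_7 lc_e_Cert_tree lc_e_Cert_tree lc_e_Cert_tree lc_e_rc_18_1 lc_e_rc_18_1 lc_e_Cert_tree lc_e_rc_18_1 lc_e_rc_4_1 lc_e_rc_16_1 lc_e_rc_19_4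 lc_e_rc_19_0 lc_e_rc_18_1 lc_e_Cert_tree lc_e_rc_27_7 lc_e_rc_18_1 lc_e_rc_18_1 lc_e_rc_4_3 lc_e_rc_18_1 lc_e_rc_27_7 lc_e_rc_9_1 lc_e_rc_18_1 lc_e_Cert_tree lc_e_Cert_tree lc_e_rc_18_1 lc_e_rc_18_1 lc_e_rc_18_1 lc_e_Cert_tree lc_e_rc_19_0 lc_e_rc_19_4 lc_e_rc_18_1 lc_e_rc_13_3 lc_e_rc_16_3 lc_e_rc_18_1 lc_e_Cert_tree lc_e_rc_18_1 lc_e_Cert_tree lc_e_Cert_tree lc_e_rc_18_1 lc_e_rc_13_3 lc_e_rc_27_7 lc_e_rc_18_1 lc_e_rc_27_1 lc_e_Cert_tree lc_e_rc_16_3 lc_e_rc_16_1 lc_e_rc_9_3 lc_e_rc_16_5 lc_e_rc_27_7 lc_e_rc_13_1 lc_e_rc_18_1 lc_e_rc_16_5 lc_e_rc_16_5 lc_e_rc_9_3 lc_e_rc_27_7 lc_e_rc_18_1 lc_e_Cert_tree lc_e_rc_13_3 lc_e_rc_13_3 lc_e_rc_18_1 lc_e_rc_4_3 lc_e_rc_19_4) (@D3.rec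 (fun _ => (Cert rels S Gen.e)) lc_e_Cert_tree lc_e_rc_18_1 lc_e_rc_13_3 lc_e_rc_9_3 lc_e_rc_4_3 lc_e_Cert_tree lc_e_Cert_tree lc_e_rc_18_1 lc_e_rc_13_3 lc_e_rc_13_3 lc_e_rc_27_5 lc_e_rc_13_3 lc_e_rc_19_4 lc_e_Cert_tree lc_e_rc_9_3 lc_e_rc_9_1 lc_e_rc_18_1 lc_e_rc_18_1 lc_e_rc_13_3 lc_e_rc_18_1 lc_e_rc_4_3 lc_e_rc_4_3 lc_e_Cert_tree lc_e_Cert_tree lc_e_rc_18_1 lc_e_rc_13_3 lc_e_Cert_tree lc_e_rc_13_3 lc_e_Cert_tree lc_e_Cert_tree lc_e_rc_18_1 lc_e_rc_4_3 lc_e_Cert_tree lc_e_Cert_tree lc_e_rc_18_1 lc_e_rc_13_3 lc_e_rc_13_3 lc_e_rc_19_0 lc_e_rc_13_3 lc_e_Cert_tree lc_e_rc_18_1 lc_e_rc_18_1 lc_e_Cert_tree lc_e_rc_16_5 lc_e_rc_27_1 lc_e_rc_16_3 lc_e_rc_9_3 lc_e_rc_18_1 lc_e_Cert_tree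 lc_e_rc_18_1 lc_e_rc_18_1 lc_e_Cert_tree lc_e_rc_9_3 lc_e_rc_13_3 lc_e_rc_27_7 lc_e_rc_18_1 lc_e_rc_18_1 lc_e_rc_13_3 lc_e_Cert_tree lc_e_rc_16_1 lc_e_rc_19_2 lc_e_rc_18_1) (@D3.rec (fun _ => (Cert rels S Gen.e)) lc_e_rc_18_1 lc_e_Cert_tree lc_e_Cert_tree lc_e_rc_18_1 lc_e_Cert_tree lc_e_rc_18_1 lc_e_rc_18_1 lc_e_rc_18_1 lc_e_rc_13_3 lc_e_rc_16_5 lc_e_rc_27_5 lc_e_rc_9_3 lc_e_rc_18_1 lc_e_Cert_tree lc_e_Cert_tree lc_e_Cert_tree lc_e_Cert_tree lc_e_rc_18_1 lc_e_rc_18_1 lc_e_rc_4_3 lc_e_rc_16_1 lc_e_rc_19_4 lc_e_Cert_tree lc_e_rc_18_1 lc_e_rc_18_1 lc_e_rc_4_3 lc_e_rc_9_1 lc_e_rc_19_2 lc_e_rc_9_3 lc_e_rc_9_3 lc_e_rc_13_3 lc_e_rc_19_2 lc_e_rc_16_5 lc_e_rc_27_5 lc_e_rc_4_3 lc_e_rc_16_5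 lc_e_Cert_tree lc_e_rc_18_1 lc_e_rc_18_1 lc_e_Cert_tree lc_e_Cert_tree lc_e_rc_18_1 lc_e_rc_18_1 lc_e_rc_18_1 lc_e_rc_27_7 lc_e_rc_16_5 lc_e_rc_16_5 lc_e_rc_18_1 lc_e_rc_16_1 lc_e_Cert_tree lc_e_Cert_tree lc_e_rc_18_1 lc_e_rc_19_0 lc_e_rc_16_1 lc_e_rc_19_2 lc_e_rc_13_3 lc_e_rc_18_1 lc_e_rc_9_1 lc_e_rc_18_1 lc_e_rc_18_1 lc_e_rc_9_1 lc_e_rc_18_1) (@D3.rec (fun _ => (Cert rels S Gen.e)) lc_e_rc_18_1 lc_e_rc_16_1 lc_e_rc_18_1 lc_e_rc_18_1 lc_e_rc_9_1 lc_e_Cert_tree lc_e_rc_18_1 lc_e_rc_4_1 lc_e_rc_19_4 lc_e_Cert_tree lc_e_rc_9_3 lc_e_rc_27_1 lc_e_rc_18_1 lc_e_rc_4_3 lc_e_rc_27_1 lc_e_Cert_tree lc_e_rc_18_1 lc_e_rc_9_3 lc_e_rc_18_1 lc_e_rc_9_3 lc_e_rc_27_7 lc_e_rc_27_5 lc_e_rc_18_1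 lc_e_Cert_tree lc_e_rc_18_1 lc_e_rc_13_3 lc_e_rc_18_1 lc_e_rc_18_1 lc_e_rc_27_5 lc_e_rc_19_2 lc_e_rc_9_3 lc_e_rc_18_1 lc_e_rc_18_1 lc_e_rc_16_3 lc_e_rc_19_4 lc_e_rc_27_1 lc_e_rc_13_3 lc_e_rc_13_1 lc_e_rc_27_7 lc_e_rc_27_7 lc_e_rc_18_1 lc_e_rc_16_3 lc_e_Cert_tree lc_e_rc_13_3 lc_e_Cert_tree lc_e_rc_18_1 lc_e_Cert_tree lc_e_Cert_tree lc_e_rc_16_1 lc_e_rc_19_4 lc_e_rc_9_3 lc_e_Cert_tree lc_e_Cert_tree lc_e_rc_27_5 lc_e_rc_18_1 lc_e_Cert_tree lc_e_rc_13_3 lc_e_Cert_tree lc_e_rc_4_1 lc_e_rc_9_3 lc_e_rc_27_7 lc_e_rc_27_5) (@D3.rec (fun _ => (Cert rels S Gen.e)) lc_e_rc_18_1 lc_e_Cert_tree lc_e_rc_27_7 lc_e_rc_18_1 lc_e_rc_13_1 lc_e_rc_18_1 lc_e_rc_9_3 lc_e_Cert_tree lc_e_rc_16_3 lc_e_rc_18_1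 lc_e_rc_9_3 lc_e_Cert_tree lc_e_rc_18_1 lc_e_rc_18_1 lc_e_rc_18_1 lc_e_rc_27_1 lc_e_rc_27_5 lc_e_rc_9_1 lc_e_rc_18_1 lc_e_rc_13_1 lc_e_rc_19_4 lc_e_Cert_tree lc_e_Cert_tree lc_e_rc_4_3 lc_e_rc_19_4 lc_e_rc_18_1 lc_e_rc_18_1 lc_e_Cert_tree lc_e_rc_19_2 lc_e_rc_27_1 lc_e_rc_18_1 lc_e_rc_18_1 lc_e_Cert_tree lc_e_rc_18_1 lc_e_Cert_tree lc_e_Cert_tree lc_e_rc_13_3 lc_e_Cert_tree lc_e_rc_18_1 lc_e_rc_9_1 lc_e_rc_18_1 lc_e_rc_13_3 lc_e_rc_9_3 lc_e_rc_18_1 lc_e_rc_9_3 lc_e_rc_18_1 lc_e_rc_16_5 lc_e_rc_13_3 lc_e_rc_18_1 lc_e_rc_9_1 lc_e_rc_13_1 lc_e_rc_18_1 lc_e_rc_27_5 lc_e_rc_9_1 lc_e_rc_4_3 lc_e_rc_13_1 lc_e_rc_19_2 lc_e_Cert_tree lc_e_rc_18_1 lc_e_rc_16_1 lc_e_Cert_tree lc_e_rc_18_1)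
def ce_e_12 : D2 → D3 → (Cert rels S Gen.e) := @D2.rec (fun _ => D3 → (Cert rels S Gen.e)) (@D3.rec (fun _ => (Cert rels S Gen.e)) lc_e_Cert_tree lc_e_Cert_tree lc_e_rc_18_1 lc_e_Cert_tree lc_e_rc_19_4 lc_e_rc_13_3 lc_e_rc_9_3 lc_e_rc_16_3 lc_e_rc_9_3 lc_e_Cert_tree lc_e_rc_9_3 lc_e_rc_16_3 lc_e_rc_19_2 lc_e_Cert_tree lc_e_Cert_tree lc_e_rc_18_1 lc_e_rc_18_1 lc_e_rc_13_3 lc_e_rc_9_3 lc_e_rc_18_1 lc_e_rc_4_3 lc_e_rc_27_7 lc_e_rc_18_1 lc_e_rc_27_7 lc_e_Cert_tree lc_e_rc_27_5 lc_e_rc_4_3 lc_e_rc_13_3 lc_e_rc_4_3 lc_e_rc_18_1 lc_e_rc_18_1 lc_e_Cert_tree lc_e_rc_18_1 lc_e_Cert_tree lc_e_Cert_tree lc_e_rc_18_1 lc_e_Cert_tree lc_e_rc_13_3 lc_e_rc_18_1 lc_e_rc_13_3 lc_e_rc_16_1 lc_e_rc_19_4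 lc_e_rc_27_5 lc_e_rc_13_3 lc_e_rc_9_3 lc_e_rc_13_3 lc_e_rc_13_3 lc_e_rc_9_3 lc_e_Cert_tree lc_e_rc_9_3 lc_e_rc_9_1 lc_e_Cert_tree lc_e_Cert_tree lc_e_rc_4_3 lc_e_rc_4_3 lc_e_Cert_tree lc_e_rc_4_3 lc_e_Cert_tree lc_e_Cert_tree lc_e_rc_18_1 lc_e_Cert_tree lc_e_rc_18_1) (@D3.rec (fun _ => (Cert rels S Gen.e)) lc_e_rc_9_3 lc_e_Cert_tree lc_e_rc_13_3 lc_e_rc_4_3 lc_e_Cert_tree lc_e_Cert_tree lc_e_rc_16_3 lc_e_rc_18_1 lc_e_rc_13_3 lc_e_rc_9_3 lc_e_rc_18_1 lc_e_Cert_tree lc_e_rc_9_3 lc_e_rc_18_1 lc_e_rc_13_3 lc_e_rc_18_1 lc_e_rc_18_1 lc_e_Cert_tree lc_e_rc_19_4 lc_e_Cert_tree lc_e_rc_9_3 lc_e_rc_18_1 lc_e_Cert_tree lc_e_rc_16_3 lc_e_rc_18_1 lc_e_rc_4_3 lc_e_rc_19_4 lc_e_Cert_tree lc_e_rc_18_1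 lc_e_rc_9_3 lc_e_rc_13_1 lc_e_rc_18_1 lc_e_rc_4_3 lc_e_rc_9_3 lc_e_rc_16_5 lc_e_rc_18_1 lc_e_rc_18_1 lc_e_rc_18_1 lc_e_rc_18_1 lc_e_Cert_tree lc_e_Cert_tree lc_e_rc_16_1 lc_e_rc_9_3 lc_e_rc_16_1 lc_e_rc_19_4 lc_e_Cert_tree lc_e_rc_13_3 lc_e_rc_19_2 lc_e_Cert_tree lc_e_Cert_tree lc_e_Cert_tree lc_e_rc_18_1 lc_e_rc_16_5 lc_e_rc_13_3 lc_e_rc_13_3 lc_e_rc_13_3 lc_e_rc_18_1 lc_e_rc_9_3 lc_e_rc_4_1 lc_e_rc_9_3 lc_e_rc_16_1 lc_e_rc_19_4) (@D3.rec (fun _ => (Cert rels S Gen.e)) lc_e_Cert_tree lc_e_rc_13_3 lc_e_rc_13_3 lc_e_rc_9_1 lc_e_Cert_tree lc_e_rc_16_1 lc_e_rc_19_4 lc_e_rc_16_3 lc_e_rc_16_1 lc_e_rc_16_3 lc_e_rc_9_3 lc_e_rc_18_1 lc_e_rc_18_1 lc_e_rc_18_1 lc_e_rc_18_1 lc_e_rc_16_1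 lc_e_rc_19_4 lc_e_rc_18_1 lc_e_rc_18_1 lc_e_rc_9_1 lc_e_rc_16_1 lc_e_rc_13_3 lc_e_Cert_tree lc_e_rc_18_1 lc_e_rc_27_1 lc_e_Cert_tree lc_e_rc_18_1 lc_e_Cert_tree lc_e_rc_16_3 lc_e_rc_18_1 lc_e_rc_9_3 lc_e_rc_18_1 lc_e_Cert_tree lc_e_rc_13_3 lc_e_Cert_tree lc_e_rc_18_1 lc_e_rc_18_1 lc_e_rc_13_3 lc_e_rc_16_3 lc_e_rc_27_1 lc_e_rc_13_3 lc_e_rc_16_3 lc_e_rc_27_7 lc_e_rc_19_4 lc_e_rc_9_1 lc_e_rc_18_1 lc_e_rc_18_1 lc_e_rc_27_5 lc_e_rc_18_1 lc_e_rc_13_3 lc_e_rc_9_3 lc_e_Cert_tree lc_e_rc_18_1 lc_e_rc_9_3 lc_e_Cert_tree lc_e_rc_27_5 lc_e_rc_18_1 lc_e_rc_18_1 lc_e_rc_27_7 lc_e_rc_19_2 lc_e_Cert_tree lc_e_rc_18_1) (@D3.rec (fun _ => (Cert rels S Gen.e)) lc_e_Cert_tree lc_e_rc_18_1 lc_e_rc_27_1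 lc_e_rc_16_1 lc_e_rc_13_1 lc_e_rc_19_2 lc_e_rc_16_3 lc_e_rc_27_5 lc_e_rc_13_3 lc_e_rc_27_1 lc_e_rc_13_3 lc_e_rc_18_1 lc_e_Cert_tree lc_e_rc_27_5 lc_e_rc_18_1 lc_e_Cert_tree lc_e_rc_18_1 lc_e_rc_18_1 lc_e_rc_9_3 lc_e_rc_9_3 lc_e_rc_16_1 lc_e_rc_27_5 lc_e_Cert_tree lc_e_rc_9_3 lc_e_Cert_tree lc_e_rc_18_1 lc_e_Cert_tree lc_e_Cert_tree lc_e_rc_4_3 lc_e_Cert_tree lc_e_rc_18_1 lc_e_rc_16_1 lc_e_rc_27_5 lc_e_Cert_tree lc_e_rc_4_1 lc_e_Cert_tree lc_e_rc_18_1 lc_e_rc_18_1 lc_e_rc_18_1 lc_e_Cert_tree lc_e_rc_18_1 lc_e_rc_13_3 lc_e_Cert_tree lc_e_Cert_tree lc_e_rc_9_3 lc_e_rc_27_7 lc_e_rc_19_4 lc_e_rc_9_3 lc_e_Cert_tree lc_e_rc_27_7 lc_e_rc_13_3 lc_e_rc_27_7 lc_e_Cert_tree lc_e_rc_4_1 lc_e_rc_9_3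 lc_e_rc_13_1 lc_e_rc_18_1 lc_e_rc_9_1 lc_e_rc_19_2 lc_e_rc_27_5 lc_e_rc_18_1 lc_e_rc_9_1) (@D3.rec (fun _ => (Cert rels S Gen.e)) lc_e_rc_18_1 lc_e_rc_18_1 lc_e_rc_13_3 lc_e_rc_18_1 lc_e_rc_27_1 lc_e_rc_27_5 lc_e_rc_27_5 lc_e_rc_9_1 lc_e_rc_18_1 lc_e_rc_18_1 lc_e_Cert_tree lc_e_Cert_tree lc_e_rc_4_3 lc_e_rc_9_3 lc_e_rc_18_1 lc_e_rc_27_7 lc_e_rc_9_3 lc_e_rc_13_3 lc_e_rc_16_1 lc_e_rc_27_1 lc_e_rc_27_1 lc_e_rc_13_3 lc_e_rc_13_1 lc_e_rc_18_1 lc_e_rc_18_1 lc_e_rc_18_1 lc_e_rc_9_3 lc_e_rc_19_0 lc_e_rc_9_3 lc_e_rc_9_3 lc_e_Cert_tree lc_e_rc_27_7 lc_e_rc_19_4 lc_e_rc_18_1 lc_e_rc_18_1 lc_e_rc_16_1 lc_e_rc_18_1 lc_e_rc_27_7 lc_e_rc_18_1 lc_e_rc_19_2 lc_e_rc_18_1 lc_e_rc_18_1 lc_e_rc_9_3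 lc_e_rc_13_3 lc_e_rc_9_3 lc_e_rc_27_7 lc_e_rc_27_5 lc_e_rc_18_1 lc_e_rc_13_3 lc_e_rc_13_3 lc_e_rc_16_5 lc_e_rc_9_1 lc_e_rc_18_1 lc_e_rc_4_3 lc_e_rc_16_1 lc_e_rc_13_3 lc_e_rc_4_3 lc_e_rc_16_3 lc_e_rc_13_3 lc_e_Cert_tree lc_e_rc_27_7 lc_e_rc_18_1) (@D3.rec (fun _ => (Cert rels S Gen.e)) lc_e_Cert_tree lc_e_Cert_tree lc_e_rc_18_1 lc_e_rc_16_3 lc_e_Cert_tree lc_e_rc_13_3 lc_e_rc_16_5 lc_e_Cert_tree lc_e_rc_18_1 lc_e_Cert_tree lc_e_rc_18_1 lc_e_Cert_tree lc_e_Cert_tree lc_e_rc_18_1 lc_e_Cert_tree lc_e_rc_18_1 lc_e_Cert_tree lc_e_Cert_tree lc_e_rc_9_3 lc_e_rc_18_1 lc_e_rc_19_0 lc_e_rc_9_3 lc_e_Cert_tree lc_e_Cert_tree lc_e_rc_18_1 lc_e_rc_16_3 lc_e_rc_13_3 lc_e_rc_16_5 lc_e_rc_27_5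 lc_e_rc_13_1 lc_e_Cert_tree lc_e_Cert_tree lc_e_rc_13_1 lc_e_rc_18_1 lc_e_rc_18_1 lc_e_Cert_tree lc_e_rc_13_1 lc_e_rc_18_1 lc_e_rc_13_3 lc_e_rc_16_1 lc_e_rc_27_5 lc_e_rc_18_1 lc_e_rc_27_5 lc_e_rc_13_1 lc_e_Cert_tree lc_e_Cert_tree lc_e_rc_18_1 lc_e_Cert_tree lc_e_rc_27_7 lc_e_rc_4_3 lc_e_rc_18_1 lc_e_rc_18_1 lc_e_Cert_tree lc_e_Cert_tree lc_e_rc_19_4 lc_e_Cert_tree lc_e_rc_18_1 lc_e_Cert_tree lc_e_Cert_tree lc_e_rc_18_1 lc_e_Cert_tree lc_e_Cert_tree) (@D3.rec (fun _ => (Cert rels S Gen.e)) lc_e_rc_13_3 lc_e_Cert_tree lc_e_rc_18_1 lc_e_Cert_tree lc_e_rc_18_1 lc_e_rc_9_3 lc_e_Cert_tree lc_e_Cert_tree lc_e_rc_18_1 lc_e_Cert_tree lc_e_rc_18_1 lc_e_rc_16_3 lc_e_rc_27_5 lc_e_rc_18_1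 lc_e_Cert_tree lc_e_rc_16_3 lc_e_rc_13_3 lc_e_rc_18_1 lc_e_Cert_tree lc_e_rc_18_1 lc_e_rc_9_3 lc_e_rc_27_5 lc_e_Cert_tree lc_e_rc_27_5 lc_e_rc_18_1 lc_e_rc_18_1 lc_e_Cert_tree lc_e_rc_27_1 lc_e_rc_19_4 lc_e_rc_18_1 lc_e_Cert_tree lc_e_Cert_tree lc_e_rc_18_1 lc_e_Cert_tree lc_e_rc_13_3 lc_e_Cert_tree lc_e_rc_18_1 lc_e_rc_16_3 lc_e_rc_18_1 lc_e_rc_18_1 lc_e_rc_9_1 lc_e_Cert_tree lc_e_Cert_tree lc_e_rc_18_1 lc_e_Cert_tree lc_e_Cert_tree lc_e_rc_18_1 lc_e_Cert_tree lc_e_rc_18_1 lc_e_rc_18_1 lc_e_rc_13_3 lc_e_rc_4_3 lc_e_rc_19_4 lc_e_Cert_tree lc_e_Cert_tree lc_e_rc_18_1 lc_e_Cert_tree lc_e_Cert_tree lc_e_rc_18_1 lc_e_Cert_tree lc_e_rc_18_1 lc_e_rc_18_1) (@D3.rec (fun _ => (Cert rels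 S Gen.e)) lc_e_rc_27_5 lc_e_Cert_tree lc_e_rc_16_1 lc_e_rc_19_4 lc_e_rc_13_1 lc_e_rc_16_5 lc_e_Cert_tree lc_e_Cert_tree lc_e_rc_18_1 lc_e_rc_18_1 lc_e_Cert_tree lc_e_rc_13_3 lc_e_Cert_tree lc_e_rc_13_3 lc_e_rc_9_1 lc_e_rc_18_1 lc_e_rc_16_1 lc_e_rc_19_4 lc_e_Cert_tree lc_e_rc_18_1 lc_e_rc_13_1 lc_e_Cert_tree lc_e_rc_18_1 lc_e_Cert_tree lc_e_rc_16_1 lc_e_rc_19_4 lc_e_rc_13_3 lc_e_Cert_tree lc_e_rc_18_1 lc_e_rc_18_1 lc_e_rc_27_5 lc_e_rc_19_4 lc_e_rc_18_1 lc_e_rc_18_1 lc_e_rc_13_3 lc_e_rc_9_3 lc_e_rc_16_1 lc_e_rc_19_4 lc_e_rc_18_1 lc_e_rc_13_1 lc_e_rc_27_1 lc_e_rc_18_1 lc_e_Cert_tree lc_e_Cert_tree lc_e_rc_27_5 lc_e_rc_18_1 lc_e_Cert_tree lc_e_rc_27_1 lc_e_rc_19_4 lc_e_rc_16_3 lc_e_rc_19_2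 lc_e_rc_4_3 lc_e_rc_9_3 lc_e_rc_27_5 lc_e_rc_18_1 lc_e_rc_18_1 lc_e_rc_27_5 lc_e_rc_18_1 lc_e_rc_18_1 lc_e_rc_27_1 lc_e_rc_4_1 lc_e_rc_9_3) (@D3.rec (fun _ => (Cert rels S Gen.e)) lc_e_rc_19_4 lc_e_rc_18_1 lc_e_rc_18_1 lc_e_rc_18_1 lc_e_rc_18_1 lc_e_rc_27_1 lc_e_rc_18_1 lc_e_Cert_tree lc_e_rc_13_1 lc_e_rc_27_5 lc_e_rc_18_1 lc_e_Cert_tree lc_e_rc_27_1 lc_e_rc_18_1 lc_e_Cert_tree lc_e_rc_13_1 lc_e_Cert_tree lc_e_rc_19_4 lc_e_rc_18_1 lc_e_Cert_tree lc_e_rc_18_1 lc_e_rc_13_3 lc_e_rc_16_1 lc_e_rc_4_3 lc_e_rc_16_1 lc_e_rc_19_4 lc_e_rc_13_3 lc_e_rc_16_1 lc_e_rc_18_1 lc_e_Cert_tree lc_e_rc_27_5 lc_e_rc_18_1 lc_e_rc_27_5 lc_e_Cert_tree lc_e_rc_18_1 lc_e_rc_27_5 lc_e_rc_16_1 lc_e_rc_19_4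 lc_e_rc_13_1 lc_e_rc_16_1 lc_e_rc_19_2 lc_e_rc_13_3 lc_e_rc_9_3 lc_e_rc_27_1 lc_e_Cert_tree lc_e_Cert_tree lc_e_rc_18_1 lc_e_rc_9_3 lc_e_rc_18_1 lc_e_rc_18_1 lc_e_rc_16_3 lc_e_rc_16_5 lc_e_Cert_tree lc_e_rc_18_1 lc_e_rc_19_4 lc_e_rc_18_1 lc_e_rc_16_3 lc_e_Cert_tree lc_e_rc_18_1 lc_e_rc_9_3 lc_e_rc_18_1 lc_e_rc_13_3) (@D3.rec (fun _ => (Cert rels S Gen.e)) lc_e_rc_4_3 lc_e_rc_4_3 lc_e_rc_16_1 lc_e_rc_16_1 lc_e_rc_19_4 lc_e_rc_18_1 lc_e_rc_18_1 lc_e_rc_18_1 lc_e_rc_13_3 lc_e_rc_18_1 lc_e_Cert_tree lc_e_Cert_tree lc_e_rc_16_1 lc_e_rc_19_4 lc_e_rc_16_5 lc_e_rc_16_3 lc_e_rc_13_3 lc_e_Cert_tree lc_e_rc_27_1 lc_e_rc_4_1 lc_e_rc_18_1 lc_e_rc_18_1 lc_e_rc_13_3 lc_e_rc_27_7 lc_e_rc_18_1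 lc_e_rc_13_1 lc_e_rc_18_1 lc_e_rc_16_5 lc_e_rc_18_1 lc_e_rc_16_1 lc_e_rc_13_1 lc_e_rc_18_1 lc_e_rc_27_1 lc_e_rc_9_1 lc_e_rc_18_1 lc_e_Cert_tree lc_e_rc_16_1 lc_e_rc_16_1 lc_e_rc_18_1 lc_e_Cert_tree lc_e_rc_13_3 lc_e_rc_13_3 lc_e_rc_27_5 lc_e_rc_18_1 lc_e_rc_4_3 lc_e_Cert_tree lc_e_rc_4_3 lc_e_rc_9_3 lc_e_rc_18_1 lc_e_rc_13_3 lc_e_rc_18_1 lc_e_rc_18_1 lc_e_rc_27_5 lc_e_rc_18_1 lc_e_rc_18_1 lc_e_rc_18_1 lc_e_rc_18_1 lc_e_Cert_tree lc_e_rc_13_3 lc_e_rc_16_3 lc_e_rc_27_5 lc_e_Cert_tree) (@D3.rec (fun _ => (Cert rels S Gen.e)) lc_e_rc_18_1 lc_e_rc_9_3 lc_e_rc_13_3 lc_e_rc_16_3 lc_e_rc_9_1 lc_e_rc_18_1 lc_e_rc_18_1 lc_e_rc_16_1 lc_e_rc_18_1 lc_e_rc_18_1 lc_e_Cert_tree lc_e_rc_18_1 lc_e_rc_27_5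 lc_e_rc_9_1 lc_e_rc_19_4 lc_e_rc_18_1 lc_e_rc_16_3 lc_e_rc_27_5 lc_e_Cert_tree lc_e_rc_18_1 lc_e_rc_27_7 lc_e_Cert_tree lc_e_rc_18_1 lc_e_Cert_tree lc_e_rc_13_3 lc_e_rc_13_3 lc_e_Cert_tree lc_e_Cert_tree lc_e_Cert_tree lc_e_rc_18_1 lc_e_rc_4_1 lc_e_rc_13_3 lc_e_rc_18_1 lc_e_rc_9_3 lc_e_rc_18_1 lc_e_rc_27_7 lc_e_rc_18_1 lc_e_rc_27_5 lc_e_rc_27_7 lc_e_rc_27_5 lc_e_rc_16_5 lc_e_rc_9_3 lc_e_rc_18_1 lc_e_rc_16_5 lc_e_rc_9_3 lc_e_rc_16_5 lc_e_rc_27_5 lc_e_rc_18_1 lc_e_rc_18_1 lc_e_rc_13_3 lc_e_rc_19_2 lc_e_rc_4_3 lc_e_rc_18_1 lc_e_rc_4_3 lc_e_rc_18_1 lc_e_Cert_tree lc_e_rc_18_1 lc_e_rc_27_5 lc_e_rc_18_1 lc_e_rc_18_1 lc_e_rc_18_1 lc_e_rc_18_1) (@D3.rec (fun _ => (Cert rels S Gen.e))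 lc_e_Cert_tree lc_e_rc_18_1 lc_e_rc_18_1 lc_e_rc_18_1 lc_e_rc_9_1 lc_e_rc_16_1 lc_e_rc_27_5 lc_e_rc_9_3 lc_e_Cert_tree lc_e_Cert_tree lc_e_rc_9_3 lc_e_rc_18_1 lc_e_rc_27_1 lc_e_rc_4_1 lc_e_rc_16_3 lc_e_rc_19_4 lc_e_rc_4_1 lc_e_Cert_tree lc_e_rc_9_3 lc_e_Cert_tree lc_e_Cert_tree lc_e_rc_16_1 lc_e_rc_19_4 lc_e_Cert_tree lc_e_Cert_tree lc_e_rc_16_3 lc_e_rc_18_1 lc_e_rc_16_5 lc_e_rc_9_3 lc_e_rc_13_3 lc_e_Cert_tree lc_e_rc_27_1 lc_e_rc_13_3 lc_e_rc_9_3 lc_e_rc_16_1 lc_e_rc_13_3 lc_e_rc_18_1 lc_e_rc_13_3 lc_e_rc_18_1 lc_e_rc_27_1 lc_e_rc_9_3 lc_e_Cert_tree lc_e_Cert_tree lc_e_Cert_tree lc_e_rc_18_1 lc_e_rc_9_3 lc_e_Cert_tree lc_e_rc_19_2 lc_e_Cert_tree lc_e_Cert_tree lc_e_rc_16_3 lc_e_rc_18_1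 lc_e_Cert_tree lc_e_rc_4_3 lc_e_Cert_tree lc_e_Cert_tree lc_e_rc_27_7 lc_e_rc_18_1 lc_e_rc_27_1 lc_e_rc_13_3 lc_e_rc_9_3 lc_e_rc_27_7) (@D3.rec (fun _ => (Cert rels S Gen.e)) lc_e_rc_18_1 lc_e_rc_16_5 lc_e_rc_13_3 lc_e_rc_16_5 lc_e_rc_13_3 lc_e_rc_19_2 lc_e_rc_18_1 lc_e_rc_27_5 lc_e_rc_16_5 lc_e_rc_4_3 lc_e_rc_19_4 lc_e_rc_27_7 lc_e_rc_13_3 lc_e_rc_16_3 lc_e_Cert_tree lc_e_rc_18_1 lc_e_Cert_tree lc_e_Cert_tree lc_e_rc_18_1 lc_e_rc_18_1 lc_e_rc_16_1 lc_e_rc_13_3 lc_e_Cert_tree lc_e_rc_9_1 lc_e_Cert_tree lc_e_rc_27_5 lc_e_rc_4_3 lc_e_rc_16_1 lc_e_rc_18_1 lc_e_rc_18_1 lc_e_rc_13_3 lc_e_rc_13_3 lc_e_rc_9_3 lc_e_Cert_tree lc_e_rc_9_3 lc_e_rc_4_3 lc_e_Cert_tree lc_e_rc_18_1 lc_e_rc_18_1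 lc_e_rc_27_1 lc_e_rc_13_1 lc_e_rc_27_5 lc_e_rc_18_1 lc_e_Cert_tree lc_e_rc_9_3 lc_e_rc_18_1 lc_e_rc_13_3 lc_e_rc_27_7 lc_e_rc_19_0 lc_e_Cert_tree lc_e_rc_18_1 lc_e_Cert_tree lc_e_rc_18_1 lc_e_rc_18_1 lc_e_rc_18_1 lc_e_Cert_tree lc_e_Cert_tree lc_e_rc_16_1 lc_e_rc_19_4 lc_e_rc_18_1 lc_e_Cert_tree lc_e_rc_13_1) (@D3.rec (fun _ => (Cert rels S Gen.e)) lc_e_rc_9_3 lc_e_rc_9_1 lc_e_rc_16_3 lc_e_rc_9_3 lc_e_rc_18_1 lc_e_rc_18_1 lc_e_rc_27_7 lc_e_rc_18_1 lc_e_rc_19_0 lc_e_rc_18_1 lc_e_rc_9_3 lc_e_rc_16_1 lc_e_Cert_tree lc_e_Cert_tree lc_e_rc_18_1 lc_e_rc_18_1 lc_e_rc_18_1 lc_e_Cert_tree lc_e_Cert_tree lc_e_rc_18_1 lc_e_rc_9_3 lc_e_Cert_tree lc_e_Cert_tree lc_e_rc_4_3 lc_e_Cert_tree lc_e_rc_4_3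 lc_e_rc_9_1 lc_e_Cert_tree lc_e_rc_16_3 lc_e_Cert_tree lc_e_rc_18_1 lc_e_rc_18_1 lc_e_rc_18_1 lc_e_rc_27_5 lc_e_rc_16_5 lc_e_rc_4_3 lc_e_rc_16_3 lc_e_rc_9_3 lc_e_rc_13_3 lc_e_rc_9_3 lc_e_rc_13_3 lc_e_Cert_tree lc_e_Cert_tree lc_e_rc_18_1 lc_e_rc_4_3 lc_e_rc_9_3 lc_e_Cert_tree lc_e_rc_13_3 lc_e_rc_16_5 lc_e_rc_13_3 lc_e_rc_9_3 lc_e_Cert_tree lc_e_Cert_tree lc_e_rc_18_1 lc_e_rc_27_5 lc_e_rc_27_7 lc_e_rc_18_1 lc_e_rc_9_1 lc_e_rc_27_5 lc_e_rc_18_1 lc_e_rc_13_3 lc_e_rc_16_3) (@D3.rec (fun _ => (Cert rels S Gen.e)) lc_e_rc_4_3 lc_e_rc_9_3 lc_e_Cert_tree lc_e_rc_18_1 lc_e_rc_16_5 lc_e_rc_27_1 lc_e_rc_19_2 lc_e_rc_13_3 lc_e_rc_18_1 lc_e_rc_27_1 lc_e_rc_13_3 lc_e_rc_16_1 lc_e_rc_19_4 lc_e_Cert_tree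 lc_e_rc_27_1 lc_e_rc_18_1 lc_e_rc_13_3 lc_e_rc_27_7 lc_e_Cert_tree lc_e_rc_18_1 lc_e_rc_18_1 lc_e_rc_13_3 lc_e_rc_16_1 lc_e_rc_18_1 lc_e_rc_16_1 lc_e_rc_19_2 lc_e_rc_9_3 lc_e_rc_13_3 lc_e_rc_27_5 lc_e_rc_27_1 lc_e_rc_13_1 lc_e_rc_27_7 lc_e_rc_4_1 lc_e_rc_18_1 lc_e_rc_9_3 lc_e_rc_9_3 lc_e_rc_27_5 lc_e_rc_27_1 lc_e_rc_4_1 lc_e_Cert_tree lc_e_rc_18_1 lc_e_rc_18_1 lc_e_rc_16_1 lc_e_Cert_tree lc_e_rc_18_1 lc_e_rc_9_1 lc_e_rc_13_3 lc_e_rc_16_1 lc_e_rc_19_2 lc_e_rc_18_1 lc_e_rc_9_3 lc_e_rc_9_3 lc_e_rc_27_5 lc_e_rc_16_1 lc_e_rc_13_3 lc_e_rc_18_1 lc_e_rc_18_1 lc_e_Cert_tree lc_e_rc_18_1 lc_e_rc_27_5 lc_e_rc_18_1 lc_e_rc_9_3) (@D3.rec (fun _ => (Cert rels S Gen.e)) lc_e_rc_9_1 lc_e_rc_9_3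 lc_e_rc_9_1 lc_e_rc_13_3 lc_e_rc_16_5 lc_e_rc_16_1 lc_e_rc_18_1 lc_e_rc_4_3 lc_e_Cert_tree lc_e_rc_18_1 lc_e_rc_16_1 lc_e_rc_19_4 lc_e_rc_27_5 lc_e_rc_16_5 lc_e_rc_27_5 lc_e_rc_16_1 lc_e_rc_19_4 lc_e_rc_18_1 lc_e_rc_13_1 lc_e_rc_16_1 lc_e_rc_13_1 lc_e_rc_9_3 lc_e_rc_27_7 lc_e_rc_18_1 lc_e_rc_18_1 lc_e_rc_27_5 lc_e_rc_27_5 lc_e_rc_27_5 lc_e_Cert_tree lc_e_rc_9_3 lc_e_rc_18_1 lc_e_rc_19_2 lc_e_rc_4_3 lc_e_rc_19_2 lc_e_rc_18_1 lc_e_rc_16_3 lc_e_rc_18_1 lc_e_rc_16_5 lc_e_rc_16_5 lc_e_Cert_tree lc_e_rc_9_3 lc_e_rc_16_3 lc_e_rc_4_3 lc_e_rc_13_3 lc_e_rc_27_5 lc_e_rc_27_5 lc_e_rc_9_3 lc_e_rc_27_5 lc_e_rc_18_1 lc_e_rc_4_1 lc_e_rc_19_2 lc_e_rc_13_3 lc_e_rc_18_1 lc_e_rc_16_5 lc_e_rc_19_4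 lc_e_rc_18_1 lc_e_rc_27_5 lc_e_rc_18_1 lc_e_Cert_tree lc_e_rc_18_1 lc_e_rc_9_1 lc_e_rc_18_1) (@D3.rec (fun _ => (Cert rels S Gen.e)) lc_e_rc_19_0 lc_e_Cert_tree lc_e_rc_18_1 lc_e_rc_16_3 lc_e_rc_4_3 lc_e_rc_27_5 lc_e_rc_13_3 lc_e_rc_19_4 lc_e_rc_27_7 lc_e_rc_9_1 lc_e_rc_18_1 lc_e_rc_18_1 lc_e_rc_4_1 lc_e_rc_13_3 lc_e_rc_27_1 lc_e_rc_9_3 lc_e_rc_4_3 lc_e_rc_18_1 lc_e_Cert_tree lc_e_rc_27_1 lc_e_rc_16_1 lc_e_rc_19_4 lc_e_Cert_tree lc_e_Cert_tree lc_e_rc_13_3 lc_e_rc_27_7 lc_e_rc_9_3 lc_e_Cert_tree lc_e_rc_27_5 lc_e_rc_18_1 lc_e_rc_27_5 lc_e_Cert_tree lc_e_rc_18_1 lc_e_rc_13_1 lc_e_rc_9_3 lc_e_rc_19_2 lc_e_rc_9_3 lc_e_Cert_tree lc_e_rc_13_1 lc_e_rc_4_1 lc_e_rc_4_3 lc_e_rc_16_3 lc_e_rc_9_3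 lc_e_rc_9_3 lc_e_Cert_tree lc_e_rc_19_2 lc_e_rc_9_3 lc_e_rc_9_3 lc_e_rc_27_7 lc_e_rc_19_2 lc_e_Cert_tree lc_e_Cert_tree lc_e_rc_18_1 lc_e_Cert_tree lc_e_rc_27_1 lc_e_rc_18_1 lc_e_rc_13_3 lc_e_rc_9_1 lc_e_rc_13_3 lc_e_rc_18_1 lc_e_rc_13_3 lc_e_rc_9_3) (@D3.rec (fun _ => (Cert rels S Gen.e)) lc_e_Cert_tree lc_e_rc_27_5 lc_e_rc_4_3 lc_e_rc_13_3 lc_e_rc_16_5 lc_e_rc_19_2 lc_e_rc_18_1 lc_e_rc_16_5 lc_e_rc_27_7 lc_e_rc_9_3 lc_e_rc_13_3 lc_e_rc_9_3 lc_e_rc_27_5 lc_e_rc_9_3 lc_e_rc_19_4 lc_e_Cert_tree lc_e_rc_27_1 lc_e_rc_4_1 lc_e_rc_16_3 lc_e_rc_18_1 lc_e_rc_18_1 lc_e_rc_9_1 lc_e_rc_19_0 lc_e_rc_27_5 lc_e_rc_9_3 lc_e_rc_13_1 lc_e_rc_18_1 lc_e_rc_27_5 lc_e_rc_18_1 lc_e_rc_19_4 lc_e_rc_13_1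 lc_e_rc_4_3 lc_e_rc_27_7 lc_e_rc_18_1 lc_e_rc_4_1 lc_e_rc_18_1 lc_e_rc_4_3 lc_e_Cert_tree lc_e_rc_4_3 lc_e_rc_18_1 lc_e_rc_18_1 lc_e_rc_13_3 lc_e_rc_9_3 lc_e_rc_4_1 lc_e_rc_19_2 lc_e_rc_19_2 lc_e_rc_18_1 lc_e_rc_16_5 lc_e_rc_27_1 lc_e_Cert_tree lc_e_Cert_tree lc_e_Cert_tree lc_e_rc_9_3 lc_e_rc_18_1 lc_e_rc_9_3 lc_e_rc_13_3 lc_e_rc_9_3 lc_e_rc_13_3 lc_e_rc_4_3 lc_e_rc_9_3 lc_e_rc_27_5 lc_e_rc_9_3) (@D3.rec (fun _ => (Cert rels S Gen.e)) lc_e_Cert_tree lc_e_rc_9_3 lc_e_rc_13_3 lc_e_rc_4_3 lc_e_rc_19_2 lc_e_rc_18_1 lc_e_rc_18_1 lc_e_rc_18_1 lc_e_rc_9_3 lc_e_rc_27_5 lc_e_rc_27_5 lc_e_rc_27_5 lc_e_rc_4_1 lc_e_rc_9_3 lc_e_Cert_tree lc_e_Cert_tree lc_e_rc_27_5 lc_e_rc_18_1 lc_e_rc_9_3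 lc_e_rc_27_1 lc_e_rc_16_3 lc_e_Cert_tree lc_e_rc_13_3 lc_e_Cert_tree lc_e_rc_18_1 lc_e_Cert_tree lc_e_rc_18_1 lc_e_rc_9_1 lc_e_rc_19_0 lc_e_rc_18_1 lc_e_rc_16_1 lc_e_rc_18_1 lc_e_rc_9_3 lc_e_Cert_tree lc_e_rc_19_4 lc_e_Cert_tree lc_e_rc_18_1 lc_e_rc_9_3 lc_e_rc_4_1 lc_e_rc_4_3 lc_e_rc_4_3 lc_e_Cert_tree lc_e_rc_18_1 lc_e_Cert_tree lc_e_rc_4_3 lc_e_Cert_tree lc_e_Cert_tree lc_e_rc_18_1 lc_e_Cert_tree lc_e_rc_13_1 lc_e_rc_18_1 lc_e_Cert_tree lc_e_rc_18_1 lc_e_rc_18_1 lc_e_rc_18_1 lc_e_rc_16_1 lc_e_rc_18_1 lc_e_rc_9_1 lc_e_rc_18_1 lc_e_rc_4_3 lc_e_Cert_tree lc_e_Cert_tree) (@D3.rec (fun _ => (Cert rels S Gen.e)) lc_e_Cert_tree lc_e_rc_18_1 lc_e_rc_18_1 lc_e_rc_19_2 lc_e_rc_13_3 lc_e_Cert_tree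 lc_e_rc_18_1 lc_e_rc_13_1 lc_e_Cert_tree lc_e_Cert_tree lc_e_rc_13_1 lc_e_rc_18_1 lc_e_Cert_tree lc_e_Cert_tree lc_e_rc_13_1 lc_e_Cert_tree lc_e_rc_18_1 lc_e_Cert_tree lc_e_Cert_tree lc_e_rc_18_1 lc_e_rc_13_3 lc_e_rc_13_3 lc_e_rc_16_1 lc_e_rc_19_2 lc_e_rc_13_1 lc_e_rc_27_1 lc_e_rc_18_1 lc_e_rc_27_5 lc_e_Cert_tree lc_e_rc_4_3 lc_e_rc_18_1 lc_e_rc_13_3 lc_e_Cert_tree lc_e_rc_18_1 lc_e_rc_18_1 lc_e_rc_27_5 lc_e_rc_27_1 lc_e_rc_18_1 lc_e_rc_19_2 lc_e_rc_9_1 lc_e_rc_9_3 lc_e_rc_9_1 lc_e_rc_18_1 lc_e_rc_18_1 lc_e_rc_13_1 lc_e_rc_18_1 lc_e_rc_18_1 lc_e_rc_19_4 lc_e_rc_19_4 lc_e_rc_27_5 lc_e_rc_27_7 lc_e_rc_16_1 lc_e_Cert_tree lc_e_Cert_tree lc_e_rc_18_1 lc_e_rc_18_1 lc_e_rc_13_3 lc_e_rc_18_1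 lc_e_rc_13_3 lc_e_rc_19_4 lc_e_rc_27_7 lc_e_rc_18_1) (@D3.rec (fun _ => (Cert rels S Gen.e)) lc_e_rc_18_1 lc_e_rc_18_1 lc_e_rc_13_1 lc_e_rc_13_3 lc_e_rc_18_1 lc_e_Cert_tree lc_e_rc_18_1 lc_e_rc_16_3 lc_e_rc_9_3 lc_e_Cert_tree lc_e_rc_18_1 lc_e_rc_27_1 lc_e_rc_9_3 lc_e_Cert_tree lc_e_Cert_tree lc_e_rc_18_1 lc_e_rc_13_3 lc_e_rc_18_1 lc_e_rc_27_1 lc_e_rc_18_1 lc_e_Cert_tree lc_e_rc_18_1 lc_e_rc_4_3 lc_e_rc_19_2 lc_e_rc_18_1 lc_e_rc_27_5 lc_e_rc_27_5 lc_e_rc_9_1 lc_e_Cert_tree lc_e_rc_18_1 lc_e_rc_18_1 lc_e_Cert_tree lc_e_rc_18_1 lc_e_rc_27_5 lc_e_rc_27_5 lc_e_rc_19_2 lc_e_rc_9_3 lc_e_Cert_tree lc_e_rc_19_4 lc_e_rc_18_1 lc_e_Cert_tree lc_e_rc_9_3 lc_e_rc_18_1 lc_e_rc_13_3 lc_e_rc_18_1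 lc_e_rc_18_1 lc_e_rc_18_1 lc_e_rc_19_4 lc_e_rc_9_3 lc_e_rc_9_3 lc_e_rc_9_3 lc_e_rc_9_3 lc_e_rc_27_1 lc_e_rc_4_3 lc_e_rc_18_1 lc_e_rc_9_3 lc_e_rc_27_7 lc_e_rc_9_3 lc_e_Cert_tree lc_e_Cert_tree lc_e_rc_18_1 lc_e_rc_19_4) (@D3.rec (fun _ => (Cert rels S Gen.e)) lc_e_rc_9_3 lc_e_rc_4_3 lc_e_Cert_tree lc_e_Cert_tree lc_e_rc_18_1 lc_e_Cert_tree lc_e_rc_18_1 lc_e_rc_27_7 lc_e_rc_27_5 lc_e_Cert_tree lc_e_rc_18_1 lc_e_Cert_tree lc_e_Cert_tree lc_e_rc_18_1 lc_e_rc_18_1 lc_e_Cert_tree lc_e_Cert_tree lc_e_Cert_tree lc_e_rc_18_1 lc_e_Cert_tree lc_e_rc_18_1 lc_e_Cert_tree lc_e_rc_19_2 lc_e_Cert_tree lc_e_rc_18_1 lc_e_rc_27_5 lc_e_Cert_tree lc_e_Cert_tree lc_e_Cert_tree lc_e_rc_18_1 lc_e_rc_18_1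 lc_e_rc_13_3 lc_e_rc_18_1 lc_e_rc_16_1 lc_e_rc_19_2 lc_e_rc_4_1 lc_e_rc_27_1 lc_e_rc_13_3 lc_e_Cert_tree lc_e_rc_9_3 lc_e_rc_18_1 lc_e_Cert_tree lc_e_Cert_tree lc_e_rc_18_1 lc_e_rc_18_1 lc_e_Cert_tree lc_e_rc_16_1 lc_e_rc_19_2 lc_e_rc_18_1 lc_e_rc_18_1 lc_e_rc_18_1 lc_e_rc_13_3 lc_e_rc_9_3 lc_e_Cert_tree lc_e_Cert_tree lc_e_rc_18_1 lc_e_rc_19_2 lc_e_rc_18_1 lc_e_rc_18_1 lc_e_rc_18_1 lc_e_Cert_tree lc_e_rc_16_1) (@D3.rec (fun _ => (Cert rels S Gen.e)) lc_e_rc_13_3 lc_e_rc_16_3 lc_e_Cert_tree lc_e_rc_18_1 lc_e_rc_4_3 lc_e_rc_13_3 lc_e_Cert_tree lc_e_rc_18_1 lc_e_rc_9_3 lc_e_Cert_tree lc_e_rc_19_2 lc_e_rc_18_1 lc_e_Cert_tree lc_e_Cert_tree lc_e_rc_16_1 lc_e_rc_19_4 lc_e_rc_13_3 lc_e_rc_4_3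 lc_e_rc_13_3 lc_e_rc_18_1 lc_e_rc_18_1 lc_e_rc_18_1 lc_e_Cert_tree lc_e_rc_13_3 lc_e_rc_27_5 lc_e_rc_18_1 lc_e_rc_16_1 lc_e_rc_19_0 lc_e_rc_9_1 lc_e_rc_27_1 lc_e_Cert_tree lc_e_rc_4_1 lc_e_rc_27_1 lc_e_rc_18_1 lc_e_rc_4_3 lc_e_Cert_tree lc_e_Cert_tree lc_e_rc_4_3 lc_e_rc_18_1 lc_e_rc_27_5 lc_e_rc_18_1 lc_e_rc_18_1 lc_e_rc_16_1 lc_e_rc_4_1 lc_e_Cert_tree lc_e_rc_27_7 lc_e_rc_18_1 lc_e_Cert_tree lc_e_Cert_tree lc_e_rc_16_3 lc_e_rc_19_4 lc_e_rc_18_1 lc_e_rc_18_1 lc_e_rc_18_1 lc_e_Cert_tree lc_e_rc_16_5 lc_e_rc_13_3 lc_e_rc_18_1 lc_e_rc_27_1 lc_e_rc_9_3 lc_e_rc_16_3 lc_e_rc_19_4) (@D3.rec (fun _ => (Cert rels S Gen.e)) lc_e_rc_9_1 lc_e_rc_18_1 lc_e_rc_18_1 lc_e_rc_19_2 lc_e_Cert_tree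 lc_e_rc_18_1 lc_e_Cert_tree lc_e_Cert_tree lc_e_rc_19_4 lc_e_rc_18_1 lc_e_rc_18_1 lc_e_Cert_tree lc_e_rc_18_1 lc_e_rc_13_3 lc_e_Cert_tree lc_e_rc_19_2 lc_e_rc_19_4 lc_e_rc_18_1 lc_e_rc_13_1 lc_e_Cert_tree lc_e_rc_16_3 lc_e_rc_19_4 lc_e_rc_9_1 lc_e_rc_27_7 lc_e_rc_18_1 lc_e_rc_18_1 lc_e_rc_18_1 lc_e_Cert_tree lc_e_rc_27_5 lc_e_rc_16_1 lc_e_rc_19_4 lc_e_rc_13_3 lc_e_rc_4_1 lc_e_rc_13_3 lc_e_rc_19_4 lc_e_rc_9_3 lc_e_rc_27_1 lc_e_rc_16_5 lc_e_rc_16_5 lc_e_rc_27_5 lc_e_Cert_tree lc_e_rc_27_5 lc_e_rc_18_1 lc_e_rc_13_3 lc_e_rc_18_1 lc_e_rc_4_3 lc_e_Cert_tree lc_e_rc_18_1 lc_e_rc_18_1 lc_e_Cert_tree lc_e_rc_18_1 lc_e_Cert_tree lc_e_rc_16_1 lc_e_rc_19_4 lc_e_rc_18_1 lc_e_rc_18_1 lc_e_rc_9_3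 lc_e_rc_13_3 lc_e_rc_27_1 lc_e_rc_16_5 lc_e_rc_19_0 lc_e_rc_13_3) (@D3.rec (fun _ => (Cert rels S Gen.e)) lc_e_rc_27_1 lc_e_rc_27_7 lc_e_rc_4_3 lc_e_rc_16_3 lc_e_rc_27_7 lc_e_rc_18_1 lc_e_rc_13_3 lc_e_rc_18_1 lc_e_rc_18_1 lc_e_Cert_tree lc_e_rc_18_1 lc_e_rc_27_1 lc_e_rc_18_1 lc_e_rc_16_1 lc_e_rc_18_1 lc_e_rc_16_5 lc_e_rc_9_1 lc_e_rc_13_3 lc_e_rc_9_3 lc_e_rc_9_3 lc_e_rc_27_7 lc_e_rc_27_5 lc_e_rc_4_3 lc_e_rc_9_3 lc_e_rc_18_1 lc_e_rc_27_7 lc_e_rc_18_1 lc_e_Cert_tree lc_e_rc_13_3 lc_e_rc_4_3 lc_e_rc_13_1 lc_e_rc_18_1 lc_e_rc_19_0 lc_e_rc_13_3 lc_e_rc_13_1 lc_e_Cert_tree lc_e_rc_19_4 lc_e_rc_16_5 lc_e_rc_16_5 lc_e_rc_13_3 lc_e_Cert_tree lc_e_rc_16_3 lc_e_Cert_tree lc_e_rc_18_1 lc_e_rc_9_3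 lc_e_rc_19_2 lc_e_rc_27_5 lc_e_rc_16_3 lc_e_rc_16_3 lc_e_rc_27_5 lc_e_rc_4_3 lc_e_rc_4_3 lc_e_rc_16_1 lc_e_rc_19_4 lc_e_rc_18_1 lc_e_rc_13_3 lc_e_rc_9_3 lc_e_rc_9_3 lc_e_rc_13_3 lc_e_Cert_tree lc_e_rc_9_3 lc_e_rc_27_1) (@D3.rec (fun _ => (Cert rels S Gen.e)) lc_e_rc_9_3 lc_e_rc_4_3 lc_e_rc_16_1 lc_e_rc_4_3 lc_e_Cert_tree lc_e_rc_27_7 lc_e_rc_9_3 lc_e_rc_19_4 lc_e_rc_18_1 lc_e_rc_13_3 lc_e_rc_18_1 lc_e_rc_9_3 lc_e_Cert_tree lc_e_rc_9_3 lc_e_rc_9_3 lc_e_Cert_tree lc_e_rc_27_7 lc_e_rc_4_3 lc_e_rc_9_3 lc_e_rc_19_0 lc_e_Cert_tree lc_e_rc_9_3 lc_e_rc_13_3 lc_e_Cert_tree lc_e_rc_18_1 lc_e_rc_18_1 lc_e_rc_18_1 lc_e_rc_13_3 lc_e_Cert_tree lc_e_rc_18_1 lc_e_rc_13_1 lc_e_Cert_tree lc_e_rc_18_1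 lc_e_rc_18_1 lc_e_rc_27_1 lc_e_rc_27_5 lc_e_rc_18_1 lc_e_rc_27_7 lc_e_rc_4_3 lc_e_rc_4_1 lc_e_rc_18_1 lc_e_rc_27_1 lc_e_rc_4_3 lc_e_rc_16_1 lc_e_rc_9_3 lc_e_rc_16_1 lc_e_rc_16_1 lc_e_rc_18_1 lc_e_rc_9_3 lc_e_rc_9_3 lc_e_Cert_tree lc_e_rc_4_3 lc_e_rc_18_1 lc_e_Cert_tree lc_e_Cert_tree lc_e_rc_18_1 lc_e_rc_13_1 lc_e_rc_19_4 lc_e_rc_18_1 lc_e_rc_13_3 lc_e_rc_18_1 lc_e_rc_19_4) (@D3.rec (fun _ => (Cert rels S Gen.e)) lc_e_Cert_tree lc_e_Cert_tree lc_e_rc_18_1 lc_e_rc_18_1 lc_e_rc_18_1 lc_e_rc_4_3 lc_e_rc_13_3 lc_e_rc_27_1 lc_e_Cert_tree lc_e_rc_9_3 lc_e_rc_18_1 lc_e_rc_19_2 lc_e_rc_27_5 lc_e_Cert_tree lc_e_Cert_tree lc_e_rc_27_1 lc_e_rc_18_1 lc_e_Cert_tree lc_e_Cert_tree lc_e_Cert_tree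 lc_e_rc_18_1 lc_e_rc_16_3 lc_e_rc_9_3 lc_e_rc_9_3 lc_e_rc_13_3 lc_e_rc_19_4 lc_e_rc_9_1 lc_e_rc_16_3 lc_e_rc_18_1 lc_e_rc_18_1 lc_e_Cert_tree lc_e_rc_18_1 lc_e_rc_4_3 lc_e_rc_16_5 lc_e_rc_16_5 lc_e_rc_9_1 lc_e_rc_18_1 lc_e_rc_13_3 lc_e_rc_13_3 lc_e_Cert_tree lc_e_Cert_tree lc_e_rc_4_1 lc_e_rc_16_3 lc_e_rc_18_1 lc_e_rc_18_1 lc_e_rc_9_3 lc_e_rc_13_3 lc_e_rc_13_3 lc_e_rc_13_3 lc_e_rc_18_1 lc_e_rc_13_1 lc_e_rc_18_1 lc_e_Cert_tree lc_e_rc_9_3 lc_e_rc_18_1 lc_e_rc_18_1 lc_e_rc_27_5 lc_e_rc_13_3 lc_e_rc_16_3 lc_e_rc_9_3 lc_e_rc_4_3 lc_e_rc_9_3) (@D3.rec (fun _ => (Cert rels S Gen.e)) lc_e_rc_18_1 lc_e_Cert_tree lc_e_rc_19_4 lc_e_Cert_tree lc_e_rc_18_1 lc_e_rc_13_3 lc_e_rc_19_2 lc_e_Cert_tree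 lc_e_rc_18_1 lc_e_rc_27_1 lc_e_Cert_tree lc_e_Cert_tree lc_e_rc_18_1 lc_e_rc_4_3 lc_e_Cert_tree lc_e_rc_18_1 lc_e_rc_19_0 lc_e_rc_27_1 lc_e_rc_9_3 lc_e_rc_13_3 lc_e_Cert_tree lc_e_Cert_tree lc_e_rc_18_1 lc_e_Cert_tree lc_e_rc_9_3 lc_e_rc_27_5 lc_e_Cert_tree lc_e_rc_27_1 lc_e_rc_4_1 lc_e_rc_4_3 lc_e_rc_16_5 lc_e_rc_9_3 lc_e_rc_13_1 lc_e_rc_9_3 lc_e_rc_13_3 lc_e_rc_18_1 lc_e_rc_13_3 lc_e_rc_18_1 lc_e_rc_9_3 lc_e_rc_9_1 lc_e_Cert_tree lc_e_Cert_tree lc_e_rc_18_1 lc_e_rc_13_3 lc_e_Cert_tree lc_e_rc_18_1 lc_e_rc_9_1 lc_e_rc_18_1 lc_e_rc_18_1 lc_e_rc_18_1 lc_e_rc_18_1 lc_e_Cert_tree lc_e_rc_13_3 lc_e_rc_19_4 lc_e_Cert_tree lc_e_rc_18_1 lc_e_rc_18_1 lc_e_rc_18_1 lc_e_rc_13_3 lc_e_rc_18_1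 lc_e_rc_9_3 lc_e_rc_19_4) (@D3.rec (fun _ => (Cert rels S Gen.e)) lc_e_rc_18_1 lc_e_rc_18_1 lc_e_rc_18_1 lc_e_rc_18_1 lc_e_rc_4_3 lc_e_Cert_tree lc_e_rc_16_1 lc_e_rc_19_4 lc_e_rc_18_1 lc_e_rc_16_1 lc_e_rc_4_3 lc_e_rc_13_1 lc_e_Cert_tree lc_e_rc_18_1 lc_e_rc_4_3 lc_e_rc_18_1 lc_e_rc_19_2 lc_e_rc_18_1 lc_e_rc_19_4 lc_e_rc_18_1 lc_e_rc_16_1 lc_e_rc_4_3 lc_e_rc_18_1 lc_e_rc_13_3 lc_e_rc_16_3 lc_e_rc_19_4 lc_e_rc_9_3 lc_e_rc_9_1 lc_e_Cert_tree lc_e_rc_9_3 lc_e_rc_9_3 lc_e_rc_18_1 lc_e_rc_16_5 lc_e_rc_27_5 lc_e_rc_18_1 lc_e_Cert_tree lc_e_rc_18_1 lc_e_rc_9_3 lc_e_rc_4_3 lc_e_rc_4_3 lc_e_rc_4_3 lc_e_rc_9_3 lc_e_rc_27_5 lc_e_rc_18_1 lc_e_rc_16_1 lc_e_rc_13_3 lc_e_rc_9_3 lc_e_rc_13_3 lc_e_rc_9_3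 lc_e_rc_4_3 lc_e_rc_18_1 lc_e_rc_16_1 lc_e_rc_13_1 lc_e_rc_4_1 lc_e_rc_18_1 lc_e_rc_18_1 lc_e_Cert_tree lc_e_Cert_tree lc_e_rc_16_1 lc_e_rc_19_4 lc_e_Cert_tree lc_e_Cert_tree) (@D3.rec (fun _ => (Cert rels S Gen.e)) lc_e_rc_18_1 lc_e_rc_27_7 lc_e_rc_18_1 lc_e_rc_18_1 lc_e_Cert_tree lc_e_Cert_tree lc_e_rc_18_1 lc_e_rc_27_5 lc_e_rc_9_3 lc_e_rc_18_1 lc_e_rc_13_3 lc_e_rc_16_3 lc_e_rc_19_2 lc_e_rc_4_3 lc_e_rc_16_1 lc_e_rc_27_7 lc_e_Cert_tree lc_e_Cert_tree lc_e_rc_18_1 lc_e_Cert_tree lc_e_rc_13_1 lc_e_rc_19_4 lc_e_rc_18_1 lc_e_Cert_tree lc_e_rc_18_1 lc_e_rc_13_1 lc_e_rc_16_5 lc_e_rc_13_3 lc_e_rc_9_1 lc_e_rc_19_2 lc_e_Cert_tree lc_e_Cert_tree lc_e_rc_18_1 lc_e_Cert_tree lc_e_rc_16_3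 lc_e_Cert_tree lc_e_rc_18_1 lc_e_rc_4_3 lc_e_rc_16_1 lc_e_rc_4_3 lc_e_rc_9_3 lc_e_rc_19_0 lc_e_rc_19_0 lc_e_rc_4_1 lc_e_rc_18_1 lc_e_rc_27_5 lc_e_rc_27_1 lc_e_rc_9_1 lc_e_rc_18_1 lc_e_rc_19_2 lc_e_rc_9_3 lc_e_rc_27_1 lc_e_rc_4_1 lc_e_rc_4_3 lc_e_rc_13_1 lc_e_rc_27_5 lc_e_rc_19_2 lc_e_Cert_tree lc_e_rc_18_1 lc_e_rc_27_5 lc_e_rc_13_1 lc_e_rc_27_1) (@D3.rec (fun _ => (Cert rels S Gen.e)) lc_e_rc_9_3 lc_e_rc_9_1 lc_e_rc_13_1 lc_e_rc_27_5 lc_e_rc_18_1 lc_e_rc_27_5 lc_e_Cert_tree lc_e_rc_13_3 lc_e_rc_27_5 lc_e_rc_9_3 lc_e_rc_19_4 lc_e_rc_27_1 lc_e_rc_18_1 lc_e_rc_18_1 lc_e_rc_18_1 lc_e_rc_9_3 lc_e_rc_19_4 lc_e_rc_18_1 lc_e_rc_4_3 lc_e_rc_18_1 lc_e_rc_18_1 lc_e_rc_27_1 lc_e_rc_27_5 lc_e_rc_18_1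 lc_e_rc_18_1 lc_e_rc_9_3 lc_e_rc_4_3 lc_e_rc_27_5 lc_e_rc_19_2 lc_e_rc_18_1 lc_e_rc_18_1 lc_e_rc_13_3 lc_e_rc_9_3 lc_e_rc_27_5 lc_e_rc_9_3 lc_e_rc_27_7 lc_e_rc_9_3 lc_e_rc_13_3 lc_e_rc_19_4 lc_e_rc_13_3 lc_e_rc_9_3 lc_e_Cert_tree lc_e_rc_9_3 lc_e_Cert_tree lc_e_rc_27_5 lc_e_rc_4_3 lc_e_rc_13_3 lc_e_rc_27_5 lc_e_Cert_tree lc_e_rc_18_1 lc_e_rc_9_3 lc_e_Cert_tree lc_e_rc_18_1 lc_e_rc_18_1 lc_e_Cert_tree lc_e_rc_18_1 lc_e_rc_13_3 lc_e_rc_18_1 lc_e_Cert_tree lc_e_rc_18_1 lc_e_rc_16_3 lc_e_rc_13_1) (@D3.rec (fun _ => (Cert rels S Gen.e)) lc_e_rc_27_5 lc_e_rc_13_3 lc_e_rc_9_3 lc_e_Cert_tree lc_e_rc_27_1 lc_e_rc_18_1 lc_e_rc_18_1 lc_e_Cert_tree lc_e_rc_9_3 lc_e_rc_18_1 lc_e_rc_18_1 lc_e_rc_9_3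 lc_e_rc_19_4 lc_e_rc_16_5 lc_e_rc_18_1 lc_e_rc_27_5 lc_e_rc_16_3 lc_e_rc_18_1 lc_e_rc_18_1 lc_e_Cert_tree lc_e_rc_18_1 lc_e_rc_4_1 lc_e_rc_9_3 lc_e_Cert_tree lc_e_rc_19_4 lc_e_rc_9_3 lc_e_rc_9_3 lc_e_Cert_tree lc_e_Cert_tree lc_e_rc_18_1 lc_e_Cert_tree lc_e_rc_18_1 lc_e_Cert_tree lc_e_rc_27_7 lc_e_rc_18_1 lc_e_Cert_tree lc_e_Cert_tree lc_e_rc_16_1 lc_e_rc_16_1 lc_e_rc_4_3 lc_e_rc_18_1 lc_e_rc_27_5 lc_e_rc_4_3 lc_e_rc_4_3 lc_e_Cert_tree lc_e_Cert_tree lc_e_rc_18_1 lc_e_Cert_tree lc_e_rc_16_3 lc_e_Cert_tree lc_e_Cert_tree lc_e_rc_27_1 lc_e_rc_18_1 lc_e_Cert_tree lc_e_Cert_tree lc_e_rc_27_7 lc_e_rc_18_1 lc_e_rc_16_1 lc_e_rc_13_3 lc_e_rc_19_2 lc_e_rc_4_3 lc_e_rc_4_1) (@D3.rec (fun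 _ => (Cert rels S Gen.e)) lc_e_Cert_tree lc_e_rc_18_1 lc_e_Cert_tree lc_e_rc_18_1 lc_e_rc_16_1 lc_e_rc_13_1 lc_e_rc_13_3 lc_e_rc_16_3 lc_e_rc_18_1 lc_e_rc_27_5 lc_e_rc_27_5 lc_e_rc_27_7 lc_e_Cert_tree lc_e_rc_13_3 lc_e_rc_9_3 lc_e_Cert_tree lc_e_Cert_tree lc_e_rc_18_1 lc_e_rc_16_3 lc_e_Cert_tree lc_e_rc_18_1 lc_e_rc_27_1 lc_e_rc_9_1 lc_e_rc_27_1 lc_e_rc_18_1 lc_e_rc_13_3 lc_e_rc_19_2 lc_e_rc_16_5 lc_e_rc_9_3 lc_e_rc_27_5 lc_e_rc_13_3 lc_e_rc_19_2 lc_e_rc_16_5 lc_e_Cert_tree lc_e_Cert_tree lc_e_Cert_tree lc_e_rc_18_1 lc_e_rc_4_3 lc_e_rc_13_3 lc_e_rc_27_7 lc_e_rc_27_1 lc_e_rc_19_2 lc_e_rc_27_5 lc_e_Cert_tree lc_e_rc_4_3 lc_e_rc_18_1 lc_e_rc_27_5 lc_e_rc_16_3 lc_e_Cert_tree lc_e_rc_18_1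 lc_e_rc_13_1 lc_e_rc_9_1 lc_e_rc_18_1 lc_e_rc_18_1 lc_e_rc_27_7 lc_e_rc_27_7 lc_e_rc_18_1 lc_e_rc_4_1 lc_e_Cert_tree lc_e_rc_13_3 lc_e_rc_9_3 lc_e_Cert_tree) (@D3.rec (fun _ => (Cert rels S Gen.e)) lc_e_Cert_tree lc_e_rc_18_1 lc_e_rc_18_1 lc_e_rc_16_1 lc_e_rc_13_3 lc_e_rc_9_3 lc_e_Cert_tree lc_e_rc_13_1 lc_e_rc_18_1 lc_e_rc_18_1 lc_e_rc_19_4 lc_e_rc_19_4 lc_e_rc_13_3 lc_e_Cert_tree lc_e_rc_13_3 lc_e_rc_27_5 lc_e_rc_13_1 lc_e_rc_9_3 lc_e_rc_9_3 lc_e_rc_9_3 lc_e_rc_27_5 lc_e_rc_27_1 lc_e_Cert_tree lc_e_Cert_tree lc_e_rc_18_1 lc_e_rc_16_5 lc_e_rc_27_5 lc_e_Cert_tree lc_e_Cert_tree lc_e_rc_4_3 lc_e_rc_9_3 lc_e_Cert_tree lc_e_Cert_tree lc_e_rc_4_3 lc_e_rc_18_1 lc_e_Cert_tree lc_e_rc_18_1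 lc_e_rc_18_1 lc_e_rc_4_1 lc_e_rc_19_4 lc_e_rc_13_3 lc_e_Cert_tree lc_e_rc_18_1 lc_e_rc_9_3 lc_e_rc_27_5 lc_e_Cert_tree lc_e_rc_27_5 lc_e_rc_18_1 lc_e_rc_9_1 lc_e_rc_19_4 lc_e_rc_13_3 lc_e_rc_16_3 lc_e_rc_18_1 lc_e_rc_18_1 lc_e_rc_18_1 lc_e_rc_4_3 lc_e_rc_18_1 lc_e_Cert_tree lc_e_rc_27_5 lc_e_rc_16_3 lc_e_rc_18_1 lc_e_Cert_tree) (@D3.rec (fun _ => (Cert rels S Gen.e)) lc_e_rc_16_1 lc_e_rc_4_1 lc_e_rc_9_3 lc_e_Cert_tree lc_e_rc_19_4 lc_e_rc_13_3 lc_e_rc_16_3 lc_e_Cert_tree lc_e_Cert_tree lc_e_rc_19_0 lc_e_rc_18_1 lc_e_rc_16_3 lc_e_rc_18_1 lc_e_Cert_tree lc_e_Cert_tree lc_e_rc_18_1 lc_e_Cert_tree lc_e_Cert_tree lc_e_rc_18_1 lc_e_Cert_tree lc_e_rc_13_3 lc_e_rc_16_3 lc_e_rc_19_4 lc_e_Cert_tree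 lc_e_Cert_tree lc_e_rc_19_4 lc_e_Cert_tree lc_e_rc_16_1 lc_e_rc_13_3 lc_e_rc_9_3 lc_e_rc_9_3 lc_e_rc_27_5 lc_e_rc_4_1 lc_e_rc_4_3 lc_e_rc_9_3 lc_e_rc_4_3 lc_e_Cert_tree lc_e_rc_18_1 lc_e_rc_18_1 lc_e_rc_18_1 lc_e_rc_18_1 lc_e_rc_18_1 lc_e_rc_9_1 lc_e_Cert_tree lc_e_Cert_tree lc_e_Cert_tree lc_e_rc_16_1 lc_e_rc_19_2 lc_e_rc_19_2 lc_e_Cert_tree lc_e_rc_18_1 lc_e_Cert_tree lc_e_rc_18_1 lc_e_rc_18_1 lc_e_Cert_tree lc_e_Cert_tree lc_e_rc_16_3 lc_e_rc_13_3 lc_e_rc_19_2 lc_e_rc_27_1 lc_e_rc_18_1 lc_e_Cert_tree) (@D3.rec (fun _ => (Cert rels S Gen.e)) lc_e_Cert_tree lc_e_rc_18_1 lc_e_rc_13_3 lc_e_rc_16_1 lc_e_Cert_tree lc_e_rc_16_1 lc_e_rc_19_4 lc_e_rc_18_1 lc_e_rc_13_1 lc_e_Cert_tree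 lc_e_rc_19_4 lc_e_Cert_tree lc_e_rc_18_1 lc_e_Cert_tree lc_e_rc_18_1 lc_e_rc_4_3 lc_e_Cert_tree lc_e_rc_4_3 lc_e_rc_18_1 lc_e_rc_13_3 lc_e_Cert_tree lc_e_rc_18_1 lc_e_rc_16_3 lc_e_rc_19_4 lc_e_rc_18_1 lc_e_Cert_tree lc_e_rc_16_3 lc_e_rc_4_1 lc_e_rc_27_1 lc_e_rc_18_1 lc_e_rc_4_1 lc_e_rc_13_3 lc_e_rc_18_1 lc_e_rc_27_1 lc_e_rc_16_3 lc_e_rc_13_3 lc_e_rc_19_4 lc_e_rc_16_3 lc_e_rc_27_5 lc_e_rc_18_1 lc_e_rc_13_3 lc_e_rc_4_3 lc_e_Cert_tree lc_e_rc_18_1 lc_e_Cert_tree lc_e_rc_18_1 lc_e_rc_13_1 lc_e_Cert_tree lc_e_Cert_tree lc_e_rc_18_1 lc_e_rc_9_3 lc_e_Cert_tree lc_e_rc_13_3 lc_e_rc_9_3 lc_e_Cert_tree lc_e_rc_13_3 lc_e_Cert_tree lc_e_rc_16_3 lc_e_rc_18_1 lc_e_Cert_tree lc_e_rc_18_1 lc_e_rc_27_1)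 (@D3.rec (fun _ => (Cert rels S Gen.e)) lc_e_rc_9_3 lc_e_rc_16_5 lc_e_rc_18_1 lc_e_rc_4_1 lc_e_rc_18_1 lc_e_rc_18_1 lc_e_rc_27_7 lc_e_rc_19_2 lc_e_rc_18_1 lc_e_rc_9_1 lc_e_rc_18_1 lc_e_rc_18_1 lc_e_rc_18_1 lc_e_rc_9_3 lc_e_rc_9_3 lc_e_rc_19_4 lc_e_rc_18_1 lc_e_rc_19_0 lc_e_rc_18_1 lc_e_rc_9_3 lc_e_rc_27_5 lc_e_Cert_tree lc_e_rc_18_1 lc_e_rc_27_5 lc_e_rc_13_1 lc_e_rc_27_7 lc_e_rc_19_4 lc_e_Cert_tree lc_e_rc_27_1 lc_e_Cert_tree lc_e_rc_18_1 lc_e_rc_18_1 lc_e_rc_18_1 lc_e_rc_18_1 lc_e_Cert_tree lc_e_rc_9_1 lc_e_rc_16_1 lc_e_rc_19_4 lc_e_rc_16_1 lc_e_rc_19_4 lc_e_rc_9_1 lc_e_rc_16_3 lc_e_Cert_tree lc_e_rc_9_3 lc_e_rc_13_3 lc_e_Cert_tree lc_e_rc_9_3 lc_e_rc_27_1 lc_e_rc_13_3 lc_e_rc_13_3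 lc_e_rc_13_3 lc_e_Cert_tree lc_e_rc_27_1 lc_e_rc_27_5 lc_e_rc_18_1 lc_e_rc_18_1 lc_e_rc_16_3 lc_e_rc_19_4 lc_e_rc_16_1 lc_e_rc_19_4 lc_e_rc_13_1 lc_e_Cert_tree) (@D3.rec (fun _ => (Cert rels S Gen.e)) lc_e_Cert_tree lc_e_rc_16_3 lc_e_rc_13_3 lc_e_Cert_tree lc_e_rc_13_3 lc_e_rc_27_7 lc_e_rc_13_3 lc_e_rc_18_1 lc_e_Cert_tree lc_e_rc_27_7 lc_e_rc_19_2 lc_e_rc_4_3 lc_e_rc_9_3 lc_e_Cert_tree lc_e_rc_18_1 lc_e_rc_18_1 lc_e_rc_18_1 lc_e_rc_9_3 lc_e_rc_13_1 lc_e_rc_4_1 lc_e_rc_13_1 lc_e_rc_13_1 lc_e_rc_16_1 lc_e_rc_19_4 lc_e_rc_27_7 lc_e_Cert_tree lc_e_rc_13_3 lc_e_rc_18_1 lc_e_rc_27_7 lc_e_rc_18_1 lc_e_Cert_tree lc_e_rc_16_3 lc_e_rc_19_2 lc_e_Cert_tree lc_e_Cert_tree lc_e_rc_18_1 lc_e_Cert_tree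 lc_e_rc_18_1 lc_e_rc_18_1 lc_e_Cert_tree lc_e_rc_16_1 lc_e_rc_19_4 lc_e_rc_18_1 lc_e_rc_18_1 lc_e_Cert_tree lc_e_rc_16_1 lc_e_rc_19_4 lc_e_rc_27_7 lc_e_rc_18_1 lc_e_rc_18_1 lc_e_rc_16_1 lc_e_rc_19_4 lc_e_Cert_tree lc_e_Cert_tree lc_e_rc_27_7 lc_e_rc_18_1 lc_e_rc_27_5 lc_e_Cert_tree lc_e_Cert_tree lc_e_rc_18_1 lc_e_rc_19_2 lc_e_Cert_tree) (@D3.rec (fun _ => (Cert rels S Gen.e)) lc_e_rc_16_5 lc_e_rc_9_3 lc_e_Cert_tree lc_e_rc_18_1 lc_e_rc_9_3 lc_e_rc_18_1 lc_e_rc_13_3 lc_e_Cert_tree lc_e_rc_27_1 lc_e_rc_9_1 lc_e_rc_27_7 lc_e_rc_9_3 lc_e_rc_13_1 lc_e_Cert_tree lc_e_rc_18_1 lc_e_rc_18_1 lc_e_rc_16_1 lc_e_rc_13_3 lc_e_Cert_tree lc_e_rc_18_1 lc_e_rc_16_3 lc_e_rc_27_5 lc_e_rc_13_3 lc_e_rc_18_1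 lc_e_rc_13_1 lc_e_Cert_tree lc_e_rc_4_1 lc_e_rc_4_1 lc_e_rc_27_7 lc_e_rc_13_1 lc_e_rc_18_1 lc_e_rc_9_3 lc_e_rc_19_2 lc_e_rc_4_1 lc_e_rc_9_3 lc_e_rc_18_1 lc_e_rc_13_3 lc_e_rc_27_5 lc_e_rc_27_1 lc_e_rc_16_3 lc_e_rc_18_1 lc_e_rc_16_1 lc_e_rc_18_1 lc_e_rc_18_1 lc_e_rc_18_1 lc_e_rc_18_1 lc_e_rc_9_3 lc_e_rc_13_1 lc_e_rc_18_1 lc_e_Cert_tree lc_e_rc_16_1 lc_e_rc_4_1 lc_e_rc_9_3 lc_e_Cert_tree lc_e_rc_19_4 lc_e_rc_18_1 lc_e_Cert_tree lc_e_rc_18_1 lc_e_rc_27_7 lc_e_rc_27_7 lc_e_Cert_tree lc_e_rc_18_1) (@D3.rec (fun _ => (Cert rels S Gen.e)) lc_e_rc_13_3 lc_e_rc_13_3 lc_e_rc_9_3 lc_e_Cert_tree lc_e_rc_27_1 lc_e_rc_13_3 lc_e_Cert_tree lc_e_rc_27_5 lc_e_rc_9_1 lc_e_rc_18_1 lc_e_rc_13_3 lc_e_rc_18_1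 lc_e_rc_16_5 lc_e_rc_16_3 lc_e_rc_13_3 lc_e_Cert_tree lc_e_rc_18_1 lc_e_rc_16_3 lc_e_rc_18_1 lc_e_rc_9_3 lc_e_rc_16_3 lc_e_rc_19_4 lc_e_rc_16_1 lc_e_rc_19_4 lc_e_rc_9_3 lc_e_rc_27_1 lc_e_rc_16_5 lc_e_rc_4_3 lc_e_rc_19_2 lc_e_rc_13_1 lc_e_rc_27_7 lc_e_rc_27_1 lc_e_rc_18_1 lc_e_rc_19_4 lc_e_rc_18_1 lc_e_Cert_tree lc_e_Cert_tree lc_e_rc_16_3 lc_e_rc_19_2 lc_e_Cert_tree lc_e_Cert_tree lc_e_rc_18_1 lc_e_Cert_tree lc_e_rc_18_1 lc_e_rc_9_3 lc_e_rc_13_3 lc_e_Cert_tree lc_e_rc_13_1 lc_e_rc_16_3 lc_e_rc_27_7 lc_e_rc_18_1 lc_e_rc_4_1 lc_e_rc_4_3 lc_e_rc_19_2 lc_e_rc_16_1 lc_e_Cert_tree lc_e_rc_18_1 lc_e_rc_16_1 lc_e_Cert_tree lc_e_rc_18_1 lc_e_rc_27_5 lc_e_Cert_tree) (@D3.rec (fun _ => (Cert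 rels S Gen.e)) lc_e_rc_18_1 lc_e_rc_18_1 lc_e_rc_9_3 lc_e_rc_9_1 lc_e_Cert_tree lc_e_Cert_tree lc_e_rc_18_1 lc_e_rc_9_3 lc_e_rc_18_1 lc_e_rc_13_3 lc_e_rc_4_3 lc_e_rc_13_3 lc_e_rc_13_3 lc_e_rc_13_3 lc_e_Cert_tree lc_e_rc_18_1 lc_e_Cert_tree lc_e_rc_18_1 lc_e_rc_19_4 lc_e_rc_16_5 lc_e_rc_18_1 lc_e_rc_9_3 lc_e_Cert_tree lc_e_rc_13_3 lc_e_Cert_tree lc_e_rc_9_3 lc_e_Cert_tree lc_e_rc_27_1 lc_e_rc_27_7 lc_e_rc_4_3 lc_e_Cert_tree lc_e_rc_18_1 lc_e_rc_16_3 lc_e_Cert_tree lc_e_Cert_tree lc_e_rc_18_1 lc_e_Cert_tree lc_e_Cert_tree lc_e_rc_18_1 lc_e_rc_16_3 lc_e_rc_18_1 lc_e_rc_27_5 lc_e_rc_18_1 lc_e_rc_18_1 lc_e_rc_18_1 lc_e_rc_9_3 lc_e_rc_13_3 lc_e_rc_27_5 lc_e_rc_13_1 lc_e_rc_16_1 lc_e_rc_19_4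 lc_e_rc_4_3 lc_e_rc_4_3 lc_e_rc_18_1 lc_e_rc_16_3 lc_e_rc_4_3 lc_e_rc_16_3 lc_e_rc_19_2 lc_e_rc_18_1 lc_e_rc_4_3 lc_e_rc_9_3 lc_e_rc_16_1) (@D3.rec (fun _ => (Cert rels S Gen.e)) lc_e_rc_19_4 lc_e_rc_18_1 lc_e_rc_4_3 lc_e_Cert_tree lc_e_rc_16_1 lc_e_rc_9_1 lc_e_rc_9_3 lc_e_rc_13_3 lc_e_rc_16_3 lc_e_rc_13_1 lc_e_Cert_tree lc_e_rc_18_1 lc_e_rc_13_3 lc_e_Cert_tree lc_e_rc_13_1 lc_e_Cert_tree lc_e_rc_13_1 lc_e_rc_18_1 lc_e_rc_18_1 lc_e_Cert_tree lc_e_Cert_tree lc_e_rc_18_1 lc_e_Cert_tree lc_e_Cert_tree lc_e_rc_13_3 lc_e_Cert_tree lc_e_rc_9_3 lc_e_Cert_tree lc_e_Cert_tree lc_e_Cert_tree lc_e_Cert_tree lc_e_rc_18_1 lc_e_rc_4_3 lc_e_rc_18_1 lc_e_rc_16_3 lc_e_Cert_tree lc_e_rc_27_7 lc_e_rc_18_1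 lc_e_rc_4_3 lc_e_Cert_tree lc_e_rc_18_1 lc_e_rc_4_3 lc_e_rc_19_4 lc_e_rc_9_3 lc_e_Cert_tree lc_e_rc_27_5 lc_e_rc_18_1 lc_e_rc_16_3 lc_e_rc_19_4 lc_e_Cert_tree lc_e_rc_18_1 lc_e_rc_13_3 lc_e_rc_18_1 lc_e_rc_9_3 lc_e_Cert_tree lc_e_rc_18_1 lc_e_rc_9_3 lc_e_Cert_tree lc_e_Cert_tree lc_e_rc_13_3 lc_e_rc_9_3 lc_e_Cert_tree) (@D3.rec (fun _ => (Cert rels S Gen.e)) lc_e_rc_9_3 lc_e_Cert_tree lc_e_rc_9_3 lc_e_Cert_tree lc_e_rc_13_3 lc_e_rc_4_3 lc_e_Cert_tree lc_e_Cert_tree lc_e_Cert_tree lc_e_Cert_tree lc_e_rc_18_1 lc_e_Cert_tree lc_e_rc_18_1 lc_e_rc_18_1 lc_e_rc_18_1 lc_e_rc_18_1 lc_e_rc_16_1 lc_e_rc_19_2 lc_e_rc_27_7 lc_e_rc_18_1 lc_e_rc_16_3 lc_e_rc_9_1 lc_e_rc_16_5 lc_e_rc_19_2 lc_e_rc_16_3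 lc_e_Cert_tree lc_e_rc_18_1 lc_e_rc_9_1 lc_e_rc_16_1 lc_e_rc_19_4 lc_e_Cert_tree lc_e_Cert_tree lc_e_rc_18_1 lc_e_rc_18_1 lc_e_rc_13_3 lc_e_Cert_tree lc_e_rc_16_3 lc_e_rc_18_1 lc_e_rc_9_3 lc_e_Cert_tree lc_e_rc_13_1 lc_e_rc_4_3 lc_e_rc_19_4 lc_e_rc_27_7 lc_e_rc_18_1 lc_e_rc_13_3 lc_e_rc_9_3 lc_e_rc_18_1 lc_e_rc_13_3 lc_e_rc_4_3 lc_e_rc_16_3 lc_e_rc_27_5 lc_e_rc_9_1 lc_e_Cert_tree lc_e_Cert_tree lc_e_rc_18_1 lc_e_rc_13_1 lc_e_rc_18_1 lc_e_rc_9_3 lc_e_rc_16_1 lc_e_rc_13_1 lc_e_rc_9_3) (@D3.rec (fun _ => (Cert rels S Gen.e)) lc_e_rc_16_3 lc_e_rc_9_3 lc_e_rc_16_5 lc_e_rc_27_5 lc_e_rc_16_5 lc_e_Cert_tree lc_e_rc_13_3 lc_e_rc_27_7 lc_e_rc_18_1 lc_e_rc_16_5 lc_e_Cert_tree lc_e_rc_13_3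 lc_e_rc_9_3 lc_e_rc_18_1 lc_e_rc_13_3 lc_e_rc_18_1 lc_e_rc_9_3 lc_e_Cert_tree lc_e_rc_9_1 lc_e_Cert_tree lc_e_Cert_tree lc_e_rc_18_1 lc_e_rc_27_1 lc_e_rc_18_1 lc_e_rc_18_1 lc_e_Cert_tree lc_e_rc_18_1 lc_e_rc_13_3 lc_e_rc_27_5 lc_e_Cert_tree lc_e_rc_19_4 lc_e_rc_18_1 lc_e_Cert_tree lc_e_rc_16_1 lc_e_rc_19_4 lc_e_rc_18_1 lc_e_rc_13_3 lc_e_rc_16_5 lc_e_rc_13_3 lc_e_rc_18_1 lc_e_rc_19_2 lc_e_rc_16_3 lc_e_rc_19_4 lc_e_rc_19_4 lc_e_rc_16_1 lc_e_rc_19_4 lc_e_rc_13_3 lc_e_rc_18_1 lc_e_Cert_tree lc_e_rc_13_3 lc_e_Cert_tree lc_e_rc_9_3 lc_e_rc_13_3 lc_e_rc_16_1 lc_e_rc_19_4 lc_e_rc_4_3 lc_e_Cert_tree lc_e_rc_18_1 lc_e_rc_19_4 lc_e_Cert_tree lc_e_rc_9_3 lc_e_rc_18_1) (@D3.rec (fun _ => (Cert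 rels S Gen.e)) lc_e_Cert_tree lc_e_rc_9_3 lc_e_rc_4_1 lc_e_rc_4_1 lc_e_rc_9_3 lc_e_rc_18_1 lc_e_rc_18_1 lc_e_Cert_tree lc_e_rc_16_3 lc_e_Cert_tree lc_e_rc_19_4 lc_e_rc_16_1 lc_e_rc_9_3 lc_e_rc_18_1 lc_e_rc_9_3 lc_e_rc_16_3 lc_e_rc_19_4 lc_e_rc_13_3 lc_e_rc_18_1 lc_e_rc_4_3 lc_e_rc_9_3 lc_e_Cert_tree lc_e_rc_18_1 lc_e_rc_9_3 lc_e_Cert_tree lc_e_rc_13_3 lc_e_rc_4_1 lc_e_rc_13_3 lc_e_rc_16_5 lc_e_rc_4_1 lc_e_rc_18_1 lc_e_Cert_tree lc_e_Cert_tree lc_e_rc_16_5 lc_e_rc_18_1 lc_e_rc_13_3 lc_e_Cert_tree lc_e_Cert_tree lc_e_rc_4_3 lc_e_rc_18_1 lc_e_Cert_tree lc_e_rc_18_1 lc_e_rc_4_3 lc_e_rc_18_1 lc_e_rc_13_3 lc_e_rc_16_1 lc_e_rc_27_7 lc_e_rc_27_7 lc_e_rc_19_2 lc_e_Cert_tree lc_e_rc_18_1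 lc_e_rc_16_3 lc_e_rc_27_1 lc_e_rc_27_5 lc_e_rc_18_1 lc_e_Cert_tree lc_e_rc_13_3 lc_e_rc_9_3 lc_e_rc_16_3 lc_e_Cert_tree lc_e_rc_18_1 lc_e_rc_18_1) (@D3.rec (fun _ => (Cert rels S Gen.e)) lc_e_rc_13_3 lc_e_rc_13_1 lc_e_rc_16_3 lc_e_rc_27_5 lc_e_rc_27_1 lc_e_rc_27_5 lc_e_rc_18_1 lc_e_rc_16_1 lc_e_rc_27_5 lc_e_rc_13_3 lc_e_Cert_tree lc_e_Cert_tree lc_e_rc_18_1 lc_e_rc_4_3 lc_e_rc_16_5 lc_e_rc_13_3 lc_e_rc_19_4 lc_e_rc_9_3 lc_e_rc_27_7 lc_e_rc_18_1 lc_e_rc_18_1 lc_e_rc_27_5 lc_e_rc_16_3 lc_e_rc_19_4 lc_e_Cert_tree lc_e_rc_4_1 lc_e_Cert_tree lc_e_rc_18_1 lc_e_Cert_tree lc_e_Cert_tree lc_e_rc_13_3 lc_e_Cert_tree lc_e_rc_4_3 lc_e_Cert_tree lc_e_Cert_tree lc_e_rc_27_7 lc_e_Cert_tree lc_e_rc_13_1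 lc_e_rc_18_1 lc_e_rc_9_3 lc_e_rc_4_3 lc_e_rc_9_3 lc_e_rc_27_7 lc_e_rc_18_1 lc_e_rc_19_4 lc_e_rc_18_1 lc_e_rc_16_5 lc_e_rc_16_5 lc_e_rc_9_3 lc_e_rc_16_3 lc_e_Cert_tree lc_e_rc_18_1 lc_e_rc_16_3 lc_e_rc_13_3 lc_e_Cert_tree lc_e_Cert_tree lc_e_rc_18_1 lc_e_rc_16_5 lc_e_Cert_tree lc_e_rc_13_3 lc_e_rc_19_0 lc_e_rc_13_1) (@D3.rec (fun _ => (Cert rels S Gen.e)) lc_e_rc_9_3 lc_e_rc_16_5 lc_e_rc_4_3 lc_e_Cert_tree lc_e_rc_16_5 lc_e_rc_27_5 lc_e_rc_27_7 lc_e_rc_18_1 lc_e_Cert_tree lc_e_Cert_tree lc_e_rc_18_1 lc_e_rc_13_1 lc_e_rc_13_1 lc_e_rc_18_1 lc_e_rc_27_7 lc_e_Cert_tree lc_e_Cert_tree lc_e_rc_19_4 lc_e_rc_9_3 lc_e_rc_16_5 lc_e_rc_18_1 lc_e_Cert_tree lc_e_rc_18_1 lc_e_Cert_tree lc_e_rc_18_1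 lc_e_rc_16_1 lc_e_rc_9_1 lc_e_rc_13_3 lc_e_rc_13_3 lc_e_rc_19_0 lc_e_rc_18_1 lc_e_Cert_tree lc_e_rc_13_1 lc_e_rc_18_1 lc_e_rc_13_3 lc_e_Cert_tree lc_e_rc_18_1 lc_e_rc_19_2 lc_e_rc_27_1 lc_e_rc_9_3 lc_e_rc_16_3 lc_e_Cert_tree lc_e_rc_18_1 lc_e_rc_9_3 lc_e_rc_9_3 lc_e_rc_18_1 lc_e_Cert_tree lc_e_rc_27_5 lc_e_rc_16_3 lc_e_rc_27_1 lc_e_Cert_tree lc_e_rc_18_1 lc_e_Cert_tree lc_e_rc_18_1 lc_e_Cert_tree lc_e_rc_18_1 lc_e_rc_27_7 lc_e_Cert_tree lc_e_rc_18_1 lc_e_rc_9_3 lc_e_rc_27_1 lc_e_rc_13_3) (@D3.rec (fun _ => (Cert rels S Gen.e)) lc_e_rc_13_3 lc_e_rc_19_2 lc_e_rc_27_5 lc_e_Cert_tree lc_e_rc_18_1 lc_e_rc_9_1 lc_e_rc_19_2 lc_e_rc_16_5 lc_e_rc_16_1 lc_e_rc_16_5 lc_e_rc_18_1 lc_e_rc_27_5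 lc_e_Cert_tree lc_e_rc_18_1 lc_e_rc_27_7 lc_e_rc_13_3 lc_e_rc_19_2 lc_e_rc_13_3 lc_e_rc_9_3 lc_e_rc_13_3 lc_e_rc_13_3 lc_e_Cert_tree lc_e_rc_18_1 lc_e_rc_13_1 lc_e_rc_4_1 lc_e_Cert_tree lc_e_Cert_tree lc_e_rc_18_1 lc_e_rc_27_1 lc_e_rc_13_3 lc_e_Cert_tree lc_e_rc_18_1 lc_e_rc_19_4 lc_e_rc_13_3 lc_e_rc_16_1 lc_e_rc_9_3 lc_e_rc_19_0 lc_e_rc_18_1 lc_e_rc_16_1 lc_e_rc_13_3 lc_e_rc_13_3 lc_e_rc_4_3 lc_e_rc_13_3 lc_e_rc_18_1 lc_e_rc_9_3 lc_e_Cert_tree lc_e_rc_19_0 lc_e_rc_16_5 lc_e_Cert_tree lc_e_rc_18_1 lc_e_rc_9_3 lc_e_rc_4_3 lc_e_rc_27_5 lc_e_rc_9_1 lc_e_rc_18_1 lc_e_rc_27_1 lc_e_rc_18_1 lc_e_rc_27_5 lc_e_Cert_tree lc_e_Cert_tree lc_e_rc_18_1 lc_e_rc_13_3) (@D3.rec (fun _ => (Cert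 rels S Gen.e)) lc_e_rc_16_3 lc_e_Cert_tree lc_e_rc_4_3 lc_e_rc_9_1 lc_e_Cert_tree lc_e_rc_9_3 lc_e_rc_13_1 lc_e_rc_18_1 lc_e_rc_9_1 lc_e_Cert_tree lc_e_rc_18_1 lc_e_rc_9_3 lc_e_Cert_tree lc_e_Cert_tree lc_e_rc_27_7 lc_e_rc_4_1 lc_e_Cert_tree lc_e_rc_18_1 lc_e_rc_18_1 lc_e_rc_18_1 lc_e_Cert_tree lc_e_rc_18_1 lc_e_Cert_tree lc_e_Cert_tree lc_e_rc_18_1 lc_e_rc_18_1 lc_e_rc_16_1 lc_e_rc_18_1 lc_e_rc_16_1 lc_e_rc_16_5 lc_e_rc_27_7 lc_e_Cert_tree lc_e_rc_18_1 lc_e_rc_16_1 lc_e_rc_18_1 lc_e_Cert_tree lc_e_Cert_tree lc_e_rc_13_3 lc_e_rc_18_1 lc_e_Cert_tree lc_e_Cert_tree lc_e_rc_18_1 lc_e_rc_9_3 lc_e_Cert_tree lc_e_Cert_tree lc_e_Cert_tree lc_e_rc_18_1 lc_e_Cert_tree lc_e_rc_18_1 lc_e_Cert_tree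 lc_e_rc_18_1 lc_e_Cert_tree lc_e_rc_18_1 lc_e_Cert_tree lc_e_Cert_tree lc_e_rc_13_1 lc_e_Cert_tree lc_e_rc_18_1 lc_e_rc_9_3 lc_e_rc_18_1 lc_e_rc_16_3 lc_e_rc_13_3) (@D3.rec (fun _ => (Cert rels S Gen.e)) lc_e_rc_27_7 lc_e_rc_13_3 lc_e_rc_18_1 lc_e_rc_18_1 lc_e_rc_13_3 lc_e_rc_13_3 lc_e_rc_9_3 lc_e_Cert_tree lc_e_Cert_tree lc_e_rc_27_5 lc_e_rc_18_1 lc_e_Cert_tree lc_e_Cert_tree lc_e_rc_18_1 lc_e_rc_18_1 lc_e_Cert_tree lc_e_rc_18_1 lc_e_rc_9_1 lc_e_rc_18_1 lc_e_Cert_tree lc_e_rc_13_3 lc_e_rc_4_3 lc_e_rc_27_1 lc_e_rc_18_1 lc_e_rc_18_1 lc_e_rc_18_1 lc_e_rc_27_7 lc_e_rc_4_3 lc_e_rc_4_3 lc_e_rc_18_1 lc_e_rc_13_1 lc_e_rc_16_3 lc_e_rc_9_3 lc_e_rc_13_3 lc_e_rc_16_1 lc_e_Cert_tree lc_e_Cert_tree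 lc_e_rc_27_7 lc_e_rc_18_1 lc_e_Cert_tree lc_e_rc_13_3 lc_e_rc_19_2 lc_e_rc_18_1 lc_e_rc_19_2 lc_e_rc_19_2 lc_e_rc_18_1 lc_e_rc_18_1 lc_e_rc_27_5 lc_e_rc_27_1 lc_e_rc_13_3 lc_e_rc_13_3 lc_e_rc_4_3 lc_e_rc_13_1 lc_e_rc_9_3 lc_e_rc_13_3 lc_e_rc_13_3 lc_e_rc_9_3 lc_e_Cert_tree lc_e_Cert_tree lc_e_rc_18_1 lc_e_rc_13_3 lc_e_rc_9_3) (@D3.rec (fun _ => (Cert rels S Gen.e)) lc_e_rc_18_1 lc_e_rc_13_1 lc_e_rc_13_1 lc_e_Cert_tree lc_e_rc_18_1 lc_e_rc_27_5 lc_e_rc_9_1 lc_e_rc_19_0 lc_e_rc_16_5 lc_e_rc_13_3 lc_e_rc_9_3 lc_e_rc_18_1 lc_e_rc_13_3 lc_e_rc_16_3 lc_e_rc_18_1 lc_e_rc_18_1 lc_e_rc_9_3 lc_e_Cert_tree lc_e_rc_13_1 lc_e_Cert_tree lc_e_rc_18_1 lc_e_Cert_tree lc_e_rc_9_3 lc_e_rc_4_3 lc_e_rc_13_3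 lc_e_rc_13_1 lc_e_Cert_tree lc_e_rc_9_3 lc_e_rc_27_5 lc_e_rc_18_1 lc_e_Cert_tree lc_e_rc_27_1 lc_e_rc_18_1 lc_e_rc_16_1 lc_e_rc_13_3 lc_e_rc_27_5 lc_e_rc_9_1 lc_e_rc_18_1 lc_e_rc_18_1 lc_e_rc_18_1 lc_e_rc_27_5 lc_e_rc_4_3 lc_e_rc_16_5 lc_e_Cert_tree lc_e_rc_4_3 lc_e_rc_19_2 lc_e_rc_13_3 lc_e_rc_13_3 lc_e_rc_4_3 lc_e_rc_9_3 lc_e_rc_18_1 lc_e_rc_9_3 lc_e_rc_9_1 lc_e_Cert_tree lc_e_rc_16_5 lc_e_Cert_tree lc_e_Cert_tree lc_e_Cert_tree lc_e_rc_18_1 lc_e_rc_16_5 lc_e_Cert_tree lc_e_Cert_tree) (@D3.rec (fun _ => (Cert rels S Gen.e)) lc_e_rc_27_7 lc_e_rc_18_1 lc_e_Cert_tree lc_e_rc_13_3 lc_e_rc_27_5 lc_e_rc_16_5 lc_e_rc_18_1 lc_e_rc_16_3 lc_e_rc_18_1 lc_e_rc_9_3 lc_e_rc_9_3 lc_e_rc_13_3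 lc_e_rc_16_1 lc_e_rc_18_1 lc_e_rc_27_5 lc_e_rc_18_1 lc_e_rc_18_1 lc_e_rc_27_5 lc_e_rc_16_1 lc_e_rc_4_3 lc_e_rc_16_1 lc_e_Cert_tree lc_e_rc_27_7 lc_e_Cert_tree lc_e_rc_13_3 lc_e_rc_27_5 lc_e_rc_27_1 lc_e_rc_18_1 lc_e_rc_13_1 lc_e_rc_9_3 lc_e_rc_27_7 lc_e_Cert_tree lc_e_rc_18_1 lc_e_rc_9_3 lc_e_rc_4_3 lc_e_rc_9_3 lc_e_Cert_tree lc_e_rc_16_3 lc_e_rc_16_5 lc_e_Cert_tree lc_e_rc_27_5 lc_e_Cert_tree lc_e_rc_18_1 lc_e_Cert_tree lc_e_rc_16_5 lc_e_Cert_tree lc_e_rc_13_3 lc_e_rc_16_3 lc_e_rc_18_1 lc_e_Cert_tree lc_e_Cert_tree lc_e_Cert_tree lc_e_rc_18_1 lc_e_Cert_tree lc_e_rc_18_1 lc_e_Cert_tree lc_e_Cert_tree lc_e_rc_27_7 lc_e_rc_18_1 lc_e_Cert_tree lc_e_Cert_tree lc_e_rc_18_1) (@D3.rec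 (fun _ => (Cert rels S Gen.e)) lc_e_Cert_tree lc_e_Cert_tree lc_e_rc_9_3 lc_e_Cert_tree lc_e_Cert_tree lc_e_rc_18_1 lc_e_Cert_tree lc_e_Cert_tree lc_e_rc_18_1 lc_e_Cert_tree lc_e_Cert_tree lc_e_rc_18_1 lc_e_rc_13_3 lc_e_rc_4_3 lc_e_rc_9_1 lc_e_Cert_tree lc_e_rc_18_1 lc_e_rc_18_1 lc_e_rc_13_3 lc_e_Cert_tree lc_e_rc_13_3 lc_e_Cert_tree lc_e_rc_4_3 lc_e_rc_27_1 lc_e_rc_18_1 lc_e_rc_27_5 lc_e_rc_18_1 lc_e_Cert_tree lc_e_rc_18_1 lc_e_rc_4_3 lc_e_Cert_tree lc_e_rc_9_3 lc_e_Cert_tree lc_e_Cert_tree lc_e_rc_13_1 lc_e_rc_18_1 lc_e_Cert_tree lc_e_rc_19_4 lc_e_rc_9_3 lc_e_rc_27_1 lc_e_rc_9_3 lc_e_rc_16_5 lc_e_rc_13_3 lc_e_rc_16_1 lc_e_rc_27_5 lc_e_Cert_tree lc_e_rc_4_3 lc_e_rc_4_3 lc_e_rc_4_3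 lc_e_Cert_tree lc_e_rc_27_7 lc_e_rc_9_3 lc_e_rc_9_3 lc_e_Cert_tree lc_e_rc_13_1 lc_e_rc_16_3 lc_e_rc_18_1 lc_e_rc_18_1 lc_e_rc_13_3 lc_e_rc_19_2 lc_e_rc_16_5 lc_e_rc_27_1) (@D3.rec (fun _ => (Cert rels S Gen.e)) lc_e_rc_4_3 lc_e_rc_16_5 lc_e_rc_13_3 lc_e_rc_9_3 lc_e_rc_13_3 lc_e_rc_13_3 lc_e_rc_13_3 lc_e_rc_9_1 lc_e_rc_18_1 lc_e_rc_13_3 lc_e_rc_18_1 lc_e_rc_9_3 lc_e_rc_18_1 lc_e_rc_18_1 lc_e_rc_16_1 lc_e_rc_18_1 lc_e_rc_18_1 lc_e_rc_18_1 lc_e_rc_16_3 lc_e_rc_18_1 lc_e_rc_16_3 lc_e_rc_18_1 lc_e_Cert_tree lc_e_rc_18_1 lc_e_rc_19_4 lc_e_Cert_tree lc_e_rc_9_3 lc_e_rc_18_1 lc_e_Cert_tree lc_e_rc_18_1 lc_e_rc_27_5 lc_e_rc_4_3 lc_e_rc_18_1 lc_e_rc_9_3 lc_e_rc_19_0 lc_e_rc_18_1 lc_e_rc_9_1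 lc_e_Cert_tree lc_e_rc_16_1 lc_e_rc_19_4 lc_e_rc_13_1 lc_e_rc_16_3 lc_e_rc_18_1 lc_e_rc_13_1 lc_e_rc_16_5 lc_e_rc_27_7 lc_e_Cert_tree lc_e_rc_13_3 lc_e_Cert_tree lc_e_rc_13_1 lc_e_rc_18_1 lc_e_rc_18_1 lc_e_rc_27_5 lc_e_rc_4_3 lc_e_rc_19_4 lc_e_rc_13_3 lc_e_Cert_tree lc_e_rc_9_1 lc_e_rc_9_3 lc_e_rc_18_1 lc_e_Cert_tree lc_e_rc_18_1) (@D3.rec (fun _ => (Cert rels S Gen.e)) lc_e_rc_13_3 lc_e_rc_13_3 lc_e_rc_27_7 lc_e_rc_18_1 lc_e_rc_4_1 lc_e_Cert_tree lc_e_rc_16_3 lc_e_rc_16_3 lc_e_rc_13_3 lc_e_Cert_tree lc_e_rc_18_1 lc_e_rc_13_3 lc_e_Cert_tree lc_e_Cert_tree lc_e_Cert_tree lc_e_Cert_tree lc_e_rc_18_1 lc_e_Cert_tree lc_e_rc_27_1 lc_e_rc_16_1 lc_e_rc_9_3 lc_e_rc_16_5 lc_e_rc_18_1 lc_e_rc_18_1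 lc_e_Cert_tree lc_e_rc_18_1 lc_e_rc_19_0 lc_e_rc_9_3 lc_e_rc_13_1 lc_e_rc_27_5 lc_e_rc_16_5 lc_e_rc_13_3 lc_e_Cert_tree lc_e_rc_9_3 lc_e_Cert_tree lc_e_rc_18_1 lc_e_rc_9_3 lc_e_Cert_tree lc_e_rc_4_3 lc_e_Cert_tree lc_e_Cert_tree lc_e_rc_13_1 lc_e_Cert_tree lc_e_rc_18_1 lc_e_Cert_tree lc_e_rc_4_3 lc_e_Cert_tree lc_e_rc_18_1 lc_e_rc_18_1 lc_e_rc_19_2 lc_e_rc_16_3 lc_e_rc_27_7 lc_e_rc_27_7 lc_e_rc_27_5 lc_e_rc_18_1 lc_e_Cert_tree lc_e_rc_18_1 lc_e_rc_9_3 lc_e_rc_27_7 lc_e_rc_16_1 lc_e_rc_9_1 lc_e_rc_13_1) (@D3.rec (fun _ => (Cert rels S Gen.e)) lc_e_rc_16_3 lc_e_rc_13_3 lc_e_Cert_tree lc_e_rc_18_1 lc_e_Cert_tree lc_e_Cert_tree lc_e_rc_18_1 lc_e_rc_16_5 lc_e_rc_27_7 lc_e_rc_19_2 lc_e_rc_18_1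 lc_e_Cert_tree lc_e_rc_16_5 lc_e_Cert_tree lc_e_rc_18_1 lc_e_rc_27_5 lc_e_rc_13_3 lc_e_rc_18_1 lc_e_rc_9_3 lc_e_rc_9_3 lc_e_Cert_tree lc_e_rc_18_1 lc_e_rc_18_1 lc_e_rc_18_1 lc_e_rc_9_1 lc_e_Cert_tree lc_e_rc_27_5 lc_e_rc_18_1 lc_e_Cert_tree lc_e_rc_18_1 lc_e_rc_4_3 lc_e_rc_9_3 lc_e_rc_4_3 lc_e_rc_4_3 lc_e_rc_16_5 lc_e_Cert_tree lc_e_rc_13_3 lc_e_Cert_tree lc_e_Cert_tree lc_e_rc_18_1 lc_e_Cert_tree lc_e_Cert_tree lc_e_rc_18_1 lc_e_Cert_tree lc_e_rc_13_3 lc_e_rc_13_3 lc_e_rc_18_1 lc_e_rc_9_3 lc_e_rc_18_1 lc_e_rc_9_1 lc_e_rc_27_5 lc_e_rc_18_1 lc_e_Cert_tree lc_e_rc_27_1 lc_e_rc_19_2 lc_e_rc_16_5 lc_e_rc_4_3 lc_e_rc_18_1 lc_e_rc_16_3 lc_e_rc_27_1 lc_e_Cert_tree lc_e_rc_4_3) (@D3.rec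 (fun _ => (Cert rels S Gen.e)) lc_e_rc_9_1 lc_e_Cert_tree lc_e_rc_4_1 lc_e_Cert_tree lc_e_Cert_tree lc_e_rc_18_1 lc_e_rc_16_5 lc_e_Cert_tree lc_e_rc_27_7 lc_e_rc_18_1 lc_e_rc_19_2 lc_e_rc_9_3 lc_e_rc_9_3 lc_e_rc_13_1 lc_e_rc_18_1 lc_e_rc_18_1 lc_e_rc_13_3 lc_e_rc_4_3 lc_e_Cert_tree lc_e_rc_18_1 lc_e_rc_9_3 lc_e_rc_16_5 lc_e_rc_4_1 lc_e_Cert_tree lc_e_rc_19_0 lc_e_rc_19_4 lc_e_rc_16_1 lc_e_rc_18_1 lc_e_rc_16_1 lc_e_rc_18_1 lc_e_rc_16_3 lc_e_Cert_tree lc_e_rc_18_1 lc_e_Cert_tree lc_e_rc_18_1 lc_e_rc_16_5 lc_e_rc_4_1 lc_e_rc_13_1 lc_e_rc_9_3 lc_e_rc_19_2 lc_e_rc_16_3 lc_e_rc_19_0 lc_e_rc_27_1 lc_e_rc_18_1 lc_e_rc_18_1 lc_e_rc_13_3 lc_e_rc_18_1 lc_e_rc_27_1 lc_e_rc_19_2 lc_e_rc_4_3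 lc_e_rc_16_5 lc_e_rc_18_1 lc_e_rc_9_3 lc_e_rc_18_1 lc_e_rc_19_0 lc_e_rc_9_3 lc_e_rc_18_1 lc_e_rc_19_0 lc_e_rc_18_1 lc_e_rc_16_1 lc_e_rc_27_5 lc_e_rc_16_5) (@D3.rec (fun _ => (Cert rels S Gen.e)) lc_e_rc_4_3 lc_e_Cert_tree lc_e_rc_18_1 lc_e_rc_27_7 lc_e_rc_27_7 lc_e_Cert_tree lc_e_rc_18_1 lc_e_rc_27_5 lc_e_rc_4_1 lc_e_rc_16_1 lc_e_Cert_tree lc_e_Cert_tree lc_e_rc_13_3 lc_e_rc_18_1 lc_e_rc_18_1 lc_e_rc_18_1 lc_e_Cert_tree lc_e_rc_27_7 lc_e_Cert_tree lc_e_rc_18_1 lc_e_rc_27_5 lc_e_rc_16_5 lc_e_rc_16_1 lc_e_rc_19_2 lc_e_rc_9_3 lc_e_rc_9_1 lc_e_Cert_tree lc_e_rc_13_3 lc_e_rc_19_2 lc_e_rc_27_7 lc_e_rc_4_3 lc_e_rc_13_3 lc_e_rc_4_3 lc_e_Cert_tree lc_e_rc_18_1 lc_e_rc_18_1 lc_e_rc_4_3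 lc_e_Cert_tree lc_e_rc_9_3 lc_e_rc_18_1 lc_e_rc_16_3 lc_e_rc_9_3 lc_e_rc_9_3 lc_e_rc_13_3 lc_e_rc_18_1 lc_e_rc_18_1 lc_e_rc_4_3 lc_e_rc_27_7 lc_e_rc_13_3 lc_e_Cert_tree lc_e_rc_18_1 lc_e_rc_16_1 lc_e_rc_13_3 lc_e_rc_13_1 lc_e_rc_18_1 lc_e_rc_18_1 lc_e_rc_19_2 lc_e_rc_27_5 lc_e_rc_13_3 lc_e_rc_9_3 lc_e_rc_27_1 lc_e_rc_9_3) (@D3.rec (fun _ => (Cert rels S Gen.e)) lc_e_rc_9_3 lc_e_rc_13_1 lc_e_Cert_tree lc_e_rc_9_3 lc_e_rc_13_3 lc_e_rc_27_7 lc_e_Cert_tree lc_e_rc_18_1 lc_e_rc_18_1 lc_e_rc_27_1 lc_e_rc_16_1 lc_e_rc_4_3 lc_e_rc_19_0 lc_e_rc_13_3 lc_e_rc_18_1 lc_e_rc_18_1 lc_e_Cert_tree lc_e_rc_18_1 lc_e_rc_9_3 lc_e_rc_13_3 lc_e_rc_27_7 lc_e_rc_16_5 lc_e_rc_19_2 lc_e_Cert_tree lc_e_rc_18_1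 lc_e_rc_9_3 lc_e_rc_13_3 lc_e_rc_4_3 lc_e_rc_13_1 lc_e_rc_27_1 lc_e_rc_9_3 lc_e_rc_16_5 lc_e_rc_4_3 lc_e_rc_18_1 lc_e_rc_27_1 lc_e_rc_13_3 lc_e_rc_9_3 lc_e_rc_27_1 lc_e_rc_16_1 lc_e_rc_4_3 lc_e_rc_9_1 lc_e_rc_18_1 lc_e_Cert_tree lc_e_Cert_tree lc_e_rc_18_1 lc_e_rc_13_3 lc_e_rc_27_5 lc_e_rc_13_3 lc_e_rc_9_1 lc_e_rc_4_3 lc_e_rc_18_1 lc_e_rc_4_3 lc_e_rc_4_3 lc_e_Cert_tree lc_e_rc_18_1 lc_e_rc_9_3 lc_e_rc_27_7 lc_e_rc_27_1 lc_e_Cert_tree lc_e_rc_4_3 lc_e_Cert_tree lc_e_rc_18_1) (@D3.rec (fun _ => (Cert rels S Gen.e)) lc_e_rc_16_3 lc_e_rc_27_7 lc_e_rc_18_1 lc_e_Cert_tree lc_e_Cert_tree lc_e_rc_18_1 lc_e_Cert_tree lc_e_Cert_tree lc_e_rc_18_1 lc_e_rc_9_3 lc_e_Cert_tree lc_e_rc_27_7 lc_e_rc_18_1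 lc_e_rc_27_7 lc_e_Cert_tree lc_e_Cert_tree lc_e_rc_18_1 lc_e_rc_18_1 lc_e_rc_13_3 lc_e_rc_13_3 lc_e_rc_13_3 lc_e_rc_9_3 lc_e_rc_18_1 lc_e_rc_27_7 lc_e_rc_27_7 lc_e_rc_18_1 lc_e_rc_18_1 lc_e_rc_9_3 lc_e_rc_9_3 lc_e_rc_19_2 lc_e_rc_19_0 lc_e_rc_13_1 lc_e_rc_16_1 lc_e_rc_16_3 lc_e_Cert_tree lc_e_rc_13_3 lc_e_rc_18_1 lc_e_rc_16_3 lc_e_rc_18_1 lc_e_rc_16_1 lc_e_rc_18_1 lc_e_rc_9_1 lc_e_rc_4_3 lc_e_rc_4_1 lc_e_rc_18_1 lc_e_rc_13_3 lc_e_rc_16_3 lc_e_rc_19_4 lc_e_Cert_tree lc_e_rc_9_3 lc_e_rc_13_3 lc_e_rc_9_3 lc_e_rc_16_5 lc_e_rc_9_3 lc_e_rc_13_3 lc_e_rc_27_5 lc_e_rc_18_1 lc_e_rc_27_5 lc_e_rc_27_1 lc_e_rc_16_3 lc_e_rc_18_1 lc_e_rc_18_1)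
def ce_e_13 : D2 → D3 → (Cert rels S Gen.e) := @D2.rec (fun _ => D3 → (Cert rels S Gen.e)) (@D3.rec (fun _ => (Cert rels S Gen.e)) lc_e_Cert_tree lc_e_rc_27_7 lc_e_Cert_tree lc_e_rc_9_1 lc_e_rc_18_1 lc_e_rc_4_1 lc_e_rc_27_1 lc_e_Cert_tree lc_e_Cert_tree lc_e_rc_18_1 lc_e_Cert_tree lc_e_rc_18_1 lc_e_rc_4_3 lc_e_rc_16_1 lc_e_rc_18_1 lc_e_rc_13_3 lc_e_rc_27_5 lc_e_Cert_tree lc_e_Cert_tree lc_e_rc_18_1 lc_e_rc_16_5 lc_e_rc_9_3 lc_e_rc_18_1 lc_e_Cert_tree lc_e_rc_18_1 lc_e_rc_27_5 lc_e_rc_27_1 lc_e_rc_19_2 lc_e_rc_27_7 lc_e_rc_18_1 lc_e_rc_13_3 lc_e_Cert_tree lc_e_rc_16_1 lc_e_rc_19_4 lc_e_rc_9_3 lc_e_rc_9_3 lc_e_rc_16_3 lc_e_Cert_tree lc_e_rc_4_3 lc_e_Cert_tree lc_e_rc_18_1 lc_e_rc_9_3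 lc_e_Cert_tree lc_e_Cert_tree lc_e_rc_18_1 lc_e_rc_9_3 lc_e_rc_13_3 lc_e_rc_27_5 lc_e_Cert_tree lc_e_rc_13_3 lc_e_rc_18_1 lc_e_rc_13_3 lc_e_rc_13_3 lc_e_Cert_tree lc_e_rc_18_1 lc_e_rc_16_1 lc_e_rc_13_3 lc_e_rc_16_5 lc_e_rc_18_1 lc_e_rc_18_1 lc_e_rc_18_1 lc_e_rc_18_1) (@D3.rec (fun _ => (Cert rels S Gen.e)) lc_e_rc_18_1 lc_e_rc_18_1 lc_e_rc_19_2 lc_e_rc_19_0 lc_e_rc_18_1 lc_e_rc_27_7 lc_e_rc_13_1 lc_e_rc_18_1 lc_e_rc_19_4 lc_e_rc_13_3 lc_e_rc_9_3 lc_e_rc_13_1 lc_e_rc_19_0 lc_e_rc_9_3 lc_e_rc_4_3 lc_e_Cert_tree lc_e_rc_18_1 lc_e_rc_16_3 lc_e_rc_13_3 lc_e_rc_16_5 lc_e_rc_18_1 lc_e_rc_18_1 lc_e_rc_19_4 lc_e_rc_16_5 lc_e_rc_13_3 lc_e_rc_27_5 lc_e_rc_13_3 lc_e_rc_9_3 lc_e_Cert_tree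 lc_e_rc_19_2 lc_e_rc_27_7 lc_e_rc_19_4 lc_e_Cert_tree lc_e_rc_18_1 lc_e_rc_18_1 lc_e_rc_19_2 lc_e_rc_13_3 lc_e_rc_18_1 lc_e_rc_27_7 lc_e_rc_18_1 lc_e_rc_27_5 lc_e_rc_18_1 lc_e_rc_4_3 lc_e_rc_19_0 lc_e_rc_18_1 lc_e_rc_19_0 lc_e_rc_18_1 lc_e_rc_27_5 lc_e_Cert_tree lc_e_rc_19_2 lc_e_Cert_tree lc_e_rc_27_7 lc_e_rc_18_1 lc_e_rc_13_3 lc_e_rc_9_1 lc_e_rc_18_1 lc_e_rc_18_1 lc_e_rc_27_7 lc_e_rc_18_1 lc_e_rc_13_3 lc_e_rc_9_3 lc_e_rc_18_1) (@D3.rec (fun _ => (Cert rels S Gen.e)) lc_e_rc_13_1 lc_e_rc_18_1 lc_e_rc_9_3 lc_e_rc_27_5 lc_e_rc_13_3 lc_e_rc_13_1 lc_e_Cert_tree lc_e_rc_18_1 lc_e_rc_27_5 lc_e_rc_16_3 lc_e_rc_18_1 lc_e_rc_18_1 lc_e_Cert_tree lc_e_rc_18_1 lc_e_rc_16_1 lc_e_Cert_tree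 lc_e_rc_18_1 lc_e_rc_4_3 lc_e_rc_16_3 lc_e_rc_18_1 lc_e_rc_13_1 lc_e_rc_18_1 lc_e_rc_18_1 lc_e_Cert_tree lc_e_rc_18_1 lc_e_rc_18_1 lc_e_rc_27_5 lc_e_rc_19_2 lc_e_rc_4_3 lc_e_Cert_tree lc_e_rc_18_1 lc_e_rc_9_3 lc_e_rc_19_2 lc_e_rc_19_4 lc_e_rc_19_4 lc_e_rc_13_3 lc_e_rc_13_1 lc_e_rc_27_5 lc_e_rc_27_1 lc_e_rc_4_1 lc_e_rc_18_1 lc_e_rc_9_3 lc_e_rc_9_1 lc_e_rc_4_3 lc_e_Cert_tree lc_e_Cert_tree lc_e_rc_18_1 lc_e_rc_19_4 lc_e_rc_18_1 lc_e_rc_9_3 lc_e_rc_9_1 lc_e_rc_16_1 lc_e_rc_19_4 lc_e_rc_16_1 lc_e_rc_13_3 lc_e_rc_16_1 lc_e_rc_13_3 lc_e_rc_9_3 lc_e_rc_4_3 lc_e_Cert_tree lc_e_rc_16_1 lc_e_rc_16_3) (@D3.rec (fun _ => (Cert rels S Gen.e)) lc_e_rc_18_1 lc_e_rc_9_1 lc_e_rc_16_3 lc_e_rc_16_1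 lc_e_rc_18_1 lc_e_rc_18_1 lc_e_rc_16_1 lc_e_rc_27_5 lc_e_rc_18_1 lc_e_rc_16_1 lc_e_rc_19_4 lc_e_Cert_tree lc_e_Cert_tree lc_e_Cert_tree lc_e_rc_13_3 lc_e_rc_18_1 lc_e_rc_18_1 lc_e_Cert_tree lc_e_Cert_tree lc_e_rc_16_3 lc_e_rc_18_1 lc_e_rc_16_3 lc_e_Cert_tree lc_e_Cert_tree lc_e_rc_13_3 lc_e_rc_27_5 lc_e_Cert_tree lc_e_Cert_tree lc_e_rc_18_1 lc_e_Cert_tree lc_e_Cert_tree lc_e_rc_18_1 lc_e_rc_4_3 lc_e_rc_19_2 lc_e_Cert_tree lc_e_rc_18_1 lc_e_rc_13_1 lc_e_rc_18_1 lc_e_Cert_tree lc_e_Cert_tree lc_e_rc_18_1 lc_e_Cert_tree lc_e_rc_18_1 lc_e_Cert_tree lc_e_rc_18_1 lc_e_rc_9_3 lc_e_Cert_tree lc_e_Cert_tree lc_e_rc_18_1 lc_e_rc_18_1 lc_e_Cert_tree lc_e_rc_9_3 lc_e_Cert_tree lc_e_Cert_tree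 lc_e_rc_18_1 lc_e_Cert_tree lc_e_Cert_tree lc_e_Cert_tree lc_e_rc_18_1 lc_e_rc_18_1 lc_e_rc_16_1 lc_e_rc_27_7) (@D3.rec (fun _ => (Cert rels S Gen.e)) lc_e_rc_27_7 lc_e_rc_9_3 lc_e_rc_13_1 lc_e_rc_9_3 lc_e_rc_18_1 lc_e_Cert_tree lc_e_rc_18_1 lc_e_rc_13_1 lc_e_rc_18_1 lc_e_rc_18_1 lc_e_rc_16_1 lc_e_rc_9_1 lc_e_Cert_tree lc_e_rc_9_1 lc_e_rc_27_1 lc_e_rc_13_3 lc_e_rc_18_1 lc_e_rc_27_7 lc_e_rc_18_1 lc_e_rc_13_3 lc_e_rc_13_3 lc_e_rc_9_3 lc_e_rc_16_1 lc_e_rc_18_1 lc_e_rc_9_3 lc_e_Cert_tree lc_e_rc_18_1 lc_e_Cert_tree lc_e_rc_13_3 lc_e_rc_4_3 lc_e_rc_19_4 lc_e_rc_18_1 lc_e_rc_18_1 lc_e_rc_9_3 lc_e_rc_18_1 lc_e_Cert_tree lc_e_rc_18_1 lc_e_rc_9_3 lc_e_rc_18_1 lc_e_Cert_tree lc_e_rc_18_1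 lc_e_rc_16_5 lc_e_Cert_tree lc_e_rc_19_4 lc_e_Cert_tree lc_e_rc_13_3 lc_e_rc_4_3 lc_e_rc_16_3 lc_e_rc_18_1 lc_e_rc_13_3 lc_e_rc_13_3 lc_e_rc_9_1 lc_e_rc_18_1 lc_e_Cert_tree lc_e_rc_4_3 lc_e_rc_19_0 lc_e_Cert_tree lc_e_rc_27_5 lc_e_rc_4_3 lc_e_rc_19_2 lc_e_rc_18_1 lc_e_rc_18_1) (@D3.rec (fun _ => (Cert rels S Gen.e)) lc_e_Cert_tree lc_e_rc_16_5 lc_e_Cert_tree lc_e_rc_18_1 lc_e_Cert_tree lc_e_rc_19_4 lc_e_rc_27_5 lc_e_rc_18_1 lc_e_rc_4_1 lc_e_rc_19_4 lc_e_rc_18_1 lc_e_Cert_tree lc_e_rc_18_1 lc_e_rc_18_1 lc_e_rc_18_1 lc_e_Cert_tree lc_e_Cert_tree lc_e_rc_16_1 lc_e_rc_16_1 lc_e_Cert_tree lc_e_rc_13_3 lc_e_rc_13_3 lc_e_rc_13_3 lc_e_rc_4_3 lc_e_rc_16_3 lc_e_rc_18_1 lc_e_rc_4_3 lc_e_rc_16_3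 lc_e_rc_18_1 lc_e_rc_27_1 lc_e_rc_27_7 lc_e_rc_16_3 lc_e_rc_13_3 lc_e_rc_16_1 lc_e_Cert_tree lc_e_rc_18_1 lc_e_Cert_tree lc_e_rc_16_3 lc_e_rc_18_1 lc_e_Cert_tree lc_e_Cert_tree lc_e_rc_13_3 lc_e_rc_19_2 lc_e_rc_18_1 lc_e_rc_16_3 lc_e_rc_9_3 lc_e_Cert_tree lc_e_Cert_tree lc_e_rc_18_1 lc_e_Cert_tree lc_e_Cert_tree lc_e_rc_13_3 lc_e_Cert_tree lc_e_rc_4_1 lc_e_Cert_tree lc_e_rc_18_1 lc_e_rc_13_3 lc_e_Cert_tree lc_e_rc_18_1 lc_e_Cert_tree lc_e_rc_18_1 lc_e_rc_16_1) (@D3.rec (fun _ => (Cert rels S Gen.e)) lc_e_Cert_tree lc_e_Cert_tree lc_e_rc_18_1 lc_e_Cert_tree lc_e_rc_18_1 lc_e_Cert_tree lc_e_rc_9_3 lc_e_Cert_tree lc_e_Cert_tree lc_e_rc_18_1 lc_e_Cert_tree lc_e_rc_18_1 lc_e_Cert_tree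 lc_e_rc_18_1 lc_e_rc_18_1 lc_e_rc_13_3 lc_e_Cert_tree lc_e_Cert_tree lc_e_rc_18_1 lc_e_Cert_tree lc_e_rc_18_1 lc_e_rc_13_3 lc_e_rc_18_1 lc_e_rc_9_3 lc_e_rc_9_3 lc_e_rc_18_1 lc_e_rc_27_1 lc_e_Cert_tree lc_e_rc_16_1 lc_e_rc_18_1 lc_e_rc_16_1 lc_e_rc_19_4 lc_e_rc_13_1 lc_e_Cert_tree lc_e_rc_18_1 lc_e_rc_18_1 lc_e_rc_18_1 lc_e_rc_27_5 lc_e_rc_16_1 lc_e_rc_18_1 lc_e_rc_18_1 lc_e_rc_16_1 lc_e_rc_18_1 lc_e_rc_18_1 lc_e_Cert_tree lc_e_rc_16_1 lc_e_rc_4_1 lc_e_Cert_tree lc_e_rc_18_1 lc_e_Cert_tree lc_e_rc_13_3 lc_e_rc_13_3 lc_e_Cert_tree lc_e_rc_18_1 lc_e_rc_13_1 lc_e_rc_13_3 lc_e_rc_19_4 lc_e_Cert_tree lc_e_rc_18_1 lc_e_rc_18_1 lc_e_rc_18_1 lc_e_Cert_tree) (@D3.rec (fun _ => (Cert rels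 S Gen.e)) lc_e_rc_4_3 lc_e_rc_18_1 lc_e_rc_18_1 lc_e_rc_27_5 lc_e_Cert_tree lc_e_rc_18_1 lc_e_Cert_tree lc_e_Cert_tree lc_e_rc_18_1 lc_e_rc_16_3 lc_e_Cert_tree lc_e_rc_18_1 lc_e_rc_18_1 lc_e_rc_27_5 lc_e_Cert_tree lc_e_Cert_tree lc_e_Cert_tree lc_e_rc_18_1 lc_e_rc_13_3 lc_e_rc_27_1 lc_e_Cert_tree lc_e_Cert_tree lc_e_Cert_tree lc_e_rc_13_3 lc_e_rc_19_2 lc_e_rc_18_1 lc_e_rc_9_1 lc_e_Cert_tree lc_e_rc_27_7 lc_e_rc_18_1 lc_e_rc_16_3 lc_e_rc_4_3 lc_e_rc_18_1 lc_e_Cert_tree lc_e_Cert_tree lc_e_rc_18_1 lc_e_rc_16_5 lc_e_Cert_tree lc_e_rc_9_3 lc_e_rc_18_1 lc_e_Cert_tree lc_e_rc_4_3 lc_e_rc_4_3 lc_e_Cert_tree lc_e_rc_27_7 lc_e_Cert_tree lc_e_rc_9_3 lc_e_rc_27_7 lc_e_Cert_tree lc_e_rc_18_1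 lc_e_rc_16_3 lc_e_rc_18_1 lc_e_rc_18_1 lc_e_rc_18_1 lc_e_Cert_tree lc_e_rc_9_1 lc_e_rc_16_3 lc_e_Cert_tree lc_e_rc_13_1 lc_e_rc_13_3 lc_e_rc_16_3 lc_e_rc_18_1) (@D3.rec (fun _ => (Cert rels S Gen.e)) lc_e_rc_16_3 lc_e_rc_13_3 lc_e_rc_13_3 lc_e_rc_16_3 lc_e_rc_13_1 lc_e_rc_13_1 lc_e_Cert_tree lc_e_rc_18_1 lc_e_Cert_tree lc_e_rc_9_1 lc_e_Cert_tree lc_e_rc_18_1 lc_e_Cert_tree lc_e_Cert_tree lc_e_rc_13_3 lc_e_Cert_tree lc_e_Cert_tree lc_e_Cert_tree lc_e_rc_18_1 lc_e_Cert_tree lc_e_Cert_tree lc_e_Cert_tree lc_e_rc_13_3 lc_e_Cert_tree lc_e_rc_19_0 lc_e_Cert_tree lc_e_rc_18_1 lc_e_rc_9_3 lc_e_rc_27_1 lc_e_rc_18_1 lc_e_Cert_tree lc_e_rc_18_1 lc_e_rc_16_1 lc_e_Cert_tree lc_e_rc_27_5 lc_e_rc_18_1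 lc_e_Cert_tree lc_e_rc_18_1 lc_e_rc_9_3 lc_e_Cert_tree lc_e_rc_18_1 lc_e_Cert_tree lc_e_rc_4_3 lc_e_rc_18_1 lc_e_rc_9_3 lc_e_rc_27_5 lc_e_rc_4_3 lc_e_rc_18_1 lc_e_rc_18_1 lc_e_rc_9_3 lc_e_rc_18_1 lc_e_Cert_tree lc_e_rc_18_1 lc_e_rc_18_1 lc_e_Cert_tree lc_e_rc_16_1 lc_e_rc_16_1 lc_e_rc_19_4 lc_e_rc_16_3 lc_e_rc_13_3 lc_e_rc_9_3 lc_e_rc_16_3) (@D3.rec (fun _ => (Cert rels S Gen.e)) lc_e_rc_16_3 lc_e_Cert_tree lc_e_rc_18_1 lc_e_rc_4_1 lc_e_rc_16_1 lc_e_Cert_tree lc_e_Cert_tree lc_e_rc_13_3 lc_e_Cert_tree lc_e_Cert_tree lc_e_rc_9_3 lc_e_Cert_tree lc_e_Cert_tree lc_e_rc_13_3 lc_e_Cert_tree lc_e_rc_18_1 lc_e_rc_19_2 lc_e_Cert_tree lc_e_Cert_tree lc_e_rc_18_1 lc_e_rc_18_1 lc_e_rc_27_7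 lc_e_rc_18_1 lc_e_Cert_tree lc_e_rc_27_7 lc_e_rc_18_1 lc_e_rc_13_1 lc_e_rc_4_3 lc_e_rc_9_3 lc_e_Cert_tree lc_e_rc_18_1 lc_e_Cert_tree lc_e_rc_18_1 lc_e_rc_18_1 lc_e_rc_4_1 lc_e_Cert_tree lc_e_rc_18_1 lc_e_rc_13_3 lc_e_Cert_tree lc_e_rc_18_1 lc_e_rc_27_5 lc_e_rc_27_1 lc_e_rc_4_3 lc_e_rc_9_1 lc_e_rc_9_3 lc_e_rc_18_1 lc_e_Cert_tree lc_e_rc_18_1 lc_e_rc_16_3 lc_e_rc_18_1 lc_e_rc_18_1 lc_e_rc_4_1 lc_e_rc_9_3 lc_e_rc_16_3 lc_e_rc_19_2 lc_e_rc_16_3 lc_e_rc_13_1 lc_e_rc_18_1 lc_e_rc_4_1 lc_e_rc_13_3 lc_e_rc_18_1 lc_e_Cert_tree) (@D3.rec (fun _ => (Cert rels S Gen.e)) lc_e_rc_13_3 lc_e_rc_16_1 lc_e_rc_19_4 lc_e_Cert_tree lc_e_Cert_tree lc_e_rc_18_1 lc_e_Cert_tree lc_e_rc_4_1 lc_e_Cert_tree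 lc_e_rc_18_1 lc_e_rc_13_3 lc_e_Cert_tree lc_e_rc_13_3 lc_e_Cert_tree lc_e_rc_9_3 lc_e_Cert_tree lc_e_Cert_tree lc_e_rc_18_1 lc_e_Cert_tree lc_e_rc_13_3 lc_e_Cert_tree lc_e_Cert_tree lc_e_rc_18_1 lc_e_Cert_tree lc_e_Cert_tree lc_e_rc_9_3 lc_e_Cert_tree lc_e_rc_18_1 lc_e_rc_18_1 lc_e_rc_16_3 lc_e_rc_16_3 lc_e_rc_9_1 lc_e_rc_16_3 lc_e_rc_27_5 lc_e_rc_13_3 lc_e_rc_18_1 lc_e_Cert_tree lc_e_rc_18_1 lc_e_Cert_tree lc_e_rc_13_3 lc_e_rc_18_1 lc_e_rc_13_3 lc_e_rc_18_1 lc_e_Cert_tree lc_e_rc_18_1 lc_e_rc_4_3 lc_e_rc_18_1 lc_e_rc_16_3 lc_e_rc_19_2 lc_e_Cert_tree lc_e_rc_18_1 lc_e_rc_16_5 lc_e_Cert_tree lc_e_rc_13_3 lc_e_rc_4_3 lc_e_Cert_tree lc_e_Cert_tree lc_e_rc_4_3 lc_e_rc_18_1 lc_e_rc_27_5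 lc_e_rc_27_5 lc_e_rc_16_3) (@D3.rec (fun _ => (Cert rels S Gen.e)) lc_e_rc_16_5 lc_e_rc_16_5 lc_e_rc_4_3 lc_e_rc_16_5 lc_e_rc_13_3 lc_e_Cert_tree lc_e_rc_16_5 lc_e_rc_27_1 lc_e_rc_18_1 lc_e_rc_9_3 lc_e_rc_27_5 lc_e_Cert_tree lc_e_rc_16_5 lc_e_rc_9_3 lc_e_Cert_tree lc_e_rc_19_0 lc_e_rc_16_3 lc_e_Cert_tree lc_e_rc_18_1 lc_e_rc_18_1 lc_e_Cert_tree lc_e_rc_16_3 lc_e_Cert_tree lc_e_rc_18_1 lc_e_rc_27_7 lc_e_rc_27_7 lc_e_rc_16_1 lc_e_rc_9_3 lc_e_Cert_tree lc_e_Cert_tree lc_e_rc_18_1 lc_e_Cert_tree lc_e_rc_18_1 lc_e_rc_27_7 lc_e_Cert_tree lc_e_rc_9_3 lc_e_rc_18_1 lc_e_Cert_tree lc_e_rc_16_1 lc_e_Cert_tree lc_e_Cert_tree lc_e_rc_18_1 lc_e_Cert_tree lc_e_Cert_tree lc_e_Cert_tree lc_e_rc_18_1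 lc_e_rc_13_3 lc_e_Cert_tree lc_e_rc_16_1 lc_e_Cert_tree lc_e_rc_18_1 lc_e_rc_9_3 lc_e_rc_16_1 lc_e_rc_19_2 lc_e_rc_18_1 lc_e_Cert_tree lc_e_Cert_tree lc_e_rc_9_1 lc_e_rc_18_1 lc_e_Cert_tree lc_e_rc_27_5 lc_e_rc_9_3) (@D3.rec (fun _ => (Cert rels S Gen.e)) lc_e_rc_27_5 lc_e_Cert_tree lc_e_rc_16_1 lc_e_rc_16_3 lc_e_Cert_tree lc_e_Cert_tree lc_e_rc_18_1 lc_e_rc_18_1 lc_e_Cert_tree lc_e_rc_18_1 lc_e_rc_18_1 lc_e_rc_27_7 lc_e_rc_16_5 lc_e_rc_18_1 lc_e_Cert_tree lc_e_rc_18_1 lc_e_Cert_tree lc_e_Cert_tree lc_e_rc_4_3 lc_e_Cert_tree lc_e_Cert_tree lc_e_rc_18_1 lc_e_rc_18_1 lc_e_Cert_tree lc_e_Cert_tree lc_e_rc_9_3 lc_e_rc_27_1 lc_e_rc_9_1 lc_e_rc_9_3 lc_e_Cert_tree lc_e_Cert_tree lc_e_rc_18_1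 lc_e_rc_19_2 lc_e_rc_16_3 lc_e_Cert_tree lc_e_rc_18_1 lc_e_Cert_tree lc_e_Cert_tree lc_e_rc_18_1 lc_e_rc_9_3 lc_e_rc_13_3 lc_e_rc_13_3 lc_e_Cert_tree lc_e_rc_18_1 lc_e_Cert_tree lc_e_rc_27_5 lc_e_rc_18_1 lc_e_rc_27_1 lc_e_rc_19_4 lc_e_rc_27_7 lc_e_rc_9_3 lc_e_Cert_tree lc_e_rc_9_3 lc_e_Cert_tree lc_e_rc_9_1 lc_e_Cert_tree lc_e_rc_9_3 lc_e_rc_27_7 lc_e_Cert_tree lc_e_Cert_tree lc_e_rc_18_1 lc_e_rc_18_1) (@D3.rec (fun _ => (Cert rels S Gen.e)) lc_e_rc_19_0 lc_e_Cert_tree lc_e_rc_27_1 lc_e_rc_18_1 lc_e_Cert_tree lc_e_rc_9_3 lc_e_Cert_tree lc_e_rc_18_1 lc_e_rc_27_5 lc_e_rc_13_1 lc_e_Cert_tree lc_e_Cert_tree lc_e_rc_18_1 lc_e_Cert_tree lc_e_Cert_tree lc_e_Cert_tree lc_e_rc_18_1 lc_e_rc_27_5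 lc_e_rc_16_1 lc_e_rc_19_0 lc_e_rc_18_1 lc_e_rc_27_5 lc_e_Cert_tree lc_e_rc_16_1 lc_e_rc_13_3 lc_e_rc_18_1 lc_e_rc_27_7 lc_e_rc_18_1 lc_e_rc_13_3 lc_e_rc_9_3 lc_e_Cert_tree lc_e_rc_18_1 lc_e_rc_18_1 lc_e_rc_9_3 lc_e_rc_4_3 lc_e_Cert_tree lc_e_rc_18_1 lc_e_rc_18_1 lc_e_rc_27_5 lc_e_rc_4_3 lc_e_rc_18_1 lc_e_rc_18_1 lc_e_rc_18_1 lc_e_rc_13_3 lc_e_rc_18_1 lc_e_Cert_tree lc_e_rc_18_1 lc_e_rc_9_3 lc_e_Cert_tree lc_e_Cert_tree lc_e_rc_18_1 lc_e_Cert_tree lc_e_rc_18_1 lc_e_rc_18_1 lc_e_rc_19_2 lc_e_rc_19_4 lc_e_rc_27_5 lc_e_Cert_tree lc_e_rc_19_0 lc_e_rc_16_1 lc_e_rc_19_0 lc_e_rc_16_3) (@D3.rec (fun _ => (Cert rels S Gen.e)) lc_e_rc_18_1 lc_e_rc_4_3 lc_e_rc_27_5 lc_e_rc_18_1 lc_e_rc_4_3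 lc_e_rc_9_3 lc_e_Cert_tree lc_e_rc_27_7 lc_e_rc_18_1 lc_e_rc_27_1 lc_e_Cert_tree lc_e_rc_18_1 lc_e_Cert_tree lc_e_Cert_tree lc_e_rc_13_3 lc_e_rc_13_3 lc_e_rc_27_1 lc_e_rc_16_1 lc_e_rc_18_1 lc_e_rc_18_1 lc_e_rc_13_3 lc_e_Cert_tree lc_e_rc_18_1 lc_e_rc_19_2 lc_e_rc_9_3 lc_e_rc_16_1 lc_e_rc_19_2 lc_e_Cert_tree lc_e_rc_18_1 lc_e_Cert_tree lc_e_rc_18_1 lc_e_Cert_tree lc_e_rc_18_1 lc_e_rc_18_1 lc_e_rc_13_3 lc_e_Cert_tree lc_e_rc_18_1 lc_e_Cert_tree lc_e_rc_18_1 lc_e_Cert_tree lc_e_rc_27_7 lc_e_rc_27_1 lc_e_rc_18_1 lc_e_Cert_tree lc_e_rc_16_5 lc_e_rc_16_1 lc_e_rc_4_3 lc_e_rc_9_3 lc_e_rc_18_1 lc_e_rc_13_3 lc_e_rc_18_1 lc_e_Cert_tree lc_e_Cert_tree lc_e_rc_9_1 lc_e_rc_16_3 lc_e_rc_19_4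 lc_e_rc_9_3 lc_e_rc_16_5 lc_e_rc_9_3 lc_e_Cert_tree lc_e_rc_13_3 lc_e_Cert_tree) (@D3.rec (fun _ => (Cert rels S Gen.e)) lc_e_rc_18_1 lc_e_Cert_tree lc_e_Cert_tree lc_e_rc_18_1 lc_e_rc_27_1 lc_e_rc_9_3 lc_e_rc_9_3 lc_e_rc_4_3 lc_e_Cert_tree lc_e_rc_18_1 lc_e_rc_13_3 lc_e_rc_18_1 lc_e_rc_19_4 lc_e_rc_9_3 lc_e_rc_16_3 lc_e_rc_27_1 lc_e_rc_18_1 lc_e_rc_18_1 lc_e_rc_19_4 lc_e_rc_4_3 lc_e_rc_27_5 lc_e_rc_27_1 lc_e_rc_19_4 lc_e_Cert_tree lc_e_rc_18_1 lc_e_rc_9_3 lc_e_rc_4_1 lc_e_rc_16_3 lc_e_rc_18_1 lc_e_rc_18_1 lc_e_rc_13_3 lc_e_rc_19_4 lc_e_rc_4_3 lc_e_rc_18_1 lc_e_Cert_tree lc_e_rc_18_1 lc_e_rc_4_3 lc_e_rc_9_3 lc_e_rc_27_5 lc_e_rc_16_5 lc_e_Cert_tree lc_e_rc_4_3 lc_e_Cert_tree lc_e_rc_18_1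 lc_e_Cert_tree lc_e_rc_13_3 lc_e_rc_18_1 lc_e_Cert_tree lc_e_Cert_tree lc_e_Cert_tree lc_e_rc_18_1 lc_e_rc_9_3 lc_e_rc_13_3 lc_e_rc_4_3 lc_e_Cert_tree lc_e_rc_18_1 lc_e_rc_13_1 lc_e_rc_9_3 lc_e_Cert_tree lc_e_rc_18_1 lc_e_Cert_tree lc_e_rc_27_7) (@D3.rec (fun _ => (Cert rels S Gen.e)) lc_e_rc_4_3 lc_e_Cert_tree lc_e_rc_18_1 lc_e_rc_4_1 lc_e_rc_27_7 lc_e_rc_16_3 lc_e_rc_4_3 lc_e_rc_4_3 lc_e_Cert_tree lc_e_rc_19_0 lc_e_Cert_tree lc_e_Cert_tree lc_e_rc_16_1 lc_e_Cert_tree lc_e_rc_18_1 lc_e_Cert_tree lc_e_rc_18_1 lc_e_Cert_tree lc_e_rc_18_1 lc_e_Cert_tree lc_e_rc_18_1 lc_e_rc_27_7 lc_e_Cert_tree lc_e_rc_19_4 lc_e_rc_18_1 lc_e_rc_18_1 lc_e_rc_16_3 lc_e_rc_16_5 lc_e_rc_18_1 lc_e_rc_18_1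 lc_e_rc_16_3 lc_e_Cert_tree lc_e_rc_13_3 lc_e_rc_16_3 lc_e_rc_19_4 lc_e_rc_16_5 lc_e_Cert_tree lc_e_rc_13_3 lc_e_rc_19_4 lc_e_Cert_tree lc_e_Cert_tree lc_e_Cert_tree lc_e_rc_18_1 lc_e_rc_13_1 lc_e_Cert_tree lc_e_rc_27_5 lc_e_rc_18_1 lc_e_rc_13_1 lc_e_Cert_tree lc_e_Cert_tree lc_e_rc_18_1 lc_e_rc_13_3 lc_e_Cert_tree lc_e_rc_19_0 lc_e_Cert_tree lc_e_rc_27_1 lc_e_rc_18_1 lc_e_Cert_tree lc_e_rc_18_1 lc_e_rc_18_1 lc_e_rc_19_2 lc_e_rc_16_3) (@D3.rec (fun _ => (Cert rels S Gen.e)) lc_e_Cert_tree lc_e_rc_18_1 lc_e_rc_27_7 lc_e_Cert_tree lc_e_rc_18_1 lc_e_Cert_tree lc_e_rc_18_1 lc_e_rc_13_3 lc_e_rc_4_3 lc_e_rc_4_3 lc_e_rc_18_1 lc_e_Cert_tree lc_e_rc_18_1 lc_e_rc_13_3 lc_e_rc_16_1 lc_e_rc_9_3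 lc_e_Cert_tree lc_e_Cert_tree lc_e_rc_18_1 lc_e_rc_9_3 lc_e_Cert_tree lc_e_rc_18_1 lc_e_Cert_tree lc_e_rc_18_1 lc_e_Cert_tree lc_e_Cert_tree lc_e_rc_16_3 lc_e_rc_9_3 lc_e_rc_13_3 lc_e_Cert_tree lc_e_rc_9_3 lc_e_Cert_tree lc_e_rc_16_3 lc_e_rc_13_1 lc_e_rc_16_3 lc_e_rc_18_1 lc_e_rc_9_1 lc_e_rc_16_1 lc_e_rc_18_1 lc_e_rc_9_1 lc_e_Cert_tree lc_e_rc_13_3 lc_e_Cert_tree lc_e_rc_18_1 lc_e_rc_16_3 lc_e_rc_19_4 lc_e_rc_18_1 lc_e_rc_16_3 lc_e_rc_27_5 lc_e_Cert_tree lc_e_rc_18_1 lc_e_Cert_tree lc_e_rc_27_5 lc_e_rc_18_1 lc_e_Cert_tree lc_e_Cert_tree lc_e_rc_13_3 lc_e_rc_9_1 lc_e_Cert_tree lc_e_rc_18_1 lc_e_rc_18_1 lc_e_Cert_tree) (@D3.rec (fun _ => (Cert rels S Gen.e)) lc_e_rc_18_1 lc_e_Cert_tree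 lc_e_rc_18_1 lc_e_rc_18_1 lc_e_rc_18_1 lc_e_Cert_tree lc_e_Cert_tree lc_e_rc_18_1 lc_e_rc_16_1 lc_e_rc_13_3 lc_e_rc_18_1 lc_e_rc_9_3 lc_e_Cert_tree lc_e_rc_16_3 lc_e_rc_13_1 lc_e_rc_4_1 lc_e_rc_16_3 lc_e_rc_4_3 lc_e_rc_4_3 lc_e_rc_16_1 lc_e_rc_19_4 lc_e_rc_4_3 lc_e_Cert_tree lc_e_rc_18_1 lc_e_Cert_tree lc_e_rc_18_1 lc_e_Cert_tree lc_e_rc_4_3 lc_e_rc_13_1 lc_e_rc_19_4 lc_e_rc_9_1 lc_e_Cert_tree lc_e_rc_18_1 lc_e_rc_16_3 lc_e_Cert_tree lc_e_Cert_tree lc_e_rc_13_3 lc_e_rc_16_1 lc_e_Cert_tree lc_e_rc_18_1 lc_e_Cert_tree lc_e_rc_18_1 lc_e_rc_9_3 lc_e_Cert_tree lc_e_Cert_tree lc_e_rc_18_1 lc_e_Cert_tree lc_e_rc_18_1 lc_e_Cert_tree lc_e_Cert_tree lc_e_rc_18_1 lc_e_Cert_tree lc_e_Cert_tree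 lc_e_rc_18_1 lc_e_Cert_tree lc_e_rc_27_7 lc_e_rc_9_3 lc_e_Cert_tree lc_e_rc_18_1 lc_e_Cert_tree lc_e_rc_18_1 lc_e_Cert_tree) (@D3.rec (fun _ => (Cert rels S Gen.e)) lc_e_rc_18_1 lc_e_rc_13_3 lc_e_rc_16_3 lc_e_rc_18_1 lc_e_rc_18_1 lc_e_Cert_tree lc_e_rc_18_1 lc_e_rc_16_1 lc_e_rc_18_1 lc_e_rc_16_1 lc_e_rc_27_7 lc_e_rc_18_1 lc_e_rc_16_1 lc_e_rc_18_1 lc_e_Cert_tree lc_e_rc_16_1 lc_e_rc_19_4 lc_e_rc_27_7 lc_e_Cert_tree lc_e_Cert_tree lc_e_rc_18_1 lc_e_rc_9_3 lc_e_Cert_tree lc_e_Cert_tree lc_e_Cert_tree lc_e_rc_13_3 lc_e_Cert_tree lc_e_rc_18_1 lc_e_rc_16_3 lc_e_rc_18_1 lc_e_Cert_tree lc_e_Cert_tree lc_e_rc_19_4 lc_e_rc_18_1 lc_e_Cert_tree lc_e_rc_16_3 lc_e_rc_19_2 lc_e_rc_18_1 lc_e_rc_9_1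 lc_e_rc_16_3 lc_e_rc_4_3 lc_e_rc_16_1 lc_e_Cert_tree lc_e_Cert_tree lc_e_rc_18_1 lc_e_Cert_tree lc_e_rc_18_1 lc_e_rc_27_5 lc_e_rc_27_5 lc_e_rc_27_1 lc_e_rc_16_1 lc_e_rc_27_1 lc_e_rc_18_1 lc_e_rc_4_3 lc_e_rc_16_1 lc_e_rc_4_3 lc_e_rc_16_1 lc_e_rc_13_3 lc_e_rc_16_1 lc_e_rc_18_1 lc_e_rc_9_1 lc_e_rc_18_1) (@D3.rec (fun _ => (Cert rels S Gen.e)) lc_e_rc_9_1 lc_e_rc_13_1 lc_e_rc_13_1 lc_e_rc_18_1 lc_e_rc_18_1 lc_e_rc_18_1 lc_e_Cert_tree lc_e_Cert_tree lc_e_rc_16_3 lc_e_rc_13_3 lc_e_rc_9_3 lc_e_rc_16_5 lc_e_rc_13_1 lc_e_rc_27_5 lc_e_rc_13_3 lc_e_rc_19_4 lc_e_rc_18_1 lc_e_Cert_tree lc_e_Cert_tree lc_e_rc_18_1 lc_e_Cert_tree lc_e_Cert_tree lc_e_rc_18_1 lc_e_rc_19_2 lc_e_rc_13_1 lc_e_rc_16_3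 lc_e_rc_18_1 lc_e_rc_27_5 lc_e_rc_16_3 lc_e_rc_16_1 lc_e_rc_18_1 lc_e_rc_27_7 lc_e_rc_16_5 lc_e_rc_18_1 lc_e_rc_16_5 lc_e_rc_9_3 lc_e_rc_16_5 lc_e_rc_4_1 lc_e_rc_18_1 lc_e_rc_9_3 lc_e_rc_18_1 lc_e_rc_18_1 lc_e_rc_18_1 lc_e_rc_18_1 lc_e_rc_18_1 lc_e_rc_27_1 lc_e_rc_18_1 lc_e_rc_18_1 lc_e_rc_18_1 lc_e_rc_18_1 lc_e_rc_16_1 lc_e_rc_18_1 lc_e_rc_13_3 lc_e_rc_18_1 lc_e_rc_18_1 lc_e_Cert_tree lc_e_Cert_tree lc_e_rc_18_1 lc_e_rc_16_3 lc_e_Cert_tree lc_e_Cert_tree lc_e_rc_18_1) (@D3.rec (fun _ => (Cert rels S Gen.e)) lc_e_Cert_tree lc_e_rc_18_1 lc_e_Cert_tree lc_e_Cert_tree lc_e_rc_13_3 lc_e_rc_18_1 lc_e_Cert_tree lc_e_Cert_tree lc_e_rc_18_1 lc_e_Cert_tree lc_e_rc_18_1 lc_e_Cert_tree lc_e_rc_27_7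 lc_e_rc_13_1 lc_e_rc_18_1 lc_e_rc_27_7 lc_e_Cert_tree lc_e_rc_16_1 lc_e_rc_9_3 lc_e_Cert_tree lc_e_Cert_tree lc_e_rc_18_1 lc_e_rc_13_1 lc_e_rc_18_1 lc_e_Cert_tree lc_e_Cert_tree lc_e_Cert_tree lc_e_rc_18_1 lc_e_rc_18_1 lc_e_Cert_tree lc_e_rc_16_1 lc_e_rc_19_4 lc_e_rc_13_3 lc_e_Cert_tree lc_e_rc_4_3 lc_e_Cert_tree lc_e_rc_18_1 lc_e_rc_19_0 lc_e_Cert_tree lc_e_rc_13_3 lc_e_Cert_tree lc_e_rc_18_1 lc_e_rc_18_1 lc_e_rc_4_1 lc_e_rc_18_1 lc_e_rc_16_1 lc_e_rc_4_3 lc_e_rc_18_1 lc_e_rc_19_0 lc_e_rc_16_3 lc_e_rc_16_1 lc_e_rc_19_4 lc_e_rc_13_1 lc_e_Cert_tree lc_e_Cert_tree lc_e_rc_18_1 lc_e_rc_9_3 lc_e_rc_18_1 lc_e_rc_27_7 lc_e_Cert_tree lc_e_rc_16_3 lc_e_rc_19_4) (@D3.rec (fun _ => (Cert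 rels S Gen.e)) lc_e_rc_16_3 lc_e_Cert_tree lc_e_Cert_tree lc_e_rc_19_4 lc_e_Cert_tree lc_e_rc_18_1 lc_e_rc_18_1 lc_e_Cert_tree lc_e_rc_9_3 lc_e_rc_16_5 lc_e_rc_19_2 lc_e_rc_18_1 lc_e_rc_18_1 lc_e_Cert_tree lc_e_Cert_tree lc_e_rc_16_3 lc_e_rc_13_3 lc_e_Cert_tree lc_e_rc_18_1 lc_e_Cert_tree lc_e_rc_19_4 lc_e_rc_18_1 lc_e_Cert_tree lc_e_rc_18_1 lc_e_Cert_tree lc_e_rc_18_1 lc_e_Cert_tree lc_e_Cert_tree lc_e_rc_18_1 lc_e_Cert_tree lc_e_Cert_tree lc_e_rc_18_1 lc_e_Cert_tree lc_e_Cert_tree lc_e_rc_9_3 lc_e_Cert_tree lc_e_rc_18_1 lc_e_Cert_tree lc_e_rc_18_1 lc_e_Cert_tree lc_e_rc_18_1 lc_e_rc_13_1 lc_e_rc_13_3 lc_e_rc_4_1 lc_e_rc_18_1 lc_e_rc_9_3 lc_e_Cert_tree lc_e_Cert_tree lc_e_rc_18_1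 lc_e_rc_27_5 lc_e_rc_27_7 lc_e_rc_19_0 lc_e_rc_18_1 lc_e_rc_27_7 lc_e_rc_27_1 lc_e_rc_9_3 lc_e_Cert_tree lc_e_Cert_tree lc_e_rc_18_1 lc_e_rc_27_5 lc_e_Cert_tree lc_e_rc_18_1) (@D3.rec (fun _ => (Cert rels S Gen.e)) lc_e_rc_13_3 lc_e_Cert_tree lc_e_rc_16_1 lc_e_rc_19_2 lc_e_rc_9_3 lc_e_Cert_tree lc_e_rc_13_3 lc_e_Cert_tree lc_e_rc_19_4 lc_e_rc_16_1 lc_e_rc_27_5 lc_e_Cert_tree lc_e_rc_27_7 lc_e_rc_18_1 lc_e_rc_18_1 lc_e_rc_16_1 lc_e_rc_19_4 lc_e_Cert_tree lc_e_rc_18_1 lc_e_rc_16_3 lc_e_rc_18_1 lc_e_rc_27_5 lc_e_rc_13_1 lc_e_rc_19_4 lc_e_rc_27_7 lc_e_rc_13_3 lc_e_rc_18_1 lc_e_rc_18_1 lc_e_rc_4_1 lc_e_rc_9_1 lc_e_rc_18_1 lc_e_rc_18_1 lc_e_rc_18_1 lc_e_rc_16_1 lc_e_rc_18_1 lc_e_rc_9_3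 lc_e_rc_4_3 lc_e_rc_4_1 lc_e_rc_18_1 lc_e_rc_4_1 lc_e_Cert_tree lc_e_rc_18_1 lc_e_rc_13_3 lc_e_rc_27_5 lc_e_Cert_tree lc_e_Cert_tree lc_e_Cert_tree lc_e_Cert_tree lc_e_rc_18_1 lc_e_rc_9_3 lc_e_Cert_tree lc_e_Cert_tree lc_e_rc_18_1 lc_e_Cert_tree lc_e_rc_18_1 lc_e_rc_16_1 lc_e_rc_27_5 lc_e_rc_13_3 lc_e_Cert_tree lc_e_rc_16_3 lc_e_rc_18_1 lc_e_rc_18_1) (@D3.rec (fun _ => (Cert rels S Gen.e)) lc_e_rc_27_5 lc_e_rc_18_1 lc_e_rc_16_5 lc_e_rc_13_3 lc_e_Cert_tree lc_e_rc_18_1 lc_e_Cert_tree lc_e_rc_18_1 lc_e_Cert_tree lc_e_rc_18_1 lc_e_Cert_tree lc_e_rc_18_1 lc_e_rc_19_4 lc_e_Cert_tree lc_e_rc_27_5 lc_e_rc_4_3 lc_e_rc_9_3 lc_e_rc_27_1 lc_e_rc_18_1 lc_e_Cert_tree lc_e_rc_27_7 lc_e_rc_18_1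 lc_e_rc_16_1 lc_e_rc_9_3 lc_e_rc_4_3 lc_e_Cert_tree lc_e_rc_18_1 lc_e_rc_16_5 lc_e_rc_18_1 lc_e_rc_16_1 lc_e_rc_13_3 lc_e_Cert_tree lc_e_Cert_tree lc_e_rc_18_1 lc_e_Cert_tree lc_e_rc_18_1 lc_e_Cert_tree lc_e_Cert_tree lc_e_rc_18_1 lc_e_rc_19_2 lc_e_Cert_tree lc_e_rc_18_1 lc_e_Cert_tree lc_e_rc_18_1 lc_e_rc_13_3 lc_e_rc_9_3 lc_e_rc_27_1 lc_e_Cert_tree lc_e_rc_13_3 lc_e_Cert_tree lc_e_Cert_tree lc_e_rc_18_1 lc_e_Cert_tree lc_e_Cert_tree lc_e_Cert_tree lc_e_rc_18_1 lc_e_Cert_tree lc_e_Cert_tree lc_e_rc_18_1 lc_e_Cert_tree lc_e_rc_9_3 lc_e_rc_18_1) (@D3.rec (fun _ => (Cert rels S Gen.e)) lc_e_Cert_tree lc_e_rc_27_5 lc_e_Cert_tree lc_e_Cert_tree lc_e_rc_18_1 lc_e_rc_27_5 lc_e_Cert_tree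 lc_e_rc_19_4 lc_e_rc_18_1 lc_e_rc_13_1 lc_e_rc_9_3 lc_e_rc_16_1 lc_e_rc_9_3 lc_e_rc_27_7 lc_e_rc_18_1 lc_e_rc_13_3 lc_e_rc_16_1 lc_e_rc_13_3 lc_e_rc_27_5 lc_e_rc_19_2 lc_e_Cert_tree lc_e_Cert_tree lc_e_rc_18_1 lc_e_rc_9_3 lc_e_Cert_tree lc_e_rc_18_1 lc_e_rc_27_5 lc_e_rc_18_1 lc_e_rc_9_3 lc_e_Cert_tree lc_e_rc_9_1 lc_e_rc_9_3 lc_e_Cert_tree lc_e_Cert_tree lc_e_rc_18_1 lc_e_Cert_tree lc_e_rc_18_1 lc_e_Cert_tree lc_e_rc_13_1 lc_e_rc_18_1 lc_e_rc_19_4 lc_e_Cert_tree lc_e_rc_18_1 lc_e_rc_27_5 lc_e_Cert_tree lc_e_rc_13_3 lc_e_rc_16_3 lc_e_rc_18_1 lc_e_Cert_tree lc_e_rc_27_7 lc_e_rc_16_1 lc_e_rc_19_4 lc_e_rc_18_1 lc_e_rc_13_1 lc_e_rc_16_5 lc_e_rc_27_5 lc_e_rc_13_1 lc_e_rc_27_5 lc_e_rc_27_7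 lc_e_rc_13_1 lc_e_rc_9_3 lc_e_rc_18_1) (@D3.rec (fun _ => (Cert rels S Gen.e)) lc_e_rc_18_1 lc_e_Cert_tree lc_e_rc_19_4 lc_e_rc_9_3 lc_e_rc_4_3 lc_e_Cert_tree lc_e_rc_18_1 lc_e_rc_18_1 lc_e_rc_27_5 lc_e_Cert_tree lc_e_rc_18_1 lc_e_rc_13_3 lc_e_rc_13_3 lc_e_rc_19_2 lc_e_rc_18_1 lc_e_Cert_tree lc_e_rc_13_3 lc_e_rc_4_3 lc_e_Cert_tree lc_e_rc_18_1 lc_e_Cert_tree lc_e_rc_27_5 lc_e_rc_4_3 lc_e_rc_27_5 lc_e_rc_18_1 lc_e_rc_13_3 lc_e_rc_18_1 lc_e_rc_9_1 lc_e_rc_18_1 lc_e_Cert_tree lc_e_Cert_tree lc_e_rc_19_4 lc_e_rc_18_1 lc_e_rc_13_3 lc_e_rc_13_3 lc_e_rc_18_1 lc_e_rc_16_1 lc_e_rc_16_1 lc_e_rc_16_3 lc_e_rc_18_1 lc_e_rc_19_4 lc_e_rc_18_1 lc_e_Cert_tree lc_e_rc_18_1 lc_e_rc_18_1 lc_e_rc_16_3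 lc_e_rc_4_1 lc_e_rc_9_3 lc_e_rc_4_3 lc_e_Cert_tree lc_e_Cert_tree lc_e_rc_18_1 lc_e_rc_19_2 lc_e_rc_19_2 lc_e_rc_27_5 lc_e_rc_18_1 lc_e_rc_16_3 lc_e_rc_18_1 lc_e_rc_16_1 lc_e_rc_4_3 lc_e_Cert_tree lc_e_rc_18_1) (@D3.rec (fun _ => (Cert rels S Gen.e)) lc_e_rc_4_3 lc_e_Cert_tree lc_e_rc_18_1 lc_e_rc_13_1 lc_e_Cert_tree lc_e_Cert_tree lc_e_rc_19_4 lc_e_rc_19_0 lc_e_rc_27_5 lc_e_rc_18_1 lc_e_Cert_tree lc_e_rc_18_1 lc_e_rc_9_3 lc_e_Cert_tree lc_e_Cert_tree lc_e_Cert_tree lc_e_rc_18_1 lc_e_rc_18_1 lc_e_rc_18_1 lc_e_Cert_tree lc_e_rc_18_1 lc_e_rc_13_1 lc_e_rc_16_5 lc_e_rc_18_1 lc_e_rc_9_1 lc_e_rc_13_3 lc_e_rc_9_3 lc_e_Cert_tree lc_e_Cert_tree lc_e_rc_4_3 lc_e_rc_18_1 lc_e_rc_13_3 lc_e_Cert_tree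 lc_e_rc_19_4 lc_e_rc_18_1 lc_e_rc_13_3 lc_e_rc_18_1 lc_e_rc_13_3 lc_e_rc_13_3 lc_e_Cert_tree lc_e_rc_18_1 lc_e_rc_27_1 lc_e_rc_18_1 lc_e_rc_18_1 lc_e_rc_9_1 lc_e_rc_19_2 lc_e_rc_18_1 lc_e_rc_9_1 lc_e_rc_18_1 lc_e_Cert_tree lc_e_rc_18_1 lc_e_rc_27_7 lc_e_rc_18_1 lc_e_rc_18_1 lc_e_rc_27_7 lc_e_rc_18_1 lc_e_rc_16_1 lc_e_rc_9_3 lc_e_rc_18_1 lc_e_rc_16_1 lc_e_rc_18_1 lc_e_rc_9_3) (@D3.rec (fun _ => (Cert rels S Gen.e)) lc_e_rc_9_3 lc_e_rc_4_3 lc_e_Cert_tree lc_e_Cert_tree lc_e_Cert_tree lc_e_rc_18_1 lc_e_Cert_tree lc_e_Cert_tree lc_e_rc_13_3 lc_e_rc_27_1 lc_e_rc_13_3 lc_e_Cert_tree lc_e_Cert_tree lc_e_rc_13_3 lc_e_Cert_tree lc_e_Cert_tree lc_e_Cert_tree lc_e_rc_18_1 lc_e_rc_18_1 lc_e_rc_4_1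 lc_e_Cert_tree lc_e_rc_18_1 lc_e_Cert_tree lc_e_rc_18_1 lc_e_Cert_tree lc_e_rc_9_3 lc_e_rc_18_1 lc_e_Cert_tree lc_e_Cert_tree lc_e_rc_18_1 lc_e_Cert_tree lc_e_Cert_tree lc_e_rc_9_1 lc_e_Cert_tree lc_e_rc_18_1 lc_e_Cert_tree lc_e_rc_4_1 lc_e_rc_4_3 lc_e_rc_19_2 lc_e_Cert_tree lc_e_rc_18_1 lc_e_rc_27_5 lc_e_Cert_tree lc_e_rc_18_1 lc_e_rc_13_3 lc_e_Cert_tree lc_e_Cert_tree lc_e_rc_18_1 lc_e_rc_18_1 lc_e_rc_27_1 lc_e_rc_9_1 lc_e_Cert_tree lc_e_rc_18_1 lc_e_rc_9_3 lc_e_rc_18_1 lc_e_Cert_tree lc_e_Cert_tree lc_e_rc_18_1 lc_e_rc_18_1 lc_e_rc_9_3 lc_e_rc_13_3 lc_e_Cert_tree) (@D3.rec (fun _ => (Cert rels S Gen.e)) lc_e_rc_13_3 lc_e_Cert_tree lc_e_Cert_tree lc_e_rc_18_1 lc_e_Cert_tree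 lc_e_Cert_tree lc_e_Cert_tree lc_e_rc_18_1 lc_e_Cert_tree lc_e_Cert_tree lc_e_rc_19_4 lc_e_Cert_tree lc_e_rc_4_1 lc_e_rc_18_1 lc_e_rc_19_2 lc_e_rc_16_5 lc_e_rc_4_1 lc_e_rc_27_5 lc_e_Cert_tree lc_e_Cert_tree lc_e_rc_13_3 lc_e_rc_9_1 lc_e_rc_16_3 lc_e_Cert_tree lc_e_Cert_tree lc_e_Cert_tree lc_e_rc_19_0 lc_e_Cert_tree lc_e_Cert_tree lc_e_rc_18_1 lc_e_rc_13_1 lc_e_rc_18_1 lc_e_rc_27_5 lc_e_Cert_tree lc_e_rc_18_1 lc_e_Cert_tree lc_e_Cert_tree lc_e_rc_18_1 lc_e_Cert_tree lc_e_Cert_tree lc_e_rc_18_1 lc_e_rc_27_1 lc_e_Cert_tree lc_e_rc_9_3 lc_e_Cert_tree lc_e_rc_18_1 lc_e_rc_4_3 lc_e_rc_18_1 lc_e_rc_18_1 lc_e_rc_9_3 lc_e_Cert_tree lc_e_rc_9_3 lc_e_rc_27_7 lc_e_rc_18_1 lc_e_rc_4_3 lc_e_rc_19_0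 lc_e_rc_18_1 lc_e_rc_18_1 lc_e_rc_18_1 lc_e_rc_18_1 lc_e_rc_9_1 lc_e_Cert_tree) (@D3.rec (fun _ => (Cert rels S Gen.e)) lc_e_rc_16_3 lc_e_rc_9_1 lc_e_Cert_tree lc_e_rc_18_1 lc_e_Cert_tree lc_e_rc_13_3 lc_e_rc_27_1 lc_e_Cert_tree lc_e_rc_13_3 lc_e_rc_13_3 lc_e_rc_13_3 lc_e_rc_19_4 lc_e_rc_18_1 lc_e_Cert_tree lc_e_rc_4_3 lc_e_rc_18_1 lc_e_rc_27_7 lc_e_rc_4_1 lc_e_rc_4_1 lc_e_rc_18_1 lc_e_rc_9_3 lc_e_rc_18_1 lc_e_rc_16_3 lc_e_rc_13_1 lc_e_rc_27_7 lc_e_rc_4_3 lc_e_rc_16_3 lc_e_rc_18_1 lc_e_rc_16_1 lc_e_rc_18_1 lc_e_rc_13_1 lc_e_Cert_tree lc_e_Cert_tree lc_e_Cert_tree lc_e_rc_13_3 lc_e_rc_16_3 lc_e_rc_9_3 lc_e_rc_16_5 lc_e_Cert_tree lc_e_Cert_tree lc_e_rc_13_3 lc_e_Cert_tree lc_e_rc_18_1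 lc_e_rc_18_1 lc_e_rc_27_1 lc_e_Cert_tree lc_e_rc_9_3 lc_e_Cert_tree lc_e_rc_18_1 lc_e_rc_16_3 lc_e_rc_9_3 lc_e_rc_16_5 lc_e_rc_27_5 lc_e_rc_18_1 lc_e_Cert_tree lc_e_Cert_tree lc_e_rc_13_3 lc_e_Cert_tree lc_e_rc_18_1 lc_e_rc_27_5 lc_e_Cert_tree lc_e_rc_27_7) (@D3.rec (fun _ => (Cert rels S Gen.e)) lc_e_rc_18_1 lc_e_Cert_tree lc_e_rc_18_1 lc_e_rc_27_7 lc_e_rc_16_5 lc_e_rc_13_3 lc_e_rc_16_1 lc_e_rc_13_3 lc_e_rc_13_3 lc_e_rc_13_3 lc_e_rc_16_3 lc_e_rc_19_4 lc_e_Cert_tree lc_e_Cert_tree lc_e_rc_13_3 lc_e_Cert_tree lc_e_Cert_tree lc_e_rc_4_3 lc_e_Cert_tree lc_e_Cert_tree lc_e_rc_18_1 lc_e_rc_16_1 lc_e_Cert_tree lc_e_Cert_tree lc_e_rc_18_1 lc_e_Cert_tree lc_e_rc_18_1 lc_e_Cert_tree lc_e_rc_18_1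 lc_e_Cert_tree lc_e_Cert_tree lc_e_Cert_tree lc_e_rc_18_1 lc_e_rc_19_0 lc_e_Cert_tree lc_e_Cert_tree lc_e_rc_18_1 lc_e_Cert_tree lc_e_Cert_tree lc_e_Cert_tree lc_e_Cert_tree lc_e_rc_18_1 lc_e_rc_18_1 lc_e_rc_18_1 lc_e_rc_16_1 lc_e_Cert_tree lc_e_rc_16_5 lc_e_rc_18_1 lc_e_Cert_tree lc_e_rc_18_1 lc_e_Cert_tree lc_e_Cert_tree lc_e_Cert_tree lc_e_Cert_tree lc_e_rc_18_1 lc_e_rc_27_5 lc_e_Cert_tree lc_e_rc_16_1 lc_e_rc_18_1 lc_e_rc_13_3 lc_e_rc_19_0 lc_e_Cert_tree) (@D3.rec (fun _ => (Cert rels S Gen.e)) lc_e_rc_27_5 lc_e_rc_18_1 lc_e_rc_19_4 lc_e_rc_18_1 lc_e_rc_18_1 lc_e_rc_18_1 lc_e_rc_18_1 lc_e_rc_27_7 lc_e_rc_13_3 lc_e_rc_19_2 lc_e_rc_18_1 lc_e_Cert_tree lc_e_Cert_tree lc_e_rc_18_1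 lc_e_Cert_tree lc_e_rc_18_1 lc_e_rc_19_4 lc_e_Cert_tree lc_e_Cert_tree lc_e_rc_18_1 lc_e_rc_18_1 lc_e_rc_18_1 lc_e_rc_13_1 lc_e_rc_16_3 lc_e_rc_18_1 lc_e_rc_18_1 lc_e_Cert_tree lc_e_rc_19_4 lc_e_Cert_tree lc_e_Cert_tree lc_e_rc_13_1 lc_e_rc_18_1 lc_e_Cert_tree lc_e_Cert_tree lc_e_rc_18_1 lc_e_Cert_tree lc_e_rc_18_1 lc_e_rc_19_4 lc_e_Cert_tree lc_e_rc_18_1 lc_e_Cert_tree lc_e_rc_13_3 lc_e_rc_18_1 lc_e_rc_9_3 lc_e_rc_4_3 lc_e_rc_16_5 lc_e_Cert_tree lc_e_Cert_tree lc_e_Cert_tree lc_e_rc_18_1 lc_e_rc_18_1 lc_e_Cert_tree lc_e_Cert_tree lc_e_rc_27_7 lc_e_rc_13_1 lc_e_Cert_tree lc_e_rc_13_1 lc_e_rc_18_1 lc_e_rc_18_1 lc_e_rc_18_1 lc_e_rc_9_3 lc_e_Cert_tree) (@D3.rec (fun _ => (Cert rels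 S Gen.e)) lc_e_Cert_tree lc_e_rc_18_1 lc_e_rc_27_5 lc_e_Cert_tree lc_e_Cert_tree lc_e_rc_18_1 lc_e_rc_18_1 lc_e_rc_18_1 lc_e_Cert_tree lc_e_rc_18_1 lc_e_rc_18_1 lc_e_rc_16_1 lc_e_rc_16_3 lc_e_Cert_tree lc_e_rc_18_1 lc_e_Cert_tree lc_e_Cert_tree lc_e_rc_18_1 lc_e_Cert_tree lc_e_rc_18_1 lc_e_rc_18_1 lc_e_Cert_tree lc_e_rc_16_1 lc_e_rc_4_1 lc_e_rc_13_3 lc_e_rc_9_3 lc_e_rc_9_3 lc_e_rc_18_1 lc_e_rc_13_3 lc_e_rc_4_3 lc_e_rc_27_7 lc_e_rc_18_1 lc_e_rc_19_2 lc_e_rc_18_1 lc_e_Cert_tree lc_e_rc_18_1 lc_e_Cert_tree lc_e_rc_18_1 lc_e_rc_9_3 lc_e_Cert_tree lc_e_Cert_tree lc_e_rc_27_5 lc_e_rc_18_1 lc_e_Cert_tree lc_e_rc_18_1 lc_e_Cert_tree lc_e_rc_18_1 lc_e_rc_27_5 lc_e_rc_16_1 lc_e_rc_9_3 lc_e_rc_27_7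 lc_e_rc_18_1 lc_e_Cert_tree lc_e_rc_16_5 lc_e_rc_16_1 lc_e_rc_18_1 lc_e_rc_13_3 lc_e_rc_19_2 lc_e_rc_13_3 lc_e_rc_4_3 lc_e_Cert_tree lc_e_rc_18_1) (@D3.rec (fun _ => (Cert rels S Gen.e)) lc_e_rc_9_3 lc_e_rc_9_3 lc_e_rc_13_3 lc_e_rc_9_3 lc_e_rc_18_1 lc_e_rc_18_1 lc_e_Cert_tree lc_e_rc_18_1 lc_e_rc_16_3 lc_e_rc_18_1 lc_e_rc_16_5 lc_e_rc_18_1 lc_e_Cert_tree lc_e_Cert_tree lc_e_rc_19_4 lc_e_rc_9_3 lc_e_rc_9_3 lc_e_rc_13_3 lc_e_rc_18_1 lc_e_rc_18_1 lc_e_rc_9_3 lc_e_rc_27_7 lc_e_rc_4_3 lc_e_rc_13_1 lc_e_rc_9_3 lc_e_Cert_tree lc_e_Cert_tree lc_e_rc_19_2 lc_e_Cert_tree lc_e_rc_19_2 lc_e_Cert_tree lc_e_rc_18_1 lc_e_Cert_tree lc_e_Cert_tree lc_e_rc_19_4 lc_e_rc_27_5 lc_e_rc_18_1 lc_e_Cert_tree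 lc_e_rc_18_1 lc_e_rc_9_3 lc_e_rc_27_7 lc_e_rc_18_1 lc_e_rc_9_1 lc_e_rc_18_1 lc_e_rc_18_1 lc_e_rc_16_1 lc_e_rc_4_3 lc_e_rc_18_1 lc_e_Cert_tree lc_e_rc_16_1 lc_e_rc_19_4 lc_e_rc_13_3 lc_e_rc_4_3 lc_e_Cert_tree lc_e_Cert_tree lc_e_rc_18_1 lc_e_rc_9_3 lc_e_rc_9_3 lc_e_rc_13_1 lc_e_Cert_tree lc_e_rc_18_1 lc_e_rc_19_4) (@D3.rec (fun _ => (Cert rels S Gen.e)) lc_e_Cert_tree lc_e_Cert_tree lc_e_Cert_tree lc_e_Cert_tree lc_e_rc_18_1 lc_e_rc_13_3 lc_e_rc_16_1 lc_e_rc_13_3 lc_e_Cert_tree lc_e_rc_16_1 lc_e_rc_19_4 lc_e_rc_13_3 lc_e_rc_9_3 lc_e_rc_13_3 lc_e_Cert_tree lc_e_Cert_tree lc_e_Cert_tree lc_e_Cert_tree lc_e_rc_18_1 lc_e_Cert_tree lc_e_rc_18_1 lc_e_Cert_tree lc_e_rc_16_5 lc_e_Cert_tree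 lc_e_rc_18_1 lc_e_rc_13_1 lc_e_rc_13_3 lc_e_rc_16_1 lc_e_rc_19_2 lc_e_rc_18_1 lc_e_Cert_tree lc_e_rc_16_1 lc_e_rc_19_4 lc_e_rc_13_3 lc_e_rc_9_3 lc_e_rc_9_3 lc_e_Cert_tree lc_e_rc_13_3 lc_e_rc_19_4 lc_e_rc_18_1 lc_e_rc_27_5 lc_e_rc_13_3 lc_e_Cert_tree lc_e_rc_9_3 lc_e_rc_18_1 lc_e_rc_16_3 lc_e_rc_18_1 lc_e_rc_19_2 lc_e_Cert_tree lc_e_rc_18_1 lc_e_Cert_tree lc_e_rc_18_1 lc_e_Cert_tree lc_e_Cert_tree lc_e_rc_13_3 lc_e_Cert_tree lc_e_rc_18_1 lc_e_rc_4_1 lc_e_Cert_tree lc_e_rc_18_1 lc_e_Cert_tree lc_e_rc_16_5) (@D3.rec (fun _ => (Cert rels S Gen.e)) lc_e_rc_19_2 lc_e_Cert_tree lc_e_rc_16_5 lc_e_Cert_tree lc_e_rc_18_1 lc_e_Cert_tree lc_e_Cert_tree lc_e_rc_16_3 lc_e_rc_19_4 lc_e_Cert_tree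 lc_e_Cert_tree lc_e_Cert_tree lc_e_rc_18_1 lc_e_Cert_tree lc_e_Cert_tree lc_e_Cert_tree lc_e_rc_18_1 lc_e_rc_18_1 lc_e_Cert_tree lc_e_Cert_tree lc_e_Cert_tree lc_e_rc_9_3 lc_e_rc_18_1 lc_e_Cert_tree lc_e_Cert_tree lc_e_rc_18_1 lc_e_rc_27_5 lc_e_Cert_tree lc_e_rc_16_5 lc_e_Cert_tree lc_e_rc_16_3 lc_e_rc_18_1 lc_e_Cert_tree lc_e_rc_27_5 lc_e_Cert_tree lc_e_rc_9_3 lc_e_rc_13_1 lc_e_rc_18_1 lc_e_rc_4_3 lc_e_rc_19_2 lc_e_Cert_tree lc_e_rc_9_3 lc_e_rc_18_1 lc_e_Cert_tree lc_e_rc_18_1 lc_e_Cert_tree lc_e_rc_18_1 lc_e_rc_9_3 lc_e_Cert_tree lc_e_rc_16_3 lc_e_Cert_tree lc_e_rc_18_1 lc_e_Cert_tree lc_e_Cert_tree lc_e_rc_18_1 lc_e_rc_27_7 lc_e_rc_4_3 lc_e_rc_18_1 lc_e_rc_13_3 lc_e_Cert_tree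 lc_e_rc_19_0 lc_e_Cert_tree) (@D3.rec (fun _ => (Cert rels S Gen.e)) lc_e_rc_18_1 lc_e_Cert_tree lc_e_rc_16_1 lc_e_rc_9_1 lc_e_rc_13_3 lc_e_rc_13_3 lc_e_rc_27_5 lc_e_rc_18_1 lc_e_rc_9_3 lc_e_Cert_tree lc_e_rc_18_1 lc_e_rc_13_3 lc_e_rc_9_3 lc_e_rc_27_5 lc_e_Cert_tree lc_e_rc_16_5 lc_e_rc_27_1 lc_e_rc_18_1 lc_e_Cert_tree lc_e_rc_18_1 lc_e_rc_9_3 lc_e_rc_4_3 lc_e_rc_4_3 lc_e_rc_13_3 lc_e_rc_19_2 lc_e_rc_18_1 lc_e_Cert_tree lc_e_Cert_tree lc_e_rc_19_4 lc_e_rc_13_1 lc_e_rc_13_3 lc_e_rc_13_3 lc_e_Cert_tree lc_e_Cert_tree lc_e_rc_18_1 lc_e_rc_9_3 lc_e_Cert_tree lc_e_Cert_tree lc_e_rc_27_5 lc_e_rc_18_1 lc_e_Cert_tree lc_e_Cert_tree lc_e_Cert_tree lc_e_Cert_tree lc_e_rc_18_1 lc_e_rc_18_1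 lc_e_rc_16_1 lc_e_Cert_tree lc_e_Cert_tree lc_e_rc_18_1 lc_e_rc_9_1 lc_e_rc_16_3 lc_e_rc_18_1 lc_e_rc_18_1 lc_e_rc_16_1 lc_e_Cert_tree lc_e_Cert_tree lc_e_rc_27_7 lc_e_rc_18_1 lc_e_rc_4_3 lc_e_Cert_tree lc_e_rc_18_1) (@D3.rec (fun _ => (Cert rels S Gen.e)) lc_e_rc_9_3 lc_e_rc_9_3 lc_e_Cert_tree lc_e_rc_18_1 lc_e_Cert_tree lc_e_Cert_tree lc_e_rc_19_4 lc_e_rc_13_3 lc_e_rc_18_1 lc_e_Cert_tree lc_e_rc_16_3 lc_e_rc_27_7 lc_e_rc_18_1 lc_e_rc_27_1 lc_e_rc_19_4 lc_e_rc_13_1 lc_e_Cert_tree lc_e_rc_18_1 lc_e_Cert_tree lc_e_rc_18_1 lc_e_rc_4_3 lc_e_rc_18_1 lc_e_Cert_tree lc_e_Cert_tree lc_e_rc_13_3 lc_e_rc_19_4 lc_e_rc_16_3 lc_e_rc_19_4 lc_e_rc_18_1 lc_e_Cert_tree lc_e_rc_13_3 lc_e_rc_9_3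 lc_e_Cert_tree lc_e_rc_13_3 lc_e_rc_18_1 lc_e_rc_13_3 lc_e_rc_4_3 lc_e_rc_27_5 lc_e_Cert_tree lc_e_rc_19_0 lc_e_rc_18_1 lc_e_rc_9_1 lc_e_rc_18_1 lc_e_rc_19_0 lc_e_Cert_tree lc_e_rc_18_1 lc_e_Cert_tree lc_e_rc_18_1 lc_e_rc_18_1 lc_e_rc_19_2 lc_e_rc_18_1 lc_e_rc_19_4 lc_e_rc_18_1 lc_e_Cert_tree lc_e_rc_13_3 lc_e_rc_19_4 lc_e_Cert_tree lc_e_rc_18_1 lc_e_Cert_tree lc_e_rc_18_1 lc_e_rc_27_5 lc_e_rc_13_1) (@D3.rec (fun _ => (Cert rels S Gen.e)) lc_e_rc_18_1 lc_e_rc_18_1 lc_e_rc_18_1 lc_e_rc_9_3 lc_e_Cert_tree lc_e_rc_27_5 lc_e_rc_18_1 lc_e_rc_9_3 lc_e_Cert_tree lc_e_rc_18_1 lc_e_rc_9_1 lc_e_rc_4_1 lc_e_rc_18_1 lc_e_rc_13_3 lc_e_rc_18_1 lc_e_rc_13_3 lc_e_Cert_tree lc_e_rc_9_3 lc_e_rc_18_1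 lc_e_Cert_tree lc_e_Cert_tree lc_e_rc_18_1 lc_e_rc_13_1 lc_e_Cert_tree lc_e_rc_19_4 lc_e_rc_18_1 lc_e_rc_16_3 lc_e_rc_9_3 lc_e_rc_13_3 lc_e_rc_9_1 lc_e_Cert_tree lc_e_Cert_tree lc_e_rc_18_1 lc_e_Cert_tree lc_e_Cert_tree lc_e_rc_13_3 lc_e_rc_9_1 lc_e_Cert_tree lc_e_Cert_tree lc_e_Cert_tree lc_e_rc_18_1 lc_e_rc_19_2 lc_e_rc_4_1 lc_e_rc_27_5 lc_e_Cert_tree lc_e_rc_18_1 lc_e_rc_9_1 lc_e_Cert_tree lc_e_rc_18_1 lc_e_Cert_tree lc_e_Cert_tree lc_e_rc_18_1 lc_e_rc_9_3 lc_e_Cert_tree lc_e_rc_9_3 lc_e_Cert_tree lc_e_Cert_tree lc_e_rc_18_1 lc_e_Cert_tree lc_e_rc_4_3 lc_e_rc_4_3 lc_e_Cert_tree) (@D3.rec (fun _ => (Cert rels S Gen.e)) lc_e_Cert_tree lc_e_rc_18_1 lc_e_rc_18_1 lc_e_rc_13_1 lc_e_rc_13_3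 lc_e_Cert_tree lc_e_rc_18_1 lc_e_rc_9_3 lc_e_rc_9_3 lc_e_rc_9_3 lc_e_rc_9_3 lc_e_rc_13_3 lc_e_rc_9_3 lc_e_Cert_tree lc_e_rc_18_1 lc_e_rc_19_0 lc_e_rc_9_3 lc_e_rc_13_3 lc_e_rc_9_3 lc_e_Cert_tree lc_e_rc_18_1 lc_e_rc_18_1 lc_e_Cert_tree lc_e_rc_19_4 lc_e_rc_18_1 lc_e_rc_18_1 lc_e_rc_18_1 lc_e_Cert_tree lc_e_rc_18_1 lc_e_rc_16_3 lc_e_rc_16_1 lc_e_Cert_tree lc_e_Cert_tree lc_e_rc_13_3 lc_e_rc_16_3 lc_e_rc_18_1 lc_e_rc_18_1 lc_e_Cert_tree lc_e_rc_18_1 lc_e_Cert_tree lc_e_rc_27_7 lc_e_rc_27_5 lc_e_rc_18_1 lc_e_rc_13_3 lc_e_rc_13_3 lc_e_rc_18_1 lc_e_Cert_tree lc_e_rc_9_3 lc_e_rc_9_1 lc_e_rc_18_1 lc_e_rc_16_1 lc_e_rc_19_4 lc_e_rc_18_1 lc_e_rc_13_3 lc_e_rc_18_1 lc_e_Cert_tree lc_e_rc_18_1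 lc_e_rc_13_3 lc_e_rc_18_1 lc_e_rc_13_3 lc_e_rc_13_1 lc_e_Cert_tree) (@D3.rec (fun _ => (Cert rels S Gen.e)) lc_e_rc_16_5 lc_e_Cert_tree lc_e_rc_18_1 lc_e_Cert_tree lc_e_Cert_tree lc_e_Cert_tree lc_e_rc_18_1 lc_e_rc_13_3 lc_e_rc_13_3 lc_e_Cert_tree lc_e_Cert_tree lc_e_rc_18_1 lc_e_rc_18_1 lc_e_Cert_tree lc_e_rc_18_1 lc_e_Cert_tree lc_e_Cert_tree lc_e_rc_27_5 lc_e_rc_16_5 lc_e_rc_9_3 lc_e_Cert_tree lc_e_Cert_tree lc_e_rc_18_1 lc_e_rc_9_3 lc_e_rc_18_1 lc_e_rc_9_1 lc_e_rc_18_1 lc_e_Cert_tree lc_e_rc_18_1 lc_e_rc_16_1 lc_e_rc_9_1 lc_e_rc_9_1 lc_e_rc_13_3 lc_e_rc_16_1 lc_e_rc_9_1 lc_e_rc_18_1 lc_e_rc_13_3 lc_e_rc_18_1 lc_e_Cert_tree lc_e_Cert_tree lc_e_rc_13_3 lc_e_rc_16_1 lc_e_rc_27_5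 lc_e_Cert_tree lc_e_rc_13_3 lc_e_rc_19_2 lc_e_Cert_tree lc_e_rc_18_1 lc_e_rc_18_1 lc_e_rc_9_3 lc_e_rc_19_4 lc_e_rc_27_1 lc_e_rc_4_3 lc_e_Cert_tree lc_e_rc_16_3 lc_e_rc_18_1 lc_e_rc_27_5 lc_e_rc_18_1 lc_e_Cert_tree lc_e_rc_18_1 lc_e_rc_9_1 lc_e_Cert_tree) (@D3.rec (fun _ => (Cert rels S Gen.e)) lc_e_Cert_tree lc_e_rc_18_1 lc_e_Cert_tree lc_e_Cert_tree lc_e_Cert_tree lc_e_rc_4_3 lc_e_Cert_tree lc_e_rc_18_1 lc_e_rc_16_1 lc_e_Cert_tree lc_e_rc_18_1 lc_e_Cert_tree lc_e_rc_18_1 lc_e_Cert_tree lc_e_rc_18_1 lc_e_rc_19_2 lc_e_Cert_tree lc_e_rc_18_1 lc_e_rc_18_1 lc_e_Cert_tree lc_e_Cert_tree lc_e_rc_16_3 lc_e_rc_18_1 lc_e_rc_9_1 lc_e_Cert_tree lc_e_rc_18_1 lc_e_Cert_tree lc_e_rc_18_1 lc_e_rc_4_1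 lc_e_Cert_tree lc_e_Cert_tree lc_e_rc_18_1 lc_e_rc_18_1 lc_e_Cert_tree lc_e_rc_19_4 lc_e_Cert_tree lc_e_rc_4_3 lc_e_rc_27_5 lc_e_Cert_tree lc_e_rc_18_1 lc_e_Cert_tree lc_e_rc_18_1 lc_e_rc_18_1 lc_e_Cert_tree lc_e_rc_18_1 lc_e_Cert_tree lc_e_rc_16_5 lc_e_rc_16_1 lc_e_rc_19_4 lc_e_rc_27_5 lc_e_Cert_tree lc_e_rc_9_1 lc_e_rc_18_1 lc_e_Cert_tree lc_e_Cert_tree lc_e_rc_18_1 lc_e_rc_18_1 lc_e_Cert_tree lc_e_rc_16_1 lc_e_rc_19_4 lc_e_Cert_tree lc_e_Cert_tree) (@D3.rec (fun _ => (Cert rels S Gen.e)) lc_e_rc_18_1 lc_e_rc_18_1 lc_e_Cert_tree lc_e_Cert_tree lc_e_rc_18_1 lc_e_Cert_tree lc_e_rc_27_5 lc_e_rc_18_1 lc_e_rc_19_4 lc_e_rc_9_1 lc_e_Cert_tree lc_e_rc_18_1 lc_e_rc_4_3 lc_e_rc_9_3 lc_e_rc_18_1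 lc_e_rc_18_1 lc_e_Cert_tree lc_e_rc_4_3 lc_e_rc_16_5 lc_e_Cert_tree lc_e_rc_4_3 lc_e_rc_18_1 lc_e_rc_18_1 lc_e_Cert_tree lc_e_rc_18_1 lc_e_rc_4_3 lc_e_rc_13_3 lc_e_rc_9_1 lc_e_rc_13_3 lc_e_rc_9_1 lc_e_rc_4_3 lc_e_Cert_tree lc_e_rc_18_1 lc_e_rc_19_0 lc_e_Cert_tree lc_e_rc_9_3 lc_e_Cert_tree lc_e_Cert_tree lc_e_rc_18_1 lc_e_Cert_tree lc_e_Cert_tree lc_e_rc_18_1 lc_e_Cert_tree lc_e_Cert_tree lc_e_rc_18_1 lc_e_Cert_tree lc_e_rc_18_1 lc_e_Cert_tree lc_e_Cert_tree lc_e_rc_19_4 lc_e_rc_19_4 lc_e_Cert_tree lc_e_rc_18_1 lc_e_Cert_tree lc_e_rc_18_1 lc_e_Cert_tree lc_e_rc_18_1 lc_e_rc_4_3 lc_e_rc_27_5 lc_e_Cert_tree lc_e_rc_18_1 lc_e_Cert_tree) (@D3.rec (fun _ => (Cert rels S Gen.e)) lc_e_rc_16_3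 lc_e_rc_16_1 lc_e_rc_19_4 lc_e_rc_9_1 lc_e_rc_13_3 lc_e_rc_9_3 lc_e_rc_19_4 lc_e_rc_9_3 lc_e_rc_9_3 lc_e_Cert_tree lc_e_rc_18_1 lc_e_rc_18_1 lc_e_rc_9_3 lc_e_rc_18_1 lc_e_rc_27_5 lc_e_rc_19_4 lc_e_rc_27_7 lc_e_rc_18_1 lc_e_rc_18_1 lc_e_rc_13_3 lc_e_Cert_tree lc_e_rc_9_3 lc_e_Cert_tree lc_e_rc_18_1 lc_e_rc_18_1 lc_e_rc_13_3 lc_e_rc_9_3 lc_e_rc_18_1 lc_e_rc_18_1 lc_e_rc_9_1 lc_e_rc_18_1 lc_e_Cert_tree lc_e_rc_18_1 lc_e_Cert_tree lc_e_Cert_tree lc_e_rc_4_1 lc_e_rc_18_1 lc_e_rc_18_1 lc_e_rc_18_1 lc_e_rc_19_2 lc_e_Cert_tree lc_e_Cert_tree lc_e_rc_19_2 lc_e_Cert_tree lc_e_Cert_tree lc_e_rc_19_4 lc_e_rc_19_2 lc_e_rc_18_1 lc_e_rc_9_3 lc_e_rc_13_3 lc_e_rc_4_1 lc_e_rc_19_2 lc_e_rc_18_1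 lc_e_rc_27_1 lc_e_rc_27_5 lc_e_Cert_tree lc_e_rc_9_3 lc_e_Cert_tree lc_e_rc_18_1 lc_e_rc_9_1 lc_e_Cert_tree lc_e_rc_16_1) (@D3.rec (fun _ => (Cert rels S Gen.e)) lc_e_Cert_tree lc_e_Cert_tree lc_e_rc_16_1 lc_e_rc_4_3 lc_e_rc_9_1 lc_e_rc_19_2 lc_e_rc_16_5 lc_e_rc_16_3 lc_e_Cert_tree lc_e_rc_13_3 lc_e_rc_18_1 lc_e_rc_19_2 lc_e_Cert_tree lc_e_rc_18_1 lc_e_rc_4_3 lc_e_rc_18_1 lc_e_Cert_tree lc_e_rc_9_3 lc_e_rc_19_4 lc_e_rc_13_3 lc_e_rc_9_3 lc_e_Cert_tree lc_e_rc_18_1 lc_e_Cert_tree lc_e_rc_16_5 lc_e_rc_19_4 lc_e_Cert_tree lc_e_Cert_tree lc_e_rc_18_1 lc_e_rc_18_1 lc_e_Cert_tree lc_e_rc_9_3 lc_e_rc_27_5 lc_e_rc_18_1 lc_e_rc_18_1 lc_e_Cert_tree lc_e_rc_16_5 lc_e_rc_16_3 lc_e_rc_13_3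 lc_e_rc_19_0 lc_e_rc_19_4 lc_e_Cert_tree lc_e_rc_18_1 lc_e_rc_18_1 lc_e_Cert_tree lc_e_Cert_tree lc_e_rc_18_1 lc_e_rc_18_1 lc_e_rc_13_3 lc_e_rc_19_0 lc_e_rc_4_3 lc_e_rc_13_1 lc_e_rc_18_1 lc_e_rc_4_3 lc_e_rc_18_1 lc_e_rc_13_3 lc_e_rc_18_1 lc_e_Cert_tree lc_e_rc_27_7 lc_e_Cert_tree lc_e_rc_18_1 lc_e_Cert_tree) (@D3.rec (fun _ => (Cert rels S Gen.e)) lc_e_rc_18_1 lc_e_rc_19_4 lc_e_rc_9_3 lc_e_rc_27_5 lc_e_rc_9_3 lc_e_rc_27_5 lc_e_rc_27_1 lc_e_rc_18_1 lc_e_Cert_tree lc_e_rc_18_1 lc_e_rc_16_1 lc_e_rc_18_1 lc_e_rc_13_3 lc_e_rc_9_3 lc_e_Cert_tree lc_e_rc_18_1 lc_e_rc_13_3 lc_e_rc_9_3 lc_e_rc_13_3 lc_e_rc_16_3 lc_e_rc_13_3 lc_e_rc_18_1 lc_e_Cert_tree lc_e_rc_19_4 lc_e_rc_18_1 lc_e_rc_18_1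 lc_e_rc_16_3 lc_e_rc_13_3 lc_e_rc_16_1 lc_e_rc_9_1 lc_e_Cert_tree lc_e_Cert_tree lc_e_Cert_tree lc_e_rc_18_1 lc_e_Cert_tree lc_e_Cert_tree lc_e_Cert_tree lc_e_rc_18_1 lc_e_Cert_tree lc_e_Cert_tree lc_e_rc_13_3 lc_e_rc_27_7 lc_e_rc_13_3 lc_e_Cert_tree lc_e_rc_18_1 lc_e_rc_18_1 lc_e_rc_4_1 lc_e_rc_27_5 lc_e_rc_18_1 lc_e_Cert_tree lc_e_rc_18_1 lc_e_Cert_tree lc_e_Cert_tree lc_e_rc_18_1 lc_e_Cert_tree lc_e_rc_9_3 lc_e_rc_18_1 lc_e_Cert_tree lc_e_rc_4_1 lc_e_Cert_tree lc_e_rc_18_1 lc_e_rc_27_5) (@D3.rec (fun _ => (Cert rels S Gen.e)) lc_e_rc_18_1 lc_e_Cert_tree lc_e_rc_18_1 lc_e_Cert_tree lc_e_rc_18_1 lc_e_rc_18_1 lc_e_Cert_tree lc_e_rc_27_1 lc_e_rc_18_1 lc_e_Cert_tree lc_e_Cert_tree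 lc_e_rc_27_5 lc_e_rc_18_1 lc_e_rc_9_1 lc_e_rc_18_1 lc_e_rc_9_3 lc_e_rc_18_1 lc_e_Cert_tree lc_e_Cert_tree lc_e_rc_18_1 lc_e_rc_27_5 lc_e_rc_18_1 lc_e_Cert_tree lc_e_rc_19_4 lc_e_rc_13_3 lc_e_rc_18_1 lc_e_rc_13_1 lc_e_rc_27_7 lc_e_rc_18_1 lc_e_rc_16_3 lc_e_rc_16_3 lc_e_rc_19_4 lc_e_Cert_tree lc_e_Cert_tree lc_e_rc_27_7 lc_e_Cert_tree lc_e_rc_18_1 lc_e_Cert_tree lc_e_rc_18_1 lc_e_Cert_tree lc_e_rc_18_1 lc_e_Cert_tree lc_e_rc_18_1 lc_e_Cert_tree lc_e_Cert_tree lc_e_rc_9_3 lc_e_Cert_tree lc_e_Cert_tree lc_e_rc_18_1 lc_e_rc_18_1 lc_e_rc_9_3 lc_e_Cert_tree lc_e_rc_18_1 lc_e_rc_16_3 lc_e_rc_16_5 lc_e_Cert_tree lc_e_rc_18_1 lc_e_rc_9_3 lc_e_Cert_tree lc_e_Cert_tree lc_e_Cert_tree lc_e_rc_18_1)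 (@D3.rec (fun _ => (Cert rels S Gen.e)) lc_e_Cert_tree lc_e_Cert_tree lc_e_Cert_tree lc_e_rc_18_1 lc_e_rc_18_1 lc_e_Cert_tree lc_e_rc_19_4 lc_e_rc_27_5 lc_e_rc_13_1 lc_e_rc_27_1 lc_e_rc_18_1 lc_e_rc_19_2 lc_e_Cert_tree lc_e_rc_18_1 lc_e_Cert_tree lc_e_Cert_tree lc_e_rc_18_1 lc_e_rc_19_2 lc_e_rc_27_7 lc_e_rc_13_3 lc_e_Cert_tree lc_e_rc_18_1 lc_e_Cert_tree lc_e_rc_16_3 lc_e_rc_16_1 lc_e_rc_19_4 lc_e_rc_16_5 lc_e_rc_9_1 lc_e_rc_18_1 lc_e_rc_18_1 lc_e_Cert_tree lc_e_rc_9_1 lc_e_rc_18_1 lc_e_rc_18_1 lc_e_Cert_tree lc_e_rc_27_1 lc_e_rc_19_4 lc_e_Cert_tree lc_e_Cert_tree lc_e_rc_18_1 lc_e_Cert_tree lc_e_rc_18_1 lc_e_Cert_tree lc_e_rc_27_5 lc_e_rc_19_4 lc_e_Cert_tree lc_e_rc_18_1 lc_e_rc_9_1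 lc_e_rc_18_1 lc_e_Cert_tree lc_e_Cert_tree lc_e_rc_4_3 lc_e_Cert_tree lc_e_rc_16_3 lc_e_rc_18_1 lc_e_rc_18_1 lc_e_Cert_tree lc_e_Cert_tree lc_e_rc_27_5 lc_e_rc_13_3 lc_e_rc_18_1 lc_e_rc_13_1) (@D3.rec (fun _ => (Cert rels S Gen.e)) lc_e_Cert_tree lc_e_Cert_tree lc_e_rc_18_1 lc_e_Cert_tree lc_e_Cert_tree lc_e_rc_18_1 lc_e_rc_4_3 lc_e_Cert_tree lc_e_rc_18_1 lc_e_rc_16_5 lc_e_rc_18_1 lc_e_rc_16_1 lc_e_Cert_tree lc_e_Cert_tree lc_e_rc_18_1 lc_e_Cert_tree lc_e_rc_18_1 lc_e_Cert_tree lc_e_rc_18_1 lc_e_Cert_tree lc_e_Cert_tree lc_e_rc_16_1 lc_e_rc_19_4 lc_e_rc_9_3 lc_e_rc_18_1 lc_e_rc_4_3 lc_e_rc_18_1 lc_e_rc_18_1 lc_e_rc_27_7 lc_e_rc_18_1 lc_e_rc_27_7 lc_e_Cert_tree lc_e_rc_18_1 lc_e_rc_9_1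 lc_e_rc_9_3 lc_e_Cert_tree lc_e_rc_18_1 lc_e_Cert_tree lc_e_rc_18_1 lc_e_rc_16_1 lc_e_rc_19_4 lc_e_rc_18_1 lc_e_rc_16_3 lc_e_Cert_tree lc_e_rc_18_1 lc_e_rc_27_1 lc_e_rc_18_1 lc_e_Cert_tree lc_e_rc_18_1 lc_e_rc_18_1 lc_e_Cert_tree lc_e_rc_18_1 lc_e_rc_13_1 lc_e_rc_13_1 lc_e_Cert_tree lc_e_rc_9_3 lc_e_rc_18_1 lc_e_rc_27_7 lc_e_rc_18_1 lc_e_Cert_tree lc_e_rc_18_1 lc_e_rc_16_1) (@D3.rec (fun _ => (Cert rels S Gen.e)) lc_e_rc_19_4 lc_e_rc_9_3 lc_e_rc_13_3 lc_e_rc_9_3 lc_e_rc_9_3 lc_e_rc_27_5 lc_e_Cert_tree lc_e_rc_18_1 lc_e_Cert_tree lc_e_Cert_tree lc_e_Cert_tree lc_e_rc_18_1 lc_e_Cert_tree lc_e_Cert_tree lc_e_Cert_tree lc_e_rc_18_1 lc_e_Cert_tree lc_e_rc_27_1 lc_e_rc_13_3 lc_e_rc_18_1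 lc_e_rc_16_3 lc_e_rc_18_1 lc_e_rc_16_3 lc_e_rc_4_1 lc_e_rc_19_2 lc_e_rc_19_4 lc_e_Cert_tree lc_e_rc_18_1 lc_e_Cert_tree lc_e_rc_18_1 lc_e_rc_13_3 lc_e_rc_19_4 lc_e_rc_16_1 lc_e_rc_18_1 lc_e_rc_18_1 lc_e_rc_9_1 lc_e_Cert_tree lc_e_Cert_tree lc_e_rc_18_1 lc_e_rc_18_1 lc_e_Cert_tree lc_e_rc_27_1 lc_e_rc_18_1 lc_e_rc_18_1 lc_e_rc_13_3 lc_e_Cert_tree lc_e_rc_27_7 lc_e_rc_27_7 lc_e_rc_18_1 lc_e_Cert_tree lc_e_rc_18_1 lc_e_rc_18_1 lc_e_rc_18_1 lc_e_Cert_tree lc_e_rc_18_1 lc_e_Cert_tree lc_e_Cert_tree lc_e_rc_9_3 lc_e_rc_16_3 lc_e_rc_19_4 lc_e_rc_13_3 lc_e_rc_16_5) (@D3.rec (fun _ => (Cert rels S Gen.e)) lc_e_rc_13_3 lc_e_rc_18_1 lc_e_Cert_tree lc_e_rc_4_1 lc_e_rc_19_4 lc_e_rc_18_1 lc_e_rc_18_1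 lc_e_Cert_tree lc_e_rc_27_5 lc_e_Cert_tree lc_e_rc_19_4 lc_e_Cert_tree lc_e_rc_16_3 lc_e_rc_18_1 lc_e_rc_27_7 lc_e_Cert_tree lc_e_rc_4_1 lc_e_rc_18_1 lc_e_rc_16_5 lc_e_rc_27_1 lc_e_rc_13_1 lc_e_Cert_tree lc_e_rc_16_3 lc_e_rc_19_4 lc_e_rc_4_1 lc_e_Cert_tree lc_e_rc_18_1 lc_e_Cert_tree lc_e_rc_18_1 lc_e_rc_18_1 lc_e_Cert_tree lc_e_rc_18_1 lc_e_rc_19_4 lc_e_Cert_tree lc_e_Cert_tree lc_e_rc_18_1 lc_e_rc_27_5 lc_e_rc_18_1 lc_e_Cert_tree lc_e_rc_27_5 lc_e_rc_18_1 lc_e_Cert_tree lc_e_rc_18_1 lc_e_rc_9_1 lc_e_rc_18_1 lc_e_rc_18_1 lc_e_Cert_tree lc_e_rc_4_3 lc_e_rc_19_0 lc_e_Cert_tree lc_e_rc_18_1 lc_e_Cert_tree lc_e_rc_18_1 lc_e_rc_18_1 lc_e_rc_27_7 lc_e_rc_16_1 lc_e_Cert_tree lc_e_Cert_tree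 lc_e_rc_16_1 lc_e_rc_19_4 lc_e_rc_9_3 lc_e_Cert_tree) (@D3.rec (fun _ => (Cert rels S Gen.e)) lc_e_Cert_tree lc_e_rc_18_1 lc_e_rc_16_5 lc_e_rc_16_3 lc_e_rc_13_1 lc_e_rc_18_1 lc_e_rc_13_1 lc_e_rc_27_7 lc_e_rc_13_1 lc_e_rc_16_1 lc_e_rc_16_1 lc_e_rc_19_4 lc_e_rc_27_1 lc_e_rc_9_3 lc_e_Cert_tree lc_e_rc_18_1 lc_e_Cert_tree lc_e_rc_18_1 lc_e_rc_16_1 lc_e_rc_18_1 lc_e_rc_13_3 lc_e_rc_16_1 lc_e_rc_27_7 lc_e_rc_18_1 lc_e_rc_27_7 lc_e_rc_9_3 lc_e_Cert_tree lc_e_rc_9_3 lc_e_Cert_tree lc_e_Cert_tree lc_e_Cert_tree lc_e_rc_18_1 lc_e_rc_16_5 lc_e_rc_9_3 lc_e_rc_9_3 lc_e_Cert_tree lc_e_rc_4_3 lc_e_rc_4_3 lc_e_Cert_tree lc_e_rc_18_1 lc_e_rc_13_3 lc_e_rc_16_1 lc_e_rc_19_4 lc_e_Cert_tree lc_e_rc_18_1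 lc_e_rc_18_1 lc_e_rc_18_1 lc_e_rc_4_1 lc_e_rc_4_3 lc_e_rc_13_1 lc_e_Cert_tree lc_e_rc_16_1 lc_e_rc_19_4 lc_e_Cert_tree lc_e_rc_18_1 lc_e_rc_9_3 lc_e_Cert_tree lc_e_Cert_tree lc_e_rc_27_5 lc_e_rc_13_1 lc_e_Cert_tree lc_e_Cert_tree) (@D3.rec (fun _ => (Cert rels S Gen.e)) lc_e_rc_18_1 lc_e_rc_9_3 lc_e_rc_13_3 lc_e_rc_16_3 lc_e_rc_19_4 lc_e_Cert_tree lc_e_rc_27_7 lc_e_rc_18_1 lc_e_rc_18_1 lc_e_rc_27_5 lc_e_rc_18_1 lc_e_Cert_tree lc_e_Cert_tree lc_e_rc_4_3 lc_e_Cert_tree lc_e_Cert_tree lc_e_rc_18_1 lc_e_rc_4_3 lc_e_rc_18_1 lc_e_Cert_tree lc_e_rc_27_5 lc_e_rc_18_1 lc_e_rc_16_1 lc_e_rc_4_3 lc_e_rc_18_1 lc_e_rc_13_3 lc_e_rc_4_3 lc_e_rc_18_1 lc_e_rc_9_1 lc_e_rc_18_1 lc_e_rc_18_1 lc_e_rc_9_3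 lc_e_rc_27_7 lc_e_rc_13_3 lc_e_rc_27_7 lc_e_rc_9_3 lc_e_rc_4_3 lc_e_rc_13_3 lc_e_rc_18_1 lc_e_rc_4_3 lc_e_rc_9_1 lc_e_rc_13_3 lc_e_rc_27_5 lc_e_rc_13_3 lc_e_rc_27_5 lc_e_rc_19_0 lc_e_Cert_tree lc_e_rc_18_1 lc_e_rc_18_1 lc_e_rc_13_3 lc_e_rc_18_1 lc_e_Cert_tree lc_e_rc_18_1 lc_e_rc_18_1 lc_e_rc_18_1 lc_e_rc_9_1 lc_e_rc_18_1 lc_e_rc_16_3 lc_e_rc_27_7 lc_e_rc_19_2 lc_e_rc_16_3 lc_e_rc_19_4) (@D3.rec (fun _ => (Cert rels S Gen.e)) lc_e_rc_18_1 lc_e_rc_16_1 lc_e_rc_27_7 lc_e_rc_18_1 lc_e_Cert_tree lc_e_rc_16_1 lc_e_rc_9_3 lc_e_Cert_tree lc_e_rc_18_1 lc_e_Cert_tree lc_e_rc_13_3 lc_e_rc_27_5 lc_e_Cert_tree lc_e_rc_9_3 lc_e_rc_18_1 lc_e_rc_4_3 lc_e_rc_18_1 lc_e_rc_18_1 lc_e_rc_13_3 lc_e_rc_19_4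 lc_e_rc_9_3 lc_e_rc_27_7 lc_e_rc_18_1 lc_e_rc_13_3 lc_e_rc_4_3 lc_e_rc_18_1 lc_e_rc_9_3 lc_e_rc_18_1 lc_e_rc_18_1 lc_e_rc_16_1 lc_e_Cert_tree lc_e_rc_18_1 lc_e_rc_13_1 lc_e_Cert_tree lc_e_rc_16_1 lc_e_rc_19_4 lc_e_Cert_tree lc_e_Cert_tree lc_e_Cert_tree lc_e_rc_18_1 lc_e_rc_13_3 lc_e_Cert_tree lc_e_Cert_tree lc_e_rc_13_3 lc_e_Cert_tree lc_e_Cert_tree lc_e_rc_27_1 lc_e_Cert_tree lc_e_rc_18_1 lc_e_rc_13_3 lc_e_rc_27_5 lc_e_rc_18_1 lc_e_rc_16_1 lc_e_rc_13_3 lc_e_Cert_tree lc_e_rc_19_2 lc_e_rc_9_1 lc_e_rc_16_3 lc_e_Cert_tree lc_e_rc_18_1 lc_e_rc_16_3 lc_e_Cert_tree) (@D3.rec (fun _ => (Cert rels S Gen.e)) lc_e_rc_18_1 lc_e_rc_18_1 lc_e_Cert_tree lc_e_rc_18_1 lc_e_Cert_tree lc_e_rc_19_2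 lc_e_rc_9_1 lc_e_rc_18_1 lc_e_Cert_tree lc_e_Cert_tree lc_e_Cert_tree lc_e_Cert_tree lc_e_rc_18_1 lc_e_Cert_tree lc_e_rc_18_1 lc_e_rc_16_3 lc_e_rc_13_3 lc_e_rc_16_3 lc_e_rc_18_1 lc_e_rc_16_3 lc_e_Cert_tree lc_e_Cert_tree lc_e_rc_16_1 lc_e_rc_19_4 lc_e_Cert_tree lc_e_rc_18_1 lc_e_Cert_tree lc_e_rc_27_7 lc_e_rc_18_1 lc_e_Cert_tree lc_e_Cert_tree lc_e_rc_13_3 lc_e_Cert_tree lc_e_rc_9_3 lc_e_rc_18_1 lc_e_Cert_tree lc_e_rc_18_1 lc_e_rc_16_3 lc_e_rc_19_4 lc_e_Cert_tree lc_e_Cert_tree lc_e_rc_16_3 lc_e_rc_19_4 lc_e_rc_4_3 lc_e_rc_16_5 lc_e_rc_4_3 lc_e_rc_18_1 lc_e_Cert_tree lc_e_rc_27_1 lc_e_Cert_tree lc_e_rc_18_1 lc_e_Cert_tree lc_e_rc_27_7 lc_e_rc_13_3 lc_e_rc_19_4 lc_e_rc_19_0 lc_e_Cert_tree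 lc_e_Cert_tree lc_e_rc_18_1 lc_e_Cert_tree lc_e_rc_18_1 lc_e_rc_4_3) (@D3.rec (fun _ => (Cert rels S Gen.e)) lc_e_rc_13_3 lc_e_Cert_tree lc_e_rc_9_3 lc_e_rc_18_1 lc_e_Cert_tree lc_e_rc_16_3 lc_e_rc_18_1 lc_e_rc_4_3 lc_e_rc_18_1 lc_e_rc_18_1 lc_e_rc_9_3 lc_e_rc_18_1 lc_e_rc_18_1 lc_e_Cert_tree lc_e_Cert_tree lc_e_rc_16_3 lc_e_rc_18_1 lc_e_rc_16_1 lc_e_rc_19_0 lc_e_rc_18_1 lc_e_rc_18_1 lc_e_rc_18_1 lc_e_rc_16_1 lc_e_rc_19_4 lc_e_Cert_tree lc_e_rc_18_1 lc_e_Cert_tree lc_e_rc_13_3 lc_e_Cert_tree lc_e_rc_9_3 lc_e_Cert_tree lc_e_rc_13_3 lc_e_rc_18_1 lc_e_Cert_tree lc_e_rc_18_1 lc_e_Cert_tree lc_e_Cert_tree lc_e_rc_13_3 lc_e_Cert_tree lc_e_rc_16_3 lc_e_rc_18_1 lc_e_Cert_tree lc_e_Cert_tree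 lc_e_Cert_tree lc_e_rc_18_1 lc_e_rc_19_0 lc_e_rc_13_1 lc_e_Cert_tree lc_e_rc_18_1 lc_e_Cert_tree lc_e_rc_18_1 lc_e_rc_27_7 lc_e_Cert_tree lc_e_rc_18_1 lc_e_Cert_tree lc_e_Cert_tree lc_e_rc_18_1 lc_e_rc_9_3 lc_e_Cert_tree lc_e_rc_18_1 lc_e_Cert_tree lc_e_Cert_tree) (@D3.rec (fun _ => (Cert rels S Gen.e)) lc_e_rc_18_1 lc_e_rc_18_1 lc_e_rc_18_1 lc_e_rc_16_1 lc_e_rc_18_1 lc_e_rc_18_1 lc_e_rc_18_1 lc_e_rc_4_1 lc_e_rc_4_3 lc_e_rc_18_1 lc_e_rc_16_1 lc_e_rc_16_5 lc_e_rc_18_1 lc_e_rc_27_1 lc_e_Cert_tree lc_e_Cert_tree lc_e_rc_16_1 lc_e_rc_19_4 lc_e_Cert_tree lc_e_Cert_tree lc_e_rc_18_1 lc_e_Cert_tree lc_e_rc_13_1 lc_e_Cert_tree lc_e_rc_18_1 lc_e_Cert_tree lc_e_rc_9_1 lc_e_rc_13_3 lc_e_rc_4_3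 lc_e_rc_16_3 lc_e_rc_18_1 lc_e_rc_27_5 lc_e_rc_18_1 lc_e_Cert_tree lc_e_rc_16_3 lc_e_rc_13_3 lc_e_rc_18_1 lc_e_Cert_tree lc_e_rc_18_1 lc_e_rc_16_3 lc_e_rc_9_1 lc_e_rc_18_1 lc_e_rc_16_3 lc_e_rc_18_1 lc_e_rc_16_1 lc_e_rc_16_3 lc_e_rc_9_1 lc_e_rc_13_3 lc_e_rc_18_1 lc_e_rc_18_1 lc_e_rc_27_5 lc_e_Cert_tree lc_e_rc_16_1 lc_e_rc_19_4 lc_e_Cert_tree lc_e_Cert_tree lc_e_rc_18_1 lc_e_Cert_tree lc_e_Cert_tree lc_e_Cert_tree lc_e_rc_13_3 lc_e_Cert_tree) (@D3.rec (fun _ => (Cert rels S Gen.e)) lc_e_rc_27_1 lc_e_Cert_tree lc_e_Cert_tree lc_e_rc_18_1 lc_e_Cert_tree lc_e_Cert_tree lc_e_rc_13_3 lc_e_Cert_tree lc_e_Cert_tree lc_e_rc_18_1 lc_e_Cert_tree lc_e_rc_4_1 lc_e_rc_9_3 lc_e_Cert_tree lc_e_rc_18_1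 lc_e_rc_4_3 lc_e_rc_9_3 lc_e_rc_4_3 lc_e_rc_16_5 lc_e_rc_18_1 lc_e_rc_9_3 lc_e_rc_18_1 lc_e_rc_18_1 lc_e_Cert_tree lc_e_rc_16_3 lc_e_rc_9_3 lc_e_rc_9_3 lc_e_rc_18_1 lc_e_rc_9_1 lc_e_rc_27_5 lc_e_rc_18_1 lc_e_Cert_tree lc_e_rc_27_7 lc_e_rc_13_3 lc_e_rc_18_1 lc_e_rc_4_3 lc_e_rc_13_3 lc_e_rc_9_3 lc_e_rc_18_1 lc_e_Cert_tree lc_e_rc_16_5 lc_e_rc_19_4 lc_e_rc_18_1 lc_e_rc_9_3 lc_e_rc_27_5 lc_e_rc_27_5 lc_e_Cert_tree lc_e_Cert_tree lc_e_rc_27_7 lc_e_rc_18_1 lc_e_rc_27_7 lc_e_rc_18_1 lc_e_Cert_tree lc_e_rc_27_5 lc_e_Cert_tree lc_e_rc_18_1 lc_e_rc_18_1 lc_e_rc_16_1 lc_e_rc_27_7 lc_e_rc_4_3 lc_e_Cert_tree lc_e_rc_16_5) (@D3.rec (fun _ => (Cert rels S Gen.e)) lc_e_Cert_tree lc_e_rc_18_1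 lc_e_rc_9_3 lc_e_rc_27_7 lc_e_rc_18_1 lc_e_rc_27_1 lc_e_rc_16_1 lc_e_rc_19_4 lc_e_Cert_tree lc_e_rc_19_0 lc_e_rc_27_7 lc_e_rc_18_1 lc_e_rc_16_3 lc_e_rc_13_1 lc_e_rc_27_5 lc_e_rc_18_1 lc_e_rc_9_3 lc_e_rc_13_1 lc_e_rc_9_3 lc_e_Cert_tree lc_e_Cert_tree lc_e_rc_18_1 lc_e_rc_9_1 lc_e_Cert_tree lc_e_Cert_tree lc_e_rc_27_7 lc_e_rc_4_3 lc_e_rc_9_3 lc_e_rc_13_1 lc_e_rc_13_3 lc_e_rc_27_1 lc_e_rc_18_1 lc_e_rc_27_1 lc_e_rc_19_4 lc_e_rc_9_1 lc_e_rc_18_1 lc_e_rc_27_5 lc_e_Cert_tree lc_e_rc_19_4 lc_e_Cert_tree lc_e_rc_18_1 lc_e_rc_19_0 lc_e_rc_18_1 lc_e_rc_27_5 lc_e_rc_13_3 lc_e_rc_19_2 lc_e_Cert_tree lc_e_rc_18_1 lc_e_Cert_tree lc_e_rc_18_1 lc_e_rc_16_1 lc_e_rc_19_2 lc_e_rc_13_3 lc_e_Cert_tree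 lc_e_Cert_tree lc_e_rc_18_1 lc_e_Cert_tree lc_e_rc_13_1 lc_e_Cert_tree lc_e_rc_18_1 lc_e_rc_18_1 lc_e_Cert_tree)
def ce_e_14 : D2 → D3 → (Cert rels S Gen.e) := @D2.rec (fun _ => D3 → (Cert rels S Gen.e)) (@D3.rec (fun _ => (Cert rels S Gen.e)) lc_e_rc_18_1 lc_e_rc_19_4 lc_e_Cert_tree lc_e_Cert_tree lc_e_rc_18_1 lc_e_rc_9_1 lc_e_rc_18_1 lc_e_Cert_tree lc_e_rc_13_3 lc_e_rc_19_4 lc_e_Cert_tree lc_e_rc_18_1 lc_e_rc_4_3 lc_e_rc_18_1 lc_e_Cert_tree lc_e_rc_27_1 lc_e_rc_4_1 lc_e_rc_27_1 lc_e_rc_16_5 lc_e_rc_18_1 lc_e_rc_18_1 lc_e_rc_27_7 lc_e_Cert_tree lc_e_rc_18_1 lc_e_rc_27_7 lc_e_rc_18_1 lc_e_Cert_tree lc_e_Cert_tree lc_e_rc_18_1 lc_e_rc_27_7 lc_e_rc_18_1 lc_e_rc_27_7 lc_e_rc_4_3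 lc_e_rc_18_1 lc_e_rc_27_5 lc_e_rc_13_1 lc_e_rc_18_1 lc_e_Cert_tree lc_e_rc_18_1 lc_e_rc_18_1 lc_e_rc_13_3 lc_e_rc_18_1 lc_e_rc_18_1 lc_e_Cert_tree lc_e_rc_18_1 lc_e_rc_18_1 lc_e_Cert_tree lc_e_rc_16_1 lc_e_rc_19_4 lc_e_Cert_tree lc_e_rc_4_1 lc_e_rc_4_3 lc_e_Cert_tree lc_e_rc_18_1 lc_e_rc_19_0 lc_e_Cert_tree lc_e_rc_18_1 lc_e_Cert_tree lc_e_rc_18_1 lc_e_rc_9_3 lc_e_rc_18_1 lc_e_Cert_tree) (@D3.rec (fun _ => (Cert rels S Gen.e)) lc_e_rc_13_1 lc_e_rc_19_4 lc_e_rc_18_1 lc_e_Cert_tree lc_e_rc_18_1 lc_e_rc_18_1 lc_e_rc_18_1 lc_e_rc_4_3 lc_e_rc_18_1 lc_e_rc_16_3 lc_e_rc_13_3 lc_e_Cert_tree lc_e_rc_18_1 lc_e_Cert_tree lc_e_rc_13_1 lc_e_rc_4_3 lc_e_rc_18_1 lc_e_Cert_tree lc_e_Cert_tree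 lc_e_rc_16_1 lc_e_rc_18_1 lc_e_rc_9_3 lc_e_rc_9_3 lc_e_rc_13_1 lc_e_rc_9_3 lc_e_rc_16_5 lc_e_rc_13_3 lc_e_Cert_tree lc_e_rc_18_1 lc_e_rc_18_1 lc_e_rc_16_1 lc_e_rc_16_1 lc_e_rc_19_4 lc_e_rc_13_3 lc_e_rc_13_3 lc_e_rc_18_1 lc_e_Cert_tree lc_e_rc_18_1 lc_e_rc_16_5 lc_e_Cert_tree lc_e_Cert_tree lc_e_rc_9_3 lc_e_rc_18_1 lc_e_rc_16_3 lc_e_rc_18_1 lc_e_rc_18_1 lc_e_rc_9_3 lc_e_Cert_tree lc_e_rc_16_3 lc_e_rc_13_3 lc_e_rc_18_1 lc_e_rc_16_3 lc_e_rc_18_1 lc_e_rc_16_1 lc_e_rc_18_1 lc_e_Cert_tree lc_e_rc_18_1 lc_e_rc_18_1 lc_e_rc_19_2 lc_e_rc_16_1 lc_e_rc_19_4 lc_e_Cert_tree) (@D3.rec (fun _ => (Cert rels S Gen.e)) lc_e_rc_18_1 lc_e_rc_18_1 lc_e_Cert_tree lc_e_Cert_tree lc_e_Cert_tree lc_e_rc_13_3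 lc_e_Cert_tree lc_e_rc_18_1 lc_e_rc_4_1 lc_e_rc_13_3 lc_e_rc_16_3 lc_e_rc_19_4 lc_e_rc_13_3 lc_e_Cert_tree lc_e_rc_16_3 lc_e_rc_19_4 lc_e_rc_18_1 lc_e_rc_18_1 lc_e_Cert_tree lc_e_rc_27_7 lc_e_rc_18_1 lc_e_rc_16_3 lc_e_rc_13_3 lc_e_rc_19_4 lc_e_rc_19_2 lc_e_rc_13_3 lc_e_rc_27_1 lc_e_rc_27_7 lc_e_rc_9_3 lc_e_rc_9_1 lc_e_Cert_tree lc_e_rc_18_1 lc_e_rc_9_3 lc_e_rc_16_1 lc_e_rc_9_3 lc_e_rc_27_5 lc_e_rc_18_1 lc_e_rc_4_3 lc_e_Cert_tree lc_e_Cert_tree lc_e_rc_18_1 lc_e_rc_27_7 lc_e_rc_18_1 lc_e_rc_18_1 lc_e_rc_9_3 lc_e_rc_13_3 lc_e_rc_18_1 lc_e_rc_4_3 lc_e_rc_16_5 lc_e_Cert_tree lc_e_rc_4_3 lc_e_rc_16_3 lc_e_rc_18_1 lc_e_rc_4_3 lc_e_rc_16_3 lc_e_rc_19_4 lc_e_rc_18_1 lc_e_rc_4_1 lc_e_rc_18_1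 lc_e_rc_18_1 lc_e_Cert_tree lc_e_rc_27_1) (@D3.rec (fun _ => (Cert rels S Gen.e)) lc_e_rc_18_1 lc_e_Cert_tree lc_e_rc_16_3 lc_e_rc_18_1 lc_e_rc_27_5 lc_e_rc_4_1 lc_e_Cert_tree lc_e_rc_18_1 lc_e_rc_16_5 lc_e_rc_18_1 lc_e_rc_19_2 lc_e_rc_9_3 lc_e_Cert_tree lc_e_Cert_tree lc_e_rc_18_1 lc_e_Cert_tree lc_e_rc_18_1 lc_e_rc_18_1 lc_e_Cert_tree lc_e_rc_27_7 lc_e_rc_18_1 lc_e_rc_18_1 lc_e_rc_18_1 lc_e_rc_4_3 lc_e_rc_13_1 lc_e_rc_4_3 lc_e_rc_13_3 lc_e_Cert_tree lc_e_rc_18_1 lc_e_Cert_tree lc_e_rc_18_1 lc_e_rc_27_1 lc_e_rc_9_3 lc_e_Cert_tree lc_e_rc_18_1 lc_e_rc_4_3 lc_e_rc_27_5 lc_e_rc_18_1 lc_e_rc_13_3 lc_e_rc_27_5 lc_e_rc_4_3 lc_e_rc_16_3 lc_e_rc_18_1 lc_e_rc_9_3 lc_e_rc_13_3 lc_e_Cert_tree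 lc_e_rc_27_7 lc_e_rc_13_1 lc_e_rc_18_1 lc_e_rc_16_5 lc_e_rc_18_1 lc_e_rc_18_1 lc_e_Cert_tree lc_e_rc_19_2 lc_e_rc_27_7 lc_e_rc_18_1 lc_e_rc_18_1 lc_e_rc_16_3 lc_e_rc_13_1 lc_e_rc_27_7 lc_e_rc_16_1 lc_e_rc_19_4) (@D3.rec (fun _ => (Cert rels S Gen.e)) lc_e_Cert_tree lc_e_Cert_tree lc_e_rc_18_1 lc_e_Cert_tree lc_e_Cert_tree lc_e_rc_16_3 lc_e_rc_18_1 lc_e_Cert_tree lc_e_Cert_tree lc_e_rc_13_3 lc_e_rc_16_5 lc_e_rc_16_5 lc_e_rc_9_3 lc_e_rc_18_1 lc_e_Cert_tree lc_e_rc_13_1 lc_e_rc_27_5 lc_e_rc_18_1 lc_e_Cert_tree lc_e_Cert_tree lc_e_rc_19_4 lc_e_rc_18_1 lc_e_rc_13_3 lc_e_rc_9_1 lc_e_rc_13_1 lc_e_rc_18_1 lc_e_rc_16_3 lc_e_rc_16_1 lc_e_rc_27_1 lc_e_rc_16_3 lc_e_rc_4_1 lc_e_rc_9_3 lc_e_rc_13_3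 lc_e_rc_18_1 lc_e_rc_13_3 lc_e_rc_27_5 lc_e_rc_13_1 lc_e_Cert_tree lc_e_rc_18_1 lc_e_rc_18_1 lc_e_rc_27_5 lc_e_rc_19_4 lc_e_rc_19_2 lc_e_rc_19_4 lc_e_rc_16_3 lc_e_rc_16_3 lc_e_rc_19_4 lc_e_rc_18_1 lc_e_rc_13_3 lc_e_rc_19_2 lc_e_Cert_tree lc_e_rc_18_1 lc_e_Cert_tree lc_e_rc_18_1 lc_e_rc_27_5 lc_e_rc_18_1 lc_e_Cert_tree lc_e_rc_9_3 lc_e_rc_9_3 lc_e_rc_16_3 lc_e_rc_18_1 lc_e_rc_4_3) (@D3.rec (fun _ => (Cert rels S Gen.e)) lc_e_Cert_tree lc_e_rc_18_1 lc_e_rc_18_1 lc_e_rc_18_1 lc_e_Cert_tree lc_e_Cert_tree lc_e_rc_16_3 lc_e_rc_13_1 lc_e_rc_16_3 lc_e_rc_18_1 lc_e_rc_27_5 lc_e_rc_16_3 lc_e_rc_19_4 lc_e_rc_13_1 lc_e_Cert_tree lc_e_rc_16_1 lc_e_rc_19_4 lc_e_Cert_tree lc_e_rc_18_1 lc_e_Cert_tree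 lc_e_Cert_tree lc_e_rc_18_1 lc_e_Cert_tree lc_e_Cert_tree lc_e_rc_13_1 lc_e_Cert_tree lc_e_rc_13_3 lc_e_Cert_tree lc_e_rc_13_3 lc_e_Cert_tree lc_e_rc_18_1 lc_e_Cert_tree lc_e_rc_27_1 lc_e_rc_13_3 lc_e_Cert_tree lc_e_rc_19_2 lc_e_rc_27_7 lc_e_Cert_tree lc_e_rc_18_1 lc_e_Cert_tree lc_e_rc_18_1 lc_e_Cert_tree lc_e_rc_18_1 lc_e_Cert_tree lc_e_rc_18_1 lc_e_rc_16_1 lc_e_Cert_tree lc_e_rc_18_1 lc_e_Cert_tree lc_e_rc_18_1 lc_e_Cert_tree lc_e_rc_16_3 lc_e_rc_9_3 lc_e_Cert_tree lc_e_Cert_tree lc_e_rc_18_1 lc_e_Cert_tree lc_e_Cert_tree lc_e_rc_18_1 lc_e_rc_9_3 lc_e_Cert_tree lc_e_Cert_tree) (@D3.rec (fun _ => (Cert rels S Gen.e)) lc_e_Cert_tree lc_e_rc_9_3 lc_e_rc_16_3 lc_e_rc_18_1 lc_e_rc_16_1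 lc_e_Cert_tree lc_e_rc_16_1 lc_e_rc_19_4 lc_e_rc_16_5 lc_e_Cert_tree lc_e_rc_13_3 lc_e_rc_18_1 lc_e_rc_18_1 lc_e_rc_18_1 lc_e_Cert_tree lc_e_Cert_tree lc_e_rc_18_1 lc_e_Cert_tree lc_e_rc_18_1 lc_e_rc_13_3 lc_e_rc_19_4 lc_e_Cert_tree lc_e_rc_18_1 lc_e_rc_19_2 lc_e_Cert_tree lc_e_Cert_tree lc_e_rc_18_1 lc_e_rc_9_3 lc_e_rc_18_1 lc_e_Cert_tree lc_e_rc_18_1 lc_e_rc_18_1 lc_e_rc_9_3 lc_e_rc_18_1 lc_e_rc_18_1 lc_e_rc_16_1 lc_e_Cert_tree lc_e_rc_18_1 lc_e_Cert_tree lc_e_rc_18_1 lc_e_rc_16_1 lc_e_rc_9_3 lc_e_rc_18_1 lc_e_rc_18_1 lc_e_rc_27_5 lc_e_rc_16_1 lc_e_rc_19_2 lc_e_rc_18_1 lc_e_Cert_tree lc_e_rc_27_1 lc_e_rc_18_1 lc_e_rc_18_1 lc_e_Cert_tree lc_e_rc_16_1 lc_e_rc_19_4 lc_e_Cert_tree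 lc_e_Cert_tree lc_e_rc_18_1 lc_e_Cert_tree lc_e_Cert_tree lc_e_Cert_tree lc_e_rc_18_1) (@D3.rec (fun _ => (Cert rels S Gen.e)) lc_e_Cert_tree lc_e_Cert_tree lc_e_rc_13_3 lc_e_Cert_tree lc_e_rc_9_3 lc_e_rc_4_3 lc_e_Cert_tree lc_e_rc_18_1 lc_e_Cert_tree lc_e_Cert_tree lc_e_rc_13_3 lc_e_Cert_tree lc_e_Cert_tree lc_e_rc_18_1 lc_e_rc_18_1 lc_e_rc_9_3 lc_e_Cert_tree lc_e_Cert_tree lc_e_rc_18_1 lc_e_rc_18_1 lc_e_rc_16_3 lc_e_rc_27_5 lc_e_rc_16_3 lc_e_rc_13_3 lc_e_rc_16_3 lc_e_rc_18_1 lc_e_Cert_tree lc_e_rc_18_1 lc_e_Cert_tree lc_e_rc_27_7 lc_e_rc_13_3 lc_e_rc_18_1 lc_e_rc_13_3 lc_e_rc_27_5 lc_e_Cert_tree lc_e_rc_13_3 lc_e_rc_19_4 lc_e_rc_16_3 lc_e_rc_9_3 lc_e_rc_18_1 lc_e_rc_18_1 lc_e_rc_27_1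 lc_e_rc_18_1 lc_e_Cert_tree lc_e_Cert_tree lc_e_rc_16_3 lc_e_rc_13_3 lc_e_Cert_tree lc_e_rc_18_1 lc_e_rc_18_1 lc_e_rc_16_1 lc_e_rc_27_7 lc_e_rc_13_3 lc_e_rc_19_4 lc_e_rc_18_1 lc_e_rc_18_1 lc_e_rc_13_1 lc_e_rc_16_3 lc_e_Cert_tree lc_e_rc_9_3 lc_e_rc_16_5 lc_e_rc_13_3) (@D3.rec (fun _ => (Cert rels S Gen.e)) lc_e_rc_13_1 lc_e_rc_16_3 lc_e_rc_19_4 lc_e_rc_18_1 lc_e_rc_27_1 lc_e_Cert_tree lc_e_rc_27_7 lc_e_rc_18_1 lc_e_rc_18_1 lc_e_rc_13_3 lc_e_rc_16_1 lc_e_rc_9_3 lc_e_rc_16_3 lc_e_rc_4_1 lc_e_rc_18_1 lc_e_rc_18_1 lc_e_rc_19_2 lc_e_rc_18_1 lc_e_Cert_tree lc_e_rc_27_1 lc_e_rc_4_3 lc_e_rc_18_1 lc_e_rc_18_1 lc_e_rc_4_3 lc_e_rc_19_4 lc_e_rc_19_2 lc_e_Cert_tree lc_e_Cert_tree lc_e_rc_18_1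 lc_e_rc_18_1 lc_e_rc_16_3 lc_e_rc_18_1 lc_e_Cert_tree lc_e_rc_18_1 lc_e_rc_27_1 lc_e_rc_16_1 lc_e_rc_27_5 lc_e_rc_16_5 lc_e_Cert_tree lc_e_rc_18_1 lc_e_Cert_tree lc_e_Cert_tree lc_e_rc_27_5 lc_e_rc_18_1 lc_e_rc_18_1 lc_e_Cert_tree lc_e_rc_9_3 lc_e_rc_4_1 lc_e_rc_19_4 lc_e_rc_9_3 lc_e_Cert_tree lc_e_Cert_tree lc_e_rc_18_1 lc_e_Cert_tree lc_e_Cert_tree lc_e_Cert_tree lc_e_rc_18_1 lc_e_rc_18_1 lc_e_Cert_tree lc_e_rc_9_1 lc_e_Cert_tree lc_e_rc_18_1) (@D3.rec (fun _ => (Cert rels S Gen.e)) lc_e_rc_18_1 lc_e_Cert_tree lc_e_rc_16_1 lc_e_rc_16_1 lc_e_rc_13_3 lc_e_Cert_tree lc_e_Cert_tree lc_e_rc_18_1 lc_e_Cert_tree lc_e_rc_18_1 lc_e_rc_4_3 lc_e_rc_27_1 lc_e_Cert_tree lc_e_rc_18_1 lc_e_rc_16_5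 lc_e_rc_18_1 lc_e_rc_19_4 lc_e_Cert_tree lc_e_rc_19_4 lc_e_rc_18_1 lc_e_rc_16_3 lc_e_rc_18_1 lc_e_Cert_tree lc_e_rc_16_1 lc_e_rc_13_3 lc_e_rc_13_3 lc_e_rc_18_1 lc_e_Cert_tree lc_e_rc_27_5 lc_e_rc_19_4 lc_e_rc_9_1 lc_e_rc_18_1 lc_e_rc_9_1 lc_e_rc_18_1 lc_e_rc_13_3 lc_e_rc_27_5 lc_e_rc_4_3 lc_e_rc_27_1 lc_e_rc_13_1 lc_e_rc_4_3 lc_e_Cert_tree lc_e_rc_16_3 lc_e_rc_18_1 lc_e_Cert_tree lc_e_rc_16_3 lc_e_rc_18_1 lc_e_Cert_tree lc_e_Cert_tree lc_e_rc_13_3 lc_e_rc_9_3 lc_e_rc_18_1 lc_e_Cert_tree lc_e_rc_18_1 lc_e_Cert_tree lc_e_Cert_tree lc_e_rc_18_1 lc_e_Cert_tree lc_e_rc_18_1 lc_e_Cert_tree lc_e_rc_9_3 lc_e_rc_9_3 lc_e_rc_9_3) (@D3.rec (fun _ => (Cert rels S Gen.e)) lc_e_Cert_tree lc_e_Cert_tree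 lc_e_rc_18_1 lc_e_Cert_tree lc_e_rc_16_3 lc_e_Cert_tree lc_e_rc_18_1 lc_e_rc_4_1 lc_e_rc_4_3 lc_e_rc_9_1 lc_e_rc_18_1 lc_e_Cert_tree lc_e_rc_19_4 lc_e_rc_18_1 lc_e_rc_18_1 lc_e_rc_18_1 lc_e_rc_16_1 lc_e_rc_18_1 lc_e_rc_18_1 lc_e_rc_16_1 lc_e_Cert_tree lc_e_Cert_tree lc_e_Cert_tree lc_e_rc_18_1 lc_e_rc_18_1 lc_e_Cert_tree lc_e_Cert_tree lc_e_Cert_tree lc_e_rc_19_2 lc_e_rc_27_7 lc_e_rc_19_0 lc_e_rc_19_4 lc_e_Cert_tree lc_e_rc_18_1 lc_e_Cert_tree lc_e_rc_16_5 lc_e_rc_18_1 lc_e_rc_16_5 lc_e_rc_9_1 lc_e_Cert_tree lc_e_rc_18_1 lc_e_rc_13_1 lc_e_Cert_tree lc_e_rc_18_1 lc_e_rc_19_2 lc_e_rc_9_3 lc_e_rc_13_3 lc_e_rc_19_0 lc_e_rc_13_1 lc_e_rc_27_7 lc_e_Cert_tree lc_e_rc_18_1 lc_e_rc_27_1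 lc_e_rc_19_4 lc_e_rc_18_1 lc_e_rc_18_1 lc_e_rc_13_3 lc_e_rc_18_1 lc_e_rc_16_3 lc_e_rc_16_3 lc_e_Cert_tree lc_e_Cert_tree) (@D3.rec (fun _ => (Cert rels S Gen.e)) lc_e_rc_18_1 lc_e_Cert_tree lc_e_rc_18_1 lc_e_Cert_tree lc_e_Cert_tree lc_e_rc_13_3 lc_e_Cert_tree lc_e_Cert_tree lc_e_rc_18_1 lc_e_Cert_tree lc_e_Cert_tree lc_e_rc_13_3 lc_e_rc_16_3 lc_e_rc_27_5 lc_e_rc_18_1 lc_e_rc_18_1 lc_e_rc_9_1 lc_e_rc_18_1 lc_e_rc_16_1 lc_e_rc_16_1 lc_e_rc_13_3 lc_e_rc_9_3 lc_e_rc_27_5 lc_e_rc_16_5 lc_e_rc_16_5 lc_e_rc_27_1 lc_e_rc_27_5 lc_e_rc_18_1 lc_e_rc_16_3 lc_e_rc_18_1 lc_e_rc_9_1 lc_e_rc_13_1 lc_e_rc_18_1 lc_e_rc_13_3 lc_e_rc_13_3 lc_e_rc_13_3 lc_e_rc_16_1 lc_e_rc_19_4 lc_e_rc_16_3 lc_e_rc_18_1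 lc_e_Cert_tree lc_e_Cert_tree lc_e_rc_16_3 lc_e_rc_16_1 lc_e_rc_13_3 lc_e_Cert_tree lc_e_rc_18_1 lc_e_rc_18_1 lc_e_rc_19_4 lc_e_rc_18_1 lc_e_rc_18_1 lc_e_rc_13_3 lc_e_rc_13_3 lc_e_rc_9_3 lc_e_Cert_tree lc_e_rc_18_1 lc_e_rc_16_1 lc_e_rc_18_1 lc_e_rc_18_1 lc_e_rc_16_5 lc_e_rc_4_3 lc_e_Cert_tree) (@D3.rec (fun _ => (Cert rels S Gen.e)) lc_e_rc_27_5 lc_e_Cert_tree lc_e_rc_27_1 lc_e_rc_18_1 lc_e_Cert_tree lc_e_Cert_tree lc_e_rc_27_5 lc_e_rc_18_1 lc_e_rc_13_3 lc_e_Cert_tree lc_e_rc_18_1 lc_e_rc_16_1 lc_e_rc_9_3 lc_e_rc_27_5 lc_e_rc_9_1 lc_e_rc_13_3 lc_e_Cert_tree lc_e_rc_18_1 lc_e_rc_9_1 lc_e_Cert_tree lc_e_rc_18_1 lc_e_rc_9_3 lc_e_rc_9_3 lc_e_rc_18_1 lc_e_rc_16_1 lc_e_Cert_tree lc_e_rc_18_1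 lc_e_rc_16_1 lc_e_rc_16_3 lc_e_rc_9_3 lc_e_rc_18_1 lc_e_Cert_tree lc_e_rc_18_1 lc_e_rc_16_1 lc_e_Cert_tree lc_e_Cert_tree lc_e_Cert_tree lc_e_rc_18_1 lc_e_rc_13_3 lc_e_rc_18_1 lc_e_Cert_tree lc_e_Cert_tree lc_e_rc_13_1 lc_e_rc_18_1 lc_e_rc_18_1 lc_e_rc_9_3 lc_e_rc_16_3 lc_e_rc_4_1 lc_e_rc_16_3 lc_e_rc_19_4 lc_e_rc_27_1 lc_e_rc_16_5 lc_e_rc_27_5 lc_e_rc_18_1 lc_e_rc_18_1 lc_e_rc_16_1 lc_e_rc_19_4 lc_e_Cert_tree lc_e_Cert_tree lc_e_rc_18_1 lc_e_Cert_tree lc_e_Cert_tree) (@D3.rec (fun _ => (Cert rels S Gen.e)) lc_e_rc_13_3 lc_e_Cert_tree lc_e_Cert_tree lc_e_rc_18_1 lc_e_Cert_tree lc_e_rc_18_1 lc_e_Cert_tree lc_e_Cert_tree lc_e_rc_13_3 lc_e_Cert_tree lc_e_rc_16_1 lc_e_rc_18_1 lc_e_rc_9_3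 lc_e_Cert_tree lc_e_rc_18_1 lc_e_rc_18_1 lc_e_rc_18_1 lc_e_Cert_tree lc_e_Cert_tree lc_e_rc_16_3 lc_e_rc_19_4 lc_e_Cert_tree lc_e_Cert_tree lc_e_rc_13_3 lc_e_rc_19_4 lc_e_rc_9_3 lc_e_rc_13_1 lc_e_rc_18_1 lc_e_rc_27_7 lc_e_rc_18_1 lc_e_Cert_tree lc_e_Cert_tree lc_e_Cert_tree lc_e_rc_18_1 lc_e_rc_18_1 lc_e_rc_16_1 lc_e_rc_9_3 lc_e_rc_13_3 lc_e_rc_16_5 lc_e_rc_18_1 lc_e_rc_9_3 lc_e_rc_9_1 lc_e_rc_16_3 lc_e_rc_19_4 lc_e_Cert_tree lc_e_rc_13_3 lc_e_Cert_tree lc_e_Cert_tree lc_e_rc_18_1 lc_e_Cert_tree lc_e_rc_9_3 lc_e_rc_18_1 lc_e_rc_13_3 lc_e_rc_16_3 lc_e_rc_27_5 lc_e_Cert_tree lc_e_rc_4_3 lc_e_Cert_tree lc_e_rc_18_1 lc_e_rc_13_1 lc_e_rc_18_1 lc_e_rc_13_3) (@D3.rec (fun _ => (Cert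 rels S Gen.e)) lc_e_Cert_tree lc_e_rc_9_3 lc_e_rc_19_0 lc_e_Cert_tree lc_e_rc_18_1 lc_e_rc_9_1 lc_e_Cert_tree lc_e_rc_18_1 lc_e_Cert_tree lc_e_rc_27_7 lc_e_Cert_tree lc_e_rc_18_1 lc_e_rc_16_1 lc_e_rc_19_4 lc_e_rc_9_3 lc_e_rc_4_3 lc_e_rc_13_3 lc_e_Cert_tree lc_e_rc_9_1 lc_e_rc_27_5 lc_e_rc_18_1 lc_e_Cert_tree lc_e_rc_18_1 lc_e_Cert_tree lc_e_Cert_tree lc_e_rc_18_1 lc_e_rc_18_1 lc_e_Cert_tree lc_e_Cert_tree lc_e_rc_18_1 lc_e_rc_13_1 lc_e_rc_13_1 lc_e_rc_13_3 lc_e_rc_13_3 lc_e_rc_16_3 lc_e_Cert_tree lc_e_rc_18_1 lc_e_rc_4_3 lc_e_Cert_tree lc_e_Cert_tree lc_e_rc_18_1 lc_e_rc_13_3 lc_e_rc_18_1 lc_e_Cert_tree lc_e_rc_18_1 lc_e_rc_27_5 lc_e_rc_19_0 lc_e_rc_19_4 lc_e_rc_19_4 lc_e_Cert_tree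 lc_e_rc_18_1 lc_e_Cert_tree lc_e_rc_18_1 lc_e_rc_27_1 lc_e_rc_27_5 lc_e_Cert_tree lc_e_rc_18_1 lc_e_Cert_tree lc_e_rc_27_1 lc_e_rc_16_1 lc_e_rc_19_4 lc_e_rc_13_3) (@D3.rec (fun _ => (Cert rels S Gen.e)) lc_e_Cert_tree lc_e_Cert_tree lc_e_rc_9_3 lc_e_rc_18_1 lc_e_Cert_tree lc_e_rc_18_1 lc_e_rc_27_5 lc_e_rc_18_1 lc_e_rc_16_3 lc_e_rc_27_7 lc_e_Cert_tree lc_e_rc_18_1 lc_e_Cert_tree lc_e_rc_18_1 lc_e_rc_9_3 lc_e_rc_18_1 lc_e_rc_19_4 lc_e_rc_13_3 lc_e_rc_18_1 lc_e_rc_4_3 lc_e_rc_9_1 lc_e_rc_18_1 lc_e_rc_13_3 lc_e_rc_9_3 lc_e_rc_9_3 lc_e_rc_16_3 lc_e_Cert_tree lc_e_rc_9_3 lc_e_rc_18_1 lc_e_rc_9_3 lc_e_rc_18_1 lc_e_rc_4_3 lc_e_rc_18_1 lc_e_Cert_tree lc_e_Cert_tree lc_e_rc_19_4 lc_e_rc_9_3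 lc_e_Cert_tree lc_e_rc_18_1 lc_e_rc_18_1 lc_e_rc_27_7 lc_e_Cert_tree lc_e_rc_18_1 lc_e_Cert_tree lc_e_Cert_tree lc_e_rc_18_1 lc_e_rc_4_3 lc_e_Cert_tree lc_e_rc_18_1 lc_e_Cert_tree lc_e_rc_13_3 lc_e_rc_9_3 lc_e_rc_16_3 lc_e_rc_18_1 lc_e_rc_16_5 lc_e_rc_13_3 lc_e_rc_4_3 lc_e_Cert_tree lc_e_rc_18_1 lc_e_rc_18_1 lc_e_rc_9_1 lc_e_rc_16_1) (@D3.rec (fun _ => (Cert rels S Gen.e)) lc_e_rc_4_1 lc_e_rc_18_1 lc_e_rc_16_1 lc_e_Cert_tree lc_e_Cert_tree lc_e_rc_13_1 lc_e_Cert_tree lc_e_rc_13_3 lc_e_rc_18_1 lc_e_rc_18_1 lc_e_rc_16_3 lc_e_rc_19_2 lc_e_rc_27_5 lc_e_rc_16_3 lc_e_rc_13_1 lc_e_rc_9_3 lc_e_rc_9_3 lc_e_Cert_tree lc_e_Cert_tree lc_e_Cert_tree lc_e_rc_18_1 lc_e_Cert_tree lc_e_Cert_tree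 lc_e_rc_13_3 lc_e_rc_4_3 lc_e_Cert_tree lc_e_rc_18_1 lc_e_Cert_tree lc_e_rc_18_1 lc_e_Cert_tree lc_e_rc_18_1 lc_e_Cert_tree lc_e_Cert_tree lc_e_rc_18_1 lc_e_rc_9_3 lc_e_rc_18_1 lc_e_Cert_tree lc_e_rc_9_3 lc_e_Cert_tree lc_e_rc_4_3 lc_e_rc_4_3 lc_e_Cert_tree lc_e_rc_9_3 lc_e_rc_16_5 lc_e_rc_16_3 lc_e_rc_18_1 lc_e_rc_16_1 lc_e_rc_27_1 lc_e_rc_13_3 lc_e_Cert_tree lc_e_rc_19_4 lc_e_rc_18_1 lc_e_rc_18_1 lc_e_Cert_tree lc_e_Cert_tree lc_e_rc_18_1 lc_e_rc_13_1 lc_e_rc_27_1 lc_e_rc_18_1 lc_e_rc_19_2 lc_e_Cert_tree lc_e_rc_18_1) (@D3.rec (fun _ => (Cert rels S Gen.e)) lc_e_rc_18_1 lc_e_Cert_tree lc_e_rc_18_1 lc_e_Cert_tree lc_e_rc_18_1 lc_e_Cert_tree lc_e_Cert_tree lc_e_rc_18_1 lc_e_rc_27_5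 lc_e_rc_18_1 lc_e_rc_4_3 lc_e_rc_19_4 lc_e_rc_13_3 lc_e_Cert_tree lc_e_Cert_tree lc_e_rc_18_1 lc_e_Cert_tree lc_e_Cert_tree lc_e_Cert_tree lc_e_rc_18_1 lc_e_rc_27_5 lc_e_rc_13_3 lc_e_rc_19_4 lc_e_rc_16_3 lc_e_rc_13_3 lc_e_rc_13_3 lc_e_Cert_tree lc_e_rc_18_1 lc_e_Cert_tree lc_e_Cert_tree lc_e_rc_18_1 lc_e_Cert_tree lc_e_rc_18_1 lc_e_rc_4_3 lc_e_rc_18_1 lc_e_rc_4_1 lc_e_rc_18_1 lc_e_rc_27_1 lc_e_rc_9_3 lc_e_rc_18_1 lc_e_rc_16_3 lc_e_rc_13_3 lc_e_rc_19_4 lc_e_rc_18_1 lc_e_Cert_tree lc_e_Cert_tree lc_e_rc_16_1 lc_e_rc_19_4 lc_e_rc_4_3 lc_e_Cert_tree lc_e_Cert_tree lc_e_rc_18_1 lc_e_Cert_tree lc_e_Cert_tree lc_e_rc_18_1 lc_e_rc_9_3 lc_e_rc_13_3 lc_e_rc_19_2 lc_e_rc_18_1 lc_e_rc_18_1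 lc_e_Cert_tree lc_e_rc_18_1) (@D3.rec (fun _ => (Cert rels S Gen.e)) lc_e_Cert_tree lc_e_rc_18_1 lc_e_Cert_tree lc_e_Cert_tree lc_e_rc_18_1 lc_e_rc_19_4 lc_e_Cert_tree lc_e_rc_9_3 lc_e_Cert_tree lc_e_rc_13_3 lc_e_Cert_tree lc_e_Cert_tree lc_e_rc_18_1 lc_e_rc_27_5 lc_e_rc_18_1 lc_e_Cert_tree lc_e_rc_13_3 lc_e_rc_19_2 lc_e_rc_19_0 lc_e_rc_4_3 lc_e_rc_13_3 lc_e_rc_4_1 lc_e_rc_13_3 lc_e_Cert_tree lc_e_rc_18_1 lc_e_rc_13_3 lc_e_rc_18_1 lc_e_Cert_tree lc_e_rc_18_1 lc_e_rc_19_4 lc_e_rc_19_2 lc_e_rc_18_1 lc_e_rc_16_3 lc_e_rc_27_1 lc_e_Cert_tree lc_e_rc_13_1 lc_e_rc_16_3 lc_e_rc_19_4 lc_e_rc_9_3 lc_e_rc_18_1 lc_e_Cert_tree lc_e_rc_16_5 lc_e_Cert_tree lc_e_rc_4_1 lc_e_Cert_tree lc_e_rc_18_1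 lc_e_rc_13_3 lc_e_Cert_tree lc_e_rc_18_1 lc_e_Cert_tree lc_e_Cert_tree lc_e_rc_13_3 lc_e_rc_19_4 lc_e_rc_9_3 lc_e_rc_13_1 lc_e_rc_18_1 lc_e_rc_16_3 lc_e_rc_18_1 lc_e_rc_18_1 lc_e_rc_16_3 lc_e_rc_16_3 lc_e_rc_18_1) (@D3.rec (fun _ => (Cert rels S Gen.e)) lc_e_rc_16_1 lc_e_rc_19_4 lc_e_rc_9_1 lc_e_Cert_tree lc_e_Cert_tree lc_e_Cert_tree lc_e_Cert_tree lc_e_rc_18_1 lc_e_Cert_tree lc_e_Cert_tree lc_e_rc_13_1 lc_e_Cert_tree lc_e_Cert_tree lc_e_rc_18_1 lc_e_rc_27_5 lc_e_Cert_tree lc_e_rc_27_1 lc_e_rc_19_4 lc_e_rc_13_3 lc_e_rc_18_1 lc_e_rc_18_1 lc_e_rc_18_1 lc_e_rc_18_1 lc_e_rc_13_3 lc_e_Cert_tree lc_e_rc_16_1 lc_e_rc_4_1 lc_e_rc_19_2 lc_e_rc_16_3 lc_e_rc_19_2 lc_e_rc_16_1 lc_e_rc_19_2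 lc_e_Cert_tree lc_e_rc_13_3 lc_e_rc_13_3 lc_e_rc_18_1 lc_e_rc_18_1 lc_e_rc_13_3 lc_e_Cert_tree lc_e_rc_16_1 lc_e_rc_13_1 lc_e_rc_9_3 lc_e_rc_16_3 lc_e_rc_4_1 lc_e_rc_4_3 lc_e_rc_16_1 lc_e_rc_4_1 lc_e_rc_9_1 lc_e_rc_13_1 lc_e_Cert_tree lc_e_rc_13_3 lc_e_rc_27_5 lc_e_rc_13_3 lc_e_rc_16_1 lc_e_rc_19_2 lc_e_Cert_tree lc_e_Cert_tree lc_e_rc_18_1 lc_e_rc_13_1 lc_e_rc_13_3 lc_e_Cert_tree lc_e_rc_16_5) (@D3.rec (fun _ => (Cert rels S Gen.e)) lc_e_rc_13_3 lc_e_Cert_tree lc_e_rc_18_1 lc_e_rc_13_3 lc_e_rc_18_1 lc_e_rc_13_3 lc_e_rc_9_1 lc_e_rc_19_2 lc_e_rc_18_1 lc_e_rc_16_1 lc_e_rc_18_1 lc_e_rc_16_5 lc_e_rc_13_3 lc_e_rc_18_1 lc_e_rc_27_7 lc_e_Cert_tree lc_e_rc_13_1 lc_e_rc_18_1 lc_e_rc_9_1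 lc_e_rc_13_1 lc_e_rc_18_1 lc_e_Cert_tree lc_e_rc_16_3 lc_e_rc_13_3 lc_e_rc_13_3 lc_e_rc_13_1 lc_e_Cert_tree lc_e_rc_18_1 lc_e_rc_18_1 lc_e_rc_19_0 lc_e_rc_18_1 lc_e_rc_13_1 lc_e_rc_9_3 lc_e_rc_27_5 lc_e_rc_13_3 lc_e_rc_18_1 lc_e_rc_18_1 lc_e_Cert_tree lc_e_rc_4_3 lc_e_rc_18_1 lc_e_Cert_tree lc_e_rc_16_5 lc_e_rc_18_1 lc_e_rc_16_5 lc_e_rc_13_3 lc_e_rc_9_3 lc_e_rc_18_1 lc_e_rc_18_1 lc_e_rc_27_7 lc_e_rc_13_1 lc_e_rc_18_1 lc_e_rc_4_1 lc_e_rc_19_4 lc_e_rc_9_1 lc_e_rc_9_1 lc_e_rc_27_5 lc_e_rc_9_1 lc_e_Cert_tree lc_e_rc_18_1 lc_e_Cert_tree lc_e_rc_18_1 lc_e_rc_27_1) (@D3.rec (fun _ => (Cert rels S Gen.e)) lc_e_rc_16_1 lc_e_rc_18_1 lc_e_rc_9_3 lc_e_Cert_tree lc_e_rc_18_1 lc_e_Cert_tree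 lc_e_rc_13_1 lc_e_rc_18_1 lc_e_Cert_tree lc_e_rc_13_3 lc_e_rc_9_3 lc_e_rc_16_3 lc_e_rc_19_4 lc_e_rc_18_1 lc_e_rc_27_5 lc_e_rc_18_1 lc_e_rc_27_7 lc_e_Cert_tree lc_e_rc_18_1 lc_e_rc_18_1 lc_e_rc_18_1 lc_e_rc_27_1 lc_e_rc_19_0 lc_e_rc_27_5 lc_e_rc_18_1 lc_e_rc_13_1 lc_e_rc_9_3 lc_e_rc_9_3 lc_e_rc_4_3 lc_e_rc_27_1 lc_e_rc_27_7 lc_e_rc_18_1 lc_e_Cert_tree lc_e_rc_18_1 lc_e_rc_27_5 lc_e_rc_27_1 lc_e_rc_19_4 lc_e_rc_27_5 lc_e_rc_18_1 lc_e_Cert_tree lc_e_rc_18_1 lc_e_rc_13_3 lc_e_rc_9_3 lc_e_rc_4_3 lc_e_rc_13_3 lc_e_rc_13_3 lc_e_rc_9_3 lc_e_rc_13_1 lc_e_rc_4_1 lc_e_Cert_tree lc_e_rc_18_1 lc_e_rc_9_3 lc_e_rc_19_2 lc_e_rc_16_3 lc_e_Cert_tree lc_e_rc_16_5 lc_e_rc_27_5 lc_e_rc_18_1 lc_e_Cert_tree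 lc_e_rc_18_1 lc_e_Cert_tree lc_e_rc_18_1) (@D3.rec (fun _ => (Cert rels S Gen.e)) lc_e_Cert_tree lc_e_rc_18_1 lc_e_Cert_tree lc_e_Cert_tree lc_e_rc_19_4 lc_e_rc_19_2 lc_e_rc_19_2 lc_e_rc_9_3 lc_e_rc_18_1 lc_e_rc_18_1 lc_e_rc_16_5 lc_e_Cert_tree lc_e_rc_18_1 lc_e_rc_27_5 lc_e_Cert_tree lc_e_rc_18_1 lc_e_Cert_tree lc_e_rc_4_3 lc_e_rc_16_1 lc_e_rc_19_4 lc_e_rc_4_1 lc_e_rc_19_2 lc_e_rc_18_1 lc_e_rc_18_1 lc_e_Cert_tree lc_e_rc_27_5 lc_e_rc_18_1 lc_e_Cert_tree lc_e_Cert_tree lc_e_rc_18_1 lc_e_Cert_tree lc_e_Cert_tree lc_e_rc_13_3 lc_e_rc_9_3 lc_e_rc_4_1 lc_e_rc_18_1 lc_e_Cert_tree lc_e_rc_18_1 lc_e_rc_18_1 lc_e_rc_16_1 lc_e_rc_18_1 lc_e_rc_16_1 lc_e_rc_18_1 lc_e_rc_9_3 lc_e_rc_16_3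 lc_e_rc_18_1 lc_e_Cert_tree lc_e_Cert_tree lc_e_rc_18_1 lc_e_rc_9_3 lc_e_Cert_tree lc_e_Cert_tree lc_e_rc_16_3 lc_e_rc_16_5 lc_e_Cert_tree lc_e_Cert_tree lc_e_rc_18_1 lc_e_rc_9_3 lc_e_Cert_tree lc_e_rc_18_1 lc_e_rc_16_3 lc_e_rc_16_3) (@D3.rec (fun _ => (Cert rels S Gen.e)) lc_e_Cert_tree lc_e_Cert_tree lc_e_rc_9_3 lc_e_rc_13_3 lc_e_rc_9_3 lc_e_rc_18_1 lc_e_rc_16_3 lc_e_Cert_tree lc_e_rc_13_3 lc_e_rc_9_3 lc_e_rc_27_1 lc_e_rc_18_1 lc_e_rc_19_4 lc_e_rc_27_5 lc_e_rc_18_1 lc_e_rc_13_3 lc_e_rc_27_5 lc_e_rc_27_5 lc_e_rc_9_3 lc_e_rc_9_3 lc_e_rc_13_3 lc_e_Cert_tree lc_e_rc_18_1 lc_e_Cert_tree lc_e_Cert_tree lc_e_rc_18_1 lc_e_rc_16_1 lc_e_rc_18_1 lc_e_rc_18_1 lc_e_rc_18_1 lc_e_Cert_tree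 lc_e_Cert_tree lc_e_rc_16_3 lc_e_rc_9_1 lc_e_Cert_tree lc_e_Cert_tree lc_e_rc_18_1 lc_e_Cert_tree lc_e_rc_18_1 lc_e_Cert_tree lc_e_Cert_tree lc_e_rc_13_3 lc_e_Cert_tree lc_e_rc_27_1 lc_e_rc_18_1 lc_e_Cert_tree lc_e_rc_16_3 lc_e_rc_19_4 lc_e_Cert_tree lc_e_rc_13_3 lc_e_rc_4_3 lc_e_rc_18_1 lc_e_Cert_tree lc_e_rc_13_3 lc_e_Cert_tree lc_e_rc_18_1 lc_e_Cert_tree lc_e_rc_18_1 lc_e_Cert_tree lc_e_rc_18_1 lc_e_rc_18_1 lc_e_rc_19_4) (@D3.rec (fun _ => (Cert rels S Gen.e)) lc_e_rc_19_2 lc_e_Cert_tree lc_e_Cert_tree lc_e_Cert_tree lc_e_rc_18_1 lc_e_rc_4_1 lc_e_Cert_tree lc_e_rc_18_1 lc_e_Cert_tree lc_e_rc_18_1 lc_e_rc_18_1 lc_e_rc_16_1 lc_e_Cert_tree lc_e_rc_4_3 lc_e_Cert_tree lc_e_rc_18_1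 lc_e_Cert_tree lc_e_Cert_tree lc_e_rc_18_1 lc_e_rc_13_1 lc_e_Cert_tree lc_e_rc_16_3 lc_e_rc_9_1 lc_e_rc_19_2 lc_e_Cert_tree lc_e_rc_16_3 lc_e_Cert_tree lc_e_Cert_tree lc_e_rc_18_1 lc_e_rc_4_3 lc_e_rc_18_1 lc_e_Cert_tree lc_e_rc_18_1 lc_e_Cert_tree lc_e_rc_18_1 lc_e_rc_18_1 lc_e_rc_18_1 lc_e_rc_4_3 lc_e_rc_19_2 lc_e_rc_18_1 lc_e_Cert_tree lc_e_rc_19_2 lc_e_Cert_tree lc_e_rc_18_1 lc_e_Cert_tree lc_e_Cert_tree lc_e_Cert_tree lc_e_rc_18_1 lc_e_rc_16_1 lc_e_Cert_tree lc_e_rc_18_1 lc_e_rc_9_3 lc_e_rc_16_3 lc_e_rc_16_1 lc_e_rc_19_2 lc_e_rc_18_1 lc_e_Cert_tree lc_e_Cert_tree lc_e_rc_18_1 lc_e_Cert_tree lc_e_rc_18_1 lc_e_rc_9_3) (@D3.rec (fun _ => (Cert rels S Gen.e)) lc_e_rc_27_1 lc_e_rc_19_4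 lc_e_Cert_tree lc_e_Cert_tree lc_e_rc_18_1 lc_e_Cert_tree lc_e_rc_18_1 lc_e_rc_13_3 lc_e_rc_27_5 lc_e_rc_18_1 lc_e_Cert_tree lc_e_Cert_tree lc_e_rc_27_7 lc_e_rc_18_1 lc_e_Cert_tree lc_e_Cert_tree lc_e_rc_18_1 lc_e_Cert_tree lc_e_rc_18_1 lc_e_rc_18_1 lc_e_rc_18_1 lc_e_rc_19_4 lc_e_rc_9_3 lc_e_rc_27_1 lc_e_rc_13_3 lc_e_rc_18_1 lc_e_Cert_tree lc_e_rc_18_1 lc_e_rc_16_1 lc_e_rc_19_4 lc_e_rc_27_5 lc_e_rc_16_3 lc_e_rc_16_1 lc_e_rc_16_3 lc_e_rc_27_5 lc_e_rc_16_1 lc_e_Cert_tree lc_e_Cert_tree lc_e_rc_18_1 lc_e_Cert_tree lc_e_Cert_tree lc_e_rc_4_1 lc_e_rc_13_3 lc_e_rc_16_3 lc_e_rc_18_1 lc_e_rc_9_3 lc_e_rc_13_3 lc_e_Cert_tree lc_e_rc_4_3 lc_e_rc_4_1 lc_e_rc_4_1 lc_e_rc_4_1 lc_e_Cert_tree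 lc_e_rc_13_3 lc_e_Cert_tree lc_e_rc_16_1 lc_e_rc_19_4 lc_e_Cert_tree lc_e_rc_18_1 lc_e_Cert_tree lc_e_rc_27_5 lc_e_rc_16_1) (@D3.rec (fun _ => (Cert rels S Gen.e)) lc_e_rc_19_4 lc_e_rc_13_1 lc_e_Cert_tree lc_e_Cert_tree lc_e_rc_9_3 lc_e_rc_13_3 lc_e_rc_13_3 lc_e_rc_18_1 lc_e_rc_16_3 lc_e_rc_18_1 lc_e_Cert_tree lc_e_rc_9_1 lc_e_rc_16_1 lc_e_rc_19_4 lc_e_Cert_tree lc_e_Cert_tree lc_e_rc_18_1 lc_e_rc_9_3 lc_e_rc_19_0 lc_e_rc_18_1 lc_e_Cert_tree lc_e_Cert_tree lc_e_rc_13_3 lc_e_rc_16_3 lc_e_rc_9_3 lc_e_Cert_tree lc_e_Cert_tree lc_e_rc_27_7 lc_e_rc_18_1 lc_e_rc_9_3 lc_e_rc_18_1 lc_e_Cert_tree lc_e_rc_18_1 lc_e_rc_13_1 lc_e_rc_18_1 lc_e_rc_16_5 lc_e_rc_18_1 lc_e_Cert_tree lc_e_Cert_tree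 lc_e_rc_9_1 lc_e_Cert_tree lc_e_rc_4_3 lc_e_Cert_tree lc_e_Cert_tree lc_e_rc_18_1 lc_e_Cert_tree lc_e_rc_18_1 lc_e_Cert_tree lc_e_rc_27_7 lc_e_Cert_tree lc_e_rc_18_1 lc_e_rc_13_3 lc_e_rc_27_7 lc_e_rc_19_0 lc_e_Cert_tree lc_e_Cert_tree lc_e_Cert_tree lc_e_rc_18_1 lc_e_rc_9_1 lc_e_Cert_tree lc_e_rc_18_1 lc_e_Cert_tree) (@D3.rec (fun _ => (Cert rels S Gen.e)) lc_e_rc_18_1 lc_e_rc_27_5 lc_e_rc_16_1 lc_e_Cert_tree lc_e_Cert_tree lc_e_Cert_tree lc_e_rc_18_1 lc_e_rc_13_3 lc_e_Cert_tree lc_e_rc_18_1 lc_e_Cert_tree lc_e_Cert_tree lc_e_rc_9_3 lc_e_rc_16_3 lc_e_rc_4_3 lc_e_rc_18_1 lc_e_Cert_tree lc_e_Cert_tree lc_e_rc_9_3 lc_e_rc_18_1 lc_e_Cert_tree lc_e_rc_13_3 lc_e_rc_18_1 lc_e_rc_18_1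 lc_e_Cert_tree lc_e_rc_19_4 lc_e_rc_13_1 lc_e_Cert_tree lc_e_Cert_tree lc_e_rc_18_1 lc_e_rc_19_2 lc_e_Cert_tree lc_e_rc_18_1 lc_e_rc_27_1 lc_e_rc_13_3 lc_e_rc_18_1 lc_e_Cert_tree lc_e_rc_16_5 lc_e_rc_19_2 lc_e_rc_9_3 lc_e_rc_18_1 lc_e_rc_18_1 lc_e_rc_18_1 lc_e_rc_18_1 lc_e_Cert_tree lc_e_rc_16_1 lc_e_rc_18_1 lc_e_Cert_tree lc_e_rc_18_1 lc_e_rc_18_1 lc_e_Cert_tree lc_e_rc_27_5 lc_e_rc_9_3 lc_e_rc_19_0 lc_e_Cert_tree lc_e_rc_18_1 lc_e_Cert_tree lc_e_Cert_tree lc_e_rc_18_1 lc_e_Cert_tree lc_e_Cert_tree lc_e_rc_4_3) (@D3.rec (fun _ => (Cert rels S Gen.e)) lc_e_Cert_tree lc_e_rc_18_1 lc_e_Cert_tree lc_e_Cert_tree lc_e_rc_16_5 lc_e_Cert_tree lc_e_Cert_tree lc_e_rc_18_1 lc_e_Cert_tree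 lc_e_rc_16_3 lc_e_rc_19_4 lc_e_rc_18_1 lc_e_Cert_tree lc_e_rc_18_1 lc_e_rc_18_1 lc_e_rc_13_1 lc_e_rc_18_1 lc_e_rc_18_1 lc_e_rc_19_0 lc_e_rc_4_1 lc_e_rc_18_1 lc_e_rc_18_1 lc_e_rc_19_4 lc_e_rc_19_0 lc_e_rc_19_4 lc_e_rc_18_1 lc_e_rc_4_3 lc_e_rc_9_3 lc_e_rc_4_1 lc_e_rc_13_1 lc_e_rc_18_1 lc_e_Cert_tree lc_e_Cert_tree lc_e_rc_16_3 lc_e_Cert_tree lc_e_rc_18_1 lc_e_rc_18_1 lc_e_rc_18_1 lc_e_rc_18_1 lc_e_Cert_tree lc_e_rc_9_3 lc_e_rc_16_1 lc_e_rc_19_2 lc_e_rc_9_3 lc_e_rc_16_1 lc_e_rc_19_2 lc_e_Cert_tree lc_e_rc_18_1 lc_e_Cert_tree lc_e_rc_13_3 lc_e_Cert_tree lc_e_rc_18_1 lc_e_rc_16_1 lc_e_rc_18_1 lc_e_Cert_tree lc_e_rc_9_3 lc_e_rc_16_1 lc_e_rc_4_3 lc_e_rc_16_1 lc_e_rc_4_1 lc_e_rc_9_3 lc_e_rc_4_3)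 (@D3.rec (fun _ => (Cert rels S Gen.e)) lc_e_Cert_tree lc_e_Cert_tree lc_e_rc_18_1 lc_e_rc_13_3 lc_e_rc_4_1 lc_e_rc_18_1 lc_e_Cert_tree lc_e_rc_18_1 lc_e_Cert_tree lc_e_Cert_tree lc_e_rc_16_1 lc_e_rc_19_2 lc_e_Cert_tree lc_e_Cert_tree lc_e_rc_18_1 lc_e_rc_18_1 lc_e_Cert_tree lc_e_rc_18_1 lc_e_rc_18_1 lc_e_rc_19_4 lc_e_Cert_tree lc_e_Cert_tree lc_e_rc_18_1 lc_e_rc_9_3 lc_e_Cert_tree lc_e_rc_13_3 lc_e_rc_19_2 lc_e_rc_4_1 lc_e_rc_13_3 lc_e_rc_18_1 lc_e_rc_13_1 lc_e_rc_9_3 lc_e_rc_16_3 lc_e_rc_18_1 lc_e_Cert_tree lc_e_rc_18_1 lc_e_Cert_tree lc_e_rc_18_1 lc_e_Cert_tree lc_e_rc_18_1 lc_e_rc_16_1 lc_e_Cert_tree lc_e_rc_18_1 lc_e_Cert_tree lc_e_rc_27_1 lc_e_rc_18_1 lc_e_rc_9_3 lc_e_rc_16_3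 lc_e_rc_18_1 lc_e_rc_27_5 lc_e_Cert_tree lc_e_rc_18_1 lc_e_rc_27_5 lc_e_rc_13_3 lc_e_rc_16_3 lc_e_rc_19_4 lc_e_Cert_tree lc_e_rc_18_1 lc_e_rc_4_1 lc_e_rc_18_1 lc_e_rc_18_1 lc_e_rc_13_3) (@D3.rec (fun _ => (Cert rels S Gen.e)) lc_e_Cert_tree lc_e_rc_13_3 lc_e_rc_18_1 lc_e_rc_27_5 lc_e_rc_18_1 lc_e_rc_18_1 lc_e_rc_16_5 lc_e_Cert_tree lc_e_rc_18_1 lc_e_rc_27_1 lc_e_Cert_tree lc_e_rc_4_3 lc_e_rc_18_1 lc_e_Cert_tree lc_e_rc_18_1 lc_e_Cert_tree lc_e_Cert_tree lc_e_rc_9_3 lc_e_rc_16_3 lc_e_Cert_tree lc_e_rc_18_1 lc_e_Cert_tree lc_e_rc_18_1 lc_e_Cert_tree lc_e_rc_19_4 lc_e_Cert_tree lc_e_rc_18_1 lc_e_Cert_tree lc_e_rc_18_1 lc_e_Cert_tree lc_e_rc_13_3 lc_e_rc_19_4 lc_e_Cert_tree lc_e_rc_18_1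 lc_e_Cert_tree lc_e_Cert_tree lc_e_rc_16_3 lc_e_rc_13_3 lc_e_rc_18_1 lc_e_rc_18_1 lc_e_rc_16_1 lc_e_rc_16_1 lc_e_rc_27_7 lc_e_Cert_tree lc_e_rc_9_3 lc_e_rc_13_3 lc_e_rc_16_3 lc_e_rc_16_3 lc_e_Cert_tree lc_e_Cert_tree lc_e_Cert_tree lc_e_Cert_tree lc_e_rc_13_3 lc_e_Cert_tree lc_e_rc_16_1 lc_e_rc_19_4 lc_e_Cert_tree lc_e_Cert_tree lc_e_rc_13_3 lc_e_rc_16_3 lc_e_rc_19_2 lc_e_Cert_tree) (@D3.rec (fun _ => (Cert rels S Gen.e)) lc_e_Cert_tree lc_e_rc_18_1 lc_e_rc_27_5 lc_e_rc_18_1 lc_e_Cert_tree lc_e_Cert_tree lc_e_rc_13_3 lc_e_Cert_tree lc_e_Cert_tree lc_e_Cert_tree lc_e_Cert_tree lc_e_rc_18_1 lc_e_Cert_tree lc_e_Cert_tree lc_e_rc_18_1 lc_e_Cert_tree lc_e_rc_18_1 lc_e_Cert_tree lc_e_Cert_tree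 lc_e_rc_4_1 lc_e_rc_18_1 lc_e_Cert_tree lc_e_Cert_tree lc_e_rc_27_5 lc_e_rc_18_1 lc_e_rc_13_1 lc_e_Cert_tree lc_e_rc_9_3 lc_e_Cert_tree lc_e_Cert_tree lc_e_rc_18_1 lc_e_Cert_tree lc_e_rc_27_1 lc_e_rc_13_1 lc_e_rc_18_1 lc_e_rc_18_1 lc_e_rc_4_3 lc_e_rc_18_1 lc_e_rc_27_5 lc_e_rc_18_1 lc_e_Cert_tree lc_e_rc_18_1 lc_e_Cert_tree lc_e_rc_27_7 lc_e_rc_18_1 lc_e_Cert_tree lc_e_rc_18_1 lc_e_Cert_tree lc_e_Cert_tree lc_e_rc_9_3 lc_e_Cert_tree lc_e_rc_18_1 lc_e_rc_18_1 lc_e_rc_18_1 lc_e_rc_19_4 lc_e_rc_19_2 lc_e_Cert_tree lc_e_rc_18_1 lc_e_Cert_tree lc_e_rc_27_5 lc_e_rc_19_4 lc_e_rc_18_1) (@D3.rec (fun _ => (Cert rels S Gen.e)) lc_e_rc_18_1 lc_e_Cert_tree lc_e_Cert_tree lc_e_rc_4_1 lc_e_Cert_tree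 lc_e_rc_18_1 lc_e_rc_18_1 lc_e_Cert_tree lc_e_rc_18_1 lc_e_rc_18_1 lc_e_rc_4_3 lc_e_rc_16_1 lc_e_rc_27_5 lc_e_rc_16_3 lc_e_rc_18_1 lc_e_rc_13_3 lc_e_Cert_tree lc_e_rc_16_1 lc_e_rc_19_4 lc_e_rc_4_3 lc_e_Cert_tree lc_e_rc_18_1 lc_e_Cert_tree lc_e_Cert_tree lc_e_rc_18_1 lc_e_rc_16_3 lc_e_Cert_tree lc_e_rc_13_3 lc_e_rc_13_3 lc_e_rc_13_3 lc_e_rc_9_3 lc_e_Cert_tree lc_e_rc_18_1 lc_e_rc_9_3 lc_e_Cert_tree lc_e_Cert_tree lc_e_rc_9_3 lc_e_Cert_tree lc_e_rc_13_3 lc_e_Cert_tree lc_e_rc_18_1 lc_e_rc_27_7 lc_e_rc_16_3 lc_e_rc_18_1 lc_e_Cert_tree lc_e_Cert_tree lc_e_rc_18_1 lc_e_Cert_tree lc_e_Cert_tree lc_e_rc_18_1 lc_e_Cert_tree lc_e_rc_9_3 lc_e_rc_9_3 lc_e_rc_19_2 lc_e_rc_18_1 lc_e_Cert_tree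 lc_e_rc_18_1 lc_e_Cert_tree lc_e_rc_9_3 lc_e_rc_16_3 lc_e_rc_9_1 lc_e_Cert_tree) (@D3.rec (fun _ => (Cert rels S Gen.e)) lc_e_rc_13_3 lc_e_Cert_tree lc_e_rc_13_1 lc_e_rc_4_3 lc_e_rc_16_3 lc_e_rc_27_1 lc_e_rc_18_1 lc_e_rc_18_1 lc_e_rc_9_3 lc_e_rc_27_7 lc_e_rc_4_3 lc_e_rc_9_3 lc_e_rc_27_7 lc_e_rc_18_1 lc_e_rc_4_3 lc_e_rc_16_5 lc_e_rc_27_5 lc_e_rc_4_1 lc_e_rc_13_1 lc_e_Cert_tree lc_e_rc_18_1 lc_e_rc_9_3 lc_e_rc_27_7 lc_e_rc_9_3 lc_e_rc_19_2 lc_e_Cert_tree lc_e_rc_18_1 lc_e_rc_19_2 lc_e_rc_16_1 lc_e_rc_4_3 lc_e_Cert_tree lc_e_rc_16_5 lc_e_Cert_tree lc_e_rc_18_1 lc_e_rc_16_1 lc_e_Cert_tree lc_e_Cert_tree lc_e_rc_18_1 lc_e_rc_9_3 lc_e_Cert_tree lc_e_rc_9_3 lc_e_rc_13_3 lc_e_Cert_tree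 lc_e_rc_18_1 lc_e_rc_13_3 lc_e_rc_9_3 lc_e_rc_9_1 lc_e_rc_18_1 lc_e_Cert_tree lc_e_Cert_tree lc_e_rc_18_1 lc_e_rc_18_1 lc_e_rc_27_7 lc_e_Cert_tree lc_e_rc_18_1 lc_e_Cert_tree lc_e_rc_18_1 lc_e_Cert_tree lc_e_Cert_tree lc_e_Cert_tree lc_e_rc_18_1 lc_e_rc_18_1) (@D3.rec (fun _ => (Cert rels S Gen.e)) lc_e_Cert_tree lc_e_rc_16_1 lc_e_rc_13_3 lc_e_rc_16_5 lc_e_Cert_tree lc_e_rc_9_3 lc_e_rc_16_5 lc_e_Cert_tree lc_e_rc_27_5 lc_e_rc_18_1 lc_e_rc_27_5 lc_e_rc_18_1 lc_e_rc_19_4 lc_e_Cert_tree lc_e_Cert_tree lc_e_rc_18_1 lc_e_rc_19_4 lc_e_Cert_tree lc_e_Cert_tree lc_e_rc_18_1 lc_e_rc_18_1 lc_e_Cert_tree lc_e_rc_18_1 lc_e_Cert_tree lc_e_Cert_tree lc_e_rc_18_1 lc_e_rc_27_5 lc_e_rc_18_1 lc_e_rc_18_1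 lc_e_rc_18_1 lc_e_rc_27_5 lc_e_rc_19_4 lc_e_rc_19_0 lc_e_Cert_tree lc_e_rc_18_1 lc_e_Cert_tree lc_e_Cert_tree lc_e_rc_18_1 lc_e_Cert_tree lc_e_Cert_tree lc_e_rc_4_3 lc_e_rc_13_3 lc_e_rc_13_1 lc_e_rc_18_1 lc_e_rc_18_1 lc_e_Cert_tree lc_e_Cert_tree lc_e_rc_13_3 lc_e_rc_16_3 lc_e_rc_19_2 lc_e_rc_18_1 lc_e_rc_13_3 lc_e_rc_18_1 lc_e_rc_9_1 lc_e_rc_13_3 lc_e_rc_16_1 lc_e_rc_13_1 lc_e_rc_19_4 lc_e_rc_18_1 lc_e_rc_9_3 lc_e_rc_13_3 lc_e_Cert_tree) (@D3.rec (fun _ => (Cert rels S Gen.e)) lc_e_rc_16_3 lc_e_Cert_tree lc_e_rc_13_3 lc_e_rc_27_1 lc_e_rc_13_1 lc_e_rc_16_3 lc_e_rc_18_1 lc_e_Cert_tree lc_e_rc_16_5 lc_e_rc_27_7 lc_e_rc_18_1 lc_e_rc_13_1 lc_e_rc_18_1 lc_e_rc_9_3 lc_e_rc_18_1 lc_e_rc_18_1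 lc_e_rc_13_1 lc_e_Cert_tree lc_e_rc_9_1 lc_e_rc_27_7 lc_e_rc_13_1 lc_e_rc_18_1 lc_e_rc_13_1 lc_e_rc_16_3 lc_e_rc_9_1 lc_e_Cert_tree lc_e_rc_18_1 lc_e_rc_9_1 lc_e_rc_4_3 lc_e_rc_18_1 lc_e_Cert_tree lc_e_Cert_tree lc_e_rc_13_3 lc_e_rc_9_1 lc_e_Cert_tree lc_e_rc_16_1 lc_e_Cert_tree lc_e_rc_18_1 lc_e_rc_9_3 lc_e_rc_13_1 lc_e_rc_18_1 lc_e_rc_16_1 lc_e_rc_18_1 lc_e_Cert_tree lc_e_rc_18_1 lc_e_Cert_tree lc_e_rc_9_3 lc_e_rc_18_1 lc_e_rc_9_3 lc_e_rc_13_3 lc_e_Cert_tree lc_e_rc_16_3 lc_e_rc_19_2 lc_e_Cert_tree lc_e_rc_13_3 lc_e_rc_16_3 lc_e_rc_27_5 lc_e_rc_4_3 lc_e_rc_9_3 lc_e_Cert_tree lc_e_rc_18_1 lc_e_rc_9_3) (@D3.rec (fun _ => (Cert rels S Gen.e)) lc_e_rc_16_3 lc_e_Cert_tree lc_e_rc_13_3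 lc_e_Cert_tree lc_e_rc_16_3 lc_e_rc_27_7 lc_e_rc_13_1 lc_e_rc_18_1 lc_e_rc_19_2 lc_e_rc_4_3 lc_e_Cert_tree lc_e_rc_18_1 lc_e_rc_13_1 lc_e_rc_18_1 lc_e_rc_4_3 lc_e_rc_4_3 lc_e_Cert_tree lc_e_rc_16_5 lc_e_rc_13_3 lc_e_Cert_tree lc_e_rc_18_1 lc_e_rc_27_7 lc_e_rc_18_1 lc_e_rc_13_3 lc_e_rc_27_1 lc_e_rc_18_1 lc_e_rc_16_1 lc_e_rc_19_4 lc_e_rc_18_1 lc_e_rc_9_3 lc_e_rc_9_3 lc_e_rc_16_1 lc_e_rc_4_1 lc_e_Cert_tree lc_e_rc_9_3 lc_e_rc_4_3 lc_e_rc_18_1 lc_e_Cert_tree lc_e_rc_27_7 lc_e_rc_4_3 lc_e_rc_27_5 lc_e_rc_18_1 lc_e_rc_13_1 lc_e_rc_27_7 lc_e_rc_13_3 lc_e_rc_9_3 lc_e_rc_13_1 lc_e_rc_13_3 lc_e_rc_9_1 lc_e_Cert_tree lc_e_rc_18_1 lc_e_rc_27_5 lc_e_rc_27_1 lc_e_rc_16_1 lc_e_rc_18_1 lc_e_rc_16_5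 lc_e_rc_13_1 lc_e_rc_27_5 lc_e_rc_18_1 lc_e_rc_18_1 lc_e_rc_13_1 lc_e_rc_27_5) (@D3.rec (fun _ => (Cert rels S Gen.e)) lc_e_rc_16_3 lc_e_rc_13_3 lc_e_rc_19_0 lc_e_rc_18_1 lc_e_rc_16_1 lc_e_rc_27_5 lc_e_Cert_tree lc_e_rc_18_1 lc_e_rc_19_4 lc_e_rc_16_1 lc_e_rc_19_4 lc_e_rc_13_3 lc_e_rc_16_5 lc_e_Cert_tree lc_e_Cert_tree lc_e_rc_19_2 lc_e_rc_18_1 lc_e_rc_19_2 lc_e_rc_4_3 lc_e_Cert_tree lc_e_Cert_tree lc_e_rc_18_1 lc_e_rc_13_1 lc_e_rc_16_5 lc_e_rc_18_1 lc_e_rc_19_4 lc_e_rc_13_3 lc_e_rc_16_3 lc_e_rc_18_1 lc_e_rc_13_1 lc_e_rc_27_5 lc_e_Cert_tree lc_e_rc_19_2 lc_e_Cert_tree lc_e_Cert_tree lc_e_rc_18_1 lc_e_Cert_tree lc_e_Cert_tree lc_e_rc_18_1 lc_e_Cert_tree lc_e_Cert_tree lc_e_rc_4_3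 lc_e_rc_16_1 lc_e_rc_19_2 lc_e_Cert_tree lc_e_Cert_tree lc_e_rc_18_1 lc_e_rc_16_3 lc_e_rc_18_1 lc_e_rc_16_3 lc_e_rc_13_3 lc_e_rc_16_5 lc_e_rc_16_5 lc_e_rc_16_1 lc_e_rc_27_7 lc_e_Cert_tree lc_e_rc_18_1 lc_e_Cert_tree lc_e_Cert_tree lc_e_rc_18_1 lc_e_rc_16_5 lc_e_rc_18_1) (@D3.rec (fun _ => (Cert rels S Gen.e)) lc_e_rc_16_1 lc_e_rc_27_7 lc_e_Cert_tree lc_e_rc_18_1 lc_e_Cert_tree lc_e_rc_13_1 lc_e_rc_18_1 lc_e_rc_27_7 lc_e_Cert_tree lc_e_rc_9_3 lc_e_Cert_tree lc_e_rc_18_1 lc_e_rc_9_3 lc_e_rc_4_1 lc_e_rc_27_7 lc_e_rc_27_1 lc_e_rc_18_1 lc_e_rc_16_3 lc_e_rc_27_5 lc_e_Cert_tree lc_e_rc_18_1 lc_e_rc_16_1 lc_e_rc_9_1 lc_e_rc_18_1 lc_e_rc_18_1 lc_e_Cert_tree lc_e_rc_13_3 lc_e_rc_16_5 lc_e_rc_18_1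 lc_e_rc_13_3 lc_e_Cert_tree lc_e_rc_18_1 lc_e_rc_27_5 lc_e_rc_27_7 lc_e_rc_19_2 lc_e_Cert_tree lc_e_rc_13_3 lc_e_rc_18_1 lc_e_Cert_tree lc_e_rc_18_1 lc_e_Cert_tree lc_e_rc_18_1 lc_e_Cert_tree lc_e_Cert_tree lc_e_Cert_tree lc_e_rc_18_1 lc_e_rc_18_1 lc_e_rc_19_2 lc_e_rc_13_3 lc_e_Cert_tree lc_e_Cert_tree lc_e_rc_27_5 lc_e_rc_18_1 lc_e_Cert_tree lc_e_rc_9_3 lc_e_rc_13_3 lc_e_rc_19_4 lc_e_rc_9_3 lc_e_rc_16_5 lc_e_Cert_tree lc_e_rc_4_3 lc_e_rc_19_0) (@D3.rec (fun _ => (Cert rels S Gen.e)) lc_e_rc_27_7 lc_e_Cert_tree lc_e_rc_18_1 lc_e_Cert_tree lc_e_rc_18_1 lc_e_rc_13_3 lc_e_rc_9_3 lc_e_rc_4_3 lc_e_Cert_tree lc_e_rc_27_7 lc_e_rc_16_1 lc_e_rc_19_4 lc_e_rc_16_5 lc_e_rc_9_3 lc_e_rc_13_3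 lc_e_rc_16_5 lc_e_Cert_tree lc_e_rc_16_3 lc_e_rc_19_4 lc_e_rc_9_3 lc_e_rc_16_5 lc_e_Cert_tree lc_e_Cert_tree lc_e_Cert_tree lc_e_rc_18_1 lc_e_rc_4_3 lc_e_rc_13_3 lc_e_rc_19_4 lc_e_rc_4_1 lc_e_rc_18_1 lc_e_rc_9_1 lc_e_rc_13_3 lc_e_rc_18_1 lc_e_rc_16_3 lc_e_rc_18_1 lc_e_rc_27_5 lc_e_rc_16_3 lc_e_rc_19_2 lc_e_rc_13_3 lc_e_rc_27_1 lc_e_rc_9_3 lc_e_rc_13_3 lc_e_Cert_tree lc_e_Cert_tree lc_e_Cert_tree lc_e_rc_13_3 lc_e_rc_19_4 lc_e_rc_27_1 lc_e_Cert_tree lc_e_Cert_tree lc_e_rc_18_1 lc_e_rc_9_1 lc_e_rc_19_4 lc_e_rc_18_1 lc_e_Cert_tree lc_e_Cert_tree lc_e_rc_18_1 lc_e_rc_16_3 lc_e_rc_19_4 lc_e_rc_16_5 lc_e_Cert_tree lc_e_rc_16_5) (@D3.rec (fun _ => (Cert rels S Gen.e)) lc_e_rc_13_1 lc_e_rc_27_5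 lc_e_rc_18_1 lc_e_Cert_tree lc_e_rc_9_1 lc_e_Cert_tree lc_e_rc_27_1 lc_e_rc_18_1 lc_e_rc_19_0 lc_e_rc_4_3 lc_e_rc_13_3 lc_e_Cert_tree lc_e_rc_18_1 lc_e_rc_18_1 lc_e_Cert_tree lc_e_rc_13_1 lc_e_Cert_tree lc_e_Cert_tree lc_e_rc_4_3 lc_e_Cert_tree lc_e_rc_27_5 lc_e_rc_18_1 lc_e_rc_16_5 lc_e_Cert_tree lc_e_Cert_tree lc_e_Cert_tree lc_e_rc_13_3 lc_e_rc_9_3 lc_e_rc_13_3 lc_e_Cert_tree lc_e_rc_9_3 lc_e_rc_18_1 lc_e_rc_16_1 lc_e_rc_19_2 lc_e_rc_9_3 lc_e_rc_18_1 lc_e_rc_13_3 lc_e_Cert_tree lc_e_rc_18_1 lc_e_rc_27_1 lc_e_rc_16_1 lc_e_rc_19_4 lc_e_rc_4_1 lc_e_Cert_tree lc_e_Cert_tree lc_e_rc_18_1 lc_e_Cert_tree lc_e_rc_18_1 lc_e_rc_13_1 lc_e_rc_4_3 lc_e_rc_19_4 lc_e_rc_9_3 lc_e_rc_18_1 lc_e_Cert_tree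 lc_e_rc_18_1 lc_e_Cert_tree lc_e_rc_18_1 lc_e_Cert_tree lc_e_rc_13_1 lc_e_rc_18_1 lc_e_rc_18_1 lc_e_rc_9_3) (@D3.rec (fun _ => (Cert rels S Gen.e)) lc_e_rc_19_4 lc_e_rc_16_5 lc_e_rc_18_1 lc_e_Cert_tree lc_e_Cert_tree lc_e_rc_18_1 lc_e_rc_16_5 lc_e_rc_16_5 lc_e_rc_4_3 lc_e_Cert_tree lc_e_rc_18_1 lc_e_rc_19_0 lc_e_Cert_tree lc_e_rc_16_1 lc_e_rc_18_1 lc_e_Cert_tree lc_e_Cert_tree lc_e_rc_9_3 lc_e_rc_9_3 lc_e_rc_27_5 lc_e_Cert_tree lc_e_Cert_tree lc_e_rc_18_1 lc_e_rc_27_5 lc_e_rc_13_1 lc_e_Cert_tree lc_e_Cert_tree lc_e_rc_18_1 lc_e_rc_27_5 lc_e_Cert_tree lc_e_Cert_tree lc_e_Cert_tree lc_e_Cert_tree lc_e_rc_9_3 lc_e_rc_18_1 lc_e_Cert_tree lc_e_rc_13_3 lc_e_rc_18_1 lc_e_rc_18_1 lc_e_Cert_tree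 lc_e_rc_9_3 lc_e_Cert_tree lc_e_rc_18_1 lc_e_rc_9_3 lc_e_rc_9_3 lc_e_rc_18_1 lc_e_Cert_tree lc_e_Cert_tree lc_e_rc_4_3 lc_e_rc_18_1 lc_e_Cert_tree lc_e_Cert_tree lc_e_rc_4_3 lc_e_Cert_tree lc_e_rc_18_1 lc_e_Cert_tree lc_e_rc_4_3 lc_e_rc_16_1 lc_e_rc_19_2 lc_e_rc_27_7 lc_e_rc_18_1 lc_e_rc_19_0) (@D3.rec (fun _ => (Cert rels S Gen.e)) lc_e_rc_27_7 lc_e_Cert_tree lc_e_Cert_tree lc_e_rc_18_1 lc_e_Cert_tree lc_e_rc_18_1 lc_e_Cert_tree lc_e_Cert_tree lc_e_rc_19_4 lc_e_Cert_tree lc_e_Cert_tree lc_e_rc_18_1 lc_e_rc_18_1 lc_e_Cert_tree lc_e_rc_18_1 lc_e_rc_18_1 lc_e_Cert_tree lc_e_rc_19_4 lc_e_Cert_tree lc_e_Cert_tree lc_e_Cert_tree lc_e_rc_18_1 lc_e_rc_13_1 lc_e_Cert_tree lc_e_Cert_tree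 lc_e_Cert_tree lc_e_rc_18_1 lc_e_Cert_tree lc_e_rc_27_5 lc_e_rc_18_1 lc_e_rc_18_1 lc_e_rc_13_3 lc_e_rc_13_3 lc_e_rc_19_2 lc_e_rc_19_4 lc_e_rc_18_1 lc_e_rc_9_3 lc_e_rc_18_1 lc_e_rc_13_3 lc_e_rc_18_1 lc_e_rc_9_3 lc_e_rc_27_1 lc_e_rc_4_3 lc_e_Cert_tree lc_e_rc_18_1 lc_e_rc_13_3 lc_e_rc_4_1 lc_e_rc_27_5 lc_e_rc_18_1 lc_e_rc_27_7 lc_e_rc_9_3 lc_e_Cert_tree lc_e_rc_18_1 lc_e_Cert_tree lc_e_rc_9_3 lc_e_rc_27_7 lc_e_Cert_tree lc_e_rc_18_1 lc_e_rc_27_7 lc_e_Cert_tree lc_e_Cert_tree lc_e_rc_18_1) (@D3.rec (fun _ => (Cert rels S Gen.e)) lc_e_rc_18_1 lc_e_rc_27_5 lc_e_rc_27_7 lc_e_rc_18_1 lc_e_Cert_tree lc_e_rc_18_1 lc_e_rc_4_3 lc_e_rc_18_1 lc_e_Cert_tree lc_e_rc_18_1 lc_e_rc_9_3 lc_e_rc_13_3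 lc_e_rc_13_1 lc_e_rc_13_1 lc_e_rc_18_1 lc_e_rc_18_1 lc_e_rc_18_1 lc_e_rc_16_1 lc_e_rc_13_1 lc_e_rc_27_5 lc_e_rc_18_1 lc_e_Cert_tree lc_e_rc_18_1 lc_e_rc_13_3 lc_e_rc_13_3 lc_e_rc_9_3 lc_e_Cert_tree lc_e_Cert_tree lc_e_rc_18_1 lc_e_rc_16_1 lc_e_rc_18_1 lc_e_Cert_tree lc_e_rc_13_3 lc_e_Cert_tree lc_e_rc_9_3 lc_e_Cert_tree lc_e_rc_27_1 lc_e_rc_18_1 lc_e_rc_16_3 lc_e_rc_19_2 lc_e_rc_13_1 lc_e_rc_19_0 lc_e_rc_18_1 lc_e_Cert_tree lc_e_rc_13_1 lc_e_rc_18_1 lc_e_rc_18_1 lc_e_Cert_tree lc_e_rc_13_3 lc_e_rc_27_5 lc_e_rc_9_3 lc_e_rc_18_1 lc_e_rc_13_3 lc_e_rc_9_3 lc_e_Cert_tree lc_e_rc_13_3 lc_e_Cert_tree lc_e_rc_13_3 lc_e_Cert_tree lc_e_rc_27_7 lc_e_Cert_tree lc_e_rc_18_1) (@D3.rec (fun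 _ => (Cert rels S Gen.e)) lc_e_rc_16_1 lc_e_Cert_tree lc_e_Cert_tree lc_e_rc_18_1 lc_e_rc_16_5 lc_e_rc_27_7 lc_e_Cert_tree lc_e_rc_18_1 lc_e_Cert_tree lc_e_Cert_tree lc_e_rc_16_1 lc_e_rc_19_4 lc_e_rc_4_3 lc_e_Cert_tree lc_e_Cert_tree lc_e_rc_18_1 lc_e_Cert_tree lc_e_rc_18_1 lc_e_Cert_tree lc_e_rc_16_5 lc_e_rc_19_4 lc_e_rc_13_1 lc_e_rc_4_3 lc_e_rc_27_1 lc_e_rc_18_1 lc_e_rc_27_5 lc_e_rc_4_1 lc_e_rc_9_3 lc_e_Cert_tree lc_e_rc_18_1 lc_e_rc_27_7 lc_e_Cert_tree lc_e_rc_27_7 lc_e_rc_9_3 lc_e_rc_18_1 lc_e_Cert_tree lc_e_rc_27_7 lc_e_Cert_tree lc_e_rc_18_1 lc_e_rc_16_3 lc_e_rc_27_5 lc_e_Cert_tree lc_e_rc_27_5 lc_e_rc_16_3 lc_e_rc_19_4 lc_e_rc_27_7 lc_e_rc_4_3 lc_e_Cert_tree lc_e_rc_18_1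 lc_e_Cert_tree lc_e_rc_18_1 lc_e_rc_4_1 lc_e_Cert_tree lc_e_Cert_tree lc_e_rc_16_1 lc_e_rc_19_4 lc_e_rc_13_3 lc_e_rc_13_3 lc_e_rc_9_3 lc_e_rc_9_1 lc_e_Cert_tree lc_e_Cert_tree) (@D3.rec (fun _ => (Cert rels S Gen.e)) lc_e_rc_13_1 lc_e_rc_18_1 lc_e_Cert_tree lc_e_Cert_tree lc_e_rc_19_4 lc_e_rc_13_3 lc_e_rc_13_3 lc_e_rc_13_3 lc_e_rc_9_3 lc_e_rc_18_1 lc_e_rc_4_3 lc_e_rc_27_5 lc_e_Cert_tree lc_e_Cert_tree lc_e_rc_19_4 lc_e_rc_27_5 lc_e_rc_13_3 lc_e_rc_18_1 lc_e_Cert_tree lc_e_rc_18_1 lc_e_Cert_tree lc_e_rc_18_1 lc_e_rc_16_5 lc_e_Cert_tree lc_e_rc_19_4 lc_e_Cert_tree lc_e_Cert_tree lc_e_Cert_tree lc_e_rc_18_1 lc_e_rc_27_5 lc_e_rc_19_4 lc_e_rc_9_3 lc_e_rc_13_3 lc_e_rc_27_1 lc_e_rc_27_5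 lc_e_rc_9_1 lc_e_rc_27_5 lc_e_rc_18_1 lc_e_rc_18_1 lc_e_rc_16_3 lc_e_rc_9_3 lc_e_Cert_tree lc_e_Cert_tree lc_e_Cert_tree lc_e_rc_18_1 lc_e_Cert_tree lc_e_Cert_tree lc_e_rc_13_3 lc_e_rc_13_1 lc_e_rc_16_5 lc_e_rc_16_5 lc_e_rc_13_3 lc_e_Cert_tree lc_e_Cert_tree lc_e_rc_18_1 lc_e_rc_19_2 lc_e_rc_18_1 lc_e_rc_4_1 lc_e_rc_9_1 lc_e_rc_18_1 lc_e_rc_16_3 lc_e_rc_13_1) (@D3.rec (fun _ => (Cert rels S Gen.e)) lc_e_rc_18_1 lc_e_Cert_tree lc_e_rc_18_1 lc_e_rc_18_1 lc_e_Cert_tree lc_e_rc_18_1 lc_e_rc_16_3 lc_e_rc_16_3 lc_e_rc_18_1 lc_e_rc_27_7 lc_e_rc_19_2 lc_e_Cert_tree lc_e_Cert_tree lc_e_rc_18_1 lc_e_rc_27_5 lc_e_Cert_tree lc_e_Cert_tree lc_e_rc_18_1 lc_e_Cert_tree lc_e_rc_18_1 lc_e_rc_16_1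 lc_e_Cert_tree lc_e_rc_18_1 lc_e_Cert_tree lc_e_rc_9_3 lc_e_Cert_tree lc_e_rc_13_3 lc_e_rc_27_5 lc_e_rc_18_1 lc_e_rc_9_3 lc_e_rc_27_7 lc_e_rc_4_3 lc_e_rc_16_3 lc_e_rc_9_3 lc_e_rc_27_7 lc_e_rc_19_4 lc_e_rc_16_3 lc_e_rc_13_3 lc_e_rc_19_2 lc_e_rc_9_3 lc_e_Cert_tree lc_e_rc_9_1 lc_e_rc_27_1 lc_e_rc_18_1 lc_e_Cert_tree lc_e_rc_16_5 lc_e_Cert_tree lc_e_rc_18_1 lc_e_rc_18_1 lc_e_rc_18_1 lc_e_Cert_tree lc_e_rc_18_1 lc_e_Cert_tree lc_e_Cert_tree lc_e_rc_18_1 lc_e_rc_16_3 lc_e_rc_18_1 lc_e_rc_19_2 lc_e_rc_9_3 lc_e_rc_27_5 lc_e_Cert_tree lc_e_rc_18_1) (@D3.rec (fun _ => (Cert rels S Gen.e)) lc_e_rc_19_2 lc_e_Cert_tree lc_e_rc_16_3 lc_e_Cert_tree lc_e_rc_16_3 lc_e_rc_13_3 lc_e_rc_18_1 lc_e_rc_18_1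 lc_e_Cert_tree lc_e_rc_16_5 lc_e_rc_18_1 lc_e_Cert_tree lc_e_Cert_tree lc_e_rc_18_1 lc_e_rc_27_5 lc_e_Cert_tree lc_e_rc_19_4 lc_e_rc_19_4 lc_e_Cert_tree lc_e_rc_18_1 lc_e_rc_16_3 lc_e_Cert_tree lc_e_Cert_tree lc_e_rc_18_1 lc_e_rc_27_5 lc_e_rc_13_3 lc_e_rc_16_1 lc_e_Cert_tree lc_e_rc_18_1 lc_e_Cert_tree lc_e_rc_16_1 lc_e_rc_16_1 lc_e_rc_19_4 lc_e_Cert_tree lc_e_Cert_tree lc_e_rc_18_1 lc_e_rc_4_3 lc_e_rc_16_3 lc_e_rc_18_1 lc_e_rc_18_1 lc_e_Cert_tree lc_e_rc_19_4 lc_e_rc_16_1 lc_e_rc_13_1 lc_e_rc_18_1 lc_e_rc_9_1 lc_e_rc_18_1 lc_e_Cert_tree lc_e_rc_27_5 lc_e_rc_19_4 lc_e_rc_18_1 lc_e_rc_4_3 lc_e_rc_9_1 lc_e_rc_16_1 lc_e_rc_4_3 lc_e_rc_9_3 lc_e_Cert_tree lc_e_rc_18_1 lc_e_rc_18_1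 lc_e_Cert_tree lc_e_rc_9_1 lc_e_rc_9_1) (@D3.rec (fun _ => (Cert rels S Gen.e)) lc_e_rc_9_1 lc_e_rc_18_1 lc_e_rc_18_1 lc_e_Cert_tree lc_e_rc_13_3 lc_e_Cert_tree lc_e_rc_18_1 lc_e_rc_27_5 lc_e_rc_18_1 lc_e_Cert_tree lc_e_rc_18_1 lc_e_rc_18_1 lc_e_rc_27_5 lc_e_rc_16_1 lc_e_rc_18_1 lc_e_rc_13_3 lc_e_rc_27_1 lc_e_rc_13_3 lc_e_rc_4_3 lc_e_rc_4_1 lc_e_rc_18_1 lc_e_Cert_tree lc_e_Cert_tree lc_e_rc_18_1 lc_e_rc_18_1 lc_e_rc_16_3 lc_e_rc_19_4 lc_e_rc_27_5 lc_e_rc_18_1 lc_e_rc_16_3 lc_e_rc_27_7 lc_e_rc_27_1 lc_e_rc_18_1 lc_e_rc_27_5 lc_e_rc_16_1 lc_e_rc_27_5 lc_e_rc_27_5 lc_e_rc_18_1 lc_e_rc_9_3 lc_e_rc_16_3 lc_e_rc_16_1 lc_e_rc_19_2 lc_e_rc_13_3 lc_e_rc_18_1 lc_e_Cert_tree lc_e_rc_18_1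 lc_e_rc_18_1 lc_e_rc_4_3 lc_e_rc_19_4 lc_e_Cert_tree lc_e_rc_18_1 lc_e_rc_18_1 lc_e_rc_18_1 lc_e_Cert_tree lc_e_rc_18_1 lc_e_rc_16_1 lc_e_rc_19_4 lc_e_rc_9_3 lc_e_rc_13_3 lc_e_Cert_tree lc_e_Cert_tree lc_e_Cert_tree) (@D3.rec (fun _ => (Cert rels S Gen.e)) lc_e_rc_18_1 lc_e_Cert_tree lc_e_rc_19_4 lc_e_rc_13_3 lc_e_Cert_tree lc_e_rc_9_3 lc_e_rc_9_3 lc_e_rc_9_3 lc_e_rc_19_2 lc_e_Cert_tree lc_e_rc_27_5 lc_e_rc_18_1 lc_e_rc_19_4 lc_e_rc_13_3 lc_e_Cert_tree lc_e_rc_18_1 lc_e_rc_18_1 lc_e_rc_9_3 lc_e_rc_18_1 lc_e_Cert_tree lc_e_rc_9_3 lc_e_Cert_tree lc_e_rc_18_1 lc_e_rc_27_7 lc_e_rc_18_1 lc_e_Cert_tree lc_e_rc_18_1 lc_e_rc_9_3 lc_e_rc_9_3 lc_e_rc_18_1 lc_e_rc_9_3 lc_e_rc_18_1 lc_e_rc_16_3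 lc_e_rc_13_1 lc_e_Cert_tree lc_e_rc_18_1 lc_e_rc_18_1 lc_e_Cert_tree lc_e_rc_9_3 lc_e_rc_13_3 lc_e_Cert_tree lc_e_rc_18_1 lc_e_rc_9_3 lc_e_rc_18_1 lc_e_rc_16_1 lc_e_rc_13_1 lc_e_rc_4_1 lc_e_rc_19_2 lc_e_Cert_tree lc_e_rc_18_1 lc_e_rc_4_3 lc_e_rc_13_3 lc_e_Cert_tree lc_e_rc_18_1 lc_e_rc_27_5 lc_e_rc_18_1 lc_e_rc_9_3 lc_e_rc_19_4 lc_e_rc_18_1 lc_e_Cert_tree lc_e_rc_18_1 lc_e_rc_27_7) (@D3.rec (fun _ => (Cert rels S Gen.e)) lc_e_rc_9_3 lc_e_rc_18_1 lc_e_rc_18_1 lc_e_rc_27_5 lc_e_rc_16_3 lc_e_rc_16_5 lc_e_rc_9_1 lc_e_rc_27_1 lc_e_rc_18_1 lc_e_Cert_tree lc_e_rc_16_3 lc_e_rc_18_1 lc_e_rc_16_1 lc_e_rc_27_5 lc_e_rc_13_3 lc_e_rc_19_2 lc_e_rc_9_1 lc_e_rc_4_1 lc_e_rc_9_1 lc_e_rc_18_1 lc_e_rc_9_3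 lc_e_rc_27_1 lc_e_Cert_tree lc_e_rc_16_5 lc_e_rc_13_1 lc_e_rc_18_1 lc_e_rc_13_3 lc_e_rc_19_2 lc_e_Cert_tree lc_e_Cert_tree lc_e_rc_27_7 lc_e_rc_18_1 lc_e_rc_27_1 lc_e_rc_18_1 lc_e_rc_9_3 lc_e_rc_18_1 lc_e_rc_27_1 lc_e_rc_16_1 lc_e_rc_19_2 lc_e_rc_27_7 lc_e_Cert_tree lc_e_rc_18_1 lc_e_rc_13_3 lc_e_Cert_tree lc_e_Cert_tree lc_e_rc_9_3 lc_e_rc_16_1 lc_e_Cert_tree lc_e_rc_18_1 lc_e_rc_18_1 lc_e_Cert_tree lc_e_rc_18_1 lc_e_Cert_tree lc_e_rc_27_5 lc_e_rc_18_1 lc_e_rc_18_1 lc_e_Cert_tree lc_e_rc_19_4 lc_e_rc_18_1 lc_e_rc_4_3 lc_e_Cert_tree lc_e_rc_18_1) (@D3.rec (fun _ => (Cert rels S Gen.e)) lc_e_rc_27_5 lc_e_rc_27_1 lc_e_rc_13_3 lc_e_rc_18_1 lc_e_Cert_tree lc_e_rc_16_1 lc_e_rc_19_2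 lc_e_rc_18_1 lc_e_Cert_tree lc_e_rc_18_1 lc_e_rc_18_1 lc_e_Cert_tree lc_e_Cert_tree lc_e_rc_19_2 lc_e_rc_4_3 lc_e_rc_18_1 lc_e_rc_9_1 lc_e_rc_18_1 lc_e_rc_4_1 lc_e_rc_4_3 lc_e_rc_19_4 lc_e_rc_16_1 lc_e_rc_18_1 lc_e_rc_18_1 lc_e_Cert_tree lc_e_rc_16_3 lc_e_rc_18_1 lc_e_Cert_tree lc_e_Cert_tree lc_e_rc_18_1 lc_e_Cert_tree lc_e_rc_4_3 lc_e_Cert_tree lc_e_Cert_tree lc_e_rc_13_3 lc_e_Cert_tree lc_e_Cert_tree lc_e_rc_18_1 lc_e_rc_27_7 lc_e_Cert_tree lc_e_rc_18_1 lc_e_Cert_tree lc_e_rc_18_1 lc_e_rc_27_5 lc_e_Cert_tree lc_e_rc_19_4 lc_e_rc_13_3 lc_e_Cert_tree lc_e_Cert_tree lc_e_rc_18_1 lc_e_rc_9_3 lc_e_rc_16_1 lc_e_Cert_tree lc_e_rc_18_1 lc_e_Cert_tree lc_e_rc_16_1 lc_e_rc_16_1 lc_e_rc_19_4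 lc_e_rc_9_3 lc_e_rc_9_1 lc_e_rc_4_3 lc_e_rc_4_3) (@D3.rec (fun _ => (Cert rels S Gen.e)) lc_e_Cert_tree lc_e_rc_18_1 lc_e_rc_4_1 lc_e_Cert_tree lc_e_rc_18_1 lc_e_rc_18_1 lc_e_rc_27_1 lc_e_rc_13_3 lc_e_rc_13_3 lc_e_rc_27_5 lc_e_rc_18_1 lc_e_Cert_tree lc_e_rc_18_1 lc_e_rc_16_5 lc_e_rc_18_1 lc_e_Cert_tree lc_e_Cert_tree lc_e_rc_19_4 lc_e_rc_16_5 lc_e_rc_19_4 lc_e_rc_18_1 lc_e_Cert_tree lc_e_Cert_tree lc_e_rc_13_3 lc_e_rc_18_1 lc_e_Cert_tree lc_e_rc_16_1 lc_e_rc_16_3 lc_e_rc_9_3 lc_e_rc_16_1 lc_e_rc_13_3 lc_e_rc_9_1 lc_e_Cert_tree lc_e_rc_18_1 lc_e_rc_13_3 lc_e_rc_18_1 lc_e_rc_13_3 lc_e_rc_13_3 lc_e_Cert_tree lc_e_Cert_tree lc_e_rc_18_1 lc_e_rc_18_1 lc_e_Cert_tree lc_e_rc_18_1 lc_e_rc_18_1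 lc_e_rc_16_1 lc_e_rc_13_3 lc_e_rc_9_3 lc_e_rc_18_1 lc_e_rc_9_3 lc_e_rc_27_5 lc_e_rc_13_3 lc_e_rc_19_4 lc_e_rc_27_1 lc_e_rc_18_1 lc_e_rc_18_1 lc_e_rc_4_3 lc_e_rc_18_1 lc_e_rc_18_1 lc_e_rc_27_7 lc_e_Cert_tree lc_e_Cert_tree) (@D3.rec (fun _ => (Cert rels S Gen.e)) lc_e_rc_18_1 lc_e_rc_18_1 lc_e_rc_4_3 lc_e_rc_27_7 lc_e_rc_27_7 lc_e_Cert_tree lc_e_Cert_tree lc_e_rc_18_1 lc_e_rc_4_1 lc_e_rc_18_1 lc_e_rc_27_5 lc_e_rc_18_1 lc_e_Cert_tree lc_e_rc_27_1 lc_e_rc_16_1 lc_e_rc_4_3 lc_e_rc_4_3 lc_e_rc_18_1 lc_e_rc_13_3 lc_e_rc_4_3 lc_e_Cert_tree lc_e_rc_18_1 lc_e_rc_27_5 lc_e_rc_18_1 lc_e_rc_18_1 lc_e_Cert_tree lc_e_rc_18_1 lc_e_Cert_tree lc_e_Cert_tree lc_e_rc_19_2 lc_e_Cert_tree lc_e_rc_4_3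 lc_e_rc_18_1 lc_e_rc_18_1 lc_e_Cert_tree lc_e_rc_18_1 lc_e_rc_16_5 lc_e_Cert_tree lc_e_rc_9_1 lc_e_rc_18_1 lc_e_rc_18_1 lc_e_rc_18_1 lc_e_rc_19_4 lc_e_rc_27_7 lc_e_rc_13_3 lc_e_Cert_tree lc_e_rc_19_4 lc_e_Cert_tree lc_e_rc_18_1 lc_e_rc_19_2 lc_e_rc_18_1 lc_e_Cert_tree lc_e_rc_18_1 lc_e_Cert_tree lc_e_Cert_tree lc_e_Cert_tree lc_e_rc_18_1 lc_e_Cert_tree lc_e_Cert_tree lc_e_Cert_tree lc_e_Cert_tree lc_e_rc_18_1) (@D3.rec (fun _ => (Cert rels S Gen.e)) lc_e_Cert_tree lc_e_rc_18_1 lc_e_rc_9_1 lc_e_Cert_tree lc_e_rc_18_1 lc_e_rc_19_0 lc_e_rc_9_3 lc_e_Cert_tree lc_e_rc_9_3 lc_e_rc_27_7 lc_e_rc_9_3 lc_e_Cert_tree lc_e_Cert_tree lc_e_rc_18_1 lc_e_rc_16_3 lc_e_rc_4_3 lc_e_rc_18_1 lc_e_rc_13_1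 lc_e_rc_18_1 lc_e_Cert_tree lc_e_rc_18_1 lc_e_Cert_tree lc_e_Cert_tree lc_e_rc_19_4 lc_e_rc_27_7 lc_e_Cert_tree lc_e_rc_18_1 lc_e_Cert_tree lc_e_Cert_tree lc_e_rc_18_1 lc_e_rc_4_3 lc_e_rc_19_2 lc_e_rc_18_1 lc_e_rc_9_3 lc_e_Cert_tree lc_e_rc_18_1 lc_e_rc_27_7 lc_e_Cert_tree lc_e_rc_18_1 lc_e_Cert_tree lc_e_rc_18_1 lc_e_Cert_tree lc_e_rc_16_1 lc_e_rc_19_4 lc_e_Cert_tree lc_e_rc_13_1 lc_e_rc_18_1 lc_e_rc_9_3 lc_e_rc_16_1 lc_e_Cert_tree lc_e_rc_19_4 lc_e_Cert_tree lc_e_rc_18_1 lc_e_rc_27_5 lc_e_rc_18_1 lc_e_rc_4_3 lc_e_rc_9_3 lc_e_rc_9_3 lc_e_rc_13_3 lc_e_rc_18_1 lc_e_Cert_tree lc_e_rc_18_1) (@D3.rec (fun _ => (Cert rels S Gen.e)) lc_e_Cert_tree lc_e_rc_19_2 lc_e_rc_27_1 lc_e_rc_4_3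 lc_e_rc_27_1 lc_e_rc_4_3 lc_e_Cert_tree lc_e_rc_18_1 lc_e_rc_27_1 lc_e_rc_4_3 lc_e_rc_4_3 lc_e_rc_18_1 lc_e_Cert_tree lc_e_rc_13_3 lc_e_rc_9_3 lc_e_rc_27_5 lc_e_rc_4_3 lc_e_Cert_tree lc_e_rc_18_1 lc_e_rc_4_3 lc_e_Cert_tree lc_e_rc_18_1 lc_e_Cert_tree lc_e_rc_16_3 lc_e_Cert_tree lc_e_rc_18_1 lc_e_Cert_tree lc_e_rc_18_1 lc_e_rc_9_3 lc_e_Cert_tree lc_e_rc_18_1 lc_e_rc_4_1 lc_e_rc_18_1 lc_e_Cert_tree lc_e_rc_13_1 lc_e_rc_18_1 lc_e_Cert_tree lc_e_rc_16_1 lc_e_rc_18_1 lc_e_Cert_tree lc_e_rc_18_1 lc_e_rc_4_1 lc_e_Cert_tree lc_e_Cert_tree lc_e_rc_9_3 lc_e_Cert_tree lc_e_rc_18_1 lc_e_Cert_tree lc_e_rc_18_1 lc_e_rc_18_1 lc_e_Cert_tree lc_e_rc_19_4 lc_e_rc_27_1 lc_e_rc_9_3 lc_e_rc_16_5 lc_e_rc_13_3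 lc_e_rc_18_1 lc_e_rc_27_5 lc_e_rc_18_1 lc_e_rc_19_4 lc_e_Cert_tree lc_e_Cert_tree) (@D3.rec (fun _ => (Cert rels S Gen.e)) lc_e_rc_18_1 lc_e_rc_9_1 lc_e_rc_18_1 lc_e_rc_18_1 lc_e_rc_13_1 lc_e_rc_19_4 lc_e_rc_13_1 lc_e_Cert_tree lc_e_rc_18_1 lc_e_Cert_tree lc_e_rc_18_1 lc_e_rc_16_1 lc_e_rc_19_4 lc_e_rc_9_3 lc_e_Cert_tree lc_e_rc_13_3 lc_e_Cert_tree lc_e_rc_18_1 lc_e_rc_18_1 lc_e_rc_16_1 lc_e_rc_9_1 lc_e_rc_16_1 lc_e_rc_27_1 lc_e_rc_18_1 lc_e_rc_16_3 lc_e_rc_13_1 lc_e_rc_27_5 lc_e_rc_18_1 lc_e_Cert_tree lc_e_Cert_tree lc_e_rc_13_3 lc_e_rc_19_4 lc_e_rc_18_1 lc_e_rc_16_3 lc_e_rc_18_1 lc_e_rc_13_3 lc_e_rc_9_1 lc_e_rc_27_7 lc_e_rc_18_1 lc_e_rc_27_7 lc_e_rc_9_1 lc_e_rc_4_1 lc_e_rc_18_1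 lc_e_rc_18_1 lc_e_rc_4_1 lc_e_rc_19_4 lc_e_rc_13_3 lc_e_rc_18_1 lc_e_rc_4_3 lc_e_Cert_tree lc_e_rc_18_1 lc_e_Cert_tree lc_e_rc_16_1 lc_e_rc_19_4 lc_e_rc_27_5 lc_e_rc_16_5 lc_e_rc_18_1 lc_e_rc_18_1 lc_e_Cert_tree lc_e_rc_18_1 lc_e_Cert_tree lc_e_rc_16_1) (@D3.rec (fun _ => (Cert rels S Gen.e)) lc_e_rc_4_3 lc_e_Cert_tree lc_e_rc_18_1 lc_e_rc_9_1 lc_e_rc_13_1 lc_e_rc_18_1 lc_e_Cert_tree lc_e_rc_19_4 lc_e_rc_16_5 lc_e_Cert_tree lc_e_rc_9_1 lc_e_rc_18_1 lc_e_rc_19_4 lc_e_rc_9_1 lc_e_rc_13_1 lc_e_Cert_tree lc_e_rc_18_1 lc_e_rc_13_3 lc_e_Cert_tree lc_e_Cert_tree lc_e_rc_18_1 lc_e_rc_16_3 lc_e_rc_19_4 lc_e_Cert_tree lc_e_rc_18_1 lc_e_rc_19_4 lc_e_rc_16_5 lc_e_rc_27_1 lc_e_Cert_tree lc_e_rc_18_1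 lc_e_Cert_tree lc_e_rc_18_1 lc_e_rc_27_1 lc_e_rc_27_5 lc_e_Cert_tree lc_e_rc_27_7 lc_e_rc_27_7 lc_e_rc_18_1 lc_e_rc_16_3 lc_e_rc_19_4 lc_e_rc_13_3 lc_e_rc_13_3 lc_e_Cert_tree lc_e_Cert_tree lc_e_rc_18_1 lc_e_rc_18_1 lc_e_rc_27_7 lc_e_rc_19_4 lc_e_Cert_tree lc_e_Cert_tree lc_e_Cert_tree lc_e_Cert_tree lc_e_rc_18_1 lc_e_Cert_tree lc_e_rc_16_5 lc_e_rc_13_1 lc_e_rc_18_1 lc_e_Cert_tree lc_e_rc_19_4 lc_e_rc_9_3 lc_e_rc_18_1 lc_e_rc_18_1) (@D3.rec (fun _ => (Cert rels S Gen.e)) lc_e_rc_27_5 lc_e_Cert_tree lc_e_rc_19_4 lc_e_rc_16_3 lc_e_rc_16_5 lc_e_rc_27_5 lc_e_rc_18_1 lc_e_rc_27_5 lc_e_rc_18_1 lc_e_rc_18_1 lc_e_rc_18_1 lc_e_rc_18_1 lc_e_Cert_tree lc_e_rc_19_4 lc_e_Cert_tree lc_e_rc_16_3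 lc_e_rc_27_7 lc_e_rc_18_1 lc_e_rc_16_1 lc_e_rc_19_4 lc_e_rc_18_1 lc_e_rc_27_7 lc_e_Cert_tree lc_e_rc_18_1 lc_e_Cert_tree lc_e_Cert_tree lc_e_rc_16_1 lc_e_rc_19_4 lc_e_rc_13_3 lc_e_rc_4_3 lc_e_Cert_tree lc_e_Cert_tree lc_e_rc_19_4 lc_e_Cert_tree lc_e_rc_18_1 lc_e_Cert_tree lc_e_Cert_tree lc_e_rc_19_4 lc_e_Cert_tree lc_e_rc_18_1 lc_e_rc_19_4 lc_e_rc_18_1 lc_e_rc_13_1 lc_e_rc_18_1 lc_e_Cert_tree lc_e_rc_18_1 lc_e_rc_16_5 lc_e_Cert_tree lc_e_rc_18_1 lc_e_rc_27_7 lc_e_rc_16_5 lc_e_Cert_tree lc_e_Cert_tree lc_e_rc_18_1 lc_e_Cert_tree lc_e_rc_9_1 lc_e_rc_27_1 lc_e_Cert_tree lc_e_rc_18_1 lc_e_Cert_tree lc_e_Cert_tree lc_e_rc_18_1) (@D3.rec (fun _ => (Cert rels S Gen.e)) lc_e_Cert_tree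 lc_e_rc_16_3 lc_e_rc_19_4 lc_e_Cert_tree lc_e_rc_18_1 lc_e_rc_18_1 lc_e_rc_27_1 lc_e_rc_19_4 lc_e_rc_19_4 lc_e_rc_13_3 lc_e_rc_4_1 lc_e_rc_18_1 lc_e_rc_27_5 lc_e_rc_13_1 lc_e_rc_16_3 lc_e_rc_19_4 lc_e_rc_27_7 lc_e_Cert_tree lc_e_rc_13_1 lc_e_rc_18_1 lc_e_rc_27_1 lc_e_rc_19_2 lc_e_rc_18_1 lc_e_rc_18_1 lc_e_rc_4_3 lc_e_rc_16_3 lc_e_rc_18_1 lc_e_Cert_tree lc_e_rc_18_1 lc_e_rc_4_3 lc_e_rc_18_1 lc_e_Cert_tree lc_e_rc_27_5 lc_e_rc_18_1 lc_e_rc_4_1 lc_e_rc_18_1 lc_e_Cert_tree lc_e_rc_18_1 lc_e_Cert_tree lc_e_rc_19_4 lc_e_rc_16_5 lc_e_rc_27_5 lc_e_rc_18_1 lc_e_rc_18_1 lc_e_rc_16_5 lc_e_rc_16_1 lc_e_rc_16_1 lc_e_rc_19_4 lc_e_Cert_tree lc_e_rc_18_1 lc_e_rc_27_5 lc_e_rc_18_1 lc_e_Cert_tree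 lc_e_rc_13_3 lc_e_rc_19_4 lc_e_rc_9_3 lc_e_rc_16_1 lc_e_rc_19_2 lc_e_rc_9_3 lc_e_rc_13_1 lc_e_rc_18_1 lc_e_rc_16_1)
def ce_e_15 : D2 → D3 → (Cert rels S Gen.e) := @D2.rec (fun _ => D3 → (Cert rels S Gen.e)) (@D3.rec (fun _ => (Cert rels S Gen.e)) lc_e_rc_18_1 lc_e_Cert_tree lc_e_rc_27_1 lc_e_rc_9_1 lc_e_rc_18_1 lc_e_rc_18_1 lc_e_Cert_tree lc_e_rc_19_2 lc_e_rc_18_1 lc_e_rc_18_1 lc_e_rc_19_0 lc_e_rc_9_1 lc_e_rc_18_1 lc_e_Cert_tree lc_e_rc_16_1 lc_e_rc_18_1 lc_e_rc_18_1 lc_e_Cert_tree lc_e_Cert_tree lc_e_rc_18_1 lc_e_rc_4_1 lc_e_Cert_tree lc_e_rc_18_1 lc_e_rc_18_1 lc_e_Cert_tree lc_e_rc_16_5 lc_e_rc_16_5 lc_e_rc_18_1 lc_e_rc_9_3 lc_e_rc_4_3 lc_e_Cert_tree lc_e_rc_18_1 lc_e_rc_18_1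 lc_e_rc_18_1 lc_e_rc_18_1 lc_e_Cert_tree lc_e_Cert_tree lc_e_rc_18_1 lc_e_Cert_tree lc_e_Cert_tree lc_e_rc_18_1 lc_e_Cert_tree lc_e_Cert_tree lc_e_rc_4_3 lc_e_Cert_tree lc_e_Cert_tree lc_e_rc_13_1 lc_e_rc_18_1 lc_e_Cert_tree lc_e_rc_27_1 lc_e_rc_4_3 lc_e_rc_18_1 lc_e_rc_4_3 lc_e_rc_18_1 lc_e_Cert_tree lc_e_rc_13_3 lc_e_rc_18_1 lc_e_Cert_tree lc_e_Cert_tree lc_e_rc_18_1 lc_e_Cert_tree lc_e_Cert_tree) (@D3.rec (fun _ => (Cert rels S Gen.e)) lc_e_rc_18_1 lc_e_rc_18_1 lc_e_rc_19_4 lc_e_Cert_tree lc_e_rc_18_1 lc_e_rc_18_1 lc_e_rc_19_4 lc_e_rc_9_3 lc_e_Cert_tree lc_e_rc_4_3 lc_e_Cert_tree lc_e_Cert_tree lc_e_rc_18_1 lc_e_rc_18_1 lc_e_Cert_tree lc_e_rc_18_1 lc_e_rc_19_4 lc_e_Cert_tree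 lc_e_rc_18_1 lc_e_Cert_tree lc_e_rc_19_2 lc_e_Cert_tree lc_e_Cert_tree lc_e_rc_18_1 lc_e_rc_27_1 lc_e_rc_27_5 lc_e_rc_18_1 lc_e_Cert_tree lc_e_Cert_tree lc_e_rc_18_1 lc_e_Cert_tree lc_e_Cert_tree lc_e_rc_18_1 lc_e_Cert_tree lc_e_rc_9_3 lc_e_Cert_tree lc_e_rc_13_3 lc_e_rc_18_1 lc_e_Cert_tree lc_e_rc_18_1 lc_e_rc_27_5 lc_e_Cert_tree lc_e_rc_16_1 lc_e_rc_13_3 lc_e_rc_27_5 lc_e_rc_18_1 lc_e_rc_13_3 lc_e_rc_19_4 lc_e_rc_27_7 lc_e_Cert_tree lc_e_rc_18_1 lc_e_rc_19_4 lc_e_Cert_tree lc_e_Cert_tree lc_e_Cert_tree lc_e_Cert_tree lc_e_rc_18_1 lc_e_rc_18_1 lc_e_rc_18_1 lc_e_rc_18_1 lc_e_rc_16_1 lc_e_rc_4_1) (@D3.rec (fun _ => (Cert rels S Gen.e)) lc_e_rc_13_3 lc_e_rc_19_4 lc_e_Cert_tree lc_e_rc_18_1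 lc_e_Cert_tree lc_e_rc_27_5 lc_e_Cert_tree lc_e_rc_27_1 lc_e_rc_18_1 lc_e_Cert_tree lc_e_rc_18_1 lc_e_rc_18_1 lc_e_Cert_tree lc_e_rc_19_4 lc_e_rc_13_3 lc_e_rc_18_1 lc_e_Cert_tree lc_e_rc_18_1 lc_e_rc_19_4 lc_e_rc_27_1 lc_e_rc_13_1 lc_e_rc_4_1 lc_e_Cert_tree lc_e_rc_18_1 lc_e_rc_18_1 lc_e_Cert_tree lc_e_rc_18_1 lc_e_rc_16_1 lc_e_rc_13_1 lc_e_Cert_tree lc_e_rc_18_1 lc_e_rc_13_3 lc_e_rc_13_3 lc_e_Cert_tree lc_e_rc_13_3 lc_e_rc_4_1 lc_e_Cert_tree lc_e_rc_18_1 lc_e_rc_18_1 lc_e_rc_16_1 lc_e_rc_19_4 lc_e_rc_13_3 lc_e_Cert_tree lc_e_Cert_tree lc_e_Cert_tree lc_e_rc_18_1 lc_e_rc_18_1 lc_e_rc_16_1 lc_e_rc_19_4 lc_e_Cert_tree lc_e_rc_19_2 lc_e_rc_18_1 lc_e_rc_13_1 lc_e_rc_9_3 lc_e_rc_18_1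 lc_e_rc_4_3 lc_e_rc_13_3 lc_e_Cert_tree lc_e_rc_9_3 lc_e_Cert_tree lc_e_rc_18_1 lc_e_Cert_tree) (@D3.rec (fun _ => (Cert rels S Gen.e)) lc_e_rc_18_1 lc_e_rc_19_4 lc_e_rc_18_1 lc_e_Cert_tree lc_e_Cert_tree lc_e_rc_19_2 lc_e_rc_18_1 lc_e_Cert_tree lc_e_Cert_tree lc_e_rc_16_3 lc_e_Cert_tree lc_e_Cert_tree lc_e_rc_18_1 lc_e_rc_13_3 lc_e_rc_18_1 lc_e_rc_13_3 lc_e_Cert_tree lc_e_rc_16_1 lc_e_rc_19_4 lc_e_rc_13_1 lc_e_rc_13_1 lc_e_rc_18_1 lc_e_Cert_tree lc_e_Cert_tree lc_e_rc_18_1 lc_e_rc_9_3 lc_e_rc_13_3 lc_e_Cert_tree lc_e_rc_18_1 lc_e_Cert_tree lc_e_Cert_tree lc_e_rc_18_1 lc_e_Cert_tree lc_e_rc_18_1 lc_e_rc_16_1 lc_e_rc_9_3 lc_e_rc_18_1 lc_e_Cert_tree lc_e_Cert_tree lc_e_rc_18_1 lc_e_rc_27_1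 lc_e_rc_19_4 lc_e_rc_13_3 lc_e_rc_13_3 lc_e_Cert_tree lc_e_rc_18_1 lc_e_rc_9_1 lc_e_rc_19_0 lc_e_Cert_tree lc_e_Cert_tree lc_e_rc_18_1 lc_e_Cert_tree lc_e_Cert_tree lc_e_rc_13_3 lc_e_Cert_tree lc_e_rc_18_1 lc_e_rc_16_3 lc_e_rc_18_1 lc_e_rc_16_1 lc_e_rc_18_1 lc_e_rc_27_7 lc_e_rc_18_1) (@D3.rec (fun _ => (Cert rels S Gen.e)) lc_e_rc_16_5 lc_e_rc_13_1 lc_e_rc_18_1 lc_e_rc_27_7 lc_e_rc_13_1 lc_e_rc_19_2 lc_e_rc_19_2 lc_e_rc_13_3 lc_e_rc_27_5 lc_e_rc_18_1 lc_e_rc_18_1 lc_e_Cert_tree lc_e_rc_19_4 lc_e_rc_18_1 lc_e_rc_27_5 lc_e_rc_9_1 lc_e_rc_13_3 lc_e_rc_16_1 lc_e_rc_9_3 lc_e_rc_13_3 lc_e_rc_16_3 lc_e_rc_13_3 lc_e_rc_27_5 lc_e_rc_13_1 lc_e_rc_18_1 lc_e_rc_16_5 lc_e_rc_13_3 lc_e_Cert_tree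 lc_e_rc_4_3 lc_e_rc_18_1 lc_e_rc_18_1 lc_e_rc_13_3 lc_e_rc_13_3 lc_e_rc_18_1 lc_e_rc_9_1 lc_e_rc_9_1 lc_e_rc_16_1 lc_e_rc_18_1 lc_e_rc_16_1 lc_e_rc_18_1 lc_e_rc_16_3 lc_e_rc_16_1 lc_e_rc_16_5 lc_e_Cert_tree lc_e_rc_18_1 lc_e_rc_16_3 lc_e_rc_18_1 lc_e_rc_16_3 lc_e_rc_16_1 lc_e_rc_13_3 lc_e_rc_16_3 lc_e_Cert_tree lc_e_Cert_tree lc_e_rc_13_3 lc_e_rc_19_4 lc_e_rc_27_1 lc_e_rc_13_3 lc_e_rc_13_3 lc_e_rc_18_1 lc_e_Cert_tree lc_e_rc_27_5 lc_e_rc_18_1) (@D3.rec (fun _ => (Cert rels S Gen.e)) lc_e_rc_18_1 lc_e_rc_19_2 lc_e_rc_16_1 lc_e_rc_18_1 lc_e_rc_13_3 lc_e_rc_16_5 lc_e_rc_27_7 lc_e_rc_18_1 lc_e_rc_16_3 lc_e_rc_19_4 lc_e_rc_13_3 lc_e_rc_18_1 lc_e_rc_18_1 lc_e_rc_18_1 lc_e_rc_18_1 lc_e_rc_13_3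 lc_e_rc_18_1 lc_e_rc_16_3 lc_e_rc_9_1 lc_e_rc_18_1 lc_e_rc_18_1 lc_e_rc_19_0 lc_e_rc_4_1 lc_e_rc_13_3 lc_e_rc_16_1 lc_e_rc_9_3 lc_e_rc_18_1 lc_e_rc_13_3 lc_e_rc_9_3 lc_e_rc_13_3 lc_e_rc_27_5 lc_e_rc_27_7 lc_e_rc_13_1 lc_e_Cert_tree lc_e_rc_18_1 lc_e_rc_18_1 lc_e_rc_19_4 lc_e_rc_18_1 lc_e_rc_18_1 lc_e_rc_16_3 lc_e_rc_27_7 lc_e_rc_27_5 lc_e_rc_9_3 lc_e_rc_9_3 lc_e_rc_13_1 lc_e_rc_13_3 lc_e_Cert_tree lc_e_rc_18_1 lc_e_Cert_tree lc_e_rc_4_1 lc_e_rc_19_2 lc_e_Cert_tree lc_e_rc_18_1 lc_e_Cert_tree lc_e_Cert_tree lc_e_rc_4_1 lc_e_rc_18_1 lc_e_rc_16_3 lc_e_rc_19_4 lc_e_Cert_tree lc_e_rc_27_7 lc_e_rc_18_1) (@D3.rec (fun _ => (Cert rels S Gen.e)) lc_e_rc_27_1 lc_e_rc_27_5 lc_e_rc_18_1 lc_e_rc_18_1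 lc_e_Cert_tree lc_e_rc_9_1 lc_e_rc_18_1 lc_e_rc_16_1 lc_e_Cert_tree lc_e_rc_18_1 lc_e_Cert_tree lc_e_rc_27_5 lc_e_Cert_tree lc_e_Cert_tree lc_e_rc_4_1 lc_e_rc_19_4 lc_e_Cert_tree lc_e_rc_9_3 lc_e_rc_18_1 lc_e_rc_13_1 lc_e_Cert_tree lc_e_rc_18_1 lc_e_rc_13_1 lc_e_rc_27_7 lc_e_rc_18_1 lc_e_Cert_tree lc_e_rc_18_1 lc_e_rc_13_1 lc_e_rc_18_1 lc_e_rc_9_3 lc_e_rc_13_3 lc_e_rc_9_1 lc_e_Cert_tree lc_e_rc_18_1 lc_e_Cert_tree lc_e_rc_18_1 lc_e_rc_4_3 lc_e_rc_16_1 lc_e_rc_4_3 lc_e_rc_18_1 lc_e_rc_27_5 lc_e_rc_13_1 lc_e_rc_19_4 lc_e_rc_27_5 lc_e_rc_27_5 lc_e_rc_19_4 lc_e_rc_4_3 lc_e_Cert_tree lc_e_rc_16_5 lc_e_rc_4_3 lc_e_rc_9_3 lc_e_rc_18_1 lc_e_rc_27_7 lc_e_Cert_tree lc_e_Cert_tree lc_e_Cert_tree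 lc_e_rc_18_1 lc_e_Cert_tree lc_e_rc_27_5 lc_e_Cert_tree lc_e_Cert_tree lc_e_rc_18_1) (@D3.rec (fun _ => (Cert rels S Gen.e)) lc_e_rc_4_1 lc_e_Cert_tree lc_e_rc_19_4 lc_e_rc_16_3 lc_e_rc_9_3 lc_e_Cert_tree lc_e_rc_9_3 lc_e_rc_4_3 lc_e_Cert_tree lc_e_rc_18_1 lc_e_rc_16_5 lc_e_rc_16_5 lc_e_Cert_tree lc_e_rc_18_1 lc_e_Cert_tree lc_e_Cert_tree lc_e_Cert_tree lc_e_rc_18_1 lc_e_Cert_tree lc_e_Cert_tree lc_e_rc_18_1 lc_e_Cert_tree lc_e_rc_18_1 lc_e_Cert_tree lc_e_Cert_tree lc_e_Cert_tree lc_e_Cert_tree lc_e_rc_18_1 lc_e_Cert_tree lc_e_rc_16_5 lc_e_rc_9_3 lc_e_Cert_tree lc_e_rc_18_1 lc_e_rc_16_3 lc_e_Cert_tree lc_e_Cert_tree lc_e_Cert_tree lc_e_rc_18_1 lc_e_rc_16_3 lc_e_rc_19_4 lc_e_rc_19_4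 lc_e_rc_19_4 lc_e_rc_18_1 lc_e_rc_19_4 lc_e_rc_18_1 lc_e_rc_18_1 lc_e_Cert_tree lc_e_Cert_tree lc_e_rc_16_3 lc_e_rc_16_3 lc_e_rc_18_1 lc_e_rc_18_1 lc_e_rc_18_1 lc_e_rc_18_1 lc_e_rc_18_1 lc_e_rc_16_1 lc_e_rc_16_1 lc_e_rc_16_5 lc_e_rc_13_3 lc_e_rc_9_3 lc_e_rc_16_3 lc_e_rc_19_4) (@D3.rec (fun _ => (Cert rels S Gen.e)) lc_e_rc_16_1 lc_e_rc_13_1 lc_e_rc_4_3 lc_e_rc_18_1 lc_e_Cert_tree lc_e_rc_18_1 lc_e_rc_4_1 lc_e_rc_4_3 lc_e_rc_19_2 lc_e_rc_18_1 lc_e_rc_9_1 lc_e_rc_13_3 lc_e_Cert_tree lc_e_rc_18_1 lc_e_rc_18_1 lc_e_rc_16_3 lc_e_Cert_tree lc_e_rc_18_1 lc_e_rc_18_1 lc_e_rc_9_3 lc_e_rc_16_3 lc_e_Cert_tree lc_e_rc_16_5 lc_e_rc_13_3 lc_e_rc_18_1 lc_e_Cert_tree lc_e_rc_13_3 lc_e_rc_19_4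 lc_e_rc_18_1 lc_e_Cert_tree lc_e_Cert_tree lc_e_Cert_tree lc_e_rc_18_1 lc_e_Cert_tree lc_e_rc_18_1 lc_e_rc_13_1 lc_e_rc_18_1 lc_e_rc_18_1 lc_e_rc_4_1 lc_e_rc_18_1 lc_e_Cert_tree lc_e_rc_18_1 lc_e_Cert_tree lc_e_rc_18_1 lc_e_rc_27_5 lc_e_rc_18_1 lc_e_rc_27_1 lc_e_rc_16_1 lc_e_Cert_tree lc_e_Cert_tree lc_e_rc_18_1 lc_e_rc_4_3 lc_e_rc_18_1 lc_e_rc_9_3 lc_e_rc_18_1 lc_e_rc_18_1 lc_e_rc_27_5 lc_e_rc_4_1 lc_e_rc_4_3 lc_e_rc_13_1 lc_e_rc_18_1 lc_e_rc_16_5) (@D3.rec (fun _ => (Cert rels S Gen.e)) lc_e_rc_18_1 lc_e_rc_18_1 lc_e_rc_4_3 lc_e_rc_18_1 lc_e_Cert_tree lc_e_Cert_tree lc_e_rc_4_3 lc_e_rc_16_3 lc_e_rc_19_4 lc_e_rc_9_1 lc_e_rc_19_4 lc_e_rc_27_5 lc_e_Cert_tree lc_e_rc_18_1 lc_e_rc_16_3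 lc_e_rc_19_4 lc_e_rc_9_3 lc_e_rc_27_5 lc_e_rc_18_1 lc_e_rc_19_4 lc_e_rc_16_3 lc_e_rc_27_5 lc_e_rc_4_1 lc_e_Cert_tree lc_e_rc_18_1 lc_e_rc_18_1 lc_e_rc_27_5 lc_e_rc_16_3 lc_e_rc_19_4 lc_e_rc_18_1 lc_e_Cert_tree lc_e_rc_19_4 lc_e_rc_18_1 lc_e_Cert_tree lc_e_rc_16_5 lc_e_rc_18_1 lc_e_rc_9_1 lc_e_rc_27_5 lc_e_rc_18_1 lc_e_rc_27_5 lc_e_rc_18_1 lc_e_rc_9_3 lc_e_rc_16_5 lc_e_rc_27_5 lc_e_rc_19_2 lc_e_rc_18_1 lc_e_rc_27_5 lc_e_rc_19_4 lc_e_rc_13_1 lc_e_rc_16_5 lc_e_Cert_tree lc_e_rc_18_1 lc_e_rc_18_1 lc_e_rc_18_1 lc_e_rc_27_1 lc_e_rc_18_1 lc_e_rc_9_3 lc_e_Cert_tree lc_e_Cert_tree lc_e_rc_18_1 lc_e_rc_16_3 lc_e_rc_13_3) (@D3.rec (fun _ => (Cert rels S Gen.e)) lc_e_rc_4_1 lc_e_rc_18_1 lc_e_Cert_tree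 lc_e_rc_18_1 lc_e_Cert_tree lc_e_Cert_tree lc_e_rc_19_4 lc_e_rc_4_3 lc_e_rc_18_1 lc_e_Cert_tree lc_e_Cert_tree lc_e_rc_19_4 lc_e_rc_4_1 lc_e_rc_16_5 lc_e_rc_16_1 lc_e_rc_19_4 lc_e_rc_13_3 lc_e_rc_4_3 lc_e_rc_18_1 lc_e_Cert_tree lc_e_Cert_tree lc_e_rc_19_4 lc_e_rc_27_7 lc_e_Cert_tree lc_e_Cert_tree lc_e_Cert_tree lc_e_rc_18_1 lc_e_rc_16_1 lc_e_rc_19_2 lc_e_rc_18_1 lc_e_rc_16_1 lc_e_rc_19_4 lc_e_rc_9_1 lc_e_rc_18_1 lc_e_rc_27_7 lc_e_Cert_tree lc_e_rc_16_3 lc_e_rc_13_1 lc_e_rc_18_1 lc_e_rc_18_1 lc_e_rc_16_1 lc_e_rc_19_4 lc_e_Cert_tree lc_e_rc_18_1 lc_e_rc_18_1 lc_e_rc_18_1 lc_e_rc_9_3 lc_e_rc_27_5 lc_e_rc_4_1 lc_e_rc_18_1 lc_e_rc_13_1 lc_e_rc_13_1 lc_e_rc_16_3 lc_e_rc_19_4 lc_e_rc_9_3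 lc_e_rc_13_3 lc_e_rc_9_1 lc_e_rc_13_1 lc_e_rc_18_1 lc_e_rc_18_1 lc_e_rc_18_1 lc_e_rc_9_3) (@D3.rec (fun _ => (Cert rels S Gen.e)) lc_e_rc_18_1 lc_e_rc_18_1 lc_e_rc_27_5 lc_e_Cert_tree lc_e_rc_19_4 lc_e_rc_9_3 lc_e_rc_9_3 lc_e_rc_9_1 lc_e_rc_19_4 lc_e_rc_18_1 lc_e_rc_19_4 lc_e_Cert_tree lc_e_rc_18_1 lc_e_rc_27_7 lc_e_rc_13_3 lc_e_rc_19_4 lc_e_Cert_tree lc_e_rc_18_1 lc_e_rc_18_1 lc_e_rc_16_1 lc_e_rc_19_4 lc_e_rc_13_3 lc_e_rc_18_1 lc_e_rc_18_1 lc_e_rc_16_1 lc_e_rc_19_4 lc_e_rc_13_3 lc_e_rc_9_3 lc_e_rc_13_3 lc_e_Cert_tree lc_e_rc_18_1 lc_e_rc_18_1 lc_e_rc_27_7 lc_e_rc_27_1 lc_e_rc_16_1 lc_e_rc_19_4 lc_e_rc_19_2 lc_e_rc_18_1 lc_e_Cert_tree lc_e_rc_27_5 lc_e_rc_19_4 lc_e_rc_27_5 lc_e_Cert_tree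 lc_e_rc_4_1 lc_e_rc_9_1 lc_e_rc_18_1 lc_e_rc_18_1 lc_e_rc_13_1 lc_e_rc_13_1 lc_e_rc_19_4 lc_e_rc_18_1 lc_e_rc_9_3 lc_e_rc_16_5 lc_e_rc_4_1 lc_e_rc_4_3 lc_e_rc_18_1 lc_e_rc_18_1 lc_e_rc_4_3 lc_e_rc_19_4 lc_e_rc_9_3 lc_e_rc_16_5 lc_e_rc_4_1) (@D3.rec (fun _ => (Cert rels S Gen.e)) lc_e_rc_13_3 lc_e_rc_18_1 lc_e_rc_18_1 lc_e_rc_19_4 lc_e_rc_19_2 lc_e_Cert_tree lc_e_rc_18_1 lc_e_Cert_tree lc_e_Cert_tree lc_e_rc_18_1 lc_e_Cert_tree lc_e_Cert_tree lc_e_rc_27_1 lc_e_rc_13_3 lc_e_rc_18_1 lc_e_Cert_tree lc_e_Cert_tree lc_e_rc_27_5 lc_e_rc_19_4 lc_e_rc_18_1 lc_e_rc_18_1 lc_e_rc_27_5 lc_e_rc_18_1 lc_e_Cert_tree lc_e_rc_18_1 lc_e_rc_13_3 lc_e_rc_4_1 lc_e_rc_19_4 lc_e_rc_16_3 lc_e_rc_18_1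 lc_e_rc_16_3 lc_e_rc_16_5 lc_e_Cert_tree lc_e_rc_27_1 lc_e_Cert_tree lc_e_rc_18_1 lc_e_rc_13_3 lc_e_rc_13_3 lc_e_rc_18_1 lc_e_rc_18_1 lc_e_rc_16_3 lc_e_rc_19_4 lc_e_Cert_tree lc_e_rc_16_5 lc_e_Cert_tree lc_e_rc_18_1 lc_e_rc_16_3 lc_e_rc_19_4 lc_e_rc_27_1 lc_e_rc_18_1 lc_e_rc_27_7 lc_e_rc_27_7 lc_e_rc_18_1 lc_e_Cert_tree lc_e_Cert_tree lc_e_rc_16_1 lc_e_rc_18_1 lc_e_Cert_tree lc_e_rc_19_4 lc_e_rc_18_1 lc_e_Cert_tree lc_e_rc_19_2) (@D3.rec (fun _ => (Cert rels S Gen.e)) lc_e_rc_19_4 lc_e_rc_27_7 lc_e_rc_9_1 lc_e_rc_9_3 lc_e_rc_18_1 lc_e_Cert_tree lc_e_Cert_tree lc_e_rc_19_4 lc_e_Cert_tree lc_e_rc_4_3 lc_e_rc_16_1 lc_e_rc_19_4 lc_e_rc_13_3 lc_e_rc_16_5 lc_e_Cert_tree lc_e_rc_13_3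 lc_e_Cert_tree lc_e_rc_18_1 lc_e_Cert_tree lc_e_rc_18_1 lc_e_Cert_tree lc_e_rc_18_1 lc_e_rc_13_3 lc_e_Cert_tree lc_e_Cert_tree lc_e_rc_18_1 lc_e_rc_4_1 lc_e_rc_27_5 lc_e_rc_27_1 lc_e_rc_18_1 lc_e_Cert_tree lc_e_rc_18_1 lc_e_rc_19_4 lc_e_rc_18_1 lc_e_rc_18_1 lc_e_rc_27_1 lc_e_rc_18_1 lc_e_Cert_tree lc_e_rc_9_3 lc_e_Cert_tree lc_e_Cert_tree lc_e_rc_18_1 lc_e_rc_16_3 lc_e_rc_27_5 lc_e_rc_18_1 lc_e_rc_18_1 lc_e_rc_19_2 lc_e_rc_19_4 lc_e_rc_19_4 lc_e_Cert_tree lc_e_rc_27_5 lc_e_rc_19_4 lc_e_Cert_tree lc_e_rc_27_5 lc_e_rc_4_1 lc_e_rc_18_1 lc_e_rc_13_1 lc_e_rc_4_3 lc_e_rc_16_3 lc_e_rc_19_4 lc_e_Cert_tree lc_e_Cert_tree) (@D3.rec (fun _ => (Cert rels S Gen.e)) lc_e_rc_18_1 lc_e_Cert_tree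 lc_e_rc_13_1 lc_e_rc_18_1 lc_e_rc_18_1 lc_e_rc_4_3 lc_e_Cert_tree lc_e_rc_16_3 lc_e_rc_9_1 lc_e_rc_27_1 lc_e_rc_18_1 lc_e_rc_18_1 lc_e_rc_16_1 lc_e_rc_16_5 lc_e_Cert_tree lc_e_Cert_tree lc_e_rc_18_1 lc_e_Cert_tree lc_e_Cert_tree lc_e_rc_9_3 lc_e_rc_18_1 lc_e_rc_13_3 lc_e_rc_18_1 lc_e_Cert_tree lc_e_Cert_tree lc_e_rc_19_4 lc_e_rc_16_1 lc_e_rc_27_5 lc_e_rc_27_5 lc_e_rc_18_1 lc_e_Cert_tree lc_e_rc_18_1 lc_e_rc_19_4 lc_e_Cert_tree lc_e_Cert_tree lc_e_rc_4_3 lc_e_rc_16_1 lc_e_rc_19_2 lc_e_rc_16_1 lc_e_rc_18_1 lc_e_rc_18_1 lc_e_rc_18_1 lc_e_rc_18_1 lc_e_rc_18_1 lc_e_rc_4_3 lc_e_rc_18_1 lc_e_Cert_tree lc_e_rc_27_5 lc_e_rc_18_1 lc_e_rc_19_4 lc_e_Cert_tree lc_e_rc_13_3 lc_e_rc_18_1 lc_e_rc_4_1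 lc_e_Cert_tree lc_e_Cert_tree lc_e_rc_18_1 lc_e_rc_13_3 lc_e_rc_19_4 lc_e_rc_19_2 lc_e_rc_16_1 lc_e_rc_27_5) (@D3.rec (fun _ => (Cert rels S Gen.e)) lc_e_rc_18_1 lc_e_Cert_tree lc_e_rc_18_1 lc_e_rc_27_5 lc_e_rc_18_1 lc_e_Cert_tree lc_e_Cert_tree lc_e_rc_4_3 lc_e_rc_16_1 lc_e_rc_27_1 lc_e_rc_18_1 lc_e_Cert_tree lc_e_rc_18_1 lc_e_rc_27_7 lc_e_Cert_tree lc_e_rc_18_1 lc_e_rc_18_1 lc_e_rc_18_1 lc_e_rc_13_3 lc_e_rc_16_1 lc_e_rc_19_4 lc_e_rc_13_3 lc_e_rc_27_5 lc_e_rc_27_5 lc_e_rc_18_1 lc_e_Cert_tree lc_e_rc_9_3 lc_e_Cert_tree lc_e_Cert_tree lc_e_rc_18_1 lc_e_rc_18_1 lc_e_rc_16_1 lc_e_rc_19_2 lc_e_rc_9_3 lc_e_rc_9_1 lc_e_Cert_tree lc_e_rc_18_1 lc_e_rc_16_1 lc_e_Cert_tree lc_e_Cert_tree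 lc_e_rc_16_5 lc_e_Cert_tree lc_e_Cert_tree lc_e_rc_18_1 lc_e_Cert_tree lc_e_Cert_tree lc_e_Cert_tree lc_e_rc_4_3 lc_e_rc_18_1 lc_e_Cert_tree lc_e_Cert_tree lc_e_rc_19_4 lc_e_rc_18_1 lc_e_Cert_tree lc_e_rc_18_1 lc_e_Cert_tree lc_e_rc_18_1 lc_e_rc_13_3 lc_e_rc_18_1 lc_e_rc_9_3 lc_e_rc_27_7 lc_e_rc_18_1) (@D3.rec (fun _ => (Cert rels S Gen.e)) lc_e_rc_18_1 lc_e_Cert_tree lc_e_rc_16_3 lc_e_rc_19_2 lc_e_rc_27_5 lc_e_rc_18_1 lc_e_rc_18_1 lc_e_rc_9_3 lc_e_rc_9_3 lc_e_Cert_tree lc_e_Cert_tree lc_e_rc_27_7 lc_e_Cert_tree lc_e_rc_27_1 lc_e_rc_18_1 lc_e_rc_18_1 lc_e_rc_27_5 lc_e_Cert_tree lc_e_rc_16_1 lc_e_rc_13_3 lc_e_rc_18_1 lc_e_rc_18_1 lc_e_Cert_tree lc_e_rc_19_0 lc_e_rc_4_3 lc_e_rc_9_1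 lc_e_Cert_tree lc_e_Cert_tree lc_e_rc_4_3 lc_e_rc_18_1 lc_e_rc_18_1 lc_e_rc_16_1 lc_e_rc_13_3 lc_e_rc_16_5 lc_e_rc_16_3 lc_e_rc_13_3 lc_e_rc_16_5 lc_e_rc_27_1 lc_e_rc_18_1 lc_e_rc_27_5 lc_e_rc_13_3 lc_e_rc_16_3 lc_e_rc_19_4 lc_e_rc_18_1 lc_e_rc_18_1 lc_e_rc_18_1 lc_e_rc_19_2 lc_e_rc_18_1 lc_e_rc_9_3 lc_e_Cert_tree lc_e_Cert_tree lc_e_rc_16_3 lc_e_rc_18_1 lc_e_rc_18_1 lc_e_rc_13_1 lc_e_rc_13_3 lc_e_Cert_tree lc_e_rc_18_1 lc_e_rc_18_1 lc_e_rc_18_1 lc_e_Cert_tree lc_e_Cert_tree) (@D3.rec (fun _ => (Cert rels S Gen.e)) lc_e_rc_18_1 lc_e_rc_16_1 lc_e_rc_19_4 lc_e_rc_18_1 lc_e_Cert_tree lc_e_rc_16_1 lc_e_rc_18_1 lc_e_rc_16_1 lc_e_Cert_tree lc_e_rc_13_3 lc_e_Cert_tree lc_e_rc_4_3 lc_e_rc_27_1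 lc_e_rc_18_1 lc_e_rc_13_3 lc_e_Cert_tree lc_e_rc_4_3 lc_e_rc_9_3 lc_e_rc_18_1 lc_e_Cert_tree lc_e_rc_18_1 lc_e_Cert_tree lc_e_rc_18_1 lc_e_rc_18_1 lc_e_Cert_tree lc_e_rc_18_1 lc_e_rc_9_1 lc_e_rc_18_1 lc_e_Cert_tree lc_e_Cert_tree lc_e_rc_19_2 lc_e_rc_16_3 lc_e_rc_9_3 lc_e_Cert_tree lc_e_rc_18_1 lc_e_Cert_tree lc_e_rc_27_7 lc_e_Cert_tree lc_e_Cert_tree lc_e_rc_18_1 lc_e_Cert_tree lc_e_rc_18_1 lc_e_rc_27_5 lc_e_rc_16_1 lc_e_rc_19_4 lc_e_Cert_tree lc_e_rc_18_1 lc_e_rc_13_3 lc_e_rc_13_3 lc_e_rc_16_3 lc_e_rc_19_4 lc_e_rc_9_3 lc_e_rc_27_1 lc_e_Cert_tree lc_e_rc_27_5 lc_e_Cert_tree lc_e_rc_18_1 lc_e_rc_19_0 lc_e_rc_16_3 lc_e_Cert_tree lc_e_rc_18_1 lc_e_rc_27_7) (@D3.rec (fun _ => (Cert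 rels S Gen.e)) lc_e_Cert_tree lc_e_rc_18_1 lc_e_rc_18_1 lc_e_rc_4_3 lc_e_rc_16_3 lc_e_rc_19_4 lc_e_rc_9_1 lc_e_rc_13_3 lc_e_rc_4_3 lc_e_Cert_tree lc_e_rc_18_1 lc_e_Cert_tree lc_e_rc_13_3 lc_e_Cert_tree lc_e_rc_9_3 lc_e_rc_13_3 lc_e_rc_18_1 lc_e_Cert_tree lc_e_Cert_tree lc_e_rc_18_1 lc_e_rc_18_1 lc_e_Cert_tree lc_e_rc_13_3 lc_e_rc_9_3 lc_e_rc_19_4 lc_e_rc_18_1 lc_e_rc_27_5 lc_e_rc_16_5 lc_e_rc_18_1 lc_e_rc_19_4 lc_e_rc_16_1 lc_e_rc_19_4 lc_e_Cert_tree lc_e_Cert_tree lc_e_rc_13_3 lc_e_Cert_tree lc_e_rc_18_1 lc_e_rc_18_1 lc_e_rc_16_1 lc_e_rc_18_1 lc_e_rc_9_3 lc_e_rc_9_3 lc_e_rc_27_5 lc_e_Cert_tree lc_e_rc_18_1 lc_e_Cert_tree lc_e_Cert_tree lc_e_rc_18_1 lc_e_Cert_tree lc_e_rc_16_5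 lc_e_rc_19_4 lc_e_rc_16_1 lc_e_rc_13_3 lc_e_Cert_tree lc_e_Cert_tree lc_e_rc_18_1 lc_e_rc_19_4 lc_e_rc_9_3 lc_e_Cert_tree lc_e_rc_13_3 lc_e_rc_13_1 lc_e_rc_18_1) (@D3.rec (fun _ => (Cert rels S Gen.e)) lc_e_rc_9_3 lc_e_rc_16_3 lc_e_rc_27_5 lc_e_rc_9_3 lc_e_rc_27_1 lc_e_rc_4_3 lc_e_rc_13_3 lc_e_Cert_tree lc_e_rc_18_1 lc_e_Cert_tree lc_e_rc_9_3 lc_e_Cert_tree lc_e_rc_4_3 lc_e_rc_18_1 lc_e_rc_18_1 lc_e_rc_18_1 lc_e_Cert_tree lc_e_rc_16_1 lc_e_rc_19_4 lc_e_rc_13_1 lc_e_rc_18_1 lc_e_Cert_tree lc_e_Cert_tree lc_e_rc_18_1 lc_e_rc_4_1 lc_e_rc_13_3 lc_e_rc_18_1 lc_e_rc_13_1 lc_e_rc_9_1 lc_e_rc_19_4 lc_e_rc_9_3 lc_e_rc_16_1 lc_e_Cert_tree lc_e_rc_13_3 lc_e_rc_18_1 lc_e_Cert_tree lc_e_Cert_tree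 lc_e_rc_13_3 lc_e_rc_16_3 lc_e_rc_13_1 lc_e_rc_9_1 lc_e_rc_9_1 lc_e_rc_16_1 lc_e_rc_16_3 lc_e_Cert_tree lc_e_rc_18_1 lc_e_Cert_tree lc_e_Cert_tree lc_e_rc_18_1 lc_e_rc_13_1 lc_e_rc_13_1 lc_e_rc_13_3 lc_e_rc_9_3 lc_e_rc_13_3 lc_e_rc_18_1 lc_e_rc_27_5 lc_e_rc_19_4 lc_e_rc_4_1 lc_e_Cert_tree lc_e_Cert_tree lc_e_Cert_tree lc_e_rc_18_1) (@D3.rec (fun _ => (Cert rels S Gen.e)) lc_e_rc_18_1 lc_e_Cert_tree lc_e_rc_16_1 lc_e_rc_19_4 lc_e_rc_18_1 lc_e_rc_9_3 lc_e_Cert_tree lc_e_Cert_tree lc_e_rc_18_1 lc_e_rc_18_1 lc_e_Cert_tree lc_e_rc_16_3 lc_e_rc_19_4 lc_e_Cert_tree lc_e_rc_27_7 lc_e_rc_18_1 lc_e_rc_9_3 lc_e_Cert_tree lc_e_rc_13_1 lc_e_rc_13_3 lc_e_Cert_tree lc_e_rc_13_1 lc_e_rc_13_3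 lc_e_rc_18_1 lc_e_Cert_tree lc_e_rc_18_1 lc_e_rc_18_1 lc_e_rc_16_3 lc_e_rc_18_1 lc_e_Cert_tree lc_e_rc_27_5 lc_e_rc_9_3 lc_e_rc_13_3 lc_e_rc_18_1 lc_e_rc_4_3 lc_e_rc_13_3 lc_e_rc_16_3 lc_e_rc_19_4 lc_e_Cert_tree lc_e_rc_4_1 lc_e_rc_13_3 lc_e_Cert_tree lc_e_rc_18_1 lc_e_rc_27_5 lc_e_Cert_tree lc_e_rc_9_3 lc_e_rc_18_1 lc_e_rc_18_1 lc_e_Cert_tree lc_e_Cert_tree lc_e_rc_27_5 lc_e_rc_16_3 lc_e_rc_13_3 lc_e_rc_16_3 lc_e_rc_4_1 lc_e_Cert_tree lc_e_rc_18_1 lc_e_rc_18_1 lc_e_Cert_tree lc_e_rc_18_1 lc_e_rc_16_1 lc_e_Cert_tree) (@D3.rec (fun _ => (Cert rels S Gen.e)) lc_e_Cert_tree lc_e_rc_18_1 lc_e_rc_13_3 lc_e_Cert_tree lc_e_rc_16_5 lc_e_rc_16_5 lc_e_Cert_tree lc_e_rc_18_1 lc_e_rc_18_1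 lc_e_rc_9_3 lc_e_rc_18_1 lc_e_rc_27_5 lc_e_rc_9_1 lc_e_rc_19_2 lc_e_rc_18_1 lc_e_rc_9_3 lc_e_Cert_tree lc_e_Cert_tree lc_e_Cert_tree lc_e_rc_18_1 lc_e_rc_16_5 lc_e_rc_27_5 lc_e_rc_18_1 lc_e_rc_16_5 lc_e_rc_18_1 lc_e_rc_27_7 lc_e_rc_16_1 lc_e_rc_27_7 lc_e_Cert_tree lc_e_rc_18_1 lc_e_Cert_tree lc_e_Cert_tree lc_e_rc_18_1 lc_e_Cert_tree lc_e_Cert_tree lc_e_rc_18_1 lc_e_rc_27_5 lc_e_rc_27_5 lc_e_rc_18_1 lc_e_rc_18_1 lc_e_Cert_tree lc_e_rc_19_4 lc_e_Cert_tree lc_e_rc_18_1 lc_e_rc_16_3 lc_e_Cert_tree lc_e_Cert_tree lc_e_rc_18_1 lc_e_Cert_tree lc_e_rc_18_1 lc_e_Cert_tree lc_e_Cert_tree lc_e_rc_18_1 lc_e_Cert_tree lc_e_Cert_tree lc_e_rc_18_1 lc_e_Cert_tree lc_e_Cert_tree lc_e_rc_13_3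 lc_e_Cert_tree lc_e_rc_13_3 lc_e_rc_18_1) (@D3.rec (fun _ => (Cert rels S Gen.e)) lc_e_rc_27_7 lc_e_rc_27_5 lc_e_rc_18_1 lc_e_Cert_tree lc_e_rc_18_1 lc_e_rc_18_1 lc_e_rc_16_5 lc_e_Cert_tree lc_e_rc_18_1 lc_e_rc_13_1 lc_e_Cert_tree lc_e_rc_9_3 lc_e_Cert_tree lc_e_rc_18_1 lc_e_rc_13_3 lc_e_rc_13_3 lc_e_rc_16_3 lc_e_rc_13_3 lc_e_rc_27_1 lc_e_rc_19_4 lc_e_rc_16_3 lc_e_Cert_tree lc_e_Cert_tree lc_e_Cert_tree lc_e_rc_18_1 lc_e_rc_13_3 lc_e_rc_16_3 lc_e_rc_13_3 lc_e_Cert_tree lc_e_rc_18_1 lc_e_Cert_tree lc_e_rc_18_1 lc_e_rc_13_3 lc_e_rc_13_3 lc_e_rc_16_3 lc_e_Cert_tree lc_e_rc_13_3 lc_e_rc_18_1 lc_e_rc_13_3 lc_e_rc_18_1 lc_e_Cert_tree lc_e_Cert_tree lc_e_rc_18_1 lc_e_rc_18_1 lc_e_rc_9_1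 lc_e_rc_18_1 lc_e_Cert_tree lc_e_rc_16_3 lc_e_rc_18_1 lc_e_Cert_tree lc_e_Cert_tree lc_e_rc_19_4 lc_e_rc_18_1 lc_e_rc_13_3 lc_e_rc_16_1 lc_e_rc_19_4 lc_e_rc_9_3 lc_e_Cert_tree lc_e_Cert_tree lc_e_rc_18_1 lc_e_Cert_tree lc_e_Cert_tree) (@D3.rec (fun _ => (Cert rels S Gen.e)) lc_e_rc_18_1 lc_e_rc_18_1 lc_e_Cert_tree lc_e_rc_18_1 lc_e_rc_16_3 lc_e_rc_9_1 lc_e_Cert_tree lc_e_rc_13_3 lc_e_Cert_tree lc_e_rc_4_1 lc_e_rc_4_3 lc_e_rc_18_1 lc_e_Cert_tree lc_e_rc_27_7 lc_e_rc_18_1 lc_e_rc_13_3 lc_e_rc_9_3 lc_e_Cert_tree lc_e_rc_9_3 lc_e_rc_13_3 lc_e_rc_27_1 lc_e_rc_9_3 lc_e_rc_13_3 lc_e_rc_9_3 lc_e_Cert_tree lc_e_rc_18_1 lc_e_Cert_tree lc_e_rc_27_5 lc_e_rc_9_3 lc_e_rc_27_7 lc_e_rc_18_1 lc_e_rc_27_1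 lc_e_Cert_tree lc_e_rc_18_1 lc_e_Cert_tree lc_e_rc_18_1 lc_e_rc_19_0 lc_e_rc_19_4 lc_e_Cert_tree lc_e_rc_18_1 lc_e_Cert_tree lc_e_rc_18_1 lc_e_rc_13_1 lc_e_rc_18_1 lc_e_Cert_tree lc_e_rc_18_1 lc_e_rc_18_1 lc_e_rc_18_1 lc_e_rc_16_5 lc_e_rc_19_4 lc_e_rc_4_3 lc_e_Cert_tree lc_e_rc_18_1 lc_e_Cert_tree lc_e_Cert_tree lc_e_Cert_tree lc_e_rc_18_1 lc_e_Cert_tree lc_e_rc_18_1 lc_e_rc_18_1 lc_e_Cert_tree lc_e_Cert_tree) (@D3.rec (fun _ => (Cert rels S Gen.e)) lc_e_rc_16_3 lc_e_rc_18_1 lc_e_rc_9_1 lc_e_rc_19_2 lc_e_rc_18_1 lc_e_rc_27_5 lc_e_Cert_tree lc_e_rc_4_3 lc_e_Cert_tree lc_e_Cert_tree lc_e_Cert_tree lc_e_rc_18_1 lc_e_rc_13_3 lc_e_rc_13_3 lc_e_rc_4_3 lc_e_rc_16_1 lc_e_rc_18_1 lc_e_Cert_tree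 lc_e_rc_27_5 lc_e_rc_18_1 lc_e_rc_27_7 lc_e_rc_18_1 lc_e_rc_18_1 lc_e_rc_18_1 lc_e_rc_19_4 lc_e_rc_27_5 lc_e_Cert_tree lc_e_rc_18_1 lc_e_rc_18_1 lc_e_rc_18_1 lc_e_rc_9_1 lc_e_rc_18_1 lc_e_rc_13_1 lc_e_Cert_tree lc_e_rc_27_5 lc_e_Cert_tree lc_e_rc_18_1 lc_e_Cert_tree lc_e_rc_16_1 lc_e_rc_4_1 lc_e_Cert_tree lc_e_rc_18_1 lc_e_rc_18_1 lc_e_rc_16_5 lc_e_rc_19_2 lc_e_Cert_tree lc_e_Cert_tree lc_e_rc_18_1 lc_e_rc_18_1 lc_e_rc_16_3 lc_e_Cert_tree lc_e_rc_4_3 lc_e_rc_16_5 lc_e_Cert_tree lc_e_rc_27_5 lc_e_Cert_tree lc_e_rc_13_3 lc_e_rc_18_1 lc_e_Cert_tree lc_e_rc_18_1 lc_e_rc_16_5 lc_e_rc_19_4) (@D3.rec (fun _ => (Cert rels S Gen.e)) lc_e_Cert_tree lc_e_rc_18_1 lc_e_rc_18_1 lc_e_rc_4_3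 lc_e_rc_27_5 lc_e_rc_13_3 lc_e_rc_9_3 lc_e_Cert_tree lc_e_rc_19_4 lc_e_Cert_tree lc_e_rc_18_1 lc_e_rc_27_1 lc_e_rc_4_3 lc_e_Cert_tree lc_e_Cert_tree lc_e_rc_18_1 lc_e_rc_4_3 lc_e_Cert_tree lc_e_rc_18_1 lc_e_rc_13_1 lc_e_rc_13_1 lc_e_rc_27_5 lc_e_rc_19_4 lc_e_rc_13_3 lc_e_rc_27_1 lc_e_rc_19_2 lc_e_rc_18_1 lc_e_rc_9_1 lc_e_rc_9_3 lc_e_rc_27_1 lc_e_rc_13_3 lc_e_rc_18_1 lc_e_rc_27_5 lc_e_rc_27_5 lc_e_rc_16_1 lc_e_rc_19_4 lc_e_rc_18_1 lc_e_rc_13_3 lc_e_rc_13_3 lc_e_rc_18_1 lc_e_rc_4_1 lc_e_rc_16_3 lc_e_rc_13_1 lc_e_rc_18_1 lc_e_rc_9_3 lc_e_rc_9_1 lc_e_rc_18_1 lc_e_rc_18_1 lc_e_rc_16_1 lc_e_rc_27_1 lc_e_rc_18_1 lc_e_rc_18_1 lc_e_rc_27_1 lc_e_rc_18_1 lc_e_rc_13_1 lc_e_rc_18_1 lc_e_rc_4_1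 lc_e_rc_9_1 lc_e_Cert_tree lc_e_rc_18_1 lc_e_rc_13_3 lc_e_rc_27_5) (@D3.rec (fun _ => (Cert rels S Gen.e)) lc_e_rc_13_3 lc_e_rc_13_1 lc_e_rc_27_1 lc_e_rc_9_3 lc_e_rc_13_3 lc_e_rc_13_3 lc_e_rc_9_3 lc_e_rc_27_1 lc_e_rc_4_1 lc_e_Cert_tree lc_e_rc_27_5 lc_e_rc_9_3 lc_e_rc_4_3 lc_e_rc_18_1 lc_e_Cert_tree lc_e_Cert_tree lc_e_rc_9_1 lc_e_rc_18_1 lc_e_rc_4_3 lc_e_rc_16_5 lc_e_rc_16_1 lc_e_Cert_tree lc_e_rc_27_1 lc_e_rc_18_1 lc_e_Cert_tree lc_e_rc_16_1 lc_e_rc_13_3 lc_e_rc_16_5 lc_e_rc_19_4 lc_e_Cert_tree lc_e_rc_18_1 lc_e_rc_4_3 lc_e_rc_16_1 lc_e_Cert_tree lc_e_rc_18_1 lc_e_rc_13_3 lc_e_rc_16_1 lc_e_Cert_tree lc_e_Cert_tree lc_e_rc_18_1 lc_e_rc_16_1 lc_e_rc_13_3 lc_e_rc_18_1 lc_e_Cert_tree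 lc_e_rc_16_5 lc_e_rc_13_3 lc_e_rc_16_3 lc_e_rc_18_1 lc_e_Cert_tree lc_e_rc_27_7 lc_e_rc_18_1 lc_e_rc_18_1 lc_e_rc_18_1 lc_e_rc_19_4 lc_e_Cert_tree lc_e_rc_18_1 lc_e_rc_27_7 lc_e_Cert_tree lc_e_rc_16_5 lc_e_rc_13_3 lc_e_Cert_tree lc_e_rc_18_1) (@D3.rec (fun _ => (Cert rels S Gen.e)) lc_e_rc_13_3 lc_e_rc_27_1 lc_e_rc_13_1 lc_e_Cert_tree lc_e_rc_18_1 lc_e_rc_9_3 lc_e_rc_18_1 lc_e_rc_27_5 lc_e_rc_27_7 lc_e_rc_9_3 lc_e_rc_13_1 lc_e_rc_18_1 lc_e_rc_27_5 lc_e_rc_9_3 lc_e_Cert_tree lc_e_Cert_tree lc_e_rc_18_1 lc_e_rc_16_3 lc_e_rc_4_3 lc_e_Cert_tree lc_e_rc_13_3 lc_e_rc_18_1 lc_e_rc_4_3 lc_e_rc_4_3 lc_e_rc_13_1 lc_e_rc_18_1 lc_e_rc_13_3 lc_e_Cert_tree lc_e_rc_9_3 lc_e_Cert_tree lc_e_Cert_tree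 lc_e_Cert_tree lc_e_rc_18_1 lc_e_rc_18_1 lc_e_rc_19_4 lc_e_Cert_tree lc_e_Cert_tree lc_e_rc_4_3 lc_e_Cert_tree lc_e_Cert_tree lc_e_rc_18_1 lc_e_rc_18_1 lc_e_rc_16_5 lc_e_rc_18_1 lc_e_rc_19_4 lc_e_rc_18_1 lc_e_rc_18_1 lc_e_Cert_tree lc_e_rc_18_1 lc_e_rc_9_3 lc_e_rc_18_1 lc_e_rc_9_1 lc_e_rc_4_3 lc_e_rc_16_1 lc_e_rc_18_1 lc_e_Cert_tree lc_e_Cert_tree lc_e_rc_16_3 lc_e_rc_18_1 lc_e_Cert_tree lc_e_Cert_tree lc_e_rc_18_1) (@D3.rec (fun _ => (Cert rels S Gen.e)) lc_e_Cert_tree lc_e_Cert_tree lc_e_rc_13_3 lc_e_Cert_tree lc_e_rc_18_1 lc_e_Cert_tree lc_e_rc_18_1 lc_e_rc_27_5 lc_e_Cert_tree lc_e_rc_16_1 lc_e_rc_18_1 lc_e_rc_27_5 lc_e_rc_4_3 lc_e_rc_18_1 lc_e_rc_27_5 lc_e_Cert_tree lc_e_rc_18_1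 lc_e_Cert_tree lc_e_Cert_tree lc_e_Cert_tree lc_e_rc_13_3 lc_e_rc_18_1 lc_e_rc_18_1 lc_e_Cert_tree lc_e_rc_16_1 lc_e_rc_9_3 lc_e_Cert_tree lc_e_rc_19_4 lc_e_Cert_tree lc_e_rc_18_1 lc_e_Cert_tree lc_e_rc_27_1 lc_e_Cert_tree lc_e_Cert_tree lc_e_rc_18_1 lc_e_Cert_tree lc_e_rc_4_3 lc_e_rc_18_1 lc_e_rc_27_7 lc_e_Cert_tree lc_e_rc_16_1 lc_e_rc_19_4 lc_e_rc_13_3 lc_e_rc_18_1 lc_e_rc_13_3 lc_e_Cert_tree lc_e_rc_13_3 lc_e_rc_19_4 lc_e_rc_13_3 lc_e_Cert_tree lc_e_Cert_tree lc_e_rc_13_3 lc_e_rc_18_1 lc_e_rc_18_1 lc_e_Cert_tree lc_e_rc_27_5 lc_e_rc_16_1 lc_e_rc_19_4 lc_e_rc_13_3 lc_e_Cert_tree lc_e_rc_18_1 lc_e_Cert_tree) (@D3.rec (fun _ => (Cert rels S Gen.e)) lc_e_rc_18_1 lc_e_Cert_tree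 lc_e_rc_18_1 lc_e_rc_16_1 lc_e_rc_19_4 lc_e_rc_18_1 lc_e_rc_16_3 lc_e_rc_19_4 lc_e_Cert_tree lc_e_Cert_tree lc_e_Cert_tree lc_e_rc_18_1 lc_e_rc_13_3 lc_e_rc_9_3 lc_e_Cert_tree lc_e_Cert_tree lc_e_Cert_tree lc_e_Cert_tree lc_e_Cert_tree lc_e_rc_18_1 lc_e_Cert_tree lc_e_rc_18_1 lc_e_Cert_tree lc_e_rc_18_1 lc_e_rc_18_1 lc_e_rc_16_3 lc_e_rc_18_1 lc_e_Cert_tree lc_e_Cert_tree lc_e_Cert_tree lc_e_rc_18_1 lc_e_Cert_tree lc_e_rc_16_3 lc_e_Cert_tree lc_e_rc_27_5 lc_e_rc_18_1 lc_e_rc_13_3 lc_e_rc_27_7 lc_e_Cert_tree lc_e_rc_27_7 lc_e_rc_9_1 lc_e_rc_18_1 lc_e_rc_16_5 lc_e_rc_16_1 lc_e_rc_19_4 lc_e_rc_9_3 lc_e_Cert_tree lc_e_rc_18_1 lc_e_rc_27_5 lc_e_Cert_tree lc_e_rc_27_5 lc_e_rc_27_7 lc_e_rc_18_1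 lc_e_rc_18_1 lc_e_rc_16_1 lc_e_rc_13_1 lc_e_Cert_tree lc_e_Cert_tree lc_e_rc_18_1 lc_e_rc_18_1 lc_e_rc_18_1 lc_e_Cert_tree) (@D3.rec (fun _ => (Cert rels S Gen.e)) lc_e_rc_16_1 lc_e_rc_19_2 lc_e_rc_13_3 lc_e_rc_27_7 lc_e_rc_18_1 lc_e_Cert_tree lc_e_Cert_tree lc_e_rc_18_1 lc_e_rc_13_3 lc_e_rc_9_3 lc_e_rc_18_1 lc_e_Cert_tree lc_e_Cert_tree lc_e_rc_18_1 lc_e_rc_4_3 lc_e_rc_18_1 lc_e_Cert_tree lc_e_rc_13_3 lc_e_rc_18_1 lc_e_rc_16_1 lc_e_rc_16_3 lc_e_rc_19_2 lc_e_rc_13_3 lc_e_rc_16_5 lc_e_rc_9_3 lc_e_rc_9_3 lc_e_rc_18_1 lc_e_rc_18_1 lc_e_rc_13_3 lc_e_rc_13_1 lc_e_rc_4_3 lc_e_Cert_tree lc_e_rc_18_1 lc_e_rc_27_1 lc_e_rc_27_5 lc_e_rc_16_3 lc_e_rc_27_5 lc_e_Cert_tree lc_e_rc_18_1 lc_e_rc_13_1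 lc_e_rc_9_3 lc_e_rc_16_5 lc_e_rc_18_1 lc_e_rc_27_5 lc_e_rc_18_1 lc_e_rc_4_1 lc_e_rc_27_5 lc_e_rc_9_3 lc_e_rc_27_7 lc_e_rc_27_7 lc_e_rc_18_1 lc_e_rc_27_5 lc_e_rc_13_3 lc_e_rc_27_7 lc_e_rc_18_1 lc_e_rc_18_1 lc_e_rc_19_4 lc_e_rc_18_1 lc_e_rc_18_1 lc_e_rc_13_3 lc_e_Cert_tree lc_e_rc_27_5) (@D3.rec (fun _ => (Cert rels S Gen.e)) lc_e_Cert_tree lc_e_rc_19_4 lc_e_rc_4_3 lc_e_rc_16_3 lc_e_rc_18_1 lc_e_rc_16_1 lc_e_Cert_tree lc_e_rc_13_3 lc_e_rc_16_5 lc_e_Cert_tree lc_e_rc_18_1 lc_e_rc_18_1 lc_e_rc_13_3 lc_e_Cert_tree lc_e_rc_16_1 lc_e_rc_13_1 lc_e_rc_13_3 lc_e_Cert_tree lc_e_rc_18_1 lc_e_Cert_tree lc_e_rc_4_3 lc_e_Cert_tree lc_e_Cert_tree lc_e_rc_18_1 lc_e_rc_18_1 lc_e_rc_18_1 lc_e_rc_27_5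 lc_e_rc_19_4 lc_e_rc_13_3 lc_e_Cert_tree lc_e_rc_9_3 lc_e_Cert_tree lc_e_rc_18_1 lc_e_rc_4_3 lc_e_rc_9_1 lc_e_rc_16_1 lc_e_rc_16_1 lc_e_rc_18_1 lc_e_rc_18_1 lc_e_rc_19_4 lc_e_Cert_tree lc_e_Cert_tree lc_e_Cert_tree lc_e_Cert_tree lc_e_rc_18_1 lc_e_rc_9_1 lc_e_rc_13_3 lc_e_rc_4_1 lc_e_rc_18_1 lc_e_Cert_tree lc_e_rc_18_1 lc_e_Cert_tree lc_e_rc_18_1 lc_e_Cert_tree lc_e_rc_18_1 lc_e_rc_13_3 lc_e_rc_18_1 lc_e_Cert_tree lc_e_rc_16_5 lc_e_Cert_tree lc_e_rc_18_1 lc_e_rc_16_3) (@D3.rec (fun _ => (Cert rels S Gen.e)) lc_e_rc_16_5 lc_e_rc_18_1 lc_e_rc_19_4 lc_e_Cert_tree lc_e_rc_19_4 lc_e_Cert_tree lc_e_rc_9_3 lc_e_rc_4_3 lc_e_Cert_tree lc_e_rc_18_1 lc_e_rc_27_7 lc_e_rc_19_2 lc_e_rc_4_3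 lc_e_rc_9_3 lc_e_rc_4_3 lc_e_Cert_tree lc_e_rc_27_7 lc_e_rc_18_1 lc_e_rc_18_1 lc_e_rc_9_3 lc_e_rc_13_3 lc_e_Cert_tree lc_e_rc_9_3 lc_e_Cert_tree lc_e_rc_18_1 lc_e_rc_18_1 lc_e_rc_13_3 lc_e_rc_18_1 lc_e_Cert_tree lc_e_rc_4_3 lc_e_rc_27_7 lc_e_rc_18_1 lc_e_rc_27_1 lc_e_rc_13_3 lc_e_rc_19_4 lc_e_rc_27_1 lc_e_rc_18_1 lc_e_rc_18_1 lc_e_rc_4_3 lc_e_rc_9_3 lc_e_Cert_tree lc_e_Cert_tree lc_e_rc_18_1 lc_e_rc_18_1 lc_e_rc_13_3 lc_e_rc_19_4 lc_e_rc_18_1 lc_e_rc_16_5 lc_e_Cert_tree lc_e_rc_9_1 lc_e_rc_18_1 lc_e_rc_4_3 lc_e_rc_16_5 lc_e_Cert_tree lc_e_Cert_tree lc_e_rc_9_1 lc_e_Cert_tree lc_e_rc_16_3 lc_e_rc_18_1 lc_e_rc_13_3 lc_e_Cert_tree lc_e_Cert_tree) (@D3.rec (fun _ => (Cert rels S Gen.e))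 lc_e_rc_9_3 lc_e_rc_4_3 lc_e_Cert_tree lc_e_rc_18_1 lc_e_Cert_tree lc_e_rc_18_1 lc_e_Cert_tree lc_e_rc_18_1 lc_e_Cert_tree lc_e_rc_18_1 lc_e_rc_13_3 lc_e_rc_16_5 lc_e_Cert_tree lc_e_rc_18_1 lc_e_rc_16_3 lc_e_rc_19_2 lc_e_rc_18_1 lc_e_Cert_tree lc_e_rc_16_3 lc_e_rc_27_7 lc_e_rc_18_1 lc_e_Cert_tree lc_e_rc_19_4 lc_e_rc_18_1 lc_e_Cert_tree lc_e_rc_13_3 lc_e_rc_27_1 lc_e_Cert_tree lc_e_rc_18_1 lc_e_rc_18_1 lc_e_rc_27_5 lc_e_rc_13_1 lc_e_rc_16_1 lc_e_rc_13_3 lc_e_rc_27_5 lc_e_rc_18_1 lc_e_Cert_tree lc_e_Cert_tree lc_e_Cert_tree lc_e_Cert_tree lc_e_rc_18_1 lc_e_rc_18_1 lc_e_rc_16_1 lc_e_rc_19_4 lc_e_rc_13_3 lc_e_rc_18_1 lc_e_Cert_tree lc_e_rc_4_3 lc_e_rc_19_2 lc_e_Cert_tree lc_e_rc_18_1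 lc_e_rc_18_1 lc_e_rc_18_1 lc_e_rc_13_1 lc_e_rc_16_1 lc_e_rc_13_3 lc_e_rc_13_1 lc_e_rc_18_1 lc_e_rc_4_3 lc_e_rc_9_3 lc_e_Cert_tree lc_e_Cert_tree) (@D3.rec (fun _ => (Cert rels S Gen.e)) lc_e_rc_18_1 lc_e_rc_18_1 lc_e_Cert_tree lc_e_rc_13_3 lc_e_rc_27_7 lc_e_rc_19_4 lc_e_Cert_tree lc_e_rc_18_1 lc_e_Cert_tree lc_e_rc_18_1 lc_e_rc_13_3 lc_e_rc_16_3 lc_e_rc_18_1 lc_e_rc_18_1 lc_e_rc_9_3 lc_e_rc_19_4 lc_e_rc_27_1 lc_e_Cert_tree lc_e_rc_16_5 lc_e_rc_18_1 lc_e_rc_27_7 lc_e_rc_19_4 lc_e_Cert_tree lc_e_Cert_tree lc_e_Cert_tree lc_e_rc_13_3 lc_e_rc_18_1 lc_e_rc_16_1 lc_e_Cert_tree lc_e_Cert_tree lc_e_rc_13_3 lc_e_rc_18_1 lc_e_Cert_tree lc_e_Cert_tree lc_e_Cert_tree lc_e_rc_19_0 lc_e_rc_18_1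 lc_e_Cert_tree lc_e_rc_18_1 lc_e_rc_9_1 lc_e_rc_18_1 lc_e_rc_13_3 lc_e_rc_27_5 lc_e_rc_9_3 lc_e_rc_18_1 lc_e_rc_9_3 lc_e_rc_19_2 lc_e_Cert_tree lc_e_rc_18_1 lc_e_rc_18_1 lc_e_rc_16_5 lc_e_rc_19_0 lc_e_rc_13_1 lc_e_rc_18_1 lc_e_rc_18_1 lc_e_rc_18_1 lc_e_rc_9_3 lc_e_rc_27_5 lc_e_Cert_tree lc_e_Cert_tree lc_e_rc_4_1 lc_e_rc_18_1) (@D3.rec (fun _ => (Cert rels S Gen.e)) lc_e_rc_16_3 lc_e_rc_13_1 lc_e_rc_9_1 lc_e_Cert_tree lc_e_rc_18_1 lc_e_Cert_tree lc_e_rc_27_7 lc_e_rc_27_7 lc_e_rc_9_3 lc_e_rc_18_1 lc_e_rc_13_1 lc_e_rc_13_3 lc_e_rc_13_3 lc_e_rc_9_3 lc_e_rc_13_3 lc_e_rc_13_3 lc_e_rc_18_1 lc_e_rc_9_3 lc_e_Cert_tree lc_e_Cert_tree lc_e_rc_9_1 lc_e_rc_9_3 lc_e_rc_13_1 lc_e_rc_19_4 lc_e_rc_13_3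 lc_e_Cert_tree lc_e_rc_9_3 lc_e_rc_18_1 lc_e_Cert_tree lc_e_Cert_tree lc_e_Cert_tree lc_e_rc_18_1 lc_e_Cert_tree lc_e_Cert_tree lc_e_rc_9_1 lc_e_rc_18_1 lc_e_Cert_tree lc_e_rc_18_1 lc_e_rc_16_3 lc_e_Cert_tree lc_e_Cert_tree lc_e_rc_18_1 lc_e_rc_27_5 lc_e_rc_18_1 lc_e_rc_16_1 lc_e_rc_19_4 lc_e_rc_13_3 lc_e_rc_18_1 lc_e_rc_16_3 lc_e_rc_18_1 lc_e_rc_18_1 lc_e_rc_18_1 lc_e_rc_16_1 lc_e_rc_19_2 lc_e_rc_9_1 lc_e_rc_4_3 lc_e_Cert_tree lc_e_Cert_tree lc_e_rc_18_1 lc_e_rc_4_3 lc_e_Cert_tree lc_e_rc_13_3) (@D3.rec (fun _ => (Cert rels S Gen.e)) lc_e_Cert_tree lc_e_rc_27_5 lc_e_rc_9_3 lc_e_rc_16_3 lc_e_rc_19_4 lc_e_rc_18_1 lc_e_Cert_tree lc_e_rc_18_1 lc_e_rc_16_5 lc_e_rc_18_1 lc_e_Cert_tree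 lc_e_rc_4_1 lc_e_rc_9_3 lc_e_rc_4_1 lc_e_rc_19_4 lc_e_Cert_tree lc_e_rc_27_7 lc_e_rc_18_1 lc_e_rc_9_3 lc_e_Cert_tree lc_e_rc_27_7 lc_e_rc_18_1 lc_e_rc_13_1 lc_e_rc_18_1 lc_e_rc_18_1 lc_e_rc_27_7 lc_e_rc_18_1 lc_e_rc_18_1 lc_e_rc_16_3 lc_e_rc_9_3 lc_e_rc_27_1 lc_e_Cert_tree lc_e_rc_13_1 lc_e_rc_13_3 lc_e_rc_18_1 lc_e_rc_18_1 lc_e_rc_13_3 lc_e_rc_16_1 lc_e_rc_13_1 lc_e_rc_9_3 lc_e_rc_18_1 lc_e_Cert_tree lc_e_rc_18_1 lc_e_Cert_tree lc_e_rc_9_3 lc_e_rc_27_7 lc_e_rc_18_1 lc_e_rc_16_3 lc_e_rc_19_2 lc_e_rc_18_1 lc_e_rc_9_3 lc_e_rc_18_1 lc_e_rc_13_3 lc_e_rc_19_2 lc_e_rc_9_3 lc_e_Cert_tree lc_e_Cert_tree lc_e_rc_27_1 lc_e_rc_18_1 lc_e_rc_18_1 lc_e_rc_9_3 lc_e_Cert_tree) (@D3.rec (fun _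 => (Cert rels S Gen.e)) lc_e_rc_18_1 lc_e_rc_9_1 lc_e_rc_18_1 lc_e_Cert_tree lc_e_Cert_tree lc_e_Cert_tree lc_e_rc_18_1 lc_e_Cert_tree lc_e_rc_9_1 lc_e_rc_4_3 lc_e_rc_9_1 lc_e_rc_18_1 lc_e_rc_16_1 lc_e_rc_19_4 lc_e_Cert_tree lc_e_Cert_tree lc_e_rc_18_1 lc_e_rc_9_3 lc_e_rc_27_7 lc_e_rc_16_3 lc_e_Cert_tree lc_e_rc_27_1 lc_e_Cert_tree lc_e_rc_27_5 lc_e_rc_9_3 lc_e_rc_13_1 lc_e_Cert_tree lc_e_rc_13_3 lc_e_rc_18_1 lc_e_Cert_tree lc_e_rc_13_3 lc_e_rc_9_3 lc_e_Cert_tree lc_e_rc_19_4 lc_e_rc_4_1 lc_e_rc_9_3 lc_e_rc_4_3 lc_e_rc_27_7 lc_e_rc_18_1 lc_e_Cert_tree lc_e_rc_9_3 lc_e_rc_4_1 lc_e_Cert_tree lc_e_rc_18_1 lc_e_rc_18_1 lc_e_rc_13_3 lc_e_rc_27_7 lc_e_rc_27_1 lc_e_rc_16_1 lc_e_Cert_tree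 lc_e_rc_18_1 lc_e_rc_13_3 lc_e_Cert_tree lc_e_rc_9_3 lc_e_rc_16_5 lc_e_rc_13_1 lc_e_rc_18_1 lc_e_rc_19_2 lc_e_rc_19_4 lc_e_Cert_tree lc_e_rc_18_1 lc_e_rc_4_3) (@D3.rec (fun _ => (Cert rels S Gen.e)) lc_e_Cert_tree lc_e_Cert_tree lc_e_rc_18_1 lc_e_Cert_tree lc_e_Cert_tree lc_e_rc_16_1 lc_e_rc_19_4 lc_e_rc_9_3 lc_e_rc_16_3 lc_e_Cert_tree lc_e_rc_27_5 lc_e_rc_16_1 lc_e_rc_4_1 lc_e_rc_9_3 lc_e_Cert_tree lc_e_Cert_tree lc_e_Cert_tree lc_e_rc_18_1 lc_e_Cert_tree lc_e_Cert_tree lc_e_rc_13_3 lc_e_rc_16_3 lc_e_rc_18_1 lc_e_Cert_tree lc_e_rc_18_1 lc_e_rc_16_3 lc_e_rc_18_1 lc_e_rc_18_1 lc_e_Cert_tree lc_e_rc_19_4 lc_e_rc_16_5 lc_e_rc_16_5 lc_e_rc_4_1 lc_e_rc_18_1 lc_e_Cert_tree lc_e_rc_18_1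 lc_e_rc_19_0 lc_e_rc_13_1 lc_e_rc_18_1 lc_e_Cert_tree lc_e_rc_13_3 lc_e_rc_16_1 lc_e_rc_9_3 lc_e_rc_13_3 lc_e_Cert_tree lc_e_rc_16_5 lc_e_rc_18_1 lc_e_Cert_tree lc_e_rc_18_1 lc_e_Cert_tree lc_e_rc_27_1 lc_e_Cert_tree lc_e_rc_18_1 lc_e_Cert_tree lc_e_rc_27_5 lc_e_rc_16_1 lc_e_Cert_tree lc_e_rc_19_4 lc_e_Cert_tree lc_e_rc_13_1 lc_e_Cert_tree lc_e_rc_18_1) (@D3.rec (fun _ => (Cert rels S Gen.e)) lc_e_Cert_tree lc_e_Cert_tree lc_e_rc_27_5 lc_e_rc_13_3 lc_e_rc_18_1 lc_e_rc_18_1 lc_e_rc_9_3 lc_e_rc_27_5 lc_e_rc_18_1 lc_e_rc_13_3 lc_e_Cert_tree lc_e_rc_18_1 lc_e_rc_13_3 lc_e_rc_27_5 lc_e_Cert_tree lc_e_rc_27_5 lc_e_rc_18_1 lc_e_rc_9_3 lc_e_rc_16_5 lc_e_Cert_tree lc_e_rc_16_5 lc_e_rc_13_3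 lc_e_rc_18_1 lc_e_Cert_tree lc_e_rc_16_3 lc_e_rc_13_3 lc_e_rc_18_1 lc_e_rc_4_3 lc_e_rc_27_5 lc_e_rc_18_1 lc_e_Cert_tree lc_e_Cert_tree lc_e_rc_16_1 lc_e_rc_19_4 lc_e_rc_18_1 lc_e_rc_19_4 lc_e_rc_9_3 lc_e_rc_19_2 lc_e_Cert_tree lc_e_rc_18_1 lc_e_rc_16_1 lc_e_rc_19_2 lc_e_rc_19_4 lc_e_Cert_tree lc_e_rc_13_3 lc_e_rc_27_7 lc_e_rc_13_3 lc_e_rc_27_7 lc_e_rc_13_3 lc_e_rc_16_5 lc_e_Cert_tree lc_e_rc_9_3 lc_e_rc_18_1 lc_e_rc_13_3 lc_e_rc_18_1 lc_e_Cert_tree lc_e_rc_9_3 lc_e_Cert_tree lc_e_rc_18_1 lc_e_Cert_tree lc_e_rc_18_1 lc_e_rc_9_1) (@D3.rec (fun _ => (Cert rels S Gen.e)) lc_e_rc_19_2 lc_e_rc_13_3 lc_e_rc_18_1 lc_e_rc_16_1 lc_e_rc_16_5 lc_e_Cert_tree lc_e_rc_27_5 lc_e_rc_27_7 lc_e_rc_27_5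 lc_e_rc_9_3 lc_e_Cert_tree lc_e_Cert_tree lc_e_rc_18_1 lc_e_rc_18_1 lc_e_Cert_tree lc_e_Cert_tree lc_e_rc_18_1 lc_e_rc_4_3 lc_e_Cert_tree lc_e_rc_18_1 lc_e_rc_18_1 lc_e_rc_19_0 lc_e_rc_27_1 lc_e_rc_9_3 lc_e_rc_13_3 lc_e_Cert_tree lc_e_Cert_tree lc_e_rc_18_1 lc_e_rc_16_5 lc_e_rc_27_7 lc_e_rc_18_1 lc_e_Cert_tree lc_e_rc_4_3 lc_e_rc_18_1 lc_e_rc_18_1 lc_e_rc_9_3 lc_e_rc_16_5 lc_e_rc_18_1 lc_e_rc_13_1 lc_e_rc_19_4 lc_e_rc_18_1 lc_e_rc_18_1 lc_e_rc_27_7 lc_e_Cert_tree lc_e_rc_4_3 lc_e_rc_18_1 lc_e_rc_27_5 lc_e_rc_18_1 lc_e_rc_16_3 lc_e_rc_19_2 lc_e_rc_4_1 lc_e_rc_18_1 lc_e_rc_18_1 lc_e_rc_13_3 lc_e_rc_16_3 lc_e_rc_19_4 lc_e_Cert_tree lc_e_Cert_tree lc_e_rc_4_1 lc_e_rc_18_1 lc_e_rc_16_3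 lc_e_rc_9_3) (@D3.rec (fun _ => (Cert rels S Gen.e)) lc_e_rc_27_1 lc_e_rc_19_0 lc_e_rc_19_0 lc_e_Cert_tree lc_e_rc_18_1 lc_e_rc_13_1 lc_e_rc_16_3 lc_e_Cert_tree lc_e_Cert_tree lc_e_Cert_tree lc_e_rc_18_1 lc_e_Cert_tree lc_e_Cert_tree lc_e_rc_18_1 lc_e_Cert_tree lc_e_Cert_tree lc_e_rc_18_1 lc_e_rc_16_3 lc_e_rc_18_1 lc_e_Cert_tree lc_e_rc_18_1 lc_e_rc_18_1 lc_e_rc_27_5 lc_e_Cert_tree lc_e_rc_18_1 lc_e_rc_18_1 lc_e_rc_27_7 lc_e_rc_18_1 lc_e_rc_27_5 lc_e_Cert_tree lc_e_rc_18_1 lc_e_rc_16_3 lc_e_rc_4_1 lc_e_rc_27_5 lc_e_rc_18_1 lc_e_rc_13_3 lc_e_rc_4_1 lc_e_rc_19_4 lc_e_rc_18_1 lc_e_rc_18_1 lc_e_rc_27_1 lc_e_Cert_tree lc_e_rc_16_1 lc_e_rc_13_1 lc_e_rc_13_3 lc_e_Cert_tree lc_e_rc_18_1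 lc_e_Cert_tree lc_e_Cert_tree lc_e_rc_18_1 lc_e_rc_18_1 lc_e_rc_16_5 lc_e_rc_19_4 lc_e_Cert_tree lc_e_Cert_tree lc_e_Cert_tree lc_e_rc_18_1 lc_e_rc_16_3 lc_e_rc_13_1 lc_e_rc_27_5 lc_e_rc_19_0 lc_e_rc_19_4) (@D3.rec (fun _ => (Cert rels S Gen.e)) lc_e_rc_27_7 lc_e_Cert_tree lc_e_rc_27_5 lc_e_rc_18_1 lc_e_rc_18_1 lc_e_Cert_tree lc_e_rc_13_3 lc_e_rc_16_1 lc_e_rc_4_1 lc_e_Cert_tree lc_e_rc_27_7 lc_e_rc_18_1 lc_e_rc_4_3 lc_e_rc_27_5 lc_e_Cert_tree lc_e_Cert_tree lc_e_rc_18_1 lc_e_rc_18_1 lc_e_rc_18_1 lc_e_rc_16_1 lc_e_rc_19_4 lc_e_rc_9_3 lc_e_Cert_tree lc_e_Cert_tree lc_e_Cert_tree lc_e_rc_18_1 lc_e_rc_18_1 lc_e_rc_16_1 lc_e_rc_27_5 lc_e_rc_27_5 lc_e_Cert_tree lc_e_Cert_tree lc_e_Cert_tree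 lc_e_rc_18_1 lc_e_rc_18_1 lc_e_rc_16_1 lc_e_rc_16_5 lc_e_rc_18_1 lc_e_rc_9_3 lc_e_rc_13_3 lc_e_rc_9_3 lc_e_rc_18_1 lc_e_rc_27_5 lc_e_rc_18_1 lc_e_Cert_tree lc_e_rc_18_1 lc_e_Cert_tree lc_e_Cert_tree lc_e_rc_16_1 lc_e_rc_19_4 lc_e_rc_9_3 lc_e_rc_27_5 lc_e_rc_27_5 lc_e_Cert_tree lc_e_Cert_tree lc_e_Cert_tree lc_e_rc_18_1 lc_e_Cert_tree lc_e_Cert_tree lc_e_rc_13_3 lc_e_rc_16_3 lc_e_rc_13_3) (@D3.rec (fun _ => (Cert rels S Gen.e)) lc_e_rc_18_1 lc_e_rc_19_2 lc_e_Cert_tree lc_e_Cert_tree lc_e_rc_18_1 lc_e_rc_13_3 lc_e_rc_4_1 lc_e_rc_18_1 lc_e_rc_9_1 lc_e_rc_13_3 lc_e_Cert_tree lc_e_rc_16_5 lc_e_rc_4_3 lc_e_rc_18_1 lc_e_rc_13_3 lc_e_rc_9_3 lc_e_Cert_tree lc_e_rc_19_2 lc_e_rc_27_5 lc_e_rc_4_3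 lc_e_rc_27_5 lc_e_rc_18_1 lc_e_Cert_tree lc_e_rc_18_1 lc_e_rc_18_1 lc_e_rc_16_1 lc_e_rc_4_1 lc_e_Cert_tree lc_e_Cert_tree lc_e_rc_16_5 lc_e_rc_16_3 lc_e_rc_18_1 lc_e_rc_27_5 lc_e_rc_16_3 lc_e_Cert_tree lc_e_rc_18_1 lc_e_rc_18_1 lc_e_rc_19_2 lc_e_rc_19_4 lc_e_rc_4_3 lc_e_rc_27_5 lc_e_Cert_tree lc_e_rc_27_7 lc_e_rc_18_1 lc_e_rc_18_1 lc_e_Cert_tree lc_e_rc_18_1 lc_e_rc_27_5 lc_e_rc_18_1 lc_e_rc_16_1 lc_e_rc_19_4 lc_e_rc_9_3 lc_e_Cert_tree lc_e_Cert_tree lc_e_Cert_tree lc_e_rc_13_3 lc_e_rc_13_3 lc_e_rc_9_3 lc_e_Cert_tree lc_e_rc_13_3 lc_e_rc_27_7 lc_e_rc_16_5) (@D3.rec (fun _ => (Cert rels S Gen.e)) lc_e_rc_19_4 lc_e_rc_27_5 lc_e_Cert_tree lc_e_rc_4_3 lc_e_rc_9_3 lc_e_rc_27_5 lc_e_rc_4_3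 lc_e_Cert_tree lc_e_rc_27_1 lc_e_rc_4_3 lc_e_rc_16_5 lc_e_rc_4_3 lc_e_rc_19_4 lc_e_rc_19_4 lc_e_rc_13_3 lc_e_rc_27_7 lc_e_rc_9_3 lc_e_rc_18_1 lc_e_rc_19_2 lc_e_rc_4_3 lc_e_rc_16_3 lc_e_rc_19_2 lc_e_Cert_tree lc_e_Cert_tree lc_e_rc_18_1 lc_e_rc_13_3 lc_e_rc_13_1 lc_e_rc_9_3 lc_e_rc_9_3 lc_e_rc_27_1 lc_e_rc_18_1 lc_e_rc_18_1 lc_e_rc_18_1 lc_e_rc_18_1 lc_e_rc_16_1 lc_e_rc_19_4 lc_e_rc_13_3 lc_e_rc_13_3 lc_e_Cert_tree lc_e_Cert_tree lc_e_Cert_tree lc_e_rc_18_1 lc_e_rc_16_3 lc_e_rc_19_4 lc_e_rc_9_1 lc_e_Cert_tree lc_e_rc_18_1 lc_e_rc_16_5 lc_e_rc_27_5 lc_e_Cert_tree lc_e_rc_13_3 lc_e_Cert_tree lc_e_rc_18_1 lc_e_rc_16_1 lc_e_Cert_tree lc_e_rc_18_1 lc_e_Cert_tree lc_e_rc_18_1 lc_e_rc_18_1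 lc_e_Cert_tree lc_e_rc_16_1 lc_e_rc_19_4) (@D3.rec (fun _ => (Cert rels S Gen.e)) lc_e_Cert_tree lc_e_rc_18_1 lc_e_Cert_tree lc_e_rc_18_1 lc_e_Cert_tree lc_e_Cert_tree lc_e_Cert_tree lc_e_rc_18_1 lc_e_rc_19_4 lc_e_rc_16_3 lc_e_rc_13_3 lc_e_rc_16_3 lc_e_rc_9_3 lc_e_rc_13_1 lc_e_rc_16_5 lc_e_rc_27_7 lc_e_rc_18_1 lc_e_rc_13_3 lc_e_Cert_tree lc_e_rc_27_7 lc_e_rc_18_1 lc_e_rc_13_1 lc_e_rc_13_1 lc_e_rc_4_3 lc_e_rc_13_3 lc_e_rc_18_1 lc_e_rc_13_3 lc_e_rc_16_5 lc_e_rc_18_1 lc_e_rc_18_1 lc_e_rc_18_1 lc_e_rc_4_3 lc_e_rc_27_1 lc_e_rc_18_1 lc_e_rc_27_5 lc_e_rc_27_7 lc_e_rc_18_1 lc_e_rc_18_1 lc_e_rc_18_1 lc_e_rc_16_1 lc_e_rc_19_4 lc_e_rc_13_3 lc_e_Cert_tree lc_e_Cert_tree lc_e_rc_4_3 lc_e_Cert_tree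 lc_e_rc_27_7 lc_e_Cert_tree lc_e_rc_18_1 lc_e_rc_16_3 lc_e_rc_27_5 lc_e_rc_27_7 lc_e_rc_18_1 lc_e_rc_9_1 lc_e_rc_13_1 lc_e_rc_18_1 lc_e_rc_19_4 lc_e_Cert_tree lc_e_rc_18_1 lc_e_rc_18_1 lc_e_rc_9_3 lc_e_rc_16_1) (@D3.rec (fun _ => (Cert rels S Gen.e)) lc_e_rc_19_4 lc_e_Cert_tree lc_e_rc_18_1 lc_e_rc_13_1 lc_e_Cert_tree lc_e_rc_27_5 lc_e_rc_27_7 lc_e_rc_16_3 lc_e_rc_18_1 lc_e_Cert_tree lc_e_rc_18_1 lc_e_rc_9_3 lc_e_Cert_tree lc_e_rc_4_3 lc_e_rc_9_3 lc_e_rc_13_3 lc_e_rc_18_1 lc_e_Cert_tree lc_e_rc_18_1 lc_e_rc_9_3 lc_e_rc_27_1 lc_e_rc_16_1 lc_e_rc_4_1 lc_e_rc_9_3 lc_e_rc_18_1 lc_e_rc_27_5 lc_e_rc_13_3 lc_e_Cert_tree lc_e_rc_13_3 lc_e_rc_16_5 lc_e_Cert_tree lc_e_rc_4_3 lc_e_Cert_tree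 lc_e_rc_18_1 lc_e_rc_16_3 lc_e_rc_19_2 lc_e_rc_18_1 lc_e_rc_27_5 lc_e_rc_18_1 lc_e_rc_9_3 lc_e_Cert_tree lc_e_rc_27_5 lc_e_Cert_tree lc_e_rc_18_1 lc_e_Cert_tree lc_e_rc_16_1 lc_e_rc_16_5 lc_e_rc_18_1 lc_e_rc_9_3 lc_e_Cert_tree lc_e_rc_19_4 lc_e_rc_4_3 lc_e_rc_27_5 lc_e_rc_18_1 lc_e_rc_18_1 lc_e_Cert_tree lc_e_rc_18_1 lc_e_rc_27_5 lc_e_rc_19_4 lc_e_Cert_tree lc_e_rc_4_3 lc_e_Cert_tree) (@D3.rec (fun _ => (Cert rels S Gen.e)) lc_e_rc_18_1 lc_e_rc_9_3 lc_e_Cert_tree lc_e_rc_16_5 lc_e_rc_9_3 lc_e_rc_9_3 lc_e_Cert_tree lc_e_rc_9_3 lc_e_rc_4_3 lc_e_Cert_tree lc_e_rc_27_1 lc_e_Cert_tree lc_e_rc_18_1 lc_e_rc_27_5 lc_e_rc_18_1 lc_e_rc_16_1 lc_e_rc_13_3 lc_e_rc_13_3 lc_e_rc_13_3 lc_e_rc_27_7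 lc_e_rc_9_1 lc_e_rc_13_1 lc_e_rc_27_7 lc_e_rc_18_1 lc_e_rc_9_1 lc_e_Cert_tree lc_e_rc_18_1 lc_e_rc_16_5 lc_e_rc_13_3 lc_e_rc_19_0 lc_e_rc_18_1 lc_e_rc_18_1 lc_e_rc_27_1 lc_e_rc_18_1 lc_e_rc_18_1 lc_e_Cert_tree lc_e_rc_9_3 lc_e_Cert_tree lc_e_Cert_tree lc_e_rc_16_3 lc_e_rc_18_1 lc_e_rc_18_1 lc_e_Cert_tree lc_e_Cert_tree lc_e_rc_27_5 lc_e_rc_16_1 lc_e_rc_16_3 lc_e_rc_18_1 lc_e_Cert_tree lc_e_rc_13_3 lc_e_rc_4_3 lc_e_rc_18_1 lc_e_Cert_tree lc_e_rc_18_1 lc_e_rc_16_3 lc_e_rc_19_2 lc_e_rc_27_5 lc_e_rc_13_3 lc_e_Cert_tree lc_e_rc_16_3 lc_e_rc_18_1 lc_e_rc_18_1) (@D3.rec (fun _ => (Cert rels S Gen.e)) lc_e_rc_13_3 lc_e_rc_4_1 lc_e_rc_9_3 lc_e_rc_19_2 lc_e_Cert_tree lc_e_rc_27_7 lc_e_rc_18_1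 lc_e_rc_13_3 lc_e_rc_18_1 lc_e_rc_16_3 lc_e_rc_18_1 lc_e_rc_13_1 lc_e_rc_16_1 lc_e_rc_19_4 lc_e_rc_19_2 lc_e_Cert_tree lc_e_rc_27_5 lc_e_rc_19_0 lc_e_rc_18_1 lc_e_rc_18_1 lc_e_rc_27_1 lc_e_rc_4_1 lc_e_rc_27_5 lc_e_rc_27_5 lc_e_rc_18_1 lc_e_rc_27_1 lc_e_rc_18_1 lc_e_rc_18_1 lc_e_rc_9_3 lc_e_rc_27_5 lc_e_rc_27_1 lc_e_rc_18_1 lc_e_rc_27_5 lc_e_rc_18_1 lc_e_rc_4_3 lc_e_rc_18_1 lc_e_rc_18_1 lc_e_rc_18_1 lc_e_rc_19_4 lc_e_rc_9_3 lc_e_Cert_tree lc_e_rc_18_1 lc_e_Cert_tree lc_e_rc_13_3 lc_e_rc_18_1 lc_e_rc_19_2 lc_e_Cert_tree lc_e_rc_18_1 lc_e_rc_13_1 lc_e_rc_18_1 lc_e_rc_18_1 lc_e_rc_13_3 lc_e_rc_18_1 lc_e_rc_27_5 lc_e_rc_4_1 lc_e_Cert_tree lc_e_rc_18_1 lc_e_rc_18_1 lc_e_rc_13_3 lc_e_rc_13_3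 lc_e_rc_27_7 lc_e_rc_13_3) (@D3.rec (fun _ => (Cert rels S Gen.e)) lc_e_rc_13_3 lc_e_rc_27_1 lc_e_rc_9_3 lc_e_rc_13_3 lc_e_rc_27_5 lc_e_rc_13_3 lc_e_rc_13_3 lc_e_rc_9_1 lc_e_rc_13_3 lc_e_rc_13_3 lc_e_rc_18_1 lc_e_rc_9_1 lc_e_rc_18_1 lc_e_rc_18_1 lc_e_rc_16_1 lc_e_rc_27_1 lc_e_rc_18_1 lc_e_rc_9_3 lc_e_rc_4_3 lc_e_Cert_tree lc_e_rc_18_1 lc_e_rc_9_1 lc_e_rc_16_5 lc_e_rc_18_1 lc_e_rc_18_1 lc_e_rc_13_1 lc_e_rc_16_1 lc_e_rc_18_1 lc_e_rc_19_4 lc_e_rc_27_1 lc_e_rc_9_3 lc_e_rc_16_5 lc_e_rc_13_3 lc_e_rc_19_2 lc_e_rc_13_3 lc_e_rc_27_5 lc_e_rc_4_1 lc_e_rc_9_3 lc_e_Cert_tree lc_e_rc_18_1 lc_e_rc_18_1 lc_e_rc_16_1 lc_e_rc_18_1 lc_e_rc_16_3 lc_e_rc_27_5 lc_e_rc_9_3 lc_e_rc_16_5 lc_e_rc_13_3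 lc_e_rc_16_3 lc_e_rc_18_1 lc_e_rc_16_5 lc_e_rc_4_3 lc_e_rc_13_3 lc_e_rc_19_0 lc_e_rc_19_0 lc_e_rc_13_3 lc_e_rc_9_3 lc_e_rc_9_3 lc_e_Cert_tree lc_e_Cert_tree lc_e_rc_18_1 lc_e_rc_4_3) (@D3.rec (fun _ => (Cert rels S Gen.e)) lc_e_Cert_tree lc_e_rc_18_1 lc_e_Cert_tree lc_e_rc_18_1 lc_e_rc_18_1 lc_e_rc_9_3 lc_e_Cert_tree lc_e_Cert_tree lc_e_rc_18_1 lc_e_Cert_tree lc_e_rc_18_1 lc_e_rc_16_1 lc_e_Cert_tree lc_e_Cert_tree lc_e_rc_18_1 lc_e_rc_4_3 lc_e_rc_18_1 lc_e_rc_18_1 lc_e_rc_13_1 lc_e_Cert_tree lc_e_rc_16_5 lc_e_rc_9_3 lc_e_rc_18_1 lc_e_rc_16_5 lc_e_rc_16_3 lc_e_rc_16_3 lc_e_rc_9_1 lc_e_rc_18_1 lc_e_Cert_tree lc_e_rc_4_1 lc_e_rc_4_1 lc_e_rc_18_1 lc_e_rc_19_4 lc_e_Cert_tree lc_e_rc_18_1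 lc_e_rc_16_3 lc_e_rc_18_1 lc_e_rc_18_1 lc_e_rc_18_1 lc_e_Cert_tree lc_e_rc_16_5 lc_e_rc_18_1 lc_e_rc_18_1 lc_e_rc_19_4 lc_e_rc_18_1 lc_e_rc_19_4 lc_e_Cert_tree lc_e_Cert_tree lc_e_rc_4_3 lc_e_rc_13_3 lc_e_rc_18_1 lc_e_rc_18_1 lc_e_rc_9_3 lc_e_rc_27_1 lc_e_rc_19_4 lc_e_Cert_tree lc_e_rc_19_4 lc_e_Cert_tree lc_e_rc_4_3 lc_e_rc_4_3 lc_e_rc_18_1 lc_e_rc_19_4) (@D3.rec (fun _ => (Cert rels S Gen.e)) lc_e_Cert_tree lc_e_rc_19_4 lc_e_rc_9_3 lc_e_rc_27_7 lc_e_rc_9_1 lc_e_rc_9_1 lc_e_rc_18_1 lc_e_rc_18_1 lc_e_rc_13_3 lc_e_rc_18_1 lc_e_rc_27_5 lc_e_rc_19_2 lc_e_Cert_tree lc_e_rc_16_5 lc_e_rc_4_3 lc_e_Cert_tree lc_e_rc_18_1 lc_e_Cert_tree lc_e_rc_18_1 lc_e_rc_27_5 lc_e_rc_19_2 lc_e_rc_18_1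 lc_e_rc_16_1 lc_e_rc_18_1 lc_e_Cert_tree lc_e_rc_18_1 lc_e_rc_18_1 lc_e_rc_19_4 lc_e_rc_9_1 lc_e_rc_18_1 lc_e_Cert_tree lc_e_rc_19_4 lc_e_rc_19_4 lc_e_rc_18_1 lc_e_Cert_tree lc_e_rc_27_5 lc_e_rc_27_7 lc_e_Cert_tree lc_e_rc_18_1 lc_e_rc_16_1 lc_e_Cert_tree lc_e_rc_16_3 lc_e_rc_18_1 lc_e_Cert_tree lc_e_rc_19_4 lc_e_rc_4_1 lc_e_Cert_tree lc_e_Cert_tree lc_e_rc_18_1 lc_e_rc_18_1 lc_e_rc_19_2 lc_e_rc_16_5 lc_e_rc_18_1 lc_e_rc_18_1 lc_e_rc_27_5 lc_e_rc_27_5 lc_e_Cert_tree lc_e_rc_18_1 lc_e_rc_9_3 lc_e_Cert_tree lc_e_Cert_tree lc_e_rc_16_3) (@D3.rec (fun _ => (Cert rels S Gen.e)) lc_e_rc_18_1 lc_e_rc_18_1 lc_e_rc_27_5 lc_e_rc_18_1 lc_e_rc_16_5 lc_e_Cert_tree lc_e_Cert_tree lc_e_Cert_tree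 lc_e_rc_27_7 lc_e_rc_18_1 lc_e_Cert_tree lc_e_Cert_tree lc_e_Cert_tree lc_e_rc_18_1 lc_e_Cert_tree lc_e_rc_19_2 lc_e_rc_4_3 lc_e_Cert_tree lc_e_rc_18_1 lc_e_rc_19_4 lc_e_rc_9_3 lc_e_rc_16_5 lc_e_rc_18_1 lc_e_Cert_tree lc_e_rc_16_5 lc_e_rc_16_5 lc_e_rc_18_1 lc_e_rc_16_3 lc_e_rc_27_5 lc_e_rc_18_1 lc_e_rc_27_5 lc_e_rc_18_1 lc_e_Cert_tree lc_e_rc_27_5 lc_e_rc_9_3 lc_e_Cert_tree lc_e_rc_18_1 lc_e_rc_27_5 lc_e_rc_27_1 lc_e_rc_16_1 lc_e_rc_19_2 lc_e_rc_18_1 lc_e_rc_13_1 lc_e_rc_18_1 lc_e_Cert_tree lc_e_rc_9_1 lc_e_rc_18_1 lc_e_rc_18_1 lc_e_rc_18_1 lc_e_rc_18_1 lc_e_rc_16_1 lc_e_rc_13_1 lc_e_rc_27_5 lc_e_rc_13_3 lc_e_Cert_tree lc_e_Cert_tree lc_e_Cert_tree lc_e_Cert_tree lc_e_rc_18_1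 lc_e_rc_13_3 lc_e_rc_19_4 lc_e_rc_16_5) (@D3.rec (fun _ => (Cert rels S Gen.e)) lc_e_rc_13_3 lc_e_rc_18_1 lc_e_rc_13_3 lc_e_rc_27_7 lc_e_rc_13_3 lc_e_rc_18_1 lc_e_rc_9_3 lc_e_rc_27_1 lc_e_rc_19_4 lc_e_rc_16_3 lc_e_Cert_tree lc_e_Cert_tree lc_e_rc_18_1 lc_e_Cert_tree lc_e_rc_13_1 lc_e_rc_18_1 lc_e_rc_9_3 lc_e_rc_13_3 lc_e_Cert_tree lc_e_Cert_tree lc_e_rc_18_1 lc_e_Cert_tree lc_e_rc_13_3 lc_e_rc_13_3 lc_e_Cert_tree lc_e_Cert_tree lc_e_rc_18_1 lc_e_Cert_tree lc_e_rc_13_1 lc_e_rc_27_5 lc_e_Cert_tree lc_e_Cert_tree lc_e_rc_27_5 lc_e_rc_18_1 lc_e_rc_18_1 lc_e_rc_18_1 lc_e_Cert_tree lc_e_rc_16_1 lc_e_rc_13_1 lc_e_rc_13_1 lc_e_rc_16_3 lc_e_Cert_tree lc_e_Cert_tree lc_e_rc_18_1 lc_e_rc_16_5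 lc_e_Cert_tree lc_e_rc_18_1 lc_e_rc_18_1 lc_e_rc_27_5 lc_e_rc_18_1 lc_e_rc_18_1 lc_e_Cert_tree lc_e_rc_9_1 lc_e_rc_9_1 lc_e_rc_13_1 lc_e_rc_16_1 lc_e_rc_19_2 lc_e_Cert_tree lc_e_rc_18_1 lc_e_Cert_tree lc_e_Cert_tree lc_e_rc_13_3) (@D3.rec (fun _ => (Cert rels S Gen.e)) lc_e_rc_27_1 lc_e_rc_19_4 lc_e_rc_9_3 lc_e_rc_16_3 lc_e_rc_19_4 lc_e_Cert_tree lc_e_rc_13_3 lc_e_rc_18_1 lc_e_rc_18_1 lc_e_Cert_tree lc_e_Cert_tree lc_e_rc_13_3 lc_e_rc_13_3 lc_e_Cert_tree lc_e_rc_18_1 lc_e_Cert_tree lc_e_Cert_tree lc_e_rc_18_1 lc_e_Cert_tree lc_e_rc_18_1 lc_e_rc_27_1 lc_e_rc_27_7 lc_e_Cert_tree lc_e_rc_18_1 lc_e_Cert_tree lc_e_Cert_tree lc_e_rc_18_1 lc_e_rc_4_1 lc_e_rc_16_1 lc_e_rc_13_3 lc_e_rc_18_1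 lc_e_rc_13_3 lc_e_Cert_tree lc_e_rc_4_3 lc_e_rc_27_7 lc_e_rc_18_1 lc_e_Cert_tree lc_e_rc_18_1 lc_e_Cert_tree lc_e_rc_18_1 lc_e_rc_9_1 lc_e_rc_16_1 lc_e_rc_19_2 lc_e_rc_18_1 lc_e_Cert_tree lc_e_rc_18_1 lc_e_rc_18_1 lc_e_rc_19_4 lc_e_rc_18_1 lc_e_Cert_tree lc_e_Cert_tree lc_e_rc_19_2 lc_e_Cert_tree lc_e_Cert_tree lc_e_rc_16_3 lc_e_rc_18_1 lc_e_Cert_tree lc_e_Cert_tree lc_e_rc_18_1 lc_e_Cert_tree lc_e_rc_4_3 lc_e_rc_13_3) (@D3.rec (fun _ => (Cert rels S Gen.e)) lc_e_rc_18_1 lc_e_rc_13_3 lc_e_Cert_tree lc_e_rc_9_3 lc_e_rc_27_1 lc_e_rc_9_1 lc_e_rc_18_1 lc_e_rc_18_1 lc_e_rc_27_5 lc_e_rc_13_1 lc_e_rc_27_1 lc_e_rc_13_3 lc_e_rc_13_3 lc_e_rc_13_3 lc_e_Cert_tree lc_e_rc_18_1 lc_e_rc_19_0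 lc_e_rc_19_0 lc_e_rc_18_1 lc_e_rc_18_1 lc_e_rc_18_1 lc_e_rc_18_1 lc_e_rc_16_1 lc_e_rc_18_1 lc_e_rc_13_3 lc_e_rc_18_1 lc_e_rc_18_1 lc_e_Cert_tree lc_e_rc_18_1 lc_e_rc_19_0 lc_e_rc_9_1 lc_e_rc_18_1 lc_e_rc_18_1 lc_e_rc_19_4 lc_e_rc_4_1 lc_e_rc_4_3 lc_e_Cert_tree lc_e_rc_4_1 lc_e_Cert_tree lc_e_rc_18_1 lc_e_rc_18_1 lc_e_rc_27_5 lc_e_rc_19_4 lc_e_Cert_tree lc_e_Cert_tree lc_e_Cert_tree lc_e_rc_19_0 lc_e_rc_9_1 lc_e_rc_18_1 lc_e_rc_4_3 lc_e_rc_4_3 lc_e_rc_13_3 lc_e_rc_9_1 lc_e_Cert_tree lc_e_Cert_tree lc_e_rc_27_5 lc_e_rc_27_7 lc_e_rc_18_1 lc_e_rc_27_1 lc_e_rc_18_1 lc_e_rc_18_1 lc_e_rc_27_7) (@D3.rec (fun _ => (Cert rels S Gen.e)) lc_e_rc_18_1 lc_e_rc_4_3 lc_e_Cert_tree lc_e_rc_16_3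 lc_e_rc_18_1 lc_e_rc_18_1 lc_e_Cert_tree lc_e_rc_13_3 lc_e_rc_4_3 lc_e_rc_13_3 lc_e_rc_18_1 lc_e_rc_19_4 lc_e_Cert_tree lc_e_rc_18_1 lc_e_rc_18_1 lc_e_rc_18_1 lc_e_rc_18_1 lc_e_Cert_tree lc_e_rc_13_3 lc_e_Cert_tree lc_e_rc_18_1 lc_e_Cert_tree lc_e_Cert_tree lc_e_rc_18_1 lc_e_rc_18_1 lc_e_rc_16_1 lc_e_rc_19_4 lc_e_rc_18_1 lc_e_Cert_tree lc_e_Cert_tree lc_e_Cert_tree lc_e_Cert_tree lc_e_Cert_tree lc_e_Cert_tree lc_e_rc_18_1 lc_e_rc_4_3 lc_e_rc_13_3 lc_e_rc_9_3 lc_e_rc_27_7 lc_e_rc_18_1 lc_e_Cert_tree lc_e_rc_18_1 lc_e_rc_9_1 lc_e_rc_18_1 lc_e_rc_16_3 lc_e_rc_9_3 lc_e_rc_27_1 lc_e_rc_19_4 lc_e_rc_13_3 lc_e_rc_27_5 lc_e_rc_9_1 lc_e_rc_4_1 lc_e_Cert_tree lc_e_rc_18_1 lc_e_rc_18_1 lc_e_rc_18_1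 lc_e_rc_19_4 lc_e_rc_9_3 lc_e_rc_27_7 lc_e_rc_9_3 lc_e_Cert_tree lc_e_rc_9_1) (@D3.rec (fun _ => (Cert rels S Gen.e)) lc_e_rc_18_1 lc_e_rc_18_1 lc_e_rc_13_3 lc_e_rc_13_3 lc_e_rc_27_7 lc_e_rc_9_3 lc_e_rc_19_4 lc_e_Cert_tree lc_e_rc_18_1 lc_e_Cert_tree lc_e_rc_27_5 lc_e_rc_27_7 lc_e_rc_27_7 lc_e_rc_18_1 lc_e_rc_13_1 lc_e_Cert_tree lc_e_rc_19_4 lc_e_rc_13_3 lc_e_rc_4_3 lc_e_rc_9_3 lc_e_rc_9_3 lc_e_Cert_tree lc_e_rc_18_1 lc_e_rc_18_1 lc_e_rc_19_2 lc_e_rc_27_5 lc_e_rc_16_1 lc_e_rc_19_4 lc_e_rc_13_3 lc_e_Cert_tree lc_e_rc_16_3 lc_e_Cert_tree lc_e_rc_4_3 lc_e_rc_18_1 lc_e_rc_27_1 lc_e_Cert_tree lc_e_Cert_tree lc_e_Cert_tree lc_e_rc_18_1 lc_e_rc_18_1 lc_e_rc_19_2 lc_e_rc_19_4 lc_e_Cert_tree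 lc_e_Cert_tree lc_e_rc_16_5 lc_e_rc_16_3 lc_e_rc_18_1 lc_e_Cert_tree lc_e_rc_9_1 lc_e_Cert_tree lc_e_Cert_tree lc_e_rc_18_1 lc_e_rc_19_2 lc_e_Cert_tree lc_e_Cert_tree lc_e_rc_13_1 lc_e_rc_18_1 lc_e_Cert_tree lc_e_rc_18_1 lc_e_rc_9_1 lc_e_rc_18_1 lc_e_Cert_tree) (@D3.rec (fun _ => (Cert rels S Gen.e)) lc_e_rc_4_3 lc_e_rc_19_4 lc_e_Cert_tree lc_e_rc_18_1 lc_e_rc_27_7 lc_e_rc_18_1 lc_e_rc_18_1 lc_e_Cert_tree lc_e_rc_13_1 lc_e_rc_13_3 lc_e_rc_13_3 lc_e_rc_13_3 lc_e_rc_27_1 lc_e_rc_16_3 lc_e_rc_18_1 lc_e_rc_18_1 lc_e_rc_4_1 lc_e_rc_27_5 lc_e_rc_4_3 lc_e_Cert_tree lc_e_Cert_tree lc_e_rc_18_1 lc_e_rc_18_1 lc_e_rc_19_2 lc_e_Cert_tree lc_e_Cert_tree lc_e_Cert_tree lc_e_rc_18_1 lc_e_rc_18_1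 lc_e_rc_16_1 lc_e_Cert_tree lc_e_Cert_tree lc_e_Cert_tree lc_e_rc_18_1 lc_e_Cert_tree lc_e_rc_13_1 lc_e_rc_16_3 lc_e_rc_18_1 lc_e_Cert_tree lc_e_rc_18_1 lc_e_Cert_tree lc_e_Cert_tree lc_e_rc_9_1 lc_e_rc_18_1 lc_e_rc_18_1 lc_e_rc_18_1 lc_e_rc_16_1 lc_e_rc_13_1 lc_e_Cert_tree lc_e_rc_18_1 lc_e_rc_27_7 lc_e_rc_18_1 lc_e_Cert_tree lc_e_rc_18_1 lc_e_Cert_tree lc_e_rc_18_1 lc_e_rc_19_2 lc_e_rc_9_3 lc_e_rc_18_1 lc_e_rc_27_1 lc_e_rc_13_3 lc_e_rc_9_3) (@D3.rec (fun _ => (Cert rels S Gen.e)) lc_e_Cert_tree lc_e_rc_27_5 lc_e_rc_16_5 lc_e_rc_27_1 lc_e_rc_18_1 lc_e_rc_18_1 lc_e_rc_16_1 lc_e_Cert_tree lc_e_Cert_tree lc_e_rc_19_4 lc_e_Cert_tree lc_e_rc_16_5 lc_e_Cert_tree lc_e_rc_18_1 lc_e_rc_9_3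 lc_e_Cert_tree lc_e_rc_18_1 lc_e_rc_4_1 lc_e_rc_18_1 lc_e_Cert_tree lc_e_Cert_tree lc_e_Cert_tree lc_e_rc_18_1 lc_e_rc_9_3 lc_e_rc_16_1 lc_e_rc_16_3 lc_e_Cert_tree lc_e_rc_9_3 lc_e_rc_13_1 lc_e_rc_19_0 lc_e_rc_13_3 lc_e_rc_18_1 lc_e_rc_9_3 lc_e_Cert_tree lc_e_Cert_tree lc_e_rc_19_2 lc_e_rc_18_1 lc_e_rc_16_3 lc_e_rc_27_7 lc_e_rc_9_1 lc_e_rc_4_3 lc_e_rc_9_3 lc_e_rc_18_1 lc_e_rc_19_2 lc_e_rc_19_4 lc_e_rc_27_5 lc_e_rc_18_1 lc_e_rc_18_1 lc_e_Cert_tree lc_e_rc_9_3 lc_e_rc_18_1 lc_e_Cert_tree lc_e_Cert_tree lc_e_rc_16_1 lc_e_rc_19_4 lc_e_rc_4_3 lc_e_rc_18_1 lc_e_Cert_tree lc_e_rc_18_1 lc_e_rc_18_1 lc_e_rc_16_5 lc_e_rc_9_1)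
def ce_e_16 : D2 → D3 → (Cert rels S Gen.e) := @D2.rec (fun _ => D3 → (Cert rels S Gen.e)) (@D3.rec (fun _ => (Cert rels S Gen.e)) lc_e_rc_27_5 lc_e_Cert_tree lc_e_rc_18_1 lc_e_rc_18_1 lc_e_rc_27_7 lc_e_rc_27_1 lc_e_rc_18_1 lc_e_rc_16_1 lc_e_rc_18_1 lc_e_rc_13_3 lc_e_Cert_tree lc_e_rc_18_1 lc_e_rc_18_1 lc_e_rc_16_1 lc_e_rc_13_1 lc_e_rc_18_1 lc_e_rc_18_1 lc_e_rc_18_1 lc_e_rc_18_1 lc_e_Cert_tree lc_e_Cert_tree lc_e_rc_9_3 lc_e_rc_9_1 lc_e_rc_18_1 lc_e_rc_16_1 lc_e_rc_18_1 lc_e_Cert_tree lc_e_rc_16_1 lc_e_rc_27_5 lc_e_Cert_tree lc_e_rc_9_1 lc_e_rc_16_3 lc_e_rc_18_1 lc_e_rc_18_1 lc_e_rc_19_2 lc_e_rc_19_0 lc_e_rc_16_3 lc_e_rc_16_3 lc_e_rc_18_1 lc_e_rc_9_3 lc_e_Cert_tree lc_e_rc_13_1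 lc_e_Cert_tree lc_e_rc_18_1 lc_e_rc_16_3 lc_e_rc_19_4 lc_e_Cert_tree lc_e_Cert_tree lc_e_Cert_tree lc_e_rc_18_1 lc_e_rc_27_7 lc_e_rc_16_5 lc_e_Cert_tree lc_e_rc_4_1 lc_e_Cert_tree lc_e_rc_18_1 lc_e_Cert_tree lc_e_rc_13_3 lc_e_rc_16_3 lc_e_rc_18_1 lc_e_rc_4_3 lc_e_Cert_tree) (@D3.rec (fun _ => (Cert rels S Gen.e)) lc_e_Cert_tree lc_e_rc_18_1 lc_e_Cert_tree lc_e_rc_9_3 lc_e_rc_16_1 lc_e_rc_19_4 lc_e_rc_18_1 lc_e_rc_18_1 lc_e_rc_19_4 lc_e_Cert_tree lc_e_rc_18_1 lc_e_rc_18_1 lc_e_rc_13_3 lc_e_rc_27_1 lc_e_rc_13_3 lc_e_rc_4_3 lc_e_Cert_tree lc_e_Cert_tree lc_e_rc_18_1 lc_e_rc_13_1 lc_e_Cert_tree lc_e_rc_18_1 lc_e_rc_13_3 lc_e_rc_9_3 lc_e_rc_27_7 lc_e_rc_18_1 lc_e_rc_4_3 lc_e_rc_27_1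 lc_e_rc_18_1 lc_e_Cert_tree lc_e_Cert_tree lc_e_rc_9_3 lc_e_rc_9_3 lc_e_rc_18_1 lc_e_rc_27_5 lc_e_rc_19_4 lc_e_rc_18_1 lc_e_rc_13_3 lc_e_rc_19_2 lc_e_rc_16_5 lc_e_rc_27_5 lc_e_rc_16_5 lc_e_rc_9_3 lc_e_rc_18_1 lc_e_rc_19_4 lc_e_rc_18_1 lc_e_rc_19_4 lc_e_rc_4_3 lc_e_rc_16_5 lc_e_rc_27_5 lc_e_rc_27_5 lc_e_Cert_tree lc_e_rc_18_1 lc_e_rc_27_5 lc_e_Cert_tree lc_e_rc_9_3 lc_e_Cert_tree lc_e_Cert_tree lc_e_rc_18_1 lc_e_rc_9_3 lc_e_Cert_tree lc_e_rc_27_7) (@D3.rec (fun _ => (Cert rels S Gen.e)) lc_e_Cert_tree lc_e_rc_19_4 lc_e_rc_19_4 lc_e_rc_18_1 lc_e_Cert_tree lc_e_rc_27_5 lc_e_rc_16_3 lc_e_rc_19_4 lc_e_rc_19_4 lc_e_Cert_tree lc_e_rc_19_0 lc_e_rc_18_1 lc_e_rc_9_3 lc_e_rc_13_3 lc_e_rc_27_5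 lc_e_rc_18_1 lc_e_rc_16_5 lc_e_rc_13_3 lc_e_rc_16_3 lc_e_Cert_tree lc_e_rc_18_1 lc_e_Cert_tree lc_e_rc_18_1 lc_e_rc_16_3 lc_e_rc_9_3 lc_e_Cert_tree lc_e_Cert_tree lc_e_rc_18_1 lc_e_rc_18_1 lc_e_rc_27_5 lc_e_rc_18_1 lc_e_rc_27_5 lc_e_Cert_tree lc_e_rc_18_1 lc_e_rc_18_1 lc_e_rc_27_7 lc_e_rc_18_1 lc_e_rc_18_1 lc_e_rc_4_3 lc_e_Cert_tree lc_e_rc_16_1 lc_e_rc_13_1 lc_e_rc_18_1 lc_e_rc_18_1 lc_e_rc_16_1 lc_e_rc_13_3 lc_e_rc_13_3 lc_e_rc_9_1 lc_e_rc_18_1 lc_e_rc_18_1 lc_e_Cert_tree lc_e_rc_13_3 lc_e_rc_16_3 lc_e_rc_13_3 lc_e_rc_13_3 lc_e_rc_27_7 lc_e_rc_13_3 lc_e_rc_18_1 lc_e_rc_18_1 lc_e_rc_16_5 lc_e_rc_18_1 lc_e_rc_13_1) (@D3.rec (fun _ => (Cert rels S Gen.e)) lc_e_rc_13_3 lc_e_Cert_tree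 lc_e_Cert_tree lc_e_rc_19_4 lc_e_rc_19_2 lc_e_rc_9_3 lc_e_Cert_tree lc_e_rc_16_5 lc_e_rc_18_1 lc_e_Cert_tree lc_e_rc_18_1 lc_e_Cert_tree lc_e_rc_13_3 lc_e_rc_18_1 lc_e_rc_13_1 lc_e_rc_18_1 lc_e_rc_27_5 lc_e_rc_18_1 lc_e_Cert_tree lc_e_rc_13_3 lc_e_rc_16_1 lc_e_rc_19_4 lc_e_rc_9_3 lc_e_Cert_tree lc_e_Cert_tree lc_e_rc_27_7 lc_e_rc_18_1 lc_e_rc_16_3 lc_e_Cert_tree lc_e_rc_16_5 lc_e_rc_27_5 lc_e_rc_9_3 lc_e_Cert_tree lc_e_rc_27_1 lc_e_rc_18_1 lc_e_Cert_tree lc_e_rc_18_1 lc_e_rc_27_7 lc_e_rc_18_1 lc_e_rc_18_1 lc_e_rc_4_3 lc_e_rc_16_5 lc_e_rc_13_1 lc_e_rc_13_3 lc_e_rc_27_5 lc_e_rc_13_3 lc_e_rc_13_3 lc_e_rc_18_1 lc_e_rc_18_1 lc_e_rc_16_5 lc_e_rc_13_3 lc_e_rc_19_2 lc_e_rc_19_2 lc_e_rc_13_3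 lc_e_rc_16_5 lc_e_rc_4_3 lc_e_rc_18_1 lc_e_rc_4_3 lc_e_Cert_tree lc_e_rc_13_3 lc_e_rc_19_4 lc_e_Cert_tree) (@D3.rec (fun _ => (Cert rels S Gen.e)) lc_e_rc_16_3 lc_e_rc_18_1 lc_e_rc_18_1 lc_e_rc_19_4 lc_e_rc_13_3 lc_e_rc_16_5 lc_e_rc_18_1 lc_e_rc_27_5 lc_e_Cert_tree lc_e_rc_18_1 lc_e_rc_18_1 lc_e_rc_27_5 lc_e_rc_13_3 lc_e_Cert_tree lc_e_rc_18_1 lc_e_rc_18_1 lc_e_rc_27_5 lc_e_rc_16_1 lc_e_rc_27_5 lc_e_rc_19_4 lc_e_Cert_tree lc_e_rc_27_7 lc_e_rc_18_1 lc_e_rc_18_1 lc_e_rc_13_1 lc_e_rc_13_1 lc_e_rc_13_3 lc_e_rc_19_4 lc_e_rc_27_7 lc_e_rc_27_5 lc_e_rc_19_2 lc_e_rc_16_5 lc_e_Cert_tree lc_e_rc_18_1 lc_e_rc_16_3 lc_e_rc_27_5 lc_e_rc_27_1 lc_e_Cert_tree lc_e_rc_18_1 lc_e_rc_27_5 lc_e_rc_27_7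 lc_e_rc_9_3 lc_e_rc_13_3 lc_e_Cert_tree lc_e_rc_18_1 lc_e_rc_27_5 lc_e_rc_18_1 lc_e_Cert_tree lc_e_rc_18_1 lc_e_rc_16_5 lc_e_Cert_tree lc_e_rc_16_1 lc_e_rc_19_4 lc_e_rc_16_5 lc_e_rc_27_5 lc_e_rc_18_1 lc_e_rc_16_5 lc_e_rc_27_1 lc_e_rc_9_3 lc_e_rc_13_3 lc_e_rc_19_4 lc_e_rc_13_3) (@D3.rec (fun _ => (Cert rels S Gen.e)) lc_e_Cert_tree lc_e_rc_18_1 lc_e_rc_16_5 lc_e_rc_27_5 lc_e_rc_18_1 lc_e_rc_18_1 lc_e_rc_13_1 lc_e_rc_16_3 lc_e_rc_19_4 lc_e_rc_13_3 lc_e_rc_16_3 lc_e_rc_13_1 lc_e_rc_18_1 lc_e_Cert_tree lc_e_Cert_tree lc_e_rc_18_1 lc_e_rc_4_1 lc_e_Cert_tree lc_e_Cert_tree lc_e_rc_13_3 lc_e_Cert_tree lc_e_rc_18_1 lc_e_rc_18_1 lc_e_rc_16_1 lc_e_rc_4_3 lc_e_Cert_tree lc_e_rc_9_3 lc_e_rc_16_1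 lc_e_rc_19_4 lc_e_Cert_tree lc_e_rc_16_3 lc_e_rc_18_1 lc_e_rc_16_5 lc_e_rc_16_3 lc_e_rc_18_1 lc_e_Cert_tree lc_e_rc_16_5 lc_e_rc_9_3 lc_e_rc_9_3 lc_e_rc_27_5 lc_e_rc_19_0 lc_e_rc_27_1 lc_e_rc_18_1 lc_e_rc_13_3 lc_e_Cert_tree lc_e_rc_18_1 lc_e_rc_9_1 lc_e_rc_27_5 lc_e_rc_18_1 lc_e_rc_18_1 lc_e_rc_27_5 lc_e_rc_13_3 lc_e_Cert_tree lc_e_rc_18_1 lc_e_rc_16_1 lc_e_rc_9_3 lc_e_Cert_tree lc_e_rc_13_3 lc_e_rc_9_1 lc_e_rc_9_3 lc_e_rc_4_3 lc_e_rc_13_3) (@D3.rec (fun _ => (Cert rels S Gen.e)) lc_e_rc_4_1 lc_e_rc_16_3 lc_e_rc_18_1 lc_e_rc_18_1 lc_e_rc_13_1 lc_e_rc_16_1 lc_e_rc_19_4 lc_e_rc_13_3 lc_e_rc_9_3 lc_e_Cert_tree lc_e_rc_4_3 lc_e_rc_16_5 lc_e_rc_16_5 lc_e_Cert_tree lc_e_rc_18_1 lc_e_rc_27_1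 lc_e_rc_9_3 lc_e_rc_27_5 lc_e_rc_18_1 lc_e_rc_27_5 lc_e_rc_9_3 lc_e_Cert_tree lc_e_rc_18_1 lc_e_Cert_tree lc_e_rc_18_1 lc_e_rc_16_1 lc_e_rc_19_4 lc_e_rc_9_1 lc_e_rc_18_1 lc_e_rc_18_1 lc_e_Cert_tree lc_e_Cert_tree lc_e_rc_13_3 lc_e_rc_13_1 lc_e_rc_18_1 lc_e_rc_13_3 lc_e_rc_16_5 lc_e_rc_27_1 lc_e_rc_9_3 lc_e_rc_9_3 lc_e_rc_18_1 lc_e_rc_19_0 lc_e_rc_18_1 lc_e_rc_19_4 lc_e_rc_18_1 lc_e_rc_9_1 lc_e_rc_13_3 lc_e_rc_9_3 lc_e_rc_18_1 lc_e_rc_18_1 lc_e_rc_9_3 lc_e_rc_19_0 lc_e_rc_16_5 lc_e_rc_9_3 lc_e_rc_13_3 lc_e_rc_16_5 lc_e_Cert_tree lc_e_Cert_tree lc_e_rc_18_1 lc_e_rc_27_7 lc_e_rc_19_4 lc_e_rc_16_5) (@D3.rec (fun _ => (Cert rels S Gen.e)) lc_e_Cert_tree lc_e_rc_18_1 lc_e_rc_9_3 lc_e_Cert_tree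 lc_e_rc_13_3 lc_e_rc_16_5 lc_e_rc_27_5 lc_e_rc_19_4 lc_e_rc_16_3 lc_e_rc_18_1 lc_e_rc_13_3 lc_e_rc_13_3 lc_e_rc_13_3 lc_e_rc_18_1 lc_e_rc_18_1 lc_e_Cert_tree lc_e_rc_13_1 lc_e_rc_18_1 lc_e_rc_9_1 lc_e_rc_16_1 lc_e_rc_13_1 lc_e_rc_13_1 lc_e_rc_18_1 lc_e_rc_9_3 lc_e_rc_9_1 lc_e_rc_16_5 lc_e_rc_27_5 lc_e_rc_27_7 lc_e_rc_13_1 lc_e_rc_18_1 lc_e_rc_18_1 lc_e_rc_27_7 lc_e_rc_27_7 lc_e_rc_9_3 lc_e_rc_9_1 lc_e_rc_16_5 lc_e_rc_18_1 lc_e_rc_16_1 lc_e_rc_16_5 lc_e_Cert_tree lc_e_Cert_tree lc_e_rc_18_1 lc_e_rc_16_3 lc_e_rc_16_1 lc_e_rc_27_7 lc_e_rc_18_1 lc_e_rc_18_1 lc_e_Cert_tree lc_e_rc_9_3 lc_e_rc_16_3 lc_e_rc_18_1 lc_e_rc_27_5 lc_e_Cert_tree lc_e_rc_9_3 lc_e_rc_16_5 lc_e_rc_13_3 lc_e_rc_9_3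 lc_e_rc_13_3 lc_e_Cert_tree lc_e_rc_18_1 lc_e_rc_18_1 lc_e_rc_19_0) (@D3.rec (fun _ => (Cert rels S Gen.e)) lc_e_Cert_tree lc_e_rc_18_1 lc_e_rc_18_1 lc_e_rc_18_1 lc_e_rc_16_1 lc_e_rc_13_3 lc_e_rc_18_1 lc_e_rc_27_5 lc_e_rc_18_1 lc_e_rc_18_1 lc_e_Cert_tree lc_e_Cert_tree lc_e_rc_18_1 lc_e_Cert_tree lc_e_Cert_tree lc_e_rc_18_1 lc_e_rc_18_1 lc_e_Cert_tree lc_e_rc_18_1 lc_e_rc_16_3 lc_e_rc_19_4 lc_e_Cert_tree lc_e_rc_16_1 lc_e_rc_13_3 lc_e_rc_16_1 lc_e_rc_18_1 lc_e_rc_27_1 lc_e_rc_9_3 lc_e_rc_16_3 lc_e_rc_27_5 lc_e_rc_18_1 lc_e_Cert_tree lc_e_rc_4_3 lc_e_rc_16_5 lc_e_rc_18_1 lc_e_rc_9_1 lc_e_rc_18_1 lc_e_rc_18_1 lc_e_rc_19_4 lc_e_Cert_tree lc_e_rc_19_4 lc_e_rc_9_1 lc_e_rc_16_5 lc_e_rc_18_1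 lc_e_Cert_tree lc_e_rc_18_1 lc_e_rc_16_1 lc_e_rc_18_1 lc_e_rc_18_1 lc_e_Cert_tree lc_e_rc_13_3 lc_e_Cert_tree lc_e_rc_18_1 lc_e_rc_18_1 lc_e_rc_16_5 lc_e_rc_27_7 lc_e_rc_16_3 lc_e_rc_9_3 lc_e_rc_4_3 lc_e_rc_4_1 lc_e_rc_27_5 lc_e_rc_18_1) (@D3.rec (fun _ => (Cert rels S Gen.e)) lc_e_rc_18_1 lc_e_rc_9_3 lc_e_rc_13_1 lc_e_rc_4_3 lc_e_rc_19_4 lc_e_rc_18_1 lc_e_rc_27_5 lc_e_rc_9_3 lc_e_rc_27_5 lc_e_rc_16_5 lc_e_rc_18_1 lc_e_rc_27_5 lc_e_rc_19_2 lc_e_Cert_tree lc_e_rc_13_1 lc_e_rc_18_1 lc_e_rc_13_3 lc_e_rc_18_1 lc_e_rc_18_1 lc_e_rc_18_1 lc_e_rc_16_1 lc_e_rc_19_4 lc_e_rc_9_3 lc_e_rc_16_5 lc_e_Cert_tree lc_e_Cert_tree lc_e_rc_13_3 lc_e_rc_9_3 lc_e_rc_16_5 lc_e_rc_9_1 lc_e_rc_13_3 lc_e_rc_27_7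 lc_e_rc_13_3 lc_e_rc_27_5 lc_e_rc_13_3 lc_e_rc_13_3 lc_e_Cert_tree lc_e_rc_19_4 lc_e_rc_18_1 lc_e_rc_13_3 lc_e_rc_19_0 lc_e_rc_4_1 lc_e_rc_27_5 lc_e_rc_18_1 lc_e_Cert_tree lc_e_rc_27_5 lc_e_rc_4_3 lc_e_rc_16_1 lc_e_rc_4_1 lc_e_rc_13_3 lc_e_Cert_tree lc_e_rc_18_1 lc_e_rc_27_7 lc_e_Cert_tree lc_e_rc_16_3 lc_e_rc_13_3 lc_e_rc_27_5 lc_e_rc_13_3 lc_e_rc_27_1 lc_e_rc_13_3 lc_e_rc_13_3 lc_e_rc_18_1) (@D3.rec (fun _ => (Cert rels S Gen.e)) lc_e_rc_16_3 lc_e_rc_19_4 lc_e_rc_16_5 lc_e_Cert_tree lc_e_Cert_tree lc_e_Cert_tree lc_e_Cert_tree lc_e_rc_18_1 lc_e_rc_18_1 lc_e_rc_18_1 lc_e_rc_18_1 lc_e_rc_18_1 lc_e_Cert_tree lc_e_Cert_tree lc_e_Cert_tree lc_e_rc_18_1 lc_e_Cert_tree lc_e_Cert_tree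 lc_e_rc_19_2 lc_e_Cert_tree lc_e_rc_13_3 lc_e_rc_27_1 lc_e_rc_27_7 lc_e_rc_16_3 lc_e_rc_18_1 lc_e_rc_27_5 lc_e_rc_18_1 lc_e_Cert_tree lc_e_rc_19_4 lc_e_rc_18_1 lc_e_Cert_tree lc_e_rc_13_3 lc_e_Cert_tree lc_e_rc_27_7 lc_e_rc_18_1 lc_e_rc_13_3 lc_e_rc_18_1 lc_e_rc_4_3 lc_e_rc_18_1 lc_e_Cert_tree lc_e_rc_18_1 lc_e_Cert_tree lc_e_rc_18_1 lc_e_rc_16_5 lc_e_rc_16_1 lc_e_Cert_tree lc_e_rc_18_1 lc_e_rc_4_1 lc_e_rc_18_1 lc_e_rc_19_2 lc_e_Cert_tree lc_e_rc_19_4 lc_e_rc_13_3 lc_e_Cert_tree lc_e_rc_9_3 lc_e_rc_18_1 lc_e_Cert_tree lc_e_rc_13_1 lc_e_rc_19_4 lc_e_rc_13_3 lc_e_Cert_tree lc_e_rc_18_1) (@D3.rec (fun _ => (Cert rels S Gen.e)) lc_e_rc_13_1 lc_e_rc_18_1 lc_e_rc_18_1 lc_e_Cert_tree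 lc_e_rc_4_3 lc_e_rc_27_7 lc_e_rc_19_4 lc_e_rc_9_3 lc_e_rc_19_4 lc_e_Cert_tree lc_e_rc_9_1 lc_e_rc_4_3 lc_e_Cert_tree lc_e_rc_18_1 lc_e_rc_27_5 lc_e_Cert_tree lc_e_rc_16_5 lc_e_rc_18_1 lc_e_rc_18_1 lc_e_rc_16_1 lc_e_rc_9_1 lc_e_rc_18_1 lc_e_rc_19_0 lc_e_rc_18_1 lc_e_rc_16_3 lc_e_rc_19_2 lc_e_Cert_tree lc_e_Cert_tree lc_e_Cert_tree lc_e_rc_9_3 lc_e_rc_18_1 lc_e_rc_16_5 lc_e_rc_13_3 lc_e_Cert_tree lc_e_Cert_tree lc_e_rc_18_1 lc_e_rc_13_3 lc_e_Cert_tree lc_e_rc_13_3 lc_e_rc_4_3 lc_e_rc_18_1 lc_e_rc_18_1 lc_e_Cert_tree lc_e_Cert_tree lc_e_rc_19_4 lc_e_rc_16_1 lc_e_rc_16_3 lc_e_rc_18_1 lc_e_Cert_tree lc_e_Cert_tree lc_e_rc_19_4 lc_e_rc_18_1 lc_e_Cert_tree lc_e_rc_18_1 lc_e_rc_19_2 lc_e_Cert_tree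 lc_e_rc_18_1 lc_e_rc_27_7 lc_e_Cert_tree lc_e_rc_13_1 lc_e_rc_18_1 lc_e_rc_4_1) (@D3.rec (fun _ => (Cert rels S Gen.e)) lc_e_Cert_tree lc_e_rc_18_1 lc_e_rc_27_7 lc_e_Cert_tree lc_e_rc_16_5 lc_e_rc_27_7 lc_e_rc_18_1 lc_e_Cert_tree lc_e_rc_18_1 lc_e_rc_4_1 lc_e_rc_16_3 lc_e_rc_19_4 lc_e_rc_13_1 lc_e_Cert_tree lc_e_rc_19_4 lc_e_Cert_tree lc_e_Cert_tree lc_e_rc_19_4 lc_e_rc_9_3 lc_e_rc_19_4 lc_e_rc_18_1 lc_e_rc_9_3 lc_e_rc_13_3 lc_e_rc_18_1 lc_e_rc_18_1 lc_e_rc_9_3 lc_e_Cert_tree lc_e_rc_4_3 lc_e_rc_27_1 lc_e_rc_18_1 lc_e_rc_18_1 lc_e_rc_27_1 lc_e_Cert_tree lc_e_Cert_tree lc_e_Cert_tree lc_e_Cert_tree lc_e_rc_18_1 lc_e_rc_13_3 lc_e_rc_9_3 lc_e_rc_19_4 lc_e_rc_27_5 lc_e_rc_16_3 lc_e_Cert_tree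 lc_e_Cert_tree lc_e_rc_13_3 lc_e_rc_18_1 lc_e_Cert_tree lc_e_Cert_tree lc_e_rc_19_4 lc_e_rc_16_3 lc_e_rc_27_5 lc_e_rc_18_1 lc_e_Cert_tree lc_e_rc_4_3 lc_e_rc_4_3 lc_e_Cert_tree lc_e_rc_18_1 lc_e_Cert_tree lc_e_rc_18_1 lc_e_rc_18_1 lc_e_rc_16_5 lc_e_rc_4_3) (@D3.rec (fun _ => (Cert rels S Gen.e)) lc_e_Cert_tree lc_e_rc_18_1 lc_e_rc_18_1 lc_e_rc_18_1 lc_e_rc_16_5 lc_e_Cert_tree lc_e_Cert_tree lc_e_Cert_tree lc_e_Cert_tree lc_e_rc_18_1 lc_e_rc_9_3 lc_e_rc_13_3 lc_e_rc_27_7 lc_e_Cert_tree lc_e_rc_9_3 lc_e_Cert_tree lc_e_rc_27_1 lc_e_rc_18_1 lc_e_rc_18_1 lc_e_Cert_tree lc_e_rc_9_3 lc_e_rc_19_4 lc_e_rc_16_3 lc_e_rc_16_1 lc_e_rc_27_5 lc_e_rc_18_1 lc_e_rc_4_3 lc_e_rc_4_3 lc_e_rc_19_4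 lc_e_rc_18_1 lc_e_rc_13_1 lc_e_rc_18_1 lc_e_Cert_tree lc_e_Cert_tree lc_e_rc_18_1 lc_e_rc_27_7 lc_e_rc_13_1 lc_e_rc_18_1 lc_e_rc_19_4 lc_e_rc_27_1 lc_e_rc_16_5 lc_e_rc_18_1 lc_e_rc_18_1 lc_e_rc_19_4 lc_e_rc_4_3 lc_e_rc_4_3 lc_e_rc_9_3 lc_e_rc_27_5 lc_e_rc_13_1 lc_e_rc_27_5 lc_e_rc_18_1 lc_e_rc_13_3 lc_e_rc_16_3 lc_e_rc_16_3 lc_e_rc_18_1 lc_e_rc_18_1 lc_e_rc_16_1 lc_e_rc_9_3 lc_e_rc_16_1 lc_e_rc_27_5 lc_e_Cert_tree lc_e_Cert_tree) (@D3.rec (fun _ => (Cert rels S Gen.e)) lc_e_rc_18_1 lc_e_Cert_tree lc_e_Cert_tree lc_e_Cert_tree lc_e_rc_19_4 lc_e_rc_18_1 lc_e_rc_16_5 lc_e_Cert_tree lc_e_rc_16_3 lc_e_rc_9_3 lc_e_rc_18_1 lc_e_rc_13_3 lc_e_rc_18_1 lc_e_Cert_tree lc_e_rc_19_2 lc_e_rc_13_3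 lc_e_rc_27_5 lc_e_rc_18_1 lc_e_Cert_tree lc_e_Cert_tree lc_e_rc_9_3 lc_e_Cert_tree lc_e_rc_18_1 lc_e_rc_18_1 lc_e_rc_13_3 lc_e_rc_16_5 lc_e_rc_27_5 lc_e_Cert_tree lc_e_rc_9_1 lc_e_Cert_tree lc_e_rc_18_1 lc_e_rc_18_1 lc_e_rc_18_1 lc_e_rc_13_3 lc_e_rc_13_3 lc_e_Cert_tree lc_e_rc_27_1 lc_e_rc_4_3 lc_e_Cert_tree lc_e_rc_18_1 lc_e_Cert_tree lc_e_Cert_tree lc_e_rc_13_3 lc_e_Cert_tree lc_e_rc_18_1 lc_e_Cert_tree lc_e_rc_18_1 lc_e_rc_18_1 lc_e_Cert_tree lc_e_Cert_tree lc_e_rc_19_4 lc_e_rc_16_3 lc_e_Cert_tree lc_e_rc_4_3 lc_e_rc_16_3 lc_e_rc_27_1 lc_e_Cert_tree lc_e_rc_4_1 lc_e_Cert_tree lc_e_rc_18_1 lc_e_rc_18_1 lc_e_rc_27_7) (@D3.rec (fun _ => (Cert rels S Gen.e)) lc_e_Cert_tree lc_e_Cert_tree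 lc_e_rc_27_5 lc_e_rc_18_1 lc_e_rc_16_5 lc_e_rc_16_5 lc_e_Cert_tree lc_e_rc_18_1 lc_e_Cert_tree lc_e_rc_9_1 lc_e_Cert_tree lc_e_rc_18_1 lc_e_rc_18_1 lc_e_rc_13_3 lc_e_rc_16_1 lc_e_rc_19_4 lc_e_Cert_tree lc_e_rc_19_4 lc_e_rc_16_5 lc_e_rc_18_1 lc_e_Cert_tree lc_e_rc_9_3 lc_e_Cert_tree lc_e_rc_18_1 lc_e_rc_18_1 lc_e_rc_16_5 lc_e_rc_27_5 lc_e_Cert_tree lc_e_rc_18_1 lc_e_rc_18_1 lc_e_rc_16_1 lc_e_Cert_tree lc_e_Cert_tree lc_e_Cert_tree lc_e_rc_18_1 lc_e_Cert_tree lc_e_rc_4_3 lc_e_rc_4_1 lc_e_rc_18_1 lc_e_Cert_tree lc_e_rc_18_1 lc_e_Cert_tree lc_e_Cert_tree lc_e_rc_9_3 lc_e_rc_18_1 lc_e_rc_9_3 lc_e_rc_13_3 lc_e_rc_16_1 lc_e_rc_9_1 lc_e_Cert_tree lc_e_Cert_tree lc_e_rc_16_1 lc_e_rc_19_4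 lc_e_rc_27_5 lc_e_Cert_tree lc_e_rc_18_1 lc_e_rc_9_3 lc_e_rc_4_3 lc_e_rc_13_3 lc_e_Cert_tree lc_e_rc_13_3 lc_e_Cert_tree) (@D3.rec (fun _ => (Cert rels S Gen.e)) lc_e_rc_18_1 lc_e_rc_13_3 lc_e_rc_9_3 lc_e_Cert_tree lc_e_rc_13_3 lc_e_Cert_tree lc_e_rc_18_1 lc_e_rc_27_1 lc_e_rc_9_3 lc_e_Cert_tree lc_e_rc_18_1 lc_e_rc_13_3 lc_e_rc_18_1 lc_e_Cert_tree lc_e_rc_27_5 lc_e_rc_16_1 lc_e_rc_19_4 lc_e_Cert_tree lc_e_rc_18_1 lc_e_rc_16_1 lc_e_rc_19_4 lc_e_rc_27_1 lc_e_rc_9_1 lc_e_Cert_tree lc_e_rc_18_1 lc_e_Cert_tree lc_e_rc_13_3 lc_e_Cert_tree lc_e_rc_13_1 lc_e_rc_13_3 lc_e_Cert_tree lc_e_rc_18_1 lc_e_rc_9_1 lc_e_Cert_tree lc_e_rc_18_1 lc_e_rc_27_7 lc_e_rc_18_1 lc_e_rc_9_3 lc_e_Cert_tree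 lc_e_rc_18_1 lc_e_rc_9_3 lc_e_rc_13_3 lc_e_rc_19_2 lc_e_rc_13_3 lc_e_rc_4_3 lc_e_rc_18_1 lc_e_rc_13_3 lc_e_rc_18_1 lc_e_Cert_tree lc_e_rc_18_1 lc_e_Cert_tree lc_e_rc_16_5 lc_e_rc_16_1 lc_e_rc_18_1 lc_e_Cert_tree lc_e_rc_16_1 lc_e_rc_19_4 lc_e_Cert_tree lc_e_rc_27_7 lc_e_rc_18_1 lc_e_rc_27_7 lc_e_Cert_tree) (@D3.rec (fun _ => (Cert rels S Gen.e)) lc_e_rc_9_1 lc_e_rc_13_3 lc_e_rc_18_1 lc_e_rc_4_3 lc_e_rc_9_3 lc_e_rc_13_3 lc_e_rc_16_5 lc_e_rc_13_3 lc_e_rc_18_1 lc_e_rc_19_2 lc_e_rc_19_2 lc_e_Cert_tree lc_e_rc_13_1 lc_e_rc_13_3 lc_e_rc_4_3 lc_e_rc_13_1 lc_e_rc_18_1 lc_e_Cert_tree lc_e_Cert_tree lc_e_Cert_tree lc_e_rc_13_3 lc_e_rc_16_1 lc_e_rc_9_3 lc_e_rc_27_7 lc_e_rc_13_3 lc_e_rc_13_1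 lc_e_rc_13_3 lc_e_rc_4_3 lc_e_Cert_tree lc_e_Cert_tree lc_e_Cert_tree lc_e_rc_18_1 lc_e_Cert_tree lc_e_rc_9_3 lc_e_rc_18_1 lc_e_rc_16_1 lc_e_rc_27_7 lc_e_rc_13_3 lc_e_rc_18_1 lc_e_Cert_tree lc_e_Cert_tree lc_e_rc_4_3 lc_e_rc_18_1 lc_e_rc_9_3 lc_e_rc_13_3 lc_e_rc_9_1 lc_e_rc_16_1 lc_e_rc_4_3 lc_e_Cert_tree lc_e_rc_18_1 lc_e_Cert_tree lc_e_rc_4_3 lc_e_rc_13_3 lc_e_rc_18_1 lc_e_Cert_tree lc_e_rc_18_1 lc_e_rc_27_5 lc_e_rc_16_5 lc_e_rc_9_3 lc_e_rc_9_3 lc_e_rc_18_1 lc_e_rc_18_1) (@D3.rec (fun _ => (Cert rels S Gen.e)) lc_e_rc_16_3 lc_e_rc_18_1 lc_e_rc_19_2 lc_e_rc_19_4 lc_e_rc_27_1 lc_e_rc_18_1 lc_e_rc_13_3 lc_e_rc_18_1 lc_e_rc_27_5 lc_e_rc_9_3 lc_e_rc_16_3 lc_e_rc_27_1 lc_e_rc_13_1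 lc_e_rc_18_1 lc_e_rc_27_5 lc_e_rc_16_5 lc_e_rc_18_1 lc_e_rc_27_5 lc_e_rc_9_1 lc_e_rc_18_1 lc_e_rc_16_5 lc_e_rc_13_3 lc_e_rc_19_4 lc_e_rc_4_3 lc_e_rc_18_1 lc_e_rc_16_3 lc_e_Cert_tree lc_e_Cert_tree lc_e_rc_18_1 lc_e_rc_19_4 lc_e_rc_4_1 lc_e_Cert_tree lc_e_rc_18_1 lc_e_rc_13_3 lc_e_rc_9_3 lc_e_rc_16_3 lc_e_rc_19_4 lc_e_rc_18_1 lc_e_rc_13_1 lc_e_rc_18_1 lc_e_rc_9_1 lc_e_rc_16_3 lc_e_rc_18_1 lc_e_Cert_tree lc_e_Cert_tree lc_e_rc_18_1 lc_e_rc_19_4 lc_e_rc_16_3 lc_e_rc_18_1 lc_e_rc_18_1 lc_e_Cert_tree lc_e_rc_13_3 lc_e_rc_16_5 lc_e_rc_18_1 lc_e_rc_13_3 lc_e_Cert_tree lc_e_rc_18_1 lc_e_rc_13_1 lc_e_rc_9_3 lc_e_Cert_tree lc_e_rc_16_5 lc_e_Cert_tree) (@D3.rec (fun _ => (Cert rels S Gen.e))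 lc_e_rc_18_1 lc_e_rc_16_3 lc_e_rc_18_1 lc_e_Cert_tree lc_e_Cert_tree lc_e_rc_18_1 lc_e_rc_18_1 lc_e_Cert_tree lc_e_rc_16_5 lc_e_rc_16_3 lc_e_rc_18_1 lc_e_rc_18_1 lc_e_rc_9_3 lc_e_rc_9_3 lc_e_rc_16_1 lc_e_rc_9_3 lc_e_rc_19_0 lc_e_rc_9_3 lc_e_rc_18_1 lc_e_rc_18_1 lc_e_Cert_tree lc_e_Cert_tree lc_e_rc_19_4 lc_e_Cert_tree lc_e_Cert_tree lc_e_rc_19_4 lc_e_Cert_tree lc_e_rc_18_1 lc_e_rc_16_1 lc_e_Cert_tree lc_e_rc_18_1 lc_e_rc_27_7 lc_e_rc_18_1 lc_e_Cert_tree lc_e_rc_18_1 lc_e_rc_13_1 lc_e_rc_18_1 lc_e_rc_4_3 lc_e_rc_16_1 lc_e_rc_19_4 lc_e_rc_16_1 lc_e_rc_9_1 lc_e_rc_4_1 lc_e_rc_27_1 lc_e_rc_18_1 lc_e_Cert_tree lc_e_Cert_tree lc_e_rc_27_5 lc_e_rc_18_1 lc_e_rc_18_1 lc_e_rc_19_0 lc_e_rc_13_3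 lc_e_rc_16_5 lc_e_rc_19_4 lc_e_rc_9_1 lc_e_rc_16_5 lc_e_rc_27_7 lc_e_rc_18_1 lc_e_rc_18_1 lc_e_rc_18_1 lc_e_rc_4_3 lc_e_rc_18_1) (@D3.rec (fun _ => (Cert rels S Gen.e)) lc_e_rc_13_3 lc_e_Cert_tree lc_e_Cert_tree lc_e_rc_18_1 lc_e_rc_18_1 lc_e_rc_27_1 lc_e_rc_13_3 lc_e_rc_13_3 lc_e_rc_9_1 lc_e_Cert_tree lc_e_rc_16_3 lc_e_rc_13_3 lc_e_Cert_tree lc_e_rc_9_3 lc_e_rc_27_7 lc_e_rc_18_1 lc_e_rc_13_1 lc_e_rc_18_1 lc_e_rc_13_1 lc_e_rc_18_1 lc_e_rc_19_4 lc_e_rc_9_3 lc_e_rc_18_1 lc_e_rc_27_5 lc_e_rc_18_1 lc_e_rc_27_5 lc_e_rc_4_1 lc_e_Cert_tree lc_e_rc_27_1 lc_e_rc_18_1 lc_e_rc_16_1 lc_e_rc_13_1 lc_e_rc_27_5 lc_e_rc_18_1 lc_e_rc_16_3 lc_e_rc_9_3 lc_e_rc_13_1 lc_e_rc_18_1 lc_e_Cert_tree lc_e_rc_18_1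 lc_e_Cert_tree lc_e_rc_13_1 lc_e_rc_4_1 lc_e_rc_18_1 lc_e_Cert_tree lc_e_Cert_tree lc_e_rc_19_4 lc_e_rc_18_1 lc_e_rc_19_4 lc_e_Cert_tree lc_e_rc_13_1 lc_e_Cert_tree lc_e_rc_18_1 lc_e_Cert_tree lc_e_Cert_tree lc_e_rc_27_5 lc_e_rc_18_1 lc_e_Cert_tree lc_e_Cert_tree lc_e_rc_18_1 lc_e_rc_13_1 lc_e_rc_18_1) (@D3.rec (fun _ => (Cert rels S Gen.e)) lc_e_Cert_tree lc_e_rc_18_1 lc_e_rc_16_3 lc_e_rc_4_3 lc_e_rc_18_1 lc_e_rc_19_4 lc_e_Cert_tree lc_e_rc_16_1 lc_e_rc_18_1 lc_e_rc_16_1 lc_e_rc_18_1 lc_e_rc_27_5 lc_e_Cert_tree lc_e_Cert_tree lc_e_rc_19_4 lc_e_rc_9_1 lc_e_Cert_tree lc_e_rc_18_1 lc_e_rc_18_1 lc_e_Cert_tree lc_e_rc_13_3 lc_e_rc_19_4 lc_e_rc_4_3 lc_e_rc_18_1 lc_e_Cert_tree lc_e_Cert_tree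 lc_e_rc_18_1 lc_e_rc_18_1 lc_e_rc_16_1 lc_e_rc_18_1 lc_e_Cert_tree lc_e_Cert_tree lc_e_rc_13_3 lc_e_rc_18_1 lc_e_rc_9_1 lc_e_Cert_tree lc_e_rc_18_1 lc_e_rc_27_5 lc_e_Cert_tree lc_e_rc_13_3 lc_e_Cert_tree lc_e_rc_18_1 lc_e_rc_18_1 lc_e_rc_13_3 lc_e_Cert_tree lc_e_rc_18_1 lc_e_rc_18_1 lc_e_rc_16_3 lc_e_rc_9_3 lc_e_Cert_tree lc_e_rc_18_1 lc_e_rc_16_5 lc_e_rc_4_3 lc_e_rc_9_1 lc_e_rc_18_1 lc_e_Cert_tree lc_e_Cert_tree lc_e_rc_18_1 lc_e_rc_27_1 lc_e_rc_16_1 lc_e_Cert_tree lc_e_Cert_tree) (@D3.rec (fun _ => (Cert rels S Gen.e)) lc_e_rc_18_1 lc_e_rc_9_3 lc_e_rc_13_3 lc_e_rc_18_1 lc_e_rc_19_2 lc_e_rc_16_5 lc_e_rc_27_1 lc_e_rc_13_1 lc_e_rc_18_1 lc_e_rc_19_0 lc_e_rc_18_1 lc_e_rc_18_1 lc_e_rc_9_3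 lc_e_rc_18_1 lc_e_rc_9_3 lc_e_rc_27_1 lc_e_rc_18_1 lc_e_rc_27_5 lc_e_rc_18_1 lc_e_rc_16_3 lc_e_rc_16_5 lc_e_Cert_tree lc_e_Cert_tree lc_e_rc_18_1 lc_e_rc_18_1 lc_e_rc_18_1 lc_e_rc_13_3 lc_e_rc_13_3 lc_e_Cert_tree lc_e_rc_16_3 lc_e_rc_19_4 lc_e_rc_16_1 lc_e_Cert_tree lc_e_rc_27_5 lc_e_rc_18_1 lc_e_rc_18_1 lc_e_rc_27_1 lc_e_rc_13_3 lc_e_rc_19_4 lc_e_rc_16_3 lc_e_rc_18_1 lc_e_rc_27_1 lc_e_Cert_tree lc_e_Cert_tree lc_e_rc_18_1 lc_e_rc_4_3 lc_e_rc_19_4 lc_e_rc_18_1 lc_e_rc_18_1 lc_e_rc_9_1 lc_e_rc_27_5 lc_e_rc_18_1 lc_e_rc_16_1 lc_e_Cert_tree lc_e_rc_16_5 lc_e_rc_18_1 lc_e_rc_16_3 lc_e_Cert_tree lc_e_Cert_tree lc_e_rc_18_1 lc_e_rc_13_3 lc_e_rc_27_5) (@D3.rec (fun _ => (Cert rels S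 Gen.e)) lc_e_rc_16_5 lc_e_Cert_tree lc_e_rc_13_3 lc_e_Cert_tree lc_e_rc_13_3 lc_e_rc_4_1 lc_e_rc_13_1 lc_e_rc_9_1 lc_e_rc_18_1 lc_e_rc_9_1 lc_e_rc_16_3 lc_e_rc_18_1 lc_e_rc_18_1 lc_e_rc_13_1 lc_e_rc_18_1 lc_e_rc_13_3 lc_e_rc_16_5 lc_e_Cert_tree lc_e_rc_18_1 lc_e_rc_16_3 lc_e_rc_18_1 lc_e_rc_27_1 lc_e_rc_18_1 lc_e_rc_16_3 lc_e_Cert_tree lc_e_Cert_tree lc_e_rc_18_1 lc_e_rc_4_3 lc_e_Cert_tree lc_e_Cert_tree lc_e_rc_13_3 lc_e_rc_9_3 lc_e_rc_18_1 lc_e_rc_13_3 lc_e_rc_16_1 lc_e_rc_19_4 lc_e_rc_13_1 lc_e_rc_18_1 lc_e_rc_13_3 lc_e_rc_18_1 lc_e_Cert_tree lc_e_rc_13_3 lc_e_rc_16_5 lc_e_rc_9_3 lc_e_rc_13_3 lc_e_rc_18_1 lc_e_rc_19_4 lc_e_rc_9_3 lc_e_rc_27_5 lc_e_rc_18_1 lc_e_rc_13_3 lc_e_rc_9_3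 lc_e_rc_18_1 lc_e_rc_18_1 lc_e_rc_4_3 lc_e_rc_16_3 lc_e_rc_19_4 lc_e_Cert_tree lc_e_rc_18_1 lc_e_rc_18_1 lc_e_rc_18_1 lc_e_rc_18_1) (@D3.rec (fun _ => (Cert rels S Gen.e)) lc_e_rc_16_1 lc_e_rc_19_4 lc_e_rc_18_1 lc_e_rc_18_1 lc_e_rc_9_3 lc_e_rc_18_1 lc_e_rc_27_7 lc_e_rc_13_3 lc_e_Cert_tree lc_e_rc_18_1 lc_e_rc_19_2 lc_e_rc_18_1 lc_e_rc_4_1 lc_e_rc_9_3 lc_e_rc_19_4 lc_e_rc_13_3 lc_e_rc_18_1 lc_e_rc_13_1 lc_e_rc_18_1 lc_e_rc_18_1 lc_e_rc_16_1 lc_e_rc_19_4 lc_e_rc_13_3 lc_e_rc_18_1 lc_e_Cert_tree lc_e_rc_16_1 lc_e_rc_19_4 lc_e_rc_9_3 lc_e_Cert_tree lc_e_rc_18_1 lc_e_Cert_tree lc_e_rc_18_1 lc_e_rc_16_1 lc_e_rc_18_1 lc_e_rc_18_1 lc_e_rc_18_1 lc_e_rc_16_5 lc_e_Cert_tree lc_e_rc_16_3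 lc_e_rc_19_2 lc_e_rc_18_1 lc_e_rc_13_3 lc_e_Cert_tree lc_e_rc_16_3 lc_e_rc_19_2 lc_e_Cert_tree lc_e_Cert_tree lc_e_rc_27_5 lc_e_rc_18_1 lc_e_rc_13_3 lc_e_rc_9_3 lc_e_rc_27_5 lc_e_rc_18_1 lc_e_rc_13_3 lc_e_Cert_tree lc_e_rc_13_3 lc_e_rc_18_1 lc_e_rc_27_1 lc_e_rc_18_1 lc_e_rc_13_3 lc_e_rc_18_1 lc_e_rc_27_7) (@D3.rec (fun _ => (Cert rels S Gen.e)) lc_e_rc_18_1 lc_e_rc_13_3 lc_e_rc_4_3 lc_e_rc_9_1 lc_e_rc_18_1 lc_e_rc_27_5 lc_e_rc_18_1 lc_e_rc_18_1 lc_e_rc_9_3 lc_e_Cert_tree lc_e_rc_16_3 lc_e_rc_19_2 lc_e_rc_19_2 lc_e_rc_16_3 lc_e_rc_27_1 lc_e_rc_19_4 lc_e_rc_13_3 lc_e_rc_27_1 lc_e_rc_19_4 lc_e_rc_27_7 lc_e_Cert_tree lc_e_rc_9_3 lc_e_Cert_tree lc_e_rc_18_1 lc_e_rc_18_1 lc_e_Cert_tree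 lc_e_rc_19_4 lc_e_rc_18_1 lc_e_rc_27_7 lc_e_Cert_tree lc_e_rc_4_1 lc_e_rc_19_4 lc_e_rc_18_1 lc_e_rc_27_1 lc_e_rc_27_1 lc_e_rc_18_1 lc_e_rc_13_1 lc_e_rc_13_3 lc_e_rc_18_1 lc_e_Cert_tree lc_e_rc_27_7 lc_e_rc_13_1 lc_e_rc_18_1 lc_e_rc_18_1 lc_e_rc_27_5 lc_e_rc_4_1 lc_e_rc_19_2 lc_e_rc_19_0 lc_e_rc_18_1 lc_e_Cert_tree lc_e_rc_18_1 lc_e_rc_27_7 lc_e_rc_16_1 lc_e_rc_13_1 lc_e_Cert_tree lc_e_rc_27_5 lc_e_rc_27_7 lc_e_Cert_tree lc_e_rc_18_1 lc_e_rc_18_1 lc_e_rc_16_1 lc_e_rc_4_1) (@D3.rec (fun _ => (Cert rels S Gen.e)) lc_e_Cert_tree lc_e_Cert_tree lc_e_rc_4_1 lc_e_rc_27_1 lc_e_rc_27_5 lc_e_rc_4_1 lc_e_rc_19_4 lc_e_rc_18_1 lc_e_rc_9_3 lc_e_rc_16_3 lc_e_rc_19_4 lc_e_rc_18_1 lc_e_rc_18_1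 lc_e_rc_4_3 lc_e_Cert_tree lc_e_rc_9_1 lc_e_rc_19_4 lc_e_rc_9_3 lc_e_rc_13_3 lc_e_Cert_tree lc_e_rc_19_0 lc_e_rc_18_1 lc_e_rc_9_3 lc_e_Cert_tree lc_e_rc_13_3 lc_e_Cert_tree lc_e_rc_13_3 lc_e_rc_16_1 lc_e_rc_18_1 lc_e_rc_19_2 lc_e_Cert_tree lc_e_rc_18_1 lc_e_rc_9_3 lc_e_rc_4_3 lc_e_Cert_tree lc_e_rc_13_1 lc_e_Cert_tree lc_e_rc_19_2 lc_e_rc_18_1 lc_e_rc_16_5 lc_e_rc_4_1 lc_e_rc_27_1 lc_e_rc_18_1 lc_e_rc_27_7 lc_e_rc_16_5 lc_e_rc_13_1 lc_e_rc_13_3 lc_e_rc_18_1 lc_e_rc_18_1 lc_e_rc_18_1 lc_e_rc_18_1 lc_e_Cert_tree lc_e_Cert_tree lc_e_rc_18_1 lc_e_rc_16_1 lc_e_rc_13_1 lc_e_rc_18_1 lc_e_Cert_tree lc_e_rc_13_1 lc_e_rc_9_3 lc_e_rc_13_3 lc_e_Cert_tree) (@D3.rec (fun _ => (Cert rels S Gen.e))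 lc_e_rc_18_1 lc_e_rc_13_1 lc_e_rc_9_3 lc_e_rc_19_4 lc_e_rc_27_1 lc_e_rc_18_1 lc_e_Cert_tree lc_e_rc_18_1 lc_e_rc_16_1 lc_e_rc_18_1 lc_e_rc_19_4 lc_e_Cert_tree lc_e_rc_18_1 lc_e_Cert_tree lc_e_rc_18_1 lc_e_rc_16_1 lc_e_Cert_tree lc_e_rc_4_1 lc_e_rc_19_4 lc_e_rc_18_1 lc_e_rc_9_3 lc_e_Cert_tree lc_e_rc_4_1 lc_e_rc_19_4 lc_e_rc_18_1 lc_e_rc_13_3 lc_e_rc_18_1 lc_e_rc_4_1 lc_e_rc_9_1 lc_e_rc_9_1 lc_e_rc_18_1 lc_e_rc_18_1 lc_e_rc_18_1 lc_e_Cert_tree lc_e_Cert_tree lc_e_Cert_tree lc_e_rc_27_7 lc_e_rc_18_1 lc_e_rc_18_1 lc_e_Cert_tree lc_e_rc_19_4 lc_e_rc_18_1 lc_e_rc_18_1 lc_e_Cert_tree lc_e_rc_16_3 lc_e_rc_19_4 lc_e_Cert_tree lc_e_rc_18_1 lc_e_rc_18_1 lc_e_Cert_tree lc_e_rc_18_1 lc_e_rc_13_3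 lc_e_Cert_tree lc_e_rc_18_1 lc_e_Cert_tree lc_e_rc_18_1 lc_e_rc_27_7 lc_e_rc_16_1 lc_e_rc_4_3 lc_e_Cert_tree lc_e_rc_18_1 lc_e_rc_9_3) (@D3.rec (fun _ => (Cert rels S Gen.e)) lc_e_rc_16_3 lc_e_rc_19_4 lc_e_rc_18_1 lc_e_Cert_tree lc_e_rc_18_1 lc_e_rc_4_1 lc_e_rc_4_1 lc_e_Cert_tree lc_e_rc_18_1 lc_e_rc_18_1 lc_e_rc_16_3 lc_e_rc_18_1 lc_e_rc_18_1 lc_e_Cert_tree lc_e_rc_9_1 lc_e_rc_13_3 lc_e_Cert_tree lc_e_rc_18_1 lc_e_rc_13_3 lc_e_rc_19_4 lc_e_rc_27_7 lc_e_rc_27_7 lc_e_rc_4_3 lc_e_Cert_tree lc_e_rc_18_1 lc_e_rc_18_1 lc_e_rc_16_3 lc_e_rc_18_1 lc_e_rc_16_1 lc_e_rc_19_4 lc_e_rc_13_3 lc_e_rc_18_1 lc_e_rc_19_4 lc_e_rc_27_7 lc_e_Cert_tree lc_e_rc_19_4 lc_e_Cert_tree lc_e_rc_18_1 lc_e_Cert_tree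 lc_e_rc_4_1 lc_e_rc_13_1 lc_e_rc_18_1 lc_e_rc_19_2 lc_e_rc_13_3 lc_e_rc_9_1 lc_e_Cert_tree lc_e_rc_18_1 lc_e_Cert_tree lc_e_rc_16_3 lc_e_rc_13_1 lc_e_rc_18_1 lc_e_rc_13_1 lc_e_Cert_tree lc_e_rc_27_7 lc_e_rc_18_1 lc_e_Cert_tree lc_e_rc_18_1 lc_e_rc_27_5 lc_e_rc_4_3 lc_e_rc_18_1 lc_e_Cert_tree lc_e_rc_18_1) (@D3.rec (fun _ => (Cert rels S Gen.e)) lc_e_rc_27_1 lc_e_Cert_tree lc_e_rc_16_1 lc_e_rc_19_4 lc_e_rc_18_1 lc_e_rc_9_1 lc_e_rc_18_1 lc_e_rc_19_4 lc_e_rc_18_1 lc_e_rc_18_1 lc_e_rc_27_1 lc_e_rc_18_1 lc_e_rc_13_3 lc_e_Cert_tree lc_e_rc_16_1 lc_e_rc_19_4 lc_e_rc_13_3 lc_e_rc_18_1 lc_e_rc_18_1 lc_e_rc_18_1 lc_e_rc_27_7 lc_e_rc_16_1 lc_e_rc_27_5 lc_e_rc_16_5 lc_e_rc_16_5 lc_e_rc_19_2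 lc_e_rc_13_3 lc_e_Cert_tree lc_e_rc_18_1 lc_e_rc_13_3 lc_e_rc_4_1 lc_e_rc_19_4 lc_e_Cert_tree lc_e_rc_18_1 lc_e_Cert_tree lc_e_rc_18_1 lc_e_rc_16_3 lc_e_Cert_tree lc_e_rc_18_1 lc_e_Cert_tree lc_e_rc_18_1 lc_e_rc_27_1 lc_e_rc_9_3 lc_e_rc_16_5 lc_e_rc_19_4 lc_e_rc_18_1 lc_e_rc_16_3 lc_e_rc_27_7 lc_e_rc_18_1 lc_e_Cert_tree lc_e_rc_9_1 lc_e_rc_16_1 lc_e_rc_13_3 lc_e_rc_9_3 lc_e_rc_16_5 lc_e_rc_13_3 lc_e_rc_18_1 lc_e_Cert_tree lc_e_rc_16_1 lc_e_Cert_tree lc_e_rc_13_3 lc_e_Cert_tree) (@D3.rec (fun _ => (Cert rels S Gen.e)) lc_e_rc_18_1 lc_e_rc_16_1 lc_e_rc_27_5 lc_e_rc_27_5 lc_e_rc_18_1 lc_e_Cert_tree lc_e_rc_13_3 lc_e_rc_16_3 lc_e_rc_18_1 lc_e_rc_18_1 lc_e_Cert_tree lc_e_rc_13_3 lc_e_rc_9_3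 lc_e_rc_4_3 lc_e_rc_4_3 lc_e_rc_18_1 lc_e_rc_18_1 lc_e_rc_16_3 lc_e_rc_9_3 lc_e_rc_16_3 lc_e_rc_19_4 lc_e_rc_16_3 lc_e_rc_19_2 lc_e_Cert_tree lc_e_rc_27_7 lc_e_rc_18_1 lc_e_rc_9_3 lc_e_Cert_tree lc_e_rc_18_1 lc_e_rc_16_1 lc_e_rc_9_3 lc_e_rc_18_1 lc_e_rc_16_5 lc_e_rc_18_1 lc_e_Cert_tree lc_e_Cert_tree lc_e_rc_19_2 lc_e_Cert_tree lc_e_rc_18_1 lc_e_rc_27_5 lc_e_rc_18_1 lc_e_rc_16_1 lc_e_rc_18_1 lc_e_rc_16_1 lc_e_rc_9_3 lc_e_rc_13_3 lc_e_rc_13_3 lc_e_rc_16_5 lc_e_rc_13_1 lc_e_rc_27_5 lc_e_rc_18_1 lc_e_rc_18_1 lc_e_rc_16_3 lc_e_rc_13_3 lc_e_rc_9_3 lc_e_rc_18_1 lc_e_rc_27_5 lc_e_rc_27_5 lc_e_rc_19_2 lc_e_rc_16_3 lc_e_rc_9_3 lc_e_rc_18_1) (@D3.rec (fun _ => (Cert rels S Gen.e)) lc_e_rc_18_1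 lc_e_rc_16_3 lc_e_rc_9_1 lc_e_rc_9_3 lc_e_Cert_tree lc_e_rc_18_1 lc_e_Cert_tree lc_e_rc_19_0 lc_e_Cert_tree lc_e_rc_18_1 lc_e_rc_18_1 lc_e_Cert_tree lc_e_rc_13_3 lc_e_Cert_tree lc_e_Cert_tree lc_e_rc_18_1 lc_e_Cert_tree lc_e_rc_27_1 lc_e_rc_18_1 lc_e_rc_27_5 lc_e_rc_18_1 lc_e_rc_4_3 lc_e_rc_9_3 lc_e_Cert_tree lc_e_Cert_tree lc_e_rc_18_1 lc_e_rc_9_3 lc_e_rc_18_1 lc_e_rc_18_1 lc_e_rc_18_1 lc_e_rc_27_1 lc_e_rc_9_1 lc_e_rc_19_2 lc_e_Cert_tree lc_e_rc_27_5 lc_e_rc_27_5 lc_e_rc_18_1 lc_e_rc_27_7 lc_e_rc_27_5 lc_e_rc_18_1 lc_e_Cert_tree lc_e_rc_13_1 lc_e_Cert_tree lc_e_rc_16_5 lc_e_rc_27_7 lc_e_rc_18_1 lc_e_rc_19_4 lc_e_rc_9_3 lc_e_rc_27_5 lc_e_rc_18_1 lc_e_rc_27_5 lc_e_rc_18_1 lc_e_rc_16_1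 lc_e_rc_4_3 lc_e_rc_18_1 lc_e_rc_18_1 lc_e_rc_16_5 lc_e_rc_19_4 lc_e_rc_4_1 lc_e_Cert_tree lc_e_rc_18_1 lc_e_rc_18_1) (@D3.rec (fun _ => (Cert rels S Gen.e)) lc_e_rc_18_1 lc_e_Cert_tree lc_e_rc_18_1 lc_e_rc_9_3 lc_e_Cert_tree lc_e_rc_18_1 lc_e_rc_9_3 lc_e_rc_13_3 lc_e_Cert_tree lc_e_rc_4_3 lc_e_rc_13_3 lc_e_Cert_tree lc_e_rc_18_1 lc_e_rc_27_7 lc_e_Cert_tree lc_e_rc_18_1 lc_e_rc_4_3 lc_e_rc_19_4 lc_e_rc_4_3 lc_e_Cert_tree lc_e_Cert_tree lc_e_Cert_tree lc_e_rc_18_1 lc_e_Cert_tree lc_e_rc_18_1 lc_e_rc_18_1 lc_e_rc_13_3 lc_e_rc_16_5 lc_e_Cert_tree lc_e_Cert_tree lc_e_rc_18_1 lc_e_rc_13_3 lc_e_rc_18_1 lc_e_rc_9_3 lc_e_rc_19_2 lc_e_Cert_tree lc_e_rc_18_1 lc_e_rc_13_3 lc_e_rc_13_1 lc_e_Cert_tree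 lc_e_rc_18_1 lc_e_rc_13_3 lc_e_rc_27_7 lc_e_rc_13_3 lc_e_rc_18_1 lc_e_Cert_tree lc_e_rc_16_5 lc_e_Cert_tree lc_e_rc_18_1 lc_e_rc_27_1 lc_e_Cert_tree lc_e_rc_27_1 lc_e_rc_27_5 lc_e_rc_4_1 lc_e_Cert_tree lc_e_rc_18_1 lc_e_rc_27_7 lc_e_Cert_tree lc_e_rc_18_1 lc_e_rc_18_1 lc_e_rc_18_1 lc_e_Cert_tree) (@D3.rec (fun _ => (Cert rels S Gen.e)) lc_e_Cert_tree lc_e_rc_18_1 lc_e_rc_13_1 lc_e_rc_16_3 lc_e_rc_16_5 lc_e_rc_13_3 lc_e_Cert_tree lc_e_rc_13_3 lc_e_rc_18_1 lc_e_rc_19_0 lc_e_rc_27_7 lc_e_rc_16_1 lc_e_rc_16_3 lc_e_rc_18_1 lc_e_rc_13_1 lc_e_rc_9_3 lc_e_rc_4_3 lc_e_rc_4_3 lc_e_rc_18_1 lc_e_rc_16_1 lc_e_rc_9_3 lc_e_Cert_tree lc_e_rc_18_1 lc_e_Cert_tree lc_e_rc_18_1 lc_e_rc_9_1 lc_e_Cert_tree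 lc_e_rc_18_1 lc_e_rc_16_1 lc_e_rc_13_3 lc_e_rc_16_5 lc_e_rc_13_3 lc_e_Cert_tree lc_e_rc_19_2 lc_e_rc_18_1 lc_e_Cert_tree lc_e_rc_18_1 lc_e_rc_19_2 lc_e_rc_18_1 lc_e_rc_13_1 lc_e_rc_27_7 lc_e_rc_18_1 lc_e_Cert_tree lc_e_rc_18_1 lc_e_rc_16_1 lc_e_rc_9_1 lc_e_rc_9_3 lc_e_Cert_tree lc_e_rc_18_1 lc_e_Cert_tree lc_e_Cert_tree lc_e_rc_9_3 lc_e_Cert_tree lc_e_rc_13_3 lc_e_rc_13_3 lc_e_Cert_tree lc_e_Cert_tree lc_e_rc_18_1 lc_e_rc_27_5 lc_e_rc_27_1 lc_e_rc_19_4 lc_e_rc_13_1) (@D3.rec (fun _ => (Cert rels S Gen.e)) lc_e_rc_18_1 lc_e_rc_9_1 lc_e_rc_18_1 lc_e_Cert_tree lc_e_rc_18_1 lc_e_rc_19_4 lc_e_rc_18_1 lc_e_Cert_tree lc_e_rc_18_1 lc_e_rc_18_1 lc_e_Cert_tree lc_e_rc_19_4 lc_e_Cert_tree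 lc_e_rc_18_1 lc_e_Cert_tree lc_e_rc_27_5 lc_e_rc_18_1 lc_e_rc_19_4 lc_e_rc_18_1 lc_e_Cert_tree lc_e_rc_18_1 lc_e_rc_27_1 lc_e_rc_9_3 lc_e_rc_4_3 lc_e_Cert_tree lc_e_rc_18_1 lc_e_Cert_tree lc_e_rc_18_1 lc_e_Cert_tree lc_e_rc_18_1 lc_e_Cert_tree lc_e_Cert_tree lc_e_rc_19_4 lc_e_rc_18_1 lc_e_rc_18_1 lc_e_rc_18_1 lc_e_Cert_tree lc_e_rc_18_1 lc_e_rc_18_1 lc_e_rc_19_4 lc_e_rc_18_1 lc_e_rc_16_5 lc_e_rc_18_1 lc_e_Cert_tree lc_e_rc_19_4 lc_e_rc_13_3 lc_e_Cert_tree lc_e_rc_16_3 lc_e_rc_13_3 lc_e_Cert_tree lc_e_rc_27_5 lc_e_rc_18_1 lc_e_rc_27_5 lc_e_Cert_tree lc_e_rc_27_1 lc_e_rc_13_1 lc_e_Cert_tree lc_e_rc_13_3 lc_e_rc_9_3 lc_e_rc_27_7 lc_e_rc_18_1 lc_e_rc_18_1) (@D3.rec (fun _ => (Cert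 rels S Gen.e)) lc_e_Cert_tree lc_e_rc_19_4 lc_e_rc_13_3 lc_e_rc_16_3 lc_e_rc_27_7 lc_e_rc_18_1 lc_e_rc_16_3 lc_e_rc_16_5 lc_e_rc_13_3 lc_e_rc_18_1 lc_e_rc_9_3 lc_e_rc_27_5 lc_e_rc_27_7 lc_e_rc_27_5 lc_e_rc_18_1 lc_e_rc_18_1 lc_e_rc_16_1 lc_e_rc_19_4 lc_e_rc_19_4 lc_e_Cert_tree lc_e_Cert_tree lc_e_rc_18_1 lc_e_Cert_tree lc_e_Cert_tree lc_e_Cert_tree lc_e_rc_18_1 lc_e_rc_27_7 lc_e_Cert_tree lc_e_rc_19_4 lc_e_rc_13_3 lc_e_rc_19_4 lc_e_Cert_tree lc_e_rc_16_5 lc_e_rc_27_1 lc_e_rc_13_3 lc_e_rc_27_7 lc_e_Cert_tree lc_e_rc_18_1 lc_e_rc_18_1 lc_e_rc_27_7 lc_e_rc_27_5 lc_e_rc_27_7 lc_e_rc_19_4 lc_e_rc_27_5 lc_e_rc_9_3 lc_e_rc_13_1 lc_e_rc_27_1 lc_e_rc_18_1 lc_e_rc_18_1 lc_e_rc_19_4 lc_e_rc_27_5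 lc_e_rc_18_1 lc_e_rc_27_5 lc_e_rc_19_4 lc_e_rc_9_3 lc_e_rc_18_1 lc_e_rc_27_7 lc_e_rc_16_5 lc_e_rc_19_4 lc_e_Cert_tree lc_e_rc_27_1 lc_e_rc_18_1) (@D3.rec (fun _ => (Cert rels S Gen.e)) lc_e_rc_13_3 lc_e_Cert_tree lc_e_rc_13_3 lc_e_rc_4_3 lc_e_rc_18_1 lc_e_rc_9_1 lc_e_rc_18_1 lc_e_rc_13_3 lc_e_rc_18_1 lc_e_rc_9_3 lc_e_rc_18_1 lc_e_rc_27_5 lc_e_rc_18_1 lc_e_rc_9_1 lc_e_Cert_tree lc_e_rc_16_3 lc_e_rc_18_1 lc_e_rc_13_3 lc_e_rc_16_1 lc_e_rc_19_4 lc_e_rc_19_2 lc_e_rc_27_5 lc_e_Cert_tree lc_e_Cert_tree lc_e_rc_4_3 lc_e_rc_18_1 lc_e_rc_18_1 lc_e_rc_18_1 lc_e_rc_27_1 lc_e_rc_16_1 lc_e_rc_19_4 lc_e_rc_13_3 lc_e_Cert_tree lc_e_rc_4_1 lc_e_rc_19_4 lc_e_rc_4_3 lc_e_rc_19_4 lc_e_rc_27_1 lc_e_Cert_tree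 lc_e_Cert_tree lc_e_rc_18_1 lc_e_rc_18_1 lc_e_rc_16_1 lc_e_rc_19_4 lc_e_Cert_tree lc_e_Cert_tree lc_e_Cert_tree lc_e_Cert_tree lc_e_rc_27_5 lc_e_rc_18_1 lc_e_rc_18_1 lc_e_Cert_tree lc_e_rc_9_1 lc_e_Cert_tree lc_e_rc_18_1 lc_e_rc_27_5 lc_e_Cert_tree lc_e_Cert_tree lc_e_rc_27_7 lc_e_rc_18_1 lc_e_rc_18_1 lc_e_Cert_tree) (@D3.rec (fun _ => (Cert rels S Gen.e)) lc_e_rc_18_1 lc_e_Cert_tree lc_e_rc_18_1 lc_e_rc_13_3 lc_e_rc_13_3 lc_e_rc_19_2 lc_e_rc_9_3 lc_e_Cert_tree lc_e_Cert_tree lc_e_Cert_tree lc_e_rc_18_1 lc_e_rc_16_3 lc_e_rc_18_1 lc_e_Cert_tree lc_e_Cert_tree lc_e_Cert_tree lc_e_Cert_tree lc_e_rc_18_1 lc_e_rc_18_1 lc_e_Cert_tree lc_e_rc_18_1 lc_e_rc_16_1 lc_e_rc_19_2 lc_e_rc_13_3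 lc_e_rc_13_3 lc_e_rc_27_1 lc_e_rc_27_5 lc_e_Cert_tree lc_e_Cert_tree lc_e_rc_18_1 lc_e_rc_18_1 lc_e_rc_18_1 lc_e_rc_13_1 lc_e_rc_16_1 lc_e_Cert_tree lc_e_rc_9_3 lc_e_Cert_tree lc_e_Cert_tree lc_e_rc_18_1 lc_e_rc_18_1 lc_e_rc_16_1 lc_e_rc_19_4 lc_e_rc_9_3 lc_e_Cert_tree lc_e_rc_13_3 lc_e_Cert_tree lc_e_rc_18_1 lc_e_rc_18_1 lc_e_rc_16_1 lc_e_rc_27_5 lc_e_Cert_tree lc_e_Cert_tree lc_e_rc_18_1 lc_e_Cert_tree lc_e_rc_27_7 lc_e_rc_13_3 lc_e_rc_18_1 lc_e_rc_18_1 lc_e_rc_18_1 lc_e_rc_27_1 lc_e_rc_16_5 lc_e_rc_18_1) (@D3.rec (fun _ => (Cert rels S Gen.e)) lc_e_rc_27_5 lc_e_Cert_tree lc_e_rc_16_1 lc_e_rc_9_1 lc_e_rc_9_1 lc_e_rc_18_1 lc_e_rc_13_3 lc_e_rc_18_1 lc_e_rc_13_3 lc_e_Cert_tree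 lc_e_rc_16_1 lc_e_rc_19_4 lc_e_rc_9_3 lc_e_rc_4_3 lc_e_Cert_tree lc_e_Cert_tree lc_e_rc_18_1 lc_e_Cert_tree lc_e_Cert_tree lc_e_rc_13_3 lc_e_Cert_tree lc_e_rc_19_0 lc_e_rc_9_1 lc_e_rc_16_3 lc_e_Cert_tree lc_e_rc_18_1 lc_e_Cert_tree lc_e_rc_18_1 lc_e_Cert_tree lc_e_rc_9_3 lc_e_Cert_tree lc_e_rc_19_4 lc_e_Cert_tree lc_e_rc_18_1 lc_e_rc_13_3 lc_e_rc_16_5 lc_e_rc_4_3 lc_e_Cert_tree lc_e_rc_18_1 lc_e_Cert_tree lc_e_Cert_tree lc_e_rc_9_3 lc_e_rc_18_1 lc_e_Cert_tree lc_e_Cert_tree lc_e_rc_18_1 lc_e_Cert_tree lc_e_rc_18_1 lc_e_rc_9_3 lc_e_Cert_tree lc_e_rc_9_1 lc_e_rc_18_1 lc_e_Cert_tree lc_e_rc_18_1 lc_e_rc_16_1 lc_e_rc_19_4 lc_e_Cert_tree lc_e_rc_19_4 lc_e_rc_16_1 lc_e_rc_19_4 lc_e_rc_13_1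 lc_e_rc_16_3) (@D3.rec (fun _ => (Cert rels S Gen.e)) lc_e_rc_18_1 lc_e_rc_13_3 lc_e_rc_16_3 lc_e_rc_4_1 lc_e_rc_27_1 lc_e_rc_13_1 lc_e_Cert_tree lc_e_rc_13_1 lc_e_rc_18_1 lc_e_rc_13_3 lc_e_rc_13_3 lc_e_Cert_tree lc_e_rc_9_3 lc_e_Cert_tree lc_e_rc_18_1 lc_e_Cert_tree lc_e_rc_19_4 lc_e_rc_16_5 lc_e_rc_16_3 lc_e_rc_18_1 lc_e_rc_18_1 lc_e_rc_16_5 lc_e_rc_4_1 lc_e_rc_18_1 lc_e_rc_9_3 lc_e_rc_19_4 lc_e_Cert_tree lc_e_rc_9_3 lc_e_Cert_tree lc_e_Cert_tree lc_e_rc_18_1 lc_e_rc_13_3 lc_e_rc_4_3 lc_e_rc_19_4 lc_e_rc_18_1 lc_e_rc_13_3 lc_e_Cert_tree lc_e_Cert_tree lc_e_Cert_tree lc_e_rc_19_4 lc_e_rc_18_1 lc_e_Cert_tree lc_e_rc_18_1 lc_e_rc_13_3 lc_e_rc_16_1 lc_e_rc_19_2 lc_e_rc_9_3 lc_e_Cert_tree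 lc_e_rc_9_1 lc_e_Cert_tree lc_e_rc_18_1 lc_e_Cert_tree lc_e_rc_13_3 lc_e_rc_27_7 lc_e_Cert_tree lc_e_rc_18_1 lc_e_Cert_tree lc_e_rc_13_1 lc_e_Cert_tree lc_e_Cert_tree lc_e_rc_18_1 lc_e_rc_13_3) (@D3.rec (fun _ => (Cert rels S Gen.e)) lc_e_rc_13_1 lc_e_rc_9_3 lc_e_Cert_tree lc_e_rc_19_4 lc_e_rc_18_1 lc_e_rc_9_3 lc_e_rc_18_1 lc_e_rc_27_7 lc_e_Cert_tree lc_e_rc_18_1 lc_e_Cert_tree lc_e_Cert_tree lc_e_rc_16_1 lc_e_rc_19_4 lc_e_Cert_tree lc_e_Cert_tree lc_e_rc_16_1 lc_e_rc_19_4 lc_e_rc_27_5 lc_e_Cert_tree lc_e_rc_18_1 lc_e_rc_18_1 lc_e_Cert_tree lc_e_Cert_tree lc_e_rc_13_3 lc_e_Cert_tree lc_e_Cert_tree lc_e_rc_4_3 lc_e_rc_18_1 lc_e_Cert_tree lc_e_Cert_tree lc_e_Cert_tree lc_e_rc_18_1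 lc_e_rc_18_1 lc_e_rc_18_1 lc_e_rc_27_5 lc_e_rc_4_1 lc_e_Cert_tree lc_e_rc_27_5 lc_e_Cert_tree lc_e_rc_18_1 lc_e_rc_4_3 lc_e_Cert_tree lc_e_rc_19_4 lc_e_rc_9_1 lc_e_rc_19_4 lc_e_Cert_tree lc_e_rc_18_1 lc_e_Cert_tree lc_e_rc_16_5 lc_e_rc_18_1 lc_e_rc_27_1 lc_e_rc_18_1 lc_e_rc_18_1 lc_e_rc_18_1 lc_e_rc_9_3 lc_e_Cert_tree lc_e_rc_18_1 lc_e_Cert_tree lc_e_rc_18_1 lc_e_Cert_tree lc_e_Cert_tree) (@D3.rec (fun _ => (Cert rels S Gen.e)) lc_e_rc_16_1 lc_e_rc_18_1 lc_e_rc_16_5 lc_e_rc_19_4 lc_e_rc_16_1 lc_e_rc_13_3 lc_e_rc_13_3 lc_e_rc_13_1 lc_e_Cert_tree lc_e_rc_18_1 lc_e_Cert_tree lc_e_rc_27_5 lc_e_rc_18_1 lc_e_rc_13_1 lc_e_rc_4_3 lc_e_rc_13_3 lc_e_rc_16_5 lc_e_Cert_tree lc_e_rc_19_4 lc_e_Cert_tree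 lc_e_Cert_tree lc_e_rc_18_1 lc_e_rc_18_1 lc_e_Cert_tree lc_e_Cert_tree lc_e_rc_18_1 lc_e_rc_19_2 lc_e_rc_18_1 lc_e_rc_16_5 lc_e_Cert_tree lc_e_Cert_tree lc_e_rc_18_1 lc_e_rc_27_5 lc_e_rc_18_1 lc_e_rc_16_3 lc_e_rc_18_1 lc_e_rc_13_3 lc_e_rc_16_1 lc_e_rc_27_5 lc_e_Cert_tree lc_e_rc_27_7 lc_e_Cert_tree lc_e_rc_18_1 lc_e_Cert_tree lc_e_rc_18_1 lc_e_rc_18_1 lc_e_Cert_tree lc_e_rc_18_1 lc_e_Cert_tree lc_e_rc_9_3 lc_e_rc_27_7 lc_e_rc_19_4 lc_e_rc_18_1 lc_e_rc_16_1 lc_e_rc_19_4 lc_e_rc_13_3 lc_e_Cert_tree lc_e_rc_18_1 lc_e_Cert_tree lc_e_rc_16_5 lc_e_rc_16_1 lc_e_rc_4_3) (@D3.rec (fun _ => (Cert rels S Gen.e)) lc_e_rc_13_3 lc_e_rc_9_3 lc_e_Cert_tree lc_e_rc_16_3 lc_e_rc_19_4 lc_e_Cert_tree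 lc_e_Cert_tree lc_e_rc_18_1 lc_e_Cert_tree lc_e_Cert_tree lc_e_rc_19_4 lc_e_Cert_tree lc_e_rc_16_5 lc_e_rc_16_5 lc_e_rc_18_1 lc_e_Cert_tree lc_e_rc_27_5 lc_e_rc_16_1 lc_e_rc_27_5 lc_e_Cert_tree lc_e_rc_18_1 lc_e_rc_13_3 lc_e_rc_27_1 lc_e_Cert_tree lc_e_rc_18_1 lc_e_rc_18_1 lc_e_Cert_tree lc_e_rc_16_3 lc_e_Cert_tree lc_e_rc_16_3 lc_e_rc_18_1 lc_e_rc_13_1 lc_e_rc_18_1 lc_e_rc_13_1 lc_e_Cert_tree lc_e_rc_13_3 lc_e_rc_18_1 lc_e_rc_18_1 lc_e_Cert_tree lc_e_Cert_tree lc_e_rc_18_1 lc_e_rc_18_1 lc_e_rc_18_1 lc_e_rc_9_1 lc_e_rc_18_1 lc_e_rc_9_3 lc_e_rc_9_1 lc_e_Cert_tree lc_e_rc_18_1 lc_e_rc_18_1 lc_e_Cert_tree lc_e_rc_13_1 lc_e_rc_13_3 lc_e_rc_13_3 lc_e_Cert_tree lc_e_rc_9_3 lc_e_Cert_tree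 lc_e_rc_9_3 lc_e_rc_18_1 lc_e_rc_19_4 lc_e_rc_27_5 lc_e_Cert_tree) (@D3.rec (fun _ => (Cert rels S Gen.e)) lc_e_rc_18_1 lc_e_rc_18_1 lc_e_rc_13_3 lc_e_rc_16_5 lc_e_Cert_tree lc_e_rc_18_1 lc_e_Cert_tree lc_e_rc_18_1 lc_e_rc_18_1 lc_e_Cert_tree lc_e_rc_18_1 lc_e_rc_4_1 lc_e_rc_16_3 lc_e_rc_9_3 lc_e_rc_13_1 lc_e_rc_18_1 lc_e_rc_16_1 lc_e_rc_9_3 lc_e_Cert_tree lc_e_rc_18_1 lc_e_rc_4_1 lc_e_Cert_tree lc_e_rc_27_7 lc_e_rc_18_1 lc_e_Cert_tree lc_e_rc_27_7 lc_e_Cert_tree lc_e_rc_18_1 lc_e_rc_13_3 lc_e_rc_4_3 lc_e_rc_4_1 lc_e_rc_18_1 lc_e_rc_18_1 lc_e_rc_18_1 lc_e_rc_9_3 lc_e_rc_9_3 lc_e_rc_4_3 lc_e_rc_18_1 lc_e_rc_13_3 lc_e_rc_9_1 lc_e_Cert_tree lc_e_Cert_tree lc_e_rc_18_1 lc_e_rc_27_5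 lc_e_rc_16_3 lc_e_rc_19_2 lc_e_rc_18_1 lc_e_rc_27_7 lc_e_Cert_tree lc_e_rc_18_1 lc_e_rc_27_7 lc_e_rc_18_1 lc_e_Cert_tree lc_e_rc_9_3 lc_e_rc_18_1 lc_e_rc_27_1 lc_e_rc_13_1 lc_e_rc_18_1 lc_e_rc_9_3 lc_e_rc_16_5 lc_e_rc_13_3 lc_e_rc_16_3) (@D3.rec (fun _ => (Cert rels S Gen.e)) lc_e_Cert_tree lc_e_Cert_tree lc_e_Cert_tree lc_e_Cert_tree lc_e_rc_18_1 lc_e_rc_18_1 lc_e_rc_16_1 lc_e_rc_13_3 lc_e_rc_19_4 lc_e_Cert_tree lc_e_Cert_tree lc_e_rc_18_1 lc_e_rc_18_1 lc_e_rc_18_1 lc_e_rc_16_1 lc_e_rc_19_4 lc_e_rc_27_5 lc_e_Cert_tree lc_e_rc_18_1 lc_e_rc_16_3 lc_e_rc_27_5 lc_e_rc_19_4 lc_e_Cert_tree lc_e_rc_18_1 lc_e_rc_16_3 lc_e_rc_19_4 lc_e_Cert_tree lc_e_Cert_tree lc_e_rc_18_1 lc_e_Cert_tree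 lc_e_rc_18_1 lc_e_rc_19_4 lc_e_rc_18_1 lc_e_Cert_tree lc_e_Cert_tree lc_e_Cert_tree lc_e_rc_18_1 lc_e_rc_16_3 lc_e_rc_16_3 lc_e_Cert_tree lc_e_rc_18_1 lc_e_rc_13_3 lc_e_Cert_tree lc_e_rc_18_1 lc_e_rc_16_5 lc_e_rc_18_1 lc_e_rc_27_1 lc_e_rc_19_4 lc_e_Cert_tree lc_e_Cert_tree lc_e_rc_18_1 lc_e_rc_27_5 lc_e_Cert_tree lc_e_rc_18_1 lc_e_rc_13_1 lc_e_rc_18_1 lc_e_Cert_tree lc_e_rc_9_3 lc_e_rc_18_1 lc_e_rc_16_5 lc_e_rc_16_3 lc_e_rc_19_4) (@D3.rec (fun _ => (Cert rels S Gen.e)) lc_e_rc_27_7 lc_e_rc_18_1 lc_e_rc_13_3 lc_e_rc_13_1 lc_e_rc_18_1 lc_e_Cert_tree lc_e_Cert_tree lc_e_rc_18_1 lc_e_rc_9_3 lc_e_Cert_tree lc_e_Cert_tree lc_e_Cert_tree lc_e_rc_9_3 lc_e_rc_16_3 lc_e_rc_27_5 lc_e_rc_9_3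 lc_e_rc_13_3 lc_e_rc_16_1 lc_e_rc_27_5 lc_e_rc_19_0 lc_e_rc_9_1 lc_e_rc_16_3 lc_e_rc_18_1 lc_e_Cert_tree lc_e_rc_9_1 lc_e_rc_18_1 lc_e_rc_4_1 lc_e_rc_16_5 lc_e_Cert_tree lc_e_rc_9_3 lc_e_Cert_tree lc_e_rc_19_4 lc_e_rc_18_1 lc_e_rc_27_1 lc_e_rc_18_1 lc_e_rc_13_3 lc_e_rc_9_1 lc_e_rc_19_4 lc_e_rc_27_1 lc_e_rc_9_3 lc_e_rc_16_1 lc_e_rc_9_3 lc_e_rc_18_1 lc_e_rc_27_1 lc_e_Cert_tree lc_e_rc_27_5 lc_e_rc_18_1 lc_e_Cert_tree lc_e_rc_13_3 lc_e_Cert_tree lc_e_rc_18_1 lc_e_Cert_tree lc_e_rc_13_3 lc_e_rc_13_1 lc_e_rc_18_1 lc_e_rc_18_1 lc_e_rc_9_3 lc_e_rc_16_5 lc_e_rc_18_1 lc_e_rc_18_1 lc_e_Cert_tree lc_e_rc_13_3) (@D3.rec (fun _ => (Cert rels S Gen.e)) lc_e_rc_19_2 lc_e_rc_18_1 lc_e_rc_27_5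 lc_e_rc_4_3 lc_e_Cert_tree lc_e_rc_18_1 lc_e_rc_18_1 lc_e_rc_16_1 lc_e_rc_19_2 lc_e_rc_4_3 lc_e_rc_19_2 lc_e_rc_9_3 lc_e_rc_18_1 lc_e_rc_13_3 lc_e_rc_13_3 lc_e_rc_27_5 lc_e_rc_13_3 lc_e_rc_16_5 lc_e_rc_13_3 lc_e_rc_19_4 lc_e_rc_18_1 lc_e_Cert_tree lc_e_rc_18_1 lc_e_rc_27_5 lc_e_rc_4_1 lc_e_rc_18_1 lc_e_rc_9_3 lc_e_rc_13_1 lc_e_rc_18_1 lc_e_rc_13_3 lc_e_Cert_tree lc_e_rc_18_1 lc_e_rc_27_7 lc_e_rc_18_1 lc_e_rc_18_1 lc_e_rc_18_1 lc_e_rc_18_1 lc_e_Cert_tree lc_e_rc_27_5 lc_e_rc_18_1 lc_e_Cert_tree lc_e_rc_9_3 lc_e_rc_16_3 lc_e_rc_18_1 lc_e_Cert_tree lc_e_Cert_tree lc_e_rc_16_3 lc_e_rc_19_0 lc_e_rc_27_1 lc_e_rc_13_1 lc_e_rc_19_2 lc_e_rc_27_7 lc_e_rc_18_1 lc_e_rc_9_3 lc_e_Cert_tree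 lc_e_rc_9_3 lc_e_Cert_tree lc_e_rc_18_1 lc_e_Cert_tree lc_e_rc_18_1 lc_e_rc_4_3 lc_e_rc_16_1) (@D3.rec (fun _ => (Cert rels S Gen.e)) lc_e_rc_27_7 lc_e_Cert_tree lc_e_Cert_tree lc_e_rc_4_3 lc_e_rc_27_7 lc_e_Cert_tree lc_e_rc_18_1 lc_e_rc_27_5 lc_e_Cert_tree lc_e_rc_18_1 lc_e_rc_18_1 lc_e_rc_9_1 lc_e_rc_18_1 lc_e_Cert_tree lc_e_rc_18_1 lc_e_rc_27_5 lc_e_rc_13_3 lc_e_rc_13_3 lc_e_rc_27_1 lc_e_rc_18_1 lc_e_Cert_tree lc_e_rc_18_1 lc_e_rc_16_1 lc_e_rc_27_5 lc_e_rc_13_3 lc_e_rc_18_1 lc_e_rc_9_3 lc_e_rc_16_5 lc_e_rc_16_5 lc_e_rc_19_0 lc_e_rc_18_1 lc_e_rc_27_1 lc_e_Cert_tree lc_e_rc_9_3 lc_e_rc_9_3 lc_e_rc_9_3 lc_e_rc_13_1 lc_e_rc_27_5 lc_e_rc_27_7 lc_e_rc_9_1 lc_e_rc_18_1 lc_e_Cert_tree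 lc_e_Cert_tree lc_e_rc_18_1 lc_e_rc_19_2 lc_e_Cert_tree lc_e_rc_18_1 lc_e_Cert_tree lc_e_rc_18_1 lc_e_rc_27_1 lc_e_rc_16_5 lc_e_rc_27_7 lc_e_rc_4_3 lc_e_Cert_tree lc_e_rc_18_1 lc_e_rc_16_5 lc_e_rc_27_7 lc_e_rc_27_1 lc_e_rc_16_5 lc_e_rc_18_1 lc_e_rc_16_5 lc_e_rc_13_3) (@D3.rec (fun _ => (Cert rels S Gen.e)) lc_e_rc_27_7 lc_e_rc_27_7 lc_e_rc_9_3 lc_e_rc_18_1 lc_e_rc_19_0 lc_e_rc_9_3 lc_e_rc_18_1 lc_e_Cert_tree lc_e_Cert_tree lc_e_rc_9_3 lc_e_rc_16_3 lc_e_Cert_tree lc_e_rc_18_1 lc_e_rc_19_4 lc_e_rc_27_5 lc_e_rc_18_1 lc_e_rc_19_2 lc_e_rc_27_1 lc_e_rc_4_3 lc_e_rc_27_5 lc_e_rc_18_1 lc_e_Cert_tree lc_e_Cert_tree lc_e_rc_18_1 lc_e_rc_27_1 lc_e_rc_4_3 lc_e_rc_18_1 lc_e_rc_18_1 lc_e_rc_16_5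 lc_e_rc_18_1 lc_e_rc_18_1 lc_e_rc_27_7 lc_e_rc_4_3 lc_e_rc_18_1 lc_e_rc_18_1 lc_e_rc_18_1 lc_e_rc_27_1 lc_e_rc_27_5 lc_e_rc_9_1 lc_e_rc_18_1 lc_e_rc_13_1 lc_e_rc_19_4 lc_e_rc_27_1 lc_e_rc_16_1 lc_e_rc_18_1 lc_e_rc_13_3 lc_e_rc_18_1 lc_e_rc_18_1 lc_e_rc_18_1 lc_e_Cert_tree lc_e_Cert_tree lc_e_rc_9_3 lc_e_rc_19_4 lc_e_rc_13_3 lc_e_rc_9_3 lc_e_Cert_tree lc_e_rc_13_3 lc_e_rc_18_1 lc_e_rc_9_3 lc_e_rc_27_5 lc_e_rc_16_5 lc_e_rc_18_1) (@D3.rec (fun _ => (Cert rels S Gen.e)) lc_e_rc_16_1 lc_e_rc_18_1 lc_e_rc_16_3 lc_e_rc_18_1 lc_e_rc_16_5 lc_e_rc_18_1 lc_e_rc_9_3 lc_e_rc_27_1 lc_e_rc_27_1 lc_e_rc_18_1 lc_e_rc_13_3 lc_e_rc_16_5 lc_e_rc_9_3 lc_e_rc_16_5 lc_e_rc_13_3 lc_e_rc_9_3 lc_e_rc_13_1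 lc_e_rc_16_3 lc_e_rc_18_1 lc_e_rc_13_3 lc_e_Cert_tree lc_e_Cert_tree lc_e_rc_18_1 lc_e_rc_18_1 lc_e_rc_19_4 lc_e_rc_16_5 lc_e_Cert_tree lc_e_Cert_tree lc_e_rc_18_1 lc_e_rc_18_1 lc_e_rc_18_1 lc_e_rc_16_1 lc_e_rc_19_4 lc_e_Cert_tree lc_e_rc_18_1 lc_e_rc_18_1 lc_e_rc_18_1 lc_e_rc_9_1 lc_e_rc_18_1 lc_e_rc_18_1 lc_e_Cert_tree lc_e_rc_18_1 lc_e_rc_9_3 lc_e_Cert_tree lc_e_rc_18_1 lc_e_rc_9_3 lc_e_rc_4_3 lc_e_rc_18_1 lc_e_rc_16_3 lc_e_rc_18_1 lc_e_Cert_tree lc_e_rc_16_3 lc_e_rc_16_5 lc_e_rc_9_3 lc_e_rc_18_1 lc_e_rc_16_3 lc_e_rc_18_1 lc_e_rc_13_3 lc_e_Cert_tree lc_e_rc_19_2 lc_e_rc_18_1 lc_e_rc_18_1) (@D3.rec (fun _ => (Cert rels S Gen.e)) lc_e_rc_16_1 lc_e_rc_18_1 lc_e_rc_9_1 lc_e_rc_19_4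 lc_e_rc_13_1 lc_e_Cert_tree lc_e_Cert_tree lc_e_Cert_tree lc_e_rc_18_1 lc_e_rc_18_1 lc_e_rc_13_3 lc_e_rc_13_3 lc_e_rc_16_1 lc_e_rc_19_4 lc_e_rc_13_1 lc_e_rc_27_5 lc_e_rc_16_5 lc_e_rc_9_3 lc_e_Cert_tree lc_e_rc_27_5 lc_e_rc_18_1 lc_e_rc_18_1 lc_e_rc_16_1 lc_e_rc_16_5 lc_e_rc_16_3 lc_e_Cert_tree lc_e_rc_9_1 lc_e_rc_18_1 lc_e_rc_18_1 lc_e_rc_16_1 lc_e_rc_18_1 lc_e_rc_13_3 lc_e_rc_18_1 lc_e_Cert_tree lc_e_rc_18_1 lc_e_rc_19_2 lc_e_rc_9_3 lc_e_Cert_tree lc_e_rc_13_3 lc_e_Cert_tree lc_e_rc_18_1 lc_e_Cert_tree lc_e_rc_4_3 lc_e_Cert_tree lc_e_rc_18_1 lc_e_rc_4_3 lc_e_rc_16_3 lc_e_rc_13_3 lc_e_rc_27_5 lc_e_rc_18_1 lc_e_rc_9_3 lc_e_Cert_tree lc_e_rc_19_4 lc_e_rc_18_1 lc_e_rc_27_1 lc_e_rc_19_2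 lc_e_Cert_tree lc_e_rc_13_3 lc_e_rc_18_1 lc_e_rc_16_3 lc_e_Cert_tree lc_e_rc_16_3) (@D3.rec (fun _ => (Cert rels S Gen.e)) lc_e_rc_18_1 lc_e_rc_16_5 lc_e_rc_19_4 lc_e_rc_9_3 lc_e_rc_19_2 lc_e_rc_9_1 lc_e_rc_19_2 lc_e_rc_16_3 lc_e_rc_18_1 lc_e_rc_13_3 lc_e_rc_13_3 lc_e_rc_9_3 lc_e_rc_19_0 lc_e_rc_19_0 lc_e_rc_4_3 lc_e_rc_18_1 lc_e_rc_19_2 lc_e_Cert_tree lc_e_rc_18_1 lc_e_rc_18_1 lc_e_rc_18_1 lc_e_Cert_tree lc_e_rc_18_1 lc_e_rc_18_1 lc_e_Cert_tree lc_e_Cert_tree lc_e_rc_18_1 lc_e_rc_18_1 lc_e_rc_18_1 lc_e_rc_9_3 lc_e_Cert_tree lc_e_rc_18_1 lc_e_rc_9_1 lc_e_rc_19_4 lc_e_Cert_tree lc_e_rc_18_1 lc_e_rc_18_1 lc_e_rc_18_1 lc_e_rc_19_4 lc_e_rc_18_1 lc_e_rc_18_1 lc_e_rc_13_3 lc_e_rc_13_1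 lc_e_rc_16_5 lc_e_rc_13_3 lc_e_rc_9_3 lc_e_rc_13_1 lc_e_rc_27_5 lc_e_rc_16_3 lc_e_rc_13_1 lc_e_rc_27_1 lc_e_rc_16_5 lc_e_rc_13_3 lc_e_rc_16_3 lc_e_rc_18_1 lc_e_rc_4_3 lc_e_rc_19_2 lc_e_rc_16_3 lc_e_rc_18_1 lc_e_Cert_tree lc_e_rc_18_1 lc_e_Cert_tree) (@D3.rec (fun _ => (Cert rels S Gen.e)) lc_e_rc_18_1 lc_e_rc_9_1 lc_e_Cert_tree lc_e_rc_18_1 lc_e_rc_27_1 lc_e_rc_27_5 lc_e_rc_19_4 lc_e_rc_13_3 lc_e_rc_13_3 lc_e_rc_18_1 lc_e_rc_4_3 lc_e_rc_16_3 lc_e_rc_19_4 lc_e_rc_9_1 lc_e_rc_18_1 lc_e_rc_27_5 lc_e_Cert_tree lc_e_rc_4_1 lc_e_rc_18_1 lc_e_rc_4_3 lc_e_rc_16_1 lc_e_rc_19_4 lc_e_rc_13_3 lc_e_Cert_tree lc_e_rc_19_0 lc_e_rc_27_5 lc_e_rc_18_1 lc_e_rc_18_1 lc_e_rc_19_4 lc_e_rc_4_1 lc_e_rc_18_1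 lc_e_rc_16_5 lc_e_rc_18_1 lc_e_Cert_tree lc_e_rc_27_5 lc_e_rc_18_1 lc_e_rc_27_1 lc_e_rc_13_3 lc_e_rc_16_1 lc_e_rc_18_1 lc_e_rc_16_3 lc_e_rc_18_1 lc_e_rc_18_1 lc_e_rc_19_4 lc_e_Cert_tree lc_e_rc_18_1 lc_e_rc_18_1 lc_e_rc_16_1 lc_e_rc_19_2 lc_e_rc_13_3 lc_e_rc_13_3 lc_e_Cert_tree lc_e_rc_27_7 lc_e_rc_18_1 lc_e_rc_4_3 lc_e_rc_18_1 lc_e_rc_19_4 lc_e_rc_13_1 lc_e_rc_18_1 lc_e_rc_4_1 lc_e_rc_18_1 lc_e_rc_9_3) (@D3.rec (fun _ => (Cert rels S Gen.e)) lc_e_rc_9_3 lc_e_rc_9_1 lc_e_rc_19_4 lc_e_rc_18_1 lc_e_rc_16_1 lc_e_rc_16_3 lc_e_rc_19_4 lc_e_Cert_tree lc_e_rc_18_1 lc_e_rc_13_3 lc_e_Cert_tree lc_e_rc_18_1 lc_e_rc_9_1 lc_e_rc_18_1 lc_e_rc_13_3 lc_e_Cert_tree lc_e_rc_18_1 lc_e_Cert_tree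 lc_e_rc_19_4 lc_e_rc_19_2 lc_e_rc_13_3 lc_e_rc_9_3 lc_e_rc_13_3 lc_e_rc_27_7 lc_e_rc_9_3 lc_e_rc_16_5 lc_e_rc_13_3 lc_e_rc_19_4 lc_e_rc_18_1 lc_e_rc_16_5 lc_e_rc_16_5 lc_e_rc_13_3 lc_e_rc_13_3 lc_e_rc_16_5 lc_e_rc_9_3 lc_e_rc_4_3 lc_e_Cert_tree lc_e_rc_18_1 lc_e_rc_18_1 lc_e_rc_13_3 lc_e_rc_19_4 lc_e_rc_18_1 lc_e_Cert_tree lc_e_rc_18_1 lc_e_Cert_tree lc_e_rc_16_3 lc_e_rc_18_1 lc_e_rc_18_1 lc_e_rc_27_7 lc_e_rc_13_3 lc_e_Cert_tree lc_e_rc_18_1 lc_e_rc_19_2 lc_e_rc_18_1 lc_e_rc_27_5 lc_e_rc_18_1 lc_e_rc_4_1 lc_e_rc_16_1 lc_e_rc_18_1 lc_e_rc_9_1 lc_e_Cert_tree lc_e_rc_18_1) (@D3.rec (fun _ => (Cert rels S Gen.e)) lc_e_rc_18_1 lc_e_rc_13_3 lc_e_Cert_tree lc_e_rc_18_1 lc_e_rc_9_3 lc_e_Cert_tree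 lc_e_rc_9_3 lc_e_rc_13_3 lc_e_rc_18_1 lc_e_Cert_tree lc_e_rc_13_1 lc_e_Cert_tree lc_e_rc_27_5 lc_e_rc_18_1 lc_e_rc_16_3 lc_e_rc_13_3 lc_e_rc_18_1 lc_e_rc_9_3 lc_e_rc_18_1 lc_e_rc_9_3 lc_e_Cert_tree lc_e_rc_19_2 lc_e_rc_19_4 lc_e_rc_18_1 lc_e_Cert_tree lc_e_rc_9_3 lc_e_rc_16_5 lc_e_rc_13_3 lc_e_rc_19_4 lc_e_rc_18_1 lc_e_rc_13_3 lc_e_rc_4_1 lc_e_rc_18_1 lc_e_Cert_tree lc_e_rc_9_3 lc_e_Cert_tree lc_e_rc_18_1 lc_e_rc_19_4 lc_e_rc_18_1 lc_e_rc_27_1 lc_e_rc_19_4 lc_e_rc_13_3 lc_e_rc_27_1 lc_e_Cert_tree lc_e_rc_4_3 lc_e_rc_18_1 lc_e_rc_19_4 lc_e_Cert_tree lc_e_rc_18_1 lc_e_rc_9_1 lc_e_rc_18_1 lc_e_rc_13_3 lc_e_Cert_tree lc_e_rc_4_3 lc_e_rc_9_3 lc_e_rc_27_5 lc_e_rc_27_5 lc_e_Cert_tree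 lc_e_rc_27_1 lc_e_rc_19_2 lc_e_rc_13_1 lc_e_Cert_tree) (@D3.rec (fun _ => (Cert rels S Gen.e)) lc_e_rc_18_1 lc_e_rc_9_1 lc_e_Cert_tree lc_e_rc_16_5 lc_e_rc_18_1 lc_e_rc_13_3 lc_e_rc_4_1 lc_e_rc_19_0 lc_e_rc_9_3 lc_e_rc_18_1 lc_e_rc_18_1 lc_e_rc_27_5 lc_e_rc_19_2 lc_e_rc_9_3 lc_e_Cert_tree lc_e_rc_9_3 lc_e_Cert_tree lc_e_Cert_tree lc_e_rc_18_1 lc_e_rc_16_5 lc_e_rc_27_7 lc_e_rc_18_1 lc_e_rc_13_3 lc_e_rc_18_1 lc_e_rc_27_5 lc_e_rc_19_4 lc_e_rc_18_1 lc_e_rc_18_1 lc_e_rc_18_1 lc_e_rc_18_1 lc_e_rc_16_5 lc_e_Cert_tree lc_e_rc_18_1 lc_e_Cert_tree lc_e_rc_18_1 lc_e_Cert_tree lc_e_rc_13_1 lc_e_rc_16_3 lc_e_rc_16_3 lc_e_rc_27_1 lc_e_rc_4_1 lc_e_rc_18_1 lc_e_Cert_tree lc_e_Cert_tree lc_e_rc_18_1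 lc_e_rc_27_7 lc_e_rc_13_1 lc_e_rc_16_5 lc_e_rc_13_1 lc_e_rc_9_1 lc_e_Cert_tree lc_e_rc_27_5 lc_e_rc_18_1 lc_e_rc_13_1 lc_e_rc_18_1 lc_e_rc_18_1 lc_e_rc_13_3 lc_e_rc_27_5 lc_e_rc_13_1 lc_e_Cert_tree lc_e_Cert_tree lc_e_rc_4_3) (@D3.rec (fun _ => (Cert rels S Gen.e)) lc_e_Cert_tree lc_e_rc_18_1 lc_e_rc_18_1 lc_e_Cert_tree lc_e_rc_19_4 lc_e_rc_4_3 lc_e_rc_18_1 lc_e_Cert_tree lc_e_rc_18_1 lc_e_Cert_tree lc_e_rc_18_1 lc_e_Cert_tree lc_e_rc_13_1 lc_e_rc_16_1 lc_e_rc_13_3 lc_e_Cert_tree lc_e_rc_18_1 lc_e_Cert_tree lc_e_rc_19_2 lc_e_rc_18_1 lc_e_rc_18_1 lc_e_rc_16_5 lc_e_rc_18_1 lc_e_rc_9_1 lc_e_rc_18_1 lc_e_rc_13_3 lc_e_rc_4_3 lc_e_rc_18_1 lc_e_rc_18_1 lc_e_Cert_tree lc_e_rc_19_4 lc_e_rc_16_5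 lc_e_Cert_tree lc_e_rc_9_1 lc_e_Cert_tree lc_e_rc_18_1 lc_e_rc_16_5 lc_e_rc_16_1 lc_e_rc_16_3 lc_e_rc_19_4 lc_e_rc_4_3 lc_e_rc_13_1 lc_e_rc_18_1 lc_e_rc_9_3 lc_e_rc_13_3 lc_e_rc_18_1 lc_e_rc_13_3 lc_e_rc_16_5 lc_e_rc_13_1 lc_e_rc_13_1 lc_e_rc_9_3 lc_e_rc_18_1 lc_e_rc_13_3 lc_e_rc_9_3 lc_e_rc_13_3 lc_e_rc_13_3 lc_e_rc_27_1 lc_e_rc_18_1 lc_e_rc_13_1 lc_e_Cert_tree lc_e_rc_16_5 lc_e_rc_18_1) (@D3.rec (fun _ => (Cert rels S Gen.e)) lc_e_rc_19_4 lc_e_rc_18_1 lc_e_rc_9_3 lc_e_Cert_tree lc_e_rc_18_1 lc_e_rc_16_5 lc_e_rc_18_1 lc_e_rc_13_3 lc_e_rc_18_1 lc_e_Cert_tree lc_e_rc_16_3 lc_e_rc_18_1 lc_e_rc_4_3 lc_e_rc_18_1 lc_e_rc_18_1 lc_e_rc_16_5 lc_e_rc_18_1 lc_e_rc_13_1 lc_e_rc_9_1 lc_e_rc_18_1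 lc_e_rc_19_4 lc_e_rc_18_1 lc_e_rc_9_1 lc_e_rc_13_1 lc_e_rc_18_1 lc_e_rc_18_1 lc_e_rc_19_4 lc_e_Cert_tree lc_e_rc_19_2 lc_e_rc_27_5 lc_e_rc_9_3 lc_e_rc_19_4 lc_e_rc_18_1 lc_e_rc_27_5 lc_e_rc_13_3 lc_e_rc_18_1 lc_e_rc_9_3 lc_e_rc_16_1 lc_e_rc_19_4 lc_e_rc_18_1 lc_e_rc_27_5 lc_e_rc_13_3 lc_e_rc_13_3 lc_e_rc_18_1 lc_e_rc_18_1 lc_e_rc_27_1 lc_e_rc_13_3 lc_e_rc_27_7 lc_e_rc_18_1 lc_e_rc_13_3 lc_e_rc_18_1 lc_e_rc_18_1 lc_e_rc_18_1 lc_e_rc_9_1 lc_e_rc_19_4 lc_e_rc_18_1 lc_e_rc_16_1 lc_e_Cert_tree lc_e_rc_16_5 lc_e_rc_18_1 lc_e_rc_18_1 lc_e_rc_27_1) (@D3.rec (fun _ => (Cert rels S Gen.e)) lc_e_rc_16_3 lc_e_rc_13_1 lc_e_rc_18_1 lc_e_rc_27_7 lc_e_rc_13_3 lc_e_rc_19_4 lc_e_rc_27_7 lc_e_rc_18_1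 lc_e_rc_9_3 lc_e_Cert_tree lc_e_rc_16_3 lc_e_rc_19_4 lc_e_rc_4_1 lc_e_Cert_tree lc_e_rc_18_1 lc_e_Cert_tree lc_e_rc_18_1 lc_e_rc_16_1 lc_e_rc_4_3 lc_e_rc_13_3 lc_e_Cert_tree lc_e_rc_18_1 lc_e_Cert_tree lc_e_rc_18_1 lc_e_rc_18_1 lc_e_rc_27_5 lc_e_rc_18_1 lc_e_Cert_tree lc_e_Cert_tree lc_e_rc_18_1 lc_e_rc_13_1 lc_e_rc_4_1 lc_e_rc_27_5 lc_e_Cert_tree lc_e_rc_18_1 lc_e_rc_18_1 lc_e_rc_18_1 lc_e_Cert_tree lc_e_rc_4_1 lc_e_Cert_tree lc_e_Cert_tree lc_e_rc_18_1 lc_e_rc_4_1 lc_e_rc_18_1 lc_e_Cert_tree lc_e_Cert_tree lc_e_rc_18_1 lc_e_rc_18_1 lc_e_Cert_tree lc_e_rc_4_3 lc_e_rc_18_1 lc_e_rc_18_1 lc_e_Cert_tree lc_e_Cert_tree lc_e_rc_16_3 lc_e_rc_18_1 lc_e_rc_9_3 lc_e_rc_19_4 lc_e_Cert_tree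 lc_e_Cert_tree lc_e_rc_18_1 lc_e_rc_9_3) (@D3.rec (fun _ => (Cert rels S Gen.e)) lc_e_rc_18_1 lc_e_rc_18_1 lc_e_rc_27_5 lc_e_rc_4_3 lc_e_rc_13_3 lc_e_rc_4_1 lc_e_rc_18_1 lc_e_Cert_tree lc_e_rc_18_1 lc_e_rc_18_1 lc_e_rc_13_3 lc_e_Cert_tree lc_e_Cert_tree lc_e_rc_18_1 lc_e_Cert_tree lc_e_rc_18_1 lc_e_Cert_tree lc_e_rc_27_5 lc_e_rc_13_1 lc_e_Cert_tree lc_e_Cert_tree lc_e_rc_18_1 lc_e_rc_19_4 lc_e_rc_13_3 lc_e_rc_19_4 lc_e_rc_13_1 lc_e_rc_27_5 lc_e_rc_16_3 lc_e_rc_13_3 lc_e_rc_4_1 lc_e_rc_4_1 lc_e_Cert_tree lc_e_rc_9_1 lc_e_rc_16_1 lc_e_Cert_tree lc_e_rc_18_1 lc_e_rc_16_3 lc_e_rc_19_4 lc_e_Cert_tree lc_e_rc_18_1 lc_e_rc_18_1 lc_e_rc_18_1 lc_e_rc_18_1 lc_e_rc_18_1 lc_e_rc_27_5 lc_e_rc_4_1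 lc_e_rc_18_1 lc_e_rc_4_1 lc_e_rc_18_1 lc_e_rc_18_1 lc_e_rc_9_1 lc_e_rc_13_3 lc_e_rc_16_5 lc_e_rc_16_3 lc_e_rc_18_1 lc_e_rc_27_7 lc_e_rc_19_4 lc_e_rc_9_3 lc_e_rc_19_2 lc_e_rc_27_1 lc_e_rc_9_1 lc_e_rc_18_1)
def ce_e_17 : D2 → D3 → (Cert rels S Gen.e) := @D2.rec (fun _ => D3 → (Cert rels S Gen.e)) (@D3.rec (fun _ => (Cert rels S Gen.e)) lc_e_rc_18_1 lc_e_rc_13_3 lc_e_rc_18_1 lc_e_Cert_tree lc_e_Cert_tree lc_e_rc_16_1 lc_e_rc_4_3 lc_e_rc_18_1 lc_e_rc_27_5 lc_e_rc_18_1 lc_e_Cert_tree lc_e_rc_19_0 lc_e_rc_9_1 lc_e_rc_18_1 lc_e_rc_13_1 lc_e_Cert_tree lc_e_rc_18_1 lc_e_rc_18_1 lc_e_rc_18_1 lc_e_rc_18_1 lc_e_Cert_tree lc_e_rc_19_4 lc_e_rc_27_1 lc_e_rc_9_3 lc_e_rc_16_3 lc_e_Cert_tree lc_e_rc_9_3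 lc_e_rc_16_1 lc_e_rc_19_4 lc_e_Cert_tree lc_e_rc_13_3 lc_e_rc_18_1 lc_e_rc_27_7 lc_e_rc_18_1 lc_e_rc_9_3 lc_e_rc_16_5 lc_e_rc_9_1 lc_e_rc_18_1 lc_e_rc_18_1 lc_e_rc_18_1 lc_e_rc_16_1 lc_e_rc_18_1 lc_e_rc_9_1 lc_e_rc_16_5 lc_e_rc_16_3 lc_e_rc_18_1 lc_e_rc_16_1 lc_e_rc_13_3 lc_e_Cert_tree lc_e_rc_19_4 lc_e_rc_18_1 lc_e_rc_18_1 lc_e_rc_4_3 lc_e_rc_16_3 lc_e_Cert_tree lc_e_rc_18_1 lc_e_rc_18_1 lc_e_Cert_tree lc_e_rc_18_1 lc_e_rc_16_3 lc_e_rc_19_4 lc_e_rc_9_3) (@D3.rec (fun _ => (Cert rels S Gen.e)) lc_e_rc_13_3 lc_e_rc_16_1 lc_e_Cert_tree lc_e_rc_13_1 lc_e_Cert_tree lc_e_rc_18_1 lc_e_Cert_tree lc_e_rc_9_3 lc_e_rc_13_3 lc_e_rc_9_1 lc_e_rc_18_1 lc_e_Cert_tree lc_e_rc_18_1 lc_e_Cert_tree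 lc_e_rc_13_1 lc_e_rc_18_1 lc_e_rc_13_3 lc_e_rc_19_2 lc_e_rc_13_3 lc_e_rc_19_0 lc_e_rc_13_3 lc_e_rc_13_1 lc_e_rc_18_1 lc_e_rc_18_1 lc_e_rc_18_1 lc_e_rc_16_1 lc_e_rc_9_3 lc_e_rc_18_1 lc_e_rc_19_4 lc_e_rc_18_1 lc_e_rc_9_3 lc_e_rc_4_1 lc_e_rc_18_1 lc_e_rc_16_3 lc_e_rc_18_1 lc_e_rc_4_3 lc_e_Cert_tree lc_e_Cert_tree lc_e_Cert_tree lc_e_Cert_tree lc_e_Cert_tree lc_e_rc_18_1 lc_e_Cert_tree lc_e_rc_18_1 lc_e_rc_9_3 lc_e_Cert_tree lc_e_Cert_tree lc_e_rc_18_1 lc_e_Cert_tree lc_e_rc_13_3 lc_e_rc_18_1 lc_e_rc_18_1 lc_e_Cert_tree lc_e_Cert_tree lc_e_rc_18_1 lc_e_rc_16_3 lc_e_rc_9_3 lc_e_Cert_tree lc_e_Cert_tree lc_e_Cert_tree lc_e_rc_18_1 lc_e_rc_9_3) (@D3.rec (fun _ => (Cert rels S Gen.e))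 lc_e_rc_13_3 lc_e_Cert_tree lc_e_rc_16_3 lc_e_Cert_tree lc_e_rc_18_1 lc_e_Cert_tree lc_e_rc_18_1 lc_e_rc_27_1 lc_e_rc_16_1 lc_e_rc_16_3 lc_e_rc_18_1 lc_e_rc_9_1 lc_e_rc_18_1 lc_e_rc_27_7 lc_e_rc_13_3 lc_e_rc_27_7 lc_e_rc_19_0 lc_e_rc_27_5 lc_e_rc_9_1 lc_e_rc_4_3 lc_e_Cert_tree lc_e_rc_18_1 lc_e_rc_18_1 lc_e_rc_9_1 lc_e_rc_18_1 lc_e_rc_19_2 lc_e_rc_4_3 lc_e_rc_18_1 lc_e_rc_13_3 lc_e_Cert_tree lc_e_rc_16_1 lc_e_rc_13_3 lc_e_rc_13_3 lc_e_rc_27_5 lc_e_rc_19_4 lc_e_rc_18_1 lc_e_rc_13_3 lc_e_rc_16_1 lc_e_rc_13_1 lc_e_rc_18_1 lc_e_rc_13_3 lc_e_rc_18_1 lc_e_rc_16_1 lc_e_rc_16_5 lc_e_rc_19_4 lc_e_rc_9_3 lc_e_rc_4_3 lc_e_rc_13_3 lc_e_rc_19_4 lc_e_rc_18_1 lc_e_rc_13_3 lc_e_rc_18_1 lc_e_rc_16_3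 lc_e_rc_18_1 lc_e_rc_27_5 lc_e_rc_18_1 lc_e_Cert_tree lc_e_rc_27_5 lc_e_rc_18_1 lc_e_rc_9_1 lc_e_rc_16_3 lc_e_rc_19_4) (@D3.rec (fun _ => (Cert rels S Gen.e)) lc_e_rc_18_1 lc_e_rc_18_1 lc_e_rc_13_1 lc_e_rc_16_3 lc_e_rc_19_4 lc_e_rc_13_3 lc_e_rc_27_7 lc_e_rc_27_5 lc_e_rc_13_1 lc_e_rc_13_3 lc_e_rc_16_3 lc_e_rc_18_1 lc_e_rc_19_0 lc_e_rc_13_3 lc_e_rc_16_1 lc_e_rc_19_4 lc_e_rc_18_1 lc_e_rc_18_1 lc_e_rc_4_1 lc_e_rc_13_3 lc_e_Cert_tree lc_e_rc_18_1 lc_e_rc_16_5 lc_e_rc_18_1 lc_e_rc_27_7 lc_e_Cert_tree lc_e_rc_19_4 lc_e_rc_18_1 lc_e_rc_18_1 lc_e_Cert_tree lc_e_Cert_tree lc_e_rc_18_1 lc_e_rc_4_3 lc_e_rc_27_7 lc_e_rc_27_5 lc_e_rc_19_2 lc_e_rc_16_5 lc_e_Cert_tree lc_e_Cert_tree lc_e_rc_18_1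 lc_e_rc_16_5 lc_e_Cert_tree lc_e_rc_13_3 lc_e_rc_16_3 lc_e_Cert_tree lc_e_rc_18_1 lc_e_Cert_tree lc_e_rc_18_1 lc_e_rc_13_3 lc_e_rc_27_5 lc_e_rc_18_1 lc_e_rc_16_1 lc_e_rc_18_1 lc_e_Cert_tree lc_e_rc_27_7 lc_e_rc_18_1 lc_e_Cert_tree lc_e_rc_13_3 lc_e_rc_18_1 lc_e_rc_13_1 lc_e_Cert_tree lc_e_Cert_tree) (@D3.rec (fun _ => (Cert rels S Gen.e)) lc_e_rc_18_1 lc_e_rc_19_0 lc_e_rc_13_1 lc_e_rc_13_3 lc_e_Cert_tree lc_e_rc_18_1 lc_e_rc_18_1 lc_e_rc_9_3 lc_e_rc_13_3 lc_e_rc_27_1 lc_e_rc_9_3 lc_e_rc_9_3 lc_e_rc_18_1 lc_e_rc_27_5 lc_e_rc_13_3 lc_e_rc_13_3 lc_e_rc_16_3 lc_e_rc_19_4 lc_e_rc_13_3 lc_e_rc_16_1 lc_e_rc_19_4 lc_e_Cert_tree lc_e_Cert_tree lc_e_rc_18_1 lc_e_rc_13_3 lc_e_rc_16_1 lc_e_rc_16_3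 lc_e_rc_4_3 lc_e_Cert_tree lc_e_rc_27_1 lc_e_rc_4_3 lc_e_rc_16_1 lc_e_rc_18_1 lc_e_rc_27_1 lc_e_rc_18_1 lc_e_rc_19_2 lc_e_rc_16_3 lc_e_rc_18_1 lc_e_rc_18_1 lc_e_rc_19_4 lc_e_rc_9_3 lc_e_rc_13_3 lc_e_rc_9_3 lc_e_rc_13_3 lc_e_rc_27_7 lc_e_rc_18_1 lc_e_rc_16_3 lc_e_rc_16_3 lc_e_rc_13_3 lc_e_Cert_tree lc_e_rc_18_1 lc_e_rc_16_5 lc_e_rc_19_4 lc_e_rc_13_3 lc_e_rc_9_3 lc_e_Cert_tree lc_e_rc_13_1 lc_e_rc_13_3 lc_e_rc_19_2 lc_e_rc_9_3 lc_e_rc_19_4 lc_e_rc_9_3) (@D3.rec (fun _ => (Cert rels S Gen.e)) lc_e_rc_16_3 lc_e_rc_19_2 lc_e_rc_4_1 lc_e_rc_27_5 lc_e_rc_9_1 lc_e_rc_9_3 lc_e_rc_16_1 lc_e_rc_19_4 lc_e_rc_9_1 lc_e_rc_18_1 lc_e_rc_9_1 lc_e_rc_18_1 lc_e_rc_13_3 lc_e_rc_18_1 lc_e_rc_19_2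 lc_e_rc_18_1 lc_e_rc_13_3 lc_e_rc_18_1 lc_e_rc_27_7 lc_e_rc_9_3 lc_e_rc_18_1 lc_e_rc_9_3 lc_e_rc_18_1 lc_e_rc_16_3 lc_e_rc_19_4 lc_e_rc_18_1 lc_e_Cert_tree lc_e_rc_16_1 lc_e_rc_19_4 lc_e_rc_27_7 lc_e_Cert_tree lc_e_rc_13_1 lc_e_rc_16_3 lc_e_Cert_tree lc_e_rc_18_1 lc_e_rc_18_1 lc_e_rc_18_1 lc_e_rc_9_3 lc_e_rc_9_1 lc_e_rc_16_3 lc_e_rc_19_4 lc_e_rc_16_1 lc_e_rc_19_4 lc_e_rc_18_1 lc_e_rc_18_1 lc_e_rc_13_3 lc_e_rc_13_3 lc_e_rc_16_3 lc_e_rc_19_2 lc_e_rc_18_1 lc_e_rc_18_1 lc_e_rc_19_4 lc_e_rc_27_1 lc_e_rc_18_1 lc_e_rc_18_1 lc_e_Cert_tree lc_e_rc_27_5 lc_e_rc_13_3 lc_e_Cert_tree lc_e_Cert_tree lc_e_rc_4_3 lc_e_rc_27_1) (@D3.rec (fun _ => (Cert rels S Gen.e)) lc_e_rc_18_1 lc_e_rc_27_5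 lc_e_rc_27_5 lc_e_Cert_tree lc_e_rc_18_1 lc_e_rc_13_1 lc_e_rc_16_1 lc_e_rc_19_2 lc_e_rc_18_1 lc_e_rc_9_3 lc_e_rc_9_3 lc_e_rc_27_5 lc_e_rc_27_5 lc_e_Cert_tree lc_e_rc_18_1 lc_e_rc_9_1 lc_e_rc_18_1 lc_e_rc_27_5 lc_e_rc_13_3 lc_e_rc_4_3 lc_e_rc_27_5 lc_e_rc_9_3 lc_e_rc_19_0 lc_e_rc_16_1 lc_e_rc_16_5 lc_e_rc_27_5 lc_e_rc_16_1 lc_e_Cert_tree lc_e_rc_18_1 lc_e_rc_19_2 lc_e_rc_13_3 lc_e_Cert_tree lc_e_rc_18_1 lc_e_rc_13_3 lc_e_Cert_tree lc_e_rc_18_1 lc_e_rc_9_1 lc_e_rc_16_3 lc_e_rc_18_1 lc_e_rc_9_3 lc_e_rc_27_5 lc_e_rc_18_1 lc_e_rc_18_1 lc_e_rc_9_1 lc_e_Cert_tree lc_e_rc_4_1 lc_e_rc_18_1 lc_e_rc_16_5 lc_e_Cert_tree lc_e_Cert_tree lc_e_rc_18_1 lc_e_rc_16_3 lc_e_rc_18_1 lc_e_Cert_tree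 lc_e_Cert_tree lc_e_rc_18_1 lc_e_rc_18_1 lc_e_rc_19_4 lc_e_Cert_tree lc_e_rc_27_1 lc_e_Cert_tree lc_e_Cert_tree) (@D3.rec (fun _ => (Cert rels S Gen.e)) lc_e_rc_18_1 lc_e_rc_27_5 lc_e_rc_16_3 lc_e_rc_4_3 lc_e_rc_13_3 lc_e_Cert_tree lc_e_Cert_tree lc_e_rc_18_1 lc_e_rc_9_3 lc_e_rc_16_5 lc_e_rc_18_1 lc_e_rc_4_3 lc_e_Cert_tree lc_e_rc_27_1 lc_e_Cert_tree lc_e_rc_16_3 lc_e_rc_18_1 lc_e_rc_18_1 lc_e_rc_16_3 lc_e_rc_19_4 lc_e_rc_18_1 lc_e_rc_13_3 lc_e_rc_18_1 lc_e_rc_16_1 lc_e_rc_9_1 lc_e_rc_16_3 lc_e_rc_27_7 lc_e_rc_18_1 lc_e_rc_27_7 lc_e_rc_9_1 lc_e_rc_4_1 lc_e_rc_18_1 lc_e_rc_13_1 lc_e_rc_9_3 lc_e_rc_18_1 lc_e_rc_16_1 lc_e_rc_9_3 lc_e_Cert_tree lc_e_rc_27_7 lc_e_rc_27_7 lc_e_rc_27_7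 lc_e_rc_13_3 lc_e_rc_27_1 lc_e_rc_4_3 lc_e_rc_18_1 lc_e_rc_4_1 lc_e_rc_9_3 lc_e_rc_16_1 lc_e_rc_9_3 lc_e_rc_9_3 lc_e_rc_18_1 lc_e_rc_18_1 lc_e_rc_18_1 lc_e_rc_4_3 lc_e_rc_9_1 lc_e_rc_18_1 lc_e_rc_18_1 lc_e_rc_16_5 lc_e_rc_18_1 lc_e_rc_16_1 lc_e_rc_16_5 lc_e_rc_19_2) (@D3.rec (fun _ => (Cert rels S Gen.e)) lc_e_rc_13_3 lc_e_rc_18_1 lc_e_rc_19_4 lc_e_rc_9_3 lc_e_rc_18_1 lc_e_rc_13_3 lc_e_rc_4_3 lc_e_rc_27_5 lc_e_rc_27_5 lc_e_rc_27_7 lc_e_Cert_tree lc_e_rc_18_1 lc_e_rc_4_3 lc_e_rc_18_1 lc_e_rc_16_1 lc_e_rc_27_7 lc_e_rc_18_1 lc_e_rc_27_7 lc_e_rc_16_5 lc_e_rc_18_1 lc_e_rc_27_5 lc_e_rc_13_3 lc_e_rc_19_0 lc_e_Cert_tree lc_e_rc_18_1 lc_e_rc_18_1 lc_e_rc_16_5 lc_e_rc_13_3 lc_e_rc_19_4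 lc_e_rc_9_3 lc_e_rc_16_3 lc_e_rc_18_1 lc_e_rc_18_1 lc_e_rc_19_2 lc_e_rc_19_4 lc_e_rc_18_1 lc_e_rc_18_1 lc_e_rc_18_1 lc_e_Cert_tree lc_e_rc_18_1 lc_e_rc_27_1 lc_e_rc_18_1 lc_e_rc_27_5 lc_e_rc_13_1 lc_e_rc_16_1 lc_e_rc_16_1 lc_e_rc_19_4 lc_e_rc_18_1 lc_e_rc_18_1 lc_e_rc_19_4 lc_e_rc_18_1 lc_e_rc_13_3 lc_e_Cert_tree lc_e_rc_18_1 lc_e_rc_16_1 lc_e_rc_9_3 lc_e_rc_27_7 lc_e_rc_4_1 lc_e_rc_13_1 lc_e_rc_18_1 lc_e_rc_13_3 lc_e_rc_27_5) (@D3.rec (fun _ => (Cert rels S Gen.e)) lc_e_rc_4_3 lc_e_rc_27_5 lc_e_rc_19_2 lc_e_rc_18_1 lc_e_rc_18_1 lc_e_rc_9_3 lc_e_rc_16_3 lc_e_rc_19_4 lc_e_rc_13_3 lc_e_rc_9_3 lc_e_Cert_tree lc_e_rc_18_1 lc_e_rc_13_1 lc_e_Cert_tree lc_e_rc_18_1 lc_e_Cert_tree lc_e_Cert_tree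 lc_e_rc_18_1 lc_e_Cert_tree lc_e_rc_18_1 lc_e_rc_18_1 lc_e_Cert_tree lc_e_rc_18_1 lc_e_rc_27_1 lc_e_rc_9_3 lc_e_rc_16_5 lc_e_rc_16_5 lc_e_Cert_tree lc_e_rc_18_1 lc_e_Cert_tree lc_e_rc_18_1 lc_e_rc_4_1 lc_e_Cert_tree lc_e_rc_18_1 lc_e_rc_9_3 lc_e_rc_19_2 lc_e_rc_18_1 lc_e_rc_27_5 lc_e_rc_13_3 lc_e_rc_9_3 lc_e_rc_27_5 lc_e_rc_13_3 lc_e_rc_18_1 lc_e_rc_13_3 lc_e_rc_9_3 lc_e_rc_16_5 lc_e_rc_13_1 lc_e_rc_18_1 lc_e_rc_27_7 lc_e_Cert_tree lc_e_rc_18_1 lc_e_rc_27_5 lc_e_rc_9_3 lc_e_rc_27_7 lc_e_rc_9_3 lc_e_rc_16_3 lc_e_rc_27_1 lc_e_rc_18_1 lc_e_Cert_tree lc_e_rc_27_5 lc_e_rc_18_1 lc_e_rc_19_0) (@D3.rec (fun _ => (Cert rels S Gen.e)) lc_e_rc_16_5 lc_e_rc_19_0 lc_e_rc_13_1 lc_e_rc_18_1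 lc_e_rc_4_3 lc_e_rc_18_1 lc_e_rc_13_3 lc_e_rc_19_2 lc_e_rc_13_3 lc_e_rc_18_1 lc_e_rc_16_5 lc_e_Cert_tree lc_e_Cert_tree lc_e_Cert_tree lc_e_rc_18_1 lc_e_Cert_tree lc_e_Cert_tree lc_e_rc_4_3 lc_e_rc_16_3 lc_e_rc_27_5 lc_e_rc_16_5 lc_e_rc_19_0 lc_e_rc_13_3 lc_e_rc_9_1 lc_e_rc_27_5 lc_e_rc_27_5 lc_e_rc_4_3 lc_e_Cert_tree lc_e_Cert_tree lc_e_rc_18_1 lc_e_rc_18_1 lc_e_rc_18_1 lc_e_rc_18_1 lc_e_rc_16_1 lc_e_rc_19_4 lc_e_rc_18_1 lc_e_rc_16_1 lc_e_rc_19_4 lc_e_Cert_tree lc_e_Cert_tree lc_e_rc_18_1 lc_e_rc_9_3 lc_e_rc_16_3 lc_e_Cert_tree lc_e_Cert_tree lc_e_rc_18_1 lc_e_rc_27_1 lc_e_rc_18_1 lc_e_rc_19_4 lc_e_rc_18_1 lc_e_rc_16_1 lc_e_rc_19_4 lc_e_Cert_tree lc_e_rc_27_7 lc_e_rc_13_3 lc_e_rc_9_3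 lc_e_Cert_tree lc_e_rc_27_7 lc_e_rc_18_1 lc_e_rc_18_1 lc_e_rc_13_3 lc_e_Cert_tree) (@D3.rec (fun _ => (Cert rels S Gen.e)) lc_e_rc_18_1 lc_e_rc_18_1 lc_e_rc_19_4 lc_e_rc_18_1 lc_e_rc_18_1 lc_e_rc_13_3 lc_e_rc_27_1 lc_e_rc_16_1 lc_e_rc_19_4 lc_e_rc_16_1 lc_e_rc_13_3 lc_e_rc_18_1 lc_e_rc_16_3 lc_e_rc_18_1 lc_e_rc_16_3 lc_e_rc_18_1 lc_e_rc_27_5 lc_e_rc_18_1 lc_e_rc_18_1 lc_e_rc_16_5 lc_e_rc_16_1 lc_e_rc_19_4 lc_e_rc_18_1 lc_e_rc_9_3 lc_e_rc_27_7 lc_e_rc_18_1 lc_e_rc_27_7 lc_e_rc_18_1 lc_e_rc_4_3 lc_e_rc_27_1 lc_e_rc_16_3 lc_e_rc_19_4 lc_e_rc_27_7 lc_e_rc_18_1 lc_e_rc_16_5 lc_e_rc_13_1 lc_e_rc_27_5 lc_e_rc_18_1 lc_e_rc_13_3 lc_e_rc_13_3 lc_e_Cert_tree lc_e_rc_13_3 lc_e_Cert_tree lc_e_Cert_tree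 lc_e_rc_18_1 lc_e_Cert_tree lc_e_rc_18_1 lc_e_rc_16_1 lc_e_rc_27_7 lc_e_rc_9_3 lc_e_rc_4_3 lc_e_rc_9_3 lc_e_rc_9_3 lc_e_rc_13_3 lc_e_Cert_tree lc_e_Cert_tree lc_e_rc_18_1 lc_e_rc_27_5 lc_e_rc_18_1 lc_e_rc_13_3 lc_e_rc_13_1 lc_e_rc_18_1) (@D3.rec (fun _ => (Cert rels S Gen.e)) lc_e_rc_9_3 lc_e_rc_18_1 lc_e_rc_16_1 lc_e_Cert_tree lc_e_rc_27_5 lc_e_rc_18_1 lc_e_rc_9_3 lc_e_Cert_tree lc_e_rc_9_3 lc_e_rc_18_1 lc_e_rc_13_3 lc_e_rc_4_1 lc_e_rc_13_3 lc_e_rc_19_2 lc_e_rc_18_1 lc_e_rc_18_1 lc_e_rc_13_3 lc_e_Cert_tree lc_e_rc_18_1 lc_e_rc_18_1 lc_e_Cert_tree lc_e_rc_19_0 lc_e_rc_18_1 lc_e_rc_18_1 lc_e_rc_27_7 lc_e_rc_9_3 lc_e_rc_27_7 lc_e_rc_9_1 lc_e_rc_16_5 lc_e_rc_27_5 lc_e_rc_9_3 lc_e_rc_18_1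 lc_e_rc_9_3 lc_e_rc_9_1 lc_e_rc_18_1 lc_e_rc_13_3 lc_e_rc_4_3 lc_e_rc_4_3 lc_e_rc_18_1 lc_e_rc_27_5 lc_e_rc_18_1 lc_e_rc_18_1 lc_e_rc_13_3 lc_e_rc_18_1 lc_e_rc_13_3 lc_e_rc_18_1 lc_e_rc_18_1 lc_e_rc_13_3 lc_e_rc_13_3 lc_e_Cert_tree lc_e_rc_16_1 lc_e_rc_13_3 lc_e_Cert_tree lc_e_rc_16_5 lc_e_rc_13_1 lc_e_rc_18_1 lc_e_rc_18_1 lc_e_rc_9_1 lc_e_rc_18_1 lc_e_rc_18_1 lc_e_rc_9_3 lc_e_rc_18_1) (@D3.rec (fun _ => (Cert rels S Gen.e)) lc_e_Cert_tree lc_e_rc_18_1 lc_e_rc_16_3 lc_e_rc_4_3 lc_e_rc_27_5 lc_e_rc_9_3 lc_e_rc_16_5 lc_e_rc_9_3 lc_e_rc_27_1 lc_e_rc_18_1 lc_e_rc_9_3 lc_e_rc_9_3 lc_e_rc_13_3 lc_e_rc_27_5 lc_e_rc_19_4 lc_e_Cert_tree lc_e_rc_18_1 lc_e_rc_16_3 lc_e_rc_18_1 lc_e_rc_18_1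 lc_e_rc_4_3 lc_e_rc_16_1 lc_e_rc_9_3 lc_e_rc_4_3 lc_e_rc_18_1 lc_e_rc_4_1 lc_e_rc_18_1 lc_e_rc_27_5 lc_e_rc_16_5 lc_e_rc_9_3 lc_e_rc_27_1 lc_e_rc_13_1 lc_e_rc_4_3 lc_e_Cert_tree lc_e_rc_16_3 lc_e_rc_18_1 lc_e_rc_9_1 lc_e_rc_16_5 lc_e_rc_18_1 lc_e_rc_13_3 lc_e_rc_13_3 lc_e_rc_18_1 lc_e_Cert_tree lc_e_rc_9_3 lc_e_rc_18_1 lc_e_rc_18_1 lc_e_rc_18_1 lc_e_rc_4_3 lc_e_rc_18_1 lc_e_rc_13_1 lc_e_rc_13_1 lc_e_rc_13_1 lc_e_rc_18_1 lc_e_rc_16_5 lc_e_rc_27_5 lc_e_rc_4_3 lc_e_rc_18_1 lc_e_rc_9_1 lc_e_rc_27_1 lc_e_rc_16_5 lc_e_rc_19_4 lc_e_rc_4_1) (@D3.rec (fun _ => (Cert rels S Gen.e)) lc_e_rc_4_1 lc_e_Cert_tree lc_e_rc_16_5 lc_e_rc_27_1 lc_e_rc_18_1 lc_e_rc_13_3 lc_e_rc_16_5 lc_e_rc_27_7 lc_e_rc_9_1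 lc_e_rc_18_1 lc_e_rc_18_1 lc_e_rc_9_3 lc_e_rc_9_3 lc_e_Cert_tree lc_e_rc_18_1 lc_e_rc_27_5 lc_e_Cert_tree lc_e_Cert_tree lc_e_rc_18_1 lc_e_rc_18_1 lc_e_rc_16_1 lc_e_rc_13_1 lc_e_rc_18_1 lc_e_rc_27_5 lc_e_rc_27_1 lc_e_rc_18_1 lc_e_rc_18_1 lc_e_rc_18_1 lc_e_rc_27_5 lc_e_rc_19_4 lc_e_rc_27_7 lc_e_rc_13_3 lc_e_rc_16_5 lc_e_rc_16_3 lc_e_rc_13_1 lc_e_rc_18_1 lc_e_Cert_tree lc_e_rc_18_1 lc_e_rc_27_7 lc_e_rc_13_1 lc_e_rc_18_1 lc_e_rc_9_1 lc_e_rc_18_1 lc_e_rc_9_3 lc_e_rc_27_7 lc_e_Cert_tree lc_e_Cert_tree lc_e_rc_18_1 lc_e_rc_18_1 lc_e_rc_13_3 lc_e_rc_13_3 lc_e_rc_16_1 lc_e_rc_13_3 lc_e_rc_16_1 lc_e_rc_13_3 lc_e_rc_27_5 lc_e_rc_18_1 lc_e_rc_16_5 lc_e_rc_9_3 lc_e_rc_13_3 lc_e_rc_9_1 lc_e_rc_18_1)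 (@D3.rec (fun _ => (Cert rels S Gen.e)) lc_e_rc_19_2 lc_e_rc_18_1 lc_e_rc_19_4 lc_e_Cert_tree lc_e_rc_18_1 lc_e_rc_16_3 lc_e_rc_19_4 lc_e_Cert_tree lc_e_rc_13_1 lc_e_Cert_tree lc_e_rc_18_1 lc_e_rc_9_3 lc_e_rc_18_1 lc_e_rc_19_4 lc_e_Cert_tree lc_e_rc_16_5 lc_e_rc_27_7 lc_e_rc_18_1 lc_e_rc_9_1 lc_e_rc_27_5 lc_e_rc_18_1 lc_e_rc_16_1 lc_e_rc_18_1 lc_e_rc_13_3 lc_e_rc_18_1 lc_e_rc_18_1 lc_e_rc_18_1 lc_e_Cert_tree lc_e_rc_4_1 lc_e_rc_27_7 lc_e_rc_19_4 lc_e_rc_18_1 lc_e_rc_4_1 lc_e_Cert_tree lc_e_rc_18_1 lc_e_rc_16_1 lc_e_rc_19_4 lc_e_rc_13_3 lc_e_rc_18_1 lc_e_Cert_tree lc_e_rc_16_1 lc_e_rc_19_4 lc_e_rc_13_3 lc_e_rc_18_1 lc_e_rc_9_1 lc_e_rc_16_3 lc_e_rc_18_1 lc_e_rc_18_1 lc_e_rc_13_3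 lc_e_rc_9_3 lc_e_rc_13_3 lc_e_rc_18_1 lc_e_rc_16_3 lc_e_rc_27_1 lc_e_rc_16_1 lc_e_rc_13_1 lc_e_rc_19_0 lc_e_rc_9_3 lc_e_rc_18_1 lc_e_rc_9_3 lc_e_Cert_tree lc_e_rc_18_1) (@D3.rec (fun _ => (Cert rels S Gen.e)) lc_e_rc_18_1 lc_e_rc_4_3 lc_e_rc_13_3 lc_e_rc_9_3 lc_e_rc_13_3 lc_e_rc_9_1 lc_e_Cert_tree lc_e_rc_9_1 lc_e_rc_16_5 lc_e_rc_13_3 lc_e_rc_27_5 lc_e_rc_9_1 lc_e_rc_16_5 lc_e_rc_27_7 lc_e_Cert_tree lc_e_Cert_tree lc_e_Cert_tree lc_e_rc_18_1 lc_e_rc_18_1 lc_e_rc_27_1 lc_e_rc_4_1 lc_e_rc_18_1 lc_e_rc_9_3 lc_e_rc_13_3 lc_e_rc_18_1 lc_e_rc_16_5 lc_e_rc_27_7 lc_e_rc_19_2 lc_e_rc_4_3 lc_e_Cert_tree lc_e_rc_18_1 lc_e_rc_27_5 lc_e_rc_16_5 lc_e_rc_9_3 lc_e_rc_13_3 lc_e_rc_16_5 lc_e_rc_13_1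 lc_e_rc_19_2 lc_e_rc_9_1 lc_e_rc_27_7 lc_e_rc_4_3 lc_e_rc_9_3 lc_e_rc_9_1 lc_e_rc_19_0 lc_e_rc_27_5 lc_e_Cert_tree lc_e_rc_27_7 lc_e_rc_9_3 lc_e_rc_19_4 lc_e_rc_13_1 lc_e_rc_18_1 lc_e_rc_13_3 lc_e_rc_9_3 lc_e_rc_18_1 lc_e_Cert_tree lc_e_rc_9_3 lc_e_Cert_tree lc_e_Cert_tree lc_e_rc_18_1 lc_e_rc_27_5 lc_e_rc_16_3 lc_e_rc_16_5) (@D3.rec (fun _ => (Cert rels S Gen.e)) lc_e_rc_18_1 lc_e_rc_18_1 lc_e_rc_27_5 lc_e_Cert_tree lc_e_rc_16_3 lc_e_rc_13_3 lc_e_rc_18_1 lc_e_rc_9_3 lc_e_rc_13_1 lc_e_rc_18_1 lc_e_rc_4_3 lc_e_Cert_tree lc_e_rc_16_3 lc_e_rc_4_1 lc_e_rc_9_3 lc_e_rc_27_5 lc_e_rc_18_1 lc_e_rc_9_3 lc_e_rc_4_1 lc_e_rc_4_3 lc_e_Cert_tree lc_e_rc_18_1 lc_e_Cert_tree lc_e_Cert_tree lc_e_rc_13_3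 lc_e_rc_19_4 lc_e_rc_19_4 lc_e_rc_18_1 lc_e_rc_19_4 lc_e_rc_18_1 lc_e_Cert_tree lc_e_rc_18_1 lc_e_Cert_tree lc_e_Cert_tree lc_e_rc_18_1 lc_e_Cert_tree lc_e_rc_18_1 lc_e_Cert_tree lc_e_Cert_tree lc_e_rc_9_3 lc_e_rc_18_1 lc_e_Cert_tree lc_e_rc_18_1 lc_e_Cert_tree lc_e_Cert_tree lc_e_rc_18_1 lc_e_Cert_tree lc_e_rc_18_1 lc_e_rc_13_1 lc_e_rc_18_1 lc_e_rc_18_1 lc_e_rc_27_7 lc_e_rc_18_1 lc_e_rc_19_0 lc_e_rc_16_3 lc_e_Cert_tree lc_e_rc_16_3 lc_e_rc_13_3 lc_e_rc_27_5 lc_e_rc_18_1 lc_e_rc_13_3 lc_e_rc_9_3) (@D3.rec (fun _ => (Cert rels S Gen.e)) lc_e_Cert_tree lc_e_rc_13_3 lc_e_Cert_tree lc_e_rc_4_3 lc_e_Cert_tree lc_e_rc_18_1 lc_e_rc_18_1 lc_e_rc_16_5 lc_e_rc_18_1 lc_e_rc_16_3 lc_e_rc_16_1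 lc_e_rc_9_3 lc_e_rc_18_1 lc_e_rc_18_1 lc_e_rc_27_5 lc_e_Cert_tree lc_e_rc_16_3 lc_e_rc_13_3 lc_e_rc_18_1 lc_e_Cert_tree lc_e_rc_18_1 lc_e_rc_19_4 lc_e_rc_19_4 lc_e_rc_18_1 lc_e_rc_13_1 lc_e_rc_27_5 lc_e_Cert_tree lc_e_rc_16_1 lc_e_rc_13_1 lc_e_rc_19_4 lc_e_rc_18_1 lc_e_rc_16_3 lc_e_rc_16_3 lc_e_Cert_tree lc_e_rc_16_1 lc_e_rc_19_4 lc_e_rc_16_5 lc_e_rc_27_5 lc_e_rc_18_1 lc_e_rc_18_1 lc_e_Cert_tree lc_e_rc_18_1 lc_e_Cert_tree lc_e_Cert_tree lc_e_rc_13_3 lc_e_rc_18_1 lc_e_rc_16_3 lc_e_rc_19_4 lc_e_rc_18_1 lc_e_rc_27_1 lc_e_rc_16_3 lc_e_rc_19_2 lc_e_rc_9_3 lc_e_rc_27_5 lc_e_rc_13_3 lc_e_rc_27_5 lc_e_rc_18_1 lc_e_Cert_tree lc_e_rc_16_5 lc_e_rc_13_3 lc_e_rc_19_4 lc_e_rc_9_3) (@D3.rec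 (fun _ => (Cert rels S Gen.e)) lc_e_rc_18_1 lc_e_rc_18_1 lc_e_rc_9_3 lc_e_rc_18_1 lc_e_rc_16_3 lc_e_rc_18_1 lc_e_rc_13_1 lc_e_rc_18_1 lc_e_rc_18_1 lc_e_rc_9_3 lc_e_rc_4_1 lc_e_rc_18_1 lc_e_rc_18_1 lc_e_rc_18_1 lc_e_rc_9_3 lc_e_rc_9_3 lc_e_rc_27_7 lc_e_rc_19_4 lc_e_rc_9_3 lc_e_rc_18_1 lc_e_rc_18_1 lc_e_rc_13_3 lc_e_rc_16_1 lc_e_rc_19_4 lc_e_Cert_tree lc_e_rc_13_3 lc_e_rc_18_1 lc_e_rc_13_1 lc_e_rc_18_1 lc_e_rc_27_5 lc_e_rc_18_1 lc_e_rc_18_1 lc_e_rc_9_1 lc_e_rc_9_3 lc_e_rc_18_1 lc_e_Cert_tree lc_e_rc_18_1 lc_e_rc_18_1 lc_e_rc_16_1 lc_e_rc_13_3 lc_e_rc_18_1 lc_e_rc_4_3 lc_e_rc_4_3 lc_e_rc_19_2 lc_e_rc_27_1 lc_e_rc_27_1 lc_e_rc_18_1 lc_e_rc_19_4 lc_e_rc_18_1 lc_e_rc_27_5 lc_e_rc_18_1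 lc_e_rc_9_1 lc_e_rc_27_1 lc_e_rc_16_1 lc_e_rc_19_4 lc_e_rc_18_1 lc_e_rc_16_5 lc_e_rc_18_1 lc_e_rc_9_3 lc_e_rc_16_1 lc_e_rc_16_1 lc_e_rc_19_4) (@D3.rec (fun _ => (Cert rels S Gen.e)) lc_e_rc_13_1 lc_e_Cert_tree lc_e_rc_27_1 lc_e_rc_9_1 lc_e_Cert_tree lc_e_rc_18_1 lc_e_Cert_tree lc_e_rc_9_3 lc_e_rc_13_3 lc_e_rc_27_7 lc_e_rc_19_0 lc_e_rc_19_0 lc_e_rc_18_1 lc_e_rc_18_1 lc_e_rc_19_0 lc_e_rc_13_3 lc_e_rc_27_5 lc_e_rc_9_3 lc_e_Cert_tree lc_e_rc_27_7 lc_e_rc_18_1 lc_e_Cert_tree lc_e_rc_18_1 lc_e_Cert_tree lc_e_rc_27_5 lc_e_rc_18_1 lc_e_Cert_tree lc_e_rc_18_1 lc_e_rc_27_5 lc_e_rc_9_3 lc_e_rc_18_1 lc_e_rc_13_3 lc_e_rc_4_1 lc_e_Cert_tree lc_e_rc_18_1 lc_e_rc_18_1 lc_e_rc_16_1 lc_e_rc_18_1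 lc_e_rc_18_1 lc_e_rc_13_3 lc_e_rc_18_1 lc_e_rc_13_1 lc_e_rc_16_1 lc_e_Cert_tree lc_e_rc_18_1 lc_e_rc_16_3 lc_e_rc_16_5 lc_e_rc_13_3 lc_e_rc_18_1 lc_e_rc_9_3 lc_e_Cert_tree lc_e_rc_27_7 lc_e_rc_13_3 lc_e_rc_18_1 lc_e_rc_4_3 lc_e_rc_16_3 lc_e_rc_27_5 lc_e_rc_18_1 lc_e_rc_16_3 lc_e_rc_18_1 lc_e_rc_13_1 lc_e_rc_4_3) (@D3.rec (fun _ => (Cert rels S Gen.e)) lc_e_rc_13_3 lc_e_Cert_tree lc_e_Cert_tree lc_e_rc_9_3 lc_e_Cert_tree lc_e_rc_27_5 lc_e_Cert_tree lc_e_rc_18_1 lc_e_Cert_tree lc_e_rc_27_7 lc_e_rc_18_1 lc_e_rc_4_3 lc_e_rc_16_5 lc_e_rc_9_3 lc_e_rc_18_1 lc_e_rc_4_1 lc_e_rc_19_4 lc_e_rc_27_5 lc_e_rc_18_1 lc_e_rc_16_1 lc_e_rc_9_3 lc_e_rc_9_1 lc_e_rc_18_1 lc_e_rc_18_1 lc_e_rc_19_2 lc_e_rc_9_3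 lc_e_rc_9_3 lc_e_rc_9_3 lc_e_rc_16_3 lc_e_Cert_tree lc_e_rc_18_1 lc_e_rc_16_5 lc_e_rc_18_1 lc_e_rc_9_1 lc_e_rc_27_7 lc_e_rc_9_3 lc_e_rc_16_5 lc_e_rc_18_1 lc_e_rc_18_1 lc_e_rc_9_3 lc_e_Cert_tree lc_e_rc_13_3 lc_e_rc_4_3 lc_e_rc_19_0 lc_e_rc_16_3 lc_e_rc_18_1 lc_e_rc_18_1 lc_e_rc_16_3 lc_e_rc_16_3 lc_e_rc_18_1 lc_e_rc_27_7 lc_e_rc_13_3 lc_e_rc_18_1 lc_e_rc_19_2 lc_e_Cert_tree lc_e_rc_27_5 lc_e_rc_16_5 lc_e_rc_9_3 lc_e_Cert_tree lc_e_rc_19_4 lc_e_rc_27_1 lc_e_rc_18_1) (@D3.rec (fun _ => (Cert rels S Gen.e)) lc_e_Cert_tree lc_e_rc_4_3 lc_e_rc_18_1 lc_e_rc_18_1 lc_e_rc_9_3 lc_e_rc_13_3 lc_e_rc_18_1 lc_e_Cert_tree lc_e_rc_13_3 lc_e_rc_18_1 lc_e_rc_9_3 lc_e_rc_27_7 lc_e_rc_4_3 lc_e_Cert_tree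 lc_e_Cert_tree lc_e_rc_4_3 lc_e_rc_27_5 lc_e_rc_9_3 lc_e_rc_27_7 lc_e_rc_13_3 lc_e_rc_4_3 lc_e_rc_18_1 lc_e_rc_18_1 lc_e_rc_4_1 lc_e_rc_16_1 lc_e_rc_13_1 lc_e_rc_18_1 lc_e_rc_16_3 lc_e_rc_18_1 lc_e_rc_27_5 lc_e_rc_9_3 lc_e_rc_4_3 lc_e_rc_19_2 lc_e_rc_18_1 lc_e_rc_18_1 lc_e_rc_16_5 lc_e_rc_18_1 lc_e_rc_18_1 lc_e_rc_27_7 lc_e_Cert_tree lc_e_rc_9_3 lc_e_rc_9_1 lc_e_Cert_tree lc_e_Cert_tree lc_e_rc_18_1 lc_e_rc_9_1 lc_e_rc_13_1 lc_e_rc_27_7 lc_e_rc_18_1 lc_e_rc_4_3 lc_e_rc_16_1 lc_e_rc_9_3 lc_e_Cert_tree lc_e_rc_18_1 lc_e_rc_19_2 lc_e_rc_18_1 lc_e_rc_18_1 lc_e_rc_16_1 lc_e_Cert_tree lc_e_rc_18_1 lc_e_rc_9_1 lc_e_rc_16_3) (@D3.rec (fun _ => (Cert rels S Gen.e)) lc_e_rc_18_1 lc_e_rc_18_1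 lc_e_rc_16_5 lc_e_Cert_tree lc_e_rc_16_1 lc_e_rc_9_3 lc_e_rc_16_3 lc_e_rc_18_1 lc_e_rc_13_1 lc_e_rc_27_7 lc_e_rc_18_1 lc_e_Cert_tree lc_e_rc_18_1 lc_e_rc_27_5 lc_e_rc_18_1 lc_e_rc_9_3 lc_e_rc_19_4 lc_e_rc_18_1 lc_e_rc_18_1 lc_e_rc_18_1 lc_e_rc_16_1 lc_e_rc_19_4 lc_e_rc_27_7 lc_e_rc_13_3 lc_e_rc_18_1 lc_e_rc_16_3 lc_e_rc_18_1 lc_e_Cert_tree lc_e_rc_16_1 lc_e_rc_19_4 lc_e_Cert_tree lc_e_rc_4_3 lc_e_rc_27_5 lc_e_rc_18_1 lc_e_rc_16_1 lc_e_rc_19_4 lc_e_rc_13_3 lc_e_Cert_tree lc_e_rc_18_1 lc_e_rc_4_3 lc_e_Cert_tree lc_e_rc_16_3 lc_e_rc_9_3 lc_e_rc_27_5 lc_e_rc_18_1 lc_e_rc_13_3 lc_e_Cert_tree lc_e_rc_16_3 lc_e_rc_19_4 lc_e_rc_9_1 lc_e_rc_13_1 lc_e_Cert_tree lc_e_rc_18_1 lc_e_rc_9_1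 lc_e_rc_13_1 lc_e_rc_27_5 lc_e_rc_18_1 lc_e_rc_16_1 lc_e_rc_13_3 lc_e_Cert_tree lc_e_rc_19_2 lc_e_rc_9_3) (@D3.rec (fun _ => (Cert rels S Gen.e)) lc_e_rc_9_1 lc_e_Cert_tree lc_e_rc_18_1 lc_e_rc_18_1 lc_e_Cert_tree lc_e_rc_18_1 lc_e_rc_16_1 lc_e_rc_13_1 lc_e_rc_18_1 lc_e_rc_16_3 lc_e_rc_9_3 lc_e_rc_18_1 lc_e_rc_4_3 lc_e_rc_19_0 lc_e_rc_9_3 lc_e_Cert_tree lc_e_Cert_tree lc_e_rc_18_1 lc_e_rc_18_1 lc_e_rc_27_7 lc_e_rc_18_1 lc_e_rc_4_1 lc_e_rc_16_3 lc_e_rc_19_4 lc_e_rc_9_3 lc_e_rc_27_5 lc_e_Cert_tree lc_e_rc_18_1 lc_e_Cert_tree lc_e_rc_16_5 lc_e_rc_13_3 lc_e_rc_16_3 lc_e_Cert_tree lc_e_rc_27_5 lc_e_rc_18_1 lc_e_rc_18_1 lc_e_Cert_tree lc_e_rc_13_1 lc_e_rc_18_1 lc_e_rc_27_5 lc_e_rc_9_3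 lc_e_rc_16_3 lc_e_rc_19_4 lc_e_Cert_tree lc_e_rc_18_1 lc_e_rc_9_3 lc_e_rc_16_5 lc_e_Cert_tree lc_e_Cert_tree lc_e_rc_13_3 lc_e_rc_19_4 lc_e_Cert_tree lc_e_Cert_tree lc_e_rc_18_1 lc_e_rc_27_7 lc_e_rc_9_3 lc_e_Cert_tree lc_e_rc_16_5 lc_e_rc_27_1 lc_e_Cert_tree lc_e_rc_18_1 lc_e_rc_18_1) (@D3.rec (fun _ => (Cert rels S Gen.e)) lc_e_rc_16_1 lc_e_rc_18_1 lc_e_rc_18_1 lc_e_rc_18_1 lc_e_rc_18_1 lc_e_rc_9_1 lc_e_rc_13_1 lc_e_rc_27_1 lc_e_rc_18_1 lc_e_Cert_tree lc_e_rc_16_1 lc_e_rc_27_7 lc_e_rc_18_1 lc_e_rc_18_1 lc_e_rc_13_1 lc_e_rc_9_3 lc_e_Cert_tree lc_e_rc_27_5 lc_e_rc_18_1 lc_e_rc_16_3 lc_e_rc_19_0 lc_e_Cert_tree lc_e_rc_13_3 lc_e_rc_16_5 lc_e_rc_27_5 lc_e_Cert_tree lc_e_rc_13_3 lc_e_Cert_tree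 lc_e_rc_9_1 lc_e_rc_27_7 lc_e_Cert_tree lc_e_rc_18_1 lc_e_rc_13_3 lc_e_rc_13_3 lc_e_rc_16_1 lc_e_rc_13_3 lc_e_rc_18_1 lc_e_rc_16_1 lc_e_rc_18_1 lc_e_rc_16_3 lc_e_rc_19_0 lc_e_Cert_tree lc_e_Cert_tree lc_e_rc_18_1 lc_e_rc_13_3 lc_e_Cert_tree lc_e_rc_18_1 lc_e_rc_16_1 lc_e_Cert_tree lc_e_rc_18_1 lc_e_rc_16_1 lc_e_rc_16_1 lc_e_rc_16_1 lc_e_rc_27_1 lc_e_rc_13_3 lc_e_Cert_tree lc_e_rc_18_1 lc_e_rc_27_7 lc_e_rc_27_7 lc_e_Cert_tree lc_e_rc_18_1 lc_e_rc_18_1) (@D3.rec (fun _ => (Cert rels S Gen.e)) lc_e_rc_27_5 lc_e_rc_4_1 lc_e_rc_18_1 lc_e_Cert_tree lc_e_rc_18_1 lc_e_rc_27_5 lc_e_rc_18_1 lc_e_rc_18_1 lc_e_rc_19_2 lc_e_rc_19_0 lc_e_rc_13_3 lc_e_rc_18_1 lc_e_rc_27_7 lc_e_Cert_tree lc_e_rc_4_3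 lc_e_Cert_tree lc_e_Cert_tree lc_e_rc_18_1 lc_e_rc_18_1 lc_e_rc_4_3 lc_e_rc_16_3 lc_e_rc_13_3 lc_e_Cert_tree lc_e_rc_18_1 lc_e_rc_4_3 lc_e_rc_18_1 lc_e_Cert_tree lc_e_rc_18_1 lc_e_rc_16_1 lc_e_rc_18_1 lc_e_Cert_tree lc_e_Cert_tree lc_e_rc_18_1 lc_e_Cert_tree lc_e_Cert_tree lc_e_rc_18_1 lc_e_Cert_tree lc_e_Cert_tree lc_e_rc_9_3 lc_e_Cert_tree lc_e_rc_27_7 lc_e_rc_4_3 lc_e_rc_9_1 lc_e_rc_27_7 lc_e_rc_18_1 lc_e_rc_9_3 lc_e_rc_13_1 lc_e_Cert_tree lc_e_rc_19_2 lc_e_rc_16_5 lc_e_rc_16_3 lc_e_rc_27_7 lc_e_rc_9_3 lc_e_rc_19_2 lc_e_rc_19_2 lc_e_rc_16_1 lc_e_Cert_tree lc_e_rc_18_1 lc_e_rc_16_3 lc_e_Cert_tree lc_e_rc_18_1 lc_e_rc_4_3) (@D3.rec (fun _ => (Cert rels S Gen.e)) lc_e_rc_16_1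 lc_e_rc_16_5 lc_e_rc_18_1 lc_e_Cert_tree lc_e_rc_27_5 lc_e_rc_16_1 lc_e_rc_19_4 lc_e_rc_18_1 lc_e_rc_13_3 lc_e_rc_13_1 lc_e_Cert_tree lc_e_rc_19_0 lc_e_rc_27_7 lc_e_rc_27_7 lc_e_rc_16_3 lc_e_rc_18_1 lc_e_Cert_tree lc_e_rc_18_1 lc_e_rc_4_1 lc_e_rc_9_3 lc_e_rc_27_5 lc_e_rc_13_3 lc_e_rc_19_2 lc_e_rc_9_3 lc_e_Cert_tree lc_e_rc_18_1 lc_e_rc_13_3 lc_e_rc_4_3 lc_e_rc_18_1 lc_e_Cert_tree lc_e_rc_9_1 lc_e_rc_4_3 lc_e_rc_9_3 lc_e_rc_13_3 lc_e_rc_4_3 lc_e_Cert_tree lc_e_rc_19_4 lc_e_rc_9_3 lc_e_Cert_tree lc_e_rc_18_1 lc_e_rc_9_3 lc_e_Cert_tree lc_e_Cert_tree lc_e_rc_27_5 lc_e_rc_18_1 lc_e_rc_16_3 lc_e_rc_18_1 lc_e_rc_18_1 lc_e_rc_27_5 lc_e_rc_16_5 lc_e_Cert_tree lc_e_rc_18_1 lc_e_rc_18_1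 lc_e_rc_27_5 lc_e_rc_27_1 lc_e_rc_19_2 lc_e_Cert_tree lc_e_rc_18_1 lc_e_rc_13_3 lc_e_rc_13_1 lc_e_Cert_tree lc_e_Cert_tree) (@D3.rec (fun _ => (Cert rels S Gen.e)) lc_e_rc_18_1 lc_e_rc_18_1 lc_e_rc_4_1 lc_e_rc_13_3 lc_e_rc_18_1 lc_e_Cert_tree lc_e_rc_18_1 lc_e_rc_13_1 lc_e_rc_9_3 lc_e_rc_18_1 lc_e_rc_18_1 lc_e_Cert_tree lc_e_Cert_tree lc_e_Cert_tree lc_e_Cert_tree lc_e_Cert_tree lc_e_rc_18_1 lc_e_rc_16_3 lc_e_rc_18_1 lc_e_rc_9_1 lc_e_rc_18_1 lc_e_Cert_tree lc_e_rc_18_1 lc_e_rc_18_1 lc_e_rc_18_1 lc_e_rc_19_4 lc_e_rc_27_5 lc_e_rc_16_3 lc_e_Cert_tree lc_e_rc_13_3 lc_e_Cert_tree lc_e_rc_9_3 lc_e_rc_13_3 lc_e_rc_13_3 lc_e_Cert_tree lc_e_Cert_tree lc_e_rc_13_3 lc_e_rc_9_3 lc_e_rc_18_1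 lc_e_Cert_tree lc_e_Cert_tree lc_e_rc_18_1 lc_e_rc_27_5 lc_e_Cert_tree lc_e_rc_18_1 lc_e_Cert_tree lc_e_Cert_tree lc_e_rc_18_1 lc_e_rc_4_3 lc_e_rc_13_3 lc_e_rc_27_5 lc_e_rc_13_3 lc_e_rc_9_1 lc_e_Cert_tree lc_e_rc_9_3 lc_e_rc_18_1 lc_e_Cert_tree lc_e_rc_18_1 lc_e_rc_13_1 lc_e_rc_27_5 lc_e_rc_9_3 lc_e_rc_16_3) (@D3.rec (fun _ => (Cert rels S Gen.e)) lc_e_rc_19_4 lc_e_rc_27_7 lc_e_Cert_tree lc_e_Cert_tree lc_e_rc_18_1 lc_e_rc_13_3 lc_e_Cert_tree lc_e_rc_13_3 lc_e_Cert_tree lc_e_rc_13_3 lc_e_rc_16_5 lc_e_rc_18_1 lc_e_Cert_tree lc_e_Cert_tree lc_e_rc_27_5 lc_e_rc_4_3 lc_e_rc_16_1 lc_e_rc_18_1 lc_e_rc_27_5 lc_e_rc_4_1 lc_e_rc_13_3 lc_e_rc_18_1 lc_e_rc_9_1 lc_e_rc_16_3 lc_e_rc_16_5 lc_e_rc_16_1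 lc_e_rc_4_1 lc_e_rc_18_1 lc_e_rc_9_3 lc_e_rc_16_3 lc_e_rc_4_3 lc_e_Cert_tree lc_e_rc_4_1 lc_e_rc_27_1 lc_e_Cert_tree lc_e_rc_27_5 lc_e_rc_18_1 lc_e_rc_9_3 lc_e_Cert_tree lc_e_rc_4_3 lc_e_rc_18_1 lc_e_Cert_tree lc_e_rc_9_3 lc_e_rc_13_3 lc_e_rc_13_1 lc_e_rc_18_1 lc_e_rc_13_1 lc_e_rc_18_1 lc_e_rc_27_1 lc_e_rc_16_3 lc_e_rc_9_3 lc_e_rc_16_1 lc_e_rc_19_4 lc_e_rc_13_3 lc_e_rc_13_3 lc_e_rc_13_3 lc_e_rc_13_1 lc_e_rc_16_3 lc_e_rc_27_1 lc_e_rc_27_7 lc_e_rc_19_4 lc_e_rc_16_3) (@D3.rec (fun _ => (Cert rels S Gen.e)) lc_e_rc_13_3 lc_e_rc_19_2 lc_e_rc_18_1 lc_e_rc_19_4 lc_e_rc_18_1 lc_e_rc_19_2 lc_e_Cert_tree lc_e_rc_13_1 lc_e_rc_18_1 lc_e_rc_9_3 lc_e_rc_18_1 lc_e_rc_13_3 lc_e_Cert_tree lc_e_rc_9_1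 lc_e_Cert_tree lc_e_rc_13_3 lc_e_rc_13_3 lc_e_rc_13_3 lc_e_rc_13_3 lc_e_rc_9_3 lc_e_rc_13_3 lc_e_Cert_tree lc_e_rc_18_1 lc_e_Cert_tree lc_e_Cert_tree lc_e_rc_18_1 lc_e_rc_9_3 lc_e_rc_27_7 lc_e_rc_13_3 lc_e_rc_18_1 lc_e_Cert_tree lc_e_rc_13_1 lc_e_rc_16_1 lc_e_rc_13_3 lc_e_rc_27_7 lc_e_rc_18_1 lc_e_Cert_tree lc_e_rc_27_1 lc_e_rc_27_1 lc_e_rc_4_3 lc_e_Cert_tree lc_e_rc_16_3 lc_e_rc_13_1 lc_e_rc_18_1 lc_e_rc_27_7 lc_e_rc_27_1 lc_e_Cert_tree lc_e_rc_16_1 lc_e_rc_9_3 lc_e_rc_27_5 lc_e_Cert_tree lc_e_rc_18_1 lc_e_rc_27_7 lc_e_Cert_tree lc_e_rc_27_1 lc_e_Cert_tree lc_e_rc_27_1 lc_e_rc_18_1 lc_e_rc_4_3 lc_e_rc_27_5 lc_e_rc_13_3 lc_e_rc_9_3) (@D3.rec (fun _ => (Cert rels S Gen.e)) lc_e_rc_16_1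 lc_e_rc_27_1 lc_e_rc_27_1 lc_e_rc_9_3 lc_e_rc_9_3 lc_e_rc_18_1 lc_e_rc_4_1 lc_e_rc_18_1 lc_e_rc_27_7 lc_e_rc_18_1 lc_e_rc_18_1 lc_e_rc_16_1 lc_e_rc_18_1 lc_e_rc_27_7 lc_e_rc_18_1 lc_e_rc_18_1 lc_e_rc_13_3 lc_e_rc_16_3 lc_e_rc_19_4 lc_e_rc_18_1 lc_e_rc_16_1 lc_e_rc_19_4 lc_e_rc_9_1 lc_e_rc_13_3 lc_e_rc_18_1 lc_e_Cert_tree lc_e_rc_4_3 lc_e_rc_16_3 lc_e_rc_19_4 lc_e_rc_18_1 lc_e_rc_16_3 lc_e_rc_27_5 lc_e_Cert_tree lc_e_rc_9_3 lc_e_rc_13_1 lc_e_rc_16_3 lc_e_rc_18_1 lc_e_rc_18_1 lc_e_rc_18_1 lc_e_rc_18_1 lc_e_rc_9_3 lc_e_rc_19_4 lc_e_rc_27_7 lc_e_rc_27_5 lc_e_rc_13_1 lc_e_rc_9_3 lc_e_rc_18_1 lc_e_Cert_tree lc_e_rc_18_1 lc_e_rc_4_1 lc_e_rc_18_1 lc_e_rc_18_1 lc_e_Cert_tree lc_e_rc_18_1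 lc_e_rc_18_1 lc_e_rc_9_3 lc_e_rc_27_5 lc_e_Cert_tree lc_e_rc_18_1 lc_e_rc_18_1 lc_e_rc_13_3 lc_e_rc_27_1) (@D3.rec (fun _ => (Cert rels S Gen.e)) lc_e_rc_18_1 lc_e_Cert_tree lc_e_rc_9_3 lc_e_Cert_tree lc_e_rc_27_5 lc_e_rc_18_1 lc_e_rc_13_3 lc_e_rc_13_3 lc_e_Cert_tree lc_e_Cert_tree lc_e_rc_18_1 lc_e_rc_18_1 lc_e_rc_18_1 lc_e_rc_16_1 lc_e_rc_27_5 lc_e_rc_18_1 lc_e_Cert_tree lc_e_rc_9_3 lc_e_rc_18_1 lc_e_rc_4_3 lc_e_rc_16_3 lc_e_rc_27_7 lc_e_rc_18_1 lc_e_rc_19_2 lc_e_rc_16_1 lc_e_rc_18_1 lc_e_Cert_tree lc_e_rc_18_1 lc_e_Cert_tree lc_e_rc_18_1 lc_e_rc_18_1 lc_e_rc_9_1 lc_e_Cert_tree lc_e_rc_27_7 lc_e_rc_18_1 lc_e_rc_16_1 lc_e_rc_16_3 lc_e_rc_18_1 lc_e_rc_16_1 lc_e_rc_9_3 lc_e_rc_18_1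 lc_e_Cert_tree lc_e_rc_9_1 lc_e_rc_18_1 lc_e_Cert_tree lc_e_rc_16_3 lc_e_rc_18_1 lc_e_rc_16_3 lc_e_rc_27_5 lc_e_rc_19_2 lc_e_rc_16_5 lc_e_rc_9_3 lc_e_rc_19_4 lc_e_rc_18_1 lc_e_rc_19_4 lc_e_rc_27_1 lc_e_Cert_tree lc_e_rc_18_1 lc_e_Cert_tree lc_e_rc_18_1 lc_e_rc_27_1 lc_e_rc_16_5) (@D3.rec (fun _ => (Cert rels S Gen.e)) lc_e_Cert_tree lc_e_rc_18_1 lc_e_rc_27_5 lc_e_rc_18_1 lc_e_rc_4_1 lc_e_Cert_tree lc_e_rc_27_5 lc_e_rc_18_1 lc_e_Cert_tree lc_e_Cert_tree lc_e_rc_18_1 lc_e_rc_19_2 lc_e_rc_18_1 lc_e_rc_27_5 lc_e_rc_16_3 lc_e_rc_16_5 lc_e_rc_27_7 lc_e_rc_18_1 lc_e_rc_4_1 lc_e_rc_9_3 lc_e_rc_16_1 lc_e_rc_13_3 lc_e_rc_16_1 lc_e_rc_18_1 lc_e_rc_9_1 lc_e_rc_16_1 lc_e_rc_9_1 lc_e_rc_13_3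 lc_e_rc_27_5 lc_e_rc_19_2 lc_e_rc_9_3 lc_e_rc_13_1 lc_e_rc_27_5 lc_e_rc_27_5 lc_e_rc_18_1 lc_e_rc_4_1 lc_e_rc_16_5 lc_e_Cert_tree lc_e_rc_16_1 lc_e_rc_18_1 lc_e_rc_13_1 lc_e_rc_13_3 lc_e_rc_18_1 lc_e_Cert_tree lc_e_rc_18_1 lc_e_rc_18_1 lc_e_rc_13_3 lc_e_rc_18_1 lc_e_Cert_tree lc_e_rc_27_1 lc_e_rc_13_3 lc_e_rc_13_3 lc_e_Cert_tree lc_e_Cert_tree lc_e_rc_18_1 lc_e_rc_18_1 lc_e_Cert_tree lc_e_Cert_tree lc_e_rc_9_1 lc_e_rc_18_1 lc_e_rc_19_2 lc_e_rc_13_1) (@D3.rec (fun _ => (Cert rels S Gen.e)) lc_e_rc_13_3 lc_e_rc_9_1 lc_e_rc_18_1 lc_e_rc_18_1 lc_e_rc_13_3 lc_e_rc_19_2 lc_e_rc_9_3 lc_e_rc_9_1 lc_e_rc_16_3 lc_e_rc_13_3 lc_e_rc_16_5 lc_e_rc_27_7 lc_e_rc_16_5 lc_e_rc_27_7 lc_e_rc_9_1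 lc_e_Cert_tree lc_e_rc_18_1 lc_e_rc_27_5 lc_e_rc_13_3 lc_e_rc_27_1 lc_e_rc_4_1 lc_e_rc_27_7 lc_e_rc_4_3 lc_e_Cert_tree lc_e_rc_18_1 lc_e_rc_27_5 lc_e_Cert_tree lc_e_rc_18_1 lc_e_rc_18_1 lc_e_Cert_tree lc_e_rc_13_3 lc_e_rc_13_1 lc_e_Cert_tree lc_e_rc_18_1 lc_e_rc_19_2 lc_e_rc_9_3 lc_e_rc_27_5 lc_e_rc_18_1 lc_e_rc_9_1 lc_e_rc_18_1 lc_e_Cert_tree lc_e_rc_16_1 lc_e_rc_18_1 lc_e_rc_27_7 lc_e_rc_27_5 lc_e_rc_27_5 lc_e_rc_18_1 lc_e_rc_18_1 lc_e_rc_18_1 lc_e_rc_16_3 lc_e_rc_18_1 lc_e_rc_4_1 lc_e_rc_18_1 lc_e_rc_27_5 lc_e_rc_9_3 lc_e_rc_16_3 lc_e_rc_9_3 lc_e_rc_4_1 lc_e_rc_19_2 lc_e_rc_13_3 lc_e_rc_27_5 lc_e_rc_9_3) (@D3.rec (fun _ => (Cert rels S Gen.e)) lc_e_rc_27_5 lc_e_Cert_tree lc_e_rc_27_1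 lc_e_rc_18_1 lc_e_rc_16_5 lc_e_rc_13_3 lc_e_rc_13_3 lc_e_rc_16_3 lc_e_rc_9_3 lc_e_rc_13_3 lc_e_rc_27_7 lc_e_rc_27_1 lc_e_rc_13_3 lc_e_rc_18_1 lc_e_rc_18_1 lc_e_rc_4_3 lc_e_rc_27_5 lc_e_rc_18_1 lc_e_rc_13_3 lc_e_rc_18_1 lc_e_rc_16_3 lc_e_rc_27_7 lc_e_rc_27_5 lc_e_rc_18_1 lc_e_Cert_tree lc_e_rc_27_7 lc_e_Cert_tree lc_e_rc_27_5 lc_e_rc_18_1 lc_e_rc_16_3 lc_e_rc_4_1 lc_e_rc_13_3 lc_e_rc_16_5 lc_e_rc_18_1 lc_e_Cert_tree lc_e_rc_18_1 lc_e_rc_16_3 lc_e_rc_19_2 lc_e_rc_9_1 lc_e_rc_18_1 lc_e_rc_27_5 lc_e_rc_19_4 lc_e_Cert_tree lc_e_rc_18_1 lc_e_rc_9_1 lc_e_rc_19_4 lc_e_rc_19_4 lc_e_Cert_tree lc_e_Cert_tree lc_e_rc_4_3 lc_e_Cert_tree lc_e_rc_18_1 lc_e_Cert_tree lc_e_rc_27_5 lc_e_Cert_tree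 lc_e_rc_27_5 lc_e_rc_18_1 lc_e_rc_16_3 lc_e_rc_13_1 lc_e_rc_18_1 lc_e_rc_18_1 lc_e_rc_16_5) (@D3.rec (fun _ => (Cert rels S Gen.e)) lc_e_rc_9_3 lc_e_rc_18_1 lc_e_rc_16_3 lc_e_rc_18_1 lc_e_rc_13_1 lc_e_rc_19_4 lc_e_rc_19_4 lc_e_Cert_tree lc_e_Cert_tree lc_e_rc_16_3 lc_e_rc_13_3 lc_e_rc_18_1 lc_e_Cert_tree lc_e_rc_13_3 lc_e_rc_9_3 lc_e_rc_13_3 lc_e_rc_18_1 lc_e_rc_16_5 lc_e_rc_9_3 lc_e_rc_13_3 lc_e_rc_16_5 lc_e_rc_9_3 lc_e_rc_27_1 lc_e_rc_18_1 lc_e_rc_4_3 lc_e_rc_18_1 lc_e_rc_18_1 lc_e_rc_13_3 lc_e_rc_9_1 lc_e_rc_19_2 lc_e_rc_18_1 lc_e_rc_18_1 lc_e_rc_13_3 lc_e_rc_27_1 lc_e_Cert_tree lc_e_rc_27_5 lc_e_Cert_tree lc_e_Cert_tree lc_e_rc_18_1 lc_e_rc_18_1 lc_e_rc_18_1 lc_e_rc_27_7 lc_e_Cert_tree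 lc_e_rc_9_3 lc_e_Cert_tree lc_e_Cert_tree lc_e_rc_18_1 lc_e_rc_18_1 lc_e_rc_18_1 lc_e_rc_16_1 lc_e_rc_18_1 lc_e_Cert_tree lc_e_rc_19_4 lc_e_rc_9_1 lc_e_rc_18_1 lc_e_Cert_tree lc_e_Cert_tree lc_e_rc_16_3 lc_e_rc_18_1 lc_e_rc_18_1 lc_e_rc_13_3 lc_e_rc_4_3) (@D3.rec (fun _ => (Cert rels S Gen.e)) lc_e_rc_27_1 lc_e_rc_18_1 lc_e_rc_16_1 lc_e_rc_4_1 lc_e_rc_4_1 lc_e_rc_13_1 lc_e_rc_18_1 lc_e_rc_13_3 lc_e_rc_13_3 lc_e_rc_19_4 lc_e_rc_9_3 lc_e_rc_27_5 lc_e_Cert_tree lc_e_rc_18_1 lc_e_rc_16_1 lc_e_Cert_tree lc_e_rc_18_1 lc_e_Cert_tree lc_e_rc_16_5 lc_e_rc_4_1 lc_e_rc_16_3 lc_e_rc_9_3 lc_e_rc_13_1 lc_e_rc_9_1 lc_e_rc_27_7 lc_e_rc_18_1 lc_e_rc_18_1 lc_e_rc_13_3 lc_e_rc_13_3 lc_e_rc_27_7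 lc_e_rc_13_3 lc_e_rc_13_3 lc_e_rc_16_5 lc_e_rc_16_3 lc_e_Cert_tree lc_e_rc_27_5 lc_e_rc_18_1 lc_e_rc_18_1 lc_e_rc_18_1 lc_e_rc_13_3 lc_e_rc_13_3 lc_e_rc_4_1 lc_e_Cert_tree lc_e_rc_18_1 lc_e_rc_18_1 lc_e_rc_16_1 lc_e_Cert_tree lc_e_rc_9_3 lc_e_rc_16_3 lc_e_rc_18_1 lc_e_Cert_tree lc_e_Cert_tree lc_e_Cert_tree lc_e_rc_18_1 lc_e_Cert_tree lc_e_rc_18_1 lc_e_rc_16_3 lc_e_Cert_tree lc_e_Cert_tree lc_e_rc_18_1 lc_e_rc_9_1 lc_e_rc_9_3) (@D3.rec (fun _ => (Cert rels S Gen.e)) lc_e_rc_16_1 lc_e_rc_9_3 lc_e_Cert_tree lc_e_rc_18_1 lc_e_Cert_tree lc_e_rc_27_7 lc_e_rc_16_1 lc_e_rc_19_4 lc_e_rc_9_3 lc_e_rc_16_3 lc_e_rc_18_1 lc_e_rc_13_3 lc_e_rc_27_7 lc_e_rc_19_0 lc_e_rc_18_1 lc_e_rc_18_1 lc_e_rc_18_1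 lc_e_rc_18_1 lc_e_rc_4_3 lc_e_rc_27_5 lc_e_rc_13_3 lc_e_rc_18_1 lc_e_rc_16_5 lc_e_rc_16_5 lc_e_rc_9_3 lc_e_rc_18_1 lc_e_rc_27_1 lc_e_rc_18_1 lc_e_Cert_tree lc_e_Cert_tree lc_e_rc_4_1 lc_e_rc_18_1 lc_e_rc_16_3 lc_e_Cert_tree lc_e_rc_4_3 lc_e_rc_27_5 lc_e_rc_18_1 lc_e_rc_13_3 lc_e_Cert_tree lc_e_rc_18_1 lc_e_Cert_tree lc_e_rc_13_3 lc_e_rc_27_7 lc_e_rc_18_1 lc_e_Cert_tree lc_e_rc_13_3 lc_e_rc_16_1 lc_e_rc_9_1 lc_e_Cert_tree lc_e_rc_19_4 lc_e_Cert_tree lc_e_rc_9_3 lc_e_rc_16_5 lc_e_Cert_tree lc_e_rc_16_1 lc_e_rc_16_1 lc_e_rc_16_5 lc_e_rc_18_1 lc_e_Cert_tree lc_e_rc_13_3 lc_e_rc_13_1 lc_e_rc_18_1) (@D3.rec (fun _ => (Cert rels S Gen.e)) lc_e_rc_16_3 lc_e_rc_13_3 lc_e_rc_9_3 lc_e_rc_18_1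 lc_e_rc_19_0 lc_e_rc_19_4 lc_e_rc_9_1 lc_e_rc_18_1 lc_e_Cert_tree lc_e_rc_27_7 lc_e_rc_16_3 lc_e_rc_18_1 lc_e_Cert_tree lc_e_rc_27_7 lc_e_rc_19_4 lc_e_Cert_tree lc_e_rc_18_1 lc_e_rc_16_3 lc_e_rc_18_1 lc_e_Cert_tree lc_e_rc_16_1 lc_e_rc_4_1 lc_e_Cert_tree lc_e_rc_9_1 lc_e_rc_13_3 lc_e_rc_18_1 lc_e_Cert_tree lc_e_rc_27_7 lc_e_rc_16_3 lc_e_rc_18_1 lc_e_rc_9_3 lc_e_rc_13_3 lc_e_rc_16_3 lc_e_rc_18_1 lc_e_rc_27_1 lc_e_rc_18_1 lc_e_rc_27_1 lc_e_rc_9_3 lc_e_rc_18_1 lc_e_rc_27_5 lc_e_rc_18_1 lc_e_rc_18_1 lc_e_rc_13_3 lc_e_rc_16_1 lc_e_rc_13_3 lc_e_rc_19_0 lc_e_rc_13_1 lc_e_rc_18_1 lc_e_Cert_tree lc_e_rc_16_5 lc_e_Cert_tree lc_e_rc_18_1 lc_e_rc_16_1 lc_e_rc_16_1 lc_e_rc_16_1 lc_e_rc_19_4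 lc_e_rc_18_1 lc_e_rc_13_3 lc_e_rc_9_3 lc_e_rc_18_1 lc_e_rc_13_1 lc_e_rc_27_5) (@D3.rec (fun _ => (Cert rels S Gen.e)) lc_e_rc_18_1 lc_e_rc_9_3 lc_e_rc_9_3 lc_e_Cert_tree lc_e_rc_16_5 lc_e_Cert_tree lc_e_rc_27_1 lc_e_Cert_tree lc_e_rc_18_1 lc_e_Cert_tree lc_e_rc_9_3 lc_e_rc_16_3 lc_e_rc_18_1 lc_e_rc_27_7 lc_e_rc_16_1 lc_e_rc_16_5 lc_e_rc_13_3 lc_e_Cert_tree lc_e_Cert_tree lc_e_Cert_tree lc_e_rc_18_1 lc_e_rc_27_7 lc_e_rc_18_1 lc_e_rc_27_5 lc_e_rc_18_1 lc_e_rc_18_1 lc_e_rc_27_5 lc_e_rc_9_1 lc_e_rc_19_4 lc_e_Cert_tree lc_e_rc_16_1 lc_e_rc_16_3 lc_e_rc_4_1 lc_e_rc_18_1 lc_e_rc_13_3 lc_e_Cert_tree lc_e_rc_16_1 lc_e_rc_18_1 lc_e_rc_13_3 lc_e_Cert_tree lc_e_rc_27_1 lc_e_rc_16_1 lc_e_rc_13_3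 lc_e_rc_13_3 lc_e_Cert_tree lc_e_rc_9_3 lc_e_rc_18_1 lc_e_rc_18_1 lc_e_rc_16_5 lc_e_rc_4_1 lc_e_rc_18_1 lc_e_rc_13_3 lc_e_Cert_tree lc_e_rc_18_1 lc_e_rc_16_5 lc_e_rc_16_5 lc_e_rc_18_1 lc_e_Cert_tree lc_e_Cert_tree lc_e_rc_13_1 lc_e_rc_13_1 lc_e_rc_18_1) (@D3.rec (fun _ => (Cert rels S Gen.e)) lc_e_rc_13_1 lc_e_Cert_tree lc_e_rc_13_3 lc_e_Cert_tree lc_e_rc_18_1 lc_e_rc_27_1 lc_e_rc_27_1 lc_e_rc_19_4 lc_e_Cert_tree lc_e_Cert_tree lc_e_rc_18_1 lc_e_rc_9_3 lc_e_Cert_tree lc_e_rc_16_3 lc_e_rc_19_4 lc_e_rc_18_1 lc_e_rc_9_3 lc_e_rc_16_3 lc_e_Cert_tree lc_e_rc_27_1 lc_e_rc_9_3 lc_e_rc_18_1 lc_e_rc_16_5 lc_e_rc_16_5 lc_e_rc_9_3 lc_e_rc_19_4 lc_e_rc_13_3 lc_e_Cert_tree lc_e_Cert_tree lc_e_rc_18_1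 lc_e_rc_27_5 lc_e_rc_18_1 lc_e_rc_18_1 lc_e_Cert_tree lc_e_rc_18_1 lc_e_rc_16_3 lc_e_rc_16_3 lc_e_rc_18_1 lc_e_rc_13_1 lc_e_rc_16_3 lc_e_rc_18_1 lc_e_Cert_tree lc_e_rc_27_5 lc_e_rc_18_1 lc_e_rc_18_1 lc_e_rc_9_1 lc_e_rc_18_1 lc_e_rc_9_1 lc_e_Cert_tree lc_e_rc_18_1 lc_e_rc_18_1 lc_e_rc_16_3 lc_e_rc_13_3 lc_e_rc_16_3 lc_e_rc_13_3 lc_e_rc_4_3 lc_e_rc_9_1 lc_e_rc_18_1 lc_e_Cert_tree lc_e_rc_16_3 lc_e_rc_4_3 lc_e_Cert_tree) (@D3.rec (fun _ => (Cert rels S Gen.e)) lc_e_rc_16_1 lc_e_rc_19_2 lc_e_rc_9_3 lc_e_rc_9_3 lc_e_rc_9_1 lc_e_rc_18_1 lc_e_Cert_tree lc_e_rc_13_3 lc_e_rc_9_3 lc_e_rc_13_3 lc_e_rc_18_1 lc_e_rc_9_3 lc_e_rc_13_3 lc_e_rc_27_1 lc_e_rc_18_1 lc_e_rc_9_1 lc_e_rc_18_1 lc_e_rc_18_1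 lc_e_rc_13_3 lc_e_rc_9_3 lc_e_rc_18_1 lc_e_rc_18_1 lc_e_rc_4_3 lc_e_rc_18_1 lc_e_rc_19_0 lc_e_Cert_tree lc_e_Cert_tree lc_e_rc_19_2 lc_e_rc_18_1 lc_e_rc_16_5 lc_e_rc_9_3 lc_e_Cert_tree lc_e_rc_18_1 lc_e_rc_13_1 lc_e_rc_27_1 lc_e_rc_19_0 lc_e_rc_18_1 lc_e_rc_9_1 lc_e_Cert_tree lc_e_rc_18_1 lc_e_rc_9_1 lc_e_Cert_tree lc_e_rc_16_1 lc_e_rc_13_3 lc_e_rc_13_3 lc_e_rc_18_1 lc_e_rc_19_2 lc_e_Cert_tree lc_e_rc_27_5 lc_e_rc_18_1 lc_e_Cert_tree lc_e_rc_16_3 lc_e_rc_18_1 lc_e_rc_16_5 lc_e_rc_13_1 lc_e_rc_9_3 lc_e_Cert_tree lc_e_Cert_tree lc_e_rc_27_5 lc_e_rc_18_1 lc_e_rc_18_1 lc_e_Cert_tree) (@D3.rec (fun _ => (Cert rels S Gen.e)) lc_e_rc_9_3 lc_e_rc_18_1 lc_e_rc_16_3 lc_e_rc_13_3 lc_e_rc_13_3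 lc_e_rc_27_1 lc_e_Cert_tree lc_e_rc_18_1 lc_e_Cert_tree lc_e_Cert_tree lc_e_rc_18_1 lc_e_rc_18_1 lc_e_rc_4_1 lc_e_rc_16_3 lc_e_rc_16_5 lc_e_rc_13_3 lc_e_rc_13_3 lc_e_rc_27_1 lc_e_rc_18_1 lc_e_rc_16_5 lc_e_rc_13_3 lc_e_rc_27_5 lc_e_rc_18_1 lc_e_rc_18_1 lc_e_rc_13_3 lc_e_rc_4_1 lc_e_rc_18_1 lc_e_rc_13_3 lc_e_rc_9_3 lc_e_rc_4_1 lc_e_rc_27_5 lc_e_rc_19_4 lc_e_rc_18_1 lc_e_rc_16_1 lc_e_rc_18_1 lc_e_rc_27_7 lc_e_rc_9_3 lc_e_rc_27_5 lc_e_rc_9_3 lc_e_rc_27_7 lc_e_rc_18_1 lc_e_rc_19_4 lc_e_rc_27_7 lc_e_rc_13_3 lc_e_rc_9_3 lc_e_Cert_tree lc_e_rc_18_1 lc_e_rc_27_7 lc_e_Cert_tree lc_e_rc_18_1 lc_e_Cert_tree lc_e_Cert_tree lc_e_rc_16_1 lc_e_rc_9_1 lc_e_rc_16_1 lc_e_rc_19_4 lc_e_rc_9_3 lc_e_rc_13_1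 lc_e_Cert_tree lc_e_rc_13_3 lc_e_Cert_tree lc_e_Cert_tree) (@D3.rec (fun _ => (Cert rels S Gen.e)) lc_e_rc_9_3 lc_e_rc_18_1 lc_e_rc_27_7 lc_e_rc_18_1 lc_e_rc_9_1 lc_e_Cert_tree lc_e_Cert_tree lc_e_rc_13_3 lc_e_rc_19_4 lc_e_rc_16_1 lc_e_rc_19_4 lc_e_Cert_tree lc_e_rc_13_3 lc_e_rc_19_2 lc_e_rc_18_1 lc_e_rc_13_3 lc_e_Cert_tree lc_e_rc_18_1 lc_e_rc_16_1 lc_e_rc_9_3 lc_e_rc_18_1 lc_e_rc_27_5 lc_e_rc_18_1 lc_e_rc_18_1 lc_e_rc_13_3 lc_e_rc_9_3 lc_e_rc_18_1 lc_e_Cert_tree lc_e_Cert_tree lc_e_rc_18_1 lc_e_rc_4_3 lc_e_Cert_tree lc_e_rc_18_1 lc_e_rc_19_4 lc_e_Cert_tree lc_e_Cert_tree lc_e_rc_18_1 lc_e_rc_19_4 lc_e_rc_4_1 lc_e_rc_18_1 lc_e_rc_16_3 lc_e_rc_19_4 lc_e_Cert_tree lc_e_rc_18_1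 lc_e_rc_13_1 lc_e_rc_27_5 lc_e_rc_18_1 lc_e_rc_9_1 lc_e_Cert_tree lc_e_rc_18_1 lc_e_rc_18_1 lc_e_Cert_tree lc_e_rc_27_5 lc_e_rc_13_3 lc_e_rc_9_1 lc_e_rc_18_1 lc_e_rc_18_1 lc_e_rc_18_1 lc_e_rc_18_1 lc_e_rc_18_1 lc_e_rc_16_3 lc_e_rc_16_5) (@D3.rec (fun _ => (Cert rels S Gen.e)) lc_e_rc_16_5 lc_e_rc_19_2 lc_e_rc_9_3 lc_e_rc_13_3 lc_e_rc_13_1 lc_e_rc_13_3 lc_e_rc_18_1 lc_e_rc_18_1 lc_e_rc_18_1 lc_e_rc_19_2 lc_e_rc_13_3 lc_e_rc_9_3 lc_e_rc_27_7 lc_e_rc_16_5 lc_e_rc_18_1 lc_e_rc_27_7 lc_e_rc_18_1 lc_e_Cert_tree lc_e_Cert_tree lc_e_rc_18_1 lc_e_rc_13_3 lc_e_Cert_tree lc_e_rc_18_1 lc_e_rc_13_3 lc_e_Cert_tree lc_e_Cert_tree lc_e_rc_18_1 lc_e_rc_16_1 lc_e_rc_27_1 lc_e_rc_16_5 lc_e_Cert_tree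 lc_e_rc_18_1 lc_e_Cert_tree lc_e_rc_18_1 lc_e_rc_16_1 lc_e_rc_27_5 lc_e_rc_27_5 lc_e_rc_19_4 lc_e_rc_27_5 lc_e_rc_19_4 lc_e_rc_27_7 lc_e_rc_27_7 lc_e_rc_18_1 lc_e_Cert_tree lc_e_rc_18_1 lc_e_Cert_tree lc_e_rc_19_4 lc_e_rc_19_4 lc_e_Cert_tree lc_e_rc_13_1 lc_e_rc_18_1 lc_e_Cert_tree lc_e_Cert_tree lc_e_Cert_tree lc_e_rc_27_5 lc_e_rc_18_1 lc_e_rc_18_1 lc_e_rc_13_3 lc_e_Cert_tree lc_e_rc_13_3 lc_e_rc_19_4 lc_e_Cert_tree) (@D3.rec (fun _ => (Cert rels S Gen.e)) lc_e_rc_9_1 lc_e_Cert_tree lc_e_Cert_tree lc_e_rc_18_1 lc_e_rc_18_1 lc_e_rc_18_1 lc_e_Cert_tree lc_e_rc_16_1 lc_e_rc_19_4 lc_e_rc_13_3 lc_e_rc_16_3 lc_e_Cert_tree lc_e_rc_18_1 lc_e_Cert_tree lc_e_rc_18_1 lc_e_Cert_tree lc_e_Cert_tree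 lc_e_rc_18_1 lc_e_rc_18_1 lc_e_rc_16_1 lc_e_rc_19_4 lc_e_rc_9_3 lc_e_Cert_tree lc_e_Cert_tree lc_e_rc_18_1 lc_e_rc_16_3 lc_e_rc_19_4 lc_e_Cert_tree lc_e_rc_13_3 lc_e_rc_16_5 lc_e_rc_18_1 lc_e_Cert_tree lc_e_Cert_tree lc_e_rc_27_5 lc_e_Cert_tree lc_e_rc_18_1 lc_e_rc_4_3 lc_e_rc_18_1 lc_e_rc_18_1 lc_e_Cert_tree lc_e_rc_18_1 lc_e_rc_18_1 lc_e_rc_4_3 lc_e_rc_18_1 lc_e_rc_13_3 lc_e_rc_18_1 lc_e_rc_13_3 lc_e_rc_13_3 lc_e_rc_16_3 lc_e_Cert_tree lc_e_rc_27_5 lc_e_rc_18_1 lc_e_Cert_tree lc_e_rc_18_1 lc_e_rc_19_4 lc_e_rc_18_1 lc_e_rc_19_4 lc_e_rc_27_5 lc_e_Cert_tree lc_e_rc_13_1 lc_e_rc_16_3 lc_e_Cert_tree) (@D3.rec (fun _ => (Cert rels S Gen.e)) lc_e_Cert_tree lc_e_Cert_tree lc_e_Cert_tree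 lc_e_rc_18_1 lc_e_rc_18_1 lc_e_rc_13_3 lc_e_rc_16_1 lc_e_rc_19_4 lc_e_rc_19_0 lc_e_rc_9_3 lc_e_Cert_tree lc_e_rc_13_1 lc_e_Cert_tree lc_e_rc_18_1 lc_e_rc_18_1 lc_e_Cert_tree lc_e_rc_27_5 lc_e_rc_16_1 lc_e_rc_19_4 lc_e_Cert_tree lc_e_rc_18_1 lc_e_rc_18_1 lc_e_Cert_tree lc_e_rc_13_3 lc_e_Cert_tree lc_e_rc_18_1 lc_e_rc_18_1 lc_e_rc_13_3 lc_e_rc_19_4 lc_e_rc_18_1 lc_e_Cert_tree lc_e_rc_13_3 lc_e_rc_4_3 lc_e_rc_18_1 lc_e_rc_18_1 lc_e_rc_16_1 lc_e_rc_19_4 lc_e_Cert_tree lc_e_Cert_tree lc_e_Cert_tree lc_e_Cert_tree lc_e_Cert_tree lc_e_rc_18_1 lc_e_Cert_tree lc_e_Cert_tree lc_e_rc_16_3 lc_e_rc_18_1 lc_e_rc_18_1 lc_e_Cert_tree lc_e_rc_18_1 lc_e_rc_18_1 lc_e_Cert_tree lc_e_rc_18_1 lc_e_rc_18_1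 lc_e_Cert_tree lc_e_Cert_tree lc_e_Cert_tree lc_e_rc_18_1 lc_e_rc_13_3 lc_e_rc_13_3 lc_e_rc_16_3 lc_e_Cert_tree) (@D3.rec (fun _ => (Cert rels S Gen.e)) lc_e_rc_27_5 lc_e_rc_18_1 lc_e_rc_9_3 lc_e_rc_9_1 lc_e_rc_13_3 lc_e_Cert_tree lc_e_rc_18_1 lc_e_rc_16_1 lc_e_Cert_tree lc_e_rc_27_5 lc_e_rc_9_1 lc_e_rc_27_1 lc_e_rc_18_1 lc_e_rc_18_1 lc_e_rc_18_1 lc_e_rc_19_4 lc_e_rc_9_1 lc_e_rc_18_1 lc_e_rc_18_1 lc_e_rc_19_4 lc_e_rc_18_1 lc_e_rc_18_1 lc_e_rc_18_1 lc_e_rc_27_7 lc_e_rc_19_4 lc_e_rc_13_1 lc_e_rc_4_1 lc_e_Cert_tree lc_e_rc_4_1 lc_e_rc_16_3 lc_e_rc_18_1 lc_e_rc_19_4 lc_e_rc_9_3 lc_e_Cert_tree lc_e_rc_4_3 lc_e_rc_18_1 lc_e_rc_16_5 lc_e_rc_27_1 lc_e_Cert_tree lc_e_rc_18_1 lc_e_rc_4_1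 lc_e_rc_19_0 lc_e_Cert_tree lc_e_rc_18_1 lc_e_rc_18_1 lc_e_rc_9_3 lc_e_rc_9_3 lc_e_rc_19_4 lc_e_rc_27_5 lc_e_Cert_tree lc_e_Cert_tree lc_e_rc_18_1 lc_e_rc_16_3 lc_e_rc_18_1 lc_e_rc_27_5 lc_e_rc_4_1 lc_e_Cert_tree lc_e_Cert_tree lc_e_Cert_tree lc_e_rc_18_1 lc_e_rc_16_3 lc_e_Cert_tree) (@D3.rec (fun _ => (Cert rels S Gen.e)) lc_e_rc_19_4 lc_e_rc_13_3 lc_e_rc_16_5 lc_e_Cert_tree lc_e_Cert_tree lc_e_rc_18_1 lc_e_rc_18_1 lc_e_rc_18_1 lc_e_rc_13_1 lc_e_rc_27_5 lc_e_rc_4_1 lc_e_rc_4_1 lc_e_rc_9_3 lc_e_rc_9_3 lc_e_Cert_tree lc_e_Cert_tree lc_e_rc_18_1 lc_e_rc_18_1 lc_e_rc_16_1 lc_e_rc_19_4 lc_e_rc_13_3 lc_e_rc_4_3 lc_e_Cert_tree lc_e_rc_13_1 lc_e_rc_18_1 lc_e_rc_18_1 lc_e_Cert_tree lc_e_Cert_tree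 lc_e_rc_16_3 lc_e_rc_18_1 lc_e_rc_9_1 lc_e_rc_18_1 lc_e_rc_9_3 lc_e_Cert_tree lc_e_Cert_tree lc_e_rc_18_1 lc_e_rc_18_1 lc_e_rc_16_3 lc_e_rc_27_5 lc_e_rc_16_1 lc_e_rc_27_5 lc_e_rc_18_1 lc_e_rc_18_1 lc_e_rc_18_1 lc_e_rc_16_1 lc_e_rc_19_2 lc_e_rc_9_3 lc_e_rc_27_5 lc_e_rc_9_1 lc_e_rc_27_1 lc_e_rc_18_1 lc_e_Cert_tree lc_e_rc_9_3 lc_e_rc_27_5 lc_e_rc_16_3 lc_e_Cert_tree lc_e_rc_18_1 lc_e_Cert_tree lc_e_rc_9_3 lc_e_rc_9_3 lc_e_Cert_tree lc_e_rc_19_4) (@D3.rec (fun _ => (Cert rels S Gen.e)) lc_e_rc_16_5 lc_e_Cert_tree lc_e_rc_4_3 lc_e_rc_18_1 lc_e_rc_13_3 lc_e_rc_13_3 lc_e_rc_9_3 lc_e_rc_19_0 lc_e_rc_18_1 lc_e_Cert_tree lc_e_Cert_tree lc_e_Cert_tree lc_e_rc_18_1 lc_e_rc_16_3 lc_e_rc_19_4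 lc_e_Cert_tree lc_e_rc_27_1 lc_e_rc_18_1 lc_e_rc_27_1 lc_e_rc_18_1 lc_e_rc_4_3 lc_e_rc_9_3 lc_e_Cert_tree lc_e_rc_27_7 lc_e_rc_18_1 lc_e_rc_16_5 lc_e_rc_19_4 lc_e_Cert_tree lc_e_rc_27_7 lc_e_rc_18_1 lc_e_rc_9_3 lc_e_Cert_tree lc_e_rc_4_3 lc_e_rc_9_1 lc_e_rc_4_3 lc_e_rc_18_1 lc_e_rc_16_3 lc_e_rc_18_1 lc_e_Cert_tree lc_e_Cert_tree lc_e_rc_9_1 lc_e_rc_4_3 lc_e_rc_9_3 lc_e_rc_18_1 lc_e_rc_9_3 lc_e_rc_13_3 lc_e_rc_4_3 lc_e_rc_4_3 lc_e_rc_4_3 lc_e_rc_19_2 lc_e_rc_16_5 lc_e_rc_18_1 lc_e_rc_27_5 lc_e_rc_18_1 lc_e_Cert_tree lc_e_Cert_tree lc_e_rc_19_2 lc_e_rc_13_1 lc_e_Cert_tree lc_e_rc_27_7 lc_e_rc_4_3 lc_e_rc_16_5) (@D3.rec (fun _ => (Cert rels S Gen.e)) lc_e_rc_27_1 lc_e_rc_18_1 lc_e_rc_18_1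 lc_e_rc_13_3 lc_e_rc_19_4 lc_e_rc_9_3 lc_e_Cert_tree lc_e_rc_27_5 lc_e_Cert_tree lc_e_rc_18_1 lc_e_rc_16_3 lc_e_rc_18_1 lc_e_rc_18_1 lc_e_rc_27_5 lc_e_rc_18_1 lc_e_rc_13_1 lc_e_rc_13_1 lc_e_rc_16_3 lc_e_rc_18_1 lc_e_rc_27_1 lc_e_rc_27_1 lc_e_rc_27_1 lc_e_rc_4_3 lc_e_rc_16_5 lc_e_rc_19_2 lc_e_rc_18_1 lc_e_rc_13_3 lc_e_rc_4_3 lc_e_rc_27_5 lc_e_Cert_tree lc_e_rc_9_3 lc_e_rc_27_5 lc_e_rc_9_3 lc_e_rc_13_3 lc_e_Cert_tree lc_e_rc_18_1 lc_e_rc_13_3 lc_e_Cert_tree lc_e_rc_13_1 lc_e_Cert_tree lc_e_rc_18_1 lc_e_Cert_tree lc_e_Cert_tree lc_e_rc_18_1 lc_e_rc_13_1 lc_e_rc_27_1 lc_e_rc_9_1 lc_e_rc_19_4 lc_e_Cert_tree lc_e_rc_18_1 lc_e_rc_27_5 lc_e_rc_27_7 lc_e_rc_18_1 lc_e_rc_27_1 lc_e_Cert_tree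 lc_e_rc_9_3 lc_e_rc_18_1 lc_e_rc_19_2 lc_e_rc_9_1 lc_e_Cert_tree lc_e_rc_16_1 lc_e_rc_19_2) (@D3.rec (fun _ => (Cert rels S Gen.e)) lc_e_rc_13_3 lc_e_rc_4_3 lc_e_rc_18_1 lc_e_rc_9_1 lc_e_rc_18_1 lc_e_rc_4_3 lc_e_rc_16_3 lc_e_rc_9_1 lc_e_Cert_tree lc_e_rc_13_3 lc_e_rc_27_1 lc_e_rc_13_1 lc_e_rc_4_1 lc_e_rc_18_1 lc_e_rc_16_1 lc_e_rc_16_5 lc_e_rc_9_3 lc_e_rc_9_3 lc_e_rc_4_1 lc_e_rc_13_1 lc_e_rc_18_1 lc_e_rc_18_1 lc_e_rc_27_5 lc_e_rc_18_1 lc_e_rc_9_1 lc_e_rc_16_3 lc_e_rc_19_4 lc_e_rc_19_0 lc_e_rc_27_1 lc_e_rc_9_1 lc_e_rc_18_1 lc_e_rc_9_1 lc_e_rc_18_1 lc_e_rc_18_1 lc_e_rc_18_1 lc_e_rc_27_7 lc_e_rc_19_4 lc_e_rc_18_1 lc_e_rc_18_1 lc_e_rc_18_1 lc_e_rc_27_1 lc_e_rc_9_1 lc_e_Cert_tree lc_e_rc_13_1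 lc_e_rc_9_1 lc_e_rc_9_1 lc_e_rc_16_1 lc_e_Cert_tree lc_e_rc_19_2 lc_e_rc_18_1 lc_e_rc_13_1 lc_e_rc_16_1 lc_e_rc_4_3 lc_e_rc_13_3 lc_e_rc_9_3 lc_e_rc_9_3 lc_e_rc_16_1 lc_e_rc_18_1 lc_e_rc_27_7 lc_e_rc_16_5 lc_e_rc_4_1 lc_e_rc_18_1) (@D3.rec (fun _ => (Cert rels S Gen.e)) lc_e_rc_16_3 lc_e_rc_18_1 lc_e_Cert_tree lc_e_rc_16_1 lc_e_rc_19_4 lc_e_Cert_tree lc_e_rc_13_3 lc_e_rc_18_1 lc_e_rc_9_3 lc_e_rc_4_3 lc_e_rc_18_1 lc_e_Cert_tree lc_e_rc_19_4 lc_e_rc_18_1 lc_e_rc_9_3 lc_e_rc_18_1 lc_e_rc_13_3 lc_e_rc_19_4 lc_e_rc_18_1 lc_e_rc_27_1 lc_e_rc_19_4 lc_e_rc_18_1 lc_e_rc_18_1 lc_e_rc_16_5 lc_e_rc_9_3 lc_e_rc_16_5 lc_e_rc_19_0 lc_e_rc_4_3 lc_e_rc_19_0 lc_e_rc_18_1 lc_e_rc_4_3 lc_e_rc_18_1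 lc_e_Cert_tree lc_e_rc_13_3 lc_e_rc_18_1 lc_e_rc_27_1 lc_e_rc_13_3 lc_e_rc_27_7 lc_e_rc_16_5 lc_e_rc_18_1 lc_e_rc_13_3 lc_e_rc_27_5 lc_e_rc_27_7 lc_e_rc_27_1 lc_e_rc_18_1 lc_e_rc_27_7 lc_e_rc_27_1 lc_e_rc_27_5 lc_e_rc_9_3 lc_e_rc_13_3 lc_e_rc_18_1 lc_e_rc_13_3 lc_e_rc_13_1 lc_e_rc_9_3 lc_e_rc_18_1 lc_e_rc_27_7 lc_e_Cert_tree lc_e_rc_4_3 lc_e_rc_4_1 lc_e_rc_16_5 lc_e_rc_18_1 lc_e_rc_18_1) (@D3.rec (fun _ => (Cert rels S Gen.e)) lc_e_rc_18_1 lc_e_Cert_tree lc_e_rc_18_1 lc_e_Cert_tree lc_e_rc_9_1 lc_e_rc_27_1 lc_e_rc_18_1 lc_e_rc_18_1 lc_e_rc_27_5 lc_e_rc_9_3 lc_e_Cert_tree lc_e_rc_16_1 lc_e_rc_19_4 lc_e_rc_18_1 lc_e_rc_27_1 lc_e_Cert_tree lc_e_rc_16_3 lc_e_rc_13_3 lc_e_rc_16_1 lc_e_Cert_tree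 lc_e_rc_18_1 lc_e_Cert_tree lc_e_Cert_tree lc_e_rc_18_1 lc_e_rc_18_1 lc_e_rc_16_5 lc_e_rc_19_4 lc_e_Cert_tree lc_e_rc_13_3 lc_e_Cert_tree lc_e_rc_18_1 lc_e_rc_19_4 lc_e_rc_9_3 lc_e_rc_16_5 lc_e_rc_16_1 lc_e_rc_27_5 lc_e_rc_18_1 lc_e_rc_18_1 lc_e_rc_9_1 lc_e_Cert_tree lc_e_rc_13_3 lc_e_rc_16_3 lc_e_rc_4_3 lc_e_Cert_tree lc_e_rc_27_1 lc_e_rc_18_1 lc_e_rc_16_1 lc_e_rc_18_1 lc_e_rc_16_1 lc_e_rc_19_4 lc_e_rc_13_3 lc_e_rc_13_3 lc_e_rc_19_2 lc_e_rc_18_1 lc_e_rc_18_1 lc_e_rc_18_1 lc_e_rc_19_2 lc_e_rc_16_1 lc_e_rc_18_1 lc_e_rc_27_7 lc_e_rc_18_1 lc_e_rc_4_3) (@D3.rec (fun _ => (Cert rels S Gen.e)) lc_e_rc_27_5 lc_e_rc_27_7 lc_e_rc_9_1 lc_e_rc_13_1 lc_e_rc_18_1 lc_e_rc_18_1 lc_e_Cert_tree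 lc_e_rc_18_1 lc_e_rc_18_1 lc_e_rc_19_4 lc_e_rc_27_7 lc_e_rc_18_1 lc_e_rc_16_5 lc_e_rc_18_1 lc_e_rc_27_5 lc_e_rc_27_5 lc_e_rc_13_1 lc_e_rc_18_1 lc_e_rc_27_1 lc_e_Cert_tree lc_e_Cert_tree lc_e_Cert_tree lc_e_rc_18_1 lc_e_rc_18_1 lc_e_rc_27_5 lc_e_rc_16_1 lc_e_rc_27_5 lc_e_rc_27_5 lc_e_rc_18_1 lc_e_rc_13_3 lc_e_rc_27_1 lc_e_rc_19_2 lc_e_rc_18_1 lc_e_rc_13_3 lc_e_Cert_tree lc_e_rc_18_1 lc_e_rc_27_7 lc_e_rc_18_1 lc_e_rc_27_1 lc_e_rc_13_3 lc_e_rc_18_1 lc_e_rc_9_3 lc_e_rc_4_3 lc_e_Cert_tree lc_e_rc_18_1 lc_e_rc_9_3 lc_e_rc_18_1 lc_e_rc_13_3 lc_e_rc_13_3 lc_e_rc_16_1 lc_e_rc_9_1 lc_e_rc_9_3 lc_e_rc_18_1 lc_e_rc_13_3 lc_e_rc_16_1 lc_e_rc_18_1 lc_e_rc_9_3 lc_e_rc_16_5 lc_e_rc_18_1 lc_e_rc_18_1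 lc_e_rc_27_1 lc_e_rc_16_3) (@D3.rec (fun _ => (Cert rels S Gen.e)) lc_e_Cert_tree lc_e_rc_27_7 lc_e_rc_9_1 lc_e_Cert_tree lc_e_rc_18_1 lc_e_rc_13_1 lc_e_rc_18_1 lc_e_rc_19_2 lc_e_rc_18_1 lc_e_rc_9_1 lc_e_rc_18_1 lc_e_rc_19_4 lc_e_rc_27_7 lc_e_rc_18_1 lc_e_rc_18_1 lc_e_rc_4_1 lc_e_Cert_tree lc_e_rc_13_1 lc_e_rc_18_1 lc_e_rc_13_1 lc_e_rc_13_3 lc_e_rc_18_1 lc_e_rc_18_1 lc_e_rc_18_1 lc_e_rc_9_3 lc_e_rc_9_3 lc_e_rc_9_3 lc_e_Cert_tree lc_e_Cert_tree lc_e_rc_9_3 lc_e_rc_13_3 lc_e_rc_9_3 lc_e_rc_16_5 lc_e_rc_16_1 lc_e_rc_19_2 lc_e_rc_13_3 lc_e_rc_13_3 lc_e_rc_27_5 lc_e_rc_9_3 lc_e_rc_13_3 lc_e_rc_18_1 lc_e_rc_9_3 lc_e_rc_13_3 lc_e_rc_13_3 lc_e_rc_13_3 lc_e_rc_13_1 lc_e_rc_18_1 lc_e_rc_19_4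 lc_e_rc_4_1 lc_e_rc_27_5 lc_e_rc_9_3 lc_e_rc_16_5 lc_e_rc_9_3 lc_e_rc_18_1 lc_e_rc_18_1 lc_e_rc_4_3 lc_e_Cert_tree lc_e_rc_18_1 lc_e_Cert_tree lc_e_rc_27_7 lc_e_rc_13_1 lc_e_rc_18_1) (@D3.rec (fun _ => (Cert rels S Gen.e)) lc_e_rc_18_1 lc_e_rc_19_2 lc_e_rc_27_5 lc_e_rc_18_1 lc_e_rc_4_1 lc_e_rc_18_1 lc_e_rc_18_1 lc_e_Cert_tree lc_e_rc_18_1 lc_e_rc_16_3 lc_e_rc_18_1 lc_e_Cert_tree lc_e_rc_13_1 lc_e_rc_19_4 lc_e_rc_18_1 lc_e_rc_9_1 lc_e_Cert_tree lc_e_Cert_tree lc_e_Cert_tree lc_e_rc_18_1 lc_e_Cert_tree lc_e_rc_18_1 lc_e_Cert_tree lc_e_rc_19_4 lc_e_rc_9_3 lc_e_Cert_tree lc_e_rc_16_1 lc_e_rc_19_4 lc_e_rc_18_1 lc_e_rc_4_3 lc_e_rc_18_1 lc_e_rc_19_2 lc_e_rc_16_1 lc_e_rc_19_4 lc_e_Cert_tree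 lc_e_rc_18_1 lc_e_rc_9_3 lc_e_rc_27_5 lc_e_rc_4_3 lc_e_rc_18_1 lc_e_rc_13_3 lc_e_Cert_tree lc_e_rc_19_4 lc_e_rc_13_3 lc_e_rc_9_1 lc_e_rc_9_3 lc_e_rc_16_3 lc_e_rc_18_1 lc_e_rc_18_1 lc_e_rc_18_1 lc_e_rc_18_1 lc_e_rc_18_1 lc_e_rc_18_1 lc_e_rc_18_1 lc_e_rc_18_1 lc_e_rc_27_7 lc_e_rc_19_4 lc_e_rc_18_1 lc_e_rc_27_1 lc_e_rc_16_1 lc_e_rc_19_4 lc_e_rc_18_1) (@D3.rec (fun _ => (Cert rels S Gen.e)) lc_e_rc_18_1 lc_e_rc_18_1 lc_e_rc_16_3 lc_e_rc_13_1 lc_e_rc_16_3 lc_e_rc_13_1 lc_e_rc_18_1 lc_e_rc_18_1 lc_e_rc_18_1 lc_e_rc_4_3 lc_e_rc_16_3 lc_e_rc_19_2 lc_e_rc_27_7 lc_e_rc_13_3 lc_e_rc_18_1 lc_e_rc_18_1 lc_e_rc_18_1 lc_e_rc_18_1 lc_e_rc_9_1 lc_e_rc_16_3 lc_e_rc_4_1 lc_e_rc_4_3 lc_e_rc_13_3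 lc_e_Cert_tree lc_e_rc_16_1 lc_e_rc_13_3 lc_e_rc_9_1 lc_e_rc_18_1 lc_e_rc_18_1 lc_e_rc_18_1 lc_e_rc_18_1 lc_e_rc_16_1 lc_e_rc_18_1 lc_e_rc_18_1 lc_e_rc_16_5 lc_e_rc_27_5 lc_e_rc_18_1 lc_e_rc_4_3 lc_e_rc_13_3 lc_e_rc_9_3 lc_e_rc_27_5 lc_e_rc_19_0 lc_e_rc_16_3 lc_e_rc_18_1 lc_e_Cert_tree lc_e_rc_27_7 lc_e_rc_18_1 lc_e_rc_4_3 lc_e_rc_16_5 lc_e_rc_18_1 lc_e_rc_13_1 lc_e_rc_19_2 lc_e_rc_19_2 lc_e_rc_13_1 lc_e_rc_18_1 lc_e_rc_18_1 lc_e_rc_9_1 lc_e_Cert_tree lc_e_rc_18_1 lc_e_rc_9_3 lc_e_rc_13_3 lc_e_Cert_tree) (@D3.rec (fun _ => (Cert rels S Gen.e)) lc_e_rc_9_3 lc_e_rc_16_5 lc_e_rc_9_1 lc_e_rc_27_1 lc_e_rc_9_3 lc_e_rc_18_1 lc_e_rc_16_3 lc_e_rc_18_1 lc_e_rc_27_5 lc_e_rc_16_1 lc_e_rc_13_3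 lc_e_rc_18_1 lc_e_rc_27_7 lc_e_rc_9_3 lc_e_rc_9_3 lc_e_rc_18_1 lc_e_rc_4_3 lc_e_rc_27_7 lc_e_rc_19_2 lc_e_Cert_tree lc_e_rc_16_3 lc_e_rc_9_3 lc_e_rc_13_3 lc_e_rc_27_5 lc_e_rc_27_5 lc_e_rc_16_5 lc_e_rc_16_1 lc_e_rc_13_3 lc_e_Cert_tree lc_e_rc_18_1 lc_e_rc_16_1 lc_e_rc_9_3 lc_e_rc_13_1 lc_e_rc_19_2 lc_e_rc_18_1 lc_e_rc_18_1 lc_e_rc_9_3 lc_e_rc_13_1 lc_e_rc_18_1 lc_e_rc_18_1 lc_e_rc_4_3 lc_e_rc_18_1 lc_e_rc_4_3 lc_e_rc_9_3 lc_e_rc_18_1 lc_e_rc_9_3 lc_e_rc_13_3 lc_e_rc_19_4 lc_e_rc_4_1 lc_e_rc_16_1 lc_e_rc_13_3 lc_e_rc_27_1 lc_e_rc_13_1 lc_e_rc_13_3 lc_e_rc_16_5 lc_e_rc_13_1 lc_e_rc_18_1 lc_e_rc_18_1 lc_e_rc_4_3 lc_e_rc_13_3 lc_e_rc_18_1 lc_e_rc_18_1)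
def ce_e_18 : D2 → D3 → (Cert rels S Gen.e) := @D2.rec (fun _ => D3 → (Cert rels S Gen.e)) (@D3.rec (fun _ => (Cert rels S Gen.e)) lc_e_rc_18_1 lc_e_rc_9_3 lc_e_rc_13_1 lc_e_rc_16_3 lc_e_rc_18_1 lc_e_rc_9_3 lc_e_rc_27_7 lc_e_rc_16_3 lc_e_rc_9_3 lc_e_Cert_tree lc_e_rc_4_3 lc_e_rc_9_3 lc_e_rc_18_1 lc_e_rc_27_5 lc_e_rc_18_1 lc_e_rc_18_1 lc_e_rc_18_1 lc_e_rc_9_3 lc_e_rc_9_3 lc_e_rc_16_1 lc_e_rc_18_1 lc_e_rc_13_3 lc_e_Cert_tree lc_e_rc_16_1 lc_e_rc_4_1 lc_e_rc_27_7 lc_e_Cert_tree lc_e_rc_13_1 lc_e_rc_27_1 lc_e_rc_18_1 lc_e_rc_19_4 lc_e_rc_13_3 lc_e_rc_13_1 lc_e_rc_4_1 lc_e_rc_18_1 lc_e_rc_19_4 lc_e_rc_27_5 lc_e_rc_18_1 lc_e_Cert_tree lc_e_Cert_tree lc_e_rc_18_1 lc_e_rc_16_3 lc_e_rc_13_3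 lc_e_rc_13_3 lc_e_rc_19_2 lc_e_rc_18_1 lc_e_rc_13_3 lc_e_rc_16_5 lc_e_rc_16_3 lc_e_rc_9_3 lc_e_rc_19_0 lc_e_rc_18_1 lc_e_rc_16_3 lc_e_rc_16_3 lc_e_rc_9_1 lc_e_rc_16_1 lc_e_rc_4_1 lc_e_rc_4_3 lc_e_rc_16_3 lc_e_rc_4_3 lc_e_rc_18_1 lc_e_rc_13_3) (@D3.rec (fun _ => (Cert rels S Gen.e)) lc_e_rc_19_0 lc_e_rc_13_1 lc_e_rc_16_3 lc_e_rc_13_1 lc_e_rc_27_5 lc_e_rc_18_1 lc_e_rc_16_5 lc_e_rc_9_3 lc_e_rc_27_5 lc_e_rc_27_5 lc_e_rc_27_5 lc_e_Cert_tree lc_e_rc_18_1 lc_e_rc_9_3 lc_e_Cert_tree lc_e_rc_13_3 lc_e_Cert_tree lc_e_rc_13_3 lc_e_rc_13_3 lc_e_rc_18_1 lc_e_rc_9_3 lc_e_rc_4_3 lc_e_rc_27_7 lc_e_Cert_tree lc_e_rc_18_1 lc_e_Cert_tree lc_e_Cert_tree lc_e_rc_18_1 lc_e_rc_27_5 lc_e_rc_18_1 lc_e_rc_4_1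 lc_e_rc_9_1 lc_e_rc_9_3 lc_e_rc_18_1 lc_e_rc_16_5 lc_e_rc_18_1 lc_e_rc_16_1 lc_e_Cert_tree lc_e_rc_18_1 lc_e_rc_18_1 lc_e_rc_16_1 lc_e_rc_18_1 lc_e_rc_9_3 lc_e_rc_13_3 lc_e_rc_13_3 lc_e_rc_27_7 lc_e_rc_18_1 lc_e_Cert_tree lc_e_Cert_tree lc_e_rc_18_1 lc_e_rc_4_3 lc_e_rc_16_3 lc_e_rc_19_4 lc_e_Cert_tree lc_e_rc_27_5 lc_e_rc_18_1 lc_e_rc_18_1 lc_e_rc_19_4 lc_e_rc_19_4 lc_e_Cert_tree lc_e_Cert_tree lc_e_rc_18_1) (@D3.rec (fun _ => (Cert rels S Gen.e)) lc_e_rc_13_3 lc_e_rc_4_3 lc_e_rc_27_1 lc_e_rc_16_5 lc_e_rc_4_1 lc_e_rc_27_7 lc_e_rc_18_1 lc_e_rc_18_1 lc_e_rc_4_3 lc_e_rc_18_1 lc_e_rc_18_1 lc_e_rc_18_1 lc_e_rc_18_1 lc_e_rc_19_0 lc_e_rc_19_0 lc_e_rc_13_3 lc_e_rc_18_1 lc_e_rc_16_1 lc_e_rc_27_1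 lc_e_rc_19_4 lc_e_Cert_tree lc_e_rc_18_1 lc_e_rc_9_3 lc_e_rc_13_3 lc_e_rc_27_1 lc_e_rc_13_3 lc_e_rc_9_3 lc_e_rc_27_5 lc_e_rc_18_1 lc_e_rc_16_3 lc_e_rc_27_5 lc_e_rc_27_1 lc_e_Cert_tree lc_e_rc_18_1 lc_e_Cert_tree lc_e_rc_13_3 lc_e_rc_18_1 lc_e_Cert_tree lc_e_rc_19_4 lc_e_rc_19_4 lc_e_rc_19_4 lc_e_rc_19_4 lc_e_rc_16_5 lc_e_rc_18_1 lc_e_rc_13_3 lc_e_Cert_tree lc_e_rc_4_1 lc_e_rc_27_7 lc_e_rc_18_1 lc_e_rc_18_1 lc_e_rc_19_4 lc_e_rc_19_4 lc_e_rc_9_1 lc_e_rc_16_5 lc_e_rc_18_1 lc_e_rc_16_5 lc_e_Cert_tree lc_e_rc_18_1 lc_e_rc_9_3 lc_e_Cert_tree lc_e_Cert_tree lc_e_rc_16_5) (@D3.rec (fun _ => (Cert rels S Gen.e)) lc_e_Cert_tree lc_e_rc_4_3 lc_e_rc_19_4 lc_e_rc_18_1 lc_e_rc_18_1 lc_e_rc_16_1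 lc_e_rc_19_4 lc_e_rc_13_1 lc_e_rc_9_3 lc_e_rc_18_1 lc_e_rc_16_3 lc_e_rc_18_1 lc_e_rc_18_1 lc_e_rc_19_4 lc_e_rc_18_1 lc_e_Cert_tree lc_e_Cert_tree lc_e_rc_27_5 lc_e_rc_13_1 lc_e_rc_18_1 lc_e_Cert_tree lc_e_rc_27_1 lc_e_rc_13_3 lc_e_rc_9_3 lc_e_rc_27_5 lc_e_Cert_tree lc_e_rc_13_3 lc_e_Cert_tree lc_e_rc_18_1 lc_e_rc_18_1 lc_e_rc_9_3 lc_e_rc_9_1 lc_e_rc_4_3 lc_e_rc_18_1 lc_e_rc_18_1 lc_e_rc_13_1 lc_e_rc_27_7 lc_e_rc_13_3 lc_e_rc_19_4 lc_e_rc_19_4 lc_e_rc_18_1 lc_e_rc_9_3 lc_e_rc_9_3 lc_e_Cert_tree lc_e_rc_27_1 lc_e_rc_18_1 lc_e_rc_18_1 lc_e_rc_4_1 lc_e_rc_19_4 lc_e_rc_16_5 lc_e_rc_9_1 lc_e_Cert_tree lc_e_rc_9_1 lc_e_rc_18_1 lc_e_rc_18_1 lc_e_rc_19_4 lc_e_Cert_tree lc_e_Cert_tree lc_e_rc_9_3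 lc_e_rc_18_1 lc_e_Cert_tree lc_e_rc_13_3) (@D3.rec (fun _ => (Cert rels S Gen.e)) lc_e_rc_27_7 lc_e_Cert_tree lc_e_rc_18_1 lc_e_rc_9_1 lc_e_rc_9_3 lc_e_rc_16_5 lc_e_rc_18_1 lc_e_rc_18_1 lc_e_rc_13_3 lc_e_rc_27_5 lc_e_rc_18_1 lc_e_rc_27_7 lc_e_rc_27_5 lc_e_rc_19_4 lc_e_rc_16_3 lc_e_rc_18_1 lc_e_rc_27_5 lc_e_rc_19_2 lc_e_rc_9_3 lc_e_Cert_tree lc_e_rc_27_5 lc_e_rc_27_7 lc_e_rc_27_7 lc_e_rc_9_3 lc_e_rc_16_5 lc_e_rc_18_1 lc_e_rc_16_5 lc_e_rc_27_7 lc_e_rc_9_3 lc_e_rc_18_1 lc_e_rc_18_1 lc_e_rc_27_1 lc_e_rc_9_1 lc_e_Cert_tree lc_e_rc_13_3 lc_e_rc_18_1 lc_e_rc_18_1 lc_e_rc_13_3 lc_e_rc_13_1 lc_e_rc_16_1 lc_e_rc_18_1 lc_e_rc_9_1 lc_e_rc_13_3 lc_e_rc_13_3 lc_e_Cert_tree lc_e_rc_4_3 lc_e_rc_16_1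 lc_e_rc_13_3 lc_e_rc_18_1 lc_e_rc_18_1 lc_e_rc_16_1 lc_e_rc_27_5 lc_e_rc_27_7 lc_e_rc_18_1 lc_e_rc_27_7 lc_e_rc_4_3 lc_e_rc_13_3 lc_e_Cert_tree lc_e_rc_4_3 lc_e_rc_18_1 lc_e_rc_13_3 lc_e_rc_27_5) (@D3.rec (fun _ => (Cert rels S Gen.e)) lc_e_rc_13_3 lc_e_rc_18_1 lc_e_rc_13_1 lc_e_rc_18_1 lc_e_rc_13_3 lc_e_Cert_tree lc_e_rc_27_7 lc_e_rc_18_1 lc_e_rc_13_3 lc_e_rc_9_1 lc_e_rc_9_3 lc_e_rc_9_1 lc_e_rc_18_1 lc_e_Cert_tree lc_e_rc_18_1 lc_e_rc_16_3 lc_e_rc_27_1 lc_e_rc_9_3 lc_e_rc_13_3 lc_e_rc_13_1 lc_e_rc_16_3 lc_e_Cert_tree lc_e_rc_13_3 lc_e_rc_18_1 lc_e_rc_13_3 lc_e_rc_18_1 lc_e_rc_27_7 lc_e_Cert_tree lc_e_Cert_tree lc_e_rc_16_5 lc_e_rc_13_3 lc_e_rc_16_3 lc_e_rc_19_2 lc_e_Cert_tree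 lc_e_rc_18_1 lc_e_rc_19_2 lc_e_rc_18_1 lc_e_rc_13_3 lc_e_rc_13_3 lc_e_rc_18_1 lc_e_rc_13_3 lc_e_rc_9_3 lc_e_rc_9_1 lc_e_Cert_tree lc_e_rc_4_3 lc_e_Cert_tree lc_e_rc_18_1 lc_e_Cert_tree lc_e_rc_27_5 lc_e_rc_4_3 lc_e_rc_27_1 lc_e_rc_27_5 lc_e_Cert_tree lc_e_Cert_tree lc_e_rc_18_1 lc_e_rc_4_1 lc_e_Cert_tree lc_e_Cert_tree lc_e_rc_18_1 lc_e_rc_9_3 lc_e_rc_27_5 lc_e_rc_18_1) (@D3.rec (fun _ => (Cert rels S Gen.e)) lc_e_rc_13_3 lc_e_rc_13_3 lc_e_rc_4_3 lc_e_rc_13_3 lc_e_rc_16_3 lc_e_rc_13_3 lc_e_rc_4_3 lc_e_rc_16_1 lc_e_rc_19_4 lc_e_rc_18_1 lc_e_rc_16_3 lc_e_Cert_tree lc_e_rc_9_1 lc_e_rc_18_1 lc_e_rc_13_1 lc_e_rc_16_3 lc_e_rc_19_2 lc_e_rc_9_1 lc_e_rc_18_1 lc_e_rc_18_1 lc_e_rc_18_1 lc_e_rc_9_3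 lc_e_rc_4_3 lc_e_rc_4_3 lc_e_rc_13_1 lc_e_rc_9_1 lc_e_rc_16_1 lc_e_rc_13_3 lc_e_Cert_tree lc_e_rc_18_1 lc_e_rc_9_3 lc_e_rc_16_1 lc_e_rc_19_4 lc_e_rc_19_2 lc_e_rc_13_3 lc_e_rc_9_3 lc_e_rc_13_3 lc_e_rc_9_1 lc_e_rc_27_7 lc_e_rc_18_1 lc_e_rc_9_3 lc_e_rc_27_5 lc_e_Cert_tree lc_e_Cert_tree lc_e_rc_19_2 lc_e_rc_18_1 lc_e_rc_16_5 lc_e_rc_13_3 lc_e_rc_16_5 lc_e_Cert_tree lc_e_rc_16_3 lc_e_rc_18_1 lc_e_Cert_tree lc_e_Cert_tree lc_e_rc_18_1 lc_e_rc_13_3 lc_e_rc_16_1 lc_e_rc_18_1 lc_e_rc_13_3 lc_e_rc_19_4 lc_e_rc_9_1 lc_e_rc_18_1) (@D3.rec (fun _ => (Cert rels S Gen.e)) lc_e_rc_9_1 lc_e_rc_18_1 lc_e_rc_13_3 lc_e_Cert_tree lc_e_rc_16_1 lc_e_rc_19_2 lc_e_rc_13_1 lc_e_rc_13_3 lc_e_rc_4_3 lc_e_rc_9_3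 lc_e_rc_4_3 lc_e_rc_27_1 lc_e_rc_27_1 lc_e_rc_16_5 lc_e_Cert_tree lc_e_rc_9_3 lc_e_rc_18_1 lc_e_rc_27_7 lc_e_rc_18_1 lc_e_rc_16_5 lc_e_rc_13_3 lc_e_rc_16_5 lc_e_rc_18_1 lc_e_rc_18_1 lc_e_rc_16_1 lc_e_rc_19_4 lc_e_Cert_tree lc_e_rc_16_1 lc_e_rc_19_4 lc_e_rc_18_1 lc_e_rc_18_1 lc_e_rc_4_3 lc_e_rc_9_3 lc_e_rc_18_1 lc_e_rc_16_5 lc_e_rc_18_1 lc_e_Cert_tree lc_e_rc_18_1 lc_e_rc_13_3 lc_e_rc_4_1 lc_e_rc_18_1 lc_e_rc_19_4 lc_e_rc_4_3 lc_e_rc_18_1 lc_e_rc_13_3 lc_e_rc_13_3 lc_e_rc_18_1 lc_e_rc_9_3 lc_e_rc_18_1 lc_e_rc_18_1 lc_e_rc_9_3 lc_e_Cert_tree lc_e_rc_9_3 lc_e_rc_18_1 lc_e_rc_19_2 lc_e_Cert_tree lc_e_rc_18_1 lc_e_rc_13_3 lc_e_rc_9_3 lc_e_rc_18_1 lc_e_rc_16_5 lc_e_rc_9_3) (@D3.rec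 (fun _ => (Cert rels S Gen.e)) lc_e_rc_9_1 lc_e_rc_18_1 lc_e_rc_27_7 lc_e_rc_16_5 lc_e_rc_9_1 lc_e_rc_18_1 lc_e_Cert_tree lc_e_Cert_tree lc_e_rc_16_1 lc_e_rc_16_5 lc_e_rc_16_5 lc_e_rc_18_1 lc_e_rc_27_5 lc_e_rc_27_7 lc_e_rc_16_5 lc_e_Cert_tree lc_e_rc_18_1 lc_e_Cert_tree lc_e_rc_4_3 lc_e_rc_16_3 lc_e_rc_19_2 lc_e_rc_27_1 lc_e_rc_27_5 lc_e_rc_27_7 lc_e_rc_18_1 lc_e_rc_18_1 lc_e_rc_16_3 lc_e_rc_19_4 lc_e_rc_4_3 lc_e_rc_9_3 lc_e_Cert_tree lc_e_rc_18_1 lc_e_rc_13_1 lc_e_rc_27_7 lc_e_rc_18_1 lc_e_rc_18_1 lc_e_rc_18_1 lc_e_rc_18_1 lc_e_rc_16_3 lc_e_Cert_tree lc_e_Cert_tree lc_e_rc_18_1 lc_e_rc_9_1 lc_e_Cert_tree lc_e_Cert_tree lc_e_rc_13_3 lc_e_rc_27_5 lc_e_rc_18_1 lc_e_rc_4_3 lc_e_rc_27_5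 lc_e_rc_18_1 lc_e_rc_18_1 lc_e_rc_18_1 lc_e_Cert_tree lc_e_Cert_tree lc_e_rc_9_3 lc_e_rc_18_1 lc_e_Cert_tree lc_e_rc_13_3 lc_e_rc_16_3 lc_e_rc_27_7 lc_e_rc_13_3) (@D3.rec (fun _ => (Cert rels S Gen.e)) lc_e_rc_27_7 lc_e_rc_13_3 lc_e_rc_18_1 lc_e_rc_13_3 lc_e_rc_13_3 lc_e_Cert_tree lc_e_rc_18_1 lc_e_rc_18_1 lc_e_rc_13_1 lc_e_rc_16_1 lc_e_rc_4_3 lc_e_rc_19_4 lc_e_rc_9_3 lc_e_Cert_tree lc_e_rc_18_1 lc_e_rc_16_3 lc_e_rc_19_4 lc_e_rc_18_1 lc_e_rc_18_1 lc_e_rc_16_1 lc_e_rc_19_4 lc_e_Cert_tree lc_e_Cert_tree lc_e_Cert_tree lc_e_rc_18_1 lc_e_Cert_tree lc_e_rc_13_3 lc_e_rc_18_1 lc_e_Cert_tree lc_e_rc_18_1 lc_e_Cert_tree lc_e_Cert_tree lc_e_Cert_tree lc_e_rc_18_1 lc_e_rc_27_5 lc_e_Cert_tree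 lc_e_rc_16_1 lc_e_Cert_tree lc_e_rc_18_1 lc_e_rc_16_1 lc_e_rc_19_4 lc_e_rc_18_1 lc_e_rc_27_5 lc_e_Cert_tree lc_e_Cert_tree lc_e_rc_18_1 lc_e_Cert_tree lc_e_Cert_tree lc_e_rc_4_3 lc_e_rc_27_7 lc_e_rc_4_3 lc_e_rc_9_3 lc_e_rc_13_3 lc_e_rc_18_1 lc_e_Cert_tree lc_e_Cert_tree lc_e_rc_18_1 lc_e_rc_27_5 lc_e_rc_9_3 lc_e_rc_16_5 lc_e_rc_13_1 lc_e_rc_13_3) (@D3.rec (fun _ => (Cert rels S Gen.e)) lc_e_rc_13_3 lc_e_rc_9_3 lc_e_rc_13_3 lc_e_Cert_tree lc_e_Cert_tree lc_e_rc_18_1 lc_e_rc_9_1 lc_e_Cert_tree lc_e_rc_18_1 lc_e_rc_18_1 lc_e_Cert_tree lc_e_rc_27_7 lc_e_rc_9_3 lc_e_rc_19_2 lc_e_rc_18_1 lc_e_rc_18_1 lc_e_rc_9_3 lc_e_rc_13_1 lc_e_rc_18_1 lc_e_rc_13_3 lc_e_rc_18_1 lc_e_rc_27_5 lc_e_rc_16_3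 lc_e_rc_9_3 lc_e_rc_18_1 lc_e_rc_18_1 lc_e_rc_18_1 lc_e_rc_16_5 lc_e_rc_9_3 lc_e_rc_18_1 lc_e_Cert_tree lc_e_rc_9_3 lc_e_rc_18_1 lc_e_rc_4_3 lc_e_Cert_tree lc_e_rc_18_1 lc_e_rc_18_1 lc_e_Cert_tree lc_e_rc_4_3 lc_e_rc_9_1 lc_e_Cert_tree lc_e_rc_16_5 lc_e_Cert_tree lc_e_Cert_tree lc_e_rc_18_1 lc_e_rc_18_1 lc_e_rc_9_3 lc_e_rc_19_4 lc_e_rc_18_1 lc_e_rc_27_1 lc_e_Cert_tree lc_e_rc_18_1 lc_e_rc_4_3 lc_e_rc_16_3 lc_e_rc_19_4 lc_e_rc_13_3 lc_e_rc_18_1 lc_e_rc_13_3 lc_e_rc_18_1 lc_e_rc_18_1 lc_e_Cert_tree lc_e_Cert_tree) (@D3.rec (fun _ => (Cert rels S Gen.e)) lc_e_rc_18_1 lc_e_rc_9_1 lc_e_rc_18_1 lc_e_rc_9_3 lc_e_rc_4_3 lc_e_rc_4_3 lc_e_rc_4_3 lc_e_rc_9_1 lc_e_rc_9_3 lc_e_rc_13_3 lc_e_rc_4_3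 lc_e_rc_27_1 lc_e_Cert_tree lc_e_rc_18_1 lc_e_rc_19_4 lc_e_Cert_tree lc_e_Cert_tree lc_e_rc_19_2 lc_e_rc_18_1 lc_e_rc_18_1 lc_e_rc_16_1 lc_e_Cert_tree lc_e_Cert_tree lc_e_Cert_tree lc_e_Cert_tree lc_e_rc_18_1 lc_e_rc_18_1 lc_e_rc_16_1 lc_e_Cert_tree lc_e_Cert_tree lc_e_rc_4_3 lc_e_Cert_tree lc_e_rc_18_1 lc_e_rc_13_3 lc_e_rc_16_1 lc_e_rc_27_5 lc_e_Cert_tree lc_e_Cert_tree lc_e_Cert_tree lc_e_rc_18_1 lc_e_rc_18_1 lc_e_rc_18_1 lc_e_rc_13_1 lc_e_rc_16_1 lc_e_rc_19_2 lc_e_rc_13_3 lc_e_rc_27_5 lc_e_Cert_tree lc_e_Cert_tree lc_e_Cert_tree lc_e_Cert_tree lc_e_rc_18_1 lc_e_rc_18_1 lc_e_rc_16_1 lc_e_rc_13_3 lc_e_Cert_tree lc_e_Cert_tree lc_e_rc_27_7 lc_e_rc_18_1 lc_e_rc_18_1 lc_e_rc_13_3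 lc_e_rc_4_1) (@D3.rec (fun _ => (Cert rels S Gen.e)) lc_e_rc_9_1 lc_e_rc_16_5 lc_e_Cert_tree lc_e_rc_18_1 lc_e_rc_9_1 lc_e_Cert_tree lc_e_rc_18_1 lc_e_Cert_tree lc_e_rc_18_1 lc_e_Cert_tree lc_e_rc_13_3 lc_e_Cert_tree lc_e_rc_18_1 lc_e_rc_4_3 lc_e_rc_16_1 lc_e_rc_13_1 lc_e_Cert_tree lc_e_Cert_tree lc_e_rc_16_1 lc_e_rc_19_4 lc_e_rc_9_1 lc_e_rc_19_4 lc_e_rc_16_3 lc_e_Cert_tree lc_e_rc_13_3 lc_e_rc_16_3 lc_e_rc_9_3 lc_e_Cert_tree lc_e_rc_9_3 lc_e_rc_13_3 lc_e_rc_9_3 lc_e_rc_13_3 lc_e_rc_16_5 lc_e_rc_13_3 lc_e_rc_18_1 lc_e_rc_18_1 lc_e_rc_27_1 lc_e_rc_27_5 lc_e_rc_27_7 lc_e_Cert_tree lc_e_rc_18_1 lc_e_rc_16_3 lc_e_rc_27_7 lc_e_rc_13_3 lc_e_rc_16_1 lc_e_rc_13_3 lc_e_rc_18_1 lc_e_rc_16_5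 lc_e_rc_19_4 lc_e_rc_9_3 lc_e_rc_18_1 lc_e_rc_16_1 lc_e_rc_27_5 lc_e_rc_27_7 lc_e_rc_18_1 lc_e_Cert_tree lc_e_rc_16_1 lc_e_rc_19_4 lc_e_rc_9_3 lc_e_Cert_tree lc_e_rc_16_3 lc_e_rc_16_1) (@D3.rec (fun _ => (Cert rels S Gen.e)) lc_e_rc_9_3 lc_e_rc_19_2 lc_e_rc_9_3 lc_e_rc_13_3 lc_e_Cert_tree lc_e_Cert_tree lc_e_rc_18_1 lc_e_rc_16_3 lc_e_Cert_tree lc_e_rc_18_1 lc_e_rc_9_3 lc_e_Cert_tree lc_e_rc_18_1 lc_e_Cert_tree lc_e_Cert_tree lc_e_Cert_tree lc_e_rc_18_1 lc_e_rc_18_1 lc_e_Cert_tree lc_e_rc_16_1 lc_e_rc_13_1 lc_e_rc_18_1 lc_e_Cert_tree lc_e_rc_16_1 lc_e_rc_19_4 lc_e_Cert_tree lc_e_rc_13_1 lc_e_rc_18_1 lc_e_rc_9_3 lc_e_rc_18_1 lc_e_Cert_tree lc_e_Cert_tree lc_e_rc_13_1 lc_e_rc_16_3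 lc_e_rc_9_3 lc_e_Cert_tree lc_e_Cert_tree lc_e_rc_18_1 lc_e_rc_13_3 lc_e_rc_16_5 lc_e_rc_18_1 lc_e_Cert_tree lc_e_rc_27_1 lc_e_rc_18_1 lc_e_rc_18_1 lc_e_rc_16_3 lc_e_rc_18_1 lc_e_Cert_tree lc_e_rc_18_1 lc_e_rc_4_3 lc_e_rc_13_3 lc_e_rc_18_1 lc_e_rc_18_1 lc_e_rc_16_3 lc_e_rc_4_1 lc_e_rc_13_3 lc_e_rc_9_3 lc_e_rc_13_3 lc_e_rc_13_3 lc_e_rc_16_5 lc_e_rc_16_5 lc_e_Cert_tree) (@D3.rec (fun _ => (Cert rels S Gen.e)) lc_e_rc_27_5 lc_e_rc_18_1 lc_e_rc_18_1 lc_e_rc_13_3 lc_e_rc_13_3 lc_e_rc_16_3 lc_e_rc_18_1 lc_e_rc_18_1 lc_e_rc_9_3 lc_e_rc_19_0 lc_e_rc_9_3 lc_e_rc_18_1 lc_e_rc_27_1 lc_e_rc_9_3 lc_e_rc_9_3 lc_e_rc_13_3 lc_e_rc_4_1 lc_e_rc_18_1 lc_e_rc_4_3 lc_e_Cert_tree lc_e_Cert_tree lc_e_rc_19_4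 lc_e_rc_18_1 lc_e_rc_18_1 lc_e_rc_9_3 lc_e_rc_13_3 lc_e_rc_13_3 lc_e_rc_13_3 lc_e_rc_13_3 lc_e_rc_13_3 lc_e_rc_13_3 lc_e_rc_18_1 lc_e_rc_16_3 lc_e_rc_9_3 lc_e_Cert_tree lc_e_rc_18_1 lc_e_Cert_tree lc_e_rc_18_1 lc_e_Cert_tree lc_e_Cert_tree lc_e_Cert_tree lc_e_rc_18_1 lc_e_rc_27_5 lc_e_rc_13_3 lc_e_rc_16_1 lc_e_rc_13_3 lc_e_rc_18_1 lc_e_Cert_tree lc_e_rc_18_1 lc_e_Cert_tree lc_e_rc_18_1 lc_e_rc_16_1 lc_e_rc_19_4 lc_e_Cert_tree lc_e_rc_18_1 lc_e_rc_27_5 lc_e_Cert_tree lc_e_rc_27_5 lc_e_rc_27_7 lc_e_rc_13_3 lc_e_rc_18_1 lc_e_rc_13_3) (@D3.rec (fun _ => (Cert rels S Gen.e)) lc_e_Cert_tree lc_e_Cert_tree lc_e_rc_18_1 lc_e_rc_9_3 lc_e_rc_27_7 lc_e_Cert_tree lc_e_Cert_tree lc_e_rc_13_3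 lc_e_rc_18_1 lc_e_rc_13_3 lc_e_rc_18_1 lc_e_rc_9_3 lc_e_rc_18_1 lc_e_rc_27_7 lc_e_rc_18_1 lc_e_rc_9_3 lc_e_rc_13_3 lc_e_rc_4_3 lc_e_rc_9_3 lc_e_rc_18_1 lc_e_rc_16_5 lc_e_rc_18_1 lc_e_rc_4_3 lc_e_rc_9_1 lc_e_rc_18_1 lc_e_rc_13_3 lc_e_rc_27_7 lc_e_rc_27_5 lc_e_rc_18_1 lc_e_rc_13_1 lc_e_rc_18_1 lc_e_rc_16_3 lc_e_Cert_tree lc_e_rc_13_3 lc_e_rc_18_1 lc_e_rc_16_5 lc_e_rc_9_1 lc_e_rc_18_1 lc_e_rc_27_5 lc_e_rc_18_1 lc_e_rc_13_3 lc_e_Cert_tree lc_e_rc_19_2 lc_e_rc_13_3 lc_e_rc_9_1 lc_e_rc_27_7 lc_e_rc_18_1 lc_e_Cert_tree lc_e_rc_18_1 lc_e_rc_18_1 lc_e_rc_9_1 lc_e_rc_4_1 lc_e_rc_9_3 lc_e_rc_9_3 lc_e_rc_18_1 lc_e_Cert_tree lc_e_rc_18_1 lc_e_rc_27_5 lc_e_rc_16_1 lc_e_rc_19_4 lc_e_rc_18_1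 lc_e_rc_19_0) (@D3.rec (fun _ => (Cert rels S Gen.e)) lc_e_rc_19_0 lc_e_rc_18_1 lc_e_rc_9_3 lc_e_rc_18_1 lc_e_rc_16_5 lc_e_rc_18_1 lc_e_rc_9_1 lc_e_rc_27_5 lc_e_rc_16_1 lc_e_rc_18_1 lc_e_rc_13_3 lc_e_rc_18_1 lc_e_rc_16_3 lc_e_rc_9_1 lc_e_rc_9_3 lc_e_rc_18_1 lc_e_rc_27_5 lc_e_rc_4_1 lc_e_rc_18_1 lc_e_rc_18_1 lc_e_rc_9_3 lc_e_rc_16_3 lc_e_rc_16_1 lc_e_rc_13_3 lc_e_rc_18_1 lc_e_rc_13_1 lc_e_rc_27_1 lc_e_rc_18_1 lc_e_rc_27_5 lc_e_rc_13_3 lc_e_rc_13_1 lc_e_rc_9_1 lc_e_rc_18_1 lc_e_Cert_tree lc_e_Cert_tree lc_e_rc_18_1 lc_e_Cert_tree lc_e_rc_27_7 lc_e_rc_9_3 lc_e_rc_27_5 lc_e_rc_18_1 lc_e_rc_13_3 lc_e_rc_16_1 lc_e_rc_27_5 lc_e_rc_18_1 lc_e_rc_16_3 lc_e_rc_27_1 lc_e_rc_18_1 lc_e_Cert_tree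 lc_e_rc_19_2 lc_e_rc_18_1 lc_e_rc_27_5 lc_e_Cert_tree lc_e_rc_18_1 lc_e_rc_9_3 lc_e_rc_18_1 lc_e_rc_18_1 lc_e_rc_4_3 lc_e_rc_16_1 lc_e_rc_19_2 lc_e_rc_13_3 lc_e_rc_16_1) (@D3.rec (fun _ => (Cert rels S Gen.e)) lc_e_rc_19_2 lc_e_rc_13_1 lc_e_rc_18_1 lc_e_rc_13_3 lc_e_rc_18_1 lc_e_rc_9_3 lc_e_rc_18_1 lc_e_rc_19_2 lc_e_rc_13_3 lc_e_rc_18_1 lc_e_rc_9_3 lc_e_rc_27_5 lc_e_rc_27_5 lc_e_rc_13_1 lc_e_rc_27_5 lc_e_rc_18_1 lc_e_rc_9_3 lc_e_rc_9_3 lc_e_rc_27_5 lc_e_Cert_tree lc_e_Cert_tree lc_e_Cert_tree lc_e_rc_18_1 lc_e_Cert_tree lc_e_rc_18_1 lc_e_rc_27_1 lc_e_rc_19_4 lc_e_rc_16_5 lc_e_rc_27_5 lc_e_rc_4_3 lc_e_rc_18_1 lc_e_rc_18_1 lc_e_rc_19_4 lc_e_rc_19_4 lc_e_rc_9_3 lc_e_Cert_tree lc_e_rc_13_3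 lc_e_rc_9_3 lc_e_rc_9_1 lc_e_rc_18_1 lc_e_rc_16_3 lc_e_rc_16_1 lc_e_rc_18_1 lc_e_rc_27_1 lc_e_rc_16_3 lc_e_rc_19_2 lc_e_rc_18_1 lc_e_rc_9_3 lc_e_rc_19_2 lc_e_rc_13_3 lc_e_rc_13_1 lc_e_rc_18_1 lc_e_rc_27_5 lc_e_rc_27_7 lc_e_rc_19_2 lc_e_rc_19_4 lc_e_rc_18_1 lc_e_rc_18_1 lc_e_rc_13_1 lc_e_rc_13_3 lc_e_rc_19_2 lc_e_rc_13_1) (@D3.rec (fun _ => (Cert rels S Gen.e)) lc_e_rc_18_1 lc_e_rc_16_1 lc_e_Cert_tree lc_e_Cert_tree lc_e_rc_9_1 lc_e_rc_18_1 lc_e_rc_18_1 lc_e_rc_16_1 lc_e_rc_9_3 lc_e_rc_27_1 lc_e_rc_18_1 lc_e_Cert_tree lc_e_rc_18_1 lc_e_rc_18_1 lc_e_rc_16_1 lc_e_Cert_tree lc_e_Cert_tree lc_e_rc_4_3 lc_e_rc_13_1 lc_e_Cert_tree lc_e_rc_18_1 lc_e_rc_27_7 lc_e_rc_18_1 lc_e_rc_27_1 lc_e_rc_4_3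 lc_e_rc_18_1 lc_e_rc_18_1 lc_e_rc_27_5 lc_e_Cert_tree lc_e_Cert_tree lc_e_rc_18_1 lc_e_Cert_tree lc_e_rc_9_1 lc_e_rc_9_1 lc_e_Cert_tree lc_e_Cert_tree lc_e_rc_16_1 lc_e_rc_19_4 lc_e_Cert_tree lc_e_rc_13_3 lc_e_rc_18_1 lc_e_rc_13_1 lc_e_rc_19_2 lc_e_rc_13_3 lc_e_rc_18_1 lc_e_rc_27_5 lc_e_rc_18_1 lc_e_rc_18_1 lc_e_Cert_tree lc_e_rc_19_4 lc_e_rc_18_1 lc_e_rc_18_1 lc_e_Cert_tree lc_e_rc_16_5 lc_e_Cert_tree lc_e_rc_18_1 lc_e_rc_18_1 lc_e_Cert_tree lc_e_rc_19_4 lc_e_Cert_tree lc_e_rc_18_1 lc_e_Cert_tree) (@D3.rec (fun _ => (Cert rels S Gen.e)) lc_e_rc_4_1 lc_e_rc_19_4 lc_e_Cert_tree lc_e_rc_16_3 lc_e_rc_18_1 lc_e_rc_27_7 lc_e_rc_18_1 lc_e_Cert_tree lc_e_Cert_tree lc_e_rc_18_1 lc_e_rc_18_1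 lc_e_Cert_tree lc_e_rc_19_4 lc_e_rc_27_1 lc_e_rc_9_3 lc_e_Cert_tree lc_e_rc_18_1 lc_e_rc_4_1 lc_e_rc_13_1 lc_e_rc_16_3 lc_e_rc_19_4 lc_e_rc_9_1 lc_e_rc_13_1 lc_e_rc_16_1 lc_e_Cert_tree lc_e_rc_27_5 lc_e_rc_18_1 lc_e_rc_18_1 lc_e_rc_9_1 lc_e_rc_19_2 lc_e_rc_9_3 lc_e_Cert_tree lc_e_rc_18_1 lc_e_rc_18_1 lc_e_rc_27_7 lc_e_rc_16_3 lc_e_rc_19_2 lc_e_rc_13_3 lc_e_rc_13_1 lc_e_Cert_tree lc_e_rc_16_5 lc_e_Cert_tree lc_e_rc_9_1 lc_e_rc_18_1 lc_e_rc_18_1 lc_e_rc_13_1 lc_e_rc_16_1 lc_e_Cert_tree lc_e_rc_9_3 lc_e_rc_27_5 lc_e_rc_16_3 lc_e_rc_19_2 lc_e_rc_18_1 lc_e_rc_18_1 lc_e_rc_9_1 lc_e_rc_18_1 lc_e_rc_27_7 lc_e_rc_18_1 lc_e_rc_18_1 lc_e_rc_27_5 lc_e_rc_18_1 lc_e_rc_18_1) (@D3.rec (fun _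 => (Cert rels S Gen.e)) lc_e_rc_16_1 lc_e_rc_9_3 lc_e_rc_27_5 lc_e_rc_9_1 lc_e_rc_16_3 lc_e_rc_18_1 lc_e_Cert_tree lc_e_rc_27_7 lc_e_rc_13_3 lc_e_rc_27_5 lc_e_rc_13_1 lc_e_rc_9_3 lc_e_Cert_tree lc_e_rc_19_2 lc_e_rc_4_1 lc_e_Cert_tree lc_e_rc_27_5 lc_e_Cert_tree lc_e_rc_18_1 lc_e_rc_18_1 lc_e_rc_19_4 lc_e_rc_16_1 lc_e_rc_13_3 lc_e_rc_13_3 lc_e_rc_9_3 lc_e_rc_4_1 lc_e_Cert_tree lc_e_Cert_tree lc_e_rc_18_1 lc_e_rc_18_1 lc_e_rc_18_1 lc_e_rc_27_7 lc_e_rc_9_3 lc_e_rc_9_3 lc_e_rc_9_3 lc_e_rc_16_1 lc_e_rc_4_3 lc_e_rc_19_4 lc_e_rc_9_1 lc_e_rc_18_1 lc_e_rc_18_1 lc_e_rc_18_1 lc_e_rc_27_5 lc_e_Cert_tree lc_e_rc_4_3 lc_e_rc_27_1 lc_e_rc_18_1 lc_e_rc_4_3 lc_e_rc_27_5 lc_e_rc_18_1 lc_e_rc_16_3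 lc_e_rc_19_2 lc_e_rc_9_3 lc_e_rc_13_3 lc_e_Cert_tree lc_e_rc_27_1 lc_e_rc_27_5 lc_e_rc_18_1 lc_e_rc_27_7 lc_e_rc_16_5 lc_e_rc_18_1 lc_e_rc_4_3) (@D3.rec (fun _ => (Cert rels S Gen.e)) lc_e_Cert_tree lc_e_rc_18_1 lc_e_rc_18_1 lc_e_rc_13_1 lc_e_rc_9_3 lc_e_rc_18_1 lc_e_Cert_tree lc_e_rc_16_5 lc_e_rc_18_1 lc_e_Cert_tree lc_e_rc_18_1 lc_e_rc_18_1 lc_e_Cert_tree lc_e_rc_18_1 lc_e_Cert_tree lc_e_rc_16_3 lc_e_Cert_tree lc_e_rc_18_1 lc_e_rc_27_5 lc_e_Cert_tree lc_e_rc_16_1 lc_e_rc_19_4 lc_e_rc_4_3 lc_e_rc_27_7 lc_e_Cert_tree lc_e_rc_13_1 lc_e_rc_27_5 lc_e_rc_18_1 lc_e_rc_16_5 lc_e_rc_18_1 lc_e_rc_18_1 lc_e_rc_9_3 lc_e_Cert_tree lc_e_Cert_tree lc_e_rc_18_1 lc_e_rc_16_5 lc_e_rc_18_1 lc_e_rc_18_1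 lc_e_rc_16_3 lc_e_rc_27_5 lc_e_Cert_tree lc_e_rc_9_1 lc_e_rc_18_1 lc_e_rc_18_1 lc_e_rc_16_1 lc_e_Cert_tree lc_e_rc_13_3 lc_e_rc_27_5 lc_e_Cert_tree lc_e_rc_9_3 lc_e_rc_18_1 lc_e_rc_4_3 lc_e_Cert_tree lc_e_rc_18_1 lc_e_rc_27_1 lc_e_rc_18_1 lc_e_rc_27_5 lc_e_rc_16_1 lc_e_rc_19_4 lc_e_rc_4_3 lc_e_rc_16_1 lc_e_rc_19_4) (@D3.rec (fun _ => (Cert rels S Gen.e)) lc_e_rc_4_3 lc_e_Cert_tree lc_e_rc_27_1 lc_e_Cert_tree lc_e_rc_13_3 lc_e_rc_16_1 lc_e_rc_19_0 lc_e_Cert_tree lc_e_rc_9_3 lc_e_rc_13_3 lc_e_rc_18_1 lc_e_rc_18_1 lc_e_rc_9_3 lc_e_rc_27_5 lc_e_rc_18_1 lc_e_rc_18_1 lc_e_rc_13_1 lc_e_Cert_tree lc_e_rc_16_3 lc_e_rc_9_3 lc_e_rc_9_3 lc_e_rc_13_3 lc_e_rc_13_1 lc_e_rc_19_4 lc_e_rc_13_3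 lc_e_rc_13_1 lc_e_rc_18_1 lc_e_rc_13_3 lc_e_rc_27_5 lc_e_rc_27_7 lc_e_rc_18_1 lc_e_rc_18_1 lc_e_rc_27_1 lc_e_rc_18_1 lc_e_Cert_tree lc_e_rc_18_1 lc_e_rc_18_1 lc_e_rc_19_2 lc_e_rc_9_3 lc_e_rc_18_1 lc_e_rc_13_3 lc_e_rc_18_1 lc_e_rc_4_3 lc_e_rc_18_1 lc_e_rc_16_3 lc_e_rc_18_1 lc_e_rc_19_4 lc_e_rc_18_1 lc_e_rc_18_1 lc_e_rc_19_2 lc_e_rc_19_4 lc_e_rc_18_1 lc_e_rc_18_1 lc_e_rc_18_1 lc_e_rc_16_5 lc_e_rc_19_4 lc_e_rc_16_3 lc_e_rc_18_1 lc_e_rc_27_1 lc_e_rc_19_4 lc_e_rc_9_1 lc_e_rc_18_1) (@D3.rec (fun _ => (Cert rels S Gen.e)) lc_e_rc_19_4 lc_e_rc_18_1 lc_e_rc_13_3 lc_e_rc_4_1 lc_e_rc_18_1 lc_e_rc_19_4 lc_e_rc_18_1 lc_e_Cert_tree lc_e_rc_27_5 lc_e_rc_18_1 lc_e_rc_9_1 lc_e_rc_27_7 lc_e_rc_19_4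 lc_e_rc_9_1 lc_e_rc_13_1 lc_e_rc_9_3 lc_e_rc_16_5 lc_e_rc_18_1 lc_e_Cert_tree lc_e_rc_9_3 lc_e_rc_9_1 lc_e_rc_13_3 lc_e_rc_9_1 lc_e_rc_18_1 lc_e_rc_4_3 lc_e_rc_27_5 lc_e_rc_16_3 lc_e_rc_18_1 lc_e_rc_13_1 lc_e_rc_9_1 lc_e_rc_16_3 lc_e_rc_9_1 lc_e_rc_18_1 lc_e_rc_13_3 lc_e_rc_18_1 lc_e_rc_18_1 lc_e_rc_18_1 lc_e_rc_4_1 lc_e_rc_18_1 lc_e_rc_27_7 lc_e_rc_18_1 lc_e_rc_27_5 lc_e_Cert_tree lc_e_rc_18_1 lc_e_rc_27_7 lc_e_rc_18_1 lc_e_rc_9_3 lc_e_rc_18_1 lc_e_rc_16_5 lc_e_Cert_tree lc_e_rc_9_1 lc_e_rc_13_1 lc_e_rc_18_1 lc_e_rc_18_1 lc_e_rc_27_5 lc_e_rc_18_1 lc_e_rc_16_5 lc_e_rc_13_3 lc_e_rc_13_3 lc_e_rc_18_1 lc_e_rc_9_1 lc_e_rc_19_2) (@D3.rec (fun _ => (Cert rels S Gen.e)) lc_e_rc_27_1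 lc_e_rc_19_4 lc_e_rc_18_1 lc_e_rc_18_1 lc_e_rc_16_1 lc_e_rc_18_1 lc_e_rc_13_1 lc_e_rc_18_1 lc_e_rc_16_1 lc_e_rc_9_1 lc_e_rc_18_1 lc_e_rc_18_1 lc_e_rc_9_3 lc_e_rc_18_1 lc_e_rc_19_0 lc_e_rc_13_3 lc_e_rc_18_1 lc_e_rc_4_1 lc_e_rc_9_3 lc_e_rc_18_1 lc_e_rc_19_4 lc_e_rc_13_3 lc_e_rc_27_7 lc_e_rc_9_1 lc_e_rc_18_1 lc_e_rc_27_5 lc_e_rc_13_3 lc_e_rc_19_4 lc_e_rc_16_5 lc_e_rc_18_1 lc_e_Cert_tree lc_e_rc_4_1 lc_e_rc_9_3 lc_e_rc_13_1 lc_e_rc_18_1 lc_e_rc_19_4 lc_e_rc_18_1 lc_e_rc_13_3 lc_e_rc_27_5 lc_e_rc_27_7 lc_e_rc_18_1 lc_e_rc_18_1 lc_e_rc_27_7 lc_e_rc_18_1 lc_e_rc_27_5 lc_e_rc_13_1 lc_e_rc_13_3 lc_e_rc_16_5 lc_e_rc_9_3 lc_e_rc_16_3 lc_e_rc_18_1 lc_e_rc_18_1 lc_e_rc_18_1 lc_e_Cert_tree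 lc_e_Cert_tree lc_e_rc_18_1 lc_e_rc_9_3 lc_e_Cert_tree lc_e_rc_19_4 lc_e_rc_9_1 lc_e_rc_9_3 lc_e_rc_27_1) (@D3.rec (fun _ => (Cert rels S Gen.e)) lc_e_rc_18_1 lc_e_rc_9_3 lc_e_rc_13_3 lc_e_rc_27_1 lc_e_rc_18_1 lc_e_rc_13_1 lc_e_rc_13_1 lc_e_rc_13_3 lc_e_rc_18_1 lc_e_Cert_tree lc_e_rc_9_3 lc_e_rc_18_1 lc_e_Cert_tree lc_e_rc_18_1 lc_e_Cert_tree lc_e_rc_19_4 lc_e_rc_19_4 lc_e_rc_27_5 lc_e_rc_27_1 lc_e_rc_18_1 lc_e_rc_18_1 lc_e_rc_18_1 lc_e_rc_18_1 lc_e_rc_27_7 lc_e_rc_19_2 lc_e_rc_18_1 lc_e_rc_16_1 lc_e_rc_18_1 lc_e_rc_18_1 lc_e_rc_4_3 lc_e_rc_4_3 lc_e_rc_18_1 lc_e_rc_27_5 lc_e_rc_18_1 lc_e_rc_16_3 lc_e_rc_16_3 lc_e_rc_18_1 lc_e_rc_16_1 lc_e_rc_18_1 lc_e_rc_16_1 lc_e_rc_9_3 lc_e_rc_18_1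 lc_e_rc_18_1 lc_e_Cert_tree lc_e_rc_13_3 lc_e_rc_18_1 lc_e_rc_4_3 lc_e_rc_19_2 lc_e_Cert_tree lc_e_rc_18_1 lc_e_rc_13_1 lc_e_rc_18_1 lc_e_rc_18_1 lc_e_rc_27_5 lc_e_rc_19_4 lc_e_rc_13_3 lc_e_rc_16_1 lc_e_rc_18_1 lc_e_rc_18_1 lc_e_rc_16_3 lc_e_rc_27_5 lc_e_rc_18_1) (@D3.rec (fun _ => (Cert rels S Gen.e)) lc_e_rc_13_1 lc_e_rc_18_1 lc_e_rc_19_4 lc_e_rc_19_4 lc_e_rc_27_5 lc_e_rc_18_1 lc_e_rc_18_1 lc_e_rc_9_3 lc_e_rc_4_3 lc_e_rc_16_3 lc_e_rc_18_1 lc_e_rc_27_5 lc_e_rc_19_4 lc_e_rc_13_1 lc_e_Cert_tree lc_e_rc_27_5 lc_e_rc_18_1 lc_e_rc_18_1 lc_e_rc_16_1 lc_e_rc_18_1 lc_e_rc_18_1 lc_e_rc_27_7 lc_e_rc_9_3 lc_e_rc_18_1 lc_e_rc_27_5 lc_e_rc_16_5 lc_e_Cert_tree lc_e_rc_18_1 lc_e_rc_27_1 lc_e_rc_27_1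 lc_e_rc_13_1 lc_e_rc_4_3 lc_e_rc_18_1 lc_e_rc_18_1 lc_e_rc_13_3 lc_e_rc_13_3 lc_e_rc_19_4 lc_e_rc_9_3 lc_e_rc_13_3 lc_e_rc_13_3 lc_e_Cert_tree lc_e_rc_13_3 lc_e_rc_13_3 lc_e_rc_13_3 lc_e_rc_18_1 lc_e_rc_13_3 lc_e_Cert_tree lc_e_Cert_tree lc_e_rc_13_3 lc_e_rc_18_1 lc_e_rc_18_1 lc_e_rc_13_3 lc_e_Cert_tree lc_e_rc_27_5 lc_e_Cert_tree lc_e_rc_27_7 lc_e_rc_18_1 lc_e_rc_18_1 lc_e_Cert_tree lc_e_rc_16_5 lc_e_Cert_tree lc_e_rc_18_1) (@D3.rec (fun _ => (Cert rels S Gen.e)) lc_e_rc_9_1 lc_e_rc_9_3 lc_e_rc_16_5 lc_e_Cert_tree lc_e_Cert_tree lc_e_rc_13_3 lc_e_rc_18_1 lc_e_Cert_tree lc_e_rc_19_4 lc_e_rc_16_5 lc_e_Cert_tree lc_e_rc_18_1 lc_e_rc_19_4 lc_e_rc_13_3 lc_e_rc_9_3 lc_e_Cert_tree lc_e_rc_18_1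 lc_e_rc_16_3 lc_e_rc_16_3 lc_e_rc_18_1 lc_e_rc_16_1 lc_e_rc_18_1 lc_e_rc_13_3 lc_e_rc_4_1 lc_e_rc_18_1 lc_e_rc_18_1 lc_e_rc_27_1 lc_e_rc_9_3 lc_e_rc_9_1 lc_e_rc_9_1 lc_e_rc_19_2 lc_e_rc_13_3 lc_e_rc_16_1 lc_e_rc_9_1 lc_e_rc_16_3 lc_e_rc_18_1 lc_e_rc_9_3 lc_e_Cert_tree lc_e_rc_16_3 lc_e_rc_18_1 lc_e_rc_13_3 lc_e_rc_16_5 lc_e_rc_13_1 lc_e_rc_13_3 lc_e_rc_9_3 lc_e_rc_16_1 lc_e_rc_19_2 lc_e_rc_27_5 lc_e_rc_4_1 lc_e_rc_27_5 lc_e_Cert_tree lc_e_rc_27_5 lc_e_rc_27_7 lc_e_Cert_tree lc_e_rc_18_1 lc_e_rc_16_5 lc_e_rc_16_1 lc_e_rc_19_4 lc_e_rc_16_1 lc_e_rc_13_3 lc_e_rc_27_5 lc_e_rc_18_1) (@D3.rec (fun _ => (Cert rels S Gen.e)) lc_e_Cert_tree lc_e_Cert_tree lc_e_rc_18_1 lc_e_rc_18_1 lc_e_rc_16_5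 lc_e_Cert_tree lc_e_rc_18_1 lc_e_rc_16_5 lc_e_Cert_tree lc_e_rc_9_1 lc_e_rc_18_1 lc_e_rc_19_2 lc_e_rc_16_1 lc_e_rc_9_1 lc_e_rc_9_1 lc_e_rc_18_1 lc_e_rc_9_1 lc_e_rc_18_1 lc_e_Cert_tree lc_e_rc_4_3 lc_e_rc_16_1 lc_e_rc_13_1 lc_e_rc_18_1 lc_e_rc_16_3 lc_e_rc_27_5 lc_e_rc_9_3 lc_e_rc_9_3 lc_e_rc_13_3 lc_e_rc_16_3 lc_e_rc_18_1 lc_e_rc_13_3 lc_e_rc_13_3 lc_e_rc_9_1 lc_e_Cert_tree lc_e_rc_18_1 lc_e_rc_18_1 lc_e_rc_13_1 lc_e_rc_4_1 lc_e_rc_18_1 lc_e_rc_9_3 lc_e_rc_19_2 lc_e_rc_9_3 lc_e_rc_18_1 lc_e_rc_16_5 lc_e_rc_13_3 lc_e_rc_9_1 lc_e_rc_16_3 lc_e_rc_19_4 lc_e_rc_9_3 lc_e_rc_13_1 lc_e_rc_18_1 lc_e_rc_9_3 lc_e_rc_16_5 lc_e_Cert_tree lc_e_rc_4_3 lc_e_rc_18_1 lc_e_rc_16_1 lc_e_rc_18_1 lc_e_rc_13_3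 lc_e_rc_9_3 lc_e_rc_16_3 lc_e_rc_19_4) (@D3.rec (fun _ => (Cert rels S Gen.e)) lc_e_rc_13_3 lc_e_rc_13_3 lc_e_rc_19_4 lc_e_rc_13_3 lc_e_rc_13_3 lc_e_rc_9_3 lc_e_rc_13_3 lc_e_rc_27_5 lc_e_rc_27_1 lc_e_rc_18_1 lc_e_rc_16_5 lc_e_Cert_tree lc_e_rc_16_5 lc_e_rc_13_3 lc_e_rc_18_1 lc_e_rc_27_1 lc_e_rc_13_3 lc_e_rc_18_1 lc_e_Cert_tree lc_e_rc_18_1 lc_e_rc_16_5 lc_e_rc_18_1 lc_e_Cert_tree lc_e_rc_9_3 lc_e_rc_9_3 lc_e_rc_18_1 lc_e_Cert_tree lc_e_rc_27_1 lc_e_rc_27_5 lc_e_rc_19_2 lc_e_rc_18_1 lc_e_rc_18_1 lc_e_rc_4_1 lc_e_rc_16_5 lc_e_Cert_tree lc_e_rc_18_1 lc_e_rc_4_3 lc_e_rc_18_1 lc_e_Cert_tree lc_e_rc_18_1 lc_e_rc_18_1 lc_e_rc_16_1 lc_e_rc_19_2 lc_e_rc_18_1 lc_e_rc_18_1 lc_e_rc_27_5 lc_e_Cert_tree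 lc_e_rc_18_1 lc_e_rc_18_1 lc_e_rc_4_3 lc_e_rc_27_5 lc_e_rc_18_1 lc_e_rc_27_7 lc_e_rc_9_1 lc_e_rc_13_3 lc_e_rc_13_3 lc_e_rc_9_1 lc_e_rc_27_7 lc_e_rc_27_1 lc_e_rc_18_1 lc_e_rc_19_4 lc_e_rc_27_7) (@D3.rec (fun _ => (Cert rels S Gen.e)) lc_e_rc_9_1 lc_e_rc_18_1 lc_e_rc_4_1 lc_e_rc_16_3 lc_e_rc_9_1 lc_e_rc_9_1 lc_e_rc_16_1 lc_e_rc_18_1 lc_e_rc_9_1 lc_e_rc_27_5 lc_e_rc_18_1 lc_e_Cert_tree lc_e_rc_13_3 lc_e_rc_18_1 lc_e_rc_9_1 lc_e_Cert_tree lc_e_rc_18_1 lc_e_rc_9_3 lc_e_rc_27_1 lc_e_rc_13_3 lc_e_rc_9_3 lc_e_rc_4_3 lc_e_rc_16_1 lc_e_rc_13_3 lc_e_rc_18_1 lc_e_rc_18_1 lc_e_Cert_tree lc_e_rc_18_1 lc_e_rc_18_1 lc_e_Cert_tree lc_e_Cert_tree lc_e_rc_13_3 lc_e_Cert_tree lc_e_rc_18_1 lc_e_rc_18_1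 lc_e_rc_16_1 lc_e_Cert_tree lc_e_rc_16_1 lc_e_rc_9_1 lc_e_Cert_tree lc_e_rc_18_1 lc_e_rc_18_1 lc_e_rc_13_1 lc_e_rc_16_1 lc_e_rc_19_4 lc_e_rc_9_3 lc_e_rc_27_5 lc_e_rc_18_1 lc_e_rc_9_3 lc_e_Cert_tree lc_e_rc_4_1 lc_e_Cert_tree lc_e_rc_18_1 lc_e_rc_18_1 lc_e_Cert_tree lc_e_rc_13_1 lc_e_rc_16_1 lc_e_rc_19_2 lc_e_rc_13_3 lc_e_rc_18_1 lc_e_rc_18_1 lc_e_Cert_tree) (@D3.rec (fun _ => (Cert rels S Gen.e)) lc_e_Cert_tree lc_e_rc_13_3 lc_e_rc_4_3 lc_e_rc_18_1 lc_e_rc_18_1 lc_e_rc_4_1 lc_e_rc_9_3 lc_e_Cert_tree lc_e_Cert_tree lc_e_Cert_tree lc_e_rc_18_1 lc_e_rc_13_1 lc_e_Cert_tree lc_e_rc_13_3 lc_e_rc_27_7 lc_e_rc_18_1 lc_e_rc_16_3 lc_e_rc_16_5 lc_e_Cert_tree lc_e_rc_18_1 lc_e_rc_19_4 lc_e_rc_18_1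 lc_e_rc_27_5 lc_e_rc_13_3 lc_e_Cert_tree lc_e_Cert_tree lc_e_rc_18_1 lc_e_Cert_tree lc_e_rc_18_1 lc_e_Cert_tree lc_e_rc_18_1 lc_e_Cert_tree lc_e_Cert_tree lc_e_rc_16_1 lc_e_rc_19_4 lc_e_rc_9_3 lc_e_rc_16_3 lc_e_rc_9_1 lc_e_Cert_tree lc_e_rc_18_1 lc_e_rc_27_5 lc_e_Cert_tree lc_e_rc_9_3 lc_e_rc_27_7 lc_e_rc_9_3 lc_e_rc_27_7 lc_e_rc_18_1 lc_e_Cert_tree lc_e_Cert_tree lc_e_rc_18_1 lc_e_rc_18_1 lc_e_Cert_tree lc_e_Cert_tree lc_e_rc_18_1 lc_e_rc_13_3 lc_e_rc_13_1 lc_e_rc_16_1 lc_e_rc_9_3 lc_e_rc_13_3 lc_e_rc_9_3 lc_e_rc_13_3 lc_e_rc_27_7) (@D3.rec (fun _ => (Cert rels S Gen.e)) lc_e_rc_4_1 lc_e_rc_13_1 lc_e_rc_18_1 lc_e_rc_18_1 lc_e_rc_18_1 lc_e_rc_16_5 lc_e_rc_9_3 lc_e_rc_9_1 lc_e_rc_13_3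 lc_e_rc_18_1 lc_e_Cert_tree lc_e_Cert_tree lc_e_rc_18_1 lc_e_rc_27_1 lc_e_Cert_tree lc_e_rc_18_1 lc_e_rc_18_1 lc_e_Cert_tree lc_e_rc_27_1 lc_e_Cert_tree lc_e_rc_13_3 lc_e_rc_18_1 lc_e_rc_18_1 lc_e_rc_27_5 lc_e_rc_13_3 lc_e_Cert_tree lc_e_Cert_tree lc_e_rc_18_1 lc_e_rc_4_3 lc_e_rc_16_3 lc_e_rc_18_1 lc_e_rc_4_3 lc_e_rc_18_1 lc_e_rc_27_7 lc_e_rc_13_1 lc_e_rc_27_1 lc_e_rc_19_4 lc_e_rc_9_3 lc_e_rc_13_3 lc_e_rc_9_3 lc_e_rc_13_3 lc_e_rc_9_3 lc_e_rc_9_3 lc_e_rc_4_3 lc_e_rc_18_1 lc_e_Cert_tree lc_e_rc_18_1 lc_e_rc_4_3 lc_e_rc_16_3 lc_e_rc_18_1 lc_e_rc_13_3 lc_e_rc_18_1 lc_e_rc_27_5 lc_e_rc_13_3 lc_e_rc_16_3 lc_e_rc_13_3 lc_e_rc_27_1 lc_e_Cert_tree lc_e_rc_13_3 lc_e_rc_18_1 lc_e_rc_16_3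 lc_e_rc_16_3) (@D3.rec (fun _ => (Cert rels S Gen.e)) lc_e_rc_19_4 lc_e_rc_4_1 lc_e_rc_16_3 lc_e_rc_18_1 lc_e_Cert_tree lc_e_rc_18_1 lc_e_Cert_tree lc_e_rc_18_1 lc_e_Cert_tree lc_e_Cert_tree lc_e_rc_18_1 lc_e_rc_4_3 lc_e_rc_16_1 lc_e_rc_19_2 lc_e_Cert_tree lc_e_Cert_tree lc_e_rc_16_1 lc_e_rc_19_4 lc_e_rc_13_3 lc_e_Cert_tree lc_e_Cert_tree lc_e_Cert_tree lc_e_rc_16_3 lc_e_rc_16_3 lc_e_Cert_tree lc_e_rc_9_3 lc_e_rc_13_3 lc_e_rc_27_1 lc_e_rc_9_1 lc_e_rc_13_3 lc_e_rc_13_1 lc_e_rc_13_3 lc_e_rc_9_3 lc_e_rc_13_3 lc_e_rc_13_3 lc_e_rc_18_1 lc_e_rc_18_1 lc_e_rc_16_3 lc_e_rc_16_3 lc_e_rc_16_5 lc_e_rc_13_1 lc_e_rc_18_1 lc_e_rc_16_3 lc_e_rc_18_1 lc_e_rc_4_3 lc_e_rc_19_4 lc_e_rc_19_2 lc_e_rc_13_3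 lc_e_rc_9_3 lc_e_rc_13_3 lc_e_rc_27_5 lc_e_rc_19_2 lc_e_rc_4_3 lc_e_rc_19_2 lc_e_rc_13_3 lc_e_rc_27_5 lc_e_rc_16_3 lc_e_Cert_tree lc_e_rc_16_5 lc_e_Cert_tree lc_e_rc_9_1 lc_e_rc_18_1) (@D3.rec (fun _ => (Cert rels S Gen.e)) lc_e_rc_18_1 lc_e_rc_18_1 lc_e_rc_18_1 lc_e_rc_16_1 lc_e_rc_19_4 lc_e_rc_13_3 lc_e_rc_16_3 lc_e_rc_4_1 lc_e_Cert_tree lc_e_rc_27_5 lc_e_rc_13_3 lc_e_rc_16_3 lc_e_Cert_tree lc_e_Cert_tree lc_e_rc_18_1 lc_e_rc_19_4 lc_e_Cert_tree lc_e_rc_18_1 lc_e_Cert_tree lc_e_rc_18_1 lc_e_rc_18_1 lc_e_rc_9_3 lc_e_rc_16_1 lc_e_rc_9_1 lc_e_rc_18_1 lc_e_Cert_tree lc_e_rc_16_1 lc_e_rc_18_1 lc_e_rc_9_3 lc_e_Cert_tree lc_e_Cert_tree lc_e_Cert_tree lc_e_rc_18_1 lc_e_rc_19_2 lc_e_rc_13_3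 lc_e_rc_18_1 lc_e_rc_18_1 lc_e_rc_4_1 lc_e_rc_18_1 lc_e_Cert_tree lc_e_rc_18_1 lc_e_rc_27_1 lc_e_rc_18_1 lc_e_rc_19_2 lc_e_rc_27_7 lc_e_rc_18_1 lc_e_rc_18_1 lc_e_Cert_tree lc_e_Cert_tree lc_e_rc_18_1 lc_e_rc_4_3 lc_e_rc_9_3 lc_e_rc_13_3 lc_e_rc_18_1 lc_e_rc_16_5 lc_e_rc_16_3 lc_e_rc_16_5 lc_e_rc_13_1 lc_e_rc_27_5 lc_e_rc_18_1 lc_e_rc_4_3 lc_e_rc_9_1) (@D3.rec (fun _ => (Cert rels S Gen.e)) lc_e_rc_13_3 lc_e_rc_18_1 lc_e_rc_9_3 lc_e_rc_27_7 lc_e_rc_19_2 lc_e_rc_4_3 lc_e_rc_9_3 lc_e_rc_16_3 lc_e_rc_13_3 lc_e_rc_9_3 lc_e_rc_9_3 lc_e_rc_27_1 lc_e_rc_4_1 lc_e_rc_9_3 lc_e_rc_18_1 lc_e_rc_16_3 lc_e_rc_19_4 lc_e_rc_13_1 lc_e_rc_18_1 lc_e_rc_16_5 lc_e_rc_27_5 lc_e_rc_18_1 lc_e_Cert_tree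 lc_e_rc_16_1 lc_e_rc_19_4 lc_e_rc_19_2 lc_e_rc_18_1 lc_e_Cert_tree lc_e_rc_16_3 lc_e_rc_9_3 lc_e_rc_13_3 lc_e_Cert_tree lc_e_rc_18_1 lc_e_rc_9_3 lc_e_Cert_tree lc_e_rc_18_1 lc_e_rc_18_1 lc_e_rc_27_1 lc_e_Cert_tree lc_e_rc_18_1 lc_e_rc_9_3 lc_e_rc_19_0 lc_e_Cert_tree lc_e_rc_18_1 lc_e_rc_18_1 lc_e_Cert_tree lc_e_rc_13_3 lc_e_rc_18_1 lc_e_Cert_tree lc_e_rc_9_1 lc_e_rc_27_7 lc_e_rc_18_1 lc_e_rc_18_1 lc_e_rc_13_3 lc_e_rc_13_3 lc_e_rc_16_5 lc_e_rc_16_5 lc_e_rc_13_1 lc_e_rc_18_1 lc_e_rc_18_1 lc_e_rc_13_1 lc_e_rc_18_1) (@D3.rec (fun _ => (Cert rels S Gen.e)) lc_e_Cert_tree lc_e_rc_18_1 lc_e_rc_27_5 lc_e_rc_18_1 lc_e_rc_27_1 lc_e_rc_19_4 lc_e_Cert_tree lc_e_rc_9_1 lc_e_rc_13_1 lc_e_rc_27_5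 lc_e_rc_18_1 lc_e_rc_16_3 lc_e_rc_13_1 lc_e_rc_27_5 lc_e_rc_18_1 lc_e_rc_18_1 lc_e_rc_9_3 lc_e_rc_9_1 lc_e_rc_9_1 lc_e_rc_18_1 lc_e_rc_18_1 lc_e_Cert_tree lc_e_rc_27_7 lc_e_rc_18_1 lc_e_rc_18_1 lc_e_rc_18_1 lc_e_rc_16_3 lc_e_rc_9_3 lc_e_rc_27_5 lc_e_rc_18_1 lc_e_rc_18_1 lc_e_rc_27_5 lc_e_rc_9_1 lc_e_rc_16_3 lc_e_rc_18_1 lc_e_rc_27_1 lc_e_rc_27_5 lc_e_rc_18_1 lc_e_rc_16_1 lc_e_rc_9_1 lc_e_rc_18_1 lc_e_rc_18_1 lc_e_rc_18_1 lc_e_rc_19_4 lc_e_rc_18_1 lc_e_rc_16_1 lc_e_rc_9_3 lc_e_rc_18_1 lc_e_rc_9_3 lc_e_rc_4_3 lc_e_rc_9_3 lc_e_rc_13_3 lc_e_rc_13_3 lc_e_rc_18_1 lc_e_rc_18_1 lc_e_rc_27_5 lc_e_rc_18_1 lc_e_rc_13_1 lc_e_rc_13_3 lc_e_rc_9_3 lc_e_rc_16_1 lc_e_rc_18_1) (@D3.rec (fun _ =>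 (Cert rels S Gen.e)) lc_e_rc_4_3 lc_e_rc_16_1 lc_e_rc_16_5 lc_e_rc_16_3 lc_e_rc_27_5 lc_e_rc_9_3 lc_e_rc_18_1 lc_e_rc_9_3 lc_e_rc_13_3 lc_e_rc_4_3 lc_e_rc_18_1 lc_e_rc_19_2 lc_e_rc_16_1 lc_e_rc_18_1 lc_e_rc_13_3 lc_e_rc_13_3 lc_e_rc_18_1 lc_e_rc_4_1 lc_e_rc_18_1 lc_e_Cert_tree lc_e_Cert_tree lc_e_rc_18_1 lc_e_rc_9_3 lc_e_rc_18_1 lc_e_rc_18_1 lc_e_rc_18_1 lc_e_rc_9_1 lc_e_rc_9_3 lc_e_rc_27_1 lc_e_rc_18_1 lc_e_rc_18_1 lc_e_rc_27_5 lc_e_rc_18_1 lc_e_rc_16_1 lc_e_rc_27_7 lc_e_rc_27_5 lc_e_rc_18_1 lc_e_rc_18_1 lc_e_rc_16_1 lc_e_rc_13_3 lc_e_rc_13_1 lc_e_rc_4_3 lc_e_rc_27_7 lc_e_rc_18_1 lc_e_rc_18_1 lc_e_rc_9_3 lc_e_rc_19_4 lc_e_rc_9_3 lc_e_rc_18_1 lc_e_rc_19_4 lc_e_Cert_tree lc_e_rc_18_1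 lc_e_rc_9_3 lc_e_Cert_tree lc_e_rc_13_3 lc_e_rc_19_4 lc_e_rc_16_1 lc_e_Cert_tree lc_e_rc_18_1 lc_e_rc_4_3 lc_e_rc_27_5 lc_e_rc_27_7) (@D3.rec (fun _ => (Cert rels S Gen.e)) lc_e_rc_27_5 lc_e_rc_9_1 lc_e_rc_16_3 lc_e_Cert_tree lc_e_rc_18_1 lc_e_rc_13_3 lc_e_rc_27_5 lc_e_Cert_tree lc_e_Cert_tree lc_e_rc_27_1 lc_e_rc_18_1 lc_e_rc_9_1 lc_e_rc_9_3 lc_e_rc_18_1 lc_e_rc_18_1 lc_e_rc_18_1 lc_e_rc_19_4 lc_e_rc_9_1 lc_e_rc_18_1 lc_e_rc_13_3 lc_e_rc_9_3 lc_e_rc_13_3 lc_e_rc_27_5 lc_e_rc_27_5 lc_e_rc_18_1 lc_e_rc_13_1 lc_e_rc_27_5 lc_e_rc_18_1 lc_e_rc_16_5 lc_e_rc_13_1 lc_e_rc_19_4 lc_e_rc_13_1 lc_e_rc_9_1 lc_e_Cert_tree lc_e_rc_18_1 lc_e_rc_13_3 lc_e_rc_18_1 lc_e_rc_16_5 lc_e_rc_9_3 lc_e_rc_4_1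 lc_e_rc_18_1 lc_e_rc_13_1 lc_e_rc_18_1 lc_e_rc_18_1 lc_e_rc_27_1 lc_e_rc_18_1 lc_e_rc_27_1 lc_e_rc_18_1 lc_e_rc_27_5 lc_e_rc_18_1 lc_e_rc_16_1 lc_e_rc_19_4 lc_e_rc_27_1 lc_e_rc_18_1 lc_e_rc_16_1 lc_e_rc_19_4 lc_e_rc_9_3 lc_e_rc_27_7 lc_e_rc_9_1 lc_e_rc_16_3 lc_e_rc_18_1 lc_e_rc_27_5) (@D3.rec (fun _ => (Cert rels S Gen.e)) lc_e_rc_27_1 lc_e_Cert_tree lc_e_rc_13_3 lc_e_rc_9_3 lc_e_rc_4_1 lc_e_rc_9_3 lc_e_rc_16_5 lc_e_rc_18_1 lc_e_rc_18_1 lc_e_rc_18_1 lc_e_rc_16_3 lc_e_rc_18_1 lc_e_rc_18_1 lc_e_Cert_tree lc_e_rc_9_3 lc_e_rc_16_3 lc_e_rc_9_3 lc_e_rc_13_1 lc_e_rc_18_1 lc_e_rc_16_5 lc_e_rc_16_1 lc_e_rc_27_1 lc_e_rc_18_1 lc_e_rc_27_1 lc_e_rc_19_2 lc_e_rc_13_3 lc_e_rc_27_5 lc_e_rc_13_1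 lc_e_rc_27_5 lc_e_rc_18_1 lc_e_Cert_tree lc_e_rc_18_1 lc_e_Cert_tree lc_e_rc_18_1 lc_e_rc_27_7 lc_e_Cert_tree lc_e_rc_27_5 lc_e_rc_18_1 lc_e_rc_9_3 lc_e_rc_4_3 lc_e_rc_18_1 lc_e_rc_13_1 lc_e_rc_18_1 lc_e_rc_18_1 lc_e_rc_18_1 lc_e_rc_9_3 lc_e_rc_27_5 lc_e_rc_16_5 lc_e_rc_18_1 lc_e_rc_13_3 lc_e_rc_9_3 lc_e_rc_18_1 lc_e_rc_16_1 lc_e_rc_27_7 lc_e_rc_4_1 lc_e_rc_4_3 lc_e_rc_27_5 lc_e_rc_27_5 lc_e_rc_9_3 lc_e_rc_9_3 lc_e_rc_13_3 lc_e_rc_27_1) (@D3.rec (fun _ => (Cert rels S Gen.e)) lc_e_rc_27_1 lc_e_Cert_tree lc_e_rc_27_7 lc_e_rc_13_3 lc_e_rc_18_1 lc_e_Cert_tree lc_e_Cert_tree lc_e_rc_18_1 lc_e_rc_13_3 lc_e_Cert_tree lc_e_rc_27_5 lc_e_rc_9_3 lc_e_rc_18_1 lc_e_Cert_tree lc_e_rc_18_1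 lc_e_rc_16_1 lc_e_rc_13_3 lc_e_Cert_tree lc_e_rc_16_1 lc_e_rc_19_4 lc_e_rc_9_3 lc_e_rc_27_7 lc_e_Cert_tree lc_e_rc_16_3 lc_e_rc_13_1 lc_e_rc_16_3 lc_e_rc_18_1 lc_e_rc_27_7 lc_e_rc_27_1 lc_e_rc_9_3 lc_e_rc_16_3 lc_e_rc_27_1 lc_e_Cert_tree lc_e_rc_4_3 lc_e_rc_18_1 lc_e_Cert_tree lc_e_rc_19_4 lc_e_Cert_tree lc_e_rc_9_3 lc_e_rc_18_1 lc_e_rc_18_1 lc_e_rc_16_1 lc_e_Cert_tree lc_e_rc_27_1 lc_e_rc_13_1 lc_e_rc_18_1 lc_e_rc_9_3 lc_e_Cert_tree lc_e_rc_19_4 lc_e_Cert_tree lc_e_rc_18_1 lc_e_rc_18_1 lc_e_Cert_tree lc_e_rc_18_1 lc_e_rc_9_1 lc_e_rc_27_1 lc_e_rc_18_1 lc_e_Cert_tree lc_e_rc_9_3 lc_e_rc_16_3 lc_e_rc_19_4 lc_e_Cert_tree) (@D3.rec (fun _ => (Cert rels S Gen.e)) lc_e_Cert_tree lc_e_rc_18_1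 lc_e_rc_27_1 lc_e_rc_27_7 lc_e_rc_27_5 lc_e_rc_18_1 lc_e_Cert_tree lc_e_rc_19_4 lc_e_rc_27_7 lc_e_rc_18_1 lc_e_rc_27_1 lc_e_Cert_tree lc_e_Cert_tree lc_e_rc_13_3 lc_e_rc_18_1 lc_e_rc_18_1 lc_e_rc_13_1 lc_e_rc_13_3 lc_e_rc_18_1 lc_e_rc_19_2 lc_e_rc_9_3 lc_e_Cert_tree lc_e_Cert_tree lc_e_rc_18_1 lc_e_rc_18_1 lc_e_rc_16_1 lc_e_rc_18_1 lc_e_rc_16_3 lc_e_rc_27_1 lc_e_rc_18_1 lc_e_Cert_tree lc_e_rc_18_1 lc_e_rc_18_1 lc_e_rc_18_1 lc_e_rc_9_3 lc_e_rc_18_1 lc_e_rc_27_5 lc_e_rc_18_1 lc_e_rc_18_1 lc_e_rc_27_5 lc_e_rc_18_1 lc_e_rc_18_1 lc_e_rc_27_5 lc_e_rc_18_1 lc_e_rc_27_5 lc_e_rc_19_0 lc_e_rc_27_5 lc_e_rc_18_1 lc_e_Cert_tree lc_e_rc_18_1 lc_e_rc_18_1 lc_e_rc_19_2 lc_e_rc_16_3 lc_e_rc_19_2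 lc_e_rc_27_1 lc_e_rc_18_1 lc_e_rc_18_1 lc_e_rc_18_1 lc_e_rc_27_7 lc_e_rc_18_1 lc_e_rc_18_1 lc_e_rc_27_7) (@D3.rec (fun _ => (Cert rels S Gen.e)) lc_e_rc_18_1 lc_e_rc_9_3 lc_e_rc_16_5 lc_e_rc_27_7 lc_e_rc_18_1 lc_e_Cert_tree lc_e_rc_18_1 lc_e_rc_19_2 lc_e_rc_16_1 lc_e_rc_19_4 lc_e_rc_13_1 lc_e_rc_18_1 lc_e_rc_13_3 lc_e_rc_18_1 lc_e_rc_27_7 lc_e_rc_18_1 lc_e_rc_19_2 lc_e_rc_27_5 lc_e_rc_18_1 lc_e_rc_27_5 lc_e_rc_18_1 lc_e_rc_16_5 lc_e_rc_27_5 lc_e_rc_18_1 lc_e_rc_16_5 lc_e_rc_18_1 lc_e_rc_16_1 lc_e_rc_19_4 lc_e_rc_16_5 lc_e_rc_27_7 lc_e_Cert_tree lc_e_rc_18_1 lc_e_Cert_tree lc_e_rc_9_3 lc_e_rc_16_3 lc_e_rc_19_4 lc_e_Cert_tree lc_e_Cert_tree lc_e_rc_27_1 lc_e_rc_18_1 lc_e_rc_16_3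 lc_e_rc_13_1 lc_e_Cert_tree lc_e_Cert_tree lc_e_rc_27_5 lc_e_rc_19_2 lc_e_rc_16_3 lc_e_rc_19_0 lc_e_rc_18_1 lc_e_Cert_tree lc_e_rc_18_1 lc_e_rc_27_7 lc_e_rc_19_4 lc_e_rc_18_1 lc_e_rc_13_1 lc_e_rc_16_5 lc_e_rc_19_4 lc_e_rc_18_1 lc_e_Cert_tree lc_e_rc_18_1 lc_e_rc_9_3 lc_e_Cert_tree) (@D3.rec (fun _ => (Cert rels S Gen.e)) lc_e_rc_18_1 lc_e_rc_13_3 lc_e_rc_18_1 lc_e_rc_18_1 lc_e_rc_19_2 lc_e_rc_16_5 lc_e_rc_16_5 lc_e_rc_18_1 lc_e_rc_18_1 lc_e_rc_18_1 lc_e_rc_27_7 lc_e_rc_16_1 lc_e_rc_9_3 lc_e_rc_9_3 lc_e_rc_19_0 lc_e_rc_4_3 lc_e_rc_13_3 lc_e_rc_19_2 lc_e_rc_18_1 lc_e_rc_19_2 lc_e_rc_13_3 lc_e_rc_13_3 lc_e_rc_18_1 lc_e_rc_18_1 lc_e_rc_18_1 lc_e_rc_9_3 lc_e_rc_19_2 lc_e_rc_27_1 lc_e_rc_18_1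 lc_e_rc_27_7 lc_e_rc_18_1 lc_e_rc_13_3 lc_e_rc_18_1 lc_e_rc_19_4 lc_e_Cert_tree lc_e_rc_18_1 lc_e_rc_27_5 lc_e_rc_9_1 lc_e_rc_18_1 lc_e_rc_18_1 lc_e_rc_27_5 lc_e_rc_9_3 lc_e_rc_18_1 lc_e_rc_19_4 lc_e_rc_9_3 lc_e_rc_18_1 lc_e_rc_16_5 lc_e_Cert_tree lc_e_rc_18_1 lc_e_rc_27_5 lc_e_rc_19_2 lc_e_rc_18_1 lc_e_rc_13_3 lc_e_rc_4_3 lc_e_rc_18_1 lc_e_rc_27_1 lc_e_rc_9_3 lc_e_rc_18_1 lc_e_rc_9_3 lc_e_rc_27_1 lc_e_rc_4_3 lc_e_rc_27_7) (@D3.rec (fun _ => (Cert rels S Gen.e)) lc_e_rc_18_1 lc_e_Cert_tree lc_e_rc_4_3 lc_e_rc_18_1 lc_e_rc_27_7 lc_e_Cert_tree lc_e_Cert_tree lc_e_rc_18_1 lc_e_rc_18_1 lc_e_rc_18_1 lc_e_rc_19_4 lc_e_rc_18_1 lc_e_rc_18_1 lc_e_Cert_tree lc_e_Cert_tree lc_e_rc_4_3 lc_e_rc_13_3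 lc_e_rc_18_1 lc_e_rc_9_3 lc_e_rc_18_1 lc_e_rc_13_3 lc_e_Cert_tree lc_e_rc_27_1 lc_e_rc_18_1 lc_e_Cert_tree lc_e_Cert_tree lc_e_rc_18_1 lc_e_rc_16_3 lc_e_rc_16_5 lc_e_rc_13_1 lc_e_rc_18_1 lc_e_rc_16_3 lc_e_rc_18_1 lc_e_rc_27_1 lc_e_rc_16_5 lc_e_Cert_tree lc_e_rc_18_1 lc_e_rc_16_1 lc_e_rc_19_4 lc_e_rc_18_1 lc_e_rc_19_2 lc_e_rc_4_1 lc_e_rc_18_1 lc_e_Cert_tree lc_e_rc_19_4 lc_e_rc_19_4 lc_e_rc_18_1 lc_e_rc_19_0 lc_e_Cert_tree lc_e_rc_27_5 lc_e_Cert_tree lc_e_rc_9_1 lc_e_rc_18_1 lc_e_rc_18_1 lc_e_rc_13_1 lc_e_rc_16_1 lc_e_rc_19_4 lc_e_rc_18_1 lc_e_rc_16_5 lc_e_rc_16_5 lc_e_Cert_tree lc_e_Cert_tree) (@D3.rec (fun _ => (Cert rels S Gen.e)) lc_e_rc_18_1 lc_e_rc_18_1 lc_e_rc_27_7 lc_e_rc_19_4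 lc_e_Cert_tree lc_e_Cert_tree lc_e_rc_4_3 lc_e_rc_9_3 lc_e_rc_18_1 lc_e_rc_27_5 lc_e_Cert_tree lc_e_rc_9_3 lc_e_Cert_tree lc_e_rc_18_1 lc_e_Cert_tree lc_e_rc_18_1 lc_e_rc_27_7 lc_e_rc_18_1 lc_e_rc_18_1 lc_e_rc_19_4 lc_e_rc_18_1 lc_e_rc_18_1 lc_e_rc_16_3 lc_e_rc_18_1 lc_e_rc_13_3 lc_e_rc_13_3 lc_e_rc_18_1 lc_e_rc_18_1 lc_e_Cert_tree lc_e_rc_27_5 lc_e_rc_16_3 lc_e_rc_19_2 lc_e_rc_18_1 lc_e_rc_9_3 lc_e_Cert_tree lc_e_rc_16_5 lc_e_rc_27_7 lc_e_rc_9_3 lc_e_rc_16_5 lc_e_rc_27_5 lc_e_Cert_tree lc_e_rc_18_1 lc_e_rc_13_3 lc_e_rc_27_7 lc_e_Cert_tree lc_e_rc_18_1 lc_e_rc_18_1 lc_e_Cert_tree lc_e_rc_13_3 lc_e_rc_18_1 lc_e_rc_9_3 lc_e_Cert_tree lc_e_rc_18_1 lc_e_rc_9_3 lc_e_Cert_tree lc_e_rc_13_3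 lc_e_Cert_tree lc_e_Cert_tree lc_e_rc_18_1 lc_e_rc_18_1 lc_e_rc_16_1 lc_e_rc_18_1) (@D3.rec (fun _ => (Cert rels S Gen.e)) lc_e_rc_27_5 lc_e_Cert_tree lc_e_Cert_tree lc_e_rc_18_1 lc_e_rc_18_1 lc_e_rc_27_7 lc_e_rc_13_3 lc_e_rc_19_2 lc_e_rc_16_3 lc_e_rc_9_3 lc_e_rc_27_5 lc_e_rc_18_1 lc_e_rc_16_5 lc_e_Cert_tree lc_e_rc_18_1 lc_e_rc_16_1 lc_e_rc_27_7 lc_e_rc_18_1 lc_e_Cert_tree lc_e_rc_9_1 lc_e_rc_16_1 lc_e_rc_9_3 lc_e_Cert_tree lc_e_rc_16_3 lc_e_Cert_tree lc_e_rc_9_3 lc_e_rc_13_3 lc_e_rc_18_1 lc_e_rc_13_3 lc_e_rc_9_3 lc_e_Cert_tree lc_e_rc_13_3 lc_e_rc_4_3 lc_e_Cert_tree lc_e_rc_4_3 lc_e_Cert_tree lc_e_rc_18_1 lc_e_Cert_tree lc_e_Cert_tree lc_e_rc_18_1 lc_e_rc_18_1 lc_e_Cert_tree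 lc_e_rc_19_2 lc_e_rc_18_1 lc_e_rc_13_3 lc_e_rc_9_3 lc_e_rc_18_1 lc_e_Cert_tree lc_e_rc_18_1 lc_e_rc_27_5 lc_e_rc_27_5 lc_e_rc_18_1 lc_e_rc_19_0 lc_e_rc_27_1 lc_e_rc_9_3 lc_e_rc_19_4 lc_e_rc_13_1 lc_e_rc_27_1 lc_e_rc_27_5 lc_e_rc_18_1 lc_e_Cert_tree lc_e_Cert_tree) (@D3.rec (fun _ => (Cert rels S Gen.e)) lc_e_rc_13_3 lc_e_rc_27_1 lc_e_rc_13_1 lc_e_rc_27_1 lc_e_rc_27_5 lc_e_rc_27_7 lc_e_rc_9_3 lc_e_Cert_tree lc_e_Cert_tree lc_e_rc_18_1 lc_e_rc_18_1 lc_e_rc_27_1 lc_e_rc_18_1 lc_e_rc_13_3 lc_e_rc_4_3 lc_e_rc_16_3 lc_e_rc_18_1 lc_e_Cert_tree lc_e_rc_18_1 lc_e_rc_27_1 lc_e_rc_4_3 lc_e_rc_27_7 lc_e_rc_18_1 lc_e_rc_18_1 lc_e_rc_18_1 lc_e_rc_16_1 lc_e_rc_19_4 lc_e_rc_27_1 lc_e_rc_19_2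 lc_e_rc_27_1 lc_e_rc_27_7 lc_e_rc_18_1 lc_e_rc_13_3 lc_e_Cert_tree lc_e_rc_18_1 lc_e_rc_27_7 lc_e_rc_27_5 lc_e_rc_9_3 lc_e_rc_27_1 lc_e_rc_13_3 lc_e_rc_18_1 lc_e_rc_18_1 lc_e_rc_18_1 lc_e_rc_18_1 lc_e_rc_13_3 lc_e_rc_18_1 lc_e_rc_13_3 lc_e_rc_13_3 lc_e_rc_18_1 lc_e_rc_9_3 lc_e_rc_16_3 lc_e_rc_19_4 lc_e_rc_9_3 lc_e_rc_13_3 lc_e_rc_27_7 lc_e_rc_18_1 lc_e_Cert_tree lc_e_rc_27_5 lc_e_rc_13_3 lc_e_rc_27_1 lc_e_rc_18_1 lc_e_rc_9_3) (@D3.rec (fun _ => (Cert rels S Gen.e)) lc_e_Cert_tree lc_e_rc_9_1 lc_e_rc_18_1 lc_e_rc_27_7 lc_e_rc_18_1 lc_e_rc_4_3 lc_e_rc_27_5 lc_e_Cert_tree lc_e_rc_18_1 lc_e_rc_18_1 lc_e_rc_16_1 lc_e_rc_27_1 lc_e_rc_18_1 lc_e_rc_27_5 lc_e_rc_19_2 lc_e_rc_16_3 lc_e_rc_27_1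 lc_e_rc_27_5 lc_e_rc_18_1 lc_e_Cert_tree lc_e_rc_18_1 lc_e_rc_4_3 lc_e_rc_9_1 lc_e_rc_18_1 lc_e_rc_13_3 lc_e_rc_27_5 lc_e_rc_16_1 lc_e_rc_27_1 lc_e_Cert_tree lc_e_rc_18_1 lc_e_rc_27_1 lc_e_rc_18_1 lc_e_rc_27_1 lc_e_Cert_tree lc_e_rc_18_1 lc_e_rc_27_1 lc_e_rc_16_5 lc_e_rc_4_3 lc_e_rc_13_3 lc_e_rc_18_1 lc_e_rc_9_3 lc_e_rc_18_1 lc_e_rc_27_7 lc_e_rc_9_3 lc_e_rc_27_5 lc_e_rc_4_3 lc_e_rc_4_1 lc_e_rc_9_3 lc_e_rc_9_3 lc_e_rc_18_1 lc_e_rc_13_3 lc_e_Cert_tree lc_e_rc_18_1 lc_e_rc_18_1 lc_e_rc_16_3 lc_e_rc_9_3 lc_e_rc_27_7 lc_e_rc_9_3 lc_e_Cert_tree lc_e_rc_16_3 lc_e_rc_13_3 lc_e_rc_27_7) (@D3.rec (fun _ => (Cert rels S Gen.e)) lc_e_rc_18_1 lc_e_rc_9_1 lc_e_Cert_tree lc_e_rc_16_1 lc_e_rc_18_1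 lc_e_rc_13_3 lc_e_rc_27_1 lc_e_rc_9_3 lc_e_rc_18_1 lc_e_rc_13_3 lc_e_rc_27_5 lc_e_rc_9_1 lc_e_Cert_tree lc_e_rc_27_5 lc_e_rc_27_7 lc_e_Cert_tree lc_e_rc_18_1 lc_e_rc_27_1 lc_e_rc_16_5 lc_e_rc_27_5 lc_e_rc_18_1 lc_e_rc_9_3 lc_e_rc_27_5 lc_e_rc_27_1 lc_e_rc_13_3 lc_e_Cert_tree lc_e_Cert_tree lc_e_rc_18_1 lc_e_rc_18_1 lc_e_rc_13_3 lc_e_rc_19_4 lc_e_rc_18_1 lc_e_rc_27_5 lc_e_rc_27_5 lc_e_rc_18_1 lc_e_rc_16_1 lc_e_rc_19_4 lc_e_rc_13_3 lc_e_rc_18_1 lc_e_rc_9_1 lc_e_rc_16_3 lc_e_rc_27_5 lc_e_rc_18_1 lc_e_rc_27_5 lc_e_rc_18_1 lc_e_rc_9_1 lc_e_rc_27_5 lc_e_rc_13_3 lc_e_rc_4_3 lc_e_rc_18_1 lc_e_rc_16_5 lc_e_rc_18_1 lc_e_rc_9_3 lc_e_rc_27_7 lc_e_rc_18_1 lc_e_rc_13_3 lc_e_rc_4_3 lc_e_rc_27_1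 lc_e_rc_9_3 lc_e_rc_18_1 lc_e_rc_9_3 lc_e_rc_18_1) (@D3.rec (fun _ => (Cert rels S Gen.e)) lc_e_Cert_tree lc_e_rc_27_5 lc_e_rc_27_1 lc_e_rc_16_3 lc_e_rc_27_5 lc_e_rc_18_1 lc_e_rc_18_1 lc_e_rc_27_1 lc_e_rc_9_3 lc_e_rc_13_3 lc_e_rc_19_2 lc_e_rc_18_1 lc_e_rc_13_3 lc_e_rc_16_3 lc_e_Cert_tree lc_e_rc_18_1 lc_e_Cert_tree lc_e_rc_18_1 lc_e_rc_18_1 lc_e_rc_16_1 lc_e_rc_19_2 lc_e_rc_13_3 lc_e_rc_16_1 lc_e_rc_27_5 lc_e_rc_9_3 lc_e_rc_13_1 lc_e_rc_27_7 lc_e_rc_18_1 lc_e_rc_18_1 lc_e_rc_4_3 lc_e_rc_13_3 lc_e_rc_13_3 lc_e_rc_27_1 lc_e_rc_4_1 lc_e_rc_19_4 lc_e_rc_13_3 lc_e_rc_13_1 lc_e_rc_18_1 lc_e_rc_4_3 lc_e_Cert_tree lc_e_rc_16_5 lc_e_rc_16_5 lc_e_rc_18_1 lc_e_rc_18_1 lc_e_rc_16_1 lc_e_Cert_tree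 lc_e_rc_27_5 lc_e_rc_18_1 lc_e_rc_27_1 lc_e_rc_18_1 lc_e_rc_13_3 lc_e_rc_18_1 lc_e_rc_13_3 lc_e_rc_16_3 lc_e_rc_19_4 lc_e_rc_18_1 lc_e_rc_9_3 lc_e_Cert_tree lc_e_rc_9_3 lc_e_rc_4_3 lc_e_rc_9_3 lc_e_rc_18_1) (@D3.rec (fun _ => (Cert rels S Gen.e)) lc_e_rc_16_1 lc_e_rc_27_5 lc_e_rc_9_3 lc_e_rc_9_3 lc_e_rc_9_3 lc_e_Cert_tree lc_e_rc_18_1 lc_e_rc_18_1 lc_e_rc_27_1 lc_e_rc_4_1 lc_e_Cert_tree lc_e_rc_18_1 lc_e_rc_27_1 lc_e_rc_18_1 lc_e_rc_16_3 lc_e_rc_9_3 lc_e_Cert_tree lc_e_rc_13_1 lc_e_rc_18_1 lc_e_Cert_tree lc_e_rc_18_1 lc_e_Cert_tree lc_e_rc_18_1 lc_e_rc_18_1 lc_e_rc_27_5 lc_e_rc_27_5 lc_e_rc_18_1 lc_e_rc_19_4 lc_e_Cert_tree lc_e_rc_4_3 lc_e_rc_18_1 lc_e_Cert_tree lc_e_rc_4_1 lc_e_rc_18_1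 lc_e_rc_27_7 lc_e_rc_27_5 lc_e_Cert_tree lc_e_rc_4_1 lc_e_rc_16_3 lc_e_rc_18_1 lc_e_rc_18_1 lc_e_rc_19_2 lc_e_Cert_tree lc_e_rc_9_3 lc_e_rc_18_1 lc_e_rc_9_3 lc_e_rc_18_1 lc_e_rc_13_3 lc_e_rc_27_5 lc_e_rc_19_4 lc_e_rc_19_4 lc_e_rc_18_1 lc_e_rc_27_7 lc_e_rc_18_1 lc_e_Cert_tree lc_e_Cert_tree lc_e_rc_27_1 lc_e_rc_18_1 lc_e_rc_16_1 lc_e_rc_4_3 lc_e_Cert_tree lc_e_rc_27_5) (@D3.rec (fun _ => (Cert rels S Gen.e)) lc_e_rc_18_1 lc_e_rc_13_1 lc_e_Cert_tree lc_e_Cert_tree lc_e_rc_9_3 lc_e_rc_18_1 lc_e_rc_13_3 lc_e_rc_18_1 lc_e_rc_9_1 lc_e_rc_13_1 lc_e_rc_18_1 lc_e_rc_27_5 lc_e_rc_19_2 lc_e_rc_18_1 lc_e_rc_16_3 lc_e_rc_9_1 lc_e_rc_16_1 lc_e_rc_4_3 lc_e_Cert_tree lc_e_rc_18_1 lc_e_rc_19_4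 lc_e_rc_18_1 lc_e_rc_4_1 lc_e_Cert_tree lc_e_Cert_tree lc_e_rc_13_1 lc_e_rc_18_1 lc_e_rc_16_1 lc_e_rc_19_4 lc_e_rc_18_1 lc_e_rc_4_3 lc_e_rc_19_4 lc_e_rc_9_3 lc_e_rc_16_5 lc_e_rc_4_1 lc_e_rc_18_1 lc_e_rc_16_3 lc_e_rc_18_1 lc_e_rc_18_1 lc_e_rc_19_2 lc_e_rc_18_1 lc_e_rc_13_1 lc_e_Cert_tree lc_e_Cert_tree lc_e_rc_16_5 lc_e_Cert_tree lc_e_rc_18_1 lc_e_rc_13_3 lc_e_rc_9_1 lc_e_rc_4_3 lc_e_Cert_tree lc_e_rc_18_1 lc_e_rc_13_3 lc_e_rc_27_1 lc_e_rc_18_1 lc_e_rc_4_3 lc_e_rc_18_1 lc_e_rc_9_3 lc_e_rc_27_5 lc_e_rc_27_5 lc_e_rc_27_5 lc_e_Cert_tree) (@D3.rec (fun _ => (Cert rels S Gen.e)) lc_e_Cert_tree lc_e_rc_9_1 lc_e_rc_18_1 lc_e_rc_18_1 lc_e_rc_16_3 lc_e_rc_16_5 lc_e_rc_4_3 lc_e_rc_13_3 lc_e_rc_13_1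 lc_e_rc_4_3 lc_e_Cert_tree lc_e_rc_19_4 lc_e_Cert_tree lc_e_rc_18_1 lc_e_rc_18_1 lc_e_rc_19_2 lc_e_Cert_tree lc_e_Cert_tree lc_e_rc_16_5 lc_e_Cert_tree lc_e_rc_18_1 lc_e_rc_16_1 lc_e_Cert_tree lc_e_Cert_tree lc_e_rc_9_3 lc_e_rc_18_1 lc_e_rc_27_1 lc_e_rc_9_3 lc_e_Cert_tree lc_e_rc_18_1 lc_e_rc_9_1 lc_e_rc_18_1 lc_e_rc_27_5 lc_e_Cert_tree lc_e_rc_9_3 lc_e_rc_18_1 lc_e_rc_13_3 lc_e_rc_27_1 lc_e_rc_16_5 lc_e_Cert_tree lc_e_rc_18_1 lc_e_Cert_tree lc_e_rc_18_1 lc_e_rc_9_3 lc_e_Cert_tree lc_e_Cert_tree lc_e_Cert_tree lc_e_rc_18_1 lc_e_rc_27_5 lc_e_rc_9_3 lc_e_rc_27_5 lc_e_rc_13_3 lc_e_Cert_tree lc_e_Cert_tree lc_e_rc_18_1 lc_e_rc_27_5 lc_e_Cert_tree lc_e_rc_18_1 lc_e_Cert_tree lc_e_rc_18_1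 lc_e_Cert_tree lc_e_rc_19_4) (@D3.rec (fun _ => (Cert rels S Gen.e)) lc_e_Cert_tree lc_e_rc_18_1 lc_e_rc_18_1 lc_e_rc_13_3 lc_e_rc_16_1 lc_e_rc_19_4 lc_e_rc_27_7 lc_e_Cert_tree lc_e_rc_19_4 lc_e_rc_9_3 lc_e_rc_9_3 lc_e_rc_13_3 lc_e_rc_13_3 lc_e_rc_13_3 lc_e_rc_9_3 lc_e_rc_27_5 lc_e_rc_4_3 lc_e_rc_19_4 lc_e_rc_18_1 lc_e_Cert_tree lc_e_rc_18_1 lc_e_rc_16_3 lc_e_Cert_tree lc_e_rc_16_5 lc_e_rc_18_1 lc_e_rc_4_3 lc_e_rc_9_3 lc_e_rc_4_3 lc_e_Cert_tree lc_e_rc_27_5 lc_e_rc_13_1 lc_e_Cert_tree lc_e_rc_18_1 lc_e_Cert_tree lc_e_rc_18_1 lc_e_rc_13_1 lc_e_rc_18_1 lc_e_rc_18_1 lc_e_rc_18_1 lc_e_rc_4_3 lc_e_rc_4_3 lc_e_rc_27_5 lc_e_rc_18_1 lc_e_rc_19_4 lc_e_Cert_tree lc_e_rc_9_3 lc_e_Cert_tree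 lc_e_rc_18_1 lc_e_Cert_tree lc_e_Cert_tree lc_e_rc_9_3 lc_e_rc_13_3 lc_e_rc_18_1 lc_e_rc_9_3 lc_e_rc_27_5 lc_e_Cert_tree lc_e_rc_18_1 lc_e_rc_9_3 lc_e_rc_13_3 lc_e_rc_27_5 lc_e_rc_4_3 lc_e_rc_18_1) (@D3.rec (fun _ => (Cert rels S Gen.e)) lc_e_Cert_tree lc_e_Cert_tree lc_e_rc_13_1 lc_e_rc_16_5 lc_e_Cert_tree lc_e_Cert_tree lc_e_rc_18_1 lc_e_rc_9_3 lc_e_Cert_tree lc_e_Cert_tree lc_e_rc_27_1 lc_e_rc_18_1 lc_e_Cert_tree lc_e_rc_18_1 lc_e_rc_4_1 lc_e_rc_16_3 lc_e_rc_18_1 lc_e_rc_19_4 lc_e_rc_18_1 lc_e_rc_13_3 lc_e_rc_19_4 lc_e_rc_18_1 lc_e_rc_19_4 lc_e_rc_13_3 lc_e_Cert_tree lc_e_rc_9_3 lc_e_rc_18_1 lc_e_Cert_tree lc_e_Cert_tree lc_e_rc_18_1 lc_e_rc_13_1 lc_e_Cert_tree lc_e_rc_18_1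 lc_e_rc_27_7 lc_e_Cert_tree lc_e_rc_13_3 lc_e_Cert_tree lc_e_rc_16_5 lc_e_Cert_tree lc_e_rc_18_1 lc_e_rc_16_3 lc_e_rc_27_7 lc_e_rc_27_5 lc_e_rc_18_1 lc_e_rc_4_1 lc_e_rc_18_1 lc_e_Cert_tree lc_e_rc_18_1 lc_e_Cert_tree lc_e_Cert_tree lc_e_rc_18_1 lc_e_rc_9_3 lc_e_rc_13_3 lc_e_rc_18_1 lc_e_rc_27_5 lc_e_rc_16_3 lc_e_rc_13_1 lc_e_Cert_tree lc_e_rc_13_1 lc_e_rc_27_1 lc_e_rc_18_1 lc_e_rc_19_4) (@D3.rec (fun _ => (Cert rels S Gen.e)) lc_e_rc_13_3 lc_e_rc_9_1 lc_e_Cert_tree lc_e_rc_18_1 lc_e_rc_27_5 lc_e_rc_18_1 lc_e_rc_27_7 lc_e_rc_18_1 lc_e_rc_18_1 lc_e_rc_27_5 lc_e_Cert_tree lc_e_rc_27_5 lc_e_rc_16_1 lc_e_rc_19_4 lc_e_rc_16_3 lc_e_Cert_tree lc_e_rc_27_7 lc_e_rc_19_4 lc_e_rc_27_1 lc_e_rc_27_5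 lc_e_rc_9_3 lc_e_rc_19_4 lc_e_Cert_tree lc_e_rc_13_3 lc_e_rc_18_1 lc_e_rc_27_1 lc_e_rc_13_3 lc_e_rc_9_3 lc_e_rc_4_3 lc_e_rc_13_3 lc_e_rc_27_7 lc_e_rc_16_1 lc_e_Cert_tree lc_e_rc_18_1 lc_e_Cert_tree lc_e_rc_16_5 lc_e_rc_18_1 lc_e_rc_27_7 lc_e_rc_27_7 lc_e_rc_27_5 lc_e_rc_16_3 lc_e_rc_9_3 lc_e_rc_13_3 lc_e_rc_27_5 lc_e_rc_18_1 lc_e_rc_4_3 lc_e_rc_16_3 lc_e_rc_9_3 lc_e_rc_9_1 lc_e_rc_16_3 lc_e_rc_9_3 lc_e_rc_13_1 lc_e_Cert_tree lc_e_Cert_tree lc_e_rc_4_3 lc_e_rc_16_5 lc_e_Cert_tree lc_e_rc_16_5 lc_e_rc_27_7 lc_e_Cert_tree lc_e_rc_13_3 lc_e_rc_16_1) (@D3.rec (fun _ => (Cert rels S Gen.e)) lc_e_rc_18_1 lc_e_rc_13_3 lc_e_rc_27_5 lc_e_rc_19_4 lc_e_rc_19_2 lc_e_rc_18_1 lc_e_rc_27_5 lc_e_Cert_tree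 lc_e_rc_18_1 lc_e_Cert_tree lc_e_rc_18_1 lc_e_Cert_tree lc_e_rc_18_1 lc_e_rc_16_1 lc_e_rc_18_1 lc_e_rc_4_3 lc_e_rc_18_1 lc_e_rc_9_3 lc_e_Cert_tree lc_e_rc_9_3 lc_e_rc_18_1 lc_e_rc_4_3 lc_e_rc_16_1 lc_e_rc_19_2 lc_e_rc_13_3 lc_e_Cert_tree lc_e_rc_27_7 lc_e_rc_18_1 lc_e_rc_13_1 lc_e_rc_16_5 lc_e_rc_4_3 lc_e_rc_13_3 lc_e_Cert_tree lc_e_rc_4_1 lc_e_rc_19_4 lc_e_Cert_tree lc_e_rc_18_1 lc_e_Cert_tree lc_e_rc_18_1 lc_e_Cert_tree lc_e_rc_16_1 lc_e_rc_19_4 lc_e_rc_4_3 lc_e_Cert_tree lc_e_Cert_tree lc_e_rc_18_1 lc_e_Cert_tree lc_e_Cert_tree lc_e_rc_18_1 lc_e_Cert_tree lc_e_rc_16_1 lc_e_rc_4_3 lc_e_Cert_tree lc_e_rc_27_5 lc_e_rc_18_1 lc_e_rc_13_1 lc_e_rc_18_1 lc_e_rc_16_3 lc_e_rc_13_3 lc_e_rc_27_1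 lc_e_rc_18_1 lc_e_rc_18_1) (@D3.rec (fun _ => (Cert rels S Gen.e)) lc_e_rc_18_1 lc_e_rc_16_1 lc_e_rc_19_4 lc_e_rc_13_1 lc_e_rc_16_1 lc_e_rc_19_4 lc_e_rc_13_3 lc_e_rc_18_1 lc_e_Cert_tree lc_e_rc_27_1 lc_e_Cert_tree lc_e_rc_18_1 lc_e_rc_16_3 lc_e_rc_18_1 lc_e_rc_18_1 lc_e_rc_16_1 lc_e_rc_16_5 lc_e_rc_18_1 lc_e_rc_27_5 lc_e_Cert_tree lc_e_rc_18_1 lc_e_rc_16_3 lc_e_rc_19_2 lc_e_rc_18_1 lc_e_rc_27_5 lc_e_rc_18_1 lc_e_rc_13_3 lc_e_rc_18_1 lc_e_Cert_tree lc_e_rc_18_1 lc_e_rc_27_5 lc_e_rc_9_3 lc_e_rc_27_1 lc_e_rc_13_3 lc_e_rc_9_3 lc_e_rc_16_5 lc_e_Cert_tree lc_e_rc_18_1 lc_e_Cert_tree lc_e_rc_18_1 lc_e_rc_13_3 lc_e_rc_13_3 lc_e_rc_16_1 lc_e_rc_9_1 lc_e_rc_27_5 lc_e_rc_16_5 lc_e_rc_16_1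 lc_e_rc_19_2 lc_e_rc_13_1 lc_e_rc_13_1 lc_e_rc_18_1 lc_e_rc_27_1 lc_e_rc_4_3 lc_e_Cert_tree lc_e_rc_4_3 lc_e_rc_18_1 lc_e_rc_19_4 lc_e_rc_9_3 lc_e_rc_16_5 lc_e_Cert_tree lc_e_rc_27_1 lc_e_rc_18_1) (@D3.rec (fun _ => (Cert rels S Gen.e)) lc_e_rc_4_3 lc_e_rc_27_1 lc_e_Cert_tree lc_e_rc_18_1 lc_e_rc_13_1 lc_e_rc_27_5 lc_e_rc_18_1 lc_e_Cert_tree lc_e_rc_13_3 lc_e_rc_16_1 lc_e_rc_19_4 lc_e_Cert_tree lc_e_rc_27_5 lc_e_rc_16_1 lc_e_rc_19_4 lc_e_rc_9_3 lc_e_rc_19_4 lc_e_rc_9_3 lc_e_rc_27_7 lc_e_Cert_tree lc_e_rc_27_5 lc_e_rc_4_3 lc_e_rc_18_1 lc_e_Cert_tree lc_e_rc_13_1 lc_e_rc_9_3 lc_e_rc_16_5 lc_e_rc_13_1 lc_e_rc_9_3 lc_e_rc_16_5 lc_e_rc_19_4 lc_e_rc_27_5 lc_e_rc_9_3 lc_e_rc_27_7 lc_e_rc_16_5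 lc_e_rc_18_1 lc_e_rc_27_5 lc_e_Cert_tree lc_e_rc_16_1 lc_e_rc_19_4 lc_e_rc_19_4 lc_e_rc_13_3 lc_e_rc_27_7 lc_e_rc_9_3 lc_e_rc_16_5 lc_e_rc_4_3 lc_e_Cert_tree lc_e_rc_9_1 lc_e_rc_18_1 lc_e_Cert_tree lc_e_rc_18_1 lc_e_rc_16_5 lc_e_rc_9_3 lc_e_rc_18_1 lc_e_rc_27_5 lc_e_rc_18_1 lc_e_rc_13_1 lc_e_rc_19_4 lc_e_rc_18_1 lc_e_rc_16_1 lc_e_rc_19_4 lc_e_rc_16_5)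
def ce_e_19 : D2 → D3 → (Cert rels S Gen.e) := @D2.rec (fun _ => D3 → (Cert rels S Gen.e)) (@D3.rec (fun _ => (Cert rels S Gen.e)) lc_e_rc_27_5 lc_e_rc_19_0 lc_e_rc_18_1 lc_e_rc_27_1 lc_e_rc_18_1 lc_e_rc_4_3 lc_e_rc_16_3 lc_e_rc_19_4 lc_e_rc_27_1 lc_e_Cert_tree lc_e_rc_9_3 lc_e_rc_18_1 lc_e_rc_18_1 lc_e_rc_4_1 lc_e_rc_19_4 lc_e_rc_18_1 lc_e_rc_27_5 lc_e_rc_27_1 lc_e_rc_16_3 lc_e_rc_19_4 lc_e_rc_13_3 lc_e_rc_9_3 lc_e_rc_18_1 lc_e_rc_16_3 lc_e_rc_19_4 lc_e_rc_18_1 lc_e_Cert_tree lc_e_rc_16_3 lc_e_rc_13_3 lc_e_Cert_tree lc_e_rc_18_1 lc_e_Cert_tree lc_e_rc_18_1 lc_e_rc_27_5 lc_e_rc_18_1 lc_e_rc_27_1 lc_e_Cert_tree lc_e_rc_9_3 lc_e_rc_18_1 lc_e_Cert_tree lc_e_Cert_tree lc_e_rc_18_1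 lc_e_rc_16_3 lc_e_rc_13_3 lc_e_rc_18_1 lc_e_rc_27_5 lc_e_Cert_tree lc_e_rc_19_2 lc_e_rc_16_5 lc_e_rc_19_0 lc_e_Cert_tree lc_e_rc_18_1 lc_e_Cert_tree lc_e_rc_9_3 lc_e_Cert_tree lc_e_rc_18_1 lc_e_rc_16_1 lc_e_rc_16_1 lc_e_rc_9_3 lc_e_Cert_tree lc_e_rc_27_1 lc_e_Cert_tree) (@D3.rec (fun _ => (Cert rels S Gen.e)) lc_e_rc_18_1 lc_e_rc_27_5 lc_e_rc_13_3 lc_e_rc_18_1 lc_e_rc_13_3 lc_e_rc_13_3 lc_e_rc_9_3 lc_e_Cert_tree lc_e_rc_27_1 lc_e_rc_18_1 lc_e_rc_9_3 lc_e_rc_18_1 lc_e_rc_18_1 lc_e_rc_9_3 lc_e_Cert_tree lc_e_rc_18_1 lc_e_Cert_tree lc_e_rc_18_1 lc_e_rc_27_5 lc_e_rc_13_3 lc_e_rc_4_1 lc_e_rc_19_4 lc_e_rc_27_7 lc_e_rc_16_5 lc_e_rc_16_1 lc_e_rc_19_4 lc_e_rc_9_1 lc_e_rc_27_5 lc_e_rc_18_1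 lc_e_rc_16_5 lc_e_rc_27_7 lc_e_rc_9_3 lc_e_Cert_tree lc_e_Cert_tree lc_e_rc_27_5 lc_e_rc_16_3 lc_e_rc_19_4 lc_e_rc_18_1 lc_e_rc_16_1 lc_e_rc_19_4 lc_e_rc_27_7 lc_e_rc_13_3 lc_e_rc_27_7 lc_e_rc_16_5 lc_e_rc_18_1 lc_e_rc_18_1 lc_e_rc_13_3 lc_e_rc_27_5 lc_e_rc_4_3 lc_e_rc_16_1 lc_e_rc_19_4 lc_e_rc_13_1 lc_e_rc_4_3 lc_e_rc_18_1 lc_e_rc_16_5 lc_e_rc_19_4 lc_e_rc_18_1 lc_e_rc_13_3 lc_e_rc_16_5 lc_e_rc_19_4 lc_e_rc_18_1 lc_e_rc_9_3) (@D3.rec (fun _ => (Cert rels S Gen.e)) lc_e_rc_9_3 lc_e_rc_18_1 lc_e_rc_27_7 lc_e_rc_16_1 lc_e_rc_9_3 lc_e_rc_18_1 lc_e_Cert_tree lc_e_rc_18_1 lc_e_rc_18_1 lc_e_Cert_tree lc_e_rc_18_1 lc_e_rc_18_1 lc_e_rc_16_1 lc_e_rc_19_2 lc_e_rc_19_2 lc_e_rc_18_1 lc_e_rc_18_1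 lc_e_rc_27_7 lc_e_rc_19_4 lc_e_rc_18_1 lc_e_rc_16_3 lc_e_rc_18_1 lc_e_rc_18_1 lc_e_Cert_tree lc_e_rc_16_3 lc_e_rc_4_3 lc_e_rc_13_3 lc_e_rc_27_1 lc_e_Cert_tree lc_e_rc_18_1 lc_e_rc_13_3 lc_e_rc_16_5 lc_e_rc_18_1 lc_e_rc_9_3 lc_e_rc_18_1 lc_e_rc_16_3 lc_e_rc_4_3 lc_e_rc_9_3 lc_e_rc_18_1 lc_e_rc_27_5 lc_e_rc_18_1 lc_e_rc_18_1 lc_e_rc_27_7 lc_e_Cert_tree lc_e_rc_13_3 lc_e_rc_19_4 lc_e_rc_13_3 lc_e_rc_16_5 lc_e_rc_27_5 lc_e_Cert_tree lc_e_Cert_tree lc_e_rc_18_1 lc_e_rc_18_1 lc_e_rc_16_1 lc_e_rc_19_4 lc_e_rc_4_3 lc_e_rc_9_3 lc_e_Cert_tree lc_e_rc_27_1 lc_e_rc_18_1 lc_e_rc_18_1 lc_e_rc_16_1) (@D3.rec (fun _ => (Cert rels S Gen.e)) lc_e_rc_19_4 lc_e_rc_16_5 lc_e_rc_27_5 lc_e_rc_13_1 lc_e_Cert_tree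 lc_e_rc_18_1 lc_e_Cert_tree lc_e_rc_13_3 lc_e_Cert_tree lc_e_rc_18_1 lc_e_rc_19_0 lc_e_rc_18_1 lc_e_rc_18_1 lc_e_rc_19_2 lc_e_rc_9_1 lc_e_rc_18_1 lc_e_rc_19_4 lc_e_rc_18_1 lc_e_rc_18_1 lc_e_Cert_tree lc_e_rc_13_1 lc_e_rc_27_1 lc_e_rc_27_5 lc_e_rc_9_3 lc_e_rc_27_1 lc_e_rc_16_5 lc_e_rc_4_3 lc_e_rc_4_1 lc_e_rc_19_4 lc_e_Cert_tree lc_e_rc_18_1 lc_e_rc_27_5 lc_e_rc_27_5 lc_e_Cert_tree lc_e_Cert_tree lc_e_Cert_tree lc_e_rc_18_1 lc_e_rc_16_3 lc_e_rc_27_1 lc_e_rc_18_1 lc_e_rc_13_3 lc_e_Cert_tree lc_e_rc_4_3 lc_e_rc_19_4 lc_e_rc_9_1 lc_e_rc_18_1 lc_e_rc_13_3 lc_e_rc_18_1 lc_e_rc_27_5 lc_e_rc_16_1 lc_e_rc_9_3 lc_e_rc_16_5 lc_e_rc_19_4 lc_e_rc_16_5 lc_e_Cert_tree lc_e_rc_16_3 lc_e_rc_13_3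 lc_e_Cert_tree lc_e_rc_16_5 lc_e_rc_27_5 lc_e_rc_19_4 lc_e_rc_9_3) (@D3.rec (fun _ => (Cert rels S Gen.e)) lc_e_rc_18_1 lc_e_Cert_tree lc_e_rc_18_1 lc_e_rc_18_1 lc_e_rc_4_3 lc_e_rc_27_5 lc_e_rc_18_1 lc_e_Cert_tree lc_e_rc_13_3 lc_e_rc_16_1 lc_e_rc_18_1 lc_e_rc_27_1 lc_e_rc_16_1 lc_e_rc_19_4 lc_e_rc_16_5 lc_e_rc_27_7 lc_e_rc_9_3 lc_e_Cert_tree lc_e_rc_16_3 lc_e_rc_13_3 lc_e_Cert_tree lc_e_rc_9_3 lc_e_rc_27_7 lc_e_rc_27_7 lc_e_Cert_tree lc_e_rc_18_1 lc_e_rc_13_3 lc_e_rc_4_3 lc_e_rc_9_1 lc_e_rc_19_4 lc_e_rc_19_4 lc_e_rc_18_1 lc_e_rc_16_1 lc_e_Cert_tree lc_e_rc_18_1 lc_e_rc_18_1 lc_e_rc_18_1 lc_e_rc_9_3 lc_e_rc_18_1 lc_e_rc_16_5 lc_e_rc_18_1 lc_e_rc_19_4 lc_e_Cert_tree lc_e_rc_18_1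 lc_e_rc_9_3 lc_e_rc_27_1 lc_e_rc_18_1 lc_e_Cert_tree lc_e_rc_27_5 lc_e_rc_18_1 lc_e_rc_9_3 lc_e_Cert_tree lc_e_rc_4_1 lc_e_rc_18_1 lc_e_Cert_tree lc_e_Cert_tree lc_e_rc_13_1 lc_e_rc_18_1 lc_e_Cert_tree lc_e_rc_4_1 lc_e_rc_16_1 lc_e_rc_27_5) (@D3.rec (fun _ => (Cert rels S Gen.e)) lc_e_rc_13_3 lc_e_rc_16_1 lc_e_rc_18_1 lc_e_rc_4_1 lc_e_rc_16_3 lc_e_rc_18_1 lc_e_rc_13_3 lc_e_rc_18_1 lc_e_rc_18_1 lc_e_rc_13_3 lc_e_rc_9_3 lc_e_rc_13_3 lc_e_rc_9_1 lc_e_rc_13_1 lc_e_rc_18_1 lc_e_Cert_tree lc_e_rc_27_5 lc_e_rc_18_1 lc_e_rc_16_3 lc_e_rc_27_5 lc_e_rc_27_7 lc_e_rc_18_1 lc_e_rc_18_1 lc_e_rc_16_3 lc_e_rc_19_4 lc_e_rc_9_3 lc_e_rc_13_3 lc_e_rc_27_5 lc_e_Cert_tree lc_e_rc_18_1 lc_e_rc_27_5 lc_e_rc_18_1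 lc_e_rc_13_3 lc_e_rc_9_1 lc_e_rc_18_1 lc_e_rc_27_5 lc_e_rc_18_1 lc_e_rc_18_1 lc_e_rc_16_5 lc_e_Cert_tree lc_e_rc_18_1 lc_e_rc_4_1 lc_e_Cert_tree lc_e_rc_27_7 lc_e_rc_19_4 lc_e_rc_27_5 lc_e_rc_18_1 lc_e_rc_16_1 lc_e_rc_18_1 lc_e_rc_9_1 lc_e_rc_27_1 lc_e_rc_13_3 lc_e_rc_18_1 lc_e_rc_19_0 lc_e_rc_13_3 lc_e_rc_18_1 lc_e_rc_16_3 lc_e_rc_9_3 lc_e_Cert_tree lc_e_rc_18_1 lc_e_rc_9_3 lc_e_rc_19_4) (@D3.rec (fun _ => (Cert rels S Gen.e)) lc_e_rc_4_3 lc_e_rc_18_1 lc_e_Cert_tree lc_e_rc_16_3 lc_e_Cert_tree lc_e_rc_4_3 lc_e_rc_18_1 lc_e_Cert_tree lc_e_rc_18_1 lc_e_Cert_tree lc_e_rc_18_1 lc_e_rc_27_5 lc_e_rc_16_5 lc_e_Cert_tree lc_e_rc_4_3 lc_e_rc_4_3 lc_e_rc_18_1 lc_e_rc_27_7 lc_e_Cert_tree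 lc_e_Cert_tree lc_e_rc_18_1 lc_e_rc_18_1 lc_e_rc_16_1 lc_e_rc_27_7 lc_e_rc_18_1 lc_e_rc_18_1 lc_e_rc_9_3 lc_e_rc_19_4 lc_e_rc_9_3 lc_e_rc_18_1 lc_e_Cert_tree lc_e_rc_16_3 lc_e_rc_27_1 lc_e_rc_18_1 lc_e_Cert_tree lc_e_Cert_tree lc_e_rc_27_5 lc_e_rc_18_1 lc_e_rc_16_3 lc_e_rc_13_3 lc_e_rc_9_3 lc_e_rc_13_1 lc_e_Cert_tree lc_e_Cert_tree lc_e_rc_19_4 lc_e_Cert_tree lc_e_rc_9_1 lc_e_rc_27_5 lc_e_rc_18_1 lc_e_rc_16_1 lc_e_rc_16_5 lc_e_rc_4_1 lc_e_rc_27_5 lc_e_rc_18_1 lc_e_rc_18_1 lc_e_rc_4_3 lc_e_rc_13_1 lc_e_rc_19_2 lc_e_rc_18_1 lc_e_rc_16_3 lc_e_Cert_tree lc_e_Cert_tree) (@D3.rec (fun _ => (Cert rels S Gen.e)) lc_e_rc_18_1 lc_e_rc_18_1 lc_e_rc_9_3 lc_e_Cert_tree lc_e_rc_13_1 lc_e_rc_16_3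 lc_e_rc_18_1 lc_e_Cert_tree lc_e_rc_19_0 lc_e_Cert_tree lc_e_rc_18_1 lc_e_rc_16_5 lc_e_rc_27_1 lc_e_rc_27_5 lc_e_rc_27_5 lc_e_rc_9_3 lc_e_Cert_tree lc_e_rc_18_1 lc_e_rc_9_3 lc_e_Cert_tree lc_e_rc_18_1 lc_e_rc_16_1 lc_e_rc_13_1 lc_e_rc_18_1 lc_e_Cert_tree lc_e_rc_18_1 lc_e_rc_27_5 lc_e_Cert_tree lc_e_rc_16_1 lc_e_rc_13_3 lc_e_rc_9_3 lc_e_Cert_tree lc_e_rc_16_3 lc_e_Cert_tree lc_e_rc_13_3 lc_e_rc_9_3 lc_e_Cert_tree lc_e_Cert_tree lc_e_rc_18_1 lc_e_rc_18_1 lc_e_rc_13_1 lc_e_rc_27_1 lc_e_rc_13_1 lc_e_rc_18_1 lc_e_rc_18_1 lc_e_Cert_tree lc_e_Cert_tree lc_e_rc_13_1 lc_e_rc_18_1 lc_e_Cert_tree lc_e_rc_13_3 lc_e_rc_9_3 lc_e_rc_16_5 lc_e_rc_18_1 lc_e_rc_9_3 lc_e_rc_9_3 lc_e_rc_18_1 lc_e_rc_13_3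 lc_e_rc_18_1 lc_e_Cert_tree lc_e_rc_18_1 lc_e_rc_4_3) (@D3.rec (fun _ => (Cert rels S Gen.e)) lc_e_rc_13_3 lc_e_rc_16_1 lc_e_rc_19_4 lc_e_rc_27_5 lc_e_rc_18_1 lc_e_Cert_tree lc_e_rc_18_1 lc_e_Cert_tree lc_e_rc_18_1 lc_e_rc_16_1 lc_e_rc_19_2 lc_e_rc_18_1 lc_e_rc_16_3 lc_e_Cert_tree lc_e_Cert_tree lc_e_rc_18_1 lc_e_Cert_tree lc_e_rc_13_1 lc_e_Cert_tree lc_e_rc_16_3 lc_e_rc_4_3 lc_e_Cert_tree lc_e_rc_27_7 lc_e_rc_18_1 lc_e_rc_9_3 lc_e_rc_9_3 lc_e_rc_13_3 lc_e_rc_16_3 lc_e_rc_18_1 lc_e_rc_13_1 lc_e_rc_27_5 lc_e_rc_18_1 lc_e_rc_18_1 lc_e_rc_18_1 lc_e_rc_18_1 lc_e_rc_27_1 lc_e_rc_4_3 lc_e_rc_16_1 lc_e_rc_9_3 lc_e_rc_19_0 lc_e_rc_18_1 lc_e_rc_18_1 lc_e_rc_13_3 lc_e_Cert_tree lc_e_rc_27_7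 lc_e_rc_18_1 lc_e_rc_9_3 lc_e_rc_27_7 lc_e_rc_9_3 lc_e_rc_13_3 lc_e_rc_18_1 lc_e_rc_9_3 lc_e_rc_9_3 lc_e_Cert_tree lc_e_rc_13_3 lc_e_rc_18_1 lc_e_rc_27_7 lc_e_rc_18_1 lc_e_rc_4_3 lc_e_rc_18_1 lc_e_rc_9_3 lc_e_rc_4_1) (@D3.rec (fun _ => (Cert rels S Gen.e)) lc_e_rc_19_4 lc_e_rc_18_1 lc_e_rc_18_1 lc_e_rc_16_1 lc_e_rc_19_4 lc_e_Cert_tree lc_e_rc_13_1 lc_e_Cert_tree lc_e_rc_16_5 lc_e_Cert_tree lc_e_Cert_tree lc_e_Cert_tree lc_e_rc_27_7 lc_e_rc_18_1 lc_e_rc_13_3 lc_e_rc_18_1 lc_e_rc_27_1 lc_e_Cert_tree lc_e_rc_4_3 lc_e_rc_18_1 lc_e_Cert_tree lc_e_rc_18_1 lc_e_rc_16_1 lc_e_rc_19_4 lc_e_rc_18_1 lc_e_rc_9_3 lc_e_rc_16_1 lc_e_rc_19_4 lc_e_rc_13_3 lc_e_Cert_tree lc_e_rc_4_1 lc_e_rc_18_1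 lc_e_Cert_tree lc_e_rc_13_3 lc_e_rc_18_1 lc_e_rc_18_1 lc_e_Cert_tree lc_e_rc_18_1 lc_e_rc_18_1 lc_e_Cert_tree lc_e_rc_18_1 lc_e_rc_13_3 lc_e_rc_27_1 lc_e_rc_16_1 lc_e_rc_19_2 lc_e_rc_13_3 lc_e_rc_13_3 lc_e_rc_9_3 lc_e_Cert_tree lc_e_Cert_tree lc_e_rc_9_3 lc_e_rc_18_1 lc_e_rc_9_1 lc_e_Cert_tree lc_e_rc_18_1 lc_e_Cert_tree lc_e_rc_27_7 lc_e_rc_18_1 lc_e_rc_9_3 lc_e_rc_16_5 lc_e_rc_19_0 lc_e_Cert_tree) (@D3.rec (fun _ => (Cert rels S Gen.e)) lc_e_rc_18_1 lc_e_rc_9_3 lc_e_rc_18_1 lc_e_Cert_tree lc_e_Cert_tree lc_e_rc_27_5 lc_e_rc_19_2 lc_e_rc_13_3 lc_e_rc_16_3 lc_e_rc_9_1 lc_e_rc_18_1 lc_e_Cert_tree lc_e_rc_18_1 lc_e_rc_16_3 lc_e_rc_19_2 lc_e_rc_18_1 lc_e_Cert_tree lc_e_Cert_tree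 lc_e_rc_16_3 lc_e_rc_9_1 lc_e_Cert_tree lc_e_rc_27_7 lc_e_rc_18_1 lc_e_Cert_tree lc_e_Cert_tree lc_e_rc_27_1 lc_e_rc_18_1 lc_e_Cert_tree lc_e_Cert_tree lc_e_rc_27_5 lc_e_rc_18_1 lc_e_rc_16_5 lc_e_rc_9_3 lc_e_rc_18_1 lc_e_rc_16_3 lc_e_Cert_tree lc_e_rc_18_1 lc_e_rc_18_1 lc_e_Cert_tree lc_e_rc_18_1 lc_e_rc_18_1 lc_e_rc_9_3 lc_e_rc_4_3 lc_e_rc_18_1 lc_e_rc_13_3 lc_e_rc_18_1 lc_e_rc_18_1 lc_e_rc_27_7 lc_e_rc_19_2 lc_e_rc_16_5 lc_e_rc_9_3 lc_e_rc_18_1 lc_e_rc_19_0 lc_e_rc_4_1 lc_e_rc_27_7 lc_e_rc_4_3 lc_e_Cert_tree lc_e_rc_13_1 lc_e_rc_19_0 lc_e_rc_19_4 lc_e_rc_16_3 lc_e_Cert_tree) (@D3.rec (fun _ => (Cert rels S Gen.e)) lc_e_rc_18_1 lc_e_rc_18_1 lc_e_rc_13_3 lc_e_rc_16_5 lc_e_rc_9_3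 lc_e_rc_9_1 lc_e_Cert_tree lc_e_rc_19_2 lc_e_rc_27_7 lc_e_rc_18_1 lc_e_rc_18_1 lc_e_rc_9_3 lc_e_Cert_tree lc_e_rc_19_4 lc_e_rc_9_1 lc_e_rc_4_3 lc_e_Cert_tree lc_e_rc_4_3 lc_e_rc_18_1 lc_e_Cert_tree lc_e_Cert_tree lc_e_rc_18_1 lc_e_rc_27_5 lc_e_Cert_tree lc_e_rc_18_1 lc_e_rc_18_1 lc_e_rc_16_5 lc_e_rc_19_2 lc_e_rc_9_3 lc_e_rc_18_1 lc_e_rc_9_3 lc_e_rc_16_5 lc_e_Cert_tree lc_e_rc_16_3 lc_e_Cert_tree lc_e_rc_4_3 lc_e_rc_9_3 lc_e_rc_19_2 lc_e_rc_13_3 lc_e_rc_18_1 lc_e_Cert_tree lc_e_rc_18_1 lc_e_rc_18_1 lc_e_rc_4_3 lc_e_rc_16_1 lc_e_rc_16_5 lc_e_rc_27_5 lc_e_rc_16_1 lc_e_rc_18_1 lc_e_rc_9_3 lc_e_rc_16_5 lc_e_rc_9_1 lc_e_rc_16_3 lc_e_rc_18_1 lc_e_rc_16_3 lc_e_rc_18_1 lc_e_rc_18_1 lc_e_Cert_tree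 lc_e_Cert_tree lc_e_rc_18_1 lc_e_rc_27_7 lc_e_Cert_tree) (@D3.rec (fun _ => (Cert rels S Gen.e)) lc_e_rc_27_7 lc_e_rc_18_1 lc_e_rc_18_1 lc_e_rc_16_5 lc_e_rc_4_3 lc_e_rc_18_1 lc_e_rc_27_7 lc_e_rc_27_5 lc_e_rc_18_1 lc_e_rc_16_1 lc_e_Cert_tree lc_e_rc_13_1 lc_e_Cert_tree lc_e_rc_18_1 lc_e_Cert_tree lc_e_Cert_tree lc_e_rc_13_1 lc_e_rc_13_3 lc_e_rc_18_1 lc_e_Cert_tree lc_e_rc_18_1 lc_e_rc_9_3 lc_e_Cert_tree lc_e_rc_18_1 lc_e_rc_18_1 lc_e_rc_19_2 lc_e_rc_16_1 lc_e_rc_16_5 lc_e_rc_13_3 lc_e_rc_16_1 lc_e_rc_19_2 lc_e_Cert_tree lc_e_rc_16_3 lc_e_rc_13_3 lc_e_rc_9_3 lc_e_Cert_tree lc_e_Cert_tree lc_e_rc_16_3 lc_e_rc_18_1 lc_e_rc_13_3 lc_e_rc_16_5 lc_e_rc_18_1 lc_e_rc_19_2 lc_e_rc_19_2 lc_e_rc_27_7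 lc_e_rc_4_1 lc_e_Cert_tree lc_e_rc_18_1 lc_e_rc_18_1 lc_e_rc_16_3 lc_e_rc_27_5 lc_e_rc_18_1 lc_e_rc_19_0 lc_e_rc_16_1 lc_e_rc_13_3 lc_e_rc_18_1 lc_e_rc_27_5 lc_e_rc_27_1 lc_e_rc_19_4 lc_e_rc_9_3 lc_e_rc_13_3 lc_e_rc_16_5) (@D3.rec (fun _ => (Cert rels S Gen.e)) lc_e_rc_9_3 lc_e_rc_19_2 lc_e_rc_27_5 lc_e_rc_27_7 lc_e_rc_18_1 lc_e_Cert_tree lc_e_rc_27_5 lc_e_rc_13_1 lc_e_rc_18_1 lc_e_rc_16_3 lc_e_rc_19_4 lc_e_rc_27_5 lc_e_rc_18_1 lc_e_rc_18_1 lc_e_rc_16_5 lc_e_rc_27_7 lc_e_rc_4_3 lc_e_Cert_tree lc_e_rc_18_1 lc_e_rc_16_3 lc_e_rc_13_3 lc_e_Cert_tree lc_e_rc_16_3 lc_e_rc_4_3 lc_e_rc_16_5 lc_e_Cert_tree lc_e_rc_13_3 lc_e_Cert_tree lc_e_Cert_tree lc_e_Cert_tree lc_e_rc_18_1 lc_e_rc_18_1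 lc_e_rc_13_1 lc_e_rc_18_1 lc_e_rc_9_1 lc_e_Cert_tree lc_e_rc_18_1 lc_e_rc_9_3 lc_e_rc_13_3 lc_e_Cert_tree lc_e_rc_13_1 lc_e_rc_9_1 lc_e_Cert_tree lc_e_Cert_tree lc_e_rc_18_1 lc_e_rc_13_3 lc_e_Cert_tree lc_e_rc_18_1 lc_e_rc_9_3 lc_e_Cert_tree lc_e_rc_13_3 lc_e_rc_9_1 lc_e_Cert_tree lc_e_rc_18_1 lc_e_Cert_tree lc_e_rc_18_1 lc_e_Cert_tree lc_e_Cert_tree lc_e_rc_18_1 lc_e_Cert_tree lc_e_Cert_tree lc_e_rc_18_1) (@D3.rec (fun _ => (Cert rels S Gen.e)) lc_e_rc_9_1 lc_e_Cert_tree lc_e_rc_27_5 lc_e_rc_4_3 lc_e_rc_16_3 lc_e_rc_19_4 lc_e_rc_16_3 lc_e_rc_16_3 lc_e_Cert_tree lc_e_rc_18_1 lc_e_Cert_tree lc_e_rc_18_1 lc_e_rc_9_1 lc_e_rc_13_3 lc_e_rc_13_3 lc_e_rc_18_1 lc_e_rc_18_1 lc_e_rc_13_3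 lc_e_rc_13_3 lc_e_rc_18_1 lc_e_rc_16_5 lc_e_rc_18_1 lc_e_rc_13_1 lc_e_rc_18_1 lc_e_Cert_tree lc_e_Cert_tree lc_e_rc_19_4 lc_e_Cert_tree lc_e_rc_4_1 lc_e_rc_18_1 lc_e_rc_16_3 lc_e_rc_18_1 lc_e_Cert_tree lc_e_rc_27_5 lc_e_Cert_tree lc_e_Cert_tree lc_e_rc_18_1 lc_e_rc_19_0 lc_e_rc_18_1 lc_e_rc_27_7 lc_e_Cert_tree lc_e_Cert_tree lc_e_rc_18_1 lc_e_rc_18_1 lc_e_rc_18_1 lc_e_rc_16_1 lc_e_rc_9_3 lc_e_Cert_tree lc_e_Cert_tree lc_e_rc_16_1 lc_e_rc_19_2 lc_e_rc_9_1 lc_e_Cert_tree lc_e_Cert_tree lc_e_rc_16_1 lc_e_rc_13_1 lc_e_rc_4_3 lc_e_rc_19_4 lc_e_Cert_tree lc_e_rc_18_1 lc_e_Cert_tree lc_e_rc_18_1) (@D3.rec (fun _ => (Cert rels S Gen.e)) lc_e_Cert_tree lc_e_rc_27_7 lc_e_Cert_tree lc_e_rc_13_3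 lc_e_rc_18_1 lc_e_rc_27_1 lc_e_rc_27_5 lc_e_Cert_tree lc_e_rc_27_5 lc_e_rc_18_1 lc_e_rc_19_4 lc_e_rc_27_7 lc_e_Cert_tree lc_e_rc_9_3 lc_e_rc_9_3 lc_e_Cert_tree lc_e_rc_18_1 lc_e_rc_18_1 lc_e_rc_9_3 lc_e_rc_18_1 lc_e_rc_13_1 lc_e_rc_18_1 lc_e_rc_27_5 lc_e_rc_27_7 lc_e_rc_18_1 lc_e_rc_18_1 lc_e_rc_16_1 lc_e_rc_16_5 lc_e_rc_18_1 lc_e_rc_9_3 lc_e_rc_27_1 lc_e_rc_4_3 lc_e_Cert_tree lc_e_rc_18_1 lc_e_rc_16_1 lc_e_rc_9_3 lc_e_rc_13_1 lc_e_rc_13_3 lc_e_rc_27_7 lc_e_rc_9_3 lc_e_rc_13_3 lc_e_rc_27_1 lc_e_rc_4_3 lc_e_rc_13_3 lc_e_Cert_tree lc_e_rc_13_1 lc_e_rc_27_1 lc_e_rc_18_1 lc_e_rc_27_1 lc_e_rc_27_1 lc_e_Cert_tree lc_e_rc_18_1 lc_e_rc_18_1 lc_e_rc_13_3 lc_e_Cert_tree lc_e_rc_13_3 lc_e_rc_16_3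 lc_e_rc_13_3 lc_e_rc_18_1 lc_e_rc_27_1 lc_e_rc_18_1 lc_e_rc_16_3) (@D3.rec (fun _ => (Cert rels S Gen.e)) lc_e_Cert_tree lc_e_rc_9_3 lc_e_rc_18_1 lc_e_rc_27_7 lc_e_rc_27_7 lc_e_rc_19_0 lc_e_rc_19_4 lc_e_rc_18_1 lc_e_rc_13_3 lc_e_Cert_tree lc_e_rc_18_1 lc_e_rc_16_3 lc_e_Cert_tree lc_e_rc_18_1 lc_e_Cert_tree lc_e_rc_13_3 lc_e_rc_9_3 lc_e_rc_13_3 lc_e_rc_27_5 lc_e_rc_18_1 lc_e_rc_9_3 lc_e_Cert_tree lc_e_Cert_tree lc_e_rc_16_3 lc_e_rc_18_1 lc_e_rc_16_3 lc_e_Cert_tree lc_e_rc_13_1 lc_e_rc_18_1 lc_e_rc_16_5 lc_e_Cert_tree lc_e_rc_27_7 lc_e_rc_27_5 lc_e_rc_18_1 lc_e_rc_19_0 lc_e_rc_13_3 lc_e_Cert_tree lc_e_rc_9_3 lc_e_rc_4_3 lc_e_rc_16_1 lc_e_rc_19_2 lc_e_rc_19_4 lc_e_rc_13_1 lc_e_rc_18_1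 lc_e_rc_16_3 lc_e_rc_16_5 lc_e_Cert_tree lc_e_rc_27_5 lc_e_rc_18_1 lc_e_rc_18_1 lc_e_rc_16_1 lc_e_rc_16_5 lc_e_rc_16_5 lc_e_Cert_tree lc_e_Cert_tree lc_e_rc_18_1 lc_e_rc_18_1 lc_e_rc_16_1 lc_e_rc_13_1 lc_e_rc_16_5 lc_e_rc_27_5 lc_e_rc_18_1) (@D3.rec (fun _ => (Cert rels S Gen.e)) lc_e_rc_13_3 lc_e_rc_27_1 lc_e_rc_18_1 lc_e_rc_18_1 lc_e_Cert_tree lc_e_Cert_tree lc_e_rc_18_1 lc_e_rc_18_1 lc_e_rc_18_1 lc_e_rc_13_3 lc_e_rc_18_1 lc_e_rc_13_1 lc_e_rc_19_2 lc_e_rc_19_4 lc_e_rc_18_1 lc_e_rc_16_3 lc_e_rc_18_1 lc_e_rc_13_1 lc_e_rc_13_1 lc_e_rc_4_1 lc_e_rc_13_1 lc_e_rc_18_1 lc_e_rc_18_1 lc_e_rc_18_1 lc_e_rc_18_1 lc_e_Cert_tree lc_e_Cert_tree lc_e_rc_13_3 lc_e_rc_13_3 lc_e_rc_27_7 lc_e_rc_9_1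 lc_e_rc_27_7 lc_e_rc_27_1 lc_e_rc_18_1 lc_e_Cert_tree lc_e_rc_18_1 lc_e_rc_9_3 lc_e_rc_27_5 lc_e_rc_4_3 lc_e_rc_13_3 lc_e_rc_27_1 lc_e_rc_27_1 lc_e_Cert_tree lc_e_rc_27_5 lc_e_rc_9_3 lc_e_rc_18_1 lc_e_rc_16_1 lc_e_Cert_tree lc_e_rc_13_1 lc_e_rc_27_5 lc_e_rc_18_1 lc_e_Cert_tree lc_e_Cert_tree lc_e_rc_18_1 lc_e_rc_16_5 lc_e_rc_9_3 lc_e_rc_27_5 lc_e_rc_9_3 lc_e_Cert_tree lc_e_rc_18_1 lc_e_rc_18_1 lc_e_Cert_tree) (@D3.rec (fun _ => (Cert rels S Gen.e)) lc_e_rc_16_3 lc_e_rc_19_2 lc_e_rc_9_3 lc_e_rc_9_3 lc_e_rc_18_1 lc_e_rc_27_7 lc_e_rc_18_1 lc_e_rc_9_3 lc_e_rc_27_5 lc_e_rc_16_3 lc_e_rc_9_3 lc_e_rc_18_1 lc_e_rc_18_1 lc_e_rc_13_3 lc_e_rc_18_1 lc_e_rc_13_1 lc_e_Cert_tree lc_e_rc_18_1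 lc_e_rc_27_5 lc_e_rc_16_3 lc_e_rc_18_1 lc_e_Cert_tree lc_e_rc_18_1 lc_e_Cert_tree lc_e_Cert_tree lc_e_Cert_tree lc_e_Cert_tree lc_e_rc_18_1 lc_e_rc_18_1 lc_e_Cert_tree lc_e_rc_16_1 lc_e_rc_19_4 lc_e_Cert_tree lc_e_rc_19_4 lc_e_rc_18_1 lc_e_rc_9_3 lc_e_rc_4_3 lc_e_rc_13_1 lc_e_rc_18_1 lc_e_rc_4_1 lc_e_rc_16_1 lc_e_rc_9_1 lc_e_rc_18_1 lc_e_rc_4_3 lc_e_rc_18_1 lc_e_rc_13_3 lc_e_rc_9_3 lc_e_Cert_tree lc_e_rc_19_4 lc_e_rc_18_1 lc_e_rc_9_3 lc_e_rc_9_3 lc_e_rc_16_3 lc_e_Cert_tree lc_e_rc_18_1 lc_e_Cert_tree lc_e_rc_13_1 lc_e_rc_18_1 lc_e_rc_16_5 lc_e_rc_19_2 lc_e_rc_16_3 lc_e_rc_18_1) (@D3.rec (fun _ => (Cert rels S Gen.e)) lc_e_rc_18_1 lc_e_rc_4_3 lc_e_rc_13_3 lc_e_rc_18_1 lc_e_rc_19_0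 lc_e_rc_27_5 lc_e_Cert_tree lc_e_rc_18_1 lc_e_rc_16_1 lc_e_rc_13_1 lc_e_rc_18_1 lc_e_rc_13_3 lc_e_rc_16_1 lc_e_rc_13_3 lc_e_rc_13_3 lc_e_rc_13_3 lc_e_rc_13_3 lc_e_rc_9_3 lc_e_rc_13_3 lc_e_Cert_tree lc_e_rc_13_3 lc_e_rc_18_1 lc_e_rc_18_1 lc_e_rc_19_2 lc_e_rc_4_3 lc_e_rc_16_3 lc_e_rc_9_3 lc_e_rc_18_1 lc_e_Cert_tree lc_e_Cert_tree lc_e_rc_18_1 lc_e_rc_16_5 lc_e_Cert_tree lc_e_rc_9_1 lc_e_rc_4_1 lc_e_rc_18_1 lc_e_rc_18_1 lc_e_Cert_tree lc_e_rc_13_3 lc_e_rc_16_1 lc_e_rc_9_1 lc_e_rc_18_1 lc_e_rc_13_3 lc_e_rc_18_1 lc_e_rc_19_0 lc_e_rc_27_7 lc_e_rc_18_1 lc_e_Cert_tree lc_e_rc_9_1 lc_e_rc_18_1 lc_e_rc_9_3 lc_e_Cert_tree lc_e_Cert_tree lc_e_rc_27_5 lc_e_Cert_tree lc_e_rc_18_1 lc_e_rc_9_3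 lc_e_rc_13_3 lc_e_rc_18_1 lc_e_rc_27_1 lc_e_rc_18_1 lc_e_rc_18_1) (@D3.rec (fun _ => (Cert rels S Gen.e)) lc_e_Cert_tree lc_e_Cert_tree lc_e_rc_18_1 lc_e_rc_19_4 lc_e_rc_16_5 lc_e_Cert_tree lc_e_rc_16_3 lc_e_rc_4_3 lc_e_rc_18_1 lc_e_rc_18_1 lc_e_Cert_tree lc_e_rc_4_3 lc_e_rc_18_1 lc_e_rc_18_1 lc_e_rc_18_1 lc_e_rc_16_5 lc_e_rc_16_1 lc_e_rc_13_3 lc_e_Cert_tree lc_e_rc_27_5 lc_e_rc_18_1 lc_e_rc_9_3 lc_e_rc_13_3 lc_e_Cert_tree lc_e_Cert_tree lc_e_rc_18_1 lc_e_rc_19_4 lc_e_Cert_tree lc_e_rc_18_1 lc_e_Cert_tree lc_e_Cert_tree lc_e_rc_18_1 lc_e_rc_9_3 lc_e_rc_18_1 lc_e_Cert_tree lc_e_rc_27_1 lc_e_rc_18_1 lc_e_rc_18_1 lc_e_Cert_tree lc_e_rc_18_1 lc_e_rc_13_1 lc_e_rc_18_1 lc_e_rc_4_1 lc_e_rc_13_3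 lc_e_rc_18_1 lc_e_rc_9_1 lc_e_rc_13_3 lc_e_rc_19_0 lc_e_Cert_tree lc_e_rc_18_1 lc_e_rc_4_3 lc_e_rc_13_1 lc_e_rc_18_1 lc_e_rc_9_1 lc_e_rc_27_1 lc_e_rc_16_1 lc_e_rc_19_2 lc_e_rc_18_1 lc_e_rc_27_7 lc_e_rc_27_1 lc_e_Cert_tree lc_e_rc_18_1) (@D3.rec (fun _ => (Cert rels S Gen.e)) lc_e_rc_18_1 lc_e_rc_27_5 lc_e_rc_16_5 lc_e_rc_16_5 lc_e_rc_18_1 lc_e_rc_27_1 lc_e_rc_16_5 lc_e_rc_4_3 lc_e_Cert_tree lc_e_rc_18_1 lc_e_rc_16_3 lc_e_rc_18_1 lc_e_Cert_tree lc_e_rc_16_5 lc_e_rc_27_1 lc_e_rc_27_1 lc_e_rc_18_1 lc_e_rc_18_1 lc_e_rc_19_2 lc_e_rc_18_1 lc_e_rc_13_1 lc_e_rc_27_7 lc_e_rc_16_5 lc_e_Cert_tree lc_e_rc_13_3 lc_e_rc_18_1 lc_e_rc_16_1 lc_e_rc_19_2 lc_e_rc_19_0 lc_e_Cert_tree lc_e_rc_18_1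 lc_e_Cert_tree lc_e_rc_16_5 lc_e_rc_18_1 lc_e_rc_27_5 lc_e_rc_13_3 lc_e_Cert_tree lc_e_Cert_tree lc_e_rc_18_1 lc_e_rc_13_3 lc_e_rc_16_5 lc_e_rc_27_5 lc_e_Cert_tree lc_e_rc_18_1 lc_e_rc_16_5 lc_e_rc_18_1 lc_e_rc_19_2 lc_e_rc_18_1 lc_e_rc_13_1 lc_e_Cert_tree lc_e_rc_18_1 lc_e_rc_16_3 lc_e_rc_19_0 lc_e_rc_19_4 lc_e_rc_27_7 lc_e_rc_16_3 lc_e_rc_18_1 lc_e_rc_13_3 lc_e_rc_9_3 lc_e_rc_18_1 lc_e_Cert_tree lc_e_rc_16_5) (@D3.rec (fun _ => (Cert rels S Gen.e)) lc_e_rc_16_5 lc_e_rc_13_3 lc_e_rc_27_5 lc_e_rc_18_1 lc_e_rc_27_5 lc_e_rc_4_3 lc_e_Cert_tree lc_e_rc_18_1 lc_e_rc_9_3 lc_e_rc_13_3 lc_e_Cert_tree lc_e_rc_18_1 lc_e_rc_27_5 lc_e_rc_16_5 lc_e_rc_16_3 lc_e_Cert_tree lc_e_rc_13_1 lc_e_rc_18_1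 lc_e_rc_13_3 lc_e_rc_16_5 lc_e_rc_27_7 lc_e_rc_18_1 lc_e_rc_16_5 lc_e_rc_18_1 lc_e_Cert_tree lc_e_rc_18_1 lc_e_rc_13_3 lc_e_rc_9_3 lc_e_rc_16_3 lc_e_rc_19_2 lc_e_rc_16_5 lc_e_rc_18_1 lc_e_rc_27_1 lc_e_rc_13_3 lc_e_Cert_tree lc_e_Cert_tree lc_e_rc_18_1 lc_e_rc_9_3 lc_e_rc_13_3 lc_e_rc_18_1 lc_e_rc_19_0 lc_e_rc_16_3 lc_e_rc_9_3 lc_e_rc_18_1 lc_e_rc_18_1 lc_e_rc_13_1 lc_e_Cert_tree lc_e_rc_19_2 lc_e_rc_16_1 lc_e_rc_13_3 lc_e_rc_16_5 lc_e_rc_4_3 lc_e_rc_4_3 lc_e_rc_19_0 lc_e_rc_13_1 lc_e_rc_27_1 lc_e_rc_18_1 lc_e_rc_9_3 lc_e_rc_18_1 lc_e_rc_27_5 lc_e_Cert_tree lc_e_rc_18_1) (@D3.rec (fun _ => (Cert rels S Gen.e)) lc_e_rc_16_1 lc_e_rc_18_1 lc_e_rc_16_5 lc_e_rc_9_1 lc_e_rc_16_5 lc_e_rc_13_1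 lc_e_rc_18_1 lc_e_rc_16_1 lc_e_rc_4_3 lc_e_Cert_tree lc_e_rc_18_1 lc_e_Cert_tree lc_e_rc_18_1 lc_e_rc_13_3 lc_e_Cert_tree lc_e_rc_18_1 lc_e_rc_13_3 lc_e_rc_18_1 lc_e_rc_4_3 lc_e_Cert_tree lc_e_rc_18_1 lc_e_rc_9_3 lc_e_rc_18_1 lc_e_rc_18_1 lc_e_rc_16_1 lc_e_Cert_tree lc_e_rc_18_1 lc_e_rc_16_5 lc_e_rc_18_1 lc_e_rc_4_3 lc_e_rc_13_1 lc_e_rc_16_5 lc_e_rc_4_3 lc_e_rc_16_3 lc_e_rc_18_1 lc_e_rc_13_1 lc_e_rc_27_1 lc_e_rc_13_3 lc_e_rc_27_5 lc_e_Cert_tree lc_e_rc_13_3 lc_e_rc_18_1 lc_e_rc_18_1 lc_e_rc_13_3 lc_e_rc_18_1 lc_e_rc_13_3 lc_e_Cert_tree lc_e_Cert_tree lc_e_rc_4_3 lc_e_rc_27_5 lc_e_rc_27_7 lc_e_rc_27_7 lc_e_rc_18_1 lc_e_Cert_tree lc_e_Cert_tree lc_e_rc_4_1 lc_e_rc_9_3 lc_e_rc_27_1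 lc_e_rc_19_2 lc_e_rc_18_1 lc_e_rc_27_7 lc_e_rc_13_1) (@D3.rec (fun _ => (Cert rels S Gen.e)) lc_e_Cert_tree lc_e_rc_27_5 lc_e_rc_4_3 lc_e_rc_18_1 lc_e_rc_4_3 lc_e_Cert_tree lc_e_rc_19_4 lc_e_rc_18_1 lc_e_rc_13_1 lc_e_rc_27_1 lc_e_rc_18_1 lc_e_rc_18_1 lc_e_Cert_tree lc_e_rc_18_1 lc_e_rc_19_4 lc_e_rc_18_1 lc_e_rc_27_1 lc_e_rc_19_0 lc_e_rc_18_1 lc_e_Cert_tree lc_e_rc_27_5 lc_e_rc_27_5 lc_e_rc_18_1 lc_e_Cert_tree lc_e_rc_18_1 lc_e_rc_13_3 lc_e_Cert_tree lc_e_rc_4_3 lc_e_rc_18_1 lc_e_Cert_tree lc_e_Cert_tree lc_e_rc_18_1 lc_e_Cert_tree lc_e_rc_18_1 lc_e_Cert_tree lc_e_rc_9_3 lc_e_rc_13_3 lc_e_rc_18_1 lc_e_rc_18_1 lc_e_rc_4_1 lc_e_rc_27_5 lc_e_rc_27_7 lc_e_rc_16_5 lc_e_rc_19_4 lc_e_rc_18_1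 lc_e_rc_9_3 lc_e_rc_4_3 lc_e_rc_9_3 lc_e_rc_9_3 lc_e_rc_19_0 lc_e_rc_18_1 lc_e_rc_16_5 lc_e_rc_9_3 lc_e_rc_16_5 lc_e_rc_18_1 lc_e_rc_13_3 lc_e_rc_16_5 lc_e_rc_9_3 lc_e_rc_18_1 lc_e_rc_18_1 lc_e_rc_16_1 lc_e_Cert_tree) (@D3.rec (fun _ => (Cert rels S Gen.e)) lc_e_rc_27_5 lc_e_rc_18_1 lc_e_rc_16_3 lc_e_rc_27_5 lc_e_rc_4_3 lc_e_rc_18_1 lc_e_rc_19_0 lc_e_rc_19_0 lc_e_rc_27_1 lc_e_rc_13_3 lc_e_rc_19_0 lc_e_rc_9_3 lc_e_Cert_tree lc_e_Cert_tree lc_e_rc_16_3 lc_e_rc_18_1 lc_e_rc_16_1 lc_e_rc_9_3 lc_e_rc_13_3 lc_e_rc_18_1 lc_e_rc_27_5 lc_e_rc_27_5 lc_e_rc_18_1 lc_e_rc_27_5 lc_e_rc_18_1 lc_e_rc_16_1 lc_e_rc_19_0 lc_e_rc_27_1 lc_e_rc_9_3 lc_e_rc_16_1 lc_e_rc_19_2 lc_e_rc_13_1 lc_e_Cert_tree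 lc_e_rc_9_3 lc_e_rc_16_1 lc_e_Cert_tree lc_e_rc_13_1 lc_e_rc_16_3 lc_e_rc_18_1 lc_e_rc_19_4 lc_e_rc_27_1 lc_e_Cert_tree lc_e_rc_18_1 lc_e_rc_9_3 lc_e_rc_9_3 lc_e_rc_27_7 lc_e_rc_16_3 lc_e_rc_27_7 lc_e_Cert_tree lc_e_Cert_tree lc_e_rc_18_1 lc_e_rc_4_3 lc_e_rc_13_1 lc_e_rc_9_3 lc_e_rc_9_3 lc_e_rc_9_3 lc_e_rc_18_1 lc_e_rc_9_3 lc_e_Cert_tree lc_e_rc_18_1 lc_e_rc_4_1 lc_e_rc_27_7) (@D3.rec (fun _ => (Cert rels S Gen.e)) lc_e_rc_27_7 lc_e_rc_9_1 lc_e_rc_18_1 lc_e_rc_27_5 lc_e_rc_18_1 lc_e_rc_18_1 lc_e_rc_18_1 lc_e_rc_4_3 lc_e_rc_18_1 lc_e_rc_18_1 lc_e_rc_16_3 lc_e_rc_13_3 lc_e_Cert_tree lc_e_rc_27_5 lc_e_rc_18_1 lc_e_rc_9_3 lc_e_rc_18_1 lc_e_rc_18_1 lc_e_rc_16_3 lc_e_rc_16_1 lc_e_rc_16_3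 lc_e_rc_18_1 lc_e_rc_4_3 lc_e_rc_13_3 lc_e_rc_18_1 lc_e_rc_27_5 lc_e_rc_18_1 lc_e_rc_16_5 lc_e_Cert_tree lc_e_rc_27_7 lc_e_rc_9_3 lc_e_rc_4_3 lc_e_rc_18_1 lc_e_rc_27_1 lc_e_rc_18_1 lc_e_rc_16_1 lc_e_rc_27_1 lc_e_rc_13_3 lc_e_rc_13_1 lc_e_rc_27_5 lc_e_rc_13_3 lc_e_rc_16_1 lc_e_rc_4_3 lc_e_Cert_tree lc_e_rc_18_1 lc_e_rc_4_3 lc_e_rc_18_1 lc_e_rc_9_3 lc_e_rc_19_4 lc_e_rc_9_1 lc_e_rc_27_5 lc_e_rc_18_1 lc_e_rc_19_4 lc_e_rc_13_3 lc_e_rc_18_1 lc_e_rc_16_3 lc_e_rc_9_3 lc_e_rc_18_1 lc_e_Cert_tree lc_e_Cert_tree lc_e_rc_18_1 lc_e_rc_16_1) (@D3.rec (fun _ => (Cert rels S Gen.e)) lc_e_Cert_tree lc_e_rc_16_3 lc_e_rc_9_1 lc_e_rc_16_3 lc_e_rc_18_1 lc_e_Cert_tree lc_e_rc_9_3 lc_e_Cert_tree lc_e_rc_27_5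 lc_e_rc_18_1 lc_e_rc_9_3 lc_e_Cert_tree lc_e_Cert_tree lc_e_rc_18_1 lc_e_rc_13_3 lc_e_rc_16_5 lc_e_Cert_tree lc_e_rc_27_5 lc_e_rc_19_2 lc_e_rc_27_7 lc_e_rc_18_1 lc_e_rc_16_1 lc_e_rc_27_1 lc_e_rc_4_1 lc_e_rc_13_1 lc_e_rc_13_1 lc_e_rc_13_3 lc_e_Cert_tree lc_e_rc_18_1 lc_e_rc_18_1 lc_e_rc_13_3 lc_e_rc_27_5 lc_e_rc_16_1 lc_e_rc_18_1 lc_e_rc_13_3 lc_e_rc_27_1 lc_e_rc_13_1 lc_e_rc_9_3 lc_e_rc_13_3 lc_e_rc_16_5 lc_e_rc_13_1 lc_e_rc_27_5 lc_e_rc_27_1 lc_e_rc_13_3 lc_e_rc_4_1 lc_e_rc_18_1 lc_e_rc_9_1 lc_e_rc_18_1 lc_e_Cert_tree lc_e_Cert_tree lc_e_rc_18_1 lc_e_Cert_tree lc_e_rc_18_1 lc_e_rc_16_5 lc_e_rc_13_3 lc_e_rc_13_3 lc_e_rc_9_3 lc_e_rc_18_1 lc_e_rc_9_3 lc_e_rc_27_5 lc_e_rc_18_1 lc_e_rc_9_3)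 (@D3.rec (fun _ => (Cert rels S Gen.e)) lc_e_Cert_tree lc_e_rc_18_1 lc_e_rc_27_7 lc_e_rc_9_3 lc_e_rc_18_1 lc_e_rc_13_1 lc_e_rc_18_1 lc_e_rc_13_3 lc_e_rc_16_5 lc_e_rc_16_5 lc_e_Cert_tree lc_e_rc_18_1 lc_e_Cert_tree lc_e_rc_13_3 lc_e_rc_4_1 lc_e_rc_19_2 lc_e_rc_19_4 lc_e_rc_18_1 lc_e_rc_9_3 lc_e_rc_18_1 lc_e_rc_27_5 lc_e_rc_13_3 lc_e_rc_9_1 lc_e_Cert_tree lc_e_rc_18_1 lc_e_rc_18_1 lc_e_Cert_tree lc_e_Cert_tree lc_e_Cert_tree lc_e_rc_18_1 lc_e_Cert_tree lc_e_Cert_tree lc_e_Cert_tree lc_e_rc_18_1 lc_e_Cert_tree lc_e_Cert_tree lc_e_rc_13_3 lc_e_Cert_tree lc_e_rc_9_3 lc_e_rc_4_3 lc_e_rc_18_1 lc_e_rc_9_3 lc_e_rc_9_3 lc_e_rc_18_1 lc_e_rc_27_7 lc_e_rc_4_1 lc_e_rc_18_1 lc_e_rc_19_4 lc_e_rc_16_5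 lc_e_rc_18_1 lc_e_rc_9_3 lc_e_Cert_tree lc_e_rc_18_1 lc_e_Cert_tree lc_e_rc_18_1 lc_e_rc_16_5 lc_e_rc_19_4 lc_e_rc_16_1 lc_e_rc_19_2 lc_e_rc_16_1 lc_e_Cert_tree lc_e_rc_18_1) (@D3.rec (fun _ => (Cert rels S Gen.e)) lc_e_rc_18_1 lc_e_rc_18_1 lc_e_rc_16_5 lc_e_rc_13_3 lc_e_rc_27_7 lc_e_rc_13_1 lc_e_Cert_tree lc_e_rc_18_1 lc_e_rc_18_1 lc_e_rc_13_3 lc_e_rc_18_1 lc_e_rc_4_3 lc_e_Cert_tree lc_e_Cert_tree lc_e_rc_13_3 lc_e_rc_18_1 lc_e_rc_18_1 lc_e_rc_19_4 lc_e_rc_16_1 lc_e_rc_19_4 lc_e_rc_19_4 lc_e_rc_19_2 lc_e_rc_18_1 lc_e_Cert_tree lc_e_rc_18_1 lc_e_Cert_tree lc_e_rc_18_1 lc_e_Cert_tree lc_e_rc_27_7 lc_e_rc_16_5 lc_e_rc_18_1 lc_e_rc_18_1 lc_e_rc_9_3 lc_e_rc_27_5 lc_e_rc_19_4 lc_e_rc_27_5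 lc_e_rc_18_1 lc_e_rc_16_1 lc_e_rc_19_4 lc_e_rc_9_1 lc_e_Cert_tree lc_e_rc_27_5 lc_e_Cert_tree lc_e_rc_13_3 lc_e_Cert_tree lc_e_rc_27_5 lc_e_rc_27_7 lc_e_rc_9_3 lc_e_rc_13_3 lc_e_rc_19_4 lc_e_rc_19_4 lc_e_rc_18_1 lc_e_Cert_tree lc_e_rc_18_1 lc_e_rc_27_7 lc_e_Cert_tree lc_e_rc_4_3 lc_e_rc_18_1 lc_e_Cert_tree lc_e_rc_27_5 lc_e_rc_16_1 lc_e_rc_9_3) (@D3.rec (fun _ => (Cert rels S Gen.e)) lc_e_Cert_tree lc_e_rc_18_1 lc_e_rc_16_1 lc_e_rc_19_4 lc_e_rc_16_5 lc_e_rc_13_3 lc_e_rc_27_7 lc_e_rc_19_4 lc_e_Cert_tree lc_e_rc_18_1 lc_e_rc_9_1 lc_e_rc_18_1 lc_e_rc_27_1 lc_e_rc_18_1 lc_e_rc_19_4 lc_e_rc_27_7 lc_e_rc_27_1 lc_e_rc_27_7 lc_e_rc_18_1 lc_e_rc_13_3 lc_e_rc_27_5 lc_e_rc_18_1 lc_e_rc_16_1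 lc_e_rc_19_4 lc_e_rc_19_4 lc_e_rc_13_3 lc_e_Cert_tree lc_e_Cert_tree lc_e_Cert_tree lc_e_rc_18_1 lc_e_Cert_tree lc_e_rc_18_1 lc_e_Cert_tree lc_e_rc_16_1 lc_e_rc_13_3 lc_e_rc_19_4 lc_e_Cert_tree lc_e_Cert_tree lc_e_rc_18_1 lc_e_Cert_tree lc_e_rc_18_1 lc_e_rc_13_3 lc_e_rc_16_1 lc_e_rc_19_4 lc_e_rc_4_1 lc_e_rc_9_3 lc_e_Cert_tree lc_e_rc_9_3 lc_e_rc_18_1 lc_e_rc_13_3 lc_e_rc_13_1 lc_e_Cert_tree lc_e_rc_18_1 lc_e_Cert_tree lc_e_rc_18_1 lc_e_rc_16_3 lc_e_rc_18_1 lc_e_rc_18_1 lc_e_rc_27_5 lc_e_rc_13_3 lc_e_rc_16_5 lc_e_rc_18_1) (@D3.rec (fun _ => (Cert rels S Gen.e)) lc_e_rc_13_3 lc_e_rc_16_3 lc_e_rc_13_1 lc_e_rc_27_1 lc_e_rc_13_3 lc_e_rc_13_3 lc_e_rc_16_5 lc_e_rc_18_1 lc_e_Cert_tree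 lc_e_rc_27_5 lc_e_rc_18_1 lc_e_rc_16_5 lc_e_rc_27_1 lc_e_rc_16_1 lc_e_rc_9_3 lc_e_Cert_tree lc_e_rc_18_1 lc_e_rc_27_1 lc_e_rc_18_1 lc_e_rc_13_1 lc_e_rc_16_1 lc_e_rc_9_3 lc_e_rc_27_5 lc_e_Cert_tree lc_e_rc_19_2 lc_e_rc_13_3 lc_e_rc_18_1 lc_e_rc_18_1 lc_e_rc_18_1 lc_e_rc_13_3 lc_e_rc_19_4 lc_e_rc_13_3 lc_e_rc_4_3 lc_e_rc_9_1 lc_e_rc_4_3 lc_e_Cert_tree lc_e_rc_18_1 lc_e_Cert_tree lc_e_rc_13_1 lc_e_rc_18_1 lc_e_rc_27_5 lc_e_rc_27_5 lc_e_rc_18_1 lc_e_rc_9_3 lc_e_Cert_tree lc_e_rc_18_1 lc_e_Cert_tree lc_e_rc_18_1 lc_e_rc_27_5 lc_e_rc_13_3 lc_e_rc_16_1 lc_e_rc_9_3 lc_e_rc_18_1 lc_e_rc_27_7 lc_e_rc_16_1 lc_e_rc_27_5 lc_e_Cert_tree lc_e_Cert_tree lc_e_rc_18_1 lc_e_Cert_tree lc_e_Cert_tree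 lc_e_Cert_tree) (@D3.rec (fun _ => (Cert rels S Gen.e)) lc_e_rc_13_3 lc_e_Cert_tree lc_e_rc_27_7 lc_e_rc_9_1 lc_e_Cert_tree lc_e_Cert_tree lc_e_rc_18_1 lc_e_rc_18_1 lc_e_Cert_tree lc_e_rc_18_1 lc_e_rc_9_3 lc_e_rc_16_3 lc_e_Cert_tree lc_e_rc_4_1 lc_e_rc_16_5 lc_e_rc_16_5 lc_e_Cert_tree lc_e_rc_18_1 lc_e_rc_13_3 lc_e_rc_9_3 lc_e_rc_13_3 lc_e_rc_27_1 lc_e_rc_9_3 lc_e_rc_19_2 lc_e_rc_9_1 lc_e_rc_9_1 lc_e_rc_9_3 lc_e_rc_9_3 lc_e_rc_27_5 lc_e_rc_9_3 lc_e_rc_19_4 lc_e_rc_18_1 lc_e_rc_18_1 lc_e_rc_27_5 lc_e_rc_4_3 lc_e_rc_18_1 lc_e_rc_16_1 lc_e_rc_9_3 lc_e_rc_13_3 lc_e_rc_27_7 lc_e_rc_13_3 lc_e_rc_13_3 lc_e_rc_13_3 lc_e_rc_9_3 lc_e_rc_18_1 lc_e_Cert_tree lc_e_rc_16_5 lc_e_rc_16_3 lc_e_rc_18_1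 lc_e_rc_9_3 lc_e_rc_13_3 lc_e_Cert_tree lc_e_Cert_tree lc_e_rc_18_1 lc_e_rc_4_1 lc_e_rc_27_5 lc_e_rc_16_5 lc_e_rc_19_4 lc_e_rc_13_3 lc_e_rc_18_1 lc_e_rc_9_3 lc_e_rc_9_3) (@D3.rec (fun _ => (Cert rels S Gen.e)) lc_e_Cert_tree lc_e_rc_18_1 lc_e_rc_13_3 lc_e_rc_13_3 lc_e_rc_16_1 lc_e_rc_19_4 lc_e_Cert_tree lc_e_rc_27_5 lc_e_rc_27_5 lc_e_rc_18_1 lc_e_rc_16_1 lc_e_rc_27_1 lc_e_rc_27_7 lc_e_rc_13_3 lc_e_rc_9_1 lc_e_rc_27_7 lc_e_rc_27_5 lc_e_rc_13_1 lc_e_rc_9_3 lc_e_rc_13_3 lc_e_rc_13_3 lc_e_rc_18_1 lc_e_rc_16_1 lc_e_rc_9_3 lc_e_rc_9_3 lc_e_rc_13_1 lc_e_rc_9_3 lc_e_rc_18_1 lc_e_rc_16_3 lc_e_rc_4_3 lc_e_rc_27_7 lc_e_Cert_tree lc_e_rc_18_1 lc_e_rc_16_3 lc_e_Cert_tree lc_e_Cert_tree lc_e_rc_18_1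 lc_e_rc_18_1 lc_e_rc_18_1 lc_e_rc_16_1 lc_e_rc_4_1 lc_e_rc_4_3 lc_e_rc_19_4 lc_e_rc_4_3 lc_e_rc_18_1 lc_e_rc_19_4 lc_e_rc_27_7 lc_e_rc_18_1 lc_e_rc_16_5 lc_e_rc_16_3 lc_e_rc_27_5 lc_e_rc_18_1 lc_e_Cert_tree lc_e_rc_9_3 lc_e_rc_18_1 lc_e_rc_18_1 lc_e_rc_27_5 lc_e_rc_18_1 lc_e_rc_18_1 lc_e_rc_16_5 lc_e_rc_9_3 lc_e_rc_19_4) (@D3.rec (fun _ => (Cert rels S Gen.e)) lc_e_Cert_tree lc_e_rc_18_1 lc_e_Cert_tree lc_e_rc_18_1 lc_e_rc_18_1 lc_e_rc_13_3 lc_e_rc_16_1 lc_e_rc_19_4 lc_e_rc_4_3 lc_e_rc_19_4 lc_e_rc_18_1 lc_e_rc_27_1 lc_e_rc_13_3 lc_e_rc_27_5 lc_e_rc_4_3 lc_e_Cert_tree lc_e_rc_13_3 lc_e_rc_27_5 lc_e_rc_18_1 lc_e_rc_16_5 lc_e_rc_18_1 lc_e_rc_19_0 lc_e_rc_16_5 lc_e_rc_27_7 lc_e_rc_27_1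 lc_e_rc_18_1 lc_e_rc_13_3 lc_e_rc_27_5 lc_e_rc_18_1 lc_e_Cert_tree lc_e_Cert_tree lc_e_Cert_tree lc_e_rc_18_1 lc_e_rc_19_4 lc_e_rc_13_3 lc_e_rc_18_1 lc_e_rc_4_3 lc_e_rc_9_1 lc_e_rc_18_1 lc_e_rc_27_7 lc_e_Cert_tree lc_e_Cert_tree lc_e_Cert_tree lc_e_rc_16_5 lc_e_rc_18_1 lc_e_Cert_tree lc_e_rc_27_1 lc_e_rc_18_1 lc_e_rc_9_3 lc_e_rc_18_1 lc_e_rc_18_1 lc_e_rc_9_3 lc_e_rc_9_3 lc_e_rc_9_1 lc_e_rc_16_3 lc_e_rc_18_1 lc_e_Cert_tree lc_e_rc_9_3 lc_e_rc_18_1 lc_e_rc_13_3 lc_e_rc_16_3 lc_e_rc_27_5) (@D3.rec (fun _ => (Cert rels S Gen.e)) lc_e_Cert_tree lc_e_Cert_tree lc_e_rc_18_1 lc_e_rc_18_1 lc_e_rc_13_3 lc_e_rc_13_3 lc_e_Cert_tree lc_e_rc_18_1 lc_e_rc_16_1 lc_e_rc_9_3 lc_e_Cert_tree lc_e_Cert_tree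 lc_e_rc_4_3 lc_e_rc_18_1 lc_e_Cert_tree lc_e_rc_13_1 lc_e_rc_27_7 lc_e_rc_18_1 lc_e_Cert_tree lc_e_rc_18_1 lc_e_rc_4_3 lc_e_Cert_tree lc_e_rc_18_1 lc_e_Cert_tree lc_e_rc_13_1 lc_e_rc_16_1 lc_e_rc_18_1 lc_e_rc_18_1 lc_e_rc_16_1 lc_e_rc_19_2 lc_e_rc_9_3 lc_e_Cert_tree lc_e_rc_13_3 lc_e_rc_27_7 lc_e_rc_13_1 lc_e_rc_9_3 lc_e_rc_9_3 lc_e_Cert_tree lc_e_Cert_tree lc_e_rc_18_1 lc_e_rc_18_1 lc_e_rc_16_1 lc_e_Cert_tree lc_e_Cert_tree lc_e_rc_16_1 lc_e_rc_18_1 lc_e_rc_16_5 lc_e_rc_4_3 lc_e_Cert_tree lc_e_rc_18_1 lc_e_rc_27_1 lc_e_rc_13_3 lc_e_rc_9_3 lc_e_rc_27_1 lc_e_rc_18_1 lc_e_rc_27_7 lc_e_Cert_tree lc_e_Cert_tree lc_e_rc_18_1 lc_e_rc_18_1 lc_e_rc_18_1 lc_e_rc_9_3) (@D3.rec (fun _ =>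 (Cert rels S Gen.e)) lc_e_rc_16_3 lc_e_rc_9_3 lc_e_rc_16_3 lc_e_rc_13_1 lc_e_rc_27_7 lc_e_rc_19_0 lc_e_Cert_tree lc_e_rc_13_3 lc_e_rc_16_5 lc_e_rc_13_3 lc_e_rc_18_1 lc_e_rc_18_1 lc_e_rc_4_1 lc_e_rc_18_1 lc_e_rc_19_0 lc_e_rc_9_1 lc_e_rc_18_1 lc_e_rc_4_3 lc_e_rc_18_1 lc_e_rc_13_3 lc_e_rc_19_4 lc_e_rc_13_3 lc_e_rc_18_1 lc_e_Cert_tree lc_e_rc_9_3 lc_e_rc_9_1 lc_e_rc_18_1 lc_e_Cert_tree lc_e_rc_4_3 lc_e_rc_18_1 lc_e_rc_18_1 lc_e_rc_4_3 lc_e_rc_18_1 lc_e_rc_13_3 lc_e_rc_4_3 lc_e_rc_9_3 lc_e_rc_16_5 lc_e_rc_9_1 lc_e_rc_27_5 lc_e_rc_18_1 lc_e_rc_13_1 lc_e_rc_9_1 lc_e_rc_18_1 lc_e_rc_27_1 lc_e_Cert_tree lc_e_rc_18_1 lc_e_Cert_tree lc_e_Cert_tree lc_e_rc_13_1 lc_e_rc_18_1 lc_e_rc_4_1 lc_e_rc_13_3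 lc_e_rc_27_5 lc_e_rc_9_3 lc_e_rc_16_5 lc_e_rc_13_3 lc_e_Cert_tree lc_e_rc_16_5 lc_e_rc_18_1 lc_e_rc_4_3 lc_e_rc_18_1 lc_e_Cert_tree) (@D3.rec (fun _ => (Cert rels S Gen.e)) lc_e_rc_16_5 lc_e_rc_13_1 lc_e_Cert_tree lc_e_rc_9_3 lc_e_rc_13_1 lc_e_Cert_tree lc_e_rc_18_1 lc_e_rc_27_5 lc_e_rc_18_1 lc_e_rc_13_1 lc_e_rc_18_1 lc_e_rc_16_1 lc_e_Cert_tree lc_e_Cert_tree lc_e_rc_27_7 lc_e_rc_18_1 lc_e_rc_27_1 lc_e_rc_13_1 lc_e_rc_9_3 lc_e_rc_19_2 lc_e_rc_16_5 lc_e_rc_18_1 lc_e_rc_13_3 lc_e_rc_13_3 lc_e_rc_9_1 lc_e_rc_4_3 lc_e_rc_27_5 lc_e_rc_18_1 lc_e_rc_13_3 lc_e_rc_13_1 lc_e_rc_18_1 lc_e_rc_9_3 lc_e_rc_9_3 lc_e_rc_13_3 lc_e_rc_18_1 lc_e_Cert_tree lc_e_rc_27_1 lc_e_rc_18_1 lc_e_rc_9_1 lc_e_rc_27_5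 lc_e_rc_18_1 lc_e_rc_9_3 lc_e_rc_27_1 lc_e_rc_18_1 lc_e_rc_9_3 lc_e_rc_4_3 lc_e_rc_9_3 lc_e_rc_18_1 lc_e_rc_4_3 lc_e_rc_13_1 lc_e_rc_19_2 lc_e_rc_18_1 lc_e_rc_16_3 lc_e_rc_19_2 lc_e_rc_19_0 lc_e_rc_13_1 lc_e_rc_27_7 lc_e_rc_18_1 lc_e_rc_9_3 lc_e_rc_13_3 lc_e_rc_4_1 lc_e_rc_18_1) (@D3.rec (fun _ => (Cert rels S Gen.e)) lc_e_rc_13_3 lc_e_rc_16_1 lc_e_rc_27_1 lc_e_rc_18_1 lc_e_Cert_tree lc_e_rc_16_3 lc_e_rc_27_1 lc_e_rc_13_3 lc_e_rc_9_1 lc_e_rc_13_3 lc_e_rc_27_7 lc_e_rc_13_3 lc_e_Cert_tree lc_e_rc_27_5 lc_e_rc_18_1 lc_e_Cert_tree lc_e_Cert_tree lc_e_rc_16_1 lc_e_rc_13_1 lc_e_Cert_tree lc_e_rc_18_1 lc_e_rc_9_1 lc_e_Cert_tree lc_e_rc_9_1 lc_e_rc_9_3 lc_e_rc_4_3 lc_e_rc_18_1 lc_e_rc_16_3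 lc_e_rc_16_3 lc_e_rc_18_1 lc_e_rc_18_1 lc_e_rc_27_5 lc_e_rc_13_3 lc_e_rc_4_3 lc_e_rc_13_3 lc_e_Cert_tree lc_e_rc_18_1 lc_e_rc_9_1 lc_e_rc_16_3 lc_e_rc_18_1 lc_e_rc_9_1 lc_e_rc_16_1 lc_e_rc_18_1 lc_e_Cert_tree lc_e_rc_18_1 lc_e_rc_9_3 lc_e_rc_9_3 lc_e_rc_4_3 lc_e_Cert_tree lc_e_rc_18_1 lc_e_Cert_tree lc_e_rc_27_7 lc_e_rc_16_1 lc_e_rc_18_1 lc_e_rc_18_1 lc_e_rc_18_1 lc_e_rc_13_3 lc_e_rc_16_5 lc_e_rc_18_1 lc_e_rc_18_1 lc_e_rc_18_1 lc_e_rc_19_4) (@D3.rec (fun _ => (Cert rels S Gen.e)) lc_e_rc_27_7 lc_e_rc_18_1 lc_e_rc_9_3 lc_e_rc_18_1 lc_e_rc_13_1 lc_e_rc_18_1 lc_e_rc_16_5 lc_e_rc_16_5 lc_e_rc_16_1 lc_e_rc_18_1 lc_e_rc_13_3 lc_e_Cert_tree lc_e_rc_16_5 lc_e_Cert_tree lc_e_Cert_tree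 lc_e_rc_18_1 lc_e_rc_13_3 lc_e_rc_18_1 lc_e_rc_27_5 lc_e_rc_16_1 lc_e_rc_13_1 lc_e_rc_27_5 lc_e_Cert_tree lc_e_rc_18_1 lc_e_rc_18_1 lc_e_Cert_tree lc_e_rc_27_5 lc_e_rc_18_1 lc_e_rc_27_1 lc_e_rc_18_1 lc_e_rc_16_3 lc_e_rc_19_2 lc_e_rc_4_3 lc_e_rc_18_1 lc_e_rc_18_1 lc_e_rc_18_1 lc_e_rc_13_1 lc_e_rc_16_1 lc_e_rc_19_2 lc_e_rc_18_1 lc_e_rc_9_3 lc_e_rc_18_1 lc_e_rc_16_3 lc_e_rc_16_1 lc_e_rc_27_5 lc_e_rc_18_1 lc_e_rc_19_4 lc_e_rc_19_0 lc_e_rc_16_3 lc_e_rc_18_1 lc_e_rc_16_5 lc_e_rc_27_5 lc_e_rc_18_1 lc_e_rc_16_5 lc_e_rc_13_3 lc_e_rc_18_1 lc_e_Cert_tree lc_e_rc_18_1 lc_e_rc_16_5 lc_e_rc_18_1 lc_e_rc_9_3 lc_e_Cert_tree) (@D3.rec (fun _ => (Cert rels S Gen.e)) lc_e_rc_18_1 lc_e_rc_9_3 lc_e_rc_13_1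 lc_e_rc_18_1 lc_e_rc_27_1 lc_e_rc_27_5 lc_e_Cert_tree lc_e_rc_9_3 lc_e_rc_16_3 lc_e_rc_18_1 lc_e_rc_13_3 lc_e_rc_16_3 lc_e_rc_16_5 lc_e_rc_13_3 lc_e_rc_18_1 lc_e_rc_16_5 lc_e_rc_18_1 lc_e_rc_13_3 lc_e_rc_16_1 lc_e_rc_27_5 lc_e_rc_18_1 lc_e_rc_27_5 lc_e_Cert_tree lc_e_rc_13_3 lc_e_rc_9_3 lc_e_rc_16_3 lc_e_rc_13_3 lc_e_rc_18_1 lc_e_rc_27_5 lc_e_rc_27_1 lc_e_rc_13_3 lc_e_rc_19_2 lc_e_rc_4_3 lc_e_rc_27_5 lc_e_rc_18_1 lc_e_rc_16_3 lc_e_rc_13_3 lc_e_rc_13_3 lc_e_rc_9_3 lc_e_rc_9_3 lc_e_rc_16_5 lc_e_Cert_tree lc_e_rc_13_3 lc_e_rc_13_3 lc_e_rc_27_1 lc_e_rc_18_1 lc_e_rc_13_3 lc_e_rc_18_1 lc_e_rc_9_1 lc_e_rc_27_1 lc_e_rc_27_1 lc_e_Cert_tree lc_e_rc_9_3 lc_e_rc_18_1 lc_e_rc_9_1 lc_e_rc_18_1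 lc_e_rc_18_1 lc_e_rc_18_1 lc_e_rc_27_5 lc_e_Cert_tree lc_e_rc_18_1 lc_e_rc_4_3) (@D3.rec (fun _ => (Cert rels S Gen.e)) lc_e_rc_27_5 lc_e_rc_18_1 lc_e_rc_9_3 lc_e_rc_13_3 lc_e_rc_16_3 lc_e_rc_18_1 lc_e_rc_9_3 lc_e_rc_27_1 lc_e_rc_13_3 lc_e_Cert_tree lc_e_rc_18_1 lc_e_rc_13_3 lc_e_Cert_tree lc_e_Cert_tree lc_e_rc_27_7 lc_e_rc_18_1 lc_e_rc_18_1 lc_e_Cert_tree lc_e_rc_18_1 lc_e_rc_19_0 lc_e_rc_16_1 lc_e_rc_27_5 lc_e_rc_13_1 lc_e_rc_27_7 lc_e_Cert_tree lc_e_rc_18_1 lc_e_rc_18_1 lc_e_rc_13_3 lc_e_Cert_tree lc_e_rc_4_3 lc_e_rc_13_3 lc_e_rc_18_1 lc_e_rc_13_3 lc_e_rc_13_3 lc_e_Cert_tree lc_e_Cert_tree lc_e_rc_18_1 lc_e_Cert_tree lc_e_Cert_tree lc_e_rc_18_1 lc_e_Cert_tree lc_e_Cert_tree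 lc_e_rc_16_3 lc_e_rc_18_1 lc_e_rc_16_1 lc_e_Cert_tree lc_e_rc_18_1 lc_e_rc_19_0 lc_e_rc_18_1 lc_e_Cert_tree lc_e_rc_16_5 lc_e_rc_18_1 lc_e_rc_27_5 lc_e_rc_18_1 lc_e_rc_16_3 lc_e_rc_19_4 lc_e_Cert_tree lc_e_Cert_tree lc_e_rc_18_1 lc_e_rc_19_0 lc_e_rc_16_3 lc_e_rc_19_4) (@D3.rec (fun _ => (Cert rels S Gen.e)) lc_e_rc_9_1 lc_e_rc_18_1 lc_e_rc_18_1 lc_e_rc_27_5 lc_e_rc_18_1 lc_e_Cert_tree lc_e_rc_18_1 lc_e_rc_18_1 lc_e_rc_13_1 lc_e_rc_9_1 lc_e_rc_13_3 lc_e_rc_18_1 lc_e_rc_18_1 lc_e_rc_4_3 lc_e_rc_16_5 lc_e_rc_27_7 lc_e_Cert_tree lc_e_Cert_tree lc_e_rc_18_1 lc_e_rc_13_1 lc_e_rc_27_1 lc_e_rc_9_1 lc_e_Cert_tree lc_e_rc_16_1 lc_e_rc_18_1 lc_e_rc_27_5 lc_e_rc_13_3 lc_e_rc_9_3 lc_e_rc_4_3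 lc_e_rc_18_1 lc_e_rc_4_3 lc_e_Cert_tree lc_e_Cert_tree lc_e_rc_13_1 lc_e_rc_18_1 lc_e_rc_13_1 lc_e_rc_13_1 lc_e_rc_18_1 lc_e_rc_27_1 lc_e_rc_9_1 lc_e_Cert_tree lc_e_rc_18_1 lc_e_rc_16_3 lc_e_rc_18_1 lc_e_rc_27_1 lc_e_rc_18_1 lc_e_Cert_tree lc_e_rc_4_3 lc_e_rc_16_1 lc_e_rc_27_5 lc_e_Cert_tree lc_e_rc_18_1 lc_e_rc_9_1 lc_e_rc_19_4 lc_e_rc_9_3 lc_e_rc_27_1 lc_e_rc_9_3 lc_e_rc_9_3 lc_e_rc_27_7 lc_e_rc_18_1 lc_e_Cert_tree lc_e_rc_9_3) (@D3.rec (fun _ => (Cert rels S Gen.e)) lc_e_rc_18_1 lc_e_rc_13_1 lc_e_rc_16_1 lc_e_rc_13_3 lc_e_rc_18_1 lc_e_Cert_tree lc_e_Cert_tree lc_e_rc_18_1 lc_e_rc_27_5 lc_e_rc_27_5 lc_e_rc_19_2 lc_e_rc_9_3 lc_e_rc_13_3 lc_e_Cert_tree lc_e_rc_18_1 lc_e_rc_13_1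 lc_e_rc_13_3 lc_e_rc_27_5 lc_e_Cert_tree lc_e_rc_18_1 lc_e_rc_4_3 lc_e_rc_19_4 lc_e_rc_9_3 lc_e_rc_27_5 lc_e_rc_18_1 lc_e_rc_27_1 lc_e_rc_18_1 lc_e_rc_18_1 lc_e_rc_27_5 lc_e_rc_16_3 lc_e_rc_19_2 lc_e_rc_9_1 lc_e_rc_13_1 lc_e_Cert_tree lc_e_rc_18_1 lc_e_rc_9_1 lc_e_rc_27_1 lc_e_rc_18_1 lc_e_rc_27_7 lc_e_rc_18_1 lc_e_rc_19_2 lc_e_rc_13_3 lc_e_rc_9_3 lc_e_rc_27_1 lc_e_rc_18_1 lc_e_rc_18_1 lc_e_rc_16_5 lc_e_rc_18_1 lc_e_Cert_tree lc_e_rc_18_1 lc_e_rc_27_1 lc_e_rc_18_1 lc_e_rc_4_1 lc_e_rc_27_7 lc_e_rc_16_3 lc_e_rc_9_3 lc_e_rc_18_1 lc_e_rc_4_3 lc_e_rc_13_3 lc_e_rc_27_1 lc_e_rc_18_1 lc_e_rc_13_3) (@D3.rec (fun _ => (Cert rels S Gen.e)) lc_e_rc_9_3 lc_e_Cert_tree lc_e_rc_4_3 lc_e_Cert_tree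 lc_e_rc_18_1 lc_e_rc_9_3 lc_e_rc_4_3 lc_e_rc_19_0 lc_e_rc_19_0 lc_e_rc_18_1 lc_e_rc_27_1 lc_e_rc_9_1 lc_e_rc_4_3 lc_e_rc_27_1 lc_e_rc_9_1 lc_e_rc_13_1 lc_e_rc_18_1 lc_e_rc_9_3 lc_e_rc_9_3 lc_e_rc_16_1 lc_e_rc_13_1 lc_e_rc_13_3 lc_e_rc_16_5 lc_e_rc_18_1 lc_e_Cert_tree lc_e_rc_18_1 lc_e_rc_13_1 lc_e_rc_18_1 lc_e_rc_27_5 lc_e_rc_18_1 lc_e_rc_18_1 lc_e_Cert_tree lc_e_rc_16_1 lc_e_rc_19_2 lc_e_rc_16_1 lc_e_rc_27_1 lc_e_rc_16_1 lc_e_rc_19_2 lc_e_rc_27_1 lc_e_rc_16_5 lc_e_rc_18_1 lc_e_rc_16_3 lc_e_rc_27_5 lc_e_rc_27_7 lc_e_rc_13_3 lc_e_Cert_tree lc_e_rc_18_1 lc_e_Cert_tree lc_e_rc_9_3 lc_e_rc_16_3 lc_e_Cert_tree lc_e_rc_9_3 lc_e_rc_18_1 lc_e_rc_9_3 lc_e_Cert_tree lc_e_Cert_tree lc_e_rc_9_1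 lc_e_rc_18_1 lc_e_rc_16_1 lc_e_rc_16_5 lc_e_rc_18_1 lc_e_Cert_tree) (@D3.rec (fun _ => (Cert rels S Gen.e)) lc_e_rc_18_1 lc_e_rc_16_1 lc_e_rc_16_3 lc_e_rc_16_3 lc_e_rc_13_1 lc_e_Cert_tree lc_e_rc_16_5 lc_e_rc_9_3 lc_e_rc_18_1 lc_e_rc_27_5 lc_e_rc_16_1 lc_e_rc_16_5 lc_e_rc_18_1 lc_e_rc_18_1 lc_e_rc_13_3 lc_e_rc_16_1 lc_e_rc_9_3 lc_e_rc_13_3 lc_e_Cert_tree lc_e_Cert_tree lc_e_rc_18_1 lc_e_rc_13_1 lc_e_rc_13_3 lc_e_rc_13_3 lc_e_rc_18_1 lc_e_rc_16_1 lc_e_Cert_tree lc_e_rc_13_3 lc_e_rc_18_1 lc_e_rc_9_1 lc_e_Cert_tree lc_e_rc_18_1 lc_e_rc_4_3 lc_e_Cert_tree lc_e_rc_13_3 lc_e_Cert_tree lc_e_rc_4_3 lc_e_rc_13_3 lc_e_Cert_tree lc_e_rc_18_1 lc_e_rc_9_1 lc_e_Cert_tree lc_e_rc_27_1 lc_e_rc_18_1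 lc_e_rc_9_1 lc_e_rc_9_3 lc_e_rc_27_5 lc_e_rc_18_1 lc_e_rc_16_5 lc_e_rc_4_1 lc_e_rc_13_3 lc_e_Cert_tree lc_e_rc_27_5 lc_e_Cert_tree lc_e_rc_19_2 lc_e_rc_18_1 lc_e_rc_18_1 lc_e_rc_27_7 lc_e_rc_18_1 lc_e_rc_27_5 lc_e_rc_4_1 lc_e_Cert_tree) (@D3.rec (fun _ => (Cert rels S Gen.e)) lc_e_rc_18_1 lc_e_rc_4_3 lc_e_rc_18_1 lc_e_rc_19_0 lc_e_rc_13_3 lc_e_Cert_tree lc_e_rc_16_5 lc_e_rc_18_1 lc_e_Cert_tree lc_e_rc_16_5 lc_e_rc_9_3 lc_e_rc_27_7 lc_e_Cert_tree lc_e_rc_18_1 lc_e_rc_19_0 lc_e_Cert_tree lc_e_rc_9_3 lc_e_rc_4_1 lc_e_rc_16_3 lc_e_rc_18_1 lc_e_rc_16_3 lc_e_rc_13_3 lc_e_rc_27_7 lc_e_rc_18_1 lc_e_rc_4_3 lc_e_rc_9_3 lc_e_rc_13_1 lc_e_rc_27_5 lc_e_rc_16_3 lc_e_rc_18_1 lc_e_rc_16_1 lc_e_rc_13_1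 lc_e_rc_4_3 lc_e_rc_18_1 lc_e_Cert_tree lc_e_rc_4_3 lc_e_rc_18_1 lc_e_rc_9_3 lc_e_rc_18_1 lc_e_Cert_tree lc_e_rc_18_1 lc_e_rc_27_1 lc_e_rc_16_3 lc_e_rc_4_3 lc_e_rc_18_1 lc_e_rc_13_3 lc_e_rc_13_3 lc_e_rc_13_3 lc_e_rc_16_5 lc_e_rc_27_7 lc_e_rc_27_1 lc_e_rc_18_1 lc_e_rc_13_3 lc_e_rc_18_1 lc_e_rc_27_1 lc_e_rc_9_3 lc_e_rc_18_1 lc_e_rc_27_5 lc_e_rc_16_3 lc_e_rc_9_3 lc_e_rc_16_1 lc_e_rc_4_3) (@D3.rec (fun _ => (Cert rels S Gen.e)) lc_e_Cert_tree lc_e_rc_18_1 lc_e_rc_16_5 lc_e_rc_9_3 lc_e_rc_18_1 lc_e_rc_16_5 lc_e_rc_16_5 lc_e_rc_18_1 lc_e_rc_4_1 lc_e_rc_9_1 lc_e_rc_16_3 lc_e_rc_18_1 lc_e_rc_18_1 lc_e_rc_18_1 lc_e_Cert_tree lc_e_rc_18_1 lc_e_rc_18_1 lc_e_rc_13_3 lc_e_rc_13_3 lc_e_Cert_tree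 lc_e_rc_18_1 lc_e_rc_18_1 lc_e_rc_27_5 lc_e_rc_16_5 lc_e_rc_18_1 lc_e_rc_27_5 lc_e_rc_18_1 lc_e_rc_16_1 lc_e_rc_16_3 lc_e_rc_18_1 lc_e_Cert_tree lc_e_rc_18_1 lc_e_rc_27_1 lc_e_rc_9_1 lc_e_rc_18_1 lc_e_rc_19_2 lc_e_rc_4_3 lc_e_Cert_tree lc_e_rc_18_1 lc_e_Cert_tree lc_e_rc_18_1 lc_e_rc_16_1 lc_e_rc_27_7 lc_e_Cert_tree lc_e_rc_18_1 lc_e_Cert_tree lc_e_rc_18_1 lc_e_rc_13_3 lc_e_rc_9_1 lc_e_rc_16_3 lc_e_rc_18_1 lc_e_rc_18_1 lc_e_rc_18_1 lc_e_rc_18_1 lc_e_rc_9_3 lc_e_rc_18_1 lc_e_rc_18_1 lc_e_Cert_tree lc_e_rc_16_1 lc_e_rc_9_1 lc_e_rc_16_5 lc_e_rc_4_3) (@D3.rec (fun _ => (Cert rels S Gen.e)) lc_e_rc_18_1 lc_e_rc_16_5 lc_e_Cert_tree lc_e_rc_18_1 lc_e_rc_18_1 lc_e_rc_13_1 lc_e_rc_18_1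 lc_e_rc_13_3 lc_e_rc_16_3 lc_e_rc_13_3 lc_e_rc_4_1 lc_e_rc_16_3 lc_e_rc_18_1 lc_e_Cert_tree lc_e_rc_16_5 lc_e_rc_18_1 lc_e_Cert_tree lc_e_rc_16_5 lc_e_rc_18_1 lc_e_rc_18_1 lc_e_rc_16_5 lc_e_rc_13_3 lc_e_rc_4_3 lc_e_rc_18_1 lc_e_rc_16_5 lc_e_rc_9_3 lc_e_rc_16_1 lc_e_rc_19_2 lc_e_rc_13_3 lc_e_rc_13_3 lc_e_rc_27_1 lc_e_rc_9_3 lc_e_rc_9_3 lc_e_rc_18_1 lc_e_rc_13_1 lc_e_Cert_tree lc_e_rc_18_1 lc_e_rc_13_3 lc_e_rc_9_3 lc_e_rc_16_3 lc_e_rc_27_5 lc_e_rc_18_1 lc_e_Cert_tree lc_e_rc_18_1 lc_e_rc_27_1 lc_e_rc_18_1 lc_e_rc_27_5 lc_e_rc_19_2 lc_e_rc_16_5 lc_e_rc_18_1 lc_e_rc_13_3 lc_e_rc_18_1 lc_e_rc_18_1 lc_e_rc_13_3 lc_e_rc_13_3 lc_e_rc_16_3 lc_e_rc_4_1 lc_e_rc_18_1 lc_e_rc_27_5 lc_e_rc_13_3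 lc_e_rc_16_3 lc_e_rc_9_3) (@D3.rec (fun _ => (Cert rels S Gen.e)) lc_e_rc_9_3 lc_e_rc_19_2 lc_e_rc_16_5 lc_e_rc_9_3 lc_e_rc_9_3 lc_e_rc_13_3 lc_e_rc_27_5 lc_e_rc_19_2 lc_e_Cert_tree lc_e_rc_19_4 lc_e_rc_18_1 lc_e_rc_18_1 lc_e_Cert_tree lc_e_rc_13_3 lc_e_Cert_tree lc_e_rc_18_1 lc_e_rc_9_3 lc_e_rc_18_1 lc_e_rc_27_7 lc_e_rc_18_1 lc_e_Cert_tree lc_e_Cert_tree lc_e_rc_18_1 lc_e_rc_9_3 lc_e_rc_18_1 lc_e_rc_9_3 lc_e_rc_18_1 lc_e_rc_18_1 lc_e_rc_13_3 lc_e_rc_27_1 lc_e_rc_16_1 lc_e_rc_9_3 lc_e_Cert_tree lc_e_rc_18_1 lc_e_rc_13_3 lc_e_rc_13_3 lc_e_rc_4_3 lc_e_rc_27_7 lc_e_rc_19_4 lc_e_rc_13_3 lc_e_Cert_tree lc_e_rc_19_2 lc_e_rc_18_1 lc_e_rc_18_1 lc_e_Cert_tree lc_e_rc_27_5 lc_e_rc_18_1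 lc_e_Cert_tree lc_e_rc_27_5 lc_e_rc_18_1 lc_e_rc_18_1 lc_e_rc_27_7 lc_e_rc_27_5 lc_e_rc_16_1 lc_e_rc_18_1 lc_e_rc_27_5 lc_e_rc_19_4 lc_e_rc_27_5 lc_e_rc_27_5 lc_e_rc_18_1 lc_e_rc_4_3 lc_e_rc_4_3) (@D3.rec (fun _ => (Cert rels S Gen.e)) lc_e_rc_27_1 lc_e_rc_27_5 lc_e_Cert_tree lc_e_rc_13_1 lc_e_rc_18_1 lc_e_rc_13_3 lc_e_rc_19_2 lc_e_rc_9_3 lc_e_rc_18_1 lc_e_rc_4_3 lc_e_rc_9_3 lc_e_rc_19_4 lc_e_rc_16_5 lc_e_rc_27_5 lc_e_rc_18_1 lc_e_rc_18_1 lc_e_rc_16_5 lc_e_rc_18_1 lc_e_rc_18_1 lc_e_rc_18_1 lc_e_rc_13_3 lc_e_rc_16_1 lc_e_rc_27_5 lc_e_rc_16_1 lc_e_Cert_tree lc_e_rc_18_1 lc_e_rc_18_1 lc_e_rc_4_3 lc_e_rc_18_1 lc_e_rc_4_3 lc_e_Cert_tree lc_e_rc_16_3 lc_e_rc_13_1 lc_e_Cert_tree lc_e_rc_18_1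 lc_e_rc_18_1 lc_e_rc_18_1 lc_e_rc_19_2 lc_e_rc_13_3 lc_e_rc_13_3 lc_e_rc_16_5 lc_e_rc_9_3 lc_e_rc_13_3 lc_e_rc_9_3 lc_e_rc_16_5 lc_e_Cert_tree lc_e_rc_18_1 lc_e_rc_16_5 lc_e_rc_18_1 lc_e_rc_9_3 lc_e_rc_18_1 lc_e_rc_18_1 lc_e_rc_18_1 lc_e_rc_13_3 lc_e_rc_9_3 lc_e_rc_18_1 lc_e_Cert_tree lc_e_rc_27_1 lc_e_rc_18_1 lc_e_rc_13_1 lc_e_rc_18_1 lc_e_Cert_tree) (@D3.rec (fun _ => (Cert rels S Gen.e)) lc_e_rc_18_1 lc_e_rc_13_3 lc_e_rc_16_5 lc_e_rc_16_1 lc_e_rc_19_2 lc_e_rc_9_3 lc_e_rc_18_1 lc_e_rc_13_3 lc_e_Cert_tree lc_e_rc_4_3 lc_e_rc_16_5 lc_e_Cert_tree lc_e_rc_16_5 lc_e_rc_18_1 lc_e_rc_18_1 lc_e_rc_4_3 lc_e_rc_16_5 lc_e_rc_13_3 lc_e_Cert_tree lc_e_rc_18_1 lc_e_rc_16_5 lc_e_rc_27_1 lc_e_rc_19_0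 lc_e_rc_27_7 lc_e_rc_18_1 lc_e_rc_27_5 lc_e_rc_18_1 lc_e_rc_16_5 lc_e_rc_27_5 lc_e_rc_27_5 lc_e_rc_27_1 lc_e_rc_18_1 lc_e_rc_16_5 lc_e_rc_18_1 lc_e_Cert_tree lc_e_rc_13_3 lc_e_rc_13_3 lc_e_rc_27_5 lc_e_rc_4_3 lc_e_rc_9_3 lc_e_Cert_tree lc_e_rc_18_1 lc_e_Cert_tree lc_e_rc_18_1 lc_e_rc_27_7 lc_e_rc_18_1 lc_e_rc_16_5 lc_e_rc_13_3 lc_e_rc_13_3 lc_e_Cert_tree lc_e_rc_18_1 lc_e_rc_18_1 lc_e_rc_27_5 lc_e_rc_16_1 lc_e_rc_19_4 lc_e_rc_13_3 lc_e_rc_27_1 lc_e_rc_13_1 lc_e_rc_18_1 lc_e_rc_18_1 lc_e_rc_16_5 lc_e_Cert_tree) (@D3.rec (fun _ => (Cert rels S Gen.e)) lc_e_Cert_tree lc_e_rc_18_1 lc_e_rc_16_5 lc_e_rc_18_1 lc_e_rc_4_3 lc_e_Cert_tree lc_e_rc_4_3 lc_e_rc_16_5 lc_e_rc_27_1 lc_e_rc_18_1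 lc_e_rc_18_1 lc_e_rc_9_1 lc_e_rc_18_1 lc_e_rc_18_1 lc_e_rc_18_1 lc_e_Cert_tree lc_e_rc_16_1 lc_e_rc_4_3 lc_e_Cert_tree lc_e_Cert_tree lc_e_rc_18_1 lc_e_rc_19_0 lc_e_Cert_tree lc_e_rc_18_1 lc_e_rc_16_3 lc_e_rc_18_1 lc_e_rc_13_3 lc_e_rc_27_7 lc_e_rc_16_5 lc_e_rc_13_1 lc_e_rc_18_1 lc_e_rc_13_1 lc_e_rc_13_1 lc_e_Cert_tree lc_e_rc_18_1 lc_e_rc_16_5 lc_e_rc_19_2 lc_e_rc_16_5 lc_e_rc_16_3 lc_e_Cert_tree lc_e_rc_18_1 lc_e_rc_18_1 lc_e_Cert_tree lc_e_rc_18_1 lc_e_rc_18_1 lc_e_rc_27_1 lc_e_rc_9_1 lc_e_rc_27_1 lc_e_rc_18_1 lc_e_rc_18_1 lc_e_rc_27_5 lc_e_rc_9_3 lc_e_Cert_tree lc_e_rc_18_1 lc_e_rc_18_1 lc_e_rc_18_1 lc_e_rc_18_1 lc_e_rc_18_1 lc_e_rc_9_3 lc_e_rc_4_3 lc_e_Cert_tree lc_e_rc_27_1)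 (@D3.rec (fun _ => (Cert rels S Gen.e)) lc_e_rc_18_1 lc_e_rc_16_1 lc_e_rc_18_1 lc_e_rc_13_3 lc_e_rc_13_3 lc_e_rc_27_5 lc_e_rc_18_1 lc_e_rc_16_3 lc_e_rc_27_1 lc_e_rc_13_3 lc_e_rc_13_1 lc_e_rc_18_1 lc_e_rc_13_3 lc_e_rc_9_3 lc_e_rc_4_3 lc_e_rc_16_3 lc_e_rc_27_5 lc_e_rc_18_1 lc_e_rc_13_1 lc_e_rc_18_1 lc_e_rc_13_3 lc_e_Cert_tree lc_e_rc_18_1 lc_e_rc_19_4 lc_e_rc_19_4 lc_e_rc_9_1 lc_e_Cert_tree lc_e_rc_18_1 lc_e_rc_19_4 lc_e_Cert_tree lc_e_rc_18_1 lc_e_rc_16_1 lc_e_rc_13_3 lc_e_rc_13_3 lc_e_rc_9_1 lc_e_rc_9_3 lc_e_rc_13_3 lc_e_rc_16_5 lc_e_rc_18_1 lc_e_rc_9_1 lc_e_Cert_tree lc_e_Cert_tree lc_e_rc_18_1 lc_e_rc_13_3 lc_e_rc_13_3 lc_e_rc_18_1 lc_e_rc_18_1 lc_e_rc_16_3 lc_e_rc_16_3 lc_e_rc_16_5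 lc_e_rc_27_5 lc_e_rc_16_1 lc_e_rc_16_5 lc_e_rc_18_1 lc_e_rc_16_3 lc_e_Cert_tree lc_e_rc_18_1 lc_e_rc_27_7 lc_e_rc_9_3 lc_e_rc_18_1 lc_e_Cert_tree lc_e_rc_18_1) (@D3.rec (fun _ => (Cert rels S Gen.e)) lc_e_rc_16_3 lc_e_rc_18_1 lc_e_rc_9_3 lc_e_rc_4_3 lc_e_rc_18_1 lc_e_Cert_tree lc_e_rc_9_1 lc_e_rc_27_5 lc_e_rc_18_1 lc_e_rc_13_1 lc_e_Cert_tree lc_e_rc_18_1 lc_e_Cert_tree lc_e_rc_27_5 lc_e_rc_18_1 lc_e_rc_18_1 lc_e_Cert_tree lc_e_rc_13_3 lc_e_Cert_tree lc_e_Cert_tree lc_e_rc_18_1 lc_e_rc_27_1 lc_e_rc_27_5 lc_e_rc_9_3 lc_e_rc_18_1 lc_e_rc_9_3 lc_e_rc_18_1 lc_e_rc_16_5 lc_e_rc_18_1 lc_e_Cert_tree lc_e_rc_18_1 lc_e_rc_18_1 lc_e_rc_18_1 lc_e_rc_19_2 lc_e_rc_19_4 lc_e_rc_9_3 lc_e_rc_13_3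 lc_e_rc_18_1 lc_e_rc_16_1 lc_e_rc_19_4 lc_e_rc_9_1 lc_e_Cert_tree lc_e_rc_18_1 lc_e_Cert_tree lc_e_rc_16_3 lc_e_rc_13_3 lc_e_Cert_tree lc_e_rc_16_3 lc_e_Cert_tree lc_e_rc_18_1 lc_e_Cert_tree lc_e_rc_27_1 lc_e_Cert_tree lc_e_Cert_tree lc_e_rc_18_1 lc_e_rc_4_3 lc_e_rc_16_3 lc_e_rc_19_4 lc_e_rc_4_3 lc_e_rc_13_1 lc_e_rc_18_1 lc_e_rc_18_1) (@D3.rec (fun _ => (Cert rels S Gen.e)) lc_e_Cert_tree lc_e_rc_18_1 lc_e_Cert_tree lc_e_rc_27_5 lc_e_Cert_tree lc_e_rc_18_1 lc_e_rc_16_5 lc_e_rc_13_3 lc_e_rc_16_1 lc_e_rc_19_4 lc_e_rc_19_2 lc_e_rc_18_1 lc_e_rc_16_1 lc_e_rc_19_4 lc_e_Cert_tree lc_e_rc_9_3 lc_e_rc_18_1 lc_e_rc_13_3 lc_e_rc_16_3 lc_e_rc_19_2 lc_e_Cert_tree lc_e_rc_13_3 lc_e_rc_13_1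 lc_e_rc_9_1 lc_e_rc_18_1 lc_e_rc_13_3 lc_e_Cert_tree lc_e_Cert_tree lc_e_rc_18_1 lc_e_rc_9_1 lc_e_rc_18_1 lc_e_Cert_tree lc_e_rc_18_1 lc_e_rc_19_2 lc_e_rc_4_3 lc_e_rc_18_1 lc_e_rc_18_1 lc_e_rc_18_1 lc_e_rc_16_1 lc_e_rc_13_1 lc_e_rc_18_1 lc_e_rc_18_1 lc_e_rc_16_1 lc_e_rc_19_4 lc_e_rc_19_4 lc_e_rc_13_3 lc_e_Cert_tree lc_e_rc_19_4 lc_e_rc_19_0 lc_e_rc_18_1 lc_e_rc_18_1 lc_e_Cert_tree lc_e_rc_18_1 lc_e_Cert_tree lc_e_rc_13_3 lc_e_rc_9_1 lc_e_rc_18_1 lc_e_rc_18_1 lc_e_rc_16_1 lc_e_rc_13_1 lc_e_rc_18_1 lc_e_rc_16_1) (@D3.rec (fun _ => (Cert rels S Gen.e)) lc_e_rc_19_4 lc_e_rc_27_5 lc_e_Cert_tree lc_e_rc_13_3 lc_e_rc_18_1 lc_e_rc_18_1 lc_e_rc_16_3 lc_e_rc_16_5 lc_e_rc_27_7 lc_e_rc_18_1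 lc_e_rc_18_1 lc_e_rc_13_3 lc_e_rc_16_1 lc_e_rc_19_4 lc_e_rc_4_1 lc_e_rc_18_1 lc_e_Cert_tree lc_e_rc_4_3 lc_e_rc_9_3 lc_e_rc_18_1 lc_e_rc_9_3 lc_e_rc_18_1 lc_e_rc_18_1 lc_e_Cert_tree lc_e_Cert_tree lc_e_rc_16_3 lc_e_rc_18_1 lc_e_rc_13_3 lc_e_Cert_tree lc_e_Cert_tree lc_e_Cert_tree lc_e_rc_18_1 lc_e_Cert_tree lc_e_rc_18_1 lc_e_rc_13_1 lc_e_rc_18_1 lc_e_rc_13_3 lc_e_rc_16_3 lc_e_rc_27_5 lc_e_rc_9_3 lc_e_rc_19_0 lc_e_rc_27_1 lc_e_rc_27_1 lc_e_rc_18_1 lc_e_rc_13_1 lc_e_rc_9_3 lc_e_rc_27_1 lc_e_rc_19_2 lc_e_rc_18_1 lc_e_rc_27_1 lc_e_rc_16_5 lc_e_rc_27_7 lc_e_Cert_tree lc_e_rc_9_3 lc_e_rc_18_1 lc_e_rc_13_3 lc_e_rc_16_3 lc_e_rc_18_1 lc_e_Cert_tree lc_e_rc_18_1 lc_e_rc_9_3 lc_e_rc_13_3)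 (@D3.rec (fun _ => (Cert rels S Gen.e)) lc_e_rc_18_1 lc_e_rc_9_3 lc_e_rc_18_1 lc_e_Cert_tree lc_e_rc_18_1 lc_e_rc_27_5 lc_e_rc_9_3 lc_e_Cert_tree lc_e_rc_18_1 lc_e_rc_18_1 lc_e_rc_18_1 lc_e_rc_18_1 lc_e_rc_27_7 lc_e_rc_27_7 lc_e_rc_13_3 lc_e_rc_4_1 lc_e_Cert_tree lc_e_rc_4_3 lc_e_rc_13_3 lc_e_rc_18_1 lc_e_rc_27_5 lc_e_rc_18_1 lc_e_Cert_tree lc_e_rc_18_1 lc_e_rc_16_5 lc_e_rc_16_1 lc_e_rc_18_1 lc_e_rc_18_1 lc_e_Cert_tree lc_e_rc_27_5 lc_e_rc_18_1 lc_e_rc_9_1 lc_e_rc_27_1 lc_e_rc_27_5 lc_e_rc_27_1 lc_e_Cert_tree lc_e_rc_18_1 lc_e_rc_13_1 lc_e_rc_27_1 lc_e_rc_19_2 lc_e_rc_9_3 lc_e_rc_13_3 lc_e_rc_9_1 lc_e_rc_18_1 lc_e_rc_9_1 lc_e_rc_9_3 lc_e_Cert_tree lc_e_rc_13_1 lc_e_rc_13_3 lc_e_rc_16_3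 lc_e_rc_18_1 lc_e_rc_18_1 lc_e_rc_13_3 lc_e_rc_16_1 lc_e_rc_19_4 lc_e_rc_16_5 lc_e_Cert_tree lc_e_rc_9_3 lc_e_rc_18_1 lc_e_rc_16_3 lc_e_rc_18_1 lc_e_Cert_tree) (@D3.rec (fun _ => (Cert rels S Gen.e)) lc_e_rc_18_1 lc_e_Cert_tree lc_e_rc_18_1 lc_e_Cert_tree lc_e_rc_18_1 lc_e_rc_18_1 lc_e_rc_4_3 lc_e_rc_16_1 lc_e_rc_19_4 lc_e_Cert_tree lc_e_Cert_tree lc_e_rc_16_1 lc_e_rc_19_4 lc_e_rc_9_3 lc_e_rc_27_1 lc_e_rc_9_1 lc_e_rc_9_3 lc_e_rc_18_1 lc_e_rc_27_5 lc_e_rc_27_1 lc_e_rc_27_1 lc_e_Cert_tree lc_e_rc_13_3 lc_e_rc_9_3 lc_e_rc_18_1 lc_e_rc_13_3 lc_e_Cert_tree lc_e_rc_13_3 lc_e_rc_13_3 lc_e_rc_18_1 lc_e_rc_13_1 lc_e_rc_18_1 lc_e_rc_27_5 lc_e_rc_19_4 lc_e_rc_9_3 lc_e_rc_13_3 lc_e_rc_27_5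 lc_e_rc_27_5 lc_e_rc_27_1 lc_e_rc_18_1 lc_e_rc_13_3 lc_e_rc_9_3 lc_e_rc_19_2 lc_e_Cert_tree lc_e_rc_16_5 lc_e_rc_18_1 lc_e_rc_27_1 lc_e_rc_27_5 lc_e_rc_18_1 lc_e_Cert_tree lc_e_rc_13_3 lc_e_rc_18_1 lc_e_rc_16_5 lc_e_rc_13_3 lc_e_rc_16_5 lc_e_rc_18_1 lc_e_rc_27_7 lc_e_rc_27_7 lc_e_rc_16_1 lc_e_rc_4_1 lc_e_rc_16_5 lc_e_rc_27_7) (@D3.rec (fun _ => (Cert rels S Gen.e)) lc_e_rc_4_3 lc_e_rc_27_5 lc_e_rc_18_1 lc_e_rc_16_1 lc_e_rc_19_2 lc_e_rc_13_1 lc_e_rc_27_5 lc_e_rc_18_1 lc_e_rc_4_3 lc_e_rc_18_1 lc_e_rc_18_1 lc_e_rc_13_1 lc_e_rc_16_1 lc_e_rc_19_4 lc_e_rc_18_1 lc_e_rc_27_7 lc_e_rc_18_1 lc_e_rc_16_1 lc_e_rc_19_0 lc_e_rc_9_3 lc_e_Cert_tree lc_e_rc_27_7 lc_e_rc_27_7 lc_e_rc_18_1 lc_e_rc_27_7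 lc_e_Cert_tree lc_e_Cert_tree lc_e_rc_4_3 lc_e_rc_13_3 lc_e_rc_18_1 lc_e_rc_4_1 lc_e_rc_9_3 lc_e_rc_13_3 lc_e_rc_13_3 lc_e_Cert_tree lc_e_rc_18_1 lc_e_rc_18_1 lc_e_rc_27_5 lc_e_rc_18_1 lc_e_rc_19_2 lc_e_rc_18_1 lc_e_rc_9_3 lc_e_rc_13_3 lc_e_rc_16_5 lc_e_Cert_tree lc_e_rc_19_2 lc_e_rc_27_5 lc_e_rc_18_1 lc_e_rc_19_4 lc_e_rc_13_3 lc_e_rc_18_1 lc_e_rc_19_4 lc_e_rc_13_3 lc_e_rc_13_3 lc_e_rc_13_1 lc_e_rc_18_1 lc_e_rc_18_1 lc_e_rc_18_1 lc_e_rc_16_3 lc_e_rc_4_1 lc_e_rc_27_5 lc_e_rc_18_1)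
def ce_e_20 : D2 → D3 → (Cert rels S Gen.e) := @D2.rec (fun _ => D3 → (Cert rels S Gen.e)) (@D3.rec (fun _ => (Cert rels S Gen.e)) lc_e_rc_18_1 lc_e_rc_18_1 lc_e_rc_9_3 lc_e_rc_18_1 lc_e_rc_18_1 lc_e_rc_18_1 lc_e_rc_27_5 lc_e_rc_27_5 lc_e_rc_13_3 lc_e_rc_9_1 lc_e_rc_18_1 lc_e_rc_9_1 lc_e_rc_19_4 lc_e_rc_18_1 lc_e_rc_27_7 lc_e_rc_18_1 lc_e_rc_16_5 lc_e_rc_13_1 lc_e_rc_18_1 lc_e_rc_19_4 lc_e_rc_18_1 lc_e_rc_18_1 lc_e_rc_18_1 lc_e_rc_18_1 lc_e_rc_18_1 lc_e_rc_16_1 lc_e_rc_18_1 lc_e_rc_19_4 lc_e_rc_9_1 lc_e_rc_16_3 lc_e_rc_18_1 lc_e_rc_13_1 lc_e_rc_27_7 lc_e_rc_18_1 lc_e_rc_16_1 lc_e_rc_13_3 lc_e_rc_27_5 lc_e_rc_18_1 lc_e_rc_4_3 lc_e_rc_16_1 lc_e_rc_19_4 lc_e_rc_27_5 lc_e_rc_27_7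 lc_e_rc_4_3 lc_e_rc_4_1 lc_e_Cert_tree lc_e_rc_18_1 lc_e_rc_18_1 lc_e_rc_18_1 lc_e_rc_13_3 lc_e_rc_19_0 lc_e_rc_19_4 lc_e_rc_13_3 lc_e_rc_9_1 lc_e_rc_18_1 lc_e_rc_18_1 lc_e_rc_13_3 lc_e_rc_13_1 lc_e_rc_18_1 lc_e_rc_9_3 lc_e_rc_27_1 lc_e_rc_27_7) (@D3.rec (fun _ => (Cert rels S Gen.e)) lc_e_rc_18_1 lc_e_rc_16_3 lc_e_rc_18_1 lc_e_rc_18_1 lc_e_rc_16_5 lc_e_rc_9_3 lc_e_rc_13_1 lc_e_rc_13_1 lc_e_rc_18_1 lc_e_rc_18_1 lc_e_rc_13_3 lc_e_Cert_tree lc_e_rc_16_3 lc_e_rc_18_1 lc_e_rc_18_1 lc_e_rc_13_1 lc_e_rc_27_5 lc_e_rc_18_1 lc_e_rc_18_1 lc_e_rc_16_1 lc_e_Cert_tree lc_e_rc_18_1 lc_e_rc_16_5 lc_e_rc_18_1 lc_e_rc_18_1 lc_e_rc_16_5 lc_e_rc_16_1 lc_e_rc_4_1 lc_e_rc_13_1 lc_e_rc_27_1 lc_e_rc_18_1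 lc_e_rc_18_1 lc_e_rc_13_3 lc_e_rc_19_0 lc_e_rc_18_1 lc_e_rc_18_1 lc_e_rc_4_3 lc_e_rc_27_1 lc_e_rc_18_1 lc_e_rc_18_1 lc_e_Cert_tree lc_e_Cert_tree lc_e_rc_9_3 lc_e_rc_13_3 lc_e_rc_18_1 lc_e_rc_18_1 lc_e_rc_13_3 lc_e_Cert_tree lc_e_rc_18_1 lc_e_Cert_tree lc_e_rc_9_3 lc_e_rc_16_3 lc_e_rc_16_3 lc_e_rc_18_1 lc_e_Cert_tree lc_e_rc_18_1 lc_e_rc_27_7 lc_e_rc_9_3 lc_e_rc_18_1 lc_e_rc_18_1 lc_e_Cert_tree lc_e_rc_19_4) (@D3.rec (fun _ => (Cert rels S Gen.e)) lc_e_rc_18_1 lc_e_rc_13_3 lc_e_rc_18_1 lc_e_rc_18_1 lc_e_rc_9_1 lc_e_rc_9_3 lc_e_rc_13_1 lc_e_rc_18_1 lc_e_rc_13_1 lc_e_rc_13_1 lc_e_Cert_tree lc_e_rc_18_1 lc_e_Cert_tree lc_e_rc_18_1 lc_e_rc_18_1 lc_e_rc_18_1 lc_e_Cert_tree lc_e_rc_16_3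 lc_e_rc_9_3 lc_e_rc_9_3 lc_e_rc_16_5 lc_e_rc_19_2 lc_e_rc_19_4 lc_e_rc_18_1 lc_e_Cert_tree lc_e_rc_16_3 lc_e_rc_13_3 lc_e_Cert_tree lc_e_rc_27_1 lc_e_rc_18_1 lc_e_rc_18_1 lc_e_Cert_tree lc_e_rc_13_3 lc_e_rc_16_3 lc_e_rc_9_3 lc_e_rc_19_2 lc_e_rc_27_7 lc_e_rc_9_1 lc_e_rc_16_3 lc_e_rc_18_1 lc_e_rc_13_3 lc_e_Cert_tree lc_e_rc_13_3 lc_e_rc_27_5 lc_e_rc_19_4 lc_e_rc_16_5 lc_e_rc_18_1 lc_e_rc_4_3 lc_e_rc_9_3 lc_e_Cert_tree lc_e_rc_16_3 lc_e_rc_19_4 lc_e_rc_18_1 lc_e_Cert_tree lc_e_rc_13_3 lc_e_Cert_tree lc_e_Cert_tree lc_e_rc_18_1 lc_e_rc_27_1 lc_e_rc_18_1 lc_e_rc_18_1 lc_e_Cert_tree) (@D3.rec (fun _ => (Cert rels S Gen.e)) lc_e_rc_16_5 lc_e_rc_16_3 lc_e_rc_9_3 lc_e_Cert_tree lc_e_rc_13_3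 lc_e_Cert_tree lc_e_Cert_tree lc_e_rc_18_1 lc_e_rc_18_1 lc_e_rc_27_1 lc_e_rc_16_3 lc_e_rc_27_5 lc_e_rc_4_1 lc_e_Cert_tree lc_e_rc_18_1 lc_e_rc_27_7 lc_e_rc_16_3 lc_e_rc_19_4 lc_e_Cert_tree lc_e_rc_13_3 lc_e_rc_18_1 lc_e_rc_27_7 lc_e_rc_18_1 lc_e_rc_13_3 lc_e_rc_13_3 lc_e_rc_9_3 lc_e_Cert_tree lc_e_rc_27_7 lc_e_rc_18_1 lc_e_Cert_tree lc_e_rc_9_3 lc_e_rc_27_1 lc_e_rc_18_1 lc_e_rc_16_3 lc_e_rc_18_1 lc_e_rc_27_7 lc_e_Cert_tree lc_e_rc_18_1 lc_e_rc_19_4 lc_e_rc_27_1 lc_e_rc_19_4 lc_e_rc_13_3 lc_e_rc_9_3 lc_e_rc_13_3 lc_e_rc_9_3 lc_e_rc_13_3 lc_e_rc_27_5 lc_e_Cert_tree lc_e_rc_18_1 lc_e_Cert_tree lc_e_rc_9_3 lc_e_rc_27_7 lc_e_rc_18_1 lc_e_rc_13_3 lc_e_rc_4_3 lc_e_Cert_tree lc_e_Cert_tree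 lc_e_rc_18_1 lc_e_rc_9_1 lc_e_Cert_tree lc_e_rc_13_1 lc_e_rc_9_1) (@D3.rec (fun _ => (Cert rels S Gen.e)) lc_e_rc_27_7 lc_e_rc_27_5 lc_e_rc_13_3 lc_e_rc_13_3 lc_e_rc_9_3 lc_e_Cert_tree lc_e_rc_13_3 lc_e_rc_13_3 lc_e_rc_16_1 lc_e_Cert_tree lc_e_rc_18_1 lc_e_rc_13_1 lc_e_rc_9_3 lc_e_rc_18_1 lc_e_rc_27_7 lc_e_rc_18_1 lc_e_rc_18_1 lc_e_rc_13_1 lc_e_rc_19_4 lc_e_rc_19_2 lc_e_rc_18_1 lc_e_rc_13_1 lc_e_rc_27_7 lc_e_rc_18_1 lc_e_rc_18_1 lc_e_rc_18_1 lc_e_rc_27_1 lc_e_rc_16_1 lc_e_rc_27_5 lc_e_rc_16_5 lc_e_rc_19_4 lc_e_rc_27_1 lc_e_rc_18_1 lc_e_rc_18_1 lc_e_Cert_tree lc_e_rc_18_1 lc_e_Cert_tree lc_e_rc_18_1 lc_e_rc_18_1 lc_e_rc_16_1 lc_e_rc_19_4 lc_e_rc_18_1 lc_e_rc_13_3 lc_e_rc_16_1 lc_e_rc_19_4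 lc_e_rc_4_3 lc_e_rc_9_3 lc_e_rc_18_1 lc_e_rc_18_1 lc_e_rc_16_5 lc_e_rc_19_4 lc_e_Cert_tree lc_e_rc_27_5 lc_e_rc_18_1 lc_e_rc_4_3 lc_e_Cert_tree lc_e_rc_27_5 lc_e_rc_18_1 lc_e_rc_16_3 lc_e_rc_18_1 lc_e_rc_18_1 lc_e_rc_18_1) (@D3.rec (fun _ => (Cert rels S Gen.e)) lc_e_rc_18_1 lc_e_rc_9_3 lc_e_rc_9_3 lc_e_rc_16_5 lc_e_rc_13_3 lc_e_rc_9_3 lc_e_rc_9_3 lc_e_rc_13_3 lc_e_rc_4_3 lc_e_Cert_tree lc_e_rc_18_1 lc_e_rc_27_7 lc_e_rc_19_0 lc_e_rc_18_1 lc_e_rc_16_3 lc_e_rc_9_3 lc_e_Cert_tree lc_e_rc_18_1 lc_e_rc_13_3 lc_e_rc_13_3 lc_e_rc_16_1 lc_e_rc_9_1 lc_e_rc_19_0 lc_e_rc_18_1 lc_e_rc_18_1 lc_e_rc_13_1 lc_e_rc_18_1 lc_e_rc_16_3 lc_e_rc_13_3 lc_e_rc_16_5 lc_e_rc_18_1 lc_e_rc_4_3 lc_e_rc_27_5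 lc_e_rc_18_1 lc_e_rc_27_5 lc_e_Cert_tree lc_e_rc_18_1 lc_e_rc_13_1 lc_e_rc_27_7 lc_e_rc_18_1 lc_e_rc_9_3 lc_e_rc_16_5 lc_e_rc_13_3 lc_e_rc_19_2 lc_e_rc_4_1 lc_e_rc_18_1 lc_e_rc_18_1 lc_e_rc_18_1 lc_e_rc_27_5 lc_e_rc_9_3 lc_e_rc_4_1 lc_e_rc_18_1 lc_e_rc_18_1 lc_e_rc_18_1 lc_e_rc_9_1 lc_e_rc_18_1 lc_e_rc_27_5 lc_e_rc_9_3 lc_e_rc_9_3 lc_e_Cert_tree lc_e_rc_19_4 lc_e_rc_13_3) (@D3.rec (fun _ => (Cert rels S Gen.e)) lc_e_rc_9_3 lc_e_rc_27_7 lc_e_rc_19_0 lc_e_rc_27_5 lc_e_rc_18_1 lc_e_rc_18_1 lc_e_rc_4_1 lc_e_Cert_tree lc_e_rc_27_7 lc_e_rc_19_2 lc_e_rc_13_3 lc_e_rc_19_2 lc_e_rc_18_1 lc_e_rc_18_1 lc_e_rc_19_4 lc_e_rc_18_1 lc_e_Cert_tree lc_e_rc_4_1 lc_e_rc_9_3 lc_e_rc_18_1 lc_e_rc_13_1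 lc_e_rc_19_4 lc_e_rc_18_1 lc_e_rc_9_3 lc_e_Cert_tree lc_e_rc_18_1 lc_e_rc_18_1 lc_e_rc_27_7 lc_e_rc_18_1 lc_e_rc_27_1 lc_e_rc_18_1 lc_e_rc_16_5 lc_e_rc_27_1 lc_e_rc_9_3 lc_e_rc_16_3 lc_e_rc_13_1 lc_e_Cert_tree lc_e_rc_18_1 lc_e_rc_4_3 lc_e_Cert_tree lc_e_rc_18_1 lc_e_rc_18_1 lc_e_rc_27_5 lc_e_rc_18_1 lc_e_rc_19_4 lc_e_rc_9_3 lc_e_rc_19_0 lc_e_rc_4_1 lc_e_rc_18_1 lc_e_rc_27_5 lc_e_rc_16_5 lc_e_rc_27_5 lc_e_rc_9_1 lc_e_rc_18_1 lc_e_rc_9_1 lc_e_rc_9_3 lc_e_rc_4_3 lc_e_rc_19_4 lc_e_rc_13_1 lc_e_rc_27_5 lc_e_rc_13_1 lc_e_rc_13_3) (@D3.rec (fun _ => (Cert rels S Gen.e)) lc_e_rc_13_1 lc_e_Cert_tree lc_e_rc_18_1 lc_e_rc_19_4 lc_e_rc_27_5 lc_e_Cert_tree lc_e_rc_18_1 lc_e_rc_18_1 lc_e_rc_18_1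 lc_e_rc_27_5 lc_e_rc_16_3 lc_e_rc_16_5 lc_e_rc_27_5 lc_e_rc_13_1 lc_e_rc_13_3 lc_e_rc_13_1 lc_e_rc_18_1 lc_e_rc_13_3 lc_e_rc_18_1 lc_e_rc_16_1 lc_e_rc_19_2 lc_e_rc_27_5 lc_e_rc_16_5 lc_e_rc_18_1 lc_e_rc_16_5 lc_e_rc_27_5 lc_e_rc_19_4 lc_e_rc_13_3 lc_e_Cert_tree lc_e_Cert_tree lc_e_rc_16_3 lc_e_rc_18_1 lc_e_rc_9_3 lc_e_rc_13_1 lc_e_rc_13_3 lc_e_Cert_tree lc_e_rc_18_1 lc_e_rc_16_5 lc_e_rc_13_3 lc_e_rc_16_5 lc_e_Cert_tree lc_e_Cert_tree lc_e_rc_18_1 lc_e_rc_9_1 lc_e_rc_18_1 lc_e_rc_9_1 lc_e_rc_18_1 lc_e_rc_9_1 lc_e_rc_9_3 lc_e_rc_18_1 lc_e_rc_16_1 lc_e_rc_13_3 lc_e_rc_18_1 lc_e_rc_13_3 lc_e_rc_18_1 lc_e_rc_19_4 lc_e_rc_27_7 lc_e_rc_9_3 lc_e_rc_27_7 lc_e_rc_18_1 lc_e_rc_4_3 lc_e_rc_16_1)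 (@D3.rec (fun _ => (Cert rels S Gen.e)) lc_e_rc_13_1 lc_e_rc_4_3 lc_e_rc_16_5 lc_e_rc_16_5 lc_e_rc_13_3 lc_e_rc_13_3 lc_e_rc_27_1 lc_e_rc_27_7 lc_e_rc_9_3 lc_e_rc_19_4 lc_e_Cert_tree lc_e_rc_18_1 lc_e_rc_27_1 lc_e_rc_9_1 lc_e_rc_27_7 lc_e_Cert_tree lc_e_rc_18_1 lc_e_rc_9_3 lc_e_Cert_tree lc_e_rc_4_1 lc_e_rc_9_3 lc_e_rc_18_1 lc_e_rc_18_1 lc_e_rc_16_3 lc_e_rc_13_1 lc_e_rc_18_1 lc_e_rc_13_3 lc_e_rc_18_1 lc_e_rc_19_0 lc_e_rc_18_1 lc_e_rc_27_1 lc_e_rc_9_1 lc_e_rc_18_1 lc_e_rc_16_1 lc_e_rc_18_1 lc_e_rc_18_1 lc_e_rc_18_1 lc_e_rc_16_1 lc_e_rc_16_1 lc_e_rc_18_1 lc_e_rc_4_3 lc_e_Cert_tree lc_e_rc_4_1 lc_e_Cert_tree lc_e_rc_18_1 lc_e_rc_18_1 lc_e_rc_27_7 lc_e_rc_27_1 lc_e_rc_27_5 lc_e_rc_16_5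 lc_e_Cert_tree lc_e_rc_18_1 lc_e_rc_16_1 lc_e_rc_19_4 lc_e_rc_18_1 lc_e_rc_19_2 lc_e_rc_18_1 lc_e_Cert_tree lc_e_Cert_tree lc_e_rc_19_2 lc_e_rc_27_1 lc_e_rc_13_3) (@D3.rec (fun _ => (Cert rels S Gen.e)) lc_e_rc_19_0 lc_e_rc_18_1 lc_e_rc_13_3 lc_e_rc_16_3 lc_e_Cert_tree lc_e_rc_16_5 lc_e_rc_9_3 lc_e_rc_9_1 lc_e_rc_18_1 lc_e_Cert_tree lc_e_rc_18_1 lc_e_rc_13_3 lc_e_rc_9_3 lc_e_rc_27_5 lc_e_rc_13_1 lc_e_rc_18_1 lc_e_rc_4_3 lc_e_rc_13_3 lc_e_rc_19_0 lc_e_rc_9_3 lc_e_rc_27_7 lc_e_rc_16_3 lc_e_Cert_tree lc_e_rc_27_7 lc_e_rc_19_4 lc_e_rc_18_1 lc_e_rc_18_1 lc_e_Cert_tree lc_e_rc_18_1 lc_e_rc_19_4 lc_e_rc_18_1 lc_e_rc_19_4 lc_e_rc_13_3 lc_e_rc_13_3 lc_e_rc_19_4 lc_e_Cert_tree lc_e_rc_18_1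 lc_e_rc_19_2 lc_e_rc_4_3 lc_e_rc_4_1 lc_e_rc_27_5 lc_e_rc_18_1 lc_e_rc_16_5 lc_e_rc_18_1 lc_e_rc_4_3 lc_e_rc_27_1 lc_e_rc_18_1 lc_e_rc_27_1 lc_e_rc_19_0 lc_e_rc_4_1 lc_e_rc_18_1 lc_e_rc_9_1 lc_e_rc_18_1 lc_e_rc_9_3 lc_e_rc_13_3 lc_e_rc_4_3 lc_e_rc_16_5 lc_e_rc_19_4 lc_e_rc_13_3 lc_e_rc_9_3 lc_e_rc_27_1 lc_e_rc_9_1) (@D3.rec (fun _ => (Cert rels S Gen.e)) lc_e_rc_18_1 lc_e_rc_27_7 lc_e_rc_9_3 lc_e_rc_27_5 lc_e_Cert_tree lc_e_rc_16_1 lc_e_rc_9_3 lc_e_rc_13_3 lc_e_Cert_tree lc_e_Cert_tree lc_e_rc_18_1 lc_e_Cert_tree lc_e_rc_4_3 lc_e_Cert_tree lc_e_rc_18_1 lc_e_rc_13_1 lc_e_rc_27_1 lc_e_rc_16_1 lc_e_rc_13_3 lc_e_rc_18_1 lc_e_rc_27_7 lc_e_Cert_tree lc_e_rc_9_3 lc_e_rc_4_1 lc_e_Cert_tree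 lc_e_rc_13_3 lc_e_rc_13_3 lc_e_Cert_tree lc_e_rc_18_1 lc_e_rc_18_1 lc_e_rc_27_5 lc_e_rc_13_3 lc_e_rc_13_3 lc_e_rc_19_4 lc_e_rc_9_1 lc_e_Cert_tree lc_e_rc_18_1 lc_e_rc_18_1 lc_e_rc_27_7 lc_e_Cert_tree lc_e_rc_18_1 lc_e_rc_13_1 lc_e_rc_18_1 lc_e_rc_19_4 lc_e_rc_13_1 lc_e_Cert_tree lc_e_rc_18_1 lc_e_rc_27_5 lc_e_rc_18_1 lc_e_rc_19_2 lc_e_rc_18_1 lc_e_rc_19_4 lc_e_Cert_tree lc_e_Cert_tree lc_e_rc_18_1 lc_e_rc_18_1 lc_e_rc_18_1 lc_e_rc_19_4 lc_e_rc_13_3 lc_e_Cert_tree lc_e_rc_18_1 lc_e_rc_19_4) (@D3.rec (fun _ => (Cert rels S Gen.e)) lc_e_rc_13_3 lc_e_rc_4_3 lc_e_rc_18_1 lc_e_rc_27_5 lc_e_Cert_tree lc_e_rc_18_1 lc_e_rc_9_3 lc_e_rc_16_1 lc_e_rc_19_4 lc_e_rc_13_3 lc_e_rc_18_1 lc_e_rc_18_1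 lc_e_Cert_tree lc_e_Cert_tree lc_e_rc_16_1 lc_e_rc_27_7 lc_e_rc_18_1 lc_e_Cert_tree lc_e_Cert_tree lc_e_rc_18_1 lc_e_Cert_tree lc_e_rc_18_1 lc_e_Cert_tree lc_e_rc_18_1 lc_e_rc_19_2 lc_e_Cert_tree lc_e_rc_4_1 lc_e_Cert_tree lc_e_rc_18_1 lc_e_rc_9_3 lc_e_Cert_tree lc_e_rc_18_1 lc_e_rc_13_3 lc_e_rc_18_1 lc_e_rc_16_1 lc_e_rc_19_4 lc_e_rc_13_3 lc_e_rc_27_1 lc_e_rc_9_3 lc_e_rc_16_5 lc_e_rc_9_1 lc_e_rc_16_3 lc_e_rc_18_1 lc_e_rc_18_1 lc_e_rc_9_3 lc_e_rc_9_3 lc_e_rc_19_4 lc_e_rc_13_3 lc_e_rc_19_0 lc_e_rc_18_1 lc_e_rc_16_1 lc_e_rc_13_3 lc_e_rc_13_3 lc_e_rc_4_1 lc_e_rc_16_3 lc_e_rc_18_1 lc_e_rc_18_1 lc_e_rc_13_1 lc_e_rc_18_1 lc_e_rc_27_5 lc_e_rc_18_1 lc_e_rc_19_0) (@D3.rec (fun _ => (Cert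 rels S Gen.e)) lc_e_rc_18_1 lc_e_Cert_tree lc_e_rc_16_1 lc_e_rc_19_4 lc_e_rc_13_3 lc_e_rc_13_1 lc_e_rc_18_1 lc_e_rc_9_3 lc_e_Cert_tree lc_e_rc_9_1 lc_e_rc_9_3 lc_e_rc_19_4 lc_e_rc_16_3 lc_e_rc_4_3 lc_e_rc_27_5 lc_e_rc_18_1 lc_e_rc_27_5 lc_e_rc_9_3 lc_e_rc_16_3 lc_e_rc_19_4 lc_e_rc_4_3 lc_e_rc_27_1 lc_e_rc_19_0 lc_e_rc_19_2 lc_e_rc_19_2 lc_e_rc_9_3 lc_e_rc_9_3 lc_e_rc_18_1 lc_e_rc_4_3 lc_e_rc_9_3 lc_e_rc_4_3 lc_e_rc_18_1 lc_e_rc_13_1 lc_e_rc_19_4 lc_e_rc_13_1 lc_e_rc_27_5 lc_e_rc_18_1 lc_e_rc_13_3 lc_e_rc_9_1 lc_e_rc_18_1 lc_e_rc_19_4 lc_e_rc_18_1 lc_e_rc_13_3 lc_e_rc_9_1 lc_e_rc_9_3 lc_e_rc_9_3 lc_e_rc_18_1 lc_e_rc_18_1 lc_e_rc_9_3 lc_e_rc_18_1 lc_e_rc_16_5 lc_e_rc_18_1 lc_e_rc_16_5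 lc_e_rc_16_1 lc_e_rc_18_1 lc_e_rc_27_1 lc_e_rc_16_5 lc_e_rc_13_3 lc_e_rc_18_1 lc_e_Cert_tree lc_e_Cert_tree lc_e_rc_18_1) (@D3.rec (fun _ => (Cert rels S Gen.e)) lc_e_rc_18_1 lc_e_rc_13_3 lc_e_rc_19_4 lc_e_rc_16_3 lc_e_rc_18_1 lc_e_rc_16_5 lc_e_rc_18_1 lc_e_rc_13_3 lc_e_rc_18_1 lc_e_rc_27_5 lc_e_rc_18_1 lc_e_rc_18_1 lc_e_rc_16_1 lc_e_rc_18_1 lc_e_rc_18_1 lc_e_rc_27_7 lc_e_rc_9_1 lc_e_rc_27_7 lc_e_rc_4_3 lc_e_rc_18_1 lc_e_rc_13_1 lc_e_rc_18_1 lc_e_rc_9_3 lc_e_rc_16_5 lc_e_rc_4_1 lc_e_rc_16_1 lc_e_rc_19_2 lc_e_Cert_tree lc_e_rc_27_5 lc_e_rc_18_1 lc_e_rc_18_1 lc_e_rc_13_3 lc_e_rc_13_1 lc_e_rc_16_1 lc_e_rc_18_1 lc_e_rc_18_1 lc_e_rc_13_3 lc_e_rc_19_2 lc_e_rc_18_1 lc_e_rc_18_1 lc_e_rc_18_1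 lc_e_rc_16_1 lc_e_rc_9_1 lc_e_rc_18_1 lc_e_rc_13_3 lc_e_rc_13_3 lc_e_rc_16_3 lc_e_rc_9_1 lc_e_rc_16_1 lc_e_rc_18_1 lc_e_rc_9_1 lc_e_rc_13_3 lc_e_rc_18_1 lc_e_rc_13_1 lc_e_rc_9_1 lc_e_rc_18_1 lc_e_rc_18_1 lc_e_rc_13_1 lc_e_rc_18_1 lc_e_rc_18_1 lc_e_rc_9_3 lc_e_rc_4_1) (@D3.rec (fun _ => (Cert rels S Gen.e)) lc_e_rc_18_1 lc_e_rc_18_1 lc_e_rc_18_1 lc_e_rc_18_1 lc_e_Cert_tree lc_e_rc_27_5 lc_e_rc_18_1 lc_e_rc_19_2 lc_e_rc_13_3 lc_e_rc_16_3 lc_e_rc_19_4 lc_e_rc_13_1 lc_e_rc_27_5 lc_e_rc_18_1 lc_e_rc_13_3 lc_e_rc_16_5 lc_e_rc_18_1 lc_e_rc_13_3 lc_e_rc_9_3 lc_e_rc_16_1 lc_e_rc_18_1 lc_e_rc_13_3 lc_e_rc_4_3 lc_e_rc_27_1 lc_e_rc_18_1 lc_e_Cert_tree lc_e_rc_18_1 lc_e_rc_13_3 lc_e_rc_9_1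 lc_e_rc_18_1 lc_e_rc_9_3 lc_e_rc_13_3 lc_e_rc_19_0 lc_e_rc_16_5 lc_e_rc_18_1 lc_e_rc_16_1 lc_e_rc_9_1 lc_e_rc_16_1 lc_e_rc_18_1 lc_e_Cert_tree lc_e_rc_27_7 lc_e_rc_4_3 lc_e_rc_18_1 lc_e_rc_16_5 lc_e_rc_4_3 lc_e_rc_27_1 lc_e_rc_27_7 lc_e_rc_13_1 lc_e_rc_27_1 lc_e_rc_18_1 lc_e_rc_18_1 lc_e_rc_16_5 lc_e_rc_19_4 lc_e_rc_18_1 lc_e_rc_27_7 lc_e_rc_18_1 lc_e_rc_19_4 lc_e_rc_18_1 lc_e_rc_18_1 lc_e_rc_18_1 lc_e_rc_13_3 lc_e_rc_18_1) (@D3.rec (fun _ => (Cert rels S Gen.e)) lc_e_rc_4_3 lc_e_rc_19_2 lc_e_rc_18_1 lc_e_rc_16_3 lc_e_Cert_tree lc_e_rc_18_1 lc_e_rc_16_1 lc_e_rc_18_1 lc_e_rc_9_1 lc_e_rc_9_3 lc_e_Cert_tree lc_e_rc_18_1 lc_e_rc_16_3 lc_e_rc_18_1 lc_e_rc_16_1 lc_e_rc_13_1 lc_e_rc_9_1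 lc_e_Cert_tree lc_e_rc_18_1 lc_e_rc_13_1 lc_e_rc_27_5 lc_e_rc_18_1 lc_e_rc_13_3 lc_e_rc_13_3 lc_e_rc_13_1 lc_e_rc_19_4 lc_e_rc_9_3 lc_e_rc_18_1 lc_e_rc_16_1 lc_e_rc_27_5 lc_e_rc_18_1 lc_e_rc_18_1 lc_e_rc_4_1 lc_e_rc_18_1 lc_e_rc_16_5 lc_e_Cert_tree lc_e_rc_19_2 lc_e_rc_13_3 lc_e_rc_18_1 lc_e_rc_16_5 lc_e_rc_18_1 lc_e_Cert_tree lc_e_rc_9_1 lc_e_rc_18_1 lc_e_rc_19_0 lc_e_Cert_tree lc_e_rc_27_5 lc_e_rc_18_1 lc_e_rc_19_4 lc_e_rc_16_3 lc_e_rc_18_1 lc_e_rc_13_3 lc_e_rc_16_1 lc_e_rc_18_1 lc_e_rc_18_1 lc_e_rc_27_5 lc_e_rc_27_5 lc_e_rc_27_5 lc_e_Cert_tree lc_e_rc_18_1 lc_e_rc_27_5 lc_e_rc_18_1) (@D3.rec (fun _ => (Cert rels S Gen.e)) lc_e_rc_18_1 lc_e_rc_18_1 lc_e_rc_13_3 lc_e_rc_18_1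 lc_e_rc_16_5 lc_e_rc_13_3 lc_e_rc_18_1 lc_e_rc_16_5 lc_e_rc_16_5 lc_e_rc_9_1 lc_e_rc_27_5 lc_e_rc_27_1 lc_e_rc_18_1 lc_e_rc_9_1 lc_e_rc_9_3 lc_e_rc_27_7 lc_e_rc_18_1 lc_e_rc_13_1 lc_e_rc_18_1 lc_e_rc_16_1 lc_e_rc_16_1 lc_e_rc_4_3 lc_e_rc_27_1 lc_e_rc_16_5 lc_e_rc_16_3 lc_e_rc_13_3 lc_e_rc_13_3 lc_e_rc_27_7 lc_e_rc_13_3 lc_e_rc_13_3 lc_e_rc_27_5 lc_e_rc_18_1 lc_e_rc_9_3 lc_e_rc_9_3 lc_e_rc_16_5 lc_e_rc_27_7 lc_e_rc_18_1 lc_e_rc_9_1 lc_e_rc_18_1 lc_e_rc_27_1 lc_e_rc_27_5 lc_e_Cert_tree lc_e_rc_18_1 lc_e_rc_18_1 lc_e_rc_13_3 lc_e_rc_4_3 lc_e_rc_9_3 lc_e_rc_13_3 lc_e_rc_4_3 lc_e_rc_19_2 lc_e_rc_16_5 lc_e_Cert_tree lc_e_rc_13_1 lc_e_rc_18_1 lc_e_rc_13_3 lc_e_Cert_tree lc_e_rc_13_3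 lc_e_Cert_tree lc_e_rc_9_3 lc_e_rc_18_1 lc_e_rc_9_1 lc_e_rc_13_3) (@D3.rec (fun _ => (Cert rels S Gen.e)) lc_e_rc_27_1 lc_e_rc_13_1 lc_e_Cert_tree lc_e_rc_9_1 lc_e_rc_27_7 lc_e_rc_9_3 lc_e_rc_13_3 lc_e_rc_16_3 lc_e_rc_18_1 lc_e_rc_4_3 lc_e_rc_27_5 lc_e_Cert_tree lc_e_rc_18_1 lc_e_rc_4_1 lc_e_rc_18_1 lc_e_rc_18_1 lc_e_rc_4_1 lc_e_rc_9_3 lc_e_rc_13_3 lc_e_rc_19_2 lc_e_rc_9_3 lc_e_rc_18_1 lc_e_rc_27_7 lc_e_rc_27_7 lc_e_rc_18_1 lc_e_rc_4_3 lc_e_rc_16_1 lc_e_rc_13_3 lc_e_rc_13_3 lc_e_rc_9_1 lc_e_rc_18_1 lc_e_rc_13_1 lc_e_rc_18_1 lc_e_rc_13_1 lc_e_rc_9_1 lc_e_rc_27_7 lc_e_rc_16_3 lc_e_rc_18_1 lc_e_rc_18_1 lc_e_rc_9_3 lc_e_rc_18_1 lc_e_rc_9_3 lc_e_rc_13_3 lc_e_rc_9_1 lc_e_Cert_tree lc_e_rc_18_1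 lc_e_rc_13_3 lc_e_rc_13_3 lc_e_rc_4_3 lc_e_rc_13_1 lc_e_rc_18_1 lc_e_rc_13_3 lc_e_rc_9_3 lc_e_rc_9_3 lc_e_rc_18_1 lc_e_Cert_tree lc_e_rc_18_1 lc_e_rc_27_5 lc_e_rc_19_4 lc_e_rc_9_3 lc_e_Cert_tree lc_e_rc_18_1) (@D3.rec (fun _ => (Cert rels S Gen.e)) lc_e_Cert_tree lc_e_Cert_tree lc_e_rc_18_1 lc_e_rc_18_1 lc_e_rc_13_1 lc_e_rc_9_3 lc_e_rc_16_3 lc_e_rc_16_1 lc_e_rc_19_4 lc_e_rc_16_3 lc_e_rc_18_1 lc_e_Cert_tree lc_e_Cert_tree lc_e_rc_27_1 lc_e_rc_18_1 lc_e_rc_18_1 lc_e_Cert_tree lc_e_rc_19_0 lc_e_rc_18_1 lc_e_rc_16_3 lc_e_rc_19_2 lc_e_rc_13_3 lc_e_rc_16_5 lc_e_rc_18_1 lc_e_rc_16_3 lc_e_rc_27_7 lc_e_rc_18_1 lc_e_Cert_tree lc_e_rc_27_5 lc_e_rc_19_4 lc_e_rc_18_1 lc_e_rc_18_1 lc_e_Cert_tree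 lc_e_rc_16_1 lc_e_rc_19_2 lc_e_rc_4_3 lc_e_rc_18_1 lc_e_rc_9_1 lc_e_Cert_tree lc_e_Cert_tree lc_e_rc_18_1 lc_e_rc_16_5 lc_e_Cert_tree lc_e_rc_13_3 lc_e_rc_27_7 lc_e_rc_27_5 lc_e_rc_18_1 lc_e_rc_27_1 lc_e_rc_18_1 lc_e_rc_16_5 lc_e_rc_16_3 lc_e_rc_18_1 lc_e_rc_18_1 lc_e_rc_27_1 lc_e_rc_16_5 lc_e_rc_13_3 lc_e_rc_16_5 lc_e_rc_18_1 lc_e_rc_13_3 lc_e_rc_4_3 lc_e_rc_16_3 lc_e_rc_13_3) (@D3.rec (fun _ => (Cert rels S Gen.e)) lc_e_rc_19_2 lc_e_rc_13_3 lc_e_rc_16_5 lc_e_Cert_tree lc_e_rc_18_1 lc_e_rc_18_1 lc_e_rc_18_1 lc_e_rc_9_3 lc_e_rc_19_4 lc_e_rc_18_1 lc_e_rc_18_1 lc_e_rc_18_1 lc_e_rc_9_1 lc_e_rc_18_1 lc_e_rc_18_1 lc_e_rc_13_3 lc_e_rc_18_1 lc_e_rc_18_1 lc_e_rc_19_4 lc_e_rc_16_5 lc_e_rc_27_5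 lc_e_rc_16_5 lc_e_Cert_tree lc_e_rc_18_1 lc_e_rc_13_3 lc_e_rc_27_5 lc_e_rc_4_1 lc_e_rc_13_3 lc_e_rc_16_5 lc_e_rc_18_1 lc_e_rc_16_5 lc_e_rc_18_1 lc_e_rc_18_1 lc_e_rc_9_3 lc_e_rc_9_1 lc_e_rc_4_3 lc_e_rc_9_3 lc_e_rc_18_1 lc_e_rc_9_3 lc_e_rc_9_3 lc_e_rc_16_5 lc_e_rc_18_1 lc_e_rc_13_3 lc_e_rc_9_1 lc_e_rc_16_5 lc_e_rc_13_3 lc_e_rc_4_3 lc_e_rc_9_3 lc_e_rc_13_3 lc_e_rc_13_1 lc_e_rc_9_3 lc_e_rc_13_3 lc_e_rc_9_3 lc_e_rc_27_1 lc_e_rc_4_3 lc_e_rc_18_1 lc_e_rc_9_3 lc_e_rc_27_5 lc_e_rc_9_3 lc_e_rc_9_3 lc_e_rc_13_3 lc_e_rc_4_1) (@D3.rec (fun _ => (Cert rels S Gen.e)) lc_e_rc_9_1 lc_e_rc_16_1 lc_e_rc_18_1 lc_e_rc_4_1 lc_e_rc_4_1 lc_e_rc_9_1 lc_e_rc_19_0 lc_e_rc_13_3 lc_e_rc_18_1 lc_e_Cert_tree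 lc_e_rc_16_3 lc_e_rc_27_5 lc_e_rc_18_1 lc_e_Cert_tree lc_e_rc_13_3 lc_e_rc_16_1 lc_e_rc_18_1 lc_e_rc_16_5 lc_e_rc_18_1 lc_e_rc_27_7 lc_e_rc_18_1 lc_e_rc_16_3 lc_e_rc_27_7 lc_e_rc_18_1 lc_e_rc_18_1 lc_e_rc_27_1 lc_e_rc_13_3 lc_e_rc_13_3 lc_e_rc_27_5 lc_e_rc_18_1 lc_e_rc_18_1 lc_e_rc_13_3 lc_e_rc_16_5 lc_e_rc_19_4 lc_e_rc_13_3 lc_e_rc_13_3 lc_e_rc_9_1 lc_e_rc_13_3 lc_e_rc_16_5 lc_e_rc_27_7 lc_e_rc_16_5 lc_e_rc_4_3 lc_e_rc_13_1 lc_e_rc_13_1 lc_e_rc_27_7 lc_e_rc_18_1 lc_e_rc_18_1 lc_e_rc_13_3 lc_e_rc_19_4 lc_e_rc_16_5 lc_e_rc_19_4 lc_e_rc_18_1 lc_e_rc_13_3 lc_e_rc_16_5 lc_e_rc_18_1 lc_e_rc_9_3 lc_e_rc_18_1 lc_e_rc_18_1 lc_e_rc_13_3 lc_e_rc_18_1 lc_e_rc_18_1 lc_e_rc_13_3) (@D3.rec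 (fun _ => (Cert rels S Gen.e)) lc_e_Cert_tree lc_e_rc_18_1 lc_e_rc_18_1 lc_e_rc_9_3 lc_e_rc_18_1 lc_e_Cert_tree lc_e_rc_18_1 lc_e_rc_27_5 lc_e_rc_9_3 lc_e_rc_19_4 lc_e_rc_27_5 lc_e_rc_18_1 lc_e_rc_18_1 lc_e_rc_16_3 lc_e_rc_19_4 lc_e_rc_13_3 lc_e_rc_18_1 lc_e_rc_18_1 lc_e_Cert_tree lc_e_rc_19_4 lc_e_rc_18_1 lc_e_rc_13_3 lc_e_Cert_tree lc_e_rc_19_2 lc_e_rc_4_1 lc_e_rc_19_4 lc_e_rc_16_5 lc_e_rc_18_1 lc_e_rc_18_1 lc_e_rc_18_1 lc_e_rc_27_5 lc_e_rc_13_3 lc_e_rc_18_1 lc_e_rc_27_5 lc_e_rc_18_1 lc_e_rc_18_1 lc_e_rc_16_1 lc_e_rc_19_4 lc_e_rc_13_3 lc_e_rc_18_1 lc_e_rc_9_1 lc_e_Cert_tree lc_e_rc_18_1 lc_e_rc_27_1 lc_e_rc_27_7 lc_e_rc_4_3 lc_e_Cert_tree lc_e_rc_18_1 lc_e_rc_16_5 lc_e_rc_18_1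 lc_e_rc_9_3 lc_e_rc_18_1 lc_e_Cert_tree lc_e_rc_9_3 lc_e_rc_16_5 lc_e_rc_13_3 lc_e_rc_27_1 lc_e_rc_16_5 lc_e_rc_9_3 lc_e_rc_18_1 lc_e_rc_18_1 lc_e_rc_13_1) (@D3.rec (fun _ => (Cert rels S Gen.e)) lc_e_rc_18_1 lc_e_rc_13_3 lc_e_rc_27_5 lc_e_rc_27_7 lc_e_rc_16_1 lc_e_rc_19_4 lc_e_rc_16_5 lc_e_rc_18_1 lc_e_rc_16_5 lc_e_rc_18_1 lc_e_rc_9_3 lc_e_rc_18_1 lc_e_rc_13_3 lc_e_rc_18_1 lc_e_rc_27_7 lc_e_rc_27_5 lc_e_rc_18_1 lc_e_rc_18_1 lc_e_rc_27_1 lc_e_rc_13_3 lc_e_rc_4_3 lc_e_rc_16_5 lc_e_rc_18_1 lc_e_rc_27_5 lc_e_rc_18_1 lc_e_rc_18_1 lc_e_rc_9_1 lc_e_rc_18_1 lc_e_rc_18_1 lc_e_rc_13_3 lc_e_rc_27_5 lc_e_rc_18_1 lc_e_rc_4_3 lc_e_rc_16_5 lc_e_rc_27_5 lc_e_rc_18_1 lc_e_rc_13_1 lc_e_rc_18_1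 lc_e_rc_18_1 lc_e_rc_18_1 lc_e_rc_16_1 lc_e_rc_9_1 lc_e_Cert_tree lc_e_rc_19_4 lc_e_rc_27_1 lc_e_rc_16_3 lc_e_rc_19_2 lc_e_rc_18_1 lc_e_rc_18_1 lc_e_Cert_tree lc_e_rc_16_1 lc_e_rc_19_4 lc_e_rc_16_3 lc_e_rc_13_3 lc_e_rc_9_3 lc_e_rc_18_1 lc_e_rc_18_1 lc_e_rc_13_3 lc_e_rc_18_1 lc_e_rc_18_1 lc_e_rc_27_7 lc_e_rc_18_1) (@D3.rec (fun _ => (Cert rels S Gen.e)) lc_e_rc_9_3 lc_e_rc_9_1 lc_e_rc_27_5 lc_e_Cert_tree lc_e_Cert_tree lc_e_rc_18_1 lc_e_Cert_tree lc_e_rc_27_5 lc_e_rc_13_3 lc_e_rc_19_2 lc_e_rc_4_3 lc_e_rc_18_1 lc_e_rc_13_3 lc_e_rc_4_3 lc_e_rc_27_5 lc_e_rc_4_1 lc_e_rc_18_1 lc_e_rc_9_3 lc_e_rc_9_3 lc_e_rc_13_3 lc_e_rc_16_3 lc_e_Cert_tree lc_e_rc_18_1 lc_e_rc_4_3 lc_e_rc_13_1 lc_e_rc_9_1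 lc_e_rc_13_3 lc_e_Cert_tree lc_e_rc_4_1 lc_e_rc_18_1 lc_e_rc_13_3 lc_e_rc_9_3 lc_e_rc_18_1 lc_e_Cert_tree lc_e_rc_18_1 lc_e_rc_18_1 lc_e_rc_19_4 lc_e_Cert_tree lc_e_rc_16_3 lc_e_rc_13_3 lc_e_Cert_tree lc_e_rc_18_1 lc_e_rc_9_3 lc_e_rc_9_3 lc_e_Cert_tree lc_e_Cert_tree lc_e_rc_13_3 lc_e_rc_27_5 lc_e_Cert_tree lc_e_rc_18_1 lc_e_Cert_tree lc_e_rc_13_1 lc_e_rc_13_1 lc_e_rc_18_1 lc_e_rc_13_3 lc_e_rc_27_5 lc_e_rc_13_3 lc_e_Cert_tree lc_e_rc_13_1 lc_e_rc_9_3 lc_e_rc_13_3 lc_e_rc_16_5) (@D3.rec (fun _ => (Cert rels S Gen.e)) lc_e_rc_27_5 lc_e_rc_16_3 lc_e_rc_9_1 lc_e_rc_9_3 lc_e_rc_27_7 lc_e_rc_27_7 lc_e_Cert_tree lc_e_rc_18_1 lc_e_rc_13_3 lc_e_rc_13_3 lc_e_Cert_tree lc_e_rc_9_1 lc_e_rc_27_1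 lc_e_rc_27_7 lc_e_rc_18_1 lc_e_rc_16_3 lc_e_rc_18_1 lc_e_rc_16_1 lc_e_rc_19_0 lc_e_rc_13_1 lc_e_rc_18_1 lc_e_rc_16_1 lc_e_rc_13_3 lc_e_rc_18_1 lc_e_rc_16_1 lc_e_rc_27_5 lc_e_rc_18_1 lc_e_rc_27_5 lc_e_rc_18_1 lc_e_rc_18_1 lc_e_rc_13_1 lc_e_rc_13_3 lc_e_rc_19_0 lc_e_rc_16_3 lc_e_rc_18_1 lc_e_rc_18_1 lc_e_rc_27_5 lc_e_rc_9_3 lc_e_rc_16_5 lc_e_rc_13_1 lc_e_Cert_tree lc_e_rc_9_3 lc_e_rc_18_1 lc_e_Cert_tree lc_e_rc_13_3 lc_e_Cert_tree lc_e_rc_18_1 lc_e_rc_18_1 lc_e_rc_18_1 lc_e_rc_18_1 lc_e_rc_18_1 lc_e_rc_9_3 lc_e_rc_16_5 lc_e_rc_4_3 lc_e_rc_27_5 lc_e_rc_16_3 lc_e_rc_19_4 lc_e_rc_18_1 lc_e_rc_16_3 lc_e_rc_19_4 lc_e_Cert_tree lc_e_rc_18_1) (@D3.rec (fun _ => (Cert rels S Gen.e)) lc_e_rc_13_1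 lc_e_rc_18_1 lc_e_rc_13_3 lc_e_rc_9_3 lc_e_rc_18_1 lc_e_rc_9_1 lc_e_rc_9_3 lc_e_rc_18_1 lc_e_rc_18_1 lc_e_rc_27_5 lc_e_rc_16_3 lc_e_rc_18_1 lc_e_rc_27_7 lc_e_rc_18_1 lc_e_rc_13_1 lc_e_rc_18_1 lc_e_rc_19_2 lc_e_rc_16_1 lc_e_rc_27_7 lc_e_rc_13_3 lc_e_rc_13_3 lc_e_rc_19_0 lc_e_rc_18_1 lc_e_rc_18_1 lc_e_Cert_tree lc_e_rc_16_5 lc_e_rc_18_1 lc_e_rc_13_3 lc_e_rc_19_4 lc_e_rc_18_1 lc_e_rc_13_1 lc_e_rc_13_3 lc_e_rc_18_1 lc_e_rc_9_1 lc_e_rc_9_3 lc_e_rc_13_3 lc_e_rc_13_3 lc_e_rc_13_3 lc_e_rc_13_3 lc_e_rc_13_3 lc_e_rc_27_1 lc_e_rc_18_1 lc_e_Cert_tree lc_e_rc_19_4 lc_e_rc_18_1 lc_e_rc_19_4 lc_e_rc_18_1 lc_e_rc_18_1 lc_e_rc_18_1 lc_e_rc_18_1 lc_e_rc_19_4 lc_e_rc_16_3 lc_e_rc_18_1 lc_e_rc_27_1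 lc_e_rc_18_1 lc_e_rc_18_1 lc_e_rc_19_4 lc_e_rc_18_1 lc_e_rc_19_4 lc_e_rc_18_1 lc_e_rc_16_3 lc_e_rc_18_1) (@D3.rec (fun _ => (Cert rels S Gen.e)) lc_e_rc_18_1 lc_e_rc_27_5 lc_e_rc_13_1 lc_e_rc_18_1 lc_e_rc_18_1 lc_e_rc_18_1 lc_e_rc_27_1 lc_e_rc_9_1 lc_e_rc_27_5 lc_e_rc_18_1 lc_e_rc_18_1 lc_e_rc_18_1 lc_e_rc_4_3 lc_e_rc_9_3 lc_e_rc_27_5 lc_e_rc_13_3 lc_e_rc_9_1 lc_e_rc_18_1 lc_e_rc_18_1 lc_e_rc_9_3 lc_e_rc_18_1 lc_e_rc_18_1 lc_e_rc_18_1 lc_e_rc_9_3 lc_e_rc_18_1 lc_e_rc_4_1 lc_e_rc_13_3 lc_e_rc_27_1 lc_e_rc_27_1 lc_e_rc_18_1 lc_e_rc_18_1 lc_e_rc_18_1 lc_e_rc_18_1 lc_e_rc_9_3 lc_e_Cert_tree lc_e_rc_4_1 lc_e_Cert_tree lc_e_rc_18_1 lc_e_rc_9_3 lc_e_Cert_tree lc_e_rc_9_1 lc_e_rc_4_3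 lc_e_Cert_tree lc_e_rc_16_3 lc_e_Cert_tree lc_e_rc_18_1 lc_e_rc_4_1 lc_e_rc_19_4 lc_e_rc_13_3 lc_e_rc_18_1 lc_e_rc_9_3 lc_e_rc_18_1 lc_e_rc_9_1 lc_e_rc_9_3 lc_e_rc_18_1 lc_e_Cert_tree lc_e_rc_18_1 lc_e_rc_16_5 lc_e_rc_27_5 lc_e_rc_19_2 lc_e_rc_13_1 lc_e_rc_4_3) (@D3.rec (fun _ => (Cert rels S Gen.e)) lc_e_rc_13_1 lc_e_rc_9_3 lc_e_rc_18_1 lc_e_Cert_tree lc_e_rc_18_1 lc_e_rc_27_5 lc_e_rc_18_1 lc_e_rc_16_3 lc_e_rc_19_4 lc_e_rc_18_1 lc_e_rc_9_1 lc_e_rc_16_3 lc_e_rc_18_1 lc_e_Cert_tree lc_e_rc_27_7 lc_e_rc_13_3 lc_e_rc_27_5 lc_e_rc_16_5 lc_e_rc_16_3 lc_e_rc_4_3 lc_e_rc_18_1 lc_e_rc_27_7 lc_e_rc_13_3 lc_e_rc_27_7 lc_e_rc_16_3 lc_e_rc_4_3 lc_e_rc_27_1 lc_e_rc_18_1 lc_e_rc_18_1 lc_e_rc_4_1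 lc_e_rc_18_1 lc_e_rc_19_2 lc_e_rc_13_3 lc_e_rc_27_7 lc_e_rc_16_3 lc_e_rc_18_1 lc_e_rc_16_3 lc_e_rc_9_3 lc_e_rc_18_1 lc_e_rc_16_1 lc_e_rc_19_4 lc_e_rc_16_1 lc_e_Cert_tree lc_e_rc_16_1 lc_e_rc_18_1 lc_e_rc_16_1 lc_e_Cert_tree lc_e_rc_13_1 lc_e_rc_4_3 lc_e_rc_18_1 lc_e_rc_27_5 lc_e_rc_18_1 lc_e_rc_9_1 lc_e_rc_18_1 lc_e_rc_9_3 lc_e_rc_19_4 lc_e_rc_4_3 lc_e_rc_27_5 lc_e_rc_4_3 lc_e_rc_27_1 lc_e_rc_16_5 lc_e_rc_13_3) (@D3.rec (fun _ => (Cert rels S Gen.e)) lc_e_rc_16_3 lc_e_rc_9_3 lc_e_rc_27_5 lc_e_rc_16_5 lc_e_rc_27_5 lc_e_rc_18_1 lc_e_rc_9_3 lc_e_rc_16_3 lc_e_rc_13_1 lc_e_rc_9_1 lc_e_rc_13_1 lc_e_rc_18_1 lc_e_rc_27_1 lc_e_rc_13_3 lc_e_rc_16_3 lc_e_rc_18_1 lc_e_rc_18_1 lc_e_rc_27_1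 lc_e_rc_13_3 lc_e_rc_18_1 lc_e_rc_9_1 lc_e_rc_4_1 lc_e_rc_13_1 lc_e_rc_9_3 lc_e_rc_19_2 lc_e_rc_16_1 lc_e_rc_13_1 lc_e_rc_9_3 lc_e_rc_27_1 lc_e_rc_13_1 lc_e_rc_9_1 lc_e_rc_27_5 lc_e_rc_27_5 lc_e_rc_18_1 lc_e_rc_19_2 lc_e_rc_27_1 lc_e_rc_13_3 lc_e_rc_13_3 lc_e_rc_18_1 lc_e_rc_4_3 lc_e_Cert_tree lc_e_rc_27_5 lc_e_rc_18_1 lc_e_rc_16_3 lc_e_rc_18_1 lc_e_rc_18_1 lc_e_Cert_tree lc_e_rc_27_5 lc_e_rc_18_1 lc_e_rc_4_3 lc_e_rc_19_4 lc_e_Cert_tree lc_e_Cert_tree lc_e_rc_18_1 lc_e_rc_9_3 lc_e_rc_13_3 lc_e_rc_18_1 lc_e_rc_16_5 lc_e_rc_16_5 lc_e_rc_18_1 lc_e_rc_16_3 lc_e_rc_9_3) (@D3.rec (fun _ => (Cert rels S Gen.e)) lc_e_rc_19_2 lc_e_rc_9_3 lc_e_rc_16_5 lc_e_rc_13_3 lc_e_rc_27_5 lc_e_rc_9_3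 lc_e_rc_13_3 lc_e_rc_27_5 lc_e_rc_18_1 lc_e_rc_18_1 lc_e_rc_9_1 lc_e_Cert_tree lc_e_rc_18_1 lc_e_rc_18_1 lc_e_Cert_tree lc_e_Cert_tree lc_e_rc_18_1 lc_e_rc_9_1 lc_e_rc_18_1 lc_e_rc_18_1 lc_e_rc_19_4 lc_e_Cert_tree lc_e_rc_18_1 lc_e_rc_27_1 lc_e_rc_9_3 lc_e_rc_13_3 lc_e_rc_27_7 lc_e_rc_18_1 lc_e_Cert_tree lc_e_rc_16_1 lc_e_rc_19_4 lc_e_Cert_tree lc_e_rc_18_1 lc_e_rc_18_1 lc_e_rc_18_1 lc_e_Cert_tree lc_e_rc_19_4 lc_e_Cert_tree lc_e_rc_18_1 lc_e_Cert_tree lc_e_rc_13_3 lc_e_rc_13_1 lc_e_Cert_tree lc_e_rc_27_5 lc_e_Cert_tree lc_e_rc_18_1 lc_e_rc_9_1 lc_e_rc_27_5 lc_e_rc_9_3 lc_e_rc_13_3 lc_e_rc_18_1 lc_e_rc_9_1 lc_e_rc_13_3 lc_e_rc_19_0 lc_e_rc_9_1 lc_e_rc_18_1 lc_e_rc_18_1 lc_e_Cert_tree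 lc_e_rc_18_1 lc_e_rc_13_3 lc_e_Cert_tree lc_e_rc_16_1) (@D3.rec (fun _ => (Cert rels S Gen.e)) lc_e_rc_19_2 lc_e_rc_18_1 lc_e_rc_18_1 lc_e_rc_9_3 lc_e_rc_4_1 lc_e_rc_18_1 lc_e_rc_19_4 lc_e_rc_18_1 lc_e_Cert_tree lc_e_rc_16_3 lc_e_rc_4_1 lc_e_rc_9_3 lc_e_Cert_tree lc_e_rc_18_1 lc_e_rc_9_3 lc_e_rc_27_7 lc_e_rc_27_5 lc_e_Cert_tree lc_e_rc_13_3 lc_e_rc_4_3 lc_e_rc_18_1 lc_e_rc_18_1 lc_e_rc_13_1 lc_e_rc_27_7 lc_e_rc_18_1 lc_e_rc_16_3 lc_e_rc_16_5 lc_e_rc_19_4 lc_e_Cert_tree lc_e_rc_18_1 lc_e_rc_18_1 lc_e_rc_16_3 lc_e_rc_16_5 lc_e_rc_9_3 lc_e_rc_27_5 lc_e_rc_4_3 lc_e_rc_16_3 lc_e_rc_18_1 lc_e_rc_4_3 lc_e_rc_19_2 lc_e_rc_19_4 lc_e_Cert_tree lc_e_rc_27_7 lc_e_rc_18_1 lc_e_rc_27_5 lc_e_rc_18_1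 lc_e_Cert_tree lc_e_rc_19_4 lc_e_rc_13_3 lc_e_Cert_tree lc_e_rc_13_3 lc_e_rc_16_3 lc_e_rc_19_4 lc_e_rc_27_1 lc_e_rc_27_1 lc_e_rc_27_5 lc_e_rc_18_1 lc_e_rc_9_3 lc_e_rc_4_1 lc_e_rc_13_3 lc_e_rc_19_4 lc_e_rc_19_2) (@D3.rec (fun _ => (Cert rels S Gen.e)) lc_e_rc_13_3 lc_e_rc_9_1 lc_e_rc_27_1 lc_e_rc_13_3 lc_e_rc_27_7 lc_e_rc_18_1 lc_e_rc_18_1 lc_e_rc_18_1 lc_e_Cert_tree lc_e_rc_18_1 lc_e_rc_13_3 lc_e_Cert_tree lc_e_rc_9_3 lc_e_rc_16_5 lc_e_rc_13_3 lc_e_rc_18_1 lc_e_rc_18_1 lc_e_Cert_tree lc_e_rc_9_3 lc_e_rc_16_3 lc_e_rc_18_1 lc_e_rc_27_5 lc_e_rc_18_1 lc_e_rc_18_1 lc_e_rc_13_3 lc_e_rc_16_3 lc_e_rc_18_1 lc_e_rc_18_1 lc_e_Cert_tree lc_e_rc_13_1 lc_e_rc_27_5 lc_e_rc_18_1 lc_e_rc_13_1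 lc_e_rc_9_3 lc_e_rc_16_3 lc_e_rc_19_4 lc_e_Cert_tree lc_e_Cert_tree lc_e_rc_19_4 lc_e_rc_18_1 lc_e_Cert_tree lc_e_rc_4_3 lc_e_rc_18_1 lc_e_Cert_tree lc_e_rc_13_3 lc_e_rc_19_2 lc_e_rc_18_1 lc_e_rc_9_3 lc_e_rc_4_1 lc_e_rc_19_4 lc_e_rc_18_1 lc_e_rc_19_4 lc_e_rc_16_1 lc_e_rc_18_1 lc_e_rc_18_1 lc_e_rc_18_1 lc_e_rc_27_1 lc_e_rc_9_3 lc_e_rc_9_1 lc_e_rc_27_1 lc_e_rc_9_1 lc_e_rc_18_1) (@D3.rec (fun _ => (Cert rels S Gen.e)) lc_e_Cert_tree lc_e_rc_9_1 lc_e_rc_9_3 lc_e_rc_4_3 lc_e_rc_18_1 lc_e_rc_18_1 lc_e_rc_19_0 lc_e_rc_18_1 lc_e_rc_27_1 lc_e_rc_19_4 lc_e_rc_18_1 lc_e_rc_16_5 lc_e_rc_27_5 lc_e_rc_18_1 lc_e_Cert_tree lc_e_rc_27_5 lc_e_rc_18_1 lc_e_Cert_tree lc_e_rc_18_1 lc_e_Cert_tree lc_e_rc_18_1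 lc_e_Cert_tree lc_e_rc_18_1 lc_e_rc_27_1 lc_e_rc_18_1 lc_e_Cert_tree lc_e_rc_27_7 lc_e_rc_9_3 lc_e_rc_18_1 lc_e_Cert_tree lc_e_rc_13_3 lc_e_rc_9_3 lc_e_rc_27_5 lc_e_rc_13_1 lc_e_rc_9_1 lc_e_rc_16_5 lc_e_rc_18_1 lc_e_rc_19_0 lc_e_rc_18_1 lc_e_rc_18_1 lc_e_Cert_tree lc_e_rc_9_1 lc_e_rc_19_0 lc_e_rc_13_1 lc_e_rc_18_1 lc_e_rc_16_5 lc_e_rc_18_1 lc_e_rc_18_1 lc_e_rc_13_3 lc_e_rc_9_1 lc_e_rc_19_0 lc_e_rc_27_7 lc_e_rc_18_1 lc_e_rc_18_1 lc_e_Cert_tree lc_e_rc_13_3 lc_e_rc_18_1 lc_e_rc_18_1 lc_e_rc_18_1 lc_e_rc_13_1 lc_e_rc_27_7 lc_e_rc_27_7) (@D3.rec (fun _ => (Cert rels S Gen.e)) lc_e_rc_18_1 lc_e_rc_13_3 lc_e_rc_9_3 lc_e_rc_27_5 lc_e_rc_9_1 lc_e_rc_19_4 lc_e_rc_4_3 lc_e_rc_18_1 lc_e_rc_27_7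 lc_e_rc_18_1 lc_e_rc_18_1 lc_e_Cert_tree lc_e_rc_13_1 lc_e_rc_16_5 lc_e_Cert_tree lc_e_rc_9_1 lc_e_rc_18_1 lc_e_rc_9_3 lc_e_rc_27_1 lc_e_rc_16_1 lc_e_rc_4_3 lc_e_rc_13_3 lc_e_rc_19_4 lc_e_rc_18_1 lc_e_Cert_tree lc_e_rc_18_1 lc_e_rc_9_1 lc_e_rc_18_1 lc_e_rc_27_7 lc_e_rc_13_3 lc_e_rc_19_2 lc_e_rc_18_1 lc_e_rc_18_1 lc_e_rc_16_1 lc_e_Cert_tree lc_e_rc_9_1 lc_e_rc_18_1 lc_e_rc_13_3 lc_e_rc_18_1 lc_e_Cert_tree lc_e_rc_18_1 lc_e_rc_27_5 lc_e_rc_27_5 lc_e_rc_4_1 lc_e_rc_4_3 lc_e_rc_27_5 lc_e_rc_4_3 lc_e_rc_18_1 lc_e_rc_27_1 lc_e_rc_13_3 lc_e_rc_18_1 lc_e_rc_16_1 lc_e_rc_9_3 lc_e_Cert_tree lc_e_Cert_tree lc_e_rc_18_1 lc_e_rc_16_3 lc_e_Cert_tree lc_e_Cert_tree lc_e_rc_13_1 lc_e_rc_18_1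 lc_e_rc_18_1) (@D3.rec (fun _ => (Cert rels S Gen.e)) lc_e_rc_18_1 lc_e_rc_27_1 lc_e_rc_18_1 lc_e_rc_4_3 lc_e_Cert_tree lc_e_rc_18_1 lc_e_rc_13_3 lc_e_Cert_tree lc_e_rc_9_3 lc_e_rc_18_1 lc_e_rc_13_1 lc_e_rc_18_1 lc_e_rc_13_1 lc_e_rc_18_1 lc_e_rc_18_1 lc_e_Cert_tree lc_e_rc_18_1 lc_e_rc_27_5 lc_e_rc_19_4 lc_e_rc_13_3 lc_e_rc_27_5 lc_e_rc_18_1 lc_e_rc_13_3 lc_e_Cert_tree lc_e_rc_18_1 lc_e_rc_27_7 lc_e_rc_19_4 lc_e_rc_18_1 lc_e_rc_18_1 lc_e_rc_19_2 lc_e_rc_18_1 lc_e_rc_18_1 lc_e_Cert_tree lc_e_rc_13_3 lc_e_rc_19_2 lc_e_rc_13_1 lc_e_rc_27_7 lc_e_rc_18_1 lc_e_rc_16_3 lc_e_rc_18_1 lc_e_rc_18_1 lc_e_rc_16_5 lc_e_rc_16_3 lc_e_rc_9_1 lc_e_rc_16_5 lc_e_rc_13_3 lc_e_rc_27_7 lc_e_rc_27_7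 lc_e_rc_18_1 lc_e_rc_18_1 lc_e_rc_13_3 lc_e_rc_13_3 lc_e_rc_18_1 lc_e_rc_18_1 lc_e_rc_18_1 lc_e_rc_9_1 lc_e_rc_13_3 lc_e_rc_18_1 lc_e_rc_27_7 lc_e_rc_16_3 lc_e_rc_27_1 lc_e_rc_18_1) (@D3.rec (fun _ => (Cert rels S Gen.e)) lc_e_rc_9_1 lc_e_rc_27_5 lc_e_rc_18_1 lc_e_rc_16_3 lc_e_rc_13_3 lc_e_rc_19_4 lc_e_Cert_tree lc_e_rc_19_2 lc_e_Cert_tree lc_e_rc_18_1 lc_e_rc_13_1 lc_e_rc_9_1 lc_e_rc_4_1 lc_e_rc_9_1 lc_e_Cert_tree lc_e_rc_27_7 lc_e_rc_18_1 lc_e_rc_18_1 lc_e_rc_27_5 lc_e_rc_27_5 lc_e_rc_18_1 lc_e_rc_4_1 lc_e_rc_27_1 lc_e_rc_19_2 lc_e_rc_13_3 lc_e_rc_13_3 lc_e_rc_19_2 lc_e_rc_18_1 lc_e_rc_9_3 lc_e_Cert_tree lc_e_rc_19_4 lc_e_rc_9_3 lc_e_rc_13_1 lc_e_Cert_tree lc_e_rc_9_1 lc_e_Cert_tree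 lc_e_rc_9_3 lc_e_rc_16_5 lc_e_rc_18_1 lc_e_rc_16_3 lc_e_Cert_tree lc_e_rc_16_5 lc_e_Cert_tree lc_e_rc_27_5 lc_e_rc_18_1 lc_e_Cert_tree lc_e_rc_9_3 lc_e_rc_9_1 lc_e_rc_18_1 lc_e_rc_27_7 lc_e_rc_18_1 lc_e_rc_9_3 lc_e_rc_4_3 lc_e_rc_16_5 lc_e_rc_27_5 lc_e_rc_18_1 lc_e_rc_13_3 lc_e_rc_18_1 lc_e_rc_18_1 lc_e_Cert_tree lc_e_rc_13_3 lc_e_rc_9_3) (@D3.rec (fun _ => (Cert rels S Gen.e)) lc_e_rc_18_1 lc_e_rc_18_1 lc_e_rc_18_1 lc_e_rc_27_5 lc_e_rc_13_3 lc_e_rc_18_1 lc_e_rc_13_1 lc_e_rc_27_5 lc_e_rc_18_1 lc_e_rc_13_3 lc_e_rc_13_3 lc_e_rc_16_5 lc_e_rc_18_1 lc_e_rc_4_3 lc_e_rc_9_1 lc_e_rc_19_4 lc_e_rc_16_1 lc_e_rc_18_1 lc_e_rc_18_1 lc_e_rc_18_1 lc_e_rc_13_1 lc_e_rc_16_1 lc_e_rc_19_2 lc_e_rc_19_2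 lc_e_Cert_tree lc_e_rc_18_1 lc_e_Cert_tree lc_e_rc_9_1 lc_e_rc_13_1 lc_e_rc_16_1 lc_e_rc_18_1 lc_e_rc_9_3 lc_e_rc_18_1 lc_e_rc_18_1 lc_e_rc_16_1 lc_e_rc_18_1 lc_e_rc_27_7 lc_e_rc_13_1 lc_e_rc_18_1 lc_e_rc_9_3 lc_e_rc_18_1 lc_e_rc_18_1 lc_e_Cert_tree lc_e_Cert_tree lc_e_rc_19_2 lc_e_rc_18_1 lc_e_rc_18_1 lc_e_rc_18_1 lc_e_rc_16_5 lc_e_Cert_tree lc_e_Cert_tree lc_e_Cert_tree lc_e_rc_18_1 lc_e_Cert_tree lc_e_rc_16_3 lc_e_rc_18_1 lc_e_rc_9_1 lc_e_Cert_tree lc_e_rc_18_1 lc_e_rc_19_2 lc_e_Cert_tree lc_e_rc_18_1) (@D3.rec (fun _ => (Cert rels S Gen.e)) lc_e_rc_9_3 lc_e_rc_27_7 lc_e_rc_9_1 lc_e_Cert_tree lc_e_rc_18_1 lc_e_rc_18_1 lc_e_rc_18_1 lc_e_rc_19_4 lc_e_rc_18_1 lc_e_rc_9_1 lc_e_rc_4_3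 lc_e_rc_18_1 lc_e_rc_13_1 lc_e_rc_4_3 lc_e_rc_16_1 lc_e_rc_9_3 lc_e_rc_18_1 lc_e_rc_9_1 lc_e_rc_16_3 lc_e_rc_18_1 lc_e_rc_13_3 lc_e_rc_13_1 lc_e_Cert_tree lc_e_Cert_tree lc_e_rc_18_1 lc_e_rc_18_1 lc_e_rc_16_5 lc_e_rc_16_5 lc_e_rc_27_5 lc_e_rc_16_3 lc_e_rc_13_1 lc_e_rc_19_4 lc_e_rc_13_1 lc_e_rc_27_7 lc_e_rc_19_2 lc_e_rc_18_1 lc_e_rc_9_1 lc_e_rc_9_1 lc_e_rc_9_1 lc_e_rc_16_1 lc_e_rc_18_1 lc_e_rc_16_3 lc_e_rc_27_7 lc_e_rc_18_1 lc_e_Cert_tree lc_e_rc_13_1 lc_e_Cert_tree lc_e_rc_18_1 lc_e_rc_9_1 lc_e_rc_9_1 lc_e_rc_13_1 lc_e_rc_4_1 lc_e_rc_4_3 lc_e_rc_27_5 lc_e_rc_4_3 lc_e_rc_13_3 lc_e_rc_18_1 lc_e_rc_4_3 lc_e_rc_4_1 lc_e_rc_27_5 lc_e_rc_18_1 lc_e_rc_27_7) (@D3.rec (fun _ => (Cert rels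 S Gen.e)) lc_e_rc_18_1 lc_e_rc_4_3 lc_e_rc_27_7 lc_e_rc_13_1 lc_e_rc_19_4 lc_e_rc_27_5 lc_e_rc_18_1 lc_e_rc_27_1 lc_e_rc_18_1 lc_e_rc_13_1 lc_e_rc_18_1 lc_e_rc_27_5 lc_e_rc_4_3 lc_e_rc_9_3 lc_e_rc_19_0 lc_e_rc_18_1 lc_e_rc_13_1 lc_e_rc_18_1 lc_e_Cert_tree lc_e_rc_18_1 lc_e_rc_16_5 lc_e_rc_13_3 lc_e_rc_4_3 lc_e_rc_18_1 lc_e_rc_13_3 lc_e_rc_27_5 lc_e_rc_18_1 lc_e_rc_13_1 lc_e_rc_18_1 lc_e_rc_13_1 lc_e_rc_27_5 lc_e_rc_9_1 lc_e_Cert_tree lc_e_rc_18_1 lc_e_Cert_tree lc_e_rc_13_3 lc_e_rc_18_1 lc_e_rc_9_3 lc_e_Cert_tree lc_e_rc_9_1 lc_e_rc_27_7 lc_e_rc_18_1 lc_e_rc_9_3 lc_e_rc_16_5 lc_e_rc_9_1 lc_e_rc_19_4 lc_e_rc_18_1 lc_e_rc_9_3 lc_e_rc_18_1 lc_e_rc_27_7 lc_e_rc_18_1 lc_e_rc_9_1 lc_e_rc_18_1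 lc_e_rc_18_1 lc_e_rc_4_3 lc_e_rc_9_1 lc_e_Cert_tree lc_e_Cert_tree lc_e_rc_18_1 lc_e_rc_18_1 lc_e_rc_27_5 lc_e_rc_13_1) (@D3.rec (fun _ => (Cert rels S Gen.e)) lc_e_rc_16_1 lc_e_rc_13_3 lc_e_rc_27_7 lc_e_Cert_tree lc_e_rc_18_1 lc_e_rc_18_1 lc_e_rc_27_7 lc_e_rc_13_3 lc_e_rc_27_5 lc_e_Cert_tree lc_e_rc_18_1 lc_e_Cert_tree lc_e_Cert_tree lc_e_rc_18_1 lc_e_rc_18_1 lc_e_rc_27_1 lc_e_rc_4_3 lc_e_rc_4_3 lc_e_Cert_tree lc_e_rc_18_1 lc_e_rc_27_1 lc_e_rc_27_7 lc_e_Cert_tree lc_e_rc_18_1 lc_e_rc_18_1 lc_e_Cert_tree lc_e_Cert_tree lc_e_rc_18_1 lc_e_rc_16_1 lc_e_rc_27_7 lc_e_Cert_tree lc_e_rc_4_3 lc_e_Cert_tree lc_e_rc_18_1 lc_e_Cert_tree lc_e_rc_18_1 lc_e_Cert_tree lc_e_rc_18_1 lc_e_Cert_tree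 lc_e_rc_18_1 lc_e_Cert_tree lc_e_rc_18_1 lc_e_Cert_tree lc_e_rc_18_1 lc_e_rc_13_3 lc_e_rc_27_5 lc_e_rc_27_7 lc_e_rc_13_1 lc_e_rc_13_3 lc_e_rc_19_2 lc_e_rc_27_5 lc_e_rc_18_1 lc_e_Cert_tree lc_e_Cert_tree lc_e_rc_16_5 lc_e_rc_18_1 lc_e_rc_27_7 lc_e_rc_13_1 lc_e_rc_18_1 lc_e_rc_9_1 lc_e_rc_4_1 lc_e_rc_13_3) (@D3.rec (fun _ => (Cert rels S Gen.e)) lc_e_rc_18_1 lc_e_rc_9_3 lc_e_rc_18_1 lc_e_rc_27_7 lc_e_rc_13_3 lc_e_Cert_tree lc_e_rc_18_1 lc_e_Cert_tree lc_e_rc_13_3 lc_e_rc_9_3 lc_e_rc_27_1 lc_e_Cert_tree lc_e_rc_13_3 lc_e_rc_13_3 lc_e_rc_18_1 lc_e_rc_16_3 lc_e_rc_19_4 lc_e_rc_18_1 lc_e_rc_18_1 lc_e_Cert_tree lc_e_rc_27_7 lc_e_rc_19_4 lc_e_rc_27_5 lc_e_Cert_tree lc_e_rc_19_4 lc_e_rc_27_7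 lc_e_rc_13_3 lc_e_rc_18_1 lc_e_rc_18_1 lc_e_rc_16_1 lc_e_rc_18_1 lc_e_rc_18_1 lc_e_Cert_tree lc_e_rc_9_1 lc_e_rc_18_1 lc_e_rc_19_4 lc_e_rc_9_1 lc_e_rc_9_1 lc_e_rc_13_3 lc_e_rc_16_1 lc_e_rc_19_4 lc_e_rc_13_1 lc_e_rc_4_3 lc_e_rc_18_1 lc_e_rc_18_1 lc_e_rc_18_1 lc_e_rc_13_3 lc_e_rc_16_1 lc_e_Cert_tree lc_e_Cert_tree lc_e_rc_16_1 lc_e_Cert_tree lc_e_rc_16_1 lc_e_rc_13_3 lc_e_rc_13_3 lc_e_rc_9_1 lc_e_rc_27_7 lc_e_rc_18_1 lc_e_rc_18_1 lc_e_rc_18_1 lc_e_rc_18_1 lc_e_rc_18_1) (@D3.rec (fun _ => (Cert rels S Gen.e)) lc_e_rc_19_2 lc_e_rc_9_1 lc_e_rc_18_1 lc_e_rc_27_7 lc_e_rc_16_1 lc_e_rc_18_1 lc_e_rc_9_3 lc_e_rc_27_5 lc_e_rc_4_1 lc_e_rc_18_1 lc_e_rc_27_5 lc_e_rc_9_3 lc_e_rc_18_1 lc_e_rc_16_3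 lc_e_rc_27_5 lc_e_rc_13_1 lc_e_rc_16_3 lc_e_rc_18_1 lc_e_Cert_tree lc_e_rc_9_3 lc_e_rc_16_3 lc_e_rc_9_1 lc_e_Cert_tree lc_e_rc_18_1 lc_e_rc_13_3 lc_e_Cert_tree lc_e_rc_16_3 lc_e_rc_13_3 lc_e_rc_18_1 lc_e_rc_18_1 lc_e_rc_9_3 lc_e_rc_16_3 lc_e_rc_18_1 lc_e_rc_18_1 lc_e_rc_27_5 lc_e_rc_16_5 lc_e_rc_9_3 lc_e_rc_16_3 lc_e_rc_18_1 lc_e_rc_9_3 lc_e_rc_13_3 lc_e_rc_4_1 lc_e_rc_9_3 lc_e_Cert_tree lc_e_rc_18_1 lc_e_rc_18_1 lc_e_rc_18_1 lc_e_Cert_tree lc_e_rc_9_3 lc_e_rc_16_1 lc_e_rc_16_1 lc_e_rc_19_2 lc_e_Cert_tree lc_e_rc_18_1 lc_e_rc_18_1 lc_e_Cert_tree lc_e_rc_16_3 lc_e_rc_13_1 lc_e_Cert_tree lc_e_rc_16_3 lc_e_rc_4_3 lc_e_rc_4_1) (@D3.rec (fun _ => (Cert rels S Gen.e)) lc_e_rc_18_1 lc_e_rc_4_1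 lc_e_rc_13_1 lc_e_rc_9_3 lc_e_rc_27_1 lc_e_Cert_tree lc_e_rc_18_1 lc_e_Cert_tree lc_e_rc_13_3 lc_e_rc_9_3 lc_e_rc_4_3 lc_e_Cert_tree lc_e_Cert_tree lc_e_Cert_tree lc_e_Cert_tree lc_e_rc_18_1 lc_e_rc_18_1 lc_e_rc_9_3 lc_e_rc_18_1 lc_e_rc_18_1 lc_e_rc_18_1 lc_e_Cert_tree lc_e_rc_16_1 lc_e_rc_4_3 lc_e_rc_16_3 lc_e_rc_13_1 lc_e_rc_4_3 lc_e_rc_18_1 lc_e_rc_18_1 lc_e_rc_13_3 lc_e_rc_19_2 lc_e_rc_18_1 lc_e_rc_9_3 lc_e_rc_13_3 lc_e_Cert_tree lc_e_Cert_tree lc_e_rc_16_3 lc_e_rc_13_1 lc_e_rc_18_1 lc_e_rc_16_3 lc_e_rc_4_3 lc_e_rc_16_1 lc_e_Cert_tree lc_e_rc_18_1 lc_e_Cert_tree lc_e_rc_16_5 lc_e_rc_27_1 lc_e_rc_9_3 lc_e_Cert_tree lc_e_rc_18_1 lc_e_rc_9_3 lc_e_Cert_tree lc_e_rc_13_3 lc_e_Cert_tree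 lc_e_rc_13_3 lc_e_rc_19_2 lc_e_rc_18_1 lc_e_rc_27_7 lc_e_Cert_tree lc_e_Cert_tree lc_e_rc_18_1 lc_e_rc_19_4) (@D3.rec (fun _ => (Cert rels S Gen.e)) lc_e_Cert_tree lc_e_rc_18_1 lc_e_rc_4_3 lc_e_rc_18_1 lc_e_Cert_tree lc_e_rc_18_1 lc_e_Cert_tree lc_e_rc_13_1 lc_e_rc_18_1 lc_e_rc_18_1 lc_e_rc_27_5 lc_e_rc_9_3 lc_e_rc_16_3 lc_e_rc_13_3 lc_e_Cert_tree lc_e_rc_18_1 lc_e_rc_16_5 lc_e_rc_18_1 lc_e_rc_13_3 lc_e_rc_27_7 lc_e_rc_9_3 lc_e_rc_27_5 lc_e_rc_4_1 lc_e_rc_27_7 lc_e_rc_13_3 lc_e_rc_4_3 lc_e_rc_19_0 lc_e_rc_9_1 lc_e_rc_18_1 lc_e_Cert_tree lc_e_Cert_tree lc_e_rc_18_1 lc_e_rc_16_3 lc_e_rc_18_1 lc_e_rc_18_1 lc_e_rc_18_1 lc_e_rc_16_5 lc_e_rc_13_1 lc_e_rc_27_5 lc_e_rc_19_2 lc_e_rc_4_3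 lc_e_rc_18_1 lc_e_rc_13_3 lc_e_rc_18_1 lc_e_rc_4_1 lc_e_rc_16_3 lc_e_rc_9_3 lc_e_rc_16_5 lc_e_rc_18_1 lc_e_rc_27_5 lc_e_rc_18_1 lc_e_rc_4_3 lc_e_rc_4_3 lc_e_rc_9_3 lc_e_rc_9_3 lc_e_rc_4_1 lc_e_rc_27_1 lc_e_rc_18_1 lc_e_rc_16_3 lc_e_rc_18_1 lc_e_rc_27_5 lc_e_rc_18_1) (@D3.rec (fun _ => (Cert rels S Gen.e)) lc_e_rc_4_3 lc_e_rc_4_3 lc_e_rc_9_3 lc_e_rc_18_1 lc_e_rc_27_1 lc_e_rc_19_0 lc_e_rc_27_5 lc_e_rc_18_1 lc_e_rc_13_3 lc_e_rc_27_5 lc_e_rc_16_1 lc_e_rc_19_4 lc_e_rc_9_3 lc_e_rc_9_3 lc_e_rc_16_5 lc_e_rc_27_7 lc_e_rc_9_3 lc_e_rc_13_3 lc_e_rc_27_5 lc_e_Cert_tree lc_e_rc_18_1 lc_e_rc_9_1 lc_e_rc_27_7 lc_e_rc_27_5 lc_e_Cert_tree lc_e_rc_13_3 lc_e_rc_19_2 lc_e_rc_16_3 lc_e_Cert_tree lc_e_rc_18_1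 lc_e_rc_13_3 lc_e_rc_4_1 lc_e_rc_13_1 lc_e_rc_18_1 lc_e_rc_4_3 lc_e_rc_9_1 lc_e_rc_18_1 lc_e_rc_9_1 lc_e_rc_13_3 lc_e_rc_18_1 lc_e_rc_9_3 lc_e_rc_4_3 lc_e_rc_19_4 lc_e_rc_13_3 lc_e_rc_19_4 lc_e_rc_9_1 lc_e_rc_16_1 lc_e_rc_18_1 lc_e_rc_13_3 lc_e_rc_9_3 lc_e_rc_9_3 lc_e_rc_16_3 lc_e_rc_19_0 lc_e_rc_9_3 lc_e_rc_16_5 lc_e_rc_9_1 lc_e_rc_16_3 lc_e_rc_18_1 lc_e_rc_4_1 lc_e_rc_18_1 lc_e_rc_9_3 lc_e_rc_16_1) (@D3.rec (fun _ => (Cert rels S Gen.e)) lc_e_rc_19_4 lc_e_rc_13_3 lc_e_rc_27_7 lc_e_rc_16_3 lc_e_rc_13_1 lc_e_rc_16_3 lc_e_rc_13_3 lc_e_rc_18_1 lc_e_rc_9_1 lc_e_rc_27_7 lc_e_rc_27_7 lc_e_rc_16_3 lc_e_rc_18_1 lc_e_rc_9_3 lc_e_rc_16_3 lc_e_rc_13_3 lc_e_rc_18_1 lc_e_Cert_tree lc_e_rc_16_1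 lc_e_rc_19_4 lc_e_rc_18_1 lc_e_rc_19_2 lc_e_rc_16_3 lc_e_rc_18_1 lc_e_rc_18_1 lc_e_rc_9_3 lc_e_rc_27_1 lc_e_rc_9_3 lc_e_Cert_tree lc_e_rc_18_1 lc_e_rc_16_3 lc_e_Cert_tree lc_e_rc_13_1 lc_e_rc_27_7 lc_e_rc_18_1 lc_e_rc_4_3 lc_e_rc_18_1 lc_e_Cert_tree lc_e_rc_27_7 lc_e_rc_27_1 lc_e_rc_18_1 lc_e_Cert_tree lc_e_rc_18_1 lc_e_Cert_tree lc_e_rc_9_3 lc_e_rc_13_3 lc_e_rc_13_3 lc_e_rc_27_5 lc_e_rc_18_1 lc_e_rc_18_1 lc_e_rc_27_5 lc_e_rc_18_1 lc_e_rc_27_1 lc_e_rc_16_1 lc_e_rc_4_3 lc_e_rc_18_1 lc_e_rc_18_1 lc_e_rc_18_1 lc_e_rc_18_1 lc_e_rc_9_3 lc_e_rc_9_3 lc_e_rc_16_3) (@D3.rec (fun _ => (Cert rels S Gen.e)) lc_e_rc_9_3 lc_e_rc_13_3 lc_e_rc_18_1 lc_e_rc_16_5 lc_e_rc_16_3 lc_e_rc_16_3 lc_e_rc_18_1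 lc_e_rc_9_1 lc_e_rc_13_1 lc_e_rc_19_0 lc_e_rc_18_1 lc_e_rc_13_3 lc_e_Cert_tree lc_e_rc_13_3 lc_e_rc_18_1 lc_e_rc_9_3 lc_e_rc_13_1 lc_e_Cert_tree lc_e_Cert_tree lc_e_rc_18_1 lc_e_rc_16_1 lc_e_rc_27_7 lc_e_rc_18_1 lc_e_rc_16_5 lc_e_rc_18_1 lc_e_rc_27_7 lc_e_rc_18_1 lc_e_rc_18_1 lc_e_rc_27_7 lc_e_rc_27_7 lc_e_rc_9_3 lc_e_rc_18_1 lc_e_rc_13_1 lc_e_rc_16_3 lc_e_rc_18_1 lc_e_rc_18_1 lc_e_rc_18_1 lc_e_Cert_tree lc_e_rc_18_1 lc_e_rc_19_2 lc_e_rc_18_1 lc_e_rc_16_3 lc_e_rc_19_4 lc_e_rc_27_1 lc_e_rc_18_1 lc_e_rc_18_1 lc_e_Cert_tree lc_e_rc_18_1 lc_e_rc_18_1 lc_e_rc_27_7 lc_e_Cert_tree lc_e_rc_9_3 lc_e_rc_13_3 lc_e_Cert_tree lc_e_rc_18_1 lc_e_rc_18_1 lc_e_rc_13_3 lc_e_rc_16_3 lc_e_rc_13_3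 lc_e_Cert_tree lc_e_rc_16_1 lc_e_rc_19_4) (@D3.rec (fun _ => (Cert rels S Gen.e)) lc_e_Cert_tree lc_e_rc_18_1 lc_e_rc_18_1 lc_e_Cert_tree lc_e_rc_13_3 lc_e_rc_13_3 lc_e_rc_4_3 lc_e_Cert_tree lc_e_rc_18_1 lc_e_Cert_tree lc_e_rc_13_3 lc_e_rc_16_3 lc_e_rc_27_1 lc_e_rc_16_3 lc_e_rc_18_1 lc_e_rc_9_1 lc_e_rc_4_3 lc_e_Cert_tree lc_e_rc_18_1 lc_e_rc_13_3 lc_e_rc_16_3 lc_e_rc_13_3 lc_e_rc_19_4 lc_e_rc_9_3 lc_e_Cert_tree lc_e_rc_18_1 lc_e_rc_18_1 lc_e_rc_16_5 lc_e_rc_13_3 lc_e_rc_27_5 lc_e_rc_13_3 lc_e_Cert_tree lc_e_rc_9_3 lc_e_rc_18_1 lc_e_rc_4_3 lc_e_rc_18_1 lc_e_rc_16_3 lc_e_Cert_tree lc_e_rc_18_1 lc_e_rc_18_1 lc_e_rc_9_1 lc_e_rc_19_4 lc_e_rc_18_1 lc_e_rc_27_5 lc_e_rc_18_1 lc_e_rc_16_5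 lc_e_rc_18_1 lc_e_rc_9_3 lc_e_rc_13_3 lc_e_rc_27_1 lc_e_rc_13_3 lc_e_Cert_tree lc_e_rc_9_3 lc_e_rc_18_1 lc_e_rc_16_5 lc_e_rc_9_3 lc_e_rc_16_1 lc_e_Cert_tree lc_e_rc_18_1 lc_e_rc_9_1 lc_e_rc_13_3 lc_e_rc_18_1) (@D3.rec (fun _ => (Cert rels S Gen.e)) lc_e_rc_9_3 lc_e_rc_13_3 lc_e_rc_18_1 lc_e_rc_13_3 lc_e_rc_16_5 lc_e_rc_18_1 lc_e_rc_18_1 lc_e_rc_16_3 lc_e_Cert_tree lc_e_rc_27_7 lc_e_Cert_tree lc_e_rc_13_3 lc_e_rc_9_3 lc_e_rc_19_0 lc_e_rc_18_1 lc_e_Cert_tree lc_e_rc_27_7 lc_e_rc_13_3 lc_e_rc_18_1 lc_e_rc_16_3 lc_e_rc_18_1 lc_e_rc_18_1 lc_e_Cert_tree lc_e_rc_18_1 lc_e_rc_16_1 lc_e_rc_4_3 lc_e_rc_13_3 lc_e_rc_13_3 lc_e_rc_27_1 lc_e_Cert_tree lc_e_rc_27_5 lc_e_rc_13_3 lc_e_Cert_tree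 lc_e_rc_18_1 lc_e_rc_18_1 lc_e_rc_19_2 lc_e_rc_4_1 lc_e_rc_13_3 lc_e_rc_18_1 lc_e_rc_9_3 lc_e_rc_18_1 lc_e_rc_18_1 lc_e_Cert_tree lc_e_Cert_tree lc_e_rc_18_1 lc_e_rc_9_3 lc_e_Cert_tree lc_e_rc_18_1 lc_e_rc_9_3 lc_e_rc_13_3 lc_e_Cert_tree lc_e_rc_18_1 lc_e_rc_27_7 lc_e_rc_16_1 lc_e_rc_19_4 lc_e_rc_18_1 lc_e_Cert_tree lc_e_rc_18_1 lc_e_Cert_tree lc_e_rc_27_5 lc_e_rc_16_1 lc_e_rc_9_3) (@D3.rec (fun _ => (Cert rels S Gen.e)) lc_e_rc_16_5 lc_e_rc_9_3 lc_e_rc_13_3 lc_e_rc_9_1 lc_e_rc_27_5 lc_e_Cert_tree lc_e_rc_18_1 lc_e_rc_18_1 lc_e_rc_4_3 lc_e_rc_4_3 lc_e_rc_16_5 lc_e_rc_18_1 lc_e_rc_9_3 lc_e_rc_18_1 lc_e_rc_4_3 lc_e_rc_4_3 lc_e_rc_18_1 lc_e_rc_13_3 lc_e_rc_27_5 lc_e_rc_4_3 lc_e_Cert_tree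 lc_e_rc_27_7 lc_e_rc_16_1 lc_e_rc_9_3 lc_e_rc_13_3 lc_e_rc_27_7 lc_e_rc_9_3 lc_e_rc_18_1 lc_e_rc_27_7 lc_e_Cert_tree lc_e_rc_18_1 lc_e_Cert_tree lc_e_Cert_tree lc_e_rc_27_5 lc_e_rc_16_3 lc_e_rc_19_2 lc_e_rc_18_1 lc_e_Cert_tree lc_e_rc_27_5 lc_e_rc_9_3 lc_e_rc_9_3 lc_e_Cert_tree lc_e_rc_9_1 lc_e_rc_18_1 lc_e_rc_18_1 lc_e_rc_13_3 lc_e_rc_16_1 lc_e_rc_19_4 lc_e_rc_27_1 lc_e_Cert_tree lc_e_rc_27_5 lc_e_rc_18_1 lc_e_rc_18_1 lc_e_rc_13_3 lc_e_rc_16_3 lc_e_rc_16_1 lc_e_rc_13_1 lc_e_rc_16_3 lc_e_Cert_tree lc_e_Cert_tree lc_e_rc_18_1 lc_e_rc_9_3) (@D3.rec (fun _ => (Cert rels S Gen.e)) lc_e_Cert_tree lc_e_Cert_tree lc_e_Cert_tree lc_e_rc_18_1 lc_e_rc_18_1 lc_e_rc_4_1 lc_e_rc_16_1 lc_e_rc_13_3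 lc_e_rc_13_3 lc_e_rc_27_1 lc_e_Cert_tree lc_e_rc_27_7 lc_e_Cert_tree lc_e_rc_16_3 lc_e_rc_18_1 lc_e_rc_4_3 lc_e_rc_9_3 lc_e_rc_13_3 lc_e_rc_18_1 lc_e_rc_27_5 lc_e_rc_18_1 lc_e_rc_27_1 lc_e_rc_13_1 lc_e_rc_16_3 lc_e_rc_18_1 lc_e_rc_27_5 lc_e_rc_13_1 lc_e_Cert_tree lc_e_rc_18_1 lc_e_Cert_tree lc_e_rc_4_3 lc_e_Cert_tree lc_e_rc_4_3 lc_e_rc_18_1 lc_e_rc_16_1 lc_e_rc_18_1 lc_e_rc_18_1 lc_e_rc_18_1 lc_e_rc_16_5 lc_e_rc_16_5 lc_e_rc_19_4 lc_e_Cert_tree lc_e_rc_13_3 lc_e_rc_9_3 lc_e_rc_18_1 lc_e_rc_16_3 lc_e_rc_27_1 lc_e_rc_13_3 lc_e_rc_16_3 lc_e_rc_13_3 lc_e_rc_13_1 lc_e_rc_18_1 lc_e_rc_27_7 lc_e_rc_18_1 lc_e_rc_27_7 lc_e_rc_18_1 lc_e_rc_16_1 lc_e_rc_16_5 lc_e_rc_27_1 lc_e_rc_18_1 lc_e_rc_27_5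 lc_e_rc_9_3) (@D3.rec (fun _ => (Cert rels S Gen.e)) lc_e_rc_18_1 lc_e_rc_19_2 lc_e_rc_27_5 lc_e_Cert_tree lc_e_rc_19_4 lc_e_rc_18_1 lc_e_Cert_tree lc_e_rc_27_7 lc_e_rc_4_3 lc_e_rc_18_1 lc_e_rc_13_3 lc_e_rc_13_3 lc_e_rc_16_5 lc_e_rc_9_3 lc_e_rc_19_2 lc_e_rc_27_1 lc_e_rc_13_3 lc_e_rc_9_3 lc_e_rc_9_3 lc_e_rc_9_1 lc_e_rc_16_3 lc_e_rc_19_4 lc_e_rc_27_1 lc_e_rc_18_1 lc_e_rc_18_1 lc_e_Cert_tree lc_e_rc_9_3 lc_e_rc_9_1 lc_e_rc_13_3 lc_e_rc_18_1 lc_e_rc_16_3 lc_e_rc_18_1 lc_e_rc_18_1 lc_e_rc_18_1 lc_e_rc_16_3 lc_e_rc_19_2 lc_e_rc_27_5 lc_e_rc_18_1 lc_e_rc_9_3 lc_e_rc_27_7 lc_e_rc_18_1 lc_e_rc_18_1 lc_e_rc_16_1 lc_e_rc_9_3 lc_e_rc_19_4 lc_e_rc_9_1 lc_e_rc_18_1 lc_e_rc_13_3 lc_e_rc_27_5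 lc_e_rc_18_1 lc_e_rc_13_3 lc_e_rc_4_1 lc_e_rc_18_1 lc_e_rc_16_3 lc_e_rc_13_3 lc_e_rc_9_3 lc_e_rc_13_3 lc_e_rc_13_3 lc_e_rc_13_3 lc_e_rc_13_3 lc_e_rc_18_1 lc_e_rc_13_1) (@D3.rec (fun _ => (Cert rels S Gen.e)) lc_e_rc_13_1 lc_e_rc_13_3 lc_e_rc_4_1 lc_e_rc_27_1 lc_e_rc_18_1 lc_e_rc_18_1 lc_e_rc_18_1 lc_e_rc_13_1 lc_e_Cert_tree lc_e_rc_9_3 lc_e_rc_18_1 lc_e_rc_27_5 lc_e_rc_27_7 lc_e_Cert_tree lc_e_rc_19_0 lc_e_rc_9_1 lc_e_rc_19_4 lc_e_rc_9_1 lc_e_rc_18_1 lc_e_rc_18_1 lc_e_rc_27_7 lc_e_rc_18_1 lc_e_rc_13_3 lc_e_rc_4_3 lc_e_rc_13_3 lc_e_rc_13_3 lc_e_rc_19_0 lc_e_rc_13_1 lc_e_rc_18_1 lc_e_rc_18_1 lc_e_rc_13_3 lc_e_rc_13_1 lc_e_rc_27_7 lc_e_rc_9_3 lc_e_rc_18_1 lc_e_rc_13_3 lc_e_rc_4_1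 lc_e_rc_27_5 lc_e_rc_18_1 lc_e_rc_4_3 lc_e_rc_18_1 lc_e_rc_16_1 lc_e_rc_16_3 lc_e_rc_9_3 lc_e_rc_9_3 lc_e_rc_13_3 lc_e_rc_9_1 lc_e_rc_18_1 lc_e_rc_9_3 lc_e_rc_18_1 lc_e_rc_19_2 lc_e_rc_19_0 lc_e_rc_18_1 lc_e_rc_18_1 lc_e_rc_13_3 lc_e_rc_18_1 lc_e_rc_13_1 lc_e_rc_13_3 lc_e_rc_27_1 lc_e_rc_4_1 lc_e_rc_4_1 lc_e_rc_18_1) (@D3.rec (fun _ => (Cert rels S Gen.e)) lc_e_rc_9_3 lc_e_rc_27_1 lc_e_rc_18_1 lc_e_rc_27_5 lc_e_rc_13_3 lc_e_rc_16_3 lc_e_rc_13_1 lc_e_rc_27_5 lc_e_rc_27_7 lc_e_rc_27_1 lc_e_rc_18_1 lc_e_rc_13_3 lc_e_rc_9_3 lc_e_rc_18_1 lc_e_rc_16_3 lc_e_rc_18_1 lc_e_rc_16_1 lc_e_rc_19_2 lc_e_rc_9_3 lc_e_rc_13_3 lc_e_rc_27_1 lc_e_rc_9_3 lc_e_Cert_tree lc_e_rc_18_1 lc_e_rc_18_1 lc_e_rc_27_1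 lc_e_rc_27_1 lc_e_rc_18_1 lc_e_rc_16_5 lc_e_rc_18_1 lc_e_rc_13_3 lc_e_rc_16_1 lc_e_rc_9_3 lc_e_Cert_tree lc_e_rc_18_1 lc_e_rc_9_3 lc_e_rc_16_5 lc_e_rc_4_1 lc_e_rc_18_1 lc_e_Cert_tree lc_e_rc_13_3 lc_e_rc_16_3 lc_e_rc_18_1 lc_e_rc_18_1 lc_e_rc_9_3 lc_e_rc_9_3 lc_e_rc_9_1 lc_e_rc_9_3 lc_e_Cert_tree lc_e_rc_18_1 lc_e_Cert_tree lc_e_rc_16_5 lc_e_Cert_tree lc_e_Cert_tree lc_e_rc_18_1 lc_e_rc_9_3 lc_e_rc_13_1 lc_e_rc_18_1 lc_e_rc_4_3 lc_e_Cert_tree lc_e_rc_18_1 lc_e_rc_13_3) (@D3.rec (fun _ => (Cert rels S Gen.e)) lc_e_rc_19_4 lc_e_Cert_tree lc_e_rc_18_1 lc_e_rc_9_3 lc_e_rc_13_1 lc_e_rc_18_1 lc_e_rc_27_5 lc_e_Cert_tree lc_e_rc_18_1 lc_e_Cert_tree lc_e_rc_18_1 lc_e_rc_27_7 lc_e_rc_27_7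 lc_e_rc_13_3 lc_e_Cert_tree lc_e_rc_18_1 lc_e_rc_18_1 lc_e_rc_27_5 lc_e_rc_27_5 lc_e_rc_19_4 lc_e_rc_19_4 lc_e_rc_9_3 lc_e_rc_13_1 lc_e_rc_16_5 lc_e_rc_16_1 lc_e_rc_13_3 lc_e_rc_27_5 lc_e_rc_27_1 lc_e_rc_13_3 lc_e_rc_18_1 lc_e_rc_27_1 lc_e_rc_13_3 lc_e_rc_18_1 lc_e_rc_9_3 lc_e_rc_16_5 lc_e_rc_19_2 lc_e_rc_18_1 lc_e_rc_16_5 lc_e_rc_27_7 lc_e_rc_27_5 lc_e_rc_18_1 lc_e_rc_18_1 lc_e_rc_27_1 lc_e_Cert_tree lc_e_Cert_tree lc_e_Cert_tree lc_e_rc_18_1 lc_e_rc_18_1 lc_e_rc_4_1 lc_e_rc_19_4 lc_e_rc_27_5 lc_e_rc_16_1 lc_e_rc_19_4 lc_e_rc_27_5 lc_e_rc_18_1 lc_e_rc_27_1 lc_e_rc_18_1 lc_e_rc_9_1 lc_e_rc_18_1 lc_e_rc_9_1 lc_e_rc_18_1 lc_e_rc_27_1) (@D3.rec (fun _ => (Cert rels S Gen.e)) lc_e_rc_27_7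 lc_e_rc_18_1 lc_e_rc_18_1 lc_e_rc_18_1 lc_e_rc_13_3 lc_e_rc_13_3 lc_e_Cert_tree lc_e_rc_9_3 lc_e_rc_18_1 lc_e_rc_18_1 lc_e_Cert_tree lc_e_rc_16_3 lc_e_rc_19_4 lc_e_rc_13_3 lc_e_rc_9_1 lc_e_rc_9_3 lc_e_Cert_tree lc_e_Cert_tree lc_e_rc_18_1 lc_e_rc_18_1 lc_e_rc_19_4 lc_e_rc_18_1 lc_e_rc_18_1 lc_e_rc_19_4 lc_e_rc_13_3 lc_e_Cert_tree lc_e_rc_13_3 lc_e_Cert_tree lc_e_Cert_tree lc_e_rc_18_1 lc_e_rc_16_5 lc_e_Cert_tree lc_e_Cert_tree lc_e_rc_13_3 lc_e_rc_18_1 lc_e_Cert_tree lc_e_Cert_tree lc_e_rc_27_7 lc_e_Cert_tree lc_e_rc_18_1 lc_e_rc_18_1 lc_e_Cert_tree lc_e_rc_18_1 lc_e_rc_18_1 lc_e_rc_13_3 lc_e_rc_9_3 lc_e_rc_19_4 lc_e_rc_13_3 lc_e_rc_9_3 lc_e_rc_18_1 lc_e_rc_16_1 lc_e_rc_27_1 lc_e_rc_13_1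 lc_e_Cert_tree lc_e_rc_18_1 lc_e_rc_16_3 lc_e_rc_27_1 lc_e_rc_13_3 lc_e_rc_16_3 lc_e_rc_27_7 lc_e_rc_13_1 lc_e_rc_9_3) (@D3.rec (fun _ => (Cert rels S Gen.e)) lc_e_rc_13_3 lc_e_rc_4_1 lc_e_rc_18_1 lc_e_rc_13_3 lc_e_rc_18_1 lc_e_rc_9_3 lc_e_Cert_tree lc_e_rc_16_3 lc_e_rc_9_3 lc_e_rc_18_1 lc_e_rc_27_5 lc_e_rc_18_1 lc_e_rc_13_3 lc_e_Cert_tree lc_e_rc_4_3 lc_e_rc_4_1 lc_e_rc_16_3 lc_e_Cert_tree lc_e_rc_18_1 lc_e_rc_27_1 lc_e_rc_18_1 lc_e_rc_18_1 lc_e_Cert_tree lc_e_rc_13_3 lc_e_rc_16_3 lc_e_rc_19_4 lc_e_Cert_tree lc_e_rc_9_3 lc_e_rc_16_1 lc_e_rc_19_4 lc_e_rc_9_1 lc_e_Cert_tree lc_e_rc_18_1 lc_e_Cert_tree lc_e_Cert_tree lc_e_rc_13_3 lc_e_rc_13_1 lc_e_rc_9_3 lc_e_Cert_tree lc_e_rc_9_3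 lc_e_rc_16_5 lc_e_rc_13_3 lc_e_rc_16_3 lc_e_rc_19_4 lc_e_rc_27_1 lc_e_rc_9_3 lc_e_rc_18_1 lc_e_rc_4_3 lc_e_rc_4_3 lc_e_rc_9_3 lc_e_rc_9_3 lc_e_rc_9_1 lc_e_rc_9_3 lc_e_Cert_tree lc_e_Cert_tree lc_e_rc_18_1 lc_e_rc_18_1 lc_e_Cert_tree lc_e_rc_27_7 lc_e_Cert_tree lc_e_rc_9_1 lc_e_Cert_tree) (@D3.rec (fun _ => (Cert rels S Gen.e)) lc_e_rc_13_1 lc_e_rc_18_1 lc_e_rc_18_1 lc_e_rc_9_3 lc_e_rc_16_5 lc_e_rc_18_1 lc_e_rc_18_1 lc_e_rc_18_1 lc_e_Cert_tree lc_e_rc_13_3 lc_e_rc_19_4 lc_e_rc_9_3 lc_e_Cert_tree lc_e_rc_16_1 lc_e_rc_19_4 lc_e_Cert_tree lc_e_rc_18_1 lc_e_rc_9_3 lc_e_Cert_tree lc_e_rc_13_3 lc_e_Cert_tree lc_e_Cert_tree lc_e_rc_18_1 lc_e_rc_9_3 lc_e_Cert_tree lc_e_Cert_tree lc_e_rc_18_1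 lc_e_rc_9_3 lc_e_rc_13_3 lc_e_rc_18_1 lc_e_Cert_tree lc_e_Cert_tree lc_e_rc_16_1 lc_e_rc_19_4 lc_e_rc_13_3 lc_e_Cert_tree lc_e_rc_9_3 lc_e_rc_16_1 lc_e_rc_19_4 lc_e_rc_13_1 lc_e_rc_13_3 lc_e_rc_4_3 lc_e_rc_9_3 lc_e_rc_18_1 lc_e_rc_27_5 lc_e_Cert_tree lc_e_Cert_tree lc_e_rc_18_1 lc_e_rc_19_2 lc_e_rc_4_3 lc_e_rc_18_1 lc_e_rc_16_1 lc_e_rc_19_4 lc_e_rc_16_1 lc_e_Cert_tree lc_e_rc_16_1 lc_e_rc_19_4 lc_e_rc_13_3 lc_e_rc_9_3 lc_e_rc_18_1 lc_e_rc_18_1 lc_e_rc_13_3) (@D3.rec (fun _ => (Cert rels S Gen.e)) lc_e_rc_18_1 lc_e_Cert_tree lc_e_rc_18_1 lc_e_rc_18_1 lc_e_rc_16_1 lc_e_rc_19_2 lc_e_rc_27_5 lc_e_rc_13_1 lc_e_rc_18_1 lc_e_Cert_tree lc_e_rc_18_1 lc_e_rc_18_1 lc_e_Cert_tree lc_e_Cert_tree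 lc_e_rc_16_5 lc_e_rc_16_3 lc_e_rc_18_1 lc_e_rc_27_1 lc_e_rc_18_1 lc_e_rc_18_1 lc_e_rc_4_3 lc_e_rc_18_1 lc_e_rc_13_3 lc_e_Cert_tree lc_e_rc_16_1 lc_e_rc_19_4 lc_e_Cert_tree lc_e_rc_18_1 lc_e_Cert_tree lc_e_rc_16_5 lc_e_rc_16_1 lc_e_rc_19_4 lc_e_rc_13_1 lc_e_rc_18_1 lc_e_Cert_tree lc_e_rc_18_1 lc_e_rc_27_1 lc_e_rc_19_4 lc_e_rc_9_3 lc_e_rc_9_3 lc_e_rc_18_1 lc_e_rc_27_5 lc_e_rc_18_1 lc_e_rc_18_1 lc_e_Cert_tree lc_e_rc_13_1 lc_e_rc_27_5 lc_e_rc_18_1 lc_e_rc_16_5 lc_e_rc_9_3 lc_e_rc_18_1 lc_e_Cert_tree lc_e_rc_16_5 lc_e_rc_4_3 lc_e_rc_18_1 lc_e_Cert_tree lc_e_rc_16_3 lc_e_rc_18_1 lc_e_rc_18_1 lc_e_rc_27_5 lc_e_rc_18_1 lc_e_rc_16_5) (@D3.rec (fun _ => (Cert rels S Gen.e)) lc_e_rc_9_3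 lc_e_rc_9_1 lc_e_rc_18_1 lc_e_rc_27_1 lc_e_Cert_tree lc_e_rc_16_5 lc_e_Cert_tree lc_e_rc_18_1 lc_e_rc_9_3 lc_e_Cert_tree lc_e_rc_16_5 lc_e_rc_18_1 lc_e_rc_16_5 lc_e_rc_9_1 lc_e_rc_16_1 lc_e_rc_19_2 lc_e_rc_18_1 lc_e_rc_18_1 lc_e_rc_16_5 lc_e_rc_9_3 lc_e_rc_16_1 lc_e_rc_9_1 lc_e_Cert_tree lc_e_rc_16_3 lc_e_rc_27_7 lc_e_rc_18_1 lc_e_rc_19_0 lc_e_rc_18_1 lc_e_rc_27_1 lc_e_rc_27_5 lc_e_rc_4_3 lc_e_rc_18_1 lc_e_rc_4_3 lc_e_rc_19_4 lc_e_rc_19_0 lc_e_rc_18_1 lc_e_rc_27_7 lc_e_Cert_tree lc_e_rc_4_1 lc_e_Cert_tree lc_e_Cert_tree lc_e_rc_4_3 lc_e_rc_27_5 lc_e_rc_18_1 lc_e_rc_27_1 lc_e_Cert_tree lc_e_rc_18_1 lc_e_rc_4_1 lc_e_rc_18_1 lc_e_rc_13_1 lc_e_rc_18_1 lc_e_rc_4_3 lc_e_rc_16_1 lc_e_rc_4_3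 lc_e_rc_13_3 lc_e_rc_18_1 lc_e_rc_16_1 lc_e_rc_9_3 lc_e_Cert_tree lc_e_rc_4_3 lc_e_rc_16_5 lc_e_rc_13_3)
def ce_e_21 : D2 → D3 → (Cert rels S Gen.e) := @D2.rec (fun _ => D3 → (Cert rels S Gen.e)) (@D3.rec (fun _ => (Cert rels S Gen.e)) lc_e_Cert_tree lc_e_rc_19_0 lc_e_Cert_tree lc_e_rc_16_5 lc_e_rc_27_5 lc_e_rc_13_1 lc_e_rc_18_1 lc_e_rc_9_3 lc_e_rc_9_3 lc_e_rc_27_5 lc_e_rc_13_3 lc_e_rc_27_7 lc_e_rc_18_1 lc_e_rc_16_5 lc_e_rc_4_3 lc_e_Cert_tree lc_e_rc_18_1 lc_e_Cert_tree lc_e_rc_18_1 lc_e_rc_9_3 lc_e_rc_4_3 lc_e_rc_9_3 lc_e_rc_9_1 lc_e_rc_27_1 lc_e_rc_18_1 lc_e_rc_16_5 lc_e_rc_18_1 lc_e_rc_27_5 lc_e_Cert_tree lc_e_rc_18_1 lc_e_rc_18_1 lc_e_rc_13_3 lc_e_rc_9_3 lc_e_rc_18_1 lc_e_rc_16_3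 lc_e_rc_16_5 lc_e_rc_16_5 lc_e_rc_13_3 lc_e_rc_27_7 lc_e_rc_18_1 lc_e_rc_13_1 lc_e_rc_9_3 lc_e_rc_16_3 lc_e_rc_13_1 lc_e_Cert_tree lc_e_rc_16_3 lc_e_rc_9_3 lc_e_rc_27_1 lc_e_Cert_tree lc_e_Cert_tree lc_e_rc_18_1 lc_e_rc_4_3 lc_e_rc_18_1 lc_e_rc_9_3 lc_e_rc_9_3 lc_e_rc_27_7 lc_e_rc_18_1 lc_e_rc_27_5 lc_e_rc_18_1 lc_e_rc_27_7 lc_e_rc_4_3 lc_e_rc_9_3) (@D3.rec (fun _ => (Cert rels S Gen.e)) lc_e_rc_13_3 lc_e_rc_18_1 lc_e_rc_13_3 lc_e_Cert_tree lc_e_rc_13_3 lc_e_rc_9_1 lc_e_rc_13_1 lc_e_rc_9_3 lc_e_rc_9_3 lc_e_Cert_tree lc_e_rc_9_3 lc_e_Cert_tree lc_e_rc_18_1 lc_e_rc_27_1 lc_e_rc_27_5 lc_e_Cert_tree lc_e_rc_18_1 lc_e_rc_13_3 lc_e_rc_9_3 lc_e_rc_18_1 lc_e_rc_27_5 lc_e_Cert_tree lc_e_rc_18_1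 lc_e_Cert_tree lc_e_rc_16_5 lc_e_rc_18_1 lc_e_rc_16_1 lc_e_Cert_tree lc_e_rc_18_1 lc_e_rc_9_3 lc_e_rc_18_1 lc_e_rc_16_1 lc_e_rc_4_3 lc_e_rc_27_7 lc_e_Cert_tree lc_e_rc_18_1 lc_e_rc_19_0 lc_e_rc_13_3 lc_e_rc_9_3 lc_e_rc_18_1 lc_e_rc_13_3 lc_e_rc_27_5 lc_e_Cert_tree lc_e_Cert_tree lc_e_rc_18_1 lc_e_rc_9_3 lc_e_Cert_tree lc_e_rc_4_3 lc_e_rc_18_1 lc_e_rc_13_3 lc_e_rc_13_1 lc_e_rc_13_3 lc_e_rc_18_1 lc_e_rc_18_1 lc_e_Cert_tree lc_e_rc_16_1 lc_e_rc_19_4 lc_e_rc_9_3 lc_e_Cert_tree lc_e_rc_18_1 lc_e_rc_13_1 lc_e_Cert_tree) (@D3.rec (fun _ => (Cert rels S Gen.e)) lc_e_rc_9_3 lc_e_rc_18_1 lc_e_Cert_tree lc_e_rc_13_1 lc_e_rc_18_1 lc_e_rc_27_7 lc_e_Cert_tree lc_e_rc_18_1 lc_e_rc_27_5 lc_e_rc_13_3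 lc_e_rc_13_3 lc_e_rc_9_1 lc_e_rc_18_1 lc_e_rc_16_1 lc_e_rc_18_1 lc_e_Cert_tree lc_e_rc_18_1 lc_e_rc_13_1 lc_e_rc_18_1 lc_e_rc_4_3 lc_e_rc_16_1 lc_e_rc_9_1 lc_e_rc_16_1 lc_e_rc_19_2 lc_e_rc_19_0 lc_e_Cert_tree lc_e_Cert_tree lc_e_rc_18_1 lc_e_rc_13_3 lc_e_Cert_tree lc_e_rc_13_3 lc_e_rc_16_3 lc_e_rc_18_1 lc_e_rc_16_1 lc_e_rc_13_3 lc_e_rc_27_1 lc_e_rc_27_5 lc_e_rc_18_1 lc_e_rc_27_5 lc_e_rc_18_1 lc_e_Cert_tree lc_e_rc_13_3 lc_e_rc_18_1 lc_e_rc_27_5 lc_e_rc_18_1 lc_e_rc_19_2 lc_e_rc_16_5 lc_e_rc_13_3 lc_e_rc_13_1 lc_e_rc_13_1 lc_e_rc_19_2 lc_e_rc_16_1 lc_e_rc_19_4 lc_e_rc_16_5 lc_e_rc_27_5 lc_e_rc_13_3 lc_e_rc_18_1 lc_e_rc_19_4 lc_e_rc_18_1 lc_e_rc_13_3 lc_e_rc_27_1 lc_e_rc_13_3) (@D3.rec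 (fun _ => (Cert rels S Gen.e)) lc_e_rc_19_4 lc_e_rc_13_1 lc_e_rc_18_1 lc_e_rc_19_2 lc_e_rc_9_3 lc_e_rc_27_1 lc_e_rc_9_1 lc_e_rc_9_1 lc_e_rc_18_1 lc_e_rc_27_5 lc_e_Cert_tree lc_e_rc_18_1 lc_e_rc_9_1 lc_e_rc_19_0 lc_e_rc_27_5 lc_e_rc_18_1 lc_e_rc_13_3 lc_e_rc_18_1 lc_e_rc_4_1 lc_e_rc_18_1 lc_e_rc_16_1 lc_e_rc_9_3 lc_e_rc_18_1 lc_e_rc_13_3 lc_e_rc_18_1 lc_e_rc_27_7 lc_e_rc_16_1 lc_e_rc_18_1 lc_e_rc_4_3 lc_e_rc_13_1 lc_e_rc_16_1 lc_e_rc_19_4 lc_e_rc_18_1 lc_e_rc_18_1 lc_e_rc_13_1 lc_e_rc_27_5 lc_e_rc_13_3 lc_e_Cert_tree lc_e_rc_27_7 lc_e_rc_18_1 lc_e_rc_18_1 lc_e_rc_13_3 lc_e_rc_9_3 lc_e_rc_18_1 lc_e_rc_4_3 lc_e_Cert_tree lc_e_rc_18_1 lc_e_rc_13_1 lc_e_rc_16_1 lc_e_rc_16_3 lc_e_rc_13_3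 lc_e_rc_4_3 lc_e_rc_16_3 lc_e_rc_18_1 lc_e_rc_16_5 lc_e_rc_27_1 lc_e_rc_13_1 lc_e_rc_18_1 lc_e_rc_9_3 lc_e_rc_13_3 lc_e_rc_4_1 lc_e_rc_19_0) (@D3.rec (fun _ => (Cert rels S Gen.e)) lc_e_Cert_tree lc_e_rc_18_1 lc_e_rc_13_3 lc_e_rc_27_7 lc_e_rc_18_1 lc_e_rc_13_3 lc_e_rc_27_7 lc_e_rc_18_1 lc_e_rc_18_1 lc_e_rc_18_1 lc_e_rc_27_7 lc_e_rc_13_1 lc_e_rc_18_1 lc_e_rc_16_3 lc_e_Cert_tree lc_e_rc_18_1 lc_e_rc_18_1 lc_e_rc_4_1 lc_e_rc_18_1 lc_e_rc_18_1 lc_e_rc_18_1 lc_e_rc_27_1 lc_e_rc_16_3 lc_e_rc_16_5 lc_e_rc_18_1 lc_e_Cert_tree lc_e_rc_27_7 lc_e_rc_27_7 lc_e_rc_4_3 lc_e_rc_4_1 lc_e_rc_13_3 lc_e_rc_27_5 lc_e_rc_16_3 lc_e_rc_13_3 lc_e_rc_27_1 lc_e_rc_19_0 lc_e_rc_16_5 lc_e_rc_9_1 lc_e_rc_18_1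 lc_e_rc_19_2 lc_e_rc_9_3 lc_e_rc_27_1 lc_e_rc_16_3 lc_e_rc_27_5 lc_e_rc_27_1 lc_e_rc_18_1 lc_e_rc_27_1 lc_e_Cert_tree lc_e_Cert_tree lc_e_rc_18_1 lc_e_Cert_tree lc_e_rc_13_1 lc_e_rc_18_1 lc_e_rc_18_1 lc_e_rc_9_1 lc_e_rc_16_3 lc_e_rc_16_5 lc_e_Cert_tree lc_e_rc_4_3 lc_e_rc_9_3 lc_e_rc_13_3 lc_e_rc_27_7) (@D3.rec (fun _ => (Cert rels S Gen.e)) lc_e_rc_4_3 lc_e_rc_9_1 lc_e_rc_18_1 lc_e_rc_27_5 lc_e_rc_9_3 lc_e_rc_16_3 lc_e_rc_19_2 lc_e_rc_19_2 lc_e_rc_4_1 lc_e_Cert_tree lc_e_rc_18_1 lc_e_rc_18_1 lc_e_rc_18_1 lc_e_rc_18_1 lc_e_rc_16_1 lc_e_rc_13_3 lc_e_rc_9_3 lc_e_rc_16_5 lc_e_rc_16_1 lc_e_rc_27_1 lc_e_rc_9_3 lc_e_rc_9_3 lc_e_rc_27_1 lc_e_rc_16_1 lc_e_rc_18_1 lc_e_Cert_tree lc_e_Cert_tree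 lc_e_rc_18_1 lc_e_rc_27_1 lc_e_rc_27_7 lc_e_rc_13_3 lc_e_rc_27_5 lc_e_rc_27_1 lc_e_rc_16_3 lc_e_rc_13_3 lc_e_rc_9_3 lc_e_rc_27_1 lc_e_rc_9_3 lc_e_rc_27_7 lc_e_Cert_tree lc_e_rc_18_1 lc_e_rc_9_3 lc_e_rc_27_5 lc_e_rc_19_0 lc_e_rc_18_1 lc_e_rc_4_1 lc_e_Cert_tree lc_e_rc_18_1 lc_e_rc_18_1 lc_e_rc_18_1 lc_e_rc_16_5 lc_e_rc_16_3 lc_e_rc_19_4 lc_e_rc_13_3 lc_e_rc_9_3 lc_e_rc_13_3 lc_e_rc_13_3 lc_e_rc_4_3 lc_e_Cert_tree lc_e_rc_9_3 lc_e_Cert_tree lc_e_rc_16_1) (@D3.rec (fun _ => (Cert rels S Gen.e)) lc_e_rc_4_3 lc_e_rc_9_1 lc_e_rc_18_1 lc_e_rc_4_1 lc_e_rc_9_3 lc_e_rc_4_3 lc_e_rc_27_5 lc_e_rc_16_1 lc_e_rc_4_1 lc_e_rc_18_1 lc_e_rc_27_1 lc_e_rc_16_5 lc_e_rc_19_4 lc_e_rc_9_1 lc_e_rc_18_1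 lc_e_rc_9_3 lc_e_rc_4_3 lc_e_rc_16_3 lc_e_rc_18_1 lc_e_rc_4_1 lc_e_rc_13_1 lc_e_rc_18_1 lc_e_Cert_tree lc_e_rc_18_1 lc_e_rc_27_5 lc_e_rc_18_1 lc_e_Cert_tree lc_e_rc_9_3 lc_e_rc_19_2 lc_e_rc_16_3 lc_e_rc_27_7 lc_e_rc_27_7 lc_e_rc_18_1 lc_e_rc_13_1 lc_e_rc_18_1 lc_e_rc_4_3 lc_e_rc_13_1 lc_e_rc_18_1 lc_e_rc_9_3 lc_e_Cert_tree lc_e_rc_13_3 lc_e_rc_4_3 lc_e_rc_13_1 lc_e_rc_18_1 lc_e_rc_27_5 lc_e_rc_18_1 lc_e_Cert_tree lc_e_rc_13_3 lc_e_rc_18_1 lc_e_rc_13_3 lc_e_rc_16_5 lc_e_rc_18_1 lc_e_Cert_tree lc_e_rc_16_3 lc_e_rc_18_1 lc_e_rc_27_5 lc_e_rc_18_1 lc_e_rc_18_1 lc_e_rc_18_1 lc_e_rc_16_1 lc_e_rc_13_1 lc_e_rc_27_7) (@D3.rec (fun _ => (Cert rels S Gen.e)) lc_e_rc_13_3 lc_e_rc_19_2 lc_e_rc_19_4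 lc_e_rc_27_7 lc_e_rc_18_1 lc_e_Cert_tree lc_e_rc_18_1 lc_e_rc_16_5 lc_e_Cert_tree lc_e_rc_9_3 lc_e_Cert_tree lc_e_rc_18_1 lc_e_rc_13_3 lc_e_rc_18_1 lc_e_Cert_tree lc_e_rc_18_1 lc_e_Cert_tree lc_e_rc_18_1 lc_e_rc_13_1 lc_e_rc_18_1 lc_e_rc_16_5 lc_e_rc_27_5 lc_e_rc_27_7 lc_e_rc_19_4 lc_e_rc_18_1 lc_e_rc_16_1 lc_e_rc_18_1 lc_e_rc_18_1 lc_e_rc_18_1 lc_e_rc_16_1 lc_e_rc_16_1 lc_e_rc_19_4 lc_e_rc_9_3 lc_e_rc_13_3 lc_e_rc_18_1 lc_e_rc_16_3 lc_e_rc_16_3 lc_e_rc_13_3 lc_e_rc_4_3 lc_e_rc_16_1 lc_e_rc_19_2 lc_e_rc_16_5 lc_e_rc_19_2 lc_e_rc_27_5 lc_e_Cert_tree lc_e_rc_18_1 lc_e_rc_18_1 lc_e_rc_18_1 lc_e_rc_18_1 lc_e_rc_27_7 lc_e_rc_18_1 lc_e_rc_4_3 lc_e_rc_27_7 lc_e_rc_19_4 lc_e_rc_9_3 lc_e_rc_13_1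 lc_e_rc_18_1 lc_e_rc_27_7 lc_e_rc_13_3 lc_e_rc_16_3 lc_e_rc_18_1 lc_e_rc_27_5) (@D3.rec (fun _ => (Cert rels S Gen.e)) lc_e_rc_27_1 lc_e_rc_4_3 lc_e_rc_13_3 lc_e_rc_19_2 lc_e_rc_18_1 lc_e_rc_16_5 lc_e_rc_13_1 lc_e_rc_18_1 lc_e_rc_18_1 lc_e_rc_9_3 lc_e_rc_18_1 lc_e_rc_13_3 lc_e_rc_18_1 lc_e_rc_16_1 lc_e_rc_13_3 lc_e_rc_18_1 lc_e_rc_13_3 lc_e_rc_16_1 lc_e_rc_19_2 lc_e_rc_9_1 lc_e_rc_16_3 lc_e_rc_9_3 lc_e_rc_27_1 lc_e_rc_9_3 lc_e_rc_4_3 lc_e_rc_9_1 lc_e_Cert_tree lc_e_rc_18_1 lc_e_rc_13_3 lc_e_rc_18_1 lc_e_rc_9_3 lc_e_Cert_tree lc_e_rc_9_1 lc_e_rc_18_1 lc_e_rc_13_3 lc_e_rc_4_3 lc_e_rc_16_1 lc_e_rc_16_3 lc_e_rc_13_3 lc_e_rc_27_7 lc_e_rc_16_5 lc_e_rc_18_1 lc_e_rc_18_1 lc_e_rc_16_5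 lc_e_rc_9_3 lc_e_rc_19_4 lc_e_rc_19_4 lc_e_rc_18_1 lc_e_rc_16_3 lc_e_rc_18_1 lc_e_rc_16_3 lc_e_Cert_tree lc_e_rc_18_1 lc_e_rc_9_3 lc_e_rc_18_1 lc_e_Cert_tree lc_e_rc_9_3 lc_e_Cert_tree lc_e_rc_9_1 lc_e_rc_18_1 lc_e_rc_9_3 lc_e_rc_18_1) (@D3.rec (fun _ => (Cert rels S Gen.e)) lc_e_rc_18_1 lc_e_rc_18_1 lc_e_rc_4_1 lc_e_rc_13_1 lc_e_Cert_tree lc_e_rc_18_1 lc_e_rc_9_3 lc_e_rc_13_3 lc_e_Cert_tree lc_e_rc_18_1 lc_e_rc_9_1 lc_e_rc_19_4 lc_e_rc_16_3 lc_e_rc_18_1 lc_e_rc_13_1 lc_e_rc_19_2 lc_e_rc_18_1 lc_e_rc_13_3 lc_e_rc_16_5 lc_e_rc_4_3 lc_e_rc_18_1 lc_e_rc_16_3 lc_e_Cert_tree lc_e_rc_18_1 lc_e_rc_27_7 lc_e_rc_13_1 lc_e_rc_18_1 lc_e_rc_18_1 lc_e_rc_13_3 lc_e_rc_9_1 lc_e_rc_19_2 lc_e_rc_18_1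 lc_e_rc_19_2 lc_e_rc_27_5 lc_e_rc_4_3 lc_e_rc_18_1 lc_e_rc_27_5 lc_e_rc_27_7 lc_e_rc_27_5 lc_e_rc_13_3 lc_e_rc_9_1 lc_e_rc_4_3 lc_e_rc_18_1 lc_e_rc_18_1 lc_e_rc_27_5 lc_e_rc_27_7 lc_e_rc_18_1 lc_e_rc_27_1 lc_e_rc_9_1 lc_e_rc_4_3 lc_e_rc_19_2 lc_e_rc_19_2 lc_e_rc_13_3 lc_e_rc_4_3 lc_e_rc_18_1 lc_e_rc_18_1 lc_e_rc_18_1 lc_e_rc_9_3 lc_e_rc_16_3 lc_e_rc_27_7 lc_e_rc_18_1 lc_e_rc_27_7) (@D3.rec (fun _ => (Cert rels S Gen.e)) lc_e_rc_4_3 lc_e_rc_9_1 lc_e_rc_27_5 lc_e_rc_13_3 lc_e_rc_27_7 lc_e_rc_16_1 lc_e_rc_13_3 lc_e_rc_18_1 lc_e_rc_16_3 lc_e_rc_13_3 lc_e_rc_16_5 lc_e_rc_16_5 lc_e_rc_18_1 lc_e_rc_27_1 lc_e_rc_16_3 lc_e_rc_9_3 lc_e_rc_4_3 lc_e_rc_19_4 lc_e_Cert_tree lc_e_rc_18_1 lc_e_Cert_tree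 lc_e_rc_18_1 lc_e_rc_19_4 lc_e_rc_18_1 lc_e_rc_13_1 lc_e_rc_27_1 lc_e_rc_9_3 lc_e_rc_13_3 lc_e_rc_27_5 lc_e_rc_18_1 lc_e_rc_18_1 lc_e_Cert_tree lc_e_rc_19_4 lc_e_Cert_tree lc_e_rc_18_1 lc_e_rc_18_1 lc_e_rc_27_1 lc_e_rc_19_4 lc_e_Cert_tree lc_e_rc_18_1 lc_e_rc_27_7 lc_e_rc_18_1 lc_e_rc_13_3 lc_e_Cert_tree lc_e_rc_19_4 lc_e_rc_13_3 lc_e_rc_18_1 lc_e_rc_18_1 lc_e_rc_27_5 lc_e_rc_19_4 lc_e_rc_4_3 lc_e_rc_18_1 lc_e_rc_13_3 lc_e_rc_18_1 lc_e_rc_18_1 lc_e_rc_9_3 lc_e_rc_4_3 lc_e_rc_18_1 lc_e_rc_9_3 lc_e_rc_19_2 lc_e_Cert_tree lc_e_Cert_tree) (@D3.rec (fun _ => (Cert rels S Gen.e)) lc_e_rc_18_1 lc_e_Cert_tree lc_e_rc_18_1 lc_e_rc_9_3 lc_e_Cert_tree lc_e_rc_19_4 lc_e_Cert_tree lc_e_rc_13_3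 lc_e_Cert_tree lc_e_rc_9_3 lc_e_rc_18_1 lc_e_rc_19_2 lc_e_Cert_tree lc_e_rc_18_1 lc_e_rc_16_5 lc_e_Cert_tree lc_e_rc_13_3 lc_e_rc_16_3 lc_e_rc_18_1 lc_e_rc_19_4 lc_e_rc_9_3 lc_e_rc_18_1 lc_e_rc_9_3 lc_e_rc_27_7 lc_e_rc_16_3 lc_e_rc_27_1 lc_e_rc_27_7 lc_e_Cert_tree lc_e_rc_18_1 lc_e_rc_13_1 lc_e_Cert_tree lc_e_Cert_tree lc_e_rc_18_1 lc_e_rc_18_1 lc_e_rc_27_1 lc_e_rc_27_1 lc_e_rc_19_0 lc_e_rc_18_1 lc_e_rc_27_5 lc_e_rc_18_1 lc_e_Cert_tree lc_e_rc_18_1 lc_e_rc_9_1 lc_e_rc_27_5 lc_e_rc_18_1 lc_e_rc_18_1 lc_e_rc_27_5 lc_e_Cert_tree lc_e_rc_18_1 lc_e_Cert_tree lc_e_rc_27_5 lc_e_rc_18_1 lc_e_Cert_tree lc_e_rc_18_1 lc_e_rc_18_1 lc_e_rc_19_0 lc_e_rc_18_1 lc_e_rc_9_3 lc_e_rc_4_3 lc_e_rc_9_3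 lc_e_rc_18_1 lc_e_rc_27_1) (@D3.rec (fun _ => (Cert rels S Gen.e)) lc_e_Cert_tree lc_e_rc_19_4 lc_e_Cert_tree lc_e_rc_18_1 lc_e_rc_18_1 lc_e_rc_27_5 lc_e_rc_19_4 lc_e_rc_4_3 lc_e_rc_16_5 lc_e_rc_16_1 lc_e_rc_9_1 lc_e_rc_16_3 lc_e_rc_18_1 lc_e_rc_18_1 lc_e_rc_18_1 lc_e_rc_4_3 lc_e_rc_18_1 lc_e_rc_9_1 lc_e_rc_18_1 lc_e_rc_13_3 lc_e_rc_9_3 lc_e_rc_16_1 lc_e_rc_18_1 lc_e_rc_18_1 lc_e_rc_18_1 lc_e_Cert_tree lc_e_rc_18_1 lc_e_rc_16_3 lc_e_rc_19_4 lc_e_rc_18_1 lc_e_rc_18_1 lc_e_Cert_tree lc_e_rc_18_1 lc_e_rc_18_1 lc_e_rc_18_1 lc_e_rc_18_1 lc_e_Cert_tree lc_e_Cert_tree lc_e_rc_18_1 lc_e_rc_18_1 lc_e_rc_9_3 lc_e_Cert_tree lc_e_rc_27_7 lc_e_rc_16_5 lc_e_rc_9_1 lc_e_rc_18_1 lc_e_rc_18_1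 lc_e_rc_27_5 lc_e_rc_18_1 lc_e_rc_13_3 lc_e_rc_18_1 lc_e_Cert_tree lc_e_rc_19_4 lc_e_rc_13_3 lc_e_rc_18_1 lc_e_rc_18_1 lc_e_rc_16_1 lc_e_rc_19_4 lc_e_rc_27_5 lc_e_Cert_tree lc_e_rc_16_3 lc_e_rc_18_1) (@D3.rec (fun _ => (Cert rels S Gen.e)) lc_e_rc_27_7 lc_e_rc_18_1 lc_e_rc_18_1 lc_e_rc_9_1 lc_e_rc_18_1 lc_e_rc_18_1 lc_e_rc_13_3 lc_e_rc_18_1 lc_e_rc_27_7 lc_e_rc_9_3 lc_e_rc_19_2 lc_e_rc_16_1 lc_e_rc_19_2 lc_e_Cert_tree lc_e_Cert_tree lc_e_rc_18_1 lc_e_rc_27_7 lc_e_rc_9_3 lc_e_rc_18_1 lc_e_Cert_tree lc_e_rc_18_1 lc_e_Cert_tree lc_e_rc_18_1 lc_e_rc_18_1 lc_e_Cert_tree lc_e_rc_18_1 lc_e_rc_18_1 lc_e_rc_27_5 lc_e_Cert_tree lc_e_rc_18_1 lc_e_rc_18_1 lc_e_Cert_tree lc_e_rc_19_4 lc_e_rc_18_1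 lc_e_Cert_tree lc_e_rc_13_3 lc_e_rc_19_4 lc_e_rc_18_1 lc_e_rc_16_1 lc_e_rc_9_3 lc_e_rc_16_3 lc_e_rc_19_4 lc_e_rc_9_3 lc_e_rc_27_7 lc_e_rc_27_5 lc_e_rc_27_1 lc_e_rc_9_3 lc_e_rc_4_3 lc_e_rc_16_3 lc_e_rc_4_1 lc_e_rc_13_3 lc_e_rc_19_0 lc_e_rc_19_0 lc_e_rc_13_3 lc_e_rc_9_1 lc_e_rc_13_1 lc_e_rc_27_1 lc_e_rc_4_3 lc_e_rc_13_1 lc_e_rc_18_1 lc_e_Cert_tree lc_e_rc_18_1) (@D3.rec (fun _ => (Cert rels S Gen.e)) lc_e_Cert_tree lc_e_rc_27_7 lc_e_rc_18_1 lc_e_rc_18_1 lc_e_rc_9_3 lc_e_rc_27_5 lc_e_Cert_tree lc_e_rc_13_1 lc_e_rc_27_7 lc_e_rc_18_1 lc_e_rc_18_1 lc_e_rc_27_5 lc_e_rc_13_3 lc_e_rc_13_3 lc_e_rc_18_1 lc_e_rc_16_3 lc_e_rc_19_0 lc_e_rc_4_1 lc_e_rc_13_3 lc_e_rc_16_1 lc_e_rc_16_5 lc_e_Cert_tree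 lc_e_Cert_tree lc_e_rc_4_3 lc_e_rc_19_2 lc_e_rc_18_1 lc_e_rc_9_3 lc_e_rc_27_7 lc_e_rc_27_5 lc_e_Cert_tree lc_e_Cert_tree lc_e_rc_18_1 lc_e_rc_27_7 lc_e_rc_4_1 lc_e_Cert_tree lc_e_Cert_tree lc_e_rc_18_1 lc_e_rc_13_3 lc_e_rc_18_1 lc_e_rc_16_1 lc_e_rc_19_4 lc_e_rc_18_1 lc_e_rc_13_3 lc_e_rc_16_3 lc_e_rc_9_1 lc_e_rc_19_2 lc_e_rc_18_1 lc_e_Cert_tree lc_e_rc_18_1 lc_e_rc_4_1 lc_e_rc_19_4 lc_e_Cert_tree lc_e_Cert_tree lc_e_rc_27_5 lc_e_rc_18_1 lc_e_rc_16_1 lc_e_rc_18_1 lc_e_rc_13_1 lc_e_rc_18_1 lc_e_rc_27_1 lc_e_rc_13_3 lc_e_rc_4_1) (@D3.rec (fun _ => (Cert rels S Gen.e)) lc_e_rc_16_5 lc_e_rc_18_1 lc_e_rc_18_1 lc_e_rc_18_1 lc_e_rc_18_1 lc_e_rc_27_5 lc_e_rc_19_4 lc_e_rc_18_1 lc_e_rc_16_1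 lc_e_rc_18_1 lc_e_rc_16_1 lc_e_rc_13_3 lc_e_rc_18_1 lc_e_rc_27_5 lc_e_rc_16_5 lc_e_rc_4_1 lc_e_rc_9_3 lc_e_rc_13_3 lc_e_rc_27_5 lc_e_rc_27_5 lc_e_rc_19_4 lc_e_rc_13_3 lc_e_rc_19_4 lc_e_rc_16_3 lc_e_rc_19_4 lc_e_rc_27_7 lc_e_rc_18_1 lc_e_rc_18_1 lc_e_rc_16_5 lc_e_Cert_tree lc_e_rc_13_3 lc_e_Cert_tree lc_e_rc_9_1 lc_e_rc_4_3 lc_e_rc_13_1 lc_e_rc_18_1 lc_e_Cert_tree lc_e_rc_18_1 lc_e_rc_27_5 lc_e_rc_4_3 lc_e_Cert_tree lc_e_rc_13_3 lc_e_rc_27_7 lc_e_rc_18_1 lc_e_rc_9_1 lc_e_rc_18_1 lc_e_rc_18_1 lc_e_rc_18_1 lc_e_rc_13_3 lc_e_rc_18_1 lc_e_rc_27_1 lc_e_rc_18_1 lc_e_Cert_tree lc_e_rc_16_1 lc_e_rc_9_3 lc_e_rc_27_7 lc_e_rc_19_2 lc_e_rc_18_1 lc_e_rc_16_3 lc_e_rc_13_1 lc_e_rc_16_3 lc_e_rc_19_4)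 (@D3.rec (fun _ => (Cert rels S Gen.e)) lc_e_rc_27_7 lc_e_rc_18_1 lc_e_rc_9_3 lc_e_rc_18_1 lc_e_rc_16_1 lc_e_rc_18_1 lc_e_rc_9_3 lc_e_rc_18_1 lc_e_rc_18_1 lc_e_rc_18_1 lc_e_rc_19_2 lc_e_rc_16_3 lc_e_rc_13_1 lc_e_rc_16_5 lc_e_rc_18_1 lc_e_rc_19_2 lc_e_rc_19_4 lc_e_rc_18_1 lc_e_rc_18_1 lc_e_rc_19_2 lc_e_rc_13_1 lc_e_rc_16_5 lc_e_Cert_tree lc_e_rc_4_1 lc_e_Cert_tree lc_e_rc_18_1 lc_e_rc_18_1 lc_e_rc_16_3 lc_e_rc_19_4 lc_e_rc_9_3 lc_e_Cert_tree lc_e_rc_27_1 lc_e_rc_18_1 lc_e_rc_18_1 lc_e_rc_9_3 lc_e_rc_13_1 lc_e_rc_13_1 lc_e_Cert_tree lc_e_Cert_tree lc_e_rc_18_1 lc_e_rc_18_1 lc_e_rc_13_3 lc_e_rc_13_3 lc_e_Cert_tree lc_e_rc_13_1 lc_e_rc_18_1 lc_e_rc_9_3 lc_e_rc_18_1 lc_e_rc_27_7 lc_e_rc_4_3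 lc_e_rc_4_3 lc_e_rc_27_5 lc_e_Cert_tree lc_e_rc_18_1 lc_e_rc_27_1 lc_e_rc_13_3 lc_e_rc_13_3 lc_e_rc_13_3 lc_e_rc_16_3 lc_e_rc_9_3 lc_e_rc_4_3 lc_e_rc_9_3) (@D3.rec (fun _ => (Cert rels S Gen.e)) lc_e_rc_16_1 lc_e_rc_27_7 lc_e_Cert_tree lc_e_rc_13_3 lc_e_rc_19_4 lc_e_rc_4_3 lc_e_Cert_tree lc_e_rc_27_1 lc_e_rc_9_3 lc_e_Cert_tree lc_e_rc_18_1 lc_e_rc_18_1 lc_e_rc_9_3 lc_e_Cert_tree lc_e_Cert_tree lc_e_rc_18_1 lc_e_rc_18_1 lc_e_Cert_tree lc_e_rc_9_3 lc_e_rc_19_2 lc_e_rc_9_1 lc_e_rc_18_1 lc_e_rc_9_3 lc_e_rc_9_3 lc_e_rc_9_3 lc_e_rc_9_1 lc_e_rc_18_1 lc_e_rc_18_1 lc_e_rc_4_1 lc_e_rc_16_3 lc_e_rc_18_1 lc_e_rc_9_1 lc_e_rc_19_0 lc_e_rc_18_1 lc_e_Cert_tree lc_e_Cert_tree lc_e_rc_27_7 lc_e_Cert_tree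 lc_e_rc_18_1 lc_e_Cert_tree lc_e_rc_18_1 lc_e_rc_9_3 lc_e_rc_9_3 lc_e_Cert_tree lc_e_rc_19_4 lc_e_rc_18_1 lc_e_rc_13_3 lc_e_rc_13_3 lc_e_rc_9_1 lc_e_rc_16_5 lc_e_rc_27_7 lc_e_rc_27_1 lc_e_rc_9_3 lc_e_rc_4_1 lc_e_rc_27_7 lc_e_rc_9_3 lc_e_rc_18_1 lc_e_rc_13_3 lc_e_rc_18_1 lc_e_rc_13_3 lc_e_rc_18_1 lc_e_rc_9_1) (@D3.rec (fun _ => (Cert rels S Gen.e)) lc_e_rc_18_1 lc_e_rc_27_1 lc_e_Cert_tree lc_e_rc_18_1 lc_e_rc_16_3 lc_e_rc_9_1 lc_e_rc_18_1 lc_e_rc_16_1 lc_e_rc_27_7 lc_e_rc_13_3 lc_e_rc_9_3 lc_e_Cert_tree lc_e_Cert_tree lc_e_rc_18_1 lc_e_Cert_tree lc_e_rc_27_5 lc_e_rc_4_1 lc_e_rc_16_5 lc_e_rc_18_1 lc_e_rc_13_3 lc_e_rc_9_3 lc_e_rc_13_3 lc_e_Cert_tree lc_e_rc_18_1 lc_e_rc_4_1 lc_e_rc_16_3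 lc_e_rc_18_1 lc_e_rc_18_1 lc_e_rc_19_4 lc_e_rc_18_1 lc_e_rc_27_7 lc_e_rc_4_3 lc_e_rc_19_4 lc_e_rc_18_1 lc_e_rc_19_4 lc_e_rc_9_3 lc_e_rc_18_1 lc_e_rc_18_1 lc_e_rc_16_1 lc_e_rc_19_4 lc_e_rc_18_1 lc_e_rc_13_3 lc_e_rc_27_7 lc_e_rc_19_4 lc_e_rc_9_3 lc_e_rc_19_4 lc_e_Cert_tree lc_e_rc_18_1 lc_e_rc_18_1 lc_e_rc_13_3 lc_e_rc_16_1 lc_e_rc_27_5 lc_e_rc_18_1 lc_e_rc_4_3 lc_e_rc_9_3 lc_e_rc_4_3 lc_e_rc_18_1 lc_e_rc_27_5 lc_e_rc_19_2 lc_e_rc_19_2 lc_e_rc_27_1 lc_e_rc_27_1) (@D3.rec (fun _ => (Cert rels S Gen.e)) lc_e_rc_4_3 lc_e_rc_27_5 lc_e_rc_9_3 lc_e_rc_27_1 lc_e_rc_9_1 lc_e_rc_27_5 lc_e_rc_18_1 lc_e_rc_18_1 lc_e_rc_18_1 lc_e_rc_4_1 lc_e_rc_16_3 lc_e_rc_18_1 lc_e_rc_18_1 lc_e_rc_16_3 lc_e_rc_9_3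 lc_e_rc_13_1 lc_e_rc_27_1 lc_e_rc_18_1 lc_e_rc_18_1 lc_e_rc_13_1 lc_e_rc_27_1 lc_e_rc_27_1 lc_e_Cert_tree lc_e_rc_18_1 lc_e_rc_4_3 lc_e_rc_13_1 lc_e_rc_18_1 lc_e_rc_9_1 lc_e_rc_18_1 lc_e_Cert_tree lc_e_rc_18_1 lc_e_rc_19_4 lc_e_rc_4_3 lc_e_rc_19_2 lc_e_rc_18_1 lc_e_rc_16_1 lc_e_rc_27_5 lc_e_rc_9_3 lc_e_rc_16_3 lc_e_rc_9_3 lc_e_rc_9_3 lc_e_rc_18_1 lc_e_rc_16_3 lc_e_rc_9_3 lc_e_rc_13_1 lc_e_rc_18_1 lc_e_rc_18_1 lc_e_Cert_tree lc_e_rc_18_1 lc_e_rc_27_5 lc_e_Cert_tree lc_e_rc_18_1 lc_e_rc_16_3 lc_e_rc_9_3 lc_e_rc_13_3 lc_e_rc_9_3 lc_e_rc_4_3 lc_e_rc_27_5 lc_e_rc_18_1 lc_e_rc_9_3 lc_e_rc_16_1 lc_e_rc_27_1) (@D3.rec (fun _ => (Cert rels S Gen.e)) lc_e_rc_4_3 lc_e_rc_9_1 lc_e_rc_18_1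 lc_e_rc_13_1 lc_e_rc_18_1 lc_e_rc_13_3 lc_e_rc_18_1 lc_e_rc_4_1 lc_e_rc_18_1 lc_e_rc_16_5 lc_e_rc_27_5 lc_e_rc_13_3 lc_e_rc_9_3 lc_e_rc_18_1 lc_e_rc_18_1 lc_e_rc_13_1 lc_e_rc_16_3 lc_e_rc_18_1 lc_e_rc_16_1 lc_e_rc_9_3 lc_e_rc_9_3 lc_e_rc_27_5 lc_e_rc_13_3 lc_e_rc_9_3 lc_e_rc_4_1 lc_e_rc_13_3 lc_e_rc_4_3 lc_e_rc_9_3 lc_e_rc_9_3 lc_e_rc_4_3 lc_e_rc_18_1 lc_e_rc_27_1 lc_e_rc_16_1 lc_e_rc_19_4 lc_e_rc_18_1 lc_e_rc_4_3 lc_e_rc_4_1 lc_e_rc_16_1 lc_e_rc_27_5 lc_e_rc_16_3 lc_e_rc_18_1 lc_e_rc_16_3 lc_e_rc_27_5 lc_e_rc_16_5 lc_e_rc_18_1 lc_e_rc_16_3 lc_e_rc_9_3 lc_e_rc_16_1 lc_e_rc_18_1 lc_e_rc_19_2 lc_e_rc_18_1 lc_e_rc_9_1 lc_e_rc_4_3 lc_e_rc_27_7 lc_e_rc_16_1 lc_e_rc_9_1 lc_e_rc_16_1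 lc_e_rc_27_5 lc_e_rc_9_3 lc_e_rc_27_5 lc_e_Cert_tree lc_e_rc_18_1) (@D3.rec (fun _ => (Cert rels S Gen.e)) lc_e_rc_4_3 lc_e_rc_13_3 lc_e_rc_13_1 lc_e_rc_18_1 lc_e_rc_18_1 lc_e_rc_13_3 lc_e_rc_9_3 lc_e_rc_19_4 lc_e_rc_18_1 lc_e_rc_16_5 lc_e_rc_4_1 lc_e_rc_18_1 lc_e_rc_16_5 lc_e_rc_18_1 lc_e_rc_19_4 lc_e_rc_9_3 lc_e_rc_9_3 lc_e_rc_18_1 lc_e_rc_19_4 lc_e_rc_9_3 lc_e_rc_18_1 lc_e_rc_27_5 lc_e_rc_16_5 lc_e_rc_13_1 lc_e_rc_13_3 lc_e_rc_19_4 lc_e_rc_16_3 lc_e_rc_13_1 lc_e_rc_18_1 lc_e_rc_16_5 lc_e_rc_27_7 lc_e_rc_18_1 lc_e_rc_13_3 lc_e_rc_19_4 lc_e_rc_9_3 lc_e_Cert_tree lc_e_rc_9_3 lc_e_rc_4_3 lc_e_Cert_tree lc_e_rc_27_7 lc_e_rc_18_1 lc_e_rc_13_1 lc_e_Cert_tree lc_e_rc_27_5 lc_e_Cert_tree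 lc_e_rc_18_1 lc_e_rc_13_1 lc_e_rc_9_3 lc_e_rc_9_3 lc_e_Cert_tree lc_e_rc_16_5 lc_e_rc_4_3 lc_e_rc_13_3 lc_e_Cert_tree lc_e_rc_19_2 lc_e_Cert_tree lc_e_rc_18_1 lc_e_rc_4_1 lc_e_rc_13_3 lc_e_rc_18_1 lc_e_rc_13_3 lc_e_rc_27_1) (@D3.rec (fun _ => (Cert rels S Gen.e)) lc_e_rc_27_1 lc_e_rc_9_3 lc_e_Cert_tree lc_e_rc_18_1 lc_e_rc_16_3 lc_e_rc_9_3 lc_e_rc_18_1 lc_e_rc_4_1 lc_e_rc_13_1 lc_e_rc_27_5 lc_e_rc_13_1 lc_e_rc_18_1 lc_e_rc_27_5 lc_e_rc_18_1 lc_e_rc_9_3 lc_e_rc_9_1 lc_e_Cert_tree lc_e_rc_9_3 lc_e_rc_13_1 lc_e_rc_27_5 lc_e_rc_27_5 lc_e_rc_4_3 lc_e_Cert_tree lc_e_rc_27_7 lc_e_rc_18_1 lc_e_rc_13_3 lc_e_rc_27_5 lc_e_rc_13_3 lc_e_rc_18_1 lc_e_rc_9_3 lc_e_rc_27_5 lc_e_rc_4_1 lc_e_rc_9_3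 lc_e_rc_18_1 lc_e_rc_18_1 lc_e_rc_4_3 lc_e_rc_4_1 lc_e_rc_19_0 lc_e_Cert_tree lc_e_rc_13_1 lc_e_rc_27_1 lc_e_rc_18_1 lc_e_rc_16_5 lc_e_rc_16_5 lc_e_rc_4_3 lc_e_rc_9_1 lc_e_rc_27_5 lc_e_rc_4_3 lc_e_rc_9_3 lc_e_rc_19_0 lc_e_rc_27_7 lc_e_rc_27_5 lc_e_rc_13_1 lc_e_rc_13_3 lc_e_rc_13_1 lc_e_rc_13_3 lc_e_rc_9_3 lc_e_rc_27_5 lc_e_rc_13_3 lc_e_rc_4_1 lc_e_rc_19_4 lc_e_rc_18_1) (@D3.rec (fun _ => (Cert rels S Gen.e)) lc_e_rc_4_3 lc_e_rc_16_3 lc_e_rc_13_3 lc_e_rc_9_3 lc_e_rc_13_3 lc_e_rc_16_5 lc_e_rc_27_1 lc_e_rc_18_1 lc_e_rc_9_3 lc_e_rc_27_1 lc_e_rc_18_1 lc_e_rc_4_1 lc_e_rc_18_1 lc_e_rc_27_5 lc_e_Cert_tree lc_e_rc_9_3 lc_e_rc_27_5 lc_e_rc_18_1 lc_e_rc_18_1 lc_e_rc_4_1 lc_e_rc_16_3 lc_e_rc_4_3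 lc_e_rc_13_3 lc_e_rc_9_3 lc_e_rc_18_1 lc_e_rc_18_1 lc_e_rc_4_3 lc_e_rc_9_1 lc_e_rc_18_1 lc_e_rc_13_3 lc_e_rc_13_3 lc_e_rc_19_2 lc_e_rc_18_1 lc_e_rc_19_4 lc_e_rc_13_3 lc_e_rc_27_5 lc_e_rc_13_3 lc_e_rc_4_3 lc_e_rc_19_0 lc_e_rc_18_1 lc_e_rc_27_1 lc_e_rc_9_3 lc_e_rc_9_3 lc_e_rc_16_5 lc_e_rc_27_1 lc_e_rc_27_1 lc_e_rc_27_5 lc_e_rc_4_1 lc_e_rc_4_3 lc_e_rc_27_5 lc_e_rc_16_5 lc_e_rc_13_3 lc_e_rc_18_1 lc_e_rc_18_1 lc_e_rc_16_5 lc_e_rc_4_3 lc_e_rc_4_3 lc_e_rc_27_5 lc_e_rc_13_3 lc_e_rc_9_3 lc_e_rc_13_3 lc_e_rc_4_1) (@D3.rec (fun _ => (Cert rels S Gen.e)) lc_e_rc_13_3 lc_e_rc_9_3 lc_e_rc_18_1 lc_e_rc_13_3 lc_e_rc_9_3 lc_e_rc_9_3 lc_e_rc_4_3 lc_e_rc_13_3 lc_e_Cert_tree lc_e_rc_18_1 lc_e_rc_13_3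 lc_e_rc_18_1 lc_e_rc_19_4 lc_e_rc_4_1 lc_e_Cert_tree lc_e_rc_18_1 lc_e_rc_9_3 lc_e_rc_9_3 lc_e_rc_18_1 lc_e_rc_16_5 lc_e_rc_4_3 lc_e_Cert_tree lc_e_rc_18_1 lc_e_rc_13_3 lc_e_rc_4_1 lc_e_rc_27_7 lc_e_Cert_tree lc_e_rc_18_1 lc_e_rc_16_1 lc_e_rc_18_1 lc_e_Cert_tree lc_e_rc_19_0 lc_e_rc_18_1 lc_e_rc_9_3 lc_e_rc_13_3 lc_e_rc_13_3 lc_e_rc_18_1 lc_e_rc_16_3 lc_e_rc_27_1 lc_e_rc_18_1 lc_e_Cert_tree lc_e_rc_18_1 lc_e_rc_18_1 lc_e_rc_16_5 lc_e_rc_19_4 lc_e_rc_18_1 lc_e_rc_13_1 lc_e_rc_9_3 lc_e_rc_16_1 lc_e_rc_19_4 lc_e_rc_18_1 lc_e_rc_9_3 lc_e_rc_16_5 lc_e_rc_18_1 lc_e_rc_16_3 lc_e_rc_19_4 lc_e_rc_9_3 lc_e_rc_13_3 lc_e_rc_9_3 lc_e_Cert_tree lc_e_rc_13_3 lc_e_rc_9_1) (@D3.rec (fun _ => (Cert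 rels S Gen.e)) lc_e_rc_9_1 lc_e_rc_18_1 lc_e_rc_18_1 lc_e_rc_4_3 lc_e_rc_13_1 lc_e_rc_18_1 lc_e_rc_27_5 lc_e_rc_16_3 lc_e_rc_18_1 lc_e_rc_13_3 lc_e_rc_18_1 lc_e_rc_27_5 lc_e_rc_9_3 lc_e_Cert_tree lc_e_rc_18_1 lc_e_rc_19_4 lc_e_rc_18_1 lc_e_rc_9_3 lc_e_Cert_tree lc_e_rc_18_1 lc_e_rc_18_1 lc_e_rc_18_1 lc_e_rc_18_1 lc_e_rc_27_5 lc_e_rc_9_3 lc_e_rc_9_3 lc_e_rc_13_1 lc_e_rc_18_1 lc_e_Cert_tree lc_e_rc_18_1 lc_e_rc_27_7 lc_e_rc_18_1 lc_e_rc_18_1 lc_e_rc_13_3 lc_e_rc_16_1 lc_e_rc_16_5 lc_e_rc_13_3 lc_e_rc_13_3 lc_e_rc_13_3 lc_e_rc_27_7 lc_e_rc_9_1 lc_e_rc_9_3 lc_e_rc_19_4 lc_e_rc_18_1 lc_e_rc_4_3 lc_e_rc_4_3 lc_e_Cert_tree lc_e_rc_27_1 lc_e_rc_9_3 lc_e_rc_18_1 lc_e_rc_18_1 lc_e_rc_4_3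 lc_e_rc_19_2 lc_e_rc_13_3 lc_e_rc_9_3 lc_e_rc_27_5 lc_e_rc_9_3 lc_e_rc_9_3 lc_e_rc_9_1 lc_e_rc_18_1 lc_e_rc_27_7 lc_e_rc_27_7) (@D3.rec (fun _ => (Cert rels S Gen.e)) lc_e_rc_27_7 lc_e_rc_27_1 lc_e_rc_4_1 lc_e_rc_18_1 lc_e_Cert_tree lc_e_rc_9_3 lc_e_rc_18_1 lc_e_rc_16_1 lc_e_rc_16_1 lc_e_rc_13_1 lc_e_rc_27_5 lc_e_rc_27_7 lc_e_rc_9_3 lc_e_rc_13_3 lc_e_rc_19_0 lc_e_rc_9_3 lc_e_rc_4_3 lc_e_rc_27_1 lc_e_rc_13_3 lc_e_rc_16_1 lc_e_rc_16_3 lc_e_rc_4_3 lc_e_rc_27_7 lc_e_rc_18_1 lc_e_rc_9_3 lc_e_rc_9_3 lc_e_rc_27_1 lc_e_rc_27_5 lc_e_rc_18_1 lc_e_rc_9_3 lc_e_rc_18_1 lc_e_rc_18_1 lc_e_rc_16_5 lc_e_rc_16_5 lc_e_rc_16_3 lc_e_rc_13_1 lc_e_rc_18_1 lc_e_rc_18_1 lc_e_rc_18_1 lc_e_Cert_tree lc_e_rc_18_1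 lc_e_rc_13_3 lc_e_rc_18_1 lc_e_rc_18_1 lc_e_rc_18_1 lc_e_rc_18_1 lc_e_rc_13_3 lc_e_rc_16_5 lc_e_rc_9_3 lc_e_rc_16_5 lc_e_rc_9_3 lc_e_rc_18_1 lc_e_rc_16_5 lc_e_rc_9_3 lc_e_rc_16_3 lc_e_rc_9_3 lc_e_rc_13_3 lc_e_rc_9_3 lc_e_rc_13_3 lc_e_rc_27_1 lc_e_rc_18_1 lc_e_rc_27_1) (@D3.rec (fun _ => (Cert rels S Gen.e)) lc_e_rc_9_3 lc_e_rc_27_7 lc_e_rc_13_3 lc_e_rc_4_3 lc_e_rc_9_1 lc_e_rc_18_1 lc_e_rc_9_3 lc_e_rc_9_3 lc_e_rc_4_1 lc_e_rc_18_1 lc_e_rc_4_3 lc_e_rc_4_3 lc_e_rc_9_3 lc_e_Cert_tree lc_e_rc_18_1 lc_e_rc_13_1 lc_e_rc_18_1 lc_e_rc_16_3 lc_e_rc_4_3 lc_e_rc_18_1 lc_e_rc_9_1 lc_e_rc_18_1 lc_e_Cert_tree lc_e_rc_16_5 lc_e_rc_19_4 lc_e_rc_13_3 lc_e_rc_27_5 lc_e_rc_13_3 lc_e_Cert_tree lc_e_rc_18_1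 lc_e_rc_18_1 lc_e_rc_13_3 lc_e_Cert_tree lc_e_rc_18_1 lc_e_rc_27_1 lc_e_rc_16_5 lc_e_Cert_tree lc_e_rc_18_1 lc_e_rc_16_1 lc_e_rc_18_1 lc_e_rc_18_1 lc_e_rc_16_1 lc_e_rc_18_1 lc_e_rc_27_1 lc_e_rc_13_3 lc_e_Cert_tree lc_e_rc_18_1 lc_e_rc_16_3 lc_e_rc_18_1 lc_e_rc_18_1 lc_e_Cert_tree lc_e_rc_9_1 lc_e_rc_18_1 lc_e_rc_16_3 lc_e_rc_13_3 lc_e_rc_9_1 lc_e_rc_18_1 lc_e_rc_9_1 lc_e_rc_18_1 lc_e_rc_18_1 lc_e_rc_18_1 lc_e_rc_13_3) (@D3.rec (fun _ => (Cert rels S Gen.e)) lc_e_rc_16_5 lc_e_rc_16_1 lc_e_Cert_tree lc_e_rc_16_1 lc_e_rc_19_4 lc_e_rc_9_3 lc_e_rc_27_1 lc_e_rc_9_3 lc_e_rc_27_5 lc_e_Cert_tree lc_e_Cert_tree lc_e_rc_13_3 lc_e_Cert_tree lc_e_rc_9_3 lc_e_rc_16_3 lc_e_rc_18_1 lc_e_rc_27_5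 lc_e_rc_18_1 lc_e_rc_27_5 lc_e_Cert_tree lc_e_rc_16_3 lc_e_Cert_tree lc_e_rc_18_1 lc_e_Cert_tree lc_e_Cert_tree lc_e_rc_18_1 lc_e_rc_16_3 lc_e_rc_9_1 lc_e_rc_13_1 lc_e_rc_18_1 lc_e_rc_27_7 lc_e_rc_16_5 lc_e_rc_27_7 lc_e_rc_9_3 lc_e_rc_19_2 lc_e_rc_13_1 lc_e_rc_18_1 lc_e_rc_27_7 lc_e_rc_18_1 lc_e_rc_13_1 lc_e_rc_13_3 lc_e_rc_9_1 lc_e_rc_13_1 lc_e_rc_16_3 lc_e_rc_18_1 lc_e_rc_27_1 lc_e_rc_13_3 lc_e_Cert_tree lc_e_rc_18_1 lc_e_rc_18_1 lc_e_rc_18_1 lc_e_rc_18_1 lc_e_rc_18_1 lc_e_rc_27_1 lc_e_rc_19_2 lc_e_rc_18_1 lc_e_rc_13_3 lc_e_rc_18_1 lc_e_rc_18_1 lc_e_rc_18_1 lc_e_rc_27_5 lc_e_rc_18_1) (@D3.rec (fun _ => (Cert rels S Gen.e)) lc_e_rc_27_1 lc_e_rc_13_3 lc_e_rc_13_1 lc_e_rc_27_1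 lc_e_rc_18_1 lc_e_rc_27_5 lc_e_rc_13_3 lc_e_rc_9_3 lc_e_rc_16_1 lc_e_rc_18_1 lc_e_rc_13_3 lc_e_rc_9_1 lc_e_rc_19_2 lc_e_rc_18_1 lc_e_Cert_tree lc_e_rc_13_3 lc_e_rc_18_1 lc_e_rc_18_1 lc_e_rc_27_5 lc_e_rc_18_1 lc_e_rc_19_2 lc_e_rc_27_5 lc_e_rc_18_1 lc_e_rc_9_3 lc_e_rc_18_1 lc_e_rc_16_3 lc_e_rc_9_3 lc_e_rc_13_3 lc_e_Cert_tree lc_e_rc_16_1 lc_e_rc_13_3 lc_e_rc_16_5 lc_e_rc_13_3 lc_e_rc_13_3 lc_e_rc_18_1 lc_e_rc_18_1 lc_e_rc_9_1 lc_e_rc_13_1 lc_e_rc_18_1 lc_e_rc_9_1 lc_e_Cert_tree lc_e_rc_18_1 lc_e_rc_4_3 lc_e_Cert_tree lc_e_rc_13_1 lc_e_rc_16_3 lc_e_rc_19_4 lc_e_rc_16_5 lc_e_rc_19_0 lc_e_rc_27_5 lc_e_rc_18_1 lc_e_rc_18_1 lc_e_Cert_tree lc_e_rc_16_3 lc_e_rc_19_2 lc_e_rc_18_1 lc_e_rc_4_3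 lc_e_rc_9_3 lc_e_rc_13_3 lc_e_rc_19_4 lc_e_rc_27_1 lc_e_rc_18_1) (@D3.rec (fun _ => (Cert rels S Gen.e)) lc_e_rc_16_3 lc_e_rc_19_4 lc_e_rc_16_1 lc_e_rc_9_3 lc_e_rc_18_1 lc_e_rc_9_3 lc_e_rc_18_1 lc_e_rc_27_5 lc_e_rc_16_3 lc_e_rc_4_3 lc_e_rc_18_1 lc_e_rc_27_5 lc_e_rc_13_3 lc_e_rc_16_3 lc_e_rc_27_5 lc_e_rc_18_1 lc_e_rc_18_1 lc_e_rc_16_3 lc_e_Cert_tree lc_e_rc_18_1 lc_e_rc_13_3 lc_e_rc_9_1 lc_e_rc_9_3 lc_e_rc_16_1 lc_e_rc_27_1 lc_e_rc_18_1 lc_e_rc_27_5 lc_e_rc_9_1 lc_e_rc_9_3 lc_e_rc_13_1 lc_e_rc_4_1 lc_e_rc_16_3 lc_e_rc_27_5 lc_e_rc_13_3 lc_e_rc_13_3 lc_e_rc_9_3 lc_e_rc_27_7 lc_e_rc_9_3 lc_e_rc_18_1 lc_e_rc_4_1 lc_e_rc_16_1 lc_e_rc_18_1 lc_e_rc_18_1 lc_e_rc_19_4 lc_e_rc_18_1 lc_e_rc_13_1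 lc_e_rc_18_1 lc_e_rc_18_1 lc_e_rc_16_3 lc_e_rc_19_4 lc_e_rc_9_1 lc_e_rc_18_1 lc_e_rc_9_3 lc_e_rc_13_3 lc_e_rc_19_0 lc_e_rc_18_1 lc_e_rc_19_0 lc_e_rc_4_3 lc_e_rc_19_4 lc_e_rc_13_3 lc_e_rc_16_5 lc_e_rc_27_1) (@D3.rec (fun _ => (Cert rels S Gen.e)) lc_e_rc_27_5 lc_e_rc_27_7 lc_e_rc_27_1 lc_e_rc_4_3 lc_e_rc_9_3 lc_e_rc_13_3 lc_e_rc_16_5 lc_e_rc_4_3 lc_e_rc_9_3 lc_e_rc_13_3 lc_e_rc_4_3 lc_e_rc_9_1 lc_e_rc_27_7 lc_e_rc_4_3 lc_e_rc_4_3 lc_e_rc_18_1 lc_e_rc_13_3 lc_e_rc_9_3 lc_e_rc_9_1 lc_e_rc_16_5 lc_e_rc_16_5 lc_e_rc_9_3 lc_e_rc_13_3 lc_e_Cert_tree lc_e_rc_13_3 lc_e_rc_13_1 lc_e_rc_27_7 lc_e_rc_9_3 lc_e_rc_18_1 lc_e_rc_13_3 lc_e_rc_18_1 lc_e_rc_13_3 lc_e_rc_18_1 lc_e_Cert_tree lc_e_rc_16_5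 lc_e_rc_9_3 lc_e_Cert_tree lc_e_rc_18_1 lc_e_rc_18_1 lc_e_rc_13_3 lc_e_rc_4_3 lc_e_rc_9_3 lc_e_rc_27_5 lc_e_rc_27_7 lc_e_rc_4_1 lc_e_rc_27_5 lc_e_rc_9_1 lc_e_rc_13_3 lc_e_rc_27_5 lc_e_rc_19_4 lc_e_rc_13_3 lc_e_rc_19_4 lc_e_rc_18_1 lc_e_rc_18_1 lc_e_rc_9_3 lc_e_rc_16_1 lc_e_rc_9_3 lc_e_rc_16_1 lc_e_rc_18_1 lc_e_rc_9_1 lc_e_Cert_tree lc_e_rc_13_3) (@D3.rec (fun _ => (Cert rels S Gen.e)) lc_e_rc_13_3 lc_e_rc_13_3 lc_e_rc_9_3 lc_e_rc_13_3 lc_e_rc_4_3 lc_e_rc_4_3 lc_e_rc_13_3 lc_e_rc_18_1 lc_e_rc_18_1 lc_e_rc_4_3 lc_e_rc_13_3 lc_e_rc_9_3 lc_e_rc_16_3 lc_e_rc_13_1 lc_e_rc_4_3 lc_e_rc_13_1 lc_e_rc_18_1 lc_e_rc_18_1 lc_e_rc_9_3 lc_e_rc_27_5 lc_e_rc_9_3 lc_e_rc_18_1 lc_e_Cert_tree lc_e_rc_27_5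 lc_e_rc_18_1 lc_e_rc_9_3 lc_e_rc_16_3 lc_e_rc_4_3 lc_e_rc_27_5 lc_e_rc_27_7 lc_e_rc_9_3 lc_e_rc_9_3 lc_e_rc_18_1 lc_e_rc_13_3 lc_e_rc_27_7 lc_e_rc_18_1 lc_e_rc_19_0 lc_e_rc_27_5 lc_e_rc_16_3 lc_e_rc_13_3 lc_e_rc_9_1 lc_e_rc_9_1 lc_e_rc_16_3 lc_e_rc_16_1 lc_e_rc_18_1 lc_e_rc_16_5 lc_e_rc_13_3 lc_e_rc_27_5 lc_e_rc_18_1 lc_e_rc_9_3 lc_e_rc_19_4 lc_e_rc_27_5 lc_e_rc_18_1 lc_e_rc_18_1 lc_e_rc_13_3 lc_e_rc_4_3 lc_e_rc_18_1 lc_e_rc_19_4 lc_e_rc_18_1 lc_e_rc_18_1 lc_e_rc_27_7 lc_e_rc_9_3) (@D3.rec (fun _ => (Cert rels S Gen.e)) lc_e_rc_27_7 lc_e_rc_13_3 lc_e_rc_9_3 lc_e_Cert_tree lc_e_rc_16_5 lc_e_rc_9_1 lc_e_rc_27_1 lc_e_rc_18_1 lc_e_rc_9_3 lc_e_rc_16_3 lc_e_rc_19_4 lc_e_rc_16_5 lc_e_rc_13_3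 lc_e_rc_19_0 lc_e_rc_16_1 lc_e_rc_13_3 lc_e_rc_18_1 lc_e_rc_9_1 lc_e_rc_27_5 lc_e_rc_18_1 lc_e_rc_18_1 lc_e_rc_13_3 lc_e_rc_16_3 lc_e_rc_18_1 lc_e_rc_16_5 lc_e_rc_18_1 lc_e_rc_13_3 lc_e_rc_18_1 lc_e_rc_18_1 lc_e_rc_13_3 lc_e_rc_4_3 lc_e_rc_13_3 lc_e_rc_4_3 lc_e_rc_13_3 lc_e_rc_27_1 lc_e_Cert_tree lc_e_rc_9_3 lc_e_rc_4_1 lc_e_rc_4_3 lc_e_rc_4_1 lc_e_rc_18_1 lc_e_rc_16_1 lc_e_Cert_tree lc_e_rc_13_3 lc_e_rc_16_5 lc_e_rc_13_3 lc_e_Cert_tree lc_e_rc_16_5 lc_e_rc_27_5 lc_e_rc_9_1 lc_e_rc_27_5 lc_e_Cert_tree lc_e_rc_13_3 lc_e_rc_18_1 lc_e_Cert_tree lc_e_rc_27_5 lc_e_rc_18_1 lc_e_rc_27_5 lc_e_rc_4_3 lc_e_Cert_tree lc_e_Cert_tree lc_e_rc_18_1) (@D3.rec (fun _ => (Cert rels S Gen.e)) lc_e_rc_4_3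 lc_e_rc_13_3 lc_e_rc_4_3 lc_e_rc_13_3 lc_e_rc_9_3 lc_e_rc_27_1 lc_e_rc_27_1 lc_e_rc_18_1 lc_e_rc_27_5 lc_e_rc_16_3 lc_e_rc_4_3 lc_e_rc_4_3 lc_e_Cert_tree lc_e_rc_27_1 lc_e_rc_19_2 lc_e_rc_18_1 lc_e_rc_27_5 lc_e_rc_4_1 lc_e_Cert_tree lc_e_rc_18_1 lc_e_rc_9_1 lc_e_rc_27_1 lc_e_rc_4_3 lc_e_rc_19_4 lc_e_rc_18_1 lc_e_rc_27_7 lc_e_rc_18_1 lc_e_rc_27_5 lc_e_rc_18_1 lc_e_rc_16_5 lc_e_rc_18_1 lc_e_rc_4_1 lc_e_rc_27_7 lc_e_rc_18_1 lc_e_rc_9_3 lc_e_rc_16_5 lc_e_Cert_tree lc_e_rc_16_5 lc_e_rc_18_1 lc_e_Cert_tree lc_e_Cert_tree lc_e_rc_19_4 lc_e_rc_13_1 lc_e_rc_13_1 lc_e_rc_4_3 lc_e_rc_18_1 lc_e_rc_4_3 lc_e_rc_27_7 lc_e_rc_18_1 lc_e_Cert_tree lc_e_rc_27_5 lc_e_rc_27_1 lc_e_rc_18_1 lc_e_rc_13_3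 lc_e_rc_9_3 lc_e_rc_16_3 lc_e_rc_27_1 lc_e_rc_18_1 lc_e_rc_16_5 lc_e_rc_13_3 lc_e_rc_18_1 lc_e_rc_18_1) (@D3.rec (fun _ => (Cert rels S Gen.e)) lc_e_rc_18_1 lc_e_rc_19_4 lc_e_rc_18_1 lc_e_rc_13_1 lc_e_rc_18_1 lc_e_rc_18_1 lc_e_rc_27_1 lc_e_rc_18_1 lc_e_rc_19_4 lc_e_rc_16_1 lc_e_rc_18_1 lc_e_rc_13_3 lc_e_rc_16_3 lc_e_rc_18_1 lc_e_rc_18_1 lc_e_rc_4_3 lc_e_rc_9_1 lc_e_rc_13_3 lc_e_rc_27_5 lc_e_rc_18_1 lc_e_rc_27_5 lc_e_rc_18_1 lc_e_rc_9_3 lc_e_rc_9_3 lc_e_rc_16_1 lc_e_rc_19_4 lc_e_Cert_tree lc_e_rc_18_1 lc_e_rc_27_7 lc_e_rc_27_7 lc_e_rc_13_3 lc_e_rc_19_4 lc_e_rc_13_1 lc_e_rc_4_3 lc_e_rc_18_1 lc_e_rc_27_1 lc_e_rc_19_4 lc_e_rc_13_3 lc_e_Cert_tree lc_e_Cert_tree lc_e_rc_18_1 lc_e_rc_4_3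 lc_e_rc_18_1 lc_e_rc_27_5 lc_e_rc_19_2 lc_e_rc_13_3 lc_e_Cert_tree lc_e_rc_18_1 lc_e_rc_18_1 lc_e_rc_4_1 lc_e_rc_27_5 lc_e_rc_18_1 lc_e_rc_19_0 lc_e_rc_18_1 lc_e_rc_18_1 lc_e_Cert_tree lc_e_rc_16_3 lc_e_rc_13_1 lc_e_rc_9_3 lc_e_rc_4_3 lc_e_rc_18_1 lc_e_rc_27_7) (@D3.rec (fun _ => (Cert rels S Gen.e)) lc_e_rc_18_1 lc_e_rc_18_1 lc_e_rc_9_3 lc_e_rc_13_3 lc_e_rc_27_5 lc_e_rc_4_1 lc_e_rc_9_3 lc_e_rc_18_1 lc_e_rc_9_3 lc_e_rc_19_0 lc_e_rc_18_1 lc_e_rc_16_1 lc_e_rc_19_2 lc_e_rc_18_1 lc_e_rc_18_1 lc_e_rc_18_1 lc_e_rc_13_1 lc_e_rc_9_3 lc_e_rc_18_1 lc_e_rc_16_3 lc_e_rc_13_3 lc_e_rc_16_5 lc_e_rc_18_1 lc_e_rc_18_1 lc_e_rc_16_5 lc_e_rc_16_1 lc_e_rc_19_2 lc_e_rc_13_1 lc_e_rc_9_3 lc_e_rc_13_1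 lc_e_rc_19_2 lc_e_rc_13_1 lc_e_rc_27_5 lc_e_rc_9_3 lc_e_rc_13_3 lc_e_rc_27_5 lc_e_rc_18_1 lc_e_rc_4_1 lc_e_rc_27_7 lc_e_rc_9_3 lc_e_rc_27_1 lc_e_rc_19_2 lc_e_rc_18_1 lc_e_rc_27_5 lc_e_rc_18_1 lc_e_rc_9_3 lc_e_rc_27_5 lc_e_rc_4_3 lc_e_rc_9_3 lc_e_rc_13_1 lc_e_rc_4_1 lc_e_rc_16_1 lc_e_rc_27_5 lc_e_rc_16_5 lc_e_Cert_tree lc_e_rc_13_3 lc_e_rc_9_3 lc_e_Cert_tree lc_e_rc_13_3 lc_e_rc_13_3 lc_e_rc_27_1 lc_e_rc_4_3) (@D3.rec (fun _ => (Cert rels S Gen.e)) lc_e_rc_9_3 lc_e_rc_27_7 lc_e_rc_13_3 lc_e_rc_13_3 lc_e_rc_9_3 lc_e_rc_27_7 lc_e_rc_13_3 lc_e_rc_4_1 lc_e_rc_9_1 lc_e_rc_18_1 lc_e_rc_4_3 lc_e_rc_19_2 lc_e_rc_13_3 lc_e_rc_18_1 lc_e_Cert_tree lc_e_rc_18_1 lc_e_rc_18_1 lc_e_rc_18_1 lc_e_rc_16_3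 lc_e_rc_18_1 lc_e_rc_27_5 lc_e_rc_27_5 lc_e_rc_18_1 lc_e_rc_13_3 lc_e_rc_4_3 lc_e_rc_27_5 lc_e_rc_18_1 lc_e_rc_18_1 lc_e_rc_18_1 lc_e_rc_4_3 lc_e_rc_16_5 lc_e_rc_16_3 lc_e_rc_18_1 lc_e_rc_13_3 lc_e_rc_18_1 lc_e_rc_18_1 lc_e_rc_18_1 lc_e_rc_18_1 lc_e_rc_18_1 lc_e_rc_16_1 lc_e_rc_27_1 lc_e_rc_18_1 lc_e_rc_27_7 lc_e_rc_18_1 lc_e_rc_13_3 lc_e_rc_18_1 lc_e_rc_18_1 lc_e_Cert_tree lc_e_rc_18_1 lc_e_rc_13_3 lc_e_rc_9_3 lc_e_rc_13_3 lc_e_rc_9_3 lc_e_rc_18_1 lc_e_rc_13_1 lc_e_Cert_tree lc_e_rc_18_1 lc_e_rc_18_1 lc_e_rc_27_5 lc_e_rc_18_1 lc_e_rc_16_5 lc_e_rc_16_1) (@D3.rec (fun _ => (Cert rels S Gen.e)) lc_e_rc_13_3 lc_e_rc_27_5 lc_e_rc_18_1 lc_e_rc_27_1 lc_e_rc_18_1 lc_e_rc_16_1 lc_e_rc_4_3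 lc_e_rc_9_3 lc_e_rc_9_3 lc_e_rc_27_1 lc_e_rc_27_1 lc_e_rc_9_1 lc_e_rc_18_1 lc_e_rc_27_1 lc_e_rc_18_1 lc_e_rc_9_3 lc_e_rc_18_1 lc_e_rc_9_3 lc_e_rc_18_1 lc_e_rc_9_3 lc_e_rc_18_1 lc_e_rc_13_1 lc_e_rc_27_1 lc_e_rc_13_1 lc_e_rc_16_3 lc_e_rc_18_1 lc_e_rc_18_1 lc_e_rc_16_5 lc_e_rc_4_3 lc_e_rc_27_5 lc_e_Cert_tree lc_e_rc_18_1 lc_e_Cert_tree lc_e_Cert_tree lc_e_rc_18_1 lc_e_Cert_tree lc_e_Cert_tree lc_e_rc_4_1 lc_e_rc_18_1 lc_e_rc_18_1 lc_e_rc_18_1 lc_e_rc_13_3 lc_e_rc_19_0 lc_e_rc_9_3 lc_e_Cert_tree lc_e_rc_18_1 lc_e_rc_4_3 lc_e_rc_9_3 lc_e_rc_27_7 lc_e_rc_13_3 lc_e_rc_18_1 lc_e_rc_4_1 lc_e_Cert_tree lc_e_Cert_tree lc_e_rc_18_1 lc_e_rc_9_3 lc_e_rc_18_1 lc_e_rc_18_1 lc_e_rc_4_3 lc_e_rc_16_5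 lc_e_rc_16_1 lc_e_rc_19_2) (@D3.rec (fun _ => (Cert rels S Gen.e)) lc_e_rc_9_3 lc_e_Cert_tree lc_e_rc_4_1 lc_e_rc_4_1 lc_e_Cert_tree lc_e_rc_18_1 lc_e_rc_16_3 lc_e_rc_19_4 lc_e_rc_27_5 lc_e_rc_16_5 lc_e_rc_27_7 lc_e_Cert_tree lc_e_rc_18_1 lc_e_rc_13_3 lc_e_rc_27_1 lc_e_rc_27_1 lc_e_rc_13_1 lc_e_rc_9_3 lc_e_rc_13_3 lc_e_rc_4_3 lc_e_rc_27_7 lc_e_rc_18_1 lc_e_rc_9_1 lc_e_rc_16_5 lc_e_rc_16_1 lc_e_rc_9_1 lc_e_rc_4_3 lc_e_rc_9_3 lc_e_rc_27_7 lc_e_Cert_tree lc_e_rc_18_1 lc_e_rc_18_1 lc_e_rc_9_3 lc_e_rc_9_1 lc_e_rc_16_5 lc_e_rc_13_3 lc_e_rc_9_1 lc_e_rc_16_5 lc_e_Cert_tree lc_e_rc_27_5 lc_e_rc_18_1 lc_e_rc_16_5 lc_e_rc_27_5 lc_e_rc_18_1 lc_e_rc_4_3 lc_e_Cert_tree lc_e_rc_13_3 lc_e_rc_13_3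 lc_e_rc_16_3 lc_e_rc_18_1 lc_e_Cert_tree lc_e_rc_18_1 lc_e_rc_16_3 lc_e_rc_13_3 lc_e_rc_18_1 lc_e_rc_16_3 lc_e_rc_18_1 lc_e_rc_18_1 lc_e_rc_9_3 lc_e_rc_18_1 lc_e_rc_18_1 lc_e_rc_9_3) (@D3.rec (fun _ => (Cert rels S Gen.e)) lc_e_rc_9_3 lc_e_rc_16_3 lc_e_rc_18_1 lc_e_rc_4_3 lc_e_rc_16_1 lc_e_Cert_tree lc_e_rc_9_1 lc_e_rc_18_1 lc_e_rc_13_3 lc_e_rc_27_5 lc_e_rc_13_1 lc_e_rc_27_5 lc_e_Cert_tree lc_e_rc_18_1 lc_e_Cert_tree lc_e_rc_27_7 lc_e_rc_9_3 lc_e_rc_27_5 lc_e_rc_19_2 lc_e_Cert_tree lc_e_rc_27_7 lc_e_rc_18_1 lc_e_rc_9_3 lc_e_rc_18_1 lc_e_Cert_tree lc_e_rc_18_1 lc_e_rc_27_5 lc_e_rc_4_1 lc_e_rc_27_5 lc_e_rc_18_1 lc_e_rc_18_1 lc_e_rc_18_1 lc_e_rc_18_1 lc_e_rc_16_3 lc_e_rc_19_4 lc_e_rc_18_1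 lc_e_rc_27_5 lc_e_rc_9_1 lc_e_rc_18_1 lc_e_rc_13_3 lc_e_rc_16_5 lc_e_rc_4_3 lc_e_Cert_tree lc_e_rc_13_3 lc_e_Cert_tree lc_e_rc_18_1 lc_e_rc_18_1 lc_e_rc_4_3 lc_e_rc_16_3 lc_e_rc_18_1 lc_e_Cert_tree lc_e_rc_9_1 lc_e_rc_4_3 lc_e_rc_13_3 lc_e_rc_19_2 lc_e_rc_16_3 lc_e_rc_16_3 lc_e_rc_13_3 lc_e_rc_16_3 lc_e_Cert_tree lc_e_Cert_tree lc_e_Cert_tree) (@D3.rec (fun _ => (Cert rels S Gen.e)) lc_e_rc_18_1 lc_e_Cert_tree lc_e_rc_19_4 lc_e_rc_9_3 lc_e_rc_27_5 lc_e_rc_18_1 lc_e_rc_18_1 lc_e_rc_16_3 lc_e_rc_18_1 lc_e_rc_18_1 lc_e_rc_9_1 lc_e_rc_19_4 lc_e_rc_18_1 lc_e_rc_18_1 lc_e_rc_13_3 lc_e_rc_16_3 lc_e_rc_19_2 lc_e_rc_16_3 lc_e_rc_18_1 lc_e_rc_9_3 lc_e_rc_18_1 lc_e_rc_18_1 lc_e_Cert_tree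 lc_e_rc_18_1 lc_e_rc_19_4 lc_e_rc_19_4 lc_e_rc_13_3 lc_e_rc_18_1 lc_e_rc_18_1 lc_e_rc_16_1 lc_e_rc_27_5 lc_e_rc_18_1 lc_e_rc_19_4 lc_e_rc_16_3 lc_e_rc_18_1 lc_e_rc_18_1 lc_e_rc_18_1 lc_e_rc_27_5 lc_e_rc_13_3 lc_e_rc_18_1 lc_e_rc_13_3 lc_e_rc_18_1 lc_e_rc_18_1 lc_e_rc_9_1 lc_e_rc_27_7 lc_e_rc_13_3 lc_e_rc_19_2 lc_e_rc_27_1 lc_e_rc_9_3 lc_e_rc_18_1 lc_e_rc_27_7 lc_e_rc_18_1 lc_e_rc_13_3 lc_e_rc_19_2 lc_e_rc_4_1 lc_e_rc_19_2 lc_e_rc_27_1 lc_e_rc_9_3 lc_e_rc_4_3 lc_e_rc_9_3 lc_e_rc_19_4 lc_e_rc_13_3) (@D3.rec (fun _ => (Cert rels S Gen.e)) lc_e_rc_9_3 lc_e_rc_13_3 lc_e_rc_13_1 lc_e_rc_27_5 lc_e_rc_18_1 lc_e_rc_4_3 lc_e_rc_18_1 lc_e_rc_18_1 lc_e_rc_18_1 lc_e_rc_18_1 lc_e_rc_18_1 lc_e_rc_16_5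 lc_e_rc_18_1 lc_e_rc_9_3 lc_e_rc_13_3 lc_e_rc_4_1 lc_e_rc_18_1 lc_e_rc_9_3 lc_e_rc_4_3 lc_e_rc_18_1 lc_e_rc_16_5 lc_e_rc_13_3 lc_e_rc_27_1 lc_e_rc_9_3 lc_e_rc_19_4 lc_e_rc_18_1 lc_e_rc_13_3 lc_e_rc_19_2 lc_e_rc_13_3 lc_e_rc_13_3 lc_e_rc_16_3 lc_e_rc_16_3 lc_e_rc_4_1 lc_e_rc_18_1 lc_e_rc_18_1 lc_e_rc_27_5 lc_e_rc_16_3 lc_e_rc_27_7 lc_e_rc_18_1 lc_e_rc_13_3 lc_e_rc_16_1 lc_e_rc_13_1 lc_e_rc_4_3 lc_e_rc_18_1 lc_e_rc_18_1 lc_e_rc_18_1 lc_e_rc_4_3 lc_e_rc_19_4 lc_e_rc_16_1 lc_e_rc_27_1 lc_e_rc_18_1 lc_e_rc_13_3 lc_e_rc_16_3 lc_e_rc_27_5 lc_e_rc_18_1 lc_e_rc_19_2 lc_e_rc_9_3 lc_e_rc_19_2 lc_e_rc_19_2 lc_e_rc_18_1 lc_e_rc_9_3 lc_e_rc_13_3) (@D3.rec (fun _ => (Cert rels S Gen.e)) lc_e_rc_9_3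 lc_e_rc_9_3 lc_e_rc_27_7 lc_e_rc_16_3 lc_e_rc_16_5 lc_e_rc_16_3 lc_e_rc_18_1 lc_e_rc_16_5 lc_e_rc_19_2 lc_e_rc_13_3 lc_e_rc_27_5 lc_e_rc_16_5 lc_e_rc_13_3 lc_e_rc_9_1 lc_e_rc_16_5 lc_e_rc_18_1 lc_e_rc_18_1 lc_e_rc_18_1 lc_e_rc_9_3 lc_e_rc_27_7 lc_e_rc_9_1 lc_e_rc_16_3 lc_e_rc_27_5 lc_e_rc_18_1 lc_e_rc_9_3 lc_e_Cert_tree lc_e_rc_19_2 lc_e_Cert_tree lc_e_rc_9_3 lc_e_Cert_tree lc_e_Cert_tree lc_e_Cert_tree lc_e_rc_18_1 lc_e_rc_18_1 lc_e_rc_4_3 lc_e_rc_9_3 lc_e_rc_18_1 lc_e_rc_16_3 lc_e_rc_16_1 lc_e_rc_16_5 lc_e_rc_13_3 lc_e_rc_9_3 lc_e_rc_16_3 lc_e_rc_13_3 lc_e_rc_16_5 lc_e_rc_27_7 lc_e_rc_13_3 lc_e_rc_19_2 lc_e_rc_27_5 lc_e_rc_18_1 lc_e_rc_9_3 lc_e_Cert_tree lc_e_rc_27_5 lc_e_rc_4_3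 lc_e_rc_18_1 lc_e_rc_18_1 lc_e_rc_9_3 lc_e_rc_13_1 lc_e_rc_19_2 lc_e_rc_18_1 lc_e_rc_18_1 lc_e_rc_16_1) (@D3.rec (fun _ => (Cert rels S Gen.e)) lc_e_rc_9_1 lc_e_rc_18_1 lc_e_rc_13_3 lc_e_rc_16_1 lc_e_rc_16_1 lc_e_rc_18_1 lc_e_rc_13_3 lc_e_rc_16_1 lc_e_rc_13_3 lc_e_rc_9_3 lc_e_rc_18_1 lc_e_rc_9_3 lc_e_rc_27_7 lc_e_rc_27_1 lc_e_rc_18_1 lc_e_rc_18_1 lc_e_rc_27_7 lc_e_rc_27_5 lc_e_rc_18_1 lc_e_rc_27_5 lc_e_rc_13_3 lc_e_rc_18_1 lc_e_rc_27_5 lc_e_rc_27_5 lc_e_rc_27_1 lc_e_rc_18_1 lc_e_rc_27_1 lc_e_rc_18_1 lc_e_rc_27_5 lc_e_rc_19_4 lc_e_rc_18_1 lc_e_rc_27_5 lc_e_Cert_tree lc_e_rc_18_1 lc_e_rc_19_4 lc_e_rc_9_3 lc_e_rc_9_3 lc_e_rc_16_5 lc_e_rc_19_4 lc_e_rc_18_1 lc_e_rc_27_1 lc_e_rc_9_3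 lc_e_rc_4_3 lc_e_rc_9_1 lc_e_rc_9_1 lc_e_rc_18_1 lc_e_rc_13_3 lc_e_rc_18_1 lc_e_rc_16_1 lc_e_rc_19_4 lc_e_rc_13_3 lc_e_rc_18_1 lc_e_rc_18_1 lc_e_rc_19_4 lc_e_rc_13_3 lc_e_rc_27_7 lc_e_rc_18_1 lc_e_rc_19_0 lc_e_Cert_tree lc_e_rc_27_1 lc_e_rc_27_7 lc_e_rc_9_3) (@D3.rec (fun _ => (Cert rels S Gen.e)) lc_e_rc_27_7 lc_e_rc_4_3 lc_e_rc_18_1 lc_e_rc_9_3 lc_e_Cert_tree lc_e_rc_13_3 lc_e_rc_18_1 lc_e_rc_13_3 lc_e_rc_27_1 lc_e_rc_18_1 lc_e_rc_13_3 lc_e_Cert_tree lc_e_rc_18_1 lc_e_rc_9_3 lc_e_rc_18_1 lc_e_rc_9_3 lc_e_rc_13_3 lc_e_rc_9_3 lc_e_rc_16_1 lc_e_rc_4_3 lc_e_rc_18_1 lc_e_rc_4_3 lc_e_rc_27_5 lc_e_rc_13_1 lc_e_rc_9_3 lc_e_Cert_tree lc_e_rc_18_1 lc_e_Cert_tree lc_e_rc_18_1 lc_e_rc_16_3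 lc_e_rc_13_3 lc_e_rc_18_1 lc_e_rc_13_3 lc_e_rc_9_3 lc_e_rc_13_1 lc_e_rc_27_1 lc_e_rc_4_1 lc_e_rc_4_3 lc_e_rc_13_3 lc_e_rc_13_3 lc_e_rc_13_3 lc_e_rc_9_1 lc_e_rc_27_5 lc_e_rc_18_1 lc_e_rc_4_1 lc_e_rc_27_5 lc_e_rc_18_1 lc_e_rc_16_5 lc_e_rc_9_1 lc_e_rc_18_1 lc_e_rc_16_3 lc_e_rc_18_1 lc_e_rc_16_3 lc_e_rc_18_1 lc_e_rc_27_5 lc_e_rc_18_1 lc_e_rc_27_5 lc_e_rc_18_1 lc_e_rc_13_3 lc_e_rc_4_1 lc_e_rc_4_3 lc_e_rc_27_5) (@D3.rec (fun _ => (Cert rels S Gen.e)) lc_e_rc_13_3 lc_e_rc_18_1 lc_e_rc_27_5 lc_e_rc_19_2 lc_e_rc_4_1 lc_e_rc_18_1 lc_e_rc_9_3 lc_e_rc_13_3 lc_e_Cert_tree lc_e_rc_27_5 lc_e_rc_18_1 lc_e_rc_16_1 lc_e_rc_27_5 lc_e_Cert_tree lc_e_rc_18_1 lc_e_rc_18_1 lc_e_rc_9_1 lc_e_rc_27_7 lc_e_rc_18_1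 lc_e_rc_13_1 lc_e_rc_9_3 lc_e_rc_4_3 lc_e_Cert_tree lc_e_rc_18_1 lc_e_rc_16_5 lc_e_rc_19_4 lc_e_rc_16_1 lc_e_rc_18_1 lc_e_rc_18_1 lc_e_rc_18_1 lc_e_rc_18_1 lc_e_rc_13_3 lc_e_rc_16_3 lc_e_rc_4_3 lc_e_rc_16_1 lc_e_rc_9_3 lc_e_rc_4_3 lc_e_rc_13_1 lc_e_rc_18_1 lc_e_rc_18_1 lc_e_rc_9_3 lc_e_rc_13_1 lc_e_rc_4_3 lc_e_rc_18_1 lc_e_rc_13_3 lc_e_rc_27_5 lc_e_rc_19_2 lc_e_rc_27_5 lc_e_Cert_tree lc_e_rc_18_1 lc_e_rc_27_1 lc_e_rc_13_3 lc_e_rc_9_3 lc_e_rc_16_1 lc_e_rc_18_1 lc_e_rc_9_3 lc_e_rc_27_7 lc_e_rc_4_1 lc_e_rc_18_1 lc_e_rc_27_5 lc_e_Cert_tree lc_e_rc_18_1) (@D3.rec (fun _ => (Cert rels S Gen.e)) lc_e_rc_18_1 lc_e_rc_4_3 lc_e_Cert_tree lc_e_Cert_tree lc_e_rc_18_1 lc_e_rc_18_1 lc_e_rc_13_1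 lc_e_rc_13_3 lc_e_rc_13_1 lc_e_rc_19_0 lc_e_rc_9_3 lc_e_rc_27_7 lc_e_rc_27_1 lc_e_rc_4_3 lc_e_rc_9_3 lc_e_rc_27_7 lc_e_rc_4_3 lc_e_rc_13_3 lc_e_rc_16_1 lc_e_rc_9_1 lc_e_rc_9_3 lc_e_Cert_tree lc_e_rc_13_1 lc_e_Cert_tree lc_e_rc_16_1 lc_e_rc_18_1 lc_e_rc_18_1 lc_e_Cert_tree lc_e_rc_19_0 lc_e_rc_18_1 lc_e_rc_16_3 lc_e_rc_27_1 lc_e_rc_13_1 lc_e_rc_18_1 lc_e_rc_9_3 lc_e_rc_27_7 lc_e_rc_27_5 lc_e_rc_18_1 lc_e_rc_19_0 lc_e_rc_13_1 lc_e_rc_16_5 lc_e_rc_27_5 lc_e_rc_18_1 lc_e_rc_9_3 lc_e_rc_13_3 lc_e_rc_13_3 lc_e_rc_19_4 lc_e_rc_9_1 lc_e_rc_18_1 lc_e_rc_16_3 lc_e_rc_18_1 lc_e_Cert_tree lc_e_rc_18_1 lc_e_rc_13_3 lc_e_rc_19_0 lc_e_rc_13_1 lc_e_Cert_tree lc_e_rc_18_1 lc_e_rc_27_5 lc_e_Cert_tree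 lc_e_rc_18_1 lc_e_rc_4_1) (@D3.rec (fun _ => (Cert rels S Gen.e)) lc_e_rc_9_3 lc_e_rc_9_3 lc_e_rc_4_3 lc_e_rc_27_7 lc_e_rc_18_1 lc_e_rc_27_7 lc_e_rc_16_5 lc_e_rc_9_3 lc_e_rc_27_7 lc_e_rc_18_1 lc_e_rc_27_5 lc_e_rc_18_1 lc_e_rc_18_1 lc_e_rc_13_3 lc_e_rc_18_1 lc_e_rc_4_3 lc_e_Cert_tree lc_e_rc_18_1 lc_e_rc_27_1 lc_e_Cert_tree lc_e_rc_27_5 lc_e_rc_13_1 lc_e_rc_19_4 lc_e_rc_18_1 lc_e_rc_18_1 lc_e_rc_9_1 lc_e_Cert_tree lc_e_rc_18_1 lc_e_rc_18_1 lc_e_rc_9_3 lc_e_rc_16_1 lc_e_rc_27_5 lc_e_rc_13_1 lc_e_Cert_tree lc_e_rc_18_1 lc_e_rc_9_3 lc_e_rc_9_3 lc_e_Cert_tree lc_e_Cert_tree lc_e_rc_9_3 lc_e_rc_13_3 lc_e_rc_4_3 lc_e_Cert_tree lc_e_rc_13_1 lc_e_Cert_tree lc_e_rc_18_1 lc_e_rc_18_1 lc_e_rc_18_1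 lc_e_rc_4_3 lc_e_rc_18_1 lc_e_rc_18_1 lc_e_rc_13_3 lc_e_rc_19_2 lc_e_Cert_tree lc_e_rc_16_3 lc_e_rc_13_3 lc_e_rc_18_1 lc_e_rc_9_3 lc_e_rc_9_3 lc_e_rc_16_3 lc_e_rc_18_1 lc_e_rc_4_3) (@D3.rec (fun _ => (Cert rels S Gen.e)) lc_e_Cert_tree lc_e_rc_18_1 lc_e_rc_4_1 lc_e_rc_4_3 lc_e_Cert_tree lc_e_rc_18_1 lc_e_rc_27_7 lc_e_rc_27_7 lc_e_rc_4_3 lc_e_rc_27_1 lc_e_rc_18_1 lc_e_rc_27_5 lc_e_rc_13_3 lc_e_rc_4_3 lc_e_Cert_tree lc_e_rc_18_1 lc_e_rc_9_3 lc_e_rc_27_5 lc_e_Cert_tree lc_e_Cert_tree lc_e_Cert_tree lc_e_Cert_tree lc_e_rc_18_1 lc_e_Cert_tree lc_e_rc_18_1 lc_e_rc_27_5 lc_e_rc_18_1 lc_e_rc_9_1 lc_e_rc_18_1 lc_e_rc_18_1 lc_e_Cert_tree lc_e_Cert_tree lc_e_rc_18_1 lc_e_rc_16_3 lc_e_rc_27_1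 lc_e_rc_9_3 lc_e_rc_16_3 lc_e_rc_13_1 lc_e_rc_9_1 lc_e_rc_4_1 lc_e_rc_18_1 lc_e_rc_4_3 lc_e_rc_13_1 lc_e_rc_27_7 lc_e_rc_18_1 lc_e_rc_4_1 lc_e_rc_13_3 lc_e_rc_18_1 lc_e_rc_13_3 lc_e_rc_9_3 lc_e_rc_18_1 lc_e_rc_13_3 lc_e_rc_16_5 lc_e_rc_16_1 lc_e_rc_18_1 lc_e_rc_13_3 lc_e_rc_13_3 lc_e_rc_9_3 lc_e_rc_4_1 lc_e_rc_27_1 lc_e_rc_18_1 lc_e_rc_9_3) (@D3.rec (fun _ => (Cert rels S Gen.e)) lc_e_rc_27_5 lc_e_rc_4_3 lc_e_rc_13_3 lc_e_rc_13_3 lc_e_rc_9_1 lc_e_rc_4_3 lc_e_rc_4_3 lc_e_rc_16_5 lc_e_rc_4_3 lc_e_rc_13_1 lc_e_rc_27_5 lc_e_rc_18_1 lc_e_Cert_tree lc_e_rc_18_1 lc_e_rc_16_1 lc_e_rc_16_3 lc_e_rc_18_1 lc_e_rc_9_3 lc_e_rc_18_1 lc_e_rc_16_5 lc_e_rc_27_1 lc_e_rc_18_1 lc_e_rc_13_3 lc_e_Cert_tree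 lc_e_rc_9_1 lc_e_rc_13_3 lc_e_rc_13_3 lc_e_rc_18_1 lc_e_rc_18_1 lc_e_rc_4_3 lc_e_Cert_tree lc_e_rc_19_2 lc_e_rc_19_4 lc_e_rc_18_1 lc_e_rc_16_5 lc_e_rc_27_1 lc_e_rc_16_5 lc_e_rc_13_3 lc_e_rc_18_1 lc_e_rc_27_7 lc_e_rc_18_1 lc_e_rc_18_1 lc_e_rc_9_3 lc_e_rc_27_7 lc_e_rc_18_1 lc_e_rc_18_1 lc_e_rc_13_3 lc_e_rc_27_5 lc_e_rc_16_3 lc_e_rc_19_0 lc_e_rc_16_5 lc_e_rc_16_3 lc_e_rc_13_3 lc_e_Cert_tree lc_e_rc_9_3 lc_e_rc_13_3 lc_e_rc_19_2 lc_e_rc_27_5 lc_e_rc_18_1 lc_e_rc_19_4 lc_e_rc_9_1 lc_e_rc_16_1) (@D3.rec (fun _ => (Cert rels S Gen.e)) lc_e_rc_27_7 lc_e_rc_18_1 lc_e_rc_16_5 lc_e_rc_16_3 lc_e_rc_27_7 lc_e_Cert_tree lc_e_rc_9_1 lc_e_rc_16_5 lc_e_rc_16_3 lc_e_rc_27_1 lc_e_rc_18_1 lc_e_rc_18_1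 lc_e_rc_16_3 lc_e_rc_19_4 lc_e_rc_18_1 lc_e_rc_13_3 lc_e_rc_9_3 lc_e_rc_9_1 lc_e_rc_19_2 lc_e_rc_13_3 lc_e_rc_16_3 lc_e_rc_18_1 lc_e_rc_4_3 lc_e_rc_18_1 lc_e_rc_16_5 lc_e_rc_9_3 lc_e_rc_27_5 lc_e_rc_27_5 lc_e_rc_27_1 lc_e_rc_13_1 lc_e_rc_13_3 lc_e_rc_27_7 lc_e_rc_9_3 lc_e_rc_27_7 lc_e_rc_19_4 lc_e_rc_4_3 lc_e_rc_18_1 lc_e_rc_4_1 lc_e_rc_9_3 lc_e_rc_27_5 lc_e_rc_18_1 lc_e_rc_27_7 lc_e_rc_9_3 lc_e_rc_27_1 lc_e_rc_18_1 lc_e_rc_27_7 lc_e_rc_18_1 lc_e_rc_13_3 lc_e_rc_16_5 lc_e_rc_19_2 lc_e_rc_9_3 lc_e_rc_18_1 lc_e_rc_18_1 lc_e_rc_16_5 lc_e_rc_16_3 lc_e_rc_9_1 lc_e_rc_16_5 lc_e_rc_18_1 lc_e_rc_4_3 lc_e_rc_9_3 lc_e_rc_16_5 lc_e_rc_16_1) (@D3.rec (fun _ => (Cert rels S Gen.e)) lc_e_rc_9_1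 lc_e_rc_27_7 lc_e_rc_16_5 lc_e_rc_13_1 lc_e_rc_18_1 lc_e_rc_18_1 lc_e_rc_16_1 lc_e_rc_19_2 lc_e_rc_18_1 lc_e_rc_13_3 lc_e_rc_18_1 lc_e_rc_4_1 lc_e_Cert_tree lc_e_rc_18_1 lc_e_rc_4_3 lc_e_rc_13_3 lc_e_rc_4_3 lc_e_rc_27_1 lc_e_rc_18_1 lc_e_rc_18_1 lc_e_rc_18_1 lc_e_rc_16_1 lc_e_rc_13_3 lc_e_rc_16_3 lc_e_rc_16_5 lc_e_rc_19_2 lc_e_rc_27_5 lc_e_Cert_tree lc_e_rc_18_1 lc_e_Cert_tree lc_e_rc_16_3 lc_e_rc_4_1 lc_e_Cert_tree lc_e_rc_18_1 lc_e_rc_9_1 lc_e_Cert_tree lc_e_rc_16_5 lc_e_rc_18_1 lc_e_rc_16_1 lc_e_Cert_tree lc_e_rc_27_7 lc_e_rc_18_1 lc_e_Cert_tree lc_e_rc_4_3 lc_e_rc_18_1 lc_e_Cert_tree lc_e_rc_13_1 lc_e_Cert_tree lc_e_Cert_tree lc_e_rc_18_1 lc_e_Cert_tree lc_e_rc_16_1 lc_e_rc_27_5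 lc_e_rc_18_1 lc_e_rc_18_1 lc_e_Cert_tree lc_e_rc_18_1 lc_e_Cert_tree lc_e_rc_13_3 lc_e_rc_9_3 lc_e_rc_4_3 lc_e_rc_9_3) (@D3.rec (fun _ => (Cert rels S Gen.e)) lc_e_rc_13_1 lc_e_rc_16_5 lc_e_rc_4_3 lc_e_rc_16_5 lc_e_rc_13_3 lc_e_rc_27_5 lc_e_rc_18_1 lc_e_rc_16_3 lc_e_rc_27_1 lc_e_Cert_tree lc_e_rc_18_1 lc_e_rc_13_1 lc_e_rc_27_7 lc_e_rc_13_1 lc_e_rc_18_1 lc_e_rc_13_3 lc_e_rc_27_7 lc_e_rc_18_1 lc_e_rc_18_1 lc_e_rc_4_1 lc_e_rc_9_3 lc_e_rc_13_3 lc_e_rc_18_1 lc_e_rc_4_1 lc_e_rc_16_5 lc_e_rc_9_3 lc_e_rc_18_1 lc_e_rc_9_1 lc_e_rc_27_5 lc_e_rc_27_5 lc_e_rc_18_1 lc_e_rc_18_1 lc_e_rc_16_5 lc_e_rc_18_1 lc_e_rc_18_1 lc_e_rc_18_1 lc_e_rc_13_3 lc_e_rc_18_1 lc_e_Cert_tree lc_e_rc_18_1 lc_e_rc_9_3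 lc_e_rc_13_3 lc_e_rc_19_0 lc_e_rc_18_1 lc_e_rc_9_3 lc_e_rc_18_1 lc_e_rc_19_0 lc_e_rc_27_5 lc_e_rc_18_1 lc_e_rc_18_1 lc_e_rc_13_3 lc_e_rc_16_5 lc_e_rc_13_3 lc_e_rc_19_0 lc_e_rc_18_1 lc_e_rc_27_7 lc_e_rc_27_5 lc_e_rc_9_3 lc_e_rc_27_1 lc_e_rc_27_5 lc_e_rc_9_1 lc_e_rc_16_5) (@D3.rec (fun _ => (Cert rels S Gen.e)) lc_e_rc_18_1 lc_e_rc_18_1 lc_e_rc_16_3 lc_e_rc_9_3 lc_e_rc_27_1 lc_e_rc_16_5 lc_e_rc_9_1 lc_e_rc_27_5 lc_e_rc_13_3 lc_e_Cert_tree lc_e_rc_18_1 lc_e_rc_27_5 lc_e_Cert_tree lc_e_rc_27_1 lc_e_rc_18_1 lc_e_rc_16_5 lc_e_rc_16_5 lc_e_rc_16_5 lc_e_rc_9_3 lc_e_rc_18_1 lc_e_rc_16_5 lc_e_rc_18_1 lc_e_rc_18_1 lc_e_rc_18_1 lc_e_rc_18_1 lc_e_rc_19_2 lc_e_rc_13_3 lc_e_rc_27_1 lc_e_rc_18_1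 lc_e_Cert_tree lc_e_rc_13_3 lc_e_rc_13_3 lc_e_rc_13_3 lc_e_rc_13_3 lc_e_rc_13_3 lc_e_rc_16_5 lc_e_rc_19_2 lc_e_rc_27_5 lc_e_rc_4_3 lc_e_rc_18_1 lc_e_rc_18_1 lc_e_rc_9_3 lc_e_rc_27_1 lc_e_rc_18_1 lc_e_rc_9_3 lc_e_rc_18_1 lc_e_rc_27_7 lc_e_rc_18_1 lc_e_rc_4_3 lc_e_rc_4_1 lc_e_rc_4_1 lc_e_rc_16_5 lc_e_rc_4_3 lc_e_rc_18_1 lc_e_rc_9_1 lc_e_rc_13_3 lc_e_rc_16_1 lc_e_rc_13_3 lc_e_Cert_tree lc_e_rc_18_1 lc_e_rc_16_5 lc_e_rc_4_3) (@D3.rec (fun _ => (Cert rels S Gen.e)) lc_e_rc_13_3 lc_e_rc_9_3 lc_e_rc_13_3 lc_e_rc_13_3 lc_e_rc_9_3 lc_e_rc_9_3 lc_e_rc_27_5 lc_e_rc_18_1 lc_e_rc_18_1 lc_e_rc_18_1 lc_e_rc_16_5 lc_e_rc_4_1 lc_e_Cert_tree lc_e_Cert_tree lc_e_rc_18_1 lc_e_rc_16_3 lc_e_rc_16_3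 lc_e_rc_18_1 lc_e_rc_18_1 lc_e_rc_16_1 lc_e_rc_16_5 lc_e_rc_4_3 lc_e_rc_9_3 lc_e_rc_18_1 lc_e_rc_9_3 lc_e_rc_13_3 lc_e_rc_27_1 lc_e_rc_18_1 lc_e_rc_9_3 lc_e_rc_27_1 lc_e_rc_18_1 lc_e_rc_18_1 lc_e_rc_27_5 lc_e_rc_13_3 lc_e_rc_19_2 lc_e_rc_18_1 lc_e_rc_16_3 lc_e_rc_16_3 lc_e_rc_4_3 lc_e_rc_27_1 lc_e_rc_18_1 lc_e_rc_16_1 lc_e_rc_27_1 lc_e_rc_27_7 lc_e_rc_18_1 lc_e_rc_18_1 lc_e_rc_18_1 lc_e_Cert_tree lc_e_rc_9_1 lc_e_rc_9_1 lc_e_rc_18_1 lc_e_Cert_tree lc_e_rc_18_1 lc_e_rc_16_5 lc_e_Cert_tree lc_e_rc_19_4 lc_e_rc_9_3 lc_e_rc_27_5 lc_e_rc_18_1 lc_e_rc_9_3 lc_e_rc_9_1 lc_e_rc_27_5) (@D3.rec (fun _ => (Cert rels S Gen.e)) lc_e_rc_4_1 lc_e_rc_18_1 lc_e_rc_27_7 lc_e_Cert_tree lc_e_Cert_tree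 lc_e_rc_18_1 lc_e_rc_9_3 lc_e_Cert_tree lc_e_rc_18_1 lc_e_rc_16_1 lc_e_rc_19_4 lc_e_rc_13_3 lc_e_rc_9_3 lc_e_rc_13_3 lc_e_rc_9_1 lc_e_rc_13_3 lc_e_rc_13_1 lc_e_rc_27_7 lc_e_rc_18_1 lc_e_rc_18_1 lc_e_Cert_tree lc_e_rc_16_1 lc_e_rc_19_4 lc_e_rc_13_1 lc_e_rc_18_1 lc_e_rc_13_3 lc_e_rc_18_1 lc_e_rc_18_1 lc_e_rc_27_7 lc_e_rc_16_3 lc_e_rc_19_4 lc_e_rc_27_1 lc_e_rc_18_1 lc_e_rc_9_3 lc_e_rc_18_1 lc_e_rc_18_1 lc_e_rc_16_1 lc_e_rc_13_3 lc_e_Cert_tree lc_e_rc_27_5 lc_e_rc_18_1 lc_e_rc_9_3 lc_e_rc_18_1 lc_e_Cert_tree lc_e_Cert_tree lc_e_Cert_tree lc_e_Cert_tree lc_e_rc_18_1 lc_e_rc_9_3 lc_e_rc_9_1 lc_e_Cert_tree lc_e_rc_18_1 lc_e_Cert_tree lc_e_rc_18_1 lc_e_rc_16_3 lc_e_rc_19_4 lc_e_rc_18_1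 lc_e_rc_16_5 lc_e_Cert_tree lc_e_rc_16_3 lc_e_rc_19_4 lc_e_rc_18_1) (@D3.rec (fun _ => (Cert rels S Gen.e)) lc_e_rc_16_5 lc_e_rc_18_1 lc_e_rc_19_4 lc_e_Cert_tree lc_e_rc_27_7 lc_e_rc_18_1 lc_e_rc_9_3 lc_e_rc_27_5 lc_e_rc_18_1 lc_e_rc_18_1 lc_e_rc_13_3 lc_e_rc_9_3 lc_e_rc_27_1 lc_e_rc_19_2 lc_e_rc_13_1 lc_e_Cert_tree lc_e_rc_27_5 lc_e_rc_4_3 lc_e_rc_13_1 lc_e_rc_4_3 lc_e_rc_27_5 lc_e_rc_18_1 lc_e_rc_18_1 lc_e_rc_18_1 lc_e_rc_18_1 lc_e_rc_18_1 lc_e_rc_27_5 lc_e_rc_18_1 lc_e_rc_9_3 lc_e_rc_16_1 lc_e_rc_9_3 lc_e_rc_18_1 lc_e_rc_9_3 lc_e_rc_13_3 lc_e_rc_27_1 lc_e_rc_18_1 lc_e_rc_27_5 lc_e_rc_16_3 lc_e_rc_4_3 lc_e_rc_18_1 lc_e_rc_16_3 lc_e_rc_27_5 lc_e_rc_19_2 lc_e_rc_19_2 lc_e_rc_27_7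 lc_e_rc_18_1 lc_e_rc_18_1 lc_e_rc_18_1 lc_e_rc_27_7 lc_e_rc_27_1 lc_e_rc_18_1 lc_e_rc_27_5 lc_e_rc_18_1 lc_e_rc_27_5 lc_e_rc_13_1 lc_e_rc_18_1 lc_e_rc_9_3 lc_e_rc_19_2 lc_e_rc_19_0 lc_e_rc_9_3 lc_e_rc_13_3 lc_e_rc_19_2) (@D3.rec (fun _ => (Cert rels S Gen.e)) lc_e_rc_4_3 lc_e_Cert_tree lc_e_rc_13_3 lc_e_rc_9_3 lc_e_rc_16_5 lc_e_Cert_tree lc_e_rc_13_3 lc_e_rc_9_3 lc_e_rc_13_3 lc_e_rc_27_1 lc_e_rc_18_1 lc_e_rc_9_3 lc_e_rc_16_3 lc_e_rc_16_3 lc_e_rc_18_1 lc_e_rc_18_1 lc_e_rc_9_3 lc_e_rc_27_7 lc_e_rc_13_1 lc_e_rc_16_1 lc_e_rc_27_5 lc_e_rc_18_1 lc_e_rc_27_7 lc_e_rc_9_3 lc_e_rc_9_3 lc_e_rc_27_7 lc_e_rc_16_5 lc_e_rc_4_3 lc_e_rc_27_7 lc_e_rc_18_1 lc_e_rc_13_3 lc_e_rc_13_3 lc_e_rc_16_1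 lc_e_rc_18_1 lc_e_rc_19_4 lc_e_rc_13_1 lc_e_rc_13_3 lc_e_rc_27_7 lc_e_rc_18_1 lc_e_rc_27_1 lc_e_Cert_tree lc_e_rc_16_3 lc_e_rc_16_5 lc_e_rc_13_3 lc_e_rc_13_3 lc_e_rc_4_1 lc_e_rc_18_1 lc_e_rc_13_3 lc_e_rc_4_3 lc_e_rc_16_3 lc_e_Cert_tree lc_e_rc_18_1 lc_e_rc_16_1 lc_e_rc_9_3 lc_e_rc_9_3 lc_e_rc_13_3 lc_e_rc_9_3 lc_e_rc_27_5 lc_e_rc_16_3 lc_e_rc_18_1 lc_e_rc_4_3 lc_e_rc_9_3) (@D3.rec (fun _ => (Cert rels S Gen.e)) lc_e_rc_13_3 lc_e_rc_27_5 lc_e_rc_13_3 lc_e_rc_27_1 lc_e_rc_16_5 lc_e_rc_13_3 lc_e_rc_13_1 lc_e_rc_18_1 lc_e_rc_13_3 lc_e_rc_16_5 lc_e_rc_4_3 lc_e_rc_4_3 lc_e_rc_9_3 lc_e_Cert_tree lc_e_rc_13_3 lc_e_rc_18_1 lc_e_rc_16_3 lc_e_rc_27_7 lc_e_rc_18_1 lc_e_rc_27_5 lc_e_rc_27_5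 lc_e_rc_13_3 lc_e_rc_13_3 lc_e_rc_9_1 lc_e_rc_18_1 lc_e_rc_27_1 lc_e_rc_16_5 lc_e_rc_18_1 lc_e_rc_9_3 lc_e_rc_18_1 lc_e_rc_13_3 lc_e_rc_27_5 lc_e_rc_9_3 lc_e_rc_27_1 lc_e_Cert_tree lc_e_rc_13_3 lc_e_rc_18_1 lc_e_rc_27_5 lc_e_rc_27_7 lc_e_rc_18_1 lc_e_rc_19_0 lc_e_rc_9_3 lc_e_rc_18_1 lc_e_rc_9_3 lc_e_rc_9_3 lc_e_rc_27_5 lc_e_rc_16_5 lc_e_rc_27_5 lc_e_rc_16_5 lc_e_rc_16_3 lc_e_rc_27_5 lc_e_rc_27_7 lc_e_rc_9_3 lc_e_rc_13_1 lc_e_rc_9_3 lc_e_rc_27_5 lc_e_rc_16_1 lc_e_rc_13_1 lc_e_Cert_tree lc_e_rc_27_7 lc_e_Cert_tree lc_e_rc_16_5)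
def ce_e_22 : D2 → D3 → (Cert rels S Gen.e) := @D2.rec (fun _ => D3 → (Cert rels S Gen.e)) (@D3.rec (fun _ => (Cert rels S Gen.e)) lc_e_Cert_tree lc_e_rc_18_1 lc_e_rc_13_3 lc_e_Cert_tree lc_e_rc_18_1 lc_e_rc_18_1 lc_e_rc_18_1 lc_e_Cert_tree lc_e_rc_18_1 lc_e_rc_27_7 lc_e_rc_13_3 lc_e_rc_9_1 lc_e_Cert_tree lc_e_rc_9_3 lc_e_rc_27_1 lc_e_rc_18_1 lc_e_rc_9_1 lc_e_rc_19_2 lc_e_rc_27_5 lc_e_rc_9_3 lc_e_rc_4_3 lc_e_rc_9_3 lc_e_rc_16_3 lc_e_rc_13_3 lc_e_rc_18_1 lc_e_rc_16_3 lc_e_rc_9_3 lc_e_rc_27_5 lc_e_Cert_tree lc_e_Cert_tree lc_e_rc_27_5 lc_e_rc_18_1 lc_e_Cert_tree lc_e_rc_27_7 lc_e_rc_13_3 lc_e_rc_9_3 lc_e_Cert_tree lc_e_rc_16_5 lc_e_rc_13_3 lc_e_rc_18_1 lc_e_rc_16_5 lc_e_rc_16_3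 lc_e_Cert_tree lc_e_rc_18_1 lc_e_rc_13_1 lc_e_rc_18_1 lc_e_rc_27_7 lc_e_rc_13_3 lc_e_Cert_tree lc_e_rc_18_1 lc_e_rc_13_3 lc_e_rc_13_1 lc_e_rc_9_3 lc_e_Cert_tree lc_e_rc_13_3 lc_e_rc_13_3 lc_e_Cert_tree lc_e_rc_13_3 lc_e_Cert_tree lc_e_rc_18_1 lc_e_rc_18_1 lc_e_Cert_tree) (@D3.rec (fun _ => (Cert rels S Gen.e)) lc_e_rc_13_1 lc_e_rc_18_1 lc_e_rc_18_1 lc_e_rc_9_3 lc_e_rc_19_2 lc_e_Cert_tree lc_e_rc_13_1 lc_e_rc_18_1 lc_e_rc_18_1 lc_e_rc_18_1 lc_e_rc_19_4 lc_e_rc_16_5 lc_e_rc_9_3 lc_e_rc_18_1 lc_e_Cert_tree lc_e_rc_13_3 lc_e_rc_13_3 lc_e_rc_18_1 lc_e_rc_13_1 lc_e_rc_18_1 lc_e_rc_13_1 lc_e_rc_16_3 lc_e_rc_18_1 lc_e_rc_18_1 lc_e_rc_18_1 lc_e_rc_19_2 lc_e_Cert_tree lc_e_rc_13_1 lc_e_rc_18_1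 lc_e_Cert_tree lc_e_rc_27_1 lc_e_rc_18_1 lc_e_rc_18_1 lc_e_Cert_tree lc_e_rc_13_1 lc_e_rc_16_1 lc_e_Cert_tree lc_e_rc_18_1 lc_e_rc_18_1 lc_e_Cert_tree lc_e_rc_18_1 lc_e_rc_13_1 lc_e_rc_18_1 lc_e_rc_9_1 lc_e_rc_18_1 lc_e_rc_18_1 lc_e_rc_18_1 lc_e_rc_18_1 lc_e_rc_27_5 lc_e_rc_13_1 lc_e_rc_27_5 lc_e_rc_13_3 lc_e_rc_18_1 lc_e_rc_18_1 lc_e_rc_16_1 lc_e_rc_4_3 lc_e_rc_13_3 lc_e_rc_4_3 lc_e_rc_27_5 lc_e_rc_16_3 lc_e_rc_27_7 lc_e_rc_18_1) (@D3.rec (fun _ => (Cert rels S Gen.e)) lc_e_rc_27_1 lc_e_rc_16_5 lc_e_rc_16_5 lc_e_rc_4_3 lc_e_rc_16_3 lc_e_rc_18_1 lc_e_rc_9_3 lc_e_rc_18_1 lc_e_rc_27_1 lc_e_rc_18_1 lc_e_rc_16_3 lc_e_rc_13_3 lc_e_rc_19_2 lc_e_rc_18_1 lc_e_rc_9_3 lc_e_Cert_tree lc_e_rc_4_1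 lc_e_rc_13_3 lc_e_rc_18_1 lc_e_rc_13_1 lc_e_rc_18_1 lc_e_rc_16_5 lc_e_rc_13_1 lc_e_rc_18_1 lc_e_rc_18_1 lc_e_rc_9_1 lc_e_rc_18_1 lc_e_rc_18_1 lc_e_rc_9_3 lc_e_rc_16_1 lc_e_rc_4_3 lc_e_rc_9_3 lc_e_rc_13_3 lc_e_rc_27_1 lc_e_rc_13_3 lc_e_rc_9_1 lc_e_rc_27_7 lc_e_rc_18_1 lc_e_rc_16_1 lc_e_rc_13_3 lc_e_rc_4_3 lc_e_rc_16_5 lc_e_rc_16_5 lc_e_rc_13_3 lc_e_rc_18_1 lc_e_rc_16_1 lc_e_rc_4_3 lc_e_rc_27_5 lc_e_rc_13_3 lc_e_rc_27_7 lc_e_rc_18_1 lc_e_rc_9_1 lc_e_rc_13_1 lc_e_rc_4_3 lc_e_rc_18_1 lc_e_rc_18_1 lc_e_Cert_tree lc_e_rc_16_1 lc_e_rc_9_3 lc_e_rc_16_5 lc_e_rc_16_5 lc_e_rc_19_4) (@D3.rec (fun _ => (Cert rels S Gen.e)) lc_e_rc_16_5 lc_e_rc_13_3 lc_e_rc_4_3 lc_e_rc_27_5 lc_e_rc_13_3 lc_e_rc_27_1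 lc_e_rc_9_3 lc_e_rc_16_5 lc_e_rc_4_3 lc_e_rc_9_3 lc_e_rc_27_1 lc_e_rc_9_3 lc_e_rc_16_3 lc_e_rc_18_1 lc_e_rc_18_1 lc_e_rc_13_1 lc_e_rc_18_1 lc_e_rc_9_3 lc_e_rc_27_7 lc_e_rc_27_7 lc_e_rc_18_1 lc_e_rc_13_3 lc_e_rc_4_3 lc_e_rc_18_1 lc_e_rc_13_3 lc_e_rc_13_3 lc_e_rc_13_3 lc_e_rc_27_7 lc_e_rc_27_5 lc_e_Cert_tree lc_e_rc_27_5 lc_e_rc_18_1 lc_e_rc_16_5 lc_e_rc_13_1 lc_e_rc_13_1 lc_e_rc_18_1 lc_e_rc_27_7 lc_e_rc_19_0 lc_e_rc_16_1 lc_e_rc_27_5 lc_e_rc_13_3 lc_e_rc_27_1 lc_e_rc_18_1 lc_e_rc_16_3 lc_e_rc_13_3 lc_e_rc_18_1 lc_e_rc_13_3 lc_e_rc_4_3 lc_e_rc_18_1 lc_e_rc_16_1 lc_e_rc_13_3 lc_e_rc_9_1 lc_e_Cert_tree lc_e_rc_18_1 lc_e_rc_13_3 lc_e_Cert_tree lc_e_rc_18_1 lc_e_rc_9_1 lc_e_Cert_tree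 lc_e_rc_13_3 lc_e_rc_4_3 lc_e_rc_18_1) (@D3.rec (fun _ => (Cert rels S Gen.e)) lc_e_rc_18_1 lc_e_rc_27_5 lc_e_rc_27_1 lc_e_rc_19_4 lc_e_rc_13_1 lc_e_rc_18_1 lc_e_rc_19_2 lc_e_rc_27_5 lc_e_rc_18_1 lc_e_rc_18_1 lc_e_rc_27_7 lc_e_rc_27_5 lc_e_Cert_tree lc_e_Cert_tree lc_e_rc_18_1 lc_e_rc_18_1 lc_e_rc_9_3 lc_e_rc_16_5 lc_e_rc_18_1 lc_e_rc_18_1 lc_e_rc_18_1 lc_e_rc_18_1 lc_e_rc_13_3 lc_e_Cert_tree lc_e_rc_19_2 lc_e_rc_13_1 lc_e_rc_18_1 lc_e_Cert_tree lc_e_Cert_tree lc_e_rc_18_1 lc_e_rc_27_5 lc_e_rc_13_3 lc_e_rc_18_1 lc_e_rc_4_3 lc_e_rc_9_3 lc_e_rc_9_1 lc_e_rc_9_3 lc_e_Cert_tree lc_e_rc_16_3 lc_e_Cert_tree lc_e_rc_18_1 lc_e_rc_13_3 lc_e_rc_27_7 lc_e_rc_13_1 lc_e_rc_13_1 lc_e_rc_13_3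 lc_e_rc_16_3 lc_e_rc_13_1 lc_e_rc_4_3 lc_e_rc_16_3 lc_e_rc_18_1 lc_e_rc_19_2 lc_e_rc_9_1 lc_e_rc_18_1 lc_e_rc_18_1 lc_e_rc_16_5 lc_e_rc_9_1 lc_e_rc_4_3 lc_e_rc_19_2 lc_e_Cert_tree lc_e_rc_27_1 lc_e_rc_27_1) (@D3.rec (fun _ => (Cert rels S Gen.e)) lc_e_rc_18_1 lc_e_rc_9_3 lc_e_rc_27_5 lc_e_rc_18_1 lc_e_rc_16_1 lc_e_rc_18_1 lc_e_rc_13_3 lc_e_rc_9_3 lc_e_rc_13_1 lc_e_rc_4_1 lc_e_rc_13_3 lc_e_Cert_tree lc_e_rc_13_1 lc_e_rc_18_1 lc_e_rc_18_1 lc_e_rc_13_3 lc_e_rc_4_3 lc_e_rc_18_1 lc_e_rc_19_2 lc_e_rc_4_1 lc_e_rc_19_0 lc_e_rc_18_1 lc_e_rc_18_1 lc_e_rc_9_1 lc_e_Cert_tree lc_e_rc_19_4 lc_e_rc_13_1 lc_e_rc_18_1 lc_e_Cert_tree lc_e_Cert_tree lc_e_rc_18_1 lc_e_rc_16_5 lc_e_rc_18_1 lc_e_rc_13_3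 lc_e_rc_4_3 lc_e_rc_27_7 lc_e_rc_27_5 lc_e_rc_4_3 lc_e_rc_16_3 lc_e_Cert_tree lc_e_rc_18_1 lc_e_rc_13_3 lc_e_rc_9_3 lc_e_rc_16_3 lc_e_Cert_tree lc_e_rc_18_1 lc_e_rc_18_1 lc_e_rc_4_3 lc_e_rc_13_3 lc_e_rc_27_1 lc_e_rc_13_3 lc_e_rc_4_3 lc_e_rc_13_3 lc_e_rc_18_1 lc_e_rc_27_5 lc_e_rc_18_1 lc_e_Cert_tree lc_e_rc_18_1 lc_e_rc_27_7 lc_e_rc_16_1 lc_e_rc_27_5 lc_e_rc_9_3) (@D3.rec (fun _ => (Cert rels S Gen.e)) lc_e_rc_27_7 lc_e_rc_18_1 lc_e_rc_18_1 lc_e_rc_4_3 lc_e_rc_13_1 lc_e_rc_16_3 lc_e_rc_16_5 lc_e_rc_27_1 lc_e_rc_18_1 lc_e_rc_18_1 lc_e_rc_18_1 lc_e_rc_27_5 lc_e_rc_18_1 lc_e_Cert_tree lc_e_rc_18_1 lc_e_rc_19_0 lc_e_rc_27_7 lc_e_rc_18_1 lc_e_rc_13_1 lc_e_rc_27_1 lc_e_rc_27_7 lc_e_rc_18_1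 lc_e_rc_19_0 lc_e_rc_13_1 lc_e_rc_9_3 lc_e_rc_9_1 lc_e_rc_9_3 lc_e_rc_27_7 lc_e_rc_4_3 lc_e_rc_19_0 lc_e_rc_13_1 lc_e_rc_4_3 lc_e_rc_13_3 lc_e_rc_16_3 lc_e_rc_18_1 lc_e_rc_16_1 lc_e_rc_16_3 lc_e_rc_16_1 lc_e_rc_19_2 lc_e_rc_13_3 lc_e_rc_13_3 lc_e_rc_4_1 lc_e_rc_18_1 lc_e_rc_16_1 lc_e_rc_18_1 lc_e_rc_18_1 lc_e_rc_9_1 lc_e_rc_18_1 lc_e_rc_18_1 lc_e_rc_18_1 lc_e_rc_16_1 lc_e_rc_16_1 lc_e_rc_19_2 lc_e_rc_13_3 lc_e_rc_18_1 lc_e_rc_9_3 lc_e_rc_13_3 lc_e_Cert_tree lc_e_rc_13_3 lc_e_rc_18_1 lc_e_rc_18_1 lc_e_rc_16_5) (@D3.rec (fun _ => (Cert rels S Gen.e)) lc_e_rc_19_2 lc_e_rc_18_1 lc_e_Cert_tree lc_e_rc_18_1 lc_e_rc_18_1 lc_e_rc_18_1 lc_e_rc_16_1 lc_e_rc_9_3 lc_e_rc_4_1 lc_e_Cert_tree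 lc_e_rc_13_3 lc_e_rc_19_2 lc_e_rc_18_1 lc_e_rc_18_1 lc_e_rc_13_3 lc_e_rc_19_4 lc_e_rc_27_7 lc_e_Cert_tree lc_e_Cert_tree lc_e_rc_18_1 lc_e_Cert_tree lc_e_rc_9_3 lc_e_rc_18_1 lc_e_rc_27_7 lc_e_rc_18_1 lc_e_rc_16_5 lc_e_rc_27_7 lc_e_rc_9_3 lc_e_rc_19_4 lc_e_Cert_tree lc_e_rc_18_1 lc_e_rc_4_3 lc_e_rc_13_1 lc_e_rc_13_3 lc_e_rc_13_1 lc_e_rc_18_1 lc_e_rc_9_1 lc_e_Cert_tree lc_e_Cert_tree lc_e_Cert_tree lc_e_rc_27_1 lc_e_Cert_tree lc_e_rc_18_1 lc_e_rc_13_3 lc_e_rc_9_1 lc_e_rc_19_2 lc_e_Cert_tree lc_e_rc_16_5 lc_e_rc_18_1 lc_e_rc_27_5 lc_e_rc_13_3 lc_e_rc_13_3 lc_e_rc_16_5 lc_e_rc_4_3 lc_e_rc_9_1 lc_e_rc_18_1 lc_e_rc_27_1 lc_e_rc_27_7 lc_e_rc_18_1 lc_e_rc_27_7 lc_e_rc_27_7 lc_e_rc_18_1)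 (@D3.rec (fun _ => (Cert rels S Gen.e)) lc_e_rc_9_1 lc_e_rc_27_1 lc_e_rc_16_5 lc_e_rc_13_3 lc_e_rc_19_0 lc_e_rc_27_5 lc_e_rc_4_3 lc_e_rc_27_5 lc_e_rc_9_1 lc_e_rc_9_3 lc_e_rc_9_1 lc_e_Cert_tree lc_e_rc_18_1 lc_e_rc_9_3 lc_e_rc_16_5 lc_e_rc_27_5 lc_e_rc_9_3 lc_e_Cert_tree lc_e_rc_18_1 lc_e_rc_27_1 lc_e_rc_18_1 lc_e_rc_13_3 lc_e_rc_16_5 lc_e_rc_13_1 lc_e_rc_9_3 lc_e_rc_4_3 lc_e_rc_9_3 lc_e_rc_13_3 lc_e_rc_9_1 lc_e_rc_16_5 lc_e_rc_9_3 lc_e_rc_4_3 lc_e_rc_18_1 lc_e_rc_13_3 lc_e_rc_9_3 lc_e_rc_18_1 lc_e_rc_27_1 lc_e_rc_4_3 lc_e_Cert_tree lc_e_rc_4_3 lc_e_rc_16_3 lc_e_rc_18_1 lc_e_rc_27_5 lc_e_rc_19_4 lc_e_rc_27_1 lc_e_rc_4_1 lc_e_rc_18_1 lc_e_rc_18_1 lc_e_rc_27_5 lc_e_rc_19_4 lc_e_rc_27_5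 lc_e_rc_18_1 lc_e_rc_18_1 lc_e_Cert_tree lc_e_rc_18_1 lc_e_rc_4_1 lc_e_rc_16_5 lc_e_rc_27_1 lc_e_rc_13_3 lc_e_rc_27_5 lc_e_rc_27_5 lc_e_rc_27_5) (@D3.rec (fun _ => (Cert rels S Gen.e)) lc_e_rc_18_1 lc_e_rc_16_5 lc_e_rc_13_3 lc_e_rc_18_1 lc_e_Cert_tree lc_e_rc_16_5 lc_e_rc_13_1 lc_e_Cert_tree lc_e_rc_18_1 lc_e_rc_18_1 lc_e_rc_4_1 lc_e_rc_16_1 lc_e_rc_13_3 lc_e_Cert_tree lc_e_rc_18_1 lc_e_rc_18_1 lc_e_rc_27_5 lc_e_Cert_tree lc_e_Cert_tree lc_e_rc_18_1 lc_e_rc_27_1 lc_e_rc_19_2 lc_e_rc_18_1 lc_e_rc_18_1 lc_e_rc_27_7 lc_e_rc_16_5 lc_e_rc_27_1 lc_e_rc_18_1 lc_e_rc_16_5 lc_e_rc_4_3 lc_e_Cert_tree lc_e_rc_9_1 lc_e_rc_18_1 lc_e_rc_27_5 lc_e_Cert_tree lc_e_rc_13_3 lc_e_rc_9_3 lc_e_rc_19_2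 lc_e_rc_9_3 lc_e_rc_16_5 lc_e_rc_16_1 lc_e_rc_27_7 lc_e_rc_27_7 lc_e_rc_27_7 lc_e_rc_18_1 lc_e_rc_16_5 lc_e_rc_16_3 lc_e_rc_16_3 lc_e_rc_16_1 lc_e_rc_18_1 lc_e_rc_13_3 lc_e_Cert_tree lc_e_rc_4_1 lc_e_rc_18_1 lc_e_rc_18_1 lc_e_rc_9_3 lc_e_rc_27_5 lc_e_rc_9_3 lc_e_rc_13_3 lc_e_rc_9_3 lc_e_rc_27_1 lc_e_rc_27_5) (@D3.rec (fun _ => (Cert rels S Gen.e)) lc_e_rc_9_1 lc_e_rc_13_3 lc_e_rc_19_4 lc_e_rc_18_1 lc_e_rc_18_1 lc_e_rc_18_1 lc_e_rc_4_1 lc_e_rc_18_1 lc_e_rc_27_1 lc_e_rc_9_3 lc_e_rc_19_2 lc_e_rc_27_5 lc_e_rc_27_5 lc_e_rc_27_1 lc_e_rc_19_0 lc_e_rc_27_7 lc_e_rc_18_1 lc_e_rc_18_1 lc_e_rc_18_1 lc_e_Cert_tree lc_e_rc_9_1 lc_e_rc_18_1 lc_e_rc_27_5 lc_e_rc_9_3 lc_e_rc_16_1 lc_e_rc_19_2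 lc_e_rc_9_3 lc_e_rc_9_1 lc_e_Cert_tree lc_e_rc_18_1 lc_e_rc_16_5 lc_e_rc_27_1 lc_e_rc_18_1 lc_e_rc_13_1 lc_e_rc_18_1 lc_e_rc_18_1 lc_e_rc_18_1 lc_e_rc_9_3 lc_e_rc_27_1 lc_e_Cert_tree lc_e_rc_18_1 lc_e_rc_27_7 lc_e_rc_18_1 lc_e_rc_18_1 lc_e_rc_18_1 lc_e_rc_13_3 lc_e_rc_27_5 lc_e_rc_13_1 lc_e_rc_4_1 lc_e_rc_16_5 lc_e_rc_16_3 lc_e_rc_18_1 lc_e_rc_4_1 lc_e_rc_19_0 lc_e_rc_18_1 lc_e_rc_27_5 lc_e_rc_19_2 lc_e_rc_27_7 lc_e_rc_13_3 lc_e_rc_18_1 lc_e_Cert_tree lc_e_rc_27_1) (@D3.rec (fun _ => (Cert rels S Gen.e)) lc_e_rc_18_1 lc_e_rc_13_3 lc_e_rc_9_3 lc_e_rc_27_5 lc_e_rc_18_1 lc_e_rc_18_1 lc_e_rc_19_2 lc_e_rc_13_1 lc_e_rc_16_3 lc_e_rc_13_1 lc_e_rc_9_3 lc_e_rc_9_3 lc_e_rc_18_1 lc_e_rc_9_1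 lc_e_rc_4_3 lc_e_rc_4_3 lc_e_rc_16_1 lc_e_rc_9_3 lc_e_rc_18_1 lc_e_rc_16_3 lc_e_rc_27_7 lc_e_rc_9_3 lc_e_rc_16_1 lc_e_rc_16_3 lc_e_rc_13_3 lc_e_rc_27_5 lc_e_rc_13_3 lc_e_rc_4_3 lc_e_rc_13_3 lc_e_rc_19_4 lc_e_rc_4_3 lc_e_rc_18_1 lc_e_rc_4_3 lc_e_rc_18_1 lc_e_rc_9_3 lc_e_rc_27_1 lc_e_rc_18_1 lc_e_rc_18_1 lc_e_rc_13_3 lc_e_rc_13_3 lc_e_Cert_tree lc_e_rc_27_5 lc_e_rc_13_3 lc_e_rc_9_3 lc_e_rc_9_3 lc_e_Cert_tree lc_e_rc_27_7 lc_e_rc_4_1 lc_e_rc_27_5 lc_e_Cert_tree lc_e_Cert_tree lc_e_rc_18_1 lc_e_rc_27_1 lc_e_rc_18_1 lc_e_rc_16_1 lc_e_rc_27_5 lc_e_rc_18_1 lc_e_Cert_tree lc_e_rc_9_3 lc_e_Cert_tree lc_e_rc_18_1 lc_e_rc_16_5) (@D3.rec (fun _ => (Cert rels S Gen.e)) lc_e_rc_9_3 lc_e_rc_19_2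 lc_e_rc_13_3 lc_e_rc_27_5 lc_e_rc_27_7 lc_e_rc_18_1 lc_e_rc_18_1 lc_e_rc_27_1 lc_e_rc_19_4 lc_e_rc_4_3 lc_e_rc_9_1 lc_e_rc_9_3 lc_e_rc_18_1 lc_e_Cert_tree lc_e_rc_18_1 lc_e_rc_27_1 lc_e_rc_18_1 lc_e_rc_19_4 lc_e_rc_4_3 lc_e_rc_18_1 lc_e_rc_9_3 lc_e_rc_9_3 lc_e_Cert_tree lc_e_rc_18_1 lc_e_rc_18_1 lc_e_rc_18_1 lc_e_rc_19_4 lc_e_rc_16_1 lc_e_rc_13_3 lc_e_rc_13_3 lc_e_rc_13_3 lc_e_Cert_tree lc_e_Cert_tree lc_e_rc_13_3 lc_e_rc_16_3 lc_e_rc_13_3 lc_e_rc_4_3 lc_e_rc_19_2 lc_e_rc_16_1 lc_e_rc_19_4 lc_e_rc_9_3 lc_e_rc_19_4 lc_e_rc_18_1 lc_e_rc_13_3 lc_e_rc_4_1 lc_e_rc_27_1 lc_e_rc_16_1 lc_e_rc_13_1 lc_e_rc_13_3 lc_e_rc_27_7 lc_e_rc_13_3 lc_e_rc_19_4 lc_e_rc_18_1 lc_e_rc_18_1 lc_e_rc_13_1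 lc_e_rc_18_1 lc_e_Cert_tree lc_e_rc_27_5 lc_e_rc_18_1 lc_e_rc_27_7 lc_e_rc_16_3 lc_e_Cert_tree) (@D3.rec (fun _ => (Cert rels S Gen.e)) lc_e_rc_18_1 lc_e_Cert_tree lc_e_Cert_tree lc_e_rc_18_1 lc_e_rc_9_3 lc_e_rc_16_3 lc_e_Cert_tree lc_e_rc_18_1 lc_e_rc_18_1 lc_e_rc_27_5 lc_e_rc_16_5 lc_e_rc_9_3 lc_e_Cert_tree lc_e_rc_16_3 lc_e_Cert_tree lc_e_Cert_tree lc_e_rc_18_1 lc_e_Cert_tree lc_e_Cert_tree lc_e_Cert_tree lc_e_rc_18_1 lc_e_rc_13_3 lc_e_Cert_tree lc_e_rc_27_1 lc_e_rc_18_1 lc_e_rc_27_1 lc_e_rc_27_5 lc_e_Cert_tree lc_e_rc_18_1 lc_e_rc_18_1 lc_e_rc_27_5 lc_e_rc_16_1 lc_e_rc_19_4 lc_e_rc_27_5 lc_e_rc_27_7 lc_e_rc_16_3 lc_e_rc_13_1 lc_e_rc_18_1 lc_e_rc_16_5 lc_e_rc_16_5 lc_e_Cert_tree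 lc_e_Cert_tree lc_e_rc_18_1 lc_e_rc_19_4 lc_e_rc_16_1 lc_e_rc_18_1 lc_e_rc_18_1 lc_e_rc_27_5 lc_e_Cert_tree lc_e_rc_16_3 lc_e_rc_18_1 lc_e_Cert_tree lc_e_rc_18_1 lc_e_rc_9_3 lc_e_Cert_tree lc_e_rc_27_5 lc_e_rc_4_3 lc_e_Cert_tree lc_e_Cert_tree lc_e_rc_18_1 lc_e_rc_18_1 lc_e_rc_13_3) (@D3.rec (fun _ => (Cert rels S Gen.e)) lc_e_Cert_tree lc_e_rc_18_1 lc_e_Cert_tree lc_e_rc_27_1 lc_e_rc_18_1 lc_e_rc_16_3 lc_e_rc_27_7 lc_e_Cert_tree lc_e_rc_18_1 lc_e_Cert_tree lc_e_Cert_tree lc_e_rc_18_1 lc_e_rc_18_1 lc_e_rc_27_7 lc_e_rc_18_1 lc_e_Cert_tree lc_e_rc_18_1 lc_e_rc_27_5 lc_e_Cert_tree lc_e_rc_16_1 lc_e_rc_16_5 lc_e_rc_9_3 lc_e_rc_9_3 lc_e_rc_4_1 lc_e_Cert_tree lc_e_rc_19_4 lc_e_rc_18_1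 lc_e_rc_18_1 lc_e_rc_9_3 lc_e_Cert_tree lc_e_rc_18_1 lc_e_rc_16_1 lc_e_rc_18_1 lc_e_rc_16_1 lc_e_rc_13_1 lc_e_rc_18_1 lc_e_rc_18_1 lc_e_rc_9_3 lc_e_rc_27_5 lc_e_rc_9_3 lc_e_rc_4_3 lc_e_rc_18_1 lc_e_rc_13_3 lc_e_rc_13_1 lc_e_rc_19_4 lc_e_rc_9_3 lc_e_rc_18_1 lc_e_rc_19_2 lc_e_rc_9_3 lc_e_rc_27_5 lc_e_rc_4_3 lc_e_rc_16_5 lc_e_rc_18_1 lc_e_rc_16_3 lc_e_rc_27_7 lc_e_rc_19_4 lc_e_rc_16_5 lc_e_rc_18_1 lc_e_rc_19_2 lc_e_rc_9_3 lc_e_Cert_tree lc_e_rc_27_5) (@D3.rec (fun _ => (Cert rels S Gen.e)) lc_e_rc_13_3 lc_e_rc_19_2 lc_e_rc_18_1 lc_e_rc_18_1 lc_e_rc_13_1 lc_e_rc_13_3 lc_e_Cert_tree lc_e_rc_19_4 lc_e_rc_13_3 lc_e_rc_9_3 lc_e_rc_13_1 lc_e_rc_18_1 lc_e_rc_13_3 lc_e_rc_18_1 lc_e_rc_16_3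 lc_e_rc_19_4 lc_e_rc_27_1 lc_e_rc_13_1 lc_e_rc_27_1 lc_e_rc_27_5 lc_e_rc_18_1 lc_e_rc_13_1 lc_e_rc_18_1 lc_e_rc_16_5 lc_e_rc_9_3 lc_e_rc_18_1 lc_e_rc_9_3 lc_e_rc_18_1 lc_e_rc_13_1 lc_e_rc_18_1 lc_e_rc_27_5 lc_e_rc_13_3 lc_e_rc_9_3 lc_e_rc_18_1 lc_e_rc_13_3 lc_e_rc_13_3 lc_e_rc_9_3 lc_e_rc_18_1 lc_e_Cert_tree lc_e_rc_27_1 lc_e_rc_16_3 lc_e_rc_19_4 lc_e_rc_9_1 lc_e_Cert_tree lc_e_rc_16_3 lc_e_rc_18_1 lc_e_rc_13_3 lc_e_rc_9_3 lc_e_rc_9_3 lc_e_rc_19_0 lc_e_rc_19_4 lc_e_rc_18_1 lc_e_rc_16_3 lc_e_rc_9_1 lc_e_rc_9_3 lc_e_rc_18_1 lc_e_rc_16_1 lc_e_rc_4_3 lc_e_Cert_tree lc_e_rc_18_1 lc_e_Cert_tree lc_e_Cert_tree) (@D3.rec (fun _ => (Cert rels S Gen.e)) lc_e_rc_18_1 lc_e_Cert_tree lc_e_rc_27_7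 lc_e_rc_16_5 lc_e_rc_13_3 lc_e_rc_18_1 lc_e_rc_9_3 lc_e_rc_4_3 lc_e_rc_13_3 lc_e_Cert_tree lc_e_rc_13_3 lc_e_rc_9_1 lc_e_rc_13_1 lc_e_rc_19_4 lc_e_rc_9_3 lc_e_Cert_tree lc_e_rc_4_3 lc_e_rc_16_3 lc_e_rc_13_3 lc_e_rc_13_3 lc_e_rc_19_2 lc_e_Cert_tree lc_e_rc_13_3 lc_e_Cert_tree lc_e_rc_16_5 lc_e_rc_18_1 lc_e_rc_16_1 lc_e_rc_18_1 lc_e_rc_13_3 lc_e_rc_18_1 lc_e_Cert_tree lc_e_rc_4_3 lc_e_rc_18_1 lc_e_rc_13_1 lc_e_Cert_tree lc_e_rc_9_1 lc_e_rc_13_3 lc_e_rc_16_3 lc_e_Cert_tree lc_e_rc_16_3 lc_e_rc_18_1 lc_e_rc_19_4 lc_e_rc_18_1 lc_e_Cert_tree lc_e_rc_4_3 lc_e_rc_18_1 lc_e_rc_19_4 lc_e_rc_18_1 lc_e_rc_19_4 lc_e_rc_16_3 lc_e_rc_9_3 lc_e_rc_13_3 lc_e_rc_16_5 lc_e_rc_18_1 lc_e_rc_19_2 lc_e_rc_13_3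 lc_e_rc_16_1 lc_e_Cert_tree lc_e_Cert_tree lc_e_rc_18_1 lc_e_rc_4_3 lc_e_rc_18_1) (@D3.rec (fun _ => (Cert rels S Gen.e)) lc_e_rc_18_1 lc_e_rc_18_1 lc_e_rc_27_1 lc_e_rc_27_1 lc_e_rc_19_4 lc_e_rc_18_1 lc_e_rc_18_1 lc_e_rc_18_1 lc_e_rc_16_5 lc_e_rc_16_1 lc_e_rc_19_4 lc_e_rc_13_1 lc_e_rc_18_1 lc_e_rc_27_5 lc_e_rc_18_1 lc_e_rc_16_5 lc_e_rc_18_1 lc_e_rc_18_1 lc_e_rc_13_3 lc_e_rc_18_1 lc_e_rc_16_5 lc_e_rc_27_5 lc_e_rc_16_3 lc_e_rc_18_1 lc_e_rc_27_5 lc_e_rc_18_1 lc_e_rc_13_3 lc_e_rc_16_3 lc_e_rc_18_1 lc_e_rc_18_1 lc_e_rc_18_1 lc_e_rc_18_1 lc_e_Cert_tree lc_e_rc_13_1 lc_e_rc_18_1 lc_e_rc_18_1 lc_e_rc_16_3 lc_e_rc_18_1 lc_e_rc_18_1 lc_e_rc_16_3 lc_e_rc_19_4 lc_e_rc_18_1 lc_e_rc_18_1 lc_e_rc_16_1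 lc_e_rc_18_1 lc_e_rc_16_1 lc_e_rc_16_3 lc_e_rc_9_3 lc_e_rc_27_5 lc_e_rc_4_1 lc_e_rc_27_1 lc_e_rc_16_3 lc_e_rc_18_1 lc_e_rc_13_3 lc_e_rc_9_3 lc_e_rc_16_1 lc_e_rc_18_1 lc_e_rc_18_1 lc_e_rc_9_3 lc_e_rc_4_3 lc_e_rc_4_1 lc_e_rc_16_3) (@D3.rec (fun _ => (Cert rels S Gen.e)) lc_e_rc_19_2 lc_e_rc_9_3 lc_e_Cert_tree lc_e_rc_18_1 lc_e_rc_13_3 lc_e_rc_4_3 lc_e_Cert_tree lc_e_rc_18_1 lc_e_rc_27_7 lc_e_rc_27_5 lc_e_rc_18_1 lc_e_rc_27_5 lc_e_rc_27_5 lc_e_rc_13_3 lc_e_rc_13_3 lc_e_rc_13_3 lc_e_Cert_tree lc_e_rc_18_1 lc_e_rc_18_1 lc_e_rc_13_3 lc_e_rc_19_0 lc_e_rc_19_0 lc_e_rc_27_5 lc_e_rc_13_1 lc_e_rc_18_1 lc_e_rc_16_3 lc_e_rc_16_5 lc_e_rc_18_1 lc_e_rc_13_3 lc_e_Cert_tree lc_e_rc_19_4 lc_e_rc_9_1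 lc_e_rc_4_3 lc_e_rc_16_1 lc_e_rc_18_1 lc_e_rc_16_1 lc_e_rc_27_5 lc_e_rc_27_7 lc_e_rc_9_3 lc_e_rc_16_5 lc_e_rc_18_1 lc_e_rc_19_4 lc_e_rc_16_5 lc_e_rc_27_5 lc_e_rc_18_1 lc_e_rc_18_1 lc_e_rc_19_4 lc_e_rc_27_5 lc_e_rc_27_5 lc_e_rc_18_1 lc_e_rc_13_3 lc_e_rc_18_1 lc_e_rc_27_5 lc_e_rc_19_4 lc_e_rc_9_1 lc_e_Cert_tree lc_e_rc_4_3 lc_e_Cert_tree lc_e_rc_18_1 lc_e_rc_9_3 lc_e_rc_9_3 lc_e_rc_19_2) (@D3.rec (fun _ => (Cert rels S Gen.e)) lc_e_rc_9_1 lc_e_Cert_tree lc_e_rc_18_1 lc_e_Cert_tree lc_e_rc_18_1 lc_e_Cert_tree lc_e_rc_18_1 lc_e_rc_16_1 lc_e_rc_18_1 lc_e_Cert_tree lc_e_rc_4_3 lc_e_rc_18_1 lc_e_rc_16_1 lc_e_Cert_tree lc_e_rc_18_1 lc_e_Cert_tree lc_e_rc_13_1 lc_e_rc_18_1 lc_e_Cert_tree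 lc_e_rc_18_1 lc_e_rc_9_1 lc_e_rc_16_3 lc_e_rc_13_3 lc_e_rc_16_3 lc_e_Cert_tree lc_e_rc_16_3 lc_e_Cert_tree lc_e_rc_18_1 lc_e_rc_19_4 lc_e_rc_4_3 lc_e_rc_9_3 lc_e_Cert_tree lc_e_Cert_tree lc_e_rc_18_1 lc_e_rc_19_4 lc_e_rc_18_1 lc_e_rc_16_5 lc_e_rc_9_1 lc_e_rc_18_1 lc_e_rc_27_1 lc_e_rc_16_5 lc_e_rc_4_3 lc_e_rc_18_1 lc_e_Cert_tree lc_e_Cert_tree lc_e_rc_18_1 lc_e_Cert_tree lc_e_rc_18_1 lc_e_rc_27_1 lc_e_rc_19_0 lc_e_rc_18_1 lc_e_rc_18_1 lc_e_rc_16_3 lc_e_rc_16_3 lc_e_rc_18_1 lc_e_rc_18_1 lc_e_rc_9_1 lc_e_rc_9_3 lc_e_rc_16_3 lc_e_rc_4_3 lc_e_rc_18_1 lc_e_Cert_tree) (@D3.rec (fun _ => (Cert rels S Gen.e)) lc_e_rc_27_5 lc_e_rc_27_1 lc_e_rc_16_3 lc_e_rc_19_0 lc_e_rc_18_1 lc_e_rc_9_3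 lc_e_rc_4_3 lc_e_rc_18_1 lc_e_rc_13_3 lc_e_rc_18_1 lc_e_rc_16_1 lc_e_rc_27_5 lc_e_rc_18_1 lc_e_Cert_tree lc_e_Cert_tree lc_e_rc_18_1 lc_e_rc_9_3 lc_e_rc_16_1 lc_e_rc_27_7 lc_e_rc_18_1 lc_e_rc_4_3 lc_e_rc_18_1 lc_e_rc_18_1 lc_e_rc_18_1 lc_e_Cert_tree lc_e_rc_18_1 lc_e_rc_18_1 lc_e_rc_13_1 lc_e_rc_18_1 lc_e_rc_9_3 lc_e_rc_13_1 lc_e_rc_18_1 lc_e_rc_19_0 lc_e_Cert_tree lc_e_Cert_tree lc_e_rc_4_3 lc_e_Cert_tree lc_e_rc_18_1 lc_e_rc_18_1 lc_e_rc_18_1 lc_e_rc_27_1 lc_e_rc_19_4 lc_e_rc_13_3 lc_e_rc_18_1 lc_e_Cert_tree lc_e_rc_16_1 lc_e_rc_19_4 lc_e_rc_18_1 lc_e_Cert_tree lc_e_rc_18_1 lc_e_rc_13_3 lc_e_rc_27_5 lc_e_rc_18_1 lc_e_rc_19_4 lc_e_rc_9_1 lc_e_rc_18_1 lc_e_rc_16_5 lc_e_rc_9_3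 lc_e_rc_18_1 lc_e_rc_9_3 lc_e_Cert_tree lc_e_rc_4_3) (@D3.rec (fun _ => (Cert rels S Gen.e)) lc_e_rc_13_3 lc_e_rc_18_1 lc_e_rc_18_1 lc_e_Cert_tree lc_e_rc_9_1 lc_e_rc_18_1 lc_e_rc_13_3 lc_e_rc_27_1 lc_e_rc_16_3 lc_e_rc_18_1 lc_e_rc_16_1 lc_e_rc_19_4 lc_e_rc_13_3 lc_e_rc_18_1 lc_e_rc_27_5 lc_e_rc_13_3 lc_e_Cert_tree lc_e_rc_16_5 lc_e_rc_13_3 lc_e_rc_19_4 lc_e_rc_9_1 lc_e_rc_9_3 lc_e_rc_4_3 lc_e_rc_4_1 lc_e_Cert_tree lc_e_rc_4_1 lc_e_rc_18_1 lc_e_rc_16_3 lc_e_rc_4_1 lc_e_rc_18_1 lc_e_rc_16_1 lc_e_rc_13_3 lc_e_Cert_tree lc_e_rc_18_1 lc_e_Cert_tree lc_e_rc_4_3 lc_e_rc_18_1 lc_e_Cert_tree lc_e_rc_13_3 lc_e_rc_9_3 lc_e_rc_9_1 lc_e_rc_19_2 lc_e_rc_18_1 lc_e_rc_18_1 lc_e_rc_4_3 lc_e_rc_18_1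 lc_e_Cert_tree lc_e_rc_18_1 lc_e_rc_9_3 lc_e_rc_16_1 lc_e_rc_18_1 lc_e_rc_27_5 lc_e_rc_27_1 lc_e_rc_16_3 lc_e_rc_19_2 lc_e_rc_18_1 lc_e_Cert_tree lc_e_rc_16_3 lc_e_rc_18_1 lc_e_rc_27_5 lc_e_rc_13_3 lc_e_rc_18_1) (@D3.rec (fun _ => (Cert rels S Gen.e)) lc_e_rc_19_4 lc_e_rc_9_3 lc_e_rc_16_3 lc_e_rc_18_1 lc_e_rc_13_3 lc_e_rc_19_4 lc_e_rc_18_1 lc_e_Cert_tree lc_e_rc_18_1 lc_e_rc_9_3 lc_e_rc_18_1 lc_e_rc_4_3 lc_e_rc_9_1 lc_e_rc_18_1 lc_e_rc_13_3 lc_e_rc_13_3 lc_e_rc_18_1 lc_e_rc_19_4 lc_e_rc_4_3 lc_e_rc_9_3 lc_e_rc_19_4 lc_e_rc_13_3 lc_e_rc_18_1 lc_e_rc_16_3 lc_e_rc_9_3 lc_e_rc_16_3 lc_e_rc_16_3 lc_e_rc_18_1 lc_e_rc_19_4 lc_e_rc_18_1 lc_e_rc_18_1 lc_e_rc_13_3 lc_e_rc_4_3 lc_e_rc_13_3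 lc_e_rc_16_3 lc_e_rc_9_1 lc_e_rc_18_1 lc_e_rc_16_5 lc_e_rc_18_1 lc_e_rc_16_1 lc_e_rc_18_1 lc_e_rc_18_1 lc_e_rc_27_5 lc_e_rc_27_1 lc_e_rc_18_1 lc_e_Cert_tree lc_e_rc_9_3 lc_e_rc_18_1 lc_e_rc_18_1 lc_e_rc_13_1 lc_e_Cert_tree lc_e_rc_18_1 lc_e_rc_27_7 lc_e_rc_18_1 lc_e_Cert_tree lc_e_rc_18_1 lc_e_rc_9_3 lc_e_rc_16_3 lc_e_rc_19_2 lc_e_rc_18_1 lc_e_rc_13_1 lc_e_rc_18_1) (@D3.rec (fun _ => (Cert rels S Gen.e)) lc_e_rc_18_1 lc_e_rc_18_1 lc_e_rc_18_1 lc_e_rc_18_1 lc_e_rc_4_1 lc_e_rc_18_1 lc_e_rc_16_3 lc_e_rc_13_1 lc_e_rc_13_3 lc_e_rc_4_3 lc_e_rc_18_1 lc_e_rc_9_3 lc_e_rc_18_1 lc_e_rc_13_3 lc_e_rc_19_4 lc_e_rc_4_3 lc_e_rc_18_1 lc_e_rc_9_3 lc_e_rc_27_5 lc_e_rc_18_1 lc_e_rc_13_3 lc_e_rc_27_7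 lc_e_rc_27_5 lc_e_rc_18_1 lc_e_rc_16_1 lc_e_rc_18_1 lc_e_rc_9_3 lc_e_rc_9_3 lc_e_rc_9_3 lc_e_rc_16_1 lc_e_rc_13_3 lc_e_rc_18_1 lc_e_rc_9_1 lc_e_rc_18_1 lc_e_rc_27_7 lc_e_rc_13_3 lc_e_rc_4_3 lc_e_rc_18_1 lc_e_Cert_tree lc_e_Cert_tree lc_e_rc_18_1 lc_e_rc_18_1 lc_e_rc_16_1 lc_e_rc_13_3 lc_e_rc_13_1 lc_e_rc_18_1 lc_e_rc_9_3 lc_e_rc_27_1 lc_e_rc_18_1 lc_e_rc_4_3 lc_e_rc_27_5 lc_e_rc_27_1 lc_e_rc_18_1 lc_e_rc_18_1 lc_e_rc_16_1 lc_e_rc_27_1 lc_e_rc_19_2 lc_e_rc_19_4 lc_e_rc_18_1 lc_e_rc_9_3 lc_e_rc_27_7 lc_e_rc_19_0) (@D3.rec (fun _ => (Cert rels S Gen.e)) lc_e_rc_9_1 lc_e_rc_18_1 lc_e_rc_18_1 lc_e_rc_18_1 lc_e_rc_16_1 lc_e_rc_18_1 lc_e_rc_13_1 lc_e_rc_18_1 lc_e_rc_16_5 lc_e_Cert_tree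 lc_e_rc_13_3 lc_e_rc_19_4 lc_e_rc_18_1 lc_e_rc_9_1 lc_e_rc_18_1 lc_e_rc_18_1 lc_e_rc_19_4 lc_e_Cert_tree lc_e_rc_27_5 lc_e_rc_18_1 lc_e_rc_18_1 lc_e_rc_9_1 lc_e_rc_18_1 lc_e_rc_9_3 lc_e_Cert_tree lc_e_rc_4_3 lc_e_rc_9_3 lc_e_rc_18_1 lc_e_Cert_tree lc_e_rc_18_1 lc_e_Cert_tree lc_e_rc_18_1 lc_e_rc_18_1 lc_e_rc_18_1 lc_e_rc_27_5 lc_e_Cert_tree lc_e_rc_18_1 lc_e_rc_18_1 lc_e_Cert_tree lc_e_rc_13_1 lc_e_Cert_tree lc_e_rc_18_1 lc_e_rc_18_1 lc_e_rc_16_1 lc_e_rc_9_3 lc_e_rc_9_3 lc_e_rc_27_5 lc_e_rc_27_5 lc_e_rc_9_3 lc_e_rc_18_1 lc_e_Cert_tree lc_e_rc_18_1 lc_e_rc_19_2 lc_e_rc_18_1 lc_e_rc_16_5 lc_e_rc_27_5 lc_e_rc_4_3 lc_e_rc_18_1 lc_e_rc_27_7 lc_e_rc_16_5 lc_e_rc_13_3 lc_e_rc_27_7) (@D3.rec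 (fun _ => (Cert rels S Gen.e)) lc_e_rc_18_1 lc_e_rc_18_1 lc_e_rc_27_7 lc_e_rc_4_3 lc_e_rc_9_3 lc_e_rc_16_3 lc_e_Cert_tree lc_e_rc_18_1 lc_e_rc_9_3 lc_e_rc_9_3 lc_e_rc_16_5 lc_e_rc_4_3 lc_e_rc_9_3 lc_e_rc_27_7 lc_e_rc_27_5 lc_e_rc_18_1 lc_e_rc_4_3 lc_e_rc_9_1 lc_e_rc_18_1 lc_e_Cert_tree lc_e_Cert_tree lc_e_rc_18_1 lc_e_rc_27_7 lc_e_rc_16_3 lc_e_rc_19_2 lc_e_rc_27_1 lc_e_rc_18_1 lc_e_Cert_tree lc_e_rc_18_1 lc_e_Cert_tree lc_e_rc_18_1 lc_e_rc_27_7 lc_e_rc_13_3 lc_e_rc_9_3 lc_e_rc_27_1 lc_e_rc_16_1 lc_e_rc_4_3 lc_e_rc_13_3 lc_e_rc_27_5 lc_e_Cert_tree lc_e_Cert_tree lc_e_rc_18_1 lc_e_rc_16_5 lc_e_Cert_tree lc_e_rc_27_5 lc_e_rc_13_3 lc_e_rc_16_5 lc_e_rc_4_3 lc_e_rc_18_1 lc_e_Cert_tree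 lc_e_rc_27_5 lc_e_rc_9_3 lc_e_rc_18_1 lc_e_rc_19_4 lc_e_rc_13_3 lc_e_rc_16_5 lc_e_Cert_tree lc_e_rc_18_1 lc_e_rc_18_1 lc_e_rc_19_0 lc_e_rc_27_5 lc_e_Cert_tree) (@D3.rec (fun _ => (Cert rels S Gen.e)) lc_e_rc_16_1 lc_e_rc_9_1 lc_e_rc_13_1 lc_e_rc_27_1 lc_e_rc_18_1 lc_e_Cert_tree lc_e_rc_27_5 lc_e_rc_18_1 lc_e_rc_27_5 lc_e_rc_4_3 lc_e_Cert_tree lc_e_rc_27_7 lc_e_Cert_tree lc_e_rc_16_3 lc_e_rc_19_2 lc_e_Cert_tree lc_e_rc_18_1 lc_e_rc_16_5 lc_e_rc_18_1 lc_e_rc_27_5 lc_e_Cert_tree lc_e_rc_18_1 lc_e_rc_4_3 lc_e_rc_9_1 lc_e_rc_18_1 lc_e_Cert_tree lc_e_rc_27_5 lc_e_rc_18_1 lc_e_Cert_tree lc_e_rc_18_1 lc_e_rc_18_1 lc_e_Cert_tree lc_e_rc_18_1 lc_e_rc_19_4 lc_e_rc_27_1 lc_e_rc_18_1 lc_e_rc_16_1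 lc_e_rc_18_1 lc_e_rc_27_7 lc_e_rc_18_1 lc_e_rc_18_1 lc_e_rc_27_5 lc_e_rc_13_3 lc_e_rc_9_3 lc_e_rc_18_1 lc_e_rc_27_5 lc_e_Cert_tree lc_e_rc_18_1 lc_e_rc_9_3 lc_e_rc_27_1 lc_e_rc_4_3 lc_e_rc_19_4 lc_e_rc_18_1 lc_e_rc_13_1 lc_e_rc_16_3 lc_e_rc_18_1 lc_e_rc_13_3 lc_e_rc_9_1 lc_e_Cert_tree lc_e_rc_18_1 lc_e_Cert_tree lc_e_rc_18_1) (@D3.rec (fun _ => (Cert rels S Gen.e)) lc_e_Cert_tree lc_e_Cert_tree lc_e_rc_19_2 lc_e_rc_18_1 lc_e_rc_27_1 lc_e_rc_9_3 lc_e_rc_9_1 lc_e_rc_18_1 lc_e_rc_19_2 lc_e_rc_4_3 lc_e_rc_18_1 lc_e_rc_13_3 lc_e_rc_16_5 lc_e_rc_27_7 lc_e_rc_27_7 lc_e_rc_4_3 lc_e_rc_18_1 lc_e_rc_18_1 lc_e_rc_27_5 lc_e_rc_4_3 lc_e_Cert_tree lc_e_rc_27_5 lc_e_rc_18_1 lc_e_Cert_tree lc_e_rc_18_1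 lc_e_Cert_tree lc_e_Cert_tree lc_e_Cert_tree lc_e_rc_18_1 lc_e_Cert_tree lc_e_Cert_tree lc_e_rc_16_1 lc_e_rc_19_2 lc_e_rc_16_5 lc_e_rc_13_3 lc_e_rc_13_3 lc_e_Cert_tree lc_e_rc_19_0 lc_e_rc_27_7 lc_e_rc_9_3 lc_e_rc_27_1 lc_e_Cert_tree lc_e_rc_18_1 lc_e_rc_27_5 lc_e_rc_18_1 lc_e_rc_13_3 lc_e_rc_27_1 lc_e_rc_9_3 lc_e_rc_13_3 lc_e_Cert_tree lc_e_Cert_tree lc_e_rc_18_1 lc_e_rc_18_1 lc_e_rc_4_1 lc_e_rc_13_3 lc_e_rc_18_1 lc_e_rc_18_1 lc_e_rc_16_3 lc_e_rc_13_3 lc_e_rc_13_3 lc_e_rc_18_1 lc_e_Cert_tree) (@D3.rec (fun _ => (Cert rels S Gen.e)) lc_e_rc_18_1 lc_e_rc_18_1 lc_e_Cert_tree lc_e_rc_18_1 lc_e_rc_13_3 lc_e_rc_9_3 lc_e_rc_9_3 lc_e_rc_13_3 lc_e_rc_13_3 lc_e_rc_27_1 lc_e_rc_19_4 lc_e_rc_9_3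 lc_e_rc_4_1 lc_e_rc_18_1 lc_e_rc_18_1 lc_e_rc_4_1 lc_e_rc_19_4 lc_e_rc_9_3 lc_e_rc_18_1 lc_e_rc_18_1 lc_e_rc_9_1 lc_e_rc_18_1 lc_e_rc_18_1 lc_e_rc_9_3 lc_e_rc_19_4 lc_e_rc_9_3 lc_e_rc_18_1 lc_e_rc_4_1 lc_e_rc_18_1 lc_e_rc_18_1 lc_e_rc_18_1 lc_e_rc_19_2 lc_e_rc_13_3 lc_e_rc_16_5 lc_e_rc_27_5 lc_e_rc_13_1 lc_e_rc_27_1 lc_e_rc_18_1 lc_e_rc_16_3 lc_e_rc_9_3 lc_e_rc_9_3 lc_e_rc_9_3 lc_e_rc_27_7 lc_e_rc_18_1 lc_e_rc_13_3 lc_e_rc_16_3 lc_e_rc_9_3 lc_e_rc_27_7 lc_e_rc_13_1 lc_e_rc_18_1 lc_e_rc_19_2 lc_e_rc_18_1 lc_e_rc_27_7 lc_e_rc_18_1 lc_e_rc_9_1 lc_e_rc_18_1 lc_e_rc_18_1 lc_e_rc_16_1 lc_e_rc_16_1 lc_e_rc_27_7 lc_e_rc_18_1 lc_e_rc_18_1) (@D3.rec (fun _ => (Cert rels S Gen.e)) lc_e_rc_4_3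 lc_e_rc_27_7 lc_e_rc_4_3 lc_e_rc_27_1 lc_e_rc_13_3 lc_e_rc_13_3 lc_e_rc_18_1 lc_e_rc_27_5 lc_e_rc_16_5 lc_e_rc_19_2 lc_e_rc_16_3 lc_e_rc_27_7 lc_e_rc_19_2 lc_e_rc_18_1 lc_e_rc_18_1 lc_e_rc_27_1 lc_e_rc_16_3 lc_e_rc_19_2 lc_e_Cert_tree lc_e_rc_27_5 lc_e_rc_18_1 lc_e_rc_27_1 lc_e_rc_9_3 lc_e_rc_4_1 lc_e_rc_13_1 lc_e_rc_18_1 lc_e_rc_18_1 lc_e_rc_27_5 lc_e_rc_19_4 lc_e_rc_18_1 lc_e_rc_4_1 lc_e_rc_18_1 lc_e_rc_16_1 lc_e_rc_18_1 lc_e_rc_9_1 lc_e_rc_4_3 lc_e_rc_16_3 lc_e_Cert_tree lc_e_rc_18_1 lc_e_Cert_tree lc_e_rc_18_1 lc_e_rc_13_3 lc_e_rc_19_4 lc_e_rc_18_1 lc_e_Cert_tree lc_e_rc_18_1 lc_e_rc_27_7 lc_e_Cert_tree lc_e_rc_18_1 lc_e_rc_16_1 lc_e_Cert_tree lc_e_rc_13_3 lc_e_Cert_tree lc_e_rc_18_1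 lc_e_rc_18_1 lc_e_Cert_tree lc_e_Cert_tree lc_e_rc_18_1 lc_e_rc_9_3 lc_e_rc_18_1 lc_e_Cert_tree lc_e_rc_19_4) (@D3.rec (fun _ => (Cert rels S Gen.e)) lc_e_rc_18_1 lc_e_Cert_tree lc_e_rc_18_1 lc_e_rc_13_3 lc_e_rc_9_1 lc_e_rc_9_3 lc_e_rc_9_3 lc_e_Cert_tree lc_e_Cert_tree lc_e_rc_18_1 lc_e_rc_9_3 lc_e_rc_19_4 lc_e_rc_13_3 lc_e_rc_13_1 lc_e_rc_27_5 lc_e_rc_27_5 lc_e_rc_27_7 lc_e_rc_13_3 lc_e_rc_9_3 lc_e_rc_27_1 lc_e_rc_27_5 lc_e_rc_16_3 lc_e_rc_18_1 lc_e_rc_13_1 lc_e_rc_18_1 lc_e_rc_19_2 lc_e_rc_16_5 lc_e_rc_19_2 lc_e_rc_19_4 lc_e_rc_19_4 lc_e_rc_9_3 lc_e_Cert_tree lc_e_rc_16_5 lc_e_rc_18_1 lc_e_rc_4_3 lc_e_rc_4_3 lc_e_rc_9_3 lc_e_rc_27_5 lc_e_rc_4_3 lc_e_Cert_tree lc_e_rc_18_1 lc_e_rc_27_7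 lc_e_rc_18_1 lc_e_rc_27_1 lc_e_rc_27_1 lc_e_rc_27_7 lc_e_rc_18_1 lc_e_rc_13_3 lc_e_rc_9_1 lc_e_rc_27_1 lc_e_rc_16_3 lc_e_Cert_tree lc_e_Cert_tree lc_e_rc_18_1 lc_e_rc_27_5 lc_e_rc_18_1 lc_e_rc_18_1 lc_e_rc_18_1 lc_e_rc_18_1 lc_e_rc_19_0 lc_e_rc_9_3 lc_e_rc_16_1) (@D3.rec (fun _ => (Cert rels S Gen.e)) lc_e_Cert_tree lc_e_rc_13_3 lc_e_Cert_tree lc_e_Cert_tree lc_e_rc_18_1 lc_e_rc_18_1 lc_e_rc_19_4 lc_e_rc_9_3 lc_e_rc_16_5 lc_e_rc_4_3 lc_e_rc_16_1 lc_e_rc_27_7 lc_e_rc_18_1 lc_e_Cert_tree lc_e_rc_9_1 lc_e_rc_18_1 lc_e_rc_4_1 lc_e_rc_4_3 lc_e_rc_9_3 lc_e_rc_18_1 lc_e_rc_13_3 lc_e_rc_18_1 lc_e_rc_19_4 lc_e_rc_27_7 lc_e_rc_27_5 lc_e_rc_27_5 lc_e_rc_18_1 lc_e_rc_13_3 lc_e_rc_27_5 lc_e_rc_18_1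 lc_e_Cert_tree lc_e_rc_18_1 lc_e_rc_18_1 lc_e_rc_19_4 lc_e_rc_9_1 lc_e_Cert_tree lc_e_rc_18_1 lc_e_rc_13_3 lc_e_rc_16_5 lc_e_rc_19_4 lc_e_rc_19_4 lc_e_rc_9_1 lc_e_rc_18_1 lc_e_Cert_tree lc_e_rc_18_1 lc_e_rc_18_1 lc_e_rc_16_3 lc_e_rc_27_7 lc_e_rc_18_1 lc_e_rc_18_1 lc_e_rc_9_3 lc_e_Cert_tree lc_e_rc_18_1 lc_e_rc_16_5 lc_e_Cert_tree lc_e_rc_16_3 lc_e_rc_19_4 lc_e_Cert_tree lc_e_rc_13_3 lc_e_rc_27_5 lc_e_rc_18_1 lc_e_rc_9_1) (@D3.rec (fun _ => (Cert rels S Gen.e)) lc_e_rc_16_3 lc_e_rc_16_3 lc_e_rc_13_3 lc_e_Cert_tree lc_e_rc_9_1 lc_e_rc_13_3 lc_e_rc_18_1 lc_e_rc_27_5 lc_e_rc_18_1 lc_e_rc_13_3 lc_e_Cert_tree lc_e_rc_18_1 lc_e_rc_27_1 lc_e_rc_18_1 lc_e_rc_27_7 lc_e_rc_4_3 lc_e_rc_18_1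 lc_e_rc_27_1 lc_e_rc_18_1 lc_e_rc_27_7 lc_e_rc_18_1 lc_e_rc_18_1 lc_e_rc_18_1 lc_e_rc_13_3 lc_e_rc_18_1 lc_e_Cert_tree lc_e_rc_13_3 lc_e_rc_4_3 lc_e_rc_9_3 lc_e_rc_9_3 lc_e_rc_19_4 lc_e_rc_18_1 lc_e_rc_18_1 lc_e_Cert_tree lc_e_rc_19_4 lc_e_rc_13_1 lc_e_rc_13_1 lc_e_rc_16_1 lc_e_rc_9_3 lc_e_rc_27_5 lc_e_rc_18_1 lc_e_rc_13_3 lc_e_rc_18_1 lc_e_rc_18_1 lc_e_rc_27_7 lc_e_rc_9_3 lc_e_rc_18_1 lc_e_rc_18_1 lc_e_rc_18_1 lc_e_rc_9_3 lc_e_rc_9_3 lc_e_rc_19_0 lc_e_rc_4_3 lc_e_rc_27_7 lc_e_rc_18_1 lc_e_rc_18_1 lc_e_Cert_tree lc_e_rc_16_1 lc_e_rc_19_4 lc_e_rc_9_3 lc_e_rc_4_3 lc_e_rc_16_1) (@D3.rec (fun _ => (Cert rels S Gen.e)) lc_e_rc_18_1 lc_e_rc_9_1 lc_e_rc_18_1 lc_e_rc_18_1 lc_e_rc_18_1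 lc_e_rc_18_1 lc_e_rc_16_1 lc_e_rc_18_1 lc_e_rc_13_1 lc_e_rc_13_1 lc_e_rc_16_3 lc_e_rc_9_1 lc_e_Cert_tree lc_e_rc_18_1 lc_e_rc_16_1 lc_e_rc_18_1 lc_e_Cert_tree lc_e_rc_9_3 lc_e_rc_13_3 lc_e_Cert_tree lc_e_rc_9_3 lc_e_rc_27_1 lc_e_rc_18_1 lc_e_rc_18_1 lc_e_rc_13_3 lc_e_rc_13_1 lc_e_rc_4_1 lc_e_rc_18_1 lc_e_rc_18_1 lc_e_rc_13_3 lc_e_rc_16_3 lc_e_rc_19_4 lc_e_Cert_tree lc_e_rc_19_4 lc_e_rc_16_3 lc_e_rc_13_3 lc_e_rc_18_1 lc_e_rc_18_1 lc_e_rc_18_1 lc_e_rc_18_1 lc_e_rc_18_1 lc_e_Cert_tree lc_e_rc_18_1 lc_e_rc_19_2 lc_e_Cert_tree lc_e_rc_18_1 lc_e_rc_13_3 lc_e_rc_13_1 lc_e_rc_16_1 lc_e_rc_18_1 lc_e_rc_9_3 lc_e_Cert_tree lc_e_rc_18_1 lc_e_rc_19_4 lc_e_rc_19_4 lc_e_rc_9_3 lc_e_rc_18_1 lc_e_rc_18_1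 lc_e_rc_18_1 lc_e_rc_19_4 lc_e_rc_16_3 lc_e_rc_18_1) (@D3.rec (fun _ => (Cert rels S Gen.e)) lc_e_rc_19_4 lc_e_rc_18_1 lc_e_rc_18_1 lc_e_Cert_tree lc_e_rc_13_1 lc_e_rc_13_3 lc_e_rc_9_3 lc_e_rc_13_1 lc_e_rc_4_1 lc_e_Cert_tree lc_e_rc_18_1 lc_e_rc_13_1 lc_e_rc_13_1 lc_e_rc_16_1 lc_e_rc_13_1 lc_e_rc_13_3 lc_e_rc_27_7 lc_e_rc_16_3 lc_e_Cert_tree lc_e_rc_18_1 lc_e_rc_16_5 lc_e_rc_18_1 lc_e_rc_16_3 lc_e_rc_13_1 lc_e_rc_18_1 lc_e_rc_19_0 lc_e_rc_16_5 lc_e_rc_13_1 lc_e_Cert_tree lc_e_rc_16_5 lc_e_rc_19_2 lc_e_rc_18_1 lc_e_rc_13_3 lc_e_rc_16_3 lc_e_rc_18_1 lc_e_Cert_tree lc_e_rc_18_1 lc_e_rc_9_3 lc_e_rc_4_1 lc_e_Cert_tree lc_e_rc_18_1 lc_e_rc_9_1 lc_e_rc_18_1 lc_e_rc_16_5 lc_e_rc_4_3 lc_e_rc_19_4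 lc_e_rc_9_3 lc_e_Cert_tree lc_e_rc_18_1 lc_e_rc_16_1 lc_e_rc_18_1 lc_e_Cert_tree lc_e_rc_18_1 lc_e_rc_27_5 lc_e_rc_27_5 lc_e_rc_16_5 lc_e_rc_18_1 lc_e_Cert_tree lc_e_rc_18_1 lc_e_rc_19_4 lc_e_Cert_tree lc_e_rc_18_1) (@D3.rec (fun _ => (Cert rels S Gen.e)) lc_e_rc_9_1 lc_e_rc_18_1 lc_e_rc_13_3 lc_e_rc_18_1 lc_e_rc_18_1 lc_e_rc_19_4 lc_e_Cert_tree lc_e_Cert_tree lc_e_rc_18_1 lc_e_rc_16_3 lc_e_rc_18_1 lc_e_rc_16_3 lc_e_rc_18_1 lc_e_rc_19_2 lc_e_rc_19_4 lc_e_rc_18_1 lc_e_rc_19_4 lc_e_rc_18_1 lc_e_rc_9_3 lc_e_rc_16_1 lc_e_rc_19_4 lc_e_rc_18_1 lc_e_rc_27_5 lc_e_rc_13_3 lc_e_rc_13_1 lc_e_Cert_tree lc_e_rc_13_3 lc_e_rc_27_7 lc_e_rc_16_3 lc_e_rc_18_1 lc_e_rc_19_2 lc_e_rc_16_1 lc_e_rc_16_1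 lc_e_rc_13_3 lc_e_rc_9_3 lc_e_rc_16_1 lc_e_rc_19_4 lc_e_rc_9_3 lc_e_rc_16_3 lc_e_Cert_tree lc_e_rc_18_1 lc_e_rc_4_1 lc_e_Cert_tree lc_e_rc_13_3 lc_e_rc_9_3 lc_e_rc_18_1 lc_e_Cert_tree lc_e_rc_18_1 lc_e_rc_27_5 lc_e_Cert_tree lc_e_rc_18_1 lc_e_rc_18_1 lc_e_rc_9_3 lc_e_rc_18_1 lc_e_Cert_tree lc_e_Cert_tree lc_e_rc_18_1 lc_e_rc_27_5 lc_e_rc_16_3 lc_e_rc_27_7 lc_e_Cert_tree lc_e_rc_18_1) (@D3.rec (fun _ => (Cert rels S Gen.e)) lc_e_rc_13_1 lc_e_rc_18_1 lc_e_rc_18_1 lc_e_rc_18_1 lc_e_Cert_tree lc_e_rc_18_1 lc_e_Cert_tree lc_e_rc_13_3 lc_e_Cert_tree lc_e_rc_16_3 lc_e_Cert_tree lc_e_rc_18_1 lc_e_rc_18_1 lc_e_rc_18_1 lc_e_rc_9_3 lc_e_rc_27_5 lc_e_rc_9_3 lc_e_rc_9_3 lc_e_rc_16_5 lc_e_rc_27_1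 lc_e_rc_9_3 lc_e_rc_13_3 lc_e_rc_18_1 lc_e_rc_19_4 lc_e_rc_16_5 lc_e_rc_18_1 lc_e_rc_4_3 lc_e_rc_9_3 lc_e_rc_19_2 lc_e_rc_19_2 lc_e_rc_16_3 lc_e_rc_9_1 lc_e_Cert_tree lc_e_rc_18_1 lc_e_Cert_tree lc_e_Cert_tree lc_e_rc_18_1 lc_e_Cert_tree lc_e_rc_9_3 lc_e_rc_13_3 lc_e_rc_9_3 lc_e_rc_18_1 lc_e_rc_18_1 lc_e_rc_16_1 lc_e_rc_27_5 lc_e_rc_19_0 lc_e_Cert_tree lc_e_rc_18_1 lc_e_Cert_tree lc_e_rc_4_3 lc_e_rc_18_1 lc_e_rc_18_1 lc_e_rc_27_7 lc_e_rc_18_1 lc_e_rc_13_1 lc_e_rc_27_7 lc_e_rc_9_3 lc_e_rc_19_4 lc_e_rc_18_1 lc_e_rc_18_1 lc_e_rc_27_1 lc_e_rc_19_2) (@D3.rec (fun _ => (Cert rels S Gen.e)) lc_e_rc_18_1 lc_e_rc_13_3 lc_e_rc_16_5 lc_e_rc_16_1 lc_e_rc_16_3 lc_e_rc_19_4 lc_e_rc_16_3 lc_e_rc_27_5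 lc_e_Cert_tree lc_e_rc_27_7 lc_e_rc_27_1 lc_e_rc_27_7 lc_e_rc_16_3 lc_e_rc_13_1 lc_e_rc_18_1 lc_e_rc_16_1 lc_e_rc_19_2 lc_e_rc_18_1 lc_e_Cert_tree lc_e_rc_13_1 lc_e_rc_27_5 lc_e_rc_19_4 lc_e_rc_18_1 lc_e_rc_18_1 lc_e_rc_16_3 lc_e_rc_13_3 lc_e_Cert_tree lc_e_rc_18_1 lc_e_Cert_tree lc_e_rc_18_1 lc_e_Cert_tree lc_e_rc_18_1 lc_e_Cert_tree lc_e_rc_16_5 lc_e_rc_18_1 lc_e_rc_13_1 lc_e_rc_18_1 lc_e_rc_13_1 lc_e_rc_18_1 lc_e_rc_9_3 lc_e_rc_27_1 lc_e_Cert_tree lc_e_rc_18_1 lc_e_rc_13_1 lc_e_rc_18_1 lc_e_rc_27_5 lc_e_rc_16_1 lc_e_rc_4_3 lc_e_rc_27_5 lc_e_Cert_tree lc_e_rc_18_1 lc_e_rc_4_3 lc_e_rc_18_1 lc_e_rc_18_1 lc_e_rc_18_1 lc_e_rc_18_1 lc_e_rc_13_1 lc_e_rc_19_2 lc_e_rc_27_5 lc_e_rc_13_1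 lc_e_rc_18_1 lc_e_rc_18_1) (@D3.rec (fun _ => (Cert rels S Gen.e)) lc_e_rc_18_1 lc_e_rc_18_1 lc_e_rc_13_3 lc_e_rc_18_1 lc_e_Cert_tree lc_e_rc_13_3 lc_e_rc_19_2 lc_e_rc_27_7 lc_e_rc_18_1 lc_e_rc_4_3 lc_e_rc_18_1 lc_e_rc_18_1 lc_e_rc_9_3 lc_e_rc_9_3 lc_e_rc_16_3 lc_e_rc_19_2 lc_e_rc_13_1 lc_e_rc_13_1 lc_e_rc_27_5 lc_e_rc_13_1 lc_e_rc_18_1 lc_e_Cert_tree lc_e_rc_27_5 lc_e_rc_13_3 lc_e_rc_9_1 lc_e_rc_18_1 lc_e_rc_16_3 lc_e_rc_19_4 lc_e_rc_18_1 lc_e_rc_9_3 lc_e_rc_13_3 lc_e_rc_16_5 lc_e_rc_18_1 lc_e_rc_18_1 lc_e_rc_27_5 lc_e_Cert_tree lc_e_rc_27_7 lc_e_rc_16_1 lc_e_rc_19_2 lc_e_rc_18_1 lc_e_rc_13_1 lc_e_rc_13_3 lc_e_rc_9_3 lc_e_rc_16_3 lc_e_rc_9_3 lc_e_rc_19_2 lc_e_rc_19_0 lc_e_rc_13_3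 lc_e_rc_27_7 lc_e_rc_16_1 lc_e_rc_13_1 lc_e_rc_18_1 lc_e_rc_19_2 lc_e_rc_16_5 lc_e_rc_27_5 lc_e_rc_18_1 lc_e_rc_18_1 lc_e_rc_16_3 lc_e_rc_19_2 lc_e_rc_9_3 lc_e_rc_13_3 lc_e_rc_13_1) (@D3.rec (fun _ => (Cert rels S Gen.e)) lc_e_rc_9_1 lc_e_rc_13_3 lc_e_rc_9_3 lc_e_rc_18_1 lc_e_rc_13_3 lc_e_rc_19_2 lc_e_rc_18_1 lc_e_rc_9_1 lc_e_rc_13_1 lc_e_rc_18_1 lc_e_rc_16_3 lc_e_rc_18_1 lc_e_rc_16_5 lc_e_rc_9_3 lc_e_rc_16_3 lc_e_rc_19_4 lc_e_rc_16_3 lc_e_rc_27_1 lc_e_Cert_tree lc_e_rc_18_1 lc_e_Cert_tree lc_e_rc_18_1 lc_e_Cert_tree lc_e_rc_13_3 lc_e_rc_9_3 lc_e_Cert_tree lc_e_rc_19_4 lc_e_rc_18_1 lc_e_Cert_tree lc_e_rc_4_3 lc_e_rc_18_1 lc_e_rc_4_3 lc_e_rc_27_5 lc_e_rc_27_1 lc_e_rc_18_1 lc_e_rc_27_1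 lc_e_Cert_tree lc_e_Cert_tree lc_e_rc_18_1 lc_e_rc_19_2 lc_e_rc_18_1 lc_e_Cert_tree lc_e_rc_18_1 lc_e_rc_19_4 lc_e_rc_27_1 lc_e_rc_18_1 lc_e_rc_27_1 lc_e_rc_18_1 lc_e_rc_18_1 lc_e_rc_27_7 lc_e_rc_19_4 lc_e_rc_13_1 lc_e_rc_18_1 lc_e_Cert_tree lc_e_rc_18_1 lc_e_rc_27_5 lc_e_rc_16_3 lc_e_rc_13_3 lc_e_rc_18_1 lc_e_Cert_tree lc_e_rc_18_1 lc_e_rc_16_5) (@D3.rec (fun _ => (Cert rels S Gen.e)) lc_e_rc_18_1 lc_e_rc_16_1 lc_e_rc_18_1 lc_e_rc_18_1 lc_e_rc_9_1 lc_e_rc_16_3 lc_e_rc_16_3 lc_e_rc_27_7 lc_e_Cert_tree lc_e_rc_18_1 lc_e_rc_13_3 lc_e_rc_13_3 lc_e_rc_18_1 lc_e_rc_27_5 lc_e_rc_16_3 lc_e_rc_16_1 lc_e_rc_27_1 lc_e_rc_9_3 lc_e_rc_13_3 lc_e_rc_13_1 lc_e_rc_9_3 lc_e_rc_27_7 lc_e_rc_18_1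 lc_e_Cert_tree lc_e_rc_18_1 lc_e_rc_9_3 lc_e_rc_16_1 lc_e_rc_18_1 lc_e_rc_18_1 lc_e_rc_27_7 lc_e_rc_27_1 lc_e_rc_13_1 lc_e_rc_13_3 lc_e_rc_13_1 lc_e_rc_18_1 lc_e_Cert_tree lc_e_rc_18_1 lc_e_rc_27_1 lc_e_rc_16_1 lc_e_rc_9_3 lc_e_rc_13_3 lc_e_rc_27_5 lc_e_rc_18_1 lc_e_rc_16_3 lc_e_rc_19_2 lc_e_rc_13_3 lc_e_Cert_tree lc_e_rc_9_1 lc_e_rc_13_1 lc_e_rc_27_5 lc_e_rc_18_1 lc_e_rc_18_1 lc_e_rc_16_5 lc_e_rc_13_3 lc_e_rc_19_2 lc_e_rc_9_3 lc_e_rc_18_1 lc_e_rc_19_2 lc_e_rc_13_1 lc_e_rc_18_1 lc_e_rc_27_1 lc_e_rc_27_1) (@D3.rec (fun _ => (Cert rels S Gen.e)) lc_e_rc_4_3 lc_e_rc_18_1 lc_e_rc_9_1 lc_e_rc_27_7 lc_e_rc_18_1 lc_e_rc_18_1 lc_e_rc_16_1 lc_e_rc_19_4 lc_e_rc_9_3 lc_e_rc_18_1 lc_e_rc_18_1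 lc_e_rc_27_1 lc_e_rc_27_7 lc_e_rc_19_0 lc_e_rc_4_3 lc_e_rc_27_7 lc_e_rc_27_5 lc_e_rc_13_3 lc_e_rc_13_3 lc_e_rc_19_4 lc_e_rc_9_3 lc_e_rc_4_1 lc_e_rc_9_3 lc_e_Cert_tree lc_e_rc_27_7 lc_e_rc_18_1 lc_e_rc_13_3 lc_e_Cert_tree lc_e_rc_19_4 lc_e_rc_16_5 lc_e_rc_18_1 lc_e_rc_4_1 lc_e_rc_18_1 lc_e_Cert_tree lc_e_rc_18_1 lc_e_Cert_tree lc_e_rc_18_1 lc_e_rc_18_1 lc_e_rc_18_1 lc_e_rc_18_1 lc_e_Cert_tree lc_e_Cert_tree lc_e_rc_19_4 lc_e_rc_18_1 lc_e_rc_19_2 lc_e_rc_27_5 lc_e_rc_18_1 lc_e_rc_9_3 lc_e_Cert_tree lc_e_rc_18_1 lc_e_rc_27_7 lc_e_Cert_tree lc_e_rc_18_1 lc_e_rc_18_1 lc_e_rc_16_3 lc_e_rc_16_1 lc_e_rc_13_3 lc_e_rc_9_3 lc_e_rc_18_1 lc_e_rc_19_2 lc_e_rc_18_1 lc_e_rc_19_4) (@D3.rec (fun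 _ => (Cert rels S Gen.e)) lc_e_rc_13_3 lc_e_rc_27_7 lc_e_rc_9_3 lc_e_Cert_tree lc_e_rc_13_3 lc_e_rc_27_7 lc_e_rc_27_5 lc_e_rc_18_1 lc_e_rc_4_1 lc_e_rc_13_1 lc_e_rc_18_1 lc_e_rc_18_1 lc_e_rc_18_1 lc_e_rc_19_4 lc_e_rc_9_3 lc_e_rc_19_2 lc_e_rc_18_1 lc_e_rc_27_5 lc_e_rc_16_3 lc_e_rc_19_4 lc_e_Cert_tree lc_e_rc_27_1 lc_e_rc_18_1 lc_e_rc_27_5 lc_e_rc_18_1 lc_e_rc_27_5 lc_e_rc_13_3 lc_e_rc_13_1 lc_e_rc_18_1 lc_e_rc_13_3 lc_e_rc_9_1 lc_e_rc_9_3 lc_e_rc_16_1 lc_e_rc_19_2 lc_e_rc_27_7 lc_e_rc_18_1 lc_e_rc_16_3 lc_e_rc_18_1 lc_e_rc_16_1 lc_e_rc_16_1 lc_e_rc_27_1 lc_e_rc_18_1 lc_e_rc_18_1 lc_e_rc_13_1 lc_e_rc_18_1 lc_e_rc_27_5 lc_e_rc_19_4 lc_e_rc_13_1 lc_e_rc_18_1 lc_e_rc_19_4 lc_e_rc_18_1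 lc_e_rc_13_3 lc_e_rc_18_1 lc_e_rc_18_1 lc_e_rc_13_3 lc_e_rc_18_1 lc_e_rc_19_2 lc_e_Cert_tree lc_e_Cert_tree lc_e_Cert_tree lc_e_rc_27_5 lc_e_rc_18_1) (@D3.rec (fun _ => (Cert rels S Gen.e)) lc_e_Cert_tree lc_e_rc_18_1 lc_e_rc_18_1 lc_e_Cert_tree lc_e_Cert_tree lc_e_rc_18_1 lc_e_Cert_tree lc_e_rc_4_1 lc_e_rc_16_3 lc_e_Cert_tree lc_e_rc_18_1 lc_e_rc_19_2 lc_e_rc_18_1 lc_e_rc_27_5 lc_e_rc_16_3 lc_e_rc_19_4 lc_e_Cert_tree lc_e_Cert_tree lc_e_rc_18_1 lc_e_rc_18_1 lc_e_Cert_tree lc_e_rc_18_1 lc_e_Cert_tree lc_e_rc_16_3 lc_e_rc_18_1 lc_e_rc_18_1 lc_e_Cert_tree lc_e_rc_19_4 lc_e_rc_19_2 lc_e_rc_18_1 lc_e_Cert_tree lc_e_rc_18_1 lc_e_rc_27_5 lc_e_Cert_tree lc_e_rc_19_4 lc_e_Cert_tree lc_e_rc_16_5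 lc_e_rc_18_1 lc_e_rc_18_1 lc_e_Cert_tree lc_e_rc_18_1 lc_e_rc_13_3 lc_e_Cert_tree lc_e_rc_27_5 lc_e_rc_19_4 lc_e_rc_13_3 lc_e_rc_18_1 lc_e_rc_18_1 lc_e_rc_27_5 lc_e_rc_9_3 lc_e_Cert_tree lc_e_rc_13_1 lc_e_rc_18_1 lc_e_rc_4_3 lc_e_rc_13_3 lc_e_rc_13_3 lc_e_rc_27_5 lc_e_rc_16_3 lc_e_rc_18_1 lc_e_rc_9_3 lc_e_rc_18_1 lc_e_rc_19_4) (@D3.rec (fun _ => (Cert rels S Gen.e)) lc_e_rc_13_1 lc_e_rc_13_3 lc_e_rc_16_1 lc_e_rc_19_4 lc_e_rc_9_3 lc_e_Cert_tree lc_e_rc_4_3 lc_e_rc_18_1 lc_e_rc_9_1 lc_e_rc_18_1 lc_e_rc_16_1 lc_e_rc_16_1 lc_e_rc_18_1 lc_e_rc_13_3 lc_e_rc_19_0 lc_e_Cert_tree lc_e_Cert_tree lc_e_Cert_tree lc_e_Cert_tree lc_e_rc_18_1 lc_e_rc_27_5 lc_e_rc_9_3 lc_e_rc_18_1 lc_e_rc_16_3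 lc_e_rc_18_1 lc_e_rc_18_1 lc_e_Cert_tree lc_e_rc_18_1 lc_e_rc_4_3 lc_e_rc_16_3 lc_e_rc_13_3 lc_e_Cert_tree lc_e_rc_19_4 lc_e_rc_18_1 lc_e_rc_13_3 lc_e_rc_18_1 lc_e_rc_18_1 lc_e_rc_16_3 lc_e_rc_19_4 lc_e_rc_18_1 lc_e_Cert_tree lc_e_rc_18_1 lc_e_rc_18_1 lc_e_rc_18_1 lc_e_rc_19_4 lc_e_Cert_tree lc_e_rc_18_1 lc_e_rc_13_1 lc_e_rc_18_1 lc_e_rc_19_4 lc_e_rc_19_4 lc_e_rc_13_3 lc_e_rc_18_1 lc_e_rc_19_2 lc_e_Cert_tree lc_e_rc_9_1 lc_e_rc_9_3 lc_e_Cert_tree lc_e_rc_18_1 lc_e_rc_27_5 lc_e_rc_27_5 lc_e_rc_4_3) (@D3.rec (fun _ => (Cert rels S Gen.e)) lc_e_rc_13_3 lc_e_rc_16_5 lc_e_Cert_tree lc_e_Cert_tree lc_e_rc_27_5 lc_e_rc_18_1 lc_e_rc_19_4 lc_e_rc_27_7 lc_e_rc_9_3 lc_e_rc_16_5 lc_e_rc_4_3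 lc_e_rc_13_1 lc_e_rc_4_3 lc_e_rc_27_1 lc_e_rc_13_3 lc_e_rc_4_3 lc_e_rc_27_5 lc_e_rc_27_1 lc_e_rc_4_3 lc_e_rc_18_1 lc_e_rc_4_3 lc_e_rc_18_1 lc_e_rc_13_3 lc_e_rc_19_4 lc_e_rc_13_3 lc_e_rc_18_1 lc_e_rc_4_1 lc_e_Cert_tree lc_e_rc_18_1 lc_e_rc_18_1 lc_e_rc_27_5 lc_e_rc_19_4 lc_e_rc_9_3 lc_e_rc_13_3 lc_e_rc_9_3 lc_e_rc_13_3 lc_e_rc_13_1 lc_e_rc_18_1 lc_e_rc_18_1 lc_e_rc_13_3 lc_e_rc_19_4 lc_e_rc_19_0 lc_e_rc_19_4 lc_e_Cert_tree lc_e_rc_19_4 lc_e_rc_18_1 lc_e_rc_9_3 lc_e_rc_27_7 lc_e_rc_27_7 lc_e_rc_18_1 lc_e_rc_18_1 lc_e_Cert_tree lc_e_rc_18_1 lc_e_rc_13_1 lc_e_rc_9_1 lc_e_rc_18_1 lc_e_rc_13_3 lc_e_rc_18_1 lc_e_rc_18_1 lc_e_rc_9_3 lc_e_rc_27_5 lc_e_rc_16_1) (@D3.rec (fun _ => (Cert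 rels S Gen.e)) lc_e_rc_16_5 lc_e_rc_18_1 lc_e_Cert_tree lc_e_rc_16_5 lc_e_rc_18_1 lc_e_Cert_tree lc_e_Cert_tree lc_e_rc_9_3 lc_e_rc_18_1 lc_e_Cert_tree lc_e_rc_27_5 lc_e_rc_18_1 lc_e_rc_13_3 lc_e_rc_27_1 lc_e_rc_13_3 lc_e_rc_19_0 lc_e_rc_18_1 lc_e_rc_9_3 lc_e_rc_9_3 lc_e_rc_19_2 lc_e_rc_27_1 lc_e_rc_18_1 lc_e_rc_9_1 lc_e_rc_18_1 lc_e_rc_4_3 lc_e_rc_9_3 lc_e_rc_19_2 lc_e_rc_27_5 lc_e_rc_27_5 lc_e_rc_16_1 lc_e_rc_18_1 lc_e_rc_19_0 lc_e_rc_18_1 lc_e_rc_27_1 lc_e_rc_27_5 lc_e_rc_18_1 lc_e_rc_18_1 lc_e_rc_19_2 lc_e_rc_19_2 lc_e_rc_13_3 lc_e_rc_13_3 lc_e_rc_19_2 lc_e_rc_18_1 lc_e_rc_9_3 lc_e_rc_18_1 lc_e_rc_19_4 lc_e_rc_16_3 lc_e_rc_18_1 lc_e_rc_16_3 lc_e_rc_18_1 lc_e_rc_9_1 lc_e_rc_18_1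 lc_e_rc_13_3 lc_e_rc_18_1 lc_e_rc_19_4 lc_e_rc_13_3 lc_e_rc_9_3 lc_e_rc_13_3 lc_e_rc_9_3 lc_e_rc_18_1 lc_e_rc_9_3 lc_e_rc_18_1) (@D3.rec (fun _ => (Cert rels S Gen.e)) lc_e_rc_4_3 lc_e_rc_18_1 lc_e_rc_18_1 lc_e_rc_27_1 lc_e_rc_16_5 lc_e_rc_9_3 lc_e_Cert_tree lc_e_rc_9_1 lc_e_rc_27_5 lc_e_rc_18_1 lc_e_rc_13_3 lc_e_rc_13_1 lc_e_rc_18_1 lc_e_rc_9_1 lc_e_rc_18_1 lc_e_rc_13_3 lc_e_rc_27_1 lc_e_rc_9_1 lc_e_rc_18_1 lc_e_rc_4_3 lc_e_rc_13_3 lc_e_rc_18_1 lc_e_rc_19_4 lc_e_rc_13_3 lc_e_rc_9_1 lc_e_rc_13_3 lc_e_rc_4_3 lc_e_rc_19_0 lc_e_rc_19_2 lc_e_rc_9_1 lc_e_rc_18_1 lc_e_rc_27_5 lc_e_rc_18_1 lc_e_rc_18_1 lc_e_rc_18_1 lc_e_rc_18_1 lc_e_Cert_tree lc_e_rc_18_1 lc_e_rc_9_1 lc_e_rc_9_1 lc_e_rc_9_1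 lc_e_rc_18_1 lc_e_rc_13_1 lc_e_rc_18_1 lc_e_Cert_tree lc_e_rc_18_1 lc_e_rc_4_1 lc_e_Cert_tree lc_e_rc_18_1 lc_e_rc_27_7 lc_e_rc_18_1 lc_e_rc_18_1 lc_e_rc_18_1 lc_e_rc_27_5 lc_e_rc_19_4 lc_e_rc_4_1 lc_e_rc_27_5 lc_e_rc_9_3 lc_e_rc_16_3 lc_e_rc_4_1 lc_e_rc_18_1 lc_e_rc_9_1) (@D3.rec (fun _ => (Cert rels S Gen.e)) lc_e_rc_18_1 lc_e_rc_18_1 lc_e_rc_19_4 lc_e_rc_18_1 lc_e_rc_18_1 lc_e_rc_18_1 lc_e_rc_18_1 lc_e_rc_16_3 lc_e_rc_27_1 lc_e_rc_18_1 lc_e_rc_19_2 lc_e_rc_18_1 lc_e_rc_18_1 lc_e_rc_18_1 lc_e_rc_19_4 lc_e_rc_9_1 lc_e_rc_18_1 lc_e_Cert_tree lc_e_rc_18_1 lc_e_rc_18_1 lc_e_Cert_tree lc_e_rc_18_1 lc_e_rc_18_1 lc_e_Cert_tree lc_e_rc_13_3 lc_e_rc_13_3 lc_e_rc_18_1 lc_e_rc_18_1 lc_e_Cert_tree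 lc_e_rc_19_4 lc_e_rc_16_5 lc_e_rc_16_3 lc_e_rc_18_1 lc_e_Cert_tree lc_e_rc_18_1 lc_e_rc_9_3 lc_e_rc_16_3 lc_e_rc_27_1 lc_e_Cert_tree lc_e_rc_18_1 lc_e_rc_13_3 lc_e_rc_18_1 lc_e_rc_18_1 lc_e_rc_19_2 lc_e_rc_19_4 lc_e_rc_9_3 lc_e_rc_9_1 lc_e_rc_16_3 lc_e_Cert_tree lc_e_rc_9_3 lc_e_rc_18_1 lc_e_rc_13_3 lc_e_rc_27_1 lc_e_rc_19_4 lc_e_rc_19_0 lc_e_rc_9_3 lc_e_Cert_tree lc_e_rc_18_1 lc_e_Cert_tree lc_e_rc_18_1 lc_e_rc_13_1 lc_e_rc_19_0) (@D3.rec (fun _ => (Cert rels S Gen.e)) lc_e_rc_19_4 lc_e_rc_27_5 lc_e_rc_27_5 lc_e_rc_9_3 lc_e_rc_19_4 lc_e_rc_4_3 lc_e_rc_18_1 lc_e_rc_13_3 lc_e_rc_13_3 lc_e_rc_27_7 lc_e_rc_13_3 lc_e_rc_18_1 lc_e_rc_4_3 lc_e_rc_18_1 lc_e_rc_19_4 lc_e_rc_18_1 lc_e_Cert_tree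 lc_e_rc_18_1 lc_e_rc_18_1 lc_e_rc_13_3 lc_e_rc_4_3 lc_e_Cert_tree lc_e_rc_18_1 lc_e_rc_16_5 lc_e_rc_18_1 lc_e_rc_19_4 lc_e_rc_16_5 lc_e_rc_18_1 lc_e_rc_18_1 lc_e_rc_9_1 lc_e_rc_27_5 lc_e_rc_18_1 lc_e_rc_18_1 lc_e_rc_9_3 lc_e_rc_16_1 lc_e_rc_9_3 lc_e_rc_13_1 lc_e_rc_4_3 lc_e_rc_27_5 lc_e_Cert_tree lc_e_rc_27_1 lc_e_rc_18_1 lc_e_rc_9_1 lc_e_Cert_tree lc_e_rc_27_5 lc_e_rc_18_1 lc_e_rc_27_7 lc_e_Cert_tree lc_e_rc_9_1 lc_e_rc_16_3 lc_e_rc_4_3 lc_e_rc_13_3 lc_e_rc_18_1 lc_e_rc_18_1 lc_e_rc_18_1 lc_e_rc_13_1 lc_e_Cert_tree lc_e_rc_18_1 lc_e_rc_27_7 lc_e_rc_9_3 lc_e_rc_27_1 lc_e_rc_18_1) (@D3.rec (fun _ => (Cert rels S Gen.e)) lc_e_rc_27_7 lc_e_rc_18_1 lc_e_rc_27_7 lc_e_rc_18_1 lc_e_rc_9_1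 lc_e_rc_18_1 lc_e_rc_13_3 lc_e_rc_16_5 lc_e_rc_16_3 lc_e_rc_18_1 lc_e_rc_18_1 lc_e_rc_16_5 lc_e_rc_18_1 lc_e_rc_19_4 lc_e_rc_18_1 lc_e_Cert_tree lc_e_rc_18_1 lc_e_Cert_tree lc_e_rc_18_1 lc_e_rc_16_1 lc_e_rc_9_3 lc_e_rc_4_3 lc_e_Cert_tree lc_e_rc_18_1 lc_e_rc_18_1 lc_e_Cert_tree lc_e_rc_19_2 lc_e_rc_19_2 lc_e_rc_18_1 lc_e_rc_27_7 lc_e_rc_18_1 lc_e_rc_18_1 lc_e_rc_19_2 lc_e_Cert_tree lc_e_rc_18_1 lc_e_rc_27_7 lc_e_rc_4_1 lc_e_rc_16_5 lc_e_rc_19_2 lc_e_rc_13_3 lc_e_rc_13_3 lc_e_rc_16_1 lc_e_rc_19_4 lc_e_rc_16_3 lc_e_rc_16_3 lc_e_rc_16_3 lc_e_rc_9_3 lc_e_rc_16_3 lc_e_rc_18_1 lc_e_rc_9_3 lc_e_rc_13_1 lc_e_rc_16_1 lc_e_rc_13_3 lc_e_rc_13_1 lc_e_rc_18_1 lc_e_Cert_tree lc_e_rc_18_1 lc_e_Cert_tree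 lc_e_Cert_tree lc_e_rc_9_1 lc_e_Cert_tree lc_e_rc_4_3) (@D3.rec (fun _ => (Cert rels S Gen.e)) lc_e_rc_18_1 lc_e_rc_18_1 lc_e_rc_19_2 lc_e_rc_27_1 lc_e_rc_13_1 lc_e_rc_18_1 lc_e_rc_27_7 lc_e_rc_19_4 lc_e_rc_4_1 lc_e_rc_13_3 lc_e_rc_9_3 lc_e_rc_27_5 lc_e_rc_13_1 lc_e_rc_9_3 lc_e_rc_16_3 lc_e_rc_18_1 lc_e_rc_27_1 lc_e_rc_27_1 lc_e_rc_18_1 lc_e_rc_18_1 lc_e_rc_13_1 lc_e_rc_18_1 lc_e_rc_19_4 lc_e_rc_13_1 lc_e_rc_9_3 lc_e_rc_27_5 lc_e_rc_13_3 lc_e_rc_27_5 lc_e_rc_18_1 lc_e_Cert_tree lc_e_rc_18_1 lc_e_rc_9_3 lc_e_Cert_tree lc_e_rc_18_1 lc_e_rc_27_5 lc_e_rc_19_2 lc_e_rc_18_1 lc_e_rc_19_4 lc_e_rc_18_1 lc_e_rc_9_1 lc_e_rc_18_1 lc_e_rc_9_3 lc_e_rc_13_3 lc_e_rc_27_7 lc_e_rc_9_1 lc_e_rc_18_1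 lc_e_Cert_tree lc_e_rc_13_3 lc_e_rc_13_1 lc_e_rc_19_2 lc_e_Cert_tree lc_e_rc_18_1 lc_e_rc_18_1 lc_e_Cert_tree lc_e_Cert_tree lc_e_rc_18_1 lc_e_rc_27_7 lc_e_rc_18_1 lc_e_rc_9_1 lc_e_rc_18_1 lc_e_rc_16_3 lc_e_rc_16_1) (@D3.rec (fun _ => (Cert rels S Gen.e)) lc_e_rc_19_4 lc_e_rc_13_1 lc_e_rc_18_1 lc_e_rc_27_7 lc_e_rc_27_5 lc_e_rc_19_4 lc_e_rc_9_3 lc_e_rc_18_1 lc_e_rc_4_1 lc_e_rc_27_1 lc_e_Cert_tree lc_e_rc_13_3 lc_e_rc_9_1 lc_e_Cert_tree lc_e_rc_18_1 lc_e_Cert_tree lc_e_rc_18_1 lc_e_rc_9_3 lc_e_rc_18_1 lc_e_rc_13_1 lc_e_rc_18_1 lc_e_rc_9_3 lc_e_rc_18_1 lc_e_rc_19_2 lc_e_rc_13_3 lc_e_rc_9_1 lc_e_rc_16_3 lc_e_rc_18_1 lc_e_rc_18_1 lc_e_rc_27_1 lc_e_rc_16_1 lc_e_rc_19_2 lc_e_rc_9_3 lc_e_Cert_tree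 lc_e_rc_18_1 lc_e_rc_9_1 lc_e_rc_18_1 lc_e_rc_19_4 lc_e_rc_19_4 lc_e_rc_13_3 lc_e_rc_9_1 lc_e_rc_16_3 lc_e_rc_18_1 lc_e_rc_27_5 lc_e_rc_18_1 lc_e_rc_19_4 lc_e_rc_13_3 lc_e_rc_16_1 lc_e_rc_18_1 lc_e_Cert_tree lc_e_rc_27_1 lc_e_rc_18_1 lc_e_Cert_tree lc_e_rc_4_3 lc_e_rc_18_1 lc_e_Cert_tree lc_e_rc_18_1 lc_e_rc_18_1 lc_e_rc_16_3 lc_e_rc_13_1 lc_e_rc_18_1 lc_e_rc_27_1) (@D3.rec (fun _ => (Cert rels S Gen.e)) lc_e_rc_18_1 lc_e_rc_27_7 lc_e_rc_16_5 lc_e_rc_18_1 lc_e_rc_13_1 lc_e_rc_18_1 lc_e_rc_27_5 lc_e_rc_18_1 lc_e_Cert_tree lc_e_rc_13_1 lc_e_rc_4_3 lc_e_rc_16_3 lc_e_rc_18_1 lc_e_rc_16_1 lc_e_rc_27_1 lc_e_rc_16_1 lc_e_rc_19_2 lc_e_rc_13_3 lc_e_rc_19_4 lc_e_rc_13_1 lc_e_rc_18_1 lc_e_rc_18_1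 lc_e_rc_13_3 lc_e_rc_16_5 lc_e_rc_18_1 lc_e_rc_18_1 lc_e_rc_18_1 lc_e_rc_9_3 lc_e_Cert_tree lc_e_rc_13_3 lc_e_rc_13_3 lc_e_rc_18_1 lc_e_rc_18_1 lc_e_rc_18_1 lc_e_rc_18_1 lc_e_rc_27_5 lc_e_rc_13_1 lc_e_rc_4_3 lc_e_rc_9_3 lc_e_rc_9_3 lc_e_Cert_tree lc_e_rc_27_5 lc_e_rc_18_1 lc_e_rc_27_5 lc_e_rc_27_5 lc_e_rc_13_3 lc_e_rc_19_4 lc_e_rc_9_3 lc_e_rc_18_1 lc_e_rc_18_1 lc_e_rc_4_3 lc_e_rc_27_1 lc_e_rc_4_3 lc_e_rc_27_7 lc_e_rc_27_1 lc_e_Cert_tree lc_e_rc_18_1 lc_e_rc_18_1 lc_e_rc_13_3 lc_e_rc_18_1 lc_e_rc_16_1 lc_e_rc_19_4) (@D3.rec (fun _ => (Cert rels S Gen.e)) lc_e_rc_18_1 lc_e_rc_18_1 lc_e_rc_9_1 lc_e_rc_13_3 lc_e_Cert_tree lc_e_rc_4_3 lc_e_rc_18_1 lc_e_rc_13_3 lc_e_rc_13_3 lc_e_rc_13_3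 lc_e_rc_16_3 lc_e_rc_18_1 lc_e_rc_18_1 lc_e_rc_18_1 lc_e_rc_18_1 lc_e_rc_27_1 lc_e_rc_16_5 lc_e_rc_13_1 lc_e_rc_27_7 lc_e_rc_9_3 lc_e_rc_19_4 lc_e_rc_9_1 lc_e_rc_13_1 lc_e_Cert_tree lc_e_Cert_tree lc_e_rc_27_5 lc_e_rc_18_1 lc_e_rc_27_7 lc_e_rc_4_3 lc_e_rc_18_1 lc_e_rc_18_1 lc_e_rc_27_1 lc_e_rc_16_1 lc_e_rc_19_2 lc_e_rc_18_1 lc_e_rc_18_1 lc_e_Cert_tree lc_e_rc_18_1 lc_e_rc_16_1 lc_e_rc_19_2 lc_e_Cert_tree lc_e_Cert_tree lc_e_rc_18_1 lc_e_Cert_tree lc_e_Cert_tree lc_e_rc_4_1 lc_e_Cert_tree lc_e_rc_18_1 lc_e_rc_16_3 lc_e_rc_19_2 lc_e_rc_4_3 lc_e_rc_27_5 lc_e_rc_13_1 lc_e_rc_18_1 lc_e_rc_13_1 lc_e_rc_9_3 lc_e_rc_4_1 lc_e_rc_13_3 lc_e_rc_27_7 lc_e_rc_18_1 lc_e_rc_9_1 lc_e_rc_18_1)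 (@D3.rec (fun _ => (Cert rels S Gen.e)) lc_e_Cert_tree lc_e_rc_18_1 lc_e_rc_16_5 lc_e_rc_18_1 lc_e_rc_13_1 lc_e_Cert_tree lc_e_Cert_tree lc_e_rc_16_1 lc_e_Cert_tree lc_e_Cert_tree lc_e_Cert_tree lc_e_rc_18_1 lc_e_Cert_tree lc_e_rc_18_1 lc_e_rc_19_0 lc_e_rc_19_0 lc_e_rc_4_1 lc_e_Cert_tree lc_e_rc_27_7 lc_e_rc_13_1 lc_e_rc_18_1 lc_e_rc_9_3 lc_e_rc_27_5 lc_e_rc_19_4 lc_e_rc_16_3 lc_e_rc_18_1 lc_e_rc_18_1 lc_e_rc_19_2 lc_e_rc_18_1 lc_e_rc_19_2 lc_e_rc_9_3 lc_e_rc_16_5 lc_e_Cert_tree lc_e_rc_18_1 lc_e_rc_27_1 lc_e_rc_18_1 lc_e_rc_9_3 lc_e_rc_13_3 lc_e_rc_9_3 lc_e_rc_13_1 lc_e_rc_13_1 lc_e_rc_13_3 lc_e_Cert_tree lc_e_rc_9_3 lc_e_rc_18_1 lc_e_rc_27_1 lc_e_rc_18_1 lc_e_rc_16_1 lc_e_rc_19_2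 lc_e_rc_4_3 lc_e_rc_18_1 lc_e_Cert_tree lc_e_rc_9_3 lc_e_rc_19_4 lc_e_rc_18_1 lc_e_rc_18_1 lc_e_rc_18_1 lc_e_rc_19_4 lc_e_rc_4_1 lc_e_Cert_tree lc_e_rc_18_1 lc_e_rc_27_1) (@D3.rec (fun _ => (Cert rels S Gen.e)) lc_e_rc_19_2 lc_e_rc_9_1 lc_e_rc_13_3 lc_e_rc_16_5 lc_e_Cert_tree lc_e_rc_13_1 lc_e_rc_27_5 lc_e_rc_18_1 lc_e_rc_13_3 lc_e_rc_16_3 lc_e_rc_13_3 lc_e_rc_16_5 lc_e_rc_9_3 lc_e_rc_9_3 lc_e_rc_13_3 lc_e_rc_13_3 lc_e_rc_27_7 lc_e_rc_27_7 lc_e_rc_18_1 lc_e_rc_4_3 lc_e_rc_18_1 lc_e_rc_9_3 lc_e_Cert_tree lc_e_Cert_tree lc_e_rc_16_3 lc_e_Cert_tree lc_e_rc_18_1 lc_e_rc_27_1 lc_e_rc_18_1 lc_e_rc_18_1 lc_e_rc_27_1 lc_e_rc_19_4 lc_e_rc_18_1 lc_e_rc_4_3 lc_e_rc_4_1 lc_e_rc_18_1 lc_e_Cert_tree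 lc_e_rc_18_1 lc_e_rc_4_1 lc_e_Cert_tree lc_e_Cert_tree lc_e_rc_18_1 lc_e_rc_18_1 lc_e_Cert_tree lc_e_rc_13_3 lc_e_rc_19_0 lc_e_Cert_tree lc_e_rc_18_1 lc_e_rc_16_1 lc_e_rc_4_3 lc_e_rc_16_3 lc_e_rc_13_1 lc_e_rc_4_3 lc_e_rc_18_1 lc_e_rc_13_1 lc_e_rc_18_1 lc_e_rc_27_7 lc_e_rc_13_3 lc_e_rc_27_5 lc_e_rc_4_3 lc_e_Cert_tree lc_e_rc_18_1) (@D3.rec (fun _ => (Cert rels S Gen.e)) lc_e_rc_18_1 lc_e_rc_19_2 lc_e_rc_19_4 lc_e_rc_18_1 lc_e_rc_16_5 lc_e_rc_4_3 lc_e_rc_18_1 lc_e_rc_9_3 lc_e_rc_16_5 lc_e_rc_16_3 lc_e_rc_13_3 lc_e_rc_9_3 lc_e_rc_18_1 lc_e_rc_27_1 lc_e_rc_18_1 lc_e_Cert_tree lc_e_Cert_tree lc_e_rc_18_1 lc_e_rc_18_1 lc_e_Cert_tree lc_e_rc_19_4 lc_e_rc_18_1 lc_e_rc_18_1 lc_e_rc_13_3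 lc_e_rc_18_1 lc_e_rc_18_1 lc_e_rc_9_1 lc_e_rc_13_1 lc_e_rc_4_3 lc_e_rc_18_1 lc_e_rc_9_1 lc_e_Cert_tree lc_e_rc_27_1 lc_e_rc_18_1 lc_e_rc_18_1 lc_e_rc_4_3 lc_e_rc_18_1 lc_e_rc_27_5 lc_e_rc_4_3 lc_e_Cert_tree lc_e_rc_18_1 lc_e_rc_13_1 lc_e_rc_18_1 lc_e_rc_13_3 lc_e_Cert_tree lc_e_rc_4_3 lc_e_rc_18_1 lc_e_rc_13_3 lc_e_rc_19_4 lc_e_rc_16_3 lc_e_rc_18_1 lc_e_Cert_tree lc_e_Cert_tree lc_e_rc_18_1 lc_e_Cert_tree lc_e_rc_27_5 lc_e_rc_18_1 lc_e_rc_9_3 lc_e_rc_18_1 lc_e_rc_27_5 lc_e_rc_27_5 lc_e_rc_18_1) (@D3.rec (fun _ => (Cert rels S Gen.e)) lc_e_Cert_tree lc_e_Cert_tree lc_e_rc_18_1 lc_e_rc_13_3 lc_e_rc_16_1 lc_e_rc_16_5 lc_e_rc_9_3 lc_e_rc_27_1 lc_e_Cert_tree lc_e_rc_27_5 lc_e_rc_18_1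 lc_e_rc_27_7 lc_e_Cert_tree lc_e_rc_13_3 lc_e_rc_19_4 lc_e_rc_9_3 lc_e_rc_18_1 lc_e_rc_18_1 lc_e_rc_9_1 lc_e_rc_27_7 lc_e_rc_18_1 lc_e_rc_9_3 lc_e_rc_27_7 lc_e_Cert_tree lc_e_rc_13_1 lc_e_rc_18_1 lc_e_rc_16_1 lc_e_rc_13_3 lc_e_rc_18_1 lc_e_rc_27_1 lc_e_rc_18_1 lc_e_Cert_tree lc_e_rc_27_5 lc_e_rc_18_1 lc_e_Cert_tree lc_e_Cert_tree lc_e_rc_16_3 lc_e_rc_18_1 lc_e_rc_16_3 lc_e_rc_16_1 lc_e_rc_19_4 lc_e_rc_4_3 lc_e_rc_27_7 lc_e_rc_13_1 lc_e_rc_16_5 lc_e_rc_9_3 lc_e_rc_27_1 lc_e_rc_27_5 lc_e_rc_18_1 lc_e_rc_13_1 lc_e_rc_18_1 lc_e_rc_13_3 lc_e_rc_19_4 lc_e_rc_19_4 lc_e_rc_27_1 lc_e_rc_18_1 lc_e_rc_18_1 lc_e_rc_18_1 lc_e_rc_19_0 lc_e_rc_27_1 lc_e_rc_18_1 lc_e_rc_18_1) (@D3.rec (fun _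 => (Cert rels S Gen.e)) lc_e_Cert_tree lc_e_rc_18_1 lc_e_rc_27_1 lc_e_rc_18_1 lc_e_rc_27_7 lc_e_rc_16_1 lc_e_rc_4_3 lc_e_rc_16_3 lc_e_Cert_tree lc_e_rc_18_1 lc_e_rc_16_5 lc_e_rc_13_3 lc_e_Cert_tree lc_e_rc_18_1 lc_e_rc_18_1 lc_e_rc_16_1 lc_e_rc_19_4 lc_e_rc_13_1 lc_e_Cert_tree lc_e_rc_13_3 lc_e_rc_27_1 lc_e_Cert_tree lc_e_rc_27_5 lc_e_rc_18_1 lc_e_rc_27_1 lc_e_rc_16_1 lc_e_rc_13_3 lc_e_rc_19_4 lc_e_rc_9_3 lc_e_Cert_tree lc_e_rc_27_5 lc_e_rc_9_3 lc_e_rc_18_1 lc_e_rc_27_5 lc_e_rc_19_2 lc_e_rc_27_5 lc_e_rc_18_1 lc_e_rc_18_1 lc_e_Cert_tree lc_e_rc_13_3 lc_e_rc_13_3 lc_e_rc_18_1 lc_e_rc_18_1 lc_e_rc_19_2 lc_e_rc_13_3 lc_e_rc_4_1 lc_e_rc_18_1 lc_e_rc_16_5 lc_e_rc_27_7 lc_e_rc_18_1 lc_e_rc_27_1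 lc_e_Cert_tree lc_e_Cert_tree lc_e_rc_18_1 lc_e_rc_27_5 lc_e_rc_18_1 lc_e_rc_18_1 lc_e_rc_9_1 lc_e_rc_4_1 lc_e_rc_18_1 lc_e_rc_9_3 lc_e_rc_18_1)
def ce_e_23 : D2 → D3 → (Cert rels S Gen.e) := @D2.rec (fun _ => D3 → (Cert rels S Gen.e)) (@D3.rec (fun _ => (Cert rels S Gen.e)) lc_e_rc_13_1 lc_e_rc_19_4 lc_e_rc_27_5 lc_e_rc_18_1 lc_e_rc_16_5 lc_e_rc_13_3 lc_e_rc_18_1 lc_e_rc_13_3 lc_e_rc_19_4 lc_e_Cert_tree lc_e_rc_27_1 lc_e_rc_18_1 lc_e_Cert_tree lc_e_rc_18_1 lc_e_rc_16_3 lc_e_rc_13_3 lc_e_rc_19_4 lc_e_rc_9_3 lc_e_rc_4_1 lc_e_Cert_tree lc_e_rc_9_1 lc_e_rc_18_1 lc_e_rc_9_1 lc_e_rc_27_1 lc_e_rc_18_1 lc_e_Cert_tree lc_e_rc_18_1 lc_e_rc_13_1 lc_e_rc_18_1 lc_e_rc_18_1 lc_e_rc_27_1 lc_e_rc_9_3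 lc_e_rc_9_3 lc_e_rc_27_5 lc_e_rc_18_1 lc_e_rc_18_1 lc_e_rc_13_1 lc_e_rc_18_1 lc_e_rc_18_1 lc_e_rc_16_1 lc_e_rc_27_5 lc_e_Cert_tree lc_e_Cert_tree lc_e_rc_18_1 lc_e_Cert_tree lc_e_rc_27_5 lc_e_rc_18_1 lc_e_rc_18_1 lc_e_rc_19_4 lc_e_rc_27_7 lc_e_rc_18_1 lc_e_rc_18_1 lc_e_rc_18_1 lc_e_rc_18_1 lc_e_rc_16_5 lc_e_rc_13_3 lc_e_rc_18_1 lc_e_Cert_tree lc_e_rc_27_1 lc_e_rc_18_1 lc_e_Cert_tree lc_e_rc_4_3) (@D3.rec (fun _ => (Cert rels S Gen.e)) lc_e_rc_4_3 lc_e_rc_19_2 lc_e_rc_18_1 lc_e_rc_4_3 lc_e_rc_18_1 lc_e_rc_9_3 lc_e_rc_9_3 lc_e_rc_19_4 lc_e_rc_18_1 lc_e_rc_18_1 lc_e_rc_18_1 lc_e_rc_27_5 lc_e_rc_18_1 lc_e_Cert_tree lc_e_rc_18_1 lc_e_rc_27_7 lc_e_rc_18_1 lc_e_rc_18_1 lc_e_rc_18_1 lc_e_rc_18_1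 lc_e_Cert_tree lc_e_rc_18_1 lc_e_rc_18_1 lc_e_rc_9_3 lc_e_rc_18_1 lc_e_rc_27_7 lc_e_rc_18_1 lc_e_rc_16_5 lc_e_rc_19_4 lc_e_rc_13_3 lc_e_Cert_tree lc_e_rc_18_1 lc_e_rc_4_3 lc_e_rc_4_3 lc_e_rc_9_1 lc_e_rc_18_1 lc_e_rc_27_5 lc_e_rc_9_3 lc_e_rc_16_1 lc_e_rc_16_5 lc_e_rc_19_2 lc_e_rc_18_1 lc_e_rc_4_3 lc_e_rc_27_5 lc_e_rc_9_3 lc_e_rc_27_7 lc_e_rc_4_3 lc_e_rc_19_4 lc_e_rc_18_1 lc_e_rc_18_1 lc_e_rc_19_4 lc_e_rc_9_3 lc_e_rc_9_3 lc_e_rc_4_3 lc_e_rc_13_3 lc_e_rc_18_1 lc_e_rc_16_5 lc_e_rc_27_5 lc_e_rc_27_5 lc_e_rc_16_5 lc_e_rc_18_1 lc_e_rc_18_1) (@D3.rec (fun _ => (Cert rels S Gen.e)) lc_e_Cert_tree lc_e_rc_19_4 lc_e_rc_18_1 lc_e_rc_19_4 lc_e_rc_27_1 lc_e_rc_18_1 lc_e_rc_19_4 lc_e_rc_9_1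 lc_e_rc_13_1 lc_e_Cert_tree lc_e_rc_18_1 lc_e_rc_9_1 lc_e_rc_13_1 lc_e_rc_27_5 lc_e_rc_18_1 lc_e_rc_9_3 lc_e_rc_18_1 lc_e_rc_18_1 lc_e_rc_18_1 lc_e_rc_13_3 lc_e_rc_19_2 lc_e_rc_18_1 lc_e_rc_27_5 lc_e_rc_18_1 lc_e_rc_9_3 lc_e_rc_18_1 lc_e_rc_13_3 lc_e_rc_18_1 lc_e_rc_27_1 lc_e_rc_18_1 lc_e_rc_18_1 lc_e_rc_4_3 lc_e_rc_18_1 lc_e_rc_18_1 lc_e_rc_27_5 lc_e_rc_16_1 lc_e_rc_4_3 lc_e_rc_9_3 lc_e_rc_16_1 lc_e_rc_19_4 lc_e_rc_18_1 lc_e_rc_27_1 lc_e_rc_18_1 lc_e_rc_18_1 lc_e_rc_4_3 lc_e_rc_27_5 lc_e_rc_4_1 lc_e_rc_13_3 lc_e_rc_16_3 lc_e_rc_19_2 lc_e_rc_9_3 lc_e_rc_13_3 lc_e_rc_9_1 lc_e_rc_18_1 lc_e_rc_18_1 lc_e_rc_18_1 lc_e_Cert_tree lc_e_rc_19_4 lc_e_rc_18_1 lc_e_rc_27_5 lc_e_rc_9_3 lc_e_rc_19_2)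 (@D3.rec (fun _ => (Cert rels S Gen.e)) lc_e_rc_18_1 lc_e_Cert_tree lc_e_rc_18_1 lc_e_rc_9_3 lc_e_Cert_tree lc_e_rc_16_3 lc_e_rc_19_4 lc_e_rc_13_1 lc_e_rc_18_1 lc_e_rc_18_1 lc_e_rc_13_3 lc_e_rc_27_5 lc_e_rc_27_5 lc_e_rc_18_1 lc_e_rc_9_3 lc_e_rc_4_3 lc_e_rc_9_3 lc_e_rc_27_5 lc_e_rc_18_1 lc_e_rc_9_3 lc_e_rc_4_1 lc_e_rc_27_7 lc_e_Cert_tree lc_e_rc_27_7 lc_e_rc_9_3 lc_e_rc_18_1 lc_e_rc_27_5 lc_e_rc_18_1 lc_e_Cert_tree lc_e_rc_27_5 lc_e_rc_18_1 lc_e_rc_13_3 lc_e_rc_18_1 lc_e_rc_18_1 lc_e_rc_16_5 lc_e_rc_13_3 lc_e_rc_18_1 lc_e_rc_13_3 lc_e_rc_18_1 lc_e_rc_27_7 lc_e_rc_27_1 lc_e_rc_19_4 lc_e_rc_18_1 lc_e_rc_4_3 lc_e_rc_18_1 lc_e_rc_19_0 lc_e_rc_13_3 lc_e_rc_16_5 lc_e_rc_18_1 lc_e_rc_18_1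 lc_e_rc_18_1 lc_e_rc_13_3 lc_e_rc_13_1 lc_e_rc_4_3 lc_e_rc_18_1 lc_e_rc_27_5 lc_e_rc_9_3 lc_e_rc_16_5 lc_e_rc_19_4 lc_e_rc_9_1 lc_e_rc_4_3 lc_e_rc_18_1) (@D3.rec (fun _ => (Cert rels S Gen.e)) lc_e_rc_27_1 lc_e_rc_18_1 lc_e_rc_27_5 lc_e_rc_16_5 lc_e_rc_19_2 lc_e_rc_19_0 lc_e_rc_13_1 lc_e_rc_27_7 lc_e_rc_18_1 lc_e_rc_13_3 lc_e_rc_9_1 lc_e_rc_27_1 lc_e_rc_19_2 lc_e_rc_9_3 lc_e_rc_18_1 lc_e_rc_19_2 lc_e_rc_4_3 lc_e_rc_9_3 lc_e_rc_9_3 lc_e_Cert_tree lc_e_rc_18_1 lc_e_rc_18_1 lc_e_rc_19_4 lc_e_rc_9_3 lc_e_rc_18_1 lc_e_Cert_tree lc_e_rc_18_1 lc_e_rc_9_3 lc_e_rc_27_1 lc_e_Cert_tree lc_e_rc_18_1 lc_e_rc_18_1 lc_e_rc_19_2 lc_e_rc_27_5 lc_e_rc_9_3 lc_e_rc_16_5 lc_e_rc_9_1 lc_e_rc_27_5 lc_e_rc_18_1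 lc_e_rc_16_3 lc_e_rc_13_3 lc_e_rc_19_2 lc_e_rc_19_2 lc_e_Cert_tree lc_e_rc_13_3 lc_e_rc_27_5 lc_e_rc_18_1 lc_e_Cert_tree lc_e_rc_18_1 lc_e_rc_27_1 lc_e_rc_18_1 lc_e_Cert_tree lc_e_rc_18_1 lc_e_rc_9_3 lc_e_rc_18_1 lc_e_rc_27_5 lc_e_Cert_tree lc_e_rc_18_1 lc_e_rc_18_1 lc_e_Cert_tree lc_e_rc_18_1 lc_e_rc_18_1) (@D3.rec (fun _ => (Cert rels S Gen.e)) lc_e_rc_19_4 lc_e_rc_4_1 lc_e_rc_18_1 lc_e_rc_13_3 lc_e_rc_19_4 lc_e_rc_13_3 lc_e_Cert_tree lc_e_rc_18_1 lc_e_rc_18_1 lc_e_Cert_tree lc_e_rc_18_1 lc_e_rc_18_1 lc_e_rc_18_1 lc_e_rc_27_1 lc_e_rc_9_3 lc_e_rc_19_4 lc_e_rc_18_1 lc_e_Cert_tree lc_e_Cert_tree lc_e_rc_4_1 lc_e_rc_9_1 lc_e_rc_19_2 lc_e_rc_18_1 lc_e_rc_18_1 lc_e_rc_18_1 lc_e_rc_18_1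 lc_e_rc_18_1 lc_e_rc_18_1 lc_e_rc_18_1 lc_e_rc_18_1 lc_e_rc_18_1 lc_e_rc_27_1 lc_e_rc_19_4 lc_e_rc_9_3 lc_e_rc_18_1 lc_e_rc_13_3 lc_e_rc_18_1 lc_e_rc_19_4 lc_e_rc_18_1 lc_e_rc_4_3 lc_e_rc_13_3 lc_e_rc_9_3 lc_e_rc_13_3 lc_e_rc_9_3 lc_e_rc_19_4 lc_e_rc_18_1 lc_e_Cert_tree lc_e_rc_27_1 lc_e_rc_16_3 lc_e_rc_19_2 lc_e_rc_16_3 lc_e_rc_19_4 lc_e_rc_9_3 lc_e_rc_18_1 lc_e_Cert_tree lc_e_Cert_tree lc_e_rc_19_4 lc_e_rc_13_3 lc_e_rc_27_1 lc_e_rc_9_1 lc_e_rc_27_5 lc_e_rc_18_1) (@D3.rec (fun _ => (Cert rels S Gen.e)) lc_e_rc_18_1 lc_e_rc_27_5 lc_e_rc_4_1 lc_e_rc_18_1 lc_e_rc_18_1 lc_e_rc_9_1 lc_e_rc_18_1 lc_e_rc_13_3 lc_e_rc_18_1 lc_e_rc_16_5 lc_e_rc_9_3 lc_e_rc_18_1 lc_e_rc_18_1 lc_e_rc_18_1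 lc_e_rc_16_1 lc_e_rc_18_1 lc_e_rc_9_3 lc_e_rc_27_7 lc_e_rc_27_7 lc_e_rc_18_1 lc_e_rc_16_1 lc_e_rc_27_5 lc_e_rc_27_5 lc_e_rc_19_4 lc_e_rc_27_7 lc_e_rc_19_0 lc_e_rc_18_1 lc_e_rc_4_3 lc_e_rc_18_1 lc_e_rc_4_1 lc_e_rc_13_1 lc_e_rc_18_1 lc_e_rc_16_3 lc_e_rc_18_1 lc_e_rc_18_1 lc_e_rc_9_1 lc_e_rc_18_1 lc_e_rc_18_1 lc_e_rc_27_1 lc_e_rc_27_5 lc_e_rc_27_7 lc_e_rc_16_3 lc_e_rc_16_5 lc_e_rc_18_1 lc_e_rc_13_1 lc_e_rc_18_1 lc_e_rc_9_3 lc_e_rc_4_3 lc_e_rc_9_1 lc_e_rc_4_3 lc_e_rc_16_3 lc_e_Cert_tree lc_e_rc_18_1 lc_e_rc_13_3 lc_e_rc_13_3 lc_e_rc_19_4 lc_e_rc_18_1 lc_e_rc_27_5 lc_e_rc_18_1 lc_e_rc_13_1 lc_e_rc_18_1 lc_e_rc_18_1) (@D3.rec (fun _ => (Cert rels S Gen.e)) lc_e_rc_9_1 lc_e_rc_13_3 lc_e_rc_18_1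 lc_e_rc_13_3 lc_e_rc_9_3 lc_e_Cert_tree lc_e_rc_19_4 lc_e_rc_9_1 lc_e_rc_18_1 lc_e_rc_18_1 lc_e_Cert_tree lc_e_rc_18_1 lc_e_rc_9_3 lc_e_rc_4_1 lc_e_rc_18_1 lc_e_rc_18_1 lc_e_rc_19_4 lc_e_rc_13_3 lc_e_rc_13_3 lc_e_rc_19_4 lc_e_rc_27_5 lc_e_rc_16_1 lc_e_rc_18_1 lc_e_rc_16_3 lc_e_rc_27_7 lc_e_Cert_tree lc_e_rc_19_4 lc_e_rc_4_3 lc_e_rc_18_1 lc_e_rc_18_1 lc_e_rc_27_5 lc_e_rc_4_1 lc_e_rc_4_1 lc_e_rc_9_1 lc_e_rc_18_1 lc_e_rc_18_1 lc_e_rc_18_1 lc_e_rc_18_1 lc_e_rc_18_1 lc_e_Cert_tree lc_e_rc_18_1 lc_e_rc_18_1 lc_e_rc_4_3 lc_e_rc_9_3 lc_e_rc_18_1 lc_e_rc_27_5 lc_e_rc_16_5 lc_e_rc_16_1 lc_e_rc_16_5 lc_e_rc_13_3 lc_e_rc_16_5 lc_e_rc_9_1 lc_e_rc_18_1 lc_e_rc_16_1 lc_e_rc_19_4 lc_e_Cert_tree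 lc_e_Cert_tree lc_e_rc_18_1 lc_e_rc_18_1 lc_e_rc_19_2 lc_e_rc_19_4 lc_e_rc_16_1) (@D3.rec (fun _ => (Cert rels S Gen.e)) lc_e_rc_9_1 lc_e_rc_18_1 lc_e_Cert_tree lc_e_rc_27_1 lc_e_rc_18_1 lc_e_rc_18_1 lc_e_rc_18_1 lc_e_rc_18_1 lc_e_rc_27_5 lc_e_rc_16_5 lc_e_rc_4_1 lc_e_rc_13_1 lc_e_rc_9_1 lc_e_rc_18_1 lc_e_rc_18_1 lc_e_rc_16_5 lc_e_rc_27_5 lc_e_rc_13_3 lc_e_rc_18_1 lc_e_Cert_tree lc_e_rc_18_1 lc_e_rc_18_1 lc_e_rc_16_5 lc_e_Cert_tree lc_e_rc_16_1 lc_e_rc_19_4 lc_e_rc_13_1 lc_e_rc_9_3 lc_e_Cert_tree lc_e_rc_27_5 lc_e_rc_18_1 lc_e_Cert_tree lc_e_rc_18_1 lc_e_rc_19_4 lc_e_rc_9_3 lc_e_Cert_tree lc_e_rc_18_1 lc_e_rc_9_3 lc_e_rc_13_3 lc_e_rc_16_1 lc_e_rc_13_1 lc_e_rc_18_1 lc_e_rc_9_3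 lc_e_rc_27_5 lc_e_rc_16_5 lc_e_Cert_tree lc_e_rc_18_1 lc_e_rc_18_1 lc_e_rc_13_3 lc_e_rc_16_3 lc_e_rc_19_4 lc_e_rc_4_1 lc_e_rc_18_1 lc_e_rc_13_3 lc_e_rc_18_1 lc_e_rc_16_5 lc_e_rc_27_5 lc_e_rc_18_1 lc_e_rc_18_1 lc_e_rc_27_1 lc_e_rc_27_1 lc_e_rc_18_1) (@D3.rec (fun _ => (Cert rels S Gen.e)) lc_e_rc_18_1 lc_e_rc_13_1 lc_e_Cert_tree lc_e_rc_13_1 lc_e_rc_4_1 lc_e_rc_13_3 lc_e_rc_27_1 lc_e_rc_27_5 lc_e_rc_18_1 lc_e_rc_16_1 lc_e_rc_13_3 lc_e_rc_16_5 lc_e_rc_18_1 lc_e_rc_18_1 lc_e_rc_16_1 lc_e_rc_16_5 lc_e_rc_27_1 lc_e_rc_16_3 lc_e_rc_16_5 lc_e_Cert_tree lc_e_rc_18_1 lc_e_rc_18_1 lc_e_rc_13_3 lc_e_rc_18_1 lc_e_rc_19_4 lc_e_Cert_tree lc_e_rc_27_5 lc_e_rc_18_1 lc_e_rc_9_1 lc_e_rc_13_1 lc_e_rc_27_5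 lc_e_rc_18_1 lc_e_rc_9_3 lc_e_rc_13_3 lc_e_rc_19_4 lc_e_rc_18_1 lc_e_rc_16_1 lc_e_rc_16_3 lc_e_rc_19_2 lc_e_rc_27_1 lc_e_rc_18_1 lc_e_rc_16_1 lc_e_rc_16_5 lc_e_Cert_tree lc_e_rc_13_1 lc_e_rc_18_1 lc_e_rc_9_1 lc_e_rc_9_3 lc_e_rc_9_3 lc_e_rc_13_1 lc_e_Cert_tree lc_e_rc_16_1 lc_e_Cert_tree lc_e_rc_13_1 lc_e_rc_27_1 lc_e_rc_18_1 lc_e_rc_13_3 lc_e_rc_27_5 lc_e_rc_16_3 lc_e_Cert_tree lc_e_rc_18_1 lc_e_rc_4_1) (@D3.rec (fun _ => (Cert rels S Gen.e)) lc_e_rc_16_3 lc_e_rc_9_1 lc_e_rc_18_1 lc_e_rc_27_7 lc_e_rc_9_3 lc_e_rc_18_1 lc_e_Cert_tree lc_e_rc_18_1 lc_e_rc_18_1 lc_e_rc_27_1 lc_e_rc_9_1 lc_e_rc_9_3 lc_e_rc_18_1 lc_e_rc_9_1 lc_e_rc_18_1 lc_e_Cert_tree lc_e_rc_4_3 lc_e_rc_27_5 lc_e_rc_19_4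 lc_e_rc_18_1 lc_e_rc_4_3 lc_e_rc_18_1 lc_e_rc_9_3 lc_e_rc_18_1 lc_e_rc_18_1 lc_e_rc_16_3 lc_e_rc_19_4 lc_e_rc_9_1 lc_e_rc_13_1 lc_e_rc_4_1 lc_e_rc_18_1 lc_e_rc_18_1 lc_e_rc_18_1 lc_e_rc_18_1 lc_e_rc_18_1 lc_e_rc_19_0 lc_e_rc_19_4 lc_e_rc_18_1 lc_e_rc_16_3 lc_e_rc_19_4 lc_e_Cert_tree lc_e_Cert_tree lc_e_rc_19_0 lc_e_rc_18_1 lc_e_rc_16_5 lc_e_rc_13_3 lc_e_rc_16_1 lc_e_rc_13_3 lc_e_rc_27_5 lc_e_rc_18_1 lc_e_rc_9_3 lc_e_rc_18_1 lc_e_rc_27_5 lc_e_rc_18_1 lc_e_rc_19_2 lc_e_rc_16_5 lc_e_rc_13_3 lc_e_rc_13_3 lc_e_rc_9_1 lc_e_rc_13_3 lc_e_rc_18_1 lc_e_rc_19_4) (@D3.rec (fun _ => (Cert rels S Gen.e)) lc_e_rc_27_1 lc_e_rc_27_1 lc_e_rc_16_5 lc_e_Cert_tree lc_e_rc_18_1 lc_e_rc_27_1 lc_e_rc_19_4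 lc_e_rc_18_1 lc_e_rc_18_1 lc_e_rc_19_4 lc_e_rc_27_5 lc_e_rc_13_1 lc_e_rc_19_4 lc_e_rc_9_3 lc_e_rc_19_4 lc_e_Cert_tree lc_e_rc_13_3 lc_e_rc_9_3 lc_e_rc_18_1 lc_e_rc_9_3 lc_e_rc_9_3 lc_e_rc_16_3 lc_e_rc_4_1 lc_e_rc_27_5 lc_e_Cert_tree lc_e_rc_4_3 lc_e_rc_18_1 lc_e_rc_9_1 lc_e_rc_13_1 lc_e_rc_18_1 lc_e_rc_18_1 lc_e_rc_18_1 lc_e_rc_18_1 lc_e_Cert_tree lc_e_rc_18_1 lc_e_Cert_tree lc_e_rc_18_1 lc_e_rc_19_4 lc_e_rc_27_5 lc_e_rc_4_1 lc_e_rc_13_3 lc_e_rc_9_3 lc_e_rc_18_1 lc_e_rc_13_3 lc_e_Cert_tree lc_e_rc_9_3 lc_e_rc_16_1 lc_e_rc_18_1 lc_e_rc_13_3 lc_e_rc_19_4 lc_e_Cert_tree lc_e_rc_18_1 lc_e_rc_16_3 lc_e_rc_13_3 lc_e_rc_13_3 lc_e_rc_18_1 lc_e_rc_18_1 lc_e_rc_13_1 lc_e_rc_13_3 lc_e_rc_18_1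 lc_e_rc_18_1 lc_e_rc_16_3) (@D3.rec (fun _ => (Cert rels S Gen.e)) lc_e_rc_9_3 lc_e_rc_13_3 lc_e_rc_27_1 lc_e_rc_18_1 lc_e_rc_27_7 lc_e_rc_19_4 lc_e_rc_18_1 lc_e_rc_27_7 lc_e_Cert_tree lc_e_Cert_tree lc_e_rc_27_1 lc_e_rc_27_1 lc_e_rc_18_1 lc_e_rc_13_3 lc_e_rc_27_5 lc_e_rc_9_3 lc_e_rc_19_4 lc_e_rc_18_1 lc_e_rc_18_1 lc_e_rc_18_1 lc_e_rc_19_4 lc_e_rc_9_1 lc_e_rc_19_0 lc_e_rc_18_1 lc_e_rc_9_1 lc_e_rc_9_1 lc_e_rc_27_5 lc_e_Cert_tree lc_e_rc_18_1 lc_e_rc_9_1 lc_e_rc_16_3 lc_e_rc_18_1 lc_e_rc_18_1 lc_e_rc_9_3 lc_e_rc_18_1 lc_e_rc_4_1 lc_e_rc_9_3 lc_e_rc_18_1 lc_e_rc_18_1 lc_e_rc_13_3 lc_e_rc_18_1 lc_e_rc_18_1 lc_e_rc_27_5 lc_e_rc_16_1 lc_e_rc_18_1 lc_e_rc_18_1 lc_e_rc_13_3 lc_e_rc_9_3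 lc_e_rc_19_4 lc_e_rc_16_1 lc_e_rc_18_1 lc_e_Cert_tree lc_e_rc_27_7 lc_e_rc_18_1 lc_e_rc_27_1 lc_e_rc_18_1 lc_e_rc_18_1 lc_e_rc_19_4 lc_e_Cert_tree lc_e_Cert_tree lc_e_rc_13_1 lc_e_rc_4_3) (@D3.rec (fun _ => (Cert rels S Gen.e)) lc_e_rc_18_1 lc_e_rc_18_1 lc_e_rc_18_1 lc_e_rc_18_1 lc_e_rc_16_1 lc_e_rc_4_3 lc_e_rc_18_1 lc_e_rc_4_1 lc_e_rc_9_3 lc_e_rc_4_3 lc_e_rc_27_5 lc_e_rc_9_3 lc_e_rc_16_3 lc_e_Cert_tree lc_e_rc_27_1 lc_e_Cert_tree lc_e_rc_18_1 lc_e_rc_27_5 lc_e_rc_18_1 lc_e_Cert_tree lc_e_rc_13_3 lc_e_rc_19_4 lc_e_rc_4_3 lc_e_rc_13_3 lc_e_rc_9_3 lc_e_rc_19_0 lc_e_rc_18_1 lc_e_rc_4_3 lc_e_rc_19_2 lc_e_rc_9_3 lc_e_rc_9_3 lc_e_rc_13_1 lc_e_rc_27_5 lc_e_rc_16_5 lc_e_rc_27_1 lc_e_Cert_tree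 lc_e_rc_27_5 lc_e_rc_18_1 lc_e_rc_19_4 lc_e_rc_13_3 lc_e_rc_27_5 lc_e_rc_13_3 lc_e_rc_18_1 lc_e_rc_27_5 lc_e_rc_18_1 lc_e_rc_27_5 lc_e_rc_18_1 lc_e_rc_27_5 lc_e_rc_18_1 lc_e_rc_27_5 lc_e_rc_18_1 lc_e_rc_4_1 lc_e_rc_18_1 lc_e_rc_9_1 lc_e_rc_18_1 lc_e_rc_27_1 lc_e_rc_18_1 lc_e_rc_13_3 lc_e_rc_19_4 lc_e_rc_16_3 lc_e_rc_9_3 lc_e_rc_9_3) (@D3.rec (fun _ => (Cert rels S Gen.e)) lc_e_rc_16_1 lc_e_rc_19_4 lc_e_rc_18_1 lc_e_rc_13_3 lc_e_rc_13_3 lc_e_rc_13_1 lc_e_Cert_tree lc_e_rc_18_1 lc_e_rc_19_2 lc_e_rc_16_3 lc_e_rc_18_1 lc_e_rc_18_1 lc_e_Cert_tree lc_e_rc_18_1 lc_e_rc_18_1 lc_e_rc_16_1 lc_e_rc_19_4 lc_e_Cert_tree lc_e_rc_18_1 lc_e_rc_4_1 lc_e_rc_13_3 lc_e_rc_4_3 lc_e_Cert_tree lc_e_rc_13_1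 lc_e_rc_18_1 lc_e_rc_9_1 lc_e_Cert_tree lc_e_rc_18_1 lc_e_rc_18_1 lc_e_Cert_tree lc_e_rc_18_1 lc_e_rc_16_5 lc_e_rc_27_7 lc_e_rc_9_1 lc_e_rc_18_1 lc_e_rc_19_2 lc_e_rc_16_5 lc_e_rc_19_4 lc_e_rc_18_1 lc_e_rc_16_1 lc_e_rc_16_3 lc_e_rc_18_1 lc_e_rc_18_1 lc_e_rc_18_1 lc_e_rc_18_1 lc_e_rc_13_3 lc_e_rc_18_1 lc_e_rc_18_1 lc_e_rc_27_5 lc_e_rc_18_1 lc_e_rc_4_3 lc_e_rc_18_1 lc_e_rc_27_5 lc_e_rc_18_1 lc_e_rc_18_1 lc_e_rc_13_3 lc_e_rc_18_1 lc_e_rc_9_3 lc_e_rc_18_1 lc_e_rc_4_1 lc_e_Cert_tree lc_e_rc_18_1) (@D3.rec (fun _ => (Cert rels S Gen.e)) lc_e_rc_13_3 lc_e_rc_13_3 lc_e_rc_9_3 lc_e_rc_16_1 lc_e_rc_13_3 lc_e_rc_18_1 lc_e_rc_27_5 lc_e_Cert_tree lc_e_rc_27_1 lc_e_Cert_tree lc_e_Cert_tree lc_e_rc_18_1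 lc_e_Cert_tree lc_e_rc_13_1 lc_e_Cert_tree lc_e_rc_18_1 lc_e_rc_18_1 lc_e_Cert_tree lc_e_Cert_tree lc_e_rc_19_2 lc_e_rc_18_1 lc_e_rc_19_4 lc_e_rc_19_4 lc_e_Cert_tree lc_e_rc_18_1 lc_e_rc_13_3 lc_e_rc_4_3 lc_e_rc_18_1 lc_e_rc_27_1 lc_e_Cert_tree lc_e_rc_4_3 lc_e_Cert_tree lc_e_Cert_tree lc_e_rc_13_3 lc_e_rc_18_1 lc_e_rc_18_1 lc_e_rc_13_3 lc_e_rc_18_1 lc_e_rc_9_3 lc_e_rc_4_3 lc_e_Cert_tree lc_e_rc_18_1 lc_e_rc_27_5 lc_e_rc_27_7 lc_e_rc_16_5 lc_e_rc_13_3 lc_e_rc_27_5 lc_e_Cert_tree lc_e_rc_18_1 lc_e_rc_13_1 lc_e_rc_27_7 lc_e_rc_19_2 lc_e_rc_18_1 lc_e_rc_18_1 lc_e_rc_27_5 lc_e_rc_18_1 lc_e_Cert_tree lc_e_rc_18_1 lc_e_rc_18_1 lc_e_rc_18_1 lc_e_rc_19_4 lc_e_Cert_tree) (@D3.rec (fun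 _ => (Cert rels S Gen.e)) lc_e_rc_18_1 lc_e_Cert_tree lc_e_rc_18_1 lc_e_rc_9_3 lc_e_rc_27_5 lc_e_rc_27_5 lc_e_rc_18_1 lc_e_rc_27_5 lc_e_rc_16_3 lc_e_rc_13_1 lc_e_rc_9_1 lc_e_rc_13_1 lc_e_rc_27_1 lc_e_Cert_tree lc_e_rc_27_5 lc_e_rc_18_1 lc_e_rc_19_2 lc_e_rc_9_3 lc_e_rc_18_1 lc_e_rc_18_1 lc_e_Cert_tree lc_e_rc_18_1 lc_e_rc_27_1 lc_e_rc_9_3 lc_e_rc_19_2 lc_e_Cert_tree lc_e_rc_18_1 lc_e_rc_18_1 lc_e_rc_16_3 lc_e_rc_19_4 lc_e_Cert_tree lc_e_rc_18_1 lc_e_rc_18_1 lc_e_rc_9_3 lc_e_rc_13_3 lc_e_rc_16_3 lc_e_rc_16_5 lc_e_rc_9_1 lc_e_rc_18_1 lc_e_rc_9_3 lc_e_Cert_tree lc_e_rc_16_3 lc_e_rc_19_4 lc_e_rc_9_3 lc_e_rc_13_3 lc_e_rc_27_5 lc_e_Cert_tree lc_e_rc_27_7 lc_e_rc_18_1 lc_e_rc_9_3 lc_e_rc_4_3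 lc_e_rc_18_1 lc_e_rc_16_5 lc_e_rc_18_1 lc_e_rc_16_5 lc_e_rc_27_1 lc_e_rc_19_2 lc_e_rc_27_1 lc_e_rc_27_1 lc_e_rc_18_1 lc_e_rc_27_5 lc_e_rc_16_3) (@D3.rec (fun _ => (Cert rels S Gen.e)) lc_e_rc_19_4 lc_e_Cert_tree lc_e_rc_18_1 lc_e_rc_18_1 lc_e_rc_9_3 lc_e_rc_9_3 lc_e_rc_18_1 lc_e_Cert_tree lc_e_Cert_tree lc_e_rc_18_1 lc_e_rc_16_3 lc_e_rc_19_4 lc_e_rc_9_1 lc_e_Cert_tree lc_e_rc_9_3 lc_e_Cert_tree lc_e_Cert_tree lc_e_rc_9_1 lc_e_rc_18_1 lc_e_rc_19_0 lc_e_rc_18_1 lc_e_Cert_tree lc_e_Cert_tree lc_e_rc_18_1 lc_e_rc_27_1 lc_e_rc_18_1 lc_e_rc_4_1 lc_e_rc_9_3 lc_e_Cert_tree lc_e_rc_13_1 lc_e_rc_18_1 lc_e_rc_13_3 lc_e_Cert_tree lc_e_rc_19_4 lc_e_Cert_tree lc_e_rc_13_1 lc_e_rc_4_3 lc_e_rc_18_1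 lc_e_rc_13_1 lc_e_rc_27_1 lc_e_rc_18_1 lc_e_rc_27_1 lc_e_rc_9_3 lc_e_rc_27_5 lc_e_rc_27_1 lc_e_rc_27_1 lc_e_rc_18_1 lc_e_rc_13_1 lc_e_rc_18_1 lc_e_rc_27_7 lc_e_rc_18_1 lc_e_rc_18_1 lc_e_Cert_tree lc_e_rc_19_2 lc_e_rc_18_1 lc_e_rc_13_1 lc_e_rc_18_1 lc_e_rc_9_1 lc_e_rc_13_3 lc_e_rc_27_5 lc_e_rc_13_3 lc_e_rc_16_5) (@D3.rec (fun _ => (Cert rels S Gen.e)) lc_e_rc_13_3 lc_e_rc_18_1 lc_e_rc_27_1 lc_e_rc_27_1 lc_e_rc_16_1 lc_e_rc_9_1 lc_e_rc_9_3 lc_e_rc_4_3 lc_e_rc_18_1 lc_e_rc_9_1 lc_e_rc_18_1 lc_e_rc_18_1 lc_e_rc_16_5 lc_e_rc_16_5 lc_e_rc_9_1 lc_e_rc_18_1 lc_e_rc_9_3 lc_e_rc_16_5 lc_e_rc_27_1 lc_e_Cert_tree lc_e_rc_13_3 lc_e_rc_18_1 lc_e_rc_13_3 lc_e_rc_19_4 lc_e_rc_9_3 lc_e_rc_18_1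 lc_e_rc_9_3 lc_e_rc_27_5 lc_e_rc_18_1 lc_e_rc_9_3 lc_e_rc_27_5 lc_e_rc_9_3 lc_e_rc_18_1 lc_e_rc_9_3 lc_e_rc_18_1 lc_e_rc_13_3 lc_e_rc_18_1 lc_e_rc_4_3 lc_e_rc_9_3 lc_e_Cert_tree lc_e_rc_18_1 lc_e_rc_16_3 lc_e_rc_19_4 lc_e_rc_19_0 lc_e_rc_13_1 lc_e_rc_16_1 lc_e_rc_18_1 lc_e_rc_13_1 lc_e_rc_13_3 lc_e_rc_27_5 lc_e_rc_19_4 lc_e_Cert_tree lc_e_rc_18_1 lc_e_rc_9_3 lc_e_rc_18_1 lc_e_rc_19_4 lc_e_rc_18_1 lc_e_rc_18_1 lc_e_rc_18_1 lc_e_rc_18_1 lc_e_rc_27_7 lc_e_rc_9_3) (@D3.rec (fun _ => (Cert rels S Gen.e)) lc_e_rc_18_1 lc_e_rc_18_1 lc_e_Cert_tree lc_e_rc_13_3 lc_e_rc_16_1 lc_e_rc_13_1 lc_e_Cert_tree lc_e_rc_13_1 lc_e_rc_16_3 lc_e_rc_18_1 lc_e_rc_13_3 lc_e_rc_18_1 lc_e_rc_16_3 lc_e_rc_13_3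 lc_e_Cert_tree lc_e_rc_9_3 lc_e_rc_9_3 lc_e_rc_9_3 lc_e_rc_4_3 lc_e_rc_18_1 lc_e_rc_27_7 lc_e_rc_18_1 lc_e_rc_9_3 lc_e_rc_18_1 lc_e_rc_18_1 lc_e_rc_18_1 lc_e_rc_9_1 lc_e_rc_18_1 lc_e_rc_27_5 lc_e_rc_18_1 lc_e_rc_9_3 lc_e_rc_18_1 lc_e_rc_13_1 lc_e_rc_18_1 lc_e_rc_9_3 lc_e_rc_13_1 lc_e_rc_13_3 lc_e_rc_13_3 lc_e_rc_16_3 lc_e_rc_13_3 lc_e_rc_13_3 lc_e_rc_18_1 lc_e_rc_18_1 lc_e_rc_9_3 lc_e_rc_27_1 lc_e_rc_9_3 lc_e_rc_13_3 lc_e_rc_18_1 lc_e_rc_18_1 lc_e_rc_18_1 lc_e_rc_19_2 lc_e_rc_18_1 lc_e_rc_27_7 lc_e_rc_13_1 lc_e_rc_27_1 lc_e_rc_18_1 lc_e_rc_27_1 lc_e_rc_19_2 lc_e_rc_4_3 lc_e_rc_18_1 lc_e_rc_19_2 lc_e_rc_27_1) (@D3.rec (fun _ => (Cert rels S Gen.e)) lc_e_rc_18_1 lc_e_rc_16_5 lc_e_rc_19_2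 lc_e_rc_13_1 lc_e_Cert_tree lc_e_rc_18_1 lc_e_rc_19_2 lc_e_rc_13_1 lc_e_rc_9_3 lc_e_rc_18_1 lc_e_rc_27_7 lc_e_rc_9_3 lc_e_rc_18_1 lc_e_rc_4_3 lc_e_rc_19_4 lc_e_rc_19_2 lc_e_rc_16_5 lc_e_rc_9_3 lc_e_rc_18_1 lc_e_rc_9_3 lc_e_rc_13_3 lc_e_rc_9_1 lc_e_rc_13_1 lc_e_rc_18_1 lc_e_rc_27_5 lc_e_rc_27_1 lc_e_rc_27_5 lc_e_rc_18_1 lc_e_rc_18_1 lc_e_rc_27_1 lc_e_rc_27_5 lc_e_rc_27_7 lc_e_rc_13_3 lc_e_rc_18_1 lc_e_rc_18_1 lc_e_rc_18_1 lc_e_rc_27_5 lc_e_rc_18_1 lc_e_rc_9_3 lc_e_rc_4_1 lc_e_rc_13_1 lc_e_rc_27_7 lc_e_rc_27_7 lc_e_rc_18_1 lc_e_rc_27_7 lc_e_rc_4_1 lc_e_Cert_tree lc_e_rc_18_1 lc_e_rc_13_1 lc_e_rc_13_1 lc_e_rc_19_2 lc_e_rc_19_4 lc_e_rc_13_3 lc_e_rc_27_1 lc_e_rc_13_1 lc_e_rc_27_5 lc_e_rc_18_1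 lc_e_rc_27_5 lc_e_rc_18_1 lc_e_rc_13_1 lc_e_rc_18_1 lc_e_Cert_tree) (@D3.rec (fun _ => (Cert rels S Gen.e)) lc_e_rc_27_5 lc_e_rc_18_1 lc_e_Cert_tree lc_e_rc_18_1 lc_e_rc_18_1 lc_e_rc_27_1 lc_e_rc_27_7 lc_e_rc_13_1 lc_e_rc_27_5 lc_e_rc_18_1 lc_e_rc_16_3 lc_e_rc_19_4 lc_e_rc_27_1 lc_e_rc_27_1 lc_e_rc_9_3 lc_e_rc_13_3 lc_e_rc_19_4 lc_e_rc_4_3 lc_e_rc_13_3 lc_e_rc_19_2 lc_e_rc_18_1 lc_e_rc_18_1 lc_e_rc_18_1 lc_e_rc_27_5 lc_e_rc_27_1 lc_e_rc_16_1 lc_e_rc_16_5 lc_e_rc_18_1 lc_e_rc_27_5 lc_e_rc_13_1 lc_e_rc_13_1 lc_e_rc_18_1 lc_e_rc_13_3 lc_e_rc_16_5 lc_e_rc_27_5 lc_e_rc_18_1 lc_e_rc_27_1 lc_e_rc_27_1 lc_e_rc_18_1 lc_e_rc_27_5 lc_e_rc_18_1 lc_e_rc_13_1 lc_e_rc_18_1 lc_e_rc_27_1 lc_e_rc_13_3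 lc_e_rc_18_1 lc_e_Cert_tree lc_e_rc_16_5 lc_e_rc_4_3 lc_e_rc_19_4 lc_e_rc_13_3 lc_e_rc_27_7 lc_e_rc_16_3 lc_e_rc_13_3 lc_e_rc_19_4 lc_e_rc_4_3 lc_e_rc_9_3 lc_e_rc_27_1 lc_e_rc_13_3 lc_e_rc_18_1 lc_e_rc_18_1 lc_e_rc_18_1) (@D3.rec (fun _ => (Cert rels S Gen.e)) lc_e_rc_16_3 lc_e_rc_19_4 lc_e_rc_19_2 lc_e_rc_4_1 lc_e_rc_18_1 lc_e_rc_13_3 lc_e_rc_13_3 lc_e_rc_9_1 lc_e_rc_9_3 lc_e_rc_16_5 lc_e_rc_9_3 lc_e_rc_16_1 lc_e_rc_9_3 lc_e_rc_13_3 lc_e_rc_4_3 lc_e_rc_13_3 lc_e_rc_18_1 lc_e_rc_18_1 lc_e_rc_9_3 lc_e_rc_16_5 lc_e_rc_4_1 lc_e_rc_13_3 lc_e_rc_18_1 lc_e_rc_18_1 lc_e_Cert_tree lc_e_rc_13_3 lc_e_rc_18_1 lc_e_rc_18_1 lc_e_rc_9_3 lc_e_rc_18_1 lc_e_rc_4_3 lc_e_rc_9_1 lc_e_rc_27_5 lc_e_rc_13_3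 lc_e_rc_9_3 lc_e_rc_18_1 lc_e_rc_4_3 lc_e_rc_16_5 lc_e_rc_16_3 lc_e_Cert_tree lc_e_rc_16_5 lc_e_rc_18_1 lc_e_rc_18_1 lc_e_rc_18_1 lc_e_rc_19_4 lc_e_rc_16_1 lc_e_rc_27_7 lc_e_rc_27_1 lc_e_rc_27_5 lc_e_rc_18_1 lc_e_rc_16_3 lc_e_rc_16_1 lc_e_Cert_tree lc_e_rc_13_1 lc_e_rc_18_1 lc_e_rc_13_3 lc_e_rc_18_1 lc_e_rc_27_5 lc_e_rc_18_1 lc_e_rc_9_3 lc_e_rc_18_1 lc_e_Cert_tree) (@D3.rec (fun _ => (Cert rels S Gen.e)) lc_e_rc_18_1 lc_e_rc_18_1 lc_e_rc_9_3 lc_e_rc_16_3 lc_e_rc_19_4 lc_e_rc_19_2 lc_e_rc_27_7 lc_e_rc_4_1 lc_e_rc_13_3 lc_e_rc_13_3 lc_e_Cert_tree lc_e_rc_18_1 lc_e_rc_19_2 lc_e_rc_9_1 lc_e_rc_27_5 lc_e_rc_9_3 lc_e_rc_27_7 lc_e_rc_18_1 lc_e_rc_18_1 lc_e_rc_16_3 lc_e_Cert_tree lc_e_rc_18_1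 lc_e_rc_4_3 lc_e_rc_18_1 lc_e_Cert_tree lc_e_rc_18_1 lc_e_rc_13_3 lc_e_rc_27_7 lc_e_rc_4_3 lc_e_rc_19_4 lc_e_rc_19_2 lc_e_rc_18_1 lc_e_rc_27_1 lc_e_rc_16_1 lc_e_rc_18_1 lc_e_rc_13_3 lc_e_rc_9_1 lc_e_rc_13_3 lc_e_rc_4_3 lc_e_rc_27_5 lc_e_rc_27_5 lc_e_rc_16_5 lc_e_rc_27_5 lc_e_rc_9_3 lc_e_rc_19_4 lc_e_rc_27_7 lc_e_rc_13_3 lc_e_rc_13_3 lc_e_rc_27_7 lc_e_rc_16_1 lc_e_rc_18_1 lc_e_rc_4_1 lc_e_rc_18_1 lc_e_rc_18_1 lc_e_rc_16_5 lc_e_rc_19_4 lc_e_rc_27_7 lc_e_rc_19_4 lc_e_Cert_tree lc_e_rc_9_3 lc_e_rc_9_3 lc_e_rc_13_1) (@D3.rec (fun _ => (Cert rels S Gen.e)) lc_e_rc_13_3 lc_e_rc_18_1 lc_e_rc_9_3 lc_e_rc_4_1 lc_e_rc_9_3 lc_e_rc_9_1 lc_e_Cert_tree lc_e_Cert_tree lc_e_rc_19_4 lc_e_rc_16_1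 lc_e_rc_19_4 lc_e_rc_16_1 lc_e_rc_13_1 lc_e_rc_16_3 lc_e_rc_16_5 lc_e_rc_13_3 lc_e_rc_18_1 lc_e_Cert_tree lc_e_rc_13_3 lc_e_rc_19_2 lc_e_rc_18_1 lc_e_rc_16_1 lc_e_rc_18_1 lc_e_Cert_tree lc_e_rc_9_3 lc_e_rc_18_1 lc_e_rc_13_3 lc_e_rc_13_3 lc_e_rc_27_5 lc_e_rc_27_5 lc_e_rc_9_3 lc_e_rc_16_3 lc_e_rc_19_4 lc_e_rc_9_3 lc_e_rc_16_3 lc_e_rc_16_3 lc_e_rc_16_1 lc_e_rc_19_4 lc_e_rc_13_3 lc_e_rc_18_1 lc_e_rc_16_3 lc_e_rc_4_3 lc_e_rc_18_1 lc_e_rc_13_3 lc_e_rc_16_1 lc_e_rc_27_5 lc_e_rc_18_1 lc_e_rc_13_3 lc_e_rc_13_3 lc_e_rc_13_3 lc_e_Cert_tree lc_e_rc_19_0 lc_e_rc_27_5 lc_e_rc_18_1 lc_e_rc_9_3 lc_e_rc_18_1 lc_e_rc_9_3 lc_e_rc_18_1 lc_e_rc_19_4 lc_e_Cert_tree lc_e_Cert_tree lc_e_rc_18_1) (@D3.rec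 (fun _ => (Cert rels S Gen.e)) lc_e_rc_16_5 lc_e_rc_18_1 lc_e_rc_27_5 lc_e_rc_13_3 lc_e_rc_16_3 lc_e_rc_19_2 lc_e_rc_18_1 lc_e_rc_27_7 lc_e_rc_18_1 lc_e_Cert_tree lc_e_rc_19_4 lc_e_rc_18_1 lc_e_rc_18_1 lc_e_rc_18_1 lc_e_rc_18_1 lc_e_rc_9_1 lc_e_rc_13_3 lc_e_rc_9_3 lc_e_rc_19_0 lc_e_rc_9_3 lc_e_rc_4_3 lc_e_rc_18_1 lc_e_Cert_tree lc_e_rc_4_3 lc_e_rc_18_1 lc_e_rc_18_1 lc_e_rc_19_4 lc_e_rc_16_3 lc_e_rc_19_2 lc_e_rc_18_1 lc_e_rc_18_1 lc_e_rc_19_2 lc_e_rc_18_1 lc_e_rc_4_3 lc_e_rc_13_3 lc_e_rc_9_1 lc_e_rc_18_1 lc_e_rc_18_1 lc_e_rc_19_4 lc_e_rc_27_5 lc_e_rc_18_1 lc_e_rc_27_1 lc_e_rc_18_1 lc_e_rc_4_1 lc_e_rc_18_1 lc_e_rc_27_1 lc_e_rc_18_1 lc_e_rc_18_1 lc_e_rc_18_1 lc_e_rc_27_5 lc_e_rc_18_1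 lc_e_rc_18_1 lc_e_Cert_tree lc_e_rc_19_4 lc_e_rc_18_1 lc_e_Cert_tree lc_e_rc_18_1 lc_e_rc_19_4 lc_e_rc_13_3 lc_e_rc_9_1 lc_e_rc_16_3 lc_e_rc_13_3) (@D3.rec (fun _ => (Cert rels S Gen.e)) lc_e_rc_18_1 lc_e_rc_27_7 lc_e_Cert_tree lc_e_rc_18_1 lc_e_Cert_tree lc_e_rc_18_1 lc_e_rc_13_3 lc_e_rc_18_1 lc_e_rc_27_7 lc_e_rc_18_1 lc_e_rc_16_3 lc_e_rc_18_1 lc_e_rc_18_1 lc_e_Cert_tree lc_e_rc_18_1 lc_e_rc_9_3 lc_e_rc_18_1 lc_e_rc_18_1 lc_e_rc_18_1 lc_e_rc_19_4 lc_e_rc_18_1 lc_e_rc_16_3 lc_e_rc_18_1 lc_e_rc_13_1 lc_e_rc_9_1 lc_e_rc_18_1 lc_e_Cert_tree lc_e_Cert_tree lc_e_rc_13_3 lc_e_rc_9_1 lc_e_rc_16_5 lc_e_rc_18_1 lc_e_rc_9_1 lc_e_rc_19_0 lc_e_rc_9_3 lc_e_rc_27_5 lc_e_rc_18_1 lc_e_rc_13_1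 lc_e_rc_18_1 lc_e_rc_19_0 lc_e_Cert_tree lc_e_rc_27_5 lc_e_rc_18_1 lc_e_rc_16_3 lc_e_rc_16_1 lc_e_rc_27_7 lc_e_rc_16_1 lc_e_rc_9_3 lc_e_rc_16_3 lc_e_rc_18_1 lc_e_rc_9_1 lc_e_Cert_tree lc_e_Cert_tree lc_e_rc_18_1 lc_e_Cert_tree lc_e_rc_16_1 lc_e_rc_13_1 lc_e_rc_18_1 lc_e_rc_27_7 lc_e_rc_18_1 lc_e_rc_18_1 lc_e_Cert_tree) (@D3.rec (fun _ => (Cert rels S Gen.e)) lc_e_Cert_tree lc_e_rc_13_3 lc_e_rc_9_3 lc_e_Cert_tree lc_e_rc_18_1 lc_e_rc_16_1 lc_e_rc_19_2 lc_e_rc_19_2 lc_e_rc_16_5 lc_e_rc_18_1 lc_e_Cert_tree lc_e_rc_16_3 lc_e_rc_13_3 lc_e_rc_9_3 lc_e_rc_4_3 lc_e_rc_9_3 lc_e_rc_4_3 lc_e_rc_16_3 lc_e_rc_16_3 lc_e_rc_13_3 lc_e_rc_18_1 lc_e_rc_9_3 lc_e_rc_18_1 lc_e_rc_16_1 lc_e_rc_13_1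 lc_e_rc_18_1 lc_e_rc_16_3 lc_e_rc_19_4 lc_e_rc_13_1 lc_e_rc_16_5 lc_e_rc_13_3 lc_e_Cert_tree lc_e_Cert_tree lc_e_rc_18_1 lc_e_rc_16_5 lc_e_rc_18_1 lc_e_Cert_tree lc_e_rc_13_3 lc_e_rc_9_3 lc_e_rc_13_3 lc_e_Cert_tree lc_e_rc_18_1 lc_e_rc_13_3 lc_e_rc_27_7 lc_e_Cert_tree lc_e_rc_16_5 lc_e_rc_27_1 lc_e_rc_18_1 lc_e_rc_27_5 lc_e_rc_4_3 lc_e_rc_13_1 lc_e_rc_16_3 lc_e_rc_18_1 lc_e_rc_27_1 lc_e_rc_13_1 lc_e_rc_19_0 lc_e_rc_27_7 lc_e_rc_18_1 lc_e_rc_16_5 lc_e_rc_4_1 lc_e_rc_18_1 lc_e_Cert_tree) (@D3.rec (fun _ => (Cert rels S Gen.e)) lc_e_rc_16_5 lc_e_rc_9_3 lc_e_rc_16_3 lc_e_rc_13_1 lc_e_rc_18_1 lc_e_Cert_tree lc_e_rc_18_1 lc_e_rc_18_1 lc_e_rc_9_1 lc_e_rc_18_1 lc_e_rc_18_1 lc_e_rc_16_5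 lc_e_rc_9_3 lc_e_Cert_tree lc_e_rc_19_4 lc_e_Cert_tree lc_e_rc_4_1 lc_e_Cert_tree lc_e_rc_18_1 lc_e_rc_27_5 lc_e_rc_18_1 lc_e_Cert_tree lc_e_rc_18_1 lc_e_Cert_tree lc_e_rc_18_1 lc_e_rc_19_4 lc_e_rc_13_3 lc_e_Cert_tree lc_e_rc_18_1 lc_e_rc_13_1 lc_e_rc_13_3 lc_e_rc_18_1 lc_e_Cert_tree lc_e_Cert_tree lc_e_rc_18_1 lc_e_rc_27_5 lc_e_rc_18_1 lc_e_rc_27_5 lc_e_rc_19_4 lc_e_rc_18_1 lc_e_Cert_tree lc_e_Cert_tree lc_e_Cert_tree lc_e_rc_18_1 lc_e_rc_27_1 lc_e_rc_18_1 lc_e_rc_18_1 lc_e_rc_16_1 lc_e_rc_18_1 lc_e_rc_16_3 lc_e_rc_16_1 lc_e_rc_13_1 lc_e_rc_4_1 lc_e_rc_16_3 lc_e_rc_27_5 lc_e_rc_27_7 lc_e_rc_16_1 lc_e_rc_19_4 lc_e_rc_13_1 lc_e_rc_13_1 lc_e_rc_4_1 lc_e_rc_18_1) (@D3.rec (fun _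 => (Cert rels S Gen.e)) lc_e_rc_16_5 lc_e_rc_9_1 lc_e_Cert_tree lc_e_rc_18_1 lc_e_rc_18_1 lc_e_rc_16_5 lc_e_rc_13_3 lc_e_rc_19_4 lc_e_rc_18_1 lc_e_rc_18_1 lc_e_Cert_tree lc_e_rc_18_1 lc_e_Cert_tree lc_e_rc_18_1 lc_e_rc_19_4 lc_e_rc_27_1 lc_e_rc_18_1 lc_e_rc_4_3 lc_e_rc_9_3 lc_e_rc_27_1 lc_e_rc_27_1 lc_e_rc_9_3 lc_e_rc_18_1 lc_e_rc_13_3 lc_e_Cert_tree lc_e_rc_18_1 lc_e_rc_16_5 lc_e_rc_13_3 lc_e_rc_16_3 lc_e_rc_19_4 lc_e_rc_13_1 lc_e_rc_18_1 lc_e_rc_16_5 lc_e_rc_16_3 lc_e_rc_13_3 lc_e_rc_18_1 lc_e_rc_9_1 lc_e_rc_16_3 lc_e_rc_27_5 lc_e_rc_16_1 lc_e_rc_13_3 lc_e_rc_13_3 lc_e_rc_13_3 lc_e_rc_13_3 lc_e_Cert_tree lc_e_rc_18_1 lc_e_Cert_tree lc_e_rc_16_5 lc_e_rc_13_3 lc_e_Cert_tree lc_e_rc_4_1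 lc_e_rc_18_1 lc_e_Cert_tree lc_e_rc_18_1 lc_e_rc_18_1 lc_e_Cert_tree lc_e_rc_18_1 lc_e_rc_18_1 lc_e_Cert_tree lc_e_rc_4_3 lc_e_rc_9_3 lc_e_rc_18_1) (@D3.rec (fun _ => (Cert rels S Gen.e)) lc_e_rc_18_1 lc_e_rc_27_7 lc_e_rc_27_1 lc_e_Cert_tree lc_e_rc_18_1 lc_e_rc_18_1 lc_e_rc_18_1 lc_e_rc_18_1 lc_e_rc_9_1 lc_e_rc_18_1 lc_e_rc_9_1 lc_e_rc_18_1 lc_e_rc_9_3 lc_e_Cert_tree lc_e_rc_18_1 lc_e_rc_9_1 lc_e_rc_18_1 lc_e_rc_18_1 lc_e_rc_19_4 lc_e_rc_16_5 lc_e_rc_18_1 lc_e_rc_9_3 lc_e_Cert_tree lc_e_rc_19_0 lc_e_rc_4_3 lc_e_rc_13_3 lc_e_rc_18_1 lc_e_rc_18_1 lc_e_Cert_tree lc_e_rc_16_3 lc_e_rc_13_1 lc_e_rc_9_1 lc_e_rc_18_1 lc_e_rc_13_3 lc_e_rc_16_1 lc_e_rc_27_7 lc_e_rc_18_1 lc_e_rc_18_1 lc_e_rc_9_3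 lc_e_rc_9_3 lc_e_rc_16_1 lc_e_rc_19_0 lc_e_rc_4_3 lc_e_rc_18_1 lc_e_rc_4_3 lc_e_rc_16_1 lc_e_rc_27_7 lc_e_rc_9_1 lc_e_rc_18_1 lc_e_rc_9_3 lc_e_rc_18_1 lc_e_rc_27_7 lc_e_rc_9_3 lc_e_rc_4_3 lc_e_rc_16_1 lc_e_rc_19_2 lc_e_rc_9_1 lc_e_rc_27_5 lc_e_rc_18_1 lc_e_rc_18_1 lc_e_rc_13_3 lc_e_rc_18_1) (@D3.rec (fun _ => (Cert rels S Gen.e)) lc_e_rc_18_1 lc_e_Cert_tree lc_e_rc_16_1 lc_e_rc_13_3 lc_e_rc_16_1 lc_e_Cert_tree lc_e_rc_27_5 lc_e_rc_18_1 lc_e_rc_16_1 lc_e_rc_13_1 lc_e_rc_18_1 lc_e_rc_27_5 lc_e_rc_18_1 lc_e_rc_4_3 lc_e_rc_9_3 lc_e_rc_16_1 lc_e_rc_16_5 lc_e_rc_19_4 lc_e_rc_9_1 lc_e_rc_18_1 lc_e_rc_9_3 lc_e_rc_13_3 lc_e_rc_18_1 lc_e_rc_18_1 lc_e_rc_27_1 lc_e_rc_18_1 lc_e_rc_18_1 lc_e_rc_19_2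 lc_e_rc_18_1 lc_e_rc_9_1 lc_e_rc_18_1 lc_e_rc_9_3 lc_e_rc_27_5 lc_e_rc_16_3 lc_e_rc_13_3 lc_e_rc_9_3 lc_e_rc_18_1 lc_e_rc_27_1 lc_e_rc_27_1 lc_e_Cert_tree lc_e_rc_18_1 lc_e_rc_9_3 lc_e_rc_18_1 lc_e_rc_19_4 lc_e_rc_18_1 lc_e_rc_9_3 lc_e_rc_13_3 lc_e_rc_4_1 lc_e_rc_18_1 lc_e_rc_13_1 lc_e_rc_16_3 lc_e_rc_19_2 lc_e_rc_9_3 lc_e_rc_18_1 lc_e_rc_13_3 lc_e_rc_13_3 lc_e_rc_13_1 lc_e_rc_18_1 lc_e_rc_9_3 lc_e_rc_18_1 lc_e_rc_9_3 lc_e_rc_19_2) (@D3.rec (fun _ => (Cert rels S Gen.e)) lc_e_rc_27_1 lc_e_rc_18_1 lc_e_rc_9_1 lc_e_rc_27_7 lc_e_rc_27_5 lc_e_rc_16_3 lc_e_rc_18_1 lc_e_rc_18_1 lc_e_rc_16_3 lc_e_rc_19_2 lc_e_rc_9_3 lc_e_rc_13_1 lc_e_rc_16_5 lc_e_rc_18_1 lc_e_rc_27_7 lc_e_rc_18_1 lc_e_rc_13_3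 lc_e_rc_16_5 lc_e_rc_18_1 lc_e_rc_18_1 lc_e_rc_13_3 lc_e_rc_19_2 lc_e_Cert_tree lc_e_rc_4_3 lc_e_rc_19_0 lc_e_rc_16_5 lc_e_rc_9_3 lc_e_rc_18_1 lc_e_rc_9_3 lc_e_rc_27_5 lc_e_rc_4_3 lc_e_rc_16_3 lc_e_rc_19_2 lc_e_rc_18_1 lc_e_rc_16_3 lc_e_rc_9_3 lc_e_rc_19_0 lc_e_rc_18_1 lc_e_rc_9_1 lc_e_rc_4_1 lc_e_rc_16_1 lc_e_rc_27_1 lc_e_rc_19_4 lc_e_rc_16_3 lc_e_rc_27_1 lc_e_rc_18_1 lc_e_rc_13_3 lc_e_rc_13_3 lc_e_rc_27_1 lc_e_rc_13_3 lc_e_rc_19_0 lc_e_rc_9_1 lc_e_rc_18_1 lc_e_rc_19_2 lc_e_rc_18_1 lc_e_rc_27_5 lc_e_rc_16_1 lc_e_rc_27_5 lc_e_rc_9_3 lc_e_rc_9_1 lc_e_rc_13_1 lc_e_rc_27_5) (@D3.rec (fun _ => (Cert rels S Gen.e)) lc_e_rc_18_1 lc_e_Cert_tree lc_e_Cert_tree lc_e_rc_16_3 lc_e_rc_16_3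 lc_e_rc_13_3 lc_e_rc_13_1 lc_e_rc_18_1 lc_e_rc_16_5 lc_e_rc_18_1 lc_e_rc_18_1 lc_e_rc_9_3 lc_e_rc_18_1 lc_e_rc_27_7 lc_e_rc_9_3 lc_e_rc_9_3 lc_e_rc_13_3 lc_e_rc_16_3 lc_e_rc_9_3 lc_e_rc_18_1 lc_e_rc_18_1 lc_e_rc_19_4 lc_e_rc_9_3 lc_e_rc_18_1 lc_e_rc_16_3 lc_e_rc_18_1 lc_e_rc_18_1 lc_e_rc_18_1 lc_e_rc_4_3 lc_e_rc_9_3 lc_e_rc_4_3 lc_e_Cert_tree lc_e_rc_27_5 lc_e_rc_18_1 lc_e_rc_19_4 lc_e_rc_18_1 lc_e_rc_18_1 lc_e_rc_18_1 lc_e_rc_19_4 lc_e_Cert_tree lc_e_rc_18_1 lc_e_rc_4_3 lc_e_rc_13_3 lc_e_rc_16_3 lc_e_rc_19_2 lc_e_Cert_tree lc_e_Cert_tree lc_e_rc_18_1 lc_e_rc_9_3 lc_e_rc_13_1 lc_e_rc_13_1 lc_e_rc_19_4 lc_e_rc_27_5 lc_e_rc_9_1 lc_e_rc_18_1 lc_e_rc_27_5 lc_e_rc_18_1 lc_e_rc_27_1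 lc_e_rc_13_3 lc_e_rc_27_5 lc_e_rc_27_1 lc_e_rc_18_1) (@D3.rec (fun _ => (Cert rels S Gen.e)) lc_e_rc_9_1 lc_e_rc_27_5 lc_e_rc_18_1 lc_e_rc_18_1 lc_e_Cert_tree lc_e_rc_18_1 lc_e_rc_18_1 lc_e_rc_27_7 lc_e_rc_19_0 lc_e_rc_16_5 lc_e_rc_27_5 lc_e_rc_9_3 lc_e_rc_16_3 lc_e_rc_18_1 lc_e_rc_13_3 lc_e_rc_9_3 lc_e_rc_13_3 lc_e_rc_19_2 lc_e_rc_13_1 lc_e_rc_27_1 lc_e_rc_9_1 lc_e_rc_13_1 lc_e_rc_18_1 lc_e_rc_18_1 lc_e_rc_13_3 lc_e_rc_4_1 lc_e_rc_19_2 lc_e_rc_13_1 lc_e_rc_13_3 lc_e_rc_18_1 lc_e_rc_4_3 lc_e_rc_16_3 lc_e_rc_19_2 lc_e_rc_18_1 lc_e_rc_18_1 lc_e_rc_4_3 lc_e_rc_18_1 lc_e_rc_9_1 lc_e_rc_16_3 lc_e_rc_13_3 lc_e_rc_18_1 lc_e_rc_16_1 lc_e_rc_19_4 lc_e_rc_13_1 lc_e_rc_16_3 lc_e_rc_19_4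 lc_e_rc_18_1 lc_e_rc_19_4 lc_e_rc_9_3 lc_e_rc_27_5 lc_e_rc_16_1 lc_e_rc_27_7 lc_e_rc_13_3 lc_e_rc_18_1 lc_e_rc_4_3 lc_e_rc_13_1 lc_e_rc_18_1 lc_e_rc_27_5 lc_e_rc_18_1 lc_e_rc_9_3 lc_e_rc_18_1 lc_e_rc_13_3) (@D3.rec (fun _ => (Cert rels S Gen.e)) lc_e_rc_16_5 lc_e_rc_18_1 lc_e_rc_4_3 lc_e_rc_18_1 lc_e_rc_16_3 lc_e_rc_9_3 lc_e_rc_16_3 lc_e_rc_4_3 lc_e_rc_27_1 lc_e_rc_13_3 lc_e_rc_19_4 lc_e_rc_9_3 lc_e_rc_19_4 lc_e_rc_9_3 lc_e_rc_27_7 lc_e_rc_27_5 lc_e_rc_18_1 lc_e_rc_18_1 lc_e_rc_13_3 lc_e_rc_9_3 lc_e_rc_27_5 lc_e_rc_13_3 lc_e_rc_13_1 lc_e_rc_18_1 lc_e_rc_27_5 lc_e_rc_16_1 lc_e_rc_27_5 lc_e_rc_13_3 lc_e_rc_18_1 lc_e_rc_16_5 lc_e_rc_9_3 lc_e_rc_16_1 lc_e_rc_18_1 lc_e_rc_4_3 lc_e_rc_18_1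 lc_e_rc_27_7 lc_e_rc_13_3 lc_e_rc_18_1 lc_e_rc_16_3 lc_e_rc_18_1 lc_e_rc_18_1 lc_e_rc_27_1 lc_e_rc_16_5 lc_e_rc_27_5 lc_e_rc_9_3 lc_e_rc_18_1 lc_e_rc_4_1 lc_e_rc_4_1 lc_e_rc_16_5 lc_e_rc_13_3 lc_e_rc_18_1 lc_e_rc_9_3 lc_e_rc_13_3 lc_e_rc_27_1 lc_e_rc_16_3 lc_e_rc_18_1 lc_e_rc_4_3 lc_e_Cert_tree lc_e_rc_9_3 lc_e_rc_16_3 lc_e_rc_9_1 lc_e_rc_16_3) (@D3.rec (fun _ => (Cert rels S Gen.e)) lc_e_rc_27_5 lc_e_rc_13_3 lc_e_rc_18_1 lc_e_rc_27_5 lc_e_rc_18_1 lc_e_rc_18_1 lc_e_rc_16_3 lc_e_rc_9_3 lc_e_rc_9_1 lc_e_rc_18_1 lc_e_rc_16_5 lc_e_rc_19_2 lc_e_rc_27_5 lc_e_Cert_tree lc_e_rc_9_3 lc_e_rc_9_1 lc_e_rc_18_1 lc_e_rc_18_1 lc_e_rc_16_1 lc_e_rc_19_4 lc_e_rc_18_1 lc_e_rc_9_3 lc_e_rc_27_1 lc_e_rc_27_1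 lc_e_Cert_tree lc_e_rc_13_1 lc_e_rc_18_1 lc_e_rc_4_3 lc_e_rc_19_4 lc_e_rc_13_3 lc_e_rc_4_3 lc_e_rc_18_1 lc_e_rc_18_1 lc_e_rc_9_3 lc_e_rc_13_1 lc_e_rc_13_3 lc_e_rc_18_1 lc_e_rc_16_3 lc_e_rc_13_3 lc_e_rc_9_3 lc_e_rc_18_1 lc_e_rc_9_3 lc_e_rc_27_5 lc_e_rc_19_4 lc_e_rc_9_3 lc_e_rc_18_1 lc_e_rc_4_3 lc_e_rc_13_3 lc_e_rc_19_4 lc_e_rc_27_5 lc_e_rc_27_5 lc_e_rc_18_1 lc_e_rc_13_3 lc_e_Cert_tree lc_e_rc_13_3 lc_e_rc_27_7 lc_e_rc_16_5 lc_e_Cert_tree lc_e_rc_13_3 lc_e_rc_27_5 lc_e_rc_27_5 lc_e_rc_13_3) (@D3.rec (fun _ => (Cert rels S Gen.e)) lc_e_rc_13_3 lc_e_rc_9_3 lc_e_Cert_tree lc_e_rc_18_1 lc_e_rc_16_3 lc_e_rc_16_3 lc_e_rc_13_3 lc_e_rc_16_5 lc_e_rc_9_3 lc_e_rc_13_3 lc_e_rc_13_3 lc_e_Cert_tree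 lc_e_rc_13_3 lc_e_rc_27_1 lc_e_rc_27_1 lc_e_rc_18_1 lc_e_Cert_tree lc_e_rc_18_1 lc_e_rc_27_1 lc_e_rc_18_1 lc_e_rc_27_5 lc_e_rc_18_1 lc_e_rc_13_3 lc_e_Cert_tree lc_e_rc_27_1 lc_e_rc_18_1 lc_e_rc_16_3 lc_e_rc_13_1 lc_e_rc_18_1 lc_e_rc_9_3 lc_e_rc_9_3 lc_e_rc_4_3 lc_e_rc_16_5 lc_e_rc_27_5 lc_e_rc_19_2 lc_e_rc_9_1 lc_e_rc_18_1 lc_e_rc_18_1 lc_e_rc_18_1 lc_e_rc_27_1 lc_e_rc_19_4 lc_e_rc_19_0 lc_e_rc_18_1 lc_e_rc_4_1 lc_e_rc_18_1 lc_e_rc_16_3 lc_e_rc_13_3 lc_e_rc_27_1 lc_e_rc_27_5 lc_e_rc_16_3 lc_e_rc_27_5 lc_e_rc_27_5 lc_e_rc_13_3 lc_e_rc_16_1 lc_e_rc_16_5 lc_e_rc_27_5 lc_e_Cert_tree lc_e_rc_9_3 lc_e_rc_16_5 lc_e_rc_9_3 lc_e_rc_16_5 lc_e_rc_18_1) (@D3.rec (fun _ => (Cert rels S Gen.e))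 lc_e_rc_16_3 lc_e_rc_18_1 lc_e_rc_9_3 lc_e_rc_13_3 lc_e_rc_27_5 lc_e_rc_4_3 lc_e_rc_18_1 lc_e_rc_18_1 lc_e_rc_18_1 lc_e_rc_18_1 lc_e_rc_18_1 lc_e_rc_18_1 lc_e_rc_27_5 lc_e_rc_19_2 lc_e_rc_27_1 lc_e_rc_18_1 lc_e_rc_9_3 lc_e_rc_18_1 lc_e_rc_27_5 lc_e_rc_16_3 lc_e_rc_13_3 lc_e_rc_18_1 lc_e_Cert_tree lc_e_rc_16_5 lc_e_Cert_tree lc_e_Cert_tree lc_e_rc_18_1 lc_e_rc_19_4 lc_e_rc_27_1 lc_e_rc_18_1 lc_e_Cert_tree lc_e_rc_18_1 lc_e_Cert_tree lc_e_rc_18_1 lc_e_Cert_tree lc_e_rc_18_1 lc_e_rc_9_1 lc_e_rc_4_3 lc_e_rc_18_1 lc_e_Cert_tree lc_e_rc_18_1 lc_e_rc_13_1 lc_e_rc_19_0 lc_e_rc_16_5 lc_e_rc_18_1 lc_e_rc_9_1 lc_e_rc_13_3 lc_e_Cert_tree lc_e_rc_18_1 lc_e_rc_27_7 lc_e_rc_18_1 lc_e_rc_9_1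 lc_e_rc_9_3 lc_e_rc_9_3 lc_e_Cert_tree lc_e_rc_27_5 lc_e_rc_18_1 lc_e_rc_19_4 lc_e_rc_16_5 lc_e_rc_18_1 lc_e_Cert_tree lc_e_rc_16_5) (@D3.rec (fun _ => (Cert rels S Gen.e)) lc_e_rc_9_3 lc_e_rc_27_7 lc_e_Cert_tree lc_e_rc_18_1 lc_e_Cert_tree lc_e_rc_16_5 lc_e_rc_16_1 lc_e_Cert_tree lc_e_rc_18_1 lc_e_Cert_tree lc_e_rc_18_1 lc_e_rc_18_1 lc_e_rc_16_5 lc_e_rc_19_4 lc_e_Cert_tree lc_e_rc_18_1 lc_e_rc_18_1 lc_e_rc_16_5 lc_e_rc_18_1 lc_e_rc_18_1 lc_e_rc_16_1 lc_e_rc_16_1 lc_e_rc_19_2 lc_e_Cert_tree lc_e_rc_18_1 lc_e_rc_18_1 lc_e_Cert_tree lc_e_rc_18_1 lc_e_Cert_tree lc_e_rc_18_1 lc_e_Cert_tree lc_e_rc_27_5 lc_e_rc_19_4 lc_e_Cert_tree lc_e_rc_18_1 lc_e_rc_16_3 lc_e_Cert_tree lc_e_Cert_tree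 lc_e_rc_4_1 lc_e_Cert_tree lc_e_Cert_tree lc_e_rc_18_1 lc_e_rc_18_1 lc_e_Cert_tree lc_e_Cert_tree lc_e_Cert_tree lc_e_rc_18_1 lc_e_Cert_tree lc_e_rc_18_1 lc_e_rc_9_3 lc_e_rc_16_3 lc_e_rc_19_4 lc_e_rc_18_1 lc_e_rc_18_1 lc_e_rc_18_1 lc_e_rc_13_3 lc_e_rc_16_1 lc_e_rc_27_5 lc_e_rc_4_3 lc_e_rc_27_7 lc_e_rc_18_1 lc_e_rc_18_1) (@D3.rec (fun _ => (Cert rels S Gen.e)) lc_e_rc_13_3 lc_e_rc_18_1 lc_e_Cert_tree lc_e_rc_18_1 lc_e_rc_27_7 lc_e_Cert_tree lc_e_rc_13_3 lc_e_rc_27_1 lc_e_rc_18_1 lc_e_rc_16_3 lc_e_rc_18_1 lc_e_rc_18_1 lc_e_rc_9_3 lc_e_rc_16_5 lc_e_rc_18_1 lc_e_rc_16_3 lc_e_rc_9_3 lc_e_rc_9_3 lc_e_rc_18_1 lc_e_Cert_tree lc_e_Cert_tree lc_e_rc_18_1 lc_e_rc_16_3 lc_e_Cert_tree lc_e_rc_18_1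 lc_e_rc_18_1 lc_e_rc_16_5 lc_e_rc_18_1 lc_e_rc_16_5 lc_e_Cert_tree lc_e_rc_16_3 lc_e_rc_9_1 lc_e_Cert_tree lc_e_rc_18_1 lc_e_rc_4_3 lc_e_rc_4_1 lc_e_rc_16_1 lc_e_rc_13_1 lc_e_rc_18_1 lc_e_rc_19_0 lc_e_rc_18_1 lc_e_rc_16_1 lc_e_rc_13_1 lc_e_rc_16_1 lc_e_rc_19_4 lc_e_rc_16_3 lc_e_rc_9_1 lc_e_rc_16_3 lc_e_Cert_tree lc_e_rc_16_1 lc_e_rc_13_3 lc_e_rc_13_3 lc_e_rc_16_3 lc_e_rc_18_1 lc_e_rc_16_5 lc_e_rc_27_5 lc_e_rc_4_1 lc_e_rc_27_5 lc_e_rc_18_1 lc_e_Cert_tree lc_e_rc_16_5 lc_e_rc_13_3) (@D3.rec (fun _ => (Cert rels S Gen.e)) lc_e_Cert_tree lc_e_rc_27_5 lc_e_rc_18_1 lc_e_rc_27_5 lc_e_Cert_tree lc_e_rc_18_1 lc_e_rc_16_3 lc_e_rc_18_1 lc_e_rc_9_3 lc_e_rc_18_1 lc_e_rc_16_1 lc_e_rc_18_1 lc_e_rc_9_3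 lc_e_rc_18_1 lc_e_rc_9_1 lc_e_Cert_tree lc_e_rc_27_5 lc_e_rc_18_1 lc_e_rc_13_1 lc_e_rc_13_1 lc_e_rc_13_3 lc_e_rc_4_3 lc_e_rc_18_1 lc_e_rc_18_1 lc_e_rc_16_3 lc_e_rc_16_3 lc_e_rc_13_1 lc_e_rc_18_1 lc_e_Cert_tree lc_e_rc_18_1 lc_e_rc_18_1 lc_e_rc_9_3 lc_e_rc_16_1 lc_e_Cert_tree lc_e_rc_18_1 lc_e_Cert_tree lc_e_rc_18_1 lc_e_rc_18_1 lc_e_rc_9_3 lc_e_rc_18_1 lc_e_Cert_tree lc_e_rc_27_5 lc_e_rc_9_3 lc_e_rc_18_1 lc_e_rc_27_5 lc_e_Cert_tree lc_e_rc_4_1 lc_e_rc_18_1 lc_e_rc_18_1 lc_e_rc_18_1 lc_e_rc_9_3 lc_e_rc_16_3 lc_e_rc_13_3 lc_e_Cert_tree lc_e_rc_18_1 lc_e_rc_9_1 lc_e_rc_18_1 lc_e_rc_19_4 lc_e_rc_18_1 lc_e_rc_9_1 lc_e_rc_16_5 lc_e_rc_18_1) (@D3.rec (fun _ => (Cert rels S Gen.e)) lc_e_rc_18_1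 lc_e_rc_9_3 lc_e_rc_19_4 lc_e_rc_4_1 lc_e_rc_27_1 lc_e_rc_4_1 lc_e_rc_27_7 lc_e_rc_27_5 lc_e_rc_16_3 lc_e_rc_4_3 lc_e_Cert_tree lc_e_rc_27_1 lc_e_rc_18_1 lc_e_rc_13_3 lc_e_Cert_tree lc_e_rc_13_3 lc_e_rc_18_1 lc_e_rc_13_3 lc_e_rc_13_3 lc_e_rc_13_3 lc_e_rc_16_5 lc_e_rc_18_1 lc_e_rc_18_1 lc_e_rc_9_3 lc_e_rc_16_3 lc_e_rc_13_3 lc_e_rc_18_1 lc_e_rc_9_3 lc_e_rc_4_3 lc_e_rc_18_1 lc_e_rc_18_1 lc_e_rc_18_1 lc_e_rc_27_1 lc_e_rc_19_0 lc_e_rc_13_3 lc_e_rc_16_3 lc_e_rc_9_3 lc_e_rc_13_3 lc_e_rc_27_5 lc_e_rc_9_3 lc_e_rc_18_1 lc_e_rc_13_1 lc_e_rc_27_1 lc_e_rc_19_4 lc_e_rc_19_4 lc_e_rc_9_1 lc_e_rc_16_5 lc_e_rc_18_1 lc_e_rc_13_1 lc_e_rc_9_3 lc_e_rc_4_3 lc_e_rc_27_5 lc_e_rc_27_1 lc_e_rc_19_2 lc_e_rc_27_1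 lc_e_rc_27_5 lc_e_rc_18_1 lc_e_rc_18_1 lc_e_rc_13_1 lc_e_rc_13_1 lc_e_rc_16_1 lc_e_rc_19_2) (@D3.rec (fun _ => (Cert rels S Gen.e)) lc_e_rc_19_2 lc_e_rc_9_3 lc_e_rc_13_3 lc_e_rc_18_1 lc_e_rc_16_1 lc_e_rc_13_3 lc_e_rc_16_5 lc_e_rc_13_3 lc_e_Cert_tree lc_e_rc_13_1 lc_e_rc_18_1 lc_e_rc_18_1 lc_e_rc_18_1 lc_e_rc_13_3 lc_e_rc_4_1 lc_e_rc_18_1 lc_e_rc_13_3 lc_e_rc_18_1 lc_e_rc_27_1 lc_e_Cert_tree lc_e_rc_18_1 lc_e_rc_4_1 lc_e_rc_4_3 lc_e_Cert_tree lc_e_rc_13_3 lc_e_rc_18_1 lc_e_rc_9_3 lc_e_rc_4_3 lc_e_rc_16_3 lc_e_rc_19_2 lc_e_rc_13_3 lc_e_rc_13_1 lc_e_rc_16_3 lc_e_Cert_tree lc_e_rc_18_1 lc_e_Cert_tree lc_e_rc_18_1 lc_e_rc_16_1 lc_e_Cert_tree lc_e_rc_18_1 lc_e_rc_13_1 lc_e_rc_18_1 lc_e_rc_18_1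 lc_e_rc_9_1 lc_e_Cert_tree lc_e_rc_18_1 lc_e_rc_4_3 lc_e_rc_13_1 lc_e_rc_9_1 lc_e_rc_9_3 lc_e_rc_18_1 lc_e_rc_27_7 lc_e_rc_13_3 lc_e_rc_27_5 lc_e_rc_9_3 lc_e_rc_9_1 lc_e_rc_18_1 lc_e_rc_18_1 lc_e_rc_18_1 lc_e_rc_27_7 lc_e_rc_19_4 lc_e_rc_4_3) (@D3.rec (fun _ => (Cert rels S Gen.e)) lc_e_rc_13_1 lc_e_rc_9_3 lc_e_rc_18_1 lc_e_rc_13_3 lc_e_rc_19_4 lc_e_rc_18_1 lc_e_rc_18_1 lc_e_rc_18_1 lc_e_rc_18_1 lc_e_rc_18_1 lc_e_rc_19_4 lc_e_rc_19_2 lc_e_rc_9_3 lc_e_rc_16_5 lc_e_rc_18_1 lc_e_rc_18_1 lc_e_rc_13_3 lc_e_rc_16_3 lc_e_rc_19_4 lc_e_rc_19_0 lc_e_rc_27_1 lc_e_rc_4_1 lc_e_rc_18_1 lc_e_rc_27_5 lc_e_rc_18_1 lc_e_rc_13_3 lc_e_rc_9_3 lc_e_rc_27_1 lc_e_rc_27_5 lc_e_rc_18_1 lc_e_rc_18_1 lc_e_rc_13_3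 lc_e_rc_9_3 lc_e_rc_18_1 lc_e_rc_9_3 lc_e_rc_27_7 lc_e_rc_19_4 lc_e_rc_9_3 lc_e_rc_9_1 lc_e_rc_19_2 lc_e_rc_16_5 lc_e_rc_4_3 lc_e_rc_27_1 lc_e_rc_19_4 lc_e_rc_18_1 lc_e_rc_18_1 lc_e_rc_18_1 lc_e_rc_16_1 lc_e_rc_18_1 lc_e_rc_18_1 lc_e_rc_9_1 lc_e_rc_18_1 lc_e_rc_4_1 lc_e_Cert_tree lc_e_rc_9_1 lc_e_Cert_tree lc_e_rc_18_1 lc_e_rc_27_7 lc_e_rc_9_3 lc_e_rc_19_4 lc_e_rc_18_1 lc_e_rc_18_1) (@D3.rec (fun _ => (Cert rels S Gen.e)) lc_e_rc_16_5 lc_e_Cert_tree lc_e_rc_4_1 lc_e_rc_4_1 lc_e_rc_18_1 lc_e_rc_16_3 lc_e_rc_13_1 lc_e_rc_18_1 lc_e_rc_13_1 lc_e_rc_18_1 lc_e_rc_18_1 lc_e_rc_27_7 lc_e_rc_4_3 lc_e_rc_18_1 lc_e_rc_13_3 lc_e_rc_13_1 lc_e_rc_18_1 lc_e_rc_27_5 lc_e_Cert_tree lc_e_rc_19_2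 lc_e_rc_9_1 lc_e_rc_13_3 lc_e_rc_9_3 lc_e_rc_4_3 lc_e_rc_19_4 lc_e_rc_13_1 lc_e_rc_18_1 lc_e_rc_16_1 lc_e_rc_16_1 lc_e_rc_13_1 lc_e_rc_4_1 lc_e_rc_16_1 lc_e_rc_13_1 lc_e_Cert_tree lc_e_rc_18_1 lc_e_Cert_tree lc_e_rc_18_1 lc_e_rc_18_1 lc_e_rc_18_1 lc_e_rc_27_1 lc_e_rc_13_1 lc_e_rc_18_1 lc_e_Cert_tree lc_e_Cert_tree lc_e_rc_18_1 lc_e_rc_9_1 lc_e_rc_18_1 lc_e_rc_18_1 lc_e_rc_27_5 lc_e_rc_27_1 lc_e_rc_4_3 lc_e_rc_13_3 lc_e_rc_16_3 lc_e_rc_13_3 lc_e_rc_16_3 lc_e_Cert_tree lc_e_rc_16_5 lc_e_rc_18_1 lc_e_rc_13_3 lc_e_rc_19_4 lc_e_Cert_tree lc_e_rc_18_1) (@D3.rec (fun _ => (Cert rels S Gen.e)) lc_e_rc_9_3 lc_e_rc_18_1 lc_e_rc_16_5 lc_e_rc_27_7 lc_e_rc_18_1 lc_e_rc_18_1 lc_e_rc_18_1 lc_e_rc_4_1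 lc_e_rc_9_3 lc_e_rc_9_1 lc_e_rc_18_1 lc_e_rc_18_1 lc_e_Cert_tree lc_e_rc_19_4 lc_e_rc_9_3 lc_e_rc_16_5 lc_e_rc_27_5 lc_e_rc_4_3 lc_e_rc_9_3 lc_e_rc_4_1 lc_e_rc_27_5 lc_e_rc_13_1 lc_e_rc_16_3 lc_e_rc_18_1 lc_e_rc_19_0 lc_e_rc_9_3 lc_e_rc_16_3 lc_e_rc_27_1 lc_e_rc_4_3 lc_e_rc_16_3 lc_e_Cert_tree lc_e_rc_4_1 lc_e_Cert_tree lc_e_rc_18_1 lc_e_rc_18_1 lc_e_rc_18_1 lc_e_rc_16_3 lc_e_rc_18_1 lc_e_rc_18_1 lc_e_rc_9_3 lc_e_rc_16_5 lc_e_rc_18_1 lc_e_rc_16_5 lc_e_rc_19_4 lc_e_rc_18_1 lc_e_rc_16_3 lc_e_rc_18_1 lc_e_rc_13_1 lc_e_rc_16_3 lc_e_rc_27_1 lc_e_rc_16_3 lc_e_rc_16_3 lc_e_rc_4_1 lc_e_rc_9_3 lc_e_rc_13_3 lc_e_rc_13_3 lc_e_rc_4_3 lc_e_rc_16_1 lc_e_rc_13_1 lc_e_rc_27_5 lc_e_rc_9_3 lc_e_rc_13_3)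 (@D3.rec (fun _ => (Cert rels S Gen.e)) lc_e_rc_16_5 lc_e_rc_9_1 lc_e_rc_27_7 lc_e_rc_16_3 lc_e_rc_13_1 lc_e_Cert_tree lc_e_rc_18_1 lc_e_rc_13_1 lc_e_rc_27_5 lc_e_rc_18_1 lc_e_Cert_tree lc_e_rc_13_3 lc_e_rc_13_3 lc_e_rc_4_1 lc_e_rc_4_1 lc_e_rc_27_1 lc_e_rc_18_1 lc_e_rc_9_3 lc_e_rc_18_1 lc_e_rc_16_3 lc_e_rc_18_1 lc_e_Cert_tree lc_e_rc_18_1 lc_e_rc_9_1 lc_e_rc_27_5 lc_e_rc_19_4 lc_e_rc_18_1 lc_e_rc_27_5 lc_e_rc_18_1 lc_e_rc_27_5 lc_e_rc_9_1 lc_e_Cert_tree lc_e_rc_16_1 lc_e_rc_13_1 lc_e_rc_18_1 lc_e_rc_18_1 lc_e_rc_18_1 lc_e_rc_13_3 lc_e_rc_13_3 lc_e_rc_16_1 lc_e_rc_13_3 lc_e_rc_18_1 lc_e_rc_16_3 lc_e_rc_18_1 lc_e_rc_16_3 lc_e_Cert_tree lc_e_rc_18_1 lc_e_rc_13_3 lc_e_rc_18_1 lc_e_rc_18_1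 lc_e_rc_16_1 lc_e_rc_27_5 lc_e_rc_18_1 lc_e_rc_18_1 lc_e_rc_18_1 lc_e_rc_27_7 lc_e_rc_13_3 lc_e_rc_13_1 lc_e_rc_16_3 lc_e_Cert_tree lc_e_rc_27_5 lc_e_rc_19_4) (@D3.rec (fun _ => (Cert rels S Gen.e)) lc_e_rc_9_3 lc_e_rc_13_3 lc_e_rc_9_3 lc_e_Cert_tree lc_e_rc_16_1 lc_e_rc_13_3 lc_e_rc_16_1 lc_e_rc_16_5 lc_e_rc_18_1 lc_e_rc_27_1 lc_e_rc_18_1 lc_e_rc_16_1 lc_e_Cert_tree lc_e_rc_18_1 lc_e_rc_16_3 lc_e_rc_18_1 lc_e_Cert_tree lc_e_rc_16_5 lc_e_rc_9_3 lc_e_rc_9_1 lc_e_rc_13_1 lc_e_rc_18_1 lc_e_rc_27_7 lc_e_rc_16_5 lc_e_rc_18_1 lc_e_Cert_tree lc_e_rc_18_1 lc_e_rc_18_1 lc_e_rc_18_1 lc_e_rc_16_5 lc_e_rc_9_3 lc_e_rc_27_5 lc_e_rc_13_1 lc_e_rc_18_1 lc_e_rc_16_1 lc_e_rc_18_1 lc_e_rc_13_3 lc_e_rc_19_4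 lc_e_rc_4_3 lc_e_rc_13_1 lc_e_rc_13_3 lc_e_rc_13_3 lc_e_rc_18_1 lc_e_rc_18_1 lc_e_Cert_tree lc_e_rc_9_1 lc_e_rc_16_3 lc_e_rc_13_1 lc_e_rc_18_1 lc_e_rc_13_3 lc_e_rc_18_1 lc_e_rc_16_3 lc_e_Cert_tree lc_e_rc_16_3 lc_e_Cert_tree lc_e_rc_18_1 lc_e_rc_9_3 lc_e_rc_18_1 lc_e_Cert_tree lc_e_rc_19_0 lc_e_rc_19_4 lc_e_rc_18_1) (@D3.rec (fun _ => (Cert rels S Gen.e)) lc_e_Cert_tree lc_e_rc_18_1 lc_e_rc_13_3 lc_e_rc_9_1 lc_e_rc_27_1 lc_e_rc_16_1 lc_e_rc_19_4 lc_e_rc_13_3 lc_e_rc_16_3 lc_e_rc_16_5 lc_e_rc_13_3 lc_e_rc_16_5 lc_e_rc_9_3 lc_e_Cert_tree lc_e_Cert_tree lc_e_rc_18_1 lc_e_rc_9_3 lc_e_Cert_tree lc_e_rc_18_1 lc_e_rc_18_1 lc_e_rc_16_3 lc_e_rc_18_1 lc_e_rc_9_1 lc_e_rc_27_7 lc_e_rc_9_1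 lc_e_rc_16_5 lc_e_rc_13_3 lc_e_rc_27_7 lc_e_rc_4_1 lc_e_Cert_tree lc_e_rc_18_1 lc_e_rc_27_5 lc_e_Cert_tree lc_e_rc_18_1 lc_e_rc_9_3 lc_e_rc_16_3 lc_e_rc_18_1 lc_e_rc_27_5 lc_e_rc_27_5 lc_e_rc_16_1 lc_e_rc_27_5 lc_e_rc_18_1 lc_e_rc_16_1 lc_e_rc_18_1 lc_e_rc_4_1 lc_e_rc_9_3 lc_e_rc_27_5 lc_e_rc_18_1 lc_e_Cert_tree lc_e_rc_18_1 lc_e_rc_13_1 lc_e_rc_27_7 lc_e_rc_13_3 lc_e_rc_13_3 lc_e_rc_27_5 lc_e_rc_18_1 lc_e_rc_18_1 lc_e_rc_16_5 lc_e_rc_16_1 lc_e_rc_19_4 lc_e_rc_27_5 lc_e_rc_16_5) (@D3.rec (fun _ => (Cert rels S Gen.e)) lc_e_rc_9_3 lc_e_rc_13_1 lc_e_rc_18_1 lc_e_rc_9_1 lc_e_rc_13_1 lc_e_rc_13_3 lc_e_rc_18_1 lc_e_rc_13_3 lc_e_rc_9_3 lc_e_rc_18_1 lc_e_Cert_tree lc_e_rc_18_1 lc_e_rc_9_3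 lc_e_rc_27_5 lc_e_rc_27_7 lc_e_rc_27_7 lc_e_rc_18_1 lc_e_rc_18_1 lc_e_rc_27_1 lc_e_rc_18_1 lc_e_Cert_tree lc_e_rc_9_3 lc_e_rc_16_5 lc_e_rc_16_1 lc_e_rc_13_3 lc_e_rc_16_3 lc_e_rc_16_3 lc_e_rc_27_5 lc_e_rc_18_1 lc_e_rc_16_1 lc_e_rc_19_0 lc_e_rc_18_1 lc_e_rc_9_3 lc_e_rc_9_1 lc_e_rc_27_7 lc_e_rc_18_1 lc_e_rc_9_3 lc_e_rc_13_3 lc_e_rc_19_4 lc_e_rc_27_5 lc_e_rc_13_3 lc_e_rc_4_3 lc_e_Cert_tree lc_e_rc_9_3 lc_e_Cert_tree lc_e_rc_18_1 lc_e_rc_19_4 lc_e_rc_16_5 lc_e_rc_13_1 lc_e_rc_27_1 lc_e_rc_27_5 lc_e_rc_16_5 lc_e_Cert_tree lc_e_rc_18_1 lc_e_Cert_tree lc_e_Cert_tree lc_e_rc_18_1 lc_e_rc_16_1 lc_e_rc_16_5 lc_e_rc_19_4 lc_e_Cert_tree lc_e_rc_4_3) (@D3.rec (fun _ => (Cert rels S Gen.e))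 lc_e_rc_9_3 lc_e_rc_27_1 lc_e_rc_18_1 lc_e_rc_16_5 lc_e_rc_9_3 lc_e_rc_16_3 lc_e_rc_19_2 lc_e_rc_16_1 lc_e_rc_18_1 lc_e_rc_4_1 lc_e_rc_18_1 lc_e_rc_13_3 lc_e_rc_13_3 lc_e_rc_18_1 lc_e_Cert_tree lc_e_rc_18_1 lc_e_Cert_tree lc_e_rc_18_1 lc_e_rc_16_3 lc_e_rc_9_3 lc_e_rc_9_3 lc_e_rc_4_3 lc_e_rc_9_1 lc_e_rc_27_5 lc_e_rc_18_1 lc_e_rc_18_1 lc_e_rc_16_5 lc_e_rc_16_3 lc_e_rc_9_3 lc_e_rc_19_0 lc_e_rc_19_0 lc_e_Cert_tree lc_e_rc_27_1 lc_e_rc_18_1 lc_e_rc_18_1 lc_e_rc_4_3 lc_e_rc_4_1 lc_e_rc_16_5 lc_e_Cert_tree lc_e_rc_27_5 lc_e_rc_18_1 lc_e_Cert_tree lc_e_rc_9_3 lc_e_rc_19_4 lc_e_rc_4_1 lc_e_rc_13_3 lc_e_rc_18_1 lc_e_rc_13_3 lc_e_rc_18_1 lc_e_rc_16_1 lc_e_rc_19_4 lc_e_rc_27_1 lc_e_rc_13_3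 lc_e_rc_27_1 lc_e_rc_13_3 lc_e_rc_16_5 lc_e_rc_27_1 lc_e_rc_4_3 lc_e_rc_27_7 lc_e_rc_13_3 lc_e_rc_16_1 lc_e_rc_13_1) (@D3.rec (fun _ => (Cert rels S Gen.e)) lc_e_rc_18_1 lc_e_rc_13_3 lc_e_rc_9_3 lc_e_rc_27_1 lc_e_rc_27_1 lc_e_rc_13_3 lc_e_rc_13_3 lc_e_Cert_tree lc_e_rc_16_5 lc_e_rc_27_1 lc_e_rc_16_5 lc_e_rc_27_1 lc_e_rc_18_1 lc_e_rc_9_1 lc_e_rc_13_1 lc_e_rc_18_1 lc_e_rc_18_1 lc_e_rc_9_3 lc_e_rc_18_1 lc_e_rc_18_1 lc_e_rc_19_2 lc_e_rc_16_3 lc_e_rc_16_5 lc_e_rc_18_1 lc_e_rc_18_1 lc_e_Cert_tree lc_e_rc_18_1 lc_e_rc_18_1 lc_e_rc_19_0 lc_e_rc_18_1 lc_e_rc_13_1 lc_e_rc_27_5 lc_e_rc_18_1 lc_e_rc_9_3 lc_e_rc_16_3 lc_e_rc_13_3 lc_e_rc_27_1 lc_e_rc_4_1 lc_e_rc_18_1 lc_e_rc_16_1 lc_e_rc_16_5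 lc_e_Cert_tree lc_e_rc_27_5 lc_e_rc_4_3 lc_e_rc_13_3 lc_e_rc_13_3 lc_e_rc_16_3 lc_e_rc_27_1 lc_e_rc_18_1 lc_e_rc_13_1 lc_e_rc_18_1 lc_e_Cert_tree lc_e_rc_13_3 lc_e_rc_9_3 lc_e_rc_4_3 lc_e_rc_16_3 lc_e_rc_18_1 lc_e_rc_13_3 lc_e_rc_16_1 lc_e_Cert_tree lc_e_rc_9_3 lc_e_rc_19_2) (@D3.rec (fun _ => (Cert rels S Gen.e)) lc_e_rc_13_3 lc_e_rc_4_3 lc_e_rc_9_3 lc_e_Cert_tree lc_e_rc_13_1 lc_e_rc_27_7 lc_e_rc_9_3 lc_e_Cert_tree lc_e_rc_16_5 lc_e_rc_9_3 lc_e_rc_18_1 lc_e_Cert_tree lc_e_rc_18_1 lc_e_rc_9_3 lc_e_rc_18_1 lc_e_rc_16_1 lc_e_Cert_tree lc_e_rc_27_7 lc_e_rc_18_1 lc_e_rc_16_5 lc_e_rc_18_1 lc_e_rc_13_3 lc_e_rc_18_1 lc_e_rc_4_3 lc_e_rc_13_3 lc_e_rc_13_3 lc_e_rc_18_1 lc_e_rc_16_3 lc_e_rc_18_1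 lc_e_rc_18_1 lc_e_rc_19_2 lc_e_rc_13_1 lc_e_Cert_tree lc_e_rc_18_1 lc_e_rc_4_1 lc_e_rc_18_1 lc_e_rc_19_2 lc_e_rc_13_1 lc_e_rc_13_3 lc_e_rc_16_1 lc_e_rc_18_1 lc_e_rc_18_1 lc_e_rc_18_1 lc_e_rc_18_1 lc_e_rc_13_3 lc_e_rc_9_1 lc_e_rc_4_3 lc_e_rc_9_3 lc_e_rc_18_1 lc_e_rc_9_3 lc_e_rc_27_1 lc_e_rc_18_1 lc_e_rc_4_3 lc_e_Cert_tree lc_e_rc_16_5 lc_e_rc_9_3 lc_e_rc_18_1 lc_e_rc_9_3 lc_e_rc_27_5 lc_e_rc_27_1 lc_e_rc_16_1 lc_e_rc_9_3) (@D3.rec (fun _ => (Cert rels S Gen.e)) lc_e_rc_18_1 lc_e_rc_16_3 lc_e_rc_9_3 lc_e_rc_9_3 lc_e_rc_4_3 lc_e_rc_18_1 lc_e_rc_27_5 lc_e_rc_18_1 lc_e_rc_16_1 lc_e_rc_9_3 lc_e_rc_13_3 lc_e_rc_16_5 lc_e_Cert_tree lc_e_rc_27_1 lc_e_rc_9_3 lc_e_rc_18_1 lc_e_rc_27_7 lc_e_rc_18_1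 lc_e_rc_19_4 lc_e_Cert_tree lc_e_rc_18_1 lc_e_rc_27_1 lc_e_rc_27_1 lc_e_rc_19_4 lc_e_rc_18_1 lc_e_rc_18_1 lc_e_Cert_tree lc_e_Cert_tree lc_e_rc_18_1 lc_e_Cert_tree lc_e_rc_9_3 lc_e_rc_27_7 lc_e_rc_18_1 lc_e_rc_27_5 lc_e_rc_13_3 lc_e_rc_18_1 lc_e_rc_13_3 lc_e_Cert_tree lc_e_rc_27_5 lc_e_rc_18_1 lc_e_rc_9_3 lc_e_rc_18_1 lc_e_rc_19_4 lc_e_rc_18_1 lc_e_rc_9_3 lc_e_rc_18_1 lc_e_rc_27_5 lc_e_rc_18_1 lc_e_rc_9_3 lc_e_Cert_tree lc_e_rc_18_1 lc_e_rc_18_1 lc_e_rc_18_1 lc_e_rc_19_4 lc_e_rc_18_1 lc_e_rc_9_3 lc_e_rc_4_3 lc_e_rc_19_2 lc_e_rc_13_3 lc_e_rc_4_1 lc_e_rc_9_3 lc_e_rc_18_1) (@D3.rec (fun _ => (Cert rels S Gen.e)) lc_e_rc_13_1 lc_e_rc_18_1 lc_e_rc_4_3 lc_e_rc_13_3 lc_e_rc_18_1 lc_e_rc_16_5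 lc_e_rc_13_3 lc_e_rc_4_3 lc_e_Cert_tree lc_e_rc_18_1 lc_e_rc_27_5 lc_e_rc_9_3 lc_e_rc_27_1 lc_e_rc_4_3 lc_e_rc_4_3 lc_e_rc_27_7 lc_e_rc_9_3 lc_e_rc_18_1 lc_e_rc_13_3 lc_e_rc_9_3 lc_e_rc_13_3 lc_e_rc_27_5 lc_e_rc_19_4 lc_e_rc_13_1 lc_e_rc_27_7 lc_e_rc_18_1 lc_e_rc_9_1 lc_e_rc_18_1 lc_e_Cert_tree lc_e_rc_18_1 lc_e_rc_9_3 lc_e_rc_13_1 lc_e_rc_18_1 lc_e_rc_9_3 lc_e_rc_19_4 lc_e_rc_9_3 lc_e_rc_9_1 lc_e_rc_18_1 lc_e_rc_13_1 lc_e_rc_18_1 lc_e_rc_16_1 lc_e_rc_18_1 lc_e_rc_16_1 lc_e_rc_16_3 lc_e_rc_13_3 lc_e_rc_27_5 lc_e_rc_13_1 lc_e_rc_18_1 lc_e_rc_18_1 lc_e_rc_16_3 lc_e_rc_16_3 lc_e_Cert_tree lc_e_rc_27_5 lc_e_rc_18_1 lc_e_rc_27_1 lc_e_rc_19_4 lc_e_Cert_tree lc_e_rc_18_1 lc_e_rc_27_7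 lc_e_rc_18_1 lc_e_rc_19_4 lc_e_rc_4_3) (@D3.rec (fun _ => (Cert rels S Gen.e)) lc_e_rc_19_4 lc_e_rc_27_5 lc_e_rc_18_1 lc_e_rc_16_3 lc_e_rc_27_5 lc_e_rc_18_1 lc_e_rc_9_3 lc_e_rc_13_1 lc_e_Cert_tree lc_e_Cert_tree lc_e_rc_18_1 lc_e_rc_27_1 lc_e_rc_27_1 lc_e_rc_18_1 lc_e_rc_27_5 lc_e_rc_19_4 lc_e_rc_18_1 lc_e_Cert_tree lc_e_rc_9_3 lc_e_rc_13_3 lc_e_rc_9_3 lc_e_rc_13_3 lc_e_rc_18_1 lc_e_rc_9_3 lc_e_rc_16_5 lc_e_rc_19_4 lc_e_rc_18_1 lc_e_rc_9_3 lc_e_rc_18_1 lc_e_rc_27_5 lc_e_rc_19_4 lc_e_rc_16_3 lc_e_rc_13_3 lc_e_rc_4_3 lc_e_rc_18_1 lc_e_rc_13_3 lc_e_Cert_tree lc_e_rc_18_1 lc_e_rc_13_3 lc_e_Cert_tree lc_e_rc_27_5 lc_e_rc_18_1 lc_e_Cert_tree lc_e_Cert_tree lc_e_rc_18_1 lc_e_rc_18_1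 lc_e_rc_13_3 lc_e_rc_18_1 lc_e_rc_9_3 lc_e_rc_27_7 lc_e_rc_13_1 lc_e_rc_13_1 lc_e_rc_16_3 lc_e_rc_9_1 lc_e_rc_27_7 lc_e_rc_13_1 lc_e_rc_19_2 lc_e_rc_27_1 lc_e_rc_13_1 lc_e_rc_18_1 lc_e_rc_18_1 lc_e_rc_27_5) (@D3.rec (fun _ => (Cert rels S Gen.e)) lc_e_rc_18_1 lc_e_Cert_tree lc_e_rc_18_1 lc_e_Cert_tree lc_e_rc_18_1 lc_e_rc_4_3 lc_e_rc_18_1 lc_e_rc_27_7 lc_e_rc_16_5 lc_e_rc_9_1 lc_e_rc_18_1 lc_e_rc_13_1 lc_e_rc_18_1 lc_e_rc_18_1 lc_e_rc_19_2 lc_e_rc_16_3 lc_e_rc_18_1 lc_e_rc_16_3 lc_e_rc_19_4 lc_e_rc_16_1 lc_e_rc_16_1 lc_e_rc_18_1 lc_e_rc_13_3 lc_e_rc_16_5 lc_e_rc_4_1 lc_e_rc_19_2 lc_e_rc_13_3 lc_e_rc_13_3 lc_e_rc_4_1 lc_e_rc_18_1 lc_e_rc_18_1 lc_e_rc_9_3 lc_e_Cert_tree lc_e_rc_18_1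 lc_e_rc_16_1 lc_e_rc_16_1 lc_e_rc_9_1 lc_e_rc_16_3 lc_e_rc_27_5 lc_e_rc_18_1 lc_e_rc_9_3 lc_e_rc_13_1 lc_e_rc_16_5 lc_e_rc_4_3 lc_e_rc_27_5 lc_e_rc_13_1 lc_e_rc_27_5 lc_e_rc_16_3 lc_e_rc_9_3 lc_e_rc_18_1 lc_e_rc_13_1 lc_e_rc_9_3 lc_e_Cert_tree lc_e_rc_18_1 lc_e_rc_9_1 lc_e_rc_27_5 lc_e_rc_13_3 lc_e_rc_18_1 lc_e_rc_18_1 lc_e_rc_27_5 lc_e_Cert_tree lc_e_rc_18_1) (@D3.rec (fun _ => (Cert rels S Gen.e)) lc_e_rc_18_1 lc_e_rc_16_3 lc_e_rc_13_1 lc_e_rc_27_7 lc_e_rc_9_3 lc_e_rc_16_1 lc_e_rc_13_3 lc_e_rc_13_3 lc_e_rc_18_1 lc_e_rc_16_3 lc_e_rc_9_3 lc_e_Cert_tree lc_e_rc_18_1 lc_e_rc_9_3 lc_e_rc_18_1 lc_e_rc_9_3 lc_e_rc_18_1 lc_e_rc_9_3 lc_e_rc_4_3 lc_e_rc_13_1 lc_e_rc_9_3 lc_e_rc_27_7 lc_e_rc_13_1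 lc_e_rc_9_3 lc_e_rc_4_3 lc_e_Cert_tree lc_e_rc_9_3 lc_e_rc_18_1 lc_e_rc_16_1 lc_e_rc_27_7 lc_e_rc_13_1 lc_e_rc_18_1 lc_e_rc_16_5 lc_e_rc_4_3 lc_e_rc_13_3 lc_e_rc_16_1 lc_e_rc_19_4 lc_e_rc_16_5 lc_e_rc_9_3 lc_e_rc_27_1 lc_e_rc_9_1 lc_e_rc_27_7 lc_e_rc_9_3 lc_e_rc_27_5 lc_e_rc_9_3 lc_e_rc_19_4 lc_e_rc_27_7 lc_e_rc_18_1 lc_e_rc_16_5 lc_e_rc_4_1 lc_e_rc_18_1 lc_e_rc_9_3 lc_e_rc_19_2 lc_e_Cert_tree lc_e_rc_18_1 lc_e_rc_18_1 lc_e_rc_16_1 lc_e_rc_19_4 lc_e_rc_13_3 lc_e_rc_19_2 lc_e_Cert_tree lc_e_rc_16_3) (@D3.rec (fun _ => (Cert rels S Gen.e)) lc_e_Cert_tree lc_e_rc_18_1 lc_e_rc_9_3 lc_e_rc_27_1 lc_e_rc_27_7 lc_e_rc_19_4 lc_e_Cert_tree lc_e_Cert_tree lc_e_rc_18_1 lc_e_rc_9_3 lc_e_rc_27_1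 lc_e_rc_27_5 lc_e_rc_13_3 lc_e_rc_4_3 lc_e_rc_9_1 lc_e_rc_13_3 lc_e_rc_18_1 lc_e_rc_19_4 lc_e_rc_16_3 lc_e_rc_18_1 lc_e_rc_27_1 lc_e_rc_27_7 lc_e_rc_18_1 lc_e_rc_13_3 lc_e_rc_18_1 lc_e_rc_18_1 lc_e_rc_18_1 lc_e_rc_27_5 lc_e_rc_16_3 lc_e_rc_18_1 lc_e_rc_13_3 lc_e_rc_16_5 lc_e_rc_27_1 lc_e_rc_13_3 lc_e_rc_18_1 lc_e_rc_18_1 lc_e_rc_16_1 lc_e_rc_19_4 lc_e_Cert_tree lc_e_rc_18_1 lc_e_rc_16_3 lc_e_rc_19_4 lc_e_rc_27_7 lc_e_rc_27_5 lc_e_rc_27_5 lc_e_rc_16_3 lc_e_rc_13_1 lc_e_rc_18_1 lc_e_rc_18_1 lc_e_rc_9_3 lc_e_rc_13_3 lc_e_rc_9_3 lc_e_rc_18_1 lc_e_rc_9_3 lc_e_rc_13_3 lc_e_rc_27_1 lc_e_rc_18_1 lc_e_Cert_tree lc_e_rc_18_1 lc_e_Cert_tree lc_e_rc_18_1 lc_e_rc_13_3)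
def ce_e_24 : D2 → D3 → (Cert rels S Gen.e) := @D2.rec (fun _ => D3 → (Cert rels S Gen.e)) (@D3.rec (fun _ => (Cert rels S Gen.e)) lc_e_Cert_tree lc_e_rc_19_4 lc_e_Cert_tree lc_e_Cert_tree lc_e_rc_18_1 lc_e_rc_18_1 lc_e_rc_19_4 lc_e_rc_18_1 lc_e_rc_27_5 lc_e_rc_18_1 lc_e_rc_27_5 lc_e_rc_18_1 lc_e_rc_9_1 lc_e_rc_18_1 lc_e_rc_13_3 lc_e_rc_13_3 lc_e_rc_4_1 lc_e_rc_18_1 lc_e_rc_13_3 lc_e_Cert_tree lc_e_rc_27_5 lc_e_rc_18_1 lc_e_rc_16_3 lc_e_rc_16_5 lc_e_rc_18_1 lc_e_rc_16_3 lc_e_rc_18_1 lc_e_rc_18_1 lc_e_Cert_tree lc_e_rc_18_1 lc_e_rc_13_3 lc_e_Cert_tree lc_e_rc_13_3 lc_e_Cert_tree lc_e_rc_18_1 lc_e_rc_18_1 lc_e_rc_18_1 lc_e_rc_18_1 lc_e_rc_4_3 lc_e_rc_18_1 lc_e_rc_4_1 lc_e_rc_19_2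 lc_e_rc_4_3 lc_e_rc_19_4 lc_e_rc_4_3 lc_e_rc_18_1 lc_e_rc_16_5 lc_e_rc_27_5 lc_e_rc_13_1 lc_e_rc_16_1 lc_e_rc_13_3 lc_e_rc_16_1 lc_e_rc_27_7 lc_e_Cert_tree lc_e_Cert_tree lc_e_Cert_tree lc_e_Cert_tree lc_e_rc_18_1 lc_e_Cert_tree lc_e_Cert_tree lc_e_rc_18_1 lc_e_rc_16_1) (@D3.rec (fun _ => (Cert rels S Gen.e)) lc_e_rc_18_1 lc_e_Cert_tree lc_e_rc_27_5 lc_e_rc_18_1 lc_e_rc_13_3 lc_e_rc_16_5 lc_e_rc_18_1 lc_e_rc_13_1 lc_e_rc_18_1 lc_e_rc_9_3 lc_e_rc_16_1 lc_e_rc_27_7 lc_e_rc_16_5 lc_e_rc_19_0 lc_e_rc_16_5 lc_e_rc_18_1 lc_e_rc_18_1 lc_e_rc_16_1 lc_e_rc_13_3 lc_e_rc_19_2 lc_e_rc_18_1 lc_e_rc_4_3 lc_e_rc_18_1 lc_e_rc_9_3 lc_e_rc_4_3 lc_e_rc_4_3 lc_e_rc_13_1 lc_e_rc_13_1 lc_e_rc_9_3 lc_e_Cert_tree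 lc_e_rc_27_5 lc_e_Cert_tree lc_e_rc_18_1 lc_e_rc_13_1 lc_e_rc_4_3 lc_e_rc_18_1 lc_e_rc_18_1 lc_e_rc_16_3 lc_e_rc_27_7 lc_e_rc_9_3 lc_e_rc_27_7 lc_e_Cert_tree lc_e_rc_27_7 lc_e_rc_4_3 lc_e_rc_18_1 lc_e_rc_18_1 lc_e_rc_16_1 lc_e_rc_9_3 lc_e_rc_18_1 lc_e_rc_18_1 lc_e_rc_16_1 lc_e_rc_13_3 lc_e_rc_18_1 lc_e_rc_16_3 lc_e_rc_19_2 lc_e_Cert_tree lc_e_rc_18_1 lc_e_rc_18_1 lc_e_rc_18_1 lc_e_Cert_tree lc_e_Cert_tree lc_e_rc_13_3) (@D3.rec (fun _ => (Cert rels S Gen.e)) lc_e_Cert_tree lc_e_rc_13_1 lc_e_rc_18_1 lc_e_rc_13_1 lc_e_rc_18_1 lc_e_rc_13_1 lc_e_rc_18_1 lc_e_Cert_tree lc_e_rc_16_5 lc_e_rc_18_1 lc_e_rc_18_1 lc_e_rc_18_1 lc_e_rc_9_3 lc_e_rc_27_5 lc_e_Cert_tree lc_e_rc_18_1 lc_e_rc_18_1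 lc_e_rc_9_3 lc_e_rc_18_1 lc_e_rc_9_3 lc_e_rc_4_3 lc_e_Cert_tree lc_e_rc_9_3 lc_e_rc_27_7 lc_e_Cert_tree lc_e_rc_18_1 lc_e_rc_9_1 lc_e_rc_16_3 lc_e_rc_4_3 lc_e_Cert_tree lc_e_rc_18_1 lc_e_rc_27_5 lc_e_rc_4_3 lc_e_rc_18_1 lc_e_rc_9_3 lc_e_rc_13_3 lc_e_Cert_tree lc_e_Cert_tree lc_e_rc_18_1 lc_e_rc_19_2 lc_e_rc_9_3 lc_e_rc_27_5 lc_e_Cert_tree lc_e_rc_18_1 lc_e_rc_18_1 lc_e_rc_9_3 lc_e_rc_16_5 lc_e_Cert_tree lc_e_rc_18_1 lc_e_rc_4_3 lc_e_rc_9_3 lc_e_rc_16_1 lc_e_rc_18_1 lc_e_rc_19_2 lc_e_rc_18_1 lc_e_rc_18_1 lc_e_rc_9_3 lc_e_rc_19_4 lc_e_rc_9_1 lc_e_rc_27_5 lc_e_rc_18_1 lc_e_rc_16_1) (@D3.rec (fun _ => (Cert rels S Gen.e)) lc_e_rc_19_2 lc_e_rc_13_1 lc_e_rc_27_7 lc_e_rc_13_3 lc_e_rc_18_1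 lc_e_Cert_tree lc_e_Cert_tree lc_e_rc_18_1 lc_e_Cert_tree lc_e_rc_18_1 lc_e_rc_19_2 lc_e_rc_9_3 lc_e_rc_19_2 lc_e_rc_16_5 lc_e_rc_4_3 lc_e_rc_18_1 lc_e_Cert_tree lc_e_rc_16_3 lc_e_rc_27_1 lc_e_Cert_tree lc_e_rc_13_1 lc_e_rc_4_1 lc_e_rc_18_1 lc_e_rc_13_3 lc_e_Cert_tree lc_e_rc_19_0 lc_e_rc_18_1 lc_e_rc_19_4 lc_e_Cert_tree lc_e_rc_18_1 lc_e_rc_9_3 lc_e_rc_18_1 lc_e_rc_19_4 lc_e_rc_18_1 lc_e_rc_18_1 lc_e_rc_13_3 lc_e_rc_4_3 lc_e_rc_16_1 lc_e_rc_19_2 lc_e_rc_13_1 lc_e_rc_19_4 lc_e_rc_13_3 lc_e_rc_19_4 lc_e_Cert_tree lc_e_rc_18_1 lc_e_rc_18_1 lc_e_Cert_tree lc_e_rc_18_1 lc_e_Cert_tree lc_e_rc_18_1 lc_e_rc_13_1 lc_e_rc_18_1 lc_e_Cert_tree lc_e_rc_4_3 lc_e_Cert_tree lc_e_Cert_tree lc_e_rc_18_1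 lc_e_Cert_tree lc_e_rc_16_5 lc_e_rc_16_1 lc_e_rc_9_3 lc_e_rc_13_3) (@D3.rec (fun _ => (Cert rels S Gen.e)) lc_e_rc_4_3 lc_e_rc_16_5 lc_e_rc_18_1 lc_e_Cert_tree lc_e_rc_18_1 lc_e_rc_13_3 lc_e_rc_16_3 lc_e_rc_18_1 lc_e_rc_16_1 lc_e_rc_19_2 lc_e_rc_9_3 lc_e_rc_27_7 lc_e_rc_18_1 lc_e_rc_13_3 lc_e_Cert_tree lc_e_rc_13_3 lc_e_rc_18_1 lc_e_Cert_tree lc_e_Cert_tree lc_e_rc_19_4 lc_e_rc_9_3 lc_e_rc_16_5 lc_e_rc_18_1 lc_e_rc_9_3 lc_e_rc_13_1 lc_e_rc_4_1 lc_e_rc_19_4 lc_e_rc_27_1 lc_e_rc_27_5 lc_e_rc_27_5 lc_e_rc_18_1 lc_e_rc_4_3 lc_e_Cert_tree lc_e_rc_27_5 lc_e_rc_18_1 lc_e_Cert_tree lc_e_rc_18_1 lc_e_rc_16_5 lc_e_rc_4_3 lc_e_rc_18_1 lc_e_rc_18_1 lc_e_rc_13_1 lc_e_rc_27_5 lc_e_rc_16_3 lc_e_rc_19_4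 lc_e_rc_19_4 lc_e_rc_13_1 lc_e_rc_18_1 lc_e_rc_18_1 lc_e_rc_13_3 lc_e_rc_27_5 lc_e_rc_16_5 lc_e_Cert_tree lc_e_rc_19_4 lc_e_rc_18_1 lc_e_Cert_tree lc_e_rc_18_1 lc_e_rc_19_2 lc_e_rc_19_4 lc_e_rc_4_3 lc_e_rc_13_3 lc_e_rc_27_7) (@D3.rec (fun _ => (Cert rels S Gen.e)) lc_e_rc_18_1 lc_e_rc_13_3 lc_e_rc_13_1 lc_e_rc_9_3 lc_e_rc_13_3 lc_e_rc_16_5 lc_e_rc_13_3 lc_e_rc_13_1 lc_e_rc_27_1 lc_e_rc_27_1 lc_e_Cert_tree lc_e_rc_9_3 lc_e_rc_16_1 lc_e_rc_19_4 lc_e_rc_16_3 lc_e_Cert_tree lc_e_rc_16_1 lc_e_rc_18_1 lc_e_rc_9_3 lc_e_rc_13_1 lc_e_rc_27_5 lc_e_rc_18_1 lc_e_rc_27_1 lc_e_rc_19_4 lc_e_rc_9_3 lc_e_rc_4_1 lc_e_rc_16_3 lc_e_rc_13_1 lc_e_rc_18_1 lc_e_rc_13_1 lc_e_rc_18_1 lc_e_rc_27_1 lc_e_rc_18_1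 lc_e_rc_13_1 lc_e_rc_18_1 lc_e_rc_13_1 lc_e_Cert_tree lc_e_rc_9_3 lc_e_rc_16_3 lc_e_rc_18_1 lc_e_rc_16_5 lc_e_rc_4_3 lc_e_rc_9_3 lc_e_rc_4_1 lc_e_rc_18_1 lc_e_rc_18_1 lc_e_rc_27_5 lc_e_rc_18_1 lc_e_rc_9_3 lc_e_rc_13_3 lc_e_rc_19_0 lc_e_Cert_tree lc_e_rc_18_1 lc_e_rc_16_1 lc_e_rc_9_3 lc_e_rc_13_1 lc_e_rc_18_1 lc_e_rc_9_3 lc_e_Cert_tree lc_e_rc_18_1 lc_e_rc_13_3 lc_e_rc_9_1) (@D3.rec (fun _ => (Cert rels S Gen.e)) lc_e_rc_13_1 lc_e_rc_18_1 lc_e_rc_18_1 lc_e_Cert_tree lc_e_rc_18_1 lc_e_rc_9_1 lc_e_rc_16_1 lc_e_rc_9_3 lc_e_rc_18_1 lc_e_rc_16_3 lc_e_Cert_tree lc_e_rc_16_1 lc_e_rc_18_1 lc_e_rc_18_1 lc_e_rc_4_3 lc_e_Cert_tree lc_e_rc_18_1 lc_e_rc_18_1 lc_e_rc_19_4 lc_e_rc_16_3 lc_e_rc_13_3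 lc_e_rc_18_1 lc_e_rc_18_1 lc_e_rc_9_3 lc_e_rc_19_2 lc_e_rc_19_2 lc_e_Cert_tree lc_e_rc_27_7 lc_e_rc_9_3 lc_e_rc_18_1 lc_e_Cert_tree lc_e_rc_18_1 lc_e_Cert_tree lc_e_rc_13_1 lc_e_Cert_tree lc_e_rc_18_1 lc_e_rc_4_1 lc_e_rc_18_1 lc_e_rc_13_3 lc_e_rc_18_1 lc_e_rc_18_1 lc_e_rc_19_4 lc_e_rc_9_3 lc_e_rc_18_1 lc_e_rc_27_1 lc_e_rc_13_3 lc_e_rc_18_1 lc_e_rc_18_1 lc_e_rc_4_1 lc_e_Cert_tree lc_e_rc_18_1 lc_e_rc_9_1 lc_e_rc_16_3 lc_e_rc_18_1 lc_e_rc_4_3 lc_e_rc_4_3 lc_e_rc_16_5 lc_e_rc_9_3 lc_e_rc_18_1 lc_e_Cert_tree lc_e_rc_13_1 lc_e_rc_18_1) (@D3.rec (fun _ => (Cert rels S Gen.e)) lc_e_Cert_tree lc_e_rc_27_7 lc_e_rc_18_1 lc_e_rc_18_1 lc_e_rc_9_3 lc_e_rc_9_3 lc_e_rc_13_1 lc_e_rc_16_1 lc_e_rc_16_1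 lc_e_rc_16_5 lc_e_rc_18_1 lc_e_rc_13_1 lc_e_rc_18_1 lc_e_rc_18_1 lc_e_rc_13_1 lc_e_Cert_tree lc_e_rc_18_1 lc_e_rc_18_1 lc_e_rc_16_5 lc_e_rc_4_1 lc_e_rc_27_7 lc_e_rc_13_1 lc_e_rc_18_1 lc_e_rc_4_3 lc_e_rc_18_1 lc_e_rc_16_5 lc_e_rc_18_1 lc_e_rc_9_3 lc_e_rc_18_1 lc_e_rc_9_1 lc_e_rc_18_1 lc_e_rc_27_1 lc_e_rc_27_5 lc_e_rc_18_1 lc_e_rc_27_7 lc_e_rc_18_1 lc_e_rc_16_1 lc_e_rc_27_5 lc_e_rc_18_1 lc_e_rc_13_3 lc_e_rc_18_1 lc_e_rc_18_1 lc_e_rc_18_1 lc_e_rc_16_3 lc_e_rc_19_2 lc_e_rc_18_1 lc_e_rc_19_4 lc_e_rc_27_7 lc_e_rc_18_1 lc_e_rc_4_3 lc_e_Cert_tree lc_e_rc_18_1 lc_e_rc_4_3 lc_e_rc_9_1 lc_e_rc_9_3 lc_e_rc_18_1 lc_e_rc_13_1 lc_e_rc_16_5 lc_e_rc_18_1 lc_e_rc_18_1 lc_e_rc_19_2 lc_e_rc_27_1)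 (@D3.rec (fun _ => (Cert rels S Gen.e)) lc_e_rc_19_2 lc_e_Cert_tree lc_e_rc_18_1 lc_e_rc_9_1 lc_e_rc_4_3 lc_e_rc_13_3 lc_e_rc_16_1 lc_e_rc_9_3 lc_e_rc_19_0 lc_e_rc_27_1 lc_e_rc_27_5 lc_e_rc_18_1 lc_e_rc_19_2 lc_e_rc_18_1 lc_e_rc_18_1 lc_e_rc_18_1 lc_e_rc_18_1 lc_e_rc_16_5 lc_e_rc_19_2 lc_e_rc_13_3 lc_e_rc_18_1 lc_e_rc_16_1 lc_e_rc_13_3 lc_e_rc_27_7 lc_e_rc_18_1 lc_e_Cert_tree lc_e_rc_16_1 lc_e_rc_27_5 lc_e_rc_13_3 lc_e_rc_9_3 lc_e_rc_19_4 lc_e_rc_27_1 lc_e_rc_16_3 lc_e_rc_27_5 lc_e_rc_27_5 lc_e_rc_18_1 lc_e_rc_18_1 lc_e_rc_16_5 lc_e_rc_18_1 lc_e_Cert_tree lc_e_Cert_tree lc_e_rc_19_4 lc_e_rc_18_1 lc_e_rc_19_4 lc_e_rc_18_1 lc_e_rc_4_1 lc_e_rc_9_1 lc_e_rc_18_1 lc_e_rc_18_1 lc_e_Cert_tree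 lc_e_rc_18_1 lc_e_Cert_tree lc_e_rc_18_1 lc_e_rc_13_3 lc_e_rc_18_1 lc_e_rc_18_1 lc_e_rc_13_3 lc_e_rc_9_1 lc_e_rc_18_1 lc_e_Cert_tree lc_e_rc_18_1 lc_e_rc_13_1) (@D3.rec (fun _ => (Cert rels S Gen.e)) lc_e_rc_27_7 lc_e_rc_13_1 lc_e_rc_18_1 lc_e_rc_27_1 lc_e_rc_27_5 lc_e_rc_16_3 lc_e_rc_18_1 lc_e_rc_18_1 lc_e_rc_16_1 lc_e_rc_19_4 lc_e_Cert_tree lc_e_rc_13_1 lc_e_rc_18_1 lc_e_rc_9_3 lc_e_rc_13_1 lc_e_rc_13_3 lc_e_rc_9_3 lc_e_rc_19_4 lc_e_Cert_tree lc_e_rc_18_1 lc_e_rc_4_3 lc_e_rc_19_4 lc_e_rc_18_1 lc_e_rc_27_1 lc_e_rc_19_4 lc_e_rc_9_3 lc_e_rc_18_1 lc_e_rc_9_3 lc_e_rc_19_4 lc_e_rc_18_1 lc_e_rc_4_3 lc_e_rc_4_3 lc_e_rc_16_5 lc_e_rc_27_5 lc_e_rc_27_7 lc_e_rc_18_1 lc_e_rc_16_5 lc_e_Cert_tree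 lc_e_rc_27_7 lc_e_rc_18_1 lc_e_rc_13_3 lc_e_rc_27_5 lc_e_rc_18_1 lc_e_rc_18_1 lc_e_Cert_tree lc_e_rc_27_1 lc_e_rc_9_1 lc_e_rc_18_1 lc_e_rc_18_1 lc_e_rc_4_3 lc_e_rc_13_1 lc_e_rc_27_7 lc_e_rc_13_3 lc_e_rc_27_5 lc_e_rc_27_7 lc_e_rc_18_1 lc_e_rc_16_1 lc_e_rc_18_1 lc_e_rc_19_0 lc_e_rc_16_3 lc_e_rc_19_0 lc_e_rc_16_1) (@D3.rec (fun _ => (Cert rels S Gen.e)) lc_e_rc_18_1 lc_e_rc_16_1 lc_e_rc_13_3 lc_e_rc_18_1 lc_e_rc_18_1 lc_e_rc_4_3 lc_e_rc_4_3 lc_e_rc_13_3 lc_e_rc_16_3 lc_e_Cert_tree lc_e_rc_18_1 lc_e_Cert_tree lc_e_rc_18_1 lc_e_rc_18_1 lc_e_rc_9_3 lc_e_rc_18_1 lc_e_rc_27_5 lc_e_rc_18_1 lc_e_Cert_tree lc_e_rc_9_3 lc_e_rc_16_5 lc_e_rc_27_5 lc_e_rc_18_1 lc_e_rc_18_1 lc_e_rc_18_1 lc_e_rc_27_7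 lc_e_rc_16_5 lc_e_rc_4_3 lc_e_rc_18_1 lc_e_rc_18_1 lc_e_rc_9_3 lc_e_rc_16_1 lc_e_rc_4_3 lc_e_rc_13_3 lc_e_rc_18_1 lc_e_rc_9_3 lc_e_rc_19_2 lc_e_rc_27_5 lc_e_Cert_tree lc_e_rc_18_1 lc_e_rc_13_3 lc_e_rc_16_1 lc_e_rc_18_1 lc_e_rc_18_1 lc_e_rc_13_1 lc_e_rc_16_1 lc_e_rc_13_1 lc_e_rc_18_1 lc_e_rc_16_1 lc_e_rc_16_1 lc_e_rc_16_5 lc_e_rc_13_1 lc_e_rc_27_1 lc_e_rc_9_1 lc_e_rc_18_1 lc_e_rc_18_1 lc_e_rc_19_2 lc_e_rc_18_1 lc_e_Cert_tree lc_e_Cert_tree lc_e_Cert_tree lc_e_rc_13_3) (@D3.rec (fun _ => (Cert rels S Gen.e)) lc_e_rc_19_2 lc_e_Cert_tree lc_e_rc_18_1 lc_e_rc_13_3 lc_e_rc_9_3 lc_e_rc_27_1 lc_e_Cert_tree lc_e_rc_18_1 lc_e_rc_9_1 lc_e_rc_19_2 lc_e_Cert_tree lc_e_rc_18_1 lc_e_rc_4_3 lc_e_rc_9_3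 lc_e_Cert_tree lc_e_rc_18_1 lc_e_rc_18_1 lc_e_rc_19_2 lc_e_rc_9_1 lc_e_rc_16_3 lc_e_rc_18_1 lc_e_Cert_tree lc_e_rc_27_5 lc_e_rc_18_1 lc_e_rc_27_1 lc_e_rc_27_7 lc_e_rc_27_5 lc_e_rc_19_0 lc_e_rc_9_3 lc_e_rc_18_1 lc_e_rc_19_2 lc_e_rc_13_3 lc_e_rc_9_3 lc_e_rc_18_1 lc_e_rc_4_3 lc_e_rc_9_3 lc_e_rc_13_3 lc_e_rc_27_5 lc_e_rc_18_1 lc_e_rc_4_3 lc_e_rc_9_3 lc_e_Cert_tree lc_e_rc_13_1 lc_e_rc_18_1 lc_e_rc_16_3 lc_e_rc_19_4 lc_e_rc_19_2 lc_e_Cert_tree lc_e_Cert_tree lc_e_rc_18_1 lc_e_rc_16_3 lc_e_rc_19_4 lc_e_rc_19_4 lc_e_rc_18_1 lc_e_rc_18_1 lc_e_Cert_tree lc_e_rc_13_1 lc_e_Cert_tree lc_e_rc_16_1 lc_e_rc_18_1 lc_e_rc_18_1 lc_e_rc_9_3) (@D3.rec (fun _ => (Cert rels S Gen.e)) lc_e_rc_16_1 lc_e_Cert_tree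 lc_e_rc_13_3 lc_e_rc_19_2 lc_e_Cert_tree lc_e_rc_18_1 lc_e_rc_9_3 lc_e_rc_9_3 lc_e_rc_13_1 lc_e_Cert_tree lc_e_rc_18_1 lc_e_Cert_tree lc_e_rc_18_1 lc_e_rc_9_3 lc_e_rc_18_1 lc_e_rc_13_1 lc_e_rc_18_1 lc_e_rc_9_3 lc_e_rc_16_3 lc_e_rc_27_7 lc_e_rc_18_1 lc_e_rc_27_5 lc_e_rc_13_3 lc_e_Cert_tree lc_e_rc_18_1 lc_e_rc_4_3 lc_e_rc_18_1 lc_e_rc_9_1 lc_e_rc_9_3 lc_e_rc_13_3 lc_e_rc_4_1 lc_e_rc_13_3 lc_e_rc_18_1 lc_e_rc_9_3 lc_e_rc_19_0 lc_e_rc_18_1 lc_e_rc_13_3 lc_e_rc_13_1 lc_e_Cert_tree lc_e_rc_18_1 lc_e_rc_27_7 lc_e_rc_18_1 lc_e_rc_9_3 lc_e_rc_27_5 lc_e_rc_18_1 lc_e_Cert_tree lc_e_rc_18_1 lc_e_rc_18_1 lc_e_rc_18_1 lc_e_rc_4_3 lc_e_rc_9_3 lc_e_rc_18_1 lc_e_rc_27_5 lc_e_rc_13_1 lc_e_rc_27_5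 lc_e_rc_18_1 lc_e_rc_18_1 lc_e_Cert_tree lc_e_rc_18_1 lc_e_rc_18_1 lc_e_rc_27_7 lc_e_rc_13_1) (@D3.rec (fun _ => (Cert rels S Gen.e)) lc_e_rc_18_1 lc_e_Cert_tree lc_e_rc_27_1 lc_e_rc_18_1 lc_e_rc_19_0 lc_e_rc_4_3 lc_e_rc_19_4 lc_e_rc_18_1 lc_e_Cert_tree lc_e_Cert_tree lc_e_rc_18_1 lc_e_rc_16_1 lc_e_rc_27_5 lc_e_rc_19_2 lc_e_rc_13_3 lc_e_rc_27_7 lc_e_Cert_tree lc_e_Cert_tree lc_e_rc_18_1 lc_e_rc_13_3 lc_e_rc_4_1 lc_e_rc_4_1 lc_e_Cert_tree lc_e_Cert_tree lc_e_Cert_tree lc_e_Cert_tree lc_e_Cert_tree lc_e_rc_18_1 lc_e_rc_16_3 lc_e_rc_18_1 lc_e_rc_13_3 lc_e_rc_18_1 lc_e_rc_27_7 lc_e_rc_13_1 lc_e_rc_9_1 lc_e_rc_18_1 lc_e_rc_18_1 lc_e_rc_16_5 lc_e_rc_18_1 lc_e_rc_27_1 lc_e_rc_18_1 lc_e_rc_18_1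 lc_e_rc_27_5 lc_e_rc_18_1 lc_e_Cert_tree lc_e_rc_4_1 lc_e_rc_18_1 lc_e_rc_9_3 lc_e_rc_18_1 lc_e_rc_16_5 lc_e_rc_13_3 lc_e_rc_27_5 lc_e_rc_16_3 lc_e_rc_13_3 lc_e_rc_4_3 lc_e_rc_13_3 lc_e_rc_16_3 lc_e_rc_18_1 lc_e_Cert_tree lc_e_Cert_tree lc_e_rc_9_1 lc_e_rc_16_1) (@D3.rec (fun _ => (Cert rels S Gen.e)) lc_e_rc_18_1 lc_e_rc_27_5 lc_e_rc_4_3 lc_e_rc_19_4 lc_e_rc_19_4 lc_e_rc_9_1 lc_e_rc_19_4 lc_e_rc_9_3 lc_e_rc_16_3 lc_e_rc_18_1 lc_e_Cert_tree lc_e_Cert_tree lc_e_rc_27_5 lc_e_rc_18_1 lc_e_rc_18_1 lc_e_rc_16_5 lc_e_rc_9_3 lc_e_rc_9_1 lc_e_rc_18_1 lc_e_rc_16_1 lc_e_rc_9_3 lc_e_Cert_tree lc_e_rc_4_1 lc_e_rc_4_3 lc_e_rc_4_1 lc_e_rc_19_4 lc_e_Cert_tree lc_e_rc_19_4 lc_e_rc_27_5 lc_e_rc_18_1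 lc_e_rc_18_1 lc_e_rc_18_1 lc_e_rc_13_3 lc_e_rc_19_2 lc_e_rc_19_2 lc_e_Cert_tree lc_e_rc_18_1 lc_e_rc_18_1 lc_e_rc_18_1 lc_e_rc_16_1 lc_e_rc_13_3 lc_e_Cert_tree lc_e_rc_18_1 lc_e_Cert_tree lc_e_rc_13_1 lc_e_Cert_tree lc_e_rc_9_3 lc_e_rc_19_4 lc_e_rc_18_1 lc_e_rc_18_1 lc_e_rc_18_1 lc_e_rc_19_4 lc_e_rc_27_1 lc_e_rc_18_1 lc_e_Cert_tree lc_e_rc_18_1 lc_e_Cert_tree lc_e_rc_18_1 lc_e_rc_4_3 lc_e_rc_13_3 lc_e_rc_9_3 lc_e_Cert_tree) (@D3.rec (fun _ => (Cert rels S Gen.e)) lc_e_rc_19_4 lc_e_rc_18_1 lc_e_rc_19_4 lc_e_rc_18_1 lc_e_rc_16_3 lc_e_rc_13_1 lc_e_rc_18_1 lc_e_rc_9_1 lc_e_rc_18_1 lc_e_rc_9_3 lc_e_rc_18_1 lc_e_Cert_tree lc_e_rc_18_1 lc_e_Cert_tree lc_e_rc_18_1 lc_e_rc_9_3 lc_e_rc_19_4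 lc_e_rc_4_3 lc_e_rc_18_1 lc_e_rc_18_1 lc_e_rc_18_1 lc_e_rc_18_1 lc_e_rc_27_5 lc_e_rc_18_1 lc_e_rc_27_5 lc_e_rc_9_3 lc_e_rc_4_3 lc_e_rc_13_1 lc_e_rc_18_1 lc_e_rc_27_5 lc_e_rc_13_1 lc_e_rc_18_1 lc_e_rc_4_3 lc_e_rc_19_0 lc_e_rc_27_1 lc_e_Cert_tree lc_e_rc_18_1 lc_e_rc_9_3 lc_e_rc_18_1 lc_e_rc_16_1 lc_e_rc_19_2 lc_e_rc_27_7 lc_e_rc_16_3 lc_e_rc_27_5 lc_e_rc_18_1 lc_e_rc_27_5 lc_e_rc_27_1 lc_e_rc_16_1 lc_e_rc_19_4 lc_e_rc_18_1 lc_e_Cert_tree lc_e_rc_18_1 lc_e_rc_18_1 lc_e_rc_18_1 lc_e_rc_16_1 lc_e_rc_19_4 lc_e_rc_9_3 lc_e_rc_27_5 lc_e_rc_13_1 lc_e_rc_18_1 lc_e_rc_27_5 lc_e_rc_18_1) (@D3.rec (fun _ => (Cert rels S Gen.e)) lc_e_rc_18_1 lc_e_rc_9_3 lc_e_rc_13_3 lc_e_Cert_tree lc_e_rc_13_3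 lc_e_rc_18_1 lc_e_rc_13_3 lc_e_rc_13_3 lc_e_rc_4_3 lc_e_rc_13_3 lc_e_rc_27_5 lc_e_rc_13_3 lc_e_rc_18_1 lc_e_rc_9_3 lc_e_rc_16_5 lc_e_Cert_tree lc_e_rc_18_1 lc_e_Cert_tree lc_e_rc_19_0 lc_e_rc_27_1 lc_e_rc_18_1 lc_e_rc_18_1 lc_e_rc_18_1 lc_e_rc_16_1 lc_e_rc_19_4 lc_e_rc_18_1 lc_e_rc_18_1 lc_e_rc_19_0 lc_e_rc_18_1 lc_e_rc_18_1 lc_e_rc_13_1 lc_e_rc_9_1 lc_e_Cert_tree lc_e_rc_18_1 lc_e_rc_9_3 lc_e_rc_13_1 lc_e_rc_18_1 lc_e_rc_18_1 lc_e_rc_19_4 lc_e_rc_9_3 lc_e_rc_18_1 lc_e_rc_18_1 lc_e_rc_13_3 lc_e_Cert_tree lc_e_rc_16_3 lc_e_rc_16_3 lc_e_Cert_tree lc_e_rc_18_1 lc_e_rc_13_1 lc_e_rc_13_1 lc_e_rc_9_3 lc_e_rc_18_1 lc_e_rc_18_1 lc_e_rc_19_4 lc_e_rc_13_3 lc_e_rc_9_3 lc_e_rc_18_1 lc_e_Cert_tree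 lc_e_rc_18_1 lc_e_rc_18_1 lc_e_rc_18_1 lc_e_rc_9_1) (@D3.rec (fun _ => (Cert rels S Gen.e)) lc_e_rc_16_1 lc_e_rc_16_5 lc_e_rc_27_1 lc_e_rc_16_5 lc_e_rc_27_5 lc_e_rc_18_1 lc_e_rc_27_7 lc_e_rc_18_1 lc_e_rc_13_3 lc_e_Cert_tree lc_e_rc_18_1 lc_e_rc_4_3 lc_e_Cert_tree lc_e_rc_19_2 lc_e_rc_9_3 lc_e_rc_9_3 lc_e_rc_27_5 lc_e_rc_27_5 lc_e_rc_13_3 lc_e_rc_13_1 lc_e_rc_13_3 lc_e_rc_9_3 lc_e_rc_13_1 lc_e_rc_27_5 lc_e_rc_18_1 lc_e_rc_18_1 lc_e_rc_9_3 lc_e_rc_4_3 lc_e_rc_4_3 lc_e_rc_18_1 lc_e_rc_18_1 lc_e_rc_4_3 lc_e_rc_4_3 lc_e_rc_13_1 lc_e_rc_4_1 lc_e_rc_27_1 lc_e_Cert_tree lc_e_rc_18_1 lc_e_rc_19_2 lc_e_rc_9_1 lc_e_rc_27_5 lc_e_Cert_tree lc_e_rc_18_1 lc_e_rc_13_3 lc_e_rc_16_5 lc_e_Cert_tree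 lc_e_rc_16_5 lc_e_Cert_tree lc_e_Cert_tree lc_e_rc_19_4 lc_e_rc_9_1 lc_e_rc_18_1 lc_e_rc_16_3 lc_e_rc_27_5 lc_e_rc_18_1 lc_e_rc_9_1 lc_e_rc_27_5 lc_e_rc_18_1 lc_e_rc_19_4 lc_e_rc_9_3 lc_e_rc_13_1 lc_e_rc_16_3) (@D3.rec (fun _ => (Cert rels S Gen.e)) lc_e_rc_16_3 lc_e_rc_16_5 lc_e_rc_18_1 lc_e_rc_16_3 lc_e_rc_13_3 lc_e_rc_19_4 lc_e_rc_27_1 lc_e_rc_9_1 lc_e_rc_18_1 lc_e_rc_13_1 lc_e_rc_18_1 lc_e_rc_13_1 lc_e_rc_27_5 lc_e_rc_27_5 lc_e_Cert_tree lc_e_rc_16_5 lc_e_rc_18_1 lc_e_rc_19_2 lc_e_rc_9_3 lc_e_rc_4_1 lc_e_rc_9_3 lc_e_rc_13_3 lc_e_rc_19_2 lc_e_rc_4_3 lc_e_rc_27_5 lc_e_rc_9_1 lc_e_rc_13_3 lc_e_rc_18_1 lc_e_rc_9_3 lc_e_rc_9_3 lc_e_rc_4_1 lc_e_rc_9_3 lc_e_rc_9_3 lc_e_rc_16_5 lc_e_rc_13_3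 lc_e_Cert_tree lc_e_rc_13_3 lc_e_rc_27_7 lc_e_rc_18_1 lc_e_rc_27_5 lc_e_rc_16_3 lc_e_Cert_tree lc_e_rc_4_3 lc_e_rc_18_1 lc_e_rc_27_7 lc_e_rc_18_1 lc_e_rc_9_3 lc_e_rc_9_3 lc_e_rc_16_3 lc_e_rc_18_1 lc_e_rc_18_1 lc_e_rc_13_3 lc_e_rc_18_1 lc_e_rc_27_7 lc_e_rc_19_2 lc_e_rc_16_1 lc_e_rc_13_3 lc_e_Cert_tree lc_e_rc_18_1 lc_e_rc_27_1 lc_e_rc_19_2 lc_e_rc_18_1) (@D3.rec (fun _ => (Cert rels S Gen.e)) lc_e_rc_18_1 lc_e_rc_27_5 lc_e_rc_16_1 lc_e_Cert_tree lc_e_rc_18_1 lc_e_rc_16_3 lc_e_rc_13_3 lc_e_rc_9_1 lc_e_rc_13_1 lc_e_rc_18_1 lc_e_rc_13_3 lc_e_rc_19_0 lc_e_rc_13_1 lc_e_rc_19_2 lc_e_rc_18_1 lc_e_rc_13_3 lc_e_rc_4_1 lc_e_rc_9_1 lc_e_rc_13_1 lc_e_Cert_tree lc_e_rc_18_1 lc_e_rc_9_3 lc_e_rc_16_1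 lc_e_rc_16_5 lc_e_rc_27_7 lc_e_rc_16_5 lc_e_rc_13_1 lc_e_rc_4_3 lc_e_Cert_tree lc_e_rc_18_1 lc_e_rc_13_3 lc_e_rc_27_1 lc_e_rc_13_3 lc_e_Cert_tree lc_e_rc_18_1 lc_e_rc_9_3 lc_e_Cert_tree lc_e_rc_4_3 lc_e_rc_9_3 lc_e_Cert_tree lc_e_Cert_tree lc_e_rc_27_5 lc_e_rc_18_1 lc_e_rc_16_3 lc_e_rc_9_1 lc_e_rc_27_5 lc_e_rc_19_4 lc_e_rc_13_3 lc_e_rc_4_3 lc_e_rc_27_1 lc_e_rc_16_1 lc_e_rc_13_3 lc_e_rc_18_1 lc_e_rc_27_5 lc_e_rc_9_3 lc_e_Cert_tree lc_e_rc_18_1 lc_e_rc_16_5 lc_e_rc_13_3 lc_e_rc_4_3 lc_e_rc_9_3 lc_e_Cert_tree) (@D3.rec (fun _ => (Cert rels S Gen.e)) lc_e_rc_18_1 lc_e_rc_18_1 lc_e_rc_27_5 lc_e_rc_4_3 lc_e_rc_9_1 lc_e_rc_27_7 lc_e_rc_18_1 lc_e_rc_9_3 lc_e_Cert_tree lc_e_rc_16_5 lc_e_rc_16_3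 lc_e_rc_18_1 lc_e_rc_18_1 lc_e_rc_19_2 lc_e_rc_18_1 lc_e_rc_18_1 lc_e_rc_9_3 lc_e_rc_16_5 lc_e_rc_18_1 lc_e_rc_16_3 lc_e_rc_13_3 lc_e_rc_27_5 lc_e_rc_18_1 lc_e_rc_16_1 lc_e_rc_18_1 lc_e_rc_4_3 lc_e_rc_27_1 lc_e_rc_13_1 lc_e_rc_13_3 lc_e_rc_16_1 lc_e_rc_16_5 lc_e_rc_13_3 lc_e_rc_19_2 lc_e_rc_27_5 lc_e_rc_13_3 lc_e_rc_13_1 lc_e_rc_27_1 lc_e_rc_18_1 lc_e_rc_16_1 lc_e_rc_4_1 lc_e_rc_27_5 lc_e_rc_18_1 lc_e_rc_13_3 lc_e_rc_4_3 lc_e_rc_19_2 lc_e_rc_19_2 lc_e_rc_9_3 lc_e_rc_9_3 lc_e_rc_27_1 lc_e_rc_18_1 lc_e_rc_9_3 lc_e_rc_27_1 lc_e_rc_18_1 lc_e_rc_18_1 lc_e_rc_18_1 lc_e_rc_27_7 lc_e_rc_19_2 lc_e_rc_9_3 lc_e_rc_13_3 lc_e_rc_27_1 lc_e_rc_13_3 lc_e_rc_18_1) (@D3.rec (fun _ => (Cert rels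 S Gen.e)) lc_e_rc_9_3 lc_e_rc_13_3 lc_e_Cert_tree lc_e_Cert_tree lc_e_rc_18_1 lc_e_rc_27_7 lc_e_rc_18_1 lc_e_rc_16_1 lc_e_rc_19_2 lc_e_rc_18_1 lc_e_rc_18_1 lc_e_rc_19_2 lc_e_rc_27_5 lc_e_rc_18_1 lc_e_rc_9_1 lc_e_rc_27_1 lc_e_rc_18_1 lc_e_rc_18_1 lc_e_rc_18_1 lc_e_rc_13_3 lc_e_rc_9_1 lc_e_rc_13_3 lc_e_rc_27_7 lc_e_rc_4_3 lc_e_rc_13_1 lc_e_rc_13_3 lc_e_rc_13_3 lc_e_rc_4_1 lc_e_rc_18_1 lc_e_rc_27_5 lc_e_rc_16_5 lc_e_rc_27_7 lc_e_rc_27_5 lc_e_rc_9_3 lc_e_rc_18_1 lc_e_rc_16_1 lc_e_rc_13_1 lc_e_rc_18_1 lc_e_rc_18_1 lc_e_Cert_tree lc_e_rc_18_1 lc_e_rc_9_3 lc_e_rc_16_5 lc_e_rc_27_5 lc_e_rc_19_4 lc_e_rc_16_1 lc_e_rc_16_3 lc_e_rc_18_1 lc_e_rc_18_1 lc_e_rc_4_3 lc_e_rc_16_1 lc_e_Cert_tree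 lc_e_rc_18_1 lc_e_rc_18_1 lc_e_rc_13_3 lc_e_rc_9_1 lc_e_Cert_tree lc_e_rc_19_0 lc_e_rc_18_1 lc_e_rc_16_3 lc_e_rc_13_3 lc_e_rc_18_1) (@D3.rec (fun _ => (Cert rels S Gen.e)) lc_e_Cert_tree lc_e_rc_27_7 lc_e_rc_19_2 lc_e_rc_18_1 lc_e_rc_13_3 lc_e_rc_16_1 lc_e_rc_18_1 lc_e_rc_18_1 lc_e_rc_27_5 lc_e_rc_13_3 lc_e_rc_18_1 lc_e_rc_13_3 lc_e_rc_16_1 lc_e_rc_18_1 lc_e_rc_16_5 lc_e_rc_27_7 lc_e_rc_13_3 lc_e_rc_18_1 lc_e_rc_18_1 lc_e_rc_13_1 lc_e_rc_16_1 lc_e_rc_27_1 lc_e_rc_16_5 lc_e_Cert_tree lc_e_rc_18_1 lc_e_rc_16_1 lc_e_rc_19_4 lc_e_Cert_tree lc_e_rc_18_1 lc_e_rc_18_1 lc_e_rc_27_5 lc_e_rc_9_3 lc_e_rc_18_1 lc_e_rc_16_5 lc_e_rc_18_1 lc_e_rc_18_1 lc_e_rc_27_5 lc_e_rc_19_2 lc_e_rc_18_1 lc_e_rc_18_1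 lc_e_rc_16_1 lc_e_rc_18_1 lc_e_rc_13_3 lc_e_rc_9_3 lc_e_rc_18_1 lc_e_rc_18_1 lc_e_rc_27_7 lc_e_Cert_tree lc_e_rc_18_1 lc_e_Cert_tree lc_e_rc_16_5 lc_e_rc_19_2 lc_e_rc_4_3 lc_e_rc_4_3 lc_e_rc_13_3 lc_e_rc_18_1 lc_e_rc_9_3 lc_e_rc_13_3 lc_e_rc_19_4 lc_e_rc_13_3 lc_e_rc_16_3 lc_e_rc_13_3) (@D3.rec (fun _ => (Cert rels S Gen.e)) lc_e_rc_16_5 lc_e_rc_9_3 lc_e_rc_13_3 lc_e_rc_18_1 lc_e_rc_18_1 lc_e_Cert_tree lc_e_rc_18_1 lc_e_rc_13_3 lc_e_rc_18_1 lc_e_rc_18_1 lc_e_rc_9_3 lc_e_rc_19_4 lc_e_rc_16_1 lc_e_rc_9_3 lc_e_Cert_tree lc_e_Cert_tree lc_e_rc_16_3 lc_e_rc_13_1 lc_e_rc_9_3 lc_e_rc_13_3 lc_e_rc_27_5 lc_e_rc_18_1 lc_e_rc_16_5 lc_e_rc_9_3 lc_e_rc_16_3 lc_e_rc_18_1 lc_e_rc_18_1 lc_e_rc_9_1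 lc_e_Cert_tree lc_e_rc_18_1 lc_e_rc_19_4 lc_e_rc_27_5 lc_e_rc_18_1 lc_e_rc_13_3 lc_e_rc_18_1 lc_e_rc_27_1 lc_e_rc_16_5 lc_e_rc_16_3 lc_e_rc_19_4 lc_e_rc_13_3 lc_e_rc_16_5 lc_e_rc_27_1 lc_e_Cert_tree lc_e_rc_18_1 lc_e_rc_4_3 lc_e_rc_9_3 lc_e_rc_18_1 lc_e_rc_16_5 lc_e_rc_16_3 lc_e_rc_9_1 lc_e_rc_16_1 lc_e_rc_13_3 lc_e_Cert_tree lc_e_rc_13_1 lc_e_rc_18_1 lc_e_rc_13_3 lc_e_rc_27_7 lc_e_rc_13_3 lc_e_rc_4_1 lc_e_rc_9_3 lc_e_Cert_tree lc_e_rc_13_1) (@D3.rec (fun _ => (Cert rels S Gen.e)) lc_e_rc_27_1 lc_e_rc_13_3 lc_e_rc_27_5 lc_e_rc_18_1 lc_e_rc_16_5 lc_e_rc_13_3 lc_e_rc_18_1 lc_e_rc_18_1 lc_e_rc_18_1 lc_e_rc_27_5 lc_e_rc_16_5 lc_e_rc_27_5 lc_e_rc_18_1 lc_e_rc_19_2 lc_e_rc_18_1 lc_e_rc_13_3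 lc_e_rc_18_1 lc_e_rc_19_4 lc_e_rc_27_5 lc_e_rc_18_1 lc_e_rc_9_3 lc_e_rc_18_1 lc_e_rc_16_5 lc_e_rc_18_1 lc_e_rc_4_3 lc_e_rc_18_1 lc_e_Cert_tree lc_e_rc_27_5 lc_e_rc_18_1 lc_e_Cert_tree lc_e_rc_18_1 lc_e_rc_27_5 lc_e_Cert_tree lc_e_rc_9_3 lc_e_rc_16_3 lc_e_rc_9_3 lc_e_rc_16_5 lc_e_rc_18_1 lc_e_rc_27_7 lc_e_rc_13_1 lc_e_rc_18_1 lc_e_rc_27_5 lc_e_rc_27_5 lc_e_rc_16_1 lc_e_rc_19_4 lc_e_rc_27_7 lc_e_rc_27_5 lc_e_rc_18_1 lc_e_Cert_tree lc_e_rc_18_1 lc_e_rc_9_1 lc_e_rc_13_1 lc_e_rc_16_5 lc_e_rc_16_5 lc_e_Cert_tree lc_e_rc_9_3 lc_e_rc_18_1 lc_e_rc_4_1 lc_e_rc_18_1 lc_e_Cert_tree lc_e_rc_18_1 lc_e_Cert_tree) (@D3.rec (fun _ => (Cert rels S Gen.e)) lc_e_rc_18_1 lc_e_rc_19_4 lc_e_rc_18_1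 lc_e_rc_9_1 lc_e_rc_16_3 lc_e_rc_19_2 lc_e_rc_18_1 lc_e_rc_9_1 lc_e_rc_9_3 lc_e_rc_16_1 lc_e_rc_13_3 lc_e_rc_18_1 lc_e_rc_19_0 lc_e_Cert_tree lc_e_rc_27_5 lc_e_rc_18_1 lc_e_rc_18_1 lc_e_rc_18_1 lc_e_rc_18_1 lc_e_rc_13_3 lc_e_rc_9_3 lc_e_rc_27_1 lc_e_rc_16_5 lc_e_rc_13_3 lc_e_rc_13_3 lc_e_rc_13_3 lc_e_rc_4_1 lc_e_rc_13_3 lc_e_rc_18_1 lc_e_rc_18_1 lc_e_rc_16_1 lc_e_rc_19_2 lc_e_rc_16_5 lc_e_rc_13_3 lc_e_rc_9_3 lc_e_rc_13_3 lc_e_rc_13_1 lc_e_rc_13_3 lc_e_rc_18_1 lc_e_Cert_tree lc_e_rc_18_1 lc_e_rc_19_2 lc_e_Cert_tree lc_e_Cert_tree lc_e_rc_18_1 lc_e_rc_19_2 lc_e_Cert_tree lc_e_Cert_tree lc_e_rc_18_1 lc_e_rc_4_1 lc_e_rc_18_1 lc_e_Cert_tree lc_e_rc_18_1 lc_e_rc_13_1 lc_e_rc_18_1 lc_e_rc_13_1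 lc_e_rc_18_1 lc_e_rc_4_3 lc_e_rc_19_4 lc_e_rc_18_1 lc_e_Cert_tree lc_e_rc_18_1) (@D3.rec (fun _ => (Cert rels S Gen.e)) lc_e_rc_19_0 lc_e_rc_18_1 lc_e_rc_9_3 lc_e_Cert_tree lc_e_rc_27_5 lc_e_rc_18_1 lc_e_rc_4_3 lc_e_rc_18_1 lc_e_rc_18_1 lc_e_rc_4_3 lc_e_rc_18_1 lc_e_Cert_tree lc_e_rc_13_1 lc_e_rc_4_3 lc_e_rc_19_4 lc_e_rc_27_1 lc_e_rc_18_1 lc_e_rc_27_5 lc_e_rc_27_7 lc_e_Cert_tree lc_e_rc_18_1 lc_e_rc_9_3 lc_e_rc_9_1 lc_e_rc_16_1 lc_e_rc_18_1 lc_e_rc_18_1 lc_e_rc_13_1 lc_e_Cert_tree lc_e_rc_27_5 lc_e_rc_18_1 lc_e_rc_19_2 lc_e_rc_9_3 lc_e_rc_18_1 lc_e_rc_16_3 lc_e_rc_18_1 lc_e_rc_18_1 lc_e_rc_9_1 lc_e_rc_9_3 lc_e_rc_18_1 lc_e_rc_13_3 lc_e_rc_18_1 lc_e_rc_4_3 lc_e_Cert_tree lc_e_rc_18_1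 lc_e_rc_13_3 lc_e_rc_27_7 lc_e_Cert_tree lc_e_rc_18_1 lc_e_rc_13_1 lc_e_rc_19_2 lc_e_rc_9_3 lc_e_rc_18_1 lc_e_rc_27_1 lc_e_rc_18_1 lc_e_rc_13_3 lc_e_rc_18_1 lc_e_rc_27_5 lc_e_Cert_tree lc_e_rc_18_1 lc_e_rc_4_3 lc_e_Cert_tree lc_e_rc_18_1) (@D3.rec (fun _ => (Cert rels S Gen.e)) lc_e_rc_9_3 lc_e_rc_13_3 lc_e_rc_19_4 lc_e_rc_27_5 lc_e_rc_18_1 lc_e_rc_27_5 lc_e_rc_4_1 lc_e_rc_9_1 lc_e_rc_27_1 lc_e_rc_18_1 lc_e_Cert_tree lc_e_rc_18_1 lc_e_Cert_tree lc_e_rc_13_1 lc_e_rc_18_1 lc_e_rc_13_1 lc_e_rc_9_3 lc_e_Cert_tree lc_e_rc_9_3 lc_e_rc_18_1 lc_e_rc_4_3 lc_e_rc_27_1 lc_e_Cert_tree lc_e_rc_19_4 lc_e_rc_19_0 lc_e_Cert_tree lc_e_rc_18_1 lc_e_rc_13_3 lc_e_rc_4_3 lc_e_rc_19_4 lc_e_rc_27_1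 lc_e_Cert_tree lc_e_rc_27_5 lc_e_rc_18_1 lc_e_rc_16_5 lc_e_rc_27_7 lc_e_rc_18_1 lc_e_rc_16_3 lc_e_rc_18_1 lc_e_rc_18_1 lc_e_rc_18_1 lc_e_rc_13_3 lc_e_Cert_tree lc_e_Cert_tree lc_e_rc_9_1 lc_e_rc_18_1 lc_e_rc_16_5 lc_e_rc_18_1 lc_e_rc_9_3 lc_e_rc_18_1 lc_e_rc_16_1 lc_e_rc_27_1 lc_e_rc_27_7 lc_e_rc_18_1 lc_e_rc_4_3 lc_e_rc_18_1 lc_e_rc_27_1 lc_e_rc_27_1 lc_e_rc_9_3 lc_e_rc_13_3 lc_e_Cert_tree lc_e_rc_27_7) (@D3.rec (fun _ => (Cert rels S Gen.e)) lc_e_rc_27_5 lc_e_rc_4_3 lc_e_rc_18_1 lc_e_rc_19_2 lc_e_rc_18_1 lc_e_rc_16_3 lc_e_rc_27_5 lc_e_rc_13_3 lc_e_rc_18_1 lc_e_rc_4_3 lc_e_rc_9_3 lc_e_rc_18_1 lc_e_rc_4_3 lc_e_rc_27_5 lc_e_rc_18_1 lc_e_rc_9_3 lc_e_rc_27_7 lc_e_rc_19_0 lc_e_rc_18_1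 lc_e_rc_13_1 lc_e_rc_4_3 lc_e_rc_18_1 lc_e_rc_18_1 lc_e_rc_9_3 lc_e_rc_27_7 lc_e_rc_19_4 lc_e_rc_13_1 lc_e_rc_18_1 lc_e_rc_27_5 lc_e_rc_4_1 lc_e_rc_18_1 lc_e_rc_18_1 lc_e_rc_4_3 lc_e_rc_9_3 lc_e_rc_27_5 lc_e_rc_18_1 lc_e_rc_16_1 lc_e_rc_9_3 lc_e_rc_13_3 lc_e_rc_18_1 lc_e_rc_18_1 lc_e_rc_18_1 lc_e_rc_19_4 lc_e_rc_27_7 lc_e_rc_18_1 lc_e_rc_9_3 lc_e_rc_4_1 lc_e_rc_13_3 lc_e_rc_13_3 lc_e_rc_13_3 lc_e_rc_9_3 lc_e_rc_13_3 lc_e_Cert_tree lc_e_rc_27_1 lc_e_rc_9_3 lc_e_rc_18_1 lc_e_rc_13_1 lc_e_rc_27_1 lc_e_rc_18_1 lc_e_rc_19_2 lc_e_rc_27_5 lc_e_rc_18_1) (@D3.rec (fun _ => (Cert rels S Gen.e)) lc_e_rc_16_5 lc_e_rc_13_3 lc_e_rc_27_5 lc_e_Cert_tree lc_e_rc_18_1 lc_e_rc_27_5 lc_e_rc_4_3 lc_e_rc_9_3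 lc_e_rc_16_3 lc_e_rc_9_3 lc_e_rc_18_1 lc_e_rc_27_7 lc_e_rc_4_3 lc_e_rc_13_3 lc_e_rc_18_1 lc_e_rc_16_3 lc_e_rc_27_5 lc_e_rc_13_3 lc_e_rc_27_5 lc_e_rc_9_3 lc_e_rc_16_5 lc_e_rc_13_1 lc_e_rc_9_3 lc_e_rc_18_1 lc_e_rc_18_1 lc_e_rc_18_1 lc_e_rc_27_5 lc_e_rc_13_3 lc_e_rc_13_1 lc_e_Cert_tree lc_e_rc_18_1 lc_e_rc_9_3 lc_e_rc_16_3 lc_e_rc_19_2 lc_e_rc_9_3 lc_e_Cert_tree lc_e_rc_18_1 lc_e_rc_18_1 lc_e_rc_13_3 lc_e_rc_27_5 lc_e_rc_18_1 lc_e_rc_18_1 lc_e_rc_13_1 lc_e_Cert_tree lc_e_rc_18_1 lc_e_rc_27_5 lc_e_Cert_tree lc_e_rc_16_1 lc_e_rc_19_4 lc_e_rc_13_3 lc_e_rc_18_1 lc_e_Cert_tree lc_e_rc_18_1 lc_e_rc_18_1 lc_e_rc_18_1 lc_e_rc_16_1 lc_e_rc_9_3 lc_e_Cert_tree lc_e_rc_9_1 lc_e_rc_18_1 lc_e_rc_19_4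 lc_e_rc_9_1) (@D3.rec (fun _ => (Cert rels S Gen.e)) lc_e_Cert_tree lc_e_rc_18_1 lc_e_rc_18_1 lc_e_rc_27_1 lc_e_rc_18_1 lc_e_Cert_tree lc_e_rc_27_1 lc_e_rc_16_5 lc_e_rc_27_7 lc_e_rc_16_5 lc_e_rc_16_5 lc_e_rc_18_1 lc_e_Cert_tree lc_e_Cert_tree lc_e_rc_18_1 lc_e_Cert_tree lc_e_rc_16_1 lc_e_rc_19_2 lc_e_rc_16_3 lc_e_Cert_tree lc_e_Cert_tree lc_e_rc_18_1 lc_e_rc_16_3 lc_e_rc_9_1 lc_e_Cert_tree lc_e_rc_18_1 lc_e_rc_18_1 lc_e_rc_9_1 lc_e_rc_13_1 lc_e_rc_4_3 lc_e_rc_4_3 lc_e_rc_9_3 lc_e_rc_4_1 lc_e_rc_18_1 lc_e_rc_13_3 lc_e_rc_13_1 lc_e_rc_13_1 lc_e_rc_19_2 lc_e_rc_27_1 lc_e_rc_9_1 lc_e_Cert_tree lc_e_rc_18_1 lc_e_rc_9_3 lc_e_rc_4_1 lc_e_rc_13_1 lc_e_rc_9_3 lc_e_rc_18_1 lc_e_rc_27_7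 lc_e_rc_13_3 lc_e_rc_18_1 lc_e_rc_27_1 lc_e_rc_16_3 lc_e_rc_9_1 lc_e_rc_9_3 lc_e_rc_18_1 lc_e_Cert_tree lc_e_rc_18_1 lc_e_rc_13_3 lc_e_rc_4_3 lc_e_rc_18_1 lc_e_rc_18_1 lc_e_rc_18_1) (@D3.rec (fun _ => (Cert rels S Gen.e)) lc_e_rc_19_4 lc_e_rc_4_3 lc_e_rc_27_1 lc_e_rc_18_1 lc_e_rc_27_5 lc_e_rc_18_1 lc_e_rc_13_3 lc_e_rc_9_3 lc_e_rc_27_1 lc_e_rc_27_7 lc_e_rc_18_1 lc_e_rc_18_1 lc_e_rc_19_2 lc_e_rc_27_1 lc_e_rc_27_1 lc_e_rc_16_1 lc_e_rc_19_4 lc_e_Cert_tree lc_e_rc_18_1 lc_e_rc_27_5 lc_e_rc_18_1 lc_e_rc_27_5 lc_e_rc_13_3 lc_e_rc_16_3 lc_e_rc_18_1 lc_e_rc_27_5 lc_e_rc_18_1 lc_e_rc_9_1 lc_e_rc_18_1 lc_e_rc_16_5 lc_e_rc_19_4 lc_e_Cert_tree lc_e_rc_9_3 lc_e_Cert_tree lc_e_rc_18_1 lc_e_rc_18_1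 lc_e_rc_9_3 lc_e_rc_16_1 lc_e_rc_27_7 lc_e_rc_13_3 lc_e_Cert_tree lc_e_rc_18_1 lc_e_rc_18_1 lc_e_Cert_tree lc_e_rc_18_1 lc_e_rc_4_3 lc_e_rc_13_1 lc_e_rc_18_1 lc_e_rc_18_1 lc_e_rc_19_4 lc_e_rc_4_3 lc_e_rc_9_1 lc_e_rc_4_3 lc_e_rc_4_3 lc_e_rc_9_3 lc_e_rc_18_1 lc_e_Cert_tree lc_e_rc_18_1 lc_e_rc_27_5 lc_e_rc_18_1 lc_e_rc_13_1 lc_e_rc_27_7) (@D3.rec (fun _ => (Cert rels S Gen.e)) lc_e_rc_18_1 lc_e_rc_4_3 lc_e_rc_18_1 lc_e_rc_9_1 lc_e_rc_16_3 lc_e_rc_13_3 lc_e_rc_16_3 lc_e_rc_18_1 lc_e_rc_18_1 lc_e_rc_18_1 lc_e_rc_16_1 lc_e_rc_19_4 lc_e_rc_19_4 lc_e_rc_18_1 lc_e_rc_18_1 lc_e_rc_19_4 lc_e_Cert_tree lc_e_rc_18_1 lc_e_rc_18_1 lc_e_rc_18_1 lc_e_rc_16_3 lc_e_rc_13_1 lc_e_rc_27_1 lc_e_rc_27_5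 lc_e_Cert_tree lc_e_rc_18_1 lc_e_rc_13_1 lc_e_rc_18_1 lc_e_rc_18_1 lc_e_rc_18_1 lc_e_rc_18_1 lc_e_rc_18_1 lc_e_rc_13_3 lc_e_rc_18_1 lc_e_rc_18_1 lc_e_rc_18_1 lc_e_rc_18_1 lc_e_Cert_tree lc_e_Cert_tree lc_e_rc_16_5 lc_e_rc_16_5 lc_e_rc_16_1 lc_e_rc_16_5 lc_e_rc_27_5 lc_e_rc_13_1 lc_e_rc_9_3 lc_e_rc_27_5 lc_e_rc_13_1 lc_e_rc_18_1 lc_e_rc_13_3 lc_e_rc_9_3 lc_e_rc_19_0 lc_e_rc_9_3 lc_e_rc_9_3 lc_e_rc_18_1 lc_e_rc_16_1 lc_e_rc_9_3 lc_e_rc_18_1 lc_e_rc_18_1 lc_e_Cert_tree lc_e_rc_19_2 lc_e_rc_13_1) (@D3.rec (fun _ => (Cert rels S Gen.e)) lc_e_rc_27_7 lc_e_rc_18_1 lc_e_rc_16_5 lc_e_rc_18_1 lc_e_rc_4_3 lc_e_rc_4_3 lc_e_rc_18_1 lc_e_rc_18_1 lc_e_rc_9_3 lc_e_rc_19_2 lc_e_rc_4_3 lc_e_rc_13_3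 lc_e_Cert_tree lc_e_rc_13_3 lc_e_rc_27_5 lc_e_rc_27_5 lc_e_rc_18_1 lc_e_rc_27_7 lc_e_rc_18_1 lc_e_rc_13_3 lc_e_Cert_tree lc_e_rc_18_1 lc_e_rc_13_3 lc_e_rc_4_3 lc_e_Cert_tree lc_e_rc_19_0 lc_e_rc_18_1 lc_e_rc_18_1 lc_e_rc_19_2 lc_e_rc_18_1 lc_e_rc_4_1 lc_e_rc_18_1 lc_e_rc_27_5 lc_e_rc_16_3 lc_e_rc_27_5 lc_e_rc_18_1 lc_e_rc_27_7 lc_e_rc_18_1 lc_e_rc_4_3 lc_e_rc_18_1 lc_e_rc_27_1 lc_e_rc_9_3 lc_e_rc_27_1 lc_e_rc_18_1 lc_e_rc_27_5 lc_e_rc_18_1 lc_e_rc_16_1 lc_e_rc_16_1 lc_e_rc_27_7 lc_e_rc_9_3 lc_e_Cert_tree lc_e_rc_18_1 lc_e_rc_16_5 lc_e_rc_4_3 lc_e_rc_13_1 lc_e_rc_18_1 lc_e_rc_16_3 lc_e_rc_18_1 lc_e_rc_13_3 lc_e_rc_18_1 lc_e_rc_27_1 lc_e_rc_19_4) (@D3.rec (fun _ => (Cert rels S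 Gen.e)) lc_e_rc_27_5 lc_e_rc_18_1 lc_e_rc_16_1 lc_e_rc_13_3 lc_e_Cert_tree lc_e_rc_18_1 lc_e_rc_9_1 lc_e_rc_4_3 lc_e_rc_19_2 lc_e_rc_9_3 lc_e_rc_27_1 lc_e_rc_27_5 lc_e_rc_18_1 lc_e_rc_16_1 lc_e_rc_9_3 lc_e_rc_16_5 lc_e_rc_16_3 lc_e_rc_16_5 lc_e_rc_18_1 lc_e_rc_27_5 lc_e_rc_13_3 lc_e_rc_18_1 lc_e_rc_9_3 lc_e_rc_27_5 lc_e_rc_18_1 lc_e_rc_18_1 lc_e_rc_27_7 lc_e_rc_9_3 lc_e_rc_19_2 lc_e_rc_18_1 lc_e_rc_4_3 lc_e_rc_9_3 lc_e_rc_13_3 lc_e_rc_4_3 lc_e_rc_13_3 lc_e_rc_27_7 lc_e_rc_18_1 lc_e_rc_9_1 lc_e_rc_18_1 lc_e_rc_9_3 lc_e_rc_16_5 lc_e_rc_19_4 lc_e_rc_27_1 lc_e_rc_16_5 lc_e_rc_4_3 lc_e_rc_16_1 lc_e_rc_4_3 lc_e_rc_9_3 lc_e_rc_13_3 lc_e_rc_13_3 lc_e_rc_16_5 lc_e_rc_13_1 lc_e_Cert_tree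 lc_e_rc_13_3 lc_e_rc_18_1 lc_e_rc_18_1 lc_e_rc_13_3 lc_e_rc_18_1 lc_e_rc_27_5 lc_e_rc_19_4 lc_e_rc_18_1 lc_e_rc_18_1) (@D3.rec (fun _ => (Cert rels S Gen.e)) lc_e_rc_18_1 lc_e_rc_4_1 lc_e_rc_9_3 lc_e_rc_19_4 lc_e_rc_16_3 lc_e_rc_18_1 lc_e_rc_13_3 lc_e_rc_27_5 lc_e_rc_4_3 lc_e_rc_18_1 lc_e_rc_13_3 lc_e_rc_18_1 lc_e_rc_19_4 lc_e_rc_18_1 lc_e_Cert_tree lc_e_rc_18_1 lc_e_rc_9_3 lc_e_rc_4_3 lc_e_rc_9_3 lc_e_rc_16_3 lc_e_rc_27_7 lc_e_rc_18_1 lc_e_rc_18_1 lc_e_rc_16_5 lc_e_rc_18_1 lc_e_rc_19_4 lc_e_rc_13_1 lc_e_Cert_tree lc_e_rc_9_3 lc_e_rc_4_3 lc_e_Cert_tree lc_e_rc_18_1 lc_e_rc_18_1 lc_e_rc_9_1 lc_e_rc_19_4 lc_e_rc_18_1 lc_e_rc_18_1 lc_e_rc_18_1 lc_e_rc_4_3 lc_e_rc_13_3 lc_e_rc_18_1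 lc_e_rc_13_3 lc_e_rc_16_1 lc_e_rc_13_3 lc_e_rc_16_3 lc_e_rc_19_4 lc_e_rc_18_1 lc_e_rc_16_5 lc_e_rc_19_4 lc_e_rc_18_1 lc_e_rc_9_1 lc_e_rc_13_3 lc_e_rc_13_3 lc_e_rc_4_3 lc_e_rc_18_1 lc_e_rc_18_1 lc_e_rc_13_1 lc_e_rc_18_1 lc_e_rc_9_3 lc_e_rc_27_7 lc_e_rc_16_3 lc_e_rc_9_3) (@D3.rec (fun _ => (Cert rels S Gen.e)) lc_e_rc_13_1 lc_e_rc_18_1 lc_e_rc_13_3 lc_e_rc_18_1 lc_e_rc_4_1 lc_e_rc_19_4 lc_e_Cert_tree lc_e_rc_18_1 lc_e_rc_18_1 lc_e_rc_16_1 lc_e_Cert_tree lc_e_rc_18_1 lc_e_rc_16_3 lc_e_rc_18_1 lc_e_rc_18_1 lc_e_rc_13_3 lc_e_rc_18_1 lc_e_rc_18_1 lc_e_rc_9_3 lc_e_rc_27_5 lc_e_rc_13_1 lc_e_rc_9_3 lc_e_rc_27_5 lc_e_rc_4_3 lc_e_rc_16_5 lc_e_rc_4_3 lc_e_rc_27_7 lc_e_rc_27_5 lc_e_rc_9_3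 lc_e_rc_18_1 lc_e_rc_13_3 lc_e_rc_27_1 lc_e_rc_4_3 lc_e_rc_9_3 lc_e_rc_4_3 lc_e_rc_13_1 lc_e_rc_16_5 lc_e_rc_9_3 lc_e_Cert_tree lc_e_rc_18_1 lc_e_rc_13_3 lc_e_rc_27_1 lc_e_rc_18_1 lc_e_rc_9_1 lc_e_rc_18_1 lc_e_rc_18_1 lc_e_rc_13_1 lc_e_rc_4_3 lc_e_rc_9_3 lc_e_rc_16_3 lc_e_rc_9_1 lc_e_rc_16_1 lc_e_rc_13_3 lc_e_rc_18_1 lc_e_rc_19_2 lc_e_Cert_tree lc_e_rc_27_7 lc_e_rc_27_7 lc_e_rc_18_1 lc_e_rc_9_1 lc_e_rc_27_5 lc_e_rc_18_1) (@D3.rec (fun _ => (Cert rels S Gen.e)) lc_e_rc_4_3 lc_e_rc_27_5 lc_e_rc_18_1 lc_e_rc_13_3 lc_e_Cert_tree lc_e_rc_18_1 lc_e_Cert_tree lc_e_rc_18_1 lc_e_rc_9_3 lc_e_rc_27_1 lc_e_rc_19_2 lc_e_Cert_tree lc_e_rc_18_1 lc_e_rc_18_1 lc_e_rc_16_1 lc_e_rc_9_3 lc_e_rc_16_1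 lc_e_rc_19_0 lc_e_rc_27_5 lc_e_rc_18_1 lc_e_rc_18_1 lc_e_rc_27_5 lc_e_Cert_tree lc_e_rc_27_7 lc_e_rc_16_3 lc_e_rc_13_1 lc_e_rc_13_3 lc_e_rc_18_1 lc_e_rc_16_3 lc_e_rc_4_1 lc_e_rc_13_3 lc_e_rc_18_1 lc_e_rc_9_1 lc_e_rc_13_1 lc_e_Cert_tree lc_e_rc_18_1 lc_e_rc_19_2 lc_e_rc_27_1 lc_e_rc_13_1 lc_e_rc_18_1 lc_e_rc_16_1 lc_e_rc_4_3 lc_e_rc_9_1 lc_e_rc_13_1 lc_e_Cert_tree lc_e_rc_18_1 lc_e_rc_13_3 lc_e_rc_27_5 lc_e_rc_18_1 lc_e_rc_16_3 lc_e_rc_18_1 lc_e_rc_16_5 lc_e_rc_18_1 lc_e_rc_18_1 lc_e_Cert_tree lc_e_rc_19_4 lc_e_rc_18_1 lc_e_rc_18_1 lc_e_rc_9_1 lc_e_rc_18_1 lc_e_rc_18_1 lc_e_Cert_tree) (@D3.rec (fun _ => (Cert rels S Gen.e)) lc_e_rc_18_1 lc_e_rc_18_1 lc_e_rc_16_3 lc_e_rc_19_2 lc_e_rc_4_1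 lc_e_rc_18_1 lc_e_rc_18_1 lc_e_rc_9_3 lc_e_rc_27_5 lc_e_rc_18_1 lc_e_rc_19_4 lc_e_rc_9_3 lc_e_Cert_tree lc_e_rc_27_5 lc_e_rc_18_1 lc_e_rc_18_1 lc_e_rc_18_1 lc_e_rc_18_1 lc_e_rc_4_3 lc_e_rc_16_1 lc_e_rc_19_2 lc_e_rc_18_1 lc_e_rc_16_1 lc_e_rc_4_1 lc_e_Cert_tree lc_e_rc_27_1 lc_e_rc_18_1 lc_e_rc_16_1 lc_e_rc_13_3 lc_e_rc_27_1 lc_e_rc_16_5 lc_e_rc_13_3 lc_e_rc_27_5 lc_e_rc_27_5 lc_e_rc_27_5 lc_e_rc_18_1 lc_e_rc_13_3 lc_e_rc_16_5 lc_e_rc_19_2 lc_e_rc_18_1 lc_e_rc_16_1 lc_e_rc_19_2 lc_e_rc_16_3 lc_e_rc_9_3 lc_e_rc_18_1 lc_e_rc_18_1 lc_e_Cert_tree lc_e_rc_16_1 lc_e_Cert_tree lc_e_Cert_tree lc_e_rc_27_1 lc_e_rc_18_1 lc_e_rc_16_5 lc_e_rc_13_1 lc_e_rc_27_7 lc_e_rc_18_1 lc_e_rc_4_3 lc_e_rc_19_0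 lc_e_rc_18_1 lc_e_rc_27_1 lc_e_rc_4_3 lc_e_rc_18_1) (@D3.rec (fun _ => (Cert rels S Gen.e)) lc_e_rc_16_3 lc_e_rc_18_1 lc_e_rc_18_1 lc_e_rc_13_3 lc_e_rc_16_3 lc_e_rc_19_0 lc_e_rc_18_1 lc_e_rc_9_3 lc_e_rc_13_3 lc_e_rc_9_1 lc_e_rc_16_3 lc_e_rc_16_1 lc_e_rc_18_1 lc_e_rc_19_2 lc_e_rc_18_1 lc_e_rc_18_1 lc_e_rc_27_1 lc_e_rc_18_1 lc_e_rc_19_4 lc_e_rc_18_1 lc_e_rc_18_1 lc_e_rc_16_3 lc_e_rc_18_1 lc_e_rc_13_1 lc_e_rc_19_2 lc_e_rc_13_3 lc_e_rc_4_1 lc_e_rc_13_3 lc_e_rc_4_3 lc_e_rc_16_3 lc_e_rc_18_1 lc_e_rc_13_3 lc_e_rc_19_4 lc_e_rc_27_7 lc_e_rc_19_4 lc_e_rc_16_5 lc_e_rc_19_4 lc_e_rc_18_1 lc_e_rc_18_1 lc_e_rc_9_1 lc_e_rc_18_1 lc_e_rc_4_3 lc_e_rc_18_1 lc_e_Cert_tree lc_e_rc_18_1 lc_e_rc_18_1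 lc_e_rc_19_4 lc_e_rc_16_1 lc_e_Cert_tree lc_e_rc_9_3 lc_e_rc_16_3 lc_e_rc_27_5 lc_e_rc_9_3 lc_e_rc_18_1 lc_e_rc_27_5 lc_e_rc_27_1 lc_e_rc_27_5 lc_e_rc_13_3 lc_e_Cert_tree lc_e_Cert_tree lc_e_rc_9_3 lc_e_rc_16_3) (@D3.rec (fun _ => (Cert rels S Gen.e)) lc_e_rc_9_3 lc_e_rc_16_3 lc_e_Cert_tree lc_e_rc_18_1 lc_e_rc_16_3 lc_e_rc_9_3 lc_e_rc_18_1 lc_e_rc_4_3 lc_e_rc_13_3 lc_e_rc_18_1 lc_e_rc_18_1 lc_e_rc_9_3 lc_e_rc_19_2 lc_e_rc_13_3 lc_e_rc_9_3 lc_e_rc_27_5 lc_e_rc_18_1 lc_e_rc_13_3 lc_e_rc_13_1 lc_e_Cert_tree lc_e_rc_18_1 lc_e_rc_18_1 lc_e_rc_27_1 lc_e_rc_16_3 lc_e_rc_4_1 lc_e_rc_18_1 lc_e_rc_16_1 lc_e_rc_27_5 lc_e_rc_9_1 lc_e_rc_18_1 lc_e_rc_18_1 lc_e_rc_9_3 lc_e_rc_27_1 lc_e_rc_13_3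 lc_e_rc_27_5 lc_e_rc_16_1 lc_e_rc_18_1 lc_e_Cert_tree lc_e_rc_18_1 lc_e_rc_19_2 lc_e_rc_19_4 lc_e_rc_18_1 lc_e_rc_4_3 lc_e_rc_19_4 lc_e_rc_16_5 lc_e_rc_9_3 lc_e_rc_18_1 lc_e_rc_18_1 lc_e_rc_13_1 lc_e_rc_18_1 lc_e_rc_13_1 lc_e_rc_18_1 lc_e_rc_18_1 lc_e_rc_18_1 lc_e_rc_18_1 lc_e_rc_13_3 lc_e_rc_13_1 lc_e_rc_9_3 lc_e_rc_18_1 lc_e_rc_18_1 lc_e_Cert_tree lc_e_rc_19_4) (@D3.rec (fun _ => (Cert rels S Gen.e)) lc_e_rc_13_3 lc_e_rc_13_3 lc_e_rc_18_1 lc_e_rc_16_1 lc_e_rc_27_1 lc_e_rc_9_3 lc_e_rc_18_1 lc_e_rc_9_3 lc_e_rc_19_2 lc_e_rc_18_1 lc_e_rc_18_1 lc_e_rc_9_3 lc_e_rc_13_1 lc_e_rc_18_1 lc_e_rc_9_3 lc_e_rc_18_1 lc_e_rc_13_3 lc_e_rc_13_3 lc_e_rc_9_3 lc_e_rc_13_1 lc_e_rc_16_5 lc_e_rc_27_7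 lc_e_rc_18_1 lc_e_rc_27_7 lc_e_rc_18_1 lc_e_rc_4_3 lc_e_rc_16_1 lc_e_rc_13_1 lc_e_rc_18_1 lc_e_rc_18_1 lc_e_rc_18_1 lc_e_rc_9_3 lc_e_rc_9_3 lc_e_rc_13_1 lc_e_rc_18_1 lc_e_rc_4_3 lc_e_rc_18_1 lc_e_rc_9_3 lc_e_rc_4_3 lc_e_rc_27_1 lc_e_rc_4_3 lc_e_rc_18_1 lc_e_rc_16_5 lc_e_Cert_tree lc_e_rc_27_5 lc_e_rc_9_3 lc_e_rc_18_1 lc_e_Cert_tree lc_e_rc_9_3 lc_e_rc_18_1 lc_e_rc_27_1 lc_e_rc_18_1 lc_e_rc_18_1 lc_e_rc_27_7 lc_e_rc_27_1 lc_e_rc_18_1 lc_e_rc_9_3 lc_e_rc_19_4 lc_e_rc_16_5 lc_e_rc_16_5 lc_e_rc_13_3 lc_e_Cert_tree) (@D3.rec (fun _ => (Cert rels S Gen.e)) lc_e_rc_13_3 lc_e_rc_27_5 lc_e_rc_27_5 lc_e_rc_18_1 lc_e_Cert_tree lc_e_rc_16_1 lc_e_rc_18_1 lc_e_rc_4_3 lc_e_rc_13_3 lc_e_rc_19_4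 lc_e_rc_13_1 lc_e_Cert_tree lc_e_Cert_tree lc_e_rc_4_3 lc_e_rc_27_1 lc_e_rc_27_1 lc_e_rc_9_3 lc_e_rc_19_4 lc_e_rc_27_1 lc_e_rc_27_1 lc_e_rc_18_1 lc_e_rc_27_1 lc_e_rc_13_3 lc_e_rc_18_1 lc_e_rc_18_1 lc_e_rc_18_1 lc_e_rc_18_1 lc_e_Cert_tree lc_e_rc_18_1 lc_e_rc_19_4 lc_e_rc_9_1 lc_e_rc_9_1 lc_e_rc_18_1 lc_e_rc_16_5 lc_e_rc_27_7 lc_e_rc_4_3 lc_e_rc_18_1 lc_e_rc_27_5 lc_e_rc_16_5 lc_e_rc_19_4 lc_e_rc_18_1 lc_e_rc_27_1 lc_e_rc_18_1 lc_e_rc_4_3 lc_e_rc_18_1 lc_e_rc_19_0 lc_e_rc_16_5 lc_e_rc_9_3 lc_e_rc_27_5 lc_e_rc_18_1 lc_e_rc_18_1 lc_e_rc_16_3 lc_e_rc_19_4 lc_e_rc_18_1 lc_e_rc_16_3 lc_e_rc_9_3 lc_e_rc_18_1 lc_e_rc_27_5 lc_e_rc_13_3 lc_e_rc_18_1 lc_e_rc_9_1 lc_e_rc_27_1) (@D3.rec (fun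 _ => (Cert rels S Gen.e)) lc_e_rc_18_1 lc_e_rc_9_3 lc_e_rc_27_1 lc_e_rc_18_1 lc_e_Cert_tree lc_e_rc_18_1 lc_e_rc_27_5 lc_e_rc_19_2 lc_e_rc_18_1 lc_e_rc_19_2 lc_e_rc_4_1 lc_e_rc_18_1 lc_e_rc_4_3 lc_e_Cert_tree lc_e_rc_16_1 lc_e_rc_16_5 lc_e_rc_18_1 lc_e_rc_13_3 lc_e_rc_18_1 lc_e_rc_16_3 lc_e_rc_19_2 lc_e_rc_27_5 lc_e_rc_18_1 lc_e_rc_18_1 lc_e_rc_9_3 lc_e_rc_9_3 lc_e_rc_27_7 lc_e_rc_18_1 lc_e_rc_18_1 lc_e_rc_9_1 lc_e_rc_16_3 lc_e_rc_18_1 lc_e_rc_18_1 lc_e_rc_9_3 lc_e_rc_9_3 lc_e_rc_18_1 lc_e_rc_19_4 lc_e_rc_27_1 lc_e_rc_13_3 lc_e_rc_18_1 lc_e_rc_16_5 lc_e_rc_13_3 lc_e_rc_4_3 lc_e_rc_18_1 lc_e_rc_16_5 lc_e_Cert_tree lc_e_rc_13_1 lc_e_rc_18_1 lc_e_rc_16_5 lc_e_rc_27_7 lc_e_rc_16_1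 lc_e_rc_9_1 lc_e_rc_19_2 lc_e_rc_27_1 lc_e_rc_4_1 lc_e_rc_16_1 lc_e_rc_16_5 lc_e_rc_18_1 lc_e_rc_16_5 lc_e_rc_13_3 lc_e_rc_27_5 lc_e_rc_18_1) (@D3.rec (fun _ => (Cert rels S Gen.e)) lc_e_Cert_tree lc_e_rc_13_3 lc_e_rc_18_1 lc_e_rc_13_3 lc_e_rc_18_1 lc_e_rc_18_1 lc_e_rc_4_3 lc_e_Cert_tree lc_e_rc_9_3 lc_e_rc_13_3 lc_e_rc_9_3 lc_e_rc_9_3 lc_e_rc_18_1 lc_e_rc_13_3 lc_e_rc_13_1 lc_e_rc_19_4 lc_e_rc_4_3 lc_e_rc_13_1 lc_e_rc_27_1 lc_e_rc_18_1 lc_e_rc_18_1 lc_e_rc_18_1 lc_e_rc_9_3 lc_e_rc_13_1 lc_e_rc_27_1 lc_e_rc_27_1 lc_e_rc_19_4 lc_e_rc_18_1 lc_e_rc_18_1 lc_e_rc_27_5 lc_e_rc_16_3 lc_e_rc_18_1 lc_e_rc_16_1 lc_e_rc_13_3 lc_e_rc_18_1 lc_e_Cert_tree lc_e_Cert_tree lc_e_rc_19_4 lc_e_rc_18_1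 lc_e_rc_4_3 lc_e_rc_19_4 lc_e_rc_18_1 lc_e_rc_27_1 lc_e_rc_9_1 lc_e_rc_18_1 lc_e_rc_13_3 lc_e_rc_16_5 lc_e_Cert_tree lc_e_rc_18_1 lc_e_rc_18_1 lc_e_rc_18_1 lc_e_rc_9_3 lc_e_rc_16_3 lc_e_rc_19_4 lc_e_rc_9_3 lc_e_rc_16_3 lc_e_rc_13_3 lc_e_rc_27_1 lc_e_rc_18_1 lc_e_rc_16_1 lc_e_rc_13_3 lc_e_rc_9_1) (@D3.rec (fun _ => (Cert rels S Gen.e)) lc_e_rc_19_4 lc_e_rc_18_1 lc_e_rc_18_1 lc_e_rc_18_1 lc_e_rc_4_3 lc_e_rc_13_3 lc_e_rc_18_1 lc_e_rc_19_2 lc_e_rc_18_1 lc_e_Cert_tree lc_e_rc_13_1 lc_e_rc_19_0 lc_e_rc_18_1 lc_e_rc_27_5 lc_e_rc_27_5 lc_e_rc_18_1 lc_e_rc_19_0 lc_e_rc_18_1 lc_e_rc_16_5 lc_e_rc_27_1 lc_e_rc_27_5 lc_e_rc_18_1 lc_e_rc_27_5 lc_e_rc_18_1 lc_e_rc_16_3 lc_e_rc_19_2 lc_e_rc_18_1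 lc_e_rc_13_3 lc_e_rc_27_1 lc_e_rc_18_1 lc_e_rc_19_4 lc_e_rc_18_1 lc_e_rc_13_3 lc_e_rc_13_3 lc_e_rc_16_3 lc_e_rc_9_3 lc_e_rc_13_1 lc_e_rc_9_1 lc_e_rc_27_1 lc_e_rc_18_1 lc_e_rc_4_3 lc_e_Cert_tree lc_e_rc_13_3 lc_e_rc_9_1 lc_e_rc_27_1 lc_e_rc_18_1 lc_e_rc_19_2 lc_e_rc_18_1 lc_e_rc_13_1 lc_e_rc_18_1 lc_e_rc_18_1 lc_e_Cert_tree lc_e_rc_18_1 lc_e_rc_9_1 lc_e_rc_27_5 lc_e_rc_18_1 lc_e_rc_13_3 lc_e_rc_16_5 lc_e_rc_9_3 lc_e_rc_18_1 lc_e_rc_27_5 lc_e_rc_18_1) (@D3.rec (fun _ => (Cert rels S Gen.e)) lc_e_rc_18_1 lc_e_rc_18_1 lc_e_rc_18_1 lc_e_rc_18_1 lc_e_rc_13_1 lc_e_rc_27_5 lc_e_rc_16_5 lc_e_rc_13_3 lc_e_rc_9_3 lc_e_Cert_tree lc_e_rc_18_1 lc_e_rc_16_1 lc_e_rc_27_7 lc_e_rc_18_1 lc_e_Cert_tree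 lc_e_rc_18_1 lc_e_rc_16_5 lc_e_rc_18_1 lc_e_rc_27_5 lc_e_rc_18_1 lc_e_rc_16_1 lc_e_rc_4_3 lc_e_rc_18_1 lc_e_rc_13_3 lc_e_rc_13_3 lc_e_rc_18_1 lc_e_rc_27_5 lc_e_rc_13_1 lc_e_rc_18_1 lc_e_rc_18_1 lc_e_rc_18_1 lc_e_rc_19_4 lc_e_rc_27_5 lc_e_rc_18_1 lc_e_rc_18_1 lc_e_rc_19_4 lc_e_rc_18_1 lc_e_rc_9_1 lc_e_rc_19_4 lc_e_rc_19_4 lc_e_rc_18_1 lc_e_rc_16_3 lc_e_rc_19_4 lc_e_rc_9_3 lc_e_Cert_tree lc_e_rc_16_3 lc_e_rc_27_7 lc_e_rc_16_5 lc_e_rc_19_2 lc_e_rc_13_3 lc_e_rc_13_1 lc_e_rc_9_1 lc_e_rc_4_3 lc_e_rc_18_1 lc_e_rc_13_3 lc_e_rc_27_7 lc_e_rc_16_1 lc_e_rc_27_5 lc_e_rc_18_1 lc_e_rc_9_3 lc_e_rc_18_1 lc_e_rc_18_1) (@D3.rec (fun _ => (Cert rels S Gen.e)) lc_e_rc_18_1 lc_e_rc_13_3 lc_e_rc_16_3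 lc_e_rc_19_4 lc_e_rc_9_3 lc_e_rc_18_1 lc_e_rc_27_7 lc_e_rc_19_2 lc_e_rc_16_3 lc_e_rc_16_5 lc_e_rc_27_5 lc_e_rc_18_1 lc_e_rc_18_1 lc_e_rc_9_3 lc_e_rc_16_3 lc_e_rc_19_4 lc_e_rc_13_3 lc_e_rc_16_5 lc_e_rc_4_1 lc_e_rc_19_4 lc_e_Cert_tree lc_e_rc_27_5 lc_e_rc_18_1 lc_e_rc_27_5 lc_e_rc_19_2 lc_e_rc_18_1 lc_e_rc_13_3 lc_e_rc_19_4 lc_e_rc_13_3 lc_e_rc_9_3 lc_e_rc_18_1 lc_e_rc_16_1 lc_e_rc_9_3 lc_e_rc_9_3 lc_e_rc_4_3 lc_e_rc_9_1 lc_e_rc_13_1 lc_e_rc_18_1 lc_e_rc_13_1 lc_e_rc_18_1 lc_e_rc_16_1 lc_e_rc_18_1 lc_e_rc_13_3 lc_e_rc_9_3 lc_e_rc_9_3 lc_e_rc_18_1 lc_e_rc_13_3 lc_e_rc_18_1 lc_e_rc_13_3 lc_e_rc_9_3 lc_e_rc_13_3 lc_e_rc_18_1 lc_e_rc_13_3 lc_e_rc_16_3 lc_e_rc_9_3 lc_e_rc_27_7 lc_e_Cert_tree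 lc_e_rc_13_3 lc_e_rc_27_7 lc_e_Cert_tree lc_e_rc_18_1 lc_e_rc_18_1) (@D3.rec (fun _ => (Cert rels S Gen.e)) lc_e_rc_27_1 lc_e_rc_9_3 lc_e_Cert_tree lc_e_Cert_tree lc_e_rc_18_1 lc_e_rc_18_1 lc_e_rc_27_7 lc_e_rc_19_4 lc_e_rc_18_1 lc_e_rc_19_4 lc_e_rc_27_5 lc_e_rc_18_1 lc_e_rc_27_1 lc_e_rc_27_7 lc_e_rc_13_1 lc_e_rc_18_1 lc_e_rc_4_1 lc_e_rc_18_1 lc_e_Cert_tree lc_e_rc_13_1 lc_e_rc_19_4 lc_e_rc_13_3 lc_e_rc_27_5 lc_e_rc_18_1 lc_e_rc_27_5 lc_e_rc_4_3 lc_e_rc_27_7 lc_e_rc_18_1 lc_e_rc_27_1 lc_e_rc_16_3 lc_e_rc_27_7 lc_e_rc_16_3 lc_e_Cert_tree lc_e_rc_19_2 lc_e_rc_9_1 lc_e_rc_18_1 lc_e_rc_16_3 lc_e_rc_16_3 lc_e_rc_18_1 lc_e_rc_18_1 lc_e_rc_4_3 lc_e_rc_16_1 lc_e_rc_13_1 lc_e_Cert_tree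 lc_e_rc_19_4 lc_e_rc_18_1 lc_e_rc_18_1 lc_e_rc_18_1 lc_e_rc_18_1 lc_e_rc_13_3 lc_e_rc_16_1 lc_e_rc_19_4 lc_e_rc_4_3 lc_e_rc_9_3 lc_e_rc_19_4 lc_e_Cert_tree lc_e_rc_27_1 lc_e_rc_9_3 lc_e_rc_18_1 lc_e_rc_4_1 lc_e_Cert_tree lc_e_rc_16_5) (@D3.rec (fun _ => (Cert rels S Gen.e)) lc_e_rc_16_5 lc_e_rc_18_1 lc_e_rc_18_1 lc_e_Cert_tree lc_e_rc_13_3 lc_e_rc_19_4 lc_e_rc_16_3 lc_e_Cert_tree lc_e_rc_18_1 lc_e_rc_16_3 lc_e_rc_27_1 lc_e_rc_4_1 lc_e_rc_18_1 lc_e_rc_16_3 lc_e_rc_18_1 lc_e_rc_13_3 lc_e_rc_4_3 lc_e_Cert_tree lc_e_rc_18_1 lc_e_rc_18_1 lc_e_rc_27_5 lc_e_rc_16_1 lc_e_rc_19_4 lc_e_rc_13_3 lc_e_rc_13_1 lc_e_rc_13_3 lc_e_rc_19_4 lc_e_Cert_tree lc_e_rc_13_3 lc_e_rc_18_1 lc_e_rc_18_1 lc_e_rc_16_1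 lc_e_rc_19_4 lc_e_rc_27_1 lc_e_Cert_tree lc_e_Cert_tree lc_e_rc_18_1 lc_e_rc_18_1 lc_e_rc_27_1 lc_e_Cert_tree lc_e_rc_18_1 lc_e_rc_13_1 lc_e_rc_18_1 lc_e_rc_9_3 lc_e_rc_19_0 lc_e_rc_9_1 lc_e_rc_19_2 lc_e_rc_13_3 lc_e_rc_18_1 lc_e_Cert_tree lc_e_rc_16_1 lc_e_rc_16_3 lc_e_rc_19_2 lc_e_rc_18_1 lc_e_rc_27_7 lc_e_rc_16_5 lc_e_rc_4_3 lc_e_rc_27_5 lc_e_rc_9_3 lc_e_Cert_tree lc_e_rc_13_1 lc_e_rc_18_1) (@D3.rec (fun _ => (Cert rels S Gen.e)) lc_e_rc_19_4 lc_e_Cert_tree lc_e_rc_18_1 lc_e_rc_13_1 lc_e_rc_18_1 lc_e_rc_16_3 lc_e_Cert_tree lc_e_rc_18_1 lc_e_Cert_tree lc_e_rc_18_1 lc_e_rc_18_1 lc_e_rc_16_3 lc_e_rc_16_5 lc_e_rc_18_1 lc_e_rc_27_5 lc_e_rc_18_1 lc_e_rc_16_1 lc_e_rc_19_2 lc_e_Cert_tree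 lc_e_Cert_tree lc_e_rc_16_1 lc_e_rc_13_1 lc_e_rc_16_5 lc_e_Cert_tree lc_e_Cert_tree lc_e_rc_16_3 lc_e_rc_27_7 lc_e_rc_27_1 lc_e_rc_9_3 lc_e_Cert_tree lc_e_rc_9_1 lc_e_rc_16_5 lc_e_Cert_tree lc_e_rc_18_1 lc_e_rc_27_7 lc_e_Cert_tree lc_e_rc_18_1 lc_e_rc_16_3 lc_e_rc_18_1 lc_e_Cert_tree lc_e_rc_27_5 lc_e_rc_19_4 lc_e_rc_18_1 lc_e_rc_27_5 lc_e_rc_9_3 lc_e_rc_9_3 lc_e_rc_18_1 lc_e_rc_13_3 lc_e_Cert_tree lc_e_rc_18_1 lc_e_rc_13_3 lc_e_rc_4_1 lc_e_rc_27_1 lc_e_rc_13_1 lc_e_rc_16_5 lc_e_rc_18_1 lc_e_rc_9_3 lc_e_Cert_tree lc_e_rc_16_1 lc_e_rc_9_3 lc_e_rc_27_5 lc_e_rc_9_3) (@D3.rec (fun _ => (Cert rels S Gen.e)) lc_e_rc_16_1 lc_e_rc_13_3 lc_e_Cert_tree lc_e_rc_13_3 lc_e_rc_18_1 lc_e_rc_9_3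 lc_e_rc_27_7 lc_e_rc_13_3 lc_e_rc_4_3 lc_e_rc_13_3 lc_e_rc_13_3 lc_e_rc_18_1 lc_e_rc_9_3 lc_e_rc_13_3 lc_e_rc_16_3 lc_e_rc_16_3 lc_e_rc_18_1 lc_e_rc_9_3 lc_e_rc_27_1 lc_e_rc_9_3 lc_e_Cert_tree lc_e_rc_9_3 lc_e_rc_18_1 lc_e_Cert_tree lc_e_rc_16_5 lc_e_rc_13_3 lc_e_rc_16_1 lc_e_rc_19_4 lc_e_rc_13_3 lc_e_rc_27_7 lc_e_Cert_tree lc_e_rc_9_3 lc_e_rc_18_1 lc_e_Cert_tree lc_e_rc_18_1 lc_e_Cert_tree lc_e_rc_9_3 lc_e_rc_27_1 lc_e_rc_18_1 lc_e_Cert_tree lc_e_rc_27_5 lc_e_rc_9_1 lc_e_rc_19_4 lc_e_rc_13_3 lc_e_rc_16_1 lc_e_rc_19_4 lc_e_rc_13_3 lc_e_rc_13_3 lc_e_rc_27_1 lc_e_rc_16_3 lc_e_rc_18_1 lc_e_rc_27_7 lc_e_rc_13_3 lc_e_rc_4_1 lc_e_rc_18_1 lc_e_rc_27_7 lc_e_rc_13_1 lc_e_rc_9_3 lc_e_rc_18_1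 lc_e_rc_16_3 lc_e_rc_13_1 lc_e_rc_18_1) (@D3.rec (fun _ => (Cert rels S Gen.e)) lc_e_rc_9_3 lc_e_Cert_tree lc_e_rc_16_3 lc_e_rc_19_4 lc_e_rc_16_3 lc_e_rc_9_3 lc_e_rc_27_1 lc_e_rc_18_1 lc_e_rc_18_1 lc_e_rc_27_5 lc_e_rc_16_3 lc_e_Cert_tree lc_e_rc_27_1 lc_e_rc_18_1 lc_e_Cert_tree lc_e_rc_27_5 lc_e_rc_18_1 lc_e_rc_27_1 lc_e_rc_18_1 lc_e_rc_9_1 lc_e_rc_18_1 lc_e_rc_18_1 lc_e_rc_13_3 lc_e_rc_16_1 lc_e_rc_19_4 lc_e_Cert_tree lc_e_rc_9_3 lc_e_rc_18_1 lc_e_rc_13_1 lc_e_rc_9_1 lc_e_rc_18_1 lc_e_Cert_tree lc_e_rc_27_5 lc_e_rc_18_1 lc_e_rc_13_3 lc_e_rc_18_1 lc_e_rc_16_1 lc_e_rc_16_3 lc_e_rc_4_1 lc_e_rc_27_5 lc_e_rc_18_1 lc_e_rc_13_3 lc_e_Cert_tree lc_e_rc_16_1 lc_e_rc_18_1 lc_e_rc_18_1 lc_e_rc_13_3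 lc_e_rc_16_3 lc_e_rc_18_1 lc_e_rc_18_1 lc_e_rc_27_5 lc_e_rc_13_1 lc_e_rc_9_3 lc_e_rc_27_7 lc_e_rc_18_1 lc_e_rc_18_1 lc_e_rc_18_1 lc_e_rc_18_1 lc_e_rc_19_4 lc_e_rc_18_1 lc_e_rc_27_7 lc_e_rc_18_1) (@D3.rec (fun _ => (Cert rels S Gen.e)) lc_e_rc_16_5 lc_e_rc_18_1 lc_e_rc_27_1 lc_e_rc_18_1 lc_e_Cert_tree lc_e_rc_9_1 lc_e_rc_13_1 lc_e_rc_27_1 lc_e_rc_18_1 lc_e_rc_13_3 lc_e_rc_19_4 lc_e_rc_18_1 lc_e_rc_27_1 lc_e_rc_4_3 lc_e_rc_27_5 lc_e_rc_18_1 lc_e_rc_9_3 lc_e_rc_18_1 lc_e_rc_9_3 lc_e_rc_18_1 lc_e_rc_27_1 lc_e_rc_4_1 lc_e_rc_19_2 lc_e_rc_18_1 lc_e_rc_13_3 lc_e_Cert_tree lc_e_rc_18_1 lc_e_rc_18_1 lc_e_rc_13_1 lc_e_rc_13_3 lc_e_rc_16_3 lc_e_rc_18_1 lc_e_rc_13_3 lc_e_rc_4_3 lc_e_rc_16_3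 lc_e_rc_27_5 lc_e_rc_9_3 lc_e_rc_27_1 lc_e_rc_13_1 lc_e_rc_27_5 lc_e_rc_18_1 lc_e_rc_16_5 lc_e_rc_13_3 lc_e_rc_9_3 lc_e_rc_4_1 lc_e_rc_9_3 lc_e_Cert_tree lc_e_rc_9_3 lc_e_rc_4_1 lc_e_rc_18_1 lc_e_rc_13_1 lc_e_rc_13_3 lc_e_rc_16_3 lc_e_Cert_tree lc_e_rc_18_1 lc_e_rc_9_3 lc_e_rc_13_3 lc_e_rc_18_1 lc_e_rc_9_3 lc_e_rc_18_1 lc_e_rc_9_1 lc_e_Cert_tree) (@D3.rec (fun _ => (Cert rels S Gen.e)) lc_e_rc_18_1 lc_e_rc_19_2 lc_e_Cert_tree lc_e_rc_18_1 lc_e_rc_9_3 lc_e_rc_13_1 lc_e_rc_18_1 lc_e_rc_19_0 lc_e_rc_4_1 lc_e_rc_18_1 lc_e_rc_27_5 lc_e_rc_16_5 lc_e_rc_18_1 lc_e_rc_27_5 lc_e_rc_18_1 lc_e_rc_18_1 lc_e_rc_19_2 lc_e_rc_18_1 lc_e_rc_16_1 lc_e_rc_18_1 lc_e_rc_16_3 lc_e_rc_18_1 lc_e_rc_27_5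 lc_e_rc_16_5 lc_e_rc_19_4 lc_e_rc_18_1 lc_e_rc_27_5 lc_e_rc_18_1 lc_e_rc_27_1 lc_e_rc_16_1 lc_e_rc_18_1 lc_e_rc_16_5 lc_e_rc_27_5 lc_e_Cert_tree lc_e_rc_18_1 lc_e_rc_9_3 lc_e_rc_16_1 lc_e_rc_19_4 lc_e_rc_18_1 lc_e_rc_13_3 lc_e_rc_18_1 lc_e_rc_27_5 lc_e_rc_18_1 lc_e_rc_16_1 lc_e_rc_19_4 lc_e_rc_27_1 lc_e_rc_9_3 lc_e_rc_18_1 lc_e_rc_13_1 lc_e_rc_27_7 lc_e_rc_18_1 lc_e_rc_19_4 lc_e_rc_9_3 lc_e_rc_13_3 lc_e_rc_9_3 lc_e_rc_27_7 lc_e_Cert_tree lc_e_rc_27_7 lc_e_rc_13_3 lc_e_rc_18_1 lc_e_rc_18_1 lc_e_rc_18_1) (@D3.rec (fun _ => (Cert rels S Gen.e)) lc_e_rc_27_5 lc_e_rc_18_1 lc_e_Cert_tree lc_e_rc_18_1 lc_e_Cert_tree lc_e_rc_18_1 lc_e_rc_19_0 lc_e_rc_16_5 lc_e_Cert_tree lc_e_rc_18_1 lc_e_rc_4_1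 lc_e_rc_4_1 lc_e_rc_9_1 lc_e_rc_18_1 lc_e_rc_9_3 lc_e_rc_16_5 lc_e_rc_9_1 lc_e_rc_16_3 lc_e_rc_9_1 lc_e_rc_27_5 lc_e_rc_18_1 lc_e_rc_13_1 lc_e_rc_18_1 lc_e_rc_9_1 lc_e_rc_19_4 lc_e_rc_13_3 lc_e_rc_4_3 lc_e_rc_13_1 lc_e_rc_13_1 lc_e_rc_18_1 lc_e_Cert_tree lc_e_rc_19_2 lc_e_rc_13_3 lc_e_rc_18_1 lc_e_rc_16_1 lc_e_rc_18_1 lc_e_rc_13_1 lc_e_rc_18_1 lc_e_rc_13_1 lc_e_rc_9_1 lc_e_rc_9_3 lc_e_rc_18_1 lc_e_rc_16_5 lc_e_rc_13_3 lc_e_rc_9_1 lc_e_rc_18_1 lc_e_rc_13_1 lc_e_rc_13_3 lc_e_rc_19_0 lc_e_rc_27_7 lc_e_rc_18_1 lc_e_rc_27_1 lc_e_rc_16_3 lc_e_rc_19_2 lc_e_rc_13_3 lc_e_rc_18_1 lc_e_rc_9_3 lc_e_rc_16_3 lc_e_rc_27_7 lc_e_rc_9_1 lc_e_rc_9_3 lc_e_rc_18_1) (@D3.rec (fun _ => (Cert rels S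 Gen.e)) lc_e_rc_13_3 lc_e_rc_16_3 lc_e_rc_18_1 lc_e_rc_18_1 lc_e_rc_4_1 lc_e_rc_19_2 lc_e_rc_18_1 lc_e_rc_4_3 lc_e_rc_16_1 lc_e_rc_18_1 lc_e_Cert_tree lc_e_rc_16_3 lc_e_rc_13_1 lc_e_rc_18_1 lc_e_rc_13_1 lc_e_rc_27_1 lc_e_rc_18_1 lc_e_rc_13_3 lc_e_rc_16_3 lc_e_rc_13_1 lc_e_rc_13_3 lc_e_rc_9_3 lc_e_rc_18_1 lc_e_rc_27_7 lc_e_rc_9_3 lc_e_rc_18_1 lc_e_rc_18_1 lc_e_rc_4_3 lc_e_rc_16_3 lc_e_rc_19_4 lc_e_rc_13_3 lc_e_rc_19_4 lc_e_rc_18_1 lc_e_rc_16_5 lc_e_rc_18_1 lc_e_rc_19_2 lc_e_rc_27_5 lc_e_rc_19_0 lc_e_rc_18_1 lc_e_rc_4_3 lc_e_rc_27_5 lc_e_rc_18_1 lc_e_rc_18_1 lc_e_rc_16_1 lc_e_rc_9_3 lc_e_rc_9_3 lc_e_rc_16_1 lc_e_rc_9_3 lc_e_rc_13_3 lc_e_rc_13_1 lc_e_rc_13_1 lc_e_rc_13_3 lc_e_rc_27_5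 lc_e_rc_13_1 lc_e_rc_18_1 lc_e_rc_27_5 lc_e_rc_4_3 lc_e_rc_27_7 lc_e_rc_13_3 lc_e_rc_19_4 lc_e_rc_16_1 lc_e_rc_4_1) (@D3.rec (fun _ => (Cert rels S Gen.e)) lc_e_rc_4_3 lc_e_rc_9_3 lc_e_rc_18_1 lc_e_rc_9_3 lc_e_rc_19_2 lc_e_rc_18_1 lc_e_rc_13_3 lc_e_rc_16_3 lc_e_rc_13_3 lc_e_rc_13_1 lc_e_rc_18_1 lc_e_rc_18_1 lc_e_rc_27_5 lc_e_Cert_tree lc_e_rc_13_1 lc_e_rc_27_1 lc_e_rc_13_3 lc_e_rc_18_1 lc_e_rc_9_3 lc_e_rc_9_3 lc_e_rc_19_4 lc_e_Cert_tree lc_e_rc_18_1 lc_e_rc_18_1 lc_e_rc_27_7 lc_e_rc_18_1 lc_e_rc_18_1 lc_e_rc_9_3 lc_e_rc_9_1 lc_e_rc_18_1 lc_e_rc_18_1 lc_e_rc_9_3 lc_e_rc_19_4 lc_e_rc_19_2 lc_e_rc_4_3 lc_e_rc_27_5 lc_e_rc_18_1 lc_e_Cert_tree lc_e_rc_18_1 lc_e_rc_27_5 lc_e_rc_9_1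 lc_e_rc_16_5 lc_e_rc_16_1 lc_e_rc_27_1 lc_e_rc_18_1 lc_e_rc_18_1 lc_e_rc_16_3 lc_e_rc_19_4 lc_e_rc_18_1 lc_e_rc_16_3 lc_e_rc_19_4 lc_e_rc_18_1 lc_e_rc_19_4 lc_e_Cert_tree lc_e_rc_27_1 lc_e_rc_19_4 lc_e_Cert_tree lc_e_Cert_tree lc_e_rc_9_1 lc_e_rc_27_5 lc_e_rc_18_1 lc_e_rc_9_1) (@D3.rec (fun _ => (Cert rels S Gen.e)) lc_e_rc_27_1 lc_e_rc_9_3 lc_e_rc_27_1 lc_e_rc_18_1 lc_e_rc_16_3 lc_e_rc_13_3 lc_e_rc_13_3 lc_e_rc_13_3 lc_e_rc_9_3 lc_e_rc_18_1 lc_e_rc_9_3 lc_e_rc_18_1 lc_e_rc_16_3 lc_e_rc_19_4 lc_e_rc_16_3 lc_e_rc_13_3 lc_e_rc_16_1 lc_e_rc_13_3 lc_e_rc_9_1 lc_e_rc_16_3 lc_e_rc_4_1 lc_e_rc_18_1 lc_e_rc_16_5 lc_e_rc_16_5 lc_e_rc_16_3 lc_e_rc_19_4 lc_e_rc_9_3 lc_e_rc_27_7 lc_e_rc_13_3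 lc_e_rc_19_2 lc_e_rc_19_2 lc_e_rc_4_3 lc_e_rc_18_1 lc_e_rc_13_1 lc_e_rc_9_3 lc_e_rc_16_5 lc_e_rc_18_1 lc_e_rc_19_4 lc_e_rc_16_1 lc_e_rc_16_5 lc_e_Cert_tree lc_e_rc_18_1 lc_e_rc_27_5 lc_e_rc_27_5 lc_e_rc_19_4 lc_e_rc_27_5 lc_e_rc_13_1 lc_e_rc_4_3 lc_e_rc_13_3 lc_e_rc_16_3 lc_e_rc_27_7 lc_e_rc_16_3 lc_e_rc_13_1 lc_e_rc_9_1 lc_e_rc_18_1 lc_e_rc_9_3 lc_e_rc_18_1 lc_e_Cert_tree lc_e_rc_19_2 lc_e_rc_13_1 lc_e_rc_27_5 lc_e_rc_9_3) (@D3.rec (fun _ => (Cert rels S Gen.e)) lc_e_Cert_tree lc_e_rc_4_3 lc_e_rc_18_1 lc_e_rc_18_1 lc_e_rc_18_1 lc_e_rc_16_3 lc_e_rc_9_3 lc_e_rc_27_7 lc_e_rc_27_7 lc_e_rc_18_1 lc_e_rc_27_5 lc_e_rc_27_1 lc_e_rc_19_2 lc_e_rc_13_3 lc_e_rc_13_1 lc_e_rc_27_1 lc_e_rc_18_1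 lc_e_rc_13_3 lc_e_Cert_tree lc_e_rc_18_1 lc_e_rc_16_5 lc_e_rc_13_1 lc_e_rc_18_1 lc_e_Cert_tree lc_e_rc_18_1 lc_e_rc_4_1 lc_e_rc_4_3 lc_e_rc_19_2 lc_e_rc_13_1 lc_e_rc_18_1 lc_e_Cert_tree lc_e_rc_13_3 lc_e_rc_19_4 lc_e_rc_9_1 lc_e_rc_19_4 lc_e_rc_19_4 lc_e_rc_9_1 lc_e_rc_18_1 lc_e_rc_18_1 lc_e_rc_27_7 lc_e_rc_18_1 lc_e_rc_18_1 lc_e_rc_18_1 lc_e_rc_18_1 lc_e_rc_16_1 lc_e_rc_19_4 lc_e_rc_27_1 lc_e_rc_4_1 lc_e_rc_19_4 lc_e_rc_18_1 lc_e_rc_16_3 lc_e_rc_16_3 lc_e_rc_27_1 lc_e_rc_27_7 lc_e_rc_27_5 lc_e_rc_9_1 lc_e_rc_18_1 lc_e_rc_16_5 lc_e_rc_18_1 lc_e_rc_9_3 lc_e_rc_19_4 lc_e_rc_27_5)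
def ce_e_25 : D2 → D3 → (Cert rels S Gen.e) := @D2.rec (fun _ => D3 → (Cert rels S Gen.e)) (@D3.rec (fun _ => (Cert rels S Gen.e)) lc_e_rc_19_0 lc_e_rc_27_7 lc_e_rc_19_4 lc_e_rc_16_5 lc_e_rc_13_3 lc_e_rc_19_2 lc_e_rc_13_3 lc_e_rc_18_1 lc_e_rc_4_3 lc_e_rc_27_1 lc_e_rc_27_5 lc_e_rc_18_1 lc_e_rc_16_3 lc_e_rc_18_1 lc_e_rc_16_3 lc_e_rc_27_1 lc_e_Cert_tree lc_e_rc_18_1 lc_e_rc_9_3 lc_e_Cert_tree lc_e_Cert_tree lc_e_Cert_tree lc_e_rc_18_1 lc_e_rc_18_1 lc_e_rc_16_1 lc_e_rc_16_1 lc_e_rc_18_1 lc_e_rc_4_3 lc_e_rc_13_1 lc_e_rc_27_7 lc_e_rc_27_7 lc_e_rc_9_3 lc_e_rc_9_3 lc_e_rc_4_1 lc_e_rc_18_1 lc_e_rc_27_1 lc_e_rc_16_1 lc_e_rc_19_4 lc_e_rc_18_1 lc_e_rc_16_3 lc_e_rc_27_5 lc_e_rc_4_3 lc_e_rc_18_1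 lc_e_rc_13_1 lc_e_rc_16_3 lc_e_rc_27_5 lc_e_rc_18_1 lc_e_rc_27_5 lc_e_rc_18_1 lc_e_rc_19_4 lc_e_rc_27_5 lc_e_rc_18_1 lc_e_rc_13_3 lc_e_rc_19_4 lc_e_rc_16_3 lc_e_rc_9_1 lc_e_rc_27_5 lc_e_rc_13_3 lc_e_rc_19_4 lc_e_rc_27_1 lc_e_rc_18_1 lc_e_rc_16_5) (@D3.rec (fun _ => (Cert rels S Gen.e)) lc_e_rc_27_5 lc_e_rc_19_2 lc_e_rc_18_1 lc_e_rc_27_7 lc_e_rc_18_1 lc_e_rc_27_1 lc_e_rc_18_1 lc_e_rc_27_1 lc_e_rc_27_5 lc_e_rc_18_1 lc_e_rc_27_1 lc_e_rc_18_1 lc_e_rc_13_3 lc_e_rc_18_1 lc_e_rc_16_3 lc_e_rc_19_2 lc_e_rc_18_1 lc_e_rc_18_1 lc_e_rc_16_1 lc_e_rc_19_2 lc_e_rc_4_1 lc_e_rc_18_1 lc_e_rc_19_2 lc_e_rc_13_3 lc_e_rc_16_3 lc_e_rc_19_4 lc_e_rc_27_5 lc_e_rc_13_3 lc_e_rc_27_1 lc_e_rc_9_3 lc_e_rc_18_1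 lc_e_rc_13_3 lc_e_rc_18_1 lc_e_rc_19_0 lc_e_rc_16_3 lc_e_rc_9_3 lc_e_Cert_tree lc_e_rc_16_5 lc_e_Cert_tree lc_e_Cert_tree lc_e_rc_18_1 lc_e_rc_9_3 lc_e_rc_13_3 lc_e_rc_18_1 lc_e_rc_18_1 lc_e_rc_16_5 lc_e_rc_9_1 lc_e_rc_9_1 lc_e_rc_13_3 lc_e_rc_13_1 lc_e_rc_27_7 lc_e_rc_9_3 lc_e_Cert_tree lc_e_Cert_tree lc_e_rc_18_1 lc_e_rc_27_5 lc_e_rc_18_1 lc_e_rc_18_1 lc_e_rc_9_1 lc_e_rc_18_1 lc_e_rc_19_0 lc_e_rc_18_1) (@D3.rec (fun _ => (Cert rels S Gen.e)) lc_e_rc_19_4 lc_e_rc_18_1 lc_e_rc_27_5 lc_e_rc_18_1 lc_e_rc_9_1 lc_e_rc_18_1 lc_e_rc_18_1 lc_e_rc_18_1 lc_e_rc_27_7 lc_e_rc_13_3 lc_e_rc_16_3 lc_e_rc_13_3 lc_e_rc_13_1 lc_e_rc_18_1 lc_e_rc_18_1 lc_e_rc_27_7 lc_e_Cert_tree lc_e_rc_27_5 lc_e_rc_18_1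 lc_e_rc_4_1 lc_e_rc_18_1 lc_e_rc_27_5 lc_e_rc_18_1 lc_e_rc_18_1 lc_e_rc_13_3 lc_e_rc_16_3 lc_e_rc_18_1 lc_e_rc_16_1 lc_e_rc_19_2 lc_e_rc_19_4 lc_e_rc_13_1 lc_e_rc_16_5 lc_e_rc_19_4 lc_e_rc_18_1 lc_e_rc_13_1 lc_e_rc_9_1 lc_e_rc_18_1 lc_e_rc_13_3 lc_e_rc_27_7 lc_e_rc_27_5 lc_e_rc_27_5 lc_e_rc_27_1 lc_e_rc_18_1 lc_e_rc_16_3 lc_e_rc_18_1 lc_e_rc_18_1 lc_e_rc_18_1 lc_e_rc_16_3 lc_e_rc_27_7 lc_e_rc_13_3 lc_e_Cert_tree lc_e_rc_27_5 lc_e_rc_18_1 lc_e_rc_18_1 lc_e_rc_18_1 lc_e_rc_18_1 lc_e_rc_18_1 lc_e_rc_13_3 lc_e_rc_27_1 lc_e_rc_9_3 lc_e_rc_13_3 lc_e_rc_19_4) (@D3.rec (fun _ => (Cert rels S Gen.e)) lc_e_rc_4_3 lc_e_rc_18_1 lc_e_rc_13_1 lc_e_rc_18_1 lc_e_rc_9_1 lc_e_rc_18_1 lc_e_rc_18_1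 lc_e_rc_18_1 lc_e_rc_27_7 lc_e_rc_19_2 lc_e_rc_16_3 lc_e_rc_16_5 lc_e_rc_18_1 lc_e_rc_9_3 lc_e_rc_27_1 lc_e_rc_19_4 lc_e_rc_4_3 lc_e_rc_18_1 lc_e_rc_18_1 lc_e_rc_4_3 lc_e_rc_4_3 lc_e_rc_13_3 lc_e_rc_18_1 lc_e_rc_16_5 lc_e_rc_18_1 lc_e_rc_13_1 lc_e_rc_9_1 lc_e_rc_9_3 lc_e_rc_9_1 lc_e_rc_18_1 lc_e_rc_9_1 lc_e_rc_18_1 lc_e_rc_27_5 lc_e_rc_9_3 lc_e_rc_13_3 lc_e_rc_13_1 lc_e_rc_13_1 lc_e_rc_9_3 lc_e_rc_13_3 lc_e_rc_18_1 lc_e_rc_16_3 lc_e_rc_4_1 lc_e_rc_18_1 lc_e_rc_13_1 lc_e_Cert_tree lc_e_rc_18_1 lc_e_rc_27_5 lc_e_rc_13_1 lc_e_rc_13_3 lc_e_rc_16_3 lc_e_rc_13_3 lc_e_rc_13_1 lc_e_rc_4_3 lc_e_rc_18_1 lc_e_rc_27_7 lc_e_rc_18_1 lc_e_rc_18_1 lc_e_rc_18_1 lc_e_rc_13_3 lc_e_rc_18_1 lc_e_rc_13_3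 lc_e_rc_18_1) (@D3.rec (fun _ => (Cert rels S Gen.e)) lc_e_rc_9_3 lc_e_rc_27_7 lc_e_rc_13_1 lc_e_rc_9_3 lc_e_rc_19_2 lc_e_rc_13_3 lc_e_rc_18_1 lc_e_rc_16_3 lc_e_Cert_tree lc_e_rc_18_1 lc_e_rc_18_1 lc_e_rc_18_1 lc_e_rc_16_5 lc_e_rc_19_4 lc_e_rc_9_1 lc_e_rc_13_1 lc_e_rc_18_1 lc_e_rc_9_3 lc_e_rc_27_1 lc_e_rc_13_3 lc_e_rc_27_5 lc_e_rc_18_1 lc_e_rc_9_1 lc_e_rc_16_1 lc_e_rc_9_3 lc_e_rc_9_3 lc_e_rc_19_2 lc_e_rc_27_5 lc_e_rc_18_1 lc_e_Cert_tree lc_e_rc_13_3 lc_e_rc_13_1 lc_e_rc_16_5 lc_e_Cert_tree lc_e_rc_16_5 lc_e_rc_9_3 lc_e_rc_18_1 lc_e_rc_16_5 lc_e_rc_9_3 lc_e_rc_9_3 lc_e_rc_18_1 lc_e_rc_9_3 lc_e_rc_27_7 lc_e_rc_13_1 lc_e_rc_18_1 lc_e_rc_18_1 lc_e_rc_13_3 lc_e_rc_16_1 lc_e_rc_18_1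 lc_e_rc_18_1 lc_e_rc_13_3 lc_e_rc_16_1 lc_e_rc_19_4 lc_e_rc_13_1 lc_e_rc_4_1 lc_e_rc_4_3 lc_e_rc_13_3 lc_e_rc_9_1 lc_e_Cert_tree lc_e_rc_18_1 lc_e_Cert_tree lc_e_rc_27_5) (@D3.rec (fun _ => (Cert rels S Gen.e)) lc_e_rc_16_1 lc_e_rc_19_2 lc_e_Cert_tree lc_e_rc_27_1 lc_e_rc_13_3 lc_e_rc_18_1 lc_e_rc_27_7 lc_e_rc_18_1 lc_e_rc_27_7 lc_e_rc_9_3 lc_e_rc_18_1 lc_e_rc_19_4 lc_e_rc_18_1 lc_e_rc_4_1 lc_e_rc_9_1 lc_e_rc_18_1 lc_e_rc_16_5 lc_e_rc_4_1 lc_e_rc_16_5 lc_e_rc_18_1 lc_e_rc_18_1 lc_e_rc_4_3 lc_e_rc_18_1 lc_e_rc_4_3 lc_e_rc_16_3 lc_e_rc_19_2 lc_e_rc_18_1 lc_e_rc_18_1 lc_e_rc_18_1 lc_e_Cert_tree lc_e_rc_16_3 lc_e_rc_16_1 lc_e_Cert_tree lc_e_Cert_tree lc_e_rc_18_1 lc_e_rc_18_1 lc_e_rc_16_3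 lc_e_rc_19_4 lc_e_rc_13_3 lc_e_rc_18_1 lc_e_rc_27_5 lc_e_rc_16_3 lc_e_rc_19_4 lc_e_rc_27_7 lc_e_rc_18_1 lc_e_rc_13_3 lc_e_rc_13_3 lc_e_rc_9_3 lc_e_rc_9_1 lc_e_rc_4_3 lc_e_rc_16_3 lc_e_rc_16_5 lc_e_rc_13_1 lc_e_rc_9_1 lc_e_rc_18_1 lc_e_rc_27_7 lc_e_rc_16_3 lc_e_rc_13_1 lc_e_rc_9_3 lc_e_rc_4_3 lc_e_rc_18_1 lc_e_rc_27_1) (@D3.rec (fun _ => (Cert rels S Gen.e)) lc_e_rc_27_5 lc_e_rc_4_3 lc_e_rc_9_1 lc_e_rc_18_1 lc_e_rc_16_3 lc_e_rc_16_3 lc_e_rc_18_1 lc_e_rc_13_3 lc_e_rc_18_1 lc_e_rc_18_1 lc_e_rc_27_1 lc_e_rc_19_2 lc_e_rc_9_1 lc_e_rc_9_3 lc_e_rc_16_1 lc_e_rc_13_1 lc_e_rc_18_1 lc_e_rc_27_1 lc_e_rc_19_2 lc_e_rc_27_7 lc_e_rc_18_1 lc_e_rc_9_3 lc_e_Cert_tree lc_e_Cert_tree lc_e_rc_18_1 lc_e_rc_18_1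 lc_e_rc_9_3 lc_e_rc_16_3 lc_e_rc_27_7 lc_e_rc_16_1 lc_e_rc_19_2 lc_e_Cert_tree lc_e_rc_13_3 lc_e_rc_13_3 lc_e_Cert_tree lc_e_rc_19_2 lc_e_rc_13_3 lc_e_rc_18_1 lc_e_rc_19_2 lc_e_rc_18_1 lc_e_rc_16_1 lc_e_rc_9_3 lc_e_rc_16_3 lc_e_Cert_tree lc_e_rc_13_3 lc_e_rc_16_1 lc_e_rc_9_3 lc_e_Cert_tree lc_e_rc_13_3 lc_e_rc_9_3 lc_e_rc_4_3 lc_e_rc_4_1 lc_e_rc_18_1 lc_e_rc_18_1 lc_e_rc_16_5 lc_e_rc_4_3 lc_e_rc_9_3 lc_e_rc_9_1 lc_e_rc_18_1 lc_e_rc_27_7 lc_e_rc_18_1 lc_e_rc_9_1) (@D3.rec (fun _ => (Cert rels S Gen.e)) lc_e_rc_18_1 lc_e_rc_13_3 lc_e_rc_16_1 lc_e_rc_16_1 lc_e_rc_13_3 lc_e_rc_9_3 lc_e_rc_27_5 lc_e_rc_13_3 lc_e_Cert_tree lc_e_rc_18_1 lc_e_rc_27_1 lc_e_rc_9_3 lc_e_rc_16_1 lc_e_rc_19_2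 lc_e_rc_18_1 lc_e_rc_16_5 lc_e_Cert_tree lc_e_rc_27_1 lc_e_rc_18_1 lc_e_rc_9_3 lc_e_rc_9_3 lc_e_rc_13_3 lc_e_rc_27_7 lc_e_rc_13_1 lc_e_rc_19_2 lc_e_Cert_tree lc_e_rc_18_1 lc_e_rc_16_1 lc_e_rc_18_1 lc_e_rc_9_3 lc_e_rc_4_3 lc_e_rc_18_1 lc_e_rc_9_3 lc_e_rc_18_1 lc_e_rc_13_3 lc_e_rc_18_1 lc_e_rc_27_1 lc_e_rc_16_1 lc_e_rc_16_3 lc_e_rc_19_4 lc_e_rc_9_3 lc_e_rc_27_1 lc_e_rc_18_1 lc_e_rc_19_0 lc_e_rc_13_3 lc_e_rc_19_0 lc_e_rc_19_4 lc_e_rc_19_4 lc_e_Cert_tree lc_e_rc_18_1 lc_e_rc_9_1 lc_e_rc_13_1 lc_e_rc_18_1 lc_e_rc_27_1 lc_e_rc_13_3 lc_e_rc_9_1 lc_e_rc_27_5 lc_e_rc_18_1 lc_e_rc_13_3 lc_e_rc_18_1 lc_e_rc_16_3 lc_e_Cert_tree) (@D3.rec (fun _ => (Cert rels S Gen.e)) lc_e_rc_18_1 lc_e_rc_27_1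 lc_e_rc_18_1 lc_e_rc_9_3 lc_e_rc_13_3 lc_e_rc_19_4 lc_e_rc_18_1 lc_e_rc_27_5 lc_e_rc_9_1 lc_e_rc_4_3 lc_e_rc_19_4 lc_e_rc_16_3 lc_e_rc_18_1 lc_e_rc_13_3 lc_e_Cert_tree lc_e_rc_16_1 lc_e_rc_19_4 lc_e_rc_9_3 lc_e_rc_13_3 lc_e_Cert_tree lc_e_rc_18_1 lc_e_Cert_tree lc_e_rc_16_5 lc_e_rc_16_3 lc_e_rc_19_4 lc_e_rc_13_3 lc_e_rc_27_1 lc_e_rc_9_1 lc_e_rc_27_7 lc_e_rc_16_5 lc_e_rc_13_3 lc_e_Cert_tree lc_e_rc_27_7 lc_e_rc_18_1 lc_e_rc_9_3 lc_e_rc_18_1 lc_e_rc_18_1 lc_e_rc_18_1 lc_e_rc_27_7 lc_e_rc_16_3 lc_e_rc_19_2 lc_e_Cert_tree lc_e_rc_16_3 lc_e_Cert_tree lc_e_rc_13_3 lc_e_rc_16_3 lc_e_rc_27_1 lc_e_rc_27_5 lc_e_rc_27_5 lc_e_rc_18_1 lc_e_rc_27_7 lc_e_rc_16_3 lc_e_rc_19_4 lc_e_rc_13_3 lc_e_rc_19_2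 lc_e_rc_18_1 lc_e_rc_4_3 lc_e_rc_16_3 lc_e_rc_4_3 lc_e_rc_9_3 lc_e_Cert_tree lc_e_rc_18_1) (@D3.rec (fun _ => (Cert rels S Gen.e)) lc_e_rc_16_1 lc_e_rc_19_2 lc_e_rc_18_1 lc_e_rc_13_3 lc_e_rc_18_1 lc_e_rc_27_7 lc_e_rc_13_3 lc_e_rc_18_1 lc_e_rc_18_1 lc_e_rc_16_1 lc_e_Cert_tree lc_e_rc_18_1 lc_e_rc_16_5 lc_e_Cert_tree lc_e_Cert_tree lc_e_rc_18_1 lc_e_rc_27_5 lc_e_rc_18_1 lc_e_Cert_tree lc_e_rc_13_3 lc_e_rc_19_2 lc_e_rc_18_1 lc_e_rc_13_3 lc_e_rc_13_3 lc_e_Cert_tree lc_e_rc_16_1 lc_e_rc_19_2 lc_e_Cert_tree lc_e_rc_13_1 lc_e_rc_13_3 lc_e_rc_27_5 lc_e_rc_9_3 lc_e_rc_9_1 lc_e_rc_16_3 lc_e_rc_18_1 lc_e_rc_16_3 lc_e_rc_18_1 lc_e_Cert_tree lc_e_rc_18_1 lc_e_rc_18_1 lc_e_rc_4_1 lc_e_rc_19_4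 lc_e_Cert_tree lc_e_rc_18_1 lc_e_rc_9_3 lc_e_rc_13_3 lc_e_rc_9_1 lc_e_rc_16_1 lc_e_rc_13_1 lc_e_rc_27_5 lc_e_rc_18_1 lc_e_rc_27_7 lc_e_rc_27_5 lc_e_rc_27_7 lc_e_rc_18_1 lc_e_rc_19_4 lc_e_rc_27_5 lc_e_rc_4_3 lc_e_rc_18_1 lc_e_rc_19_4 lc_e_rc_18_1 lc_e_rc_13_3) (@D3.rec (fun _ => (Cert rels S Gen.e)) lc_e_rc_13_3 lc_e_rc_4_3 lc_e_rc_16_1 lc_e_rc_27_5 lc_e_rc_4_3 lc_e_rc_13_3 lc_e_rc_18_1 lc_e_rc_27_7 lc_e_rc_16_5 lc_e_rc_9_1 lc_e_rc_18_1 lc_e_rc_13_3 lc_e_rc_18_1 lc_e_rc_4_3 lc_e_Cert_tree lc_e_rc_19_4 lc_e_rc_16_1 lc_e_rc_19_4 lc_e_Cert_tree lc_e_Cert_tree lc_e_rc_18_1 lc_e_rc_13_3 lc_e_rc_18_1 lc_e_rc_16_5 lc_e_rc_13_3 lc_e_rc_16_3 lc_e_rc_18_1 lc_e_rc_18_1 lc_e_rc_27_5 lc_e_rc_4_3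 lc_e_rc_4_1 lc_e_rc_16_1 lc_e_rc_13_3 lc_e_rc_13_3 lc_e_rc_18_1 lc_e_Cert_tree lc_e_rc_9_1 lc_e_rc_18_1 lc_e_Cert_tree lc_e_Cert_tree lc_e_rc_18_1 lc_e_rc_27_5 lc_e_rc_18_1 lc_e_rc_19_2 lc_e_rc_4_3 lc_e_rc_13_1 lc_e_rc_27_7 lc_e_rc_16_5 lc_e_Cert_tree lc_e_rc_18_1 lc_e_rc_9_3 lc_e_rc_4_1 lc_e_rc_18_1 lc_e_rc_19_0 lc_e_rc_18_1 lc_e_rc_16_1 lc_e_rc_27_5 lc_e_Cert_tree lc_e_rc_4_3 lc_e_rc_9_3 lc_e_rc_18_1 lc_e_rc_27_5) (@D3.rec (fun _ => (Cert rels S Gen.e)) lc_e_rc_18_1 lc_e_rc_9_3 lc_e_rc_13_3 lc_e_rc_27_1 lc_e_rc_18_1 lc_e_rc_4_3 lc_e_Cert_tree lc_e_rc_4_3 lc_e_rc_13_1 lc_e_rc_18_1 lc_e_rc_18_1 lc_e_rc_16_1 lc_e_rc_19_4 lc_e_rc_9_1 lc_e_rc_13_3 lc_e_rc_18_1 lc_e_rc_16_3 lc_e_rc_27_5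 lc_e_rc_9_3 lc_e_rc_27_5 lc_e_rc_16_1 lc_e_rc_18_1 lc_e_rc_9_3 lc_e_rc_18_1 lc_e_rc_19_0 lc_e_Cert_tree lc_e_rc_18_1 lc_e_rc_13_1 lc_e_rc_4_1 lc_e_rc_9_3 lc_e_rc_9_3 lc_e_rc_18_1 lc_e_rc_9_1 lc_e_rc_27_5 lc_e_rc_9_1 lc_e_rc_16_5 lc_e_rc_18_1 lc_e_rc_9_3 lc_e_rc_13_3 lc_e_rc_18_1 lc_e_rc_4_1 lc_e_rc_9_1 lc_e_rc_27_7 lc_e_rc_18_1 lc_e_rc_9_1 lc_e_rc_16_5 lc_e_rc_18_1 lc_e_rc_18_1 lc_e_rc_4_1 lc_e_rc_16_3 lc_e_rc_9_3 lc_e_rc_16_3 lc_e_rc_27_5 lc_e_rc_9_1 lc_e_rc_18_1 lc_e_rc_16_3 lc_e_rc_18_1 lc_e_rc_27_7 lc_e_rc_9_3 lc_e_rc_18_1 lc_e_Cert_tree lc_e_rc_16_3) (@D3.rec (fun _ => (Cert rels S Gen.e)) lc_e_rc_16_3 lc_e_rc_18_1 lc_e_rc_18_1 lc_e_rc_27_5 lc_e_rc_16_3 lc_e_rc_13_1 lc_e_rc_9_1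 lc_e_rc_13_3 lc_e_rc_18_1 lc_e_rc_16_3 lc_e_rc_13_1 lc_e_rc_19_4 lc_e_rc_18_1 lc_e_rc_18_1 lc_e_rc_18_1 lc_e_rc_16_3 lc_e_Cert_tree lc_e_rc_16_1 lc_e_Cert_tree lc_e_rc_18_1 lc_e_rc_18_1 lc_e_Cert_tree lc_e_rc_16_5 lc_e_rc_18_1 lc_e_rc_27_5 lc_e_rc_18_1 lc_e_rc_18_1 lc_e_rc_27_5 lc_e_rc_19_2 lc_e_rc_16_1 lc_e_rc_13_3 lc_e_rc_19_4 lc_e_rc_9_1 lc_e_rc_18_1 lc_e_rc_13_3 lc_e_rc_9_3 lc_e_rc_18_1 lc_e_Cert_tree lc_e_rc_18_1 lc_e_Cert_tree lc_e_rc_9_3 lc_e_rc_16_1 lc_e_rc_19_2 lc_e_rc_27_1 lc_e_Cert_tree lc_e_rc_16_1 lc_e_rc_27_1 lc_e_rc_27_5 lc_e_rc_18_1 lc_e_rc_18_1 lc_e_rc_9_3 lc_e_rc_19_4 lc_e_rc_18_1 lc_e_rc_27_7 lc_e_rc_27_5 lc_e_rc_9_3 lc_e_rc_18_1 lc_e_rc_4_3 lc_e_rc_4_3 lc_e_rc_19_4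 lc_e_rc_27_7 lc_e_rc_18_1) (@D3.rec (fun _ => (Cert rels S Gen.e)) lc_e_rc_18_1 lc_e_rc_18_1 lc_e_rc_19_4 lc_e_rc_4_3 lc_e_rc_19_2 lc_e_rc_9_3 lc_e_rc_9_1 lc_e_rc_13_1 lc_e_rc_18_1 lc_e_rc_9_3 lc_e_rc_18_1 lc_e_rc_13_3 lc_e_rc_4_3 lc_e_rc_13_3 lc_e_rc_4_3 lc_e_rc_9_3 lc_e_rc_9_1 lc_e_rc_18_1 lc_e_rc_16_5 lc_e_rc_13_1 lc_e_rc_18_1 lc_e_rc_27_5 lc_e_rc_18_1 lc_e_rc_27_5 lc_e_rc_18_1 lc_e_rc_16_1 lc_e_rc_27_7 lc_e_Cert_tree lc_e_rc_18_1 lc_e_rc_9_1 lc_e_rc_18_1 lc_e_rc_27_5 lc_e_rc_18_1 lc_e_rc_13_3 lc_e_rc_18_1 lc_e_rc_13_3 lc_e_rc_18_1 lc_e_rc_9_3 lc_e_rc_9_3 lc_e_rc_18_1 lc_e_rc_16_1 lc_e_rc_4_3 lc_e_rc_18_1 lc_e_rc_9_1 lc_e_rc_18_1 lc_e_rc_13_1 lc_e_rc_9_3 lc_e_rc_18_1 lc_e_rc_13_3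 lc_e_rc_19_4 lc_e_rc_18_1 lc_e_rc_13_3 lc_e_rc_18_1 lc_e_rc_13_3 lc_e_rc_13_1 lc_e_rc_16_3 lc_e_rc_9_3 lc_e_rc_9_1 lc_e_rc_27_1 lc_e_rc_9_3 lc_e_rc_4_3 lc_e_rc_13_3) (@D3.rec (fun _ => (Cert rels S Gen.e)) lc_e_rc_18_1 lc_e_rc_27_7 lc_e_rc_18_1 lc_e_rc_9_1 lc_e_rc_18_1 lc_e_rc_18_1 lc_e_rc_9_3 lc_e_rc_13_3 lc_e_rc_16_3 lc_e_rc_19_4 lc_e_rc_9_3 lc_e_Cert_tree lc_e_rc_19_4 lc_e_rc_13_3 lc_e_Cert_tree lc_e_rc_27_1 lc_e_rc_18_1 lc_e_rc_16_1 lc_e_rc_16_3 lc_e_Cert_tree lc_e_rc_18_1 lc_e_rc_4_3 lc_e_rc_16_3 lc_e_rc_19_4 lc_e_rc_9_3 lc_e_rc_13_1 lc_e_Cert_tree lc_e_rc_13_3 lc_e_rc_18_1 lc_e_rc_13_3 lc_e_rc_9_1 lc_e_rc_18_1 lc_e_rc_18_1 lc_e_rc_13_3 lc_e_rc_13_1 lc_e_rc_16_3 lc_e_rc_13_1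 lc_e_rc_18_1 lc_e_rc_27_5 lc_e_rc_18_1 lc_e_rc_27_7 lc_e_rc_13_3 lc_e_rc_18_1 lc_e_rc_16_3 lc_e_rc_27_7 lc_e_rc_13_3 lc_e_rc_9_3 lc_e_rc_18_1 lc_e_Cert_tree lc_e_rc_27_5 lc_e_rc_18_1 lc_e_rc_18_1 lc_e_rc_16_3 lc_e_rc_19_4 lc_e_Cert_tree lc_e_Cert_tree lc_e_rc_18_1 lc_e_rc_13_3 lc_e_rc_18_1 lc_e_rc_16_5 lc_e_rc_16_3 lc_e_rc_19_4) (@D3.rec (fun _ => (Cert rels S Gen.e)) lc_e_rc_13_3 lc_e_rc_27_1 lc_e_rc_16_3 lc_e_rc_4_3 lc_e_rc_16_5 lc_e_rc_27_1 lc_e_rc_18_1 lc_e_rc_9_3 lc_e_rc_13_1 lc_e_rc_27_5 lc_e_rc_9_1 lc_e_rc_16_5 lc_e_rc_13_3 lc_e_rc_9_1 lc_e_rc_18_1 lc_e_rc_19_4 lc_e_rc_13_3 lc_e_rc_27_5 lc_e_rc_27_1 lc_e_rc_18_1 lc_e_rc_18_1 lc_e_rc_13_3 lc_e_Cert_tree lc_e_rc_18_1 lc_e_rc_18_1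 lc_e_rc_13_3 lc_e_rc_27_7 lc_e_rc_16_1 lc_e_rc_4_3 lc_e_rc_13_3 lc_e_rc_13_1 lc_e_rc_18_1 lc_e_rc_18_1 lc_e_rc_18_1 lc_e_rc_13_3 lc_e_rc_18_1 lc_e_rc_4_3 lc_e_rc_27_5 lc_e_rc_9_1 lc_e_Cert_tree lc_e_rc_18_1 lc_e_rc_9_3 lc_e_rc_9_1 lc_e_rc_13_1 lc_e_rc_18_1 lc_e_rc_13_1 lc_e_rc_27_5 lc_e_rc_18_1 lc_e_rc_13_1 lc_e_rc_19_4 lc_e_rc_13_1 lc_e_Cert_tree lc_e_rc_18_1 lc_e_rc_18_1 lc_e_rc_16_5 lc_e_rc_19_4 lc_e_rc_18_1 lc_e_rc_19_4 lc_e_rc_13_1 lc_e_rc_13_3 lc_e_rc_27_7 lc_e_rc_18_1) (@D3.rec (fun _ => (Cert rels S Gen.e)) lc_e_rc_18_1 lc_e_rc_19_4 lc_e_rc_13_3 lc_e_rc_18_1 lc_e_rc_16_5 lc_e_rc_19_4 lc_e_rc_27_5 lc_e_rc_18_1 lc_e_rc_16_3 lc_e_rc_18_1 lc_e_rc_27_1 lc_e_rc_27_5 lc_e_rc_27_5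 lc_e_rc_13_3 lc_e_rc_19_4 lc_e_rc_27_1 lc_e_rc_18_1 lc_e_rc_9_3 lc_e_rc_19_4 lc_e_rc_18_1 lc_e_rc_9_1 lc_e_rc_18_1 lc_e_rc_4_1 lc_e_rc_9_3 lc_e_rc_18_1 lc_e_rc_27_1 lc_e_rc_19_4 lc_e_Cert_tree lc_e_rc_18_1 lc_e_rc_18_1 lc_e_rc_27_5 lc_e_rc_18_1 lc_e_rc_27_5 lc_e_rc_16_5 lc_e_rc_4_1 lc_e_rc_18_1 lc_e_rc_19_4 lc_e_rc_27_5 lc_e_rc_16_3 lc_e_rc_13_3 lc_e_rc_18_1 lc_e_rc_18_1 lc_e_rc_18_1 lc_e_rc_18_1 lc_e_rc_27_5 lc_e_rc_18_1 lc_e_rc_19_4 lc_e_rc_18_1 lc_e_rc_16_3 lc_e_rc_19_4 lc_e_rc_18_1 lc_e_rc_18_1 lc_e_rc_18_1 lc_e_rc_18_1 lc_e_rc_16_3 lc_e_rc_18_1 lc_e_rc_18_1 lc_e_rc_13_3 lc_e_rc_13_3 lc_e_rc_13_3 lc_e_rc_18_1 lc_e_Cert_tree) (@D3.rec (fun _ => (Cert rels S Gen.e)) lc_e_rc_27_5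 lc_e_rc_18_1 lc_e_rc_18_1 lc_e_rc_9_1 lc_e_rc_16_1 lc_e_rc_18_1 lc_e_rc_27_7 lc_e_Cert_tree lc_e_Cert_tree lc_e_rc_18_1 lc_e_rc_18_1 lc_e_rc_18_1 lc_e_rc_4_3 lc_e_rc_18_1 lc_e_rc_16_3 lc_e_rc_18_1 lc_e_rc_9_3 lc_e_rc_16_1 lc_e_rc_19_2 lc_e_rc_9_3 lc_e_rc_27_1 lc_e_rc_18_1 lc_e_rc_27_7 lc_e_rc_13_1 lc_e_rc_4_1 lc_e_rc_18_1 lc_e_rc_27_5 lc_e_rc_9_1 lc_e_rc_18_1 lc_e_rc_9_3 lc_e_rc_9_3 lc_e_rc_18_1 lc_e_rc_9_3 lc_e_rc_16_1 lc_e_rc_27_5 lc_e_rc_9_3 lc_e_rc_18_1 lc_e_rc_27_1 lc_e_rc_13_1 lc_e_rc_4_1 lc_e_rc_18_1 lc_e_rc_16_1 lc_e_rc_16_5 lc_e_rc_4_3 lc_e_rc_13_3 lc_e_rc_27_1 lc_e_rc_13_3 lc_e_rc_13_3 lc_e_rc_16_1 lc_e_rc_13_3 lc_e_rc_13_3 lc_e_rc_19_4 lc_e_rc_27_1 lc_e_rc_9_1 lc_e_rc_13_3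 lc_e_rc_9_3 lc_e_rc_9_1 lc_e_rc_16_3 lc_e_rc_18_1 lc_e_rc_18_1 lc_e_rc_18_1 lc_e_rc_9_3) (@D3.rec (fun _ => (Cert rels S Gen.e)) lc_e_rc_16_3 lc_e_rc_18_1 lc_e_rc_18_1 lc_e_Cert_tree lc_e_rc_13_3 lc_e_rc_13_3 lc_e_rc_4_3 lc_e_rc_4_1 lc_e_rc_18_1 lc_e_rc_13_1 lc_e_rc_18_1 lc_e_rc_18_1 lc_e_rc_13_3 lc_e_rc_16_5 lc_e_rc_16_1 lc_e_rc_19_2 lc_e_rc_18_1 lc_e_rc_16_5 lc_e_rc_18_1 lc_e_rc_13_3 lc_e_rc_16_1 lc_e_rc_4_3 lc_e_rc_18_1 lc_e_rc_18_1 lc_e_rc_18_1 lc_e_rc_16_1 lc_e_rc_27_5 lc_e_rc_4_1 lc_e_Cert_tree lc_e_rc_18_1 lc_e_rc_18_1 lc_e_rc_4_3 lc_e_rc_13_3 lc_e_rc_18_1 lc_e_rc_18_1 lc_e_Cert_tree lc_e_rc_18_1 lc_e_rc_13_3 lc_e_Cert_tree lc_e_rc_18_1 lc_e_rc_13_3 lc_e_rc_18_1 lc_e_rc_27_1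 lc_e_Cert_tree lc_e_rc_4_3 lc_e_rc_18_1 lc_e_rc_4_3 lc_e_Cert_tree lc_e_rc_18_1 lc_e_rc_19_4 lc_e_rc_27_7 lc_e_rc_13_1 lc_e_rc_27_7 lc_e_rc_18_1 lc_e_rc_4_3 lc_e_rc_27_5 lc_e_rc_18_1 lc_e_rc_18_1 lc_e_rc_18_1 lc_e_rc_27_7 lc_e_rc_4_3 lc_e_rc_18_1) (@D3.rec (fun _ => (Cert rels S Gen.e)) lc_e_rc_13_3 lc_e_rc_13_1 lc_e_rc_27_5 lc_e_rc_27_1 lc_e_rc_18_1 lc_e_rc_27_5 lc_e_rc_4_3 lc_e_rc_18_1 lc_e_rc_16_3 lc_e_rc_18_1 lc_e_rc_16_3 lc_e_rc_18_1 lc_e_rc_16_3 lc_e_rc_9_3 lc_e_Cert_tree lc_e_rc_18_1 lc_e_rc_18_1 lc_e_rc_13_1 lc_e_rc_16_1 lc_e_rc_19_4 lc_e_Cert_tree lc_e_Cert_tree lc_e_rc_18_1 lc_e_rc_27_5 lc_e_rc_13_1 lc_e_rc_4_3 lc_e_rc_18_1 lc_e_Cert_tree lc_e_rc_18_1 lc_e_rc_27_1 lc_e_rc_18_1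 lc_e_rc_18_1 lc_e_rc_27_7 lc_e_Cert_tree lc_e_rc_19_4 lc_e_rc_19_4 lc_e_rc_16_5 lc_e_rc_27_1 lc_e_rc_16_1 lc_e_rc_27_5 lc_e_rc_18_1 lc_e_rc_16_5 lc_e_rc_18_1 lc_e_rc_16_1 lc_e_rc_4_3 lc_e_rc_19_4 lc_e_rc_16_3 lc_e_rc_18_1 lc_e_rc_13_1 lc_e_rc_18_1 lc_e_rc_18_1 lc_e_rc_19_2 lc_e_rc_9_1 lc_e_rc_18_1 lc_e_rc_13_3 lc_e_rc_13_3 lc_e_rc_18_1 lc_e_rc_9_3 lc_e_rc_18_1 lc_e_rc_9_3 lc_e_rc_16_1 lc_e_rc_13_3) (@D3.rec (fun _ => (Cert rels S Gen.e)) lc_e_rc_18_1 lc_e_Cert_tree lc_e_rc_16_5 lc_e_rc_16_1 lc_e_rc_19_4 lc_e_rc_9_1 lc_e_rc_27_5 lc_e_rc_18_1 lc_e_Cert_tree lc_e_rc_9_3 lc_e_rc_18_1 lc_e_rc_9_3 lc_e_rc_27_5 lc_e_rc_4_3 lc_e_rc_16_3 lc_e_Cert_tree lc_e_rc_18_1 lc_e_rc_9_1 lc_e_rc_18_1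 lc_e_rc_18_1 lc_e_rc_18_1 lc_e_rc_18_1 lc_e_rc_13_1 lc_e_Cert_tree lc_e_rc_16_3 lc_e_rc_13_3 lc_e_Cert_tree lc_e_rc_16_1 lc_e_rc_19_4 lc_e_rc_19_0 lc_e_Cert_tree lc_e_rc_18_1 lc_e_rc_16_3 lc_e_rc_27_5 lc_e_rc_19_0 lc_e_rc_13_3 lc_e_rc_27_5 lc_e_rc_18_1 lc_e_rc_13_3 lc_e_Cert_tree lc_e_Cert_tree lc_e_rc_18_1 lc_e_rc_27_7 lc_e_rc_16_5 lc_e_rc_18_1 lc_e_rc_16_1 lc_e_rc_9_3 lc_e_rc_18_1 lc_e_rc_18_1 lc_e_rc_18_1 lc_e_rc_13_3 lc_e_rc_16_1 lc_e_rc_19_4 lc_e_rc_27_5 lc_e_rc_18_1 lc_e_Cert_tree lc_e_rc_18_1 lc_e_rc_16_1 lc_e_rc_19_4 lc_e_rc_18_1 lc_e_rc_4_3 lc_e_Cert_tree) (@D3.rec (fun _ => (Cert rels S Gen.e)) lc_e_Cert_tree lc_e_rc_18_1 lc_e_Cert_tree lc_e_rc_13_3 lc_e_Cert_tree lc_e_rc_9_3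 lc_e_rc_9_1 lc_e_rc_13_3 lc_e_rc_18_1 lc_e_rc_13_3 lc_e_rc_18_1 lc_e_rc_18_1 lc_e_rc_13_3 lc_e_rc_16_3 lc_e_rc_13_3 lc_e_Cert_tree lc_e_rc_16_1 lc_e_rc_16_1 lc_e_rc_19_4 lc_e_rc_27_7 lc_e_rc_18_1 lc_e_rc_18_1 lc_e_rc_27_7 lc_e_rc_13_3 lc_e_Cert_tree lc_e_rc_13_1 lc_e_rc_4_1 lc_e_rc_16_5 lc_e_rc_18_1 lc_e_rc_27_5 lc_e_rc_18_1 lc_e_rc_9_3 lc_e_rc_13_3 lc_e_rc_16_3 lc_e_rc_19_4 lc_e_Cert_tree lc_e_rc_18_1 lc_e_rc_18_1 lc_e_rc_27_1 lc_e_rc_16_1 lc_e_rc_19_4 lc_e_Cert_tree lc_e_rc_27_5 lc_e_Cert_tree lc_e_Cert_tree lc_e_Cert_tree lc_e_rc_16_3 lc_e_rc_19_4 lc_e_rc_13_3 lc_e_Cert_tree lc_e_rc_9_1 lc_e_rc_18_1 lc_e_rc_13_3 lc_e_rc_18_1 lc_e_Cert_tree lc_e_rc_18_1 lc_e_rc_13_3 lc_e_rc_16_1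 lc_e_rc_19_2 lc_e_rc_4_3 lc_e_rc_13_3 lc_e_rc_18_1) (@D3.rec (fun _ => (Cert rels S Gen.e)) lc_e_rc_18_1 lc_e_rc_27_1 lc_e_rc_16_5 lc_e_rc_18_1 lc_e_rc_13_3 lc_e_rc_9_3 lc_e_rc_18_1 lc_e_rc_13_3 lc_e_rc_18_1 lc_e_rc_18_1 lc_e_Cert_tree lc_e_rc_18_1 lc_e_rc_18_1 lc_e_rc_27_5 lc_e_rc_18_1 lc_e_Cert_tree lc_e_rc_16_3 lc_e_rc_16_3 lc_e_rc_19_4 lc_e_rc_27_7 lc_e_rc_16_5 lc_e_rc_16_3 lc_e_rc_9_3 lc_e_rc_27_1 lc_e_Cert_tree lc_e_rc_16_5 lc_e_rc_9_3 lc_e_rc_9_3 lc_e_rc_19_4 lc_e_Cert_tree lc_e_rc_27_1 lc_e_rc_18_1 lc_e_rc_9_3 lc_e_rc_27_5 lc_e_rc_18_1 lc_e_rc_18_1 lc_e_rc_9_3 lc_e_rc_9_3 lc_e_rc_16_3 lc_e_Cert_tree lc_e_rc_13_1 lc_e_rc_18_1 lc_e_rc_9_3 lc_e_rc_27_1 lc_e_rc_18_1 lc_e_rc_18_1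 lc_e_rc_13_1 lc_e_rc_18_1 lc_e_rc_13_3 lc_e_rc_19_4 lc_e_rc_13_3 lc_e_rc_27_5 lc_e_rc_4_3 lc_e_rc_27_5 lc_e_rc_27_7 lc_e_rc_18_1 lc_e_rc_18_1 lc_e_rc_27_7 lc_e_rc_18_1 lc_e_rc_18_1 lc_e_rc_27_5 lc_e_rc_16_1) (@D3.rec (fun _ => (Cert rels S Gen.e)) lc_e_rc_19_4 lc_e_rc_19_2 lc_e_Cert_tree lc_e_rc_13_3 lc_e_rc_13_1 lc_e_rc_13_3 lc_e_rc_9_3 lc_e_rc_18_1 lc_e_rc_9_3 lc_e_rc_18_1 lc_e_rc_16_1 lc_e_rc_4_3 lc_e_rc_27_5 lc_e_rc_27_1 lc_e_rc_13_1 lc_e_rc_16_3 lc_e_rc_18_1 lc_e_rc_18_1 lc_e_rc_19_4 lc_e_rc_9_3 lc_e_rc_18_1 lc_e_rc_27_5 lc_e_rc_13_3 lc_e_rc_18_1 lc_e_rc_13_1 lc_e_Cert_tree lc_e_rc_18_1 lc_e_rc_18_1 lc_e_rc_18_1 lc_e_rc_16_1 lc_e_rc_16_3 lc_e_rc_9_1 lc_e_rc_18_1 lc_e_rc_13_3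 lc_e_rc_18_1 lc_e_rc_16_3 lc_e_rc_19_2 lc_e_rc_13_3 lc_e_rc_9_3 lc_e_rc_18_1 lc_e_rc_27_7 lc_e_rc_18_1 lc_e_rc_27_7 lc_e_rc_18_1 lc_e_rc_27_5 lc_e_rc_13_3 lc_e_rc_13_3 lc_e_rc_18_1 lc_e_rc_4_1 lc_e_rc_9_3 lc_e_rc_13_3 lc_e_rc_27_5 lc_e_rc_27_5 lc_e_rc_27_7 lc_e_rc_9_3 lc_e_rc_19_4 lc_e_rc_16_3 lc_e_rc_18_1 lc_e_rc_9_1 lc_e_rc_13_1 lc_e_rc_27_1 lc_e_rc_18_1) (@D3.rec (fun _ => (Cert rels S Gen.e)) lc_e_rc_19_2 lc_e_rc_16_5 lc_e_rc_19_2 lc_e_Cert_tree lc_e_rc_27_1 lc_e_rc_13_3 lc_e_Cert_tree lc_e_rc_27_7 lc_e_rc_13_3 lc_e_rc_18_1 lc_e_rc_9_3 lc_e_rc_27_7 lc_e_rc_18_1 lc_e_rc_9_1 lc_e_rc_18_1 lc_e_rc_19_2 lc_e_rc_16_1 lc_e_rc_18_1 lc_e_rc_4_3 lc_e_rc_18_1 lc_e_rc_16_5 lc_e_rc_18_1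 lc_e_rc_16_5 lc_e_rc_18_1 lc_e_rc_18_1 lc_e_Cert_tree lc_e_rc_18_1 lc_e_rc_13_1 lc_e_rc_13_1 lc_e_rc_18_1 lc_e_rc_19_2 lc_e_rc_9_1 lc_e_rc_27_1 lc_e_rc_27_7 lc_e_rc_9_3 lc_e_rc_18_1 lc_e_rc_16_5 lc_e_rc_18_1 lc_e_rc_27_7 lc_e_rc_4_3 lc_e_rc_4_3 lc_e_rc_13_3 lc_e_rc_19_4 lc_e_rc_19_2 lc_e_rc_27_1 lc_e_rc_18_1 lc_e_rc_13_3 lc_e_rc_18_1 lc_e_rc_18_1 lc_e_rc_18_1 lc_e_rc_19_0 lc_e_rc_16_1 lc_e_rc_19_2 lc_e_rc_18_1 lc_e_rc_9_3 lc_e_rc_18_1 lc_e_rc_16_1 lc_e_Cert_tree lc_e_rc_18_1 lc_e_rc_13_3 lc_e_Cert_tree lc_e_rc_16_3) (@D3.rec (fun _ => (Cert rels S Gen.e)) lc_e_rc_27_7 lc_e_rc_27_5 lc_e_rc_18_1 lc_e_rc_18_1 lc_e_rc_27_7 lc_e_rc_19_2 lc_e_rc_27_7 lc_e_rc_27_7 lc_e_rc_13_3 lc_e_rc_16_1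 lc_e_rc_16_3 lc_e_rc_19_2 lc_e_rc_18_1 lc_e_rc_18_1 lc_e_rc_27_1 lc_e_rc_18_1 lc_e_rc_16_3 lc_e_rc_13_1 lc_e_rc_27_5 lc_e_rc_18_1 lc_e_rc_16_5 lc_e_Cert_tree lc_e_rc_9_3 lc_e_rc_18_1 lc_e_rc_9_1 lc_e_rc_16_3 lc_e_rc_9_3 lc_e_rc_27_5 lc_e_rc_18_1 lc_e_rc_18_1 lc_e_rc_13_3 lc_e_rc_18_1 lc_e_rc_27_5 lc_e_rc_9_3 lc_e_rc_27_5 lc_e_rc_4_3 lc_e_rc_16_3 lc_e_Cert_tree lc_e_rc_27_7 lc_e_rc_18_1 lc_e_rc_16_3 lc_e_rc_27_5 lc_e_rc_9_3 lc_e_rc_9_1 lc_e_rc_18_1 lc_e_rc_27_5 lc_e_rc_9_3 lc_e_rc_18_1 lc_e_rc_16_5 lc_e_rc_13_3 lc_e_rc_18_1 lc_e_rc_13_3 lc_e_rc_13_3 lc_e_rc_27_1 lc_e_rc_9_3 lc_e_rc_16_1 lc_e_rc_9_3 lc_e_rc_13_3 lc_e_rc_16_5 lc_e_rc_9_3 lc_e_rc_4_1 lc_e_rc_18_1) (@D3.rec (fun _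 => (Cert rels S Gen.e)) lc_e_rc_9_3 lc_e_rc_18_1 lc_e_rc_13_3 lc_e_rc_19_0 lc_e_rc_9_1 lc_e_rc_13_3 lc_e_rc_18_1 lc_e_rc_4_3 lc_e_rc_27_1 lc_e_rc_16_5 lc_e_rc_18_1 lc_e_rc_16_3 lc_e_rc_18_1 lc_e_rc_18_1 lc_e_rc_9_1 lc_e_rc_9_3 lc_e_rc_18_1 lc_e_rc_9_1 lc_e_rc_13_3 lc_e_Cert_tree lc_e_rc_4_3 lc_e_rc_19_2 lc_e_Cert_tree lc_e_rc_18_1 lc_e_Cert_tree lc_e_rc_18_1 lc_e_rc_16_5 lc_e_Cert_tree lc_e_rc_13_1 lc_e_rc_4_3 lc_e_Cert_tree lc_e_rc_9_3 lc_e_rc_18_1 lc_e_rc_18_1 lc_e_rc_13_3 lc_e_rc_16_1 lc_e_Cert_tree lc_e_rc_18_1 lc_e_rc_18_1 lc_e_rc_27_7 lc_e_rc_18_1 lc_e_Cert_tree lc_e_rc_9_3 lc_e_rc_19_0 lc_e_rc_18_1 lc_e_rc_4_3 lc_e_rc_16_3 lc_e_rc_19_2 lc_e_rc_19_0 lc_e_rc_18_1 lc_e_rc_16_3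 lc_e_rc_13_1 lc_e_rc_18_1 lc_e_rc_27_7 lc_e_rc_16_3 lc_e_rc_18_1 lc_e_rc_27_7 lc_e_rc_27_5 lc_e_rc_27_1 lc_e_rc_18_1 lc_e_Cert_tree lc_e_rc_27_7) (@D3.rec (fun _ => (Cert rels S Gen.e)) lc_e_rc_16_3 lc_e_rc_18_1 lc_e_rc_16_1 lc_e_rc_19_4 lc_e_rc_9_1 lc_e_rc_13_3 lc_e_Cert_tree lc_e_rc_18_1 lc_e_rc_27_7 lc_e_rc_27_7 lc_e_rc_9_1 lc_e_rc_18_1 lc_e_rc_27_7 lc_e_rc_18_1 lc_e_rc_16_3 lc_e_rc_18_1 lc_e_rc_19_4 lc_e_rc_16_5 lc_e_rc_18_1 lc_e_rc_19_4 lc_e_rc_16_1 lc_e_rc_27_1 lc_e_rc_9_3 lc_e_rc_9_3 lc_e_rc_9_1 lc_e_rc_9_1 lc_e_rc_16_3 lc_e_rc_18_1 lc_e_rc_13_1 lc_e_rc_18_1 lc_e_rc_13_3 lc_e_rc_16_1 lc_e_rc_19_4 lc_e_rc_9_1 lc_e_Cert_tree lc_e_rc_16_5 lc_e_rc_27_7 lc_e_rc_9_3 lc_e_rc_16_3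 lc_e_rc_18_1 lc_e_rc_18_1 lc_e_rc_9_3 lc_e_rc_18_1 lc_e_rc_27_1 lc_e_rc_9_1 lc_e_rc_9_1 lc_e_rc_19_4 lc_e_rc_18_1 lc_e_rc_18_1 lc_e_rc_16_5 lc_e_rc_18_1 lc_e_rc_16_5 lc_e_rc_9_3 lc_e_rc_18_1 lc_e_rc_27_5 lc_e_rc_19_4 lc_e_rc_27_5 lc_e_rc_9_3 lc_e_rc_16_3 lc_e_rc_18_1 lc_e_rc_9_3 lc_e_rc_9_3) (@D3.rec (fun _ => (Cert rels S Gen.e)) lc_e_rc_9_3 lc_e_rc_13_3 lc_e_rc_27_7 lc_e_rc_13_3 lc_e_rc_9_3 lc_e_rc_27_5 lc_e_rc_18_1 lc_e_rc_9_1 lc_e_rc_27_5 lc_e_rc_19_4 lc_e_rc_9_1 lc_e_rc_13_3 lc_e_rc_18_1 lc_e_rc_18_1 lc_e_rc_4_1 lc_e_rc_9_3 lc_e_rc_18_1 lc_e_rc_16_5 lc_e_rc_9_1 lc_e_rc_27_5 lc_e_rc_18_1 lc_e_rc_4_3 lc_e_rc_13_3 lc_e_rc_9_3 lc_e_rc_18_1 lc_e_Cert_tree lc_e_rc_18_1 lc_e_rc_19_0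 lc_e_rc_18_1 lc_e_rc_13_3 lc_e_rc_18_1 lc_e_rc_18_1 lc_e_rc_9_1 lc_e_rc_13_1 lc_e_rc_18_1 lc_e_rc_16_5 lc_e_rc_27_1 lc_e_rc_19_0 lc_e_rc_4_3 lc_e_rc_13_3 lc_e_rc_18_1 lc_e_rc_16_3 lc_e_rc_19_4 lc_e_rc_19_0 lc_e_rc_27_5 lc_e_rc_27_7 lc_e_rc_13_1 lc_e_rc_4_3 lc_e_rc_4_3 lc_e_rc_13_3 lc_e_rc_9_1 lc_e_rc_27_5 lc_e_rc_9_3 lc_e_rc_9_3 lc_e_Cert_tree lc_e_rc_18_1 lc_e_rc_27_1 lc_e_rc_9_3 lc_e_rc_13_3 lc_e_rc_27_7 lc_e_rc_19_2 lc_e_rc_19_4) (@D3.rec (fun _ => (Cert rels S Gen.e)) lc_e_rc_27_5 lc_e_Cert_tree lc_e_rc_18_1 lc_e_rc_18_1 lc_e_rc_18_1 lc_e_rc_16_5 lc_e_rc_9_3 lc_e_rc_18_1 lc_e_rc_19_2 lc_e_rc_27_7 lc_e_rc_18_1 lc_e_rc_9_1 lc_e_rc_16_5 lc_e_rc_18_1 lc_e_rc_27_1 lc_e_rc_9_3 lc_e_rc_18_1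 lc_e_rc_9_3 lc_e_rc_9_3 lc_e_rc_13_3 lc_e_rc_18_1 lc_e_rc_13_3 lc_e_rc_18_1 lc_e_rc_13_3 lc_e_Cert_tree lc_e_rc_18_1 lc_e_rc_4_3 lc_e_rc_9_3 lc_e_rc_27_5 lc_e_rc_4_1 lc_e_rc_27_1 lc_e_rc_4_3 lc_e_rc_18_1 lc_e_Cert_tree lc_e_rc_13_3 lc_e_rc_18_1 lc_e_rc_13_3 lc_e_rc_19_4 lc_e_rc_13_1 lc_e_rc_18_1 lc_e_rc_27_5 lc_e_rc_13_3 lc_e_Cert_tree lc_e_rc_18_1 lc_e_rc_18_1 lc_e_rc_18_1 lc_e_rc_16_1 lc_e_rc_19_2 lc_e_rc_27_1 lc_e_Cert_tree lc_e_rc_19_0 lc_e_rc_18_1 lc_e_rc_16_3 lc_e_rc_18_1 lc_e_rc_9_1 lc_e_rc_4_3 lc_e_rc_9_3 lc_e_rc_19_2 lc_e_rc_9_3 lc_e_rc_18_1 lc_e_rc_27_5 lc_e_rc_16_1) (@D3.rec (fun _ => (Cert rels S Gen.e)) lc_e_rc_4_1 lc_e_rc_4_3 lc_e_Cert_tree lc_e_rc_18_1 lc_e_rc_27_7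 lc_e_rc_18_1 lc_e_rc_13_3 lc_e_rc_9_3 lc_e_rc_16_1 lc_e_rc_19_2 lc_e_rc_18_1 lc_e_rc_16_3 lc_e_rc_16_1 lc_e_rc_9_3 lc_e_rc_16_1 lc_e_rc_13_3 lc_e_rc_27_5 lc_e_rc_19_2 lc_e_rc_9_3 lc_e_rc_18_1 lc_e_rc_18_1 lc_e_rc_13_3 lc_e_rc_19_2 lc_e_rc_13_1 lc_e_rc_9_3 lc_e_rc_16_5 lc_e_rc_4_1 lc_e_rc_9_3 lc_e_Cert_tree lc_e_Cert_tree lc_e_rc_18_1 lc_e_rc_16_5 lc_e_rc_18_1 lc_e_rc_16_1 lc_e_rc_16_5 lc_e_rc_16_1 lc_e_rc_19_2 lc_e_rc_27_5 lc_e_rc_18_1 lc_e_rc_4_3 lc_e_rc_18_1 lc_e_rc_9_3 lc_e_rc_27_5 lc_e_rc_18_1 lc_e_rc_18_1 lc_e_rc_18_1 lc_e_rc_27_1 lc_e_rc_16_1 lc_e_rc_19_2 lc_e_rc_27_7 lc_e_rc_18_1 lc_e_rc_13_3 lc_e_rc_18_1 lc_e_rc_9_3 lc_e_rc_16_5 lc_e_rc_9_3 lc_e_rc_27_7 lc_e_rc_18_1 lc_e_rc_18_1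 lc_e_rc_13_3 lc_e_rc_18_1 lc_e_rc_19_4) (@D3.rec (fun _ => (Cert rels S Gen.e)) lc_e_rc_27_5 lc_e_rc_27_5 lc_e_rc_27_7 lc_e_rc_13_3 lc_e_rc_4_3 lc_e_rc_18_1 lc_e_rc_9_3 lc_e_rc_16_5 lc_e_rc_9_1 lc_e_rc_16_5 lc_e_rc_16_1 lc_e_rc_27_1 lc_e_rc_27_5 lc_e_rc_27_7 lc_e_rc_4_3 lc_e_rc_18_1 lc_e_rc_18_1 lc_e_rc_16_3 lc_e_rc_18_1 lc_e_rc_16_5 lc_e_rc_16_1 lc_e_rc_9_3 lc_e_rc_13_3 lc_e_rc_9_3 lc_e_rc_9_3 lc_e_rc_27_5 lc_e_rc_19_2 lc_e_rc_27_7 lc_e_rc_16_5 lc_e_rc_9_3 lc_e_rc_16_5 lc_e_rc_18_1 lc_e_rc_18_1 lc_e_rc_27_1 lc_e_Cert_tree lc_e_rc_18_1 lc_e_rc_16_5 lc_e_rc_9_3 lc_e_rc_13_3 lc_e_rc_9_3 lc_e_rc_18_1 lc_e_rc_27_5 lc_e_rc_18_1 lc_e_rc_18_1 lc_e_rc_4_3 lc_e_rc_18_1 lc_e_rc_27_5 lc_e_rc_4_3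 lc_e_rc_18_1 lc_e_rc_9_1 lc_e_rc_4_3 lc_e_Cert_tree lc_e_rc_13_3 lc_e_rc_27_5 lc_e_rc_18_1 lc_e_rc_27_7 lc_e_rc_16_3 lc_e_rc_4_3 lc_e_rc_18_1 lc_e_rc_13_3 lc_e_rc_16_3 lc_e_rc_9_1) (@D3.rec (fun _ => (Cert rels S Gen.e)) lc_e_rc_13_3 lc_e_rc_19_4 lc_e_rc_13_1 lc_e_rc_18_1 lc_e_rc_13_3 lc_e_rc_9_1 lc_e_rc_27_7 lc_e_rc_4_1 lc_e_rc_18_1 lc_e_rc_9_3 lc_e_rc_27_7 lc_e_rc_18_1 lc_e_rc_4_3 lc_e_rc_9_3 lc_e_rc_16_3 lc_e_rc_13_3 lc_e_rc_4_1 lc_e_rc_18_1 lc_e_rc_18_1 lc_e_rc_27_1 lc_e_rc_4_3 lc_e_Cert_tree lc_e_Cert_tree lc_e_rc_18_1 lc_e_rc_18_1 lc_e_rc_27_5 lc_e_rc_4_3 lc_e_rc_18_1 lc_e_rc_19_4 lc_e_rc_16_3 lc_e_Cert_tree lc_e_rc_18_1 lc_e_rc_16_1 lc_e_rc_4_1 lc_e_rc_16_5 lc_e_rc_16_5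 lc_e_rc_13_3 lc_e_rc_18_1 lc_e_rc_19_4 lc_e_rc_16_5 lc_e_rc_18_1 lc_e_rc_13_3 lc_e_rc_16_5 lc_e_rc_27_1 lc_e_rc_9_1 lc_e_rc_18_1 lc_e_rc_16_5 lc_e_Cert_tree lc_e_rc_16_1 lc_e_rc_18_1 lc_e_rc_27_7 lc_e_rc_13_3 lc_e_rc_18_1 lc_e_rc_18_1 lc_e_Cert_tree lc_e_rc_13_3 lc_e_rc_9_3 lc_e_rc_27_5 lc_e_rc_18_1 lc_e_rc_16_5 lc_e_rc_19_0 lc_e_Cert_tree) (@D3.rec (fun _ => (Cert rels S Gen.e)) lc_e_rc_9_3 lc_e_rc_18_1 lc_e_Cert_tree lc_e_rc_9_3 lc_e_rc_4_1 lc_e_rc_13_3 lc_e_rc_18_1 lc_e_rc_27_1 lc_e_rc_27_5 lc_e_rc_18_1 lc_e_rc_18_1 lc_e_rc_16_1 lc_e_rc_9_1 lc_e_rc_16_3 lc_e_rc_18_1 lc_e_rc_18_1 lc_e_rc_27_5 lc_e_rc_9_3 lc_e_rc_18_1 lc_e_rc_16_3 lc_e_rc_13_3 lc_e_rc_27_5 lc_e_rc_18_1 lc_e_rc_27_1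 lc_e_rc_27_5 lc_e_rc_16_5 lc_e_rc_16_1 lc_e_rc_13_3 lc_e_rc_19_2 lc_e_rc_9_3 lc_e_rc_13_1 lc_e_rc_18_1 lc_e_rc_9_3 lc_e_Cert_tree lc_e_Cert_tree lc_e_rc_18_1 lc_e_rc_13_1 lc_e_rc_18_1 lc_e_rc_27_7 lc_e_Cert_tree lc_e_rc_18_1 lc_e_rc_4_3 lc_e_rc_16_3 lc_e_rc_18_1 lc_e_rc_9_3 lc_e_rc_27_1 lc_e_rc_4_3 lc_e_rc_27_7 lc_e_rc_18_1 lc_e_rc_13_3 lc_e_rc_18_1 lc_e_rc_4_3 lc_e_rc_27_7 lc_e_rc_9_3 lc_e_rc_18_1 lc_e_rc_16_5 lc_e_rc_9_3 lc_e_rc_18_1 lc_e_rc_9_3 lc_e_rc_19_0 lc_e_rc_18_1 lc_e_rc_13_3) (@D3.rec (fun _ => (Cert rels S Gen.e)) lc_e_rc_16_3 lc_e_rc_18_1 lc_e_rc_27_5 lc_e_rc_18_1 lc_e_rc_13_3 lc_e_rc_16_1 lc_e_rc_18_1 lc_e_rc_13_1 lc_e_rc_18_1 lc_e_rc_13_3 lc_e_Cert_tree lc_e_rc_16_5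 lc_e_rc_18_1 lc_e_rc_13_3 lc_e_rc_16_5 lc_e_rc_18_1 lc_e_rc_19_0 lc_e_rc_27_1 lc_e_rc_18_1 lc_e_rc_4_3 lc_e_rc_18_1 lc_e_rc_18_1 lc_e_rc_13_3 lc_e_rc_18_1 lc_e_rc_4_3 lc_e_rc_18_1 lc_e_rc_13_1 lc_e_rc_4_3 lc_e_Cert_tree lc_e_rc_18_1 lc_e_rc_19_4 lc_e_rc_16_5 lc_e_rc_16_1 lc_e_Cert_tree lc_e_rc_18_1 lc_e_rc_27_5 lc_e_rc_27_1 lc_e_rc_9_1 lc_e_rc_27_7 lc_e_rc_18_1 lc_e_rc_13_3 lc_e_rc_18_1 lc_e_rc_4_1 lc_e_rc_27_1 lc_e_rc_18_1 lc_e_rc_16_5 lc_e_rc_19_4 lc_e_rc_13_3 lc_e_rc_4_3 lc_e_rc_16_1 lc_e_rc_9_1 lc_e_Cert_tree lc_e_rc_18_1 lc_e_rc_13_3 lc_e_rc_9_3 lc_e_rc_27_1 lc_e_rc_18_1 lc_e_rc_18_1 lc_e_rc_13_1 lc_e_rc_13_1 lc_e_rc_16_3 lc_e_rc_18_1) (@D3.rec (fun _ => (Cert rels S Gen.e))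 lc_e_rc_9_3 lc_e_rc_13_3 lc_e_rc_18_1 lc_e_rc_27_5 lc_e_rc_27_5 lc_e_rc_4_3 lc_e_rc_9_3 lc_e_rc_4_3 lc_e_rc_13_3 lc_e_rc_13_3 lc_e_rc_18_1 lc_e_Cert_tree lc_e_rc_16_5 lc_e_rc_27_1 lc_e_rc_19_2 lc_e_Cert_tree lc_e_rc_9_3 lc_e_rc_18_1 lc_e_rc_16_3 lc_e_rc_13_3 lc_e_rc_18_1 lc_e_rc_18_1 lc_e_rc_16_5 lc_e_Cert_tree lc_e_rc_18_1 lc_e_rc_27_5 lc_e_rc_18_1 lc_e_Cert_tree lc_e_rc_13_3 lc_e_rc_9_3 lc_e_rc_18_1 lc_e_rc_18_1 lc_e_rc_19_4 lc_e_rc_27_5 lc_e_rc_18_1 lc_e_rc_27_1 lc_e_rc_18_1 lc_e_rc_19_0 lc_e_rc_27_7 lc_e_rc_13_3 lc_e_rc_18_1 lc_e_rc_27_7 lc_e_rc_18_1 lc_e_rc_27_1 lc_e_rc_9_1 lc_e_rc_4_1 lc_e_rc_16_5 lc_e_rc_27_1 lc_e_rc_18_1 lc_e_rc_19_4 lc_e_rc_9_3 lc_e_rc_16_5 lc_e_rc_18_1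 lc_e_rc_9_3 lc_e_rc_16_5 lc_e_rc_9_3 lc_e_rc_27_1 lc_e_rc_18_1 lc_e_rc_27_5 lc_e_rc_13_1 lc_e_rc_18_1 lc_e_rc_9_1) (@D3.rec (fun _ => (Cert rels S Gen.e)) lc_e_rc_19_4 lc_e_rc_19_4 lc_e_rc_9_3 lc_e_rc_13_3 lc_e_Cert_tree lc_e_rc_18_1 lc_e_rc_4_3 lc_e_rc_4_3 lc_e_rc_18_1 lc_e_rc_16_5 lc_e_rc_27_5 lc_e_rc_4_1 lc_e_rc_13_3 lc_e_rc_13_3 lc_e_rc_18_1 lc_e_rc_18_1 lc_e_rc_27_5 lc_e_rc_18_1 lc_e_rc_16_3 lc_e_rc_18_1 lc_e_rc_18_1 lc_e_rc_18_1 lc_e_rc_13_3 lc_e_rc_27_5 lc_e_rc_4_3 lc_e_rc_16_3 lc_e_rc_19_2 lc_e_rc_13_1 lc_e_rc_18_1 lc_e_rc_18_1 lc_e_rc_13_1 lc_e_rc_18_1 lc_e_rc_18_1 lc_e_rc_19_2 lc_e_rc_18_1 lc_e_rc_16_3 lc_e_rc_9_3 lc_e_rc_9_3 lc_e_rc_9_1 lc_e_rc_18_1 lc_e_rc_27_5 lc_e_rc_18_1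 lc_e_rc_13_1 lc_e_rc_18_1 lc_e_rc_13_3 lc_e_rc_18_1 lc_e_Cert_tree lc_e_rc_18_1 lc_e_rc_27_1 lc_e_rc_18_1 lc_e_rc_27_5 lc_e_rc_27_7 lc_e_rc_18_1 lc_e_rc_13_3 lc_e_rc_18_1 lc_e_rc_18_1 lc_e_rc_13_1 lc_e_rc_13_1 lc_e_rc_18_1 lc_e_rc_9_3 lc_e_rc_9_3 lc_e_rc_16_5) (@D3.rec (fun _ => (Cert rels S Gen.e)) lc_e_rc_9_3 lc_e_rc_18_1 lc_e_rc_16_5 lc_e_rc_9_3 lc_e_rc_27_7 lc_e_rc_4_1 lc_e_rc_27_5 lc_e_rc_18_1 lc_e_rc_27_5 lc_e_rc_27_5 lc_e_rc_19_4 lc_e_rc_27_1 lc_e_rc_16_5 lc_e_rc_16_1 lc_e_rc_13_1 lc_e_rc_18_1 lc_e_Cert_tree lc_e_rc_13_3 lc_e_rc_13_3 lc_e_rc_16_3 lc_e_rc_13_3 lc_e_rc_18_1 lc_e_Cert_tree lc_e_Cert_tree lc_e_rc_18_1 lc_e_rc_18_1 lc_e_rc_16_1 lc_e_rc_16_3 lc_e_Cert_tree lc_e_rc_18_1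 lc_e_rc_18_1 lc_e_rc_18_1 lc_e_rc_27_5 lc_e_rc_4_3 lc_e_rc_16_3 lc_e_rc_13_3 lc_e_rc_16_3 lc_e_rc_13_1 lc_e_rc_27_5 lc_e_rc_16_3 lc_e_rc_9_3 lc_e_rc_18_1 lc_e_rc_18_1 lc_e_rc_9_3 lc_e_rc_18_1 lc_e_rc_18_1 lc_e_rc_16_1 lc_e_rc_19_4 lc_e_rc_18_1 lc_e_rc_9_1 lc_e_rc_27_1 lc_e_rc_27_5 lc_e_rc_4_3 lc_e_rc_18_1 lc_e_rc_18_1 lc_e_rc_19_2 lc_e_rc_18_1 lc_e_rc_9_3 lc_e_rc_18_1 lc_e_rc_16_1 lc_e_rc_19_4 lc_e_rc_16_1) (@D3.rec (fun _ => (Cert rels S Gen.e)) lc_e_rc_19_2 lc_e_rc_19_4 lc_e_rc_13_3 lc_e_rc_9_3 lc_e_rc_13_3 lc_e_rc_13_3 lc_e_rc_9_1 lc_e_rc_18_1 lc_e_rc_18_1 lc_e_rc_18_1 lc_e_Cert_tree lc_e_rc_16_1 lc_e_rc_9_3 lc_e_rc_18_1 lc_e_rc_16_1 lc_e_rc_19_4 lc_e_rc_27_5 lc_e_rc_9_3 lc_e_rc_13_1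 lc_e_rc_16_1 lc_e_Cert_tree lc_e_rc_16_5 lc_e_rc_9_3 lc_e_rc_18_1 lc_e_rc_27_7 lc_e_rc_18_1 lc_e_rc_27_5 lc_e_rc_9_3 lc_e_rc_18_1 lc_e_rc_16_1 lc_e_rc_16_5 lc_e_rc_9_3 lc_e_rc_16_1 lc_e_rc_19_4 lc_e_rc_16_5 lc_e_rc_9_3 lc_e_rc_16_1 lc_e_rc_16_5 lc_e_rc_4_3 lc_e_rc_27_1 lc_e_rc_19_2 lc_e_rc_16_3 lc_e_rc_18_1 lc_e_rc_4_3 lc_e_rc_9_3 lc_e_rc_27_1 lc_e_rc_18_1 lc_e_rc_16_3 lc_e_rc_13_1 lc_e_rc_27_5 lc_e_rc_18_1 lc_e_rc_27_5 lc_e_rc_18_1 lc_e_rc_13_3 lc_e_rc_19_2 lc_e_rc_4_3 lc_e_rc_18_1 lc_e_rc_18_1 lc_e_rc_13_3 lc_e_rc_13_1 lc_e_Cert_tree lc_e_rc_18_1) (@D3.rec (fun _ => (Cert rels S Gen.e)) lc_e_rc_18_1 lc_e_Cert_tree lc_e_rc_18_1 lc_e_rc_13_3 lc_e_Cert_tree lc_e_rc_27_5 lc_e_rc_18_1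 lc_e_Cert_tree lc_e_rc_27_1 lc_e_rc_18_1 lc_e_rc_27_5 lc_e_rc_16_5 lc_e_rc_13_3 lc_e_rc_27_1 lc_e_rc_13_1 lc_e_rc_18_1 lc_e_rc_16_5 lc_e_rc_27_1 lc_e_rc_18_1 lc_e_rc_4_3 lc_e_rc_18_1 lc_e_rc_27_5 lc_e_rc_13_3 lc_e_Cert_tree lc_e_rc_18_1 lc_e_rc_16_3 lc_e_rc_27_7 lc_e_rc_13_3 lc_e_rc_16_5 lc_e_rc_27_1 lc_e_rc_27_5 lc_e_rc_18_1 lc_e_rc_9_1 lc_e_rc_4_3 lc_e_rc_18_1 lc_e_rc_16_3 lc_e_rc_16_1 lc_e_rc_13_3 lc_e_rc_13_3 lc_e_rc_16_1 lc_e_rc_18_1 lc_e_rc_27_5 lc_e_rc_9_1 lc_e_rc_13_1 lc_e_rc_18_1 lc_e_rc_27_7 lc_e_rc_16_3 lc_e_rc_18_1 lc_e_rc_9_1 lc_e_rc_13_3 lc_e_rc_16_5 lc_e_rc_18_1 lc_e_rc_27_5 lc_e_rc_4_3 lc_e_rc_16_3 lc_e_rc_19_2 lc_e_rc_18_1 lc_e_rc_9_3 lc_e_Cert_tree lc_e_rc_13_3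 lc_e_rc_16_5 lc_e_rc_16_5) (@D3.rec (fun _ => (Cert rels S Gen.e)) lc_e_Cert_tree lc_e_rc_13_3 lc_e_rc_19_4 lc_e_rc_9_3 lc_e_rc_19_2 lc_e_rc_18_1 lc_e_rc_27_7 lc_e_rc_18_1 lc_e_rc_13_3 lc_e_rc_4_3 lc_e_rc_27_7 lc_e_rc_18_1 lc_e_rc_13_3 lc_e_rc_16_3 lc_e_rc_27_5 lc_e_rc_18_1 lc_e_rc_9_3 lc_e_rc_16_5 lc_e_rc_9_3 lc_e_rc_4_3 lc_e_rc_16_5 lc_e_rc_18_1 lc_e_rc_16_3 lc_e_rc_27_1 lc_e_rc_18_1 lc_e_rc_9_1 lc_e_rc_16_3 lc_e_rc_18_1 lc_e_rc_9_3 lc_e_rc_19_4 lc_e_rc_13_3 lc_e_rc_4_3 lc_e_rc_13_1 lc_e_rc_9_3 lc_e_rc_9_1 lc_e_rc_18_1 lc_e_rc_9_3 lc_e_rc_16_5 lc_e_rc_9_1 lc_e_rc_18_1 lc_e_rc_27_5 lc_e_rc_9_3 lc_e_rc_13_1 lc_e_rc_18_1 lc_e_Cert_tree lc_e_rc_16_3 lc_e_rc_18_1 lc_e_rc_9_1 lc_e_rc_16_5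 lc_e_rc_27_7 lc_e_rc_27_5 lc_e_rc_16_5 lc_e_rc_16_5 lc_e_rc_16_1 lc_e_rc_19_4 lc_e_rc_16_5 lc_e_rc_16_1 lc_e_rc_9_3 lc_e_rc_16_1 lc_e_rc_18_1 lc_e_rc_4_3 lc_e_rc_9_1) (@D3.rec (fun _ => (Cert rels S Gen.e)) lc_e_rc_27_5 lc_e_rc_27_7 lc_e_rc_27_5 lc_e_rc_18_1 lc_e_rc_13_1 lc_e_rc_13_3 lc_e_rc_18_1 lc_e_rc_18_1 lc_e_rc_9_3 lc_e_rc_18_1 lc_e_rc_16_3 lc_e_rc_19_4 lc_e_rc_16_3 lc_e_rc_27_1 lc_e_rc_9_3 lc_e_rc_18_1 lc_e_rc_27_1 lc_e_rc_13_1 lc_e_rc_19_4 lc_e_rc_18_1 lc_e_rc_9_3 lc_e_rc_16_1 lc_e_rc_18_1 lc_e_rc_16_1 lc_e_rc_27_1 lc_e_rc_16_5 lc_e_rc_18_1 lc_e_rc_18_1 lc_e_rc_27_7 lc_e_rc_16_3 lc_e_rc_19_4 lc_e_rc_18_1 lc_e_rc_19_4 lc_e_rc_9_3 lc_e_rc_13_3 lc_e_rc_27_1 lc_e_rc_19_0 lc_e_rc_9_3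 lc_e_rc_27_5 lc_e_rc_18_1 lc_e_rc_13_3 lc_e_rc_13_3 lc_e_rc_16_3 lc_e_rc_27_5 lc_e_rc_18_1 lc_e_rc_16_5 lc_e_rc_18_1 lc_e_rc_27_1 lc_e_rc_18_1 lc_e_rc_18_1 lc_e_rc_27_1 lc_e_rc_18_1 lc_e_rc_9_3 lc_e_rc_13_1 lc_e_rc_13_1 lc_e_rc_13_3 lc_e_rc_9_1 lc_e_Cert_tree lc_e_Cert_tree lc_e_rc_4_1 lc_e_rc_27_7 lc_e_rc_18_1) (@D3.rec (fun _ => (Cert rels S Gen.e)) lc_e_rc_16_5 lc_e_rc_19_2 lc_e_rc_9_1 lc_e_rc_19_2 lc_e_rc_27_5 lc_e_rc_16_3 lc_e_rc_27_1 lc_e_rc_4_3 lc_e_rc_27_7 lc_e_rc_4_1 lc_e_rc_13_3 lc_e_rc_16_1 lc_e_rc_9_3 lc_e_rc_9_3 lc_e_rc_27_5 lc_e_rc_9_3 lc_e_rc_9_1 lc_e_rc_13_1 lc_e_rc_16_3 lc_e_rc_13_3 lc_e_rc_9_3 lc_e_rc_18_1 lc_e_rc_9_1 lc_e_rc_18_1 lc_e_rc_16_5 lc_e_rc_18_1 lc_e_rc_18_1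 lc_e_rc_13_3 lc_e_rc_16_3 lc_e_rc_13_1 lc_e_rc_16_1 lc_e_rc_13_1 lc_e_rc_18_1 lc_e_rc_18_1 lc_e_rc_16_3 lc_e_rc_19_2 lc_e_rc_9_1 lc_e_rc_13_3 lc_e_rc_16_1 lc_e_rc_27_5 lc_e_rc_16_5 lc_e_Cert_tree lc_e_rc_19_2 lc_e_rc_27_5 lc_e_rc_18_1 lc_e_rc_13_3 lc_e_rc_13_1 lc_e_Cert_tree lc_e_Cert_tree lc_e_rc_18_1 lc_e_rc_16_3 lc_e_rc_4_3 lc_e_rc_16_5 lc_e_rc_13_3 lc_e_rc_19_4 lc_e_rc_13_3 lc_e_rc_18_1 lc_e_rc_18_1 lc_e_rc_16_1 lc_e_rc_13_3 lc_e_rc_18_1 lc_e_rc_27_5) (@D3.rec (fun _ => (Cert rels S Gen.e)) lc_e_rc_18_1 lc_e_rc_13_3 lc_e_rc_13_3 lc_e_rc_13_3 lc_e_rc_13_1 lc_e_rc_16_1 lc_e_rc_27_1 lc_e_rc_18_1 lc_e_rc_27_5 lc_e_rc_19_4 lc_e_rc_19_4 lc_e_rc_18_1 lc_e_rc_27_5 lc_e_rc_18_1 lc_e_rc_13_3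 lc_e_rc_27_5 lc_e_rc_27_7 lc_e_rc_27_5 lc_e_rc_16_5 lc_e_rc_18_1 lc_e_rc_4_3 lc_e_rc_18_1 lc_e_Cert_tree lc_e_rc_9_3 lc_e_rc_16_1 lc_e_rc_19_2 lc_e_rc_18_1 lc_e_rc_19_0 lc_e_rc_16_5 lc_e_rc_9_1 lc_e_rc_16_5 lc_e_rc_19_4 lc_e_rc_18_1 lc_e_rc_18_1 lc_e_rc_18_1 lc_e_rc_27_5 lc_e_rc_13_1 lc_e_rc_18_1 lc_e_rc_16_5 lc_e_rc_18_1 lc_e_rc_19_4 lc_e_rc_19_0 lc_e_rc_16_5 lc_e_rc_18_1 lc_e_rc_13_1 lc_e_rc_16_5 lc_e_rc_13_3 lc_e_rc_16_5 lc_e_rc_18_1 lc_e_rc_4_3 lc_e_Cert_tree lc_e_rc_18_1 lc_e_rc_16_5 lc_e_rc_4_3 lc_e_rc_4_3 lc_e_rc_18_1 lc_e_rc_16_5 lc_e_rc_9_1 lc_e_rc_18_1 lc_e_rc_13_3 lc_e_rc_16_1 lc_e_rc_18_1) (@D3.rec (fun _ => (Cert rels S Gen.e)) lc_e_rc_18_1 lc_e_rc_18_1 lc_e_rc_16_3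 lc_e_rc_13_3 lc_e_rc_9_3 lc_e_rc_16_5 lc_e_rc_4_3 lc_e_rc_27_1 lc_e_rc_27_5 lc_e_rc_19_2 lc_e_rc_18_1 lc_e_rc_13_3 lc_e_rc_13_3 lc_e_rc_18_1 lc_e_rc_9_3 lc_e_rc_27_7 lc_e_rc_16_3 lc_e_rc_9_1 lc_e_rc_27_5 lc_e_rc_18_1 lc_e_rc_4_1 lc_e_rc_18_1 lc_e_rc_27_1 lc_e_rc_18_1 lc_e_rc_9_1 lc_e_rc_18_1 lc_e_rc_18_1 lc_e_rc_18_1 lc_e_rc_13_3 lc_e_rc_18_1 lc_e_rc_27_1 lc_e_rc_13_3 lc_e_rc_18_1 lc_e_rc_27_5 lc_e_rc_19_4 lc_e_rc_18_1 lc_e_rc_27_5 lc_e_rc_18_1 lc_e_rc_19_2 lc_e_rc_19_4 lc_e_rc_19_4 lc_e_rc_19_0 lc_e_rc_16_5 lc_e_rc_27_1 lc_e_rc_13_3 lc_e_rc_9_3 lc_e_rc_4_1 lc_e_rc_18_1 lc_e_rc_27_1 lc_e_rc_9_3 lc_e_rc_13_1 lc_e_rc_16_5 lc_e_rc_16_5 lc_e_rc_16_1 lc_e_rc_27_5 lc_e_rc_13_3 lc_e_rc_19_4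 lc_e_rc_13_1 lc_e_rc_27_5 lc_e_rc_18_1 lc_e_rc_9_3 lc_e_rc_9_3) (@D3.rec (fun _ => (Cert rels S Gen.e)) lc_e_rc_27_5 lc_e_rc_9_1 lc_e_rc_4_3 lc_e_rc_4_3 lc_e_rc_16_5 lc_e_rc_9_3 lc_e_rc_18_1 lc_e_rc_27_5 lc_e_rc_13_3 lc_e_rc_27_1 lc_e_rc_19_0 lc_e_rc_19_4 lc_e_rc_9_3 lc_e_rc_13_3 lc_e_rc_16_5 lc_e_rc_18_1 lc_e_rc_18_1 lc_e_rc_9_1 lc_e_rc_18_1 lc_e_rc_18_1 lc_e_rc_16_1 lc_e_rc_16_5 lc_e_rc_18_1 lc_e_rc_18_1 lc_e_rc_19_2 lc_e_rc_19_4 lc_e_rc_9_1 lc_e_rc_13_3 lc_e_rc_18_1 lc_e_rc_27_5 lc_e_rc_27_7 lc_e_rc_18_1 lc_e_rc_16_3 lc_e_rc_9_3 lc_e_rc_16_1 lc_e_rc_13_3 lc_e_rc_13_3 lc_e_rc_18_1 lc_e_rc_9_3 lc_e_rc_27_5 lc_e_Cert_tree lc_e_rc_16_1 lc_e_rc_19_2 lc_e_rc_16_3 lc_e_rc_4_3 lc_e_rc_13_3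 lc_e_rc_9_3 lc_e_rc_9_1 lc_e_rc_27_5 lc_e_rc_18_1 lc_e_rc_16_5 lc_e_rc_18_1 lc_e_rc_16_1 lc_e_rc_13_3 lc_e_rc_16_1 lc_e_rc_16_1 lc_e_rc_27_5 lc_e_rc_13_3 lc_e_rc_13_3 lc_e_rc_16_1 lc_e_rc_27_7 lc_e_rc_27_1) (@D3.rec (fun _ => (Cert rels S Gen.e)) lc_e_rc_27_5 lc_e_rc_18_1 lc_e_rc_18_1 lc_e_rc_27_5 lc_e_rc_27_5 lc_e_rc_27_5 lc_e_rc_13_1 lc_e_rc_18_1 lc_e_rc_4_1 lc_e_rc_19_4 lc_e_rc_18_1 lc_e_rc_16_1 lc_e_rc_16_3 lc_e_rc_18_1 lc_e_rc_18_1 lc_e_Cert_tree lc_e_rc_18_1 lc_e_rc_18_1 lc_e_rc_19_4 lc_e_rc_18_1 lc_e_Cert_tree lc_e_rc_9_1 lc_e_rc_19_4 lc_e_rc_18_1 lc_e_rc_4_3 lc_e_rc_19_4 lc_e_rc_9_3 lc_e_rc_16_3 lc_e_rc_9_3 lc_e_rc_18_1 lc_e_rc_9_1 lc_e_rc_4_1 lc_e_rc_18_1 lc_e_rc_13_3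 lc_e_rc_16_3 lc_e_rc_13_1 lc_e_rc_13_3 lc_e_rc_18_1 lc_e_rc_27_5 lc_e_rc_18_1 lc_e_rc_18_1 lc_e_rc_16_3 lc_e_rc_19_4 lc_e_rc_27_5 lc_e_rc_19_2 lc_e_rc_18_1 lc_e_rc_27_1 lc_e_rc_16_3 lc_e_rc_18_1 lc_e_rc_18_1 lc_e_rc_16_5 lc_e_rc_18_1 lc_e_rc_16_5 lc_e_rc_18_1 lc_e_rc_18_1 lc_e_rc_13_3 lc_e_rc_18_1 lc_e_rc_9_1 lc_e_rc_16_5 lc_e_rc_18_1 lc_e_rc_18_1 lc_e_rc_18_1) (@D3.rec (fun _ => (Cert rels S Gen.e)) lc_e_rc_19_4 lc_e_rc_27_5 lc_e_rc_18_1 lc_e_Cert_tree lc_e_Cert_tree lc_e_rc_18_1 lc_e_rc_13_3 lc_e_rc_27_7 lc_e_rc_18_1 lc_e_rc_27_5 lc_e_rc_18_1 lc_e_Cert_tree lc_e_rc_18_1 lc_e_rc_16_3 lc_e_Cert_tree lc_e_rc_16_3 lc_e_rc_18_1 lc_e_rc_27_7 lc_e_rc_4_3 lc_e_rc_27_1 lc_e_rc_18_1 lc_e_rc_16_5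 lc_e_rc_16_5 lc_e_rc_9_3 lc_e_rc_18_1 lc_e_rc_18_1 lc_e_rc_18_1 lc_e_rc_18_1 lc_e_rc_13_1 lc_e_rc_18_1 lc_e_rc_4_3 lc_e_rc_18_1 lc_e_rc_16_5 lc_e_Cert_tree lc_e_rc_19_2 lc_e_rc_16_5 lc_e_rc_18_1 lc_e_rc_19_0 lc_e_rc_27_7 lc_e_rc_19_4 lc_e_rc_18_1 lc_e_Cert_tree lc_e_rc_18_1 lc_e_rc_18_1 lc_e_rc_4_3 lc_e_rc_19_4 lc_e_rc_27_7 lc_e_rc_18_1 lc_e_rc_16_5 lc_e_rc_27_7 lc_e_rc_18_1 lc_e_rc_18_1 lc_e_Cert_tree lc_e_rc_18_1 lc_e_rc_27_5 lc_e_rc_16_1 lc_e_rc_19_2 lc_e_rc_18_1 lc_e_rc_27_7 lc_e_rc_27_7 lc_e_rc_18_1 lc_e_rc_27_7) (@D3.rec (fun _ => (Cert rels S Gen.e)) lc_e_rc_18_1 lc_e_rc_9_3 lc_e_rc_27_5 lc_e_rc_19_2 lc_e_rc_18_1 lc_e_rc_13_1 lc_e_rc_18_1 lc_e_rc_13_3 lc_e_rc_13_1 lc_e_rc_9_1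 lc_e_rc_13_3 lc_e_rc_18_1 lc_e_rc_18_1 lc_e_Cert_tree lc_e_rc_18_1 lc_e_rc_4_1 lc_e_rc_27_1 lc_e_rc_13_3 lc_e_rc_19_4 lc_e_Cert_tree lc_e_rc_13_1 lc_e_rc_27_1 lc_e_rc_18_1 lc_e_rc_9_3 lc_e_rc_13_3 lc_e_Cert_tree lc_e_rc_18_1 lc_e_rc_16_5 lc_e_rc_27_5 lc_e_rc_18_1 lc_e_rc_18_1 lc_e_rc_18_1 lc_e_rc_19_4 lc_e_rc_16_5 lc_e_rc_18_1 lc_e_rc_18_1 lc_e_rc_27_7 lc_e_rc_16_1 lc_e_rc_19_4 lc_e_rc_18_1 lc_e_rc_18_1 lc_e_Cert_tree lc_e_rc_19_2 lc_e_rc_9_3 lc_e_rc_4_3 lc_e_rc_18_1 lc_e_rc_13_3 lc_e_rc_9_1 lc_e_rc_16_1 lc_e_rc_9_3 lc_e_rc_16_1 lc_e_rc_19_2 lc_e_rc_16_1 lc_e_rc_13_3 lc_e_rc_4_3 lc_e_rc_18_1 lc_e_rc_18_1 lc_e_rc_18_1 lc_e_rc_13_3 lc_e_rc_18_1 lc_e_rc_16_5 lc_e_rc_18_1) (@D3.rec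 (fun _ => (Cert rels S Gen.e)) lc_e_rc_13_1 lc_e_rc_4_1 lc_e_rc_16_1 lc_e_rc_19_2 lc_e_rc_18_1 lc_e_rc_27_5 lc_e_rc_9_3 lc_e_rc_18_1 lc_e_rc_27_5 lc_e_rc_18_1 lc_e_rc_9_3 lc_e_rc_27_5 lc_e_rc_18_1 lc_e_rc_16_5 lc_e_rc_16_3 lc_e_rc_19_4 lc_e_rc_27_1 lc_e_Cert_tree lc_e_rc_9_3 lc_e_rc_18_1 lc_e_rc_27_7 lc_e_rc_16_3 lc_e_rc_19_4 lc_e_rc_16_5 lc_e_rc_18_1 lc_e_rc_18_1 lc_e_rc_18_1 lc_e_rc_9_3 lc_e_rc_18_1 lc_e_rc_18_1 lc_e_rc_18_1 lc_e_rc_19_2 lc_e_rc_18_1 lc_e_rc_18_1 lc_e_rc_18_1 lc_e_rc_4_3 lc_e_rc_16_3 lc_e_rc_18_1 lc_e_rc_13_1 lc_e_rc_18_1 lc_e_rc_19_4 lc_e_rc_18_1 lc_e_rc_18_1 lc_e_rc_27_7 lc_e_rc_13_1 lc_e_rc_18_1 lc_e_rc_27_5 lc_e_rc_27_7 lc_e_rc_9_3 lc_e_rc_19_2 lc_e_rc_18_1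 lc_e_Cert_tree lc_e_rc_19_4 lc_e_rc_18_1 lc_e_rc_9_1 lc_e_rc_16_5 lc_e_rc_18_1 lc_e_rc_9_1 lc_e_rc_19_2 lc_e_rc_27_5 lc_e_rc_13_1 lc_e_rc_9_1) (@D3.rec (fun _ => (Cert rels S Gen.e)) lc_e_rc_18_1 lc_e_Cert_tree lc_e_rc_27_5 lc_e_rc_18_1 lc_e_rc_9_1 lc_e_rc_18_1 lc_e_rc_18_1 lc_e_rc_16_3 lc_e_rc_18_1 lc_e_rc_27_7 lc_e_rc_18_1 lc_e_rc_19_2 lc_e_rc_19_4 lc_e_rc_18_1 lc_e_rc_18_1 lc_e_rc_9_3 lc_e_rc_16_1 lc_e_rc_13_3 lc_e_rc_4_3 lc_e_rc_27_5 lc_e_rc_18_1 lc_e_rc_27_7 lc_e_rc_18_1 lc_e_rc_9_3 lc_e_rc_16_1 lc_e_rc_18_1 lc_e_Cert_tree lc_e_rc_13_3 lc_e_rc_27_7 lc_e_rc_18_1 lc_e_rc_16_1 lc_e_rc_27_1 lc_e_rc_16_3 lc_e_rc_27_5 lc_e_rc_27_1 lc_e_rc_16_3 lc_e_rc_18_1 lc_e_rc_4_3 lc_e_rc_4_3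 lc_e_rc_13_3 lc_e_rc_16_3 lc_e_rc_16_5 lc_e_Cert_tree lc_e_rc_18_1 lc_e_rc_18_1 lc_e_rc_18_1 lc_e_rc_27_5 lc_e_rc_9_1 lc_e_rc_18_1 lc_e_rc_16_1 lc_e_rc_27_5 lc_e_rc_16_1 lc_e_rc_13_3 lc_e_rc_18_1 lc_e_Cert_tree lc_e_Cert_tree lc_e_rc_19_2 lc_e_rc_18_1 lc_e_rc_9_3 lc_e_rc_4_3 lc_e_Cert_tree lc_e_rc_16_1) (@D3.rec (fun _ => (Cert rels S Gen.e)) lc_e_rc_9_1 lc_e_rc_13_3 lc_e_rc_27_1 lc_e_rc_13_3 lc_e_rc_18_1 lc_e_rc_27_5 lc_e_rc_27_5 lc_e_rc_18_1 lc_e_Cert_tree lc_e_rc_27_7 lc_e_rc_18_1 lc_e_Cert_tree lc_e_rc_16_3 lc_e_rc_18_1 lc_e_rc_13_3 lc_e_rc_18_1 lc_e_rc_9_3 lc_e_rc_18_1 lc_e_rc_18_1 lc_e_Cert_tree lc_e_rc_19_4 lc_e_rc_18_1 lc_e_rc_27_5 lc_e_rc_27_5 lc_e_rc_18_1 lc_e_rc_18_1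 lc_e_rc_27_5 lc_e_rc_27_1 lc_e_rc_27_5 lc_e_rc_9_3 lc_e_rc_16_5 lc_e_rc_18_1 lc_e_rc_19_0 lc_e_rc_16_5 lc_e_rc_27_5 lc_e_rc_16_1 lc_e_rc_9_3 lc_e_rc_27_5 lc_e_rc_9_3 lc_e_rc_13_1 lc_e_rc_18_1 lc_e_rc_27_5 lc_e_rc_9_3 lc_e_rc_16_1 lc_e_rc_27_5 lc_e_rc_18_1 lc_e_rc_4_1 lc_e_rc_27_1 lc_e_rc_27_1 lc_e_rc_18_1 lc_e_rc_18_1 lc_e_rc_16_5 lc_e_rc_19_4 lc_e_rc_27_5 lc_e_rc_18_1 lc_e_rc_13_3 lc_e_rc_18_1 lc_e_rc_18_1 lc_e_rc_4_3 lc_e_rc_19_0 lc_e_rc_19_4 lc_e_rc_4_1) (@D3.rec (fun _ => (Cert rels S Gen.e)) lc_e_rc_9_3 lc_e_rc_13_3 lc_e_rc_27_5 lc_e_rc_13_1 lc_e_rc_18_1 lc_e_rc_9_1 lc_e_rc_13_1 lc_e_rc_18_1 lc_e_rc_4_3 lc_e_rc_9_3 lc_e_rc_19_4 lc_e_rc_18_1 lc_e_rc_27_7 lc_e_rc_9_3 lc_e_rc_16_3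 lc_e_rc_13_1 lc_e_rc_13_3 lc_e_rc_27_7 lc_e_rc_16_3 lc_e_rc_4_3 lc_e_Cert_tree lc_e_rc_18_1 lc_e_rc_13_3 lc_e_rc_27_7 lc_e_rc_13_1 lc_e_rc_27_7 lc_e_rc_27_5 lc_e_rc_27_5 lc_e_rc_18_1 lc_e_rc_9_3 lc_e_rc_13_3 lc_e_rc_16_5 lc_e_rc_4_3 lc_e_Cert_tree lc_e_rc_19_4 lc_e_rc_13_3 lc_e_rc_27_7 lc_e_rc_18_1 lc_e_rc_27_1 lc_e_rc_18_1 lc_e_rc_13_3 lc_e_Cert_tree lc_e_rc_18_1 lc_e_rc_18_1 lc_e_rc_18_1 lc_e_rc_18_1 lc_e_rc_19_2 lc_e_rc_18_1 lc_e_rc_16_1 lc_e_rc_9_1 lc_e_rc_16_1 lc_e_rc_19_4 lc_e_rc_13_3 lc_e_rc_13_3 lc_e_rc_16_3 lc_e_Cert_tree lc_e_rc_16_5 lc_e_rc_27_5 lc_e_rc_18_1 lc_e_rc_18_1 lc_e_rc_18_1 lc_e_rc_18_1) (@D3.rec (fun _ => (Cert rels S Gen.e)) lc_e_Cert_tree lc_e_rc_18_1 lc_e_Cert_tree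 lc_e_rc_18_1 lc_e_rc_13_1 lc_e_rc_4_3 lc_e_rc_18_1 lc_e_rc_4_3 lc_e_rc_27_1 lc_e_rc_19_2 lc_e_rc_27_1 lc_e_rc_18_1 lc_e_rc_9_1 lc_e_rc_16_3 lc_e_rc_18_1 lc_e_rc_16_1 lc_e_rc_4_1 lc_e_rc_13_3 lc_e_rc_16_3 lc_e_rc_13_1 lc_e_rc_13_1 lc_e_rc_27_5 lc_e_rc_4_3 lc_e_rc_4_1 lc_e_Cert_tree lc_e_rc_9_3 lc_e_rc_19_2 lc_e_rc_18_1 lc_e_rc_4_1 lc_e_rc_18_1 lc_e_rc_27_7 lc_e_rc_9_3 lc_e_rc_19_0 lc_e_rc_9_1 lc_e_rc_18_1 lc_e_rc_18_1 lc_e_rc_18_1 lc_e_rc_18_1 lc_e_rc_9_3 lc_e_rc_9_3 lc_e_rc_18_1 lc_e_rc_18_1 lc_e_rc_27_7 lc_e_rc_18_1 lc_e_rc_18_1 lc_e_rc_9_3 lc_e_rc_9_1 lc_e_rc_19_4 lc_e_rc_13_3 lc_e_rc_16_1 lc_e_rc_9_3 lc_e_rc_19_0 lc_e_rc_19_4 lc_e_rc_13_3 lc_e_rc_9_3 lc_e_rc_27_7 lc_e_rc_18_1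 lc_e_rc_27_7 lc_e_rc_18_1 lc_e_rc_18_1 lc_e_rc_19_4 lc_e_rc_27_5) (@D3.rec (fun _ => (Cert rels S Gen.e)) lc_e_rc_27_5 lc_e_rc_16_5 lc_e_rc_13_3 lc_e_rc_13_1 lc_e_Cert_tree lc_e_rc_18_1 lc_e_Cert_tree lc_e_rc_18_1 lc_e_rc_13_3 lc_e_rc_27_1 lc_e_rc_19_4 lc_e_rc_18_1 lc_e_rc_13_3 lc_e_rc_27_5 lc_e_rc_19_2 lc_e_rc_19_4 lc_e_rc_18_1 lc_e_rc_13_3 lc_e_rc_9_1 lc_e_rc_16_3 lc_e_rc_18_1 lc_e_rc_9_3 lc_e_rc_9_3 lc_e_rc_18_1 lc_e_rc_19_0 lc_e_rc_4_1 lc_e_rc_16_5 lc_e_Cert_tree lc_e_rc_27_7 lc_e_rc_18_1 lc_e_rc_27_5 lc_e_rc_4_3 lc_e_rc_18_1 lc_e_Cert_tree lc_e_rc_18_1 lc_e_rc_16_1 lc_e_rc_4_3 lc_e_rc_27_7 lc_e_rc_9_3 lc_e_rc_18_1 lc_e_rc_27_7 lc_e_rc_13_1 lc_e_rc_18_1 lc_e_rc_27_7 lc_e_rc_13_3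 lc_e_rc_16_5 lc_e_rc_16_5 lc_e_rc_16_5 lc_e_rc_18_1 lc_e_rc_13_3 lc_e_rc_19_2 lc_e_rc_18_1 lc_e_rc_16_1 lc_e_rc_27_1 lc_e_rc_18_1 lc_e_rc_9_3 lc_e_rc_16_5 lc_e_rc_16_5 lc_e_rc_16_3 lc_e_rc_19_4 lc_e_rc_18_1 lc_e_rc_9_1) (@D3.rec (fun _ => (Cert rels S Gen.e)) lc_e_rc_13_3 lc_e_rc_16_3 lc_e_rc_9_3 lc_e_rc_19_4 lc_e_rc_19_4 lc_e_rc_4_3 lc_e_rc_19_4 lc_e_rc_16_3 lc_e_rc_9_3 lc_e_rc_16_1 lc_e_rc_9_3 lc_e_rc_27_1 lc_e_rc_27_1 lc_e_rc_13_3 lc_e_rc_13_3 lc_e_rc_18_1 lc_e_rc_9_3 lc_e_Cert_tree lc_e_rc_18_1 lc_e_rc_4_3 lc_e_rc_19_2 lc_e_rc_13_3 lc_e_rc_18_1 lc_e_rc_13_1 lc_e_rc_16_3 lc_e_rc_18_1 lc_e_rc_9_3 lc_e_rc_18_1 lc_e_rc_4_3 lc_e_Cert_tree lc_e_rc_18_1 lc_e_rc_16_1 lc_e_Cert_tree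 lc_e_rc_18_1 lc_e_rc_16_1 lc_e_rc_19_4 lc_e_rc_16_5 lc_e_rc_27_7 lc_e_rc_18_1 lc_e_rc_4_1 lc_e_rc_18_1 lc_e_rc_18_1 lc_e_rc_19_2 lc_e_rc_27_1 lc_e_rc_16_3 lc_e_rc_18_1 lc_e_rc_18_1 lc_e_rc_18_1 lc_e_rc_18_1 lc_e_rc_4_1 lc_e_rc_19_2 lc_e_rc_18_1 lc_e_Cert_tree lc_e_Cert_tree lc_e_rc_18_1 lc_e_rc_18_1 lc_e_rc_27_5 lc_e_rc_16_3 lc_e_rc_9_3 lc_e_rc_13_1 lc_e_rc_16_5 lc_e_rc_19_0) (@D3.rec (fun _ => (Cert rels S Gen.e)) lc_e_rc_13_3 lc_e_rc_13_1 lc_e_rc_18_1 lc_e_rc_16_3 lc_e_rc_13_3 lc_e_rc_9_3 lc_e_rc_16_5 lc_e_rc_19_2 lc_e_rc_18_1 lc_e_rc_18_1 lc_e_rc_9_3 lc_e_rc_13_3 lc_e_rc_27_1 lc_e_rc_27_5 lc_e_rc_13_1 lc_e_rc_9_3 lc_e_rc_18_1 lc_e_rc_13_3 lc_e_rc_13_3 lc_e_rc_27_5 lc_e_rc_16_3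 lc_e_Cert_tree lc_e_rc_18_1 lc_e_Cert_tree lc_e_rc_18_1 lc_e_rc_16_5 lc_e_rc_27_1 lc_e_rc_18_1 lc_e_rc_13_1 lc_e_rc_18_1 lc_e_rc_18_1 lc_e_rc_18_1 lc_e_rc_27_1 lc_e_rc_13_3 lc_e_rc_13_1 lc_e_rc_4_3 lc_e_rc_13_1 lc_e_Cert_tree lc_e_rc_18_1 lc_e_Cert_tree lc_e_rc_18_1 lc_e_rc_4_3 lc_e_rc_19_4 lc_e_rc_18_1 lc_e_rc_16_1 lc_e_rc_9_3 lc_e_rc_13_3 lc_e_rc_13_3 lc_e_rc_18_1 lc_e_rc_16_3 lc_e_rc_13_3 lc_e_rc_18_1 lc_e_rc_13_3 lc_e_rc_13_1 lc_e_rc_18_1 lc_e_rc_13_3 lc_e_rc_9_3 lc_e_rc_27_5 lc_e_rc_13_3 lc_e_rc_9_1 lc_e_rc_18_1 lc_e_rc_16_3) (@D3.rec (fun _ => (Cert rels S Gen.e)) lc_e_rc_4_1 lc_e_rc_13_3 lc_e_rc_18_1 lc_e_rc_27_1 lc_e_rc_19_4 lc_e_rc_13_1 lc_e_rc_18_1 lc_e_rc_13_1 lc_e_rc_27_5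 lc_e_rc_18_1 lc_e_rc_27_5 lc_e_rc_18_1 lc_e_rc_18_1 lc_e_Cert_tree lc_e_rc_27_7 lc_e_rc_18_1 lc_e_rc_18_1 lc_e_rc_18_1 lc_e_rc_16_1 lc_e_rc_19_4 lc_e_rc_16_5 lc_e_rc_9_1 lc_e_rc_16_1 lc_e_rc_16_3 lc_e_rc_9_3 lc_e_rc_18_1 lc_e_rc_27_5 lc_e_rc_9_3 lc_e_rc_18_1 lc_e_rc_16_5 lc_e_rc_9_3 lc_e_rc_16_1 lc_e_rc_19_4 lc_e_rc_9_3 lc_e_rc_4_3 lc_e_rc_18_1 lc_e_rc_27_5 lc_e_rc_18_1 lc_e_rc_16_5 lc_e_rc_16_1 lc_e_rc_13_3 lc_e_rc_27_1 lc_e_rc_13_3 lc_e_Cert_tree lc_e_rc_18_1 lc_e_rc_13_1 lc_e_rc_16_5 lc_e_rc_16_3 lc_e_rc_18_1 lc_e_rc_13_3 lc_e_rc_13_3 lc_e_rc_4_1 lc_e_rc_9_3 lc_e_rc_9_3 lc_e_rc_27_1 lc_e_rc_13_3 lc_e_rc_16_3 lc_e_rc_27_5 lc_e_rc_18_1 lc_e_rc_9_1 lc_e_Cert_tree lc_e_rc_18_1)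 (@D3.rec (fun _ => (Cert rels S Gen.e)) lc_e_rc_18_1 lc_e_rc_27_7 lc_e_rc_4_3 lc_e_rc_27_1 lc_e_rc_19_4 lc_e_rc_4_1 lc_e_rc_18_1 lc_e_rc_27_7 lc_e_rc_13_3 lc_e_rc_18_1 lc_e_rc_18_1 lc_e_rc_4_1 lc_e_rc_16_1 lc_e_rc_27_1 lc_e_rc_13_3 lc_e_rc_18_1 lc_e_rc_4_3 lc_e_rc_13_1 lc_e_rc_18_1 lc_e_rc_4_1 lc_e_rc_27_1 lc_e_rc_18_1 lc_e_rc_27_5 lc_e_rc_27_5 lc_e_rc_13_3 lc_e_rc_13_1 lc_e_rc_13_1 lc_e_rc_18_1 lc_e_rc_4_3 lc_e_rc_18_1 lc_e_rc_13_3 lc_e_rc_18_1 lc_e_rc_13_1 lc_e_rc_18_1 lc_e_rc_18_1 lc_e_rc_4_3 lc_e_rc_19_4 lc_e_rc_13_3 lc_e_rc_13_3 lc_e_rc_19_0 lc_e_rc_13_3 lc_e_rc_16_5 lc_e_rc_13_3 lc_e_rc_18_1 lc_e_Cert_tree lc_e_rc_18_1 lc_e_rc_16_5 lc_e_rc_27_7 lc_e_rc_18_1 lc_e_rc_18_1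 lc_e_rc_9_1 lc_e_rc_16_1 lc_e_rc_19_2 lc_e_rc_16_1 lc_e_rc_18_1 lc_e_rc_18_1 lc_e_rc_19_4 lc_e_rc_18_1 lc_e_rc_9_3 lc_e_rc_4_3 lc_e_rc_19_2 lc_e_rc_16_3) (@D3.rec (fun _ => (Cert rels S Gen.e)) lc_e_rc_18_1 lc_e_rc_27_1 lc_e_rc_18_1 lc_e_Cert_tree lc_e_rc_27_5 lc_e_rc_9_1 lc_e_rc_16_5 lc_e_rc_19_0 lc_e_rc_16_5 lc_e_rc_13_3 lc_e_rc_27_5 lc_e_rc_19_4 lc_e_rc_13_3 lc_e_rc_13_1 lc_e_rc_4_3 lc_e_rc_13_3 lc_e_rc_13_1 lc_e_rc_13_3 lc_e_rc_18_1 lc_e_rc_18_1 lc_e_rc_18_1 lc_e_rc_16_3 lc_e_rc_16_5 lc_e_rc_27_5 lc_e_rc_18_1 lc_e_rc_13_3 lc_e_rc_9_3 lc_e_rc_13_3 lc_e_rc_9_3 lc_e_rc_18_1 lc_e_rc_16_5 lc_e_rc_18_1 lc_e_rc_13_1 lc_e_rc_18_1 lc_e_rc_18_1 lc_e_Cert_tree lc_e_rc_18_1 lc_e_rc_27_1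 lc_e_rc_16_3 lc_e_rc_13_1 lc_e_rc_18_1 lc_e_rc_27_1 lc_e_rc_16_3 lc_e_rc_9_1 lc_e_rc_18_1 lc_e_rc_13_3 lc_e_rc_16_5 lc_e_rc_16_5 lc_e_rc_27_1 lc_e_rc_9_3 lc_e_rc_27_1 lc_e_rc_18_1 lc_e_rc_27_5 lc_e_rc_27_1 lc_e_rc_13_3 lc_e_rc_16_3 lc_e_rc_13_3 lc_e_rc_9_3 lc_e_rc_16_3 lc_e_rc_9_3 lc_e_rc_27_5 lc_e_rc_27_7)
def ce_e_26 : D2 → D3 → (Cert rels S Gen.e) := @D2.rec (fun _ => D3 → (Cert rels S Gen.e)) (@D3.rec (fun _ => (Cert rels S Gen.e)) lc_e_rc_27_5 lc_e_rc_9_1 lc_e_rc_18_1 lc_e_rc_18_1 lc_e_rc_9_3 lc_e_rc_13_3 lc_e_rc_13_3 lc_e_rc_18_1 lc_e_rc_27_5 lc_e_rc_18_1 lc_e_rc_18_1 lc_e_rc_18_1 lc_e_rc_27_5 lc_e_rc_18_1 lc_e_rc_4_3 lc_e_rc_13_3 lc_e_rc_18_1 lc_e_rc_27_1 lc_e_rc_19_2 lc_e_rc_13_1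 lc_e_rc_16_3 lc_e_rc_16_1 lc_e_rc_18_1 lc_e_rc_13_3 lc_e_rc_4_1 lc_e_rc_16_5 lc_e_rc_13_3 lc_e_rc_9_3 lc_e_rc_13_1 lc_e_rc_18_1 lc_e_rc_9_3 lc_e_rc_18_1 lc_e_rc_16_5 lc_e_rc_13_3 lc_e_rc_18_1 lc_e_rc_18_1 lc_e_rc_18_1 lc_e_rc_27_5 lc_e_rc_27_5 lc_e_rc_9_1 lc_e_rc_18_1 lc_e_rc_13_3 lc_e_rc_9_3 lc_e_rc_4_3 lc_e_rc_16_3 lc_e_rc_16_5 lc_e_rc_18_1 lc_e_rc_18_1 lc_e_rc_27_5 lc_e_rc_9_3 lc_e_rc_27_5 lc_e_rc_9_1 lc_e_rc_18_1 lc_e_rc_9_1 lc_e_rc_19_4 lc_e_rc_13_3 lc_e_rc_27_5 lc_e_rc_4_3 lc_e_rc_18_1 lc_e_rc_18_1 lc_e_rc_27_1 lc_e_rc_16_3) (@D3.rec (fun _ => (Cert rels S Gen.e)) lc_e_rc_9_3 lc_e_rc_9_3 lc_e_rc_9_3 lc_e_rc_16_3 lc_e_rc_9_3 lc_e_rc_18_1 lc_e_rc_18_1 lc_e_rc_18_1 lc_e_rc_18_1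 lc_e_Cert_tree lc_e_rc_27_5 lc_e_rc_27_5 lc_e_rc_19_4 lc_e_rc_19_4 lc_e_rc_19_0 lc_e_rc_9_3 lc_e_rc_13_3 lc_e_rc_27_5 lc_e_rc_16_3 lc_e_rc_16_5 lc_e_rc_18_1 lc_e_rc_16_3 lc_e_rc_18_1 lc_e_rc_4_1 lc_e_rc_27_1 lc_e_rc_27_1 lc_e_Cert_tree lc_e_rc_18_1 lc_e_rc_4_3 lc_e_rc_16_1 lc_e_rc_19_4 lc_e_rc_9_1 lc_e_rc_19_4 lc_e_rc_27_7 lc_e_rc_27_7 lc_e_rc_18_1 lc_e_rc_18_1 lc_e_rc_19_4 lc_e_rc_19_4 lc_e_rc_27_5 lc_e_rc_16_3 lc_e_rc_9_3 lc_e_rc_18_1 lc_e_rc_9_3 lc_e_rc_18_1 lc_e_rc_27_5 lc_e_rc_4_3 lc_e_rc_13_3 lc_e_rc_4_3 lc_e_rc_18_1 lc_e_rc_9_3 lc_e_rc_13_3 lc_e_rc_13_1 lc_e_rc_9_3 lc_e_rc_4_3 lc_e_rc_16_5 lc_e_rc_18_1 lc_e_rc_19_4 lc_e_rc_19_2 lc_e_rc_13_3 lc_e_rc_27_1 lc_e_rc_18_1) (@D3.rec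 (fun _ => (Cert rels S Gen.e)) lc_e_Cert_tree lc_e_rc_16_3 lc_e_rc_19_4 lc_e_rc_18_1 lc_e_rc_9_3 lc_e_rc_13_3 lc_e_rc_13_3 lc_e_rc_19_4 lc_e_rc_19_0 lc_e_rc_18_1 lc_e_rc_16_1 lc_e_rc_9_3 lc_e_rc_27_5 lc_e_rc_13_3 lc_e_rc_13_3 lc_e_rc_18_1 lc_e_rc_18_1 lc_e_rc_16_5 lc_e_rc_27_7 lc_e_rc_18_1 lc_e_rc_27_7 lc_e_rc_18_1 lc_e_rc_16_5 lc_e_rc_18_1 lc_e_rc_16_3 lc_e_rc_18_1 lc_e_rc_13_3 lc_e_rc_16_1 lc_e_rc_9_1 lc_e_rc_9_3 lc_e_rc_27_1 lc_e_rc_13_3 lc_e_rc_18_1 lc_e_rc_27_5 lc_e_rc_16_5 lc_e_rc_9_3 lc_e_rc_18_1 lc_e_rc_19_2 lc_e_rc_13_3 lc_e_rc_16_5 lc_e_rc_9_3 lc_e_rc_13_3 lc_e_Cert_tree lc_e_rc_18_1 lc_e_rc_18_1 lc_e_rc_13_3 lc_e_rc_19_4 lc_e_rc_27_1 lc_e_rc_9_3 lc_e_rc_9_1 lc_e_rc_13_3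 lc_e_rc_18_1 lc_e_rc_27_5 lc_e_rc_9_3 lc_e_rc_4_3 lc_e_rc_18_1 lc_e_rc_27_1 lc_e_rc_16_1 lc_e_rc_4_3 lc_e_rc_27_7 lc_e_rc_18_1 lc_e_rc_4_1) (@D3.rec (fun _ => (Cert rels S Gen.e)) lc_e_rc_4_1 lc_e_rc_16_5 lc_e_rc_16_1 lc_e_rc_16_1 lc_e_rc_19_4 lc_e_rc_13_1 lc_e_rc_13_3 lc_e_rc_18_1 lc_e_rc_27_7 lc_e_rc_18_1 lc_e_rc_27_1 lc_e_rc_16_5 lc_e_rc_27_5 lc_e_rc_16_3 lc_e_rc_16_5 lc_e_rc_13_3 lc_e_rc_9_3 lc_e_rc_13_3 lc_e_rc_18_1 lc_e_Cert_tree lc_e_rc_19_4 lc_e_rc_27_7 lc_e_rc_18_1 lc_e_rc_27_5 lc_e_rc_18_1 lc_e_rc_18_1 lc_e_rc_13_3 lc_e_rc_19_4 lc_e_rc_18_1 lc_e_rc_4_3 lc_e_rc_16_3 lc_e_rc_16_5 lc_e_rc_18_1 lc_e_rc_13_3 lc_e_rc_16_5 lc_e_rc_18_1 lc_e_rc_19_4 lc_e_rc_27_7 lc_e_rc_16_3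 lc_e_rc_19_2 lc_e_rc_9_3 lc_e_rc_16_5 lc_e_rc_13_3 lc_e_rc_18_1 lc_e_rc_18_1 lc_e_rc_16_1 lc_e_rc_19_2 lc_e_rc_18_1 lc_e_rc_4_1 lc_e_rc_18_1 lc_e_rc_9_3 lc_e_rc_9_3 lc_e_rc_16_5 lc_e_rc_13_3 lc_e_rc_27_5 lc_e_rc_16_5 lc_e_rc_16_5 lc_e_rc_16_5 lc_e_rc_18_1 lc_e_rc_4_3 lc_e_rc_13_3 lc_e_rc_16_5) (@D3.rec (fun _ => (Cert rels S Gen.e)) lc_e_rc_13_3 lc_e_rc_16_3 lc_e_rc_19_2 lc_e_rc_16_1 lc_e_rc_13_3 lc_e_rc_19_4 lc_e_rc_13_3 lc_e_rc_27_5 lc_e_rc_19_2 lc_e_rc_18_1 lc_e_rc_18_1 lc_e_rc_18_1 lc_e_rc_13_3 lc_e_rc_9_3 lc_e_rc_18_1 lc_e_rc_4_1 lc_e_rc_9_3 lc_e_rc_18_1 lc_e_rc_9_1 lc_e_Cert_tree lc_e_rc_18_1 lc_e_rc_27_5 lc_e_rc_18_1 lc_e_rc_9_3 lc_e_rc_13_3 lc_e_rc_4_3 lc_e_rc_9_1 lc_e_Cert_tree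 lc_e_rc_18_1 lc_e_rc_18_1 lc_e_rc_9_3 lc_e_rc_27_5 lc_e_rc_18_1 lc_e_rc_19_2 lc_e_rc_16_1 lc_e_rc_19_4 lc_e_rc_27_5 lc_e_rc_27_5 lc_e_rc_13_3 lc_e_rc_4_3 lc_e_rc_18_1 lc_e_Cert_tree lc_e_Cert_tree lc_e_Cert_tree lc_e_rc_27_5 lc_e_rc_18_1 lc_e_rc_4_3 lc_e_rc_16_3 lc_e_rc_19_4 lc_e_rc_4_3 lc_e_rc_18_1 lc_e_rc_16_3 lc_e_rc_18_1 lc_e_rc_27_7 lc_e_rc_19_2 lc_e_rc_9_3 lc_e_rc_4_1 lc_e_rc_13_3 lc_e_rc_13_1 lc_e_rc_27_5 lc_e_rc_18_1 lc_e_rc_13_3) (@D3.rec (fun _ => (Cert rels S Gen.e)) lc_e_rc_16_5 lc_e_rc_18_1 lc_e_rc_9_3 lc_e_rc_4_3 lc_e_rc_9_3 lc_e_rc_9_1 lc_e_rc_18_1 lc_e_rc_9_3 lc_e_rc_19_2 lc_e_rc_27_5 lc_e_rc_27_1 lc_e_rc_13_1 lc_e_rc_4_3 lc_e_rc_18_1 lc_e_rc_16_1 lc_e_rc_19_4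 lc_e_rc_27_1 lc_e_rc_16_3 lc_e_rc_18_1 lc_e_rc_18_1 lc_e_rc_27_7 lc_e_rc_19_4 lc_e_rc_16_3 lc_e_rc_13_1 lc_e_rc_9_3 lc_e_rc_4_3 lc_e_rc_18_1 lc_e_rc_13_1 lc_e_rc_27_7 lc_e_rc_9_3 lc_e_rc_19_4 lc_e_rc_27_5 lc_e_rc_18_1 lc_e_rc_16_5 lc_e_rc_16_1 lc_e_rc_19_4 lc_e_rc_27_5 lc_e_rc_13_3 lc_e_rc_18_1 lc_e_rc_16_5 lc_e_rc_18_1 lc_e_rc_18_1 lc_e_rc_27_5 lc_e_rc_19_4 lc_e_rc_27_7 lc_e_rc_4_3 lc_e_rc_4_3 lc_e_rc_9_3 lc_e_rc_19_4 lc_e_rc_9_3 lc_e_rc_16_5 lc_e_rc_27_5 lc_e_rc_9_1 lc_e_rc_27_1 lc_e_rc_18_1 lc_e_rc_18_1 lc_e_rc_27_1 lc_e_rc_19_2 lc_e_rc_27_7 lc_e_rc_27_1 lc_e_rc_13_3 lc_e_rc_13_3) (@D3.rec (fun _ => (Cert rels S Gen.e)) lc_e_rc_19_4 lc_e_rc_4_3 lc_e_rc_9_3 lc_e_rc_18_1 lc_e_rc_9_3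 lc_e_rc_18_1 lc_e_rc_9_3 lc_e_rc_27_1 lc_e_Cert_tree lc_e_rc_13_3 lc_e_rc_18_1 lc_e_Cert_tree lc_e_rc_18_1 lc_e_rc_9_3 lc_e_rc_16_3 lc_e_rc_9_1 lc_e_Cert_tree lc_e_Cert_tree lc_e_rc_9_3 lc_e_rc_18_1 lc_e_rc_18_1 lc_e_rc_27_1 lc_e_rc_19_4 lc_e_rc_18_1 lc_e_rc_16_3 lc_e_rc_13_3 lc_e_rc_4_3 lc_e_Cert_tree lc_e_rc_13_1 lc_e_rc_18_1 lc_e_rc_13_3 lc_e_rc_19_4 lc_e_rc_9_3 lc_e_rc_18_1 lc_e_rc_13_3 lc_e_rc_27_1 lc_e_Cert_tree lc_e_rc_13_1 lc_e_rc_18_1 lc_e_rc_19_2 lc_e_rc_18_1 lc_e_rc_27_1 lc_e_rc_13_1 lc_e_rc_27_5 lc_e_Cert_tree lc_e_rc_27_7 lc_e_rc_16_3 lc_e_rc_13_3 lc_e_rc_19_4 lc_e_rc_18_1 lc_e_Cert_tree lc_e_rc_18_1 lc_e_rc_9_1 lc_e_rc_13_1 lc_e_rc_18_1 lc_e_rc_27_1 lc_e_rc_27_7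 lc_e_rc_13_1 lc_e_rc_18_1 lc_e_rc_4_3 lc_e_rc_27_1 lc_e_rc_16_1) (@D3.rec (fun _ => (Cert rels S Gen.e)) lc_e_rc_19_2 lc_e_rc_13_3 lc_e_rc_13_3 lc_e_rc_13_3 lc_e_rc_9_1 lc_e_rc_18_1 lc_e_rc_19_2 lc_e_rc_18_1 lc_e_rc_13_3 lc_e_rc_18_1 lc_e_rc_18_1 lc_e_rc_27_1 lc_e_rc_18_1 lc_e_rc_19_4 lc_e_rc_27_5 lc_e_rc_18_1 lc_e_rc_4_1 lc_e_rc_18_1 lc_e_rc_16_3 lc_e_rc_16_3 lc_e_rc_19_2 lc_e_rc_18_1 lc_e_rc_18_1 lc_e_rc_19_4 lc_e_rc_18_1 lc_e_rc_13_1 lc_e_rc_18_1 lc_e_rc_19_4 lc_e_rc_4_3 lc_e_rc_19_4 lc_e_rc_18_1 lc_e_rc_16_3 lc_e_rc_4_1 lc_e_rc_16_5 lc_e_rc_13_3 lc_e_rc_18_1 lc_e_rc_18_1 lc_e_rc_27_1 lc_e_rc_9_3 lc_e_rc_18_1 lc_e_rc_27_5 lc_e_rc_19_4 lc_e_rc_18_1 lc_e_rc_13_3 lc_e_rc_18_1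 lc_e_rc_18_1 lc_e_rc_18_1 lc_e_rc_27_5 lc_e_rc_19_2 lc_e_rc_18_1 lc_e_rc_18_1 lc_e_rc_27_7 lc_e_rc_4_1 lc_e_rc_18_1 lc_e_rc_9_1 lc_e_rc_4_3 lc_e_rc_9_1 lc_e_rc_18_1 lc_e_rc_16_5 lc_e_rc_9_3 lc_e_rc_19_2 lc_e_rc_9_3) (@D3.rec (fun _ => (Cert rels S Gen.e)) lc_e_rc_16_5 lc_e_rc_18_1 lc_e_rc_16_1 lc_e_rc_19_4 lc_e_rc_13_1 lc_e_rc_9_1 lc_e_rc_18_1 lc_e_rc_13_1 lc_e_rc_4_3 lc_e_rc_18_1 lc_e_rc_27_5 lc_e_rc_18_1 lc_e_rc_4_1 lc_e_rc_18_1 lc_e_rc_13_1 lc_e_rc_9_1 lc_e_rc_27_7 lc_e_rc_18_1 lc_e_rc_16_3 lc_e_rc_4_3 lc_e_rc_16_3 lc_e_rc_18_1 lc_e_rc_18_1 lc_e_rc_16_5 lc_e_rc_18_1 lc_e_rc_16_5 lc_e_rc_13_3 lc_e_rc_18_1 lc_e_rc_9_3 lc_e_rc_16_5 lc_e_rc_4_3 lc_e_rc_16_1 lc_e_rc_4_3 lc_e_rc_18_1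 lc_e_rc_18_1 lc_e_rc_27_7 lc_e_rc_4_3 lc_e_rc_18_1 lc_e_rc_9_3 lc_e_rc_18_1 lc_e_rc_18_1 lc_e_rc_18_1 lc_e_rc_9_1 lc_e_rc_9_1 lc_e_Cert_tree lc_e_rc_18_1 lc_e_rc_18_1 lc_e_rc_13_3 lc_e_rc_9_3 lc_e_Cert_tree lc_e_Cert_tree lc_e_rc_18_1 lc_e_rc_18_1 lc_e_rc_27_1 lc_e_rc_27_1 lc_e_rc_13_3 lc_e_rc_18_1 lc_e_rc_27_5 lc_e_rc_18_1 lc_e_rc_27_1 lc_e_rc_19_4 lc_e_rc_16_3) (@D3.rec (fun _ => (Cert rels S Gen.e)) lc_e_rc_18_1 lc_e_rc_27_7 lc_e_rc_18_1 lc_e_rc_9_1 lc_e_rc_18_1 lc_e_rc_27_5 lc_e_rc_27_1 lc_e_rc_27_5 lc_e_rc_9_1 lc_e_rc_27_7 lc_e_rc_18_1 lc_e_rc_18_1 lc_e_rc_19_4 lc_e_rc_16_5 lc_e_Cert_tree lc_e_rc_18_1 lc_e_rc_16_3 lc_e_rc_18_1 lc_e_rc_4_1 lc_e_rc_4_3 lc_e_rc_18_1 lc_e_rc_27_1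 lc_e_rc_18_1 lc_e_rc_9_3 lc_e_rc_18_1 lc_e_rc_27_5 lc_e_rc_16_1 lc_e_rc_4_3 lc_e_rc_16_5 lc_e_rc_13_3 lc_e_rc_13_3 lc_e_rc_19_2 lc_e_rc_18_1 lc_e_Cert_tree lc_e_rc_4_3 lc_e_rc_18_1 lc_e_Cert_tree lc_e_rc_27_7 lc_e_rc_27_5 lc_e_rc_18_1 lc_e_rc_13_3 lc_e_rc_27_5 lc_e_rc_18_1 lc_e_Cert_tree lc_e_rc_4_3 lc_e_rc_13_1 lc_e_rc_18_1 lc_e_rc_18_1 lc_e_Cert_tree lc_e_rc_19_2 lc_e_rc_18_1 lc_e_rc_27_5 lc_e_rc_18_1 lc_e_rc_19_4 lc_e_rc_18_1 lc_e_rc_16_5 lc_e_rc_27_1 lc_e_rc_18_1 lc_e_rc_13_3 lc_e_rc_18_1 lc_e_rc_27_5 lc_e_rc_13_1) (@D3.rec (fun _ => (Cert rels S Gen.e)) lc_e_rc_18_1 lc_e_rc_27_1 lc_e_rc_27_5 lc_e_rc_16_1 lc_e_rc_19_2 lc_e_rc_18_1 lc_e_rc_13_1 lc_e_rc_18_1 lc_e_rc_18_1 lc_e_rc_18_1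 lc_e_rc_27_5 lc_e_rc_27_5 lc_e_rc_13_3 lc_e_rc_9_3 lc_e_rc_13_3 lc_e_rc_18_1 lc_e_rc_27_5 lc_e_rc_4_1 lc_e_rc_13_3 lc_e_rc_13_1 lc_e_rc_13_1 lc_e_rc_13_3 lc_e_rc_13_3 lc_e_rc_13_3 lc_e_rc_13_3 lc_e_rc_27_5 lc_e_rc_18_1 lc_e_rc_18_1 lc_e_rc_13_3 lc_e_rc_9_3 lc_e_rc_9_3 lc_e_rc_16_3 lc_e_rc_27_5 lc_e_rc_18_1 lc_e_rc_13_1 lc_e_rc_18_1 lc_e_rc_27_1 lc_e_rc_19_2 lc_e_rc_27_1 lc_e_rc_9_3 lc_e_rc_16_5 lc_e_rc_13_1 lc_e_rc_27_1 lc_e_rc_16_1 lc_e_rc_4_3 lc_e_rc_13_3 lc_e_rc_9_1 lc_e_rc_13_3 lc_e_rc_13_3 lc_e_rc_13_3 lc_e_rc_18_1 lc_e_Cert_tree lc_e_rc_18_1 lc_e_rc_16_1 lc_e_rc_18_1 lc_e_rc_13_3 lc_e_rc_16_5 lc_e_rc_9_3 lc_e_rc_9_3 lc_e_rc_18_1 lc_e_rc_4_3 lc_e_rc_18_1) (@D3.rec (fun _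 => (Cert rels S Gen.e)) lc_e_rc_18_1 lc_e_rc_16_3 lc_e_rc_19_2 lc_e_rc_13_3 lc_e_rc_16_5 lc_e_rc_18_1 lc_e_rc_13_3 lc_e_rc_13_3 lc_e_rc_13_3 lc_e_rc_9_3 lc_e_rc_16_5 lc_e_rc_9_3 lc_e_rc_13_1 lc_e_rc_16_1 lc_e_rc_13_1 lc_e_rc_27_7 lc_e_rc_18_1 lc_e_rc_27_5 lc_e_rc_16_5 lc_e_rc_18_1 lc_e_rc_27_1 lc_e_rc_18_1 lc_e_rc_16_3 lc_e_Cert_tree lc_e_rc_9_1 lc_e_rc_13_1 lc_e_rc_18_1 lc_e_rc_18_1 lc_e_rc_13_3 lc_e_rc_18_1 lc_e_rc_13_3 lc_e_rc_19_4 lc_e_rc_27_5 lc_e_rc_18_1 lc_e_rc_27_7 lc_e_rc_18_1 lc_e_rc_13_3 lc_e_rc_18_1 lc_e_rc_27_7 lc_e_rc_16_3 lc_e_rc_13_3 lc_e_rc_16_3 lc_e_rc_16_5 lc_e_rc_18_1 lc_e_rc_18_1 lc_e_rc_4_1 lc_e_rc_18_1 lc_e_rc_27_5 lc_e_Cert_tree lc_e_rc_13_3 lc_e_Cert_tree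 lc_e_rc_18_1 lc_e_Cert_tree lc_e_rc_18_1 lc_e_rc_9_3 lc_e_rc_16_5 lc_e_rc_9_3 lc_e_rc_16_5 lc_e_Cert_tree lc_e_rc_9_3 lc_e_rc_18_1 lc_e_rc_9_1) (@D3.rec (fun _ => (Cert rels S Gen.e)) lc_e_rc_16_3 lc_e_rc_4_3 lc_e_rc_18_1 lc_e_rc_16_5 lc_e_rc_9_1 lc_e_rc_16_5 lc_e_rc_4_3 lc_e_rc_16_3 lc_e_rc_19_4 lc_e_rc_9_1 lc_e_rc_27_1 lc_e_rc_18_1 lc_e_rc_27_5 lc_e_rc_18_1 lc_e_rc_13_3 lc_e_rc_27_5 lc_e_rc_18_1 lc_e_rc_4_3 lc_e_rc_13_3 lc_e_rc_27_7 lc_e_rc_13_3 lc_e_rc_13_3 lc_e_rc_9_3 lc_e_rc_18_1 lc_e_rc_18_1 lc_e_rc_13_3 lc_e_rc_19_4 lc_e_rc_13_3 lc_e_rc_13_3 lc_e_rc_13_3 lc_e_rc_18_1 lc_e_rc_9_3 lc_e_rc_13_3 lc_e_rc_18_1 lc_e_rc_16_3 lc_e_rc_19_4 lc_e_rc_16_5 lc_e_rc_18_1 lc_e_rc_27_1 lc_e_rc_4_3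 lc_e_rc_19_4 lc_e_rc_16_5 lc_e_rc_16_5 lc_e_rc_18_1 lc_e_rc_18_1 lc_e_rc_13_3 lc_e_rc_19_2 lc_e_rc_9_3 lc_e_rc_4_3 lc_e_rc_9_1 lc_e_Cert_tree lc_e_rc_16_3 lc_e_rc_18_1 lc_e_rc_18_1 lc_e_rc_9_3 lc_e_rc_9_1 lc_e_rc_18_1 lc_e_rc_16_3 lc_e_rc_27_1 lc_e_rc_18_1 lc_e_rc_9_1 lc_e_rc_27_7) (@D3.rec (fun _ => (Cert rels S Gen.e)) lc_e_rc_18_1 lc_e_rc_16_3 lc_e_rc_18_1 lc_e_rc_27_1 lc_e_rc_18_1 lc_e_rc_27_7 lc_e_rc_9_3 lc_e_rc_13_3 lc_e_rc_18_1 lc_e_rc_13_3 lc_e_rc_4_3 lc_e_rc_18_1 lc_e_rc_27_5 lc_e_rc_16_1 lc_e_rc_9_1 lc_e_rc_13_3 lc_e_rc_4_3 lc_e_rc_18_1 lc_e_rc_27_5 lc_e_rc_4_1 lc_e_rc_18_1 lc_e_rc_9_3 lc_e_rc_16_5 lc_e_rc_16_1 lc_e_rc_19_4 lc_e_rc_27_5 lc_e_rc_13_1 lc_e_rc_9_1 lc_e_rc_18_1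 lc_e_rc_19_0 lc_e_rc_13_3 lc_e_rc_18_1 lc_e_rc_18_1 lc_e_rc_13_3 lc_e_rc_16_3 lc_e_rc_16_5 lc_e_rc_27_7 lc_e_rc_27_7 lc_e_rc_18_1 lc_e_rc_16_5 lc_e_Cert_tree lc_e_rc_13_3 lc_e_rc_16_3 lc_e_Cert_tree lc_e_Cert_tree lc_e_rc_18_1 lc_e_rc_4_1 lc_e_Cert_tree lc_e_rc_18_1 lc_e_rc_9_3 lc_e_rc_27_5 lc_e_rc_27_7 lc_e_rc_18_1 lc_e_rc_13_1 lc_e_rc_13_3 lc_e_Cert_tree lc_e_rc_18_1 lc_e_rc_16_5 lc_e_Cert_tree lc_e_rc_18_1 lc_e_rc_16_5 lc_e_rc_27_5) (@D3.rec (fun _ => (Cert rels S Gen.e)) lc_e_rc_16_1 lc_e_rc_9_3 lc_e_rc_9_3 lc_e_rc_13_3 lc_e_rc_16_1 lc_e_rc_13_1 lc_e_rc_18_1 lc_e_rc_13_3 lc_e_rc_9_3 lc_e_rc_27_5 lc_e_rc_9_1 lc_e_rc_27_7 lc_e_rc_27_7 lc_e_rc_18_1 lc_e_rc_9_1 lc_e_rc_18_1 lc_e_rc_13_3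 lc_e_rc_16_3 lc_e_rc_27_7 lc_e_rc_13_3 lc_e_rc_18_1 lc_e_rc_27_5 lc_e_rc_18_1 lc_e_rc_16_1 lc_e_rc_9_1 lc_e_rc_16_3 lc_e_rc_13_1 lc_e_rc_18_1 lc_e_rc_9_3 lc_e_rc_16_3 lc_e_rc_18_1 lc_e_rc_9_1 lc_e_rc_18_1 lc_e_rc_18_1 lc_e_rc_9_3 lc_e_rc_16_3 lc_e_rc_4_3 lc_e_rc_13_1 lc_e_rc_18_1 lc_e_Cert_tree lc_e_rc_18_1 lc_e_rc_19_0 lc_e_rc_13_3 lc_e_rc_13_3 lc_e_rc_13_3 lc_e_rc_16_5 lc_e_rc_19_4 lc_e_rc_18_1 lc_e_rc_16_1 lc_e_rc_19_4 lc_e_rc_18_1 lc_e_rc_9_1 lc_e_rc_4_3 lc_e_rc_13_1 lc_e_rc_9_1 lc_e_rc_18_1 lc_e_rc_18_1 lc_e_rc_4_3 lc_e_Cert_tree lc_e_rc_9_3 lc_e_rc_18_1 lc_e_rc_18_1) (@D3.rec (fun _ => (Cert rels S Gen.e)) lc_e_rc_27_1 lc_e_rc_19_0 lc_e_rc_13_3 lc_e_rc_19_0 lc_e_rc_16_5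 lc_e_rc_18_1 lc_e_rc_4_3 lc_e_rc_27_5 lc_e_rc_19_2 lc_e_rc_18_1 lc_e_rc_13_3 lc_e_rc_18_1 lc_e_rc_18_1 lc_e_rc_18_1 lc_e_rc_27_7 lc_e_rc_18_1 lc_e_rc_4_1 lc_e_rc_18_1 lc_e_rc_19_4 lc_e_rc_9_3 lc_e_rc_18_1 lc_e_rc_18_1 lc_e_Cert_tree lc_e_rc_18_1 lc_e_rc_16_5 lc_e_rc_18_1 lc_e_rc_18_1 lc_e_rc_27_5 lc_e_rc_16_3 lc_e_rc_9_1 lc_e_rc_27_5 lc_e_rc_16_5 lc_e_rc_18_1 lc_e_rc_16_3 lc_e_Cert_tree lc_e_rc_18_1 lc_e_rc_16_1 lc_e_rc_16_3 lc_e_rc_16_5 lc_e_Cert_tree lc_e_Cert_tree lc_e_rc_9_3 lc_e_rc_18_1 lc_e_rc_4_1 lc_e_rc_18_1 lc_e_rc_16_5 lc_e_rc_9_1 lc_e_rc_18_1 lc_e_rc_27_7 lc_e_rc_9_3 lc_e_rc_4_3 lc_e_rc_18_1 lc_e_rc_27_1 lc_e_rc_27_7 lc_e_rc_27_1 lc_e_rc_27_1 lc_e_rc_16_5 lc_e_rc_19_4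 lc_e_rc_27_5 lc_e_rc_13_3 lc_e_rc_13_3 lc_e_rc_4_1) (@D3.rec (fun _ => (Cert rels S Gen.e)) lc_e_rc_27_5 lc_e_rc_13_3 lc_e_rc_9_3 lc_e_rc_27_1 lc_e_rc_27_7 lc_e_rc_9_3 lc_e_rc_13_3 lc_e_rc_9_3 lc_e_rc_13_3 lc_e_rc_13_1 lc_e_rc_18_1 lc_e_rc_27_5 lc_e_rc_9_3 lc_e_rc_18_1 lc_e_rc_18_1 lc_e_rc_19_4 lc_e_rc_27_7 lc_e_Cert_tree lc_e_Cert_tree lc_e_rc_9_3 lc_e_rc_18_1 lc_e_rc_27_5 lc_e_rc_16_1 lc_e_rc_13_3 lc_e_rc_9_3 lc_e_rc_13_3 lc_e_rc_27_5 lc_e_rc_13_3 lc_e_rc_16_5 lc_e_rc_16_5 lc_e_rc_27_1 lc_e_rc_9_3 lc_e_rc_13_3 lc_e_rc_27_5 lc_e_rc_9_3 lc_e_rc_18_1 lc_e_rc_16_3 lc_e_rc_16_1 lc_e_rc_18_1 lc_e_rc_13_3 lc_e_rc_18_1 lc_e_rc_13_3 lc_e_rc_9_3 lc_e_Cert_tree lc_e_rc_9_3 lc_e_rc_18_1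 lc_e_rc_16_5 lc_e_rc_18_1 lc_e_rc_18_1 lc_e_rc_27_5 lc_e_rc_27_1 lc_e_rc_16_3 lc_e_rc_27_5 lc_e_rc_18_1 lc_e_rc_4_3 lc_e_rc_27_7 lc_e_rc_18_1 lc_e_rc_18_1 lc_e_rc_16_3 lc_e_rc_4_1 lc_e_rc_27_5 lc_e_rc_9_3) (@D3.rec (fun _ => (Cert rels S Gen.e)) lc_e_rc_19_4 lc_e_rc_27_1 lc_e_rc_18_1 lc_e_rc_4_3 lc_e_rc_19_4 lc_e_rc_9_3 lc_e_rc_16_1 lc_e_rc_19_2 lc_e_rc_13_3 lc_e_rc_18_1 lc_e_rc_27_5 lc_e_rc_18_1 lc_e_rc_9_1 lc_e_rc_13_3 lc_e_rc_18_1 lc_e_rc_27_1 lc_e_rc_18_1 lc_e_rc_18_1 lc_e_rc_13_3 lc_e_rc_18_1 lc_e_rc_16_1 lc_e_rc_19_4 lc_e_rc_27_1 lc_e_Cert_tree lc_e_rc_18_1 lc_e_rc_18_1 lc_e_rc_16_3 lc_e_rc_19_4 lc_e_rc_18_1 lc_e_rc_13_3 lc_e_rc_4_3 lc_e_rc_16_3 lc_e_rc_18_1 lc_e_rc_27_5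 lc_e_rc_13_3 lc_e_rc_16_3 lc_e_rc_19_4 lc_e_rc_19_0 lc_e_rc_27_5 lc_e_rc_18_1 lc_e_rc_19_2 lc_e_rc_19_4 lc_e_rc_27_5 lc_e_rc_18_1 lc_e_rc_4_3 lc_e_Cert_tree lc_e_rc_9_1 lc_e_rc_18_1 lc_e_rc_18_1 lc_e_rc_13_1 lc_e_rc_16_1 lc_e_rc_19_2 lc_e_rc_9_3 lc_e_rc_13_3 lc_e_rc_13_1 lc_e_rc_13_3 lc_e_rc_16_3 lc_e_rc_19_2 lc_e_rc_27_7 lc_e_rc_18_1 lc_e_rc_19_0 lc_e_rc_16_3) (@D3.rec (fun _ => (Cert rels S Gen.e)) lc_e_rc_13_3 lc_e_rc_16_1 lc_e_Cert_tree lc_e_rc_18_1 lc_e_rc_16_1 lc_e_rc_18_1 lc_e_rc_13_3 lc_e_rc_16_1 lc_e_rc_9_3 lc_e_rc_27_7 lc_e_rc_9_1 lc_e_rc_27_1 lc_e_rc_18_1 lc_e_rc_9_3 lc_e_rc_13_3 lc_e_rc_13_3 lc_e_rc_13_1 lc_e_rc_13_1 lc_e_rc_18_1 lc_e_rc_4_3 lc_e_rc_9_3 lc_e_rc_27_5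 lc_e_rc_16_3 lc_e_rc_16_1 lc_e_rc_18_1 lc_e_rc_13_1 lc_e_rc_18_1 lc_e_rc_9_1 lc_e_rc_4_1 lc_e_rc_13_1 lc_e_rc_27_5 lc_e_rc_19_4 lc_e_Cert_tree lc_e_rc_18_1 lc_e_rc_27_5 lc_e_rc_19_4 lc_e_rc_27_7 lc_e_rc_18_1 lc_e_rc_13_3 lc_e_rc_16_3 lc_e_rc_4_3 lc_e_rc_27_1 lc_e_rc_19_4 lc_e_rc_18_1 lc_e_rc_18_1 lc_e_rc_13_1 lc_e_rc_18_1 lc_e_Cert_tree lc_e_rc_18_1 lc_e_Cert_tree lc_e_rc_18_1 lc_e_Cert_tree lc_e_rc_18_1 lc_e_rc_27_1 lc_e_rc_16_1 lc_e_rc_27_1 lc_e_Cert_tree lc_e_rc_18_1 lc_e_rc_18_1 lc_e_rc_18_1 lc_e_rc_16_1 lc_e_rc_19_4) (@D3.rec (fun _ => (Cert rels S Gen.e)) lc_e_rc_18_1 lc_e_rc_19_2 lc_e_rc_9_1 lc_e_rc_18_1 lc_e_rc_9_3 lc_e_rc_27_7 lc_e_rc_27_7 lc_e_rc_18_1 lc_e_rc_16_1 lc_e_rc_16_1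 lc_e_rc_13_1 lc_e_rc_18_1 lc_e_rc_9_3 lc_e_rc_4_3 lc_e_rc_18_1 lc_e_rc_27_1 lc_e_rc_18_1 lc_e_rc_27_5 lc_e_rc_18_1 lc_e_rc_18_1 lc_e_rc_27_1 lc_e_rc_27_5 lc_e_rc_19_2 lc_e_rc_18_1 lc_e_Cert_tree lc_e_rc_13_3 lc_e_rc_16_3 lc_e_rc_19_4 lc_e_rc_18_1 lc_e_Cert_tree lc_e_rc_9_3 lc_e_rc_18_1 lc_e_rc_18_1 lc_e_rc_18_1 lc_e_rc_16_3 lc_e_rc_19_2 lc_e_rc_18_1 lc_e_rc_18_1 lc_e_rc_18_1 lc_e_rc_4_3 lc_e_rc_18_1 lc_e_rc_18_1 lc_e_rc_4_3 lc_e_rc_18_1 lc_e_rc_27_7 lc_e_rc_13_3 lc_e_rc_16_5 lc_e_rc_4_3 lc_e_rc_18_1 lc_e_rc_18_1 lc_e_rc_27_1 lc_e_rc_18_1 lc_e_rc_4_3 lc_e_rc_18_1 lc_e_rc_27_7 lc_e_rc_9_3 lc_e_rc_18_1 lc_e_rc_18_1 lc_e_rc_13_3 lc_e_rc_18_1 lc_e_rc_9_1 lc_e_Cert_tree) (@D3.rec (fun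 _ => (Cert rels S Gen.e)) lc_e_rc_18_1 lc_e_rc_4_3 lc_e_rc_19_2 lc_e_rc_27_1 lc_e_rc_16_5 lc_e_rc_13_1 lc_e_rc_19_4 lc_e_rc_19_4 lc_e_rc_16_5 lc_e_rc_16_3 lc_e_rc_18_1 lc_e_rc_27_5 lc_e_rc_9_3 lc_e_rc_27_5 lc_e_rc_18_1 lc_e_rc_18_1 lc_e_rc_9_3 lc_e_rc_27_7 lc_e_rc_9_1 lc_e_rc_13_3 lc_e_rc_13_1 lc_e_rc_27_1 lc_e_rc_9_3 lc_e_rc_18_1 lc_e_rc_18_1 lc_e_rc_9_3 lc_e_rc_19_2 lc_e_rc_9_1 lc_e_rc_27_5 lc_e_rc_18_1 lc_e_rc_27_1 lc_e_rc_18_1 lc_e_rc_13_1 lc_e_rc_16_1 lc_e_rc_4_3 lc_e_rc_9_3 lc_e_rc_19_0 lc_e_rc_19_4 lc_e_rc_18_1 lc_e_rc_18_1 lc_e_rc_13_3 lc_e_rc_19_2 lc_e_rc_19_2 lc_e_rc_9_1 lc_e_rc_18_1 lc_e_rc_16_5 lc_e_rc_18_1 lc_e_rc_13_3 lc_e_rc_27_1 lc_e_rc_18_1 lc_e_rc_16_5 lc_e_rc_16_5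 lc_e_rc_19_2 lc_e_rc_9_3 lc_e_rc_9_3 lc_e_rc_18_1 lc_e_rc_4_3 lc_e_rc_27_5 lc_e_rc_18_1 lc_e_rc_27_1 lc_e_rc_27_5 lc_e_rc_9_1) (@D3.rec (fun _ => (Cert rels S Gen.e)) lc_e_rc_13_3 lc_e_rc_27_5 lc_e_rc_27_7 lc_e_rc_18_1 lc_e_rc_18_1 lc_e_Cert_tree lc_e_rc_9_1 lc_e_rc_18_1 lc_e_rc_13_3 lc_e_rc_27_7 lc_e_rc_13_3 lc_e_rc_13_3 lc_e_rc_16_1 lc_e_rc_27_7 lc_e_rc_18_1 lc_e_rc_13_3 lc_e_rc_13_3 lc_e_rc_18_1 lc_e_rc_18_1 lc_e_rc_18_1 lc_e_Cert_tree lc_e_rc_18_1 lc_e_rc_13_3 lc_e_Cert_tree lc_e_Cert_tree lc_e_rc_18_1 lc_e_rc_9_1 lc_e_rc_13_1 lc_e_rc_18_1 lc_e_rc_9_3 lc_e_rc_13_1 lc_e_rc_9_3 lc_e_rc_19_4 lc_e_rc_16_5 lc_e_rc_16_5 lc_e_rc_4_1 lc_e_Cert_tree lc_e_rc_16_5 lc_e_rc_13_1 lc_e_rc_16_5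 lc_e_rc_18_1 lc_e_rc_9_3 lc_e_rc_19_4 lc_e_rc_18_1 lc_e_rc_9_1 lc_e_rc_9_3 lc_e_rc_4_3 lc_e_rc_16_1 lc_e_rc_18_1 lc_e_rc_16_5 lc_e_rc_18_1 lc_e_rc_16_1 lc_e_rc_16_1 lc_e_rc_27_1 lc_e_rc_16_5 lc_e_rc_13_1 lc_e_rc_16_3 lc_e_rc_19_2 lc_e_rc_27_5 lc_e_rc_18_1 lc_e_rc_18_1 lc_e_rc_18_1) (@D3.rec (fun _ => (Cert rels S Gen.e)) lc_e_rc_13_3 lc_e_rc_4_3 lc_e_rc_16_5 lc_e_rc_19_4 lc_e_rc_18_1 lc_e_rc_18_1 lc_e_rc_9_3 lc_e_rc_13_1 lc_e_rc_16_3 lc_e_rc_18_1 lc_e_rc_9_3 lc_e_rc_4_3 lc_e_rc_19_4 lc_e_rc_16_3 lc_e_rc_18_1 lc_e_rc_27_1 lc_e_rc_16_3 lc_e_rc_18_1 lc_e_rc_16_5 lc_e_rc_9_3 lc_e_rc_13_3 lc_e_rc_16_3 lc_e_rc_9_1 lc_e_rc_27_1 lc_e_rc_18_1 lc_e_rc_27_1 lc_e_rc_18_1 lc_e_rc_18_1 lc_e_rc_18_1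 lc_e_rc_19_4 lc_e_rc_27_7 lc_e_rc_27_5 lc_e_rc_27_1 lc_e_rc_18_1 lc_e_rc_16_1 lc_e_rc_9_3 lc_e_rc_4_1 lc_e_rc_9_3 lc_e_rc_18_1 lc_e_rc_27_7 lc_e_rc_4_1 lc_e_rc_19_2 lc_e_rc_13_3 lc_e_rc_4_1 lc_e_rc_18_1 lc_e_rc_13_3 lc_e_rc_27_5 lc_e_rc_18_1 lc_e_rc_18_1 lc_e_rc_16_3 lc_e_rc_27_1 lc_e_rc_27_1 lc_e_rc_4_1 lc_e_rc_18_1 lc_e_rc_18_1 lc_e_rc_18_1 lc_e_rc_13_1 lc_e_rc_9_1 lc_e_rc_18_1 lc_e_rc_18_1 lc_e_rc_13_1 lc_e_rc_27_1) (@D3.rec (fun _ => (Cert rels S Gen.e)) lc_e_rc_27_5 lc_e_rc_9_3 lc_e_rc_27_7 lc_e_rc_27_1 lc_e_rc_27_5 lc_e_rc_19_2 lc_e_rc_19_0 lc_e_rc_18_1 lc_e_rc_18_1 lc_e_rc_13_3 lc_e_rc_9_1 lc_e_rc_19_2 lc_e_rc_27_7 lc_e_rc_18_1 lc_e_rc_16_1 lc_e_rc_13_3 lc_e_rc_18_1 lc_e_rc_27_7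 lc_e_rc_9_3 lc_e_rc_18_1 lc_e_rc_9_3 lc_e_rc_16_1 lc_e_rc_19_2 lc_e_rc_18_1 lc_e_rc_19_2 lc_e_rc_18_1 lc_e_rc_18_1 lc_e_rc_16_5 lc_e_rc_16_5 lc_e_rc_13_1 lc_e_rc_19_4 lc_e_rc_4_1 lc_e_rc_16_3 lc_e_rc_19_2 lc_e_rc_16_3 lc_e_rc_19_4 lc_e_rc_16_1 lc_e_rc_18_1 lc_e_rc_16_5 lc_e_rc_18_1 lc_e_rc_13_1 lc_e_rc_18_1 lc_e_rc_18_1 lc_e_rc_13_3 lc_e_rc_18_1 lc_e_rc_18_1 lc_e_rc_16_1 lc_e_rc_16_5 lc_e_rc_18_1 lc_e_rc_27_5 lc_e_rc_18_1 lc_e_rc_9_1 lc_e_rc_18_1 lc_e_rc_27_5 lc_e_rc_19_4 lc_e_rc_18_1 lc_e_rc_27_5 lc_e_rc_16_5 lc_e_rc_18_1 lc_e_rc_27_5 lc_e_rc_18_1 lc_e_rc_18_1) (@D3.rec (fun _ => (Cert rels S Gen.e)) lc_e_rc_13_1 lc_e_rc_13_1 lc_e_rc_19_4 lc_e_rc_13_3 lc_e_rc_27_7 lc_e_rc_18_1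 lc_e_Cert_tree lc_e_rc_18_1 lc_e_rc_4_3 lc_e_rc_13_3 lc_e_rc_27_5 lc_e_rc_9_3 lc_e_rc_19_2 lc_e_rc_18_1 lc_e_rc_18_1 lc_e_rc_9_3 lc_e_rc_13_1 lc_e_rc_18_1 lc_e_rc_18_1 lc_e_rc_19_4 lc_e_rc_4_3 lc_e_rc_27_1 lc_e_rc_18_1 lc_e_rc_19_0 lc_e_rc_27_7 lc_e_Cert_tree lc_e_rc_18_1 lc_e_rc_18_1 lc_e_rc_18_1 lc_e_rc_9_3 lc_e_rc_27_1 lc_e_rc_13_1 lc_e_rc_27_5 lc_e_rc_18_1 lc_e_rc_13_1 lc_e_rc_16_3 lc_e_rc_9_3 lc_e_rc_18_1 lc_e_rc_16_3 lc_e_rc_4_3 lc_e_rc_18_1 lc_e_rc_16_5 lc_e_rc_4_3 lc_e_rc_13_3 lc_e_rc_13_3 lc_e_rc_19_4 lc_e_rc_18_1 lc_e_rc_18_1 lc_e_rc_18_1 lc_e_rc_18_1 lc_e_rc_19_4 lc_e_rc_16_5 lc_e_rc_18_1 lc_e_rc_18_1 lc_e_rc_19_4 lc_e_rc_16_3 lc_e_rc_18_1 lc_e_rc_9_1 lc_e_rc_13_1 lc_e_rc_18_1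 lc_e_rc_9_1 lc_e_rc_27_5) (@D3.rec (fun _ => (Cert rels S Gen.e)) lc_e_rc_27_1 lc_e_rc_9_1 lc_e_rc_18_1 lc_e_rc_16_3 lc_e_rc_18_1 lc_e_rc_27_5 lc_e_rc_19_4 lc_e_rc_27_1 lc_e_rc_18_1 lc_e_rc_19_2 lc_e_Cert_tree lc_e_rc_18_1 lc_e_rc_18_1 lc_e_Cert_tree lc_e_rc_13_1 lc_e_rc_18_1 lc_e_rc_27_1 lc_e_rc_27_5 lc_e_rc_18_1 lc_e_rc_13_3 lc_e_rc_13_1 lc_e_rc_13_3 lc_e_rc_16_1 lc_e_rc_27_5 lc_e_rc_18_1 lc_e_rc_9_3 lc_e_rc_18_1 lc_e_rc_18_1 lc_e_rc_18_1 lc_e_rc_18_1 lc_e_rc_4_1 lc_e_rc_9_1 lc_e_rc_9_3 lc_e_rc_16_3 lc_e_rc_13_3 lc_e_rc_9_1 lc_e_rc_27_7 lc_e_rc_16_3 lc_e_rc_18_1 lc_e_rc_18_1 lc_e_rc_13_1 lc_e_rc_18_1 lc_e_rc_9_3 lc_e_rc_13_1 lc_e_rc_16_1 lc_e_rc_18_1 lc_e_rc_16_1 lc_e_rc_13_1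 lc_e_rc_18_1 lc_e_rc_4_3 lc_e_rc_13_3 lc_e_rc_9_1 lc_e_rc_18_1 lc_e_rc_9_3 lc_e_rc_9_1 lc_e_rc_18_1 lc_e_rc_18_1 lc_e_rc_18_1 lc_e_rc_9_1 lc_e_rc_9_3 lc_e_rc_18_1 lc_e_rc_18_1) (@D3.rec (fun _ => (Cert rels S Gen.e)) lc_e_rc_19_0 lc_e_rc_9_1 lc_e_rc_19_4 lc_e_rc_9_1 lc_e_rc_18_1 lc_e_rc_27_5 lc_e_rc_18_1 lc_e_rc_19_0 lc_e_rc_13_3 lc_e_rc_16_5 lc_e_rc_4_3 lc_e_rc_13_3 lc_e_rc_16_5 lc_e_rc_27_7 lc_e_rc_18_1 lc_e_rc_18_1 lc_e_rc_4_1 lc_e_rc_13_3 lc_e_rc_19_4 lc_e_rc_19_4 lc_e_rc_27_7 lc_e_rc_27_5 lc_e_rc_18_1 lc_e_rc_9_3 lc_e_rc_9_3 lc_e_rc_18_1 lc_e_rc_18_1 lc_e_rc_9_1 lc_e_rc_18_1 lc_e_rc_18_1 lc_e_rc_13_3 lc_e_rc_18_1 lc_e_rc_27_5 lc_e_rc_13_3 lc_e_rc_16_5 lc_e_rc_4_3 lc_e_rc_18_1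 lc_e_rc_9_1 lc_e_rc_18_1 lc_e_rc_27_5 lc_e_rc_4_3 lc_e_rc_16_3 lc_e_rc_13_3 lc_e_rc_16_3 lc_e_rc_9_1 lc_e_Cert_tree lc_e_rc_27_5 lc_e_rc_18_1 lc_e_rc_18_1 lc_e_rc_18_1 lc_e_rc_16_5 lc_e_rc_27_7 lc_e_rc_13_1 lc_e_rc_18_1 lc_e_rc_4_1 lc_e_rc_9_3 lc_e_Cert_tree lc_e_rc_16_1 lc_e_rc_19_4 lc_e_rc_27_5 lc_e_rc_27_5 lc_e_rc_18_1) (@D3.rec (fun _ => (Cert rels S Gen.e)) lc_e_rc_27_1 lc_e_rc_18_1 lc_e_rc_27_1 lc_e_rc_9_3 lc_e_rc_18_1 lc_e_rc_18_1 lc_e_rc_18_1 lc_e_rc_18_1 lc_e_rc_18_1 lc_e_rc_18_1 lc_e_rc_27_5 lc_e_rc_27_7 lc_e_rc_9_3 lc_e_rc_16_3 lc_e_rc_27_1 lc_e_rc_27_5 lc_e_rc_9_3 lc_e_rc_27_7 lc_e_rc_13_3 lc_e_rc_16_5 lc_e_rc_9_3 lc_e_Cert_tree lc_e_rc_9_3 lc_e_rc_19_2 lc_e_rc_9_1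 lc_e_rc_9_3 lc_e_Cert_tree lc_e_rc_18_1 lc_e_rc_27_7 lc_e_rc_18_1 lc_e_rc_9_3 lc_e_rc_18_1 lc_e_rc_4_3 lc_e_rc_9_3 lc_e_rc_18_1 lc_e_rc_19_2 lc_e_rc_9_3 lc_e_rc_27_5 lc_e_rc_4_3 lc_e_rc_18_1 lc_e_rc_4_3 lc_e_Cert_tree lc_e_rc_18_1 lc_e_rc_27_1 lc_e_rc_18_1 lc_e_rc_19_4 lc_e_rc_27_5 lc_e_rc_18_1 lc_e_rc_27_1 lc_e_rc_9_1 lc_e_rc_18_1 lc_e_Cert_tree lc_e_rc_4_1 lc_e_rc_16_5 lc_e_rc_19_4 lc_e_rc_18_1 lc_e_rc_16_5 lc_e_rc_19_2 lc_e_rc_18_1 lc_e_rc_27_5 lc_e_rc_27_1 lc_e_Cert_tree) (@D3.rec (fun _ => (Cert rels S Gen.e)) lc_e_rc_18_1 lc_e_rc_18_1 lc_e_rc_13_1 lc_e_rc_16_1 lc_e_rc_13_1 lc_e_rc_16_1 lc_e_rc_16_5 lc_e_rc_27_5 lc_e_rc_27_1 lc_e_rc_18_1 lc_e_rc_27_5 lc_e_rc_27_7 lc_e_rc_18_1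 lc_e_rc_13_3 lc_e_rc_9_3 lc_e_rc_27_5 lc_e_rc_18_1 lc_e_rc_27_5 lc_e_rc_18_1 lc_e_rc_27_1 lc_e_rc_19_2 lc_e_rc_19_4 lc_e_rc_16_1 lc_e_rc_18_1 lc_e_rc_19_4 lc_e_rc_19_4 lc_e_rc_27_1 lc_e_rc_18_1 lc_e_rc_9_3 lc_e_rc_16_1 lc_e_rc_13_3 lc_e_rc_27_5 lc_e_rc_16_3 lc_e_rc_9_1 lc_e_rc_16_5 lc_e_rc_18_1 lc_e_rc_27_5 lc_e_rc_16_5 lc_e_rc_18_1 lc_e_rc_13_3 lc_e_rc_27_7 lc_e_Cert_tree lc_e_rc_13_3 lc_e_rc_13_3 lc_e_rc_9_3 lc_e_rc_18_1 lc_e_rc_9_1 lc_e_rc_16_5 lc_e_rc_27_5 lc_e_rc_18_1 lc_e_rc_18_1 lc_e_rc_13_1 lc_e_rc_4_1 lc_e_rc_18_1 lc_e_rc_27_5 lc_e_rc_27_5 lc_e_rc_19_2 lc_e_rc_9_3 lc_e_rc_18_1 lc_e_rc_16_3 lc_e_rc_18_1 lc_e_rc_27_1) (@D3.rec (fun _ => (Cert rels S Gen.e)) lc_e_rc_18_1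 lc_e_rc_27_1 lc_e_rc_9_3 lc_e_rc_9_1 lc_e_rc_9_1 lc_e_rc_18_1 lc_e_rc_19_4 lc_e_rc_13_3 lc_e_rc_19_0 lc_e_rc_18_1 lc_e_rc_9_1 lc_e_rc_18_1 lc_e_rc_18_1 lc_e_rc_13_3 lc_e_rc_13_1 lc_e_rc_27_1 lc_e_rc_18_1 lc_e_rc_4_3 lc_e_rc_16_1 lc_e_Cert_tree lc_e_rc_18_1 lc_e_rc_18_1 lc_e_rc_27_5 lc_e_rc_13_3 lc_e_rc_19_2 lc_e_rc_13_3 lc_e_rc_19_0 lc_e_rc_27_7 lc_e_rc_18_1 lc_e_rc_4_3 lc_e_rc_13_3 lc_e_rc_18_1 lc_e_rc_13_3 lc_e_rc_18_1 lc_e_rc_13_1 lc_e_rc_18_1 lc_e_rc_16_5 lc_e_rc_18_1 lc_e_rc_27_7 lc_e_rc_13_1 lc_e_rc_18_1 lc_e_rc_9_1 lc_e_rc_18_1 lc_e_rc_16_5 lc_e_rc_18_1 lc_e_rc_27_1 lc_e_rc_19_2 lc_e_rc_19_2 lc_e_rc_18_1 lc_e_rc_18_1 lc_e_rc_18_1 lc_e_rc_27_5 lc_e_rc_13_3 lc_e_rc_27_1 lc_e_rc_27_5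 lc_e_rc_18_1 lc_e_rc_16_5 lc_e_rc_18_1 lc_e_rc_27_5 lc_e_rc_13_1 lc_e_rc_16_1 lc_e_rc_18_1) (@D3.rec (fun _ => (Cert rels S Gen.e)) lc_e_rc_16_5 lc_e_rc_27_1 lc_e_rc_9_3 lc_e_rc_13_3 lc_e_rc_9_3 lc_e_rc_18_1 lc_e_rc_13_3 lc_e_rc_18_1 lc_e_rc_19_2 lc_e_rc_13_3 lc_e_rc_18_1 lc_e_rc_16_5 lc_e_rc_13_3 lc_e_rc_19_2 lc_e_rc_27_5 lc_e_rc_18_1 lc_e_rc_27_5 lc_e_rc_19_4 lc_e_rc_19_4 lc_e_rc_19_4 lc_e_rc_18_1 lc_e_rc_4_1 lc_e_rc_19_4 lc_e_rc_9_3 lc_e_rc_18_1 lc_e_rc_18_1 lc_e_rc_19_4 lc_e_rc_27_1 lc_e_rc_18_1 lc_e_rc_18_1 lc_e_rc_18_1 lc_e_rc_16_1 lc_e_rc_13_3 lc_e_rc_19_4 lc_e_rc_18_1 lc_e_rc_9_1 lc_e_rc_18_1 lc_e_rc_18_1 lc_e_Cert_tree lc_e_rc_13_3 lc_e_rc_18_1 lc_e_rc_9_3 lc_e_rc_4_3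 lc_e_rc_9_1 lc_e_rc_4_1 lc_e_rc_16_3 lc_e_rc_18_1 lc_e_rc_9_3 lc_e_rc_4_1 lc_e_rc_9_1 lc_e_rc_18_1 lc_e_rc_13_3 lc_e_rc_18_1 lc_e_rc_9_1 lc_e_rc_16_3 lc_e_rc_18_1 lc_e_rc_13_3 lc_e_rc_4_3 lc_e_rc_27_1 lc_e_rc_27_7 lc_e_rc_19_4 lc_e_rc_16_1) (@D3.rec (fun _ => (Cert rels S Gen.e)) lc_e_rc_19_4 lc_e_rc_16_1 lc_e_rc_13_3 lc_e_rc_27_7 lc_e_rc_4_3 lc_e_rc_19_4 lc_e_rc_4_3 lc_e_rc_18_1 lc_e_rc_13_3 lc_e_rc_27_5 lc_e_rc_18_1 lc_e_rc_27_5 lc_e_rc_18_1 lc_e_rc_13_3 lc_e_rc_13_3 lc_e_rc_16_1 lc_e_rc_19_2 lc_e_rc_27_1 lc_e_rc_9_3 lc_e_rc_16_5 lc_e_Cert_tree lc_e_rc_27_5 lc_e_rc_18_1 lc_e_rc_13_3 lc_e_rc_13_3 lc_e_rc_18_1 lc_e_rc_18_1 lc_e_rc_18_1 lc_e_rc_16_3 lc_e_rc_19_4 lc_e_rc_13_1 lc_e_Cert_tree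 lc_e_rc_18_1 lc_e_rc_13_3 lc_e_rc_27_5 lc_e_rc_16_3 lc_e_rc_13_3 lc_e_rc_4_3 lc_e_rc_18_1 lc_e_rc_13_1 lc_e_rc_9_3 lc_e_rc_16_5 lc_e_rc_27_1 lc_e_rc_27_5 lc_e_rc_27_5 lc_e_Cert_tree lc_e_rc_16_5 lc_e_rc_9_3 lc_e_rc_27_7 lc_e_rc_18_1 lc_e_rc_13_3 lc_e_rc_13_1 lc_e_rc_18_1 lc_e_rc_18_1 lc_e_rc_19_4 lc_e_rc_4_1 lc_e_rc_16_5 lc_e_rc_13_3 lc_e_rc_18_1 lc_e_rc_9_3 lc_e_rc_18_1 lc_e_rc_18_1) (@D3.rec (fun _ => (Cert rels S Gen.e)) lc_e_rc_19_4 lc_e_rc_16_5 lc_e_rc_18_1 lc_e_rc_18_1 lc_e_rc_13_3 lc_e_rc_4_3 lc_e_rc_27_7 lc_e_rc_4_1 lc_e_rc_27_5 lc_e_rc_16_5 lc_e_rc_18_1 lc_e_rc_9_3 lc_e_Cert_tree lc_e_rc_18_1 lc_e_rc_13_3 lc_e_rc_9_3 lc_e_rc_9_3 lc_e_rc_9_1 lc_e_rc_18_1 lc_e_rc_9_3 lc_e_rc_16_3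 lc_e_rc_9_1 lc_e_rc_18_1 lc_e_rc_27_5 lc_e_rc_18_1 lc_e_rc_27_5 lc_e_rc_18_1 lc_e_rc_13_3 lc_e_rc_18_1 lc_e_rc_27_1 lc_e_rc_13_3 lc_e_rc_27_5 lc_e_rc_16_3 lc_e_rc_9_1 lc_e_rc_18_1 lc_e_rc_9_1 lc_e_rc_18_1 lc_e_rc_27_5 lc_e_rc_27_5 lc_e_rc_18_1 lc_e_rc_18_1 lc_e_rc_27_5 lc_e_rc_18_1 lc_e_rc_27_5 lc_e_rc_16_3 lc_e_rc_9_3 lc_e_rc_27_5 lc_e_Cert_tree lc_e_rc_27_1 lc_e_rc_18_1 lc_e_rc_18_1 lc_e_rc_18_1 lc_e_rc_16_1 lc_e_rc_27_5 lc_e_rc_9_3 lc_e_rc_13_3 lc_e_rc_27_5 lc_e_rc_19_2 lc_e_rc_16_5 lc_e_rc_13_1 lc_e_rc_13_1 lc_e_rc_27_1) (@D3.rec (fun _ => (Cert rels S Gen.e)) lc_e_rc_27_5 lc_e_rc_18_1 lc_e_rc_18_1 lc_e_rc_4_3 lc_e_rc_18_1 lc_e_rc_27_1 lc_e_rc_16_3 lc_e_rc_13_1 lc_e_rc_9_1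 lc_e_Cert_tree lc_e_rc_18_1 lc_e_rc_16_3 lc_e_rc_9_1 lc_e_rc_27_1 lc_e_rc_27_5 lc_e_rc_19_4 lc_e_rc_13_1 lc_e_rc_13_3 lc_e_rc_18_1 lc_e_rc_18_1 lc_e_rc_16_5 lc_e_rc_16_3 lc_e_rc_19_4 lc_e_rc_27_7 lc_e_rc_16_1 lc_e_rc_9_1 lc_e_rc_9_3 lc_e_rc_18_1 lc_e_rc_4_1 lc_e_rc_27_1 lc_e_Cert_tree lc_e_rc_16_5 lc_e_rc_27_1 lc_e_rc_16_5 lc_e_rc_18_1 lc_e_rc_18_1 lc_e_rc_4_3 lc_e_rc_19_2 lc_e_rc_13_3 lc_e_rc_19_4 lc_e_rc_27_5 lc_e_rc_13_1 lc_e_rc_16_1 lc_e_rc_13_1 lc_e_rc_18_1 lc_e_rc_27_7 lc_e_rc_18_1 lc_e_rc_13_3 lc_e_rc_18_1 lc_e_rc_16_5 lc_e_rc_18_1 lc_e_rc_4_3 lc_e_rc_16_1 lc_e_rc_19_2 lc_e_rc_27_1 lc_e_rc_18_1 lc_e_rc_18_1 lc_e_rc_27_5 lc_e_rc_27_7 lc_e_rc_18_1 lc_e_rc_4_3 lc_e_rc_18_1)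 (@D3.rec (fun _ => (Cert rels S Gen.e)) lc_e_rc_9_3 lc_e_rc_18_1 lc_e_rc_19_0 lc_e_rc_13_3 lc_e_rc_4_1 lc_e_rc_18_1 lc_e_rc_18_1 lc_e_rc_27_5 lc_e_rc_16_3 lc_e_rc_19_4 lc_e_rc_18_1 lc_e_rc_19_4 lc_e_Cert_tree lc_e_rc_27_7 lc_e_rc_19_4 lc_e_rc_13_3 lc_e_rc_9_3 lc_e_rc_18_1 lc_e_Cert_tree lc_e_rc_18_1 lc_e_rc_18_1 lc_e_rc_16_1 lc_e_Cert_tree lc_e_rc_16_3 lc_e_rc_13_3 lc_e_rc_4_3 lc_e_rc_18_1 lc_e_rc_27_5 lc_e_rc_18_1 lc_e_Cert_tree lc_e_rc_18_1 lc_e_rc_18_1 lc_e_rc_9_3 lc_e_rc_13_3 lc_e_rc_13_3 lc_e_rc_18_1 lc_e_rc_9_3 lc_e_rc_16_1 lc_e_rc_18_1 lc_e_rc_9_3 lc_e_rc_13_3 lc_e_rc_16_3 lc_e_rc_18_1 lc_e_rc_9_1 lc_e_rc_9_3 lc_e_rc_18_1 lc_e_rc_9_3 lc_e_rc_18_1 lc_e_rc_9_1 lc_e_rc_27_5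 lc_e_rc_4_1 lc_e_Cert_tree lc_e_rc_16_1 lc_e_rc_9_1 lc_e_rc_16_5 lc_e_rc_19_0 lc_e_rc_18_1 lc_e_rc_16_5 lc_e_rc_18_1 lc_e_rc_9_3 lc_e_rc_18_1 lc_e_rc_18_1) (@D3.rec (fun _ => (Cert rels S Gen.e)) lc_e_rc_13_3 lc_e_rc_9_1 lc_e_rc_19_4 lc_e_rc_9_3 lc_e_rc_16_1 lc_e_rc_27_1 lc_e_Cert_tree lc_e_rc_13_3 lc_e_rc_27_7 lc_e_rc_27_7 lc_e_rc_18_1 lc_e_rc_16_1 lc_e_Cert_tree lc_e_rc_18_1 lc_e_rc_16_1 lc_e_rc_16_1 lc_e_rc_9_3 lc_e_Cert_tree lc_e_rc_4_3 lc_e_Cert_tree lc_e_Cert_tree lc_e_rc_18_1 lc_e_rc_18_1 lc_e_Cert_tree lc_e_rc_16_1 lc_e_rc_19_2 lc_e_rc_9_3 lc_e_rc_9_3 lc_e_rc_18_1 lc_e_rc_9_3 lc_e_rc_16_5 lc_e_rc_16_3 lc_e_rc_27_5 lc_e_rc_16_5 lc_e_rc_9_3 lc_e_rc_27_5 lc_e_rc_9_3 lc_e_rc_9_1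 lc_e_rc_16_5 lc_e_rc_27_1 lc_e_rc_13_1 lc_e_rc_16_1 lc_e_rc_13_1 lc_e_rc_27_5 lc_e_Cert_tree lc_e_rc_16_5 lc_e_Cert_tree lc_e_rc_27_5 lc_e_rc_18_1 lc_e_Cert_tree lc_e_Cert_tree lc_e_rc_13_1 lc_e_Cert_tree lc_e_rc_13_3 lc_e_rc_13_1 lc_e_rc_19_2 lc_e_rc_27_1 lc_e_Cert_tree lc_e_rc_16_5 lc_e_rc_27_5 lc_e_Cert_tree lc_e_rc_18_1) (@D3.rec (fun _ => (Cert rels S Gen.e)) lc_e_rc_18_1 lc_e_rc_16_3 lc_e_rc_13_3 lc_e_rc_16_3 lc_e_rc_4_1 lc_e_rc_16_3 lc_e_rc_4_3 lc_e_rc_27_7 lc_e_rc_27_7 lc_e_rc_27_7 lc_e_rc_18_1 lc_e_rc_16_5 lc_e_rc_18_1 lc_e_rc_19_2 lc_e_Cert_tree lc_e_rc_27_7 lc_e_rc_18_1 lc_e_rc_16_5 lc_e_rc_18_1 lc_e_rc_18_1 lc_e_rc_27_7 lc_e_rc_9_3 lc_e_rc_9_1 lc_e_rc_27_7 lc_e_Cert_tree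 lc_e_rc_18_1 lc_e_Cert_tree lc_e_rc_18_1 lc_e_rc_16_3 lc_e_Cert_tree lc_e_rc_16_5 lc_e_rc_18_1 lc_e_rc_27_5 lc_e_rc_16_1 lc_e_rc_19_4 lc_e_rc_27_7 lc_e_rc_18_1 lc_e_Cert_tree lc_e_rc_18_1 lc_e_rc_16_5 lc_e_rc_16_5 lc_e_rc_4_3 lc_e_rc_13_3 lc_e_rc_19_4 lc_e_Cert_tree lc_e_rc_18_1 lc_e_rc_13_3 lc_e_rc_18_1 lc_e_rc_27_7 lc_e_rc_18_1 lc_e_rc_13_1 lc_e_rc_18_1 lc_e_rc_18_1 lc_e_rc_16_3 lc_e_rc_18_1 lc_e_rc_16_5 lc_e_rc_18_1 lc_e_rc_13_3 lc_e_rc_13_3 lc_e_rc_19_2 lc_e_rc_9_3 lc_e_rc_18_1) (@D3.rec (fun _ => (Cert rels S Gen.e)) lc_e_rc_13_3 lc_e_rc_16_1 lc_e_rc_19_2 lc_e_rc_27_5 lc_e_rc_4_3 lc_e_rc_18_1 lc_e_rc_19_2 lc_e_rc_4_1 lc_e_rc_16_5 lc_e_rc_13_3 lc_e_rc_18_1 lc_e_rc_16_1 lc_e_rc_27_5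 lc_e_rc_18_1 lc_e_rc_19_0 lc_e_rc_9_3 lc_e_rc_18_1 lc_e_rc_18_1 lc_e_rc_9_3 lc_e_rc_13_1 lc_e_rc_16_3 lc_e_rc_27_7 lc_e_rc_18_1 lc_e_rc_27_7 lc_e_rc_27_5 lc_e_rc_9_3 lc_e_rc_13_3 lc_e_rc_13_3 lc_e_rc_9_3 lc_e_rc_27_5 lc_e_rc_13_3 lc_e_rc_19_4 lc_e_rc_9_3 lc_e_rc_27_5 lc_e_rc_18_1 lc_e_rc_27_5 lc_e_rc_27_5 lc_e_rc_13_3 lc_e_rc_13_1 lc_e_rc_18_1 lc_e_rc_18_1 lc_e_rc_16_5 lc_e_Cert_tree lc_e_rc_19_4 lc_e_rc_18_1 lc_e_rc_13_1 lc_e_rc_16_3 lc_e_Cert_tree lc_e_Cert_tree lc_e_Cert_tree lc_e_Cert_tree lc_e_rc_18_1 lc_e_rc_18_1 lc_e_rc_16_5 lc_e_rc_13_3 lc_e_rc_18_1 lc_e_Cert_tree lc_e_rc_18_1 lc_e_rc_13_3 lc_e_rc_18_1 lc_e_rc_27_7 lc_e_rc_18_1) (@D3.rec (fun _ => (Cert rels S Gen.e))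 lc_e_Cert_tree lc_e_rc_18_1 lc_e_rc_16_3 lc_e_rc_18_1 lc_e_rc_13_3 lc_e_rc_18_1 lc_e_rc_16_3 lc_e_rc_27_1 lc_e_rc_27_5 lc_e_Cert_tree lc_e_rc_16_5 lc_e_rc_4_1 lc_e_rc_13_3 lc_e_rc_27_7 lc_e_rc_18_1 lc_e_rc_18_1 lc_e_rc_18_1 lc_e_rc_27_7 lc_e_rc_27_7 lc_e_rc_18_1 lc_e_rc_13_3 lc_e_rc_18_1 lc_e_rc_9_3 lc_e_rc_4_1 lc_e_Cert_tree lc_e_rc_18_1 lc_e_Cert_tree lc_e_rc_18_1 lc_e_rc_16_5 lc_e_rc_16_3 lc_e_rc_9_1 lc_e_rc_27_7 lc_e_Cert_tree lc_e_rc_18_1 lc_e_rc_13_3 lc_e_rc_13_3 lc_e_rc_9_3 lc_e_rc_27_1 lc_e_rc_27_5 lc_e_rc_16_3 lc_e_rc_13_1 lc_e_rc_9_3 lc_e_rc_27_5 lc_e_rc_18_1 lc_e_rc_27_5 lc_e_rc_16_1 lc_e_rc_13_3 lc_e_rc_27_1 lc_e_rc_18_1 lc_e_rc_27_5 lc_e_rc_18_1 lc_e_rc_4_3 lc_e_Cert_tree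 lc_e_rc_13_3 lc_e_rc_13_3 lc_e_rc_18_1 lc_e_Cert_tree lc_e_rc_18_1 lc_e_Cert_tree lc_e_rc_27_5 lc_e_rc_13_3 lc_e_rc_13_1) (@D3.rec (fun _ => (Cert rels S Gen.e)) lc_e_rc_27_7 lc_e_rc_18_1 lc_e_Cert_tree lc_e_rc_18_1 lc_e_rc_13_3 lc_e_rc_18_1 lc_e_rc_18_1 lc_e_rc_13_3 lc_e_rc_16_3 lc_e_rc_18_1 lc_e_rc_13_3 lc_e_rc_18_1 lc_e_rc_18_1 lc_e_rc_18_1 lc_e_Cert_tree lc_e_rc_13_1 lc_e_rc_18_1 lc_e_rc_13_3 lc_e_rc_13_3 lc_e_rc_19_0 lc_e_rc_9_3 lc_e_rc_27_7 lc_e_rc_18_1 lc_e_rc_18_1 lc_e_rc_18_1 lc_e_rc_18_1 lc_e_rc_4_3 lc_e_rc_9_1 lc_e_rc_18_1 lc_e_rc_18_1 lc_e_rc_16_3 lc_e_rc_4_3 lc_e_rc_18_1 lc_e_rc_13_3 lc_e_rc_4_3 lc_e_rc_27_5 lc_e_rc_13_3 lc_e_rc_27_5 lc_e_rc_13_3 lc_e_rc_18_1 lc_e_rc_4_3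 lc_e_rc_13_3 lc_e_rc_18_1 lc_e_rc_13_3 lc_e_rc_18_1 lc_e_rc_16_1 lc_e_Cert_tree lc_e_rc_27_1 lc_e_rc_18_1 lc_e_rc_13_3 lc_e_rc_18_1 lc_e_rc_13_3 lc_e_rc_9_3 lc_e_rc_18_1 lc_e_rc_9_3 lc_e_rc_18_1 lc_e_rc_9_3 lc_e_Cert_tree lc_e_rc_18_1 lc_e_rc_18_1 lc_e_rc_18_1 lc_e_rc_27_5) (@D3.rec (fun _ => (Cert rels S Gen.e)) lc_e_rc_19_2 lc_e_rc_18_1 lc_e_rc_18_1 lc_e_rc_16_1 lc_e_Cert_tree lc_e_rc_18_1 lc_e_rc_13_3 lc_e_rc_18_1 lc_e_rc_27_1 lc_e_rc_27_5 lc_e_rc_9_3 lc_e_rc_13_3 lc_e_rc_9_3 lc_e_rc_19_0 lc_e_rc_16_5 lc_e_rc_18_1 lc_e_rc_9_1 lc_e_rc_27_1 lc_e_rc_18_1 lc_e_rc_18_1 lc_e_rc_4_1 lc_e_rc_18_1 lc_e_rc_18_1 lc_e_Cert_tree lc_e_rc_16_3 lc_e_rc_16_5 lc_e_rc_27_5 lc_e_rc_18_1 lc_e_rc_18_1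 lc_e_rc_16_5 lc_e_rc_19_4 lc_e_rc_27_7 lc_e_rc_18_1 lc_e_rc_4_3 lc_e_rc_16_5 lc_e_rc_27_5 lc_e_rc_27_5 lc_e_rc_9_3 lc_e_rc_27_5 lc_e_rc_18_1 lc_e_rc_13_1 lc_e_rc_18_1 lc_e_rc_16_5 lc_e_rc_27_1 lc_e_rc_27_1 lc_e_Cert_tree lc_e_rc_18_1 lc_e_rc_9_3 lc_e_rc_18_1 lc_e_rc_13_3 lc_e_rc_18_1 lc_e_rc_19_2 lc_e_rc_18_1 lc_e_rc_16_5 lc_e_rc_9_3 lc_e_rc_27_5 lc_e_rc_18_1 lc_e_rc_18_1 lc_e_rc_18_1 lc_e_rc_19_2 lc_e_rc_18_1 lc_e_rc_18_1) (@D3.rec (fun _ => (Cert rels S Gen.e)) lc_e_rc_13_1 lc_e_rc_18_1 lc_e_rc_9_3 lc_e_rc_18_1 lc_e_rc_16_3 lc_e_rc_27_5 lc_e_rc_18_1 lc_e_rc_13_3 lc_e_rc_9_1 lc_e_rc_27_5 lc_e_rc_18_1 lc_e_rc_18_1 lc_e_rc_13_3 lc_e_rc_9_3 lc_e_rc_18_1 lc_e_rc_27_1 lc_e_rc_19_0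 lc_e_rc_18_1 lc_e_rc_9_3 lc_e_rc_27_1 lc_e_rc_9_1 lc_e_rc_16_3 lc_e_rc_27_1 lc_e_rc_27_5 lc_e_rc_18_1 lc_e_rc_19_0 lc_e_rc_16_3 lc_e_rc_18_1 lc_e_rc_16_1 lc_e_rc_9_1 lc_e_rc_9_3 lc_e_rc_4_3 lc_e_rc_18_1 lc_e_rc_27_7 lc_e_rc_27_5 lc_e_rc_9_3 lc_e_rc_19_2 lc_e_rc_18_1 lc_e_rc_16_1 lc_e_rc_9_1 lc_e_rc_4_1 lc_e_rc_4_3 lc_e_rc_18_1 lc_e_rc_4_3 lc_e_rc_18_1 lc_e_rc_13_3 lc_e_rc_13_3 lc_e_rc_9_1 lc_e_rc_13_3 lc_e_rc_27_5 lc_e_rc_13_1 lc_e_rc_18_1 lc_e_rc_9_3 lc_e_rc_16_5 lc_e_rc_18_1 lc_e_rc_18_1 lc_e_rc_4_3 lc_e_rc_4_3 lc_e_Cert_tree lc_e_rc_18_1 lc_e_rc_18_1 lc_e_rc_19_2) (@D3.rec (fun _ => (Cert rels S Gen.e)) lc_e_rc_27_7 lc_e_rc_18_1 lc_e_rc_13_3 lc_e_rc_4_3 lc_e_rc_27_1 lc_e_rc_18_1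 lc_e_rc_16_3 lc_e_rc_4_1 lc_e_rc_13_1 lc_e_rc_18_1 lc_e_rc_16_3 lc_e_rc_18_1 lc_e_rc_18_1 lc_e_rc_13_3 lc_e_rc_18_1 lc_e_rc_27_1 lc_e_rc_27_7 lc_e_rc_27_5 lc_e_rc_13_3 lc_e_rc_13_3 lc_e_rc_27_5 lc_e_rc_27_1 lc_e_rc_19_2 lc_e_rc_9_3 lc_e_rc_13_1 lc_e_rc_27_5 lc_e_rc_18_1 lc_e_rc_18_1 lc_e_rc_13_3 lc_e_rc_13_3 lc_e_rc_16_1 lc_e_rc_19_2 lc_e_rc_27_7 lc_e_rc_18_1 lc_e_rc_27_5 lc_e_rc_18_1 lc_e_rc_27_7 lc_e_rc_9_3 lc_e_rc_27_1 lc_e_rc_13_1 lc_e_rc_16_3 lc_e_rc_18_1 lc_e_rc_18_1 lc_e_rc_18_1 lc_e_rc_18_1 lc_e_Cert_tree lc_e_rc_18_1 lc_e_rc_9_1 lc_e_rc_16_1 lc_e_rc_13_1 lc_e_Cert_tree lc_e_rc_18_1 lc_e_Cert_tree lc_e_rc_18_1 lc_e_rc_18_1 lc_e_rc_27_1 lc_e_rc_27_5 lc_e_rc_18_1 lc_e_rc_18_1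 lc_e_rc_16_1 lc_e_rc_19_2 lc_e_rc_9_3) (@D3.rec (fun _ => (Cert rels S Gen.e)) lc_e_rc_27_7 lc_e_rc_19_4 lc_e_rc_13_3 lc_e_rc_9_3 lc_e_rc_13_3 lc_e_rc_9_3 lc_e_rc_18_1 lc_e_rc_18_1 lc_e_rc_13_3 lc_e_rc_16_1 lc_e_rc_16_5 lc_e_rc_13_3 lc_e_rc_18_1 lc_e_rc_18_1 lc_e_rc_18_1 lc_e_rc_18_1 lc_e_rc_16_3 lc_e_rc_19_4 lc_e_rc_13_3 lc_e_rc_18_1 lc_e_rc_18_1 lc_e_rc_16_3 lc_e_rc_13_3 lc_e_Cert_tree lc_e_rc_18_1 lc_e_rc_16_3 lc_e_rc_19_4 lc_e_rc_13_3 lc_e_rc_18_1 lc_e_rc_13_3 lc_e_rc_9_3 lc_e_rc_18_1 lc_e_rc_16_5 lc_e_Cert_tree lc_e_rc_16_3 lc_e_rc_18_1 lc_e_rc_4_1 lc_e_rc_13_3 lc_e_rc_18_1 lc_e_rc_18_1 lc_e_rc_18_1 lc_e_rc_16_3 lc_e_rc_4_3 lc_e_Cert_tree lc_e_rc_18_1 lc_e_rc_18_1 lc_e_rc_13_3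 lc_e_rc_16_1 lc_e_rc_18_1 lc_e_rc_18_1 lc_e_rc_18_1 lc_e_rc_18_1 lc_e_rc_13_3 lc_e_rc_18_1 lc_e_rc_18_1 lc_e_rc_18_1 lc_e_rc_16_3 lc_e_rc_18_1 lc_e_rc_19_2 lc_e_Cert_tree lc_e_rc_9_3 lc_e_rc_18_1) (@D3.rec (fun _ => (Cert rels S Gen.e)) lc_e_rc_9_3 lc_e_rc_18_1 lc_e_rc_27_5 lc_e_Cert_tree lc_e_rc_27_1 lc_e_rc_18_1 lc_e_rc_27_1 lc_e_rc_18_1 lc_e_rc_18_1 lc_e_rc_9_3 lc_e_rc_4_3 lc_e_rc_13_3 lc_e_rc_16_1 lc_e_rc_13_3 lc_e_rc_16_5 lc_e_rc_18_1 lc_e_rc_27_5 lc_e_rc_16_5 lc_e_Cert_tree lc_e_rc_18_1 lc_e_rc_4_3 lc_e_rc_18_1 lc_e_rc_27_5 lc_e_rc_16_1 lc_e_rc_18_1 lc_e_rc_19_2 lc_e_rc_18_1 lc_e_rc_19_0 lc_e_rc_13_3 lc_e_rc_4_3 lc_e_rc_27_7 lc_e_rc_27_7 lc_e_rc_27_7 lc_e_rc_18_1 lc_e_rc_18_1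 lc_e_rc_27_5 lc_e_rc_18_1 lc_e_rc_18_1 lc_e_rc_9_1 lc_e_rc_27_5 lc_e_rc_18_1 lc_e_rc_13_1 lc_e_rc_9_1 lc_e_rc_13_3 lc_e_rc_16_5 lc_e_rc_13_3 lc_e_rc_18_1 lc_e_rc_4_1 lc_e_rc_18_1 lc_e_rc_13_3 lc_e_rc_13_3 lc_e_rc_13_3 lc_e_rc_9_3 lc_e_rc_18_1 lc_e_rc_9_3 lc_e_rc_16_5 lc_e_rc_9_3 lc_e_rc_19_2 lc_e_rc_13_3 lc_e_rc_13_3 lc_e_rc_18_1 lc_e_rc_4_3) (@D3.rec (fun _ => (Cert rels S Gen.e)) lc_e_rc_16_1 lc_e_rc_13_1 lc_e_rc_13_3 lc_e_rc_18_1 lc_e_rc_18_1 lc_e_rc_4_3 lc_e_Cert_tree lc_e_rc_18_1 lc_e_rc_13_1 lc_e_rc_19_2 lc_e_rc_13_1 lc_e_rc_18_1 lc_e_rc_16_3 lc_e_rc_18_1 lc_e_rc_16_1 lc_e_rc_27_5 lc_e_rc_4_3 lc_e_rc_16_3 lc_e_rc_27_7 lc_e_rc_16_5 lc_e_rc_18_1 lc_e_rc_13_3 lc_e_rc_4_1 lc_e_rc_18_1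 lc_e_rc_18_1 lc_e_rc_4_3 lc_e_rc_18_1 lc_e_rc_18_1 lc_e_rc_13_3 lc_e_rc_13_3 lc_e_rc_18_1 lc_e_rc_18_1 lc_e_rc_18_1 lc_e_rc_27_5 lc_e_rc_18_1 lc_e_rc_9_1 lc_e_rc_13_3 lc_e_rc_18_1 lc_e_rc_18_1 lc_e_Cert_tree lc_e_rc_18_1 lc_e_rc_18_1 lc_e_rc_18_1 lc_e_rc_16_3 lc_e_rc_18_1 lc_e_rc_13_3 lc_e_rc_16_5 lc_e_rc_9_1 lc_e_rc_16_3 lc_e_rc_18_1 lc_e_rc_9_3 lc_e_rc_4_3 lc_e_rc_19_4 lc_e_rc_27_7 lc_e_rc_18_1 lc_e_rc_18_1 lc_e_rc_18_1 lc_e_rc_18_1 lc_e_rc_9_3 lc_e_rc_18_1 lc_e_rc_18_1 lc_e_rc_16_1) (@D3.rec (fun _ => (Cert rels S Gen.e)) lc_e_rc_18_1 lc_e_rc_4_3 lc_e_rc_18_1 lc_e_rc_27_7 lc_e_rc_27_5 lc_e_rc_27_1 lc_e_rc_13_3 lc_e_rc_19_4 lc_e_rc_16_3 lc_e_rc_18_1 lc_e_rc_18_1 lc_e_rc_18_1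 lc_e_rc_13_1 lc_e_rc_9_3 lc_e_rc_16_1 lc_e_rc_27_5 lc_e_rc_18_1 lc_e_rc_18_1 lc_e_rc_16_1 lc_e_rc_27_7 lc_e_rc_16_5 lc_e_rc_27_7 lc_e_rc_27_5 lc_e_rc_27_1 lc_e_Cert_tree lc_e_Cert_tree lc_e_rc_13_3 lc_e_rc_13_3 lc_e_rc_4_1 lc_e_rc_18_1 lc_e_rc_13_3 lc_e_rc_27_5 lc_e_rc_16_5 lc_e_rc_27_5 lc_e_rc_16_3 lc_e_rc_18_1 lc_e_rc_18_1 lc_e_rc_9_1 lc_e_rc_18_1 lc_e_rc_16_3 lc_e_rc_9_3 lc_e_rc_9_1 lc_e_rc_13_3 lc_e_rc_27_5 lc_e_rc_13_3 lc_e_rc_27_1 lc_e_rc_16_5 lc_e_rc_18_1 lc_e_rc_18_1 lc_e_rc_16_1 lc_e_rc_18_1 lc_e_rc_18_1 lc_e_rc_16_1 lc_e_rc_19_4 lc_e_rc_13_3 lc_e_rc_27_5 lc_e_rc_13_3 lc_e_rc_19_4 lc_e_rc_4_3 lc_e_rc_18_1 lc_e_rc_9_3 lc_e_rc_18_1) (@D3.rec (fun _ => (Cert rels S Gen.e))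 lc_e_rc_16_5 lc_e_rc_18_1 lc_e_rc_18_1 lc_e_rc_18_1 lc_e_rc_9_3 lc_e_rc_13_3 lc_e_rc_13_1 lc_e_rc_9_3 lc_e_rc_18_1 lc_e_rc_9_3 lc_e_rc_18_1 lc_e_rc_27_5 lc_e_rc_16_1 lc_e_rc_19_4 lc_e_rc_9_3 lc_e_Cert_tree lc_e_rc_19_4 lc_e_rc_27_1 lc_e_rc_27_7 lc_e_rc_18_1 lc_e_rc_13_3 lc_e_rc_18_1 lc_e_rc_9_3 lc_e_rc_18_1 lc_e_rc_18_1 lc_e_rc_9_3 lc_e_rc_16_1 lc_e_rc_19_4 lc_e_rc_18_1 lc_e_rc_27_1 lc_e_rc_16_1 lc_e_rc_19_4 lc_e_rc_9_1 lc_e_rc_27_5 lc_e_rc_16_3 lc_e_rc_13_1 lc_e_rc_16_5 lc_e_rc_9_3 lc_e_rc_13_3 lc_e_rc_27_7 lc_e_rc_27_7 lc_e_rc_18_1 lc_e_rc_27_1 lc_e_rc_16_1 lc_e_rc_9_3 lc_e_rc_18_1 lc_e_rc_16_1 lc_e_rc_19_4 lc_e_rc_27_5 lc_e_rc_16_3 lc_e_rc_16_5 lc_e_rc_4_1 lc_e_rc_18_1 lc_e_rc_9_3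 lc_e_rc_18_1 lc_e_rc_9_1 lc_e_rc_19_2 lc_e_rc_18_1 lc_e_rc_18_1 lc_e_rc_16_1 lc_e_rc_19_4 lc_e_rc_13_3) (@D3.rec (fun _ => (Cert rels S Gen.e)) lc_e_rc_27_5 lc_e_rc_16_3 lc_e_rc_18_1 lc_e_rc_13_3 lc_e_rc_13_3 lc_e_rc_19_4 lc_e_rc_13_1 lc_e_rc_18_1 lc_e_rc_18_1 lc_e_rc_18_1 lc_e_rc_16_3 lc_e_rc_18_1 lc_e_rc_4_3 lc_e_rc_18_1 lc_e_rc_4_3 lc_e_rc_4_3 lc_e_rc_13_1 lc_e_rc_13_3 lc_e_rc_4_3 lc_e_rc_18_1 lc_e_rc_16_1 lc_e_rc_18_1 lc_e_rc_18_1 lc_e_rc_27_5 lc_e_rc_18_1 lc_e_rc_18_1 lc_e_rc_13_3 lc_e_rc_18_1 lc_e_rc_13_3 lc_e_rc_18_1 lc_e_rc_27_5 lc_e_rc_13_3 lc_e_rc_19_4 lc_e_rc_27_5 lc_e_rc_18_1 lc_e_rc_19_0 lc_e_rc_9_3 lc_e_rc_27_1 lc_e_rc_18_1 lc_e_rc_27_7 lc_e_rc_18_1 lc_e_rc_18_1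 lc_e_rc_27_5 lc_e_rc_18_1 lc_e_rc_18_1 lc_e_rc_18_1 lc_e_rc_16_1 lc_e_rc_4_3 lc_e_rc_13_1 lc_e_rc_18_1 lc_e_rc_18_1 lc_e_rc_27_7 lc_e_rc_16_5 lc_e_rc_13_3 lc_e_rc_9_1 lc_e_rc_16_1 lc_e_rc_18_1 lc_e_rc_18_1 lc_e_rc_27_5 lc_e_rc_13_1 lc_e_rc_27_5 lc_e_rc_9_3) (@D3.rec (fun _ => (Cert rels S Gen.e)) lc_e_rc_9_1 lc_e_rc_9_3 lc_e_rc_18_1 lc_e_rc_18_1 lc_e_rc_13_1 lc_e_rc_4_1 lc_e_rc_13_1 lc_e_rc_27_5 lc_e_rc_13_3 lc_e_rc_18_1 lc_e_rc_19_2 lc_e_rc_9_1 lc_e_rc_13_1 lc_e_rc_9_3 lc_e_rc_19_4 lc_e_rc_27_5 lc_e_rc_18_1 lc_e_rc_16_3 lc_e_rc_18_1 lc_e_Cert_tree lc_e_rc_18_1 lc_e_rc_16_1 lc_e_rc_19_4 lc_e_rc_16_5 lc_e_Cert_tree lc_e_rc_13_3 lc_e_Cert_tree lc_e_rc_19_0 lc_e_rc_9_3 lc_e_rc_16_5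 lc_e_rc_18_1 lc_e_rc_18_1 lc_e_rc_18_1 lc_e_rc_18_1 lc_e_rc_27_1 lc_e_rc_9_3 lc_e_rc_4_3 lc_e_rc_27_7 lc_e_rc_18_1 lc_e_rc_18_1 lc_e_rc_13_3 lc_e_rc_13_3 lc_e_rc_9_3 lc_e_rc_13_3 lc_e_rc_18_1 lc_e_rc_18_1 lc_e_rc_16_5 lc_e_rc_18_1 lc_e_rc_18_1 lc_e_rc_27_1 lc_e_rc_9_3 lc_e_rc_16_5 lc_e_rc_27_5 lc_e_rc_27_7 lc_e_rc_18_1 lc_e_rc_18_1 lc_e_rc_16_3 lc_e_rc_18_1 lc_e_rc_9_3 lc_e_rc_18_1 lc_e_rc_19_2 lc_e_rc_4_3) (@D3.rec (fun _ => (Cert rels S Gen.e)) lc_e_rc_9_3 lc_e_rc_18_1 lc_e_rc_13_1 lc_e_rc_18_1 lc_e_rc_16_1 lc_e_rc_19_4 lc_e_rc_13_3 lc_e_rc_13_3 lc_e_rc_18_1 lc_e_rc_18_1 lc_e_rc_4_1 lc_e_rc_18_1 lc_e_rc_18_1 lc_e_rc_16_1 lc_e_rc_4_1 lc_e_rc_18_1 lc_e_rc_9_3 lc_e_rc_27_5 lc_e_rc_18_1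 lc_e_rc_13_1 lc_e_rc_18_1 lc_e_rc_9_1 lc_e_rc_13_1 lc_e_rc_27_5 lc_e_rc_18_1 lc_e_rc_16_5 lc_e_rc_18_1 lc_e_rc_18_1 lc_e_rc_4_3 lc_e_rc_27_5 lc_e_rc_9_3 lc_e_rc_19_4 lc_e_rc_18_1 lc_e_rc_19_2 lc_e_rc_18_1 lc_e_rc_16_3 lc_e_rc_13_1 lc_e_rc_18_1 lc_e_rc_4_1 lc_e_rc_9_3 lc_e_rc_9_3 lc_e_rc_27_7 lc_e_rc_18_1 lc_e_rc_16_5 lc_e_rc_18_1 lc_e_rc_16_3 lc_e_rc_4_3 lc_e_rc_27_7 lc_e_rc_19_4 lc_e_rc_18_1 lc_e_rc_4_1 lc_e_rc_18_1 lc_e_rc_9_3 lc_e_rc_18_1 lc_e_rc_16_3 lc_e_rc_19_2 lc_e_rc_27_1 lc_e_rc_13_1 lc_e_rc_18_1 lc_e_rc_9_3 lc_e_rc_19_4 lc_e_rc_9_3) (@D3.rec (fun _ => (Cert rels S Gen.e)) lc_e_rc_9_3 lc_e_rc_16_5 lc_e_rc_18_1 lc_e_rc_19_0 lc_e_rc_13_3 lc_e_rc_16_1 lc_e_rc_9_3 lc_e_rc_9_1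 lc_e_rc_18_1 lc_e_rc_18_1 lc_e_rc_27_5 lc_e_rc_27_1 lc_e_rc_13_1 lc_e_rc_19_0 lc_e_rc_9_3 lc_e_rc_9_3 lc_e_rc_9_3 lc_e_rc_13_3 lc_e_rc_16_5 lc_e_rc_19_4 lc_e_rc_13_3 lc_e_rc_18_1 lc_e_rc_18_1 lc_e_rc_18_1 lc_e_rc_13_1 lc_e_rc_18_1 lc_e_rc_18_1 lc_e_rc_13_3 lc_e_rc_18_1 lc_e_rc_4_3 lc_e_rc_19_4 lc_e_rc_13_3 lc_e_rc_13_3 lc_e_rc_13_3 lc_e_rc_9_1 lc_e_rc_16_5 lc_e_rc_9_3 lc_e_rc_16_1 lc_e_rc_4_1 lc_e_Cert_tree lc_e_rc_13_3 lc_e_rc_16_3 lc_e_rc_16_3 lc_e_rc_9_3 lc_e_rc_13_3 lc_e_rc_16_3 lc_e_rc_16_3 lc_e_rc_27_5 lc_e_rc_18_1 lc_e_rc_13_3 lc_e_rc_27_7 lc_e_rc_9_3 lc_e_rc_18_1 lc_e_rc_16_3 lc_e_rc_13_3 lc_e_Cert_tree lc_e_rc_18_1 lc_e_rc_9_3 lc_e_rc_16_5 lc_e_rc_27_5 lc_e_rc_27_5 lc_e_rc_13_3)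 (@D3.rec (fun _ => (Cert rels S Gen.e)) lc_e_rc_13_1 lc_e_rc_4_3 lc_e_rc_9_3 lc_e_rc_27_7 lc_e_rc_4_1 lc_e_Cert_tree lc_e_rc_18_1 lc_e_rc_16_3 lc_e_Cert_tree lc_e_rc_18_1 lc_e_rc_18_1 lc_e_rc_13_1 lc_e_rc_13_3 lc_e_rc_13_3 lc_e_Cert_tree lc_e_rc_18_1 lc_e_rc_18_1 lc_e_rc_27_5 lc_e_rc_13_3 lc_e_rc_13_1 lc_e_rc_27_5 lc_e_Cert_tree lc_e_rc_27_1 lc_e_rc_13_1 lc_e_Cert_tree lc_e_rc_18_1 lc_e_rc_27_1 lc_e_rc_18_1 lc_e_rc_18_1 lc_e_rc_13_3 lc_e_rc_19_2 lc_e_rc_18_1 lc_e_rc_4_1 lc_e_rc_18_1 lc_e_rc_19_2 lc_e_rc_18_1 lc_e_rc_16_3 lc_e_Cert_tree lc_e_rc_18_1 lc_e_rc_18_1 lc_e_rc_18_1 lc_e_rc_16_1 lc_e_rc_18_1 lc_e_rc_18_1 lc_e_rc_9_3 lc_e_rc_16_1 lc_e_rc_18_1 lc_e_rc_4_3 lc_e_rc_18_1 lc_e_rc_9_3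 lc_e_rc_16_1 lc_e_rc_16_5 lc_e_rc_18_1 lc_e_rc_18_1 lc_e_rc_27_1 lc_e_rc_18_1 lc_e_rc_9_3 lc_e_rc_18_1 lc_e_rc_27_5 lc_e_rc_13_3 lc_e_rc_13_3 lc_e_rc_9_3) (@D3.rec (fun _ => (Cert rels S Gen.e)) lc_e_rc_16_3 lc_e_rc_13_3 lc_e_rc_4_3 lc_e_rc_9_1 lc_e_rc_9_1 lc_e_rc_9_3 lc_e_rc_4_3 lc_e_rc_13_3 lc_e_rc_4_3 lc_e_rc_13_3 lc_e_rc_18_1 lc_e_rc_18_1 lc_e_rc_13_3 lc_e_rc_16_3 lc_e_rc_13_1 lc_e_rc_9_3 lc_e_rc_9_3 lc_e_rc_18_1 lc_e_rc_18_1 lc_e_rc_27_7 lc_e_rc_4_1 lc_e_rc_27_1 lc_e_rc_16_3 lc_e_rc_9_3 lc_e_rc_18_1 lc_e_rc_9_1 lc_e_rc_16_3 lc_e_rc_18_1 lc_e_rc_16_3 lc_e_rc_19_2 lc_e_rc_13_1 lc_e_rc_16_5 lc_e_rc_13_1 lc_e_rc_13_3 lc_e_rc_9_3 lc_e_rc_27_5 lc_e_rc_19_4 lc_e_rc_18_1 lc_e_rc_9_3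 lc_e_rc_13_3 lc_e_rc_13_1 lc_e_rc_27_7 lc_e_rc_18_1 lc_e_rc_13_3 lc_e_rc_18_1 lc_e_rc_18_1 lc_e_rc_16_5 lc_e_rc_18_1 lc_e_rc_9_3 lc_e_rc_4_3 lc_e_rc_18_1 lc_e_rc_13_3 lc_e_rc_13_1 lc_e_rc_27_7 lc_e_Cert_tree lc_e_rc_18_1 lc_e_rc_4_3 lc_e_rc_16_3 lc_e_rc_27_7 lc_e_Cert_tree lc_e_rc_18_1 lc_e_rc_18_1) (@D3.rec (fun _ => (Cert rels S Gen.e)) lc_e_rc_13_1 lc_e_rc_13_3 lc_e_Cert_tree lc_e_rc_18_1 lc_e_rc_27_5 lc_e_rc_18_1 lc_e_rc_4_3 lc_e_rc_18_1 lc_e_rc_27_5 lc_e_rc_27_7 lc_e_rc_9_1 lc_e_rc_13_1 lc_e_rc_18_1 lc_e_rc_9_3 lc_e_rc_16_1 lc_e_rc_18_1 lc_e_rc_27_7 lc_e_rc_9_3 lc_e_rc_27_1 lc_e_rc_27_5 lc_e_rc_18_1 lc_e_rc_27_5 lc_e_rc_18_1 lc_e_rc_9_3 lc_e_Cert_tree lc_e_rc_18_1 lc_e_rc_18_1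 lc_e_rc_16_1 lc_e_rc_19_2 lc_e_rc_9_3 lc_e_rc_18_1 lc_e_rc_4_3 lc_e_rc_27_5 lc_e_rc_18_1 lc_e_rc_19_0 lc_e_rc_18_1 lc_e_rc_13_3 lc_e_Cert_tree lc_e_rc_16_5 lc_e_rc_4_3 lc_e_rc_13_3 lc_e_rc_18_1 lc_e_Cert_tree lc_e_rc_18_1 lc_e_rc_18_1 lc_e_rc_18_1 lc_e_rc_19_2 lc_e_rc_13_1 lc_e_rc_13_3 lc_e_rc_13_3 lc_e_rc_27_5 lc_e_rc_13_3 lc_e_rc_16_5 lc_e_rc_18_1 lc_e_rc_18_1 lc_e_rc_18_1 lc_e_rc_18_1 lc_e_rc_18_1 lc_e_rc_18_1 lc_e_rc_18_1 lc_e_rc_18_1 lc_e_rc_16_5) (@D3.rec (fun _ => (Cert rels S Gen.e)) lc_e_rc_9_1 lc_e_rc_18_1 lc_e_rc_18_1 lc_e_rc_27_5 lc_e_rc_9_3 lc_e_rc_9_3 lc_e_rc_18_1 lc_e_rc_18_1 lc_e_rc_18_1 lc_e_rc_19_0 lc_e_rc_16_3 lc_e_rc_9_3 lc_e_rc_19_2 lc_e_rc_18_1 lc_e_rc_19_2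 lc_e_rc_4_1 lc_e_rc_18_1 lc_e_rc_18_1 lc_e_rc_16_5 lc_e_rc_13_3 lc_e_rc_27_1 lc_e_rc_13_3 lc_e_rc_13_1 lc_e_rc_13_3 lc_e_rc_18_1 lc_e_rc_19_4 lc_e_rc_27_7 lc_e_rc_18_1 lc_e_rc_27_1 lc_e_rc_27_5 lc_e_rc_18_1 lc_e_rc_4_3 lc_e_rc_27_5 lc_e_Cert_tree lc_e_rc_13_3 lc_e_rc_16_3 lc_e_rc_18_1 lc_e_rc_19_4 lc_e_rc_19_4 lc_e_rc_27_5 lc_e_rc_27_1 lc_e_rc_27_1 lc_e_rc_9_1 lc_e_rc_19_0 lc_e_rc_27_5 lc_e_rc_13_1 lc_e_rc_16_1 lc_e_rc_13_1 lc_e_Cert_tree lc_e_rc_18_1 lc_e_rc_19_4 lc_e_rc_13_3 lc_e_rc_27_5 lc_e_rc_16_5 lc_e_rc_27_5 lc_e_rc_16_1 lc_e_rc_9_1 lc_e_rc_4_3 lc_e_rc_16_5 lc_e_rc_16_3 lc_e_rc_18_1 lc_e_rc_16_3) (@D3.rec (fun _ => (Cert rels S Gen.e)) lc_e_Cert_tree lc_e_rc_18_1 lc_e_rc_16_5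 lc_e_rc_16_5 lc_e_rc_13_3 lc_e_rc_19_2 lc_e_rc_16_1 lc_e_rc_4_3 lc_e_rc_9_3 lc_e_rc_9_3 lc_e_rc_27_1 lc_e_rc_18_1 lc_e_rc_18_1 lc_e_rc_13_3 lc_e_rc_16_5 lc_e_rc_18_1 lc_e_rc_27_1 lc_e_rc_19_4 lc_e_rc_9_3 lc_e_rc_13_3 lc_e_rc_27_1 lc_e_rc_18_1 lc_e_rc_4_3 lc_e_rc_18_1 lc_e_rc_19_2 lc_e_rc_18_1 lc_e_rc_16_1 lc_e_rc_13_3 lc_e_rc_27_7 lc_e_rc_13_1 lc_e_rc_9_3 lc_e_Cert_tree lc_e_rc_27_1 lc_e_rc_16_3 lc_e_rc_19_2 lc_e_rc_18_1 lc_e_rc_27_5 lc_e_rc_13_1 lc_e_rc_18_1 lc_e_rc_18_1 lc_e_rc_18_1 lc_e_rc_18_1 lc_e_rc_16_5 lc_e_rc_16_1 lc_e_rc_4_3 lc_e_rc_16_3 lc_e_rc_18_1 lc_e_rc_9_1 lc_e_rc_16_5 lc_e_rc_4_3 lc_e_Cert_tree lc_e_rc_18_1 lc_e_rc_9_1 lc_e_rc_18_1 lc_e_rc_19_2 lc_e_rc_9_3 lc_e_rc_18_1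 lc_e_rc_27_1 lc_e_rc_9_3 lc_e_rc_16_5 lc_e_rc_18_1 lc_e_rc_18_1) (@D3.rec (fun _ => (Cert rels S Gen.e)) lc_e_rc_13_1 lc_e_rc_13_1 lc_e_rc_18_1 lc_e_rc_27_5 lc_e_rc_27_5 lc_e_Cert_tree lc_e_rc_18_1 lc_e_rc_4_3 lc_e_rc_4_1 lc_e_Cert_tree lc_e_rc_18_1 lc_e_rc_18_1 lc_e_rc_27_1 lc_e_rc_9_3 lc_e_rc_9_3 lc_e_rc_4_3 lc_e_rc_16_1 lc_e_rc_9_1 lc_e_rc_18_1 lc_e_rc_27_5 lc_e_rc_19_2 lc_e_rc_18_1 lc_e_rc_27_1 lc_e_rc_9_3 lc_e_rc_18_1 lc_e_rc_27_5 lc_e_rc_13_3 lc_e_rc_13_3 lc_e_rc_4_1 lc_e_rc_13_3 lc_e_rc_9_1 lc_e_Cert_tree lc_e_rc_18_1 lc_e_rc_27_5 lc_e_rc_27_5 lc_e_rc_18_1 lc_e_rc_13_3 lc_e_Cert_tree lc_e_rc_27_7 lc_e_rc_13_3 lc_e_rc_9_1 lc_e_Cert_tree lc_e_rc_16_3 lc_e_rc_16_3 lc_e_rc_27_5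 lc_e_rc_18_1 lc_e_rc_18_1 lc_e_rc_16_5 lc_e_rc_13_3 lc_e_rc_16_5 lc_e_rc_16_1 lc_e_rc_9_1 lc_e_rc_16_5 lc_e_rc_27_5 lc_e_rc_18_1 lc_e_rc_16_3 lc_e_rc_27_7 lc_e_rc_18_1 lc_e_rc_27_5 lc_e_rc_27_5 lc_e_rc_18_1 lc_e_rc_9_1) (@D3.rec (fun _ => (Cert rels S Gen.e)) lc_e_rc_18_1 lc_e_rc_18_1 lc_e_rc_18_1 lc_e_rc_18_1 lc_e_rc_27_7 lc_e_rc_27_5 lc_e_rc_18_1 lc_e_rc_18_1 lc_e_rc_9_1 lc_e_rc_27_5 lc_e_rc_18_1 lc_e_rc_18_1 lc_e_rc_27_7 lc_e_rc_9_3 lc_e_rc_19_4 lc_e_rc_18_1 lc_e_rc_18_1 lc_e_rc_19_2 lc_e_rc_27_7 lc_e_rc_18_1 lc_e_rc_27_7 lc_e_rc_18_1 lc_e_rc_16_5 lc_e_rc_16_1 lc_e_rc_18_1 lc_e_rc_18_1 lc_e_rc_13_3 lc_e_rc_27_7 lc_e_rc_4_1 lc_e_rc_18_1 lc_e_rc_27_5 lc_e_rc_18_1 lc_e_rc_13_1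 lc_e_rc_18_1 lc_e_rc_16_5 lc_e_rc_9_3 lc_e_rc_27_1 lc_e_rc_13_3 lc_e_rc_27_1 lc_e_rc_27_5 lc_e_rc_27_7 lc_e_rc_18_1 lc_e_rc_27_5 lc_e_rc_19_4 lc_e_rc_18_1 lc_e_rc_27_5 lc_e_rc_18_1 lc_e_rc_27_5 lc_e_rc_13_3 lc_e_rc_18_1 lc_e_rc_13_3 lc_e_rc_19_2 lc_e_rc_16_5 lc_e_rc_16_5 lc_e_rc_18_1 lc_e_Cert_tree lc_e_rc_18_1 lc_e_rc_27_5 lc_e_rc_27_5 lc_e_rc_18_1 lc_e_rc_16_5 lc_e_rc_18_1) (@D3.rec (fun _ => (Cert rels S Gen.e)) lc_e_rc_27_5 lc_e_rc_13_3 lc_e_rc_4_1 lc_e_rc_16_5 lc_e_rc_13_3 lc_e_rc_16_3 lc_e_rc_9_3 lc_e_rc_18_1 lc_e_rc_18_1 lc_e_Cert_tree lc_e_rc_19_2 lc_e_rc_4_3 lc_e_rc_18_1 lc_e_rc_19_2 lc_e_rc_18_1 lc_e_rc_27_7 lc_e_rc_9_3 lc_e_rc_16_3 lc_e_rc_16_5 lc_e_rc_13_3 lc_e_rc_9_3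 lc_e_rc_27_7 lc_e_rc_18_1 lc_e_rc_27_5 lc_e_rc_13_3 lc_e_rc_27_5 lc_e_rc_13_1 lc_e_rc_18_1 lc_e_rc_18_1 lc_e_rc_13_3 lc_e_rc_18_1 lc_e_rc_27_5 lc_e_rc_18_1 lc_e_rc_13_3 lc_e_rc_9_1 lc_e_rc_18_1 lc_e_rc_9_1 lc_e_rc_16_1 lc_e_rc_19_2 lc_e_rc_18_1 lc_e_rc_9_3 lc_e_rc_16_3 lc_e_rc_18_1 lc_e_rc_18_1 lc_e_rc_9_3 lc_e_rc_18_1 lc_e_Cert_tree lc_e_rc_18_1 lc_e_rc_9_1 lc_e_rc_16_3 lc_e_rc_9_3 lc_e_rc_18_1 lc_e_rc_16_5 lc_e_rc_9_3 lc_e_rc_9_3 lc_e_rc_4_1 lc_e_rc_18_1 lc_e_rc_4_1 lc_e_rc_19_2 lc_e_rc_18_1 lc_e_rc_18_1 lc_e_rc_13_3)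
def ce_e_27 : D2 → D3 → (Cert rels S Gen.e) := @D2.rec (fun _ => D3 → (Cert rels S Gen.e)) (@D3.rec (fun _ => (Cert rels S Gen.e)) lc_e_rc_18_1 lc_e_rc_16_5 lc_e_rc_19_4 lc_e_rc_16_3 lc_e_rc_18_1 lc_e_rc_18_1 lc_e_rc_13_3 lc_e_rc_27_5 lc_e_rc_19_4 lc_e_rc_13_3 lc_e_rc_18_1 lc_e_rc_16_5 lc_e_rc_4_3 lc_e_rc_9_1 lc_e_rc_18_1 lc_e_rc_18_1 lc_e_rc_27_5 lc_e_rc_18_1 lc_e_rc_13_3 lc_e_rc_4_3 lc_e_rc_13_3 lc_e_rc_19_2 lc_e_rc_19_0 lc_e_Cert_tree lc_e_Cert_tree lc_e_rc_18_1 lc_e_rc_18_1 lc_e_rc_16_1 lc_e_rc_4_3 lc_e_rc_13_3 lc_e_rc_13_3 lc_e_Cert_tree lc_e_rc_27_7 lc_e_rc_27_1 lc_e_Cert_tree lc_e_rc_27_1 lc_e_rc_18_1 lc_e_rc_27_5 lc_e_Cert_tree lc_e_rc_18_1 lc_e_rc_9_3 lc_e_rc_16_5 lc_e_rc_9_3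 lc_e_rc_19_4 lc_e_rc_19_0 lc_e_rc_27_7 lc_e_rc_16_1 lc_e_rc_19_4 lc_e_rc_16_1 lc_e_rc_18_1 lc_e_rc_27_5 lc_e_rc_27_7 lc_e_rc_19_2 lc_e_rc_18_1 lc_e_rc_16_5 lc_e_rc_27_7 lc_e_rc_18_1 lc_e_rc_19_2 lc_e_rc_27_7 lc_e_rc_13_3 lc_e_rc_18_1 lc_e_rc_27_1) (@D3.rec (fun _ => (Cert rels S Gen.e)) lc_e_rc_13_1 lc_e_rc_18_1 lc_e_rc_27_5 lc_e_rc_16_5 lc_e_rc_9_3 lc_e_rc_18_1 lc_e_rc_16_1 lc_e_rc_9_3 lc_e_rc_9_1 lc_e_rc_16_1 lc_e_rc_18_1 lc_e_rc_9_3 lc_e_rc_9_3 lc_e_rc_16_5 lc_e_rc_9_3 lc_e_rc_19_2 lc_e_rc_18_1 lc_e_rc_18_1 lc_e_rc_18_1 lc_e_rc_18_1 lc_e_rc_18_1 lc_e_rc_9_3 lc_e_rc_9_1 lc_e_rc_18_1 lc_e_rc_18_1 lc_e_rc_18_1 lc_e_rc_13_1 lc_e_rc_18_1 lc_e_rc_18_1 lc_e_rc_18_1 lc_e_rc_13_3 lc_e_rc_16_3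 lc_e_rc_18_1 lc_e_rc_16_3 lc_e_rc_18_1 lc_e_rc_16_3 lc_e_rc_18_1 lc_e_rc_18_1 lc_e_rc_16_3 lc_e_rc_27_7 lc_e_rc_19_0 lc_e_rc_18_1 lc_e_rc_9_1 lc_e_rc_18_1 lc_e_rc_16_3 lc_e_rc_16_5 lc_e_rc_16_5 lc_e_rc_13_3 lc_e_rc_27_5 lc_e_rc_27_5 lc_e_rc_4_1 lc_e_rc_18_1 lc_e_rc_18_1 lc_e_rc_18_1 lc_e_rc_16_5 lc_e_rc_18_1 lc_e_rc_16_3 lc_e_rc_16_3 lc_e_rc_16_1 lc_e_rc_13_1 lc_e_rc_18_1 lc_e_rc_16_1) (@D3.rec (fun _ => (Cert rels S Gen.e)) lc_e_rc_4_1 lc_e_rc_18_1 lc_e_rc_18_1 lc_e_rc_13_3 lc_e_rc_13_3 lc_e_rc_27_5 lc_e_rc_18_1 lc_e_rc_18_1 lc_e_rc_27_5 lc_e_rc_27_1 lc_e_rc_27_7 lc_e_rc_16_5 lc_e_rc_13_3 lc_e_rc_16_3 lc_e_rc_18_1 lc_e_rc_16_5 lc_e_Cert_tree lc_e_rc_18_1 lc_e_rc_16_3 lc_e_rc_18_1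 lc_e_rc_19_4 lc_e_Cert_tree lc_e_rc_27_7 lc_e_rc_16_5 lc_e_rc_13_3 lc_e_rc_16_3 lc_e_rc_9_3 lc_e_rc_13_3 lc_e_rc_16_3 lc_e_rc_13_3 lc_e_rc_4_1 lc_e_rc_19_4 lc_e_rc_18_1 lc_e_rc_16_1 lc_e_rc_27_5 lc_e_rc_16_5 lc_e_rc_18_1 lc_e_rc_16_3 lc_e_rc_27_5 lc_e_rc_4_1 lc_e_rc_16_1 lc_e_rc_4_1 lc_e_rc_19_2 lc_e_rc_19_0 lc_e_rc_18_1 lc_e_rc_19_0 lc_e_rc_18_1 lc_e_rc_16_5 lc_e_rc_13_1 lc_e_rc_18_1 lc_e_rc_27_5 lc_e_rc_27_1 lc_e_rc_16_1 lc_e_rc_13_3 lc_e_rc_27_1 lc_e_rc_18_1 lc_e_rc_18_1 lc_e_rc_16_1 lc_e_rc_19_0 lc_e_rc_18_1 lc_e_rc_4_1 lc_e_rc_18_1) (@D3.rec (fun _ => (Cert rels S Gen.e)) lc_e_rc_27_1 lc_e_rc_27_5 lc_e_rc_27_5 lc_e_rc_18_1 lc_e_rc_4_3 lc_e_rc_9_1 lc_e_rc_16_5 lc_e_rc_18_1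 lc_e_rc_18_1 lc_e_rc_16_1 lc_e_rc_19_2 lc_e_rc_13_3 lc_e_rc_13_1 lc_e_rc_18_1 lc_e_rc_13_1 lc_e_rc_18_1 lc_e_rc_27_5 lc_e_rc_9_3 lc_e_rc_27_7 lc_e_rc_18_1 lc_e_rc_18_1 lc_e_rc_19_0 lc_e_rc_27_7 lc_e_rc_18_1 lc_e_rc_27_5 lc_e_rc_4_1 lc_e_rc_13_1 lc_e_rc_18_1 lc_e_rc_27_1 lc_e_rc_27_5 lc_e_rc_16_3 lc_e_rc_27_5 lc_e_rc_18_1 lc_e_rc_4_1 lc_e_rc_18_1 lc_e_rc_13_3 lc_e_rc_9_1 lc_e_rc_18_1 lc_e_rc_16_5 lc_e_rc_18_1 lc_e_rc_16_5 lc_e_rc_9_3 lc_e_rc_18_1 lc_e_rc_19_0 lc_e_rc_9_1 lc_e_rc_9_3 lc_e_rc_16_5 lc_e_rc_13_3 lc_e_rc_13_3 lc_e_rc_9_3 lc_e_rc_4_3 lc_e_rc_13_3 lc_e_rc_16_3 lc_e_rc_18_1 lc_e_rc_27_5 lc_e_rc_27_5 lc_e_rc_9_3 lc_e_rc_18_1 lc_e_rc_9_3 lc_e_rc_16_1 lc_e_rc_4_3 lc_e_rc_18_1)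 (@D3.rec (fun _ => (Cert rels S Gen.e)) lc_e_rc_9_3 lc_e_rc_13_3 lc_e_rc_18_1 lc_e_rc_18_1 lc_e_rc_9_3 lc_e_rc_13_3 lc_e_rc_27_5 lc_e_rc_4_1 lc_e_rc_9_3 lc_e_rc_13_3 lc_e_rc_9_3 lc_e_rc_13_3 lc_e_rc_27_1 lc_e_rc_9_3 lc_e_rc_9_3 lc_e_rc_18_1 lc_e_rc_4_1 lc_e_rc_18_1 lc_e_rc_13_3 lc_e_rc_9_3 lc_e_rc_16_5 lc_e_rc_4_3 lc_e_rc_18_1 lc_e_rc_16_5 lc_e_rc_9_3 lc_e_rc_27_5 lc_e_rc_16_5 lc_e_Cert_tree lc_e_rc_18_1 lc_e_rc_16_3 lc_e_rc_13_3 lc_e_Cert_tree lc_e_rc_18_1 lc_e_rc_18_1 lc_e_rc_18_1 lc_e_rc_27_7 lc_e_rc_18_1 lc_e_rc_13_3 lc_e_rc_16_1 lc_e_rc_19_4 lc_e_rc_9_3 lc_e_rc_27_7 lc_e_rc_19_2 lc_e_rc_27_5 lc_e_rc_16_3 lc_e_rc_27_1 lc_e_rc_9_3 lc_e_rc_9_1 lc_e_rc_13_3 lc_e_rc_18_1 lc_e_rc_13_3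 lc_e_rc_13_3 lc_e_rc_27_5 lc_e_rc_13_1 lc_e_rc_9_3 lc_e_rc_4_3 lc_e_rc_18_1 lc_e_rc_16_5 lc_e_rc_18_1 lc_e_rc_27_1 lc_e_rc_13_3 lc_e_rc_27_5) (@D3.rec (fun _ => (Cert rels S Gen.e)) lc_e_rc_16_1 lc_e_rc_19_4 lc_e_rc_9_3 lc_e_rc_13_3 lc_e_rc_9_3 lc_e_rc_9_1 lc_e_rc_16_3 lc_e_rc_19_4 lc_e_rc_4_3 lc_e_rc_27_5 lc_e_rc_18_1 lc_e_Cert_tree lc_e_rc_18_1 lc_e_rc_18_1 lc_e_rc_13_3 lc_e_rc_27_1 lc_e_rc_18_1 lc_e_rc_9_1 lc_e_rc_16_3 lc_e_rc_18_1 lc_e_rc_9_1 lc_e_rc_16_1 lc_e_rc_18_1 lc_e_rc_19_4 lc_e_rc_19_4 lc_e_rc_16_5 lc_e_rc_27_5 lc_e_rc_18_1 lc_e_rc_19_2 lc_e_rc_13_3 lc_e_rc_27_5 lc_e_rc_18_1 lc_e_rc_27_5 lc_e_rc_9_3 lc_e_rc_13_3 lc_e_rc_4_3 lc_e_rc_16_3 lc_e_rc_18_1 lc_e_rc_27_7 lc_e_rc_13_3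 lc_e_rc_19_2 lc_e_rc_13_1 lc_e_rc_4_1 lc_e_rc_18_1 lc_e_rc_18_1 lc_e_rc_9_3 lc_e_rc_9_3 lc_e_rc_4_3 lc_e_rc_4_3 lc_e_rc_18_1 lc_e_rc_13_3 lc_e_rc_9_3 lc_e_rc_27_1 lc_e_rc_13_1 lc_e_rc_18_1 lc_e_rc_18_1 lc_e_rc_18_1 lc_e_rc_27_5 lc_e_rc_16_5 lc_e_rc_13_1 lc_e_rc_13_3 lc_e_rc_9_3) (@D3.rec (fun _ => (Cert rels S Gen.e)) lc_e_rc_27_1 lc_e_rc_9_3 lc_e_rc_9_3 lc_e_rc_18_1 lc_e_rc_13_3 lc_e_rc_9_3 lc_e_rc_13_3 lc_e_rc_19_4 lc_e_rc_16_1 lc_e_rc_18_1 lc_e_rc_13_1 lc_e_rc_16_1 lc_e_rc_4_3 lc_e_rc_9_3 lc_e_rc_16_5 lc_e_rc_16_5 lc_e_rc_16_1 lc_e_rc_13_3 lc_e_rc_18_1 lc_e_rc_16_3 lc_e_rc_18_1 lc_e_Cert_tree lc_e_rc_18_1 lc_e_rc_9_3 lc_e_rc_13_1 lc_e_rc_16_5 lc_e_Cert_tree lc_e_rc_4_3 lc_e_rc_18_1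 lc_e_rc_4_1 lc_e_rc_19_4 lc_e_rc_19_4 lc_e_rc_9_3 lc_e_rc_27_5 lc_e_rc_27_5 lc_e_rc_18_1 lc_e_rc_16_1 lc_e_rc_9_3 lc_e_rc_9_3 lc_e_rc_13_1 lc_e_rc_4_3 lc_e_rc_9_1 lc_e_rc_27_5 lc_e_rc_18_1 lc_e_Cert_tree lc_e_rc_18_1 lc_e_Cert_tree lc_e_rc_18_1 lc_e_Cert_tree lc_e_rc_9_3 lc_e_rc_16_3 lc_e_rc_16_5 lc_e_rc_16_5 lc_e_rc_27_5 lc_e_rc_27_1 lc_e_rc_18_1 lc_e_rc_9_1 lc_e_rc_18_1 lc_e_rc_19_4 lc_e_rc_16_3 lc_e_rc_18_1 lc_e_rc_13_3) (@D3.rec (fun _ => (Cert rels S Gen.e)) lc_e_rc_18_1 lc_e_rc_18_1 lc_e_rc_18_1 lc_e_rc_27_5 lc_e_rc_19_2 lc_e_rc_16_3 lc_e_rc_18_1 lc_e_Cert_tree lc_e_rc_18_1 lc_e_rc_18_1 lc_e_Cert_tree lc_e_rc_9_3 lc_e_rc_9_3 lc_e_rc_13_3 lc_e_rc_13_3 lc_e_rc_18_1 lc_e_rc_18_1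 lc_e_rc_18_1 lc_e_rc_9_3 lc_e_rc_18_1 lc_e_rc_16_3 lc_e_Cert_tree lc_e_Cert_tree lc_e_rc_18_1 lc_e_rc_27_1 lc_e_Cert_tree lc_e_rc_18_1 lc_e_rc_4_3 lc_e_rc_18_1 lc_e_rc_27_5 lc_e_rc_16_1 lc_e_rc_16_1 lc_e_rc_13_3 lc_e_rc_18_1 lc_e_rc_13_3 lc_e_rc_27_5 lc_e_Cert_tree lc_e_rc_9_3 lc_e_rc_13_3 lc_e_rc_4_3 lc_e_rc_13_1 lc_e_rc_19_4 lc_e_rc_13_1 lc_e_rc_18_1 lc_e_rc_13_3 lc_e_rc_18_1 lc_e_Cert_tree lc_e_rc_13_3 lc_e_rc_27_7 lc_e_Cert_tree lc_e_rc_18_1 lc_e_Cert_tree lc_e_rc_9_3 lc_e_Cert_tree lc_e_rc_16_5 lc_e_rc_18_1 lc_e_rc_13_3 lc_e_rc_19_4 lc_e_rc_16_3 lc_e_rc_16_3 lc_e_rc_27_7 lc_e_rc_9_3) (@D3.rec (fun _ => (Cert rels S Gen.e)) lc_e_rc_18_1 lc_e_rc_18_1 lc_e_Cert_tree lc_e_rc_13_1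 lc_e_rc_9_3 lc_e_rc_18_1 lc_e_rc_27_5 lc_e_rc_27_7 lc_e_rc_13_3 lc_e_rc_18_1 lc_e_rc_16_5 lc_e_rc_27_7 lc_e_rc_9_3 lc_e_rc_4_1 lc_e_rc_13_3 lc_e_rc_16_3 lc_e_rc_18_1 lc_e_Cert_tree lc_e_rc_13_1 lc_e_rc_13_3 lc_e_rc_16_3 lc_e_rc_27_5 lc_e_rc_27_1 lc_e_rc_16_3 lc_e_rc_19_4 lc_e_Cert_tree lc_e_rc_18_1 lc_e_rc_27_7 lc_e_rc_27_1 lc_e_rc_18_1 lc_e_Cert_tree lc_e_rc_18_1 lc_e_rc_4_3 lc_e_Cert_tree lc_e_rc_16_3 lc_e_rc_9_1 lc_e_rc_18_1 lc_e_rc_9_3 lc_e_rc_13_3 lc_e_rc_19_4 lc_e_rc_19_4 lc_e_rc_13_3 lc_e_rc_19_2 lc_e_rc_27_1 lc_e_rc_16_3 lc_e_rc_18_1 lc_e_rc_18_1 lc_e_rc_18_1 lc_e_rc_18_1 lc_e_rc_27_5 lc_e_rc_27_1 lc_e_rc_9_3 lc_e_rc_18_1 lc_e_rc_13_3 lc_e_rc_4_3 lc_e_rc_13_3 lc_e_rc_9_3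 lc_e_rc_16_3 lc_e_rc_19_4 lc_e_rc_9_3 lc_e_rc_16_3 lc_e_rc_4_1) (@D3.rec (fun _ => (Cert rels S Gen.e)) lc_e_rc_16_3 lc_e_rc_16_3 lc_e_rc_27_7 lc_e_rc_9_3 lc_e_rc_16_1 lc_e_rc_18_1 lc_e_rc_27_1 lc_e_rc_18_1 lc_e_rc_16_1 lc_e_rc_9_3 lc_e_rc_4_3 lc_e_rc_9_3 lc_e_rc_16_3 lc_e_rc_18_1 lc_e_rc_16_1 lc_e_rc_27_5 lc_e_Cert_tree lc_e_rc_27_7 lc_e_rc_9_3 lc_e_rc_13_3 lc_e_rc_16_5 lc_e_rc_16_3 lc_e_rc_27_7 lc_e_rc_9_3 lc_e_rc_18_1 lc_e_rc_16_1 lc_e_rc_19_4 lc_e_rc_19_0 lc_e_rc_27_7 lc_e_rc_16_3 lc_e_rc_16_1 lc_e_rc_9_3 lc_e_rc_27_1 lc_e_rc_9_3 lc_e_rc_27_5 lc_e_rc_18_1 lc_e_rc_13_3 lc_e_rc_19_2 lc_e_rc_16_5 lc_e_rc_19_2 lc_e_rc_18_1 lc_e_rc_9_3 lc_e_rc_13_1 lc_e_rc_18_1 lc_e_rc_16_1 lc_e_rc_13_3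 lc_e_rc_9_3 lc_e_rc_18_1 lc_e_rc_13_3 lc_e_Cert_tree lc_e_rc_16_5 lc_e_rc_13_3 lc_e_rc_19_2 lc_e_rc_4_3 lc_e_rc_9_3 lc_e_rc_13_3 lc_e_rc_13_1 lc_e_rc_9_3 lc_e_rc_19_2 lc_e_rc_19_0 lc_e_Cert_tree lc_e_rc_18_1) (@D3.rec (fun _ => (Cert rels S Gen.e)) lc_e_rc_9_3 lc_e_Cert_tree lc_e_rc_18_1 lc_e_rc_16_5 lc_e_rc_18_1 lc_e_rc_19_4 lc_e_rc_13_1 lc_e_rc_18_1 lc_e_rc_19_4 lc_e_rc_18_1 lc_e_rc_18_1 lc_e_rc_19_4 lc_e_rc_27_5 lc_e_rc_4_1 lc_e_rc_13_3 lc_e_rc_13_3 lc_e_rc_18_1 lc_e_rc_27_7 lc_e_rc_16_5 lc_e_rc_16_1 lc_e_rc_16_1 lc_e_rc_9_3 lc_e_rc_13_1 lc_e_rc_27_5 lc_e_rc_18_1 lc_e_rc_13_3 lc_e_rc_16_5 lc_e_rc_9_1 lc_e_rc_27_7 lc_e_rc_16_1 lc_e_rc_18_1 lc_e_rc_18_1 lc_e_rc_27_5 lc_e_rc_27_7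 lc_e_rc_16_5 lc_e_rc_19_4 lc_e_rc_13_3 lc_e_rc_27_7 lc_e_rc_16_5 lc_e_rc_18_1 lc_e_rc_18_1 lc_e_rc_13_3 lc_e_Cert_tree lc_e_rc_18_1 lc_e_rc_18_1 lc_e_rc_18_1 lc_e_rc_9_3 lc_e_rc_13_3 lc_e_rc_13_3 lc_e_rc_9_3 lc_e_rc_16_1 lc_e_rc_13_3 lc_e_rc_19_2 lc_e_rc_4_3 lc_e_rc_4_1 lc_e_rc_27_5 lc_e_rc_13_3 lc_e_rc_13_1 lc_e_rc_18_1 lc_e_rc_13_3 lc_e_rc_9_1 lc_e_rc_4_3) (@D3.rec (fun _ => (Cert rels S Gen.e)) lc_e_rc_19_4 lc_e_rc_9_3 lc_e_rc_13_3 lc_e_rc_27_7 lc_e_rc_16_3 lc_e_rc_13_3 lc_e_rc_16_3 lc_e_rc_18_1 lc_e_rc_4_3 lc_e_rc_19_4 lc_e_rc_13_1 lc_e_rc_27_5 lc_e_rc_9_1 lc_e_rc_13_3 lc_e_rc_18_1 lc_e_rc_9_3 lc_e_rc_18_1 lc_e_rc_27_5 lc_e_rc_19_2 lc_e_rc_18_1 lc_e_rc_27_1 lc_e_rc_16_1 lc_e_rc_4_1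 lc_e_rc_9_3 lc_e_rc_16_5 lc_e_rc_9_3 lc_e_rc_18_1 lc_e_rc_16_3 lc_e_rc_18_1 lc_e_rc_27_1 lc_e_rc_9_3 lc_e_rc_16_3 lc_e_rc_4_3 lc_e_rc_18_1 lc_e_rc_13_1 lc_e_rc_27_5 lc_e_rc_18_1 lc_e_rc_9_3 lc_e_rc_9_3 lc_e_rc_4_3 lc_e_rc_16_1 lc_e_rc_9_3 lc_e_Cert_tree lc_e_rc_13_3 lc_e_rc_9_1 lc_e_rc_13_3 lc_e_rc_4_1 lc_e_Cert_tree lc_e_rc_9_3 lc_e_rc_27_5 lc_e_rc_4_3 lc_e_rc_16_3 lc_e_rc_13_3 lc_e_rc_13_3 lc_e_rc_16_1 lc_e_rc_13_1 lc_e_rc_18_1 lc_e_rc_16_5 lc_e_rc_13_3 lc_e_rc_18_1 lc_e_rc_16_1 lc_e_rc_27_7) (@D3.rec (fun _ => (Cert rels S Gen.e)) lc_e_rc_18_1 lc_e_rc_9_1 lc_e_rc_16_3 lc_e_rc_18_1 lc_e_rc_27_5 lc_e_rc_4_3 lc_e_rc_13_1 lc_e_rc_13_3 lc_e_Cert_tree lc_e_rc_4_3 lc_e_rc_18_1 lc_e_rc_16_1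 lc_e_rc_18_1 lc_e_rc_27_5 lc_e_rc_13_3 lc_e_rc_4_1 lc_e_rc_16_1 lc_e_rc_13_1 lc_e_rc_18_1 lc_e_rc_27_7 lc_e_rc_16_3 lc_e_rc_18_1 lc_e_Cert_tree lc_e_rc_9_3 lc_e_rc_18_1 lc_e_rc_9_1 lc_e_rc_13_3 lc_e_rc_27_7 lc_e_rc_13_1 lc_e_rc_18_1 lc_e_rc_27_5 lc_e_rc_18_1 lc_e_rc_13_3 lc_e_rc_16_3 lc_e_rc_27_5 lc_e_rc_13_3 lc_e_rc_19_0 lc_e_Cert_tree lc_e_rc_13_1 lc_e_rc_18_1 lc_e_rc_27_1 lc_e_rc_27_5 lc_e_rc_18_1 lc_e_rc_18_1 lc_e_rc_16_5 lc_e_rc_13_3 lc_e_rc_4_3 lc_e_rc_9_1 lc_e_rc_13_1 lc_e_rc_18_1 lc_e_rc_13_3 lc_e_rc_13_3 lc_e_rc_13_1 lc_e_rc_13_3 lc_e_rc_9_3 lc_e_rc_16_1 lc_e_rc_9_3 lc_e_rc_18_1 lc_e_rc_27_5 lc_e_rc_18_1 lc_e_rc_18_1 lc_e_rc_16_3) (@D3.rec (fun _ => (Cert rels S Gen.e))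 lc_e_rc_27_5 lc_e_rc_9_3 lc_e_Cert_tree lc_e_rc_19_2 lc_e_rc_18_1 lc_e_rc_18_1 lc_e_rc_16_1 lc_e_rc_16_3 lc_e_rc_18_1 lc_e_rc_18_1 lc_e_rc_16_5 lc_e_rc_13_1 lc_e_rc_27_1 lc_e_rc_19_2 lc_e_rc_16_5 lc_e_rc_13_3 lc_e_rc_4_3 lc_e_rc_13_3 lc_e_rc_4_3 lc_e_rc_13_3 lc_e_rc_18_1 lc_e_rc_16_3 lc_e_rc_18_1 lc_e_rc_16_3 lc_e_rc_18_1 lc_e_rc_16_3 lc_e_rc_9_1 lc_e_rc_27_5 lc_e_rc_13_3 lc_e_rc_27_7 lc_e_rc_16_3 lc_e_rc_27_7 lc_e_rc_13_1 lc_e_rc_18_1 lc_e_rc_27_5 lc_e_rc_18_1 lc_e_rc_27_5 lc_e_rc_16_5 lc_e_rc_19_0 lc_e_rc_18_1 lc_e_Cert_tree lc_e_rc_13_3 lc_e_rc_9_3 lc_e_rc_18_1 lc_e_rc_16_3 lc_e_rc_18_1 lc_e_rc_16_3 lc_e_rc_19_2 lc_e_rc_27_5 lc_e_rc_13_3 lc_e_rc_16_5 lc_e_rc_27_7 lc_e_rc_13_3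 lc_e_rc_4_3 lc_e_rc_13_1 lc_e_rc_18_1 lc_e_rc_13_3 lc_e_rc_18_1 lc_e_Cert_tree lc_e_rc_18_1 lc_e_rc_18_1 lc_e_Cert_tree) (@D3.rec (fun _ => (Cert rels S Gen.e)) lc_e_rc_18_1 lc_e_rc_13_3 lc_e_rc_27_5 lc_e_Cert_tree lc_e_rc_19_4 lc_e_rc_27_1 lc_e_rc_18_1 lc_e_rc_27_1 lc_e_rc_18_1 lc_e_rc_18_1 lc_e_Cert_tree lc_e_rc_18_1 lc_e_rc_9_3 lc_e_rc_27_5 lc_e_rc_13_3 lc_e_rc_9_1 lc_e_rc_16_3 lc_e_rc_18_1 lc_e_rc_16_1 lc_e_rc_13_1 lc_e_Cert_tree lc_e_rc_27_7 lc_e_rc_13_3 lc_e_rc_9_3 lc_e_rc_16_5 lc_e_rc_27_5 lc_e_rc_18_1 lc_e_Cert_tree lc_e_rc_13_1 lc_e_rc_9_1 lc_e_rc_18_1 lc_e_rc_19_2 lc_e_rc_9_1 lc_e_rc_4_3 lc_e_rc_9_1 lc_e_rc_27_1 lc_e_rc_18_1 lc_e_rc_16_3 lc_e_rc_13_3 lc_e_rc_13_1 lc_e_rc_18_1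 lc_e_rc_13_1 lc_e_rc_27_5 lc_e_rc_13_3 lc_e_Cert_tree lc_e_rc_18_1 lc_e_rc_9_1 lc_e_rc_13_3 lc_e_rc_9_3 lc_e_Cert_tree lc_e_rc_19_0 lc_e_rc_18_1 lc_e_rc_16_3 lc_e_rc_18_1 lc_e_rc_18_1 lc_e_rc_18_1 lc_e_rc_16_1 lc_e_rc_19_2 lc_e_rc_13_1 lc_e_rc_13_3 lc_e_rc_27_5 lc_e_rc_18_1) (@D3.rec (fun _ => (Cert rels S Gen.e)) lc_e_rc_27_5 lc_e_rc_18_1 lc_e_rc_13_3 lc_e_rc_9_3 lc_e_rc_18_1 lc_e_rc_18_1 lc_e_rc_16_5 lc_e_rc_16_1 lc_e_rc_16_1 lc_e_rc_27_5 lc_e_rc_13_1 lc_e_Cert_tree lc_e_rc_18_1 lc_e_rc_18_1 lc_e_rc_13_3 lc_e_rc_16_1 lc_e_rc_27_1 lc_e_rc_27_1 lc_e_rc_9_3 lc_e_Cert_tree lc_e_rc_13_3 lc_e_rc_19_4 lc_e_rc_18_1 lc_e_rc_27_1 lc_e_rc_19_2 lc_e_rc_18_1 lc_e_rc_18_1 lc_e_rc_13_3 lc_e_rc_13_3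 lc_e_rc_13_3 lc_e_rc_13_1 lc_e_rc_9_3 lc_e_rc_4_3 lc_e_rc_16_5 lc_e_rc_18_1 lc_e_rc_27_5 lc_e_rc_27_7 lc_e_rc_19_2 lc_e_rc_19_0 lc_e_rc_9_3 lc_e_rc_16_5 lc_e_rc_9_1 lc_e_rc_27_1 lc_e_rc_16_5 lc_e_rc_16_5 lc_e_rc_4_1 lc_e_rc_13_3 lc_e_rc_9_3 lc_e_rc_9_3 lc_e_rc_13_3 lc_e_rc_4_3 lc_e_rc_9_3 lc_e_rc_18_1 lc_e_rc_27_1 lc_e_rc_27_5 lc_e_rc_16_1 lc_e_rc_18_1 lc_e_rc_18_1 lc_e_rc_27_7 lc_e_rc_13_1 lc_e_rc_19_0 lc_e_rc_27_5) (@D3.rec (fun _ => (Cert rels S Gen.e)) lc_e_rc_18_1 lc_e_rc_13_3 lc_e_rc_16_1 lc_e_Cert_tree lc_e_Cert_tree lc_e_rc_19_2 lc_e_rc_18_1 lc_e_rc_16_1 lc_e_rc_4_3 lc_e_rc_4_3 lc_e_rc_9_3 lc_e_rc_18_1 lc_e_rc_18_1 lc_e_rc_9_1 lc_e_rc_16_1 lc_e_Cert_tree lc_e_rc_18_1 lc_e_rc_9_1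 lc_e_rc_16_1 lc_e_rc_18_1 lc_e_rc_18_1 lc_e_rc_9_1 lc_e_rc_16_3 lc_e_rc_18_1 lc_e_rc_9_3 lc_e_rc_19_2 lc_e_rc_13_3 lc_e_rc_18_1 lc_e_Cert_tree lc_e_rc_27_7 lc_e_rc_18_1 lc_e_rc_13_1 lc_e_rc_13_1 lc_e_rc_4_1 lc_e_rc_18_1 lc_e_rc_18_1 lc_e_rc_9_1 lc_e_rc_18_1 lc_e_rc_18_1 lc_e_rc_9_3 lc_e_rc_9_3 lc_e_rc_4_3 lc_e_rc_18_1 lc_e_rc_4_1 lc_e_rc_18_1 lc_e_rc_18_1 lc_e_rc_18_1 lc_e_rc_18_1 lc_e_rc_16_1 lc_e_rc_27_5 lc_e_rc_19_4 lc_e_rc_9_1 lc_e_rc_27_1 lc_e_rc_27_1 lc_e_rc_18_1 lc_e_rc_9_1 lc_e_rc_13_1 lc_e_rc_9_3 lc_e_rc_13_3 lc_e_rc_19_4 lc_e_rc_4_3 lc_e_rc_9_1) (@D3.rec (fun _ => (Cert rels S Gen.e)) lc_e_rc_9_1 lc_e_rc_18_1 lc_e_rc_4_1 lc_e_rc_18_1 lc_e_rc_27_7 lc_e_rc_13_3 lc_e_Cert_tree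 lc_e_rc_13_3 lc_e_rc_13_3 lc_e_rc_9_1 lc_e_rc_18_1 lc_e_rc_9_1 lc_e_rc_18_1 lc_e_rc_27_1 lc_e_rc_16_5 lc_e_rc_19_2 lc_e_rc_16_3 lc_e_rc_19_4 lc_e_rc_27_5 lc_e_rc_9_3 lc_e_rc_9_1 lc_e_rc_18_1 lc_e_rc_13_3 lc_e_rc_27_5 lc_e_rc_13_3 lc_e_rc_9_1 lc_e_rc_27_1 lc_e_rc_27_5 lc_e_rc_16_5 lc_e_rc_18_1 lc_e_rc_4_1 lc_e_rc_4_3 lc_e_rc_9_3 lc_e_rc_9_3 lc_e_rc_13_3 lc_e_Cert_tree lc_e_rc_18_1 lc_e_rc_16_1 lc_e_rc_18_1 lc_e_rc_19_2 lc_e_rc_13_3 lc_e_Cert_tree lc_e_rc_18_1 lc_e_rc_16_5 lc_e_rc_27_1 lc_e_rc_27_5 lc_e_rc_18_1 lc_e_rc_16_5 lc_e_rc_16_5 lc_e_rc_27_1 lc_e_rc_16_1 lc_e_rc_9_3 lc_e_rc_13_3 lc_e_Cert_tree lc_e_rc_27_5 lc_e_rc_4_1 lc_e_rc_18_1 lc_e_rc_16_3 lc_e_rc_13_1 lc_e_rc_18_1 lc_e_rc_27_5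 lc_e_rc_16_5) (@D3.rec (fun _ => (Cert rels S Gen.e)) lc_e_Cert_tree lc_e_Cert_tree lc_e_rc_18_1 lc_e_rc_27_1 lc_e_rc_4_3 lc_e_rc_16_5 lc_e_rc_16_3 lc_e_rc_18_1 lc_e_rc_27_5 lc_e_rc_9_3 lc_e_rc_27_7 lc_e_rc_18_1 lc_e_rc_27_5 lc_e_rc_13_3 lc_e_rc_27_1 lc_e_Cert_tree lc_e_Cert_tree lc_e_rc_9_3 lc_e_Cert_tree lc_e_rc_18_1 lc_e_rc_18_1 lc_e_rc_16_3 lc_e_Cert_tree lc_e_rc_18_1 lc_e_rc_18_1 lc_e_rc_16_5 lc_e_rc_18_1 lc_e_rc_16_5 lc_e_rc_18_1 lc_e_rc_16_5 lc_e_rc_9_1 lc_e_rc_27_7 lc_e_rc_18_1 lc_e_rc_18_1 lc_e_rc_19_4 lc_e_rc_4_3 lc_e_rc_13_3 lc_e_rc_4_3 lc_e_rc_27_7 lc_e_Cert_tree lc_e_rc_27_5 lc_e_rc_27_7 lc_e_rc_18_1 lc_e_rc_16_1 lc_e_rc_18_1 lc_e_rc_16_3 lc_e_rc_19_4 lc_e_rc_9_3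 lc_e_rc_19_0 lc_e_rc_13_3 lc_e_rc_13_1 lc_e_rc_18_1 lc_e_rc_27_5 lc_e_rc_27_5 lc_e_rc_18_1 lc_e_rc_27_1 lc_e_rc_19_4 lc_e_rc_13_1 lc_e_rc_18_1 lc_e_rc_27_7 lc_e_rc_18_1 lc_e_rc_13_3) (@D3.rec (fun _ => (Cert rels S Gen.e)) lc_e_Cert_tree lc_e_rc_27_7 lc_e_rc_18_1 lc_e_rc_13_3 lc_e_rc_18_1 lc_e_rc_27_5 lc_e_rc_18_1 lc_e_rc_27_5 lc_e_rc_19_4 lc_e_rc_27_5 lc_e_rc_13_3 lc_e_rc_18_1 lc_e_rc_13_3 lc_e_rc_18_1 lc_e_Cert_tree lc_e_Cert_tree lc_e_rc_18_1 lc_e_rc_18_1 lc_e_rc_19_2 lc_e_rc_27_7 lc_e_rc_9_1 lc_e_Cert_tree lc_e_rc_9_1 lc_e_rc_27_5 lc_e_rc_18_1 lc_e_rc_13_3 lc_e_rc_18_1 lc_e_rc_18_1 lc_e_rc_27_5 lc_e_rc_19_2 lc_e_rc_9_3 lc_e_rc_18_1 lc_e_rc_13_3 lc_e_rc_16_3 lc_e_Cert_tree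 lc_e_rc_18_1 lc_e_rc_18_1 lc_e_rc_16_1 lc_e_rc_4_3 lc_e_rc_4_3 lc_e_rc_27_5 lc_e_rc_18_1 lc_e_rc_27_7 lc_e_rc_9_1 lc_e_rc_18_1 lc_e_rc_18_1 lc_e_rc_18_1 lc_e_rc_13_3 lc_e_rc_18_1 lc_e_rc_4_3 lc_e_rc_13_3 lc_e_rc_9_3 lc_e_rc_13_3 lc_e_rc_9_3 lc_e_rc_13_3 lc_e_rc_9_3 lc_e_rc_18_1 lc_e_rc_27_7 lc_e_rc_9_1 lc_e_rc_9_3 lc_e_rc_18_1 lc_e_rc_18_1) (@D3.rec (fun _ => (Cert rels S Gen.e)) lc_e_rc_18_1 lc_e_rc_13_1 lc_e_rc_13_1 lc_e_rc_18_1 lc_e_rc_13_3 lc_e_rc_16_5 lc_e_rc_13_1 lc_e_rc_18_1 lc_e_rc_13_1 lc_e_rc_13_1 lc_e_rc_9_1 lc_e_rc_13_1 lc_e_rc_9_3 lc_e_rc_13_3 lc_e_rc_18_1 lc_e_rc_27_5 lc_e_rc_9_3 lc_e_rc_19_2 lc_e_rc_4_1 lc_e_rc_18_1 lc_e_rc_19_4 lc_e_rc_16_5 lc_e_rc_18_1 lc_e_rc_18_1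 lc_e_rc_18_1 lc_e_rc_4_3 lc_e_rc_18_1 lc_e_rc_13_3 lc_e_rc_18_1 lc_e_rc_18_1 lc_e_rc_18_1 lc_e_rc_16_1 lc_e_rc_27_5 lc_e_rc_9_3 lc_e_rc_27_7 lc_e_rc_18_1 lc_e_rc_27_5 lc_e_rc_4_3 lc_e_rc_19_2 lc_e_rc_18_1 lc_e_rc_13_3 lc_e_rc_16_5 lc_e_rc_16_5 lc_e_Cert_tree lc_e_rc_18_1 lc_e_rc_4_3 lc_e_rc_13_3 lc_e_rc_16_3 lc_e_Cert_tree lc_e_rc_18_1 lc_e_rc_27_7 lc_e_rc_9_3 lc_e_rc_18_1 lc_e_rc_27_7 lc_e_rc_16_5 lc_e_rc_18_1 lc_e_rc_16_3 lc_e_rc_13_3 lc_e_rc_18_1 lc_e_rc_16_1 lc_e_rc_27_5 lc_e_rc_16_3) (@D3.rec (fun _ => (Cert rels S Gen.e)) lc_e_rc_27_5 lc_e_rc_16_5 lc_e_rc_13_3 lc_e_rc_13_3 lc_e_rc_19_4 lc_e_rc_18_1 lc_e_rc_16_3 lc_e_rc_13_3 lc_e_rc_16_3 lc_e_rc_9_3 lc_e_rc_13_1 lc_e_rc_18_1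 lc_e_rc_16_5 lc_e_rc_4_3 lc_e_rc_27_5 lc_e_rc_16_5 lc_e_rc_4_3 lc_e_rc_18_1 lc_e_rc_18_1 lc_e_rc_19_0 lc_e_rc_18_1 lc_e_rc_9_3 lc_e_rc_18_1 lc_e_Cert_tree lc_e_rc_16_3 lc_e_rc_18_1 lc_e_rc_19_4 lc_e_rc_13_3 lc_e_rc_18_1 lc_e_rc_27_7 lc_e_rc_18_1 lc_e_rc_18_1 lc_e_rc_13_3 lc_e_rc_16_1 lc_e_rc_13_3 lc_e_rc_13_3 lc_e_rc_13_1 lc_e_rc_18_1 lc_e_rc_16_1 lc_e_rc_18_1 lc_e_rc_27_7 lc_e_rc_18_1 lc_e_rc_27_7 lc_e_Cert_tree lc_e_rc_19_2 lc_e_rc_9_3 lc_e_rc_18_1 lc_e_rc_18_1 lc_e_rc_27_5 lc_e_rc_18_1 lc_e_rc_9_1 lc_e_rc_4_3 lc_e_rc_18_1 lc_e_rc_19_0 lc_e_rc_16_5 lc_e_rc_18_1 lc_e_rc_18_1 lc_e_rc_4_3 lc_e_rc_18_1 lc_e_rc_9_1 lc_e_rc_18_1 lc_e_rc_9_1) (@D3.rec (fun _ => (Cert rels S Gen.e))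 lc_e_rc_18_1 lc_e_rc_27_7 lc_e_rc_27_7 lc_e_rc_27_7 lc_e_rc_13_3 lc_e_rc_16_1 lc_e_rc_13_3 lc_e_rc_9_3 lc_e_rc_13_1 lc_e_rc_13_3 lc_e_rc_27_5 lc_e_rc_9_3 lc_e_rc_9_3 lc_e_rc_27_7 lc_e_rc_9_3 lc_e_rc_18_1 lc_e_rc_27_1 lc_e_rc_18_1 lc_e_rc_13_3 lc_e_rc_9_3 lc_e_rc_18_1 lc_e_rc_18_1 lc_e_rc_9_3 lc_e_rc_4_3 lc_e_rc_19_4 lc_e_rc_18_1 lc_e_rc_9_1 lc_e_rc_27_1 lc_e_rc_18_1 lc_e_rc_27_1 lc_e_rc_18_1 lc_e_rc_19_0 lc_e_rc_18_1 lc_e_rc_27_5 lc_e_rc_16_5 lc_e_rc_27_5 lc_e_rc_18_1 lc_e_rc_13_3 lc_e_rc_16_3 lc_e_rc_27_1 lc_e_rc_4_3 lc_e_rc_13_1 lc_e_rc_13_3 lc_e_rc_9_1 lc_e_rc_18_1 lc_e_rc_19_2 lc_e_rc_13_1 lc_e_rc_18_1 lc_e_rc_18_1 lc_e_rc_16_5 lc_e_rc_18_1 lc_e_rc_13_3 lc_e_rc_18_1 lc_e_rc_18_1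 lc_e_rc_13_3 lc_e_rc_4_3 lc_e_rc_9_3 lc_e_rc_27_1 lc_e_rc_18_1 lc_e_rc_16_5 lc_e_rc_19_2 lc_e_rc_9_3) (@D3.rec (fun _ => (Cert rels S Gen.e)) lc_e_rc_13_3 lc_e_rc_9_3 lc_e_rc_13_3 lc_e_rc_16_5 lc_e_rc_19_2 lc_e_rc_18_1 lc_e_rc_9_3 lc_e_rc_13_3 lc_e_rc_13_3 lc_e_rc_9_1 lc_e_rc_16_3 lc_e_rc_18_1 lc_e_rc_4_3 lc_e_rc_16_5 lc_e_rc_13_3 lc_e_rc_16_5 lc_e_rc_9_3 lc_e_rc_9_3 lc_e_rc_27_5 lc_e_rc_27_1 lc_e_rc_19_2 lc_e_rc_18_1 lc_e_rc_18_1 lc_e_rc_13_3 lc_e_rc_16_3 lc_e_rc_16_3 lc_e_rc_18_1 lc_e_Cert_tree lc_e_rc_9_1 lc_e_rc_16_5 lc_e_rc_13_3 lc_e_rc_18_1 lc_e_rc_13_3 lc_e_rc_13_3 lc_e_rc_9_3 lc_e_rc_18_1 lc_e_rc_18_1 lc_e_rc_13_1 lc_e_rc_13_3 lc_e_rc_4_3 lc_e_rc_18_1 lc_e_rc_27_1 lc_e_rc_27_7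 lc_e_rc_27_7 lc_e_rc_16_3 lc_e_Cert_tree lc_e_rc_18_1 lc_e_rc_16_3 lc_e_rc_9_3 lc_e_rc_27_7 lc_e_rc_18_1 lc_e_rc_16_3 lc_e_rc_18_1 lc_e_rc_13_1 lc_e_rc_9_3 lc_e_rc_19_2 lc_e_rc_18_1 lc_e_rc_27_5 lc_e_rc_19_2 lc_e_rc_18_1 lc_e_rc_27_7 lc_e_rc_27_1) (@D3.rec (fun _ => (Cert rels S Gen.e)) lc_e_rc_18_1 lc_e_rc_27_1 lc_e_rc_27_7 lc_e_rc_13_3 lc_e_rc_27_7 lc_e_rc_16_5 lc_e_rc_16_5 lc_e_rc_13_1 lc_e_rc_16_3 lc_e_rc_13_3 lc_e_rc_18_1 lc_e_rc_9_3 lc_e_rc_18_1 lc_e_rc_16_5 lc_e_rc_9_3 lc_e_rc_13_1 lc_e_rc_13_3 lc_e_rc_4_3 lc_e_rc_13_3 lc_e_rc_4_3 lc_e_rc_16_3 lc_e_rc_9_1 lc_e_rc_18_1 lc_e_rc_16_1 lc_e_rc_9_1 lc_e_rc_4_3 lc_e_rc_27_1 lc_e_rc_27_7 lc_e_rc_9_3 lc_e_rc_16_3 lc_e_rc_16_5 lc_e_rc_27_5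 lc_e_rc_13_3 lc_e_rc_27_5 lc_e_rc_16_5 lc_e_rc_18_1 lc_e_rc_13_3 lc_e_rc_9_3 lc_e_rc_27_5 lc_e_rc_16_5 lc_e_rc_27_5 lc_e_Cert_tree lc_e_rc_27_7 lc_e_rc_19_4 lc_e_rc_27_7 lc_e_rc_18_1 lc_e_rc_13_3 lc_e_Cert_tree lc_e_rc_18_1 lc_e_rc_18_1 lc_e_rc_19_2 lc_e_rc_19_4 lc_e_rc_9_3 lc_e_rc_9_3 lc_e_rc_13_3 lc_e_rc_18_1 lc_e_rc_18_1 lc_e_rc_18_1 lc_e_rc_13_1 lc_e_Cert_tree lc_e_rc_16_1 lc_e_rc_19_4) (@D3.rec (fun _ => (Cert rels S Gen.e)) lc_e_rc_27_5 lc_e_rc_27_7 lc_e_rc_18_1 lc_e_rc_9_3 lc_e_rc_16_3 lc_e_rc_18_1 lc_e_rc_27_5 lc_e_Cert_tree lc_e_rc_18_1 lc_e_rc_18_1 lc_e_rc_16_3 lc_e_rc_27_7 lc_e_rc_13_3 lc_e_rc_13_3 lc_e_rc_4_3 lc_e_rc_4_1 lc_e_rc_16_3 lc_e_rc_9_3 lc_e_rc_16_5 lc_e_rc_4_3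 lc_e_rc_16_1 lc_e_rc_13_3 lc_e_rc_9_3 lc_e_rc_13_1 lc_e_rc_13_1 lc_e_rc_27_5 lc_e_rc_18_1 lc_e_rc_27_5 lc_e_rc_16_1 lc_e_rc_18_1 lc_e_rc_4_3 lc_e_rc_9_3 lc_e_rc_18_1 lc_e_rc_27_1 lc_e_rc_13_3 lc_e_rc_27_5 lc_e_rc_13_3 lc_e_rc_4_3 lc_e_rc_18_1 lc_e_rc_16_5 lc_e_rc_9_3 lc_e_rc_16_5 lc_e_rc_13_3 lc_e_rc_18_1 lc_e_rc_18_1 lc_e_rc_13_1 lc_e_rc_9_3 lc_e_Cert_tree lc_e_rc_18_1 lc_e_rc_27_5 lc_e_rc_16_1 lc_e_rc_19_2 lc_e_rc_16_5 lc_e_rc_18_1 lc_e_rc_19_4 lc_e_rc_18_1 lc_e_rc_18_1 lc_e_rc_18_1 lc_e_rc_4_3 lc_e_rc_13_3 lc_e_rc_4_3 lc_e_rc_18_1) (@D3.rec (fun _ => (Cert rels S Gen.e)) lc_e_rc_9_3 lc_e_rc_9_3 lc_e_rc_4_1 lc_e_rc_19_2 lc_e_rc_16_3 lc_e_rc_18_1 lc_e_rc_16_5 lc_e_rc_18_1 lc_e_rc_16_3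 lc_e_rc_16_1 lc_e_rc_16_5 lc_e_rc_9_1 lc_e_rc_9_3 lc_e_rc_13_3 lc_e_rc_18_1 lc_e_rc_13_1 lc_e_rc_9_3 lc_e_rc_18_1 lc_e_rc_16_3 lc_e_rc_19_4 lc_e_rc_27_7 lc_e_rc_18_1 lc_e_rc_27_7 lc_e_rc_13_1 lc_e_rc_4_3 lc_e_rc_9_3 lc_e_rc_9_3 lc_e_rc_27_5 lc_e_rc_19_4 lc_e_rc_13_3 lc_e_rc_16_5 lc_e_rc_13_1 lc_e_rc_13_3 lc_e_rc_27_5 lc_e_rc_18_1 lc_e_rc_16_1 lc_e_rc_9_3 lc_e_rc_18_1 lc_e_rc_16_3 lc_e_rc_9_3 lc_e_rc_9_1 lc_e_rc_18_1 lc_e_rc_27_1 lc_e_rc_18_1 lc_e_rc_27_7 lc_e_rc_16_5 lc_e_rc_18_1 lc_e_rc_4_3 lc_e_rc_16_5 lc_e_rc_16_5 lc_e_rc_18_1 lc_e_rc_4_1 lc_e_rc_27_7 lc_e_rc_18_1 lc_e_rc_18_1 lc_e_rc_27_5 lc_e_rc_18_1 lc_e_rc_16_3 lc_e_rc_13_1 lc_e_rc_13_3 lc_e_rc_18_1 lc_e_rc_9_1) (@D3.rec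 (fun _ => (Cert rels S Gen.e)) lc_e_rc_13_1 lc_e_rc_4_1 lc_e_rc_18_1 lc_e_rc_9_3 lc_e_rc_18_1 lc_e_rc_18_1 lc_e_rc_27_5 lc_e_Cert_tree lc_e_rc_9_3 lc_e_rc_18_1 lc_e_rc_18_1 lc_e_rc_16_5 lc_e_rc_9_3 lc_e_rc_16_3 lc_e_rc_13_3 lc_e_rc_18_1 lc_e_rc_13_3 lc_e_rc_16_1 lc_e_rc_16_5 lc_e_rc_18_1 lc_e_rc_16_5 lc_e_rc_27_5 lc_e_rc_18_1 lc_e_rc_16_1 lc_e_rc_16_3 lc_e_rc_9_3 lc_e_rc_16_5 lc_e_rc_18_1 lc_e_rc_13_3 lc_e_rc_18_1 lc_e_rc_18_1 lc_e_rc_16_1 lc_e_rc_16_5 lc_e_rc_19_0 lc_e_rc_27_5 lc_e_rc_27_5 lc_e_rc_9_3 lc_e_rc_13_3 lc_e_rc_27_7 lc_e_rc_16_5 lc_e_rc_18_1 lc_e_rc_13_3 lc_e_rc_4_3 lc_e_rc_18_1 lc_e_rc_13_3 lc_e_rc_13_3 lc_e_rc_16_5 lc_e_rc_18_1 lc_e_rc_18_1 lc_e_rc_18_1 lc_e_rc_9_3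 lc_e_rc_13_3 lc_e_rc_18_1 lc_e_rc_9_3 lc_e_rc_18_1 lc_e_rc_9_3 lc_e_rc_18_1 lc_e_rc_18_1 lc_e_rc_9_3 lc_e_rc_4_1 lc_e_rc_13_3 lc_e_rc_13_3) (@D3.rec (fun _ => (Cert rels S Gen.e)) lc_e_rc_27_1 lc_e_rc_9_1 lc_e_rc_16_1 lc_e_rc_18_1 lc_e_rc_4_3 lc_e_rc_27_7 lc_e_rc_18_1 lc_e_rc_27_7 lc_e_rc_27_7 lc_e_rc_13_3 lc_e_rc_9_3 lc_e_rc_18_1 lc_e_rc_18_1 lc_e_rc_13_3 lc_e_rc_16_3 lc_e_rc_16_3 lc_e_rc_13_3 lc_e_rc_18_1 lc_e_rc_9_3 lc_e_Cert_tree lc_e_rc_13_3 lc_e_rc_4_1 lc_e_rc_13_1 lc_e_rc_18_1 lc_e_rc_16_5 lc_e_rc_27_5 lc_e_rc_18_1 lc_e_rc_13_3 lc_e_rc_13_1 lc_e_rc_18_1 lc_e_rc_13_3 lc_e_rc_27_7 lc_e_rc_13_3 lc_e_rc_18_1 lc_e_rc_18_1 lc_e_rc_13_3 lc_e_rc_9_3 lc_e_rc_9_3 lc_e_rc_18_1 lc_e_rc_16_3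 lc_e_rc_18_1 lc_e_rc_16_5 lc_e_rc_9_1 lc_e_rc_9_1 lc_e_rc_13_1 lc_e_rc_13_3 lc_e_rc_18_1 lc_e_rc_13_3 lc_e_rc_13_3 lc_e_rc_27_1 lc_e_rc_18_1 lc_e_rc_9_1 lc_e_rc_13_3 lc_e_rc_9_3 lc_e_rc_13_3 lc_e_rc_16_3 lc_e_rc_27_7 lc_e_rc_16_1 lc_e_rc_13_3 lc_e_rc_16_3 lc_e_rc_18_1 lc_e_rc_9_1) (@D3.rec (fun _ => (Cert rels S Gen.e)) lc_e_rc_16_5 lc_e_rc_9_1 lc_e_rc_18_1 lc_e_rc_27_5 lc_e_rc_19_2 lc_e_rc_9_1 lc_e_rc_27_1 lc_e_rc_18_1 lc_e_rc_16_5 lc_e_rc_4_3 lc_e_rc_9_3 lc_e_rc_18_1 lc_e_rc_9_1 lc_e_rc_18_1 lc_e_rc_13_1 lc_e_rc_27_7 lc_e_rc_13_3 lc_e_rc_9_1 lc_e_rc_18_1 lc_e_rc_13_3 lc_e_rc_18_1 lc_e_rc_9_3 lc_e_rc_13_3 lc_e_rc_16_5 lc_e_rc_27_7 lc_e_rc_16_5 lc_e_rc_27_5 lc_e_rc_13_1 lc_e_rc_18_1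 lc_e_rc_13_3 lc_e_rc_27_5 lc_e_rc_27_5 lc_e_rc_18_1 lc_e_rc_4_1 lc_e_rc_16_3 lc_e_rc_19_0 lc_e_rc_16_5 lc_e_rc_18_1 lc_e_rc_18_1 lc_e_rc_18_1 lc_e_rc_9_3 lc_e_rc_18_1 lc_e_rc_4_3 lc_e_rc_16_5 lc_e_rc_18_1 lc_e_rc_18_1 lc_e_rc_27_5 lc_e_rc_16_5 lc_e_rc_27_5 lc_e_rc_18_1 lc_e_rc_18_1 lc_e_rc_18_1 lc_e_rc_16_3 lc_e_rc_19_2 lc_e_rc_18_1 lc_e_rc_16_3 lc_e_rc_18_1 lc_e_rc_18_1 lc_e_Cert_tree lc_e_rc_18_1 lc_e_rc_13_3 lc_e_rc_18_1) (@D3.rec (fun _ => (Cert rels S Gen.e)) lc_e_rc_18_1 lc_e_rc_18_1 lc_e_rc_13_3 lc_e_rc_27_5 lc_e_rc_9_3 lc_e_rc_9_1 lc_e_rc_27_7 lc_e_rc_18_1 lc_e_rc_16_3 lc_e_rc_4_1 lc_e_rc_18_1 lc_e_rc_16_3 lc_e_rc_18_1 lc_e_rc_18_1 lc_e_rc_16_3 lc_e_rc_19_4 lc_e_rc_19_0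 lc_e_rc_13_3 lc_e_rc_18_1 lc_e_rc_19_0 lc_e_rc_9_3 lc_e_rc_9_3 lc_e_rc_13_1 lc_e_rc_9_1 lc_e_rc_16_3 lc_e_rc_16_1 lc_e_rc_27_1 lc_e_rc_13_1 lc_e_rc_27_7 lc_e_rc_16_5 lc_e_rc_9_3 lc_e_rc_18_1 lc_e_rc_16_1 lc_e_rc_18_1 lc_e_rc_16_5 lc_e_rc_16_1 lc_e_rc_19_4 lc_e_rc_18_1 lc_e_rc_4_3 lc_e_rc_18_1 lc_e_rc_4_3 lc_e_rc_27_1 lc_e_rc_16_5 lc_e_rc_27_1 lc_e_rc_18_1 lc_e_rc_27_5 lc_e_rc_27_7 lc_e_rc_18_1 lc_e_rc_18_1 lc_e_rc_9_3 lc_e_rc_16_3 lc_e_rc_16_5 lc_e_rc_18_1 lc_e_rc_18_1 lc_e_rc_27_1 lc_e_rc_27_1 lc_e_rc_16_3 lc_e_rc_18_1 lc_e_rc_13_3 lc_e_rc_9_3 lc_e_rc_27_7 lc_e_rc_13_3) (@D3.rec (fun _ => (Cert rels S Gen.e)) lc_e_rc_16_5 lc_e_rc_18_1 lc_e_rc_27_5 lc_e_rc_16_1 lc_e_rc_13_3 lc_e_rc_4_3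 lc_e_rc_16_1 lc_e_rc_4_3 lc_e_rc_9_3 lc_e_rc_18_1 lc_e_rc_13_1 lc_e_rc_18_1 lc_e_rc_16_3 lc_e_rc_18_1 lc_e_rc_18_1 lc_e_rc_27_1 lc_e_rc_18_1 lc_e_rc_16_1 lc_e_rc_19_4 lc_e_rc_16_3 lc_e_Cert_tree lc_e_rc_13_3 lc_e_rc_16_3 lc_e_rc_27_7 lc_e_rc_9_3 lc_e_rc_18_1 lc_e_rc_19_4 lc_e_rc_18_1 lc_e_rc_13_1 lc_e_rc_18_1 lc_e_rc_27_7 lc_e_rc_18_1 lc_e_rc_18_1 lc_e_rc_9_3 lc_e_rc_9_3 lc_e_rc_9_3 lc_e_rc_27_5 lc_e_rc_13_1 lc_e_rc_16_3 lc_e_rc_9_3 lc_e_rc_18_1 lc_e_rc_18_1 lc_e_rc_27_7 lc_e_rc_18_1 lc_e_rc_27_1 lc_e_rc_9_3 lc_e_rc_9_1 lc_e_rc_18_1 lc_e_rc_18_1 lc_e_rc_18_1 lc_e_rc_16_5 lc_e_rc_16_1 lc_e_rc_19_2 lc_e_rc_16_3 lc_e_rc_27_5 lc_e_rc_18_1 lc_e_rc_27_5 lc_e_rc_18_1 lc_e_rc_18_1 lc_e_rc_18_1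 lc_e_rc_13_3 lc_e_rc_13_3) (@D3.rec (fun _ => (Cert rels S Gen.e)) lc_e_rc_18_1 lc_e_rc_18_1 lc_e_rc_27_5 lc_e_rc_18_1 lc_e_Cert_tree lc_e_rc_18_1 lc_e_rc_27_5 lc_e_rc_18_1 lc_e_rc_27_5 lc_e_rc_18_1 lc_e_Cert_tree lc_e_rc_13_3 lc_e_rc_18_1 lc_e_rc_18_1 lc_e_rc_13_3 lc_e_Cert_tree lc_e_rc_18_1 lc_e_rc_27_5 lc_e_rc_9_3 lc_e_rc_9_3 lc_e_rc_18_1 lc_e_rc_18_1 lc_e_Cert_tree lc_e_rc_18_1 lc_e_Cert_tree lc_e_rc_27_1 lc_e_rc_18_1 lc_e_rc_18_1 lc_e_Cert_tree lc_e_rc_16_1 lc_e_rc_9_1 lc_e_rc_13_3 lc_e_rc_16_1 lc_e_rc_19_4 lc_e_rc_13_3 lc_e_rc_27_5 lc_e_rc_13_3 lc_e_rc_18_1 lc_e_Cert_tree lc_e_rc_16_5 lc_e_rc_27_5 lc_e_rc_18_1 lc_e_rc_27_5 lc_e_rc_27_1 lc_e_rc_13_3 lc_e_rc_18_1 lc_e_Cert_tree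 lc_e_Cert_tree lc_e_rc_18_1 lc_e_rc_13_3 lc_e_rc_9_3 lc_e_rc_19_2 lc_e_rc_18_1 lc_e_rc_4_3 lc_e_rc_27_5 lc_e_Cert_tree lc_e_rc_18_1 lc_e_Cert_tree lc_e_rc_27_5 lc_e_rc_27_5 lc_e_rc_16_1 lc_e_rc_19_4) (@D3.rec (fun _ => (Cert rels S Gen.e)) lc_e_rc_13_3 lc_e_rc_18_1 lc_e_rc_18_1 lc_e_rc_27_5 lc_e_rc_18_1 lc_e_rc_19_4 lc_e_rc_13_3 lc_e_rc_19_4 lc_e_rc_18_1 lc_e_rc_9_3 lc_e_rc_13_1 lc_e_rc_16_3 lc_e_rc_18_1 lc_e_rc_16_5 lc_e_rc_18_1 lc_e_rc_18_1 lc_e_rc_4_3 lc_e_rc_13_3 lc_e_rc_19_2 lc_e_rc_18_1 lc_e_rc_16_3 lc_e_Cert_tree lc_e_rc_18_1 lc_e_rc_18_1 lc_e_rc_16_3 lc_e_rc_19_4 lc_e_rc_27_5 lc_e_rc_27_1 lc_e_rc_16_3 lc_e_rc_9_1 lc_e_Cert_tree lc_e_rc_13_3 lc_e_Cert_tree lc_e_rc_16_3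 lc_e_rc_4_3 lc_e_rc_13_1 lc_e_Cert_tree lc_e_Cert_tree lc_e_rc_18_1 lc_e_rc_13_3 lc_e_rc_18_1 lc_e_rc_16_3 lc_e_rc_27_5 lc_e_Cert_tree lc_e_rc_18_1 lc_e_rc_27_5 lc_e_rc_16_5 lc_e_rc_18_1 lc_e_rc_16_5 lc_e_rc_18_1 lc_e_rc_27_1 lc_e_rc_18_1 lc_e_rc_13_1 lc_e_rc_18_1 lc_e_rc_9_3 lc_e_rc_16_5 lc_e_rc_13_3 lc_e_rc_16_1 lc_e_rc_27_7 lc_e_rc_9_3 lc_e_rc_27_5 lc_e_rc_16_1) (@D3.rec (fun _ => (Cert rels S Gen.e)) lc_e_rc_9_3 lc_e_rc_4_3 lc_e_rc_19_0 lc_e_rc_16_3 lc_e_Cert_tree lc_e_rc_18_1 lc_e_rc_27_5 lc_e_rc_13_1 lc_e_rc_18_1 lc_e_rc_18_1 lc_e_rc_27_7 lc_e_rc_16_1 lc_e_rc_16_1 lc_e_rc_19_4 lc_e_rc_27_5 lc_e_rc_18_1 lc_e_rc_18_1 lc_e_Cert_tree lc_e_rc_9_1 lc_e_rc_27_5 lc_e_rc_18_1 lc_e_rc_9_3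 lc_e_rc_27_5 lc_e_rc_18_1 lc_e_rc_18_1 lc_e_rc_27_7 lc_e_rc_4_3 lc_e_rc_19_4 lc_e_rc_9_3 lc_e_rc_19_2 lc_e_rc_9_3 lc_e_rc_9_3 lc_e_rc_27_7 lc_e_rc_27_7 lc_e_Cert_tree lc_e_rc_18_1 lc_e_rc_27_7 lc_e_rc_9_3 lc_e_rc_4_3 lc_e_rc_19_2 lc_e_rc_27_1 lc_e_rc_27_5 lc_e_rc_16_1 lc_e_rc_19_4 lc_e_rc_4_3 lc_e_rc_18_1 lc_e_rc_18_1 lc_e_rc_27_7 lc_e_rc_18_1 lc_e_rc_18_1 lc_e_rc_18_1 lc_e_rc_13_3 lc_e_rc_16_1 lc_e_rc_16_5 lc_e_rc_18_1 lc_e_rc_18_1 lc_e_rc_13_3 lc_e_rc_13_3 lc_e_rc_16_1 lc_e_rc_19_2 lc_e_rc_18_1 lc_e_rc_4_3) (@D3.rec (fun _ => (Cert rels S Gen.e)) lc_e_rc_9_3 lc_e_rc_16_3 lc_e_rc_16_3 lc_e_rc_18_1 lc_e_rc_27_5 lc_e_rc_27_1 lc_e_rc_19_4 lc_e_rc_18_1 lc_e_rc_27_5 lc_e_rc_18_1 lc_e_rc_18_1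 lc_e_rc_16_3 lc_e_rc_9_1 lc_e_Cert_tree lc_e_rc_13_3 lc_e_rc_16_3 lc_e_Cert_tree lc_e_rc_18_1 lc_e_rc_13_1 lc_e_Cert_tree lc_e_Cert_tree lc_e_rc_18_1 lc_e_rc_18_1 lc_e_rc_4_3 lc_e_rc_9_3 lc_e_rc_18_1 lc_e_rc_16_1 lc_e_rc_19_4 lc_e_rc_4_1 lc_e_rc_18_1 lc_e_rc_4_3 lc_e_rc_13_3 lc_e_rc_13_1 lc_e_rc_19_4 lc_e_rc_9_3 lc_e_rc_27_1 lc_e_rc_27_1 lc_e_rc_13_3 lc_e_rc_13_1 lc_e_rc_18_1 lc_e_rc_16_5 lc_e_rc_13_3 lc_e_rc_27_7 lc_e_rc_16_5 lc_e_rc_18_1 lc_e_rc_27_1 lc_e_rc_13_3 lc_e_rc_18_1 lc_e_rc_19_0 lc_e_rc_18_1 lc_e_rc_18_1 lc_e_rc_16_5 lc_e_rc_18_1 lc_e_rc_13_3 lc_e_rc_27_1 lc_e_rc_18_1 lc_e_rc_18_1 lc_e_rc_27_1 lc_e_rc_13_3 lc_e_rc_18_1 lc_e_rc_18_1 lc_e_Cert_tree) (@D3.rec (fun _ =>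 (Cert rels S Gen.e)) lc_e_rc_18_1 lc_e_rc_18_1 lc_e_rc_16_3 lc_e_rc_13_3 lc_e_rc_18_1 lc_e_rc_18_1 lc_e_rc_13_3 lc_e_rc_18_1 lc_e_rc_4_3 lc_e_rc_18_1 lc_e_rc_27_7 lc_e_rc_27_5 lc_e_rc_9_3 lc_e_rc_13_3 lc_e_rc_13_3 lc_e_rc_16_5 lc_e_rc_9_3 lc_e_rc_18_1 lc_e_rc_19_2 lc_e_rc_9_3 lc_e_rc_18_1 lc_e_rc_16_5 lc_e_rc_13_1 lc_e_rc_13_3 lc_e_rc_18_1 lc_e_rc_16_1 lc_e_rc_13_3 lc_e_rc_27_5 lc_e_rc_18_1 lc_e_rc_4_3 lc_e_rc_13_1 lc_e_rc_16_1 lc_e_rc_4_1 lc_e_rc_13_1 lc_e_rc_9_3 lc_e_rc_18_1 lc_e_rc_18_1 lc_e_rc_19_2 lc_e_rc_27_7 lc_e_rc_13_3 lc_e_rc_4_3 lc_e_rc_27_7 lc_e_rc_27_1 lc_e_rc_18_1 lc_e_rc_13_3 lc_e_rc_9_3 lc_e_rc_9_3 lc_e_rc_18_1 lc_e_rc_13_3 lc_e_rc_4_1 lc_e_rc_9_1 lc_e_rc_13_1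 lc_e_rc_27_5 lc_e_rc_13_3 lc_e_rc_16_5 lc_e_Cert_tree lc_e_rc_18_1 lc_e_rc_16_5 lc_e_rc_13_3 lc_e_Cert_tree lc_e_rc_18_1 lc_e_rc_9_1) (@D3.rec (fun _ => (Cert rels S Gen.e)) lc_e_rc_18_1 lc_e_rc_16_5 lc_e_rc_13_3 lc_e_rc_4_3 lc_e_rc_16_3 lc_e_rc_19_4 lc_e_rc_13_1 lc_e_rc_18_1 lc_e_Cert_tree lc_e_rc_27_5 lc_e_rc_18_1 lc_e_rc_9_3 lc_e_rc_27_1 lc_e_rc_19_4 lc_e_rc_9_3 lc_e_rc_4_3 lc_e_rc_16_3 lc_e_rc_18_1 lc_e_rc_18_1 lc_e_rc_18_1 lc_e_rc_16_5 lc_e_rc_18_1 lc_e_rc_16_3 lc_e_rc_19_4 lc_e_rc_13_3 lc_e_rc_27_1 lc_e_rc_18_1 lc_e_rc_4_3 lc_e_rc_9_3 lc_e_rc_4_3 lc_e_rc_18_1 lc_e_rc_18_1 lc_e_rc_16_3 lc_e_rc_18_1 lc_e_rc_27_7 lc_e_rc_27_7 lc_e_rc_18_1 lc_e_rc_19_2 lc_e_rc_27_7 lc_e_rc_18_1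 lc_e_rc_18_1 lc_e_rc_16_3 lc_e_rc_19_4 lc_e_rc_13_3 lc_e_rc_4_3 lc_e_rc_9_1 lc_e_rc_16_5 lc_e_rc_18_1 lc_e_rc_9_3 lc_e_rc_18_1 lc_e_rc_18_1 lc_e_rc_9_3 lc_e_rc_4_1 lc_e_rc_27_5 lc_e_rc_18_1 lc_e_rc_18_1 lc_e_rc_9_1 lc_e_rc_9_3 lc_e_rc_9_3 lc_e_rc_27_7 lc_e_rc_4_3 lc_e_rc_13_3) (@D3.rec (fun _ => (Cert rels S Gen.e)) lc_e_rc_18_1 lc_e_rc_18_1 lc_e_rc_13_3 lc_e_rc_13_3 lc_e_rc_27_1 lc_e_rc_13_3 lc_e_rc_18_1 lc_e_rc_13_3 lc_e_rc_18_1 lc_e_rc_16_1 lc_e_rc_4_3 lc_e_rc_18_1 lc_e_rc_9_3 lc_e_Cert_tree lc_e_rc_18_1 lc_e_rc_18_1 lc_e_rc_4_3 lc_e_rc_16_1 lc_e_rc_19_4 lc_e_rc_9_3 lc_e_rc_18_1 lc_e_rc_27_5 lc_e_rc_18_1 lc_e_rc_18_1 lc_e_rc_27_7 lc_e_rc_4_3 lc_e_rc_18_1 lc_e_rc_4_3 lc_e_rc_13_3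 lc_e_rc_9_1 lc_e_Cert_tree lc_e_rc_18_1 lc_e_rc_19_4 lc_e_rc_18_1 lc_e_rc_4_3 lc_e_rc_19_2 lc_e_rc_18_1 lc_e_rc_13_3 lc_e_rc_13_3 lc_e_rc_4_3 lc_e_rc_13_3 lc_e_rc_18_1 lc_e_rc_4_3 lc_e_rc_9_3 lc_e_rc_4_3 lc_e_rc_9_3 lc_e_rc_13_3 lc_e_rc_13_3 lc_e_rc_13_3 lc_e_rc_13_3 lc_e_rc_19_0 lc_e_rc_9_3 lc_e_rc_9_3 lc_e_rc_16_3 lc_e_rc_13_3 lc_e_rc_18_1 lc_e_rc_9_1 lc_e_rc_18_1 lc_e_rc_16_3 lc_e_rc_13_3 lc_e_rc_19_0 lc_e_rc_9_1) (@D3.rec (fun _ => (Cert rels S Gen.e)) lc_e_rc_13_3 lc_e_rc_4_3 lc_e_rc_4_1 lc_e_rc_9_3 lc_e_rc_19_2 lc_e_rc_13_3 lc_e_rc_19_4 lc_e_rc_19_4 lc_e_rc_18_1 lc_e_rc_27_7 lc_e_rc_27_5 lc_e_rc_18_1 lc_e_rc_27_5 lc_e_rc_27_1 lc_e_rc_19_4 lc_e_rc_18_1 lc_e_rc_27_5 lc_e_rc_9_3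 lc_e_rc_16_3 lc_e_rc_9_3 lc_e_rc_18_1 lc_e_rc_9_3 lc_e_rc_18_1 lc_e_rc_13_1 lc_e_rc_27_1 lc_e_rc_16_1 lc_e_rc_18_1 lc_e_rc_27_1 lc_e_rc_19_4 lc_e_rc_16_3 lc_e_rc_18_1 lc_e_rc_18_1 lc_e_rc_16_5 lc_e_rc_27_5 lc_e_rc_9_3 lc_e_rc_19_4 lc_e_rc_9_1 lc_e_rc_13_1 lc_e_rc_18_1 lc_e_rc_27_7 lc_e_rc_18_1 lc_e_rc_13_3 lc_e_rc_16_3 lc_e_rc_4_3 lc_e_rc_27_7 lc_e_rc_16_3 lc_e_rc_27_7 lc_e_rc_18_1 lc_e_rc_13_3 lc_e_rc_9_1 lc_e_Cert_tree lc_e_rc_13_3 lc_e_rc_9_1 lc_e_rc_18_1 lc_e_rc_18_1 lc_e_rc_16_5 lc_e_rc_9_3 lc_e_Cert_tree lc_e_rc_27_5 lc_e_rc_18_1 lc_e_rc_18_1 lc_e_rc_18_1) (@D3.rec (fun _ => (Cert rels S Gen.e)) lc_e_rc_19_4 lc_e_rc_13_3 lc_e_rc_19_2 lc_e_rc_13_3 lc_e_rc_13_3 lc_e_Cert_tree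 lc_e_rc_18_1 lc_e_rc_9_3 lc_e_rc_18_1 lc_e_rc_18_1 lc_e_rc_27_5 lc_e_rc_9_1 lc_e_rc_19_0 lc_e_rc_4_1 lc_e_rc_19_0 lc_e_rc_13_3 lc_e_rc_27_1 lc_e_rc_16_1 lc_e_rc_18_1 lc_e_rc_19_0 lc_e_Cert_tree lc_e_rc_16_1 lc_e_rc_18_1 lc_e_rc_18_1 lc_e_rc_27_5 lc_e_rc_13_3 lc_e_rc_27_1 lc_e_rc_16_5 lc_e_rc_4_3 lc_e_rc_9_3 lc_e_rc_27_7 lc_e_rc_13_1 lc_e_rc_18_1 lc_e_rc_13_1 lc_e_rc_19_2 lc_e_rc_18_1 lc_e_rc_27_1 lc_e_rc_18_1 lc_e_rc_18_1 lc_e_rc_18_1 lc_e_rc_18_1 lc_e_rc_27_7 lc_e_rc_27_7 lc_e_rc_9_3 lc_e_rc_18_1 lc_e_rc_9_3 lc_e_rc_27_5 lc_e_Cert_tree lc_e_rc_18_1 lc_e_rc_18_1 lc_e_rc_27_5 lc_e_rc_13_3 lc_e_rc_16_1 lc_e_rc_9_3 lc_e_Cert_tree lc_e_rc_9_1 lc_e_Cert_tree lc_e_rc_13_3 lc_e_rc_27_1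 lc_e_rc_9_1 lc_e_rc_4_3 lc_e_rc_16_5) (@D3.rec (fun _ => (Cert rels S Gen.e)) lc_e_rc_9_3 lc_e_rc_18_1 lc_e_Cert_tree lc_e_rc_18_1 lc_e_rc_13_3 lc_e_rc_19_2 lc_e_rc_9_3 lc_e_rc_27_5 lc_e_rc_27_1 lc_e_rc_16_5 lc_e_rc_18_1 lc_e_rc_9_3 lc_e_rc_27_1 lc_e_rc_9_3 lc_e_rc_16_3 lc_e_rc_18_1 lc_e_rc_18_1 lc_e_rc_27_1 lc_e_rc_19_4 lc_e_rc_19_4 lc_e_rc_18_1 lc_e_rc_18_1 lc_e_rc_9_3 lc_e_rc_13_3 lc_e_rc_4_1 lc_e_rc_16_5 lc_e_rc_27_5 lc_e_rc_27_5 lc_e_rc_13_1 lc_e_rc_9_3 lc_e_rc_9_3 lc_e_rc_16_5 lc_e_rc_13_1 lc_e_rc_4_3 lc_e_rc_27_5 lc_e_rc_13_1 lc_e_rc_18_1 lc_e_rc_18_1 lc_e_Cert_tree lc_e_rc_18_1 lc_e_rc_9_3 lc_e_rc_16_5 lc_e_rc_18_1 lc_e_rc_13_1 lc_e_rc_9_3 lc_e_rc_13_1 lc_e_rc_18_1 lc_e_rc_13_1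 lc_e_rc_18_1 lc_e_rc_27_5 lc_e_rc_18_1 lc_e_rc_13_1 lc_e_rc_18_1 lc_e_rc_27_1 lc_e_rc_9_1 lc_e_rc_13_3 lc_e_rc_18_1 lc_e_rc_18_1 lc_e_rc_19_4 lc_e_rc_4_3 lc_e_rc_27_1 lc_e_rc_18_1) (@D3.rec (fun _ => (Cert rels S Gen.e)) lc_e_rc_18_1 lc_e_rc_18_1 lc_e_rc_27_1 lc_e_rc_19_2 lc_e_rc_27_5 lc_e_rc_18_1 lc_e_rc_27_5 lc_e_rc_9_3 lc_e_rc_16_5 lc_e_rc_27_7 lc_e_rc_9_3 lc_e_rc_27_5 lc_e_rc_18_1 lc_e_rc_27_1 lc_e_rc_27_5 lc_e_rc_13_3 lc_e_rc_18_1 lc_e_rc_16_5 lc_e_rc_9_3 lc_e_rc_19_4 lc_e_rc_16_1 lc_e_rc_27_1 lc_e_Cert_tree lc_e_rc_18_1 lc_e_rc_13_3 lc_e_rc_13_3 lc_e_rc_19_4 lc_e_rc_9_3 lc_e_rc_18_1 lc_e_rc_4_1 lc_e_rc_13_3 lc_e_rc_19_2 lc_e_Cert_tree lc_e_rc_13_1 lc_e_rc_4_3 lc_e_rc_16_3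 lc_e_rc_4_3 lc_e_rc_13_1 lc_e_rc_27_7 lc_e_rc_18_1 lc_e_rc_27_5 lc_e_rc_27_5 lc_e_rc_18_1 lc_e_rc_16_1 lc_e_rc_16_5 lc_e_rc_16_3 lc_e_rc_13_3 lc_e_rc_4_3 lc_e_rc_16_5 lc_e_rc_18_1 lc_e_rc_27_5 lc_e_rc_16_1 lc_e_rc_27_5 lc_e_rc_18_1 lc_e_rc_4_1 lc_e_rc_27_1 lc_e_rc_18_1 lc_e_rc_18_1 lc_e_rc_16_5 lc_e_rc_19_0 lc_e_rc_13_3 lc_e_rc_18_1) (@D3.rec (fun _ => (Cert rels S Gen.e)) lc_e_rc_16_5 lc_e_rc_13_3 lc_e_rc_27_5 lc_e_rc_27_5 lc_e_rc_18_1 lc_e_rc_13_3 lc_e_rc_18_1 lc_e_rc_13_1 lc_e_rc_18_1 lc_e_rc_9_1 lc_e_rc_27_1 lc_e_rc_19_0 lc_e_rc_27_1 lc_e_rc_16_5 lc_e_rc_18_1 lc_e_rc_27_5 lc_e_rc_18_1 lc_e_rc_27_5 lc_e_rc_27_5 lc_e_rc_27_1 lc_e_rc_27_5 lc_e_rc_9_3 lc_e_rc_18_1 lc_e_rc_13_3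 lc_e_rc_9_3 lc_e_rc_27_7 lc_e_rc_16_5 lc_e_rc_27_5 lc_e_rc_19_4 lc_e_rc_27_1 lc_e_rc_18_1 lc_e_rc_16_1 lc_e_rc_19_0 lc_e_rc_27_1 lc_e_rc_18_1 lc_e_rc_18_1 lc_e_rc_18_1 lc_e_rc_18_1 lc_e_rc_18_1 lc_e_rc_18_1 lc_e_rc_27_5 lc_e_rc_27_5 lc_e_rc_18_1 lc_e_rc_13_1 lc_e_rc_18_1 lc_e_rc_13_3 lc_e_rc_27_5 lc_e_rc_27_5 lc_e_rc_18_1 lc_e_rc_16_1 lc_e_rc_13_3 lc_e_rc_27_7 lc_e_rc_16_5 lc_e_rc_27_5 lc_e_rc_27_5 lc_e_rc_16_5 lc_e_rc_16_5 lc_e_rc_19_2 lc_e_rc_13_3 lc_e_rc_18_1 lc_e_rc_18_1 lc_e_rc_13_3) (@D3.rec (fun _ => (Cert rels S Gen.e)) lc_e_rc_13_3 lc_e_rc_13_1 lc_e_rc_16_3 lc_e_Cert_tree lc_e_rc_16_5 lc_e_rc_9_3 lc_e_rc_18_1 lc_e_rc_27_5 lc_e_rc_27_5 lc_e_rc_18_1 lc_e_rc_18_1 lc_e_rc_19_4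 lc_e_rc_9_3 lc_e_rc_13_1 lc_e_rc_13_3 lc_e_rc_18_1 lc_e_rc_13_3 lc_e_rc_13_3 lc_e_rc_9_3 lc_e_rc_13_3 lc_e_rc_16_5 lc_e_rc_18_1 lc_e_rc_9_1 lc_e_rc_18_1 lc_e_rc_13_3 lc_e_rc_19_4 lc_e_rc_18_1 lc_e_rc_16_3 lc_e_rc_27_1 lc_e_rc_19_4 lc_e_rc_18_1 lc_e_rc_27_7 lc_e_rc_27_5 lc_e_rc_13_1 lc_e_rc_27_5 lc_e_rc_18_1 lc_e_rc_18_1 lc_e_rc_18_1 lc_e_rc_13_3 lc_e_rc_18_1 lc_e_rc_9_1 lc_e_rc_13_3 lc_e_rc_18_1 lc_e_rc_27_7 lc_e_rc_18_1 lc_e_rc_19_0 lc_e_rc_27_7 lc_e_rc_9_3 lc_e_rc_4_3 lc_e_rc_18_1 lc_e_rc_18_1 lc_e_rc_16_1 lc_e_rc_18_1 lc_e_rc_9_1 lc_e_rc_13_3 lc_e_rc_9_1 lc_e_Cert_tree lc_e_rc_18_1 lc_e_rc_13_3 lc_e_rc_27_5 lc_e_rc_18_1 lc_e_rc_27_5) (@D3.rec (fun _ => (Cert rels S Gen.e))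 lc_e_rc_9_1 lc_e_rc_18_1 lc_e_rc_18_1 lc_e_rc_27_5 lc_e_rc_27_7 lc_e_rc_4_1 lc_e_rc_18_1 lc_e_rc_16_5 lc_e_rc_18_1 lc_e_rc_27_5 lc_e_rc_19_4 lc_e_rc_13_3 lc_e_rc_16_3 lc_e_rc_9_1 lc_e_rc_27_5 lc_e_rc_13_3 lc_e_rc_27_5 lc_e_rc_9_1 lc_e_rc_18_1 lc_e_rc_27_5 lc_e_rc_9_1 lc_e_rc_13_3 lc_e_rc_9_1 lc_e_rc_19_4 lc_e_rc_19_4 lc_e_rc_13_3 lc_e_rc_16_1 lc_e_rc_13_3 lc_e_rc_13_3 lc_e_rc_27_1 lc_e_rc_13_3 lc_e_rc_16_3 lc_e_rc_18_1 lc_e_rc_4_3 lc_e_rc_19_4 lc_e_rc_18_1 lc_e_rc_18_1 lc_e_rc_9_3 lc_e_rc_27_1 lc_e_rc_27_5 lc_e_rc_18_1 lc_e_rc_4_1 lc_e_rc_18_1 lc_e_rc_27_5 lc_e_rc_9_3 lc_e_rc_16_5 lc_e_rc_4_3 lc_e_rc_19_4 lc_e_rc_16_5 lc_e_rc_13_3 lc_e_rc_4_3 lc_e_rc_18_1 lc_e_rc_18_1 lc_e_rc_16_3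 lc_e_rc_27_5 lc_e_rc_27_5 lc_e_rc_13_3 lc_e_rc_9_3 lc_e_rc_27_5 lc_e_rc_18_1 lc_e_rc_18_1 lc_e_rc_13_3) (@D3.rec (fun _ => (Cert rels S Gen.e)) lc_e_rc_16_3 lc_e_rc_18_1 lc_e_rc_13_3 lc_e_rc_18_1 lc_e_rc_16_5 lc_e_rc_4_3 lc_e_rc_9_3 lc_e_rc_13_3 lc_e_rc_9_1 lc_e_rc_4_3 lc_e_rc_27_5 lc_e_rc_9_3 lc_e_rc_18_1 lc_e_rc_18_1 lc_e_rc_9_1 lc_e_rc_18_1 lc_e_rc_16_3 lc_e_rc_27_5 lc_e_rc_27_5 lc_e_rc_27_5 lc_e_rc_18_1 lc_e_rc_13_1 lc_e_rc_27_7 lc_e_rc_13_3 lc_e_rc_18_1 lc_e_rc_27_5 lc_e_rc_19_2 lc_e_rc_13_3 lc_e_rc_13_3 lc_e_rc_13_3 lc_e_rc_16_3 lc_e_rc_18_1 lc_e_rc_27_1 lc_e_rc_27_7 lc_e_rc_18_1 lc_e_rc_27_5 lc_e_rc_13_1 lc_e_rc_13_1 lc_e_rc_9_1 lc_e_rc_18_1 lc_e_rc_16_3 lc_e_rc_18_1 lc_e_rc_16_5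 lc_e_rc_27_1 lc_e_rc_27_7 lc_e_rc_18_1 lc_e_rc_27_1 lc_e_rc_27_7 lc_e_rc_18_1 lc_e_rc_16_5 lc_e_rc_18_1 lc_e_rc_9_1 lc_e_rc_18_1 lc_e_rc_27_5 lc_e_rc_4_3 lc_e_rc_9_3 lc_e_rc_9_1 lc_e_rc_18_1 lc_e_rc_9_3 lc_e_rc_18_1 lc_e_rc_19_4 lc_e_rc_19_4) (@D3.rec (fun _ => (Cert rels S Gen.e)) lc_e_rc_9_3 lc_e_rc_18_1 lc_e_rc_9_3 lc_e_Cert_tree lc_e_rc_18_1 lc_e_rc_16_5 lc_e_rc_18_1 lc_e_rc_18_1 lc_e_rc_16_3 lc_e_rc_18_1 lc_e_rc_27_1 lc_e_rc_13_3 lc_e_rc_9_3 lc_e_rc_13_3 lc_e_rc_13_1 lc_e_rc_27_1 lc_e_rc_9_3 lc_e_rc_4_1 lc_e_rc_27_7 lc_e_rc_27_1 lc_e_rc_18_1 lc_e_rc_27_1 lc_e_rc_4_3 lc_e_rc_16_1 lc_e_rc_27_7 lc_e_rc_9_3 lc_e_rc_13_3 lc_e_rc_13_3 lc_e_rc_19_0 lc_e_rc_18_1 lc_e_rc_13_3 lc_e_rc_4_3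 lc_e_rc_16_5 lc_e_rc_4_1 lc_e_rc_9_3 lc_e_rc_9_1 lc_e_rc_9_3 lc_e_rc_18_1 lc_e_Cert_tree lc_e_rc_13_3 lc_e_Cert_tree lc_e_rc_18_1 lc_e_rc_27_5 lc_e_rc_16_1 lc_e_rc_18_1 lc_e_rc_18_1 lc_e_rc_13_1 lc_e_rc_9_3 lc_e_rc_18_1 lc_e_rc_19_0 lc_e_rc_4_3 lc_e_rc_19_4 lc_e_rc_18_1 lc_e_rc_13_1 lc_e_rc_19_4 lc_e_rc_27_5 lc_e_rc_13_3 lc_e_rc_16_3 lc_e_rc_18_1 lc_e_rc_13_3 lc_e_rc_13_3 lc_e_rc_18_1) (@D3.rec (fun _ => (Cert rels S Gen.e)) lc_e_rc_16_1 lc_e_rc_9_1 lc_e_rc_9_1 lc_e_rc_13_3 lc_e_rc_16_5 lc_e_rc_27_1 lc_e_rc_18_1 lc_e_rc_13_1 lc_e_rc_18_1 lc_e_rc_16_5 lc_e_rc_16_5 lc_e_rc_13_3 lc_e_rc_18_1 lc_e_rc_27_1 lc_e_rc_9_3 lc_e_rc_16_5 lc_e_rc_18_1 lc_e_rc_27_1 lc_e_rc_18_1 lc_e_rc_4_1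 lc_e_rc_16_3 lc_e_rc_27_7 lc_e_rc_9_3 lc_e_rc_16_3 lc_e_rc_27_5 lc_e_rc_18_1 lc_e_rc_27_5 lc_e_rc_4_3 lc_e_rc_18_1 lc_e_rc_16_5 lc_e_rc_16_1 lc_e_rc_16_5 lc_e_rc_16_3 lc_e_rc_18_1 lc_e_rc_18_1 lc_e_rc_13_1 lc_e_rc_16_5 lc_e_rc_16_5 lc_e_rc_27_5 lc_e_rc_4_1 lc_e_rc_16_3 lc_e_rc_27_7 lc_e_rc_19_2 lc_e_rc_13_3 lc_e_rc_16_5 lc_e_rc_4_3 lc_e_rc_27_1 lc_e_rc_16_3 lc_e_rc_27_1 lc_e_rc_18_1 lc_e_rc_27_1 lc_e_rc_27_5 lc_e_rc_19_2 lc_e_rc_16_3 lc_e_rc_16_5 lc_e_rc_27_5 lc_e_rc_13_3 lc_e_rc_27_5 lc_e_rc_18_1 lc_e_rc_19_4 lc_e_rc_16_3 lc_e_rc_16_1) (@D3.rec (fun _ => (Cert rels S Gen.e)) lc_e_rc_18_1 lc_e_rc_16_5 lc_e_rc_18_1 lc_e_rc_18_1 lc_e_rc_4_3 lc_e_rc_13_3 lc_e_rc_9_1 lc_e_rc_9_3 lc_e_rc_18_1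 lc_e_rc_16_1 lc_e_rc_9_1 lc_e_rc_18_1 lc_e_rc_18_1 lc_e_rc_9_3 lc_e_rc_18_1 lc_e_rc_19_0 lc_e_rc_9_3 lc_e_Cert_tree lc_e_rc_18_1 lc_e_rc_16_3 lc_e_rc_13_3 lc_e_rc_9_3 lc_e_rc_18_1 lc_e_rc_13_3 lc_e_rc_9_1 lc_e_rc_9_3 lc_e_rc_4_3 lc_e_rc_18_1 lc_e_rc_18_1 lc_e_rc_16_5 lc_e_rc_16_3 lc_e_rc_9_3 lc_e_rc_16_1 lc_e_rc_9_1 lc_e_rc_19_4 lc_e_rc_16_3 lc_e_rc_9_3 lc_e_rc_9_1 lc_e_rc_27_1 lc_e_Cert_tree lc_e_rc_18_1 lc_e_rc_4_3 lc_e_rc_16_3 lc_e_rc_16_1 lc_e_rc_13_1 lc_e_rc_9_3 lc_e_rc_18_1 lc_e_rc_18_1 lc_e_Cert_tree lc_e_rc_18_1 lc_e_rc_13_3 lc_e_rc_16_1 lc_e_rc_4_1 lc_e_rc_18_1 lc_e_rc_16_3 lc_e_rc_19_4 lc_e_rc_18_1 lc_e_rc_18_1 lc_e_rc_18_1 lc_e_rc_18_1 lc_e_rc_18_1 lc_e_rc_18_1) (@D3.rec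 (fun _ => (Cert rels S Gen.e)) lc_e_rc_16_1 lc_e_rc_19_4 lc_e_rc_9_3 lc_e_rc_16_5 lc_e_Cert_tree lc_e_rc_16_3 lc_e_rc_18_1 lc_e_rc_18_1 lc_e_rc_13_3 lc_e_rc_4_3 lc_e_rc_9_1 lc_e_Cert_tree lc_e_rc_18_1 lc_e_rc_18_1 lc_e_rc_4_1 lc_e_rc_13_3 lc_e_rc_18_1 lc_e_rc_4_3 lc_e_rc_18_1 lc_e_rc_4_3 lc_e_rc_27_5 lc_e_rc_27_7 lc_e_rc_27_5 lc_e_rc_27_1 lc_e_rc_18_1 lc_e_rc_18_1 lc_e_rc_27_5 lc_e_rc_16_1 lc_e_rc_13_3 lc_e_rc_9_1 lc_e_rc_18_1 lc_e_rc_4_1 lc_e_rc_19_0 lc_e_rc_18_1 lc_e_rc_18_1 lc_e_rc_18_1 lc_e_rc_27_7 lc_e_rc_16_5 lc_e_rc_18_1 lc_e_rc_9_3 lc_e_Cert_tree lc_e_rc_18_1 lc_e_rc_9_3 lc_e_rc_18_1 lc_e_rc_9_1 lc_e_rc_9_1 lc_e_rc_4_3 lc_e_rc_18_1 lc_e_rc_9_3 lc_e_rc_18_1 lc_e_rc_18_1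 lc_e_rc_16_3 lc_e_rc_19_2 lc_e_rc_18_1 lc_e_rc_18_1 lc_e_rc_18_1 lc_e_rc_27_5 lc_e_rc_13_3 lc_e_rc_16_3 lc_e_rc_16_1 lc_e_rc_18_1 lc_e_rc_18_1) (@D3.rec (fun _ => (Cert rels S Gen.e)) lc_e_rc_16_5 lc_e_rc_16_1 lc_e_rc_19_4 lc_e_rc_19_2 lc_e_rc_9_1 lc_e_rc_16_5 lc_e_rc_27_7 lc_e_rc_27_1 lc_e_rc_4_3 lc_e_rc_16_5 lc_e_rc_4_1 lc_e_rc_13_1 lc_e_rc_18_1 lc_e_rc_9_1 lc_e_Cert_tree lc_e_rc_18_1 lc_e_rc_9_3 lc_e_rc_13_3 lc_e_rc_4_1 lc_e_rc_19_0 lc_e_rc_19_0 lc_e_rc_16_1 lc_e_rc_18_1 lc_e_rc_27_1 lc_e_rc_27_5 lc_e_rc_9_3 lc_e_rc_18_1 lc_e_rc_19_4 lc_e_rc_18_1 lc_e_rc_27_7 lc_e_rc_18_1 lc_e_rc_9_1 lc_e_rc_19_4 lc_e_rc_19_4 lc_e_rc_9_3 lc_e_rc_9_3 lc_e_rc_16_1 lc_e_rc_19_2 lc_e_rc_13_1 lc_e_rc_13_3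 lc_e_rc_18_1 lc_e_rc_27_5 lc_e_Cert_tree lc_e_rc_18_1 lc_e_rc_27_1 lc_e_rc_18_1 lc_e_rc_13_3 lc_e_Cert_tree lc_e_rc_13_1 lc_e_rc_18_1 lc_e_rc_9_3 lc_e_rc_16_1 lc_e_rc_13_1 lc_e_Cert_tree lc_e_rc_16_1 lc_e_rc_9_3 lc_e_rc_16_3 lc_e_rc_13_1 lc_e_rc_18_1 lc_e_rc_18_1 lc_e_rc_18_1 lc_e_rc_13_3) (@D3.rec (fun _ => (Cert rels S Gen.e)) lc_e_Cert_tree lc_e_rc_16_1 lc_e_rc_19_4 lc_e_rc_19_0 lc_e_rc_19_4 lc_e_rc_27_5 lc_e_rc_13_3 lc_e_rc_18_1 lc_e_rc_18_1 lc_e_Cert_tree lc_e_rc_18_1 lc_e_rc_18_1 lc_e_rc_9_3 lc_e_rc_27_5 lc_e_rc_9_1 lc_e_rc_19_2 lc_e_rc_18_1 lc_e_rc_13_3 lc_e_rc_16_1 lc_e_rc_19_4 lc_e_rc_9_1 lc_e_Cert_tree lc_e_rc_9_3 lc_e_rc_27_7 lc_e_rc_18_1 lc_e_rc_16_5 lc_e_rc_16_3 lc_e_rc_18_1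 lc_e_rc_18_1 lc_e_rc_27_5 lc_e_rc_9_3 lc_e_rc_18_1 lc_e_rc_13_3 lc_e_rc_16_1 lc_e_rc_27_5 lc_e_rc_27_7 lc_e_rc_16_1 lc_e_rc_13_3 lc_e_Cert_tree lc_e_rc_9_3 lc_e_rc_19_2 lc_e_rc_18_1 lc_e_rc_18_1 lc_e_rc_27_1 lc_e_rc_18_1 lc_e_rc_18_1 lc_e_rc_13_1 lc_e_rc_13_3 lc_e_rc_18_1 lc_e_rc_16_1 lc_e_rc_18_1 lc_e_rc_4_1 lc_e_rc_18_1 lc_e_rc_27_1 lc_e_rc_18_1 lc_e_rc_9_3 lc_e_rc_18_1 lc_e_rc_18_1 lc_e_Cert_tree lc_e_Cert_tree lc_e_rc_16_1 lc_e_rc_19_2) (@D3.rec (fun _ => (Cert rels S Gen.e)) lc_e_rc_13_3 lc_e_rc_13_3 lc_e_rc_16_1 lc_e_rc_18_1 lc_e_rc_27_5 lc_e_Cert_tree lc_e_rc_18_1 lc_e_rc_13_3 lc_e_rc_9_3 lc_e_rc_13_3 lc_e_rc_9_3 lc_e_rc_13_3 lc_e_Cert_tree lc_e_rc_18_1 lc_e_rc_4_3 lc_e_rc_16_3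 lc_e_rc_18_1 lc_e_rc_13_1 lc_e_rc_27_5 lc_e_rc_27_5 lc_e_rc_13_3 lc_e_rc_18_1 lc_e_rc_16_1 lc_e_rc_4_3 lc_e_rc_9_3 lc_e_rc_13_3 lc_e_rc_13_3 lc_e_rc_19_2 lc_e_rc_27_5 lc_e_rc_16_1 lc_e_rc_9_3 lc_e_rc_18_1 lc_e_rc_16_3 lc_e_Cert_tree lc_e_rc_18_1 lc_e_rc_13_3 lc_e_rc_18_1 lc_e_rc_18_1 lc_e_rc_9_3 lc_e_Cert_tree lc_e_Cert_tree lc_e_rc_13_1 lc_e_rc_18_1 lc_e_rc_4_1 lc_e_rc_16_3 lc_e_rc_18_1 lc_e_rc_27_7 lc_e_rc_18_1 lc_e_rc_18_1 lc_e_rc_18_1 lc_e_rc_18_1 lc_e_rc_16_3 lc_e_rc_19_2 lc_e_rc_18_1 lc_e_rc_18_1 lc_e_Cert_tree lc_e_rc_13_3 lc_e_rc_18_1 lc_e_rc_16_3 lc_e_rc_18_1 lc_e_rc_18_1 lc_e_rc_13_1) (@D3.rec (fun _ => (Cert rels S Gen.e)) lc_e_rc_9_3 lc_e_rc_13_1 lc_e_rc_9_1 lc_e_rc_18_1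 lc_e_rc_18_1 lc_e_rc_13_3 lc_e_rc_9_3 lc_e_rc_27_1 lc_e_rc_16_1 lc_e_rc_16_3 lc_e_rc_18_1 lc_e_rc_27_7 lc_e_rc_18_1 lc_e_rc_27_5 lc_e_rc_13_3 lc_e_rc_16_3 lc_e_rc_13_3 lc_e_rc_13_3 lc_e_rc_13_1 lc_e_rc_13_1 lc_e_rc_13_3 lc_e_rc_13_3 lc_e_rc_27_5 lc_e_rc_27_1 lc_e_rc_9_3 lc_e_rc_4_3 lc_e_rc_9_3 lc_e_rc_18_1 lc_e_rc_9_3 lc_e_rc_27_5 lc_e_rc_16_5 lc_e_rc_27_5 lc_e_rc_13_3 lc_e_rc_19_0 lc_e_rc_19_0 lc_e_rc_18_1 lc_e_rc_27_5 lc_e_rc_18_1 lc_e_rc_13_3 lc_e_rc_13_1 lc_e_Cert_tree lc_e_rc_18_1 lc_e_rc_13_3 lc_e_rc_9_3 lc_e_rc_9_3 lc_e_rc_16_3 lc_e_rc_13_3 lc_e_rc_16_1 lc_e_rc_19_4 lc_e_rc_18_1 lc_e_rc_16_3 lc_e_rc_18_1 lc_e_rc_9_1 lc_e_rc_18_1 lc_e_rc_9_3 lc_e_rc_18_1 lc_e_rc_18_1 lc_e_rc_18_1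 lc_e_rc_18_1 lc_e_rc_16_1 lc_e_rc_18_1 lc_e_rc_13_3) (@D3.rec (fun _ => (Cert rels S Gen.e)) lc_e_rc_13_3 lc_e_rc_16_5 lc_e_rc_16_5 lc_e_rc_4_3 lc_e_rc_18_1 lc_e_rc_18_1 lc_e_rc_18_1 lc_e_rc_13_3 lc_e_rc_27_7 lc_e_rc_16_3 lc_e_rc_4_3 lc_e_rc_4_3 lc_e_rc_27_5 lc_e_rc_18_1 lc_e_rc_16_5 lc_e_rc_18_1 lc_e_rc_9_3 lc_e_rc_18_1 lc_e_rc_27_1 lc_e_rc_18_1 lc_e_rc_13_1 lc_e_rc_9_3 lc_e_rc_27_7 lc_e_rc_16_5 lc_e_rc_19_0 lc_e_rc_16_3 lc_e_rc_18_1 lc_e_rc_18_1 lc_e_rc_13_3 lc_e_Cert_tree lc_e_rc_18_1 lc_e_rc_18_1 lc_e_rc_16_3 lc_e_rc_27_5 lc_e_Cert_tree lc_e_rc_9_3 lc_e_rc_27_5 lc_e_rc_16_3 lc_e_rc_9_3 lc_e_rc_18_1 lc_e_rc_18_1 lc_e_rc_18_1 lc_e_rc_16_3 lc_e_rc_18_1 lc_e_rc_18_1 lc_e_rc_27_7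 lc_e_rc_16_3 lc_e_rc_18_1 lc_e_rc_27_1 lc_e_rc_16_1 lc_e_rc_9_1 lc_e_rc_16_5 lc_e_rc_18_1 lc_e_rc_16_5 lc_e_rc_27_1 lc_e_rc_16_1 lc_e_rc_9_3 lc_e_rc_13_1 lc_e_rc_9_1 lc_e_rc_27_5 lc_e_rc_16_3 lc_e_rc_18_1) (@D3.rec (fun _ => (Cert rels S Gen.e)) lc_e_rc_16_3 lc_e_rc_27_7 lc_e_rc_27_5 lc_e_rc_4_3 lc_e_rc_18_1 lc_e_rc_18_1 lc_e_rc_18_1 lc_e_rc_13_3 lc_e_rc_18_1 lc_e_rc_18_1 lc_e_rc_27_1 lc_e_rc_9_3 lc_e_rc_16_1 lc_e_rc_19_4 lc_e_rc_27_1 lc_e_rc_16_1 lc_e_rc_27_5 lc_e_rc_13_3 lc_e_rc_19_2 lc_e_rc_9_3 lc_e_rc_18_1 lc_e_rc_18_1 lc_e_rc_18_1 lc_e_rc_19_4 lc_e_rc_18_1 lc_e_rc_16_5 lc_e_rc_18_1 lc_e_rc_13_3 lc_e_rc_16_3 lc_e_rc_16_3 lc_e_rc_19_4 lc_e_Cert_tree lc_e_rc_18_1 lc_e_rc_13_3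 lc_e_rc_18_1 lc_e_Cert_tree lc_e_rc_27_5 lc_e_rc_9_3 lc_e_rc_18_1 lc_e_rc_27_1 lc_e_rc_9_1 lc_e_rc_18_1 lc_e_rc_27_5 lc_e_rc_27_5 lc_e_rc_13_3 lc_e_rc_18_1 lc_e_rc_27_1 lc_e_rc_9_3 lc_e_rc_18_1 lc_e_rc_18_1 lc_e_rc_9_1 lc_e_rc_16_1 lc_e_rc_19_4 lc_e_rc_13_1 lc_e_rc_13_3 lc_e_rc_16_1 lc_e_rc_13_1 lc_e_rc_4_1 lc_e_rc_18_1 lc_e_rc_27_1 lc_e_rc_13_3 lc_e_rc_18_1) (@D3.rec (fun _ => (Cert rels S Gen.e)) lc_e_rc_18_1 lc_e_rc_13_1 lc_e_Cert_tree lc_e_rc_18_1 lc_e_rc_18_1 lc_e_rc_19_2 lc_e_rc_19_4 lc_e_rc_13_3 lc_e_rc_16_5 lc_e_rc_19_4 lc_e_rc_13_3 lc_e_rc_4_3 lc_e_rc_18_1 lc_e_rc_9_3 lc_e_rc_18_1 lc_e_rc_18_1 lc_e_rc_19_4 lc_e_rc_18_1 lc_e_rc_4_3 lc_e_rc_18_1 lc_e_rc_27_5 lc_e_rc_19_0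 lc_e_rc_18_1 lc_e_rc_19_4 lc_e_rc_9_3 lc_e_rc_9_1 lc_e_rc_16_5 lc_e_rc_13_1 lc_e_rc_18_1 lc_e_rc_9_3 lc_e_rc_9_3 lc_e_rc_27_1 lc_e_rc_9_1 lc_e_rc_27_1 lc_e_rc_18_1 lc_e_rc_13_3 lc_e_rc_18_1 lc_e_rc_18_1 lc_e_rc_19_4 lc_e_rc_19_4 lc_e_rc_18_1 lc_e_rc_9_3 lc_e_rc_18_1 lc_e_rc_18_1 lc_e_rc_16_3 lc_e_rc_19_4 lc_e_rc_16_1 lc_e_rc_18_1 lc_e_rc_18_1 lc_e_rc_9_3 lc_e_rc_13_3 lc_e_rc_19_4 lc_e_rc_19_4 lc_e_rc_19_4 lc_e_rc_4_3 lc_e_rc_18_1 lc_e_rc_18_1 lc_e_rc_13_3 lc_e_rc_27_1 lc_e_rc_18_1 lc_e_rc_18_1 lc_e_rc_13_3) (@D3.rec (fun _ => (Cert rels S Gen.e)) lc_e_rc_19_4 lc_e_rc_9_1 lc_e_rc_9_3 lc_e_rc_16_5 lc_e_rc_13_1 lc_e_rc_27_5 lc_e_rc_19_0 lc_e_rc_18_1 lc_e_rc_13_1 lc_e_rc_27_1 lc_e_rc_9_1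 lc_e_rc_4_3 lc_e_rc_19_4 lc_e_rc_19_2 lc_e_rc_18_1 lc_e_rc_9_3 lc_e_rc_18_1 lc_e_rc_18_1 lc_e_rc_18_1 lc_e_rc_16_3 lc_e_rc_18_1 lc_e_rc_16_3 lc_e_rc_9_1 lc_e_rc_27_5 lc_e_rc_16_5 lc_e_rc_16_3 lc_e_rc_18_1 lc_e_rc_18_1 lc_e_rc_16_3 lc_e_rc_16_1 lc_e_rc_27_7 lc_e_rc_4_1 lc_e_rc_16_5 lc_e_rc_18_1 lc_e_rc_4_3 lc_e_rc_16_5 lc_e_rc_27_5 lc_e_rc_18_1 lc_e_rc_16_3 lc_e_rc_16_3 lc_e_rc_19_2 lc_e_rc_16_5 lc_e_rc_27_7 lc_e_rc_27_5 lc_e_rc_19_4 lc_e_rc_13_3 lc_e_rc_18_1 lc_e_rc_27_5 lc_e_rc_16_5 lc_e_rc_9_3 lc_e_rc_18_1 lc_e_rc_13_3 lc_e_rc_13_1 lc_e_rc_13_1 lc_e_rc_13_1 lc_e_rc_18_1 lc_e_rc_4_3 lc_e_rc_9_3 lc_e_rc_27_1 lc_e_rc_18_1 lc_e_rc_4_1 lc_e_rc_13_1) (@D3.rec (fun _ => (Cert rels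 S Gen.e)) lc_e_rc_18_1 lc_e_rc_16_1 lc_e_rc_16_5 lc_e_rc_18_1 lc_e_rc_16_1 lc_e_rc_19_4 lc_e_rc_16_3 lc_e_rc_27_1 lc_e_rc_13_3 lc_e_rc_19_0 lc_e_rc_18_1 lc_e_rc_13_3 lc_e_rc_18_1 lc_e_rc_9_1 lc_e_rc_9_3 lc_e_rc_9_1 lc_e_rc_18_1 lc_e_rc_19_0 lc_e_rc_18_1 lc_e_rc_18_1 lc_e_rc_27_5 lc_e_rc_27_5 lc_e_rc_16_1 lc_e_rc_13_1 lc_e_rc_4_1 lc_e_rc_27_1 lc_e_rc_18_1 lc_e_rc_18_1 lc_e_rc_27_1 lc_e_rc_13_1 lc_e_rc_16_5 lc_e_rc_9_1 lc_e_rc_18_1 lc_e_rc_9_1 lc_e_rc_18_1 lc_e_rc_4_3 lc_e_rc_18_1 lc_e_rc_27_5 lc_e_rc_18_1 lc_e_rc_27_7 lc_e_rc_18_1 lc_e_rc_19_4 lc_e_rc_18_1 lc_e_rc_19_4 lc_e_rc_27_1 lc_e_rc_16_1 lc_e_rc_19_4 lc_e_rc_9_3 lc_e_rc_18_1 lc_e_rc_18_1 lc_e_rc_16_5 lc_e_rc_27_7 lc_e_rc_13_1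 lc_e_rc_9_3 lc_e_rc_18_1 lc_e_rc_18_1 lc_e_rc_18_1 lc_e_rc_9_1 lc_e_rc_18_1 lc_e_rc_9_1 lc_e_rc_18_1 lc_e_rc_27_7)
def ce_e_28 : D2 → D3 → (Cert rels S Gen.e) := @D2.rec (fun _ => D3 → (Cert rels S Gen.e)) (@D3.rec (fun _ => (Cert rels S Gen.e)) lc_e_rc_18_1 lc_e_rc_9_3 lc_e_rc_18_1 lc_e_rc_18_1 lc_e_rc_16_1 lc_e_rc_19_4 lc_e_rc_27_1 lc_e_rc_13_1 lc_e_rc_16_5 lc_e_rc_27_5 lc_e_rc_13_3 lc_e_rc_27_1 lc_e_rc_9_3 lc_e_rc_19_2 lc_e_rc_18_1 lc_e_rc_27_1 lc_e_rc_18_1 lc_e_rc_9_3 lc_e_rc_13_3 lc_e_rc_18_1 lc_e_rc_18_1 lc_e_rc_9_3 lc_e_rc_13_1 lc_e_Cert_tree lc_e_rc_18_1 lc_e_rc_18_1 lc_e_rc_19_4 lc_e_rc_19_4 lc_e_rc_13_3 lc_e_rc_19_4 lc_e_rc_27_1 lc_e_rc_19_4 lc_e_rc_27_5 lc_e_rc_13_1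 lc_e_rc_27_5 lc_e_rc_13_1 lc_e_rc_13_1 lc_e_rc_9_3 lc_e_rc_9_1 lc_e_rc_13_3 lc_e_rc_18_1 lc_e_rc_9_3 lc_e_rc_27_1 lc_e_rc_13_3 lc_e_rc_4_3 lc_e_rc_4_1 lc_e_rc_9_3 lc_e_rc_18_1 lc_e_rc_18_1 lc_e_rc_18_1 lc_e_rc_18_1 lc_e_rc_16_3 lc_e_rc_9_3 lc_e_rc_16_5 lc_e_rc_19_0 lc_e_rc_18_1 lc_e_rc_18_1 lc_e_rc_13_3 lc_e_rc_27_5 lc_e_rc_16_1 lc_e_rc_19_2 lc_e_rc_16_5) (@D3.rec (fun _ => (Cert rels S Gen.e)) lc_e_rc_18_1 lc_e_rc_18_1 lc_e_rc_16_3 lc_e_rc_16_3 lc_e_rc_19_4 lc_e_rc_13_1 lc_e_rc_18_1 lc_e_rc_18_1 lc_e_rc_27_5 lc_e_rc_4_1 lc_e_rc_9_1 lc_e_rc_9_3 lc_e_rc_18_1 lc_e_rc_18_1 lc_e_rc_27_1 lc_e_rc_18_1 lc_e_rc_13_3 lc_e_rc_9_1 lc_e_rc_18_1 lc_e_rc_18_1 lc_e_rc_27_5 lc_e_rc_18_1 lc_e_rc_16_1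 lc_e_rc_4_3 lc_e_rc_16_5 lc_e_rc_13_3 lc_e_rc_16_1 lc_e_rc_16_5 lc_e_rc_4_3 lc_e_rc_27_1 lc_e_rc_9_3 lc_e_rc_27_5 lc_e_rc_4_3 lc_e_rc_18_1 lc_e_rc_9_3 lc_e_rc_18_1 lc_e_rc_27_1 lc_e_rc_27_7 lc_e_rc_9_3 lc_e_rc_13_1 lc_e_rc_9_1 lc_e_rc_18_1 lc_e_rc_18_1 lc_e_rc_16_5 lc_e_rc_13_3 lc_e_rc_18_1 lc_e_rc_13_3 lc_e_rc_4_1 lc_e_rc_13_3 lc_e_rc_4_3 lc_e_rc_18_1 lc_e_rc_19_2 lc_e_rc_18_1 lc_e_rc_18_1 lc_e_rc_18_1 lc_e_rc_13_1 lc_e_rc_9_3 lc_e_rc_16_5 lc_e_rc_18_1 lc_e_rc_13_3 lc_e_rc_18_1 lc_e_rc_9_3) (@D3.rec (fun _ => (Cert rels S Gen.e)) lc_e_rc_18_1 lc_e_rc_27_5 lc_e_rc_18_1 lc_e_rc_4_1 lc_e_rc_18_1 lc_e_rc_9_3 lc_e_rc_13_3 lc_e_rc_13_3 lc_e_rc_27_7 lc_e_rc_18_1 lc_e_rc_27_5 lc_e_rc_13_1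 lc_e_rc_18_1 lc_e_rc_13_3 lc_e_rc_13_1 lc_e_rc_18_1 lc_e_rc_16_5 lc_e_rc_18_1 lc_e_rc_4_1 lc_e_rc_13_1 lc_e_rc_18_1 lc_e_rc_9_1 lc_e_rc_9_3 lc_e_rc_27_1 lc_e_rc_16_5 lc_e_Cert_tree lc_e_rc_18_1 lc_e_rc_27_1 lc_e_rc_27_5 lc_e_rc_13_1 lc_e_rc_4_3 lc_e_rc_13_3 lc_e_rc_9_3 lc_e_rc_16_5 lc_e_rc_18_1 lc_e_rc_9_3 lc_e_rc_18_1 lc_e_Cert_tree lc_e_rc_16_5 lc_e_rc_18_1 lc_e_rc_13_3 lc_e_rc_27_1 lc_e_rc_9_3 lc_e_rc_18_1 lc_e_rc_27_5 lc_e_rc_13_3 lc_e_rc_27_5 lc_e_rc_27_5 lc_e_rc_13_3 lc_e_rc_27_5 lc_e_rc_18_1 lc_e_rc_16_5 lc_e_rc_18_1 lc_e_rc_4_3 lc_e_rc_18_1 lc_e_rc_16_1 lc_e_rc_9_3 lc_e_rc_16_5 lc_e_rc_18_1 lc_e_rc_9_1 lc_e_rc_4_3 lc_e_rc_9_3) (@D3.rec (fun _ => (Cert rels S Gen.e)) lc_e_rc_9_3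 lc_e_rc_9_3 lc_e_rc_9_3 lc_e_rc_9_1 lc_e_rc_13_1 lc_e_rc_27_7 lc_e_rc_18_1 lc_e_rc_18_1 lc_e_rc_16_3 lc_e_rc_9_3 lc_e_rc_18_1 lc_e_rc_13_3 lc_e_rc_9_1 lc_e_rc_16_3 lc_e_rc_16_3 lc_e_rc_4_1 lc_e_rc_9_1 lc_e_rc_27_5 lc_e_rc_16_3 lc_e_rc_9_1 lc_e_Cert_tree lc_e_rc_27_1 lc_e_rc_4_1 lc_e_rc_18_1 lc_e_rc_16_3 lc_e_rc_9_3 lc_e_rc_18_1 lc_e_rc_13_1 lc_e_rc_18_1 lc_e_rc_13_3 lc_e_rc_19_4 lc_e_rc_4_3 lc_e_rc_13_1 lc_e_rc_18_1 lc_e_rc_27_1 lc_e_rc_9_3 lc_e_rc_13_3 lc_e_rc_27_5 lc_e_rc_16_3 lc_e_Cert_tree lc_e_rc_18_1 lc_e_rc_9_3 lc_e_rc_27_5 lc_e_rc_13_3 lc_e_rc_18_1 lc_e_rc_18_1 lc_e_rc_4_3 lc_e_rc_18_1 lc_e_rc_9_3 lc_e_rc_16_1 lc_e_rc_27_7 lc_e_rc_18_1 lc_e_rc_4_3 lc_e_rc_13_3 lc_e_rc_16_3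 lc_e_rc_18_1 lc_e_rc_19_4 lc_e_rc_9_3 lc_e_rc_16_5 lc_e_rc_27_1 lc_e_rc_18_1 lc_e_rc_18_1) (@D3.rec (fun _ => (Cert rels S Gen.e)) lc_e_rc_18_1 lc_e_rc_19_2 lc_e_rc_9_1 lc_e_rc_27_7 lc_e_Cert_tree lc_e_rc_18_1 lc_e_rc_16_3 lc_e_rc_18_1 lc_e_rc_4_3 lc_e_rc_9_3 lc_e_rc_4_3 lc_e_rc_16_1 lc_e_rc_16_3 lc_e_rc_4_1 lc_e_rc_18_1 lc_e_rc_27_1 lc_e_rc_19_0 lc_e_rc_18_1 lc_e_rc_4_3 lc_e_rc_18_1 lc_e_rc_16_3 lc_e_rc_27_1 lc_e_rc_9_1 lc_e_rc_27_5 lc_e_rc_18_1 lc_e_rc_27_7 lc_e_rc_4_3 lc_e_rc_16_3 lc_e_rc_4_3 lc_e_rc_27_5 lc_e_rc_18_1 lc_e_rc_18_1 lc_e_rc_18_1 lc_e_Cert_tree lc_e_rc_13_3 lc_e_rc_18_1 lc_e_rc_13_3 lc_e_rc_16_1 lc_e_rc_16_1 lc_e_rc_19_4 lc_e_rc_13_3 lc_e_rc_19_4 lc_e_rc_18_1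 lc_e_rc_27_1 lc_e_rc_18_1 lc_e_Cert_tree lc_e_rc_13_3 lc_e_Cert_tree lc_e_rc_18_1 lc_e_rc_13_3 lc_e_rc_18_1 lc_e_rc_16_1 lc_e_rc_4_1 lc_e_rc_16_5 lc_e_rc_27_5 lc_e_rc_27_1 lc_e_rc_27_7 lc_e_rc_18_1 lc_e_Cert_tree lc_e_rc_18_1 lc_e_rc_16_1 lc_e_rc_16_1) (@D3.rec (fun _ => (Cert rels S Gen.e)) lc_e_rc_19_4 lc_e_Cert_tree lc_e_rc_18_1 lc_e_rc_9_1 lc_e_rc_9_3 lc_e_rc_9_3 lc_e_Cert_tree lc_e_rc_13_3 lc_e_rc_27_1 lc_e_rc_9_3 lc_e_rc_16_5 lc_e_rc_27_7 lc_e_rc_27_7 lc_e_rc_18_1 lc_e_rc_18_1 lc_e_rc_16_3 lc_e_rc_13_3 lc_e_rc_19_4 lc_e_rc_16_5 lc_e_rc_27_1 lc_e_rc_13_1 lc_e_rc_18_1 lc_e_Cert_tree lc_e_rc_9_3 lc_e_rc_27_5 lc_e_rc_18_1 lc_e_rc_18_1 lc_e_rc_18_1 lc_e_rc_9_3 lc_e_rc_13_1 lc_e_Cert_tree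 lc_e_rc_18_1 lc_e_rc_13_3 lc_e_rc_27_1 lc_e_rc_16_1 lc_e_rc_19_2 lc_e_rc_13_1 lc_e_rc_18_1 lc_e_rc_27_7 lc_e_rc_9_3 lc_e_rc_4_3 lc_e_rc_13_3 lc_e_rc_27_5 lc_e_rc_18_1 lc_e_rc_18_1 lc_e_Cert_tree lc_e_rc_13_1 lc_e_rc_18_1 lc_e_rc_18_1 lc_e_rc_13_3 lc_e_rc_16_3 lc_e_rc_19_4 lc_e_rc_18_1 lc_e_rc_18_1 lc_e_rc_16_3 lc_e_rc_4_3 lc_e_rc_9_3 lc_e_rc_27_5 lc_e_rc_18_1 lc_e_rc_9_1 lc_e_rc_18_1 lc_e_rc_18_1) (@D3.rec (fun _ => (Cert rels S Gen.e)) lc_e_rc_18_1 lc_e_rc_13_1 lc_e_rc_18_1 lc_e_rc_18_1 lc_e_rc_4_3 lc_e_rc_27_5 lc_e_Cert_tree lc_e_rc_18_1 lc_e_rc_16_5 lc_e_rc_27_5 lc_e_rc_27_7 lc_e_rc_18_1 lc_e_rc_27_5 lc_e_rc_13_1 lc_e_rc_16_3 lc_e_rc_9_3 lc_e_rc_4_3 lc_e_rc_4_3 lc_e_rc_27_5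 lc_e_Cert_tree lc_e_Cert_tree lc_e_rc_18_1 lc_e_rc_18_1 lc_e_rc_27_5 lc_e_rc_27_7 lc_e_rc_18_1 lc_e_rc_18_1 lc_e_rc_9_3 lc_e_rc_16_3 lc_e_rc_13_3 lc_e_rc_9_1 lc_e_rc_18_1 lc_e_rc_9_3 lc_e_rc_18_1 lc_e_rc_16_5 lc_e_rc_4_3 lc_e_rc_13_3 lc_e_rc_27_1 lc_e_rc_9_1 lc_e_rc_27_5 lc_e_rc_9_3 lc_e_rc_13_3 lc_e_rc_18_1 lc_e_rc_18_1 lc_e_rc_18_1 lc_e_rc_18_1 lc_e_rc_9_3 lc_e_rc_13_3 lc_e_rc_27_1 lc_e_rc_18_1 lc_e_rc_27_7 lc_e_rc_19_0 lc_e_rc_13_1 lc_e_rc_9_3 lc_e_rc_18_1 lc_e_rc_18_1 lc_e_rc_4_3 lc_e_rc_13_3 lc_e_rc_27_7 lc_e_rc_18_1 lc_e_rc_18_1 lc_e_rc_16_1) (@D3.rec (fun _ => (Cert rels S Gen.e)) lc_e_rc_27_5 lc_e_rc_18_1 lc_e_rc_27_1 lc_e_rc_27_1 lc_e_rc_16_1 lc_e_rc_13_3 lc_e_rc_18_1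 lc_e_rc_27_5 lc_e_rc_9_3 lc_e_rc_27_5 lc_e_rc_16_1 lc_e_rc_9_3 lc_e_rc_27_1 lc_e_rc_9_1 lc_e_rc_27_5 lc_e_rc_27_5 lc_e_rc_9_3 lc_e_rc_9_3 lc_e_rc_27_1 lc_e_rc_18_1 lc_e_rc_9_3 lc_e_rc_27_7 lc_e_rc_4_3 lc_e_rc_13_1 lc_e_rc_13_1 lc_e_rc_9_3 lc_e_rc_18_1 lc_e_rc_13_3 lc_e_rc_9_3 lc_e_rc_19_4 lc_e_rc_18_1 lc_e_rc_18_1 lc_e_rc_18_1 lc_e_rc_18_1 lc_e_rc_9_3 lc_e_rc_16_1 lc_e_rc_19_4 lc_e_rc_13_1 lc_e_rc_27_7 lc_e_rc_9_3 lc_e_rc_16_5 lc_e_rc_18_1 lc_e_rc_18_1 lc_e_rc_27_5 lc_e_rc_18_1 lc_e_rc_27_1 lc_e_rc_18_1 lc_e_rc_18_1 lc_e_rc_18_1 lc_e_rc_13_3 lc_e_rc_19_4 lc_e_rc_18_1 lc_e_rc_9_3 lc_e_Cert_tree lc_e_rc_13_3 lc_e_rc_13_3 lc_e_rc_16_5 lc_e_rc_13_3 lc_e_rc_18_1 lc_e_rc_13_1 lc_e_rc_16_3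 lc_e_rc_18_1) (@D3.rec (fun _ => (Cert rels S Gen.e)) lc_e_rc_27_5 lc_e_rc_16_3 lc_e_rc_13_1 lc_e_rc_9_3 lc_e_rc_16_5 lc_e_rc_18_1 lc_e_rc_18_1 lc_e_rc_9_1 lc_e_rc_18_1 lc_e_rc_9_3 lc_e_rc_13_3 lc_e_rc_16_5 lc_e_rc_13_3 lc_e_rc_27_5 lc_e_rc_27_7 lc_e_rc_18_1 lc_e_rc_9_3 lc_e_rc_13_3 lc_e_rc_16_5 lc_e_rc_27_1 lc_e_rc_18_1 lc_e_Cert_tree lc_e_rc_27_1 lc_e_rc_9_3 lc_e_rc_18_1 lc_e_rc_18_1 lc_e_rc_18_1 lc_e_rc_16_3 lc_e_rc_18_1 lc_e_rc_18_1 lc_e_rc_18_1 lc_e_rc_4_1 lc_e_rc_13_3 lc_e_rc_18_1 lc_e_rc_27_5 lc_e_rc_16_1 lc_e_rc_19_4 lc_e_rc_9_3 lc_e_rc_13_3 lc_e_rc_9_3 lc_e_rc_16_5 lc_e_rc_16_5 lc_e_rc_9_1 lc_e_rc_9_3 lc_e_rc_16_1 lc_e_rc_4_3 lc_e_rc_27_1 lc_e_rc_18_1 lc_e_rc_13_3 lc_e_rc_27_7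 lc_e_rc_18_1 lc_e_rc_9_3 lc_e_rc_13_3 lc_e_rc_18_1 lc_e_rc_18_1 lc_e_rc_27_7 lc_e_rc_13_3 lc_e_rc_13_1 lc_e_rc_13_1 lc_e_rc_27_5 lc_e_rc_4_1 lc_e_rc_27_1) (@D3.rec (fun _ => (Cert rels S Gen.e)) lc_e_rc_16_1 lc_e_rc_18_1 lc_e_rc_9_3 lc_e_rc_18_1 lc_e_rc_13_3 lc_e_rc_13_3 lc_e_rc_13_3 lc_e_rc_4_3 lc_e_rc_18_1 lc_e_rc_18_1 lc_e_rc_19_2 lc_e_rc_16_1 lc_e_rc_27_1 lc_e_rc_13_3 lc_e_rc_16_1 lc_e_rc_27_5 lc_e_rc_9_1 lc_e_rc_27_5 lc_e_rc_18_1 lc_e_rc_27_1 lc_e_rc_19_0 lc_e_rc_13_3 lc_e_rc_13_1 lc_e_rc_13_3 lc_e_rc_16_3 lc_e_rc_27_5 lc_e_rc_18_1 lc_e_rc_13_3 lc_e_rc_16_1 lc_e_rc_18_1 lc_e_rc_19_0 lc_e_rc_16_5 lc_e_rc_18_1 lc_e_rc_16_3 lc_e_rc_18_1 lc_e_rc_16_3 lc_e_rc_18_1 lc_e_rc_18_1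 lc_e_rc_18_1 lc_e_rc_18_1 lc_e_rc_27_7 lc_e_rc_13_3 lc_e_rc_27_1 lc_e_rc_27_5 lc_e_rc_27_5 lc_e_rc_18_1 lc_e_rc_18_1 lc_e_rc_16_5 lc_e_rc_27_1 lc_e_rc_13_3 lc_e_rc_9_3 lc_e_Cert_tree lc_e_rc_18_1 lc_e_rc_16_5 lc_e_rc_18_1 lc_e_rc_9_3 lc_e_rc_18_1 lc_e_rc_13_3 lc_e_rc_13_3 lc_e_rc_16_5 lc_e_rc_27_5 lc_e_rc_18_1) (@D3.rec (fun _ => (Cert rels S Gen.e)) lc_e_rc_13_3 lc_e_rc_27_7 lc_e_rc_4_3 lc_e_rc_9_3 lc_e_rc_27_7 lc_e_rc_4_3 lc_e_rc_4_3 lc_e_rc_27_5 lc_e_rc_27_5 lc_e_rc_16_5 lc_e_rc_9_1 lc_e_rc_18_1 lc_e_rc_18_1 lc_e_rc_16_3 lc_e_rc_27_1 lc_e_rc_27_5 lc_e_rc_18_1 lc_e_rc_13_3 lc_e_rc_9_3 lc_e_rc_19_2 lc_e_rc_4_3 lc_e_rc_9_3 lc_e_rc_18_1 lc_e_rc_18_1 lc_e_rc_27_7 lc_e_rc_18_1 lc_e_rc_27_5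 lc_e_rc_4_3 lc_e_rc_18_1 lc_e_rc_18_1 lc_e_rc_9_3 lc_e_rc_13_1 lc_e_rc_9_1 lc_e_Cert_tree lc_e_rc_9_3 lc_e_Cert_tree lc_e_rc_18_1 lc_e_rc_27_5 lc_e_rc_27_5 lc_e_rc_9_3 lc_e_rc_27_7 lc_e_rc_19_2 lc_e_rc_27_5 lc_e_rc_16_1 lc_e_rc_19_4 lc_e_rc_16_1 lc_e_rc_16_5 lc_e_rc_13_1 lc_e_rc_16_3 lc_e_rc_27_1 lc_e_rc_13_3 lc_e_rc_27_5 lc_e_rc_4_3 lc_e_rc_13_3 lc_e_rc_18_1 lc_e_rc_9_3 lc_e_rc_16_5 lc_e_rc_9_3 lc_e_rc_18_1 lc_e_rc_16_3 lc_e_rc_16_1 lc_e_rc_4_3) (@D3.rec (fun _ => (Cert rels S Gen.e)) lc_e_rc_9_3 lc_e_rc_13_3 lc_e_rc_16_1 lc_e_rc_27_1 lc_e_rc_27_5 lc_e_rc_19_4 lc_e_rc_18_1 lc_e_rc_19_0 lc_e_rc_18_1 lc_e_rc_18_1 lc_e_rc_27_1 lc_e_rc_13_1 lc_e_rc_27_1 lc_e_rc_16_5 lc_e_rc_18_1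 lc_e_rc_27_5 lc_e_rc_18_1 lc_e_rc_27_5 lc_e_rc_18_1 lc_e_rc_18_1 lc_e_rc_9_3 lc_e_rc_27_1 lc_e_rc_27_7 lc_e_rc_19_4 lc_e_rc_9_1 lc_e_rc_9_1 lc_e_rc_18_1 lc_e_rc_18_1 lc_e_rc_18_1 lc_e_rc_19_4 lc_e_rc_13_3 lc_e_Cert_tree lc_e_rc_27_7 lc_e_rc_18_1 lc_e_rc_19_0 lc_e_rc_18_1 lc_e_rc_19_4 lc_e_rc_18_1 lc_e_rc_27_5 lc_e_rc_13_1 lc_e_rc_16_5 lc_e_rc_16_1 lc_e_rc_18_1 lc_e_rc_9_3 lc_e_rc_9_3 lc_e_rc_9_1 lc_e_rc_27_7 lc_e_rc_18_1 lc_e_rc_19_0 lc_e_rc_18_1 lc_e_rc_27_1 lc_e_rc_16_5 lc_e_rc_9_3 lc_e_rc_18_1 lc_e_rc_18_1 lc_e_rc_19_0 lc_e_rc_19_0 lc_e_rc_18_1 lc_e_rc_9_3 lc_e_rc_13_3 lc_e_rc_13_3 lc_e_rc_13_3) (@D3.rec (fun _ => (Cert rels S Gen.e)) lc_e_rc_13_1 lc_e_rc_18_1 lc_e_rc_18_1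 lc_e_rc_18_1 lc_e_rc_4_3 lc_e_rc_9_1 lc_e_rc_27_5 lc_e_rc_18_1 lc_e_rc_16_1 lc_e_rc_18_1 lc_e_rc_18_1 lc_e_Cert_tree lc_e_rc_16_3 lc_e_rc_9_3 lc_e_rc_18_1 lc_e_rc_16_3 lc_e_rc_27_5 lc_e_rc_16_5 lc_e_rc_18_1 lc_e_rc_13_3 lc_e_rc_18_1 lc_e_rc_27_1 lc_e_rc_27_5 lc_e_rc_18_1 lc_e_rc_13_3 lc_e_rc_13_3 lc_e_rc_27_5 lc_e_rc_18_1 lc_e_rc_4_3 lc_e_rc_13_1 lc_e_rc_18_1 lc_e_rc_18_1 lc_e_rc_27_1 lc_e_rc_4_3 lc_e_rc_18_1 lc_e_rc_27_5 lc_e_rc_18_1 lc_e_rc_18_1 lc_e_rc_18_1 lc_e_rc_9_1 lc_e_rc_18_1 lc_e_rc_18_1 lc_e_rc_18_1 lc_e_rc_16_3 lc_e_rc_9_3 lc_e_rc_4_3 lc_e_rc_16_5 lc_e_rc_18_1 lc_e_rc_18_1 lc_e_rc_16_1 lc_e_rc_16_1 lc_e_rc_16_5 lc_e_rc_9_3 lc_e_rc_13_3 lc_e_rc_16_3 lc_e_rc_18_1 lc_e_rc_16_3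 lc_e_rc_19_4 lc_e_rc_9_3 lc_e_rc_16_5 lc_e_rc_4_3 lc_e_rc_18_1) (@D3.rec (fun _ => (Cert rels S Gen.e)) lc_e_rc_9_3 lc_e_rc_4_1 lc_e_rc_18_1 lc_e_rc_16_3 lc_e_rc_13_1 lc_e_rc_9_3 lc_e_rc_16_5 lc_e_rc_18_1 lc_e_rc_18_1 lc_e_rc_9_3 lc_e_rc_19_4 lc_e_rc_4_1 lc_e_rc_4_1 lc_e_rc_9_3 lc_e_rc_9_3 lc_e_rc_9_3 lc_e_rc_16_3 lc_e_rc_18_1 lc_e_rc_27_5 lc_e_rc_9_3 lc_e_rc_16_3 lc_e_rc_4_3 lc_e_rc_27_5 lc_e_rc_18_1 lc_e_rc_27_5 lc_e_rc_4_1 lc_e_rc_18_1 lc_e_rc_13_3 lc_e_rc_16_3 lc_e_rc_4_3 lc_e_rc_18_1 lc_e_rc_27_1 lc_e_rc_18_1 lc_e_rc_13_3 lc_e_rc_9_1 lc_e_rc_27_7 lc_e_rc_18_1 lc_e_rc_18_1 lc_e_rc_4_1 lc_e_rc_16_3 lc_e_rc_27_7 lc_e_rc_18_1 lc_e_rc_18_1 lc_e_rc_27_1 lc_e_rc_19_2 lc_e_rc_19_0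 lc_e_rc_18_1 lc_e_rc_19_2 lc_e_rc_19_2 lc_e_rc_18_1 lc_e_rc_16_5 lc_e_rc_16_5 lc_e_rc_13_1 lc_e_rc_27_1 lc_e_rc_13_1 lc_e_rc_9_1 lc_e_rc_16_3 lc_e_rc_13_3 lc_e_rc_18_1 lc_e_rc_18_1 lc_e_rc_9_3 lc_e_rc_13_3) (@D3.rec (fun _ => (Cert rels S Gen.e)) lc_e_rc_13_1 lc_e_rc_13_3 lc_e_rc_27_1 lc_e_rc_18_1 lc_e_rc_4_3 lc_e_rc_27_7 lc_e_rc_27_7 lc_e_rc_18_1 lc_e_rc_27_5 lc_e_rc_18_1 lc_e_rc_19_2 lc_e_rc_27_5 lc_e_rc_19_4 lc_e_rc_27_5 lc_e_rc_4_3 lc_e_rc_16_3 lc_e_rc_19_4 lc_e_rc_18_1 lc_e_rc_9_3 lc_e_rc_18_1 lc_e_rc_27_5 lc_e_rc_18_1 lc_e_rc_18_1 lc_e_rc_16_5 lc_e_rc_18_1 lc_e_rc_18_1 lc_e_rc_27_5 lc_e_rc_19_4 lc_e_rc_18_1 lc_e_rc_27_5 lc_e_rc_18_1 lc_e_rc_16_1 lc_e_rc_9_3 lc_e_rc_27_5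 lc_e_rc_27_1 lc_e_rc_18_1 lc_e_rc_13_3 lc_e_rc_27_5 lc_e_rc_13_3 lc_e_rc_18_1 lc_e_rc_18_1 lc_e_rc_18_1 lc_e_rc_27_1 lc_e_rc_27_1 lc_e_rc_9_3 lc_e_rc_19_4 lc_e_rc_27_5 lc_e_rc_13_3 lc_e_rc_27_5 lc_e_rc_13_3 lc_e_rc_18_1 lc_e_rc_13_3 lc_e_rc_18_1 lc_e_rc_27_5 lc_e_rc_19_4 lc_e_rc_18_1 lc_e_rc_18_1 lc_e_rc_4_3 lc_e_rc_18_1 lc_e_rc_16_3 lc_e_rc_13_3 lc_e_rc_13_3) (@D3.rec (fun _ => (Cert rels S Gen.e)) lc_e_rc_18_1 lc_e_rc_9_3 lc_e_rc_27_7 lc_e_rc_18_1 lc_e_rc_18_1 lc_e_rc_16_1 lc_e_rc_27_1 lc_e_rc_18_1 lc_e_rc_18_1 lc_e_rc_9_3 lc_e_rc_18_1 lc_e_rc_19_2 lc_e_rc_18_1 lc_e_rc_13_1 lc_e_rc_9_3 lc_e_rc_19_2 lc_e_rc_13_1 lc_e_rc_18_1 lc_e_rc_18_1 lc_e_rc_9_3 lc_e_rc_19_2 lc_e_rc_9_3 lc_e_rc_27_1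 lc_e_rc_18_1 lc_e_rc_16_3 lc_e_rc_4_3 lc_e_rc_18_1 lc_e_rc_18_1 lc_e_rc_18_1 lc_e_rc_4_3 lc_e_rc_16_3 lc_e_rc_18_1 lc_e_rc_9_3 lc_e_rc_4_1 lc_e_rc_18_1 lc_e_rc_18_1 lc_e_Cert_tree lc_e_rc_13_1 lc_e_rc_18_1 lc_e_rc_16_5 lc_e_rc_18_1 lc_e_rc_13_3 lc_e_rc_27_1 lc_e_rc_18_1 lc_e_rc_18_1 lc_e_rc_27_1 lc_e_rc_18_1 lc_e_rc_9_1 lc_e_rc_18_1 lc_e_rc_16_3 lc_e_rc_13_3 lc_e_rc_16_5 lc_e_rc_9_3 lc_e_rc_9_1 lc_e_rc_18_1 lc_e_Cert_tree lc_e_rc_18_1 lc_e_rc_18_1 lc_e_rc_18_1 lc_e_rc_13_3 lc_e_rc_19_2 lc_e_rc_4_3) (@D3.rec (fun _ => (Cert rels S Gen.e)) lc_e_rc_9_1 lc_e_rc_13_3 lc_e_rc_27_5 lc_e_rc_18_1 lc_e_rc_18_1 lc_e_rc_27_5 lc_e_rc_27_7 lc_e_rc_18_1 lc_e_rc_18_1 lc_e_rc_18_1 lc_e_rc_9_3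 lc_e_rc_27_1 lc_e_rc_16_1 lc_e_rc_19_2 lc_e_rc_13_3 lc_e_rc_18_1 lc_e_rc_27_1 lc_e_rc_9_3 lc_e_rc_9_3 lc_e_rc_9_1 lc_e_rc_16_3 lc_e_rc_18_1 lc_e_rc_13_3 lc_e_rc_13_1 lc_e_rc_19_4 lc_e_rc_27_5 lc_e_rc_16_5 lc_e_rc_18_1 lc_e_rc_13_1 lc_e_rc_27_1 lc_e_rc_13_3 lc_e_rc_27_7 lc_e_rc_19_0 lc_e_rc_9_1 lc_e_rc_19_2 lc_e_rc_18_1 lc_e_Cert_tree lc_e_Cert_tree lc_e_rc_18_1 lc_e_rc_4_3 lc_e_rc_18_1 lc_e_Cert_tree lc_e_rc_18_1 lc_e_rc_9_1 lc_e_Cert_tree lc_e_rc_19_2 lc_e_rc_9_1 lc_e_rc_9_3 lc_e_rc_18_1 lc_e_rc_19_4 lc_e_rc_18_1 lc_e_rc_9_1 lc_e_rc_4_3 lc_e_rc_18_1 lc_e_rc_9_3 lc_e_rc_18_1 lc_e_rc_18_1 lc_e_rc_16_3 lc_e_rc_13_3 lc_e_rc_18_1 lc_e_rc_16_3 lc_e_rc_18_1) (@D3.rec (fun _ => (Cert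 rels S Gen.e)) lc_e_rc_18_1 lc_e_rc_4_1 lc_e_rc_9_3 lc_e_rc_9_3 lc_e_rc_9_1 lc_e_rc_13_3 lc_e_rc_13_3 lc_e_rc_27_7 lc_e_rc_16_5 lc_e_rc_9_3 lc_e_rc_13_1 lc_e_rc_9_1 lc_e_rc_4_3 lc_e_rc_9_1 lc_e_rc_27_5 lc_e_rc_9_1 lc_e_rc_27_1 lc_e_rc_18_1 lc_e_rc_13_1 lc_e_rc_16_5 lc_e_rc_16_3 lc_e_rc_27_5 lc_e_rc_27_1 lc_e_rc_16_1 lc_e_rc_13_3 lc_e_rc_9_3 lc_e_rc_27_7 lc_e_rc_27_5 lc_e_rc_27_7 lc_e_rc_16_3 lc_e_rc_18_1 lc_e_Cert_tree lc_e_rc_27_5 lc_e_rc_9_3 lc_e_Cert_tree lc_e_rc_13_3 lc_e_rc_18_1 lc_e_rc_18_1 lc_e_rc_16_1 lc_e_rc_13_3 lc_e_rc_27_7 lc_e_rc_18_1 lc_e_rc_16_5 lc_e_rc_27_7 lc_e_rc_9_3 lc_e_rc_4_3 lc_e_rc_16_3 lc_e_rc_19_2 lc_e_rc_27_7 lc_e_rc_27_5 lc_e_rc_16_3 lc_e_rc_18_1 lc_e_rc_16_3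 lc_e_rc_16_1 lc_e_rc_18_1 lc_e_rc_16_1 lc_e_rc_27_1 lc_e_rc_27_1 lc_e_rc_18_1 lc_e_rc_18_1 lc_e_rc_4_3 lc_e_rc_13_1) (@D3.rec (fun _ => (Cert rels S Gen.e)) lc_e_rc_9_3 lc_e_rc_18_1 lc_e_rc_4_3 lc_e_rc_13_3 lc_e_rc_19_2 lc_e_rc_27_7 lc_e_rc_13_3 lc_e_rc_27_5 lc_e_rc_19_0 lc_e_Cert_tree lc_e_rc_19_2 lc_e_rc_27_5 lc_e_rc_13_1 lc_e_rc_9_3 lc_e_rc_9_3 lc_e_rc_18_1 lc_e_rc_13_3 lc_e_rc_18_1 lc_e_rc_16_3 lc_e_rc_13_1 lc_e_rc_18_1 lc_e_rc_13_3 lc_e_rc_18_1 lc_e_rc_27_7 lc_e_Cert_tree lc_e_rc_18_1 lc_e_rc_13_3 lc_e_rc_9_3 lc_e_rc_13_3 lc_e_rc_19_2 lc_e_rc_13_3 lc_e_rc_13_3 lc_e_Cert_tree lc_e_rc_27_5 lc_e_rc_9_3 lc_e_rc_19_2 lc_e_Cert_tree lc_e_rc_9_3 lc_e_rc_18_1 lc_e_rc_13_1 lc_e_rc_27_1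 lc_e_rc_13_3 lc_e_rc_18_1 lc_e_rc_18_1 lc_e_rc_16_5 lc_e_rc_13_3 lc_e_rc_27_1 lc_e_rc_9_3 lc_e_rc_18_1 lc_e_rc_18_1 lc_e_rc_9_3 lc_e_rc_9_3 lc_e_rc_9_3 lc_e_rc_16_3 lc_e_rc_18_1 lc_e_rc_9_3 lc_e_rc_27_1 lc_e_rc_27_5 lc_e_Cert_tree lc_e_rc_13_3 lc_e_Cert_tree lc_e_rc_13_3) (@D3.rec (fun _ => (Cert rels S Gen.e)) lc_e_rc_18_1 lc_e_rc_18_1 lc_e_rc_16_1 lc_e_rc_9_3 lc_e_rc_13_1 lc_e_rc_9_3 lc_e_rc_9_3 lc_e_rc_4_3 lc_e_rc_18_1 lc_e_rc_4_3 lc_e_rc_18_1 lc_e_rc_16_1 lc_e_rc_9_3 lc_e_rc_13_3 lc_e_rc_4_3 lc_e_rc_4_3 lc_e_rc_18_1 lc_e_rc_9_3 lc_e_rc_27_5 lc_e_rc_16_5 lc_e_rc_18_1 lc_e_rc_9_3 lc_e_rc_16_1 lc_e_rc_18_1 lc_e_rc_19_4 lc_e_rc_27_7 lc_e_rc_18_1 lc_e_rc_27_1 lc_e_rc_13_3 lc_e_rc_13_3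 lc_e_rc_13_3 lc_e_rc_19_2 lc_e_rc_18_1 lc_e_rc_27_5 lc_e_rc_18_1 lc_e_rc_13_3 lc_e_rc_16_3 lc_e_rc_19_4 lc_e_rc_9_1 lc_e_rc_13_1 lc_e_rc_18_1 lc_e_rc_13_3 lc_e_rc_16_3 lc_e_rc_19_4 lc_e_rc_19_2 lc_e_rc_16_1 lc_e_rc_18_1 lc_e_Cert_tree lc_e_rc_18_1 lc_e_rc_27_7 lc_e_rc_27_5 lc_e_rc_4_1 lc_e_rc_18_1 lc_e_rc_13_3 lc_e_rc_4_1 lc_e_rc_18_1 lc_e_rc_9_1 lc_e_rc_13_3 lc_e_rc_9_3 lc_e_rc_18_1 lc_e_rc_4_3 lc_e_rc_13_3) (@D3.rec (fun _ => (Cert rels S Gen.e)) lc_e_rc_27_5 lc_e_rc_27_5 lc_e_rc_13_3 lc_e_rc_13_3 lc_e_rc_13_3 lc_e_rc_13_3 lc_e_rc_9_3 lc_e_rc_18_1 lc_e_Cert_tree lc_e_rc_18_1 lc_e_rc_9_1 lc_e_rc_13_3 lc_e_rc_9_3 lc_e_rc_9_3 lc_e_rc_18_1 lc_e_rc_13_3 lc_e_rc_27_5 lc_e_rc_27_7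 lc_e_rc_9_3 lc_e_rc_18_1 lc_e_Cert_tree lc_e_rc_4_1 lc_e_rc_18_1 lc_e_rc_27_1 lc_e_rc_16_3 lc_e_rc_27_7 lc_e_rc_13_3 lc_e_rc_27_5 lc_e_rc_16_3 lc_e_rc_13_1 lc_e_rc_9_3 lc_e_rc_27_5 lc_e_rc_18_1 lc_e_rc_18_1 lc_e_rc_18_1 lc_e_Cert_tree lc_e_rc_9_3 lc_e_rc_18_1 lc_e_Cert_tree lc_e_rc_18_1 lc_e_rc_18_1 lc_e_rc_27_5 lc_e_rc_18_1 lc_e_rc_18_1 lc_e_rc_16_1 lc_e_rc_9_3 lc_e_rc_19_0 lc_e_rc_13_3 lc_e_rc_16_5 lc_e_rc_18_1 lc_e_rc_18_1 lc_e_rc_16_5 lc_e_rc_18_1 lc_e_rc_13_3 lc_e_rc_13_1 lc_e_rc_18_1 lc_e_rc_27_7 lc_e_rc_27_7 lc_e_rc_18_1 lc_e_rc_4_3 lc_e_rc_16_5 lc_e_rc_19_4) (@D3.rec (fun _ => (Cert rels S Gen.e)) lc_e_rc_18_1 lc_e_rc_19_0 lc_e_rc_18_1 lc_e_rc_18_1 lc_e_rc_27_5 lc_e_rc_27_7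 lc_e_rc_16_1 lc_e_rc_19_4 lc_e_rc_18_1 lc_e_rc_19_0 lc_e_rc_18_1 lc_e_rc_19_2 lc_e_rc_19_2 lc_e_rc_13_3 lc_e_rc_4_3 lc_e_rc_18_1 lc_e_rc_9_3 lc_e_rc_27_1 lc_e_rc_18_1 lc_e_rc_18_1 lc_e_rc_13_3 lc_e_rc_19_0 lc_e_rc_13_3 lc_e_rc_18_1 lc_e_rc_27_5 lc_e_rc_4_3 lc_e_rc_19_2 lc_e_rc_18_1 lc_e_rc_4_3 lc_e_rc_27_7 lc_e_rc_18_1 lc_e_rc_18_1 lc_e_rc_18_1 lc_e_rc_18_1 lc_e_rc_27_5 lc_e_Cert_tree lc_e_rc_18_1 lc_e_rc_18_1 lc_e_rc_18_1 lc_e_rc_18_1 lc_e_rc_16_1 lc_e_rc_16_1 lc_e_rc_18_1 lc_e_rc_18_1 lc_e_rc_9_3 lc_e_rc_27_5 lc_e_rc_18_1 lc_e_rc_27_1 lc_e_rc_27_5 lc_e_rc_13_1 lc_e_rc_18_1 lc_e_rc_18_1 lc_e_rc_27_5 lc_e_rc_16_5 lc_e_rc_27_5 lc_e_rc_18_1 lc_e_rc_19_4 lc_e_rc_9_3 lc_e_rc_18_1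 lc_e_rc_9_1 lc_e_rc_9_3 lc_e_rc_9_1) (@D3.rec (fun _ => (Cert rels S Gen.e)) lc_e_rc_4_3 lc_e_rc_18_1 lc_e_rc_16_1 lc_e_rc_19_4 lc_e_rc_9_1 lc_e_rc_18_1 lc_e_rc_18_1 lc_e_rc_18_1 lc_e_rc_16_3 lc_e_rc_4_1 lc_e_rc_18_1 lc_e_rc_27_5 lc_e_rc_19_4 lc_e_rc_13_3 lc_e_rc_19_0 lc_e_rc_18_1 lc_e_rc_13_3 lc_e_rc_13_3 lc_e_rc_18_1 lc_e_rc_13_3 lc_e_Cert_tree lc_e_rc_18_1 lc_e_rc_27_1 lc_e_rc_18_1 lc_e_rc_13_3 lc_e_rc_18_1 lc_e_rc_18_1 lc_e_rc_18_1 lc_e_rc_16_1 lc_e_rc_19_4 lc_e_rc_27_1 lc_e_rc_27_5 lc_e_rc_4_3 lc_e_rc_13_3 lc_e_rc_13_3 lc_e_rc_16_5 lc_e_rc_18_1 lc_e_rc_13_3 lc_e_rc_9_1 lc_e_rc_4_1 lc_e_rc_9_3 lc_e_rc_18_1 lc_e_rc_16_5 lc_e_rc_9_3 lc_e_rc_18_1 lc_e_rc_18_1 lc_e_rc_18_1 lc_e_rc_16_3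 lc_e_rc_16_1 lc_e_rc_4_1 lc_e_rc_18_1 lc_e_rc_16_1 lc_e_rc_19_2 lc_e_rc_27_5 lc_e_rc_13_3 lc_e_rc_27_5 lc_e_rc_18_1 lc_e_rc_9_3 lc_e_rc_18_1 lc_e_rc_18_1 lc_e_rc_18_1 lc_e_rc_16_5) (@D3.rec (fun _ => (Cert rels S Gen.e)) lc_e_rc_13_3 lc_e_rc_18_1 lc_e_rc_16_5 lc_e_rc_18_1 lc_e_rc_27_1 lc_e_rc_19_2 lc_e_rc_18_1 lc_e_rc_18_1 lc_e_rc_27_7 lc_e_rc_9_3 lc_e_rc_18_1 lc_e_rc_16_3 lc_e_rc_9_1 lc_e_rc_18_1 lc_e_rc_4_3 lc_e_rc_13_3 lc_e_rc_19_4 lc_e_rc_13_3 lc_e_rc_13_3 lc_e_rc_9_3 lc_e_rc_9_3 lc_e_rc_19_4 lc_e_rc_27_5 lc_e_rc_9_3 lc_e_rc_13_3 lc_e_rc_9_3 lc_e_rc_13_1 lc_e_rc_9_1 lc_e_rc_18_1 lc_e_rc_13_3 lc_e_rc_9_3 lc_e_rc_27_7 lc_e_rc_18_1 lc_e_rc_27_7 lc_e_rc_27_7 lc_e_rc_4_1 lc_e_rc_27_1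 lc_e_rc_18_1 lc_e_rc_4_1 lc_e_rc_16_5 lc_e_rc_4_3 lc_e_rc_9_3 lc_e_rc_18_1 lc_e_rc_18_1 lc_e_Cert_tree lc_e_rc_18_1 lc_e_rc_4_3 lc_e_rc_18_1 lc_e_rc_18_1 lc_e_rc_13_3 lc_e_rc_18_1 lc_e_rc_27_5 lc_e_rc_16_3 lc_e_rc_9_3 lc_e_rc_27_1 lc_e_rc_27_5 lc_e_rc_18_1 lc_e_rc_18_1 lc_e_Cert_tree lc_e_rc_18_1 lc_e_rc_9_3 lc_e_rc_27_5) (@D3.rec (fun _ => (Cert rels S Gen.e)) lc_e_rc_18_1 lc_e_rc_18_1 lc_e_rc_9_3 lc_e_rc_9_3 lc_e_rc_16_5 lc_e_rc_27_1 lc_e_rc_27_1 lc_e_rc_13_3 lc_e_rc_13_3 lc_e_rc_27_5 lc_e_Cert_tree lc_e_rc_18_1 lc_e_rc_27_7 lc_e_rc_19_4 lc_e_rc_19_4 lc_e_rc_9_3 lc_e_rc_27_7 lc_e_rc_9_3 lc_e_rc_18_1 lc_e_rc_4_3 lc_e_rc_18_1 lc_e_rc_9_3 lc_e_rc_27_5 lc_e_rc_18_1 lc_e_rc_18_1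 lc_e_rc_16_5 lc_e_rc_27_5 lc_e_rc_18_1 lc_e_rc_13_3 lc_e_rc_16_3 lc_e_rc_16_3 lc_e_rc_27_5 lc_e_rc_9_3 lc_e_rc_18_1 lc_e_rc_19_0 lc_e_rc_27_1 lc_e_rc_27_7 lc_e_rc_18_1 lc_e_rc_27_7 lc_e_rc_18_1 lc_e_rc_27_5 lc_e_rc_9_3 lc_e_rc_19_2 lc_e_rc_9_3 lc_e_rc_13_3 lc_e_rc_13_3 lc_e_rc_19_0 lc_e_rc_4_3 lc_e_rc_18_1 lc_e_rc_13_1 lc_e_rc_18_1 lc_e_rc_27_7 lc_e_rc_18_1 lc_e_rc_9_3 lc_e_rc_13_3 lc_e_rc_27_1 lc_e_rc_18_1 lc_e_rc_9_3 lc_e_rc_18_1 lc_e_rc_16_3 lc_e_rc_9_1 lc_e_rc_18_1) (@D3.rec (fun _ => (Cert rels S Gen.e)) lc_e_rc_27_1 lc_e_rc_18_1 lc_e_rc_16_1 lc_e_rc_18_1 lc_e_rc_18_1 lc_e_rc_16_3 lc_e_rc_13_3 lc_e_rc_16_3 lc_e_rc_27_7 lc_e_rc_18_1 lc_e_rc_13_3 lc_e_rc_18_1 lc_e_rc_18_1 lc_e_rc_4_3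 lc_e_rc_13_1 lc_e_rc_16_5 lc_e_rc_18_1 lc_e_rc_9_3 lc_e_rc_18_1 lc_e_rc_18_1 lc_e_rc_13_3 lc_e_rc_27_5 lc_e_rc_27_5 lc_e_rc_4_3 lc_e_rc_18_1 lc_e_rc_18_1 lc_e_rc_9_3 lc_e_rc_18_1 lc_e_rc_18_1 lc_e_rc_16_1 lc_e_rc_18_1 lc_e_rc_4_1 lc_e_rc_18_1 lc_e_rc_4_3 lc_e_rc_27_5 lc_e_rc_18_1 lc_e_rc_18_1 lc_e_rc_18_1 lc_e_rc_4_3 lc_e_Cert_tree lc_e_rc_18_1 lc_e_rc_18_1 lc_e_rc_16_1 lc_e_rc_18_1 lc_e_rc_18_1 lc_e_rc_13_3 lc_e_rc_16_3 lc_e_rc_18_1 lc_e_rc_27_5 lc_e_rc_18_1 lc_e_rc_18_1 lc_e_rc_16_3 lc_e_rc_9_3 lc_e_rc_9_3 lc_e_rc_18_1 lc_e_rc_13_3 lc_e_rc_27_5 lc_e_rc_13_3 lc_e_rc_18_1 lc_e_rc_27_5 lc_e_rc_16_5 lc_e_rc_16_1) (@D3.rec (fun _ => (Cert rels S Gen.e)) lc_e_rc_9_3 lc_e_rc_9_3 lc_e_rc_9_3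 lc_e_rc_16_5 lc_e_rc_13_3 lc_e_rc_16_5 lc_e_rc_16_5 lc_e_rc_16_5 lc_e_rc_13_1 lc_e_rc_16_5 lc_e_rc_16_1 lc_e_rc_4_3 lc_e_rc_27_5 lc_e_rc_18_1 lc_e_rc_16_3 lc_e_rc_18_1 lc_e_rc_18_1 lc_e_rc_27_5 lc_e_rc_27_1 lc_e_rc_18_1 lc_e_rc_16_1 lc_e_rc_19_4 lc_e_rc_13_3 lc_e_rc_13_3 lc_e_rc_18_1 lc_e_rc_27_1 lc_e_rc_27_5 lc_e_rc_18_1 lc_e_rc_16_5 lc_e_rc_16_5 lc_e_rc_13_1 lc_e_rc_19_4 lc_e_rc_13_1 lc_e_rc_18_1 lc_e_rc_13_1 lc_e_rc_16_1 lc_e_Cert_tree lc_e_rc_9_1 lc_e_rc_27_5 lc_e_rc_18_1 lc_e_rc_9_1 lc_e_rc_13_3 lc_e_rc_27_1 lc_e_rc_4_3 lc_e_rc_19_4 lc_e_rc_19_2 lc_e_rc_4_3 lc_e_rc_27_5 lc_e_rc_16_5 lc_e_rc_18_1 lc_e_rc_13_3 lc_e_rc_16_1 lc_e_rc_18_1 lc_e_rc_16_5 lc_e_rc_27_1 lc_e_rc_13_3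 lc_e_rc_19_2 lc_e_rc_27_5 lc_e_rc_18_1 lc_e_rc_27_1 lc_e_rc_18_1 lc_e_rc_18_1) (@D3.rec (fun _ => (Cert rels S Gen.e)) lc_e_rc_16_3 lc_e_rc_27_1 lc_e_rc_27_1 lc_e_rc_4_3 lc_e_rc_13_3 lc_e_rc_13_3 lc_e_rc_27_5 lc_e_rc_13_3 lc_e_rc_16_5 lc_e_rc_27_5 lc_e_rc_18_1 lc_e_rc_27_1 lc_e_rc_27_7 lc_e_rc_13_3 lc_e_rc_27_7 lc_e_rc_19_2 lc_e_rc_9_3 lc_e_rc_13_1 lc_e_rc_27_7 lc_e_rc_13_1 lc_e_rc_27_5 lc_e_rc_9_3 lc_e_Cert_tree lc_e_rc_9_1 lc_e_rc_13_3 lc_e_rc_18_1 lc_e_rc_13_3 lc_e_Cert_tree lc_e_rc_13_3 lc_e_rc_9_3 lc_e_rc_18_1 lc_e_rc_18_1 lc_e_rc_13_3 lc_e_rc_13_3 lc_e_rc_18_1 lc_e_rc_16_3 lc_e_rc_18_1 lc_e_rc_18_1 lc_e_rc_9_3 lc_e_rc_9_3 lc_e_rc_9_3 lc_e_rc_27_5 lc_e_rc_9_1 lc_e_rc_27_5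 lc_e_rc_18_1 lc_e_rc_9_3 lc_e_rc_19_0 lc_e_rc_18_1 lc_e_rc_18_1 lc_e_rc_18_1 lc_e_rc_16_1 lc_e_rc_16_5 lc_e_rc_27_5 lc_e_rc_16_5 lc_e_rc_18_1 lc_e_rc_18_1 lc_e_rc_9_3 lc_e_rc_18_1 lc_e_rc_18_1 lc_e_rc_19_0 lc_e_rc_9_3 lc_e_rc_16_5) (@D3.rec (fun _ => (Cert rels S Gen.e)) lc_e_rc_18_1 lc_e_rc_16_1 lc_e_rc_9_1 lc_e_rc_18_1 lc_e_rc_19_4 lc_e_rc_16_1 lc_e_rc_9_3 lc_e_rc_16_5 lc_e_rc_16_5 lc_e_rc_9_3 lc_e_rc_9_3 lc_e_rc_18_1 lc_e_rc_16_5 lc_e_rc_4_3 lc_e_rc_18_1 lc_e_rc_18_1 lc_e_rc_27_1 lc_e_rc_27_5 lc_e_rc_19_2 lc_e_rc_18_1 lc_e_rc_27_5 lc_e_rc_13_3 lc_e_rc_27_5 lc_e_rc_9_1 lc_e_Cert_tree lc_e_rc_27_7 lc_e_rc_27_1 lc_e_rc_13_3 lc_e_rc_27_5 lc_e_rc_13_1 lc_e_rc_16_1 lc_e_rc_27_7 lc_e_rc_16_3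 lc_e_rc_18_1 lc_e_rc_27_1 lc_e_rc_13_3 lc_e_rc_18_1 lc_e_rc_16_1 lc_e_rc_13_3 lc_e_rc_9_3 lc_e_Cert_tree lc_e_rc_13_3 lc_e_rc_9_3 lc_e_rc_18_1 lc_e_rc_16_5 lc_e_Cert_tree lc_e_rc_19_2 lc_e_rc_16_3 lc_e_rc_9_1 lc_e_rc_18_1 lc_e_rc_16_3 lc_e_rc_13_1 lc_e_rc_9_3 lc_e_rc_27_1 lc_e_rc_13_3 lc_e_rc_9_3 lc_e_rc_16_3 lc_e_Cert_tree lc_e_rc_27_7 lc_e_rc_18_1 lc_e_rc_27_5 lc_e_rc_19_4) (@D3.rec (fun _ => (Cert rels S Gen.e)) lc_e_rc_9_3 lc_e_Cert_tree lc_e_rc_9_3 lc_e_rc_18_1 lc_e_rc_13_1 lc_e_rc_18_1 lc_e_rc_9_1 lc_e_rc_18_1 lc_e_rc_27_5 lc_e_rc_27_5 lc_e_rc_19_4 lc_e_rc_18_1 lc_e_rc_16_1 lc_e_rc_19_4 lc_e_rc_13_1 lc_e_rc_13_3 lc_e_rc_18_1 lc_e_rc_18_1 lc_e_rc_27_1 lc_e_rc_19_4 lc_e_rc_16_1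 lc_e_rc_19_4 lc_e_rc_13_3 lc_e_rc_9_1 lc_e_rc_13_3 lc_e_rc_18_1 lc_e_rc_9_3 lc_e_rc_18_1 lc_e_rc_18_1 lc_e_rc_19_2 lc_e_rc_9_3 lc_e_rc_19_4 lc_e_rc_18_1 lc_e_rc_9_3 lc_e_rc_13_3 lc_e_rc_18_1 lc_e_rc_19_4 lc_e_rc_18_1 lc_e_rc_9_3 lc_e_rc_13_3 lc_e_rc_13_1 lc_e_rc_18_1 lc_e_rc_18_1 lc_e_rc_16_1 lc_e_rc_18_1 lc_e_rc_13_3 lc_e_rc_18_1 lc_e_rc_18_1 lc_e_rc_18_1 lc_e_rc_18_1 lc_e_rc_4_1 lc_e_rc_16_3 lc_e_rc_13_3 lc_e_rc_13_1 lc_e_rc_18_1 lc_e_rc_27_5 lc_e_rc_13_1 lc_e_Cert_tree lc_e_rc_18_1 lc_e_rc_13_3 lc_e_rc_16_1 lc_e_rc_19_4) (@D3.rec (fun _ => (Cert rels S Gen.e)) lc_e_rc_19_4 lc_e_rc_19_4 lc_e_rc_13_3 lc_e_rc_13_1 lc_e_rc_18_1 lc_e_rc_9_3 lc_e_rc_13_1 lc_e_rc_27_7 lc_e_rc_13_1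 lc_e_rc_9_1 lc_e_rc_16_3 lc_e_rc_19_4 lc_e_rc_18_1 lc_e_rc_13_3 lc_e_rc_4_1 lc_e_rc_18_1 lc_e_rc_19_2 lc_e_rc_16_1 lc_e_rc_19_4 lc_e_rc_16_5 lc_e_rc_18_1 lc_e_rc_9_3 lc_e_rc_27_1 lc_e_rc_27_7 lc_e_rc_18_1 lc_e_rc_18_1 lc_e_rc_13_3 lc_e_rc_16_1 lc_e_rc_27_5 lc_e_rc_16_3 lc_e_rc_4_3 lc_e_rc_19_2 lc_e_Cert_tree lc_e_rc_18_1 lc_e_rc_13_3 lc_e_rc_9_3 lc_e_rc_13_3 lc_e_rc_27_5 lc_e_rc_27_7 lc_e_rc_18_1 lc_e_rc_18_1 lc_e_rc_27_7 lc_e_rc_18_1 lc_e_rc_19_4 lc_e_rc_16_5 lc_e_rc_18_1 lc_e_rc_16_3 lc_e_rc_18_1 lc_e_rc_4_3 lc_e_rc_13_1 lc_e_rc_18_1 lc_e_rc_13_3 lc_e_rc_18_1 lc_e_rc_18_1 lc_e_rc_18_1 lc_e_rc_18_1 lc_e_rc_18_1 lc_e_rc_4_1 lc_e_rc_27_1 lc_e_rc_13_3 lc_e_rc_18_1 lc_e_rc_9_1) (@D3.rec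 (fun _ => (Cert rels S Gen.e)) lc_e_rc_16_3 lc_e_rc_27_7 lc_e_rc_13_1 lc_e_rc_27_5 lc_e_rc_18_1 lc_e_rc_13_1 lc_e_rc_27_5 lc_e_rc_18_1 lc_e_rc_9_1 lc_e_rc_18_1 lc_e_rc_18_1 lc_e_rc_18_1 lc_e_rc_16_5 lc_e_rc_16_1 lc_e_rc_4_1 lc_e_rc_18_1 lc_e_rc_13_3 lc_e_rc_9_3 lc_e_rc_9_3 lc_e_rc_16_3 lc_e_rc_13_3 lc_e_rc_27_1 lc_e_rc_18_1 lc_e_rc_13_3 lc_e_rc_16_5 lc_e_rc_19_2 lc_e_rc_18_1 lc_e_rc_18_1 lc_e_rc_27_1 lc_e_rc_16_5 lc_e_rc_18_1 lc_e_rc_18_1 lc_e_rc_16_5 lc_e_rc_16_3 lc_e_rc_19_2 lc_e_rc_16_5 lc_e_rc_9_3 lc_e_rc_18_1 lc_e_rc_18_1 lc_e_rc_9_3 lc_e_rc_16_3 lc_e_rc_19_4 lc_e_rc_4_3 lc_e_rc_18_1 lc_e_rc_27_1 lc_e_rc_13_3 lc_e_rc_18_1 lc_e_rc_18_1 lc_e_rc_9_3 lc_e_rc_27_7 lc_e_rc_19_2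 lc_e_rc_4_3 lc_e_rc_16_1 lc_e_rc_13_1 lc_e_rc_13_1 lc_e_rc_19_4 lc_e_rc_9_3 lc_e_rc_19_4 lc_e_rc_13_3 lc_e_rc_18_1 lc_e_rc_13_3 lc_e_rc_16_5) (@D3.rec (fun _ => (Cert rels S Gen.e)) lc_e_rc_13_3 lc_e_rc_18_1 lc_e_rc_13_1 lc_e_rc_18_1 lc_e_rc_9_3 lc_e_rc_18_1 lc_e_rc_16_3 lc_e_rc_19_4 lc_e_rc_27_1 lc_e_rc_16_5 lc_e_rc_27_1 lc_e_rc_16_5 lc_e_rc_27_7 lc_e_rc_18_1 lc_e_rc_27_7 lc_e_rc_18_1 lc_e_rc_4_3 lc_e_rc_16_3 lc_e_rc_18_1 lc_e_rc_13_3 lc_e_rc_4_3 lc_e_rc_13_1 lc_e_rc_27_5 lc_e_rc_13_3 lc_e_rc_27_1 lc_e_rc_16_5 lc_e_rc_27_5 lc_e_rc_27_7 lc_e_rc_18_1 lc_e_rc_18_1 lc_e_rc_13_1 lc_e_rc_18_1 lc_e_rc_9_1 lc_e_rc_27_5 lc_e_Cert_tree lc_e_rc_19_2 lc_e_rc_16_5 lc_e_rc_18_1 lc_e_rc_27_5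 lc_e_rc_13_3 lc_e_rc_18_1 lc_e_rc_13_3 lc_e_rc_18_1 lc_e_rc_16_5 lc_e_rc_18_1 lc_e_rc_4_3 lc_e_rc_16_5 lc_e_rc_18_1 lc_e_rc_4_3 lc_e_rc_13_3 lc_e_rc_19_4 lc_e_rc_16_5 lc_e_rc_18_1 lc_e_rc_18_1 lc_e_rc_27_5 lc_e_rc_18_1 lc_e_rc_9_3 lc_e_rc_27_5 lc_e_rc_27_1 lc_e_rc_18_1 lc_e_rc_16_5 lc_e_rc_18_1) (@D3.rec (fun _ => (Cert rels S Gen.e)) lc_e_rc_13_3 lc_e_rc_13_1 lc_e_rc_16_3 lc_e_rc_18_1 lc_e_rc_13_3 lc_e_rc_9_1 lc_e_Cert_tree lc_e_rc_18_1 lc_e_rc_13_3 lc_e_rc_4_3 lc_e_rc_9_3 lc_e_rc_19_2 lc_e_rc_16_3 lc_e_rc_18_1 lc_e_rc_16_5 lc_e_rc_18_1 lc_e_rc_19_2 lc_e_rc_18_1 lc_e_rc_13_1 lc_e_rc_18_1 lc_e_rc_16_5 lc_e_rc_19_0 lc_e_rc_18_1 lc_e_rc_18_1 lc_e_rc_4_3 lc_e_rc_13_3 lc_e_rc_4_1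 lc_e_rc_13_3 lc_e_rc_27_7 lc_e_rc_18_1 lc_e_rc_27_5 lc_e_rc_19_2 lc_e_rc_9_3 lc_e_rc_27_5 lc_e_rc_16_1 lc_e_rc_27_7 lc_e_rc_27_1 lc_e_rc_9_3 lc_e_rc_19_0 lc_e_rc_13_1 lc_e_rc_18_1 lc_e_rc_27_1 lc_e_rc_19_2 lc_e_rc_13_3 lc_e_rc_4_3 lc_e_rc_27_7 lc_e_rc_18_1 lc_e_rc_13_3 lc_e_rc_4_3 lc_e_rc_16_3 lc_e_rc_13_3 lc_e_rc_13_1 lc_e_rc_4_1 lc_e_rc_16_3 lc_e_rc_18_1 lc_e_rc_13_1 lc_e_rc_18_1 lc_e_rc_18_1 lc_e_rc_18_1 lc_e_rc_18_1 lc_e_rc_9_3 lc_e_rc_9_3) (@D3.rec (fun _ => (Cert rels S Gen.e)) lc_e_rc_16_5 lc_e_rc_9_3 lc_e_rc_18_1 lc_e_rc_4_1 lc_e_rc_16_1 lc_e_rc_18_1 lc_e_rc_27_5 lc_e_rc_18_1 lc_e_rc_19_4 lc_e_rc_13_3 lc_e_rc_9_1 lc_e_rc_18_1 lc_e_rc_9_1 lc_e_rc_27_5 lc_e_rc_9_1 lc_e_rc_13_3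 lc_e_rc_27_1 lc_e_rc_27_5 lc_e_rc_27_5 lc_e_rc_13_3 lc_e_rc_9_3 lc_e_rc_27_7 lc_e_rc_9_3 lc_e_rc_4_3 lc_e_rc_9_1 lc_e_rc_18_1 lc_e_rc_18_1 lc_e_rc_9_1 lc_e_rc_13_3 lc_e_rc_9_1 lc_e_rc_9_3 lc_e_rc_18_1 lc_e_rc_16_3 lc_e_rc_13_1 lc_e_rc_9_3 lc_e_rc_27_5 lc_e_rc_13_3 lc_e_rc_16_3 lc_e_rc_4_1 lc_e_rc_13_3 lc_e_rc_18_1 lc_e_rc_27_1 lc_e_rc_16_1 lc_e_rc_19_4 lc_e_rc_18_1 lc_e_rc_16_3 lc_e_rc_18_1 lc_e_rc_16_5 lc_e_rc_27_5 lc_e_rc_18_1 lc_e_rc_18_1 lc_e_rc_18_1 lc_e_rc_18_1 lc_e_rc_16_3 lc_e_rc_13_1 lc_e_rc_18_1 lc_e_rc_18_1 lc_e_rc_9_1 lc_e_rc_27_5 lc_e_rc_18_1 lc_e_rc_27_1 lc_e_rc_27_7) (@D3.rec (fun _ => (Cert rels S Gen.e)) lc_e_rc_16_1 lc_e_rc_27_7 lc_e_rc_16_5 lc_e_rc_27_7 lc_e_rc_18_1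 lc_e_rc_9_1 lc_e_rc_13_3 lc_e_rc_27_5 lc_e_rc_9_3 lc_e_rc_13_3 lc_e_rc_13_1 lc_e_Cert_tree lc_e_rc_27_5 lc_e_rc_16_5 lc_e_rc_18_1 lc_e_rc_13_3 lc_e_rc_16_1 lc_e_rc_9_3 lc_e_Cert_tree lc_e_Cert_tree lc_e_rc_18_1 lc_e_rc_9_3 lc_e_rc_18_1 lc_e_rc_19_2 lc_e_rc_13_1 lc_e_rc_13_3 lc_e_rc_18_1 lc_e_rc_16_1 lc_e_rc_18_1 lc_e_rc_16_1 lc_e_rc_27_7 lc_e_rc_13_3 lc_e_rc_4_1 lc_e_rc_18_1 lc_e_rc_9_3 lc_e_rc_9_1 lc_e_rc_18_1 lc_e_rc_9_1 lc_e_rc_18_1 lc_e_rc_18_1 lc_e_rc_13_3 lc_e_rc_4_3 lc_e_rc_9_3 lc_e_rc_18_1 lc_e_rc_27_7 lc_e_Cert_tree lc_e_rc_13_1 lc_e_rc_18_1 lc_e_rc_16_5 lc_e_rc_18_1 lc_e_rc_16_3 lc_e_rc_16_5 lc_e_rc_13_3 lc_e_rc_4_3 lc_e_rc_18_1 lc_e_rc_9_3 lc_e_rc_13_3 lc_e_rc_9_3 lc_e_rc_18_1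 lc_e_rc_18_1 lc_e_rc_13_3 lc_e_rc_13_3) (@D3.rec (fun _ => (Cert rels S Gen.e)) lc_e_rc_27_1 lc_e_rc_27_5 lc_e_rc_18_1 lc_e_rc_19_2 lc_e_Cert_tree lc_e_rc_18_1 lc_e_rc_27_1 lc_e_rc_16_5 lc_e_rc_9_3 lc_e_rc_13_1 lc_e_rc_16_5 lc_e_rc_16_3 lc_e_rc_9_1 lc_e_rc_16_3 lc_e_rc_18_1 lc_e_rc_13_3 lc_e_rc_9_3 lc_e_rc_18_1 lc_e_rc_9_3 lc_e_rc_16_5 lc_e_rc_13_3 lc_e_rc_4_3 lc_e_rc_9_1 lc_e_rc_16_3 lc_e_rc_18_1 lc_e_rc_16_5 lc_e_rc_9_3 lc_e_rc_16_5 lc_e_rc_18_1 lc_e_rc_18_1 lc_e_rc_16_5 lc_e_rc_27_5 lc_e_rc_18_1 lc_e_rc_27_1 lc_e_rc_27_1 lc_e_rc_18_1 lc_e_rc_18_1 lc_e_rc_13_3 lc_e_rc_4_3 lc_e_rc_4_3 lc_e_rc_27_5 lc_e_rc_18_1 lc_e_rc_19_2 lc_e_rc_18_1 lc_e_rc_9_3 lc_e_Cert_tree lc_e_rc_4_3 lc_e_rc_18_1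 lc_e_Cert_tree lc_e_rc_13_3 lc_e_rc_18_1 lc_e_rc_9_3 lc_e_rc_27_7 lc_e_rc_27_7 lc_e_rc_16_3 lc_e_rc_9_3 lc_e_rc_13_1 lc_e_rc_18_1 lc_e_rc_13_3 lc_e_rc_13_1 lc_e_rc_4_3 lc_e_rc_16_3) (@D3.rec (fun _ => (Cert rels S Gen.e)) lc_e_rc_19_4 lc_e_rc_27_5 lc_e_rc_18_1 lc_e_rc_27_7 lc_e_Cert_tree lc_e_rc_4_3 lc_e_rc_9_3 lc_e_rc_19_4 lc_e_rc_18_1 lc_e_Cert_tree lc_e_rc_27_5 lc_e_rc_19_4 lc_e_rc_18_1 lc_e_rc_18_1 lc_e_rc_9_1 lc_e_rc_18_1 lc_e_rc_19_0 lc_e_rc_13_3 lc_e_rc_9_3 lc_e_rc_4_1 lc_e_rc_9_3 lc_e_rc_13_3 lc_e_rc_27_5 lc_e_rc_4_3 lc_e_rc_13_1 lc_e_rc_27_1 lc_e_rc_4_1 lc_e_rc_18_1 lc_e_rc_27_1 lc_e_rc_18_1 lc_e_rc_9_3 lc_e_rc_13_3 lc_e_rc_13_3 lc_e_rc_13_3 lc_e_rc_18_1 lc_e_rc_16_1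 lc_e_rc_9_3 lc_e_rc_16_1 lc_e_rc_13_3 lc_e_rc_16_5 lc_e_rc_27_7 lc_e_rc_27_5 lc_e_rc_19_2 lc_e_rc_19_0 lc_e_rc_27_5 lc_e_rc_18_1 lc_e_rc_19_0 lc_e_rc_27_5 lc_e_rc_4_3 lc_e_rc_9_1 lc_e_rc_9_3 lc_e_rc_13_3 lc_e_rc_9_1 lc_e_rc_13_1 lc_e_rc_18_1 lc_e_rc_13_3 lc_e_rc_9_3 lc_e_rc_18_1 lc_e_rc_9_3 lc_e_rc_18_1 lc_e_rc_27_1 lc_e_rc_27_5) (@D3.rec (fun _ => (Cert rels S Gen.e)) lc_e_rc_18_1 lc_e_rc_27_5 lc_e_rc_9_3 lc_e_rc_16_3 lc_e_rc_19_2 lc_e_rc_18_1 lc_e_rc_27_1 lc_e_rc_9_3 lc_e_rc_13_1 lc_e_rc_16_5 lc_e_rc_16_5 lc_e_rc_27_1 lc_e_rc_16_3 lc_e_rc_13_3 lc_e_rc_19_4 lc_e_rc_18_1 lc_e_rc_9_3 lc_e_rc_13_3 lc_e_rc_18_1 lc_e_rc_19_0 lc_e_rc_18_1 lc_e_rc_9_3 lc_e_rc_18_1 lc_e_rc_16_3 lc_e_rc_18_1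 lc_e_rc_16_1 lc_e_rc_13_3 lc_e_rc_18_1 lc_e_rc_27_5 lc_e_rc_13_3 lc_e_rc_16_1 lc_e_rc_9_3 lc_e_rc_13_1 lc_e_Cert_tree lc_e_rc_9_3 lc_e_rc_13_3 lc_e_rc_16_5 lc_e_rc_16_5 lc_e_rc_9_3 lc_e_rc_16_5 lc_e_rc_9_3 lc_e_rc_16_3 lc_e_rc_13_3 lc_e_Cert_tree lc_e_rc_18_1 lc_e_rc_27_5 lc_e_rc_18_1 lc_e_rc_13_3 lc_e_rc_18_1 lc_e_rc_16_5 lc_e_rc_16_5 lc_e_rc_13_3 lc_e_rc_9_1 lc_e_rc_4_3 lc_e_rc_18_1 lc_e_rc_13_3 lc_e_rc_18_1 lc_e_rc_27_5 lc_e_rc_16_5 lc_e_rc_27_5 lc_e_rc_27_5 lc_e_rc_18_1) (@D3.rec (fun _ => (Cert rels S Gen.e)) lc_e_rc_13_3 lc_e_rc_16_3 lc_e_rc_16_5 lc_e_rc_13_3 lc_e_rc_19_4 lc_e_rc_13_3 lc_e_rc_9_3 lc_e_rc_16_5 lc_e_rc_18_1 lc_e_rc_13_3 lc_e_rc_27_7 lc_e_rc_19_4 lc_e_rc_13_3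 lc_e_Cert_tree lc_e_rc_18_1 lc_e_rc_9_1 lc_e_rc_13_3 lc_e_rc_19_0 lc_e_rc_16_3 lc_e_rc_13_3 lc_e_rc_4_3 lc_e_rc_18_1 lc_e_rc_18_1 lc_e_rc_27_1 lc_e_rc_16_5 lc_e_rc_19_0 lc_e_rc_13_3 lc_e_rc_9_3 lc_e_rc_18_1 lc_e_rc_9_3 lc_e_rc_16_5 lc_e_rc_16_3 lc_e_rc_18_1 lc_e_rc_9_3 lc_e_rc_18_1 lc_e_Cert_tree lc_e_rc_18_1 lc_e_rc_16_5 lc_e_rc_16_5 lc_e_rc_27_1 lc_e_rc_13_3 lc_e_rc_27_1 lc_e_rc_13_3 lc_e_rc_9_1 lc_e_rc_18_1 lc_e_rc_4_3 lc_e_rc_19_2 lc_e_rc_16_5 lc_e_rc_16_5 lc_e_rc_18_1 lc_e_rc_9_3 lc_e_rc_13_3 lc_e_rc_13_3 lc_e_rc_13_3 lc_e_rc_16_5 lc_e_rc_16_3 lc_e_rc_18_1 lc_e_rc_18_1 lc_e_rc_27_5 lc_e_rc_16_5 lc_e_rc_9_3 lc_e_rc_13_3) (@D3.rec (fun _ => (Cert rels S Gen.e)) lc_e_rc_19_0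 lc_e_Cert_tree lc_e_Cert_tree lc_e_rc_18_1 lc_e_rc_13_3 lc_e_rc_27_1 lc_e_rc_13_3 lc_e_Cert_tree lc_e_rc_18_1 lc_e_rc_9_3 lc_e_rc_16_1 lc_e_rc_18_1 lc_e_rc_9_1 lc_e_rc_18_1 lc_e_rc_16_5 lc_e_rc_27_1 lc_e_rc_18_1 lc_e_rc_18_1 lc_e_rc_18_1 lc_e_rc_13_1 lc_e_rc_18_1 lc_e_rc_19_4 lc_e_rc_19_4 lc_e_rc_18_1 lc_e_rc_16_5 lc_e_rc_16_3 lc_e_rc_18_1 lc_e_Cert_tree lc_e_Cert_tree lc_e_rc_16_5 lc_e_rc_16_3 lc_e_rc_9_1 lc_e_rc_18_1 lc_e_rc_13_1 lc_e_Cert_tree lc_e_rc_18_1 lc_e_rc_16_3 lc_e_rc_13_3 lc_e_rc_4_1 lc_e_rc_18_1 lc_e_rc_27_5 lc_e_rc_27_1 lc_e_rc_16_3 lc_e_rc_19_4 lc_e_rc_9_1 lc_e_rc_27_1 lc_e_rc_18_1 lc_e_rc_13_3 lc_e_rc_27_5 lc_e_rc_18_1 lc_e_rc_18_1 lc_e_rc_9_3 lc_e_rc_18_1 lc_e_rc_13_3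 lc_e_rc_16_5 lc_e_rc_18_1 lc_e_rc_9_1 lc_e_rc_18_1 lc_e_rc_27_5 lc_e_rc_18_1 lc_e_rc_4_3 lc_e_rc_19_0) (@D3.rec (fun _ => (Cert rels S Gen.e)) lc_e_rc_4_1 lc_e_rc_13_3 lc_e_rc_9_1 lc_e_rc_13_1 lc_e_rc_18_1 lc_e_rc_19_0 lc_e_rc_4_3 lc_e_Cert_tree lc_e_rc_18_1 lc_e_rc_16_1 lc_e_rc_9_3 lc_e_rc_13_3 lc_e_rc_13_3 lc_e_rc_4_3 lc_e_rc_9_3 lc_e_rc_18_1 lc_e_rc_27_1 lc_e_rc_27_5 lc_e_rc_18_1 lc_e_rc_13_3 lc_e_rc_18_1 lc_e_rc_16_5 lc_e_rc_18_1 lc_e_rc_16_1 lc_e_rc_13_1 lc_e_rc_27_5 lc_e_rc_18_1 lc_e_rc_18_1 lc_e_rc_13_3 lc_e_rc_18_1 lc_e_rc_18_1 lc_e_rc_18_1 lc_e_rc_19_2 lc_e_rc_18_1 lc_e_rc_4_3 lc_e_rc_18_1 lc_e_rc_9_3 lc_e_rc_13_1 lc_e_rc_18_1 lc_e_rc_16_1 lc_e_rc_16_5 lc_e_rc_27_7 lc_e_rc_4_3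 lc_e_rc_18_1 lc_e_rc_16_1 lc_e_rc_18_1 lc_e_rc_13_3 lc_e_rc_19_2 lc_e_rc_13_3 lc_e_rc_27_1 lc_e_rc_13_3 lc_e_rc_4_3 lc_e_rc_27_7 lc_e_rc_18_1 lc_e_rc_9_3 lc_e_rc_13_1 lc_e_rc_18_1 lc_e_rc_13_1 lc_e_rc_13_3 lc_e_rc_27_5 lc_e_rc_9_3 lc_e_rc_16_3) (@D3.rec (fun _ => (Cert rels S Gen.e)) lc_e_rc_13_1 lc_e_rc_18_1 lc_e_rc_18_1 lc_e_rc_16_5 lc_e_rc_27_5 lc_e_rc_16_5 lc_e_rc_4_1 lc_e_rc_27_5 lc_e_rc_13_3 lc_e_rc_27_7 lc_e_rc_18_1 lc_e_rc_18_1 lc_e_rc_13_3 lc_e_rc_19_2 lc_e_rc_4_3 lc_e_rc_13_3 lc_e_rc_18_1 lc_e_rc_4_3 lc_e_rc_4_3 lc_e_rc_18_1 lc_e_rc_27_1 lc_e_rc_9_3 lc_e_rc_13_3 lc_e_rc_13_3 lc_e_rc_27_5 lc_e_rc_27_1 lc_e_rc_18_1 lc_e_rc_19_2 lc_e_rc_16_3 lc_e_rc_4_1 lc_e_rc_13_1 lc_e_rc_18_1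 lc_e_rc_18_1 lc_e_rc_13_3 lc_e_rc_13_3 lc_e_rc_13_1 lc_e_rc_27_5 lc_e_rc_13_1 lc_e_rc_18_1 lc_e_rc_27_5 lc_e_rc_18_1 lc_e_rc_18_1 lc_e_rc_9_3 lc_e_rc_18_1 lc_e_rc_27_1 lc_e_rc_4_3 lc_e_rc_9_1 lc_e_rc_16_1 lc_e_rc_13_3 lc_e_Cert_tree lc_e_rc_13_3 lc_e_rc_18_1 lc_e_rc_18_1 lc_e_rc_13_3 lc_e_rc_18_1 lc_e_rc_13_3 lc_e_rc_18_1 lc_e_rc_18_1 lc_e_rc_18_1 lc_e_rc_13_3 lc_e_rc_9_3 lc_e_rc_27_5) (@D3.rec (fun _ => (Cert rels S Gen.e)) lc_e_rc_13_1 lc_e_rc_18_1 lc_e_rc_9_3 lc_e_rc_18_1 lc_e_rc_27_5 lc_e_rc_9_1 lc_e_rc_18_1 lc_e_rc_16_1 lc_e_rc_9_3 lc_e_rc_16_5 lc_e_rc_18_1 lc_e_rc_27_5 lc_e_rc_19_0 lc_e_rc_16_5 lc_e_rc_13_1 lc_e_rc_18_1 lc_e_rc_18_1 lc_e_rc_18_1 lc_e_rc_27_1 lc_e_rc_19_2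 lc_e_rc_27_1 lc_e_rc_13_1 lc_e_rc_18_1 lc_e_rc_4_3 lc_e_rc_16_3 lc_e_rc_27_1 lc_e_Cert_tree lc_e_rc_18_1 lc_e_rc_13_3 lc_e_rc_27_1 lc_e_rc_27_5 lc_e_rc_27_7 lc_e_rc_16_5 lc_e_rc_19_4 lc_e_rc_4_3 lc_e_rc_27_5 lc_e_rc_18_1 lc_e_rc_13_1 lc_e_rc_9_1 lc_e_rc_19_2 lc_e_rc_18_1 lc_e_Cert_tree lc_e_rc_18_1 lc_e_rc_9_3 lc_e_rc_18_1 lc_e_rc_13_1 lc_e_rc_18_1 lc_e_rc_9_3 lc_e_rc_9_3 lc_e_Cert_tree lc_e_rc_18_1 lc_e_rc_19_2 lc_e_rc_9_1 lc_e_rc_9_3 lc_e_rc_27_1 lc_e_rc_18_1 lc_e_rc_18_1 lc_e_rc_18_1 lc_e_rc_9_3 lc_e_rc_27_5 lc_e_Cert_tree lc_e_rc_18_1) (@D3.rec (fun _ => (Cert rels S Gen.e)) lc_e_rc_16_5 lc_e_rc_18_1 lc_e_rc_13_3 lc_e_rc_27_7 lc_e_rc_16_3 lc_e_rc_13_1 lc_e_rc_27_5 lc_e_rc_27_5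 lc_e_rc_18_1 lc_e_rc_19_2 lc_e_rc_18_1 lc_e_rc_16_5 lc_e_rc_9_3 lc_e_rc_13_3 lc_e_rc_27_7 lc_e_rc_27_5 lc_e_rc_4_3 lc_e_rc_18_1 lc_e_rc_13_3 lc_e_rc_16_1 lc_e_rc_27_7 lc_e_rc_13_3 lc_e_rc_4_1 lc_e_rc_9_3 lc_e_rc_4_1 lc_e_rc_16_3 lc_e_rc_18_1 lc_e_rc_19_4 lc_e_rc_4_3 lc_e_rc_9_3 lc_e_rc_13_3 lc_e_rc_13_3 lc_e_rc_19_2 lc_e_rc_13_1 lc_e_rc_16_5 lc_e_rc_16_3 lc_e_rc_13_1 lc_e_Cert_tree lc_e_Cert_tree lc_e_rc_18_1 lc_e_rc_18_1 lc_e_rc_16_5 lc_e_rc_18_1 lc_e_rc_19_2 lc_e_rc_27_1 lc_e_rc_4_1 lc_e_rc_18_1 lc_e_rc_18_1 lc_e_rc_18_1 lc_e_rc_9_3 lc_e_rc_18_1 lc_e_rc_27_5 lc_e_rc_18_1 lc_e_rc_27_5 lc_e_rc_18_1 lc_e_rc_18_1 lc_e_rc_9_1 lc_e_rc_13_3 lc_e_rc_27_1 lc_e_rc_16_3 lc_e_rc_18_1 lc_e_rc_18_1)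 (@D3.rec (fun _ => (Cert rels S Gen.e)) lc_e_rc_19_4 lc_e_rc_9_1 lc_e_rc_27_7 lc_e_rc_27_7 lc_e_rc_18_1 lc_e_rc_13_3 lc_e_rc_18_1 lc_e_rc_13_3 lc_e_rc_13_3 lc_e_rc_16_1 lc_e_rc_13_3 lc_e_rc_13_3 lc_e_rc_18_1 lc_e_rc_13_3 lc_e_rc_13_1 lc_e_rc_16_3 lc_e_rc_18_1 lc_e_Cert_tree lc_e_Cert_tree lc_e_rc_18_1 lc_e_rc_16_1 lc_e_rc_27_5 lc_e_rc_13_3 lc_e_rc_9_3 lc_e_rc_18_1 lc_e_rc_19_4 lc_e_rc_27_5 lc_e_rc_18_1 lc_e_rc_18_1 lc_e_rc_9_3 lc_e_rc_16_1 lc_e_rc_19_2 lc_e_rc_9_1 lc_e_rc_18_1 lc_e_rc_16_3 lc_e_Cert_tree lc_e_rc_18_1 lc_e_rc_4_3 lc_e_rc_16_1 lc_e_rc_27_1 lc_e_rc_18_1 lc_e_rc_16_1 lc_e_rc_4_3 lc_e_rc_9_3 lc_e_rc_18_1 lc_e_rc_4_3 lc_e_rc_13_3 lc_e_rc_27_1 lc_e_rc_19_4 lc_e_rc_18_1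 lc_e_rc_4_3 lc_e_rc_18_1 lc_e_rc_16_1 lc_e_rc_18_1 lc_e_rc_13_1 lc_e_rc_18_1 lc_e_rc_18_1 lc_e_rc_27_1 lc_e_rc_18_1 lc_e_rc_4_3 lc_e_rc_27_5 lc_e_rc_27_5) (@D3.rec (fun _ => (Cert rels S Gen.e)) lc_e_rc_18_1 lc_e_rc_27_5 lc_e_rc_18_1 lc_e_rc_18_1 lc_e_rc_18_1 lc_e_rc_16_3 lc_e_rc_9_3 lc_e_rc_9_3 lc_e_rc_9_3 lc_e_rc_13_3 lc_e_rc_4_3 lc_e_rc_4_3 lc_e_rc_13_3 lc_e_rc_18_1 lc_e_rc_27_5 lc_e_rc_27_1 lc_e_rc_19_2 lc_e_rc_18_1 lc_e_rc_18_1 lc_e_rc_4_3 lc_e_rc_16_3 lc_e_rc_27_5 lc_e_rc_18_1 lc_e_rc_13_1 lc_e_rc_9_3 lc_e_rc_27_5 lc_e_rc_9_3 lc_e_rc_13_3 lc_e_rc_18_1 lc_e_rc_13_3 lc_e_rc_27_1 lc_e_rc_16_1 lc_e_rc_4_3 lc_e_rc_9_3 lc_e_rc_9_1 lc_e_rc_9_1 lc_e_rc_18_1 lc_e_rc_18_1 lc_e_rc_16_1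 lc_e_Cert_tree lc_e_rc_16_5 lc_e_rc_18_1 lc_e_rc_18_1 lc_e_rc_13_3 lc_e_rc_18_1 lc_e_rc_16_3 lc_e_rc_16_3 lc_e_rc_18_1 lc_e_rc_18_1 lc_e_rc_27_7 lc_e_rc_18_1 lc_e_rc_18_1 lc_e_rc_18_1 lc_e_rc_4_1 lc_e_rc_18_1 lc_e_rc_13_3 lc_e_rc_16_3 lc_e_rc_13_3 lc_e_rc_13_1 lc_e_rc_27_5 lc_e_rc_18_1 lc_e_Cert_tree) (@D3.rec (fun _ => (Cert rels S Gen.e)) lc_e_rc_18_1 lc_e_rc_13_3 lc_e_Cert_tree lc_e_rc_18_1 lc_e_rc_16_5 lc_e_rc_13_3 lc_e_rc_13_1 lc_e_rc_19_2 lc_e_rc_27_1 lc_e_rc_9_1 lc_e_rc_13_3 lc_e_rc_13_3 lc_e_rc_18_1 lc_e_rc_16_3 lc_e_rc_18_1 lc_e_rc_16_1 lc_e_rc_13_3 lc_e_rc_4_3 lc_e_rc_18_1 lc_e_rc_18_1 lc_e_rc_16_1 lc_e_rc_9_1 lc_e_rc_18_1 lc_e_rc_18_1 lc_e_rc_18_1 lc_e_rc_18_1 lc_e_rc_27_1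 lc_e_rc_16_1 lc_e_rc_18_1 lc_e_rc_4_1 lc_e_rc_16_3 lc_e_rc_13_3 lc_e_rc_18_1 lc_e_rc_16_5 lc_e_rc_18_1 lc_e_rc_13_3 lc_e_rc_9_3 lc_e_rc_27_7 lc_e_rc_18_1 lc_e_rc_18_1 lc_e_rc_16_1 lc_e_rc_27_7 lc_e_rc_19_0 lc_e_rc_27_7 lc_e_rc_16_1 lc_e_rc_18_1 lc_e_rc_13_1 lc_e_rc_18_1 lc_e_rc_13_1 lc_e_rc_27_7 lc_e_rc_27_1 lc_e_rc_18_1 lc_e_rc_4_3 lc_e_rc_4_3 lc_e_rc_27_1 lc_e_rc_19_2 lc_e_rc_16_3 lc_e_rc_18_1 lc_e_rc_16_5 lc_e_rc_27_1 lc_e_rc_27_1 lc_e_rc_9_1) (@D3.rec (fun _ => (Cert rels S Gen.e)) lc_e_rc_19_2 lc_e_rc_18_1 lc_e_rc_16_3 lc_e_rc_9_3 lc_e_rc_27_1 lc_e_rc_18_1 lc_e_rc_18_1 lc_e_rc_19_2 lc_e_rc_16_5 lc_e_rc_18_1 lc_e_rc_9_3 lc_e_rc_4_3 lc_e_rc_16_5 lc_e_rc_18_1 lc_e_Cert_tree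 lc_e_rc_18_1 lc_e_rc_18_1 lc_e_rc_18_1 lc_e_rc_13_3 lc_e_rc_16_5 lc_e_rc_18_1 lc_e_rc_4_1 lc_e_rc_27_5 lc_e_rc_16_1 lc_e_rc_9_1 lc_e_rc_27_5 lc_e_rc_4_3 lc_e_rc_19_0 lc_e_rc_19_0 lc_e_rc_9_3 lc_e_rc_16_3 lc_e_rc_16_1 lc_e_rc_19_2 lc_e_rc_18_1 lc_e_rc_16_5 lc_e_rc_19_0 lc_e_rc_27_1 lc_e_rc_13_1 lc_e_rc_18_1 lc_e_rc_18_1 lc_e_rc_4_3 lc_e_rc_19_0 lc_e_rc_16_5 lc_e_rc_13_3 lc_e_rc_13_3 lc_e_rc_27_1 lc_e_rc_13_3 lc_e_rc_27_1 lc_e_rc_13_3 lc_e_rc_27_7 lc_e_rc_18_1 lc_e_rc_13_1 lc_e_rc_16_3 lc_e_rc_27_5 lc_e_rc_18_1 lc_e_rc_18_1 lc_e_rc_4_3 lc_e_rc_16_1 lc_e_rc_13_1 lc_e_rc_16_1 lc_e_rc_27_7 lc_e_rc_18_1) (@D3.rec (fun _ => (Cert rels S Gen.e)) lc_e_Cert_tree lc_e_rc_9_3 lc_e_rc_13_3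 lc_e_rc_9_1 lc_e_rc_13_1 lc_e_rc_9_3 lc_e_rc_13_3 lc_e_rc_13_3 lc_e_rc_18_1 lc_e_rc_16_5 lc_e_rc_4_3 lc_e_rc_27_7 lc_e_rc_9_3 lc_e_rc_18_1 lc_e_rc_18_1 lc_e_rc_16_1 lc_e_rc_18_1 lc_e_rc_9_1 lc_e_rc_16_5 lc_e_rc_18_1 lc_e_rc_27_5 lc_e_rc_27_5 lc_e_rc_13_3 lc_e_rc_9_1 lc_e_rc_27_5 lc_e_rc_16_5 lc_e_rc_18_1 lc_e_rc_9_3 lc_e_rc_18_1 lc_e_rc_27_7 lc_e_rc_13_3 lc_e_rc_4_1 lc_e_rc_13_1 lc_e_rc_18_1 lc_e_rc_18_1 lc_e_rc_27_5 lc_e_rc_4_3 lc_e_rc_13_3 lc_e_rc_16_1 lc_e_rc_16_1 lc_e_rc_13_1 lc_e_rc_27_1 lc_e_rc_13_3 lc_e_rc_18_1 lc_e_rc_4_3 lc_e_rc_27_1 lc_e_rc_18_1 lc_e_rc_4_3 lc_e_rc_13_3 lc_e_rc_9_3 lc_e_rc_18_1 lc_e_rc_18_1 lc_e_rc_13_3 lc_e_rc_13_3 lc_e_rc_18_1 lc_e_rc_18_1 lc_e_rc_9_3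 lc_e_rc_27_5 lc_e_rc_18_1 lc_e_rc_16_3 lc_e_rc_9_3 lc_e_rc_18_1) (@D3.rec (fun _ => (Cert rels S Gen.e)) lc_e_rc_13_1 lc_e_rc_19_2 lc_e_rc_4_3 lc_e_rc_18_1 lc_e_rc_18_1 lc_e_rc_18_1 lc_e_rc_18_1 lc_e_rc_13_1 lc_e_rc_13_3 lc_e_rc_18_1 lc_e_rc_9_1 lc_e_rc_16_1 lc_e_rc_18_1 lc_e_rc_16_5 lc_e_rc_19_4 lc_e_rc_13_3 lc_e_rc_18_1 lc_e_rc_18_1 lc_e_rc_18_1 lc_e_rc_27_5 lc_e_rc_18_1 lc_e_rc_27_7 lc_e_rc_27_1 lc_e_rc_16_5 lc_e_rc_18_1 lc_e_rc_13_1 lc_e_rc_18_1 lc_e_rc_27_5 lc_e_rc_13_3 lc_e_rc_18_1 lc_e_rc_27_5 lc_e_rc_18_1 lc_e_rc_9_3 lc_e_rc_19_4 lc_e_rc_18_1 lc_e_rc_16_5 lc_e_rc_27_7 lc_e_rc_18_1 lc_e_rc_9_3 lc_e_rc_18_1 lc_e_rc_27_5 lc_e_rc_27_5 lc_e_Cert_tree lc_e_rc_27_5 lc_e_rc_13_3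 lc_e_rc_18_1 lc_e_rc_13_3 lc_e_rc_18_1 lc_e_rc_27_5 lc_e_rc_18_1 lc_e_rc_18_1 lc_e_rc_16_1 lc_e_rc_19_2 lc_e_rc_18_1 lc_e_rc_16_5 lc_e_rc_18_1 lc_e_rc_18_1 lc_e_Cert_tree lc_e_rc_18_1 lc_e_rc_13_1 lc_e_rc_16_5 lc_e_rc_19_2) (@D3.rec (fun _ => (Cert rels S Gen.e)) lc_e_rc_9_3 lc_e_rc_27_7 lc_e_rc_18_1 lc_e_rc_16_1 lc_e_rc_19_4 lc_e_rc_13_1 lc_e_rc_18_1 lc_e_rc_13_3 lc_e_rc_9_3 lc_e_rc_18_1 lc_e_rc_19_0 lc_e_rc_13_3 lc_e_rc_13_3 lc_e_rc_18_1 lc_e_rc_9_3 lc_e_rc_4_1 lc_e_rc_18_1 lc_e_rc_9_1 lc_e_rc_9_3 lc_e_rc_13_3 lc_e_rc_18_1 lc_e_rc_18_1 lc_e_rc_27_5 lc_e_rc_13_3 lc_e_rc_9_3 lc_e_rc_16_5 lc_e_rc_16_3 lc_e_rc_19_4 lc_e_rc_18_1 lc_e_rc_13_3 lc_e_rc_16_1 lc_e_rc_19_2 lc_e_rc_9_3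 lc_e_rc_16_1 lc_e_rc_16_5 lc_e_rc_13_3 lc_e_Cert_tree lc_e_Cert_tree lc_e_rc_18_1 lc_e_rc_18_1 lc_e_rc_13_3 lc_e_rc_27_5 lc_e_rc_19_4 lc_e_rc_18_1 lc_e_rc_27_5 lc_e_rc_9_3 lc_e_rc_9_1 lc_e_rc_9_3 lc_e_rc_13_3 lc_e_rc_16_5 lc_e_rc_4_3 lc_e_rc_16_5 lc_e_rc_16_5 lc_e_rc_13_3 lc_e_rc_9_1 lc_e_Cert_tree lc_e_rc_13_1 lc_e_rc_18_1 lc_e_rc_18_1 lc_e_rc_13_3 lc_e_rc_27_5 lc_e_rc_13_3) (@D3.rec (fun _ => (Cert rels S Gen.e)) lc_e_Cert_tree lc_e_rc_18_1 lc_e_rc_16_5 lc_e_rc_13_3 lc_e_rc_13_3 lc_e_rc_9_3 lc_e_rc_18_1 lc_e_rc_9_3 lc_e_rc_18_1 lc_e_rc_18_1 lc_e_rc_18_1 lc_e_rc_16_5 lc_e_rc_18_1 lc_e_rc_13_3 lc_e_rc_18_1 lc_e_rc_16_1 lc_e_rc_9_3 lc_e_rc_27_5 lc_e_rc_13_3 lc_e_rc_13_1 lc_e_rc_18_1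 lc_e_rc_9_3 lc_e_rc_16_1 lc_e_rc_19_4 lc_e_rc_9_1 lc_e_rc_13_1 lc_e_rc_27_7 lc_e_rc_18_1 lc_e_rc_9_3 lc_e_rc_27_5 lc_e_rc_27_1 lc_e_rc_4_3 lc_e_rc_13_1 lc_e_rc_18_1 lc_e_rc_19_2 lc_e_rc_18_1 lc_e_rc_9_3 lc_e_rc_18_1 lc_e_rc_27_7 lc_e_rc_13_3 lc_e_rc_27_5 lc_e_rc_13_3 lc_e_rc_9_3 lc_e_rc_13_3 lc_e_rc_18_1 lc_e_rc_18_1 lc_e_rc_27_5 lc_e_rc_18_1 lc_e_rc_19_4 lc_e_rc_18_1 lc_e_rc_9_1 lc_e_rc_13_3 lc_e_rc_9_3 lc_e_rc_13_3 lc_e_rc_13_1 lc_e_rc_27_7 lc_e_rc_27_7 lc_e_rc_16_5 lc_e_Cert_tree lc_e_rc_18_1 lc_e_rc_27_5 lc_e_rc_13_3) (@D3.rec (fun _ => (Cert rels S Gen.e)) lc_e_rc_18_1 lc_e_rc_19_4 lc_e_rc_27_7 lc_e_rc_18_1 lc_e_rc_27_1 lc_e_rc_18_1 lc_e_rc_18_1 lc_e_rc_27_1 lc_e_rc_27_1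 lc_e_rc_18_1 lc_e_rc_27_5 lc_e_rc_16_1 lc_e_rc_19_4 lc_e_rc_27_7 lc_e_rc_18_1 lc_e_rc_19_4 lc_e_rc_9_3 lc_e_rc_18_1 lc_e_rc_27_7 lc_e_rc_18_1 lc_e_rc_18_1 lc_e_rc_13_3 lc_e_rc_19_4 lc_e_rc_4_3 lc_e_rc_18_1 lc_e_rc_18_1 lc_e_rc_16_1 lc_e_rc_19_4 lc_e_rc_16_5 lc_e_Cert_tree lc_e_rc_13_3 lc_e_rc_27_5 lc_e_rc_9_3 lc_e_rc_16_5 lc_e_rc_16_3 lc_e_rc_18_1 lc_e_rc_16_1 lc_e_rc_27_1 lc_e_rc_9_3 lc_e_rc_13_3 lc_e_rc_9_3 lc_e_rc_27_5 lc_e_rc_13_3 lc_e_rc_18_1 lc_e_rc_16_1 lc_e_rc_18_1 lc_e_rc_16_3 lc_e_rc_13_3 lc_e_rc_13_3 lc_e_rc_27_5 lc_e_rc_4_3 lc_e_rc_18_1 lc_e_rc_13_3 lc_e_rc_9_3 lc_e_rc_18_1 lc_e_rc_16_5 lc_e_rc_9_3 lc_e_rc_13_3 lc_e_rc_18_1 lc_e_rc_27_1 lc_e_rc_13_1 lc_e_rc_18_1) (@D3.rec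 (fun _ => (Cert rels S Gen.e)) lc_e_rc_18_1 lc_e_rc_9_1 lc_e_rc_16_3 lc_e_rc_27_5 lc_e_rc_16_3 lc_e_rc_18_1 lc_e_rc_18_1 lc_e_rc_19_2 lc_e_rc_19_4 lc_e_rc_18_1 lc_e_rc_16_1 lc_e_rc_27_1 lc_e_rc_4_3 lc_e_rc_9_3 lc_e_rc_18_1 lc_e_rc_18_1 lc_e_rc_16_5 lc_e_rc_16_1 lc_e_rc_18_1 lc_e_rc_16_5 lc_e_rc_16_1 lc_e_rc_19_2 lc_e_rc_9_3 lc_e_rc_27_7 lc_e_rc_9_3 lc_e_rc_16_5 lc_e_Cert_tree lc_e_rc_16_5 lc_e_rc_27_7 lc_e_rc_27_1 lc_e_rc_27_7 lc_e_rc_27_5 lc_e_rc_16_1 lc_e_rc_16_1 lc_e_rc_13_3 lc_e_Cert_tree lc_e_rc_27_5 lc_e_rc_19_0 lc_e_rc_18_1 lc_e_Cert_tree lc_e_rc_18_1 lc_e_rc_18_1 lc_e_rc_19_4 lc_e_rc_18_1 lc_e_rc_9_1 lc_e_rc_18_1 lc_e_rc_18_1 lc_e_rc_18_1 lc_e_rc_13_3 lc_e_Cert_tree lc_e_rc_18_1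 lc_e_rc_18_1 lc_e_rc_18_1 lc_e_rc_16_5 lc_e_rc_18_1 lc_e_rc_13_3 lc_e_rc_18_1 lc_e_rc_27_5 lc_e_rc_9_1 lc_e_rc_9_1 lc_e_rc_9_3 lc_e_rc_18_1) (@D3.rec (fun _ => (Cert rels S Gen.e)) lc_e_rc_16_3 lc_e_rc_9_3 lc_e_rc_9_3 lc_e_rc_18_1 lc_e_rc_27_7 lc_e_rc_13_1 lc_e_rc_16_3 lc_e_rc_18_1 lc_e_rc_18_1 lc_e_rc_13_1 lc_e_rc_13_3 lc_e_rc_16_1 lc_e_rc_19_4 lc_e_rc_13_3 lc_e_rc_13_3 lc_e_rc_18_1 lc_e_rc_18_1 lc_e_rc_16_1 lc_e_rc_19_4 lc_e_rc_9_3 lc_e_rc_18_1 lc_e_rc_9_1 lc_e_Cert_tree lc_e_Cert_tree lc_e_rc_16_5 lc_e_Cert_tree lc_e_rc_18_1 lc_e_rc_27_1 lc_e_rc_27_5 lc_e_rc_9_3 lc_e_rc_13_1 lc_e_rc_18_1 lc_e_rc_16_5 lc_e_rc_16_5 lc_e_rc_9_3 lc_e_rc_27_7 lc_e_rc_13_1 lc_e_rc_18_1 lc_e_rc_27_5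 lc_e_rc_18_1 lc_e_rc_9_1 lc_e_rc_18_1 lc_e_rc_18_1 lc_e_rc_9_3 lc_e_rc_16_1 lc_e_rc_9_3 lc_e_rc_9_1 lc_e_rc_16_5 lc_e_rc_16_3 lc_e_rc_16_5 lc_e_rc_9_3 lc_e_rc_18_1 lc_e_rc_18_1 lc_e_rc_18_1 lc_e_rc_13_3 lc_e_rc_18_1 lc_e_rc_16_3 lc_e_rc_18_1 lc_e_rc_16_5 lc_e_rc_27_5 lc_e_rc_18_1 lc_e_rc_9_3) (@D3.rec (fun _ => (Cert rels S Gen.e)) lc_e_rc_18_1 lc_e_rc_16_1 lc_e_rc_9_1 lc_e_rc_18_1 lc_e_rc_4_3 lc_e_rc_18_1 lc_e_rc_16_1 lc_e_rc_19_2 lc_e_rc_16_5 lc_e_rc_19_0 lc_e_rc_27_1 lc_e_rc_16_5 lc_e_rc_27_1 lc_e_rc_19_0 lc_e_rc_27_7 lc_e_rc_27_7 lc_e_rc_9_3 lc_e_rc_27_5 lc_e_rc_13_3 lc_e_rc_18_1 lc_e_rc_19_2 lc_e_rc_4_3 lc_e_rc_13_3 lc_e_rc_18_1 lc_e_rc_27_7 lc_e_rc_18_1 lc_e_rc_18_1 lc_e_rc_19_4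 lc_e_rc_18_1 lc_e_Cert_tree lc_e_rc_18_1 lc_e_rc_4_1 lc_e_Cert_tree lc_e_rc_18_1 lc_e_Cert_tree lc_e_rc_16_3 lc_e_rc_18_1 lc_e_rc_16_5 lc_e_rc_27_5 lc_e_rc_18_1 lc_e_rc_13_3 lc_e_rc_27_7 lc_e_rc_13_3 lc_e_rc_27_5 lc_e_rc_13_3 lc_e_rc_13_3 lc_e_rc_18_1 lc_e_rc_13_3 lc_e_rc_13_3 lc_e_rc_4_1 lc_e_Cert_tree lc_e_rc_18_1 lc_e_rc_13_1 lc_e_rc_18_1 lc_e_rc_19_0 lc_e_rc_18_1 lc_e_rc_27_1 lc_e_rc_27_1 lc_e_rc_13_3 lc_e_Cert_tree lc_e_rc_18_1 lc_e_rc_27_5) (@D3.rec (fun _ => (Cert rels S Gen.e)) lc_e_rc_18_1 lc_e_rc_18_1 lc_e_rc_18_1 lc_e_rc_13_3 lc_e_rc_18_1 lc_e_rc_19_2 lc_e_rc_9_3 lc_e_rc_18_1 lc_e_rc_27_5 lc_e_rc_18_1 lc_e_rc_16_1 lc_e_rc_18_1 lc_e_rc_16_5 lc_e_rc_13_3 lc_e_rc_18_1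 lc_e_rc_9_3 lc_e_rc_13_3 lc_e_rc_13_3 lc_e_Cert_tree lc_e_rc_16_1 lc_e_rc_9_3 lc_e_rc_19_4 lc_e_rc_16_5 lc_e_rc_13_3 lc_e_rc_13_3 lc_e_rc_19_2 lc_e_Cert_tree lc_e_rc_18_1 lc_e_rc_13_3 lc_e_rc_9_3 lc_e_rc_9_1 lc_e_rc_13_3 lc_e_rc_19_0 lc_e_rc_13_3 lc_e_rc_9_3 lc_e_rc_18_1 lc_e_rc_18_1 lc_e_rc_13_3 lc_e_rc_19_2 lc_e_rc_18_1 lc_e_rc_4_1 lc_e_rc_18_1 lc_e_rc_18_1 lc_e_rc_13_3 lc_e_rc_9_3 lc_e_rc_18_1 lc_e_rc_16_3 lc_e_rc_19_2 lc_e_rc_27_5 lc_e_rc_18_1 lc_e_rc_4_3 lc_e_rc_18_1 lc_e_rc_13_3 lc_e_rc_18_1 lc_e_rc_4_1 lc_e_rc_18_1 lc_e_rc_27_5 lc_e_rc_13_3 lc_e_rc_27_5 lc_e_rc_18_1 lc_e_rc_13_3 lc_e_rc_13_1) (@D3.rec (fun _ => (Cert rels S Gen.e)) lc_e_rc_13_3 lc_e_rc_13_3 lc_e_rc_16_3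 lc_e_rc_18_1 lc_e_rc_18_1 lc_e_rc_9_3 lc_e_rc_9_3 lc_e_rc_13_3 lc_e_rc_27_1 lc_e_rc_13_3 lc_e_rc_27_5 lc_e_rc_27_5 lc_e_rc_18_1 lc_e_rc_16_5 lc_e_rc_18_1 lc_e_rc_27_5 lc_e_rc_18_1 lc_e_rc_13_1 lc_e_rc_16_1 lc_e_rc_13_1 lc_e_rc_27_1 lc_e_rc_4_1 lc_e_rc_18_1 lc_e_rc_27_5 lc_e_rc_27_5 lc_e_rc_4_3 lc_e_rc_9_3 lc_e_rc_9_3 lc_e_rc_27_7 lc_e_rc_4_3 lc_e_rc_9_3 lc_e_rc_18_1 lc_e_rc_18_1 lc_e_rc_18_1 lc_e_rc_27_1 lc_e_rc_9_3 lc_e_rc_18_1 lc_e_rc_19_2 lc_e_rc_18_1 lc_e_rc_13_1 lc_e_rc_9_1 lc_e_rc_13_1 lc_e_rc_18_1 lc_e_rc_9_3 lc_e_rc_9_3 lc_e_rc_4_3 lc_e_rc_18_1 lc_e_rc_27_5 lc_e_rc_4_1 lc_e_rc_13_1 lc_e_rc_18_1 lc_e_rc_27_7 lc_e_Cert_tree lc_e_rc_4_1 lc_e_rc_18_1 lc_e_rc_27_7 lc_e_rc_18_1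 lc_e_rc_18_1 lc_e_rc_16_5 lc_e_rc_9_3 lc_e_rc_9_3 lc_e_rc_18_1) (@D3.rec (fun _ => (Cert rels S Gen.e)) lc_e_rc_27_1 lc_e_rc_16_1 lc_e_rc_18_1 lc_e_rc_27_5 lc_e_rc_27_1 lc_e_rc_16_5 lc_e_rc_9_1 lc_e_rc_27_5 lc_e_rc_9_1 lc_e_rc_4_3 lc_e_rc_19_0 lc_e_rc_9_3 lc_e_rc_16_5 lc_e_Cert_tree lc_e_rc_16_1 lc_e_rc_18_1 lc_e_rc_27_5 lc_e_rc_27_1 lc_e_rc_19_0 lc_e_rc_27_5 lc_e_rc_4_3 lc_e_rc_13_3 lc_e_rc_27_5 lc_e_rc_27_5 lc_e_rc_19_2 lc_e_rc_9_1 lc_e_rc_19_0 lc_e_rc_19_0 lc_e_rc_18_1 lc_e_rc_13_1 lc_e_rc_9_3 lc_e_rc_9_3 lc_e_rc_13_3 lc_e_rc_13_3 lc_e_rc_27_5 lc_e_rc_16_5 lc_e_rc_27_7 lc_e_rc_19_0 lc_e_rc_18_1 lc_e_rc_9_3 lc_e_rc_27_1 lc_e_rc_13_1 lc_e_rc_13_3 lc_e_rc_13_1 lc_e_rc_27_7 lc_e_rc_13_3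 lc_e_rc_4_3 lc_e_rc_18_1 lc_e_rc_27_7 lc_e_rc_18_1 lc_e_rc_18_1 lc_e_rc_13_3 lc_e_rc_18_1 lc_e_rc_18_1 lc_e_rc_13_3 lc_e_rc_4_1 lc_e_rc_27_1 lc_e_rc_27_5 lc_e_rc_18_1 lc_e_rc_13_3 lc_e_rc_16_3 lc_e_rc_27_5)
def ce_e_29 : D2 → D3 → (Cert rels S Gen.e) := @D2.rec (fun _ => D3 → (Cert rels S Gen.e)) (@D3.rec (fun _ => (Cert rels S Gen.e)) lc_e_rc_13_3 lc_e_rc_13_3 lc_e_rc_13_3 lc_e_rc_18_1 lc_e_rc_19_2 lc_e_rc_9_3 lc_e_rc_16_1 lc_e_rc_9_3 lc_e_rc_13_3 lc_e_rc_9_3 lc_e_rc_4_1 lc_e_rc_18_1 lc_e_rc_16_1 lc_e_rc_18_1 lc_e_rc_9_3 lc_e_rc_18_1 lc_e_rc_13_3 lc_e_rc_9_3 lc_e_rc_4_3 lc_e_rc_27_1 lc_e_rc_18_1 lc_e_rc_18_1 lc_e_rc_18_1 lc_e_rc_13_3 lc_e_rc_16_1 lc_e_rc_16_1 lc_e_rc_9_3 lc_e_rc_27_7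 lc_e_rc_18_1 lc_e_rc_18_1 lc_e_rc_27_5 lc_e_rc_13_3 lc_e_rc_13_3 lc_e_rc_13_1 lc_e_rc_27_1 lc_e_rc_16_1 lc_e_rc_19_4 lc_e_rc_13_3 lc_e_rc_27_1 lc_e_rc_9_3 lc_e_rc_18_1 lc_e_rc_18_1 lc_e_rc_27_1 lc_e_rc_18_1 lc_e_rc_27_5 lc_e_rc_13_3 lc_e_rc_18_1 lc_e_rc_9_3 lc_e_rc_9_1 lc_e_rc_27_5 lc_e_rc_9_3 lc_e_rc_18_1 lc_e_rc_18_1 lc_e_rc_18_1 lc_e_rc_18_1 lc_e_rc_16_5 lc_e_rc_9_3 lc_e_rc_9_1 lc_e_rc_27_5 lc_e_rc_27_1 lc_e_rc_13_3 lc_e_rc_18_1) (@D3.rec (fun _ => (Cert rels S Gen.e)) lc_e_rc_27_5 lc_e_rc_16_1 lc_e_rc_18_1 lc_e_rc_27_1 lc_e_rc_9_1 lc_e_rc_18_1 lc_e_rc_19_0 lc_e_rc_19_0 lc_e_rc_18_1 lc_e_rc_27_1 lc_e_rc_13_1 lc_e_rc_18_1 lc_e_rc_18_1 lc_e_rc_18_1 lc_e_rc_13_3 lc_e_rc_18_1 lc_e_rc_9_1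 lc_e_rc_9_3 lc_e_rc_18_1 lc_e_rc_27_5 lc_e_rc_18_1 lc_e_rc_27_5 lc_e_rc_16_3 lc_e_rc_13_3 lc_e_rc_18_1 lc_e_rc_9_3 lc_e_rc_18_1 lc_e_rc_13_1 lc_e_rc_18_1 lc_e_rc_27_5 lc_e_rc_16_3 lc_e_rc_19_4 lc_e_rc_27_7 lc_e_rc_18_1 lc_e_rc_27_7 lc_e_rc_18_1 lc_e_rc_27_5 lc_e_rc_18_1 lc_e_rc_16_3 lc_e_rc_19_4 lc_e_rc_19_2 lc_e_rc_27_1 lc_e_rc_18_1 lc_e_rc_27_5 lc_e_rc_18_1 lc_e_rc_19_0 lc_e_rc_13_3 lc_e_rc_27_5 lc_e_rc_13_1 lc_e_rc_18_1 lc_e_rc_27_5 lc_e_rc_9_3 lc_e_rc_16_1 lc_e_rc_19_4 lc_e_rc_18_1 lc_e_rc_13_1 lc_e_rc_9_3 lc_e_rc_9_1 lc_e_rc_19_4 lc_e_rc_27_1 lc_e_rc_18_1 lc_e_rc_13_3) (@D3.rec (fun _ => (Cert rels S Gen.e)) lc_e_rc_19_2 lc_e_rc_18_1 lc_e_rc_18_1 lc_e_rc_16_3 lc_e_rc_9_1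 lc_e_rc_27_1 lc_e_rc_16_1 lc_e_rc_27_5 lc_e_rc_13_3 lc_e_rc_27_5 lc_e_rc_9_1 lc_e_rc_27_1 lc_e_rc_18_1 lc_e_rc_18_1 lc_e_rc_4_3 lc_e_rc_9_3 lc_e_rc_13_1 lc_e_rc_13_3 lc_e_rc_27_5 lc_e_rc_18_1 lc_e_rc_18_1 lc_e_rc_16_1 lc_e_rc_13_1 lc_e_rc_13_1 lc_e_rc_9_3 lc_e_rc_18_1 lc_e_rc_9_3 lc_e_rc_18_1 lc_e_rc_16_1 lc_e_rc_18_1 lc_e_rc_9_3 lc_e_rc_13_1 lc_e_rc_18_1 lc_e_rc_13_3 lc_e_rc_18_1 lc_e_rc_27_1 lc_e_rc_18_1 lc_e_rc_16_1 lc_e_rc_4_3 lc_e_rc_16_1 lc_e_rc_19_2 lc_e_rc_27_5 lc_e_rc_19_0 lc_e_rc_18_1 lc_e_rc_9_3 lc_e_rc_4_3 lc_e_rc_27_7 lc_e_rc_9_1 lc_e_rc_18_1 lc_e_rc_16_3 lc_e_rc_16_5 lc_e_rc_9_3 lc_e_rc_27_7 lc_e_rc_27_5 lc_e_rc_18_1 lc_e_rc_27_7 lc_e_rc_16_5 lc_e_rc_27_7 lc_e_rc_18_1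 lc_e_rc_18_1 lc_e_rc_9_3 lc_e_rc_18_1) (@D3.rec (fun _ => (Cert rels S Gen.e)) lc_e_rc_13_3 lc_e_rc_18_1 lc_e_rc_13_3 lc_e_rc_4_1 lc_e_rc_18_1 lc_e_rc_9_3 lc_e_rc_18_1 lc_e_rc_19_0 lc_e_rc_18_1 lc_e_rc_16_1 lc_e_rc_13_3 lc_e_rc_27_1 lc_e_rc_13_3 lc_e_rc_18_1 lc_e_rc_13_3 lc_e_rc_16_3 lc_e_rc_18_1 lc_e_rc_27_7 lc_e_rc_18_1 lc_e_rc_13_3 lc_e_rc_18_1 lc_e_rc_18_1 lc_e_rc_16_3 lc_e_rc_27_7 lc_e_rc_13_1 lc_e_rc_16_3 lc_e_rc_18_1 lc_e_rc_18_1 lc_e_rc_16_1 lc_e_rc_9_3 lc_e_rc_19_2 lc_e_rc_16_1 lc_e_rc_19_2 lc_e_rc_13_3 lc_e_Cert_tree lc_e_rc_18_1 lc_e_rc_27_7 lc_e_rc_4_3 lc_e_rc_13_3 lc_e_rc_27_1 lc_e_rc_19_4 lc_e_rc_19_2 lc_e_rc_13_1 lc_e_rc_13_3 lc_e_rc_13_1 lc_e_rc_18_1 lc_e_rc_27_5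 lc_e_rc_27_7 lc_e_rc_16_5 lc_e_rc_18_1 lc_e_rc_16_3 lc_e_rc_18_1 lc_e_rc_9_3 lc_e_rc_13_3 lc_e_rc_18_1 lc_e_rc_16_1 lc_e_rc_13_3 lc_e_rc_18_1 lc_e_rc_18_1 lc_e_rc_16_3 lc_e_rc_19_0 lc_e_rc_18_1) (@D3.rec (fun _ => (Cert rels S Gen.e)) lc_e_rc_9_3 lc_e_rc_27_5 lc_e_rc_4_3 lc_e_rc_13_3 lc_e_rc_9_1 lc_e_rc_18_1 lc_e_rc_4_3 lc_e_rc_16_1 lc_e_rc_16_3 lc_e_rc_9_3 lc_e_rc_16_3 lc_e_rc_13_1 lc_e_rc_18_1 lc_e_rc_18_1 lc_e_rc_13_1 lc_e_rc_18_1 lc_e_rc_18_1 lc_e_rc_9_3 lc_e_rc_9_3 lc_e_Cert_tree lc_e_Cert_tree lc_e_rc_27_1 lc_e_rc_9_3 lc_e_rc_13_3 lc_e_rc_13_3 lc_e_rc_4_1 lc_e_rc_9_3 lc_e_rc_9_3 lc_e_rc_18_1 lc_e_rc_16_5 lc_e_rc_9_3 lc_e_rc_27_5 lc_e_rc_16_1 lc_e_rc_18_1 lc_e_rc_27_5 lc_e_rc_9_3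 lc_e_rc_16_5 lc_e_rc_18_1 lc_e_rc_18_1 lc_e_rc_18_1 lc_e_rc_13_1 lc_e_rc_27_1 lc_e_rc_9_1 lc_e_rc_16_3 lc_e_rc_18_1 lc_e_rc_19_0 lc_e_rc_19_4 lc_e_rc_4_3 lc_e_rc_4_3 lc_e_rc_9_3 lc_e_rc_16_1 lc_e_rc_9_1 lc_e_rc_18_1 lc_e_rc_19_2 lc_e_rc_19_2 lc_e_rc_18_1 lc_e_rc_27_1 lc_e_rc_16_5 lc_e_rc_19_0 lc_e_rc_9_3 lc_e_rc_18_1 lc_e_rc_16_5) (@D3.rec (fun _ => (Cert rels S Gen.e)) lc_e_rc_4_1 lc_e_rc_18_1 lc_e_rc_27_5 lc_e_Cert_tree lc_e_rc_18_1 lc_e_rc_9_3 lc_e_rc_9_3 lc_e_Cert_tree lc_e_Cert_tree lc_e_rc_18_1 lc_e_rc_16_5 lc_e_rc_9_1 lc_e_rc_27_1 lc_e_rc_18_1 lc_e_rc_9_3 lc_e_rc_9_3 lc_e_rc_18_1 lc_e_rc_18_1 lc_e_rc_4_3 lc_e_rc_18_1 lc_e_rc_13_3 lc_e_rc_16_5 lc_e_rc_9_1 lc_e_rc_16_5 lc_e_rc_9_3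 lc_e_rc_9_3 lc_e_rc_18_1 lc_e_rc_19_2 lc_e_rc_9_3 lc_e_Cert_tree lc_e_rc_27_5 lc_e_rc_16_5 lc_e_rc_18_1 lc_e_rc_16_5 lc_e_rc_9_3 lc_e_rc_13_1 lc_e_rc_18_1 lc_e_rc_18_1 lc_e_rc_13_3 lc_e_rc_9_3 lc_e_rc_27_7 lc_e_rc_18_1 lc_e_rc_9_3 lc_e_rc_13_3 lc_e_rc_16_5 lc_e_rc_16_5 lc_e_Cert_tree lc_e_rc_18_1 lc_e_rc_27_5 lc_e_rc_13_3 lc_e_rc_16_3 lc_e_rc_4_3 lc_e_rc_18_1 lc_e_rc_9_3 lc_e_rc_16_3 lc_e_rc_18_1 lc_e_rc_13_1 lc_e_rc_18_1 lc_e_rc_16_5 lc_e_rc_18_1 lc_e_rc_16_5 lc_e_rc_13_3) (@D3.rec (fun _ => (Cert rels S Gen.e)) lc_e_rc_4_1 lc_e_rc_9_1 lc_e_rc_18_1 lc_e_rc_13_3 lc_e_rc_18_1 lc_e_rc_27_7 lc_e_rc_27_7 lc_e_rc_19_2 lc_e_rc_27_5 lc_e_rc_16_1 lc_e_rc_9_3 lc_e_rc_27_5 lc_e_rc_18_1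 lc_e_rc_18_1 lc_e_rc_27_1 lc_e_rc_9_3 lc_e_rc_18_1 lc_e_rc_27_5 lc_e_rc_13_3 lc_e_rc_19_0 lc_e_rc_9_1 lc_e_rc_13_1 lc_e_rc_18_1 lc_e_rc_16_3 lc_e_rc_18_1 lc_e_rc_13_3 lc_e_rc_9_1 lc_e_rc_9_3 lc_e_rc_13_3 lc_e_rc_16_3 lc_e_rc_16_5 lc_e_rc_18_1 lc_e_rc_16_5 lc_e_rc_18_1 lc_e_rc_13_1 lc_e_rc_13_1 lc_e_rc_18_1 lc_e_rc_18_1 lc_e_rc_9_3 lc_e_rc_9_3 lc_e_rc_27_7 lc_e_rc_16_5 lc_e_rc_4_3 lc_e_rc_19_2 lc_e_rc_18_1 lc_e_rc_13_3 lc_e_rc_18_1 lc_e_rc_18_1 lc_e_rc_13_1 lc_e_rc_19_2 lc_e_rc_16_5 lc_e_rc_13_3 lc_e_rc_18_1 lc_e_rc_18_1 lc_e_rc_16_1 lc_e_rc_18_1 lc_e_rc_9_3 lc_e_rc_18_1 lc_e_rc_16_1 lc_e_rc_18_1 lc_e_rc_16_3 lc_e_rc_18_1) (@D3.rec (fun _ => (Cert rels S Gen.e)) lc_e_rc_9_3 lc_e_rc_9_3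 lc_e_Cert_tree lc_e_rc_18_1 lc_e_rc_18_1 lc_e_rc_16_3 lc_e_rc_4_3 lc_e_rc_18_1 lc_e_rc_9_3 lc_e_rc_9_3 lc_e_rc_13_3 lc_e_rc_19_0 lc_e_rc_27_7 lc_e_rc_16_3 lc_e_rc_9_3 lc_e_rc_16_1 lc_e_rc_13_3 lc_e_rc_18_1 lc_e_rc_27_1 lc_e_rc_18_1 lc_e_rc_18_1 lc_e_rc_13_3 lc_e_rc_13_3 lc_e_rc_13_3 lc_e_rc_27_1 lc_e_rc_13_3 lc_e_rc_27_5 lc_e_rc_18_1 lc_e_rc_13_3 lc_e_rc_9_1 lc_e_rc_18_1 lc_e_rc_16_5 lc_e_rc_13_3 lc_e_rc_16_3 lc_e_rc_19_2 lc_e_rc_27_1 lc_e_rc_13_3 lc_e_rc_9_3 lc_e_rc_18_1 lc_e_rc_16_5 lc_e_rc_27_5 lc_e_rc_18_1 lc_e_rc_4_3 lc_e_rc_18_1 lc_e_rc_18_1 lc_e_rc_16_3 lc_e_rc_18_1 lc_e_rc_27_7 lc_e_rc_27_5 lc_e_rc_19_2 lc_e_rc_9_3 lc_e_rc_19_0 lc_e_rc_13_3 lc_e_rc_9_3 lc_e_rc_27_7 lc_e_rc_18_1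 lc_e_rc_27_5 lc_e_rc_27_7 lc_e_rc_27_7 lc_e_rc_18_1 lc_e_rc_16_5 lc_e_rc_13_3) (@D3.rec (fun _ => (Cert rels S Gen.e)) lc_e_rc_18_1 lc_e_rc_18_1 lc_e_rc_27_1 lc_e_rc_18_1 lc_e_rc_18_1 lc_e_rc_16_1 lc_e_rc_18_1 lc_e_rc_13_3 lc_e_rc_16_1 lc_e_rc_16_5 lc_e_rc_13_3 lc_e_rc_27_7 lc_e_rc_4_3 lc_e_rc_16_5 lc_e_rc_16_1 lc_e_rc_18_1 lc_e_rc_18_1 lc_e_rc_13_3 lc_e_rc_16_5 lc_e_Cert_tree lc_e_rc_18_1 lc_e_rc_9_3 lc_e_rc_16_5 lc_e_rc_27_5 lc_e_rc_13_3 lc_e_rc_16_1 lc_e_rc_13_3 lc_e_rc_16_3 lc_e_rc_9_1 lc_e_rc_13_3 lc_e_rc_16_1 lc_e_rc_13_1 lc_e_rc_18_1 lc_e_rc_16_5 lc_e_rc_9_3 lc_e_rc_13_3 lc_e_rc_19_2 lc_e_rc_9_3 lc_e_rc_9_3 lc_e_rc_18_1 lc_e_rc_18_1 lc_e_rc_4_3 lc_e_rc_4_1 lc_e_rc_18_1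 lc_e_rc_16_1 lc_e_rc_4_3 lc_e_rc_18_1 lc_e_rc_4_3 lc_e_rc_9_3 lc_e_rc_9_3 lc_e_rc_4_1 lc_e_rc_27_7 lc_e_rc_27_7 lc_e_Cert_tree lc_e_rc_18_1 lc_e_rc_27_1 lc_e_rc_13_1 lc_e_rc_9_1 lc_e_rc_16_3 lc_e_rc_18_1 lc_e_rc_18_1 lc_e_rc_16_3) (@D3.rec (fun _ => (Cert rels S Gen.e)) lc_e_rc_13_3 lc_e_rc_13_3 lc_e_rc_13_3 lc_e_rc_18_1 lc_e_rc_16_3 lc_e_rc_27_1 lc_e_rc_16_1 lc_e_rc_18_1 lc_e_rc_13_3 lc_e_rc_4_3 lc_e_rc_13_3 lc_e_rc_13_3 lc_e_rc_4_3 lc_e_rc_18_1 lc_e_rc_18_1 lc_e_rc_16_1 lc_e_rc_18_1 lc_e_rc_18_1 lc_e_rc_13_3 lc_e_rc_9_3 lc_e_rc_13_1 lc_e_Cert_tree lc_e_rc_18_1 lc_e_rc_4_3 lc_e_rc_16_1 lc_e_rc_18_1 lc_e_rc_9_1 lc_e_rc_13_3 lc_e_rc_18_1 lc_e_rc_19_0 lc_e_rc_13_3 lc_e_rc_18_1 lc_e_rc_18_1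 lc_e_rc_9_3 lc_e_rc_13_1 lc_e_rc_18_1 lc_e_Cert_tree lc_e_rc_19_0 lc_e_rc_18_1 lc_e_rc_9_3 lc_e_rc_4_3 lc_e_rc_27_5 lc_e_rc_27_1 lc_e_rc_27_5 lc_e_rc_18_1 lc_e_rc_18_1 lc_e_rc_27_5 lc_e_rc_18_1 lc_e_rc_18_1 lc_e_rc_18_1 lc_e_rc_13_3 lc_e_rc_18_1 lc_e_rc_18_1 lc_e_rc_18_1 lc_e_rc_9_3 lc_e_rc_18_1 lc_e_rc_16_5 lc_e_rc_18_1 lc_e_rc_19_0 lc_e_rc_9_3 lc_e_rc_9_3 lc_e_rc_9_3) (@D3.rec (fun _ => (Cert rels S Gen.e)) lc_e_rc_9_1 lc_e_rc_9_1 lc_e_rc_13_1 lc_e_rc_27_5 lc_e_rc_16_5 lc_e_rc_13_1 lc_e_rc_18_1 lc_e_rc_18_1 lc_e_rc_16_3 lc_e_rc_9_3 lc_e_rc_27_5 lc_e_rc_9_3 lc_e_Cert_tree lc_e_rc_18_1 lc_e_rc_27_5 lc_e_rc_13_3 lc_e_rc_19_2 lc_e_rc_18_1 lc_e_Cert_tree lc_e_Cert_tree lc_e_rc_18_1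 lc_e_rc_13_3 lc_e_rc_4_1 lc_e_rc_9_1 lc_e_rc_13_1 lc_e_rc_18_1 lc_e_rc_9_3 lc_e_rc_13_3 lc_e_rc_13_3 lc_e_rc_18_1 lc_e_rc_19_0 lc_e_rc_18_1 lc_e_rc_18_1 lc_e_rc_18_1 lc_e_rc_18_1 lc_e_rc_18_1 lc_e_rc_19_2 lc_e_rc_13_3 lc_e_rc_13_1 lc_e_rc_19_4 lc_e_rc_9_3 lc_e_rc_16_3 lc_e_rc_16_3 lc_e_rc_18_1 lc_e_rc_18_1 lc_e_rc_16_1 lc_e_rc_19_4 lc_e_rc_18_1 lc_e_rc_4_3 lc_e_rc_18_1 lc_e_rc_18_1 lc_e_rc_16_1 lc_e_rc_18_1 lc_e_rc_9_3 lc_e_rc_13_3 lc_e_rc_9_3 lc_e_rc_16_5 lc_e_rc_13_3 lc_e_rc_18_1 lc_e_rc_13_3 lc_e_rc_9_3 lc_e_rc_27_1) (@D3.rec (fun _ => (Cert rels S Gen.e)) lc_e_rc_9_3 lc_e_rc_27_5 lc_e_rc_4_3 lc_e_rc_27_7 lc_e_rc_13_3 lc_e_rc_19_2 lc_e_rc_18_1 lc_e_rc_4_1 lc_e_rc_9_3 lc_e_rc_18_1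 lc_e_rc_13_1 lc_e_rc_13_1 lc_e_rc_27_5 lc_e_rc_18_1 lc_e_rc_18_1 lc_e_rc_27_1 lc_e_rc_13_3 lc_e_rc_18_1 lc_e_rc_19_0 lc_e_rc_16_1 lc_e_rc_19_4 lc_e_rc_4_3 lc_e_rc_16_5 lc_e_rc_16_1 lc_e_rc_9_1 lc_e_rc_13_3 lc_e_rc_16_5 lc_e_rc_16_5 lc_e_rc_16_5 lc_e_rc_13_1 lc_e_Cert_tree lc_e_rc_27_5 lc_e_rc_18_1 lc_e_rc_13_3 lc_e_rc_13_3 lc_e_rc_16_3 lc_e_rc_13_3 lc_e_rc_13_1 lc_e_rc_18_1 lc_e_rc_18_1 lc_e_rc_18_1 lc_e_rc_27_1 lc_e_rc_27_1 lc_e_rc_18_1 lc_e_rc_18_1 lc_e_rc_27_5 lc_e_rc_27_5 lc_e_rc_27_1 lc_e_rc_16_1 lc_e_rc_9_1 lc_e_rc_9_3 lc_e_rc_16_3 lc_e_rc_16_5 lc_e_rc_18_1 lc_e_rc_16_5 lc_e_rc_27_5 lc_e_Cert_tree lc_e_rc_16_3 lc_e_rc_13_3 lc_e_rc_19_2 lc_e_rc_27_5 lc_e_rc_27_1) (@D3.rec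 (fun _ => (Cert rels S Gen.e)) lc_e_rc_18_1 lc_e_rc_18_1 lc_e_rc_19_2 lc_e_rc_13_3 lc_e_rc_16_3 lc_e_rc_16_1 lc_e_rc_16_1 lc_e_rc_16_5 lc_e_rc_13_1 lc_e_rc_18_1 lc_e_rc_18_1 lc_e_rc_16_5 lc_e_rc_18_1 lc_e_rc_13_1 lc_e_rc_9_1 lc_e_rc_18_1 lc_e_rc_18_1 lc_e_rc_27_5 lc_e_rc_18_1 lc_e_rc_18_1 lc_e_rc_18_1 lc_e_rc_19_4 lc_e_rc_18_1 lc_e_rc_16_5 lc_e_rc_4_1 lc_e_rc_16_3 lc_e_rc_19_4 lc_e_rc_18_1 lc_e_rc_13_3 lc_e_rc_9_1 lc_e_rc_18_1 lc_e_rc_16_3 lc_e_rc_9_1 lc_e_rc_27_5 lc_e_rc_13_3 lc_e_rc_18_1 lc_e_rc_18_1 lc_e_rc_27_5 lc_e_rc_18_1 lc_e_rc_9_1 lc_e_rc_9_3 lc_e_rc_9_3 lc_e_rc_9_1 lc_e_rc_4_3 lc_e_rc_18_1 lc_e_rc_18_1 lc_e_rc_19_4 lc_e_rc_27_5 lc_e_rc_18_1 lc_e_rc_19_4 lc_e_rc_18_1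 lc_e_rc_18_1 lc_e_rc_27_7 lc_e_rc_19_4 lc_e_rc_9_1 lc_e_rc_18_1 lc_e_rc_18_1 lc_e_rc_18_1 lc_e_rc_9_3 lc_e_rc_16_3 lc_e_rc_13_3 lc_e_rc_27_1) (@D3.rec (fun _ => (Cert rels S Gen.e)) lc_e_rc_18_1 lc_e_rc_13_3 lc_e_rc_16_5 lc_e_rc_16_1 lc_e_rc_9_3 lc_e_rc_13_3 lc_e_rc_27_5 lc_e_Cert_tree lc_e_rc_18_1 lc_e_rc_13_3 lc_e_rc_9_3 lc_e_rc_27_5 lc_e_rc_9_3 lc_e_rc_18_1 lc_e_rc_18_1 lc_e_rc_19_4 lc_e_rc_18_1 lc_e_rc_16_5 lc_e_rc_16_1 lc_e_rc_19_4 lc_e_rc_9_3 lc_e_rc_27_7 lc_e_rc_18_1 lc_e_rc_13_3 lc_e_rc_18_1 lc_e_rc_13_3 lc_e_rc_16_3 lc_e_rc_27_5 lc_e_rc_18_1 lc_e_rc_27_1 lc_e_rc_9_3 lc_e_rc_27_1 lc_e_rc_9_3 lc_e_rc_27_1 lc_e_rc_27_1 lc_e_rc_18_1 lc_e_rc_9_1 lc_e_rc_4_1 lc_e_rc_18_1 lc_e_rc_4_1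 lc_e_rc_18_1 lc_e_rc_9_3 lc_e_rc_9_3 lc_e_rc_9_3 lc_e_rc_13_3 lc_e_rc_13_3 lc_e_Cert_tree lc_e_rc_18_1 lc_e_rc_27_5 lc_e_rc_18_1 lc_e_rc_13_3 lc_e_rc_16_3 lc_e_rc_9_3 lc_e_rc_16_1 lc_e_rc_19_2 lc_e_rc_18_1 lc_e_rc_13_1 lc_e_rc_4_3 lc_e_Cert_tree lc_e_rc_27_7 lc_e_rc_9_3 lc_e_rc_18_1) (@D3.rec (fun _ => (Cert rels S Gen.e)) lc_e_rc_4_1 lc_e_rc_16_1 lc_e_rc_16_3 lc_e_rc_13_3 lc_e_rc_27_5 lc_e_rc_18_1 lc_e_rc_18_1 lc_e_rc_13_1 lc_e_rc_9_3 lc_e_rc_9_3 lc_e_rc_13_3 lc_e_rc_9_3 lc_e_rc_19_4 lc_e_Cert_tree lc_e_rc_18_1 lc_e_rc_13_1 lc_e_rc_16_5 lc_e_rc_27_5 lc_e_rc_16_5 lc_e_rc_16_5 lc_e_rc_27_7 lc_e_rc_18_1 lc_e_Cert_tree lc_e_rc_18_1 lc_e_Cert_tree lc_e_rc_9_3 lc_e_rc_9_1 lc_e_rc_27_1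 lc_e_rc_18_1 lc_e_rc_27_5 lc_e_rc_18_1 lc_e_rc_18_1 lc_e_rc_18_1 lc_e_rc_18_1 lc_e_rc_18_1 lc_e_rc_13_1 lc_e_rc_16_1 lc_e_rc_13_3 lc_e_rc_27_5 lc_e_rc_18_1 lc_e_rc_9_3 lc_e_rc_9_3 lc_e_rc_4_3 lc_e_rc_16_5 lc_e_rc_18_1 lc_e_rc_13_3 lc_e_rc_9_1 lc_e_rc_19_2 lc_e_rc_19_2 lc_e_rc_9_3 lc_e_rc_13_3 lc_e_rc_27_1 lc_e_rc_16_3 lc_e_rc_18_1 lc_e_rc_27_5 lc_e_rc_4_3 lc_e_rc_16_1 lc_e_rc_13_1 lc_e_rc_16_3 lc_e_rc_19_4 lc_e_rc_27_1 lc_e_rc_19_4) (@D3.rec (fun _ => (Cert rels S Gen.e)) lc_e_rc_16_3 lc_e_rc_4_3 lc_e_rc_16_5 lc_e_rc_13_1 lc_e_rc_18_1 lc_e_rc_13_3 lc_e_rc_27_5 lc_e_rc_13_3 lc_e_rc_27_5 lc_e_rc_27_7 lc_e_rc_16_5 lc_e_rc_13_3 lc_e_rc_16_5 lc_e_Cert_tree lc_e_rc_18_1 lc_e_rc_16_3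 lc_e_rc_27_7 lc_e_rc_18_1 lc_e_rc_9_3 lc_e_Cert_tree lc_e_rc_13_1 lc_e_rc_18_1 lc_e_rc_13_1 lc_e_rc_13_3 lc_e_rc_16_1 lc_e_rc_27_7 lc_e_rc_19_4 lc_e_rc_18_1 lc_e_rc_16_3 lc_e_rc_18_1 lc_e_rc_18_1 lc_e_rc_18_1 lc_e_rc_27_5 lc_e_rc_16_3 lc_e_rc_4_3 lc_e_rc_9_3 lc_e_rc_13_3 lc_e_rc_27_5 lc_e_rc_27_5 lc_e_rc_18_1 lc_e_rc_16_1 lc_e_rc_13_3 lc_e_rc_16_3 lc_e_rc_18_1 lc_e_rc_13_3 lc_e_rc_19_2 lc_e_rc_16_3 lc_e_rc_18_1 lc_e_rc_13_3 lc_e_rc_13_3 lc_e_Cert_tree lc_e_rc_9_3 lc_e_rc_27_1 lc_e_Cert_tree lc_e_rc_18_1 lc_e_rc_18_1 lc_e_rc_16_3 lc_e_rc_19_4 lc_e_rc_9_1 lc_e_rc_13_1 lc_e_rc_16_3 lc_e_rc_18_1) (@D3.rec (fun _ => (Cert rels S Gen.e)) lc_e_rc_9_3 lc_e_rc_27_1 lc_e_rc_9_3 lc_e_rc_16_3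 lc_e_rc_13_3 lc_e_rc_19_2 lc_e_rc_27_7 lc_e_rc_13_3 lc_e_rc_13_3 lc_e_rc_27_7 lc_e_rc_9_1 lc_e_rc_18_1 lc_e_rc_13_3 lc_e_rc_13_3 lc_e_rc_16_1 lc_e_rc_13_3 lc_e_rc_16_3 lc_e_rc_19_0 lc_e_rc_27_7 lc_e_rc_18_1 lc_e_rc_18_1 lc_e_rc_19_4 lc_e_rc_16_5 lc_e_Cert_tree lc_e_rc_18_1 lc_e_rc_18_1 lc_e_rc_18_1 lc_e_rc_16_3 lc_e_rc_16_3 lc_e_rc_19_2 lc_e_rc_16_5 lc_e_rc_18_1 lc_e_rc_13_3 lc_e_rc_18_1 lc_e_rc_18_1 lc_e_rc_18_1 lc_e_rc_18_1 lc_e_rc_16_5 lc_e_rc_9_3 lc_e_rc_18_1 lc_e_rc_18_1 lc_e_rc_18_1 lc_e_rc_13_1 lc_e_rc_16_3 lc_e_rc_19_4 lc_e_rc_27_5 lc_e_rc_13_3 lc_e_rc_16_1 lc_e_rc_18_1 lc_e_rc_27_1 lc_e_rc_18_1 lc_e_rc_27_1 lc_e_rc_18_1 lc_e_rc_9_3 lc_e_rc_27_1 lc_e_rc_27_1 lc_e_rc_18_1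 lc_e_rc_16_5 lc_e_rc_27_5 lc_e_rc_18_1 lc_e_rc_18_1 lc_e_rc_18_1) (@D3.rec (fun _ => (Cert rels S Gen.e)) lc_e_rc_16_1 lc_e_rc_19_2 lc_e_rc_16_5 lc_e_rc_27_7 lc_e_rc_13_3 lc_e_rc_13_3 lc_e_rc_18_1 lc_e_rc_9_1 lc_e_rc_13_1 lc_e_rc_18_1 lc_e_rc_18_1 lc_e_rc_9_3 lc_e_rc_9_1 lc_e_rc_9_3 lc_e_rc_13_1 lc_e_rc_18_1 lc_e_rc_9_1 lc_e_rc_18_1 lc_e_rc_16_5 lc_e_rc_19_2 lc_e_rc_18_1 lc_e_rc_9_3 lc_e_rc_18_1 lc_e_rc_9_3 lc_e_rc_18_1 lc_e_rc_9_3 lc_e_rc_9_1 lc_e_rc_18_1 lc_e_rc_4_3 lc_e_rc_13_3 lc_e_rc_9_3 lc_e_rc_13_3 lc_e_rc_9_3 lc_e_rc_18_1 lc_e_rc_16_1 lc_e_rc_18_1 lc_e_rc_16_1 lc_e_rc_13_3 lc_e_rc_18_1 lc_e_rc_27_5 lc_e_rc_18_1 lc_e_rc_16_1 lc_e_rc_19_2 lc_e_rc_16_5 lc_e_rc_16_1 lc_e_rc_27_1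 lc_e_rc_27_7 lc_e_rc_18_1 lc_e_rc_9_3 lc_e_rc_18_1 lc_e_rc_13_3 lc_e_rc_19_0 lc_e_rc_9_3 lc_e_rc_16_5 lc_e_rc_13_3 lc_e_rc_4_3 lc_e_rc_13_3 lc_e_rc_16_5 lc_e_rc_18_1 lc_e_rc_16_5 lc_e_rc_13_3 lc_e_rc_4_3) (@D3.rec (fun _ => (Cert rels S Gen.e)) lc_e_rc_18_1 lc_e_rc_16_5 lc_e_rc_16_5 lc_e_rc_16_1 lc_e_rc_9_1 lc_e_rc_9_3 lc_e_rc_9_3 lc_e_rc_4_3 lc_e_rc_18_1 lc_e_rc_13_3 lc_e_rc_19_2 lc_e_rc_18_1 lc_e_rc_4_3 lc_e_rc_18_1 lc_e_rc_18_1 lc_e_rc_18_1 lc_e_rc_4_3 lc_e_rc_18_1 lc_e_rc_19_4 lc_e_rc_19_2 lc_e_rc_9_3 lc_e_rc_18_1 lc_e_rc_18_1 lc_e_rc_18_1 lc_e_rc_27_7 lc_e_rc_18_1 lc_e_rc_4_3 lc_e_rc_27_5 lc_e_rc_27_1 lc_e_rc_9_3 lc_e_rc_4_1 lc_e_rc_18_1 lc_e_rc_13_3 lc_e_rc_16_3 lc_e_rc_19_2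 lc_e_rc_13_3 lc_e_rc_13_3 lc_e_rc_16_1 lc_e_rc_9_3 lc_e_rc_18_1 lc_e_rc_18_1 lc_e_rc_27_5 lc_e_rc_18_1 lc_e_rc_16_1 lc_e_rc_19_4 lc_e_rc_13_3 lc_e_rc_18_1 lc_e_rc_18_1 lc_e_rc_19_2 lc_e_rc_9_3 lc_e_rc_9_3 lc_e_rc_27_5 lc_e_rc_9_3 lc_e_rc_27_1 lc_e_rc_27_7 lc_e_rc_16_1 lc_e_rc_18_1 lc_e_rc_9_3 lc_e_rc_18_1 lc_e_rc_9_1 lc_e_rc_18_1 lc_e_rc_16_1) (@D3.rec (fun _ => (Cert rels S Gen.e)) lc_e_rc_27_1 lc_e_rc_16_3 lc_e_rc_18_1 lc_e_rc_4_3 lc_e_rc_16_5 lc_e_rc_18_1 lc_e_rc_19_4 lc_e_rc_16_1 lc_e_rc_13_1 lc_e_rc_27_5 lc_e_rc_19_0 lc_e_rc_18_1 lc_e_rc_13_1 lc_e_rc_18_1 lc_e_rc_18_1 lc_e_rc_18_1 lc_e_rc_19_4 lc_e_rc_18_1 lc_e_rc_16_1 lc_e_rc_19_4 lc_e_rc_4_3 lc_e_rc_16_3 lc_e_rc_19_0 lc_e_rc_13_1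 lc_e_rc_18_1 lc_e_rc_13_3 lc_e_rc_27_1 lc_e_rc_18_1 lc_e_rc_18_1 lc_e_rc_4_3 lc_e_rc_18_1 lc_e_rc_18_1 lc_e_rc_9_3 lc_e_rc_16_3 lc_e_rc_19_2 lc_e_rc_18_1 lc_e_rc_18_1 lc_e_rc_18_1 lc_e_rc_16_5 lc_e_rc_27_7 lc_e_rc_13_1 lc_e_rc_18_1 lc_e_rc_13_1 lc_e_rc_13_3 lc_e_rc_13_3 lc_e_rc_9_1 lc_e_rc_16_5 lc_e_rc_16_5 lc_e_rc_19_2 lc_e_rc_9_3 lc_e_rc_18_1 lc_e_rc_4_1 lc_e_rc_18_1 lc_e_rc_27_7 lc_e_rc_18_1 lc_e_rc_18_1 lc_e_rc_18_1 lc_e_rc_9_1 lc_e_rc_9_1 lc_e_rc_18_1 lc_e_rc_18_1 lc_e_rc_13_3) (@D3.rec (fun _ => (Cert rels S Gen.e)) lc_e_rc_18_1 lc_e_rc_16_1 lc_e_rc_19_2 lc_e_rc_13_1 lc_e_rc_16_3 lc_e_rc_19_2 lc_e_rc_27_7 lc_e_rc_27_5 lc_e_rc_18_1 lc_e_rc_13_1 lc_e_rc_9_1 lc_e_rc_4_3 lc_e_rc_18_1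 lc_e_rc_18_1 lc_e_rc_9_1 lc_e_rc_13_3 lc_e_rc_18_1 lc_e_rc_19_4 lc_e_rc_4_3 lc_e_rc_16_1 lc_e_rc_9_3 lc_e_rc_16_3 lc_e_rc_18_1 lc_e_rc_9_1 lc_e_rc_19_0 lc_e_rc_18_1 lc_e_rc_9_3 lc_e_rc_18_1 lc_e_rc_27_7 lc_e_rc_13_1 lc_e_rc_27_7 lc_e_rc_18_1 lc_e_rc_9_3 lc_e_rc_4_1 lc_e_rc_18_1 lc_e_rc_18_1 lc_e_rc_16_1 lc_e_rc_13_3 lc_e_rc_16_5 lc_e_rc_19_4 lc_e_rc_18_1 lc_e_rc_27_7 lc_e_rc_16_5 lc_e_rc_4_3 lc_e_rc_9_3 lc_e_rc_19_2 lc_e_rc_13_3 lc_e_rc_18_1 lc_e_rc_4_3 lc_e_rc_18_1 lc_e_rc_13_3 lc_e_rc_16_3 lc_e_rc_16_1 lc_e_rc_27_5 lc_e_rc_16_1 lc_e_rc_9_1 lc_e_rc_9_1 lc_e_rc_27_5 lc_e_rc_18_1 lc_e_rc_18_1 lc_e_rc_18_1 lc_e_rc_16_5) (@D3.rec (fun _ => (Cert rels S Gen.e)) lc_e_rc_16_3 lc_e_rc_13_1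 lc_e_rc_16_3 lc_e_rc_4_1 lc_e_rc_18_1 lc_e_Cert_tree lc_e_Cert_tree lc_e_rc_18_1 lc_e_rc_18_1 lc_e_rc_18_1 lc_e_rc_9_3 lc_e_rc_27_5 lc_e_rc_18_1 lc_e_rc_27_7 lc_e_rc_27_5 lc_e_rc_27_7 lc_e_rc_18_1 lc_e_rc_13_3 lc_e_rc_18_1 lc_e_rc_18_1 lc_e_rc_9_3 lc_e_rc_16_1 lc_e_rc_19_4 lc_e_rc_16_3 lc_e_rc_16_5 lc_e_rc_9_3 lc_e_Cert_tree lc_e_Cert_tree lc_e_rc_18_1 lc_e_rc_27_5 lc_e_rc_16_1 lc_e_rc_13_1 lc_e_rc_27_5 lc_e_rc_16_3 lc_e_rc_16_3 lc_e_rc_19_2 lc_e_rc_9_3 lc_e_rc_27_5 lc_e_rc_19_2 lc_e_rc_18_1 lc_e_rc_9_3 lc_e_rc_27_5 lc_e_rc_18_1 lc_e_rc_18_1 lc_e_rc_16_1 lc_e_rc_9_3 lc_e_rc_9_3 lc_e_rc_27_7 lc_e_rc_27_5 lc_e_rc_19_2 lc_e_rc_13_3 lc_e_rc_16_1 lc_e_rc_18_1 lc_e_rc_18_1 lc_e_rc_27_5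 lc_e_rc_16_5 lc_e_rc_18_1 lc_e_rc_18_1 lc_e_rc_16_3 lc_e_rc_13_3 lc_e_rc_27_5 lc_e_rc_18_1) (@D3.rec (fun _ => (Cert rels S Gen.e)) lc_e_rc_27_7 lc_e_rc_27_5 lc_e_rc_27_5 lc_e_rc_4_3 lc_e_rc_13_3 lc_e_rc_16_3 lc_e_rc_19_4 lc_e_rc_16_5 lc_e_rc_13_3 lc_e_rc_16_5 lc_e_rc_13_3 lc_e_rc_19_0 lc_e_rc_27_7 lc_e_rc_18_1 lc_e_rc_13_1 lc_e_rc_18_1 lc_e_rc_9_1 lc_e_rc_9_3 lc_e_rc_18_1 lc_e_rc_9_3 lc_e_rc_4_3 lc_e_rc_9_3 lc_e_rc_18_1 lc_e_rc_4_1 lc_e_rc_18_1 lc_e_rc_4_1 lc_e_rc_18_1 lc_e_rc_4_3 lc_e_rc_9_3 lc_e_rc_27_1 lc_e_rc_9_3 lc_e_rc_13_3 lc_e_rc_13_3 lc_e_rc_27_5 lc_e_rc_18_1 lc_e_rc_16_1 lc_e_rc_13_3 lc_e_rc_18_1 lc_e_rc_18_1 lc_e_rc_27_5 lc_e_rc_16_1 lc_e_rc_13_3 lc_e_rc_13_3 lc_e_rc_16_5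 lc_e_rc_27_5 lc_e_rc_16_5 lc_e_rc_18_1 lc_e_rc_18_1 lc_e_rc_16_3 lc_e_rc_27_5 lc_e_rc_18_1 lc_e_rc_9_3 lc_e_rc_4_3 lc_e_rc_27_5 lc_e_rc_18_1 lc_e_rc_9_3 lc_e_rc_13_3 lc_e_rc_4_3 lc_e_rc_16_5 lc_e_rc_27_1 lc_e_rc_4_3 lc_e_rc_9_3) (@D3.rec (fun _ => (Cert rels S Gen.e)) lc_e_rc_16_5 lc_e_rc_13_1 lc_e_rc_16_5 lc_e_rc_13_3 lc_e_rc_27_1 lc_e_rc_27_1 lc_e_rc_27_5 lc_e_rc_27_1 lc_e_rc_9_1 lc_e_rc_18_1 lc_e_rc_27_1 lc_e_rc_18_1 lc_e_rc_27_1 lc_e_rc_18_1 lc_e_rc_9_3 lc_e_rc_18_1 lc_e_rc_16_1 lc_e_rc_18_1 lc_e_rc_27_5 lc_e_rc_19_4 lc_e_rc_9_3 lc_e_rc_18_1 lc_e_rc_18_1 lc_e_rc_4_1 lc_e_rc_19_0 lc_e_rc_9_3 lc_e_rc_16_5 lc_e_rc_4_3 lc_e_rc_27_5 lc_e_rc_18_1 lc_e_rc_18_1 lc_e_rc_16_3 lc_e_rc_27_7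 lc_e_rc_9_3 lc_e_rc_18_1 lc_e_rc_16_5 lc_e_rc_27_5 lc_e_rc_9_1 lc_e_rc_18_1 lc_e_rc_27_5 lc_e_rc_19_4 lc_e_rc_18_1 lc_e_rc_16_3 lc_e_rc_16_1 lc_e_rc_27_7 lc_e_rc_9_1 lc_e_Cert_tree lc_e_rc_18_1 lc_e_rc_18_1 lc_e_rc_27_5 lc_e_rc_13_3 lc_e_rc_27_1 lc_e_rc_16_3 lc_e_rc_13_3 lc_e_rc_19_4 lc_e_rc_18_1 lc_e_rc_18_1 lc_e_rc_4_1 lc_e_rc_18_1 lc_e_rc_9_3 lc_e_rc_18_1 lc_e_rc_27_5) (@D3.rec (fun _ => (Cert rels S Gen.e)) lc_e_rc_27_7 lc_e_rc_16_3 lc_e_rc_16_3 lc_e_rc_19_4 lc_e_rc_16_5 lc_e_rc_19_4 lc_e_rc_18_1 lc_e_rc_9_3 lc_e_rc_18_1 lc_e_rc_4_3 lc_e_rc_16_3 lc_e_rc_27_5 lc_e_rc_18_1 lc_e_rc_13_3 lc_e_rc_27_1 lc_e_rc_18_1 lc_e_rc_18_1 lc_e_rc_18_1 lc_e_rc_16_5 lc_e_rc_16_3 lc_e_rc_16_5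 lc_e_rc_9_3 lc_e_rc_18_1 lc_e_rc_18_1 lc_e_rc_16_1 lc_e_rc_19_2 lc_e_rc_9_3 lc_e_rc_16_3 lc_e_rc_18_1 lc_e_rc_9_3 lc_e_rc_18_1 lc_e_rc_13_3 lc_e_rc_27_1 lc_e_rc_9_3 lc_e_rc_27_7 lc_e_rc_13_3 lc_e_rc_16_5 lc_e_rc_18_1 lc_e_rc_27_1 lc_e_rc_4_3 lc_e_rc_16_1 lc_e_rc_18_1 lc_e_rc_16_5 lc_e_rc_27_5 lc_e_rc_19_2 lc_e_rc_13_3 lc_e_rc_13_3 lc_e_rc_19_0 lc_e_rc_13_3 lc_e_rc_19_0 lc_e_rc_27_5 lc_e_rc_9_3 lc_e_rc_9_3 lc_e_rc_27_5 lc_e_rc_4_1 lc_e_rc_13_3 lc_e_rc_18_1 lc_e_rc_16_5 lc_e_rc_27_1 lc_e_rc_9_3 lc_e_rc_18_1 lc_e_rc_27_1) (@D3.rec (fun _ => (Cert rels S Gen.e)) lc_e_rc_16_1 lc_e_rc_19_4 lc_e_rc_16_5 lc_e_rc_13_3 lc_e_rc_18_1 lc_e_rc_19_4 lc_e_rc_13_1 lc_e_rc_13_1 lc_e_rc_18_1 lc_e_rc_16_3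 lc_e_rc_16_5 lc_e_rc_27_7 lc_e_rc_18_1 lc_e_rc_18_1 lc_e_rc_18_1 lc_e_rc_13_3 lc_e_rc_9_3 lc_e_rc_27_5 lc_e_rc_16_3 lc_e_rc_13_3 lc_e_rc_13_3 lc_e_rc_18_1 lc_e_rc_16_1 lc_e_rc_19_2 lc_e_rc_9_3 lc_e_rc_16_3 lc_e_rc_18_1 lc_e_rc_13_3 lc_e_rc_19_4 lc_e_rc_18_1 lc_e_rc_16_5 lc_e_rc_9_3 lc_e_rc_27_1 lc_e_rc_9_3 lc_e_rc_13_1 lc_e_rc_9_3 lc_e_rc_4_3 lc_e_rc_18_1 lc_e_rc_19_4 lc_e_rc_18_1 lc_e_rc_18_1 lc_e_rc_13_3 lc_e_rc_27_5 lc_e_rc_18_1 lc_e_rc_18_1 lc_e_rc_18_1 lc_e_rc_13_1 lc_e_rc_18_1 lc_e_rc_16_3 lc_e_rc_13_3 lc_e_rc_16_3 lc_e_rc_27_5 lc_e_rc_18_1 lc_e_rc_13_3 lc_e_rc_16_1 lc_e_rc_13_3 lc_e_rc_16_5 lc_e_rc_9_1 lc_e_rc_27_5 lc_e_rc_13_3 lc_e_rc_18_1 lc_e_rc_13_3) (@D3.rec (fun _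 => (Cert rels S Gen.e)) lc_e_rc_18_1 lc_e_rc_4_3 lc_e_rc_18_1 lc_e_rc_9_3 lc_e_rc_9_3 lc_e_rc_18_1 lc_e_rc_27_5 lc_e_rc_27_7 lc_e_rc_13_1 lc_e_rc_18_1 lc_e_rc_18_1 lc_e_rc_13_1 lc_e_rc_18_1 lc_e_rc_16_3 lc_e_rc_9_1 lc_e_rc_13_3 lc_e_rc_18_1 lc_e_rc_16_1 lc_e_Cert_tree lc_e_rc_9_1 lc_e_rc_18_1 lc_e_rc_13_3 lc_e_rc_19_4 lc_e_rc_16_3 lc_e_rc_19_2 lc_e_rc_27_5 lc_e_rc_18_1 lc_e_rc_18_1 lc_e_rc_19_0 lc_e_rc_4_3 lc_e_rc_9_3 lc_e_rc_4_3 lc_e_rc_27_7 lc_e_rc_9_3 lc_e_rc_27_7 lc_e_rc_18_1 lc_e_rc_19_2 lc_e_rc_18_1 lc_e_rc_13_3 lc_e_rc_19_0 lc_e_rc_16_1 lc_e_rc_13_3 lc_e_rc_16_1 lc_e_rc_13_3 lc_e_rc_18_1 lc_e_rc_18_1 lc_e_rc_18_1 lc_e_rc_9_3 lc_e_Cert_tree lc_e_rc_18_1 lc_e_rc_16_5 lc_e_rc_13_3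 lc_e_rc_18_1 lc_e_rc_16_3 lc_e_rc_19_4 lc_e_rc_13_3 lc_e_rc_27_5 lc_e_rc_18_1 lc_e_rc_18_1 lc_e_rc_19_0 lc_e_rc_9_3 lc_e_rc_9_3) (@D3.rec (fun _ => (Cert rels S Gen.e)) lc_e_rc_9_3 lc_e_rc_27_7 lc_e_rc_9_1 lc_e_rc_13_3 lc_e_rc_27_5 lc_e_rc_18_1 lc_e_rc_18_1 lc_e_rc_13_3 lc_e_rc_27_5 lc_e_rc_27_5 lc_e_rc_18_1 lc_e_rc_13_3 lc_e_rc_27_1 lc_e_rc_4_1 lc_e_rc_18_1 lc_e_rc_4_3 lc_e_rc_16_3 lc_e_rc_18_1 lc_e_rc_9_1 lc_e_rc_18_1 lc_e_rc_27_5 lc_e_rc_13_3 lc_e_rc_18_1 lc_e_rc_9_1 lc_e_rc_18_1 lc_e_rc_27_7 lc_e_rc_16_5 lc_e_rc_27_1 lc_e_rc_13_1 lc_e_rc_18_1 lc_e_rc_27_7 lc_e_rc_18_1 lc_e_rc_18_1 lc_e_rc_18_1 lc_e_Cert_tree lc_e_rc_18_1 lc_e_rc_27_5 lc_e_rc_4_3 lc_e_rc_18_1 lc_e_rc_9_3 lc_e_rc_13_1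 lc_e_rc_18_1 lc_e_rc_9_3 lc_e_rc_9_3 lc_e_rc_16_5 lc_e_rc_18_1 lc_e_rc_18_1 lc_e_rc_18_1 lc_e_rc_9_3 lc_e_rc_9_3 lc_e_rc_18_1 lc_e_rc_9_1 lc_e_rc_4_3 lc_e_rc_9_3 lc_e_rc_13_3 lc_e_rc_16_5 lc_e_rc_27_1 lc_e_rc_4_3 lc_e_rc_9_3 lc_e_rc_9_3 lc_e_rc_16_5 lc_e_rc_18_1) (@D3.rec (fun _ => (Cert rels S Gen.e)) lc_e_rc_16_3 lc_e_rc_13_3 lc_e_rc_13_3 lc_e_rc_18_1 lc_e_rc_18_1 lc_e_rc_18_1 lc_e_rc_4_3 lc_e_rc_27_1 lc_e_rc_16_3 lc_e_rc_13_3 lc_e_rc_27_5 lc_e_rc_9_1 lc_e_rc_27_5 lc_e_rc_18_1 lc_e_rc_19_4 lc_e_rc_27_7 lc_e_Cert_tree lc_e_rc_18_1 lc_e_rc_18_1 lc_e_rc_27_5 lc_e_rc_4_3 lc_e_rc_18_1 lc_e_rc_9_3 lc_e_rc_18_1 lc_e_rc_9_3 lc_e_rc_4_3 lc_e_rc_9_3 lc_e_rc_18_1 lc_e_rc_18_1 lc_e_rc_19_4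 lc_e_rc_19_2 lc_e_rc_13_1 lc_e_rc_13_1 lc_e_rc_27_1 lc_e_rc_18_1 lc_e_rc_18_1 lc_e_rc_4_1 lc_e_rc_4_3 lc_e_rc_18_1 lc_e_rc_16_1 lc_e_rc_13_3 lc_e_rc_18_1 lc_e_rc_18_1 lc_e_Cert_tree lc_e_rc_18_1 lc_e_rc_18_1 lc_e_rc_16_3 lc_e_rc_27_1 lc_e_rc_18_1 lc_e_rc_18_1 lc_e_rc_27_1 lc_e_rc_18_1 lc_e_rc_16_3 lc_e_rc_13_3 lc_e_rc_27_5 lc_e_rc_18_1 lc_e_rc_13_3 lc_e_rc_13_3 lc_e_rc_13_3 lc_e_rc_16_3 lc_e_rc_18_1 lc_e_rc_18_1) (@D3.rec (fun _ => (Cert rels S Gen.e)) lc_e_rc_27_5 lc_e_rc_27_1 lc_e_rc_18_1 lc_e_rc_9_3 lc_e_rc_16_1 lc_e_rc_4_1 lc_e_rc_19_4 lc_e_rc_18_1 lc_e_rc_18_1 lc_e_rc_16_3 lc_e_rc_19_0 lc_e_rc_18_1 lc_e_rc_18_1 lc_e_rc_9_3 lc_e_rc_9_3 lc_e_rc_18_1 lc_e_rc_27_1 lc_e_rc_9_3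 lc_e_rc_9_1 lc_e_rc_27_1 lc_e_rc_4_3 lc_e_rc_16_3 lc_e_rc_9_3 lc_e_rc_9_1 lc_e_rc_18_1 lc_e_rc_18_1 lc_e_rc_13_1 lc_e_rc_16_3 lc_e_rc_16_3 lc_e_rc_18_1 lc_e_rc_16_3 lc_e_rc_18_1 lc_e_rc_13_1 lc_e_rc_16_3 lc_e_rc_27_5 lc_e_rc_18_1 lc_e_rc_13_3 lc_e_rc_13_3 lc_e_rc_18_1 lc_e_rc_18_1 lc_e_rc_9_1 lc_e_rc_18_1 lc_e_rc_27_7 lc_e_rc_18_1 lc_e_rc_27_1 lc_e_rc_18_1 lc_e_rc_4_3 lc_e_rc_9_3 lc_e_rc_16_1 lc_e_rc_27_1 lc_e_rc_13_1 lc_e_rc_18_1 lc_e_rc_4_3 lc_e_rc_18_1 lc_e_rc_18_1 lc_e_rc_4_3 lc_e_rc_9_3 lc_e_rc_9_3 lc_e_rc_19_4 lc_e_rc_18_1 lc_e_rc_18_1 lc_e_rc_18_1) (@D3.rec (fun _ => (Cert rels S Gen.e)) lc_e_rc_18_1 lc_e_rc_13_3 lc_e_rc_18_1 lc_e_rc_19_4 lc_e_rc_18_1 lc_e_rc_13_1 lc_e_rc_18_1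 lc_e_rc_19_4 lc_e_rc_18_1 lc_e_rc_18_1 lc_e_rc_27_5 lc_e_rc_19_2 lc_e_rc_9_3 lc_e_rc_13_3 lc_e_rc_19_2 lc_e_rc_18_1 lc_e_rc_18_1 lc_e_rc_16_1 lc_e_rc_27_5 lc_e_rc_4_1 lc_e_Cert_tree lc_e_rc_19_2 lc_e_rc_13_3 lc_e_rc_16_3 lc_e_rc_16_3 lc_e_rc_18_1 lc_e_rc_13_3 lc_e_rc_16_1 lc_e_rc_19_2 lc_e_rc_18_1 lc_e_rc_18_1 lc_e_rc_27_1 lc_e_rc_9_3 lc_e_rc_13_3 lc_e_rc_19_2 lc_e_rc_16_1 lc_e_rc_18_1 lc_e_rc_16_5 lc_e_rc_18_1 lc_e_rc_27_5 lc_e_rc_16_1 lc_e_rc_19_2 lc_e_rc_27_5 lc_e_rc_18_1 lc_e_rc_27_1 lc_e_rc_18_1 lc_e_rc_4_3 lc_e_rc_9_1 lc_e_rc_16_3 lc_e_rc_18_1 lc_e_rc_18_1 lc_e_rc_18_1 lc_e_rc_16_5 lc_e_rc_18_1 lc_e_rc_9_1 lc_e_rc_18_1 lc_e_rc_9_3 lc_e_rc_18_1 lc_e_rc_27_5 lc_e_rc_13_3 lc_e_rc_13_3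 lc_e_rc_27_5) (@D3.rec (fun _ => (Cert rels S Gen.e)) lc_e_rc_9_3 lc_e_rc_13_3 lc_e_rc_13_3 lc_e_rc_18_1 lc_e_rc_13_1 lc_e_rc_13_1 lc_e_rc_19_4 lc_e_rc_4_3 lc_e_rc_18_1 lc_e_rc_13_3 lc_e_rc_13_3 lc_e_rc_18_1 lc_e_rc_19_4 lc_e_rc_16_5 lc_e_rc_19_2 lc_e_rc_27_7 lc_e_rc_16_5 lc_e_rc_16_5 lc_e_rc_18_1 lc_e_rc_27_1 lc_e_rc_16_5 lc_e_rc_4_3 lc_e_rc_18_1 lc_e_rc_16_3 lc_e_rc_18_1 lc_e_rc_16_5 lc_e_rc_13_1 lc_e_rc_18_1 lc_e_rc_18_1 lc_e_rc_27_5 lc_e_rc_27_5 lc_e_rc_27_7 lc_e_rc_13_3 lc_e_rc_27_7 lc_e_rc_18_1 lc_e_Cert_tree lc_e_rc_18_1 lc_e_rc_16_5 lc_e_rc_16_3 lc_e_rc_18_1 lc_e_rc_18_1 lc_e_rc_13_1 lc_e_rc_13_3 lc_e_rc_4_3 lc_e_rc_9_3 lc_e_rc_18_1 lc_e_rc_13_1 lc_e_rc_18_1 lc_e_rc_16_3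 lc_e_rc_13_3 lc_e_rc_27_1 lc_e_rc_27_5 lc_e_rc_18_1 lc_e_rc_13_1 lc_e_rc_18_1 lc_e_rc_16_5 lc_e_rc_18_1 lc_e_rc_27_5 lc_e_rc_13_3 lc_e_rc_16_1 lc_e_rc_27_5 lc_e_rc_13_3) (@D3.rec (fun _ => (Cert rels S Gen.e)) lc_e_rc_19_0 lc_e_rc_18_1 lc_e_rc_13_1 lc_e_rc_18_1 lc_e_rc_18_1 lc_e_rc_18_1 lc_e_rc_27_5 lc_e_rc_9_3 lc_e_rc_18_1 lc_e_rc_9_3 lc_e_rc_4_1 lc_e_rc_16_3 lc_e_rc_18_1 lc_e_rc_9_3 lc_e_Cert_tree lc_e_rc_18_1 lc_e_rc_18_1 lc_e_rc_9_1 lc_e_rc_9_3 lc_e_rc_9_3 lc_e_rc_18_1 lc_e_Cert_tree lc_e_rc_18_1 lc_e_rc_18_1 lc_e_rc_27_7 lc_e_rc_18_1 lc_e_rc_13_1 lc_e_rc_16_5 lc_e_rc_19_0 lc_e_rc_18_1 lc_e_rc_18_1 lc_e_rc_9_3 lc_e_rc_27_7 lc_e_rc_18_1 lc_e_rc_18_1 lc_e_rc_18_1 lc_e_rc_9_3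 lc_e_rc_27_5 lc_e_rc_18_1 lc_e_rc_4_3 lc_e_rc_4_3 lc_e_rc_4_3 lc_e_Cert_tree lc_e_rc_18_1 lc_e_rc_9_3 lc_e_rc_27_5 lc_e_rc_19_4 lc_e_rc_18_1 lc_e_rc_13_1 lc_e_rc_27_5 lc_e_rc_4_3 lc_e_rc_27_5 lc_e_rc_16_3 lc_e_rc_27_5 lc_e_rc_9_3 lc_e_rc_13_3 lc_e_rc_18_1 lc_e_rc_13_1 lc_e_rc_9_3 lc_e_rc_27_1 lc_e_rc_16_5 lc_e_rc_18_1) (@D3.rec (fun _ => (Cert rels S Gen.e)) lc_e_rc_18_1 lc_e_rc_4_1 lc_e_rc_16_5 lc_e_rc_18_1 lc_e_rc_9_1 lc_e_rc_18_1 lc_e_rc_13_1 lc_e_rc_16_3 lc_e_rc_16_3 lc_e_rc_18_1 lc_e_Cert_tree lc_e_rc_18_1 lc_e_rc_16_5 lc_e_rc_9_3 lc_e_rc_4_3 lc_e_rc_9_1 lc_e_rc_16_5 lc_e_Cert_tree lc_e_rc_16_3 lc_e_rc_18_1 lc_e_rc_4_3 lc_e_rc_13_1 lc_e_rc_18_1 lc_e_rc_9_3 lc_e_rc_9_3 lc_e_rc_9_3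 lc_e_rc_16_3 lc_e_rc_16_1 lc_e_rc_19_2 lc_e_rc_9_3 lc_e_rc_27_5 lc_e_Cert_tree lc_e_Cert_tree lc_e_rc_16_5 lc_e_rc_9_3 lc_e_rc_16_3 lc_e_rc_13_3 lc_e_Cert_tree lc_e_rc_18_1 lc_e_rc_4_3 lc_e_rc_4_1 lc_e_rc_9_3 lc_e_rc_9_1 lc_e_rc_18_1 lc_e_rc_13_3 lc_e_rc_18_1 lc_e_rc_27_5 lc_e_rc_18_1 lc_e_Cert_tree lc_e_rc_16_5 lc_e_rc_9_1 lc_e_rc_18_1 lc_e_rc_13_3 lc_e_rc_19_2 lc_e_rc_27_5 lc_e_rc_16_5 lc_e_rc_9_3 lc_e_rc_9_3 lc_e_rc_18_1 lc_e_rc_27_5 lc_e_rc_18_1 lc_e_rc_18_1) (@D3.rec (fun _ => (Cert rels S Gen.e)) lc_e_rc_27_7 lc_e_rc_27_1 lc_e_rc_27_5 lc_e_rc_18_1 lc_e_rc_27_1 lc_e_Cert_tree lc_e_Cert_tree lc_e_rc_18_1 lc_e_rc_16_1 lc_e_rc_9_3 lc_e_rc_19_2 lc_e_rc_9_3 lc_e_Cert_tree lc_e_rc_18_1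 lc_e_Cert_tree lc_e_rc_19_4 lc_e_rc_19_0 lc_e_rc_19_4 lc_e_rc_18_1 lc_e_rc_18_1 lc_e_rc_13_3 lc_e_rc_16_3 lc_e_rc_19_2 lc_e_rc_16_5 lc_e_rc_13_3 lc_e_rc_18_1 lc_e_rc_18_1 lc_e_rc_19_2 lc_e_rc_9_3 lc_e_rc_18_1 lc_e_rc_27_5 lc_e_rc_18_1 lc_e_rc_9_3 lc_e_rc_18_1 lc_e_rc_16_5 lc_e_rc_27_7 lc_e_rc_9_3 lc_e_rc_16_3 lc_e_rc_16_5 lc_e_rc_18_1 lc_e_rc_18_1 lc_e_rc_19_0 lc_e_rc_27_1 lc_e_rc_9_3 lc_e_rc_9_3 lc_e_rc_18_1 lc_e_rc_27_1 lc_e_rc_18_1 lc_e_rc_9_1 lc_e_rc_9_3 lc_e_rc_18_1 lc_e_rc_27_1 lc_e_rc_18_1 lc_e_rc_18_1 lc_e_rc_19_2 lc_e_rc_18_1 lc_e_rc_16_1 lc_e_rc_18_1 lc_e_rc_19_2 lc_e_rc_4_3 lc_e_rc_13_3 lc_e_rc_16_3) (@D3.rec (fun _ => (Cert rels S Gen.e)) lc_e_rc_27_1 lc_e_rc_16_3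 lc_e_rc_16_1 lc_e_rc_27_5 lc_e_rc_18_1 lc_e_rc_18_1 lc_e_rc_18_1 lc_e_rc_9_3 lc_e_rc_19_2 lc_e_rc_16_3 lc_e_rc_16_1 lc_e_rc_27_1 lc_e_rc_13_3 lc_e_rc_18_1 lc_e_rc_27_5 lc_e_rc_18_1 lc_e_rc_27_1 lc_e_rc_13_3 lc_e_Cert_tree lc_e_rc_4_1 lc_e_rc_16_5 lc_e_rc_18_1 lc_e_rc_13_3 lc_e_rc_18_1 lc_e_rc_13_1 lc_e_rc_9_1 lc_e_rc_13_3 lc_e_rc_9_3 lc_e_rc_16_1 lc_e_rc_19_2 lc_e_rc_9_3 lc_e_rc_9_3 lc_e_rc_19_2 lc_e_rc_13_1 lc_e_rc_13_3 lc_e_rc_27_5 lc_e_rc_18_1 lc_e_rc_18_1 lc_e_rc_16_3 lc_e_rc_16_1 lc_e_rc_18_1 lc_e_Cert_tree lc_e_rc_18_1 lc_e_rc_13_1 lc_e_rc_13_1 lc_e_rc_16_1 lc_e_rc_13_1 lc_e_rc_18_1 lc_e_rc_27_5 lc_e_rc_18_1 lc_e_rc_18_1 lc_e_rc_13_3 lc_e_rc_9_3 lc_e_rc_9_1 lc_e_rc_18_1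 lc_e_rc_9_3 lc_e_rc_9_3 lc_e_rc_16_5 lc_e_rc_16_5 lc_e_rc_13_3 lc_e_rc_4_3 lc_e_rc_27_5) (@D3.rec (fun _ => (Cert rels S Gen.e)) lc_e_rc_9_1 lc_e_rc_16_5 lc_e_rc_27_1 lc_e_rc_4_3 lc_e_rc_18_1 lc_e_rc_13_1 lc_e_rc_18_1 lc_e_rc_27_1 lc_e_rc_9_3 lc_e_Cert_tree lc_e_rc_27_7 lc_e_Cert_tree lc_e_Cert_tree lc_e_rc_18_1 lc_e_rc_16_3 lc_e_rc_18_1 lc_e_Cert_tree lc_e_rc_18_1 lc_e_rc_18_1 lc_e_rc_19_2 lc_e_rc_18_1 lc_e_rc_13_3 lc_e_rc_16_3 lc_e_rc_9_1 lc_e_rc_18_1 lc_e_rc_18_1 lc_e_rc_9_3 lc_e_rc_13_1 lc_e_rc_16_5 lc_e_rc_18_1 lc_e_Cert_tree lc_e_rc_18_1 lc_e_rc_27_5 lc_e_rc_16_1 lc_e_rc_16_3 lc_e_rc_13_3 lc_e_rc_13_1 lc_e_rc_18_1 lc_e_rc_19_2 lc_e_rc_18_1 lc_e_rc_9_3 lc_e_rc_19_4 lc_e_rc_16_3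 lc_e_rc_18_1 lc_e_rc_9_3 lc_e_rc_19_2 lc_e_rc_18_1 lc_e_rc_18_1 lc_e_rc_18_1 lc_e_rc_19_0 lc_e_rc_18_1 lc_e_rc_16_5 lc_e_rc_19_2 lc_e_Cert_tree lc_e_rc_18_1 lc_e_rc_13_3 lc_e_rc_18_1 lc_e_rc_16_5 lc_e_rc_18_1 lc_e_rc_18_1 lc_e_rc_9_3 lc_e_rc_16_1) (@D3.rec (fun _ => (Cert rels S Gen.e)) lc_e_rc_27_5 lc_e_rc_13_3 lc_e_rc_13_3 lc_e_rc_16_1 lc_e_rc_16_3 lc_e_rc_9_3 lc_e_Cert_tree lc_e_rc_18_1 lc_e_rc_16_5 lc_e_rc_27_1 lc_e_rc_13_1 lc_e_rc_9_3 lc_e_rc_27_1 lc_e_rc_13_3 lc_e_rc_18_1 lc_e_rc_18_1 lc_e_rc_9_1 lc_e_rc_16_3 lc_e_rc_18_1 lc_e_rc_19_2 lc_e_rc_13_1 lc_e_rc_27_7 lc_e_rc_27_1 lc_e_rc_19_2 lc_e_rc_4_1 lc_e_rc_9_3 lc_e_rc_16_5 lc_e_rc_4_3 lc_e_rc_4_3 lc_e_rc_13_3 lc_e_rc_27_5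 lc_e_rc_4_1 lc_e_rc_4_3 lc_e_rc_16_3 lc_e_rc_9_3 lc_e_rc_4_1 lc_e_rc_27_7 lc_e_rc_9_3 lc_e_rc_9_3 lc_e_rc_9_1 lc_e_rc_13_3 lc_e_rc_16_3 lc_e_rc_19_4 lc_e_rc_27_1 lc_e_rc_27_5 lc_e_rc_4_3 lc_e_rc_18_1 lc_e_rc_18_1 lc_e_rc_27_7 lc_e_rc_13_1 lc_e_rc_27_5 lc_e_rc_13_1 lc_e_rc_27_1 lc_e_rc_27_5 lc_e_rc_16_3 lc_e_rc_13_3 lc_e_rc_19_2 lc_e_rc_13_3 lc_e_rc_16_5 lc_e_rc_13_1 lc_e_rc_13_3 lc_e_rc_13_3) (@D3.rec (fun _ => (Cert rels S Gen.e)) lc_e_rc_13_1 lc_e_rc_9_1 lc_e_rc_16_3 lc_e_rc_13_1 lc_e_rc_18_1 lc_e_rc_16_1 lc_e_rc_18_1 lc_e_rc_13_1 lc_e_rc_18_1 lc_e_rc_13_3 lc_e_Cert_tree lc_e_rc_18_1 lc_e_rc_9_3 lc_e_rc_13_3 lc_e_rc_19_4 lc_e_rc_27_5 lc_e_rc_27_7 lc_e_rc_19_2 lc_e_rc_13_1 lc_e_rc_16_3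 lc_e_rc_27_5 lc_e_rc_13_1 lc_e_rc_13_3 lc_e_rc_13_3 lc_e_rc_13_3 lc_e_rc_18_1 lc_e_rc_18_1 lc_e_rc_27_7 lc_e_rc_9_3 lc_e_rc_27_7 lc_e_rc_27_1 lc_e_rc_16_3 lc_e_rc_18_1 lc_e_rc_27_7 lc_e_rc_13_1 lc_e_rc_18_1 lc_e_rc_13_3 lc_e_rc_13_3 lc_e_rc_27_1 lc_e_rc_19_4 lc_e_rc_18_1 lc_e_rc_13_3 lc_e_rc_18_1 lc_e_rc_18_1 lc_e_rc_9_3 lc_e_rc_27_1 lc_e_rc_13_3 lc_e_rc_19_4 lc_e_rc_27_5 lc_e_rc_27_7 lc_e_rc_4_3 lc_e_rc_9_3 lc_e_rc_9_3 lc_e_rc_16_3 lc_e_rc_13_1 lc_e_rc_16_5 lc_e_rc_16_1 lc_e_rc_27_5 lc_e_rc_18_1 lc_e_rc_9_3 lc_e_rc_18_1 lc_e_rc_18_1) (@D3.rec (fun _ => (Cert rels S Gen.e)) lc_e_rc_16_5 lc_e_rc_16_1 lc_e_rc_27_5 lc_e_rc_27_5 lc_e_rc_27_5 lc_e_rc_27_5 lc_e_rc_19_2 lc_e_rc_18_1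 lc_e_rc_27_7 lc_e_rc_16_3 lc_e_rc_27_7 lc_e_rc_18_1 lc_e_rc_27_1 lc_e_rc_19_4 lc_e_rc_18_1 lc_e_rc_18_1 lc_e_rc_9_3 lc_e_rc_9_3 lc_e_rc_18_1 lc_e_rc_18_1 lc_e_rc_13_3 lc_e_rc_27_1 lc_e_rc_18_1 lc_e_rc_16_3 lc_e_rc_18_1 lc_e_rc_13_3 lc_e_rc_18_1 lc_e_rc_18_1 lc_e_rc_18_1 lc_e_rc_13_3 lc_e_rc_9_3 lc_e_Cert_tree lc_e_rc_27_7 lc_e_rc_18_1 lc_e_rc_13_3 lc_e_rc_9_3 lc_e_rc_18_1 lc_e_rc_4_3 lc_e_rc_18_1 lc_e_rc_19_0 lc_e_rc_27_1 lc_e_rc_13_3 lc_e_rc_16_3 lc_e_rc_18_1 lc_e_rc_27_5 lc_e_rc_18_1 lc_e_rc_27_1 lc_e_rc_9_1 lc_e_rc_27_5 lc_e_rc_16_5 lc_e_rc_16_1 lc_e_rc_18_1 lc_e_rc_19_0 lc_e_rc_9_1 lc_e_rc_18_1 lc_e_rc_27_1 lc_e_rc_9_1 lc_e_rc_18_1 lc_e_rc_16_1 lc_e_rc_9_3 lc_e_rc_9_3 lc_e_rc_18_1)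 (@D3.rec (fun _ => (Cert rels S Gen.e)) lc_e_rc_27_5 lc_e_rc_27_1 lc_e_rc_27_5 lc_e_rc_18_1 lc_e_rc_18_1 lc_e_rc_16_1 lc_e_rc_13_3 lc_e_rc_4_3 lc_e_rc_9_3 lc_e_rc_9_1 lc_e_rc_18_1 lc_e_rc_9_3 lc_e_rc_13_1 lc_e_rc_9_3 lc_e_rc_9_3 lc_e_rc_13_1 lc_e_rc_13_3 lc_e_rc_18_1 lc_e_rc_19_0 lc_e_rc_19_2 lc_e_rc_18_1 lc_e_rc_16_5 lc_e_rc_4_3 lc_e_rc_18_1 lc_e_rc_13_3 lc_e_rc_18_1 lc_e_rc_16_5 lc_e_rc_9_3 lc_e_rc_13_3 lc_e_rc_16_3 lc_e_Cert_tree lc_e_rc_19_4 lc_e_rc_18_1 lc_e_rc_9_3 lc_e_rc_18_1 lc_e_rc_18_1 lc_e_rc_18_1 lc_e_rc_19_4 lc_e_rc_13_1 lc_e_rc_18_1 lc_e_rc_13_1 lc_e_rc_18_1 lc_e_rc_18_1 lc_e_rc_27_7 lc_e_rc_9_1 lc_e_rc_9_3 lc_e_rc_27_1 lc_e_rc_13_1 lc_e_rc_18_1 lc_e_rc_4_3 lc_e_rc_27_5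 lc_e_rc_13_3 lc_e_rc_27_1 lc_e_rc_4_1 lc_e_rc_18_1 lc_e_rc_16_3 lc_e_Cert_tree lc_e_rc_27_5 lc_e_rc_18_1 lc_e_rc_9_3 lc_e_rc_18_1 lc_e_rc_13_3) (@D3.rec (fun _ => (Cert rels S Gen.e)) lc_e_rc_19_0 lc_e_rc_13_1 lc_e_rc_13_1 lc_e_rc_13_1 lc_e_Cert_tree lc_e_rc_18_1 lc_e_rc_27_7 lc_e_rc_16_3 lc_e_rc_9_3 lc_e_rc_27_5 lc_e_rc_18_1 lc_e_rc_9_3 lc_e_rc_9_1 lc_e_rc_18_1 lc_e_rc_18_1 lc_e_rc_18_1 lc_e_rc_27_1 lc_e_rc_27_5 lc_e_rc_18_1 lc_e_rc_9_3 lc_e_rc_27_1 lc_e_rc_16_5 lc_e_rc_18_1 lc_e_rc_9_3 lc_e_rc_4_3 lc_e_rc_9_1 lc_e_rc_16_1 lc_e_rc_18_1 lc_e_rc_16_1 lc_e_rc_9_1 lc_e_rc_18_1 lc_e_rc_18_1 lc_e_rc_27_1 lc_e_rc_9_1 lc_e_rc_13_3 lc_e_rc_16_1 lc_e_rc_9_1 lc_e_rc_18_1 lc_e_rc_18_1 lc_e_rc_9_1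 lc_e_rc_18_1 lc_e_rc_18_1 lc_e_rc_16_5 lc_e_Cert_tree lc_e_rc_9_3 lc_e_rc_18_1 lc_e_rc_9_3 lc_e_rc_18_1 lc_e_rc_16_1 lc_e_rc_13_1 lc_e_rc_13_1 lc_e_rc_13_3 lc_e_rc_27_7 lc_e_rc_16_1 lc_e_rc_18_1 lc_e_rc_18_1 lc_e_rc_16_3 lc_e_rc_27_5 lc_e_rc_16_5 lc_e_rc_13_3 lc_e_rc_16_5 lc_e_rc_19_0) (@D3.rec (fun _ => (Cert rels S Gen.e)) lc_e_rc_18_1 lc_e_rc_16_5 lc_e_rc_9_3 lc_e_rc_13_3 lc_e_rc_18_1 lc_e_rc_18_1 lc_e_rc_16_1 lc_e_rc_18_1 lc_e_rc_18_1 lc_e_rc_4_1 lc_e_rc_9_3 lc_e_rc_18_1 lc_e_rc_13_3 lc_e_rc_13_3 lc_e_rc_18_1 lc_e_rc_19_2 lc_e_rc_16_3 lc_e_rc_16_5 lc_e_rc_4_3 lc_e_rc_27_1 lc_e_rc_18_1 lc_e_rc_19_4 lc_e_rc_13_1 lc_e_rc_18_1 lc_e_rc_18_1 lc_e_rc_9_3 lc_e_rc_18_1 lc_e_rc_9_3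 lc_e_rc_18_1 lc_e_rc_13_3 lc_e_Cert_tree lc_e_rc_18_1 lc_e_rc_18_1 lc_e_rc_4_1 lc_e_rc_13_3 lc_e_rc_9_3 lc_e_rc_27_5 lc_e_rc_16_1 lc_e_rc_13_1 lc_e_rc_13_3 lc_e_rc_18_1 lc_e_rc_13_1 lc_e_rc_9_3 lc_e_rc_18_1 lc_e_rc_4_3 lc_e_rc_9_1 lc_e_rc_16_1 lc_e_rc_27_1 lc_e_rc_27_5 lc_e_rc_27_1 lc_e_rc_27_5 lc_e_rc_13_3 lc_e_rc_13_3 lc_e_rc_16_3 lc_e_rc_18_1 lc_e_rc_27_5 lc_e_rc_18_1 lc_e_rc_18_1 lc_e_rc_4_3 lc_e_rc_18_1 lc_e_rc_16_3 lc_e_rc_9_3) (@D3.rec (fun _ => (Cert rels S Gen.e)) lc_e_rc_18_1 lc_e_rc_13_3 lc_e_rc_27_5 lc_e_rc_18_1 lc_e_rc_16_5 lc_e_rc_16_5 lc_e_rc_18_1 lc_e_rc_18_1 lc_e_rc_27_7 lc_e_rc_9_3 lc_e_rc_27_5 lc_e_rc_13_1 lc_e_rc_18_1 lc_e_rc_4_3 lc_e_rc_27_7 lc_e_rc_19_2 lc_e_rc_9_3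 lc_e_rc_18_1 lc_e_rc_9_3 lc_e_rc_13_1 lc_e_rc_27_7 lc_e_rc_13_3 lc_e_rc_27_5 lc_e_rc_18_1 lc_e_rc_4_1 lc_e_rc_16_1 lc_e_rc_9_1 lc_e_rc_13_1 lc_e_rc_18_1 lc_e_rc_27_5 lc_e_rc_18_1 lc_e_rc_18_1 lc_e_rc_18_1 lc_e_rc_19_4 lc_e_rc_9_1 lc_e_rc_9_1 lc_e_rc_13_1 lc_e_rc_27_7 lc_e_rc_16_3 lc_e_rc_16_5 lc_e_rc_9_3 lc_e_rc_27_7 lc_e_rc_9_3 lc_e_rc_13_3 lc_e_rc_16_5 lc_e_rc_16_1 lc_e_rc_13_3 lc_e_rc_27_5 lc_e_rc_18_1 lc_e_rc_18_1 lc_e_rc_18_1 lc_e_rc_16_1 lc_e_rc_19_4 lc_e_rc_19_0 lc_e_rc_9_3 lc_e_rc_27_1 lc_e_rc_18_1 lc_e_rc_13_1 lc_e_rc_18_1 lc_e_rc_9_3 lc_e_rc_19_4 lc_e_rc_19_0) (@D3.rec (fun _ => (Cert rels S Gen.e)) lc_e_rc_19_0 lc_e_rc_18_1 lc_e_rc_27_7 lc_e_rc_19_4 lc_e_Cert_tree lc_e_Cert_tree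 lc_e_rc_16_1 lc_e_rc_18_1 lc_e_rc_19_4 lc_e_rc_13_1 lc_e_rc_18_1 lc_e_rc_18_1 lc_e_rc_13_3 lc_e_rc_13_3 lc_e_rc_19_4 lc_e_Cert_tree lc_e_rc_27_5 lc_e_rc_19_4 lc_e_rc_27_1 lc_e_rc_19_4 lc_e_rc_9_3 lc_e_rc_19_4 lc_e_rc_4_3 lc_e_rc_13_3 lc_e_rc_18_1 lc_e_rc_16_5 lc_e_rc_18_1 lc_e_rc_18_1 lc_e_rc_18_1 lc_e_rc_18_1 lc_e_rc_4_1 lc_e_rc_18_1 lc_e_rc_18_1 lc_e_rc_27_5 lc_e_rc_27_7 lc_e_rc_18_1 lc_e_rc_19_2 lc_e_rc_18_1 lc_e_rc_9_3 lc_e_rc_13_3 lc_e_rc_16_1 lc_e_rc_19_4 lc_e_rc_16_1 lc_e_rc_19_4 lc_e_rc_19_0 lc_e_rc_16_1 lc_e_rc_27_7 lc_e_rc_18_1 lc_e_rc_27_5 lc_e_rc_19_2 lc_e_rc_9_3 lc_e_rc_16_3 lc_e_rc_13_3 lc_e_rc_13_3 lc_e_rc_18_1 lc_e_rc_19_0 lc_e_rc_27_1 lc_e_rc_9_3 lc_e_rc_4_3 lc_e_rc_4_3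 lc_e_rc_27_7 lc_e_Cert_tree) (@D3.rec (fun _ => (Cert rels S Gen.e)) lc_e_rc_4_1 lc_e_rc_18_1 lc_e_rc_18_1 lc_e_rc_13_3 lc_e_rc_13_3 lc_e_rc_9_1 lc_e_rc_18_1 lc_e_rc_18_1 lc_e_rc_18_1 lc_e_rc_19_0 lc_e_rc_16_3 lc_e_rc_4_3 lc_e_rc_9_1 lc_e_rc_13_1 lc_e_rc_16_3 lc_e_rc_18_1 lc_e_rc_16_3 lc_e_rc_9_1 lc_e_rc_16_5 lc_e_rc_9_3 lc_e_rc_16_1 lc_e_rc_16_3 lc_e_rc_13_3 lc_e_rc_18_1 lc_e_rc_9_3 lc_e_rc_13_3 lc_e_rc_27_7 lc_e_rc_9_1 lc_e_rc_16_5 lc_e_rc_27_7 lc_e_rc_18_1 lc_e_rc_18_1 lc_e_Cert_tree lc_e_rc_18_1 lc_e_rc_9_3 lc_e_rc_13_3 lc_e_rc_27_5 lc_e_rc_18_1 lc_e_rc_18_1 lc_e_rc_4_3 lc_e_rc_4_1 lc_e_rc_19_2 lc_e_Cert_tree lc_e_rc_16_3 lc_e_rc_9_3 lc_e_Cert_tree lc_e_rc_18_1 lc_e_rc_4_1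 lc_e_rc_18_1 lc_e_rc_18_1 lc_e_rc_18_1 lc_e_rc_18_1 lc_e_rc_18_1 lc_e_Cert_tree lc_e_rc_18_1 lc_e_rc_19_0 lc_e_rc_27_5 lc_e_rc_19_2 lc_e_rc_27_1 lc_e_rc_18_1 lc_e_rc_13_3 lc_e_rc_19_4) (@D3.rec (fun _ => (Cert rels S Gen.e)) lc_e_rc_9_3 lc_e_rc_27_1 lc_e_rc_18_1 lc_e_rc_27_5 lc_e_rc_18_1 lc_e_rc_16_5 lc_e_rc_16_1 lc_e_rc_13_3 lc_e_rc_9_3 lc_e_rc_16_5 lc_e_rc_18_1 lc_e_rc_16_3 lc_e_rc_18_1 lc_e_rc_18_1 lc_e_rc_13_3 lc_e_rc_18_1 lc_e_rc_27_7 lc_e_rc_18_1 lc_e_rc_16_1 lc_e_rc_16_3 lc_e_rc_18_1 lc_e_rc_18_1 lc_e_rc_18_1 lc_e_rc_18_1 lc_e_rc_27_5 lc_e_rc_13_3 lc_e_rc_19_2 lc_e_Cert_tree lc_e_rc_27_1 lc_e_rc_18_1 lc_e_rc_9_3 lc_e_rc_18_1 lc_e_rc_13_3 lc_e_rc_13_3 lc_e_rc_13_3 lc_e_rc_18_1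 lc_e_rc_27_1 lc_e_rc_16_1 lc_e_rc_27_5 lc_e_rc_27_7 lc_e_rc_27_1 lc_e_rc_18_1 lc_e_rc_18_1 lc_e_rc_13_3 lc_e_rc_27_1 lc_e_rc_16_1 lc_e_rc_4_1 lc_e_rc_13_3 lc_e_rc_27_1 lc_e_rc_18_1 lc_e_rc_16_5 lc_e_rc_18_1 lc_e_rc_13_3 lc_e_rc_13_3 lc_e_rc_27_1 lc_e_rc_27_5 lc_e_rc_13_1 lc_e_rc_4_1 lc_e_rc_9_3 lc_e_rc_18_1 lc_e_rc_16_3 lc_e_rc_16_1) (@D3.rec (fun _ => (Cert rels S Gen.e)) lc_e_rc_13_1 lc_e_rc_18_1 lc_e_rc_18_1 lc_e_rc_18_1 lc_e_rc_27_5 lc_e_rc_9_3 lc_e_rc_16_3 lc_e_rc_18_1 lc_e_rc_18_1 lc_e_rc_4_3 lc_e_rc_13_3 lc_e_rc_19_4 lc_e_rc_9_3 lc_e_rc_27_7 lc_e_rc_27_5 lc_e_rc_18_1 lc_e_rc_13_3 lc_e_rc_18_1 lc_e_rc_13_1 lc_e_rc_9_3 lc_e_rc_18_1 lc_e_rc_27_5 lc_e_rc_13_3 lc_e_rc_16_1 lc_e_rc_13_3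 lc_e_rc_18_1 lc_e_rc_13_1 lc_e_rc_16_1 lc_e_rc_4_1 lc_e_rc_18_1 lc_e_rc_19_4 lc_e_rc_13_3 lc_e_rc_13_3 lc_e_rc_18_1 lc_e_rc_18_1 lc_e_rc_9_3 lc_e_rc_18_1 lc_e_rc_18_1 lc_e_rc_16_3 lc_e_rc_18_1 lc_e_rc_9_3 lc_e_rc_16_5 lc_e_rc_9_3 lc_e_rc_16_3 lc_e_rc_18_1 lc_e_rc_27_7 lc_e_rc_9_3 lc_e_rc_18_1 lc_e_rc_18_1 lc_e_rc_4_3 lc_e_rc_18_1 lc_e_rc_27_5 lc_e_rc_18_1 lc_e_rc_16_1 lc_e_rc_19_4 lc_e_rc_27_5 lc_e_rc_4_1 lc_e_rc_9_3 lc_e_rc_4_1 lc_e_rc_19_4 lc_e_rc_18_1 lc_e_rc_16_1) (@D3.rec (fun _ => (Cert rels S Gen.e)) lc_e_rc_27_7 lc_e_rc_4_1 lc_e_rc_18_1 lc_e_rc_16_5 lc_e_rc_27_5 lc_e_rc_18_1 lc_e_rc_18_1 lc_e_rc_27_5 lc_e_rc_18_1 lc_e_rc_16_1 lc_e_rc_9_1 lc_e_rc_13_3 lc_e_rc_18_1 lc_e_rc_9_3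 lc_e_Cert_tree lc_e_Cert_tree lc_e_rc_18_1 lc_e_rc_13_1 lc_e_rc_16_5 lc_e_rc_4_3 lc_e_rc_13_3 lc_e_rc_13_3 lc_e_rc_9_3 lc_e_Cert_tree lc_e_rc_18_1 lc_e_rc_27_1 lc_e_rc_19_0 lc_e_Cert_tree lc_e_rc_18_1 lc_e_rc_18_1 lc_e_rc_18_1 lc_e_rc_13_3 lc_e_rc_18_1 lc_e_rc_18_1 lc_e_rc_27_5 lc_e_rc_9_3 lc_e_rc_13_3 lc_e_rc_9_3 lc_e_rc_4_1 lc_e_rc_18_1 lc_e_rc_9_3 lc_e_rc_13_1 lc_e_rc_9_3 lc_e_rc_13_3 lc_e_rc_18_1 lc_e_rc_18_1 lc_e_rc_18_1 lc_e_rc_16_3 lc_e_rc_18_1 lc_e_rc_13_3 lc_e_rc_19_0 lc_e_rc_16_3 lc_e_rc_16_5 lc_e_rc_27_1 lc_e_rc_18_1 lc_e_rc_9_1 lc_e_rc_13_1 lc_e_rc_18_1 lc_e_rc_9_3 lc_e_rc_13_3 lc_e_rc_18_1 lc_e_rc_18_1) (@D3.rec (fun _ => (Cert rels S Gen.e)) lc_e_rc_13_3 lc_e_rc_9_1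 lc_e_rc_18_1 lc_e_rc_16_1 lc_e_rc_13_1 lc_e_rc_18_1 lc_e_rc_9_3 lc_e_rc_13_3 lc_e_rc_13_3 lc_e_rc_18_1 lc_e_rc_18_1 lc_e_rc_18_1 lc_e_rc_9_1 lc_e_rc_18_1 lc_e_rc_9_3 lc_e_rc_27_1 lc_e_rc_27_7 lc_e_rc_27_7 lc_e_rc_18_1 lc_e_rc_13_3 lc_e_rc_16_5 lc_e_rc_27_7 lc_e_rc_27_1 lc_e_rc_18_1 lc_e_rc_9_3 lc_e_rc_18_1 lc_e_rc_18_1 lc_e_rc_4_1 lc_e_rc_13_3 lc_e_rc_18_1 lc_e_rc_18_1 lc_e_rc_13_3 lc_e_rc_18_1 lc_e_rc_13_3 lc_e_rc_16_5 lc_e_rc_16_1 lc_e_rc_9_1 lc_e_rc_27_7 lc_e_rc_9_3 lc_e_rc_9_1 lc_e_rc_16_1 lc_e_rc_18_1 lc_e_rc_13_3 lc_e_rc_27_1 lc_e_rc_27_5 lc_e_rc_19_2 lc_e_Cert_tree lc_e_rc_13_1 lc_e_rc_18_1 lc_e_rc_19_4 lc_e_rc_18_1 lc_e_rc_9_3 lc_e_rc_27_5 lc_e_rc_4_3 lc_e_rc_13_1 lc_e_rc_18_1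 lc_e_rc_16_5 lc_e_rc_9_3 lc_e_Cert_tree lc_e_rc_18_1 lc_e_rc_27_5 lc_e_rc_27_5) (@D3.rec (fun _ => (Cert rels S Gen.e)) lc_e_rc_27_7 lc_e_rc_13_3 lc_e_rc_13_1 lc_e_rc_18_1 lc_e_rc_16_3 lc_e_rc_9_3 lc_e_rc_27_5 lc_e_rc_18_1 lc_e_rc_9_3 lc_e_rc_9_3 lc_e_rc_16_1 lc_e_rc_9_3 lc_e_rc_16_3 lc_e_rc_9_3 lc_e_rc_18_1 lc_e_rc_18_1 lc_e_rc_19_0 lc_e_rc_9_3 lc_e_rc_19_2 lc_e_rc_27_5 lc_e_rc_18_1 lc_e_rc_27_1 lc_e_rc_18_1 lc_e_rc_19_2 lc_e_rc_16_1 lc_e_rc_16_5 lc_e_rc_18_1 lc_e_rc_4_3 lc_e_rc_9_3 lc_e_rc_4_3 lc_e_rc_13_3 lc_e_rc_16_3 lc_e_rc_18_1 lc_e_rc_9_3 lc_e_rc_18_1 lc_e_rc_18_1 lc_e_rc_13_1 lc_e_rc_18_1 lc_e_rc_4_3 lc_e_rc_27_7 lc_e_rc_13_3 lc_e_rc_9_3 lc_e_rc_27_5 lc_e_rc_27_5 lc_e_rc_4_3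 lc_e_rc_27_5 lc_e_rc_19_4 lc_e_rc_18_1 lc_e_rc_16_1 lc_e_rc_9_3 lc_e_rc_4_1 lc_e_rc_13_3 lc_e_rc_4_3 lc_e_rc_16_5 lc_e_rc_27_7 lc_e_rc_13_1 lc_e_rc_9_3 lc_e_rc_4_1 lc_e_rc_27_1 lc_e_rc_18_1 lc_e_rc_18_1 lc_e_rc_13_1) (@D3.rec (fun _ => (Cert rels S Gen.e)) lc_e_rc_27_7 lc_e_rc_13_3 lc_e_rc_18_1 lc_e_rc_27_5 lc_e_rc_18_1 lc_e_rc_13_3 lc_e_rc_4_3 lc_e_rc_4_3 lc_e_rc_4_3 lc_e_rc_18_1 lc_e_rc_18_1 lc_e_rc_16_5 lc_e_rc_16_1 lc_e_rc_16_5 lc_e_rc_9_3 lc_e_rc_16_5 lc_e_rc_13_3 lc_e_rc_19_2 lc_e_rc_27_1 lc_e_rc_4_1 lc_e_rc_27_5 lc_e_rc_4_3 lc_e_rc_19_4 lc_e_rc_27_1 lc_e_rc_9_3 lc_e_rc_13_3 lc_e_rc_9_3 lc_e_rc_13_3 lc_e_rc_18_1 lc_e_rc_18_1 lc_e_rc_13_1 lc_e_rc_9_1 lc_e_rc_4_3 lc_e_rc_27_1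 lc_e_rc_19_0 lc_e_rc_9_1 lc_e_rc_18_1 lc_e_rc_9_3 lc_e_rc_13_3 lc_e_rc_13_1 lc_e_rc_9_1 lc_e_Cert_tree lc_e_rc_18_1 lc_e_rc_9_3 lc_e_rc_27_7 lc_e_rc_18_1 lc_e_rc_19_2 lc_e_rc_16_1 lc_e_rc_18_1 lc_e_rc_18_1 lc_e_rc_18_1 lc_e_rc_27_1 lc_e_rc_18_1 lc_e_rc_9_1 lc_e_rc_18_1 lc_e_rc_27_5 lc_e_rc_27_5 lc_e_rc_27_5 lc_e_rc_18_1 lc_e_rc_13_3 lc_e_rc_27_5 lc_e_rc_9_1) (@D3.rec (fun _ => (Cert rels S Gen.e)) lc_e_rc_16_1 lc_e_rc_16_1 lc_e_rc_18_1 lc_e_rc_27_7 lc_e_rc_4_3 lc_e_rc_18_1 lc_e_rc_27_5 lc_e_rc_16_5 lc_e_rc_18_1 lc_e_rc_4_3 lc_e_rc_13_1 lc_e_rc_16_3 lc_e_rc_27_5 lc_e_rc_18_1 lc_e_rc_13_1 lc_e_rc_18_1 lc_e_rc_18_1 lc_e_rc_13_1 lc_e_rc_27_5 lc_e_rc_9_3 lc_e_rc_18_1 lc_e_rc_4_3 lc_e_rc_18_1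 lc_e_rc_27_5 lc_e_rc_9_3 lc_e_rc_18_1 lc_e_rc_13_3 lc_e_rc_9_3 lc_e_rc_13_1 lc_e_rc_9_3 lc_e_rc_13_3 lc_e_rc_9_3 lc_e_rc_16_5 lc_e_Cert_tree lc_e_rc_19_2 lc_e_rc_13_3 lc_e_rc_13_1 lc_e_rc_18_1 lc_e_rc_4_3 lc_e_rc_18_1 lc_e_rc_9_3 lc_e_rc_19_0 lc_e_rc_9_3 lc_e_rc_4_3 lc_e_rc_9_3 lc_e_rc_13_3 lc_e_rc_13_3 lc_e_rc_16_5 lc_e_Cert_tree lc_e_rc_19_4 lc_e_rc_18_1 lc_e_rc_18_1 lc_e_rc_19_4 lc_e_rc_9_1 lc_e_rc_16_1 lc_e_rc_18_1 lc_e_rc_19_4 lc_e_rc_13_1 lc_e_rc_13_3 lc_e_rc_13_3 lc_e_Cert_tree lc_e_rc_18_1) (@D3.rec (fun _ => (Cert rels S Gen.e)) lc_e_rc_18_1 lc_e_rc_27_7 lc_e_rc_13_3 lc_e_rc_13_3 lc_e_rc_13_3 lc_e_rc_16_5 lc_e_rc_18_1 lc_e_rc_18_1 lc_e_rc_9_3 lc_e_rc_27_1 lc_e_rc_13_3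 lc_e_rc_13_3 lc_e_rc_9_1 lc_e_rc_13_3 lc_e_rc_27_1 lc_e_rc_13_3 lc_e_rc_18_1 lc_e_rc_18_1 lc_e_rc_27_5 lc_e_rc_19_4 lc_e_rc_9_1 lc_e_rc_13_3 lc_e_rc_18_1 lc_e_rc_18_1 lc_e_rc_18_1 lc_e_rc_18_1 lc_e_rc_4_1 lc_e_rc_27_5 lc_e_rc_4_3 lc_e_rc_18_1 lc_e_rc_16_5 lc_e_rc_9_3 lc_e_rc_13_3 lc_e_rc_18_1 lc_e_rc_27_5 lc_e_rc_16_5 lc_e_rc_18_1 lc_e_rc_9_1 lc_e_rc_18_1 lc_e_rc_16_5 lc_e_rc_9_1 lc_e_rc_19_2 lc_e_rc_18_1 lc_e_rc_18_1 lc_e_rc_9_1 lc_e_rc_18_1 lc_e_rc_16_5 lc_e_rc_18_1 lc_e_rc_13_1 lc_e_Cert_tree lc_e_rc_18_1 lc_e_rc_13_3 lc_e_rc_9_3 lc_e_rc_18_1 lc_e_rc_18_1 lc_e_rc_16_5 lc_e_rc_18_1 lc_e_rc_27_5 lc_e_rc_9_1 lc_e_rc_4_3 lc_e_Cert_tree lc_e_rc_18_1) (@D3.rec (fun _ => (Cert rels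 S Gen.e)) lc_e_rc_19_4 lc_e_rc_9_1 lc_e_rc_4_1 lc_e_rc_18_1 lc_e_rc_27_5 lc_e_rc_18_1 lc_e_rc_9_1 lc_e_rc_18_1 lc_e_rc_18_1 lc_e_rc_18_1 lc_e_rc_27_7 lc_e_rc_18_1 lc_e_rc_27_7 lc_e_rc_16_1 lc_e_rc_4_3 lc_e_rc_27_5 lc_e_rc_19_4 lc_e_rc_16_3 lc_e_rc_16_1 lc_e_rc_27_5 lc_e_rc_16_5 lc_e_rc_27_5 lc_e_rc_16_3 lc_e_rc_13_1 lc_e_rc_18_1 lc_e_rc_9_3 lc_e_rc_19_4 lc_e_rc_18_1 lc_e_rc_18_1 lc_e_rc_18_1 lc_e_rc_18_1 lc_e_rc_18_1 lc_e_rc_27_1 lc_e_rc_18_1 lc_e_rc_27_1 lc_e_rc_27_7 lc_e_rc_18_1 lc_e_rc_18_1 lc_e_rc_27_5 lc_e_rc_18_1 lc_e_rc_4_1 lc_e_rc_16_1 lc_e_rc_27_1 lc_e_rc_9_3 lc_e_rc_16_5 lc_e_rc_19_2 lc_e_rc_13_3 lc_e_rc_27_1 lc_e_rc_13_1 lc_e_rc_16_5 lc_e_Cert_tree lc_e_rc_18_1 lc_e_rc_9_3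 lc_e_rc_27_7 lc_e_rc_18_1 lc_e_rc_9_3 lc_e_rc_19_2 lc_e_rc_16_1 lc_e_rc_9_3 lc_e_rc_16_3 lc_e_rc_27_5 lc_e_rc_27_1) (@D3.rec (fun _ => (Cert rels S Gen.e)) lc_e_rc_18_1 lc_e_rc_16_5 lc_e_rc_19_4 lc_e_rc_18_1 lc_e_rc_18_1 lc_e_rc_27_5 lc_e_rc_16_3 lc_e_rc_18_1 lc_e_rc_18_1 lc_e_rc_18_1 lc_e_rc_13_1 lc_e_rc_9_1 lc_e_rc_18_1 lc_e_rc_18_1 lc_e_rc_18_1 lc_e_rc_9_3 lc_e_rc_18_1 lc_e_rc_16_3 lc_e_rc_18_1 lc_e_rc_18_1 lc_e_rc_16_3 lc_e_rc_18_1 lc_e_rc_18_1 lc_e_rc_18_1 lc_e_rc_27_7 lc_e_rc_19_2 lc_e_rc_13_3 lc_e_rc_18_1 lc_e_rc_19_2 lc_e_rc_18_1 lc_e_rc_18_1 lc_e_rc_19_2 lc_e_rc_13_3 lc_e_rc_13_3 lc_e_rc_16_1 lc_e_rc_9_3 lc_e_rc_18_1 lc_e_rc_18_1 lc_e_rc_18_1 lc_e_rc_13_3 lc_e_rc_18_1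 lc_e_rc_18_1 lc_e_rc_9_3 lc_e_rc_27_7 lc_e_rc_16_5 lc_e_rc_9_1 lc_e_rc_18_1 lc_e_rc_27_7 lc_e_rc_18_1 lc_e_rc_16_1 lc_e_rc_9_3 lc_e_rc_18_1 lc_e_rc_16_3 lc_e_rc_16_5 lc_e_rc_16_1 lc_e_rc_13_1 lc_e_rc_18_1 lc_e_rc_19_2 lc_e_rc_4_1 lc_e_rc_27_5 lc_e_rc_18_1 lc_e_rc_16_3) (@D3.rec (fun _ => (Cert rels S Gen.e)) lc_e_rc_18_1 lc_e_rc_16_3 lc_e_rc_13_3 lc_e_rc_13_3 lc_e_Cert_tree lc_e_rc_18_1 lc_e_rc_16_1 lc_e_rc_18_1 lc_e_rc_18_1 lc_e_rc_13_1 lc_e_rc_18_1 lc_e_rc_13_3 lc_e_rc_19_4 lc_e_rc_9_3 lc_e_rc_4_3 lc_e_rc_18_1 lc_e_rc_19_4 lc_e_rc_16_5 lc_e_rc_4_1 lc_e_rc_4_3 lc_e_rc_9_1 lc_e_rc_4_1 lc_e_rc_16_3 lc_e_rc_18_1 lc_e_rc_19_2 lc_e_rc_13_3 lc_e_rc_18_1 lc_e_rc_18_1 lc_e_rc_18_1 lc_e_rc_4_3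 lc_e_rc_18_1 lc_e_rc_13_3 lc_e_rc_13_3 lc_e_Cert_tree lc_e_rc_18_1 lc_e_rc_13_3 lc_e_rc_18_1 lc_e_rc_13_3 lc_e_rc_18_1 lc_e_rc_27_5 lc_e_rc_9_3 lc_e_rc_27_5 lc_e_rc_13_3 lc_e_rc_9_3 lc_e_rc_27_5 lc_e_rc_16_5 lc_e_rc_27_1 lc_e_rc_19_4 lc_e_rc_13_3 lc_e_rc_13_1 lc_e_rc_9_3 lc_e_rc_13_3 lc_e_rc_18_1 lc_e_rc_9_3 lc_e_rc_18_1 lc_e_rc_16_5 lc_e_rc_27_5 lc_e_rc_16_5 lc_e_rc_18_1 lc_e_rc_16_5 lc_e_Cert_tree lc_e_rc_18_1) (@D3.rec (fun _ => (Cert rels S Gen.e)) lc_e_rc_19_0 lc_e_rc_19_0 lc_e_rc_18_1 lc_e_rc_4_1 lc_e_rc_13_3 lc_e_rc_13_3 lc_e_rc_18_1 lc_e_rc_13_3 lc_e_rc_27_1 lc_e_rc_27_5 lc_e_rc_27_7 lc_e_rc_13_3 lc_e_rc_13_3 lc_e_rc_9_3 lc_e_rc_9_3 lc_e_rc_16_5 lc_e_rc_13_3 lc_e_rc_13_3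 lc_e_rc_16_3 lc_e_rc_27_1 lc_e_rc_13_1 lc_e_rc_18_1 lc_e_rc_18_1 lc_e_rc_9_3 lc_e_rc_13_1 lc_e_rc_13_3 lc_e_rc_16_3 lc_e_rc_4_3 lc_e_rc_13_3 lc_e_rc_13_3 lc_e_rc_19_4 lc_e_rc_16_3 lc_e_rc_18_1 lc_e_rc_18_1 lc_e_rc_19_0 lc_e_rc_9_1 lc_e_rc_18_1 lc_e_rc_27_5 lc_e_rc_13_3 lc_e_rc_9_3 lc_e_rc_13_3 lc_e_Cert_tree lc_e_rc_18_1 lc_e_rc_4_3 lc_e_rc_18_1 lc_e_rc_13_3 lc_e_rc_16_5 lc_e_rc_18_1 lc_e_rc_16_5 lc_e_rc_13_3 lc_e_rc_27_5 lc_e_rc_9_1 lc_e_rc_27_1 lc_e_rc_4_1 lc_e_rc_18_1 lc_e_rc_13_1 lc_e_rc_18_1 lc_e_rc_19_4 lc_e_rc_18_1 lc_e_rc_19_4 lc_e_rc_27_5 lc_e_rc_16_3) (@D3.rec (fun _ => (Cert rels S Gen.e)) lc_e_rc_18_1 lc_e_rc_27_1 lc_e_rc_27_1 lc_e_rc_27_1 lc_e_rc_9_3 lc_e_rc_19_4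 lc_e_rc_9_3 lc_e_Cert_tree lc_e_rc_13_1 lc_e_rc_4_3 lc_e_Cert_tree lc_e_rc_13_3 lc_e_rc_27_1 lc_e_rc_13_3 lc_e_rc_18_1 lc_e_Cert_tree lc_e_rc_19_4 lc_e_rc_18_1 lc_e_rc_16_5 lc_e_rc_16_5 lc_e_rc_19_0 lc_e_rc_19_2 lc_e_rc_16_3 lc_e_rc_18_1 lc_e_rc_27_5 lc_e_rc_19_0 lc_e_rc_13_3 lc_e_rc_19_2 lc_e_rc_4_3 lc_e_rc_18_1 lc_e_rc_13_3 lc_e_rc_19_4 lc_e_rc_13_3 lc_e_rc_9_3 lc_e_rc_18_1 lc_e_rc_13_3 lc_e_rc_27_7 lc_e_rc_9_3 lc_e_rc_16_5 lc_e_rc_27_1 lc_e_rc_9_1 lc_e_rc_18_1 lc_e_Cert_tree lc_e_rc_27_5 lc_e_rc_18_1 lc_e_rc_27_5 lc_e_rc_13_1 lc_e_rc_9_1 lc_e_rc_27_1 lc_e_rc_27_5 lc_e_rc_19_2 lc_e_rc_19_4 lc_e_rc_27_5 lc_e_rc_13_3 lc_e_rc_18_1 lc_e_rc_16_1 lc_e_rc_13_3 lc_e_rc_13_3 lc_e_rc_13_3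 lc_e_rc_27_5 lc_e_rc_13_1 lc_e_rc_18_1) (@D3.rec (fun _ => (Cert rels S Gen.e)) lc_e_rc_13_3 lc_e_rc_19_4 lc_e_rc_27_5 lc_e_rc_13_3 lc_e_rc_19_2 lc_e_rc_4_3 lc_e_rc_16_1 lc_e_rc_16_3 lc_e_rc_13_1 lc_e_rc_27_5 lc_e_rc_16_5 lc_e_rc_27_7 lc_e_rc_9_3 lc_e_rc_13_3 lc_e_rc_19_2 lc_e_rc_13_3 lc_e_rc_16_5 lc_e_rc_9_3 lc_e_rc_9_1 lc_e_rc_13_3 lc_e_rc_16_3 lc_e_rc_9_1 lc_e_rc_19_0 lc_e_rc_13_3 lc_e_rc_18_1 lc_e_rc_13_1 lc_e_rc_18_1 lc_e_rc_19_4 lc_e_rc_18_1 lc_e_rc_19_2 lc_e_rc_18_1 lc_e_rc_4_3 lc_e_rc_18_1 lc_e_Cert_tree lc_e_rc_18_1 lc_e_rc_18_1 lc_e_rc_16_5 lc_e_rc_27_1 lc_e_rc_19_4 lc_e_rc_13_3 lc_e_rc_18_1 lc_e_rc_13_1 lc_e_rc_4_1 lc_e_rc_18_1 lc_e_rc_27_5 lc_e_rc_16_3 lc_e_rc_9_1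 lc_e_rc_18_1 lc_e_rc_18_1 lc_e_rc_9_3 lc_e_rc_13_3 lc_e_rc_18_1 lc_e_rc_4_3 lc_e_rc_13_3 lc_e_rc_18_1 lc_e_rc_27_5 lc_e_rc_27_1 lc_e_rc_16_5 lc_e_rc_9_3 lc_e_rc_18_1 lc_e_rc_13_3 lc_e_rc_16_5)
def ce_e_30 : D2 → D3 → (Cert rels S Gen.e) := @D2.rec (fun _ => D3 → (Cert rels S Gen.e)) (@D3.rec (fun _ => (Cert rels S Gen.e)) lc_e_rc_18_1 lc_e_rc_13_3 lc_e_rc_13_3 lc_e_rc_13_3 lc_e_rc_13_3 lc_e_rc_27_5 lc_e_rc_16_1 lc_e_rc_13_3 lc_e_rc_16_5 lc_e_rc_9_3 lc_e_rc_27_7 lc_e_rc_18_1 lc_e_rc_27_1 lc_e_rc_13_3 lc_e_rc_4_1 lc_e_rc_13_1 lc_e_rc_18_1 lc_e_rc_27_1 lc_e_rc_13_3 lc_e_rc_13_3 lc_e_rc_16_1 lc_e_rc_13_1 lc_e_rc_18_1 lc_e_rc_18_1 lc_e_rc_19_4 lc_e_rc_16_1 lc_e_Cert_tree lc_e_rc_18_1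 lc_e_rc_16_1 lc_e_rc_9_3 lc_e_rc_27_7 lc_e_rc_13_3 lc_e_rc_18_1 lc_e_rc_27_5 lc_e_rc_9_1 lc_e_rc_27_1 lc_e_rc_16_1 lc_e_rc_13_3 lc_e_Cert_tree lc_e_rc_18_1 lc_e_rc_16_3 lc_e_rc_18_1 lc_e_rc_27_5 lc_e_rc_13_3 lc_e_rc_16_3 lc_e_rc_18_1 lc_e_rc_13_3 lc_e_rc_13_3 lc_e_rc_16_1 lc_e_rc_19_2 lc_e_rc_27_5 lc_e_rc_18_1 lc_e_rc_27_7 lc_e_rc_19_4 lc_e_Cert_tree lc_e_Cert_tree lc_e_rc_18_1 lc_e_rc_13_3 lc_e_rc_13_1 lc_e_rc_4_3 lc_e_rc_27_1 lc_e_rc_13_3) (@D3.rec (fun _ => (Cert rels S Gen.e)) lc_e_rc_18_1 lc_e_rc_19_2 lc_e_rc_13_1 lc_e_rc_16_5 lc_e_rc_27_7 lc_e_rc_18_1 lc_e_rc_19_4 lc_e_rc_9_3 lc_e_rc_13_3 lc_e_rc_13_3 lc_e_rc_4_3 lc_e_rc_4_3 lc_e_rc_18_1 lc_e_rc_9_3 lc_e_rc_18_1 lc_e_rc_13_3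 lc_e_rc_13_1 lc_e_rc_16_5 lc_e_rc_18_1 lc_e_rc_13_3 lc_e_rc_13_3 lc_e_rc_27_5 lc_e_rc_18_1 lc_e_rc_16_5 lc_e_rc_4_3 lc_e_rc_9_3 lc_e_rc_13_3 lc_e_rc_27_5 lc_e_rc_27_5 lc_e_rc_13_3 lc_e_rc_9_3 lc_e_rc_13_1 lc_e_rc_18_1 lc_e_rc_13_3 lc_e_rc_16_3 lc_e_rc_19_0 lc_e_rc_18_1 lc_e_rc_9_3 lc_e_rc_9_3 lc_e_rc_9_3 lc_e_Cert_tree lc_e_rc_18_1 lc_e_rc_13_3 lc_e_rc_16_1 lc_e_rc_16_5 lc_e_rc_18_1 lc_e_rc_16_1 lc_e_rc_18_1 lc_e_rc_16_1 lc_e_rc_18_1 lc_e_rc_4_3 lc_e_rc_18_1 lc_e_rc_9_3 lc_e_rc_4_1 lc_e_rc_13_3 lc_e_rc_19_2 lc_e_rc_13_3 lc_e_rc_9_3 lc_e_rc_18_1 lc_e_rc_27_5 lc_e_rc_13_3 lc_e_rc_13_3) (@D3.rec (fun _ => (Cert rels S Gen.e)) lc_e_rc_16_1 lc_e_rc_9_1 lc_e_rc_9_3 lc_e_rc_9_1 lc_e_rc_16_3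 lc_e_rc_18_1 lc_e_rc_4_3 lc_e_rc_13_3 lc_e_rc_27_7 lc_e_rc_13_1 lc_e_rc_18_1 lc_e_rc_19_0 lc_e_Cert_tree lc_e_rc_18_1 lc_e_rc_4_3 lc_e_rc_13_1 lc_e_rc_18_1 lc_e_rc_4_3 lc_e_rc_19_0 lc_e_rc_16_3 lc_e_rc_16_5 lc_e_rc_18_1 lc_e_rc_9_1 lc_e_rc_27_1 lc_e_rc_16_3 lc_e_rc_16_5 lc_e_rc_18_1 lc_e_rc_16_5 lc_e_rc_18_1 lc_e_rc_18_1 lc_e_rc_18_1 lc_e_rc_19_0 lc_e_rc_4_3 lc_e_rc_16_5 lc_e_rc_18_1 lc_e_rc_18_1 lc_e_rc_9_1 lc_e_rc_9_3 lc_e_rc_16_5 lc_e_rc_13_3 lc_e_rc_16_1 lc_e_rc_9_1 lc_e_rc_16_1 lc_e_rc_18_1 lc_e_rc_9_1 lc_e_rc_27_5 lc_e_rc_9_3 lc_e_rc_27_5 lc_e_rc_13_3 lc_e_rc_27_5 lc_e_rc_13_3 lc_e_rc_27_7 lc_e_rc_18_1 lc_e_rc_27_7 lc_e_rc_13_3 lc_e_rc_13_3 lc_e_rc_16_5 lc_e_rc_9_3 lc_e_rc_19_2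 lc_e_rc_16_5 lc_e_rc_18_1 lc_e_rc_16_1) (@D3.rec (fun _ => (Cert rels S Gen.e)) lc_e_rc_16_3 lc_e_rc_18_1 lc_e_rc_13_3 lc_e_rc_27_5 lc_e_rc_18_1 lc_e_rc_13_3 lc_e_rc_19_2 lc_e_rc_9_3 lc_e_rc_9_3 lc_e_rc_9_3 lc_e_rc_16_5 lc_e_rc_13_1 lc_e_rc_16_3 lc_e_rc_19_4 lc_e_rc_16_5 lc_e_rc_19_4 lc_e_rc_27_5 lc_e_rc_19_4 lc_e_rc_13_1 lc_e_rc_18_1 lc_e_rc_9_1 lc_e_rc_16_1 lc_e_rc_16_3 lc_e_rc_19_4 lc_e_rc_27_5 lc_e_rc_13_3 lc_e_rc_16_5 lc_e_rc_9_3 lc_e_rc_13_3 lc_e_rc_27_1 lc_e_rc_18_1 lc_e_rc_27_1 lc_e_rc_9_3 lc_e_rc_27_5 lc_e_Cert_tree lc_e_rc_9_3 lc_e_rc_27_7 lc_e_rc_18_1 lc_e_rc_18_1 lc_e_rc_16_5 lc_e_rc_13_3 lc_e_rc_27_1 lc_e_rc_9_3 lc_e_rc_18_1 lc_e_rc_13_3 lc_e_rc_18_1 lc_e_rc_4_3 lc_e_rc_16_5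 lc_e_Cert_tree lc_e_rc_18_1 lc_e_rc_9_3 lc_e_rc_9_3 lc_e_rc_13_1 lc_e_rc_19_4 lc_e_rc_16_5 lc_e_rc_9_3 lc_e_rc_18_1 lc_e_rc_13_3 lc_e_rc_27_5 lc_e_rc_19_0 lc_e_rc_27_1 lc_e_rc_16_3) (@D3.rec (fun _ => (Cert rels S Gen.e)) lc_e_rc_27_5 lc_e_rc_4_3 lc_e_rc_9_3 lc_e_rc_9_3 lc_e_rc_27_7 lc_e_Cert_tree lc_e_rc_18_1 lc_e_rc_13_1 lc_e_rc_18_1 lc_e_rc_13_3 lc_e_rc_13_3 lc_e_rc_18_1 lc_e_rc_19_0 lc_e_rc_4_3 lc_e_rc_18_1 lc_e_rc_16_5 lc_e_rc_18_1 lc_e_rc_18_1 lc_e_rc_18_1 lc_e_rc_9_3 lc_e_rc_9_1 lc_e_rc_18_1 lc_e_rc_18_1 lc_e_rc_19_0 lc_e_rc_13_3 lc_e_rc_4_3 lc_e_rc_18_1 lc_e_rc_9_3 lc_e_rc_9_3 lc_e_rc_27_5 lc_e_rc_18_1 lc_e_rc_18_1 lc_e_rc_16_1 lc_e_rc_27_7 lc_e_rc_19_4 lc_e_Cert_tree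 lc_e_rc_13_3 lc_e_rc_27_5 lc_e_rc_9_3 lc_e_rc_16_5 lc_e_rc_16_5 lc_e_rc_16_5 lc_e_rc_9_3 lc_e_rc_13_1 lc_e_rc_27_5 lc_e_rc_18_1 lc_e_rc_27_1 lc_e_rc_18_1 lc_e_rc_27_1 lc_e_rc_27_1 lc_e_rc_13_3 lc_e_Cert_tree lc_e_rc_27_1 lc_e_rc_18_1 lc_e_rc_13_3 lc_e_rc_9_3 lc_e_rc_18_1 lc_e_rc_27_7 lc_e_rc_18_1 lc_e_rc_9_3 lc_e_rc_13_3 lc_e_rc_4_3) (@D3.rec (fun _ => (Cert rels S Gen.e)) lc_e_rc_27_5 lc_e_rc_13_3 lc_e_rc_27_7 lc_e_Cert_tree lc_e_rc_9_1 lc_e_rc_18_1 lc_e_rc_27_5 lc_e_rc_27_1 lc_e_rc_18_1 lc_e_rc_18_1 lc_e_rc_18_1 lc_e_rc_18_1 lc_e_rc_18_1 lc_e_rc_18_1 lc_e_rc_13_3 lc_e_rc_9_3 lc_e_rc_4_1 lc_e_rc_13_3 lc_e_rc_16_1 lc_e_rc_19_2 lc_e_rc_19_4 lc_e_rc_13_3 lc_e_rc_18_1 lc_e_rc_18_1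 lc_e_rc_16_5 lc_e_rc_27_5 lc_e_rc_13_3 lc_e_rc_13_3 lc_e_rc_18_1 lc_e_rc_9_3 lc_e_rc_16_5 lc_e_rc_18_1 lc_e_rc_9_1 lc_e_rc_18_1 lc_e_rc_16_3 lc_e_rc_9_1 lc_e_rc_13_3 lc_e_rc_27_1 lc_e_rc_18_1 lc_e_rc_18_1 lc_e_rc_19_4 lc_e_Cert_tree lc_e_rc_18_1 lc_e_rc_18_1 lc_e_rc_18_1 lc_e_rc_18_1 lc_e_rc_9_1 lc_e_rc_18_1 lc_e_rc_13_3 lc_e_Cert_tree lc_e_rc_9_1 lc_e_rc_18_1 lc_e_rc_27_5 lc_e_rc_16_3 lc_e_rc_9_3 lc_e_rc_13_3 lc_e_rc_13_3 lc_e_rc_19_4 lc_e_rc_18_1 lc_e_rc_18_1 lc_e_rc_18_1 lc_e_rc_9_1) (@D3.rec (fun _ => (Cert rels S Gen.e)) lc_e_rc_4_3 lc_e_rc_18_1 lc_e_rc_18_1 lc_e_rc_18_1 lc_e_rc_9_1 lc_e_rc_9_1 lc_e_rc_19_4 lc_e_rc_18_1 lc_e_rc_4_3 lc_e_rc_13_3 lc_e_rc_19_0 lc_e_rc_9_3 lc_e_rc_27_1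 lc_e_rc_4_1 lc_e_rc_18_1 lc_e_rc_19_2 lc_e_rc_9_3 lc_e_rc_18_1 lc_e_rc_27_5 lc_e_rc_9_3 lc_e_rc_9_3 lc_e_rc_9_3 lc_e_rc_13_1 lc_e_rc_16_5 lc_e_rc_27_1 lc_e_rc_27_7 lc_e_rc_9_3 lc_e_rc_4_1 lc_e_rc_13_1 lc_e_rc_18_1 lc_e_rc_4_3 lc_e_rc_16_5 lc_e_rc_4_3 lc_e_rc_4_3 lc_e_rc_9_3 lc_e_rc_27_5 lc_e_rc_16_5 lc_e_rc_13_3 lc_e_rc_18_1 lc_e_rc_27_1 lc_e_rc_19_2 lc_e_rc_13_3 lc_e_rc_18_1 lc_e_rc_19_2 lc_e_rc_16_5 lc_e_rc_4_3 lc_e_rc_13_3 lc_e_rc_19_2 lc_e_rc_16_1 lc_e_rc_13_1 lc_e_rc_18_1 lc_e_rc_19_2 lc_e_rc_18_1 lc_e_rc_16_3 lc_e_rc_13_3 lc_e_rc_18_1 lc_e_rc_27_7 lc_e_rc_27_5 lc_e_rc_16_5 lc_e_rc_18_1 lc_e_rc_18_1 lc_e_rc_18_1) (@D3.rec (fun _ => (Cert rels S Gen.e)) lc_e_rc_16_5 lc_e_Cert_tree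 lc_e_rc_18_1 lc_e_rc_27_5 lc_e_rc_13_1 lc_e_rc_16_5 lc_e_rc_9_1 lc_e_rc_13_1 lc_e_rc_9_3 lc_e_rc_18_1 lc_e_rc_18_1 lc_e_rc_27_5 lc_e_rc_18_1 lc_e_rc_27_5 lc_e_rc_13_3 lc_e_rc_27_5 lc_e_rc_4_3 lc_e_rc_13_1 lc_e_rc_27_1 lc_e_rc_18_1 lc_e_rc_9_3 lc_e_rc_18_1 lc_e_rc_27_5 lc_e_rc_13_1 lc_e_rc_18_1 lc_e_rc_19_4 lc_e_rc_18_1 lc_e_rc_16_3 lc_e_rc_16_3 lc_e_rc_19_0 lc_e_Cert_tree lc_e_rc_18_1 lc_e_rc_18_1 lc_e_rc_27_5 lc_e_rc_16_3 lc_e_Cert_tree lc_e_rc_27_1 lc_e_rc_9_3 lc_e_rc_16_3 lc_e_rc_27_5 lc_e_rc_13_3 lc_e_rc_18_1 lc_e_rc_18_1 lc_e_rc_4_1 lc_e_rc_16_1 lc_e_rc_9_3 lc_e_rc_13_3 lc_e_rc_9_1 lc_e_rc_4_3 lc_e_rc_13_1 lc_e_rc_4_3 lc_e_rc_27_7 lc_e_rc_13_3 lc_e_rc_9_1 lc_e_rc_18_1 lc_e_rc_13_3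 lc_e_rc_27_1 lc_e_rc_18_1 lc_e_rc_18_1 lc_e_rc_18_1 lc_e_rc_18_1 lc_e_rc_18_1) (@D3.rec (fun _ => (Cert rels S Gen.e)) lc_e_rc_19_2 lc_e_rc_16_5 lc_e_rc_13_1 lc_e_Cert_tree lc_e_rc_9_3 lc_e_rc_4_1 lc_e_rc_9_3 lc_e_rc_19_4 lc_e_rc_4_3 lc_e_rc_18_1 lc_e_rc_13_3 lc_e_rc_13_1 lc_e_Cert_tree lc_e_rc_27_5 lc_e_rc_9_3 lc_e_rc_13_1 lc_e_rc_18_1 lc_e_rc_18_1 lc_e_rc_18_1 lc_e_rc_13_1 lc_e_rc_13_3 lc_e_rc_4_3 lc_e_rc_18_1 lc_e_rc_4_1 lc_e_rc_9_1 lc_e_rc_27_5 lc_e_rc_27_5 lc_e_rc_18_1 lc_e_rc_18_1 lc_e_rc_27_7 lc_e_rc_13_3 lc_e_rc_27_7 lc_e_rc_27_5 lc_e_rc_27_5 lc_e_rc_9_3 lc_e_rc_4_3 lc_e_rc_9_3 lc_e_rc_9_1 lc_e_rc_13_1 lc_e_rc_18_1 lc_e_rc_18_1 lc_e_rc_13_3 lc_e_rc_9_1 lc_e_rc_18_1 lc_e_rc_4_3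 lc_e_rc_9_3 lc_e_rc_19_0 lc_e_rc_18_1 lc_e_rc_16_3 lc_e_rc_18_1 lc_e_rc_13_3 lc_e_rc_16_5 lc_e_rc_16_5 lc_e_rc_16_5 lc_e_rc_27_5 lc_e_rc_27_5 lc_e_rc_18_1 lc_e_rc_13_3 lc_e_rc_27_1 lc_e_rc_18_1 lc_e_rc_18_1 lc_e_rc_27_1) (@D3.rec (fun _ => (Cert rels S Gen.e)) lc_e_rc_18_1 lc_e_rc_9_3 lc_e_rc_18_1 lc_e_rc_9_1 lc_e_rc_18_1 lc_e_rc_18_1 lc_e_rc_19_0 lc_e_rc_13_1 lc_e_rc_13_3 lc_e_rc_9_3 lc_e_rc_27_5 lc_e_rc_16_5 lc_e_rc_16_1 lc_e_rc_27_5 lc_e_rc_9_1 lc_e_rc_27_1 lc_e_rc_18_1 lc_e_rc_16_1 lc_e_rc_27_1 lc_e_rc_18_1 lc_e_rc_13_3 lc_e_rc_18_1 lc_e_rc_19_4 lc_e_rc_4_3 lc_e_rc_4_3 lc_e_rc_13_3 lc_e_rc_13_3 lc_e_rc_19_0 lc_e_rc_19_0 lc_e_rc_13_3 lc_e_rc_27_7 lc_e_rc_4_1 lc_e_rc_27_1 lc_e_rc_18_1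 lc_e_rc_13_3 lc_e_rc_16_3 lc_e_rc_18_1 lc_e_rc_9_3 lc_e_rc_13_1 lc_e_rc_4_3 lc_e_rc_4_3 lc_e_rc_16_3 lc_e_rc_18_1 lc_e_rc_27_1 lc_e_rc_13_3 lc_e_rc_9_3 lc_e_rc_19_0 lc_e_rc_9_1 lc_e_rc_18_1 lc_e_rc_19_2 lc_e_rc_13_3 lc_e_rc_13_3 lc_e_rc_9_3 lc_e_rc_13_3 lc_e_rc_4_3 lc_e_rc_18_1 lc_e_rc_18_1 lc_e_rc_13_3 lc_e_rc_9_3 lc_e_rc_4_3 lc_e_rc_16_3 lc_e_Cert_tree) (@D3.rec (fun _ => (Cert rels S Gen.e)) lc_e_rc_27_5 lc_e_rc_18_1 lc_e_rc_4_3 lc_e_rc_18_1 lc_e_rc_18_1 lc_e_rc_16_5 lc_e_rc_4_3 lc_e_rc_16_1 lc_e_rc_13_3 lc_e_rc_18_1 lc_e_rc_16_5 lc_e_rc_9_3 lc_e_rc_4_3 lc_e_rc_13_3 lc_e_rc_9_3 lc_e_rc_27_5 lc_e_rc_18_1 lc_e_rc_18_1 lc_e_rc_19_0 lc_e_rc_18_1 lc_e_rc_18_1 lc_e_rc_18_1 lc_e_rc_9_3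 lc_e_rc_27_1 lc_e_rc_18_1 lc_e_rc_9_3 lc_e_rc_13_1 lc_e_rc_18_1 lc_e_rc_4_3 lc_e_rc_27_7 lc_e_rc_18_1 lc_e_rc_18_1 lc_e_rc_13_1 lc_e_rc_16_5 lc_e_rc_27_1 lc_e_rc_4_1 lc_e_rc_18_1 lc_e_rc_27_1 lc_e_rc_16_1 lc_e_rc_18_1 lc_e_rc_13_1 lc_e_rc_27_5 lc_e_rc_18_1 lc_e_rc_9_3 lc_e_rc_9_1 lc_e_rc_18_1 lc_e_rc_4_3 lc_e_rc_18_1 lc_e_rc_18_1 lc_e_rc_27_1 lc_e_rc_27_1 lc_e_rc_19_2 lc_e_rc_4_3 lc_e_rc_19_4 lc_e_rc_27_5 lc_e_rc_18_1 lc_e_rc_18_1 lc_e_rc_18_1 lc_e_rc_18_1 lc_e_rc_27_5 lc_e_rc_9_3 lc_e_rc_16_3) (@D3.rec (fun _ => (Cert rels S Gen.e)) lc_e_rc_4_1 lc_e_rc_27_7 lc_e_rc_9_3 lc_e_rc_16_3 lc_e_rc_13_1 lc_e_rc_13_3 lc_e_rc_16_5 lc_e_rc_27_5 lc_e_rc_9_3 lc_e_rc_4_3 lc_e_rc_9_3 lc_e_rc_18_1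 lc_e_rc_16_1 lc_e_rc_19_2 lc_e_rc_18_1 lc_e_rc_27_7 lc_e_rc_16_5 lc_e_rc_13_3 lc_e_rc_27_5 lc_e_rc_9_3 lc_e_rc_16_5 lc_e_rc_18_1 lc_e_rc_9_3 lc_e_rc_27_1 lc_e_rc_13_3 lc_e_rc_27_1 lc_e_rc_27_1 lc_e_rc_18_1 lc_e_rc_9_3 lc_e_rc_27_5 lc_e_rc_18_1 lc_e_rc_18_1 lc_e_rc_9_1 lc_e_rc_27_1 lc_e_rc_18_1 lc_e_rc_19_0 lc_e_rc_9_3 lc_e_rc_18_1 lc_e_rc_9_3 lc_e_rc_13_3 lc_e_rc_16_1 lc_e_rc_18_1 lc_e_rc_13_3 lc_e_rc_9_3 lc_e_rc_18_1 lc_e_rc_19_2 lc_e_rc_18_1 lc_e_rc_18_1 lc_e_rc_19_2 lc_e_rc_4_1 lc_e_rc_18_1 lc_e_rc_16_1 lc_e_rc_18_1 lc_e_rc_19_4 lc_e_rc_19_4 lc_e_rc_18_1 lc_e_rc_18_1 lc_e_rc_18_1 lc_e_rc_9_3 lc_e_rc_27_5 lc_e_rc_18_1 lc_e_rc_18_1) (@D3.rec (fun _ => (Cert rels S Gen.e)) lc_e_rc_18_1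 lc_e_rc_19_2 lc_e_rc_4_1 lc_e_rc_18_1 lc_e_rc_19_2 lc_e_rc_18_1 lc_e_rc_18_1 lc_e_rc_13_3 lc_e_rc_9_3 lc_e_rc_18_1 lc_e_rc_13_3 lc_e_rc_16_1 lc_e_rc_18_1 lc_e_rc_16_3 lc_e_rc_27_1 lc_e_rc_13_3 lc_e_rc_18_1 lc_e_rc_13_3 lc_e_rc_16_5 lc_e_rc_13_3 lc_e_rc_13_3 lc_e_rc_9_3 lc_e_rc_4_3 lc_e_rc_16_3 lc_e_rc_18_1 lc_e_rc_18_1 lc_e_rc_18_1 lc_e_rc_27_5 lc_e_rc_19_2 lc_e_rc_16_5 lc_e_rc_27_1 lc_e_rc_27_7 lc_e_rc_13_3 lc_e_rc_18_1 lc_e_rc_16_3 lc_e_rc_19_2 lc_e_rc_27_5 lc_e_rc_18_1 lc_e_rc_27_7 lc_e_rc_9_3 lc_e_rc_27_5 lc_e_rc_19_0 lc_e_rc_18_1 lc_e_rc_27_7 lc_e_rc_18_1 lc_e_rc_13_3 lc_e_rc_13_3 lc_e_rc_13_3 lc_e_rc_13_3 lc_e_rc_4_1 lc_e_rc_13_3 lc_e_rc_13_3 lc_e_rc_9_3 lc_e_rc_9_3 lc_e_rc_4_3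 lc_e_rc_9_3 lc_e_rc_9_3 lc_e_rc_13_3 lc_e_rc_18_1 lc_e_rc_27_5 lc_e_rc_18_1 lc_e_rc_27_5) (@D3.rec (fun _ => (Cert rels S Gen.e)) lc_e_rc_13_3 lc_e_rc_13_3 lc_e_rc_27_7 lc_e_rc_18_1 lc_e_rc_9_1 lc_e_rc_18_1 lc_e_rc_13_3 lc_e_rc_18_1 lc_e_rc_27_5 lc_e_rc_18_1 lc_e_rc_18_1 lc_e_rc_9_3 lc_e_rc_9_3 lc_e_rc_18_1 lc_e_rc_13_1 lc_e_rc_13_1 lc_e_rc_18_1 lc_e_rc_27_5 lc_e_rc_9_3 lc_e_rc_16_3 lc_e_rc_18_1 lc_e_rc_18_1 lc_e_rc_19_2 lc_e_rc_13_3 lc_e_rc_13_3 lc_e_rc_13_3 lc_e_rc_19_2 lc_e_rc_13_3 lc_e_rc_18_1 lc_e_rc_18_1 lc_e_rc_18_1 lc_e_rc_9_3 lc_e_rc_27_1 lc_e_rc_18_1 lc_e_rc_9_3 lc_e_rc_18_1 lc_e_rc_18_1 lc_e_rc_16_1 lc_e_rc_27_7 lc_e_rc_18_1 lc_e_rc_18_1 lc_e_rc_27_5 lc_e_rc_27_5 lc_e_rc_18_1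 lc_e_rc_18_1 lc_e_rc_13_3 lc_e_rc_18_1 lc_e_rc_9_3 lc_e_rc_13_3 lc_e_rc_16_3 lc_e_rc_18_1 lc_e_rc_16_3 lc_e_rc_19_2 lc_e_rc_16_3 lc_e_rc_18_1 lc_e_rc_16_1 lc_e_rc_18_1 lc_e_rc_16_3 lc_e_rc_9_3 lc_e_rc_19_4 lc_e_rc_18_1 lc_e_rc_16_3) (@D3.rec (fun _ => (Cert rels S Gen.e)) lc_e_rc_27_5 lc_e_rc_18_1 lc_e_rc_9_1 lc_e_rc_16_3 lc_e_rc_19_2 lc_e_rc_19_4 lc_e_rc_18_1 lc_e_rc_9_3 lc_e_rc_27_5 lc_e_rc_4_3 lc_e_rc_27_5 lc_e_rc_13_3 lc_e_rc_16_5 lc_e_rc_9_3 lc_e_rc_16_5 lc_e_rc_13_1 lc_e_rc_19_0 lc_e_rc_18_1 lc_e_rc_4_3 lc_e_rc_27_7 lc_e_rc_4_3 lc_e_rc_13_3 lc_e_rc_18_1 lc_e_rc_27_5 lc_e_rc_18_1 lc_e_rc_13_3 lc_e_rc_18_1 lc_e_rc_27_1 lc_e_rc_18_1 lc_e_rc_18_1 lc_e_rc_16_1 lc_e_rc_13_3 lc_e_rc_19_0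 lc_e_rc_18_1 lc_e_rc_27_5 lc_e_rc_9_3 lc_e_rc_16_1 lc_e_rc_27_1 lc_e_rc_4_3 lc_e_rc_18_1 lc_e_rc_19_0 lc_e_rc_4_3 lc_e_rc_27_1 lc_e_rc_4_3 lc_e_rc_13_3 lc_e_rc_27_5 lc_e_rc_18_1 lc_e_rc_13_3 lc_e_rc_18_1 lc_e_rc_18_1 lc_e_rc_18_1 lc_e_rc_13_3 lc_e_rc_13_3 lc_e_rc_18_1 lc_e_rc_18_1 lc_e_rc_27_5 lc_e_rc_16_1 lc_e_rc_18_1 lc_e_rc_16_5 lc_e_rc_27_1 lc_e_rc_4_3 lc_e_rc_13_3) (@D3.rec (fun _ => (Cert rels S Gen.e)) lc_e_rc_19_2 lc_e_rc_18_1 lc_e_rc_9_3 lc_e_rc_27_1 lc_e_rc_9_3 lc_e_rc_27_7 lc_e_rc_9_3 lc_e_rc_18_1 lc_e_rc_18_1 lc_e_rc_18_1 lc_e_rc_18_1 lc_e_rc_13_3 lc_e_rc_18_1 lc_e_rc_16_5 lc_e_rc_9_3 lc_e_rc_18_1 lc_e_rc_27_5 lc_e_rc_27_1 lc_e_rc_19_2 lc_e_rc_16_1 lc_e_rc_16_5 lc_e_rc_19_4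 lc_e_rc_9_1 lc_e_rc_9_3 lc_e_rc_16_1 lc_e_rc_13_1 lc_e_rc_16_3 lc_e_rc_18_1 lc_e_rc_13_3 lc_e_rc_18_1 lc_e_rc_9_3 lc_e_rc_27_5 lc_e_rc_18_1 lc_e_rc_18_1 lc_e_rc_16_3 lc_e_rc_18_1 lc_e_rc_18_1 lc_e_rc_13_3 lc_e_rc_18_1 lc_e_rc_13_3 lc_e_rc_18_1 lc_e_rc_4_3 lc_e_rc_13_3 lc_e_rc_4_3 lc_e_rc_19_4 lc_e_rc_13_3 lc_e_rc_9_3 lc_e_rc_13_3 lc_e_rc_4_3 lc_e_rc_18_1 lc_e_rc_9_3 lc_e_rc_4_3 lc_e_rc_27_5 lc_e_rc_16_5 lc_e_rc_13_3 lc_e_rc_16_5 lc_e_rc_13_3 lc_e_rc_18_1 lc_e_rc_13_3 lc_e_rc_19_2 lc_e_rc_13_3 lc_e_rc_16_5) (@D3.rec (fun _ => (Cert rels S Gen.e)) lc_e_rc_9_3 lc_e_rc_13_3 lc_e_rc_19_0 lc_e_rc_18_1 lc_e_rc_27_7 lc_e_rc_13_3 lc_e_rc_4_1 lc_e_rc_4_3 lc_e_rc_18_1 lc_e_rc_27_1 lc_e_rc_19_2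 lc_e_Cert_tree lc_e_rc_4_3 lc_e_rc_9_1 lc_e_rc_13_3 lc_e_rc_13_3 lc_e_rc_13_3 lc_e_rc_18_1 lc_e_rc_16_1 lc_e_rc_9_1 lc_e_rc_27_5 lc_e_rc_18_1 lc_e_rc_9_1 lc_e_rc_13_1 lc_e_rc_18_1 lc_e_rc_13_1 lc_e_rc_13_3 lc_e_rc_18_1 lc_e_rc_9_3 lc_e_rc_19_4 lc_e_rc_13_3 lc_e_rc_9_3 lc_e_rc_13_3 lc_e_rc_27_7 lc_e_rc_13_1 lc_e_rc_27_5 lc_e_rc_9_3 lc_e_rc_16_1 lc_e_rc_16_1 lc_e_rc_18_1 lc_e_rc_16_5 lc_e_rc_13_3 lc_e_rc_16_3 lc_e_rc_9_3 lc_e_rc_13_3 lc_e_rc_13_3 lc_e_rc_16_5 lc_e_rc_13_3 lc_e_rc_27_5 lc_e_rc_13_1 lc_e_rc_18_1 lc_e_rc_13_3 lc_e_rc_9_3 lc_e_rc_16_5 lc_e_rc_9_3 lc_e_rc_13_3 lc_e_rc_4_1 lc_e_rc_4_3 lc_e_rc_13_3 lc_e_rc_13_3 lc_e_rc_9_3 lc_e_rc_9_3) (@D3.rec (fun _ => (Cert rels S Gen.e))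 lc_e_rc_16_1 lc_e_rc_9_3 lc_e_rc_9_3 lc_e_rc_18_1 lc_e_rc_13_3 lc_e_rc_27_5 lc_e_rc_27_1 lc_e_rc_9_3 lc_e_rc_27_1 lc_e_rc_9_1 lc_e_rc_27_1 lc_e_rc_9_3 lc_e_rc_27_7 lc_e_rc_27_5 lc_e_rc_18_1 lc_e_rc_18_1 lc_e_rc_16_1 lc_e_rc_18_1 lc_e_rc_16_3 lc_e_rc_27_5 lc_e_rc_18_1 lc_e_rc_27_5 lc_e_rc_18_1 lc_e_rc_18_1 lc_e_rc_13_3 lc_e_rc_13_3 lc_e_rc_13_1 lc_e_rc_18_1 lc_e_rc_13_1 lc_e_rc_19_2 lc_e_rc_9_1 lc_e_Cert_tree lc_e_rc_9_3 lc_e_rc_18_1 lc_e_rc_19_0 lc_e_rc_27_1 lc_e_rc_9_3 lc_e_rc_18_1 lc_e_rc_18_1 lc_e_rc_18_1 lc_e_rc_18_1 lc_e_rc_9_3 lc_e_rc_9_3 lc_e_rc_18_1 lc_e_rc_13_1 lc_e_rc_18_1 lc_e_rc_18_1 lc_e_rc_19_2 lc_e_rc_27_7 lc_e_rc_27_5 lc_e_rc_13_3 lc_e_rc_19_0 lc_e_rc_18_1 lc_e_rc_13_1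 lc_e_rc_27_1 lc_e_rc_13_3 lc_e_rc_18_1 lc_e_rc_16_3 lc_e_rc_16_3 lc_e_rc_4_3 lc_e_rc_18_1 lc_e_rc_27_5) (@D3.rec (fun _ => (Cert rels S Gen.e)) lc_e_rc_9_3 lc_e_rc_16_5 lc_e_rc_18_1 lc_e_rc_16_5 lc_e_rc_18_1 lc_e_rc_18_1 lc_e_rc_16_5 lc_e_rc_18_1 lc_e_rc_27_5 lc_e_rc_27_5 lc_e_rc_18_1 lc_e_rc_9_3 lc_e_rc_18_1 lc_e_rc_13_3 lc_e_rc_16_3 lc_e_rc_13_3 lc_e_rc_27_1 lc_e_rc_27_1 lc_e_rc_18_1 lc_e_rc_18_1 lc_e_rc_16_3 lc_e_rc_13_3 lc_e_rc_16_5 lc_e_rc_4_1 lc_e_rc_18_1 lc_e_rc_13_3 lc_e_Cert_tree lc_e_rc_19_4 lc_e_rc_18_1 lc_e_rc_16_1 lc_e_rc_13_3 lc_e_rc_9_3 lc_e_rc_9_1 lc_e_Cert_tree lc_e_rc_18_1 lc_e_rc_18_1 lc_e_rc_13_3 lc_e_rc_19_2 lc_e_rc_13_1 lc_e_rc_13_3 lc_e_rc_13_1 lc_e_rc_16_1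 lc_e_rc_18_1 lc_e_rc_18_1 lc_e_rc_18_1 lc_e_rc_18_1 lc_e_rc_13_3 lc_e_Cert_tree lc_e_rc_16_5 lc_e_rc_18_1 lc_e_rc_18_1 lc_e_rc_18_1 lc_e_rc_16_1 lc_e_rc_13_1 lc_e_rc_13_3 lc_e_rc_27_5 lc_e_rc_19_2 lc_e_rc_18_1 lc_e_rc_9_3 lc_e_rc_16_3 lc_e_rc_13_3 lc_e_rc_9_3) (@D3.rec (fun _ => (Cert rels S Gen.e)) lc_e_rc_13_3 lc_e_rc_9_3 lc_e_rc_13_3 lc_e_rc_18_1 lc_e_rc_18_1 lc_e_rc_9_3 lc_e_rc_16_1 lc_e_rc_19_2 lc_e_rc_18_1 lc_e_rc_18_1 lc_e_rc_16_5 lc_e_rc_18_1 lc_e_rc_9_3 lc_e_rc_9_3 lc_e_rc_4_3 lc_e_rc_13_3 lc_e_rc_18_1 lc_e_Cert_tree lc_e_rc_18_1 lc_e_rc_19_2 lc_e_rc_16_3 lc_e_rc_13_3 lc_e_rc_18_1 lc_e_rc_18_1 lc_e_rc_18_1 lc_e_rc_18_1 lc_e_rc_18_1 lc_e_rc_9_3 lc_e_rc_27_5 lc_e_rc_27_1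 lc_e_rc_19_0 lc_e_rc_27_1 lc_e_rc_18_1 lc_e_rc_18_1 lc_e_rc_16_3 lc_e_rc_16_5 lc_e_rc_4_3 lc_e_rc_16_5 lc_e_rc_16_3 lc_e_rc_18_1 lc_e_rc_18_1 lc_e_rc_13_3 lc_e_rc_4_3 lc_e_rc_13_3 lc_e_rc_13_1 lc_e_rc_18_1 lc_e_rc_18_1 lc_e_rc_13_3 lc_e_rc_9_3 lc_e_rc_18_1 lc_e_rc_18_1 lc_e_rc_27_7 lc_e_rc_18_1 lc_e_rc_19_2 lc_e_rc_13_3 lc_e_rc_13_3 lc_e_rc_27_1 lc_e_rc_18_1 lc_e_rc_9_1 lc_e_rc_18_1 lc_e_rc_9_1 lc_e_rc_27_1) (@D3.rec (fun _ => (Cert rels S Gen.e)) lc_e_rc_16_5 lc_e_rc_13_3 lc_e_rc_18_1 lc_e_rc_18_1 lc_e_rc_13_3 lc_e_rc_18_1 lc_e_rc_16_5 lc_e_rc_16_3 lc_e_rc_13_1 lc_e_rc_18_1 lc_e_rc_16_1 lc_e_rc_13_3 lc_e_rc_16_5 lc_e_rc_18_1 lc_e_rc_9_3 lc_e_rc_16_5 lc_e_rc_18_1 lc_e_rc_13_3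 lc_e_rc_27_1 lc_e_rc_27_1 lc_e_rc_18_1 lc_e_rc_9_3 lc_e_rc_18_1 lc_e_rc_9_3 lc_e_rc_13_1 lc_e_rc_13_3 lc_e_rc_18_1 lc_e_rc_18_1 lc_e_rc_18_1 lc_e_rc_18_1 lc_e_rc_18_1 lc_e_rc_18_1 lc_e_rc_18_1 lc_e_rc_13_3 lc_e_rc_27_7 lc_e_rc_18_1 lc_e_rc_13_3 lc_e_rc_13_3 lc_e_rc_19_4 lc_e_rc_16_5 lc_e_rc_13_3 lc_e_rc_18_1 lc_e_rc_13_3 lc_e_rc_13_3 lc_e_rc_18_1 lc_e_rc_13_3 lc_e_rc_18_1 lc_e_rc_16_5 lc_e_rc_9_3 lc_e_rc_27_1 lc_e_rc_9_3 lc_e_rc_16_3 lc_e_rc_27_7 lc_e_rc_13_1 lc_e_rc_19_4 lc_e_rc_13_3 lc_e_rc_13_3 lc_e_rc_27_7 lc_e_rc_16_5 lc_e_rc_18_1 lc_e_rc_16_3 lc_e_rc_9_3) (@D3.rec (fun _ => (Cert rels S Gen.e)) lc_e_rc_9_3 lc_e_rc_9_3 lc_e_rc_16_5 lc_e_rc_18_1 lc_e_rc_19_0 lc_e_rc_19_4 lc_e_rc_13_3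 lc_e_rc_18_1 lc_e_rc_9_1 lc_e_rc_19_4 lc_e_rc_27_5 lc_e_rc_13_3 lc_e_rc_18_1 lc_e_rc_18_1 lc_e_Cert_tree lc_e_rc_18_1 lc_e_rc_13_1 lc_e_rc_18_1 lc_e_rc_13_3 lc_e_rc_13_3 lc_e_rc_4_3 lc_e_rc_27_5 lc_e_rc_18_1 lc_e_rc_13_1 lc_e_rc_18_1 lc_e_rc_27_5 lc_e_rc_18_1 lc_e_Cert_tree lc_e_rc_18_1 lc_e_rc_9_1 lc_e_rc_16_5 lc_e_rc_18_1 lc_e_rc_27_7 lc_e_Cert_tree lc_e_Cert_tree lc_e_rc_13_3 lc_e_rc_18_1 lc_e_rc_18_1 lc_e_rc_9_1 lc_e_rc_18_1 lc_e_rc_13_1 lc_e_rc_18_1 lc_e_rc_27_7 lc_e_rc_16_5 lc_e_rc_18_1 lc_e_rc_9_1 lc_e_rc_9_3 lc_e_rc_18_1 lc_e_rc_27_5 lc_e_rc_16_5 lc_e_rc_13_1 lc_e_rc_13_3 lc_e_rc_13_3 lc_e_rc_16_5 lc_e_Cert_tree lc_e_rc_18_1 lc_e_rc_16_5 lc_e_rc_13_3 lc_e_Cert_tree lc_e_rc_18_1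 lc_e_rc_16_5 lc_e_rc_4_1) (@D3.rec (fun _ => (Cert rels S Gen.e)) lc_e_rc_19_2 lc_e_rc_13_3 lc_e_rc_27_1 lc_e_rc_9_1 lc_e_rc_9_3 lc_e_rc_9_1 lc_e_rc_18_1 lc_e_rc_16_3 lc_e_rc_18_1 lc_e_rc_27_5 lc_e_rc_13_1 lc_e_rc_27_5 lc_e_rc_18_1 lc_e_rc_27_1 lc_e_rc_13_3 lc_e_rc_4_3 lc_e_rc_9_3 lc_e_rc_4_1 lc_e_rc_19_4 lc_e_rc_19_4 lc_e_rc_27_1 lc_e_rc_27_5 lc_e_rc_18_1 lc_e_rc_4_3 lc_e_rc_9_3 lc_e_rc_13_3 lc_e_rc_27_7 lc_e_Cert_tree lc_e_rc_16_5 lc_e_rc_18_1 lc_e_rc_18_1 lc_e_rc_18_1 lc_e_rc_18_1 lc_e_rc_13_3 lc_e_rc_18_1 lc_e_rc_18_1 lc_e_rc_9_1 lc_e_rc_18_1 lc_e_rc_27_5 lc_e_rc_18_1 lc_e_rc_16_1 lc_e_rc_27_7 lc_e_rc_4_3 lc_e_rc_18_1 lc_e_rc_13_3 lc_e_rc_9_3 lc_e_rc_13_1 lc_e_rc_18_1 lc_e_rc_27_5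 lc_e_rc_9_3 lc_e_rc_18_1 lc_e_rc_9_1 lc_e_rc_18_1 lc_e_rc_27_5 lc_e_rc_27_1 lc_e_rc_9_3 lc_e_rc_9_1 lc_e_rc_16_5 lc_e_rc_18_1 lc_e_rc_13_3 lc_e_rc_16_5 lc_e_rc_18_1) (@D3.rec (fun _ => (Cert rels S Gen.e)) lc_e_rc_18_1 lc_e_rc_9_3 lc_e_rc_18_1 lc_e_rc_13_1 lc_e_rc_4_1 lc_e_rc_18_1 lc_e_rc_16_5 lc_e_rc_27_5 lc_e_rc_27_1 lc_e_rc_27_5 lc_e_rc_18_1 lc_e_rc_16_1 lc_e_rc_9_1 lc_e_rc_18_1 lc_e_rc_27_7 lc_e_rc_27_1 lc_e_rc_16_3 lc_e_rc_27_5 lc_e_rc_16_1 lc_e_rc_27_1 lc_e_rc_19_4 lc_e_rc_9_3 lc_e_rc_16_5 lc_e_rc_16_5 lc_e_rc_18_1 lc_e_rc_27_5 lc_e_rc_13_3 lc_e_rc_9_1 lc_e_rc_13_1 lc_e_rc_18_1 lc_e_rc_9_1 lc_e_rc_18_1 lc_e_rc_27_5 lc_e_rc_27_5 lc_e_rc_27_5 lc_e_Cert_tree lc_e_rc_18_1 lc_e_rc_18_1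 lc_e_rc_18_1 lc_e_rc_18_1 lc_e_rc_4_3 lc_e_rc_18_1 lc_e_rc_27_5 lc_e_rc_9_3 lc_e_rc_9_3 lc_e_rc_27_1 lc_e_rc_18_1 lc_e_rc_18_1 lc_e_rc_27_1 lc_e_rc_18_1 lc_e_rc_16_3 lc_e_rc_9_3 lc_e_rc_19_2 lc_e_rc_18_1 lc_e_rc_4_1 lc_e_rc_18_1 lc_e_rc_27_5 lc_e_rc_13_1 lc_e_rc_18_1 lc_e_Cert_tree lc_e_rc_18_1 lc_e_Cert_tree) (@D3.rec (fun _ => (Cert rels S Gen.e)) lc_e_rc_18_1 lc_e_rc_4_3 lc_e_rc_18_1 lc_e_rc_4_3 lc_e_rc_18_1 lc_e_rc_16_3 lc_e_rc_19_2 lc_e_rc_19_4 lc_e_rc_18_1 lc_e_rc_18_1 lc_e_rc_19_4 lc_e_rc_9_3 lc_e_rc_18_1 lc_e_rc_9_1 lc_e_rc_9_1 lc_e_rc_27_5 lc_e_rc_19_4 lc_e_rc_9_1 lc_e_rc_9_1 lc_e_rc_13_3 lc_e_rc_18_1 lc_e_rc_13_3 lc_e_rc_27_7 lc_e_rc_27_5 lc_e_rc_13_3 lc_e_rc_27_5 lc_e_rc_18_1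 lc_e_rc_27_5 lc_e_rc_13_3 lc_e_rc_9_3 lc_e_rc_27_7 lc_e_rc_13_3 lc_e_rc_9_3 lc_e_rc_18_1 lc_e_rc_13_3 lc_e_rc_16_5 lc_e_rc_13_1 lc_e_rc_13_3 lc_e_rc_16_5 lc_e_rc_16_1 lc_e_rc_16_1 lc_e_rc_16_3 lc_e_rc_16_5 lc_e_rc_27_5 lc_e_rc_27_5 lc_e_rc_27_5 lc_e_rc_18_1 lc_e_rc_18_1 lc_e_rc_27_5 lc_e_rc_18_1 lc_e_rc_19_4 lc_e_rc_13_3 lc_e_rc_27_1 lc_e_rc_13_3 lc_e_rc_4_3 lc_e_rc_18_1 lc_e_rc_27_7 lc_e_rc_27_5 lc_e_rc_13_3 lc_e_rc_9_3 lc_e_rc_13_3 lc_e_rc_18_1) (@D3.rec (fun _ => (Cert rels S Gen.e)) lc_e_rc_9_3 lc_e_rc_27_1 lc_e_rc_13_3 lc_e_rc_9_3 lc_e_rc_16_5 lc_e_rc_27_7 lc_e_rc_13_3 lc_e_rc_18_1 lc_e_rc_18_1 lc_e_rc_16_3 lc_e_rc_18_1 lc_e_rc_19_2 lc_e_rc_13_1 lc_e_rc_13_3 lc_e_rc_9_1 lc_e_rc_18_1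 lc_e_rc_13_1 lc_e_rc_18_1 lc_e_rc_4_3 lc_e_rc_18_1 lc_e_rc_18_1 lc_e_rc_16_1 lc_e_rc_19_2 lc_e_rc_18_1 lc_e_rc_18_1 lc_e_rc_9_3 lc_e_rc_18_1 lc_e_rc_27_1 lc_e_rc_18_1 lc_e_rc_9_3 lc_e_rc_16_5 lc_e_rc_9_1 lc_e_rc_27_1 lc_e_rc_18_1 lc_e_rc_13_3 lc_e_rc_16_3 lc_e_rc_9_3 lc_e_rc_16_5 lc_e_rc_27_7 lc_e_rc_18_1 lc_e_rc_18_1 lc_e_rc_16_1 lc_e_rc_27_7 lc_e_rc_13_3 lc_e_rc_9_3 lc_e_rc_4_3 lc_e_rc_18_1 lc_e_rc_19_4 lc_e_rc_18_1 lc_e_rc_16_5 lc_e_rc_18_1 lc_e_rc_19_4 lc_e_rc_9_3 lc_e_rc_27_7 lc_e_rc_18_1 lc_e_rc_13_3 lc_e_rc_13_3 lc_e_rc_27_1 lc_e_rc_27_5 lc_e_rc_27_5 lc_e_rc_18_1 lc_e_rc_18_1) (@D3.rec (fun _ => (Cert rels S Gen.e)) lc_e_rc_18_1 lc_e_rc_18_1 lc_e_rc_16_3 lc_e_rc_27_1 lc_e_rc_13_3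 lc_e_rc_13_3 lc_e_rc_13_3 lc_e_rc_9_3 lc_e_rc_4_1 lc_e_rc_19_2 lc_e_rc_13_1 lc_e_rc_16_1 lc_e_rc_18_1 lc_e_rc_27_5 lc_e_rc_19_4 lc_e_rc_27_5 lc_e_rc_19_0 lc_e_rc_27_5 lc_e_rc_16_1 lc_e_rc_27_5 lc_e_rc_9_1 lc_e_rc_27_1 lc_e_rc_18_1 lc_e_Cert_tree lc_e_rc_18_1 lc_e_rc_4_1 lc_e_rc_18_1 lc_e_rc_19_4 lc_e_rc_9_3 lc_e_rc_4_3 lc_e_rc_9_3 lc_e_rc_18_1 lc_e_rc_27_1 lc_e_rc_18_1 lc_e_rc_19_2 lc_e_rc_13_3 lc_e_rc_18_1 lc_e_rc_18_1 lc_e_rc_18_1 lc_e_rc_19_2 lc_e_rc_13_3 lc_e_rc_18_1 lc_e_rc_4_1 lc_e_rc_18_1 lc_e_Cert_tree lc_e_rc_13_3 lc_e_rc_9_3 lc_e_rc_13_3 lc_e_rc_9_1 lc_e_rc_13_3 lc_e_rc_27_5 lc_e_rc_18_1 lc_e_rc_9_3 lc_e_rc_13_3 lc_e_rc_16_5 lc_e_rc_18_1 lc_e_rc_16_5 lc_e_rc_4_3 lc_e_rc_13_3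 lc_e_rc_4_3 lc_e_rc_16_3 lc_e_rc_18_1) (@D3.rec (fun _ => (Cert rels S Gen.e)) lc_e_rc_18_1 lc_e_rc_4_3 lc_e_rc_9_3 lc_e_rc_18_1 lc_e_rc_13_3 lc_e_rc_18_1 lc_e_rc_27_5 lc_e_rc_18_1 lc_e_rc_18_1 lc_e_rc_18_1 lc_e_rc_19_0 lc_e_rc_18_1 lc_e_rc_16_3 lc_e_rc_9_3 lc_e_rc_27_7 lc_e_rc_9_3 lc_e_Cert_tree lc_e_rc_18_1 lc_e_rc_18_1 lc_e_rc_18_1 lc_e_rc_13_1 lc_e_rc_13_3 lc_e_rc_16_1 lc_e_rc_13_3 lc_e_rc_13_3 lc_e_rc_4_3 lc_e_rc_18_1 lc_e_rc_9_3 lc_e_rc_16_3 lc_e_rc_19_2 lc_e_rc_4_1 lc_e_rc_16_5 lc_e_rc_13_3 lc_e_rc_4_3 lc_e_rc_19_2 lc_e_rc_27_5 lc_e_rc_19_2 lc_e_rc_18_1 lc_e_rc_18_1 lc_e_rc_19_2 lc_e_rc_18_1 lc_e_rc_16_3 lc_e_rc_19_4 lc_e_rc_16_5 lc_e_rc_9_3 lc_e_rc_9_1 lc_e_rc_27_7 lc_e_rc_9_3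 lc_e_rc_16_3 lc_e_rc_27_1 lc_e_rc_4_3 lc_e_rc_18_1 lc_e_rc_13_3 lc_e_rc_27_5 lc_e_rc_9_3 lc_e_rc_27_7 lc_e_rc_16_1 lc_e_rc_4_3 lc_e_rc_18_1 lc_e_rc_13_3 lc_e_rc_18_1 lc_e_rc_27_1) (@D3.rec (fun _ => (Cert rels S Gen.e)) lc_e_rc_18_1 lc_e_rc_18_1 lc_e_rc_27_1 lc_e_rc_18_1 lc_e_rc_18_1 lc_e_rc_9_1 lc_e_rc_13_3 lc_e_rc_13_3 lc_e_rc_27_1 lc_e_rc_16_1 lc_e_rc_13_3 lc_e_rc_19_0 lc_e_rc_13_3 lc_e_rc_18_1 lc_e_rc_9_1 lc_e_rc_13_3 lc_e_rc_19_0 lc_e_rc_13_3 lc_e_rc_9_3 lc_e_rc_16_3 lc_e_rc_13_1 lc_e_rc_13_3 lc_e_rc_13_3 lc_e_rc_18_1 lc_e_rc_18_1 lc_e_rc_13_3 lc_e_rc_13_3 lc_e_rc_4_1 lc_e_rc_16_5 lc_e_rc_18_1 lc_e_rc_9_1 lc_e_rc_13_3 lc_e_rc_27_5 lc_e_rc_16_5 lc_e_rc_18_1 lc_e_rc_16_3 lc_e_rc_13_1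 lc_e_rc_4_1 lc_e_rc_16_1 lc_e_rc_18_1 lc_e_rc_27_5 lc_e_rc_19_4 lc_e_rc_13_3 lc_e_rc_18_1 lc_e_rc_13_3 lc_e_rc_9_1 lc_e_rc_16_5 lc_e_rc_13_3 lc_e_rc_27_1 lc_e_rc_13_3 lc_e_rc_16_5 lc_e_rc_27_5 lc_e_rc_18_1 lc_e_rc_9_1 lc_e_rc_27_7 lc_e_rc_18_1 lc_e_rc_13_3 lc_e_rc_18_1 lc_e_Cert_tree lc_e_rc_13_3 lc_e_rc_16_3 lc_e_rc_18_1) (@D3.rec (fun _ => (Cert rels S Gen.e)) lc_e_rc_19_0 lc_e_rc_9_3 lc_e_rc_13_3 lc_e_rc_18_1 lc_e_rc_4_3 lc_e_rc_13_3 lc_e_rc_13_1 lc_e_rc_13_3 lc_e_rc_18_1 lc_e_rc_18_1 lc_e_rc_4_3 lc_e_rc_9_3 lc_e_rc_13_3 lc_e_rc_27_5 lc_e_rc_13_3 lc_e_rc_27_5 lc_e_rc_16_5 lc_e_rc_13_1 lc_e_rc_16_5 lc_e_rc_18_1 lc_e_rc_9_3 lc_e_rc_27_5 lc_e_rc_9_1 lc_e_rc_16_3 lc_e_rc_13_3 lc_e_rc_9_3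 lc_e_rc_9_3 lc_e_rc_19_0 lc_e_rc_18_1 lc_e_rc_19_2 lc_e_rc_27_1 lc_e_rc_9_3 lc_e_rc_9_3 lc_e_rc_27_1 lc_e_rc_18_1 lc_e_rc_13_3 lc_e_Cert_tree lc_e_rc_16_5 lc_e_rc_18_1 lc_e_rc_13_3 lc_e_rc_19_0 lc_e_rc_13_3 lc_e_rc_18_1 lc_e_rc_18_1 lc_e_rc_18_1 lc_e_rc_27_5 lc_e_rc_13_3 lc_e_rc_27_1 lc_e_rc_13_3 lc_e_rc_18_1 lc_e_rc_18_1 lc_e_rc_27_5 lc_e_rc_18_1 lc_e_rc_27_1 lc_e_rc_18_1 lc_e_rc_27_1 lc_e_rc_27_5 lc_e_rc_16_3 lc_e_rc_18_1 lc_e_rc_13_3 lc_e_rc_16_3 lc_e_rc_16_3) (@D3.rec (fun _ => (Cert rels S Gen.e)) lc_e_rc_18_1 lc_e_rc_13_1 lc_e_rc_16_5 lc_e_rc_27_1 lc_e_rc_18_1 lc_e_rc_4_3 lc_e_rc_9_1 lc_e_rc_18_1 lc_e_rc_18_1 lc_e_rc_18_1 lc_e_rc_27_7 lc_e_rc_18_1 lc_e_rc_18_1 lc_e_rc_18_1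 lc_e_rc_18_1 lc_e_rc_18_1 lc_e_rc_27_5 lc_e_rc_16_3 lc_e_rc_13_1 lc_e_rc_9_3 lc_e_rc_18_1 lc_e_rc_16_5 lc_e_rc_19_2 lc_e_rc_27_1 lc_e_rc_18_1 lc_e_rc_16_5 lc_e_Cert_tree lc_e_rc_18_1 lc_e_rc_27_5 lc_e_rc_16_1 lc_e_rc_16_5 lc_e_rc_19_0 lc_e_rc_19_4 lc_e_rc_4_3 lc_e_Cert_tree lc_e_rc_18_1 lc_e_rc_9_3 lc_e_rc_27_7 lc_e_rc_27_5 lc_e_rc_18_1 lc_e_rc_9_3 lc_e_rc_18_1 lc_e_rc_16_5 lc_e_rc_16_1 lc_e_rc_19_2 lc_e_rc_9_1 lc_e_rc_18_1 lc_e_rc_13_3 lc_e_rc_18_1 lc_e_rc_9_3 lc_e_rc_9_3 lc_e_rc_18_1 lc_e_rc_19_2 lc_e_rc_27_7 lc_e_rc_9_1 lc_e_rc_18_1 lc_e_rc_16_5 lc_e_rc_19_4 lc_e_rc_18_1 lc_e_rc_27_1 lc_e_rc_19_2 lc_e_rc_9_1) (@D3.rec (fun _ => (Cert rels S Gen.e)) lc_e_rc_18_1 lc_e_rc_18_1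 lc_e_rc_13_1 lc_e_rc_18_1 lc_e_rc_18_1 lc_e_rc_13_3 lc_e_rc_9_1 lc_e_rc_18_1 lc_e_rc_18_1 lc_e_rc_9_1 lc_e_rc_18_1 lc_e_rc_13_3 lc_e_rc_27_7 lc_e_rc_18_1 lc_e_rc_13_1 lc_e_rc_19_2 lc_e_rc_16_3 lc_e_rc_9_3 lc_e_rc_27_5 lc_e_rc_9_3 lc_e_rc_18_1 lc_e_rc_9_3 lc_e_rc_19_0 lc_e_rc_27_1 lc_e_rc_16_1 lc_e_rc_13_1 lc_e_rc_18_1 lc_e_rc_9_3 lc_e_rc_27_5 lc_e_Cert_tree lc_e_rc_27_1 lc_e_rc_18_1 lc_e_rc_18_1 lc_e_rc_18_1 lc_e_rc_18_1 lc_e_rc_13_3 lc_e_rc_18_1 lc_e_rc_19_2 lc_e_rc_19_2 lc_e_rc_9_1 lc_e_rc_18_1 lc_e_rc_27_5 lc_e_rc_9_3 lc_e_rc_13_3 lc_e_rc_16_3 lc_e_rc_13_3 lc_e_rc_27_5 lc_e_rc_18_1 lc_e_rc_16_5 lc_e_rc_27_1 lc_e_rc_13_1 lc_e_rc_18_1 lc_e_rc_18_1 lc_e_rc_13_3 lc_e_rc_19_2 lc_e_rc_4_1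 lc_e_rc_19_0 lc_e_rc_18_1 lc_e_rc_18_1 lc_e_rc_19_4 lc_e_rc_27_7 lc_e_rc_9_3) (@D3.rec (fun _ => (Cert rels S Gen.e)) lc_e_rc_9_3 lc_e_rc_13_3 lc_e_rc_13_1 lc_e_rc_18_1 lc_e_rc_16_1 lc_e_rc_27_1 lc_e_rc_13_1 lc_e_rc_18_1 lc_e_rc_13_3 lc_e_rc_16_5 lc_e_rc_18_1 lc_e_rc_18_1 lc_e_rc_18_1 lc_e_rc_27_5 lc_e_rc_18_1 lc_e_Cert_tree lc_e_rc_18_1 lc_e_Cert_tree lc_e_rc_18_1 lc_e_rc_16_1 lc_e_rc_18_1 lc_e_rc_9_1 lc_e_rc_18_1 lc_e_rc_18_1 lc_e_rc_18_1 lc_e_rc_19_4 lc_e_rc_27_5 lc_e_rc_27_5 lc_e_rc_13_1 lc_e_rc_18_1 lc_e_rc_19_4 lc_e_rc_18_1 lc_e_rc_18_1 lc_e_rc_19_4 lc_e_rc_18_1 lc_e_rc_27_5 lc_e_rc_18_1 lc_e_rc_9_3 lc_e_rc_19_4 lc_e_rc_27_5 lc_e_rc_18_1 lc_e_rc_13_1 lc_e_rc_19_2 lc_e_rc_16_3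 lc_e_rc_18_1 lc_e_rc_13_1 lc_e_rc_27_7 lc_e_rc_18_1 lc_e_rc_19_4 lc_e_rc_19_2 lc_e_rc_13_1 lc_e_rc_27_5 lc_e_rc_27_5 lc_e_rc_16_3 lc_e_rc_16_3 lc_e_rc_18_1 lc_e_rc_4_1 lc_e_rc_18_1 lc_e_rc_13_1 lc_e_rc_13_3 lc_e_rc_27_5 lc_e_rc_18_1) (@D3.rec (fun _ => (Cert rels S Gen.e)) lc_e_rc_16_3 lc_e_rc_4_3 lc_e_rc_18_1 lc_e_rc_13_1 lc_e_rc_13_3 lc_e_rc_18_1 lc_e_rc_18_1 lc_e_rc_27_7 lc_e_rc_19_4 lc_e_rc_27_5 lc_e_rc_18_1 lc_e_Cert_tree lc_e_rc_9_3 lc_e_rc_18_1 lc_e_rc_13_3 lc_e_rc_27_5 lc_e_rc_19_4 lc_e_rc_4_3 lc_e_rc_9_3 lc_e_rc_27_1 lc_e_rc_13_3 lc_e_rc_27_1 lc_e_rc_27_5 lc_e_rc_19_2 lc_e_rc_13_3 lc_e_rc_18_1 lc_e_Cert_tree lc_e_rc_27_1 lc_e_rc_19_4 lc_e_rc_18_1 lc_e_rc_27_5 lc_e_rc_19_2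 lc_e_rc_16_3 lc_e_rc_13_3 lc_e_rc_16_5 lc_e_rc_16_3 lc_e_rc_19_4 lc_e_rc_18_1 lc_e_rc_18_1 lc_e_rc_16_3 lc_e_rc_18_1 lc_e_rc_9_1 lc_e_rc_27_1 lc_e_rc_18_1 lc_e_rc_9_3 lc_e_rc_16_3 lc_e_rc_19_2 lc_e_rc_13_1 lc_e_rc_18_1 lc_e_rc_19_0 lc_e_rc_18_1 lc_e_rc_18_1 lc_e_rc_27_5 lc_e_rc_18_1 lc_e_rc_4_3 lc_e_rc_19_4 lc_e_rc_9_3 lc_e_rc_18_1 lc_e_rc_18_1 lc_e_rc_13_3 lc_e_rc_18_1 lc_e_rc_18_1) (@D3.rec (fun _ => (Cert rels S Gen.e)) lc_e_rc_16_3 lc_e_rc_18_1 lc_e_Cert_tree lc_e_rc_16_5 lc_e_rc_16_5 lc_e_rc_16_3 lc_e_rc_16_5 lc_e_Cert_tree lc_e_rc_16_3 lc_e_rc_18_1 lc_e_rc_16_5 lc_e_rc_9_1 lc_e_rc_18_1 lc_e_rc_16_3 lc_e_rc_19_4 lc_e_rc_9_3 lc_e_rc_19_4 lc_e_rc_9_3 lc_e_rc_16_1 lc_e_rc_16_3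 lc_e_rc_4_1 lc_e_rc_9_3 lc_e_rc_18_1 lc_e_rc_4_3 lc_e_Cert_tree lc_e_rc_18_1 lc_e_rc_16_5 lc_e_rc_16_3 lc_e_rc_13_3 lc_e_rc_18_1 lc_e_rc_18_1 lc_e_Cert_tree lc_e_rc_4_3 lc_e_rc_27_1 lc_e_rc_18_1 lc_e_rc_18_1 lc_e_rc_16_3 lc_e_rc_27_7 lc_e_rc_18_1 lc_e_rc_18_1 lc_e_rc_13_3 lc_e_rc_9_3 lc_e_rc_27_7 lc_e_rc_18_1 lc_e_rc_18_1 lc_e_rc_18_1 lc_e_rc_19_4 lc_e_rc_13_3 lc_e_rc_13_3 lc_e_rc_9_3 lc_e_rc_18_1 lc_e_rc_18_1 lc_e_rc_19_4 lc_e_rc_13_3 lc_e_rc_9_3 lc_e_rc_18_1 lc_e_rc_19_2 lc_e_rc_19_2 lc_e_rc_13_3 lc_e_Cert_tree lc_e_rc_18_1 lc_e_rc_9_3) (@D3.rec (fun _ => (Cert rels S Gen.e)) lc_e_rc_27_5 lc_e_rc_27_1 lc_e_rc_13_1 lc_e_rc_4_1 lc_e_rc_13_1 lc_e_rc_18_1 lc_e_rc_18_1 lc_e_rc_19_4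 lc_e_rc_13_1 lc_e_rc_13_3 lc_e_rc_4_3 lc_e_rc_18_1 lc_e_rc_18_1 lc_e_rc_19_2 lc_e_rc_16_5 lc_e_rc_18_1 lc_e_rc_16_5 lc_e_rc_18_1 lc_e_rc_9_1 lc_e_rc_18_1 lc_e_rc_9_3 lc_e_rc_19_4 lc_e_rc_4_1 lc_e_Cert_tree lc_e_rc_18_1 lc_e_rc_27_7 lc_e_rc_9_1 lc_e_rc_18_1 lc_e_rc_27_1 lc_e_rc_9_3 lc_e_rc_19_4 lc_e_rc_9_3 lc_e_rc_27_5 lc_e_rc_27_5 lc_e_rc_19_4 lc_e_rc_18_1 lc_e_rc_13_3 lc_e_rc_9_1 lc_e_rc_18_1 lc_e_rc_4_3 lc_e_rc_19_4 lc_e_rc_9_3 lc_e_rc_19_4 lc_e_rc_27_1 lc_e_rc_27_5 lc_e_rc_18_1 lc_e_rc_13_3 lc_e_rc_19_4 lc_e_rc_18_1 lc_e_rc_19_4 lc_e_rc_18_1 lc_e_rc_18_1 lc_e_rc_13_1 lc_e_rc_27_7 lc_e_rc_16_1 lc_e_rc_27_7 lc_e_rc_18_1 lc_e_rc_27_1 lc_e_rc_27_1 lc_e_rc_27_7 lc_e_rc_16_1 lc_e_rc_19_4)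 (@D3.rec (fun _ => (Cert rels S Gen.e)) lc_e_rc_27_7 lc_e_rc_16_3 lc_e_rc_4_1 lc_e_rc_13_3 lc_e_rc_9_3 lc_e_rc_18_1 lc_e_rc_18_1 lc_e_rc_9_1 lc_e_rc_16_5 lc_e_rc_13_1 lc_e_rc_18_1 lc_e_rc_9_3 lc_e_rc_18_1 lc_e_rc_18_1 lc_e_rc_19_4 lc_e_rc_13_1 lc_e_rc_18_1 lc_e_Cert_tree lc_e_rc_18_1 lc_e_rc_18_1 lc_e_rc_16_3 lc_e_rc_16_3 lc_e_rc_27_5 lc_e_rc_18_1 lc_e_rc_9_3 lc_e_rc_13_3 lc_e_rc_16_1 lc_e_rc_27_5 lc_e_rc_18_1 lc_e_rc_18_1 lc_e_rc_18_1 lc_e_rc_18_1 lc_e_rc_27_1 lc_e_rc_27_7 lc_e_rc_13_3 lc_e_rc_27_5 lc_e_rc_27_7 lc_e_rc_18_1 lc_e_rc_27_7 lc_e_rc_18_1 lc_e_rc_9_3 lc_e_rc_18_1 lc_e_rc_16_3 lc_e_rc_18_1 lc_e_rc_9_3 lc_e_rc_13_3 lc_e_rc_9_3 lc_e_rc_16_5 lc_e_rc_18_1 lc_e_rc_18_1 lc_e_rc_18_1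 lc_e_rc_18_1 lc_e_rc_18_1 lc_e_rc_18_1 lc_e_rc_16_3 lc_e_rc_19_2 lc_e_rc_13_3 lc_e_rc_18_1 lc_e_rc_13_3 lc_e_rc_18_1 lc_e_rc_18_1 lc_e_rc_19_2) (@D3.rec (fun _ => (Cert rels S Gen.e)) lc_e_rc_18_1 lc_e_rc_9_3 lc_e_rc_18_1 lc_e_rc_18_1 lc_e_rc_16_3 lc_e_rc_18_1 lc_e_rc_4_3 lc_e_rc_16_3 lc_e_rc_27_5 lc_e_rc_4_3 lc_e_rc_18_1 lc_e_rc_4_3 lc_e_rc_27_5 lc_e_rc_27_1 lc_e_rc_4_3 lc_e_rc_9_3 lc_e_rc_27_7 lc_e_rc_9_3 lc_e_rc_13_3 lc_e_rc_9_3 lc_e_rc_16_1 lc_e_rc_18_1 lc_e_Cert_tree lc_e_rc_13_3 lc_e_rc_9_3 lc_e_rc_27_1 lc_e_rc_4_1 lc_e_rc_18_1 lc_e_rc_27_5 lc_e_rc_16_3 lc_e_rc_19_0 lc_e_rc_13_3 lc_e_rc_18_1 lc_e_rc_27_5 lc_e_rc_27_1 lc_e_rc_27_5 lc_e_rc_19_4 lc_e_rc_19_2 lc_e_rc_16_3 lc_e_rc_13_3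 lc_e_rc_27_5 lc_e_rc_18_1 lc_e_rc_18_1 lc_e_Cert_tree lc_e_rc_18_1 lc_e_rc_13_1 lc_e_rc_18_1 lc_e_rc_27_5 lc_e_Cert_tree lc_e_rc_13_1 lc_e_rc_18_1 lc_e_rc_13_3 lc_e_rc_16_5 lc_e_rc_9_3 lc_e_rc_18_1 lc_e_rc_27_1 lc_e_rc_18_1 lc_e_rc_19_4 lc_e_rc_13_3 lc_e_rc_13_3 lc_e_rc_27_1 lc_e_rc_18_1) (@D3.rec (fun _ => (Cert rels S Gen.e)) lc_e_rc_27_7 lc_e_rc_19_4 lc_e_rc_18_1 lc_e_rc_9_1 lc_e_rc_18_1 lc_e_rc_18_1 lc_e_rc_18_1 lc_e_rc_18_1 lc_e_rc_9_1 lc_e_rc_13_3 lc_e_rc_18_1 lc_e_rc_19_4 lc_e_rc_19_2 lc_e_rc_18_1 lc_e_rc_13_3 lc_e_rc_27_5 lc_e_rc_4_3 lc_e_rc_18_1 lc_e_rc_9_3 lc_e_rc_19_2 lc_e_rc_16_1 lc_e_rc_9_3 lc_e_rc_13_3 lc_e_rc_18_1 lc_e_rc_13_3 lc_e_rc_19_4 lc_e_rc_18_1 lc_e_Cert_tree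 lc_e_rc_18_1 lc_e_rc_27_5 lc_e_rc_19_4 lc_e_rc_9_1 lc_e_rc_16_5 lc_e_rc_13_3 lc_e_rc_18_1 lc_e_rc_19_4 lc_e_rc_9_3 lc_e_rc_13_3 lc_e_rc_9_1 lc_e_rc_16_3 lc_e_rc_9_3 lc_e_rc_13_3 lc_e_rc_18_1 lc_e_rc_16_3 lc_e_rc_18_1 lc_e_rc_27_5 lc_e_rc_18_1 lc_e_rc_9_3 lc_e_rc_27_5 lc_e_rc_18_1 lc_e_rc_16_3 lc_e_rc_27_5 lc_e_rc_9_3 lc_e_rc_18_1 lc_e_rc_27_5 lc_e_rc_18_1 lc_e_Cert_tree lc_e_rc_16_3 lc_e_rc_16_5 lc_e_rc_13_3 lc_e_rc_16_3 lc_e_rc_9_3) (@D3.rec (fun _ => (Cert rels S Gen.e)) lc_e_rc_27_1 lc_e_rc_4_3 lc_e_rc_13_1 lc_e_rc_18_1 lc_e_rc_13_1 lc_e_rc_18_1 lc_e_rc_27_1 lc_e_rc_16_1 lc_e_rc_27_5 lc_e_rc_13_3 lc_e_rc_9_3 lc_e_rc_9_3 lc_e_rc_16_3 lc_e_rc_19_2 lc_e_rc_18_1 lc_e_rc_13_1 lc_e_rc_13_3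 lc_e_rc_9_3 lc_e_rc_27_5 lc_e_rc_16_3 lc_e_rc_27_5 lc_e_rc_18_1 lc_e_rc_18_1 lc_e_rc_18_1 lc_e_rc_27_1 lc_e_rc_19_2 lc_e_rc_18_1 lc_e_rc_9_3 lc_e_rc_18_1 lc_e_rc_4_3 lc_e_rc_13_3 lc_e_Cert_tree lc_e_rc_18_1 lc_e_rc_18_1 lc_e_rc_9_3 lc_e_rc_13_1 lc_e_rc_27_5 lc_e_rc_16_1 lc_e_rc_27_5 lc_e_rc_9_3 lc_e_rc_18_1 lc_e_rc_18_1 lc_e_rc_18_1 lc_e_rc_9_3 lc_e_rc_27_7 lc_e_rc_9_3 lc_e_rc_18_1 lc_e_rc_18_1 lc_e_rc_13_3 lc_e_rc_9_1 lc_e_rc_13_1 lc_e_rc_19_4 lc_e_rc_18_1 lc_e_rc_18_1 lc_e_rc_9_1 lc_e_rc_16_5 lc_e_rc_4_1 lc_e_rc_18_1 lc_e_rc_18_1 lc_e_rc_18_1 lc_e_rc_18_1 lc_e_rc_16_1) (@D3.rec (fun _ => (Cert rels S Gen.e)) lc_e_rc_13_1 lc_e_rc_9_3 lc_e_rc_19_4 lc_e_rc_19_4 lc_e_rc_9_3 lc_e_rc_16_3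 lc_e_rc_19_4 lc_e_rc_9_3 lc_e_rc_27_5 lc_e_rc_27_7 lc_e_rc_9_1 lc_e_rc_18_1 lc_e_Cert_tree lc_e_Cert_tree lc_e_rc_18_1 lc_e_Cert_tree lc_e_rc_18_1 lc_e_rc_13_1 lc_e_rc_13_3 lc_e_rc_13_1 lc_e_rc_9_3 lc_e_rc_27_7 lc_e_rc_18_1 lc_e_rc_18_1 lc_e_rc_18_1 lc_e_rc_18_1 lc_e_rc_18_1 lc_e_rc_9_1 lc_e_rc_4_3 lc_e_rc_18_1 lc_e_rc_13_3 lc_e_rc_18_1 lc_e_rc_9_3 lc_e_rc_27_1 lc_e_rc_27_1 lc_e_rc_18_1 lc_e_rc_18_1 lc_e_rc_18_1 lc_e_rc_16_1 lc_e_rc_16_3 lc_e_rc_18_1 lc_e_rc_19_2 lc_e_rc_18_1 lc_e_rc_16_5 lc_e_rc_18_1 lc_e_rc_19_4 lc_e_rc_27_1 lc_e_rc_18_1 lc_e_rc_18_1 lc_e_rc_16_1 lc_e_rc_19_2 lc_e_rc_27_1 lc_e_rc_18_1 lc_e_rc_13_1 lc_e_rc_18_1 lc_e_rc_16_3 lc_e_rc_18_1 lc_e_rc_27_1 lc_e_rc_18_1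 lc_e_rc_18_1 lc_e_rc_13_3 lc_e_rc_4_3) (@D3.rec (fun _ => (Cert rels S Gen.e)) lc_e_rc_27_5 lc_e_rc_27_7 lc_e_rc_18_1 lc_e_rc_16_3 lc_e_rc_18_1 lc_e_rc_13_3 lc_e_rc_18_1 lc_e_rc_13_3 lc_e_rc_16_3 lc_e_rc_9_3 lc_e_Cert_tree lc_e_rc_18_1 lc_e_rc_27_1 lc_e_rc_13_3 lc_e_rc_27_5 lc_e_rc_27_1 lc_e_rc_19_4 lc_e_rc_9_1 lc_e_Cert_tree lc_e_rc_9_1 lc_e_rc_27_5 lc_e_rc_13_3 lc_e_rc_27_7 lc_e_rc_4_3 lc_e_rc_18_1 lc_e_Cert_tree lc_e_rc_18_1 lc_e_rc_13_1 lc_e_rc_18_1 lc_e_Cert_tree lc_e_rc_9_1 lc_e_Cert_tree lc_e_rc_18_1 lc_e_rc_18_1 lc_e_rc_16_5 lc_e_rc_16_3 lc_e_rc_9_1 lc_e_rc_9_1 lc_e_rc_16_3 lc_e_rc_13_1 lc_e_rc_18_1 lc_e_rc_27_1 lc_e_rc_9_1 lc_e_rc_19_4 lc_e_rc_18_1 lc_e_rc_19_2 lc_e_rc_18_1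 lc_e_rc_18_1 lc_e_rc_27_5 lc_e_rc_27_7 lc_e_rc_16_3 lc_e_rc_19_4 lc_e_rc_16_1 lc_e_rc_9_3 lc_e_rc_27_1 lc_e_rc_18_1 lc_e_rc_18_1 lc_e_rc_27_5 lc_e_rc_19_4 lc_e_rc_9_1 lc_e_rc_18_1 lc_e_rc_18_1) (@D3.rec (fun _ => (Cert rels S Gen.e)) lc_e_rc_4_3 lc_e_rc_27_5 lc_e_rc_9_3 lc_e_rc_9_3 lc_e_rc_27_1 lc_e_rc_13_3 lc_e_rc_16_1 lc_e_rc_27_1 lc_e_rc_9_1 lc_e_rc_13_1 lc_e_rc_18_1 lc_e_rc_9_3 lc_e_rc_9_1 lc_e_rc_18_1 lc_e_rc_27_5 lc_e_rc_13_1 lc_e_rc_18_1 lc_e_rc_4_3 lc_e_rc_18_1 lc_e_rc_13_3 lc_e_rc_19_2 lc_e_rc_4_3 lc_e_rc_16_3 lc_e_Cert_tree lc_e_rc_4_1 lc_e_rc_18_1 lc_e_rc_13_3 lc_e_rc_4_3 lc_e_rc_27_1 lc_e_rc_13_3 lc_e_rc_13_3 lc_e_rc_27_1 lc_e_rc_9_1 lc_e_rc_18_1 lc_e_rc_18_1 lc_e_rc_18_1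 lc_e_rc_13_3 lc_e_rc_13_3 lc_e_rc_13_3 lc_e_rc_13_3 lc_e_rc_19_0 lc_e_rc_18_1 lc_e_rc_18_1 lc_e_rc_18_1 lc_e_rc_18_1 lc_e_rc_4_3 lc_e_rc_19_0 lc_e_rc_27_7 lc_e_rc_18_1 lc_e_rc_27_5 lc_e_rc_27_5 lc_e_rc_16_5 lc_e_rc_18_1 lc_e_rc_27_5 lc_e_rc_9_1 lc_e_rc_13_3 lc_e_rc_19_4 lc_e_rc_9_3 lc_e_rc_4_3 lc_e_rc_27_1 lc_e_rc_16_1 lc_e_rc_16_1) (@D3.rec (fun _ => (Cert rels S Gen.e)) lc_e_rc_27_5 lc_e_rc_18_1 lc_e_rc_13_1 lc_e_rc_13_1 lc_e_rc_9_3 lc_e_rc_16_1 lc_e_rc_4_3 lc_e_rc_18_1 lc_e_rc_18_1 lc_e_rc_19_4 lc_e_rc_27_7 lc_e_rc_18_1 lc_e_rc_9_3 lc_e_rc_18_1 lc_e_Cert_tree lc_e_rc_18_1 lc_e_rc_18_1 lc_e_rc_16_1 lc_e_rc_19_4 lc_e_rc_13_1 lc_e_rc_18_1 lc_e_rc_27_7 lc_e_rc_4_1 lc_e_rc_13_1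 lc_e_rc_13_1 lc_e_rc_16_5 lc_e_rc_13_1 lc_e_rc_13_3 lc_e_rc_27_1 lc_e_rc_19_4 lc_e_rc_27_1 lc_e_rc_13_1 lc_e_rc_18_1 lc_e_rc_16_5 lc_e_rc_13_3 lc_e_rc_18_1 lc_e_rc_18_1 lc_e_rc_16_3 lc_e_rc_13_1 lc_e_rc_18_1 lc_e_rc_27_7 lc_e_rc_9_1 lc_e_rc_13_3 lc_e_rc_18_1 lc_e_rc_19_2 lc_e_rc_9_3 lc_e_rc_13_3 lc_e_rc_18_1 lc_e_rc_16_3 lc_e_rc_9_3 lc_e_rc_27_5 lc_e_rc_18_1 lc_e_rc_19_4 lc_e_rc_27_5 lc_e_rc_9_3 lc_e_rc_18_1 lc_e_rc_19_4 lc_e_rc_27_1 lc_e_rc_13_1 lc_e_rc_18_1 lc_e_rc_19_4 lc_e_rc_18_1) (@D3.rec (fun _ => (Cert rels S Gen.e)) lc_e_rc_19_2 lc_e_rc_19_4 lc_e_rc_9_3 lc_e_rc_27_1 lc_e_rc_13_1 lc_e_rc_19_2 lc_e_rc_18_1 lc_e_rc_9_3 lc_e_rc_9_1 lc_e_rc_9_3 lc_e_rc_18_1 lc_e_rc_27_5 lc_e_rc_9_3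 lc_e_rc_19_4 lc_e_rc_9_3 lc_e_rc_27_5 lc_e_rc_13_3 lc_e_rc_18_1 lc_e_rc_18_1 lc_e_rc_19_4 lc_e_rc_16_1 lc_e_rc_18_1 lc_e_rc_19_0 lc_e_rc_18_1 lc_e_rc_13_1 lc_e_rc_18_1 lc_e_rc_9_1 lc_e_rc_13_3 lc_e_rc_18_1 lc_e_rc_9_1 lc_e_rc_4_3 lc_e_rc_9_1 lc_e_rc_27_1 lc_e_rc_18_1 lc_e_rc_27_7 lc_e_rc_9_3 lc_e_rc_27_1 lc_e_rc_9_3 lc_e_rc_27_5 lc_e_rc_18_1 lc_e_rc_13_1 lc_e_rc_18_1 lc_e_rc_9_3 lc_e_rc_19_0 lc_e_rc_16_5 lc_e_rc_27_5 lc_e_Cert_tree lc_e_rc_27_7 lc_e_rc_18_1 lc_e_rc_13_3 lc_e_rc_13_3 lc_e_rc_4_1 lc_e_rc_18_1 lc_e_rc_27_1 lc_e_rc_13_3 lc_e_rc_18_1 lc_e_rc_4_1 lc_e_rc_9_3 lc_e_rc_13_3 lc_e_rc_27_1 lc_e_rc_19_4 lc_e_Cert_tree) (@D3.rec (fun _ => (Cert rels S Gen.e)) lc_e_rc_27_7 lc_e_rc_18_1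 lc_e_rc_16_3 lc_e_rc_27_5 lc_e_rc_18_1 lc_e_rc_19_4 lc_e_rc_13_3 lc_e_rc_9_3 lc_e_rc_18_1 lc_e_rc_19_0 lc_e_rc_27_1 lc_e_rc_13_3 lc_e_rc_13_3 lc_e_rc_27_7 lc_e_rc_9_3 lc_e_rc_13_1 lc_e_rc_16_3 lc_e_rc_9_3 lc_e_rc_16_5 lc_e_rc_9_1 lc_e_rc_27_5 lc_e_rc_18_1 lc_e_rc_18_1 lc_e_rc_13_3 lc_e_rc_9_3 lc_e_rc_18_1 lc_e_rc_9_1 lc_e_rc_27_7 lc_e_rc_18_1 lc_e_rc_16_5 lc_e_rc_16_3 lc_e_rc_13_1 lc_e_rc_18_1 lc_e_rc_16_1 lc_e_rc_19_0 lc_e_rc_13_1 lc_e_rc_4_3 lc_e_rc_27_5 lc_e_rc_9_3 lc_e_rc_19_2 lc_e_rc_18_1 lc_e_rc_18_1 lc_e_rc_19_2 lc_e_rc_13_3 lc_e_rc_18_1 lc_e_rc_19_4 lc_e_rc_9_3 lc_e_rc_16_5 lc_e_rc_4_3 lc_e_rc_16_5 lc_e_rc_18_1 lc_e_rc_9_3 lc_e_rc_16_1 lc_e_rc_9_3 lc_e_rc_18_1 lc_e_rc_27_5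 lc_e_rc_9_1 lc_e_rc_18_1 lc_e_rc_18_1 lc_e_rc_27_7 lc_e_rc_13_3 lc_e_rc_27_7) (@D3.rec (fun _ => (Cert rels S Gen.e)) lc_e_rc_16_5 lc_e_rc_27_5 lc_e_rc_18_1 lc_e_rc_9_3 lc_e_rc_18_1 lc_e_rc_18_1 lc_e_rc_18_1 lc_e_rc_18_1 lc_e_rc_9_3 lc_e_rc_9_1 lc_e_rc_4_3 lc_e_rc_9_3 lc_e_rc_27_5 lc_e_rc_16_3 lc_e_rc_27_5 lc_e_rc_18_1 lc_e_rc_18_1 lc_e_rc_13_1 lc_e_rc_16_1 lc_e_rc_9_3 lc_e_rc_18_1 lc_e_rc_9_3 lc_e_rc_18_1 lc_e_rc_18_1 lc_e_rc_18_1 lc_e_rc_13_3 lc_e_rc_9_3 lc_e_rc_27_1 lc_e_rc_18_1 lc_e_rc_27_7 lc_e_rc_19_4 lc_e_rc_19_2 lc_e_rc_19_4 lc_e_rc_16_5 lc_e_rc_19_4 lc_e_rc_9_3 lc_e_rc_9_1 lc_e_rc_16_3 lc_e_rc_18_1 lc_e_rc_9_3 lc_e_rc_18_1 lc_e_rc_13_3 lc_e_rc_27_1 lc_e_rc_13_1 lc_e_rc_13_1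 lc_e_rc_18_1 lc_e_rc_4_3 lc_e_rc_16_5 lc_e_rc_27_5 lc_e_rc_4_3 lc_e_rc_13_3 lc_e_rc_9_1 lc_e_rc_18_1 lc_e_rc_16_3 lc_e_rc_9_3 lc_e_rc_9_3 lc_e_rc_9_3 lc_e_rc_9_1 lc_e_rc_9_1 lc_e_rc_18_1 lc_e_rc_16_5 lc_e_rc_16_1) (@D3.rec (fun _ => (Cert rels S Gen.e)) lc_e_rc_13_3 lc_e_rc_13_3 lc_e_rc_27_5 lc_e_rc_16_5 lc_e_rc_27_5 lc_e_rc_9_3 lc_e_rc_19_4 lc_e_rc_13_3 lc_e_rc_16_5 lc_e_rc_18_1 lc_e_rc_16_1 lc_e_rc_18_1 lc_e_rc_18_1 lc_e_rc_16_1 lc_e_rc_19_4 lc_e_rc_9_3 lc_e_rc_27_5 lc_e_rc_18_1 lc_e_rc_18_1 lc_e_rc_27_1 lc_e_rc_19_2 lc_e_rc_9_3 lc_e_rc_9_3 lc_e_rc_27_1 lc_e_rc_16_5 lc_e_rc_18_1 lc_e_rc_13_3 lc_e_rc_18_1 lc_e_rc_18_1 lc_e_rc_27_1 lc_e_rc_27_7 lc_e_rc_18_1 lc_e_rc_18_1 lc_e_rc_18_1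 lc_e_rc_18_1 lc_e_rc_18_1 lc_e_rc_4_1 lc_e_rc_19_2 lc_e_rc_18_1 lc_e_rc_18_1 lc_e_rc_4_3 lc_e_rc_19_2 lc_e_rc_4_1 lc_e_rc_9_1 lc_e_rc_18_1 lc_e_rc_16_3 lc_e_rc_9_1 lc_e_rc_16_1 lc_e_rc_18_1 lc_e_rc_18_1 lc_e_rc_27_5 lc_e_rc_13_3 lc_e_rc_18_1 lc_e_rc_18_1 lc_e_rc_13_1 lc_e_rc_18_1 lc_e_rc_13_1 lc_e_rc_18_1 lc_e_rc_13_1 lc_e_rc_27_7 lc_e_rc_19_4 lc_e_rc_27_5) (@D3.rec (fun _ => (Cert rels S Gen.e)) lc_e_rc_18_1 lc_e_rc_27_1 lc_e_rc_18_1 lc_e_rc_16_3 lc_e_rc_16_3 lc_e_rc_18_1 lc_e_rc_18_1 lc_e_Cert_tree lc_e_rc_13_1 lc_e_rc_18_1 lc_e_rc_13_3 lc_e_rc_4_3 lc_e_rc_18_1 lc_e_rc_9_3 lc_e_rc_16_3 lc_e_rc_19_2 lc_e_rc_16_3 lc_e_rc_9_3 lc_e_rc_4_3 lc_e_rc_18_1 lc_e_rc_16_1 lc_e_rc_27_1 lc_e_rc_18_1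 lc_e_rc_13_3 lc_e_rc_13_1 lc_e_rc_27_1 lc_e_rc_18_1 lc_e_rc_9_3 lc_e_rc_27_5 lc_e_rc_19_4 lc_e_rc_9_1 lc_e_rc_4_3 lc_e_rc_4_1 lc_e_rc_13_3 lc_e_rc_27_5 lc_e_rc_13_3 lc_e_rc_27_5 lc_e_rc_16_1 lc_e_rc_18_1 lc_e_rc_18_1 lc_e_rc_13_3 lc_e_rc_18_1 lc_e_rc_27_5 lc_e_rc_18_1 lc_e_rc_18_1 lc_e_rc_13_3 lc_e_rc_9_1 lc_e_rc_16_3 lc_e_rc_18_1 lc_e_rc_16_3 lc_e_rc_18_1 lc_e_rc_19_0 lc_e_rc_13_3 lc_e_rc_18_1 lc_e_rc_16_5 lc_e_rc_13_3 lc_e_rc_18_1 lc_e_rc_9_1 lc_e_rc_16_5 lc_e_rc_4_3 lc_e_rc_16_3 lc_e_rc_18_1) (@D3.rec (fun _ => (Cert rels S Gen.e)) lc_e_rc_13_1 lc_e_rc_16_5 lc_e_rc_9_3 lc_e_rc_27_1 lc_e_rc_19_4 lc_e_rc_13_3 lc_e_rc_18_1 lc_e_rc_27_5 lc_e_rc_27_5 lc_e_rc_13_3 lc_e_rc_16_5 lc_e_rc_18_1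 lc_e_rc_27_7 lc_e_rc_18_1 lc_e_rc_27_7 lc_e_rc_19_4 lc_e_rc_9_3 lc_e_rc_27_1 lc_e_rc_18_1 lc_e_rc_27_5 lc_e_rc_9_3 lc_e_rc_9_3 lc_e_rc_13_3 lc_e_rc_18_1 lc_e_rc_27_1 lc_e_rc_13_3 lc_e_rc_18_1 lc_e_rc_18_1 lc_e_rc_13_1 lc_e_rc_19_4 lc_e_rc_18_1 lc_e_rc_18_1 lc_e_rc_18_1 lc_e_rc_19_4 lc_e_rc_18_1 lc_e_rc_18_1 lc_e_rc_13_3 lc_e_rc_4_1 lc_e_rc_18_1 lc_e_rc_18_1 lc_e_rc_9_1 lc_e_rc_16_5 lc_e_rc_27_5 lc_e_rc_19_0 lc_e_rc_13_3 lc_e_rc_13_3 lc_e_rc_9_3 lc_e_rc_13_1 lc_e_rc_4_1 lc_e_rc_13_1 lc_e_rc_18_1 lc_e_rc_27_7 lc_e_rc_27_1 lc_e_rc_13_1 lc_e_rc_9_3 lc_e_rc_19_0 lc_e_rc_27_5 lc_e_rc_18_1 lc_e_rc_27_5 lc_e_rc_9_1 lc_e_rc_27_5 lc_e_rc_18_1) (@D3.rec (fun _ => (Cert rels S Gen.e)) lc_e_rc_13_3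 lc_e_rc_9_3 lc_e_rc_13_3 lc_e_rc_19_4 lc_e_rc_4_3 lc_e_rc_19_2 lc_e_rc_27_5 lc_e_rc_18_1 lc_e_rc_16_1 lc_e_rc_13_1 lc_e_rc_18_1 lc_e_rc_18_1 lc_e_rc_19_4 lc_e_rc_18_1 lc_e_rc_18_1 lc_e_rc_16_1 lc_e_rc_19_4 lc_e_rc_4_3 lc_e_rc_9_3 lc_e_rc_27_5 lc_e_rc_18_1 lc_e_rc_4_1 lc_e_rc_18_1 lc_e_rc_9_1 lc_e_rc_27_1 lc_e_rc_16_1 lc_e_rc_18_1 lc_e_rc_27_7 lc_e_rc_18_1 lc_e_rc_19_0 lc_e_rc_16_5 lc_e_rc_18_1 lc_e_rc_13_3 lc_e_rc_16_3 lc_e_rc_9_1 lc_e_rc_18_1 lc_e_rc_16_5 lc_e_rc_18_1 lc_e_rc_19_2 lc_e_rc_18_1 lc_e_rc_13_1 lc_e_rc_27_7 lc_e_rc_9_3 lc_e_rc_9_3 lc_e_rc_13_3 lc_e_rc_19_4 lc_e_rc_18_1 lc_e_rc_9_3 lc_e_rc_13_3 lc_e_rc_18_1 lc_e_rc_27_5 lc_e_rc_18_1 lc_e_rc_27_7 lc_e_rc_19_4 lc_e_rc_13_3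 lc_e_rc_16_5 lc_e_rc_16_5 lc_e_rc_18_1 lc_e_rc_18_1 lc_e_rc_13_3 lc_e_rc_19_2 lc_e_rc_18_1) (@D3.rec (fun _ => (Cert rels S Gen.e)) lc_e_rc_9_3 lc_e_rc_18_1 lc_e_rc_27_7 lc_e_rc_27_5 lc_e_rc_18_1 lc_e_rc_18_1 lc_e_rc_4_1 lc_e_rc_18_1 lc_e_rc_27_5 lc_e_rc_16_1 lc_e_rc_18_1 lc_e_rc_13_3 lc_e_rc_13_3 lc_e_rc_4_3 lc_e_rc_9_1 lc_e_rc_9_3 lc_e_rc_16_1 lc_e_rc_13_1 lc_e_rc_18_1 lc_e_rc_18_1 lc_e_rc_18_1 lc_e_rc_18_1 lc_e_rc_27_5 lc_e_rc_4_3 lc_e_rc_18_1 lc_e_rc_4_3 lc_e_rc_27_1 lc_e_rc_27_5 lc_e_rc_27_7 lc_e_rc_13_3 lc_e_rc_18_1 lc_e_rc_4_1 lc_e_rc_9_3 lc_e_rc_18_1 lc_e_rc_27_5 lc_e_rc_18_1 lc_e_rc_13_3 lc_e_rc_16_1 lc_e_rc_13_3 lc_e_rc_9_3 lc_e_rc_16_3 lc_e_rc_16_5 lc_e_rc_16_3 lc_e_rc_13_1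 lc_e_rc_27_1 lc_e_rc_13_3 lc_e_rc_27_7 lc_e_rc_4_3 lc_e_rc_16_1 lc_e_rc_9_3 lc_e_rc_13_3 lc_e_rc_16_1 lc_e_rc_27_1 lc_e_rc_18_1 lc_e_rc_18_1 lc_e_rc_16_5 lc_e_rc_27_1 lc_e_rc_16_3 lc_e_rc_9_3 lc_e_rc_18_1 lc_e_rc_18_1 lc_e_rc_9_3) (@D3.rec (fun _ => (Cert rels S Gen.e)) lc_e_rc_27_1 lc_e_rc_13_3 lc_e_rc_27_5 lc_e_rc_27_5 lc_e_rc_27_5 lc_e_rc_27_5 lc_e_rc_9_3 lc_e_rc_27_5 lc_e_rc_16_3 lc_e_rc_16_1 lc_e_rc_27_5 lc_e_rc_27_5 lc_e_rc_13_1 lc_e_rc_27_1 lc_e_rc_9_1 lc_e_rc_9_3 lc_e_rc_9_3 lc_e_rc_18_1 lc_e_rc_16_3 lc_e_rc_16_5 lc_e_rc_16_5 lc_e_rc_27_1 lc_e_rc_18_1 lc_e_rc_13_3 lc_e_rc_13_3 lc_e_rc_18_1 lc_e_rc_9_3 lc_e_rc_9_3 lc_e_rc_16_3 lc_e_rc_19_4 lc_e_rc_9_3 lc_e_rc_27_5 lc_e_rc_18_1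 lc_e_rc_13_3 lc_e_rc_4_3 lc_e_rc_16_5 lc_e_rc_27_1 lc_e_rc_27_5 lc_e_rc_18_1 lc_e_rc_18_1 lc_e_rc_13_3 lc_e_rc_16_5 lc_e_rc_4_1 lc_e_rc_16_3 lc_e_rc_18_1 lc_e_rc_18_1 lc_e_rc_16_5 lc_e_rc_9_3 lc_e_rc_16_3 lc_e_rc_13_3 lc_e_rc_16_1 lc_e_rc_13_3 lc_e_rc_27_1 lc_e_rc_13_1 lc_e_rc_4_1 lc_e_rc_13_3 lc_e_rc_19_2 lc_e_rc_4_1 lc_e_rc_18_1 lc_e_rc_16_1 lc_e_rc_18_1 lc_e_rc_18_1) (@D3.rec (fun _ => (Cert rels S Gen.e)) lc_e_rc_9_3 lc_e_rc_9_1 lc_e_rc_9_1 lc_e_rc_9_3 lc_e_rc_27_5 lc_e_rc_9_3 lc_e_rc_16_5 lc_e_rc_18_1 lc_e_rc_16_5 lc_e_rc_13_3 lc_e_rc_16_5 lc_e_rc_27_1 lc_e_rc_18_1 lc_e_rc_13_3 lc_e_rc_13_1 lc_e_rc_18_1 lc_e_rc_13_3 lc_e_rc_4_1 lc_e_rc_18_1 lc_e_rc_16_5 lc_e_rc_19_4 lc_e_rc_18_1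 lc_e_rc_18_1 lc_e_rc_18_1 lc_e_rc_19_4 lc_e_rc_19_4 lc_e_rc_18_1 lc_e_rc_19_4 lc_e_rc_16_5 lc_e_rc_18_1 lc_e_rc_18_1 lc_e_rc_27_7 lc_e_rc_13_3 lc_e_rc_18_1 lc_e_rc_18_1 lc_e_rc_9_3 lc_e_rc_27_5 lc_e_rc_13_3 lc_e_rc_16_3 lc_e_rc_19_4 lc_e_rc_9_1 lc_e_rc_13_1 lc_e_rc_27_5 lc_e_rc_19_4 lc_e_rc_19_4 lc_e_rc_16_3 lc_e_rc_19_4 lc_e_rc_27_5 lc_e_rc_18_1 lc_e_rc_16_5 lc_e_rc_18_1 lc_e_rc_27_5 lc_e_rc_18_1 lc_e_rc_9_3 lc_e_rc_13_1 lc_e_rc_18_1 lc_e_rc_27_5 lc_e_rc_27_1 lc_e_rc_4_3 lc_e_rc_13_1 lc_e_rc_27_5 lc_e_rc_27_7) (@D3.rec (fun _ => (Cert rels S Gen.e)) lc_e_rc_27_1 lc_e_rc_4_1 lc_e_rc_9_3 lc_e_rc_9_3 lc_e_rc_4_3 lc_e_rc_27_7 lc_e_rc_18_1 lc_e_rc_13_3 lc_e_rc_13_1 lc_e_rc_19_0 lc_e_rc_18_1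 lc_e_rc_27_5 lc_e_Cert_tree lc_e_rc_13_1 lc_e_rc_18_1 lc_e_rc_16_5 lc_e_rc_16_3 lc_e_rc_19_2 lc_e_rc_19_4 lc_e_rc_18_1 lc_e_rc_4_3 lc_e_rc_9_3 lc_e_rc_16_5 lc_e_rc_27_5 lc_e_rc_9_3 lc_e_rc_13_1 lc_e_rc_18_1 lc_e_rc_16_5 lc_e_rc_27_1 lc_e_rc_13_3 lc_e_rc_13_1 lc_e_rc_19_4 lc_e_rc_18_1 lc_e_rc_18_1 lc_e_rc_13_1 lc_e_rc_18_1 lc_e_rc_16_1 lc_e_rc_18_1 lc_e_rc_18_1 lc_e_rc_27_5 lc_e_Cert_tree lc_e_rc_16_3 lc_e_rc_27_1 lc_e_rc_13_3 lc_e_rc_27_7 lc_e_rc_18_1 lc_e_rc_9_3 lc_e_rc_27_5 lc_e_rc_18_1 lc_e_rc_13_3 lc_e_rc_18_1 lc_e_rc_27_5 lc_e_rc_18_1 lc_e_rc_19_2 lc_e_Cert_tree lc_e_rc_18_1 lc_e_Cert_tree lc_e_rc_18_1 lc_e_rc_16_5 lc_e_rc_27_5 lc_e_rc_18_1 lc_e_rc_27_5) (@D3.rec (fun _ =>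 (Cert rels S Gen.e)) lc_e_rc_13_3 lc_e_rc_18_1 lc_e_rc_16_3 lc_e_rc_13_1 lc_e_rc_13_1 lc_e_rc_18_1 lc_e_rc_27_7 lc_e_rc_4_3 lc_e_rc_13_3 lc_e_rc_18_1 lc_e_rc_18_1 lc_e_rc_18_1 lc_e_rc_9_3 lc_e_rc_18_1 lc_e_rc_9_3 lc_e_rc_18_1 lc_e_rc_16_1 lc_e_rc_19_4 lc_e_rc_18_1 lc_e_rc_13_3 lc_e_rc_18_1 lc_e_rc_16_5 lc_e_rc_27_5 lc_e_rc_18_1 lc_e_rc_16_3 lc_e_rc_13_1 lc_e_rc_13_1 lc_e_rc_18_1 lc_e_rc_13_3 lc_e_rc_16_3 lc_e_rc_27_5 lc_e_rc_27_5 lc_e_rc_18_1 lc_e_rc_27_7 lc_e_rc_18_1 lc_e_rc_13_1 lc_e_rc_13_1 lc_e_rc_18_1 lc_e_rc_18_1 lc_e_rc_27_5 lc_e_rc_16_3 lc_e_rc_13_1 lc_e_rc_4_3 lc_e_rc_16_1 lc_e_rc_18_1 lc_e_rc_18_1 lc_e_rc_16_5 lc_e_rc_16_1 lc_e_rc_27_5 lc_e_rc_18_1 lc_e_rc_9_3 lc_e_rc_27_7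 lc_e_rc_9_3 lc_e_rc_18_1 lc_e_rc_27_7 lc_e_rc_13_1 lc_e_rc_27_5 lc_e_rc_9_3 lc_e_rc_27_5 lc_e_rc_27_5 lc_e_rc_18_1 lc_e_rc_18_1) (@D3.rec (fun _ => (Cert rels S Gen.e)) lc_e_rc_4_3 lc_e_rc_13_3 lc_e_rc_16_5 lc_e_rc_27_1 lc_e_rc_13_3 lc_e_rc_18_1 lc_e_rc_18_1 lc_e_rc_9_3 lc_e_rc_18_1 lc_e_rc_27_1 lc_e_rc_19_4 lc_e_rc_27_5 lc_e_rc_9_1 lc_e_rc_18_1 lc_e_rc_18_1 lc_e_rc_16_5 lc_e_rc_4_3 lc_e_rc_13_1 lc_e_rc_27_5 lc_e_rc_18_1 lc_e_rc_18_1 lc_e_rc_18_1 lc_e_rc_19_2 lc_e_rc_9_1 lc_e_rc_18_1 lc_e_rc_4_1 lc_e_rc_27_5 lc_e_rc_13_1 lc_e_rc_13_3 lc_e_rc_18_1 lc_e_rc_4_3 lc_e_rc_13_3 lc_e_rc_18_1 lc_e_rc_13_3 lc_e_rc_9_3 lc_e_rc_18_1 lc_e_rc_4_3 lc_e_rc_18_1 lc_e_rc_9_3 lc_e_rc_9_3 lc_e_rc_13_1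 lc_e_rc_18_1 lc_e_rc_4_3 lc_e_rc_9_3 lc_e_rc_27_7 lc_e_rc_18_1 lc_e_rc_18_1 lc_e_rc_18_1 lc_e_rc_9_3 lc_e_rc_16_1 lc_e_rc_27_7 lc_e_rc_19_2 lc_e_rc_4_1 lc_e_Cert_tree lc_e_rc_18_1 lc_e_rc_18_1 lc_e_rc_19_4 lc_e_rc_4_3 lc_e_rc_18_1 lc_e_rc_9_3 lc_e_rc_18_1 lc_e_rc_27_7) (@D3.rec (fun _ => (Cert rels S Gen.e)) lc_e_rc_18_1 lc_e_rc_19_2 lc_e_rc_18_1 lc_e_rc_27_5 lc_e_rc_18_1 lc_e_rc_18_1 lc_e_rc_4_1 lc_e_rc_19_2 lc_e_rc_27_7 lc_e_rc_18_1 lc_e_rc_4_1 lc_e_rc_4_3 lc_e_rc_13_3 lc_e_rc_16_5 lc_e_rc_13_3 lc_e_rc_27_7 lc_e_rc_18_1 lc_e_rc_13_3 lc_e_rc_18_1 lc_e_rc_13_3 lc_e_rc_13_3 lc_e_rc_18_1 lc_e_rc_13_1 lc_e_rc_27_1 lc_e_rc_13_1 lc_e_rc_13_3 lc_e_rc_13_3 lc_e_rc_4_1 lc_e_rc_18_1 lc_e_rc_9_3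 lc_e_rc_9_1 lc_e_rc_9_3 lc_e_rc_18_1 lc_e_rc_18_1 lc_e_rc_4_1 lc_e_rc_18_1 lc_e_rc_19_4 lc_e_rc_16_5 lc_e_rc_18_1 lc_e_Cert_tree lc_e_rc_27_5 lc_e_rc_27_7 lc_e_rc_16_1 lc_e_rc_19_4 lc_e_rc_4_3 lc_e_rc_4_3 lc_e_rc_16_3 lc_e_rc_18_1 lc_e_rc_18_1 lc_e_rc_9_1 lc_e_rc_16_3 lc_e_rc_9_3 lc_e_rc_13_3 lc_e_rc_16_5 lc_e_rc_13_3 lc_e_rc_19_2 lc_e_rc_13_1 lc_e_rc_18_1 lc_e_rc_13_3 lc_e_rc_13_1 lc_e_rc_4_1 lc_e_rc_18_1) (@D3.rec (fun _ => (Cert rels S Gen.e)) lc_e_rc_18_1 lc_e_rc_16_1 lc_e_rc_27_7 lc_e_rc_18_1 lc_e_rc_13_1 lc_e_rc_18_1 lc_e_rc_18_1 lc_e_rc_16_1 lc_e_rc_9_3 lc_e_rc_18_1 lc_e_rc_27_5 lc_e_rc_4_1 lc_e_rc_13_3 lc_e_rc_18_1 lc_e_rc_27_7 lc_e_rc_27_1 lc_e_rc_18_1 lc_e_rc_18_1 lc_e_rc_18_1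 lc_e_rc_18_1 lc_e_rc_13_3 lc_e_rc_18_1 lc_e_rc_13_3 lc_e_rc_19_2 lc_e_rc_16_3 lc_e_rc_18_1 lc_e_rc_4_3 lc_e_rc_27_1 lc_e_rc_27_1 lc_e_rc_18_1 lc_e_rc_27_5 lc_e_rc_19_0 lc_e_rc_27_7 lc_e_rc_16_3 lc_e_rc_18_1 lc_e_rc_13_3 lc_e_rc_13_3 lc_e_rc_13_3 lc_e_rc_13_3 lc_e_rc_4_1 lc_e_rc_27_1 lc_e_rc_18_1 lc_e_rc_16_1 lc_e_rc_18_1 lc_e_rc_19_4 lc_e_rc_13_3 lc_e_rc_13_3 lc_e_rc_18_1 lc_e_rc_18_1 lc_e_rc_27_5 lc_e_rc_19_0 lc_e_rc_18_1 lc_e_rc_18_1 lc_e_rc_27_7 lc_e_rc_9_1 lc_e_rc_19_2 lc_e_rc_18_1 lc_e_rc_16_5 lc_e_rc_18_1 lc_e_rc_27_7 lc_e_rc_18_1 lc_e_rc_13_3) (@D3.rec (fun _ => (Cert rels S Gen.e)) lc_e_rc_9_1 lc_e_rc_13_3 lc_e_rc_18_1 lc_e_rc_18_1 lc_e_rc_16_3 lc_e_rc_19_4 lc_e_rc_19_0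 lc_e_Cert_tree lc_e_rc_18_1 lc_e_rc_18_1 lc_e_rc_9_3 lc_e_rc_9_3 lc_e_rc_13_3 lc_e_rc_18_1 lc_e_rc_18_1 lc_e_Cert_tree lc_e_rc_9_1 lc_e_rc_4_3 lc_e_rc_9_1 lc_e_rc_18_1 lc_e_rc_18_1 lc_e_rc_19_4 lc_e_rc_18_1 lc_e_rc_9_3 lc_e_rc_18_1 lc_e_rc_9_3 lc_e_rc_9_3 lc_e_rc_4_3 lc_e_rc_27_5 lc_e_rc_9_3 lc_e_rc_19_2 lc_e_rc_18_1 lc_e_rc_18_1 lc_e_rc_18_1 lc_e_rc_13_3 lc_e_rc_4_3 lc_e_rc_13_1 lc_e_rc_18_1 lc_e_rc_9_3 lc_e_rc_18_1 lc_e_rc_13_3 lc_e_rc_13_3 lc_e_rc_9_3 lc_e_rc_13_3 lc_e_rc_18_1 lc_e_rc_16_3 lc_e_rc_18_1 lc_e_rc_19_0 lc_e_rc_27_1 lc_e_rc_13_3 lc_e_rc_16_1 lc_e_rc_13_3 lc_e_rc_18_1 lc_e_rc_13_1 lc_e_rc_16_1 lc_e_rc_4_3 lc_e_rc_19_2 lc_e_rc_18_1 lc_e_rc_4_3 lc_e_rc_4_3 lc_e_rc_16_1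 lc_e_rc_13_3)
def ce_e_31 : D2 → D3 → (Cert rels S Gen.e) := @D2.rec (fun _ => D3 → (Cert rels S Gen.e)) (@D3.rec (fun _ => (Cert rels S Gen.e)) lc_e_rc_16_5 lc_e_rc_9_1 lc_e_rc_18_1 lc_e_rc_27_7 lc_e_rc_16_3 lc_e_rc_9_1 lc_e_rc_13_1 lc_e_rc_18_1 lc_e_rc_9_3 lc_e_rc_13_3 lc_e_rc_9_3 lc_e_rc_27_1 lc_e_rc_13_3 lc_e_rc_18_1 lc_e_rc_18_1 lc_e_rc_13_3 lc_e_rc_18_1 lc_e_rc_16_1 lc_e_rc_13_1 lc_e_rc_9_1 lc_e_rc_18_1 lc_e_rc_18_1 lc_e_rc_18_1 lc_e_rc_16_5 lc_e_rc_16_5 lc_e_rc_4_3 lc_e_rc_4_1 lc_e_rc_18_1 lc_e_rc_13_1 lc_e_rc_9_1 lc_e_rc_13_1 lc_e_rc_9_3 lc_e_rc_27_5 lc_e_rc_18_1 lc_e_rc_19_4 lc_e_rc_27_1 lc_e_rc_4_1 lc_e_rc_16_5 lc_e_rc_19_4 lc_e_rc_16_3 lc_e_rc_19_4 lc_e_rc_4_1 lc_e_rc_16_5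 lc_e_rc_9_3 lc_e_rc_9_3 lc_e_rc_9_3 lc_e_rc_18_1 lc_e_rc_18_1 lc_e_rc_9_1 lc_e_rc_19_2 lc_e_rc_18_1 lc_e_rc_18_1 lc_e_rc_13_3 lc_e_rc_13_3 lc_e_rc_13_3 lc_e_rc_18_1 lc_e_rc_18_1 lc_e_rc_16_3 lc_e_rc_9_3 lc_e_rc_13_3 lc_e_rc_9_3 lc_e_rc_16_3) (@D3.rec (fun _ => (Cert rels S Gen.e)) lc_e_rc_16_5 lc_e_rc_9_1 lc_e_rc_27_5 lc_e_rc_4_3 lc_e_rc_9_1 lc_e_rc_13_3 lc_e_rc_19_2 lc_e_rc_27_5 lc_e_rc_27_5 lc_e_rc_4_3 lc_e_rc_13_1 lc_e_rc_27_5 lc_e_rc_16_5 lc_e_rc_18_1 lc_e_rc_18_1 lc_e_rc_13_1 lc_e_rc_27_7 lc_e_rc_13_3 lc_e_rc_13_3 lc_e_rc_16_5 lc_e_rc_27_7 lc_e_rc_9_1 lc_e_rc_4_1 lc_e_rc_27_1 lc_e_rc_13_3 lc_e_rc_19_2 lc_e_rc_13_3 lc_e_rc_13_3 lc_e_rc_18_1 lc_e_rc_13_3 lc_e_rc_18_1 lc_e_rc_13_3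 lc_e_rc_4_3 lc_e_rc_18_1 lc_e_rc_18_1 lc_e_rc_16_5 lc_e_rc_27_7 lc_e_rc_13_3 lc_e_rc_18_1 lc_e_rc_9_3 lc_e_rc_13_3 lc_e_rc_18_1 lc_e_rc_18_1 lc_e_rc_4_3 lc_e_rc_9_1 lc_e_rc_27_5 lc_e_rc_27_7 lc_e_rc_9_3 lc_e_rc_18_1 lc_e_rc_27_7 lc_e_rc_18_1 lc_e_rc_18_1 lc_e_rc_13_1 lc_e_rc_13_1 lc_e_rc_18_1 lc_e_rc_9_3 lc_e_rc_16_1 lc_e_rc_18_1 lc_e_rc_13_3 lc_e_Cert_tree lc_e_rc_13_1 lc_e_rc_13_3) (@D3.rec (fun _ => (Cert rels S Gen.e)) lc_e_rc_13_3 lc_e_rc_13_1 lc_e_rc_9_1 lc_e_rc_9_1 lc_e_rc_4_3 lc_e_rc_4_1 lc_e_rc_13_3 lc_e_rc_16_5 lc_e_rc_18_1 lc_e_rc_13_1 lc_e_rc_27_1 lc_e_rc_18_1 lc_e_rc_13_3 lc_e_rc_13_1 lc_e_rc_13_3 lc_e_rc_13_3 lc_e_rc_18_1 lc_e_rc_19_2 lc_e_rc_13_3 lc_e_rc_13_3 lc_e_rc_16_5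 lc_e_rc_13_3 lc_e_rc_16_1 lc_e_rc_27_1 lc_e_rc_9_3 lc_e_rc_19_2 lc_e_rc_9_3 lc_e_rc_18_1 lc_e_rc_13_3 lc_e_rc_18_1 lc_e_rc_13_3 lc_e_rc_19_2 lc_e_rc_19_4 lc_e_rc_27_7 lc_e_rc_27_7 lc_e_rc_9_3 lc_e_rc_9_3 lc_e_rc_16_1 lc_e_rc_13_3 lc_e_rc_27_1 lc_e_rc_18_1 lc_e_rc_16_5 lc_e_rc_18_1 lc_e_rc_19_4 lc_e_rc_19_0 lc_e_rc_18_1 lc_e_rc_27_5 lc_e_rc_13_1 lc_e_rc_13_1 lc_e_rc_16_3 lc_e_rc_4_1 lc_e_rc_13_1 lc_e_rc_27_5 lc_e_rc_19_4 lc_e_rc_18_1 lc_e_rc_27_1 lc_e_rc_13_3 lc_e_rc_9_3 lc_e_rc_18_1 lc_e_rc_27_7 lc_e_rc_18_1 lc_e_rc_9_3) (@D3.rec (fun _ => (Cert rels S Gen.e)) lc_e_rc_4_3 lc_e_rc_19_4 lc_e_rc_13_3 lc_e_rc_16_5 lc_e_rc_13_1 lc_e_rc_18_1 lc_e_rc_13_3 lc_e_rc_18_1 lc_e_rc_9_1 lc_e_rc_18_1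 lc_e_rc_27_5 lc_e_rc_16_5 lc_e_rc_27_7 lc_e_rc_4_3 lc_e_rc_9_3 lc_e_Cert_tree lc_e_rc_18_1 lc_e_rc_27_1 lc_e_rc_4_3 lc_e_rc_9_3 lc_e_rc_16_5 lc_e_rc_16_5 lc_e_rc_4_3 lc_e_rc_13_1 lc_e_rc_13_1 lc_e_rc_16_3 lc_e_rc_18_1 lc_e_rc_27_7 lc_e_rc_18_1 lc_e_rc_18_1 lc_e_rc_27_5 lc_e_rc_16_5 lc_e_rc_9_3 lc_e_rc_18_1 lc_e_rc_18_1 lc_e_rc_18_1 lc_e_rc_16_5 lc_e_rc_13_1 lc_e_rc_18_1 lc_e_rc_27_7 lc_e_rc_18_1 lc_e_rc_9_3 lc_e_rc_18_1 lc_e_rc_13_1 lc_e_rc_27_5 lc_e_rc_13_1 lc_e_rc_16_3 lc_e_rc_18_1 lc_e_rc_13_1 lc_e_rc_16_5 lc_e_rc_13_3 lc_e_rc_9_3 lc_e_rc_18_1 lc_e_rc_18_1 lc_e_rc_27_5 lc_e_rc_18_1 lc_e_rc_18_1 lc_e_rc_13_1 lc_e_rc_18_1 lc_e_rc_18_1 lc_e_Cert_tree lc_e_rc_18_1) (@D3.rec (fun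 _ => (Cert rels S Gen.e)) lc_e_rc_9_3 lc_e_rc_9_3 lc_e_rc_13_3 lc_e_rc_4_3 lc_e_rc_16_3 lc_e_rc_9_3 lc_e_rc_18_1 lc_e_rc_13_3 lc_e_rc_18_1 lc_e_rc_18_1 lc_e_rc_18_1 lc_e_rc_18_1 lc_e_rc_4_1 lc_e_rc_9_1 lc_e_rc_4_3 lc_e_rc_18_1 lc_e_rc_18_1 lc_e_rc_16_1 lc_e_rc_18_1 lc_e_rc_4_3 lc_e_rc_16_5 lc_e_rc_18_1 lc_e_rc_13_1 lc_e_Cert_tree lc_e_rc_27_1 lc_e_rc_18_1 lc_e_rc_27_1 lc_e_rc_16_1 lc_e_rc_9_3 lc_e_rc_27_1 lc_e_rc_18_1 lc_e_rc_16_5 lc_e_rc_27_5 lc_e_rc_18_1 lc_e_rc_18_1 lc_e_rc_27_1 lc_e_rc_27_5 lc_e_rc_13_3 lc_e_rc_9_3 lc_e_rc_27_5 lc_e_rc_9_3 lc_e_rc_18_1 lc_e_rc_13_1 lc_e_rc_27_5 lc_e_rc_18_1 lc_e_rc_27_5 lc_e_rc_27_5 lc_e_rc_18_1 lc_e_rc_18_1 lc_e_rc_16_3 lc_e_rc_18_1 lc_e_rc_16_5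 lc_e_rc_27_1 lc_e_rc_27_7 lc_e_rc_13_1 lc_e_rc_13_1 lc_e_rc_16_5 lc_e_rc_19_4 lc_e_rc_27_5 lc_e_rc_13_1 lc_e_rc_4_3 lc_e_rc_13_1) (@D3.rec (fun _ => (Cert rels S Gen.e)) lc_e_rc_18_1 lc_e_rc_9_3 lc_e_rc_18_1 lc_e_rc_18_1 lc_e_rc_18_1 lc_e_rc_18_1 lc_e_rc_9_3 lc_e_rc_16_3 lc_e_rc_18_1 lc_e_rc_18_1 lc_e_rc_13_3 lc_e_rc_16_5 lc_e_rc_9_3 lc_e_rc_16_5 lc_e_rc_16_3 lc_e_rc_19_4 lc_e_rc_18_1 lc_e_rc_18_1 lc_e_rc_18_1 lc_e_rc_18_1 lc_e_rc_9_3 lc_e_rc_18_1 lc_e_rc_13_3 lc_e_rc_18_1 lc_e_rc_4_3 lc_e_rc_19_2 lc_e_rc_18_1 lc_e_rc_27_5 lc_e_rc_18_1 lc_e_rc_9_1 lc_e_Cert_tree lc_e_rc_18_1 lc_e_rc_27_7 lc_e_rc_16_3 lc_e_rc_19_4 lc_e_rc_9_3 lc_e_rc_18_1 lc_e_rc_18_1 lc_e_rc_4_3 lc_e_rc_9_1 lc_e_rc_18_1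 lc_e_rc_9_3 lc_e_rc_9_3 lc_e_rc_13_3 lc_e_rc_9_1 lc_e_rc_13_3 lc_e_rc_9_3 lc_e_rc_18_1 lc_e_rc_4_3 lc_e_rc_13_3 lc_e_rc_16_1 lc_e_rc_9_3 lc_e_rc_4_3 lc_e_rc_18_1 lc_e_rc_4_3 lc_e_rc_27_7 lc_e_rc_16_5 lc_e_rc_18_1 lc_e_rc_9_3 lc_e_rc_18_1 lc_e_rc_18_1 lc_e_rc_19_0) (@D3.rec (fun _ => (Cert rels S Gen.e)) lc_e_rc_13_3 lc_e_rc_13_3 lc_e_rc_27_5 lc_e_rc_19_0 lc_e_rc_27_5 lc_e_rc_16_1 lc_e_rc_16_5 lc_e_rc_19_2 lc_e_rc_18_1 lc_e_rc_9_1 lc_e_rc_9_3 lc_e_rc_18_1 lc_e_rc_18_1 lc_e_rc_4_1 lc_e_rc_9_1 lc_e_rc_4_3 lc_e_rc_27_5 lc_e_rc_18_1 lc_e_rc_4_3 lc_e_rc_18_1 lc_e_rc_18_1 lc_e_rc_27_7 lc_e_rc_9_3 lc_e_rc_13_3 lc_e_rc_9_3 lc_e_rc_27_1 lc_e_rc_27_5 lc_e_rc_27_5 lc_e_rc_16_1 lc_e_rc_27_5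 lc_e_rc_16_3 lc_e_rc_27_1 lc_e_rc_27_5 lc_e_rc_18_1 lc_e_rc_13_1 lc_e_rc_18_1 lc_e_rc_13_1 lc_e_rc_13_3 lc_e_rc_27_5 lc_e_rc_27_7 lc_e_rc_18_1 lc_e_rc_16_5 lc_e_rc_18_1 lc_e_rc_18_1 lc_e_rc_18_1 lc_e_rc_19_4 lc_e_rc_9_3 lc_e_rc_18_1 lc_e_rc_18_1 lc_e_rc_18_1 lc_e_rc_18_1 lc_e_rc_16_5 lc_e_rc_4_1 lc_e_rc_13_1 lc_e_rc_19_4 lc_e_rc_16_3 lc_e_rc_18_1 lc_e_rc_13_3 lc_e_rc_27_1 lc_e_rc_18_1 lc_e_rc_16_5 lc_e_rc_16_5) (@D3.rec (fun _ => (Cert rels S Gen.e)) lc_e_rc_4_3 lc_e_rc_13_1 lc_e_rc_13_1 lc_e_rc_4_3 lc_e_rc_16_1 lc_e_rc_27_7 lc_e_rc_19_4 lc_e_rc_16_1 lc_e_rc_16_1 lc_e_rc_9_3 lc_e_rc_27_1 lc_e_rc_9_1 lc_e_rc_19_2 lc_e_rc_13_3 lc_e_rc_18_1 lc_e_rc_19_2 lc_e_rc_27_5 lc_e_rc_9_3 lc_e_rc_19_4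 lc_e_rc_16_5 lc_e_rc_27_5 lc_e_rc_16_1 lc_e_rc_9_3 lc_e_rc_13_3 lc_e_rc_16_5 lc_e_rc_27_5 lc_e_rc_18_1 lc_e_rc_9_3 lc_e_rc_13_3 lc_e_rc_27_7 lc_e_rc_13_3 lc_e_rc_16_1 lc_e_rc_18_1 lc_e_rc_16_5 lc_e_rc_13_3 lc_e_rc_18_1 lc_e_rc_18_1 lc_e_rc_9_3 lc_e_rc_18_1 lc_e_rc_13_3 lc_e_rc_27_5 lc_e_rc_27_7 lc_e_rc_9_3 lc_e_rc_18_1 lc_e_rc_18_1 lc_e_rc_18_1 lc_e_rc_16_1 lc_e_rc_18_1 lc_e_rc_16_5 lc_e_rc_13_1 lc_e_rc_9_3 lc_e_rc_18_1 lc_e_rc_27_5 lc_e_rc_18_1 lc_e_Cert_tree lc_e_rc_18_1 lc_e_rc_9_3 lc_e_rc_13_3 lc_e_rc_18_1 lc_e_rc_9_1 lc_e_rc_13_3 lc_e_rc_27_1) (@D3.rec (fun _ => (Cert rels S Gen.e)) lc_e_rc_13_1 lc_e_rc_9_3 lc_e_rc_16_5 lc_e_rc_27_5 lc_e_rc_18_1 lc_e_rc_19_4 lc_e_rc_9_3 lc_e_rc_4_3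 lc_e_rc_19_4 lc_e_rc_27_5 lc_e_rc_27_1 lc_e_rc_18_1 lc_e_rc_9_3 lc_e_rc_27_7 lc_e_rc_4_3 lc_e_rc_13_3 lc_e_rc_16_5 lc_e_rc_18_1 lc_e_rc_4_3 lc_e_rc_27_1 lc_e_rc_9_3 lc_e_rc_13_3 lc_e_rc_4_3 lc_e_rc_13_1 lc_e_rc_4_3 lc_e_rc_27_5 lc_e_rc_18_1 lc_e_rc_18_1 lc_e_rc_18_1 lc_e_rc_13_3 lc_e_rc_4_3 lc_e_rc_4_3 lc_e_rc_13_1 lc_e_rc_19_2 lc_e_rc_16_3 lc_e_Cert_tree lc_e_Cert_tree lc_e_rc_18_1 lc_e_Cert_tree lc_e_rc_18_1 lc_e_rc_4_1 lc_e_rc_18_1 lc_e_rc_4_1 lc_e_rc_18_1 lc_e_rc_27_7 lc_e_rc_16_5 lc_e_rc_19_2 lc_e_rc_9_3 lc_e_rc_27_5 lc_e_rc_18_1 lc_e_rc_4_3 lc_e_rc_18_1 lc_e_rc_9_3 lc_e_rc_27_5 lc_e_rc_4_3 lc_e_rc_19_4 lc_e_rc_19_4 lc_e_rc_18_1 lc_e_rc_27_5 lc_e_rc_13_3 lc_e_rc_16_5 lc_e_rc_27_1)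 (@D3.rec (fun _ => (Cert rels S Gen.e)) lc_e_rc_18_1 lc_e_rc_9_1 lc_e_rc_18_1 lc_e_rc_13_1 lc_e_rc_18_1 lc_e_rc_16_3 lc_e_rc_18_1 lc_e_Cert_tree lc_e_rc_9_3 lc_e_rc_18_1 lc_e_rc_9_1 lc_e_rc_18_1 lc_e_rc_18_1 lc_e_rc_18_1 lc_e_rc_16_5 lc_e_rc_13_1 lc_e_rc_18_1 lc_e_rc_18_1 lc_e_rc_18_1 lc_e_rc_27_1 lc_e_rc_16_5 lc_e_rc_13_1 lc_e_rc_19_2 lc_e_rc_27_1 lc_e_rc_9_1 lc_e_rc_27_5 lc_e_rc_27_5 lc_e_rc_18_1 lc_e_rc_9_3 lc_e_rc_9_3 lc_e_rc_13_1 lc_e_rc_27_5 lc_e_rc_18_1 lc_e_rc_18_1 lc_e_rc_18_1 lc_e_rc_18_1 lc_e_rc_16_5 lc_e_rc_16_5 lc_e_Cert_tree lc_e_Cert_tree lc_e_rc_18_1 lc_e_rc_16_3 lc_e_rc_19_4 lc_e_rc_4_1 lc_e_rc_9_1 lc_e_rc_13_1 lc_e_rc_27_7 lc_e_rc_18_1 lc_e_rc_19_4 lc_e_rc_13_3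 lc_e_rc_27_1 lc_e_rc_18_1 lc_e_rc_13_1 lc_e_rc_18_1 lc_e_rc_18_1 lc_e_rc_19_2 lc_e_rc_13_3 lc_e_rc_16_3 lc_e_rc_9_1 lc_e_rc_18_1 lc_e_rc_18_1 lc_e_Cert_tree) (@D3.rec (fun _ => (Cert rels S Gen.e)) lc_e_rc_27_5 lc_e_rc_18_1 lc_e_rc_16_5 lc_e_rc_13_3 lc_e_rc_18_1 lc_e_rc_18_1 lc_e_rc_19_4 lc_e_rc_19_4 lc_e_rc_27_7 lc_e_rc_18_1 lc_e_rc_18_1 lc_e_rc_27_1 lc_e_rc_13_3 lc_e_rc_18_1 lc_e_rc_27_7 lc_e_rc_13_3 lc_e_rc_13_1 lc_e_rc_16_3 lc_e_rc_4_3 lc_e_rc_27_5 lc_e_rc_4_3 lc_e_rc_27_7 lc_e_rc_18_1 lc_e_rc_18_1 lc_e_rc_18_1 lc_e_rc_9_3 lc_e_rc_18_1 lc_e_rc_16_5 lc_e_rc_18_1 lc_e_rc_18_1 lc_e_rc_13_3 lc_e_rc_27_1 lc_e_rc_13_3 lc_e_rc_16_1 lc_e_rc_27_1 lc_e_rc_13_1 lc_e_rc_18_1 lc_e_rc_13_3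 lc_e_rc_16_1 lc_e_rc_16_3 lc_e_rc_18_1 lc_e_rc_18_1 lc_e_rc_18_1 lc_e_rc_13_3 lc_e_rc_9_1 lc_e_rc_16_3 lc_e_rc_18_1 lc_e_rc_9_3 lc_e_rc_27_1 lc_e_rc_18_1 lc_e_rc_9_1 lc_e_rc_18_1 lc_e_rc_16_3 lc_e_rc_19_2 lc_e_rc_9_1 lc_e_rc_18_1 lc_e_rc_16_5 lc_e_rc_18_1 lc_e_rc_18_1 lc_e_rc_16_5 lc_e_rc_4_3 lc_e_Cert_tree) (@D3.rec (fun _ => (Cert rels S Gen.e)) lc_e_rc_18_1 lc_e_rc_16_5 lc_e_rc_19_4 lc_e_rc_9_3 lc_e_rc_18_1 lc_e_rc_4_3 lc_e_rc_19_4 lc_e_rc_18_1 lc_e_rc_18_1 lc_e_rc_9_3 lc_e_rc_27_5 lc_e_rc_18_1 lc_e_rc_4_3 lc_e_rc_9_3 lc_e_rc_13_3 lc_e_rc_16_5 lc_e_rc_13_1 lc_e_rc_18_1 lc_e_rc_16_3 lc_e_rc_16_3 lc_e_rc_9_1 lc_e_rc_18_1 lc_e_rc_19_4 lc_e_rc_13_3 lc_e_rc_13_3 lc_e_rc_9_1 lc_e_rc_13_3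 lc_e_rc_18_1 lc_e_rc_18_1 lc_e_rc_16_3 lc_e_rc_27_1 lc_e_rc_4_3 lc_e_rc_16_1 lc_e_rc_16_5 lc_e_rc_18_1 lc_e_rc_13_3 lc_e_rc_9_1 lc_e_rc_13_3 lc_e_rc_18_1 lc_e_rc_27_1 lc_e_rc_18_1 lc_e_rc_16_3 lc_e_rc_19_2 lc_e_rc_9_3 lc_e_rc_18_1 lc_e_rc_9_3 lc_e_rc_18_1 lc_e_rc_16_3 lc_e_rc_13_1 lc_e_rc_18_1 lc_e_rc_9_3 lc_e_rc_18_1 lc_e_rc_13_3 lc_e_rc_9_3 lc_e_rc_18_1 lc_e_rc_9_3 lc_e_rc_27_5 lc_e_rc_4_3 lc_e_rc_18_1 lc_e_rc_4_3 lc_e_rc_18_1 lc_e_rc_27_1) (@D3.rec (fun _ => (Cert rels S Gen.e)) lc_e_rc_13_3 lc_e_rc_16_5 lc_e_rc_9_3 lc_e_rc_27_5 lc_e_rc_18_1 lc_e_rc_18_1 lc_e_rc_27_1 lc_e_rc_13_3 lc_e_rc_13_3 lc_e_rc_4_3 lc_e_rc_18_1 lc_e_rc_18_1 lc_e_rc_18_1 lc_e_rc_18_1 lc_e_rc_27_5 lc_e_rc_13_3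 lc_e_rc_9_3 lc_e_rc_9_3 lc_e_rc_18_1 lc_e_rc_16_1 lc_e_rc_16_1 lc_e_rc_18_1 lc_e_rc_13_3 lc_e_rc_16_5 lc_e_rc_19_2 lc_e_rc_18_1 lc_e_rc_13_3 lc_e_rc_9_3 lc_e_rc_18_1 lc_e_rc_18_1 lc_e_rc_18_1 lc_e_rc_9_3 lc_e_rc_9_3 lc_e_rc_9_3 lc_e_rc_18_1 lc_e_rc_27_5 lc_e_rc_27_7 lc_e_rc_18_1 lc_e_rc_27_5 lc_e_rc_18_1 lc_e_rc_18_1 lc_e_rc_19_4 lc_e_rc_18_1 lc_e_rc_9_1 lc_e_rc_27_5 lc_e_rc_19_4 lc_e_rc_16_5 lc_e_rc_13_1 lc_e_rc_27_7 lc_e_rc_13_1 lc_e_rc_16_5 lc_e_rc_27_7 lc_e_rc_16_5 lc_e_rc_9_1 lc_e_rc_18_1 lc_e_rc_4_1 lc_e_rc_13_3 lc_e_Cert_tree lc_e_rc_18_1 lc_e_rc_18_1 lc_e_rc_27_5 lc_e_rc_27_5) (@D3.rec (fun _ => (Cert rels S Gen.e)) lc_e_rc_13_3 lc_e_rc_13_1 lc_e_rc_9_3 lc_e_rc_18_1 lc_e_rc_9_3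 lc_e_rc_27_5 lc_e_rc_18_1 lc_e_rc_27_5 lc_e_rc_18_1 lc_e_rc_18_1 lc_e_rc_18_1 lc_e_rc_16_1 lc_e_rc_13_3 lc_e_rc_27_7 lc_e_rc_13_3 lc_e_rc_18_1 lc_e_rc_16_3 lc_e_rc_4_3 lc_e_rc_13_3 lc_e_rc_18_1 lc_e_rc_13_1 lc_e_rc_13_3 lc_e_rc_9_1 lc_e_rc_27_1 lc_e_rc_13_3 lc_e_rc_18_1 lc_e_rc_13_1 lc_e_rc_16_5 lc_e_rc_18_1 lc_e_rc_9_1 lc_e_rc_16_5 lc_e_rc_27_5 lc_e_rc_18_1 lc_e_rc_9_3 lc_e_rc_13_1 lc_e_rc_9_3 lc_e_rc_27_5 lc_e_rc_13_3 lc_e_rc_19_4 lc_e_rc_18_1 lc_e_rc_18_1 lc_e_rc_13_3 lc_e_rc_16_3 lc_e_rc_18_1 lc_e_rc_13_3 lc_e_rc_19_2 lc_e_rc_18_1 lc_e_rc_27_1 lc_e_rc_4_1 lc_e_rc_9_3 lc_e_rc_18_1 lc_e_rc_18_1 lc_e_rc_27_5 lc_e_rc_18_1 lc_e_rc_18_1 lc_e_rc_18_1 lc_e_Cert_tree lc_e_rc_27_5 lc_e_rc_18_1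 lc_e_rc_13_3 lc_e_rc_18_1 lc_e_rc_13_3) (@D3.rec (fun _ => (Cert rels S Gen.e)) lc_e_rc_16_3 lc_e_rc_9_3 lc_e_rc_9_3 lc_e_rc_13_1 lc_e_rc_18_1 lc_e_rc_18_1 lc_e_rc_27_5 lc_e_rc_19_2 lc_e_rc_18_1 lc_e_rc_13_3 lc_e_rc_27_5 lc_e_rc_13_3 lc_e_rc_18_1 lc_e_rc_16_1 lc_e_rc_18_1 lc_e_rc_4_1 lc_e_rc_27_7 lc_e_rc_27_5 lc_e_rc_19_0 lc_e_rc_18_1 lc_e_rc_9_3 lc_e_rc_27_1 lc_e_rc_4_1 lc_e_rc_16_5 lc_e_rc_9_3 lc_e_rc_9_1 lc_e_rc_18_1 lc_e_rc_16_3 lc_e_rc_18_1 lc_e_rc_13_3 lc_e_rc_13_3 lc_e_rc_13_3 lc_e_rc_18_1 lc_e_rc_27_5 lc_e_rc_16_5 lc_e_rc_18_1 lc_e_rc_13_3 lc_e_rc_19_4 lc_e_rc_9_3 lc_e_rc_13_3 lc_e_rc_16_5 lc_e_rc_18_1 lc_e_rc_13_1 lc_e_rc_13_3 lc_e_rc_9_3 lc_e_rc_18_1 lc_e_rc_18_1 lc_e_rc_9_3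 lc_e_rc_9_1 lc_e_rc_18_1 lc_e_rc_19_4 lc_e_rc_16_5 lc_e_rc_27_5 lc_e_rc_9_1 lc_e_rc_18_1 lc_e_rc_18_1 lc_e_rc_9_3 lc_e_rc_18_1 lc_e_rc_16_1 lc_e_rc_19_4 lc_e_rc_27_1 lc_e_rc_13_3) (@D3.rec (fun _ => (Cert rels S Gen.e)) lc_e_rc_18_1 lc_e_rc_4_1 lc_e_rc_4_3 lc_e_rc_18_1 lc_e_rc_9_3 lc_e_rc_16_5 lc_e_rc_4_1 lc_e_rc_18_1 lc_e_rc_18_1 lc_e_rc_16_5 lc_e_rc_4_3 lc_e_rc_27_1 lc_e_rc_18_1 lc_e_rc_13_3 lc_e_rc_9_3 lc_e_rc_16_3 lc_e_rc_27_1 lc_e_rc_18_1 lc_e_rc_13_1 lc_e_rc_13_1 lc_e_rc_16_5 lc_e_rc_9_3 lc_e_rc_16_5 lc_e_rc_16_5 lc_e_rc_16_5 lc_e_rc_18_1 lc_e_rc_18_1 lc_e_rc_27_1 lc_e_rc_27_5 lc_e_rc_18_1 lc_e_rc_9_3 lc_e_rc_18_1 lc_e_rc_4_3 lc_e_rc_19_2 lc_e_rc_13_3 lc_e_rc_9_3 lc_e_rc_27_1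 lc_e_rc_9_3 lc_e_rc_27_1 lc_e_rc_18_1 lc_e_rc_16_3 lc_e_rc_18_1 lc_e_rc_27_7 lc_e_rc_13_3 lc_e_rc_18_1 lc_e_rc_16_5 lc_e_rc_18_1 lc_e_rc_9_3 lc_e_rc_27_1 lc_e_rc_18_1 lc_e_rc_18_1 lc_e_rc_18_1 lc_e_rc_9_3 lc_e_rc_18_1 lc_e_rc_18_1 lc_e_rc_16_1 lc_e_rc_18_1 lc_e_rc_13_1 lc_e_rc_27_1 lc_e_rc_27_5 lc_e_rc_4_3 lc_e_rc_19_2) (@D3.rec (fun _ => (Cert rels S Gen.e)) lc_e_rc_13_3 lc_e_rc_13_3 lc_e_rc_13_3 lc_e_rc_18_1 lc_e_rc_13_3 lc_e_rc_13_3 lc_e_rc_13_1 lc_e_rc_16_5 lc_e_rc_13_3 lc_e_rc_19_0 lc_e_rc_18_1 lc_e_rc_9_1 lc_e_rc_16_3 lc_e_rc_13_3 lc_e_rc_13_1 lc_e_rc_27_5 lc_e_rc_18_1 lc_e_rc_16_1 lc_e_rc_13_3 lc_e_rc_4_3 lc_e_rc_27_1 lc_e_rc_18_1 lc_e_rc_9_3 lc_e_rc_18_1 lc_e_rc_27_7 lc_e_rc_18_1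 lc_e_rc_13_3 lc_e_rc_18_1 lc_e_rc_19_4 lc_e_rc_9_1 lc_e_rc_27_7 lc_e_rc_18_1 lc_e_rc_13_3 lc_e_rc_27_5 lc_e_rc_27_7 lc_e_rc_4_1 lc_e_rc_16_3 lc_e_rc_18_1 lc_e_rc_9_1 lc_e_rc_13_3 lc_e_rc_18_1 lc_e_rc_13_3 lc_e_rc_19_4 lc_e_rc_16_5 lc_e_rc_18_1 lc_e_rc_4_1 lc_e_rc_18_1 lc_e_rc_19_0 lc_e_rc_18_1 lc_e_rc_16_1 lc_e_rc_13_1 lc_e_rc_13_1 lc_e_rc_19_4 lc_e_rc_18_1 lc_e_rc_13_3 lc_e_rc_13_3 lc_e_rc_9_3 lc_e_rc_16_5 lc_e_rc_9_3 lc_e_Cert_tree lc_e_rc_27_7 lc_e_rc_16_3) (@D3.rec (fun _ => (Cert rels S Gen.e)) lc_e_rc_4_3 lc_e_rc_13_3 lc_e_rc_18_1 lc_e_rc_19_4 lc_e_rc_19_4 lc_e_rc_13_1 lc_e_rc_18_1 lc_e_rc_9_1 lc_e_rc_27_7 lc_e_rc_9_3 lc_e_rc_13_3 lc_e_rc_19_2 lc_e_rc_16_3 lc_e_rc_27_5 lc_e_rc_16_5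 lc_e_rc_9_3 lc_e_rc_18_1 lc_e_rc_18_1 lc_e_rc_27_1 lc_e_rc_9_3 lc_e_rc_19_4 lc_e_rc_18_1 lc_e_rc_19_4 lc_e_rc_9_1 lc_e_rc_4_3 lc_e_rc_27_5 lc_e_rc_18_1 lc_e_rc_18_1 lc_e_rc_18_1 lc_e_rc_18_1 lc_e_rc_19_4 lc_e_rc_18_1 lc_e_rc_13_3 lc_e_rc_16_5 lc_e_rc_4_3 lc_e_rc_18_1 lc_e_rc_19_4 lc_e_rc_18_1 lc_e_rc_18_1 lc_e_rc_18_1 lc_e_rc_9_1 lc_e_rc_18_1 lc_e_rc_13_3 lc_e_rc_9_1 lc_e_rc_13_1 lc_e_rc_18_1 lc_e_rc_18_1 lc_e_rc_9_3 lc_e_rc_18_1 lc_e_rc_9_3 lc_e_rc_18_1 lc_e_rc_4_1 lc_e_rc_13_3 lc_e_rc_13_1 lc_e_rc_16_3 lc_e_rc_9_3 lc_e_rc_13_3 lc_e_rc_16_5 lc_e_Cert_tree lc_e_rc_13_1 lc_e_rc_27_5 lc_e_rc_18_1) (@D3.rec (fun _ => (Cert rels S Gen.e)) lc_e_rc_13_3 lc_e_rc_27_1 lc_e_rc_13_3 lc_e_rc_19_0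 lc_e_rc_27_5 lc_e_rc_18_1 lc_e_rc_18_1 lc_e_rc_13_1 lc_e_rc_18_1 lc_e_rc_13_1 lc_e_rc_18_1 lc_e_rc_13_3 lc_e_rc_16_5 lc_e_rc_18_1 lc_e_rc_9_3 lc_e_rc_19_4 lc_e_rc_18_1 lc_e_rc_18_1 lc_e_rc_19_0 lc_e_rc_13_3 lc_e_rc_18_1 lc_e_rc_13_3 lc_e_rc_18_1 lc_e_rc_4_1 lc_e_rc_18_1 lc_e_rc_18_1 lc_e_rc_19_0 lc_e_rc_19_4 lc_e_rc_13_1 lc_e_rc_9_3 lc_e_rc_13_3 lc_e_rc_27_7 lc_e_rc_16_5 lc_e_rc_18_1 lc_e_rc_9_3 lc_e_rc_16_5 lc_e_rc_19_4 lc_e_rc_9_3 lc_e_rc_13_3 lc_e_rc_27_5 lc_e_rc_27_5 lc_e_rc_18_1 lc_e_rc_13_3 lc_e_rc_19_4 lc_e_rc_13_3 lc_e_rc_13_3 lc_e_rc_18_1 lc_e_rc_16_5 lc_e_rc_18_1 lc_e_rc_18_1 lc_e_rc_4_3 lc_e_rc_19_4 lc_e_rc_19_0 lc_e_rc_18_1 lc_e_rc_18_1 lc_e_rc_9_3 lc_e_rc_18_1 lc_e_rc_18_1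 lc_e_rc_19_4 lc_e_rc_13_1 lc_e_rc_9_3 lc_e_Cert_tree) (@D3.rec (fun _ => (Cert rels S Gen.e)) lc_e_rc_19_4 lc_e_rc_9_1 lc_e_rc_13_3 lc_e_rc_9_3 lc_e_rc_18_1 lc_e_rc_13_3 lc_e_rc_27_5 lc_e_rc_13_3 lc_e_rc_27_1 lc_e_rc_27_7 lc_e_rc_9_3 lc_e_rc_4_1 lc_e_rc_18_1 lc_e_rc_18_1 lc_e_rc_18_1 lc_e_rc_27_1 lc_e_rc_9_3 lc_e_rc_13_3 lc_e_rc_19_4 lc_e_rc_18_1 lc_e_rc_18_1 lc_e_rc_18_1 lc_e_rc_18_1 lc_e_rc_18_1 lc_e_rc_27_7 lc_e_rc_18_1 lc_e_rc_16_5 lc_e_rc_16_1 lc_e_rc_19_2 lc_e_rc_16_5 lc_e_rc_16_5 lc_e_rc_9_3 lc_e_rc_18_1 lc_e_rc_16_3 lc_e_rc_19_2 lc_e_rc_19_2 lc_e_rc_9_3 lc_e_rc_13_3 lc_e_rc_9_1 lc_e_rc_9_1 lc_e_rc_13_3 lc_e_rc_27_7 lc_e_rc_4_3 lc_e_rc_18_1 lc_e_rc_9_1 lc_e_rc_27_7 lc_e_rc_18_1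 lc_e_rc_13_3 lc_e_rc_13_3 lc_e_rc_9_3 lc_e_rc_18_1 lc_e_rc_18_1 lc_e_rc_16_1 lc_e_rc_13_3 lc_e_rc_18_1 lc_e_rc_16_3 lc_e_rc_4_1 lc_e_rc_16_5 lc_e_Cert_tree lc_e_rc_18_1 lc_e_rc_16_5 lc_e_Cert_tree) (@D3.rec (fun _ => (Cert rels S Gen.e)) lc_e_rc_18_1 lc_e_Cert_tree lc_e_rc_18_1 lc_e_rc_13_3 lc_e_rc_18_1 lc_e_rc_13_1 lc_e_rc_18_1 lc_e_rc_19_2 lc_e_rc_18_1 lc_e_rc_9_3 lc_e_rc_4_3 lc_e_rc_9_1 lc_e_rc_18_1 lc_e_rc_4_1 lc_e_rc_18_1 lc_e_rc_9_3 lc_e_rc_27_7 lc_e_rc_27_7 lc_e_rc_9_1 lc_e_rc_27_7 lc_e_rc_18_1 lc_e_rc_4_1 lc_e_rc_27_5 lc_e_rc_18_1 lc_e_rc_27_7 lc_e_rc_13_3 lc_e_rc_4_1 lc_e_rc_27_5 lc_e_rc_18_1 lc_e_rc_18_1 lc_e_rc_27_7 lc_e_rc_27_5 lc_e_rc_18_1 lc_e_rc_4_1 lc_e_rc_16_5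 lc_e_rc_16_5 lc_e_rc_9_1 lc_e_rc_27_1 lc_e_rc_18_1 lc_e_rc_18_1 lc_e_rc_16_1 lc_e_rc_9_1 lc_e_rc_13_1 lc_e_rc_4_1 lc_e_rc_4_1 lc_e_rc_13_3 lc_e_rc_18_1 lc_e_rc_19_2 lc_e_rc_13_3 lc_e_rc_18_1 lc_e_rc_19_4 lc_e_rc_18_1 lc_e_rc_18_1 lc_e_rc_13_3 lc_e_rc_4_1 lc_e_rc_27_5 lc_e_rc_18_1 lc_e_rc_18_1 lc_e_rc_18_1 lc_e_rc_9_3 lc_e_rc_18_1 lc_e_rc_18_1) (@D3.rec (fun _ => (Cert rels S Gen.e)) lc_e_rc_9_3 lc_e_rc_16_5 lc_e_rc_18_1 lc_e_rc_9_1 lc_e_rc_13_3 lc_e_rc_13_1 lc_e_rc_18_1 lc_e_rc_27_5 lc_e_rc_27_5 lc_e_rc_16_1 lc_e_rc_9_3 lc_e_rc_18_1 lc_e_rc_16_1 lc_e_rc_18_1 lc_e_Cert_tree lc_e_rc_18_1 lc_e_rc_27_7 lc_e_rc_18_1 lc_e_rc_9_3 lc_e_rc_13_3 lc_e_rc_18_1 lc_e_rc_16_5 lc_e_rc_19_0 lc_e_rc_13_3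 lc_e_rc_13_3 lc_e_rc_16_3 lc_e_rc_18_1 lc_e_rc_16_5 lc_e_rc_18_1 lc_e_rc_13_3 lc_e_rc_18_1 lc_e_rc_16_5 lc_e_rc_27_1 lc_e_rc_18_1 lc_e_rc_13_1 lc_e_rc_18_1 lc_e_rc_13_3 lc_e_rc_9_1 lc_e_rc_27_7 lc_e_rc_9_1 lc_e_rc_18_1 lc_e_rc_4_3 lc_e_rc_13_1 lc_e_rc_16_3 lc_e_rc_13_1 lc_e_rc_9_1 lc_e_rc_9_1 lc_e_rc_13_3 lc_e_rc_13_3 lc_e_rc_18_1 lc_e_rc_18_1 lc_e_rc_16_3 lc_e_rc_27_1 lc_e_rc_18_1 lc_e_rc_18_1 lc_e_rc_19_4 lc_e_rc_13_3 lc_e_rc_16_3 lc_e_rc_19_4 lc_e_rc_27_1 lc_e_rc_19_4 lc_e_rc_4_1) (@D3.rec (fun _ => (Cert rels S Gen.e)) lc_e_rc_13_3 lc_e_rc_18_1 lc_e_rc_27_7 lc_e_rc_19_0 lc_e_rc_27_1 lc_e_rc_18_1 lc_e_rc_27_7 lc_e_rc_27_1 lc_e_rc_16_1 lc_e_rc_9_3 lc_e_rc_16_3 lc_e_rc_18_1 lc_e_rc_18_1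 lc_e_rc_18_1 lc_e_rc_18_1 lc_e_rc_19_2 lc_e_rc_18_1 lc_e_rc_18_1 lc_e_rc_9_1 lc_e_rc_9_1 lc_e_rc_16_5 lc_e_rc_18_1 lc_e_rc_27_7 lc_e_rc_16_5 lc_e_rc_16_3 lc_e_rc_18_1 lc_e_rc_9_3 lc_e_rc_27_5 lc_e_rc_13_3 lc_e_rc_27_7 lc_e_rc_18_1 lc_e_rc_19_2 lc_e_rc_27_5 lc_e_rc_18_1 lc_e_rc_27_5 lc_e_rc_18_1 lc_e_rc_27_5 lc_e_rc_19_2 lc_e_rc_18_1 lc_e_rc_16_5 lc_e_rc_16_5 lc_e_rc_16_3 lc_e_rc_18_1 lc_e_rc_18_1 lc_e_rc_19_2 lc_e_rc_13_3 lc_e_rc_16_5 lc_e_rc_16_1 lc_e_rc_18_1 lc_e_rc_16_3 lc_e_rc_19_0 lc_e_rc_4_3 lc_e_rc_18_1 lc_e_rc_13_3 lc_e_rc_18_1 lc_e_rc_27_5 lc_e_rc_18_1 lc_e_rc_18_1 lc_e_rc_13_3 lc_e_rc_19_0 lc_e_rc_13_3 lc_e_rc_13_3) (@D3.rec (fun _ => (Cert rels S Gen.e)) lc_e_rc_18_1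 lc_e_rc_19_0 lc_e_rc_13_3 lc_e_rc_4_3 lc_e_rc_9_3 lc_e_rc_27_5 lc_e_rc_16_5 lc_e_rc_18_1 lc_e_rc_9_3 lc_e_rc_27_5 lc_e_rc_4_3 lc_e_rc_27_5 lc_e_rc_18_1 lc_e_rc_18_1 lc_e_rc_18_1 lc_e_rc_18_1 lc_e_rc_27_7 lc_e_rc_13_3 lc_e_rc_9_3 lc_e_rc_13_1 lc_e_rc_27_7 lc_e_rc_19_2 lc_e_rc_16_5 lc_e_rc_13_1 lc_e_rc_19_4 lc_e_rc_13_3 lc_e_rc_18_1 lc_e_rc_27_5 lc_e_rc_27_5 lc_e_rc_13_3 lc_e_rc_13_3 lc_e_rc_18_1 lc_e_rc_18_1 lc_e_rc_16_5 lc_e_rc_18_1 lc_e_rc_18_1 lc_e_rc_27_1 lc_e_rc_18_1 lc_e_rc_13_3 lc_e_rc_18_1 lc_e_rc_18_1 lc_e_rc_18_1 lc_e_rc_13_3 lc_e_rc_9_3 lc_e_rc_9_3 lc_e_rc_18_1 lc_e_rc_13_3 lc_e_rc_18_1 lc_e_rc_16_5 lc_e_rc_18_1 lc_e_rc_16_5 lc_e_rc_18_1 lc_e_rc_13_3 lc_e_rc_19_0 lc_e_rc_16_1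 lc_e_rc_19_0 lc_e_rc_13_3 lc_e_rc_16_1 lc_e_rc_18_1 lc_e_rc_18_1 lc_e_rc_18_1 lc_e_rc_16_1) (@D3.rec (fun _ => (Cert rels S Gen.e)) lc_e_rc_18_1 lc_e_rc_16_1 lc_e_rc_16_1 lc_e_rc_18_1 lc_e_rc_9_3 lc_e_rc_27_5 lc_e_rc_18_1 lc_e_rc_18_1 lc_e_rc_18_1 lc_e_rc_19_4 lc_e_rc_13_3 lc_e_rc_9_1 lc_e_rc_13_3 lc_e_rc_18_1 lc_e_rc_19_2 lc_e_rc_4_3 lc_e_rc_18_1 lc_e_rc_13_3 lc_e_rc_18_1 lc_e_rc_18_1 lc_e_rc_4_3 lc_e_rc_9_3 lc_e_rc_9_3 lc_e_rc_9_1 lc_e_rc_18_1 lc_e_rc_9_3 lc_e_rc_18_1 lc_e_rc_19_4 lc_e_rc_13_1 lc_e_rc_27_1 lc_e_rc_9_3 lc_e_rc_16_5 lc_e_rc_18_1 lc_e_rc_9_3 lc_e_rc_27_7 lc_e_rc_13_3 lc_e_rc_16_5 lc_e_rc_27_5 lc_e_rc_13_1 lc_e_rc_4_3 lc_e_rc_18_1 lc_e_rc_13_3 lc_e_Cert_tree lc_e_rc_18_1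 lc_e_rc_16_3 lc_e_rc_19_4 lc_e_rc_13_1 lc_e_rc_13_3 lc_e_rc_18_1 lc_e_rc_18_1 lc_e_rc_18_1 lc_e_rc_9_3 lc_e_rc_9_1 lc_e_rc_18_1 lc_e_rc_18_1 lc_e_rc_18_1 lc_e_rc_19_2 lc_e_rc_16_3 lc_e_rc_18_1 lc_e_rc_9_1 lc_e_rc_18_1 lc_e_rc_19_4) (@D3.rec (fun _ => (Cert rels S Gen.e)) lc_e_rc_27_5 lc_e_rc_4_1 lc_e_rc_9_1 lc_e_rc_13_3 lc_e_rc_9_1 lc_e_rc_18_1 lc_e_rc_9_1 lc_e_rc_18_1 lc_e_rc_27_5 lc_e_rc_18_1 lc_e_rc_27_5 lc_e_rc_16_3 lc_e_rc_9_1 lc_e_rc_18_1 lc_e_rc_19_2 lc_e_rc_18_1 lc_e_rc_13_1 lc_e_rc_18_1 lc_e_rc_16_5 lc_e_rc_4_3 lc_e_rc_16_5 lc_e_rc_13_1 lc_e_rc_18_1 lc_e_rc_4_3 lc_e_rc_4_3 lc_e_rc_13_3 lc_e_rc_18_1 lc_e_rc_27_5 lc_e_rc_27_5 lc_e_rc_18_1 lc_e_rc_18_1 lc_e_rc_13_3 lc_e_rc_13_3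 lc_e_rc_9_3 lc_e_rc_9_3 lc_e_rc_18_1 lc_e_rc_18_1 lc_e_rc_16_1 lc_e_rc_13_1 lc_e_rc_19_2 lc_e_rc_18_1 lc_e_rc_18_1 lc_e_rc_27_5 lc_e_rc_18_1 lc_e_rc_18_1 lc_e_rc_18_1 lc_e_rc_13_1 lc_e_rc_9_1 lc_e_rc_19_4 lc_e_rc_18_1 lc_e_rc_4_3 lc_e_rc_13_3 lc_e_rc_18_1 lc_e_rc_13_1 lc_e_rc_9_1 lc_e_rc_18_1 lc_e_rc_18_1 lc_e_rc_27_7 lc_e_rc_18_1 lc_e_rc_18_1 lc_e_rc_18_1 lc_e_rc_13_3) (@D3.rec (fun _ => (Cert rels S Gen.e)) lc_e_rc_13_1 lc_e_rc_18_1 lc_e_rc_27_5 lc_e_rc_16_1 lc_e_rc_13_3 lc_e_rc_18_1 lc_e_rc_16_3 lc_e_rc_16_1 lc_e_rc_13_1 lc_e_rc_4_3 lc_e_rc_27_7 lc_e_rc_13_1 lc_e_rc_18_1 lc_e_rc_27_5 lc_e_rc_18_1 lc_e_rc_13_3 lc_e_rc_13_3 lc_e_rc_9_3 lc_e_rc_18_1 lc_e_rc_18_1 lc_e_rc_18_1 lc_e_rc_19_4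 lc_e_rc_18_1 lc_e_rc_13_1 lc_e_rc_18_1 lc_e_Cert_tree lc_e_rc_16_5 lc_e_rc_16_5 lc_e_rc_13_3 lc_e_rc_27_7 lc_e_rc_27_5 lc_e_rc_18_1 lc_e_rc_16_3 lc_e_rc_18_1 lc_e_rc_19_0 lc_e_rc_9_3 lc_e_rc_18_1 lc_e_rc_27_1 lc_e_rc_13_3 lc_e_rc_18_1 lc_e_rc_13_3 lc_e_rc_16_1 lc_e_rc_9_1 lc_e_rc_18_1 lc_e_rc_19_2 lc_e_rc_13_3 lc_e_rc_9_3 lc_e_rc_18_1 lc_e_rc_13_3 lc_e_rc_19_2 lc_e_rc_13_1 lc_e_rc_27_7 lc_e_rc_9_3 lc_e_rc_18_1 lc_e_rc_16_5 lc_e_rc_16_5 lc_e_rc_4_1 lc_e_rc_18_1 lc_e_rc_27_5 lc_e_rc_19_4 lc_e_rc_18_1 lc_e_rc_16_5) (@D3.rec (fun _ => (Cert rels S Gen.e)) lc_e_rc_27_5 lc_e_rc_13_3 lc_e_rc_27_5 lc_e_rc_18_1 lc_e_rc_16_5 lc_e_rc_16_1 lc_e_rc_18_1 lc_e_rc_13_3 lc_e_rc_13_3 lc_e_rc_9_1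 lc_e_rc_18_1 lc_e_rc_18_1 lc_e_rc_4_3 lc_e_rc_18_1 lc_e_rc_13_3 lc_e_rc_9_3 lc_e_rc_4_3 lc_e_rc_9_3 lc_e_rc_18_1 lc_e_rc_16_1 lc_e_rc_16_5 lc_e_rc_27_7 lc_e_rc_13_3 lc_e_rc_4_3 lc_e_rc_27_7 lc_e_rc_13_1 lc_e_rc_13_3 lc_e_rc_16_5 lc_e_rc_18_1 lc_e_rc_4_3 lc_e_rc_16_5 lc_e_rc_18_1 lc_e_rc_27_1 lc_e_rc_27_7 lc_e_rc_27_1 lc_e_rc_13_3 lc_e_rc_27_5 lc_e_rc_9_3 lc_e_rc_27_5 lc_e_rc_27_5 lc_e_rc_4_1 lc_e_rc_4_3 lc_e_rc_4_3 lc_e_rc_4_1 lc_e_rc_18_1 lc_e_rc_4_3 lc_e_rc_16_5 lc_e_rc_18_1 lc_e_rc_16_1 lc_e_rc_13_3 lc_e_rc_16_5 lc_e_rc_9_3 lc_e_rc_18_1 lc_e_rc_27_7 lc_e_Cert_tree lc_e_rc_19_0 lc_e_rc_18_1 lc_e_rc_18_1 lc_e_rc_19_4 lc_e_rc_4_3 lc_e_rc_18_1 lc_e_rc_9_1) (@D3.rec (fun _ => (Cert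 rels S Gen.e)) lc_e_rc_9_3 lc_e_rc_18_1 lc_e_rc_27_5 lc_e_rc_18_1 lc_e_rc_9_3 lc_e_rc_18_1 lc_e_rc_13_3 lc_e_rc_13_1 lc_e_rc_13_3 lc_e_rc_13_3 lc_e_rc_18_1 lc_e_rc_13_1 lc_e_rc_18_1 lc_e_rc_13_3 lc_e_rc_13_3 lc_e_rc_9_3 lc_e_rc_16_3 lc_e_rc_19_4 lc_e_rc_13_3 lc_e_rc_27_5 lc_e_rc_9_1 lc_e_rc_18_1 lc_e_rc_9_3 lc_e_rc_4_3 lc_e_rc_13_1 lc_e_rc_13_3 lc_e_rc_18_1 lc_e_rc_27_1 lc_e_rc_4_3 lc_e_rc_4_3 lc_e_rc_4_1 lc_e_rc_27_5 lc_e_rc_18_1 lc_e_rc_27_1 lc_e_rc_13_3 lc_e_rc_13_1 lc_e_rc_9_3 lc_e_rc_13_3 lc_e_rc_9_3 lc_e_rc_18_1 lc_e_rc_27_5 lc_e_rc_18_1 lc_e_rc_18_1 lc_e_rc_27_5 lc_e_rc_13_3 lc_e_rc_18_1 lc_e_rc_4_3 lc_e_rc_27_5 lc_e_rc_18_1 lc_e_rc_18_1 lc_e_rc_9_3 lc_e_rc_13_3 lc_e_rc_19_2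 lc_e_rc_13_3 lc_e_rc_18_1 lc_e_rc_13_1 lc_e_rc_13_3 lc_e_rc_13_3 lc_e_rc_27_5 lc_e_rc_16_1 lc_e_rc_18_1 lc_e_rc_9_1) (@D3.rec (fun _ => (Cert rels S Gen.e)) lc_e_rc_18_1 lc_e_rc_18_1 lc_e_rc_9_3 lc_e_rc_18_1 lc_e_rc_27_1 lc_e_rc_19_2 lc_e_rc_16_1 lc_e_rc_13_3 lc_e_rc_13_3 lc_e_rc_13_1 lc_e_rc_16_3 lc_e_rc_16_5 lc_e_rc_27_1 lc_e_rc_19_4 lc_e_rc_4_3 lc_e_rc_4_1 lc_e_rc_9_1 lc_e_rc_9_3 lc_e_rc_13_3 lc_e_rc_16_3 lc_e_rc_13_3 lc_e_rc_18_1 lc_e_rc_18_1 lc_e_rc_27_5 lc_e_rc_9_3 lc_e_rc_18_1 lc_e_rc_13_3 lc_e_rc_18_1 lc_e_rc_27_7 lc_e_rc_18_1 lc_e_rc_18_1 lc_e_rc_9_3 lc_e_rc_16_5 lc_e_rc_9_3 lc_e_rc_16_5 lc_e_rc_18_1 lc_e_rc_9_1 lc_e_rc_19_4 lc_e_rc_18_1 lc_e_rc_19_0 lc_e_rc_13_1 lc_e_rc_4_1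 lc_e_rc_19_2 lc_e_rc_18_1 lc_e_rc_9_3 lc_e_rc_18_1 lc_e_rc_16_3 lc_e_rc_13_1 lc_e_rc_19_0 lc_e_rc_18_1 lc_e_rc_27_7 lc_e_rc_18_1 lc_e_rc_13_1 lc_e_rc_18_1 lc_e_rc_27_1 lc_e_rc_27_1 lc_e_rc_27_1 lc_e_rc_18_1 lc_e_rc_16_5 lc_e_rc_18_1 lc_e_rc_16_1 lc_e_rc_13_1) (@D3.rec (fun _ => (Cert rels S Gen.e)) lc_e_rc_18_1 lc_e_rc_19_4 lc_e_rc_13_3 lc_e_rc_13_3 lc_e_rc_27_7 lc_e_rc_27_5 lc_e_rc_16_5 lc_e_rc_13_1 lc_e_rc_18_1 lc_e_Cert_tree lc_e_rc_4_1 lc_e_rc_18_1 lc_e_rc_27_7 lc_e_rc_9_3 lc_e_rc_9_3 lc_e_rc_9_3 lc_e_rc_19_2 lc_e_rc_27_5 lc_e_rc_16_1 lc_e_rc_16_5 lc_e_rc_18_1 lc_e_rc_16_5 lc_e_rc_18_1 lc_e_rc_19_4 lc_e_rc_27_5 lc_e_rc_18_1 lc_e_rc_27_5 lc_e_rc_18_1 lc_e_rc_27_7 lc_e_rc_18_1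 lc_e_rc_9_3 lc_e_rc_27_5 lc_e_rc_13_3 lc_e_rc_27_7 lc_e_rc_9_3 lc_e_rc_9_3 lc_e_rc_18_1 lc_e_rc_19_4 lc_e_rc_19_2 lc_e_rc_18_1 lc_e_rc_9_1 lc_e_rc_16_5 lc_e_rc_18_1 lc_e_rc_13_3 lc_e_rc_27_5 lc_e_rc_18_1 lc_e_rc_18_1 lc_e_rc_13_3 lc_e_rc_13_1 lc_e_rc_9_1 lc_e_rc_18_1 lc_e_rc_13_3 lc_e_rc_19_2 lc_e_rc_4_3 lc_e_rc_27_5 lc_e_rc_27_5 lc_e_rc_18_1 lc_e_rc_4_1 lc_e_rc_13_3 lc_e_rc_16_5 lc_e_rc_27_5 lc_e_rc_13_1) (@D3.rec (fun _ => (Cert rels S Gen.e)) lc_e_rc_18_1 lc_e_rc_13_1 lc_e_rc_13_1 lc_e_rc_27_1 lc_e_rc_27_5 lc_e_rc_18_1 lc_e_rc_18_1 lc_e_rc_13_3 lc_e_rc_13_3 lc_e_rc_18_1 lc_e_rc_27_5 lc_e_rc_18_1 lc_e_rc_9_1 lc_e_rc_16_3 lc_e_rc_18_1 lc_e_rc_13_3 lc_e_rc_13_3 lc_e_rc_18_1 lc_e_Cert_tree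 lc_e_rc_18_1 lc_e_rc_13_3 lc_e_rc_19_2 lc_e_rc_9_3 lc_e_rc_19_0 lc_e_rc_13_3 lc_e_rc_18_1 lc_e_rc_27_1 lc_e_rc_19_0 lc_e_rc_16_5 lc_e_rc_27_7 lc_e_rc_27_1 lc_e_rc_16_1 lc_e_rc_27_5 lc_e_rc_18_1 lc_e_rc_16_5 lc_e_rc_18_1 lc_e_rc_9_1 lc_e_rc_16_3 lc_e_rc_13_3 lc_e_rc_16_5 lc_e_rc_16_3 lc_e_rc_18_1 lc_e_rc_9_1 lc_e_rc_13_3 lc_e_rc_27_1 lc_e_rc_4_3 lc_e_rc_4_1 lc_e_rc_9_3 lc_e_rc_18_1 lc_e_rc_13_3 lc_e_rc_16_3 lc_e_rc_13_3 lc_e_rc_18_1 lc_e_rc_27_1 lc_e_rc_18_1 lc_e_rc_16_3 lc_e_rc_13_3 lc_e_rc_27_1 lc_e_rc_9_1 lc_e_rc_18_1 lc_e_rc_9_3 lc_e_rc_19_2) (@D3.rec (fun _ => (Cert rels S Gen.e)) lc_e_rc_27_1 lc_e_rc_18_1 lc_e_rc_18_1 lc_e_rc_13_1 lc_e_rc_9_3 lc_e_rc_27_1 lc_e_rc_4_3 lc_e_rc_27_5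 lc_e_rc_27_1 lc_e_rc_16_1 lc_e_rc_18_1 lc_e_rc_18_1 lc_e_rc_19_2 lc_e_rc_18_1 lc_e_rc_27_1 lc_e_rc_13_1 lc_e_rc_13_3 lc_e_rc_18_1 lc_e_rc_18_1 lc_e_rc_27_5 lc_e_rc_19_4 lc_e_rc_18_1 lc_e_rc_9_3 lc_e_rc_9_3 lc_e_rc_27_5 lc_e_rc_18_1 lc_e_rc_18_1 lc_e_rc_9_1 lc_e_rc_18_1 lc_e_rc_9_1 lc_e_rc_16_3 lc_e_rc_16_1 lc_e_rc_16_3 lc_e_rc_27_1 lc_e_rc_18_1 lc_e_rc_9_3 lc_e_rc_27_5 lc_e_rc_18_1 lc_e_rc_27_5 lc_e_rc_27_1 lc_e_rc_27_5 lc_e_rc_19_0 lc_e_rc_27_7 lc_e_rc_27_1 lc_e_rc_18_1 lc_e_rc_16_5 lc_e_rc_9_3 lc_e_rc_18_1 lc_e_rc_16_5 lc_e_rc_9_1 lc_e_Cert_tree lc_e_rc_9_3 lc_e_rc_27_1 lc_e_rc_16_3 lc_e_rc_13_3 lc_e_rc_18_1 lc_e_rc_16_5 lc_e_rc_4_3 lc_e_rc_18_1 lc_e_rc_13_3 lc_e_Cert_tree lc_e_rc_18_1)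 (@D3.rec (fun _ => (Cert rels S Gen.e)) lc_e_rc_18_1 lc_e_rc_27_5 lc_e_rc_13_3 lc_e_rc_13_3 lc_e_rc_27_1 lc_e_rc_18_1 lc_e_rc_13_1 lc_e_rc_13_1 lc_e_rc_16_5 lc_e_rc_13_1 lc_e_rc_18_1 lc_e_rc_13_3 lc_e_rc_4_3 lc_e_rc_4_3 lc_e_rc_9_1 lc_e_rc_18_1 lc_e_rc_9_1 lc_e_rc_27_5 lc_e_rc_18_1 lc_e_rc_16_5 lc_e_rc_18_1 lc_e_rc_9_1 lc_e_rc_19_0 lc_e_rc_18_1 lc_e_rc_9_1 lc_e_rc_18_1 lc_e_rc_19_4 lc_e_rc_18_1 lc_e_rc_18_1 lc_e_rc_13_1 lc_e_rc_19_2 lc_e_rc_18_1 lc_e_rc_18_1 lc_e_rc_18_1 lc_e_rc_19_4 lc_e_rc_19_2 lc_e_rc_18_1 lc_e_rc_16_5 lc_e_rc_13_1 lc_e_rc_18_1 lc_e_rc_27_1 lc_e_rc_13_3 lc_e_rc_13_3 lc_e_rc_27_5 lc_e_rc_27_1 lc_e_rc_18_1 lc_e_rc_13_1 lc_e_rc_4_1 lc_e_rc_27_5 lc_e_rc_13_1 lc_e_rc_18_1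 lc_e_rc_13_1 lc_e_rc_18_1 lc_e_rc_13_3 lc_e_rc_27_7 lc_e_rc_9_1 lc_e_rc_18_1 lc_e_rc_18_1 lc_e_rc_16_3 lc_e_rc_13_1 lc_e_rc_9_3 lc_e_rc_13_3) (@D3.rec (fun _ => (Cert rels S Gen.e)) lc_e_rc_13_3 lc_e_rc_9_3 lc_e_rc_9_1 lc_e_rc_16_1 lc_e_rc_18_1 lc_e_rc_18_1 lc_e_rc_16_3 lc_e_rc_9_3 lc_e_rc_18_1 lc_e_rc_27_7 lc_e_rc_9_3 lc_e_rc_27_5 lc_e_rc_4_1 lc_e_rc_16_5 lc_e_rc_18_1 lc_e_rc_18_1 lc_e_rc_18_1 lc_e_rc_18_1 lc_e_rc_18_1 lc_e_rc_19_0 lc_e_rc_18_1 lc_e_rc_19_2 lc_e_rc_13_3 lc_e_rc_18_1 lc_e_rc_16_5 lc_e_rc_19_0 lc_e_rc_27_7 lc_e_rc_4_3 lc_e_rc_18_1 lc_e_rc_4_3 lc_e_rc_27_7 lc_e_rc_18_1 lc_e_rc_16_5 lc_e_rc_19_2 lc_e_rc_13_1 lc_e_rc_16_5 lc_e_rc_19_2 lc_e_rc_18_1 lc_e_rc_13_3 lc_e_rc_9_3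 lc_e_rc_27_1 lc_e_rc_27_7 lc_e_rc_18_1 lc_e_rc_16_3 lc_e_rc_18_1 lc_e_rc_18_1 lc_e_rc_16_3 lc_e_rc_9_3 lc_e_rc_18_1 lc_e_rc_18_1 lc_e_rc_13_3 lc_e_rc_19_2 lc_e_rc_13_3 lc_e_rc_9_3 lc_e_rc_13_1 lc_e_rc_9_3 lc_e_rc_4_3 lc_e_rc_9_3 lc_e_rc_13_3 lc_e_rc_27_5 lc_e_rc_18_1 lc_e_rc_27_1) (@D3.rec (fun _ => (Cert rels S Gen.e)) lc_e_rc_27_5 lc_e_rc_16_3 lc_e_rc_16_3 lc_e_rc_19_4 lc_e_rc_19_4 lc_e_rc_13_1 lc_e_rc_27_7 lc_e_rc_18_1 lc_e_rc_4_3 lc_e_rc_16_5 lc_e_rc_13_3 lc_e_rc_18_1 lc_e_rc_13_3 lc_e_rc_13_3 lc_e_rc_16_5 lc_e_rc_16_5 lc_e_rc_16_3 lc_e_rc_19_4 lc_e_rc_13_1 lc_e_rc_27_5 lc_e_rc_13_1 lc_e_rc_18_1 lc_e_rc_16_3 lc_e_rc_18_1 lc_e_rc_18_1 lc_e_rc_27_1 lc_e_rc_13_1 lc_e_rc_19_0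 lc_e_rc_27_5 lc_e_rc_9_3 lc_e_rc_9_3 lc_e_rc_9_3 lc_e_rc_27_7 lc_e_rc_27_5 lc_e_rc_27_1 lc_e_rc_18_1 lc_e_rc_9_3 lc_e_rc_16_5 lc_e_rc_27_5 lc_e_rc_27_7 lc_e_rc_18_1 lc_e_rc_9_3 lc_e_rc_27_7 lc_e_rc_27_7 lc_e_rc_13_3 lc_e_rc_9_1 lc_e_rc_18_1 lc_e_rc_19_2 lc_e_rc_18_1 lc_e_rc_13_3 lc_e_rc_16_1 lc_e_rc_9_1 lc_e_rc_27_5 lc_e_rc_9_3 lc_e_rc_18_1 lc_e_rc_16_3 lc_e_rc_16_5 lc_e_rc_16_5 lc_e_rc_27_7 lc_e_rc_13_1 lc_e_rc_9_1 lc_e_rc_16_3) (@D3.rec (fun _ => (Cert rels S Gen.e)) lc_e_rc_18_1 lc_e_rc_27_5 lc_e_rc_27_5 lc_e_rc_13_1 lc_e_rc_18_1 lc_e_rc_16_5 lc_e_rc_18_1 lc_e_rc_27_1 lc_e_rc_18_1 lc_e_rc_18_1 lc_e_rc_19_0 lc_e_rc_19_2 lc_e_rc_16_5 lc_e_rc_13_1 lc_e_rc_16_5 lc_e_rc_18_1 lc_e_rc_16_1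 lc_e_rc_19_2 lc_e_rc_27_1 lc_e_rc_4_3 lc_e_rc_9_3 lc_e_rc_16_5 lc_e_rc_18_1 lc_e_rc_18_1 lc_e_rc_13_1 lc_e_rc_27_5 lc_e_rc_13_1 lc_e_rc_16_5 lc_e_rc_19_2 lc_e_rc_18_1 lc_e_rc_9_3 lc_e_rc_27_5 lc_e_rc_9_3 lc_e_rc_16_5 lc_e_rc_13_3 lc_e_rc_9_3 lc_e_rc_13_3 lc_e_rc_18_1 lc_e_rc_18_1 lc_e_rc_18_1 lc_e_rc_27_7 lc_e_rc_16_3 lc_e_rc_19_2 lc_e_rc_9_3 lc_e_rc_4_3 lc_e_rc_27_1 lc_e_rc_13_3 lc_e_rc_27_5 lc_e_rc_18_1 lc_e_rc_4_1 lc_e_rc_27_7 lc_e_rc_18_1 lc_e_rc_9_3 lc_e_rc_13_3 lc_e_rc_18_1 lc_e_rc_9_1 lc_e_rc_18_1 lc_e_rc_27_1 lc_e_rc_18_1 lc_e_rc_13_3 lc_e_rc_13_3 lc_e_rc_16_1) (@D3.rec (fun _ => (Cert rels S Gen.e)) lc_e_rc_13_3 lc_e_rc_18_1 lc_e_rc_27_1 lc_e_rc_4_3 lc_e_rc_27_1 lc_e_rc_27_1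 lc_e_rc_16_5 lc_e_rc_9_1 lc_e_rc_13_1 lc_e_rc_4_3 lc_e_rc_18_1 lc_e_rc_27_7 lc_e_rc_19_0 lc_e_rc_27_1 lc_e_rc_18_1 lc_e_rc_13_3 lc_e_rc_18_1 lc_e_rc_16_1 lc_e_rc_4_1 lc_e_rc_13_1 lc_e_rc_13_1 lc_e_rc_18_1 lc_e_rc_9_1 lc_e_rc_4_3 lc_e_rc_16_5 lc_e_rc_27_1 lc_e_rc_18_1 lc_e_rc_9_3 lc_e_rc_16_5 lc_e_rc_18_1 lc_e_rc_27_1 lc_e_rc_16_3 lc_e_rc_18_1 lc_e_rc_13_3 lc_e_rc_9_1 lc_e_rc_18_1 lc_e_rc_16_5 lc_e_rc_16_5 lc_e_rc_18_1 lc_e_rc_16_5 lc_e_Cert_tree lc_e_rc_18_1 lc_e_rc_16_5 lc_e_rc_16_5 lc_e_rc_4_3 lc_e_rc_18_1 lc_e_rc_18_1 lc_e_rc_13_3 lc_e_rc_27_1 lc_e_rc_9_3 lc_e_rc_27_1 lc_e_rc_13_1 lc_e_rc_16_5 lc_e_rc_9_3 lc_e_rc_27_1 lc_e_rc_27_7 lc_e_rc_18_1 lc_e_rc_13_1 lc_e_rc_18_1 lc_e_rc_27_1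 lc_e_rc_9_3 lc_e_rc_4_3) (@D3.rec (fun _ => (Cert rels S Gen.e)) lc_e_rc_9_3 lc_e_rc_27_7 lc_e_rc_18_1 lc_e_rc_9_3 lc_e_rc_16_5 lc_e_rc_18_1 lc_e_rc_18_1 lc_e_rc_18_1 lc_e_rc_4_3 lc_e_rc_18_1 lc_e_rc_9_1 lc_e_rc_18_1 lc_e_rc_9_1 lc_e_rc_18_1 lc_e_rc_18_1 lc_e_rc_19_4 lc_e_rc_9_1 lc_e_rc_16_1 lc_e_rc_19_2 lc_e_rc_16_1 lc_e_rc_19_2 lc_e_rc_27_5 lc_e_rc_18_1 lc_e_rc_16_3 lc_e_rc_13_3 lc_e_rc_27_1 lc_e_rc_16_1 lc_e_rc_4_3 lc_e_rc_9_3 lc_e_rc_19_0 lc_e_rc_27_5 lc_e_rc_27_1 lc_e_rc_27_5 lc_e_rc_18_1 lc_e_rc_4_1 lc_e_rc_27_7 lc_e_rc_18_1 lc_e_rc_27_5 lc_e_rc_13_1 lc_e_rc_19_2 lc_e_rc_9_3 lc_e_rc_16_3 lc_e_rc_13_3 lc_e_rc_27_1 lc_e_rc_19_4 lc_e_rc_18_1 lc_e_rc_18_1 lc_e_rc_18_1 lc_e_rc_9_1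 lc_e_rc_16_3 lc_e_rc_19_2 lc_e_rc_27_5 lc_e_rc_27_5 lc_e_rc_18_1 lc_e_rc_16_1 lc_e_rc_27_7 lc_e_rc_4_3 lc_e_rc_13_3 lc_e_rc_13_1 lc_e_rc_13_1 lc_e_rc_13_1 lc_e_rc_18_1) (@D3.rec (fun _ => (Cert rels S Gen.e)) lc_e_rc_19_2 lc_e_rc_13_1 lc_e_rc_13_1 lc_e_rc_13_3 lc_e_rc_18_1 lc_e_rc_13_1 lc_e_rc_27_5 lc_e_rc_9_1 lc_e_rc_4_3 lc_e_rc_13_3 lc_e_rc_27_5 lc_e_rc_4_3 lc_e_rc_18_1 lc_e_rc_9_3 lc_e_rc_18_1 lc_e_rc_18_1 lc_e_rc_13_3 lc_e_rc_18_1 lc_e_rc_4_3 lc_e_rc_18_1 lc_e_rc_18_1 lc_e_rc_13_3 lc_e_rc_19_4 lc_e_rc_19_4 lc_e_rc_27_5 lc_e_rc_16_3 lc_e_rc_9_1 lc_e_rc_16_3 lc_e_rc_27_5 lc_e_rc_18_1 lc_e_rc_18_1 lc_e_rc_13_3 lc_e_rc_9_1 lc_e_rc_9_3 lc_e_rc_4_3 lc_e_rc_9_3 lc_e_rc_18_1 lc_e_rc_9_1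 lc_e_rc_13_3 lc_e_rc_9_3 lc_e_rc_16_3 lc_e_rc_16_1 lc_e_rc_16_1 lc_e_rc_27_5 lc_e_rc_18_1 lc_e_rc_27_7 lc_e_rc_16_1 lc_e_rc_4_3 lc_e_rc_9_1 lc_e_rc_18_1 lc_e_rc_27_7 lc_e_rc_27_1 lc_e_rc_18_1 lc_e_rc_13_3 lc_e_rc_16_5 lc_e_rc_9_1 lc_e_rc_18_1 lc_e_rc_18_1 lc_e_rc_18_1 lc_e_rc_16_3 lc_e_rc_27_5 lc_e_rc_9_3) (@D3.rec (fun _ => (Cert rels S Gen.e)) lc_e_rc_18_1 lc_e_rc_18_1 lc_e_rc_27_1 lc_e_rc_16_1 lc_e_rc_9_1 lc_e_rc_13_3 lc_e_rc_9_1 lc_e_rc_9_3 lc_e_rc_19_2 lc_e_rc_9_3 lc_e_rc_18_1 lc_e_rc_27_7 lc_e_rc_18_1 lc_e_rc_16_3 lc_e_rc_19_4 lc_e_rc_16_1 lc_e_Cert_tree lc_e_rc_16_5 lc_e_rc_27_7 lc_e_rc_18_1 lc_e_rc_18_1 lc_e_rc_27_5 lc_e_rc_18_1 lc_e_rc_13_3 lc_e_rc_13_3 lc_e_rc_18_1 lc_e_rc_18_1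 lc_e_rc_4_3 lc_e_rc_4_3 lc_e_rc_19_2 lc_e_rc_16_5 lc_e_rc_4_3 lc_e_rc_16_5 lc_e_rc_27_5 lc_e_rc_13_3 lc_e_Cert_tree lc_e_rc_18_1 lc_e_rc_13_3 lc_e_rc_27_5 lc_e_rc_18_1 lc_e_rc_16_3 lc_e_rc_18_1 lc_e_rc_18_1 lc_e_rc_18_1 lc_e_rc_27_1 lc_e_rc_13_3 lc_e_rc_16_1 lc_e_rc_9_1 lc_e_rc_16_3 lc_e_rc_16_1 lc_e_rc_18_1 lc_e_rc_13_3 lc_e_rc_13_1 lc_e_rc_4_3 lc_e_rc_9_1 lc_e_rc_27_1 lc_e_rc_18_1 lc_e_rc_27_7 lc_e_rc_18_1 lc_e_rc_18_1 lc_e_rc_13_3 lc_e_rc_13_3) (@D3.rec (fun _ => (Cert rels S Gen.e)) lc_e_rc_27_1 lc_e_rc_18_1 lc_e_rc_13_1 lc_e_rc_18_1 lc_e_rc_9_3 lc_e_rc_18_1 lc_e_rc_9_1 lc_e_rc_18_1 lc_e_rc_9_3 lc_e_rc_13_1 lc_e_rc_18_1 lc_e_rc_18_1 lc_e_rc_13_3 lc_e_rc_16_3 lc_e_rc_27_5 lc_e_rc_18_1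 lc_e_rc_16_1 lc_e_rc_27_1 lc_e_rc_18_1 lc_e_rc_19_2 lc_e_rc_18_1 lc_e_rc_13_3 lc_e_rc_18_1 lc_e_rc_16_5 lc_e_rc_16_1 lc_e_rc_16_5 lc_e_rc_18_1 lc_e_rc_16_5 lc_e_rc_18_1 lc_e_rc_18_1 lc_e_rc_16_3 lc_e_rc_18_1 lc_e_rc_27_1 lc_e_rc_27_5 lc_e_rc_19_2 lc_e_Cert_tree lc_e_rc_18_1 lc_e_rc_13_3 lc_e_rc_19_4 lc_e_rc_18_1 lc_e_rc_9_3 lc_e_rc_16_3 lc_e_rc_4_3 lc_e_rc_27_5 lc_e_rc_13_3 lc_e_rc_16_3 lc_e_rc_27_5 lc_e_rc_27_5 lc_e_rc_27_1 lc_e_rc_16_3 lc_e_rc_18_1 lc_e_rc_18_1 lc_e_rc_13_1 lc_e_rc_19_4 lc_e_rc_18_1 lc_e_rc_18_1 lc_e_rc_27_5 lc_e_rc_18_1 lc_e_rc_16_5 lc_e_rc_18_1 lc_e_rc_18_1 lc_e_rc_16_3) (@D3.rec (fun _ => (Cert rels S Gen.e)) lc_e_rc_9_3 lc_e_rc_13_3 lc_e_rc_16_5 lc_e_rc_18_1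 lc_e_rc_4_3 lc_e_rc_18_1 lc_e_rc_16_3 lc_e_rc_9_3 lc_e_rc_18_1 lc_e_rc_16_3 lc_e_rc_16_5 lc_e_rc_19_2 lc_e_Cert_tree lc_e_rc_27_5 lc_e_rc_4_3 lc_e_Cert_tree lc_e_rc_18_1 lc_e_rc_13_3 lc_e_rc_16_1 lc_e_rc_19_2 lc_e_rc_13_3 lc_e_rc_18_1 lc_e_rc_16_3 lc_e_rc_18_1 lc_e_rc_16_5 lc_e_rc_18_1 lc_e_rc_18_1 lc_e_rc_27_5 lc_e_rc_27_1 lc_e_rc_9_3 lc_e_rc_27_5 lc_e_rc_13_3 lc_e_rc_4_3 lc_e_rc_16_1 lc_e_rc_13_1 lc_e_rc_27_1 lc_e_rc_13_1 lc_e_rc_18_1 lc_e_rc_19_2 lc_e_rc_13_3 lc_e_rc_18_1 lc_e_rc_16_3 lc_e_rc_18_1 lc_e_rc_13_3 lc_e_rc_13_3 lc_e_rc_18_1 lc_e_rc_9_1 lc_e_rc_18_1 lc_e_rc_16_3 lc_e_rc_13_3 lc_e_rc_13_3 lc_e_rc_27_5 lc_e_rc_18_1 lc_e_rc_13_3 lc_e_rc_13_1 lc_e_rc_16_5 lc_e_rc_16_5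 lc_e_rc_18_1 lc_e_rc_27_1 lc_e_rc_16_3 lc_e_rc_27_5 lc_e_rc_19_2) (@D3.rec (fun _ => (Cert rels S Gen.e)) lc_e_rc_16_5 lc_e_rc_13_3 lc_e_rc_18_1 lc_e_rc_4_3 lc_e_rc_18_1 lc_e_rc_16_5 lc_e_rc_16_5 lc_e_rc_4_1 lc_e_rc_19_4 lc_e_rc_13_1 lc_e_rc_27_5 lc_e_rc_18_1 lc_e_rc_27_1 lc_e_rc_13_3 lc_e_rc_13_1 lc_e_rc_4_3 lc_e_rc_13_1 lc_e_rc_13_1 lc_e_rc_16_1 lc_e_rc_9_3 lc_e_rc_16_5 lc_e_rc_27_1 lc_e_rc_13_3 lc_e_rc_18_1 lc_e_rc_4_3 lc_e_rc_9_1 lc_e_rc_13_3 lc_e_rc_9_3 lc_e_rc_18_1 lc_e_rc_4_1 lc_e_rc_13_3 lc_e_rc_13_1 lc_e_rc_13_3 lc_e_rc_13_1 lc_e_rc_13_1 lc_e_rc_9_1 lc_e_rc_18_1 lc_e_rc_13_1 lc_e_rc_18_1 lc_e_rc_18_1 lc_e_rc_18_1 lc_e_rc_27_5 lc_e_rc_27_7 lc_e_rc_4_1 lc_e_rc_9_3 lc_e_rc_27_7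 lc_e_rc_9_3 lc_e_rc_9_3 lc_e_rc_16_5 lc_e_rc_9_3 lc_e_rc_19_4 lc_e_rc_16_5 lc_e_rc_27_7 lc_e_rc_13_3 lc_e_rc_9_3 lc_e_rc_19_0 lc_e_rc_18_1 lc_e_rc_27_5 lc_e_rc_4_3 lc_e_rc_18_1 lc_e_rc_18_1 lc_e_rc_18_1) (@D3.rec (fun _ => (Cert rels S Gen.e)) lc_e_rc_27_5 lc_e_rc_16_5 lc_e_rc_18_1 lc_e_rc_18_1 lc_e_rc_19_2 lc_e_rc_13_1 lc_e_rc_18_1 lc_e_rc_18_1 lc_e_rc_19_4 lc_e_rc_19_2 lc_e_rc_4_3 lc_e_rc_13_3 lc_e_rc_13_1 lc_e_rc_9_3 lc_e_rc_13_3 lc_e_rc_27_7 lc_e_rc_18_1 lc_e_rc_18_1 lc_e_rc_27_5 lc_e_rc_18_1 lc_e_rc_9_1 lc_e_rc_18_1 lc_e_rc_4_3 lc_e_rc_16_1 lc_e_rc_9_1 lc_e_rc_4_3 lc_e_rc_9_3 lc_e_rc_13_3 lc_e_rc_13_3 lc_e_rc_4_1 lc_e_rc_4_1 lc_e_rc_18_1 lc_e_rc_9_3 lc_e_rc_19_2 lc_e_rc_27_1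 lc_e_rc_19_4 lc_e_rc_19_4 lc_e_rc_4_3 lc_e_rc_13_3 lc_e_rc_27_1 lc_e_rc_18_1 lc_e_rc_18_1 lc_e_rc_27_5 lc_e_rc_18_1 lc_e_rc_13_3 lc_e_rc_9_3 lc_e_rc_13_1 lc_e_rc_18_1 lc_e_rc_18_1 lc_e_rc_18_1 lc_e_rc_18_1 lc_e_rc_27_7 lc_e_rc_4_3 lc_e_rc_13_1 lc_e_rc_19_2 lc_e_rc_4_3 lc_e_rc_9_1 lc_e_rc_9_3 lc_e_rc_18_1 lc_e_rc_18_1 lc_e_rc_18_1 lc_e_rc_19_2) (@D3.rec (fun _ => (Cert rels S Gen.e)) lc_e_rc_18_1 lc_e_rc_13_1 lc_e_rc_27_7 lc_e_rc_16_3 lc_e_rc_18_1 lc_e_rc_16_1 lc_e_rc_13_1 lc_e_rc_19_0 lc_e_rc_27_5 lc_e_rc_16_5 lc_e_rc_13_3 lc_e_rc_18_1 lc_e_rc_18_1 lc_e_rc_19_2 lc_e_Cert_tree lc_e_rc_13_1 lc_e_rc_18_1 lc_e_rc_9_3 lc_e_rc_4_3 lc_e_rc_27_1 lc_e_rc_27_1 lc_e_rc_13_3 lc_e_rc_16_3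 lc_e_rc_13_3 lc_e_rc_18_1 lc_e_rc_27_1 lc_e_rc_13_3 lc_e_rc_9_1 lc_e_rc_18_1 lc_e_rc_4_1 lc_e_rc_16_5 lc_e_rc_18_1 lc_e_rc_4_3 lc_e_rc_18_1 lc_e_rc_9_1 lc_e_rc_27_7 lc_e_rc_27_7 lc_e_rc_27_5 lc_e_rc_27_5 lc_e_rc_27_1 lc_e_rc_18_1 lc_e_rc_18_1 lc_e_rc_13_3 lc_e_rc_18_1 lc_e_rc_13_3 lc_e_rc_27_5 lc_e_rc_13_3 lc_e_rc_4_3 lc_e_rc_4_3 lc_e_rc_9_3 lc_e_rc_18_1 lc_e_rc_4_1 lc_e_rc_18_1 lc_e_rc_13_3 lc_e_rc_18_1 lc_e_rc_9_1 lc_e_rc_27_7 lc_e_rc_13_3 lc_e_rc_13_3 lc_e_rc_27_1 lc_e_rc_16_1 lc_e_rc_18_1) (@D3.rec (fun _ => (Cert rels S Gen.e)) lc_e_rc_19_4 lc_e_rc_18_1 lc_e_rc_18_1 lc_e_rc_19_0 lc_e_rc_27_1 lc_e_rc_27_1 lc_e_rc_4_1 lc_e_rc_13_3 lc_e_rc_19_2 lc_e_rc_9_1 lc_e_rc_9_3 lc_e_rc_18_1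 lc_e_rc_19_2 lc_e_rc_16_5 lc_e_rc_4_3 lc_e_rc_13_3 lc_e_rc_16_3 lc_e_rc_18_1 lc_e_rc_16_1 lc_e_rc_13_3 lc_e_rc_13_3 lc_e_rc_16_1 lc_e_rc_18_1 lc_e_rc_18_1 lc_e_rc_13_1 lc_e_rc_18_1 lc_e_rc_18_1 lc_e_rc_19_4 lc_e_rc_13_3 lc_e_rc_19_4 lc_e_Cert_tree lc_e_rc_18_1 lc_e_rc_27_5 lc_e_rc_13_3 lc_e_rc_9_1 lc_e_rc_27_1 lc_e_rc_4_3 lc_e_rc_18_1 lc_e_rc_27_7 lc_e_rc_13_3 lc_e_rc_19_4 lc_e_rc_18_1 lc_e_rc_9_3 lc_e_rc_19_2 lc_e_rc_18_1 lc_e_rc_9_3 lc_e_rc_16_3 lc_e_rc_27_7 lc_e_rc_27_5 lc_e_rc_13_3 lc_e_rc_27_1 lc_e_rc_13_3 lc_e_rc_27_1 lc_e_rc_18_1 lc_e_rc_18_1 lc_e_rc_27_7 lc_e_rc_16_3 lc_e_rc_13_3 lc_e_rc_13_3 lc_e_rc_27_1 lc_e_rc_4_3 lc_e_rc_27_1) (@D3.rec (fun _ => (Cert rels S Gen.e))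 lc_e_rc_27_5 lc_e_rc_18_1 lc_e_rc_18_1 lc_e_rc_18_1 lc_e_rc_13_3 lc_e_rc_27_1 lc_e_rc_18_1 lc_e_rc_16_3 lc_e_rc_13_3 lc_e_rc_18_1 lc_e_rc_16_5 lc_e_rc_18_1 lc_e_rc_19_4 lc_e_rc_27_7 lc_e_rc_16_3 lc_e_rc_13_1 lc_e_rc_18_1 lc_e_rc_16_3 lc_e_rc_9_1 lc_e_rc_16_1 lc_e_rc_16_5 lc_e_rc_19_0 lc_e_rc_27_1 lc_e_rc_27_1 lc_e_rc_9_1 lc_e_rc_4_1 lc_e_rc_18_1 lc_e_rc_13_1 lc_e_rc_18_1 lc_e_rc_18_1 lc_e_rc_4_3 lc_e_rc_18_1 lc_e_rc_18_1 lc_e_rc_18_1 lc_e_rc_27_1 lc_e_rc_19_0 lc_e_rc_16_3 lc_e_rc_18_1 lc_e_rc_13_3 lc_e_rc_27_7 lc_e_rc_18_1 lc_e_rc_18_1 lc_e_rc_18_1 lc_e_rc_16_3 lc_e_rc_27_5 lc_e_rc_18_1 lc_e_rc_16_5 lc_e_rc_18_1 lc_e_rc_9_3 lc_e_rc_27_5 lc_e_rc_18_1 lc_e_rc_13_3 lc_e_rc_18_1 lc_e_rc_27_7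 lc_e_rc_16_5 lc_e_rc_4_3 lc_e_rc_18_1 lc_e_rc_16_5 lc_e_rc_13_1 lc_e_rc_16_1 lc_e_rc_18_1 lc_e_rc_18_1) (@D3.rec (fun _ => (Cert rels S Gen.e)) lc_e_rc_13_1 lc_e_rc_16_1 lc_e_rc_13_1 lc_e_rc_18_1 lc_e_rc_16_3 lc_e_rc_18_1 lc_e_rc_18_1 lc_e_rc_18_1 lc_e_rc_13_3 lc_e_rc_4_1 lc_e_rc_19_0 lc_e_rc_18_1 lc_e_rc_27_7 lc_e_rc_9_3 lc_e_rc_18_1 lc_e_rc_18_1 lc_e_rc_16_5 lc_e_rc_18_1 lc_e_rc_16_3 lc_e_rc_4_3 lc_e_rc_18_1 lc_e_rc_13_3 lc_e_rc_18_1 lc_e_rc_27_7 lc_e_rc_9_3 lc_e_rc_9_3 lc_e_rc_27_1 lc_e_rc_27_5 lc_e_rc_18_1 lc_e_rc_27_1 lc_e_rc_16_3 lc_e_rc_18_1 lc_e_rc_4_1 lc_e_rc_19_0 lc_e_rc_16_5 lc_e_rc_27_7 lc_e_rc_27_1 lc_e_rc_4_1 lc_e_rc_13_1 lc_e_rc_4_3 lc_e_rc_18_1 lc_e_rc_13_3 lc_e_rc_13_3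 lc_e_rc_4_1 lc_e_rc_19_2 lc_e_rc_13_1 lc_e_rc_18_1 lc_e_rc_27_5 lc_e_rc_18_1 lc_e_rc_18_1 lc_e_rc_18_1 lc_e_rc_16_5 lc_e_rc_27_1 lc_e_rc_18_1 lc_e_rc_18_1 lc_e_rc_13_3 lc_e_rc_9_3 lc_e_rc_18_1 lc_e_rc_13_3 lc_e_rc_27_1 lc_e_rc_18_1 lc_e_rc_9_1) (@D3.rec (fun _ => (Cert rels S Gen.e)) lc_e_rc_18_1 lc_e_rc_9_3 lc_e_rc_13_3 lc_e_rc_27_1 lc_e_rc_13_3 lc_e_rc_19_2 lc_e_rc_18_1 lc_e_rc_13_3 lc_e_rc_18_1 lc_e_rc_19_2 lc_e_rc_9_3 lc_e_rc_18_1 lc_e_rc_13_3 lc_e_rc_16_3 lc_e_rc_4_3 lc_e_rc_27_5 lc_e_rc_27_7 lc_e_rc_9_3 lc_e_rc_9_1 lc_e_rc_16_3 lc_e_rc_13_3 lc_e_rc_16_5 lc_e_rc_16_3 lc_e_rc_16_3 lc_e_rc_9_1 lc_e_rc_4_3 lc_e_rc_27_1 lc_e_rc_19_2 lc_e_rc_18_1 lc_e_rc_9_3 lc_e_rc_18_1 lc_e_rc_18_1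 lc_e_rc_19_4 lc_e_rc_18_1 lc_e_rc_18_1 lc_e_rc_9_3 lc_e_rc_27_5 lc_e_rc_16_5 lc_e_rc_19_2 lc_e_rc_16_5 lc_e_rc_19_4 lc_e_rc_18_1 lc_e_rc_18_1 lc_e_rc_18_1 lc_e_rc_18_1 lc_e_rc_18_1 lc_e_rc_16_3 lc_e_rc_19_4 lc_e_rc_13_3 lc_e_rc_16_3 lc_e_rc_9_3 lc_e_rc_13_3 lc_e_rc_16_3 lc_e_rc_16_5 lc_e_rc_27_1 lc_e_rc_27_7 lc_e_rc_18_1 lc_e_rc_13_3 lc_e_rc_9_3 lc_e_rc_9_3 lc_e_rc_18_1 lc_e_rc_27_7) (@D3.rec (fun _ => (Cert rels S Gen.e)) lc_e_rc_18_1 lc_e_rc_18_1 lc_e_rc_18_1 lc_e_rc_16_3 lc_e_rc_9_3 lc_e_rc_13_3 lc_e_rc_18_1 lc_e_rc_16_5 lc_e_rc_18_1 lc_e_rc_16_1 lc_e_rc_18_1 lc_e_rc_13_1 lc_e_rc_16_5 lc_e_rc_13_3 lc_e_rc_13_3 lc_e_rc_9_3 lc_e_rc_27_7 lc_e_rc_9_3 lc_e_rc_13_3 lc_e_rc_9_1 lc_e_rc_9_3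 lc_e_rc_9_1 lc_e_rc_16_5 lc_e_rc_18_1 lc_e_rc_4_3 lc_e_rc_19_4 lc_e_rc_18_1 lc_e_rc_16_3 lc_e_rc_18_1 lc_e_rc_18_1 lc_e_rc_9_3 lc_e_rc_18_1 lc_e_rc_9_3 lc_e_rc_18_1 lc_e_rc_4_3 lc_e_rc_18_1 lc_e_rc_16_3 lc_e_rc_19_4 lc_e_rc_27_7 lc_e_rc_19_4 lc_e_rc_19_4 lc_e_rc_18_1 lc_e_rc_27_7 lc_e_rc_9_3 lc_e_rc_16_3 lc_e_rc_16_1 lc_e_rc_19_4 lc_e_rc_9_1 lc_e_rc_13_3 lc_e_rc_9_3 lc_e_rc_18_1 lc_e_rc_18_1 lc_e_rc_18_1 lc_e_rc_18_1 lc_e_rc_9_3 lc_e_rc_19_4 lc_e_rc_16_1 lc_e_rc_18_1 lc_e_rc_27_5 lc_e_rc_18_1 lc_e_rc_19_4 lc_e_rc_13_3) (@D3.rec (fun _ => (Cert rels S Gen.e)) lc_e_rc_13_3 lc_e_rc_16_1 lc_e_rc_16_1 lc_e_rc_18_1 lc_e_rc_27_5 lc_e_rc_18_1 lc_e_rc_18_1 lc_e_rc_27_7 lc_e_rc_13_3 lc_e_rc_18_1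 lc_e_rc_18_1 lc_e_rc_27_1 lc_e_rc_18_1 lc_e_rc_18_1 lc_e_rc_27_5 lc_e_rc_19_2 lc_e_rc_27_7 lc_e_rc_18_1 lc_e_Cert_tree lc_e_rc_18_1 lc_e_rc_18_1 lc_e_rc_13_3 lc_e_rc_9_3 lc_e_rc_9_3 lc_e_rc_13_1 lc_e_rc_16_3 lc_e_rc_19_4 lc_e_rc_13_1 lc_e_rc_16_1 lc_e_rc_9_1 lc_e_rc_27_7 lc_e_rc_9_3 lc_e_rc_9_3 lc_e_rc_13_1 lc_e_rc_13_3 lc_e_rc_16_5 lc_e_rc_13_1 lc_e_rc_13_3 lc_e_rc_27_5 lc_e_rc_18_1 lc_e_rc_27_5 lc_e_rc_9_3 lc_e_rc_13_3 lc_e_rc_13_3 lc_e_Cert_tree lc_e_rc_27_1 lc_e_rc_9_1 lc_e_rc_18_1 lc_e_rc_18_1 lc_e_rc_13_3 lc_e_rc_9_1 lc_e_rc_18_1 lc_e_rc_9_3 lc_e_rc_16_5 lc_e_rc_18_1 lc_e_rc_9_3 lc_e_rc_27_7 lc_e_rc_18_1 lc_e_rc_19_4 lc_e_rc_18_1 lc_e_rc_13_3 lc_e_rc_13_3) (@D3.rec (fun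 _ => (Cert rels S Gen.e)) lc_e_rc_13_3 lc_e_rc_27_5 lc_e_rc_18_1 lc_e_rc_18_1 lc_e_rc_13_1 lc_e_rc_18_1 lc_e_rc_13_3 lc_e_rc_16_3 lc_e_rc_9_1 lc_e_rc_27_1 lc_e_rc_13_3 lc_e_rc_9_3 lc_e_rc_16_5 lc_e_rc_16_3 lc_e_rc_13_3 lc_e_rc_16_5 lc_e_Cert_tree lc_e_rc_18_1 lc_e_rc_9_3 lc_e_rc_27_1 lc_e_rc_9_3 lc_e_rc_16_5 lc_e_rc_9_3 lc_e_rc_13_3 lc_e_Cert_tree lc_e_rc_18_1 lc_e_rc_27_7 lc_e_Cert_tree lc_e_rc_18_1 lc_e_rc_27_7 lc_e_rc_18_1 lc_e_rc_27_5 lc_e_rc_18_1 lc_e_rc_27_7 lc_e_rc_13_1 lc_e_rc_13_3 lc_e_rc_13_3 lc_e_rc_18_1 lc_e_rc_13_3 lc_e_rc_18_1 lc_e_rc_13_3 lc_e_rc_16_1 lc_e_rc_27_7 lc_e_rc_13_3 lc_e_rc_16_1 lc_e_rc_9_3 lc_e_rc_9_3 lc_e_rc_13_1 lc_e_rc_18_1 lc_e_rc_13_3 lc_e_rc_19_2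 lc_e_rc_27_1 lc_e_rc_18_1 lc_e_rc_27_5 lc_e_rc_4_3 lc_e_rc_27_5 lc_e_rc_18_1 lc_e_rc_18_1 lc_e_rc_18_1 lc_e_rc_18_1 lc_e_rc_9_3 lc_e_rc_9_3) (@D3.rec (fun _ => (Cert rels S Gen.e)) lc_e_rc_16_3 lc_e_rc_27_5 lc_e_rc_13_3 lc_e_Cert_tree lc_e_rc_13_3 lc_e_rc_19_4 lc_e_rc_27_1 lc_e_rc_9_1 lc_e_rc_13_1 lc_e_rc_18_1 lc_e_rc_27_1 lc_e_rc_27_5 lc_e_rc_18_1 lc_e_rc_4_1 lc_e_rc_13_3 lc_e_Cert_tree lc_e_rc_16_5 lc_e_rc_16_1 lc_e_rc_16_5 lc_e_rc_4_3 lc_e_rc_18_1 lc_e_rc_27_7 lc_e_rc_4_3 lc_e_rc_18_1 lc_e_rc_27_7 lc_e_rc_9_3 lc_e_rc_4_1 lc_e_rc_18_1 lc_e_rc_13_3 lc_e_rc_27_5 lc_e_rc_9_3 lc_e_rc_27_1 lc_e_rc_13_3 lc_e_rc_18_1 lc_e_rc_9_3 lc_e_rc_18_1 lc_e_rc_27_5 lc_e_rc_27_5 lc_e_rc_13_3 lc_e_rc_18_1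 lc_e_rc_9_1 lc_e_rc_19_2 lc_e_rc_18_1 lc_e_rc_13_3 lc_e_rc_13_3 lc_e_rc_13_3 lc_e_rc_4_3 lc_e_rc_13_3 lc_e_rc_9_3 lc_e_rc_18_1 lc_e_rc_18_1 lc_e_rc_16_1 lc_e_rc_4_3 lc_e_rc_18_1 lc_e_rc_18_1 lc_e_rc_9_3 lc_e_rc_16_1 lc_e_rc_18_1 lc_e_rc_9_3 lc_e_rc_18_1 lc_e_rc_18_1 lc_e_rc_18_1) (@D3.rec (fun _ => (Cert rels S Gen.e)) lc_e_rc_13_3 lc_e_rc_18_1 lc_e_rc_16_3 lc_e_rc_13_3 lc_e_rc_18_1 lc_e_rc_9_3 lc_e_rc_18_1 lc_e_rc_18_1 lc_e_rc_4_3 lc_e_rc_16_5 lc_e_rc_18_1 lc_e_rc_27_5 lc_e_rc_19_2 lc_e_rc_27_1 lc_e_rc_27_5 lc_e_rc_9_1 lc_e_rc_9_3 lc_e_rc_4_3 lc_e_rc_27_7 lc_e_rc_13_3 lc_e_rc_9_3 lc_e_Cert_tree lc_e_rc_18_1 lc_e_rc_27_5 lc_e_rc_4_1 lc_e_rc_27_5 lc_e_rc_16_3 lc_e_rc_27_5 lc_e_rc_4_3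 lc_e_rc_18_1 lc_e_rc_13_3 lc_e_rc_18_1 lc_e_rc_13_3 lc_e_rc_9_3 lc_e_rc_16_3 lc_e_rc_18_1 lc_e_rc_16_1 lc_e_rc_18_1 lc_e_rc_19_2 lc_e_rc_16_1 lc_e_rc_18_1 lc_e_rc_18_1 lc_e_rc_16_1 lc_e_rc_18_1 lc_e_rc_16_1 lc_e_rc_27_5 lc_e_rc_13_3 lc_e_rc_18_1 lc_e_rc_16_1 lc_e_rc_27_1 lc_e_rc_13_1 lc_e_rc_18_1 lc_e_rc_9_3 lc_e_rc_4_3 lc_e_rc_27_5 lc_e_rc_9_3 lc_e_rc_18_1 lc_e_rc_9_3 lc_e_rc_16_5 lc_e_rc_9_3 lc_e_rc_27_5 lc_e_rc_13_1) (@D3.rec (fun _ => (Cert rels S Gen.e)) lc_e_rc_18_1 lc_e_rc_27_5 lc_e_rc_18_1 lc_e_rc_16_1 lc_e_rc_4_1 lc_e_rc_9_3 lc_e_rc_27_1 lc_e_rc_18_1 lc_e_rc_9_3 lc_e_rc_27_5 lc_e_rc_4_3 lc_e_rc_16_5 lc_e_rc_13_3 lc_e_rc_9_3 lc_e_rc_19_0 lc_e_rc_13_3 lc_e_rc_9_1 lc_e_rc_16_3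 lc_e_rc_18_1 lc_e_rc_27_5 lc_e_rc_13_3 lc_e_rc_9_3 lc_e_rc_18_1 lc_e_rc_16_3 lc_e_rc_27_7 lc_e_rc_18_1 lc_e_rc_13_3 lc_e_rc_4_3 lc_e_rc_13_1 lc_e_rc_27_7 lc_e_rc_13_3 lc_e_rc_13_3 lc_e_rc_13_1 lc_e_rc_13_3 lc_e_rc_18_1 lc_e_rc_18_1 lc_e_rc_19_4 lc_e_rc_9_3 lc_e_rc_13_3 lc_e_rc_27_7 lc_e_rc_19_4 lc_e_rc_9_1 lc_e_rc_27_5 lc_e_rc_16_1 lc_e_rc_13_3 lc_e_rc_16_1 lc_e_rc_16_5 lc_e_rc_18_1 lc_e_rc_27_5 lc_e_rc_9_3 lc_e_rc_27_1 lc_e_rc_18_1 lc_e_rc_9_1 lc_e_rc_18_1 lc_e_rc_27_7 lc_e_rc_18_1 lc_e_rc_18_1 lc_e_rc_13_3 lc_e_rc_13_3 lc_e_rc_16_3 lc_e_rc_16_3 lc_e_rc_4_3) (@D3.rec (fun _ => (Cert rels S Gen.e)) lc_e_rc_18_1 lc_e_rc_18_1 lc_e_rc_18_1 lc_e_rc_18_1 lc_e_rc_16_3 lc_e_rc_9_3 lc_e_rc_16_5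 lc_e_rc_27_1 lc_e_rc_18_1 lc_e_rc_4_1 lc_e_rc_9_3 lc_e_rc_13_3 lc_e_rc_9_3 lc_e_rc_18_1 lc_e_rc_18_1 lc_e_rc_18_1 lc_e_rc_27_1 lc_e_rc_27_5 lc_e_rc_18_1 lc_e_rc_18_1 lc_e_rc_27_5 lc_e_rc_18_1 lc_e_rc_16_5 lc_e_rc_18_1 lc_e_rc_4_3 lc_e_rc_27_5 lc_e_rc_27_1 lc_e_rc_18_1 lc_e_rc_13_3 lc_e_rc_9_3 lc_e_rc_4_3 lc_e_rc_4_1 lc_e_rc_27_5 lc_e_rc_9_3 lc_e_rc_13_3 lc_e_rc_9_3 lc_e_rc_4_3 lc_e_rc_27_5 lc_e_rc_19_0 lc_e_rc_18_1 lc_e_rc_13_3 lc_e_rc_18_1 lc_e_rc_13_3 lc_e_rc_27_5 lc_e_rc_27_1 lc_e_rc_18_1 lc_e_rc_18_1 lc_e_rc_13_3 lc_e_rc_13_3 lc_e_rc_27_7 lc_e_rc_18_1 lc_e_rc_27_1 lc_e_rc_27_1 lc_e_rc_18_1 lc_e_rc_18_1 lc_e_rc_18_1 lc_e_rc_18_1 lc_e_rc_19_2 lc_e_rc_19_4 lc_e_rc_19_4 lc_e_rc_9_3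 lc_e_rc_16_3) (@D3.rec (fun _ => (Cert rels S Gen.e)) lc_e_rc_16_5 lc_e_rc_16_5 lc_e_rc_16_3 lc_e_rc_16_3 lc_e_rc_16_1 lc_e_rc_13_3 lc_e_rc_13_3 lc_e_rc_13_1 lc_e_rc_9_3 lc_e_rc_13_3 lc_e_rc_16_1 lc_e_rc_4_1 lc_e_rc_18_1 lc_e_rc_4_1 lc_e_rc_18_1 lc_e_rc_18_1 lc_e_rc_16_1 lc_e_rc_18_1 lc_e_rc_13_3 lc_e_rc_13_3 lc_e_rc_18_1 lc_e_rc_27_1 lc_e_rc_9_3 lc_e_rc_18_1 lc_e_rc_13_3 lc_e_rc_18_1 lc_e_rc_4_3 lc_e_rc_13_3 lc_e_rc_13_3 lc_e_rc_27_1 lc_e_rc_13_3 lc_e_rc_4_3 lc_e_rc_16_5 lc_e_rc_16_5 lc_e_rc_16_5 lc_e_rc_13_1 lc_e_rc_18_1 lc_e_rc_4_3 lc_e_rc_18_1 lc_e_rc_18_1 lc_e_rc_27_7 lc_e_rc_18_1 lc_e_rc_13_1 lc_e_rc_13_3 lc_e_rc_18_1 lc_e_rc_18_1 lc_e_rc_19_0 lc_e_rc_9_3 lc_e_rc_18_1 lc_e_rc_16_5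 lc_e_rc_18_1 lc_e_rc_13_3 lc_e_rc_18_1 lc_e_rc_18_1 lc_e_rc_16_5 lc_e_rc_27_7 lc_e_rc_27_7 lc_e_rc_18_1 lc_e_rc_27_7 lc_e_rc_16_5 lc_e_rc_16_5 lc_e_rc_18_1) (@D3.rec (fun _ => (Cert rels S Gen.e)) lc_e_rc_18_1 lc_e_rc_9_1 lc_e_rc_18_1 lc_e_rc_13_3 lc_e_rc_19_2 lc_e_rc_13_3 lc_e_rc_13_3 lc_e_rc_13_3 lc_e_rc_18_1 lc_e_rc_19_2 lc_e_rc_9_1 lc_e_rc_27_5 lc_e_rc_4_3 lc_e_rc_13_3 lc_e_rc_4_3 lc_e_rc_18_1 lc_e_rc_27_7 lc_e_rc_13_3 lc_e_rc_13_3 lc_e_rc_27_5 lc_e_rc_27_1 lc_e_rc_13_3 lc_e_rc_27_1 lc_e_rc_18_1 lc_e_rc_9_3 lc_e_rc_13_3 lc_e_rc_18_1 lc_e_rc_18_1 lc_e_rc_18_1 lc_e_rc_16_5 lc_e_rc_13_1 lc_e_rc_13_3 lc_e_rc_27_5 lc_e_rc_4_1 lc_e_rc_13_3 lc_e_rc_16_3 lc_e_rc_16_3 lc_e_rc_27_5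 lc_e_rc_13_3 lc_e_rc_16_5 lc_e_rc_27_5 lc_e_rc_18_1 lc_e_rc_27_1 lc_e_rc_9_3 lc_e_rc_18_1 lc_e_rc_18_1 lc_e_rc_4_3 lc_e_rc_13_3 lc_e_rc_9_3 lc_e_rc_16_1 lc_e_rc_18_1 lc_e_rc_9_3 lc_e_rc_18_1 lc_e_rc_18_1 lc_e_rc_27_5 lc_e_rc_27_1 lc_e_rc_18_1 lc_e_rc_27_5 lc_e_rc_16_5 lc_e_rc_18_1 lc_e_rc_9_3 lc_e_rc_13_3) (@D3.rec (fun _ => (Cert rels S Gen.e)) lc_e_rc_4_3 lc_e_rc_19_4 lc_e_rc_27_1 lc_e_rc_27_1 lc_e_rc_19_0 lc_e_rc_13_3 lc_e_rc_4_3 lc_e_rc_13_3 lc_e_rc_16_3 lc_e_rc_13_3 lc_e_rc_13_1 lc_e_rc_9_3 lc_e_rc_27_1 lc_e_rc_18_1 lc_e_rc_9_3 lc_e_rc_16_5 lc_e_rc_4_3 lc_e_rc_4_3 lc_e_rc_9_3 lc_e_rc_16_3 lc_e_rc_27_5 lc_e_rc_18_1 lc_e_rc_13_3 lc_e_rc_18_1 lc_e_rc_27_5 lc_e_rc_18_1 lc_e_rc_27_5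 lc_e_rc_27_5 lc_e_rc_4_3 lc_e_rc_4_3 lc_e_rc_19_4 lc_e_rc_18_1 lc_e_rc_13_1 lc_e_rc_18_1 lc_e_rc_18_1 lc_e_rc_19_2 lc_e_rc_19_2 lc_e_rc_18_1 lc_e_rc_18_1 lc_e_rc_18_1 lc_e_rc_27_5 lc_e_rc_18_1 lc_e_rc_18_1 lc_e_rc_18_1 lc_e_rc_4_3 lc_e_rc_27_5 lc_e_rc_18_1 lc_e_rc_19_0 lc_e_rc_4_3 lc_e_rc_9_3 lc_e_rc_27_7 lc_e_rc_18_1 lc_e_rc_13_3 lc_e_rc_19_4 lc_e_rc_18_1 lc_e_rc_4_1 lc_e_rc_27_5 lc_e_rc_18_1 lc_e_rc_18_1 lc_e_rc_13_3 lc_e_rc_18_1 lc_e_rc_18_1)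
def ce_e_32 : D2 → D3 → (Cert rels S Gen.e) := @D2.rec (fun _ => D3 → (Cert rels S Gen.e)) (@D3.rec (fun _ => (Cert rels S Gen.e)) lc_e_rc_9_1 lc_e_rc_13_3 lc_e_rc_4_3 lc_e_rc_13_1 lc_e_rc_13_1 lc_e_rc_16_1 lc_e_rc_27_5 lc_e_rc_19_4 lc_e_rc_18_1 lc_e_rc_18_1 lc_e_rc_9_1 lc_e_rc_19_4 lc_e_rc_16_3 lc_e_rc_13_1 lc_e_rc_18_1 lc_e_rc_19_2 lc_e_rc_19_2 lc_e_rc_18_1 lc_e_rc_13_3 lc_e_rc_18_1 lc_e_rc_16_1 lc_e_rc_16_1 lc_e_rc_16_5 lc_e_rc_13_1 lc_e_rc_27_1 lc_e_rc_19_2 lc_e_rc_18_1 lc_e_rc_27_5 lc_e_rc_27_1 lc_e_rc_4_1 lc_e_rc_16_5 lc_e_rc_18_1 lc_e_rc_16_3 lc_e_rc_16_5 lc_e_rc_13_3 lc_e_rc_13_3 lc_e_rc_27_1 lc_e_rc_18_1 lc_e_rc_18_1 lc_e_rc_18_1 lc_e_rc_13_3 lc_e_rc_18_1 lc_e_rc_19_4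 lc_e_rc_18_1 lc_e_rc_18_1 lc_e_rc_27_1 lc_e_rc_18_1 lc_e_rc_18_1 lc_e_rc_18_1 lc_e_rc_27_7 lc_e_rc_19_4 lc_e_rc_16_5 lc_e_rc_18_1 lc_e_rc_18_1 lc_e_rc_13_1 lc_e_rc_27_7 lc_e_rc_18_1 lc_e_rc_18_1 lc_e_rc_9_3 lc_e_rc_13_3 lc_e_rc_18_1 lc_e_rc_16_1) (@D3.rec (fun _ => (Cert rels S Gen.e)) lc_e_rc_13_3 lc_e_rc_18_1 lc_e_rc_18_1 lc_e_rc_18_1 lc_e_rc_18_1 lc_e_rc_13_3 lc_e_rc_16_1 lc_e_rc_13_1 lc_e_rc_27_1 lc_e_rc_13_3 lc_e_rc_16_1 lc_e_rc_27_5 lc_e_rc_18_1 lc_e_rc_27_1 lc_e_rc_27_5 lc_e_rc_19_2 lc_e_rc_9_3 lc_e_rc_19_0 lc_e_rc_19_4 lc_e_rc_27_5 lc_e_rc_16_5 lc_e_rc_18_1 lc_e_rc_18_1 lc_e_rc_16_1 lc_e_rc_13_3 lc_e_rc_16_5 lc_e_rc_16_5 lc_e_rc_16_5 lc_e_rc_9_3 lc_e_rc_9_3 lc_e_rc_13_3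 lc_e_rc_9_3 lc_e_rc_13_3 lc_e_rc_16_3 lc_e_rc_9_3 lc_e_rc_18_1 lc_e_rc_9_3 lc_e_rc_4_3 lc_e_rc_18_1 lc_e_rc_16_1 lc_e_rc_13_3 lc_e_rc_18_1 lc_e_rc_27_7 lc_e_rc_16_5 lc_e_rc_16_5 lc_e_rc_16_1 lc_e_rc_13_3 lc_e_rc_13_3 lc_e_rc_16_3 lc_e_rc_13_3 lc_e_rc_13_3 lc_e_rc_18_1 lc_e_rc_9_1 lc_e_rc_13_3 lc_e_rc_13_1 lc_e_rc_18_1 lc_e_rc_18_1 lc_e_rc_9_3 lc_e_rc_13_1 lc_e_rc_18_1 lc_e_rc_18_1 lc_e_rc_27_5) (@D3.rec (fun _ => (Cert rels S Gen.e)) lc_e_rc_13_3 lc_e_rc_27_7 lc_e_rc_4_1 lc_e_rc_18_1 lc_e_rc_18_1 lc_e_rc_27_1 lc_e_rc_13_3 lc_e_rc_18_1 lc_e_rc_18_1 lc_e_rc_19_2 lc_e_rc_18_1 lc_e_rc_27_5 lc_e_rc_18_1 lc_e_rc_18_1 lc_e_rc_16_3 lc_e_rc_27_5 lc_e_rc_9_3 lc_e_rc_27_5 lc_e_rc_13_3 lc_e_rc_16_5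 lc_e_rc_18_1 lc_e_rc_18_1 lc_e_rc_18_1 lc_e_rc_18_1 lc_e_rc_19_2 lc_e_rc_9_3 lc_e_rc_27_5 lc_e_rc_27_1 lc_e_rc_13_3 lc_e_rc_18_1 lc_e_rc_18_1 lc_e_rc_9_3 lc_e_rc_9_3 lc_e_rc_27_1 lc_e_rc_4_3 lc_e_rc_13_3 lc_e_rc_18_1 lc_e_rc_27_1 lc_e_rc_18_1 lc_e_rc_13_3 lc_e_rc_19_2 lc_e_rc_13_3 lc_e_rc_18_1 lc_e_rc_19_2 lc_e_rc_27_1 lc_e_rc_13_3 lc_e_rc_13_1 lc_e_rc_27_5 lc_e_rc_16_5 lc_e_rc_18_1 lc_e_rc_4_3 lc_e_rc_19_2 lc_e_rc_27_1 lc_e_rc_27_5 lc_e_rc_16_5 lc_e_rc_9_3 lc_e_rc_27_7 lc_e_rc_16_5 lc_e_rc_16_5 lc_e_rc_18_1 lc_e_rc_13_3 lc_e_rc_13_3) (@D3.rec (fun _ => (Cert rels S Gen.e)) lc_e_rc_9_3 lc_e_rc_16_5 lc_e_rc_18_1 lc_e_rc_16_5 lc_e_rc_13_3 lc_e_rc_13_3 lc_e_rc_16_1 lc_e_rc_19_0 lc_e_rc_18_1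 lc_e_rc_16_3 lc_e_rc_9_3 lc_e_rc_13_3 lc_e_rc_18_1 lc_e_rc_18_1 lc_e_rc_16_5 lc_e_rc_18_1 lc_e_rc_27_1 lc_e_rc_19_2 lc_e_rc_16_5 lc_e_rc_13_1 lc_e_rc_16_5 lc_e_rc_27_5 lc_e_rc_9_3 lc_e_rc_27_1 lc_e_rc_16_3 lc_e_rc_27_5 lc_e_rc_18_1 lc_e_rc_13_3 lc_e_rc_9_3 lc_e_rc_27_5 lc_e_rc_13_3 lc_e_rc_4_3 lc_e_rc_18_1 lc_e_rc_9_3 lc_e_rc_13_3 lc_e_rc_4_1 lc_e_rc_27_1 lc_e_rc_13_3 lc_e_rc_13_3 lc_e_rc_19_4 lc_e_rc_18_1 lc_e_rc_13_3 lc_e_rc_13_1 lc_e_rc_16_1 lc_e_rc_13_3 lc_e_rc_16_1 lc_e_rc_27_1 lc_e_rc_18_1 lc_e_rc_18_1 lc_e_rc_13_3 lc_e_rc_19_4 lc_e_rc_18_1 lc_e_rc_27_5 lc_e_rc_16_5 lc_e_rc_27_7 lc_e_rc_13_3 lc_e_rc_16_5 lc_e_rc_27_7 lc_e_rc_19_0 lc_e_rc_18_1 lc_e_rc_18_1 lc_e_rc_27_7) (@D3.rec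 (fun _ => (Cert rels S Gen.e)) lc_e_rc_18_1 lc_e_rc_13_3 lc_e_rc_18_1 lc_e_rc_13_3 lc_e_rc_13_1 lc_e_rc_18_1 lc_e_rc_13_3 lc_e_rc_4_1 lc_e_rc_27_1 lc_e_rc_13_3 lc_e_rc_18_1 lc_e_rc_9_3 lc_e_rc_13_3 lc_e_rc_13_3 lc_e_rc_16_1 lc_e_rc_13_3 lc_e_rc_13_3 lc_e_rc_4_3 lc_e_rc_18_1 lc_e_rc_16_3 lc_e_rc_18_1 lc_e_rc_13_3 lc_e_rc_18_1 lc_e_rc_18_1 lc_e_rc_18_1 lc_e_rc_16_1 lc_e_rc_19_4 lc_e_rc_16_5 lc_e_rc_13_3 lc_e_rc_27_5 lc_e_rc_18_1 lc_e_rc_4_1 lc_e_rc_18_1 lc_e_rc_18_1 lc_e_rc_13_3 lc_e_rc_18_1 lc_e_rc_18_1 lc_e_rc_18_1 lc_e_rc_9_1 lc_e_rc_16_1 lc_e_rc_27_5 lc_e_rc_9_3 lc_e_rc_18_1 lc_e_rc_16_1 lc_e_rc_19_4 lc_e_rc_27_1 lc_e_rc_27_1 lc_e_rc_18_1 lc_e_rc_27_5 lc_e_rc_19_0 lc_e_rc_4_3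 lc_e_rc_16_1 lc_e_rc_18_1 lc_e_rc_16_5 lc_e_rc_9_3 lc_e_rc_13_3 lc_e_rc_19_2 lc_e_rc_27_5 lc_e_rc_13_3 lc_e_rc_18_1 lc_e_rc_9_1 lc_e_rc_4_3) (@D3.rec (fun _ => (Cert rels S Gen.e)) lc_e_rc_18_1 lc_e_rc_18_1 lc_e_rc_18_1 lc_e_rc_18_1 lc_e_rc_27_5 lc_e_rc_16_3 lc_e_rc_4_3 lc_e_rc_18_1 lc_e_rc_13_1 lc_e_rc_19_0 lc_e_rc_16_1 lc_e_rc_16_5 lc_e_rc_9_1 lc_e_rc_18_1 lc_e_rc_16_3 lc_e_rc_18_1 lc_e_rc_18_1 lc_e_rc_19_4 lc_e_rc_16_3 lc_e_rc_18_1 lc_e_rc_16_3 lc_e_rc_16_3 lc_e_rc_16_1 lc_e_rc_9_3 lc_e_rc_27_5 lc_e_rc_13_3 lc_e_rc_9_3 lc_e_rc_18_1 lc_e_rc_27_5 lc_e_rc_4_3 lc_e_rc_18_1 lc_e_rc_16_3 lc_e_rc_9_3 lc_e_rc_13_3 lc_e_rc_27_1 lc_e_rc_19_4 lc_e_rc_16_5 lc_e_rc_16_3 lc_e_rc_19_4 lc_e_rc_4_3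 lc_e_rc_13_3 lc_e_rc_16_5 lc_e_rc_18_1 lc_e_rc_9_3 lc_e_rc_9_1 lc_e_rc_16_3 lc_e_rc_18_1 lc_e_rc_13_3 lc_e_rc_16_1 lc_e_rc_16_5 lc_e_rc_27_7 lc_e_rc_18_1 lc_e_rc_16_5 lc_e_rc_9_3 lc_e_rc_18_1 lc_e_rc_27_7 lc_e_rc_16_1 lc_e_rc_4_3 lc_e_rc_16_3 lc_e_rc_18_1 lc_e_rc_18_1 lc_e_rc_13_3) (@D3.rec (fun _ => (Cert rels S Gen.e)) lc_e_rc_13_3 lc_e_rc_18_1 lc_e_rc_18_1 lc_e_rc_16_1 lc_e_rc_4_3 lc_e_rc_27_7 lc_e_rc_16_5 lc_e_rc_16_1 lc_e_rc_13_1 lc_e_rc_18_1 lc_e_rc_18_1 lc_e_rc_18_1 lc_e_rc_18_1 lc_e_rc_19_2 lc_e_rc_27_5 lc_e_rc_18_1 lc_e_rc_18_1 lc_e_rc_16_1 lc_e_rc_9_3 lc_e_rc_16_5 lc_e_rc_18_1 lc_e_rc_9_3 lc_e_rc_18_1 lc_e_rc_18_1 lc_e_rc_4_3 lc_e_rc_27_7 lc_e_rc_16_5 lc_e_rc_18_1 lc_e_rc_18_1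 lc_e_rc_16_3 lc_e_rc_13_3 lc_e_rc_27_1 lc_e_rc_27_5 lc_e_rc_27_1 lc_e_rc_18_1 lc_e_rc_27_5 lc_e_rc_18_1 lc_e_rc_18_1 lc_e_rc_27_1 lc_e_rc_16_5 lc_e_rc_13_3 lc_e_rc_27_7 lc_e_rc_16_5 lc_e_rc_18_1 lc_e_rc_18_1 lc_e_rc_16_5 lc_e_rc_9_3 lc_e_rc_13_1 lc_e_rc_9_3 lc_e_rc_27_5 lc_e_rc_16_5 lc_e_rc_27_7 lc_e_rc_18_1 lc_e_rc_16_1 lc_e_rc_18_1 lc_e_rc_9_3 lc_e_rc_13_3 lc_e_rc_13_3 lc_e_rc_18_1 lc_e_rc_9_3 lc_e_rc_27_5 lc_e_rc_27_5) (@D3.rec (fun _ => (Cert rels S Gen.e)) lc_e_rc_16_3 lc_e_rc_9_1 lc_e_rc_18_1 lc_e_rc_19_0 lc_e_rc_18_1 lc_e_rc_9_3 lc_e_rc_27_5 lc_e_rc_16_3 lc_e_rc_9_3 lc_e_rc_16_5 lc_e_rc_18_1 lc_e_rc_16_1 lc_e_rc_13_1 lc_e_rc_27_5 lc_e_rc_27_7 lc_e_rc_18_1 lc_e_rc_16_1 lc_e_rc_16_5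 lc_e_rc_13_3 lc_e_rc_13_3 lc_e_rc_9_3 lc_e_rc_18_1 lc_e_rc_18_1 lc_e_rc_18_1 lc_e_rc_18_1 lc_e_rc_27_1 lc_e_rc_27_5 lc_e_rc_18_1 lc_e_rc_27_5 lc_e_rc_13_1 lc_e_rc_13_1 lc_e_rc_18_1 lc_e_rc_18_1 lc_e_rc_18_1 lc_e_rc_9_3 lc_e_rc_27_1 lc_e_rc_9_3 lc_e_rc_18_1 lc_e_rc_18_1 lc_e_rc_27_1 lc_e_rc_9_1 lc_e_rc_9_3 lc_e_rc_16_3 lc_e_rc_27_7 lc_e_rc_13_3 lc_e_rc_9_3 lc_e_rc_13_3 lc_e_rc_13_3 lc_e_rc_4_3 lc_e_rc_19_2 lc_e_rc_13_3 lc_e_rc_18_1 lc_e_rc_27_1 lc_e_rc_4_3 lc_e_rc_18_1 lc_e_rc_13_1 lc_e_rc_18_1 lc_e_rc_18_1 lc_e_rc_18_1 lc_e_rc_27_1 lc_e_rc_16_5 lc_e_rc_27_5) (@D3.rec (fun _ => (Cert rels S Gen.e)) lc_e_rc_27_5 lc_e_rc_13_3 lc_e_rc_16_1 lc_e_rc_13_3 lc_e_rc_18_1 lc_e_rc_27_7 lc_e_rc_27_1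 lc_e_rc_13_1 lc_e_rc_27_5 lc_e_rc_18_1 lc_e_rc_27_5 lc_e_rc_18_1 lc_e_rc_27_7 lc_e_rc_13_3 lc_e_rc_4_1 lc_e_rc_27_1 lc_e_rc_13_3 lc_e_rc_18_1 lc_e_rc_13_1 lc_e_rc_13_3 lc_e_rc_16_3 lc_e_rc_9_3 lc_e_rc_27_1 lc_e_rc_27_1 lc_e_rc_13_3 lc_e_rc_13_3 lc_e_rc_13_3 lc_e_rc_13_1 lc_e_rc_18_1 lc_e_rc_9_3 lc_e_rc_9_1 lc_e_rc_9_1 lc_e_rc_18_1 lc_e_rc_9_3 lc_e_rc_16_3 lc_e_rc_19_0 lc_e_rc_27_5 lc_e_rc_27_5 lc_e_rc_13_1 lc_e_rc_13_1 lc_e_rc_18_1 lc_e_rc_9_3 lc_e_rc_9_3 lc_e_rc_18_1 lc_e_rc_18_1 lc_e_rc_9_3 lc_e_rc_13_3 lc_e_rc_18_1 lc_e_rc_18_1 lc_e_rc_13_3 lc_e_rc_18_1 lc_e_rc_19_0 lc_e_rc_16_5 lc_e_rc_13_3 lc_e_rc_27_7 lc_e_rc_27_5 lc_e_rc_13_3 lc_e_rc_18_1 lc_e_rc_27_5 lc_e_rc_18_1 lc_e_rc_13_3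 lc_e_rc_18_1) (@D3.rec (fun _ => (Cert rels S Gen.e)) lc_e_rc_18_1 lc_e_rc_9_3 lc_e_rc_9_3 lc_e_rc_18_1 lc_e_rc_19_0 lc_e_rc_18_1 lc_e_rc_16_5 lc_e_rc_9_3 lc_e_rc_18_1 lc_e_rc_27_5 lc_e_rc_13_3 lc_e_rc_27_5 lc_e_rc_18_1 lc_e_rc_18_1 lc_e_rc_13_3 lc_e_rc_13_3 lc_e_rc_27_5 lc_e_rc_13_1 lc_e_rc_18_1 lc_e_rc_13_3 lc_e_rc_18_1 lc_e_rc_16_5 lc_e_rc_18_1 lc_e_rc_27_5 lc_e_rc_4_3 lc_e_rc_16_5 lc_e_rc_13_3 lc_e_rc_19_2 lc_e_rc_16_5 lc_e_rc_13_3 lc_e_rc_4_3 lc_e_rc_18_1 lc_e_rc_13_3 lc_e_rc_16_1 lc_e_rc_19_2 lc_e_rc_19_2 lc_e_rc_13_3 lc_e_rc_4_3 lc_e_rc_13_3 lc_e_rc_16_1 lc_e_rc_18_1 lc_e_rc_13_1 lc_e_rc_18_1 lc_e_rc_18_1 lc_e_rc_13_1 lc_e_rc_27_7 lc_e_rc_9_1 lc_e_rc_9_1 lc_e_rc_19_0 lc_e_rc_18_1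 lc_e_rc_13_3 lc_e_rc_27_7 lc_e_rc_27_5 lc_e_rc_18_1 lc_e_rc_27_1 lc_e_rc_16_3 lc_e_rc_9_3 lc_e_rc_9_1 lc_e_rc_13_3 lc_e_rc_16_3 lc_e_rc_19_0 lc_e_rc_4_1) (@D3.rec (fun _ => (Cert rels S Gen.e)) lc_e_rc_19_0 lc_e_rc_18_1 lc_e_rc_27_1 lc_e_rc_9_1 lc_e_rc_9_3 lc_e_rc_9_3 lc_e_rc_27_5 lc_e_rc_18_1 lc_e_rc_13_3 lc_e_rc_16_5 lc_e_rc_16_3 lc_e_rc_18_1 lc_e_rc_16_1 lc_e_rc_18_1 lc_e_rc_16_5 lc_e_rc_16_5 lc_e_rc_13_1 lc_e_rc_18_1 lc_e_rc_9_3 lc_e_rc_18_1 lc_e_rc_9_3 lc_e_rc_16_3 lc_e_rc_19_0 lc_e_rc_16_1 lc_e_rc_18_1 lc_e_rc_9_1 lc_e_rc_27_1 lc_e_rc_9_3 lc_e_rc_27_7 lc_e_rc_18_1 lc_e_rc_18_1 lc_e_rc_18_1 lc_e_rc_13_3 lc_e_rc_9_1 lc_e_rc_27_5 lc_e_rc_18_1 lc_e_rc_27_7 lc_e_rc_18_1 lc_e_rc_13_3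 lc_e_rc_27_5 lc_e_rc_27_1 lc_e_rc_9_3 lc_e_rc_19_0 lc_e_rc_18_1 lc_e_rc_13_3 lc_e_rc_13_1 lc_e_rc_9_3 lc_e_rc_27_1 lc_e_rc_27_5 lc_e_rc_9_3 lc_e_rc_27_7 lc_e_rc_27_5 lc_e_rc_27_5 lc_e_rc_18_1 lc_e_rc_13_3 lc_e_rc_18_1 lc_e_rc_27_7 lc_e_rc_18_1 lc_e_rc_27_5 lc_e_rc_16_1 lc_e_rc_19_2 lc_e_rc_18_1) (@D3.rec (fun _ => (Cert rels S Gen.e)) lc_e_rc_19_0 lc_e_rc_13_3 lc_e_rc_4_3 lc_e_rc_18_1 lc_e_rc_27_1 lc_e_rc_18_1 lc_e_rc_13_3 lc_e_rc_27_1 lc_e_rc_18_1 lc_e_rc_9_3 lc_e_rc_9_3 lc_e_rc_27_1 lc_e_rc_27_1 lc_e_rc_9_1 lc_e_rc_16_5 lc_e_rc_13_3 lc_e_rc_16_3 lc_e_rc_16_1 lc_e_rc_16_5 lc_e_rc_27_7 lc_e_rc_27_5 lc_e_rc_18_1 lc_e_rc_19_4 lc_e_rc_4_3 lc_e_rc_9_3 lc_e_rc_9_3 lc_e_rc_16_5 lc_e_rc_27_5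 lc_e_rc_27_5 lc_e_rc_9_1 lc_e_rc_18_1 lc_e_rc_9_3 lc_e_rc_18_1 lc_e_rc_27_5 lc_e_rc_16_1 lc_e_rc_9_3 lc_e_rc_18_1 lc_e_rc_18_1 lc_e_rc_18_1 lc_e_rc_16_1 lc_e_rc_27_7 lc_e_rc_18_1 lc_e_rc_13_1 lc_e_rc_16_5 lc_e_rc_13_3 lc_e_rc_9_1 lc_e_rc_9_3 lc_e_rc_16_5 lc_e_rc_9_3 lc_e_rc_4_3 lc_e_rc_9_3 lc_e_rc_9_3 lc_e_rc_18_1 lc_e_rc_18_1 lc_e_rc_13_3 lc_e_rc_18_1 lc_e_rc_13_3 lc_e_rc_16_5 lc_e_rc_18_1 lc_e_rc_27_1 lc_e_rc_9_3 lc_e_rc_18_1) (@D3.rec (fun _ => (Cert rels S Gen.e)) lc_e_rc_27_5 lc_e_rc_13_1 lc_e_rc_18_1 lc_e_rc_4_1 lc_e_rc_9_1 lc_e_rc_13_1 lc_e_rc_18_1 lc_e_rc_16_1 lc_e_rc_16_5 lc_e_rc_13_3 lc_e_rc_9_3 lc_e_rc_18_1 lc_e_rc_18_1 lc_e_rc_13_3 lc_e_rc_16_3 lc_e_rc_13_3 lc_e_rc_27_7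 lc_e_rc_27_5 lc_e_rc_16_1 lc_e_rc_16_5 lc_e_rc_16_5 lc_e_rc_18_1 lc_e_rc_18_1 lc_e_rc_13_3 lc_e_rc_16_5 lc_e_rc_18_1 lc_e_rc_18_1 lc_e_rc_19_2 lc_e_rc_27_5 lc_e_rc_9_3 lc_e_rc_13_3 lc_e_rc_27_5 lc_e_rc_18_1 lc_e_rc_27_7 lc_e_rc_18_1 lc_e_Cert_tree lc_e_rc_18_1 lc_e_rc_13_1 lc_e_rc_16_1 lc_e_rc_18_1 lc_e_rc_16_5 lc_e_rc_18_1 lc_e_rc_27_5 lc_e_rc_13_1 lc_e_rc_18_1 lc_e_rc_27_1 lc_e_rc_18_1 lc_e_rc_9_3 lc_e_rc_4_3 lc_e_rc_13_3 lc_e_rc_9_3 lc_e_rc_13_3 lc_e_rc_9_1 lc_e_rc_27_1 lc_e_rc_9_1 lc_e_rc_13_3 lc_e_rc_13_3 lc_e_rc_16_1 lc_e_rc_9_3 lc_e_rc_4_3 lc_e_rc_18_1 lc_e_rc_9_3) (@D3.rec (fun _ => (Cert rels S Gen.e)) lc_e_rc_18_1 lc_e_rc_4_3 lc_e_rc_18_1 lc_e_rc_18_1 lc_e_rc_18_1 lc_e_rc_19_0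 lc_e_rc_18_1 lc_e_rc_27_5 lc_e_rc_18_1 lc_e_rc_19_4 lc_e_rc_4_3 lc_e_rc_18_1 lc_e_rc_27_5 lc_e_rc_16_5 lc_e_rc_9_3 lc_e_rc_18_1 lc_e_rc_16_3 lc_e_rc_9_3 lc_e_rc_18_1 lc_e_rc_13_1 lc_e_rc_13_1 lc_e_rc_13_3 lc_e_rc_19_2 lc_e_rc_13_1 lc_e_rc_18_1 lc_e_rc_18_1 lc_e_rc_13_3 lc_e_rc_18_1 lc_e_rc_27_1 lc_e_rc_16_5 lc_e_rc_27_5 lc_e_rc_27_1 lc_e_rc_27_5 lc_e_rc_16_1 lc_e_rc_9_3 lc_e_rc_9_3 lc_e_rc_27_7 lc_e_rc_16_5 lc_e_rc_18_1 lc_e_rc_4_3 lc_e_rc_13_3 lc_e_rc_18_1 lc_e_rc_9_3 lc_e_rc_9_3 lc_e_rc_18_1 lc_e_rc_18_1 lc_e_rc_18_1 lc_e_rc_19_2 lc_e_rc_9_1 lc_e_rc_13_3 lc_e_rc_18_1 lc_e_rc_13_3 lc_e_rc_13_3 lc_e_rc_27_5 lc_e_rc_13_3 lc_e_rc_27_7 lc_e_rc_9_3 lc_e_rc_18_1 lc_e_rc_18_1 lc_e_rc_16_3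 lc_e_rc_18_1 lc_e_rc_27_1) (@D3.rec (fun _ => (Cert rels S Gen.e)) lc_e_rc_16_3 lc_e_rc_16_5 lc_e_rc_27_5 lc_e_rc_27_1 lc_e_rc_9_3 lc_e_rc_27_5 lc_e_rc_9_3 lc_e_rc_9_3 lc_e_rc_27_5 lc_e_rc_18_1 lc_e_rc_16_3 lc_e_rc_13_3 lc_e_rc_19_4 lc_e_rc_13_3 lc_e_rc_27_1 lc_e_rc_27_7 lc_e_rc_9_1 lc_e_rc_18_1 lc_e_rc_13_1 lc_e_rc_18_1 lc_e_rc_16_1 lc_e_rc_19_0 lc_e_rc_13_3 lc_e_rc_9_3 lc_e_rc_27_7 lc_e_rc_18_1 lc_e_rc_18_1 lc_e_rc_19_4 lc_e_rc_27_1 lc_e_rc_16_5 lc_e_rc_4_3 lc_e_rc_27_1 lc_e_rc_19_2 lc_e_rc_13_3 lc_e_rc_13_3 lc_e_rc_16_1 lc_e_rc_27_1 lc_e_rc_18_1 lc_e_rc_19_2 lc_e_rc_16_5 lc_e_rc_19_0 lc_e_rc_16_3 lc_e_rc_19_4 lc_e_rc_13_3 lc_e_rc_13_1 lc_e_rc_18_1 lc_e_rc_18_1 lc_e_rc_27_7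 lc_e_rc_18_1 lc_e_rc_9_3 lc_e_rc_13_3 lc_e_rc_13_1 lc_e_rc_9_1 lc_e_rc_18_1 lc_e_rc_13_3 lc_e_rc_19_2 lc_e_rc_19_0 lc_e_rc_4_1 lc_e_rc_9_1 lc_e_rc_27_7 lc_e_rc_4_1 lc_e_rc_9_1) (@D3.rec (fun _ => (Cert rels S Gen.e)) lc_e_rc_18_1 lc_e_rc_13_3 lc_e_rc_19_0 lc_e_rc_27_7 lc_e_rc_16_5 lc_e_rc_13_3 lc_e_rc_13_3 lc_e_rc_4_1 lc_e_rc_13_3 lc_e_rc_19_0 lc_e_rc_9_3 lc_e_rc_13_3 lc_e_rc_18_1 lc_e_rc_16_5 lc_e_rc_19_4 lc_e_rc_27_1 lc_e_rc_13_3 lc_e_rc_18_1 lc_e_rc_27_7 lc_e_rc_18_1 lc_e_rc_27_5 lc_e_rc_16_1 lc_e_rc_9_3 lc_e_rc_27_1 lc_e_rc_27_5 lc_e_rc_18_1 lc_e_rc_18_1 lc_e_rc_18_1 lc_e_rc_19_4 lc_e_rc_13_3 lc_e_rc_18_1 lc_e_rc_16_3 lc_e_rc_9_1 lc_e_rc_16_5 lc_e_rc_16_3 lc_e_rc_4_3 lc_e_rc_13_1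 lc_e_rc_18_1 lc_e_rc_27_7 lc_e_rc_13_1 lc_e_rc_27_1 lc_e_rc_16_5 lc_e_rc_4_3 lc_e_rc_19_0 lc_e_rc_18_1 lc_e_rc_18_1 lc_e_rc_13_3 lc_e_rc_16_3 lc_e_rc_16_1 lc_e_rc_27_5 lc_e_rc_18_1 lc_e_rc_18_1 lc_e_rc_27_7 lc_e_rc_13_3 lc_e_rc_27_5 lc_e_rc_27_5 lc_e_rc_16_1 lc_e_rc_18_1 lc_e_rc_13_3 lc_e_rc_13_3 lc_e_rc_16_3 lc_e_rc_13_3) (@D3.rec (fun _ => (Cert rels S Gen.e)) lc_e_rc_18_1 lc_e_rc_16_1 lc_e_rc_18_1 lc_e_rc_27_7 lc_e_rc_19_4 lc_e_rc_16_1 lc_e_rc_27_7 lc_e_rc_27_7 lc_e_rc_13_1 lc_e_rc_18_1 lc_e_rc_18_1 lc_e_rc_19_2 lc_e_rc_13_1 lc_e_rc_19_0 lc_e_rc_27_5 lc_e_rc_27_5 lc_e_rc_4_3 lc_e_rc_9_3 lc_e_rc_13_3 lc_e_rc_19_2 lc_e_rc_13_3 lc_e_rc_16_3 lc_e_rc_27_1 lc_e_rc_18_1 lc_e_rc_13_3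 lc_e_rc_16_5 lc_e_rc_9_1 lc_e_rc_19_4 lc_e_rc_16_1 lc_e_rc_16_3 lc_e_rc_18_1 lc_e_rc_18_1 lc_e_rc_16_5 lc_e_rc_18_1 lc_e_rc_18_1 lc_e_rc_16_3 lc_e_rc_16_1 lc_e_rc_27_7 lc_e_rc_27_5 lc_e_rc_27_5 lc_e_rc_27_1 lc_e_rc_16_3 lc_e_rc_18_1 lc_e_rc_16_3 lc_e_rc_13_3 lc_e_rc_27_7 lc_e_rc_16_5 lc_e_rc_19_4 lc_e_rc_27_5 lc_e_rc_4_1 lc_e_Cert_tree lc_e_rc_18_1 lc_e_rc_13_3 lc_e_rc_16_5 lc_e_rc_16_3 lc_e_rc_9_1 lc_e_rc_18_1 lc_e_rc_13_3 lc_e_rc_9_3 lc_e_rc_13_3 lc_e_rc_18_1 lc_e_rc_18_1) (@D3.rec (fun _ => (Cert rels S Gen.e)) lc_e_rc_18_1 lc_e_rc_13_3 lc_e_rc_13_3 lc_e_rc_27_7 lc_e_rc_18_1 lc_e_rc_18_1 lc_e_rc_13_3 lc_e_rc_18_1 lc_e_rc_27_1 lc_e_rc_19_4 lc_e_rc_19_0 lc_e_rc_18_1 lc_e_rc_19_2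 lc_e_rc_18_1 lc_e_rc_13_3 lc_e_rc_13_3 lc_e_rc_16_3 lc_e_rc_13_1 lc_e_rc_16_1 lc_e_rc_16_1 lc_e_rc_16_1 lc_e_rc_13_3 lc_e_rc_9_1 lc_e_rc_27_1 lc_e_rc_13_3 lc_e_rc_13_3 lc_e_rc_27_5 lc_e_rc_16_1 lc_e_rc_18_1 lc_e_rc_19_4 lc_e_rc_16_5 lc_e_rc_27_7 lc_e_rc_27_1 lc_e_rc_19_2 lc_e_rc_4_3 lc_e_rc_18_1 lc_e_rc_9_3 lc_e_rc_16_5 lc_e_rc_13_1 lc_e_rc_18_1 lc_e_rc_16_5 lc_e_rc_16_3 lc_e_rc_13_3 lc_e_rc_18_1 lc_e_rc_18_1 lc_e_rc_27_1 lc_e_rc_18_1 lc_e_rc_13_3 lc_e_rc_16_1 lc_e_rc_19_4 lc_e_rc_4_3 lc_e_rc_27_5 lc_e_rc_9_3 lc_e_rc_27_5 lc_e_rc_9_3 lc_e_rc_27_5 lc_e_rc_18_1 lc_e_rc_18_1 lc_e_rc_19_4 lc_e_rc_27_7 lc_e_rc_18_1 lc_e_rc_18_1) (@D3.rec (fun _ => (Cert rels S Gen.e)) lc_e_rc_18_1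 lc_e_rc_16_3 lc_e_rc_19_4 lc_e_rc_9_3 lc_e_rc_9_3 lc_e_rc_16_5 lc_e_rc_9_3 lc_e_rc_9_3 lc_e_rc_18_1 lc_e_rc_9_1 lc_e_rc_18_1 lc_e_rc_13_3 lc_e_rc_18_1 lc_e_rc_13_1 lc_e_rc_16_3 lc_e_rc_13_3 lc_e_rc_18_1 lc_e_rc_16_5 lc_e_rc_16_5 lc_e_rc_9_3 lc_e_rc_9_3 lc_e_rc_19_2 lc_e_rc_27_5 lc_e_rc_19_0 lc_e_rc_18_1 lc_e_rc_13_3 lc_e_rc_13_1 lc_e_rc_19_4 lc_e_rc_27_5 lc_e_rc_18_1 lc_e_rc_27_1 lc_e_rc_16_5 lc_e_rc_18_1 lc_e_rc_27_5 lc_e_rc_9_3 lc_e_rc_18_1 lc_e_rc_18_1 lc_e_rc_18_1 lc_e_rc_27_7 lc_e_rc_16_5 lc_e_rc_13_1 lc_e_rc_18_1 lc_e_rc_27_1 lc_e_rc_27_5 lc_e_rc_13_1 lc_e_rc_13_1 lc_e_rc_18_1 lc_e_rc_18_1 lc_e_rc_13_3 lc_e_rc_18_1 lc_e_rc_18_1 lc_e_rc_27_1 lc_e_rc_18_1 lc_e_rc_13_3 lc_e_rc_13_3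 lc_e_rc_16_3 lc_e_rc_16_5 lc_e_rc_13_3 lc_e_rc_27_5 lc_e_rc_27_1 lc_e_rc_16_3 lc_e_rc_9_3) (@D3.rec (fun _ => (Cert rels S Gen.e)) lc_e_rc_13_1 lc_e_rc_13_3 lc_e_rc_18_1 lc_e_rc_4_1 lc_e_rc_16_5 lc_e_rc_18_1 lc_e_rc_27_5 lc_e_rc_18_1 lc_e_rc_16_1 lc_e_rc_18_1 lc_e_rc_16_5 lc_e_rc_13_3 lc_e_rc_18_1 lc_e_rc_18_1 lc_e_rc_13_3 lc_e_rc_16_5 lc_e_rc_18_1 lc_e_rc_18_1 lc_e_rc_16_1 lc_e_rc_9_1 lc_e_rc_16_5 lc_e_rc_4_3 lc_e_rc_27_5 lc_e_rc_18_1 lc_e_rc_13_1 lc_e_rc_16_3 lc_e_rc_13_3 lc_e_rc_18_1 lc_e_rc_27_1 lc_e_rc_27_7 lc_e_rc_27_5 lc_e_rc_27_1 lc_e_rc_18_1 lc_e_rc_27_5 lc_e_rc_18_1 lc_e_rc_9_3 lc_e_rc_16_1 lc_e_rc_9_1 lc_e_rc_13_1 lc_e_rc_18_1 lc_e_rc_4_1 lc_e_rc_18_1 lc_e_rc_19_4 lc_e_rc_27_5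 lc_e_rc_9_3 lc_e_rc_13_3 lc_e_rc_9_1 lc_e_rc_16_5 lc_e_rc_18_1 lc_e_rc_13_1 lc_e_rc_16_1 lc_e_rc_18_1 lc_e_rc_16_3 lc_e_rc_13_3 lc_e_rc_18_1 lc_e_rc_13_3 lc_e_rc_18_1 lc_e_rc_13_1 lc_e_rc_18_1 lc_e_rc_27_7 lc_e_rc_4_3 lc_e_rc_9_3) (@D3.rec (fun _ => (Cert rels S Gen.e)) lc_e_rc_27_7 lc_e_rc_13_3 lc_e_rc_13_1 lc_e_rc_18_1 lc_e_rc_27_1 lc_e_rc_27_5 lc_e_rc_9_3 lc_e_rc_18_1 lc_e_rc_18_1 lc_e_rc_9_3 lc_e_rc_18_1 lc_e_rc_13_3 lc_e_rc_18_1 lc_e_rc_19_2 lc_e_rc_18_1 lc_e_rc_19_0 lc_e_rc_18_1 lc_e_rc_18_1 lc_e_rc_16_5 lc_e_rc_18_1 lc_e_rc_27_7 lc_e_rc_9_1 lc_e_rc_16_5 lc_e_rc_13_3 lc_e_rc_4_3 lc_e_rc_13_3 lc_e_rc_13_3 lc_e_rc_19_0 lc_e_Cert_tree lc_e_rc_9_3 lc_e_rc_4_3 lc_e_rc_9_3 lc_e_rc_9_3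 lc_e_rc_19_4 lc_e_rc_9_1 lc_e_rc_18_1 lc_e_rc_19_2 lc_e_rc_16_5 lc_e_rc_19_0 lc_e_rc_18_1 lc_e_rc_13_3 lc_e_rc_27_1 lc_e_rc_9_1 lc_e_rc_13_1 lc_e_rc_18_1 lc_e_rc_13_1 lc_e_rc_16_5 lc_e_rc_18_1 lc_e_rc_16_1 lc_e_rc_18_1 lc_e_rc_4_3 lc_e_rc_9_3 lc_e_rc_4_1 lc_e_rc_18_1 lc_e_rc_19_4 lc_e_rc_27_5 lc_e_rc_4_3 lc_e_rc_19_2 lc_e_rc_13_1 lc_e_rc_27_5 lc_e_rc_9_3 lc_e_rc_18_1) (@D3.rec (fun _ => (Cert rels S Gen.e)) lc_e_rc_27_5 lc_e_rc_18_1 lc_e_rc_16_5 lc_e_rc_18_1 lc_e_rc_13_3 lc_e_rc_18_1 lc_e_rc_9_1 lc_e_rc_18_1 lc_e_rc_27_1 lc_e_rc_18_1 lc_e_rc_9_1 lc_e_rc_27_5 lc_e_rc_18_1 lc_e_rc_13_3 lc_e_rc_19_0 lc_e_rc_18_1 lc_e_rc_4_3 lc_e_rc_27_5 lc_e_rc_18_1 lc_e_rc_16_1 lc_e_rc_19_2 lc_e_rc_18_1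 lc_e_rc_18_1 lc_e_rc_13_3 lc_e_rc_19_4 lc_e_rc_27_7 lc_e_rc_13_3 lc_e_rc_9_3 lc_e_rc_4_3 lc_e_rc_27_1 lc_e_rc_16_3 lc_e_rc_27_7 lc_e_rc_18_1 lc_e_rc_16_1 lc_e_rc_13_1 lc_e_rc_18_1 lc_e_rc_27_7 lc_e_rc_18_1 lc_e_rc_18_1 lc_e_rc_16_1 lc_e_rc_18_1 lc_e_rc_18_1 lc_e_rc_18_1 lc_e_rc_18_1 lc_e_rc_9_3 lc_e_rc_13_3 lc_e_rc_16_3 lc_e_rc_13_3 lc_e_rc_18_1 lc_e_rc_18_1 lc_e_rc_16_5 lc_e_rc_18_1 lc_e_rc_16_5 lc_e_rc_18_1 lc_e_rc_9_3 lc_e_rc_27_5 lc_e_rc_16_1 lc_e_rc_27_7 lc_e_rc_16_5 lc_e_rc_18_1 lc_e_rc_9_3 lc_e_rc_27_1) (@D3.rec (fun _ => (Cert rels S Gen.e)) lc_e_rc_27_1 lc_e_rc_13_1 lc_e_rc_4_3 lc_e_rc_19_2 lc_e_rc_18_1 lc_e_rc_18_1 lc_e_rc_19_0 lc_e_rc_16_3 lc_e_rc_9_3 lc_e_rc_27_1 lc_e_rc_18_1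 lc_e_rc_18_1 lc_e_rc_9_3 lc_e_rc_18_1 lc_e_rc_4_3 lc_e_rc_18_1 lc_e_rc_18_1 lc_e_rc_16_5 lc_e_rc_18_1 lc_e_rc_18_1 lc_e_rc_18_1 lc_e_rc_9_1 lc_e_rc_13_3 lc_e_rc_4_3 lc_e_rc_18_1 lc_e_rc_9_3 lc_e_rc_13_3 lc_e_rc_9_1 lc_e_rc_18_1 lc_e_rc_13_3 lc_e_rc_18_1 lc_e_rc_19_0 lc_e_rc_18_1 lc_e_rc_27_1 lc_e_rc_16_5 lc_e_rc_18_1 lc_e_rc_18_1 lc_e_rc_9_3 lc_e_rc_13_1 lc_e_rc_18_1 lc_e_rc_18_1 lc_e_rc_18_1 lc_e_rc_13_1 lc_e_rc_18_1 lc_e_rc_18_1 lc_e_rc_16_3 lc_e_rc_19_2 lc_e_rc_13_3 lc_e_rc_13_3 lc_e_rc_16_5 lc_e_rc_16_5 lc_e_rc_27_5 lc_e_rc_9_3 lc_e_rc_4_3 lc_e_rc_27_5 lc_e_rc_19_0 lc_e_rc_9_1 lc_e_rc_9_3 lc_e_rc_13_1 lc_e_rc_18_1 lc_e_rc_18_1 lc_e_rc_19_2) (@D3.rec (fun _ => (Cert rels S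 Gen.e)) lc_e_rc_19_0 lc_e_rc_16_5 lc_e_rc_16_3 lc_e_rc_9_1 lc_e_rc_27_7 lc_e_rc_18_1 lc_e_rc_13_3 lc_e_rc_16_1 lc_e_rc_18_1 lc_e_rc_19_4 lc_e_rc_9_3 lc_e_rc_4_3 lc_e_rc_13_3 lc_e_rc_19_2 lc_e_rc_18_1 lc_e_rc_18_1 lc_e_rc_13_3 lc_e_rc_27_1 lc_e_rc_13_1 lc_e_rc_18_1 lc_e_rc_9_3 lc_e_rc_9_1 lc_e_rc_13_3 lc_e_rc_13_3 lc_e_rc_27_1 lc_e_rc_9_1 lc_e_rc_18_1 lc_e_rc_16_5 lc_e_rc_13_3 lc_e_rc_27_5 lc_e_rc_18_1 lc_e_rc_16_1 lc_e_rc_13_1 lc_e_rc_9_3 lc_e_rc_18_1 lc_e_rc_13_3 lc_e_rc_16_5 lc_e_rc_18_1 lc_e_rc_13_3 lc_e_rc_18_1 lc_e_rc_18_1 lc_e_rc_9_3 lc_e_rc_18_1 lc_e_rc_18_1 lc_e_rc_18_1 lc_e_rc_16_5 lc_e_rc_18_1 lc_e_rc_18_1 lc_e_rc_18_1 lc_e_rc_4_3 lc_e_rc_27_5 lc_e_rc_9_3 lc_e_rc_16_3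 lc_e_rc_16_5 lc_e_rc_18_1 lc_e_rc_16_5 lc_e_rc_19_2 lc_e_rc_27_5 lc_e_rc_18_1 lc_e_rc_16_1 lc_e_rc_18_1 lc_e_rc_19_2) (@D3.rec (fun _ => (Cert rels S Gen.e)) lc_e_rc_16_5 lc_e_rc_9_3 lc_e_rc_18_1 lc_e_rc_18_1 lc_e_rc_19_2 lc_e_rc_18_1 lc_e_rc_4_3 lc_e_rc_18_1 lc_e_rc_18_1 lc_e_rc_18_1 lc_e_rc_19_4 lc_e_rc_13_3 lc_e_rc_18_1 lc_e_rc_18_1 lc_e_rc_16_5 lc_e_rc_18_1 lc_e_rc_18_1 lc_e_rc_4_3 lc_e_rc_18_1 lc_e_rc_9_3 lc_e_rc_4_3 lc_e_rc_13_3 lc_e_rc_13_3 lc_e_rc_27_5 lc_e_rc_9_3 lc_e_rc_16_3 lc_e_rc_16_5 lc_e_rc_27_7 lc_e_rc_13_3 lc_e_rc_27_5 lc_e_rc_19_0 lc_e_rc_18_1 lc_e_rc_4_3 lc_e_rc_18_1 lc_e_rc_9_3 lc_e_rc_9_3 lc_e_rc_18_1 lc_e_rc_4_3 lc_e_rc_27_1 lc_e_rc_9_3 lc_e_rc_4_3 lc_e_rc_9_3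 lc_e_rc_13_3 lc_e_rc_4_3 lc_e_rc_19_2 lc_e_rc_27_1 lc_e_rc_16_5 lc_e_rc_13_3 lc_e_rc_13_3 lc_e_rc_27_7 lc_e_rc_18_1 lc_e_rc_13_1 lc_e_rc_18_1 lc_e_rc_18_1 lc_e_rc_16_5 lc_e_rc_18_1 lc_e_rc_9_3 lc_e_rc_27_5 lc_e_rc_9_3 lc_e_rc_16_3 lc_e_rc_18_1 lc_e_rc_13_3) (@D3.rec (fun _ => (Cert rels S Gen.e)) lc_e_rc_18_1 lc_e_rc_4_3 lc_e_rc_9_1 lc_e_rc_9_3 lc_e_rc_27_7 lc_e_rc_18_1 lc_e_rc_16_1 lc_e_rc_27_1 lc_e_rc_27_5 lc_e_rc_27_1 lc_e_rc_16_5 lc_e_rc_13_3 lc_e_rc_18_1 lc_e_rc_13_3 lc_e_rc_16_1 lc_e_rc_27_5 lc_e_rc_9_3 lc_e_rc_16_1 lc_e_rc_9_1 lc_e_rc_18_1 lc_e_rc_13_1 lc_e_rc_13_3 lc_e_rc_13_3 lc_e_rc_4_3 lc_e_rc_9_3 lc_e_rc_18_1 lc_e_rc_16_5 lc_e_rc_13_3 lc_e_rc_9_3 lc_e_rc_9_3 lc_e_rc_16_5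 lc_e_rc_9_3 lc_e_rc_13_3 lc_e_rc_18_1 lc_e_rc_4_1 lc_e_rc_16_3 lc_e_rc_19_4 lc_e_rc_18_1 lc_e_rc_27_5 lc_e_rc_18_1 lc_e_rc_27_7 lc_e_Cert_tree lc_e_rc_27_5 lc_e_rc_18_1 lc_e_rc_18_1 lc_e_rc_18_1 lc_e_rc_18_1 lc_e_rc_16_1 lc_e_rc_13_3 lc_e_rc_9_1 lc_e_rc_13_3 lc_e_rc_9_3 lc_e_rc_27_1 lc_e_rc_18_1 lc_e_rc_18_1 lc_e_rc_16_3 lc_e_rc_9_3 lc_e_rc_18_1 lc_e_rc_18_1 lc_e_rc_4_3 lc_e_rc_27_1 lc_e_rc_19_2) (@D3.rec (fun _ => (Cert rels S Gen.e)) lc_e_rc_18_1 lc_e_rc_16_5 lc_e_rc_18_1 lc_e_rc_16_1 lc_e_rc_16_3 lc_e_rc_27_1 lc_e_rc_19_4 lc_e_rc_16_3 lc_e_rc_13_3 lc_e_rc_19_2 lc_e_rc_19_4 lc_e_rc_16_3 lc_e_rc_19_4 lc_e_rc_18_1 lc_e_rc_13_1 lc_e_rc_13_3 lc_e_rc_9_1 lc_e_rc_16_5 lc_e_rc_18_1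 lc_e_rc_13_3 lc_e_rc_18_1 lc_e_rc_16_3 lc_e_rc_9_3 lc_e_rc_9_1 lc_e_rc_27_7 lc_e_rc_18_1 lc_e_rc_18_1 lc_e_rc_9_3 lc_e_rc_18_1 lc_e_rc_18_1 lc_e_rc_16_1 lc_e_rc_27_7 lc_e_rc_19_4 lc_e_rc_13_3 lc_e_rc_18_1 lc_e_rc_27_1 lc_e_rc_27_5 lc_e_rc_18_1 lc_e_rc_9_1 lc_e_rc_16_3 lc_e_rc_18_1 lc_e_rc_13_3 lc_e_rc_16_3 lc_e_rc_16_3 lc_e_rc_16_5 lc_e_rc_27_1 lc_e_rc_27_5 lc_e_rc_13_1 lc_e_rc_9_1 lc_e_rc_4_3 lc_e_rc_16_5 lc_e_rc_18_1 lc_e_rc_16_3 lc_e_rc_13_3 lc_e_rc_27_5 lc_e_rc_18_1 lc_e_rc_9_3 lc_e_rc_13_3 lc_e_rc_16_5 lc_e_rc_19_0 lc_e_rc_13_1 lc_e_rc_18_1) (@D3.rec (fun _ => (Cert rels S Gen.e)) lc_e_rc_18_1 lc_e_rc_9_3 lc_e_rc_9_1 lc_e_rc_16_5 lc_e_rc_13_3 lc_e_rc_16_3 lc_e_rc_18_1 lc_e_rc_16_3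 lc_e_rc_4_1 lc_e_rc_9_3 lc_e_rc_13_3 lc_e_rc_4_1 lc_e_rc_4_1 lc_e_rc_18_1 lc_e_rc_16_3 lc_e_rc_18_1 lc_e_rc_19_4 lc_e_rc_16_3 lc_e_Cert_tree lc_e_rc_9_3 lc_e_Cert_tree lc_e_rc_18_1 lc_e_rc_13_1 lc_e_rc_9_1 lc_e_rc_18_1 lc_e_rc_16_1 lc_e_rc_18_1 lc_e_rc_19_2 lc_e_rc_16_3 lc_e_rc_27_7 lc_e_rc_27_7 lc_e_rc_13_3 lc_e_rc_13_3 lc_e_rc_9_3 lc_e_rc_18_1 lc_e_rc_9_3 lc_e_rc_18_1 lc_e_rc_18_1 lc_e_rc_18_1 lc_e_rc_18_1 lc_e_rc_18_1 lc_e_rc_13_3 lc_e_rc_16_1 lc_e_rc_18_1 lc_e_rc_16_5 lc_e_rc_18_1 lc_e_rc_27_7 lc_e_rc_13_3 lc_e_rc_9_1 lc_e_rc_9_3 lc_e_rc_4_3 lc_e_rc_18_1 lc_e_rc_13_3 lc_e_rc_18_1 lc_e_rc_27_1 lc_e_rc_19_2 lc_e_rc_19_2 lc_e_rc_27_1 lc_e_rc_18_1 lc_e_rc_13_3 lc_e_rc_18_1 lc_e_rc_19_2)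 (@D3.rec (fun _ => (Cert rels S Gen.e)) lc_e_rc_27_5 lc_e_rc_27_1 lc_e_rc_9_3 lc_e_rc_19_0 lc_e_rc_18_1 lc_e_rc_27_1 lc_e_rc_27_1 lc_e_rc_27_5 lc_e_rc_16_3 lc_e_rc_13_3 lc_e_rc_13_3 lc_e_rc_16_3 lc_e_rc_9_1 lc_e_rc_27_5 lc_e_rc_4_3 lc_e_rc_13_3 lc_e_rc_27_7 lc_e_rc_18_1 lc_e_rc_16_5 lc_e_rc_13_1 lc_e_rc_19_2 lc_e_rc_9_3 lc_e_rc_4_3 lc_e_rc_27_5 lc_e_rc_4_3 lc_e_rc_27_5 lc_e_rc_9_1 lc_e_rc_9_3 lc_e_rc_18_1 lc_e_rc_18_1 lc_e_rc_16_5 lc_e_rc_13_3 lc_e_rc_18_1 lc_e_rc_18_1 lc_e_rc_16_3 lc_e_rc_16_3 lc_e_rc_16_5 lc_e_rc_9_3 lc_e_rc_18_1 lc_e_rc_13_3 lc_e_rc_13_3 lc_e_rc_4_3 lc_e_rc_18_1 lc_e_rc_9_3 lc_e_rc_16_3 lc_e_rc_9_3 lc_e_rc_16_3 lc_e_rc_19_2 lc_e_rc_13_3 lc_e_rc_18_1 lc_e_rc_18_1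 lc_e_rc_18_1 lc_e_rc_16_3 lc_e_rc_18_1 lc_e_rc_16_1 lc_e_rc_27_7 lc_e_rc_4_3 lc_e_rc_18_1 lc_e_rc_16_3 lc_e_rc_19_2 lc_e_rc_27_7 lc_e_rc_18_1) (@D3.rec (fun _ => (Cert rels S Gen.e)) lc_e_rc_9_1 lc_e_rc_13_3 lc_e_rc_18_1 lc_e_rc_16_3 lc_e_rc_27_1 lc_e_rc_27_7 lc_e_rc_27_1 lc_e_rc_16_1 lc_e_rc_16_1 lc_e_rc_13_3 lc_e_rc_18_1 lc_e_rc_9_3 lc_e_rc_13_3 lc_e_rc_18_1 lc_e_rc_19_4 lc_e_rc_16_5 lc_e_rc_16_3 lc_e_rc_16_3 lc_e_rc_13_3 lc_e_rc_16_5 lc_e_rc_4_3 lc_e_rc_18_1 lc_e_rc_9_3 lc_e_rc_4_3 lc_e_rc_13_3 lc_e_rc_27_7 lc_e_rc_18_1 lc_e_rc_27_1 lc_e_rc_13_3 lc_e_rc_18_1 lc_e_rc_4_3 lc_e_rc_9_3 lc_e_rc_18_1 lc_e_rc_18_1 lc_e_rc_18_1 lc_e_rc_18_1 lc_e_rc_9_1 lc_e_rc_4_3 lc_e_rc_27_1 lc_e_rc_27_5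 lc_e_rc_16_3 lc_e_rc_18_1 lc_e_rc_4_3 lc_e_rc_16_3 lc_e_rc_16_5 lc_e_rc_19_0 lc_e_rc_18_1 lc_e_rc_9_3 lc_e_rc_18_1 lc_e_rc_16_1 lc_e_rc_9_3 lc_e_rc_16_1 lc_e_rc_13_1 lc_e_rc_18_1 lc_e_rc_19_0 lc_e_rc_18_1 lc_e_rc_18_1 lc_e_rc_13_3 lc_e_rc_18_1 lc_e_rc_27_1 lc_e_rc_13_3 lc_e_rc_13_3) (@D3.rec (fun _ => (Cert rels S Gen.e)) lc_e_rc_16_1 lc_e_rc_27_7 lc_e_rc_18_1 lc_e_rc_18_1 lc_e_rc_18_1 lc_e_rc_9_3 lc_e_rc_13_3 lc_e_rc_9_1 lc_e_rc_13_1 lc_e_rc_18_1 lc_e_rc_18_1 lc_e_rc_9_1 lc_e_rc_9_3 lc_e_rc_4_3 lc_e_rc_18_1 lc_e_rc_18_1 lc_e_rc_19_2 lc_e_rc_19_2 lc_e_rc_9_1 lc_e_rc_27_5 lc_e_rc_27_7 lc_e_rc_18_1 lc_e_rc_9_1 lc_e_rc_13_3 lc_e_rc_16_3 lc_e_rc_27_1 lc_e_rc_13_3 lc_e_rc_18_1 lc_e_rc_18_1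 lc_e_rc_13_1 lc_e_rc_27_5 lc_e_rc_18_1 lc_e_rc_18_1 lc_e_rc_18_1 lc_e_rc_13_3 lc_e_rc_19_4 lc_e_rc_13_3 lc_e_rc_27_5 lc_e_rc_18_1 lc_e_rc_16_3 lc_e_rc_18_1 lc_e_rc_13_1 lc_e_rc_16_5 lc_e_rc_9_1 lc_e_rc_4_3 lc_e_rc_27_1 lc_e_rc_9_3 lc_e_rc_19_0 lc_e_rc_13_3 lc_e_rc_13_1 lc_e_rc_16_1 lc_e_rc_13_3 lc_e_rc_9_3 lc_e_rc_13_1 lc_e_rc_16_3 lc_e_rc_16_1 lc_e_rc_27_1 lc_e_rc_19_2 lc_e_rc_18_1 lc_e_rc_27_1 lc_e_rc_13_3 lc_e_rc_16_5) (@D3.rec (fun _ => (Cert rels S Gen.e)) lc_e_rc_4_3 lc_e_rc_9_3 lc_e_rc_13_3 lc_e_rc_13_3 lc_e_rc_13_3 lc_e_rc_4_3 lc_e_rc_9_3 lc_e_rc_13_3 lc_e_rc_18_1 lc_e_rc_18_1 lc_e_rc_16_3 lc_e_rc_16_5 lc_e_rc_9_3 lc_e_rc_9_3 lc_e_rc_9_3 lc_e_rc_27_5 lc_e_rc_13_1 lc_e_rc_27_7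 lc_e_rc_13_3 lc_e_rc_18_1 lc_e_rc_13_3 lc_e_rc_16_3 lc_e_rc_13_3 lc_e_rc_18_1 lc_e_rc_13_3 lc_e_rc_27_1 lc_e_rc_18_1 lc_e_rc_9_3 lc_e_rc_16_3 lc_e_rc_16_5 lc_e_rc_27_1 lc_e_rc_18_1 lc_e_rc_16_1 lc_e_rc_18_1 lc_e_rc_13_3 lc_e_rc_16_3 lc_e_rc_9_1 lc_e_rc_13_3 lc_e_rc_18_1 lc_e_rc_18_1 lc_e_rc_18_1 lc_e_rc_16_1 lc_e_rc_18_1 lc_e_rc_18_1 lc_e_rc_18_1 lc_e_rc_18_1 lc_e_rc_27_7 lc_e_rc_4_3 lc_e_rc_18_1 lc_e_rc_18_1 lc_e_rc_9_3 lc_e_rc_16_5 lc_e_rc_9_1 lc_e_rc_13_3 lc_e_rc_18_1 lc_e_rc_19_4 lc_e_rc_16_3 lc_e_rc_27_7 lc_e_rc_9_1 lc_e_rc_27_5 lc_e_rc_18_1 lc_e_rc_9_1) (@D3.rec (fun _ => (Cert rels S Gen.e)) lc_e_rc_18_1 lc_e_rc_18_1 lc_e_rc_27_5 lc_e_rc_18_1 lc_e_rc_27_1 lc_e_rc_16_3 lc_e_rc_27_1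 lc_e_rc_18_1 lc_e_rc_9_3 lc_e_rc_9_1 lc_e_rc_13_3 lc_e_rc_18_1 lc_e_rc_16_3 lc_e_rc_13_1 lc_e_rc_13_1 lc_e_rc_13_3 lc_e_rc_16_5 lc_e_rc_19_0 lc_e_rc_16_1 lc_e_rc_9_3 lc_e_rc_9_3 lc_e_rc_27_5 lc_e_rc_13_1 lc_e_rc_18_1 lc_e_rc_9_3 lc_e_rc_13_3 lc_e_rc_13_3 lc_e_rc_13_3 lc_e_rc_18_1 lc_e_rc_27_1 lc_e_rc_18_1 lc_e_rc_16_5 lc_e_rc_16_5 lc_e_rc_19_4 lc_e_rc_16_5 lc_e_rc_18_1 lc_e_rc_4_3 lc_e_rc_18_1 lc_e_rc_18_1 lc_e_rc_9_3 lc_e_rc_19_2 lc_e_rc_4_3 lc_e_rc_27_5 lc_e_rc_13_3 lc_e_rc_9_3 lc_e_rc_13_3 lc_e_rc_18_1 lc_e_rc_9_3 lc_e_rc_27_5 lc_e_rc_19_2 lc_e_rc_18_1 lc_e_rc_13_1 lc_e_rc_27_5 lc_e_rc_16_5 lc_e_rc_27_7 lc_e_rc_9_3 lc_e_rc_9_3 lc_e_rc_18_1 lc_e_rc_16_5 lc_e_rc_13_1 lc_e_rc_18_1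 lc_e_rc_9_1) (@D3.rec (fun _ => (Cert rels S Gen.e)) lc_e_rc_16_5 lc_e_rc_18_1 lc_e_rc_27_7 lc_e_rc_16_5 lc_e_rc_9_3 lc_e_rc_9_3 lc_e_rc_18_1 lc_e_rc_13_3 lc_e_rc_9_3 lc_e_rc_9_3 lc_e_rc_19_2 lc_e_rc_4_3 lc_e_rc_13_3 lc_e_rc_18_1 lc_e_rc_18_1 lc_e_rc_18_1 lc_e_rc_18_1 lc_e_rc_16_3 lc_e_rc_13_3 lc_e_rc_18_1 lc_e_rc_18_1 lc_e_rc_9_1 lc_e_rc_13_3 lc_e_rc_27_5 lc_e_rc_13_3 lc_e_rc_19_2 lc_e_rc_9_3 lc_e_rc_18_1 lc_e_rc_19_2 lc_e_rc_9_3 lc_e_rc_19_0 lc_e_rc_18_1 lc_e_rc_19_0 lc_e_rc_27_1 lc_e_rc_18_1 lc_e_rc_18_1 lc_e_rc_18_1 lc_e_rc_9_3 lc_e_rc_13_3 lc_e_rc_18_1 lc_e_rc_18_1 lc_e_rc_9_3 lc_e_rc_18_1 lc_e_rc_13_3 lc_e_rc_18_1 lc_e_rc_16_3 lc_e_rc_18_1 lc_e_rc_18_1 lc_e_rc_19_2 lc_e_rc_27_5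 lc_e_rc_18_1 lc_e_rc_18_1 lc_e_rc_27_1 lc_e_rc_4_1 lc_e_rc_19_0 lc_e_rc_18_1 lc_e_rc_13_3 lc_e_rc_27_1 lc_e_rc_16_1 lc_e_rc_19_2 lc_e_rc_13_3 lc_e_rc_16_3) (@D3.rec (fun _ => (Cert rels S Gen.e)) lc_e_rc_16_5 lc_e_rc_27_1 lc_e_rc_13_1 lc_e_rc_18_1 lc_e_rc_4_3 lc_e_rc_27_7 lc_e_rc_18_1 lc_e_rc_27_1 lc_e_rc_19_2 lc_e_rc_27_7 lc_e_rc_9_3 lc_e_rc_13_3 lc_e_rc_16_1 lc_e_rc_19_2 lc_e_rc_16_3 lc_e_rc_13_3 lc_e_rc_27_5 lc_e_rc_18_1 lc_e_rc_16_5 lc_e_rc_9_3 lc_e_rc_18_1 lc_e_rc_27_7 lc_e_rc_13_3 lc_e_rc_16_5 lc_e_rc_9_3 lc_e_rc_9_1 lc_e_rc_18_1 lc_e_rc_9_1 lc_e_rc_9_3 lc_e_rc_18_1 lc_e_rc_16_5 lc_e_rc_27_5 lc_e_rc_19_2 lc_e_rc_13_3 lc_e_rc_9_1 lc_e_rc_16_3 lc_e_rc_18_1 lc_e_rc_18_1 lc_e_rc_27_7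 lc_e_rc_27_1 lc_e_rc_18_1 lc_e_rc_19_2 lc_e_rc_18_1 lc_e_rc_19_4 lc_e_rc_9_3 lc_e_rc_18_1 lc_e_rc_19_4 lc_e_rc_27_5 lc_e_rc_19_4 lc_e_rc_18_1 lc_e_rc_4_3 lc_e_rc_16_5 lc_e_rc_16_3 lc_e_rc_27_5 lc_e_rc_18_1 lc_e_rc_27_7 lc_e_rc_18_1 lc_e_rc_13_3 lc_e_rc_13_1 lc_e_rc_4_1 lc_e_rc_18_1 lc_e_rc_16_3) (@D3.rec (fun _ => (Cert rels S Gen.e)) lc_e_rc_18_1 lc_e_rc_16_3 lc_e_rc_18_1 lc_e_rc_4_3 lc_e_rc_19_4 lc_e_rc_18_1 lc_e_rc_18_1 lc_e_rc_18_1 lc_e_rc_27_5 lc_e_rc_13_3 lc_e_rc_9_3 lc_e_rc_19_0 lc_e_rc_27_1 lc_e_rc_18_1 lc_e_rc_27_1 lc_e_rc_13_3 lc_e_rc_27_1 lc_e_rc_27_1 lc_e_rc_18_1 lc_e_rc_13_3 lc_e_rc_27_7 lc_e_rc_4_3 lc_e_rc_9_1 lc_e_rc_19_2 lc_e_rc_9_3 lc_e_rc_18_1 lc_e_rc_13_3 lc_e_rc_9_3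 lc_e_rc_16_3 lc_e_rc_13_1 lc_e_rc_9_1 lc_e_rc_9_3 lc_e_rc_9_3 lc_e_rc_9_3 lc_e_rc_18_1 lc_e_rc_18_1 lc_e_rc_4_3 lc_e_rc_13_3 lc_e_rc_16_5 lc_e_rc_16_5 lc_e_rc_16_1 lc_e_rc_19_4 lc_e_rc_13_1 lc_e_rc_13_3 lc_e_rc_27_1 lc_e_rc_18_1 lc_e_rc_27_5 lc_e_rc_9_1 lc_e_rc_18_1 lc_e_rc_27_1 lc_e_rc_4_3 lc_e_rc_9_1 lc_e_rc_13_1 lc_e_rc_9_3 lc_e_rc_9_3 lc_e_rc_13_1 lc_e_rc_9_3 lc_e_rc_27_7 lc_e_rc_9_3 lc_e_rc_18_1 lc_e_rc_16_5 lc_e_rc_9_3) (@D3.rec (fun _ => (Cert rels S Gen.e)) lc_e_rc_13_3 lc_e_rc_27_1 lc_e_rc_18_1 lc_e_rc_4_1 lc_e_rc_13_3 lc_e_rc_4_1 lc_e_rc_18_1 lc_e_rc_13_1 lc_e_rc_13_3 lc_e_rc_18_1 lc_e_rc_18_1 lc_e_rc_18_1 lc_e_rc_27_7 lc_e_rc_16_5 lc_e_rc_13_3 lc_e_rc_13_1 lc_e_rc_18_1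 lc_e_rc_13_1 lc_e_rc_18_1 lc_e_rc_9_3 lc_e_rc_19_2 lc_e_rc_27_5 lc_e_rc_18_1 lc_e_rc_18_1 lc_e_rc_16_3 lc_e_rc_9_1 lc_e_rc_13_3 lc_e_rc_18_1 lc_e_rc_4_3 lc_e_rc_16_3 lc_e_rc_4_3 lc_e_rc_18_1 lc_e_rc_4_3 lc_e_rc_19_2 lc_e_rc_9_1 lc_e_rc_18_1 lc_e_rc_18_1 lc_e_rc_16_3 lc_e_rc_16_5 lc_e_rc_9_3 lc_e_rc_19_4 lc_e_rc_18_1 lc_e_rc_18_1 lc_e_rc_4_1 lc_e_rc_18_1 lc_e_rc_27_1 lc_e_rc_18_1 lc_e_rc_4_3 lc_e_rc_19_2 lc_e_rc_27_5 lc_e_rc_16_3 lc_e_rc_19_2 lc_e_rc_13_3 lc_e_rc_9_3 lc_e_rc_9_3 lc_e_rc_13_3 lc_e_rc_27_7 lc_e_rc_18_1 lc_e_rc_9_3 lc_e_rc_27_7 lc_e_rc_16_1 lc_e_rc_4_3) (@D3.rec (fun _ => (Cert rels S Gen.e)) lc_e_rc_16_3 lc_e_rc_27_1 lc_e_rc_13_3 lc_e_rc_18_1 lc_e_rc_16_3 lc_e_rc_13_1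 lc_e_rc_18_1 lc_e_rc_13_3 lc_e_rc_13_3 lc_e_rc_16_5 lc_e_rc_13_3 lc_e_rc_18_1 lc_e_rc_16_5 lc_e_rc_4_3 lc_e_rc_9_3 lc_e_rc_13_3 lc_e_rc_16_3 lc_e_rc_27_1 lc_e_rc_18_1 lc_e_rc_9_3 lc_e_rc_13_1 lc_e_rc_16_5 lc_e_rc_13_1 lc_e_rc_18_1 lc_e_rc_16_5 lc_e_rc_18_1 lc_e_rc_9_1 lc_e_rc_9_1 lc_e_rc_9_1 lc_e_rc_13_3 lc_e_rc_27_7 lc_e_rc_9_1 lc_e_rc_9_3 lc_e_rc_16_5 lc_e_rc_9_3 lc_e_rc_27_5 lc_e_rc_27_1 lc_e_rc_13_3 lc_e_rc_13_1 lc_e_rc_18_1 lc_e_rc_19_4 lc_e_rc_18_1 lc_e_rc_4_3 lc_e_rc_27_7 lc_e_rc_27_1 lc_e_rc_18_1 lc_e_rc_13_3 lc_e_rc_9_3 lc_e_rc_4_3 lc_e_rc_13_3 lc_e_rc_13_3 lc_e_rc_13_3 lc_e_rc_18_1 lc_e_rc_4_3 lc_e_rc_18_1 lc_e_rc_18_1 lc_e_rc_18_1 lc_e_rc_18_1 lc_e_rc_27_5 lc_e_rc_27_1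 lc_e_rc_27_1 lc_e_rc_13_3) (@D3.rec (fun _ => (Cert rels S Gen.e)) lc_e_rc_27_5 lc_e_rc_9_3 lc_e_rc_18_1 lc_e_rc_9_1 lc_e_rc_13_3 lc_e_rc_4_1 lc_e_rc_18_1 lc_e_rc_13_1 lc_e_rc_16_5 lc_e_rc_18_1 lc_e_rc_16_3 lc_e_rc_9_3 lc_e_rc_13_3 lc_e_rc_13_3 lc_e_rc_18_1 lc_e_rc_9_1 lc_e_rc_18_1 lc_e_rc_9_1 lc_e_rc_18_1 lc_e_rc_9_1 lc_e_rc_18_1 lc_e_rc_18_1 lc_e_rc_13_3 lc_e_rc_18_1 lc_e_rc_9_3 lc_e_rc_4_3 lc_e_rc_19_2 lc_e_rc_13_3 lc_e_rc_13_1 lc_e_rc_13_3 lc_e_rc_18_1 lc_e_rc_18_1 lc_e_rc_13_3 lc_e_rc_13_3 lc_e_rc_18_1 lc_e_rc_18_1 lc_e_rc_27_1 lc_e_rc_18_1 lc_e_rc_18_1 lc_e_rc_16_1 lc_e_rc_27_1 lc_e_rc_16_1 lc_e_rc_18_1 lc_e_rc_27_5 lc_e_rc_9_3 lc_e_rc_27_5 lc_e_rc_18_1 lc_e_rc_18_1 lc_e_rc_27_1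 lc_e_rc_27_1 lc_e_rc_13_3 lc_e_rc_4_3 lc_e_rc_16_5 lc_e_rc_4_1 lc_e_rc_18_1 lc_e_rc_19_0 lc_e_rc_27_1 lc_e_rc_13_1 lc_e_rc_9_1 lc_e_rc_27_5 lc_e_rc_27_1 lc_e_rc_18_1) (@D3.rec (fun _ => (Cert rels S Gen.e)) lc_e_rc_9_3 lc_e_rc_18_1 lc_e_rc_9_3 lc_e_rc_13_3 lc_e_rc_13_1 lc_e_rc_16_3 lc_e_rc_27_5 lc_e_rc_9_3 lc_e_rc_18_1 lc_e_rc_19_4 lc_e_rc_18_1 lc_e_rc_13_3 lc_e_rc_16_3 lc_e_rc_27_5 lc_e_rc_27_7 lc_e_rc_13_3 lc_e_rc_9_3 lc_e_rc_9_3 lc_e_rc_18_1 lc_e_rc_18_1 lc_e_rc_16_5 lc_e_rc_18_1 lc_e_rc_16_1 lc_e_rc_19_2 lc_e_rc_16_1 lc_e_rc_18_1 lc_e_rc_13_1 lc_e_rc_18_1 lc_e_rc_9_3 lc_e_rc_16_3 lc_e_rc_18_1 lc_e_rc_9_3 lc_e_rc_19_4 lc_e_rc_9_3 lc_e_rc_18_1 lc_e_rc_18_1 lc_e_rc_27_7 lc_e_rc_27_1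 lc_e_rc_13_3 lc_e_rc_13_3 lc_e_rc_18_1 lc_e_rc_9_3 lc_e_rc_13_3 lc_e_rc_9_3 lc_e_rc_16_3 lc_e_rc_19_2 lc_e_rc_18_1 lc_e_rc_13_1 lc_e_rc_27_5 lc_e_rc_16_1 lc_e_rc_9_3 lc_e_rc_18_1 lc_e_rc_13_3 lc_e_rc_9_1 lc_e_rc_9_3 lc_e_rc_16_3 lc_e_rc_16_1 lc_e_rc_18_1 lc_e_rc_19_0 lc_e_rc_27_1 lc_e_rc_27_1 lc_e_rc_13_3) (@D3.rec (fun _ => (Cert rels S Gen.e)) lc_e_rc_9_3 lc_e_rc_16_5 lc_e_rc_27_1 lc_e_rc_16_3 lc_e_rc_13_3 lc_e_rc_27_1 lc_e_rc_18_1 lc_e_rc_9_3 lc_e_rc_13_3 lc_e_rc_13_1 lc_e_rc_16_1 lc_e_rc_27_7 lc_e_rc_16_1 lc_e_rc_9_3 lc_e_rc_16_5 lc_e_rc_16_3 lc_e_rc_27_1 lc_e_rc_16_1 lc_e_rc_19_2 lc_e_rc_18_1 lc_e_rc_13_3 lc_e_rc_9_1 lc_e_rc_19_0 lc_e_rc_18_1 lc_e_rc_13_3 lc_e_rc_18_1 lc_e_rc_18_1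 lc_e_rc_13_3 lc_e_rc_18_1 lc_e_rc_19_2 lc_e_rc_9_3 lc_e_rc_13_3 lc_e_rc_13_1 lc_e_rc_16_1 lc_e_rc_9_1 lc_e_rc_16_5 lc_e_rc_27_5 lc_e_rc_27_5 lc_e_rc_27_5 lc_e_rc_4_1 lc_e_rc_9_3 lc_e_rc_16_5 lc_e_rc_13_3 lc_e_rc_9_1 lc_e_rc_18_1 lc_e_rc_9_1 lc_e_rc_13_1 lc_e_rc_18_1 lc_e_rc_9_3 lc_e_rc_19_2 lc_e_rc_18_1 lc_e_rc_27_7 lc_e_rc_27_1 lc_e_rc_4_1 lc_e_rc_16_1 lc_e_rc_18_1 lc_e_rc_27_1 lc_e_rc_16_5 lc_e_rc_13_3 lc_e_rc_16_5 lc_e_rc_13_1 lc_e_rc_9_3) (@D3.rec (fun _ => (Cert rels S Gen.e)) lc_e_rc_4_3 lc_e_rc_16_1 lc_e_rc_18_1 lc_e_rc_18_1 lc_e_rc_27_5 lc_e_rc_18_1 lc_e_rc_13_3 lc_e_rc_9_3 lc_e_rc_13_1 lc_e_rc_18_1 lc_e_rc_9_3 lc_e_rc_9_3 lc_e_rc_19_4 lc_e_rc_18_1 lc_e_rc_18_1 lc_e_rc_27_1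 lc_e_rc_13_3 lc_e_rc_27_5 lc_e_rc_18_1 lc_e_rc_9_3 lc_e_rc_18_1 lc_e_rc_13_3 lc_e_rc_13_3 lc_e_rc_18_1 lc_e_rc_18_1 lc_e_rc_16_5 lc_e_rc_19_0 lc_e_rc_18_1 lc_e_rc_16_5 lc_e_rc_9_3 lc_e_rc_18_1 lc_e_rc_9_3 lc_e_rc_13_3 lc_e_rc_13_3 lc_e_rc_27_5 lc_e_rc_16_3 lc_e_rc_13_3 lc_e_rc_4_1 lc_e_rc_9_3 lc_e_rc_27_1 lc_e_rc_18_1 lc_e_rc_13_3 lc_e_rc_19_0 lc_e_rc_13_3 lc_e_rc_13_1 lc_e_rc_19_0 lc_e_rc_13_3 lc_e_rc_18_1 lc_e_rc_9_3 lc_e_rc_18_1 lc_e_rc_16_1 lc_e_rc_9_1 lc_e_rc_9_3 lc_e_rc_16_1 lc_e_rc_16_1 lc_e_rc_13_3 lc_e_rc_16_1 lc_e_rc_18_1 lc_e_rc_19_2 lc_e_rc_27_7 lc_e_rc_9_3 lc_e_rc_27_5) (@D3.rec (fun _ => (Cert rels S Gen.e)) lc_e_rc_19_2 lc_e_rc_16_3 lc_e_rc_18_1 lc_e_rc_18_1 lc_e_rc_27_1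 lc_e_rc_4_3 lc_e_rc_13_3 lc_e_rc_16_3 lc_e_rc_27_5 lc_e_rc_13_1 lc_e_rc_16_5 lc_e_rc_4_3 lc_e_rc_13_3 lc_e_rc_9_1 lc_e_rc_16_5 lc_e_rc_19_2 lc_e_rc_13_3 lc_e_rc_9_3 lc_e_rc_9_3 lc_e_rc_19_2 lc_e_rc_16_5 lc_e_rc_4_1 lc_e_rc_18_1 lc_e_rc_18_1 lc_e_rc_13_3 lc_e_rc_18_1 lc_e_rc_16_5 lc_e_rc_16_1 lc_e_rc_16_5 lc_e_rc_13_3 lc_e_rc_13_3 lc_e_rc_9_3 lc_e_rc_16_3 lc_e_rc_18_1 lc_e_rc_19_2 lc_e_rc_18_1 lc_e_rc_16_1 lc_e_rc_18_1 lc_e_rc_9_3 lc_e_rc_9_3 lc_e_rc_9_1 lc_e_rc_18_1 lc_e_rc_16_3 lc_e_rc_13_3 lc_e_rc_18_1 lc_e_rc_27_1 lc_e_rc_16_5 lc_e_rc_27_7 lc_e_rc_16_1 lc_e_rc_9_3 lc_e_rc_18_1 lc_e_rc_18_1 lc_e_rc_16_3 lc_e_rc_18_1 lc_e_rc_19_4 lc_e_rc_27_7 lc_e_rc_13_3 lc_e_rc_13_1 lc_e_rc_18_1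 lc_e_rc_18_1 lc_e_rc_18_1 lc_e_rc_13_3) (@D3.rec (fun _ => (Cert rels S Gen.e)) lc_e_rc_16_1 lc_e_rc_19_4 lc_e_rc_13_3 lc_e_rc_16_3 lc_e_rc_16_1 lc_e_rc_16_5 lc_e_rc_16_5 lc_e_rc_13_3 lc_e_rc_19_2 lc_e_rc_16_3 lc_e_rc_13_3 lc_e_rc_9_3 lc_e_rc_16_3 lc_e_rc_16_1 lc_e_rc_18_1 lc_e_rc_18_1 lc_e_rc_19_2 lc_e_rc_9_1 lc_e_rc_18_1 lc_e_rc_19_4 lc_e_rc_13_3 lc_e_rc_13_1 lc_e_rc_18_1 lc_e_rc_27_1 lc_e_rc_13_3 lc_e_rc_18_1 lc_e_rc_19_4 lc_e_rc_18_1 lc_e_rc_27_1 lc_e_rc_13_3 lc_e_rc_18_1 lc_e_Cert_tree lc_e_Cert_tree lc_e_rc_18_1 lc_e_rc_18_1 lc_e_rc_18_1 lc_e_rc_19_4 lc_e_rc_18_1 lc_e_rc_9_3 lc_e_rc_13_1 lc_e_rc_18_1 lc_e_rc_13_3 lc_e_rc_27_7 lc_e_rc_19_2 lc_e_rc_18_1 lc_e_rc_9_3 lc_e_rc_27_5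 lc_e_rc_18_1 lc_e_rc_18_1 lc_e_rc_13_3 lc_e_rc_27_5 lc_e_rc_13_3 lc_e_rc_18_1 lc_e_rc_18_1 lc_e_rc_19_2 lc_e_rc_4_1 lc_e_rc_16_5 lc_e_rc_16_5 lc_e_rc_16_1 lc_e_rc_27_7 lc_e_rc_13_3 lc_e_rc_9_3) (@D3.rec (fun _ => (Cert rels S Gen.e)) lc_e_rc_16_3 lc_e_rc_27_1 lc_e_rc_27_5 lc_e_rc_27_7 lc_e_rc_13_3 lc_e_rc_18_1 lc_e_rc_18_1 lc_e_rc_16_1 lc_e_rc_27_1 lc_e_rc_18_1 lc_e_rc_18_1 lc_e_rc_27_5 lc_e_rc_18_1 lc_e_rc_4_3 lc_e_rc_9_3 lc_e_rc_13_3 lc_e_rc_16_1 lc_e_rc_18_1 lc_e_rc_27_1 lc_e_rc_18_1 lc_e_rc_19_2 lc_e_rc_16_5 lc_e_rc_27_5 lc_e_rc_19_4 lc_e_rc_9_3 lc_e_rc_18_1 lc_e_rc_16_3 lc_e_rc_16_1 lc_e_rc_27_5 lc_e_rc_9_3 lc_e_rc_9_3 lc_e_rc_9_1 lc_e_rc_16_5 lc_e_rc_27_7 lc_e_rc_18_1 lc_e_rc_27_5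 lc_e_rc_4_3 lc_e_rc_27_1 lc_e_rc_4_1 lc_e_rc_18_1 lc_e_rc_9_1 lc_e_rc_9_3 lc_e_rc_16_5 lc_e_rc_19_4 lc_e_rc_13_3 lc_e_rc_9_3 lc_e_rc_13_3 lc_e_rc_13_3 lc_e_rc_18_1 lc_e_rc_19_4 lc_e_rc_18_1 lc_e_rc_16_5 lc_e_rc_27_5 lc_e_rc_18_1 lc_e_rc_18_1 lc_e_rc_19_2 lc_e_rc_18_1 lc_e_rc_13_3 lc_e_rc_9_3 lc_e_rc_27_7 lc_e_rc_4_1 lc_e_rc_27_7) (@D3.rec (fun _ => (Cert rels S Gen.e)) lc_e_rc_18_1 lc_e_rc_16_3 lc_e_rc_16_3 lc_e_rc_19_4 lc_e_rc_9_3 lc_e_rc_13_3 lc_e_rc_9_3 lc_e_rc_13_1 lc_e_rc_18_1 lc_e_rc_27_7 lc_e_rc_19_4 lc_e_rc_13_1 lc_e_rc_27_5 lc_e_rc_18_1 lc_e_rc_9_3 lc_e_rc_13_3 lc_e_rc_16_3 lc_e_rc_18_1 lc_e_rc_18_1 lc_e_rc_13_1 lc_e_rc_27_1 lc_e_rc_18_1 lc_e_rc_13_3 lc_e_rc_27_5 lc_e_rc_18_1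 lc_e_rc_16_5 lc_e_rc_27_7 lc_e_rc_13_1 lc_e_rc_18_1 lc_e_rc_13_3 lc_e_rc_16_5 lc_e_rc_27_5 lc_e_rc_16_5 lc_e_rc_13_3 lc_e_rc_18_1 lc_e_rc_18_1 lc_e_rc_18_1 lc_e_rc_13_3 lc_e_rc_27_7 lc_e_rc_18_1 lc_e_rc_13_3 lc_e_rc_13_3 lc_e_rc_27_5 lc_e_rc_18_1 lc_e_rc_13_3 lc_e_rc_19_2 lc_e_rc_16_3 lc_e_rc_9_3 lc_e_rc_13_3 lc_e_rc_18_1 lc_e_rc_18_1 lc_e_rc_18_1 lc_e_rc_18_1 lc_e_rc_16_3 lc_e_rc_27_7 lc_e_rc_9_3 lc_e_rc_4_3 lc_e_rc_18_1 lc_e_rc_13_3 lc_e_rc_18_1 lc_e_rc_4_3 lc_e_rc_16_5) (@D3.rec (fun _ => (Cert rels S Gen.e)) lc_e_rc_13_3 lc_e_rc_16_3 lc_e_Cert_tree lc_e_rc_16_1 lc_e_rc_18_1 lc_e_rc_9_3 lc_e_rc_27_7 lc_e_rc_16_5 lc_e_rc_18_1 lc_e_rc_16_5 lc_e_rc_13_3 lc_e_rc_18_1 lc_e_rc_19_2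 lc_e_rc_18_1 lc_e_rc_18_1 lc_e_rc_16_3 lc_e_rc_19_2 lc_e_rc_27_7 lc_e_rc_18_1 lc_e_rc_18_1 lc_e_rc_18_1 lc_e_rc_4_3 lc_e_rc_9_3 lc_e_rc_18_1 lc_e_rc_16_1 lc_e_rc_16_3 lc_e_rc_19_0 lc_e_rc_9_3 lc_e_rc_16_1 lc_e_rc_9_3 lc_e_rc_9_1 lc_e_rc_18_1 lc_e_rc_18_1 lc_e_rc_19_4 lc_e_rc_9_1 lc_e_rc_18_1 lc_e_rc_27_5 lc_e_rc_27_1 lc_e_rc_9_3 lc_e_rc_9_3 lc_e_rc_4_3 lc_e_rc_9_1 lc_e_rc_9_1 lc_e_rc_27_7 lc_e_rc_9_3 lc_e_rc_13_3 lc_e_rc_27_1 lc_e_rc_13_3 lc_e_rc_19_2 lc_e_rc_18_1 lc_e_rc_9_1 lc_e_rc_27_5 lc_e_rc_27_5 lc_e_rc_18_1 lc_e_rc_18_1 lc_e_rc_27_5 lc_e_rc_13_1 lc_e_rc_9_1 lc_e_rc_18_1 lc_e_rc_13_3 lc_e_rc_9_3 lc_e_rc_18_1) (@D3.rec (fun _ => (Cert rels S Gen.e)) lc_e_rc_9_3 lc_e_rc_9_3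 lc_e_rc_27_5 lc_e_rc_18_1 lc_e_rc_16_5 lc_e_rc_4_3 lc_e_rc_16_1 lc_e_rc_16_5 lc_e_rc_9_3 lc_e_rc_9_1 lc_e_rc_9_3 lc_e_rc_9_3 lc_e_rc_18_1 lc_e_rc_18_1 lc_e_rc_18_1 lc_e_rc_18_1 lc_e_rc_16_3 lc_e_rc_18_1 lc_e_rc_9_3 lc_e_rc_18_1 lc_e_rc_27_5 lc_e_rc_13_1 lc_e_rc_27_1 lc_e_rc_16_1 lc_e_rc_27_1 lc_e_rc_13_3 lc_e_rc_18_1 lc_e_rc_16_3 lc_e_rc_4_1 lc_e_rc_18_1 lc_e_rc_18_1 lc_e_rc_16_1 lc_e_rc_18_1 lc_e_rc_13_3 lc_e_rc_13_3 lc_e_rc_13_3 lc_e_rc_16_5 lc_e_rc_18_1 lc_e_rc_27_1 lc_e_rc_16_5 lc_e_rc_18_1 lc_e_rc_16_5 lc_e_rc_18_1 lc_e_rc_27_7 lc_e_rc_16_5 lc_e_rc_13_3 lc_e_rc_16_1 lc_e_rc_4_3 lc_e_rc_18_1 lc_e_rc_27_5 lc_e_rc_13_3 lc_e_rc_9_3 lc_e_rc_19_2 lc_e_rc_27_7 lc_e_rc_13_3 lc_e_rc_27_5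 lc_e_rc_27_5 lc_e_rc_4_3 lc_e_rc_18_1 lc_e_rc_9_3 lc_e_rc_18_1 lc_e_rc_9_3) (@D3.rec (fun _ => (Cert rels S Gen.e)) lc_e_rc_9_3 lc_e_rc_18_1 lc_e_rc_18_1 lc_e_rc_18_1 lc_e_rc_27_1 lc_e_rc_18_1 lc_e_rc_27_5 lc_e_rc_13_1 lc_e_rc_16_3 lc_e_rc_27_5 lc_e_rc_16_1 lc_e_rc_9_1 lc_e_rc_4_1 lc_e_rc_13_1 lc_e_rc_18_1 lc_e_rc_18_1 lc_e_rc_16_1 lc_e_rc_13_1 lc_e_rc_4_3 lc_e_rc_18_1 lc_e_rc_13_3 lc_e_rc_19_4 lc_e_rc_18_1 lc_e_rc_9_3 lc_e_rc_27_5 lc_e_rc_18_1 lc_e_rc_27_5 lc_e_rc_9_1 lc_e_rc_18_1 lc_e_rc_4_3 lc_e_rc_18_1 lc_e_rc_18_1 lc_e_rc_19_4 lc_e_rc_18_1 lc_e_rc_9_3 lc_e_rc_16_1 lc_e_rc_4_3 lc_e_rc_13_3 lc_e_rc_9_1 lc_e_rc_18_1 lc_e_rc_18_1 lc_e_rc_27_7 lc_e_rc_13_1 lc_e_rc_18_1 lc_e_rc_9_1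 lc_e_rc_13_1 lc_e_rc_16_5 lc_e_rc_19_4 lc_e_rc_18_1 lc_e_rc_27_7 lc_e_rc_19_2 lc_e_rc_27_1 lc_e_rc_18_1 lc_e_rc_19_2 lc_e_rc_18_1 lc_e_rc_9_1 lc_e_rc_13_3 lc_e_rc_4_3 lc_e_rc_4_3 lc_e_rc_13_1 lc_e_rc_19_2 lc_e_rc_18_1) (@D3.rec (fun _ => (Cert rels S Gen.e)) lc_e_rc_18_1 lc_e_rc_9_3 lc_e_rc_16_1 lc_e_rc_18_1 lc_e_rc_18_1 lc_e_rc_18_1 lc_e_rc_27_5 lc_e_rc_18_1 lc_e_rc_27_5 lc_e_rc_13_3 lc_e_rc_27_5 lc_e_rc_18_1 lc_e_rc_9_3 lc_e_rc_27_1 lc_e_rc_13_3 lc_e_rc_27_5 lc_e_rc_18_1 lc_e_rc_9_3 lc_e_rc_18_1 lc_e_rc_27_1 lc_e_rc_18_1 lc_e_rc_18_1 lc_e_rc_18_1 lc_e_rc_16_1 lc_e_rc_18_1 lc_e_rc_18_1 lc_e_rc_16_5 lc_e_rc_18_1 lc_e_rc_16_1 lc_e_rc_16_5 lc_e_rc_27_5 lc_e_rc_18_1 lc_e_rc_18_1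 lc_e_rc_16_3 lc_e_rc_13_3 lc_e_rc_13_3 lc_e_rc_13_3 lc_e_rc_16_5 lc_e_rc_13_1 lc_e_rc_18_1 lc_e_rc_9_1 lc_e_rc_18_1 lc_e_rc_18_1 lc_e_rc_27_1 lc_e_rc_13_3 lc_e_rc_13_3 lc_e_rc_18_1 lc_e_rc_27_1 lc_e_rc_18_1 lc_e_rc_9_3 lc_e_rc_18_1 lc_e_rc_27_5 lc_e_rc_9_3 lc_e_rc_18_1 lc_e_rc_9_1 lc_e_rc_18_1 lc_e_rc_16_1 lc_e_rc_19_2 lc_e_rc_18_1 lc_e_rc_4_3 lc_e_rc_19_4 lc_e_rc_18_1) (@D3.rec (fun _ => (Cert rels S Gen.e)) lc_e_rc_9_1 lc_e_rc_19_4 lc_e_rc_9_3 lc_e_rc_18_1 lc_e_rc_13_1 lc_e_rc_4_3 lc_e_rc_9_3 lc_e_rc_13_3 lc_e_rc_13_1 lc_e_rc_9_3 lc_e_rc_13_3 lc_e_rc_27_7 lc_e_rc_16_5 lc_e_rc_13_1 lc_e_rc_27_5 lc_e_rc_18_1 lc_e_rc_18_1 lc_e_rc_13_3 lc_e_rc_19_4 lc_e_rc_16_3 lc_e_rc_16_3 lc_e_rc_13_3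 lc_e_rc_18_1 lc_e_Cert_tree lc_e_rc_18_1 lc_e_rc_16_5 lc_e_Cert_tree lc_e_rc_18_1 lc_e_rc_18_1 lc_e_rc_19_4 lc_e_rc_9_1 lc_e_rc_16_3 lc_e_rc_9_3 lc_e_rc_13_3 lc_e_rc_9_3 lc_e_rc_18_1 lc_e_rc_27_1 lc_e_rc_27_1 lc_e_rc_27_1 lc_e_rc_19_2 lc_e_rc_18_1 lc_e_rc_9_1 lc_e_rc_9_3 lc_e_rc_16_1 lc_e_rc_16_3 lc_e_rc_4_3 lc_e_rc_13_3 lc_e_rc_16_5 lc_e_rc_4_3 lc_e_rc_19_2 lc_e_rc_16_5 lc_e_rc_4_3 lc_e_rc_9_3 lc_e_rc_13_3 lc_e_rc_16_3 lc_e_rc_9_1 lc_e_rc_27_1 lc_e_rc_4_3 lc_e_rc_9_1 lc_e_rc_16_3 lc_e_rc_9_1 lc_e_rc_13_1) (@D3.rec (fun _ => (Cert rels S Gen.e)) lc_e_rc_9_1 lc_e_rc_13_3 lc_e_rc_18_1 lc_e_rc_16_1 lc_e_rc_27_5 lc_e_rc_18_1 lc_e_rc_16_1 lc_e_rc_9_3 lc_e_rc_16_3 lc_e_rc_13_1 lc_e_rc_18_1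 lc_e_rc_19_2 lc_e_rc_13_3 lc_e_rc_13_3 lc_e_rc_13_3 lc_e_rc_18_1 lc_e_rc_27_5 lc_e_rc_18_1 lc_e_rc_27_5 lc_e_rc_16_1 lc_e_rc_18_1 lc_e_rc_13_1 lc_e_rc_9_1 lc_e_rc_16_1 lc_e_rc_16_5 lc_e_rc_9_1 lc_e_rc_16_5 lc_e_rc_4_3 lc_e_rc_9_3 lc_e_rc_9_3 lc_e_rc_19_4 lc_e_rc_18_1 lc_e_rc_19_2 lc_e_rc_19_2 lc_e_rc_16_5 lc_e_rc_16_5 lc_e_rc_27_5 lc_e_rc_13_3 lc_e_rc_16_1 lc_e_rc_13_3 lc_e_rc_18_1 lc_e_rc_27_7 lc_e_rc_27_7 lc_e_rc_16_5 lc_e_rc_18_1 lc_e_rc_18_1 lc_e_rc_4_1 lc_e_rc_18_1 lc_e_rc_27_1 lc_e_rc_13_3 lc_e_rc_16_3 lc_e_rc_9_3 lc_e_Cert_tree lc_e_rc_18_1 lc_e_rc_18_1 lc_e_rc_27_5 lc_e_rc_16_3 lc_e_rc_18_1 lc_e_rc_13_3 lc_e_rc_18_1 lc_e_rc_13_3 lc_e_rc_13_1) (@D3.rec (fun _ => (Cert rels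 S Gen.e)) lc_e_rc_13_3 lc_e_rc_13_3 lc_e_rc_9_3 lc_e_rc_13_3 lc_e_rc_13_3 lc_e_rc_27_7 lc_e_rc_13_3 lc_e_rc_19_4 lc_e_rc_9_3 lc_e_rc_27_5 lc_e_rc_18_1 lc_e_rc_16_5 lc_e_rc_18_1 lc_e_rc_27_7 lc_e_rc_27_1 lc_e_rc_18_1 lc_e_rc_18_1 lc_e_rc_16_3 lc_e_rc_13_3 lc_e_rc_19_2 lc_e_rc_13_3 lc_e_rc_16_5 lc_e_rc_19_4 lc_e_rc_13_3 lc_e_rc_18_1 lc_e_rc_27_5 lc_e_rc_13_3 lc_e_rc_18_1 lc_e_rc_18_1 lc_e_rc_27_1 lc_e_rc_13_3 lc_e_rc_13_1 lc_e_rc_13_3 lc_e_rc_27_5 lc_e_rc_18_1 lc_e_rc_27_5 lc_e_rc_9_3 lc_e_rc_13_1 lc_e_rc_13_3 lc_e_rc_18_1 lc_e_rc_13_1 lc_e_rc_4_3 lc_e_rc_13_3 lc_e_rc_27_1 lc_e_rc_18_1 lc_e_rc_9_3 lc_e_rc_4_1 lc_e_rc_19_2 lc_e_rc_27_5 lc_e_rc_27_5 lc_e_rc_13_3 lc_e_rc_18_1 lc_e_rc_13_3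 lc_e_rc_18_1 lc_e_rc_13_1 lc_e_rc_13_3 lc_e_rc_18_1 lc_e_rc_9_3 lc_e_rc_19_2 lc_e_rc_13_3 lc_e_rc_27_7 lc_e_rc_27_1) (@D3.rec (fun _ => (Cert rels S Gen.e)) lc_e_rc_4_1 lc_e_rc_9_3 lc_e_rc_18_1 lc_e_rc_18_1 lc_e_rc_18_1 lc_e_rc_13_3 lc_e_rc_18_1 lc_e_rc_18_1 lc_e_rc_13_3 lc_e_rc_16_3 lc_e_rc_27_5 lc_e_rc_16_5 lc_e_rc_18_1 lc_e_rc_4_1 lc_e_rc_18_1 lc_e_rc_13_3 lc_e_rc_13_3 lc_e_rc_16_1 lc_e_rc_18_1 lc_e_rc_9_3 lc_e_rc_18_1 lc_e_rc_27_7 lc_e_rc_16_5 lc_e_rc_4_3 lc_e_rc_13_3 lc_e_rc_18_1 lc_e_rc_13_1 lc_e_rc_16_5 lc_e_rc_9_3 lc_e_rc_19_4 lc_e_rc_18_1 lc_e_rc_19_4 lc_e_rc_27_5 lc_e_rc_9_3 lc_e_rc_13_1 lc_e_rc_9_3 lc_e_rc_13_3 lc_e_rc_18_1 lc_e_rc_13_3 lc_e_rc_19_2 lc_e_rc_13_3 lc_e_rc_13_3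 lc_e_rc_19_0 lc_e_rc_4_3 lc_e_rc_18_1 lc_e_rc_18_1 lc_e_rc_18_1 lc_e_rc_19_2 lc_e_rc_27_5 lc_e_rc_9_3 lc_e_rc_19_2 lc_e_rc_18_1 lc_e_rc_9_1 lc_e_rc_18_1 lc_e_rc_9_3 lc_e_rc_18_1 lc_e_rc_9_3 lc_e_rc_9_3 lc_e_rc_13_3 lc_e_rc_18_1 lc_e_rc_4_3 lc_e_rc_18_1) (@D3.rec (fun _ => (Cert rels S Gen.e)) lc_e_rc_4_3 lc_e_rc_19_2 lc_e_rc_9_1 lc_e_rc_18_1 lc_e_rc_19_2 lc_e_rc_18_1 lc_e_rc_27_1 lc_e_rc_18_1 lc_e_rc_13_1 lc_e_rc_27_5 lc_e_rc_27_1 lc_e_rc_9_3 lc_e_rc_13_3 lc_e_rc_18_1 lc_e_rc_18_1 lc_e_rc_13_3 lc_e_rc_18_1 lc_e_rc_13_1 lc_e_rc_18_1 lc_e_rc_18_1 lc_e_rc_13_3 lc_e_rc_9_1 lc_e_rc_18_1 lc_e_rc_19_0 lc_e_rc_18_1 lc_e_rc_18_1 lc_e_rc_9_1 lc_e_rc_9_3 lc_e_rc_19_2 lc_e_rc_9_1 lc_e_rc_18_1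 lc_e_rc_16_5 lc_e_rc_18_1 lc_e_rc_27_7 lc_e_rc_9_1 lc_e_rc_16_5 lc_e_rc_19_4 lc_e_rc_13_1 lc_e_rc_16_3 lc_e_rc_18_1 lc_e_rc_18_1 lc_e_rc_19_4 lc_e_rc_9_3 lc_e_rc_27_5 lc_e_rc_9_3 lc_e_rc_27_1 lc_e_rc_13_3 lc_e_rc_18_1 lc_e_rc_27_7 lc_e_rc_16_5 lc_e_rc_9_3 lc_e_rc_16_5 lc_e_rc_18_1 lc_e_rc_18_1 lc_e_rc_18_1 lc_e_rc_13_1 lc_e_rc_9_1 lc_e_rc_4_3 lc_e_rc_16_5 lc_e_rc_16_3 lc_e_rc_27_7 lc_e_rc_13_3) (@D3.rec (fun _ => (Cert rels S Gen.e)) lc_e_rc_13_3 lc_e_rc_18_1 lc_e_rc_18_1 lc_e_rc_18_1 lc_e_rc_19_2 lc_e_rc_18_1 lc_e_rc_18_1 lc_e_rc_27_7 lc_e_rc_18_1 lc_e_rc_13_3 lc_e_rc_4_3 lc_e_rc_27_1 lc_e_rc_18_1 lc_e_rc_27_5 lc_e_rc_18_1 lc_e_rc_18_1 lc_e_rc_18_1 lc_e_rc_16_5 lc_e_rc_18_1 lc_e_rc_18_1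 lc_e_rc_27_1 lc_e_rc_4_3 lc_e_rc_9_1 lc_e_rc_16_5 lc_e_rc_18_1 lc_e_rc_16_5 lc_e_rc_4_3 lc_e_rc_16_1 lc_e_rc_18_1 lc_e_rc_16_5 lc_e_rc_16_3 lc_e_rc_9_3 lc_e_rc_18_1 lc_e_rc_9_3 lc_e_rc_9_3 lc_e_rc_18_1 lc_e_rc_13_3 lc_e_rc_4_3 lc_e_rc_13_3 lc_e_rc_9_3 lc_e_rc_9_3 lc_e_rc_18_1 lc_e_rc_18_1 lc_e_rc_18_1 lc_e_rc_18_1 lc_e_rc_18_1 lc_e_rc_9_3 lc_e_rc_18_1 lc_e_rc_18_1 lc_e_rc_16_5 lc_e_rc_13_3 lc_e_rc_18_1 lc_e_rc_9_3 lc_e_rc_18_1 lc_e_rc_16_5 lc_e_rc_13_1 lc_e_rc_18_1 lc_e_rc_27_7 lc_e_rc_13_3 lc_e_rc_27_1 lc_e_rc_13_3 lc_e_rc_18_1) (@D3.rec (fun _ => (Cert rels S Gen.e)) lc_e_rc_9_3 lc_e_rc_4_3 lc_e_rc_16_5 lc_e_rc_9_3 lc_e_rc_4_3 lc_e_rc_16_5 lc_e_rc_16_5 lc_e_rc_19_2 lc_e_rc_18_1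 lc_e_rc_13_3 lc_e_rc_16_3 lc_e_rc_27_5 lc_e_rc_18_1 lc_e_rc_9_1 lc_e_rc_16_5 lc_e_rc_13_3 lc_e_rc_4_1 lc_e_rc_16_5 lc_e_rc_13_1 lc_e_rc_9_3 lc_e_rc_16_3 lc_e_rc_13_3 lc_e_rc_16_5 lc_e_rc_18_1 lc_e_rc_18_1 lc_e_rc_9_3 lc_e_rc_9_3 lc_e_rc_18_1 lc_e_rc_16_5 lc_e_rc_13_3 lc_e_rc_16_5 lc_e_rc_27_1 lc_e_rc_4_1 lc_e_rc_18_1 lc_e_rc_18_1 lc_e_rc_27_5 lc_e_rc_18_1 lc_e_rc_18_1 lc_e_rc_9_3 lc_e_rc_18_1 lc_e_rc_13_1 lc_e_rc_27_1 lc_e_rc_9_3 lc_e_rc_27_5 lc_e_rc_9_1 lc_e_rc_13_3 lc_e_rc_27_1 lc_e_rc_13_1 lc_e_rc_13_3 lc_e_rc_16_5 lc_e_rc_9_3 lc_e_rc_18_1 lc_e_rc_9_3 lc_e_rc_13_3 lc_e_rc_13_3 lc_e_rc_16_3 lc_e_rc_16_1 lc_e_rc_27_5 lc_e_rc_18_1 lc_e_rc_27_5 lc_e_rc_27_5 lc_e_rc_27_1) (@D3.rec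 (fun _ => (Cert rels S Gen.e)) lc_e_rc_9_3 lc_e_rc_9_3 lc_e_rc_27_5 lc_e_rc_9_3 lc_e_rc_13_3 lc_e_rc_27_5 lc_e_rc_27_7 lc_e_rc_18_1 lc_e_rc_13_3 lc_e_rc_27_5 lc_e_rc_9_1 lc_e_rc_19_4 lc_e_rc_18_1 lc_e_rc_9_3 lc_e_rc_18_1 lc_e_rc_13_3 lc_e_rc_18_1 lc_e_rc_4_1 lc_e_rc_4_3 lc_e_rc_27_7 lc_e_rc_13_3 lc_e_rc_9_3 lc_e_rc_16_5 lc_e_rc_18_1 lc_e_rc_18_1 lc_e_rc_27_1 lc_e_rc_16_5 lc_e_rc_16_3 lc_e_rc_13_1 lc_e_rc_13_3 lc_e_rc_4_1 lc_e_rc_27_1 lc_e_rc_13_3 lc_e_rc_18_1 lc_e_rc_27_5 lc_e_rc_13_3 lc_e_rc_27_5 lc_e_rc_16_5 lc_e_rc_13_1 lc_e_rc_16_5 lc_e_rc_13_3 lc_e_rc_19_4 lc_e_rc_27_5 lc_e_rc_13_3 lc_e_rc_9_3 lc_e_rc_18_1 lc_e_rc_16_3 lc_e_rc_27_1 lc_e_rc_18_1 lc_e_rc_27_5 lc_e_rc_27_5 lc_e_rc_16_3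 lc_e_rc_18_1 lc_e_rc_27_7 lc_e_rc_18_1 lc_e_rc_18_1 lc_e_rc_16_3 lc_e_rc_16_3 lc_e_rc_18_1 lc_e_rc_18_1 lc_e_rc_18_1 lc_e_rc_13_1) (@D3.rec (fun _ => (Cert rels S Gen.e)) lc_e_rc_19_2 lc_e_rc_9_3 lc_e_rc_16_1 lc_e_rc_16_3 lc_e_rc_16_5 lc_e_rc_27_1 lc_e_rc_13_3 lc_e_rc_16_3 lc_e_rc_9_3 lc_e_rc_27_5 lc_e_rc_18_1 lc_e_rc_4_3 lc_e_rc_18_1 lc_e_rc_18_1 lc_e_rc_16_3 lc_e_rc_27_5 lc_e_rc_19_2 lc_e_rc_18_1 lc_e_rc_16_5 lc_e_rc_16_5 lc_e_rc_13_3 lc_e_rc_4_1 lc_e_rc_16_5 lc_e_rc_18_1 lc_e_rc_18_1 lc_e_rc_19_4 lc_e_rc_18_1 lc_e_rc_18_1 lc_e_rc_16_5 lc_e_rc_9_1 lc_e_rc_27_5 lc_e_rc_18_1 lc_e_rc_18_1 lc_e_rc_16_3 lc_e_rc_13_1 lc_e_rc_16_5 lc_e_rc_16_1 lc_e_rc_4_3 lc_e_rc_13_3 lc_e_rc_16_3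 lc_e_rc_9_1 lc_e_rc_27_5 lc_e_rc_16_1 lc_e_rc_18_1 lc_e_rc_9_3 lc_e_rc_13_3 lc_e_rc_13_3 lc_e_rc_16_5 lc_e_rc_18_1 lc_e_rc_13_1 lc_e_rc_13_1 lc_e_rc_16_3 lc_e_rc_16_5 lc_e_rc_27_5 lc_e_rc_27_7 lc_e_rc_16_5 lc_e_rc_16_1 lc_e_rc_18_1 lc_e_rc_13_3 lc_e_rc_18_1 lc_e_rc_9_3 lc_e_rc_18_1) (@D3.rec (fun _ => (Cert rels S Gen.e)) lc_e_rc_18_1 lc_e_rc_16_5 lc_e_rc_18_1 lc_e_rc_16_1 lc_e_rc_13_3 lc_e_rc_4_3 lc_e_rc_13_3 lc_e_rc_9_3 lc_e_rc_19_4 lc_e_rc_9_3 lc_e_rc_16_3 lc_e_rc_13_3 lc_e_rc_16_5 lc_e_rc_13_3 lc_e_rc_13_3 lc_e_rc_18_1 lc_e_rc_16_5 lc_e_rc_18_1 lc_e_rc_18_1 lc_e_rc_13_3 lc_e_rc_13_3 lc_e_rc_18_1 lc_e_rc_13_3 lc_e_rc_16_5 lc_e_rc_9_3 lc_e_rc_18_1 lc_e_rc_27_5 lc_e_rc_4_3 lc_e_rc_9_3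 lc_e_rc_27_1 lc_e_rc_18_1 lc_e_rc_16_5 lc_e_rc_16_1 lc_e_rc_13_3 lc_e_rc_9_3 lc_e_rc_16_5 lc_e_rc_13_3 lc_e_rc_9_1 lc_e_rc_27_7 lc_e_rc_4_3 lc_e_Cert_tree lc_e_rc_18_1 lc_e_rc_18_1 lc_e_rc_16_5 lc_e_rc_16_5 lc_e_rc_9_3 lc_e_rc_27_5 lc_e_rc_27_1 lc_e_rc_9_3 lc_e_rc_18_1 lc_e_rc_16_1 lc_e_rc_16_1 lc_e_rc_9_3 lc_e_rc_18_1 lc_e_rc_18_1 lc_e_rc_9_1 lc_e_rc_16_1 lc_e_rc_4_3 lc_e_rc_18_1 lc_e_rc_19_2 lc_e_rc_4_3 lc_e_rc_18_1)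
def ce_e : Pt → (Cert rels S Gen.e) := @Pt.rec (fun _ => (Cert rels S Gen.e)) (@D1.rec (fun _ => D2 → D3 → (Cert rels S Gen.e)) ce_e_0 ce_e_1 ce_e_2 ce_e_3 ce_e_4 ce_e_5 ce_e_6 ce_e_7 ce_e_8 ce_e_9 ce_e_10 ce_e_11 ce_e_12 ce_e_13 ce_e_14 ce_e_15 ce_e_16 ce_e_17 ce_e_18 ce_e_19 ce_e_20 ce_e_21 ce_e_22 ce_e_23 ce_e_24 ce_e_25 ce_e_26 ce_e_27 ce_e_28 ce_e_29 ce_e_30 ce_e_31 ce_e_32)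
def z3_e : D3 → Nat := fun _ => 0
def z2_e : D2 → D3 → Nat := fun _ _ => 0
def sd_e_0 : D2 → D3 → Nat := @D2.rec (fun _ => D3 → Nat) (@D3.rec (fun _ => Nat) 0 0 0 0 0 0 0 0 0 0 0 0 0 0 0 0 0 0 0 0 0 0 0 0 0 0 0 0 0 0 0 0 0 0 0 0 0 0 0 0 0 6 0 0 0 0 0 0 0 0 0 0 0 0 0 0 0 0 0 0 0 0) z3_e z3_e z3_e z3_e z3_e z3_e z3_e z3_e z3_e z3_e z3_e z3_e z3_e z3_e z3_e z3_e z3_e z3_e z3_e z3_e z3_e z3_e z3_e z3_e z3_e z3_e z3_e z3_e z3_e z3_e z3_e z3_e z3_e z3_e z3_e z3_e z3_e z3_e z3_e z3_e z3_e z3_e z3_e z3_e z3_e z3_e z3_e z3_e z3_e z3_e z3_e z3_e z3_e z3_e z3_e z3_e z3_e z3_e z3_e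
def sd_e_1 : D2 → D3 → Nat := @D2.rec (fun _ => D3 → Nat) z3_e z3_e z3_e z3_e z3_e z3_e z3_e z3_e z3_e z3_e z3_e z3_e z3_e z3_e z3_e z3_e z3_e z3_e z3_e z3_e z3_e z3_e z3_e z3_e z3_e z3_e z3_e z3_e z3_e z3_e z3_e z3_e z3_e z3_e z3_e z3_e z3_e z3_e z3_e z3_e z3_e z3_e z3_e z3_e (@D3.rec (fun _ => Nat) 0 0 0 0 0 0 0 0 0 0 0 0 0 36 0 0 0 0 0 0 0 0 0 0 0 0 0 0 0 0 0 0 0 0 0 0 0 0 0 0 0 0 0 0 0 0 0 0 0 0 0 0 0 0 0 0 0 0 0 0 0 0) z3_e z3_e z3_e z3_e z3_e z3_e z3_e z3_e z3_e z3_e z3_e z3_e z3_e z3_e z3_e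
def sd_e_3 : D2 → D3 → Nat := @D2.rec (fun _ => D3 → Nat) z3_e z3_e z3_e z3_e z3_e z3_e z3_e z3_e z3_e z3_e z3_e z3_e z3_e z3_e z3_e z3_e z3_e z3_e z3_e z3_e z3_e z3_e z3_e z3_e z3_e z3_e z3_e z3_e z3_e z3_e z3_e (@D3.rec (fun _ => Nat) 0 0 0 0 0 0 0 0 0 0 0 0 0 0 0 82 0 0 0 0 0 0 0 0 0 0 0 0 0 0 0 0 0 0 0 0 0 0 0 0 0 0 0 0 0 0 0 0 0 0 0 0 0 0 0 0 0 0 0 0 0 0) z3_e z3_e z3_e z3_e z3_e z3_e z3_e z3_e z3_e z3_e z3_e z3_e (@D3.rec (fun _ => Nat) 0 0 0 0 0 0 0 0 0 0 0 0 0 0 0 0 0 0 0 0 0 0 0 0 0 0 164 0 0 0 0 0 0 0 0 0 0 0 0 0 0 0 0 0 0 0 0 0 0 0 0 0 0 0 0 0 0 0 0 0 0 0) z3_e z3_e z3_e z3_e z3_e z3_e z3_e z3_e z3_e z3_e z3_e z3_e z3_e z3_e z3_e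
def sd_e_4 : D2 → D3 → Nat := @D2.rec (fun _ => D3 → Nat) z3_e z3_e z3_e z3_e z3_e z3_e z3_e z3_e z3_e z3_e z3_e z3_e z3_e z3_e z3_e z3_e z3_e z3_e z3_e z3_e z3_e z3_e z3_e z3_e z3_e z3_e z3_e z3_e z3_e z3_e z3_e z3_e z3_e z3_e z3_e z3_e z3_e z3_e z3_e z3_e z3_e z3_e (@D3.rec (fun _ => Nat) 0 0 0 254 0 0 0 0 0 370 0 0 0 0 0 0 0 0 0 0 0 0 0 0 0 0 0 0 0 0 0 0 0 0 0 0 0 0 0 0 0 0 0 0 0 0 0 0 0 0 0 0 0 0 0 0 0 0 0 0 0 0) z3_e z3_e z3_e z3_e z3_e z3_e z3_e z3_e z3_e z3_e z3_e z3_e z3_e z3_e z3_e z3_e z3_e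
def sd_e_5 : D2 → D3 → Nat := @D2.rec (fun _ => D3 → Nat) z3_e z3_e z3_e z3_e z3_e z3_e z3_e z3_e z3_e z3_e z3_e z3_e z3_e z3_e z3_e z3_e z3_e z3_e z3_e z3_e z3_e z3_e z3_e z3_e z3_e z3_e z3_e z3_e z3_e z3_e z3_e z3_e z3_e z3_e (@D3.rec (fun _ => Nat) 0 0 0 0 0 0 0 0 0 0 0 0 0 0 0 0 0 0 2745 0 0 0 0 0 0 0 0 0 0 0 0 0 0 0 0 0 0 0 0 0 0 0 0 0 0 0 0 0 0 0 0 0 0 0 0 0 0 0 0 0 0 0) z3_e z3_e z3_e z3_e z3_e z3_e z3_e z3_e z3_e z3_e z3_e z3_e z3_e z3_e z3_e z3_e (@D3.rec (fun _ => Nat) 0 0 0 0 0 0 0 0 0 0 0 0 0 0 0 0 0 0 0 0 0 0 0 0 0 0 0 0 0 0 0 0 0 0 0 0 0 0 0 0 0 0 0 0 0 0 0 0 0 0 0 0 0 0 527 0 0 0 0 0 0 0) z3_e z3_e z3_e z3_e z3_e z3_e z3_e z3_e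
def sd_e_6 : D2 → D3 → Nat := @D2.rec (fun _ => D3 → Nat) z3_e z3_e z3_e (@D3.rec (fun _ => Nat) 0 0 0 0 0 0 0 0 0 0 0 0 0 0 0 0 0 0 0 0 0 0 0 0 0 0 0 0 0 0 0 0 0 0 1047 0 0 0 0 0 0 0 0 0 0 0 0 0 0 0 0 0 0 0 0 0 0 0 0 0 0 0) z3_e z3_e z3_e z3_e z3_e z3_e z3_e (@D3.rec (fun _ => Nat) 0 0 0 0 0 0 0 0 0 0 0 0 0 0 0 0 0 0 0 0 0 0 0 0 0 0 0 0 0 0 0 0 0 578 0 0 0 0 0 0 0 0 0 0 0 0 0 0 0 0 0 0 0 0 0 0 0 0 0 0 0 0) (@D3.rec (fun _ => Nat) 0 0 0 275 0 0 0 0 0 0 0 0 0 0 0 0 0 0 0 0 0 0 0 0 0 0 0 0 0 0 0 0 0 0 0 0 0 0 0 0 0 0 0 0 0 0 0 0 0 0 0 0 0 0 0 0 0 0 0 0 0 0) z3_e z3_e z3_e z3_e z3_e z3_e z3_e z3_e z3_e z3_e (@D3.rec (fun _ => Nat) 0 0 0 0 0 0 0 0 0 0 0 0 0 0 0 0 1263 0 0 0 0 0 0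 0 0 0 0 0 0 0 0 0 0 0 0 0 0 0 0 0 0 0 0 0 0 0 0 0 0 0 0 0 0 0 0 0 0 0 0 0 0 0) z3_e z3_e z3_e z3_e z3_e (@D3.rec (fun _ => Nat) 0 0 0 0 0 0 0 0 0 0 0 0 0 0 0 0 0 0 0 0 0 0 0 0 0 0 0 0 0 0 0 0 0 0 0 0 0 0 0 0 0 0 0 0 0 0 0 0 0 0 0 0 0 0 0 0 0 0 1275 0 0 0) z3_e z3_e (@D3.rec (fun _ => Nat) 0 0 0 0 0 0 0 0 0 0 0 0 0 0 0 0 0 0 0 0 0 0 0 475 0 0 0 0 0 0 0 0 0 0 0 0 0 0 0 0 0 0 0 0 0 0 0 0 0 0 0 0 0 0 0 0 0 0 0 0 0 0) z3_e z3_e z3_e z3_e (@D3.rec (fun _ => Nat) 0 0 0 0 0 0 0 0 0 0 0 0 0 0 0 0 0 0 0 0 0 0 0 0 0 0 0 0 0 0 0 0 0 0 0 0 0 0 0 0 0 0 0 0 0 0 0 0 0 0 0 0 0 0 0 0 0 0 0 0 0 1092) z3_e z3_e z3_e z3_e (@D3.rec (fun _ => Nat) 0 0 0 0 0 0 0 0 0 0 0 0 0 0 0 0 0 0 0 0 0 0 0 0 0 0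 0 0 0 0 0 0 0 0 0 0 0 0 0 0 474 0 0 0 0 0 0 0 0 0 0 0 0 0 0 0 0 0 0 0 0 0) z3_e (@D3.rec (fun _ => Nat) 0 0 0 0 0 0 0 0 0 0 0 0 0 0 0 0 0 0 0 0 0 0 0 0 0 0 0 0 0 0 0 0 0 0 0 0 0 0 0 0 0 0 0 0 0 0 0 0 0 0 0 0 0 0 0 0 0 0 0 0 0 700) (@D3.rec (fun _ => Nat) 0 0 0 0 0 0 0 0 0 0 0 0 0 0 0 0 0 0 1464 0 0 0 0 0 0 0 0 0 0 0 0 0 0 0 0 0 0 0 0 0 0 0 0 0 0 0 0 0 0 0 0 0 0 0 0 0 0 0 0 0 0 0) (@D3.rec (fun _ => Nat) 0 0 0 0 0 0 0 0 0 0 0 0 0 0 0 0 0 0 1476 0 0 0 0 0 0 0 0 0 0 0 0 0 0 0 0 0 0 0 0 0 0 0 0 0 0 0 0 0 152 0 0 0 0 0 0 0 0 0 0 0 0 0) z3_e z3_e z3_e z3_e z3_e z3_e z3_e z3_e z3_e z3_e z3_e z3_e z3_e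
def sd_e_7 : D2 → D3 → Nat := @D2.rec (fun _ => D3 → Nat) z3_e z3_e z3_e z3_e (@D3.rec (fun _ => Nat) 0 0 0 0 0 0 0 0 0 0 0 0 0 0 393 0 0 0 0 0 0 0 0 0 0 0 0 0 0 0 0 0 0 0 0 0 0 0 0 0 0 0 0 0 0 0 0 0 0 0 0 0 0 0 0 0 0 0 0 0 0 0) z3_e z3_e z3_e z3_e z3_e z3_e z3_e z3_e z3_e z3_e z3_e z3_e z3_e z3_e z3_e z3_e z3_e (@D3.rec (fun _ => Nat) 0 0 0 0 0 0 0 0 0 0 0 0 200 0 0 0 0 0 0 0 0 0 0 0 0 0 0 0 0 0 0 0 0 0 0 0 0 0 0 0 0 0 0 0 0 0 0 0 0 0 0 0 0 0 0 0 0 0 0 0 0 0) z3_e z3_e z3_e z3_e z3_e z3_e z3_e z3_e z3_e z3_e z3_e z3_e z3_e z3_e z3_e z3_e z3_e z3_e z3_e z3_e z3_e z3_e z3_e z3_e z3_e z3_e z3_e z3_e z3_e z3_e z3_e z3_e z3_e z3_e z3_e z3_e z3_e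
def sd_e_8 : D2 → D3 → Nat := @D2.rec (fun _ => D3 → Nat) z3_e z3_e z3_e z3_e z3_e z3_e z3_e z3_e z3_e z3_e z3_e z3_e (@D3.rec (fun _ => Nat) 0 0 0 0 0 0 0 0 0 0 0 0 0 0 290 0 0 0 0 0 0 0 0 0 0 0 0 0 0 0 0 0 0 0 0 0 0 0 0 0 0 0 0 0 0 0 0 0 0 0 0 0 0 0 0 0 0 0 0 0 0 0) z3_e z3_e z3_e z3_e z3_e z3_e z3_e z3_e z3_e z3_e z3_e z3_e z3_e z3_e z3_e z3_e z3_e z3_e z3_e z3_e z3_e z3_e z3_e z3_e z3_e z3_e z3_e z3_e z3_e z3_e z3_e z3_e z3_e z3_e (@D3.rec (fun _ => Nat) 0 0 0 0 0 0 0 0 0 0 0 0 0 0 0 0 0 0 0 0 0 0 0 0 0 0 0 0 0 0 0 0 0 0 0 0 0 0 0 0 0 0 0 0 0 0 0 0 0 0 0 0 0 0 0 0 0 1133 0 0 0 0) z3_e z3_e z3_e (@D3.rec (fun _ => Nat) 0 0 0 0 0 0 0 0 0 0 0 0 629 0 0 0 0 0 0 0 0 0 0 0 0 0 0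 0 0 0 0 0 0 0 0 0 0 0 0 0 0 0 0 0 0 0 0 0 0 0 0 0 0 0 0 0 0 0 0 0 0 0) z3_e z3_e z3_e z3_e z3_e z3_e z3_e z3_e
def sd_e_9 : D2 → D3 → Nat := @D2.rec (fun _ => D3 → Nat) z3_e z3_e z3_e z3_e (@D3.rec (fun _ => Nat) 0 0 0 0 0 0 0 0 0 0 0 0 0 0 0 0 0 0 0 0 0 0 0 0 0 0 0 0 0 0 0 0 0 0 0 0 0 264 0 0 0 0 0 0 0 0 0 0 0 0 0 0 0 0 0 0 0 0 0 0 0 0) z3_e z3_e z3_e z3_e (@D3.rec (fun _ => Nat) 0 0 0 0 0 0 0 0 0 139 0 0 0 0 0 0 0 0 0 0 0 0 0 0 0 0 0 0 0 0 0 0 0 0 0 0 0 0 0 0 0 0 0 0 0 0 0 0 0 0 0 0 0 0 0 0 0 0 0 0 0 0) z3_e z3_e (@D3.rec (fun _ => Nat) 0 0 0 0 0 0 0 0 0 0 0 0 0 0 0 0 0 0 0 0 0 0 0 0 0 0 0 0 0 0 0 0 0 0 0 0 0 0 0 0 0 0 0 0 0 0 0 0 0 1463 0 0 0 0 0 0 0 0 0 0 0 0) (@D3.rec (fun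 _ => Nat) 0 0 0 0 0 0 0 0 0 0 0 0 0 0 0 0 0 0 2232 0 0 0 0 0 0 0 0 0 0 0 0 0 0 0 0 0 0 0 0 0 0 0 0 0 0 0 0 0 0 0 0 0 0 0 0 0 0 0 0 0 0 305) z3_e z3_e z3_e z3_e z3_e z3_e z3_e z3_e z3_e z3_e z3_e z3_e z3_e z3_e z3_e z3_e (@D3.rec (fun _ => Nat) 0 0 0 0 0 0 0 0 0 0 0 0 0 0 0 0 0 0 0 0 0 0 0 0 0 0 0 0 0 0 0 0 0 0 0 0 0 0 0 0 0 0 0 0 0 0 0 0 0 695 0 0 0 0 0 0 0 0 0 0 0 0) z3_e (@D3.rec (fun _ => Nat) 0 0 0 0 0 0 0 0 0 0 0 0 0 0 0 964 0 0 0 0 0 0 0 0 0 0 0 0 0 0 0 0 0 0 0 0 0 0 0 0 0 0 0 0 0 0 0 0 0 0 0 0 0 0 0 0 0 0 0 0 0 0) z3_e z3_e z3_e z3_e z3_e z3_e z3_e z3_e z3_e z3_e z3_e z3_e z3_e z3_e z3_e z3_e z3_e (@D3.rec (fun _ => Nat) 0 0 0 0 0 0 0 0 0 0 0 0 0 0 0 0 0 0 0 0 0 0 0 0 0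 0 0 0 0 0 0 0 0 0 0 0 0 0 0 0 0 0 0 0 0 0 0 0 0 0 0 0 0 0 0 971 0 0 0 0 0 0) z3_e z3_e z3_e z3_e z3_e z3_e z3_e z3_e z3_e
def sd_e_10 : D2 → D3 → Nat := @D2.rec (fun _ => D3 → Nat) z3_e z3_e (@D3.rec (fun _ => Nat) 0 0 0 0 0 0 0 0 0 0 0 0 0 0 0 0 0 0 0 0 0 0 0 0 0 0 0 0 0 0 0 0 0 0 0 0 0 0 0 0 0 590 0 0 0 0 831 0 0 0 0 0 0 0 0 0 0 0 0 0 0 0) z3_e (@D3.rec (fun _ => Nat) 0 0 0 0 0 0 0 0 0 0 0 0 0 0 0 0 0 0 0 0 0 0 0 0 0 0 0 0 0 0 0 0 0 0 0 0 0 0 0 0 0 0 0 0 0 1062 0 0 0 0 0 0 0 0 0 0 0 0 0 0 0 0) z3_e (@D3.rec (fun _ => Nat) 0 0 0 0 0 0 0 0 0 0 0 0 0 0 0 0 0 0 0 0 0 0 0 0 0 0 0 0 0 0 0 0 0 0 0 0 0 0 0 0 0 0 0 0 0 0 0 0 0 0 0 0 0 0 0 2588 0 0 0 0 0 0) z3_e z3_e z3_e (@D3.rec (fun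 _ => Nat) 0 0 0 0 0 0 0 0 0 0 0 0 0 0 0 0 0 0 0 0 0 0 0 0 0 0 0 0 0 0 0 0 0 0 0 0 0 0 0 0 0 2220 0 0 0 0 0 0 0 0 0 0 0 0 0 0 0 0 0 0 0 0) z3_e z3_e z3_e z3_e z3_e z3_e (@D3.rec (fun _ => Nat) 0 0 0 0 0 0 0 0 0 0 0 0 0 0 0 0 0 0 0 0 242 0 0 0 0 0 0 0 0 0 0 0 0 0 0 0 0 0 0 0 0 0 0 0 0 0 0 0 0 0 0 0 0 0 0 0 0 0 0 0 0 0) z3_e z3_e z3_e z3_e z3_e z3_e z3_e z3_e z3_e z3_e z3_e z3_e z3_e z3_e z3_e z3_e z3_e z3_e z3_e z3_e z3_e z3_e z3_e z3_e z3_e z3_e z3_e (@D3.rec (fun _ => Nat) 0 0 0 0 0 0 0 0 0 0 0 0 0 0 0 0 0 0 0 0 0 0 0 0 0 0 0 0 0 0 0 0 0 0 0 0 0 0 0 0 0 2628 0 0 0 0 0 0 0 0 0 0 0 0 0 0 0 0 0 0 0 0) z3_e z3_e z3_e z3_e z3_e z3_e z3_e z3_e z3_e z3_e z3_e z3_e z3_e z3_e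
def sd_e_11 : D2 → D3 → Nat := @D2.rec (fun _ => D3 → Nat) (@D3.rec (fun _ => Nat) 0 0 0 0 0 0 0 0 0 0 0 0 0 0 0 0 0 0 0 0 0 0 2587 0 0 0 0 0 0 0 0 0 0 0 0 0 0 0 0 0 0 0 0 0 0 0 0 0 0 0 0 0 0 0 0 0 0 0 0 0 0 0) z3_e z3_e z3_e z3_e z3_e z3_e (@D3.rec (fun _ => Nat) 0 0 0 0 0 0 0 0 0 0 0 0 0 0 0 0 0 0 0 0 0 0 0 0 0 0 0 0 0 0 0 0 0 0 0 0 0 0 0 0 0 0 0 0 0 0 0 0 0 0 0 0 0 0 0 0 0 0 0 0 282 0) z3_e z3_e z3_e (@D3.rec (fun _ => Nat) 0 0 0 0 0 0 0 0 0 0 0 0 0 0 0 0 904 0 0 0 0 0 0 0 0 0 0 0 0 0 0 0 0 0 0 0 0 0 0 0 0 0 0 0 0 0 0 0 0 0 0 0 0 0 0 0 0 0 0 0 0 0) z3_e z3_e z3_e z3_e z3_e z3_e z3_e z3_e z3_e (@D3.rec (fun _ => Nat) 0 0 0 0 0 0 0 0 0 0 932 0 0 0 0 0 0 0 0 0 0 0 0 0 0 0 0 0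 0 0 0 0 0 0 0 0 0 0 0 0 0 0 0 0 0 0 0 0 0 0 0 0 0 0 0 0 0 0 0 0 0 0) z3_e z3_e z3_e z3_e z3_e z3_e (@D3.rec (fun _ => Nat) 0 0 0 0 0 0 0 0 0 0 0 0 0 0 0 0 0 0 0 0 0 0 0 0 0 0 0 0 0 0 0 0 0 0 0 0 0 0 0 0 0 0 0 0 0 0 0 0 0 0 0 0 0 0 0 0 0 0 2011 0 0 0) z3_e (@D3.rec (fun _ => Nat) 0 0 0 0 0 0 0 0 0 0 0 0 0 0 0 0 0 0 0 0 0 0 0 0 0 0 0 0 0 0 0 0 0 0 0 0 0 0 0 0 0 0 0 0 0 0 0 0 0 0 0 0 0 0 0 803 0 0 0 0 0 0) (@D3.rec (fun _ => Nat) 0 0 0 0 0 0 0 0 0 0 0 0 0 0 0 0 0 0 0 0 0 0 0 0 0 0 0 0 0 814 0 0 0 0 0 0 0 0 0 0 0 0 0 0 0 0 0 0 0 0 0 0 0 0 0 0 0 0 0 0 0 0) z3_e z3_e z3_e z3_e z3_e z3_e z3_e z3_e (@D3.rec (fun _ => Nat) 0 0 0 0 0 0 0 0 0 0 0 0 0 0 0 0 0 0 0 0 0 1060 0 0 0 0 0 0 0 0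 0 0 0 0 0 0 0 0 0 0 0 0 0 0 0 0 0 0 0 0 0 0 0 0 0 0 0 0 0 0 0 0) z3_e z3_e z3_e z3_e z3_e (@D3.rec (fun _ => Nat) 0 0 0 0 0 0 0 0 0 0 0 0 0 0 0 0 0 0 0 0 0 0 0 0 0 0 0 0 0 0 0 0 0 0 0 0 0 0 0 0 0 0 0 2964 0 0 0 0 0 0 0 0 0 0 0 0 2362 0 0 0 0 0) (@D3.rec (fun _ => Nat) 0 0 0 0 0 0 0 0 0 0 0 0 0 0 0 0 0 0 0 0 0 0 0 0 0 0 0 0 0 0 2366 0 0 0 0 0 0 0 0 0 0 0 0 0 0 0 0 0 0 0 0 0 0 0 0 0 0 0 0 0 0 0) (@D3.rec (fun _ => Nat) 0 0 0 0 0 0 0 0 0 0 0 0 0 0 0 0 0 0 0 1207 0 0 0 0 0 0 0 0 0 0 0 0 0 0 0 0 0 0 0 0 0 0 0 0 0 0 0 0 0 0 0 0 0 0 0 0 0 0 0 0 0 0) z3_e z3_e z3_e z3_e z3_e z3_e z3_e z3_e z3_e (@D3.rec (fun _ => Nat) 0 0 0 0 0 0 0 0 0 2590 0 0 0 0 0 0 0 0 0 0 0 0 0 0 0 0 0 0 0 0 0 0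 0 0 0 0 0 0 0 0 0 0 0 0 0 0 0 0 0 0 0 0 0 0 0 0 0 0 0 0 0 0) z3_e
def sd_e_12 : D2 → D3 → Nat := @D2.rec (fun _ => D3 → Nat) z3_e z3_e z3_e z3_e z3_e z3_e z3_e z3_e (@D3.rec (fun _ => Nat) 0 0 0 0 0 0 0 1137 0 0 0 0 0 0 0 0 0 0 0 0 0 0 0 0 0 0 0 0 0 0 0 0 0 0 0 0 0 0 0 0 0 0 0 0 0 0 0 0 0 0 0 0 0 0 0 0 0 0 0 0 0 0) z3_e z3_e (@D3.rec (fun _ => Nat) 0 0 0 0 0 0 0 0 0 0 0 0 0 0 0 0 0 313 0 0 0 0 0 0 0 0 0 0 0 0 0 0 0 0 0 0 0 0 0 0 0 0 0 0 0 0 0 0 0 0 0 0 0 0 0 0 0 0 0 0 0 0) z3_e z3_e z3_e z3_e z3_e z3_e z3_e z3_e z3_e (@D3.rec (fun _ => Nat) 0 0 0 0 0 0 0 0 0 0 0 0 0 0 0 0 0 0 0 0 0 1100 0 0 0 0 0 0 0 0 0 0 0 0 0 0 0 0 0 0 0 0 0 0 0 0 0 0 0 0 0 0 0 0 0 0 0 0 0 0 0 0) (@D3.rec (fun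 _ => Nat) 0 0 0 0 0 0 0 0 0 0 0 0 0 0 0 0 0 0 0 0 0 0 0 0 0 0 0 0 0 0 0 0 0 0 0 1201 0 0 0 0 0 0 0 0 0 0 0 0 0 0 0 0 0 0 0 0 0 0 0 0 0 0) z3_e (@D3.rec (fun _ => Nat) 0 0 0 0 0 0 0 0 0 0 0 0 0 0 0 0 0 0 0 0 0 0 0 0 0 0 0 0 0 0 0 0 0 0 0 0 0 0 0 0 0 0 0 0 0 0 0 0 0 0 0 0 0 0 0 0 0 0 0 1909 0 0) z3_e z3_e z3_e z3_e z3_e z3_e z3_e z3_e z3_e z3_e z3_e z3_e z3_e z3_e z3_e z3_e z3_e z3_e z3_e z3_e z3_e z3_e z3_e z3_e z3_e z3_e z3_e z3_e z3_e (@D3.rec (fun _ => Nat) 0 0 0 0 0 0 0 0 0 0 0 0 0 2959 0 0 0 636 0 0 0 0 0 0 0 0 0 0 0 0 0 0 0 0 0 0 0 0 0 0 0 0 0 0 0 0 0 0 0 0 0 0 0 0 0 0 0 0 0 0 0 0) (@D3.rec (fun _ => Nat) 0 0 0 0 0 0 0 0 0 0 0 0 0 0 0 0 0 0 0 0 0 0 0 0 0 0 0 0 0 0 0 0 0 0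 0 0 0 0 944 0 0 0 0 0 0 0 0 0 0 0 0 0 0 0 0 0 0 0 0 0 0 0) z3_e z3_e z3_e z3_e
def sd_e_13 : D2 → D3 → Nat := @D2.rec (fun _ => D3 → Nat) z3_e z3_e z3_e z3_e z3_e z3_e z3_e z3_e z3_e z3_e z3_e (@D3.rec (fun _ => Nat) 0 0 0 0 0 0 0 0 0 0 0 0 0 0 0 0 0 0 0 0 0 0 0 0 0 0 0 0 0 0 0 0 0 0 0 0 0 0 0 0 0 0 1902 0 0 0 0 1749 0 0 0 0 0 0 0 0 0 0 0 0 0 0) z3_e z3_e z3_e z3_e z3_e z3_e z3_e z3_e z3_e z3_e (@D3.rec (fun _ => Nat) 0 0 2027 0 0 0 0 0 0 0 0 0 0 0 0 0 0 0 0 0 0 0 0 0 0 0 0 0 0 0 0 0 0 0 0 0 0 0 0 0 0 0 0 0 0 0 0 0 0 0 0 0 0 0 0 0 0 0 0 0 0 0) (@D3.rec (fun _ => Nat) 0 0 0 0 0 0 0 0 0 0 0 0 0 0 0 0 0 0 0 0 0 0 0 0 0 0 0 0 0 0 0 0 0 0 0 0 0 0 0 0 0 0 0 0 0 0 493 0 0 0 0 0 0 0 0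 0 0 0 0 0 0 0) z3_e z3_e z3_e z3_e z3_e z3_e z3_e z3_e z3_e z3_e z3_e z3_e z3_e z3_e z3_e z3_e z3_e z3_e z3_e z3_e z3_e z3_e z3_e z3_e z3_e (@D3.rec (fun _ => Nat) 0 0 0 0 0 0 0 0 0 0 0 0 0 0 0 0 0 0 0 0 0 0 0 0 0 0 0 0 0 0 0 0 0 0 0 0 0 0 0 0 0 0 0 1614 0 0 0 0 0 0 0 0 0 0 0 0 0 0 0 0 0 0) z3_e z3_e z3_e z3_e z3_e z3_e z3_e z3_e z3_e z3_e
def sd_e_14 : D2 → D3 → Nat := @D2.rec (fun _ => D3 → Nat) z3_e z3_e z3_e z3_e z3_e z3_e z3_e z3_e z3_e z3_e z3_e (@D3.rec (fun _ => Nat) 0 0 0 0 0 0 0 593 0 0 0 0 0 0 0 0 0 0 0 0 0 0 0 0 0 0 0 0 0 0 0 0 0 0 0 0 0 0 0 0 0 0 0 0 0 0 0 0 0 0 0 0 0 0 0 0 0 0 0 0 0 0) z3_e (@D3.rec (fun _ => Nat) 0 0 0 0 0 0 0 0 0 0 0 0 0 0 0 0 0 0 0 0 0 0 0 0 0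 0 0 0 0 0 1545 0 0 0 0 0 0 0 0 0 0 0 0 0 0 0 0 0 0 0 0 0 0 0 0 0 0 0 0 0 0 0) z3_e z3_e z3_e z3_e (@D3.rec (fun _ => Nat) 0 0 0 0 0 0 0 0 0 0 0 0 0 0 0 0 0 0 0 0 0 0 0 0 0 0 0 0 0 0 0 0 0 0 1943 0 0 0 0 0 0 0 0 0 0 0 0 0 0 0 0 0 0 0 0 0 0 0 0 0 0 0) z3_e z3_e (@D3.rec (fun _ => Nat) 0 0 0 1720 0 0 0 0 0 0 0 0 0 0 0 0 0 0 0 0 0 0 0 0 0 0 0 0 0 0 0 0 0 0 0 0 0 0 0 0 0 0 0 0 0 0 0 0 0 0 0 0 0 0 0 0 0 0 0 0 0 0) z3_e z3_e (@D3.rec (fun _ => Nat) 0 0 0 0 0 0 0 0 0 0 0 0 1735 0 0 0 0 0 0 0 0 0 0 0 0 0 0 0 0 0 0 0 0 0 0 0 0 0 0 0 0 0 0 0 0 0 0 0 0 0 0 0 0 0 0 0 0 0 0 0 0 0) z3_e z3_e (@D3.rec (fun _ => Nat) 0 0 0 1741 0 0 0 0 0 0 0 0 0 0 0 0 0 0 0 0 0 0 0 0 0 0 0 0 0 0 0 0 0 0 0 0 0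 0 0 0 0 0 0 0 0 0 0 0 0 0 0 0 0 0 0 0 0 0 0 0 0 0) z3_e (@D3.rec (fun _ => Nat) 0 0 0 0 0 0 0 0 0 0 0 0 0 0 0 0 0 0 0 0 0 0 0 0 0 0 0 0 0 0 0 0 0 0 0 0 0 0 0 0 0 1748 0 0 0 0 0 0 0 0 0 0 0 0 0 0 0 0 0 0 0 0) (@D3.rec (fun _ => Nat) 0 0 0 0 0 0 0 0 0 0 1778 0 0 0 0 0 0 0 0 0 0 0 0 0 0 0 0 0 0 0 0 0 0 0 0 0 0 0 0 0 0 0 0 0 0 0 0 0 0 0 0 0 0 0 0 0 0 0 0 0 0 0) (@D3.rec (fun _ => Nat) 0 0 0 0 0 0 0 0 0 0 0 0 0 0 0 0 0 0 0 0 0 0 0 0 0 0 0 0 0 0 0 0 0 0 0 0 0 0 0 0 0 0 1758 0 0 0 0 0 0 0 0 0 0 0 0 0 0 0 0 0 0 0) z3_e z3_e z3_e z3_e z3_e (@D3.rec (fun _ => Nat) 0 0 0 0 0 0 0 0 0 0 0 0 0 0 0 0 0 0 0 0 0 0 0 0 0 0 0 0 0 0 0 2026 0 0 0 0 0 0 0 0 0 0 0 0 0 0 0 0 0 0 0 0 0 0 0 0 0 0 1667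 0 0 0) z3_e (@D3.rec (fun _ => Nat) 0 0 0 0 0 0 0 0 0 0 0 0 0 0 0 0 0 0 0 0 0 0 0 499 0 0 0 0 0 0 0 0 0 0 0 0 0 0 0 0 0 0 494 0 0 0 0 0 0 0 0 0 0 0 0 0 0 0 0 0 0 0) z3_e z3_e z3_e z3_e z3_e z3_e z3_e z3_e (@D3.rec (fun _ => Nat) 0 0 0 0 0 1635 0 0 0 0 0 0 0 0 0 0 0 0 0 0 0 0 0 0 0 0 0 0 0 0 0 0 0 0 0 0 0 0 0 0 0 0 0 0 0 0 0 0 0 0 0 0 0 0 0 0 0 0 0 0 0 0) z3_e z3_e (@D3.rec (fun _ => Nat) 0 0 0 0 0 0 0 0 0 0 0 0 450 0 0 0 0 0 0 0 0 0 0 0 0 0 0 0 0 0 0 0 0 0 0 0 0 0 0 0 0 0 0 0 0 0 0 0 0 0 0 0 0 0 0 0 0 0 0 0 0 0) z3_e z3_e z3_e (@D3.rec (fun _ => Nat) 1828 0 0 0 0 0 0 0 0 0 0 0 0 0 0 0 0 0 0 0 0 0 0 0 0 0 0 0 0 0 0 0 0 0 0 0 0 0 0 0 0 0 0 0 0 0 0 0 0 0 0 0 0 0 0 0 0 0 0 0 0 0)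 z3_e z3_e z3_e z3_e
def sd_e_15 : D2 → D3 → Nat := @D2.rec (fun _ => D3 → Nat) z3_e z3_e z3_e z3_e z3_e z3_e z3_e z3_e (@D3.rec (fun _ => Nat) 0 0 0 0 0 0 0 0 0 0 0 0 0 0 0 0 0 0 0 0 0 0 0 0 0 0 0 0 0 0 0 0 0 0 0 0 0 0 0 0 0 0 0 0 0 0 0 0 2042 0 0 0 0 0 0 0 0 0 0 0 0 0) z3_e z3_e z3_e z3_e z3_e z3_e z3_e z3_e z3_e z3_e z3_e z3_e z3_e z3_e z3_e z3_e z3_e (@D3.rec (fun _ => Nat) 0 0 0 0 0 0 0 0 0 638 0 0 0 0 0 0 0 0 0 0 0 0 0 0 0 0 0 0 0 0 0 0 0 0 0 0 0 0 0 0 0 0 0 0 0 0 0 0 0 0 0 0 0 0 0 0 0 0 0 0 0 0) z3_e z3_e z3_e z3_e z3_e z3_e z3_e z3_e z3_e z3_e z3_e z3_e z3_e z3_e z3_e z3_e z3_e z3_e z3_e z3_e z3_e z3_e z3_e z3_e z3_e z3_e z3_e z3_e z3_e z3_e z3_e z3_e z3_e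
def sd_e_16 : D2 → D3 → Nat := @D2.rec (fun _ => D3 → Nat) z3_e z3_e z3_e z3_e z3_e z3_e z3_e z3_e z3_e z3_e z3_e z3_e z3_e z3_e z3_e z3_e z3_e z3_e z3_e z3_e z3_e z3_e z3_e z3_e z3_e z3_e z3_e z3_e z3_e z3_e z3_e z3_e z3_e z3_e z3_e z3_e z3_e z3_e z3_e z3_e z3_e z3_e z3_e z3_e z3_e z3_e z3_e z3_e z3_e (@D3.rec (fun _ => Nat) 0 0 0 0 0 0 0 0 0 0 0 0 0 0 0 0 0 0 0 0 0 0 0 0 0 0 0 0 0 0 0 0 0 0 0 0 0 0 0 0 0 0 0 0 0 0 0 0 0 0 2179 0 0 0 0 0 0 0 0 0 0 0) z3_e z3_e z3_e (@D3.rec (fun _ => Nat) 0 0 0 0 0 0 0 0 0 0 0 0 0 0 0 0 0 2996 0 0 0 0 0 0 0 0 0 0 0 0 0 0 0 0 0 0 0 0 0 0 0 0 0 0 0 0 0 0 0 0 0 0 0 0 0 0 0 0 0 0 0 0) z3_e z3_e z3_e (@D3.rec (fun _ => Nat) 0 0 0 0 0 0 0 0 0 3071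 0 0 0 0 0 0 0 0 0 0 0 0 0 0 0 0 0 530 0 0 0 0 0 0 0 0 0 0 0 0 0 0 0 0 0 0 0 0 0 0 0 0 0 0 0 0 0 0 0 0 0 0) z3_e z3_e
def sd_e_17 : D2 → D3 → Nat := @D2.rec (fun _ => D3 → Nat) (@D3.rec (fun _ => Nat) 0 0 0 0 0 0 0 0 0 0 2477 0 0 0 0 0 0 0 0 0 0 0 0 0 0 0 0 0 0 0 0 0 0 0 0 0 0 0 0 0 0 0 0 0 0 0 0 0 0 0 0 0 0 0 0 0 0 0 0 0 0 0) (@D3.rec (fun _ => Nat) 0 0 0 0 0 0 0 0 0 0 0 0 0 0 0 0 0 0 0 0 0 0 0 0 0 0 0 0 0 0 0 0 0 0 0 0 0 2263 0 0 0 0 0 0 0 0 0 0 0 0 0 0 0 0 0 0 0 0 0 0 0 0) z3_e z3_e z3_e z3_e z3_e z3_e (@D3.rec (fun _ => Nat) 0 0 0 0 0 0 0 0 0 0 0 0 0 0 0 0 0 0 0 0 0 0 0 2805 0 0 0 0 0 0 0 0 0 0 0 0 0 0 0 0 0 0 0 0 0 0 0 0 0 0 0 0 0 0 0 0 0 0 0 0 0 0) z3_e z3_e z3_e z3_e z3_e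 z3_e z3_e z3_e z3_e z3_e z3_e z3_e z3_e z3_e z3_e z3_e z3_e z3_e z3_e z3_e z3_e (@D3.rec (fun _ => Nat) 0 0 0 0 0 0 0 0 0 0 0 0 0 0 0 0 0 0 0 0 0 0 0 0 0 0 0 0 0 0 0 0 0 0 0 0 0 0 0 0 1418 0 0 0 0 0 0 0 0 0 0 0 0 0 0 0 0 0 0 0 0 0) z3_e z3_e (@D3.rec (fun _ => Nat) 0 0 0 0 0 0 0 0 2201 2200 0 0 0 0 0 0 0 0 0 0 0 0 0 0 0 0 0 0 0 0 0 0 0 0 0 0 0 0 0 0 0 0 0 0 0 0 0 0 0 0 0 0 0 0 0 0 0 0 0 0 0 0) z3_e z3_e z3_e z3_e z3_e z3_e z3_e z3_e z3_e z3_e z3_e z3_e z3_e z3_e z3_e z3_e z3_e z3_e z3_e z3_e z3_e z3_e z3_e z3_e z3_e z3_e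
def sd_e_18 : D2 → D3 → Nat := @D2.rec (fun _ => D3 → Nat) z3_e z3_e z3_e z3_e z3_e z3_e z3_e z3_e z3_e z3_e z3_e z3_e z3_e z3_e z3_e z3_e z3_e z3_e z3_e z3_e z3_e (@D3.rec (fun _ => Nat) 0 0 0 0 0 0 153 0 0 0 0 0 0 0 0 0 0 0 0 0 0 0 0 0 0 0 0 0 0 0 0 0 0 0 0 0 0 0 0 0 0 0 0 0 0 0 0 0 0 0 0 0 0 0 0 0 0 0 0 0 0 0) z3_e z3_e z3_e (@D3.rec (fun _ => Nat) 0 0 0 0 0 0 0 0 0 0 0 0 0 0 3043 0 0 0 0 0 0 0 0 0 0 0 0 0 0 0 0 0 0 0 0 0 0 0 0 0 0 0 0 0 0 0 0 0 0 0 0 0 0 0 0 0 0 0 0 0 0 0) z3_e z3_e z3_e z3_e z3_e z3_e z3_e z3_e z3_e z3_e z3_e z3_e z3_e z3_e z3_e z3_e z3_e z3_e z3_e z3_e z3_e z3_e z3_e z3_e z3_e z3_e z3_e z3_e z3_e z3_e z3_e z3_e z3_e z3_e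
def sd_e_20 : D2 → D3 → Nat := @D2.rec (fun _ => D3 → Nat) z3_e (@D3.rec (fun _ => Nat) 0 0 0 0 0 0 0 0 0 0 0 0 0 0 0 0 0 0 0 0 2418 0 0 0 0 0 0 0 0 0 0 0 0 0 0 0 0 0 0 0 2759 0 0 0 0 0 0 0 0 0 0 0 0 0 0 0 0 0 0 0 0 0) z3_e z3_e z3_e z3_e z3_e z3_e z3_e z3_e z3_e z3_e z3_e z3_e z3_e z3_e z3_e z3_e z3_e z3_e z3_e z3_e z3_e z3_e z3_e z3_e z3_e z3_e z3_e z3_e z3_e z3_e z3_e z3_e z3_e z3_e z3_e z3_e z3_e z3_e (@D3.rec (fun _ => Nat) 0 0 0 0 0 0 0 0 0 0 0 0 0 0 0 0 0 0 0 0 0 0 0 2983 0 0 0 0 0 0 0 0 0 0 0 0 0 0 0 0 0 0 0 0 0 0 0 0 0 0 0 0 0 0 0 0 0 0 0 0 0 0) z3_e z3_e z3_e z3_e z3_e z3_e z3_e z3_e (@D3.rec (fun _ => Nat) 0 0 0 0 0 0 0 0 0 0 0 0 0 0 0 0 0 0 0 0 0 0 0 0 0 0 0 0 0 0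 0 0 2841 0 0 0 0 2636 0 0 0 0 0 0 0 0 0 0 0 0 0 0 0 0 0 0 0 0 0 0 0 0) (@D3.rec (fun _ => Nat) 0 0 0 0 0 0 0 0 0 0 0 0 0 0 0 0 0 0 0 0 0 0 0 0 0 0 0 0 0 0 0 0 0 0 0 0 0 0 0 0 0 2900 0 0 0 0 0 0 0 0 0 0 0 0 0 0 0 0 0 0 0 0) z3_e z3_e z3_e z3_e z3_e z3_e z3_e z3_e z3_e
def sd_e_21 : D2 → D3 → Nat := @D2.rec (fun _ => D3 → Nat) z3_e z3_e z3_e z3_e z3_e z3_e z3_e z3_e z3_e z3_e z3_e (@D3.rec (fun _ => Nat) 0 0 0 0 0 0 0 0 0 0 0 0 0 0 0 3004 0 0 0 0 0 0 0 0 0 0 0 0 0 0 0 0 0 0 0 0 0 0 0 0 0 0 0 0 0 0 0 0 0 0 0 0 0 0 0 0 0 0 0 0 0 0) z3_e z3_e z3_e z3_e (@D3.rec (fun _ => Nat) 0 0 0 0 0 0 0 0 0 0 0 0 0 0 0 0 0 0 0 0 0 0 0 0 0 0 0 0 0 0 687 0 0 0 0 0 0 0 0 0 0 0 0 0 0 0 0 0 0 0 0 0 0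 0 0 0 0 0 0 0 0 0) z3_e z3_e z3_e z3_e z3_e z3_e z3_e z3_e z3_e z3_e z3_e z3_e z3_e z3_e z3_e z3_e z3_e z3_e z3_e z3_e z3_e z3_e z3_e z3_e z3_e z3_e z3_e z3_e z3_e z3_e z3_e z3_e z3_e z3_e z3_e z3_e z3_e z3_e z3_e z3_e z3_e (@D3.rec (fun _ => Nat) 0 1995 0 0 0 0 0 0 0 0 0 0 0 0 0 0 0 0 0 0 0 0 0 0 0 0 0 0 0 0 0 0 0 0 0 0 0 0 0 0 0 0 0 0 0 0 0 0 0 0 0 0 0 0 0 0 0 0 0 0 0 0) z3_e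
def sd_e_22 : D2 → D3 → Nat := @D2.rec (fun _ => D3 → Nat) z3_e z3_e z3_e z3_e z3_e z3_e z3_e z3_e z3_e z3_e z3_e z3_e z3_e z3_e z3_e z3_e z3_e z3_e z3_e z3_e z3_e z3_e z3_e z3_e z3_e z3_e z3_e z3_e z3_e z3_e z3_e z3_e z3_e z3_e z3_e z3_e z3_e z3_e z3_e z3_e z3_e z3_e z3_e z3_e z3_e z3_e z3_e z3_e z3_e z3_e z3_e z3_e z3_e z3_e (@D3.rec (fun _ => Nat) 0 0 0 0 0 0 0 0 0 0 0 0 0 0 0 0 0 0 0 0 0 0 0 0 0 0 0 0 0 0 0 0 0 0 0 0 0 0 0 0 0 0 0 1580 0 0 0 0 0 0 0 0 0 0 0 0 0 0 0 0 0 0) (@D3.rec (fun _ => Nat) 0 0 0 0 0 0 0 0 0 0 0 0 432 0 0 0 0 0 0 0 0 0 0 0 0 0 0 0 0 0 0 0 0 0 0 0 0 0 0 0 0 0 0 0 0 0 0 0 0 0 0 0 0 0 0 0 0 0 0 0 0 0) z3_e z3_e z3_e z3_e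
def sd_e_23 : D2 → D3 → Nat := @D2.rec (fun _ => D3 → Nat) (@D3.rec (fun _ => Nat) 0 0 0 0 0 0 0 0 0 0 0 0 0 0 0 0 0 0 0 0 0 0 0 0 0 0 0 0 0 0 0 0 0 0 0 0 0 0 0 0 0 0 0 0 0 0 0 0 0 0 0 0 0 0 0 0 0 0 0 0 1584 0) z3_e z3_e z3_e z3_e z3_e z3_e z3_e z3_e z3_e z3_e z3_e z3_e z3_e z3_e z3_e z3_e z3_e z3_e (@D3.rec (fun _ => Nat) 0 0 0 0 0 0 0 0 0 0 0 0 0 0 1764 0 0 0 0 0 0 0 0 0 0 0 0 0 0 0 0 0 0 0 0 0 0 0 0 0 0 0 0 0 0 0 0 0 0 0 0 0 0 0 0 0 0 0 0 0 0 0) z3_e z3_e z3_e z3_e z3_e z3_e z3_e z3_e z3_e z3_e z3_e z3_e z3_e z3_e z3_e z3_e z3_e z3_e z3_e z3_e z3_e z3_e z3_e (@D3.rec (fun _ => Nat) 0 0 0 0 0 0 0 0 0 0 0 0 0 0 0 0 0 0 0 1650 0 0 0 0 0 0 0 0 0 0 0 0 0 0 0 0 0 0 0 0 0 0 0 0 0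 0 0 0 0 0 0 0 0 0 0 0 0 0 0 0 0 0) z3_e z3_e z3_e z3_e z3_e z3_e z3_e z3_e z3_e z3_e (@D3.rec (fun _ => Nat) 0 0 0 0 0 0 0 0 0 0 0 0 0 0 0 0 0 0 0 0 0 0 0 0 0 0 1959 0 0 0 0 0 0 0 0 0 0 0 0 0 0 0 0 0 0 0 0 0 0 0 0 0 0 0 0 0 0 0 0 0 0 0) z3_e z3_e z3_e z3_e z3_e
def sd_e_24 : D2 → D3 → Nat := @D2.rec (fun _ => D3 → Nat) z3_e z3_e z3_e z3_e z3_e z3_e z3_e z3_e z3_e z3_e z3_e z3_e z3_e z3_e z3_e z3_e z3_e z3_e z3_e z3_e z3_e z3_e z3_e z3_e z3_e z3_e z3_e (@D3.rec (fun _ => Nat) 0 0 0 0 0 0 0 0 0 0 562 0 0 0 0 0 0 0 0 0 0 0 0 0 0 0 0 0 0 0 0 0 0 0 0 0 0 0 0 0 0 0 0 0 0 0 0 0 0 0 0 0 0 0 0 0 0 0 0 0 0 0) z3_e z3_e (@D3.rec (fun _ => Nat) 0 0 0 0 0 0 0 0 0 0 0 0 0 0 0 0 0 0 0 0 0 0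 0 0 0 0 0 0 0 0 0 0 0 0 0 0 0 0 0 0 250 0 0 0 0 0 0 0 0 0 0 0 0 0 0 0 0 0 0 0 0 0) z3_e z3_e z3_e z3_e z3_e z3_e z3_e z3_e z3_e (@D3.rec (fun _ => Nat) 0 0 0 0 0 0 0 0 0 0 0 0 0 0 0 0 0 0 0 400 0 0 0 0 0 0 0 0 0 0 0 0 0 0 0 0 0 0 0 0 0 0 0 0 0 0 0 0 0 0 0 0 0 0 0 0 0 0 0 0 0 0) (@D3.rec (fun _ => Nat) 0 0 0 0 0 0 0 0 0 0 0 0 0 0 0 0 0 0 0 0 0 0 0 0 0 0 0 0 0 0 0 0 0 0 0 0 0 0 0 0 0 0 0 0 0 0 0 0 0 0 0 0 0 0 0 0 0 0 0 0 0 1648) z3_e z3_e z3_e z3_e z3_e z3_e z3_e z3_e z3_e z3_e z3_e z3_e z3_e z3_e z3_e z3_e z3_e z3_e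
def sd_e_26 : D2 → D3 → Nat := @D2.rec (fun _ => D3 → Nat) z3_e z3_e z3_e z3_e z3_e z3_e z3_e z3_e z3_e z3_e z3_e z3_e z3_e z3_e z3_e z3_e z3_e z3_e z3_e z3_e z3_e z3_e z3_e z3_e z3_e z3_e z3_e z3_e (@D3.rec (fun _ => Nat) 0 0 0 0 0 0 0 0 0 0 0 0 0 0 0 0 0 0 0 0 0 0 0 0 0 0 0 0 0 0 0 0 0 0 0 0 0 0 0 0 0 127 0 0 0 0 0 0 0 0 0 0 0 0 0 0 0 0 0 0 0 0) z3_e z3_e z3_e z3_e z3_e z3_e z3_e z3_e z3_e (@D3.rec (fun _ => Nat) 0 0 0 0 0 0 0 0 0 0 0 0 0 0 0 0 0 0 0 0 0 0 0 0 0 0 0 0 0 0 0 0 0 0 0 0 0 0 0 0 0 0 0 0 0 0 0 0 0 0 0 0 0 0 0 0 2167 0 0 0 0 0) z3_e z3_e z3_e z3_e z3_e z3_e z3_e z3_e z3_e z3_e z3_e z3_e z3_e z3_e z3_e z3_e z3_e z3_e z3_e z3_e z3_e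
def sd_e_27 : D2 → D3 → Nat := @D2.rec (fun _ => D3 → Nat) z3_e z3_e z3_e z3_e z3_e z3_e z3_e z3_e z3_e z3_e z3_e z3_e (@D3.rec (fun _ => Nat) 0 0 0 0 0 0 0 0 0 0 0 0 0 0 0 0 0 0 0 0 0 0 2272 0 0 0 0 0 0 0 0 0 0 0 0 0 0 0 0 0 0 0 0 0 0 0 0 0 0 0 0 0 0 0 0 0 0 0 0 0 0 0) z3_e z3_e z3_e z3_e z3_e z3_e z3_e z3_e z3_e z3_e z3_e z3_e z3_e z3_e z3_e z3_e z3_e z3_e z3_e z3_e z3_e z3_e z3_e z3_e z3_e z3_e z3_e (@D3.rec (fun _ => Nat) 0 0 0 0 0 0 0 0 0 0 0 0 0 0 0 0 0 0 0 0 0 0 0 0 0 0 0 0 0 0 0 0 0 0 0 0 0 0 0 0 0 0 0 0 0 0 0 2412 0 0 0 0 0 0 0 0 0 0 0 0 0 0) z3_e z3_e z3_e z3_e z3_e z3_e z3_e z3_e z3_e z3_e z3_e z3_e z3_e z3_e z3_e z3_e z3_e z3_e z3_e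
def sd_e_30 : D2 → D3 → Nat := @D2.rec (fun _ => D3 → Nat) z3_e z3_e z3_e z3_e z3_e z3_e z3_e z3_e z3_e z3_e z3_e z3_e z3_e z3_e z3_e z3_e z3_e z3_e (@D3.rec (fun _ => Nat) 0 0 0 0 0 0 0 0 0 0 0 0 0 0 0 0 0 0 0 0 0 0 0 0 0 0 1675 0 0 0 0 0 0 0 0 0 0 0 0 0 0 0 0 0 0 0 0 0 0 0 0 0 0 0 0 0 0 0 0 0 0 0) z3_e z3_e z3_e z3_e (@D3.rec (fun _ => Nat) 0 0 0 0 0 0 0 0 0 0 0 0 0 0 0 0 0 0 0 0 0 0 0 0 0 0 0 0 0 0 0 0 0 0 0 0 0 0 0 0 0 0 0 0 0 0 0 0 0 0 0 0 0 0 0 0 0 0 0 1957 0 0) z3_e z3_e z3_e z3_e z3_e z3_e z3_e z3_e z3_e z3_e (@D3.rec (fun _ => Nat) 0 0 0 0 0 0 0 480 0 0 0 0 0 0 0 0 0 0 0 0 0 0 0 0 0 0 0 0 0 0 0 0 0 0 0 0 0 0 0 0 0 0 0 0 0 0 0 0 0 0 0 0 0 0 0 0 0 0 0 550 0 0) z3_e z3_e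 (@D3.rec (fun _ => Nat) 0 0 0 0 0 0 0 0 0 0 0 0 0 0 0 0 0 0 0 0 0 0 497 0 0 0 0 0 0 0 0 0 0 0 0 0 0 0 0 0 0 0 0 0 0 0 0 0 0 0 0 0 0 0 0 0 0 0 0 0 0 0) (@D3.rec (fun _ => Nat) 0 0 0 0 0 0 0 0 0 0 0 0 0 0 0 0 0 0 0 0 0 0 0 0 0 0 0 0 0 0 0 0 0 0 0 0 0 0 0 0 0 0 0 0 0 0 0 0 0 0 0 0 0 0 0 0 1945 0 0 0 0 0) z3_e z3_e z3_e (@D3.rec (fun _ => Nat) 0 0 0 0 0 0 0 0 0 0 0 0 0 0 0 0 0 0 0 0 0 0 0 569 0 0 0 0 0 0 0 0 0 0 0 0 0 0 0 0 0 0 0 0 0 0 0 0 0 0 0 0 0 0 0 0 0 0 0 0 0 0) (@D3.rec (fun _ => Nat) 0 0 0 0 0 0 0 0 0 0 0 0 0 0 1569 0 0 0 0 0 0 0 0 0 0 0 0 0 0 0 0 0 0 0 0 0 0 0 0 0 0 0 0 0 0 0 0 0 0 0 0 0 0 0 0 0 0 0 0 0 0 0) z3_e z3_e z3_e z3_e z3_e z3_e z3_e z3_e z3_e z3_e z3_e z3_e z3_e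 z3_e z3_e z3_e
def sd_e_32 : D2 → D3 → Nat := @D2.rec (fun _ => D3 → Nat) z3_e z3_e z3_e z3_e z3_e z3_e z3_e z3_e z3_e z3_e z3_e z3_e z3_e z3_e z3_e z3_e z3_e z3_e z3_e z3_e (@D3.rec (fun _ => Nat) 0 0 0 0 0 0 0 0 0 0 0 0 0 0 0 0 0 0 0 0 0 0 0 0 0 0 0 0 2350 0 0 0 0 0 0 0 0 0 0 0 0 0 0 0 0 0 0 0 0 0 0 0 0 0 0 0 0 0 0 0 0 0) z3_e z3_e z3_e z3_e z3_e z3_e z3_e z3_e z3_e z3_e z3_e z3_e z3_e z3_e z3_e z3_e z3_e z3_e z3_e z3_e z3_e z3_e z3_e z3_e z3_e z3_e z3_e z3_e z3_e z3_e z3_e z3_e z3_e z3_e z3_e z3_e z3_e z3_e z3_e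
def sd_e : Pt → Nat := @Pt.rec (fun _ => Nat) (@D1.rec (fun _ => D2 → D3 → Nat) sd_e_0 sd_e_1 z2_e sd_e_3 sd_e_4 sd_e_5 sd_e_6 sd_e_7 sd_e_8 sd_e_9 sd_e_10 sd_e_11 sd_e_12 sd_e_13 sd_e_14 sd_e_15 sd_e_16 sd_e_17 sd_e_18 z2_e sd_e_20 sd_e_21 sd_e_22 sd_e_23 sd_e_24 z2_e sd_e_26 sd_e_27 z2_e z2_e sd_e_30 z2_e sd_e_32)

end

end Cfsg.Agent.Helper28.S1692
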